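import Mathlib
import Cfsg.Agent.Lib.Co0Frame
import Cfsg.Agent.Lib.Co0Xi
import Cfsg.Agent.Lib.LeechCong

/-!
# The stabilizer of the class of a short vector has no normal elementary abelian subgroup modulo
its centre.
-/

set_option autoImplicit false

open Cfsg Cfsg.Agent.Lib.Leech Cfsg.Agent.Lib.Co0Mono Cfsg.Agent.S0398 Cfsg.Agent.Lib.Co0Frame
open Cfsg.Agent.Lib.Co0Xi

namespace Cfsg.Agent.Lib.Co0Stab2

open Cfsg.Agent.Lib.LeechFourForm (exists_four)
open Cfsg.Agent.Lib.M24Facts (exists_three)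

/-- A `p`-group normalizing a non-trivial `p`-group centralizes a non-trivial element of it. -/
theorem exists_fixed_comm {H : Type*} [Group H] [Finite H] {T W : Subgroup H} (hT : IsPGroup 2 T)
    (hW : IsPGroup 2 W) (hnorm : ∀ t ∈ T, ∀ w ∈ W, t * w * t⁻¹ ∈ W) (hne : W ≠ ⊥) :
    ∃ w ∈ W, w ≠ 1 ∧ ∀ t ∈ T, t * w = w * t := by
  classical
  have : Fact (Nat.Prime 2) := ⟨Nat.prime_two⟩
  letI act : MulAction T W :=
    { smul := fun t w => ⟨(t : H) * w * (t : H)⁻¹, hnorm _ t.2 _ w.2⟩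
      one_smul := by
        intro w
        apply Subtype.ext
        show ((1 : T) : H) * w * ((1 : T) : H)⁻¹ = w
        simp
      mul_smul := by
        intro a b w
        apply Subtype.ext
        show ((a * b : T) : H) * w * ((a * b : T) : H)⁻¹ = (a : H) * ((b : H) * w * (b : H)⁻¹) * (a : H)⁻¹
        push_cast
        group }
  have hsmul : ∀ (t : T) (w : W), ((t • w : W) : H) = (t : H) * w * (t : H)⁻¹ := fun _ _ => rfl
  have hnt : Nontrivial W := (Subgroup.nontrivial_iff_ne_bot W).mpr hne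
  have hdvd : 2 ∣ Nat.card W := by
    obtain ⟨n, hn0, hn⟩ := hW.nontrivial_iff_card.mp hnt
    exact hn.symm ▸ dvd_pow_self _ (ne_of_gt hn0)
  have h1 : (1 : W) ∈ MulAction.fixedPoints T W := by
    intro t
    apply Subtype.ext
    rw [hsmul]
    simp
  obtain ⟨b, hb, hne'⟩ := hT.exists_fixed_point_of_prime_dvd_card_of_fixed_point W hdvd h1
  refine ⟨b, b.2, ?_, ?_⟩
  · intro h
    exact hne' (Subtype.ext h.symm)
  · intro t ht
    have h2 := congrArg Subtype.val (hb ⟨t, ht⟩)
    rw [hsmul] at h2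
    calc t * (b : H) = t * b * t⁻¹ * t := by group
      _ = b * t := by rw [h2]

/-- The four points of the first tetrad. -/
abbrev t0 : GolayPt := tet 0 0
abbrev t1 : GolayPt := tet 0 1
abbrev t2 : GolayPt := tet 0 2
abbrev t3 : GolayPt := tet 0 3

/-- Explicit members of the code. -/
def O0 : Finset GolayPt := Cfsg.Agent.Lib.Golay.ofMask (2 ^ 0 + 2 ^ 1 + 2 ^ 2 + 2 ^ 3 + 2 ^ 13 + 2 ^ 18 + 2 ^ 20 + 2 ^ 21)
def O1 : Finset GolayPt := Cfsg.Agent.Lib.Golay.ofMask (2 ^ 13 + 2 ^ 18 + 2 ^ 20 + 2 ^ 21 + 2 ^ 5 + 2 ^ 14 + 2 ^ 17 + 2 ^ 23)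

theorem O0_mem : O0 ∈ codeSets := (Cfsg.Agent.Lib.Golay.ofMask_mem_supports_iff (by norm_num)).2 (by decide +kernel)
theorem O1_mem : O1 ∈ codeSets := (Cfsg.Agent.Lib.Golay.ofMask_mem_supports_iff (by norm_num)).2 (by decide +kernel)

theorem smul_image_mem {σ : Equiv.Perm GolayPt} (hσ : σ ∈ M24) {c : Finset GolayPt} (hc : c ∈ codeSets) :
    c.image σ ∈ codeSets := image_mem_codeSets hσ hc

theorem exists_sep3_aux {O : Finset GolayPt} (hO : O ∈ codeSets) {p q r : GolayPt} (hp : p ∈ O)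
    (hq : q ∈ O) (hr : r ∉ O) (hpq : p ≠ q) (hpr : p ≠ r) (hqr : q ≠ r)
    {a b k : GolayPt} (hab : a ≠ b) (hak : a ≠ k) (hbk : b ≠ k) :
    ∃ C ∈ codeSets, a ∈ C ∧ b ∈ C ∧ k ∉ C := by
  obtain ⟨g, h4, h5, h6⟩ := exists_three hpq hpr hqr hab hak hbk
  refine ⟨O.image g, smul_image_mem g.2 hO, ?_, ?_, ?_⟩
  · rw [← h4]; exact Finset.mem_image_of_mem _ hp
  · rw [← h5]; exact Finset.mem_image_of_mem _ hq
  · rw [← h6, Finset.mem_image]
    rintro ⟨x, hx, hxe⟩
    have := (g : Equiv.Perm GolayPt).injective hxe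
    exact hr (this ▸ hx)

theorem exists_sep3 {a b k : GolayPt} (hab : a ≠ b) (hak : a ≠ k) (hbk : b ≠ k) :
    ∃ C ∈ codeSets, a ∈ C ∧ b ∈ C ∧ k ∉ C :=
  exists_sep3_aux O0_mem (p := t0) (q := t1) (r := tet 5 0) (by decide +kernel) (by decide +kernel)
    (by decide +kernel) (by decide +kernel) (by decide +kernel) (by decide +kernel) hab hak hbk

theorem exists_sep4_aux {O : Finset GolayPt} (hO : O ∈ codeSets) {p q r t : GolayPt} (hp : p ∈ O)
    (hq : q ∉ O) (hr : r ∉ O) (ht : t ∉ O) (h1 : p ≠ q) (h2 : p ≠ r) (h3 : p ≠ t) (h4 : q ≠ r)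
    (h5 : q ≠ t) (h6 : r ≠ t)
    {k a b i : GolayPt} (hka : k ≠ a) (hkb : k ≠ b) (hki : k ≠ i) (hab : a ≠ b)
    (hai : a ≠ i) (hbi : b ≠ i) : ∃ C ∈ codeSets, k ∈ C ∧ a ∉ C ∧ b ∉ C ∧ i ∉ C := by
  obtain ⟨g, h4, h5, h6, h7⟩ := exists_four h1 h2 h3 h4 h5 h6 hka hkb hki hab hai hbi
  have hnot : ∀ {x : GolayPt}, x ∉ O → (g : Equiv.Perm GolayPt) x ∉ O.image g := by
    intro x hx
    rw [Finset.mem_image]
    rintro ⟨y, hy, hye⟩
    have := (g : Equiv.Perm GolayPt).injective hye
    exact hx (this ▸ hy)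
  refine ⟨O.image g, smul_image_mem g.2 hO, ?_, ?_, ?_, ?_⟩
  · rw [← h4]; exact Finset.mem_image_of_mem _ hp
  · rw [← h5]; exact hnot hq
  · rw [← h6]; exact hnot hr
  · rw [← h7]; exact hnot ht

theorem exists_sep4 {k a b i : GolayPt} (hka : k ≠ a) (hkb : k ≠ b) (hki : k ≠ i) (hab : a ≠ b)
    (hai : a ≠ i) (hbi : b ≠ i) : ∃ C ∈ codeSets, k ∈ C ∧ a ∉ C ∧ b ∉ C ∧ i ∉ C :=
  exists_sep4_aux O1_mem (p := tet 1 0) (q := t0) (r := t1) (t := t2) (by decide +kernel)
    (by decide +kernel) (by decide +kernel) (by decide +kernel) (by decide +kernel) (by decide +kernel)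
    (by decide +kernel) (by decide +kernel) (by decide +kernel) (by decide +kernel) hka hkb hki hab hai hbi

/-- For a point `k` other than `i`, and `i` outside `{a, b}`, some member of the code containing both
or none of `a, b` contains `k` but not `i`. -/
theorem exists_sep_pair {a b i k : GolayPt} (hab : a ≠ b) (hia : i ≠ a) (hib : i ≠ b) (hki : k ≠ i) :
    ∃ C ∈ codeSets, (a ∈ C ↔ b ∈ C) ∧ k ∈ C ∧ i ∉ C := by
  by_cases hka : k = a
  · subst hka
    obtain ⟨C, hC, h1, h2, h3⟩ := exists_sep3 hab hki (Ne.symm hib)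
    exact ⟨C, hC, by simp [h1, h2], h1, h3⟩
  by_cases hkb : k = b
  · subst hkb
    obtain ⟨C, hC, h1, h2, h3⟩ := exists_sep3 hab (Ne.symm hia) hki
    exact ⟨C, hC, by simp [h1, h2], h2, h3⟩
  obtain ⟨C, hC, h1, h2, h3, h4⟩ := exists_sep4 hka hkb hki hab (Ne.symm hia) (Ne.symm hib)
  exact ⟨C, hC, by simp [h2, h3], h1, h4⟩

/-- `4 e_{a} - 4 e_{b}`. -/
def uab (a b : GolayPt) : leechLattice := hw b a

theorem uab_apply (a b k : GolayPt) : (uab a b : GolayPt → ℤ) k =
    (if k = a then 4 else 0) - (if k = b then 4 else 0) := hw_apply b a k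

theorem neg_uab (a b : GolayPt) : -uab a b = uab b a := by
  apply Subtype.ext
  funext k
  show -(uab a b : GolayPt → ℤ) k = _
  rw [uab_apply, uab_apply]
  ring

theorem uab_ne_neg {a b : GolayPt} (hab : a ≠ b) (h : uab a b = -uab a b) : False := by
  have h1 := congrArg (fun v : leechLattice => (v : GolayPt → ℤ) a) h
  simp only [AddSubgroup.coe_neg, Pi.neg_apply, uab_apply, if_true, if_neg hab] at h1
  omega

theorem sqNorm_uab {a b : GolayPt} (hab : a ≠ b) : sqNorm (uab a b : GolayPt → ℤ) = 32 := by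
  unfold sqNorm
  have h1 : ∀ k, (uab a b : GolayPt → ℤ) k ^ 2 = (if k = a then 16 else 0) + (if k = b then 16 else 0) := by
    intro k
    rw [uab_apply]
    by_cases h2 : k = a
    · subst h2
      simp [hab]
    · by_cases h3 : k = b
      · subst h3
        simp [h2]
      · simp [h2, h3]
  simp only [h1, Finset.sum_add_distrib, Finset.sum_ite_eq', Finset.mem_univ, if_true]
  norm_num

/-- Auxiliary. -/
def x_aux (v : leechLattice) : leechLattice := v

/-- The sign changes preserving `± (4 e_a - 4 e_b)`. -/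
def PP (a b : GolayPt) : Subgroup Co0 where
  carrier := {y | ∃ (c : Finset GolayPt) (hc : c ∈ codeSets), (a ∈ c ↔ b ∈ c) ∧ y = eps hc}
  mul_mem' := by
    rintro _ _ ⟨c, hc, h1, rfl⟩ ⟨d, hd, h2, rfl⟩
    refine ⟨_, symmDiff_image_mem hc hd M24.one_mem, ?_, ?_⟩
    · simp only [inv_one, Equiv.Perm.coe_one, Finset.image_id, Finset.mem_symmDiff, h1, h2]
    · exact (monoCo0_mul hc hd M24.one_mem M24.one_mem).trans (monoCo0_congr _ _ _ _ rfl (one_mul 1))
  one_mem' := ⟨∅, empty_mem_codeSets, by simp, monoCo0_one.symm⟩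
  inv_mem' := by
    rintro _ ⟨c, hc, h1, rfl⟩
    refine ⟨_, image_mem_codeSets M24.one_mem hc, ?_, ?_⟩
    · simp only [Equiv.Perm.coe_one, Finset.image_id, h1]
    · exact (monoCo0_inv hc M24.one_mem).trans (monoCo0_congr _ _ _ _ rfl inv_one)

theorem eps_sq {c : Finset GolayPt} (hc : c ∈ codeSets) : (eps hc) ^ 2 = 1 := by
  apply monoCo0_ext
  intro v
  funext k
  show (if k ∈ c then -(if k ∈ c then -(v : GolayPt → ℤ) k else (v : GolayPt → ℤ) k) else
    (if k ∈ c then -(v : GolayPt → ℤ) k else (v : GolayPt → ℤ) k)) = (v : GolayPt → ℤ) k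
  by_cases h : k ∈ c <;> simp [h]

/-- The action of a sign change in `PP` on the class of `4 e_a - 4 e_b`. -/
theorem eps_uab {a b : GolayPt} {c : Finset GolayPt} (hc : c ∈ codeSets) (h : a ∈ c ↔ b ∈ c) :
    ((eps hc : Co0) : Equiv.Perm leechLattice) (uab a b) = uab a b ∨
    ((eps hc : Co0) : Equiv.Perm leechLattice) (uab a b) = -uab a b := by
  by_cases ha : a ∈ c
  · right
    apply Subtype.ext
    funext k
    show (((eps hc : Co0) : Equiv.Perm leechLattice) (uab a b) : GolayPt → ℤ) k = -(uab a b : GolayPt → ℤ) k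
    rw [eps_apply]
    rw [uab_apply]
    by_cases hk : k ∈ c
    · simp [hk]
    · have h1 : k ≠ a := fun e => hk (e ▸ ha)
      have h2 : k ≠ b := fun e => hk (e ▸ h.1 ha)
      simp [hk, h1, h2]
  · left
    apply Subtype.ext
    funext k
    rw [eps_apply]
    rw [uab_apply]
    by_cases hk : k ∈ c
    · have h1 : k ≠ a := fun e => ha (e ▸ hk)
      have h2 : k ≠ b := fun e => ha (h.2 (e ▸ hk))
      simp [hk, h1, h2]
    · simp [hk]

theorem cong_of_pm {v : leechLattice} {x : leechLattice} (h : x = v ∨ x = -v) :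
    ∃ u : leechLattice, x = v + (u + u) := by
  rcases h with rfl | rfl
  · exact ⟨0, by simp⟩
  · exact ⟨-v, by abel⟩

/-- Vectors of length `32` congruent modulo twice the lattice are equal up to sign. -/
theorem pm_of_cong {x v u : leechLattice} (hv : sqNorm (v : GolayPt → ℤ) = 32)
    (hx : sqNorm (x : GolayPt → ℤ) = 32) (h : x = v + (u + u)) : x = v ∨ x = -v := by
  have h1 : (x : GolayPt → ℤ) - v = 2 • (u : GolayPt → ℤ) := by
    rw [h]
    simp only [AddSubgroup.coe_add, two_nsmul]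
    abel
  rcases Cfsg.Agent.Lib.LeechCong.cong_main v.2 u.2 (by omega) (by omega) h1 with h2 | h2 | h2
  · exact Or.inl (Subtype.ext h2)
  · exact Or.inr (Subtype.ext h2)
  · omega

/-- An element commuting with the sign changes of `PP a b` is diagonal away from `a, b`. -/
theorem diag_of_comm {a b : GolayPt} (hab : a ≠ b) {y : Co0} (hy : ∀ ε ∈ PP a b, ε * y = y * ε)
    {i : GolayPt} (hia : i ≠ a) (hib : i ≠ b) :
    (y : Equiv.Perm leechLattice) (e8 i) = e8 i ∨ (y : Equiv.Perm leechLattice) (e8 i) = -e8 i := by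
  have h0 : ∀ k, k ≠ i → (((y : Equiv.Perm leechLattice) (e8 i) : leechLattice) : GolayPt → ℤ) k = 0 := by
    intro k hk
    obtain ⟨C, hC, h1, h2, h3⟩ := exists_sep_pair hab hia hib hk
    have h4 : eps hC ∈ PP a b := ⟨C, hC, h1, rfl⟩
    have h5 := hy _ h4
    have h6 : ((eps hC : Co0) : Equiv.Perm leechLattice) (e8 i) = e8 i := by
      apply Subtype.ext
      funext j
      rw [eps_apply, e8_apply]
      by_cases hj : j = i
      · subst hj
        simp [h3]
      · simp [hj]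
    have h7 := congrArg (fun g : Co0 => (((g : Equiv.Perm leechLattice) (e8 i) : leechLattice) : GolayPt → ℤ) k) h5
    simp only [Subgroup.coe_mul, Equiv.Perm.mul_apply, h6, eps_apply, if_pos h2] at h7
    omega
  have hn : sqNorm (((y : Equiv.Perm leechLattice) (e8 i) : leechLattice) : GolayPt → ℤ) = 64 := by
    rw [y.2.2, sqNorm_e8]
  have h3 : sqNorm (((y : Equiv.Perm leechLattice) (e8 i) : leechLattice) : GolayPt → ℤ) =
      (((y : Equiv.Perm leechLattice) (e8 i) : leechLattice) : GolayPt → ℤ) i ^ 2 := by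
    unfold sqNorm
    rw [Finset.sum_eq_single i]
    · intro k _ hk
      rw [h0 k hk]; simp
    · simp
  rw [hn] at h3
  have h4 : ((((y : Equiv.Perm leechLattice) (e8 i) : leechLattice) : GolayPt → ℤ) i - 8) *
      ((((y : Equiv.Perm leechLattice) (e8 i) : leechLattice) : GolayPt → ℤ) i + 8) = 0 := by
    nlinarith
  rcases mul_eq_zero.1 h4 with h5 | h5
  · left
    apply Subtype.ext
    funext k
    rw [e8_apply]
    by_cases hk : k = i
    · subst hk
      rw [if_pos rfl]
      omega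
    · rw [if_neg hk, h0 k hk]
  · right
    apply Subtype.ext
    funext k
    show _ = -(e8 i : GolayPt → ℤ) k
    rw [e8_apply]
    by_cases hk : k = i
    · subst hk
      rw [if_pos rfl]
      omega
    · rw [if_neg hk, h0 k hk]
      simp

/-- A transposition is not in `M24`. -/
theorem perm_eq_one_of_fix {a b : GolayPt} (hab : a ≠ b) {σ : Equiv.Perm GolayPt} (hσ : σ ∈ M24)
    (h : ∀ i, i ≠ a → i ≠ b → σ i = i) : σ = 1 := by
  have key : σ a = a := by
    by_contra h1
    have hb : σ a = b := by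
      by_contra h2
      have h3 := h (σ a) h1 h2
      exact h1 (σ.injective h3)
    have hb' : σ b = a := by
      by_contra h2
      by_cases h3 : σ b = b
      · exact hab (σ.injective (hb.trans h3.symm))
      · have h4 := h (σ b) h2 h3
        exact h3 (σ.injective h4)
    obtain ⟨C, hC, h1', h2'⟩ := exists_sep (i := b) (j := a) (Ne.symm hab)
    have h3 := symmDiff_mem_codeSets hC (image_mem_codeSets hσ hC)
    have h4 : symmDiff C (C.image σ) = {a, b} := by
      ext k
      simp only [Finset.mem_symmDiff, Finset.mem_image, Finset.mem_insert, Finset.mem_singleton]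
      by_cases hka : k = a
      · subst hka
        simp only [true_or, iff_true]
        left
        refine ⟨h1', ?_⟩
        rintro ⟨x, hx, hxe⟩
        have h5 : x = b := σ.injective (hxe.trans hb'.symm)
        exact h2' (h5 ▸ hx)
      by_cases hkb : k = b
      · subst hkb
        simp only [or_true, iff_true]
        right
        exact ⟨⟨a, h1', hb⟩, h2'⟩
      · have hk : ∀ x, σ x = k ↔ x = k := by
          intro x
          constructor
          · intro hxe
            have h5 : x ≠ a := by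
              rintro rfl
              exact hkb (hxe.symm.trans hb)
            have h6 : x ≠ b := by
              rintro rfl
              exact hka (hxe.symm.trans hb')
            rw [← hxe, h x h5 h6]
          · rintro rfl
            exact h x hka hkb
        simp only [hka, hkb, or_self, iff_false]
        simp [hk]
    rw [h4] at h3
    have h5 := four_dvd_card h3
    rw [Finset.card_pair hab] at h5
    omega
  have key2 : σ b = b := by
    by_contra h1
    by_cases h2 : σ b = a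
    · exact hab (σ.injective (key.trans h2.symm))
    · have h3 := h (σ b) h2 h1
      exact h1 (σ.injective h3)
  ext i
  by_cases h1 : i = a
  · rw [h1, key]; rfl
  by_cases h2 : i = b
  · rw [h2, key2]; rfl
  · rw [h i h1 h2]; rfl

/-- Coordinates on the first tetrad. -/
def v4 (a b c d : ℤ) : GolayPt → ℤ := fun p =>
  if p = t0 then a else if p = t1 then b else if p = t2 then c else if p = t3 then d else 0

theorem t_ne : t0 ≠ t1 ∧ t0 ≠ t2 ∧ t0 ≠ t3 ∧ t1 ≠ t2 ∧ t1 ≠ t3 ∧ t2 ≠ t3 := by decide +kernel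

theorem xi_step1 : ∀ p, xiF (v4 0 0 8 0) p = v4 (-4) (-4) 4 (-4) p := by decide +kernel
theorem xi_step2 : ∀ p, xiF (v4 (-4) (-4) (-4) (-4)) p = v4 4 4 4 4 p := by decide +kernel
theorem xi_step3 : ∀ p, xiF (v4 4 4 (-4) 4) p = v4 0 0 (-8) 0 p := by decide +kernel
theorem xi_fix : ∀ p, xiF (v4 4 (-4) 0 0) p = v4 4 (-4) 0 0 p := by decide +kernel

theorem v4_e8 : ∀ p, (if p = t2 then (8 : ℤ) else 0) = v4 0 0 8 0 p := by decide +kernel

theorem v4_uab : ∀ p, ((if p = t0 then (4 : ℤ) else 0) - (if p = t1 then 4 else 0)) = v4 4 (-4) 0 0 p := by decide +kernel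

theorem xi_uab : ((xi : Co0) : Equiv.Perm leechLattice) (uab t0 t1) = uab t0 t1 := by
  apply Subtype.ext
  rw [xi_apply]
  have h : (uab t0 t1 : GolayPt → ℤ) = v4 4 (-4) 0 0 := by
    funext p
    rw [uab_apply, v4_uab]
  rw [h]
  funext p
  exact xi_fix p

/-- Sign changes on the tetrad vectors. -/
theorem eps_v4 {c : Finset GolayPt} (hc : c ∈ codeSets) (h0 : t0 ∉ c) (h1 : t1 ∉ c) (h2 : t2 ∈ c)
    (h3 : t3 ∉ c) {v : leechLattice} {a b x d : ℤ} (hv : (v : GolayPt → ℤ) = v4 a b x d) :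
    (((eps hc : Co0) : Equiv.Perm leechLattice) v : GolayPt → ℤ) = v4 a b (-x) d := by
  obtain ⟨h01, h02, h03, h12, h13, h23⟩ := t_ne
  funext k
  rw [eps_apply, hv]
  by_cases k0 : k = t0
  · subst k0
    simp [h0, v4]
  by_cases k1 : k = t1
  · rw [k1]
    simp [h1, v4, h01.symm]
  by_cases k2 : k = t2
  · rw [k2]
    simp [h2, v4, h02.symm, h12.symm]
  by_cases k3 : k = t3
  · rw [k3]
    simp [h3, v4, h03.symm, h13.symm, h23.symm]
  · simp [v4, k0, k1, k2, k3]

/-- The commutator computation. -/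
theorem comm_not_center {c : Finset GolayPt} (hc : c ∈ codeSets) (h0 : t0 ∉ c) (h1 : t1 ∉ c) (h2 : t2 ∈ c)
    (h3 : t3 ∉ c) (hm : eps hc * (xi * eps hc * xi⁻¹) * (eps hc)⁻¹ * (xi * eps hc * xi⁻¹)⁻¹ ∈ Subgroup.center Co0) :
    False := by
  set α := eps hc with hα
  have hαα : α⁻¹ = α := by
    apply inv_eq_of_mul_eq_one_right
    rw [← pow_two]
    exact eps_sq hc
  have e1 : α * (xi * α * xi⁻¹) * α⁻¹ * (xi * α * xi⁻¹)⁻¹ = α * (xi * (α * (xi * (α * (xi * (α * xi)))))) := by
    rw [hαα, xi_inv]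
    simp only [mul_inv_rev, xi_inv, hαα, mul_assoc]
  rw [e1] at hm
  have v0 : ((e8 t2 : leechLattice) : GolayPt → ℤ) = v4 0 0 8 0 := by
    funext p
    rw [e8_apply, v4_e8]
  have hx : ∀ {v : leechLattice} {w : GolayPt → ℤ}, (v : GolayPt → ℤ) = w → ∀ {w' : GolayPt → ℤ}, (∀ p, xiF w p = w' p) →
      (((xi : Co0) : Equiv.Perm leechLattice) v : GolayPt → ℤ) = w' := by
    intro v w h w' h'
    rw [xi_apply, h]
    funext p
    exact h' p
  have s1 := hx v0 xi_step1
  have s2 := eps_v4 hc h0 h1 h2 h3 s1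
  have s3 := hx s2 xi_step2
  have s4 := eps_v4 hc h0 h1 h2 h3 s3
  have s5 := hx s4 xi_step3
  have s6 := eps_v4 hc h0 h1 h2 h3 s5
  have s7 := hx s6 xi_step1
  have s8 := eps_v4 hc h0 h1 h2 h3 s7
  have h4 : (((α * (xi * (α * (xi * (α * (xi * (α * xi)))))) : Co0) : Equiv.Perm leechLattice) (e8 t2) : GolayPt → ℤ) = v4 (-4) (-4) (-4) (-4) := s8
  have h5 := congrFun h4 t0
  have h6 : v4 (-4) (-4) (-4) (-4) t0 = -4 := by decide +kernel
  rw [h6] at h5
  rcases eq_one_or_neg _ hm with h7 | h7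
  · rw [h7] at h5
    have h8 : ((e8 t2 : leechLattice) : GolayPt → ℤ) t0 = -4 := h5
    rw [v0] at h8
    have h9 : v4 0 0 8 0 t0 = 0 := by decide +kernel
    omega
  · rw [h7] at h5
    have h8 : -((e8 t2 : leechLattice) : GolayPt → ℤ) t0 = -4 := h5
    rw [v0] at h8
    have h9 : v4 0 0 8 0 t0 = 0 := by decide +kernel
    omega

/-- The final contradiction. -/
theorem false_of_eps_mem {W : Subgroup Co0} (h : IsNEA W (uab t0 t1)) {c : Finset GolayPt}
    (hc : c ∈ codeSets) (hy : eps hc ∈ W) (h0 : t0 ∉ c) (h1 : t1 ∉ c) (hne : c ≠ ∅) : False := by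
  obtain ⟨h01, h02, h03, h12, h13, h23⟩ := t_ne
  obtain ⟨p, hp⟩ := Finset.nonempty_iff_ne_empty.2 hne
  have hd : ∃ d, d ∉ c ∧ d ≠ t0 ∧ d ≠ t1 := by
    by_contra hd
    have hd' : ∀ d, d ∉ c → d = t0 ∨ d = t1 := by
      intro d hdc
      by_contra h2
      apply hd
      refine ⟨d, hdc, ?_, ?_⟩
      · exact fun e => h2 (Or.inl e)
      · exact fun e => h2 (Or.inr e)
    have hsub : cᶜ ⊆ {t0, t1} := by
      intro d hdc
      rcases hd' d (Finset.mem_compl.1 hdc) with e | e <;> simp [e]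
    have h4 := four_dvd_card (compl_mem_codeSets hc)
    have h5 := Finset.card_le_card hsub
    rw [Finset.card_pair h01] at h5
    have h6 : 0 < cᶜ.card := Finset.card_pos.2 ⟨t0, Finset.mem_compl.2 h0⟩
    omega
  obtain ⟨d, hdc, hd0, hd1⟩ := hd
  have hp0 : p ≠ t0 := fun e => h0 (e ▸ hp)
  have hp1 : p ≠ t1 := fun e => h1 (e ▸ hp)
  have hpd : p ≠ d := fun e => hdc (e ▸ hp)
  obtain ⟨g, g0, g1, g2, g3⟩ := exists_four h01 h02 h03 h12 h13 h23 h01 hp0.symm hd0.symm hp1.symm hd1.symm hpd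
  set σ : Equiv.Perm GolayPt := (g : Equiv.Perm GolayPt) with hσ
  have hσM : σ ∈ M24 := g.2
  set m : Co0 := monoCo0 empty_mem_codeSets hσM with hm
  have hm_apply : ∀ (v : leechLattice) (k : GolayPt), (((m : Equiv.Perm leechLattice) v : leechLattice) : GolayPt → ℤ) k = (v : GolayPt → ℤ) (σ k) := by
    intro v k
    rw [hm, monoCo0_apply, mono_apply]
    simp
  have hmu : (m : Equiv.Perm leechLattice) (uab t0 t1) = uab t0 t1 := by
    apply Subtype.ext
    funext k
    rw [hm_apply, uab_apply, uab_apply]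
    have e0 : σ k = t0 ↔ k = t0 := by
      constructor
      · intro e
        exact σ.injective (e.trans g0.symm)
      · rintro rfl
        exact g0
    have e1 : σ k = t1 ↔ k = t1 := by
      constructor
      · intro e
        exact σ.injective (e.trans g1.symm)
      · rintro rfl
        exact g1
    simp only [e0, e1]
  have hW2 := h.conj m
  rw [hmu] at hW2
  set c₂ := c.image (σ⁻¹ : Equiv.Perm GolayPt) with hc₂
  have hc₂m : c₂ ∈ codeSets := image_mem_codeSets (M24.inv_mem hσM) hc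
  have hmemc₂ : ∀ k, k ∈ c₂ ↔ σ k ∈ c := by
    intro k
    rw [hc₂, Finset.mem_image]
    constructor
    · rintro ⟨a, ha, rfl⟩
      simpa using ha
    · intro hk
      exact ⟨σ k, hk, by simp⟩
  have hy2 : eps hc₂m ∈ W.map (MulAut.conj m).toMonoidHom := by
    refine ⟨eps hc, hy, ?_⟩
    apply monoCo0_ext
    intro v
    funext k
    show (((m * eps hc * m⁻¹ : Co0) : Equiv.Perm leechLattice) v : GolayPt → ℤ) k = _
    rw [eps_apply]
    have e1 : ((m * eps hc * m⁻¹ : Co0) : Equiv.Perm leechLattice) v = (m : Equiv.Perm leechLattice) (((eps hc : Co0) : Equiv.Perm leechLattice) ((m⁻¹ : Co0) • v)) := rfl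
    rw [e1, hm_apply]
    have e2 : (((m⁻¹ : Co0) • v : leechLattice) : GolayPt → ℤ) (σ k) = (v : GolayPt → ℤ) k := by
      have e3 := hm_apply ((m⁻¹ : Co0) • v) k
      have e4 : (m : Equiv.Perm leechLattice) ((m⁻¹ : Co0) • v) = v := by
        show ((m * m⁻¹ : Co0) : Equiv.Perm leechLattice) v = v
        rw [mul_inv_cancel]
        rfl
      rw [e4] at e3
      exact e3.symm
    have e5 : (((eps hc : Co0) : Equiv.Perm leechLattice) ((m⁻¹ : Co0) • v) : GolayPt → ℤ) (σ k) = _ := eps_apply hc _ (σ k)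
    refine e5.trans ?_
    rw [e2]
    simp only [hmemc₂]
  refine comm_not_center hc₂m ?_ ?_ ?_ ?_ (hW2.comm _ hy2 _ (hW2.norm xi ⟨0, ?_⟩ _ hy2))
  · rw [hmemc₂, g0]; exact h0
  · rw [hmemc₂, g1]; exact h1
  · rw [hmemc₂, g2]; exact hp
  · rw [hmemc₂, g3]; exact hdc
  · rw [xi_uab]
    simp

theorem isPGroup_of_sq {H : Type*} [Group H] {K : Subgroup H} (h : ∀ x ∈ K, x ^ 2 = 1) : IsPGroup 2 K :=
  fun x => ⟨1, Subtype.ext (by simpa using h x x.2)⟩

/-- The main theorem for the standard short vector. -/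
theorem IsNEA.le_center {W : Subgroup Co0} (h : IsNEA W (uab t0 t1)) (hZ : Subgroup.center Co0 ≤ W) :
    W ≤ Subgroup.center Co0 := by
  obtain ⟨h01, h02, h03, h12, h13, h23⟩ := t_ne
  by_contra hne
  obtain ⟨y₀, hy₀, hy₀Z⟩ := SetLike.not_le_iff_exists.1 hne
  set u := uab t0 t1 with hu
  have hnu : sqNorm (u : GolayPt → ℤ) = 32 := sqNorm_uab h01
  set mk := QuotientGroup.mk' (Subgroup.center Co0) with hmk
  have hmk1 : ∀ x : Co0, mk x = 1 ↔ x ∈ Subgroup.center Co0 := fun x => QuotientGroup.eq_one_iff x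
  have hfixP : ∀ ε ∈ PP t0 t1, (ε : Equiv.Perm leechLattice) u = u ∨ (ε : Equiv.Perm leechLattice) u = -u := by
    rintro _ ⟨c, hc, h1, rfl⟩
    exact eps_uab hc h1
  have hT : IsPGroup 2 ((PP t0 t1).map mk) := by
    apply isPGroup_of_sq
    rintro _ ⟨_, ⟨c, hc, -, rfl⟩, rfl⟩
    rw [← map_pow, eps_sq, map_one]
  have hW : IsPGroup 2 (W.map mk) := by
    apply isPGroup_of_sq
    rintro _ ⟨y, hy, rfl⟩
    rw [← map_pow, hmk1]
    exact h.sq y hy
  have hnorm : ∀ t ∈ (PP t0 t1).map mk, ∀ w ∈ W.map mk, t * w * t⁻¹ ∈ W.map mk := by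
    rintro _ ⟨ε, hε, rfl⟩ _ ⟨y, hy, rfl⟩
    refine ⟨ε * y * ε⁻¹, h.norm ε ?_ y hy, by simp⟩
    obtain ⟨v, hv⟩ := cong_of_pm (hfixP ε hε)
    exact ⟨v, hv⟩
  have hne' : W.map mk ≠ ⊥ := by
    intro hb
    have h1 : mk y₀ ∈ W.map mk := ⟨y₀, hy₀, rfl⟩
    rw [hb, Subgroup.mem_bot, hmk1] at h1
    exact hy₀Z h1
  obtain ⟨_, ⟨y, hy, rfl⟩, hw1, hw⟩ := exists_fixed_comm hT hW hnorm hne'
  have hyZ : y ∉ Subgroup.center Co0 := fun e => hw1 ((hmk1 y).2 e)
  have hyu : (y : Equiv.Perm leechLattice) u = u ∨ (y : Equiv.Perm leechLattice) u = -u := by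
    obtain ⟨v, hv⟩ := h.fix y hy
    exact pm_of_cong hnu (by rw [y.2.2, hnu]) hv
  have hcomm : ∀ ε ∈ PP t0 t1, ε * y = y * ε := by
    intro ε hε
    have h1 := hw (mk ε) ⟨ε, hε, rfl⟩
    have h2 : mk (ε * y * ε⁻¹ * y⁻¹) = 1 := by
      simp only [map_mul, map_inv, h1]
      group
    rcases eq_one_or_neg _ ((hmk1 _).1 h2) with h3 | h3
    · calc ε * y = (ε * y * ε⁻¹ * y⁻¹) * (y * ε) := by group
        _ = y * ε := by rw [h3, one_mul]
    · exfalso
      have h4 : ε * y = negCo0 * (y * ε) := by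
        rw [← h3]
        group
      have h5 := congrArg (fun g : Co0 => (g : Equiv.Perm leechLattice) u) h4
      have h6 : (ε : Equiv.Perm leechLattice) ((y : Equiv.Perm leechLattice) u) =
          -(y : Equiv.Perm leechLattice) ((ε : Equiv.Perm leechLattice) u) := h5
      have hn : u ≠ -u := fun e => uab_ne_neg h01 e
      rcases hyu with h7 | h7 <;> rcases hfixP ε hε with h8 | h8
      · rw [h7, h8, h7] at h6
        exact hn h6
      · rw [h7, h8, co0_neg, h7, neg_neg] at h6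
        exact hn h6.symm
      · rw [h7, co0_neg, h8, h7, neg_neg] at h6
        exact hn h6.symm
      · rw [h7, co0_neg, h8, neg_neg, co0_neg, h7, neg_neg] at h6
        exact hn h6
  -- `y` is monomial
  have h2d := diag_of_comm h01 hcomm (i := t2) h02.symm h12.symm
  obtain ⟨w, hw'⟩ := cong_of_pm h2d
  obtain ⟨c, σ, hc, hσ, rfl⟩ := exists_mono_of_cong hw'
  have hσ1 : σ = 1 := by
    apply perm_eq_one_of_fix h01 hσ
    intro i hi0 hi1
    have h3 := diag_of_comm h01 hcomm hi0 hi1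
    have h4 := monoCo0_e8 hc hσ i
    have key : σ⁻¹ i = i := by
      rcases h3 with h3 | h3 <;> rcases h4 with h4 | h4 <;> rw [h3] at h4
      · exact (e8_inj (congrArg Subtype.val h4)).symm
      · exact (e8_ne_neg (congrArg Subtype.val h4)).elim
      · exact (e8_ne_neg (by
          have := congrArg Subtype.val h4
          simpa using (neg_injective (by simpa using this)))).elim
      · exact (e8_inj (neg_injective (congrArg Subtype.val h4))).symm
    calc σ i = σ (σ⁻¹ i) := by rw [key]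
      _ = i := by simp
  subst hσ1
  -- the set of sign changes
  have hpair : t0 ∈ c ↔ t1 ∈ c := by
    have h3 : ∀ k, (((monoCo0 hc hσ : Co0) : Equiv.Perm leechLattice) u : GolayPt → ℤ) k = if k ∈ c then -(u : GolayPt → ℤ) k else (u : GolayPt → ℤ) k := fun k => rfl
    have h4 := h3 t0
    have h5 := h3 t1
    simp only [hu, uab_apply, if_true, if_neg h01, if_neg h01.symm] at h4 h5
    rw [← hu] at h4 h5
    rcases hyu with h6 | h6 <;> rw [h6] at h4 h5
    · simp only [hu, uab_apply, if_true, if_neg h01, if_neg h01.symm] at h4 h5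
      by_cases h7 : t0 ∈ c <;> by_cases h8 : t1 ∈ c <;> simp [h7, h8] at h4 h5 ⊢
    · have h4' : -(u : GolayPt → ℤ) t0 = _ := h4
      have h5' : -(u : GolayPt → ℤ) t1 = _ := h5
      simp only [hu, uab_apply, if_true, if_neg h01, if_neg h01.symm] at h4' h5'
      by_cases h7 : t0 ∈ c <;> by_cases h8 : t1 ∈ c <;> simp [h7, h8] at h4' h5' ⊢
  by_cases h0 : t0 ∈ c
  · -- pass to the complement
    have hcc := compl_mem_codeSets hc
    have hy2 : eps hcc ∈ W := by
      have h3 : eps hcc = negCo0 * monoCo0 hc hσ := by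
        apply monoCo0_ext
        intro v
        funext k
        show _ = -(((monoCo0 hc hσ : Co0) : Equiv.Perm leechLattice) v : GolayPt → ℤ) k
        rw [eps_apply]
        show _ = -(if k ∈ c then -(v : GolayPt → ℤ) k else (v : GolayPt → ℤ) k)
        by_cases h4 : k ∈ c <;> simp [h4]
      rw [h3]
      exact W.mul_mem (hZ neg_center) hy
    refine false_of_eps_mem h hcc hy2 (by simpa using h0) (by simpa using hpair.1 h0) ?_
    intro h3
    apply hyZ
    have h4 : c = Finset.univ := by simpa using h3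
    subst h4
    have h5 : monoCo0 hc hσ = negCo0 := by
      rw [neg_eq_monoCo0]
    rw [h5]
    exact neg_center
  · refine false_of_eps_mem h hc hy h0 (fun e => h0 (hpair.2 e)) ?_
    intro h3
    apply hyZ
    subst h3
    have h5 : monoCo0 hc hσ = 1 := monoCo0_one
    rw [h5]
    exact Subgroup.one_mem _

/-- The centre lies in any conjugate. -/
theorem center_le_map {W : Subgroup Co0} (hZ : Subgroup.center Co0 ≤ W) (g : Co0) :
    Subgroup.center Co0 ≤ W.map (MulAut.conj g).toMonoidHom := by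
  intro x hx
  refine ⟨x, hZ hx, ?_⟩
  have := Subgroup.mem_center_iff.1 hx g
  simp only [MulEquiv.coe_toMonoidHom, MulAut.conj_apply]
  rw [this]
  group

theorem le_center_of_map {W : Subgroup Co0} {g : Co0}
    (h : W.map (MulAut.conj g).toMonoidHom ≤ Subgroup.center Co0) : W ≤ Subgroup.center Co0 := by
  intro y hy
  have h1 := h ⟨y, hy, rfl⟩
  simp only [MulEquiv.coe_toMonoidHom, MulAut.conj_apply] at h1
  have h2 := Subgroup.Normal.conj_mem (inferInstance : (Subgroup.center Co0).Normal) _ h1 g⁻¹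
  have h3 : g⁻¹ * (g * y * g⁻¹) * g⁻¹⁻¹ = y := by group
  rwa [h3] at h2

/-- The main theorem for an arbitrary short vector in the orbit of the standard one. -/
theorem IsNEA.le_center_of {W : Subgroup Co0} {v : leechLattice} (h : IsNEA W v)
    (hZ : Subgroup.center Co0 ≤ W) (g : Co0)
    (hg : (g : Equiv.Perm leechLattice) v = uab t0 t1) : W ≤ Subgroup.center Co0 := by
  have h1 := h.conj g
  rw [hg] at h1
  exact le_center_of_map (IsNEA.le_center h1 (center_le_map hZ g))

end Cfsg.Agent.Lib.Co0Stab2
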