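import Mathlib
import Cfsg.Agent.Lib.Co0Stab2

/-!
# Transitivity of `Co0` on vectors of squared length 32, 48, and on the classes of those of length 64.

The element `xi` maps `(a, b, c, d)` on the first tetrad to `(a - S, b - S, c - S, d - S)` for
`2 S = a + b + c + d`; together with sign changes and `M24` it moves any four coordinates to the
first tetrad. A small tree of such moves brings every vector to a standard one.
-/

set_option autoImplicit false
set_option linter.unusedSimpArgs false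
set_option linter.unusedVariables false

open Cfsg Cfsg.Agent.Lib.Leech Cfsg.Agent.Lib.Co0Mono Cfsg.Agent.Lib.Co0Xi Cfsg.Agent.Lib.Co0Frame
open Cfsg.Agent.Lib.Co0Stab2 Cfsg.Agent.Lib.LeechFourForm Cfsg.Agent.S0398

namespace Cfsg.Agent.Lib.Co0Trans

/-- Code sets with prescribed membership of four points. -/
theorem exists_sign4 {a b c d : GolayPt} (hab : a ≠ b) (hac : a ≠ c) (had : a ≠ d) (hbc : b ≠ c)
    (hbd : b ≠ d) (hcd : c ≠ d) (Pa Pb Pc Pd : Prop) :
    ∃ C ∈ codeSets, (a ∈ C ↔ Pa) ∧ (b ∈ C ↔ Pb) ∧ (c ∈ C ↔ Pc) ∧ (d ∈ C ↔ Pd) := by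
  classical
  obtain ⟨Ca, hCa, a1, a2, a3, a4⟩ := exists_sep4 hab hac had hbc hbd hcd
  obtain ⟨Cb, hCb, b1, b2, b3, b4⟩ := exists_sep4 (Ne.symm hab) hbc hbd hac had hcd
  obtain ⟨Cc, hCc, c1, c2, c3, c4⟩ := exists_sep4 (Ne.symm hac) (Ne.symm hbc) hcd hab had hbd
  obtain ⟨Cd, hCd, d1, d2, d3, d4⟩ := exists_sep4 (Ne.symm had) (Ne.symm hbd) (Ne.symm hcd) hab hac hbc
  have hE := empty_mem_codeSets
  have hif : ∀ (P : Prop) [Decidable P] {D : Finset GolayPt}, D ∈ codeSets →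
      (if P then D else ∅) ∈ codeSets := by
    intro P _ D hD
    split_ifs
    · exact hD
    · exact hE
  refine ⟨symmDiff (symmDiff (symmDiff (if Pa then Ca else ∅) (if Pb then Cb else ∅))
    (if Pc then Cc else ∅)) (if Pd then Cd else ∅),
    symmDiff_mem_codeSets (symmDiff_mem_codeSets (symmDiff_mem_codeSets (hif _ hCa) (hif _ hCb))
      (hif _ hCc)) (hif _ hCd), ?_, ?_, ?_, ?_⟩ <;>
  by_cases h1 : Pa <;> by_cases h2 : Pb <;> by_cases h3 : Pc <;> by_cases h4 : Pd <;>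
    simp [Finset.mem_symmDiff, h1, h2, h3, h4, *]

/-- The basic move. -/
theorem exists_move (x : leechLattice) {a b c d : GolayPt} (hab : a ≠ b) (hac : a ≠ c) (had : a ≠ d)
    (hbc : b ≠ c) (hbd : b ≠ d) (hcd : c ≠ d) {a' b' c' d' S : ℤ}
    (ha : (x : GolayPt → ℤ) a ^ 2 = a' ^ 2) (hb : (x : GolayPt → ℤ) b ^ 2 = b' ^ 2)
    (hc : (x : GolayPt → ℤ) c ^ 2 = c' ^ 2) (hd : (x : GolayPt → ℤ) d ^ 2 = d' ^ 2)
    (hS : a' + b' + c' + d' = 2 * S) :
    ∃ g : Co0, ((g : Equiv.Perm leechLattice) x : GolayPt → ℤ) t0 = a' - S ∧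
      ((g : Equiv.Perm leechLattice) x : GolayPt → ℤ) t1 = b' - S ∧
      ((g : Equiv.Perm leechLattice) x : GolayPt → ℤ) t2 = c' - S ∧
      ((g : Equiv.Perm leechLattice) x : GolayPt → ℤ) t3 = d' - S := by
  classical
  obtain ⟨C, hC, h1, h2, h3, h4⟩ := exists_sign4 hab hac had hbc hbd hcd
    (a' ≠ (x : GolayPt → ℤ) a) (b' ≠ (x : GolayPt → ℤ) b) (c' ≠ (x : GolayPt → ℤ) c)
    (d' ≠ (x : GolayPt → ℤ) d)
  have t := t_ne
  obtain ⟨t01, t02, t03, t12, t13, t23⟩ := t
  obtain ⟨σ, s0, s1, s2, s3⟩ := exists_four t01 t02 t03 t12 t13 t23 hab hac had hbc hbd hcd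
  set y : leechLattice := ((monoCo0 empty_mem_codeSets σ.2 : Co0) : Equiv.Perm leechLattice)
    (((eps hC : Co0) : Equiv.Perm leechLattice) x) with hy
  have key : ∀ {p : GolayPt} {p' : ℤ}, (x : GolayPt → ℤ) p ^ 2 = p' ^ 2 →
      (p ∈ C ↔ p' ≠ (x : GolayPt → ℤ) p) →
      (if p ∈ C then -(x : GolayPt → ℤ) p else (x : GolayPt → ℤ) p) = p' := by
    intro p p' h5 h6
    split_ifs with h7
    · have h8 := h6.1 h7
      rcases sq_eq_sq_iff_eq_or_eq_neg.1 h5 with h9 | h9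
      · exact absurd h9.symm h8
      · linarith
    · have h8 : ¬ p' ≠ (x : GolayPt → ℤ) p := fun h => h7 (h6.2 h)
      push Not at h8
      exact h8.symm
  have hyv : ∀ {j : GolayPt} {p : GolayPt} {p' : ℤ}, (σ : Equiv.Perm GolayPt) j = p →
      (x : GolayPt → ℤ) p ^ 2 = p' ^ 2 → (p ∈ C ↔ p' ≠ (x : GolayPt → ℤ) p) →
      (y : GolayPt → ℤ) j = p' := by
    intro j p p' h5 h6 h7
    rw [hy, monoCo0_apply, mono_apply, if_neg (Finset.notMem_empty _), h5, eps_apply]
    exact key h6 h7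
  have y0 := hyv s0 ha h1
  have y1 := hyv s1 hb h2
  have y2 := hyv s2 hc h3
  have y3 := hyv s3 hd h4
  have hh : hs (y : GolayPt → ℤ) 0 = S := by
    unfold hs Cfsg.Agent.Lib.Co0Xi.tsum
    show ((y : GolayPt → ℤ) t0 + (y : GolayPt → ℤ) t1 + (y : GolayPt → ℤ) t2 + (y : GolayPt → ℤ) t3) / 2 = S
    rw [y0, y1, y2, y3, hS]
    simp
  have hz : ∀ j : Fin 4, (((xi : Co0) : Equiv.Perm leechLattice) y : GolayPt → ℤ) (tet 0 j) =
      (y : GolayPt → ℤ) (tet 0 j) - S := by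
    intro j
    rw [xi_apply, xiF_tet, hh]
    simp only [sgn, if_true]
    ring
  refine ⟨xi * monoCo0 empty_mem_codeSets σ.2 * eps hC, ?_, ?_, ?_, ?_⟩
  · exact (hz 0).trans (by rw [show (y : GolayPt → ℤ) (tet 0 0) = a' from y0])
  · exact (hz 1).trans (by rw [show (y : GolayPt → ℤ) (tet 0 1) = b' from y1])
  · exact (hz 2).trans (by rw [show (y : GolayPt → ℤ) (tet 0 2) = c' from y2])
  · exact (hz 3).trans (by rw [show (y : GolayPt → ℤ) (tet 0 3) = d' from y3])

/-! ### Counting coordinates by their squares -/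

/-- Number of coordinates of given square. -/
def cnt (x : GolayPt → ℤ) (v : ℤ) : ℕ := (Finset.univ.filter fun i => x i ^ 2 = v).card

theorem count_eq (x : GolayPt → ℤ) (V : Finset ℤ) (hV : ∀ i, x i ^ 2 ∈ V) (f : ℤ → ℤ) :
    ∑ i, f (x i ^ 2) = ∑ v ∈ V, (cnt x v : ℤ) * f v := by
  rw [← Finset.sum_fiberwise_of_maps_to (s := Finset.univ) (t := V) (g := fun i => x i ^ 2)
    (fun i _ => hV i)]
  apply Finset.sum_congr rfl
  intro v _
  rw [Finset.sum_congr rfl (g := fun _ => f v)]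
  · rw [Finset.sum_const, nsmul_eq_mul]
    rfl
  · intro i hi
    rw [(Finset.mem_filter.1 hi).2]

theorem pts1 {x : GolayPt → ℤ} {v : ℤ} (h : 1 ≤ cnt x v) : ∃ a, x a ^ 2 = v := by
  obtain ⟨a, ha⟩ := Finset.card_pos.1 h
  exact ⟨a, (Finset.mem_filter.1 ha).2⟩

theorem pts2 {x : GolayPt → ℤ} {v : ℤ} (h : 2 ≤ cnt x v) :
    ∃ a b, x a ^ 2 = v ∧ x b ^ 2 = v ∧ a ≠ b := by
  obtain ⟨a, h1, b, h2, h3⟩ := Finset.one_lt_card.1 h
  exact ⟨a, b, (Finset.mem_filter.1 h1).2, (Finset.mem_filter.1 h2).2, h3⟩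

theorem pts3 {x : GolayPt → ℤ} {v : ℤ} (h : 3 ≤ cnt x v) :
    ∃ a b c, x a ^ 2 = v ∧ x b ^ 2 = v ∧ x c ^ 2 = v ∧ a ≠ b ∧ a ≠ c ∧ b ≠ c := by
  obtain ⟨a, b, c, h1, h2, h3, h4, h5, h6⟩ := Finset.two_lt_card_iff.1 h
  exact ⟨a, b, c, (Finset.mem_filter.1 h1).2, (Finset.mem_filter.1 h2).2,
    (Finset.mem_filter.1 h3).2, h4, h5, h6⟩

theorem pts4 {x : GolayPt → ℤ} {v : ℤ} (h : 4 ≤ cnt x v) :
    ∃ a b c d, x a ^ 2 = v ∧ x b ^ 2 = v ∧ x c ^ 2 = v ∧ x d ^ 2 = v ∧ a ≠ b ∧ a ≠ c ∧ a ≠ d ∧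
      b ≠ c ∧ b ≠ d ∧ c ≠ d := by
  obtain ⟨a, ha⟩ := Finset.card_pos.1 (show 0 < (Finset.univ.filter fun i => x i ^ 2 = v).card by
    unfold cnt at h
    omega)
  have h2 : 2 < ((Finset.univ.filter fun i => x i ^ 2 = v).erase a).card := by
    rw [Finset.card_erase_of_mem ha]
    unfold cnt at h
    omega
  obtain ⟨b, c, d, h1, h2, h3, h4, h5, h6⟩ := Finset.two_lt_card_iff.1 h2
  have ha' := (Finset.mem_filter.1 ha).2
  obtain ⟨b1, b2⟩ := Finset.mem_erase.1 h1
  obtain ⟨c1, c2⟩ := Finset.mem_erase.1 h2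
  obtain ⟨d1, d2⟩ := Finset.mem_erase.1 h3
  exact ⟨a, b, c, d, ha', (Finset.mem_filter.1 b2).2, (Finset.mem_filter.1 c2).2,
    (Finset.mem_filter.1 d2).2, Ne.symm b1, Ne.symm c1, Ne.symm d1, h4, h5, h6⟩

theorem cnt_ge1 {x : GolayPt → ℤ} {v : ℤ} {a : GolayPt} (h : x a ^ 2 = v) : 1 ≤ cnt x v :=
  Finset.card_pos.2 ⟨a, Finset.mem_filter.2 ⟨Finset.mem_univ _, h⟩⟩

theorem cnt_ge2 {x : GolayPt → ℤ} {v : ℤ} {a b : GolayPt} (h1 : x a ^ 2 = v) (h2 : x b ^ 2 = v)
    (hab : a ≠ b) : 2 ≤ cnt x v :=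
  Finset.one_lt_card.2 ⟨a, Finset.mem_filter.2 ⟨Finset.mem_univ _, h1⟩, b,
    Finset.mem_filter.2 ⟨Finset.mem_univ _, h2⟩, hab⟩

theorem cnt_ge3 {x : GolayPt → ℤ} {v : ℤ} {a b c : GolayPt} (h1 : x a ^ 2 = v) (h2 : x b ^ 2 = v)
    (h3 : x c ^ 2 = v) (hab : a ≠ b) (hac : a ≠ c) (hbc : b ≠ c) : 3 ≤ cnt x v :=
  Finset.two_lt_card_iff.2 ⟨a, b, c, Finset.mem_filter.2 ⟨Finset.mem_univ _, h1⟩,
    Finset.mem_filter.2 ⟨Finset.mem_univ _, h2⟩, Finset.mem_filter.2 ⟨Finset.mem_univ _, h3⟩, hab, hac, hbc⟩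

theorem ne_of_sq {x : GolayPt → ℤ} {a b : GolayPt} {u v : ℤ} (h1 : x a ^ 2 = u) (h2 : x b ^ 2 = v)
    (h : u ≠ v) : a ≠ b := by
  rintro rfl
  exact h (h1.symm.trans h2)

theorem same_parity {x : GolayPt → ℤ} (hx : x ∈ leechLattice) (i j : GolayPt) :
    x i % 2 = x j % 2 := by
  rw [mem_leechLattice_iff_leechSet] at hx
  obtain ⟨m, hm, -, -⟩ := hx
  have h1 := hm i
  have h2 := hm j
  simp only [Int.ModEq] at h1 h2
  omega

theorem even_of_sq {x : GolayPt → ℤ} (hx : x ∈ leechLattice) {p : GolayPt} (h : x p ^ 2 % 2 = 0)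
    (i : GolayPt) : x i % 2 = 0 := by
  rw [same_parity hx i p]
  rcases Int.emod_two_eq_zero_or_one (x p) with h1 | h1
  · exact h1
  · exfalso
    have h2 : x p ^ 2 % 2 = 1 := by
      rw [pow_two, Int.mul_emod, h1]
      rfl
    omega

theorem odd_of_sq {x : GolayPt → ℤ} (hx : x ∈ leechLattice) {p : GolayPt} (h : x p ^ 2 % 2 = 1)
    (i : GolayPt) : x i % 2 = 1 := by
  rw [same_parity hx i p]
  rcases Int.emod_two_eq_zero_or_one (x p) with h1 | h1
  · exfalso
    have h2 : x p ^ 2 % 2 = 0 := by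
      rw [pow_two, Int.mul_emod, h1]
      rfl
    omega
  · exact h1

theorem sq_le_norm (x : GolayPt → ℤ) (i : GolayPt) : x i ^ 2 ≤ sqNorm x :=
  Finset.single_le_sum (f := fun i => x i ^ 2) (fun i _ => sq_nonneg _) (Finset.mem_univ i)

theorem values_even {x : GolayPt → ℤ} {n : ℤ} (hn : sqNorm x = n) (h64 : n ≤ 64)
    (he : ∀ i, x i % 2 = 0) (i : GolayPt) :
    x i ^ 2 ∈ ({0, 4, 16, 36, 64} : Finset ℤ) := by
  have h1 := sq_le_norm x i
  have h2 := he i
  have h3 : x i ≤ 8 := by nlinarith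
  have h4 : -8 ≤ x i := by nlinarith
  generalize x i = t at *
  interval_cases t <;> simp_all

theorem values_odd {x : GolayPt → ℤ} {n : ℤ} (hn : sqNorm x = n) (h64 : n ≤ 64)
    (he : ∀ i, x i % 2 = 1) (i : GolayPt) :
    x i ^ 2 ∈ ({1, 9, 25, 49} : Finset ℤ) := by
  have h1 := sq_le_norm x i
  have h2 := he i
  have h3 : x i ≤ 8 := by nlinarith
  have h4 : -8 ≤ x i := by nlinarith
  generalize x i = t at *
  interval_cases t <;> simp_all

/-- Counts for even vectors. -/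
structure EvenC (x : GolayPt → ℤ) (n : ℤ) : Prop where
  total : cnt x 0 + cnt x 4 + cnt x 16 + cnt x 36 + cnt x 64 = 24
  norm : 4 * (cnt x 4 : ℤ) + 16 * cnt x 16 + 36 * cnt x 36 + 64 * cnt x 64 = n
  code : cnt x 4 + cnt x 36 = 0 ∨ 8 ≤ cnt x 4 + cnt x 36
  dvd : cnt x 4 + cnt x 36 = 0 → (32 : ℤ) ∣ n

/-- Counts for odd vectors. -/
structure OddC (x : GolayPt → ℤ) (n : ℤ) : Prop where
  total : cnt x 1 + cnt x 9 + cnt x 25 + cnt x 49 = 24
  norm : (cnt x 1 : ℤ) + 9 * cnt x 9 + 25 * cnt x 25 + 49 * cnt x 49 = n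

theorem sum_one_golay : ∑ _i : GolayPt, (1 : ℤ) = 24 := by
  rw [Finset.sum_const, Finset.card_univ, card_golayPt]
  rfl

theorem oddC {x : GolayPt → ℤ} {n : ℤ} (hn : sqNorm x = n) (h64 : n ≤ 64)
    (he : ∀ i, x i % 2 = 1) : OddC x n := by
  have hV := values_odd hn h64 he
  constructor
  · have h := count_eq x _ hV (fun _ => 1)
    simp only [sum_one_golay] at h
    rw [Finset.sum_insert (by decide), Finset.sum_insert (by decide), Finset.sum_insert (by decide),
      Finset.sum_singleton] at h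
    omega
  · have h := count_eq x _ hV (fun v => v)
    rw [Finset.sum_insert (by decide), Finset.sum_insert (by decide), Finset.sum_insert (by decide),
      Finset.sum_singleton] at h
    have h2 : ∑ i, x i ^ 2 = n := hn
    rw [h2] at h
    omega

theorem evenC {x : GolayPt → ℤ} {n : ℤ} (hx : x ∈ leechLattice) (hn : sqNorm x = n) (h64 : n ≤ 64)
    (he : ∀ i, x i % 2 = 0) : EvenC x n := by
  have hV := values_even hn h64 he
  have hA : (Finset.univ.filter fun i => x i % 4 = 2).card = cnt x 4 + cnt x 36 := by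
    have h := count_eq x _ hV (fun v => if v = 4 ∨ v = 36 then 1 else 0)
    rw [Finset.sum_insert (by decide), Finset.sum_insert (by decide), Finset.sum_insert (by decide),
      Finset.sum_insert (by decide), Finset.sum_singleton] at h
    have h2 : ∑ i, (if x i ^ 2 = 4 ∨ x i ^ 2 = 36 then (1 : ℤ) else 0) =
        (Finset.univ.filter fun i => x i % 4 = 2).card := by
      rw [Finset.card_filter]
      push_cast
      apply Finset.sum_congr rfl
      intro i _
      have h3 : x i ^ 2 = 4 ∨ x i ^ 2 = 36 ↔ x i % 4 = 2 := by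
        have h1 := sq_le_norm x i
        have h2 := he i
        have h3 : x i ≤ 8 := by nlinarith
        have h4 : -8 ≤ x i := by nlinarith
        generalize x i = t at *
        interval_cases t <;> simp_all
      simp only [h3]
    rw [h2] at h
    norm_num at h
    omega
  rw [mem_leechLattice_iff_leechSet] at hx
  obtain ⟨m, hm1, hm2, hm3⟩ := hx
  constructor
  · have h := count_eq x _ hV (fun _ => 1)
    simp only [sum_one_golay] at h
    rw [Finset.sum_insert (by decide), Finset.sum_insert (by decide), Finset.sum_insert (by decide),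
      Finset.sum_insert (by decide), Finset.sum_singleton] at h
    omega
  · have h := count_eq x _ hV (fun v => v)
    rw [Finset.sum_insert (by decide), Finset.sum_insert (by decide), Finset.sum_insert (by decide),
      Finset.sum_insert (by decide), Finset.sum_singleton] at h
    have h2 : ∑ i, x i ^ 2 = n := hn
    rw [h2] at h
    omega
  · rw [← hA]
    have h3 := Cfsg.Agent.Lib.GolayBits.card_of_mem_supports (hm3 2)
    have h4 : (Finset.univ.filter fun i => x i ≡ 2 [ZMOD 4]) =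
        (Finset.univ.filter fun i => x i % 4 = 2) := by
      ext i
      simp only [Finset.mem_filter, Finset.mem_univ, true_and, Int.ModEq]
      norm_num
    rw [h4] at h3
    omega
  · intro h0
    have hz : ∀ i, x i % 4 = 0 := by
      intro i
      have h1 : i ∉ (Finset.univ.filter fun i => x i % 4 = 2) := by
        have h2 : (Finset.univ.filter fun i => x i % 4 = 2) = ∅ := by
          rw [← Finset.card_eq_zero]
          omega
        rw [h2]
        simp
      simp only [Finset.mem_filter, Finset.mem_univ, true_and] at h1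
      have := he i
      omega
    have hm : m % 2 = 0 := by
      have h1 := hm1 none
      have h2 := he none
      simp only [Int.ModEq] at h1
      omega
    have h8 : (8 : ℤ) ∣ ∑ i, x i := by
      simp only [Int.ModEq] at hm2
      omega
    have h32 : (32 : ℤ) ∣ ∑ i, (x i ^ 2 - 4 * x i) := by
      apply Finset.dvd_sum
      intro i _
      obtain ⟨d, hd⟩ : (4 : ℤ) ∣ x i := Int.dvd_of_emod_eq_zero (hz i)
      rw [hd]
      have h5 : (2 : ℤ) ∣ d * (d - 1) := by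
        rcases Int.emod_two_eq_zero_or_one d with h6 | h6
        · exact Dvd.dvd.mul_right (Int.dvd_of_emod_eq_zero h6) _
        · exact Dvd.dvd.mul_left (Int.dvd_of_emod_eq_zero (by omega)) _
      obtain ⟨e, he'⟩ := h5
      exact ⟨e, by linear_combination 16 * he'⟩
    have h5 : ∑ i, (x i ^ 2 - 4 * x i) = n - 4 * ∑ i, x i := by
      rw [Finset.sum_sub_distrib, ← Finset.mul_sum]
      rw [show ∑ i, x i ^ 2 = n from hn]
    rw [h5] at h32
    obtain ⟨c, hc⟩ := h8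
    obtain ⟨e, he'⟩ := h32
    exact ⟨e + c, by rw [hc] at he'; linarith⟩

/-! ### The descent -/

/-- Some element of the group carries `x` to `w`. -/
def Reach (w x : leechLattice) : Prop := ∃ g : Co0, (g : Equiv.Perm leechLattice) x = w

theorem Reach.of_move {w x : leechLattice} {g : Co0} (h : Reach w ((g : Equiv.Perm leechLattice) x)) :
    Reach w x := by
  obtain ⟨k, hk⟩ := h
  exact ⟨k * g, hk⟩

theorem Reach.trans_symm {w x y : leechLattice} (h1 : Reach w x) (h2 : Reach w y) :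
    ∃ g : Co0, g • x = y := by
  obtain ⟨a, ha⟩ := h1
  obtain ⟨b, hb⟩ := h2
  refine ⟨b⁻¹ * a, ?_⟩
  show (b⁻¹ : Co0).1 (a.1 x) = y
  rw [ha, ← hb]
  show (b⁻¹ * b : Co0).1 y = y
  simp

theorem norm_move (g : Co0) (x : leechLattice) :
    sqNorm ((g : Equiv.Perm leechLattice) x : GolayPt → ℤ) = sqNorm (x : GolayPt → ℤ) := g.2.2 x

/-- A monomial move: two coordinates are placed on two given points. -/
theorem exists_mono_move (x : leechLattice) {a b p q : GolayPt} (hab : a ≠ b) (hpq : p ≠ q)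
    {a' b' : ℤ} (ha : (x : GolayPt → ℤ) a ^ 2 = a' ^ 2) (hb : (x : GolayPt → ℤ) b ^ 2 = b' ^ 2) :
    ∃ (g : Co0) (σ : Equiv.Perm GolayPt), σ p = a ∧ σ q = b ∧
      ((g : Equiv.Perm leechLattice) x : GolayPt → ℤ) p = a' ∧
      ((g : Equiv.Perm leechLattice) x : GolayPt → ℤ) q = b' ∧
      ∀ k, ((g : Equiv.Perm leechLattice) x : GolayPt → ℤ) k ^ 2 = (x : GolayPt → ℤ) (σ k) ^ 2 := by
  classical
  obtain ⟨c, d, hc, hd, hcd⟩ : ∃ c d : GolayPt, (c ≠ a ∧ c ≠ b) ∧ (d ≠ a ∧ d ≠ b) ∧ c ≠ d := by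
    by_contra hcon
    have h1 : (Finset.univ.filter fun i : GolayPt => i ≠ a ∧ i ≠ b).card ≤ 1 := by
      rw [Finset.card_le_one]
      intro i hi j hj
      by_contra hij
      exact hcon ⟨i, j, (Finset.mem_filter.1 hi).2, (Finset.mem_filter.1 hj).2, hij⟩
    have h2 : (Finset.univ : Finset GolayPt) ⊆ insert a (insert b (Finset.univ.filter fun i : GolayPt => i ≠ a ∧ i ≠ b)) := by
      intro i _
      by_cases h3 : i = a
      · simp [h3]
      by_cases h4 : i = b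
      · simp [h4]
      simp [h3, h4]
    have h3 := Finset.card_le_card h2
    rw [Finset.card_univ, card_golayPt] at h3
    have h4 := Finset.card_insert_le a (insert b (Finset.univ.filter fun i : GolayPt => i ≠ a ∧ i ≠ b))
    have h5 := Finset.card_insert_le b (Finset.univ.filter fun i : GolayPt => i ≠ a ∧ i ≠ b)
    omega
  obtain ⟨r, s, hr, hs, hrs⟩ : ∃ r s : GolayPt, (r ≠ p ∧ r ≠ q) ∧ (s ≠ p ∧ s ≠ q) ∧ r ≠ s := by
    by_contra hcon
    have h1 : (Finset.univ.filter fun i : GolayPt => i ≠ p ∧ i ≠ q).card ≤ 1 := by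
      rw [Finset.card_le_one]
      intro i hi j hj
      by_contra hij
      exact hcon ⟨i, j, (Finset.mem_filter.1 hi).2, (Finset.mem_filter.1 hj).2, hij⟩
    have h2 : (Finset.univ : Finset GolayPt) ⊆ insert p (insert q (Finset.univ.filter fun i : GolayPt => i ≠ p ∧ i ≠ q)) := by
      intro i _
      by_cases h3 : i = p
      · simp [h3]
      by_cases h4 : i = q
      · simp [h4]
      simp [h3, h4]
    have h3 := Finset.card_le_card h2
    rw [Finset.card_univ, card_golayPt] at h3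
    have h4 := Finset.card_insert_le p (insert q (Finset.univ.filter fun i : GolayPt => i ≠ p ∧ i ≠ q))
    have h5 := Finset.card_insert_le q (Finset.univ.filter fun i : GolayPt => i ≠ p ∧ i ≠ q)
    omega
  obtain ⟨C, hC, h1, h2, -, -⟩ := exists_sign4 hab (Ne.symm hc.1) (Ne.symm hd.1) (Ne.symm hc.2)
    (Ne.symm hd.2) hcd (a' ≠ (x : GolayPt → ℤ) a) (b' ≠ (x : GolayPt → ℤ) b) False False
  obtain ⟨σ, s0, s1, -, -⟩ := exists_four hpq (Ne.symm hr.1) (Ne.symm hs.1) (Ne.symm hr.2)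
    (Ne.symm hs.2) hrs hab (Ne.symm hc.1) (Ne.symm hd.1) (Ne.symm hc.2) (Ne.symm hd.2) hcd
  have key : ∀ {p : GolayPt} {p' : ℤ}, (x : GolayPt → ℤ) p ^ 2 = p' ^ 2 →
      (p ∈ C ↔ p' ≠ (x : GolayPt → ℤ) p) →
      (if p ∈ C then -(x : GolayPt → ℤ) p else (x : GolayPt → ℤ) p) = p' := by
    intro p p' h5 h6
    split_ifs with h7
    · have h8 := h6.1 h7
      rcases sq_eq_sq_iff_eq_or_eq_neg.1 h5 with h9 | h9
      · exact absurd h9.symm h8
      · linarith
    · have h8 : ¬ p' ≠ (x : GolayPt → ℤ) p := fun h => h7 (h6.2 h)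
      push Not at h8
      exact h8.symm
  have hyv : ∀ {j : GolayPt} {p : GolayPt} {p' : ℤ}, (σ : Equiv.Perm GolayPt) j = p →
      (x : GolayPt → ℤ) p ^ 2 = p' ^ 2 → (p ∈ C ↔ p' ≠ (x : GolayPt → ℤ) p) →
      ((((monoCo0 empty_mem_codeSets σ.2 * eps hC : Co0) : Equiv.Perm leechLattice) x : leechLattice) : GolayPt → ℤ) j = p' := by
    intro j p p' h5 h6 h7
    show ((((monoCo0 empty_mem_codeSets σ.2 : Co0) : Equiv.Perm leechLattice)
      (((eps hC : Co0) : Equiv.Perm leechLattice) x) : leechLattice) : GolayPt → ℤ) j = p'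
    rw [monoCo0_apply, mono_apply, if_neg (Finset.notMem_empty _), h5, eps_apply]
    exact key h6 h7
  refine ⟨monoCo0 empty_mem_codeSets σ.2 * eps hC, σ, s0, s1, hyv s0 ha h1, hyv s1 hb h2, ?_⟩
  intro k
  show ((((monoCo0 empty_mem_codeSets σ.2 : Co0) : Equiv.Perm leechLattice)
      (((eps hC : Co0) : Equiv.Perm leechLattice) x) : leechLattice) : GolayPt → ℤ) k ^ 2 = _
  rw [monoCo0_apply, mono_apply, if_neg (Finset.notMem_empty _), eps_apply]
  split_ifs <;> simp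

/-! #### Squared length 64 -/

section N64

theorem s64_A (x : leechLattice) (hn : sqNorm (x : GolayPt → ℤ) = 64) {p : GolayPt}
    (hp : (x : GolayPt → ℤ) p ^ 2 = 64) : Reach (e8 none) x := by
  classical
  have hz : ∀ i, i ≠ p → (x : GolayPt → ℤ) i ^ 2 = 0 := by
    intro i hi
    have h1 : ∑ j, (x : GolayPt → ℤ) j ^ 2 = 64 := hn
    rw [← Finset.add_sum_erase _ _ (Finset.mem_univ p), hp] at h1
    have h2 : ∑ j ∈ Finset.univ.erase p, (x : GolayPt → ℤ) j ^ 2 = 0 := by linarith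
    exact (Finset.sum_eq_zero_iff_of_nonneg (fun j _ => sq_nonneg _)).1 h2 i
      (Finset.mem_erase.2 ⟨hi, Finset.mem_univ _⟩)
  obtain ⟨q, hq⟩ : ∃ q : GolayPt, q ≠ p := by
    by_cases h : p = none
    · exact ⟨some 0, by simp [h]⟩
    · exact ⟨none, Ne.symm h⟩
  obtain ⟨r, hr⟩ : ∃ r : GolayPt, r ≠ none := ⟨some 0, by simp⟩
  obtain ⟨g, σ, s0, s1, h0, h1, h2⟩ := exists_mono_move x (a := p) (b := q) (p := none) (q := r)
    (a' := 8) (b' := 0) (Ne.symm hq) (Ne.symm hr) (by rw [hp]; norm_num) (by rw [hz q hq]; norm_num)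
  refine ⟨g, Subtype.ext ?_⟩
  funext k
  rw [e8_apply]
  split_ifs with h3
  · rw [h3, h0]
  · have h4 : σ k ≠ p := by
      intro h5
      apply h3
      exact σ.injective (h5.trans s0.symm)
    have h5 := h2 k
    rw [hz _ h4] at h5
    exact pow_eq_zero_iff (two_ne_zero) |>.1 h5

theorem s64_B (x : leechLattice) (hn : sqNorm (x : GolayPt → ℤ) = 64)
    (h16 : 3 ≤ cnt (x : GolayPt → ℤ) 16) : Reach (e8 none) x := by
  obtain ⟨p, hp⟩ := pts1 (show 1 ≤ cnt (x : GolayPt → ℤ) 16 by omega)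
  have hev := even_of_sq x.2 (p := p) (by rw [hp]; norm_num)
  have E := evenC x.2 hn (by norm_num) hev
  have h1 := E.norm
  have h2 := E.code
  obtain ⟨a, b, c, d, ha, hb, hc, hd, h3, h4, h5, h6, h7, h8⟩ := pts4 (show 4 ≤ cnt (x : GolayPt → ℤ) 16 by omega)
  obtain ⟨g, y0, y1, y2, y3⟩ := exists_move x h3 h4 h5 h6 h7 h8 (a' := 4) (b' := 4) (c' := 4) (d' := -4)
    (S := 4) (by rw [ha]; norm_num) (by rw [hb]; norm_num) (by rw [hc]; norm_num) (by rw [hd]; norm_num)
    (by norm_num)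
  apply Reach.of_move (g := g)
  apply s64_A _ ((norm_move g x).trans hn) (p := t3)
  rw [y3]
  norm_num

theorem s64_C (x : leechLattice) (hn : sqNorm (x : GolayPt → ℤ) = 64)
    (h36 : 1 ≤ cnt (x : GolayPt → ℤ) 36) : Reach (e8 none) x := by
  obtain ⟨a, ha⟩ := pts1 h36
  have hev := even_of_sq x.2 (p := a) (by rw [ha]; norm_num)
  have E := evenC x.2 hn (by norm_num) hev
  have h1 := E.norm
  have h2 := E.code
  obtain ⟨b, c, d, hb, hc, hd, h6, h7, h8⟩ := pts3 (show 3 ≤ cnt (x : GolayPt → ℤ) 4 by omega)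
  obtain ⟨g, y0, y1, y2, y3⟩ := exists_move x (ne_of_sq ha hb (by norm_num)) (ne_of_sq ha hc (by norm_num))
    (ne_of_sq ha hd (by norm_num)) h6 h7 h8 (a' := 6) (b' := 2) (c' := 2) (d' := 2)
    (S := 6) (by rw [ha]; norm_num) (by rw [hb]; norm_num) (by rw [hc]; norm_num) (by rw [hd]; norm_num)
    (by norm_num)
  apply Reach.of_move (g := g)
  apply s64_B _ ((norm_move g x).trans hn)
  obtain ⟨-, t01, t02, t12, t13, t23⟩ := t_ne
  exact cnt_ge3 (a := t1) (b := t2) (c := t3) (by rw [y1]; norm_num) (by rw [y2]; norm_num) (by rw [y3]; norm_num)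
    t12 t13 t23

theorem s64_D (x : leechLattice) (hn : sqNorm (x : GolayPt → ℤ) = 64)
    (h25 : 1 ≤ cnt (x : GolayPt → ℤ) 25) : Reach (e8 none) x := by
  obtain ⟨a, ha⟩ := pts1 h25
  have hev := odd_of_sq x.2 (p := a) (by rw [ha]; norm_num)
  have E := oddC hn (by norm_num) hev
  have h1 := E.norm
  have h2 := E.total
  obtain ⟨b, c, hb, hc, h6⟩ := pts2 (show 2 ≤ cnt (x : GolayPt → ℤ) 9 by omega)
  obtain ⟨d, hd⟩ := pts1 (show 1 ≤ cnt (x : GolayPt → ℤ) 1 by omega)
  obtain ⟨g, y0, y1, y2, y3⟩ := exists_move x (ne_of_sq ha hb (by norm_num)) (ne_of_sq ha hc (by norm_num))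
    (ne_of_sq ha hd (by norm_num)) h6 (ne_of_sq hb hd (by norm_num)) (ne_of_sq hc hd (by norm_num))
    (a' := 5) (b' := -3) (c' := -3) (d' := -1)
    (S := -1) (by rw [ha]; norm_num) (by rw [hb]; norm_num) (by rw [hc]; norm_num) (by rw [hd]; norm_num)
    (by norm_num)
  apply Reach.of_move (g := g)
  apply s64_C _ ((norm_move g x).trans hn)
  exact cnt_ge1 (a := t0) (by rw [y0]; norm_num)

theorem s64_E (x : leechLattice) (hn : sqNorm (x : GolayPt → ℤ) = 64)
    (h16 : 1 ≤ cnt (x : GolayPt → ℤ) 16) : Reach (e8 none) x := by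
  by_cases h36 : 1 ≤ cnt (x : GolayPt → ℤ) 36
  · exact s64_C x hn h36
  by_cases h163 : 3 ≤ cnt (x : GolayPt → ℤ) 16
  · exact s64_B x hn h163
  obtain ⟨a, ha⟩ := pts1 h16
  have hev := even_of_sq x.2 (p := a) (by rw [ha]; norm_num)
  have E := evenC x.2 hn (by norm_num) hev
  have h1 := E.norm
  have h2 := E.code
  obtain ⟨b, c, d, hb, hc, hd, h6, h7, h8⟩ := pts3 (show 3 ≤ cnt (x : GolayPt → ℤ) 4 by omega)
  obtain ⟨g, y0, y1, y2, y3⟩ := exists_move x (ne_of_sq ha hb (by norm_num)) (ne_of_sq ha hc (by norm_num))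
    (ne_of_sq ha hd (by norm_num)) h6 h7 h8 (a' := 4) (b' := 2) (c' := 2) (d' := -2)
    (S := 3) (by rw [ha]; norm_num) (by rw [hb]; norm_num) (by rw [hc]; norm_num) (by rw [hd]; norm_num)
    (by norm_num)
  apply Reach.of_move (g := g)
  apply s64_D _ ((norm_move g x).trans hn)
  exact cnt_ge1 (a := t3) (by rw [y3]; norm_num)

theorem s64_even (x : leechLattice) (hn : sqNorm (x : GolayPt → ℤ) = 64)
    (hev : ∀ i, (x : GolayPt → ℤ) i % 2 = 0) : Reach (e8 none) x := by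
  have E := evenC x.2 hn (by norm_num) hev
  have h1 := E.norm
  by_cases h64 : 1 ≤ cnt (x : GolayPt → ℤ) 64
  · obtain ⟨a, ha⟩ := pts1 h64
    exact s64_A x hn ha
  by_cases h36 : 1 ≤ cnt (x : GolayPt → ℤ) 36
  · exact s64_C x hn h36
  by_cases h16 : 1 ≤ cnt (x : GolayPt → ℤ) 16
  · exact s64_E x hn h16
  obtain ⟨a, b, c, d, ha, hb, hc, hd, h3, h4, h5, h6, h7, h8⟩ := pts4 (show 4 ≤ cnt (x : GolayPt → ℤ) 4 by omega)
  obtain ⟨g, y0, y1, y2, y3⟩ := exists_move x h3 h4 h5 h6 h7 h8 (a' := 2) (b' := 2) (c' := 2) (d' := -2)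
    (S := 2) (by rw [ha]; norm_num) (by rw [hb]; norm_num) (by rw [hc]; norm_num) (by rw [hd]; norm_num)
    (by norm_num)
  apply Reach.of_move (g := g)
  apply s64_E _ ((norm_move g x).trans hn)
  exact cnt_ge1 (a := t3) (by rw [y3]; norm_num)

theorem s64_odd (x : leechLattice) (hn : sqNorm (x : GolayPt → ℤ) = 64)
    (hev : ∀ i, (x : GolayPt → ℤ) i % 2 = 1) : Reach (e8 none) x := by
  have E := oddC hn (by norm_num) hev
  have h1 := E.norm
  have h2 := E.total
  by_cases h25 : 1 ≤ cnt (x : GolayPt → ℤ) 25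
  · exact s64_D x hn h25
  obtain ⟨a, b, c, d, ha, hb, hc, hd, h3, h4, h5, h6, h7, h8⟩ := pts4 (show 4 ≤ cnt (x : GolayPt → ℤ) 9 by omega)
  obtain ⟨g, y0, y1, y2, y3⟩ := exists_move x h3 h4 h5 h6 h7 h8 (a' := 3) (b' := -3) (c' := -3) (d' := -3)
    (S := -3) (by rw [ha]; norm_num) (by rw [hb]; norm_num) (by rw [hc]; norm_num) (by rw [hd]; norm_num)
    (by norm_num)
  apply Reach.of_move (g := g)
  apply s64_C _ ((norm_move g x).trans hn)
  exact cnt_ge1 (a := t0) (by rw [y0]; norm_num)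

theorem parity_cases (x : leechLattice) : (∀ i, (x : GolayPt → ℤ) i % 2 = 0) ∨
    (∀ i, (x : GolayPt → ℤ) i % 2 = 1) := by
  rcases Int.emod_two_eq_zero_or_one ((x : GolayPt → ℤ) none) with h | h
  · left
    intro i
    rw [same_parity x.2 i none, h]
  · right
    intro i
    rw [same_parity x.2 i none, h]

theorem reach64 (x : leechLattice) (hn : sqNorm (x : GolayPt → ℤ) = 64) : Reach (e8 none) x := by
  rcases parity_cases x with h | h
  · exact s64_even x hn h
  · exact s64_odd x hn h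

/-- Transitivity on the vectors of squared length 64. -/
theorem trans64 (v w : leechLattice) (hv : sqNorm (v : GolayPt → ℤ) = 64)
    (hw : sqNorm (w : GolayPt → ℤ) = 64) : ∃ g : Co0, g • v = w :=
  (reach64 v hv).trans_symm (reach64 w hw)

end N64

/-! #### Squared length 48 -/

section N48

/-- The standard vector. -/
def w48 : leechLattice := ⟨w0, w0_mem_A.1⟩

theorem s48_A (x : leechLattice) (hn : sqNorm (x : GolayPt → ℤ) = 48)
    (h25 : 1 ≤ cnt (x : GolayPt → ℤ) 25) : Reach w48 x := by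
  classical
  obtain ⟨p, hp⟩ := pts1 h25
  have hev := odd_of_sq x.2 (p := p) (by rw [hp]; norm_num)
  have E := oddC hn (by norm_num) hev
  have h1 := E.norm
  have h2 := E.total
  have hV := values_odd hn (by norm_num) hev
  have h9 : ∀ i, (x : GolayPt → ℤ) i ^ 2 ≠ 9 := fun i hi => by
    have := cnt_ge1 hi
    omega
  have h49 : ∀ i, (x : GolayPt → ℤ) i ^ 2 ≠ 49 := fun i hi => by
    have := cnt_ge1 hi
    omega
  have h25' : ∀ i, i ≠ p → (x : GolayPt → ℤ) i ^ 2 ≠ 25 := fun i hi hi2 => by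
    have := cnt_ge2 hi2 hp hi
    omega
  have h11 : ∀ i, i ≠ p → (x : GolayPt → ℤ) i ^ 2 = 1 := by
    intro i hi
    have h3 := hV i
    simp only [Finset.mem_insert, Finset.mem_singleton] at h3
    have := h9 i
    have := h49 i
    have := h25' i hi
    tauto
  have hx := x.2
  rw [mem_leechLattice_iff_leechSet] at hx
  obtain ⟨m, hm1, hm2, hm3⟩ := hx
  have hC : (Finset.univ.filter fun i => (x : GolayPt → ℤ) i ≡ 3 [ZMOD 4]) ∈ codeSets := hm3 3
  obtain ⟨q, hq⟩ : ∃ q : GolayPt, q ≠ p := by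
    by_cases h : p = none
    · exact ⟨some 0, by simp [h]⟩
    · exact ⟨none, Ne.symm h⟩
  obtain ⟨r, hr⟩ : ∃ r : GolayPt, r ≠ none := ⟨some 0, by simp⟩
  obtain ⟨σ, s0, -⟩ := Cfsg.Agent.Lib.M24Facts.exists_two (a := none) (b := r) (c := p) (d := q)
    (Ne.symm hr) (Ne.symm hq)
  refine ⟨monoCo0 empty_mem_codeSets σ.2 * eps hC, Subtype.ext ?_⟩
  funext k
  show ((((monoCo0 empty_mem_codeSets σ.2 : Co0) : Equiv.Perm leechLattice)
      (((eps hC : Co0) : Equiv.Perm leechLattice) x) : leechLattice) : GolayPt → ℤ) k = w0 k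
  rw [monoCo0_apply, mono_apply, if_neg (Finset.notMem_empty _), eps_apply]
  have hCm : ∀ i, i ∈ (Finset.univ.filter fun i => (x : GolayPt → ℤ) i ≡ 3 [ZMOD 4]) ↔
      (x : GolayPt → ℤ) i % 4 = 3 := by
    intro i
    rw [Finset.mem_filter]
    simp only [Finset.mem_univ, true_and, Int.ModEq]
    norm_num
  unfold w0
  have hk : (σ : Equiv.Perm GolayPt) k = p ↔ k = none := by
    constructor
    · intro h
      exact (σ : Equiv.Perm GolayPt).injective (h.trans s0.symm)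
    · rintro rfl
      exact s0
  by_cases h3 : k = none
  · rw [if_pos h3]
    rw [hk.2 h3]
    rcases sq_eq_sq_iff_eq_or_eq_neg.1 (hp.trans (by norm_num : (25 : ℤ) = 5 ^ 2)) with h4 | h4
    · rw [if_neg (mt (hCm _).1 (by rw [h4]; norm_num)), h4]
    · rw [if_pos ((hCm _).2 (by rw [h4]; norm_num)), h4]
      norm_num
  · rw [if_neg h3]
    have h4 : (σ : Equiv.Perm GolayPt) k ≠ p := fun h => h3 (hk.1 h)
    rcases sq_eq_sq_iff_eq_or_eq_neg.1 ((h11 _ h4).trans (by norm_num : (1 : ℤ) = 1 ^ 2)) with h5 | h5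
    · rw [if_neg (mt (hCm _).1 (by rw [h5]; norm_num)), h5]
    · rw [if_pos ((hCm _).2 (by rw [h5]; norm_num)), h5]
      norm_num

theorem s48_even1 (x : leechLattice) (hn : sqNorm (x : GolayPt → ℤ) = 48)
    (h16 : 1 ≤ cnt (x : GolayPt → ℤ) 16) : Reach w48 x := by
  obtain ⟨a, ha⟩ := pts1 h16
  have hev := even_of_sq x.2 (p := a) (by rw [ha]; norm_num)
  have E := evenC x.2 hn (by norm_num) hev
  have h1 := E.norm
  have h2 := E.code
  have h3 : cnt (x : GolayPt → ℤ) 4 + cnt (x : GolayPt → ℤ) 36 ≠ 0 := by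
    intro h
    have := E.dvd h
    norm_num at this
  obtain ⟨b, c, d, hb, hc, hd, h6, h7, h8⟩ := pts3 (show 3 ≤ cnt (x : GolayPt → ℤ) 4 by omega)
  obtain ⟨g, y0, y1, y2, y3⟩ := exists_move x (ne_of_sq ha hb (by norm_num)) (ne_of_sq ha hc (by norm_num))
    (ne_of_sq ha hd (by norm_num)) h6 h7 h8 (a' := 4) (b' := 2) (c' := 2) (d' := -2)
    (S := 3) (by rw [ha]; norm_num) (by rw [hb]; norm_num) (by rw [hc]; norm_num) (by rw [hd]; norm_num)
    (by norm_num)
  apply Reach.of_move (g := g)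
  apply s48_A _ ((norm_move g x).trans hn)
  exact cnt_ge1 (a := t3) (by rw [y3]; norm_num)

theorem reach48 (x : leechLattice) (hn : sqNorm (x : GolayPt → ℤ) = 48) : Reach w48 x := by
  rcases parity_cases x with hev | hev
  · by_cases h16 : 1 ≤ cnt (x : GolayPt → ℤ) 16
    · exact s48_even1 x hn h16
    have E := evenC x.2 hn (by norm_num) hev
    have h1 := E.norm
    have h1a := E.code
    have h1b : cnt (x : GolayPt → ℤ) 64 = 0 := by omega
    have h1c : cnt (x : GolayPt → ℤ) 36 ≤ 1 := by omega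
    obtain ⟨a, b, c, d, ha, hb, hc, hd, h3, h4, h5, h6, h7, h8⟩ := pts4 (show 4 ≤ cnt (x : GolayPt → ℤ) 4 by omega)
    obtain ⟨g, y0, y1, y2, y3⟩ := exists_move x h3 h4 h5 h6 h7 h8 (a' := 2) (b' := 2) (c' := 2) (d' := -2)
      (S := 2) (by rw [ha]; norm_num) (by rw [hb]; norm_num) (by rw [hc]; norm_num) (by rw [hd]; norm_num)
      (by norm_num)
    apply Reach.of_move (g := g)
    apply s48_even1 _ ((norm_move g x).trans hn)
    exact cnt_ge1 (a := t3) (by rw [y3]; norm_num)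
  · by_cases h25 : 1 ≤ cnt (x : GolayPt → ℤ) 25
    · exact s48_A x hn h25
    have E := oddC hn (by norm_num) hev
    have h1 := E.norm
    have h2 := E.total
    obtain ⟨a, b, c, ha, hb, hc, h3, h4, h5⟩ := pts3 (show 3 ≤ cnt (x : GolayPt → ℤ) 9 by omega)
    obtain ⟨d, hd⟩ := pts1 (show 1 ≤ cnt (x : GolayPt → ℤ) 1 by omega)
    obtain ⟨g, y0, y1, y2, y3⟩ := exists_move x h3 h4 (ne_of_sq ha hd (by norm_num)) h5
      (ne_of_sq hb hd (by norm_num)) (ne_of_sq hc hd (by norm_num))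
      (a' := 3) (b' := 3) (c' := 3) (d' := -1)
      (S := 4) (by rw [ha]; norm_num) (by rw [hb]; norm_num) (by rw [hc]; norm_num) (by rw [hd]; norm_num)
      (by norm_num)
    apply Reach.of_move (g := g)
    apply s48_A _ ((norm_move g x).trans hn)
    exact cnt_ge1 (a := t3) (by rw [y3]; norm_num)

/-- Transitivity on the vectors of squared length 48. -/
theorem trans48 (v w : leechLattice) (hv : sqNorm (v : GolayPt → ℤ) = 48)
    (hw : sqNorm (w : GolayPt → ℤ) = 48) : ∃ g : Co0, g • v = w :=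
  (reach48 v hv).trans_symm (reach48 w hw)

end N48

/-! #### Squared length 32 -/

section N32

theorem s32_A (x : leechLattice) (hn : sqNorm (x : GolayPt → ℤ) = 32)
    (h16 : 1 ≤ cnt (x : GolayPt → ℤ) 16) : Reach (uab t0 t1) x := by
  classical
  obtain ⟨p, hp⟩ := pts1 h16
  have hev := even_of_sq x.2 (p := p) (by rw [hp]; norm_num)
  have E := evenC x.2 hn (by norm_num) hev
  have h1 := E.norm
  have h2 := E.code
  have hV := values_even hn (by norm_num) hev
  obtain ⟨a, b, ha, hb, hab⟩ := pts2 (show 2 ≤ cnt (x : GolayPt → ℤ) 16 by omega)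
  have h3 : cnt (x : GolayPt → ℤ) 16 = 2 := by omega
  have hz : ∀ i, i ≠ a → i ≠ b → (x : GolayPt → ℤ) i ^ 2 = 0 := by
    intro i hia hib
    have h4 := hV i
    simp only [Finset.mem_insert, Finset.mem_singleton] at h4
    rcases h4 with h4 | h4 | h4 | h4 | h4
    · exact h4
    · have := cnt_ge1 h4
      omega
    · exfalso
      have := cnt_ge3 h4 ha hb hia hib hab
      omega
    · have := cnt_ge1 h4
      omega
    · have := cnt_ge1 h4
      omega
  obtain ⟨t01, -⟩ := t_ne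
  obtain ⟨g, σ, s0, s1, h0, h1', h2'⟩ := exists_mono_move x (a := a) (b := b) (p := t0) (q := t1)
    (a' := 4) (b' := -4) hab t01 (by rw [ha]; norm_num) (by rw [hb]; norm_num)
  refine ⟨g, Subtype.ext ?_⟩
  funext k
  rw [uab_apply]
  by_cases h4 : k = t0
  · rw [h4, h0, if_pos rfl, if_neg t01]
    norm_num
  by_cases h5 : k = t1
  · rw [h5, h1', if_neg (Ne.symm t01), if_pos rfl]
    norm_num
  rw [if_neg h4, if_neg h5]
  have h6 : (σ : Equiv.Perm GolayPt) k ≠ a := fun h => h4 (σ.injective (h.trans s0.symm))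
  have h7 : (σ : Equiv.Perm GolayPt) k ≠ b := fun h => h5 (σ.injective (h.trans s1.symm))
  have h8 := h2' k
  rw [hz _ h6 h7] at h8
  have h9 := pow_eq_zero_iff (two_ne_zero) |>.1 h8
  rw [h9]
  norm_num

theorem s32_even (x : leechLattice) (hn : sqNorm (x : GolayPt → ℤ) = 32)
    (hev : ∀ i, (x : GolayPt → ℤ) i % 2 = 0) : Reach (uab t0 t1) x := by
  by_cases h16 : 1 ≤ cnt (x : GolayPt → ℤ) 16
  · exact s32_A x hn h16
  have E := evenC x.2 hn (by norm_num) hev
  have h1 := E.norm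
  have h1a : cnt (x : GolayPt → ℤ) 64 = 0 := by omega
  have h1b : cnt (x : GolayPt → ℤ) 36 = 0 := by omega
  obtain ⟨a, b, c, d, ha, hb, hc, hd, h3, h4, h5, h6, h7, h8⟩ := pts4 (show 4 ≤ cnt (x : GolayPt → ℤ) 4 by omega)
  obtain ⟨g, y0, y1, y2, y3⟩ := exists_move x h3 h4 h5 h6 h7 h8 (a' := 2) (b' := 2) (c' := 2) (d' := -2)
    (S := 2) (by rw [ha]; norm_num) (by rw [hb]; norm_num) (by rw [hc]; norm_num) (by rw [hd]; norm_num)
    (by norm_num)
  apply Reach.of_move (g := g)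
  apply s32_A _ ((norm_move g x).trans hn)
  exact cnt_ge1 (a := t3) (by rw [y3]; norm_num)

theorem reach32 (x : leechLattice) (hn : sqNorm (x : GolayPt → ℤ) = 32) : Reach (uab t0 t1) x := by
  rcases parity_cases x with hev | hev
  · exact s32_even x hn hev
  have E := oddC hn (by norm_num) hev
  have h1 := E.norm
  have h2 := E.total
  obtain ⟨a, ha⟩ := pts1 (show 1 ≤ cnt (x : GolayPt → ℤ) 9 by omega)
  obtain ⟨b, c, d, hb, hc, hd, h6, h7, h8⟩ := pts3 (show 3 ≤ cnt (x : GolayPt → ℤ) 1 by omega)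
  obtain ⟨g, y0, y1, y2, y3⟩ := exists_move x (ne_of_sq ha hb (by norm_num)) (ne_of_sq ha hc (by norm_num))
    (ne_of_sq ha hd (by norm_num)) h6 h7 h8 (a' := 3) (b' := 1) (c' := 1) (d' := 1)
    (S := 3) (by rw [ha]; norm_num) (by rw [hb]; norm_num) (by rw [hc]; norm_num) (by rw [hd]; norm_num)
    (by norm_num)
  apply Reach.of_move (g := g)
  apply s32_even _ ((norm_move g x).trans hn)
  exact even_of_sq (Subtype.property _) (p := t0) (by rw [y0]; norm_num)

/-- Transitivity on the vectors of squared length 32. -/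
theorem trans32 (v w : leechLattice) (hv : sqNorm (v : GolayPt → ℤ) = 32)
    (hw : sqNorm (w : GolayPt → ℤ) = 32) : ∃ g : Co0, g • v = w :=
  (reach32 v hv).trans_symm (reach32 w hw)

end N32

end Cfsg.Agent.Lib.Co0Trans
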