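import Mathlib
import Cfsg.Agent.Lib.Co0Trans
import Cfsg.Agent.Lib.LeechTheta
import Cfsg.Agent.Lib.GolayChain
import Cfsg.Prelude.Def_SporadicCombinatorics

/-!
# The order of `Co0` and the monomial subgroup.
-/

set_option autoImplicit false
set_option linter.unusedSimpArgs false
set_option linter.unusedVariables false

open Cfsg Cfsg.Agent.Lib.Leech Cfsg.Agent.Lib.Co0Mono Cfsg.Agent.Lib.Co0Xi Cfsg.Agent.Lib.Co0Frame
open Cfsg.Agent.Lib.Co0Stab2 Cfsg.Agent.Lib.LeechFourForm Cfsg.Agent.S0398 Cfsg.Agent.Lib.Co0Trans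

namespace Cfsg.Agent.Lib.Co0Order

open Cfsg.Agent.Lib.LeechTheta (CF mem_CF sum_CF)

/-- The monomial subgroup. -/
def NN : Subgroup Co0 where
  carrier := {g | ∃ (c : Finset GolayPt) (σ : Equiv.Perm GolayPt) (hc : c ∈ codeSets) (hσ : σ ∈ M24),
    g = monoCo0 hc hσ}
  mul_mem' := by
    rintro _ _ ⟨c, σ, hc, hσ, rfl⟩ ⟨d, τ, hd, hτ, rfl⟩
    exact ⟨_, _, _, _, monoCo0_mul hc hd hσ hτ⟩
  one_mem' := ⟨∅, 1, empty_mem_codeSets, M24.one_mem, monoCo0_one.symm⟩
  inv_mem' := by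
    rintro _ ⟨c, σ, hc, hσ, rfl⟩
    exact ⟨_, _, _, _, monoCo0_inv hc hσ⟩

theorem card_CF : CF.card = 4096 :=
  (Finset.card_eq_sum_ones CF).trans (sum_CF (fun _ => 1))

theorem card_codeSets : Nat.card (codeSets : Set (Finset GolayPt)) = 4096 := by
  have h : (codeSets : Set (Finset GolayPt)) = (CF : Set (Finset GolayPt)) := by
    ext c
    simp [mem_CF]
  rw [h]
  simp [card_CF]

/-- The map from pairs to the monomial subgroup. -/
noncomputable def pairMap : ↥(codeSets : Set (Finset GolayPt)) × ↥M24 → NN :=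
  fun p => ⟨monoCo0 p.1.2 p.2.2, _, _, _, _, rfl⟩

theorem pairMap_bij : Function.Bijective pairMap := by
  constructor
  · rintro ⟨⟨c, hc⟩, ⟨σ, hσ⟩⟩ ⟨⟨d, hd⟩, ⟨τ, hτ⟩⟩ h
    have h1 := congrArg Subtype.val h
    obtain ⟨rfl, rfl⟩ := monoCo0_part_eq h1
    rfl
  · rintro ⟨_, c, σ, hc, hσ, rfl⟩
    exact ⟨⟨⟨c, hc⟩, ⟨σ, hσ⟩⟩, rfl⟩

theorem card_NN : Nat.card NN = 4096 * 244823040 := by
  rw [← Nat.card_congr (Equiv.ofBijective pairMap pairMap_bij), Nat.card_prod, card_codeSets,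
    Cfsg.Agent.Lib.Golay.card_M24]

/-! ### The stabilizer of `8 e_none` -/

theorem card_filter_half {F : Finset (Finset GolayPt)} (hF : ∀ c, c ∈ F ↔ c ∈ codeSets) (hc : F.card = 4096) :
    (F.filter fun c => (none : GolayPt) ∉ c).card = 2048 := by
  classical
  have h1 : (F.filter fun c => (none : GolayPt) ∉ c).card = (F.filter fun c => (none : GolayPt) ∈ c).card := by
    apply Finset.card_bij (fun c _ => cᶜ)
    · intro c hc
      obtain ⟨h2, h3⟩ := Finset.mem_filter.1 hc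
      exact Finset.mem_filter.2 ⟨(hF _).2 (compl_mem_codeSets ((hF _).1 h2)), by simpa using h3⟩
    · intro a _ b _ h
      exact compl_injective h
    · intro b hb
      obtain ⟨h2, h3⟩ := Finset.mem_filter.1 hb
      exact ⟨bᶜ, Finset.mem_filter.2 ⟨(hF _).2 (compl_mem_codeSets ((hF _).1 h2)), by simpa using h3⟩, by simp⟩
  have h2 := Finset.card_filter_add_card_filter_not (s := F) (fun c => (none : GolayPt) ∈ c)
  rw [hc] at h2
  omega

theorem card_CF_not : (CF.filter fun c => (none : GolayPt) ∉ c).card = 2048 :=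
  card_filter_half (fun _ => mem_CF) card_CF

theorem card_stab_pt : Nat.card {σ : M24 // (σ : Equiv.Perm GolayPt) none = none} = 10200960 := by
  have h1 : (MulAction.stabilizer M24 (none : GolayPt)).index = (MulAction.orbit M24 (none : GolayPt)).ncard :=
    MulAction.index_stabilizer _ _
  have h2 : MulAction.orbit M24 (none : GolayPt) = Set.univ := by
    ext p
    simp only [Set.mem_univ, iff_true]
    obtain ⟨σ, hσ⟩ := MulAction.exists_smul_eq M24 (none : GolayPt) p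
    exact ⟨σ, hσ⟩
  rw [h2, Set.ncard_univ, Nat.card_eq_fintype_card, card_golayPt] at h1
  have h3 := Subgroup.card_mul_index (MulAction.stabilizer M24 (none : GolayPt))
  rw [h1, Cfsg.Agent.Lib.Golay.card_M24] at h3
  have h4 : Nat.card {σ : M24 // (σ : Equiv.Perm GolayPt) none = none} =
      Nat.card (MulAction.stabilizer M24 (none : GolayPt)) := rfl
  rw [h4]
  omega

theorem mono_fix {c : Finset GolayPt} {σ : Equiv.Perm GolayPt} (hc : c ∈ codeSets) (hσ : σ ∈ M24) :
    ((monoCo0 hc hσ : Co0) : Equiv.Perm leechLattice) (e8 none) = e8 none ↔ none ∉ c ∧ σ none = none := by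
  constructor
  · intro h
    have h1 := congrFun (congrArg Subtype.val h) none
    rw [monoCo0_apply, mono_e8, e8_apply, if_pos rfl] at h1
    by_cases h2 : σ none = none
    · rw [if_pos h2] at h1
      refine ⟨fun h3 => ?_, h2⟩
      rw [if_pos h3] at h1
      norm_num at h1
    · rw [if_neg h2] at h1
      norm_num at h1
  · rintro ⟨h1, h2⟩
    apply Subtype.ext
    funext k
    rw [monoCo0_apply, mono_e8, e8_apply]
    by_cases h3 : k = none
    · subst h3
      rw [if_pos h2, if_neg h1, if_pos rfl]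
    · have h4 : σ k ≠ none := fun h5 => h3 (σ.injective (h5.trans h2.symm))
      rw [if_neg h4, if_neg h3]

/-- The map from pairs to the stabilizer. -/
noncomputable def stabMap : {c : ↥(codeSets : Set (Finset GolayPt)) // (none : GolayPt) ∉ c.1} ×
    {σ : ↥M24 // (σ : Equiv.Perm GolayPt) none = none} → MulAction.stabilizer Co0 (e8 none) :=
  fun p => ⟨monoCo0 p.1.1.2 p.2.1.2, (mono_fix _ _).2 ⟨p.1.2, p.2.2⟩⟩

theorem stabMap_bij : Function.Bijective stabMap := by
  constructor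
  · rintro ⟨⟨⟨c, hc⟩, h1⟩, ⟨⟨σ, hσ⟩, h2⟩⟩ ⟨⟨⟨d, hd⟩, h3⟩, ⟨⟨τ, hτ⟩, h4⟩⟩ h
    have h5 := congrArg Subtype.val h
    obtain ⟨rfl, rfl⟩ := monoCo0_part_eq h5
    rfl
  · rintro ⟨g, hg⟩
    have hg' : (g : Equiv.Perm leechLattice) (e8 none) = e8 none := hg
    obtain ⟨c, σ, hc, hσ, rfl⟩ := exists_mono_of_cong (i := none) (u := 0) (g := g) (by rw [hg']; simp)
    obtain ⟨h1, h2⟩ := (mono_fix hc hσ).1 hg'
    exact ⟨⟨⟨⟨c, hc⟩, h1⟩, ⟨⟨σ, hσ⟩, h2⟩⟩, rfl⟩

theorem card_stab : Nat.card (MulAction.stabilizer Co0 (e8 none)) = 2048 * 10200960 := by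
  rw [← Nat.card_congr (Equiv.ofBijective stabMap stabMap_bij), Nat.card_prod, card_stab_pt]
  congr 1
  have h : Nat.card {c : ↥(codeSets : Set (Finset GolayPt)) // (none : GolayPt) ∉ c.1} =
      Nat.card ((CF.filter fun c => (none : GolayPt) ∉ c) : Set (Finset GolayPt)) := by
    apply Nat.card_congr
    refine ⟨fun x => ⟨x.1.1, ?_⟩, fun y => ⟨⟨y.1, ?_⟩, ?_⟩, ?_, ?_⟩
    · simp only [Finset.coe_filter, Set.mem_ofPred_eq]
      exact ⟨mem_CF.2 x.1.2, x.2⟩
    · have := y.2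
      simp only [Finset.coe_filter, Set.mem_ofPred_eq] at this
      exact mem_CF.1 this.1
    · have := y.2
      simp only [Finset.coe_filter, Set.mem_ofPred_eq] at this
      exact this.2
    · intro x
      rfl
    · intro y
      rfl
  rw [h]
  simp [card_CF_not]

theorem orbit_e8 : MulAction.orbit Co0 (e8 none) = {v : leechLattice | sqNorm (v : GolayPt → ℤ) = 64} := by
  ext v
  constructor
  · rintro ⟨g, rfl⟩
    show sqNorm (((g : Equiv.Perm leechLattice) (e8 none) : leechLattice) : GolayPt → ℤ) = 64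
    rw [g.2.2, sqNorm_e8]
  · intro hv
    obtain ⟨g, hg⟩ := trans64 (e8 none) v (sqNorm_e8 _) hv
    exact ⟨g, hg⟩

theorem ncard_norm64 : {v : leechLattice | sqNorm (v : GolayPt → ℤ) = 64}.ncard = 398034000 := by
  rw [← Cfsg.Agent.Lib.LeechTheta.ncard64, ← Set.ncard_image_of_injective _ Subtype.val_injective]
  congr 1
  ext x
  constructor
  · rintro ⟨v, hv, rfl⟩
    exact ⟨v.2, hv⟩
  · rintro ⟨h1, h2⟩
    exact ⟨⟨x, h1⟩, h2, rfl⟩

theorem card_Co0 : Nat.card Co0 = 8315553613086720000 := by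
  have h1 := Subgroup.card_mul_index (MulAction.stabilizer Co0 (e8 none))
  rw [MulAction.index_stabilizer, orbit_e8, ncard_norm64, card_stab] at h1
  rw [← h1]

/-! ### Crosses -/

theorem stdCross_e8 {y : GolayPt → ℤ} (h : y ∈ stdCross) :
    ∃ (i : GolayPt) (t : ℤ), (t = 1 ∨ t = -1) ∧ y = ((t • e8 i : leechLattice) : GolayPt → ℤ) := by
  obtain ⟨i, s, hs, rfl⟩ := h
  rcases hs with rfl | rfl
  · refine ⟨i, 1, Or.inl rfl, ?_⟩
    simp only [one_smul]
    rfl
  · refine ⟨i, -1, Or.inr rfl, ?_⟩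
    funext k
    simp only [neg_smul, one_smul]
    show _ = -(e8 i : GolayPt → ℤ) k
    rw [e8_apply, Pi.single_apply]
    split_ifs <;> norm_num

theorem e8_stdCross (i : GolayPt) (t : ℤ) (ht : t = 1 ∨ t = -1) :
    ((t • e8 i : leechLattice) : GolayPt → ℤ) ∈ stdCross := by
  rcases ht with rfl | rfl
  · refine ⟨i, 8, Or.inl rfl, ?_⟩
    simp only [one_smul]
    rfl
  · refine ⟨i, -8, Or.inr rfl, ?_⟩
    funext k
    simp only [neg_smul, one_smul]
    show -(e8 i : GolayPt → ℤ) k = _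
    rw [e8_apply, Pi.single_apply]
    split_ifs <;> norm_num

/-- Stabilizing the standard cross. -/
def CrossStab (g : Co0) : Prop :=
  ∀ v : leechLattice, (v : GolayPt → ℤ) ∈ stdCross → ((g • v : leechLattice) : GolayPt → ℤ) ∈ stdCross

theorem crossStab_iff (g : Co0) : CrossStab g ↔ g ∈ NN := by
  constructor
  · intro h
    have h1 : ∀ j, ∃ (k : GolayPt) (t : ℤ), (t = 1 ∨ t = -1) ∧
        (g : Equiv.Perm leechLattice) (e8 j) = t • e8 k := by
      intro j
      have h2 := h (e8 j) (e8_stdCross j 1 (Or.inl rfl) |> fun h3 => by simpa using h3)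
      obtain ⟨k, t, ht, h3⟩ := stdCross_e8 h2
      exact ⟨k, t, ht, Subtype.ext h3⟩
    choose τ t ht hτ using h1
    obtain ⟨c, σ, hc, hσ, hg, -⟩ := exists_mono_of_frame ht hτ
    exact ⟨c, σ, hc, hσ, hg⟩
  · rintro ⟨c, σ, hc, hσ, rfl⟩ v hv
    obtain ⟨i, t, ht, h1⟩ := stdCross_e8 hv
    have hv' : v = t • e8 i := Subtype.ext h1
    subst hv'
    have h2 : (monoCo0 hc hσ) • (t • e8 i) = t • ((monoCo0 hc hσ) • e8 i) := by
      rcases ht with rfl | rfl
      · simp
      · simp only [neg_smul, one_smul]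
        exact co0_neg _ _
    rw [h2]
    rcases monoCo0_e8 hc hσ i with h3 | h3
    · have h4 : (monoCo0 hc hσ) • e8 i = e8 (σ⁻¹ i) := h3
      rw [h4]
      exact e8_stdCross _ _ ht
    · have h4 : (monoCo0 hc hσ) • e8 i = -e8 (σ⁻¹ i) := h3
      rw [h4, smul_neg, ← neg_smul]
      apply e8_stdCross
      rcases ht with rfl | rfl
      · right; rfl
      · left; rfl

end Cfsg.Agent.Lib.Co0Order
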