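import Mathlib
import Cfsg.Agent.Lib.Co0Trans
import Cfsg.Agent.Lib.LeechClasses
import Cfsg.Agent.Lib.LeechCong

/-!
# Pairs of short vectors: moves fixing `uab t0 t1`.
-/

set_option autoImplicit false
set_option linter.unusedSimpArgs false
set_option linter.unusedVariables false

open Cfsg Cfsg.Agent.Lib.Leech Cfsg.Agent.Lib.Co0Mono Cfsg.Agent.Lib.Co0Xi Cfsg.Agent.Lib.Co0Frame
open Cfsg.Agent.Lib.Co0Stab2 Cfsg.Agent.Lib.LeechFourForm Cfsg.Agent.S0398 Cfsg.Agent.Lib.Co0Trans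

namespace Cfsg.Agent.Lib.Co0Pair

/-- The standard short vector. -/
noncomputable abbrev v0 : leechLattice := uab t0 t1

theorem co0_add' (g : Co0) (v w : leechLattice) :
    (((g : Equiv.Perm leechLattice) (v + w) : leechLattice) : GolayPt → ℤ) =
      ((g : Equiv.Perm leechLattice) v : GolayPt → ℤ) + ((g : Equiv.Perm leechLattice) w : GolayPt → ℤ) := by
  rw [g.2.1 v w]
  rfl

/-- Elements of the group preserve the inner product. -/
theorem dot_co0 (g : Co0) (v w : leechLattice) :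
    dotInt ((g : Equiv.Perm leechLattice) v : GolayPt → ℤ) ((g : Equiv.Perm leechLattice) w : GolayPt → ℤ) =
      dotInt (v : GolayPt → ℤ) (w : GolayPt → ℤ) := by
  have h1 := g.2.2 (v + w)
  rw [co0_add'] at h1
  rw [Cfsg.Agent.Lib.Co0Mod.sqNorm_add', g.2.2 v, g.2.2 w] at h1
  have h2 : sqNorm ((v + w : leechLattice) : GolayPt → ℤ) = sqNorm (v : GolayPt → ℤ) + sqNorm (w : GolayPt → ℤ) +
      2 * dotInt (v : GolayPt → ℤ) (w : GolayPt → ℤ) := Cfsg.Agent.Lib.Co0Mod.sqNorm_add' _ _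
  rw [h2] at h1
  linarith

theorem dot_uab (x : GolayPt → ℤ) :
    dotInt (uab t0 t1 : GolayPt → ℤ) x = 4 * (x t0 - x t1) := by
  unfold dotInt
  simp only [uab_apply, sub_mul, ite_mul, zero_mul, Finset.sum_sub_distrib, Finset.sum_ite_eq',
    Finset.mem_univ, if_true]
  ring

/-- Monomial elements fixing the standard vector. -/
theorem fix_mono {c : Finset GolayPt} {σ : Equiv.Perm GolayPt} (hc : c ∈ codeSets) (hσ : σ ∈ M24)
    (h0 : t0 ∉ c) (h1 : t1 ∉ c) (s0 : σ t0 = t0) (s1 : σ t1 = t1) :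
    ((monoCo0 hc hσ : Co0) : Equiv.Perm leechLattice) v0 = v0 := by
  apply Subtype.ext
  funext k
  rw [monoCo0_apply, mono_apply, uab_apply, uab_apply]
  have e0 : σ k = t0 ↔ k = t0 := by
    constructor
    · intro h
      exact σ.injective (h.trans s0.symm)
    · rintro rfl
      exact s0
  have e1 : σ k = t1 ↔ k = t1 := by
    constructor
    · intro h
      exact σ.injective (h.trans s1.symm)
    · rintro rfl
      exact s1
  simp only [e0, e1]
  split_ifs with h2 h3 h4 h3 h4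
  all_goals first
    | rfl
    | (exfalso; subst_vars; contradiction)
    | (simp only [neg_sub, sub_self, sub_zero, zero_sub]; done)
    | skip

/-- A move fixing the standard vector. -/
theorem exists_move_fix (x : leechLattice) {c d : GolayPt} (hc0 : t0 ≠ c) (hc1 : t1 ≠ c) (hd0 : t0 ≠ d)
    (hd1 : t1 ≠ d) (hcd : c ≠ d) {c' d' S : ℤ}
    (hc : (x : GolayPt → ℤ) c ^ 2 = c' ^ 2) (hd : (x : GolayPt → ℤ) d ^ 2 = d' ^ 2)
    (hS : (x : GolayPt → ℤ) t0 + (x : GolayPt → ℤ) t1 + c' + d' = 2 * S) :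
    ∃ g : Co0, (g : Equiv.Perm leechLattice) v0 = v0 ∧
      ((g : Equiv.Perm leechLattice) x : GolayPt → ℤ) t0 = (x : GolayPt → ℤ) t0 - S ∧
      ((g : Equiv.Perm leechLattice) x : GolayPt → ℤ) t1 = (x : GolayPt → ℤ) t1 - S ∧
      ((g : Equiv.Perm leechLattice) x : GolayPt → ℤ) t2 = c' - S ∧
      ((g : Equiv.Perm leechLattice) x : GolayPt → ℤ) t3 = d' - S := by
  classical
  obtain ⟨t01, t02, t03, t12, t13, t23⟩ := t_ne
  obtain ⟨C, hC, h1, h2, h3, h4⟩ := exists_sign4 t01 hc0 hd0 hc1 hd1 hcd False False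
    (c' ≠ (x : GolayPt → ℤ) c) (d' ≠ (x : GolayPt → ℤ) d)
  obtain ⟨σ, s0, s1, s2, s3⟩ := exists_four t01 t02 t03 t12 t13 t23 t01 hc0 hd0 hc1 hd1 hcd
  set y : leechLattice := ((monoCo0 empty_mem_codeSets σ.2 : Co0) : Equiv.Perm leechLattice)
    (((eps hC : Co0) : Equiv.Perm leechLattice) x) with hy
  have key : ∀ {p : GolayPt} {p' : ℤ}, (x : GolayPt → ℤ) p ^ 2 = p' ^ 2 →
      (p ∈ C ↔ p' ≠ (x : GolayPt → ℤ) p) →
      (if p ∈ C then -(x : GolayPt → ℤ) p else (x : GolayPt → ℤ) p) = p' := by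
    intro p p' h5 h6
    split_ifs with h7
    · have h8 := h6.1 h7
      rcases sq_eq_sq_iff_eq_or_eq_neg.1 h5 with h9 | h9
      · exact absurd h9.symm h8
      · linarith
    · have h8 : ¬ p' ≠ (x : GolayPt → ℤ) p := fun h => h7 (h6.2 h)
      push Not at h8
      exact h8.symm
  have hyv : ∀ {j : GolayPt} {p : GolayPt} {p' : ℤ}, (σ : Equiv.Perm GolayPt) j = p →
      (x : GolayPt → ℤ) p ^ 2 = p' ^ 2 → (p ∈ C ↔ p' ≠ (x : GolayPt → ℤ) p) →
      (y : GolayPt → ℤ) j = p' := by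
    intro j p p' h5 h6 h7
    rw [hy, monoCo0_apply, mono_apply, if_neg (Finset.notMem_empty _), h5, eps_apply]
    exact key h6 h7
  have y0 := hyv (p' := (x : GolayPt → ℤ) t0) s0 rfl (by simpa using h1)
  have y1 := hyv (p' := (x : GolayPt → ℤ) t1) s1 rfl (by simpa using h2)
  have y2 := hyv s2 hc h3
  have y3 := hyv s3 hd h4
  have hh : hs (y : GolayPt → ℤ) 0 = S := by
    unfold hs Cfsg.Agent.Lib.Co0Xi.tsum
    show ((y : GolayPt → ℤ) t0 + (y : GolayPt → ℤ) t1 + (y : GolayPt → ℤ) t2 + (y : GolayPt → ℤ) t3) / 2 = S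
    rw [y0, y1, y2, y3, hS]
    simp
  have hz : ∀ j : Fin 4, (((xi : Co0) : Equiv.Perm leechLattice) y : GolayPt → ℤ) (tet 0 j) =
      (y : GolayPt → ℤ) (tet 0 j) - S := by
    intro j
    rw [xi_apply, xiF_tet, hh]
    simp only [sgn, if_true]
    ring
  refine ⟨xi * monoCo0 empty_mem_codeSets σ.2 * eps hC, ?_, ?_, ?_, ?_, ?_⟩
  · show ((xi : Co0) : Equiv.Perm leechLattice) (((monoCo0 empty_mem_codeSets σ.2 : Co0) : Equiv.Perm leechLattice)
      (((eps hC : Co0) : Equiv.Perm leechLattice) v0)) = v0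
    have h5 : (((eps hC : Co0) : Equiv.Perm leechLattice) v0) = v0 :=
      fix_mono hC M24.one_mem (by simpa using h1) (by simpa using h2) rfl rfl
    rw [h5, fix_mono empty_mem_codeSets σ.2 (by simp) (by simp) s0 s1]
    exact xi_uab
  · exact (hz 0).trans (by rw [show (y : GolayPt → ℤ) (tet 0 0) = _ from y0])
  · exact (hz 1).trans (by rw [show (y : GolayPt → ℤ) (tet 0 1) = _ from y1])
  · exact (hz 2).trans (by rw [show (y : GolayPt → ℤ) (tet 0 2) = _ from y2])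
  · exact (hz 3).trans (by rw [show (y : GolayPt → ℤ) (tet 0 3) = _ from y3])

/-- The swap. -/
theorem exists_swap (x : leechLattice) :
    ∃ g : Co0, (g : Equiv.Perm leechLattice) v0 = v0 ∧
      ((g : Equiv.Perm leechLattice) x : GolayPt → ℤ) t0 = -(x : GolayPt → ℤ) t1 ∧
      ((g : Equiv.Perm leechLattice) x : GolayPt → ℤ) t1 = -(x : GolayPt → ℤ) t0 := by
  obtain ⟨t01, -⟩ := t_ne
  obtain ⟨σ, s0, s1⟩ := Cfsg.Agent.Lib.M24Facts.exists_two t01 (Ne.symm t01)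
  refine ⟨monoCo0 univ_mem_codeSets σ.2, ?_, ?_, ?_⟩
  · apply Subtype.ext
    funext k
    rw [monoCo0_apply, mono_apply, if_pos (Finset.mem_univ _), uab_apply, uab_apply]
    have e0 : (σ : Equiv.Perm GolayPt) k = t0 ↔ k = t1 := by
      constructor
      · intro h
        exact (σ : Equiv.Perm GolayPt).injective (h.trans s1.symm)
      · rintro rfl
        exact s1
    have e1 : (σ : Equiv.Perm GolayPt) k = t1 ↔ k = t0 := by
      constructor
      · intro h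
        exact (σ : Equiv.Perm GolayPt).injective (h.trans s0.symm)
      · rintro rfl
        exact s0
    simp only [e0, e1]
    ring
  · rw [monoCo0_apply, mono_apply, if_pos (Finset.mem_univ _)]
    exact congrArg (fun t => -(x : GolayPt → ℤ) t) s0
  · rw [monoCo0_apply, mono_apply, if_pos (Finset.mem_univ _)]
    exact congrArg (fun t => -(x : GolayPt → ℤ) t) s1

/-- A permutation moving one more point, fixing the standard vector. -/
theorem exists_perm_fix (x : leechLattice) {e : GolayPt} (h0 : e ≠ t0) (h1 : e ≠ t1) :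
    ∃ (g : Co0) (σ : Equiv.Perm GolayPt), (g : Equiv.Perm leechLattice) v0 = v0 ∧ σ t0 = t0 ∧ σ t1 = t1 ∧
      σ t2 = e ∧ ∀ k, ((g : Equiv.Perm leechLattice) x : GolayPt → ℤ) k = (x : GolayPt → ℤ) (σ k) := by
  classical
  obtain ⟨t01, t02, t03, t12, t13, t23⟩ := t_ne
  obtain ⟨f, hf⟩ : ∃ f : GolayPt, f ≠ t0 ∧ f ≠ t1 ∧ f ≠ e := by
    by_contra hcon
    push Not at hcon
    have h2 : (Finset.univ : Finset GolayPt) ⊆ {t0, t1, e} := by
      intro i _
      by_cases h3 : i = t0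
      · simp [h3]
      by_cases h4 : i = t1
      · simp [h4]
      simp [hcon i h3 h4]
    have h3 := Finset.card_le_card h2
    rw [Finset.card_univ, card_golayPt] at h3
    have h4 : ({t0, t1, e} : Finset GolayPt).card ≤ 3 := Finset.card_le_three
    omega
  obtain ⟨σ, s0, s1, s2, s3⟩ := exists_four t01 t02 t03 t12 t13 t23 t01 (Ne.symm h0) (Ne.symm hf.1)
    (Ne.symm h1) (Ne.symm hf.2.1) (Ne.symm hf.2.2)
  refine ⟨monoCo0 empty_mem_codeSets σ.2, σ, fix_mono empty_mem_codeSets σ.2 (by simp) (by simp) s0 s1,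
    s0, s1, s2, ?_⟩
  intro k
  rw [monoCo0_apply, mono_apply, if_neg (Finset.notMem_empty _)]

/-- Two vectors with the same absolute values, odd, congruent on a pair of coordinates, differ by a sign change. -/
theorem exists_eps_link (x y : leechLattice) (hodd : ∀ k, (x : GolayPt → ℤ) k % 2 = 1)
    (habs : ∀ k, (x : GolayPt → ℤ) k ^ 2 = (y : GolayPt → ℤ) k ^ 2)
    (h0 : (x : GolayPt → ℤ) t0 = (y : GolayPt → ℤ) t0) (h1 : (x : GolayPt → ℤ) t1 = (y : GolayPt → ℤ) t1) :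
    ∃ g : Co0, (g : Equiv.Perm leechLattice) v0 = v0 ∧ (g : Equiv.Perm leechLattice) x = y := by
  classical
  have hz : ((x - y : leechLattice) : GolayPt → ℤ) ∈ leechLattice := (x - y).2
  rw [mem_leechLattice_iff_leechSet] at hz
  obtain ⟨m, -, -, hm⟩ := hz
  have hC := hm 2
  have hmem : ∀ k, k ∈ (Finset.univ.filter fun i => ((x - y : leechLattice) : GolayPt → ℤ) i ≡ 2 [ZMOD 4]) ↔
      (x : GolayPt → ℤ) k ≠ (y : GolayPt → ℤ) k := by
    intro k
    rw [Finset.mem_filter]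
    simp only [Finset.mem_univ, true_and, Int.ModEq]
    have h2 : ((x - y : leechLattice) : GolayPt → ℤ) k = (x : GolayPt → ℤ) k - (y : GolayPt → ℤ) k := rfl
    rw [h2]
    have h3 := hodd k
    rcases sq_eq_sq_iff_eq_or_eq_neg.1 (habs k) with h4 | h4
    · rw [h4]
      simp
    · rw [h4] at h3 ⊢
      have h5 : (y : GolayPt → ℤ) k ≠ -(y : GolayPt → ℤ) k := by omega
      constructor
      · intro _
        exact fun h6 => h5 h6.symm
      · intro _
        norm_num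
        omega
  refine ⟨eps hC, fix_mono hC M24.one_mem ?_ ?_ rfl rfl, Subtype.ext ?_⟩
  · rw [hmem]
    simpa using h0
  · rw [hmem]
    simpa using h1
  · funext k
    rw [eps_apply]
    split_ifs with h
    · rcases sq_eq_sq_iff_eq_or_eq_neg.1 (habs k) with h4 | h4
      · exact absurd h4 ((hmem k).1 h)
      · rw [h4]
        ring
    · by_contra h5
      exact h ((hmem k).2 h5)

/-- Two points avoiding two given points. -/
theorem two_avoid {x : GolayPt → ℤ} {v : ℤ} (h : 4 ≤ cnt x v) (p q : GolayPt) :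
    ∃ c d, x c ^ 2 = v ∧ x d ^ 2 = v ∧ p ≠ c ∧ q ≠ c ∧ p ≠ d ∧ q ≠ d ∧ c ≠ d := by
  classical
  have h1 : 1 < (((Finset.univ.filter fun i => x i ^ 2 = v).erase p).erase q).card := by
    have h2 := Finset.pred_card_le_card_erase (s := (Finset.univ.filter fun i => x i ^ 2 = v).erase p) (a := q)
    have h3 := Finset.pred_card_le_card_erase (s := Finset.univ.filter fun i => x i ^ 2 = v) (a := p)
    unfold cnt at h
    omega
  obtain ⟨c, hc, d, hd, hcd⟩ := Finset.one_lt_card.1 h1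
  obtain ⟨c1, c2⟩ := Finset.mem_erase.1 hc
  obtain ⟨c3, c4⟩ := Finset.mem_erase.1 c2
  obtain ⟨d1, d2⟩ := Finset.mem_erase.1 hd
  obtain ⟨d3, d4⟩ := Finset.mem_erase.1 d2
  exact ⟨c, d, (Finset.mem_filter.1 c4).2, (Finset.mem_filter.1 d4).2, Ne.symm c3, Ne.symm c1, Ne.symm d3,
    Ne.symm d1, hcd⟩

/-- A vector of squared length 32 with two coordinates `± 4` vanishes elsewhere. -/
theorem zero_of_two16 {x : GolayPt → ℤ} (hn : sqNorm x = 32) {p q : GolayPt} (hp : x p ^ 2 = 16)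
    (hq : x q ^ 2 = 16) (hpq : p ≠ q) {k : GolayPt} (h1 : k ≠ p) (h2 : k ≠ q) : x k = 0 := by
  classical
  have h3 : ∑ j, x j ^ 2 = 32 := hn
  rw [← Finset.add_sum_erase _ _ (Finset.mem_univ p), hp,
    ← Finset.add_sum_erase _ _ (Finset.mem_erase.2 ⟨Ne.symm hpq, Finset.mem_univ q⟩), hq] at h3
  have h4 : ∑ j ∈ (Finset.univ.erase p).erase q, x j ^ 2 = 0 := by linarith
  have h5 := (Finset.sum_eq_zero_iff_of_nonneg (fun j _ => sq_nonneg _)).1 h4 k
    (Finset.mem_erase.2 ⟨h2, Finset.mem_erase.2 ⟨h1, Finset.mem_univ _⟩⟩)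
  exact pow_eq_zero_iff (two_ne_zero) |>.1 h5

/-- Carrying a statement along elements fixing the standard vector. -/
def FR (P : leechLattice → Prop) (x : leechLattice) : Prop :=
  ∃ g : Co0, (g : Equiv.Perm leechLattice) v0 = v0 ∧ P ((g : Equiv.Perm leechLattice) x)

theorem FR.of_move {P : leechLattice → Prop} {x : leechLattice} {g : Co0}
    (hg : (g : Equiv.Perm leechLattice) v0 = v0) (h : FR P ((g : Equiv.Perm leechLattice) x)) : FR P x := by
  obtain ⟨k, hk, hP⟩ := h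
  refine ⟨k * g, ?_, hP⟩
  show (k : Equiv.Perm leechLattice) ((g : Equiv.Perm leechLattice) v0) = v0
  rw [hg, hk]

theorem eq_uab_of {y : leechLattice} (hn : sqNorm y.1 = 32) {a b : GolayPt} (hab : a ≠ b) (ha : y.1 a = 4)
    (hb : y.1 b = -4) : y = uab a b := by
  apply Subtype.ext
  funext k
  rw [uab_apply]
  by_cases h1 : k = a
  · subst h1
    rw [if_pos rfl, if_neg hab, ha]
    norm_num
  by_cases h2 : k = b
  · subst h2
    rw [if_neg h1, if_pos rfl, hb]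
    norm_num
  rw [if_neg h1, if_neg h2, zero_of_two16 hn (p := a) (q := b) (by rw [ha]; norm_num) (by rw [hb]; norm_num)
    hab h1 h2]
  norm_num

theorem exists_other {x : GolayPt → ℤ} {v : ℤ} (h : 2 ≤ cnt x v) (a : GolayPt) :
    ∃ e, x e ^ 2 = v ∧ a ≠ e := by
  obtain ⟨p, q, hp, hq, hpq⟩ := pts2 h
  by_cases h1 : a = p
  · exact ⟨q, hq, h1 ▸ hpq⟩
  · exact ⟨p, hp, h1⟩

theorem pt_avoid3 {x : GolayPt → ℤ} {v : ℤ} (h : 4 ≤ cnt x v) (a b c : GolayPt) :
    ∃ d, x d ^ 2 = v ∧ a ≠ d ∧ b ≠ d ∧ c ≠ d := by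
  classical
  have h1 : 0 < (((Finset.univ.filter fun i => x i ^ 2 = v).erase a).erase b |>.erase c).card := by
    have h2 := Finset.pred_card_le_card_erase (s := ((Finset.univ.filter fun i => x i ^ 2 = v).erase a).erase b) (a := c)
    have h3 := Finset.pred_card_le_card_erase (s := (Finset.univ.filter fun i => x i ^ 2 = v).erase a) (a := b)
    have h4 := Finset.pred_card_le_card_erase (s := Finset.univ.filter fun i => x i ^ 2 = v) (a := a)
    unfold cnt at h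
    omega
  obtain ⟨d, hd⟩ := Finset.card_pos.1 h1
  obtain ⟨d1, d2⟩ := Finset.mem_erase.1 hd
  obtain ⟨d3, d4⟩ := Finset.mem_erase.1 d2
  obtain ⟨d5, d6⟩ := Finset.mem_erase.1 d4
  exact ⟨d, (Finset.mem_filter.1 d6).2, Ne.symm d5, Ne.symm d3, Ne.symm d1⟩

/-- Transport from the standard vector to arbitrary pairs. -/
theorem lift {n d : ℤ}
    (H : ∀ x x' : leechLattice, sqNorm x.1 = n → sqNorm x'.1 = n → x.1 t0 - x.1 t1 = d → x'.1 t0 - x'.1 t1 = d →
      ∃ g : Co0, (g : Equiv.Perm leechLattice) v0 = v0 ∧ (g : Equiv.Perm leechLattice) x = x')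
    {v w v' w' : leechLattice} (hv : sqNorm v.1 = 32) (hv' : sqNorm v'.1 = 32) (hw : sqNorm w.1 = n)
    (hw' : sqNorm w'.1 = n) (hd : dotInt v.1 w.1 = 4 * d) (hd' : dotInt v'.1 w'.1 = 4 * d) :
    ∃ g : Co0, g • v = v' ∧ g • w = w' := by
  obtain ⟨a, ha⟩ := reach32 v hv
  obtain ⟨b, hb⟩ := reach32 v' hv'
  have e1 : (a.1 w).1 t0 - (a.1 w).1 t1 = d := by
    have h1 := dot_co0 a v w
    rw [ha, hd, dot_uab] at h1
    linarith
  have e2 : (b.1 w').1 t0 - (b.1 w').1 t1 = d := by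
    have h1 := dot_co0 b v' w'
    rw [hb, hd', dot_uab] at h1
    linarith
  obtain ⟨k, hk1, hk2⟩ := H (a.1 w) (b.1 w') ((norm_move a w).trans hw) ((norm_move b w').trans hw') e1 e2
  refine ⟨b⁻¹ * k * a, ?_, ?_⟩
  · show (b⁻¹ : Co0).1 (k.1 (a.1 v)) = v'
    rw [ha]
    rw [show k.1 (uab t0 t1) = uab t0 t1 from hk1, ← hb]
    show (b⁻¹ * b : Co0).1 v' = v'
    simp
  · show (b⁻¹ : Co0).1 (k.1 (a.1 w)) = w'
    rw [hk2]
    show (b⁻¹ * b : Co0).1 w' = w'
    simp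

theorem bound5 (x : leechLattice) (hn : sqNorm x.1 = 32) (k : GolayPt) : -5 ≤ x.1 k ∧ x.1 k ≤ 5 := by
  have h := sq_le_norm x.1 k
  rw [hn] at h
  constructor <;> nlinarith

/-! ### Orthogonal short vectors -/

section Orth

theorem orth_term (x : leechLattice) (hn : sqNorm x.1 = 32) (h0 : x.1 t0 = 0) (h1 : x.1 t1 = 0)
    (h16 : 1 ≤ cnt x.1 16) : FR (· = uab t2 t3) x := by
  obtain ⟨a, ha⟩ := pts1 h16
  have hev := even_of_sq x.2 (p := a) (by rw [ha]; norm_num)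
  have E := evenC x.2 hn (by norm_num) hev
  have h2 := E.norm
  have h3 := E.code
  obtain ⟨p, q, hp, hq, hpq⟩ := pts2 (show 2 ≤ cnt x.1 16 by omega)
  have hz0 : x.1 t0 ^ 2 = 0 := by rw [h0]; norm_num
  have hz1 : x.1 t1 ^ 2 = 0 := by rw [h1]; norm_num
  obtain ⟨-, -, -, -, -, t23⟩ := t_ne
  obtain ⟨g, hg, y0, y1, y2, y3⟩ := exists_move_fix x (c := p) (d := q) (ne_of_sq hz0 hp (by norm_num))
    (ne_of_sq hz1 hp (by norm_num)) (ne_of_sq hz0 hq (by norm_num)) (ne_of_sq hz1 hq (by norm_num)) hpq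
    (c' := 4) (d' := -4) (S := 0) (by rw [hp]; norm_num) (by rw [hq]; norm_num) (by rw [h0, h1]; norm_num)
  exact ⟨g, hg, eq_uab_of ((norm_move g x).trans hn) t23 (by rw [y2]; norm_num) (by rw [y3]; norm_num)⟩

theorem orth_two (x : leechLattice) (hn : sqNorm x.1 = 32) (h01 : x.1 t0 = x.1 t1)
    (h2 : x.1 t0 ^ 2 = 4) : FR (· = uab t2 t3) x := by
  have hev := even_of_sq x.2 (p := t0) (by rw [h2]; norm_num)
  have E := evenC x.2 hn (by norm_num) hev
  have h3 := E.norm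
  have h4 := E.code
  have h5 := cnt_ge1 h2
  obtain ⟨c, d, hc, hd, c0, c1, d0, d1, hcd⟩ := two_avoid (show 4 ≤ cnt x.1 4 by omega) t0 t1
  have h6 : x.1 t0 = 2 ∨ x.1 t0 = -2 := by
    rcases sq_eq_sq_iff_eq_or_eq_neg.1 (h2.trans (by norm_num : (4 : ℤ) = 2 ^ 2)) with h | h
    · exact Or.inl h
    · exact Or.inr h
  rcases h6 with h6 | h6
  · obtain ⟨g, hg, y0, y1, y2, y3⟩ := exists_move_fix x c0 c1 d0 d1 hcd (c' := 2) (d' := -2) (S := 2)
      (by rw [hc]; norm_num) (by rw [hd]; norm_num) (by rw [← h01, h6]; norm_num)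
    apply FR.of_move hg
    apply orth_term _ ((norm_move g x).trans hn) (by rw [y0, h6]; norm_num)
      (by rw [y1, ← h01, h6]; norm_num) (cnt_ge1 (a := t3) (by rw [y3]; norm_num))
  · obtain ⟨g, hg, y0, y1, y2, y3⟩ := exists_move_fix x c0 c1 d0 d1 hcd (c' := 2) (d' := -2) (S := -2)
      (by rw [hc]; norm_num) (by rw [hd]; norm_num) (by rw [← h01, h6]; norm_num)
    apply FR.of_move hg
    apply orth_term _ ((norm_move g x).trans hn) (by rw [y0, h6]; norm_num)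
      (by rw [y1, ← h01, h6]; norm_num) (cnt_ge1 (a := t2) (by rw [y2]; norm_num))

theorem orth_zero (x : leechLattice) (hn : sqNorm x.1 = 32) (h0 : x.1 t0 = 0) (h1 : x.1 t1 = 0) :
    FR (· = uab t2 t3) x := by
  by_cases h16 : 1 ≤ cnt x.1 16
  · exact orth_term x hn h0 h1 h16
  have hev := even_of_sq x.2 (p := t0) (by rw [h0]; norm_num)
  have E := evenC x.2 hn (by norm_num) hev
  have h3 := E.norm
  have h4a : cnt x.1 64 = 0 := by omega
  have h4b : cnt x.1 36 = 0 := by omega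
  obtain ⟨c, d, hc, hd, c0, c1, d0, d1, hcd⟩ := two_avoid (show 4 ≤ cnt x.1 4 by omega) t0 t1
  obtain ⟨g, hg, y0, y1, y2, y3⟩ := exists_move_fix x c0 c1 d0 d1 hcd (c' := 2) (d' := 2) (S := 2)
    (by rw [hc]; norm_num) (by rw [hd]; norm_num) (by rw [h0, h1]; norm_num)
  apply FR.of_move hg
  exact orth_two _ ((norm_move g x).trans hn) (by rw [y0, y1, h0, h1]) (by rw [y0, h0]; norm_num)

theorem orth_four (x : leechLattice) (hn : sqNorm x.1 = 32) (h01 : x.1 t0 = x.1 t1)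
    (h2 : x.1 t0 ^ 2 = 16) : FR (· = uab t2 t3) x := by
  obtain ⟨t01, -⟩ := t_ne
  have h2' : x.1 t1 ^ 2 = 16 := by rw [← h01, h2]
  have hev := even_of_sq x.2 (p := t0) (by rw [h2]; norm_num)
  have E := evenC x.2 hn (by norm_num) hev
  have h3 := E.norm
  have h4 := E.code
  have h5 := cnt_ge2 h2 h2' t01
  have h6 := E.total
  obtain ⟨c, d, hc, hd, c0, c1, d0, d1, hcd⟩ := two_avoid (show 4 ≤ cnt x.1 0 by omega) t0 t1
  obtain ⟨g, hg, y0, y1, y2, y3⟩ := exists_move_fix x c0 c1 d0 d1 hcd (c' := 0) (d' := 0) (S := x.1 t0)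
    (by rw [hc]; norm_num) (by rw [hd]; norm_num) (by rw [← h01]; ring)
  apply FR.of_move hg
  apply orth_term _ ((norm_move g x).trans hn) (by rw [y0]; ring) (by rw [y1, ← h01]; ring)
    (cnt_ge1 (a := t2) (by rw [y2, zero_sub, neg_sq, h2]))

theorem orth_one (x : leechLattice) (hn : sqNorm x.1 = 32) (h01 : x.1 t0 = x.1 t1)
    (h2 : x.1 t0 ^ 2 = 1) : FR (· = uab t2 t3) x := by
  have hev := odd_of_sq x.2 (p := t0) (by rw [h2]; norm_num)
  have E := oddC hn (by norm_num) hev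
  have h3 := E.norm
  have h4 := E.total
  obtain ⟨c, d, hc, hd, c0, c1, d0, d1, hcd⟩ := two_avoid (show 4 ≤ cnt x.1 1 by omega) t0 t1
  have h6 : x.1 t0 = 1 ∨ x.1 t0 = -1 := by
    rcases sq_eq_sq_iff_eq_or_eq_neg.1 (h2.trans (by norm_num : (1 : ℤ) = 1 ^ 2)) with h | h
    · exact Or.inl h
    · exact Or.inr h
  obtain ⟨g, hg, y0, y1, y2, y3⟩ := exists_move_fix x c0 c1 d0 d1 hcd (c' := 1) (d' := -1) (S := x.1 t0)
    (by rw [hc]; norm_num) (by rw [hd]; norm_num) (by rw [← h01]; ring)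
  apply FR.of_move hg
  exact orth_zero _ ((norm_move g x).trans hn) (by rw [y0]; ring) (by rw [y1, ← h01]; ring)

theorem orth_reach (x : leechLattice) (hn : sqNorm x.1 = 32) (h01 : x.1 t0 - x.1 t1 = 0) :
    FR (· = uab t2 t3) x := by
  obtain ⟨t01, -⟩ := t_ne
  have h01' : x.1 t0 = x.1 t1 := by linarith
  obtain ⟨b1, b2⟩ := bound5 x hn t0
  have hc : x.1 t0 = -5 ∨ x.1 t0 = -4 ∨ x.1 t0 = -3 ∨ x.1 t0 = -2 ∨ x.1 t0 = -1 ∨ x.1 t0 = 0 ∨
    x.1 t0 = 1 ∨ x.1 t0 = 2 ∨ x.1 t0 = 3 ∨ x.1 t0 = 4 ∨ x.1 t0 = 5 := by omega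
  have h25 : x.1 t0 ^ 2 ≠ 25 := by
    intro h
    have hev := odd_of_sq x.2 (p := t0) (by rw [h]; norm_num)
    have E := oddC hn (by norm_num) hev
    have h3 := E.norm
    have h4 := E.total
    have h5 := cnt_ge1 h
    omega
  have h9 : x.1 t0 ^ 2 ≠ 9 := by
    intro h
    have hev := odd_of_sq x.2 (p := t0) (by rw [h]; norm_num)
    have E := oddC hn (by norm_num) hev
    have h3 := E.norm
    have h4 := E.total
    have h5 := cnt_ge2 h (by rw [← h01', h]) t01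
    omega
  rcases hc with h | h | h | h | h | h | h | h | h | h | h
  · exact absurd (by rw [h]; norm_num) h25
  · exact orth_four x hn h01' (by rw [h]; norm_num)
  · exact absurd (by rw [h]; norm_num) h9
  · exact orth_two x hn h01' (by rw [h]; norm_num)
  · exact orth_one x hn h01' (by rw [h]; norm_num)
  · exact orth_zero x hn h (by rw [← h01', h])
  · exact orth_one x hn h01' (by rw [h]; norm_num)
  · exact orth_two x hn h01' (by rw [h]; norm_num)
  · exact absurd (by rw [h]; norm_num) h9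
  · exact orth_four x hn h01' (by rw [h]; norm_num)
  · exact absurd (by rw [h]; norm_num) h25

/-- Orthogonal short vectors: transitivity of pairs. -/
theorem pair0 {v w v' w' : leechLattice} (hv : sqNorm v.1 = 32) (hv' : sqNorm v'.1 = 32) (hw : sqNorm w.1 = 32)
    (hw' : sqNorm w'.1 = 32) (hd : dotInt v.1 w.1 = 0) (hd' : dotInt v'.1 w'.1 = 0) :
    ∃ g : Co0, g • v = v' ∧ g • w = w' := by
  apply lift (n := 32) (d := 0) _ hv hv' hw hw' (by rw [hd]; norm_num) (by rw [hd']; norm_num)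
  intro x x' hx hx' h1 h2
  obtain ⟨a, ha, ha'⟩ := orth_reach x hx h1
  obtain ⟨b, hb, hb'⟩ := orth_reach x' hx' h2
  refine ⟨b⁻¹ * a, ?_, ?_⟩
  · show (b⁻¹ : Co0).1 (a.1 v0) = v0
    rw [ha]
    nth_rw 1 [← hb]
    show (b⁻¹ * b : Co0).1 v0 = v0
    simp
  · show (b⁻¹ : Co0).1 (a.1 x) = x'
    rw [ha', ← hb']
    show (b⁻¹ * b : Co0).1 x' = x'
    simp

end Orth

/-- Composition for `FR`. -/
theorem FR.link {T : leechLattice} {x x' : leechLattice} (h1 : FR (· = T) x) (h2 : FR (· = T) x') :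
    ∃ g : Co0, (g : Equiv.Perm leechLattice) v0 = v0 ∧ (g : Equiv.Perm leechLattice) x = x' := by
  obtain ⟨a, ha, ha'⟩ := h1
  obtain ⟨b, hb, hb'⟩ := h2
  refine ⟨b⁻¹ * a, ?_, ?_⟩
  · show (b⁻¹ : Co0).1 (a.1 v0) = v0
    rw [ha]
    nth_rw 1 [← hb]
    show (b⁻¹ * b : Co0).1 v0 = v0
    simp
  · show (b⁻¹ : Co0).1 (a.1 x) = x'
    rw [ha', ← hb']
    show (b⁻¹ * b : Co0).1 x' = x'
    simp

/-! ### Inner product `-16` -/

section M16

theorem m16_term (x : leechLattice) (hn : sqNorm x.1 = 32) (h0 : x.1 t0 = -4) (h1 : x.1 t1 = 0) :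
    FR (· = uab t2 t0) x := by
  obtain ⟨t01, t02, t03, t12, t13, t23⟩ := t_ne
  have h00 : x.1 t0 ^ 2 = 16 := by rw [h0]; norm_num
  have hz1 : x.1 t1 ^ 2 = 0 := by rw [h1]; norm_num
  have hev := even_of_sq x.2 (p := t0) (by rw [h00]; norm_num)
  have E := evenC x.2 hn (by norm_num) hev
  have h2 := E.norm
  have h3 := E.code
  have h5 := E.total
  have h6 := cnt_ge1 h00
  obtain ⟨e, he, e0⟩ := exists_other (show 2 ≤ cnt x.1 16 by omega) t0
  have e1 : t1 ≠ e := ne_of_sq hz1 he (by norm_num)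
  obtain ⟨d, hd, d0, d1, de⟩ := pt_avoid3 (show 4 ≤ cnt x.1 0 by omega) t0 t1 e
  obtain ⟨g, hg, y0, y1, y2, y3⟩ := exists_move_fix x e0 e1 d0 d1 de (c' := 4) (d' := 0) (S := 0)
    (by rw [he]; norm_num) (by rw [hd]; norm_num) (by rw [h0, h1]; norm_num)
  exact ⟨g, hg, eq_uab_of ((norm_move g x).trans hn) (Ne.symm t02) (by rw [y2]; norm_num)
    (by rw [y0, h0]; norm_num)⟩

theorem m16_two (x : leechLattice) (hn : sqNorm x.1 = 32) (h0 : x.1 t0 = -2) (h1 : x.1 t1 = 2) :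
    FR (· = uab t2 t0) x := by
  have h00 : x.1 t0 ^ 2 = 4 := by rw [h0]; norm_num
  have hev := even_of_sq x.2 (p := t0) (by rw [h00]; norm_num)
  have E := evenC x.2 hn (by norm_num) hev
  have h2 := E.norm
  have h3 := E.code
  have h6 := cnt_ge1 h00
  obtain ⟨c, d, hc, hd, c0, c1, d0, d1, hcd⟩ := two_avoid (show 4 ≤ cnt x.1 4 by omega) t0 t1
  obtain ⟨g, hg, y0, y1, y2, y3⟩ := exists_move_fix x c0 c1 d0 d1 hcd (c' := 2) (d' := 2) (S := 2)
    (by rw [hc]; norm_num) (by rw [hd]; norm_num) (by rw [h0, h1]; norm_num)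
  apply FR.of_move hg
  exact m16_term _ ((norm_move g x).trans hn) (by rw [y0, h0]; norm_num) (by rw [y1, h1]; norm_num)

theorem m16_three (x : leechLattice) (hn : sqNorm x.1 = 32) (h0 : x.1 t0 = -3) (h1 : x.1 t1 = 1) :
    FR (· = uab t2 t0) x := by
  have h00 : x.1 t0 ^ 2 = 9 := by rw [h0]; norm_num
  have hev := odd_of_sq x.2 (p := t0) (by rw [h00]; norm_num)
  have E := oddC hn (by norm_num) hev
  have h2 := E.norm
  have h3 := E.total
  obtain ⟨c, d, hc, hd, c0, c1, d0, d1, hcd⟩ := two_avoid (show 4 ≤ cnt x.1 1 by omega) t0 t1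
  obtain ⟨g, hg, y0, y1, y2, y3⟩ := exists_move_fix x c0 c1 d0 d1 hcd (c' := 1) (d' := -1) (S := -1)
    (by rw [hc]; norm_num) (by rw [hd]; norm_num) (by rw [h0, h1]; norm_num)
  apply FR.of_move hg
  exact m16_two _ ((norm_move g x).trans hn) (by rw [y0, h0]; norm_num) (by rw [y1, h1]; norm_num)

theorem m16_reach (x : leechLattice) (hn : sqNorm x.1 = 32) (h01 : x.1 t0 - x.1 t1 = -4) :
    FR (· = uab t2 t0) x := by
  obtain ⟨b1, b2⟩ := bound5 x hn t0
  obtain ⟨b3, b4⟩ := bound5 x hn t1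
  have hc : (x.1 t0 = -5 ∧ x.1 t1 = -1) ∨ (x.1 t0 = -4 ∧ x.1 t1 = 0) ∨ (x.1 t0 = -3 ∧ x.1 t1 = 1) ∨
    (x.1 t0 = -2 ∧ x.1 t1 = 2) ∨ (x.1 t0 = -1 ∧ x.1 t1 = 3) ∨ (x.1 t0 = 0 ∧ x.1 t1 = 4) ∨
    (x.1 t0 = 1 ∧ x.1 t1 = 5) := by omega
  have h25 : ∀ k, x.1 k ^ 2 ≠ 25 := by
    intro k h
    have hev := odd_of_sq x.2 (p := k) (by rw [h]; norm_num)
    have E := oddC hn (by norm_num) hev
    have h3 := E.norm
    have h4 := E.total
    have h5 := cnt_ge1 h
    omega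
  have swap : ∀ (P : leechLattice → Prop), (∀ g : Co0, (g : Equiv.Perm leechLattice) v0 = v0 →
      (g.1 x).1 t0 = -x.1 t1 → (g.1 x).1 t1 = -x.1 t0 → FR P (g.1 x)) → FR P x := by
    intro P hP
    obtain ⟨g, hg, h1, h2⟩ := exists_swap x
    exact FR.of_move hg (hP g hg h1 h2)
  rcases hc with ⟨h, -⟩ | ⟨h, h'⟩ | ⟨h, h'⟩ | ⟨h, h'⟩ | ⟨h, h'⟩ | ⟨h, h'⟩ | ⟨-, h'⟩
  · exact absurd (by rw [h]; norm_num) (h25 t0)
  · exact m16_term x hn h h'
  · exact m16_three x hn h h'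
  · exact m16_two x hn h h'
  · apply swap
    intro g hg h1 h2
    exact m16_three _ ((norm_move g x).trans hn) (by rw [h1, h']) (by rw [h2, h]; norm_num)
  · apply swap
    intro g hg h1 h2
    exact m16_term _ ((norm_move g x).trans hn) (by rw [h1, h']) (by rw [h2, h]; norm_num)
  · exact absurd (by rw [h']; norm_num) (h25 t1)

/-- Short vectors of inner product `-16`: transitivity of pairs. -/
theorem pairM16 {v w v' w' : leechLattice} (hv : sqNorm v.1 = 32) (hv' : sqNorm v'.1 = 32) (hw : sqNorm w.1 = 32)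
    (hw' : sqNorm w'.1 = 32) (hd : dotInt v.1 w.1 = -16) (hd' : dotInt v'.1 w'.1 = -16) :
    ∃ g : Co0, g • v = v' ∧ g • w = w' := by
  apply lift (n := 32) (d := -4) _ hv hv' hw hw' (by rw [hd]; norm_num) (by rw [hd']; norm_num)
  intro x x' hx hx' h1 h2
  exact FR.link (m16_reach x hx h1) (m16_reach x' hx' h2)

end M16

/-! ### Inner product `-8` -/

section M8

/-- The terminal pattern. -/
def Pat8 (x : leechLattice) : Prop :=
  x.1 t0 = -1 ∧ x.1 t1 = 1 ∧ x.1 t2 ^ 2 = 9 ∧ ∀ k, k ≠ t2 → x.1 k ^ 2 = 1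

theorem m8_one (x : leechLattice) (hn : sqNorm x.1 = 32) (h0 : x.1 t0 = -1) (h1 : x.1 t1 = 1) :
    FR Pat8 x := by
  have h00 : x.1 t0 ^ 2 = 1 := by rw [h0]; norm_num
  have h11 : x.1 t1 ^ 2 = 1 := by rw [h1]; norm_num
  have hev := odd_of_sq x.2 (p := t0) (by rw [h00]; norm_num)
  have E := oddC hn (by norm_num) hev
  have h2 := E.norm
  have h3 := E.total
  have hV := values_odd hn (by norm_num) hev
  obtain ⟨e, he⟩ := pts1 (show 1 ≤ cnt x.1 9 by omega)
  have e0 : e ≠ t0 := ne_of_sq he h00 (by norm_num)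
  have e1 : e ≠ t1 := ne_of_sq he h11 (by norm_num)
  obtain ⟨g, σ, hg, s0, s1, s2, hk⟩ := exists_perm_fix x e0 e1
  refine ⟨g, hg, ?_, ?_, ?_, ?_⟩
  · rw [hk, s0, h0]
  · rw [hk, s1, h1]
  · rw [hk, s2, he]
  · intro k hk2
    rw [hk]
    have h4 := hV (σ k)
    simp only [Finset.mem_insert, Finset.mem_singleton] at h4
    rcases h4 with h4 | h4 | h4 | h4
    · exact h4
    · exfalso
      have h5 : σ k ≠ e := fun h6 => hk2 (σ.injective (h6.trans s2.symm))
      have := cnt_ge2 h4 he h5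
      omega
    · have := cnt_ge1 h4
      omega
    · have := cnt_ge1 h4
      omega

theorem m8_three (x : leechLattice) (hn : sqNorm x.1 = 32) (h0 : x.1 t0 = -3) (h1 : x.1 t1 = -1) :
    FR Pat8 x := by
  have h00 : x.1 t0 ^ 2 = 9 := by rw [h0]; norm_num
  have hev := odd_of_sq x.2 (p := t0) (by rw [h00]; norm_num)
  have E := oddC hn (by norm_num) hev
  have h2 := E.norm
  have h3 := E.total
  obtain ⟨c, d, hc, hd, c0, c1, d0, d1, hcd⟩ := two_avoid (show 4 ≤ cnt x.1 1 by omega) t0 t1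
  obtain ⟨g, hg, y0, y1, y2, y3⟩ := exists_move_fix x c0 c1 d0 d1 hcd (c' := 1) (d' := -1) (S := -2)
    (by rw [hc]; norm_num) (by rw [hd]; norm_num) (by rw [h0, h1]; norm_num)
  apply FR.of_move hg
  exact m8_one _ ((norm_move g x).trans hn) (by rw [y0, h0]; norm_num) (by rw [y1, h1]; norm_num)

theorem m8_two (x : leechLattice) (hn : sqNorm x.1 = 32) (h0 : x.1 t0 = -2) (h1 : x.1 t1 = 0) :
    FR Pat8 x := by
  have h00 : x.1 t0 ^ 2 = 4 := by rw [h0]; norm_num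
  have hev := even_of_sq x.2 (p := t0) (by rw [h00]; norm_num)
  have E := evenC x.2 hn (by norm_num) hev
  have h2 := E.norm
  have h3 := E.code
  have h6 := cnt_ge1 h00
  obtain ⟨c, d, hc, hd, c0, c1, d0, d1, hcd⟩ := two_avoid (show 4 ≤ cnt x.1 4 by omega) t0 t1
  obtain ⟨g, hg, y0, y1, y2, y3⟩ := exists_move_fix x c0 c1 d0 d1 hcd (c' := 2) (d' := 2) (S := 1)
    (by rw [hc]; norm_num) (by rw [hd]; norm_num) (by rw [h0, h1]; norm_num)
  apply FR.of_move hg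
  exact m8_three _ ((norm_move g x).trans hn) (by rw [y0, h0]; norm_num) (by rw [y1, h1]; norm_num)

theorem m8_reach (x : leechLattice) (hn : sqNorm x.1 = 32) (h01 : x.1 t0 - x.1 t1 = -2) : FR Pat8 x := by
  obtain ⟨t01, -⟩ := t_ne
  obtain ⟨b1, b2⟩ := bound5 x hn t0
  obtain ⟨b3, b4⟩ := bound5 x hn t1
  have hc : (x.1 t0 = -5 ∧ x.1 t1 = -3) ∨ (x.1 t0 = -4 ∧ x.1 t1 = -2) ∨ (x.1 t0 = -3 ∧ x.1 t1 = -1) ∨
    (x.1 t0 = -2 ∧ x.1 t1 = 0) ∨ (x.1 t0 = -1 ∧ x.1 t1 = 1) ∨ (x.1 t0 = 0 ∧ x.1 t1 = 2) ∨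
    (x.1 t0 = 1 ∧ x.1 t1 = 3) ∨ (x.1 t0 = 2 ∧ x.1 t1 = 4) ∨ (x.1 t0 = 3 ∧ x.1 t1 = 5) := by omega
  have h25 : ∀ k, x.1 k ^ 2 ≠ 25 := by
    intro k h
    have hev := odd_of_sq x.2 (p := k) (by rw [h]; norm_num)
    have E := oddC hn (by norm_num) hev
    have h3 := E.norm
    have h4 := E.total
    have h5 := cnt_ge1 h
    omega
  have h42 : ∀ a b : GolayPt, a ≠ b → x.1 a ^ 2 = 16 → x.1 b ^ 2 = 4 → False := by
    intro a b _ h1 h2
    have hev := even_of_sq x.2 (p := a) (by rw [h1]; norm_num)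
    have E := evenC x.2 hn (by norm_num) hev
    have h3 := E.norm
    have h4 := E.code
    have h5 := cnt_ge1 h1
    have h6 := cnt_ge1 h2
    omega
  have swap : ∀ (P : leechLattice → Prop), (∀ g : Co0, (g : Equiv.Perm leechLattice) v0 = v0 →
      (g.1 x).1 t0 = -x.1 t1 → (g.1 x).1 t1 = -x.1 t0 → FR P (g.1 x)) → FR P x := by
    intro P hP
    obtain ⟨g, hg, h1, h2⟩ := exists_swap x
    exact FR.of_move hg (hP g hg h1 h2)
  rcases hc with ⟨h, -⟩ | ⟨h, h'⟩ | ⟨h, h'⟩ | ⟨h, h'⟩ | ⟨h, h'⟩ | ⟨h, h'⟩ | ⟨h, h'⟩ | ⟨h, h'⟩ | ⟨-, h'⟩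
  · exact absurd (by rw [h]; norm_num) (h25 t0)
  · exact (h42 t0 t1 t01 (by rw [h]; norm_num) (by rw [h']; norm_num)).elim
  · exact m8_three x hn h h'
  · exact m8_two x hn h h'
  · exact m8_one x hn h h'
  · apply swap
    intro g hg h1 h2
    exact m8_two _ ((norm_move g x).trans hn) (by rw [h1, h']) (by rw [h2, h]; norm_num)
  · apply swap
    intro g hg h1 h2
    exact m8_three _ ((norm_move g x).trans hn) (by rw [h1, h']) (by rw [h2, h])
  · exact (h42 t1 t0 (Ne.symm t01) (by rw [h']; norm_num) (by rw [h]; norm_num)).elim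
  · exact absurd (by rw [h']; norm_num) (h25 t1)

theorem Pat8.link {x y : leechLattice} (hx : Pat8 x) (hy : Pat8 y) :
    ∃ g : Co0, (g : Equiv.Perm leechLattice) v0 = v0 ∧ (g : Equiv.Perm leechLattice) x = y := by
  obtain ⟨a0, a1, a2, a3⟩ := hx
  obtain ⟨b0, b1, b2, b3⟩ := hy
  apply exists_eps_link x y
  · exact odd_of_sq x.2 (p := t0) (by rw [a0]; norm_num)
  · intro k
    by_cases h : k = t2
    · rw [h, a2, b2]
    · rw [a3 k h, b3 k h]
  · rw [a0, b0]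
  · rw [a1, b1]

/-- Short vectors of inner product `-8`: transitivity of pairs. -/
theorem pairM8 {v w v' w' : leechLattice} (hv : sqNorm v.1 = 32) (hv' : sqNorm v'.1 = 32) (hw : sqNorm w.1 = 32)
    (hw' : sqNorm w'.1 = 32) (hd : dotInt v.1 w.1 = -8) (hd' : dotInt v'.1 w'.1 = -8) :
    ∃ g : Co0, g • v = v' ∧ g • w = w' := by
  apply lift (n := 32) (d := -2) _ hv hv' hw hw' (by rw [hd]; norm_num) (by rw [hd']; norm_num)
  intro x x' hx hx' h1 h2
  obtain ⟨a, ha, ha'⟩ := m8_reach x hx h1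
  obtain ⟨b, hb, hb'⟩ := m8_reach x' hx' h2
  obtain ⟨k, hk, hk'⟩ := Pat8.link ha' hb'
  refine ⟨b⁻¹ * k * a, ?_, ?_⟩
  · show (b⁻¹ : Co0).1 (k.1 (a.1 v0)) = v0
    rw [ha, hk]
    nth_rw 1 [← hb]
    show (b⁻¹ * b : Co0).1 v0 = v0
    simp
  · show (b⁻¹ : Co0).1 (k.1 (a.1 x)) = x'
    rw [hk']
    show (b⁻¹ * b : Co0).1 (x') = x'
    simp

end M8

end Cfsg.Agent.Lib.Co0Pair
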