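import Mathlib
import Cfsg.Agent.Lib.Co0Pair

/-!
# Pairs consisting of a short vector and a vector of squared length 48.
-/

set_option autoImplicit false
set_option linter.unusedSimpArgs false
set_option linter.unusedVariables false

open Cfsg Cfsg.Agent.Lib.Leech Cfsg.Agent.Lib.Co0Mono Cfsg.Agent.Lib.Co0Xi Cfsg.Agent.Lib.Co0Frame
open Cfsg.Agent.Lib.Co0Stab2 Cfsg.Agent.Lib.LeechFourForm Cfsg.Agent.S0398 Cfsg.Agent.Lib.Co0Trans
open Cfsg.Agent.Lib.Co0Pair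

namespace Cfsg.Agent.Lib.Co0Pair2

theorem two_others {x : GolayPt → ℤ} {v : ℤ} (h : 3 ≤ cnt x v) (p : GolayPt) :
    ∃ c d, x c ^ 2 = v ∧ x d ^ 2 = v ∧ p ≠ c ∧ p ≠ d ∧ c ≠ d := by
  classical
  have h1 : 1 < ((Finset.univ.filter fun i => x i ^ 2 = v).erase p).card := by
    have h3 := Finset.pred_card_le_card_erase (s := Finset.univ.filter fun i => x i ^ 2 = v) (a := p)
    unfold cnt at h
    omega
  obtain ⟨c, hc, d, hd, hcd⟩ := Finset.one_lt_card.1 h1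
  obtain ⟨c3, c4⟩ := Finset.mem_erase.1 hc
  obtain ⟨d3, d4⟩ := Finset.mem_erase.1 hd
  exact ⟨c, d, (Finset.mem_filter.1 c4).2, (Finset.mem_filter.1 d4).2, Ne.symm c3, Ne.symm d3, hcd⟩

/-- The terminal pattern. -/
def Pat5 (x : leechLattice) : Prop :=
  x.1 t0 = 5 ∧ x.1 t1 = 1 ∧ ∀ k, k ≠ t0 → x.1 k ^ 2 = 1

theorem p_five (x : leechLattice) (hn : sqNorm x.1 = 48) (h0 : x.1 t0 = 5) (h1 : x.1 t1 = 1) :
    FR Pat5 x := by
  have h00 : x.1 t0 ^ 2 = 25 := by rw [h0]; norm_num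
  have hev := odd_of_sq x.2 (p := t0) (by rw [h00]; norm_num)
  have E := oddC hn (by norm_num) hev
  have h2 := E.norm
  have h3 := E.total
  have hV := values_odd hn (by norm_num) hev
  have h5 := cnt_ge1 h00
  refine ⟨1, rfl, h0, h1, ?_⟩
  intro k hk
  have h4 := hV k
  simp only [Finset.mem_insert, Finset.mem_singleton] at h4
  rcases h4 with h4 | h4 | h4 | h4
  · exact h4
  · have := cnt_ge1 h4
    omega
  · exfalso
    have := cnt_ge2 h4 h00 hk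
    omega
  · have := cnt_ge1 h4
    omega

theorem p_three (x : leechLattice) (hn : sqNorm x.1 = 48) (h0 : x.1 t0 = 3) (h1 : x.1 t1 = -1) :
    FR Pat5 x := by
  have h00 : x.1 t0 ^ 2 = 9 := by rw [h0]; norm_num
  have h11 : x.1 t1 ^ 2 = 1 := by rw [h1]; norm_num
  have hev := odd_of_sq x.2 (p := t0) (by rw [h00]; norm_num)
  have E := oddC hn (by norm_num) hev
  have h2 := E.norm
  have h3 := E.total
  have h5 := cnt_ge1 h00
  obtain ⟨c, d, hc, hd, c0, d0, hcd⟩ := two_others (show 3 ≤ cnt x.1 9 by omega) t0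
  obtain ⟨g, hg, y0, y1, y2, y3⟩ := exists_move_fix x c0 (ne_of_sq h11 hc (by norm_num)) d0
    (ne_of_sq h11 hd (by norm_num)) hcd (c' := -3) (d' := -3) (S := -2)
    (by rw [hc]; norm_num) (by rw [hd]; norm_num) (by rw [h0, h1]; norm_num)
  apply FR.of_move hg
  exact p_five _ ((norm_move g x).trans hn) (by rw [y0, h0]; norm_num) (by rw [y1, h1]; norm_num)

theorem p_four (x : leechLattice) (hn : sqNorm x.1 = 48) (h0 : x.1 t0 = 4) (h1 : x.1 t1 = 0) :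
    FR Pat5 x := by
  have h00 : x.1 t0 ^ 2 = 16 := by rw [h0]; norm_num
  have h11 : x.1 t1 ^ 2 = 0 := by rw [h1]; norm_num
  have hev := even_of_sq x.2 (p := t0) (by rw [h00]; norm_num)
  have E := evenC x.2 hn (by norm_num) hev
  have h2 := E.norm
  have h3 := E.code
  have h4 : cnt x.1 4 + cnt x.1 36 ≠ 0 := by
    intro h
    have := E.dvd h
    norm_num at this
  have h6 := E.total
  have h5 := cnt_ge1 h00
  obtain ⟨c, d, hc, hd, c0, c1, d0, d1, hcd⟩ := two_avoid (show 4 ≤ cnt x.1 4 by omega) t0 t1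
  obtain ⟨e, he, e0, e1, ec⟩ := pt_avoid3 (show 4 ≤ cnt x.1 0 by omega) t0 t1 c
  obtain ⟨g, hg, y0, y1, y2, y3⟩ := exists_move_fix x c0 c1 e0 e1 ec (c' := -2) (d' := 0) (S := 1)
    (by rw [hc]; norm_num) (by rw [he]; norm_num) (by rw [h0, h1]; norm_num)
  apply FR.of_move hg
  exact p_three _ ((norm_move g x).trans hn) (by rw [y0, h0]; norm_num) (by rw [y1, h1]; norm_num)

theorem p_three' (x : leechLattice) (hn : sqNorm x.1 = 48) (h0 : x.1 t0 = 1) (h1 : x.1 t1 = -3) :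
    FR Pat5 x := by
  obtain ⟨g, hg, y0, y1⟩ := exists_swap x
  apply FR.of_move hg
  exact p_three _ ((norm_move g x).trans hn) (by rw [y0, h1]; norm_num) (by rw [y1, h0])

theorem p_two (x : leechLattice) (hn : sqNorm x.1 = 48) (h0 : x.1 t0 = 2) (h1 : x.1 t1 = -2) :
    FR Pat5 x := by
  have h00 : x.1 t0 ^ 2 = 4 := by rw [h0]; norm_num
  have hev := even_of_sq x.2 (p := t0) (by rw [h00]; norm_num)
  have E := evenC x.2 hn (by norm_num) hev
  have h2 := E.norm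
  have h3 := E.code
  have h4 : cnt x.1 4 + cnt x.1 36 ≠ 0 := by
    intro h
    have := E.dvd h
    norm_num at this
  have h6 := E.total
  have h5 := cnt_ge1 h00
  obtain ⟨c, d, hc, hd, c0, c1, d0, d1, hcd⟩ := two_avoid (show 4 ≤ cnt x.1 4 by omega) t0 t1
  obtain ⟨e, he, e0, e1, ec⟩ := pt_avoid3 (show 4 ≤ cnt x.1 0 by omega) t0 t1 c
  obtain ⟨g, hg, y0, y1, y2, y3⟩ := exists_move_fix x c0 c1 e0 e1 ec (c' := 2) (d' := 0) (S := 1)
    (by rw [hc]; norm_num) (by rw [he]; norm_num) (by rw [h0, h1]; norm_num)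
  apply FR.of_move hg
  exact p_three' _ ((norm_move g x).trans hn) (by rw [y0, h0]; norm_num) (by rw [y1, h1]; norm_num)

theorem bound6 (x : leechLattice) (hn : sqNorm x.1 = 48) (k : GolayPt) : -6 ≤ x.1 k ∧ x.1 k ≤ 6 := by
  have h := sq_le_norm x.1 k
  rw [hn] at h
  constructor <;> nlinarith

theorem p_reach (x : leechLattice) (hn : sqNorm x.1 = 48) (h01 : x.1 t0 - x.1 t1 = 4) : FR Pat5 x := by
  obtain ⟨b1, b2⟩ := bound6 x hn t0
  obtain ⟨b3, b4⟩ := bound6 x hn t1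
  have hc : (x.1 t0 = 6 ∧ x.1 t1 = 2) ∨ (x.1 t0 = 5 ∧ x.1 t1 = 1) ∨ (x.1 t0 = 4 ∧ x.1 t1 = 0) ∨
    (x.1 t0 = 3 ∧ x.1 t1 = -1) ∨ (x.1 t0 = 2 ∧ x.1 t1 = -2) ∨ (x.1 t0 = 1 ∧ x.1 t1 = -3) ∨
    (x.1 t0 = 0 ∧ x.1 t1 = -4) ∨ (x.1 t0 = -1 ∧ x.1 t1 = -5) ∨ (x.1 t0 = -2 ∧ x.1 t1 = -6) := by omega
  have h36 : ∀ k, x.1 k ^ 2 ≠ 36 := by
    intro k h
    have hev := even_of_sq x.2 (p := k) (by rw [h]; norm_num)
    have E := evenC x.2 hn (by norm_num) hev
    have h3 := E.norm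
    have h4 := E.code
    have h5 := cnt_ge1 h
    omega
  rcases hc with ⟨h, -⟩ | ⟨h, h'⟩ | ⟨h, h'⟩ | ⟨h, h'⟩ | ⟨h, h'⟩ | ⟨h, h'⟩ | ⟨h, h'⟩ | ⟨h, h'⟩ | ⟨-, h'⟩
  · exact absurd (by rw [h]; norm_num) (h36 t0)
  · exact p_five x hn h h'
  · exact p_four x hn h h'
  · exact p_three x hn h h'
  · exact p_two x hn h h'
  · exact p_three' x hn h h'
  · obtain ⟨g, hg, y0, y1⟩ := exists_swap x
    apply FR.of_move hg
    exact p_four _ ((norm_move g x).trans hn) (by rw [y0, h']; norm_num) (by rw [y1, h]; norm_num)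
  · obtain ⟨g, hg, y0, y1⟩ := exists_swap x
    apply FR.of_move hg
    exact p_five _ ((norm_move g x).trans hn) (by rw [y0, h']; norm_num) (by rw [y1, h]; norm_num)
  · exact absurd (by rw [h']; norm_num) (h36 t1)

theorem Pat5.link {x y : leechLattice} (hx : Pat5 x) (hy : Pat5 y) :
    ∃ g : Co0, (g : Equiv.Perm leechLattice) v0 = v0 ∧ (g : Equiv.Perm leechLattice) x = y := by
  obtain ⟨a0, a1, a3⟩ := hx
  obtain ⟨b0, b1, b3⟩ := hy
  apply exists_eps_link x y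
  · exact odd_of_sq x.2 (p := t0) (by rw [a0]; norm_num)
  · intro k
    by_cases h : k = t0
    · rw [h, a0, b0]
    · rw [a3 k h, b3 k h]
  · rw [a0, b0]
  · rw [a1, b1]

/-- A short vector and a vector of squared length 48 with inner product 16: transitivity of pairs. -/
theorem pairP16 {v w v' w' : leechLattice} (hv : sqNorm v.1 = 32) (hv' : sqNorm v'.1 = 32) (hw : sqNorm w.1 = 48)
    (hw' : sqNorm w'.1 = 48) (hd : dotInt v.1 w.1 = 16) (hd' : dotInt v'.1 w'.1 = 16) :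
    ∃ g : Co0, g • v = v' ∧ g • w = w' := by
  apply lift (n := 48) (d := 4) _ hv hv' hw hw' (by rw [hd]; norm_num) (by rw [hd']; norm_num)
  intro x x' hx hx' h1 h2
  obtain ⟨a, ha, ha'⟩ := p_reach x hx h1
  obtain ⟨b, hb, hb'⟩ := p_reach x' hx' h2
  obtain ⟨k, hk, hk'⟩ := Pat5.link ha' hb'
  refine ⟨b⁻¹ * k * a, ?_, ?_⟩
  · show (b⁻¹ : Co0).1 (k.1 (a.1 v0)) = v0
    rw [ha, hk]
    nth_rw 1 [← hb]
    show (b⁻¹ * b : Co0).1 v0 = v0
    simp
  · show (b⁻¹ : Co0).1 (k.1 (a.1 x)) = x'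
    rw [hk']
    show (b⁻¹ * b : Co0).1 (x') = x'
    simp

end Cfsg.Agent.Lib.Co0Pair2
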