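import Mathlib

set_option autoImplicit false
set_option linter.unusedVariables false

/-!
# Arithmetic of the orbits of a subgroup on 98280 points

The finite search behind the analysis of a subgroup of order `42305421312000` with at most four orbits.
-/

namespace Cfsg.Agent.Lib.Co1Num

/-- the order of the subgroup divided by `23 * 11` -/
def DD : ℕ := 167215104000

/-- the order of the subgroup divided by `23` -/
def D2 : ℕ := 1839366144000

/-- implication of booleans -/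
def imp (p q : Bool) : Bool := Bool.rec true q p

theorem imp_spec {p q : Bool} (h : imp p q = true) (hp : p = true) : q = true := by
  subst hp
  exact h

theorem bq {a b : ℕ} (h : a = b) : Nat.beq a b = true := by
  subst h
  exact Nat.beq_refl a

theorem bl {a b : ℕ} (h : a ≤ b) : Nat.ble a b = true := Nat.ble_eq_true_of_le h

/-- a bounded loop -/
noncomputable def allB (n : ℕ) (p : ℕ → Bool) : Bool := Nat.rec true (fun i r => and (p i) r) n

theorem allB_spec {n : ℕ} {p : ℕ → Bool} (h : allB n p = true) {i : ℕ} (hi : i < n) : p i = true := by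
  induction n with
  | zero => omega
  | succ n ih =>
    have e : allB (n + 1) p = and (p n) (allB n p) := rfl
    rw [e, Bool.and_eq_true] at h
    rcases Nat.lt_succ_iff_lt_or_eq.1 hi with h1 | h1
    · exact ih h.2 h1
    · rw [h1]
      exact h.1

/-- a loop on a list -/
noncomputable def allL (l : List ℕ) (p : ℕ → Bool) : Bool := List.rec true (fun a _ r => and (p a) r) l

theorem allL_spec {l : List ℕ} {p : ℕ → Bool} (h : allL l p = true) {i : ℕ} (hi : i ∈ l) : p i = true := by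
  induction l with
  | nil => simp at hi
  | cons a l ih =>
    have e : allL (a :: l) p = and (p a) (allL l p) := rfl
    rw [e, Bool.and_eq_true] at h
    rcases List.mem_cons.1 hi with h1 | h1
    · rw [h1]
      exact h.1
    · exact ih h.2 h1

/-- membership in a list -/
noncomputable def memL (a : ℕ) (l : List ℕ) : Bool := List.rec false (fun b _ r => or (Nat.beq a b) r) l

theorem memL_of_mem {a : ℕ} {l : List ℕ} (h : a ∈ l) : memL a l = true := by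
  induction l with
  | nil => simp at h
  | cons b l ih =>
    have e : memL a (b :: l) = or (Nat.beq a b) (memL a l) := rfl
    rw [e, Bool.or_eq_true]
    rcases List.mem_cons.1 h with h1 | h1
    · exact Or.inl (bq h1)
    · exact Or.inr (ih h1)

theorem mem_of_memL {a : ℕ} {l : List ℕ} (h : memL a l = true) : a ∈ l := by
  induction l with
  | nil => exact absurd h (by simp [memL])
  | cons b l ih =>
    have e : memL a (b :: l) = or (Nat.beq a b) (memL a l) := rfl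
    rw [e, Bool.or_eq_true] at h
    rcases h with h1 | h1
    · rw [Nat.eq_of_beq_eq_true h1]
      simp
    · exact List.mem_cons_of_mem _ (ih h1)

/-- the allowed pairs of the first stage -/
def allowed1 (s0 a1 : ℕ) : Bool :=
  or (and (Nat.beq s0 24) (Nat.beq a1 0)) <| or (and (Nat.beq s0 300) (Nat.beq a1 46)) <|
    or (and (Nat.beq s0 576) (Nat.beq a1 23)) <| or (and (Nat.beq s0 48600) (Nat.beq a1 2277)) <|
    and (Nat.beq s0 49152) (Nat.beq a1 2300)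

/-- one test of the first stage, with the second and third numbers `b` and `c` -/
def test1b (s0 a1 b c : ℕ) : Bool :=
  imp (Nat.beq (b % 23) 0) <| imp (Nat.ble (b % 11) 2) <| imp (Nat.beq (c % 23) 0) <| imp (Nat.ble (c % 11) 1) <|
    imp (Nat.ble (3 * (s0 * (4600 - a1)) ^ 2 + (98280 - s0) * (3 * s0 * a1 ^ 2))
      ((98280 - s0) * (s0 * (168 * a1 + 4560 + 638 * s0)))) <| allowed1 s0 a1

def test1 (s0 a1 : ℕ) : Bool :=
  imp (Nat.beq (2 * s0 % 3) 0) <| imp (Nat.ble (16 + 4 * a1) (2 * s0 / 3)) <| imp (Nat.ble (a1 % 11) 2) <|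
    imp (Nat.ble (1 + a1 + (2 * s0 / 3 - (16 + 4 * a1))) s0) <|
    test1b s0 a1 (2 * s0 / 3 - (16 + 4 * a1)) (s0 - (1 + a1 + (2 * s0 / 3 - (16 + 4 * a1))))

/-- the loop body of the first stage -/
noncomputable def p1 (m : ℕ) : Bool :=
  imp (Nat.beq (DD % (1 + 23 * m)) 0) <| allB 201 fun k => test1 (1 + 23 * m) (23 * k)

set_option maxRecDepth 100000 in
theorem stage1_ok : allB 4274 p1 = true := by decide +kernel

theorem stage1_at {m k : ℕ} (hm : m < 4274) (hk : k < 201) (h : DD % (1 + 23 * m) = 0) : test1 (1 + 23 * m) (23 * k) = true := by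
  have h1 : p1 m = true := allB_spec stage1_ok hm
  exact allB_spec (imp_spec h1 (bq h)) hk

theorem test1_spec {s0 a1 a2 a3 : ℕ} (h : test1 s0 a1 = true) (e2 : 2 * s0 / 3 - (16 + 4 * a1) = a2) (e3 : s0 - (1 + a1 + a2) = a3)
    (c1 : 2 * s0 % 3 = 0) (c2 : 16 + 4 * a1 ≤ 2 * s0 / 3) (c3 : 1 + a1 + a2 ≤ s0) (m1 : a1 % 11 ≤ 2) :
    test1b s0 a1 a2 a3 = true := by
  unfold test1 at h
  rw [e2, e3] at h
  exact imp_spec (imp_spec (imp_spec (imp_spec h (bq c1)) (bl c2)) (bl m1)) (bl c3)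

theorem test1b_spec {s0 a1 a2 a3 : ℕ} (h : test1b s0 a1 a2 a3 = true) (c4 : a2 % 23 = 0) (m2 : a2 % 11 ≤ 2) (c5 : a3 % 23 = 0) (m3 : a3 % 11 ≤ 1)
    (hvar : 3 * (s0 * (4600 - a1)) ^ 2 + (98280 - s0) * (3 * s0 * a1 ^ 2) ≤ (98280 - s0) * (s0 * (168 * a1 + 4560 + 638 * s0))) :
    allowed1 s0 a1 = true := by
  unfold test1b at h
  exact imp_spec (imp_spec (imp_spec (imp_spec (imp_spec h (bq c4)) (bl m2)) (bq c5)) (bl m3)) (bl hvar)

theorem num1_arith {s0 a1 a2 a3 : ℕ} (h0 : s0 = 1 + a1 + a2 + a3) (h3 : 3 * (16 + 4 * a1 + a2) = 2 * s0) :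
    2 * s0 / 3 - (16 + 4 * a1) = a2 ∧ s0 - (1 + a1 + a2) = a3 ∧ 2 * s0 % 3 = 0 ∧ 16 + 4 * a1 ≤ 2 * s0 / 3 ∧ 1 + a1 + a2 ≤ s0 := by
  omega

theorem num1_fin {s0 a1 a2 : ℕ} (h6 : allowed1 s0 a1 = true) (h3 : 3 * (16 + 4 * a1 + a2) = 2 * s0) :
    (s0 = 24 ∧ a1 = 0 ∧ a2 = 0) ∨ (s0 = 300 ∧ a1 = 46 ∧ a2 = 0) ∨ (s0 = 576 ∧ a1 = 23 ∧ a2 = 276) ∨
      (s0 = 48600 ∧ a1 = 2277 ∧ a2 = 23276) ∨ (s0 = 49152 ∧ a1 = 2300 ∧ a2 = 23552) := by
  simp only [allowed1, Bool.or_eq_true, Bool.and_eq_true, Nat.beq_eq] at h6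
  rcases h6 with ⟨rfl, rfl⟩ | ⟨rfl, rfl⟩ | ⟨rfl, rfl⟩ | ⟨rfl, rfl⟩ | ⟨rfl, rfl⟩
  · exact Or.inl ⟨rfl, rfl, by omega⟩
  · exact Or.inr (Or.inl ⟨rfl, rfl, by omega⟩)
  · exact Or.inr (Or.inr (Or.inl ⟨rfl, rfl, by omega⟩))
  · exact Or.inr (Or.inr (Or.inr (Or.inl ⟨rfl, rfl, by omega⟩)))
  · exact Or.inr (Or.inr (Or.inr (Or.inr ⟨rfl, rfl, by omega⟩)))

theorem num1 (s0 a1 a2 a3 : ℕ) (hs1 : 1 < s0) (h0 : s0 = 1 + a1 + a2 + a3) (h1 : 23 ∣ a1) (h2 : 23 ∣ a2) (h3' : 23 ∣ a3)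
    (hs : s0 ∣ DD) (h3 : 3 * (16 + 4 * a1 + a2) = 2 * s0) (m1 : a1 % 11 ≤ 2) (m2 : a2 % 11 ≤ 2) (m3 : a3 % 11 ≤ 1)
    (ha1 : a1 ≤ 4600) (hlt : s0 ≤ 98280)
    (hvar : 3 * (s0 * (4600 - a1)) ^ 2 + (98280 - s0) * (3 * s0 * a1 ^ 2) ≤ (98280 - s0) * (s0 * (168 * a1 + 4560 + 638 * s0))) :
    (s0 = 24 ∧ a1 = 0 ∧ a2 = 0) ∨ (s0 = 300 ∧ a1 = 46 ∧ a2 = 0) ∨ (s0 = 576 ∧ a1 = 23 ∧ a2 = 276) ∨
      (s0 = 48600 ∧ a1 = 2277 ∧ a2 = 23276) ∨ (s0 = 49152 ∧ a1 = 2300 ∧ a2 = 23552) := by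
  have c4 : a2 % 23 = 0 := Nat.mod_eq_zero_of_dvd h2
  have c5 : a3 % 23 = 0 := Nat.mod_eq_zero_of_dvd h3'
  obtain ⟨k, hk⟩ := h1
  obtain ⟨b, hb⟩ := h2
  obtain ⟨c, hc⟩ := h3'
  have hm' : s0 = 1 + 23 * (k + b + c) := by
    rw [h0, hk, hb, hc]
    ring
  obtain ⟨m, hm⟩ : ∃ m, m = k + b + c := ⟨_, rfl⟩
  rw [← hm] at hm'
  have hmlt : m < 4274 := by
    clear hvar hs m1 m2 m3 c4 c5 h3 h0 hk hb hc hm hs1 ha1
    omega
  have hkle : k < 201 := by
    clear hvar hs m1 m2 m3 c4 c5 h3 h0 hb hc hm hs1 hlt hm' hmlt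
    omega
  have hne : DD % (1 + 23 * m) = 0 := by
    rw [← hm']
    exact Nat.mod_eq_zero_of_dvd hs
  have h4 := stage1_at hmlt hkle hne
  rw [← hm', ← hk] at h4
  obtain ⟨e2, e3, c1, c2, c3⟩ := num1_arith h0 h3
  exact num1_fin (test1b_spec (test1_spec h4 e2 e3 c1 c2 c3 m1) c4 m2 c5 m3 hvar) h3

/-- the possible values of `d` -/
def dl : List ℕ := [0, 6, 12, 18, 24, 30, 36, 42, 48, 54, 60, 66, 72, 84, 90, 96, 108, 120, 126, 132, 144, 150, 162, 168, 180, 192, 198, 210, 216, 240, 252, 264, 270, 288, 300, 324, 330, 336, 360, 378, 384, 396, 420, 432, 450, 462, 480, 486, 504, 528, 540, 576, 594, 600, 630, 648, 660, 672, 720, 750, 756, 768, 792, 810, 840, 864, 900, 924, 960, 972, 990, 1008, 1050, 1056, 1080, 1134, 1152, 1188, 1200, 1260, 1296, 1320, 1344, 1350, 1386, 1440, 1458, 1500, 1512, 1536, 1584, 1620, 1650, 1680, 1728, 1782, 1800, 1848, 1890, 1920, 1944, 1980, 2016, 2100, 2112, 2160, 2250,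 2268, 2304, 2310, 2376, 2400, 2430, 2520, 2592, 2640, 2688, 2700, 2772, 2880, 2916, 2970, 3000, 3024, 3072, 3150, 3168, 3240, 3300, 3360, 3402, 3456, 3564, 3600, 3696, 3780, 3840, 3888, 3960, 4032, 4050, 4158, 4200, 4224]

set_option maxRecDepth 100000 in
theorem dl_chk : (allB 713 fun i => imp (Nat.beq (D2 % (6 * i)) 0) (memL (6 * i) dl)) = true := by decide +kernel

theorem mem_dl {d : ℕ} (hd : d ≤ 4273) (h6 : 6 ∣ d) (h : d = 0 ∨ d ∣ D2) : d ∈ dl := by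
  obtain ⟨i, rfl⟩ := h6
  have hi : i < 713 := by omega
  rcases h with h | h
  · have h0 : i = 0 := by omega
    subst h0
    decide
  · exact mem_of_memL (imp_spec (allB_spec dl_chk hi) (bq (Nat.mod_eq_zero_of_dvd h)))

/-- the allowed triples -/
def allowed2 (s0 d1 d2 d3 n1 n2 n3 : ℕ) : Bool :=
  or (and (Nat.beq s0 576) <| and (Nat.beq d1 792) <| and (Nat.beq d2 1344) <| and (Nat.beq d3 2112) <| and (Nat.beq n1 44) <| and (Nat.beq n2 56) (Nat.beq n3 99)) <|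
  or (and (Nat.beq s0 48600) <| and (Nat.beq d1 24) <| and (Nat.beq d2 486) <| and (Nat.beq d3 1650) <| and (Nat.beq n1 1) <| and (Nat.beq n2 23) (Nat.beq n3 77)) <|
  (and (Nat.beq s0 49152) <| and (Nat.beq d1 0) <| and (Nat.beq d2 24) <| and (Nat.beq d3 2112) <| and (Nat.beq n1 0) <| and (Nat.beq n2 1) (Nat.beq n3 99))

/-- the last test of the second stage -/
def test3 (s0 a1 d1 d2 d3 n1 n2 n3 : ℕ) : Bool :=
  imp (Nat.beq (s0 * n3 % d3) 0) <| imp (Nat.beq (a1 % 11 + (23 * n1) % 11 + (23 * n2) % 11 + (23 * n3) % 11) 2) <|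
    imp (Nat.beq (3 * (s0 * a1 ^ 2 + 23 * d1 * (s0 * n1 / d1) ^ 2 + 23 * d2 * (s0 * n2 / d2) ^ 2 + 23 * d3 * (s0 * n3 / d3) ^ 2))
      (s0 * (4560 + 168 * a1 + 638 * s0))) <| allowed2 s0 d1 d2 d3 n1 n2 n3

/-- the step of a loop -/
def stp (N d s0 : ℕ) : ℕ := Nat.rec (N + 1) (fun k _ => (k + 1) / Nat.gcd (k + 1) s0) d

/-- the loop on the numbers `n` -/
noncomputable def loopN (s0 a1 d1 d2 d3 N : ℕ) : Bool :=
  allB (N / stp N d1 s0 + 1) fun i1 =>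
    allB ((N - i1 * stp N d1 s0) / stp N d2 s0 + 1) fun i2 =>
      test3 s0 a1 d1 d2 d3 (i1 * stp N d1 s0) (i2 * stp N d2 s0) (N - i1 * stp N d1 s0 - i2 * stp N d2 s0)

/-- the second stage -/
noncomputable def stage2 (s0 a1 D N : ℕ) : Bool :=
  allL dl fun d1 => allL dl fun d2 => imp (Nat.ble d1 d2) <| imp (Nat.ble (d1 + d2 + d2) D) <|
    imp (Nat.beq (D2 % (D - d1 - d2)) 0) <|
    imp (Nat.beq (s0 % 11 + (23 * d1) % 11 + (23 * d2) % 11 + (23 * (D - d1 - d2)) % 11) 6) <|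
    loopN s0 a1 d1 d2 (D - d1 - d2) N

set_option maxRecDepth 100000 in
theorem stage2_576 : stage2 576 23 4248 199 = true := by decide +kernel

set_option maxRecDepth 100000 in
theorem stage2_48600 : stage2 48600 2277 2160 101 = true := by decide +kernel

set_option maxRecDepth 100000 in
theorem stage2_49152 : stage2 49152 2300 2136 100 = true := by decide +kernel

theorem term_eq {d c s n : ℕ} (hs : 0 < s) (h : d * c = s * n) : s * n % d = 0 ∧ d * (s * n / d) ^ 2 = d * c ^ 2 := by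
  refine ⟨Nat.mod_eq_zero_of_dvd ⟨c, h.symm⟩, ?_⟩
  rcases Nat.eq_zero_or_pos d with rfl | hd
  · simp
  · rw [← h, Nat.mul_div_cancel_left _ hd]

/-- a multiple of the step -/
theorem stp_dvd {N d s n : ℕ} (hs : 0 < s) (hn : n ≤ N) (h : s * n % d = 0) : stp N d s ∣ n := by
  cases d with
  | zero =>
    have h0 : s * n = 0 := by simpa using h
    have h1 : n = 0 := by
      rcases Nat.mul_eq_zero.1 h0 with h2 | h2
      · omega
      · exact h2
    rw [h1]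
    exact dvd_zero _
  | succ k =>
    show (k + 1) / Nat.gcd (k + 1) s ∣ n
    have hg : 0 < Nat.gcd (k + 1) s := Nat.gcd_pos_of_pos_left _ (by omega)
    have h1 : (k + 1) ∣ s * n := Nat.dvd_of_mod_eq_zero h
    have hc := Nat.coprime_div_gcd_div_gcd hg
    apply hc.dvd_of_dvd_mul_left
    obtain ⟨c, hc'⟩ := h1
    refine ⟨c, ?_⟩
    have e1 : (k + 1) / Nat.gcd (k + 1) s * Nat.gcd (k + 1) s = k + 1 := Nat.div_mul_cancel (Nat.gcd_dvd_left _ _)
    have e2 : s / Nat.gcd (k + 1) s * Nat.gcd (k + 1) s = s := Nat.div_mul_cancel (Nat.gcd_dvd_right _ _)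
    apply Nat.eq_of_mul_eq_mul_right hg
    calc s / Nat.gcd (k + 1) s * n * Nat.gcd (k + 1) s = (s / Nat.gcd (k + 1) s * Nat.gcd (k + 1) s) * n := by ring
      _ = s * n := by rw [e2]
      _ = (k + 1) * c := hc'
      _ = ((k + 1) / Nat.gcd (k + 1) s * Nat.gcd (k + 1) s) * c := by rw [e1]
      _ = (k + 1) / Nat.gcd (k + 1) s * c * Nat.gcd (k + 1) s := by ring

theorem stp_pos (N d s : ℕ) (hs : 0 < s) : 0 < stp N d s := by
  cases d with
  | zero => exact Nat.succ_pos N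
  | succ k =>
    show 0 < (k + 1) / Nat.gcd (k + 1) s
    exact Nat.div_pos (Nat.le_of_dvd (by omega) (Nat.gcd_dvd_left _ _)) (Nat.gcd_pos_of_pos_left _ (by omega))

theorem num2 (s0 a1 d1 d2 d3 n1 n2 n3 c1 c2 c3 D N : ℕ) (hst : stage2 s0 a1 D N = true) (hs0 : 0 < s0)
    (hD : D = d1 + d2 + d3) (hN : N = n1 + n2 + n3) (hd1 : d1 ≤ d2) (hd2 : d2 ≤ d3)
    (h61 : 6 ∣ d1) (h62 : 6 ∣ d2) (h63 : 6 ∣ d3) (hd1' : d1 = 0 ∨ d1 ∣ D2) (hd2' : d2 = 0 ∨ d2 ∣ D2) (hd3' : d3 = 0 ∨ d3 ∣ D2)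
    (hD4 : D ≤ 4273) (hD0 : 0 < D)
    (hm1 : s0 % 11 + (23 * d1) % 11 + (23 * d2) % 11 + (23 * d3) % 11 = 6)
    (hm2 : a1 % 11 + (23 * n1) % 11 + (23 * n2) % 11 + (23 * n3) % 11 = 2)
    (hc1 : d1 * c1 = s0 * n1) (hc2 : d2 * c2 = s0 * n2) (hc3 : d3 * c3 = s0 * n3)
    (hmom : 3 * (s0 * a1 ^ 2 + 23 * d1 * c1 ^ 2 + 23 * d2 * c2 ^ 2 + 23 * d3 * c3 ^ 2) = s0 * (4560 + 168 * a1 + 638 * s0)) :
    allowed2 s0 d1 d2 d3 n1 n2 n3 = true := by
  have hd3e : D - d1 - d2 = d3 := by omega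
  have hmem1 : d1 ∈ dl := mem_dl (by omega) h61 hd1'
  have hmem2 : d2 ∈ dl := mem_dl (by omega) h62 hd2'
  have hmem3 : d3 ∈ dl := mem_dl (by omega) h63 hd3'
  have h1 := allL_spec (allL_spec hst hmem1) hmem2
  rw [hd3e] at h1
  have hd3d : d3 ∣ D2 := by
    rcases hd3' with h | h
    · omega
    · exact h
  have h2 := imp_spec (imp_spec (imp_spec (imp_spec h1 (bl hd1)) (bl (by omega))) (bq (Nat.mod_eq_zero_of_dvd hd3d))) (bq hm1)
  obtain ⟨t1, t1'⟩ := term_eq hs0 hc1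
  obtain ⟨t2, t2'⟩ := term_eq hs0 hc2
  obtain ⟨t3, t3'⟩ := term_eq hs0 hc3
  obtain ⟨i1, e1⟩ := stp_dvd (N := N) hs0 (by omega) t1
  obtain ⟨i2, e2⟩ := stp_dvd (N := N) hs0 (by omega) t2
  have p1 := stp_pos N d1 s0 hs0
  have p2 := stp_pos N d2 s0 hs0
  have b1 : i1 < N / stp N d1 s0 + 1 := by
    have : i1 ≤ N / stp N d1 s0 := by
      rw [Nat.le_div_iff_mul_le p1, mul_comm, ← e1]
      omega
    omega
  have b2 : i2 < (N - i1 * stp N d1 s0) / stp N d2 s0 + 1 := by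
    have : i2 ≤ (N - i1 * stp N d1 s0) / stp N d2 s0 := by
      rw [Nat.le_div_iff_mul_le p2, mul_comm i2, ← e2, mul_comm i1, ← e1]
      omega
    omega
  have h3 := allB_spec (allB_spec h2 b1) b2
  rw [mul_comm i1, mul_comm i2, ← e1, ← e2] at h3
  have hn3e : N - n1 - n2 = n3 := by omega
  rw [hn3e] at h3
  unfold test3 at h3
  refine imp_spec (imp_spec (imp_spec h3 (bq t3)) (bq hm2)) (bq ?_)
  rw [mul_assoc 23 d1, mul_assoc 23 d2, mul_assoc 23 d3, t1', t2', t3', ← mul_assoc 23 d1, ← mul_assoc 23 d2, ← mul_assoc 23 d3]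
  exact hmom

/-- The column of the smallest orbit in the case `s0 = 576`. -/
theorem col576 (e1 e2 e3 : ℕ)
    (h1 : 576 * 1012 + 18216 * e1 + 30912 * e2 + 48576 * e3 = 4600 * 18216)
    (h2 : 3 * (576 * 23 * 1012 + 18216 * 32 * e1 + 30912 * 24 * e2 + 48576 * 27 * e3) = 18216 * (168 * 32 + 638 * 576))
    (h3 : 3 * (576 * 1012 ^ 2 + 18216 * e1 ^ 2 + 30912 * e2 ^ 2 + 48576 * e3 ^ 2) = 18216 * (4560 + 168 * e1 + 638 * 18216)) :
    False := by
  have a1 : 56 * e2 + 2376 = 55 * e1 := by omega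
  have a2 : e3 + e1 = 1740 := by omega
  obtain ⟨k, hk⟩ : ∃ k, e1 = 32 + 56 * k := ⟨(e1 - 32) / 56, by omega⟩
  have hk2 : k ≤ 31 := by omega
  have e2e' : e2 = 55 * k - 11 := by omega
  have e3e' : e3 = 1708 - 56 * k := by omega
  subst hk
  subst e2e'
  subst e3e'
  have hk1 : 1 ≤ k := by omega
  interval_cases k <;> omega

/-- The column of the smallest orbit in the case `s0 = 48600`. -/
theorem col48600 (e1 e2 e3 : ℕ)
    (h1 : 48600 * 23 + 552 * e1 + 11178 * e2 + 37950 * e3 = 4600 * 552)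
    (h2 : 3 * (48600 * 2277 * 23 + 552 * 2025 * e1 + 11178 * 2300 * e2 + 37950 * 2268 * e3) = 552 * (168 * 2025 + 638 * 48600))
    (h3 : 3 * (48600 * 23 ^ 2 + 552 * e1 ^ 2 + 11178 * e2 ^ 2 + 37950 * e3 ^ 2) = 552 * (4560 + 168 * e1 + 638 * 552)) :
    False := by
  have a1 : 8 * e2 + 25 = 3 * e1 := by omega
  have a2 : 8 * e3 + e1 = 307 := by omega
  obtain ⟨k, hk⟩ : ∃ k, e1 = 3 + 8 * k := ⟨(e1 - 3) / 8, by omega⟩
  have hk2 : k ≤ 38 := by omega
  have e2e' : e2 = 3 * k - 2 := by omega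
  have e3e' : e3 = 38 - k := by omega
  subst hk
  subst e2e'
  subst e3e'
  have hk1 : 1 ≤ k := by omega
  interval_cases k <;> omega

/-- The column of the smallest orbit in the case `s0 = 49152`. -/
theorem col49152 (e2 e3 : ℕ)
    (h1 : 49152 * 23 + 552 * e2 + 48576 * e3 = 4600 * 552)
    (h2 : 3 * (49152 * 2300 * 23 + 552 * 2048 * e2 + 48576 * 2304 * e3) = 552 * (168 * 2048 + 638 * 49152)) :
    e2 = 88 := by
  omega

end Cfsg.Agent.Lib.Co1Num
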