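import Mathlib

set_option autoImplicit false
set_option linter.unusedSectionVars false
set_option linter.unusedVariables false
set_option linter.style.haveILetI false

/-!
# The number of orbits of the image of a point stabiliser under an automorphism

Let `K` act on `Ω` with rank `r` (the number of orbits on `Ω × Ω`), and let `α` be an automorphism. The image
of a point stabiliser under `α` has at most `r` orbits on `Ω`: by Burnside's lemma the number of orbits is an
inner product of the two permutation characters, and `2 a b ≤ a² + b²`.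
-/

namespace Cfsg.Agent.Lib.OrbitBound

open MulAction

variable {K Ω : Type*} [Group K] [MulAction K Ω]

/-- The points with the action through an automorphism. -/
def Tw (α : MulAut K) (Ω : Type*) : Type _ := Ω

instance instTw (α : MulAut K) : MulAction K (Tw α Ω) := MulAction.compHom Ω (α.symm.toMonoidHom : K →* K)

/-- Number of fixed points. -/
noncomputable def fx (Ω : Type*) [MulAction K Ω] (g : K) : ℕ := Nat.card (fixedBy Ω g)

variable [Finite K] [Finite Ω]

theorem card_fixedBy_prod (X Y : Type*) [MulAction K X] [MulAction K Y] [Finite X] [Finite Y] (g : K) :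
    Nat.card (fixedBy (X × Y) g) = Nat.card (fixedBy X g) * Nat.card (fixedBy Y g) := by
  rw [← Nat.card_prod]
  apply Nat.card_congr
  exact
    { toFun := fun z => (⟨z.1.1, congrArg Prod.fst z.2⟩, ⟨z.1.2, congrArg Prod.snd z.2⟩)
      invFun := fun z => ⟨(z.1.1, z.2.1), Prod.ext z.1.2 z.2.2⟩
      left_inv := fun z => rfl
      right_inv := fun z => rfl }

theorem burnside (X : Type*) [MulAction K X] [Finite X] :
    ∑ᶠ g : K, Nat.card (fixedBy X g) = Nat.card (orbitRel.Quotient K X) * Nat.card K := by
  classical
  letI := Fintype.ofFinite K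
  letI := Fintype.ofFinite X
  letI : ∀ g : K, Fintype (fixedBy X g) := fun g => Fintype.ofFinite _
  letI : Fintype (orbitRel.Quotient K X) := Fintype.ofFinite _
  have h := sum_card_fixedBy_eq_card_orbits_mul_card_group K X
  rw [finsum_eq_sum_of_fintype]
  simp only [Nat.card_eq_fintype_card]
  exact h

theorem card_fixedBy_tw (α : MulAut K) (g : K) :
    Nat.card (fixedBy (Tw α Ω) g) = Nat.card (fixedBy Ω (α.symm g)) := rfl

/-- The twisted rank is at most the rank. -/
theorem twisted_le (α : MulAut K) :
    Nat.card (orbitRel.Quotient K (Ω × Tw α Ω)) ≤ Nat.card (orbitRel.Quotient K (Ω × Ω)) := by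
  classical
  letI := Fintype.ofFinite K
  haveI : Finite (Tw α Ω) := (inferInstance : Finite Ω)
  have h1 := burnside (K := K) (Ω × Tw α Ω)
  have h2 := burnside (K := K) (Ω × Ω)
  rw [finsum_eq_sum_of_fintype] at h1 h2
  have hpos : 0 < Nat.card K := Nat.card_pos
  apply Nat.le_of_mul_le_mul_right _ hpos
  rw [← h1, ← h2]
  simp only [card_fixedBy_prod, card_fixedBy_tw]
  have e : ∑ g : K, Nat.card (fixedBy Ω (α.symm g)) * Nat.card (fixedBy Ω (α.symm g)) =
      ∑ g : K, Nat.card (fixedBy Ω g) * Nat.card (fixedBy Ω g) :=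
    Fintype.sum_equiv α.symm.toEquiv _ _ (fun g => rfl)
  have key : 2 * ∑ g : K, Nat.card (fixedBy Ω g) * Nat.card (fixedBy Ω (α.symm g)) ≤
      ∑ g : K, Nat.card (fixedBy Ω g) * Nat.card (fixedBy Ω g) +
      ∑ g : K, Nat.card (fixedBy Ω (α.symm g)) * Nat.card (fixedBy Ω (α.symm g)) := by
    rw [Finset.mul_sum, ← Finset.sum_add_distrib]
    apply Finset.sum_le_sum
    intro g _
    nlinarith [sq_nonneg ((Nat.card (fixedBy Ω g) : ℤ) - (Nat.card (fixedBy Ω (α.symm g)) : ℤ)),
      two_mul_le_add_sq (Nat.card (fixedBy Ω g)) (Nat.card (fixedBy Ω (α.symm g)))]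
  rw [e] at key
  omega

/-- Orbits of the image of a point stabiliser. -/
theorem card_orbits_map_le (α : MulAut K) (p : Ω) :
    Nat.card (orbitRel.Quotient ((stabilizer K p).map α.toMonoidHom) Ω) ≤
      Nat.card (orbitRel.Quotient K (Ω × Ω)) := by
  classical
  refine le_trans ?_ (twisted_le (K := K) (Ω := Ω) α)
  haveI : Finite (Tw α Ω) := (inferInstance : Finite Ω)
  set L := (stabilizer K p).map α.toMonoidHom with hL
  let F : orbitRel.Quotient L Ω → orbitRel.Quotient K (Ω × Tw α Ω) :=
    Quotient.lift (fun y => Quotient.mk'' (y, (p : Tw α Ω))) (by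
      rintro y y' ⟨⟨l, hl⟩, rfl⟩
      apply Quotient.sound
      obtain ⟨m, hm, e⟩ := hl
      refine ⟨l, ?_⟩
      apply Prod.ext
      · rfl
      · show α.symm l • p = p
        rw [← e]
        have : α.symm (α.toMonoidHom m) = m := α.symm_apply_apply m
        rw [this]
        exact hm)
  apply Nat.card_le_card_of_injective F
  intro a b
  induction a using Quotient.inductionOn with | _ y => ?_
  induction b using Quotient.inductionOn with | _ y' => ?_
  intro h
  have h' := Quotient.exact h
  obtain ⟨g, hg⟩ := h'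
  have h1 : g • y' = y := congrArg Prod.fst hg
  have h2 : α.symm g • p = p := congrArg Prod.snd hg
  apply Quotient.sound
  refine ⟨⟨g, ⟨α.symm g, h2, ?_⟩⟩, h1⟩
  exact α.apply_symm_apply g

end Cfsg.Agent.Lib.OrbitBound
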