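import Mathlib

set_option autoImplicit false
set_option linter.unusedVariables false
set_option linter.unusedSimpArgs false

/-! The arithmetic of orbit lengths for index 2300. -/

namespace Cfsg.Agent.Lib.OutCo2Abs

/-! ### The arithmetic -/

/-- The order of a point stabiliser. -/
def Nn : ℕ := 18393661440

/-- No solutions of the path count for the given orbit lengths. -/
def chkRow (s0 s1 s2 : ℕ) : Bool :=
  (List.range (min s1 1408 + 1)).all fun a1 =>
    !(Nat.beq (s0 * a1 % s1) 0) ||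
    (List.range (min s2 (1408 - a1) + 1)).all fun a2 =>
      !(Nat.beq (s0 * a2 % s2) 0) ||
      !(Nat.beq ((1408 - a1 - a2) * (1408 - a1 - a2) + a1 * (s0 * a1 / s1) + a2 * (s0 * a2 / s2) + 56 * (1408 - a1 - a2))
        (512 + 896 * s0))

/-- The condition on the orbit lengths. -/
def cond0 (s0 : ℕ) : Bool := Nat.beq (s0 % 11) 1 && Nat.beq (Nn % s0) 0 && !(Nat.beq s0 1)

def cond1 (s0 s1 : ℕ) : Bool :=
  Nat.beq (s1 % 11) 0 && Nat.beq ((2300 - s0 - s1) % 11) 0 && (Nat.beq s1 0 || Nat.beq (Nn % s1) 0) &&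
    (Nat.beq (2300 - s0 - s1) 0 || Nat.beq (Nn % (2300 - s0 - s1)) 0) &&
    Nat.ble (s0 % 9 + s1 % 9 + (2300 - s0 - s1) % 9) 5

/-- All orbit lengths. -/
def chkAll : Bool :=
  (List.range 2301).all fun s0 => !(cond0 s0) ||
    (List.range (2301 - s0)).all fun s1 => !(cond1 s0 s1) || chkRow s0 s1 (2300 - s0 - s1)

set_option maxRecDepth 100000 in
theorem chkAll_eq : chkAll = true := by decide +kernel

theorem beq_t {a b : ℕ} (h : a = b) : Nat.beq a b = true := by
  rw [h]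
  exact Nat.beq_refl b

theorem beq_f {a b : ℕ} (h : a ≠ b) : Nat.beq a b = false := by
  cases h' : Nat.beq a b
  · rfl
  · exact absurd (Nat.eq_of_beq_eq_true h') h

theorem num_main (s0 s1 s2 a0 a1 a2 c1 c2 : ℕ) (hs : s0 + s1 + s2 = 2300) (h0 : s0 ∣ Nn) (h1 : s1 = 0 ∨ s1 ∣ Nn)
    (h2 : s2 = 0 ∨ s2 ∣ Nn) (m0 : s0 % 11 = 1) (m1 : s1 % 11 = 0) (m2 : s2 % 11 = 0) (m9 : s0 % 9 + s1 % 9 + s2 % 9 ≤ 5)
    (ha : a0 + a1 + a2 = 1408) (la1 : a1 ≤ s1) (la2 : a2 ≤ s2) (e1 : s1 * c1 = s0 * a1) (e2 : s2 * c2 = s0 * a2)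
    (key : a0 * a0 + a1 * c1 + a2 * c2 + 56 * a0 = 512 + 896 * s0) : s0 = 1 := by
  by_contra hne
  have hs2 : s2 = 2300 - s0 - s1 := by omega
  have c0 : cond0 s0 = true := by
    unfold cond0
    rw [beq_t m0, beq_t (Nat.mod_eq_zero_of_dvd h0), beq_f hne]
    rfl
  have c1' : cond1 s0 s1 = true := by
    unfold cond1
    rw [← hs2, beq_t m1, beq_t m2, Nat.ble_eq_true_of_le m9]
    have o1 : (Nat.beq s1 0 || Nat.beq (Nn % s1) 0) = true := by
      rcases h1 with h | h
      · rw [beq_t h]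
        rfl
      · rw [beq_t (Nat.mod_eq_zero_of_dvd h), Bool.or_true]
    have o2 : (Nat.beq s2 0 || Nat.beq (Nn % s2) 0) = true := by
      rcases h2 with h | h
      · rw [beq_t h]
        rfl
      · rw [beq_t (Nat.mod_eq_zero_of_dvd h), Bool.or_true]
    rw [o1, o2]
    rfl
  have t1 := List.all_eq_true.1 chkAll_eq s0 (List.mem_range.2 (by omega))
  rw [c0, Bool.not_true, Bool.false_or] at t1
  have t2 := List.all_eq_true.1 t1 s1 (List.mem_range.2 (by omega))
  rw [c1', Bool.not_true, Bool.false_or, ← hs2] at t2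
  have d1 : s0 * a1 % s1 = 0 := by
    rw [← e1]
    exact Nat.mul_mod_right _ _
  have d2 : s0 * a2 % s2 = 0 := by
    rw [← e2]
    exact Nat.mul_mod_right _ _
  have t3 := List.all_eq_true.1 t2 a1 (List.mem_range.2 (by omega))
  have b1 : Nat.beq (s0 * a1 % s1) 0 = true := by rw [d1]; rfl
  rw [b1, Bool.not_true, Bool.false_or] at t3
  have t4 := List.all_eq_true.1 t3 a2 (List.mem_range.2 (by omega))
  have b2 : Nat.beq (s0 * a2 % s2) 0 = true := by rw [d2]; rfl
  rw [b2, Bool.not_true, Bool.false_or] at t4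
  have e0 : 1408 - a1 - a2 = a0 := by omega
  rw [e0] at t4
  have q1 : a1 * (s0 * a1 / s1) = a1 * c1 := by
    rcases Nat.eq_zero_or_pos s1 with h | h
    · have : a1 = 0 := by omega
      simp [this]
    · rw [← e1, Nat.mul_div_cancel_left _ h]
  have q2 : a2 * (s0 * a2 / s2) = a2 * c2 := by
    rcases Nat.eq_zero_or_pos s2 with h | h
    · have : a2 = 0 := by omega
      simp [this]
    · rw [← e2, Nat.mul_div_cancel_left _ h]
  rw [q1, q2, key] at t4
  simp at t4

end Cfsg.Agent.Lib.OutCo2Abs
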