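import Mathlib
import Cfsg.Prelude.Def_KGroupFacts

set_option autoImplicit false
set_option linter.unusedSectionVars false
set_option linter.unusedVariables false
set_option linter.style.haveILetI false

/-!
# Automorphisms acting on the points of a transitive action

If every automorphism of `K` maps point stabilisers to point stabilisers, then automorphisms induce
permutations of the points; the number of outer automorphisms is then bounded by the index of `K`
in any permutation group containing all of these permutations.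
-/

namespace Cfsg.Agent.Lib.OutHat

open MulAction Cfsg

universe u v

/-- Orbit-stabiliser for a subgroup. -/
theorem card_eq_orbit_mul_inf' {G X : Type*} [Group G] [MulAction G X] (K : Subgroup G) (x : X) :
    Nat.card K = (orbit K x).ncard * Nat.card ↥(K ⊓ stabilizer G x) := by
  have h := Subgroup.card_mul_index (stabilizer K x)
  rw [index_stabilizer] at h
  have e : stabilizer K x ≃* ↥(K ⊓ stabilizer G x) :=
    { toFun := fun m => ⟨m.1.1, m.1.2, m.2⟩
      invFun := fun m => ⟨⟨m.1, m.2.1⟩, m.2.2⟩
      left_inv := fun m => rfl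
      right_inv := fun m => rfl
      map_mul' := fun a b => rfl }
  rw [← Nat.card_congr e.toEquiv, ← h, mul_comm]

/-- Conjugation on a pair stabiliser. -/
theorem card_pair_smul {G X : Type*} [Group G] [MulAction G X] (g : G) (p q : X) :
    Nat.card ↥(stabilizer G (g • p) ⊓ stabilizer G (g • q)) =
      Nat.card ↥(stabilizer G p ⊓ stabilizer G q) := by
  rw [stabilizer_smul_eq_stabilizer_map_conj, stabilizer_smul_eq_stabilizer_map_conj,
    ← Subgroup.map_inf _ _ _ (MulAut.conj g).injective]
  exact (Nat.card_congr (Subgroup.equivMapOfInjective _ _ (MulAut.conj g).injective).toEquiv).symm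

section

variable {Ω : Type v} {K : Type u} [Group K] [MulAction K Ω]

/-- The hypotheses: stabilisers determine points, and automorphisms permute stabilisers. -/
structure HatData (K : Type u) (Ω : Type v) [Group K] [MulAction K Ω] : Prop where
  uniq : ∀ p q : Ω, p ≠ q → ∃ g ∈ stabilizer K p, g • q ≠ q
  fix : ∀ (α : MulAut K) (p : Ω), ∃ q : Ω, (stabilizer K p).map α.toMonoidHom = stabilizer K q

variable (h : HatData K Ω)
include h

theorem stab_inj {p q : Ω} (e : stabilizer K p = stabilizer K q) : p = q := by
  by_contra hne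
  obtain ⟨g, hg, hq⟩ := h.uniq p q hne
  exact hq (mem_stabilizer_iff.1 (e ▸ hg))

/-- The point whose stabiliser is the image of the stabiliser of `p`. -/
noncomputable def hatFun (α : MulAut K) (p : Ω) : Ω := (h.fix α p).choose

theorem hat_spec (α : MulAut K) (p : Ω) :
    (stabilizer K p).map α.toMonoidHom = stabilizer K (hatFun h α p) := (h.fix α p).choose_spec

theorem hat_eq {α : MulAut K} {p q : Ω} (e : (stabilizer K p).map α.toMonoidHom = stabilizer K q) :
    hatFun h α p = q := stab_inj h ((hat_spec h α p).symm.trans e)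

theorem hat_one (p : Ω) : hatFun h (1 : MulAut K) p = p := by
  apply hat_eq h
  ext m
  simp [Subgroup.mem_map]

theorem hat_mul (α β : MulAut K) (p : Ω) : hatFun h (α * β) p = hatFun h α (hatFun h β p) := by
  apply hat_eq h
  rw [← hat_spec h α, ← hat_spec h β, Subgroup.map_map]
  rfl

/-- The action of automorphisms on the points. -/
noncomputable def hatHom : MulAut K →* Equiv.Perm Ω where
  toFun α :=
    { toFun := hatFun h α
      invFun := hatFun h α⁻¹
      left_inv := fun p => by rw [← hat_mul, inv_mul_cancel, hat_one]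
      right_inv := fun p => by rw [← hat_mul, mul_inv_cancel, hat_one] }
  map_one' := by
    ext p
    exact hat_one h p
  map_mul' α β := by
    ext p
    exact hat_mul h α β p

theorem hatHom_apply (α : MulAut K) (p : Ω) : hatHom h α p = hatFun h α p := rfl

theorem hatHom_spec (α : MulAut K) (p : Ω) :
    (stabilizer K p).map α.toMonoidHom = stabilizer K (hatHom h α p) := hat_spec h α p

/-- Equivariance. -/
theorem hat_smul (α : MulAut K) (g : K) (p : Ω) : hatHom h α (g • p) = α g • hatHom h α p := by
  apply hat_eq h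
  rw [stabilizer_smul_eq_stabilizer_map_conj, stabilizer_smul_eq_stabilizer_map_conj,
    ← hatHom_spec h α p, Subgroup.map_map, Subgroup.map_map]
  congr 1
  ext x
  simp

theorem hat_conj (g : K) (p : Ω) : hatHom h (MulAut.conj g) p = g • p := by
  apply hat_eq h
  rw [stabilizer_smul_eq_stabilizer_map_conj]

theorem hat_injective [FaithfulSMul K Ω] : Function.Injective (hatHom h) := by
  rw [injective_iff_map_eq_one]
  intro α hα
  ext g
  apply eq_of_smul_eq_smul (α := Ω)
  intro p
  have h1 := hat_smul h α g p
  rw [hα] at h1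
  exact h1.symm

theorem center_trivial [FaithfulSMul K Ω] {g : K} (hg : MulAut.conj g = 1) : g = 1 := by
  apply eq_of_smul_eq_smul (α := Ω)
  intro p
  have h1 := hat_conj h g p
  rw [hg, map_one] at h1
  rw [one_smul]
  exact h1.symm

/-- The order of a pair stabiliser is preserved. -/
theorem hat_pair (α : MulAut K) (p q : Ω) :
    Nat.card ↥(stabilizer K (hatHom h α p) ⊓ stabilizer K (hatHom h α q)) =
      Nat.card ↥(stabilizer K p ⊓ stabilizer K q) := by
  rw [← hatHom_spec h α p, ← hatHom_spec h α q, ← Subgroup.map_inf _ _ _ α.injective]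
  exact (Nat.card_congr (Subgroup.equivMapOfInjective _ _ α.injective).toEquiv).symm

theorem card_inn [FaithfulSMul K Ω] : Nat.card (Inn K) = Nat.card K := by
  have hinj : Function.Injective (MulAut.conj : K →* MulAut K) := by
    rw [injective_iff_map_eq_one]
    intro g hg
    exact center_trivial h hg
  exact (Nat.card_congr (MonoidHom.ofInjective hinj).toEquiv).symm

/-- The bound for the outer automorphism group. -/
theorem card_out_le [FaithfulSMul K Ω] [Finite K] [Finite Ω] (A : Subgroup (Equiv.Perm Ω))
    (hA : ∀ α : MulAut K, hatHom h α ∈ A) {n : ℕ} (hn : Nat.card A = n * Nat.card K) :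
    Nat.card (Out K) ≤ n := by
  have hfin : Finite (MulAut K) :=
    Finite.of_injective (fun α : MulAut K => (α : K → K)) DFunLike.coe_injective
  have h1 : Nat.card (MulAut K) ≤ Nat.card A := by
    apply Nat.card_le_card_of_injective (fun α : MulAut K => (⟨hatHom h α, hA α⟩ : A))
    intro a b e
    exact hat_injective h (congrArg Subtype.val e)
  have h2 := Subgroup.card_eq_card_quotient_mul_card_subgroup (Inn K)
  rw [card_inn h, ] at h2
  have hpos : 0 < Nat.card K := Nat.card_pos
  rw [hn, h2] at h1
  exact Nat.le_of_mul_le_mul_right h1 hpos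

/-- A permutation normalising but not in the group yields a non-inner automorphism. -/
theorem two_le_card_out [FaithfulSMul K Ω] [Finite K] (t : Equiv.Perm Ω)
    (ht : ∀ k : K, ∃ k' : K, t * MulAction.toPermHom K Ω k * t⁻¹ = MulAction.toPermHom K Ω k')
    (ht' : ∀ k : K, ∃ k' : K, t⁻¹ * MulAction.toPermHom K Ω k * t = MulAction.toPermHom K Ω k')
    (hnot : ∀ k : K, t ≠ MulAction.toPermHom K Ω k) : 2 ≤ Nat.card (Out K) := by
  classical
  have hfin : Finite (MulAut K) :=
    Finite.of_injective (fun α : MulAut K => (α : K → K)) DFunLike.coe_injective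
  let ρ : K →* Equiv.Perm Ω := MulAction.toPermHom K Ω
  have hρ : Function.Injective ρ := MulAction.toPerm_injective
  let c : ρ.range ≃* ρ.range :=
    { toFun := fun x => ⟨t * x.1 * t⁻¹, by
        obtain ⟨k, hk⟩ := x.2
        obtain ⟨k', hk'⟩ := ht k
        exact ⟨k', by rw [← hk]; exact hk'.symm⟩⟩
      invFun := fun x => ⟨t⁻¹ * x.1 * t, by
        obtain ⟨k, hk⟩ := x.2
        obtain ⟨k', hk'⟩ := ht' k
        exact ⟨k', by rw [← hk]; exact hk'.symm⟩⟩
      left_inv := fun x => Subtype.ext (by simp [mul_assoc])
      right_inv := fun x => Subtype.ext (by simp [mul_assoc])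
      map_mul' := fun x y => Subtype.ext (by simp [mul_assoc]) }
  let e := MonoidHom.ofInjective hρ
  let β : MulAut K := e.trans (c.trans e.symm)
  have hβ : ∀ k, ρ (β k) = t * ρ k * t⁻¹ := by
    intro k
    have h1 : ρ (β k) = ((e (β k) : ρ.range) : Equiv.Perm Ω) := rfl
    have h2 : e (β k) = c (e k) := by
      show e (e.symm (c (e k))) = c (e k)
      exact e.apply_symm_apply _
    rw [h1, h2]
    rfl
  have hnotin : β ∉ Inn K := by
    rintro ⟨g, hg⟩
    have hcomm : ∀ k, (ρ g)⁻¹ * t * ρ k = ρ k * ((ρ g)⁻¹ * t) := by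
      intro k
      have h1 : ρ (β k) = ρ g * ρ k * (ρ g)⁻¹ := by
        rw [← hg]
        simp [MulAut.conj_apply, map_mul, map_inv]
      rw [hβ] at h1
      have h2 : t * ρ k = ρ g * ρ k * (ρ g)⁻¹ * t := by
        rw [← h1]
        simp
      calc (ρ g)⁻¹ * t * ρ k = (ρ g)⁻¹ * (t * ρ k) := by rw [mul_assoc]
        _ = (ρ g)⁻¹ * (ρ g * ρ k * (ρ g)⁻¹ * t) := by rw [h2]
        _ = ρ k * ((ρ g)⁻¹ * t) := by simp [mul_assoc]
    have hone : (ρ g)⁻¹ * t = 1 := by
      ext p
      by_contra hne
      have hne' : p ≠ ((ρ g)⁻¹ * t) p := fun e => hne e.symm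
      obtain ⟨k, hk, hk'⟩ := h.uniq p _ hne'
      apply hk'
      have h3 := congrArg (fun σ : Equiv.Perm Ω => σ p) (hcomm k)
      simp only [Equiv.Perm.mul_apply] at h3
      have h4 : ρ k p = p := hk
      rw [h4] at h3
      exact h3.symm
    apply hnot g
    rw [inv_mul_eq_one] at hone
    exact hone.symm
  have hne : (QuotientGroup.mk β : Out K) ≠ 1 := by
    intro e
    exact hnotin ((QuotientGroup.eq_one_iff β).1 e)
  have hnt : Nontrivial (Out K) := ⟨⟨_, 1, hne⟩⟩
  exact Finite.one_lt_card_iff_nontrivial.2 hnt

end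

/-- The outer automorphism group is invariant under isomorphism. -/
theorem card_out_congr {A B : Type u} [Group A] [Group B] (e : A ≃* B) :
    Nat.card (Out A) = Nat.card (Out B) := by
  let φ : MulAut A ≃* MulAut B := MulAut.congr e
  have hmap : (Inn A).map φ.toMonoidHom = Inn B := by
    ext x
    simp only [Subgroup.mem_map, MonoidHom.mem_range]
    constructor
    · rintro ⟨_, ⟨g, rfl⟩, rfl⟩
      refine ⟨e g, ?_⟩
      ext y
      simp [φ, MulAut.congr_apply, MulAut.conj_apply]
    · rintro ⟨g, rfl⟩
      refine ⟨MulAut.conj (e.symm g), ⟨_, rfl⟩, ?_⟩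
      ext y
      simp [φ, MulAut.congr_apply, MulAut.conj_apply]
  have : (MulAut A ⧸ Inn A) ≃* (MulAut B ⧸ Inn B) :=
    QuotientGroup.congr (Inn A) (Inn B) φ hmap
  exact Nat.card_congr this.toEquiv

end Cfsg.Agent.Lib.OutHat
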