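import Mathlib
import Cfsg.Prelude.Def_Sporadic_a
import Cfsg.Agent.Lib.SteinerSearch
import Cfsg.Agent.Lib.Steiner3622

set_option autoImplicit false
set_option linter.unusedSectionVars false
set_option linter.unusedSimpArgs false
set_option linter.unusedVariables false
set_option linter.unnecessarySimpa false

/-!
# The strongly regular graph with parameters (100, 22, 0, 6)

A vertex `o` of such a graph turns its 22 neighbours into the points, and its 77 other non-neighbours
into the blocks, of a Steiner system S(3, 6, 22), by a variance argument.  The graph is the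
point-block graph of this system.
-/

namespace Cfsg.Agent.Lib.SRG100
open Finset Cfsg

variable {V : Type*} [Fintype V] [DecidableEq V]

/-- Neighbours as a finite set. -/
def N (G : SimpleGraph V) [DecidableRel G.Adj] (v : V) : Finset V := univ.filter fun x => G.Adj v x

/-- The facts used about the graph. -/
structure Facts (G : SimpleGraph V) [DecidableRel G.Adj] : Prop where
  card : Fintype.card V = 100
  deg : ∀ v, (N G v).card = 22
  tri : ∀ v w x, G.Adj v w → G.Adj v x → ¬ G.Adj w x
  mu : ∀ v w, v ≠ w → ¬ G.Adj v w → (N G v ∩ N G w).card = 6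

variable {G : SimpleGraph V} [DecidableRel G.Adj]

theorem mem_N {v x : V} : x ∈ N G v ↔ G.Adj v x := by simp [N]

theorem facts_of_srg (h : G.IsSRGWith 100 22 0 6) : Facts G := by
  refine ⟨h.card, fun v => ?_, fun v w x hvw hvx hwx => ?_, fun v w hvw hn => ?_⟩
  · have := h.regular v
    rw [← SimpleGraph.card_neighborFinset_eq_degree] at this
    rw [← this]
    congr 1
    ext x
    simp [N]
  · have h1 := h.of_adj v w hvw
    have h2 : x ∈ G.commonNeighbors v w := by
      rw [SimpleGraph.mem_commonNeighbors]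
      exact ⟨hvx, hwx⟩
    have h3 : Nonempty (G.commonNeighbors v w) := ⟨⟨x, h2⟩⟩
    have h4 := Fintype.card_pos_iff.2 h3
    omega
  · have h1 := h.of_not_adj hvw hn
    rw [← h1]
    symm
    apply Fintype.card_of_subtype
    intro x
    simp [N, SimpleGraph.mem_commonNeighbors]

/-- The non-neighbours of `o`. -/
def Q (G : SimpleGraph V) [DecidableRel G.Adj] (o : V) : Finset V :=
  univ.filter fun x => x ≠ o ∧ ¬ G.Adj o x

theorem mem_Q {o x : V} : x ∈ Q G o ↔ x ≠ o ∧ ¬ G.Adj o x := by simp [Q]

theorem card_Q (hF : Facts G) (o : V) : (Q G o).card = 77 := by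
  have h1 : (insert o (N G o ∪ Q G o)) = univ := by
    ext x
    simp only [mem_insert, mem_union, mem_N, mem_Q, mem_univ, iff_true]
    by_cases h : x = o
    · exact Or.inl h
    · by_cases h' : G.Adj o x
      · exact Or.inr (Or.inl h')
      · exact Or.inr (Or.inr ⟨h, h'⟩)
  have h2 : Disjoint (N G o) (Q G o) := by
    rw [Finset.disjoint_left]
    intro x hx hx'
    exact (mem_Q.1 hx').2 (mem_N.1 hx)
  have h3 : o ∉ N G o ∪ Q G o := by
    simp [mem_N, mem_Q]
  have h4 := congrArg Finset.card h1
  rw [card_insert_of_notMem h3, card_union_of_disjoint h2, hF.deg, card_univ, hF.card] at h4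
  omega

/-- The block of `w`, as a subset of `V`. -/
def blk (G : SimpleGraph V) [DecidableRel G.Adj] (o w : V) : Finset V := N G w ∩ N G o

theorem mem_blk {o w x : V} : x ∈ blk G o w ↔ G.Adj w x ∧ G.Adj o x := by simp [blk, mem_N]

theorem card_blk (hF : Facts G) {o w : V} (hw : w ∈ Q G o) : (blk G o w).card = 6 :=
  hF.mu w o (mem_Q.1 hw).1 (fun h => (mem_Q.1 hw).2 h.symm)

theorem nbr_cases (hF : Facts G) {o p c : V} (hp : G.Adj o p) (hc : G.Adj p c) :
    c = o ∨ c ∈ Q G o := by
  by_cases h : c = o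
  · exact Or.inl h
  · exact Or.inr (mem_Q.2 ⟨h, fun h' => hF.tri o p c hp h' hc⟩)

theorem not_adj_of_mem (hF : Facts G) {o p q : V} (hp : G.Adj o p) (hq : G.Adj o q) : ¬ G.Adj p q :=
  hF.tri o p q hp hq

/-- Number of neighbours of `p` among the non-neighbours of `o` other than `w`. -/
theorem count1 (hF : Facts G) {o w p : V} (hw : w ∈ Q G o) (hp : p ∈ blk G o w) :
    ((Q G o).erase w |>.filter fun c => G.Adj p c).card = 20 := by
  obtain ⟨hwp, hop⟩ := mem_blk.1 hp
  have hwo : w ≠ o := (mem_Q.1 hw).1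
  have h1 : N G p = insert o (insert w (((Q G o).erase w).filter fun c => G.Adj p c)) := by
    ext c
    simp only [mem_N, mem_insert, mem_filter, mem_erase]
    constructor
    · intro hc
      rcases nbr_cases hF hop hc with h | h
      · exact Or.inl h
      · by_cases hcw : c = w
        · exact Or.inr (Or.inl hcw)
        · exact Or.inr (Or.inr ⟨⟨hcw, h⟩, hc⟩)
    · rintro (rfl | rfl | h)
      · exact hop.symm
      · exact hwp.symm
      · exact h.2
  have h2 := hF.deg p
  rw [h1, card_insert_of_notMem, card_insert_of_notMem] at h2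
  · omega
  · simp
  · simp only [mem_insert, mem_filter, mem_erase, not_or, not_and]
    exact ⟨hwo.symm, fun h _ => (mem_Q.1 h.2).1 rfl⟩

/-- Number of common neighbours of `p, q` among the non-neighbours of `o` other than `w`. -/
theorem count2 (hF : Facts G) {o w p q : V} (hw : w ∈ Q G o) (hp : p ∈ blk G o w)
    (hq : q ∈ blk G o w) (hpq : p ≠ q) :
    ((Q G o).erase w |>.filter fun c => G.Adj p c ∧ G.Adj q c).card = 4 := by
  obtain ⟨hwp, hop⟩ := mem_blk.1 hp
  obtain ⟨hwq, hoq⟩ := mem_blk.1 hq
  have hwo : w ≠ o := (mem_Q.1 hw).1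
  have h1 : N G p ∩ N G q = insert o (insert w (((Q G o).erase w).filter fun c => G.Adj p c ∧ G.Adj q c)) := by
    ext c
    simp only [mem_inter, mem_N, mem_insert, mem_filter, mem_erase]
    constructor
    · rintro ⟨hc, hc'⟩
      rcases nbr_cases hF hop hc with h | h
      · exact Or.inl h
      · by_cases hcw : c = w
        · exact Or.inr (Or.inl hcw)
        · exact Or.inr (Or.inr ⟨⟨hcw, h⟩, hc, hc'⟩)
    · rintro (rfl | rfl | h)
      · exact ⟨hop.symm, hoq.symm⟩
      · exact ⟨hwp.symm, hwq.symm⟩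
      · exact h.2
  have h2 := hF.mu p q hpq (not_adj_of_mem hF hop hoq)
  rw [h1, card_insert_of_notMem, card_insert_of_notMem] at h2
  · omega
  · simp
  · simp only [mem_insert, mem_filter, mem_erase, not_or, not_and]
    exact ⟨hwo.symm, fun h _ _ => (mem_Q.1 h.2).1 rfl⟩

/-- Double counting. -/
theorem sum_counts {X : Type*} [DecidableEq X] (A C : Finset X) (r : X → X → Prop) [DecidableRel r]
    (hA : A.card = 6) (h1 : ∀ p ∈ A, (C.filter fun c => r p c).card = 20)
    (h2 : ∀ p ∈ A, ∀ q ∈ A, p ≠ q → (C.filter fun c => r p c ∧ r q c).card = 4) :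
    (∑ c ∈ C, (A.filter fun p => r p c).card = 120) ∧
      (∑ c ∈ C, (A.filter fun p => r p c).card ^ 2 = 240) := by
  constructor
  · have h3 : ∀ p ∈ A, ∑ c ∈ C, (if r p c then 1 else 0) = 20 := fun p hp => by
      rw [← Finset.card_filter]; exact h1 p hp
    have h4 : ∀ c ∈ C, (A.filter fun p => r p c).card = ∑ p ∈ A, (if r p c then 1 else 0) :=
      fun c _ => Finset.card_filter _ _
    rw [Finset.sum_congr rfl h4, Finset.sum_comm, Finset.sum_congr rfl h3]
    simp [hA]
  · simp_rw [Finset.card_filter, sq, Finset.sum_mul_sum]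
    have : ∀ c ∈ C, ∑ i ∈ A, ∑ j ∈ A, (if r i c then 1 else 0) * (if r j c then 1 else 0)
        = ∑ i ∈ A, ∑ j ∈ A, (if r i c ∧ r j c then 1 else 0) := by
      intro c _
      refine Finset.sum_congr rfl fun i _ => Finset.sum_congr rfl fun j _ => ?_
      by_cases h : r i c <;> by_cases h' : r j c <;> simp [h, h']
    rw [Finset.sum_congr rfl this, Finset.sum_comm]
    have h3 : ∀ p ∈ A, ∑ c ∈ C, ∑ j ∈ A, (if r p c ∧ r j c then 1 else 0) = 40 := by
      intro p hp
      rw [Finset.sum_comm]
      have h4 : ∀ j ∈ A, ∑ c ∈ C, (if r p c ∧ r j c then 1 else 0) = if j = p then 20 else 4 := by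
        intro j hj
        rw [← Finset.card_filter]
        by_cases hjp : j = p
        · subst hjp
          simp only [and_self, if_true]
          exact h1 j hj
        · rw [if_neg hjp]
          exact h2 p hp j hj (Ne.symm hjp)
      rw [Finset.sum_congr rfl h4, Finset.sum_ite, Finset.sum_const, Finset.sum_const]
      rw [Finset.filter_eq' A p, if_pos hp, Finset.filter_ne' A p, Finset.card_erase_of_mem hp, hA]
      simp
    rw [Finset.sum_congr rfl h3]
    simp [hA]

/-- Zero variance. -/
theorem var_zero {X : Type*} (R : Finset X) (f : X → ℕ) (h1 : ∑ c ∈ R, f c = 120)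
    (h2 : ∑ c ∈ R, f c ^ 2 = 240) (h3 : R.card = 60) : ∀ c ∈ R, f c = 2 := by
  have h4 : ∑ c ∈ R, ((f c : ℤ) - 2) ^ 2 = 0 := by
    have : ∀ c ∈ R, ((f c : ℤ) - 2) ^ 2 = (f c : ℤ) ^ 2 - 4 * (f c : ℤ) + 4 := fun c _ => by ring
    rw [Finset.sum_congr rfl this, Finset.sum_add_distrib, Finset.sum_sub_distrib,
      ← Finset.mul_sum, Finset.sum_const, h3]
    have h5 : ∑ c ∈ R, (f c : ℤ) = 120 := by exact_mod_cast h1
    have h6 : ∑ c ∈ R, (f c : ℤ) ^ 2 = 240 := by exact_mod_cast h2
    rw [h5, h6]
    norm_num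
  intro c hc
  have h5 := (Finset.sum_eq_zero_iff_of_nonneg (fun c _ => sq_nonneg ((f c : ℤ) - 2))).1 h4 c hc
  have h6 : (f c : ℤ) - 2 = 0 := by simpa using h5
  omega

theorem adj_disjoint (hF : Facts G) {o w c : V} (h : G.Adj w c) : Disjoint (blk G o w) (blk G o c) := by
  rw [Finset.disjoint_left]
  intro x hx hx'
  exact hF.tri w c x h (mem_blk.1 hx).1 (mem_blk.1 hx').1

/-- The key fact: two blocks of non-adjacent vertices meet in two points. -/
theorem inter_card (hF : Facts G) {o w c : V} (hw : w ∈ Q G o) (hc : c ∈ Q G o) (hne : w ≠ c)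
    (hna : ¬ G.Adj w c) : (blk G o w ∩ blk G o c).card = 2 := by
  obtain ⟨h1, h2⟩ := sum_counts (blk G o w) ((Q G o).erase w) (fun p c => G.Adj p c)
    (card_blk hF hw) (fun p hp => count1 hF hw hp) (fun p hp q hq hpq => count2 hF hw hp hq hpq)
  set C := (Q G o).erase w with hC
  have hCcard : C.card = 76 := by
    rw [hC, card_erase_of_mem hw, card_Q hF]
  set f : V → ℕ := fun c => ((blk G o w).filter fun p => G.Adj p c).card with hf
  -- the 16 neighbours of `w` in `C`
  have h3 : (C.filter fun c => G.Adj w c).card = 16 := by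
    have h4 : N G w = blk G o w ∪ (C.filter fun c => G.Adj w c) := by
      ext x
      simp only [mem_N, mem_union, mem_blk, mem_filter, hC, mem_erase, mem_Q]
      constructor
      · intro hx
        by_cases hox : G.Adj o x
        · exact Or.inl ⟨hx, hox⟩
        · refine Or.inr ⟨⟨?_, ?_, hox⟩, hx⟩
          · rintro rfl
            exact hx.ne rfl
          · rintro rfl
            exact (mem_Q.1 hw).2 hx.symm
      · rintro (h | h)
        · exact h.1
        · exact h.2
    have h5 : Disjoint (blk G o w) (C.filter fun c => G.Adj w c) := by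
      rw [Finset.disjoint_left]
      intro x hx hx'
      simp only [hC, mem_filter, mem_erase, mem_Q] at hx'
      exact hx'.1.2.2 (mem_blk.1 hx).2
    have h6 := hF.deg w
    rw [h4, card_union_of_disjoint h5, card_blk hF hw] at h6
    omega
  have h7 : ∀ x ∈ C, G.Adj w x → f x = 0 := by
    intro x _ hx
    simp only [hf, Finset.card_eq_zero]
    rw [Finset.filter_eq_empty_iff]
    intro p hp hpx
    exact hF.tri w p x (mem_blk.1 hp).1 hx hpx
  set R := C.filter fun c => ¬ G.Adj w c with hR
  have hRcard : R.card = 60 := by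
    have := Finset.card_filter_add_card_filter_not (s := C) (fun c => G.Adj w c)
    rw [hR]
    omega
  have h8 : ∑ x ∈ R, f x = 120 := by
    rw [← h1, ← Finset.sum_filter_add_sum_filter_not C (fun c => G.Adj w c)]
    rw [Finset.sum_eq_zero (s := C.filter fun c => G.Adj w c)]
    · simp [hR, hf]
    · intro x hx
      exact h7 x (mem_filter.1 hx).1 (mem_filter.1 hx).2
  have h9 : ∑ x ∈ R, f x ^ 2 = 240 := by
    rw [← h2, ← Finset.sum_filter_add_sum_filter_not C (fun c => G.Adj w c)]
    rw [Finset.sum_eq_zero (s := C.filter fun c => G.Adj w c)]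
    · simp [hR, hf]
    · intro x hx
      have := h7 x (mem_filter.1 hx).1 (mem_filter.1 hx).2
      simp only [hf] at this
      rw [this]
      simp
  have h10 := var_zero R f h8 h9 hRcard c (by
    simp only [hR, mem_filter, hC, mem_erase]
    exact ⟨⟨hne.symm, hc⟩, hna⟩)
  rw [← h10]
  simp only [hf]
  congr 1
  ext x
  simp only [mem_inter, mem_filter, mem_blk]
  constructor
  · rintro ⟨⟨h, h'⟩, h'', _⟩
    exact ⟨⟨h, h'⟩, h''.symm⟩
  · rintro ⟨⟨h, h'⟩, h''⟩
    exact ⟨⟨h, h'⟩, h''.symm, h'⟩

theorem inter_card_le (hF : Facts G) {o w c : V} (hw : w ∈ Q G o) (hc : c ∈ Q G o) (hne : w ≠ c) :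
    (blk G o w ∩ blk G o c).card ≤ 2 := by
  by_cases h : G.Adj w c
  · rw [Finset.disjoint_iff_inter_eq_empty.1 (adj_disjoint hF h)]
    simp
  · exact (inter_card hF hw hc hne h).le

/-- Three points lie on a block. -/
theorem exists_block (hF : Facts G) {o p q r : V} (hp : G.Adj o p) (hq : G.Adj o q) (hr : G.Adj o r)
    (hpq : p ≠ q) (hpr : p ≠ r) (hqr : q ≠ r) :
    ∃ c ∈ Q G o, p ∈ blk G o c ∧ q ∈ blk G o c ∧ r ∈ blk G o c := by
  set C := (Q G o).filter fun c => G.Adj p c ∧ G.Adj q c with hC
  have hCcard : C.card = 5 := by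
    have h1 : N G p ∩ N G q = insert o C := by
      ext c
      simp only [mem_inter, mem_N, mem_insert, hC, mem_filter]
      constructor
      · rintro ⟨hc, hc'⟩
        rcases nbr_cases hF hp hc with h | h
        · exact Or.inl h
        · exact Or.inr ⟨h, hc, hc'⟩
      · rintro (rfl | h)
        · exact ⟨hp.symm, hq.symm⟩
        · exact h.2
    have h2 := hF.mu p q hpq (not_adj_of_mem hF hp hq)
    rw [h1, card_insert_of_notMem] at h2
    · omega
    · simp [hC, mem_Q]
  have hmem : ∀ c ∈ C, c ∈ Q G o ∧ p ∈ blk G o c ∧ q ∈ blk G o c := by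
    intro c hc
    simp only [hC, mem_filter] at hc
    exact ⟨hc.1, mem_blk.2 ⟨hc.2.1.symm, hp⟩, mem_blk.2 ⟨hc.2.2.symm, hq⟩⟩
  set D : V → Finset V := fun c => blk G o c \ {p, q} with hD
  have hcardD : ∀ c ∈ C, (D c).card = 4 := by
    intro c hc
    obtain ⟨h1, h2, h3⟩ := hmem c hc
    have h4 : ({p, q} : Finset V) ⊆ blk G o c := by
      intro x hx
      simp only [mem_insert, mem_singleton] at hx
      rcases hx with rfl | rfl
      · exact h2
      · exact h3
    simp only [hD]
    rw [card_sdiff_of_subset h4, card_blk hF h1, card_pair hpq]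
  have hdisj : (C : Set V).PairwiseDisjoint D := by
    intro c hc c' hc' hne
    simp only [Function.onFun]
    rw [Finset.disjoint_left]
    intro x hx hx'
    simp only [hD, mem_sdiff, mem_insert, mem_singleton, not_or] at hx hx'
    obtain ⟨h1, h2, h3⟩ := hmem c hc
    obtain ⟨h1', h2', h3'⟩ := hmem c' hc'
    have h4 : ({p, q, x} : Finset V) ⊆ blk G o c ∩ blk G o c' := by
      intro y hy
      simp only [mem_insert, mem_singleton] at hy
      rcases hy with rfl | rfl | rfl
      · exact mem_inter.2 ⟨h2, h2'⟩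
      · exact mem_inter.2 ⟨h3, h3'⟩
      · exact mem_inter.2 ⟨hx.1, hx'.1⟩
    have h5 := card_le_card h4
    have h6 := inter_card_le hF h1 h1' hne
    have h7 : ({p, q, x} : Finset V).card = 3 := by
      rw [card_eq_three]
      exact ⟨p, q, x, hpq, fun h => hx.2.1 h.symm, fun h => hx.2.2 h.symm, rfl⟩
    omega
  have hU : C.biUnion D = (N G o) \ {p, q} := by
    apply Finset.eq_of_subset_of_card_le
    · intro x hx
      obtain ⟨c, hc, hx⟩ := mem_biUnion.1 hx
      simp only [hD, mem_sdiff] at hx
      exact mem_sdiff.2 ⟨mem_N.2 (mem_blk.1 hx.1).2, hx.2⟩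
    · rw [card_biUnion hdisj, Finset.sum_congr rfl hcardD, Finset.sum_const, hCcard]
      have h4 : ({p, q} : Finset V) ⊆ N G o := by
        intro x hx
        simp only [mem_insert, mem_singleton] at hx
        rcases hx with rfl | rfl
        · exact mem_N.2 hp
        · exact mem_N.2 hq
      rw [card_sdiff_of_subset h4, hF.deg, card_pair hpq]
      simp
  have hrU : r ∈ C.biUnion D := by
    rw [hU]
    simp only [mem_sdiff, mem_N, mem_insert, mem_singleton, not_or]
    exact ⟨hr, hpr.symm, hqr.symm⟩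
  obtain ⟨c, hc, hrc⟩ := mem_biUnion.1 hrU
  obtain ⟨h1, h2, h3⟩ := hmem c hc
  exact ⟨c, h1, h2, h3, (mem_sdiff.1 hrc).1⟩

/-- A block as a subset of the points. -/
def blkS (G : SimpleGraph V) [DecidableRel G.Adj] (o w : V) : Finset {x // G.Adj o x} :=
  univ.filter fun p => G.Adj w p.1

theorem mem_blkS {o w : V} {p : {x // G.Adj o x}} : p ∈ blkS G o w ↔ G.Adj w p.1 := by
  simp [blkS]

theorem card_blkS (hF : Facts G) {o w : V} (hw : w ∈ Q G o) : (blkS G o w).card = 6 := by
  rw [← card_blk hF hw, ← Finset.card_image_of_injective (blkS G o w) Subtype.val_injective]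
  congr 1
  ext x
  simp only [mem_image, mem_blkS, Subtype.exists, exists_and_right, exists_eq_right, mem_blk]
  constructor
  · rintro ⟨h, h'⟩
    exact ⟨h', h⟩
  · rintro ⟨h, h'⟩
    exact ⟨h', h⟩

theorem blkS_inter (hF : Facts G) {o w c : V} (hw : w ∈ Q G o) (hc : c ∈ Q G o) (hne : w ≠ c) :
    (blkS G o w ∩ blkS G o c).card ≤ 2 := by
  refine le_trans ?_ (inter_card_le hF hw hc hne)
  rw [← Finset.card_image_of_injective (blkS G o w ∩ blkS G o c) Subtype.val_injective]
  apply card_le_card
  intro x hx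
  obtain ⟨y, hy, rfl⟩ := mem_image.1 hx
  rw [mem_inter, mem_blkS, mem_blkS] at hy
  exact mem_inter.2 ⟨mem_blk.2 ⟨hy.1, y.2⟩, mem_blk.2 ⟨hy.2, y.2⟩⟩

theorem blkS_inj (hF : Facts G) {o w c : V} (hw : w ∈ Q G o) (hc : c ∈ Q G o)
    (h : blkS G o w = blkS G o c) : w = c := by
  by_contra hne
  have h1 := blkS_inter hF hw hc hne
  rw [← h, inter_self, card_blkS hF hw] at h1
  omega

/-- The Steiner system attached to a vertex. -/
def sys (G : SimpleGraph V) [DecidableRel G.Adj] (o : V) : Set (Finset {x // G.Adj o x}) :=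
  blkS G o '' (Q G o : Set V)

theorem steiner (hF : Facts G) (o : V) : IsSteinerSystem 3 6 (sys G o) := by
  constructor
  · rintro _ ⟨w, hw, rfl⟩
    exact card_blkS hF hw
  · intro s hs
    obtain ⟨a, b, c, hab, hac, hbc, rfl⟩ := Finset.card_eq_three.1 hs
    obtain ⟨w, hw, h1, h2, h3⟩ := exists_block hF a.2 b.2 c.2
      (fun h => hab (Subtype.ext h)) (fun h => hac (Subtype.ext h)) (fun h => hbc (Subtype.ext h))
    refine ⟨blkS G o w, ⟨⟨w, hw, rfl⟩, ?_⟩, ?_⟩
    · intro x hx
      simp only [mem_insert, mem_singleton] at hx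
      rw [mem_blkS]
      rcases hx with rfl | rfl | rfl
      · exact (mem_blk.1 h1).1
      · exact (mem_blk.1 h2).1
      · exact (mem_blk.1 h3).1
    · rintro _ ⟨⟨w', hw', rfl⟩, hs'⟩
      by_contra hne
      have hne' : w' ≠ w := fun h => hne (by rw [h])
      have h4 := blkS_inter hF (mem_coe.1 hw') hw hne'
      have h5 : ({a, b, c} : Finset _) ⊆ blkS G o w' ∩ blkS G o w := by
        intro x hx
        refine mem_inter.2 ⟨hs' hx, ?_⟩
        simp only [mem_insert, mem_singleton] at hx
        rw [mem_blkS]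
        rcases hx with rfl | rfl | rfl
        · exact (mem_blk.1 h1).1
        · exact (mem_blk.1 h2).1
        · exact (mem_blk.1 h3).1
      have h6 := card_le_card h5
      omega

theorem card_points (hF : Facts G) (o : V) : Fintype.card {x // G.Adj o x} = 22 := by
  rw [Fintype.card_of_subtype (N G o) (fun x => mem_N), hF.deg]

/-- The vertex map. -/
noncomputable def vmap (G : SimpleGraph V) [DecidableRel G.Adj] (o x : V) :
    Option ({x // G.Adj o x} ⊕ sys G o) :=
  if h : x = o then none else
    if h' : G.Adj o x then some (Sum.inl ⟨x, h'⟩)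
    else some (Sum.inr ⟨blkS G o x, ⟨x, mem_coe.2 (mem_Q.2 ⟨h, h'⟩), rfl⟩⟩)

theorem vmap_o (o : V) : vmap G o o = none := by simp [vmap]

theorem vmap_pt {o x : V} (h : G.Adj o x) : vmap G o x = some (Sum.inl ⟨x, h⟩) := by
  have h1 : x ≠ o := h.ne'
  simp [vmap, h1, h]

theorem vmap_blk {o x : V} (h : x ∈ Q G o) :
    vmap G o x = some (Sum.inr ⟨blkS G o x, ⟨x, mem_coe.2 h, rfl⟩⟩) := by
  obtain ⟨h1, h2⟩ := mem_Q.1 h
  simp [vmap, h1, h2]

/-- Trichotomy of vertices. -/
theorem tricho (o x : V) : x = o ∨ G.Adj o x ∨ x ∈ Q G o := by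
  by_cases h : x = o
  · exact Or.inl h
  · by_cases h' : G.Adj o x
    · exact Or.inr (Or.inl h')
    · exact Or.inr (Or.inr (mem_Q.2 ⟨h, h'⟩))

theorem vmap_inj (hF : Facts G) (o : V) : Function.Injective (vmap G o) := by
  intro x y hxy
  have hx' := tricho (G := G) o x
  have hy' := tricho (G := G) o y
  rcases hx' with rfl | hx | hx <;> rcases hy' with rfl | hy | hy
  · rfl
  · rw [vmap_o, vmap_pt hy] at hxy; simp at hxy
  · rw [vmap_o, vmap_blk hy] at hxy; simp at hxy
  · rw [vmap_o, vmap_pt hx] at hxy; simp at hxy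
  · rw [vmap_pt hx, vmap_pt hy] at hxy; simpa using hxy
  · rw [vmap_pt hx, vmap_blk hy] at hxy; simp at hxy
  · rw [vmap_o, vmap_blk hx] at hxy; simp at hxy
  · rw [vmap_blk hx, vmap_pt hy] at hxy; simp at hxy
  · rw [vmap_blk hx, vmap_blk hy] at hxy
    simp only [Option.some.injEq, Sum.inr.injEq] at hxy
    exact blkS_inj hF hx hy (congrArg Subtype.val hxy)

theorem vmap_surj (o : V) : Function.Surjective (vmap G o) := by
  rintro (_ | p | ⟨_, w, hw, rfl⟩)
  · exact ⟨o, vmap_o o⟩
  · exact ⟨p.1, vmap_pt p.2⟩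
  · exact ⟨w, vmap_blk (mem_coe.1 hw)⟩

theorem vmap_adj (hF : Facts G) (o x y : V) :
    (pointBlockGraph (sys G o)).Adj (vmap G o x) (vmap G o y) ↔ G.Adj x y := by
  have hinj := vmap_inj hF o
  rw [pointBlockGraph, SimpleGraph.fromRel_adj]
  constructor
  · rintro ⟨hne, h⟩
    have hxy : x ≠ y := fun h => hne (by rw [h])
    have hx' := tricho (G := G) o x
    have hy' := tricho (G := G) o y
    rcases hx' with rfl | hx | hx <;> rcases hy' with rfl | hy | hy
    · exact absurd rfl hxy
    · exact hy
    · rw [vmap_o, vmap_blk hy] at h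
      simp [pointBlockRel] at h
    · exact hx.symm
    · rw [vmap_pt hx, vmap_pt hy] at h
      simp [pointBlockRel] at h
    · rw [vmap_pt hx, vmap_blk hy] at h
      simp only [pointBlockRel, mem_blkS, or_false] at h
      exact h.symm
    · rw [vmap_o, vmap_blk hx] at h
      simp [pointBlockRel] at h
    · rw [vmap_blk hx, vmap_pt hy] at h
      simp only [pointBlockRel, mem_blkS, false_or] at h
      exact h
    · rw [vmap_blk hx, vmap_blk hy] at h
      simp only [pointBlockRel] at h
      have h1 : Disjoint (blkS G o x) (blkS G o y) := by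
        rcases h with h | h
        · exact h
        · exact h.symm
      by_contra hna
      have h2 := inter_card hF hx hy hxy hna
      have h3 : (blk G o x ∩ blk G o y) = ∅ := by
        ext z
        simp only [mem_inter, mem_blk, notMem_empty, iff_false]
        rintro ⟨⟨h4, h5⟩, h6, _⟩
        exact Finset.disjoint_left.1 h1 ((mem_blkS (p := ⟨z, h5⟩)).2 h4) ((mem_blkS (p := ⟨z, h5⟩)).2 h6)
      rw [h3] at h2
      simp at h2
  · intro hxy
    have hne : x ≠ y := hxy.ne
    refine ⟨fun h => hne (hinj h), ?_⟩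
    have hx' := tricho (G := G) o x
    have hy' := tricho (G := G) o y
    rcases hx' with rfl | hx | hx <;> rcases hy' with rfl | hy | hy
    · exact absurd rfl hne
    · rw [vmap_o, vmap_pt hy]
      exact Or.inl trivial
    · exact absurd hxy (mem_Q.1 hy).2
    · rw [vmap_o, vmap_pt hx]
      exact Or.inr trivial
    · exact absurd hxy (not_adj_of_mem hF hx hy)
    · rw [vmap_pt hx, vmap_blk hy]
      left
      simp only [pointBlockRel, mem_blkS]
      exact hxy.symm
    · exact absurd hxy.symm (mem_Q.1 hx).2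
    · rw [vmap_blk hx, vmap_pt hy]
      right
      simp only [pointBlockRel, mem_blkS]
      exact hxy
    · rw [vmap_blk hx, vmap_blk hy]
      left
      simp only [pointBlockRel]
      rw [Finset.disjoint_left]
      intro p hp hp'
      exact hF.tri x y p.1 hxy (mem_blkS.1 hp) (mem_blkS.1 hp')

/-- A strongly regular graph is the point-block graph of its Steiner system, sending `o` to the
extra vertex. -/
theorem iso_pointBlock (hF : Facts G) (o : V) :
    ∃ φ : G ≃g pointBlockGraph (sys G o), φ o = none :=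
  ⟨⟨Equiv.ofBijective (vmap G o) ⟨vmap_inj hF o, vmap_surj o⟩, vmap_adj hF o _ _⟩, vmap_o o⟩

/-- Isomorphic set systems have isomorphic point-block graphs. -/
theorem pointBlock_congr {α β : Type*} [DecidableEq α] [DecidableEq β] {A : Set (Finset α)}
    {A' : Set (Finset β)} (h : SetSystemIso A A') :
    ∃ ψ : pointBlockGraph A ≃g pointBlockGraph A', ψ none = none := by
  obtain ⟨e, he⟩ := h
  have hmem : ∀ b, b ∈ A → b.image e ∈ A' := fun b hb => he ▸ Set.mem_image_of_mem _ hb
  have hmem' : ∀ b, b ∈ A' → b.image e.symm ∈ A := by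
    intro b hb
    rw [← he] at hb
    obtain ⟨c, hc, rfl⟩ := hb
    rwa [Finset.image_image, show (e.symm ∘ e : α → α) = id from funext e.symm_apply_apply,
      Finset.image_id]
  let eB : A ≃ A' :=
    { toFun := fun b => ⟨b.1.image e, hmem b.1 b.2⟩
      invFun := fun b => ⟨b.1.image e.symm, hmem' b.1 b.2⟩
      left_inv := fun b => by
        apply Subtype.ext
        simp only
        rw [Finset.image_image, show (e.symm ∘ e : α → α) = id from funext e.symm_apply_apply,
          Finset.image_id]
      right_inv := fun b => by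
        apply Subtype.ext
        simp only
        rw [Finset.image_image, show (e ∘ e.symm : β → β) = id from funext e.apply_symm_apply,
          Finset.image_id] }
  have hrel : ∀ x y, pointBlockRel A' (Equiv.optionCongr (Equiv.sumCongr e eB) x)
      (Equiv.optionCongr (Equiv.sumCongr e eB) y) ↔ pointBlockRel A x y := by
    rintro (_ | a | b) (_ | a' | b') <;> simp [pointBlockRel, eB]
    · simp [Finset.disjoint_image e.injective]
  refine ⟨⟨Equiv.optionCongr (Equiv.sumCongr e eB), ?_⟩, rfl⟩
  intro x y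
  simp only [pointBlockGraph, SimpleGraph.fromRel_adj, hrel,
    (Equiv.optionCongr (Equiv.sumCongr e eB)).injective.ne_iff]

/-- Pointed uniqueness. -/
theorem pointed_iso {W : Type*} [Fintype W] [DecidableEq W] {H : SimpleGraph W} [DecidableRel H.Adj]
    (hF : Facts G) (hH : Facts H) (o : V) (o' : W) : ∃ φ : G ≃g H, φ o = o' := by
  obtain ⟨φ₁, h₁⟩ := iso_pointBlock hF o
  obtain ⟨φ₂, h₂⟩ := iso_pointBlock hH o'
  have e₁ : SetSystemIso (sys G o) (sys H o') :=
    SteinerSearch.iso_of_good Steiner3622.good (card_points hF o) (card_points hH o')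
      (steiner hF o) (steiner hH o')
  obtain ⟨ψ, hψ⟩ := pointBlock_congr e₁
  refine ⟨φ₁.trans (ψ.trans φ₂.symm), ?_⟩
  show φ₂.symm (ψ (φ₁ o)) = o'
  rw [h₁, hψ, ← h₂]
  simp

end Cfsg.Agent.Lib.SRG100
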