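import Mathlib
import Cfsg.Agent.Lib.SRG100

set_option autoImplicit false
set_option maxRecDepth 1000000
set_option linter.unusedSectionVars false
set_option linter.unusedSimpArgs false
set_option linter.unusedVariables false
set_option linter.unnecessarySimpa false

/-!
# An explicit strongly regular graph with parameters (100, 22, 0, 6), with an odd automorphism
-/

namespace Cfsg.Agent.Lib.SRG100Model
open Finset Cfsg Cfsg.Agent.Lib.SteinerSearch Cfsg.Agent.Lib.SRG100

def M : List ℕ := [0x7ffffe,0x9224420888c20c224c800001,0xa408a1240a08c4442a800001,0x40a01a082c060516980800001,0x20c0640852018299680800001,0x4108a09092222121170800001,0x220a10a224090a28816800001,0xc10308d0104a80c325000001,0x1408490a80835003c25000001,0x8004d003184ab610019000001,0x80032804e0354990019000001,0x109280c048d00305a43000001,0x88d01403128048a543000001,0x211409140c1090c1196000001,0x11411224114111222aa000001,0x12242411211242244cc000001,0x42114121424444488f0000001,0x2421824182181870f00000001,0x444604460460607f000000001,0x8078007807807f80000000001,0x8780078007ff8000000000001,0xf80007fff800000000000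0001,0xfffff80000000000000000001,0x941501450150500000100007e,0x6360063006000060080801f80,0xc420640982066010000007844,0xc0c182405260051000000a1c2,0x649801c80600000990000c606,0x1ce0064801800006600012660,0xa0a604402c1802900000141a4,0xa4401a0e04019810000019822,0x8c0a80c280a8280000101e018,0x9242442240c142000080230a8,0xc20c091224224400010024892,0xc11210a40c442100010029114,0x894424141120a080008030948,0x8a211221210c0c00008042930,0xa210a09142108a0001004510a,0xa10941209209108001004888c,0x91208a10889211000080510d0,0x1b1801b001800000066060618,0x889049084884848000106c060,0x9088308831030300001072006,0x5600928300420024820083412,0x2e04450300088048404084c28,0x4d010b0480240042120088a50,0x350224848011002120409120c,0x51844500184200030c00a04c4,0x4a8224806024000c0408a6300,0x32810b0060110000c820c02a2,0x29809280180880003028d8500,0x502b0060a0004122840102294,0x4834805108002444140104550,0x28530064400008c8202108328,0x304c80521000122140211048a,0x5050281c400041050a0121242,0x4848502a1000240a02092ac00,0x3030502908001200a84141424,0x28282818a0000880504954a00,0x6005300530000038190180906,0x6002c802c80000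5181098d080,0x180618062800000600f1b0030,0x1801e001d00000006691c2048,0x649200003214828420202a0a,0x632080004944844804205230,0x550c00002c0b041220209448,0x52c1000050a3022104210c14,0x2d410000540860c082220522,0x1ca080004a10183002a38280,0x1b12000031401803c0240344,0x2a8c000028a0600c40a46480,0x30780000078006005a280198,0x4835000004d001aa0128a024,0x484a80000328015501294042,0x3007800000780000bcae1800,0x654800000054d24883008e0,0x62b00000002b34208b13100,0x1e60000000628905532400c,0x19980000001d00933348012,0x4e11348222824040250c,0x550c2b040c14404042c8,0x3620cc814428024084b0,0x2d425300924102410312,0x52c2505408a084420a24,0x49a0c82a205004c35400,0x319130294005a0440c42,0x2a8c2850900a20c4b200,0x60548548054288481160,0x602b02b0032408c92880,0x186506180090334a800a,0x181a81e00009554c4014,0x378000786003c501818,0x4b60004e1cc01506022,0x4c98003193301518044,0x30780007800dad60180,0x6535331890601086,0x62cacd8110e0c900,0x1e66506069622050,0x1999a8060f650028,0x6ffe6f80600]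
def swaps : List (ℕ × ℕ) := [(5,6),(8,19),(9,13),(10,16),(12,22),(14,17),(15,18),(24,88),(25,83),(26,49),(27,42),(29,47),(30,85),(31,40),(32,80),(34,90),(35,44),(36,45),(37,89),(39,81),(43,82),(46,79),(52,61),(53,62),(55,92),(56,58),(57,93),(60,94),(64,97),(65,98),(67,73),(68,70),(69,72),(74,96),(76,99)]
def gT : List ℕ := [0,1,2,3,4,6,5,7,19,13,16,11,22,9,17,18,10,14,15,8,20,21,12,23,88,83,49,42,28,47,85,40,80,33,90,44,45,89,38,81,31,41,27,82,35,36,79,29,48,26,50,51,61,62,54,92,58,93,56,59,94,52,53,63,97,98,66,73,70,72,68,71,69,67,96,75,99,77,78,46,32,39,43,25,84,30,86,87,24,37,34,91,55,57,60,95,74,64,65,76]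

/-- The neighbours of a vertex as a mask. -/
def mask (i : ℕ) : ℕ := M.getD i 0

theorem symm_chk : ∀ i j : Fin 100, (mask i).testBit j = (mask j).testBit i := by decide +kernel

theorem loop_chk : ∀ i : Fin 100, (mask i).testBit i = false := by decide +kernel

/-- The graph. -/
def G0 : SimpleGraph (Fin 100) where
  Adj := fun (i j : Fin 100) => (mask i.1).testBit j.1 = true
  symm := ⟨fun (i j : Fin 100) (h : (mask i.1).testBit j.1 = true) => by
    show (mask j.1).testBit i.1 = true
    rw [← symm_chk i j]; exact h⟩
  loopless := ⟨fun (i : Fin 100) (h : (mask i.1).testBit i.1 = true) => by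
    rw [loop_chk] at h
    simp at h⟩

theorem adj_iff {i j : Fin 100} : G0.Adj i j ↔ (mask i.1).testBit j.1 = true := Iff.rfl

instance : DecidableRel G0.Adj := fun i j => decidable_of_iff _ adj_iff.symm

theorem N_eq (v : Fin 100) : N G0 v = ofMask 100 (mask v) := by
  ext x
  simp only [N, ofMask, mem_filter, mem_univ, true_and]
  exact adj_iff

theorem deg_chk : ∀ v : Fin 100, popN 25 (mask v) = 22 := by decide +kernel

theorem tri_chk : ∀ v w : Fin 100, (mask v).testBit w = true → Nat.land (mask v) (mask w) = 0 := by
  decide +kernel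

theorem mu_chk : ∀ v w : Fin 100, v ≠ w → (mask v).testBit w = false →
    popN 25 (Nat.land (mask v) (mask w)) = 6 := by
  decide +kernel

theorem facts0 : Facts G0 where
  card := by simp
  deg := fun v => by
    rw [N_eq, card_ofMask_S]
    exact (popN_eq 25 _).symm.trans (deg_chk v)
  tri := fun v w x h1 h2 h3 => by
    have h4 := tri_chk v w (adj_iff.1 h1)
    have h5 : (Nat.land (mask v) (mask w)).testBit x = true := by
      rw [show Nat.land (mask v) (mask w) = mask v &&& mask w from rfl, Nat.testBit_and]
      rw [Bool.and_eq_true]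
      exact ⟨adj_iff.1 h2, adj_iff.1 h3⟩
    rw [h4] at h5
    simp at h5
  mu := fun v w hne hna => by
    rw [N_eq, N_eq, ← ofMask_land, card_ofMask_S]
    refine (popN_eq 25 _).symm.trans (mu_chk v w hne ?_)
    simpa [adj_iff] using hna

/-- The odd automorphism as a list of transpositions. -/
def swapList : List (Equiv.Perm (Fin 100)) :=
  swaps.map fun p => Equiv.swap (Fin.ofNat 100 p.1) (Fin.ofNat 100 p.2)

/-- The odd automorphism. -/
def g0 : Equiv.Perm (Fin 100) := swapList.prod

theorem g0_apply : ∀ i : Fin 100, (g0 i).1 = gT.getD i 0 := by decide +kernel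

theorem gT_adj : ∀ i j : Fin 100,
    (mask (gT.getD i 0)).testBit (gT.getD j 0) = (mask i).testBit j := by decide +kernel

theorem g0_adj (i j : Fin 100) : G0.Adj (g0 i) (g0 j) ↔ G0.Adj i j := by
  rw [adj_iff, adj_iff]
  rw [g0_apply, g0_apply, gT_adj]

theorem g0_fix : g0 0 = 0 := by
  apply Fin.ext
  rw [g0_apply]
  rfl

theorem swaps_ok : ∀ p ∈ swaps, (Fin.ofNat 100 p.1) ≠ (Fin.ofNat 100 p.2) := by decide +kernel

theorem swaps_len : swaps.length = 35 := by decide +kernel

theorem sign_g0 : Equiv.Perm.sign g0 = -1 := by
  have h1 : ∀ g ∈ swapList, Equiv.Perm.IsSwap g := by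
    intro g hg
    obtain ⟨p, hp, rfl⟩ := List.mem_map.1 hg
    exact ⟨_, _, swaps_ok p hp, rfl⟩
  rw [g0, Equiv.Perm.sign_prod_list_swap h1]
  simp [swapList, swaps_len]
  decide

end Cfsg.Agent.Lib.SRG100Model
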