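import Mathlib

set_option autoImplicit false
set_option linter.unusedSectionVars false
set_option linter.unusedSimpArgs false
set_option linter.unusedVariables false
set_option linter.unnecessarySimpa false

/-!
# A simplicity criterion for a transitive action of degree 100

If `H` acts faithfully and transitively on 100 points, the stabilizer of a point is simple and the
only invariant subsets of the stabilizer containing the point whose size divides 100 are trivial,
then `H` is simple.
-/

namespace Cfsg.Agent.Lib.SRG100Simple
open MulAction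

variable {H Ω : Type*} [Group H] [MulAction H Ω]

/-- The hypotheses of the criterion. -/
structure Setup (H Ω : Type*) [Group H] [MulAction H Ω] (o : Ω) : Prop where
  finΩ : Finite Ω
  finH : Finite H
  card : Nat.card Ω = 100
  trans : IsPretransitive H Ω
  faith : FaithfulSMul H Ω
  simple : IsSimpleGroup (stabilizer H o)
  inv : ∀ X : Set Ω, o ∈ X → (∀ h ∈ stabilizer H o, ∀ x ∈ X, h • x ∈ X) → X.ncard ∣ 100 →
    X = {o} ∨ X = Set.univ

theorem orbit_univ {o : Ω} (S : Setup H Ω o) (L : Subgroup H) [hn : L.Normal] (hL : L ≠ ⊥) :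
    orbit L o = Set.univ := by
  have := S.finΩ
  have := S.trans
  have := S.faith
  have hi : ∀ h ∈ stabilizer H o, ∀ x ∈ orbit L o, h • x ∈ orbit L o := by
    rintro h hh _ ⟨⟨l, hl⟩, rfl⟩
    have h1 : h • (⟨l, hl⟩ : L) • o = (h * l * h⁻¹) • o := by
      have h2 : h⁻¹ • o = o := by
        rw [inv_smul_eq_iff]
        exact (mem_stabilizer_iff.1 hh).symm
      rw [mul_smul, mul_smul, h2]
      rfl
    rw [h1]
    exact ⟨⟨h * l * h⁻¹, hn.conj_mem l hl h⟩, rfl⟩
  have hd : (orbit L o).ncard ∣ 100 := by
    have hb : IsBlock H (orbit L o) := IsBlock.orbit_of_normal o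
    have := hb.ncard_dvd_card (MulAction.nonempty_orbit o)
    rwa [S.card] at this
  rcases S.inv (orbit L o) (mem_orbit_self o) hi hd with h | h
  · exfalso
    apply hL
    rw [Subgroup.eq_bot_iff_forall]
    intro l hl
    have hfix : ∀ l ∈ L, l • o = o := by
      intro l hl
      have : l • o ∈ orbit L o := ⟨⟨l, hl⟩, rfl⟩
      rw [h] at this
      exact this
    apply FaithfulSMul.eq_of_smul_eq_smul (α := Ω)
    intro x
    obtain ⟨g, rfl⟩ := exists_smul_eq H o x
    have h1 := hfix (g⁻¹ * l * g) (by simpa using hn.conj_mem l hl g⁻¹)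
    rw [mul_smul, mul_smul] at h1
    rw [one_smul]
    have h2 := congrArg (fun y => g • y) h1
    simpa using h2
  · exact h

theorem dvd_card {o : Ω} (S : Setup H Ω o) (L : Subgroup H) [hn : L.Normal] (hL : L ≠ ⊥) :
    100 ∣ Nat.card L := by
  have := S.finΩ
  have := S.finH
  have h1 := index_stabilizer L o
  rw [orbit_univ S L hL, Set.ncard_univ, S.card] at h1
  rw [← h1]
  exact Subgroup.index_dvd_card _

theorem isSimple {o : Ω} (S : Setup H Ω o) : IsSimpleGroup H := by
  have := S.finΩ
  have := S.finH
  have := S.simple
  have : Nontrivial H := by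
    obtain ⟨⟨a, ha⟩, ⟨b, hb⟩, hab⟩ := exists_pair_ne (stabilizer H o)
    exact ⟨⟨a, b, fun h => hab (Subtype.ext h)⟩⟩
  refine ⟨fun K hK => ?_⟩
  by_cases hbot : K = ⊥
  · exact Or.inl hbot
  right
  have hn : (K.subgroupOf (stabilizer H o)).Normal := hK.subgroupOf _
  rcases hn.eq_bot_or_eq_top with h | h
  · exfalso
    have h1 := index_stabilizer K o
    rw [orbit_univ S K hbot, Set.ncard_univ, S.card] at h1
    have h2 : stabilizer K o = ⊥ := by
      rw [Subgroup.eq_bot_iff_forall]
      rintro ⟨k, hk⟩ hk'
      have hk2 : k ∈ stabilizer H o := hk'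
      have : (⟨k, hk2⟩ : stabilizer H o) ∈ K.subgroupOf (stabilizer H o) := by
        rw [Subgroup.mem_subgroupOf]
        exact hk
      rw [h, Subgroup.mem_bot] at this
      apply Subtype.ext
      have h9 := congrArg Subtype.val this
      exact h9
    rw [h2, Subgroup.index_bot] at h1
    have : Fact (Nat.Prime 5) := ⟨by norm_num⟩
    obtain ⟨P⟩ : Nonempty (Sylow 5 K) := inferInstance
    have hPcard : Nat.card P = 25 := by
      rw [Sylow.card_eq_multiplicity, h1]
      have : Nat.factorization 100 5 = 2 := by
        rw [show (100 : ℕ) = 5 ^ 2 * 4 by norm_num, Nat.factorization_mul (by norm_num) (by norm_num),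
          Nat.factorization_pow]
        simp [Nat.Prime.factorization (show Nat.Prime 5 by norm_num)]
        rw [show (4 : ℕ) = 2 ^ 2 by norm_num, Nat.factorization_pow]
        simp [Nat.Prime.factorization (show Nat.Prime 2 by norm_num)]
      rw [this]
      norm_num
    have hidx : (P : Subgroup K).index = 4 := by
      have := Subgroup.index_mul_card (P : Subgroup K)
      rw [hPcard, h1] at this
      omega
    have hdvd : Nat.card (Sylow 5 K) ∣ 4 := by
      have := P.card_dvd_index
      rwa [hidx] at this
    have hmod := card_sylow_modEq_one 5 K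
    have hone : Nat.card (Sylow 5 K) = 1 := by
      have hle := Nat.le_of_dvd (by norm_num) hdvd
      unfold Nat.ModEq at hmod
      interval_cases hc : Nat.card (Sylow 5 K) <;> simp_all
    have : Subsingleton (Sylow 5 K) := (Nat.card_eq_one_iff_unique.1 hone).1
    have hPn := P.normal_of_subsingleton
    have hPc : (P : Subgroup K).Characteristic := P.characteristic_of_normal hPn
    let L : Subgroup H := (P : Subgroup K).map K.subtype
    have hLn : L.Normal := ConjAct.normal_of_characteristic_of_normal
    have hLcard : Nat.card L = 25 := by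
      rw [← hPcard]
      exact Nat.card_congr ((P : Subgroup K).equivMapOfInjective K.subtype K.subtype_injective).symm.toEquiv
    have hLne : L ≠ ⊥ := by
      intro h
      rw [h] at hLcard
      simp at hLcard
    have := dvd_card S L hLne
    rw [hLcard] at this
    omega
  · have hle : stabilizer H o ≤ K := by
      intro g hg
      have : (⟨g, hg⟩ : stabilizer H o) ∈ K.subgroupOf (stabilizer H o) := by
        rw [h]; trivial
      rwa [Subgroup.mem_subgroupOf] at this
    rw [eq_top_iff]
    intro g _
    have h1 : g • o ∈ orbit K o := by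
      rw [orbit_univ S K hbot]; trivial
    obtain ⟨⟨k, hk⟩, hk'⟩ := h1
    have h2 : k⁻¹ * g ∈ stabilizer H o := by
      rw [mem_stabilizer_iff, mul_smul, inv_smul_eq_iff]
      exact hk'.symm
    have h3 := K.mul_mem hk (hle h2)
    simpa using h3

end Cfsg.Agent.Lib.SRG100Simple
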