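import Mathlib
import Cfsg.Prelude.Def_Sporadic_a
import Cfsg.Agent.Lib.SteinerAut

set_option autoImplicit false
set_option linter.unusedSectionVars false
set_option linter.unusedSimpArgs false
set_option linter.unusedVariables false
set_option linter.unnecessarySimpa false

/-!
# Restriction of automorphisms to derived designs
-/

namespace Cfsg.Agent.Lib.SteinerDerive
open Cfsg Cfsg.Agent.Lib.SteinerAut

variable {X : Type*} [DecidableEq X]

/-- The derived system at a point. -/
def derive (S : Set (Finset X)) (p : X) : Set (Finset {a : X // a ≠ p}) :=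
  {b' | ∃ b ∈ S, p ∈ b ∧ b' = Finset.subtype (fun a => a ≠ p) b}

/-- The restriction of a permutation fixing `p`. -/
def restr {p : X} (g : Equiv.Perm X) (hg : g p = p) : Equiv.Perm {a : X // a ≠ p} :=
  g.subtypePerm (fun x => by
    constructor
    · intro h hx
      exact h (by rw [hx, hg])
    · intro h hx
      exact h (g.injective (by rw [hx, hg])))

@[simp] theorem restr_val {p : X} (g : Equiv.Perm X) (hg : g p = p) (a : {a : X // a ≠ p}) :
    (restr g hg a).1 = g a.1 := rfl

theorem image_restr {p : X} (g : Equiv.Perm X) (hg : g p = p) (b : Finset X) :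
    (Finset.subtype (fun a => a ≠ p) b).image (restr g hg) =
      Finset.subtype (fun a => a ≠ p) (b.image g) := by
  ext a
  simp only [Finset.mem_image, Finset.mem_subtype]
  constructor
  · rintro ⟨c, hc, rfl⟩
    exact ⟨c.1, hc, rfl⟩
  · rintro ⟨c, hc, hca⟩
    have hcp : c ≠ p := fun h => a.2 (by rw [← hca, h, hg])
    exact ⟨⟨c, hcp⟩, hc, Subtype.ext hca⟩

theorem restr_mem {S : Set (Finset X)} {p : X} {g : Equiv.Perm X} (hS : g ∈ setSystemAut S)
    (hg : g p = p) : restr g hg ∈ setSystemAut (derive S p) := by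
  rw [mem_aut_iff] at hS ⊢
  ext c
  constructor
  · rintro ⟨_, ⟨b, hb, hpb, rfl⟩, rfl⟩
    refine ⟨b.image g, ?_, ?_, ?_⟩
    · rw [← hS]
      exact ⟨b, hb, rfl⟩
    · rw [← hg]
      exact Finset.mem_image_of_mem _ hpb
    · exact image_restr g hg b
  · rintro ⟨d, hd, hpd, rfl⟩
    rw [← hS] at hd
    obtain ⟨b, hb, rfl⟩ := hd
    refine ⟨_, ⟨b, hb, ?_, rfl⟩, image_restr g hg b⟩
    obtain ⟨x, hx, hxp⟩ := Finset.mem_image.1 hpd
    have : x = p := g.injective (by rw [hxp, hg])
    exact this ▸ hx

theorem restr_mul {p : X} (g h : Equiv.Perm X) (hg : g p = p) (hh : h p = p) :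
    restr (g * h) (by simp [hh, hg]) = restr g hg * restr h hh := by
  ext a
  rfl

theorem restr_inj {p : X} {g h : Equiv.Perm X} (hg : g p = p) (hh : h p = p)
    (e : restr g hg = restr h hh) : g = h := by
  ext x
  by_cases hx : x = p
  · subst hx
    rw [hg, hh]
  · have := congrArg (fun z : Equiv.Perm {a : X // a ≠ p} => (z ⟨x, hx⟩).1) e
    exact this

theorem restr_fix {p q : X} (hq : q ≠ p) (g : Equiv.Perm X) (hg : g p = p) (hgq : g q = q) :
    restr g hg ⟨q, hq⟩ = ⟨q, hq⟩ := Subtype.ext hgq

/-- The restriction homomorphism to the derived system. -/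
def restrHom (G : Subgroup (Equiv.Perm X)) (S : Set (Finset X)) (hG : G ≤ setSystemAut S) (p : X) :
    MulAction.stabilizer G p →* setSystemAut (derive S p) where
  toFun g := ⟨restr g.1.1 g.2, restr_mem (hG g.1.2) g.2⟩
  map_one' := by
    apply Subtype.ext
    ext a
    rfl
  map_mul' g h := by
    apply Subtype.ext
    ext a
    rfl

theorem restrHom_inj (G : Subgroup (Equiv.Perm X)) (S : Set (Finset X)) (hG : G ≤ setSystemAut S)
    (p : X) : Function.Injective (restrHom G S hG p) := by
  intro g h e
  have h1 := congrArg Subtype.val e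
  apply Subtype.ext
  apply Subtype.ext
  exact restr_inj g.2 h.2 h1

/-- The restriction homomorphism to the twice derived system. -/
def restrHom2 (G : Subgroup (Equiv.Perm X)) (S : Set (Finset X)) (hG : G ≤ setSystemAut S) (p q : X)
    (hq : q ≠ p) : ↥(MulAction.stabilizer G p ⊓ MulAction.stabilizer G q) →*
      setSystemAut (derive (derive S p) ⟨q, hq⟩) where
  toFun g := ⟨restr (restr g.1.1 g.2.1) (restr_fix hq g.1.1 g.2.1 g.2.2),
    restr_mem (restr_mem (hG g.1.2) g.2.1) (restr_fix hq g.1.1 g.2.1 g.2.2)⟩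
  map_one' := by
    apply Subtype.ext
    ext a
    rfl
  map_mul' g h := by
    apply Subtype.ext
    ext a
    rfl

theorem restrHom2_inj (G : Subgroup (Equiv.Perm X)) (S : Set (Finset X)) (hG : G ≤ setSystemAut S)
    (p q : X) (hq : q ≠ p) : Function.Injective (restrHom2 G S hG p q hq) := by
  intro g h e
  have h1 := congrArg Subtype.val e
  apply Subtype.ext
  apply Subtype.ext
  exact restr_inj g.2.1 h.2.1 (restr_inj (restr_fix hq g.1.1 g.2.1 g.2.2)
    (restr_fix hq h.1.1 h.2.1 h.2.2) h1)

end Cfsg.Agent.Lib.SteinerDerive
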