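import Mathlib
import Cfsg.Agent.Lib.SRG100
import Cfsg.Agent.Lib.SRG100Model
import Cfsg.Agent.Lib.SRG100Simple
import Cfsg.Agent.Lib.SteinerAut
import Cfsg.Agent.S0414

set_option autoImplicit false
set_option linter.unusedSectionVars false
set_option linter.unusedSimpArgs false
set_option linter.unusedVariables false
set_option linter.unnecessarySimpa false
set_option linter.style.haveILetI false

/-!
# The automorphism group of the graph (100, 22, 0, 6) contains the Higman-Sims group
-/

namespace Cfsg.Agent.Lib.SRG100Aut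
open Finset Cfsg Cfsg.Agent.Lib.SRG100 MulAction Cfsg.Agent.Lib.SteinerAut

variable {V : Type*} [Fintype V] [DecidableEq V] {G : SimpleGraph V} [DecidableRel G.Adj]

/-- The graph automorphisms as permutations. -/
def AP (G : SimpleGraph V) : Subgroup (Equiv.Perm V) where
  carrier := {σ | ∀ x y, G.Adj (σ x) (σ y) ↔ G.Adj x y}
  mul_mem' := by
    intro a b ha hb x y
    simp only [Equiv.Perm.coe_mul, Function.comp_apply]
    rw [ha, hb]
  one_mem' := by
    intro x y
    rfl
  inv_mem' := by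
    intro a ha x y
    rw [← ha]
    simp

theorem mem_AP {σ : Equiv.Perm V} : σ ∈ AP G ↔ ∀ x y, G.Adj (σ x) (σ y) ↔ G.Adj x y := Iff.rfl

theorem iso_mem_AP (φ : G ≃g G) : φ.toEquiv ∈ AP G := fun x y => φ.map_adj_iff

/-- The stabilizer of `o` among the automorphisms. -/
def TT (G : SimpleGraph V) (o : V) : Subgroup (Equiv.Perm V) := AP G ⊓ stabilizer (Equiv.Perm V) o

theorem mem_TT {o : V} {σ : Equiv.Perm V} : σ ∈ TT G o ↔ σ ∈ AP G ∧ σ o = o := by
  simp [TT, Subgroup.mem_inf, mem_stabilizer_iff]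

theorem adj_o_iff {o : V} {σ : Equiv.Perm V} (h : σ ∈ TT G o) (x : V) :
    G.Adj o (σ x) ↔ G.Adj o x := by
  obtain ⟨h1, h2⟩ := mem_TT.1 h
  conv_lhs => rw [← h2]
  exact h1 o x

/-- Restriction to the neighbours of `o`. -/
def res (G : SimpleGraph V) [DecidableRel G.Adj] (o : V) :
    TT G o →* Equiv.Perm {x // G.Adj o x} where
  toFun g := g.1.subtypePerm (adj_o_iff g.2)
  map_one' := by
    ext x
    rfl
  map_mul' a b := by
    ext x
    rfl

@[simp] theorem res_apply {o : V} (g : TT G o) (x : {x // G.Adj o x}) : (res G o g x).1 = g.1 x.1 := rfl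

theorem mem_Q_iff {o : V} {σ : Equiv.Perm V} (h : σ ∈ TT G o) {w : V} : σ w ∈ Q G o ↔ w ∈ Q G o := by
  rw [mem_Q, mem_Q, adj_o_iff h]
  obtain ⟨h1, h2⟩ := mem_TT.1 h
  rw [Ne, Ne]
  conv_lhs => rw [← h2]
  rw [h2, ← h2, σ.injective.eq_iff]
  simp [h2]

theorem image_blkS {o : V} (g : TT G o) (w : V) :
    (blkS G o w).image (res G o g) = blkS G o (g.1 w) := by
  ext p
  simp only [mem_image, mem_blkS]
  constructor
  · rintro ⟨q, hq, rfl⟩
    exact (((mem_TT.1 g.2).1) w q.1).2 hq
  · intro hp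
    refine ⟨(res G o g)⁻¹ p, ?_, by simp⟩
    have h1 : (res G o g) ((res G o g)⁻¹ p) = p := by simp
    have h2 : G.Adj (g.1 w) (g.1 ((res G o g)⁻¹ p).1) := by
      rw [← res_apply, h1]
      exact hp
    exact ((mem_TT.1 g.2).1 _ _).1 h2

theorem res_mem {o : V} (g : TT G o) : res G o g ∈ setSystemAut (sys G o) := by
  rw [mem_aut_iff]
  ext b
  constructor
  · rintro ⟨_, ⟨w, hw, rfl⟩, rfl⟩
    refine ⟨g.1 w, ?_, (image_blkS g w).symm⟩
    exact mem_coe.2 ((mem_Q_iff g.2).2 (mem_coe.1 hw))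
  · rintro ⟨w, hw, rfl⟩
    refine ⟨blkS G o (g.1⁻¹ w), ⟨g.1⁻¹ w, ?_, rfl⟩, ?_⟩
    · apply mem_coe.2
      rw [← mem_Q_iff g.2]
      simpa using mem_coe.1 hw
    · show (blkS G o (g.1⁻¹ w)).image (res G o g) = blkS G o w
      rw [image_blkS]
      simp

theorem res_inj (hF : Facts G) (o : V) : Function.Injective (res G o) := by
  rw [injective_iff_map_eq_one]
  intro g hg
  apply Subtype.ext
  ext x
  show g.1 x = x
  have h1 : ∀ p : {x // G.Adj o x}, g.1 p.1 = p.1 := by
    intro p
    rw [← res_apply, hg]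
    rfl
  have ho := (mem_TT.1 g.2).2
  rcases tricho (G := G) o x with rfl | hx | hx
  · exact ho
  · exact h1 ⟨x, hx⟩
  · apply blkS_inj hF ((mem_Q_iff g.2).2 hx) hx
    rw [← image_blkS, hg]
    ext p
    simp

/-- Isomorphic set systems have isomorphic point-block graphs, compatibly with the points. -/
theorem pointBlock_congr' {α β : Type*} [DecidableEq α] [DecidableEq β] {A : Set (Finset α)}
    {A' : Set (Finset β)} (e : α ≃ β) (he : (fun b => b.image e) '' A = A') :
    ∃ ψ : pointBlockGraph A ≃g pointBlockGraph A', ψ none = none ∧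
      ∀ a, ψ (some (Sum.inl a)) = some (Sum.inl (e a)) := by
  have hmem : ∀ b, b ∈ A → b.image e ∈ A' := fun b hb => he ▸ Set.mem_image_of_mem _ hb
  have hmem' : ∀ b, b ∈ A' → b.image e.symm ∈ A := by
    intro b hb
    rw [← he] at hb
    obtain ⟨c, hc, rfl⟩ := hb
    rwa [Finset.image_image, show (e.symm ∘ e : α → α) = id from funext e.symm_apply_apply,
      Finset.image_id]
  let eB : A ≃ A' :=
    { toFun := fun b => ⟨b.1.image e, hmem b.1 b.2⟩
      invFun := fun b => ⟨b.1.image e.symm, hmem' b.1 b.2⟩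
      left_inv := fun b => by
        apply Subtype.ext
        simp only
        rw [Finset.image_image, show (e.symm ∘ e : α → α) = id from funext e.symm_apply_apply,
          Finset.image_id]
      right_inv := fun b => by
        apply Subtype.ext
        simp only
        rw [Finset.image_image, show (e ∘ e.symm : β → β) = id from funext e.apply_symm_apply,
          Finset.image_id] }
  have hrel : ∀ x y, pointBlockRel A' (Equiv.optionCongr (Equiv.sumCongr e eB) x)
      (Equiv.optionCongr (Equiv.sumCongr e eB) y) ↔ pointBlockRel A x y := by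
    rintro (_ | a | b) (_ | a' | b') <;> simp [pointBlockRel, eB]
    · simp [Finset.disjoint_image e.injective]
  refine ⟨⟨Equiv.optionCongr (Equiv.sumCongr e eB), ?_⟩, rfl, fun a => rfl⟩
  intro x y
  simp only [pointBlockGraph, SimpleGraph.fromRel_adj, hrel,
    (Equiv.optionCongr (Equiv.sumCongr e eB)).injective.ne_iff]

theorem res_surj (hF : Facts G) (o : V) {σ : Equiv.Perm {x // G.Adj o x}}
    (hσ : σ ∈ setSystemAut (sys G o)) : ∃ g : TT G o, res G o g = σ := by
  obtain ⟨ψ, h1, h2⟩ := pointBlock_congr' σ (mem_aut_iff.1 hσ)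
  let φ : G ≃g pointBlockGraph (sys G o) :=
    ⟨Equiv.ofBijective (vmap G o) ⟨vmap_inj hF o, vmap_surj o⟩, vmap_adj hF o _ _⟩
  have hφ : ∀ x, φ x = vmap G o x := fun x => rfl
  let γ : G ≃g G := φ.trans (ψ.trans φ.symm)
  have hγ : ∀ x, φ (γ x) = ψ (φ x) := by
    intro x
    simp [γ]
  have ho : γ o = o := by
    apply φ.injective
    rw [hγ, hφ, vmap_o, h1]
  refine ⟨⟨γ.toEquiv, mem_TT.2 ⟨iso_mem_AP γ, ho⟩⟩, ?_⟩
  ext p
  show (γ p.1) = (σ p).1
  apply φ.injective
  rw [hγ, hφ, vmap_pt p.2, h2, hφ, vmap_pt (σ p).2]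

/-- The stabilizer of `o` is the automorphism group of the system. -/
noncomputable def resEquiv (hF : Facts G) (o : V) : TT G o ≃* setSystemAut (sys G o) :=
  MulEquiv.ofBijective
    ((res G o).codRestrict (setSystemAut (sys G o)) res_mem)
    ⟨fun a b h => res_inj hF o (congrArg Subtype.val h),
      fun σ => by
        obtain ⟨g, hg⟩ := res_surj hF o σ.2
        exact ⟨g, Subtype.ext hg⟩⟩

@[simp] theorem resEquiv_apply (hF : Facts G) (o : V) (g : TT G o) :
    (resEquiv hF o g).1 = res G o g := rfl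

/-- Facts transport along an isomorphism. -/
theorem facts_of_iso {W : Type*} [Fintype W] [DecidableEq W] {H : SimpleGraph W} [DecidableRel H.Adj]
    (e : G ≃g H) (hF : Facts G) : Facts H := by
  have himg : ∀ v, N H (e v) = (N G v).image e := by
    intro v
    ext x
    simp only [mem_N, mem_image]
    constructor
    · intro h
      refine ⟨e.symm x, ?_, by simp⟩
      rw [← e.map_adj_iff]
      simpa using h
    · rintro ⟨y, hy, rfl⟩
      exact e.map_adj_iff.2 hy
  refine ⟨?_, ?_, ?_, ?_⟩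
  · rw [← Fintype.card_congr e.toEquiv]
    exact hF.card
  · intro v
    obtain ⟨u, rfl⟩ := e.surjective v
    rw [himg, Finset.card_image_of_injective _ e.injective, hF.deg]
  · intro v w x h1 h2 h3
    obtain ⟨v, rfl⟩ := e.surjective v
    obtain ⟨w, rfl⟩ := e.surjective w
    obtain ⟨x, rfl⟩ := e.surjective x
    exact hF.tri v w x (e.map_adj_iff.1 h1) (e.map_adj_iff.1 h2) (e.map_adj_iff.1 h3)
  · intro v w h1 h2
    obtain ⟨v, rfl⟩ := e.surjective v
    obtain ⟨w, rfl⟩ := e.surjective w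
    rw [himg, himg, ← Finset.image_inter _ _ e.injective,
      Finset.card_image_of_injective _ e.injective]
    exact hF.mu v w (fun h => h1 (by rw [h])) (fun h => h2 (e.map_adj_iff.2 h))

/-- An odd automorphism fixing `o`. -/
theorem oddT (hF : Facts G) (o : V) : ∃ t ∈ TT G o, Equiv.Perm.sign t = -1 := by
  obtain ⟨φ, hφ⟩ := pointed_iso SRG100Model.facts0 hF 0 o
  refine ⟨φ.toEquiv.permCongr SRG100Model.g0, mem_TT.2 ⟨?_, ?_⟩, ?_⟩
  · intro x y
    simp only [Equiv.permCongr_apply]
    rw [show (φ.toEquiv (SRG100Model.g0 (φ.toEquiv.symm x))) = φ (SRG100Model.g0 (φ.toEquiv.symm x)) from rfl,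
      show (φ.toEquiv (SRG100Model.g0 (φ.toEquiv.symm y))) = φ (SRG100Model.g0 (φ.toEquiv.symm y)) from rfl,
      φ.map_adj_iff, SRG100Model.g0_adj]
    have h : ∀ x y, G.Adj (φ x) (φ y) ↔ SRG100Model.G0.Adj x y := fun x y => φ.map_adj_iff
    have hx : φ (φ.toEquiv.symm x) = x := φ.toEquiv.apply_symm_apply x
    have hy : φ (φ.toEquiv.symm y) = y := φ.toEquiv.apply_symm_apply y
    rw [← h, hx, hy]
  · rw [Equiv.permCongr_apply]
    have h0 : φ.toEquiv.symm o = 0 := by
      rw [Equiv.symm_apply_eq]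
      exact hφ.symm
    rw [h0, SRG100Model.g0_fix]
    exact hφ
  · rw [Equiv.Perm.sign_permCongr, SRG100Model.sign_g0]

theorem card_units_int : Nat.card ℤˣ = 2 := by
  simp [Nat.card_eq_fintype_card, Fintype.card_units_int]

/-- A subgroup with an odd element has twice as many elements as its even part. -/
theorem card_split (X : Subgroup (Equiv.Perm V)) {t : Equiv.Perm V} (ht : t ∈ X)
    (hs : Equiv.Perm.sign t = -1) : Nat.card X = 2 * Nat.card ↥(X ⊓ alternatingGroup V) := by
  let f : X →* ℤˣ := Equiv.Perm.sign.comp X.subtype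
  have hsurj : Function.Surjective f := by
    intro u
    rcases Int.units_eq_one_or u with rfl | rfl
    · exact ⟨1, map_one f⟩
    · exact ⟨⟨t, ht⟩, hs⟩
  have h1 : (X ⊓ alternatingGroup V).subgroupOf X = f.ker := by
    ext x
    simp [Subgroup.mem_subgroupOf, MonoidHom.mem_ker, f, Equiv.Perm.mem_alternatingGroup]
  have h2 : Nat.card ↥(X ⊓ alternatingGroup V) = Nat.card f.ker := by
    rw [← h1]
    exact Nat.card_congr (Subgroup.subgroupOfEquivOfLe inf_le_left).symm.toEquiv
  have h3 := Subgroup.card_mul_index f.ker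
  rw [Subgroup.index_ker, MonoidHom.range_eq_top_of_surjective f hsurj, Subgroup.card_top,
    card_units_int, ← h2] at h3
  omega

/-- Orbit-stabilizer. -/
theorem card_orbit_stab (X : Subgroup (Equiv.Perm V)) (o : V) :
    Nat.card X = (orbit X o).ncard * Nat.card ↥(X ⊓ stabilizer (Equiv.Perm V) o) := by
  have h1 : (X ⊓ stabilizer (Equiv.Perm V) o).subgroupOf X = stabilizer X o := by
    ext x
    simp [Subgroup.mem_subgroupOf, mem_stabilizer_iff]
    rfl
  have h2 : Nat.card ↥(X ⊓ stabilizer (Equiv.Perm V) o) = Nat.card (stabilizer X o) := by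
    rw [← h1]
    exact Nat.card_congr (Subgroup.subgroupOfEquivOfLe inf_le_left).symm.toEquiv
  rw [h2, ← index_stabilizer X o, mul_comm, Subgroup.card_mul_index]

theorem card_V (hF : Facts G) : Nat.card V = 100 := by
  rw [Nat.card_eq_fintype_card, hF.card]

theorem orbit_AP (hF : Facts G) (o : V) : orbit (AP G) o = Set.univ := by
  rw [Set.eq_univ_iff_forall]
  intro x
  obtain ⟨φ, hφ⟩ := pointed_iso hF hF o x
  exact ⟨⟨φ.toEquiv, iso_mem_AP φ⟩, hφ⟩

/-- The order of the stabilizer. -/
theorem card_TT (hF : Facts G) (o : V) : Nat.card (TT G o) = 887040 := by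
  rw [Nat.card_congr (resEquiv hF o).toEquiv]
  exact (S0414.result (card_points hF o) (steiner hF o)).1

theorem card_AP (hF : Facts G) (o : V) : Nat.card (AP G) = 88704000 := by
  rw [card_orbit_stab (AP G) o, orbit_AP hF o, Set.ncard_univ, card_V hF]
  show 100 * Nat.card (TT G o) = _
  rw [card_TT hF]

/-- The even automorphisms. -/
def HH (G : SimpleGraph V) : Subgroup (Equiv.Perm V) := AP G ⊓ alternatingGroup V

theorem mem_HH {σ : Equiv.Perm V} : σ ∈ HH G ↔ σ ∈ AP G ∧ Equiv.Perm.sign σ = 1 := by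
  simp [HH, Subgroup.mem_inf, Equiv.Perm.mem_alternatingGroup]

theorem card_HH (hF : Facts G) (o : V) : Nat.card (HH G) = 44352000 := by
  obtain ⟨t, ht, hs⟩ := oddT hF o
  have := card_split (AP G) (mem_TT.1 ht).1 hs
  rw [card_AP hF o] at this
  show Nat.card ↥(AP G ⊓ alternatingGroup V) = _
  omega

theorem HH_inf (o : V) : HH G ⊓ stabilizer (Equiv.Perm V) o = TT G o ⊓ alternatingGroup V := by
  ext x
  simp only [HH, TT, Subgroup.mem_inf]
  tauto

theorem card_Tplus (hF : Facts G) (o : V) :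
    Nat.card ↥(HH G ⊓ stabilizer (Equiv.Perm V) o) = 443520 := by
  obtain ⟨t, ht, hs⟩ := oddT hF o
  have := card_split (TT G o) ht hs
  rw [card_TT hF o] at this
  rw [HH_inf]
  omega

theorem orbit_HH (hF : Facts G) (o : V) : orbit (HH G) o = Set.univ := by
  have h1 := card_orbit_stab (HH G) o
  rw [card_HH hF o, card_Tplus hF o] at h1
  have h2 : (orbit (HH G) o).ncard = 100 := by omega
  apply Set.eq_of_subset_of_ncard_le (Set.subset_univ _)
  rw [Set.ncard_univ, card_V hF, h2]

theorem pretrans_HH (hF : Facts G) : IsPretransitive (HH G) V := by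
  constructor
  intro x y
  have h1 : x ∈ orbit (HH G) x := mem_orbit_self x
  have h2 := orbit_HH hF x
  have h3 : y ∈ orbit (HH G) x := by rw [h2]; trivial
  obtain ⟨g, hg⟩ := h3
  exact ⟨g, hg⟩

/-- The stabilizer in `HH` is simple. -/
theorem simple_stab (hF : Facts G) (o : V) : IsSimpleGroup (stabilizer (HH G) o) := by
  obtain ⟨-, -, M, hMi, hMs, hMc⟩ := S0414.result (card_points hF o) (steiner hF o)
  -- the map of the stabilizer to the automorphism group of the system
  have hmem : ∀ h : stabilizer (HH G) o, h.1.1 ∈ TT G o := fun h =>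
    mem_TT.2 ⟨(mem_HH.1 h.1.2).1, h.2⟩
  let r0 : stabilizer (HH G) o →* TT G o :=
    { toFun := fun h => ⟨h.1.1, hmem h⟩
      map_one' := rfl
      map_mul' := fun _ _ => rfl }
  let r : stabilizer (HH G) o →* setSystemAut (sys G o) := (resEquiv hF o).toMonoidHom.comp r0
  have hrinj : Function.Injective r := by
    intro a b hab
    have h1 := (resEquiv hF o).injective hab
    have h2 : (a.1.1) = b.1.1 := congrArg (fun x : TT G o => x.1) h1
    exact Subtype.ext (Subtype.ext h2)
  have hcard : Nat.card (stabilizer (HH G) o) = 443520 := by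
    have h1 := card_Tplus hF o
    rw [← h1]
    have h2 : (HH G ⊓ stabilizer (Equiv.Perm V) o).subgroupOf (HH G) = stabilizer (HH G) o := by
      ext x
      simp [Subgroup.mem_subgroupOf, mem_stabilizer_iff]
      rfl
    rw [← h2]
    exact Nat.card_congr (Subgroup.subgroupOfEquivOfLe inf_le_left).toEquiv
  -- the sign is trivial on `M`
  let χ : M →* ℤˣ := Equiv.Perm.sign.comp ((TT G o).subtype.comp
    ((resEquiv hF o).symm.toMonoidHom.comp M.subtype))
  have hχ : ∀ m, χ m = 1 := by
    have := hMs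
    rcases (MonoidHom.normal_ker χ).eq_bot_or_eq_top with h | h
    · exfalso
      have hinj : Function.Injective χ := (MonoidHom.ker_eq_bot_iff χ).1 h
      have := Nat.card_le_card_of_injective χ hinj
      rw [hMc, card_units_int] at this
      omega
    · intro m
      have : m ∈ χ.ker := by rw [h]; trivial
      exact this
  have hle : M ≤ r.range := by
    intro m hm
    let g : TT G o := (resEquiv hF o).symm m
    have hg1 : Equiv.Perm.sign g.1 = 1 := hχ ⟨m, hm⟩
    have hg2 : g.1 ∈ HH G := mem_HH.2 ⟨(mem_TT.1 g.2).1, hg1⟩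
    have hg3 : (⟨g.1, hg2⟩ : HH G) ∈ stabilizer (HH G) o := (mem_TT.1 g.2).2
    refine ⟨⟨⟨g.1, hg2⟩, hg3⟩, ?_⟩
    have : r ⟨⟨g.1, hg2⟩, hg3⟩ = (resEquiv hF o) g := rfl
    rw [this]
    simp [g]
  have hrcard : Nat.card r.range = 443520 := by
    rw [← Nat.card_congr (MonoidHom.ofInjective hrinj).toEquiv, hcard]
  have heq : M = r.range := Subgroup.eq_of_le_of_card_ge hle (by rw [hrcard, hMc])
  have e1 : stabilizer (HH G) o ≃* M :=
    (MonoidHom.ofInjective hrinj).trans (MulEquiv.subgroupCongr heq.symm)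
  have := hMs
  exact e1.isSimpleGroup

/-- Index-two orbit lemma. -/
theorem index2 (T : Subgroup (Equiv.Perm V)) (Ω Y : Finset V) {t : Equiv.Perm V} (ht : t ∈ T)
    (hs : Equiv.Perm.sign t = -1) (htrans : ∀ x ∈ Ω, ∀ y ∈ Ω, ∃ g ∈ T, g x = y)
    (hpres : ∀ g ∈ T, ∀ x ∈ Ω, g x ∈ Ω) (hY : Y ⊆ Ω)
    (hinv : ∀ g ∈ T, Equiv.Perm.sign g = 1 → ∀ x ∈ Y, g x ∈ Y) :
    Y = ∅ ∨ Y = Ω ∨ 2 * Y.card = Ω.card := by
  by_cases hne : Y = ∅
  · exact Or.inl hne
  obtain ⟨y, hy⟩ := Finset.nonempty_iff_ne_empty.2 hne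
  by_cases hall : Y = Ω
  · exact Or.inr (Or.inl hall)
  refine Or.inr (Or.inr ?_)
  -- the image of `Y` under `t`
  set Y' := Y.image t with hY'
  have hcard : Y'.card = Y.card := Finset.card_image_of_injective _ t.injective
  have hodd : ∀ g : Equiv.Perm V, Equiv.Perm.sign g ≠ 1 → Equiv.Perm.sign g = -1 := by
    intro g hg
    rcases Int.units_eq_one_or (Equiv.Perm.sign g) with h | h
    · exact absurd h hg
    · exact h
  have hU : Y ∪ Y' = Ω := by
    apply Finset.Subset.antisymm
    · intro x hx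
      rcases Finset.mem_union.1 hx with hx | hx
      · exact hY hx
      · obtain ⟨z, hz, rfl⟩ := Finset.mem_image.1 hx
        exact hpres t ht z (hY hz)
    · intro x hx
      obtain ⟨g, hg, rfl⟩ := htrans y (hY hy) x hx
      by_cases hsg : Equiv.Perm.sign g = 1
      · exact Finset.mem_union_left _ (hinv g hg hsg y hy)
      · apply Finset.mem_union_right
        rw [hY', Finset.mem_image]
        refine ⟨(t⁻¹ * g) y, hinv _ (T.mul_mem (T.inv_mem ht) hg) ?_ y hy, by simp⟩
        rw [map_mul, map_inv, hs, hodd g hsg]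
        decide
  have hD : Disjoint Y Y' := by
    rw [Finset.disjoint_left]
    intro z hz hz1
    obtain ⟨z', hz', rfl⟩ := Finset.mem_image.1 hz1
    apply hall
    apply Finset.Subset.antisymm hY
    intro x hx
    obtain ⟨g, hg, rfl⟩ := htrans (t z') (hY hz) x hx
    by_cases hsg : Equiv.Perm.sign g = 1
    · exact hinv g hg hsg _ hz
    · have h1 : Equiv.Perm.sign (g * t) = 1 := by
        rw [map_mul, hs, hodd g hsg]
        decide
      exact hinv _ (T.mul_mem hg ht) h1 z' hz'
  have := Finset.card_union_of_disjoint hD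
  rw [hU, hcard] at this
  omega

/-- The stabilizer is transitive on the neighbours of `o`. -/
theorem trans_points (hF : Facts G) (o : V) {x y : V} (hx : G.Adj o x) (hy : G.Adj o y) :
    ∃ g ∈ TT G o, g x = y := by
  obtain ⟨-, hp, -⟩ := S0414.result (card_points hF o) (steiner hF o)
  have hc : 3 ≤ Nat.card {x // G.Adj o x} := by
    rw [Nat.card_eq_fintype_card, card_points hF o]; norm_num
  have h1 : IsMultiplyPretransitive (setSystemAut (sys G o)) {x // G.Adj o x} 1 :=
    isMultiplyPretransitive_of_le (n := 3) (by norm_num) hc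
  have h2 : IsPretransitive (setSystemAut (sys G o)) {x // G.Adj o x} :=
    is_one_pretransitive_iff.1 h1
  obtain ⟨σ, hσ⟩ := h2.exists_smul_eq ⟨x, hx⟩ ⟨y, hy⟩
  obtain ⟨g, hg⟩ := res_surj hF o σ.2
  refine ⟨g.1, g.2, ?_⟩
  have h3 : res G o g ⟨x, hx⟩ = ⟨y, hy⟩ := by rw [hg]; exact hσ
  exact congrArg Subtype.val h3

/-- An embedding of `Fin 3` into a finite set of size six. -/
theorem exists_emb {α : Type*} [DecidableEq α] (b : Finset α) (hb : b.card = 6) :
    ∃ f : Fin 3 ↪ α, ∀ i, f i ∈ b := by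
  let e : Fin 6 ≃ b := (b.equivFinOfCardEq hb).symm
  refine ⟨⟨fun i => (e (Fin.castLE (by norm_num) i)).1, ?_⟩, fun i => (e _).2⟩
  intro i j h
  have := e.injective (Subtype.ext h)
  exact Fin.castLE_injective _ this

/-- The stabilizer is transitive on the non-neighbours of `o`. -/
theorem trans_blocks (hF : Facts G) (o : V) {w w' : V} (hw : w ∈ Q G o) (hw' : w' ∈ Q G o) :
    ∃ g ∈ TT G o, g w = w' := by
  obtain ⟨-, hp, -⟩ := S0414.result (card_points hF o) (steiner hF o)
  obtain ⟨f, hf⟩ := exists_emb (blkS G o w) (card_blkS hF hw)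
  obtain ⟨f', hf'⟩ := exists_emb (blkS G o w') (card_blkS hF hw')
  obtain ⟨σ, hσ⟩ := hp.exists_smul_eq f f'
  obtain ⟨g, hg⟩ := res_surj hF o σ.2
  refine ⟨g.1, g.2, ?_⟩
  have h1 : ∀ i, res G o g (f i) = f' i := by
    intro i
    rw [hg]
    exact congrArg (fun F : Fin 3 ↪ {x // G.Adj o x} => F i) hσ
  -- the block `blkS (g w)` contains the image of `f`
  have h2 : ∀ i, f' i ∈ blkS G o (g.1 w) := by
    intro i
    rw [← image_blkS, ← h1]
    exact Finset.mem_image_of_mem _ (hf i)
  have hgw : g.1 w ∈ Q G o := (mem_Q_iff g.2).2 hw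
  by_contra hne
  have h3 := blkS_inter hF hgw hw' hne
  have h4 : (univ.image f') ⊆ blkS G o (g.1 w) ∩ blkS G o w' := by
    intro x hx
    obtain ⟨i, -, rfl⟩ := Finset.mem_image.1 hx
    exact mem_inter.2 ⟨h2 i, hf' i⟩
  have h5 := card_le_card h4
  rw [Finset.card_image_of_injective _ f'.injective] at h5
  simp at h5
  omega

/-- The invariant subsets of the stabilizer. -/
theorem inv_HH (hF : Facts G) (o : V) (X : Set V) (ho : o ∈ X)
    (hinv : ∀ h ∈ stabilizer (HH G) o, ∀ x ∈ X, h • x ∈ X) (hd : X.ncard ∣ 100) :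
    X = {o} ∨ X = Set.univ := by
  classical
  obtain ⟨t, ht, hs⟩ := oddT hF o
  let X' : Finset V := univ.filter (· ∈ X)
  have hX' : ∀ x, x ∈ X' ↔ x ∈ X := by simp [X']
  have hinv' : ∀ g ∈ TT G o, Equiv.Perm.sign g = 1 → ∀ x ∈ X, g x ∈ X := by
    intro g hg hsg x hx
    have h1 : g ∈ HH G := mem_HH.2 ⟨(mem_TT.1 hg).1, hsg⟩
    exact hinv ⟨g, h1⟩ (mem_TT.1 hg).2 x hx
  -- points
  have hA := index2 (TT G o) (N G o) (X' ∩ N G o) ht hs
    (fun x hx y hy => trans_points hF o (mem_N.1 hx) (mem_N.1 hy))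
    (fun g hg x hx => mem_N.2 ((adj_o_iff hg x).2 (mem_N.1 hx))) inter_subset_right
    (fun g hg hsg x hx => by
      obtain ⟨h1, h2⟩ := mem_inter.1 hx
      exact mem_inter.2 ⟨(hX' _).2 (hinv' g hg hsg x ((hX' x).1 h1)),
        mem_N.2 ((adj_o_iff hg x).2 (mem_N.1 h2))⟩)
  have hB := index2 (TT G o) (Q G o) (X' ∩ Q G o) ht hs
    (fun x hx y hy => trans_blocks hF o hx hy)
    (fun g hg x hx => (mem_Q_iff hg).2 hx) inter_subset_right
    (fun g hg hsg x hx => by
      obtain ⟨h1, h2⟩ := mem_inter.1 hx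
      exact mem_inter.2 ⟨(hX' _).2 (hinv' g hg hsg x ((hX' x).1 h1)), (mem_Q_iff hg).2 h2⟩)
  rw [hF.deg] at hA
  rw [card_Q hF] at hB
  -- partition
  have hpart : X' = insert o ((X' ∩ N G o) ∪ (X' ∩ Q G o)) := by
    ext x
    simp only [mem_insert, mem_union, mem_inter, mem_N, mem_Q]
    constructor
    · intro hx
      rcases tricho (G := G) o x with h | h | h
      · exact Or.inl h
      · exact Or.inr (Or.inl ⟨hx, h⟩)
      · exact Or.inr (Or.inr ⟨hx, mem_Q.1 h⟩)
    · rintro (rfl | h | h)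
      · exact (hX' _).2 ho
      · exact h.1
      · exact h.1
  have hdisj : Disjoint (X' ∩ N G o) (X' ∩ Q G o) := by
    rw [Finset.disjoint_left]
    intro x hx hx'
    exact (mem_Q.1 (mem_inter.1 hx').2).2 (mem_N.1 (mem_inter.1 hx).2)
  have hnot : o ∉ (X' ∩ N G o) ∪ (X' ∩ Q G o) := by
    simp [mem_N, mem_Q]
  have hcard : X'.card = 1 + (X' ∩ N G o).card + (X' ∩ Q G o).card := by
    conv_lhs => rw [hpart]
    rw [card_insert_of_notMem hnot, card_union_of_disjoint hdisj]
    omega
  have hnc : X.ncard = X'.card := by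
    rw [← Set.ncard_coe_finset X']
    congr 1
    ext x
    simp [hX']
  rw [hnc, hcard] at hd
  have key : (X' ∩ N G o) = ∅ ∧ (X' ∩ Q G o) = ∅ ∨ (X' ∩ N G o) = N G o ∧ (X' ∩ Q G o) = Q G o := by
    rcases hA with hA | hA | hA <;> rcases hB with hB | hB | hB
    · exact Or.inl ⟨hA, hB⟩
    · exfalso
      rw [hA, hB, card_Q hF] at hd
      simp at hd
    · omega
    · exfalso
      rw [hA, hB, hF.deg] at hd
      simp at hd
    · exact Or.inr ⟨hA, hB⟩
    · omega
    · exfalso
      have h1 : (X' ∩ N G o).card = 11 := by omega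
      rw [h1, hB] at hd
      simp at hd
    · exfalso
      have h1 : (X' ∩ N G o).card = 11 := by omega
      rw [h1, hB, card_Q hF] at hd
      revert hd
      decide
    · omega
  rcases key with ⟨h1, h2⟩ | ⟨h1, h2⟩
  · left
    rw [h1, h2] at hpart
    ext x
    rw [← hX', hpart]
    simp
  · right
    rw [Set.eq_univ_iff_forall]
    intro x
    rw [← hX', hpart, h1, h2]
    simp only [mem_insert, mem_union, mem_N, mem_Q]
    rcases tricho (G := G) o x with h | h | h
    · exact Or.inl h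
    · exact Or.inr (Or.inl h)
    · exact Or.inr (Or.inr (mem_Q.1 h))

/-- The main theorem in terms of permutations. -/
theorem main (hF : Facts G) (o : V) : HH G ≤ AP G ∧ IsHS (HH G) := by
  refine ⟨inf_le_left, ?_, card_HH hF o⟩
  exact SRG100Simple.isSimple (o := o) (Ω := V)
    { finΩ := inferInstance
      finH := inferInstance
      card := card_V hF
      trans := pretrans_HH hF
      faith := inferInstance
      simple := simple_stab hF o
      inv := inv_HH hF o }

/-- The homomorphism to the permutations. -/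
def toPerm (G : SimpleGraph V) : (G ≃g G) →* Equiv.Perm V where
  toFun φ := φ.toEquiv
  map_one' := rfl
  map_mul' _ _ := rfl

/-- The statement in the automorphism group of the graph. -/
theorem exists_HS (hF : Facts G) (o : V) : ∃ H : Subgroup (G ≃g G), IsHS H := by
  obtain ⟨h1, h2, h3⟩ := main hF o
  refine ⟨(HH G).comap (toPerm G), ?_⟩
  let f : (HH G).comap (toPerm G) →* HH G :=
    { toFun := fun x => ⟨toPerm G x.1, x.2⟩
      map_one' := rfl
      map_mul' := fun _ _ => rfl }
  let e : (HH G).comap (toPerm G) ≃* HH G := MulEquiv.ofBijective f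
    ⟨fun a b h => by
      apply Subtype.ext
      apply RelIso.ext
      intro x
      have h4 := congrArg (fun s : HH G => s.1 x) h
      exact h4,
     fun σ => by
      have hσ := h1 σ.2
      refine ⟨⟨⟨σ.1, fun {x y} => hσ x y⟩, σ.2⟩, ?_⟩
      apply Subtype.ext
      rfl⟩
  have := h2
  exact ⟨e.isSimpleGroup, by rw [Nat.card_congr e.toEquiv, h3]⟩


end Cfsg.Agent.Lib.SRG100Aut
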