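import Mathlib
import Cfsg.Agent.Lib.SRG100Aut

set_option autoImplicit false
set_option linter.unusedSectionVars false
set_option linter.unusedVariables false

/-!
# Rank three actions with subdegrees 1, 22, 77

A transitive action on 100 points whose point stabiliser has orbits of sizes 1, 22, 77 yields a
strongly regular graph (100, 22, 0, 6).  Since this graph is unique, with an automorphism group
having a unique subgroup of order 44352000, any two faithful such actions of groups of order
44352000 are isomorphic as groups.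
-/

namespace Cfsg.Agent.Lib.RankHS

open Finset MulAction Cfsg.Agent.Lib.SRG100 Cfsg.Agent.Lib.SRG100Aut
open scoped Pointwise

section Orbital

variable {Ω : Type*} [Fintype Ω] [DecidableEq Ω] (K : Type*) [Group K] [MulAction K Ω]

/-- The orbital relation of the pair `(a, b)`. -/
def Orb (a b x y : Ω) : Prop := ∃ g : K, g • a = x ∧ g • b = y

variable {K}

theorem orb_smul {a b x y : Ω} (k : K) : Orb K a b (k • x) (k • y) ↔ Orb K a b x y := by
  constructor
  · rintro ⟨g, h1, h2⟩
    refine ⟨k⁻¹ * g, ?_, ?_⟩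
    · rw [mul_smul, h1, inv_smul_smul]
    · rw [mul_smul, h2, inv_smul_smul]
  · rintro ⟨g, h1, h2⟩
    refine ⟨k * g, ?_, ?_⟩
    · rw [mul_smul, h1]
    · rw [mul_smul, h2]

theorem orb_base_iff {a b y : Ω} : Orb K a b a y ↔ y ∈ orbit (stabilizer K a) b := by
  constructor
  · rintro ⟨g, h1, h2⟩
    exact ⟨⟨g, h1⟩, h2⟩
  · rintro ⟨⟨g, h1⟩, h2⟩
    exact ⟨g, h1, h2⟩

theorem card_image_smul (k : K) (s : Finset Ω) : (s.image (fun x => k • x)).card = s.card :=
  Finset.card_image_of_injective _ (MulAction.injective k)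

end Orbital

section Rank

variable {Ω : Type*} [Fintype Ω] [DecidableEq Ω] {K : Type*} [Group K] [MulAction K Ω]
  [IsPretransitive K Ω]

open Classical in
/-- The out-neighbours. -/
noncomputable def nOut (K : Type*) [Group K] [MulAction K Ω] (a b x : Ω) : Finset Ω :=
  univ.filter (Orb K a b x)

open Classical in
/-- The in-neighbours. -/
noncomputable def nIn (K : Type*) [Group K] [MulAction K Ω] (a b y : Ω) : Finset Ω :=
  univ.filter (fun x => Orb K a b x y)

theorem mem_nOut {a b x y : Ω} : y ∈ nOut K a b x ↔ Orb K a b x y := by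
  simp [nOut]

theorem mem_nIn {a b x y : Ω} : x ∈ nIn K a b y ↔ Orb K a b x y := by
  simp [nIn]

theorem nOut_smul (a b x : Ω) (k : K) : nOut K a b (k • x) = (nOut K a b x).image (fun y => k • y) := by
  ext y
  simp only [mem_nOut, mem_image]
  constructor
  · intro h
    refine ⟨k⁻¹ • y, ?_, smul_inv_smul k y⟩
    rw [← orb_smul k, smul_inv_smul]
    exact h
  · rintro ⟨z, hz, rfl⟩
    exact (orb_smul k).2 hz

theorem nIn_smul (a b y : Ω) (k : K) : nIn K a b (k • y) = (nIn K a b y).image (fun x => k • x) := by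
  ext x
  simp only [mem_nIn, mem_image]
  constructor
  · intro h
    refine ⟨k⁻¹ • x, ?_, smul_inv_smul k x⟩
    rw [← orb_smul k, smul_inv_smul]
    exact h
  · rintro ⟨z, hz, rfl⟩
    exact (orb_smul k).2 hz

theorem coe_nOut_a (a b : Ω) : (nOut K a b a : Set Ω) = orbit (stabilizer K a) b := by
  ext y
  simp only [Finset.mem_coe, mem_nOut]
  exact orb_base_iff

theorem card_nOut_a {a b : Ω} {n : ℕ} (hb : (orbit (stabilizer K a) b).ncard = n) :
    (nOut K a b a).card = n := by
  rw [← Set.ncard_coe_finset, coe_nOut_a, hb]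

theorem exists_smul_eq' (a x : Ω) : ∃ g : K, g • a = x := MulAction.exists_smul_eq K a x

theorem card_nOut {a b : Ω} {n : ℕ} (hb : (orbit (stabilizer K a) b).ncard = n) (x : Ω) :
    (nOut K a b x).card = n := by
  obtain ⟨g, rfl⟩ := exists_smul_eq' (K := K) a x
  rw [nOut_smul, card_image_smul, card_nOut_a hb]

theorem card_nIn_const (a b x y : Ω) : (nIn K a b x).card = (nIn K a b y).card := by
  obtain ⟨g, rfl⟩ := exists_smul_eq' (K := K) x y
  rw [nIn_smul, card_image_smul]

theorem card_nIn {a b : Ω} {n : ℕ} (hb : (orbit (stabilizer K a) b).ncard = n)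
    (hΩ : 0 < Fintype.card Ω) (y : Ω) : (nIn K a b y).card = n := by
  classical
  have h := Finset.sum_card_bipartiteAbove_eq_sum_card_bipartiteBelow (s := (univ : Finset Ω))
    (t := (univ : Finset Ω)) (Orb K a b)
  have e1 : ∀ x, bipartiteAbove (Orb K a b) (univ : Finset Ω) x = nOut K a b x := by
    intro x
    ext z
    simp [bipartiteAbove, mem_nOut]
  have e2 : ∀ x, bipartiteBelow (Orb K a b) (univ : Finset Ω) x = nIn K a b x := by
    intro x
    ext z
    simp [bipartiteBelow, mem_nIn]
  simp only [e1, e2, card_nOut hb, card_nIn_const a b _ y, sum_const, card_univ, smul_eq_mul] at h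
  exact (Nat.eq_of_mul_eq_mul_left hΩ h).symm

variable {a b c : Ω}

/-- The data of the action. -/
structure Data (K : Type*) [Group K] [MulAction K Ω] (a b c : Ω) : Prop where
  card : Fintype.card Ω = 100
  hb : (orbit (stabilizer K a) b).ncard = 22
  hc : (orbit (stabilizer K a) c).ncard = 77

theorem orbit_self_stab (a : Ω) : orbit (stabilizer K a) a = {a} := by
  ext y
  simp only [Set.mem_singleton_iff]
  constructor
  · rintro ⟨⟨g, hg⟩, rfl⟩
    exact hg
  · rintro rfl
    exact mem_orbit_self _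

theorem ne_of_ncard {a b : Ω} {n : ℕ} (hb : (orbit (stabilizer K a) b).ncard = n) (hn : n ≠ 1) : b ≠ a := by
  rintro rfl
  rw [orbit_self_stab] at hb
  simp at hb
  exact hn hb.symm

/-- Each point is the base point or lies in one of the two orbits. -/
theorem trichotomy (hD : Data K a b c) (y : Ω) :
    y = a ∨ y ∈ orbit (stabilizer K a) b ∨ y ∈ orbit (stabilizer K a) c := by
  classical
  have hd1 : Disjoint (orbit (stabilizer K a) b) (orbit (stabilizer K a) c) := by
    rcases orbit.eq_or_disjoint (G := stabilizer K a) b c with h | h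
    · have h1 := hD.hb
      have h2 := hD.hc
      rw [h] at h1
      omega
    · exact h
  have ha1 : a ∉ orbit (stabilizer K a) b ∪ orbit (stabilizer K a) c := by
    rintro (h | h)
    · have := (mem_orbit_iff.1 h)
      obtain ⟨g, hg⟩ := this
      have hb' : b = a := by
        have h3 := g.2
        have h4 : (g : K) • b = a := hg
        have h5 : (g : K) • a = a := h3
        exact (MulAction.injective (g : K)) (h4.trans h5.symm)
      exact ne_of_ncard hD.hb (by norm_num) hb'
    · obtain ⟨g, hg⟩ := (mem_orbit_iff.1 h)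
      have hb' : c = a := by
        have h3 := g.2
        have h4 : (g : K) • c = a := hg
        have h5 : (g : K) • a = a := h3
        exact (MulAction.injective (g : K)) (h4.trans h5.symm)
      exact ne_of_ncard hD.hc (by norm_num) hb'
  have hcard : (insert a (orbit (stabilizer K a) b ∪ orbit (stabilizer K a) c)).ncard = 100 := by
    rw [Set.ncard_insert_of_notMem ha1 (Set.toFinite _), Set.ncard_union_eq hd1 (Set.toFinite _) (Set.toFinite _), hD.hb, hD.hc]
  have hu : insert a (orbit (stabilizer K a) b ∪ orbit (stabilizer K a) c) = Set.univ := by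
    apply Set.eq_of_subset_of_ncard_le (Set.subset_univ _)
    rw [hcard, Set.ncard_univ, Nat.card_eq_fintype_card, hD.card]
  have : y ∈ insert a (orbit (stabilizer K a) b ∪ orbit (stabilizer K a) c) := by
    rw [hu]
    trivial
  simpa [Set.mem_insert_iff, Set.mem_union] using this

theorem orb_symm_base (hD : Data K a b c) {y : Ω} (h : Orb K a b a y) : Orb K a b y a := by
  classical
  have hIn : (nIn K a b a).card = 22 := card_nIn hD.hb (by rw [hD.card]; norm_num) a
  -- the in-neighbours of `a` are stable under the stabiliser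
  have hstab : ∀ (g : stabilizer K a) {z : Ω}, z ∈ nIn K a b a → (g : K) • z ∈ nIn K a b a := by
    intro g z hz
    rw [mem_nIn] at hz ⊢
    have : Orb K a b ((g : K) • z) ((g : K) • a) := (orb_smul _).2 hz
    rwa [show (g : K) • a = a from g.2] at this
  have hsub : ∀ {z : Ω}, z ∈ nIn K a b a → (orbit (stabilizer K a) z : Set Ω) ⊆ nIn K a b a := by
    rintro z hz _ ⟨g, rfl⟩
    exact hstab g hz
  -- pick an in-neighbour
  obtain ⟨z, hz⟩ : (nIn K a b a).Nonempty := by
    rw [← Finset.card_pos, hIn]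
    norm_num
  have hzne : z ≠ a := by
    rintro rfl
    rw [mem_nIn] at hz
    obtain ⟨g, h1, h2⟩ := hz
    exact ne_of_ncard hD.hb (by norm_num) (MulAction.injective g (h2.trans h1.symm))
  have hzb : z ∈ orbit (stabilizer K a) b := by
    rcases trichotomy hD z with h1 | h1 | h1
    · exact absurd h1 hzne
    · exact h1
    · exfalso
      have e : orbit (stabilizer K a) z = orbit (stabilizer K a) c := orbit_eq_iff.2 h1
      have h2 := hsub hz
      rw [e] at h2
      have h3 := Set.ncard_le_ncard h2 (Finset.finite_toSet _)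
      rw [hD.hc, Set.ncard_coe_finset, hIn] at h3
      omega
  have e : orbit (stabilizer K a) z = orbit (stabilizer K a) b := orbit_eq_iff.2 hzb
  have h2 := hsub hz
  rw [e] at h2
  have h3 : (orbit (stabilizer K a) b : Set Ω) = nIn K a b a := by
    apply Set.eq_of_subset_of_ncard_le h2
    rw [hD.hb, Set.ncard_coe_finset, hIn]
  have hy : y ∈ orbit (stabilizer K a) b := orb_base_iff.1 h
  rw [h3] at hy
  exact mem_nIn.1 hy

theorem orb_symm (hD : Data K a b c) {x y : Ω} (h : Orb K a b x y) : Orb K a b y x := by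
  obtain ⟨g, rfl⟩ := exists_smul_eq' (K := K) a x
  obtain ⟨z, rfl⟩ : ∃ z, g • z = y := ⟨g⁻¹ • y, smul_inv_smul g y⟩
  rw [orb_smul] at h ⊢
  exact orb_symm_base hD h

theorem orb_irrefl (hD : Data K a b c) (x : Ω) : ¬ Orb K a b x x := by
  rintro ⟨g, h1, h2⟩
  exact ne_of_ncard hD.hb (by norm_num) (MulAction.injective g (h2.trans h1.symm))

/-- The orbital graph. -/
def graph (hD : Data K a b c) : SimpleGraph Ω where
  Adj := Orb K a b
  symm := ⟨fun _ _ h => orb_symm hD h⟩
  loopless := ⟨orb_irrefl hD⟩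

theorem graph_adj (hD : Data K a b c) {x y : Ω} : (graph hD).Adj x y ↔ Orb K a b x y := Iff.rfl

theorem graph_smul (hD : Data K a b c) (k : K) (x y : Ω) :
    (graph hD).Adj (k • x) (k • y) ↔ (graph hD).Adj x y := orb_smul k

/-- Adjacent pairs are images of `(a, b)`. -/
theorem adj_move (hD : Data K a b c) {x y : Ω} (h : (graph hD).Adj x y) :
    ∃ g : K, g • a = x ∧ g • b = y := h

/-- Non-adjacent pairs of distinct vertices are images of `(a, c)`. -/
theorem nonadj_move (hD : Data K a b c) {x y : Ω} (hne : x ≠ y) (h : ¬ (graph hD).Adj x y) :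
    ∃ g : K, g • a = x ∧ g • c = y := by
  obtain ⟨g, rfl⟩ := exists_smul_eq' (K := K) a x
  obtain ⟨z, rfl⟩ : ∃ z, g • z = y := ⟨g⁻¹ • y, smul_inv_smul g y⟩
  rw [graph_smul] at h
  have hz : z ≠ a := by
    rintro rfl
    exact hne rfl
  rcases trichotomy hD z with h1 | h1 | h1
  · exact absurd h1 hz
  · exact absurd (orb_base_iff.2 h1) h
  · obtain ⟨m, rfl⟩ := mem_orbit_iff.1 h1
    refine ⟨g * m.1, ?_, ?_⟩
    · rw [mul_smul, show (m.1 : K) • a = a from m.2]
    · rw [mul_smul]
      rfl

variable (hD : Data K a b c)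

open Classical in
/-- Common neighbours. -/
noncomputable def cn (x y : Ω) : ℕ := (N (graph hD) x ∩ N (graph hD) y).card

open Classical in
theorem N_smul (k : K) (x : Ω) :
    N (graph hD) (k • x) = (N (graph hD) x).image (fun y => k • y) := by
  ext y
  simp only [mem_N, mem_image]
  constructor
  · intro h
    refine ⟨k⁻¹ • y, ?_, smul_inv_smul k y⟩
    rw [← graph_smul hD k, smul_inv_smul]
    exact h
  · rintro ⟨z, hz, rfl⟩
    exact (graph_smul hD k _ _).2 hz

open Classical in
theorem cn_smul (k : K) (x y : Ω) : cn hD (k • x) (k • y) = cn hD x y := by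
  unfold cn
  rw [N_smul, N_smul, ← Finset.image_inter _ _ (MulAction.injective k), card_image_smul]

open Classical in
theorem card_N (x : Ω) : (N (graph hD) x).card = 22 := by
  have : N (graph hD) x = nOut K a b x := by
    ext y
    rw [mem_N, mem_nOut]
    rfl
  rw [this]
  exact card_nOut hD.hb x

theorem cn_adj {x y : Ω} (h : (graph hD).Adj x y) : cn hD x y = cn hD a b := by
  obtain ⟨g, rfl, rfl⟩ := adj_move hD h
  exact cn_smul hD g a b

theorem cn_nonadj {x y : Ω} (hne : x ≠ y) (h : ¬ (graph hD).Adj x y) : cn hD x y = cn hD a c := by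
  obtain ⟨g, rfl, rfl⟩ := nonadj_move hD hne h
  exact cn_smul hD g a c

theorem adj_ab : (graph hD).Adj a b := ⟨1, one_smul _ _, one_smul _ _⟩

theorem not_adj_ac : ¬ (graph hD).Adj a c := by
  intro h
  have h1 : c ∈ orbit (stabilizer K a) b := orb_base_iff.1 h
  have e : orbit (stabilizer K a) c = orbit (stabilizer K a) b := orbit_eq_iff.2 h1
  have h2 := hD.hc
  rw [e, hD.hb] at h2
  omega

include hD in
theorem a_ne_c : a ≠ c := (ne_of_ncard hD.hc (by norm_num)).symm

open Classical in
/-- Counting edges from the neighbours to the non-neighbours of `a`. -/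
theorem count_edges : 22 * (21 - cn hD a b) = 77 * cn hD a c ∧ cn hD a b ≤ 21 := by
  classical
  set Γ := graph hD with hΓ
  -- vertices at distance two
  let Q0 : Finset Ω := univ \ insert a (N Γ a)
  have hQ0 : Q0.card = 77 := by
    have h1 : a ∉ N Γ a := by
      rw [mem_N]
      exact Γ.loopless.irrefl a
    have h2 : (insert a (N Γ a)).card = 23 := by
      rw [card_insert_of_notMem h1, card_N]
    have h3 : Q0.card = Fintype.card Ω - 23 := by
      rw [← h2, ← Finset.card_univ]
      exact Finset.card_sdiff_of_subset (Finset.subset_univ _)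
    rw [h3, hD.card]
  have hle : cn hD a b ≤ 21 := by
    have h1 : N Γ a ∩ N Γ b ⊆ (N Γ a).erase b := by
      intro z hz
      rw [mem_inter] at hz
      rw [mem_erase]
      refine ⟨?_, hz.1⟩
      rintro rfl
      exact Γ.loopless.irrefl _ (mem_N.1 hz.2)
    have h2 := Finset.card_le_card h1
    rw [card_erase_of_mem (by rw [mem_N]; exact adj_ab hD), card_N] at h2
    exact h2
  refine ⟨?_, hle⟩
  have h := Finset.sum_card_bipartiteAbove_eq_sum_card_bipartiteBelow (s := N Γ a) (t := Q0) Γ.Adj
  have e1 : ∀ p ∈ N Γ a, (bipartiteAbove Γ.Adj Q0 p).card = 21 - cn hD a b := by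
    intro p hp
    have hp' : Γ.Adj a p := mem_N.1 hp
    have e : bipartiteAbove Γ.Adj Q0 p = (N Γ p).erase a \ (N Γ a ∩ N Γ p) := by
      ext q
      simp only [bipartiteAbove, Q0, mem_filter, mem_sdiff, mem_univ, mem_insert, true_and,
        mem_erase, mem_inter, mem_N, not_or, not_and]
      constructor
      · rintro ⟨⟨h1, h2⟩, h3⟩
        exact ⟨⟨h1, h3⟩, fun h4 => absurd h4 h2⟩
      · rintro ⟨⟨h1, h3⟩, h2⟩
        exact ⟨⟨h1, fun h4 => h2 h4 h3⟩, h3⟩
    rw [e, Finset.card_sdiff_of_subset, card_erase_of_mem, card_N]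
    · rw [← cn_adj hD hp']
      rfl
    · rw [mem_N]
      exact hp'.symm
    · intro z hz
      rw [mem_inter] at hz
      rw [mem_erase]
      refine ⟨?_, hz.2⟩
      rintro rfl
      exact Γ.loopless.irrefl _ (mem_N.1 hz.1)
  have e2 : ∀ q ∈ Q0, (bipartiteBelow Γ.Adj (N Γ a) q).card = cn hD a c := by
    intro q hq
    have hq' : q ≠ a ∧ ¬ Γ.Adj a q := by
      simp only [Q0, mem_sdiff, mem_univ, mem_insert, true_and, not_or, mem_N] at hq
      exact hq
    rw [← cn_nonadj hD hq'.1.symm hq'.2]
    unfold cn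
    congr 1
    ext z
    simp only [bipartiteBelow, mem_filter, mem_inter, mem_N]
    constructor
    · rintro ⟨h1, h2⟩
      exact ⟨h1, h2.symm⟩
    · rintro ⟨h1, h2⟩
      exact ⟨h1, h2.symm⟩
  rw [Finset.sum_congr rfl e1, Finset.sum_congr rfl e2, sum_const, sum_const, card_N, hQ0] at h
  simpa using h

/-- Ordered triangles, as a type. -/
def Tri (Γ : SimpleGraph Ω) : Type _ := {t : Ω × Ω × Ω // Γ.Adj t.1 t.2.1 ∧ Γ.Adj t.2.1 t.2.2 ∧ Γ.Adj t.2.2 t.1}

/-- The number of ordered triangles is divisible by three. -/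
theorem three_dvd_tri (Γ : SimpleGraph Ω) [DecidableRel Γ.Adj] :
    3 ∣ ((univ : Finset (Ω × Ω × Ω)).filter (fun t => Γ.Adj t.1 t.2.1 ∧ Γ.Adj t.2.1 t.2.2 ∧ Γ.Adj t.2.2 t.1)).card := by
  classical
  let T := {t : Ω × Ω × Ω // Γ.Adj t.1 t.2.1 ∧ Γ.Adj t.2.1 t.2.2 ∧ Γ.Adj t.2.2 t.1}
  let f : Function.End T := fun t => ⟨(t.1.2.1, t.1.2.2, t.1.1), t.2.2.1, t.2.2.2, t.2.1⟩
  have hf : f ^ 3 ^ 1 = 1 := by
    funext t
    rfl
  have : Fact (Nat.Prime 3) := ⟨by norm_num⟩
  have h := Equiv.Perm.card_fixedPoints_modEq (f := f) (p := 3) (n := 1) hf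
  have hfix : Fintype.card (Function.fixedPoints f) = 0 := by
    rw [Fintype.card_eq_zero_iff]
    constructor
    rintro ⟨t, ht⟩
    have h1 : f t = t := ht
    have h2 := congrArg (fun s : T => s.1.1) h1
    have h3 : t.1.2.1 = t.1.1 := h2
    have h4 := t.2.1
    rw [h3] at h4
    exact Γ.loopless.irrefl _ h4
  rw [hfix] at h
  have h5 : Fintype.card T = ((univ : Finset (Ω × Ω × Ω)).filter (fun t => Γ.Adj t.1 t.2.1 ∧ Γ.Adj t.2.1 t.2.2 ∧ Γ.Adj t.2.2 t.1)).card := by
    rw [Fintype.card_subtype]
  rw [← h5]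
  exact Nat.dvd_of_mod_eq_zero h

/-- The number of ordered triangles, from the local counts. -/
theorem card_tri_eq (Γ : SimpleGraph Ω) [DecidableRel Γ.Adj] (lam : ℕ)
    (hlam : ∀ x y, Γ.Adj x y → (N Γ x ∩ N Γ y).card = lam) (hdeg : ∀ x, (N Γ x).card = 22) :
    ((univ : Finset (Ω × Ω × Ω)).filter (fun t => Γ.Adj t.1 t.2.1 ∧ Γ.Adj t.2.1 t.2.2 ∧ Γ.Adj t.2.2 t.1)).card
      = Fintype.card Ω * (22 * lam) := by
  classical
  rw [Finset.card_filter, ← Finset.univ_product_univ, Finset.sum_product]
  have h1 : ∀ x : Ω, (∑ t : Ω × Ω, if Γ.Adj x t.1 ∧ Γ.Adj t.1 t.2 ∧ Γ.Adj t.2 x then 1 else 0) = 22 * lam := by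
    intro x
    rw [← Finset.univ_product_univ, Finset.sum_product]
    have h2 : ∀ y : Ω, (∑ z : Ω, if Γ.Adj x y ∧ Γ.Adj y z ∧ Γ.Adj z x then 1 else 0) = if Γ.Adj x y then lam else 0 := by
      intro y
      by_cases hxy : Γ.Adj x y
      · rw [if_pos hxy, ← hlam x y hxy, ← Finset.card_filter]
        congr 1
        ext z
        simp only [mem_filter, mem_univ, true_and, mem_inter, mem_N, hxy]
        constructor
        · rintro ⟨h3, h4⟩
          exact ⟨h4.symm, h3⟩
        · rintro ⟨h3, h4⟩
          exact ⟨h4, h3.symm⟩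
      · rw [if_neg hxy]
        apply Finset.sum_eq_zero
        intro z _
        rw [if_neg]
        tauto
    simp only [h2]
    rw [← Finset.sum_filter, Finset.sum_const, smul_eq_mul]
    have h3 : (univ.filter fun y => Γ.Adj x y) = N Γ x := rfl
    rw [h3, hdeg]
  simp only [h1]
  rw [Finset.sum_const, smul_eq_mul, Finset.card_univ]

open Classical in
/-- The value 21 of the common neighbour count is impossible. -/
theorem not_21 (h21 : cn hD a b = 21) (h0 : cn hD a c = 0) : False := by
  classical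
  set Γ := graph hD with hΓ
  have hcnadj : ∀ x y, Γ.Adj x y → (N Γ x ∩ N Γ y).card = 21 := by
    intro x y h
    have := cn_adj hD h
    rw [h21] at this
    exact this
  have hsub : ∀ x y, Γ.Adj x y → insert x (N Γ x) ⊆ insert y (N Γ y) := by
    intro x y h z hz
    have h1 : N Γ x ∩ N Γ y = (N Γ x).erase y := by
      apply Finset.eq_of_subset_of_card_le
      · intro w hw
        rw [mem_inter] at hw
        rw [mem_erase]
        refine ⟨?_, hw.1⟩
        rintro rfl
        exact Γ.loopless.irrefl _ (mem_N.1 hw.2)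
      · rw [card_erase_of_mem (mem_N.2 h), card_N, hcnadj x y h]
    rw [mem_insert] at hz ⊢
    rcases hz with rfl | hz
    · exact Or.inr (mem_N.2 h.symm)
    · by_cases hzy : z = y
      · exact Or.inl hzy
      · right
        have : z ∈ (N Γ x).erase y := mem_erase.2 ⟨hzy, hz⟩
        rw [← h1] at this
        exact (mem_inter.1 this).2
  have hcnz : ∀ x y, x ≠ y → ¬ Γ.Adj x y → Disjoint (insert x (N Γ x)) (insert y (N Γ y)) := by
    intro x y hne hna
    rw [Finset.disjoint_left]
    intro z hz hz'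
    rw [mem_insert] at hz hz'
    rcases hz with rfl | hz
    · rcases hz' with h | h
      · exact hne h
      · exact hna (mem_N.1 h).symm
    · rcases hz' with rfl | h
      · exact hna (mem_N.1 hz)
      · have h5 : (N Γ x ∩ N Γ y).card = 0 := by
          have := cn_nonadj hD hne hna
          rw [h0] at this
          exact this
        rw [Finset.card_eq_zero] at h5
        have : z ∈ N Γ x ∩ N Γ y := mem_inter.2 ⟨hz, h⟩
        rw [h5] at this
        simp at this
  let B : Ω → Set Ω := fun x => ↑(insert x (N Γ x))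
  have hB : ∀ g : K, g • B a = B (g • a) := by
    intro g
    ext z
    simp only [B, Set.mem_smul_set, Finset.mem_coe, mem_insert, mem_N]
    constructor
    · rintro ⟨y, rfl | h, rfl⟩
      · exact Or.inl rfl
      · exact Or.inr ((graph_smul hD g _ _).2 h)
    · rintro (rfl | h)
      · exact ⟨a, Or.inl rfl, rfl⟩
      · refine ⟨g⁻¹ • z, Or.inr ?_, smul_inv_smul g z⟩
        rw [← graph_smul hD g, smul_inv_smul]
        exact h
  have hblock : IsBlock K (B a) := by
    rw [isBlock_iff_smul_eq_or_disjoint]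
    intro g
    rw [hB]
    by_cases h1 : g • a = a
    · left
      rw [h1]
    · by_cases h2 : Γ.Adj (g • a) a
      · left
        show ((insert (g • a) (N Γ (g • a)) : Finset Ω) : Set Ω) = ((insert a (N Γ a) : Finset Ω) : Set Ω)
        rw [Finset.coe_inj]
        exact Finset.Subset.antisymm (hsub _ _ h2) (hsub _ _ h2.symm)
      · right
        show Disjoint ((insert (g • a) (N Γ (g • a)) : Finset Ω) : Set Ω) ((insert a (N Γ a) : Finset Ω) : Set Ω)
        rw [Finset.disjoint_coe]
        exact hcnz _ _ h1 h2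
  have hd := hblock.ncard_dvd_card ⟨a, by simp [B]⟩
  have h23 : (B a).ncard = 23 := by
    simp only [B]
    rw [Set.ncard_coe_finset, card_insert_of_notMem, card_N]
    rw [mem_N]
    exact Γ.loopless.irrefl _
  rw [h23, Nat.card_eq_fintype_card, hD.card] at hd
  norm_num at hd

open Classical in
/-- The parameters of the orbital graph. -/
theorem params : cn hD a b = 0 ∧ cn hD a c = 6 := by
  obtain ⟨h1, h2⟩ := count_edges hD
  have h3 : 3 ∣ cn hD a b := by
    have h4 := three_dvd_tri (graph hD)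
    rw [card_tri_eq (graph hD) (cn hD a b) (fun x y h => cn_adj hD h) (card_N hD), hD.card] at h4
    have h5 : Nat.Coprime 3 (100 * 22) := by norm_num
    rw [← mul_assoc] at h4
    exact h5.dvd_of_dvd_mul_left h4
  obtain ⟨k, hk⟩ := h3
  have h6 : cn hD a b = 0 ∨ cn hD a b = 21 := by omega
  rcases h6 with h6 | h6
  · refine ⟨h6, ?_⟩
    rw [h6] at h1
    omega
  · exfalso
    apply not_21 hD h6
    rw [h6] at h1
    omega

open Classical in
/-- The orbital graph is strongly regular with the parameters (100, 22, 0, 6). -/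
theorem facts : Facts (graph hD) := by
  obtain ⟨p1, p2⟩ := params hD
  refine ⟨hD.card, card_N hD, ?_, ?_⟩
  · intro v w x h1 h2 h3
    have h4 := cn_adj hD h1
    rw [p1] at h4
    have h5 : x ∈ N (graph hD) v ∩ N (graph hD) w := mem_inter.2 ⟨mem_N.2 h2, mem_N.2 h3⟩
    have h6 : (N (graph hD) v ∩ N (graph hD) w).card = 0 := h4
    rw [Finset.card_eq_zero] at h6
    rw [h6] at h5
    simp at h5
  · intro v w hne hna
    have h4 := cn_nonadj hD hne hna
    rw [p2] at h4
    exact h4

end Rank

/-- The unique subgroup of order 44352000 of the automorphism group. -/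
theorem eq_HH {V : Type*} [Fintype V] [DecidableEq V] {G : SimpleGraph V} [DecidableRel G.Adj]
    (hF : Facts G) (o : V) (X : Subgroup (Equiv.Perm V)) (hX : X ≤ AP G)
    (hc : Nat.card X = 44352000) : X = HH G := by
  obtain ⟨h1, h2, h3⟩ := main hF o
  have hA := card_AP hF o
  let A := AP G
  let X' : Subgroup A := X.subgroupOf A
  have hX' : Nat.card X' = 44352000 := by
    rw [Nat.card_congr (Subgroup.subgroupOfEquivOfLe hX).toEquiv, hc]
  have hidx : X'.index = 2 := by
    have := Subgroup.card_mul_index X'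
    rw [hX', hA] at this
    omega
  have : X'.Normal := Subgroup.normal_of_index_eq_two hidx
  have := h2
  let f : HH G →* A ⧸ X' := (QuotientGroup.mk' X').comp (Subgroup.inclusion h1)
  have hker : HH G ≤ X := by
    rcases IsSimpleGroup.eq_bot_or_eq_top_of_normal f.ker f.normal_ker with h | h
    · exfalso
      have hinj : Function.Injective f := (MonoidHom.ker_eq_bot_iff f).1 h
      have h5 := Nat.card_le_card_of_injective f hinj
      have h6 : Nat.card (A ⧸ X') = 2 := hidx
      rw [h6, h3] at h5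
      omega
    · intro σ hσ
      have h7 : (⟨σ, hσ⟩ : HH G) ∈ f.ker := by
        rw [h]
        trivial
      rw [MonoidHom.mem_ker] at h7
      have h8 : (QuotientGroup.mk' X') (Subgroup.inclusion h1 ⟨σ, hσ⟩) = 1 := h7
      rw [QuotientGroup.mk'_apply, QuotientGroup.eq_one_iff] at h8
      exact h8
  refine (Subgroup.eq_of_le_of_card_ge hker ?_).symm
  rw [hc, h3]

/-- Two faithful actions with the same numerical data, of groups of order 44352000. -/
theorem iso_of_rank {Ω₁ Ω₂ : Type*} [Fintype Ω₁] [DecidableEq Ω₁] [Fintype Ω₂] [DecidableEq Ω₂]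
    {K₁ K₂ : Type*} [Group K₁] [Group K₂] [MulAction K₁ Ω₁] [MulAction K₂ Ω₂]
    [IsPretransitive K₁ Ω₁] [IsPretransitive K₂ Ω₂] [FaithfulSMul K₁ Ω₁] [FaithfulSMul K₂ Ω₂]
    {a₁ b₁ c₁ : Ω₁} {a₂ b₂ c₂ : Ω₂} (hD₁ : Data K₁ a₁ b₁ c₁) (hD₂ : Data K₂ a₂ b₂ c₂)
    (hc₁ : Nat.card K₁ = 44352000) (hc₂ : Nat.card K₂ = 44352000) : Nonempty (K₁ ≃* K₂) := by
  classical
  have F₁ := facts hD₁
  have F₂ := facts hD₂
  obtain ⟨φ, -⟩ := pointed_iso F₁ F₂ a₁ a₂
  let ρ₂ : K₂ →* Equiv.Perm Ω₂ := MulAction.toPermHom K₂ Ω₂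
  have hρ₂ : Function.Injective ρ₂ := MulAction.toPerm_injective
  let ρ₁ : K₁ →* Equiv.Perm Ω₂ :=
    (φ.toEquiv.permCongrHom).toMonoidHom.comp (MulAction.toPermHom K₁ Ω₁)
  have hρ₁ : Function.Injective ρ₁ := by
    intro x y h
    apply MulAction.toPerm_injective (α := K₁) (β := Ω₁)
    exact (φ.toEquiv.permCongrHom).injective h
  have e₂ : ρ₂.range = HH (graph hD₂) := by
    apply eq_HH F₂ a₂
    · rintro _ ⟨k, rfl⟩
      intro x y
      exact graph_smul hD₂ k x y
    · rw [← hc₂]
      exact (Nat.card_congr (MonoidHom.ofInjective hρ₂).toEquiv).symm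
  have e₁ : ρ₁.range = HH (graph hD₂) := by
    apply eq_HH F₂ a₂
    · rintro _ ⟨k, rfl⟩
      intro x y
      have h1 : ∀ z, ρ₁ k z = φ (k • φ.symm z) := fun z => rfl
      rw [h1, h1, φ.map_adj_iff, graph_smul, ← φ.map_adj_iff]
      simp
    · rw [← hc₁]
      exact (Nat.card_congr (MonoidHom.ofInjective hρ₁).toEquiv).symm
  exact ⟨(MonoidHom.ofInjective hρ₁).trans
    ((MulEquiv.subgroupCongr (e₁.trans e₂.symm)).trans (MonoidHom.ofInjective hρ₂).symm)⟩

end Cfsg.Agent.Lib.RankHS
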