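import Mathlib
import Cfsg.Agent.Lib.RankHS
import Cfsg.Agent.Lib.OutHat

set_option autoImplicit false
set_option linter.unusedSectionVars false
set_option linter.unusedVariables false
set_option linter.style.haveILetI false
set_option linter.unusedSimpArgs false

/-!
# Subgroups of index 100 in a rank three group with subdegrees 1, 22, 77

Every subgroup of order 443520 of a group of order 44352000 acting with the data of `RankHS` fixes a
point; thus automorphisms permute the points, and the outer automorphism group has order two.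
-/

namespace Cfsg.Agent.Lib.OutHS

open Finset MulAction Cfsg Cfsg.Agent.Lib.SRG100 Cfsg.Agent.Lib.SRG100Aut Cfsg.Agent.Lib.RankHS
  Cfsg.Agent.Lib.OutHat

/-- Fixed points of an element of prime order on an invariant set. -/
theorem card_mod_fix {Ω K : Type*} [DecidableEq Ω] [Group K] [MulAction K Ω] (X : Finset Ω) (g : K) (q : ℕ)
    [Fact q.Prime] (hg : g ^ q = 1) (hX : ∀ z ∈ X, g • z ∈ X) :
    X.card ≡ (X.filter (fun z => g • z = z)).card [MOD q] := by
  classical
  let f : Function.End X := fun z => ⟨g • z.1, hX z.1 z.2⟩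
  have hpow : ∀ (n : ℕ) (z : X), ((f ^ n) z).1 = g ^ n • z.1 := by
    intro n
    induction n with
    | zero =>
      intro z
      simp
      rfl
    | succ n ih =>
      intro z
      rw [pow_succ, pow_succ, mul_smul]
      have h1 := ih (f z)
      exact h1
  have hf : f ^ q ^ 1 = 1 := by
    funext z
    apply Subtype.ext
    rw [pow_one, hpow, hg, one_smul]
    rfl
  have h := Equiv.Perm.card_fixedPoints_modEq (f := f) (p := q) (n := 1) hf
  have e1 : Fintype.card X = X.card := Fintype.card_coe X
  have e2 : Fintype.card (Function.fixedPoints f) = (X.filter (fun z => g • z = z)).card := by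
    rw [← Fintype.card_coe (X.filter (fun z => g • z = z))]
    apply Fintype.card_congr
    exact
      { toFun := fun z => ⟨z.1.1, mem_filter.2 ⟨z.1.2, congrArg Subtype.val z.2⟩⟩
        invFun := fun z => ⟨⟨z.1, (mem_filter.1 z.2).1⟩, Subtype.ext (mem_filter.1 z.2).2⟩
        left_inv := fun z => rfl
        right_inv := fun z => rfl }
  rwa [e1, e2] at h

section

variable {Ω : Type*} [Fintype Ω] [DecidableEq Ω] {K : Type*} [Group K] [MulAction K Ω]
  [IsPretransitive K Ω] {a b c : Ω}

variable (hD : Data K a b c) (hK : Nat.card K = 44352000)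

/-- Pair stabiliser orders. -/
noncomputable def ps (K : Type*) [Group K] [MulAction K Ω] (p q : Ω) : ℕ :=
  Nat.card ↥(stabilizer K p ⊓ stabilizer K q)

theorem ps_smul (g : K) (p q : Ω) : ps K (g • p) (g • q) = ps K p q := card_pair_smul g p q

include hD hK

theorem card_stab (p : Ω) : Nat.card (stabilizer K p) = 443520 := by
  have h1 := Subgroup.card_mul_index (stabilizer K p)
  rw [index_stabilizer, orbit_eq_univ, Set.ncard_univ, Nat.card_eq_fintype_card (α := Ω), hD.card, hK] at h1
  omega

theorem ps_ab : ps K a b = 20160 := by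
  have h := card_eq_orbit_mul_inf' (stabilizer K a) b
  rw [card_stab hD hK, hD.hb] at h
  unfold ps
  omega

theorem ps_ac : ps K a c = 5760 := by
  have h := card_eq_orbit_mul_inf' (stabilizer K a) c
  rw [card_stab hD hK, hD.hc] at h
  unfold ps
  omega

theorem ps_adj {p q : Ω} (h : (graph hD).Adj p q) : ps K p q = 20160 := by
  obtain ⟨g, rfl, rfl⟩ := adj_move hD h
  rw [ps_smul, ps_ab hD hK]

theorem ps_nonadj {p q : Ω} (hne : p ≠ q) (h : ¬ (graph hD).Adj p q) : ps K p q = 5760 := by
  obtain ⟨g, rfl, rfl⟩ := nonadj_move hD hne h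
  rw [ps_smul, ps_ac hD hK]

theorem ps_self (p : Ω) : ps K p p = 443520 := by
  unfold ps
  rw [inf_idem]
  exact card_stab hD hK p

theorem adj_iff_ps {p q : Ω} : (graph hD).Adj p q ↔ ps K p q = 20160 := by
  constructor
  · exact ps_adj hD hK
  · intro h
    by_contra hn
    by_cases hpq : p = q
    · subst hpq
      rw [ps_self hD hK] at h
      omega
    · rw [ps_nonadj hD hK hpq hn] at h
      omega

omit hK in
theorem order_dvd_ps {g : K} {p q : Ω} (h1 : g • p = p) (h2 : g • q = q) : orderOf g ∣ ps K p q :=
  Subgroup.orderOf_dvd_natCard _ (x := g) ⟨h1, h2⟩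

/-- An element of order 11 has at most one fixed point. -/
theorem fix11_unique {x : K} (hx : orderOf x = 11) {p q : Ω} (h1 : x • p = p) (h2 : x • q = q) : p = q := by
  by_contra hne
  have h3 := order_dvd_ps hD h1 h2
  rw [hx] at h3
  by_cases h : (graph hD).Adj p q
  · rw [ps_adj hD hK h] at h3
    omega
  · rw [ps_nonadj hD hK hne h] at h3
    omega

/-- An element of order 11 has a fixed point. -/
theorem fix11_exists {x : K} (hx : orderOf x = 11) : ∃ p : Ω, x • p = p := by
  have : Fact (Nat.Prime 11) := ⟨by norm_num⟩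
  have h := card_mod_fix (univ : Finset Ω) x 11 (by rw [← hx]; exact pow_orderOf_eq_one x)
    (fun z _ => mem_univ _)
  rw [Finset.card_univ, hD.card] at h
  by_contra hn
  have hn : ∀ z : Ω, x • z ≠ z := fun z hz => hn ⟨z, hz⟩
  have h0 : (univ.filter (fun z : Ω => x • z = z)).card = 0 := by
    rw [Finset.card_eq_zero, Finset.filter_eq_empty_iff]
    intro z _
    exact hn z
  rw [h0] at h
  exact absurd h (by decide)

open Classical in
/-- An element of order 7 has at most two fixed points. -/
theorem fix7_le {y : K} (hy : orderOf y = 7) : (univ.filter (fun z : Ω => y • z = z)).card ≤ 2 := by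
  by_contra hn
  have hn : 2 < (univ.filter (fun z : Ω => y • z = z)).card := by omega
  obtain ⟨u, hu, v, hv, w, hw, huv, huw, hvw⟩ := Finset.two_lt_card.1 hn
  have fx : ∀ {z : Ω}, z ∈ univ.filter (fun z : Ω => y • z = z) → y • z = z := fun h => (mem_filter.1 h).2
  have adj : ∀ {s t : Ω}, s ≠ t → y • s = s → y • t = t → (graph hD).Adj s t := by
    intro s t hst h1 h2
    by_contra hna
    have h3 := order_dvd_ps hD h1 h2
    rw [hy, ps_nonadj hD hK hst hna] at h3
    omega
  have F := facts hD
  exact F.tri u v w (adj huv (fx hu) (fx hv)) (adj huw (fx hu) (fx hw)) (adj hvw (fx hv) (fx hw))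

end

section LFix

variable {Ω : Type*} [Fintype Ω] [DecidableEq Ω] {K : Type*} [Group K] [MulAction K Ω]

open Classical in
/-- Orbits of a subgroup as finite sets. -/
noncomputable def orbF (L : Subgroup K) (z : Ω) : Finset Ω := univ.filter (fun w => w ∈ orbit L z)

theorem mem_orbF {L : Subgroup K} {z w : Ω} : w ∈ orbF L z ↔ ∃ g ∈ L, g • z = w := by
  simp only [orbF, mem_filter, mem_univ, true_and, mem_orbit_iff]
  constructor
  · rintro ⟨g, rfl⟩
    exact ⟨g.1, g.2, rfl⟩
  · rintro ⟨g, hg, rfl⟩
    exact ⟨⟨g, hg⟩, rfl⟩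

theorem self_mem_orbF (L : Subgroup K) (z : Ω) : z ∈ orbF L z := mem_orbF.2 ⟨1, L.one_mem, one_smul _ _⟩

theorem smul_mem_orbF {L : Subgroup K} {z w : Ω} {g : K} (hg : g ∈ L) (hw : w ∈ orbF L z) : g • w ∈ orbF L z := by
  obtain ⟨k, hk, rfl⟩ := mem_orbF.1 hw
  exact mem_orbF.2 ⟨g * k, L.mul_mem hg hk, mul_smul _ _ _⟩

theorem orbF_eq {L : Subgroup K} {z w : Ω} (hw : w ∈ orbF L z) : orbF L w = orbF L z := by
  obtain ⟨k, hk, rfl⟩ := mem_orbF.1 hw
  ext u
  simp only [mem_orbF]
  constructor
  · rintro ⟨g, hg, rfl⟩
    exact ⟨g * k, L.mul_mem hg hk, mul_smul _ _ _⟩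
  · rintro ⟨g, hg, rfl⟩
    refine ⟨g * k⁻¹, L.mul_mem hg (L.inv_mem hk), ?_⟩
    rw [mul_smul, inv_smul_smul]

theorem card_orbF_dvd (L : Subgroup K) (z : Ω) : (orbF L z).card ∣ Nat.card L := by
  have h1 : ((orbF L z : Finset Ω) : Set Ω) = orbit L z := by
    ext w
    simp [orbF]
  rw [← Set.ncard_coe_finset, h1, ← index_stabilizer]
  exact Subgroup.index_dvd_card _

end LFix

section Main

variable {Ω : Type*} [Fintype Ω] [DecidableEq Ω] {K : Type*} [Group K] [MulAction K Ω]
  [IsPretransitive K Ω] {a b c : Ω}

variable (hD : Data K a b c)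

open Classical in
/-- Number of neighbours in a set. -/
noncomputable def cnt (S : Finset Ω) (u : Ω) : ℕ := (N (graph hD) u ∩ S).card

open Classical in
theorem cnt_smul {L : Subgroup K} {S : Finset Ω} (hS : ∀ g ∈ L, ∀ z ∈ S, g • z ∈ S) {g : K} (hg : g ∈ L) (u : Ω) :
    cnt hD S (g • u) = cnt hD S u := by
  have h1 : N (graph hD) (g • u) ∩ S = (N (graph hD) u ∩ S).image (fun y => g • y) := by
    rw [Finset.image_inter _ _ (MulAction.injective g), ← N_smul]
    congr 1
    ext z
    simp only [mem_image]
    constructor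
    · intro hz
      exact ⟨g⁻¹ • z, hS _ (L.inv_mem hg) z hz, smul_inv_smul g z⟩
    · rintro ⟨w, hw, rfl⟩
      exact hS g hg w hw
  unfold cnt
  rw [h1, card_image_smul]

theorem cnt_of_mem {L : Subgroup K} {S : Finset Ω} (hS : ∀ g ∈ L, ∀ z ∈ S, g • z ∈ S) {u w : Ω}
    (hw : w ∈ orbF L u) : cnt hD S w = cnt hD S u := by
  obtain ⟨g, hg, rfl⟩ := mem_orbF.1 hw
  exact cnt_smul hD hS hg u

theorem orbF_inv (L : Subgroup K) (u : Ω) : ∀ g ∈ L, ∀ z ∈ orbF L u, g • z ∈ orbF L u :=
  fun _ hg _ hz => smul_mem_orbF hg hz

open Classical in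
/-- Double counting of edges between two orbits. -/
theorem edge_count (L : Subgroup K) (u v : Ω) :
    (orbF L u).card * cnt hD (orbF L v) u = (orbF L v).card * cnt hD (orbF L u) v := by
  have h := Finset.sum_card_bipartiteAbove_eq_sum_card_bipartiteBelow (s := orbF L u) (t := orbF L v)
    (graph hD).Adj
  have e1 : ∀ w ∈ orbF L u, (bipartiteAbove (graph hD).Adj (orbF L v) w).card = cnt hD (orbF L v) u := by
    intro w hw
    rw [← cnt_of_mem hD (orbF_inv L v) hw]
    unfold cnt
    congr 1
    ext z
    simp only [bipartiteAbove, mem_filter, mem_inter, mem_N]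
    tauto
  have e2 : ∀ w ∈ orbF L v, (bipartiteBelow (graph hD).Adj (orbF L u) w).card = cnt hD (orbF L u) v := by
    intro w hw
    rw [← cnt_of_mem hD (orbF_inv L u) hw]
    unfold cnt
    congr 1
    ext z
    simp only [bipartiteBelow, mem_filter, mem_inter, mem_N]
    constructor
    · rintro ⟨h1, h2⟩
      exact ⟨h2.symm, h1⟩
    · rintro ⟨h1, h2⟩
      exact ⟨h2, h1.symm⟩
  rw [Finset.sum_congr rfl e1, Finset.sum_congr rfl e2, sum_const, sum_const] at h
  simpa using h

theorem num1 : ∀ n : Fin 101, n.1 ∣ 443520 → n.1 % 11 = 1 → n.1 % 7 ≤ 2 → n.1 = 1 ∨ n.1 = 56 := by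
  decide +kernel

theorem num2 : ∀ n : Fin 45, n.1 ≠ 0 → n.1 ∣ 443520 → n.1 % 11 = 0 → n.1 % 7 ≤ 2 → n.1 = 22 ∨ n.1 = 44 := by
  decide +kernel

variable (hK : Nat.card K = 44352000)

include hD hK

theorem card_mod7 {L : Subgroup K} {y : K} (hyL : y ∈ L) (hy : orderOf y = 7) (u : Ω) :
    (orbF L u).card % 7 ≤ 2 := by
  have : Fact (Nat.Prime 7) := ⟨by norm_num⟩
  have h := card_mod_fix (orbF L u) y 7 (by rw [← hy]; exact pow_orderOf_eq_one y)
    (fun z hz => smul_mem_orbF hyL hz)
  have h2 := fix7_le hD hK hy
  have h3 : ((orbF L u).filter (fun z => y • z = z)).card ≤ (univ.filter (fun z : Ω => y • z = z)).card := by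
    apply Finset.card_le_card
    intro z hz
    exact mem_filter.2 ⟨mem_univ _, (mem_filter.1 hz).2⟩
  have h4 : (orbF L u).card % 7 = ((orbF L u).filter (fun z => y • z = z)).card % 7 := h
  omega

open Classical in
theorem L_fix (L : Subgroup K) (hL : Nat.card L = 443520) : ∃ p : Ω, ∀ g ∈ L, g • p = p := by
  have hfinL : Finite L := Nat.finite_of_card_ne_zero (by omega)
  have f11 : Fact (Nat.Prime 11) := ⟨by norm_num⟩
  have f7 : Fact (Nat.Prime 7) := ⟨by norm_num⟩
  obtain ⟨x', hx'⟩ := exists_prime_orderOf_dvd_card' (G := L) 11 (by rw [hL]; norm_num)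
  obtain ⟨y', hy'⟩ := exists_prime_orderOf_dvd_card' (G := L) 7 (by rw [hL]; norm_num)
  have hx : orderOf (x'.1 : K) = 11 := by rwa [Subgroup.orderOf_coe]
  have hy : orderOf (y'.1 : K) = 7 := by rwa [Subgroup.orderOf_coe]
  have hxL := x'.2
  have hyL := y'.2
  set x : K := x'.1 with hxd
  set y : K := y'.1 with hyd
  obtain ⟨p, hp⟩ := fix11_exists hD hK hx
  set O := orbF L p with hO
  have hO11 : O.card % 11 = 1 := by
    have h := card_mod_fix O x 11 (by rw [← hx]; exact pow_orderOf_eq_one x)
      (fun z hz => smul_mem_orbF hxL hz)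
    have e : O.filter (fun z => x • z = z) = {p} := by
      ext z
      simp only [mem_filter, mem_singleton]
      constructor
      · rintro ⟨-, h2⟩
        exact fix11_unique hD hK hx h2 hp
      · rintro rfl
        exact ⟨self_mem_orbF L _, hp⟩
    rw [e, card_singleton] at h
    exact h
  have hO7 := card_mod7 hD hK hyL hy p
  have hOd : O.card ∣ 443520 := by
    rw [← hL]
    exact card_orbF_dvd L p
  have hOle : O.card ≤ 100 := by
    rw [← hD.card, ← Finset.card_univ]
    exact Finset.card_le_card (Finset.subset_univ _)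
  rcases num1 ⟨O.card, by omega⟩ hOd hO11 hO7 with h1 | h56
  · -- a fixed point
    refine ⟨p, fun g hg => ?_⟩
    have h2 : g • p ∈ O := smul_mem_orbF hg (self_mem_orbF L p)
    rw [Finset.card_eq_one] at h1
    obtain ⟨q, hq⟩ := h1
    have h3 : p ∈ O := self_mem_orbF L p
    rw [hq, mem_singleton] at h2 h3
    rw [h2, h3]
  · -- the orbit of size 56 is impossible
    exfalso
    have h56 : O.card = 56 := h56
    set Γ := graph hD with hΓ
    have F := facts hD
    let R : Finset Ω := univ \ O
    have hRcard : R.card = 44 := by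
      have h1 : R.card = Fintype.card Ω - O.card := by
        rw [← Finset.card_univ]
        exact Finset.card_sdiff_of_subset (Finset.subset_univ _)
      rw [h1, hD.card, h56]
    have hmemR : ∀ {z : Ω}, z ∈ R ↔ z ∉ O := by
      intro z
      simp [R]
    have hOinv : ∀ g ∈ L, ∀ z ∈ O, g • z ∈ O := orbF_inv L p
    have hRinv : ∀ g ∈ L, ∀ z ∈ R, g • z ∈ R := by
      intro g hg z hz
      rw [hmemR] at hz ⊢
      intro h
      apply hz
      have := hOinv _ (L.inv_mem hg) _ h
      rwa [inv_smul_smul] at this
    -- the orbit of a point outside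
    have horb : ∀ z ∈ R, orbF L z ⊆ R := by
      intro z hz w hw
      obtain ⟨g, hg, rfl⟩ := mem_orbF.1 hw
      exact hRinv g hg z hz
    have hcnt : ∀ u : Ω, cnt hD O u ≤ 22 := by
      intro u
      have h1 : (N Γ u ∩ O).card ≤ (N Γ u).card := Finset.card_le_card Finset.inter_subset_left
      rw [card_N] at h1
      exact h1
    have hcases : ∀ z ∈ R, cnt hD O z = 0 ∨ (cnt hD O z = 14 ∧ orbF L z = R ∧ cnt hD R p = 11) := by
      intro z hz
      have hX := horb z hz
      have hXle : (orbF L z).card ≤ 44 := hRcard ▸ Finset.card_le_card hX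
      have hX11 : (orbF L z).card % 11 = 0 := by
        have h := card_mod_fix (orbF L z) x 11 (by rw [← hx]; exact pow_orderOf_eq_one x)
          (fun w hw => smul_mem_orbF hxL hw)
        have e : (orbF L z).filter (fun w => x • w = w) = ∅ := by
          rw [Finset.filter_eq_empty_iff]
          intro w hw hfix
          have h1 : w = p := fix11_unique hD hK hx hfix hp
          subst h1
          exact (hmemR.1 (hX hw)) (self_mem_orbF L _)
        rw [e, card_empty] at h
        exact h
      have hX7 := card_mod7 hD hK hyL hy z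
      have hXd : (orbF L z).card ∣ 443520 := by
        rw [← hL]
        exact card_orbF_dvd L z
      have hXne : (orbF L z).card ≠ 0 := Finset.card_ne_zero_of_mem (self_mem_orbF L z)
      have hE := edge_count hD L p z
      rw [← hO, h56] at hE
      have hc := hcnt z
      rcases num2 ⟨(orbF L z).card, by omega⟩ hXne hXd hX11 hX7 with h22 | h44
      · have h22 : (orbF L z).card = 22 := h22
        rw [h22] at hE
        left
        omega
      · have h44 : (orbF L z).card = 44 := h44
        rw [h44] at hE
        have hXR : orbF L z = R := Finset.eq_of_subset_of_card_le hX (by rw [hRcard, h44])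
        by_cases h0 : cnt hD O z = 0
        · exact Or.inl h0
        · right
          rw [hXR] at hE
          refine ⟨by omega, hXR, by omega⟩
    by_cases hall : ∀ z ∈ R, cnt hD O z = 0
    · -- disconnected
      obtain ⟨z, hz⟩ : R.Nonempty := by
        rw [← Finset.card_pos, hRcard]
        norm_num
      have hpO : p ∈ O := self_mem_orbF L p
      have hnoedge : ∀ {u v : Ω}, u ∈ R → v ∈ O → ¬ Γ.Adj u v := by
        intro u v hu hv hadj
        have h1 := hall u hu
        have h2 : v ∈ N Γ u ∩ O := mem_inter.2 ⟨mem_N.2 hadj, hv⟩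
        have h3 : (N Γ u ∩ O).card = 0 := h1
        rw [Finset.card_eq_zero] at h3
        rw [h3] at h2
        simp at h2
      have hne : p ≠ z := by
        rintro rfl
        exact (hmemR.1 hz) hpO
      have hna : ¬ Γ.Adj p z := fun h => hnoedge hz hpO h.symm
      have h6 := F.mu p z hne hna
      obtain ⟨w, hw⟩ : (N Γ p ∩ N Γ z).Nonempty := by
        rw [← Finset.card_pos, h6]
        norm_num
      obtain ⟨h1, h2⟩ := mem_inter.1 hw
      by_cases hwO : w ∈ O
      · exact hnoedge hz hwO (mem_N.1 h2)
      · exact hnoedge (hmemR.2 hwO) hpO (mem_N.1 h1).symm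
    · -- a single orbit of size 44
      have hall' : ∃ z ∈ R, cnt hD O z ≠ 0 := by
        by_contra hno
        apply hall
        intro z hz
        by_contra h
        exact hno ⟨z, hz, h⟩
      obtain ⟨z₀, hz₀, hz₀'⟩ := hall'
      obtain ⟨h14, hXR, hk11⟩ := (hcases z₀ hz₀).resolve_left hz₀'
      have hR14 : ∀ w ∈ R, cnt hD O w = 14 := by
        intro w hw
        rw [← hXR] at hw
        rw [cnt_of_mem hD hOinv hw, h14]
      have hsplit : ∀ u : Ω, cnt hD O u + cnt hD R u = 22 := by
        intro u
        have h1 : (N Γ u ∩ O).card + (N Γ u ∩ R).card = (N Γ u).card := by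
          rw [← Finset.card_union_of_disjoint]
          · congr 1
            ext w
            simp only [mem_union, mem_inter, hmemR]
            tauto
          · rw [Finset.disjoint_left]
            intro w h1 h2
            exact (hmemR.1 (mem_inter.1 h2).2) (mem_inter.1 h1).2
        rw [card_N] at h1
        exact h1
      have hp11 : cnt hD O p = 11 := by
        have := hsplit p
        omega
      have hO11' : ∀ w ∈ O, cnt hD O w = 11 := by
        intro w hw
        rw [cnt_of_mem hD hOinv hw, hp11]
      -- counting paths of length two from `p` back to `O`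
      have hpaths := Finset.sum_card_bipartiteAbove_eq_sum_card_bipartiteBelow (s := N Γ p) (t := O) Γ.Adj
      have e1 : ∀ w ∈ N Γ p, (bipartiteAbove Γ.Adj O w).card = cnt hD O w := by
        intro w _
        unfold cnt
        congr 1
        ext v
        simp only [bipartiteAbove, mem_filter, mem_inter, mem_N]
        tauto
      have e2 : ∀ w ∈ O, (bipartiteBelow Γ.Adj (N Γ p) w).card + (if Γ.Adj p w then 6 else 0) =
          6 + (if w = p then 16 else 0) := by
        intro w hw
        have e3 : bipartiteBelow Γ.Adj (N Γ p) w = N Γ p ∩ N Γ w := by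
          ext v
          simp only [bipartiteBelow, mem_filter, mem_inter, mem_N]
          constructor
          · rintro ⟨h1, h2⟩
            exact ⟨h1, h2.symm⟩
          · rintro ⟨h1, h2⟩
            exact ⟨h1, h2.symm⟩
        rw [e3]
        by_cases hwp : w = p
        · subst hwp
          have : ¬ Γ.Adj w w := Γ.loopless.irrefl w
          rw [Finset.inter_self, card_N, if_neg this, if_pos rfl]
        · rw [if_neg hwp]
          by_cases hadj : Γ.Adj p w
          · rw [if_pos hadj]
            have h0 : (N Γ p ∩ N Γ w).card = 0 := by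
              rw [Finset.card_eq_zero, Finset.eq_empty_iff_forall_notMem]
              intro v hv
              obtain ⟨h1, h2⟩ := mem_inter.1 hv
              exact F.tri p w v hadj (mem_N.1 h1) (mem_N.1 h2)
            rw [h0]
          · rw [if_neg hadj, F.mu p w (Ne.symm hwp) hadj]
      have hs1 : ∑ w ∈ N Γ p, cnt hD O w = 275 := by
        have h1 : N Γ p = (N Γ p ∩ O) ∪ (N Γ p ∩ R) := by
          ext w
          simp only [mem_union, mem_inter, hmemR]
          tauto
        have hd : Disjoint (N Γ p ∩ O) (N Γ p ∩ R) := by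
          rw [Finset.disjoint_left]
          intro w h1 h2
          exact (hmemR.1 (mem_inter.1 h2).2) (mem_inter.1 h1).2
        rw [h1, Finset.sum_union hd, Finset.sum_congr rfl (g := fun _ => 11), Finset.sum_congr (s₁ := N Γ p ∩ R) rfl (g := fun _ => 14), sum_const, sum_const]
        · have h2 : (N Γ p ∩ O).card = 11 := hp11
          have h3 : (N Γ p ∩ R).card = 11 := hk11
          rw [h2, h3]
          norm_num
        · intro w hw
          exact hR14 w (mem_inter.1 hw).2
        · intro w hw
          exact hO11' w (mem_inter.1 hw).2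
      have hs2 : ∑ w ∈ O, ((bipartiteBelow Γ.Adj (N Γ p) w).card + (if Γ.Adj p w then 6 else 0)) = 352 := by
        rw [Finset.sum_congr rfl e2, Finset.sum_add_distrib, sum_const, h56]
        rw [Finset.sum_ite_eq' O p (fun _ => 16), if_pos (self_mem_orbF L p)]
        norm_num
      have hs3 : ∑ w ∈ O, (if Γ.Adj p w then 6 else 0) = 66 := by
        rw [← Finset.sum_filter, sum_const]
        have h2 : O.filter (fun w => Γ.Adj p w) = N Γ p ∩ O := by
          ext w
          simp only [mem_filter, mem_inter, mem_N]
          tauto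
        rw [h2]
        have h3 : (N Γ p ∩ O).card = 11 := hp11
        rw [h3]
        norm_num
      rw [Finset.sum_add_distrib, hs3] at hs2
      rw [Finset.sum_congr rfl e1, hs1] at hpaths
      omega

/-- Automorphisms permute the points. -/
theorem hatData : HatData K Ω := by
  have hfin : Finite K := Nat.finite_of_card_ne_zero (by omega)
  refine ⟨?_, ?_⟩
  · intro p q hne
    by_contra hn
    have hle : stabilizer K p ≤ stabilizer K q := by
      intro g hg
      by_contra hg'
      exact hn ⟨g, hg, hg'⟩
    have h1 : ps K p q = 443520 := by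
      unfold ps
      rw [inf_eq_left.2 hle]
      exact card_stab hD hK p
    by_cases h : (graph hD).Adj p q
    · rw [ps_adj hD hK h] at h1
      omega
    · rw [ps_nonadj hD hK hne h] at h1
      omega
  · intro α p
    have hc : Nat.card ((stabilizer K p).map α.toMonoidHom) = 443520 := by
      rw [← Nat.card_congr (Subgroup.equivMapOfInjective _ _ α.injective).toEquiv]
      exact card_stab hD hK p
    obtain ⟨q, hq⟩ := L_fix hD hK _ hc
    refine ⟨q, Subgroup.eq_of_le_of_card_ge (fun g hg => hq g hg) ?_⟩
    rw [hc, card_stab hD hK q]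

/-- The outer automorphism group of a faithful rank three group with subdegrees 1, 22, 77 and of
order 44352000 has order two. -/
theorem card_out [FaithfulSMul K Ω] : Nat.card (Out K) = 2 := by
  classical
  have hfin : Finite K := Nat.finite_of_card_ne_zero (by omega)
  have hH := hatData hD hK
  have F := facts hD
  apply le_antisymm
  · apply card_out_le hH (AP (graph hD))
    · intro α x y
      rw [adj_iff_ps hD hK, adj_iff_ps hD hK]
      unfold ps
      rw [hat_pair hH]
    · rw [card_AP F a, hK]
  · obtain ⟨t, ht, hsign⟩ := oddT F a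
    have htA : t ∈ AP (graph hD) := (mem_TT.1 ht).1
    let ρ : K →* Equiv.Perm Ω := MulAction.toPermHom K Ω
    have hρ : Function.Injective ρ := MulAction.toPerm_injective
    have hrange : ρ.range = HH (graph hD) := by
      apply eq_HH F a
      · rintro _ ⟨k, rfl⟩
        intro x y
        exact graph_smul hD k x y
      · rw [← hK]
        exact (Nat.card_congr (MonoidHom.ofInjective hρ).toEquiv).symm
    have hmem : ∀ k : K, ρ k ∈ HH (graph hD) := fun k => hrange ▸ ⟨k, rfl⟩
    have hconj : ∀ (s : Equiv.Perm Ω), s ∈ AP (graph hD) → ∀ k : K, ∃ k' : K, s * ρ k * s⁻¹ = ρ k' := by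
      intro s hs k
      have h1 : s * ρ k * s⁻¹ ∈ HH (graph hD) := by
        rw [mem_HH]
        have h2 := mem_HH.1 (hmem k)
        refine ⟨(AP (graph hD)).mul_mem ((AP (graph hD)).mul_mem hs h2.1) ((AP (graph hD)).inv_mem hs), ?_⟩
        rw [map_mul, map_mul, h2.2, map_inv]
        simp
      rw [← hrange] at h1
      obtain ⟨k', hk'⟩ := h1
      exact ⟨k', hk'.symm⟩
    apply two_le_card_out hH t (hconj t htA)
    · intro k
      have := hconj t⁻¹ ((AP (graph hD)).inv_mem htA) k
      rw [inv_inv] at this
      exact this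
    · intro k e
      have h2 := (mem_HH.1 (hmem k)).2
      have h3 : Equiv.Perm.sign t = 1 := by
        rw [e]
        exact h2
      rw [hsign] at h3
      exact absurd h3 (by decide)

end Main

end Cfsg.Agent.Lib.OutHS
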