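import Mathlib
import Cfsg.Agent.Lib.OutHat
import Cfsg.Agent.Lib.OutHS

set_option autoImplicit false
set_option linter.unusedSectionVars false
set_option linter.unusedVariables false
set_option linter.style.haveILetI false
set_option linter.unusedSimpArgs false

/-!
# Subgroups of index 275 in a rank three group with subdegrees 1, 112, 162

Every subgroup of order 3265920 of a group of order 898128000 acting with these data fixes a point: a
Sylow 3-subgroup of it fixes two adjacent points and acts on their complement with three orbits of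
length 81 and some further orbits inside the common neighbours; the arithmetic and a clique bound finish.
-/

namespace Cfsg.Agent.Lib.OutMcL

open Finset MulAction Cfsg Cfsg.Agent.Lib.OutHat Cfsg.Agent.Lib.OutHS

/-- A version of `card_out_le` with an upper bound only. -/
theorem card_out_le' {K Ω : Type*} [Group K] [MulAction K Ω] (h : HatData K Ω) [FaithfulSMul K Ω] [Finite K] [Finite Ω]
    (A : Subgroup (Equiv.Perm Ω)) (hA : ∀ α : MulAut K, hatHom h α ∈ A) {n : ℕ}
    (hn : Nat.card A ≤ n * Nat.card K) : Nat.card (Out K) ≤ n := by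
  have hfin : Finite (MulAut K) :=
    Finite.of_injective (fun α : MulAut K => (α : K → K)) DFunLike.coe_injective
  have h1 : Nat.card (MulAut K) ≤ Nat.card A := by
    apply Nat.card_le_card_of_injective (fun α : MulAut K => (⟨hatHom h α, hA α⟩ : A))
    intro a b e
    exact hat_injective h (congrArg Subtype.val e)
  have h2 := Subgroup.card_eq_card_quotient_mul_card_subgroup (Inn K)
  rw [card_inn h] at h2
  have hpos : 0 < Nat.card K := Nat.card_pos
  have h3 := h1.trans hn
  rw [h2] at h3
  exact Nat.le_of_mul_le_mul_right h3 hpos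

theorem num112 : ∀ s : Fin 276, s.1 ∣ 4480 → (82 ≤ s.1 ∧ s.1 ≤ 113 ∨ 163 ≤ s.1 ∧ s.1 ≤ 194 ∨ 244 ≤ s.1) → s.1 = 112 := by
  decide +kernel

theorem num1 : ∀ m : Fin 4, (1 + 81 * m.1) ∣ 3265920 → m.1 = 0 := by
  decide +kernel

section

variable {Ω : Type*} [Fintype Ω] [DecidableEq Ω] {K : Type*} [Group K] [MulAction K Ω]

/-- The data of the action. -/
structure Data (K : Type*) [Group K] [MulAction K Ω] (Adj : Ω → Ω → Prop) [DecidableRel Adj] : Prop where
  card : Fintype.card Ω = 275
  symm : ∀ x y : Ω, Adj x y → Adj y x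
  irrefl : ∀ x : Ω, ¬ Adj x x
  smul : ∀ (g : K) (x y : Ω), Adj (g • x) (g • y) ↔ Adj x y
  deg : ∀ x : Ω, (univ.filter (fun z => Adj x z)).card = 112
  lam : ∀ x y : Ω, Adj x y → (univ.filter (fun z => Adj x z ∧ Adj y z)).card = 30
  psA : ∀ x y : Ω, Adj x y → ps K x y = 29160
  psN : ∀ x y : Ω, x ≠ y → ¬ Adj x y → ps K x y = 20160
  stab : ∀ x : Ω, Nat.card (stabilizer K x) = 3265920

variable {Adj : Ω → Ω → Prop} [DecidableRel Adj] (hD : Data K Adj)

include hD

/-- Cliques are small. -/
theorem clique_le (C : Finset Ω) (hC : ∀ a ∈ C, ∀ b ∈ C, a ≠ b → Adj a b) : C.card ≤ 5 := by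
  by_contra hc
  have hc6 : 6 ≤ C.card := by omega
  let n : Ω → ℕ := fun x => (C.filter (fun a => Adj x a)).card
  have hn : ∀ x, n x = ∑ a ∈ C, (if Adj x a then 1 else 0) := fun x => Finset.card_filter _ _
  have S1 : ∑ x, n x = C.card * 112 := by
    simp only [hn]
    rw [Finset.sum_comm]
    rw [Finset.sum_congr rfl (g := fun _ => 112), Finset.sum_const, smul_eq_mul]
    intro a _
    rw [← Finset.card_filter, ← hD.deg a]
    congr 1
    ext x
    simp only [mem_filter, mem_univ, true_and]
    exact ⟨hD.symm _ _, hD.symm _ _⟩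
  have S2 : ∑ x, n x ^ 2 = C.card * (112 + (C.card - 1) * 30) := by
    have e1 : ∀ x, n x ^ 2 = ∑ a ∈ C, ∑ b ∈ C, (if Adj x a ∧ Adj x b then 1 else 0) := by
      intro x
      rw [sq, hn, Finset.sum_mul_sum]
      refine Finset.sum_congr rfl fun a _ => Finset.sum_congr rfl fun b _ => ?_
      by_cases h1 : Adj x a <;> by_cases h2 : Adj x b <;> simp [h1, h2]
    simp only [e1]
    rw [Finset.sum_comm]
    rw [Finset.sum_congr rfl (g := fun _ => 112 + (C.card - 1) * 30), Finset.sum_const, smul_eq_mul]
    intro a ha
    rw [Finset.sum_comm]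
    have e2 : ∀ b ∈ C, ∑ x : Ω, (if Adj x a ∧ Adj x b then 1 else 0) = if b = a then 112 else 30 := by
      intro b hb
      rw [← Finset.card_filter]
      by_cases hba : b = a
      · subst hba
        rw [if_pos rfl, ← hD.deg b]
        congr 1
        ext x
        simp only [mem_filter, mem_univ, true_and]
        exact ⟨fun h => hD.symm _ _ h.1, fun h => ⟨hD.symm _ _ h, hD.symm _ _ h⟩⟩
      · rw [if_neg hba, ← hD.lam a b (hC a ha b hb (Ne.symm hba))]
        congr 1
        ext x
        simp only [mem_filter, mem_univ, true_and]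
        exact ⟨fun h => ⟨hD.symm _ _ h.1, hD.symm _ _ h.2⟩, fun h => ⟨hD.symm _ _ h.1, hD.symm _ _ h.2⟩⟩
    rw [Finset.sum_congr rfl e2, Finset.sum_ite, Finset.sum_const, Finset.sum_const, smul_eq_mul, smul_eq_mul]
    have e3 : C.filter (fun b => b = a) = {a} := by
      ext b
      simp only [mem_filter, mem_singleton]
      constructor
      · exact fun h => h.2
      · rintro rfl
        exact ⟨ha, rfl⟩
    have e4 : (C.filter (fun b => ¬ b = a)).card = C.card - 1 := by
      have := Finset.card_filter_add_card_filter_not (s := C) (fun b => b = a)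
      rw [e3, card_singleton] at this
      omega
    rw [e3, e4, card_singleton]
  have h := sq_sum_le_card_mul_sum_sq (s := (univ : Finset Ω)) (f := fun x => (n x : ℤ))
  rw [Finset.card_univ, hD.card] at h
  have S1' : ∑ x, (n x : ℤ) = (C.card : ℤ) * 112 := by
    rw [← Nat.cast_sum, S1]
    push_cast
    ring
  have S2' : ∑ x, (n x : ℤ) ^ 2 = (C.card : ℤ) * (112 + ((C.card : ℤ) - 1) * 30) := by
    have : ∑ x, (n x : ℤ) ^ 2 = ((∑ x, n x ^ 2 : ℕ) : ℤ) := by
      push_cast
      rfl
    rw [this, S2]
    push_cast [Nat.cast_sub (show 1 ≤ C.card by omega)]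
    ring
  rw [S1', S2'] at h
  have hc' : (6 : ℤ) ≤ C.card := by exact_mod_cast hc6
  push_cast at h
  nlinarith [mul_nonneg (show (0 : ℤ) ≤ (C.card : ℤ) by omega) (show (0 : ℤ) ≤ (C.card : ℤ) - 6 by omega)]

set_option maxHeartbeats 4000000 in
theorem L_fix [Finite K] (L : Subgroup K) (hL : Nat.card L = 3265920) : ∃ p : Ω, ∀ g ∈ L, g • p = p := by
  classical
  have hfinL : Finite L := Nat.finite_of_card_ne_zero (by omega)
  -- a subgroup of order 3 ^ 6
  have f3 : Fact (Nat.Prime 3) := ⟨by norm_num⟩
  obtain ⟨H₀, hH₀⟩ := Sylow.exists_subgroup_card_pow_prime (G := L) 3 (n := 6) (by rw [hL]; norm_num)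
  let S : Subgroup K := H₀.map L.subtype
  have hSL : S ≤ L := by
    rintro _ ⟨h, _, rfl⟩
    exact h.2
  have hS : Nat.card S = 729 := by
    rw [← Nat.card_congr (Subgroup.equivMapOfInjective H₀ L.subtype L.subtype_injective).toEquiv, hH₀]
    norm_num
  have hSp : IsPGroup 3 S := by
    apply IsPGroup.of_card (n := 6)
    rw [hS]
    norm_num
  -- two fixed points
  have hfix : ∃ p q : Ω, p ≠ q ∧ (∀ g ∈ S, g • p = p) ∧ (∀ g ∈ S, g • q = q) := by
    have h := hSp.card_modEq_card_fixedPoints Ω
    rw [Nat.card_eq_fintype_card, hD.card] at h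
    have h2 : Nat.card (fixedPoints S Ω) % 3 = 2 := by
      have : 275 % 3 = Nat.card (fixedPoints S Ω) % 3 := h
      omega
    have h3 : 1 < Nat.card (fixedPoints S Ω) := by omega
    haveI : Finite (fixedPoints S Ω) := Finite.of_injective _ Subtype.val_injective
    obtain ⟨⟨a, ha⟩, ⟨b, hb⟩, hab⟩ := (Finite.one_lt_card_iff_nontrivial.1 h3).exists_pair_ne
    refine ⟨a, b, fun e => hab (Subtype.ext e), fun g hg => ha ⟨g, hg⟩, fun g hg => hb ⟨g, hg⟩⟩
  obtain ⟨p, q, hpq, hSP, hSQ⟩ := hfix
  have hSle : ∀ {x y : Ω}, (∀ g ∈ S, g • x = x) → (∀ g ∈ S, g • y = y) → 729 ∣ ps K x y := by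
    intro x y hx hy
    rw [← hS]
    exact Subgroup.card_dvd_of_le (fun g hg => ⟨hx g hg, hy g hg⟩)
  have hadj : Adj p q := by
    by_contra hn
    have h1 := hSle hSP hSQ
    rw [hD.psN p q hpq hn] at h1
    omega
  -- the parts
  let W : Finset Ω := univ.filter (fun z => Adj p z ∧ Adj q z)
  let A : Finset Ω := univ.filter (fun z => Adj p z ∧ ¬ Adj q z ∧ z ≠ q)
  let B : Finset Ω := univ.filter (fun z => ¬ Adj p z ∧ Adj q z ∧ z ≠ p)
  let C : Finset Ω := univ.filter (fun z => ¬ Adj p z ∧ ¬ Adj q z ∧ z ≠ p ∧ z ≠ q)
  have hirrp := hD.irrefl p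
  have hirrq := hD.irrefl q
  have hqp : Adj q p := hD.symm _ _ hadj
  have split : ∀ X : Finset Ω, X.card = (X.filter (fun z => z = p)).card + (X.filter (fun z => z = q)).card +
      (X.filter (fun z => z ∈ W)).card + (X.filter (fun z => z ∈ A)).card + (X.filter (fun z => z ∈ B)).card +
      (X.filter (fun z => z ∈ C)).card := by
    intro X
    simp only [Finset.card_filter, ← Finset.sum_add_distrib, Finset.card_eq_sum_ones X]
    refine Finset.sum_congr rfl fun z _ => ?_
    simp only [W, A, B, C, mem_filter, mem_univ, true_and]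
    by_cases h1 : z = p
    · subst h1
      simp [hpq, hirrp, hadj]
    · by_cases h2 : z = q
      · subst h2
        simp [h1, hirrq, hqp]
      · by_cases h3 : Adj p z <;> by_cases h4 : Adj q z <;> simp [h1, h2, h3, h4]
  have cW : W.card = 30 := hD.lam p q hadj
  have hsplit1 := split (univ.filter (fun z => Adj p z))
  have hsplit2 := split (univ.filter (fun z => Adj q z))
  have hsplit3 := split univ
  have e1 : ((univ.filter (fun z => Adj p z)).filter (fun z => z = p)).card = 0 := by
    rw [Finset.card_eq_zero, Finset.filter_eq_empty_iff]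
    intro z hz e
    subst e
    exact hirrp (mem_filter.1 hz).2
  have e2 : ((univ.filter (fun z => Adj p z)).filter (fun z => z = q)).card = 1 := by
    rw [Finset.card_eq_one]
    refine ⟨q, ?_⟩
    ext z
    simp only [mem_filter, mem_univ, true_and, mem_singleton]
    constructor
    · exact fun h => h.2
    · rintro rfl
      exact ⟨hadj, rfl⟩
  have e3 : ((univ.filter (fun z => Adj p z)).filter (fun z => z ∈ W)).card = 30 := by
    rw [← cW]
    congr 1
    ext z
    simp only [W, mem_filter, mem_univ, true_and]
    tauto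
  have e4 : ((univ.filter (fun z => Adj p z)).filter (fun z => z ∈ A)) = A := by
    ext z
    simp only [A, mem_filter, mem_univ, true_and]
    tauto
  have e5 : ((univ.filter (fun z => Adj p z)).filter (fun z => z ∈ B)).card = 0 := by
    rw [Finset.card_eq_zero, Finset.filter_eq_empty_iff]
    intro z hz h
    simp only [B, mem_filter, mem_univ, true_and] at hz h
    exact h.1 hz
  have e6 : ((univ.filter (fun z => Adj p z)).filter (fun z => z ∈ C)).card = 0 := by
    rw [Finset.card_eq_zero, Finset.filter_eq_empty_iff]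
    intro z hz h
    simp only [C, mem_filter, mem_univ, true_and] at hz h
    exact h.1 hz
  have cA : A.card = 81 := by
    rw [e1, e2, e3, e4, e5, e6, hD.deg p] at hsplit1
    omega
  have f1 : ((univ.filter (fun z => Adj q z)).filter (fun z => z = p)).card = 1 := by
    rw [Finset.card_eq_one]
    refine ⟨p, ?_⟩
    ext z
    simp only [mem_filter, mem_univ, true_and, mem_singleton]
    constructor
    · exact fun h => h.2
    · rintro rfl
      exact ⟨hqp, rfl⟩
  have f2 : ((univ.filter (fun z => Adj q z)).filter (fun z => z = q)).card = 0 := by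
    rw [Finset.card_eq_zero, Finset.filter_eq_empty_iff]
    intro z hz e
    subst e
    exact hirrq (mem_filter.1 hz).2
  have f3' : ((univ.filter (fun z => Adj q z)).filter (fun z => z ∈ W)).card = 30 := by
    rw [← cW]
    congr 1
    ext z
    simp only [W, mem_filter, mem_univ, true_and]
    tauto
  have f4 : ((univ.filter (fun z => Adj q z)).filter (fun z => z ∈ A)).card = 0 := by
    rw [Finset.card_eq_zero, Finset.filter_eq_empty_iff]
    intro z hz h
    simp only [A, mem_filter, mem_univ, true_and] at hz h
    exact h.2.1 hz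
  have f5 : ((univ.filter (fun z => Adj q z)).filter (fun z => z ∈ B)) = B := by
    ext z
    simp only [B, mem_filter, mem_univ, true_and]
    tauto
  have f6 : ((univ.filter (fun z => Adj q z)).filter (fun z => z ∈ C)).card = 0 := by
    rw [Finset.card_eq_zero, Finset.filter_eq_empty_iff]
    intro z hz h
    simp only [C, mem_filter, mem_univ, true_and] at hz h
    exact h.2.1 hz
  have cB : B.card = 81 := by
    rw [f1, f2, f3', f4, f5, f6, hD.deg q] at hsplit2
    omega
  have cC : C.card = 81 := by
    have g1 : (univ.filter (fun z : Ω => z = p)).card = 1 := by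
      rw [Finset.filter_eq' univ p, if_pos (mem_univ p), card_singleton]
    have g2 : (univ.filter (fun z : Ω => z = q)).card = 1 := by
      rw [Finset.filter_eq' univ q, if_pos (mem_univ q), card_singleton]
    have g3 : (univ.filter (fun z : Ω => z ∈ W)) = W := by
      ext z
      simp
    have g4 : (univ.filter (fun z : Ω => z ∈ A)) = A := by
      ext z
      simp
    have g5 : (univ.filter (fun z : Ω => z ∈ B)) = B := by
      ext z
      simp
    have g6 : (univ.filter (fun z : Ω => z ∈ C)) = C := by
      ext z
      simp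
    rw [g1, g2, g3, g4, g5, g6, Finset.card_univ, hD.card, cW, cA, cB] at hsplit3
    omega
  -- the orbits of S in non-neighbours are long
  have horb : ∀ {x a : Ω}, (∀ g ∈ S, g • x = x) → x ≠ a → ¬ Adj x a → 81 ≤ (orbF S a).card := by
    intro x a hx hne hna
    have h1 := card_eq_orbit_mul_inf' S a
    have h2 : (orbit S a).ncard = (orbF S a).card := by
      rw [← Set.ncard_coe_finset]
      congr 1
      ext w
      simp [orbF]
    rw [h2, hS] at h1
    have h3 : Nat.card ↥(S ⊓ stabilizer K a) ∣ 729 := by
      rw [← hS]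
      exact Subgroup.card_dvd_of_le inf_le_left
    have h4 : Nat.card ↥(S ⊓ stabilizer K a) ∣ 20160 := by
      rw [← hD.psN x a hne hna]
      exact Subgroup.card_dvd_of_le (fun g hg => ⟨hx g hg.1, hg.2⟩)
    have h5 : Nat.card ↥(S ⊓ stabilizer K a) ∣ 9 := by
      have := Nat.dvd_gcd h3 h4
      simpa using this
    have h6 := Nat.le_of_dvd (by norm_num) h5
    by_contra hlt
    have h8 : (orbF S a).card ≤ 80 := by omega
    have h9 := Nat.mul_le_mul h8 h6
    omega
  -- S preserves the parts
  have hadjS : ∀ g ∈ S, ∀ {x z : Ω}, (∀ g ∈ S, g • x = x) → (Adj x (g • z) ↔ Adj x z) := by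
    intro g hg x z hx
    have := hD.smul g x z
    rwa [hx g hg] at this
  have hneS : ∀ g ∈ S, ∀ {x z : Ω}, (∀ g ∈ S, g • x = x) → (g • z ≠ x ↔ z ≠ x) := by
    intro g hg x z hx
    constructor
    · rintro h rfl
      exact h (hx g hg)
    · intro h e
      apply h
      have : g • z = g • x := by rw [e, hx g hg]
      exact MulAction.injective g this
  -- blocks
  have hblock : ∀ (O : Finset Ω), (∀ g ∈ L, ∀ z ∈ O, g • z ∈ O) → ∀ X : Finset Ω, X.card = 81 →
      (∀ g ∈ S, ∀ z ∈ X, g • z ∈ X) → (∀ a ∈ X, 81 ≤ (orbF S a).card) →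
      (O.filter (fun z => z ∈ X)).card = 0 ∨ (O.filter (fun z => z ∈ X)) = X := by
    intro O hO X hX hXinv hXlong
    by_cases hne : (O.filter (fun z => z ∈ X)).Nonempty
    · right
      obtain ⟨a, ha⟩ := hne
      obtain ⟨ha1, ha2⟩ := mem_filter.1 ha
      have h1 : orbF S a ⊆ X := by
        intro w hw
        obtain ⟨g, hg, rfl⟩ := mem_orbF.1 hw
        exact hXinv g hg a ha2
      have h2 : orbF S a = X := Finset.eq_of_subset_of_card_le h1 (by rw [hX]; exact hXlong a ha2)
      ext w
      simp only [mem_filter]
      constructor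
      · exact fun h => h.2
      · intro hw
        refine ⟨?_, hw⟩
        rw [← h2] at hw
        obtain ⟨g, hg, rfl⟩ := mem_orbF.1 hw
        exact hO g (hSL hg) a ha1
    · left
      rw [Finset.card_eq_zero]
      exact Finset.not_nonempty_iff_eq_empty.1 hne
  have hAb : ∀ (O : Finset Ω), (∀ g ∈ L, ∀ z ∈ O, g • z ∈ O) →
      (O.filter (fun z => z ∈ A)).card = 0 ∨ (O.filter (fun z => z ∈ A)).card = 81 := by
    intro O hO
    rcases hblock O hO A cA (by
        intro g hg z hz
        simp only [A, mem_filter, mem_univ, true_and] at hz ⊢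
        rw [hadjS g hg hSP, hadjS g hg hSQ, hneS g hg hSQ]
        exact hz) (by
        intro a ha
        simp only [A, mem_filter, mem_univ, true_and] at ha
        exact horb hSQ (Ne.symm ha.2.2) ha.2.1) with h | h
    · exact Or.inl h
    · exact Or.inr (by rw [h, cA])
  have hBb : ∀ (O : Finset Ω), (∀ g ∈ L, ∀ z ∈ O, g • z ∈ O) →
      (O.filter (fun z => z ∈ B)).card = 0 ∨ (O.filter (fun z => z ∈ B)).card = 81 := by
    intro O hO
    rcases hblock O hO B cB (by
        intro g hg z hz
        simp only [B, mem_filter, mem_univ, true_and] at hz ⊢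
        rw [hadjS g hg hSP, hadjS g hg hSQ, hneS g hg hSP]
        exact hz) (by
        intro a ha
        simp only [B, mem_filter, mem_univ, true_and] at ha
        exact horb hSP (Ne.symm ha.2.2) ha.1) with h | h
    · exact Or.inl h
    · exact Or.inr (by rw [h, cB])
  have hCb : ∀ (O : Finset Ω), (∀ g ∈ L, ∀ z ∈ O, g • z ∈ O) →
      (O.filter (fun z => z ∈ C)).card = 0 ∨ (O.filter (fun z => z ∈ C)).card = 81 := by
    intro O hO
    rcases hblock O hO C cC (by
        intro g hg z hz
        simp only [C, mem_filter, mem_univ, true_and] at hz ⊢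
        rw [hadjS g hg hSP, hadjS g hg hSQ, hneS g hg hSP, hneS g hg hSQ]
        exact hz) (by
        intro a ha
        simp only [C, mem_filter, mem_univ, true_and] at ha
        exact horb hSP (Ne.symm ha.2.2.1) ha.1) with h | h
    · exact Or.inl h
    · exact Or.inr (by rw [h, cC])
  -- orbits meeting the small part in one point only are trivial
  have hsingle : ∀ r : Ω, ((orbF L r).filter (fun z => z = p)).card + ((orbF L r).filter (fun z => z = q)).card +
      ((orbF L r).filter (fun z => z ∈ W)).card = 1 → ∀ g ∈ L, g • r = r := by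
    intro r hr g hg
    have h1 := split (orbF L r)
    have hO : ∀ g ∈ L, ∀ z ∈ orbF L r, g • z ∈ orbF L r := fun _ hg _ hz => smul_mem_orbF hg hz
    have h2 : (orbF L r).card ∣ 3265920 := by
      rw [← hL]
      exact card_orbF_dvd L r
    rcases hAb _ hO with a | a <;> rcases hBb _ hO with b | b <;> rcases hCb _ hO with c | c
    all_goals
      rw [a, b, c] at h1
      rw [hr] at h1
    all_goals
      first
      | (have h3 : (orbF L r).card = 1 := by omega
         have h4 := Finset.card_eq_one.1 h3
         obtain ⟨t, ht⟩ := h4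
         have h5 : r ∈ orbF L r := self_mem_orbF L r
         have h6 : g • r ∈ orbF L r := smul_mem_orbF hg h5
         rw [ht, mem_singleton] at h5 h6
         rw [h6, h5])
      | (exfalso
         rw [h1] at h2
         revert h2
         norm_num)
  -- the orbit of p
  set O := orbF L p with hOdef
  have hOinv : ∀ g ∈ L, ∀ z ∈ O, g • z ∈ O := fun _ hg _ hz => smul_mem_orbF hg hz
  have hpO : p ∈ O := self_mem_orbF L p
  have hO1 : (O.filter (fun z => z = p)).card = 1 := by
    rw [Finset.filter_eq' O p, if_pos hpO, card_singleton]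
  have hO2 : (O.filter (fun z => z = q)).card ≤ 1 := by
    rw [Finset.filter_eq' O q]
    split_ifs <;> simp
  have hW1 : (O.filter (fun z => z ∈ W)).card ≤ 30 := by
    rw [← cW]
    apply Finset.card_le_card
    intro z hz
    exact (mem_filter.1 hz).2
  have hsum := split O
  -- the order of the stabiliser in L
  have hLp : 729 ∣ Nat.card ↥(L ⊓ stabilizer K p) := by
    rw [← hS]
    exact Subgroup.card_dvd_of_le (fun g hg => ⟨hSL hg, hSP g hg⟩)
  have horbit := card_eq_orbit_mul_inf' L p
  have hOcard : (orbit L p).ncard = O.card := by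
    rw [← Set.ncard_coe_finset]
    congr 1
    ext w
    simp [hOdef, orbF]
  rw [hOcard, hL] at horbit
  have hOd : O.card ∣ 4480 := by
    obtain ⟨t, ht⟩ := hLp
    rw [ht] at horbit
    refine ⟨t, ?_⟩
    have : 729 * (O.card * t) = 729 * 4480 := by
      rw [show (729 * 4480 : ℕ) = 3265920 by norm_num, horbit]
      ring
    have h2 := Nat.eq_of_mul_eq_mul_left (by norm_num) this
    exact h2.symm
  have hOle : O.card ≤ 275 := by
    rw [← hD.card, ← Finset.card_univ]
    exact Finset.card_le_card (Finset.subset_univ _)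
  -- disjointness of orbits
  have hdisj : ∀ {y z : Ω}, z ∉ orbF L y → ∀ w ∈ orbF L z, w ∉ orbF L y := by
    intro y z hz w hw hw'
    apply hz
    have h1 := orbF_eq hw
    have h2 := orbF_eq hw'
    rw [← h2, h1]
    exact self_mem_orbF L z
  have final : (O.filter (fun z => z = q)).card + (O.filter (fun z => z ∈ W)).card = 30 →
      ∃ p' : Ω, ∀ g ∈ L, g • p' = p' := by
    intro key
    by_cases hqO : q ∈ O
    · -- one point of W is left
      have h1 : (O.filter (fun z => z = q)).card = 1 := by
        rw [Finset.filter_eq' O q, if_pos hqO, card_singleton]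
      have h2 : (O.filter (fun z => z ∈ W)).card = 29 := by omega
      have h3 : (O.filter (fun z => z ∈ W)) ⊆ W := fun z hz => (mem_filter.1 hz).2
      have h4 : (W \ O.filter (fun z => z ∈ W)).card = 1 := by
        rw [Finset.card_sdiff_of_subset h3, h2, cW]
      obtain ⟨r, hr⟩ := Finset.card_eq_one.1 h4
      have hr1 : r ∈ W \ O.filter (fun z => z ∈ W) := by
        rw [hr]
        exact mem_singleton_self r
      obtain ⟨hrW, hrn⟩ := mem_sdiff.1 hr1
      have hrO : r ∉ O := fun h => hrn (mem_filter.2 ⟨h, hrW⟩)
      refine ⟨r, hsingle r ?_⟩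
      have hd := hdisj hrO
      have a1 : ((orbF L r).filter (fun z => z = p)).card = 0 := by
        rw [Finset.card_eq_zero, Finset.filter_eq_empty_iff]
        rintro z hz rfl
        exact hd z hz hpO
      have a2 : ((orbF L r).filter (fun z => z = q)).card = 0 := by
        rw [Finset.card_eq_zero, Finset.filter_eq_empty_iff]
        rintro z hz rfl
        exact hd z hz hqO
      have a3 : ((orbF L r).filter (fun z => z ∈ W)).card = 1 := by
        rw [Finset.card_eq_one]
        refine ⟨r, ?_⟩
        ext t
        simp only [mem_filter, mem_singleton]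
        constructor
        · rintro ⟨h5, h6⟩
          have h7 : t ∈ W \ O.filter (fun z => z ∈ W) :=
            mem_sdiff.2 ⟨h6, fun h8 => hd t h5 (mem_filter.1 h8).1⟩
          rw [hr] at h7
          exact mem_singleton.1 h7
        · rintro rfl
          exact ⟨self_mem_orbF L t, hrW⟩
      rw [a1, a2, a3]
    · -- the whole of W is in the orbit of p
      have h1 : (O.filter (fun z => z = q)).card = 0 := by
        rw [Finset.filter_eq' O q, if_neg hqO, card_empty]
      have h2 : (O.filter (fun z => z ∈ W)).card = 30 := by omega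
      have h3 : (O.filter (fun z => z ∈ W)) = W :=
        Finset.eq_of_subset_of_card_le (fun z hz => (mem_filter.1 hz).2) (by rw [h2, cW])
      refine ⟨q, hsingle q ?_⟩
      have hd := hdisj hqO
      have a1 : ((orbF L q).filter (fun z => z = p)).card = 0 := by
        rw [Finset.card_eq_zero, Finset.filter_eq_empty_iff]
        rintro z hz rfl
        exact hd z hz hpO
      have a2 : ((orbF L q).filter (fun z => z = q)).card = 1 := by
        rw [Finset.filter_eq' _ q, if_pos (self_mem_orbF L q), card_singleton]
      have a3 : ((orbF L q).filter (fun z => z ∈ W)).card = 0 := by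
        rw [Finset.card_eq_zero, Finset.filter_eq_empty_iff]
        intro z hz hzW
        rw [← h3] at hzW
        exact hd z hz (mem_filter.1 hzW).1
      rw [a1, a2, a3]
  rcases hAb O hOinv with a | a <;> rcases hBb O hOinv with b | b <;> rcases hCb O hOinv with c | c
  · -- no blocks: the orbit is a clique
    by_cases hfixed : O.card = 1
    · refine ⟨p, fun g hg => ?_⟩
      obtain ⟨t, ht⟩ := Finset.card_eq_one.1 hfixed
      have h6 : g • p ∈ O := smul_mem_orbF hg hpO
      have h5 := hpO
      rw [ht, mem_singleton] at h5 h6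
      rw [h6, h5]
    exfalso
    have hadjO : ∀ z ∈ O, z ≠ p → Adj p z := by
      intro z hz hzp
      by_contra hn
      by_cases hzq : z = q
      · exact hn (hzq ▸ hadj)
      · have hzW : Adj q z ∨ ¬ Adj q z := em _
        rcases hzW with h1 | h1
        · have : z ∈ O.filter (fun z => z ∈ B) := by
            simp only [mem_filter, B, mem_univ, true_and]
            exact ⟨hz, hn, h1, hzp⟩
          rw [Finset.card_eq_zero.1 b] at this
          simp at this
        · have : z ∈ O.filter (fun z => z ∈ C) := by
            simp only [mem_filter, C, mem_univ, true_and]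
            exact ⟨hz, hn, h1, hzp, hzq⟩
          rw [Finset.card_eq_zero.1 c] at this
          simp at this
    have hclique : ∀ s ∈ O, ∀ t ∈ O, s ≠ t → Adj s t := by
      intro s hs t ht hst
      obtain ⟨g, hg, rfl⟩ := mem_orbF.1 hs
      have h1 : g⁻¹ • t ∈ O := smul_mem_orbF (L.inv_mem hg) ht
      have h2 : g⁻¹ • t ≠ p := by
        intro e
        apply hst
        rw [← e, smul_inv_smul]
      have h3 := hadjO _ h1 h2
      have h4 := (hD.smul g p (g⁻¹ • t)).2 h3
      rwa [smul_inv_smul] at h4
    have hle5 := clique_le hD O hclique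
    -- a second point
    have hO2' : 1 < O.card := by
      have : 0 < O.card := Finset.card_pos.2 ⟨p, hpO⟩
      omega
    obtain ⟨z, hz, hzp⟩ := Finset.exists_mem_ne hO2' p
    -- orbit of z under the stabiliser of p in L
    let M : Subgroup K := L ⊓ stabilizer K p
    have h1 := card_eq_orbit_mul_inf' M z
    have h2 : (orbit M z).ncard ≤ 4 := by
      have h3 : orbF M z ⊆ O.erase p := by
        intro w hw
        obtain ⟨g, hg, rfl⟩ := mem_orbF.1 hw
        refine mem_erase.2 ⟨?_, smul_mem_orbF hg.1 hz⟩
        intro e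
        apply hzp
        have h4 : g • z = g • p := by rw [e, show g • p = p from hg.2]
        exact MulAction.injective g h4
      have h4 := Finset.card_le_card h3
      rw [Finset.card_erase_of_mem hpO] at h4
      have h5 : (orbit M z).ncard = (orbF M z).card := by
        rw [← Set.ncard_coe_finset]
        congr 1
        ext w
        simp [orbF]
      rw [h5]
      omega
    have h3 : Nat.card ↥(M ⊓ stabilizer K z) ≤ 29160 := by
      have h4 : Nat.card ↥(M ⊓ stabilizer K z) ≤ ps K p z := by
        have hfin : Finite ↥(stabilizer K p ⊓ stabilizer K z) := inferInstance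
        exact Nat.card_le_card_of_injective
          (fun x : ↥(M ⊓ stabilizer K z) => (⟨x.1, x.2.1.2, x.2.2⟩ : ↥(stabilizer K p ⊓ stabilizer K z)))
          (fun a b e => Subtype.ext (congrArg (fun y : ↥(stabilizer K p ⊓ stabilizer K z) => y.1) e))
      rw [hD.psA p z (hadjO z hz hzp)] at h4
      exact h4
    have h4 : Nat.card M * O.card = 3265920 := by
      rw [horbit]
      ring
    have h5 : Nat.card M ≤ 4 * 29160 := by
      rw [h1]
      exact Nat.mul_le_mul h2 h3
    have h6 : O.card ≤ 5 := hle5
    nlinarith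
  all_goals
    have hs := num112 ⟨O.card, by omega⟩ hOd (by
      simp only
      rw [a, b, c] at hsum
      omega)
    simp only at hs
    rw [a, b, c] at hsum
    exact final (by omega)

theorem adj_iff_ps {p q : Ω} : Adj p q ↔ ps K p q = 29160 := by
  constructor
  · exact hD.psA p q
  · intro h
    by_contra hn
    by_cases hpq : p = q
    · subst hpq
      unfold ps at h
      rw [inf_idem, hD.stab p] at h
      omega
    · rw [hD.psN p q hpq hn] at h
      omega

/-- Automorphisms permute the points. -/
theorem hatData [Finite K] : HatData K Ω := by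
  refine ⟨?_, ?_⟩
  · intro p q hne
    by_contra hn
    have hle : stabilizer K p ≤ stabilizer K q := by
      intro g hg
      by_contra hg'
      exact hn ⟨g, hg, hg'⟩
    have h1 : ps K p q = 3265920 := by
      unfold ps
      rw [inf_eq_left.2 hle]
      exact hD.stab p
    by_cases h : Adj p q
    · rw [hD.psA p q h] at h1
      omega
    · rw [hD.psN p q hne h] at h1
      omega
  · intro α p
    have hc : Nat.card ((stabilizer K p).map α.toMonoidHom) = 3265920 := by
      rw [← Nat.card_congr (Subgroup.equivMapOfInjective _ _ α.injective).toEquiv]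
      exact hD.stab p
    obtain ⟨q, hq⟩ := L_fix hD _ hc
    refine ⟨q, Subgroup.eq_of_le_of_card_ge (fun g hg => hq g hg) ?_⟩
    rw [hc, hD.stab q]

end

/-- Permutations preserving a relation. -/
def AutAdj {Ω : Type*} (Adj : Ω → Ω → Prop) : Subgroup (Equiv.Perm Ω) where
  carrier := {g | ∀ x y, Adj (g x) (g y) ↔ Adj x y}
  one_mem' := fun x y => Iff.rfl
  mul_mem' := by
    intro a b ha hb x y
    exact (ha (b x) (b y)).trans (hb x y)
  inv_mem' := by
    intro a ha x y
    have := ha (a⁻¹ x) (a⁻¹ y)
    rw [show a (a⁻¹ x) = x by simp, show a (a⁻¹ y) = y by simp] at this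
    exact this.symm

/-- The upper bound for the outer automorphism group. -/
theorem card_out_le_of_aut {Ω : Type*} [Fintype Ω] [DecidableEq Ω] {K : Type*} [Group K] [MulAction K Ω]
    {Adj : Ω → Ω → Prop} [DecidableRel Adj] (hD : Data K Adj) [FaithfulSMul K Ω] [Finite K] {n : ℕ}
    (hB : Nat.card (AutAdj Adj) ≤ n * Nat.card K) : Nat.card (Out K) ≤ n := by
  have hH := hatData hD
  apply card_out_le' hH (AutAdj Adj) _ hB
  intro α x y
  rw [adj_iff_ps hD, adj_iff_ps hD]
  unfold ps
  rw [hat_pair hH]

end Cfsg.Agent.Lib.OutMcL
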