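import Mathlib
import Cfsg.Agent.Lib.OutMcL

set_option autoImplicit false
set_option linter.unusedSectionVars false
set_option linter.unusedVariables false
set_option linter.style.haveILetI false
set_option linter.unusedSimpArgs false

/-!
# Subgroups of a group with the McLaughlin suborbits, and the extension to index 552

`no_big`: no subgroup of the group of `OutMcL.Data` has order divisible by 3⁶ 5³ 7 and not by 16.
`L_fix3`: in a group acting on 552 points in pairs, a subgroup of order 898128000 without subgroups
of order 449064000, 5103000, 2551500 fixes a point.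
`out_trivial`: the resulting triviality of the outer automorphism group.
-/

namespace Cfsg.Agent.Lib.OutCo3Abs

open Finset MulAction Cfsg Cfsg.Agent.Lib.OutHat Cfsg.Agent.Lib.OutHS Cfsg.Agent.Lib.OutMcL

section Orbits

variable {Ω : Type*} [Fintype Ω] [DecidableEq Ω] {K : Type*} [Group K] [MulAction K Ω]

/-- A set invariant under a subgroup with all orbits of length divisible by `d`. -/
theorem dvd_card_of_orbits (P : Subgroup K) (d : ℕ) (X : Finset Ω) (hX : ∀ g ∈ P, ∀ z ∈ X, g • z ∈ X)
    (hd : ∀ z ∈ X, d ∣ (orbF P z).card) : d ∣ X.card := by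
  classical
  induction X using Finset.strongInduction with
  | H X ih =>
    by_cases hne : X.Nonempty
    · obtain ⟨z, hz⟩ := hne
      have hsub : orbF P z ⊆ X := by
        intro w hw
        obtain ⟨g, hg, rfl⟩ := mem_orbF.1 hw
        exact hX g hg z hz
      have e : X.card = (X \ orbF P z).card + (orbF P z).card := by
        rw [Finset.card_sdiff_of_subset hsub]
        have := Finset.card_le_card hsub
        omega
      have h1 : d ∣ (X \ orbF P z).card := by
        apply ih (X \ orbF P z)
        · refine Finset.ssubset_iff_subset_ne.2 ⟨Finset.sdiff_subset, ?_⟩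
          intro e2
          have : z ∈ X \ orbF P z := by rw [e2]; exact hz
          exact (mem_sdiff.1 this).2 (self_mem_orbF P z)
        · intro g hg w hw
          obtain ⟨h2, h3⟩ := mem_sdiff.1 hw
          refine mem_sdiff.2 ⟨hX g hg w h2, ?_⟩
          intro h4
          apply h3
          have := smul_mem_orbF (P.inv_mem hg) h4
          rwa [inv_smul_smul] at this
        · intro w hw
          exact hd w (mem_sdiff.1 hw).1
      rw [e]
      exact dvd_add h1 (hd z hz)
    · rw [Finset.not_nonempty_iff_eq_empty.1 hne]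
      simp

/-- The orbit-stabiliser relation with the finite orbits. -/
theorem card_orbF_mul (P : Subgroup K) (z : Ω) : (orbF P z).card * Nat.card ↥(P ⊓ stabilizer K z) = Nat.card P := by
  have h1 := card_eq_orbit_mul_inf' P z
  have h2 : (orbit P z).ncard = (orbF P z).card := by
    rw [← Set.ncard_coe_finset]
    congr 1
    ext w
    simp [orbF]
  rw [h2] at h1
  exact h1.symm

/-- Orbits of a prime power group that are not points have length divisible by the prime. -/
theorem prime_dvd_orbit {P : Subgroup K} {p n : ℕ} (hp : p.Prime) (hP : Nat.card P = p ^ n) {z : Ω}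
    (hz : ¬ ∀ g ∈ P, g • z = z) : p ∣ (orbF P z).card := by
  have h1 : (orbF P z).card ∣ p ^ n := by
    rw [← hP]
    exact card_orbF_dvd P z
  obtain ⟨k, hk, e⟩ := (Nat.dvd_prime_pow hp).1 h1
  rw [e]
  cases k with
  | zero =>
    exfalso
    apply hz
    intro g hg
    have h2 : (orbF P z).card = 1 := by rw [e, pow_zero]
    obtain ⟨t, ht⟩ := Finset.card_eq_one.1 h2
    have h3 : g • z ∈ orbF P z := smul_mem_orbF hg (self_mem_orbF P z)
    have h4 : z ∈ orbF P z := self_mem_orbF P z
    rw [ht, mem_singleton] at h3 h4
    rw [h3, h4]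
  | succ k =>
    exact dvd_pow_self p (by omega)

end Orbits

section NoBig

variable {Ω : Type*} [Fintype Ω] [DecidableEq Ω] {K : Type*} [Group K] [MulAction K Ω]
  {Adj : Ω → Ω → Prop} [DecidableRel Adj]

theorem card_A (hD : Data K Adj) {t t' : Ω} (h : Adj t t') :
    (univ.filter (fun z => Adj t z ∧ ¬ Adj t' z ∧ z ≠ t')).card = 81 := by
  classical
  have h1 := Finset.card_filter_add_card_filter_not (s := univ.filter (fun z => Adj t z)) (fun z => Adj t' z)
  rw [hD.deg t] at h1
  have h2 : ((univ.filter (fun z => Adj t z)).filter (fun z => Adj t' z)).card = 30 := by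
    rw [← hD.lam t t' h]
    congr 1
    ext z
    simp
  have h3 : ((univ.filter (fun z => Adj t z)).filter (fun z => ¬ Adj t' z)) =
      insert t' (univ.filter (fun z => Adj t z ∧ ¬ Adj t' z ∧ z ≠ t')) := by
    ext z
    simp only [mem_filter, mem_univ, true_and, mem_insert]
    constructor
    · rintro ⟨a, b⟩
      by_cases hz : z = t'
      · exact Or.inl hz
      · exact Or.inr ⟨a, b, hz⟩
    · rintro (rfl | ⟨a, b, c⟩)
      · exact ⟨h, hD.irrefl _⟩
      · exact ⟨a, b⟩
  rw [h2, h3, Finset.card_insert_of_notMem (by simp)] at h1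
  omega

theorem numQ : ∀ n : Fin 113, n.1 ∣ 4480 → 7 ∣ n.1 → ¬ 16 ∣ n.1 → n.1 < 82 := by
  decide +kernel

theorem num175 : ∀ n : Fin 276, 0 < n.1 → 25 ∣ n.1 → 7 ∣ n.1 → n.1 = 175 := by
  decide +kernel

set_option maxHeartbeats 4000000 in
/-- There is no subgroup of order divisible by 3⁶ 5³ 7 and not by 16. -/
theorem no_big [Finite K] (hD : Data K Adj) (H : Subgroup K) (h3 : 729 ∣ Nat.card H) (h5 : 125 ∣ Nat.card H)
    (h7 : 7 ∣ Nat.card H) (h2 : ¬ 16 ∣ Nat.card H) : False := by
  classical
  have f3 : Fact (Nat.Prime 3) := ⟨by norm_num⟩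
  obtain ⟨H₀, hH₀⟩ := Sylow.exists_subgroup_card_pow_prime (G := H) 3 (n := 6) (by simpa using h3)
  let S : Subgroup K := H₀.map H.subtype
  have hSH : S ≤ H := by
    rintro _ ⟨h, _, rfl⟩
    exact h.2
  have hS : Nat.card S = 3 ^ 6 := by
    rw [← Nat.card_congr (Subgroup.equivMapOfInjective H₀ H.subtype H.subtype_injective).toEquiv, hH₀]
  have hS' : Nat.card S = 729 := by rw [hS]; norm_num
  let F : Finset Ω := univ.filter (fun z => ∀ g ∈ S, g • z = z)
  have hF : ∀ {z}, z ∈ F ↔ ∀ g ∈ S, g • z = z := by
    intro z
    simp [F]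
  have hinvF : ∀ g ∈ S, ∀ z, z ∈ F ↔ g • z ∈ F := by
    intro g hg z
    constructor
    · intro hz
      rw [hF.1 hz g hg]
      exact hz
    · intro hz
      have h1 : g⁻¹ • (g • z) = g • z := hF.1 hz g⁻¹ (S.inv_mem hg)
      rw [inv_smul_smul] at h1
      rw [h1]
      exact hz
  -- invariant sets and residues
  have hres : ∀ X : Finset Ω, (∀ g ∈ S, ∀ z ∈ X, g • z ∈ X) → (∀ z ∈ X, z ∉ F) → 3 ∣ X.card := by
    intro X hX hnf
    apply dvd_card_of_orbits S 3 X hX
    intro z hz
    exact prime_dvd_orbit (by norm_num) hS (fun h => hnf z hz (hF.2 h))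
  have hcF : F.card % 3 = 2 := by
    have h4 := hres (univ \ F) (by
      intro g hg z hz
      simp only [mem_sdiff, mem_univ, true_and] at hz ⊢
      intro h
      exact hz ((hinvF g hg z).2 h)) (by
      intro z hz
      exact (mem_sdiff.1 hz).2)
    rw [Finset.card_sdiff_of_subset (subset_univ _), Finset.card_univ, hD.card] at h4
    have h5 : F.card ≤ 275 := by
      rw [← hD.card, ← Finset.card_univ]
      exact card_le_card (subset_univ _)
    omega
  have hclique : ∀ {p q : Ω}, p ∈ F → q ∈ F → p ≠ q → Adj p q := by
    intro p q hp hq hne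
    by_contra hn
    have h4 : 729 ∣ ps K p q := by
      rw [← hS']
      exact Subgroup.card_dvd_of_le (fun g hg => ⟨hF.1 hp g hg, hF.1 hq g hg⟩)
    rw [hD.psN p q hne hn] at h4
    omega
  have hpair : ∀ t ∈ F, ∃ t' ∈ F, t' ≠ t := by
    intro t ht
    have : 1 < F.card := by omega
    exact Finset.exists_mem_ne this t
  -- the orbits of H through F
  have h7s : ∀ t ∈ F, 7 ∣ (orbF H t).card := by
    intro t ht
    let M : Subgroup K := H ⊓ stabilizer K t
    have hM := card_orbF_mul H t
    have hp7 : Nat.Prime 7 := by norm_num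
    by_contra hn
    have h7M : 7 ∣ Nat.card M := by
      rw [← hM] at h7
      exact (hp7.dvd_mul.1 h7).resolve_left hn
    obtain ⟨t', ht', hne⟩ := hpair t ht
    have hadj : Adj t t' := hclique ht ht' (Ne.symm hne)
    let Q := orbF M t'
    have hQ := card_orbF_mul M t'
    have hSM : S ≤ M := fun g hg => ⟨hSH hg, hF.1 ht g hg⟩
    have h729 : 729 ∣ Nat.card ↥(M ⊓ stabilizer K t') := by
      rw [← hS']
      exact Subgroup.card_dvd_of_le (fun g hg => ⟨hSM hg, hF.1 ht' g hg⟩)
    have hps : Nat.card ↥(M ⊓ stabilizer K t') ∣ 29160 := by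
      rw [← hD.psA t t' hadj]
      exact Subgroup.card_dvd_of_le (fun g hg => ⟨hg.1.2, hg.2⟩)
    have hQ7 : 7 ∣ Q.card := by
      rw [← hQ] at h7M
      refine (hp7.dvd_mul.1 h7M).resolve_right ?_
      intro h8
      have := dvd_trans h8 hps
      omega
    have hMd : Nat.card M ∣ 3265920 := by
      rw [← hD.stab t]
      exact Subgroup.card_dvd_of_le (fun g hg => hg.2)
    have hQ4480 : Q.card ∣ 4480 := by
      obtain ⟨m, hm⟩ := h729
      rw [hm] at hQ
      rw [← hQ] at hMd
      have : 729 * (Q.card * m) ∣ 729 * 4480 := by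
        have e : 729 * (Q.card * m) = Q.card * (729 * m) := by ring
        rw [e]
        norm_num
        exact hMd
      have h9 := Nat.dvd_of_mul_dvd_mul_left (by norm_num) this
      exact dvd_trans (dvd_mul_right _ _) h9
    have hQ16 : ¬ 16 ∣ Q.card := by
      intro h8
      apply h2
      have h9 : Q.card ∣ Nat.card M := by
        rw [← hQ]
        exact dvd_mul_right _ _
      have h10 : Nat.card M ∣ Nat.card H := Subgroup.card_dvd_of_le inf_le_left
      exact dvd_trans (dvd_trans h8 h9) h10
    have hQadj : ∀ z ∈ Q, Adj t z := by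
      intro z hz
      obtain ⟨g, hg, rfl⟩ := mem_orbF.1 hz
      have h8 := (hD.smul g t t').2 hadj
      have h9 : g • t = t := hg.2
      rwa [h9] at h8
    have hQle : Q.card ≤ 112 := by
      rw [← hD.deg t]
      apply card_le_card
      intro z hz
      simp only [mem_filter, mem_univ, true_and]
      exact hQadj z hz
    have hQlt := numQ ⟨Q.card, by omega⟩ hQ4480 hQ7 hQ16
    simp only at hQlt
    have hQpos : 0 < Q.card := Finset.card_pos.2 ⟨t', self_mem_orbF M t'⟩
    have hQ7' : 7 ≤ Q.card := Nat.le_of_dvd hQpos hQ7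
    -- the block
    let B : Finset Ω := univ.filter (fun z => Adj t z ∧ ¬ Adj t' z ∧ z ≠ t')
    have hB : B.card = 81 := card_A hD hadj
    have hempty : ∀ z ∈ Q, z ∉ B := by
      intro a haQ haB
      simp only [B, mem_filter, mem_univ, true_and] at haB
      obtain ⟨b1, b2, b3⟩ := haB
      have h8 : orbF S a ⊆ B := by
        intro w hw
        obtain ⟨g, hg, rfl⟩ := mem_orbF.1 hw
        simp only [B, mem_filter, mem_univ, true_and]
        refine ⟨?_, ?_, ?_⟩
        · have := (hD.smul g t a).2 b1
          rwa [hF.1 ht g hg] at this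
        · intro h9
          apply b2
          have := (hD.smul g t' a).1 (by rw [hF.1 ht' g hg]; exact h9)
          exact this
        · intro h9
          apply b3
          have h10 : g • a = g • t' := by rw [h9, hF.1 ht' g hg]
          exact MulAction.injective g h10
      have h9 : 81 ≤ (orbF S a).card := by
        have h10 := card_orbF_mul S a
        rw [hS'] at h10
        have h11 : Nat.card ↥(S ⊓ stabilizer K a) ∣ 729 := by
          rw [← hS']
          exact Subgroup.card_dvd_of_le inf_le_left
        have h12 : Nat.card ↥(S ⊓ stabilizer K a) ∣ 20160 := by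
          rw [← hD.psN t' a (Ne.symm b3) b2]
          exact Subgroup.card_dvd_of_le (fun g hg => ⟨hF.1 ht' g hg.1, hg.2⟩)
        have h13 : Nat.card ↥(S ⊓ stabilizer K a) ∣ 9 := by
          have := Nat.dvd_gcd h11 h12
          simpa using this
        have h14 := Nat.le_of_dvd (by norm_num) h13
        by_contra hlt
        have h15 : (orbF S a).card ≤ 80 := by omega
        have h16 := Nat.mul_le_mul h15 h14
        omega
      have h10 : orbF S a = B := Finset.eq_of_subset_of_card_le h8 (by rw [hB]; exact h9)
      have h11 : B ⊆ Q := by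
        rw [← h10]
        intro w hw
        obtain ⟨g, hg, rfl⟩ := mem_orbF.1 hw
        exact smul_mem_orbF (hSM hg) haQ
      have h12 : t' ∉ B := by
        simp [B]
      have h13 : insert t' B ⊆ Q := by
        intro w hw
        rcases mem_insert.1 hw with rfl | hw
        · exact self_mem_orbF M _
        · exact h11 hw
      have h14 := card_le_card h13
      rw [card_insert_of_notMem h12, hB] at h14
      omega
    -- the clique
    have hirr := hD.irrefl t
    have hQt' : ∀ z ∈ Q, z ≠ t' → Adj t' z := by
      intro z hz hzt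
      by_contra hn2
      exact hempty z hz (by
        simp only [B, mem_filter, mem_univ, true_and]
        exact ⟨hQadj z hz, hn2, hzt⟩)
    have hC := clique_le hD (insert t Q) (by
      intro a ha b hb hab
      rcases mem_insert.1 ha with rfl | ha
      · rcases mem_insert.1 hb with rfl | hb
        · exact absurd rfl hab
        · exact hQadj b hb
      · rcases mem_insert.1 hb with rfl | hb
        · exact hD.symm _ _ (hQadj a ha)
        · obtain ⟨g, hg, rfl⟩ := mem_orbF.1 ha
          have h8 : g⁻¹ • b ∈ Q := smul_mem_orbF (M.inv_mem hg) hb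
          have h9 : g⁻¹ • b ≠ t' := by
            intro e
            apply hab
            rw [← e, smul_inv_smul]
          have h10 := (hD.smul g t' (g⁻¹ • b)).2 (hQt' _ h8 h9)
          rwa [smul_inv_smul] at h10)
    have htQ : t ∉ Q := fun h => hirr (hQadj t h)
    rw [card_insert_of_notMem htQ] at hC
    omega
  have h175 : ∀ t ∈ F, (orbF H t).card = 175 := by
    intro t ht
    have hM := card_orbF_mul H t
    have hMd : Nat.card ↥(H ⊓ stabilizer K t) ∣ 3265920 := by
      rw [← hD.stab t]
      exact Subgroup.card_dvd_of_le (fun g hg => hg.2)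
    have h25 : 25 ∣ (orbF H t).card := by
      have h8 : 125 ∣ (orbF H t).card * 3265920 := by
        rw [← hM] at h5
        exact dvd_trans h5 (Nat.mul_dvd_mul_left _ hMd)
      have h9 : 25 ∣ (orbF H t).card * 653184 := by
        have e : (orbF H t).card * 3265920 = 5 * ((orbF H t).card * 653184) := by ring
        rw [e, show (125 : ℕ) = 5 * 25 by norm_num] at h8
        exact Nat.dvd_of_mul_dvd_mul_left (by norm_num) h8
      exact (Nat.Coprime.dvd_of_dvd_mul_right (by norm_num) h9)
    have hle : (orbF H t).card ≤ 275 := by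
      rw [← hD.card, ← Finset.card_univ]
      exact card_le_card (subset_univ _)
    exact num175 ⟨(orbF H t).card, Nat.lt_succ_of_le hle⟩ (Finset.card_pos.2 ⟨t, self_mem_orbF H t⟩) h25 (h7s t ht)
  have hone : 0 < F.card := by omega
  obtain ⟨p, hp⟩ := Finset.card_pos.1 hone
  have hOp := h175 p hp
  let O := orbF H p
  have hall : ∀ t ∈ F, t ∈ O := by
    intro t ht
    by_contra hn
    have hdisj : Disjoint (orbF H t) O := by
      rw [Finset.disjoint_left]
      intro w h8 h9
      apply hn
      have h10 := orbF_eq h8
      have h11 := orbF_eq h9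
      have h12 : orbF H t = O := h10.symm.trans h11
      rw [← h12]
      exact self_mem_orbF H t
    have h8 := Finset.card_union_of_disjoint hdisj
    have h9 : (orbF H t ∪ O).card ≤ 275 := by
      rw [← hD.card, ← Finset.card_univ]
      exact card_le_card (subset_univ _)
    rw [h8, h175 t ht] at h9
    have : O.card = 175 := hOp
    omega
  have h3R := hres (univ \ O) (by
    intro g hg z hz
    simp only [mem_sdiff, mem_univ, true_and] at hz ⊢
    intro h
    apply hz
    have := smul_mem_orbF (H.inv_mem (hSH hg)) h
    rwa [inv_smul_smul] at this) (by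
    intro z hz hzF
    exact (mem_sdiff.1 hz).2 (hall z hzF))
  rw [Finset.card_sdiff_of_subset (subset_univ _), Finset.card_univ, hD.card] at h3R
  have : O.card = 175 := hOp
  omega

end NoBig

section Pairs

variable {Ω : Type*} [Fintype Ω] [DecidableEq Ω] {G : Type*} [Group G] [MulAction G Ω]

/-- A group acting on 552 points in pairs. -/
structure Data3 (G : Type*) [Group G] [MulAction G Ω] (Φ : Ω → Ω) : Prop where
  card : Fintype.card Ω = 552
  inv : ∀ y : Ω, Φ (Φ y) = y
  ne : ∀ y : Ω, Φ y ≠ y
  comm : ∀ (g : G) (y : Ω), g • Φ y = Φ (g • y)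
  stab : ∀ y : Ω, Nat.card (stabilizer G y) = 898128000
  pstab : ∀ y z : Ω, z ≠ y → z ≠ Φ y → ps G y z = 3265920

theorem numB : ∀ s : Fin 553, s.1 ∣ 898128000 → s.1 % 25 = 1 → s.1 ≤ 276 → (s.1 % 11 = 0 ∨ s.1 % 11 = 1) →
    s.1 = 1 ∨ s.1 = 176 := by
  decide +kernel

theorem numA : ∀ s : Fin 553, s.1 ∣ 898128000 → s.1 % 25 = 2 → s.1 % 2 = 0 → (s.1 % 11 = 0 ∨ s.1 % 11 = 2) →
    s.1 = 2 ∨ s.1 = 352 := by
  decide +kernel

set_option maxHeartbeats 4000000 in
/-- The key property of subgroups of order 898128000. -/
theorem L_fix3 [Finite G] {Φ : Ω → Ω} (hD : Data3 G Φ) (L : Subgroup G) (hL : Nat.card L = 898128000)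
    (hno : ∀ H : Subgroup G, H ≤ L → Nat.card H ≠ 449064000 ∧ Nat.card H ≠ 5103000 ∧ Nat.card H ≠ 2551500) :
    ∃ y : Ω, ∀ g ∈ L, g • y = y := by
  classical
  have f5 : Fact (Nat.Prime 5) := ⟨by norm_num⟩
  have f11 : Fact (Nat.Prime 11) := ⟨by norm_num⟩
  have hfinL : Finite L := inferInstance
  obtain ⟨H₀, hH₀⟩ := Sylow.exists_subgroup_card_pow_prime (G := L) 5 (n := 3) (by rw [hL]; norm_num)
  let S : Subgroup G := H₀.map L.subtype
  have hSL : S ≤ L := by
    rintro _ ⟨h, _, rfl⟩
    exact h.2
  have hS : Nat.card S = 5 ^ 3 := by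
    rw [← Nat.card_congr (Subgroup.equivMapOfInjective H₀ L.subtype L.subtype_injective).toEquiv, hH₀]
  have hS' : Nat.card S = 125 := by rw [hS]; norm_num
  -- a fixed point of S
  have hy5 : ∃ y : Ω, ∀ g ∈ S, g • y = y := by
    by_contra hn
    have h1 : 5 ∣ (univ : Finset Ω).card := by
      apply dvd_card_of_orbits S 5 _ (fun _ _ _ _ => mem_univ _)
      intro z _
      exact prime_dvd_orbit (by norm_num) hS (fun h => hn ⟨z, h⟩)
    rw [Finset.card_univ, hD.card] at h1
    omega
  obtain ⟨y₅, hy₅⟩ := hy5
  have hΦ5 : ∀ g ∈ S, g • Φ y₅ = Φ y₅ := fun g hg => by rw [hD.comm, hy₅ g hg]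
  -- an element of order 11
  obtain ⟨x', hx'⟩ := exists_prime_orderOf_dvd_card' (G := L) 11 (by rw [hL]; norm_num)
  have hx : orderOf (x'.1 : G) = 11 := by rwa [Subgroup.orderOf_coe]
  have hxL := x'.2
  set x : G := x'.1 with hxd
  have hx11 : x ^ 11 = 1 := by rw [← hx]; exact pow_orderOf_eq_one x
  obtain ⟨y₁, hy₁⟩ : ∃ y : Ω, x • y = y := by
    have h := card_mod_fix (univ : Finset Ω) x 11 hx11 (fun z _ => mem_univ _)
    rw [Finset.card_univ, hD.card] at h
    by_contra hn
    have h0 : (univ.filter (fun z : Ω => x • z = z)).card = 0 := by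
      rw [Finset.card_eq_zero, Finset.filter_eq_empty_iff]
      intro z _ hz
      exact hn ⟨z, hz⟩
    rw [h0] at h
    exact absurd h (by decide)
  have hfix11 : ∀ z, x • z = z → z = y₁ ∨ z = Φ y₁ := by
    intro z hz
    by_contra hn
    push_neg at hn
    have h1 : orderOf x ∣ ps G y₁ z := Subgroup.orderOf_dvd_natCard _ (x := x) ⟨hy₁, hz⟩
    rw [hx, hD.pstab y₁ z hn.1 hn.2] at h1
    omega
  set O := orbF L y₅ with hOdef
  have hy5O : y₅ ∈ O := self_mem_orbF L y₅
  have hOinv : ∀ g ∈ L, ∀ z ∈ O, g • z ∈ O := fun _ hg _ hz => smul_mem_orbF hg hz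
  have hOd : O.card ∣ 898128000 := by
    rw [← hL]
    exact card_orbF_dvd L y₅
  have hcardO := card_orbF_mul L y₅
  rw [hL] at hcardO
  -- residue modulo 25
  have hX : ∀ X : Finset Ω, (∀ g ∈ S, ∀ z ∈ X, g • z ∈ X) → (∀ z ∈ X, z ≠ y₅ ∧ z ≠ Φ y₅) → 25 ∣ X.card := by
    intro X hX hne
    apply dvd_card_of_orbits S 25 X hX
    intro z hz
    have h1 := card_orbF_mul S z
    rw [hS'] at h1
    have h2 : Nat.card ↥(S ⊓ stabilizer G z) ∣ 125 := by
      rw [← hS']
      exact Subgroup.card_dvd_of_le inf_le_left
    have h3 : Nat.card ↥(S ⊓ stabilizer G z) ∣ 3265920 := by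
      rw [← hD.pstab y₅ z (hne z hz).1 (hne z hz).2]
      exact Subgroup.card_dvd_of_le (fun g hg => ⟨hy₅ g hg.1, hg.2⟩)
    have h4 : Nat.card ↥(S ⊓ stabilizer G z) ∣ 5 := by
      have := Nat.dvd_gcd h2 h3
      simpa using this
    rcases (Nat.dvd_prime (by norm_num)).1 h4 with h5 | h5
    · rw [h5] at h1
      omega
    · rw [h5] at h1
      omega
  have hOf : O.card ≡ (O.filter (fun z => x • z = z)).card [MOD 11] :=
    card_mod_fix O x 11 hx11 (fun z hz => hOinv x hxL z hz)
  have hOf' : O.card % 11 = (O.filter (fun z => x • z = z)).card % 11 := hOf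
  have hfsub : O.filter (fun z => x • z = z) ⊆ {y₁, Φ y₁} := by
    intro z hz
    have := hfix11 z (mem_filter.1 hz).2
    simpa using this
  have hy1ne : y₁ ≠ Φ y₁ := fun e => hD.ne y₁ e.symm
  have hΦmem : ∀ {z w : Ω}, w ∈ orbF L z → Φ w ∈ orbF L (Φ z) := by
    intro z w hw
    obtain ⟨g, hg, rfl⟩ := mem_orbF.1 hw
    rw [← hD.comm]
    exact smul_mem_orbF hg (self_mem_orbF L _)
  have hs : O.card = 1 ∨ O.card = 176 ∨ O.card = 2 ∨ O.card = 352 := by
    by_cases hcase : Φ y₅ ∈ O
    · -- the orbit is closed under the pairing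
      have hclosed : ∀ z ∈ O, Φ z ∈ O := by
        intro z hz
        have h1 := hΦmem hz
        rwa [orbF_eq hcase] at h1
      have hres25 : O.card % 25 = 2 := by
        have h1 : 25 ∣ (O.filter (fun z => z ≠ y₅ ∧ z ≠ Φ y₅)).card := by
          apply hX
          · intro g hg z hz
            obtain ⟨h2, h3, h4⟩ := mem_filter.1 hz
            refine mem_filter.2 ⟨hOinv g (hSL hg) z h2, ?_, ?_⟩
            · intro e
              apply h3
              have : g • z = g • y₅ := by rw [e, hy₅ g hg]
              exact MulAction.injective g this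
            · intro e
              apply h4
              have : g • z = g • Φ y₅ := by rw [e, hΦ5 g hg]
              exact MulAction.injective g this
          · intro z hz
            exact (mem_filter.1 hz).2
        have h2 := Finset.card_filter_add_card_filter_not (s := O) (fun z => z ≠ y₅ ∧ z ≠ Φ y₅)
        have h3 : (O.filter (fun z => ¬ (z ≠ y₅ ∧ z ≠ Φ y₅))) = {y₅, Φ y₅} := by
          ext z
          simp only [mem_filter, mem_insert, mem_singleton]
          constructor
          · rintro ⟨-, h4⟩
            by_contra h5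
            push_neg at h5
            exact h4 h5
          · rintro (rfl | rfl)
            · exact ⟨hy5O, by simp⟩
            · exact ⟨hcase, by simp⟩
        rw [h3, Finset.card_pair (fun e => hD.ne y₅ e.symm)] at h2
        omega
      have heven : O.card % 2 = 0 := by
        have h1 : ∑ z ∈ O, (1 : ZMod 2) = 0 := by
          apply Finset.sum_involution (fun z _ => Φ z)
          · intro a _
            decide
          · intro a _ _
            exact hD.ne a
          · intro a ha
            exact hclosed a ha
          · intro a _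
            exact hD.inv a
        rw [Finset.sum_const, nsmul_eq_mul, mul_one] at h1
        exact Nat.even_iff.1 ((ZMod.natCast_eq_zero_iff_even).1 h1)
      have hf : (O.card % 11 = 0 ∨ O.card % 11 = 2) := by
        by_cases h1 : y₁ ∈ O
        · have h2 : O.filter (fun z => x • z = z) = {y₁, Φ y₁} := by
            apply Finset.Subset.antisymm hfsub
            intro z hz
            simp only [mem_insert, mem_singleton] at hz
            rcases hz with rfl | rfl
            · exact mem_filter.2 ⟨h1, hy₁⟩
            · refine mem_filter.2 ⟨hclosed _ h1, ?_⟩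
              rw [hD.comm, hy₁]
          rw [h2, Finset.card_pair hy1ne] at hOf'
          omega
        · have h2 : O.filter (fun z => x • z = z) = ∅ := by
            rw [Finset.filter_eq_empty_iff]
            intro z hz hfix
            rcases hfix11 z hfix with rfl | rfl
            · exact h1 hz
            · have := hclosed _ hz
              rw [hD.inv] at this
              exact h1 this
          rw [h2, card_empty] at hOf'
          omega
      have hle : O.card ≤ 552 := by
        rw [← hD.card, ← Finset.card_univ]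
        exact card_le_card (subset_univ _)
      rcases numA ⟨O.card, Nat.lt_succ_of_le hle⟩ hOd hres25 heven hf with h | h
      · exact Or.inr (Or.inr (Or.inl h))
      · exact Or.inr (Or.inr (Or.inr h))
    · -- the orbit and its image are disjoint
      have hdisj : ∀ z ∈ O, Φ z ∉ O := by
        intro z hz h1
        apply hcase
        have h2 := hΦmem hz
        have h3 := orbF_eq h2
        have h4 := orbF_eq h1
        have h5 : orbF L (Φ y₅) = O := h3.symm.trans h4
        rw [← h5]
        exact self_mem_orbF L _
      have hres25 : O.card % 25 = 1 := by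
        have h1 : 25 ∣ (O.filter (fun z => z ≠ y₅)).card := by
          apply hX
          · intro g hg z hz
            obtain ⟨h2, h3⟩ := mem_filter.1 hz
            refine mem_filter.2 ⟨hOinv g (hSL hg) z h2, ?_⟩
            intro e
            apply h3
            have : g • z = g • y₅ := by rw [e, hy₅ g hg]
            exact MulAction.injective g this
          · intro z hz
            refine ⟨(mem_filter.1 hz).2, ?_⟩
            rintro rfl
            exact hcase (mem_filter.1 hz).1
        have h2 := Finset.card_filter_add_card_filter_not (s := O) (fun z => z ≠ y₅)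
        have h3 : (O.filter (fun z => ¬ (z ≠ y₅))) = {y₅} := by
          ext z
          simp only [mem_filter, mem_singleton, not_not]
          constructor
          · exact fun h => h.2
          · rintro rfl
            exact ⟨hy5O, rfl⟩
        rw [h3, card_singleton] at h2
        omega
      have hle2 : O.card ≤ 276 := by
        have h1 : Disjoint O (O.image Φ) := by
          rw [Finset.disjoint_left]
          intro z hz hz2
          obtain ⟨w, hw, rfl⟩ := mem_image.1 hz2
          exact hdisj w hw hz
        have h2 := Finset.card_union_of_disjoint h1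
        have hinj : Function.Injective Φ := fun a b e => by
          rw [← hD.inv a, e, hD.inv]
        rw [Finset.card_image_of_injective _ hinj] at h2
        have h3 : (O ∪ O.image Φ).card ≤ 552 := by
          rw [← hD.card, ← Finset.card_univ]
          exact card_le_card (subset_univ _)
        omega
      have hf : (O.card % 11 = 0 ∨ O.card % 11 = 1) := by
        have h1 : (O.filter (fun z => x • z = z)).card ≤ 1 := by
          rw [Finset.card_le_one]
          intro a ha b hb
          obtain ⟨ha1, ha2⟩ := mem_filter.1 ha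
          obtain ⟨hb1, hb2⟩ := mem_filter.1 hb
          rcases hfix11 a ha2 with rfl | rfl <;> rcases hfix11 b hb2 with rfl | rfl
          · rfl
          · exact absurd hb1 (hdisj _ ha1)
          · have := hdisj _ hb1
            exact absurd ha1 this
          · rfl
        have h2 : (O.filter (fun z => x • z = z)).card < 11 := by omega
        rw [Nat.mod_eq_of_lt h2] at hOf'
        omega
      rcases numB ⟨O.card, by omega⟩ hOd hres25 hle2 hf with h | h
      · exact Or.inl h
      · exact Or.inr (Or.inl h)
  have hno' := hno (L ⊓ stabilizer G y₅) inf_le_left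
  rcases hs with h | h | h | h
  · refine ⟨y₅, fun g hg => ?_⟩
    obtain ⟨t, ht⟩ := Finset.card_eq_one.1 h
    have h6 : g • y₅ ∈ O := smul_mem_orbF hg hy5O
    have h5 := hy5O
    rw [ht, mem_singleton] at h5 h6
    rw [h6, h5]
  · rw [h] at hcardO
    exact absurd (by omega) hno'.2.1
  · rw [h] at hcardO
    exact absurd (by omega) hno'.1
  · rw [h] at hcardO
    exact absurd (by omega) hno'.2.2

variable (G) in
/-- The abstract conclusion. -/
theorem out_trivial [Finite G] {Φ : Ω → Ω} (hD : Data3 G Φ) [IsSimpleGroup G] [IsPretransitive G Ω] (x₀ : Ω)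
    (hno : ∀ H : Subgroup G, H ≤ stabilizer G x₀ → Nat.card H ≠ 449064000 ∧ Nat.card H ≠ 5103000 ∧ Nat.card H ≠ 2551500)
    (haut : ∀ β : MulAut (stabilizer G x₀), ∃ c : G, ∀ n : stabilizer G x₀, ((β n : stabilizer G x₀) : G) = c * n.1 * c⁻¹)
    (hfix : ∀ y z : Ω, y ≠ x₀ → y ≠ Φ x₀ → stabilizer G x₀ ⊓ stabilizer G y ≤ stabilizer G z →
      z = x₀ ∨ z = Φ x₀ ∨ z = y ∨ z = Φ y) :
    Nat.card (Out G) = 1 := by
  classical
  -- stabilisers of paired points agree
  have hstabΦ : ∀ y : Ω, stabilizer G (Φ y) = stabilizer G y := by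
    intro y
    ext g
    constructor
    · intro hg
      have h1 : g • Φ y = Φ y := hg
      rw [hD.comm] at h1
      have h2 := congrArg Φ h1
      rw [hD.inv, hD.inv] at h2
      exact h2
    · intro hg
      have h1 : g • y = y := hg
      show g • Φ y = Φ y
      rw [hD.comm, h1]
  have hstab_eq : ∀ y z : Ω, stabilizer G y = stabilizer G z → z = y ∨ z = Φ y := by
    intro y z e
    by_contra hn
    push_neg at hn
    have h1 := hD.pstab y z hn.1 hn.2
    unfold ps at h1
    rw [← e, inf_idem, hD.stab y] at h1
    omega
  -- images of the stabiliser of x₀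
  have himg : ∀ α : MulAut G, ∃ y : Ω, (stabilizer G x₀).map α.toMonoidHom = stabilizer G y := by
    intro α
    have hc : Nat.card ((stabilizer G x₀).map α.toMonoidHom) = 898128000 := by
      rw [← Nat.card_congr (Subgroup.equivMapOfInjective _ _ α.injective).toEquiv]
      exact hD.stab x₀
    obtain ⟨y, hy⟩ := L_fix3 hD _ hc (by
      intro H hH
      have hH' : H.map α.symm.toMonoidHom ≤ stabilizer G x₀ := by
        rintro _ ⟨h, hh, rfl⟩
        obtain ⟨n, hn, e⟩ := hH hh
        have e2 : α.symm.toMonoidHom h = n := by
          rw [← e]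
          exact α.symm_apply_apply n
        rw [e2]
        exact hn
      have hcard : Nat.card (H.map α.symm.toMonoidHom) = Nat.card H :=
        (Nat.card_congr (Subgroup.equivMapOfInjective _ _ α.symm.injective).toEquiv).symm
      rw [← hcard]
      exact hno _ hH')
    refine ⟨y, Subgroup.eq_of_le_of_card_ge (fun g hg => hy g hg) ?_⟩
    rw [hc, hD.stab y]
  -- images of all the stabilisers
  have himg2 : ∀ (α : MulAut G) (y : Ω), ∃ y' : Ω, (stabilizer G y).map α.toMonoidHom = stabilizer G y' := by
    intro α y
    obtain ⟨y₀, hy₀⟩ := himg α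
    obtain ⟨g, hg⟩ := MulAction.exists_smul_eq G x₀ y
    refine ⟨α g • y₀, ?_⟩
    rw [← hg, stabilizer_smul_eq_stabilizer_map_conj, stabilizer_smul_eq_stabilizer_map_conj, ← hy₀,
      Subgroup.map_map, Subgroup.map_map]
    congr 1
    ext n
    simp
  -- rigidity
  have hrigid : ∀ α : MulAut G, (∀ n ∈ stabilizer G x₀, α n = n) → α = 1 := by
    intro α hα
    have hN : (stabilizer G x₀).map α.toMonoidHom = stabilizer G x₀ := by
      ext n
      constructor
      · rintro ⟨m, hm, rfl⟩
        show α m ∈ _
        rw [hα m hm]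
        exact hm
      · intro hn
        exact ⟨n, hn, hα n hn⟩
    have hall : ∀ y : Ω, (stabilizer G y).map α.toMonoidHom = stabilizer G y := by
      intro y
      by_cases h1 : y = x₀
      · rw [h1, hN]
      by_cases h2 : y = Φ x₀
      · rw [h2, hstabΦ, hN]
      obtain ⟨y', hy'⟩ := himg2 α y
      have h3 : stabilizer G x₀ ⊓ stabilizer G y ≤ stabilizer G y' := by
        intro g hg
        rw [← hy']
        exact ⟨g, hg.2, hα g hg.1⟩
      rw [hy']
      rcases hfix y y' h1 h2 h3 with e | e | e | e
      · exfalso
        rw [e, ← hN] at hy'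
        have h4 := Subgroup.map_injective α.injective hy'
        rcases hstab_eq _ _ h4 with e2 | e2
        · exact h1 e2.symm
        · exact h2 (by rw [e2, hD.inv])
      · exfalso
        rw [e, hstabΦ, ← hN] at hy'
        have h4 := Subgroup.map_injective α.injective hy'
        rcases hstab_eq _ _ h4 with e2 | e2
        · exact h1 e2.symm
        · exact h2 (by rw [e2, hD.inv])
      · rw [e]
      · rw [e, hstabΦ]
    -- the normal subgroup of elements preserving all the pairs
    let B : Subgroup G :=
      { carrier := {h | ∀ y : Ω, h • y = y ∨ h • y = Φ y}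
        one_mem' := fun y => Or.inl (one_smul _ _)
        mul_mem' := by
          intro a b ha hb y
          rw [mul_smul]
          rcases hb y with e | e
          · rw [e]
            exact ha y
          · rw [e, hD.comm]
            rcases ha y with e2 | e2
            · rw [e2]
              exact Or.inr rfl
            · rw [e2, hD.inv]
              exact Or.inl rfl
        inv_mem' := by
          intro a ha y
          rcases ha (a⁻¹ • y) with e | e
          · rw [smul_inv_smul] at e
            exact Or.inl e.symm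
          · rw [smul_inv_smul] at e
            have h9 := congrArg Φ e
            rw [hD.inv] at h9
            exact Or.inr h9.symm }
    have hBn : B.Normal := by
      constructor
      intro n hn g y
      show (g * n * g⁻¹) • y = y ∨ (g * n * g⁻¹) • y = Φ y
      rw [mul_smul, mul_smul]
      rcases hn (g⁻¹ • y) with e | e
      · rw [e, smul_inv_smul]
        exact Or.inl rfl
      · rw [e, hD.comm, smul_inv_smul]
        exact Or.inr rfl
    have hBbot : B = ⊥ := by
      rcases IsSimpleGroup.eq_bot_or_eq_top_of_normal B hBn with h | h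
      · exact h
      · exfalso
        -- a third point
        have h3 : ∃ y : Ω, y ≠ x₀ ∧ y ≠ Φ x₀ := by
          by_contra hn
          push_neg at hn
          have h4 : (univ : Finset Ω) ⊆ {x₀, Φ x₀} := by
            intro y _
            by_cases h5 : y = x₀
            · simp [h5]
            · simp [hn y h5]
          have h5 := card_le_card h4
          rw [Finset.card_univ, hD.card] at h5
          have h6 : ({x₀, Φ x₀} : Finset Ω).card ≤ 2 := Finset.card_le_two
          omega
        obtain ⟨y, hy1, hy2⟩ := h3
        obtain ⟨g, hg⟩ := MulAction.exists_smul_eq G x₀ y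
        have hgB : g ∈ B := by
          rw [h]
          trivial
        rcases hgB x₀ with e | e
        · rw [hg] at e
          exact hy1 e
        · rw [hg] at e
          exact hy2 e
    ext g
    have hmem : g⁻¹ * α g ∈ B := by
      intro y
      -- the element normalises the stabiliser of y
      have h1 := hall (g • y)
      have h2 := hall y
      have h3 : stabilizer G ((g⁻¹ * α g) • y) = stabilizer G y := by
        have e1 : stabilizer G (g • y) = (stabilizer G y).map (MulAut.conj g).toMonoidHom :=
          stabilizer_smul_eq_stabilizer_map_conj g y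
        have e2 : stabilizer G (α g • y) = (stabilizer G y).map (MulAut.conj (α g)).toMonoidHom :=
          stabilizer_smul_eq_stabilizer_map_conj (α g) y
        have e3 : stabilizer G (α g • y) = stabilizer G (g • y) := by
          rw [e2]
          conv_lhs => rw [← h2]
          rw [Subgroup.map_map]
          rw [← h1, e1, Subgroup.map_map]
          congr 1
          ext n
          simp
        have e4 : (g⁻¹ * α g) • y = g⁻¹ • (α g • y) := mul_smul _ _ _
        rw [e4, stabilizer_smul_eq_stabilizer_map_conj, e3, e1, Subgroup.map_map]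
        convert Subgroup.map_id (stabilizer G y) using 2
        ext n
        simp
        group
      rcases hstab_eq _ _ h3.symm with e | e
      · exact Or.inl e
      · exact Or.inr e
    rw [hBbot, Subgroup.mem_bot] at hmem
    rw [inv_mul_eq_one] at hmem
    exact hmem.symm
  -- the main step
  have hinn : ∀ α : MulAut G, α ∈ Inn G := by
    intro α
    obtain ⟨y₀, hy₀⟩ := himg α
    obtain ⟨g, hg⟩ := MulAction.exists_smul_eq G y₀ x₀
    let α₁ : MulAut G := MulAut.conj g * α
    have hα₁ : (stabilizer G x₀).map α₁.toMonoidHom = stabilizer G x₀ := by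
      have e1 : α₁.toMonoidHom = (MulAut.conj g).toMonoidHom.comp α.toMonoidHom := rfl
      rw [e1, ← Subgroup.map_map, hy₀, ← hg, stabilizer_smul_eq_stabilizer_map_conj]
    have hmem : ∀ n : stabilizer G x₀, α₁ n.1 ∈ stabilizer G x₀ := by
      intro n
      have h1 : α₁ n.1 ∈ (stabilizer G x₀).map α₁.toMonoidHom := ⟨n.1, n.2, rfl⟩
      rwa [hα₁] at h1
    have hmem' : ∀ n : stabilizer G x₀, α₁⁻¹ n.1 ∈ stabilizer G x₀ := by
      intro n
      have : n.1 ∈ (stabilizer G x₀).map α₁.toMonoidHom := by
        rw [hα₁]
        exact n.2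
      obtain ⟨m, hm, e⟩ := this
      have e2 : α₁⁻¹ n.1 = m := by
        rw [← e]
        exact α₁.symm_apply_apply m
      rw [e2]
      exact hm
    let β : MulAut (stabilizer G x₀) :=
      { toFun := fun n => ⟨α₁ n.1, hmem n⟩
        invFun := fun n => ⟨α₁⁻¹ n.1, hmem' n⟩
        left_inv := fun n => Subtype.ext (α₁.symm_apply_apply n.1)
        right_inv := fun n => Subtype.ext (α₁.apply_symm_apply n.1)
        map_mul' := fun a b => Subtype.ext (map_mul α₁ a.1 b.1) }
    obtain ⟨c, hc⟩ := haut β
    let α₂ : MulAut G := MulAut.conj c⁻¹ * α₁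
    have hα₂ : α₂ = 1 := by
      apply hrigid
      intro n hn
      have h1 := hc ⟨n, hn⟩
      have h2 : α₁ n = c * n * c⁻¹ := h1
      show (MulAut.conj c⁻¹) (α₁ n) = n
      rw [h2, MulAut.conj_apply]
      group
    have h3 : α = MulAut.conj (g⁻¹ * c) := by
      have h4 : MulAut.conj c⁻¹ * (MulAut.conj g * α) = 1 := hα₂
      rw [← mul_assoc] at h4
      have h5 := eq_inv_of_mul_eq_one_right h4
      rw [h5, ← map_mul, ← map_inv]
      simp
    rw [h3]
    exact ⟨_, rfl⟩
  rw [Nat.card_eq_one_iff_unique]
  refine ⟨⟨?_⟩, ⟨1⟩⟩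
  intro a b
  induction a using QuotientGroup.induction_on with
  | H a =>
    induction b using QuotientGroup.induction_on with
    | H b =>
      rw [(QuotientGroup.eq_one_iff a).2 (hinn a), (QuotientGroup.eq_one_iff b).2 (hinn b)]

end Pairs

end Cfsg.Agent.Lib.OutCo3Abs
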