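import Mathlib
import Cfsg.Agent.Lib.OutCo3Abs
import Cfsg.Agent.Lib.OrbitBound
import Cfsg.Agent.Lib.OutCo2Num

set_option autoImplicit false
set_option linter.unusedSectionVars false
set_option linter.unusedVariables false
set_option linter.style.haveILetI false
set_option linter.unusedSimpArgs false

/-!
# Automorphisms of a rank three group with subdegrees 1, 891, 1408

The image of a point stabiliser under an automorphism has at most three orbits (`OrbitBound`). An element of order
11 with a unique fixed point, an element of order 9 whose cube has at most five fixed points and the count of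
paths of length two then force an orbit of length one.
-/

namespace Cfsg.Agent.Lib.OutCo2Abs

open Finset MulAction Cfsg Cfsg.Agent.Lib.OutHat Cfsg.Agent.Lib.OutHS Cfsg.Agent.Lib.OutMcL
  Cfsg.Agent.Lib.OutCo3Abs Cfsg.Agent.Lib.OrbitBound

/-! ### Orbits of cyclic groups -/

section

variable {Ω : Type*} [Fintype Ω] [DecidableEq Ω] {K : Type*} [Group K] [MulAction K Ω]

/-- Counting modulo nine with an element of order dividing nine. -/
theorem card_mod_nine [Finite K] (X : Finset Ω) (z : K) (hz : z ^ 9 = 1) (hX : ∀ y ∈ X, z • y ∈ X) :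
    X.card ≡ (X.filter (fun y => z ^ 3 • y = y)).card [MOD 9] := by
  classical
  let P : Subgroup K := Subgroup.zpowers z
  let Y : Finset Ω := X.filter (fun y => ¬ z ^ 3 • y = y)
  have hpow : ∀ (n : ℕ), ∀ y ∈ X, z ^ n • y ∈ X := by
    intro n
    induction n with
    | zero =>
      intro y hy
      simpa using hy
    | succ n ih =>
      intro y hy
      rw [pow_succ, mul_smul]
      exact ih _ (hX y hy)
  have hmem : ∀ g ∈ P, ∃ n : ℕ, g = z ^ n := by
    intro g hg
    obtain ⟨n, hn⟩ := (mem_powers_iff_mem_zpowers.2 hg)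
    exact ⟨n, hn.symm⟩
  have hY : 9 ∣ Y.card := by
    apply dvd_card_of_orbits P 9 Y
    · intro g hg y hy
      obtain ⟨n, rfl⟩ := hmem g hg
      simp only [Y, mem_filter] at hy ⊢
      refine ⟨hpow n y hy.1, fun h => hy.2 ?_⟩
      have e : z ^ 3 • z ^ n • y = z ^ n • z ^ 3 • y := by
        rw [← mul_smul, ← mul_smul, ← pow_add, ← pow_add, add_comm]
      rw [e] at h
      exact MulAction.injective _ h
    · intro y hy
      have hy2 : ¬ z ^ 3 • y = y := (mem_filter.1 hy).2
      have hcP : Nat.card P ∣ 9 := by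
        rw [Nat.card_zpowers]
        exact orderOf_dvd_of_pow_eq_one hz
      have h1 : (orbF P y).card ∣ 9 := (card_orbF_dvd P y).trans hcP
      have h9 : (9 : ℕ) = 3 ^ 2 := by norm_num
      rw [h9] at h1 ⊢
      obtain ⟨k, hk, e⟩ := (Nat.dvd_prime_pow Nat.prime_three).1 h1
      have hk2 : k = 2 := by
        by_contra hk2
        apply hy2
        have hk1 : k ≤ 1 := by omega
        -- the stabiliser in the cyclic group has index at most three
        let S : Subgroup P := stabilizer P y
        have hidx : S.index = (orbF P y).card := by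
          rw [index_stabilizer, ← Set.ncard_coe_finset]
          congr 1
          ext w
          simp [orbF]
        haveI : S.Normal := inferInstance
        let ζ : P := ⟨z, Subgroup.mem_zpowers z⟩
        have h3 : ζ ^ S.index ∈ S := Subgroup.pow_index_mem S ζ
        have h4 : ζ ^ 3 ∈ S := by
          rw [hidx, e] at h3
          interval_cases k
          · have : ζ ∈ S := by simpa using h3
            exact S.pow_mem this 3
          · simpa using h3
        have h5 : (ζ ^ 3 : P) • y = y := h4
        exact h5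
      rw [hk2] at e
      rw [e]
  have e1 : X.card = (X.filter (fun y => z ^ 3 • y = y)).card + Y.card :=
    (Finset.card_filter_add_card_filter_not _).symm
  rw [e1]
  obtain ⟨t, ht⟩ := hY
  rw [ht]
  unfold Nat.ModEq
  omega

/-- Conjugating a `p`-element into a subgroup of full `p`-part. -/
theorem conj_into [Finite K] {p k a : ℕ} [Fact p.Prime] (g : K) (hg : g ^ (p ^ k) = 1) (L : Subgroup K)
    (hL : p ^ a ∣ Nat.card L) (hK : ¬ p ^ (a + 1) ∣ Nat.card K) : ∃ h : K, h * g * h⁻¹ ∈ L := by
  obtain ⟨H₀, hH₀⟩ := Sylow.exists_subgroup_card_pow_prime (G := L) p (n := a) hL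
  let S : Subgroup K := H₀.map L.subtype
  have hSL : S ≤ L := by
    rintro _ ⟨h, _, rfl⟩
    exact h.2
  have hS : Nat.card S = p ^ a := by
    rw [← Nat.card_congr (Subgroup.equivMapOfInjective H₀ L.subtype L.subtype_injective).toEquiv, hH₀]
  have hSp : IsPGroup p S := IsPGroup.of_card hS
  obtain ⟨Q', hQ'⟩ := hSp.exists_le_sylow
  obtain ⟨b, hb⟩ := IsPGroup.iff_card.1 Q'.isPGroup'
  have hab : a ≤ b := by
    have h1 : Nat.card S ∣ Nat.card Q' := Subgroup.card_dvd_of_le hQ'
    rw [hS, hb] at h1
    exact (Nat.pow_dvd_pow_iff_le_right (Fact.out : p.Prime).one_lt).1 h1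
  have hba : b ≤ a := by
    by_contra hlt
    apply hK
    have h1 : Nat.card Q' ∣ Nat.card K := Subgroup.card_subgroup_dvd_card _
    rw [hb] at h1
    exact (pow_dvd_pow p (by omega)).trans h1
  have hSQ : S = Q' := by
    apply Subgroup.eq_of_le_of_card_ge hQ'
    rw [hS, hb, hba.antisymm hab]
  have hP : IsPGroup p (Subgroup.zpowers g) := by
    rw [IsPGroup.iff_card, Nat.card_zpowers]
    obtain ⟨j, -, hj⟩ := (Nat.dvd_prime_pow Fact.out).1 (orderOf_dvd_of_pow_eq_one hg)
    exact ⟨j, hj⟩
  obtain ⟨Q, hQ⟩ := hP.exists_le_sylow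
  obtain ⟨c, hc⟩ := MulAction.exists_smul_eq K Q Q'
  refine ⟨c, hSL ?_⟩
  have h1 : c * g * c⁻¹ ∈ (Q' : Subgroup K) := by
    rw [← hc, Sylow.coe_subgroup_smul]
    exact Subgroup.mem_map_of_mem _ (hQ (Subgroup.mem_zpowers g))
  rwa [← hSQ] at h1

/-- Fixed points of a conjugate. -/
theorem card_fix_conj' (h g : K) :
    (univ.filter (fun y : Ω => (h * g * h⁻¹) • y = y)).card = (univ.filter (fun y : Ω => g • y = y)).card := by
  symm
  apply Finset.card_equiv (MulAction.toPerm h)
  intro y
  simp only [mem_filter, mem_univ, true_and, MulAction.toPerm_apply, mul_smul, inv_smul_smul]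
  constructor
  · intro e
    rw [e]
  · intro e
    exact MulAction.injective h e

end

/-! ### The main argument -/

section

variable {Ω : Type*} [Fintype Ω] [DecidableEq Ω] {K : Type*} [Group K] [MulAction K Ω]

/-- The data of the action. -/
structure Data2 (K : Type*) [Group K] [MulAction K Ω] (Adj : Ω → Ω → Prop) [DecidableRel Adj] : Prop where
  card : Fintype.card Ω = 2300
  symm : ∀ x y : Ω, Adj x y → Adj y x
  irrefl : ∀ x : Ω, ¬ Adj x x
  smul : ∀ (g : K) (x y : Ω), Adj (g • x) (g • y) ↔ Adj x y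
  deg : ∀ x : Ω, (univ.filter (fun z => Adj x z)).card = 1408
  lam : ∀ x y : Ω, Adj x y → (univ.filter (fun z => Adj x z ∧ Adj y z)).card = 840
  mu : ∀ x y : Ω, x ≠ y → ¬ Adj x y → (univ.filter (fun z => Adj x z ∧ Adj y z)).card = 896
  trans : ∀ x y : Ω, ∃ g : K, g • x = y
  rankA : ∀ x y z : Ω, Adj x y → Adj x z → ∃ g : K, g • x = x ∧ g • y = z
  rankN : ∀ x y z : Ω, x ≠ y → ¬ Adj x y → x ≠ z → ¬ Adj x z → ∃ g : K, g • x = x ∧ g • y = z
  stab : ∀ x : Ω, Nat.card (stabilizer K x) = 18393661440
  x11 : ∃ g : K, g ^ 11 = 1 ∧ (univ.filter (fun y : Ω => g • y = y)).card ≤ 1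
  z9 : ∃ z : K, z ^ 9 = 1 ∧ (univ.filter (fun y : Ω => z ^ 3 • y = y)).card ≤ 5

variable {Adj : Ω → Ω → Prop} [DecidableRel Adj] (hD : Data2 K Adj)

include hD

theorem card_K [Finite K] : Nat.card K = 42305421312000 := by
  have hne : Nonempty Ω := by
    rw [← Fintype.card_pos_iff, hD.card]
    norm_num
  obtain ⟨x⟩ := hne
  have h1 := Subgroup.card_mul_index (stabilizer K x)
  have h2 : orbit K x = Set.univ := by
    ext y
    simp only [Set.mem_univ, iff_true]
    obtain ⟨k, hk⟩ := hD.trans x y
    exact ⟨k, hk⟩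
  rw [index_stabilizer, h2, Set.ncard_univ, Nat.card_eq_fintype_card (α := Ω), hD.card, hD.stab] at h1
  omega

/-- Neighbours and common neighbours. -/
theorem exists_adj (x : Ω) : ∃ y, Adj x y := by
  have h := hD.deg x
  have : (univ.filter (fun z => Adj x z)).Nonempty := by
    rw [← Finset.card_pos, h]
    norm_num
  obtain ⟨y, hy⟩ := this
  exact ⟨y, (mem_filter.1 hy).2⟩

theorem card_non (x : Ω) : (univ.filter (fun z => z ≠ x ∧ ¬ Adj x z)).card = 891 := by
  have h1 := Finset.card_filter_add_card_filter_not (s := (univ : Finset Ω)) (fun z => Adj x z)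
  rw [hD.deg x, Finset.card_univ, hD.card] at h1
  have h2 := Finset.card_filter_add_card_filter_not (s := univ.filter (fun z => ¬ Adj x z)) (fun z => z = x)
  have h3 : ((univ.filter (fun z => ¬ Adj x z)).filter (fun z => z = x)).card = 1 := by
    rw [Finset.card_eq_one]
    refine ⟨x, ?_⟩
    ext z
    simp only [mem_filter, mem_univ, true_and, mem_singleton]
    constructor
    · exact fun h => h.2
    · rintro rfl
      exact ⟨hD.irrefl _, rfl⟩
  have h4 : ((univ.filter (fun z => ¬ Adj x z)).filter (fun z => ¬ z = x)).card =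
      (univ.filter (fun z => z ≠ x ∧ ¬ Adj x z)).card := by
    congr 1
    ext z
    simp only [mem_filter, mem_univ, true_and, ne_eq]
    tauto
  omega

theorem exists_non (x : Ω) : ∃ y, x ≠ y ∧ ¬ Adj x y := by
  have : (univ.filter (fun z => z ≠ x ∧ ¬ Adj x z)).Nonempty := by
    rw [← Finset.card_pos, card_non hD]
    norm_num
  obtain ⟨y, hy⟩ := this
  have h := (mem_filter.1 hy).2
  exact ⟨y, h.1.symm, h.2⟩

theorem rank_le [Finite K] : Nat.card (orbitRel.Quotient K (Ω × Ω)) ≤ 3 := by
  have hne : Nonempty Ω := by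
    rw [← Fintype.card_pos_iff, hD.card]
    norm_num
  obtain ⟨p⟩ := hne
  obtain ⟨a, ha⟩ := exists_adj hD p
  obtain ⟨b, hb1, hb2⟩ := exists_non hD p
  let φ : Fin 3 → orbitRel.Quotient K (Ω × Ω) :=
    ![Quotient.mk'' (p, p), Quotient.mk'' (p, a), Quotient.mk'' (p, b)]
  have hφ : Function.Surjective φ := by
    intro q
    induction q using Quotient.inductionOn with | _ w => ?_
    obtain ⟨x, y⟩ := w
    obtain ⟨g, hg⟩ := hD.trans x p
    have hsymm : ∀ c : Ω, ∀ h : K, h • (x, y) = (p, c) → (Quotient.mk'' (x, y) : orbitRel.Quotient K (Ω × Ω)) = Quotient.mk'' (p, c) := by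
      intro c h e
      apply Quotient.sound
      exact ⟨h⁻¹, by
        show h⁻¹ • (p, c) = (x, y)
        rw [← e, inv_smul_smul]⟩
    by_cases h1 : g • y = p
    · refine ⟨0, ?_⟩
      symm
      apply hsymm p g
      exact Prod.ext hg h1
    · by_cases h2 : Adj p (g • y)
      · obtain ⟨h, hh1, hh2⟩ := hD.rankA p a (g • y) ha h2
        refine ⟨1, ?_⟩
        symm
        apply hsymm a (h⁻¹ * g)
        apply Prod.ext
        · show (h⁻¹ * g) • x = p
          rw [mul_smul, hg, inv_smul_eq_iff, hh1]
        · show (h⁻¹ * g) • y = a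
          rw [mul_smul, inv_smul_eq_iff, hh2]
      · obtain ⟨h, hh1, hh2⟩ := hD.rankN p b (g • y) hb1 hb2 (fun e => h1 e.symm) h2
        refine ⟨2, ?_⟩
        symm
        apply hsymm b (h⁻¹ * g)
        apply Prod.ext
        · show (h⁻¹ * g) • x = p
          rw [mul_smul, hg, inv_smul_eq_iff, hh1]
        · show (h⁻¹ * g) • y = b
          rw [mul_smul, inv_smul_eq_iff, hh2]
  have h1 := Nat.card_le_card_of_surjective φ hφ
  simpa using h1

set_option maxHeartbeats 4000000 in
/-- A subgroup of the order of a point stabiliser with at most three orbits, containing the two elements. -/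
theorem L_fix2 [Finite K] (L : Subgroup K) (hL : Nat.card L = 18393661440)
    (hr : Nat.card (orbitRel.Quotient L Ω) ≤ 3) (x : K) (hxL : x ∈ L) (hx : x ^ 11 = 1)
    (hxf : (univ.filter (fun y : Ω => x • y = y)).card ≤ 1) (z : K) (hzL : z ∈ L) (hz : z ^ 9 = 1)
    (hzf : (univ.filter (fun y : Ω => z ^ 3 • y = y)).card ≤ 5) : ∃ p : Ω, ∀ g ∈ L, g • p = p := by
  classical
  have f11 : Fact (Nat.Prime 11) := ⟨by norm_num⟩
  -- the fixed point of the element of order eleven
  have hy₀ : ∃ y₀ : Ω, x • y₀ = y₀ := by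
    have h := card_mod_fix (univ : Finset Ω) x 11 hx (fun z _ => mem_univ _)
    rw [Finset.card_univ, hD.card] at h
    by_contra hn
    have hn : ∀ z : Ω, x • z ≠ z := fun z hz => hn ⟨z, hz⟩
    have h0 : (univ.filter (fun z : Ω => x • z = z)).card = 0 := by
      rw [Finset.card_eq_zero, Finset.filter_eq_empty_iff]
      intro z _
      exact hn z
    rw [h0] at h
    exact absurd h (by decide)
  obtain ⟨y₀, hy₀⟩ := hy₀
  -- the labelling of the orbits
  haveI : Finite (orbitRel.Quotient L Ω) := inferInstance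
  letI : Fintype (orbitRel.Quotient L Ω) := Fintype.ofFinite _
  have hemb : Nonempty (orbitRel.Quotient L Ω ↪ Fin 3) := by
    apply Function.Embedding.nonempty_of_card_le
    rw [Fintype.card_fin, ← Nat.card_eq_fintype_card]
    exact hr
  obtain ⟨φ₁⟩ := hemb
  let mk : Ω → orbitRel.Quotient L Ω := fun y => Quotient.mk'' y
  let f : Ω → Fin 3 := fun y => Equiv.swap (φ₁ (mk y₀)) 0 (φ₁ (mk y))
  have hf0 : f y₀ = 0 := by
    show Equiv.swap (φ₁ (mk y₀)) 0 (φ₁ (mk y₀)) = 0
    simp
  have hf1 : ∀ g ∈ L, ∀ y, f (g • y) = f y := by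
    intro g hg y
    have : mk (g • y) = mk y := Quotient.sound ⟨⟨g, hg⟩, rfl⟩
    show Equiv.swap (φ₁ (mk y₀)) 0 (φ₁ (mk (g • y))) = _
    rw [this]
  have hf2 : ∀ y y', f y = f y' → ∃ g ∈ L, g • y = y' := by
    intro y y' e
    have e1 := φ₁.injective ((Equiv.swap (φ₁ (mk y₀)) 0).injective e)
    have e2 : (orbitRel L Ω).r y y' := Quotient.exact' e1
    obtain ⟨⟨g, hg⟩, e3⟩ := e2
    refine ⟨g⁻¹, L.inv_mem hg, ?_⟩
    rw [inv_smul_eq_iff]
    exact e3.symm
  let F : Fin 3 → Finset Ω := fun i => univ.filter (fun y => f y = i)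
  let s : Fin 3 → ℕ := fun i => (F i).card
  have hFinv : ∀ i, ∀ g ∈ L, ∀ y ∈ F i, g • y ∈ F i := by
    intro i g hg y hy
    simp only [F, mem_filter, mem_univ, true_and] at hy ⊢
    rw [hf1 g hg, hy]
  -- total
  have hsum : s 0 + s 1 + s 2 = 2300 := by
    have h := Finset.card_eq_sum_card_fiberwise (f := f) (s := (univ : Finset Ω)) (t := univ) (fun _ _ => mem_univ _)
    rw [Finset.card_univ, hD.card, Fin.sum_univ_three] at h
    exact h.symm
  -- orbit lengths divide
  have hdvd : ∀ i, s i = 0 ∨ s i ∣ Nn := by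
    intro i
    by_cases hne : (F i).Nonempty
    · right
      obtain ⟨y, hy⟩ := hne
      have hy' : f y = i := (mem_filter.1 hy).2
      have e : F i = orbF L y := by
        ext w
        simp only [F, mem_filter, mem_univ, true_and]
        rw [mem_orbF]
        constructor
        · intro h
          exact hf2 y w (by rw [hy', h])
        · rintro ⟨g, hg, rfl⟩
          rw [hf1 g hg, hy']
      show (F i).card ∣ Nn
      rw [e]
      have := card_orbF_dvd L y
      rw [hL] at this
      exact this
    · left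
      show (F i).card = 0
      rw [Finset.not_nonempty_iff_eq_empty.1 hne]
      rfl
  -- modulo eleven
  have hmod11 : ∀ i, s i ≡ ((F i).filter (fun y => x • y = y)).card [MOD 11] :=
    fun i => card_mod_fix (F i) x 11 hx (fun y hy => hFinv i x hxL y hy)
  have hsumF : ∀ (P : Ω → Prop) [DecidablePred P], ∑ i, ((F i).filter P).card = (univ.filter P).card := by
    intro P _
    have h := Finset.card_eq_sum_card_fiberwise (f := f) (s := univ.filter P) (t := univ) (fun _ _ => mem_univ _)
    rw [h]
    apply Finset.sum_congr rfl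
    intro i _
    congr 1
    ext y
    simp only [F, mem_filter, mem_univ, true_and]
    tauto
  have h11 := hsumF (fun y => x • y = y)
  rw [Fin.sum_univ_three] at h11
  have hy0F : ((F 0).filter (fun y => x • y = y)).card ≠ 0 := by
    rw [Finset.card_ne_zero]
    exact ⟨y₀, mem_filter.2 ⟨mem_filter.2 ⟨mem_univ _, hf0⟩, hy₀⟩⟩
  have m0 : s 0 % 11 = 1 := by
    have := hmod11 0
    unfold Nat.ModEq at this
    rw [this]
    omega
  have m1 : s 1 % 11 = 0 := by
    have := hmod11 1
    unfold Nat.ModEq at this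
    rw [this]
    omega
  have m2 : s 2 % 11 = 0 := by
    have := hmod11 2
    unfold Nat.ModEq at this
    rw [this]
    omega
  -- modulo nine
  have hmod9 : ∀ i, s i % 9 ≤ ((F i).filter (fun y => z ^ 3 • y = y)).card := by
    intro i
    have h := card_mod_nine (F i) z hz (fun y hy => hFinv i z hzL y hy)
    unfold Nat.ModEq at h
    show (F i).card % 9 ≤ _
    rw [h]
    exact Nat.mod_le _ _
  have h9 := hsumF (fun y => z ^ 3 • y = y)
  rw [Fin.sum_univ_three] at h9
  have m9 : s 0 % 9 + s 1 % 9 + s 2 % 9 ≤ 5 := by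
    have a0 := hmod9 0
    have a1 := hmod9 1
    have a2 := hmod9 2
    omega
  -- numbers of neighbours
  let n : Ω → Fin 3 → ℕ := fun y j => (univ.filter (fun w => Adj y w ∧ f w = j)).card
  have hn : ∀ y y' j, f y = f y' → n y j = n y' j := by
    intro y y' j e
    obtain ⟨g, hg, rfl⟩ := hf2 y y' e
    apply Finset.card_equiv (MulAction.toPerm g)
    intro w
    simp only [mem_filter, mem_univ, true_and, MulAction.toPerm_apply, hD.smul, hf1 g hg]
  let a : Fin 3 → ℕ := fun j => n y₀ j
  have ha : a 0 + a 1 + a 2 = 1408 := by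
    have h := Finset.card_eq_sum_card_fiberwise (f := f) (s := univ.filter (fun w => Adj y₀ w)) (t := univ)
      (fun _ _ => mem_univ _)
    rw [hD.deg, Fin.sum_univ_three] at h
    have e : ∀ j, ((univ.filter (fun w => Adj y₀ w)).filter (fun w => f w = j)).card = a j := by
      intro j
      show _ = (univ.filter (fun w => Adj y₀ w ∧ f w = j)).card
      congr 1
      ext w
      simp only [mem_filter, mem_univ, true_and]
    rw [e, e, e] at h
    exact h.symm
  have hale : ∀ j, a j ≤ s j := by
    intro j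
    apply Finset.card_le_card
    intro w hw
    simp only [mem_filter, mem_univ, true_and, F] at hw ⊢
    exact hw.2
  -- the numbers towards the first orbit
  have hc : ∀ k : Fin 3, ∃ c : ℕ, ∀ w, f w = k → n w 0 = c := by
    intro k
    by_cases he : ∃ w, f w = k
    · obtain ⟨w₁, hw₁⟩ := he
      exact ⟨n w₁ 0, fun w hw => hn w w₁ 0 (by rw [hw, hw₁])⟩
    · exact ⟨0, fun w hw => absurd ⟨w, hw⟩ he⟩
  choose c hc using hc
  have hc0 : c 0 = a 0 := (hc 0 y₀ hf0).symm
  -- double counting
  have hdouble : ∀ k, s k * c k = s 0 * a k := by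
    intro k
    have h1 : ∑ w ∈ F k, n w 0 = s k * c k := by
      rw [Finset.sum_congr rfl (fun w hw => hc k w (mem_filter.1 hw).2), Finset.sum_const, smul_eq_mul]
    have h2 : ∑ w ∈ F 0, n w k = s 0 * a k := by
      rw [Finset.sum_congr rfl (fun w hw => hn w y₀ k (by rw [(mem_filter.1 hw).2, hf0])), Finset.sum_const, smul_eq_mul]
    rw [← h1, ← h2]
    have h3 : ∀ (A B : Fin 3), ∑ w ∈ F A, n w B = ∑ w ∈ F A, ∑ u ∈ F B, if Adj w u then 1 else 0 := by
      intro A B
      apply Finset.sum_congr rfl
      intro w _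
      show (univ.filter (fun u => Adj w u ∧ f u = B)).card = _
      rw [← Finset.card_filter]
      congr 1
      ext u
      simp only [mem_filter, mem_univ, true_and, F]
      tauto
    rw [h3, h3, Finset.sum_comm]
    apply Finset.sum_congr rfl
    intro w _
    apply Finset.sum_congr rfl
    intro u _
    by_cases h : Adj u w
    · rw [if_pos h, if_pos (hD.symm _ _ h)]
    · rw [if_neg h, if_neg (fun h' => h (hD.symm _ _ h'))]
  -- paths of length two
  have hpath : a 0 * a 0 + a 1 * c 1 + a 2 * c 2 + 56 * a 0 = 512 + 896 * s 0 := by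
    -- first count: by the middle point
    have p1 : ∑ u ∈ univ.filter (fun u => Adj y₀ u), n u 0 = a 0 * a 0 + a 1 * c 1 + a 2 * c 2 := by
      rw [← Finset.sum_fiberwise_of_maps_to (t := (univ : Finset (Fin 3))) (g := f) (fun _ _ => mem_univ _),
        Fin.sum_univ_three]
      have e : ∀ k : Fin 3, ∑ u ∈ (univ.filter (fun u => Adj y₀ u)).filter (fun u => f u = k), n u 0 = a k * c k := by
        intro k
        rw [Finset.sum_congr rfl (fun u hu => hc k u (mem_filter.1 hu).2), Finset.sum_const, smul_eq_mul]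
        congr 1
        show _ = (univ.filter (fun w => Adj y₀ w ∧ f w = k)).card
        congr 1
        ext w
        simp only [mem_filter, mem_univ, true_and]
      rw [e, e, e, hc0]
    -- second count: by the end point
    have p2 : ∑ u ∈ univ.filter (fun u => Adj y₀ u), n u 0 =
        ∑ w ∈ F 0, (univ.filter (fun u => Adj y₀ u ∧ Adj w u)).card := by
      have e1 : ∀ u, n u 0 = ∑ w ∈ F 0, if Adj w u then 1 else 0 := by
        intro u
        show (univ.filter (fun w => Adj u w ∧ f w = 0)).card = _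
        rw [← Finset.card_filter]
        congr 1
        ext w
        simp only [mem_filter, mem_univ, true_and, F]
        constructor
        · rintro ⟨h1, h2⟩
          exact ⟨h2, hD.symm _ _ h1⟩
        · rintro ⟨h1, h2⟩
          exact ⟨hD.symm _ _ h2, h1⟩
      simp only [e1]
      rw [Finset.sum_comm]
      apply Finset.sum_congr rfl
      intro w _
      rw [← Finset.card_filter]
      congr 1
      ext u
      simp only [mem_filter, mem_univ, true_and]
    -- split the end points
    have hy0 : y₀ ∈ F 0 := mem_filter.2 ⟨mem_univ _, hf0⟩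
    have p3 : ∑ w ∈ F 0, (univ.filter (fun u => Adj y₀ u ∧ Adj w u)).card = ∑ w ∈ F 0,
        ((if w = y₀ then 1408 else 0) + (if Adj y₀ w then 840 else 0) +
          (if w ≠ y₀ ∧ ¬ Adj y₀ w then 896 else 0)) := by
      apply Finset.sum_congr rfl
      intro w _
      by_cases h1 : w = y₀
      · subst h1
        have e : (univ.filter (fun u => Adj w u ∧ Adj w u)).card = 1408 := by
          rw [← hD.deg w]
          congr 1
          ext u
          simp
        rw [e]
        simp [hD.irrefl]
      · by_cases h2 : Adj y₀ w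
        · rw [hD.lam y₀ w h2]
          simp [h1, h2]
        · rw [hD.mu y₀ w (fun e => h1 e.symm) h2]
          simp [h1, h2]
    have p4 : ∑ w ∈ F 0, (if w = y₀ then 1408 else 0) = 1408 := by
      rw [Finset.sum_ite_eq' (F 0) y₀]
      simp [hy0]
    have hA : (F 0).filter (fun w => Adj y₀ w) = univ.filter (fun w => Adj y₀ w ∧ f w = 0) := by
      ext w
      simp only [mem_filter, mem_univ, true_and, F]
      tauto
    have p5 : ∑ w ∈ F 0, (if Adj y₀ w then 840 else 0) = 840 * a 0 := by
      rw [← Finset.sum_filter, Finset.sum_const, smul_eq_mul, mul_comm, hA]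
    have p6 : ∑ w ∈ F 0, (if w ≠ y₀ ∧ ¬ Adj y₀ w then 896 else 0) = 896 * (s 0 - 1 - a 0) := by
      rw [← Finset.sum_filter, Finset.sum_const, smul_eq_mul, mul_comm]
      congr 1
      have h1 := Finset.card_filter_add_card_filter_not (s := F 0) (fun w => Adj y₀ w)
      have h2 := Finset.card_filter_add_card_filter_not (s := (F 0).filter (fun w => ¬ Adj y₀ w)) (fun w => w = y₀)
      have h3 : (((F 0).filter (fun w => ¬ Adj y₀ w)).filter (fun w => w = y₀)).card = 1 := by
        rw [Finset.card_eq_one]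
        refine ⟨y₀, ?_⟩
        ext w
        simp only [mem_filter, mem_singleton]
        constructor
        · exact fun h => h.2
        · rintro rfl
          exact ⟨⟨hy0, hD.irrefl _⟩, rfl⟩
      have h4 : ((F 0).filter (fun w => ¬ Adj y₀ w)).filter (fun w => ¬ w = y₀) =
          (F 0).filter (fun w => w ≠ y₀ ∧ ¬ Adj y₀ w) := by
        ext w
        simp only [mem_filter, ne_eq]
        tauto
      rw [← h4]
      have h5 : ((F 0).filter (fun w => Adj y₀ w)).card = a 0 := by rw [hA]
      have h6 : (F 0).card = s 0 := rfl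
      omega
    have p7 : ∑ w ∈ F 0, (univ.filter (fun u => Adj y₀ u ∧ Adj w u)).card = 1408 + 840 * a 0 + 896 * (s 0 - 1 - a 0) := by
      rw [p3, Finset.sum_add_distrib, Finset.sum_add_distrib, p4, p5, p6]
    have hle : a 0 + 1 ≤ s 0 := by
      have h1 : insert y₀ (univ.filter (fun w => Adj y₀ w ∧ f w = 0)) ⊆ F 0 := by
        intro w hw
        rcases mem_insert.1 hw with rfl | hw
        · exact hy0
        · exact mem_filter.2 ⟨mem_univ _, (mem_filter.1 hw).2.2⟩
      have h2 := Finset.card_le_card h1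
      rw [Finset.card_insert_of_notMem (fun h => hD.irrefl _ (mem_filter.1 h).2.1)] at h2
      exact h2
    rw [p2, p7] at p1
    obtain ⟨t, ht⟩ : ∃ t, s 0 = a 0 + 1 + t := ⟨s 0 - a 0 - 1, by omega⟩
    rw [ht] at p1 ⊢
    have e : a 0 + 1 + t - 1 - a 0 = t := by omega
    rw [e] at p1
    nlinarith [p1]
  -- conclusion
  have hs1 : s 0 = 1 := by
    have h0 : s 0 ∣ Nn := by
      rcases hdvd 0 with h | h
      · rw [h] at m0
        norm_num at m0
      · exact h
    exact num_main (s 0) (s 1) (s 2) (a 0) (a 1) (a 2) (c 1) (c 2) hsum h0 (hdvd 1) (hdvd 2) m0 m1 m2 m9 ha (hale 1) (hale 2)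
      (hdouble 1) (hdouble 2) hpath
  refine ⟨y₀, fun g hg => ?_⟩
  have hy0 : y₀ ∈ F 0 := mem_filter.2 ⟨mem_univ _, hf0⟩
  obtain ⟨t, ht⟩ := Finset.card_eq_one.1 hs1
  have h1 : g • y₀ ∈ F 0 := hFinv 0 g hg y₀ hy0
  rw [ht, mem_singleton] at h1 hy0
  rw [h1, hy0]

/-- The image of a point stabiliser under an automorphism fixes a point. -/
theorem L_fix_image [Finite K] (α : MulAut K) (p : Ω) :
    ∃ q : Ω, ∀ g ∈ (stabilizer K p).map α.toMonoidHom, g • q = q := by
  have hc : Nat.card ((stabilizer K p).map α.toMonoidHom) = 18393661440 := by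
    rw [← Nat.card_congr (Subgroup.equivMapOfInjective _ _ α.injective).toEquiv]
    exact hD.stab p
  have hr := (card_orbits_map_le (K := K) (Ω := Ω) α p).trans (rank_le hD)
  obtain ⟨x0, hx0, hx0f⟩ := hD.x11
  obtain ⟨z0, hz0, hz0f⟩ := hD.z9
  have f11 : Fact (Nat.Prime 11) := ⟨by norm_num⟩
  have f3 : Fact (Nat.Prime 3) := ⟨by norm_num⟩
  obtain ⟨h, hh⟩ := conj_into (p := 11) (k := 1) (a := 1) x0 (by simpa using hx0) ((stabilizer K p).map α.toMonoidHom)
    (by rw [hc]; norm_num) (by rw [card_K hD]; norm_num)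
  obtain ⟨h', hh'⟩ := conj_into (p := 3) (k := 2) (a := 6) z0 (by simpa using hz0) ((stabilizer K p).map α.toMonoidHom)
    (by rw [hc]; norm_num) (by rw [card_K hD]; norm_num)
  refine L_fix2 hD _ hc hr (h * x0 * h⁻¹) hh ?_ ?_ (h' * z0 * h'⁻¹) hh' ?_ ?_
  · rw [conj_pow, hx0, mul_one, mul_inv_cancel]
  · rw [card_fix_conj']
    exact hx0f
  · rw [conj_pow, hz0, mul_one, mul_inv_cancel]
  · rw [conj_pow, card_fix_conj']
    exact hz0f

theorem ps_adj' [Finite K] {x y : Ω} (h : Adj x y) : ps K x y = 13063680 := by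
  have h1 := card_eq_orbit_mul_inf' (stabilizer K x) y
  have h2 : (orbit (stabilizer K x) y).ncard = 1408 := by
    rw [← hD.deg x, ← Set.ncard_coe_finset]
    congr 1
    ext w
    simp only [coe_filter, mem_univ, true_and, Set.mem_ofPred_eq]
    constructor
    · rintro ⟨⟨g, hg⟩, rfl⟩
      have e : g • x = x := hg
      show Adj x (g • y)
      rw [← hD.smul g] at h
      rwa [e] at h
    · intro hw
      obtain ⟨g, hg1, hg2⟩ := hD.rankA x y w h hw
      exact ⟨⟨g, hg1⟩, hg2⟩
  rw [hD.stab, h2] at h1
  unfold ps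
  omega

theorem ps_non' [Finite K] {x y : Ω} (hne : x ≠ y) (h : ¬ Adj x y) : ps K x y = 20643840 := by
  have h1 := card_eq_orbit_mul_inf' (stabilizer K x) y
  have h2 : (orbit (stabilizer K x) y).ncard = 891 := by
    rw [← card_non hD x, ← Set.ncard_coe_finset]
    congr 1
    ext w
    simp only [coe_filter, mem_univ, true_and, Set.mem_ofPred_eq]
    constructor
    · rintro ⟨⟨g, hg⟩, rfl⟩
      have e : g • x = x := hg
      constructor
      · intro e2
        apply hne
        have e3 : g • y = g • x := by rw [e]; exact e2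
        exact (MulAction.injective g e3).symm
      · show ¬ Adj x (g • y)
        intro h3
        apply h
        rw [← hD.smul g, e]
        exact h3
    · rintro ⟨hw1, hw2⟩
      obtain ⟨g, hg1, hg2⟩ := hD.rankN x y w hne h (fun e => hw1 e.symm) hw2
      exact ⟨⟨g, hg1⟩, hg2⟩
  rw [hD.stab, h2] at h1
  unfold ps
  omega

theorem adj_iff_ps' [Finite K] {p q : Ω} : Adj p q ↔ ps K p q = 13063680 := by
  constructor
  · exact ps_adj' hD
  · intro h
    by_contra hn
    by_cases hpq : p = q
    · subst hpq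
      unfold ps at h
      rw [inf_idem, hD.stab p] at h
      omega
    · rw [ps_non' hD hpq hn] at h
      omega

/-- Automorphisms permute the points. -/
theorem hatData2 [Finite K] : HatData K Ω := by
  refine ⟨?_, ?_⟩
  · intro p q hne
    by_contra hn
    have hle : stabilizer K p ≤ stabilizer K q := by
      intro g hg
      by_contra hg'
      exact hn ⟨g, hg, hg'⟩
    have h1 : ps K p q = 18393661440 := by
      unfold ps
      rw [inf_eq_left.2 hle]
      exact hD.stab p
    by_cases h : Adj p q
    · rw [ps_adj' hD h] at h1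
      omega
    · rw [ps_non' hD hne h] at h1
      omega
  · intro α p
    have hc : Nat.card ((stabilizer K p).map α.toMonoidHom) = 18393661440 := by
      rw [← Nat.card_congr (Subgroup.equivMapOfInjective _ _ α.injective).toEquiv]
      exact hD.stab p
    obtain ⟨q, hq⟩ := L_fix_image hD α p
    refine ⟨q, Subgroup.eq_of_le_of_card_ge (fun g hg => hq g hg) ?_⟩
    rw [hc, hD.stab q]

/-- The upper bound for the outer automorphism group. -/
theorem card_out_le_of_aut2 [FaithfulSMul K Ω] [Finite K] {n : ℕ}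
    (hB : Nat.card (AutAdj Adj) ≤ n * Nat.card K) : Nat.card (Out K) ≤ n := by
  have hH := hatData2 hD
  apply card_out_le' hH (AutAdj Adj) _ hB
  intro α x y
  rw [adj_iff_ps' hD, adj_iff_ps' hD]
  unfold ps
  rw [hat_pair hH]

end

end Cfsg.Agent.Lib.OutCo2Abs
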