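import Mathlib
import Cfsg.Agent.Lib.OutCo2Abs
import Cfsg.Agent.Lib.Co1Num

set_option autoImplicit false
set_option linter.unusedSectionVars false
set_option linter.unusedVariables false
set_option linter.style.haveILetI false
set_option linter.unusedSimpArgs false

/-!
# Orbits of a large subgroup on an association scheme with 98280 points

The counting argument: the orbits of a subgroup form a partition on which the relations of the scheme have constant
valencies; with the elements of orders 23 and 11 and the design property of the orbits, arithmetic leaves an orbit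
on which one of the relations does not occur.
-/

namespace Cfsg.Agent.Lib.Co1Abs

open Finset MulAction Cfsg Cfsg.Agent.Lib.OutHat Cfsg.Agent.Lib.OutHS Cfsg.Agent.Lib.OutMcL
  Cfsg.Agent.Lib.OutCo3Abs Cfsg.Agent.Lib.OutCo2Abs Cfsg.Agent.Lib.OrbitBound Cfsg.Agent.Lib.Co1Num

/-- the numbers of paths of length two -/
def pp (d : ℕ) : ℕ := if d = 32 then 4600 else if d = 16 then 892 else if d = 8 then 275 else 88

/-- Sorting three of four numbers. -/
theorem exists_sorted (s : Fin 4 → ℕ) : ∃ π : Equiv.Perm (Fin 4), π 0 = 0 ∧ s (π 1) ≤ s (π 2) ∧ s (π 2) ≤ s (π 3) := by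
  rcases le_total (s 1) (s 2) with h12 | h12 <;> rcases le_total (s 2) (s 3) with h23 | h23 <;>
    rcases le_total (s 1) (s 3) with h13 | h13
  · exact ⟨1, rfl, h12, h23⟩
  · exact ⟨1, rfl, h12, h23⟩
  · exact ⟨Equiv.swap 2 3, by decide, h13, h23⟩
  · exact ⟨(Equiv.swap 1 3) * (Equiv.swap 2 3), by decide, by simpa [Equiv.swap_apply_def] using h13, by simpa [Equiv.swap_apply_def] using h12⟩
  · exact ⟨Equiv.swap 1 2, by decide, by simpa [Equiv.swap_apply_def] using h12, by simpa [Equiv.swap_apply_def] using h13⟩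
  · exact ⟨(Equiv.swap 1 2) * (Equiv.swap 2 3), by decide, by simpa [Equiv.swap_apply_def] using h23, by simpa [Equiv.swap_apply_def] using h13⟩
  · exact ⟨Equiv.swap 1 3, by decide, by simpa [Equiv.swap_apply_def] using h23, by simpa [Equiv.swap_apply_def] using h12⟩
  · exact ⟨Equiv.swap 1 3, by decide, by simpa [Equiv.swap_apply_def] using h23, by simpa [Equiv.swap_apply_def] using h12⟩

/-- Cauchy's inequality for three numbers. -/
theorem cauchy3 (s1 s2 s3 c1 c2 c3 : ℕ) :
    (s1 * c1 + s2 * c2 + s3 * c3) ^ 2 ≤ (s1 + s2 + s3) * (s1 * c1 ^ 2 + s2 * c2 ^ 2 + s3 * c3 ^ 2) := by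
  have h : ((s1 * c1 + s2 * c2 + s3 * c3 : ℕ) : ℤ) ^ 2 ≤
      ((s1 + s2 + s3 : ℕ) : ℤ) * ((s1 * c1 ^ 2 + s2 * c2 ^ 2 + s3 * c3 ^ 2 : ℕ) : ℤ) := by
    push_cast
    have a1 : (0 : ℤ) ≤ s1 := by positivity
    have a2 : (0 : ℤ) ≤ s2 := by positivity
    have a3 : (0 : ℤ) ≤ s3 := by positivity
    have b1 := mul_nonneg (mul_nonneg a1 a2) (sq_nonneg ((c1 : ℤ) - c2))
    have b2 := mul_nonneg (mul_nonneg a1 a3) (sq_nonneg ((c1 : ℤ) - c3))
    have b3 := mul_nonneg (mul_nonneg a2 a3) (sq_nonneg ((c2 : ℤ) - c3))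
    nlinarith [b1, b2, b3]
  exact_mod_cast h

theorem hvar_aux (s0 a1 A W Z R : ℕ) (hA : s0 * a1 + A = 4600 * s0) (hW : W = 98280 - s0) (h1 : A ^ 2 ≤ W * Z)
    (h2 : 3 * (s0 * a1 ^ 2 + Z) = R) : 3 * (s0 * (4600 - a1)) ^ 2 + (98280 - s0) * (3 * s0 * a1 ^ 2) ≤ (98280 - s0) * R := by
  have e : s0 * (4600 - a1) = A := by
    rw [Nat.mul_sub]
    omega
  rw [e, ← hW, ← h2]
  nlinarith

variable {Ω : Type*} [Fintype Ω] [DecidableEq Ω] {K : Type*} [Group K] [MulAction K Ω]

/-- The data of the scheme. -/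
structure Sch1 (K : Type*) [Group K] [MulAction K Ω] (dd : Ω → Ω → ℕ) : Prop where
  card : Fintype.card Ω = 98280
  symm : ∀ x y, dd x y = dd y x
  smul : ∀ (g : K) x y, dd (g • x) (g • y) = dd x y
  self : ∀ x y, dd x y = 32 ↔ x = y
  vals : ∀ x y, dd x y = 32 ∨ dd x y = 16 ∨ dd x y = 8 ∨ dd x y = 0
  path : ∀ x w, (univ.filter (fun z => dd x z = 16 ∧ dd z w = 16)).card = pp (dd x w)

variable {dd : Ω → Ω → ℕ} (hD : Sch1 K dd)

include hD

theorem deg1 (x : Ω) : (univ.filter (fun z => dd x z = 16)).card = 4600 := by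
  have h := hD.path x x
  rw [(hD.self x x).2 rfl] at h
  have e : (univ.filter (fun z => dd x z = 16 ∧ dd z x = 16)) = univ.filter (fun z => dd x z = 16) := by
    ext z
    simp only [mem_filter, mem_univ, true_and, hD.symm z x]
    tauto
  rw [e] at h
  exact h

set_option maxHeartbeats 8000000 in
/-- The main counting theorem. -/
theorem cells_main [Finite K] (L : Subgroup K) (hL : Nat.card L = 42305421312000)
    (hr : Nat.card (orbitRel.Quotient L Ω) ≤ 4) (t u : K) (ht : t ∈ L) (hu : u ∈ L) (ht23 : t ^ 23 = 1)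
    (hu11 : u ^ 11 = 1) (y₀ : Ω) (hty : t • y₀ = y₀) (huy : u • y₀ = y₀) (htfix : ∀ y : Ω, t • y = y → y = y₀)
    (hfix0 : (univ.filter (fun y : Ω => u • y = y)).card ≤ 6)
    (hfix1 : (univ.filter (fun y : Ω => u • y = y ∧ dd y₀ y = 16)).card ≤ 2)
    (hfix2 : (univ.filter (fun y : Ω => u • y = y ∧ dd y₀ y = 8)).card ≤ 2)
    (hfix3 : (univ.filter (fun y : Ω => u • y = y ∧ dd y₀ y = 0)).card ≤ 1)
    (hT : ∀ P : Finset Ω, (∀ g ∈ L, ∀ x ∈ P, g • x ∈ P) →
      (∀ x, 3 * ((if x ∈ P then 16 else 0) + 4 * (P.filter (fun z => dd x z = 16)).card +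
        (P.filter (fun z => dd x z = 8)).card) = 2 * P.card) ∧ 6 ∣ P.card)
    (hno : ¬ ∀ g ∈ L, g • y₀ = y₀) :
    ∃ P : Finset Ω, (∀ g ∈ L, ∀ x ∈ P, g • x ∈ P) ∧ 1 < P.card ∧ ∀ x ∈ P, ∀ x' ∈ P, dd x x' ≠ 8 := by
  classical
  have f23 : Fact (Nat.Prime 23) := ⟨by norm_num⟩
  have f11 : Fact (Nat.Prime 11) := ⟨by norm_num⟩
  -- the labelling of the orbits
  haveI : Finite (orbitRel.Quotient L Ω) := inferInstance
  letI : Fintype (orbitRel.Quotient L Ω) := Fintype.ofFinite _
  have hemb : Nonempty (orbitRel.Quotient L Ω ↪ Fin 4) := by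
    apply Function.Embedding.nonempty_of_card_le
    rw [Fintype.card_fin, ← Nat.card_eq_fintype_card]
    exact hr
  obtain ⟨φ₁⟩ := hemb
  let mk : Ω → orbitRel.Quotient L Ω := fun y => Quotient.mk'' y
  let f₀ : Ω → Fin 4 := fun y => Equiv.swap (φ₁ (mk y₀)) 0 (φ₁ (mk y))
  obtain ⟨π, hπ0, hπ1, hπ2⟩ := exists_sorted (fun i => (univ.filter (fun y => f₀ y = i)).card)
  let f : Ω → Fin 4 := fun y => π⁻¹ (f₀ y)
  have hf0 : f y₀ = 0 := by
    show π⁻¹ (Equiv.swap (φ₁ (mk y₀)) 0 (φ₁ (mk y₀))) = 0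
    rw [Equiv.swap_apply_left, Equiv.Perm.inv_eq_iff_eq]
    exact hπ0.symm
  have hf1 : ∀ g ∈ L, ∀ y, f (g • y) = f y := by
    intro g hg y
    have : mk (g • y) = mk y := Quotient.sound ⟨⟨g, hg⟩, rfl⟩
    show π⁻¹ (Equiv.swap (φ₁ (mk y₀)) 0 (φ₁ (mk (g • y)))) = _
    rw [this]
  have hf2 : ∀ y y', f y = f y' → ∃ g ∈ L, g • y = y' := by
    intro y y' e
    have e1 := φ₁.injective ((Equiv.swap (φ₁ (mk y₀)) 0).injective (π⁻¹.injective e))
    have e2 : (orbitRel L Ω).r y y' := Quotient.exact' e1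
    obtain ⟨⟨g, hg⟩, e3⟩ := e2
    refine ⟨g⁻¹, L.inv_mem hg, ?_⟩
    rw [inv_smul_eq_iff]
    exact e3.symm
  let F : Fin 4 → Finset Ω := fun i => univ.filter (fun y => f y = i)
  let s : Fin 4 → ℕ := fun i => (F i).card
  have hFs : ∀ i, s i = (univ.filter (fun y => f₀ y = π i)).card := by
    intro i
    show (univ.filter (fun y => π⁻¹ (f₀ y) = i)).card = _
    congr 1
    ext y
    simp only [mem_filter, mem_univ, true_and, Equiv.Perm.inv_eq_iff_eq]
  have hs12 : s 1 ≤ s 2 := by
    rw [hFs, hFs]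
    exact hπ1
  have hs23 : s 2 ≤ s 3 := by
    rw [hFs, hFs]
    exact hπ2
  have hFinv : ∀ i, ∀ g ∈ L, ∀ y ∈ F i, g • y ∈ F i := by
    intro i g hg y hy
    simp only [F, mem_filter, mem_univ, true_and] at hy ⊢
    rw [hf1 g hg, hy]
  have hFmem : ∀ {i y}, y ∈ F i ↔ f y = i := by
    intro i y
    simp only [F, mem_filter, mem_univ, true_and]
  have hy0F : y₀ ∈ F 0 := hFmem.2 hf0
  -- total
  have hsum : s 0 + s 1 + s 2 + s 3 = 98280 := by
    have h := Finset.card_eq_sum_card_fiberwise (f := f) (s := (univ : Finset Ω)) (t := univ) (fun _ _ => mem_univ _)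
    rw [Finset.card_univ, hD.card, Fin.sum_univ_four] at h
    exact h.symm
  -- orbit lengths divide
  have horb : ∀ i, ∀ y, f y = i → F i = orbF L y := by
    intro i y hy'
    ext w
    simp only [F, mem_filter, mem_univ, true_and]
    rw [mem_orbF]
    constructor
    · intro h
      exact hf2 y w (by rw [hy', h])
    · rintro ⟨g, hg, rfl⟩
      rw [hf1 g hg, hy']
  have hdvd : ∀ i, s i = 0 ∨ s i ∣ 42305421312000 := by
    intro i
    by_cases hne : (F i).Nonempty
    · right
      obtain ⟨y, hy⟩ := hne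
      show (F i).card ∣ _
      rw [horb i y (hFmem.1 hy)]
      have := card_orbF_dvd L y
      rw [hL] at this
      exact this
    · left
      show (F i).card = 0
      rw [Finset.not_nonempty_iff_eq_empty.1 hne]
      rfl
  -- the design property
  have hT' := fun i => hT (F i) (hFinv i)
  -- the valencies
  let cc : Fin 4 → Ω → ℕ := fun j x => (univ.filter (fun z => dd x z = 16 ∧ f z = j)).card
  let c2 : Fin 4 → Ω → ℕ := fun j x => (univ.filter (fun z => dd x z = 8 ∧ f z = j)).card
  let c3 : Fin 4 → Ω → ℕ := fun j x => (univ.filter (fun z => dd x z = 0 ∧ f z = j)).card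
  have hcc : ∀ j x, ((F j).filter (fun z => dd x z = 16)).card = cc j x := by
    intro j x
    congr 1
    ext z
    simp only [F, mem_filter, mem_univ, true_and]
    tauto
  have hc2 : ∀ j x, ((F j).filter (fun z => dd x z = 8)).card = c2 j x := by
    intro j x
    congr 1
    ext z
    simp only [F, mem_filter, mem_univ, true_and]
    tauto
  have hTT : ∀ j x, 3 * ((if f x = j then 16 else 0) + 4 * cc j x + c2 j x) = 2 * s j := by
    intro j x
    have h := (hT' j).1 x
    rw [hcc, hc2] at h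
    simp only [hFmem] at h
    exact h
  have h6 : ∀ j, 6 ∣ s j := fun j => (hT' j).2
  -- partition of a cell according to the relation
  have hpart : ∀ j x, s j = (if f x = j then 1 else 0) + cc j x + c2 j x + c3 j x := by
    intro j x
    have h1 : (F j).filter (fun z => dd x z = 32) = if f x = j then {x} else ∅ := by
      ext z
      split_ifs with h
      · simp only [mem_filter, hFmem, hD.self, mem_singleton]
        constructor
        · rintro ⟨-, rfl⟩
          rfl
        · rintro rfl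
          exact ⟨h, rfl⟩
      · simp only [mem_filter, hFmem, hD.self, notMem_empty, iff_false, not_and]
        rintro h2 rfl
        exact h h2
    have h2 : ((F j).filter (fun z => dd x z = 32)).card = if f x = j then 1 else 0 := by
      rw [h1]
      split_ifs <;> simp
    have e : F j = ((F j).filter (fun z => dd x z = 32)) ∪ ((F j).filter (fun z => dd x z = 16)) ∪
        ((F j).filter (fun z => dd x z = 8)) ∪ ((F j).filter (fun z => dd x z = 0)) := by
      ext z
      simp only [mem_union, mem_filter]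
      have := hD.vals x z
      tauto
    have h3 : s j = (((F j).filter (fun z => dd x z = 32)) ∪ ((F j).filter (fun z => dd x z = 16)) ∪
        ((F j).filter (fun z => dd x z = 8)) ∪ ((F j).filter (fun z => dd x z = 0))).card := by
      show (F j).card = _
      rw [← e]
    rw [h3, Finset.card_union_of_disjoint, Finset.card_union_of_disjoint, Finset.card_union_of_disjoint, h2,
      hcc, hc2]
    · congr 1
      show _ = (univ.filter (fun z => dd x z = 0 ∧ f z = j)).card
      congr 1
      ext z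
      simp only [F, mem_filter, mem_univ, true_and]
      tauto
    · rw [Finset.disjoint_left]
      intro z h4 h5
      have a := (mem_filter.1 h4).2
      have b := (mem_filter.1 h5).2
      omega
    · rw [Finset.disjoint_left]
      intro z h4 h5
      have b := (mem_filter.1 h5).2
      rcases mem_union.1 h4 with h4 | h4 <;> have a := (mem_filter.1 h4).2 <;> omega
    · rw [Finset.disjoint_left]
      intro z h4 h5
      have b := (mem_filter.1 h5).2
      rcases mem_union.1 h4 with h4 | h4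
      · rcases mem_union.1 h4 with h4 | h4 <;> have a := (mem_filter.1 h4).2 <;> omega
      · have a := (mem_filter.1 h4).2
        omega
  -- invariance
  have hccinv : ∀ j, ∀ g ∈ L, ∀ x, cc j (g • x) = cc j x := by
    intro j g hg x
    symm
    apply Finset.card_equiv (MulAction.toPerm g)
    intro z
    simp only [mem_filter, mem_univ, true_and, MulAction.toPerm_apply, hD.smul, hf1 g hg]
  have hc2inv : ∀ j, ∀ g ∈ L, ∀ x, c2 j (g • x) = c2 j x := by
    intro j g hg x
    symm
    apply Finset.card_equiv (MulAction.toPerm g)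
    intro z
    simp only [mem_filter, mem_univ, true_and, MulAction.toPerm_apply, hD.smul, hf1 g hg]
  have hQ : ∀ i j : Fin 4, ∃ q : ℕ, ∀ x, f x = i → cc j x = q := by
    intro i j
    by_cases he : ∃ w, f w = i
    · obtain ⟨w₁, hw₁⟩ := he
      refine ⟨cc j w₁, fun x hx => ?_⟩
      obtain ⟨g, hg, rfl⟩ := hf2 w₁ x (by rw [hw₁, hx])
      exact hccinv j g hg w₁
    · exact ⟨0, fun w hw => absurd ⟨w, hw⟩ he⟩
  choose Q hQ using hQ
  -- sums over all points
  have hsumall : ∀ G : Ω → ℕ, ∑ x, G x = ∑ i, ∑ x ∈ F i, G x := by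
    intro G
    exact (Finset.sum_fiberwise_of_maps_to (t := (univ : Finset (Fin 4))) (g := f) (fun _ _ => mem_univ _) G).symm
  -- incidence as sums
  have hcc_sum : ∀ j x, cc j x = ∑ z ∈ F j, if dd x z = 16 then 1 else 0 := by
    intro j x
    rw [← Finset.card_filter, hcc]
  -- path counting
  have hpath : ∀ i w, ∑ x ∈ univ.filter (fun x => dd w x = 16), cc i x = 4600 * (if f w = i then 1 else 0) + 892 * cc i w + 275 * c2 i w + 88 * c3 i w := by
    intro i w
    have h1 : ∑ x ∈ univ.filter (fun x => dd w x = 16), cc i x = ∑ z ∈ F i, pp (dd w z) := by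
      simp only [hcc_sum]
      rw [Finset.sum_comm]
      apply Finset.sum_congr rfl
      intro z _
      rw [← hD.path w z, Finset.card_filter, Finset.sum_filter]
      apply Finset.sum_congr rfl
      intro x _
      by_cases h1 : dd w x = 16
      · simp only [h1, true_and, if_true, hD.symm x z]
      · simp only [h1, false_and, if_false]
    rw [h1]
    have e : ∀ z, pp (dd w z) = (if dd w z = 32 then 4600 else 0) + (if dd w z = 16 then 892 else 0) +
        (if dd w z = 8 then 275 else 0) + (if dd w z = 0 then 88 else 0) := by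
      intro z
      unfold pp
      rcases hD.vals w z with h | h | h | h <;> rw [h] <;> norm_num
    simp only [e, Finset.sum_add_distrib]
    have e0 : ∑ z ∈ F i, (if dd w z = 32 then 4600 else 0) = 4600 * (if f w = i then 1 else 0) := by
      simp only [hD.self]
      rw [Finset.sum_ite_eq (F i) w]
      by_cases h : f w = i
      · simp [h, hFmem]
      · simp [h, hFmem]
    have e1 : ∑ z ∈ F i, (if dd w z = 16 then 892 else 0) = 892 * cc i w := by
      rw [← Finset.sum_filter, Finset.sum_const, smul_eq_mul, hcc, mul_comm]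
    have e2 : ∑ z ∈ F i, (if dd w z = 8 then 275 else 0) = 275 * c2 i w := by
      rw [← Finset.sum_filter, Finset.sum_const, smul_eq_mul, hc2, mul_comm]
    have e3 : ∑ z ∈ F i, (if dd w z = 0 then 88 else 0) = 88 * c3 i w := by
      rw [← Finset.sum_filter, Finset.sum_const, smul_eq_mul, mul_comm]
      congr 2
      ext z
      simp only [F, mem_filter, mem_univ, true_and]
      tauto
    rw [e0, e1, e2, e3]
  have hpath3 : ∀ i w, 3 * ∑ x ∈ univ.filter (fun x => dd w x = 16), cc i x =
      4560 * (if f w = i then 1 else 0) + 168 * cc i w + 638 * s i := by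
    intro i w
    rw [hpath]
    have a := hTT i w
    have b := hpart i w
    by_cases h : f w = i
    · simp only [h, if_true] at a b ⊢
      omega
    · simp only [h, if_false] at a b ⊢
      omega
  -- the moment equations
  have hmom : ∀ i j, 3 * ∑ k, s k * (Q k i * Q k j) = s j * ((if i = j then 4560 else 0) + 168 * Q j i + 638 * s i) := by
    intro i j
    have h1 : ∑ x, cc i x * cc j x = ∑ k, s k * (Q k i * Q k j) := by
      rw [hsumall]
      apply Finset.sum_congr rfl
      intro k _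
      rw [Finset.sum_congr rfl (fun x hx => by rw [hQ k i x (hFmem.1 hx), hQ k j x (hFmem.1 hx)]), Finset.sum_const, smul_eq_mul]
    have h2 : ∑ x, cc i x * cc j x = ∑ w ∈ F j, ∑ x ∈ univ.filter (fun x => dd w x = 16), cc i x := by
      simp only [hcc_sum j]
      simp only [Finset.mul_sum]
      rw [Finset.sum_comm]
      apply Finset.sum_congr rfl
      intro w _
      rw [Finset.sum_filter]
      apply Finset.sum_congr rfl
      intro x _
      by_cases h3 : dd w x = 16
      · simp only [h3, if_true, hD.symm x w, mul_one]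
      · simp only [h3, if_false, hD.symm x w, mul_zero]
    rw [← h1, h2, Finset.mul_sum, Finset.sum_congr rfl (fun w hw => hpath3 i w)]
    have h3 : ∀ w ∈ F j, 4560 * (if f w = i then 1 else 0) + 168 * cc i w + 638 * s i =
        (if i = j then 4560 else 0) + 168 * Q j i + 638 * s i := by
      intro w hw
      have e := hFmem.1 hw
      rw [hQ j i w e, e]
      by_cases h : i = j
      · subst h
        simp
      · have : ¬ j = i := fun h' => h h'.symm
        simp [h, this]
    rw [Finset.sum_congr rfl h3, Finset.sum_const, smul_eq_mul]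
  -- the row sums
  have hrow : ∀ j, ∑ k, s k * Q k j = 4600 * s j := by
    intro j
    have h1 : ∑ x, cc j x = ∑ k, s k * Q k j := by
      rw [hsumall]
      apply Finset.sum_congr rfl
      intro k _
      rw [Finset.sum_congr rfl (fun x hx => hQ k j x (hFmem.1 hx)), Finset.sum_const, smul_eq_mul]
    have h2 : ∑ x, cc j x = ∑ z ∈ F j, 4600 := by
      simp only [hcc_sum j]
      rw [Finset.sum_comm]
      apply Finset.sum_congr rfl
      intro z _
      rw [← Finset.card_filter, ← deg1 hD z]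
      congr 1
      ext x
      simp only [mem_filter, mem_univ, true_and, hD.symm x z]
    rw [← h1, h2, Finset.sum_const, smul_eq_mul, mul_comm]
  -- double counting
  have hdouble : ∀ i j, s i * Q i j = s j * Q j i := by
    intro i j
    have h1 : ∀ (A B : Fin 4), s A * Q A B = ∑ w ∈ F A, ∑ z ∈ F B, if dd w z = 16 then 1 else 0 := by
      intro A B
      simp only [← hcc_sum]
      rw [Finset.sum_congr rfl (fun x hx => hQ A B x (hFmem.1 hx)), Finset.sum_const, smul_eq_mul]
    rw [h1, h1, Finset.sum_comm]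
    apply Finset.sum_congr rfl
    intro w _
    apply Finset.sum_congr rfl
    intro u _
    rw [hD.symm u w]
  -- the numbers at the point
  have hQ0 : ∀ j, cc j y₀ = Q 0 j := fun j => hQ 0 j y₀ hf0
  have hty' : ∀ z, dd y₀ (t • z) = dd y₀ z := by
    intro z
    have := hD.smul t y₀ z
    rwa [hty] at this
  have huy' : ∀ z, dd y₀ (u • z) = dd y₀ z := by
    intro z
    have := hD.smul u y₀ z
    rwa [huy] at this
  let A : Fin 4 → ℕ → Finset Ω := fun j d => univ.filter (fun z => dd y₀ z = d ∧ f z = j)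
  have hA23 : ∀ j d, d ≠ 32 → 23 ∣ (A j d).card := by
    intro j d hd
    have h := card_mod_fix (A j d) t 23 ht23 (by
      intro z hz
      simp only [A, mem_filter, mem_univ, true_and] at hz ⊢
      rw [hty', hf1 t ht]
      exact hz)
    have e : (A j d).filter (fun z => t • z = z) = ∅ := by
      apply Finset.filter_false_of_mem
      intro z hz hz'
      have h3 := htfix z hz'
      subst h3
      simp only [A, mem_filter, mem_univ, true_and] at hz
      rw [(hD.self z z).2 rfl] at hz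
      exact hd hz.1.symm
    rw [e, Finset.card_empty] at h
    exact (Nat.modEq_zero_iff_dvd).1 h
  have hA11 : ∀ j d, (A j d).card % 11 ≤ ((A j d).filter (fun z => u • z = z)).card := by
    intro j d
    have h := card_mod_fix (A j d) u 11 hu11 (by
      intro z hz
      simp only [A, mem_filter, mem_univ, true_and] at hz ⊢
      rw [huy', hf1 u hu]
      exact hz)
    have h' : (A j d).card % 11 = ((A j d).filter (fun z => u • z = z)).card % 11 := h
    rw [h']
    exact Nat.mod_le _ _
  have hF23 : ∀ j, j ≠ 0 → 23 ∣ s j := by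
    intro j hj
    have h := card_mod_fix (F j) t 23 ht23 (hFinv j t ht)
    have e : (F j).filter (fun z => t • z = z) = ∅ := by
      apply Finset.filter_false_of_mem
      intro z hz hz'
      have h3 := htfix z hz'
      subst h3
      exact hj ((hFmem.1 hz).symm.trans hf0)
    rw [e, Finset.card_empty] at h
    exact (Nat.modEq_zero_iff_dvd).1 h
  have hF11 : ∀ j, s j % 11 ≤ ((F j).filter (fun z => u • z = z)).card := by
    intro j
    have h := card_mod_fix (F j) u 11 hu11 (hFinv j u hu)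
    have h' : (F j).card % 11 = ((F j).filter (fun z => u • z = z)).card % 11 := h
    show (F j).card % 11 ≤ _
    rw [h']
    exact Nat.mod_le _ _
  -- sums of the fixed points
  have hfixsum : ∑ j, ((F j).filter (fun z => u • z = z)).card ≤ 6 := by
    have h := Finset.card_eq_sum_card_fiberwise (f := f) (s := univ.filter (fun y : Ω => u • y = y)) (t := univ) (fun _ _ => mem_univ _)
    refine le_trans (le_of_eq ?_) hfix0
    rw [h]
    apply Finset.sum_congr rfl
    intro j _
    congr 1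
    ext z
    simp only [F, mem_filter, mem_univ, true_and]
    tauto
  have hfixsum1 : ∑ j, ((A j 16).filter (fun z => u • z = z)).card ≤ 2 := by
    have h := Finset.card_eq_sum_card_fiberwise (f := f) (s := univ.filter (fun y : Ω => u • y = y ∧ dd y₀ y = 16)) (t := univ) (fun _ _ => mem_univ _)
    refine le_trans (le_of_eq ?_) hfix1
    rw [h]
    apply Finset.sum_congr rfl
    intro j _
    congr 1
    ext z
    simp only [A, mem_filter, mem_univ, true_and]
    tauto
  have hAcc : ∀ j, (A j 16).card = Q 0 j := hQ0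
  have hAsum : ∑ j, Q 0 j = 4600 := by
    have h := Finset.card_eq_sum_card_fiberwise (f := f) (s := univ.filter (fun y : Ω => dd y₀ y = 16)) (t := univ) (fun _ _ => mem_univ _)
    rw [deg1 hD y₀] at h
    rw [h]
    apply Finset.sum_congr rfl
    intro j _
    rw [← hAcc]
    congr 1
    ext z
    simp only [A, mem_filter, mem_univ, true_and]
  simp only [Fin.sum_univ_four] at hfixsum hfixsum1 hAsum
  have hm1 := hF11 0
  have hm2 := hF11 1
  have hm3 := hF11 2
  have hm4 := hF11 3
  have hn1 := hA11 0 16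
  have hn2 := hA11 1 16
  have hn3 := hA11 2 16
  have hn4 := hA11 3 16
  simp only [hAcc] at hn1 hn2 hn3 hn4
  have hM1 : s 0 % 11 + s 1 % 11 + s 2 % 11 + s 3 % 11 = 6 := by
    clear hm1 hm2 hm3 hm4 hn1 hn2 hn3 hn4
    have h1 := hF11 0
    have h2 := hF11 1
    have h3 := hF11 2
    have h4 := hF11 3
    omega
  have hM2 : Q 0 0 % 11 + Q 0 1 % 11 + Q 0 2 % 11 + Q 0 3 % 11 = 2 := by
    clear hm1 hm2 hm3 hm4
    omega
  -- the cell of the point
  have hpart0 : s 0 = 1 + Q 0 0 + c2 0 y₀ + c3 0 y₀ := by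
    have h := hpart 0 y₀
    rw [hQ0] at h
    simp only [hf0, if_true] at h
    exact h
  have h1s0 : 1 < s 0 := by
    push Not at hno
    obtain ⟨g, hg, hne⟩ := hno
    have h1 : y₀ ∈ F 0 := hy0F
    have h2 : g • y₀ ∈ F 0 := hFinv 0 g hg y₀ hy0F
    exact Finset.one_lt_card.2 ⟨_, h2, _, h1, hne⟩
  have hs0dvd : s 0 ∣ DD := by
    have h1 : s 0 = (orbF L y₀).card := by
      show (F 0).card = _
      rw [horb 0 y₀ hf0]
    have h2 := card_orbF_mul L y₀
    rw [hL, ← h1] at h2
    have ht1 : t ≠ 1 := by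
      rintro rfl
      have hc := hD.card
      have : ∀ y : Ω, y = y₀ := fun y => htfix y (one_smul _ y)
      have h3 : Fintype.card Ω ≤ 1 := Fintype.card_le_one_iff.2 (fun a b => (this a).trans (this b).symm)
      omega
    have hu1 : u ≠ 1 := by
      rintro rfl
      have hc := hD.card
      have h3 : (univ.filter (fun y : Ω => (1 : K) • y = y)) = univ := by
        ext y
        simp
      rw [h3, Finset.card_univ] at hfix0
      omega
    have ho1 : orderOf t = 23 := orderOf_eq_prime ht23 ht1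
    have ho2 : orderOf u = 11 := orderOf_eq_prime hu11 hu1
    let D' : Subgroup K := L ⊓ stabilizer K y₀
    have d1 : 23 ∣ Nat.card D' := by
      have h3 : orderOf (⟨t, ht, hty⟩ : D') = orderOf t := Subgroup.orderOf_mk t _
      rw [← ho1, ← h3]
      exact orderOf_dvd_natCard _
    have d2 : 11 ∣ Nat.card D' := by
      have h3 : orderOf (⟨u, hu, huy⟩ : D') = orderOf u := Subgroup.orderOf_mk u _
      rw [← ho2, ← h3]
      exact orderOf_dvd_natCard _
    have d3 : 253 ∣ Nat.card D' := by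
      have hc : Nat.Coprime 23 11 := by norm_num
      exact hc.mul_dvd_of_dvd_of_dvd d1 d2
    obtain ⟨e, he⟩ := d3
    refine ⟨e, ?_⟩
    have h4 : s 0 * (253 * e) = 253 * DD := by
      rw [← he]
      show s 0 * Nat.card D' = _
      rw [h2]
      decide
    have h5 : 253 * (s 0 * e) = 253 * DD := by
      rw [← h4]
      ring
    have := Nat.eq_of_mul_eq_mul_left (by norm_num : 0 < 253) h5
    exact this.symm
  have hc2A : ∀ j, c2 j y₀ = (A j 8).card := fun j => rfl
  have hc3A : ∀ j, c3 j y₀ = (A j 0).card := fun j => rfl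
  have ha2mod : c2 0 y₀ % 11 ≤ 2 := by
    rw [hc2A]
    refine le_trans (hA11 0 8) (le_trans (Finset.card_le_card ?_) hfix2)
    intro z hz
    simp only [A, mem_filter, mem_univ, true_and] at hz ⊢
    exact ⟨hz.2, hz.1.1⟩
  have ha3mod : c3 0 y₀ % 11 ≤ 1 := by
    rw [hc3A]
    refine le_trans (hA11 0 0) (le_trans (Finset.card_le_card ?_) hfix3)
    intro z hz
    simp only [A, mem_filter, mem_univ, true_and] at hz ⊢
    exact ⟨hz.2, hz.1.1⟩
  have h3eq : 3 * (16 + 4 * Q 0 0 + c2 0 y₀) = 2 * s 0 := by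
    have h := hTT 0 y₀
    rw [hQ0] at h
    simp only [hf0, if_true] at h
    exact h
  have hvar : 3 * (s 0 * (4600 - Q 0 0)) ^ 2 + (98280 - s 0) * (3 * s 0 * Q 0 0 ^ 2) ≤
      (98280 - s 0) * (s 0 * (168 * Q 0 0 + 4560 + 638 * s 0)) := by
    have h1 := cauchy3 (s 1) (s 2) (s 3) (Q 1 0) (Q 2 0) (Q 3 0)
    have h2 := hrow 0
    have h3 := hmom 0 0
    simp only [Fin.sum_univ_four, if_true] at h2 h3
    exact hvar_aux (s 0) (Q 0 0) (s 1 * Q 1 0 + s 2 * Q 2 0 + s 3 * Q 3 0) (s 1 + s 2 + s 3) _ _ (by linarith) (by clear hm1 hm2 hm3 hm4 hn1 hn2 hn3 hn4; omega) h1 (by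
      rw [show s 0 * (168 * Q 0 0 + 4560 + 638 * s 0) = _ from (by ring_nf : _ = s 0 * (4560 + 168 * Q 0 0 + 638 * s 0)), ← h3]
      ring)
  have hcase := num1 (s 0) (Q 0 0) (c2 0 y₀) (c3 0 y₀) h1s0 hpart0 (by rw [← hAcc]; exact hA23 0 16 (by norm_num))
    (by rw [hc2A]; exact hA23 0 8 (by norm_num)) (by rw [hc3A]; exact hA23 0 0 (by norm_num)) hs0dvd h3eq
    (by clear hm1 hm2 hm3 hm4; omega) ha2mod ha3mod (by clear hm1 hm2 hm3 hm4; omega) (by clear hm1 hm2 hm3 hm4; omega) hvar
  -- the final step from a cell with no relation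
  have hfin : ∀ j x, f x = j → 1 < s j → c2 j x = 0 →
      ∃ P : Finset Ω, (∀ g ∈ L, ∀ x ∈ P, g • x ∈ P) ∧ 1 < P.card ∧ ∀ x ∈ P, ∀ x' ∈ P, dd x x' ≠ 8 := by
    intro j x hx h1 h0
    refine ⟨F j, hFinv j, h1, ?_⟩
    intro w hw w' hw' he
    obtain ⟨g, hg, rfl⟩ := hf2 x w (by rw [hx, hFmem.1 hw])
    have h2 : c2 j (g • x) = 0 := by
      rw [hc2inv j g hg, h0]
    have h3 : w' ∈ univ.filter (fun z => dd (g • x) z = 8 ∧ f z = j) := by
      simp only [mem_filter, mem_univ, true_and]
      exact ⟨he, hFmem.1 hw'⟩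
    have h4 : (univ.filter (fun z => dd (g • x) z = 8 ∧ f z = j)).card = 0 := h2
    rw [Finset.card_eq_zero] at h4
    rw [h4] at h3
    simp at h3
  -- the second step
  obtain ⟨d1, hd1⟩ := hF23 1 (by decide)
  obtain ⟨d2, hd2⟩ := hF23 2 (by decide)
  obtain ⟨d3, hd3⟩ := hF23 3 (by decide)
  have hQ1 : 23 ∣ Q 0 1 := by
    rw [← hAcc]
    exact hA23 1 16 (by norm_num)
  have hQ2 : 23 ∣ Q 0 2 := by
    rw [← hAcc]
    exact hA23 2 16 (by norm_num)
  have hQ3 : 23 ∣ Q 0 3 := by
    rw [← hAcc]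
    exact hA23 3 16 (by norm_num)
  obtain ⟨n1, hn1'⟩ := hQ1
  obtain ⟨n2, hn2'⟩ := hQ2
  obtain ⟨n3, hn3'⟩ := hQ3
  have key2 : ∀ D N, stage2 (s 0) (Q 0 0) D N = true → 23 * D + s 0 = 98280 → 23 * N + Q 0 0 = 4600 → D ≤ 4273 → 0 < D →
      allowed2 (s 0) d1 d2 d3 n1 n2 n3 = true := by
    intro D N hst hDD hNN hD4 hD0
    have dvd6 : ∀ {x y : ℕ}, x = 23 * y → 6 ∣ x → 6 ∣ y := by
      intro x y hx h
      rw [hx] at h
      exact (Nat.Coprime.dvd_of_dvd_mul_left (by norm_num) h)
    have dvdD : ∀ {x y : ℕ}, x = 23 * y → (x = 0 ∨ x ∣ 42305421312000) → (y = 0 ∨ y ∣ D2) := by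
      intro x y hx h
      rcases h with h | h
      · left
        omega
      · right
        rw [hx, show (42305421312000 : ℕ) = 23 * D2 from rfl] at h
        exact Nat.dvd_of_mul_dvd_mul_left (by norm_num) h
    refine num2 (s 0) (Q 0 0) d1 d2 d3 n1 n2 n3 (Q 1 0) (Q 2 0) (Q 3 0) D N hst (by omega) (by clear hm1 hm2 hm3 hm4; omega) (by clear hm1 hm2 hm3 hm4; omega)
      (by clear hm1 hm2 hm3 hm4; omega) (by clear hm1 hm2 hm3 hm4; omega) (dvd6 hd1 (h6 1)) (dvd6 hd2 (h6 2)) (dvd6 hd3 (h6 3)) (dvdD hd1 (hdvd 1))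
      (dvdD hd2 (hdvd 2)) (dvdD hd3 (hdvd 3)) hD4 hD0 (by rw [← hd1, ← hd2, ← hd3]; exact hM1) (by rw [← hn1', ← hn2', ← hn3']; exact hM2)
      ?_ ?_ ?_ ?_
    · have h := hdouble 1 0
      rw [hd1, hn1'] at h
      apply Nat.eq_of_mul_eq_mul_left (by norm_num : 0 < 23)
      rw [← mul_assoc, h]
      ring
    · have h := hdouble 2 0
      rw [hd2, hn2'] at h
      apply Nat.eq_of_mul_eq_mul_left (by norm_num : 0 < 23)
      rw [← mul_assoc, h]
      ring
    · have h := hdouble 3 0
      rw [hd3, hn3'] at h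
      apply Nat.eq_of_mul_eq_mul_left (by norm_num : 0 < 23)
      rw [← mul_assoc, h]
      ring
    · have h := hmom 0 0
      simp only [Fin.sum_univ_four, if_true] at h
      rw [hd1, hd2, hd3] at h
      rw [show s 0 * (4560 + 168 * Q 0 0 + 638 * s 0) = _ from h.symm]
      ring
  -- the columns
  have hrow1 := hrow 1
  have hrow2 := hrow 2
  have hmom01 := hmom 0 1
  have hmom02 := hmom 0 2
  have hmom11 := hmom 1 1
  simp only [Fin.sum_univ_four, if_true] at hrow1 hrow2 hmom01 hmom02 hmom11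
  have e01 : ¬ ((0 : Fin 4) = 1) := by decide
  have e02 : ¬ ((0 : Fin 4) = 2) := by decide
  simp only [e01, e02, if_false] at hmom01 hmom02
  have hb1 := hdouble 1 0
  have hb2 := hdouble 2 0
  have hb3 := hdouble 3 0
  clear hdouble hmom hrow
  rcases hcase with ⟨h1, h2, h3⟩ | ⟨h1, h2, h3⟩ | ⟨h1, h2, h3⟩ | ⟨h1, h2, h3⟩ | ⟨h1, h2, h3⟩
  · exact hfin 0 y₀ hf0 (by rw [h1]; norm_num) h3
  · exact hfin 0 y₀ hf0 (by rw [h1]; norm_num) h3
  · exfalso
    have h4 := key2 4248 199 (by rw [h1, h2]; exact stage2_576) (by norm_num [h1]) (by norm_num [h2]) (by norm_num) (by norm_num)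
    rw [h1] at h4
    simp only [allowed2, Bool.or_eq_true, Bool.and_eq_true, Nat.beq_eq] at h4
    obtain ⟨a1, a2, a3, a4, a5, a6⟩ : d1 = 792 ∧ d2 = 1344 ∧ d3 = 2112 ∧ n1 = 44 ∧ n2 = 56 ∧ n3 = 99 := by
      rcases h4 with h | h | h
      · exact ⟨h.2.1, h.2.2.1, h.2.2.2.1, h.2.2.2.2.1, h.2.2.2.2.2.1, h.2.2.2.2.2.2⟩
      · exact absurd h.1 (by norm_num)
      · exact absurd h.1 (by norm_num)
    subst a1 a2 a3 a4 a5 a6
    have b1 : Q 1 0 = 32 := by
      rw [hd1, h1, hn1'] at hb1
      omega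
    have b2 : Q 2 0 = 24 := by
      rw [hd2, h1, hn2'] at hb2
      omega
    have b3 : Q 3 0 = 27 := by
      rw [hd3, h1, hn3'] at hb3
      omega
    rw [hd1, hd2, hd3, h1, hn1'] at hrow1 hmom11
    rw [hd1, hd2, hd3, h1, hn1', h2, b1, b2, b3] at hmom01
    exact col576 (Q 1 1) (Q 2 1) (Q 3 1) (by linarith) (by linarith) (by linarith)
  · exfalso
    have h4 := key2 2160 101 (by rw [h1, h2]; exact stage2_48600) (by norm_num [h1]) (by norm_num [h2]) (by norm_num) (by norm_num)
    rw [h1] at h4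
    simp only [allowed2, Bool.or_eq_true, Bool.and_eq_true, Nat.beq_eq] at h4
    obtain ⟨a1, a2, a3, a4, a5, a6⟩ : d1 = 24 ∧ d2 = 486 ∧ d3 = 1650 ∧ n1 = 1 ∧ n2 = 23 ∧ n3 = 77 := by
      rcases h4 with h | h | h
      · exact absurd h.1 (by norm_num)
      · exact ⟨h.2.1, h.2.2.1, h.2.2.2.1, h.2.2.2.2.1, h.2.2.2.2.2.1, h.2.2.2.2.2.2⟩
      · exact absurd h.1 (by norm_num)
    subst a1 a2 a3 a4 a5 a6
    have b1 : Q 1 0 = 2025 := by
      rw [hd1, h1, hn1'] at hb1
      omega
    have b2 : Q 2 0 = 2300 := by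
      rw [hd2, h1, hn2'] at hb2
      omega
    have b3 : Q 3 0 = 2268 := by
      rw [hd3, h1, hn3'] at hb3
      omega
    rw [hd1, hd2, hd3, h1, hn1'] at hrow1 hmom11
    rw [hd1, hd2, hd3, h1, hn1', h2, b1, b2, b3] at hmom01
    exact col48600 (Q 1 1) (Q 2 1) (Q 3 1) (by linarith) (by linarith) (by linarith)
  · have h4 := key2 2136 100 (by rw [h1, h2]; exact stage2_49152) (by norm_num [h1]) (by norm_num [h2]) (by norm_num) (by norm_num)
    rw [h1] at h4
    simp only [allowed2, Bool.or_eq_true, Bool.and_eq_true, Nat.beq_eq] at h4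
    obtain ⟨a1, a2, a3, a4, a5, a6⟩ : d1 = 0 ∧ d2 = 24 ∧ d3 = 2112 ∧ n1 = 0 ∧ n2 = 1 ∧ n3 = 99 := by
      rcases h4 with h | h | h
      · exact absurd h.1 (by norm_num)
      · exact absurd h.1 (by norm_num)
      · exact ⟨h.2.1, h.2.2.1, h.2.2.2.1, h.2.2.2.2.1, h.2.2.2.2.2.1, h.2.2.2.2.2.2⟩
    subst a1 a2 a3 a4 a5 a6
    have b2 : Q 2 0 = 2048 := by
      rw [hd2, h1, hn2'] at hb2
      omega
    have b3 : Q 3 0 = 2304 := by
      rw [hd3, h1, hn3'] at hb3
      omega
    rw [hd1, hd2, hd3, h1, hn2'] at hrow2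
    rw [hd1, hd2, hd3, h1, hn2', h2, b2, b3] at hmom02
    have b4 : Q 2 2 = 88 := col49152 (Q 2 2) (Q 3 2) (by linarith) (by linarith)
    have hs2 : s 2 = 552 := hd2
    obtain ⟨x, hx⟩ : (F 2).Nonempty := by
      rw [← Finset.card_pos]
      show 0 < s 2
      rw [hs2]
      norm_num
    have hx2 := hFmem.1 hx
    refine hfin 2 x hx2 (by rw [hs2]; norm_num) ?_
    have h5 := hTT 2 x
    rw [hQ 2 2 x hx2, b4, hs2] at h5
    simp only [hx2, if_true] at h5
    omega

end Cfsg.Agent.Lib.Co1Abs
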