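import Mathlib

set_option autoImplicit false
set_option linter.unusedVariables false
set_option linter.unusedSectionVars false
set_option linter.style.haveILetI false
set_option linter.deprecated false

/-!
# A faithful representation of the extraspecial group of order 125 over the field with two elements

If `z` is a central commutator of two elements of order five acting on a vector space over the field with two
elements and `z` moves a vector of an invariant subspace, then that subspace has dimension at least fifteen.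
-/

namespace Cfsg.Agent.Lib.Co1Five

open Module

variable {V : Type*} [AddCommGroup V] [Module (ZMod 2) V]

theorem char2 (v : V) : v + v = 0 := ZModModule.add_self v

theorem eq_of_add_zero {u v : V} (h : u + v = 0) : u = v := by
  have h1 : u + v = v + v := by rw [h, char2]
  exact add_right_cancel h1

theorem prod_id {R : Type*} [CommRing R] (a z : R) (hz : z ^ 5 = 1) (h2 : (2 : R) = 0) :
    (a + z ^ 4) * (a + z ^ 3) * (a + z ^ 2) * (a + z) * (a + 1) = a ^ 5 + 1 + (1 + z + z ^ 2 + z ^ 3 + z ^ 4) * (a ^ 4 + a) := by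
  linear_combination (a ^ 3 * (z + z ^ 2) + a ^ 2 * (z ^ 3 + z ^ 4) + a * (z + z ^ 2 + z ^ 3 + z ^ 4 + z ^ 5 + 1) + (z ^ 5 + 1)) * hz +
    (a ^ 3 * (z + z ^ 2 + z ^ 3 + z ^ 4 + z ^ 5) + a ^ 2 * (z ^ 3 + z ^ 4 + z ^ 5 + z ^ 6 + z ^ 7)) * h2

/-- The product identity in the ring of endomorphisms. -/
theorem prod_End (a z : Module.End (ZMod 2) V) (hz : z ^ 5 = 1) (hza : z * a = a * z) :
    (a + z ^ 4) * (a + z ^ 3) * (a + z ^ 2) * (a + z) * (a + 1) = a ^ 5 + 1 + (1 + z + z ^ 2 + z ^ 3 + z ^ 4) * (a ^ 4 + a) := by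
  have hcomm : ∀ x ∈ ({a, z} : Set (Module.End (ZMod 2) V)), ∀ y ∈ ({a, z} : Set (Module.End (ZMod 2) V)), x * y = y * x := by
    rintro x (rfl | rfl) y (rfl | rfl)
    · rfl
    · exact hza.symm
    · exact hza
    · rfl
  letI : CommRing (Algebra.adjoin (ZMod 2) ({a, z} : Set (Module.End (ZMod 2) V))) := Algebra.adjoinCommRingOfComm (ZMod 2) hcomm
  let a' : Algebra.adjoin (ZMod 2) ({a, z} : Set (Module.End (ZMod 2) V)) := ⟨a, Algebra.subset_adjoin (by simp)⟩
  let z' : Algebra.adjoin (ZMod 2) ({a, z} : Set (Module.End (ZMod 2) V)) := ⟨z, Algebra.subset_adjoin (by simp)⟩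
  have hz' : z' ^ 5 = 1 := Subtype.ext hz
  have h2 : (2 : Algebra.adjoin (ZMod 2) ({a, z} : Set (Module.End (ZMod 2) V))) = 0 := by
    apply Subtype.ext
    show (2 : Module.End (ZMod 2) V) = 0
    have e : (2 : Module.End (ZMod 2) V) = 1 + 1 := one_add_one_eq_two.symm
    refine e.trans ?_
    ext v
    exact char2 v
  have h := prod_id a' z' hz' h2
  exact congrArg Subtype.val h

section
variable (z : Module.End (ZMod 2) V) (hz : z ^ 5 = 1)

/-- The norm of the element `z`. -/
def nu (y : V) : V := y + z y + (z ^ 2) y + (z ^ 3) y + (z ^ 4) y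

variable {z}
include hz

theorem pow_mod5 (k : ℕ) : z ^ k = z ^ (k % 5) := by
  conv_lhs => rw [← Nat.div_add_mod k 5, pow_add, pow_mul, hz, one_pow, one_mul]

theorem pow_fix {r : ℕ} {y : V} (h : (z ^ r) y = y) (s : ℕ) : (z ^ (r * s)) y = y := by
  induction s with
  | zero => simp
  | succ s ih =>
    rw [mul_add, mul_one, pow_add, Module.End.mul_apply, h, ih]

/-- An eigenvector of `z` in the kernel of the norm vanishes. -/
theorem eq_zero_of_fix {y : V} (hn : nu z y = 0) (h : z y = y) : y = 0 := by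
  have h2 : (z ^ 2) y = y := by rw [pow_two, Module.End.mul_apply, h, h]
  have h3 : (z ^ 3) y = y := by rw [pow_succ, Module.End.mul_apply, h, h2]
  have h4 : (z ^ 4) y = y := by rw [pow_succ, Module.End.mul_apply, h, h3]
  unfold nu at hn
  rw [h, h2, h3, h4, char2, zero_add, char2, zero_add] at hn
  exact hn

theorem eq_zero_of_pow {y : V} (hn : nu z y = 0) {p q : ℕ} (h : (z ^ p) y = (z ^ q) y) (hne : p % 5 ≠ q % 5) : y = 0 := by
  have h1 : (z ^ (p + 4 * q)) y = y := by
    rw [add_comm, pow_add, Module.End.mul_apply, h, ← Module.End.mul_apply, ← pow_add]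
    have : 4 * q + q = 5 * q := by ring
    rw [this, pow_mul, hz, one_pow]
    rfl
  have h2 : (z ^ ((p + 4 * q) % 5)) y = y := by
    rw [← pow_mod5 hz]
    exact h1
  have hr : (p + 4 * q) % 5 ≠ 0 := by omega
  have hr5 : (p + 4 * q) % 5 < 5 := Nat.mod_lt _ (by norm_num)
  generalize (p + 4 * q) % 5 = r at h2 hr hr5
  apply eq_zero_of_fix hz hn
  have key : (z ^ 1) y = y := by
    interval_cases r
    · exact absurd rfl hr
    · exact h2
    · have h3 := pow_fix hz h2 3
      rw [pow_mod5 hz] at h3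
      exact h3
    · have h3 := pow_fix hz h2 2
      rw [pow_mod5 hz] at h3
      exact h3
    · have h3 := pow_fix hz h2 4
      rw [pow_mod5 hz] at h3
      exact h3
  simpa using key

/-- Three independent vectors. -/
theorem three_indep {y : V} (hn : nu z y = 0) (hy : y ≠ 0) (c0 c1 c2 : ZMod 2)
    (h : c0 • y + c1 • (z ^ 1) y + c2 • (z ^ 2) y = 0) : c0 = 0 ∧ c1 = 0 ∧ c2 = 0 := by
  have hc : ∀ c : ZMod 2, c = 0 ∨ c = 1 := by decide
  have h5 : (z ^ 5) y = y := by rw [hz]; rfl
  have hinv : ∀ k, k ≤ 5 → (z ^ k) y = 0 → False := by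
    intro k hk e
    apply hy
    have h6 : (z ^ (5 - k + k)) y = y := by
      rw [Nat.sub_add_cancel hk]
      exact h5
    rw [pow_add, Module.End.mul_apply, e, map_zero] at h6
    exact h6.symm
  rcases hc c0 with rfl | rfl <;> rcases hc c1 with rfl | rfl <;> rcases hc c2 with rfl | rfl
  · exact ⟨rfl, rfl, rfl⟩
  · exfalso
    simp only [zero_smul, one_smul, zero_add] at h
    exact hinv 2 (by norm_num) h
  · exfalso
    simp only [zero_smul, one_smul, zero_add, add_zero] at h
    exact hinv 1 (by norm_num) h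
  · exfalso
    simp only [zero_smul, one_smul, zero_add] at h
    exact hy (eq_zero_of_pow hz hn (eq_of_add_zero h) (by norm_num))
  · exfalso
    simp only [zero_smul, one_smul, add_zero] at h
    exact hy h
  · exfalso
    simp only [zero_smul, one_smul, add_zero] at h
    have e := eq_of_add_zero h
    exact hy (eq_zero_of_pow hz hn (p := 0) (q := 2) (by simpa using e) (by norm_num))
  · exfalso
    simp only [zero_smul, one_smul, add_zero] at h
    have e := eq_of_add_zero h
    exact hy (eq_zero_of_pow hz hn (p := 0) (q := 1) (by simpa using e) (by norm_num))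
  · exfalso
    simp only [one_smul] at h
    have h1 := congrArg z h
    simp only [map_add, map_zero] at h1
    have h2 : (z ^ 1) y = z y := by simp
    have e1 : z ((z ^ 1) y) = (z ^ 2) y := by rw [pow_two, h2]; rfl
    have e2 : z ((z ^ 2) y) = (z ^ 3) y := by rw [pow_succ' z 2]; rfl
    rw [e1, e2] at h1
    have h3 : y + (z ^ 3) y = 0 := by
      have h4 : (y + (z ^ 1) y + (z ^ 2) y) + (z y + (z ^ 2) y + (z ^ 3) y) = 0 := by
        rw [h, h1, add_zero]
      have h5 : (y + (z ^ 1) y + (z ^ 2) y) + (z y + (z ^ 2) y + (z ^ 3) y) =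
          (y + (z ^ 3) y) + ((z y + z y) + ((z ^ 2) y + (z ^ 2) y)) := by
        rw [h2]
        abel
      rw [h5, char2, char2, add_zero, add_zero] at h4
      exact h4
    exact hy (eq_zero_of_pow hz hn (p := 0) (q := 3) (by simpa using eq_of_add_zero h3) (by norm_num))

end

theorem nu_add (z : Module.End (ZMod 2) V) (x y : V) : nu z (x + y) = nu z x + nu z y := by
  unfold nu
  simp only [map_add]
  abel

theorem nu_comm {z a : Module.End (ZMod 2) V} (hza : z * a = a * z) (y : V) : nu z (a y) = a (nu z y) := by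
  have h : ∀ k, (z ^ k) (a y) = a ((z ^ k) y) := by
    intro k
    have hc : Commute (z ^ k) a := (show Commute z a from hza).pow_left k
    have := congrArg (fun f => f y) hc.eq
    simpa using this
  unfold nu
  simp only [map_add, h]
  have h1 : z (a y) = a (z y) := congrArg (fun f => f y) hza
  rw [h1]

/-- Eigenvectors with different eigenvalues are independent. -/
theorem indep {ι : Type*} [DecidableEq ι] {a z : Module.End (ZMod 2) V} (hz : z ^ 5 = 1) (hza : z * a = a * z) (k : ι → ℕ)
    (I : Finset ι) : ∀ u : ι → V, (∀ i ∈ I, a (u i) = (z ^ k i) (u i) ∧ nu z (u i) = 0) →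
      (∀ i ∈ I, ∀ j ∈ I, i ≠ j → k i % 5 ≠ k j % 5) → ∑ i ∈ I, u i = 0 → ∀ i ∈ I, u i = 0 := by
  induction I using Finset.induction_on with
  | empty =>
    intro u _ _ _ i hi
    simp at hi
  | insert i₀ J hi₀ ih =>
    intro u h1 h2 h3
    have h0 := h1 i₀ (Finset.mem_insert_self _ _)
    let T : V →ₗ[ZMod 2] V := a + z ^ k i₀
    have hT0 : T (u i₀) = 0 := by
      show a (u i₀) + (z ^ k i₀) (u i₀) = 0
      rw [h0.1, char2]
    have hsum : ∑ i ∈ J, T (u i) = 0 := by
      have h4 := congrArg T h3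
      rw [Finset.sum_insert hi₀, map_add, map_sum, hT0, zero_add, map_zero] at h4
      exact h4
    have hcomm : ∀ n, (z ^ n) * a = a * (z ^ n) := fun n => ((show Commute z a from hza).pow_left n).eq
    have hcommv : ∀ n (y : V), (z ^ n) (a y) = a ((z ^ n) y) := fun n y => congrArg (fun f => f y) (hcomm n)
    have hTe : ∀ i ∈ J, T (u i) = (z ^ k i) (u i) + (z ^ k i₀) (u i) := by
      intro i hi
      show a (u i) + (z ^ k i₀) (u i) = _
      rw [(h1 i (Finset.mem_insert_of_mem hi)).1]
    have hcz : ∀ m n (y : V), (z ^ m) ((z ^ n) y) = (z ^ n) ((z ^ m) y) := by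
      intro m n y
      rw [← Module.End.mul_apply, ← Module.End.mul_apply, ← pow_add, ← pow_add, add_comm]
    have hrec := ih (fun i => T (u i)) (by
      intro i hi
      have h5 := h1 i (Finset.mem_insert_of_mem hi)
      constructor
      · show a (T (u i)) = (z ^ k i) (T (u i))
        rw [hTe i hi, map_add, map_add, ← hcommv, ← hcommv, h5.1, hcz (k i₀) (k i)]
      · show nu z (T (u i)) = 0
        show nu z (a (u i) + (z ^ k i₀) (u i)) = 0
        rw [nu_add, nu_comm hza, h5.2, map_zero, zero_add]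
        have : nu z ((z ^ k i₀) (u i)) = (z ^ k i₀) (nu z (u i)) := by
          apply nu_comm
          exact ((show Commute z z from Commute.refl z).pow_right _).eq
        rw [this, h5.2, map_zero]) (fun i hi j hj hij => h2 i (Finset.mem_insert_of_mem hi) j (Finset.mem_insert_of_mem hj) hij) hsum
    have hJ : ∀ i ∈ J, u i = 0 := by
      intro i hi
      have h5 := h1 i (Finset.mem_insert_of_mem hi)
      have h6 := hrec i hi
      rw [hTe i hi] at h6
      refine eq_zero_of_pow hz h5.2 (eq_of_add_zero h6) ?_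
      apply h2 i (Finset.mem_insert_of_mem hi) i₀ (Finset.mem_insert_self _ _)
      rintro rfl
      exact hi₀ hi
    intro i hi
    rcases Finset.mem_insert.1 hi with rfl | hi
    · rw [Finset.sum_insert hi₀, Finset.sum_eq_zero hJ, add_zero] at h3
      exact h3
    · exact hJ i hi

/-- The lemma on the extraspecial group. -/
theorem five_lemma [FiniteDimensional (ZMod 2) V] (a b z : Module.End (ZMod 2) V) (ha : a ^ 5 = 1) (hb : b ^ 5 = 1)
    (hz : z ^ 5 = 1) (hab : a * b = z * b * a) (hza : z * a = a * z) (hzb : z * b = b * z)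
    (U : Submodule (ZMod 2) V) (hUa : ∀ v ∈ U, a v ∈ U) (hUb : ∀ v ∈ U, b v ∈ U) (hUz : ∀ v ∈ U, z v ∈ U)
    (w : V) (hw : w ∈ U) (hzw : z w ≠ w) : 15 ≤ finrank (ZMod 2) U := by
  classical
  have hUzk : ∀ k, ∀ v ∈ U, (z ^ k) v ∈ U := by
    intro k
    induction k with
    | zero => simp
    | succ k ih =>
      intro v hv
      rw [pow_succ, Module.End.mul_apply]
      exact ih _ (hUz v hv)
  have hUbk : ∀ k, ∀ v ∈ U, (b ^ k) v ∈ U := by
    intro k
    induction k with
    | zero => simp
    | succ k ih =>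
      intro v hv
      rw [pow_succ, Module.End.mul_apply]
      exact ih _ (hUb v hv)
  have hzz : ∀ n, z * z ^ n = z ^ n * z := fun n => (pow_succ' z n).symm.trans (pow_succ z n)
  -- the first vector
  let x : V := w + z w
  have hx0 : x ≠ 0 := fun h => hzw (eq_of_add_zero h).symm
  have hxU : x ∈ U := U.add_mem hw (hUz w hw)
  have hnx : nu z x = 0 := by
    have e1 : ∀ k, (z ^ k) (z w) = (z ^ (k + 1)) w := by
      intro k
      rw [pow_succ]
      rfl
    have h5 : (z ^ 5) w = w := by rw [hz]; rfl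
    show nu z (w + z w) = 0
    rw [nu_add]
    unfold nu
    rw [e1, e1, e1]
    have e2 : z (z w) = (z ^ 2) w := by rw [pow_two]; rfl
    rw [e2]
    norm_num only [h5]
    have e3 : w + z w + (z ^ 2) w + (z ^ 3) w + (z ^ 4) w + (z w + (z ^ 2) w + (z ^ 3) w + (z ^ 4) w + w) =
        (w + w) + (z w + z w) + ((z ^ 2) w + (z ^ 2) w) + ((z ^ 3) w + (z ^ 3) w) + ((z ^ 4) w + (z ^ 4) w) := by abel
    rw [e3]
    simp only [char2, add_zero]
  -- an eigenvector
  have hstep : ∀ (T : Module.End (ZMod 2) V) (y : V), (∀ v ∈ U, T v ∈ U) → (T * z = z * T) → y ∈ U → nu z y = 0 →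
      T y ∈ U ∧ nu z (T y) = 0 := by
    intro T y h1 h2 h3 h4
    refine ⟨h1 y h3, ?_⟩
    rw [nu_comm h2.symm, h4, map_zero]
  have hkey : ∃ (s : ℕ) (v₀ : V), s < 5 ∧ v₀ ∈ U ∧ v₀ ≠ 0 ∧ nu z v₀ = 0 ∧ a v₀ = (z ^ s) v₀ := by
    by_contra hcon
    push Not at hcon
    have hT : ∀ s y, y ∈ U → nu z y = 0 → s < 5 → y ≠ 0 → (a + z ^ s) y ≠ 0 := by
      intro s y h1 h2 h3 h4 h5
      exact hcon s y h3 h1 h4 h2 (eq_of_add_zero h5)
    have hT2 : ∀ s y, y ∈ U → nu z y = 0 → (a + z ^ s) y ∈ U ∧ nu z ((a + z ^ s) y) = 0 := by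
      intro s y h1 h2
      apply hstep
      · intro v hv
        exact U.add_mem (hUa v hv) (hUzk s v hv)
      · rw [add_mul, mul_add, ← hzz s, hza]
      · exact h1
      · exact h2
    have h0 := hT 0 x hxU hnx (by norm_num) hx0
    have g0 := hT2 0 x hxU hnx
    have h1 := hT 1 _ g0.1 g0.2 (by norm_num) h0
    have g1 := hT2 1 _ g0.1 g0.2
    have h2 := hT 2 _ g1.1 g1.2 (by norm_num) h1
    have g2 := hT2 2 _ g1.1 g1.2
    have h3 := hT 3 _ g2.1 g2.2 (by norm_num) h2
    have g3 := hT2 3 _ g2.1 g2.2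
    have h4 := hT 4 _ g3.1 g3.2 (by norm_num) h3
    apply h4
    have hp := prod_End a z hz hza
    have e : (a + z ^ 4) ((a + z ^ 3) ((a + z ^ 2) ((a + z ^ 1) ((a + z ^ 0) x)))) =
        (((a + z ^ 4) * (a + z ^ 3) * (a + z ^ 2) * (a + z) * (a + 1) : Module.End (ZMod 2) V)) x := by
      simp only [pow_one, pow_zero]
      rfl
    rw [e, hp]
    have e2 : ((a ^ 5 + 1 + (1 + z + z ^ 2 + z ^ 3 + z ^ 4) * (a ^ 4 + a) : Module.End (ZMod 2) V)) x =
        (a ^ 5) x + x + nu z ((a ^ 4 + a) x) := rfl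
    rw [e2, ha]
    have e3 : ((1 : Module.End (ZMod 2) V)) x + x = 0 := char2 x
    rw [e3, zero_add]
    have hcomm4 : z * (a ^ 4 + a) = (a ^ 4 + a) * z := by
      rw [mul_add, add_mul, hza]
      congr 1
      exact ((show Commute z a from hza).pow_right 4).eq
    rw [nu_comm hcomm4, hnx, map_zero]
  obtain ⟨s, v₀, hs, hv₀U, hv₀, hnv₀, hav₀⟩ := hkey
  -- the vectors
  have hcommz : ∀ n, z * b ^ n = b ^ n * z := fun n => ((show Commute z b from hzb).pow_right n).eq
  have habk : ∀ n, a * b ^ n = z ^ n * b ^ n * a := by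
    intro n
    induction n with
    | zero => simp
    | succ n ih =>
      rw [pow_succ, ← mul_assoc, ih, mul_assoc, hab, pow_succ]
      have e : b ^ n * z = z * b ^ n := (hcommz n).symm
      calc z ^ n * b ^ n * (z * b * a) = z ^ n * (b ^ n * z) * b * a := by noncomm_ring
        _ = z ^ n * (z * b ^ n) * b * a := by rw [e]
        _ = z ^ n * z * (b ^ n * b) * a := by noncomm_ring
  let v : Fin 5 → V := fun i => (b ^ i.1) v₀
  have hvU : ∀ i, v i ∈ U := fun i => hUbk _ _ hv₀U
  have hvn : ∀ i, nu z (v i) = 0 := by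
    intro i
    show nu z ((b ^ i.1) v₀) = 0
    rw [nu_comm (hcommz _), hnv₀, map_zero]
  have hv0 : ∀ i, v i ≠ 0 := by
    intro i h
    apply hv₀
    have h1 : (b ^ (5 - i.1 + i.1)) v₀ = v₀ := by
      rw [Nat.sub_add_cancel i.2.le, hb]
      rfl
    rw [pow_add, Module.End.mul_apply] at h1
    have h2 : (b ^ i.1) v₀ = 0 := h
    rw [h2, map_zero] at h1
    exact h1.symm
  have hcz : ∀ m n (y : V), (z ^ m) ((z ^ n) y) = (z ^ n) ((z ^ m) y) := by
    intro m n y
    rw [← Module.End.mul_apply, ← Module.End.mul_apply, ← pow_add, ← pow_add, add_comm]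
  have hva : ∀ i : Fin 5, a (v i) = (z ^ (i.1 + s)) (v i) := by
    intro i
    show a ((b ^ i.1) v₀) = _
    have h1 : a ((b ^ i.1) v₀) = (z ^ i.1) ((b ^ i.1) (a v₀)) := congrArg (fun f => f v₀) (habk i.1)
    rw [h1, hav₀]
    have h2 : (b ^ i.1) ((z ^ s) v₀) = (z ^ s) ((b ^ i.1) v₀) := by
      have hc : Commute (z ^ s) (b ^ i.1) := ((show Commute z b from hzb).pow_pow s i.1)
      exact (congrArg (fun f => f v₀) hc.eq).symm
    rw [h2, pow_add, Module.End.mul_apply]
  -- the independence
  let f : Fin 5 × Fin 3 → U := fun p => ⟨(z ^ p.2.1) (v p.1), hUzk _ _ (hvU _)⟩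
  have hli : LinearIndependent (ZMod 2) f := by
    rw [Fintype.linearIndependent_iff]
    intro g hg
    have hg' : ∑ i : Fin 5, ∑ j : Fin 3, g (i, j) • (z ^ j.1) (v i) = 0 := by
      have := congrArg Subtype.val hg
      rw [Fintype.sum_prod_type] at this
      simpa [f] using this
    have hzcomm : ∀ n (y : V), (z ^ n) (a y) = a ((z ^ n) y) := fun n y =>
      congrArg (fun f => f y) ((show Commute z a from hza).pow_left n).eq
    have hu := indep hz hza (fun i : Fin 5 => i.1 + s) Finset.univ (fun i => ∑ j : Fin 3, g (i, j) • (z ^ j.1) (v i)) (by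
      intro i _
      constructor
      · simp only [map_sum, map_smul]
        apply Finset.sum_congr rfl
        intro j _
        rw [← hzcomm, hva, hcz]
      · have hnu : ∀ (T : Fin 3 → V), (∀ j, nu z (T j) = 0) → nu z (∑ j, T j) = 0 := by
          intro T hT
          rw [Fin.sum_univ_three, nu_add, nu_add, hT, hT, hT]
          simp
        apply hnu
        intro j
        have hc1 : ∀ (c : ZMod 2) (y : V), nu z (c • y) = c • nu z y := by
          intro c y
          unfold nu
          simp only [map_smul, smul_add]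
        rw [hc1]
        have h3 : nu z ((z ^ j.1) (v i)) = (z ^ j.1) (nu z (v i)) := by
          apply nu_comm
          exact ((Commute.refl z).pow_right _).eq
        rw [h3, hvn, map_zero, smul_zero]) (by
      intro i _ j _ hij
      have h1 := i.2
      have h2 := j.2
      have h3 : i.1 ≠ j.1 := fun e => hij (Fin.ext e)
      show (i.1 + s) % 5 ≠ (j.1 + s) % 5
      omega) hg'
    rintro ⟨i, j⟩
    have h3 := hu i (Finset.mem_univ _)
    rw [Fin.sum_univ_three] at h3
    have h4 := three_indep hz (hvn i) (hv0 i) (g (i, 0)) (g (i, 1)) (g (i, 2)) (by simpa using h3)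
    fin_cases j
    · exact h4.1
    · exact h4.2.1
    · exact h4.2.2
  have hcard := hli.fintype_card_le_finrank
  simpa using hcard

/-- Totally isotropic subspaces of a space of dimension twenty-four. -/
theorem isotropic_bound [FiniteDimensional (ZMod 2) V] (B : LinearMap.BilinForm (ZMod 2) V) (hB : B.Nondegenerate)
    (hV : finrank (ZMod 2) V = 24) (U : Submodule (ZMod 2) V) (hU : ∀ x ∈ U, ∀ y ∈ U, B x y = 0) :
    finrank (ZMod 2) U ≤ 12 := by
  have h1 := LinearMap.BilinForm.finrank_orthogonal hB U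
  have h2 : U ≤ B.orthogonal U := by
    intro x hx
    rw [LinearMap.BilinForm.mem_orthogonal_iff]
    intro y hy
    exact hU y hy x hx
  have h3 := Submodule.finrank_mono h2
  omega

end Cfsg.Agent.Lib.Co1Five
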