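import Mathlib
import Cfsg.Agent.Lib.Leech
import Cfsg.Agent.Lib.Co0Mono
import Cfsg.Agent.Lib.GolayPerm

set_option autoImplicit false
set_option linter.unusedVariables false
set_option linter.unusedSimpArgs false
set_option linter.unusedSectionVars false

/-!
# Coded vectors of the rank-24 lattice and coded elements of its automorphism group

A vector is coded by a natural number: coordinate `i` plus 128 occupies byte `i`. The kernel evaluates
the action of monomial maps on such codes.
-/

namespace Cfsg.Agent.Lib.CoVec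

open Cfsg Finset
open Cfsg.Agent.Lib.Golay (idx pt idx_pt pt_idx idx_lt idxL mem_idxL ap bit bit_eq ofMask mem_ofMask
  decode idx_decode isM24 decode_mem_M24 isM24_valid reduce word support_word word_mem_golayCode)
open Cfsg.Agent.Lib.Leech (codeSets mem_leechLattice_iff IsForm)
open Cfsg.Agent.Lib.Co0Mono (mono monoCo0 monoCo0_apply co0_neg negCo0 negCo0_apply)

/-- byte `i` of a code -/
def byte (n i : ℕ) : ℕ := Nat.land (Nat.shiftRight n (Nat.mul 8 i)) 255

/-- the vector of a code -/
def dec (n : ℕ) : GolayPt → ℤ := fun p => (byte n (idx p) : ℤ) - 128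

theorem dec_pt (n : ℕ) {i : ℕ} (hi : i < 24) : dec n (pt i) = (byte n i : ℤ) - 128 := by
  simp only [dec, idx_pt hi]

/-- packing a list of bytes -/
def pack : List ℕ → ℕ
  | [] => 0
  | a :: l => Nat.add a (Nat.mul 256 (pack l))

theorem byte_eq (n i : ℕ) : byte n i = n / 2 ^ (8 * i) % 256 := by
  show (n >>> (8 * i)) &&& 255 = _
  rw [Nat.shiftRight_eq_div_pow]
  exact Nat.and_two_pow_sub_one_eq_mod _ 8

theorem byte_lt (n i : ℕ) : byte n i < 256 := by
  rw [byte_eq]; exact Nat.mod_lt _ (by norm_num)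

theorem byte_pack (l : List ℕ) (hl : ∀ a ∈ l, a < 256) (i : ℕ) : byte (pack l) i = l.getD i 0 := by
  induction l generalizing i with
  | nil =>
    simp [pack, byte_eq]
  | cons a l ih =>
    have ha := hl a (by simp)
    have e : pack (a :: l) = a + 256 * pack l := rfl
    cases i with
    | zero =>
      rw [byte_eq, e]
      simp
      omega
    | succ i =>
      have := ih (fun x hx => hl x (by simp [hx])) i
      rw [List.getD_cons_succ, ← this, byte_eq, byte_eq, e]
      congr 1
      rw [show 8 * (i + 1) = 8 + 8 * i by ring, pow_add, ← Nat.div_div_eq_div_mul]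
      congr 1
      have : (2 : ℕ) ^ 8 = 256 := by norm_num
      rw [this]
      omega

theorem pack_lt (l : List ℕ) (hl : ∀ a ∈ l, a < 256) : pack l < 256 ^ l.length := by
  induction l with
  | nil => simp [pack]
  | cons a l ih =>
    have ha := hl a (by simp)
    have h2 := ih (fun x hx => hl x (by simp [hx]))
    have e : pack (a :: l) = a + 256 * pack l := rfl
    rw [e, List.length_cons, pow_succ]
    omega

/-- all coded vectors of small size are distinct -/
theorem eq_of_bytes {k : ℕ} {a b : ℕ} (ha : a < 256 ^ k) (hb : b < 256 ^ k)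
    (h : ∀ i < k, byte a i = byte b i) : a = b := by
  induction k generalizing a b with
  | zero =>
    simp at ha hb; omega
  | succ k ih =>
    have h0 := h 0 (by omega)
    rw [byte_eq, byte_eq] at h0
    simp at h0
    have h1 : a / 256 = b / 256 := by
      apply ih
      · rw [pow_succ] at ha
        exact Nat.div_lt_of_lt_mul (by linarith)
      · rw [pow_succ] at hb
        exact Nat.div_lt_of_lt_mul (by linarith)
      · intro i hi
        have := h (i + 1) (by omega)
        rw [byte_eq, byte_eq] at this ⊢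
        rw [show 8 * (i + 1) = 8 + 8 * i by ring, pow_add, ← Nat.div_div_eq_div_mul,
          ← Nat.div_div_eq_div_mul] at this
        exact this
    omega

theorem dec_injOn {a b : ℕ} (ha : a < 2 ^ 192) (hb : b < 2 ^ 192) (h : dec a = dec b) : a = b := by
  have e : (2 : ℕ) ^ 192 = 256 ^ 24 := by norm_num
  rw [e] at ha hb
  refine eq_of_bytes ha hb fun i hi => ?_
  have := congrFun h (pt i)
  rw [dec_pt a hi, dec_pt b hi] at this
  omega

/-! ### States -/

/-- a code of a lattice vector of moderate size -/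
def St (n : ℕ) : Prop := n < 2 ^ 192 ∧ dec n ∈ leechLattice ∧ sqNorm (dec n) ≤ 2000

theorem coord_sq_le {x : GolayPt → ℤ} (h : sqNorm x ≤ 2000) (p : GolayPt) : x p ^ 2 ≤ 2000 := by
  have h1 : x p ^ 2 ≤ ∑ i, x i ^ 2 :=
    Finset.single_le_sum (f := fun i => x i ^ 2) (fun i _ => sq_nonneg _) (Finset.mem_univ p)
  exact h1.trans h

/-- bytes of a state are far from the ends -/
theorem St.byte_bounds {n : ℕ} (h : St n) {i : ℕ} (hi : i < 24) : 84 ≤ byte n i ∧ byte n i ≤ 172 := by
  have h1 := coord_sq_le h.2.2 (pt i)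
  rw [dec_pt n hi] at h1
  constructor
  · by_contra hlt
    have : (byte n i : ℤ) - 128 ≤ -45 := by omega
    nlinarith
  · by_contra hlt
    have : (45 : ℤ) ≤ (byte n i : ℤ) - 128 := by omega
    nlinarith

/-- the lattice vector of a state -/
def St.vec {n : ℕ} (h : St n) : leechLattice := ⟨dec n, h.2.1⟩

/-- The element `g` of the group acts on the state `n` as `f`. -/
def ActsOn (g : Co0) (f : ℕ → ℕ) : Prop :=
  ∀ n (h : St n), f n < 2 ^ 192 ∧
    (((g : Equiv.Perm leechLattice) ⟨dec n, h.2.1⟩ : leechLattice) : GolayPt → ℤ) = dec (f n)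

theorem co0_sqNorm (g : Co0) (v : leechLattice) :
    sqNorm (((g : Equiv.Perm leechLattice) v : leechLattice) : GolayPt → ℤ) = sqNorm (v : GolayPt → ℤ) :=
  g.2.2 v

theorem ActsOn.st {g : Co0} {f : ℕ → ℕ} (hg : ActsOn g f) {n : ℕ} (h : St n) : St (f n) := by
  obtain ⟨h1, h2⟩ := hg n h
  refine ⟨h1, h2 ▸ Subtype.property _, ?_⟩
  rw [← h2, co0_sqNorm]
  exact h.2.2

theorem ActsOn.mul {g g' : Co0} {f f' : ℕ → ℕ} (hg : ActsOn g f) (hg' : ActsOn g' f') :
    ActsOn (g * g') (fun n => f (f' n)) := by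
  intro n h
  have h1 := hg'.st h
  refine ⟨(hg _ h1).1, ?_⟩
  rw [← (hg _ h1).2]
  show ((( g : Equiv.Perm leechLattice) (((g' : Equiv.Perm leechLattice) ⟨dec n, h.2.1⟩)) : leechLattice) : GolayPt → ℤ) = _
  congr 2
  exact Subtype.ext (hg' n h).2

theorem ActsOn.one : ActsOn 1 (fun n => n) := fun n h => ⟨h.1, rfl⟩

/-! ### Monomial maps -/

/-- the sign rule -/
def sg (m i b : ℕ) : ℕ :=
  match bit m i with
  | 0 => b
  | _ => Nat.sub 256 b

theorem sg_val {m i b : ℕ} (hb : 0 < b) (hb2 : b < 256) :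
    sg m i b < 256 ∧ ((sg m i b : ℕ) : ℤ) - 128 = if m.testBit i = true then -((b : ℤ) - 128) else (b : ℤ) - 128 := by
  unfold sg
  rw [bit_eq]
  cases h : m.testBit i
  · simp [hb2]
  · simp
    constructor <;> omega

/-- coordinate `i` of a monomial image -/
def monoTerm (c m n i : ℕ) : ℕ := sg m i (byte n (ap c i))

/-- the monomial action on codes -/
def actMono (c m n : ℕ) : ℕ :=
  Nat.add (monoTerm c m n 0) <| Nat.mul 256 <| Nat.add (monoTerm c m n 1) <| Nat.mul 256 <|
  Nat.add (monoTerm c m n 2) <| Nat.mul 256 <| Nat.add (monoTerm c m n 3) <| Nat.mul 256 <|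
  Nat.add (monoTerm c m n 4) <| Nat.mul 256 <| Nat.add (monoTerm c m n 5) <| Nat.mul 256 <|
  Nat.add (monoTerm c m n 6) <| Nat.mul 256 <| Nat.add (monoTerm c m n 7) <| Nat.mul 256 <|
  Nat.add (monoTerm c m n 8) <| Nat.mul 256 <| Nat.add (monoTerm c m n 9) <| Nat.mul 256 <|
  Nat.add (monoTerm c m n 10) <| Nat.mul 256 <| Nat.add (monoTerm c m n 11) <| Nat.mul 256 <|
  Nat.add (monoTerm c m n 12) <| Nat.mul 256 <| Nat.add (monoTerm c m n 13) <| Nat.mul 256 <|
  Nat.add (monoTerm c m n 14) <| Nat.mul 256 <| Nat.add (monoTerm c m n 15) <| Nat.mul 256 <|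
  Nat.add (monoTerm c m n 16) <| Nat.mul 256 <| Nat.add (monoTerm c m n 17) <| Nat.mul 256 <|
  Nat.add (monoTerm c m n 18) <| Nat.mul 256 <| Nat.add (monoTerm c m n 19) <| Nat.mul 256 <|
  Nat.add (monoTerm c m n 20) <| Nat.mul 256 <| Nat.add (monoTerm c m n 21) <| Nat.mul 256 <|
  Nat.add (monoTerm c m n 22) <| Nat.mul 256 <| Nat.add (monoTerm c m n 23) <| Nat.mul 256 <| 0

theorem actMono_eq (c m n : ℕ) : actMono c m n = pack (idxL.map (monoTerm c m n)) := rfl

theorem getD_idxL (f : ℕ → ℕ) {i : ℕ} (hi : i < 24) : (idxL.map f).getD i 0 = f i := by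
  interval_cases i <;> rfl

theorem ofMask_mem_codeSets {m : ℕ} (hm : m < 2 ^ 24) (h : reduce m = 0) : ofMask m ∈ codeSets := by
  refine ⟨word m, (word_mem_golayCode hm).2 h, support_word m⟩

theorem pack_idxL_lt (f : ℕ → ℕ) (hf : ∀ i < 24, f i < 256) : pack (idxL.map f) < 2 ^ 192 := by
  have h := pack_lt (idxL.map f) (by
    intro a ha
    obtain ⟨i, hi, rfl⟩ := List.mem_map.1 ha
    exact hf i (mem_idxL.1 hi))
  have e : (idxL.map f).length = 24 := rfl
  rw [e] at h
  exact h.trans_eq (by norm_num)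

theorem byte_pack_idxL (f : ℕ → ℕ) (hf : ∀ i < 24, f i < 256) {i : ℕ} (hi : i < 24) :
    byte (pack (idxL.map f)) i = f i := by
  rw [byte_pack _ (by
    intro a ha
    obtain ⟨i, hi, rfl⟩ := List.mem_map.1 ha
    exact hf i (mem_idxL.1 hi)), getD_idxL f hi]

theorem actMono_spec {c m : ℕ} (hc : isM24 c = true) (hm : m < 2 ^ 24) (hr : reduce m = 0) :
    ActsOn (monoCo0 (ofMask_mem_codeSets hm hr) (decode_mem_M24 hc)) (actMono c m) := by
  have hv := isM24_valid hc
  intro n h
  have hbd : ∀ i < 24, 0 < byte n (ap c i) ∧ byte n (ap c i) < 256 := by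
    intro i hi
    have hl := Cfsg.Agent.Lib.Golay.valid_ap_lt hv hi
    have := h.byte_bounds hl
    omega
  have hf : ∀ i < 24, monoTerm c m n i < 256 := fun i hi => (sg_val (hbd i hi).1 (hbd i hi).2).1
  rw [actMono_eq]
  refine ⟨pack_idxL_lt _ hf, ?_⟩
  rw [monoCo0_apply]
  funext p
  have hi := idx_lt p
  show mono (ofMask m) (decode c) (dec n) p = dec _ p
  rw [Cfsg.Agent.Lib.Co0Mono.mono_apply]
  show _ = ((byte _ (idx p) : ℕ) : ℤ) - 128
  rw [byte_pack_idxL _ hf hi]
  have h2 := (sg_val (m := m) (i := idx p) (hbd _ hi).1 (hbd _ hi).2).2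
  unfold monoTerm
  rw [h2]
  have h3 : dec n (decode c p) = (byte n (ap c (idx p)) : ℤ) - 128 := by
    show (byte n (idx (decode c p)) : ℤ) - 128 = _
    rw [idx_decode hv]
  simp only [mem_ofMask, h3]

/-! ### Negation -/

/-- the constant of negation -/
def negK : ℕ := 6301717820623491276635145460161421970675305857971736609024

/-- negation on codes -/
def actNeg (n : ℕ) : ℕ := Nat.sub negK n

theorem pack_idxL_bytes {n : ℕ} (hn : n < 2 ^ 192) : pack (idxL.map (byte n)) = n := by
  have h1 := pack_idxL_lt (byte n) (fun i _ => byte_lt n i)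
  have e : (2 : ℕ) ^ 192 = 256 ^ 24 := by norm_num
  rw [e] at h1 hn
  refine eq_of_bytes h1 hn fun i hi => ?_
  exact byte_pack_idxL _ (fun i _ => byte_lt n i) hi

theorem pack_add (l : List ℕ) (f g : ℕ → ℕ) :
    pack (l.map f) + pack (l.map g) = pack (l.map fun i => f i + g i) := by
  induction l with
  | nil => rfl
  | cons a l ih =>
    simp only [List.map_cons]
    show (f a + 256 * pack (l.map f)) + (g a + 256 * pack (l.map g)) =
      (f a + g a) + 256 * pack (l.map fun i => f i + g i)
    rw [← ih]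
    ring

theorem negK_eq : negK = pack (idxL.map fun _ => 256) := by decide +kernel

theorem actNeg_eq {n : ℕ} (h : St n) : actNeg n = pack (idxL.map fun i => 256 - byte n i) := by
  have h1 : pack (idxL.map fun i => 256 - byte n i) + n = negK := by
    have e := pack_idxL_bytes h.1
    have h2 : pack (idxL.map fun i => 256 - byte n i) + n
        = pack (idxL.map fun i => 256 - byte n i) + pack (idxL.map (byte n)) := by rw [e]
    rw [h2, pack_add, negK_eq]
    apply congrArg pack
    apply List.map_congr_left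
    intro i hi
    have := (h.byte_bounds (mem_idxL.1 hi))
    omega
  have h3 : actNeg n = negK - n := rfl
  rw [h3, ← h1, Nat.add_sub_cancel]

theorem actNeg_spec : ActsOn negCo0 actNeg := by
  intro n h
  have hf : ∀ i < 24, 256 - byte n i < 256 := by
    intro i hi
    have := h.byte_bounds hi
    omega
  rw [actNeg_eq h]
  refine ⟨pack_idxL_lt _ hf, ?_⟩
  funext p
  have hi := idx_lt p
  show - dec n p = ((byte _ (idx p) : ℕ) : ℤ) - 128
  rw [byte_pack_idxL _ hf hi]
  have := h.byte_bounds hi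
  simp only [dec]
  omega

end Cfsg.Agent.Lib.CoVec
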