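import Mathlib
import Cfsg.Agent.Lib.CoVec

set_option autoImplicit false
set_option linter.unusedVariables false
set_option linter.unusedSimpArgs false
set_option linter.unusedSectionVars false

/-!
# Generators of the rank-24 lattice; membership test on codes; the extra automorphism

`xiCo0` is the element outside the monomial group: on each of the six tetrads of a sextet it sends a
coordinate `a` to `a - s / 2` where `s` is the sum over the tetrad, and negates the first tetrad.
-/

namespace Cfsg.Agent.Lib.CoVec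

open Cfsg Finset
open Cfsg.Agent.Lib.Golay (idx pt idx_pt pt_idx idx_lt idxL mem_idxL ap bit bit_eq ofMask mem_ofMask
  decode idx_decode isM24 decode_mem_M24 isM24_valid reduce word support_word word_mem_golayCode R
  golayCode_eq_R rowMasks rowMasks_lt)
open Cfsg.Agent.Lib.Leech (codeSets mem_leechLattice_iff IsForm br br_cases four_dvd_card
  empty_mem_codeSets isForm_zero)

/-! ### sums over points -/

theorem sum_univ_pt' {M : Type*} [AddCommMonoid M] (f : GolayPt → M) :
    ∑ p, f p = ∑ i ∈ range 24, f (pt i) := by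
  refine (Finset.sum_bij' (fun p _ => idx p) (fun i _ => pt i) ?_ ?_ ?_ ?_ ?_)
  · intro p _; simpa using idx_lt p
  · intro i _; exact mem_univ _
  · intro p _; exact pt_idx p
  · intro i hi; exact idx_pt (mem_range.1 hi)
  · intro p _; rw [pt_idx]

theorem list_sum_idxL (f : ℕ → ℕ) : (idxL.map f).sum = ∑ i ∈ range 24, f i := by
  have : (idxL.map f).sum = f 0 + (f 1 + (f 2 + (f 3 + (f 4 + (f 5 + (f 6 + (f 7 + (f 8 + (f 9 + (f 10 +
      (f 11 + (f 12 + (f 13 + (f 14 + (f 15 + (f 16 + (f 17 + (f 18 + (f 19 + (f 20 + (f 21 + (f 22 +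
      (f 23 + 0))))))))))))))))))))))) := rfl
  rw [this]
  simp only [Finset.sum_range_succ, Finset.sum_range_zero]
  ring

theorem sum_sub_const (f : ℕ → ℕ) :
    ∑ i ∈ range 24, ((f i : ℤ) - 128) = ((∑ i ∈ range 24, f i : ℕ) : ℤ) - 3072 := by
  rw [Finset.sum_sub_distrib, Finset.sum_const, Finset.card_range, Nat.cast_sum, nsmul_eq_mul]
  norm_num

/-! ### membership test -/

/-- the check of a normal form with given data -/
def formChk (n m a : ℕ) : Bool :=
  idxL.all (fun i => Nat.beq (byte n i % 4) ((m + 2 * bit a i) % 4)) &&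
  Nat.beq ((idxL.map (byte n)).sum % 8) ((4 * m) % 8) && Nat.beq (reduce a) 0 && Nat.blt a (2 ^ 24)

theorem isForm_of_chk {n m a : ℕ} (h : formChk n m a = true) : IsForm (dec n) m (ofMask a) := by
  simp only [formChk, Bool.and_eq_true, List.all_eq_true] at h
  obtain ⟨⟨⟨h1, h2⟩, h3⟩, h4⟩ := h
  have h3' : reduce a = 0 := Nat.eq_of_beq_eq_true h3
  have h4' : a < 2 ^ 24 := by simpa [Nat.blt_eq] using h4
  refine ⟨ofMask_mem_codeSets h4' h3', fun p => ?_, ?_⟩
  · have hi := idx_lt p
    have h5 := Nat.eq_of_beq_eq_true (h1 _ (mem_idxL.2 hi))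
    rw [bit_eq] at h5
    unfold Int.ModEq
    simp only [dec, br, mem_ofMask]
    cases ht : a.testBit (idx p)
    · rw [ht] at h5
      simp only [Bool.toNat_false, Bool.false_eq_true, if_false] at h5 ⊢
      omega
    · rw [ht] at h5
      simp only [Bool.toNat_true, if_true] at h5 ⊢
      omega
  · have h5 := Nat.eq_of_beq_eq_true h2
    rw [list_sum_idxL] at h5
    rw [sum_univ_pt']
    have h6 : ∑ i ∈ range 24, dec n (pt i) = ∑ i ∈ range 24, ((byte n i : ℤ) - 128) :=
      Finset.sum_congr rfl fun i hi => dec_pt n (mem_range.1 hi)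
    rw [h6, sum_sub_const]
    unfold Int.ModEq
    generalize (∑ i ∈ range 24, byte n i) = S at h5 ⊢
    omega

/-- the canonical data -/
def aOf (n m : ℕ) : ℕ :=
  idxL.foldr (fun i acc => Nat.lor (Nat.shiftLeft (((byte n i + 4 - m) / 2) % 2) i) acc) 0

/-- the membership test -/
def memL (n : ℕ) : Bool := formChk n (byte n 0 % 2) (aOf n (byte n 0 % 2))

theorem mem_of_memL {n : ℕ} (h : memL n = true) : dec n ∈ leechLattice :=
  mem_leechLattice_iff.2 ⟨_, _, isForm_of_chk h⟩

/-! ### vectors from functions -/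

/-- the code of a function on indices -/
def encF (f : ℕ → ℤ) : ℕ := pack (idxL.map fun i => (f i + 128).toNat)

theorem dec_encF (f : ℕ → ℤ) (hf : ∀ i < 24, -128 ≤ f i ∧ f i < 128) :
    dec (encF f) = fun p => f (idx p) := by
  funext p
  have hi := idx_lt p
  have hb : ∀ i < 24, (f i + 128).toNat < 256 := by
    intro i hi
    have := hf i hi
    omega
  show ((byte _ (idx p) : ℕ) : ℤ) - 128 = _
  rw [encF, byte_pack_idxL (fun i => (f i + 128).toNat) hb hi]
  have := hf _ hi
  show (((f (idx p) + 128).toNat : ℕ) : ℤ) - 128 = _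
  omega

theorem encF_lt (f : ℕ → ℤ) (hf : ∀ i < 24, -128 ≤ f i ∧ f i < 128) : encF f < 2 ^ 192 :=
  pack_idxL_lt _ (by
    intro i hi
    have := hf i hi
    omega)

/-! ### generators of the lattice -/

/-- the vector 4 at `i` and 4 at the last index -/
def e4F (i j : ℕ) : ℤ := if j = i ∨ j = 23 then 4 else 0
/-- the vector 8 at the last index -/
def e8F (j : ℕ) : ℤ := if j = 23 then 8 else 0
/-- twice a word -/
def twoF (r j : ℕ) : ℤ := 2 * (bit r j : ℤ)
/-- the odd vector -/
def oddF (j : ℕ) : ℤ := if j = 23 then -3 else 1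

/-- The finite generating set. -/
def genSet : Set (GolayPt → ℤ) :=
  {x | (∃ i < 23, x = dec (encF (e4F i))) ∨ x = dec (encF e8F) ∨ (∃ r ∈ rowMasks, x = dec (encF (twoF r))) ∨
    x = dec (encF oddF)}

theorem bit_le_one (r j : ℕ) : bit r j ≤ 1 := by
  rw [bit_eq]; cases r.testBit j <;> simp

theorem e4F_bd (i j : ℕ) : -128 ≤ e4F i j ∧ e4F i j < 128 := by
  unfold e4F; split_ifs <;> norm_num
theorem e8F_bd (j : ℕ) : -128 ≤ e8F j ∧ e8F j < 128 := by
  unfold e8F; split_ifs <;> norm_num
theorem twoF_bd (r j : ℕ) : -128 ≤ twoF r j ∧ twoF r j < 128 := by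
  unfold twoF
  have := bit_le_one r j
  omega
theorem oddF_bd (j : ℕ) : -128 ≤ oddF j ∧ oddF j < 128 := by
  unfold oddF; split_ifs <;> norm_num

theorem dec_e4F (i : ℕ) : dec (encF (e4F i)) = fun p => e4F i (idx p) :=
  dec_encF _ fun j _ => e4F_bd i j
theorem dec_e8F : dec (encF e8F) = fun p => e8F (idx p) :=
  dec_encF _ fun j _ => e8F_bd j
theorem dec_twoF (r : ℕ) : dec (encF (twoF r)) = fun p => twoF r (idx p) :=
  dec_encF _ fun j _ => twoF_bd r j
theorem dec_oddF : dec (encF oddF) = fun p => oddF (idx p) :=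
  dec_encF _ fun j _ => oddF_bd j

/-- the subgroup generated -/
def genLat : AddSubgroup (GolayPt → ℤ) := AddSubgroup.closure genSet

theorem pi_sum_single (x : GolayPt → ℤ) : x = ∑ p, Pi.single p (x p) := by
  exact (Finset.univ_sum_single x).symm

theorem idx_eq_23 {p : GolayPt} : idx p = 23 ↔ p = none := by
  constructor
  · intro h
    cases p with
    | none => rfl
    | some a =>
      have : ZMod.val a < 23 := ZMod.val_lt a
      simp only [idx] at h
      omega
  · rintro rfl; rfl

theorem idx_eq_iff {p q : GolayPt} : idx p = idx q ↔ p = q :=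
  ⟨fun h => Cfsg.Agent.Lib.Golay.idx_injective h, fun h => h ▸ rfl⟩

/-- The vector attached to a point other than the last one. -/
theorem e4_mem {p : GolayPt} (hp : p ≠ none) :
    (fun q : GolayPt => e4F (idx p) (idx q)) ∈ genLat := by
  have h1 : idx p < 23 := by
    have := idx_lt p
    have h2 : idx p ≠ 23 := fun h => hp (idx_eq_23.1 h)
    omega
  apply AddSubgroup.subset_closure
  left
  exact ⟨idx p, h1, (dec_e4F _).symm⟩

theorem e8_mem : (fun q : GolayPt => e8F (idx q)) ∈ genLat :=
  AddSubgroup.subset_closure (Or.inr (Or.inl dec_e8F.symm))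

theorem two_mem {r : ℕ} (hr : r ∈ rowMasks) : (fun q : GolayPt => twoF r (idx q)) ∈ genLat :=
  AddSubgroup.subset_closure (Or.inr (Or.inr (Or.inl ⟨r, hr, (dec_twoF r).symm⟩)))

theorem odd_mem : (fun q : GolayPt => oddF (idx q)) ∈ genLat :=
  AddSubgroup.subset_closure (Or.inr (Or.inr (Or.inr dec_oddF.symm)))

/-- Step A: vectors with coordinates divisible by 4. -/
theorem mem_genLat_of_form_zero {x : GolayPt → ℤ} (hx : IsForm x 0 ∅) : x ∈ genLat := by
  obtain ⟨-, h1, h2⟩ := hx
  have h4 : ∀ p, 4 ∣ x p := by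
    intro p
    have := h1 p
    simp only [br, notMem_empty, if_false] at this
    unfold Int.ModEq at this
    omega
  choose y hy using h4
  have hsum : (2 : ℤ) ∣ ∑ p, y p := by
    have e : ∑ p, x p = 4 * ∑ p, y p := by
      rw [Finset.mul_sum]
      exact Finset.sum_congr rfl fun p _ => hy p
    rw [e] at h2
    unfold Int.ModEq at h2
    omega
  obtain ⟨k, hk⟩ := hsum
  -- split off the last point
  have hs : ∑ p, y p = y none + ∑ p ∈ univ.erase none, y p := by
    rw [Finset.add_sum_erase _ _ (mem_univ _)]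
  set T := ∑ p ∈ univ.erase none, y p with hT
  have hdecomp : x = (∑ p ∈ univ.erase none, (y p) • (fun q : GolayPt => e4F (idx p) (idx q))) +
      (k - T) • (fun q : GolayPt => e8F (idx q)) := by
    funext q
    simp only [Pi.add_apply, Finset.sum_apply, Pi.smul_apply, smul_eq_mul]
    by_cases hq : q = none
    · subst hq
      have h5 : ∀ p ∈ univ.erase (none : GolayPt), y p * e4F (idx p) (idx (none : GolayPt)) = y p * 4 := by
        intro p _
        simp [e4F, idx]
      rw [Finset.sum_congr rfl h5, ← Finset.sum_mul, ← hT]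
      have h6 : e8F (idx (none : GolayPt)) = 8 := by simp [e8F, idx]
      rw [h6, hy none]
      rw [hs] at hk
      linarith
    · have h7 : e8F (idx q) = 0 := by
        simp only [e8F]
        rw [if_neg (fun h => hq (idx_eq_23.1 h))]
      have h8 : ∀ p ∈ univ.erase (none : GolayPt), y p * e4F (idx p) (idx q) = if p = q then y q * 4 else 0 := by
        intro p hp
        have hp' : p ≠ none := (mem_erase.1 hp).1
        simp only [e4F, idx_eq_iff]
        by_cases hpq : p = q
        · subst hpq
          simp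
        · have : ¬ (q = p ∨ idx q = 23) := by
            rintro (h | h)
            · exact hpq h.symm
            · exact hq (idx_eq_23.1 h)
          rw [if_neg this, if_neg hpq, mul_zero]
      rw [Finset.sum_congr rfl h8, Finset.sum_ite_eq' _ q, if_pos (mem_erase.2 ⟨hq, mem_univ _⟩), h7, hy q]
      ring
  rw [hdecomp]
  refine genLat.add_mem (genLat.sum_mem fun p hp => ?_) (genLat.zsmul_mem e8_mem _)
  exact genLat.zsmul_mem (e4_mem (mem_erase.1 hp).1) _

theorem two_isForm {r : ℕ} (hr : r < 2 ^ 24) (h : reduce r = 0) :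
    IsForm (fun q => twoF r (idx q)) 0 (ofMask r) := by
  have hmem := ofMask_mem_codeSets hr h
  refine ⟨hmem, fun p => ?_, ?_⟩
  · simp only [twoF, br, mem_ofMask, bit_eq]
    unfold Int.ModEq
    cases r.testBit (idx p) <;> simp
  · have h4 := four_dvd_card hmem
    have e : ∑ i, twoF r (idx i) = 2 * ((ofMask r).card : ℤ) := by
      rw [card_eq_sum_ones, Nat.cast_sum, Finset.mul_sum, Nat.cast_one, ofMask, sum_filter]
      refine Finset.sum_congr rfl fun p _ => ?_
      simp only [twoF, bit_eq]
      cases r.testBit (idx p) <;> simp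
    rw [e]
    obtain ⟨c, hc⟩ := h4
    rw [hc]
    unfold Int.ModEq
    push_cast
    omega

theorem form_sub {x y : GolayPt → ℤ} {α β : Finset GolayPt} (hx : IsForm x 0 α) (hy : IsForm y 0 β) :
    IsForm (x - y) 0 (symmDiff α β) := by
  have := hx.add hy.neg
  simpa [sub_eq_add_neg] using this

theorem form_word_mem (w : GolayPt → ZMod 2) (hw : w ∈ R) :
    ∀ x, IsForm x 0 (support₂ w) → x ∈ genLat := by
  induction hw using Submodule.span_induction with
  | mem w hw =>
    obtain ⟨r, hr, rfl⟩ := hw
    intro x hx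
    rw [support_word] at hx
    have hr1 : r < 2 ^ 24 := rowMasks_lt r hr
    have hr2 : reduce r = 0 := by
      have : ∀ r ∈ rowMasks, reduce r = 0 := by decide +kernel
      exact this r hr
    have h2 := form_sub hx (two_isForm hr1 hr2)
    rw [symmDiff_self] at h2
    have h3 := mem_genLat_of_form_zero h2
    have h4 := genLat.add_mem h3 (two_mem hr)
    simpa using h4
  | zero =>
    intro x hx
    have : support₂ (0 : GolayPt → ZMod 2) = ∅ := by
      ext p; simp [support₂]
    rw [this] at hx
    exact mem_genLat_of_form_zero hx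
  | add u v hu hv ihu ihv =>
    intro x hx
    have hsupp : support₂ (u + v) = symmDiff (support₂ u) (support₂ v) :=
      Cfsg.Agent.Lib.Leech.support₂_add u v
    rw [hsupp] at hx
    -- the word v has a coded vector
    have hvm : Cfsg.Agent.Lib.Golay.maskOf v < 2 ^ 24 := Cfsg.Agent.Lib.Golay.maskOf_lt v
    have hv' : word (Cfsg.Agent.Lib.Golay.maskOf v) = v := Cfsg.Agent.Lib.Golay.word_maskOf v
    have hvc : v ∈ golayCode := by rw [golayCode_eq_R]; exact hv
    have hred : reduce (Cfsg.Agent.Lib.Golay.maskOf v) = 0 :=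
      (Cfsg.Agent.Lib.Golay.mem_golayCode_iff v).1 hvc
    have hz := two_isForm hvm hred
    have hsv : ofMask (Cfsg.Agent.Lib.Golay.maskOf v) = support₂ v := by
      rw [← support_word, hv']
    rw [hsv] at hz
    have h2 := form_sub hx hz
    have e : symmDiff (symmDiff (support₂ u) (support₂ v)) (support₂ v) = support₂ u := by
      simp
    rw [e] at h2
    have h3 := ihu _ h2
    have h4 := genLat.add_mem h3 (ihv _ hz)
    simpa using h4
  | smul a u hu ih =>
    intro x hx
    have h0 : a = 0 ∨ a = 1 := by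
      have : ∀ b : ZMod 2, b = 0 ∨ b = 1 := by decide
      exact this a
    rcases h0 with rfl | rfl
    · have : support₂ ((0 : ZMod 2) • u) = ∅ := by
        ext p; simp [support₂]
      rw [this] at hx
      exact mem_genLat_of_form_zero hx
    · rw [one_smul] at hx
      exact ih x hx

theorem odd_isForm : IsForm (fun q => oddF (idx q)) 1 ∅ := by
  refine ⟨empty_mem_codeSets, fun p => ?_, ?_⟩
  · simp only [oddF, br, notMem_empty, if_false]
    unfold Int.ModEq
    split_ifs <;> norm_num
  · decide +kernel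

/-- The finite set generates the lattice. -/
theorem leechLattice_le_genLat : leechLattice ≤ genLat := by
  intro x hx
  obtain ⟨m, α, h⟩ := mem_leechLattice_iff.1 hx
  obtain ⟨β, h | h⟩ := h.normal
  · have h0 := h.1
    obtain ⟨w, hw, hs⟩ := h0
    rw [golayCode_eq_R] at hw
    rw [← hs] at h
    exact form_word_mem w hw x h
  · have h2 := h.add odd_isForm.neg
    have e : (1 : ℤ) + -1 = 0 := by norm_num
    have e2 : symmDiff β (∅ : Finset GolayPt) = β := by simp
    rw [e, e2] at h2
    have h0 := h2.1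
    obtain ⟨w, hw, hs⟩ := h0
    rw [← hs] at h2
    rw [golayCode_eq_R] at hw
    have h4 := form_word_mem w hw _ h2
    have h5 := genLat.add_mem h4 odd_mem
    simpa using h5

/-- Induction over the lattice. -/
theorem lattice_induction (Q : AddSubgroup (GolayPt → ℤ))
    (h1 : ∀ i < 23, dec (encF (e4F i)) ∈ Q) (h2 : dec (encF e8F) ∈ Q)
    (h3 : ∀ r ∈ rowMasks, dec (encF (twoF r)) ∈ Q) (h4 : dec (encF oddF) ∈ Q) :
    leechLattice ≤ Q := by
  refine leechLattice_le_genLat.trans ((AddSubgroup.closure_le _).2 ?_)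
  rintro x (⟨i, hi, rfl⟩ | rfl | ⟨r, hr, rfl⟩ | rfl)
  · exact h1 i hi
  · exact h2
  · exact h3 r hr
  · exact h4

end Cfsg.Agent.Lib.CoVec
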