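import Mathlib
import Cfsg.Agent.Lib.CoXi

set_option autoImplicit false
set_option linter.unusedVariables false
set_option linter.unusedSimpArgs false
set_option linter.unusedSectionVars false

/-!
# The extra automorphism of the rank-24 lattice
-/

namespace Cfsg.Agent.Lib.CoVec

open Cfsg Finset
open Cfsg.Agent.Lib.Golay (idx pt idx_pt pt_idx idx_lt idxL mem_idxL ap bit bit_eq ofMask mem_ofMask
  decode idx_decode isM24 decode_mem_M24 isM24_valid reduce word support_word word_mem_golayCode R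
  golayCode_eq_R rowMasks rowMasks_lt)
open Cfsg.Agent.Lib.Leech (codeSets mem_leechLattice_iff IsForm br br_cases)

/-! ### norms on codes -/

/-- square of the distance to 128 -/
def sqd (b : ℕ) : ℕ := (b - 128) * (b - 128) + (128 - b) * (128 - b)

theorem sqd_cast (b : ℕ) : ((sqd b : ℕ) : ℤ) = ((b : ℤ) - 128) ^ 2 := by
  unfold sqd
  rcases le_total b 128 with h | h
  · have h1 : b - 128 = 0 := by omega
    rw [h1]
    push_cast [Nat.cast_sub h]
    ring
  · have h1 : 128 - b = 0 := by omega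
    rw [h1]
    push_cast [Nat.cast_sub h]
    ring

/-- the norm of a code -/
def sqN (n : ℕ) : ℕ := (idxL.map fun i => sqd (byte n i)).sum

theorem sqNorm_dec (n : ℕ) : sqNorm (dec n) = (sqN n : ℤ) := by
  unfold sqNorm sqN
  rw [list_sum_idxL, sum_univ_pt', Nat.cast_sum]
  refine Finset.sum_congr rfl fun i hi => ?_
  rw [sqd_cast, dec_pt n (mem_range.1 hi)]

/-- the inner product of two codes, with offset: the first number minus the second one -/
def dotA (a b : ℕ) : ℕ := (idxL.map fun i => byte a i * byte b i).sum + 393216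
/-- the inner product of two codes, with offset: the first number minus the second one -/
def dotB (a b : ℕ) : ℕ := 128 * (idxL.map fun i => byte a i + byte b i).sum

theorem dotInt_dec (a b : ℕ) : dotInt (dec a) (dec b) = (dotA a b : ℤ) - (dotB a b : ℤ) := by
  unfold dotInt dotA dotB
  rw [list_sum_idxL, list_sum_idxL, sum_univ_pt']
  have h : ∀ i ∈ range 24, dec a (pt i) * dec b (pt i) =
      ((byte a i * byte b i : ℕ) : ℤ) + 16384 - 128 * ((byte a i + byte b i : ℕ) : ℤ) := by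
    intro i hi
    rw [dec_pt a (mem_range.1 hi), dec_pt b (mem_range.1 hi)]
    push_cast
    ring
  rw [Finset.sum_congr rfl h, Finset.sum_sub_distrib, Finset.sum_add_distrib, Finset.sum_const,
    Finset.card_range, ← Finset.mul_sum, nsmul_eq_mul]
  push_cast
  ring

/-! ### the sextet -/

/-- the number of the tetrad of a coordinate -/
def tetNo (i : ℕ) : ℕ :=
  [0, 0, 0, 1, 5, 1, 4, 4, 2, 3, 3, 2, 2, 5, 1, 3, 5, 1, 2, 4, 3, 4, 5, 0].getD i 0

/-- the sum over a tetrad -/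
def xiS (x : GolayPt → ℤ) (t : ℕ) : ℤ :=
  match t with
  | 0 => x (pt 0) + x (pt 1) + x (pt 2) + x (pt 23)
  | 1 => x (pt 3) + x (pt 5) + x (pt 14) + x (pt 17)
  | 2 => x (pt 8) + x (pt 11) + x (pt 12) + x (pt 18)
  | 3 => x (pt 9) + x (pt 10) + x (pt 15) + x (pt 20)
  | 4 => x (pt 6) + x (pt 7) + x (pt 19) + x (pt 21)
  | _ => x (pt 4) + x (pt 13) + x (pt 16) + x (pt 22)

/-- the extra map on vectors -/
def xiFun (x : GolayPt → ℤ) (p : GolayPt) : ℤ :=
  if tetNo (idx p) = 0 then -(x p - xiS x 0 / 2) else x p - xiS x (tetNo (idx p)) / 2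

/-- twice the extra map, additive on all vectors -/
def xiD (x : GolayPt → ℤ) (p : GolayPt) : ℤ :=
  if tetNo (idx p) = 0 then -(2 * x p - xiS x 0) else 2 * x p - xiS x (tetNo (idx p))

theorem xiS_add (x y : GolayPt → ℤ) (t : ℕ) : xiS (x + y) t = xiS x t + xiS y t := by
  unfold xiS
  split <;> simp only [Pi.add_apply] <;> ring

theorem xiS_zero (t : ℕ) : xiS 0 t = 0 := by
  unfold xiS
  split <;> simp

theorem xiS_neg (x : GolayPt → ℤ) (t : ℕ) : xiS (-x) t = - xiS x t := by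
  unfold xiS
  split <;> simp only [Pi.neg_apply] <;> ring

theorem xiD_add (x y : GolayPt → ℤ) : xiD (x + y) = xiD x + xiD y := by
  funext p
  simp only [xiD, Pi.add_apply, xiS_add]
  split_ifs <;> ring

theorem xiD_zero : xiD 0 = 0 := by
  funext p
  simp only [xiD, xiS_zero, Pi.zero_apply]
  split_ifs <;> ring

theorem xiD_neg (x : GolayPt → ℤ) : xiD (-x) = - xiD x := by
  funext p
  simp only [xiD, xiS_neg, Pi.neg_apply]
  split_ifs <;> ring

theorem parity_of_mem {x : GolayPt → ℤ} (hx : x ∈ leechLattice) : ∃ m : ℤ, ∀ p, x p % 2 = m % 2 := by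
  obtain ⟨m, α, -, h1, -⟩ := mem_leechLattice_iff.1 hx
  refine ⟨m, fun p => ?_⟩
  have := h1 p
  unfold Int.ModEq at this
  rcases br_cases α p with ⟨-, h⟩ | ⟨-, h⟩ <;> rw [h] at this <;> omega

theorem xiS_even {x : GolayPt → ℤ} (hx : x ∈ leechLattice) (t : ℕ) : xiS x t % 2 = 0 := by
  obtain ⟨m, hm⟩ := parity_of_mem hx
  have key : ∀ a b c d : GolayPt, (x a + x b + x c + x d) % 2 = 0 := by
    intro a b c d
    have h1 := hm a
    have h2 := hm b
    have h3 := hm c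
    have h4 := hm d
    omega
  unfold xiS
  split <;> exact key _ _ _ _

theorem xiD_eq {x : GolayPt → ℤ} (hx : ∀ t, xiS x t % 2 = 0) (p : GolayPt) : xiD x p = 2 * xiFun x p := by
  have h0 := hx 0
  have h1 := hx (tetNo (idx p))
  simp only [xiD, xiFun]
  split_ifs <;> omega

theorem xiFun_add {x y : GolayPt → ℤ} (hx : ∀ t, xiS x t % 2 = 0) (hy : ∀ t, xiS y t % 2 = 0) :
    xiFun (x + y) = xiFun x + xiFun y := by
  funext p
  have h1 := xiD_eq hx p
  have h2 := xiD_eq hy p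
  have h3 : ∀ t, xiS (x + y) t % 2 = 0 := by
    intro t
    rw [xiS_add]
    have := hx t
    have := hy t
    omega
  have h4 := xiD_eq h3 p
  rw [xiD_add] at h4
  simp only [Pi.add_apply] at h4 ⊢
  omega

theorem xi_0 (x : GolayPt → ℤ) : xiFun x (pt 0) = -(x (pt 0) - xiS x 0 / 2) := rfl
theorem xi_1 (x : GolayPt → ℤ) : xiFun x (pt 1) = -(x (pt 1) - xiS x 0 / 2) := rfl
theorem xi_2 (x : GolayPt → ℤ) : xiFun x (pt 2) = -(x (pt 2) - xiS x 0 / 2) := rfl
theorem xi_23 (x : GolayPt → ℤ) : xiFun x (pt 23) = -(x (pt 23) - xiS x 0 / 2) := rfl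
theorem xi_3 (x : GolayPt → ℤ) : xiFun x (pt 3) = x (pt 3) - xiS x 1 / 2 := rfl
theorem xi_5 (x : GolayPt → ℤ) : xiFun x (pt 5) = x (pt 5) - xiS x 1 / 2 := rfl
theorem xi_14 (x : GolayPt → ℤ) : xiFun x (pt 14) = x (pt 14) - xiS x 1 / 2 := rfl
theorem xi_17 (x : GolayPt → ℤ) : xiFun x (pt 17) = x (pt 17) - xiS x 1 / 2 := rfl
theorem xi_8 (x : GolayPt → ℤ) : xiFun x (pt 8) = x (pt 8) - xiS x 2 / 2 := rfl
theorem xi_11 (x : GolayPt → ℤ) : xiFun x (pt 11) = x (pt 11) - xiS x 2 / 2 := rfl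
theorem xi_12 (x : GolayPt → ℤ) : xiFun x (pt 12) = x (pt 12) - xiS x 2 / 2 := rfl
theorem xi_18 (x : GolayPt → ℤ) : xiFun x (pt 18) = x (pt 18) - xiS x 2 / 2 := rfl
theorem xi_9 (x : GolayPt → ℤ) : xiFun x (pt 9) = x (pt 9) - xiS x 3 / 2 := rfl
theorem xi_10 (x : GolayPt → ℤ) : xiFun x (pt 10) = x (pt 10) - xiS x 3 / 2 := rfl
theorem xi_15 (x : GolayPt → ℤ) : xiFun x (pt 15) = x (pt 15) - xiS x 3 / 2 := rfl
theorem xi_20 (x : GolayPt → ℤ) : xiFun x (pt 20) = x (pt 20) - xiS x 3 / 2 := rfl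
theorem xi_6 (x : GolayPt → ℤ) : xiFun x (pt 6) = x (pt 6) - xiS x 4 / 2 := rfl
theorem xi_7 (x : GolayPt → ℤ) : xiFun x (pt 7) = x (pt 7) - xiS x 4 / 2 := rfl
theorem xi_19 (x : GolayPt → ℤ) : xiFun x (pt 19) = x (pt 19) - xiS x 4 / 2 := rfl
theorem xi_21 (x : GolayPt → ℤ) : xiFun x (pt 21) = x (pt 21) - xiS x 4 / 2 := rfl
theorem xi_4 (x : GolayPt → ℤ) : xiFun x (pt 4) = x (pt 4) - xiS x 5 / 2 := rfl
theorem xi_13 (x : GolayPt → ℤ) : xiFun x (pt 13) = x (pt 13) - xiS x 5 / 2 := rfl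
theorem xi_16 (x : GolayPt → ℤ) : xiFun x (pt 16) = x (pt 16) - xiS x 5 / 2 := rfl
theorem xi_22 (x : GolayPt → ℤ) : xiFun x (pt 22) = x (pt 22) - xiS x 5 / 2 := rfl

theorem xiS_0 (x : GolayPt → ℤ) : xiS x 0 = x (pt 0) + x (pt 1) + x (pt 2) + x (pt 23) := rfl
theorem xiS_1 (x : GolayPt → ℤ) : xiS x 1 = x (pt 3) + x (pt 5) + x (pt 14) + x (pt 17) := rfl
theorem xiS_2 (x : GolayPt → ℤ) : xiS x 2 = x (pt 8) + x (pt 11) + x (pt 12) + x (pt 18) := rfl
theorem xiS_3 (x : GolayPt → ℤ) : xiS x 3 = x (pt 9) + x (pt 10) + x (pt 15) + x (pt 20) := rfl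
theorem xiS_4 (x : GolayPt → ℤ) : xiS x 4 = x (pt 6) + x (pt 7) + x (pt 19) + x (pt 21) := rfl
theorem xiS_5 (x : GolayPt → ℤ) : xiS x 5 = x (pt 4) + x (pt 13) + x (pt 16) + x (pt 22) := rfl

theorem sum24' (f : ℕ → ℤ) : ∑ i ∈ range 24, f i = (f 0 + f 1 + f 2 + f 23) + (f 3 + f 5 + f 14 + f 17) +
    (f 8 + f 11 + f 12 + f 18) + (f 9 + f 10 + f 15 + f 20) + (f 6 + f 7 + f 19 + f 21) +
    (f 4 + f 13 + f 16 + f 22) := by
  simp only [Finset.sum_range_succ, Finset.sum_range_zero]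
  ring

theorem tet_sq (a b c d h : ℤ) (hS : a + b + c + d = 2 * h) :
    (a - h) ^ 2 + (b - h) ^ 2 + (c - h) ^ 2 + (d - h) ^ 2 = a ^ 2 + b ^ 2 + c ^ 2 + d ^ 2 := by
  linear_combination (-2 * h) * hS

theorem half_eq {s : ℤ} (h : s % 2 = 0) : s = 2 * (s / 2) := by omega

/-- Norms are preserved. -/
theorem sqNorm_xiFun {x : GolayPt → ℤ} (hx : ∀ t, xiS x t % 2 = 0) : sqNorm (xiFun x) = sqNorm x := by
  unfold sqNorm
  rw [sum_univ_pt', sum_univ_pt', sum24', sum24']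
  simp only [xi_0, xi_1, xi_2, xi_3, xi_4, xi_5, xi_6, xi_7, xi_8, xi_9, xi_10, xi_11, xi_12, xi_13,
    xi_14, xi_15, xi_16, xi_17, xi_18, xi_19, xi_20, xi_21, xi_22, xi_23, neg_sq]
  have h0 := tet_sq (x (pt 0)) (x (pt 1)) (x (pt 2)) (x (pt 23)) (xiS x 0 / 2) (half_eq (hx 0))
  have h1 := tet_sq (x (pt 3)) (x (pt 5)) (x (pt 14)) (x (pt 17)) (xiS x 1 / 2) (half_eq (hx 1))
  have h2 := tet_sq (x (pt 8)) (x (pt 11)) (x (pt 12)) (x (pt 18)) (xiS x 2 / 2) (half_eq (hx 2))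
  have h3 := tet_sq (x (pt 9)) (x (pt 10)) (x (pt 15)) (x (pt 20)) (xiS x 3 / 2) (half_eq (hx 3))
  have h4 := tet_sq (x (pt 6)) (x (pt 7)) (x (pt 19)) (x (pt 21)) (xiS x 4 / 2) (half_eq (hx 4))
  have h5 := tet_sq (x (pt 4)) (x (pt 13)) (x (pt 16)) (x (pt 22)) (xiS x 5 / 2) (half_eq (hx 5))
  linarith

/-- The tetrad sums of the image. -/
theorem xiS_xiFun {x : GolayPt → ℤ} (hx : ∀ t, xiS x t % 2 = 0) (t : ℕ) :
    xiS (xiFun x) t = if t = 0 then xiS x 0 else - xiS x t := by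
  have h0 := hx 0
  have h1 := hx 1
  have h2 := hx 2
  have h3 := hx 3
  have h4 := hx 4
  have h5 := hx 5
  match t with
  | 0 =>
    simp only [if_true, xiS_0 (xiFun x), xi_0, xi_1, xi_2, xi_23]
    rw [xiS_0] at h0 ⊢
    omega
  | 1 =>
    simp only [xiS_1 (xiFun x), xi_3, xi_5, xi_14, xi_17, show ¬ (1 = 0) by norm_num, if_false]
    rw [xiS_1] at h1 ⊢
    omega
  | 2 =>
    simp only [xiS_2 (xiFun x), xi_8, xi_11, xi_12, xi_18, show ¬ (2 = 0) by norm_num, if_false]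
    rw [xiS_2] at h2 ⊢
    omega
  | 3 =>
    simp only [xiS_3 (xiFun x), xi_9, xi_10, xi_15, xi_20, show ¬ (3 = 0) by norm_num, if_false]
    rw [xiS_3] at h3 ⊢
    omega
  | 4 =>
    simp only [xiS_4 (xiFun x), xi_6, xi_7, xi_19, xi_21, show ¬ (4 = 0) by norm_num, if_false]
    rw [xiS_4] at h4 ⊢
    omega
  | n + 5 =>
    have e : xiS (xiFun x) (n + 5) = xiS (xiFun x) 5 := rfl
    have e2 : xiS x (n + 5) = xiS x 5 := rfl
    rw [e, e2]
    simp only [xiS_5 (xiFun x), xi_4, xi_13, xi_16, xi_22, show ¬ (n + 5 = 0) by omega, if_false]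
    rw [xiS_5] at h5 ⊢
    omega

theorem xiS_xiFun_even {x : GolayPt → ℤ} (hx : ∀ t, xiS x t % 2 = 0) (t : ℕ) : xiS (xiFun x) t % 2 = 0 := by
  rw [xiS_xiFun hx]
  have h0 := hx 0
  have h1 := hx t
  split_ifs <;> omega

/-- The map is an involution. -/
theorem xiFun_xiFun {x : GolayPt → ℤ} (hx : ∀ t, xiS x t % 2 = 0) : xiFun (xiFun x) = x := by
  funext p
  have h0 := hx 0
  have h1 := hx (tetNo (idx p))
  have e0 := xiS_xiFun hx 0
  have e1 := xiS_xiFun hx (tetNo (idx p))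
  simp only [if_true] at e0
  unfold xiFun at *
  by_cases h : tetNo (idx p) = 0
  · simp only [h, if_true, ] at *
    omega
  · simp only [h, if_false] at *
    omega

/-! ### the action on codes -/

/-- half of the sum of bytes of a tetrad -/
def hT (n a b c d : ℕ) : ℕ :=
  Nat.shiftRight (Nat.add (Nat.add (Nat.add (byte n a) (byte n b)) (byte n c)) (byte n d)) 1

/-- byte of a coordinate outside the first tetrad -/
def vP (h x : ℕ) : ℕ := Nat.sub (Nat.add 256 x) h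
/-- byte of a coordinate in the first tetrad -/
def vN (h x : ℕ) : ℕ := Nat.sub h x

/-- half sums, by tetrad -/
def hOf (n t : ℕ) : ℕ :=
  match t with
  | 0 => hT n 0 1 2 23
  | 1 => hT n 3 5 14 17
  | 2 => hT n 8 11 12 18
  | 3 => hT n 9 10 15 20
  | 4 => hT n 6 7 19 21
  | _ => hT n 4 13 16 22

/-- coordinates of the image -/
def xiCoord (n i : ℕ) : ℕ :=
  if tetNo i = 0 then vN (hOf n 0) (byte n i) else vP (hOf n (tetNo i)) (byte n i)

/-- The extra map on codes. -/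
def actXi (n : ℕ) : ℕ :=
  (fun h0 h1 h2 h3 h4 h5 =>
    Nat.add (vN h0 (byte n 0)) <| Nat.mul 256 <| Nat.add (vN h0 (byte n 1)) <| Nat.mul 256 <|
    Nat.add (vN h0 (byte n 2)) <| Nat.mul 256 <| Nat.add (vP h1 (byte n 3)) <| Nat.mul 256 <|
    Nat.add (vP h5 (byte n 4)) <| Nat.mul 256 <| Nat.add (vP h1 (byte n 5)) <| Nat.mul 256 <|
    Nat.add (vP h4 (byte n 6)) <| Nat.mul 256 <| Nat.add (vP h4 (byte n 7)) <| Nat.mul 256 <|
    Nat.add (vP h2 (byte n 8)) <| Nat.mul 256 <| Nat.add (vP h3 (byte n 9)) <| Nat.mul 256 <|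
    Nat.add (vP h3 (byte n 10)) <| Nat.mul 256 <| Nat.add (vP h2 (byte n 11)) <| Nat.mul 256 <|
    Nat.add (vP h2 (byte n 12)) <| Nat.mul 256 <| Nat.add (vP h5 (byte n 13)) <| Nat.mul 256 <|
    Nat.add (vP h1 (byte n 14)) <| Nat.mul 256 <| Nat.add (vP h3 (byte n 15)) <| Nat.mul 256 <|
    Nat.add (vP h5 (byte n 16)) <| Nat.mul 256 <| Nat.add (vP h1 (byte n 17)) <| Nat.mul 256 <|
    Nat.add (vP h2 (byte n 18)) <| Nat.mul 256 <| Nat.add (vP h4 (byte n 19)) <| Nat.mul 256 <|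
    Nat.add (vP h3 (byte n 20)) <| Nat.mul 256 <| Nat.add (vP h4 (byte n 21)) <| Nat.mul 256 <|
    Nat.add (vP h5 (byte n 22)) <| Nat.mul 256 <| Nat.add (vN h0 (byte n 23)) <| Nat.mul 256 <| 0)
  (hT n 0 1 2 23) (hT n 3 5 14 17) (hT n 8 11 12 18) (hT n 9 10 15 20) (hT n 6 7 19 21) (hT n 4 13 16 22)

theorem actXi_eq (n : ℕ) : actXi n = pack (idxL.map (xiCoord n)) := rfl

theorem hT_eq (n a b c d : ℕ) : hT n a b c d = (byte n a + byte n b + byte n c + byte n d) / 2 := by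
  show (byte n a + byte n b + byte n c + byte n d) >>> 1 = _
  rw [Nat.shiftRight_eq_div_pow]

theorem hOf_cast {x : GolayPt → ℤ} {n : ℕ} (hx : x = dec n) (hev : ∀ t, xiS x t % 2 = 0) (t : ℕ) :
    ((hOf n t : ℕ) : ℤ) = xiS x t / 2 + 256 := by
  subst hx
  have h := hev t
  have key : ∀ a b c d : ℕ, a < 24 → b < 24 → c < 24 → d < 24 →
      (dec n (pt a) + dec n (pt b) + dec n (pt c) + dec n (pt d)) % 2 = 0 →
      ((hT n a b c d : ℕ) : ℤ) = (dec n (pt a) + dec n (pt b) + dec n (pt c) + dec n (pt d)) / 2 + 256 := by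
    intro a b c d ha hb hc hd he
    rw [hT_eq, dec_pt n ha, dec_pt n hb, dec_pt n hc, dec_pt n hd] at *
    omega
  match t with
  | 0 => exact key _ _ _ _ (by norm_num) (by norm_num) (by norm_num) (by norm_num) h
  | 1 => exact key _ _ _ _ (by norm_num) (by norm_num) (by norm_num) (by norm_num) h
  | 2 => exact key _ _ _ _ (by norm_num) (by norm_num) (by norm_num) (by norm_num) h
  | 3 => exact key _ _ _ _ (by norm_num) (by norm_num) (by norm_num) (by norm_num) h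
  | 4 => exact key _ _ _ _ (by norm_num) (by norm_num) (by norm_num) (by norm_num) h
  | n' + 5 => exact key 4 13 16 22 (by norm_num) (by norm_num) (by norm_num) (by norm_num) h

theorem St.even {n : ℕ} (h : St n) (t : ℕ) : xiS (dec n) t % 2 = 0 := xiS_even h.2.1 t

/-- The coordinates of the image, for a state. -/
theorem xiCoord_spec {n : ℕ} (h : St n) {i : ℕ} (hi : i < 24) :
    xiCoord n i < 256 ∧ ((xiCoord n i : ℕ) : ℤ) - 128 = xiFun (dec n) (pt i) := by
  have hev := h.even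
  have h1 : xiFun (dec n) (pt i) ^ 2 ≤ 2000 := by
    apply coord_sq_le
    rw [sqNorm_xiFun hev]
    exact h.2.2
  have hb := h.byte_bounds hi
  have hd : dec n (pt i) = (byte n i : ℤ) - 128 := dec_pt n hi
  have hbig : -45 < xiFun (dec n) (pt i) ∧ xiFun (dec n) (pt i) < 45 := by
    constructor <;> nlinarith
  have e : idx (pt i) = i := idx_pt hi
  have hX : xiFun (dec n) (pt i) = if tetNo i = 0 then -(dec n (pt i) - xiS (dec n) 0 / 2)
      else dec n (pt i) - xiS (dec n) (tetNo i) / 2 := by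
    simp only [xiFun, e]
  rw [hX] at hbig ⊢
  unfold xiCoord
  by_cases h0 : tetNo i = 0
  · simp only [h0, if_true] at hbig ⊢
    have h2 := hOf_cast rfl hev 0
    show Nat.sub (hOf n 0) (byte n i) < 256 ∧ ((Nat.sub (hOf n 0) (byte n i) : ℕ) : ℤ) - 128 = _
    have e2 : Nat.sub (hOf n 0) (byte n i) = hOf n 0 - byte n i := rfl
    rw [e2]
    omega
  · simp only [h0, if_false] at hbig ⊢
    have h2 := hOf_cast rfl hev (tetNo i)
    show Nat.sub (Nat.add 256 (byte n i)) (hOf n (tetNo i)) < 256 ∧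
      ((Nat.sub (Nat.add 256 (byte n i)) (hOf n (tetNo i)) : ℕ) : ℤ) - 128 = _
    have e2 : Nat.sub (Nat.add 256 (byte n i)) (hOf n (tetNo i)) = 256 + byte n i - hOf n (tetNo i) := rfl
    rw [e2]
    omega

theorem actXi_spec {n : ℕ} (h : St n) : actXi n < 2 ^ 192 ∧ dec (actXi n) = xiFun (dec n) := by
  have hf : ∀ i < 24, xiCoord n i < 256 := fun i hi => (xiCoord_spec h hi).1
  rw [actXi_eq]
  refine ⟨pack_idxL_lt _ hf, ?_⟩
  funext p
  have hi := idx_lt p
  show ((byte _ (idx p) : ℕ) : ℤ) - 128 = _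
  rw [byte_pack_idxL _ hf hi]
  have := (xiCoord_spec h hi).2
  rwa [pt_idx] at this

/-! ### the lattice is preserved -/

/-- a test on codes -/
def genChk (n : ℕ) : Bool :=
  memL n && memL (actXi n) && Nat.ble (sqN n) 2000

theorem xi_check_e4 : ∀ i < 23, genChk (encF (e4F i)) = true := by decide +kernel
theorem xi_check_e8 : genChk (encF e8F) = true := by decide +kernel
theorem xi_check_two : ∀ r ∈ rowMasks, genChk (encF (twoF r)) = true := by decide +kernel
theorem xi_check_odd : genChk (encF oddF) = true := by decide +kernel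

/-- the subgroup of vectors with image in the lattice -/
def xiQ : AddSubgroup (GolayPt → ℤ) where
  carrier := {x | ∃ y ∈ leechLattice, xiD x = fun p => 2 * y p}
  zero_mem' := ⟨0, leechLattice.zero_mem, by rw [xiD_zero]; funext p; simp⟩
  add_mem' := by
    rintro a b ⟨y, hy, hay⟩ ⟨z, hz, hbz⟩
    refine ⟨y + z, leechLattice.add_mem hy hz, ?_⟩
    rw [xiD_add, hay, hbz]
    funext p
    simp only [Pi.add_apply]
    ring
  neg_mem' := by
    rintro a ⟨y, hy, hay⟩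
    refine ⟨-y, leechLattice.neg_mem hy, ?_⟩
    rw [xiD_neg, hay]
    funext p
    simp only [Pi.neg_apply]
    ring

theorem mem_xiQ_of_chk {f : ℕ → ℤ} (hf : ∀ i < 24, -128 ≤ f i ∧ f i < 128)
    (h : genChk (encF f) = true) : dec (encF f) ∈ xiQ := by
  simp only [genChk, Bool.and_eq_true] at h
  obtain ⟨⟨h1, h2⟩, h3⟩ := h
  have hSt : St (encF f) := by
    refine ⟨encF_lt f hf, mem_of_memL h1, ?_⟩
    rw [sqNorm_dec]
    have : sqN (encF f) ≤ 2000 := by simpa using h3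
    exact_mod_cast this
  refine ⟨dec (actXi (encF f)), mem_of_memL h2, ?_⟩
  funext p
  rw [xiD_eq hSt.even, (actXi_spec hSt).2]

theorem leech_le_xiQ : leechLattice ≤ xiQ :=
  lattice_induction xiQ (fun i hi => mem_xiQ_of_chk (fun j _ => e4F_bd i j) (xi_check_e4 i hi))
    (mem_xiQ_of_chk (fun j _ => e8F_bd j) xi_check_e8)
    (fun r hr => mem_xiQ_of_chk (fun j _ => twoF_bd r j) (xi_check_two r hr))
    (mem_xiQ_of_chk (fun j _ => oddF_bd j) xi_check_odd)

theorem xiFun_mem {x : GolayPt → ℤ} (hx : x ∈ leechLattice) : xiFun x ∈ leechLattice := by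
  obtain ⟨y, hy, hxy⟩ := leech_le_xiQ hx
  have : xiFun x = y := by
    funext p
    have h1 := xiD_eq (xiS_even hx) p
    have h2 : xiD x p = 2 * y p := congrFun hxy p
    omega
  rw [this]
  exact hy

/-- The extra map on the lattice. -/
def xiPerm : Equiv.Perm leechLattice where
  toFun v := ⟨xiFun v, xiFun_mem v.2⟩
  invFun v := ⟨xiFun v, xiFun_mem v.2⟩
  left_inv v := Subtype.ext (xiFun_xiFun (xiS_even v.2))
  right_inv v := Subtype.ext (xiFun_xiFun (xiS_even v.2))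

/-- The extra element of the automorphism group. -/
def xiCo0 : Co0 :=
  ⟨xiPerm, fun v w => Subtype.ext (xiFun_add (xiS_even v.2) (xiS_even w.2)),
    fun v => sqNorm_xiFun (xiS_even v.2)⟩

theorem xiCo0_apply (v : leechLattice) :
    (((xiCo0 : Co0) : Equiv.Perm leechLattice) v : GolayPt → ℤ) = xiFun v := rfl

theorem actXi_acts : ActsOn xiCo0 actXi := by
  intro n h
  refine ⟨(actXi_spec h).1, ?_⟩
  rw [(actXi_spec h).2]
  rfl

end Cfsg.Agent.Lib.CoVec
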