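import Mathlib
import Cfsg.Agent.Lib.Co2YTab
import Cfsg.Agent.Lib.Co2YRun
import Cfsg.Agent.Lib.CoXi2

set_option autoImplicit false
set_option linter.unusedVariables false

/-! The checks on the list of pairs of short vectors. -/

namespace Cfsg.Agent.Lib.CoVec
namespace Co2YG

open Cfsg Cfsg.Agent.Lib.FastDot Cfsg.Agent.Lib.GraphRefine

/-- the inner product with the base point is a given number -/
def dotIs (a b d : ℕ) : Bool := Nat.beq (dotA a b) (Nat.add (dotB a b) d)

/-- the check of a code -/
def chkCode (c : ℕ) : Bool :=
  stChk c && Nat.beq (sqN c) 32 && dotIs McLG.v0 c 16 && Nat.blt (Nat.mul 2 c) Cc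

/-- the class of the number `i` with respect to the base point -/
def chkCls (i c : ℕ) : Bool :=
  cond (Nat.beq i 0) (Nat.beq c p0c)
    (cond (Nat.ble i 891) (dotIs p0c c 16 || dotIs p0c c 0) (dotIs p0c c 8))

set_option maxRecDepth 100000 in
theorem all_code : (List.range 2300).all (fun i => chkCode (codeAt i) && chkCls i (codeAt i)) = true := by decide +kernel

set_option maxRecDepth 100000 in
theorem rows_eq : rows = (List.range 2300).map (fun i => mkRow i (codeAt i)) := by decide +kernel

theorem rows_len : rows.length = 2300 := by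
  rw [rows_eq]
  simp

set_option maxRecDepth 100000 in
theorem codes_nd : ndChk 159226 ((List.range 2300).map codeAt) 0 = true := by decide +kernel

/-- the vectors of a set of generators of the lattice -/
def idChk (f : ℕ → ℕ) : Bool :=
  (List.range 23).all (fun i => stChk (encF (e4F i)) && Nat.beq (f (encF (e4F i))) (encF (e4F i))) &&
    (stChk (encF e8F) && Nat.beq (f (encF e8F)) (encF e8F)) &&
    Cfsg.Agent.Lib.Golay.rowMasks.all (fun r => stChk (encF (twoF r)) && Nat.beq (f (encF (twoF r))) (encF (twoF r))) &&
    (stChk (encF oddF) && Nat.beq (f (encF oddF)) (encF oddF))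

set_option maxRecDepth 100000 in
theorem id11 : idChk ((act 5)^[11]) = true := by decide +kernel

set_option maxRecDepth 100000 in
theorem id9 : idChk ((act 6)^[9]) = true := by decide +kernel

set_option maxRecDepth 100000 in
theorem fix11 : (List.range 2300).all
    (fun i => Nat.beq i 306 || !(Nat.beq (canon (act 5 (codeAt i))) (codeAt i))) = true := by decide +kernel

set_option maxRecDepth 100000 in
theorem fix9 : (List.range 2300).all
    (fun i => Nat.beq i 548 || Nat.beq i 1311 || Nat.beq i 1458 || Nat.beq i 1721 || Nat.beq i 1953 ||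
      !(Nat.beq (canon ((act 6)^[3] (codeAt i))) (codeAt i))) = true := by decide +kernel

set_option maxRecDepth 100000 in
theorem cnt_deg : rows.countP (fun r => Nat.beq (WW (rows.getD 0 0) r) 1) = 1408 := by decide +kernel

set_option maxRecDepth 100000 in
theorem cnt_lam : rows.countP (fun r => Nat.beq (WW (rows.getD 0 0) r) 1 && Nat.beq (WW (rows.getD 892 0) r) 1) = 840 := by
  decide +kernel

set_option maxRecDepth 100000 in
theorem cnt_mu : rows.countP (fun r => Nat.beq (WW (rows.getD 0 0) r) 1 && Nat.beq (WW (rows.getD 1 0) r) 1) = 896 := by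
  decide +kernel

theorem Cc_eq : Cc = pack (Cfsg.Agent.Lib.Golay.idxL.map fun i => byte McLG.v0 i + 128) := by decide +kernel

theorem v0_bytes : ∀ i < 24, 128 ≤ byte McLG.v0 i ∧ byte McLG.v0 i ≤ 132 := by decide +kernel

theorem rG_chk : chkCode rG = true := by decide +kernel

theorem rD_chk : chkCode rD = true := by decide +kernel

end Co2YG
end Cfsg.Agent.Lib.CoVec
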