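import Mathlib
import Cfsg.Agent.Lib.Co2TabD16
import Cfsg.Agent.Lib.Co2TabD8
import Cfsg.Agent.Lib.Co2TabD0
import Cfsg.Agent.Lib.Co0Pair
import Cfsg.Agent.Lib.LeechTheta

set_option autoImplicit false
set_option linter.unusedVariables false

/-! Census of the vectors of squared length 32 by inner product with a fixed one. -/

namespace Cfsg.Agent.Lib.CoCensus

open Cfsg Cfsg.Agent.Lib.CoVec Cfsg.Agent.Lib.CoVec.Co2G

/-- Sum of fibre sizes is at most the size of the set. -/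
theorem sum_fibre_le {α : Type*} {F : Set α} (hF : F.Finite) (f : α → ℤ) (D : Finset ℤ) :
    ∑ d ∈ D, {x | x ∈ F ∧ f x = d}.ncard ≤ F.ncard := by
  classical
  have h1 : ∀ d, {x | x ∈ F ∧ f x = d}.ncard = (hF.toFinset.filter fun x => f x = d).card := by
    intro d
    rw [← Set.ncard_coe_finset]
    congr 1
    ext x
    simp
  simp only [h1]
  rw [Set.ncard_eq_toFinset_card F hF]
  rw [Finset.sum_card_fiberwise_eq_card_filter]
  exact Finset.card_filter_le _ _

/-- All vectors of an orbit under a subgroup fixing `w` have the same inner product with `w`. -/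
theorem orb_dot {H : Subgroup Co0} {w r : leechLattice} (hH : H ≤ MulAction.stabilizer Co0 w) {x : GolayPt → ℤ}
    (hx : x ∈ Orb H r) : dotInt (w : GolayPt → ℤ) x = dotInt (w : GolayPt → ℤ) (r : GolayPt → ℤ) := by
  obtain ⟨h, hh, rfl⟩ := hx
  have h1 : ((h : Equiv.Perm leechLattice) w) = w := hH hh
  have := Cfsg.Agent.Lib.Co0Pair.dot_co0 h w r
  rwa [h1] at this

theorem orb_mem {H : Subgroup Co0} {r : leechLattice} {x : GolayPt → ℤ}
    (hx : x ∈ Orb H r) : x ∈ leechLattice := by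
  obtain ⟨h, hh, rfl⟩ := hx
  exact Subtype.property _

theorem orb_norm {H : Subgroup Co0} {r : leechLattice} {x : GolayPt → ℤ}
    (hx : x ∈ Orb H r) : sqNorm x = sqNorm (r : GolayPt → ℤ) := by
  obtain ⟨h, hh, rfl⟩ := hx
  exact h.2.2 r

/-- The set of vectors of squared length 32 with a given inner product with `v`. -/
def Tv (v : GolayPt → ℤ) (d : ℤ) : Set (GolayPt → ℤ) :=
  {w | w ∈ leechLattice ∧ sqNorm w = 32 ∧ dotInt v w = d}

abbrev Min32 : Set (GolayPt → ℤ) := {x | x ∈ leechLattice ∧ sqNorm x = 32}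

theorem finite_Min32 : Min32.Finite := by
  by_contra h
  have := LeechTheta.ncard32
  rw [Set.Infinite.ncard h] at this
  omega

theorem finite_Tv (v : GolayPt → ℤ) (d : ℤ) : (Tv v d).Finite :=
  finite_Min32.subset fun x hx => ⟨hx.1, hx.2.1⟩

theorem Tv_neg (v : GolayPt → ℤ) (d : ℤ) : (Tv v (-d)).ncard = (Tv v d).ncard := by
  have : Tv v (-d) = (fun x => -x) '' Tv v d := by
    ext x
    constructor
    · rintro ⟨h1, h2, h3⟩
      refine ⟨-x, ⟨neg_mem h1, ?_, ?_⟩, neg_neg x⟩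
      · simpa [sqNorm] using h2
      · simp only [dotInt, Pi.neg_apply, mul_neg, Finset.sum_neg_distrib] at h3 ⊢
        linarith
    · rintro ⟨y, ⟨h1, h2, h3⟩, rfl⟩
      refine ⟨neg_mem h1, ?_, ?_⟩
      · simpa [sqNorm] using h2
      · simp only [dotInt, Pi.neg_apply, mul_neg, Finset.sum_neg_distrib] at h3 ⊢
        linarith
  rw [this, Set.ncard_image_of_injective _ neg_injective]

theorem le_Tv_of_table {N : ℕ} {r : ℕ} {hr : dec r ∈ leechLattice} (d : ℤ)
    (h : ∃ S : Finset (GolayPt → ℤ), S.card = N ∧ ↑S ⊆ Orb H ⟨dec r, hr⟩)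
    (hn : sqNorm (dec r) = 32) (hd : dotInt (Spor.leechU : GolayPt → ℤ) (dec r) = d) :
    N ≤ (Tv (Spor.leechU : GolayPt → ℤ) d).ncard := by
  obtain ⟨S, hS, hS'⟩ := h
  rw [← hS, ← Set.ncard_coe_finset]
  refine Set.ncard_le_ncard ?_ (finite_Tv _ _)
  intro x hx
  have hx' := hS' hx
  refine ⟨orb_mem hx', ?_, ?_⟩
  · rw [orb_norm hx']
    exact hn
  · rw [orb_dot (w := Spor.leechU) (fun _ h => h) hx']
    exact hd

theorem sqNorm_decq {n : ℕ} {k : ℕ} (h : sqN n = k) : sqNorm (dec n) = (k : ℤ) := by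
  rw [sqNorm_dec, h]

theorem dot_dec_eq {a b : ℕ} {x y : ℕ} (h1 : dotA a b = x) (h2 : dotB a b = y) :
    dotInt (dec a) (dec b) = (x : ℤ) - (y : ℤ) := by
  rw [dotInt_dec, h1, h2]

theorem census16 : 4600 ≤ (Tv (Spor.leechU : GolayPt → ℤ) (-16)).ncard := by
  refine le_Tv_of_table (-16) orbD16 (sqNorm_decq (k := 32) (by decide +kernel)) ?_
  rw [dec_v0, dotInt_dec]
  have h1 : (dotA v0 rD16 : ℤ) - (dotB v0 rD16 : ℤ) = (((dotA v0 rD16 : ℕ) : ℤ) - ((dotB v0 rD16 : ℕ) : ℤ)) := rfl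
  have h2 : dotA v0 rD16 + 16 = dotB v0 rD16 := by decide +kernel
  omega

theorem census8 : 47104 ≤ (Tv (Spor.leechU : GolayPt → ℤ) (-8)).ncard := by
  refine le_Tv_of_table (-8) orbD8 (sqNorm_decq (k := 32) (by decide +kernel)) ?_
  rw [dec_v0, dotInt_dec]
  have h2 : dotA v0 rD8 + 8 = dotB v0 rD8 := by decide +kernel
  omega

theorem census0 : 93150 ≤ (Tv (Spor.leechU : GolayPt → ℤ) 0).ncard := by
  refine le_Tv_of_table 0 orbD0 (sqNorm_decq (k := 32) (by decide +kernel)) ?_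
  rw [dec_v0, dotInt_dec]
  have h2 : dotA v0 rD0 = dotB v0 rD0 := by decide +kernel
  omega

theorem sqNorm_leechU : sqNorm (Spor.leechU : GolayPt → ℤ) = 32 := by
  rw [dec_v0]
  exact sqNorm_decq (by decide +kernel)

theorem dotInt_self' (x : GolayPt → ℤ) : dotInt x x = sqNorm x := by
  unfold dotInt sqNorm
  simp only [pow_two]

theorem census32 : 1 ≤ (Tv (Spor.leechU : GolayPt → ℤ) 32).ncard := by
  have : ((Spor.leechU : leechLattice) : GolayPt → ℤ) ∈ Tv (Spor.leechU : GolayPt → ℤ) 32 :=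
    ⟨Subtype.property _, sqNorm_leechU, by rw [dotInt_self', sqNorm_leechU]⟩
  exact Nat.succ_le_of_lt ((Set.ncard_pos (finite_Tv _ _)).2 ⟨_, this⟩)

/-- The census at the standard vector. -/
theorem census_std : (Tv (Spor.leechU : GolayPt → ℤ) (-16)).ncard = 4600 ∧
    (Tv (Spor.leechU : GolayPt → ℤ) (-8)).ncard = 47104 ∧ (Tv (Spor.leechU : GolayPt → ℤ) 0).ncard = 93150 ∧
    (Tv (Spor.leechU : GolayPt → ℤ) 16).ncard = 4600 ∧ (Tv (Spor.leechU : GolayPt → ℤ) 8).ncard = 47104 ∧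
    (Tv (Spor.leechU : GolayPt → ℤ) 32).ncard = 1 ∧ (Tv (Spor.leechU : GolayPt → ℤ) (-32)).ncard = 1 := by
  have h := sum_fibre_le finite_Min32 (fun x => dotInt (Spor.leechU : GolayPt → ℤ) x)
    ({-32, -16, -8, 0, 8, 16, 32} : Finset ℤ)
  rw [LeechTheta.ncard32] at h
  have e : ∀ d : ℤ, {x | x ∈ Min32 ∧ (fun x => dotInt (Spor.leechU : GolayPt → ℤ) x) x = d} =
      Tv (Spor.leechU : GolayPt → ℤ) d := by
    intro d
    ext x
    simp [Tv, and_assoc]
  simp only [e] at h
  rw [Finset.sum_insert (by decide), Finset.sum_insert (by decide), Finset.sum_insert (by decide),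
    Finset.sum_insert (by decide), Finset.sum_insert (by decide), Finset.sum_insert (by decide),
    Finset.sum_singleton] at h
  have a1 := census16
  have a2 := census8
  have a3 := census0
  have a4 := census32
  have a5 := Tv_neg (Spor.leechU : GolayPt → ℤ) 16
  have a6 := Tv_neg (Spor.leechU : GolayPt → ℤ) 8
  have a7 := Tv_neg (Spor.leechU : GolayPt → ℤ) 32
  omega

/-- Transport of `Tv` under the group. -/
theorem Tv_transport (g : Co0) (v : leechLattice) (d : ℤ) :
    (Tv (v : GolayPt → ℤ) d).ncard = (Tv ((g • v : leechLattice) : GolayPt → ℤ) d).ncard := by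
  classical
  have hinj : Set.InjOn (fun x : GolayPt → ℤ => if hx : x ∈ leechLattice then
      (((g : Equiv.Perm leechLattice) ⟨x, hx⟩ : leechLattice) : GolayPt → ℤ) else x) (Tv (v : GolayPt → ℤ) d) := by
    intro x hx y hy e
    simp only [dif_pos hx.1, dif_pos hy.1] at e
    have := (g : Equiv.Perm leechLattice).injective (Subtype.ext e)
    exact congrArg Subtype.val this
  rw [← Set.InjOn.ncard_image hinj]
  congr 1
  ext y
  constructor
  · rintro ⟨x, hx, rfl⟩
    simp only [dif_pos hx.1]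
    refine ⟨Subtype.property _, ?_, ?_⟩
    · exact (g.2.2 ⟨x, hx.1⟩).trans hx.2.1
    · exact (Cfsg.Agent.Lib.Co0Pair.dot_co0 g v ⟨x, hx.1⟩).trans hx.2.2
  · rintro ⟨h1, h2, h3⟩
    let y' : leechLattice := ⟨y, h1⟩
    let x : leechLattice := (g : Equiv.Perm leechLattice).symm y'
    have hx : (g : Equiv.Perm leechLattice) x = y' := Equiv.apply_symm_apply _ _
    refine ⟨x, ⟨Subtype.property _, ?_, ?_⟩, ?_⟩
    · have := g.2.2 x
      rw [hx] at this
      exact this.symm.trans h2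
    · have := Cfsg.Agent.Lib.Co0Pair.dot_co0 g v x
      rw [hx] at this
      exact this.symm.trans h3
    · simp only [dif_pos (Subtype.property x)]
      show (((g : Equiv.Perm leechLattice) x : leechLattice) : GolayPt → ℤ) = y
      rw [hx]

theorem census (v : leechLattice) (hv : sqNorm (v : GolayPt → ℤ) = 32) :
    (Tv (v : GolayPt → ℤ) (-16)).ncard = 4600 ∧
    (Tv (v : GolayPt → ℤ) (-8)).ncard = 47104 ∧ (Tv (v : GolayPt → ℤ) 0).ncard = 93150 ∧
    (Tv (v : GolayPt → ℤ) 16).ncard = 4600 ∧ (Tv (v : GolayPt → ℤ) 8).ncard = 47104 ∧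
    (Tv (v : GolayPt → ℤ) 32).ncard = 1 ∧ (Tv (v : GolayPt → ℤ) (-32)).ncard = 1 := by
  obtain ⟨g, hg⟩ := Cfsg.Agent.Lib.Co0Trans.trans32 v Spor.leechU hv sqNorm_leechU
  have := census_std
  rw [← hg] at this
  simp only [← Tv_transport] at this
  exact this

end Cfsg.Agent.Lib.CoCensus
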