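import Mathlib
import Cfsg.Agent.Lib.CoCensus
import Cfsg.Agent.Lib.Co0Pair2
import Cfsg.Agent.Lib.LeechCong
import Cfsg.Agent.Lib.LeechClasses

set_option autoImplicit false
set_option linter.unusedVariables false

/-! Configurations of short vectors: sets of vectors of squared length 32 with prescribed inner products,
their transport under the group, partitions of them into fibres and lower bounds from orbit tables. -/

namespace Cfsg.Agent.Lib.CoConf

open Cfsg Cfsg.Agent.Lib.CoVec Cfsg.Agent.Lib.CoCensus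

abbrev LL : Type := ↥leechLattice

/-! ### Basic algebra -/

theorem dot_comm (x y : GolayPt → ℤ) : dotInt x y = dotInt y x :=
  Cfsg.Agent.Lib.LeechClasses.dotInt_comm x y

theorem dot_self (x : GolayPt → ℤ) : dotInt x x = sqNorm x :=
  Cfsg.Agent.Lib.LeechClasses.dotInt_self x

theorem dot_sub_right (a b c : GolayPt → ℤ) : dotInt a (b - c) = dotInt a b - dotInt a c := by
  unfold dotInt
  rw [← Finset.sum_sub_distrib]
  exact Finset.sum_congr rfl fun i _ => by simp only [Pi.sub_apply]; ring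

theorem dot_add_right (a b c : GolayPt → ℤ) : dotInt a (b + c) = dotInt a b + dotInt a c := by
  unfold dotInt
  rw [← Finset.sum_add_distrib]
  exact Finset.sum_congr rfl fun i _ => by simp only [Pi.add_apply]; ring

theorem dot_neg_right (a b : GolayPt → ℤ) : dotInt a (-b) = - dotInt a b := by
  unfold dotInt
  rw [← Finset.sum_neg_distrib]
  exact Finset.sum_congr rfl fun i _ => by simp only [Pi.neg_apply]; ring

theorem dot_sub_left (a b c : GolayPt → ℤ) : dotInt (a - b) c = dotInt a c - dotInt b c := by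
  rw [dot_comm, dot_sub_right, dot_comm c a, dot_comm c b]

theorem dot_add_left (a b c : GolayPt → ℤ) : dotInt (a + b) c = dotInt a c + dotInt b c := by
  rw [dot_comm, dot_add_right, dot_comm c a, dot_comm c b]

theorem dot_neg_left (a b : GolayPt → ℤ) : dotInt (-a) b = - dotInt a b := by
  rw [dot_comm, dot_neg_right, dot_comm]

theorem norm_add (a b : GolayPt → ℤ) : sqNorm (a + b) = sqNorm a + sqNorm b + 2 * dotInt a b :=
  Cfsg.Agent.Lib.Co0Mod.sqNorm_add' a b

theorem norm_sub (a b : GolayPt → ℤ) : sqNorm (a - b) = sqNorm a + sqNorm b - 2 * dotInt a b := by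
  rw [← dot_self, dot_sub_left, dot_sub_right, dot_sub_right, dot_self, dot_self, dot_comm b a]
  ring

theorem norm_neg (a : GolayPt → ℤ) : sqNorm (-a) = sqNorm a :=
  Cfsg.Agent.Lib.LeechCong.sqNorm_neg a

theorem smul_eq_perm (g : Co0) (x : LL) : g • x = (g : Equiv.Perm LL) x := rfl

theorem norm_smul (g : Co0) (x : LL) : sqNorm ((g • x : LL) : GolayPt → ℤ) = sqNorm (x : GolayPt → ℤ) := g.2.2 x

theorem dot_smul (g : Co0) (x y : LL) :
    dotInt ((g • x : LL) : GolayPt → ℤ) ((g • y : LL) : GolayPt → ℤ) = dotInt (x : GolayPt → ℤ) (y : GolayPt → ℤ) :=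
  Cfsg.Agent.Lib.Co0Pair.dot_co0 g x y

theorem smul_add' (g : Co0) (x y : LL) : g • (x + y) = g • x + g • y := g.2.1 x y

theorem smul_zero' (g : Co0) : g • (0 : LL) = 0 := by
  have h := smul_add' g 0 0
  rw [add_zero] at h
  exact left_eq_add.mp h

theorem smul_neg' (g : Co0) (x : LL) : g • (-x) = -(g • x) := by
  have h := smul_add' g x (-x)
  rw [add_neg_cancel, smul_zero'] at h
  exact (neg_eq_of_add_eq_zero_right h.symm).symm

theorem smul_sub' (g : Co0) (x y : LL) : g • (x - y) = g • x - g • y := by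
  rw [sub_eq_add_neg, smul_add', smul_neg', ← sub_eq_add_neg]

/-! ### Fibres and counting -/

/-- Vectors of squared length 32 with prescribed inner products. -/
def DS (A : List (LL × ℤ)) : Set LL :=
  {x | sqNorm (x : GolayPt → ℤ) = 32 ∧ ∀ p ∈ A, dotInt (p.1 : GolayPt → ℤ) (x : GolayPt → ℤ) = p.2}

theorem mem_DS_cons {a : LL} {d : ℤ} {A : List (LL × ℤ)} {x : LL} :
    x ∈ DS ((a, d) :: A) ↔ x ∈ DS A ∧ dotInt (a : GolayPt → ℤ) (x : GolayPt → ℤ) = d := by
  simp only [DS, Set.mem_setOf_eq, List.mem_cons, forall_eq_or_imp]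
  tauto

theorem finite_N32 : (DS []).Finite := by
  have h : (Subtype.val '' DS []).Finite := by
    refine finite_Min32.subset ?_
    rintro _ ⟨x, hx, rfl⟩
    exact ⟨x.2, hx.1⟩
  exact Set.Finite.of_finite_image h Subtype.val_injective.injOn

theorem finite_DS (A : List (LL × ℤ)) : (DS A).Finite :=
  finite_N32.subset fun x hx => ⟨hx.1, by simp⟩

theorem val_image_DS_nil : Subtype.val '' DS [] = Min32 := by
  ext y
  constructor
  · rintro ⟨x, hx, rfl⟩
    exact ⟨x.2, hx.1⟩
  · rintro ⟨h1, h2⟩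
    exact ⟨⟨y, h1⟩, ⟨h2, by simp⟩, rfl⟩

theorem ncard_nil : (DS []).ncard = 196560 := by
  rw [← Set.ncard_image_of_injective _ Subtype.val_injective, val_image_DS_nil]
  exact LeechTheta.ncard32

/-- Moving the data by the group. -/
def moveL (g : Co0) (A : List (LL × ℤ)) : List (LL × ℤ) := A.map fun p => (g • p.1, p.2)

theorem mem_DS_move (g : Co0) (A : List (LL × ℤ)) (x : LL) : g • x ∈ DS (moveL g A) ↔ x ∈ DS A := by
  simp only [DS, moveL, Set.mem_setOf_eq, List.mem_map, forall_exists_index, and_imp, forall_apply_eq_imp_iff₂,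
    dot_smul, norm_smul]

theorem ncard_move (g : Co0) (A : List (LL × ℤ)) : (DS (moveL g A)).ncard = (DS A).ncard := by
  have : DS (moveL g A) = (fun x => g • x) '' DS A := by
    ext y
    constructor
    · intro hy
      refine ⟨g⁻¹ • y, ?_, smul_inv_smul g y⟩
      rw [← mem_DS_move g, smul_inv_smul]
      exact hy
    · rintro ⟨x, hx, rfl⟩
      exact (mem_DS_move g A x).2 hx
  rw [this, Set.ncard_image_of_injective _ (MulAction.injective g)]

/-- Negating all the vectors of the set. -/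
theorem ncard_neg (A : List (LL × ℤ)) :
    (DS (A.map fun p => (p.1, -p.2))).ncard = (DS A).ncard := by
  have : DS (A.map fun p => (p.1, -p.2)) = (fun x => -x) '' DS A := by
    ext y
    simp only [DS, Set.mem_image, Set.mem_setOf_eq, List.mem_map, forall_exists_index, and_imp,
      forall_apply_eq_imp_iff₂]
    constructor
    · rintro ⟨h1, h2⟩
      refine ⟨-y, ⟨?_, ?_⟩, neg_neg y⟩
      · show sqNorm (-(y : GolayPt → ℤ)) = 32
        rw [norm_neg, h1]
      · intro a ha
        show dotInt _ (-(y : GolayPt → ℤ)) = _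
        rw [dot_neg_right, h2 a ha, neg_neg]
    · rintro ⟨x, ⟨h1, h2⟩, rfl⟩
      refine ⟨?_, ?_⟩
      · show sqNorm (-(x : GolayPt → ℤ)) = 32
        rw [norm_neg, h1]
      · intro a ha
        show dotInt _ (-(x : GolayPt → ℤ)) = _
        rw [dot_neg_right, h2 a ha]
  rw [this, Set.ncard_image_of_injective _ neg_injective]

/-- Partition by the inner product with a further vector. -/
theorem partition (A : List (LL × ℤ)) (a : LL) (D : Finset ℤ) (n : ℤ → ℕ)
    (hle : ∀ d ∈ D, n d ≤ (DS ((a, d) :: A)).ncard) (htot : (DS A).ncard ≤ ∑ d ∈ D, n d) :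
    (∀ d ∈ D, (DS ((a, d) :: A)).ncard = n d) ∧
      ∀ x ∈ DS A, dotInt (a : GolayPt → ℤ) (x : GolayPt → ℤ) ∈ D := by
  classical
  have hfin := finite_DS A
  set F := hfin.toFinset with hF
  let f : LL → ℤ := fun x => dotInt (a : GolayPt → ℤ) (x : GolayPt → ℤ)
  have e : ∀ d, (DS ((a, d) :: A)).ncard = (F.filter fun x : LL => f x = d).card := by
    intro d
    have : DS ((a, d) :: A) = ↑(F.filter fun x : LL => f x = d) := by
      ext x
      simp [hF, mem_DS_cons, f]
    rw [this, Set.ncard_coe_finset]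
  have hc : (DS A).ncard = F.card := by
    rw [hF, Set.ncard_eq_toFinset_card _ hfin]
  simp only [e] at hle ⊢
  rw [hc] at htot
  have hs := Finset.sum_card_fiberwise_eq_card_filter F D f
  have hle2 : ∑ d ∈ D, n d ≤ ∑ d ∈ D, (F.filter fun x : LL => f x = d).card :=
    Finset.sum_le_sum hle
  have hf := Finset.card_filter_le F (fun x : LL => f x ∈ D)
  have hsum : ∑ d ∈ D, (F.filter fun x : LL => f x = d).card = ∑ d ∈ D, n d := by
    omega
  constructor
  · intro d hd
    have := (Finset.sum_eq_sum_iff_of_le hle).1 hsum.symm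
    exact (this d hd).symm
  · intro x hx
    have hcard : (F.filter fun x : LL => f x ∈ D).card = F.card := by omega
    have hFx : x ∈ F := by simpa [hF] using hx
    have := (Finset.card_filter_eq_iff.1 hcard) x hFx
    exact this

/-! ### Orbit tables -/

theorem le_of_table {H : Subgroup Co0} {r : LL} {A : List (LL × ℤ)} {S : Finset (GolayPt → ℤ)}
    (hS : (S : Set (GolayPt → ℤ)) ⊆ Orb H r) (hsub : ∀ h ∈ H, (h : Co0) • r ∈ DS A) :
    S.card ≤ (DS A).ncard := by
  rw [← Set.ncard_coe_finset, ← Set.ncard_image_of_injective _ Subtype.val_injective]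
  refine Set.ncard_le_ncard ?_ ((finite_DS A).image _)
  intro x hx
  obtain ⟨h, hh, rfl⟩ := hS hx
  exact ⟨_, hsub h hh, rfl⟩

/-- When the table has the full size, the set is one orbit. -/
theorem orbit_of_table {H : Subgroup Co0} {r : LL} {A : List (LL × ℤ)} {S : Finset (GolayPt → ℤ)}
    (hS : (S : Set (GolayPt → ℤ)) ⊆ Orb H r) (hsub : ∀ h ∈ H, (h : Co0) • r ∈ DS A)
    (hc : (DS A).ncard ≤ S.card) : ∀ x ∈ DS A, ∃ h ∈ H, (h : Co0) • r = x := by
  classical
  have hfin : (Subtype.val '' DS A).Finite := (finite_DS A).image _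
  have h1 : (S : Set (GolayPt → ℤ)) ⊆ Subtype.val '' DS A := by
    intro x hx
    obtain ⟨h, hh, rfl⟩ := hS hx
    exact ⟨_, hsub h hh, rfl⟩
  have h2 : (S : Set (GolayPt → ℤ)) = Subtype.val '' DS A := by
    apply Set.eq_of_subset_of_ncard_le h1 _ hfin
    rw [Set.ncard_coe_finset, Set.ncard_image_of_injective _ Subtype.val_injective]
    exact hc
  intro x hx
  have h3 : (x : GolayPt → ℤ) ∈ (S : Set (GolayPt → ℤ)) := h2 ▸ ⟨x, hx, rfl⟩
  obtain ⟨h, hh, e⟩ := hS h3
  exact ⟨h, hh, Subtype.ext e⟩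

/-- Transitivity at the standard position. -/
theorem trans_of_table {H : Subgroup Co0} {r : LL} {A : List (LL × ℤ)} {S : Finset (GolayPt → ℤ)}
    (hS : (S : Set (GolayPt → ℤ)) ⊆ Orb H r) (hsub : ∀ h ∈ H, (h : Co0) • r ∈ DS A)
    (hc : (DS A).ncard ≤ S.card) : ∀ x ∈ DS A, ∀ y ∈ DS A, ∃ h ∈ H, (h : Co0) • x = y := by
  intro x hx y hy
  obtain ⟨h₁, h1, rfl⟩ := orbit_of_table hS hsub hc x hx
  obtain ⟨h₂, h2, rfl⟩ := orbit_of_table hS hsub hc y hy
  refine ⟨h₂ * h₁⁻¹, H.mul_mem h2 (H.inv_mem h1), ?_⟩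
  rw [mul_smul, inv_smul_smul]

/-- A group element fixing the vectors of a list fixes the set. -/
theorem smul_mem_DS {g : Co0} {A : List (LL × ℤ)} (hg : ∀ p ∈ A, g • p.1 = p.1) {x : LL} (hx : x ∈ DS A) :
    g • x ∈ DS A := by
  refine ⟨(norm_smul g x).trans hx.1, fun p hp => ?_⟩
  have := dot_smul g p.1 x
  rw [hg p hp] at this
  exact this.trans (hx.2 p hp)

/-- The root of a table belongs to the set, and then so do all of its images. -/
theorem orbit_sub {H : Subgroup Co0} {A : List (LL × ℤ)} {r : LL} (hH : ∀ h ∈ H, ∀ p ∈ A, (h : Co0) • p.1 = p.1)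
    (hr : r ∈ DS A) : ∀ h ∈ H, (h : Co0) • r ∈ DS A :=
  fun h hh => smul_mem_DS (hH h hh) hr

/-- Evaluating norm and inner products of coded vectors. -/
theorem norm_code {n : ℕ} {hn : dec n ∈ leechLattice} (h : sqN n = 32) :
    sqNorm (((⟨dec n, hn⟩ : LL)) : GolayPt → ℤ) = 32 := by
  show sqNorm (dec n) = 32
  rw [sqNorm_dec, h]
  rfl

theorem dot_code {a b : ℕ} {ha : dec a ∈ leechLattice} {hb : dec b ∈ leechLattice} {d : ℤ}
    (h : ((dotA a b : ℕ) : ℤ) - ((dotB a b : ℕ) : ℤ) = d) :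
    dotInt (((⟨dec a, ha⟩ : LL)) : GolayPt → ℤ) (((⟨dec b, hb⟩ : LL)) : GolayPt → ℤ) = d := by
  show dotInt (dec a) (dec b) = d
  rw [dotInt_dec, h]

/-- Transitivity of the joint stabiliser on a set of short vectors. -/
def TransOn (A : List (LL × ℤ)) : Prop :=
  ∀ x ∈ DS A, ∀ y ∈ DS A, ∃ k : Co0, (∀ p ∈ A, k • p.1 = p.1) ∧ k • x = y

theorem TransOn.of_move {g : Co0} {A : List (LL × ℤ)} (h : TransOn (moveL g A)) : TransOn A := by
  intro x hx y hy
  obtain ⟨k, hk, e⟩ := h (g • x) ((mem_DS_move g A x).2 hx) (g • y) ((mem_DS_move g A y).2 hy)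
  refine ⟨g⁻¹ * k * g, ?_, ?_⟩
  · intro p hp
    have := hk (g • p.1, p.2) (List.mem_map.2 ⟨p, hp, rfl⟩)
    simp only at this
    rw [mul_smul, mul_smul, this, inv_smul_smul]
  · rw [mul_smul, mul_smul, e, inv_smul_smul]

theorem transOn_of_table {H : Subgroup Co0} {A : List (LL × ℤ)} (hfix : ∀ h ∈ H, ∀ p ∈ A, (h : Co0) • p.1 = p.1)
    (ht : ∀ x ∈ DS A, ∀ y ∈ DS A, ∃ h ∈ H, (h : Co0) • x = y) : TransOn A := by
  intro x hx y hy
  obtain ⟨h, hh, e⟩ := ht x hx y hy
  exact ⟨h, hfix h hh, e⟩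

theorem one_le_of_mem {A : List (LL × ℤ)} {x : LL} (hx : x ∈ DS A) : 1 ≤ (DS A).ncard :=
  Nat.succ_le_of_lt ((Set.ncard_pos (finite_DS A)).2 ⟨x, hx⟩)

/-- Negation for a single list entry moved to the front. -/
theorem moveL_cons (g : Co0) (a : LL) (d : ℤ) (A : List (LL × ℤ)) :
    moveL g ((a, d) :: A) = (g • a, d) :: moveL g A := rfl

theorem moveL_nil (g : Co0) : moveL g [] = [] := rfl

end Cfsg.Agent.Lib.CoConf
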