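import Mathlib
import Cfsg.Agent.Lib.CoConf

set_option autoImplicit false
set_option linter.unusedVariables false

/-! A vector of squared length 48 is a sum of two short vectors in exactly 276 ways. -/

namespace Cfsg.Agent.Lib.CoConf

open Cfsg Cfsg.Agent.Lib.CoVec Cfsg.Agent.Lib.CoCensus

/-- The vectors of squared length 48. -/
def N48 : Set LL := {x | sqNorm (x : GolayPt → ℤ) = 48}

theorem val_image_N48 : Subtype.val '' N48 = {x : GolayPt → ℤ | x ∈ leechLattice ∧ sqNorm x = 48} := by
  ext y
  constructor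
  · rintro ⟨x, hx, rfl⟩
    exact ⟨x.2, hx⟩
  · rintro ⟨h1, h2⟩
    exact ⟨⟨y, h1⟩, h2, rfl⟩

theorem ncard_N48 : N48.ncard = 16773120 := by
  rw [← Set.ncard_image_of_injective _ Subtype.val_injective, val_image_N48]
  exact LeechTheta.ncard48

theorem finite_N48 : N48.Finite := by
  by_contra h
  have := ncard_N48
  rw [Set.Infinite.ncard h] at this
  omega

theorem val_image_DS_single (v : LL) (d : ℤ) : Subtype.val '' DS [(v, d)] = Tv (v : GolayPt → ℤ) d := by
  ext y
  constructor
  · rintro ⟨x, hx, rfl⟩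
    exact ⟨x.2, hx.1, hx.2 (v, d) (by simp)⟩
  · rintro ⟨h1, h2, h3⟩
    exact ⟨⟨y, h1⟩, ⟨h2, by simpa using h3⟩, rfl⟩

theorem ncard_DS_single (v : LL) (d : ℤ) : (DS [(v, d)]).ncard = (Tv (v : GolayPt → ℤ) d).ncard := by
  rw [← Set.ncard_image_of_injective _ Subtype.val_injective, val_image_DS_single]

/-- The fibre count at `v`. -/
theorem fibre_above (v : LL) (hv : sqNorm (v : GolayPt → ℤ) = 32) :
    {u : LL | u ∈ N48 ∧ dotInt (u : GolayPt → ℤ) (v : GolayPt → ℤ) = 24}.ncard = 47104 := by
  have h := (census v hv).2.1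
  rw [← ncard_DS_single] at h
  rw [← h]
  have : {u : LL | u ∈ N48 ∧ dotInt (u : GolayPt → ℤ) (v : GolayPt → ℤ) = 24} = (fun w => v + w) '' DS [(v, -8)] := by
    ext u
    constructor
    · rintro ⟨h1, h2⟩
      have h1' : sqNorm (u : GolayPt → ℤ) = 48 := h1
      refine ⟨u - v, ⟨?_, ?_⟩, by simp⟩
      · show sqNorm ((u : GolayPt → ℤ) - (v : GolayPt → ℤ)) = 32
        rw [norm_sub, h1', hv, h2]
        norm_num
      · intro p hp
        simp only [List.mem_singleton] at hp
        subst hp
        show dotInt (v : GolayPt → ℤ) ((u : GolayPt → ℤ) - (v : GolayPt → ℤ)) = -8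
        rw [dot_sub_right, dot_self, hv, dot_comm, h2]
        norm_num
    · rintro ⟨w, ⟨h1, h2⟩, rfl⟩
      have h3 : dotInt (v : GolayPt → ℤ) (w : GolayPt → ℤ) = -8 := h2 (v, -8) (by simp)
      constructor
      · show sqNorm ((v : GolayPt → ℤ) + (w : GolayPt → ℤ)) = 48
        rw [norm_add, hv, h1, h3]
        norm_num
      · show dotInt ((v : GolayPt → ℤ) + (w : GolayPt → ℤ)) (v : GolayPt → ℤ) = 24
        rw [dot_add_left, dot_self, hv, dot_comm, h3]
        norm_num
  rw [this, Set.ncard_image_of_injective _ (add_right_injective v)]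

/-- All vectors of squared length 48 have the same number of summands. -/
theorem fibre_const (u u' : LL) (hu : u ∈ N48) (hu' : u' ∈ N48) : (DS [(u, 24)]).ncard = (DS [(u', 24)]).ncard := by
  obtain ⟨g, hg⟩ := Cfsg.Agent.Lib.Co0Trans.trans48 u u' hu hu'
  rw [← ncard_move g [(u, 24)]]
  simp only [moveL, List.map_cons, List.map_nil, hg]

theorem exists_N48 : ∃ u, u ∈ N48 := by
  by_contra h
  have : N48 = ∅ := Set.eq_empty_iff_forall_notMem.2 fun x hx => h ⟨x, hx⟩
  have h2 := ncard_N48
  rw [this, Set.ncard_empty] at h2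
  omega

/-- The number of summands. -/
theorem ncard_fib (u : LL) (hu : u ∈ N48) : (DS [(u, 24)]).ncard = 552 := by
  classical
  let A := finite_N48.toFinset
  let B := finite_N32.toFinset
  let r : LL → LL → Prop := fun u v => dotInt (u : GolayPt → ℤ) (v : GolayPt → ℤ) = 24
  have key := Finset.sum_card_bipartiteAbove_eq_sum_card_bipartiteBelow (s := A) (t := B) r
  have h1 : ∀ a ∈ A, (Finset.bipartiteAbove r B a).card = (DS [(u, 24)]).ncard := by
    intro a ha
    have ha' : a ∈ N48 := by simpa [A] using ha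
    rw [fibre_const u a hu ha']
    have : DS [(a, 24)] = ↑(Finset.bipartiteAbove r B a) := by
      ext x
      simp only [Finset.bipartiteAbove, Finset.coe_filter, B, Set.Finite.mem_toFinset]
      simp only [DS, Set.mem_setOf_eq, List.mem_singleton, forall_eq, List.not_mem_nil, false_imp_iff,
        implies_true, and_true, r]
    rw [this, Set.ncard_coe_finset]
  have h2 : ∀ b ∈ B, (Finset.bipartiteBelow r A b).card = 47104 := by
    intro b hb
    have hb' : sqNorm (b : GolayPt → ℤ) = 32 := by
      have : b ∈ DS [] := by simpa [B] using hb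
      exact this.1
    rw [← fibre_above b hb']
    have : {u : LL | u ∈ N48 ∧ dotInt (u : GolayPt → ℤ) (b : GolayPt → ℤ) = 24} = ↑(Finset.bipartiteBelow r A b) := by
      ext x
      simp [Finset.bipartiteBelow, A, r]
    rw [this, Set.ncard_coe_finset]
  rw [Finset.sum_congr rfl h1, Finset.sum_congr rfl h2, Finset.sum_const, Finset.sum_const] at key
  have hA : A.card = 16773120 := by
    have := ncard_N48
    rwa [Set.ncard_eq_toFinset_card _ finite_N48] at this
  have hB : B.card = 196560 := by
    have := ncard_nil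
    rwa [Set.ncard_eq_toFinset_card _ finite_N32] at this
  rw [hA, hB] at key
  simp only [smul_eq_mul] at key
  omega

/-- Rewriting the set of summands. -/
theorem fib_eq (u : LL) (hu : sqNorm (u : GolayPt → ℤ) = 48) :
    {v : LL | sqNorm (v : GolayPt → ℤ) = 32 ∧ sqNorm ((u - v) : GolayPt → ℤ) = 32} = DS [(u, 24)] := by
  ext v
  simp only [DS, Set.mem_setOf_eq, List.mem_singleton, forall_eq]
  refine and_congr_right fun hv => ?_
  rw [norm_sub, hu, hv]
  constructor <;> intro h <;> linarith

end Cfsg.Agent.Lib.CoConf
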