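import Mathlib
import Cfsg.Agent.Lib.CoFib

set_option autoImplicit false
set_option linter.unusedVariables false

/-! Suborbit data of joint stabilisers on sets of short vectors. -/

namespace Cfsg.Agent.Lib.CoConf

open Cfsg Cfsg.Agent.Lib.CoVec

/-- The partition of the set `DS A` by the inner product with `a`, with all fibres one orbit of the joint stabiliser. -/
def RankData (A : List (LL × ℤ)) (a : LL) (D : Finset ℤ) (n : ℤ → ℕ) : Prop :=
  (∀ d ∈ D, (DS ((a, d) :: A)).ncard = n d) ∧ (∀ d ∈ D, d ≠ 32 → TransOn ((a, d) :: A)) ∧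
    ∀ y ∈ DS A, dotInt (a : GolayPt → ℤ) (y : GolayPt → ℤ) ∈ D

theorem RankData.of_move {g : Co0} {A : List (LL × ℤ)} {a : LL} {D : Finset ℤ} {n : ℤ → ℕ}
    (h : RankData (moveL g A) (g • a) D n) : RankData A a D n := by
  obtain ⟨h1, h2, h3⟩ := h
  refine ⟨fun d hd => ?_, fun d hd hd' => ?_, fun y hy => ?_⟩
  · rw [← ncard_move g]
    exact h1 d hd
  · apply TransOn.of_move (g := g)
    exact h2 d hd hd'
  · have := h3 (g • y) ((mem_DS_move g A y).2 hy)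
    rwa [dot_smul] at this

/-- The fibre at 32 is the vector itself. -/
theorem fibre32_eq {A : List (LL × ℤ)} {a : LL} (ha : a ∈ DS A) (h : (DS ((a, 32) :: A)).ncard = 1) :
    DS ((a, 32) :: A) = {a} := by
  have h4 : a ∈ DS ((a, 32) :: A) := mem_DS_cons.2 ⟨ha, (dot_self _).trans ha.1⟩
  obtain ⟨b, hb⟩ := Set.ncard_eq_one.1 h
  rw [hb] at h4 ⊢
  rw [Set.mem_singleton_iff.1 h4]

theorem RankData.dot_ne {A : List (LL × ℤ)} {a : LL} {D : Finset ℤ} {n : ℤ → ℕ} (h : RankData A a D n)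
    (ha : a ∈ DS A) (h32 : (32 : ℤ) ∈ D) (hn : n 32 = 1) {y : LL} (hy : y ∈ DS A) (hya : y ≠ a) :
    dotInt (a : GolayPt → ℤ) (y : GolayPt → ℤ) ∈ D ∧ dotInt (a : GolayPt → ℤ) (y : GolayPt → ℤ) ≠ 32 := by
  refine ⟨h.2.2 y hy, fun e => hya ?_⟩
  have h1 := fibre32_eq ha ((h.1 32 h32).trans hn)
  have h2 : y ∈ DS ((a, 32) :: A) := mem_DS_cons.2 ⟨hy, e⟩
  rw [h1] at h2
  exact h2

/-- The orbit of a joint stabiliser is the whole set. -/
theorem orbit_eq_DS {A : List (LL × ℤ)} {K : Subgroup Co0} (hK1 : ∀ k ∈ K, ∀ p ∈ A, k • p.1 = p.1)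
    (hK2 : ∀ k : Co0, (∀ p ∈ A, k • p.1 = p.1) → k ∈ K) (ht : TransOn A) {y : LL} (hy : y ∈ DS A) :
    MulAction.orbit K y = DS A := by
  ext z
  constructor
  · rintro ⟨k, rfl⟩
    exact smul_mem_DS (hK1 k k.2) hy
  · intro hz
    obtain ⟨k, hk, e⟩ := ht y hy z hz
    exact ⟨⟨k, hK2 k hk⟩, e⟩

/-- Standard data from lower bounds and transitive tables. -/
theorem rankData_of (A : List (LL × ℤ)) (a : LL) (D : Finset ℤ) (n : ℤ → ℕ)
    (hle : ∀ d ∈ D, n d ≤ (DS ((a, d) :: A)).ncard) (htot : (DS A).ncard ≤ ∑ d ∈ D, n d)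
    (ht : ∀ d ∈ D, d ≠ 32 → (DS ((a, d) :: A)).ncard ≤ n d → TransOn ((a, d) :: A)) :
    RankData A a D n := by
  obtain ⟨h1, h2⟩ := partition A a D n hle htot
  exact ⟨h1, fun d hd hd' => ht d hd hd' (h1 d hd).le, h2⟩

end Cfsg.Agent.Lib.CoConf
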