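import Mathlib
import Cfsg.Agent.Lib.CoCo3TabQ11178
import Cfsg.Agent.Lib.CoCo3TabQ48600
import Cfsg.Agent.Lib.CoCo3TabQ75900
import Cfsg.Agent.Lib.CoRank

set_option autoImplicit false
set_option linter.unusedVariables false

/-! Inner products of short vectors with a vector of squared length 48. -/

namespace Cfsg.Agent.Lib.CoConf

open Cfsg Cfsg.Agent.Lib.CoVec

theorem norm_u0_co3 : sqNorm (Co3G.lu0 : GolayPt → ℤ) = 48 := by
  show sqNorm (dec Co3G.u0) = 48
  rw [sqNorm_dec]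
  have : sqN Co3G.u0 = 48 := by decide +kernel
  rw [this]
  rfl

theorem ncard_std_16 : (DS [(Co3G.lu0, -16)]).ncard = 11178 := by
  have h := partition [] Co3G.lu0 ({24, -24, 16, -16, 8, -8, 0} : Finset ℤ)
    (fun d => if d = 24 ∨ d = -24 then 552 else if d = 16 ∨ d = -16 then 11178 else if d = 8 ∨ d = -8 then 48600 else 75900)
    ?_ ?_
  · exact h.1 (-16) (by decide)
  · have n24 : ∀ d : ℤ, (DS [(Co3G.lu0, -d)]).ncard = (DS [(Co3G.lu0, d)]).ncard := fun d => ncard_neg [(Co3G.lu0, d)]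
    have a1 := ncard_fib Co3G.lu0 norm_u0_co3
    have a2 := n24 24
    have a3 := Co3G.lowQ11178
    have a4 := n24 (-16)
    have a5 := Co3G.lowQ48600
    have a6 := n24 (-8)
    have a7 := Co3G.lowQ75900
    intro d hd
    simp only [Finset.mem_insert, Finset.mem_singleton] at hd
    rcases hd with rfl | rfl | rfl | rfl | rfl | rfl | rfl
    · exact a1.ge
    · simpa using (a2.trans a1).ge
    · simp only [neg_neg] at a4
      rw [a4]
      exact a3
    · exact a3
    · simp only [neg_neg] at a6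
      rw [a6]
      exact a5
    · exact a5
    · exact a7
  · rw [ncard_nil]
    decide

theorem ncard_16 (u : LL) (hu : sqNorm (u : GolayPt → ℤ) = 48) : (DS [(u, -16)]).ncard = 11178 := by
  obtain ⟨g, hg⟩ := Cfsg.Agent.Lib.Co0Trans.trans48 u Co3G.lu0 hu norm_u0_co3
  rw [← ncard_move g]
  simp only [moveL_cons, moveL_nil, hg]
  exact ncard_std_16

/-- Moving a pair to a given one. -/
theorem pair16_move {u u' x x' : LL} (hu : sqNorm (u : GolayPt → ℤ) = 48) (hu' : sqNorm (u' : GolayPt → ℤ) = 48)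
    (hx : x ∈ DS [(u, -16)]) (hx' : x' ∈ DS [(u', -16)]) : ∃ g : Co0, g • u = u' ∧ g • x = x' := by
  have h1 : sqNorm ((-x : LL) : GolayPt → ℤ) = 32 := by
    show sqNorm (-(x : GolayPt → ℤ)) = 32
    rw [norm_neg]
    exact hx.1
  have h2 : sqNorm ((-x' : LL) : GolayPt → ℤ) = 32 := by
    show sqNorm (-(x' : GolayPt → ℤ)) = 32
    rw [norm_neg]
    exact hx'.1
  have h3 : dotInt ((-x : LL) : GolayPt → ℤ) (u : GolayPt → ℤ) = 16 := by
    show dotInt (-(x : GolayPt → ℤ)) (u : GolayPt → ℤ) = 16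
    rw [dot_neg_left, dot_comm, hx.2 (u, -16) (by simp)]
    norm_num
  have h4 : dotInt ((-x' : LL) : GolayPt → ℤ) (u' : GolayPt → ℤ) = 16 := by
    show dotInt (-(x' : GolayPt → ℤ)) (u' : GolayPt → ℤ) = 16
    rw [dot_neg_left, dot_comm, hx'.2 (u', -16) (by simp)]
    norm_num
  obtain ⟨g, g1, g2⟩ := Cfsg.Agent.Lib.Co0Pair2.pairP16 h1 h2 hu hu' h3 h4
  refine ⟨g, g2, ?_⟩
  rw [smul_neg'] at g1
  exact neg_injective g1

end Cfsg.Agent.Lib.CoConf
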