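import Mathlib
import Cfsg.Agent.Lib.CoCo3
import Cfsg.Agent.Lib.CoHSTab
import Cfsg.Agent.Lib.CoM22Tab

set_option autoImplicit false
set_option linter.unusedVariables false

/-! The Higman-Sims configuration. -/

namespace Cfsg.Agent.Lib.CoConf

open Cfsg Cfsg.Agent.Lib.CoVec

theorem hs_u0 : sqNorm (HSG.lu0 : GolayPt → ℤ) = 48 := norm_u0_co3
theorem hs_w1 : sqNorm (HSG.lw1 : GolayPt → ℤ) = 48 := by
  show sqNorm (dec HSG.w1) = 48
  rw [sqNorm_dec]
  have : sqN HSG.w1 = 48 := by decide +kernel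
  rw [this]
  rfl
theorem hs_u0w1 : dotInt (HSG.lu0 : GolayPt → ℤ) (HSG.lw1 : GolayPt → ℤ) = -32 := dot_code (by decide +kernel)

theorem hs_sum {v w : LL} (hv : sqNorm (v : GolayPt → ℤ) = 48) (hw : sqNorm (w : GolayPt → ℤ) = 48)
    (hvw : dotInt (v : GolayPt → ℤ) (w : GolayPt → ℤ) = -32) :
    sqNorm ((v + w : LL) : GolayPt → ℤ) = 32 ∧ dotInt ((v + w : LL) : GolayPt → ℤ) (v : GolayPt → ℤ) = 16 := by
  constructor
  · show sqNorm ((v : GolayPt → ℤ) + (w : GolayPt → ℤ)) = 32
    rw [norm_add, hv, hw, hvw]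
    norm_num
  · show dotInt ((v : GolayPt → ℤ) + (w : GolayPt → ℤ)) (v : GolayPt → ℤ) = 16
    rw [dot_add_left, dot_self, hv, dot_comm, hvw]
    norm_num

/-- Any pair of the configuration can be moved to the standard one. -/
theorem hs_move (v w : LL) (hv : sqNorm (v : GolayPt → ℤ) = 48) (hw : sqNorm (w : GolayPt → ℤ) = 48)
    (hvw : dotInt (v : GolayPt → ℤ) (w : GolayPt → ℤ) = -32) : ∃ g : Co0, g • v = HSG.lu0 ∧ g • w = HSG.lw1 := by
  obtain ⟨h1, h2⟩ := hs_sum hv hw hvw
  obtain ⟨h3, h4⟩ := hs_sum hs_u0 hs_w1 hs_u0w1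
  obtain ⟨g, g1, g2⟩ := Cfsg.Agent.Lib.Co0Pair2.pairP16 h1 h3 hv hs_u0 h2 h4
  refine ⟨g, g2, ?_⟩
  rw [smul_add', g2] at g1
  exact add_left_cancel g1

noncomputable abbrev A100 : List (LL × ℤ) := [(HSG.lw1, -24), (HSG.lu0, 24)]

theorem parts_hs : (DS A100).ncard = 100 ∧ (DS HSG.AR352).ncard = 352 := by
  have h := partition [(HSG.lu0, 24)] HSG.lw1 ({-24, -8, -16} : Finset ℤ)
    (fun d => if d = -16 then 352 else 100) ?_ ?_
  · exact ⟨h.1 (-24) (by decide), h.1 (-16) (by decide)⟩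
  · intro d hd
    simp only [Finset.mem_insert, Finset.mem_singleton] at hd
    rcases hd with rfl | rfl | rfl
    · exact HSG.lowR100
    · exact HSG.lowR100b
    · exact HSG.lowR352
  · rw [ncard_fib HSG.lu0 hs_u0]
    decide

theorem transOn_100 : TransOn A100 := transOn_of_table HSG.fixAR100 (HSG.transR100 parts_hs.1.le)

theorem set100_eq (v w : LL) :
    {x : LL | sqNorm (x : GolayPt → ℤ) = 32 ∧ dotInt (v : GolayPt → ℤ) (x : GolayPt → ℤ) = 24 ∧
      dotInt (w : GolayPt → ℤ) (x : GolayPt → ℤ) = -24} = DS [(w, -24), (v, 24)] := by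
  ext x
  simp only [DS, Set.mem_setOf_eq, List.mem_cons, List.not_mem_nil, or_false, forall_eq_or_imp, forall_eq]
  tauto

theorem ncard_100 (v w : LL) (hv : sqNorm (v : GolayPt → ℤ) = 48) (hw : sqNorm (w : GolayPt → ℤ) = 48)
    (hvw : dotInt (v : GolayPt → ℤ) (w : GolayPt → ℤ) = -32) : (DS [(w, -24), (v, 24)]).ncard = 100 := by
  obtain ⟨g, g1, g2⟩ := hs_move v w hv hw hvw
  rw [← ncard_move g]
  simp only [moveL_cons, moveL_nil, g1, g2]
  exact parts_hs.1

theorem transOn_100' (v w : LL) (hv : sqNorm (v : GolayPt → ℤ) = 48) (hw : sqNorm (w : GolayPt → ℤ) = 48)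
    (hvw : dotInt (v : GolayPt → ℤ) (w : GolayPt → ℤ) = -32) : TransOn [(w, -24), (v, 24)] := by
  obtain ⟨g, g1, g2⟩ := hs_move v w hv hw hvw
  apply TransOn.of_move (g := g)
  simp only [moveL_cons, moveL_nil, g1, g2]
  exact transOn_100

/-! ### Rank 3 on the 100 points -/

theorem v0_mem_100 : M22G.lv0 ∈ DS A100 := HSG.rootR100

theorem rank_std : RankData A100 M22G.lv0 ({32, 8, 16} : Finset ℤ)
    (fun d => if d = 32 then 1 else if d = 8 then 22 else 77) := by
  apply rankData_of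
  · intro d hd
    simp only [Finset.mem_insert, Finset.mem_singleton] at hd
    rcases hd with rfl | rfl | rfl
    · exact one_le_of_mem (x := M22G.lv0) (mem_DS_cons.2 ⟨v0_mem_100, (dot_self _).trans v0_mem_100.1⟩)
    · exact M22G.lowT22
    · exact M22G.lowT77
  · rw [parts_hs.1]
    decide
  · intro d hd hd' hc
    simp only [Finset.mem_insert, Finset.mem_singleton] at hd
    rcases hd with rfl | rfl | rfl
    · exact absurd rfl hd'
    · exact transOn_of_table M22G.fixAT22 (M22G.transT22 hc)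
    · exact transOn_of_table M22G.fixAT77 (M22G.transT77 hc)

theorem triple_hs (v w x : LL) (hv : sqNorm (v : GolayPt → ℤ) = 48) (hw : sqNorm (w : GolayPt → ℤ) = 48)
    (hvw : dotInt (v : GolayPt → ℤ) (w : GolayPt → ℤ) = -32) (hx : x ∈ DS [(w, -24), (v, 24)]) :
    ∃ g : Co0, g • v = HSG.lu0 ∧ g • w = HSG.lw1 ∧ g • x = M22G.lv0 := by
  obtain ⟨g, g1, g2⟩ := hs_move v w hv hw hvw
  have h1 : g • x ∈ DS A100 := by
    have := (mem_DS_move g [(w, -24), (v, 24)] x).2 hx
    simp only [moveL_cons, moveL_nil, g1, g2] at this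
    exact this
  obtain ⟨k, hk, e⟩ := transOn_100 (g • x) h1 M22G.lv0 v0_mem_100
  refine ⟨k * g, ?_, ?_, ?_⟩
  · rw [mul_smul, g1]
    exact hk (HSG.lu0, 24) (by simp)
  · rw [mul_smul, g2]
    exact hk (HSG.lw1, -24) (by simp)
  · rw [mul_smul, e]

theorem rank_hs (v w x : LL) (hv : sqNorm (v : GolayPt → ℤ) = 48) (hw : sqNorm (w : GolayPt → ℤ) = 48)
    (hvw : dotInt (v : GolayPt → ℤ) (w : GolayPt → ℤ) = -32) (hx : x ∈ DS [(w, -24), (v, 24)]) :
    RankData [(w, -24), (v, 24)] x ({32, 8, 16} : Finset ℤ)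
    (fun d => if d = 32 then 1 else if d = 8 then 22 else 77) := by
  obtain ⟨g, g1, g2, g3⟩ := triple_hs v w x hv hw hvw hx
  apply RankData.of_move (g := g)
  simp only [moveL_cons, moveL_nil, g1, g2, g3]
  exact rank_std

/-! ### The action of the stabiliser of a vector of squared length 48 on 11178 points -/

theorem xp_mem : HSG.lxp ∈ DS [(HSG.lu0, -16)] := by
  refine ⟨norm_code (by decide +kernel), ?_⟩
  intro p hp
  simp only [List.mem_singleton] at hp
  subst hp
  exact dot_code (by decide +kernel)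

noncomputable abbrev A11178 : List (LL × ℤ) := [(HSG.lu0, -16)]

theorem rank_std2 : RankData A11178 HSG.lxp ({32, -8, 16, 0, 8} : Finset ℤ)
    (fun d => if d = 32 then 1 else if d = -8 then 352 else if d = 16 then 1100 else if d = 0 then 4125 else 5600) := by
  apply rankData_of
  · intro d hd
    simp only [Finset.mem_insert, Finset.mem_singleton] at hd
    rcases hd with rfl | rfl | rfl | rfl | rfl
    · exact one_le_of_mem (x := HSG.lxp) (mem_DS_cons.2 ⟨xp_mem, (dot_self _).trans xp_mem.1⟩)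
    · exact HSG.lowX352
    · exact HSG.lowX1100
    · exact HSG.lowX4125
    · exact HSG.lowX5600
  · have : (DS A11178).ncard = 11178 := ncard_std_16
    rw [this]
    decide
  · intro d hd hd' hc
    simp only [Finset.mem_insert, Finset.mem_singleton] at hd
    rcases hd with rfl | rfl | rfl | rfl | rfl
    · exact absurd rfl hd'
    · exact transOn_of_table HSG.fixAX352 (HSG.transX352 hc)
    · exact transOn_of_table HSG.fixAX1100 (HSG.transX1100 hc)
    · exact transOn_of_table HSG.fixAX4125 (HSG.transX4125 hc)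
    · exact transOn_of_table HSG.fixAX5600 (HSG.transX5600 hc)

theorem rank_11178 (u x : LL) (hu : sqNorm (u : GolayPt → ℤ) = 48) (hx : x ∈ DS [(u, -16)]) :
    RankData [(u, -16)] x ({32, -8, 16, 0, 8} : Finset ℤ)
    (fun d => if d = 32 then 1 else if d = -8 then 352 else if d = 16 then 1100 else if d = 0 then 4125 else 5600) := by
  obtain ⟨g, g1, g2⟩ := pair16_move hu hs_u0 hx xp_mem
  apply RankData.of_move (g := g)
  simp only [moveL_cons, moveL_nil, g1, g2]
  exact rank_std2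

end Cfsg.Agent.Lib.CoConf
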