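import Mathlib
import Cfsg.Agent.Lib.CoMcLTab

set_option autoImplicit false
set_option linter.unusedVariables false

/-! The McLaughlin configuration: counts and transitivity on 275 points. -/

namespace Cfsg.Agent.Lib.CoConf

open Cfsg Cfsg.Agent.Lib.CoVec Cfsg.Agent.Lib.CoVec.McLG

theorem norm_u0 : sqNorm (lu0 : GolayPt → ℤ) = 48 := by
  show sqNorm (dec u0) = 48
  rw [sqNorm_dec]
  have : sqN u0 = 48 := by decide +kernel
  rw [this]
  rfl

theorem norm_v0 : sqNorm (lv0 : GolayPt → ℤ) = 32 := norm_code (by decide +kernel)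

theorem dot_u0_v0 : dotInt (lu0 : GolayPt → ℤ) (lv0 : GolayPt → ℤ) = 24 := dot_code (by decide +kernel)

/-- Any pair of the configuration can be moved to the standard one. -/
theorem std_move (u v : LL) (hu : sqNorm (u : GolayPt → ℤ) = 48) (hv : sqNorm (v : GolayPt → ℤ) = 32)
    (huv : dotInt (u : GolayPt → ℤ) (v : GolayPt → ℤ) = 24) : ∃ g : Co0, g • u = lu0 ∧ g • v = lv0 := by
  have h1 : sqNorm ((u - v : LL) : GolayPt → ℤ) = 32 := by
    show sqNorm ((u : GolayPt → ℤ) - (v : GolayPt → ℤ)) = 32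
    rw [norm_sub, hu, hv, huv]
    norm_num
  have h2 : sqNorm ((lu0 - lv0 : LL) : GolayPt → ℤ) = 32 := by
    show sqNorm ((lu0 : GolayPt → ℤ) - (lv0 : GolayPt → ℤ)) = 32
    rw [norm_sub, norm_u0, norm_v0, dot_u0_v0]
    norm_num
  have h3 : dotInt (v : GolayPt → ℤ) ((u - v : LL) : GolayPt → ℤ) = -8 := by
    show dotInt (v : GolayPt → ℤ) ((u : GolayPt → ℤ) - (v : GolayPt → ℤ)) = -8
    rw [dot_sub_right, dot_self, hv, dot_comm, huv]
    norm_num
  have h4 : dotInt (lv0 : GolayPt → ℤ) ((lu0 - lv0 : LL) : GolayPt → ℤ) = -8 := by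
    show dotInt (lv0 : GolayPt → ℤ) ((lu0 : GolayPt → ℤ) - (lv0 : GolayPt → ℤ)) = -8
    rw [dot_sub_right, dot_self, norm_v0, dot_comm, dot_u0_v0]
    norm_num
  obtain ⟨g, g1, g2⟩ := Cfsg.Agent.Lib.Co0Pair.pairM8 hv norm_v0 h1 h2 h3 h4
  refine ⟨g, ?_, g1⟩
  have := smul_sub' g u v
  rw [g1, g2] at this
  exact (sub_left_inj.1 this).symm

/-- The partition of the summands of the standard vector. -/
theorem parts_std : (DS AP275).ncard = 275 ∧ (DS AP275b).ncard = 275 := by
  have h := partition [(lu0, 24)] lv0 ({32, -8, 16, 8} : Finset ℤ)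
    (fun d => if d = 32 then 1 else if d = -8 then 1 else 275) ?_ ?_
  · have h1 := h.1 16 (by decide)
    have h2 := h.1 8 (by decide)
    exact ⟨h1, h2⟩
  · intro d hd
    simp only [Finset.mem_insert, Finset.mem_singleton] at hd
    rcases hd with rfl | rfl | rfl | rfl
    · refine one_le_of_mem (x := lv0) ⟨norm_v0, ?_⟩
      intro p hp
      simp only [List.mem_cons, List.not_mem_nil, or_false] at hp
      rcases hp with rfl | rfl
      · exact (dot_self _).trans norm_v0
      · exact dot_u0_v0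
    · refine one_le_of_mem (x := lu0 - lv0) ⟨?_, ?_⟩
      · show sqNorm ((lu0 : GolayPt → ℤ) - (lv0 : GolayPt → ℤ)) = 32
        rw [norm_sub, norm_u0, norm_v0, dot_u0_v0]
        norm_num
      intro p hp
      simp only [List.mem_cons, List.not_mem_nil, or_false] at hp
      rcases hp with rfl | rfl
      · show dotInt (lv0 : GolayPt → ℤ) ((lu0 : GolayPt → ℤ) - (lv0 : GolayPt → ℤ)) = -8
        rw [dot_sub_right, dot_self, norm_v0, dot_comm, dot_u0_v0]
        norm_num
      · show dotInt (lu0 : GolayPt → ℤ) ((lu0 : GolayPt → ℤ) - (lv0 : GolayPt → ℤ)) = 24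
        rw [dot_sub_right, dot_self, norm_u0, dot_u0_v0]
        norm_num
    · exact lowP275
    · exact lowP275b
  · rw [ncard_fib lu0 norm_u0]
    decide

theorem transOn_275 : TransOn AP275 :=
  transOn_of_table fixAP275 (transP275 parts_std.1.le)

/-- The general configuration. -/
theorem ncard_275 (u v : LL) (hu : sqNorm (u : GolayPt → ℤ) = 48) (hv : sqNorm (v : GolayPt → ℤ) = 32)
    (huv : dotInt (u : GolayPt → ℤ) (v : GolayPt → ℤ) = 24) : (DS [(v, 16), (u, 24)]).ncard = 275 := by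
  obtain ⟨g, g1, g2⟩ := std_move u v hu hv huv
  rw [← ncard_move g]
  simp only [moveL_cons, moveL_nil, g1, g2]
  exact parts_std.1

theorem transOn_275' (u v : LL) (hu : sqNorm (u : GolayPt → ℤ) = 48) (hv : sqNorm (v : GolayPt → ℤ) = 32)
    (huv : dotInt (u : GolayPt → ℤ) (v : GolayPt → ℤ) = 24) : TransOn [(v, 16), (u, 24)] := by
  obtain ⟨g, g1, g2⟩ := std_move u v hu hv huv
  apply TransOn.of_move (g := g)
  simp only [moveL_cons, moveL_nil, g1, g2]
  exact transOn_275

/-- Rewriting the condition for a vector of squared length 48. -/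
theorem dot_of_norm_sub {u x : LL} (hu : sqNorm (u : GolayPt → ℤ) = 48) (hx : sqNorm (x : GolayPt → ℤ) = 32) :
    sqNorm ((u - x : LL) : GolayPt → ℤ) = 32 ↔ dotInt (u : GolayPt → ℤ) (x : GolayPt → ℤ) = 24 := by
  show sqNorm ((u : GolayPt → ℤ) - (x : GolayPt → ℤ)) = 32 ↔ _
  rw [norm_sub, hu, hx]
  constructor <;> intro h <;> linarith

theorem set275_eq (u v : LL) (hu : sqNorm (u : GolayPt → ℤ) = 48) :
    {x : LL | sqNorm (x : GolayPt → ℤ) = 32 ∧ sqNorm ((u - x) : GolayPt → ℤ) = 32 ∧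
      dotInt (v : GolayPt → ℤ) (x : GolayPt → ℤ) = 16} = DS [(v, 16), (u, 24)] := by
  ext x
  simp only [DS, Set.mem_setOf_eq, List.mem_cons, List.not_mem_nil, or_false, forall_eq_or_imp, forall_eq]
  refine and_congr_right fun hx => ?_
  rw [show sqNorm (((u - x) : GolayPt → ℤ)) = sqNorm ((u - x : LL) : GolayPt → ℤ) from rfl, dot_of_norm_sub hu hx]
  tauto

end Cfsg.Agent.Lib.CoConf
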