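import Mathlib
import Cfsg.Agent.Lib.CoHS
import Cfsg.Agent.Lib.CoMcL

set_option autoImplicit false
set_option linter.unusedVariables false

/-! The McLaughlin group on 2025 points. -/

namespace Cfsg.Agent.Lib.CoConf

open Cfsg Cfsg.Agent.Lib.CoVec

noncomputable abbrev A2025 : List (LL × ℤ) := [(McLG.lv0, 0), (McLG.lu0, 16)]

theorem ncard_std_p16 : (DS [(McLG.lu0, 16)]).ncard = 11178 := by
  have h := ncard_neg [(McLG.lu0, -16)]
  simp only [List.map_cons, List.map_nil, neg_neg] at h
  exact h.trans ncard_std_16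

theorem ncard_2025_std : (DS A2025).ncard = 2025 := by
  have h := partition [(McLG.lu0, 16)] McLG.lv0 ({0, 16, 8} : Finset ℤ)
    (fun d => if d = 8 then 7128 else 2025) ?_ ?_
  · exact h.1 0 (by decide)
  · intro d hd
    simp only [Finset.mem_insert, Finset.mem_singleton] at hd
    rcases hd with rfl | rfl | rfl
    · exact McLG.lowP2025a
    · exact McLG.lowP2025b
    · exact McLG.lowP7128
  · rw [ncard_std_p16]
    decide

theorem transOn_2025 : TransOn A2025 := transOn_of_table McLG.fixAP2025a (McLG.transP2025a ncard_2025_std.le)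

theorem x1_mem : M22G.lx1 ∈ DS A2025 := McLG.rootP2025a

theorem rank_std3 : RankData A2025 M22G.lx1 ({32, 0, 16, 8} : Finset ℤ)
    (fun d => if d = 32 then 1 else if d = 0 then 330 else if d = 16 then 462 else 1232) := by
  apply rankData_of
  · intro d hd
    simp only [Finset.mem_insert, Finset.mem_singleton] at hd
    rcases hd with rfl | rfl | rfl | rfl
    · exact one_le_of_mem (x := M22G.lx1) (mem_DS_cons.2 ⟨x1_mem, (dot_self _).trans x1_mem.1⟩)
    · exact M22G.lowT330
    · exact M22G.lowT462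
    · exact M22G.lowT1232
  · rw [ncard_2025_std]
    decide
  · intro d hd hd' hc
    simp only [Finset.mem_insert, Finset.mem_singleton] at hd
    rcases hd with rfl | rfl | rfl | rfl
    · exact absurd rfl hd'
    · exact transOn_of_table M22G.fixAT330 (M22G.transT330 hc)
    · exact transOn_of_table M22G.fixAT462 (M22G.transT462 hc)
    · exact transOn_of_table M22G.fixAT1232 (M22G.transT1232 hc)

section general

variable (v w : LL) (hv : sqNorm (v : GolayPt → ℤ) = 32) (hw : sqNorm (w : GolayPt → ℤ) = 32)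
  (hvw : dotInt (v : GolayPt → ℤ) (w : GolayPt → ℤ) = -8)

include hv hw hvw

theorem sum_facts : sqNorm ((v + w : LL) : GolayPt → ℤ) = 48 ∧ dotInt ((v + w : LL) : GolayPt → ℤ) (v : GolayPt → ℤ) = 24 := by
  constructor
  · show sqNorm ((v : GolayPt → ℤ) + (w : GolayPt → ℤ)) = 48
    rw [norm_add, hv, hw, hvw]
    norm_num
  · show dotInt ((v : GolayPt → ℤ) + (w : GolayPt → ℤ)) (v : GolayPt → ℤ) = 24
    rw [dot_add_left, dot_self, hv, dot_comm, hvw]
    norm_num

omit hv hw hvw in
theorem set2025_eq :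
    {x : LL | sqNorm (x : GolayPt → ℤ) = 32 ∧ dotInt (v : GolayPt → ℤ) (x : GolayPt → ℤ) = 0 ∧
      dotInt (w : GolayPt → ℤ) (x : GolayPt → ℤ) = 16} = DS [(v, 0), (v + w, 16)] := by
  ext x
  simp only [DS, Set.mem_setOf_eq, List.mem_cons, List.not_mem_nil, or_false, forall_eq_or_imp, forall_eq]
  refine and_congr_right fun hx => and_congr_right fun h0 => ?_
  have : dotInt ((v + w : LL) : GolayPt → ℤ) (x : GolayPt → ℤ) = dotInt (v : GolayPt → ℤ) (x : GolayPt → ℤ) + dotInt (w : GolayPt → ℤ) (x : GolayPt → ℤ) :=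
    dot_add_left _ _ _
  rw [this, h0, zero_add]

theorem ncard_2025 : (DS [(v, 0), (v + w, 16)]).ncard = 2025 := by
  obtain ⟨h1, h2⟩ := sum_facts v w hv hw hvw
  obtain ⟨g, g1, g2⟩ := std_move (v + w) v h1 hv h2
  rw [← ncard_move g]
  simp only [moveL_cons, moveL_nil, g1, g2]
  exact ncard_2025_std

theorem transOn_2025' : TransOn [(v, 0), (v + w, 16)] := by
  obtain ⟨h1, h2⟩ := sum_facts v w hv hw hvw
  obtain ⟨g, g1, g2⟩ := std_move (v + w) v h1 hv h2
  apply TransOn.of_move (g := g)
  simp only [moveL_cons, moveL_nil, g1, g2]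
  exact transOn_2025

theorem rank_2025 (x : LL) (hx : x ∈ DS [(v, 0), (v + w, 16)]) :
    RankData [(v, 0), (v + w, 16)] x ({32, 0, 16, 8} : Finset ℤ)
    (fun d => if d = 32 then 1 else if d = 0 then 330 else if d = 16 then 462 else 1232) := by
  obtain ⟨h1, h2⟩ := sum_facts v w hv hw hvw
  obtain ⟨g, g1, g2⟩ := std_move (v + w) v h1 hv h2
  have h3 : g • x ∈ DS A2025 := by
    have := (mem_DS_move g [(v, 0), (v + w, 16)] x).2 hx
    simp only [moveL_cons, moveL_nil, g1, g2] at this
    exact this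
  obtain ⟨k, hk, e⟩ := transOn_2025 (g • x) h3 M22G.lx1 x1_mem
  apply RankData.of_move (g := k * g)
  have a1 : (k * g) • (v + w) = McLG.lu0 := by
    rw [mul_smul, g1]
    exact hk (McLG.lu0, 16) (by simp)
  have a2 : (k * g) • v = McLG.lv0 := by
    rw [mul_smul, g2]
    exact hk (McLG.lv0, 0) (by simp)
  have a3 : (k * g) • x = M22G.lx1 := by
    rw [mul_smul, e]
  simp only [moveL_cons, moveL_nil, a1, a2, a3]
  exact rank_std3

end general

end Cfsg.Agent.Lib.CoConf
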