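import Mathlib

set_option autoImplicit false
set_option linter.unusedVariables false

/-! A numerical simplicity criterion: a group transitive on a set, with a simple point stabiliser, whose suborbit
lengths forbid proper blocks and regular normal subgroups. -/

namespace Cfsg.Agent.Lib.SimpleSub

open MulAction

section Frobenius

variable {G : Type*} [Group G] [Fintype G] [DecidableEq G]

open Equiv.Perm in
/-- The number of solutions of `x ^ p = 1` is divisible by `p` when `p` divides the group order. -/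
theorem prime_dvd_card_pow_eq_one (p : ℕ) [hp : Fact p.Prime] (hdvd : p ∣ Fintype.card G) :
    p ∣ Fintype.card {x : G // x ^ p = 1} := by
  classical
  have hp' : p - 1 ≠ 0 := mt tsub_eq_zero_iff_le.mp (not_le_of_gt hp.out.one_lt)
  have Scard :=
    calc
      p ∣ Fintype.card G ^ (p - 1) := hdvd.trans (dvd_pow (dvd_refl _) hp')
      _ = Fintype.card (vectorsProdEqOne G p) := (VectorsProdEqOne.card G p).symm
  let f : Function.End (vectorsProdEqOne G p) := fun v => VectorsProdEqOne.rotate v 1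
  have hk : ∀ k v, (f ^ k) v = VectorsProdEqOne.rotate v k := by
    intro k
    induction k with
    | zero => intro v; exact (VectorsProdEqOne.rotate_zero v).symm
    | succ k ih =>
      intro v
      rw [pow_succ]
      show (f ^ k) (f v) = _
      rw [ih]
      show VectorsProdEqOne.rotate (VectorsProdEqOne.rotate v 1) k = _
      rw [VectorsProdEqOne.rotate_rotate, add_comm]
  have hf : f ^ p ^ 1 = 1 := by
    funext v
    rw [pow_one, hk, VectorsProdEqOne.rotate_length]
    rfl
  have hmod := card_fixedPoints_modEq hf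
  have hfix : p ∣ Fintype.card (Function.fixedPoints f) :=
    (Nat.ModEq.dvd_iff hmod (dvd_refl p)).1 Scard
  have hpne : p ≠ 0 := hp.out.ne_zero
  let g : {x : G // x ^ p = 1} → Function.fixedPoints f := fun x =>
    ⟨⟨List.Vector.replicate p x.1, by
        show (List.replicate p x.1).prod = 1
        rw [List.prod_replicate]
        exact x.2⟩, by
      apply Subtype.ext
      apply Subtype.ext
      exact List.rotate_replicate x.1 p 1⟩
  have hg : Function.Bijective g := by
    constructor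
    · intro x y h
      have h1 : List.replicate p x.1 = List.replicate p y.1 :=
        congrArg (fun z : Function.fixedPoints f => (z.1.1.1 : List G)) h
      exact Subtype.ext (List.replicate_right_injective hpne h1)
    · intro v
      have hrot : (v.1.1.1 : List G).rotate 1 = v.1.1.1 :=
        congrArg (fun z : vectorsProdEqOne G p => (z.1.1 : List G)) (show f v.1 = v.1 from v.2)
      obtain ⟨a, ha⟩ := List.rotate_one_eq_self_iff_eq_replicate.mp hrot
      have hlen : (v.1.1.1 : List G).length = p := v.1.1.2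
      rw [hlen] at ha
      have h2 : (v.1.1.1 : List G).prod = 1 := v.1.2
      rw [ha, List.prod_replicate] at h2
      refine ⟨⟨a, h2⟩, ?_⟩
      apply Subtype.ext
      apply Subtype.ext
      apply Subtype.ext
      exact ha.symm
  rw [← Fintype.card_of_bijective hg] at hfix
  exact hfix

end Frobenius

theorem prime_dvd_natCard_pow_eq_one {G : Type*} [Group G] [Finite G] (p : ℕ) (hp : p.Prime)
    (hdvd : p ∣ Nat.card G) : p ∣ {x : G | x ^ p = 1}.ncard := by
  classical
  haveI := Fintype.ofFinite G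
  haveI : Fact p.Prime := ⟨hp⟩
  rw [Nat.card_eq_fintype_card] at hdvd
  have := prime_dvd_card_pow_eq_one (G := G) p hdvd
  rw [← Nat.card_eq_fintype_card] at this
  exact this

/-- Parity of the set of non-identity solutions. -/
theorem even_ncard_pow_eq_one {G : Type*} [Group G] [Finite G] (p : ℕ) (hp : p.Prime) (h2 : p ≠ 2) :
    Even {x : G | x ^ p = 1 ∧ x ≠ 1}.ncard := by
  classical
  haveI := Fintype.ofFinite G
  let s : Finset G := Finset.univ.filter fun x => x ^ p = 1 ∧ x ≠ 1
  have e : {x : G | x ^ p = 1 ∧ x ≠ 1} = ↑s := by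
    ext x
    simp [s]
  rw [e, Set.ncard_coe_finset, ← ZMod.natCast_eq_zero_iff_even]
  have hsum : ∑ x ∈ s, (1 : ZMod 2) = 0 := by
    refine Finset.sum_involution (fun x _ => x⁻¹) ?_ ?_ ?_ ?_
    · intro a ha
      decide
    · intro a ha _ h
      have ha' := (Finset.mem_filter.1 ha).2
      have h3 : a ^ 2 = 1 := by
        rw [pow_two]
        nth_rw 1 [← h]
        simp
      have h4 : orderOf a ∣ 2 := orderOf_dvd_of_pow_eq_one h3
      have h5 : orderOf a ∣ p := orderOf_dvd_of_pow_eq_one ha'.1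
      have h6 : Nat.Coprime 2 p := (Nat.coprime_primes Nat.prime_two hp).2 (Ne.symm h2)
      have h7 : orderOf a = 1 := Nat.eq_one_of_dvd_coprimes h6 h4 h5
      exact ha'.2 (orderOf_eq_one_iff.1 h7)
    · intro a ha
      have ha' := (Finset.mem_filter.1 ha).2
      show a⁻¹ ∈ s
      refine Finset.mem_filter.2 ⟨Finset.mem_univ _, ?_, ?_⟩
      · rw [inv_pow, ha'.1, inv_one]
      · simpa using ha'.2
    · intro a ha
      exact inv_inv a
  rw [Finset.sum_const, nsmul_eq_mul, mul_one] at hsum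
  exact hsum

section Main

variable {G Ω ι : Type*} [Group G] [Finite G] [MulAction G Ω] [Finite Ω] [IsPretransitive G Ω] [DecidableEq ι]

/-- The description of the suborbits of the point stabiliser by a function. -/
structure SubData (G : Type*) [Group G] [MulAction G Ω] (x₀ : Ω) (f : Ω → ι) (D : Finset ι) (n : ι → ℕ) : Prop where
  hD : ∀ x, x ≠ x₀ → f x ∈ D
  hn : ∀ d ∈ D, {x | x ≠ x₀ ∧ f x = d}.ncard = n d
  htr : ∀ d ∈ D, ∀ x y, x ≠ x₀ → y ≠ x₀ → f x = d → f y = d → ∃ m : G, m • x₀ = x₀ ∧ m • x = y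

omit [Finite G] [IsPretransitive G Ω] in
theorem inv_set_card {x₀ : Ω} {f : Ω → ι} {D : Finset ι} {n : ι → ℕ} (h : SubData G x₀ f D n) (T : Set Ω)
    (hT : ∀ y ∈ T, y ≠ x₀) (hinv : ∀ m : G, m • x₀ = x₀ → ∀ y ∈ T, m • y ∈ T) :
    ∃ D₁ ⊆ D, T.ncard = ∑ d ∈ D₁, n d ∧ (∀ y, y ≠ x₀ → (y ∈ T ↔ f y ∈ D₁)) ∧ ∀ d ∈ D₁, ∃ y ∈ T, f y = d := by
  classical
  haveI := Fintype.ofFinite Ω
  let D₁ := D.filter fun d => ∃ y ∈ T, f y = d
  have hiff : ∀ y, y ≠ x₀ → (y ∈ T ↔ f y ∈ D₁) := by
    intro y hy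
    constructor
    · intro hyT
      exact Finset.mem_filter.2 ⟨h.hD y hy, y, hyT, rfl⟩
    · intro hd
      obtain ⟨hd1, z, hz, hzd⟩ := Finset.mem_filter.1 hd
      obtain ⟨m, hm, e⟩ := h.htr _ hd1 z y (hT z hz) hy hzd rfl
      rw [← e]
      exact hinv m hm z hz
  refine ⟨D₁, Finset.filter_subset _ _, ?_, hiff, fun d hd => (Finset.mem_filter.1 hd).2⟩
  let T' : Finset Ω := (Set.toFinite T).toFinset
  have hT' : T.ncard = T'.card := Set.ncard_eq_toFinset_card _ _
  have hmaps : ∀ x ∈ T', f x ∈ D₁ := by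
    intro x hx
    have hx' : x ∈ T := by simpa [T'] using hx
    exact (hiff x (hT x hx')).1 hx'
  rw [hT', Finset.card_eq_sum_card_fiberwise hmaps]
  apply Finset.sum_congr rfl
  intro d hd
  have hd1 := (Finset.mem_filter.1 hd).1
  rw [← h.hn d hd1, ← Set.ncard_coe_finset]
  congr 1
  ext y
  simp only [Finset.coe_filter, Set.mem_setOf_eq, T', Set.Finite.mem_toFinset]
  constructor
  · rintro ⟨a, b⟩
    exact ⟨hT y a, b⟩
  · rintro ⟨a, b⟩
    exact ⟨(hiff y a).2 (b ▸ hd), b⟩

/-- The simplicity criterion. -/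
theorem simple_of_suborbits (x₀ : Ω) (f : Ω → ι) (D : Finset ι) (n : ι → ℕ) (h : SubData G x₀ f D n)
    (hM : IsSimpleGroup (stabilizer G x₀)) (hmove : ∃ d ∈ D, 1 < n d)
    (hprim : ∀ D₁ ⊆ D, (1 + ∑ d ∈ D₁, n d) ∣ Nat.card Ω → D₁ = ∅ ∨ D₁ = D)
    (p q : ℕ) (hp : p.Prime) (hq : q.Prime) (hpq : p ≠ q) (hpd : p ∣ Nat.card Ω) (hqd : q ∣ Nat.card Ω)
    (hreg : ∀ D₁ ⊆ D, ∀ D₂ ⊆ D, Disjoint D₁ D₂ → p ∣ 1 + ∑ d ∈ D₁, n d → q ∣ 1 + ∑ d ∈ D₂, n d →
      (p ≠ 2 → Even (∑ d ∈ D₁, n d)) → (q ≠ 2 → Even (∑ d ∈ D₂, n d)) → False) :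
    IsSimpleGroup G := by
  classical
  -- two points of one suborbit
  obtain ⟨d₀, hd₀, hn₀⟩ := hmove
  have hn₁ := h.hn d₀ hd₀
  obtain ⟨a, b, hab, hfib⟩ : ∃ a b, a ≠ b ∧ a ∈ {x | x ≠ x₀ ∧ f x = d₀} ∧ b ∈ {x | x ≠ x₀ ∧ f x = d₀} := by
    have := (Set.one_lt_ncard (Set.toFinite _)).1 (hn₁ ▸ hn₀)
    obtain ⟨a, ha, b, hb, hab⟩ := this
    exact ⟨a, b, hab, ha, hb⟩
  obtain ⟨m₀, hm₀, em₀⟩ := h.htr d₀ hd₀ a b hfib.1.1 hfib.2.1 hfib.1.2 hfib.2.2
  haveI : Nontrivial G := ⟨⟨m₀, 1, by
    rintro rfl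
    rw [one_smul] at em₀
    exact hab em₀⟩⟩
  refine ⟨fun N hN => ?_⟩
  haveI := hN
  set M := stabilizer G x₀ with hMdef
  have hconj : ∀ m : G, m • x₀ = x₀ → ∀ k ∈ N, m • (k • x₀) = (m * k * m⁻¹) • x₀ := by
    intro m hm k hk
    have : m⁻¹ • x₀ = x₀ := by
      rw [inv_smul_eq_iff, hm]
    rw [mul_smul, mul_smul, this]
  let O : Set Ω := orbit N x₀
  have hx₀O : x₀ ∈ O := mem_orbit_self x₀
  have hblock : IsBlock G O := IsBlock.orbit_of_normal x₀
  have hdvd : O.ncard ∣ Nat.card Ω := hblock.ncard_dvd_card ⟨x₀, hx₀O⟩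
  have hmemO : ∀ y, y ∈ O ↔ ∃ k ∈ N, k • x₀ = y := by
    intro y
    constructor
    · rintro ⟨k, rfl⟩
      exact ⟨k.1, k.2, rfl⟩
    · rintro ⟨k, hk, rfl⟩
      exact ⟨⟨k, hk⟩, rfl⟩
  obtain ⟨D₁, hD₁, hc₁, hi₁, -⟩ := inv_set_card h (O \ {x₀})
    (fun y hy => hy.2)
    (by
      rintro m hm y ⟨hyO, hy⟩
      obtain ⟨k, hk, rfl⟩ := (hmemO y).1 hyO
      refine ⟨(hmemO _).2 ⟨m * k * m⁻¹, hN.conj_mem k hk m, (hconj m hm k hk).symm⟩, ?_⟩
      intro e
      apply hy
      have e' : m • (k • x₀) = m • x₀ := by rw [hm]; exact e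
      exact MulAction.injective m e')
  have hcardO : O.ncard = 1 + ∑ d ∈ D₁, n d := by
    rw [← hc₁, ← Set.ncard_diff_singleton_add_one hx₀O (Set.toFinite _), add_comm]
  have hmain := hprim D₁ hD₁ (hcardO ▸ hdvd)
  have hnormal : (N.subgroupOf M).Normal := inferInstance
  have hsimp := hM.eq_bot_or_eq_top_of_normal _ hnormal
  rcases hmain with hemp | hall
  · -- the orbit is a point
    left
    have hfix : ∀ k ∈ N, k • x₀ = x₀ := by
      intro k hk
      by_contra hne
      have h1 : k • x₀ ∈ O \ {x₀} := ⟨(hmemO _).2 ⟨k, hk, rfl⟩, hne⟩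
      have h2 := (hi₁ _ hne).1 h1
      rw [hemp] at h2
      exact absurd h2 (Finset.notMem_empty _)
    rcases hsimp with hbot | htop
    · rw [eq_bot_iff]
      intro k hk
      have h1 : (⟨k, hfix k hk⟩ : M) ∈ N.subgroupOf M := hk
      rw [hbot, Subgroup.mem_bot] at h1
      exact Subgroup.mem_bot.2 (congrArg Subtype.val h1)
    · exfalso
      have hm₀N : m₀ ∈ N := by
        have h1 : (⟨m₀, hm₀⟩ : M) ∈ N.subgroupOf M := by
          rw [htop]
          exact Subgroup.mem_top _
        exact h1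
      obtain ⟨g, hg⟩ := exists_smul_eq G x₀ a
      have h2 : m₀ • a = a := by
        rw [← hg, ← mul_smul]
        have h3 : g⁻¹ * (m₀ * g) ∈ N := by
          have := hN.conj_mem m₀ hm₀N g⁻¹
          simpa [mul_assoc] using this
        have h4 := hfix _ h3
        have h5 : (m₀ * g) • x₀ = g • x₀ := by
          have := congrArg (fun z => g • z) h4
          simpa [mul_smul] using this
        exact h5
      exact hab (h2.symm.trans em₀)
  · -- the normal subgroup is transitive
    right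
    have htrans : ∀ y, ∃ k ∈ N, k • x₀ = y := by
      intro y
      by_cases hy : y = x₀
      · exact ⟨1, N.one_mem, by rw [one_smul, hy]⟩
      · have h1 : y ∈ O \ {x₀} := (hi₁ y hy).2 (hall ▸ h.hD y hy)
        exact (hmemO y).1 h1.1
    rcases hsimp with hbot | htop
    · exfalso
      -- regular normal subgroup
      have hinj : ∀ k ∈ N, ∀ k' ∈ N, k • x₀ = k' • x₀ → k = k' := by
        intro k hk k' hk' e
        have h1 : k'⁻¹ * k ∈ N := N.mul_mem (N.inv_mem hk') hk
        have h2 : (k'⁻¹ * k) • x₀ = x₀ := by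
          rw [mul_smul, e, inv_smul_smul]
        have h3 : (⟨k'⁻¹ * k, h2⟩ : M) ∈ N.subgroupOf M := h1
        rw [hbot, Subgroup.mem_bot] at h3
        have h4 : k'⁻¹ * k = 1 := congrArg Subtype.val h3
        exact (inv_mul_eq_one.1 h4).symm
      let e : N → Ω := fun k => (k : G) • x₀
      have he_inj : Function.Injective e := fun k k' hkk => Subtype.ext (hinj k k.2 k' k'.2 hkk)
      have he_surj : Function.Surjective e := by
        intro y
        obtain ⟨k, hk, rfl⟩ := htrans y
        exact ⟨⟨k, hk⟩, rfl⟩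
      have hcardN : Nat.card N = Nat.card Ω := Nat.card_eq_of_bijective e ⟨he_inj, he_surj⟩
      -- the data for a prime
      have key : ∀ r : ℕ, r.Prime → r ∣ Nat.card Ω → ∃ D₂ ⊆ D, r ∣ 1 + ∑ d ∈ D₂, n d ∧
          (r ≠ 2 → Even (∑ d ∈ D₂, n d)) ∧
          (∀ d ∈ D₂, ∃ k : N, (k : N) ^ r = 1 ∧ k ≠ 1 ∧ f ((k : G) • x₀) = d) ∧
          ∀ k : N, k ≠ 1 → f ((k : G) • x₀) ∈ D₂ → k ^ r = 1 := by
        intro r hr hrd
        let E : Set N := {x : N | x ^ r = 1 ∧ x ≠ 1}
        have hEimg : ∀ y ∈ e '' E, y ≠ x₀ := by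
          rintro y ⟨k, hk, rfl⟩ hy
          apply hk.2
          apply he_inj
          show (k : G) • x₀ = (1 : G) • x₀
          rw [one_smul]
          exact hy
        obtain ⟨D₂, hD₂, hc₂, hi₂, hex₂⟩ := inv_set_card h (e '' E) hEimg (by
          rintro m hm y ⟨k, hk, rfl⟩
          refine ⟨⟨m * k * m⁻¹, hN.conj_mem k k.2 m⟩, ⟨?_, ?_⟩, (hconj m hm k k.2).symm⟩
          · apply Subtype.ext
            show (m * (k : G) * m⁻¹) ^ r = 1
            rw [conj_pow]
            have : (k : G) ^ r = 1 := congrArg Subtype.val hk.1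
            rw [this]
            simp
          · intro hh
            apply hk.2
            have h3 : m * (k : G) * m⁻¹ = 1 := congrArg Subtype.val hh
            have h4 : (k : G) = 1 := by
              have := congrArg (fun z => m⁻¹ * z * m) h3
              simpa [mul_assoc] using this
            exact Subtype.ext h4)
        have hcardE : (e '' E).ncard = E.ncard := Set.ncard_image_of_injective _ he_inj
        refine ⟨D₂, hD₂, ?_, ?_, ?_, ?_⟩
        · rw [← hc₂, hcardE]
          have h1 := prime_dvd_natCard_pow_eq_one (G := N) r hr (hcardN ▸ hrd)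
          have h2 : {x : N | x ^ r = 1} = insert 1 E := by
            ext x
            simp only [Set.mem_setOf_eq, Set.mem_insert_iff, E]
            constructor
            · intro hx
              by_cases hx1 : x = 1
              · exact Or.inl hx1
              · exact Or.inr ⟨hx, hx1⟩
            · rintro (rfl | hx)
              · simp
              · exact hx.1
          rw [h2, Set.ncard_insert_of_notMem (by simp [E]) (Set.toFinite _), add_comm] at h1
          exact h1
        · intro hr2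
          rw [← hc₂, hcardE]
          exact even_ncard_pow_eq_one (G := N) r hr hr2
        · intro d hd
          obtain ⟨y, ⟨k, hk, rfl⟩, hy⟩ := hex₂ d hd
          exact ⟨k, hk.1, hk.2, hy⟩
        · intro k hk1 hk2
          have hne : e k ≠ x₀ := by
            intro hh
            apply hk1
            apply he_inj
            show (k : G) • x₀ = (1 : G) • x₀
            rw [one_smul]
            exact hh
          obtain ⟨k', hk', hkk⟩ := (hi₂ (e k) hne).2 hk2
          rw [he_inj hkk] at hk'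
          exact hk'.1
      obtain ⟨D₂, hD₂, h2a, h2b, h2c, h2d⟩ := key p hp hpd
      obtain ⟨D₃, hD₃, h3a, h3b, h3c, h3d⟩ := key q hq hqd
      refine hreg D₂ hD₂ D₃ hD₃ ?_ h2a h3a h2b h3b
      rw [Finset.disjoint_left]
      intro d hd2 hd3
      obtain ⟨k, hk1, hk2, hk3⟩ := h2c d hd2
      have hk4 := h3d k hk2 (hk3 ▸ hd3)
      have h4 : orderOf k ∣ p := orderOf_dvd_of_pow_eq_one hk1
      have h5 : orderOf k ∣ q := orderOf_dvd_of_pow_eq_one hk4
      have h6 : Nat.Coprime p q := (Nat.coprime_primes hp hq).2 hpq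
      have h7 : orderOf k = 1 := Nat.eq_one_of_dvd_coprimes h6 h4 h5
      exact hk2 (orderOf_eq_one_iff.1 h7)
    · rw [eq_top_iff]
      intro g _
      obtain ⟨k, hk, e⟩ := htrans (g • x₀)
      have h1 : k⁻¹ * g ∈ M := by
        show (k⁻¹ * g) • x₀ = x₀
        rw [mul_smul, ← e, inv_smul_smul]
      have h2 : k⁻¹ * g ∈ N := by
        have h3 : (⟨k⁻¹ * g, h1⟩ : M) ∈ N.subgroupOf M := by
          rw [htop]
          exact Subgroup.mem_top _
        exact h3
      have h3 := N.mul_mem hk h2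
      simpa using h3

end Main

end Cfsg.Agent.Lib.SimpleSub
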