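import Mathlib
import Cfsg.Agent.Lib.CoRank
import Cfsg.Agent.Lib.SimpleSub

set_option autoImplicit false
set_option linter.unusedVariables false

/-! The simplicity criterion for joint stabilisers of vectors, and orbit-stabiliser counting. -/

namespace Cfsg.Agent.Lib.CoConf

open Cfsg Cfsg.Agent.Lib.CoVec Cfsg.Agent.Lib.SimpleSub MulAction

abbrev stb (v : LL) : Subgroup Co0 := MulAction.stabilizer Co0 v

/-- The action of a joint stabiliser on a set of vectors. -/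
@[reducible] def dsAct {K : Subgroup Co0} {A : List (LL × ℤ)} (hK : ∀ k ∈ K, ∀ p ∈ A, k • p.1 = p.1) :
    MulAction K (DS A) where
  smul k x := ⟨(k : Co0) • x.1, smul_mem_DS (hK k k.2) x.2⟩
  one_smul x := Subtype.ext (one_smul _ _)
  mul_smul a b x := Subtype.ext (mul_smul _ _ _)

/-- The point stabiliser of the action on a set. -/
def stabEquiv {K : Subgroup Co0} {A : List (LL × ℤ)} (hK : ∀ k ∈ K, ∀ p ∈ A, k • p.1 = p.1) (x₀ : DS A) :
    letI := dsAct hK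
    stabilizer K x₀ ≃* ↥(K ⊓ stb x₀.1) :=
  letI := dsAct hK
  { toFun := fun m => ⟨m.1.1, m.1.2, congrArg Subtype.val m.2⟩
    invFun := fun m => ⟨⟨m.1, m.2.1⟩, Subtype.ext m.2.2⟩
    left_inv := fun m => rfl
    right_inv := fun m => rfl
    map_mul' := fun a b => rfl }

theorem simple_of_rank {K : Subgroup Co0} {A : List (LL × ℤ)} (hK1 : ∀ k ∈ K, ∀ p ∈ A, k • p.1 = p.1)
    (hK2 : ∀ k : Co0, (∀ p ∈ A, k • p.1 = p.1) → k ∈ K) (ht : TransOn A) {x₀ : LL} (hx₀ : x₀ ∈ DS A)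
    {D : Finset ℤ} {n : ℤ → ℕ} (h32 : (32 : ℤ) ∉ D) (hR : RankData A x₀ (insert 32 D) n) (hn32 : n 32 = 1)
    (hM : IsSimpleGroup ↥(K ⊓ stb x₀)) (hmove : ∃ d ∈ D, 1 < n d) {N : ℕ} (hN : (DS A).ncard = N)
    (hprim : ∀ D₁ ∈ D.powerset, (1 + ∑ d ∈ D₁, n d) ∣ N → D₁ = ∅ ∨ D₁ = D)
    (p q : ℕ) (hp : p.Prime) (hq : q.Prime) (hpq : p ≠ q) (hpd : p ∣ N) (hqd : q ∣ N)
    (hreg : ∀ D₁ ∈ D.powerset, ∀ D₂ ∈ D.powerset, Disjoint D₁ D₂ → p ∣ 1 + ∑ d ∈ D₁, n d → q ∣ 1 + ∑ d ∈ D₂, n d →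
      (p ≠ 2 → Even (∑ d ∈ D₁, n d)) → (q ≠ 2 → Even (∑ d ∈ D₂, n d)) → False) :
    IsSimpleGroup ↥K := by
  classical
  letI := dsAct hK1
  haveI : Finite (DS A) := (finite_DS A).to_subtype
  haveI : Finite Co0 := Cfsg.Agent.Lib.Co0Frame.finite_Co0
  haveI : IsPretransitive K (DS A) := ⟨by
    intro x y
    obtain ⟨k, hk, e⟩ := ht x.1 x.2 y.1 y.2
    exact ⟨⟨k, hK2 k hk⟩, Subtype.ext e⟩⟩
  have hcard : Nat.card (DS A) = N := by
    rw [← hN]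
    exact Nat.card_coe_set_eq _
  let x₁ : DS A := ⟨x₀, hx₀⟩
  have hsimple : IsSimpleGroup (stabilizer K x₁) := by
    have e := stabEquiv hK1 x₁
    haveI := hM
    exact (MulEquiv.isSimpleGroup e)
  refine simple_of_suborbits x₁ (fun y : DS A => dotInt (x₀ : GolayPt → ℤ) ((y : LL) : GolayPt → ℤ)) D n
    ⟨?_, ?_, ?_⟩ hsimple hmove ?_ p q hp hq hpq (hcard ▸ hpd) (hcard ▸ hqd) ?_
  · intro y hy
    have hy' : (y : LL) ≠ x₀ := fun e => hy (Subtype.ext e)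
    obtain ⟨h1, h2⟩ := hR.dot_ne hx₀ (Finset.mem_insert_self _ _) hn32 y.2 hy'
    exact (Finset.mem_insert.1 h1).resolve_left h2
  · intro d hd
    rw [← hR.1 d (Finset.mem_insert_of_mem hd)]
    rw [← Set.ncard_image_of_injective _ Subtype.val_injective]
    congr 1
    ext y
    constructor
    · rintro ⟨z, ⟨h1, h2⟩, rfl⟩
      exact mem_DS_cons.2 ⟨z.2, h2⟩
    · intro hy
      obtain ⟨h1, h2⟩ := mem_DS_cons.1 hy
      refine ⟨⟨y, h1⟩, ⟨?_, h2⟩, rfl⟩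
      intro e
      have e' : y = x₀ := congrArg Subtype.val e
      subst e'
      rw [dot_self, h1.1] at h2
      exact h32 (h2 ▸ hd)
  · intro d hd x y hx hy fx fy
    have hne : d ≠ 32 := fun e => h32 (e ▸ hd)
    obtain ⟨k, hk, e⟩ := hR.2.1 d (Finset.mem_insert_of_mem hd) hne x.1 (mem_DS_cons.2 ⟨x.2, fx⟩) y.1
      (mem_DS_cons.2 ⟨y.2, fy⟩)
    have hkK : k ∈ K := hK2 k fun p hp => hk p (List.mem_cons_of_mem _ hp)
    refine ⟨⟨k, hkK⟩, ?_, Subtype.ext e⟩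
    exact Subtype.ext (hk (x₀, d) (by simp))
  · intro D₁ hD₁ hdvd
    exact hprim D₁ (Finset.mem_powerset.2 hD₁) (hcard ▸ hdvd)
  · intro D₁ h1 D₂ h2 h3 h4 h5 h6 h7
    exact hreg D₁ (Finset.mem_powerset.2 h1) D₂ (Finset.mem_powerset.2 h2) h3 h4 h5 h6 h7

/-- Orbit-stabiliser in the form used for the orders. -/
theorem card_orbit_stab {K : Subgroup Co0} {T : Set LL} {x₀ : LL} (hinv : ∀ k ∈ K, ∀ y ∈ T, (k : Co0) • y ∈ T)
    (htrans : ∀ y ∈ T, ∃ k ∈ K, (k : Co0) • x₀ = y) (hx₀ : x₀ ∈ T) :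
    Nat.card K = T.ncard * Nat.card ↥(K ⊓ stb x₀) := by
  have h1 : orbit K x₀ = T := by
    ext y
    constructor
    · rintro ⟨k, rfl⟩
      exact hinv k k.2 x₀ hx₀
    · intro hy
      obtain ⟨k, hk, e⟩ := htrans y hy
      exact ⟨⟨k, hk⟩, e⟩
  have h2 := Subgroup.card_mul_index (stabilizer K x₀)
  rw [index_stabilizer, h1] at h2
  have e : stabilizer K x₀ ≃* ↥(K ⊓ stb x₀) :=
    { toFun := fun m => ⟨m.1.1, m.1.2, m.2⟩
      invFun := fun m => ⟨⟨m.1, m.2.1⟩, m.2.2⟩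
      left_inv := fun m => rfl
      right_inv := fun m => rfl
      map_mul' := fun a b => rfl }
  rw [← Nat.card_congr e.toEquiv, ← h2, mul_comm]

/-- Conjugating the stabilisers of a list of vectors. -/
def conjStb (g : Co0) {K K' : Subgroup Co0} (h : ∀ k, k ∈ K ↔ g * k * g⁻¹ ∈ K') : ↥K ≃* ↥K' where
  toFun k := ⟨g * k.1 * g⁻¹, (h k.1).1 k.2⟩
  invFun k := ⟨g⁻¹ * k.1 * g, (h _).2 (by
    have : g * (g⁻¹ * k.1 * g) * g⁻¹ = k.1 := by group
    rw [this]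
    exact k.2)⟩
  left_inv k := Subtype.ext (by simp [mul_assoc])
  right_inv k := Subtype.ext (by simp [mul_assoc])
  map_mul' a b := Subtype.ext (by simp [mul_assoc])

theorem mem_stb_conj (g k : Co0) (v : LL) : k ∈ stb v ↔ g * k * g⁻¹ ∈ stb (g • v) := by
  show k • v = v ↔ (g * k * g⁻¹) • (g • v) = g • v
  rw [mul_smul, mul_smul, inv_smul_smul]
  constructor
  · intro h
    rw [h]
  · intro h
    exact MulAction.injective g h

end Cfsg.Agent.Lib.CoConf
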