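import Mathlib
import Cfsg.Agent.Lib.CoSimple
import Cfsg.Agent.Lib.CoMcL2
import Cfsg.Agent.Lib.CoHS
import Cfsg.Agent.Lib.CoMcLWTab
import Cfsg.Agent.Lib.Co0Order
import Cfsg.Agent.Lib.M22Simple
import Cfsg.Agent.Lib.M24Facts

set_option autoImplicit false
set_option linter.unusedVariables false

/-! Orders of joint stabilisers; the stabilisers of three vectors in the Higman-Sims and McLaughlin configurations are
the simple Mathieu group on 22 points; simplicity of the Higman-Sims and McLaughlin configurations. -/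

namespace Cfsg.Agent.Lib.CoConf

open Cfsg Cfsg.Agent.Lib.CoVec Cfsg.Agent.Lib.Co0Mono Cfsg.Agent.Lib.Co0Frame Cfsg.Agent.Lib.Leech MulAction

theorem finite_Co0' : Finite Co0 := Cfsg.Agent.Lib.Co0Frame.finite_Co0

/-! ### Orders -/

theorem card_stb32 (v : LL) (hv : sqNorm (v : GolayPt → ℤ) = 32) : Nat.card (stb v) = 42305421312000 := by
  have h := card_orbit_stab (K := ⊤) (T := DS []) (x₀ := v)
    (fun k _ y hy => smul_mem_DS (by simp) hy)
    (fun y hy => by
      obtain ⟨g, hg⟩ := Cfsg.Agent.Lib.Co0Trans.trans32 v y hv hy.1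
      exact ⟨g, Subgroup.mem_top _, hg⟩)
    ⟨hv, by simp⟩
  rw [ncard_nil, top_inf_eq, Subgroup.card_top, Cfsg.Agent.Lib.Co0Order.card_Co0] at h
  omega

theorem card_stb48 (u : LL) (hu : sqNorm (u : GolayPt → ℤ) = 48) : Nat.card (stb u) = 495766656000 := by
  have h := card_orbit_stab (K := ⊤) (T := N48) (x₀ := u)
    (fun k _ y hy => (norm_smul k y).trans hy)
    (fun y hy => by
      obtain ⟨g, hg⟩ := Cfsg.Agent.Lib.Co0Trans.trans48 u y hu hy
      exact ⟨g, Subgroup.mem_top _, hg⟩)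
    hu
  rw [ncard_N48, top_inf_eq, Subgroup.card_top, Cfsg.Agent.Lib.Co0Order.card_Co0] at h
  omega

theorem card_mcl (v w : LL) (hv : sqNorm (v : GolayPt → ℤ) = 32) (hw : sqNorm (w : GolayPt → ℤ) = 32)
    (hvw : dotInt (v : GolayPt → ℤ) (w : GolayPt → ℤ) = -8) : Nat.card ↥(stb v ⊓ stb w) = 898128000 := by
  have hwm : w ∈ DS [(v, -8)] := ⟨hw, by simpa using hvw⟩
  have h := card_orbit_stab (K := stb v) (T := DS [(v, -8)]) (x₀ := w)
    (fun k hk y hy => smul_mem_DS (by
      intro p hp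
      simp only [List.mem_singleton] at hp
      subst hp
      exact hk) hy)
    (fun y hy => by
      have hy2 : dotInt (v : GolayPt → ℤ) (y : GolayPt → ℤ) = -8 := hy.2 (v, -8) (by simp)
      obtain ⟨g, g1, g2⟩ := Cfsg.Agent.Lib.Co0Pair.pairM8 hv hv hw hy.1 hvw hy2
      exact ⟨g, g1, g2⟩)
    hwm
  rw [card_stb32 v hv, ncard_DS_single, (Cfsg.Agent.Lib.CoCensus.census v hv).2.1] at h
  omega

/-- The sum of the two vectors in the Higman-Sims configuration. -/
theorem hs_neg_mem (v w : LL) (hv : sqNorm (v : GolayPt → ℤ) = 48) (hw : sqNorm (w : GolayPt → ℤ) = 48)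
    (hvw : dotInt (v : GolayPt → ℤ) (w : GolayPt → ℤ) = -32) : -(v + w) ∈ DS [(v, -16)] := by
  obtain ⟨h1, h2⟩ := hs_sum hv hw hvw
  refine ⟨?_, ?_⟩
  · show sqNorm (-((v + w : LL) : GolayPt → ℤ)) = 32
    rw [norm_neg, h1]
  · intro p hp
    simp only [List.mem_singleton] at hp
    subst hp
    show dotInt (v : GolayPt → ℤ) (-((v + w : LL) : GolayPt → ℤ)) = -16
    rw [dot_neg_right, dot_comm, h2]

theorem stb_neg_sum (v w : LL) : stb v ⊓ stb w = stb v ⊓ stb (-(v + w)) := by
  ext k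
  constructor
  · rintro ⟨h1, h2⟩
    refine ⟨h1, ?_⟩
    have h1' : k • v = v := h1
    have h2' : k • w = w := h2
    show k • (-(v + w)) = -(v + w)
    rw [smul_neg', smul_add', h1', h2']
  · rintro ⟨h1, h2⟩
    refine ⟨h1, ?_⟩
    have h1' : k • v = v := h1
    have h2' : k • (-(v + w)) = -(v + w) := h2
    rw [smul_neg', smul_add', h1'] at h2'
    exact add_left_cancel (neg_injective h2')

theorem card_hs (v w : LL) (hv : sqNorm (v : GolayPt → ℤ) = 48) (hw : sqNorm (w : GolayPt → ℤ) = 48)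
    (hvw : dotInt (v : GolayPt → ℤ) (w : GolayPt → ℤ) = -32) : Nat.card ↥(stb v ⊓ stb w) = 44352000 := by
  have hm := hs_neg_mem v w hv hw hvw
  rw [stb_neg_sum]
  have h := card_orbit_stab (K := stb v) (T := DS [(v, -16)]) (x₀ := -(v + w))
    (fun k hk y hy => smul_mem_DS (by
      intro p hp
      simp only [List.mem_singleton] at hp
      subst hp
      exact hk) hy)
    (fun y hy => by
      obtain ⟨g, g1, g2⟩ := pair16_move hv hv hm hy
      exact ⟨g, g1, g2⟩)
    hm
  rw [card_stb48 v hv, ncard_16 v hv] at h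
  omega

/-! ### The Mathieu group inside the group -/

theorem mono_fix {a : GolayPt → ℤ} (A B C : ℤ)
    (ha : ∀ i, a i = if i = none then A else if i = some 0 then B else C) {σ : Equiv.Perm GolayPt}
    (h1 : σ none = none) (h2 : σ (some 0) = some 0) : mono ∅ σ a = a := by
  funext i
  simp only [mono_apply, Finset.notMem_empty, if_false]
  rw [ha, ha i]
  by_cases e1 : i = none
  · subst e1
    rw [h1]
  by_cases e2 : i = some 0
  · subst e2
    rw [h2]
  have e3 : σ i ≠ none := fun e => e1 (σ.injective (e.trans h1.symm))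
  have e4 : σ i ≠ some 0 := fun e => e2 (σ.injective (e.trans h2.symm))
  simp [e1, e2, e3, e4]

/-- The two point stabiliser in the Mathieu group, embedded in the group. -/
noncomputable def phi22 :
    ↥(MulAction.stabilizer M24 (none : GolayPt) ⊓ MulAction.stabilizer M24 (some 0 : GolayPt)) →* Co0 where
  toFun σ := monoCo0 empty_mem_codeSets (M24.inv_mem σ.1.2)
  map_one' := by
    apply monoCo0_ext
    intro v
    rw [monoCo0_apply]
    funext i
    simp [mono_apply]
  map_mul' a b := by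
    apply monoCo0_ext
    intro v
    show (mono ∅ ((a.1.1 * b.1.1 : Equiv.Perm GolayPt)⁻¹) v.1) =
      mono ∅ (a.1.1⁻¹) (mono ∅ (b.1.1⁻¹) v.1)
    funext i
    simp [mono_apply, Equiv.Perm.mul_apply, mul_inv_rev]

theorem phi22_inj : Function.Injective phi22 := by
  rw [injective_iff_map_eq_one]
  intro σ hσ
  apply Subtype.ext
  apply Subtype.ext
  apply Equiv.ext
  intro i
  -- test on the vectors supported on one point
  let x : LL := ⟨Pi.single i (8 : ℤ), Cfsg.Agent.Lib.LeechClasses.eight_single_mem i⟩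
  have h1 : mono ∅ ((σ.1.1 : Equiv.Perm GolayPt)⁻¹) x.1 = x.1 := by
    have := congrArg (fun g : Co0 => (((g : Equiv.Perm LL) x : LL) : GolayPt → ℤ)) hσ
    exact this
  have h2 := congrFun h1 ((σ.1.1 : Equiv.Perm GolayPt) i)
  simp only [mono_apply, Finset.notMem_empty, if_false, x, Pi.single_apply] at h2
  have e1 : ((σ.1.1 : Equiv.Perm GolayPt)⁻¹) ((σ.1.1 : Equiv.Perm GolayPt) i) = i := by simp
  rw [if_pos e1] at h2
  show (σ.1.1 : Equiv.Perm GolayPt) i = i
  by_contra hne
  rw [if_neg hne] at h2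
  norm_num at h2

/-- A subgroup of the right order containing the image of the Mathieu group is simple. -/
theorem m22_simple_of (M : Subgroup Co0) (hc : Nat.card M = 443520)
    (hsub : ∀ σ (hσ : σ ∈ M24), σ none = none → σ (some 0) = some 0 → monoCo0 empty_mem_codeSets hσ ∈ M) :
    IsSimpleGroup ↥M := by
  classical
  haveI := finite_Co0'
  have hle : phi22.range ≤ M := by
    rintro _ ⟨σ, rfl⟩
    refine hsub _ _ ?_ ?_
    · have h1 : (σ.1 : ↥M24) • (none : GolayPt) = none := σ.2.1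
      have h2 : ((σ.1 : ↥M24)⁻¹) • (none : GolayPt) = none := by rw [inv_smul_eq_iff, h1]
      exact h2
    · have h1 : (σ.1 : ↥M24) • (some 0 : GolayPt) = some 0 := σ.2.2
      have h2 : ((σ.1 : ↥M24)⁻¹) • (some 0 : GolayPt) = some 0 := by rw [inv_smul_eq_iff, h1]
      exact h2
  have hcard : Nat.card phi22.range = 443520 := by
    rw [← Nat.card_congr (MonoidHom.ofInjective phi22_inj).toEquiv]
    exact Cfsg.Agent.Lib.M24Facts.card_stabilizer_two (by simp)
  have heq : phi22.range = M := Subgroup.eq_of_le_of_card_ge hle (by rw [hc, hcard])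
  rw [← heq]
  haveI := Cfsg.Agent.Lib.M22Simple.m22_simple none (some 0) (by simp)
  exact (MonoidHom.ofInjective phi22_inj).symm.isSimpleGroup

/-- Membership of the image of the Mathieu group in the stabiliser of a vector. -/
theorem mono_mem_stb {a : LL} (A B C : ℤ)
    (ha : ∀ i, (a : GolayPt → ℤ) i = if i = none then A else if i = some 0 then B else C)
    {σ : Equiv.Perm GolayPt} (hσ : σ ∈ M24) (h1 : σ none = none) (h2 : σ (some 0) = some 0) :
    monoCo0 empty_mem_codeSets hσ ∈ stb a :=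
  Subtype.ext (mono_fix A B C ha h1 h2)

/-! ### The Higman-Sims group -/

theorem form_u0 : ∀ i, (HSG.lu0 : GolayPt → ℤ) i = if i = none then 5 else if i = some 0 then 1 else 1 := by
  show ∀ i, dec HSG.u0 i = if i = none then 5 else if i = some 0 then 1 else 1
  decide +kernel
theorem form_w1 : ∀ i, (HSG.lw1 : GolayPt → ℤ) i = if i = none then -1 else if i = some 0 then -5 else -1 := by
  show ∀ i, dec HSG.w1 i = if i = none then -1 else if i = some 0 then -5 else -1
  decide +kernel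
theorem form_v0 : ∀ i, (M22G.lv0 : GolayPt → ℤ) i = if i = none then 4 else if i = some 0 then 4 else 0 := by
  show ∀ i, dec M22G.v0 i = if i = none then 4 else if i = some 0 then 4 else 0
  decide +kernel
theorem form_w0 : ∀ i, (McLWG.lw0 : GolayPt → ℤ) i = if i = none then 1 else if i = some 0 then -3 else 1 := by
  show ∀ i, dec McLWG.w0 i = if i = none then 1 else if i = some 0 then -3 else 1
  decide +kernel
theorem form_x1 : ∀ i, (M22G.lx1 : GolayPt → ℤ) i = if i = none then 4 else if i = some 0 then -4 else 0 := by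
  show ∀ i, dec M22G.x1 i = if i = none then 4 else if i = some 0 then -4 else 0
  decide +kernel

section conj3

variable (g : Co0) (a b c : LL)

theorem simple_conj3 (h : IsSimpleGroup ↥(stb (g • a) ⊓ stb (g • b) ⊓ stb (g • c))) :
    IsSimpleGroup ↥(stb a ⊓ stb b ⊓ stb c) := by
  haveI := h
  refine (conjStb g (K := stb a ⊓ stb b ⊓ stb c) (K' := stb (g • a) ⊓ stb (g • b) ⊓ stb (g • c)) ?_).isSimpleGroup
  intro k
  constructor
  · rintro ⟨⟨h1, h2⟩, h3⟩
    exact ⟨⟨(mem_stb_conj g k a).1 h1, (mem_stb_conj g k b).1 h2⟩, (mem_stb_conj g k c).1 h3⟩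
  · rintro ⟨⟨h1, h2⟩, h3⟩
    exact ⟨⟨(mem_stb_conj g k a).2 h1, (mem_stb_conj g k b).2 h2⟩, (mem_stb_conj g k c).2 h3⟩

end conj3

/-- The order of the stabiliser of a point of the Higman-Sims configuration. -/
theorem card_hs_pt (v w x : LL) (hv : sqNorm (v : GolayPt → ℤ) = 48) (hw : sqNorm (w : GolayPt → ℤ) = 48)
    (hvw : dotInt (v : GolayPt → ℤ) (w : GolayPt → ℤ) = -32) (hx : x ∈ DS [(w, -24), (v, 24)]) :
    Nat.card ↥(stb v ⊓ stb w ⊓ stb x) = 443520 := by
  have h := card_orbit_stab (K := stb v ⊓ stb w) (T := DS [(w, -24), (v, 24)]) (x₀ := x)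
    (fun k hk y hy => smul_mem_DS (by
      intro p hp
      simp only [List.mem_cons, List.not_mem_nil, or_false] at hp
      rcases hp with rfl | rfl
      · exact hk.2
      · exact hk.1) hy)
    (fun y hy => by
      obtain ⟨k, hk, e⟩ := transOn_100' v w hv hw hvw x hx y hy
      exact ⟨k, ⟨hk (v, 24) (by simp), hk (w, -24) (by simp)⟩, e⟩)
    hx
  rw [card_hs v w hv hw hvw, ncard_100 v w hv hw hvw] at h
  omega

theorem hs_pt_simple (v w x : LL) (hv : sqNorm (v : GolayPt → ℤ) = 48) (hw : sqNorm (w : GolayPt → ℤ) = 48)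
    (hvw : dotInt (v : GolayPt → ℤ) (w : GolayPt → ℤ) = -32) (hx : x ∈ DS [(w, -24), (v, 24)]) :
    IsSimpleGroup ↥(stb v ⊓ stb w ⊓ stb x) := by
  obtain ⟨g, g1, g2, g3⟩ := triple_hs v w x hv hw hvw hx
  apply simple_conj3 g
  rw [g1, g2, g3]
  apply m22_simple_of
  · exact card_hs_pt _ _ _ hs_u0 hs_w1 hs_u0w1 v0_mem_100
  · intro σ hσ h1 h2
    exact ⟨⟨mono_mem_stb _ _ _ form_u0 hσ h1 h2, mono_mem_stb _ _ _ form_w1 hσ h1 h2⟩,
      mono_mem_stb _ _ _ form_v0 hσ h1 h2⟩

theorem hs_simple (v w : LL) (hv : sqNorm (v : GolayPt → ℤ) = 48) (hw : sqNorm (w : GolayPt → ℤ) = 48)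
    (hvw : dotInt (v : GolayPt → ℤ) (w : GolayPt → ℤ) = -32) : IsSimpleGroup ↥(stb v ⊓ stb w) := by
  have hN := ncard_100 v w hv hw hvw
  obtain ⟨x, hx⟩ : (DS [(w, -24), (v, 24)]).Nonempty := Set.nonempty_of_ncard_ne_zero (by rw [hN]; norm_num)
  refine simple_of_rank (D := {8, 16}) ?_ ?_ (transOn_100' v w hv hw hvw) hx (by decide)
    (rank_hs v w x hv hw hvw hx) (by norm_num) (hs_pt_simple v w x hv hw hvw hx) ⟨16, by decide, by decide⟩ hN
    (by decide +kernel) 5 2 (by norm_num) (by norm_num) (by norm_num) (by norm_num) (by norm_num)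
    (by decide +kernel)
  · intro k hk p hp
    simp only [List.mem_cons, List.not_mem_nil, or_false] at hp
    rcases hp with rfl | rfl
    · exact hk.2
    · exact hk.1
  · intro k hk
    exact ⟨hk (v, 24) (by simp), hk (w, -24) (by simp)⟩

/-! ### The McLaughlin group -/

theorem card_mcl_pt (v w x : LL) (hv : sqNorm (v : GolayPt → ℤ) = 32) (hw : sqNorm (w : GolayPt → ℤ) = 32)
    (hvw : dotInt (v : GolayPt → ℤ) (w : GolayPt → ℤ) = -8) (hx : x ∈ DS [(v, 0), (v + w, 16)]) :
    Nat.card ↥(stb v ⊓ stb w ⊓ stb x) = 443520 := by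
  have h := card_orbit_stab (K := stb v ⊓ stb w) (T := DS [(v, 0), (v + w, 16)]) (x₀ := x)
    (fun k hk y hy => smul_mem_DS (by
      intro p hp
      have a1 : k • v = v := hk.1
      have a2 : k • w = w := hk.2
      simp only [List.mem_cons, List.not_mem_nil, or_false] at hp
      rcases hp with rfl | rfl
      · exact a1
      · show k • (v + w) = v + w
        rw [smul_add', a1, a2]) hy)
    (fun y hy => by
      obtain ⟨k, hk, e⟩ := transOn_2025' v w hv hw hvw x hx y hy
      have h1 : k • v = v := hk (v, 0) (by simp)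
      have h2 : k • (v + w) = v + w := hk (v + w, 16) (by simp)
      rw [smul_add', h1] at h2
      exact ⟨k, ⟨h1, add_left_cancel h2⟩, e⟩)
    hx
  rw [card_mcl v w hv hw hvw, ncard_2025 v w hv hw hvw] at h
  omega

theorem norm_lw0 : sqNorm (McLWG.lw0 : GolayPt → ℤ) = 32 := norm_code (by decide +kernel)
theorem dot_v0w0 : dotInt (McLG.lv0 : GolayPt → ℤ) (McLWG.lw0 : GolayPt → ℤ) = -8 := dot_code (by decide +kernel)
theorem e_sum : McLG.lv0 + McLWG.lw0 = McLG.lu0 := by
  apply Subtype.ext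
  funext i
  show dec McLG.v0 i + dec McLWG.w0 i = dec McLG.u0 i
  revert i
  decide +kernel

theorem triple_mcl (v w x : LL) (hv : sqNorm (v : GolayPt → ℤ) = 32) (hw : sqNorm (w : GolayPt → ℤ) = 32)
    (hvw : dotInt (v : GolayPt → ℤ) (w : GolayPt → ℤ) = -8) (hx : x ∈ DS [(v, 0), (v + w, 16)]) :
    ∃ g : Co0, g • v = McLG.lv0 ∧ g • w = McLWG.lw0 ∧ g • x = M22G.lx1 := by
  obtain ⟨g, g1, g2⟩ := Cfsg.Agent.Lib.Co0Pair.pairM8 hv norm_v0 hw norm_lw0 hvw dot_v0w0
  have h1 : g • x ∈ DS A2025 := by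
    have := (mem_DS_move g [(v, 0), (v + w, 16)] x).2 hx
    have e : g • (v + w) = McLG.lu0 := by rw [smul_add', g1, g2, e_sum]
    simp only [moveL_cons, moveL_nil, g1, e] at this
    exact this
  obtain ⟨k, hk, e⟩ := transOn_2025 (g • x) h1 M22G.lx1 x1_mem
  have a1 : k • McLG.lv0 = McLG.lv0 := hk (McLG.lv0, 0) (by simp)
  have a2 : k • McLG.lu0 = McLG.lu0 := hk (McLG.lu0, 16) (by simp)
  refine ⟨k * g, ?_, ?_, ?_⟩
  · rw [mul_smul, g1, a1]
  · rw [mul_smul, g2]
    rw [← e_sum, smul_add', a1] at a2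
    exact add_left_cancel a2
  · rw [mul_smul, e]

theorem mcl_pt_simple (v w x : LL) (hv : sqNorm (v : GolayPt → ℤ) = 32) (hw : sqNorm (w : GolayPt → ℤ) = 32)
    (hvw : dotInt (v : GolayPt → ℤ) (w : GolayPt → ℤ) = -8) (hx : x ∈ DS [(v, 0), (v + w, 16)]) :
    IsSimpleGroup ↥(stb v ⊓ stb w ⊓ stb x) := by
  obtain ⟨g, g1, g2, g3⟩ := triple_mcl v w x hv hw hvw hx
  apply simple_conj3 g
  rw [g1, g2, g3]
  apply m22_simple_of
  · refine card_mcl_pt _ _ _ norm_v0 norm_lw0 dot_v0w0 ?_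
    rw [e_sum]
    exact x1_mem
  · intro σ hσ h1 h2
    exact ⟨⟨mono_mem_stb _ _ _ form_v0 hσ h1 h2, mono_mem_stb _ _ _ form_w0 hσ h1 h2⟩,
      mono_mem_stb _ _ _ form_x1 hσ h1 h2⟩

theorem mcl_simple (v w : LL) (hv : sqNorm (v : GolayPt → ℤ) = 32) (hw : sqNorm (w : GolayPt → ℤ) = 32)
    (hvw : dotInt (v : GolayPt → ℤ) (w : GolayPt → ℤ) = -8) : IsSimpleGroup ↥(stb v ⊓ stb w) := by
  have hN := ncard_2025 v w hv hw hvw
  obtain ⟨x, hx⟩ : (DS [(v, 0), (v + w, 16)]).Nonempty := Set.nonempty_of_ncard_ne_zero (by rw [hN]; norm_num)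
  refine simple_of_rank (D := {0, 16, 8}) ?_ ?_ (transOn_2025' v w hv hw hvw) hx (by decide)
    (rank_2025 v w hv hw hvw x hx) (by norm_num) (mcl_pt_simple v w x hv hw hvw hx) ⟨16, by decide, by decide⟩ hN
    (by decide +kernel) 5 3 (by norm_num) (by norm_num) (by norm_num) (by norm_num) (by norm_num)
    (by decide +kernel)
  · intro k hk p hp
    have a1 : k • v = v := hk.1
    have a2 : k • w = w := hk.2
    simp only [List.mem_cons, List.not_mem_nil, or_false] at hp
    rcases hp with rfl | rfl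
    · exact a1
    · show k • (v + w) = v + w
      rw [smul_add', a1, a2]
  · intro k hk
    have h1 : k • v = v := hk (v, 0) (by simp)
    have h2 : k • (v + w) = v + w := hk (v + w, 16) (by simp)
    rw [smul_add', h1] at h2
    exact ⟨h1, add_left_cancel h2⟩

end Cfsg.Agent.Lib.CoConf
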