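import Mathlib
import Cfsg.Agent.Lib.CoSimpleM22

set_option autoImplicit false
set_option linter.unusedVariables false

/-! Simplicity of the stabilisers of a vector of squared length 48 and of a short vector. -/

namespace Cfsg.Agent.Lib.CoConf

open Cfsg Cfsg.Agent.Lib.CoVec MulAction

theorem co3_simple (u : LL) (hu : sqNorm (u : GolayPt → ℤ) = 48) : IsSimpleGroup ↥(stb u) := by
  have hN := ncard_16 u hu
  obtain ⟨x, hx⟩ : (DS [(u, -16)]).Nonempty := Set.nonempty_of_ncard_ne_zero (by rw [hN]; norm_num)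
  have hK1 : ∀ k ∈ stb u, ∀ p ∈ [(u, (-16 : ℤ))], k • p.1 = p.1 := by
    intro k hk p hp
    simp only [List.mem_singleton] at hp
    subst hp
    exact hk
  have hK2 : ∀ k : Co0, (∀ p ∈ [(u, (-16 : ℤ))], k • p.1 = p.1) → k ∈ stb u :=
    fun k hk => hk (u, -16) (by simp)
  have hT : TransOn [(u, (-16 : ℤ))] := by
    intro y hy z hz
    obtain ⟨g, g1, g2⟩ := pair16_move hu hu hy hz
    refine ⟨g, ?_, g2⟩
    intro p hp
    simp only [List.mem_singleton] at hp
    subst hp
    exact g1
  have hxu : dotInt (u : GolayPt → ℤ) (x : GolayPt → ℤ) = -16 := hx.2 (u, -16) (by simp)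
  let w : LL := -(u + x)
  have hwn : sqNorm (w : GolayPt → ℤ) = 48 := by
    show sqNorm (-((u : GolayPt → ℤ) + (x : GolayPt → ℤ))) = 48
    rw [norm_neg, norm_add, hu, hx.1, hxu]
    norm_num
  have huw : dotInt (u : GolayPt → ℤ) (w : GolayPt → ℤ) = -32 := by
    show dotInt (u : GolayPt → ℤ) (-((u : GolayPt → ℤ) + (x : GolayPt → ℤ))) = -32
    rw [dot_neg_right, dot_add_right, dot_self, hu, hxu]
    norm_num
  have hM : IsSimpleGroup ↥(stb u ⊓ stb x) := by
    have h := hs_simple u w hu hwn huw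
    rw [stb_neg_sum] at h
    have e : -(u + w) = x := by
      show -(u + -(u + x)) = x
      abel
    rw [e] at h
    exact h
  exact simple_of_rank (D := {-8, 16, 0, 8}) hK1 hK2 hT hx (by decide) (rank_11178 u x hu hx) (by norm_num) hM
    ⟨16, by decide, by decide⟩ hN (by decide +kernel) 23 3 (by norm_num) (by norm_num) (by norm_num) (by norm_num)
    (by norm_num) (by decide +kernel)

/-! ### The stabiliser of a short vector -/

theorem norm_lv0' : sqNorm (McLWG.lv0 : GolayPt → ℤ) = 32 := norm_v0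

noncomputable abbrev A47104 : List (LL × ℤ) := [(McLWG.lv0, -8)]

theorem ncard_47104 (v : LL) (hv : sqNorm (v : GolayPt → ℤ) = 32) : (DS [(v, -8)]).ncard = 47104 := by
  rw [ncard_DS_single]
  exact (Cfsg.Agent.Lib.CoCensus.census v hv).2.1

theorem w0_mem : McLWG.lw0 ∈ DS A47104 := ⟨norm_lw0, by
  intro p hp
  simp only [List.mem_singleton] at hp
  subst hp
  exact dot_v0w0⟩

theorem rank_std4 : RankData A47104 McLWG.lw0 (insert 32 ({-16, 16, -8, 8, 0} : Finset ℤ))
    (fun d => if d = 32 then 1 else if d = -16 then 275 else if d = 16 then 2025 else if d = -8 then 7128 else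
      if d = 8 then 15400 else 22275) := by
  apply rankData_of
  · intro d hd
    simp only [Finset.mem_insert, Finset.mem_singleton] at hd
    rcases hd with rfl | rfl | rfl | rfl | rfl | rfl
    · exact one_le_of_mem (x := McLWG.lw0) (mem_DS_cons.2 ⟨w0_mem, (dot_self _).trans w0_mem.1⟩)
    · exact McLWG.lowWm16
    · exact McLWG.lowWp16
    · exact McLWG.lowWm8
    · exact McLWG.lowWp8
    · exact McLWG.lowWz
  · rw [ncard_47104 _ norm_lv0']
    decide
  · intro d hd hd' hc
    simp only [Finset.mem_insert, Finset.mem_singleton] at hd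
    rcases hd with rfl | rfl | rfl | rfl | rfl | rfl
    · exact absurd rfl hd'
    · exact transOn_of_table McLWG.fixAWm16 (McLWG.transWm16 hc)
    · exact transOn_of_table McLWG.fixAWp16 (McLWG.transWp16 hc)
    · exact transOn_of_table McLWG.fixAWm8 (McLWG.transWm8 hc)
    · exact transOn_of_table McLWG.fixAWp8 (McLWG.transWp8 hc)
    · exact transOn_of_table McLWG.fixAWz (McLWG.transWz hc)

theorem rank_47104 (v w : LL) (hv : sqNorm (v : GolayPt → ℤ) = 32) (hw : w ∈ DS [(v, -8)]) :
    RankData [(v, -8)] w (insert 32 ({-16, 16, -8, 8, 0} : Finset ℤ))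
    (fun d => if d = 32 then 1 else if d = -16 then 275 else if d = 16 then 2025 else if d = -8 then 7128 else
      if d = 8 then 15400 else 22275) := by
  have hd : dotInt (v : GolayPt → ℤ) (w : GolayPt → ℤ) = -8 := hw.2 (v, -8) (by simp)
  obtain ⟨g, g1, g2⟩ := Cfsg.Agent.Lib.Co0Pair.pairM8 hv norm_lv0' hw.1 norm_lw0 hd dot_v0w0
  apply RankData.of_move (g := g)
  simp only [moveL_cons, moveL_nil, g1, g2]
  exact rank_std4

theorem co2_simple (v : LL) (hv : sqNorm (v : GolayPt → ℤ) = 32) : IsSimpleGroup ↥(stb v) := by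
  have hN := ncard_47104 v hv
  obtain ⟨w, hw⟩ : (DS [(v, -8)]).Nonempty := Set.nonempty_of_ncard_ne_zero (by rw [hN]; norm_num)
  have hK1 : ∀ k ∈ stb v, ∀ p ∈ [(v, (-8 : ℤ))], k • p.1 = p.1 := by
    intro k hk p hp
    simp only [List.mem_singleton] at hp
    subst hp
    exact hk
  have hK2 : ∀ k : Co0, (∀ p ∈ [(v, (-8 : ℤ))], k • p.1 = p.1) → k ∈ stb v :=
    fun k hk => hk (v, -8) (by simp)
  have hT : TransOn [(v, (-8 : ℤ))] := by
    intro y hy z hz
    have hy2 : dotInt (v : GolayPt → ℤ) (y : GolayPt → ℤ) = -8 := hy.2 (v, -8) (by simp)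
    have hz2 : dotInt (v : GolayPt → ℤ) (z : GolayPt → ℤ) = -8 := hz.2 (v, -8) (by simp)
    obtain ⟨g, g1, g2⟩ := Cfsg.Agent.Lib.Co0Pair.pairM8 hv hv hy.1 hz.1 hy2 hz2
    refine ⟨g, ?_, g2⟩
    intro p hp
    simp only [List.mem_singleton] at hp
    subst hp
    exact g1
  have hd : dotInt (v : GolayPt → ℤ) (w : GolayPt → ℤ) = -8 := hw.2 (v, -8) (by simp)
  exact simple_of_rank (D := {-16, 16, -8, 8, 0}) hK1 hK2 hT hw (by decide) (rank_47104 v w hv hw) (by norm_num)
    (mcl_simple v w hv hw.1 hd) ⟨16, by decide, by decide⟩ hN (by decide +kernel) 23 2 (by norm_num) (by norm_num)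
    (by norm_num) (by norm_num) (by norm_num) (by decide +kernel)

end Cfsg.Agent.Lib.CoConf
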