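import Mathlib
import Cfsg.Agent.Lib.Co2YChk
import Cfsg.Agent.Lib.OutCo2Abs
import Cfsg.Agent.Lib.CoSimple2
import Cfsg.Agent.Lib.CoFib

set_option autoImplicit false
set_option linter.unusedVariables false
set_option linter.unusedSimpArgs false
set_option linter.style.haveILetI false
set_option linter.unusedSectionVars false

/-!
# The outer automorphism group of the second Conway group

The group acts on the 2300 pairs of short vectors with sum a fixed short vector. All automorphisms permute the pairs by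
`OutCo2Abs`, and they preserve the relation "inner product congruent to 8 modulo 16", whose permutations are
counted by the certificate of `Co2YRun`.
-/

namespace Cfsg.Agent.Lib.OutCo2

open Finset MulAction Cfsg Cfsg.Agent.Lib.CoConf Cfsg.Agent.Lib.CoVec Cfsg.Agent.Lib.OutMcL Cfsg.Agent.Lib.OutHat
  Cfsg.Agent.Lib.OutHS Cfsg.Agent.Lib.OutCo2Abs Cfsg.Agent.Lib.GraphRefine Cfsg.Agent.Lib.FastDot Co2YG

noncomputable abbrev v : LL := McLG.lv0

theorem hv : sqNorm (v : GolayPt → ℤ) = 32 := norm_v0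

theorem v_val : (v : GolayPt → ℤ) = dec McLG.v0 := rfl

noncomputable abbrev A : List (LL × ℤ) := [(v, 16)]

noncomputable abbrev G : Subgroup Co0 := stb v

theorem hG1 : ∀ k ∈ G, ∀ p ∈ A, k • p.1 = p.1 := by
  intro k hk p hp
  simp only [A, List.mem_singleton] at hp
  subst hp
  exact hk

noncomputable instance instAct : MulAction G (DS A) := dsAct hG1

instance instFinG : Finite G :=
  haveI := finite_Co0'
  inferInstance

instance instFinA : Finite (DS A) := (finite_DS A).to_subtype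

theorem mem_A {x : LL} : x ∈ DS A ↔ sqNorm (x : GolayPt → ℤ) = 32 ∧ dotInt (v : GolayPt → ℤ) (x : GolayPt → ℤ) = 16 := by
  constructor
  · intro h
    exact ⟨h.1, h.2 (v, 16) (by simp)⟩
  · rintro ⟨h1, h2⟩
    refine ⟨h1, ?_⟩
    intro p hp
    simp only [A, List.mem_singleton] at hp
    subst hp
    exact h2

theorem smul_val (k : G) (x : DS A) : ((k • x : DS A) : LL) = (k : Co0) • (x : LL) := rfl

theorem iota_mem {x : LL} (hx : x ∈ DS A) : v - x ∈ DS A := by
  obtain ⟨h1, h2⟩ := mem_A.1 hx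
  refine mem_A.2 ⟨?_, ?_⟩
  · show sqNorm ((v : GolayPt → ℤ) - (x : GolayPt → ℤ)) = 32
    rw [norm_sub, hv, h1, h2]
    norm_num
  · show dotInt (v : GolayPt → ℤ) ((v : GolayPt → ℤ) - (x : GolayPt → ℤ)) = 16
    rw [dot_sub_right, dot_self, hv, h2]
    norm_num

/-- The partner of a vector. -/
noncomputable def ι (x : DS A) : DS A := ⟨v - x.1, iota_mem x.2⟩

theorem ι_val (x : DS A) : (ι x : LL) = v - x.1 := rfl

theorem ι_ι (x : DS A) : ι (ι x) = x := Subtype.ext (sub_sub_cancel v x.1)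

theorem ι_comm (g : G) (x : DS A) : g • ι x = ι (g • x) := by
  apply Subtype.ext
  show (g : Co0) • (v - x.1) = v - (g : Co0) • x.1
  rw [smul_sub']
  congr 1
  exact g.2

/-- Pairs. -/
noncomputable def rel : Setoid (DS A) where
  r x y := y = x ∨ y = ι x
  iseqv := by
    refine ⟨fun x => Or.inl rfl, ?_, ?_⟩
    · rintro x y (rfl | rfl)
      · exact Or.inl rfl
      · exact Or.inr (ι_ι x).symm
    · rintro x y z (rfl | rfl) (rfl | rfl)
      · exact Or.inl rfl
      · exact Or.inr rfl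
      · exact Or.inr rfl
      · exact Or.inl (ι_ι x)

abbrev Om : Type := Quotient rel

/-- The class of a vector. -/
noncomputable def mk (x : DS A) : Om := Quotient.mk rel x

theorem mk_eq {x y : DS A} : mk x = mk y ↔ y = x ∨ y = ι x :=
  ⟨fun h => Quotient.exact h, fun h => Quotient.sound h⟩

theorem mk_ι (x : DS A) : mk (ι x) = mk x := (mk_eq.2 (Or.inr rfl)).symm

noncomputable instance instActOm : MulAction G Om where
  smul g := Quotient.map (fun x => g • x) (by
    rintro x y (rfl | rfl)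
    · exact Or.inl rfl
    · exact Or.inr (ι_comm g x))
  one_smul := by
    intro q
    induction q using Quotient.inductionOn with | _ x => ?_
    exact congrArg mk (one_smul G x)
  mul_smul := by
    intro a b q
    induction q using Quotient.inductionOn with | _ x => ?_
    exact congrArg mk (mul_smul a b x)

theorem smul_mk (g : G) (x : DS A) : g • mk x = mk (g • x) := rfl

instance instFinOm : Finite Om := Quotient.finite _

noncomputable instance instFintypeOm : Fintype Om := Fintype.ofFinite _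

noncomputable instance instDecOm : DecidableEq Om := Classical.decEq _

/-- The relation on vectors. -/
def AdjV (x y : DS A) : Prop := dotInt ((x : LL) : GolayPt → ℤ) ((y : LL) : GolayPt → ℤ) % 16 = 8

theorem adjV_ι_right (x y : DS A) : AdjV x (ι y) ↔ AdjV x y := by
  unfold AdjV
  have h1 : ((ι y : DS A) : LL).1 = (v : GolayPt → ℤ) - (y.1 : GolayPt → ℤ) := rfl
  rw [h1, dot_sub_right, dot_comm (x.1 : GolayPt → ℤ) (v : GolayPt → ℤ), (mem_A.1 x.2).2]
  omega

theorem adjV_comm (x y : DS A) : AdjV x y ↔ AdjV y x := by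
  unfold AdjV
  rw [dot_comm]

theorem adjV_ι_left (x y : DS A) : AdjV (ι x) y ↔ AdjV x y := by
  rw [adjV_comm, adjV_ι_right, adjV_comm]

/-- The relation on pairs. -/
def Adj : Om → Om → Prop :=
  Quotient.lift₂ AdjV (by
    rintro a₁ b₁ a₂ b₂ (rfl | rfl) (rfl | rfl)
    · rfl
    · exact propext (adjV_ι_right _ _).symm
    · exact propext (adjV_ι_left _ _).symm
    · exact propext (by rw [adjV_ι_left, adjV_ι_right]))

noncomputable instance instDecAdj : DecidableRel Adj := Classical.decRel _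

theorem adj_mk (x y : DS A) : Adj (mk x) (mk y) ↔ AdjV x y := Iff.rfl

theorem adj_symm (x y : Om) : Adj x y → Adj y x := by
  induction x using Quotient.inductionOn with | _ a => ?_
  induction y using Quotient.inductionOn with | _ b => ?_
  exact (adjV_comm a b).1

theorem adj_irrefl (x : Om) : ¬ Adj x x := by
  induction x using Quotient.inductionOn with | _ a => ?_
  show ¬ (dotInt ((a : LL) : GolayPt → ℤ) ((a : LL) : GolayPt → ℤ) % 16 = 8)
  rw [dot_self, a.2.1]
  norm_num

theorem adj_smul (g : G) (x y : Om) : Adj (g • x) (g • y) ↔ Adj x y := by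
  induction x using Quotient.inductionOn with | _ a => ?_
  induction y using Quotient.inductionOn with | _ b => ?_
  show (dotInt (((g : Co0) • a.1 : LL) : GolayPt → ℤ) (((g : Co0) • b.1 : LL) : GolayPt → ℤ) % 16 = 8) ↔ _
  rw [dot_smul]
  rfl

/-! ### Coded vectors -/

/-- The code of a vector with prescribed norm and inner product. -/
def X32 (n : ℕ) : Prop :=
  St n ∧ sqNorm (dec n) = 32 ∧ dotInt (dec McLG.v0) (dec n) = 16

noncomputable def lvn {n : ℕ} (h : X32 n) : DS A := ⟨⟨dec n, h.1.2.1⟩, mem_A.2 ⟨h.2.1, h.2.2⟩⟩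

noncomputable def pt {n : ℕ} (h : X32 n) : Om := mk (lvn h)

theorem pt_congr {a b : ℕ} (e : a = b) (ha : X32 a) (hb : X32 b) : pt ha = pt hb := by
  subst e
  rfl

theorem comp_spec {n : ℕ} (h : St n) : n ≤ Cc ∧ Cc - n < 2 ^ 192 ∧ dec (Cc - n) = dec McLG.v0 - dec n := by
  let f : ℕ → ℕ := fun i => byte McLG.v0 i + 128 - byte n i
  have hb : ∀ i < 24, f i + byte n i = byte McLG.v0 i + 128 ∧ f i < 256 ∧ byte n i ≤ byte McLG.v0 i + 128 := by
    intro i hi
    have h1 := h.byte_bounds hi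
    have h2 := v0_bytes i hi
    show byte McLG.v0 i + 128 - byte n i + byte n i = _ ∧ byte McLG.v0 i + 128 - byte n i < 256 ∧ _
    omega
  have hf : ∀ i < 24, f i < 256 := fun i hi => (hb i hi).2.1
  have e1 : pack (Cfsg.Agent.Lib.Golay.idxL.map f) + n = Cc := by
    have e := pack_idxL_bytes h.1
    have h2 : pack (Cfsg.Agent.Lib.Golay.idxL.map f) + n
        = pack (Cfsg.Agent.Lib.Golay.idxL.map f) + pack (Cfsg.Agent.Lib.Golay.idxL.map (byte n)) := by rw [e]
    rw [h2, pack_add, Cc_eq]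
    apply congrArg pack
    apply List.map_congr_left
    intro i hi
    exact (hb i (Cfsg.Agent.Lib.Golay.mem_idxL.1 hi)).1
  have e2 : Cc - n = pack (Cfsg.Agent.Lib.Golay.idxL.map f) := by omega
  refine ⟨by omega, ?_, ?_⟩
  · rw [e2]
    exact pack_idxL_lt _ hf
  · rw [e2]
    funext p
    have hi := Cfsg.Agent.Lib.Golay.idx_lt p
    show ((byte _ (Cfsg.Agent.Lib.Golay.idx p) : ℕ) : ℤ) - 128 = dec McLG.v0 p - dec n p
    rw [byte_pack_idxL _ hf hi]
    have h3 := hb _ hi
    simp only [dec]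
    omega

theorem X32_comp {n : ℕ} (h : X32 n) : X32 (Cc - n) := by
  obtain ⟨h0, h1, h2⟩ := comp_spec h.1
  have hd : dotInt (dec McLG.v0) (dec n) = 16 := h.2.2
  have hn : sqNorm (dec n) = 32 := h.2.1
  have hv' : sqNorm (dec McLG.v0) = 32 := hv
  have hnorm : sqNorm (dec (Cc - n)) = 32 := by
    rw [h2, norm_sub, hv', hn, hd]
    norm_num
  refine ⟨⟨h1, ?_, ?_⟩, hnorm, ?_⟩
  · rw [h2]
    exact sub_mem McLG.St_v0.2.1 h.1.2.1
  · rw [hnorm]
    norm_num
  · rw [h2, dot_sub_right, dot_self, hv', hd]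
    norm_num

theorem lvn_comp {n : ℕ} (h : X32 n) : lvn (X32_comp h) = ι (lvn h) := by
  apply Subtype.ext
  apply Subtype.ext
  exact (comp_spec h.1).2.2

theorem pt_comp {n : ℕ} (h : X32 n) : pt (X32_comp h) = pt h := by
  unfold pt
  rw [lvn_comp, mk_ι]

theorem canon_cases (n : ℕ) : (canon n = n ∧ 2 * n < Cc) ∨ (canon n = Cc - n ∧ ¬ 2 * n < Cc) := by
  unfold canon
  by_cases h : 2 * n < Cc
  · left
    have h2 : Nat.blt (Nat.mul 2 n) Cc = true := by
      show Nat.blt (2 * n) Cc = true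
      simpa [Nat.blt_eq] using h
    rw [h2]
    exact ⟨rfl, h⟩
  · right
    have h2 : Nat.blt (Nat.mul 2 n) Cc = false := by
      cases h3 : Nat.blt (Nat.mul 2 n) Cc
      · rfl
      · exfalso
        apply h
        have : Nat.mul 2 n < Cc := by simpa [Nat.blt_eq] using h3
        exact this
    rw [h2]
    exact ⟨rfl, h⟩

theorem X32_canon {n : ℕ} (h : X32 n) : X32 (canon n) := by
  rcases canon_cases n with ⟨e, _⟩ | ⟨e, _⟩
  · rw [e]
    exact h
  · rw [e]
    exact X32_comp h

theorem pt_canon {n : ℕ} (h : X32 n) : pt (X32_canon h) = pt h := by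
  rcases canon_cases n with ⟨e, _⟩ | ⟨e, _⟩
  · exact pt_congr e _ _
  · rw [pt_congr e (X32_canon h) (X32_comp h)]
    exact pt_comp h

theorem pt_eq {a b : ℕ} {ha : X32 a} {hb : X32 b} (h : pt ha = pt hb) : b = a ∨ b = Cc - a := by
  rcases mk_eq.1 h with e | e
  · left
    have e1 : dec b = dec a := congrArg (fun y : DS A => ((y : LL) : GolayPt → ℤ)) e
    exact dec_injOn hb.1.1 ha.1.1 e1
  · right
    have e1 : lvn hb = lvn (X32_comp ha) := by rw [e, lvn_comp]
    have e2 : dec b = dec (Cc - a) := congrArg (fun y : DS A => ((y : LL) : GolayPt → ℤ)) e1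
    exact dec_injOn hb.1.1 (X32_comp ha).1.1 e2

theorem canon_self {c : ℕ} (h : 2 * c < Cc) : canon c = c := by
  rcases canon_cases c with ⟨e, _⟩ | ⟨_, h2⟩
  · exact e
  · exact absurd h h2

theorem canon_comp {c : ℕ} (h : 2 * c < Cc) : canon (Cc - c) = c := by
  rcases canon_cases (Cc - c) with ⟨_, h2⟩ | ⟨e, _⟩
  · omega
  · rw [e]
    omega

/-- The group acts on codes. -/
theorem act_X32 {g : Co0} {f : ℕ → ℕ} (hg : ActsOn g f) (hm : g • v = v) {n : ℕ} (h : X32 n) : X32 (f n) := by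
  have h1 := hg n h.1
  have e : dec (f n) = ((g • (⟨dec n, h.1.2.1⟩ : LL) : LL) : GolayPt → ℤ) := h1.2.symm
  refine ⟨hg.st h.1, ?_, ?_⟩
  · rw [e, norm_smul]
    exact h.2.1
  · rw [e]
    have h2 := dot_smul g v ⟨dec n, h.1.2.1⟩
    rw [hm] at h2
    exact h2.trans h.2.2

theorem act_pt {g : Co0} {f : ℕ → ℕ} (hg : ActsOn g f) (hm : g • v = v) {n : ℕ} (h : X32 n) :
    (⟨g, hm⟩ : G) • pt h = pt (act_X32 hg hm h) := by
  show mk _ = mk _
  congr 1
  apply Subtype.ext
  apply Subtype.ext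
  exact (hg n h.1).2

/-! ### The points -/

theorem all_code' (i : ℕ) (hi : i < 2300) : chkCode (codeAt i) = true ∧ chkCls i (codeAt i) = true := by
  have h := List.all_eq_true.1 all_code i (List.mem_range.2 hi)
  simpa using h

theorem dotIs_spec {a b d : ℕ} (h : dotIs a b d = true) : dotInt (dec a) (dec b) = d := by
  rw [dotInt_dec]
  have h1 : dotA a b = Nat.add (dotB a b) d := Nat.eq_of_beq_eq_true h
  rw [h1]
  show (((dotB a b + d : ℕ) : ℤ) - _) = _
  push_cast
  ring

theorem chk_spec {c : ℕ} (h : chkCode c = true) : X32 c ∧ 2 * c < Cc := by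
  simp only [chkCode, Bool.and_eq_true] at h
  obtain ⟨⟨⟨h1, h2⟩, h3⟩, h4⟩ := h
  refine ⟨⟨St_of_stChk h1, ?_, ?_⟩, ?_⟩
  · rw [sqNorm_dec, Nat.eq_of_beq_eq_true h2]
    rfl
  · exact_mod_cast dotIs_spec h3
  · have : Nat.mul 2 c < Cc := by simpa [Nat.blt_eq] using h4
    exact this

theorem hX (i : ℕ) (hi : i < 2300) : X32 (codeAt i) := (chk_spec (all_code' i hi).1).1

theorem hCan (i : ℕ) (hi : i < 2300) : 2 * codeAt i < Cc := (chk_spec (all_code' i hi).1).2

theorem code_inj {i j : ℕ} (hi : i < 2300) (hj : j < 2300) (e : codeAt i = codeAt j) : i = j := by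
  have h := (ndChk_spec _ _ _ codes_nd).2
  exact List.inj_on_of_nodup_map h (List.mem_range.2 hi) (List.mem_range.2 hj) e

/-- The enumeration of the vectors. -/
noncomputable def lv (i : Fin 2300) : DS A := lvn (hX i.1 i.2)

/-- The vectors and their partners. -/
noncomputable def lv2 (p : Fin 2300 × Bool) : DS A := if p.2 then ι (lv p.1) else lv p.1

theorem lv_eq {i j : Fin 2300} (e : lv i = lv j) : i = j := by
  have e1 : dec (codeAt i.1) = dec (codeAt j.1) := congrArg (fun y : DS A => ((y : LL) : GolayPt → ℤ)) e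
  exact Fin.ext (code_inj i.2 j.2 (dec_injOn (hX _ i.2).1.1 (hX _ j.2).1.1 e1))

theorem lv_ne_ι (i j : Fin 2300) : lv i ≠ ι (lv j) := by
  intro e
  have e1 : lv i = lvn (X32_comp (hX j.1 j.2)) := by
    rw [lvn_comp]
    exact e
  have e2 : dec (codeAt i.1) = dec (Cc - codeAt j.1) := congrArg (fun y : DS A => ((y : LL) : GolayPt → ℤ)) e1
  have e3 := dec_injOn (hX _ i.2).1.1 (X32_comp (hX j.1 j.2)).1.1 e2
  have h1 := hCan i.1 i.2
  have h2 := hCan j.1 j.2
  have h3 := (comp_spec (hX j.1 j.2).1).1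
  omega

theorem lv2_inj : Function.Injective lv2 := by
  rintro ⟨i, a⟩ ⟨j, b⟩ e
  cases a <;> cases b <;> simp only [lv2, if_true, if_false, Bool.false_eq_true] at e
  · rw [lv_eq e]
  · exact absurd e (lv_ne_ι i j)
  · exact absurd e.symm (lv_ne_ι j i)
  · have e2 : lv i = lv j := by
      have := congrArg ι e
      rwa [ι_ι, ι_ι] at this
    rw [lv_eq e2]

theorem ncard_A : (DS A).ncard = 4600 := by
  rw [ncard_DS_single]
  exact (Cfsg.Agent.Lib.CoCensus.census v hv).2.2.2.1

theorem lv2_bij : Function.Bijective lv2 := by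
  classical
  letI := Fintype.ofFinite (DS A)
  refine (Fintype.bijective_iff_injective_and_card _).2 ⟨lv2_inj, ?_⟩
  rw [← Nat.card_eq_fintype_card (α := DS A), Nat.card_coe_set_eq, ncard_A]
  simp

/-- The enumeration of the pairs. -/
noncomputable def en (i : Fin 2300) : Om := mk (lv i)

theorem en_val (i : Fin 2300) : en i = pt (hX i.1 i.2) := rfl

theorem en_bij : Function.Bijective en := by
  constructor
  · intro i j e
    rcases mk_eq.1 e with e1 | e1
    · exact (lv_eq e1).symm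
    · exact absurd e1 (lv_ne_ι j i)
  · intro q
    induction q using Quotient.inductionOn with | _ x => ?_
    obtain ⟨⟨i, b⟩, rfl⟩ := lv2_bij.2 x
    refine ⟨i, ?_⟩
    cases b
    · rfl
    · exact (mk_ι (lv i)).symm

noncomputable def eq : Fin 2300 ≃ Om := Equiv.ofBijective en en_bij

theorem eq_apply (i : Fin 2300) : eq i = en i := rfl

theorem card_Om : Fintype.card Om = 2300 := by
  rw [← Fintype.card_congr eq]
  simp

/-! ### Transitivity -/

theorem trans_A (x y : DS A) : ∃ g : G, g • x = y := by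
  obtain ⟨x1, x2⟩ := mem_A.1 x.2
  obtain ⟨y1, y2⟩ := mem_A.1 y.2
  have hn : ∀ z : DS A, sqNorm ((-z.1 : LL) : GolayPt → ℤ) = 32 := by
    intro z
    show sqNorm (-((z.1 : LL) : GolayPt → ℤ)) = 32
    rw [norm_neg]
    exact (mem_A.1 z.2).1
  have hd : ∀ z : DS A, dotInt (v : GolayPt → ℤ) ((-z.1 : LL) : GolayPt → ℤ) = -16 := by
    intro z
    show dotInt (v : GolayPt → ℤ) (-((z.1 : LL) : GolayPt → ℤ)) = -16
    rw [dot_neg_right, (mem_A.1 z.2).2]
  obtain ⟨g, g1, g2⟩ := Cfsg.Agent.Lib.Co0Pair.pairM16 hv hv (hn x) (hn y) (hd x) (hd y)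
  refine ⟨⟨g, g1⟩, Subtype.ext ?_⟩
  show g • x.1 = y.1
  have h3 := congrArg Neg.neg g2
  rw [smul_neg', neg_neg, neg_neg] at h3
  exact h3

theorem trans_Om (x y : Om) : ∃ g : G, g • x = y := by
  induction x using Quotient.inductionOn with | _ a => ?_
  induction y using Quotient.inductionOn with | _ b => ?_
  obtain ⟨g, hg⟩ := trans_A a b
  exact ⟨g, congrArg mk hg⟩

theorem card_stab (x : Om) : Nat.card (stabilizer G x) = 18393661440 := by
  have h1 := Subgroup.card_mul_index (stabilizer G x)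
  have h2 : orbit G x = Set.univ := by
    ext y
    simp only [Set.mem_univ, iff_true]
    obtain ⟨k, hk⟩ := trans_Om x y
    exact ⟨k, hk⟩
  rw [index_stabilizer, h2, Set.ncard_univ, Nat.card_eq_fintype_card (α := Om), card_Om, card_stb32 v hv] at h1
  omega

/-! ### The base point -/

theorem hp0 : X32 p0c := hX 0 (by norm_num)

noncomputable def p₀ : Om := pt hp0

theorem en_zero : en 0 = p₀ := rfl

theorem gen_i {e : Co0} {f : ℕ → ℕ} (he : ActsOn e f) (hm : e • v = v) (hp : canon (f p0c) = p0c) {n : ℕ} (h : X32 n) :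
    ∃ k : G, k • p₀ = p₀ ∧ ∃ h' : X32 (canon (f n)), k • pt h = pt h' := by
  refine ⟨⟨e, hm⟩, ?_, X32_canon (act_X32 he hm h), ?_⟩
  · unfold p₀
    rw [act_pt he hm, ← pt_canon (act_X32 he hm hp0)]
    exact pt_congr hp _ _
  · rw [act_pt he hm, pt_canon]

theorem gens (g : ℕ) {n : ℕ} (h : X32 n) :
    ∃ k : G, k • p₀ = p₀ ∧ ∃ h' : X32 (cact g n), k • pt h = pt h' := by
  have hlt : Nat.mod g 5 < 5 := Nat.mod_lt _ (by norm_num)
  show ∃ k : G, k • p₀ = p₀ ∧ ∃ h' : X32 (canon (act (Nat.mod g 5) n)), k • pt h = pt h'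
  generalize Nat.mod g 5 = m at hlt
  interval_cases m
  · exact gen_i acts0 mem0 pr0 h
  · exact gen_i acts1 mem1 pr1 h
  · exact gen_i acts2 mem2 pr2 h
  · exact gen_i acts3 mem3 pr3 h
  · exact gen_i acts4 mem4 pr4 h

theorem reach {T U : Tr} {r N M : ℕ} (hN : N ≤ 256 * M) (hall : ∀ k < M, chunkOK cact T U r N k (cntOf N k) = true)
    (hr : X32 r) (i : ℕ) (hi : i < N) :
    ∃ h : X32 (lCode (atW T i)), ∃ k : G, k • p₀ = p₀ ∧ k • pt hr = pt h := by
  let P : ℕ → Prop := fun n => ∃ h : X32 n, ∃ k : G, k • p₀ = p₀ ∧ k • pt hr = pt h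
  have hPr : P r := ⟨hr, 1, one_smul _ _, one_smul _ _⟩
  have hP : ∀ g x, P x → P (cact g x) := by
    rintro g x ⟨hx, k, k1, k2⟩
    obtain ⟨k', k'1, h', k'2⟩ := gens g hx
    refine ⟨h', k' * k, ?_, ?_⟩
    · rw [mul_smul, k1, k'1]
    · rw [mul_smul, k2, k'2]
  exact entry_reach (c := fun i => laneC (U.get (i / 256)) (i % 256)) hPr hP
    (fun i hi => (entries_of_chunks hN hall i hi).1) i hi

theorem hrG : X32 rG := (chk_spec rG_chk).1

theorem hrD : X32 rD := (chk_spec rD_chk).1

theorem reachG (i : ℕ) (h1 : 1 ≤ i) (h2 : i ≤ 891) (hX' : X32 (codeAt i)) :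
    ∃ k : G, k • p₀ = p₀ ∧ k • pt hrG = pt hX' := by
  have e : codeAt i = lCode (atW TG (i - 1)) := by
    unfold codeAt
    have e1 : Nat.beq i 0 = false := by
      cases h : Nat.beq i 0
      · rfl
      · have := Nat.eq_of_beq_eq_true h
        omega
    have e2 : Nat.ble i 891 = true := Nat.ble_eq_true_of_le h2
    rw [e1, e2]
    rfl
  obtain ⟨h, k, k1, k2⟩ := reach (by norm_num) allG hrG (i - 1) (by omega)
  exact ⟨k, k1, k2.trans (pt_congr e.symm _ _)⟩

theorem reachD (i : ℕ) (h1 : 892 ≤ i) (h2 : i < 2300) (hX' : X32 (codeAt i)) :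
    ∃ k : G, k • p₀ = p₀ ∧ k • pt hrD = pt hX' := by
  have e : codeAt i = lCode (atW TD (i - 892)) := by
    unfold codeAt
    have e1 : Nat.beq i 0 = false := by
      cases h : Nat.beq i 0
      · rfl
      · have := Nat.eq_of_beq_eq_true h
        omega
    have e2 : Nat.ble i 891 = false := by
      cases h : Nat.ble i 891
      · rfl
      · have := Nat.le_of_ble_eq_true h
        omega
    rw [e1, e2]
    rfl
  obtain ⟨h, k, k1, k2⟩ := reach (by norm_num) allD hrD (i - 892) (by omega)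
  exact ⟨k, k1, k2.trans (pt_congr e.symm _ _)⟩

/-- The class of a point with respect to the base point. -/
theorem cls_zero {i : Fin 2300} (h : i.1 = 0) : en i = p₀ := by
  have e : i = 0 := Fin.ext h
  rw [e]
  rfl

theorem dot_p0 (i : ℕ) (hi : i < 2300) :
    (i = 0 ∧ codeAt i = p0c) ∨ (1 ≤ i ∧ i ≤ 891 ∧ (dotInt (dec p0c) (dec (codeAt i)) = 16 ∨ dotInt (dec p0c) (dec (codeAt i)) = 0)) ∨
      (892 ≤ i ∧ dotInt (dec p0c) (dec (codeAt i)) = 8) := by
  have h := (all_code' i hi).2
  unfold chkCls at h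
  by_cases h0 : i = 0
  · subst h0
    left
    exact ⟨rfl, rfl⟩
  · have e1 : Nat.beq i 0 = false := by
      cases h' : Nat.beq i 0
      · rfl
      · exact absurd (Nat.eq_of_beq_eq_true h') h0
    rw [e1] at h
    simp only [cond_false] at h
    by_cases h1 : i ≤ 891
    · rw [Nat.ble_eq_true_of_le h1] at h
      simp only [cond_true, Bool.or_eq_true] at h
      right
      left
      refine ⟨by omega, h1, ?_⟩
      rcases h with h | h
      · left
        exact_mod_cast dotIs_spec h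
      · right
        exact_mod_cast dotIs_spec h
    · have e2 : Nat.ble i 891 = false := by
        cases h' : Nat.ble i 891
        · rfl
        · exact absurd (Nat.le_of_ble_eq_true h') h1
      rw [e2] at h
      simp only [cond_false] at h
      right
      right
      refine ⟨by omega, ?_⟩
      exact_mod_cast dotIs_spec h

theorem adj_p0_iff (i : Fin 2300) : Adj p₀ (en i) ↔ 892 ≤ i.1 := by
  show dotInt (dec p0c) (dec (codeAt i.1)) % 16 = 8 ↔ _
  rcases dot_p0 i.1 i.2 with ⟨h1, h2⟩ | ⟨h1, h2, h3⟩ | ⟨h1, h2⟩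
  · rw [h2]
    have : dotInt (dec p0c) (dec p0c) = 32 := by
      rw [dot_self]
      exact hp0.2.1
    rw [this]
    omega
  · rcases h3 with h3 | h3 <;> rw [h3] <;> omega
  · rw [h2]
    omega

theorem en_ne_p0 (i : Fin 2300) (h : 1 ≤ i.1) : en i ≠ p₀ := by
  intro e
  have e1 : en i = en 0 := e
  have := en_bij.1 e1
  rw [this] at h
  simp at h

/-- Transitivity on pairs, given at the base point. -/
theorem lift_rank (S : Om → Om → Prop) (hS : ∀ (g : G) x y, S x y → S (g • x) (g • y))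
    (hR : ∀ y z, S p₀ y → S p₀ z → ∃ k : G, k • p₀ = p₀ ∧ k • y = z) :
    ∀ x y z, S x y → S x z → ∃ g : G, g • x = x ∧ g • y = z := by
  intro x y z h1 h2
  obtain ⟨t, ht⟩ := trans_Om x p₀
  have h1' := hS t x y h1
  have h2' := hS t x z h2
  rw [ht] at h1' h2'
  obtain ⟨k, k1, k2⟩ := hR _ _ h1' h2'
  refine ⟨t⁻¹ * k * t, ?_, ?_⟩
  · rw [mul_smul, mul_smul, ht, k1, ← ht, inv_smul_smul]
  · rw [mul_smul, mul_smul, k2, inv_smul_smul]

theorem rankA (x y z : Om) (h1 : Adj x y) (h2 : Adj x z) : ∃ g : G, g • x = x ∧ g • y = z := by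
  refine lift_rank Adj (fun g x y h => (adj_smul g x y).2 h) ?_ x y z h1 h2
  intro y z hy hz
  obtain ⟨i, rfl⟩ := en_bij.2 y
  obtain ⟨j, rfl⟩ := en_bij.2 z
  have hi := (adj_p0_iff i).1 hy
  have hj := (adj_p0_iff j).1 hz
  obtain ⟨k, k1, k2⟩ := reachD i.1 hi i.2 (hX i.1 i.2)
  obtain ⟨l, l1, l2⟩ := reachD j.1 hj j.2 (hX j.1 j.2)
  refine ⟨l * k⁻¹, ?_, ?_⟩
  · rw [mul_smul, inv_smul_eq_iff.2 k1.symm, l1]
  · rw [mul_smul, en_val i, ← k2, inv_smul_smul, l2]
    rfl

theorem rankN (x y z : Om) (h1 : x ≠ y) (h2 : ¬ Adj x y) (h3 : x ≠ z) (h4 : ¬ Adj x z) :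
    ∃ g : G, g • x = x ∧ g • y = z := by
  refine lift_rank (fun a b => a ≠ b ∧ ¬ Adj a b) ?_ ?_ x y z ⟨h1, h2⟩ ⟨h3, h4⟩
  · rintro g a b ⟨h5, h6⟩
    refine ⟨fun e => h5 (MulAction.injective g e), fun e => h6 ((adj_smul g a b).1 e)⟩
  · rintro y z ⟨hy1, hy2⟩ ⟨hz1, hz2⟩
    obtain ⟨i, rfl⟩ := en_bij.2 y
    obtain ⟨j, rfl⟩ := en_bij.2 z
    have hi0 : 1 ≤ i.1 := by
      by_contra hn
      exact hy1 (cls_zero (by omega)).symm
    have hj0 : 1 ≤ j.1 := by
      by_contra hn
      exact hz1 (cls_zero (by omega)).symm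
    have hi1 : i.1 ≤ 891 := by
      by_contra hn
      exact hy2 ((adj_p0_iff i).2 (by omega))
    have hj1 : j.1 ≤ 891 := by
      by_contra hn
      exact hz2 ((adj_p0_iff j).2 (by omega))
    obtain ⟨k, k1, k2⟩ := reachG i.1 hi0 hi1 (hX i.1 i.2)
    obtain ⟨l, l1, l2⟩ := reachG j.1 hj0 hj1 (hX j.1 j.2)
    refine ⟨l * k⁻¹, ?_, ?_⟩
    · rw [mul_smul, inv_smul_eq_iff.2 k1.symm, l1]
    · rw [mul_smul, en_val i, ← k2, inv_smul_smul, l2]
      rfl

/-! ### The rows -/

theorem rows_get (i : ℕ) (hi : i < 2300) : rows.getD i 0 = mkRow i (codeAt i) := by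
  have h : i < rows.length := by rw [rows_len]; exact hi
  rw [List.getD_eq_getElem _ _ h]
  simp only [rows_eq, List.getElem_map, List.getElem_range]

theorem W_eq (i j : Fin 2300) : WW (rows.getD i.1 0) (rows.getD j.1 0) = if Adj (eq i) (eq j) then 1 else 0 := by
  rw [rows_get i.1 i.2, rows_get j.1 j.2, WW_mk _ _ _ _ (by have := i.2; omega) (by have := j.2; omega)]
  have hh : Adj (eq i) (eq j) ↔ dotInt (dec (codeAt i.1)) (dec (codeAt j.1)) % 16 = 8 := Iff.rfl
  by_cases h : dotInt (dec (codeAt i.1)) (dec (codeAt j.1)) % 16 = 8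
  · rw [if_pos h, if_pos (hh.2 h)]
  · rw [if_neg h, if_neg (fun h' => h (hh.1 h'))]

theorem adj_iff_W (i j : Fin 2300) : Adj (eq i) (eq j) ↔ WW (rows.getD i.1 0) (rows.getD j.1 0) = 1 := by
  rw [W_eq]
  by_cases h : Adj (eq i) (eq j) <;> simp [h]

/-- The group of permutations of the graph. -/
theorem card_aut_le : Nat.card (AutAdj Adj) ≤ 42305421312000 := by
  refine card_le_of_run eq WW rows 0 rows_len (AutAdj Adj) ?_ opsAll run_ops
  intro g hg x y
  rw [W_eq, W_eq]
  simp only [Equiv.apply_symm_apply]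
  have := hg (eq x) (eq y)
  by_cases h : Adj (eq x) (eq y)
  · rw [if_pos h, if_pos (this.2 h)]
  · rw [if_neg h, if_neg (fun h' => h (this.1 h'))]

theorem count_fin2 (l : List ℕ) (P : ℕ → Bool) :
    (univ.filter (fun i : Fin l.length => P (l.getD i.1 0) = true)).card = l.countP P := by
  induction l with
  | nil => simp
  | cons a l ih =>
    rw [List.countP_cons, ← ih]
    simp only [List.length_cons]
    rw [Finset.card_filter, Fin.sum_univ_succ, Finset.card_filter]
    simp
    omega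

/-- Counting on the list of rows. -/
theorem count_rows (P : ℕ → Bool) :
    (univ.filter (fun i : Fin 2300 => P (rows.getD i.1 0) = true)).card = rows.countP P := by
  rw [← count_fin2]
  have e : rows.length = 2300 := rows_len
  revert e
  generalize rows.length = n
  intro e
  subst e
  rfl

theorem beq_one (n : ℕ) : Nat.beq n 1 = true ↔ n = 1 :=
  ⟨Nat.eq_of_beq_eq_true, fun h => by rw [h]; rfl⟩

theorem deg_base : (univ.filter (fun z : Om => Adj p₀ z)).card = 1408 := by
  rw [← cnt_deg, ← count_rows]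
  symm
  apply Finset.card_equiv eq
  intro i
  simp only [mem_filter, mem_univ, true_and, beq_one]
  exact (adj_iff_W 0 i).symm

theorem lam_base : (univ.filter (fun z : Om => Adj p₀ z ∧ Adj (eq 892) z)).card = 840 := by
  rw [← cnt_lam, ← count_rows]
  symm
  apply Finset.card_equiv eq
  intro i
  simp only [mem_filter, mem_univ, true_and, beq_one, Bool.and_eq_true]
  exact and_congr (adj_iff_W 0 i).symm (adj_iff_W 892 i).symm

theorem mu_base : (univ.filter (fun z : Om => Adj p₀ z ∧ Adj (eq 1) z)).card = 896 := by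
  rw [← cnt_mu, ← count_rows]
  symm
  apply Finset.card_equiv eq
  intro i
  simp only [mem_filter, mem_univ, true_and, beq_one, Bool.and_eq_true]
  exact and_congr (adj_iff_W 0 i).symm (adj_iff_W 1 i).symm

theorem filter_smul (P : Om → Prop) [DecidablePred P] (g : G) :
    (univ.filter (fun z : Om => P (g • z))).card = (univ.filter P).card := by
  apply Finset.card_equiv (MulAction.toPerm g)
  intro z
  simp

theorem deg_all (x : Om) : (univ.filter (fun z : Om => Adj x z)).card = 1408 := by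
  obtain ⟨t, ht⟩ := trans_Om x p₀
  rw [← deg_base, ← filter_smul (fun z => Adj p₀ z) t]
  congr 1
  ext z
  simp only [mem_filter, mem_univ, true_and]
  rw [← ht, adj_smul]

theorem common_smul (x y : Om) (g : G) :
    (univ.filter (fun z : Om => Adj (g • x) z ∧ Adj (g • y) z)).card = (univ.filter (fun z : Om => Adj x z ∧ Adj y z)).card := by
  rw [← filter_smul (fun z => Adj (g • x) z ∧ Adj (g • y) z) g]
  congr 1
  ext z
  simp only [mem_filter, mem_univ, true_and, adj_smul]

theorem lam_all (x y : Om) (h : Adj x y) : (univ.filter (fun z : Om => Adj x z ∧ Adj y z)).card = 840 := by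
  have hb : Adj p₀ (eq 892) := (adj_p0_iff 892).2 (by norm_num)
  obtain ⟨t, ht⟩ := trans_Om p₀ x
  have hb' : Adj x (t • eq 892) := by
    rw [← ht, adj_smul]
    exact hb
  obtain ⟨g, g1, g2⟩ := rankA x (t • eq 892) y hb' h
  have e1 : (univ.filter (fun z : Om => Adj x z ∧ Adj y z)).card = (univ.filter (fun z : Om => Adj (g • x) z ∧ Adj (g • (t • eq 892)) z)).card := by
    rw [g1, g2]
  rw [e1, common_smul, ← ht, common_smul]
  exact lam_base

theorem mu_all (x y : Om) (h1 : x ≠ y) (h2 : ¬ Adj x y) : (univ.filter (fun z : Om => Adj x z ∧ Adj y z)).card = 896 := by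
  have hb : ¬ Adj p₀ (eq 1) := fun h => by
    have := (adj_p0_iff 1).1 h
    norm_num at this
  have hb0 : p₀ ≠ eq 1 := fun h => en_ne_p0 1 (by norm_num) h.symm
  obtain ⟨t, ht⟩ := trans_Om p₀ x
  have hb' : ¬ Adj x (t • eq 1) := by
    rw [← ht, adj_smul]
    exact hb
  have hb0' : x ≠ t • eq 1 := by
    rw [← ht]
    exact fun e => hb0 (MulAction.injective t e)
  obtain ⟨g, g1, g2⟩ := rankN x (t • eq 1) y hb0' hb' h1 h2
  have e1 : (univ.filter (fun z : Om => Adj x z ∧ Adj y z)).card = (univ.filter (fun z : Om => Adj (g • x) z ∧ Adj (g • (t • eq 1)) z)).card := by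
    rw [g1, g2]
  rw [e1, common_smul, ← ht, common_smul]
  exact mu_base

/-! ### The two elements -/

theorem ActsOn_pow {g : Co0} {f : ℕ → ℕ} (hg : ActsOn g f) (n : ℕ) : ActsOn (g ^ n) (f^[n]) := by
  induction n with
  | zero =>
    rw [pow_zero]
    exact ActsOn.one
  | succ n ih =>
    rw [pow_succ]
    exact ih.mul hg

theorem eq_one_of_chk {g : Co0} {f : ℕ → ℕ} (hg : ActsOn g f) (h : idChk f = true) : g = 1 := by
  classical
  have fix_of : ∀ {n : ℕ}, (stChk n && Nat.beq (f n) n) = true → ∃ hm : dec n ∈ leechLattice, g • (⟨dec n, hm⟩ : LL) = ⟨dec n, hm⟩ := by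
    intro n hn
    simp only [Bool.and_eq_true] at hn
    have hs := St_of_stChk hn.1
    refine ⟨hs.2.1, Subtype.ext ?_⟩
    have h1 := (hg n hs).2
    rw [Nat.eq_of_beq_eq_true hn.2] at h1
    exact h1
  simp only [idChk, Bool.and_eq_true, List.all_eq_true] at h
  obtain ⟨⟨⟨h1, h2⟩, h3⟩, h4⟩ := h
  let Q : AddSubgroup (GolayPt → ℤ) :=
    { carrier := {x | ∃ hm : x ∈ leechLattice, g • (⟨x, hm⟩ : LL) = ⟨x, hm⟩}
      zero_mem' := ⟨zero_mem _, smul_zero' _⟩
      add_mem' := by
        rintro a b ⟨ha, ea⟩ ⟨hb, eb⟩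
        refine ⟨add_mem ha hb, ?_⟩
        have := smul_add' g ⟨a, ha⟩ ⟨b, hb⟩
        rw [ea, eb] at this
        exact this
      neg_mem' := by
        rintro a ⟨ha, ea⟩
        refine ⟨neg_mem ha, ?_⟩
        have := smul_neg' g ⟨a, ha⟩
        rw [ea] at this
        exact this }
  have hQ : leechLattice ≤ Q := by
    apply lattice_induction
    · intro i hi
      obtain ⟨a1, a2⟩ := h1 i (List.mem_range.2 hi)
      exact fix_of (by simp only [Bool.and_eq_true]; exact ⟨a1, a2⟩)
    · exact fix_of (by simp only [Bool.and_eq_true]; exact h2)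
    · intro r hr
      exact fix_of (by simp only [Bool.and_eq_true]; exact h3 r hr)
    · exact fix_of (by simp only [Bool.and_eq_true]; exact h4)
  apply Subtype.ext
  apply Equiv.ext
  intro x
  obtain ⟨hm, e⟩ := hQ x.2
  exact e

/-- Bounds for the numbers of fixed points. -/
theorem fix_le {k : G} {f : ℕ → ℕ} (hf : ActsOn (k : Co0) f) (S : Finset (Fin 2300))
    (h : ∀ i : Fin 2300, i ∉ S → canon (f (codeAt i.1)) ≠ codeAt i.1) :
    (univ.filter (fun y : Om => k • y = y)).card ≤ S.card := by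
  have hsub : univ.filter (fun y : Om => k • y = y) ⊆ S.image eq := by
    intro y hy
    obtain ⟨i, rfl⟩ := eq.surjective y
    refine mem_image.2 ⟨i, ?_, rfl⟩
    by_contra hi
    apply h i hi
    have hy2 : k • eq i = eq i := (mem_filter.1 hy).2
    have hk : (k : Co0) • v = v := k.2
    have e1 : k • pt (hX i.1 i.2) = pt (act_X32 hf hk (hX i.1 i.2)) := act_pt hf hk (hX i.1 i.2)
    have e2 : pt (hX i.1 i.2) = pt (act_X32 hf hk (hX i.1 i.2)) := by
      rw [← e1]
      exact hy2.symm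
    rcases pt_eq e2 with e3 | e3
    · rw [e3]
      exact canon_self (hCan i.1 i.2)
    · rw [e3]
      exact canon_comp (hCan i.1 i.2)
  exact (Finset.card_le_card hsub).trans Finset.card_image_le

noncomputable def g11 : G := ⟨e5, mem5⟩

noncomputable def z9 : G := ⟨e6, mem6⟩

theorem g11_pow : g11 ^ 11 = 1 := by
  apply Subtype.ext
  exact eq_one_of_chk (ActsOn_pow acts5 11) id11

theorem z9_pow : z9 ^ 9 = 1 := by
  apply Subtype.ext
  exact eq_one_of_chk (ActsOn_pow acts6 9) id9

theorem g11_fix : (univ.filter (fun y : Om => g11 • y = y)).card ≤ 1 := by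
  refine fix_le (k := g11) (f := act 5) acts5 {(306 : Fin 2300)} ?_ 
  intro i hi e
  have h1 := List.all_eq_true.1 fix11 i.1 (List.mem_range.2 i.2)
  have h2 : Nat.beq i.1 306 = false := by
    cases h3 : Nat.beq i.1 306
    · rfl
    · exfalso
      apply hi
      rw [mem_singleton]
      exact Fin.ext (Nat.eq_of_beq_eq_true h3)
  rw [h2, e] at h1
  simp at h1

theorem z9_fix : (univ.filter (fun y : Om => z9 ^ 3 • y = y)).card ≤ 5 := by
  refine fix_le (k := z9 ^ 3) (f := (act 6)^[3]) (ActsOn_pow acts6 3)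
    {(548 : Fin 2300), (1311 : Fin 2300), (1458 : Fin 2300), (1721 : Fin 2300), (1953 : Fin 2300)} ?_
  intro i hi e
  have h1 := List.all_eq_true.1 fix9 i.1 (List.mem_range.2 i.2)
  simp only [mem_insert, mem_singleton, not_or] at hi
  obtain ⟨a1, a2, a3, a4, a5⟩ := hi
  have hf : ∀ (m : ℕ) (j : Fin 2300), j.1 = m → i ≠ j → Nat.beq i.1 m = false := by
    intro m j hj hne
    cases h3 : Nat.beq i.1 m
    · rfl
    · exfalso
      apply hne
      apply Fin.ext
      rw [hj]
      exact Nat.eq_of_beq_eq_true h3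
  rw [hf 548 548 rfl a1, hf 1311 1311 rfl a2, hf 1458 1458 rfl a3, hf 1721 1721 rfl a4, hf 1953 1953 rfl a5, e] at h1
  simp at h1

/-! ### The conclusion -/

theorem data : Data2 G Adj where
  card := card_Om
  symm := adj_symm
  irrefl := adj_irrefl
  smul := adj_smul
  deg := deg_all
  lam := lam_all
  mu := mu_all
  trans := trans_Om
  rankA := rankA
  rankN := rankN
  stab := card_stab
  x11 := ⟨g11, g11_pow, g11_fix⟩
  z9 := ⟨z9, z9_pow, z9_fix⟩

instance instFaithful : FaithfulSMul G Om := by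
  haveI := co2_simple v hv
  let ρ := MulAction.toPermHom G Om
  rcases IsSimpleGroup.eq_bot_or_eq_top_of_normal ρ.ker ρ.normal_ker with h | h
  · refine ⟨fun {k₁ k₂} hk => ?_⟩
    apply (MonoidHom.ker_eq_bot_iff ρ).1 h
    apply Equiv.ext
    intro y
    exact hk y
  · exfalso
    have hne : (eq 0 : Om) ≠ eq 1 := by
      intro e
      have := eq.injective e
      exact absurd this (by decide)
    obtain ⟨k, hk⟩ := trans_Om (eq 0) (eq 1)
    have hk1 : k ∈ ρ.ker := by
      rw [h]
      trivial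
    have hk2 : ρ k = 1 := hk1
    have hk3 : ρ k (eq 0 : Om) = eq 0 := by
      rw [hk2]
      rfl
    exact hne (hk3.symm.trans hk)

theorem card_out : Nat.card (Out G) = 1 := by
  have hfin : Finite (MulAut G) := Finite.of_injective (fun α : MulAut G => (α : G → G)) DFunLike.coe_injective
  have h1 : Nat.card (Out G) ≤ 1 := by
    apply card_out_le_of_aut2 data
    rw [card_stb32 v hv, one_mul]
    exact card_aut_le
  have h2 : 0 < Nat.card (Out G) := Nat.card_pos
  omega

/-! ### The group of the statement -/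

theorem lv0_eq : McLG.lv0 = Spor.leechU := by
  apply Subtype.ext
  funext p
  revert p
  decide +kernel

/-- The second Conway group as a stabiliser. -/
def co2Equiv : Spor.Co2 ≃* G where
  toFun σ := ⟨⟨σ.1, σ.2.1⟩, by
      show (⟨σ.1, σ.2.1⟩ : Co0) • McLG.lv0 = McLG.lv0
      rw [lv0_eq]
      exact σ.2.2⟩
  invFun k := ⟨k.1.1, ⟨k.1.2, by
      show k.1 • Spor.leechU = Spor.leechU
      rw [← lv0_eq]
      exact k.2⟩⟩
  left_inv σ := rfl
  right_inv k := rfl
  map_mul' a b := rfl

theorem card_out_Co2 : Nat.card (Out Spor.Co2) = 1 := by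
  rw [card_out_congr co2Equiv]
  exact card_out

end Cfsg.Agent.Lib.OutCo2
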