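import Mathlib
import Cfsg.Agent.Lib.OutCo2

set_option autoImplicit false
set_option linter.unusedVariables false

/-!
# Explicit elements for the outer automorphism group of the largest Conway quotient

Elements of orders 23 and 11, the extraspecial group of order 125 and explicit vectors, given as codes.
-/

namespace Cfsg.Agent.Lib.CoVec

open Cfsg Cfsg.Agent.Lib.Golay Cfsg.Agent.Lib.OutCo2
open Co2YG (idChk)

namespace Co1G

/-- The quadratic residues. -/
def qrB (x : ZMod 23) : Bool :=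
  decide (x = 1) || decide (x = 2) || decide (x = 4) || decide (x = 8) || decide (x = 16) || decide (x = 9) ||
    decide (x = 18) || decide (x = 13) || decide (x = 3) || decide (x = 6) || decide (x = 12)

/-- The vectors constant on the orbits of multiplication by two. -/
def ufv (a b c d : ℤ) (p : GolayPt) : ℤ :=
  match p with
  | none => a
  | some x => if x = 0 then b else if qrB x = true then c else d

def p0 : ℕ := 979624150884202778681194367652540864
def p1 : ℕ := 20982921904523360668962364675525943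
def p2 : ℕ := 182258586199035828042569650513610793
def p3 : ℕ := 980398742346793970548223810767750304
def p4 : ℕ := 984724238733521688109815592759216480
def p5 : ℕ := 213669254915215847199971774366484532
def p6 : ℕ := 973902326984272329895952201829191840
def p7 : ℕ := 967481579988201027866721277070395616
def p8 : ℕ := 978267137110625062817734673760274464
def p9 : ℕ := 967493877568282437029968969189171616
def p10 : ℕ := 967679250768588201320195644165638336
def p11 : ℕ := 984277017182054776108797773267450016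
def p12 : ℕ := 982094170632117688539411483378355264
def p13 : ℕ := 14700449171143325806949375973336215
def p14 : ℕ := 973124211811372946617827349608572288
def p15 : ℕ := 980681762155556905623803523976703008
def p16 : ℕ := 17372722577902559528670131116156535
def p17 : ℕ := 5444773570516181230768963230174839
def m0 : ℕ := 5745988
def m1 : ℕ := 12685424
def m2 : ℕ := 641004
def m3 : ℕ := 1282008
def m4 : ℕ := 5291420
def m5 : ℕ := 3515098
def m6 : ℕ := 2435240
def m7 : ℕ := 5875146
def m8 : ℕ := 3890384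
def m9 : ℕ := 3258280
def m10 : ℕ := 1558742
def m11 : ℕ := 6792600
def m12 : ℕ := 1199086
theorem h_p0 : isM24 p0 = true := by decide +kernel
theorem h_p1 : isM24 p1 = true := by decide +kernel
theorem h_p2 : isM24 p2 = true := by decide +kernel
theorem h_p3 : isM24 p3 = true := by decide +kernel
theorem h_p4 : isM24 p4 = true := by decide +kernel
theorem h_p5 : isM24 p5 = true := by decide +kernel
theorem h_p6 : isM24 p6 = true := by decide +kernel
theorem h_p7 : isM24 p7 = true := by decide +kernel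
theorem h_p8 : isM24 p8 = true := by decide +kernel
theorem h_p9 : isM24 p9 = true := by decide +kernel
theorem h_p10 : isM24 p10 = true := by decide +kernel
theorem h_p11 : isM24 p11 = true := by decide +kernel
theorem h_p12 : isM24 p12 = true := by decide +kernel
theorem h_p13 : isM24 p13 = true := by decide +kernel
theorem h_p14 : isM24 p14 = true := by decide +kernel
theorem h_p15 : isM24 p15 = true := by decide +kernel
theorem h_p16 : isM24 p16 = true := by decide +kernel
theorem h_p17 : isM24 p17 = true := by decide +kernel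
theorem hl_m0 : m0 < 2 ^ 24 := by decide +kernel
theorem hr_m0 : reduce m0 = 0 := by decide +kernel
theorem hl_m1 : m1 < 2 ^ 24 := by decide +kernel
theorem hr_m1 : reduce m1 = 0 := by decide +kernel
theorem hl_m2 : m2 < 2 ^ 24 := by decide +kernel
theorem hr_m2 : reduce m2 = 0 := by decide +kernel
theorem hl_m3 : m3 < 2 ^ 24 := by decide +kernel
theorem hr_m3 : reduce m3 = 0 := by decide +kernel
theorem hl_m4 : m4 < 2 ^ 24 := by decide +kernel
theorem hr_m4 : reduce m4 = 0 := by decide +kernel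
theorem hl_m5 : m5 < 2 ^ 24 := by decide +kernel
theorem hr_m5 : reduce m5 = 0 := by decide +kernel
theorem hl_m6 : m6 < 2 ^ 24 := by decide +kernel
theorem hr_m6 : reduce m6 = 0 := by decide +kernel
theorem hl_m7 : m7 < 2 ^ 24 := by decide +kernel
theorem hr_m7 : reduce m7 = 0 := by decide +kernel
theorem hl_m8 : m8 < 2 ^ 24 := by decide +kernel
theorem hr_m8 : reduce m8 = 0 := by decide +kernel
theorem hl_m9 : m9 < 2 ^ 24 := by decide +kernel
theorem hr_m9 : reduce m9 = 0 := by decide +kernel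
theorem hl_m10 : m10 < 2 ^ 24 := by decide +kernel
theorem hr_m10 : reduce m10 = 0 := by decide +kernel
theorem hl_m11 : m11 < 2 ^ 24 := by decide +kernel
theorem hr_m11 : reduce m11 = 0 := by decide +kernel
theorem hl_m12 : m12 < 2 ^ 24 := by decide +kernel
theorem hr_m12 : reduce m12 = 0 := by decide +kernel

/-- the action of the generators on codes -/
def act (g n : ℕ) : ℕ :=
  match g with
  | 0 => actPerm p0 n
  | 1 => actSign m11 (actPerm p13 (actXi (actSign m1 (actPerm p5 (actXi (actSign m10 (actPerm p12 (actXi (actSign m1 (actPerm p5 (actXi (actSign m9 (actPerm p11 (actXi (actSign m1 (actPerm p2 (actXi (actSign m8 (actPerm p10 (actXi (actSign m1 (actPerm p2 (actSign m1 (actPerm p5 (actXi (actSign m7 (actPerm p9 (actXi (actSign m1 (actPerm p5 (actXi (actSign m6 (actPerm p8 (actXi (actSign m1 (actPerm p2 (actXi (actSign m5 (actPerm p7 (actXi (actSign m1 (actPerm p2 (actSign m1 (actPerm p5 (actXi (actSign m4 (actPerm p6 (actXi (actSign m1 (actPerm p5 (actXi (actSign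 m3 (actPerm p4 (actXi (actSign m1 (actPerm p2 (actXi (actSign m2 (actPerm p3 (actXi (actSign m1 (actPerm p2 (actXi (actSign m0 (actPerm p1 n)))))))))))))))))))))))))))))))))))))))))))))))))))))))))))))))))
  | 2 => actPerm p14 n
  | 3 => actPerm p13 (actSign m0 (actXi (actPerm p5 (actSign m1 (actXi (actPerm p12 (actSign m2 (actXi (actPerm p5 (actSign m1 (actXi (actPerm p11 (actSign m3 (actXi (actPerm p2 (actSign m1 (actXi (actPerm p10 (actSign m4 (actXi (actPerm p2 (actSign m1 (actPerm p5 (actSign m1 (actXi (actPerm p9 (actSign m5 (actXi (actPerm p5 (actSign m1 (actXi (actPerm p15 (actSign m6 (actXi (actPerm p2 (actSign m1 (actXi (actPerm p7 (actSign m7 (actXi (actPerm p2 (actSign m1 (actPerm p5 (actSign m1 (actXi (actPerm p6 (actSign m8 (actXi (actPerm p5 (actSign m1 (actXi (actPerm p4 (actSign m9 (actXi (actPerm p2 (actSign m1 (actXi (actPerm p3 (actSign m10 (actXi (actPerm p2 (actSign m1 (actXi (actPerm p1 (actSign m11 n)))))))))))))))))))))))))))))))))))))))))))))))))))))))))))))))))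
  | _ => actSign m12 (actPerm p17 (actXi (actSign m1 (actPerm p2 (actXi (actSign m0 (actPerm p16 n)))))))

noncomputable def e0 : Co0 := permCo0 h_p0
theorem act0_eq : act 0 = fun n => actPerm p0 n := rfl
theorem acts0 : ActsOn e0 (act 0) := by
  rw [act0_eq]
  exact (actPerm_acts h_p0)

noncomputable def e1 : Co0 := signCo0 hl_m11 hr_m11 * (permCo0 h_p13 * (xiCo0 * (signCo0 hl_m1 hr_m1 * (permCo0 h_p5 * (xiCo0 * (signCo0 hl_m10 hr_m10 * (permCo0 h_p12 * (xiCo0 * (signCo0 hl_m1 hr_m1 * (permCo0 h_p5 * (xiCo0 * (signCo0 hl_m9 hr_m9 * (permCo0 h_p11 * (xiCo0 * (signCo0 hl_m1 hr_m1 * (permCo0 h_p2 * (xiCo0 * (signCo0 hl_m8 hr_m8 * (permCo0 h_p10 * (xiCo0 * (signCo0 hl_m1 hr_m1 * (permCo0 h_p2 * (signCo0 hl_m1 hr_m1 * (permCo0 h_p5 * (xiCo0 * (signCo0 hl_m7 hr_m7 * (permCo0 h_p9 * (xiCo0 * (signCo0 hl_m1 hr_m1 * (permCo0 h_p5 * (xiCo0 * (signCo0 hl_m6 hr_m6 * (permCo0 h_p8 * (xiCo0 * (signCo0 hl_m1 hr_m1 * (permCo0 h_p2 * (xiCo0 * (signCo0 hl_m5 hr_m5 * (permCo0 h_p7 * (xiCo0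 * (signCo0 hl_m1 hr_m1 * (permCo0 h_p2 * (signCo0 hl_m1 hr_m1 * (permCo0 h_p5 * (xiCo0 * (signCo0 hl_m4 hr_m4 * (permCo0 h_p6 * (xiCo0 * (signCo0 hl_m1 hr_m1 * (permCo0 h_p5 * (xiCo0 * (signCo0 hl_m3 hr_m3 * (permCo0 h_p4 * (xiCo0 * (signCo0 hl_m1 hr_m1 * (permCo0 h_p2 * (xiCo0 * (signCo0 hl_m2 hr_m2 * (permCo0 h_p3 * (xiCo0 * (signCo0 hl_m1 hr_m1 * (permCo0 h_p2 * (xiCo0 * (signCo0 hl_m0 hr_m0 * (permCo0 h_p1)))))))))))))))))))))))))))))))))))))))))))))))))))))))))))))))))
theorem act1_eq : act 1 = fun n => actSign m11 (actPerm p13 (actXi (actSign m1 (actPerm p5 (actXi (actSign m10 (actPerm p12 (actXi (actSign m1 (actPerm p5 (actXi (actSign m9 (actPerm p11 (actXi (actSign m1 (actPerm p2 (actXi (actSign m8 (actPerm p10 (actXi (actSign m1 (actPerm p2 (actSign m1 (actPerm p5 (actXi (actSign m7 (actPerm p9 (actXi (actSign m1 (actPerm p5 (actXi (actSign m6 (actPerm p8 (actXi (actSign m1 (actPerm p2 (actXi (actSign m5 (actPerm p7 (actXi (actSign m1 (actPerm p2 (actSign m1 (actPerm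 p5 (actXi (actSign m4 (actPerm p6 (actXi (actSign m1 (actPerm p5 (actXi (actSign m3 (actPerm p4 (actXi (actSign m1 (actPerm p2 (actXi (actSign m2 (actPerm p3 (actXi (actSign m1 (actPerm p2 (actXi (actSign m0 (actPerm p1 n))))))))))))))))))))))))))))))))))))))))))))))))))))))))))))))))) := rfl
theorem acts1 : ActsOn e1 (act 1) := by
  rw [act1_eq]
  exact ((actSign_acts hl_m11 hr_m11)).mul (((actPerm_acts h_p13)).mul ((actXi_acts).mul (((actSign_acts hl_m1 hr_m1)).mul (((actPerm_acts h_p5)).mul ((actXi_acts).mul (((actSign_acts hl_m10 hr_m10)).mul (((actPerm_acts h_p12)).mul ((actXi_acts).mul (((actSign_acts hl_m1 hr_m1)).mul (((actPerm_acts h_p5)).mul ((actXi_acts).mul (((actSign_acts hl_m9 hr_m9)).mul (((actPerm_acts h_p11)).mul ((actXi_acts).mul (((actSign_acts hl_m1 hr_m1)).mul (((actPerm_acts h_p2)).mul ((actXi_acts).mul (((actSign_acts hl_m8 hr_m8)).mul (((actPerm_acts h_p10)).mul ((actXi_acts).mul (((actSign_acts hl_m1 hr_m1)).mul (((actPerm_acts h_p2)).mul (((actSign_acts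 hl_m1 hr_m1)).mul (((actPerm_acts h_p5)).mul ((actXi_acts).mul (((actSign_acts hl_m7 hr_m7)).mul (((actPerm_acts h_p9)).mul ((actXi_acts).mul (((actSign_acts hl_m1 hr_m1)).mul (((actPerm_acts h_p5)).mul ((actXi_acts).mul (((actSign_acts hl_m6 hr_m6)).mul (((actPerm_acts h_p8)).mul ((actXi_acts).mul (((actSign_acts hl_m1 hr_m1)).mul (((actPerm_acts h_p2)).mul ((actXi_acts).mul (((actSign_acts hl_m5 hr_m5)).mul (((actPerm_acts h_p7)).mul ((actXi_acts).mul (((actSign_acts hl_m1 hr_m1)).mul (((actPerm_acts h_p2)).mul (((actSign_acts hl_m1 hr_m1)).mul (((actPerm_acts h_p5)).mul ((actXi_acts).mul (((actSign_acts hl_m4 hr_m4)).mul (((actPerm_acts h_p6)).mul ((actXi_acts).mul (((actSign_acts hl_m1 hr_m1)).mul (((actPerm_acts h_p5)).mul ((actXi_acts).mul (((actSign_acts hl_m3 hr_m3)).mul (((actPerm_acts h_p4)).mul ((actXi_acts).mul (((actSign_acts hl_m1 hr_m1)).mul (((actPerm_acts h_p2)).mul ((actXi_acts).mul (((actSign_acts hl_m2 hr_m2)).mul (((actPerm_acts h_p3)).mul ((actXi_acts).mul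 (((actSign_acts hl_m1 hr_m1)).mul (((actPerm_acts h_p2)).mul ((actXi_acts).mul (((actSign_acts hl_m0 hr_m0)).mul ((actPerm_acts h_p1))))))))))))))))))))))))))))))))))))))))))))))))))))))))))))))))))

noncomputable def e2 : Co0 := permCo0 h_p14
theorem act2_eq : act 2 = fun n => actPerm p14 n := rfl
theorem acts2 : ActsOn e2 (act 2) := by
  rw [act2_eq]
  exact (actPerm_acts h_p14)

noncomputable def e3 : Co0 := permCo0 h_p13 * (signCo0 hl_m0 hr_m0 * (xiCo0 * (permCo0 h_p5 * (signCo0 hl_m1 hr_m1 * (xiCo0 * (permCo0 h_p12 * (signCo0 hl_m2 hr_m2 * (xiCo0 * (permCo0 h_p5 * (signCo0 hl_m1 hr_m1 * (xiCo0 * (permCo0 h_p11 * (signCo0 hl_m3 hr_m3 * (xiCo0 * (permCo0 h_p2 * (signCo0 hl_m1 hr_m1 * (xiCo0 * (permCo0 h_p10 * (signCo0 hl_m4 hr_m4 * (xiCo0 * (permCo0 h_p2 * (signCo0 hl_m1 hr_m1 * (permCo0 h_p5 * (signCo0 hl_m1 hr_m1 * (xiCo0 * (permCo0 h_p9 * (signCo0 hl_m5 hr_m5 * (xiCo0 * (permCo0 h_p5 * (signCo0 hl_m1 hr_m1 * (xiCo0 * (permCo0 h_p15 * (signCo0 hl_m6 hr_m6 * (xiCo0 * (permCo0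 h_p2 * (signCo0 hl_m1 hr_m1 * (xiCo0 * (permCo0 h_p7 * (signCo0 hl_m7 hr_m7 * (xiCo0 * (permCo0 h_p2 * (signCo0 hl_m1 hr_m1 * (permCo0 h_p5 * (signCo0 hl_m1 hr_m1 * (xiCo0 * (permCo0 h_p6 * (signCo0 hl_m8 hr_m8 * (xiCo0 * (permCo0 h_p5 * (signCo0 hl_m1 hr_m1 * (xiCo0 * (permCo0 h_p4 * (signCo0 hl_m9 hr_m9 * (xiCo0 * (permCo0 h_p2 * (signCo0 hl_m1 hr_m1 * (xiCo0 * (permCo0 h_p3 * (signCo0 hl_m10 hr_m10 * (xiCo0 * (permCo0 h_p2 * (signCo0 hl_m1 hr_m1 * (xiCo0 * (permCo0 h_p1 * (signCo0 hl_m11 hr_m11)))))))))))))))))))))))))))))))))))))))))))))))))))))))))))))))))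
theorem act3_eq : act 3 = fun n => actPerm p13 (actSign m0 (actXi (actPerm p5 (actSign m1 (actXi (actPerm p12 (actSign m2 (actXi (actPerm p5 (actSign m1 (actXi (actPerm p11 (actSign m3 (actXi (actPerm p2 (actSign m1 (actXi (actPerm p10 (actSign m4 (actXi (actPerm p2 (actSign m1 (actPerm p5 (actSign m1 (actXi (actPerm p9 (actSign m5 (actXi (actPerm p5 (actSign m1 (actXi (actPerm p15 (actSign m6 (actXi (actPerm p2 (actSign m1 (actXi (actPerm p7 (actSign m7 (actXi (actPerm p2 (actSign m1 (actPerm p5 (actSign m1 (actXi (actPerm p6 (actSign m8 (actXi (actPerm p5 (actSign m1 (actXi (actPerm p4 (actSign m9 (actXi (actPerm p2 (actSign m1 (actXi (actPerm p3 (actSign m10 (actXi (actPerm p2 (actSign m1 (actXi (actPerm p1 (actSign m11 n))))))))))))))))))))))))))))))))))))))))))))))))))))))))))))))))) := rfl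
theorem acts3 : ActsOn e3 (act 3) := by
  rw [act3_eq]
  exact ((actPerm_acts h_p13)).mul (((actSign_acts hl_m0 hr_m0)).mul ((actXi_acts).mul (((actPerm_acts h_p5)).mul (((actSign_acts hl_m1 hr_m1)).mul ((actXi_acts).mul (((actPerm_acts h_p12)).mul (((actSign_acts hl_m2 hr_m2)).mul ((actXi_acts).mul (((actPerm_acts h_p5)).mul (((actSign_acts hl_m1 hr_m1)).mul ((actXi_acts).mul (((actPerm_acts h_p11)).mul (((actSign_acts hl_m3 hr_m3)).mul ((actXi_acts).mul (((actPerm_acts h_p2)).mul (((actSign_acts hl_m1 hr_m1)).mul ((actXi_acts).mul (((actPerm_acts h_p10)).mul (((actSign_acts hl_m4 hr_m4)).mul ((actXi_acts).mul (((actPerm_acts h_p2)).mul (((actSign_acts hl_m1 hr_m1)).mul (((actPerm_acts h_p5)).mul (((actSign_acts hl_m1 hr_m1)).mul ((actXi_acts).mul (((actPerm_acts h_p9)).mul (((actSign_acts hl_m5 hr_m5)).mul ((actXi_acts).mul (((actPerm_acts h_p5)).mul (((actSign_acts hl_m1 hr_m1)).mul ((actXi_acts).mul (((actPerm_acts h_p15)).mul (((actSign_acts hl_m6 hr_m6)).mul ((actXi_acts).mul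 (((actPerm_acts h_p2)).mul (((actSign_acts hl_m1 hr_m1)).mul ((actXi_acts).mul (((actPerm_acts h_p7)).mul (((actSign_acts hl_m7 hr_m7)).mul ((actXi_acts).mul (((actPerm_acts h_p2)).mul (((actSign_acts hl_m1 hr_m1)).mul (((actPerm_acts h_p5)).mul (((actSign_acts hl_m1 hr_m1)).mul ((actXi_acts).mul (((actPerm_acts h_p6)).mul (((actSign_acts hl_m8 hr_m8)).mul ((actXi_acts).mul (((actPerm_acts h_p5)).mul (((actSign_acts hl_m1 hr_m1)).mul ((actXi_acts).mul (((actPerm_acts h_p4)).mul (((actSign_acts hl_m9 hr_m9)).mul ((actXi_acts).mul (((actPerm_acts h_p2)).mul (((actSign_acts hl_m1 hr_m1)).mul ((actXi_acts).mul (((actPerm_acts h_p3)).mul (((actSign_acts hl_m10 hr_m10)).mul ((actXi_acts).mul (((actPerm_acts h_p2)).mul (((actSign_acts hl_m1 hr_m1)).mul ((actXi_acts).mul (((actPerm_acts h_p1)).mul ((actSign_acts hl_m11 hr_m11))))))))))))))))))))))))))))))))))))))))))))))))))))))))))))))))))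

noncomputable def e4 : Co0 := signCo0 hl_m12 hr_m12 * (permCo0 h_p17 * (xiCo0 * (signCo0 hl_m1 hr_m1 * (permCo0 h_p2 * (xiCo0 * (signCo0 hl_m0 hr_m0 * (permCo0 h_p16)))))))
theorem act4_eq : act 4 = fun n => actSign m12 (actPerm p17 (actXi (actSign m1 (actPerm p2 (actXi (actSign m0 (actPerm p16 n))))))) := rfl
theorem acts4 : ActsOn e4 (act 4) := by
  rw [act4_eq]
  exact ((actSign_acts hl_m12 hr_m12)).mul (((actPerm_acts h_p17)).mul ((actXi_acts).mul (((actSign_acts hl_m1 hr_m1)).mul (((actPerm_acts h_p2)).mul ((actXi_acts).mul (((actSign_acts hl_m0 hr_m0)).mul ((actPerm_acts h_p16))))))))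

/-! ### The vectors -/

def y0c : ℕ := 3077395280933139264181994557296846752159004038673819861377
theorem St_y0 : St y0c := St_of_stChk (by decide +kernel)
noncomputable def ly0 : leechLattice := ⟨dec y0c, St_y0.2.1⟩

def f2c : ℕ := 3052779195696328751382638520343091197586053625166117765252
theorem St_f2 : St f2c := St_of_stChk (by decide +kernel)
noncomputable def lf2 : leechLattice := ⟨dec f2c, St_f2.2.1⟩

def f3c : ℕ := 3175474995548511548945966931223030999733812290980144971651
theorem St_f3 : St f3c := St_of_stChk (by decide +kernel)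
noncomputable def lf3 : leechLattice := ⟨dec f3c, St_f3.2.1⟩

def f4c : ℕ := 3126242825074935125518216693126955430764702515478166208387
theorem St_f4 : St f4c := St_of_stChk (by decide +kernel)
noncomputable def lf4 : leechLattice := ⟨dec f4c, St_f4.2.1⟩

def f6c : ℕ := 3224322539690396614624112738676010758693092870811342176641
theorem St_f6 : St f6c := St_of_stChk (by decide +kernel)
noncomputable def lf6 : leechLattice := ⟨dec f6c, St_f6.2.1⟩

def zwc : ℕ := 3347018339542579412187441149555950560840851536625369383040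
theorem St_zw : St zwc := St_of_stChk (by decide +kernel)
noncomputable def lzw : leechLattice := ⟨dec zwc, St_zw.2.1⟩

theorem y0_eq : dec y0c = ufv (-3) (1) (1) (1) := by
  funext p
  revert p
  decide +kernel

theorem f2_eq : dec f2c = ufv (-4) (4) (0) (0) := by
  funext p
  revert p
  decide +kernel

theorem f3_eq : dec f3c = ufv (1) (3) (-1) (1) := by
  funext p
  revert p
  decide +kernel

theorem f4_eq : dec f4c = ufv (-1) (3) (-1) (-1) := by
  funext p
  revert p
  decide +kernel

theorem f6_eq : dec f6c = ufv (3) (1) (1) (-1) := by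
  funext p
  revert p
  decide +kernel

theorem v0_eq : dec McLG.v0 = ufv (4) (4) (0) (0) := by
  funext p
  revert p
  decide +kernel

theorem g1_f2 : dotInt (dec (act 4 f2c)) (dec f2c) = 0 := by
  rw [dotInt_dec]
  decide +kernel

theorem g1_f3 : dotInt (dec (act 4 f3c)) (dec f3c) = 8 := by
  rw [dotInt_dec]
  decide +kernel

theorem g1_f4 : dotInt (dec (act 4 f4c)) (dec f4c) = 0 := by
  rw [dotInt_dec]
  decide +kernel

theorem g1_f6 : dotInt (dec (act 4 f6c)) (dec f6c) = 8 := by
  rw [dotInt_dec]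
  decide +kernel

theorem a_fix : e0 ∈ MulAction.stabilizer Co0 ly0 := mem_stabilizer_of_acts acts0 St_y0 rfl (by decide +kernel)
theorem b_fix : e1 ∈ MulAction.stabilizer Co0 ly0 := mem_stabilizer_of_acts acts1 St_y0 rfl (by decide +kernel)
theorem ai_fix : e2 ∈ MulAction.stabilizer Co0 ly0 := mem_stabilizer_of_acts acts2 St_y0 rfl (by decide +kernel)
theorem bi_fix : e3 ∈ MulAction.stabilizer Co0 ly0 := mem_stabilizer_of_acts acts3 St_y0 rfl (by decide +kernel)
theorem g1_fix : e4 ∈ MulAction.stabilizer Co0 ly0 := mem_stabilizer_of_acts acts4 St_y0 rfl (by decide +kernel)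
theorem g1_fix_v0 : e4 ∈ MulAction.stabilizer Co0 McLG.lv0 := mem_stabilizer_of_acts acts4 McLG.St_v0 rfl (by decide +kernel)

/-! ### The elements of orders 23 and 11 -/

def tc : ℕ := 956302485175575353788796878166559809
def uc : ℕ := 983435072843990828779021698901151808
theorem h_tc : isM24 tc = true := by decide +kernel
theorem h_uc : isM24 uc = true := by decide +kernel

noncomputable def tE : Co0 := permCo0 h_tc
noncomputable def uE : Co0 := permCo0 h_uc

theorem acts_t : ActsOn tE (actPerm tc) := actPerm_acts h_tc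
theorem acts_u : ActsOn uE (actPerm uc) := actPerm_acts h_uc

theorem perm_apply {c : ℕ} (hc : isM24 c = true) (v : leechLattice) (p : GolayPt) :
    ((permCo0 hc • v : leechLattice) : GolayPt → ℤ) p = (v : GolayPt → ℤ) (fnOf c p) := by
  show ((((permCo0 hc : Co0) : Equiv.Perm leechLattice) v : leechLattice) : GolayPt → ℤ) p = _
  unfold permCo0
  rw [Cfsg.Agent.Lib.Co0Mono.monoCo0_apply, Cfsg.Agent.Lib.Co0Mono.mono_apply, if_neg, decode_apply (isM24_valid hc)]
  · rfl
  · rw [mem_ofMask]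
    simp

theorem fn_t (x : ZMod 23) : fnOf tc (some x) = some (x + 1) := by
  revert x
  decide +kernel

theorem fn_t_none : fnOf tc none = none := by decide +kernel

theorem fn_u (x : ZMod 23) : fnOf uc (some x) = some (2 * x) := by
  revert x
  decide +kernel

theorem fn_u_none : fnOf uc none = none := by decide +kernel

theorem t_fix : tE ∈ MulAction.stabilizer Co0 ly0 := mem_stabilizer_of_acts acts_t St_y0 rfl (by decide +kernel)
theorem u_fix : uE ∈ MulAction.stabilizer Co0 ly0 := mem_stabilizer_of_acts acts_u St_y0 rfl (by decide +kernel)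
theorem u_fix_v0 : uE ∈ MulAction.stabilizer Co0 McLG.lv0 := mem_stabilizer_of_acts acts_u McLG.St_v0 rfl (by decide +kernel)

set_option maxRecDepth 100000 in
theorem t23 : tE ^ 23 = 1 := eq_one_of_chk (ActsOn_pow acts_t 23) (by decide +kernel)

set_option maxRecDepth 100000 in
theorem u11 : uE ^ 11 = 1 := eq_one_of_chk (ActsOn_pow acts_u 11) (by decide +kernel)

/-! ### The relations -/

noncomputable def zE : Co0 := e0 * (e1 * (e2 * e3))
noncomputable def ziE : Co0 := e1 * (e0 * (e3 * e2))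

def zf (n : ℕ) : ℕ := act 0 (act 1 (act 2 (act 3 n)))
def zif (n : ℕ) : ℕ := act 1 (act 0 (act 3 (act 2 n)))

theorem acts_z : ActsOn zE zf := acts0.mul (acts1.mul (acts2.mul acts3))
theorem acts_zi : ActsOn ziE zif := acts1.mul (acts0.mul (acts3.mul acts2))

set_option maxRecDepth 100000 in
theorem rel_a : e0 * e2 = 1 := eq_one_of_chk (acts0.mul acts2) (by decide +kernel)

set_option maxRecDepth 100000 in
theorem rel_b : e1 * e3 = 1 := eq_one_of_chk (acts1.mul acts3) (by decide +kernel)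

set_option maxRecDepth 100000 in
theorem a5 : e0 ^ 5 = 1 := eq_one_of_chk (ActsOn_pow acts0 5) (by decide +kernel)

set_option maxRecDepth 100000 in
theorem b5 : e1 ^ 5 = 1 := eq_one_of_chk (ActsOn_pow acts1 5) (by decide +kernel)

set_option maxRecDepth 100000 in
theorem z5 : zE ^ 5 = 1 := eq_one_of_chk (ActsOn_pow acts_z 5) (by decide +kernel)

set_option maxRecDepth 100000 in
theorem za : zE * (e0 * (ziE * e2)) = 1 := eq_one_of_chk (acts_z.mul (acts0.mul (acts_zi.mul acts2))) (by decide +kernel)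

set_option maxRecDepth 100000 in
theorem zb : zE * (e1 * (ziE * e3)) = 1 := eq_one_of_chk (acts_z.mul (acts1.mul (acts_zi.mul acts3))) (by decide +kernel)

theorem z_moves : zf zwc ≠ zwc := by decide +kernel

theorem z_ne : zE ≠ 1 := by
  intro h
  have h1 := (acts_z zwc St_zw).2
  rw [h] at h1
  have h2 : dec (zf zwc) = dec zwc := h1.symm
  exact z_moves (dec_injOn (acts_z zwc St_zw).1 St_zw.1 h2)

end Co1G

end Cfsg.Agent.Lib.CoVec
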