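import Mathlib
import Cfsg.Agent.Lib.CoSimple2

set_option autoImplicit false
set_option linter.unusedVariables false
set_option linter.unusedSectionVars false

/-! The group modulo its centre is simple: its action on the pairs of opposite short vectors. -/

namespace Cfsg.Agent.Lib.CoConf

open Cfsg Cfsg.Agent.Lib.CoVec Cfsg.Agent.Lib.Co0Mono Cfsg.Agent.Lib.Co0Frame Cfsg.Agent.Lib.SimpleSub MulAction

/-- The set of pairs of opposite short vectors. -/
def PP : Set (Set LL) := {s | ∃ v : LL, sqNorm (v : GolayPt → ℤ) = 32 ∧ s = {v, -v}}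

abbrev Om1 : Type := ↥PP

/-- The pair of a short vector. -/
def pr (v : LL) (hv : sqNorm (v : GolayPt → ℤ) = 32) : Om1 := ⟨{v, -v}, v, hv, rfl⟩

theorem ne_neg_self {v : LL} (hv : sqNorm (v : GolayPt → ℤ) = 32) : v ≠ -v := by
  intro h
  have h1 : v + v = 0 := by
    nth_rw 2 [h]
    exact add_neg_cancel v
  have h2 : (v : GolayPt → ℤ) = 0 := by
    funext i
    have := congrFun (congrArg Subtype.val h1) i
    simp only [AddSubgroup.coe_add, Pi.add_apply, AddSubgroup.coe_zero, Pi.zero_apply] at this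
    show (v : GolayPt → ℤ) i = 0
    omega
  rw [h2] at hv
  simp [sqNorm] at hv

/-- The action on pairs. -/
def pairSmul (g : Co0) (s : Om1) : Om1 :=
  ⟨(fun y => g • y) '' s.1, by
    obtain ⟨s, v, hv, rfl⟩ := s
    refine ⟨g • v, (norm_smul g v).trans hv, ?_⟩
    simp only [Set.image_pair, smul_neg']⟩

instance pairAct : MulAction Co0 Om1 where
  smul := pairSmul
  one_smul s := Subtype.ext (by
    show (fun y => (1 : Co0) • y) '' s.1 = s.1
    simp)
  mul_smul a b s := Subtype.ext (by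
    show (fun y => (a * b) • y) '' s.1 = (fun y => a • y) '' ((fun y => b • y) '' s.1)
    rw [Set.image_image]
    simp only [mul_smul])

theorem pair_smul_val (g : Co0) (s : Om1) : (g • s).1 = (fun y => g • y) '' s.1 := rfl

theorem smul_pr (g : Co0) (v : LL) (hv : sqNorm (v : GolayPt → ℤ) = 32) :
    g • pr v hv = pr (g • v) ((norm_smul g v).trans hv) := by
  apply Subtype.ext
  show (fun y => g • y) '' {v, -v} = {g • v, -(g • v)}
  simp only [Set.image_pair, smul_neg']

theorem neg_smul_pair (s : Om1) : negCo0 • s = s := by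
  obtain ⟨s, v, hv, rfl⟩ := s
  apply Subtype.ext
  show (fun y => negCo0 • y) '' {v, -v} = {v, -v}
  simp only [Set.image_pair]
  have h1 : negCo0 • v = -v := rfl
  have h2 : negCo0 • (-v) = v := by
    show -(-v) = v
    simp
  rw [h1, h2, Set.pair_comm]

abbrev Zc : Subgroup Co0 := Subgroup.center Co0

theorem Zc_le : Zc ≤ (MulAction.toPermHom Co0 Om1).ker := by
  intro z hz
  rw [MonoidHom.mem_ker]
  rcases center_cases hz with rfl | rfl
  · exact map_one (MulAction.toPermHom Co0 Om1)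
  · apply Equiv.ext
    intro s
    exact neg_smul_pair s

abbrev Gq : Type := Co0 ⧸ Zc

noncomputable def liftQ : Gq →* Equiv.Perm Om1 := QuotientGroup.lift Zc (MulAction.toPermHom Co0 Om1) Zc_le

noncomputable instance pairActQ : MulAction Gq Om1 := MulAction.compHom Om1 liftQ

theorem mk_smul_pair (g : Co0) (s : Om1) : ((g : Gq)) • s = g • s := rfl

noncomputable instance : Finite Gq := by
  haveI := finite_Co0'
  infer_instance

theorem finite_PP : PP.Finite := by
  refine ((finite_N32).image (fun v : LL => ({v, -v} : Set LL))).subset ?_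
  rintro s ⟨v, hv, rfl⟩
  exact ⟨v, ⟨hv, by simp⟩, rfl⟩

instance : Finite Om1 := finite_PP.to_subtype

instance : IsPretransitive Gq Om1 := ⟨by
  rintro ⟨s, v, hv, rfl⟩ ⟨s', v', hv', rfl⟩
  obtain ⟨g, hg⟩ := Cfsg.Agent.Lib.Co0Trans.trans32 v v' hv hv'
  refine ⟨(g : Gq), ?_⟩
  rw [mk_smul_pair]
  have := smul_pr g v hv
  apply Subtype.ext
  show (fun y => g • y) '' {v, -v} = {v', -v'}
  simp only [Set.image_pair, smul_neg', hg]⟩

/-! ### Counting pairs -/

/-- The vectors of a set of pairs. -/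
def carr (W : Set Om1) : Set LL := {y | ∃ s ∈ W, y ∈ s.1}

theorem mem_pair_iff {s : Om1} {y : LL} (hy : y ∈ s.1) : s.1 = {y, -y} := by
  obtain ⟨s, v, hv, rfl⟩ := s
  rcases hy with rfl | rfl
  · rfl
  · show ({v, -v} : Set LL) = {-v, - -v}
    rw [neg_neg, Set.pair_comm]

theorem ncard_carr (W : Set Om1) : (carr W).ncard = 2 * W.ncard := by
  classical
  haveI := Fintype.ofFinite Om1
  have hW : W.Finite := Set.toFinite W
  have hfin : ∀ s : Om1, (s.1).Finite := by
    rintro ⟨s, v, hv, rfl⟩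
    exact Set.toFinite _
  let F : Finset Om1 := hW.toFinset
  let G : Om1 → Finset LL := fun s => (hfin s).toFinset
  have h1 : carr W = ↑(F.biUnion G) := by
    ext y
    simp [carr, F, G]
  have h2 : (F.biUnion G).card = ∑ s ∈ F, (G s).card := by
    apply Finset.card_biUnion
    intro s _ t _ hst
    show Disjoint (G s) (G t)
    rw [Finset.disjoint_left]
    intro y hy hy'
    apply hst
    have a : y ∈ s.1 := by simpa [G] using hy
    have b : y ∈ t.1 := by simpa [G] using hy'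
    exact Subtype.ext ((mem_pair_iff a).trans (mem_pair_iff b).symm)
  have h3 : ∀ s ∈ F, (G s).card = 2 := by
    rintro ⟨s, v, hv, rfl⟩ _
    have : G ⟨{v, -v}, v, hv, rfl⟩ = ({v, -v} : Finset LL) := by
      ext y
      simp [G]
    rw [this, Finset.card_pair (ne_neg_self hv)]
  rw [h1, Set.ncard_coe_finset, h2, Finset.sum_congr rfl h3, Finset.sum_const, smul_eq_mul, mul_comm,
    Set.ncard_eq_toFinset_card W hW]

theorem card_Om1 : Nat.card Om1 = 98280 := by
  have h := ncard_carr Set.univ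
  have h1 : carr Set.univ = DS [] := by
    ext y
    constructor
    · rintro ⟨⟨s, v, hv, rfl⟩, -, hy⟩
      rcases hy with rfl | rfl
      · exact ⟨hv, by simp⟩
      · refine ⟨?_, by simp⟩
        show sqNorm (-(v : GolayPt → ℤ)) = 32
        rw [norm_neg, hv]
    · intro hy
      exact ⟨pr y hy.1, trivial, Or.inl rfl⟩
  rw [h1, ncard_nil, Set.ncard_univ] at h
  omega

/-! ### The suborbit function -/

section std

variable (v₀ : LL) (hv₀ : sqNorm (v₀ : GolayPt → ℤ) = 32)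

/-- The absolute inner product with the fixed vector. -/
noncomputable def fab (s : Om1) : ℕ := (dotInt (v₀ : GolayPt → ℤ) ((Classical.choose s.2 : LL) : GolayPt → ℤ)).natAbs

theorem fab_of_mem {s : Om1} {y : LL} (hy : y ∈ s.1) :
    fab v₀ s = (dotInt (v₀ : GolayPt → ℤ) (y : GolayPt → ℤ)).natAbs := by
  have h := (Classical.choose_spec s.2).2
  have h2 : y ∈ ({Classical.choose s.2, -Classical.choose s.2} : Set LL) := h ▸ hy
  rcases h2 with rfl | h3
  · rfl
  · rw [h3]
    show _ = (dotInt (v₀ : GolayPt → ℤ) (-((Classical.choose s.2 : LL) : GolayPt → ℤ))).natAbs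
    rw [dot_neg_right, Int.natAbs_neg]
    rfl

include hv₀

/-- The possible inner products. -/
theorem dot_values {y : LL} (hy : sqNorm (y : GolayPt → ℤ) = 32) :
    dotInt (v₀ : GolayPt → ℤ) (y : GolayPt → ℤ) ∈ ({32, -32, 16, -16, 8, -8, 0} : Finset ℤ) := by
  have hc := Cfsg.Agent.Lib.CoCensus.census v₀ hv₀
  simp only [← ncard_DS_single] at hc
  obtain ⟨c1, c2, c3, c4, c5, c6, c7⟩ := hc
  have h := partition [] v₀ ({32, -32, 16, -16, 8, -8, 0} : Finset ℤ)
    (fun d => if d = 32 ∨ d = -32 then 1 else if d = 16 ∨ d = -16 then 4600 else if d = 8 ∨ d = -8 then 47104 else 93150)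
    (by
      intro d hd
      simp only [Finset.mem_insert, Finset.mem_singleton] at hd
      rcases hd with rfl | rfl | rfl | rfl | rfl | rfl | rfl
      · exact c6.ge
      · exact c7.ge
      · exact c4.ge
      · exact c1.ge
      · exact c5.ge
      · exact c2.ge
      · exact c3.ge)
    (by rw [ncard_nil]; decide)
  exact h.2 y ⟨hy, by simp⟩

theorem eq_of_dot32 {y : LL} (hy : sqNorm (y : GolayPt → ℤ) = 32)
    (h : dotInt (v₀ : GolayPt → ℤ) (y : GolayPt → ℤ) = 32) : y = v₀ := by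
  by_contra hne
  have h1 : ((y - v₀ : LL) : GolayPt → ℤ) ≠ 0 := by
    intro e
    exact hne (sub_eq_zero.1 (Subtype.ext e))
  have h2 := Cfsg.Agent.Lib.LeechCong.min_norm' (y - v₀ : LL).2 h1
  have h3 : sqNorm ((y - v₀ : LL) : GolayPt → ℤ) = 0 := by
    show sqNorm ((y : GolayPt → ℤ) - (v₀ : GolayPt → ℤ)) = 0
    rw [norm_sub, hy, hv₀, dot_comm, h]
    norm_num
  omega

theorem eq_of_dotm32 {y : LL} (hy : sqNorm (y : GolayPt → ℤ) = 32)
    (h : dotInt (v₀ : GolayPt → ℤ) (y : GolayPt → ℤ) = -32) : y = -v₀ := by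
  have h1 : sqNorm ((-y : LL) : GolayPt → ℤ) = 32 := by
    show sqNorm (-(y : GolayPt → ℤ)) = 32
    rw [norm_neg, hy]
  have h2 := eq_of_dot32 v₀ hv₀ h1 (by
    show dotInt (v₀ : GolayPt → ℤ) (-(y : GolayPt → ℤ)) = 32
    rw [dot_neg_right, h]
    norm_num)
  rw [← h2, neg_neg]

theorem fab_values (s : Om1) (hs : s ≠ pr v₀ hv₀) : fab v₀ s ∈ ({16, 8, 0} : Finset ℕ) := by
  obtain ⟨s', y, hy, rfl⟩ := s
  have hy' : y ∈ ({y, -y} : Set LL) := Or.inl rfl
  rw [fab_of_mem v₀ (s := ⟨{y, -y}, y, hy, rfl⟩) hy']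
  have h := dot_values v₀ hv₀ hy
  simp only [Finset.mem_insert, Finset.mem_singleton] at h ⊢
  rcases h with h | h | h | h | h | h | h
  · exfalso
    apply hs
    have e := eq_of_dot32 v₀ hv₀ hy h
    subst e
    rfl
  · exfalso
    apply hs
    have e := eq_of_dotm32 v₀ hv₀ hy h
    subst e
    apply Subtype.ext
    show ({-v₀, - -v₀} : Set LL) = {v₀, -v₀}
    rw [neg_neg, Set.pair_comm]
  all_goals
    rw [h]
    decide

/-- The vectors of the pairs at absolute inner product `d`. -/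
theorem carr_fibre (d : ℕ) (hd : d ≠ 32) : carr {s : Om1 | s ≠ pr v₀ hv₀ ∧ fab v₀ s = d} =
    {y : LL | sqNorm (y : GolayPt → ℤ) = 32 ∧ (dotInt (v₀ : GolayPt → ℤ) (y : GolayPt → ℤ)).natAbs = d} := by
  ext y
  constructor
  · rintro ⟨s, ⟨h1, h2⟩, hy⟩
    have hn : sqNorm (y : GolayPt → ℤ) = 32 := by
      obtain ⟨s, v, hv, rfl⟩ := s
      rcases hy with rfl | rfl
      · exact hv
      · show sqNorm (-(v : GolayPt → ℤ)) = 32
        rw [norm_neg, hv]
    exact ⟨hn, (fab_of_mem v₀ hy).symm.trans h2⟩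
  · rintro ⟨h1, h2⟩
    refine ⟨pr y h1, ⟨?_, ?_⟩, Or.inl rfl⟩
    · intro e
      have h3 : y ∈ (pr v₀ hv₀).1 := by
        rw [← e]
        exact Or.inl rfl
      rcases h3 with rfl | h4
      · rw [dot_self, hv₀] at h2
        exact hd h2.symm
      · rw [h4] at h2
        have : dotInt (v₀ : GolayPt → ℤ) ((-v₀ : LL) : GolayPt → ℤ) = -32 := by
          show dotInt (v₀ : GolayPt → ℤ) (-(v₀ : GolayPt → ℤ)) = -32
          rw [dot_neg_right, dot_self, hv₀]
        rw [this] at h2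
        exact hd h2.symm
    · rw [fab_of_mem v₀ (s := pr y h1) (Or.inl rfl)]
      exact h2

/-- The number of vectors with a given absolute inner product, in terms of the census. -/
theorem ncard_abs (d : ℕ) (hd : d ≠ 0) :
    {y : LL | sqNorm (y : GolayPt → ℤ) = 32 ∧ (dotInt (v₀ : GolayPt → ℤ) (y : GolayPt → ℤ)).natAbs = d}.ncard =
      (DS [(v₀, (d : ℤ))]).ncard + (DS [(v₀, -(d : ℤ))]).ncard := by
  rw [← Set.ncard_union_eq _ (finite_DS _) (finite_DS _)]
  · congr 1
    ext y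
    simp only [DS, Set.mem_setOf_eq, Set.mem_union, List.mem_singleton, forall_eq]
    constructor
    · rintro ⟨h1, h2⟩
      rcases Int.natAbs_eq (dotInt (v₀ : GolayPt → ℤ) (y : GolayPt → ℤ)) with h | h
      · exact Or.inl ⟨h1, by rw [h, h2]⟩
      · exact Or.inr ⟨h1, by rw [h, h2]⟩
    · rintro (⟨h1, h2⟩ | ⟨h1, h2⟩)
      · exact ⟨h1, by rw [h2]; simp⟩
      · exact ⟨h1, by rw [h2]; simp⟩
  · rw [Set.disjoint_left]
    rintro y ⟨h1, h2⟩ ⟨h3, h4⟩
    have a := h2 (v₀, (d : ℤ)) (by simp)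
    have b := h4 (v₀, -(d : ℤ)) (by simp)
    simp only at a b
    omega

theorem ncard_sub16 : {s : Om1 | s ≠ pr v₀ hv₀ ∧ fab v₀ s = 16}.ncard = 4600 := by
  have h := ncard_carr {s : Om1 | s ≠ pr v₀ hv₀ ∧ fab v₀ s = 16}
  rw [carr_fibre v₀ hv₀ 16 (by norm_num), ncard_abs v₀ hv₀ 16 (by norm_num)] at h
  have c := Cfsg.Agent.Lib.CoCensus.census v₀ hv₀
  simp only [← ncard_DS_single] at c
  have c1 : (DS [(v₀, ((16 : ℕ) : ℤ))]).ncard = 4600 := c.2.2.2.1
  have c2 : (DS [(v₀, -((16 : ℕ) : ℤ))]).ncard = 4600 := c.1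
  omega

theorem ncard_sub8 : {s : Om1 | s ≠ pr v₀ hv₀ ∧ fab v₀ s = 8}.ncard = 47104 := by
  have h := ncard_carr {s : Om1 | s ≠ pr v₀ hv₀ ∧ fab v₀ s = 8}
  rw [carr_fibre v₀ hv₀ 8 (by norm_num), ncard_abs v₀ hv₀ 8 (by norm_num)] at h
  have c := Cfsg.Agent.Lib.CoCensus.census v₀ hv₀
  simp only [← ncard_DS_single] at c
  have c1 : (DS [(v₀, ((8 : ℕ) : ℤ))]).ncard = 47104 := c.2.2.2.2.1
  have c2 : (DS [(v₀, -((8 : ℕ) : ℤ))]).ncard = 47104 := c.2.1
  omega

theorem ncard_sub0 : {s : Om1 | s ≠ pr v₀ hv₀ ∧ fab v₀ s = 0}.ncard = 46575 := by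
  have h := ncard_carr {s : Om1 | s ≠ pr v₀ hv₀ ∧ fab v₀ s = 0}
  rw [carr_fibre v₀ hv₀ 0 (by norm_num)] at h
  have c := (Cfsg.Agent.Lib.CoCensus.census v₀ hv₀).2.2.1
  rw [← ncard_DS_single] at c
  have e : {y : LL | sqNorm (y : GolayPt → ℤ) = 32 ∧ (dotInt (v₀ : GolayPt → ℤ) (y : GolayPt → ℤ)).natAbs = 0} =
      DS [(v₀, 0)] := by
    ext y
    simp only [DS, Set.mem_setOf_eq, List.mem_singleton, forall_eq, Int.natAbs_eq_zero]
  rw [e, c] at h
  omega

/-- A representative of a pair with a given sign of the inner product. -/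
theorem exists_rep (s : Om1) (d : ℕ) (hs : fab v₀ s = d) : ∃ y ∈ s.1, dotInt (v₀ : GolayPt → ℤ) (y : GolayPt → ℤ) = -(d : ℤ) := by
  obtain ⟨s', y, hy, rfl⟩ := s
  have h1 := fab_of_mem v₀ (s := ⟨{y, -y}, y, hy, rfl⟩) (y := y) (Or.inl rfl)
  rw [hs] at h1
  rcases Int.natAbs_eq (dotInt (v₀ : GolayPt → ℤ) (y : GolayPt → ℤ)) with h | h
  · refine ⟨-y, Or.inr rfl, ?_⟩
    show dotInt (v₀ : GolayPt → ℤ) (-(y : GolayPt → ℤ)) = _
    rw [dot_neg_right, h, ← h1]
  · refine ⟨y, Or.inl rfl, ?_⟩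
    rw [h, ← h1]

theorem rep_norm {s : Om1} {y : LL} (hy : y ∈ s.1) : sqNorm (y : GolayPt → ℤ) = 32 := by
  obtain ⟨s, v, hv, rfl⟩ := s
  rcases hy with rfl | rfl
  · exact hv
  · show sqNorm (-(v : GolayPt → ℤ)) = 32
    rw [norm_neg, hv]

/-- Moving one pair to another fixing the base vector. -/
theorem move_pair (d : ℕ) (hd : d = 16 ∨ d = 8 ∨ d = 0) (s t : Om1) (hs : fab v₀ s = d) (ht : fab v₀ t = d) :
    ∃ g : Co0, g • v₀ = v₀ ∧ g • s = t := by
  obtain ⟨y, hy, dy⟩ := exists_rep v₀ hv₀ s d hs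
  obtain ⟨z, hz, dz⟩ := exists_rep v₀ hv₀ t d ht
  have hyn := rep_norm v₀ hv₀ hy
  have hzn := rep_norm v₀ hv₀ hz
  obtain ⟨g, g1, g2⟩ : ∃ g : Co0, g • v₀ = v₀ ∧ g • y = z := by
    rcases hd with rfl | rfl | rfl
    · exact Cfsg.Agent.Lib.Co0Pair.pairM16 hv₀ hv₀ hyn hzn dy dz
    · exact Cfsg.Agent.Lib.Co0Pair.pairM8 hv₀ hv₀ hyn hzn dy dz
    · exact Cfsg.Agent.Lib.Co0Pair.pair0 hv₀ hv₀ hyn hzn (by simpa using dy) (by simpa using dz)
  refine ⟨g, g1, ?_⟩
  apply Subtype.ext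
  rw [pair_smul_val, mem_pair_iff hy, mem_pair_iff hz]
  simp only [Set.image_pair, smul_neg', g2]

/-- The point stabiliser in the quotient. -/
theorem stab_simple : IsSimpleGroup (stabilizer Gq (pr v₀ hv₀)) := by
  classical
  have hsimple := co2_simple v₀ hv₀
  have hfix : ∀ k : stb v₀, ((k : Co0) : Gq) • pr v₀ hv₀ = pr v₀ hv₀ := by
    rintro ⟨k, hk⟩
    rw [mk_smul_pair, smul_pr]
    apply Subtype.ext
    have hk' : k • v₀ = v₀ := hk
    simp only [pr, hk']
  let φ : stb v₀ →* stabilizer Gq (pr v₀ hv₀) :=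
    { toFun := fun k => ⟨((k : Co0) : Gq), hfix k⟩
      map_one' := rfl
      map_mul' := fun a b => rfl }
  have hbij : Function.Bijective φ := by
    constructor
    · rw [injective_iff_map_eq_one]
      rintro ⟨k, hk⟩ h
      have h1 : ((k : Co0) : Gq) = 1 := congrArg Subtype.val h
      have h2 : k ∈ Zc := (QuotientGroup.eq_one_iff k).1 h1
      rcases center_cases h2 with rfl | rfl
      · rfl
      · exfalso
        have h3 : (-v₀ : LL) = v₀ := hk
        exact ne_neg_self hv₀ h3.symm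
    · rintro ⟨q, hq⟩
      obtain ⟨g, rfl⟩ := QuotientGroup.mk_surjective q
      have h1 : g • pr v₀ hv₀ = pr v₀ hv₀ := hq
      have h2 : g • v₀ ∈ (pr v₀ hv₀).1 := by
        rw [← h1]
        exact ⟨v₀, Or.inl rfl, rfl⟩
      rcases h2 with h2 | h2
      · exact ⟨⟨g, h2⟩, rfl⟩
      · have h3 : (negCo0 * g) ∈ stb v₀ := by
          show (negCo0 * g) • v₀ = v₀
          rw [mul_smul, h2]
          show -(-v₀) = v₀
          simp
        refine ⟨⟨negCo0 * g, h3⟩, ?_⟩
        apply Subtype.ext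
        show ((negCo0 * g : Co0) : Gq) = (g : Gq)
        rw [QuotientGroup.mk_mul]
        have : ((negCo0 : Co0) : Gq) = 1 := (QuotientGroup.eq_one_iff _).2 Cfsg.Agent.S0398.neg_center
        rw [this, one_mul]
  exact (MulEquiv.ofBijective φ hbij).symm.isSimpleGroup

theorem co1_simple : IsSimpleGroup Gq := by
  refine simple_of_suborbits (pr v₀ hv₀) (fab v₀) ({16, 8, 0} : Finset ℕ)
    (fun d => if d = 16 then 4600 else if d = 8 then 47104 else 46575) ⟨?_, ?_, ?_⟩ (stab_simple v₀ hv₀)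
    ⟨16, by decide, by decide⟩ ?_ 13 7 (by norm_num) (by norm_num) (by norm_num) ?_ ?_ ?_
  · exact fun s hs => fab_values v₀ hv₀ s hs
  · intro d hd
    simp only [Finset.mem_insert, Finset.mem_singleton] at hd
    rcases hd with rfl | rfl | rfl
    · exact ncard_sub16 v₀ hv₀
    · exact ncard_sub8 v₀ hv₀
    · exact ncard_sub0 v₀ hv₀
  · intro d hd s t hs ht fs ft
    have hd' : d = 16 ∨ d = 8 ∨ d = 0 := by
      simpa only [Finset.mem_insert, Finset.mem_singleton] using hd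
    obtain ⟨g, g1, g2⟩ := move_pair v₀ hv₀ d hd' s t fs ft
    refine ⟨(g : Gq), ?_, g2⟩
    rw [mk_smul_pair, smul_pr]
    apply Subtype.ext
    simp only [pr, g1]
  · intro D₁ hD₁
    rw [card_Om1]
    revert D₁
    decide +kernel
  · rw [card_Om1]
    norm_num
  · rw [card_Om1]
    norm_num
  · intro D₁ h1 D₂ h2
    revert D₂
    revert D₁
    decide +kernel

end std

theorem card_center : Nat.card Zc = 2 := by
  rw [Nat.card_eq_two_iff]
  refine ⟨1, ⟨negCo0, Cfsg.Agent.S0398.neg_center⟩, ?_, ?_⟩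
  · intro h
    have h1 : (1 : Co0) = negCo0 := congrArg Subtype.val h
    exact Cfsg.Agent.S0398.neg_ne_one h1.symm
  · ext x
    simp only [Set.mem_insert_iff, Set.mem_singleton_iff, Set.mem_univ, iff_true]
    rcases center_cases x.2 with h | h
    · exact Or.inl (Subtype.ext h)
    · exact Or.inr (Subtype.ext h)

theorem card_Gq : Nat.card Gq = 4157776806543360000 := by
  have h := Subgroup.card_eq_card_quotient_mul_card_subgroup Zc
  rw [Cfsg.Agent.Lib.Co0Order.card_Co0, card_center] at h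
  have h2 : 8315553613086720000 = Nat.card Gq * 2 := h
  omega

end Cfsg.Agent.Lib.CoConf
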