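import Mathlib
import Cfsg.Agent.Lib.CoCo1
import Cfsg.Agent.Lib.Co1Five
import Cfsg.Agent.Lib.CoMcL

set_option autoImplicit false
set_option linter.unusedVariables false
set_option linter.unusedSectionVars false
set_option linter.style.haveILetI false
set_option linter.unusedSimpArgs false

/-!
# The lattice modulo twice itself

The representation of the group on the lattice modulo twice itself, the non-degenerate form on it, and the consequence:
a subgroup with the extraspecial group of order 125 fixes every point of an invariant set of pairs of short vectors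
with inner products divisible by 16.
-/

namespace Cfsg.Agent.Lib.Co1W

open Cfsg Cfsg.Agent.Lib.CoVec Cfsg.Agent.Lib.CoConf Cfsg.Agent.Lib.LatticeClasses Cfsg.Agent.Lib.LeechClasses
  Cfsg.Agent.Lib.Co1Five Cfsg.Agent.Lib.Co0Mono Cfsg.Agent.S0398 Cfsg.Agent.Lib.Co0Frame Matrix Module MulAction

noncomputable def bF : Matrix (Fin 24) (Fin 24) ℤ := Classical.choose exists_form

noncomputable def ph : (Fin 24 → ℤ) ≃+ leechLattice := Classical.choose (Classical.choose_spec exists_form)

theorem hF : IsForm bF := (Classical.choose_spec (Classical.choose_spec exists_form)).1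

theorem hbil : ∀ c d : Fin 24 → ℤ, dotInt (ph c : GolayPt → ℤ) (ph d : GolayPt → ℤ) = 8 * (c ⬝ᵥ (bF *ᵥ d)) :=
  (Classical.choose_spec (Classical.choose_spec exists_form)).2

abbrev VV : Type := Fin 24 → ZMod 2

/-- The reduction map. -/
noncomputable def kap (x : LL) : VV := red (ph.symm x)

theorem red_add' (x y : Fin 24 → ℤ) : red (x + y) = red x + red y := by
  funext i
  simp [red]

theorem kap_add (x y : LL) : kap (x + y) = kap x + kap y := by
  unfold kap
  rw [map_add, red_add']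

theorem kap_neg (x : LL) : kap (-x) = kap x := by
  unfold kap
  rw [map_neg, red_neg]

theorem kap_ph (c : Fin 24 → ℤ) : kap (ph c) = red c := by
  unfold kap
  rw [AddEquiv.symm_apply_apply]

theorem kap_zero : kap 0 = 0 := by
  have h := kap_add 0 0
  rw [add_zero] at h
  simpa using h

theorem kap_double (z : LL) : kap (z + z) = 0 := by
  rw [kap_add, char2]

theorem kap_eq_iff (x y : LL) : kap x = kap y ↔ ∃ z : LL, x = y + (z + z) := by
  constructor
  · intro h
    obtain ⟨z, hz, e⟩ := (cong_iff (φ := ph) _ _).1 h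
    rw [AddEquiv.apply_symm_apply, AddEquiv.apply_symm_apply] at e
    refine ⟨⟨z, hz⟩, Subtype.ext ?_⟩
    have e2 : (x : GolayPt → ℤ) = (y : GolayPt → ℤ) + (z + z) := by
      rw [two_nsmul] at e
      rw [← e]
      abel
    exact e2
  · rintro ⟨z, rfl⟩
    rw [kap_add, kap_double, add_zero]

/-- The lift of a vector. -/
noncomputable def lft (v : VV) : Fin 24 → ℤ := fun i => ((v i).val : ℤ)

theorem red_lft (v : VV) : red (lft v) = v := by
  funext i
  simp [red, lft]

noncomputable def sec (v : VV) : LL := ph (lft v)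

theorem kap_sec (v : VV) : kap (sec v) = v := by
  unfold sec
  rw [kap_ph, red_lft]

noncomputable def rhoFun (g : Co0) (v : VV) : VV := kap (g • sec v)

theorem rhoFun_kap (g : Co0) (x : LL) : rhoFun g (kap x) = kap (g • x) := by
  obtain ⟨z, hz⟩ := (kap_eq_iff _ _).1 (kap_sec (kap x))
  unfold rhoFun
  rw [hz, smul_add', smul_add', kap_add, kap_double, add_zero]

theorem rhoFun_add (g : Co0) (u v : VV) : rhoFun g (u + v) = rhoFun g u + rhoFun g v := by
  have e : u + v = kap (sec u + sec v) := by rw [kap_add, kap_sec, kap_sec]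
  rw [e, rhoFun_kap, smul_add', kap_add]
  conv_rhs => rw [← kap_sec u, ← kap_sec v, rhoFun_kap, rhoFun_kap]

/-- The linear action. -/
noncomputable def rhoLin (g : Co0) : VV →ₗ[ZMod 2] VV :=
  (AddMonoidHom.mk' (rhoFun g) (rhoFun_add g)).toZModLinearMap 2

theorem rhoLin_kap (g : Co0) (x : LL) : rhoLin g (kap x) = kap (g • x) := rhoFun_kap g x

theorem vv_ext {f f' : VV →ₗ[ZMod 2] VV} (h : ∀ x, f (kap x) = f' (kap x)) : f = f' := by
  refine LinearMap.ext fun v => ?_
  rw [← kap_sec v]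
  exact h _

noncomputable def rhoHom : Co0 →* Module.End (ZMod 2) VV where
  toFun := rhoLin
  map_one' := vv_ext fun x => by
    rw [rhoLin_kap, one_smul]
    rfl
  map_mul' a b := vv_ext fun x => by
    rw [rhoLin_kap, mul_smul]
    show _ = rhoLin a (rhoLin b (kap x))
    rw [rhoLin_kap, rhoLin_kap]

theorem rhoHom_kap (g : Co0) (x : LL) : rhoHom g (kap x) = kap (g • x) := rhoFun_kap g x

theorem rho_center (g : Co0) (hg : g ∈ Zc) : rhoHom g = 1 := by
  rcases center_cases hg with rfl | rfl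
  · exact map_one _
  · apply vv_ext
    intro x
    rw [rhoHom_kap]
    show kap (-x) = kap x
    exact kap_neg x

noncomputable def barRho : Gq →* Module.End (ZMod 2) VV := QuotientGroup.lift Zc rhoHom rho_center

theorem barRho_mk (g : Co0) (x : LL) : barRho (g : Gq) (kap x) = kap (g • x) := rhoHom_kap g x

/-- The form. -/
noncomputable def B2 : LinearMap.BilinForm (ZMod 2) VV := Matrix.toBilin' (bF.map (Int.castRingHom (ZMod 2)))

theorem B2_red (c d : Fin 24 → ℤ) : B2 (red c) (red d) = ((c ⬝ᵥ (bF *ᵥ d) : ℤ) : ZMod 2) := by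
  unfold B2
  rw [Matrix.toBilin'_apply']
  have e1 : red c = (Int.castRingHom (ZMod 2)) ∘ c := rfl
  have e2 : red d = (Int.castRingHom (ZMod 2)) ∘ d := rfl
  have e3 : (bF.map (Int.castRingHom (ZMod 2))) *ᵥ ((Int.castRingHom (ZMod 2)) ∘ d) = (Int.castRingHom (ZMod 2)) ∘ (bF *ᵥ d) :=
    funext fun i => (RingHom.map_mulVec (Int.castRingHom (ZMod 2)) bF d i).symm
  rw [e1, e2, e3]
  exact (RingHom.map_dotProduct (Int.castRingHom (ZMod 2)) c (bF *ᵥ d)).symm

theorem B2_kap (x y : LL) : B2 (kap x) (kap y) = 0 ↔ (16 : ℤ) ∣ dotInt (x : GolayPt → ℤ) (y : GolayPt → ℤ) := by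
  have h := hbil (ph.symm x) (ph.symm y)
  rw [AddEquiv.apply_symm_apply, AddEquiv.apply_symm_apply] at h
  unfold kap
  rw [B2_red, h, ZMod.intCast_zmod_eq_zero_iff_dvd]
  constructor
  · rintro ⟨k, hk⟩
    exact ⟨k, by rw [hk]; push_cast; ring⟩
  · rintro ⟨k, hk⟩
    refine ⟨k, ?_⟩
    push_cast at *
    omega

theorem norm_eq (x : LL) : sqNorm (x : GolayPt → ℤ) = 8 * N bF (ph.symm x) := by
  have h := sqNorm_φ hbil (ph.symm x)
  rwa [AddEquiv.apply_symm_apply] at h

theorem cong_small {x y : LL} (h : kap x = kap y) (hs : sqNorm (x : GolayPt → ℤ) + sqNorm (y : GolayPt → ℤ) < 128) :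
    y = x ∨ y = -x := by
  rcases cong_cases hF h with e | e | ⟨e, -⟩
  · left
    exact ph.symm.injective e
  · right
    apply ph.symm.injective
    rw [e, map_neg]
  · exfalso
    rw [norm_eq, norm_eq] at hs
    omega

theorem dot_e8 (x : GolayPt → ℤ) (i : GolayPt) : dotInt (e8 i : GolayPt → ℤ) x = 8 * x i := by
  unfold dotInt
  rw [Finset.sum_eq_single i]
  · rw [e8_apply]
    simp
  · intro b _ hb
    rw [e8_apply]
    simp [hb]
  · simp

/-- A vector with a partner of inner product congruent to 8. -/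
theorem exists_partner (y : LL) (hn : sqNorm (y : GolayPt → ℤ) = 32 ∨ sqNorm (y : GolayPt → ℤ) = 48 ∨ sqNorm (y : GolayPt → ℤ) = 64) :
    ∃ p : LL, ¬ (16 : ℤ) ∣ dotInt (y : GolayPt → ℤ) (p : GolayPt → ℤ) := by
  have key : ∀ (b p : LL) (g : Co0), g • y = b → ¬ (16 : ℤ) ∣ dotInt (b : GolayPt → ℤ) (p : GolayPt → ℤ) →
      ∃ p : LL, ¬ (16 : ℤ) ∣ dotInt (y : GolayPt → ℤ) (p : GolayPt → ℤ) := by
    intro b p g hg h
    refine ⟨g⁻¹ • p, ?_⟩
    have := dot_smul g y (g⁻¹ • p)
    rw [smul_inv_smul, hg] at this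
    rwa [← this]
  rcases hn with hn | hn | hn
  · obtain ⟨g, hg⟩ := Cfsg.Agent.Lib.Co0Trans.trans32 y McLG.lv0 hn norm_v0
    refine key _ McLG.lu0 g hg ?_
    rw [dot_comm, dot_u0_v0]
    norm_num
  · obtain ⟨g, hg⟩ := Cfsg.Agent.Lib.Co0Trans.trans48 y McLG.lu0 hn norm_u0
    refine key _ McLG.lv0 g hg ?_
    rw [dot_u0_v0]
    norm_num
  · obtain ⟨g, hg⟩ := Cfsg.Agent.Lib.Co0Trans.trans64 y (e8 none) hn (sqNorm_e8 none)
    refine key _ McLG.lu0 g hg ?_
    rw [dot_e8]
    have : (McLG.lu0 : GolayPt → ℤ) none = 5 := by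
      show dec McLG.u0 none = 5
      decide +kernel
    rw [this]
    norm_num

theorem sep (x : LL) (h : ∀ y : LL, (16 : ℤ) ∣ dotInt (x : GolayPt → ℤ) (y : GolayPt → ℤ)) : kap x = 0 := by
  obtain ⟨y', hy', hn, z, hz, e⟩ := main_lattice.2 x x.2
  let Y : LL := ⟨y', hy'⟩
  let Z : LL := ⟨z, hz⟩
  have e' : x = Y + (Z + Z) := by
    apply Subtype.ext
    show (x : GolayPt → ℤ) = y' + (z + z)
    rw [two_nsmul] at e
    rw [← e]
    abel
  have h1 : kap x = kap Y := (kap_eq_iff _ _).2 ⟨Z, e'⟩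
  rw [h1]
  have h2 : ∀ p : LL, (16 : ℤ) ∣ dotInt (Y : GolayPt → ℤ) (p : GolayPt → ℤ) := by
    intro p
    have h3 : (x : GolayPt → ℤ) = (Y : GolayPt → ℤ) + ((Z : GolayPt → ℤ) + (Z : GolayPt → ℤ)) := congrArg Subtype.val e'
    have h4 := h p
    rw [h3, dot_add_left, dot_add_left] at h4
    obtain ⟨k, hk⟩ := dot_dvd Z.2 p.2
    rw [hk] at h4
    have : (16 : ℤ) ∣ 8 * k + 8 * k := ⟨k, by ring⟩
    exact (Int.dvd_add_left this).1 h4
  have hY := norm_eq Y
  set c := ph.symm Y with hc
  have heven := hF.even c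
  have hno := hF.noroot c
  have hle : sqNorm (Y : GolayPt → ℤ) ≤ 64 := hn
  by_cases h0 : c = 0
  · have h5 : ph c = Y := by rw [hc, AddEquiv.apply_symm_apply]
    rw [h0, map_zero] at h5
    rw [← h5, kap_zero]
  · exfalso
    have hpos := hF.pos c h0
    have hNdef : N bF c = c ⬝ᵥ (bF *ᵥ c) := rfl
    obtain ⟨k, hk⟩ := heven
    have h3 : sqNorm (Y : GolayPt → ℤ) = 32 ∨ sqNorm (Y : GolayPt → ℤ) = 48 ∨ sqNorm (Y : GolayPt → ℤ) = 64 := by
      rw [hY, hNdef]
      omega
    obtain ⟨p, hp⟩ := exists_partner Y h3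
    exact hp (h2 p)

theorem B2_nondeg : B2.Nondegenerate := by
  apply LinearMap.BilinForm.Nondegenerate.ofSeparatingLeft
  intro u hu
  rw [← kap_sec u]
  apply sep
  intro y
  rw [← B2_kap, kap_sec]
  exact hu _

/-! ### Pairs -/

/-- A representative of a pair. -/
noncomputable def rp (x : Om1) : LL := Classical.choose x.2

theorem rp_norm (x : Om1) : sqNorm (rp x : GolayPt → ℤ) = 32 := (Classical.choose_spec x.2).1

theorem rp_val (x : Om1) : x.1 = {rp x, -rp x} := (Classical.choose_spec x.2).2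

theorem pr_rp (x : Om1) : pr (rp x) (rp_norm x) = x := Subtype.ext (rp_val x).symm

theorem rp_mem (x : Om1) : rp x ∈ x.1 := by
  rw [rp_val]
  exact Or.inl rfl

theorem mem_rp {x : Om1} {y : LL} (h : y ∈ x.1) : y = rp x ∨ y = -rp x := by
  rw [rp_val] at h
  exact h

/-- The class of a pair. -/
noncomputable def kx (x : Om1) : VV := kap (rp x)

theorem kx_of_mem {x : Om1} {y : LL} (h : y ∈ x.1) : kap y = kx x := by
  rcases mem_rp h with rfl | rfl
  · rfl
  · exact kap_neg _

theorem kx_inj {x x' : Om1} (h : kx x = kx x') : x = x' := by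
  have h2 := cong_small h (by rw [rp_norm, rp_norm]; norm_num)
  rw [← pr_rp x, ← pr_rp x']
  rcases h2 with e | e
  · simp only [e]
  · apply Subtype.ext
    show ({rp x, -rp x} : Set LL) = {rp x', -rp x'}
    rw [e, neg_neg, Set.pair_comm]

theorem smul_mem_pair (g : Co0) (x : Om1) : g • rp x ∈ (g • x).1 := by
  rw [pair_smul_val]
  exact ⟨rp x, rp_mem x, rfl⟩

theorem barRho_kx (g : Gq) (x : Om1) : barRho g (kx x) = kx (g • x) := by
  obtain ⟨g, rfl⟩ := QuotientGroup.mk_surjective g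
  show barRho (g : Gq) (kap (rp x)) = kx (((g : Co0) : Gq) • x)
  rw [barRho_mk, mk_smul_pair]
  exact kx_of_mem (smul_mem_pair g x)

/-- The absolute inner product of two pairs. -/
noncomputable def dd1 (x y : Om1) : ℕ := (dotInt (rp x : GolayPt → ℤ) (rp y : GolayPt → ℤ)).natAbs

theorem dd1_of_mem {x y : Om1} {a b : LL} (ha : a ∈ x.1) (hb : b ∈ y.1) :
    dd1 x y = (dotInt (a : GolayPt → ℤ) (b : GolayPt → ℤ)).natAbs := by
  unfold dd1
  rcases mem_rp ha with rfl | rfl <;> rcases mem_rp hb with rfl | rfl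
  · rfl
  · show _ = (dotInt _ (-(rp y : GolayPt → ℤ))).natAbs
    rw [dot_neg_right, Int.natAbs_neg]
  · show _ = (dotInt (-(rp x : GolayPt → ℤ)) _).natAbs
    rw [dot_neg_left, Int.natAbs_neg]
  · show _ = (dotInt (-(rp x : GolayPt → ℤ)) (-(rp y : GolayPt → ℤ))).natAbs
    rw [dot_neg_left, dot_neg_right, neg_neg]

theorem dd1_pr {a b : LL} (ha : sqNorm (a : GolayPt → ℤ) = 32) (hb : sqNorm (b : GolayPt → ℤ) = 32) :
    dd1 (pr a ha) (pr b hb) = (dotInt (a : GolayPt → ℤ) (b : GolayPt → ℤ)).natAbs :=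
  dd1_of_mem (Or.inl rfl) (Or.inl rfl)

theorem dd1_values (x y : Om1) : dd1 x y = 32 ∨ dd1 x y = 16 ∨ dd1 x y = 8 ∨ dd1 x y = 0 := by
  have h := dot_values (rp x) (rp_norm x) (rp_norm y)
  unfold dd1
  simp only [Finset.mem_insert, Finset.mem_singleton] at h
  rcases h with h | h | h | h | h | h | h <;> rw [h] <;> decide

theorem dvd16_of_dd {x y : Om1} (h : dd1 x y ≠ 8) : (16 : ℤ) ∣ dotInt (rp x : GolayPt → ℤ) (rp y : GolayPt → ℤ) := by
  have h2 := dot_values (rp x) (rp_norm x) (rp_norm y)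
  unfold dd1 at h
  simp only [Finset.mem_insert, Finset.mem_singleton] at h2
  rcases h2 with h2 | h2 | h2 | h2 | h2 | h2 | h2 <;> rw [h2] at h ⊢ <;> first | exact absurd (by decide) h | norm_num

/-- The main consequence. -/
theorem iso_main (L : Subgroup Gq) (hL : IsSimpleGroup L) (a b z : Gq) (ha : a ∈ L) (hb : b ∈ L) (hz : z ∈ L)
    (a5 : a ^ 5 = 1) (b5 : b ^ 5 = 1) (z5 : z ^ 5 = 1) (hab : a * b = z * b * a) (hza : z * a = a * z) (hzb : z * b = b * z)
    (hz1 : z ≠ 1) (P : Finset Om1) (hinv : ∀ g ∈ L, ∀ x ∈ P, g • x ∈ P)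
    (hiso : ∀ x ∈ P, ∀ x' ∈ P, dd1 x x' ≠ 8) : ∀ g ∈ L, ∀ x ∈ P, g • x = x := by
  classical
  let U : Submodule (ZMod 2) VV := Submodule.span (ZMod 2) (kx '' (P : Set Om1))
  have hUinv : ∀ g ∈ L, ∀ v ∈ U, barRho g v ∈ U := by
    intro g hg v hv
    induction hv using Submodule.span_induction with
    | mem v hv =>
      obtain ⟨x, hx, rfl⟩ := hv
      rw [barRho_kx]
      exact Submodule.subset_span ⟨_, hinv g hg x hx, rfl⟩
    | zero => rw [map_zero]; exact U.zero_mem
    | add u v _ _ hu hv => rw [map_add]; exact U.add_mem hu hv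
    | smul c v _ hv => rw [map_smul]; exact U.smul_mem c hv
  have hiso' : ∀ u ∈ U, ∀ v ∈ U, B2 u v = 0 := by
    intro u hu v hv
    induction hu using Submodule.span_induction with
    | mem u hu =>
      obtain ⟨x, hx, rfl⟩ := hu
      induction hv using Submodule.span_induction with
      | mem v hv =>
        obtain ⟨y, hy, rfl⟩ := hv
        exact (B2_kap _ _).2 (dvd16_of_dd (hiso x hx y hy))
      | zero => rw [map_zero]
      | add u v _ _ hu hv => rw [map_add, hu, hv, add_zero]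
      | smul c v _ hv => rw [map_smul, hv, smul_zero]
    | zero => simp
    | add u v _ _ hu hv => simp [hu, hv]
    | smul c u _ hu => simp [hu]
  have hdim : finrank (ZMod 2) U ≤ 12 := isotropic_bound B2 B2_nondeg (by simp) U hiso'
  -- the kernel
  let N : Subgroup L :=
    { carrier := {l | ∀ v ∈ U, barRho (l : Gq) v = v}
      one_mem' := by
        intro v _
        show barRho (1 : Gq) v = v
        rw [map_one]
        rfl
      mul_mem' := by
        intro p q hp hq v hv
        show barRho ((p : Gq) * (q : Gq)) v = v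
        rw [map_mul, Module.End.mul_apply, hq v hv, hp v hv]
      inv_mem' := by
        intro p hp v hv
        have h1 := hp (barRho ((p⁻¹ : L) : Gq) v) (hUinv _ (p⁻¹).2 v hv)
        show barRho ((p⁻¹ : L) : Gq) v = v
        rw [h1.symm]
        rw [← Module.End.mul_apply, ← map_mul]
        have e : (p : Gq) * ((p⁻¹ : L) : Gq) = 1 := by simp
        rw [e, map_one]
        rfl }
  have hN : N.Normal := by
    constructor
    intro n hn g v hv
    show barRho (((g * n * g⁻¹ : L)) : Gq) v = v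
    have e : (((g * n * g⁻¹ : L)) : Gq) = (g : Gq) * (n : Gq) * ((g⁻¹ : L) : Gq) := rfl
    rw [e, map_mul, map_mul, Module.End.mul_apply, Module.End.mul_apply, hn _ (hUinv _ (g⁻¹).2 v hv), ← Module.End.mul_apply,
      ← map_mul]
    have e2 : (g : Gq) * ((g⁻¹ : L) : Gq) = 1 := by simp
    rw [e2, map_one]
    rfl
  rcases IsSimpleGroup.eq_bot_or_eq_top_of_normal N hN with h | h
  · exfalso
    have hz2 : (⟨z, hz⟩ : L) ∉ N := by
      rw [h, Subgroup.mem_bot]
      intro e
      exact hz1 (congrArg Subtype.val e)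
    have hz3 : ¬ ∀ v ∈ U, barRho z v = v := hz2
    push Not at hz3
    obtain ⟨w, hw, hzw⟩ := hz3
    have h15 := five_lemma (barRho a) (barRho b) (barRho z) (by rw [← map_pow, a5, map_one]) (by rw [← map_pow, b5, map_one])
      (by rw [← map_pow, z5, map_one]) (by rw [← map_mul, hab, map_mul, map_mul]) (by rw [← map_mul, hza, map_mul])
      (by rw [← map_mul, hzb, map_mul]) U (hUinv a ha) (hUinv b hb) (hUinv z hz) w hw hzw
    omega
  · intro g hg x hx
    have h1 : (⟨g, hg⟩ : L) ∈ N := by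
      rw [h]
      trivial
    have h2 := h1 (kx x) (Submodule.subset_span ⟨x, hx, rfl⟩)
    have h3 : barRho g (kx x) = kx x := h2
    rw [barRho_kx] at h3
    exact kx_inj h3

end Cfsg.Agent.Lib.Co1W
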