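import Mathlib
import Cfsg.Agent.Lib.Co1W
import Cfsg.Agent.Lib.Co1Gens

set_option autoImplicit false
set_option linter.unusedVariables false
set_option linter.unusedSectionVars false
set_option linter.style.haveILetI false
set_option linter.unusedSimpArgs false

/-!
# The symmetric operator of an invariant set of pairs of short vectors

An invariant set of pairs of short vectors defines a symmetric operator commuting with the subgroup. If the subgroup
contains the elements of orders 23 and 11 then either the operator is a scalar (and the set is a design) or the subgroup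
preserves one of three explicit vectors (up to sign, or up to a frame).
-/

namespace Cfsg.Agent.Lib.Co1T

open Finset MulAction Cfsg Cfsg.Agent.Lib.CoVec Cfsg.Agent.Lib.CoConf Cfsg.Agent.Lib.Co1W Cfsg.Agent.S0398
  Cfsg.Agent.Lib.Golay Co1G

theorem smul_sum' (g : Co0) {ι : Type*} (s : Finset ι) (f : ι → LL) : g • (∑ i ∈ s, f i) = ∑ i ∈ s, g • f i :=
  map_sum (Cfsg.Agent.Lib.Co0Mod.addOf g) f s

theorem smul_zsmul' (g : Co0) (n : ℤ) (x : LL) : g • (n • x) = n • (g • x) :=
  map_zsmul (Cfsg.Agent.Lib.Co0Mod.addOf g) n x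

theorem coe_sum {ι : Type*} (s : Finset ι) (f : ι → LL) (p : GolayPt) :
    ((∑ i ∈ s, f i : LL) : GolayPt → ℤ) p = ∑ i ∈ s, (f i : GolayPt → ℤ) p := by
  have h : ((∑ i ∈ s, f i : LL) : GolayPt → ℤ) = ∑ i ∈ s, (f i : GolayPt → ℤ) := by
    simp
  rw [h, Finset.sum_apply]

theorem coe_zsmul (n : ℤ) (x : LL) (p : GolayPt) : ((n • x : LL) : GolayPt → ℤ) p = n * (x : GolayPt → ℤ) p := by
  simp

theorem term_eq {x : Om1} {y : LL} (hy : y ∈ x.1) (c : GolayPt → ℤ) :
    (dotInt (y : GolayPt → ℤ) c) • y = (dotInt (rp x : GolayPt → ℤ) c) • rp x := by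
  rcases mem_rp hy with rfl | rfl
  · rfl
  · have e : ((-rp x : LL) : GolayPt → ℤ) = -(rp x : GolayPt → ℤ) := rfl
    rw [e, dot_neg_left, neg_smul, smul_neg, neg_neg]

theorem prod_of_mem {x : Om1} {y : LL} (hy : y ∈ x.1) (p q : GolayPt) :
    (y : GolayPt → ℤ) p * (y : GolayPt → ℤ) q = (rp x : GolayPt → ℤ) p * (rp x : GolayPt → ℤ) q := by
  rcases mem_rp hy with rfl | rfl
  · rfl
  · have e : ((-rp x : LL) : GolayPt → ℤ) = -(rp x : GolayPt → ℤ) := rfl
    rw [e]
    simp

/-- The operator. -/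
noncomputable def tv (P : Finset Om1) (c : LL) : LL := ∑ z ∈ P, (dotInt (rp z : GolayPt → ℤ) (c : GolayPt → ℤ)) • rp z

/-- Its matrix. -/
noncomputable def tau (P : Finset Om1) (p q : GolayPt) : ℤ := ∑ z ∈ P, (rp z : GolayPt → ℤ) p * (rp z : GolayPt → ℤ) q

theorem tau_symm (P : Finset Om1) (p q : GolayPt) : tau P p q = tau P q p := by
  unfold tau
  exact Finset.sum_congr rfl fun z _ => mul_comm _ _

theorem tv_apply (P : Finset Om1) (c : LL) (p : GolayPt) :
    (tv P c : GolayPt → ℤ) p = ∑ q, tau P p q * (c : GolayPt → ℤ) q := by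
  unfold tv tau
  rw [coe_sum]
  simp only [coe_zsmul, Finset.sum_mul]
  rw [Finset.sum_comm]
  apply Finset.sum_congr rfl
  intro z _
  unfold dotInt
  rw [Finset.sum_mul]
  apply Finset.sum_congr rfl
  intro q _
  ring

section inv

variable {H : Subgroup Co0} {P : Finset Om1} (hP : ∀ g ∈ H, ∀ x ∈ P, g • x ∈ P)

include hP

theorem tv_smul {g : Co0} (hg : g ∈ H) (c : LL) : g • tv P c = tv P (g • c) := by
  unfold tv
  rw [smul_sum']
  simp only [smul_zsmul']
  refine Finset.sum_nbij' (fun z => g • z) (fun z => g⁻¹ • z) (fun z hz => hP g hg z hz)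
    (fun z hz => hP g⁻¹ (H.inv_mem hg) z hz) (fun z _ => inv_smul_smul g z) (fun z _ => smul_inv_smul g z) ?_
  intro z _
  have h := term_eq (smul_mem_pair g z) ((g • c : LL) : GolayPt → ℤ)
  rw [← h, dot_smul]

theorem tau_inv {g : Co0} (hg : g ∈ H) (σ : GolayPt → GolayPt) (hσ : ∀ (v : LL) p, ((g • v : LL) : GolayPt → ℤ) p = (v : GolayPt → ℤ) (σ p))
    (p q : GolayPt) : tau P (σ p) (σ q) = tau P p q := by
  unfold tau
  refine Finset.sum_nbij' (fun z => g • z) (fun z => g⁻¹ • z) (fun z hz => hP g hg z hz)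
    (fun z hz => hP g⁻¹ (H.inv_mem hg) z hz) (fun z _ => inv_smul_smul g z) (fun z _ => smul_inv_smul g z) ?_
  intro z _
  have h := prod_of_mem (smul_mem_pair g z) p q
  rw [← h, hσ, hσ]

end inv

/-- Functions with translation and multiplier symmetry. -/
theorem const_of_sym (f : ZMod 23 → ℤ) (h2 : ∀ d, f (2 * d) = f d) (hm : ∀ d, f (-d) = f d) (d : ZMod 23) (hd : d ≠ 0) : f d = f 1 := by
  have hk : ∀ k : ℕ, f (2 ^ k) = f 1 := by
    intro k
    induction k with
    | zero => simp
    | succ k ih => rw [pow_succ', h2, ih]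
  have hall : ∀ d : ZMod 23, d ≠ 0 → ∃ k : ℕ, d = 2 ^ k ∨ d = -(2 ^ k) := by
    have : ∀ d : ZMod 23, d ≠ 0 → ∃ k ∈ Finset.range 11, d = 2 ^ k ∨ d = -(2 ^ k) := by decide
    intro d hd
    obtain ⟨k, -, hk⟩ := this d hd
    exact ⟨k, hk⟩
  obtain ⟨k, rfl | rfl⟩ := hall d hd
  · exact hk k
  · rw [hm, hk]

section main

variable {H : Subgroup Co0} {P : Finset Om1} (hP : ∀ g ∈ H, ∀ x ∈ P, g • x ∈ P) (htH : tE ∈ H) (huH : uE ∈ H)

include hP htH

theorem tau_trans (n : ℕ) (x y : ZMod 23) : tau P (some (x + n)) (some (y + n)) = tau P (some x) (some y) := by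
  have hs : ∀ (v : LL) p, ((tE • v : LL) : GolayPt → ℤ) p = (v : GolayPt → ℤ) (fnOf tc p) := fun v p => perm_apply h_tc v p
  induction n with
  | zero => simp
  | succ n ih =>
    have h := tau_inv hP htH (fnOf tc) hs (some (x + n)) (some (y + n))
    rw [fn_t, fn_t, ih] at h
    rw [← h]
    push_cast
    rw [add_assoc, add_assoc]

theorem tau_trans' (n : ℕ) (x : ZMod 23) : tau P (some (x + n)) none = tau P (some x) none := by
  have hs : ∀ (v : LL) p, ((tE • v : LL) : GolayPt → ℤ) p = (v : GolayPt → ℤ) (fnOf tc p) := fun v p => perm_apply h_tc v p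
  induction n with
  | zero => simp
  | succ n ih =>
    have h := tau_inv hP htH (fnOf tc) hs (some (x + n)) none
    rw [fn_t, fn_t_none, ih] at h
    rw [← h]
    push_cast
    rw [add_assoc]

theorem tau_base (x y : ZMod 23) : tau P (some x) (some y) = tau P (some 0) (some (y - x)) := by
  have h := tau_trans hP htH (-x).val x y
  rw [ZMod.natCast_zmod_val] at h
  rw [← h]
  congr 3
  · ring
  · ring

theorem tau_none (x : ZMod 23) : tau P (some x) none = tau P (some 0) none := by
  have h := tau_trans' hP htH x.val 0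
  rw [ZMod.natCast_zmod_val, zero_add] at h
  exact h

include huH

theorem tau_ss (x y : ZMod 23) : tau P (some x) (some y) =
    if x = y then tau P (some 0) (some 0) else tau P (some 0) (some 1) := by
  have hs : ∀ (v : LL) p, ((uE • v : LL) : GolayPt → ℤ) p = (v : GolayPt → ℤ) (fnOf uc p) := fun v p => perm_apply h_uc v p
  rw [tau_base hP htH x y]
  split_ifs with h
  · rw [h, sub_self]
  · apply const_of_sym (fun d => tau P (some 0) (some d))
    · intro d
      have h2 := tau_inv hP huH (fnOf uc) hs (some 0) (some d)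
      rw [fn_u, fn_u, mul_zero] at h2
      exact h2
    · intro d
      show tau P (some 0) (some (-d)) = tau P (some 0) (some d)
      have h3 := tau_base hP htH d 0
      rw [zero_sub] at h3
      rw [← h3, tau_symm, tau_base hP htH 0 d, sub_zero]
    · intro e
      exact h (sub_eq_zero.1 e).symm

end main

/-- The constants of the operator. -/
noncomputable def bet (P : Finset Om1) : ℤ := tau P (some 0) (some 1)
noncomputable def gam (P : Finset Om1) : ℤ := tau P (some 0) (some 0)
noncomputable def del (P : Finset Om1) : ℤ := tau P (some 0) none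
noncomputable def eps (P : Finset Om1) : ℤ := tau P none none
noncomputable def eps' (P : Finset Om1) : ℤ := eps P - (gam P - bet P)

/-- The sum of the coordinates but one. -/
def sg (c : GolayPt → ℤ) : ℤ := ∑ y : ZMod 23, c (some y)

/-- The operator minus a scalar. -/
noncomputable def sv (P : Finset Om1) (c : LL) : LL := tv P c - (gam P - bet P) • c

/-- Vectors constant on the first coordinates. -/
def Ff (v : GolayPt → ℤ) : Prop := ∀ x : ZMod 23, v (some x) = v (some 0)

section main2

variable {H : Subgroup Co0} {P : Finset Om1} (hP : ∀ g ∈ H, ∀ x ∈ P, g • x ∈ P) (htH : tE ∈ H) (huH : uE ∈ H)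

include hP htH huH

theorem sv_some (c : LL) (x : ZMod 23) :
    (sv P c : GolayPt → ℤ) (some x) = del P * (c : GolayPt → ℤ) none + bet P * sg (c : GolayPt → ℤ) := by
  have e : ((sv P c : LL) : GolayPt → ℤ) (some x) = (tv P c : GolayPt → ℤ) (some x) - (gam P - bet P) * (c : GolayPt → ℤ) (some x) := by
    simp [sv]
  rw [e, tv_apply, Fintype.sum_option, tau_none hP htH]
  have h1 : ∀ y : ZMod 23, tau P (some x) (some y) * (c : GolayPt → ℤ) (some y) =
      bet P * (c : GolayPt → ℤ) (some y) + (if x = y then (gam P - bet P) * (c : GolayPt → ℤ) (some y) else 0) := by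
    intro y
    rw [tau_ss hP htH huH]
    split_ifs with h
    · unfold bet gam
      ring
    · unfold bet
      ring
  rw [Finset.sum_congr rfl (fun y _ => h1 y)]
  rw [Finset.sum_add_distrib, ← Finset.mul_sum, Finset.sum_ite_eq]
  simp only [mem_univ, if_true]
  unfold sg del
  ring

theorem sv_none (c : LL) :
    (sv P c : GolayPt → ℤ) none = eps' P * (c : GolayPt → ℤ) none + del P * sg (c : GolayPt → ℤ) := by
  have e : ((sv P c : LL) : GolayPt → ℤ) none = (tv P c : GolayPt → ℤ) none - (gam P - bet P) * (c : GolayPt → ℤ) none := by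
    simp [sv]
  rw [e, tv_apply, Fintype.sum_option]
  simp only [fun y => tau_symm P none (some y), tau_none hP htH]
  rw [← Finset.mul_sum]
  unfold sg del eps' eps
  ring

theorem Ff_sv (c : LL) : Ff (sv P c : GolayPt → ℤ) := by
  intro x
  rw [sv_some hP htH huH, sv_some hP htH huH]

theorem sv_smul {g : Co0} (hg : g ∈ H) (c : LL) : g • sv P c = sv P (g • c) := by
  unfold sv
  rw [smul_sub', tv_smul hP hg, smul_zsmul']

end main2

/-! ### Vectors of the special form -/

theorem norm_Ff {v : GolayPt → ℤ} (h : Ff v) : sqNorm v = 23 * v (some 0) ^ 2 + v none ^ 2 := by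
  unfold sqNorm
  rw [Fintype.sum_option, Finset.sum_congr rfl (fun x _ => by rw [h x]), Finset.sum_const, Finset.card_univ, ZMod.card]
  simp only [nsmul_eq_mul]
  push_cast
  ring

theorem dot_Ff {v w : GolayPt → ℤ} (h : Ff v) (h' : Ff w) : dotInt v w = 23 * v (some 0) * w (some 0) + v none * w none := by
  unfold dotInt
  rw [Fintype.sum_option, Finset.sum_congr rfl (fun x _ => by rw [h x, h' x]), Finset.sum_const, Finset.card_univ, ZMod.card]
  simp only [nsmul_eq_mul]
  push_cast
  ring

theorem y0_some (x : ZMod 23) : (ly0 : GolayPt → ℤ) (some x) = 1 := by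
  show dec y0c (some x) = 1
  rw [y0_eq]
  unfold ufv
  simp

theorem y0_none : (ly0 : GolayPt → ℤ) none = -3 := by
  show dec y0c none = -3
  rw [y0_eq]
  rfl

theorem Ff_y0 : Ff (ly0 : GolayPt → ℤ) := fun x => by rw [y0_some, y0_some]

theorem norm_y0 : sqNorm (ly0 : GolayPt → ℤ) = 32 := by
  rw [norm_Ff Ff_y0, y0_some, y0_none]
  norm_num

theorem u0_some (x : ZMod 23) : (McLG.lu0 : GolayPt → ℤ) (some x) = 1 := by
  show dec McLG.u0 (some x) = 1
  revert x
  decide +kernel

theorem u0_none : (McLG.lu0 : GolayPt → ℤ) none = 5 := by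
  show dec McLG.u0 none = 5
  decide +kernel

theorem y0_add : ly0 + e8 none = McLG.lu0 := by
  apply Subtype.ext
  funext p
  show (ly0 : GolayPt → ℤ) p + (e8 none : GolayPt → ℤ) p = _
  cases p with
  | none =>
    rw [y0_none, u0_none, e8_apply]
    norm_num
  | some x =>
    rw [y0_some, u0_some, e8_apply]
    simp

theorem y0_unique {v : LL} (hF : Ff (v : GolayPt → ℤ)) (hn : sqNorm (v : GolayPt → ℤ) = 32) : v = ly0 ∨ v = -ly0 := by
  rw [norm_Ff hF] at hn
  have hd := Cfsg.Agent.Lib.LeechClasses.dot_dvd v.2 ly0.2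
  rw [dot_Ff hF Ff_y0, y0_some, y0_none] at hd
  set A := (v : GolayPt → ℤ) (some 0) with hA
  set B := (v : GolayPt → ℤ) none with hB
  have hA1 : A ^ 2 ≤ 1 := by nlinarith [sq_nonneg B]
  have hA2 : -1 ≤ A ∧ A ≤ 1 := by
    constructor <;> nlinarith
  have hB1 : -5 ≤ B ∧ B ≤ 5 := by
    constructor <;> nlinarith [sq_nonneg A]
  obtain ⟨h1, h2⟩ := hA2
  obtain ⟨h3, h4⟩ := hB1
  have key : (A = 1 ∧ B = -3) ∨ (A = -1 ∧ B = 3) := by
    interval_cases A <;> interval_cases B <;> first | omega | simp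
  rcases key with ⟨e1, e2⟩ | ⟨e1, e2⟩
  · left
    apply Subtype.ext
    funext p
    cases p with
    | none => rw [y0_none]; exact e2
    | some x => rw [y0_some, hF x]; exact e1
  · right
    apply Subtype.ext
    funext p
    show _ = -(ly0 : GolayPt → ℤ) p
    cases p with
    | none => rw [y0_none]; rw [show (v : GolayPt → ℤ) none = B from rfl, e2]; norm_num
    | some x => rw [y0_some, hF x]; rw [show (v : GolayPt → ℤ) (some 0) = A from rfl, e1]

theorem two_vec {w w' : LL} (hF : Ff (w : GolayPt → ℤ)) (hF' : Ff (w' : GolayPt → ℤ)) (h0 : w ≠ 0)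
    (hn : sqNorm (w' : GolayPt → ℤ) = sqNorm (w : GolayPt → ℤ))
    (hd : (w' : GolayPt → ℤ) (some 0) * (w : GolayPt → ℤ) none = (w : GolayPt → ℤ) (some 0) * (w' : GolayPt → ℤ) none) :
    w' = w ∨ w' = -w := by
  have hpos : 0 < sqNorm (w : GolayPt → ℤ) := by
    have h1 : (w : GolayPt → ℤ) ≠ 0 := fun e => h0 (Subtype.ext e)
    have := Cfsg.Agent.Lib.LeechCong.min_norm' w.2 h1
    omega
  rw [norm_Ff hF'] at hn
  rw [norm_Ff hF] at hn hpos
  set A := (w : GolayPt → ℤ) (some 0) with hA
  set B := (w : GolayPt → ℤ) none with hB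
  set A' := (w' : GolayPt → ℤ) (some 0) with hA'
  set B' := (w' : GolayPt → ℤ) none with hB'
  have e1 : A' ^ 2 = A ^ 2 := by
    have : (A' ^ 2 - A ^ 2) * (23 * A ^ 2 + B ^ 2) = 0 := by
      have h2 : A' ^ 2 * B ^ 2 = A ^ 2 * B' ^ 2 := by
        rw [← mul_pow, ← mul_pow, hd]
      have h3 : B' ^ 2 = 23 * A ^ 2 + B ^ 2 - 23 * A' ^ 2 := by linarith
      rw [h3] at h2
      nlinarith
    rcases mul_eq_zero.1 this with h | h
    · linarith
    · omega
  have e2 : B' ^ 2 = B ^ 2 := by linarith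
  have key : (A' = A ∧ B' = B) ∨ (A' = -A ∧ B' = -B) := by
    rcases sq_eq_sq_iff_eq_or_eq_neg.1 e1 with h1 | h1 <;> rcases sq_eq_sq_iff_eq_or_eq_neg.1 e2 with h2 | h2
    · exact Or.inl ⟨h1, h2⟩
    · rw [h1, h2] at hd
      have : A * B = 0 := by linarith
      rcases mul_eq_zero.1 this with h | h
      · right
        rw [h1, h2, h]
        simp
      · left
        rw [h1, h2, h]
        simp
    · rw [h1, h2] at hd
      have : A * B = 0 := by linarith
      rcases mul_eq_zero.1 this with h | h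
      · left
        rw [h1, h2, h]
        simp
      · right
        rw [h1, h2, h]
        simp
    · exact Or.inr ⟨h1, h2⟩
  rcases key with ⟨k1, k2⟩ | ⟨k1, k2⟩
  · left
    apply Subtype.ext
    funext p
    cases p with
    | none => exact k2
    | some x => rw [hF x, hF' x]; exact k1
  · right
    apply Subtype.ext
    funext p
    show _ = -(w : GolayPt → ℤ) p
    cases p with
    | none => exact k2
    | some x => rw [hF x, hF' x]; exact k1

theorem half_eq {a b : LL} (h : a + a = b + b) : a = b := by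
  apply Subtype.ext
  funext p
  have h1 : (a : GolayPt → ℤ) p + (a : GolayPt → ℤ) p = (b : GolayPt → ℤ) p + (b : GolayPt → ℤ) p :=
    congrFun (congrArg Subtype.val h) p
  omega

/-- Passing to a vector which is not a double. -/
theorem descend (H : Subgroup Co0) (n : ℕ) : ∀ w : LL, (sqNorm (w : GolayPt → ℤ)).toNat = n → w ≠ 0 → Ff (w : GolayPt → ℤ) →
    (∀ g ∈ H, g • w = w ∨ g • w = -w) → ∃ w₀ : LL, Ff (w₀ : GolayPt → ℤ) ∧ (∀ g ∈ H, g • w₀ = w₀ ∨ g • w₀ = -w₀) ∧ ¬ ∃ z : LL, w₀ = z + z := by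
  induction n using Nat.strong_induction_on with
  | _ n ih =>
    intro w hn h0 hF hg
    by_cases hd : ∃ z : LL, w = z + z
    · obtain ⟨z, rfl⟩ := hd
      have hz0 : z ≠ 0 := by
        rintro rfl
        simp at h0
      have hcoe : ∀ p, ((z + z : LL) : GolayPt → ℤ) p = 2 * (z : GolayPt → ℤ) p := by
        intro p
        show (z : GolayPt → ℤ) p + (z : GolayPt → ℤ) p = _
        ring
      have hFz : Ff (z : GolayPt → ℤ) := by
        intro x
        have := hF x
        rw [hcoe, hcoe] at this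
        omega
      have hgz : ∀ g ∈ H, g • z = z ∨ g • z = -z := by
        intro g hg'
        rcases hg g hg' with e | e
        · rw [smul_add'] at e
          exact Or.inl (half_eq e)
        · rw [smul_add'] at e
          exact Or.inr (half_eq (e.trans (neg_add z z)))
      have hpos := Cfsg.Agent.Lib.LeechCong.min_norm' z.2 (fun e => hz0 (Subtype.ext e))
      have hnorm : sqNorm ((z + z : LL) : GolayPt → ℤ) = 4 * sqNorm (z : GolayPt → ℤ) := by
        show sqNorm ((z : GolayPt → ℤ) + (z : GolayPt → ℤ)) = _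
        rw [norm_add, dot_self]
        ring
      rw [hnorm] at hn
      exact ih _ (by omega) z rfl hz0 hFz hgz
    · exact ⟨w, hF, hg, hd⟩

theorem eq_vec {w : LL} (hF : Ff (w : GolayPt → ℤ)) {a n : ℤ} (ha : (w : GolayPt → ℤ) (some 0) = a)
    (hb : (w : GolayPt → ℤ) none = 8 * n - 3 * a) : w = a • ly0 + n • e8 none := by
  apply Subtype.ext
  funext p
  show _ = ((a • ly0 : LL) : GolayPt → ℤ) p + ((n • e8 none : LL) : GolayPt → ℤ) p
  rw [coe_zsmul, coe_zsmul]
  cases p with
  | none =>
    rw [y0_none, e8_apply, hb]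
    simp
    ring
  | some x =>
    rw [y0_some, e8_apply, hF x, ha]
    simp

/-- The three cases for a vector preserved up to sign. -/
theorem classify (H : Subgroup Co0) (w₀ : LL) (hF : Ff (w₀ : GolayPt → ℤ)) (hg : ∀ g ∈ H, g • w₀ = w₀ ∨ g • w₀ = -w₀)
    (hnd : ¬ ∃ z : LL, w₀ = z + z) :
    (∀ g ∈ H, g • ly0 = ly0 ∨ g • ly0 = -ly0) ∨ (∀ g ∈ H, g • McLG.lu0 = McLG.lu0 ∨ g • McLG.lu0 = -McLG.lu0) ∨
      (∀ g ∈ H, ∃ j, g • e8 none = e8 j ∨ g • e8 none = -e8 j) := by
  have hd := Cfsg.Agent.Lib.LeechClasses.dot_dvd w₀.2 ly0.2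
  rw [dot_Ff hF Ff_y0, y0_some, y0_none] at hd
  obtain ⟨n, hn⟩ : ∃ n : ℤ, (w₀ : GolayPt → ℤ) none = 8 * n - 3 * (w₀ : GolayPt → ℤ) (some 0) := by
    have : (8 : ℤ) ∣ (w₀ : GolayPt → ℤ) none + 3 * (w₀ : GolayPt → ℤ) (some 0) := by omega
    obtain ⟨k, hk⟩ := this
    exact ⟨k, by omega⟩
  have hw := eq_vec hF rfl hn
  set a := (w₀ : GolayPt → ℤ) (some 0) with ha
  -- congruent vectors
  have key : ∀ r : LL, kap w₀ = kap r → ∀ g ∈ H, kap (g • r) = kap r := by
    intro r hr g hg'
    rw [← rhoHom_kap, ← hr, rhoHom_kap]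
    rcases hg g hg' with e | e
    · rw [e]
    · rw [e, kap_neg]
  have hdbl : ∀ (r : LL) (a' n' : ℤ), w₀ = r + ((a' • ly0 + n' • e8 none) + (a' • ly0 + n' • e8 none)) → kap w₀ = kap r := by
    intro r a' n' e
    exact (kap_eq_iff _ _).2 ⟨_, e⟩
  have two : ∀ (x : LL) (k : ℤ), (2 * k) • x = k • x + k • x := by
    intro x k
    rw [two_mul, add_smul]
  rcases Int.even_or_odd' a with ⟨a', ha' | ha'⟩ <;> rcases Int.even_or_odd' n with ⟨n', hn' | hn'⟩
  · exfalso
    apply hnd
    refine ⟨a' • ly0 + n' • e8 none, ?_⟩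
    rw [hw, ha', hn', two, two]
    abel
  · -- the frame
    right
    right
    have h1 := hdbl (e8 none) a' n' (by
      rw [hw, ha', hn', add_smul, one_smul, two, two]
      abel)
    have h2 := key _ h1
    intro g hg'
    obtain ⟨u, hu⟩ := (kap_eq_iff _ _).1 (h2 g hg')
    exact Cfsg.Agent.Lib.Co0Frame.eq_pm_e8 ((CoConf.norm_smul g _).trans (Cfsg.Agent.Lib.Co0Frame.sqNorm_e8 none)) hu
  · -- the short vector
    left
    have h1 := hdbl ly0 a' n' (by
      rw [hw, ha', hn', add_smul, one_smul, two, two]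
      abel)
    have h2 := key _ h1
    intro g hg'
    have h3 := h2 g hg'
    rcases cong_small h3.symm (by rw [CoConf.norm_smul, norm_y0]; norm_num) with e | e
    · exact Or.inl e
    · exact Or.inr e
  · -- the vector of norm 48
    right
    left
    have h1 := hdbl McLG.lu0 a' n' (by
      rw [hw, ha', hn', ← y0_add, add_smul, add_smul, one_smul, one_smul, two, two]
      abel)
    have h2 := key _ h1
    intro g hg'
    have h3 := h2 g hg'
    rcases cong_small h3.symm (by rw [CoConf.norm_smul, norm_u0]; norm_num) with e | e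
    · exact Or.inl e
    · exact Or.inr e

/-- Orbits and stabilisers. -/
theorem card_le_orbit (H : Subgroup Co0) (w : LL) (A : Finset LL) (hA : ∀ g ∈ H, g • w ∈ A) :
    Nat.card H ≤ A.card * Nat.card (stabilizer Co0 w) := by
  haveI := finite_Co0'
  rw [Cfsg.Agent.Lib.OutHat.card_eq_orbit_mul_inf' H w]
  apply Nat.mul_le_mul
  · rw [← Set.ncard_coe_finset]
    apply Set.ncard_le_ncard _ (Finset.finite_toSet A)
    rintro _ ⟨⟨g, hg⟩, rfl⟩
    exact hA g hg
  · exact Nat.card_le_card_of_injective (Subgroup.inclusion inf_le_right) (Subgroup.inclusion_injective _)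

theorem no_u0 (H : Subgroup Co0) (hc : Nat.card H = 84610842624000) :
    ¬ ∀ g ∈ H, g • McLG.lu0 = McLG.lu0 ∨ g • McLG.lu0 = -McLG.lu0 := by
  classical
  intro h
  have h1 := card_le_orbit H McLG.lu0 {McLG.lu0, -McLG.lu0} (by
    intro g hg
    rcases h g hg with e | e <;> simp [e])
  rw [hc, show Nat.card (stabilizer Co0 McLG.lu0) = 495766656000 from card_stb48 _ norm_u0] at h1
  have h2 : ({McLG.lu0, -McLG.lu0} : Finset LL).card ≤ 2 := Finset.card_le_two
  omega

theorem no_e8 (H : Subgroup Co0) (hc : Nat.card H = 84610842624000) :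
    ¬ ∀ g ∈ H, ∃ j, g • e8 none = e8 j ∨ g • e8 none = -e8 j := by
  classical
  intro h
  have h1 := card_le_orbit H (e8 none) ((univ : Finset GolayPt).image e8 ∪ (univ : Finset GolayPt).image (fun j => -e8 j)) (by
    intro g hg
    obtain ⟨j, e | e⟩ := h g hg
    · rw [e]
      exact mem_union_left _ (mem_image_of_mem _ (mem_univ _))
    · rw [e]
      exact mem_union_right _ (mem_image_of_mem (fun j => -e8 j) (mem_univ _)))
  have e2 : Nat.card (stabilizer Co0 (e8 none)) = 20891566080 := Cfsg.Agent.Lib.Co0Order.card_stab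
  have h2 : ((univ : Finset GolayPt).image e8 ∪ (univ : Finset GolayPt).image (fun j => -e8 j)).card ≤ 48 := by
    refine le_trans (Finset.card_union_le _ _) ?_
    have h3 : ((univ : Finset GolayPt).image e8).card ≤ 24 := Finset.card_image_le.trans (by simp [ZMod.card])
    have h4 : ((univ : Finset GolayPt).image (fun j => -e8 j)).card ≤ 24 := Finset.card_image_le.trans (by simp [ZMod.card])
    omega
  have h5 : Nat.card H ≤ 48 * 20891566080 := le_trans h1 (Nat.mul_le_mul h2 e2.le)
  rw [hc] at h5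
  exact absurd h5 (by norm_num)

section main3

variable {H : Subgroup Co0} {P : Finset Om1} (hP : ∀ g ∈ H, ∀ x ∈ P, g • x ∈ P) (htH : tE ∈ H) (huH : uE ∈ H)

include hP htH huH

/-- The alternative. -/
theorem tri : (bet P = 0 ∧ del P = 0 ∧ eps' P = 0) ∨ (∀ g ∈ H, g • ly0 = ly0 ∨ g • ly0 = -ly0) ∨
    (∀ g ∈ H, g • McLG.lu0 = McLG.lu0 ∨ g • McLG.lu0 = -McLG.lu0) ∨
      (∀ g ∈ H, ∃ j, g • e8 none = e8 j ∨ g • e8 none = -e8 j) := by
  by_cases h0 : bet P = 0 ∧ del P = 0 ∧ eps' P = 0
  · exact Or.inl h0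
  right
  have hFs := Ff_sv hP htH huH
  have hsm := fun (g : Co0) (hg : g ∈ H) (c : LL) => sv_smul hP htH huH hg c
  have ss := sv_some hP htH huH
  have sn := sv_none hP htH huH
  have sg0 : sg (e8 (some 0) : GolayPt → ℤ) = 8 := by
    unfold sg
    simp only [e8_apply, Option.some.injEq]
    simp
  have sg1 : sg (e8 none : GolayPt → ℤ) = 0 := by
    unfold sg
    simp only [e8_apply]
    simp
  have n0 : (e8 (some 0) : GolayPt → ℤ) none = 0 := by
    rw [e8_apply]
    simp
  have n1 : (e8 none : GolayPt → ℤ) none = 8 := by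
    rw [e8_apply]
    simp
  let w₁ := sv P (e8 (some 0))
  let w₂ := sv P (e8 none)
  have w1s : ∀ x, (w₁ : GolayPt → ℤ) (some x) = 8 * bet P := by
    intro x
    show (sv P (e8 (some 0)) : GolayPt → ℤ) (some x) = _
    rw [ss, n0, sg0]
    ring
  have w1n : (w₁ : GolayPt → ℤ) none = 8 * del P := by
    show (sv P (e8 (some 0)) : GolayPt → ℤ) none = _
    rw [sn, n0, sg0]
    ring
  have w2s : ∀ x, (w₂ : GolayPt → ℤ) (some x) = 8 * del P := by
    intro x
    show (sv P (e8 none) : GolayPt → ℤ) (some x) = _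
    rw [ss, n1, sg1]
    ring
  have w2n : (w₂ : GolayPt → ℤ) none = 8 * eps' P := by
    show (sv P (e8 none) : GolayPt → ℤ) none = _
    rw [sn, n1, sg1]
    ring
  by_cases hD : bet P * eps' P - del P ^ 2 = 0
  · -- a line
    have hW : ∃ w : LL, w ≠ 0 ∧ Ff (w : GolayPt → ℤ) ∧ ∀ g ∈ H, g • w = w ∨ g • w = -w := by
      by_cases hw1 : w₁ = 0
      · have hw2 : w₂ ≠ 0 := by
          intro hw2
          apply h0
          have a1 := w1s 0
          have a2 := w1n
          have a3 := w2n
          rw [hw1] at a1 a2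
          rw [hw2] at a3
          have a1' : (0 : ℤ) = 8 * bet P := a1
          have a2' : (0 : ℤ) = 8 * del P := a2
          have a3' : (0 : ℤ) = 8 * eps' P := a3
          exact ⟨by omega, by omega, by omega⟩
        refine ⟨w₂, hw2, hFs _, fun g hg => ?_⟩
        have e : g • w₂ = sv P (g • e8 none) := hsm g hg _
        apply two_vec (hFs _) (by rw [e]; exact hFs _) hw2 (CoConf.norm_smul _ _)
        rw [e, ss (g • e8 none), sn (g • e8 none), w2s, w2n]
        linear_combination (8 * sg ((g • e8 none : LL) : GolayPt → ℤ)) * hD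
      · refine ⟨w₁, hw1, hFs _, fun g hg => ?_⟩
        have e : g • w₁ = sv P (g • e8 (some 0)) := hsm g hg _
        apply two_vec (hFs _) (by rw [e]; exact hFs _) hw1 (CoConf.norm_smul _ _)
        rw [e, ss (g • e8 (some 0)), sn (g • e8 (some 0)), w1s, w1n]
        linear_combination (-8 * ((g • e8 (some 0) : LL) : GolayPt → ℤ) none) * hD
    obtain ⟨w, hw0, hwF, hwg⟩ := hW
    obtain ⟨w₀, h1, h2, h3⟩ := descend H _ w rfl hw0 hwF hwg
    exact classify H w₀ h1 h2 h3
  · -- the plane
    left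
    intro g hg
    apply y0_unique _ ((CoConf.norm_smul _ _).trans norm_y0)
    have hid : (8 * (bet P * eps' P - del P ^ 2)) • ly0 = (eps' P + 3 * del P) • w₁ + (-del P - 3 * bet P) • w₂ := by
      apply Subtype.ext
      funext p
      show ((((8 * (bet P * eps' P - del P ^ 2)) • ly0 : LL)) : GolayPt → ℤ) p =
        (((eps' P + 3 * del P) • w₁ : LL) : GolayPt → ℤ) p + (((-del P - 3 * bet P) • w₂ : LL) : GolayPt → ℤ) p
      rw [coe_zsmul, coe_zsmul, coe_zsmul]
      cases p with
      | none =>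
        rw [y0_none, w1n, w2n]
        ring
      | some x =>
        rw [y0_some, w1s, w2s]
        ring
    have h1 := congrArg (fun v => g • v) hid
    simp only [smul_zsmul', smul_add'] at h1
    intro x
    have h8 : 8 * (bet P * eps' P - del P ^ 2) ≠ 0 := by
      intro h
      apply hD
      omega
    have h2 := congrFun (congrArg Subtype.val h1) (some x)
    have h3 := congrFun (congrArg Subtype.val h1) (some 0)
    have hsum : ∀ (a b : LL) (p : GolayPt), ((a + b : LL) : GolayPt → ℤ) p = (a : GolayPt → ℤ) p + (b : GolayPt → ℤ) p := fun _ _ _ => rfl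
    simp only [hsum, coe_zsmul] at h2 h3
    have e1 : g • w₁ = sv P (g • e8 (some 0)) := hsm g hg _
    have e2 : g • w₂ = sv P (g • e8 none) := hsm g hg _
    rw [e1, e2, hFs _ x, hFs (g • e8 none) x] at h2
    rw [e1, e2] at h3
    apply mul_left_cancel₀ h8
    rw [h2, h3]

end main3

/-! ### The design -/

theorem dd1_self {x y : Om1} : dd1 x y = 32 ↔ x = y := by
  constructor
  · intro h
    have h1 : dotInt (rp x : GolayPt → ℤ) (rp y : GolayPt → ℤ) = 32 ∨ dotInt (rp x : GolayPt → ℤ) (rp y : GolayPt → ℤ) = -32 := by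
      unfold dd1 at h
      omega
    apply kx_inj
    rcases h1 with h1 | h1
    · have := eq_of_dot32 (rp x) (rp_norm x) (rp_norm y) h1
      unfold kx
      rw [this]
    · have := eq_of_dotm32 (rp x) (rp_norm x) (rp_norm y) h1
      unfold kx
      rw [this, kap_neg]
  · rintro rfl
    unfold dd1
    rw [dot_self, rp_norm]
    rfl

theorem dd1_symm (x y : Om1) : dd1 x y = dd1 y x := by
  unfold dd1
  rw [dot_comm]

theorem dd1_smul (g : Co0) (x y : Om1) : dd1 (g • x) (g • y) = dd1 x y := by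
  rw [dd1_of_mem (smul_mem_pair g x) (smul_mem_pair g y), dot_smul]
  rfl

theorem dot_tv (P : Finset Om1) (a c : LL) : dotInt (a : GolayPt → ℤ) (tv P c : GolayPt → ℤ) =
    ∑ z ∈ P, dotInt (rp z : GolayPt → ℤ) (c : GolayPt → ℤ) * dotInt (a : GolayPt → ℤ) (rp z : GolayPt → ℤ) := by
  unfold tv
  conv_lhs => unfold dotInt
  simp only [coe_sum, coe_zsmul, Finset.mul_sum]
  rw [Finset.sum_comm]
  apply Finset.sum_congr rfl
  intro z _
  conv_rhs => rw [dotInt.eq_1 (a : GolayPt → ℤ) (rp z : GolayPt → ℤ), Finset.mul_sum]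
  apply Finset.sum_congr rfl
  intro p _
  simp only [dotInt]
  ring

theorem dot_lv0_y0 : dotInt (McLG.lv0 : GolayPt → ℤ) (ly0 : GolayPt → ℤ) = -8 :=
  dot_code (by decide +kernel)

section main4

variable {H : Subgroup Co0} {P : Finset Om1} (hP : ∀ g ∈ H, ∀ x ∈ P, g • x ∈ P) (htH : tE ∈ H) (huH : uE ∈ H)

include hP htH huH

theorem design [DecidableEq Om1] (h0 : bet P = 0 ∧ del P = 0 ∧ eps' P = 0) :
    (∀ x, 3 * ((if x ∈ P then 16 else 0) + 4 * (P.filter (fun z => dd1 x z = 16)).card + (P.filter (fun z => dd1 x z = 8)).card) =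
      2 * P.card) ∧ 6 ∣ P.card := by
  obtain ⟨h1, h2, h3⟩ := h0
  have hsv : ∀ c : LL, sv P c = 0 := by
    intro c
    apply Subtype.ext
    funext p
    cases p with
    | none =>
      rw [sv_none hP htH huH, h2, h3]
      simp
    | some x =>
      rw [sv_some hP htH huH, h1, h2]
      simp
  have htv : ∀ c : LL, tv P c = gam P • c := by
    intro c
    have h4 := hsv c
    unfold sv at h4
    rw [sub_eq_zero, h1, sub_zero] at h4
    exact h4
  have heps : eps P = gam P := by
    unfold eps' at h3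
    rw [h1] at h3
    linarith
  -- the trace
  have htrace : 24 * gam P = 32 * (P.card : ℤ) := by
    have e1 : ∑ p, tau P p p = 32 * (P.card : ℤ) := by
      unfold tau
      rw [Finset.sum_comm]
      have e2 : ∀ z ∈ P, ∑ p, (rp z : GolayPt → ℤ) p * (rp z : GolayPt → ℤ) p = 32 := by
        intro z _
        have := rp_norm z
        unfold sqNorm at this
        rw [← this]
        exact Finset.sum_congr rfl fun p _ => (pow_two _).symm
      rw [Finset.sum_congr rfl e2, Finset.sum_const, nsmul_eq_mul]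
      ring
    rw [Fintype.sum_option] at e1
    have e3 : ∀ y : ZMod 23, tau P (some y) (some y) = gam P := by
      intro y
      rw [tau_ss hP htH huH, if_pos rfl]
      rfl
    rw [Finset.sum_congr rfl (fun y _ => e3 y), Finset.sum_const, Finset.card_univ, ZMod.card] at e1
    have e4 : tau P none none = gam P := heps
    rw [e4] at e1
    rw [← e1]
    simp only [nsmul_eq_mul]
    push_cast
    ring
  have hdot : ∀ a c : LL, dotInt (a : GolayPt → ℤ) (tv P c : GolayPt → ℤ) = gam P * dotInt (a : GolayPt → ℤ) (c : GolayPt → ℤ) := by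
    intro a c
    rw [htv]
    unfold dotInt
    rw [Finset.mul_sum]
    apply Finset.sum_congr rfl
    intro p _
    rw [coe_zsmul]
    ring
  constructor
  · intro x
    have e1 := hdot (rp x) (rp x)
    rw [dot_tv, dot_self, rp_norm] at e1
    have hterm : ∀ z, dotInt (rp z : GolayPt → ℤ) (rp x : GolayPt → ℤ) * dotInt (rp x : GolayPt → ℤ) (rp z : GolayPt → ℤ) =
        (if z = x then 1024 else 0) + (if dd1 x z = 16 then 256 else 0) + (if dd1 x z = 8 then 64 else 0) := by
      intro z
      rw [dot_comm (rp z : GolayPt → ℤ), ← Int.natAbs_mul_self']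
      show ((dd1 x z : ℕ) : ℤ) * ((dd1 x z : ℕ) : ℤ) = _
      by_cases hzx : z = x
      · subst hzx
        have h5 : dd1 z z = 32 := dd1_self.2 rfl
        rw [h5]
        norm_num
      · have h6 : dd1 x z ≠ 32 := fun h => hzx (dd1_self.1 h).symm
        rcases dd1_values x z with h | h | h | h
        · exact absurd h h6
        · rw [h]
          simp [hzx]
        · rw [h]
          simp [hzx]
        · rw [h]
          simp [hzx]
    rw [Finset.sum_congr rfl (fun z _ => hterm z), Finset.sum_add_distrib, Finset.sum_add_distrib, Finset.sum_ite_eq',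
      ← Finset.sum_filter, ← Finset.sum_filter, Finset.sum_const, Finset.sum_const, nsmul_eq_mul, nsmul_eq_mul] at e1
    by_cases hx : x ∈ P
    · simp only [hx, if_true] at e1 ⊢
      omega
    · simp only [hx, if_false] at e1 ⊢
      omega
  · have e1 := hdot McLG.lv0 ly0
    rw [dot_tv, dot_lv0_y0] at e1
    have h64 : (64 : ℤ) ∣ ∑ z ∈ P, dotInt (rp z : GolayPt → ℤ) (ly0 : GolayPt → ℤ) * dotInt (McLG.lv0 : GolayPt → ℤ) (rp z : GolayPt → ℤ) := by
      apply Finset.dvd_sum
      intro z _
      obtain ⟨a, ha⟩ := Cfsg.Agent.Lib.LeechClasses.dot_dvd (rp z).2 ly0.2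
      obtain ⟨b, hb⟩ := Cfsg.Agent.Lib.LeechClasses.dot_dvd McLG.lv0.2 (rp z).2
      rw [ha, hb]
      exact ⟨a * b, by ring⟩
    rw [e1] at h64
    omega

end main4

end Cfsg.Agent.Lib.Co1T
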