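import Mathlib
import Cfsg.Agent.Lib.Co1T
import Cfsg.Agent.Lib.Co1Abs

set_option autoImplicit false
set_option linter.unusedVariables false
set_option linter.unusedSectionVars false
set_option linter.style.haveILetI false
set_option linter.unusedSimpArgs false

/-!
# Fixed points of the elements of orders 23 and 11 on the pairs of short vectors
-/

namespace Cfsg.Agent.Lib.Co1Fix

open Finset MulAction Cfsg Cfsg.Agent.Lib.CoVec Cfsg.Agent.Lib.CoConf Cfsg.Agent.Lib.Co1W Cfsg.Agent.S0398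
  Cfsg.Agent.Lib.Golay Co1G Cfsg.Agent.Lib.Co1T

/-- The fixed point of the element of order 23. -/
noncomputable def x₀ : Om1 := pr ly0 norm_y0

theorem odd_fix {g : Co0} {r : LL} (hr : sqNorm (r : GolayPt → ℤ) = 32) (m : ℕ) (hg : g ^ (2 * m + 1) = 1)
    (h : g • r = r ∨ g • r = -r) : g • r = r := by
  rcases h with h | h
  · exact h
  · exfalso
    have h1 : ∀ k : ℕ, g ^ (2 * k + 1) • r = -r := by
      intro k
      induction k with
      | zero => simpa using h
      | succ k ih =>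
        have e : 2 * (k + 1) + 1 = 2 + (2 * k + 1) := by ring
        rw [e, pow_add, mul_smul, ih, smul_neg', pow_two, mul_smul, h, smul_neg', neg_neg]
        exact h
    have h2 := h1 m
    rw [hg, one_smul] at h2
    exact ne_neg_self hr h2

theorem fixed_rep {g : Co0} {x : Om1} (m : ℕ) (hg : g ^ (2 * m + 1) = 1) (h : g • x = x) : g • rp x = rp x := by
  apply odd_fix (rp_norm x) m hg
  have h1 := smul_mem_pair g x
  rw [h] at h1
  exact mem_rp h1

theorem htfix (y : Om1) (h : tE • y = y) : y = x₀ := by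
  have h1 : tE • rp y = rp y := fixed_rep 11 t23 h
  have h2 : ∀ p, (rp y : GolayPt → ℤ) (fnOf tc p) = (rp y : GolayPt → ℤ) p := by
    intro p
    rw [← perm_apply h_tc]
    exact congrFun (congrArg Subtype.val h1) p
  have h3 : ∀ n : ℕ, (rp y : GolayPt → ℤ) (some (n : ZMod 23)) = (rp y : GolayPt → ℤ) (some 0) := by
    intro n
    induction n with
    | zero => simp
    | succ n ih =>
      have := h2 (some (n : ZMod 23))
      rw [fn_t] at this
      push_cast
      rw [this, ih]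
  have hF : Ff (rp y : GolayPt → ℤ) := by
    intro x
    have := h3 x.val
    rwa [ZMod.natCast_zmod_val] at this
  have h4 := y0_unique hF (rp_norm y)
  apply kx_inj
  have e : kx x₀ = kap ly0 := (kx_of_mem (x := x₀) (Or.inl rfl)).symm
  rw [e]
  unfold kx
  rcases h4 with h4 | h4
  · rw [h4]
  · rw [h4, kap_neg]

/-! ### The element of order 11 -/

theorem sum_zmod23 (f : ZMod 23 → ℤ) : ∑ x, f x = f 0 + f 1 + f 2 + f 3 + f 4 + f 5 + f 6 + f 7 + f 8 + f 9 + f 10 + f 11 + f 12 +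
    f 13 + f 14 + f 15 + f 16 + f 17 + f 18 + f 19 + f 20 + f 21 + f 22 := by
  have h : (univ : Finset (ZMod 23)) = {0, 1, 2, 3, 4, 5, 6, 7, 8, 9, 10, 11, 12, 13, 14, 15, 16, 17, 18, 19, 20, 21, 22} := by decide
  rw [h]
  repeat rw [Finset.sum_insert (by decide)]
  rw [Finset.sum_singleton]
  ring

theorem dot_ufv (a b c d a' b' c' d' : ℤ) : dotInt (ufv a b c d) (ufv a' b' c' d') = a * a' + b * b' + 11 * (c * c') + 11 * (d * d') := by
  unfold dotInt
  rw [Fintype.sum_option, sum_zmod23]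
  have e0 : ∀ A B C D : ℤ, ufv A B C D (some 0) = B := fun _ _ _ _ => rfl
  have e1 : ∀ A B C D : ℤ, ufv A B C D (some 1) = C := fun _ _ _ _ => rfl
  have e2 : ∀ A B C D : ℤ, ufv A B C D (some 2) = C := fun _ _ _ _ => rfl
  have e3 : ∀ A B C D : ℤ, ufv A B C D (some 3) = C := fun _ _ _ _ => rfl
  have e4 : ∀ A B C D : ℤ, ufv A B C D (some 4) = C := fun _ _ _ _ => rfl
  have e5 : ∀ A B C D : ℤ, ufv A B C D (some 5) = D := fun _ _ _ _ => rfl
  have e6 : ∀ A B C D : ℤ, ufv A B C D (some 6) = C := fun _ _ _ _ => rfl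
  have e7 : ∀ A B C D : ℤ, ufv A B C D (some 7) = D := fun _ _ _ _ => rfl
  have e8' : ∀ A B C D : ℤ, ufv A B C D (some 8) = C := fun _ _ _ _ => rfl
  have e9 : ∀ A B C D : ℤ, ufv A B C D (some 9) = C := fun _ _ _ _ => rfl
  have e10 : ∀ A B C D : ℤ, ufv A B C D (some 10) = D := fun _ _ _ _ => rfl
  have e11 : ∀ A B C D : ℤ, ufv A B C D (some 11) = D := fun _ _ _ _ => rfl
  have e12 : ∀ A B C D : ℤ, ufv A B C D (some 12) = C := fun _ _ _ _ => rfl
  have e13 : ∀ A B C D : ℤ, ufv A B C D (some 13) = C := fun _ _ _ _ => rfl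
  have e14 : ∀ A B C D : ℤ, ufv A B C D (some 14) = D := fun _ _ _ _ => rfl
  have e15 : ∀ A B C D : ℤ, ufv A B C D (some 15) = D := fun _ _ _ _ => rfl
  have e16 : ∀ A B C D : ℤ, ufv A B C D (some 16) = C := fun _ _ _ _ => rfl
  have e17 : ∀ A B C D : ℤ, ufv A B C D (some 17) = D := fun _ _ _ _ => rfl
  have e18 : ∀ A B C D : ℤ, ufv A B C D (some 18) = C := fun _ _ _ _ => rfl
  have e19 : ∀ A B C D : ℤ, ufv A B C D (some 19) = D := fun _ _ _ _ => rfl
  have e20 : ∀ A B C D : ℤ, ufv A B C D (some 20) = D := fun _ _ _ _ => rfl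
  have e21 : ∀ A B C D : ℤ, ufv A B C D (some 21) = D := fun _ _ _ _ => rfl
  have e22 : ∀ A B C D : ℤ, ufv A B C D (some 22) = D := fun _ _ _ _ => rfl
  have en : ∀ A B C D : ℤ, ufv A B C D none = A := fun _ _ _ _ => rfl
  simp only [e0, e1, e2, e3, e4, e5, e6, e7, e8', e9, e10, e11, e12, e13, e14, e15, e16, e17, e18, e19, e20, e21, e22, en]
  ring

theorem uf_cases : ∀ a ∈ Finset.Icc (-5 : ℤ) 5, ∀ b ∈ Finset.Icc (-5 : ℤ) 5, ∀ c ∈ Finset.Icc (-1 : ℤ) 1, ∀ d ∈ Finset.Icc (-1 : ℤ) 1,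
    a * a + b * b + 11 * (c * c) + 11 * (d * d) = 32 →
    (8 : ℤ) ∣ a * 4 + b * 4 → (8 : ℤ) ∣ a * (-4) + b * 4 →
    (8 : ℤ) ∣ a * 1 + b * 3 + 11 * (c * (-1)) + 11 * (d * 1) →
    (8 : ℤ) ∣ a * (-1) + b * 3 + 11 * (c * (-1)) + 11 * (d * (-1)) →
    (8 : ℤ) ∣ a * (-3) + b * 1 + 11 * (c * 1) + 11 * (d * 1) →
    (8 : ℤ) ∣ a * 3 + b * 1 + 11 * (c * 1) + 11 * (d * (-1)) →
    (a, b, c, d) ∈ ([(4, 4, 0, 0), (-4, -4, 0, 0), (-4, 4, 0, 0), (4, -4, 0, 0), (1, 3, -1, 1), (-1, -3, 1, -1),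
      (-1, 3, -1, -1), (1, -3, 1, 1), (-3, 1, 1, 1), (3, -1, -1, -1), (3, 1, 1, -1), (-3, -1, -1, 1)] : List (ℤ × ℤ × ℤ × ℤ)) := by
  decide +kernel

/-- The vectors fixed by the element of order 11 are constant on the orbits. -/
theorem eq_ufv {r : LL} (h : uE • r = r) : (r : GolayPt → ℤ) =
    ufv ((r : GolayPt → ℤ) none) ((r : GolayPt → ℤ) (some 0)) ((r : GolayPt → ℤ) (some 1)) ((r : GolayPt → ℤ) (some 5)) := by
  have h2 : ∀ p, (r : GolayPt → ℤ) (fnOf uc p) = (r : GolayPt → ℤ) p := by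
    intro p
    rw [← perm_apply h_uc]
    exact congrFun (congrArg Subtype.val h) p
  have h3 : ∀ (k : ℕ) (x : ZMod 23), (r : GolayPt → ℤ) (some (2 ^ k * x)) = (r : GolayPt → ℤ) (some x) := by
    intro k x
    induction k with
    | zero => simp
    | succ k ih =>
      have := h2 (some (2 ^ k * x))
      rw [fn_u] at this
      rw [pow_succ', mul_assoc, this, ih]
  have h4 : ∀ x : ZMod 23, x ≠ 0 → qrB x = true → ∃ k ∈ Finset.range 11, x = 2 ^ k * 1 := by decide
  have h5 : ∀ x : ZMod 23, x ≠ 0 → qrB x ≠ true → ∃ k ∈ Finset.range 11, x = 2 ^ k * 5 := by decide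
  funext p
  cases p with
  | none => rfl
  | some x =>
    show _ = if x = 0 then _ else if qrB x = true then _ else _
    split_ifs with h0 h1
    · rw [h0]
    · obtain ⟨k, -, hk⟩ := h4 x h0 h1
      rw [hk, h3]
    · obtain ⟨k, -, hk⟩ := h5 x h0 h1
      rw [hk, h3]

/-- The pairs of the fixed vectors. -/
theorem norm_lv0' : sqNorm (McLG.lv0 : GolayPt → ℤ) = 32 := norm_v0

theorem hf2 : sqNorm (lf2 : GolayPt → ℤ) = 32 := norm_code (by decide +kernel)
theorem hf3 : sqNorm (lf3 : GolayPt → ℤ) = 32 := norm_code (by decide +kernel)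
theorem hf4 : sqNorm (lf4 : GolayPt → ℤ) = 32 := norm_code (by decide +kernel)
theorem hf6 : sqNorm (lf6 : GolayPt → ℤ) = 32 := norm_code (by decide +kernel)

noncomputable def y₁ : Om1 := pr McLG.lv0 norm_v0
noncomputable def F2 : Om1 := pr lf2 hf2
noncomputable def F3 : Om1 := pr lf3 hf3
noncomputable def F4 : Om1 := pr lf4 hf4
noncomputable def F6 : Om1 := pr lf6 hf6

theorem kx_pr (l : LL) (hl : sqNorm (l : GolayPt → ℤ) = 32) : kx (pr l hl) = kap l :=
  (kx_of_mem (x := pr l hl) (Or.inl rfl)).symm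

/-- The fixed points of the element of order 11. -/
theorem ufix (x : Om1) (h : uE • x = x) : x = y₁ ∨ x = F2 ∨ x = F3 ∨ x = F4 ∨ x = x₀ ∨ x = F6 := by
  have h1 : uE • rp x = rp x := fixed_rep 5 u11 h
  have hr := eq_ufv h1
  set r := rp x with hrdef
  set a := (r : GolayPt → ℤ) none with ha
  set b := (r : GolayPt → ℤ) (some 0) with hb
  set c := (r : GolayPt → ℤ) (some 1) with hc
  set d := (r : GolayPt → ℤ) (some 5) with hd
  have hn : a * a + b * b + 11 * (c * c) + 11 * (d * d) = 32 := by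
    have h2 := rp_norm x
    rw [← hrdef, ← dot_self, hr, dot_ufv] at h2
    exact h2
  have test : ∀ (l : LL) (A B C D : ℤ), (l : GolayPt → ℤ) = ufv A B C D → (8 : ℤ) ∣ a * A + b * B + 11 * (c * C) + 11 * (d * D) := by
    intro l A B C D hl
    have := Cfsg.Agent.Lib.LeechClasses.dot_dvd r.2 l.2
    rw [hr, hl, dot_ufv] at this
    exact this
  have t1 := test McLG.lv0 _ _ _ _ v0_eq
  have t2 := test lf2 _ _ _ _ f2_eq
  have t3 := test lf3 _ _ _ _ f3_eq
  have t4 := test lf4 _ _ _ _ f4_eq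
  have t5 := test ly0 _ _ _ _ y0_eq
  have t6 := test lf6 _ _ _ _ f6_eq
  have ba : -5 ≤ a ∧ a ≤ 5 := by
    constructor <;> nlinarith [mul_self_nonneg b, mul_self_nonneg c, mul_self_nonneg d, mul_self_nonneg a]
  have bb : -5 ≤ b ∧ b ≤ 5 := by
    constructor <;> nlinarith [mul_self_nonneg b, mul_self_nonneg c, mul_self_nonneg d, mul_self_nonneg a]
  have bc : -1 ≤ c ∧ c ≤ 1 := by
    constructor <;> nlinarith [mul_self_nonneg b, mul_self_nonneg c, mul_self_nonneg d, mul_self_nonneg a]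
  have bd : -1 ≤ d ∧ d ≤ 1 := by
    constructor <;> nlinarith [mul_self_nonneg b, mul_self_nonneg c, mul_self_nonneg d, mul_self_nonneg a]
  have key := uf_cases a (Finset.mem_Icc.2 ba) b (Finset.mem_Icc.2 bb) c (Finset.mem_Icc.2 bc) d (Finset.mem_Icc.2 bd) hn
    (by simpa using t1) (by simpa using t2) (by simpa using t3) (by simpa using t4) (by simpa using t5) (by simpa using t6)
  -- the conclusion for one vector
  have pos : ∀ (l : LL) (hl : sqNorm (l : GolayPt → ℤ) = 32) (A B C D : ℤ), (l : GolayPt → ℤ) = ufv A B C D → a = A → b = B → c = C → d = D →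
      x = pr l hl := by
    intro l hl A B C D e1 e2 e3 e4 e5
    apply kx_inj
    rw [kx_pr]
    have : r = l := by
      apply Subtype.ext
      rw [hr, e1, e2, e3, e4, e5]
    show kap r = _
    rw [this]
  have neg : ∀ (l : LL) (hl : sqNorm (l : GolayPt → ℤ) = 32) (A B C D : ℤ), (l : GolayPt → ℤ) = ufv A B C D → a = -A → b = -B → c = -C → d = -D →
      x = pr l hl := by
    intro l hl A B C D e1 e2 e3 e4 e5
    apply kx_inj
    rw [kx_pr]
    have : r = -l := by
      apply Subtype.ext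
      rw [hr, e2, e3, e4, e5]
      show _ = -(l : GolayPt → ℤ)
      rw [e1]
      funext p
      cases p with
      | none => rfl
      | some x =>
        show (if x = 0 then -B else if qrB x = true then -C else -D) = -(if x = 0 then B else if qrB x = true then C else D)
        split_ifs <;> rfl
    show kap r = _
    rw [this, kap_neg]
  simp only [List.mem_cons, List.not_mem_nil, or_false, Prod.mk.injEq] at key
  rcases key with ⟨e1, e2, e3, e4⟩ | ⟨e1, e2, e3, e4⟩ | ⟨e1, e2, e3, e4⟩ | ⟨e1, e2, e3, e4⟩ | ⟨e1, e2, e3, e4⟩ | ⟨e1, e2, e3, e4⟩ |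
    ⟨e1, e2, e3, e4⟩ | ⟨e1, e2, e3, e4⟩ | ⟨e1, e2, e3, e4⟩ | ⟨e1, e2, e3, e4⟩ | ⟨e1, e2, e3, e4⟩ | ⟨e1, e2, e3, e4⟩
  · exact Or.inl (pos _ norm_v0 _ _ _ _ v0_eq e1 e2 e3 e4)
  · exact Or.inl (neg _ norm_v0 _ _ _ _ v0_eq (by simpa using e1) (by simpa using e2) (by simpa using e3) (by simpa using e4))
  · exact Or.inr (Or.inl (pos _ hf2 _ _ _ _ f2_eq e1 e2 e3 e4))
  · exact Or.inr (Or.inl (neg _ hf2 _ _ _ _ f2_eq (by simpa using e1) (by simpa using e2) (by simpa using e3) (by simpa using e4)))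
  · exact Or.inr (Or.inr (Or.inl (pos _ hf3 _ _ _ _ f3_eq e1 e2 e3 e4)))
  · exact Or.inr (Or.inr (Or.inl (neg _ hf3 _ _ _ _ f3_eq (by simpa using e1) (by simpa using e2) (by simpa using e3) (by simpa using e4))))
  · exact Or.inr (Or.inr (Or.inr (Or.inl (pos _ hf4 _ _ _ _ f4_eq e1 e2 e3 e4))))
  · exact Or.inr (Or.inr (Or.inr (Or.inl (neg _ hf4 _ _ _ _ f4_eq (by simpa using e1) (by simpa using e2) (by simpa using e3) (by simpa using e4)))))
  · exact Or.inr (Or.inr (Or.inr (Or.inr (Or.inl (pos _ norm_y0 _ _ _ _ y0_eq e1 e2 e3 e4)))))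
  · exact Or.inr (Or.inr (Or.inr (Or.inr (Or.inl (neg _ norm_y0 _ _ _ _ y0_eq (by simpa using e1) (by simpa using e2) (by simpa using e3) (by simpa using e4))))))
  · exact Or.inr (Or.inr (Or.inr (Or.inr (Or.inr (pos _ hf6 _ _ _ _ f6_eq e1 e2 e3 e4)))))
  · exact Or.inr (Or.inr (Or.inr (Or.inr (Or.inr (neg _ hf6 _ _ _ _ f6_eq (by simpa using e1) (by simpa using e2) (by simpa using e3) (by simpa using e4))))))

/-! ### The relations of the fixed points to the point of the element of order 23 -/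

theorem dd_y1 : dd1 x₀ y₁ = 8 := by
  unfold x₀ y₁
  rw [dd1_pr, dot_comm, dot_lv0_y0]
  rfl

theorem dd_F2 : dd1 x₀ F2 = 16 := by
  unfold x₀ F2
  rw [dd1_pr, show dotInt (ly0 : GolayPt → ℤ) (lf2 : GolayPt → ℤ) = 16 from dot_code (by decide +kernel)]
  rfl

theorem dd_F3 : dd1 x₀ F3 = 0 := by
  unfold x₀ F3
  rw [dd1_pr, show dotInt (ly0 : GolayPt → ℤ) (lf3 : GolayPt → ℤ) = 0 from dot_code (by decide +kernel)]
  rfl

theorem dd_F4 : dd1 x₀ F4 = 16 := by
  unfold x₀ F4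
  rw [dd1_pr, show dotInt (ly0 : GolayPt → ℤ) (lf4 : GolayPt → ℤ) = -16 from dot_code (by decide +kernel)]
  rfl

theorem dd_F6 : dd1 x₀ F6 = 8 := by
  unfold x₀ F6
  rw [dd1_pr, show dotInt (ly0 : GolayPt → ℤ) (lf6 : GolayPt → ℤ) = -8 from dot_code (by decide +kernel)]
  rfl

theorem dd_x0 : dd1 x₀ x₀ = 32 := dd1_self.2 rfl

variable [DecidableEq Om1] [Fintype Om1]

theorem hfix0 : (univ.filter (fun y : Om1 => uE • y = y)).card ≤ 6 := by
  have h : univ.filter (fun y : Om1 => uE • y = y) ⊆ {y₁, F2, F3, F4, x₀, F6} := by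
    intro y hy
    have := ufix y (mem_filter.1 hy).2
    simpa using this
  exact le_trans (card_le_card h) Finset.card_le_six

theorem hfix1 : (univ.filter (fun y : Om1 => uE • y = y ∧ dd1 x₀ y = 16)).card ≤ 2 := by
  have h : univ.filter (fun y : Om1 => uE • y = y ∧ dd1 x₀ y = 16) ⊆ {F2, F4} := by
    intro y hy
    obtain ⟨h1, h2⟩ := (mem_filter.1 hy).2
    rcases ufix y h1 with rfl | rfl | rfl | rfl | rfl | rfl
    · rw [dd_y1] at h2
      omega
    · simp
    · rw [dd_F3] at h2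
      omega
    · simp
    · rw [dd_x0] at h2
      omega
    · rw [dd_F6] at h2
      omega
  exact le_trans (card_le_card h) Finset.card_le_two

theorem hfix2 : (univ.filter (fun y : Om1 => uE • y = y ∧ dd1 x₀ y = 8)).card ≤ 2 := by
  have h : univ.filter (fun y : Om1 => uE • y = y ∧ dd1 x₀ y = 8) ⊆ {y₁, F6} := by
    intro y hy
    obtain ⟨h1, h2⟩ := (mem_filter.1 hy).2
    rcases ufix y h1 with rfl | rfl | rfl | rfl | rfl | rfl
    · simp
    · rw [dd_F2] at h2
      omega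
    · rw [dd_F3] at h2
      omega
    · rw [dd_F4] at h2
      omega
    · rw [dd_x0] at h2
      omega
    · simp
  exact le_trans (card_le_card h) Finset.card_le_two

theorem hfix3 : (univ.filter (fun y : Om1 => uE • y = y ∧ dd1 x₀ y = 0)).card ≤ 1 := by
  have h : univ.filter (fun y : Om1 => uE • y = y ∧ dd1 x₀ y = 0) ⊆ {F3} := by
    intro y hy
    obtain ⟨h1, h2⟩ := (mem_filter.1 hy).2
    rcases ufix y h1 with rfl | rfl | rfl | rfl | rfl | rfl
    · rw [dd_y1] at h2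
      omega
    · rw [dd_F2] at h2
      omega
    · simp
    · rw [dd_F4] at h2
      omega
    · rw [dd_x0] at h2
      omega
    · rw [dd_F6] at h2
      omega
  simpa using card_le_card h

end Cfsg.Agent.Lib.Co1Fix
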