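import Mathlib
import Cfsg.Agent.Lib.Co1Fix

set_option autoImplicit false
set_option linter.unusedVariables false
set_option linter.unusedSectionVars false
set_option linter.style.haveILetI false
set_option linter.unusedSimpArgs false
set_option linter.constructorNameAsVariable false

/-!
# The numbers of paths of length two between pairs of short vectors

The pairs at absolute inner product 16 from a fixed pair are listed by the 2300 codes; counting along this list gives the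
numbers of paths of length two; transitivity on pairs of pairs gives the general case.
-/

namespace Cfsg.Agent.Lib.Co1Path

open Finset MulAction Cfsg Cfsg.Agent.Lib.CoVec Cfsg.Agent.Lib.CoConf Cfsg.Agent.Lib.Co1W Cfsg.Agent.S0398
  Cfsg.Agent.Lib.Golay Co1G Cfsg.Agent.Lib.Co1T Cfsg.Agent.Lib.Co1Fix Cfsg.Agent.Lib.OutCo2 Cfsg.Agent.Lib.Co1Abs Co2YG

/-- The list of the pairs at inner product 16. -/
noncomputable def en1 (p : Fin 2300 × Bool) : Om1 := pr (lv2 p).1 (mem_A.1 (lv2 p).2).1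

theorem dd_en1 (p : Fin 2300 × Bool) : dd1 y₁ (en1 p) = 16 := by
  unfold y₁ en1
  rw [dd1_pr]
  have := (mem_A.1 (lv2 p).2).2
  rw [show dotInt (McLG.lv0 : GolayPt → ℤ) ((lv2 p).1 : GolayPt → ℤ) = 16 from this]
  rfl

theorem en1_inj : Function.Injective en1 := by
  intro p q e
  have h : kx (en1 p) = kx (en1 q) := by rw [e]
  unfold en1 at h
  rw [kx_pr, kx_pr] at h
  have h2 := cong_small h (by rw [(mem_A.1 (lv2 p).2).1, (mem_A.1 (lv2 q).2).1]; norm_num)
  rcases h2 with h2 | h2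
  · exact lv2_inj (Subtype.ext h2.symm)
  · exfalso
    have a := (mem_A.1 (lv2 p).2).2
    have b := (mem_A.1 (lv2 q).2).2
    rw [h2] at b
    have c : dotInt (McLG.lv0 : GolayPt → ℤ) (-((lv2 p).1 : GolayPt → ℤ)) = 16 := b
    rw [dot_neg_right] at c
    have a' : dotInt (McLG.lv0 : GolayPt → ℤ) ((lv2 p).1 : GolayPt → ℤ) = 16 := a
    omega

theorem en1_surj {z : Om1} (h : dd1 y₁ z = 16) : ∃ p, en1 p = z := by
  have h1 : ∃ x ∈ z.1, dotInt (McLG.lv0 : GolayPt → ℤ) (x : GolayPt → ℤ) = 16 := by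
    have e := dd1_of_mem (x := y₁) (Or.inl rfl) (rp_mem z)
    rw [h] at e
    have e' : dotInt (McLG.lv0 : GolayPt → ℤ) (rp z : GolayPt → ℤ) = 16 ∨ dotInt (McLG.lv0 : GolayPt → ℤ) (rp z : GolayPt → ℤ) = -16 := by
      omega
    rcases e' with e' | e'
    · exact ⟨rp z, rp_mem z, e'⟩
    · refine ⟨-rp z, by rw [rp_val]; exact Or.inr rfl, ?_⟩
      show dotInt (McLG.lv0 : GolayPt → ℤ) (-(rp z : GolayPt → ℤ)) = 16
      rw [dot_neg_right, e']
      norm_num
  obtain ⟨x, hx, hd⟩ := h1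
  obtain ⟨p, hp⟩ := lv2_bij.2 ⟨x, mem_A.2 ⟨rep_norm McLG.lv0 norm_v0 hx, hd⟩⟩
  refine ⟨p, ?_⟩
  apply kx_inj
  unfold en1
  rw [kx_pr, hp]
  exact kx_of_mem hx

variable [DecidableEq Om1] [Fintype Om1]

theorem count_eq (Q : Om1 → Prop) [DecidablePred Q] :
    (univ.filter (fun z => dd1 y₁ z = 16 ∧ Q z)).card = (univ.filter (fun p : Fin 2300 × Bool => Q (en1 p))).card := by
  symm
  apply Finset.card_bij (fun p _ => en1 p)
  · intro p hp
    simp only [mem_filter, mem_univ, true_and] at hp ⊢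
    exact ⟨dd_en1 p, hp⟩
  · intro p _ q _ e
    exact en1_inj e
  · intro z hz
    simp only [mem_filter, mem_univ, true_and] at hz
    obtain ⟨p, hp⟩ := en1_surj hz.1
    exact ⟨p, by simp only [mem_filter, mem_univ, true_and]; rw [hp]; exact hz.2, hp⟩

/-- A test for the absolute difference of two numbers. -/
def ab16 (x y : ℕ) : ℕ := cond (or (Nat.beq x (y + 16)) (Nat.beq y (x + 16))) 1 0

theorem beq_false {a b : ℕ} (h : a ≠ b) : Nat.beq a b = false := by
  cases h' : Nat.beq a b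
  · rfl
  · exact absurd (Nat.eq_of_beq_eq_true h') h

theorem ab16_spec (x y : ℕ) : (if ((x : ℤ) - (y : ℤ)).natAbs = 16 then 1 else 0) = ab16 x y := by
  unfold ab16
  by_cases h : ((x : ℤ) - (y : ℤ)).natAbs = 16
  · rw [if_pos h]
    have h1 : x = y + 16 ∨ y = x + 16 := by omega
    have h2 : or (Nat.beq x (y + 16)) (Nat.beq y (x + 16)) = true := by
      rw [Bool.or_eq_true]
      rcases h1 with h1 | h1
      · left
        rw [h1]
        exact Nat.beq_refl _
      · right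
        rw [h1]
        exact Nat.beq_refl _
    rw [h2]
    rfl
  · rw [if_neg h]
    have h2 : or (Nat.beq x (y + 16)) (Nat.beq y (x + 16)) = false := by
      rw [Bool.or_eq_false_iff]
      constructor
      · apply beq_false
        omega
      · apply beq_false
        omega
    rw [h2]
    rfl

/-- The count for one vector of the list. -/
def hc (wc Dp Dn i : ℕ) : ℕ :=
  ab16 (Nat.add Dp (dotB (codeAt i) wc)) (Nat.add Dn (dotA (codeAt i) wc)) + ab16 (dotA (codeAt i) wc) (dotB (codeAt i) wc)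

/-- A sum by recursion. -/
noncomputable def sumR (f : ℕ → ℕ) (n : ℕ) : ℕ := Nat.rec 0 (fun i r => f i + r) n

theorem sumR_eq (f : ℕ → ℕ) (n : ℕ) : ∑ i ∈ Finset.range n, f i = sumR f n := by
  induction n with
  | zero => rfl
  | succ n ih =>
    rw [Finset.sum_range_succ, ih, add_comm]
    rfl

theorem lv2_t (i : Fin 2300) : (((lv2 (i, true)).1 : LL) : GolayPt → ℤ) = (McLG.lv0 : GolayPt → ℤ) - dec (codeAt i.1) := by
  have e : lv2 (i, true) = ι (lv i) := by
    unfold lv2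
    exact if_pos rfl
  rw [e]
  rfl

theorem lv2_f (i : Fin 2300) : (((lv2 (i, false)).1 : LL) : GolayPt → ℤ) = dec (codeAt i.1) := by
  have e : lv2 (i, false) = lv i := by
    unfold lv2
    exact if_neg (by simp)
  rw [e]
  rfl

theorem term_t (wc : ℕ) (hw : St wc) (hn : sqNorm (dec wc) = 32) (Dp Dn : ℕ)
    (hD : dotInt (McLG.lv0 : GolayPt → ℤ) (dec wc) = (Dp : ℤ) - (Dn : ℤ)) (i : Fin 2300) :
    dd1 (en1 (i, true)) (pr ⟨dec wc, hw.2.1⟩ hn) = (((Nat.add Dp (dotB (codeAt i.1) wc) : ℕ) : ℤ) - ((Nat.add Dn (dotA (codeAt i.1) wc) : ℕ) : ℤ)).natAbs := by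
  unfold en1
  rw [dd1_pr, lv2_t]
  show (dotInt ((McLG.lv0 : GolayPt → ℤ) - dec (codeAt i.1)) (dec wc)).natAbs = _
  rw [dot_sub_left, hD, dotInt_dec]
  generalize dotA (codeAt i.1) wc = A
  generalize dotB (codeAt i.1) wc = B
  have e : (Dp : ℤ) - (Dn : ℤ) - ((A : ℤ) - (B : ℤ)) = ((Nat.add Dp B : ℕ) : ℤ) - ((Nat.add Dn A : ℕ) : ℤ) := by
    show _ = ((Dp + B : ℕ) : ℤ) - ((Dn + A : ℕ) : ℤ)
    push_cast
    ring
  rw [e]

theorem term_f (wc : ℕ) (hw : St wc) (hn : sqNorm (dec wc) = 32) (i : Fin 2300) :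
    dd1 (en1 (i, false)) (pr ⟨dec wc, hw.2.1⟩ hn) = (((dotA (codeAt i.1) wc : ℕ) : ℤ) - ((dotB (codeAt i.1) wc : ℕ) : ℤ)).natAbs := by
  unfold en1
  rw [dd1_pr, lv2_f]
  show (dotInt (dec (codeAt i.1)) (dec wc)).natAbs = _
  rw [dotInt_dec]

theorem count_list (wc : ℕ) (hw : St wc) (hn : sqNorm (dec wc) = 32) (Dp Dn : ℕ)
    (hD : dotInt (McLG.lv0 : GolayPt → ℤ) (dec wc) = (Dp : ℤ) - (Dn : ℤ)) :
    (univ.filter (fun z => dd1 y₁ z = 16 ∧ dd1 z (pr ⟨dec wc, hw.2.1⟩ hn) = 16)).card = sumR (hc wc Dp Dn) 2300 := by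
  rw [count_eq, Finset.card_filter, Fintype.sum_prod_type, ← sumR_eq, ← Fin.sum_univ_eq_sum_range]
  apply Finset.sum_congr rfl
  intro i _
  rw [Fintype.sum_bool, term_t wc hw hn Dp Dn hD i, term_f wc hw hn i, ab16_spec, ab16_spec]
  rfl

/-- The three vectors. -/
theorem hw16n : sqNorm (dec p0c) = 32 := hp0.2.1

set_option maxRecDepth 100000 in
theorem cnt16 : sumR (hc p0c 16 0) 2300 = 892 := by decide +kernel

set_option maxRecDepth 100000 in
theorem cnt8 : sumR (hc y0c 0 8) 2300 = 275 := by decide +kernel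

set_option maxRecDepth 100000 in
theorem cnt0 : sumR (hc f2c 0 0) 2300 = 88 := by decide +kernel

theorem fab_eq (v : LL) (hv : sqNorm (v : GolayPt → ℤ) = 32) (s : Om1) : fab v s = dd1 (pr v hv) s := by
  rw [dd1_of_mem (x := pr v hv) (Or.inl rfl) (rp_mem s)]
  rfl

theorem pr_congr {a b : LL} (ha : sqNorm (a : GolayPt → ℤ) = 32) (hb : sqNorm (b : GolayPt → ℤ) = 32) (e : a = b) : pr a ha = pr b hb := by
  subst e
  rfl

theorem count_smul (g : Co0) (x w : Om1) : (univ.filter (fun z => dd1 x z = 16 ∧ dd1 z w = 16)).card =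
    (univ.filter (fun z => dd1 (g • x) z = 16 ∧ dd1 z (g • w) = 16)).card := by
  apply Finset.card_equiv (MulAction.toPerm g)
  intro z
  simp only [mem_filter, mem_univ, true_and, MulAction.toPerm_apply, dd1_smul]

/-- The pair of the first vector of the list. -/
noncomputable def W16 : Om1 := pr ⟨dec p0c, hp0.1.2.1⟩ hw16n

theorem dd_W16 : dd1 y₁ W16 = 16 := by
  unfold y₁ W16
  rw [dd1_pr]
  have : dotInt (McLG.lv0 : GolayPt → ℤ) (dec p0c) = 16 := hp0.2.2
  show (dotInt (McLG.lv0 : GolayPt → ℤ) (dec p0c)).natAbs = 16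
  rw [this]
  rfl

theorem dd_y1_x0 : dd1 y₁ x₀ = 8 := by
  rw [dd1_symm]
  exact dd_y1

theorem dd_y1_F2 : dd1 y₁ F2 = 0 := by
  unfold y₁ F2
  rw [dd1_pr, show dotInt (McLG.lv0 : GolayPt → ℤ) (lf2 : GolayPt → ℤ) = 0 from dot_code (by decide +kernel)]
  rfl

theorem smul_y1 {h : Co0} (h1 : h • McLG.lv0 = McLG.lv0) : h • y₁ = y₁ := by
  unfold y₁
  rw [smul_pr]
  exact pr_congr _ _ h1

theorem path_all (x w : Om1) : (univ.filter (fun z => dd1 x z = 16 ∧ dd1 z w = 16)).card = pp (dd1 x w) := by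
  obtain ⟨g₁, hg₁⟩ := Cfsg.Agent.Lib.Co0Trans.trans32 (rp x) McLG.lv0 (rp_norm x) norm_v0
  have hx : g₁ • x = y₁ := by
    conv_lhs => rw [← pr_rp x]
    rw [smul_pr]
    exact pr_congr _ _ hg₁
  have hd : dd1 y₁ (g₁ • w) = dd1 x w := by
    rw [← hx, dd1_smul]
  rw [count_smul g₁ x w, hx, ← hd]
  generalize g₁ • w = w'
  have hmove : ∀ (d : ℕ) (hd' : d = 16 ∨ d = 8 ∨ d = 0) (W : Om1), dd1 y₁ w' = d → dd1 y₁ W = d →
      (univ.filter (fun z => dd1 y₁ z = 16 ∧ dd1 z w' = 16)).card = (univ.filter (fun z => dd1 y₁ z = 16 ∧ dd1 z W = 16)).card := by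
    intro d hd' W h1 h2
    obtain ⟨h, h3, h4⟩ := move_pair McLG.lv0 norm_v0 d hd' w' W (by rw [fab_eq McLG.lv0 norm_v0]; exact h1) (by rw [fab_eq McLG.lv0 norm_v0]; exact h2)
    rw [count_smul h y₁ w', smul_y1 h3, h4]
  rcases dd1_values y₁ w' with h | h | h | h
  · have e : y₁ = w' := dd1_self.1 h
    subst e
    rw [h]
    have h2 : (univ.filter (fun z => dd1 y₁ z = 16 ∧ dd1 z y₁ = 16)).card = (univ.filter (fun p : Fin 2300 × Bool => dd1 (en1 p) y₁ = 16)).card := count_eq _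
    rw [h2]
    have h3 : univ.filter (fun p : Fin 2300 × Bool => dd1 (en1 p) y₁ = 16) = univ := by
      apply Finset.filter_true_of_mem
      intro p _
      rw [dd1_symm]
      exact dd_en1 p
    rw [h3]
    simp [pp]
  · rw [h, hmove 16 (Or.inl rfl) W16 h dd_W16]
    have := count_list p0c hp0.1 hw16n 16 0 (by
      have e : dotInt (McLG.lv0 : GolayPt → ℤ) (dec p0c) = 16 := hp0.2.2
      rw [e]
      norm_num)
    unfold W16
    rw [this, cnt16]
    rfl
  · rw [h, hmove 8 (Or.inr (Or.inl rfl)) x₀ h dd_y1_x0]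
    have := count_list y0c St_y0 norm_y0 0 8 (by
      have e : dotInt (McLG.lv0 : GolayPt → ℤ) (dec y0c) = -8 := dot_lv0_y0
      rw [e]
      norm_num)
    rw [show x₀ = pr ⟨dec y0c, St_y0.2.1⟩ norm_y0 from rfl, this, cnt8]
    rfl
  · rw [h, hmove 0 (Or.inr (Or.inr rfl)) F2 h dd_y1_F2]
    have := count_list f2c St_f2 hf2 0 0 (by
      have e : dotInt (McLG.lv0 : GolayPt → ℤ) (dec f2c) = 0 := by
        show dotInt (McLG.lv0 : GolayPt → ℤ) (lf2 : GolayPt → ℤ) = 0
        exact dot_code (by decide +kernel)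
      rw [e]
      norm_num)
    rw [show F2 = pr ⟨dec f2c, St_f2.2.1⟩ hf2 from rfl, this, cnt0]
    rfl

/-- The scheme on the pairs. -/
theorem sch1 : Sch1 Gq dd1 where
  card := by
    rw [← Nat.card_eq_fintype_card]
    exact card_Om1
  symm := dd1_symm
  smul := by
    intro g x y
    obtain ⟨g, rfl⟩ := QuotientGroup.mk_surjective g
    exact dd1_smul g x y
  self := fun x y => dd1_self
  vals := dd1_values
  path := path_all

end Cfsg.Agent.Lib.Co1Path
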