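import Mathlib
import Cfsg.Agent.Lib.Co1Path

set_option autoImplicit false
set_option linter.unusedVariables false
set_option linter.unusedSectionVars false
set_option linter.style.haveILetI false
set_option linter.unusedSimpArgs false
set_option linter.constructorNameAsVariable false

/-!
# Images of the stabilisers of pairs of short vectors under automorphisms

Every automorphism of the group modulo its centre maps the stabiliser of a pair of opposite short vectors to the stabiliser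
of such a pair.
-/

namespace Cfsg.Agent.Lib.Co1Stage

open Finset MulAction Cfsg Cfsg.Agent.Lib.CoVec Cfsg.Agent.Lib.CoConf Cfsg.Agent.Lib.Co1W Cfsg.Agent.S0398
  Cfsg.Agent.Lib.Golay Co1G Cfsg.Agent.Lib.Co1T Cfsg.Agent.Lib.Co1Fix Cfsg.Agent.Lib.OutCo2Abs Cfsg.Agent.Lib.Co1Abs
  Cfsg.Agent.Lib.Co1Path Cfsg.Agent.Lib.OrbitBound

noncomputable instance instFt : Fintype Om1 := Fintype.ofFinite _

noncomputable instance instDec : DecidableEq Om1 := Classical.decEq _

theorem card_stab_Gq (x : Om1) : Nat.card (stabilizer Gq x) = 42305421312000 := by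
  have h := Subgroup.card_mul_index (stabilizer Gq x)
  rw [index_stabilizer, orbit_eq_univ, Set.ncard_univ, card_Om1, card_Gq] at h
  omega

/-- The elements. -/
noncomputable def tq : Gq := (tE : Gq)
noncomputable def uq : Gq := (uE : Gq)
noncomputable def aq : Gq := (e0 : Gq)
noncomputable def bq : Gq := (e1 : Gq)
noncomputable def zq : Gq := (zE : Gq)

theorem tq_pow : tq ^ 23 = 1 := by
  unfold tq
  rw [← QuotientGroup.mk_pow, t23]
  rfl

theorem uq_pow : uq ^ 11 = 1 := by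
  unfold uq
  rw [← QuotientGroup.mk_pow, u11]
  rfl

theorem smul_x0 {h : Co0} (h1 : h • ly0 = ly0) : h • x₀ = x₀ := by
  unfold x₀
  rw [smul_pr]
  exact pr_congr _ _ h1

theorem tq_fix : tq • x₀ = x₀ := smul_x0 t_fix
theorem uq_fix : uq • x₀ = x₀ := smul_x0 u_fix
theorem aq_fix : aq • x₀ = x₀ := smul_x0 a_fix
theorem bq_fix : bq • x₀ = x₀ := smul_x0 b_fix

theorem zE_fix : zE • ly0 = ly0 := by
  unfold zE
  rw [mul_smul, mul_smul, mul_smul]
  have a1 : e3 • ly0 = ly0 := bi_fix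
  have a2 : e2 • ly0 = ly0 := ai_fix
  have a3 : e1 • ly0 = ly0 := b_fix
  have a4 : e0 • ly0 = ly0 := a_fix
  rw [a1, a2, a3, a4]

theorem zq_fix : zq • x₀ = x₀ := smul_x0 zE_fix

theorem e2_eq : e2 = e0⁻¹ := eq_inv_of_mul_eq_one_right rel_a
theorem e3_eq : e3 = e1⁻¹ := eq_inv_of_mul_eq_one_right rel_b

theorem ziE_eq : ziE = zE⁻¹ := by
  unfold ziE zE
  rw [e2_eq, e3_eq]
  group

theorem z_comm_a : zE * e0 = e0 * zE := by
  have h := za
  rw [ziE_eq, e2_eq] at h
  apply commutatorElement_eq_one_iff_mul_comm.1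
  rw [commutatorElement_def, ← h]
  group

theorem z_comm_b : zE * e1 = e1 * zE := by
  have h := Co1G.zb
  rw [ziE_eq, e3_eq] at h
  apply commutatorElement_eq_one_iff_mul_comm.1
  rw [commutatorElement_def, ← h]
  group

theorem z_rel : e0 * e1 = zE * e1 * e0 := by
  unfold zE
  rw [e2_eq, e3_eq]
  group

theorem aq_pow : aq ^ 5 = 1 := by
  unfold aq
  rw [← QuotientGroup.mk_pow, a5]
  rfl

theorem bq_pow : bq ^ 5 = 1 := by
  unfold bq
  rw [← QuotientGroup.mk_pow, b5]
  rfl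

theorem zq_pow : zq ^ 5 = 1 := by
  unfold zq
  rw [← QuotientGroup.mk_pow, z5]
  rfl

theorem zq_rel : aq * bq = zq * bq * aq := by
  unfold aq bq zq
  rw [← QuotientGroup.mk_mul, ← QuotientGroup.mk_mul, ← QuotientGroup.mk_mul, z_rel]

theorem zq_a : zq * aq = aq * zq := by
  unfold aq zq
  rw [← QuotientGroup.mk_mul, ← QuotientGroup.mk_mul, z_comm_a]

theorem zq_b : zq * bq = bq * zq := by
  unfold bq zq
  rw [← QuotientGroup.mk_mul, ← QuotientGroup.mk_mul, z_comm_b]

theorem zq_ne : zq ≠ 1 := by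
  intro h
  have h1 : zE ∈ Zc := (QuotientGroup.eq_one_iff zE).1 h
  rcases Cfsg.Agent.Lib.Co0Frame.center_cases h1 with h2 | h2
  · exact z_ne h2
  · have h3 := zE_fix
    rw [h2] at h3
    exact ne_neg_self norm_y0 h3.symm

/-! ### Transitivity on ordered pairs -/

theorem move_y1 (x : Om1) : ∃ g : Co0, g • x = y₁ := by
  obtain ⟨g₁, hg₁⟩ := Cfsg.Agent.Lib.Co0Trans.trans32 (rp x) McLG.lv0 (rp_norm x) norm_v0
  refine ⟨g₁, ?_⟩
  conv_lhs => rw [← pr_rp x]
  rw [smul_pr]
  exact pr_congr _ _ hg₁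

theorem same_orbit {x y x' y' : Om1} (h : dd1 x y = dd1 x' y') : ∃ g : Co0, g • x = x' ∧ g • y = y' := by
  obtain ⟨g₁, h1⟩ := move_y1 x
  obtain ⟨g₂, h2⟩ := move_y1 x'
  have e1 : dd1 y₁ (g₁ • y) = dd1 x y := by
    rw [← h1, dd1_smul]
  have e2 : dd1 y₁ (g₂ • y') = dd1 x' y' := by
    rw [← h2, dd1_smul]
  have e : dd1 y₁ (g₁ • y) = dd1 y₁ (g₂ • y') := by
    rw [e1, e2, h]
  have key : ∃ k : Co0, k • y₁ = y₁ ∧ k • (g₁ • y) = g₂ • y' := by
    rcases dd1_values y₁ (g₁ • y) with d | d | d | d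
    · refine ⟨1, one_smul _ _, ?_⟩
      rw [one_smul, ← dd1_self.1 d, ← dd1_self.1 (e.symm.trans d)]
    · obtain ⟨k, a, b⟩ := move_pair McLG.lv0 norm_v0 16 (Or.inl rfl) (g₁ • y) (g₂ • y')
        (by rw [fab_eq McLG.lv0 norm_v0]; exact d) (by rw [fab_eq McLG.lv0 norm_v0]; exact e.symm.trans d)
      exact ⟨k, smul_y1 a, b⟩
    · obtain ⟨k, a, b⟩ := move_pair McLG.lv0 norm_v0 8 (Or.inr (Or.inl rfl)) (g₁ • y) (g₂ • y')
        (by rw [fab_eq McLG.lv0 norm_v0]; exact d) (by rw [fab_eq McLG.lv0 norm_v0]; exact e.symm.trans d)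
      exact ⟨k, smul_y1 a, b⟩
    · obtain ⟨k, a, b⟩ := move_pair McLG.lv0 norm_v0 0 (Or.inr (Or.inr rfl)) (g₁ • y) (g₂ • y')
        (by rw [fab_eq McLG.lv0 norm_v0]; exact d) (by rw [fab_eq McLG.lv0 norm_v0]; exact e.symm.trans d)
      exact ⟨k, smul_y1 a, b⟩
  obtain ⟨k, a, b⟩ := key
  refine ⟨g₂⁻¹ * (k * g₁), ?_, ?_⟩
  · rw [mul_smul, mul_smul, h1, a, ← h2, inv_smul_smul]
  · rw [mul_smul, mul_smul, b, inv_smul_smul]

theorem rank4 : Nat.card (orbitRel.Quotient Gq (Om1 × Om1)) ≤ 4 := by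
  let S : Finset ℕ := {32, 16, 8, 0}
  let F : orbitRel.Quotient Gq (Om1 × Om1) → S := Quotient.lift
    (fun q : Om1 × Om1 => (⟨dd1 q.1 q.2, by
      have := dd1_values q.1 q.2
      simpa [S] using this⟩ : S)) (by
      rintro ⟨x, y⟩ ⟨x', y'⟩ ⟨g, hg⟩
      apply Subtype.ext
      show dd1 x y = dd1 x' y'
      have h1 : g • x' = x := congrArg Prod.fst hg
      have h2 : g • y' = y := congrArg Prod.snd hg
      obtain ⟨g, rfl⟩ := QuotientGroup.mk_surjective g
      rw [← h1, ← h2]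
      exact dd1_smul g x' y')
  have hinj : Function.Injective F := by
    intro a b
    induction a using Quotient.inductionOn with | _ p => ?_
    induction b using Quotient.inductionOn with | _ q => ?_
    intro h
    have h1 : dd1 p.1 p.2 = dd1 q.1 q.2 := congrArg Subtype.val h
    obtain ⟨g, a, b⟩ := same_orbit h1
    apply Quotient.sound
    refine ⟨(g : Gq)⁻¹, ?_⟩
    show ((g : Gq)⁻¹) • q = p
    have e : (g : Gq) • p = q := Prod.ext a b
    rw [← e, inv_smul_smul]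
  have h := Nat.card_le_card_of_injective F hinj
  rw [Nat.card_eq_fintype_card (α := S), Fintype.card_coe] at h
  exact h

/-! ### Subgroups containing the two elements -/

theorem tq_ne : tq ≠ 1 := by
  intro h
  have h1 : ∀ y : Om1, y = x₀ := fun y => htfix y (by
    show tq • y = y
    rw [h, one_smul])
  have h2 := h1 F2
  have h3 := dd_F2
  rw [h2, dd1_self.2 rfl] at h3
  omega

theorem uq_ne : uq ≠ 1 := by
  intro h
  have h1 := hfix0
  have h2 : univ.filter (fun y : Om1 => uE • y = y) = univ := by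
    apply Finset.filter_true_of_mem
    intro y _
    show uq • y = y
    rw [h, one_smul]
  rw [h2, Finset.card_univ, ← Nat.card_eq_fintype_card, card_Om1] at h1
  omega

/-- The subgroup of the group above a subgroup of the quotient. -/
noncomputable def preim (L : Subgroup Gq) : Subgroup Co0 := L.comap (QuotientGroup.mk' Zc)

theorem mem_preim {L : Subgroup Gq} {g : Co0} : g ∈ preim L ↔ (g : Gq) ∈ L := Iff.rfl

theorem card_preim (L : Subgroup Gq) (hL : Nat.card L = 42305421312000) : Nat.card (preim L) = 84610842624000 := by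
  have h1 : (preim L).index = L.index := Subgroup.index_comap_of_surjective L (QuotientGroup.mk'_surjective Zc)
  have h2 := Subgroup.card_mul_index L
  have h3 := Subgroup.card_mul_index (preim L)
  rw [hL, card_Gq] at h2
  rw [h1, Cfsg.Agent.Lib.Co0Order.card_Co0] at h3
  have h4 : L.index = 98280 := by omega
  rw [h4] at h3
  omega

/-- A subgroup with the two elements and the right order fixes the point. -/
theorem fix_of_contains (α : MulAut Gq) (ht : tq ∈ (stabilizer Gq x₀).map α.toMonoidHom)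
    (hu : uq ∈ (stabilizer Gq x₀).map α.toMonoidHom) : ∀ g ∈ (stabilizer Gq x₀).map α.toMonoidHom, g • x₀ = x₀ := by
  set L := (stabilizer Gq x₀).map α.toMonoidHom with hLdef
  by_contra hno
  have hL : Nat.card L = 42305421312000 := by
    rw [hLdef, ← Nat.card_congr (Subgroup.equivMapOfInjective _ _ α.injective).toEquiv]
    exact card_stab_Gq x₀
  have hsimple : IsSimpleGroup L := by
    haveI h0 : IsSimpleGroup (stabilizer Gq x₀) := stab_simple ly0 norm_y0
    exact (Subgroup.equivMapOfInjective (stabilizer Gq x₀) α.toMonoidHom α.injective).symm.isSimpleGroup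
  have hr : Nat.card (orbitRel.Quotient L Om1) ≤ 4 := le_trans (card_orbits_map_le α x₀) rank4
  have hH := card_preim L hL
  have hT : ∀ P : Finset Om1, (∀ g ∈ L, ∀ x ∈ P, g • x ∈ P) →
      (∀ x, 3 * ((if x ∈ P then 16 else 0) + 4 * (P.filter (fun z => dd1 x z = 16)).card +
        (P.filter (fun z => dd1 x z = 8)).card) = 2 * P.card) ∧ 6 ∣ P.card := by
    intro P hP
    have hP' : ∀ g ∈ preim L, ∀ x ∈ P, g • x ∈ P := fun g hg x hx => hP (g : Gq) hg x hx
    have htH : tE ∈ preim L := ht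
    have huH : uE ∈ preim L := hu
    rcases tri hP' htH huH with h0 | h1 | h2 | h3
    · exact design hP' htH huH h0
    · exfalso
      apply hno
      intro g hg
      obtain ⟨g, rfl⟩ := QuotientGroup.mk_surjective g
      show g • x₀ = x₀
      unfold x₀
      rw [smul_pr]
      apply kx_inj
      rw [kx_pr, kx_pr]
      rcases h1 g hg with e | e
      · rw [e]
      · rw [e, kap_neg]
    · exact absurd h2 (no_u0 _ hH)
    · exact absurd h3 (no_e8 _ hH)
  obtain ⟨P, hinv, h1P, hiso⟩ := cells_main sch1 L hL hr tq uq ht hu tq_pow uq_pow x₀ tq_fix uq_fix htfix hfix0 hfix1 hfix2 hfix3 hT hno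
  have hmem : ∀ g : Gq, g • x₀ = x₀ → α g ∈ L := fun g hg => ⟨g, hg, rfl⟩
  have hfixP := iso_main L hsimple (α aq) (α bq) (α zq) (hmem _ aq_fix) (hmem _ bq_fix) (hmem _ zq_fix)
    (by rw [← map_pow, aq_pow, map_one]) (by rw [← map_pow, bq_pow, map_one]) (by rw [← map_pow, zq_pow, map_one])
    (by rw [← map_mul, zq_rel, map_mul, map_mul]) (by rw [← map_mul, zq_a, map_mul]) (by rw [← map_mul, zq_b, map_mul])
    (by
      intro h
      apply zq_ne
      apply α.injective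
      rw [h, map_one]) P hinv hiso
  apply hno
  obtain ⟨x, hx⟩ : P.Nonempty := Finset.card_pos.1 (by omega)
  have hx0 : x = x₀ := htfix x (hfixP tq ht x hx)
  rw [← hx0]
  intro g hg
  exact hfixP g hg x hx

/-! ### Cyclic groups of prime order -/

theorem gen_of_prime {K : Type*} [Group K] [Finite K] {t w : K} {p : ℕ} [Fact p.Prime] (ht : t ^ p = 1) (ht1 : t ≠ 1)
    (hw : w ∈ Subgroup.zpowers t) (hw1 : w ≠ 1) : t ∈ Subgroup.zpowers w := by
  have ho : orderOf t = p := orderOf_eq_prime ht ht1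
  have hw5 : w ^ p = 1 := by
    obtain ⟨k, rfl⟩ := hw
    rw [← zpow_natCast, zpow_comm, zpow_natCast, ht, one_zpow]
  have ho2 : orderOf w = p := orderOf_eq_prime hw5 hw1
  have hle : Subgroup.zpowers w ≤ Subgroup.zpowers t := Subgroup.zpowers_le.2 hw
  have he := Subgroup.eq_of_le_of_card_ge hle (by rw [Nat.card_zpowers, Nat.card_zpowers, ho, ho2])
  rw [he]
  exact Subgroup.mem_zpowers t

theorem mem_norm_of_conj_le {K : Type*} [Group K] [Finite K] (T : Subgroup K) (g : K) (h : ∀ x ∈ T, g * x * g⁻¹ ∈ T) : g ∈ Subgroup.normalizer (T : Set K) := by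
  rw [Subgroup.mem_normalizer_iff]
  intro x
  refine ⟨h x, fun hx => ?_⟩
  let φ : T → T := fun y => ⟨g * y.1 * g⁻¹, h y.1 y.2⟩
  have hφ : Function.Injective φ := by
    intro a b e
    have e1 : g * a.1 * g⁻¹ = g * b.1 * g⁻¹ := congrArg Subtype.val e
    exact Subtype.ext (by simpa using e1)
  obtain ⟨y, hy⟩ := (Finite.surjective_of_injective hφ) ⟨g * x * g⁻¹, hx⟩
  have e : g * y.1 * g⁻¹ = g * x * g⁻¹ := congrArg Subtype.val hy
  have e2 : y.1 = x := by simpa using e
  rw [← e2]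
  exact y.2

set_option maxRecDepth 100000 in
theorem ut_rel : uE * tE * (uE ^ 10 * tE ^ 11) = 1 :=
  OutCo2.eq_one_of_chk ((acts_u.mul acts_t).mul ((OutCo2.ActsOn_pow acts_u 10).mul (OutCo2.ActsOn_pow acts_t 11))) (by decide +kernel)

theorem uq_conj : uq * tq * uq⁻¹ ∈ Subgroup.zpowers tq := by
  have h : uq * tq * (uq ^ 10 * tq ^ 11) = 1 := by
    unfold uq tq
    rw [← QuotientGroup.mk_pow, ← QuotientGroup.mk_pow, ← QuotientGroup.mk_mul, ← QuotientGroup.mk_mul, ← QuotientGroup.mk_mul, ut_rel]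
    rfl
  have h1 : uq ^ 10 = uq⁻¹ := by
    apply eq_inv_of_mul_eq_one_left
    rw [← pow_succ]
    exact uq_pow
  rw [h1, ← mul_assoc] at h
  have h2 : uq * tq * uq⁻¹ = (tq ^ 11)⁻¹ := eq_inv_of_mul_eq_one_left h
  rw [h2]
  exact Subgroup.inv_mem _ (Subgroup.pow_mem _ (Subgroup.mem_zpowers tq) 11)

/-- The main theorem on images. -/
theorem himg (α : MulAut Gq) : ∃ y : Om1, (stabilizer Gq x₀).map α.toMonoidHom = stabilizer Gq y := by
  classical
  haveI f23 : Fact (Nat.Prime 23) := ⟨by norm_num⟩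
  haveI f11 : Fact (Nat.Prime 11) := ⟨by norm_num⟩
  let T := Subgroup.zpowers tq
  have cT : Nat.card T = 23 := by
    rw [Nat.card_zpowers]
    exact orderOf_eq_prime tq_pow tq_ne
  obtain ⟨h, hh⟩ := conj_into (p := 23) (k := 1) (a := 1) (α tq) (by rw [pow_one, ← map_pow, tq_pow, map_one]) T
    (by rw [cT, pow_one]) (by rw [card_Gq]; norm_num)
  let α₁ : MulAut Gq := MulAut.conj h * α
  have h1 : α₁ tq ∈ T := hh
  have hT1 : ∀ y ∈ T, α₁ y ∈ T := by
    rintro _ ⟨n, rfl⟩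
    show α₁ (tq ^ n) ∈ T
    rw [map_zpow]
    exact T.zpow_mem h1 n
  have ne1 : α₁ tq ≠ 1 := fun e => tq_ne (α₁.injective (by rw [e, map_one]))
  obtain ⟨k, hk⟩ := gen_of_prime tq_pow tq_ne h1 ne1
  have hk' : (α₁ tq) ^ k = tq := hk
  have hT2 : ∀ x ∈ T, ∃ y ∈ T, α₁ y = x := by
    rintro _ ⟨n, rfl⟩
    refine ⟨tq ^ (k * n), T.zpow_mem (Subgroup.mem_zpowers tq) _, ?_⟩
    show α₁ (tq ^ (k * n)) = tq ^ n
    rw [map_zpow, zpow_mul, hk']
  let N := Subgroup.normalizer (T : Set Gq)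
  have huN : uq ∈ N := by
    apply mem_norm_of_conj_le
    rintro _ ⟨n, rfl⟩
    show uq * tq ^ n * uq⁻¹ ∈ T
    rw [← conj_zpow]
    exact T.zpow_mem uq_conj n
  have hu1 : α₁ uq ∈ N := by
    apply mem_norm_of_conj_le
    intro x hx
    obtain ⟨y, hy, rfl⟩ := hT2 x hx
    rw [← map_mul, ← map_inv, ← map_mul]
    exact hT1 _ ((Subgroup.mem_normalizer_iff.1 huN y).1 hy)
  let u' : N := ⟨uq, huN⟩
  let v' : N := ⟨α₁ uq, hu1⟩
  have hou : orderOf u' = 11 := by
    have h2 : orderOf u' = orderOf uq := Subgroup.orderOf_mk uq huN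
    rw [h2]
    exact orderOf_eq_prime uq_pow uq_ne
  have hN : Nat.card N ∣ Nat.card Gq := Subgroup.card_subgroup_dvd_card N
  obtain ⟨c, hc⟩ := conj_into (K := N) (p := 11) (k := 1) (a := 1) v'
    (by
      apply Subtype.ext
      show (α₁ uq) ^ 11 ^ 1 = 1
      rw [pow_one, ← map_pow, uq_pow, map_one]) (Subgroup.zpowers u')
    (by rw [Nat.card_zpowers, hou, pow_one])
    (fun h2 => by
      have h3 := h2.trans hN
      rw [card_Gq] at h3
      norm_num at h3)
  obtain ⟨n, hn⟩ := hc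
  have hc' : (c : Gq) * α₁ uq * (c : Gq)⁻¹ ∈ Subgroup.zpowers uq := by
    refine ⟨n, ?_⟩
    have := congrArg Subtype.val hn
    simpa [u', v'] using this
  let α₂ : MulAut Gq := MulAut.conj (c : Gq) * α₁
  have a1 : α₂ uq ∈ Subgroup.zpowers uq := hc'
  have a2 : α₂ tq ∈ Subgroup.zpowers tq := (Subgroup.mem_normalizer_iff.1 c.2 _).1 h1
  have ne2 : α₂ uq ≠ 1 := fun e => uq_ne (α₂.injective (by rw [e, map_one]))
  have ne3 : α₂ tq ≠ 1 := fun e => tq_ne (α₂.injective (by rw [e, map_one]))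
  obtain ⟨k2, hk2⟩ := gen_of_prime uq_pow uq_ne a1 ne2
  obtain ⟨k3, hk3⟩ := gen_of_prime tq_pow tq_ne a2 ne3
  have m1 : uq ∈ (stabilizer Gq x₀).map α₂.toMonoidHom := by
    have m0 : α₂ uq ∈ (stabilizer Gq x₀).map α₂.toMonoidHom := ⟨uq, uq_fix, rfl⟩
    have m3 := Subgroup.zpow_mem _ m0 k2
    rwa [show (α₂ uq) ^ k2 = uq from hk2] at m3
  have m2 : tq ∈ (stabilizer Gq x₀).map α₂.toMonoidHom := by
    have m0 : α₂ tq ∈ (stabilizer Gq x₀).map α₂.toMonoidHom := ⟨tq, tq_fix, rfl⟩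
    have m3 := Subgroup.zpow_mem _ m0 k3
    rwa [show (α₂ tq) ^ k3 = tq from hk3] at m3
  have hfix := fix_of_contains α₂ m2 m1
  have hEq : (stabilizer Gq x₀).map α₂.toMonoidHom = stabilizer Gq x₀ := by
    apply Subgroup.eq_of_le_of_card_ge (fun g hg => hfix g hg)
    rw [← Nat.card_congr (Subgroup.equivMapOfInjective _ _ α₂.injective).toEquiv]
  refine ⟨((c : Gq) * h)⁻¹ • x₀, ?_⟩
  rw [stabilizer_smul_eq_stabilizer_map_conj]
  conv_rhs => rw [← hEq]
  rw [Subgroup.map_map]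
  congr 1
  ext n
  show α n = ((c : Gq) * h)⁻¹ * (α₂ n) * ((c : Gq) * h)⁻¹⁻¹
  show α n = ((c : Gq) * h)⁻¹ * ((c : Gq) * (h * α n * h⁻¹) * (c : Gq)⁻¹) * ((c : Gq) * h)⁻¹⁻¹
  group

end Cfsg.Agent.Lib.Co1Stage
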