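import Mathlib
import Cfsg.Agent.Lib.CoXi2

set_option autoImplicit false
set_option linter.unusedVariables false
set_option linter.unusedSimpArgs false
set_option linter.unusedSectionVars false

/-!
# Orbits of vectors, as trees evaluated by the kernel

A list of masks says which generators to apply to which vector of a frontier. All vectors reached are
sorted and counted.
-/

namespace Cfsg.Agent.Lib.CoVec

open Cfsg Finset
open Cfsg.Agent.Lib.Golay (idx pt idx_pt pt_idx idx_lt idxL mem_idxL ap bit bit_eq ofMask mem_ofMask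
  decode idx_decode isM24 decode_mem_M24 isM24_valid reduce word support_word word_mem_golayCode)
open Cfsg.Agent.Lib.Co0Mono (monoCo0)

/-! ### pure permutations and sign changes -/

/-- a coordinate of a permuted code -/
def permTerm (c n i : ℕ) : ℕ := byte n (ap c i)

/-- pure permutation on codes -/
def actPerm (c n : ℕ) : ℕ :=
  Nat.add (permTerm c n 0) <| Nat.mul 256 <| Nat.add (permTerm c n 1) <| Nat.mul 256 <|
  Nat.add (permTerm c n 2) <| Nat.mul 256 <| Nat.add (permTerm c n 3) <| Nat.mul 256 <|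
  Nat.add (permTerm c n 4) <| Nat.mul 256 <| Nat.add (permTerm c n 5) <| Nat.mul 256 <|
  Nat.add (permTerm c n 6) <| Nat.mul 256 <| Nat.add (permTerm c n 7) <| Nat.mul 256 <|
  Nat.add (permTerm c n 8) <| Nat.mul 256 <| Nat.add (permTerm c n 9) <| Nat.mul 256 <|
  Nat.add (permTerm c n 10) <| Nat.mul 256 <| Nat.add (permTerm c n 11) <| Nat.mul 256 <|
  Nat.add (permTerm c n 12) <| Nat.mul 256 <| Nat.add (permTerm c n 13) <| Nat.mul 256 <|
  Nat.add (permTerm c n 14) <| Nat.mul 256 <| Nat.add (permTerm c n 15) <| Nat.mul 256 <|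
  Nat.add (permTerm c n 16) <| Nat.mul 256 <| Nat.add (permTerm c n 17) <| Nat.mul 256 <|
  Nat.add (permTerm c n 18) <| Nat.mul 256 <| Nat.add (permTerm c n 19) <| Nat.mul 256 <|
  Nat.add (permTerm c n 20) <| Nat.mul 256 <| Nat.add (permTerm c n 21) <| Nat.mul 256 <|
  Nat.add (permTerm c n 22) <| Nat.mul 256 <| Nat.add (permTerm c n 23) <| Nat.mul 256 <| 0

theorem actPerm_eq (c n : ℕ) : actPerm c n = pack (idxL.map (permTerm c n)) := rfl

theorem sg_zero (i b : ℕ) : sg 0 i b = b := by
  unfold sg
  rw [bit_eq]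
  simp

theorem actPerm_eq_actMono (c n : ℕ) : actPerm c n = actMono c 0 n := by
  rw [actPerm_eq, actMono_eq]
  apply congrArg
  apply List.map_congr_left
  intro i _
  simp only [permTerm, monoTerm, sg_zero]

theorem reduce_zero : reduce 0 = 0 := by decide +kernel

/-- a permutation of `M24` as an element of the group -/
noncomputable def permCo0 {c : ℕ} (hc : isM24 c = true) : Co0 :=
  monoCo0 (ofMask_mem_codeSets (by norm_num) reduce_zero) (decode_mem_M24 hc)

theorem actPerm_acts {c : ℕ} (hc : isM24 c = true) : ActsOn (permCo0 hc) (actPerm c) := by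
  have := actMono_spec hc (m := 0) (by norm_num) reduce_zero
  have e : actPerm c = actMono c 0 := funext (actPerm_eq_actMono c)
  rw [e]
  exact this

/-- a coordinate of a code with signs changed -/
def signTerm (m n i : ℕ) : ℕ := sg m i (byte n i)

/-- pure sign change on codes -/
def actSign (c n : ℕ) : ℕ :=
  Nat.add (signTerm c n 0) <| Nat.mul 256 <| Nat.add (signTerm c n 1) <| Nat.mul 256 <|
  Nat.add (signTerm c n 2) <| Nat.mul 256 <| Nat.add (signTerm c n 3) <| Nat.mul 256 <|
  Nat.add (signTerm c n 4) <| Nat.mul 256 <| Nat.add (signTerm c n 5) <| Nat.mul 256 <|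
  Nat.add (signTerm c n 6) <| Nat.mul 256 <| Nat.add (signTerm c n 7) <| Nat.mul 256 <|
  Nat.add (signTerm c n 8) <| Nat.mul 256 <| Nat.add (signTerm c n 9) <| Nat.mul 256 <|
  Nat.add (signTerm c n 10) <| Nat.mul 256 <| Nat.add (signTerm c n 11) <| Nat.mul 256 <|
  Nat.add (signTerm c n 12) <| Nat.mul 256 <| Nat.add (signTerm c n 13) <| Nat.mul 256 <|
  Nat.add (signTerm c n 14) <| Nat.mul 256 <| Nat.add (signTerm c n 15) <| Nat.mul 256 <|
  Nat.add (signTerm c n 16) <| Nat.mul 256 <| Nat.add (signTerm c n 17) <| Nat.mul 256 <|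
  Nat.add (signTerm c n 18) <| Nat.mul 256 <| Nat.add (signTerm c n 19) <| Nat.mul 256 <|
  Nat.add (signTerm c n 20) <| Nat.mul 256 <| Nat.add (signTerm c n 21) <| Nat.mul 256 <|
  Nat.add (signTerm c n 22) <| Nat.mul 256 <| Nat.add (signTerm c n 23) <| Nat.mul 256 <| 0

theorem actSign_eq (c n : ℕ) : actSign c n = pack (idxL.map (signTerm c n)) := rfl

/-- the identity permutation code -/
def cId : ℕ := (idxL.map fun i => i * 32 ^ i).sum

theorem cId_isM24 : isM24 cId = true := by decide +kernel
theorem ap_cId : ∀ i < 24, ap cId i = i := by decide +kernel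

theorem actSign_eq_actMono (m n : ℕ) : actSign m n = actMono cId m n := by
  rw [actSign_eq, actMono_eq]
  apply congrArg
  apply List.map_congr_left
  intro i hi
  simp only [signTerm, monoTerm, ap_cId i (mem_idxL.1 hi)]

/-- a sign change as an element of the group -/
noncomputable def signCo0 {m : ℕ} (hm : m < 2 ^ 24) (hr : reduce m = 0) : Co0 :=
  monoCo0 (ofMask_mem_codeSets hm hr) (decode_mem_M24 cId_isM24)

theorem actSign_acts {m : ℕ} (hm : m < 2 ^ 24) (hr : reduce m = 0) :
    ActsOn (signCo0 hm hr) (actSign m) := by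
  have := actMono_spec cId_isM24 hm hr
  have e : actSign m = actMono cId m := funext (actSign_eq_actMono m)
  rw [e]
  exact this

/-! ### trees -/

section tree
variable (act : ℕ → ℕ → ℕ)

/-- child for one generator -/
def kb (g x m : ℕ) (t : List ℕ) : List ℕ :=
  match Nat.land (Nat.shiftRight m g) 1 with
  | 0 => t
  | _ => act g x :: t

/-- children -/
def kids (x m : ℕ) (t : List ℕ) : List ℕ :=
  kb act 0 x m <| kb act 1 x m <| kb act 2 x m <| kb act 3 x m <| kb act 4 x m <| kb act 5 x m <|
  kb act 6 x m <| kb act 7 x m t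

/-- the next frontier -/
def nextL : List ℕ → List ℕ → List ℕ
  | [], _ => []
  | _ :: _, [] => []
  | x :: xs, m :: ms => kids act x m (nextL xs ms)

/-- all layers -/
def layers : List (List ℕ) → List ℕ → List ℕ
  | [], fr => fr
  | ms :: rest, fr => fr ++ layers rest (nextL act fr ms)

variable {act}

theorem kb_sound {P : ℕ → Prop} (hP : ∀ g x, P x → P (act g x)) {g x m : ℕ} {t : List ℕ} (hx : P x)
    (ht : ∀ y ∈ t, P y) : ∀ y ∈ kb act g x m t, P y := by
  unfold kb
  split
  · exact ht
  · intro y hy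
    rcases List.mem_cons.1 hy with rfl | h
    · exact hP g x hx
    · exact ht y h

theorem kids_sound {P : ℕ → Prop} (hP : ∀ g x, P x → P (act g x)) {x m : ℕ} {t : List ℕ} (hx : P x)
    (ht : ∀ y ∈ t, P y) : ∀ y ∈ kids act x m t, P y :=
  kb_sound hP hx <| kb_sound hP hx <| kb_sound hP hx <| kb_sound hP hx <| kb_sound hP hx <|
    kb_sound hP hx <| kb_sound hP hx <| kb_sound hP hx ht

theorem nextL_sound {P : ℕ → Prop} (hP : ∀ g x, P x → P (act g x)) (fr ms : List ℕ)
    (hfr : ∀ y ∈ fr, P y) : ∀ y ∈ nextL act fr ms, P y := by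
  induction fr generalizing ms with
  | nil => simp [nextL]
  | cons x xs ih =>
    cases ms with
    | nil => simp [nextL]
    | cons m ms =>
      simp only [nextL]
      exact kids_sound hP (hfr x (by simp)) (ih ms (fun y hy => hfr y (by simp [hy])))

theorem layers_sound {P : ℕ → Prop} (hP : ∀ g x, P x → P (act g x)) (cert : List (List ℕ)) (fr : List ℕ)
    (hfr : ∀ y ∈ fr, P y) : ∀ y ∈ layers act cert fr, P y := by
  induction cert generalizing fr with
  | nil => simpa [layers] using hfr
  | cons ms rest ih =>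
    simp only [layers]
    intro y hy
    rcases List.mem_append.1 hy with h | h
    · exact hfr y h
    · exact ih _ (nextL_sound hP fr ms hfr) y h

end tree

/-! ### sorting; lists of masks -/

/-- masks from chunks of 32 bytes -/
def expandC : List ℕ → List ℕ
  | [] => []
  | c :: cs =>
    byte c 0 :: byte c 1 :: byte c 2 :: byte c 3 :: byte c 4 :: byte c 5 :: byte c 6 :: byte c 7 ::
    byte c 8 :: byte c 9 :: byte c 10 :: byte c 11 :: byte c 12 :: byte c 13 :: byte c 14 :: byte c 15 ::
    byte c 16 :: byte c 17 :: byte c 18 :: byte c 19 :: byte c 20 :: byte c 21 :: byte c 22 :: byte c 23 ::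
    byte c 24 :: byte c 25 :: byte c 26 :: byte c 27 :: byte c 28 :: byte c 29 :: byte c 30 :: byte c 31 ::
    expandC cs

/-- merging two sorted lists, without duplicates -/
def mergeAux (x : ℕ) (m : List ℕ → List ℕ) : List ℕ → List ℕ
  | [] => x :: m []
  | y :: b =>
    match Nat.blt x y with
    | true => x :: m (y :: b)
    | false =>
      match Nat.blt y x with
      | true => y :: mergeAux x m b
      | false => x :: m b

/-- merging two sorted lists, without duplicates -/
def merge : List ℕ → List ℕ → List ℕ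
  | [], b => b
  | x :: a, b => mergeAux x (merge a) b

/-- one round of merges -/
def mergePairs : List (List ℕ) → List (List ℕ)
  | a :: b :: rest => merge a b :: mergePairs rest
  | l => l

/-- rounds of merges -/
def mergeAll : ℕ → List (List ℕ) → List ℕ
  | 0, l => l.foldr merge []
  | n + 1, l => mergeAll n (mergePairs l)

/-- sort and remove duplicates -/
def sortU (l : List ℕ) : List ℕ := mergeAll 18 (l.map fun x => [x])

theorem mem_mergeAux {x : ℕ} {m : List ℕ → List ℕ} {A : List ℕ}
    (hm : ∀ l z, z ∈ m l ↔ z ∈ A ∨ z ∈ l) (b : List ℕ) (z : ℕ) :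
    z ∈ mergeAux x m b ↔ z = x ∨ z ∈ A ∨ z ∈ b := by
  induction b with
  | nil => simp [mergeAux, hm]
  | cons y b ih =>
    simp only [mergeAux]
    cases h1 : Nat.blt x y with
    | true => simp only [List.mem_cons, hm]
    | false =>
      cases h2 : Nat.blt y x with
      | true =>
        simp only [List.mem_cons, ih]
        tauto
      | false =>
        have hxy : x = y := by
          simp only [Nat.blt_eq, Bool.eq_false_iff, ne_eq, decide_eq_true_eq] at h1 h2
          omega
        subst hxy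
        simp only [List.mem_cons, hm]
        tauto

theorem mem_merge (a b : List ℕ) (z : ℕ) : z ∈ merge a b ↔ z ∈ a ∨ z ∈ b := by
  induction a generalizing b z with
  | nil => simp [merge]
  | cons x a ih =>
    simp only [merge]
    rw [mem_mergeAux (A := a) (fun l _ => ih l _)]
    simp only [List.mem_cons]
    tauto

theorem mem_mergePairs (l : List (List ℕ)) (z : ℕ) : (∃ a ∈ mergePairs l, z ∈ a) ↔ ∃ a ∈ l, z ∈ a := by
  induction l using mergePairs.induct with
  | case1 a b rest ih =>
    simp only [mergePairs, List.mem_cons, exists_eq_or_imp, mem_merge, ih]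
    tauto
  | case2 l hl =>
    rw [mergePairs.eq_2 l hl]

theorem mem_mergeAll (n : ℕ) (l : List (List ℕ)) (z : ℕ) : z ∈ mergeAll n l ↔ ∃ a ∈ l, z ∈ a := by
  induction n generalizing l with
  | zero =>
    simp only [mergeAll]
    induction l with
    | nil => simp
    | cons a l ih =>
      simp only [List.foldr_cons, mem_merge, ih, List.mem_cons, exists_eq_or_imp]
  | succ n ih =>
    simp only [mergeAll]
    rw [ih, mem_mergePairs]

theorem mem_sortU (l : List ℕ) (z : ℕ) : z ∈ sortU l ↔ z ∈ l := by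
  rw [sortU, mem_mergeAll]
  simp

/-- strictly ascending -/
def ascB : List ℕ → Bool
  | [] => true
  | [_] => true
  | a :: b :: l => Nat.blt a b && ascB (b :: l)

theorem ascB_pairwise : ∀ l : List ℕ, ascB l = true → l.Pairwise (· < ·)
  | [], _ => List.Pairwise.nil
  | [_], _ => List.pairwise_singleton _ _
  | a :: b :: l, h => by
    simp only [ascB, Bool.and_eq_true] at h
    have hab : a < b := by simpa [Nat.blt_eq] using h.1
    have hrec := ascB_pairwise (b :: l) h.2
    refine List.Pairwise.cons (fun c hc => ?_) hrec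
    rcases List.mem_cons.1 hc with rfl | hc
    · exact hab
    · exact hab.trans (List.rel_of_pairwise_cons hrec hc)

/-- counting down the length -/
def chkLen : List ℕ → ℕ → Bool
  | [], k => Nat.beq k 0
  | _ :: l, k =>
    match k with
    | 0 => false
    | k + 1 => chkLen l k

theorem chkLen_eq : ∀ (l : List ℕ) (k : ℕ), chkLen l k = true → l.length = k
  | [], k, h => by
    have : k = 0 := Nat.eq_of_beq_eq_true h
    simp [this]
  | _ :: l, 0, h => by simp [chkLen] at h
  | _ :: l, k + 1, h => by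
    have := chkLen_eq l k h
    simp [this]

/-- the final check -/
def finish (l : List ℕ) (N : ℕ) : Bool := ascB l && chkLen l N

/-! ### orbits -/

/-- The orbit of a lattice vector under a subgroup, as a set of vectors. -/
def Orb (H : Subgroup Co0) (v : leechLattice) : Set (GolayPt → ℤ) :=
  {x | ∃ h ∈ H, (((h : Co0) : Equiv.Perm leechLattice) v : GolayPt → ℤ) = x}

/-- The generators of a tree act through the subgroup. -/
def ActsIn (H : Subgroup Co0) (f : ℕ → ℕ) : Prop :=
  ∀ n (hn : St n), f n < 2 ^ 192 ∧ ∃ h ∈ H,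
    (((h : Co0) : Equiv.Perm leechLattice) ⟨dec n, hn.2.1⟩ : GolayPt → ℤ) = dec (f n)

theorem ActsOn.actsIn {H : Subgroup Co0} {g : Co0} {f : ℕ → ℕ} (hf : ActsOn g f) (hg : g ∈ H) : ActsIn H f :=
  fun n hn => ⟨(hf n hn).1, g, hg, (hf n hn).2⟩

theorem tree_orbit {H : Subgroup Co0} {act : ℕ → ℕ → ℕ} (hact : ∀ g, ActsIn H (act g)) {r : ℕ} (hr : St r)
    (cert : List (List ℕ)) {N : ℕ} (hchk : finish (sortU (layers act cert [r])) N = true) :
    ∃ S : Finset (GolayPt → ℤ), S.card = N ∧ ↑S ⊆ Orb H ⟨dec r, hr.2.1⟩ := by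
  classical
  let P : ℕ → Prop := fun n => ∃ hn : St n, ∃ h ∈ H,
    (((h : Co0) : Equiv.Perm leechLattice) ⟨dec r, hr.2.1⟩ : GolayPt → ℤ) = dec n
  have hP : ∀ g x, P x → P (act g x) := by
    rintro g x ⟨hx, h, hh, e⟩
    obtain ⟨hlt, k, hk, ek⟩ := hact g x hx
    have hmem : dec (act g x) ∈ leechLattice := ek ▸ Subtype.property _
    refine ⟨⟨hlt, hmem, ?_⟩, k * h, H.mul_mem hk hh, ?_⟩
    · rw [← ek, co0_sqNorm]
      exact hx.2.2
    · rw [← ek]
      have e' : ((h : Co0) : Equiv.Perm leechLattice) ⟨dec r, hr.2.1⟩ = ⟨dec x, hx.2.1⟩ := Subtype.ext e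
      have e2 : (((k * h : Co0) : Co0) : Equiv.Perm leechLattice) ⟨dec r, hr.2.1⟩ =
          ((k : Co0) : Equiv.Perm leechLattice) (((h : Co0) : Equiv.Perm leechLattice) ⟨dec r, hr.2.1⟩) := rfl
      rw [e2, e']
  have hall : ∀ y ∈ layers act cert [r], P y := by
    apply layers_sound hP
    intro y hy
    rw [List.mem_singleton] at hy
    subst hy
    exact ⟨hr, 1, H.one_mem, rfl⟩
  simp only [finish, Bool.and_eq_true] at hchk
  obtain ⟨h1, h2⟩ := hchk
  set l := sortU (layers act cert [r]) with hl
  have hl2 : l.length = N := chkLen_eq _ _ h2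
  have hnd : l.Nodup := (ascB_pairwise l h1).imp (fun h => ne_of_lt h)
  have hPl : ∀ y ∈ l, P y := fun y hy => hall y ((mem_sortU _ _).1 hy)
  refine ⟨l.toFinset.image dec, ?_, ?_⟩
  · rw [Finset.card_image_of_injOn, List.toFinset_card_of_nodup hnd, hl2]
    intro a ha b hb hab
    have ha' := hPl a (List.mem_toFinset.1 ha)
    have hb' := hPl b (List.mem_toFinset.1 hb)
    obtain ⟨hsa, -⟩ := ha'
    obtain ⟨hsb, -⟩ := hb'
    exact dec_injOn hsa.1 hsb.1 hab
  · intro x hx
    obtain ⟨y, hy, rfl⟩ := Finset.mem_image.1 (Finset.mem_coe.1 hx)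
    obtain ⟨_, h, hh, e⟩ := hPl y (List.mem_toFinset.1 hy)
    exact ⟨h, hh, e⟩

/-- Orbit from a count. -/
theorem orbit_eq_of_tree {H : Subgroup Co0} {act : ℕ → ℕ → ℕ} (hact : ∀ g, ActsIn H (act g)) {r : ℕ} (hr : St r)
    (cert : List (List ℕ)) {N : ℕ} (hchk : finish (sortU (layers act cert [r])) N = true)
    {T : Set (GolayPt → ℤ)} (hT : Orb H ⟨dec r, hr.2.1⟩ ⊆ T) (hfin : T.Finite) (hN : T.ncard ≤ N) :
    Orb H ⟨dec r, hr.2.1⟩ = T ∧ T.ncard = N := by
  classical
  obtain ⟨S, hS, hS2⟩ := tree_orbit hact hr cert hchk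
  have h1 : (S : Set (GolayPt → ℤ)) ⊆ T := hS2.trans hT
  have h2 : S.card ≤ T.ncard := by
    rw [← Set.ncard_coe_finset]
    exact Set.ncard_le_ncard h1 hfin
  have h3 : (S : Set (GolayPt → ℤ)) = T := by
    apply Set.eq_of_subset_of_ncard_le h1 _ hfin
    rw [Set.ncard_coe_finset]
    omega
  refine ⟨subset_antisymm hT (h3 ▸ hS2), ?_⟩
  omega

end Cfsg.Agent.Lib.CoVec
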