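import Mathlib
import Cfsg.Agent.Lib.CoTree

set_option autoImplicit false
set_option linter.unusedVariables false
set_option linter.unusedSimpArgs false
set_option linter.unusedSectionVars false

/-!
# Orbits of vectors, as sorted tables with parent pointers

A table of codes is a binary tree of chunks, each chunk holding 256 entries of 200 bits: the code and, in the low byte,
the depth of the entry. A table of certificates gives the parent and generator of each entry. The check of each entry is
a few primitive operations, a walk down the tree to the parent, and the action of one generator; so that long tables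
are checked in small pieces, each its own declaration.
-/

namespace Cfsg.Agent.Lib.CoVec

open Cfsg Finset

/-- a binary tree of chunks -/
inductive Tr where
  | leaf (n : ℕ)
  | node (l r : Tr)

/-- a chunk, following the low bits of the index -/
def Tr.get : Tr → ℕ → ℕ
  | .leaf n, _ => n
  | .node l r, j =>
    cond (Nat.beq (Nat.land j 1) 0) (Tr.get l (Nat.shiftRight j 1)) (Tr.get r (Nat.shiftRight j 1))

/-- an entry of a chunk of codes -/
def laneW (W j : ℕ) : ℕ := Nat.land (Nat.shiftRight W (Nat.mul 200 j)) 1606938044258990275541962092341162602522202993782792835301375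

/-- an entry of a table of codes -/
def atW (T : Tr) (i : ℕ) : ℕ := laneW (T.get (Nat.shiftRight i 8)) (Nat.land i 255)

/-- the code of an entry -/
def lCode (l : ℕ) : ℕ := Nat.shiftRight l 8
/-- the depth of an entry -/
def lDep (l : ℕ) : ℕ := Nat.land l 255

/-- an entry of a chunk of certificates -/
def laneC (C j : ℕ) : ℕ := Nat.land (Nat.shiftRight C (Nat.mul 32 j)) 4294967295

/-- The check of an entry, given the entry, its certificate and the previous entry. -/
def entryOK (act : ℕ → ℕ → ℕ) (T : Tr) (r N l c i : ℕ) : Bool :=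
  (fun p => (fun q =>
  cond (Nat.ble (Nat.succ p) N)
    (cond (Nat.beq (lDep l) 0)
      (Nat.beq (lCode l) r)
      (cond (Nat.ble (Nat.succ (lDep q)) (lDep l))
        (Nat.beq (lCode l) (act (Nat.shiftRight c 24) (lCode q)))
        false))
    false) (atW T p)) (Nat.land c 16777215)

/-- The check of the order -/
def orderOK (T : Tr) (l i : ℕ) : Bool :=
  cond (Nat.beq i 0) true (Nat.ble (Nat.succ (lCode (atW T (Nat.sub i 1)))) (lCode l))

/-- The check of all entries of a chunk, from position `j` on, at most `m` of them. -/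
def chunkLoop (act : ℕ → ℕ → ℕ) (T : Tr) (r N W C k : ℕ) : ℕ → ℕ → Bool
  | 0, _ => true
  | m + 1, j =>
    (fun l =>
      cond (entryOK act T r N l (laneC C j) (Nat.add (Nat.mul 256 k) j))
        (cond (orderOK T l (Nat.add (Nat.mul 256 k) j))
          (chunkLoop act T r N W C k m (Nat.add j 1))
          false)
        false) (laneW W j)

/-- The check of chunk `k`. -/
def chunkOK (act : ℕ → ℕ → ℕ) (T U : Tr) (r N k m : ℕ) : Bool :=
  chunkLoop act T r N (T.get k) (U.get k) k m 0

theorem shiftRight_eight (k j : ℕ) (hj : j < 256) : Nat.shiftRight (256 * k + j) 8 = k := by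
  show (256 * k + j) >>> 8 = k
  rw [Nat.shiftRight_eq_div_pow]
  have : (2 : ℕ) ^ 8 = 256 := by norm_num
  rw [this]
  omega

theorem land_255 (k j : ℕ) (hj : j < 256) : Nat.land (256 * k + j) 255 = j := by
  show (256 * k + j) &&& 255 = j
  have : (255 : ℕ) = 2 ^ 8 - 1 := by norm_num
  rw [this, Nat.and_two_pow_sub_one_eq_mod]
  have : (2 : ℕ) ^ 8 = 256 := by norm_num
  rw [this]
  omega

theorem atW_eq (T : Tr) (k j : ℕ) (hj : j < 256) : atW T (256 * k + j) = laneW (T.get k) j := by
  unfold atW
  rw [shiftRight_eight k j hj, land_255 k j hj]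

theorem chunkLoop_spec {act : ℕ → ℕ → ℕ} {T : Tr} {r N W C k : ℕ} (m j : ℕ)
    (h : chunkLoop act T r N W C k m j = true) :
    ∀ j', j ≤ j' → j' < j + m → entryOK act T r N (laneW W j') (laneC C j') (256 * k + j') = true ∧
      orderOK T (laneW W j') (256 * k + j') = true := by
  induction m generalizing j with
  | zero => intro j' h1 h2; omega
  | succ m ih =>
    intro j' h1 h2
    simp only [chunkLoop] at h
    have h3 : entryOK act T r N (laneW W j) (laneC C j) (Nat.add (Nat.mul 256 k) j) = true := by
      cases h4 : entryOK act T r N (laneW W j) (laneC C j) (Nat.add (Nat.mul 256 k) j)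
      · rw [h4] at h; cases h
      · rfl
    rw [h3] at h
    have h5 : orderOK T (laneW W j) (Nat.add (Nat.mul 256 k) j) = true := by
      cases h4 : orderOK T (laneW W j) (Nat.add (Nat.mul 256 k) j)
      · rw [h4] at h; cases h
      · rfl
    rw [h5] at h
    rcases Nat.eq_or_lt_of_le h1 with rfl | hlt
    · exact ⟨h3, h5⟩
    · exact ih (Nat.add j 1) h j' hlt (by show j' < j + 1 + m; omega)

/-- the number of entries of chunk `k` -/
def cntOf (N k : ℕ) : ℕ := cond (Nat.ble (Nat.mul 256 (Nat.succ k)) N) 256 (Nat.sub N (Nat.mul 256 k))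

theorem lt_cntOf {N i : ℕ} (hi : i < N) : i % 256 < cntOf N (i / 256) := by
  unfold cntOf
  cases h : Nat.ble (Nat.mul 256 (Nat.succ (i / 256))) N
  · have h1 : ¬ (256 * (i / 256 + 1) ≤ N) := fun h2 => by
      have := Nat.ble_eq_true_of_le h2
      rw [show Nat.ble (256 * (i / 256 + 1)) N = Nat.ble (Nat.mul 256 (Nat.succ (i / 256))) N from rfl, h] at this
      cases this
    show i % 256 < N - 256 * (i / 256)
    omega
  · show i % 256 < 256
    omega

/-- The result of the pieces, for all entries. -/
theorem entries_of_chunks {act : ℕ → ℕ → ℕ} {T U : Tr} {r N M : ℕ} (hN : N ≤ 256 * M)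
    (h : ∀ k < M, chunkOK act T U r N k (cntOf N k) = true) (i : ℕ) (hi : i < N) :
    entryOK act T r N (atW T i) (laneC (U.get (i / 256)) (i % 256)) i = true ∧ orderOK T (atW T i) i = true := by
  have hk : i / 256 < M := by omega
  have hj : i % 256 < 256 := Nat.mod_lt _ (by norm_num)
  have e : 256 * (i / 256) + i % 256 = i := Nat.div_add_mod i 256
  have h1 := chunkLoop_spec _ 0 (h _ hk) (i % 256) (Nat.zero_le _) (by have := lt_cntOf hi; omega)
  rw [e] at h1
  have e2 := atW_eq T (i / 256) (i % 256) hj
  rw [e] at e2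
  rw [e2]
  exact h1

theorem entry_reach {P : ℕ → Prop} {act : ℕ → ℕ → ℕ} {T : Tr} {r N : ℕ} {c : ℕ → ℕ} (hr : P r)
    (hP : ∀ g x, P x → P (act g x))
    (hall : ∀ i < N, entryOK act T r N (atW T i) (c i) i = true) : ∀ i < N, P (lCode (atW T i)) := by
  have key : ∀ d i, lDep (atW T i) = d → i < N → P (lCode (atW T i)) := by
    intro d
    induction d using Nat.strong_induction_on with
    | _ d ih =>
      intro i hd hi
      have h := hall i hi
      unfold entryOK at h
      simp only at h
      cases h1 : Nat.ble (Nat.succ (Nat.land (c i) 16777215)) N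
      · rw [h1] at h; cases h
      · rw [h1] at h
        simp only [cond_true] at h
        have hp : Nat.land (c i) 16777215 < N := Nat.le_of_ble_eq_true h1
        cases h2 : Nat.beq (lDep (atW T i)) 0
        · rw [h2] at h
          simp only [cond_false] at h
          cases h3 : Nat.ble (Nat.succ (lDep (atW T (Nat.land (c i) 16777215)))) (lDep (atW T i))
          · rw [h3] at h; cases h
          · rw [h3] at h
            simp only [cond_true] at h
            have h4 := Nat.le_of_ble_eq_true h3
            rw [Nat.eq_of_beq_eq_true h]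
            apply hP
            exact ih _ (by omega) _ rfl hp
        · rw [h2] at h
          simp only [cond_true] at h
          rw [Nat.eq_of_beq_eq_true h]
          exact hr
  exact fun i hi => key _ i rfl hi

theorem order_lt {T : Tr} {N : ℕ} (hall : ∀ i < N, orderOK T (atW T i) i = true) :
    ∀ i j, i < j → j < N → lCode (atW T i) < lCode (atW T j) := by
  have step : ∀ i, i + 1 < N → lCode (atW T i) < lCode (atW T (i + 1)) := by
    intro i hi
    have h := hall (i + 1) hi
    unfold orderOK at h
    have h0 : Nat.beq (i + 1) 0 = false := rfl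
    rw [h0] at h
    simp only [cond_false] at h
    have h3 := Nat.le_of_ble_eq_true h
    have e : Nat.sub (i + 1) 1 = i := by simp
    rw [e] at h3
    exact h3
  intro i j hij
  induction j, hij using Nat.le_induction with
  | base => exact fun h => step i h
  | succ j hj ih =>
    intro h
    exact (ih (by omega)).trans (step j h)

/-- The result of a table: the vectors listed form a set of size `N` inside the orbit. -/
theorem table_orbit {H : Subgroup Co0} {act : ℕ → ℕ → ℕ} (hact : ∀ g, ActsIn H (act g)) {r : ℕ} (hr : St r)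
    {T U : Tr} {N M : ℕ} (hN : N ≤ 256 * M) (hall : ∀ k < M, chunkOK act T U r N k (cntOf N k) = true) :
    (∀ i < N, St (lCode (atW T i)) ∧ dec (lCode (atW T i)) ∈ Orb H ⟨dec r, hr.2.1⟩) ∧
      ∃ S : Finset (GolayPt → ℤ), S.card = N ∧ ↑S ⊆ Orb H ⟨dec r, hr.2.1⟩ ∧
        S = (Finset.range N).image fun i => dec (lCode (atW T i)) := by
  classical
  let P : ℕ → Prop := fun n => ∃ hn : St n, ∃ h ∈ H,
    (((h : Co0) : Equiv.Perm leechLattice) ⟨dec r, hr.2.1⟩ : GolayPt → ℤ) = dec n
  have hP : ∀ g x, P x → P (act g x) := by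
    rintro g x ⟨hx, h, hh, e⟩
    obtain ⟨hlt, k, hk, ek⟩ := hact g x hx
    have hmem : dec (act g x) ∈ leechLattice := ek ▸ Subtype.property _
    refine ⟨⟨hlt, hmem, ?_⟩, k * h, H.mul_mem hk hh, ?_⟩
    · rw [← ek, co0_sqNorm]
      exact hx.2.2
    · rw [← ek]
      have e' : ((h : Co0) : Equiv.Perm leechLattice) ⟨dec r, hr.2.1⟩ = ⟨dec x, hx.2.1⟩ := Subtype.ext e
      have e2 : (((k * h : Co0) : Co0) : Equiv.Perm leechLattice) ⟨dec r, hr.2.1⟩ =
          ((k : Co0) : Equiv.Perm leechLattice) (((h : Co0) : Equiv.Perm leechLattice) ⟨dec r, hr.2.1⟩) := rfl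
      rw [e2, e']
  have hPr : P r := ⟨hr, 1, H.one_mem, rfl⟩
  have hent := entries_of_chunks hN hall
  have hreach := entry_reach (c := fun i => laneC (U.get (i / 256)) (i % 256)) hPr hP (fun i hi => (hent i hi).1)
  have hmono := order_lt (fun i hi => (hent i hi).2)
  have hinj : Set.InjOn (fun i => dec (lCode (atW T i))) (Finset.range N : Finset ℕ) := by
    intro i hi j hj hij
    have hi' := Finset.mem_range.1 (Finset.mem_coe.1 hi)
    have hj' := Finset.mem_range.1 (Finset.mem_coe.1 hj)
    obtain ⟨hsi, -⟩ := hreach i hi'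
    obtain ⟨hsj, -⟩ := hreach j hj'
    have e := dec_injOn hsi.1 hsj.1 hij
    rcases lt_trichotomy i j with h | h | h
    · exact absurd e (ne_of_lt (hmono i j h hj'))
    · exact h
    · exact absurd e.symm (ne_of_lt (hmono j i h hi'))
  refine ⟨fun i hi => ?_, _, ?_, ?_, rfl⟩
  · obtain ⟨hs, h, hh, e⟩ := hreach i hi
    exact ⟨hs, h, hh, e⟩
  · rw [Finset.card_image_of_injOn hinj, Finset.card_range]
  · intro x hx
    obtain ⟨i, hi, rfl⟩ := Finset.mem_image.1 (Finset.mem_coe.1 hx)
    obtain ⟨hs, h, hh, e⟩ := hreach i (Finset.mem_range.1 hi)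
    exact ⟨h, hh, e⟩

/-! ### stabilisers -/

/-- An element acting on codes and fixing a code fixes the vector. -/
theorem smul_eq_of_acts {g : Co0} {f : ℕ → ℕ} (hg : ActsOn g f) {r : ℕ} (hr : St r) {v : leechLattice}
    (hv : (v : GolayPt → ℤ) = dec r) {s : ℕ} (hs : f r = s) {w : leechLattice} (hw : (w : GolayPt → ℤ) = dec s) :
    g • v = w := by
  apply Subtype.ext
  rw [hw, ← hs, ← (hg r hr).2]
  show (((g : Equiv.Perm leechLattice) v : leechLattice) : GolayPt → ℤ) = _
  congr 2
  exact Subtype.ext hv

theorem mem_stabilizer_of_acts {g : Co0} {f : ℕ → ℕ} (hg : ActsOn g f) {r : ℕ} (hr : St r) {v : leechLattice}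
    (hv : (v : GolayPt → ℤ) = dec r) (hs : f r = r) : g ∈ MulAction.stabilizer Co0 v :=
  smul_eq_of_acts hg hr hv hs hv

/-- a state from a check -/
theorem St_of_chk {n : ℕ} (h1 : Nat.blt n (2 ^ 192) = true) (h2 : memL n = true) (h3 : Nat.ble (sqN n) 2000 = true) : St n := by
  refine ⟨by simpa [Nat.blt_eq] using h1, mem_of_memL h2, ?_⟩
  rw [sqNorm_dec]
  have : sqN n ≤ 2000 := Nat.le_of_ble_eq_true h3
  exact_mod_cast this

/-- the check of a state -/
def stChk (n : ℕ) : Bool := Nat.blt n (2 ^ 192) && memL n && Nat.ble (sqN n) 2000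

theorem St_of_stChk {n : ℕ} (h : stChk n = true) : St n := by
  simp only [stChk, Bool.and_eq_true] at h
  exact St_of_chk h.1.1 h.1.2 h.2

end Cfsg.Agent.Lib.CoVec
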