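import Mathlib
import Cfsg.Agent.Lib.CoTable
import Cfsg.Prelude.Def_Spor_Conway

set_option autoImplicit false
set_option linter.unusedVariables false

/-! Generators of the stabiliser of (4, 4, 0^22) in the automorphism group of the lattice. -/

namespace Cfsg.Agent.Lib.CoVec

open Cfsg Cfsg.Agent.Lib.Golay
namespace Co2G

def v0 : ℕ := 3248938624927162525252506939818330773089252232805618843780

def p0 : ℕ := 971104598248848796683352050453024992
def p1 : ℕ := 981713054885072504357576768581982656
def p2 : ℕ := 1795248432537898728475572672376535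
def p3 : ℕ := 96290030423783511658572826629393057
def m0 : ℕ := 10558
theorem h_p0 : isM24 p0 = true := by decide +kernel
theorem h_p1 : isM24 p1 = true := by decide +kernel
theorem h_p2 : isM24 p2 = true := by decide +kernel
theorem h_p3 : isM24 p3 = true := by decide +kernel
theorem hl_m0 : m0 < 2 ^ 24 := by decide +kernel
theorem hr_m0 : reduce m0 = 0 := by decide +kernel

/-- the action of the generators on codes -/
def act (g n : ℕ) : ℕ :=
  match g with
  | 0 => actPerm p0 n
  | 1 => actPerm p1 n
  | 2 => actPerm p2 n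
  | 3 => actSign m0 n
  | _ => actPerm p3 (actXi n)

noncomputable def e0 : Co0 := permCo0 h_p0
theorem act0_eq : act 0 = fun n => actPerm p0 n := rfl
theorem acts0 : ActsOn e0 (act 0) := by
  rw [act0_eq]
  exact (actPerm_acts h_p0)

noncomputable def e1 : Co0 := permCo0 h_p1
theorem act1_eq : act 1 = fun n => actPerm p1 n := rfl
theorem acts1 : ActsOn e1 (act 1) := by
  rw [act1_eq]
  exact (actPerm_acts h_p1)

noncomputable def e2 : Co0 := permCo0 h_p2
theorem act2_eq : act 2 = fun n => actPerm p2 n := rfl
theorem acts2 : ActsOn e2 (act 2) := by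
  rw [act2_eq]
  exact (actPerm_acts h_p2)

noncomputable def e3 : Co0 := signCo0 hl_m0 hr_m0
theorem act3_eq : act 3 = fun n => actSign m0 n := rfl
theorem acts3 : ActsOn e3 (act 3) := by
  rw [act3_eq]
  exact (actSign_acts hl_m0 hr_m0)

noncomputable def e4 : Co0 := permCo0 h_p3 * (xiCo0)
theorem act4_eq : act 4 = fun n => actPerm p3 (actXi n) := rfl
theorem acts4 : ActsOn e4 (act 4) := by
  rw [act4_eq]
  exact ((actPerm_acts h_p3)).mul (actXi_acts)

theorem St_v0 : St v0 := St_of_stChk (by decide +kernel)

theorem dec_v0 : (Spor.leechU : GolayPt → ℤ) = dec v0 := by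
  funext p
  revert p
  show ∀ p, Spor.vecU p = dec v0 p
  decide +kernel

/-- the stabiliser -/
abbrev H : Subgroup Co0 := MulAction.stabilizer Co0 Spor.leechU

theorem mem0 : e0 ∈ H := mem_stabilizer_of_acts acts0 St_v0 dec_v0 (by decide +kernel)
theorem mem1 : e1 ∈ H := mem_stabilizer_of_acts acts1 St_v0 dec_v0 (by decide +kernel)
theorem mem2 : e2 ∈ H := mem_stabilizer_of_acts acts2 St_v0 dec_v0 (by decide +kernel)
theorem mem3 : e3 ∈ H := mem_stabilizer_of_acts acts3 St_v0 dec_v0 (by decide +kernel)
theorem mem4 : e4 ∈ H := mem_stabilizer_of_acts acts4 St_v0 dec_v0 (by decide +kernel)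

theorem act_in (g : ℕ) : ActsIn H (act g) := by
  match g with
  | 0 => exact acts0.actsIn mem0
  | 1 => exact acts1.actsIn mem1
  | 2 => exact acts2.actsIn mem2
  | 3 => exact acts3.actsIn mem3
  | _ + 4 => exact acts4.actsIn mem4

end Co2G
end Cfsg.Agent.Lib.CoVec
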