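import Mathlib
import Cfsg.Agent.Lib.CoTable
import Cfsg.Agent.Lib.CoMcLGens

set_option autoImplicit false
set_option linter.unusedVariables false

/-! Elements of the stabiliser of (4, 0^22, 4) permuting pairs of short vectors. -/

namespace Cfsg.Agent.Lib.CoVec

open Cfsg Cfsg.Agent.Lib.Golay
namespace Co2YG

/-- the base point -/
def p0c : ℕ := 3150858910311745638317572730080710985337652928985868305540

/-- the sum of a vector and its partner -/
def Cc : ℕ := 6399797535238908163570079669899041758426905161791487148292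

/-- the chosen vector of a pair -/
def canon (n : ℕ) : ℕ := cond (Nat.blt (Nat.mul 2 n) Cc) n (Nat.sub Cc n)

def p0 : ℕ := 6922799881487871247174803726277943
def p1 : ℕ := 21598523670882295060335669162644055
def p2 : ℕ := 965064327342668270280654786696723488
def p3 : ℕ := 968585451961407519372003633259894816
def p4 : ℕ := 974939408279396923372715893177232416
def p5 : ℕ := 10607322035096633987355798448408151
def p6 : ℕ := 66466352860397882878944640263795426
def p7 : ℕ := 972629184913130830861502375619997152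
def p8 : ℕ := 111765352154674194724258718301114529
def m0 : ℕ := 145176
def m1 : ℕ := 10558
def m2 : ℕ := 2624690
def m3 : ℕ := 180636
theorem h_p0 : isM24 p0 = true := by decide +kernel
theorem h_p1 : isM24 p1 = true := by decide +kernel
theorem h_p2 : isM24 p2 = true := by decide +kernel
theorem h_p3 : isM24 p3 = true := by decide +kernel
theorem h_p4 : isM24 p4 = true := by decide +kernel
theorem h_p5 : isM24 p5 = true := by decide +kernel
theorem h_p6 : isM24 p6 = true := by decide +kernel
theorem h_p7 : isM24 p7 = true := by decide +kernel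
theorem h_p8 : isM24 p8 = true := by decide +kernel
theorem hl_m0 : m0 < 2 ^ 24 := by decide +kernel
theorem hr_m0 : reduce m0 = 0 := by decide +kernel
theorem hl_m1 : m1 < 2 ^ 24 := by decide +kernel
theorem hr_m1 : reduce m1 = 0 := by decide +kernel
theorem hl_m2 : m2 < 2 ^ 24 := by decide +kernel
theorem hr_m2 : reduce m2 = 0 := by decide +kernel
theorem hl_m3 : m3 < 2 ^ 24 := by decide +kernel
theorem hr_m3 : reduce m3 = 0 := by decide +kernel

/-- the action of the generators on codes -/
def act (g n : ℕ) : ℕ :=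
  match g with
  | 0 => actPerm p1 (actPerm p0 n)
  | 1 => actPerm p2 n
  | 2 => actPerm p3 n
  | 3 => actSign m0 (actPerm p4 n)
  | 4 => actSign m2 (actPerm p6 (actXi (actSign m1 (actPerm p5 n))))
  | 5 => actPerm p7 n
  | _ => actSign m3 (actPerm p8 (actXi n))

noncomputable def e0 : Co0 := permCo0 h_p1 * (permCo0 h_p0)
theorem act0_eq : act 0 = fun n => actPerm p1 (actPerm p0 n) := rfl
theorem acts0 : ActsOn e0 (act 0) := by
  rw [act0_eq]
  exact ((actPerm_acts h_p1)).mul ((actPerm_acts h_p0))

noncomputable def e1 : Co0 := permCo0 h_p2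
theorem act1_eq : act 1 = fun n => actPerm p2 n := rfl
theorem acts1 : ActsOn e1 (act 1) := by
  rw [act1_eq]
  exact (actPerm_acts h_p2)

noncomputable def e2 : Co0 := permCo0 h_p3
theorem act2_eq : act 2 = fun n => actPerm p3 n := rfl
theorem acts2 : ActsOn e2 (act 2) := by
  rw [act2_eq]
  exact (actPerm_acts h_p3)

noncomputable def e3 : Co0 := signCo0 hl_m0 hr_m0 * (permCo0 h_p4)
theorem act3_eq : act 3 = fun n => actSign m0 (actPerm p4 n) := rfl
theorem acts3 : ActsOn e3 (act 3) := by
  rw [act3_eq]
  exact ((actSign_acts hl_m0 hr_m0)).mul ((actPerm_acts h_p4))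

noncomputable def e4 : Co0 := signCo0 hl_m2 hr_m2 * (permCo0 h_p6 * (xiCo0 * (signCo0 hl_m1 hr_m1 * (permCo0 h_p5))))
theorem act4_eq : act 4 = fun n => actSign m2 (actPerm p6 (actXi (actSign m1 (actPerm p5 n)))) := rfl
theorem acts4 : ActsOn e4 (act 4) := by
  rw [act4_eq]
  exact ((actSign_acts hl_m2 hr_m2)).mul (((actPerm_acts h_p6)).mul ((actXi_acts).mul (((actSign_acts hl_m1 hr_m1)).mul ((actPerm_acts h_p5)))))

noncomputable def e5 : Co0 := permCo0 h_p7
theorem act5_eq : act 5 = fun n => actPerm p7 n := rfl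
theorem acts5 : ActsOn e5 (act 5) := by
  rw [act5_eq]
  exact (actPerm_acts h_p7)

noncomputable def e6 : Co0 := signCo0 hl_m3 hr_m3 * (permCo0 h_p8 * (xiCo0))
theorem act6_eq : act 6 = fun n => actSign m3 (actPerm p8 (actXi n)) := rfl
theorem acts6 : ActsOn e6 (act 6) := by
  rw [act6_eq]
  exact ((actSign_acts hl_m3 hr_m3)).mul (((actPerm_acts h_p8)).mul (actXi_acts))

/-- the action on pairs -/
def cact (g n : ℕ) : ℕ := canon (act (Nat.mod g 5) n)

theorem mem0 : e0 • McLG.lv0 = McLG.lv0 := mem_stabilizer_of_acts acts0 McLG.St_v0 rfl (by decide +kernel)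
theorem mem1 : e1 • McLG.lv0 = McLG.lv0 := mem_stabilizer_of_acts acts1 McLG.St_v0 rfl (by decide +kernel)
theorem mem2 : e2 • McLG.lv0 = McLG.lv0 := mem_stabilizer_of_acts acts2 McLG.St_v0 rfl (by decide +kernel)
theorem mem3 : e3 • McLG.lv0 = McLG.lv0 := mem_stabilizer_of_acts acts3 McLG.St_v0 rfl (by decide +kernel)
theorem mem4 : e4 • McLG.lv0 = McLG.lv0 := mem_stabilizer_of_acts acts4 McLG.St_v0 rfl (by decide +kernel)
theorem mem5 : e5 • McLG.lv0 = McLG.lv0 := mem_stabilizer_of_acts acts5 McLG.St_v0 rfl (by decide +kernel)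
theorem mem6 : e6 • McLG.lv0 = McLG.lv0 := mem_stabilizer_of_acts acts6 McLG.St_v0 rfl (by decide +kernel)
theorem pr0 : canon (act 0 p0c) = p0c := by decide +kernel
theorem pr1 : canon (act 1 p0c) = p0c := by decide +kernel
theorem pr2 : canon (act 2 p0c) = p0c := by decide +kernel
theorem pr3 : canon (act 3 p0c) = p0c := by decide +kernel
theorem pr4 : canon (act 4 p0c) = p0c := by decide +kernel

end Co2YG
end Cfsg.Agent.Lib.CoVec
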