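import Mathlib
import Cfsg.Agent.Lib.CoTable
import Cfsg.Prelude.Def_Spor_Conway

set_option autoImplicit false
set_option linter.unusedVariables false

/-! Generators of the stabiliser of (5, 1^23) in the automorphism group of the lattice. -/

namespace Cfsg.Agent.Lib.CoVec

open Cfsg Cfsg.Agent.Lib.Golay
namespace Co3G

def u0 : ℕ := 3273554710163973038051862976772086327662202646313320939905
theorem St_u0 : St u0 := St_of_stChk (by decide +kernel)
noncomputable def lu0 : leechLattice := ⟨dec u0, St_u0.2.1⟩

def p0 : ℕ := 963954972185655756469983715328138390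
def p1 : ℕ := 983053481571305614475499419655706192
def p2 : ℕ := 965346842369146380541869876081398976
def p3 : ℕ := 182258586199035828042569650513610793
def p4 : ℕ := 980722074020527466857765481857955968
def m0 : ℕ := 5745988
def m1 : ℕ := 12685424
def m2 : ℕ := 6073140
theorem h_p0 : isM24 p0 = true := by decide +kernel
theorem h_p1 : isM24 p1 = true := by decide +kernel
theorem h_p2 : isM24 p2 = true := by decide +kernel
theorem h_p3 : isM24 p3 = true := by decide +kernel
theorem h_p4 : isM24 p4 = true := by decide +kernel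
theorem hl_m0 : m0 < 2 ^ 24 := by decide +kernel
theorem hr_m0 : reduce m0 = 0 := by decide +kernel
theorem hl_m1 : m1 < 2 ^ 24 := by decide +kernel
theorem hr_m1 : reduce m1 = 0 := by decide +kernel
theorem hl_m2 : m2 < 2 ^ 24 := by decide +kernel
theorem hr_m2 : reduce m2 = 0 := by decide +kernel

/-- the action of the generators on codes -/
def act (g n : ℕ) : ℕ :=
  match g with
  | 0 => actPerm p0 n
  | 1 => actPerm p1 n
  | _ => actSign m2 (actPerm p4 (actXi (actSign m1 (actPerm p3 (actXi (actSign m0 (actPerm p2 n)))))))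

noncomputable def e0 : Co0 := permCo0 h_p0
theorem act0_eq : act 0 = fun n => actPerm p0 n := rfl
theorem acts0 : ActsOn e0 (act 0) := by
  rw [act0_eq]
  exact (actPerm_acts h_p0)

noncomputable def e1 : Co0 := permCo0 h_p1
theorem act1_eq : act 1 = fun n => actPerm p1 n := rfl
theorem acts1 : ActsOn e1 (act 1) := by
  rw [act1_eq]
  exact (actPerm_acts h_p1)

noncomputable def e2 : Co0 := signCo0 hl_m2 hr_m2 * (permCo0 h_p4 * (xiCo0 * (signCo0 hl_m1 hr_m1 * (permCo0 h_p3 * (xiCo0 * (signCo0 hl_m0 hr_m0 * (permCo0 h_p2)))))))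
theorem act2_eq : act 2 = fun n => actSign m2 (actPerm p4 (actXi (actSign m1 (actPerm p3 (actXi (actSign m0 (actPerm p2 n))))))) := rfl
theorem acts2 : ActsOn e2 (act 2) := by
  rw [act2_eq]
  exact ((actSign_acts hl_m2 hr_m2)).mul (((actPerm_acts h_p4)).mul ((actXi_acts).mul (((actSign_acts hl_m1 hr_m1)).mul (((actPerm_acts h_p3)).mul ((actXi_acts).mul (((actSign_acts hl_m0 hr_m0)).mul ((actPerm_acts h_p2))))))))

/-- the subgroup fixing the vectors -/
noncomputable def H : Subgroup Co0 := MulAction.stabilizer Co0 lu0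

theorem mem0 : e0 ∈ H := mem_stabilizer_of_acts acts0 St_u0 rfl (by decide +kernel)
theorem mem1 : e1 ∈ H := mem_stabilizer_of_acts acts1 St_u0 rfl (by decide +kernel)
theorem mem2 : e2 ∈ H := mem_stabilizer_of_acts acts2 St_u0 rfl (by decide +kernel)
theorem fix_u0 {h : Co0} (hh : h ∈ H) : h • lu0 = lu0 := hh

theorem act_in (g : ℕ) : ActsIn H (act g) := by
  match g with
  | 0 => exact acts0.actsIn mem0
  | 1 => exact acts1.actsIn mem1
  | _ + 2 => exact acts2.actsIn mem2

end Co3G
end Cfsg.Agent.Lib.CoVec
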