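import Mathlib
import Cfsg.Agent.Lib.CoTable
import Cfsg.Prelude.Def_Spor_Conway

set_option autoImplicit false
set_option linter.unusedVariables false

/-! An involution of the Higman-Sims group. -/

namespace Cfsg.Agent.Lib.CoVec

open Cfsg Cfsg.Agent.Lib.Golay
namespace HSInvG

def u0 : ℕ := 3273554710163973038051862976772086327662202646313320939905
theorem St_u0 : St u0 := St_of_stChk (by decide +kernel)
noncomputable def lu0 : leechLattice := ⟨dec u0, St_u0.2.1⟩

def w1 : ℕ := 3126242825074935125518216693126955430764702515478166208379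
theorem St_w1 : St w1 := St_of_stChk (by decide +kernel)
noncomputable def lw1 : leechLattice := ⟨dec w1, St_w1.2.1⟩

def p0 : ℕ := 963946252128054100692620113449923285
def p1 : ℕ := 182258586199035828042569650513610793
def p2 : ℕ := 976447496427140302716086382383188672
def p3 : ℕ := 213669254915215847199971774366484532
def p4 : ℕ := 978282029434924433646124927056693359
def m0 : ℕ := 5745988
def m1 : ℕ := 12685424
def m2 : ℕ := 6039282
def m3 : ℕ := 7619997
theorem h_p0 : isM24 p0 = true := by decide +kernel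
theorem h_p1 : isM24 p1 = true := by decide +kernel
theorem h_p2 : isM24 p2 = true := by decide +kernel
theorem h_p3 : isM24 p3 = true := by decide +kernel
theorem h_p4 : isM24 p4 = true := by decide +kernel
theorem hl_m0 : m0 < 2 ^ 24 := by decide +kernel
theorem hr_m0 : reduce m0 = 0 := by decide +kernel
theorem hl_m1 : m1 < 2 ^ 24 := by decide +kernel
theorem hr_m1 : reduce m1 = 0 := by decide +kernel
theorem hl_m2 : m2 < 2 ^ 24 := by decide +kernel
theorem hr_m2 : reduce m2 = 0 := by decide +kernel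
theorem hl_m3 : m3 < 2 ^ 24 := by decide +kernel
theorem hr_m3 : reduce m3 = 0 := by decide +kernel

/-- the action of the generators on codes -/
def act (g n : ℕ) : ℕ :=
  match g with
  | _ => actSign m3 (actPerm p4 (actXi (actSign m1 (actPerm p3 (actXi (actSign m2 (actPerm p2 (actXi (actSign m1 (actPerm p1 (actXi (actSign m0 (actPerm p0 n)))))))))))))

noncomputable def e0 : Co0 := signCo0 hl_m3 hr_m3 * (permCo0 h_p4 * (xiCo0 * (signCo0 hl_m1 hr_m1 * (permCo0 h_p3 * (xiCo0 * (signCo0 hl_m2 hr_m2 * (permCo0 h_p2 * (xiCo0 * (signCo0 hl_m1 hr_m1 * (permCo0 h_p1 * (xiCo0 * (signCo0 hl_m0 hr_m0 * (permCo0 h_p0)))))))))))))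
theorem act0_eq : act 0 = fun n => actSign m3 (actPerm p4 (actXi (actSign m1 (actPerm p3 (actXi (actSign m2 (actPerm p2 (actXi (actSign m1 (actPerm p1 (actXi (actSign m0 (actPerm p0 n))))))))))))) := rfl
theorem acts0 : ActsOn e0 (act 0) := by
  rw [act0_eq]
  exact ((actSign_acts hl_m3 hr_m3)).mul (((actPerm_acts h_p4)).mul ((actXi_acts).mul (((actSign_acts hl_m1 hr_m1)).mul (((actPerm_acts h_p3)).mul ((actXi_acts).mul (((actSign_acts hl_m2 hr_m2)).mul (((actPerm_acts h_p2)).mul ((actXi_acts).mul (((actSign_acts hl_m1 hr_m1)).mul (((actPerm_acts h_p1)).mul ((actXi_acts).mul (((actSign_acts hl_m0 hr_m0)).mul ((actPerm_acts h_p0))))))))))))))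

/-- the subgroup fixing the vectors -/
noncomputable def H : Subgroup Co0 := MulAction.stabilizer Co0 lu0 ⊓ MulAction.stabilizer Co0 lw1

theorem mem0 : e0 ∈ H := ⟨mem_stabilizer_of_acts acts0 St_u0 rfl (by decide +kernel), mem_stabilizer_of_acts acts0 St_w1 rfl (by decide +kernel)⟩
theorem fix_u0 {h : Co0} (hh : h ∈ H) : h • lu0 = lu0 := hh.1
theorem fix_w1 {h : Co0} (hh : h ∈ H) : h • lw1 = lw1 := hh.2

theorem act_in (g : ℕ) : ActsIn H (act g) := by
  match g with
  | _ + 0 => exact acts0.actsIn mem0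

end HSInvG
end Cfsg.Agent.Lib.CoVec
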