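import Mathlib

/-!
# Extensions through crossed homomorphisms on a coset space

Let `π : E → G` be a group homomorphism, `G` acting on `Ω`, `t : Ω → E` with `π (t ω) • ω = ω₀` and `σ` additive on
the preimage of the stabiliser of `ω₀`, with values in `ZMod 2`.  Then `φ e ω = σ (t ω * e * (t (π e⁻¹ • ω))⁻¹)` is a
crossed homomorphism of `E` into the functions on `Ω`.
-/

set_option autoImplicit false
set_option linter.unusedSectionVars false
set_option linter.unusedVariables false

namespace Cfsg.Agent.Lib.CoIndH2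

section Group

variable {E G Ω : Type*} [Group E] [Group G] [MulAction G Ω]

/-- The element of the preimage of the stabiliser attached to `e` and `ω`. -/
def key (π : E →* G) (t : Ω → E) (e : E) (ω : Ω) : E := t ω * e * (t ((π e)⁻¹ • ω))⁻¹

theorem key_mul (π : E →* G) (t : Ω → E) (e f : E) (ω : Ω) :
    key π t (e * f) ω = key π t e ω * key π t f ((π e)⁻¹ • ω) := by
  simp only [key, map_mul, mul_inv_rev, mul_smul]
  group

theorem key_one (π : E →* G) (t : Ω → E) (ω : Ω) : key π t 1 ω = 1 := by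
  simp [key]

theorem key_ker (π : E →* G) (t : Ω → E) {n : E} (hn : π n = 1) (ω : Ω) :
    key π t n ω = t ω * n * (t ω)⁻¹ := by
  simp [key, hn]

theorem key_smul (π : E →* G) (t : Ω → E) {ω₀ : Ω} (ht : ∀ ω, π (t ω) • ω = ω₀) (e : E) (ω : Ω) :
    π (key π t e ω) • ω₀ = ω₀ := by
  have h1 : (π (t ((π e)⁻¹ • ω)))⁻¹ • ω₀ = (π e)⁻¹ • ω := by
    rw [inv_smul_eq_iff, ht]
  simp only [key, map_mul, map_inv, mul_smul, h1, smul_inv_smul, ht]

/-- The data of a crossed homomorphism. -/
structure Frame (π : E →* G) (ω₀ : Ω) where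
  /-- the transversal -/
  t : Ω → E
  ht : ∀ ω, π (t ω) • ω = ω₀
  /-- the homomorphism on the preimage of the stabiliser -/
  σ : E → ZMod 2
  hσ : ∀ a b, π a • ω₀ = ω₀ → π b • ω₀ = ω₀ → σ (a * b) = σ a + σ b

variable {π : E →* G} {ω₀ : Ω}

theorem add_self_z (a : ZMod 2) : a + a = 0 := CharTwo.add_self_eq_zero a

theorem eq_of_add_z {a b : ZMod 2} (h : a + b = 0) : a = b := by
  have := add_self_z b
  have h2 : a + b + b = 0 + b := by rw [h]
  rw [add_assoc, this, add_zero, zero_add] at h2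
  exact h2

namespace Frame

variable (F : Frame π ω₀)

theorem σ_one : F.σ 1 = 0 := by
  have h := F.hσ 1 1 (by simp) (by simp)
  rw [mul_one] at h
  have h2 := add_self_z (F.σ 1)
  rw [← h] at h2
  exact h2

/-- The crossed homomorphism. -/
def phi (e : E) (ω : Ω) : ZMod 2 := F.σ (key π F.t e ω)

theorem phi_mul (e f : E) (ω : Ω) : F.phi (e * f) ω = F.phi e ω + F.phi f ((π e)⁻¹ • ω) := by
  simp only [phi, key_mul]
  exact F.hσ _ _ (key_smul π F.t F.ht _ _) (key_smul π F.t F.ht _ _)

theorem phi_one (ω : Ω) : F.phi 1 ω = 0 := by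
  simp only [phi, key_one]
  exact F.σ_one

theorem phi_ker {n : E} (hn : π n = 1) (ω : Ω) : F.phi n ω = F.σ (F.t ω * n * (F.t ω)⁻¹) := by
  simp only [phi, key_ker π F.t hn]

theorem phi_tree {e : E} {ω : Ω} (h : F.t ((π e)⁻¹ • ω) = F.t ω * e) : F.phi e ω = 0 := by
  simp only [phi, key, h]
  simp [F.σ_one]

/-- The sum over a finite set is additive. -/
theorem sum_phi_mul [Fintype Ω] (e f : E) :
    ∑ ω, F.phi (e * f) ω = ∑ ω, F.phi e ω + ∑ ω, F.phi f ω := by
  simp only [phi_mul, Finset.sum_add_distrib]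
  congr 1
  exact Fintype.sum_equiv (MulAction.toPerm (π e)⁻¹) _ _ (fun _ => rfl)

/-- The modification by a function on `Ω`. -/
def phi' (W : Ω → ZMod 2) (e : E) (ω : Ω) : ZMod 2 := F.phi e ω + W ((π e)⁻¹ • ω) + W ω

theorem phi'_mul (W : Ω → ZMod 2) (e f : E) (ω : Ω) :
    F.phi' W (e * f) ω = F.phi' W e ω + F.phi' W f ((π e)⁻¹ • ω) := by
  have h1 : (π (e * f))⁻¹ • ω = (π f)⁻¹ • (π e)⁻¹ • ω := by
    rw [map_mul, mul_inv_rev, mul_smul]
  simp only [phi', phi_mul, h1]
  have := add_self_z (W ((π e)⁻¹ • ω))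
  linear_combination -this

theorem phi'_one (W : Ω → ZMod 2) (ω : Ω) : F.phi' W 1 ω = 0 := by
  simp only [phi', phi_one, map_one, inv_one, one_smul, zero_add]
  exact add_self_z _

theorem phi'_ker (W : Ω → ZMod 2) {n : E} (hn : π n = 1) (ω : Ω) : F.phi' W n ω = F.phi n ω := by
  simp only [phi', hn, inv_one, one_smul]
  have := add_self_z (W ω)
  linear_combination this

theorem phi'_inv (W : Ω → ZMod 2) (e : E) (ω : Ω) : F.phi' W e⁻¹ ω = F.phi' W e ((π e) • ω) := by
  have h := F.phi'_mul W e e⁻¹ ((π e) • ω)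
  rw [mul_inv_cancel, phi'_one, inv_smul_smul] at h
  exact (eq_of_add_z h.symm).symm

/-- The elements on which the modified crossed homomorphism vanishes. -/
def zeroSet (W : Ω → ZMod 2) : Subgroup E where
  carrier := {e | ∀ ω, F.phi' W e ω = 0}
  mul_mem' := by
    intro a b ha hb ω
    rw [phi'_mul, ha, hb, add_zero]
  one_mem' := F.phi'_one W
  inv_mem' := by
    intro a ha ω
    rw [phi'_inv, ha]

theorem mem_zeroSet {W : Ω → ZMod 2} {e : E} : e ∈ F.zeroSet W ↔ ∀ ω, F.phi' W e ω = 0 := Iff.rfl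

/-- The complement: the elements `m⁻¹ x` lie in the zero set when `φ' x = φ m`. -/
theorem inv_mul_mem (W : Ω → ZMod 2) {x m : E} (hm : π m = 1)
    (h : ∀ ω, F.phi' W x ω = F.phi m ω) : m⁻¹ * x ∈ F.zeroSet W := by
  intro ω
  have h1 : π m⁻¹ = 1 := by rw [map_inv, hm, inv_one]
  rw [F.phi'_mul, h1, inv_one, one_smul, F.phi'_ker W h1, h]
  have h2 := F.phi_mul m m⁻¹ ω
  rw [mul_inv_cancel, F.phi_one, hm, inv_one, one_smul] at h2
  rw [add_comm]
  exact h2.symm

/-- A complement. -/
theorem complement {ι : Type*} (hπ : Function.Surjective π) (W : Ω → ZMod 2) (x m : ι → E)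
    (hm : ∀ j, π (m j) = 1) (h : ∀ j ω, F.phi' W (x j) ω = F.phi (m j) ω)
    (hgen : Subgroup.closure (Set.range fun j => π (x j)) = ⊤)
    (hinj : ∀ n, π n = 1 → (∀ ω, F.phi n ω = 0) → n = 1) :
    ∃ H : Subgroup E, H ⊓ π.ker = ⊥ ∧ H ⊔ π.ker = ⊤ := by
  refine ⟨F.zeroSet W, ?_, ?_⟩
  · rw [eq_bot_iff]
    rintro n ⟨h1, h2⟩
    have h3 : π n = 1 := h2
    rw [Subgroup.mem_bot]
    apply hinj n h3
    intro ω
    rw [← F.phi'_ker W h3]
    exact h1 ω
  · have h1 : (F.zeroSet W).map π = ⊤ := by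
      rw [eq_top_iff, ← hgen, Subgroup.closure_le]
      rintro _ ⟨j, rfl⟩
      refine ⟨(m j)⁻¹ * x j, F.inv_mul_mem W (hm j) (h j), ?_⟩
      simp [hm j]
    rw [eq_top_iff]
    intro e _
    have h2 : π e ∈ (F.zeroSet W).map π := by
      rw [h1]; trivial
    obtain ⟨y, hy, hye⟩ := h2
    have h3 : y⁻¹ * e ∈ π.ker := by
      rw [MonoidHom.mem_ker, map_mul, map_inv, hye, inv_mul_cancel]
    have h4 : e = y * (y⁻¹ * e) := by group
    rw [h4]
    exact Subgroup.mul_mem_sup hy h3

end Frame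

end Group

section D8
variable {X : Type*} [Group X]

/-- The elements generated by two involutions with product of order dividing four. -/
theorem dihedral_mem (a b : X) (ha : a * a = 1) (hb : b * b = 1) (hab : (a * b) * (a * b) * ((a * b) * (a * b)) = 1)
    {x : X} (hx : x ∈ Subgroup.closure ({a, b} : Set X)) :
    x = 1 ∨ x = a ∨ x = b ∨ x = a * b ∨ x = b * a ∨ x = a * b * a ∨ x = b * a * b ∨ x = a * b * a * b := by
  have hai : a⁻¹ = a := inv_eq_of_mul_eq_one_left ha
  have hbi : b⁻¹ = b := inv_eq_of_mul_eq_one_left hb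
  have hr : a * b * a * b = b * a * b * a := by
    have h1 : (a * b) * (a * b) = ((a * b) * (a * b))⁻¹ := eq_inv_of_mul_eq_one_left hab
    have h2 : ((a * b) * (a * b))⁻¹ = b * a * b * a := by
      simp only [mul_inv_rev, hai, hbi, mul_assoc]
    rw [h2] at h1
    rw [← h1, mul_assoc (a * b) a b]
  have step : ∀ y, (y = 1 ∨ y = a ∨ y = b ∨ y = a * b ∨ y = b * a ∨ y = a * b * a ∨ y = b * a * b ∨ y = a * b * a * b) →
      ((y * a = 1 ∨ y * a = a ∨ y * a = b ∨ y * a = a * b ∨ y * a = b * a ∨ y * a = a * b * a ∨ y * a = b * a * b ∨ y * a = a * b * a * b) ∧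
       (y * b = 1 ∨ y * b = a ∨ y * b = b ∨ y * b = a * b ∨ y * b = b * a ∨ y * b = a * b * a ∨ y * b = b * a * b ∨ y * b = a * b * a * b)) := by
    intro y hy
    have e1 : a * b * b = a := by rw [mul_assoc, hb, mul_one]
    have e2 : b * a * a = b := by rw [mul_assoc, ha, mul_one]
    have e3 : a * b * a * a = a * b := by rw [mul_assoc, ha, mul_one]
    have e4 : b * a * b * b = b * a := by rw [mul_assoc, hb, mul_one]
    have e5 : a * b * a * b * b = a * b * a := by rw [mul_assoc, hb, mul_one]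
    have e6 : a * b * a * b * a = b * a * b := by rw [hr, mul_assoc, ha, mul_one]
    rcases hy with rfl | rfl | rfl | rfl | rfl | rfl | rfl | rfl
    · simp
    · simp [ha]
    · simp [hb]
    · exact ⟨Or.inr (Or.inr (Or.inr (Or.inr (Or.inr (Or.inl rfl))))), Or.inr (Or.inl e1)⟩
    · exact ⟨Or.inr (Or.inr (Or.inl e2)), Or.inr (Or.inr (Or.inr (Or.inr (Or.inr (Or.inr (Or.inl rfl))))))⟩
    · exact ⟨Or.inr (Or.inr (Or.inr (Or.inl e3))), Or.inr (Or.inr (Or.inr (Or.inr (Or.inr (Or.inr (Or.inr rfl))))))⟩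
    · refine ⟨Or.inr (Or.inr (Or.inr (Or.inr (Or.inr (Or.inr (Or.inr hr.symm)))))), Or.inr (Or.inr (Or.inr (Or.inr (Or.inl e4))))⟩
    · exact ⟨Or.inr (Or.inr (Or.inr (Or.inr (Or.inr (Or.inr (Or.inl e6)))))), Or.inr (Or.inr (Or.inr (Or.inr (Or.inr (Or.inl e5)))))⟩
  induction hx using Subgroup.closure_induction_right with
  | one => simp
  | mul_right y _ z hz hy =>
    rcases hz with rfl | hz
    · exact (step y hy).1
    · rw [Set.mem_singleton_iff] at hz
      subst hz
      exact (step y hy).2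
  | mul_inv_cancel y _ z hz hy =>
    rcases hz with rfl | hz
    · rw [hai]
      exact (step y hy).1
    · rw [Set.mem_singleton_iff] at hz
      subst hz
      rw [hbi]
      exact (step y hy).2


end D8

/-- A homomorphism on a central extension of a dihedral group of order eight. -/
theorem local_hom {E₁ G : Type*} [Group E₁] [Group G] (π₁ : E₁ →* G) (lam : E₁ → ZMod 2)
    (hadd : ∀ m n, π₁ m = 1 → π₁ n = 1 → lam (m * n) = lam m + lam n)
    (hconj : ∀ g n, π₁ n = 1 → lam (g * n * g⁻¹) = lam n)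
    (a b : E₁) (ha : π₁ (a * a) = 1) (hb : π₁ (b * b) = 1)
    (hab : π₁ ((a * b) * (a * b) * ((a * b) * (a * b))) = 1)
    (ha0 : lam (a * a) = 0) (hb0 : lam (b * b) = 0) (hab0 : lam ((a * b) * (a * b) * ((a * b) * (a * b))) = 0)
    (hsurj : ∀ e, ∃ y ∈ Subgroup.closure ({a, b} : Set E₁), π₁ y = π₁ e)
    (hne : π₁ a ≠ 1 ∧ π₁ b ≠ 1 ∧ π₁ (a * b) ≠ 1 ∧ π₁ (b * a) ≠ 1 ∧ π₁ (a * b * a) ≠ 1 ∧ π₁ (b * a * b) ≠ 1 ∧
      π₁ (a * b * a * b) ≠ 1) :
    ∃ σ : E₁ → ZMod 2, (∀ x y, σ (x * y) = σ x + σ y) ∧ ∀ n, π₁ n = 1 → σ n = lam n := by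
  have hone : lam 1 = 0 := by
    have h := hadd 1 1 (map_one _) (map_one _)
    rw [mul_one] at h
    have h2 := CharTwo.add_self_eq_zero (lam 1)
    rw [← h] at h2
    exact h2
  have hinv : ∀ n, π₁ n = 1 → lam n⁻¹ = lam n := by
    intro n hn
    have h := hadd n n⁻¹ hn (by rw [map_inv, hn, inv_one])
    rw [mul_inv_cancel, hone] at h
    have h2 := CharTwo.add_self_eq_zero (lam n)
    have h3 : lam n + lam n⁻¹ + lam n = 0 + lam n := by rw [← h]
    rw [add_right_comm, h2, zero_add, zero_add] at h3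
    exact h3
  -- the normal subgroup
  let L : Subgroup E₁ :=
    { carrier := {n | π₁ n = 1 ∧ lam n = 0}
      mul_mem' := by
        rintro x y ⟨h1, h2⟩ ⟨h3, h4⟩
        exact ⟨by rw [map_mul, h1, h3, one_mul], by rw [hadd x y h1 h3, h2, h4, add_zero]⟩
      one_mem' := ⟨map_one _, hone⟩
      inv_mem' := by
        rintro x ⟨h1, h2⟩
        exact ⟨by rw [map_inv, h1, inv_one], by rw [hinv x h1, h2]⟩ }
  have hLn : L.Normal := by
    constructor
    rintro n ⟨h1, h2⟩ g
    refine ⟨by rw [map_mul, map_mul, h1, mul_one, map_inv, mul_inv_cancel], ?_⟩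
    rw [hconj g n h1, h2]
  let mkL : E₁ →* E₁ ⧸ L := QuotientGroup.mk' L
  let piBar : E₁ ⧸ L →* G := QuotientGroup.lift L π₁ (fun x hx => hx.1)
  have hpb : ∀ x, piBar (mkL x) = π₁ x := fun x => rfl
  have hmk1 : ∀ x, x ∈ L → mkL x = 1 := fun x hx => (QuotientGroup.eq_one_iff x).2 hx
  have hA : mkL a * mkL a = 1 := by
    rw [← map_mul]
    exact hmk1 _ ⟨ha, ha0⟩
  have hB : mkL b * mkL b = 1 := by
    rw [← map_mul]
    exact hmk1 _ ⟨hb, hb0⟩
  have hAB : (mkL a * mkL b) * (mkL a * mkL b) * ((mkL a * mkL b) * (mkL a * mkL b)) = 1 := by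
    simp only [← map_mul]
    exact hmk1 _ ⟨hab, hab0⟩
  -- the key fact
  have key : ∀ y ∈ Subgroup.closure ({a, b} : Set E₁), π₁ y = 1 → lam y = 0 := by
    intro y hy hy1
    have h1 : mkL y ∈ Subgroup.closure ({mkL a, mkL b} : Set (E₁ ⧸ L)) := by
      have h2 : mkL y ∈ (Subgroup.closure ({a, b} : Set E₁)).map mkL := Subgroup.mem_map_of_mem _ hy
      rw [MonoidHom.map_closure] at h2
      have h3 : mkL '' ({a, b} : Set E₁) = {mkL a, mkL b} := Set.image_pair _ _ _
      rwa [h3] at h2
    have h2 := dihedral_mem _ _ hA hB hAB h1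
    have h3 : piBar (mkL y) = 1 := by rw [hpb, hy1]
    have h4 : mkL y = 1 := by
      obtain ⟨n1, n2, n3, n4, n5, n6, n7⟩ := hne
      rcases h2 with h | h | h | h | h | h | h | h
      · exact h
      · rw [h, hpb] at h3; exact absurd h3 n1
      · rw [h, hpb] at h3; exact absurd h3 n2
      · rw [h, ← map_mul, hpb] at h3; exact absurd h3 n3
      · rw [h, ← map_mul, hpb] at h3; exact absurd h3 n4
      · rw [h, ← map_mul, ← map_mul, hpb] at h3; exact absurd h3 n5
      · rw [h, ← map_mul, ← map_mul, hpb] at h3; exact absurd h3 n6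
      · rw [h, ← map_mul, ← map_mul, ← map_mul, hpb] at h3; exact absurd h3 n7
    have h5 : y ∈ L := (QuotientGroup.eq_one_iff y).1 h4
    exact h5.2
  -- the homomorphism
  choose y hyc hyp using hsurj
  have hn : ∀ e, π₁ ((y e)⁻¹ * e) = 1 := by
    intro e
    rw [map_mul, map_inv, hyp, inv_mul_cancel]
  have huniq : ∀ e z, z ∈ Subgroup.closure ({a, b} : Set E₁) → π₁ z = π₁ e → lam (z⁻¹ * e) = lam ((y e)⁻¹ * e) := by
    intro e z hz hzp
    have h1 : z⁻¹ * e = (z⁻¹ * y e) * ((y e)⁻¹ * e) := by group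
    have h2 : π₁ (z⁻¹ * y e) = 1 := by
      rw [map_mul, map_inv, hyp, hzp, inv_mul_cancel]
    rw [h1, hadd _ _ h2 (hn e), key _ (mul_mem (inv_mem hz) (hyc e)) h2, zero_add]
  refine ⟨fun e => lam ((y e)⁻¹ * e), ?_, ?_⟩
  · intro e f
    have h1 := huniq (e * f) (y e * y f) (mul_mem (hyc e) (hyc f)) (by rw [map_mul, map_mul, hyp, hyp])
    simp only
    rw [← h1]
    have h2 : (y e * y f)⁻¹ * (e * f) = ((y f)⁻¹ * ((y e)⁻¹ * e) * ((y f)⁻¹)⁻¹) * ((y f)⁻¹ * f) := by group
    have h3 : π₁ ((y f)⁻¹ * ((y e)⁻¹ * e) * ((y f)⁻¹)⁻¹) = 1 := by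
      rw [map_mul, map_mul, hn e, mul_one]
      simp
    rw [h2, hadd _ _ h3 (hn f), hconj _ _ (hn e)]
  · intro n hn1
    simp only
    rw [← huniq n 1 (one_mem _) (by rw [map_one, hn1]), inv_one, one_mul]

/-- The transfer to a subgroup of odd index. -/
theorem transfer_hom {E G : Type*} [Group E] [Group G] (π : E →* G) (hπ : Function.Surjective π) (P : Subgroup G)
    [Finite (G ⧸ P)] (hodd : Odd (Nat.card (G ⧸ P))) (σP : E → ZMod 2)
    (hσP : ∀ a b, π a ∈ P → π b ∈ P → σP (a * b) = σP a + σP b) (lam : E → ZMod 2)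
    (hσN : ∀ n, π n = 1 → σP n = lam n) (hconj : ∀ g n, π n = 1 → lam (g * n * g⁻¹) = lam n) :
    ∃ τ : E → ZMod 2, (∀ x y, τ (x * y) = τ x + τ y) ∧ ∀ n, π n = 1 → τ n = lam n := by
  classical
  letI : Fintype (G ⧸ P) := Fintype.ofFinite _
  let ω₀ : G ⧸ P := QuotientGroup.mk 1
  have hmem : ∀ g : G, g • ω₀ = ω₀ → g ∈ P := by
    intro g h
    have h1 : (QuotientGroup.mk (g * 1) : G ⧸ P) = QuotientGroup.mk 1 := h
    rw [QuotientGroup.eq] at h1
    simpa using h1
  let F : Frame π ω₀ :=
    { t := fun ω => Function.surjInv hπ (Quotient.out ω)⁻¹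
      ht := by
        intro ω
        rw [Function.surjInv_eq hπ]
        have h0 : (QuotientGroup.mk (Quotient.out ω) : G ⧸ P) = ω := QuotientGroup.out_eq' ω
        calc (Quotient.out ω)⁻¹ • ω = (Quotient.out ω)⁻¹ • (QuotientGroup.mk (Quotient.out ω) : G ⧸ P) := by rw [h0]
          _ = QuotientGroup.mk ((Quotient.out ω)⁻¹ * Quotient.out ω) := rfl
          _ = ω₀ := by rw [inv_mul_cancel]
      σ := σP
      hσ := fun a b ha hb => hσP a b (hmem _ ha) (hmem _ hb) }
  refine ⟨fun e => ∑ ω, F.phi e ω, fun x y => F.sum_phi_mul x y, ?_⟩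
  intro n hn
  have h1 : ∀ ω, F.phi n ω = lam n := by
    intro ω
    rw [F.phi_ker hn]
    have h2 : π (F.t ω * n * (F.t ω)⁻¹) = 1 := by
      rw [map_mul, map_mul, hn, mul_one, map_inv, mul_inv_cancel]
    show σP _ = _
    rw [hσN _ h2, hconj _ _ hn]
  simp only [h1, Finset.sum_const, Finset.card_univ]
  rw [← Nat.card_eq_fintype_card]
  obtain ⟨k, hk⟩ := hodd
  rw [hk, add_smul, one_smul, mul_smul, two_smul, add_self_z, zero_add]

/-! ### Linear systems over the field with two elements -/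

section Linear

/-- A field of a table. -/
def look (w m T i : ℕ) : ℕ := Nat.land (Nat.shiftRight T (Nat.mul w i)) m

/-- A plain loop. -/
def allN (P : ℕ → Bool) (n : ℕ) : Bool := Nat.rec true (fun m ih => cond (P m) ih false) n

theorem of_allN {P : ℕ → Bool} {n : ℕ} (h : allN P n = true) : ∀ q, q < n → P q = true := by
  induction n with
  | zero => intro q hq; omega
  | succ n ih =>
    have h1 : cond (P n) (allN P n) false = true := h
    cases h2 : P n with
    | false =>
      rw [h2] at h1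
      exact absurd h1 (by simp)
    | true =>
      rw [h2] at h1
      intro q hq
      rcases Nat.lt_succ_iff_lt_or_eq.mp hq with h3 | rfl
      · exact ih h1 q h3
      · exact h2

/-- Chunks of a loop. -/
theorem of_blocks {P : ℕ → Bool} (s k : ℕ) (hs : 0 < s)
    (h : ∀ c, c < k → allN (fun i => P (c * s + i)) s = true) :
    ∀ x, x < k * s → P x = true := by
  intro x hx
  have h0 : x / s < k := by
    apply Nat.div_lt_of_lt_mul
    rwa [Nat.mul_comm]
  have h1 := of_allN (h (x / s) h0) (x % s) (Nat.mod_lt _ hs)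
  have h2 : x / s * s + x % s = x := Nat.div_add_mod' x s
  rwa [h2] at h1

/-- The pairing of a mask with a vector. -/
noncomputable def dot (B m : ℕ) (P : ℕ → ZMod 2) : ZMod 2 :=
  ∑ k ∈ Finset.range B, if m.testBit k = true then P k else 0

theorem dot_zero (B : ℕ) (P : ℕ → ZMod 2) : dot B 0 P = 0 := by
  simp [dot]

theorem dot_xor (B a b : ℕ) (P : ℕ → ZMod 2) :
    dot B (Nat.xor a b) P = dot B a P + dot B b P := by
  simp only [dot, ← Finset.sum_add_distrib]
  apply Finset.sum_congr rfl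
  intro k _
  have h : (Nat.xor a b).testBit k = (a.testBit k ^^ b.testBit k) := Nat.testBit_xor a b k
  rw [h]
  cases a.testBit k <;> cases b.testBit k <;> simp [add_self_z]

theorem dot_pow (B k : ℕ) (hk : k < B) (P : ℕ → ZMod 2) : dot B (2 ^ k) P = P k := by
  simp only [dot, Nat.testBit_two_pow]
  rw [Finset.sum_eq_single k]
  · simp
  · intro b _ hb
    have : decide (k = b) = false := by
      simp [Ne.symm hb]
    simp [this]
  · intro h
    exact absurd (Finset.mem_range.mpr hk) h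

/-- The xor of the masks along a list. -/
def xorL (M : ℕ → ℕ) : List ℕ → ℕ
  | [] => 0
  | a :: l => Nat.xor (M a) (xorL M l)

theorem dot_xorL (B : ℕ) (M : ℕ → ℕ) (P : ℕ → ZMod 2) (l : List ℕ) :
    dot B (xorL M l) P = (l.map fun a => dot B (M a) P).sum := by
  induction l with
  | nil => simp [xorL, dot_zero]
  | cons a l ih =>
    show dot B (Nat.xor (M a) (xorL M l)) P = _
    rw [dot_xor, ih]
    simp

theorem dot_shift (B p s : ℕ) (hp : p < 2 ^ 11) (hs : s + 11 ≤ B) (P : ℕ → ZMod 2) :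
    dot B (Nat.shiftLeft p s) P = ∑ b ∈ Finset.range 11, if p.testBit b = true then P (s + b) else 0 := by
  have h0 : ∀ k, (Nat.shiftLeft p s).testBit k = (decide (k ≥ s) && p.testBit (k - s)) := by
    intro k
    have : Nat.shiftLeft p s = p <<< s := rfl
    rw [this, Nat.testBit_shiftLeft]
  unfold dot
  simp only [h0]
  have h1 : (Finset.range 11).image (fun b => s + b) ⊆ Finset.range B := by
    intro k hk
    simp only [Finset.mem_image, Finset.mem_range] at hk ⊢
    obtain ⟨b, hb, rfl⟩ := hk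
    omega
  rw [← Finset.sum_subset h1]
  · rw [Finset.sum_image (by intro a _ b _ h; simpa using h)]
    apply Finset.sum_congr rfl
    intro b _
    simp
  · intro k hk hk2
    by_cases h2 : k ≥ s
    · have h3 : p.testBit (k - s) = false := by
        apply Nat.testBit_lt_two_pow
        have h4 : k - s ≥ 11 := by
          by_contra h5
          apply hk2
          simp only [Finset.mem_image, Finset.mem_range]
          exact ⟨k - s, by omega, by omega⟩
        exact lt_of_lt_of_le hp (Nat.pow_le_pow_right (by norm_num) h4)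
      simp [h3]
    · simp [h2]

/-- Force the evaluation of a number in the kernel. -/
def letN {α : Type} (n : ℕ) (k : ℕ → α) : α := Nat.rec (k 0) (fun m _ => k (Nat.succ m)) n

theorem letN_eq {α : Type} (n : ℕ) (k : ℕ → α) : letN n k = k n := by
  cases n <;> rfl

/-- The data of a linear system attached to three generators acting on `n` cosets. -/
structure Sys where
  /-- the number of cosets -/
  n : ℕ
  /-- the width of the masks -/
  B : ℕ
  /-- the number of free edges -/
  F : ℕ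
  /-- the number of relators -/
  R : ℕ
  /-- the number of rows -/
  NR : ℕ
  /-- the action -/
  TT : ℕ
  /-- the relators -/
  rel : ℕ → List ℕ
  /-- the pattern of a coset -/
  pat : ℕ → ℕ
  /-- the masks of the edges -/
  ma : ℕ → ℕ
  /-- the position of an edge in the chain -/
  OT : ℕ
  /-- how an edge is obtained -/
  HT : ℕ
  /-- the tree -/
  PT : ℕ
  /-- the free edges -/
  FT : ℕ
  /-- the rows -/
  RT : ℕ
  /-- the origin of the rows -/
  RS : ℕ
  /-- the combination for the rows -/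
  RU : ℕ
  /-- the pivot of the rows -/
  RP : ℕ
  /-- the masks of the function -/
  ww : ℕ → ℕ
  /-- the masks of the coordinates -/
  YT : ℕ
  /-- the extra solution -/
  ET : ℕ
  /-- the mask of the extra coordinate -/
  EM : ℕ

namespace Sys

variable (D : Sys)

/-- The mask of all ones. -/
def full : ℕ := Nat.pred (Nat.shiftLeft 1 D.B)

/-- The action of a generator on a coset. -/
def tb (i j : ℕ) : ℕ := look 12 4095 D.TT (Nat.add (Nat.mul 3 i) j)

/-- The edges along a word. -/
def trc : List ℕ → ℕ → List ℕ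
  | [], _ => []
  | j :: w, i => Nat.add (Nat.mul 3 i) j :: trc w (D.tb i j)

/-- The position of an edge. -/
def ord (e : ℕ) : ℕ := look 14 16383 D.OT e

/-- The parent edge of a coset. -/
def pe (v : ℕ) : ℕ := look 14 16383 D.PT v

/-- A free edge. -/
def fe (p : ℕ) : ℕ := look 14 16383 D.FT p

/-- The mask of the value of a relator on a coset. -/
def uf (r i : ℕ) : ℕ := Nat.shiftLeft (D.pat i) (Nat.add D.F (Nat.mul 11 r))

/-- The number of occurrences of an edge. -/
def cnt (e : ℕ) : List ℕ → ℕ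
  | [] => 0
  | a :: l => cond (Nat.beq a e) (Nat.succ (cnt e l)) (cnt e l)

/-- The edges of the list are edges, and the ones other than `e` precede it. -/
def okL (e oe : ℕ) : List ℕ → Bool
  | [] => true
  | a :: l => Nat.blt a (Nat.mul 3 D.n) && (Nat.beq a e || Nat.blt (D.ord a) oe) && okL e oe l

/-- The constraint of a relator on a coset. -/
def rowC (r i : ℕ) : ℕ := Nat.xor (xorL D.ma (D.trc (D.rel r) i)) (D.uf r i)

/-- The check of a tree edge. -/
def treeOK (e : ℕ) : Bool :=
  letN (D.tb (Nat.div e 3) (Nat.mod e 3)) fun v =>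
  Nat.beq (D.ma e) 0 && Nat.beq (D.pe v) e && Nat.blt 0 v && Nat.blt v D.n

/-- The check of a free edge. -/
def freeOK (e p : ℕ) : Bool :=
  Nat.blt p D.F && Nat.beq (D.ma e) (Nat.shiftLeft 1 p) && Nat.beq (D.fe p) e

/-- The check of a deduced edge. -/
def dedOK (e r i : ℕ) : Bool :=
  Nat.blt r D.R && Nat.blt i D.n &&
  (let L := D.trc (D.rel r) i
   Nat.beq (cnt e L) 1 && D.okL e (D.ord e) L && Nat.beq (D.rowC r i) 0)

/-- The check of an edge. -/
def chkE (e : ℕ) : Bool :=
  letN (look 20 1048575 D.HT e) fun h =>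
  letN (Nat.land h 3) fun k =>
  letN (Nat.shiftRight h 2) fun a =>
  cond (Nat.beq k 0) (D.treeOK e)
    (cond (Nat.beq k 1) (D.freeOK e a)
      (D.dedOK e (Nat.land a 63) (Nat.shiftRight a 6)))

/-- A row. -/
def rho (k : ℕ) : ℕ := look D.B D.full D.RT k

/-- A bit. -/
def bitN (T q : ℕ) : ℕ := Nat.land (Nat.shiftRight T q) 1

/-- The combination of the earlier rows. -/
def subX (U k : ℕ) : ℕ :=
  Nat.rec 0 (fun l ih => cond (Nat.beq (bitN U l) 1) (Nat.xor (D.rho l) ih) ih) k

/-- The check of a row. -/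
def rowOK (k : ℕ) : Bool :=
  letN (look 20 1048575 D.RS k) fun s =>
  letN (Nat.land s 63) fun r =>
  letN (Nat.shiftRight s 6) fun i =>
  Nat.blt r D.R && Nat.blt i D.n && D.okL (Nat.mul 3 D.n) 16384 (D.trc (D.rel r) i) &&
    Nat.beq (D.rho k) (Nat.xor (D.rowC r i) (D.subX (look D.NR (Nat.pred (Nat.shiftLeft 1 D.NR)) D.RU k) k))

/-- Reduction by the first rows. -/
def redk (m k : ℕ) : ℕ :=
  Nat.rec m (fun l ih => cond (Nat.beq (bitN ih (look 10 1023 D.RP l)) 1) (Nat.xor ih (D.rho l)) ih) k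

/-- Reduction by the rows. -/
def red (m : ℕ) : ℕ := D.redk m D.NR

/-- The mask of the value of a coordinate. -/
def yy (j b : ℕ) : ℕ := look D.B D.full D.YT (Nat.add (Nat.mul 11 j) b)

/-- The combination of the first coordinates along a pattern. -/
def yXk (j p k : ℕ) : ℕ :=
  Nat.rec 0 (fun b ih => cond (Nat.beq (bitN p b) 1) (Nat.xor (D.yy j b) ih) ih) k

/-- The combination of the coordinates along a pattern. -/
def yX (j p : ℕ) : ℕ := D.yXk j p 11

/-- The final check for an edge. -/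
def finOK (e : ℕ) : Bool :=
  letN (Nat.div e 3) fun i =>
  letN (Nat.mod e 3) fun j =>
  letN (Nat.xor (D.ma e) (Nat.xor (D.yX j (D.pat i)) (Nat.xor (D.ww (D.tb i j)) (D.ww i)))) fun m =>
  Nat.beq (D.red (cond (Nat.beq (bitN D.ET e) 1) (Nat.xor m D.EM) m)) 0

/-- The check of an edge, also beyond the last one. -/
def chkE2 (e : ℕ) : Bool := Nat.ble (Nat.mul 3 D.n) e || D.chkE e

/-- The final check of an edge, also beyond the last one. -/
def finOK2 (e : ℕ) : Bool := Nat.ble (Nat.mul 3 D.n) e || D.finOK e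

theorem chkE_of_2 {e : ℕ} (he : e < 3 * D.n) (h : D.chkE2 e = true) : D.chkE e = true := by
  have h1 : Nat.ble (Nat.mul 3 D.n) e = false := by
    cases h2 : Nat.ble (Nat.mul 3 D.n) e with
    | false => rfl
    | true =>
      have : 3 * D.n ≤ e := Nat.le_of_ble_eq_true h2
      omega
  have h2 : (Nat.ble (Nat.mul 3 D.n) e || D.chkE e) = true := h
  rwa [h1, Bool.false_or] at h2

theorem finOK_of_2 {e : ℕ} (he : e < 3 * D.n) (h : D.finOK2 e = true) : D.finOK e = true := by
  have h1 : Nat.ble (Nat.mul 3 D.n) e = false := by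
    cases h2 : Nat.ble (Nat.mul 3 D.n) e with
    | false => rfl
    | true =>
      have : 3 * D.n ≤ e := Nat.le_of_ble_eq_true h2
      omega
  have h2 : (Nat.ble (Nat.mul 3 D.n) e || D.finOK e) = true := h
  rwa [h1, Bool.false_or] at h2

/-- The parameters of the system. -/
noncomputable def par (A : ℕ → ZMod 2) (Ub : ℕ → ℕ → ZMod 2) (k : ℕ) : ZMod 2 :=
  if k < D.F then A (D.fe k) else Ub ((k - D.F) / 11) ((k - D.F) % 11)

theorem par_rel (A : ℕ → ZMod 2) (Ub : ℕ → ℕ → ZMod 2) {r b : ℕ} (hb : b < 11) :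
    D.par A Ub (D.F + 11 * r + b) = Ub r b := by
  have h1 : ¬ (D.F + 11 * r + b < D.F) := by omega
  have h2 : (D.F + 11 * r + b - D.F) / 11 = r := by omega
  have h3 : (D.F + 11 * r + b - D.F) % 11 = b := by omega
  rw [par, if_neg h1, h2, h3]

/-- The facts on the data. -/
structure Good : Prop where
  hpat : ∀ i, i < D.n → D.pat i < 2 ^ 11
  hB : D.F + 11 * D.R ≤ D.B
  hE : ∀ e, e < 3 * D.n → D.chkE e = true
  hRow : ∀ k, k < D.NR → D.rowOK k = true
  hFin : ∀ e, e < 3 * D.n → D.finOK e = true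

theorem dot_uf (hp : ∀ i, i < D.n → D.pat i < 2 ^ 11) (hB : D.F + 11 * D.R ≤ D.B) (A : ℕ → ZMod 2)
    (Ub : ℕ → ℕ → ZMod 2) {r i : ℕ} (hr : r < D.R) (hi : i < D.n) :
    dot D.B (D.uf r i) (D.par A Ub) =
      ∑ b ∈ Finset.range 11, if (D.pat i).testBit b = true then Ub r b else 0 := by
  have h1 : D.uf r i = Nat.shiftLeft (D.pat i) (D.F + 11 * r) := rfl
  have h2 : 11 * (r + 1) ≤ 11 * D.R := Nat.mul_le_mul_left _ hr
  rw [h1, dot_shift _ _ _ (hp i hi) (by omega)]
  apply Finset.sum_congr rfl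
  intro b hb
  rw [D.par_rel A Ub (Finset.mem_range.mp hb)]

theorem beq_eq {a b : ℕ} (h : Nat.beq a b = true) : a = b := Nat.eq_of_beq_eq_true h

theorem blt_lt {a b : ℕ} (h : Nat.blt a b = true) : a < b := Nat.le_of_ble_eq_true h

theorem sum_split (A : ℕ → ZMod 2) (P : ℕ → ZMod 2) (e : ℕ) (L : List ℕ)
    (h : ∀ a ∈ L, a = e ∨ A a = dot D.B (D.ma a) P) :
    (L.map A).sum = dot D.B (xorL D.ma L) P + (cnt e L : ZMod 2) * (A e + dot D.B (D.ma e) P) := by
  induction L with
  | nil => simp [xorL, cnt, dot_zero]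
  | cons a l ih =>
    have h1 := ih (fun x hx => h x (List.mem_cons_of_mem _ hx))
    have h2 : dot D.B (xorL D.ma (a :: l)) P = dot D.B (D.ma a) P + dot D.B (xorL D.ma l) P := dot_xor _ _ _ _
    rw [List.map_cons, List.sum_cons, h1, h2]
    by_cases hae : a = e
    · subst hae
      have h3 : cnt a (a :: l) = Nat.succ (cnt a l) := by
        simp [cnt]
      rw [h3]
      push_cast
      have h4 := add_self_z (dot D.B (D.ma a) P)
      linear_combination -h4
    · have h3 : cnt e (a :: l) = cnt e l := by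
        have : Nat.beq a e = false := by
          cases h5 : Nat.beq a e with
          | false => rfl
          | true => exact absurd (beq_eq h5) hae
        simp [cnt, this]
      rw [h3]
      have h4 : A a = dot D.B (D.ma a) P := (h a (List.mem_cons_self)).resolve_left hae
      rw [h4]
      ring

theorem of_okL {e oe : ℕ} {L : List ℕ} (h : D.okL e oe L = true) :
    ∀ a ∈ L, a < 3 * D.n ∧ (a = e ∨ D.ord a < oe) := by
  induction L with
  | nil => simp
  | cons a l ih =>
    simp only [okL, Bool.and_eq_true, Bool.or_eq_true] at h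
    intro x hx
    rcases List.mem_cons.mp hx with rfl | hx
    · refine ⟨blt_lt h.1.1, ?_⟩
      rcases h.1.2 with h3 | h3
      · exact Or.inl (beq_eq h3)
      · exact Or.inr (blt_lt h3)
    · exact ih h.2 x hx

theorem sum_of_good (A : ℕ → ZMod 2) (P : ℕ → ZMod 2) (L : List ℕ)
    (h : ∀ a ∈ L, A a = dot D.B (D.ma a) P) :
    (L.map A).sum = dot D.B (xorL D.ma L) P := by
  rw [dot_xorL]
  congr 1
  apply List.map_congr_left
  exact h

section Sound

variable {D} (hD : D.Good) (A : ℕ → ZMod 2) (Ub : ℕ → ℕ → ZMod 2)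
  (hrel : ∀ r i, r < D.R → i < D.n →
    ((D.trc (D.rel r) i).map A).sum = ∑ b ∈ Finset.range 11, if (D.pat i).testBit b = true then Ub r b else 0)
  (htree : ∀ v, 0 < v → v < D.n → A (D.pe v) = 0)

include hD hrel htree

theorem edges_good : ∀ e, e < 3 * D.n → A e = dot D.B (D.ma e) (D.par A Ub) := by
  have key : ∀ m e, D.ord e = m → e < 3 * D.n → A e = dot D.B (D.ma e) (D.par A Ub) := by
    intro m
    induction m using Nat.strong_induction_on with
    | _ m ih =>
      intro e he hlt
      have h1 := hD.hE e hlt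
      simp only [chkE, letN_eq] at h1
      cases h2 : Nat.beq (Nat.land (look 20 1048575 D.HT e) 3) 0 with
      | true =>
        rw [h2] at h1
        have h3 : D.treeOK e = true := h1
        simp only [treeOK, letN_eq, Bool.and_eq_true] at h3
        obtain ⟨⟨⟨h4, h5⟩, h6⟩, h7⟩ := h3
        rw [beq_eq h4, dot_zero, ← beq_eq h5]
        exact htree _ (blt_lt h6) (blt_lt h7)
      | false =>
        rw [h2] at h1
        cases h3 : Nat.beq (Nat.land (look 20 1048575 D.HT e) 3) 1 with
        | true =>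
          rw [h3] at h1
          have h4 : D.freeOK e (Nat.shiftRight (look 20 1048575 D.HT e) 2) = true := h1
          simp only [freeOK, Bool.and_eq_true] at h4
          obtain ⟨⟨h5, h6⟩, h7⟩ := h4
          have h8 := blt_lt h5
          rw [beq_eq h6]
          have h9 : Nat.shiftLeft 1 (Nat.shiftRight (look 20 1048575 D.HT e) 2)
              = 2 ^ (Nat.shiftRight (look 20 1048575 D.HT e) 2) := by
            rw [show ∀ a b, Nat.shiftLeft a b = a <<< b from fun _ _ => rfl, Nat.shiftLeft_eq, one_mul]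
          rw [h9, dot_pow _ _ (by have := hD.hB; omega), par, if_pos h8, beq_eq h7]
        | false =>
          rw [h3] at h1
          have h4 : D.dedOK e (Nat.land (Nat.shiftRight (look 20 1048575 D.HT e) 2) 63)
              (Nat.shiftRight (Nat.shiftRight (look 20 1048575 D.HT e) 2) 6) = true := h1
          generalize Nat.land (Nat.shiftRight (look 20 1048575 D.HT e) 2) 63 = r at h4
          generalize Nat.shiftRight (Nat.shiftRight (look 20 1048575 D.HT e) 2) 6 = i at h4
          simp only [dedOK, Bool.and_eq_true] at h4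
          obtain ⟨⟨h5, h6⟩, ⟨h7, h8⟩, h9⟩ := h4
          have hr := blt_lt h5
          have hi := blt_lt h6
          have hc : cnt e (D.trc (D.rel r) i) = 1 := beq_eq h7
          have hL := D.of_okL h8
          have h10 := D.sum_split A (D.par A Ub) e (D.trc (D.rel r) i) (by
            intro a ha
            rcases (hL a ha).2 with h11 | h11
            · exact Or.inl h11
            · rw [he] at h11
              exact Or.inr (ih _ h11 a rfl (hL a ha).1))
          rw [hc, hrel r i hr hi, ← D.dot_uf hD.hpat hD.hB A Ub hr hi] at h10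
          have h12 : dot D.B (D.rowC r i) (D.par A Ub) = 0 := by
            rw [beq_eq h9, dot_zero]
          have h13 : dot D.B (xorL D.ma (D.trc (D.rel r) i)) (D.par A Ub) + dot D.B (D.uf r i) (D.par A Ub) = 0 := by
            rw [← h12]
            exact (dot_xor _ _ _ _).symm
          have h14 := eq_of_add_z h13
          rw [h14] at h10
          simp only [Nat.cast_one, one_mul] at h10
          have h15 : A e + dot D.B (D.ma e) (D.par A Ub) = 0 := by
            linear_combination -h10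
          exact eq_of_add_z h15
  intro e he
  exact key _ e rfl he

theorem dot_rowC {r i : ℕ} (hr : r < D.R) (hi : i < D.n)
    (hL : ∀ a ∈ D.trc (D.rel r) i, a < 3 * D.n) : dot D.B (D.rowC r i) (D.par A Ub) = 0 := by
  have h1 : ((D.trc (D.rel r) i).map A).sum = dot D.B (xorL D.ma (D.trc (D.rel r) i)) (D.par A Ub) :=
    D.sum_of_good A _ _ (fun a ha => edges_good hD A Ub hrel htree a (hL a ha))
  have h2 : dot D.B (D.rowC r i) (D.par A Ub)
      = dot D.B (xorL D.ma (D.trc (D.rel r) i)) (D.par A Ub) + dot D.B (D.uf r i) (D.par A Ub) :=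
    dot_xor _ _ _ _
  rw [h2, ← h1, hrel r i hr hi, D.dot_uf hD.hpat hD.hB A Ub hr hi]
  exact add_self_z _

theorem dot_subX (P : ℕ → ZMod 2) (U : ℕ) : ∀ k, (∀ l, l < k → dot D.B (D.rho l) P = 0) →
    dot D.B (D.subX U k) P = 0 := by
  intro k
  induction k with
  | zero => intro _; exact dot_zero _ _
  | succ k ih =>
    intro h
    have h1 : dot D.B (D.subX U k) P = 0 := ih (fun l hl => h l (by omega))
    show dot D.B (cond (Nat.beq (bitN U k) 1) (Nat.xor (D.rho k) (D.subX U k)) (D.subX U k)) P = 0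
    cases Nat.beq (bitN U k) 1 with
    | true =>
      show dot D.B (Nat.xor (D.rho k) (D.subX U k)) P = 0
      rw [dot_xor, h k (by omega), h1, add_zero]
    | false => exact h1

theorem rows_zero : ∀ k, k < D.NR → dot D.B (D.rho k) (D.par A Ub) = 0 := by
  intro k
  induction k using Nat.strong_induction_on with
  | _ k ih =>
    intro hk
    have h1 := hD.hRow k hk
    simp only [rowOK, letN_eq, Bool.and_eq_true] at h1
    obtain ⟨⟨⟨h2, h3⟩, h4⟩, h5⟩ := h1
    rw [beq_eq h5, dot_xor, dot_rowC hD A Ub hrel htree (blt_lt h2) (blt_lt h3)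
      (fun a ha => (D.of_okL h4 a ha).1),
      dot_subX hD A Ub hrel htree _ _ k (fun l hl => ih l hl (by omega)), add_zero]

theorem dot_redk (m : ℕ) : ∀ k, k ≤ D.NR → dot D.B (D.redk m k) (D.par A Ub) = dot D.B m (D.par A Ub) := by
  intro k
  induction k with
  | zero => intro _; rfl
  | succ k ih =>
    intro hk
    have h1 := ih (by omega)
    show dot D.B (cond (Nat.beq (bitN (D.redk m k) (look 10 1023 D.RP k)) 1)
      (Nat.xor (D.redk m k) (D.rho k)) (D.redk m k)) _ = _
    cases Nat.beq (bitN (D.redk m k) (look 10 1023 D.RP k)) 1 with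
    | true =>
      show dot D.B (Nat.xor (D.redk m k) (D.rho k)) _ = _
      rw [dot_xor, h1, rows_zero hD A Ub hrel htree k (by omega), add_zero]
    | false => exact h1

omit hD hrel htree in
theorem bitN_eq_one_iff (p b : ℕ) : Nat.beq (bitN p b) 1 = p.testBit b := by
  have h : bitN p b = (p >>> b) % 2 := by
    show (p >>> b) &&& 1 = _
    exact Nat.and_one_is_mod _
  rw [h, Nat.testBit_eq_decide_div_mod_eq, Nat.shiftRight_eq_div_pow]
  rcases Nat.mod_two_eq_zero_or_one (p / 2 ^ b) with h1 | h1 <;> simp [h1] <;> rfl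

omit hD hrel htree in
theorem dot_yXk (P : ℕ → ZMod 2) (j p : ℕ) : ∀ k, dot D.B (D.yXk j p k) P =
    ∑ b ∈ Finset.range k, if p.testBit b = true then dot D.B (D.yy j b) P else 0 := by
  intro k
  induction k with
  | zero => simp [yXk, dot_zero]
  | succ k ih =>
    rw [Finset.sum_range_succ, ← ih]
    show dot D.B (cond (Nat.beq (bitN p k) 1) (Nat.xor (D.yy j k) (D.yXk j p k)) (D.yXk j p k)) P = _
    rw [bitN_eq_one_iff]
    cases p.testBit k with
    | true =>
      show dot D.B (Nat.xor (D.yy j k) (D.yXk j p k)) P = _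
      rw [dot_xor]
      simp [add_comm]
    | false => simp

/-- The solution of the system. -/
theorem solve : ∃ (y : ℕ → ℕ → ZMod 2) (w : ℕ → ZMod 2) (ε : ZMod 2), ∀ i j, i < D.n → j < 3 →
    A (3 * i + j) = (∑ b ∈ Finset.range 11, if (D.pat i).testBit b = true then y j b else 0)
      + w (D.tb i j) + w i + if (D.ET).testBit (3 * i + j) = true then ε else 0 := by
  refine ⟨fun j b => dot D.B (D.yy j b) (D.par A Ub), fun i => dot D.B (D.ww i) (D.par A Ub),
    dot D.B D.EM (D.par A Ub), ?_⟩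
  intro i j hi hj
  have he : 3 * i + j < 3 * D.n := by omega
  have h1 := hD.hFin _ he
  have hdiv : Nat.div (3 * i + j) 3 = i := by
    show (3 * i + j) / 3 = i
    omega
  have hmod : Nat.mod (3 * i + j) 3 = j := by
    show (3 * i + j) % 3 = j
    omega
  simp only [finOK, letN_eq, hdiv, hmod] at h1
  have h2 := beq_eq h1
  have h3 := dot_redk hD A Ub hrel htree (cond (Nat.beq (bitN D.ET (3 * i + j)) 1)
    (Nat.xor (Nat.xor (D.ma (3 * i + j)) (Nat.xor (D.yX j (D.pat i)) (Nat.xor (D.ww (D.tb i j)) (D.ww i)))) D.EM)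
    (Nat.xor (D.ma (3 * i + j)) (Nat.xor (D.yX j (D.pat i)) (Nat.xor (D.ww (D.tb i j)) (D.ww i))))) D.NR le_rfl
  have h4 : D.redk (cond (Nat.beq (bitN D.ET (3 * i + j)) 1)
    (Nat.xor (Nat.xor (D.ma (3 * i + j)) (Nat.xor (D.yX j (D.pat i)) (Nat.xor (D.ww (D.tb i j)) (D.ww i)))) D.EM)
    (Nat.xor (D.ma (3 * i + j)) (Nat.xor (D.yX j (D.pat i)) (Nat.xor (D.ww (D.tb i j)) (D.ww i))))) D.NR = 0 := h2
  rw [h4, dot_zero, bitN_eq_one_iff] at h3
  have h5 := edges_good hD A Ub hrel htree _ he
  have h6 : dot D.B (D.yX j (D.pat i)) (D.par A Ub) = _ := dot_yXk _ j _ 11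
  rw [h5]
  cases h7 : (D.ET).testBit (3 * i + j) with
  | true =>
    rw [h7] at h3
    simp only [cond_true, dot_xor] at h3
    rw [h6] at h3
    simp only [if_true]
    apply eq_of_add_z
    linear_combination -h3
  | false =>
    rw [h7] at h3
    simp only [cond_false, dot_xor] at h3
    rw [h6] at h3
    simp only [Bool.false_eq_true, if_false, add_zero]
    apply eq_of_add_z
    linear_combination -h3

end Sound

end Sys

end Linear

/-! ### The system attached to the action of three generators -/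

section Act

variable {E G Ω : Type*} [Group E] [Group G] [MulAction G Ω]

/-- The product along a word. -/
def prodL (x : ℕ → E) : List ℕ → E
  | [] => 1
  | j :: w => x j * prodL x w

theorem map_prodL (π : E →* G) (x : ℕ → E) (w : List ℕ) : π (prodL x w) = prodL (fun j => π (x j)) w := by
  induction w with
  | nil => simp [prodL]
  | cons a l ih => simp [prodL, ih]

/-- The action of the generators on the cosets and the tree. -/
structure Act (D : Sys) (π : E →* G) (x : ℕ → E) (om : ℕ → Ω) : Prop where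
  n_pos : 0 < D.n
  om_inj : ∀ i i', i < D.n → i' < D.n → om i = om i' → i = i'
  om_surj : ∀ ω, ∃ i, i < D.n ∧ om i = ω
  act : ∀ i j, i < D.n → j < 3 → (π (x j))⁻¹ • om i = om (D.tb i j)
  tb_lt : ∀ i j, i < D.n → j < 3 → D.tb i j < D.n
  tree : ∀ v, 0 < v → v < D.n → D.pe v / 3 < v ∧ D.pe v % 3 < 3 ∧ D.tb (D.pe v / 3) (D.pe v % 3) = v

/-- The representatives along the tree. -/
noncomputable def tI (D : Sys) (x : ℕ → E) (v : ℕ) : E :=
  if h : 0 < v ∧ D.pe v / 3 < v then tI D x (D.pe v / 3) * x (D.pe v % 3) else 1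
termination_by v
decreasing_by exact h.2

theorem tI_zero (D : Sys) (x : ℕ → E) : tI D x 0 = 1 := by
  rw [tI]
  simp

theorem tI_pos (D : Sys) (x : ℕ → E) {v : ℕ} (h0 : 0 < v) (h1 : D.pe v / 3 < v) :
    tI D x v = tI D x (D.pe v / 3) * x (D.pe v % 3) := by
  rw [tI, dif_pos ⟨h0, h1⟩]

variable {D : Sys} {π : E →* G} {x : ℕ → E} {om : ℕ → Ω}

theorem Act.tI_smul (h : Act D π x om) : ∀ v, v < D.n → π (tI D x v) • om v = om 0 := by
  intro v
  induction v using Nat.strong_induction_on with
  | _ v ih =>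
    intro hv
    rcases Nat.eq_zero_or_pos v with rfl | h0
    · rw [tI_zero, map_one, one_smul]
    · obtain ⟨h1, h2, h3⟩ := h.tree v h0 hv
      rw [tI_pos D x h0 h1, map_mul, mul_smul]
      have h4 := h.act _ _ (by omega : D.pe v / 3 < D.n) h2
      rw [h3] at h4
      rw [← h4, smul_inv_smul]
      exact ih _ h1 (by omega)

/-- The number of a point. -/
noncomputable def Act.idxOf (h : Act D π x om) (ω : Ω) : ℕ := Classical.choose (h.om_surj ω)

theorem Act.idxOf_lt (h : Act D π x om) (ω : Ω) : h.idxOf ω < D.n := (Classical.choose_spec (h.om_surj ω)).1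

theorem Act.om_idxOf (h : Act D π x om) (ω : Ω) : om (h.idxOf ω) = ω := (Classical.choose_spec (h.om_surj ω)).2

theorem Act.idxOf_om (h : Act D π x om) {i : ℕ} (hi : i < D.n) : h.idxOf (om i) = i :=
  h.om_inj _ _ (h.idxOf_lt _) hi (h.om_idxOf _)

/-- The frame attached to the action. -/
noncomputable def Act.frame (h : Act D π x om) (σ : E → ZMod 2)
    (hσ : ∀ a b, π a • om 0 = om 0 → π b • om 0 = om 0 → σ (a * b) = σ a + σ b) : Frame π (om 0) where
  t := fun ω => tI D x (h.idxOf ω)
  ht := by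
    intro ω
    have h1 := h.tI_smul _ (h.idxOf_lt ω)
    rwa [h.om_idxOf] at h1
  σ := σ
  hσ := hσ

theorem Act.frame_t (h : Act D π x om) (σ : E → ZMod 2)
    (hσ : ∀ a b, π a • om 0 = om 0 → π b • om 0 = om 0 → σ (a * b) = σ a + σ b) {i : ℕ} (hi : i < D.n) :
    (h.frame σ hσ).t (om i) = tI D x i := by
  show tI D x (h.idxOf (om i)) = _
  rw [h.idxOf_om hi]

theorem Act.phi_word (h : Act D π x om) (F : Frame π (om 0)) (w : List ℕ) (hw : ∀ j ∈ w, j < 3) :
    ∀ i, i < D.n → ((D.trc w i).map fun e => F.phi (x (e % 3)) (om (e / 3))).sum = F.phi (prodL x w) (om i) := by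
  induction w with
  | nil =>
    intro i _
    simp only [Sys.trc, List.map_nil, List.sum_nil, prodL]
    exact (F.phi_one _).symm
  | cons j w ih =>
    intro i hi
    have hj : j < 3 := hw j List.mem_cons_self
    have h1 : (Nat.add (Nat.mul 3 i) j) % 3 = j := by
      show (3 * i + j) % 3 = j
      omega
    have h2 : (Nat.add (Nat.mul 3 i) j) / 3 = i := by
      show (3 * i + j) / 3 = i
      omega
    simp only [Sys.trc, List.map_cons, List.sum_cons, prodL]
    rw [h1, h2, F.phi_mul, h.act i j hi hj, ih (fun a ha => hw a (List.mem_cons_of_mem _ ha)) _ (h.tb_lt i j hi hj)]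

/-- The solution for the cross homomorphism attached to a frame. -/
theorem Act.solve (h : Act D π x om) (hD : D.Good) (F : Frame π (om 0))
    (hF : ∀ i, i < D.n → F.t (om i) = tI D x i)
    (hw : ∀ r j, r < D.R → j ∈ D.rel r → j < 3) (Ub : ℕ → ℕ → ZMod 2)
    (hU : ∀ r i, r < D.R → i < D.n → F.phi (prodL x (D.rel r)) (om i)
      = ∑ b ∈ Finset.range 11, if (D.pat i).testBit b = true then Ub r b else 0) :
    ∃ (y : ℕ → ℕ → ZMod 2) (w : ℕ → ZMod 2) (ε : ZMod 2), ∀ i j, i < D.n → j < 3 →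
      F.phi (x j) (om i) = (∑ b ∈ Finset.range 11, if (D.pat i).testBit b = true then y j b else 0)
        + w (D.tb i j) + w i + if (D.ET).testBit (3 * i + j) = true then ε else 0 := by
  have h0 := Sys.solve hD (fun e => F.phi (x (e % 3)) (om (e / 3))) Ub
    (by
      intro r i hr hi
      rw [h.phi_word F _ (hw r · hr) i hi]
      exact hU r i hr hi)
    (by
      intro v h1 h2
      obtain ⟨h3, h4, h5⟩ := h.tree v h1 h2
      show F.phi (x (D.pe v % 3)) (om (D.pe v / 3)) = 0
      apply F.phi_tree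
      rw [h.act _ _ (by omega) h4, h5, hF v h2, hF _ (by omega), tI_pos D x h1 h3])
  obtain ⟨y, w, ε, h1⟩ := h0
  refine ⟨y, w, ε, ?_⟩
  intro i j hi hj
  have h2 := h1 i j hi hj
  have h3 : (3 * i + j) % 3 = j := by omega
  have h4 : (3 * i + j) / 3 = i := by omega
  simp only [h3, h4] at h2
  exact h2

end Act

end Cfsg.Agent.Lib.CoIndH2
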