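import Mathlib
import Cfsg.Agent.Lib.CoTable
import Cfsg.Prelude.Def_Spor_Conway

set_option autoImplicit false
set_option linter.unusedVariables false

/-! Generators of the Mathieu group fixing two points, fixing vectors in the lattice. -/

namespace Cfsg.Agent.Lib.CoVec

open Cfsg Cfsg.Agent.Lib.Golay
namespace M22G

def u0 : ℕ := 3273554710163973038051862976772086327662202646313320939905
theorem St_u0 : St u0 := St_of_stChk (by decide +kernel)
noncomputable def lu0 : leechLattice := ⟨dec u0, St_u0.2.1⟩

def v0 : ℕ := 3248938624927162525252506939818330773089252232805618843780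
theorem St_v0 : St v0 := St_of_stChk (by decide +kernel)
noncomputable def lv0 : leechLattice := ⟨dec v0, St_v0.2.1⟩

def w1 : ℕ := 3126242825074935125518216693126955430764702515478166208379
theorem St_w1 : St w1 := St_of_stChk (by decide +kernel)
noncomputable def lw1 : leechLattice := ⟨dec w1, St_w1.2.1⟩

def x1 : ℕ := 3248938624927162525252506939818330773089252232805618843772
theorem St_x1 : St x1 := St_of_stChk (by decide +kernel)
noncomputable def lx1 : leechLattice := ⟨dec x1, St_x1.2.1⟩

def p0 : ℕ := 971104598248848796683352050453024992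
def p1 : ℕ := 981713054885072504357576768581982656
theorem h_p0 : isM24 p0 = true := by decide +kernel
theorem h_p1 : isM24 p1 = true := by decide +kernel

/-- the action of the generators on codes -/
def act (g n : ℕ) : ℕ :=
  match g with
  | 0 => actPerm p0 n
  | _ => actPerm p1 n

noncomputable def e0 : Co0 := permCo0 h_p0
theorem act0_eq : act 0 = fun n => actPerm p0 n := rfl
theorem acts0 : ActsOn e0 (act 0) := by
  rw [act0_eq]
  exact (actPerm_acts h_p0)

noncomputable def e1 : Co0 := permCo0 h_p1
theorem act1_eq : act 1 = fun n => actPerm p1 n := rfl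
theorem acts1 : ActsOn e1 (act 1) := by
  rw [act1_eq]
  exact (actPerm_acts h_p1)

/-- the subgroup fixing the vectors -/
noncomputable def H : Subgroup Co0 := MulAction.stabilizer Co0 lu0 ⊓ MulAction.stabilizer Co0 lv0 ⊓ MulAction.stabilizer Co0 lw1 ⊓ MulAction.stabilizer Co0 lx1

theorem mem0 : e0 ∈ H := ⟨⟨⟨mem_stabilizer_of_acts acts0 St_u0 rfl (by decide +kernel), mem_stabilizer_of_acts acts0 St_v0 rfl (by decide +kernel)⟩, mem_stabilizer_of_acts acts0 St_w1 rfl (by decide +kernel)⟩, mem_stabilizer_of_acts acts0 St_x1 rfl (by decide +kernel)⟩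
theorem mem1 : e1 ∈ H := ⟨⟨⟨mem_stabilizer_of_acts acts1 St_u0 rfl (by decide +kernel), mem_stabilizer_of_acts acts1 St_v0 rfl (by decide +kernel)⟩, mem_stabilizer_of_acts acts1 St_w1 rfl (by decide +kernel)⟩, mem_stabilizer_of_acts acts1 St_x1 rfl (by decide +kernel)⟩
theorem fix_u0 {h : Co0} (hh : h ∈ H) : h • lu0 = lu0 := hh.1.1.1
theorem fix_v0 {h : Co0} (hh : h ∈ H) : h • lv0 = lv0 := hh.1.1.2
theorem fix_w1 {h : Co0} (hh : h ∈ H) : h • lw1 = lw1 := hh.1.2
theorem fix_x1 {h : Co0} (hh : h ∈ H) : h • lx1 = lx1 := hh.2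

theorem act_in (g : ℕ) : ActsIn H (act g) := by
  match g with
  | 0 => exact acts0.actsIn mem0
  | _ + 1 => exact acts1.actsIn mem1

end M22G
end Cfsg.Agent.Lib.CoVec
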