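import Mathlib

/-!
# Data: an orbit tree on the classes of norm one.
-/

set_option autoImplicit false

namespace Cfsg.Agent.Lib.CoOneData

/-- A permutation stabilizing the octad and moving the class number 64, as a code. -/
def hcC : ℕ := 17292837687918299762581140228770245

/-- Parents. -/
def parOL : List ℕ := [0, 0, 0, 0, 0, 0, 0, 0, 0, 13, 0, 113, 0, 119, 0, 205, 0, 0, 97, 119, 0, 0, 244, 22, 0, 57, 185, 0, 0, 120, 23, 0, 0, 0, 0, 0, 71, 70, 51, 22, 0, 15, 0, 106, 78, 0, 98, 0, 0, 0, 19, 97, 15, 119, 0, 0, 0, 15, 186, 0, 174, 0, 0, 13, 0, 50, 36, 53, 51, 39, 178, 179, 63, 0, 255, 0, 235, 0, 57, 0, 70, 71, 0, 0, 211, 97, 0, 0, 81, 0, 0, 58, 57, 0, 0, 37, 81, 164, 36, 85, 0, 0, 0, 0, 36,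 0, 252, 0, 0, 60, 0, 104, 53, 71, 0, 0, 0, 0, 113, 71, 157, 0, 0, 57, 0, 41, 137, 0, 0, 0, 0, 0, 0, 0, 0, 0, 0, 250, 0, 245, 0, 169, 0, 205, 0, 0, 150, 214, 0, 0, 211, 244, 0, 231, 188, 0, 0, 143, 15, 0, 0, 0, 0, 0, 179, 178, 52, 53, 0, 222, 0, 186, 154, 0, 236, 0, 0, 0, 164, 64, 85, 84, 0, 0, 0, 252, 242, 0, 244, 0, 0, 250, 0, 0, 0, 0, 0, 0, 0, 0, 0, 143, 0, 235, 0, 179, 0, 221, 0, 0, 151, 164, 0, 0, 113, 222, 0, 188, 252, 0, 0, 252, 211, 0, 0, 0, 0, 0, 165, 242, 151, 211, 0, 158, 0, 250, 205, 0, 157, 0, 0, 0, 205, 229, 164, 242, 0, 0, 0, 236, 178, 0, 236, 0, 0, 186]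

/-- Generators. -/
def genOL : List ℕ := [0, 0, 0, 0, 0, 0, 0, 0, 0, 2, 0, 2, 0, 2, 0, 3, 0, 0, 3, 1, 0, 0, 3, 0, 0, 3, 3, 0, 0, 0, 2, 0, 0, 0, 0, 0, 1, 1, 1, 3, 0, 1, 0, 2, 3, 0, 2, 0, 0, 0, 1, 0, 2, 3, 0, 0, 0, 0, 3, 0, 3, 0, 0, 0, 0, 2, 0, 1, 3, 0, 3, 3, 2, 0, 3, 0, 3, 0, 2, 0, 3, 3, 0, 0, 3, 1, 0, 0, 2, 0, 0, 0, 0, 0, 0, 2, 0, 3, 3, 2, 0, 0, 0, 0, 2, 0, 3, 0, 0, 0, 0, 3, 2, 2, 0, 0, 0, 0, 1, 0, 3, 0, 0, 1, 0, 0, 3, 0, 0, 0, 0, 0, 0, 0, 0, 0, 0, 3, 0, 2, 0, 0, 0, 0, 0, 0, 2, 1, 0, 0, 0, 1, 0, 2, 1, 0, 0, 3, 3, 0, 0, 0, 0, 0, 0, 0, 3, 3, 0, 0, 0, 0, 2, 0, 3, 0, 0, 0, 0, 3, 3, 3, 0, 0, 0, 2, 2, 0, 2, 0, 0, 1, 0, 0, 0, 0, 0, 0, 0, 0, 0, 0, 0, 0, 0, 2, 0, 1, 0, 0, 1, 2, 0, 0, 3, 2, 0, 3, 1,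 0, 0, 0, 2, 0, 0, 0, 0, 0, 2, 0, 0, 1, 0, 0, 0, 0, 1, 0, 0, 0, 0, 0, 2, 0, 1, 3, 0, 0, 0, 1, 2, 0, 0, 0, 0, 1]

/-- Depths. -/
def depOL : List ℕ := [0, 0, 0, 0, 0, 0, 0, 0, 0, 5, 0, 4, 0, 4, 0, 3, 0, 0, 4, 4, 0, 0, 4, 5, 0, 5, 6, 0, 0, 6, 6, 0, 0, 0, 0, 0, 3, 5, 5, 5, 0, 4, 0, 6, 6, 0, 5, 0, 0, 0, 5, 4, 4, 4, 0, 0, 0, 4, 5, 0, 5, 0, 0, 5, 0, 6, 4, 5, 5, 6, 4, 2, 6, 0, 6, 0, 6, 0, 5, 0, 5, 3, 0, 0, 4, 4, 0, 0, 4, 0, 0, 6, 5, 0, 0, 6, 4, 3, 4, 5, 0, 0, 0, 0, 4, 0, 5, 0, 0, 6, 0, 5, 5, 3, 0, 0, 0, 0, 4, 3, 5, 0, 0, 5, 0, 5, 6, 0, 0, 0, 0, 0, 0, 0, 0, 0, 0, 5, 0, 5, 0, 6, 0, 3, 0, 0, 5, 5, 0, 0, 4, 4, 0, 5, 5, 0, 0, 4, 4, 0, 0, 0, 0, 0, 2, 4, 5, 5, 0, 5, 0, 5, 6, 0, 4, 0, 0, 0, 3, 1, 5, 5, 0,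 0, 0, 5, 4, 0, 4, 0, 0, 5, 0, 0, 0, 0, 0, 0, 0, 0, 0, 4, 0, 6, 0, 2, 0, 6, 0, 0, 5, 3, 0, 0, 4, 5, 0, 5, 5, 0, 0, 5, 4, 0, 0, 0, 0, 0, 5, 4, 5, 4, 0, 5, 0, 5, 3, 0, 5, 0, 0, 0, 3, 5, 3, 4, 0, 0, 0, 4, 4, 0, 4, 0, 0, 5]

end Cfsg.Agent.Lib.CoOneData
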