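import Mathlib
import Cfsg.Agent.Lib.CoMcL
import Cfsg.Agent.Lib.CoU43Tab

set_option autoImplicit false
set_option linter.unusedVariables false

/-! The McLaughlin configuration: rank 3 on the 275 points. -/

namespace Cfsg.Agent.Lib.CoConf

open Cfsg Cfsg.Agent.Lib.CoVec

theorem e_u0 : U43G.lu0 = McLG.lu0 := rfl
theorem e_v0 : U43G.lv0 = McLG.lv0 := rfl
theorem e_x0 : U43G.lx0 = McLG.lrP275 := rfl

/-- Any triple can be moved to the standard one. -/
theorem triple_move (u v x : LL) (hu : sqNorm (u : GolayPt → ℤ) = 48) (hv : sqNorm (v : GolayPt → ℤ) = 32)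
    (huv : dotInt (u : GolayPt → ℤ) (v : GolayPt → ℤ) = 24) (hx : x ∈ DS [(v, 16), (u, 24)]) :
    ∃ g : Co0, g • u = U43G.lu0 ∧ g • v = U43G.lv0 ∧ g • x = U43G.lx0 := by
  obtain ⟨g, g1, g2⟩ := std_move u v hu hv huv
  have h1 : g • x ∈ DS McLG.AP275 := by
    have := (mem_DS_move g [(v, 16), (u, 24)] x).2 hx
    simp only [moveL_cons, moveL_nil, g1, g2] at this
    exact this
  obtain ⟨k, hk, e⟩ := transOn_275 (g • x) h1 McLG.lrP275 McLG.rootP275
  refine ⟨k * g, ?_, ?_, ?_⟩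
  · rw [mul_smul, g1]
    exact hk (McLG.lu0, 24) (by simp [McLG.AP275])
  · rw [mul_smul, g2]
    exact hk (McLG.lv0, 16) (by simp [McLG.AP275])
  · rw [mul_smul, e]
    rfl

noncomputable abbrev A275s : List (LL × ℤ) := [(U43G.lv0, 16), (U43G.lu0, 24)]

theorem ncard_A275s : (DS A275s).ncard = 275 := parts_std.1

theorem norm_x0 : sqNorm (U43G.lx0 : GolayPt → ℤ) = 32 := norm_code (by decide +kernel)

theorem x0_mem : U43G.lx0 ∈ DS A275s := McLG.rootP275

theorem parts_u43 :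
    (DS ((U43G.lx0, 8) :: A275s)).ncard = 112 ∧ (DS ((U43G.lx0, 16) :: A275s)).ncard = 162 ∧
    (DS ((U43G.lx0, 32) :: A275s)).ncard = 1 ∧
    ∀ y ∈ DS A275s, dotInt (U43G.lx0 : GolayPt → ℤ) (y : GolayPt → ℤ) ∈ ({32, 8, 16} : Finset ℤ) := by
  have h := partition A275s U43G.lx0 ({32, 8, 16} : Finset ℤ)
    (fun d => if d = 32 then 1 else if d = 8 then 112 else 162) ?_ ?_
  · exact ⟨h.1 8 (by decide), h.1 16 (by decide), h.1 32 (by decide), h.2⟩
  · intro d hd
    simp only [Finset.mem_insert, Finset.mem_singleton] at hd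
    rcases hd with rfl | rfl | rfl
    · refine one_le_of_mem (x := U43G.lx0) (mem_DS_cons.2 ⟨x0_mem, ?_⟩)
      exact (dot_self _).trans norm_x0
    · exact U43G.lowP112
    · exact U43G.lowP162
  · rw [ncard_A275s]
    decide

/-- The statement for a general triple. -/
theorem u43_main (u v x : LL) (hu : sqNorm (u : GolayPt → ℤ) = 48) (hv : sqNorm (v : GolayPt → ℤ) = 32)
    (huv : dotInt (u : GolayPt → ℤ) (v : GolayPt → ℤ) = 24) (hx : x ∈ DS [(v, 16), (u, 24)]) :
    (DS [(x, 8), (v, 16), (u, 24)]).ncard = 112 ∧ (DS [(x, 16), (v, 16), (u, 24)]).ncard = 162 ∧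
    ∀ y ∈ DS [(v, 16), (u, 24)], y ≠ x → dotInt (x : GolayPt → ℤ) (y : GolayPt → ℤ) = 8 ∨
      dotInt (x : GolayPt → ℤ) (y : GolayPt → ℤ) = 16 := by
  obtain ⟨g, g1, g2, g3⟩ := triple_move u v x hu hv huv hx
  obtain ⟨p1, p2, p3, p4⟩ := parts_u43
  refine ⟨?_, ?_, ?_⟩
  · rw [← ncard_move g]
    simp only [moveL_cons, moveL_nil, g1, g2, g3]
    exact p1
  · rw [← ncard_move g]
    simp only [moveL_cons, moveL_nil, g1, g2, g3]
    exact p2
  · intro y hy hyx
    have h1 : g • y ∈ DS A275s := by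
      have := (mem_DS_move g [(v, 16), (u, 24)] y).2 hy
      simp only [moveL_cons, moveL_nil, g1, g2] at this
      exact this
    have h2 := p4 _ h1
    rw [← g3, dot_smul] at h2
    simp only [Finset.mem_insert, Finset.mem_singleton] at h2
    rcases h2 with h2 | h2 | h2
    · exfalso
      -- the fibre at 32 is a singleton
      have h3 : (DS ((U43G.lx0, 32) :: A275s)) = {U43G.lx0} := by
        obtain ⟨a, ha⟩ := Set.ncard_eq_one.1 p3
        have h4 : U43G.lx0 ∈ DS ((U43G.lx0, 32) :: A275s) :=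
          mem_DS_cons.2 ⟨x0_mem, (dot_self _).trans norm_x0⟩
        rw [ha] at h4 ⊢
        rw [Set.mem_singleton_iff.1 h4]
      have h4 : g • y ∈ DS ((U43G.lx0, 32) :: A275s) := by
        refine mem_DS_cons.2 ⟨h1, ?_⟩
        rw [← g3, dot_smul]
        exact h2
      rw [h3, Set.mem_singleton_iff, ← g3] at h4
      exact hyx (MulAction.injective g h4)
    · exact Or.inl h2
    · exact Or.inr h2

theorem u43_trans8 (u v x : LL) (hu : sqNorm (u : GolayPt → ℤ) = 48) (hv : sqNorm (v : GolayPt → ℤ) = 32)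
    (huv : dotInt (u : GolayPt → ℤ) (v : GolayPt → ℤ) = 24) (hx : x ∈ DS [(v, 16), (u, 24)]) :
    TransOn [(x, 8), (v, 16), (u, 24)] := by
  obtain ⟨g, g1, g2, g3⟩ := triple_move u v x hu hv huv hx
  apply TransOn.of_move (g := g)
  simp only [moveL_cons, moveL_nil, g1, g2, g3]
  exact transOn_of_table U43G.fixAP112 (U43G.transP112 parts_u43.1.le)

theorem u43_trans16 (u v x : LL) (hu : sqNorm (u : GolayPt → ℤ) = 48) (hv : sqNorm (v : GolayPt → ℤ) = 32)
    (huv : dotInt (u : GolayPt → ℤ) (v : GolayPt → ℤ) = 24) (hx : x ∈ DS [(v, 16), (u, 24)]) :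
    TransOn [(x, 16), (v, 16), (u, 24)] := by
  obtain ⟨g, g1, g2, g3⟩ := triple_move u v x hu hv huv hx
  apply TransOn.of_move (g := g)
  simp only [moveL_cons, moveL_nil, g1, g2, g3]
  exact transOn_of_table U43G.fixAP162 (U43G.transP162 parts_u43.2.1.le)

end Cfsg.Agent.Lib.CoConf
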