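/-
CocycleAvg: a 1-cocycle of `G` with values in an abelian normal subgroup `A`, trivial on a subgroup
`T` of index prime to `|A|`, is a coboundary (averaging over `G/T`).
-/
import Mathlib

set_option autoImplicit false

namespace Cfsg.Agent.Lib.CocycleAvg

variable {G : Type*} [Group G] [Finite G]

theorem exists_coboundary (T A : Subgroup G) [hAn : A.Normal] (hAc : ∀ a ∈ A, ∀ b ∈ A, a * b = b * a)
    (hcop : (T.index).Coprime (Nat.card A)) (c : G → G) (hcA : ∀ g, c g ∈ A)
    (hc : ∀ g h, c (g * h) = c g * (g * c h * g⁻¹)) (hcT : ∀ t ∈ T, c t = 1) :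
    ∃ b ∈ A, ∀ h, c h = b * (h * b⁻¹ * h⁻¹) := by
  classical
  letI instA : CommGroup A :=
    { (inferInstance : Group A) with mul_comm := fun a b => Subtype.ext (hAc a a.2 b b.2) }
  haveI : Fintype (G ⧸ T) := Fintype.ofFinite _
  let d : G → A := fun g => ⟨c g, hcA g⟩
  have hd : ∀ g t, t ∈ T → c (g * t) = c g := by
    intro g t ht
    rw [hc, hcT t ht]
    group
  let cj : G →* MulAut A := MulAut.conjNormal
  have hcj : ∀ (h : G) (x : A), ((cj h x : A) : G) = h * x * h⁻¹ := fun h x => rfl
  let a : A := ∏ q : G ⧸ T, d q.out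
  have key : ∀ h : G, a = (d h) ^ T.index * cj h a := by
    intro h
    have e1 : ∏ q : G ⧸ T, d (h • q).out = a :=
      Equiv.prod_comp (MulAction.toPerm h) (fun q : G ⧸ T => d q.out)
    have e2 : ∀ q : G ⧸ T, d (h • q).out = d h * cj h (d q.out) := by
      intro q
      apply Subtype.ext
      have h1 : (h • q) = QuotientGroup.mk (h * q.out) := by
        conv_lhs => rw [← QuotientGroup.out_eq' q]
        rfl
      have h2 : ((h • q).out : G⧸T) = QuotientGroup.mk (h * q.out) := by
        rw [QuotientGroup.out_eq', h1]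
      have h3 := QuotientGroup.eq.1 h2
      have e3 : h * q.out = (h • q).out * ((h • q).out⁻¹ * (h * q.out)) := by group
      show c (h • q).out = c h * (h * c q.out * h⁻¹)
      rw [← hc, e3, hd _ _ h3]
    have e4 : ∏ q : G ⧸ T, (d h * cj h (d q.out)) = (d h) ^ T.index * cj h a := by
      rw [Finset.prod_mul_distrib, Finset.prod_const, Finset.card_univ, ← map_prod,
        Subgroup.index_eq_card, Nat.card_eq_fintype_card]
    rw [← e4, ← Finset.prod_congr rfl (fun q _ => e2 q), e1]
  -- Bezout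
  have hbez := Nat.gcd_eq_gcd_ab T.index (Nat.card A)
  rw [hcop] at hbez
  refine ⟨(a ^ (Nat.gcdA T.index (Nat.card A)) : A).1, (a ^ (Nat.gcdA T.index (Nat.card A)) : A).2, fun h => ?_⟩
  have e5 : d h = (d h ^ T.index) ^ (Nat.gcdA T.index (Nat.card A)) := by
    have h1 : d h ^ ((T.index : ℤ) * Nat.gcdA T.index (Nat.card A) +
        (Nat.card A : ℤ) * Nat.gcdB T.index (Nat.card A)) = d h := by
      rw [← hbez]
      simp
    rw [zpow_add, zpow_mul, zpow_mul, zpow_natCast, zpow_natCast, pow_card_eq_one', one_zpow, mul_one] at h1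
    exact h1.symm
  have e6 : d h ^ T.index = a * (cj h a)⁻¹ := by
    rw [eq_mul_inv_iff_mul_eq]
    exact (key h).symm
  have e7 : d h = a ^ (Nat.gcdA T.index (Nat.card A)) * (cj h (a ^ (Nat.gcdA T.index (Nat.card A))))⁻¹ := by
    rw [e5, e6, mul_zpow, inv_zpow, map_zpow]
  have e8 := congrArg Subtype.val e7
  show c h = _
  refine e8.trans ?_
  rw [Subgroup.coe_mul, Subgroup.coe_inv, hcj]
  group

end Cfsg.Agent.Lib.CocycleAvg
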