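import Mathlib
import Cfsg.Agent.Lib.MassBound
import Cfsg.Agent.Lib.CohLevels
import Cfsg.Agent.Lib.FrobCohMain9
import Cfsg.Agent.Lib.CharPow

/-!
# Characters non-trivial on a central subgroup of a Frobenius-like kernel

`K` a nilpotent normal subgroup of the finite group `L` of odd order with `L/K'` Frobenius with
kernel `K/K'`, `Z` a subgroup of `Z(K)` normal in `L`, such that the characters induced from the
irreducible characters of `K` non-trivial on `Z` are irreducible.  The set of these characters is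
coherent.
-/

set_option autoImplicit false
set_option linter.unusedSectionVars false
open Cfsg

namespace Cfsg.Agent.Lib.CohCentral

open Cfsg.Agent.Lib.CharBasic Cfsg.Agent.Lib.GenChar Cfsg.Agent.Lib.CharInd
  Cfsg.Agent.Lib.CharInduction Cfsg.Agent.Lib.CharKernel Cfsg.Agent.Lib.InducedIrr
  Cfsg.Agent.Lib.CoherenceBasic Cfsg.Agent.Lib.FrobLam9 Cfsg.Agent.Lib.Clifford
  Cfsg.Agent.Lib.MassBound Cfsg.Agent.Lib.CohLevels
open scoped ComplexConjugate

section Elements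

variable {G : Type*} [Group G]

theorem mem_of_pow_coprime (H : Subgroup G) {x : G} {a b : ℕ} (hab : a.Coprime b) (ha : x ^ a ∈ H)
    (hb : x ^ b ∈ H) : x ∈ H := by
  have h := Nat.gcd_eq_gcd_ab a b
  rw [hab.gcd_eq_one] at h
  have e : x = (x ^ a) ^ (Nat.gcdA a b) * (x ^ b) ^ (Nat.gcdB a b) := by
    rw [← zpow_natCast, ← zpow_natCast, ← zpow_mul, ← zpow_mul, ← zpow_add, ← h]
    simp
  rw [e]
  exact H.mul_mem (H.zpow_mem ha _) (H.zpow_mem hb _)

theorem isPGroup_zpowers {z : G} {p n : ℕ} (h : z ^ (p ^ n) = 1) :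
    IsPGroup p (Subgroup.zpowers z) := by
  rintro ⟨g, hg⟩
  obtain ⟨i, rfl⟩ := Subgroup.mem_zpowers_iff.mp hg
  refine ⟨n, ?_⟩
  apply Subtype.ext
  show (z ^ i) ^ (p ^ n) = 1
  rw [← zpow_natCast, ← zpow_mul, mul_comm, zpow_mul, zpow_natCast, h, one_zpow]

/-- Splitting an element: the two complementary powers. -/
theorem exists_split [Finite G] (x : G) {p : ℕ} (hp : p.Prime) :
    ∃ i c : ℕ, ¬ p ∣ c ∧ (x ^ c) ^ (p ^ i) = 1 ∧ (x ^ (p ^ i)) ^ c = 1 ∧
      (orderOf (x ^ (p ^ i))).Coprime p := by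
  obtain ⟨i, c, hc, hic⟩ := Nat.exists_eq_pow_mul_and_not_dvd (n := orderOf x)
    (orderOf_pos x).ne' p hp.ne_one
  have h1 : x ^ (p ^ i * c) = 1 := by rw [← hic]; exact pow_orderOf_eq_one x
  refine ⟨i, c, hc, by rw [← pow_mul, mul_comm]; exact h1, by rw [← pow_mul]; exact h1, ?_⟩
  have h2 : orderOf (x ^ (p ^ i)) ∣ c := orderOf_dvd_of_pow_eq_one (by rw [← pow_mul]; exact h1)
  exact Nat.Coprime.coprime_dvd_left h2 ((Nat.Prime.coprime_iff_not_dvd hp).mpr hc).symm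

/-- A prime order step modulo a normal subgroup. -/
theorem exists_prime_pow_not_mem [Finite G] (H : Subgroup G) [H.Normal] {x : G} (hx : x ∉ H) :
    ∃ c q : ℕ, q.Prime ∧ x ^ c ∉ H ∧ (x ^ c) ^ q ∈ H := by
  have hz1 : (x : G ⧸ H) ≠ 1 := fun h => hx ((QuotientGroup.eq_one_iff x).mp h)
  have hm : orderOf (x : G ⧸ H) ≠ 1 := fun h => hz1 (orderOf_eq_one_iff.mp h)
  obtain ⟨q, hq, c, hc⟩ := Nat.exists_prime_and_dvd hm
  have hm0 : orderOf (x : G ⧸ H) ≠ 0 := (orderOf_pos _).ne'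
  have hc0 : c ≠ 0 := by
    rintro rfl
    rw [mul_zero] at hc
    exact hm0 hc
  refine ⟨c, q, hq, ?_, ?_⟩
  · intro h
    have h1 : (x : G ⧸ H) ^ c = 1 := by
      rw [← QuotientGroup.mk_pow]
      exact (QuotientGroup.eq_one_iff _).mpr h
    have h2 := orderOf_dvd_of_pow_eq_one h1
    rw [hc] at h2
    have h3 := Nat.le_of_dvd (Nat.pos_of_ne_zero hc0) h2
    have h4 := hq.two_le
    have h5 : 0 < c := Nat.pos_of_ne_zero hc0
    nlinarith
  · rw [← QuotientGroup.eq_one_iff, QuotientGroup.mk_pow, QuotientGroup.mk_pow, ← pow_mul, mul_comm,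
      ← hc]
    exact pow_orderOf_eq_one _

end Elements

section Coprime

/-- The orders of the kernel and of the complement are coprime. -/
theorem coprime_of_frob {L : Type*} [Group L] [Finite L] (K : Subgroup L) [hK : K.Normal]
    (hnil : Group.IsNilpotent K)
    (hfrob : ∀ k ∈ K, k ∉ ⁅K, K⁆ → ∀ x : L, x * k * x⁻¹ * k⁻¹ ∈ ⁅K, K⁆ → x ∈ K) {q : ℕ}
    (hq : q.Prime) (h1 : q ∣ Nat.card K) (h2 : q ∣ K.index) : False := by
  classical
  haveI : Fact q.Prime := ⟨hq⟩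
  haveI := hnil
  obtain ⟨Y, hYn, hYc, hYall⟩ := Cfsg.Agent.Lib.Carter.exists_hall_part (C := K) q
  haveI := hYn
  have hY1 : Y ≠ ⊤ := by
    rintro rfl
    have h3 : Nat.card (⊤ : Subgroup K) = Nat.card K := Nat.card_congr Subgroup.topEquiv.toEquiv
    rw [h3] at hYc
    exact (Nat.Prime.coprime_iff_not_dvd hq).mp hYc.symm h1
  have hs := Cfsg.Agent.Lib.FrobCohMain9.commutator_sup_ne_top hnil Y hY1
  obtain ⟨k, hk⟩ : ∃ k : K, k ∉ ⁅(⊤ : Subgroup K), (⊤ : Subgroup K)⁆ ⊔ Y := by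
    by_contra hcon
    push Not at hcon
    exact hs (eq_top_iff.mpr (fun x _ => hcon x))
  obtain ⟨i, c, hc, hk1, -, hk3⟩ := exists_split k hq
  have hk₁ : k ^ c ∉ ⁅(⊤ : Subgroup K), (⊤ : Subgroup K)⁆ := by
    intro h
    apply hk
    refine mem_of_pow_coprime _ (Nat.Coprime.pow_left i ((Nat.Prime.coprime_iff_not_dvd hq).mpr hc))
      ?_ ((le_sup_left : ⁅(⊤ : Subgroup K), (⊤ : Subgroup K)⁆ ≤ _) h)
    exact (le_sup_right : Y ≤ _) (hYall _ hk3)
  have hcom : (⁅K, K⁆.subgroupOf K) = ⁅(⊤ : Subgroup K), (⊤ : Subgroup K)⁆ := by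
    apply Subgroup.map_injective K.subtype_injective
    rw [Subgroup.map_commutator, Subgroup.map_subgroupOf_eq_of_le (Subgroup.commutator_le_left K K)]
    have h3 : Subgroup.map K.subtype (⊤ : Subgroup K) = K := by
      rw [← MonoidHom.range_eq_map, Subgroup.range_subtype]
    rw [h3]
  set k₁ : L := ((k ^ c : K) : L) with hk₁def
  have hk₁K : k₁ ∈ K := (k ^ c).2
  have hk₁' : k₁ ∉ ⁅K, K⁆ := by
    intro h
    apply hk₁
    rw [← hcom, Subgroup.mem_subgroupOf]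
    exact h
  have hk₁p : k₁ ^ (q ^ i) = 1 := by
    have h3 := congrArg (Subtype.val) hk1
    rw [Subgroup.coe_pow, Subgroup.coe_one] at h3
    exact h3
  obtain ⟨D, hD⟩ := IsPGroup.exists_le_sylow (isPGroup_zpowers hk₁p)
  have hk₁D : k₁ ∈ (D : Subgroup L) := hD (Subgroup.mem_zpowers k₁)
  have hDnil : Group.IsNilpotent (D : Subgroup L) := D.isPGroup'.isNilpotent
  haveI hC' : (⁅K, K⁆).Normal := Subgroup.commutator_normal K K
  have hnot : ¬ K.subgroupOf (D : Subgroup L) ≤ (⁅K, K⁆).subgroupOf (D : Subgroup L) := by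
    intro h
    have h3 := h (show (⟨k₁, hk₁D⟩ : (D : Subgroup L)) ∈ K.subgroupOf (D : Subgroup L) from
      Subgroup.mem_subgroupOf.mpr hk₁K)
    exact hk₁' (Subgroup.mem_subgroupOf.mp h3)
  obtain ⟨z, hzC, hzK₀, hzc⟩ := exists_central_mod hDnil ((⁅K, K⁆).subgroupOf (D : Subgroup L)) _
    (K.subgroupOf (D : Subgroup L)) rfl inferInstance hnot
  obtain ⟨x, hxD, hxK⟩ : ∃ x ∈ (D : Subgroup L), x ∉ K := by
    by_contra hcon
    push Not at hcon
    have h3 : K.index ∣ (D : Subgroup L).index := Subgroup.index_dvd_of_le hcon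
    exact D.not_dvd_index (h2.trans h3)
  apply hxK
  refine hfrob z (Subgroup.mem_subgroupOf.mp hzC) (fun h => hzK₀ (Subgroup.mem_subgroupOf.mpr h)) x ?_
  have h4 := hzc ⟨x, hxD⟩
  rw [Subgroup.mem_subgroupOf] at h4
  have e : x * (z : L) * x⁻¹ * (z : L)⁻¹ = ((z : L) * x * (z : L)⁻¹ * x⁻¹)⁻¹ := by group
  rw [e]
  exact Subgroup.inv_mem _ (by simpa using h4)

end Coprime

section Count

/-- A weighted count for a free action of a group of prime order. -/
theorem dvd_sum_of_free {α : Type*} (F : Finset α) (σ : α → α) (w : α → ℕ) {q : ℕ}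
    (hq : q.Prime) (hF : ∀ a ∈ F, σ a ∈ F) (hw : ∀ a ∈ F, w (σ a) = w a)
    (hσq : ∀ a ∈ F, σ^[q] a = a) (hfree : ∀ a ∈ F, σ a ≠ a) : q ∣ ∑ a ∈ F, w a := by
  classical
  haveI : Fact q.Prime := ⟨hq⟩
  have hlevel : ∀ n, q ∣ (F.filter (fun a => w a = n)).card := by
    intro n
    set S := F.filter (fun a => w a = n) with hS
    have hSF : ∀ a ∈ S, a ∈ F := fun a ha => (Finset.mem_filter.mp ha).1
    have hSm : ∀ a ∈ S, σ a ∈ S := by
      intro a ha
      have h1 := Finset.mem_filter.mp ha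
      exact Finset.mem_filter.mpr ⟨hF a h1.1, by rw [hw a h1.1, h1.2]⟩
    let f : Function.End S := fun a => ⟨σ a, hSm a a.2⟩
    have hiter : ∀ (m : ℕ) (a : S), (((f ^ m : Function.End S) a : S) : α) = σ^[m] a := by
      intro m
      induction m with
      | zero => intro a; rfl
      | succ m ih =>
        intro a
        rw [pow_succ, Function.iterate_succ_apply]
        show (((f ^ m : Function.End S) (f a) : S) : α) = _
        rw [ih (f a)]
    have hfq : f ^ q ^ 1 = 1 := by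
      funext a
      apply Subtype.ext
      rw [pow_one, hiter]
      exact hσq a (hSF a a.2)
    have h := Equiv.Perm.card_fixedPoints_modEq (p := q) (n := 1) hfq
    have hzero : ∀ (A : Set S) [Fintype A], (∀ a : S, a ∈ A → False) → Fintype.card A = 0 := by
      intro A _ hA
      exact Fintype.card_eq_zero_iff.mpr ⟨fun a => hA a.1 a.2⟩
    have h' : Fintype.card S ≡ 0 [MOD q] := by
      refine h.trans ?_
      rw [hzero]
      intro a ha
      have h1 : f a = a := ha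
      exact hfree a (hSF _ a.2) (congrArg Subtype.val h1)
    rw [Fintype.card_coe] at h'
    exact (Nat.modEq_zero_iff_dvd).mp h'
  rw [← Finset.sum_fiberwise_of_maps_to (t := F.image w) (g := w)
    (fun a ha => Finset.mem_image_of_mem w ha)]
  refine Finset.dvd_sum fun n _ => ?_
  have h1 : ∑ a ∈ F.filter (fun a => w a = n), w a = (F.filter (fun a => w a = n)).card * n := by
    rw [Finset.card_eq_sum_ones, Finset.sum_mul]
    refine Finset.sum_congr rfl fun a ha => ?_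
    rw [(Finset.mem_filter.mp ha).2, one_mul]
  rw [h1]
  exact Dvd.dvd.mul_right (hlevel n) n

end Count

section PPart

variable {K : Type*} [Group K] [Finite K]

/-- The `p`-part of an irreducible character of a nilpotent group: there is a character of `p`-power
degree dividing the given degree, non-trivial on a given `p`-subgroup. -/
theorem exists_p_part (hnil : Group.IsNilpotent K) {p : ℕ} (hp : p.Prime) (R : Subgroup K)
    (hR : ∀ z ∈ R, ∃ n : ℕ, z ^ (p ^ n) = 1) {θ : K → ℂ} (hθ : IsIrrCharacter K θ)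
    (hne : ∃ z ∈ R, θ z ≠ θ 1) :
    ∃ θ' : K → ℂ, IsIrrCharacter K θ' ∧ (∃ z ∈ R, θ' z ≠ θ' 1) ∧ (∃ i : ℕ, charDegree θ' = p ^ i) ∧
      charDegree θ' ∣ charDegree θ := by
  classical
  haveI : Fact p.Prime := ⟨hp⟩
  haveI := hnil
  letI := Fintype.ofFinite K
  obtain ⟨P⟩ : Nonempty (Sylow p K) := inferInstance
  haveI hPn0 : (P : Subgroup K).Normal := inferInstance
  set P₀ : Subgroup K := (P : Subgroup K) with hP₀
  haveI hPn : P₀.Normal := hPn0
  obtain ⟨Y, hYn, hYc, hYall⟩ := Cfsg.Agent.Lib.Carter.exists_hall_part (C := K) p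
  haveI := hYn
  letI : Fintype P₀ := Fintype.ofFinite _
  obtain ⟨a, ha⟩ := IsPGroup.iff_card.mp P.isPGroup'
  -- `P` and `Y` meet trivially
  have hinter : ∀ u ∈ P₀, u ∈ Y → u = 1 := by
    intro u hu hu'
    have h1 : orderOf u ∣ p ^ a := by
      rw [← ha]
      exact Subgroup.orderOf_dvd_natCard _ hu
    have h2 : orderOf u ∣ Nat.card Y := Subgroup.orderOf_dvd_natCard _ hu'
    have h3 : (p ^ a).Coprime (Nat.card Y) := Nat.Coprime.pow_left a hYc.symm
    have h4 : orderOf u ∣ 1 := by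
      rw [← h3.gcd_eq_one]
      exact Nat.dvd_gcd h1 h2
    exact orderOf_eq_one_iff.mp (Nat.dvd_one.mp h4)
  have hcomm : ∀ u ∈ P₀, ∀ y ∈ Y, u * y = y * u := by
    intro u hu y hy
    have h1 : u * y * u⁻¹ * y⁻¹ = 1 := by
      apply hinter
      · have e : u * y * u⁻¹ * y⁻¹ = u * (y * u⁻¹ * y⁻¹) := by group
        rw [e]
        exact Subgroup.mul_mem _ hu (hPn.conj_mem _ (Subgroup.inv_mem _ hu) y)
      · exact Subgroup.mul_mem _ (hYn.conj_mem y hy u) (Subgroup.inv_mem _ hy)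
    have e : u * y = u * y * u⁻¹ * y⁻¹ * (y * u) := by group
    rw [e, h1, one_mul]
  -- the isomorphism with the quotient
  let e : P₀ →* K ⧸ Y := (QuotientGroup.mk' Y).comp P₀.subtype
  have hinj : Function.Injective e := by
    rw [injective_iff_map_eq_one]
    intro u hu
    have h1 : (u : K) ∈ Y := (QuotientGroup.eq_one_iff _).mp hu
    exact Subtype.ext (hinter _ u.2 h1)
  have hcard : Nat.card (K ⧸ Y) ≤ Nat.card P₀ := by
    obtain ⟨n, hn⟩ := Cfsg.Agent.Lib.FrobCohMain9.hall_index (Y := Y) (q := p) hYall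
    rw [← Subgroup.index_eq_card, hn]
    have h1 : p ^ n ∣ Nat.card K := by
      rw [← hn]
      exact Subgroup.index_dvd_card Y
    exact Nat.le_of_dvd Nat.card_pos (Sylow.pow_dvd_card_of_pow_dvd_card P h1)
  have hbij : Function.Bijective e := hinj.bijective_of_nat_card_le hcard
  let E : P₀ ≃* K ⧸ Y := MulEquiv.ofBijective e hbij
  let π : K →* P₀ := E.symm.toMonoidHom.comp (QuotientGroup.mk' Y)
  have hπ : ∀ u : P₀, π u = u := by
    intro u
    show E.symm ((u : K) : K ⧸ Y) = u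
    rw [MulEquiv.symm_apply_eq]
    rfl
  have hπs : Function.Surjective π := fun u => ⟨u, hπ u⟩
  have hdecomp : ∀ g : K, ∃ y ∈ Y, g = (π g : K) * y := by
    intro g
    have h1 : E (π g) = (g : K ⧸ Y) := by
      show E (E.symm _) = _
      rw [MulEquiv.apply_symm_apply]
      rfl
    have h2 : (((π g : P₀) : K) : K ⧸ Y) = (g : K ⧸ Y) := h1
    have h3 := QuotientGroup.eq.mp h2
    exact ⟨_, h3, by group⟩
  -- the constituent
  have hc := IsIrrCharacter.isCharacter hθ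
  obtain ⟨m, hm⟩ := exists_nat_decomp (isCharacter_restrict P₀ hc)
  have hex : ∃ i, m i ≠ 0 := by
    by_contra hcon
    push Not at hcon
    have h1 := congrFun hm 1
    simp only [hcon, zero_smul, Finset.sum_const_zero] at h1
    exact isIrr_one_ne_zero hθ h1
  obtain ⟨i, hi⟩ := hex
  have hinv : ∀ (g : K) (n : P₀),
      (i : P₀ → ℂ) ⟨g * n * g⁻¹, hPn.conj_mem n n.2 g⟩ = (i : P₀ → ℂ) n := by
    intro g n
    obtain ⟨y, hy, hgy⟩ := hdecomp g
    have e1 : (⟨g * n * g⁻¹, hPn.conj_mem n n.2 g⟩ : P₀) = (π g) * n * (π g)⁻¹ := by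
      apply Subtype.ext
      show g * n * g⁻¹ = (π g : K) * n * (π g : K)⁻¹
      have h1 : y * n = n * y := (hcomm n n.2 y hy).symm
      conv_lhs => rw [hgy]
      calc (π g : K) * y * n * ((π g : K) * y)⁻¹ = (π g : K) * (y * n) * y⁻¹ * (π g : K)⁻¹ := by group
        _ = _ := by rw [h1]; group
    rw [e1]
    exact char_apply_conj (IsIrrCharacter.isCharacter i.2) _ _
  have hover : classInner (fun n : P₀ => θ n) (i : P₀ → ℂ) ≠ 0 := by
    rw [hm, classInner_nat_decomp m _ i.2]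
    exact_mod_cast hi
  obtain ⟨e', he', hval, -⟩ := restrict_eq_smul_of_invariant P₀ i.2 hinv hθ hover
  have hval' : ∀ u : P₀, θ u = (e' : ℂ) * (i : P₀ → ℂ) u := by
    intro u
    have := congrFun hval u
    simpa using this
  have hone : (i : P₀ → ℂ) 1 = (charDegree (i : P₀ → ℂ) : ℂ) :=
    one_eq_charDegree (IsIrrCharacter.isCharacter i.2)
  have hdeg : charDegree θ = e' * charDegree (i : P₀ → ℂ) := by
    have h1 := hval' 1
    simp only [OneMemClass.coe_one] at h1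
    rw [one_eq_charDegree hc, hone] at h1
    exact_mod_cast h1
  -- elements of `R` are in `P`
  have hRP : ∀ z ∈ R, z ∈ P₀ := by
    intro z hz
    obtain ⟨n, hn⟩ := hR z hz
    obtain ⟨D, hD⟩ := IsPGroup.exists_le_sylow (isPGroup_zpowers hn)
    haveI := Sylow.unique_of_normal P hPn
    have hDP : D = P := Subsingleton.elim D P
    have h1 := hD (Subgroup.mem_zpowers z)
    rw [hDP] at h1
    exact h1
  have hcomp : IsIrrCharacter K ((i : P₀ → ℂ) ∘ π) :=
    isIrrCharacter_comp_of_surjective π hπs i.2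
  have hone' : ((i : P₀ → ℂ) ∘ π) 1 = (i : P₀ → ℂ) 1 := by
    simp
  have hdeg' : charDegree ((i : P₀ → ℂ) ∘ π) = charDegree (i : P₀ → ℂ) := by
    have h1 := hone'
    rw [one_eq_charDegree (IsIrrCharacter.isCharacter hcomp), hone] at h1
    exact_mod_cast h1
  refine ⟨_, hcomp, ?_, ?_, ?_⟩
  · obtain ⟨z, hz, hzne⟩ := hne
    refine ⟨z, hz, ?_⟩
    intro h
    apply hzne
    have hzP := hRP z hz
    have h1 := hval' ⟨z, hzP⟩
    have h2 := hval' 1
    simp only [OneMemClass.coe_one] at h1 h2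
    rw [h1, h2, ← hone']
    congr 1
    rw [← h]
    show _ = (i : P₀ → ℂ) (π z)
    rw [show π z = ⟨z, hzP⟩ from hπ ⟨z, hzP⟩]
  · rw [hdeg']
    have h1 : charDegree (i : P₀ → ℂ) ∣ p ^ a := by
      rw [← ha]
      exact charDegree_dvd_card i.2
    obtain ⟨j, -, hj⟩ := (Nat.dvd_prime_pow hp).mp h1
    exact ⟨j, hj⟩
  · rw [hdeg', hdeg]
    exact Dvd.intro_left _ rfl

end PPart

section Setup

variable {L : Type*} [Group L] [Fintype L] (K : Subgroup L) [hK : K.Normal]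

/-- `θ` is non-trivial on `Z`. -/
def NT (Z : Subgroup L) (θ : K → ℂ) : Prop := ∃ a : K, (a : L) ∈ Z ∧ θ a ≠ θ 1

/-- The characters induced from the irreducible characters of `K` non-trivial on `Z`. -/
def Tset (Z : Subgroup L) : Set (L → ℂ) :=
  {φ | ∃ θ : K → ℂ, IsIrrCharacter K θ ∧ NT K Z θ ∧ φ = indFun K θ}

variable {K}

theorem NT_mono {Z Z' : Subgroup L} (h : Z ≤ Z') {θ : K → ℂ} (hθ : NT K Z θ) : NT K Z' θ := by
  obtain ⟨a, ha, hne⟩ := hθ
  exact ⟨a, h ha, hne⟩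

theorem Tset_mono {Z Z' : Subgroup L} (h : Z ≤ Z') : Tset K Z ⊆ Tset K Z' := by
  rintro φ ⟨θ, h1, h2, h3⟩
  exact ⟨θ, h1, NT_mono h h2, h3⟩

theorem Tset_finite (Z : Subgroup L) : (Tset K Z).Finite := by
  classical
  apply Set.Finite.subset (Set.finite_range (fun θ : IrrCharacter K => indFun K (θ : K → ℂ)))
  rintro φ ⟨θ, h1, -, rfl⟩
  exact ⟨⟨θ, h1⟩, rfl⟩

theorem NT_conj {Z : Subgroup L} {θ : K → ℂ} (h : NT K Z θ) : NT K Z (conjFun θ) := by
  obtain ⟨a, ha, hne⟩ := h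
  refine ⟨a, ha, fun h1 => hne ?_⟩
  simp only [conjFun] at h1
  exact (starRingEnd ℂ).injective h1

/-- A stabiliser computation. -/
theorem mem_of_conjBy_eq {θ : K → ℂ} (hθ : IsIrrCharacter K θ)
    (hI : IsIrrCharacter L (indFun K θ)) {x : L} (hx : conjBy K hK x θ = θ) : x ∈ K := by
  classical
  have hnorm := natCard_mul_classInner_indFun_self K hK θ hθ
  rw [classInner_irr_self hI, mul_one] at hnorm
  have hcard : Nat.card K = Nat.card {g : L // conjBy K hK g θ = θ} := by exact_mod_cast hnorm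
  by_contra hxK
  have hsub : (K : Set L) ⊂ {g | conjBy K hK g θ = θ} := by
    refine ⟨fun g hg => ?_, fun h => hxK (h hx)⟩
    funext a
    rw [conjBy_apply]
    exact isClassFunction_of_isCharacter (IsIrrCharacter.isCharacter hθ) a ⟨g, hg⟩
  have h1 := Set.ncard_lt_ncard hsub (Set.toFinite _)
  rw [← Nat.card_coe_set_eq, ← Nat.card_coe_set_eq] at h1
  have h2 : Nat.card (K : Set L) = Nat.card K := rfl
  have h3 : Nat.card ({g | conjBy K hK g θ = θ} : Set L) = Nat.card {g : L // conjBy K hK g θ = θ} := rfl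
  rw [h2, h3] at h1
  omega

theorem conjBy_eq_of_mem (θ : K → ℂ) (hθ : IsIrrCharacter K θ) {x : L} (hx : x ∈ K) :
    conjBy K hK x θ = θ := by
  funext a
  rw [conjBy_apply]
  exact isClassFunction_of_isCharacter (IsIrrCharacter.isCharacter hθ) a ⟨x, hx⟩

/-- Iterating the conjugation. -/
theorem conjBy_pow (θ : K → ℂ) (x : L) (n : ℕ) :
    (fun φ => conjBy K hK x φ)^[n] θ = conjBy K hK (x ^ n) θ := by
  induction n with
  | zero =>
    rw [pow_zero, conjBy_one]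
    rfl
  | succ n ih =>
    rw [Function.iterate_succ_apply', ih, conjBy_conjBy, pow_succ]

section Free

variable {Z : Subgroup L} [hZ : Z.Normal]

/-- Conjugation in `R = Z ∩ K`. -/
theorem conj_mem_R (hZK : Z ≤ K) (x : L) {z : K} (hz : z ∈ Z.subgroupOf K) :
    (⟨x * z * x⁻¹, hK.conj_mem z z.2 x⟩ : K) ∈ Z.subgroupOf K := by
  rw [Subgroup.mem_subgroupOf] at hz ⊢
  exact hZ.conj_mem _ hz x

/-- **The free action**: an element fixing a non-trivial linear function on `Z` is in `K`. -/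
theorem free_action (hZK : Z ≤ K)
    (hcop : ∀ q : ℕ, q.Prime → q ∣ K.index → ¬ q ∣ Nat.card K)
    (hI : ∀ θ : K → ℂ, IsIrrCharacter K θ → NT K Z θ → IsIrrCharacter L (indFun K θ))
    {b : K → ℂ} (hb : IsLin (Z.subgroupOf K) b) (hbne : ∃ z ∈ Z.subgroupOf K, b z ≠ 1) {x : L}
    (hx : ∀ z : K, z ∈ Z.subgroupOf K → b ⟨x * z * x⁻¹, hK.conj_mem z z.2 x⟩ = b z) : x ∈ K := by
  classical
  by_contra hxK
  obtain ⟨c, q, hq, hx₀, hx₀q⟩ := exists_prime_pow_not_mem K hxK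
  set x₀ := x ^ c with hx₀def
  have hfix : ∀ (n : ℕ) (z : K), z ∈ Z.subgroupOf K →
      b ⟨x ^ n * z * (x ^ n)⁻¹, hK.conj_mem z z.2 (x ^ n)⟩ = b z := by
    intro n
    induction n with
    | zero =>
      intro z _
      congr 1
      apply Subtype.ext
      simp
    | succ n ih =>
      intro z hz
      have h1 := conj_mem_R (hZ := hZ) hZK (x ^ n) hz
      have h2 := hx _ h1
      rw [ih z hz] at h2
      rw [← h2]
      congr 1
      apply Subtype.ext
      show x ^ (n + 1) * z * (x ^ (n + 1))⁻¹ = x * (x ^ n * z * (x ^ n)⁻¹) * x⁻¹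
      rw [pow_succ']
      group
  have hfix₀ := hfix c
  -- the index
  have hqK : q ∣ K.index := by
    have h1 : ((x₀ : L) : L ⧸ K) ^ q = 1 := by
      rw [← QuotientGroup.mk_pow]
      exact (QuotientGroup.eq_one_iff _).mpr hx₀q
    have h2 : ((x₀ : L) : L ⧸ K) ≠ 1 := fun h => hx₀ ((QuotientGroup.eq_one_iff _).mp h)
    haveI : Fact q.Prime := ⟨hq⟩
    have h3 := orderOf_eq_prime h1 h2
    rw [Subgroup.index_eq_card, ← h3]
    exact orderOf_dvd_natCard _
  -- the permutation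
  have hnt : ∀ θ : K → ℂ, IsIrrCharacter K θ → Over (Z.subgroupOf K) b θ → NT K Z θ := by
    intro θ hθ ho
    obtain ⟨z, hz, hne⟩ := hbne
    refine ⟨z, Subgroup.mem_subgroupOf.mp hz, fun h => hne ?_⟩
    have h1 := ho z hz
    rw [h] at h1
    have h0 := isIrr_one_ne_zero hθ
    exact mul_left_cancel₀ h0 (by rw [mul_one]; exact h1.symm)
  let σ : IrrCharacter K → IrrCharacter K := fun θ =>
    ⟨conjBy K hK x₀ θ, isIrrCharacter_conjBy K hK x₀ θ.2⟩
  have hσval : ∀ (n : ℕ) (θ : IrrCharacter K), ((σ^[n] θ : IrrCharacter K) : K → ℂ) =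
      (fun φ => conjBy K hK x₀ φ)^[n] (θ : K → ℂ) := by
    intro n
    induction n with
    | zero => intro θ; rfl
    | succ n ih =>
      intro θ
      rw [Function.iterate_succ_apply', Function.iterate_succ_apply']
      show conjBy K hK x₀ ((σ^[n] θ : IrrCharacter K) : K → ℂ) = _
      rw [ih]
  set F : Finset (IrrCharacter K) := Finset.univ.filter
    (fun θ => Over (Z.subgroupOf K) b (θ : K → ℂ)) with hF
  have hdeg : ∀ θ : IrrCharacter K, charDegree ((σ θ : IrrCharacter K) : K → ℂ) =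
      charDegree (θ : K → ℂ) := by
    intro θ
    have h1 : ((σ θ : IrrCharacter K) : K → ℂ) 1 = (θ : K → ℂ) 1 := by
      exact conjBy_at_one (hJ := hK) x₀ (θ : K → ℂ)
    rw [one_eq_charDegree (IsIrrCharacter.isCharacter (σ θ).2),
      one_eq_charDegree (IsIrrCharacter.isCharacter θ.2)] at h1
    exact_mod_cast h1
  have hdvd := dvd_sum_of_free F σ (fun θ => charDegree (θ : K → ℂ) ^ 2) hq
    (by
      intro θ hθ
      have h1 := (Finset.mem_filter.mp hθ).2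
      refine Finset.mem_filter.mpr ⟨Finset.mem_univ _, ?_⟩
      intro r hr
      show conjBy K hK x₀ (θ : K → ℂ) r = conjBy K hK x₀ (θ : K → ℂ) 1 * b r
      have e1 : conjBy K hK x₀ (θ : K → ℂ) 1 = (θ : K → ℂ) 1 :=
        conjBy_at_one (hJ := hK) x₀ (θ : K → ℂ)
      rw [e1, conjBy_apply, h1 _ (conj_mem_R (hZ := hZ) hZK x₀ hr), hfix₀ r hr])
    (by
      intro θ _
      show charDegree ((σ θ : IrrCharacter K) : K → ℂ) ^ 2 = _
      rw [hdeg])
    (by
      intro θ _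
      apply Subtype.ext
      rw [hσval, conjBy_pow]
      exact conjBy_eq_of_mem _ θ.2 hx₀q)
    (by
      intro θ hθ h
      have h1 := (Finset.mem_filter.mp hθ).2
      have h2 : conjBy K hK x₀ (θ : K → ℂ) = θ := congrArg Subtype.val h
      exact hx₀ (mem_of_conjBy_eq θ.2 (hI _ θ.2 (hnt _ θ.2 h1)) h2))
  rw [hF, Finset.sum_filter, total_mass hb] at hdvd
  exact hcop q hq hqK (hdvd.trans (Subgroup.index_dvd_card _))

end Free

end Setup

section PGroup

variable {L : Type*} [Group L] [Fintype L] {K : Subgroup L} [hK : K.Normal]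
  {G : Type*} [Group G] [Fintype G] {Z : Subgroup L} [hZ : Z.Normal]

theorem central_R (hZc : ∀ z ∈ Z, ∀ k ∈ K, z * k = k * z) (θ : K → ℂ) :
    ∀ z ∈ Z.subgroupOf K, ∀ g : K, θ (z * g * z⁻¹ * g⁻¹) = θ 1 := by
  intro z hz g
  have h : z * g * z⁻¹ * g⁻¹ = 1 := by
    have h1 : z * g = g * z := Subtype.ext (hZc z (Subgroup.mem_subgroupOf.mp hz) g g.2)
    rw [h1]
    group
  rw [h]

/-- The linear function attached to an irreducible character. -/
noncomputable def bb (θ : K → ℂ) : K → ℂ := fun y => θ y / θ 1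

theorem bb_lin (hZc : ∀ z ∈ Z, ∀ k ∈ K, z * k = k * z) {θ : K → ℂ} (hθ : IsIrrCharacter K θ) :
    IsLin (Z.subgroupOf K) (bb θ) :=
  isLin_of_central hθ (central_R hZc θ)

theorem bb_over {θ : K → ℂ} (hθ : IsIrrCharacter K θ) : Over (Z.subgroupOf K) (bb θ) θ :=
  over_of_central hθ _

theorem bb_ne {θ : K → ℂ} (hθ : IsIrrCharacter K θ) (h : NT K Z θ) :
    ∃ z ∈ Z.subgroupOf K, bb θ z ≠ 1 := by
  obtain ⟨a, ha, hne⟩ := h
  refine ⟨a, Subgroup.mem_subgroupOf.mpr ha, fun h1 => hne ?_⟩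
  have h0 := isIrr_one_ne_zero hθ
  have h2 : θ a / θ 1 = 1 := h1
  field_simp at h2
  exact h2

theorem charDegree_conjFun' {X : Type*} [Group X] {θ : X → ℂ} (hθ : IsCharacter X θ)
    (hc : IsCharacter X (conjFun θ)) : charDegree (conjFun θ) = charDegree θ := by
  have h1 : conjFun θ 1 = θ 1 := by
    obtain ⟨d, hd⟩ := isCharacter_one_eq hθ
    simp [conjFun, hd]
  rw [one_eq_charDegree hc, one_eq_charDegree hθ] at h1
  exact_mod_cast h1

/-- Induction is injective on the characters over a fixed non-trivial linear function. -/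
theorem ind_inj_of_over (hZK : Z ≤ K) (hcop : ∀ q : ℕ, q.Prime → q ∣ K.index → ¬ q ∣ Nat.card K)
    (hI : ∀ θ : K → ℂ, IsIrrCharacter K θ → NT K Z θ → IsIrrCharacter L (indFun K θ))
    {b : K → ℂ} (hb : IsLin (Z.subgroupOf K) b) (hbne : ∃ z ∈ Z.subgroupOf K, b z ≠ 1)
    {θ θ' : K → ℂ} (hθ : IsIrrCharacter K θ) (hθ' : IsIrrCharacter K θ')
    (ho : Over (Z.subgroupOf K) b θ) (ho' : Over (Z.subgroupOf K) b θ')
    (h : indFun K θ = indFun K θ') : θ = θ' := by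
  have hnt : NT K Z θ := by
    obtain ⟨z, hz, hne⟩ := hbne
    refine ⟨z, Subgroup.mem_subgroupOf.mp hz, fun h => hne ?_⟩
    have h1 := ho z hz
    rw [h] at h1
    have h0 := isIrr_one_ne_zero hθ
    exact mul_left_cancel₀ h0 (by rw [mul_one]; exact h1.symm)
  obtain ⟨k, hk⟩ := conj_of_ind_eq (hJ := hK) hθ hθ' (hI θ hθ hnt) h
  have hkK : k ∈ K := free_action hZK hcop hI hb hbne (x := k) (by
    intro z hz
    have h1 := congrFun hk z
    rw [conjBy_apply, ho _ (conj_mem_R (hZ := hZ) hZK k hz), ho' z hz] at h1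
    have h2 : θ' 1 = θ 1 := by
      rw [← hk]
      exact conjBy_at_one (hJ := hK) k θ
    rw [h2] at h1
    exact mul_left_cancel₀ (isIrr_one_ne_zero hθ) h1)
  rw [← hk]
  exact (conjBy_eq_of_mem θ hθ hkK).symm

/-- There is a character non-trivial on a non-trivial subgroup. -/
theorem exists_NT (hZK : Z ≤ K) (hZ1 : Z ≠ ⊥) : ∃ θ : IrrCharacter K, NT K Z (θ : K → ℂ) := by
  classical
  by_contra hcon
  push Not at hcon
  have hall : ∀ θ : IrrCharacter K, ∀ n ∈ Z.subgroupOf K, (θ : K → ℂ) n = (θ : K → ℂ) 1 := by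
    intro θ n hn
    by_contra hne
    exact hcon θ ⟨n, Subgroup.mem_subgroupOf.mp hn, hne⟩
  have h3 : (Z.subgroupOf K).index = Nat.card K := by
    rw [← sum_ker_eq_index (Z.subgroupOf K), ← sum_charDegree_sq (G := K)]
    refine Finset.sum_congr rfl fun θ _ => ?_
    rw [if_pos (hall θ)]
  have h4 := Subgroup.card_mul_index (Z.subgroupOf K)
  rw [h3] at h4
  have h5 : Nat.card (Z.subgroupOf K) = 1 := Nat.eq_of_mul_eq_mul_right Nat.card_pos (by rw [h4, one_mul])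
  apply hZ1
  rw [eq_bot_iff]
  intro z hz
  have h6 : Subsingleton (Z.subgroupOf K) := (Nat.card_eq_one_iff_unique.mp h5).1
  have h7 : (⟨⟨z, hZK hz⟩, Subgroup.mem_subgroupOf.mpr hz⟩ : Z.subgroupOf K) = 1 := Subsingleton.elim _ _
  have h8 := congrArg (fun u : Z.subgroupOf K => ((u : K) : L)) h7
  simpa using h8

/-- **The `p`-group case.** -/
theorem coherent_pgroup (hnil : Group.IsNilpotent K) (hodd : Odd (Nat.card L)) (hZK : Z ≤ K)
    (hZc : ∀ z ∈ Z, ∀ k ∈ K, z * k = k * z) (hZ1 : Z ≠ ⊥)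
    (hcop : ∀ q : ℕ, q.Prime → q ∣ K.index → ¬ q ∣ Nat.card K)
    (hI : ∀ θ : K → ℂ, IsIrrCharacter K θ → NT K Z θ → IsIrrCharacter L (indFun K θ))
    (hconj : ∀ φ ∈ Tset K Z, conjFun φ ≠ φ)
    {p : ℕ} (hp : p.Prime) (hpZ : ∀ z ∈ Z, ∃ n : ℕ, z ^ (p ^ n) = 1)
    (τ : (L → ℂ) → (G → ℂ)) (hτ : IsLinearIsometryOn (zspanOn (Tset K Z) {1}ᶜ) τ)
    (hτ1 : ∀ α ∈ zspanOn (Tset K Z) {1}ᶜ, τ α 1 = 0) :
    IsCoherent (Tset K Z) {1}ᶜ τ := by
  classical
  letI : Fintype K := Fintype.ofFinite K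
  set R := Z.subgroupOf K with hR
  have hRp : ∀ z ∈ R, ∃ n : ℕ, z ^ (p ^ n) = 1 := by
    intro z hz
    obtain ⟨n, hn⟩ := hpZ z (Subgroup.mem_subgroupOf.mp hz)
    refine ⟨n, Subtype.ext ?_⟩
    simpa using hn
  have hNTR : ∀ θ : K → ℂ, NT K Z θ → ∃ z ∈ R, θ z ≠ θ 1 := by
    rintro θ ⟨a, ha, hne⟩
    exact ⟨a, Subgroup.mem_subgroupOf.mpr ha, hne⟩
  have hRNT : ∀ θ : K → ℂ, (∃ z ∈ R, θ z ≠ θ 1) → NT K Z θ := by
    rintro θ ⟨a, ha, hne⟩
    exact ⟨a, Subgroup.mem_subgroupOf.mp ha, hne⟩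
  -- a character of minimal degree
  obtain ⟨θ₁, hθ₁⟩ := exists_NT (K := K) hZK hZ1
  set A := Finset.univ.filter (fun θ : IrrCharacter K => NT K Z (θ : K → ℂ)) with hA
  have hAne : A.Nonempty := ⟨θ₁, Finset.mem_filter.mpr ⟨Finset.mem_univ _, hθ₁⟩⟩
  obtain ⟨θ₀, hθ₀A, hminA⟩ := Finset.exists_min_image A (fun θ => charDegree (θ : K → ℂ)) hAne
  have hθ₀NT : NT K Z (θ₀ : K → ℂ) := (Finset.mem_filter.mp hθ₀A).2
  set f₁ := charDegree (θ₀ : K → ℂ) with hf₁
  have hf₁pos : 0 < f₁ := charDegree_pos θ₀.2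
  have hmin : ∀ θ : K → ℂ, IsIrrCharacter K θ → NT K Z θ → f₁ ≤ charDegree θ := fun θ h1 h2 =>
    hminA ⟨θ, h1⟩ (Finset.mem_filter.mpr ⟨Finset.mem_univ _, h2⟩)
  obtain ⟨i₀, hi₀⟩ : ∃ i₀ : ℕ, f₁ = p ^ i₀ := by
    obtain ⟨θ', h1, h2, ⟨i, hi⟩, h4⟩ := exists_p_part hnil hp R hRp θ₀.2 (hNTR _ hθ₀NT)
    refine ⟨i, ?_⟩
    rw [← hi]
    exact le_antisymm (hmin θ' h1 (hRNT _ h2)) (Nat.le_of_dvd hf₁pos h4)
  have hdvdθ : ∀ θ : K → ℂ, IsIrrCharacter K θ → NT K Z θ → f₁ ∣ charDegree θ := by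
    intro θ hθ hnt
    obtain ⟨θ', h1, h2, ⟨i, hi⟩, h4⟩ := exists_p_part hnil hp R hRp hθ (hNTR _ hnt)
    have h5 := hmin θ' h1 (hRNT _ h2)
    rw [hi, hi₀] at h5
    have h6 : i₀ ≤ i := (Nat.pow_le_pow_iff_right hp.one_lt).mp h5
    rw [hi₀]
    exact (pow_dvd_pow p h6).trans (hi ▸ h4)
  -- the finite set
  set F := (Tset_finite (K := K) Z).toFinset with hFdef
  have hF : ∀ ξ, ξ ∈ F ↔ ξ ∈ Tset K Z := fun ξ => by simp [hFdef]
  have hFc : (↑F : Set (L → ℂ)) = Tset K Z := by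
    ext ξ
    simp [hF]
  rw [← hFc] at hτ hτ1 ⊢
  have hdeg : ∀ θ : K → ℂ, IsIrrCharacter K θ → charDegree (indFun K θ) = K.index * charDegree θ :=
    fun θ h => Cfsg.Agent.Lib.FrobIrr9.charDegree_ind (IsIrrCharacter.isCharacter h)
  have hFirr : ∀ ξ ∈ F, IsIrrCharacter L ξ := by
    intro ξ hξ
    obtain ⟨θ, h1, h2, rfl⟩ := (hF ξ).mp hξ
    exact hI θ h1 h2
  have he : 0 < K.index := Nat.pos_of_ne_zero Subgroup.index_ne_zero_of_finite
  have hKodd : Odd (Nat.card K) := Odd.of_dvd_nat hodd (Subgroup.card_subgroup_dvd_card K)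
  refine coherent_levels F hFirr (K.index * f₁) ?_ ?_ ?_ τ hτ hτ1
  · intro ξ hξ
    obtain ⟨θ, h1, h2, rfl⟩ := (hF ξ).mp hξ
    rw [hdeg θ h1]
    exact Nat.mul_dvd_mul_left _ (hdvdθ θ h1 h2)
  · have hc0 : IsIrrCharacter K (conjFun (θ₀ : K → ℂ)) := isIrrCharacter_conjFun θ₀.2
    refine ⟨indFun K (θ₀ : K → ℂ), (hF _).mpr ⟨_, θ₀.2, hθ₀NT, rfl⟩,
      indFun K (conjFun (θ₀ : K → ℂ)), (hF _).mpr ⟨_, hc0, NT_conj hθ₀NT, rfl⟩, ?_, hdeg _ θ₀.2, ?_⟩
    · rw [← conjFun_indFun]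
      exact (hconj _ ⟨_, θ₀.2, hθ₀NT, rfl⟩).symm
    · rw [hdeg _ hc0, charDegree_conjFun' (IsIrrCharacter.isCharacter θ₀.2)
        (IsIrrCharacter.isCharacter hc0)]
  · intro χ hχ hne
    obtain ⟨θ, hθ, hnt, rfl⟩ := (hF χ).mp hχ
    rw [hdeg θ hθ] at hne ⊢
    set f := charDegree θ with hf
    have hffne : f ≠ f₁ := fun h => hne (by rw [h])
    obtain ⟨c, hc⟩ : f₁ ∣ f := hdvdθ θ hθ hnt
    have hfodd : Odd f := Odd.of_dvd_nat hKodd (charDegree_dvd_card hθ)
    have hcodd : Odd c := by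
      rw [hc] at hfodd
      exact (Nat.odd_mul.mp hfodd).2
    have hc3 : 3 ≤ c := by
      obtain ⟨m, hm⟩ := hcodd
      by_contra hcon
      have h1 : m = 0 := by omega
      rw [h1] at hm
      apply hffne
      rw [hc, hm]
      simp
    have h2f₁ : 2 * f₁ < f := by
      rw [hc]
      nlinarith
    have hff₁ : f₁ < f := by omega
    -- the mass bound
    have hbl : IsLin R (bb (θ₀ : K → ℂ)) := bb_lin hZc θ₀.2
    have hsq : f ^ 2 ≤ R.index := deg_sq_le_index hθ R (central_R hZc θ)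
    have hmb := mass_bound' hnil R hbl θ₀.2 (bb_over θ₀.2) (f := f) hff₁ hsq
    have hbne := bb_ne θ₀.2 hθ₀NT
    -- the injection
    have hmass : K.index ^ 2 * Mass R (bb (θ₀ : K → ℂ)) f ≤
        ∑ ξ ∈ F.filter (fun ξ => charDegree ξ < K.index * f), charDegree ξ ^ 2 := by
      unfold Mass
      rw [← Finset.sum_filter, Finset.mul_sum]
      set S₁ := Finset.univ.filter (fun θ' : IrrCharacter K => Over R (bb (θ₀ : K → ℂ)) (θ' : K → ℂ) ∧
        charDegree (θ' : K → ℂ) < f) with hS₁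
      let I : IrrCharacter K → (L → ℂ) := fun θ' => indFun K (θ' : K → ℂ)
      have hinj : Set.InjOn I S₁ := by
        intro a ha a' ha' heq
        exact Subtype.ext (ind_inj_of_over hZK hcop hI hbl hbne a.2 a'.2 (Finset.mem_filter.mp ha).2.1
          (Finset.mem_filter.mp ha').2.1 heq)
      have hsub : S₁.image I ⊆ F.filter (fun ξ => charDegree ξ < K.index * f) := by
        intro ξ hξ
        obtain ⟨a, ha, rfl⟩ := Finset.mem_image.mp hξ
        have h5 := (Finset.mem_filter.mp ha).2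
        refine Finset.mem_filter.mpr ⟨(hF _).mpr ⟨_, a.2, ?_, rfl⟩, ?_⟩
        · obtain ⟨z, hz, hzne⟩ := hbne
          refine ⟨z, Subgroup.mem_subgroupOf.mp hz, fun h => hzne ?_⟩
          have h1 := h5.1 z hz
          rw [h] at h1
          exact mul_left_cancel₀ (isIrr_one_ne_zero a.2) (by rw [mul_one]; exact h1.symm)
        · show charDegree (indFun K (a : K → ℂ)) < _
          rw [hdeg _ a.2]
          exact Nat.mul_lt_mul_of_pos_left h5.2 he
      calc ∑ a ∈ S₁, K.index ^ 2 * charDegree (a : K → ℂ) ^ 2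
          = ∑ a ∈ S₁, charDegree (I a) ^ 2 := by
            refine Finset.sum_congr rfl fun a _ => ?_
            show _ = charDegree (indFun K (a : K → ℂ)) ^ 2
            rw [hdeg _ a.2]
            ring
        _ = ∑ ξ ∈ S₁.image I, charDegree ξ ^ 2 :=
            (Finset.sum_image (f := fun ξ : L → ℂ => charDegree ξ ^ 2) hinj).symm
        _ ≤ _ := Finset.sum_le_sum_of_subset_of_nonneg hsub (fun _ _ _ => Nat.zero_le _)
    have hfpos : 0 < f := by omega
    calc 2 * (K.index * f₁) * (K.index * f) = K.index ^ 2 * (2 * f₁ * f) := by ring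
      _ < K.index ^ 2 * f ^ 2 := by
          apply Nat.mul_lt_mul_of_pos_left _ (by positivity)
          rw [sq]
          exact Nat.mul_lt_mul_of_pos_right h2f₁ hfpos
      _ ≤ K.index ^ 2 * Mass R (bb (θ₀ : K → ℂ)) f := Nat.mul_le_mul_left _ hmb
      _ ≤ _ := hmass

end PGroup

section General

variable {L : Type*} [Group L] [Fintype L] {K : Subgroup L} [hK : K.Normal]
  {G : Type*} [Group G] [Fintype G]

/-- The `p`-part of an abelian subgroup. -/
def Zp (Z : Subgroup L) (hZ : ∀ z ∈ Z, ∀ w ∈ Z, z * w = w * z) (p : ℕ) : Subgroup L where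
  carrier := {z | z ∈ Z ∧ ∃ n : ℕ, z ^ (p ^ n) = 1}
  mul_mem' := by
    rintro z w ⟨hz, n, hn⟩ ⟨hw, m, hm⟩
    refine ⟨Z.mul_mem hz hw, n + m, ?_⟩
    have hc : Commute z w := hZ z hz w hw
    rw [hc.mul_pow, pow_add, pow_mul, hn, one_pow, one_mul, mul_comm, pow_mul, hm, one_pow]
  one_mem' := ⟨Z.one_mem, 0, by simp⟩
  inv_mem' := by
    rintro z ⟨hz, n, hn⟩
    exact ⟨Z.inv_mem hz, n, by rw [inv_pow, hn, inv_one]⟩

/-- The `p'`-part of an abelian subgroup. -/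
def Zq (Z : Subgroup L) (hZ : ∀ z ∈ Z, ∀ w ∈ Z, z * w = w * z) (p : ℕ) : Subgroup L where
  carrier := {z | z ∈ Z ∧ (orderOf z).Coprime p}
  mul_mem' := by
    rintro z w ⟨hz, hn⟩ ⟨hw, hm⟩
    refine ⟨Z.mul_mem hz hw, ?_⟩
    have hc : Commute z w := hZ z hz w hw
    have h1 := hc.orderOf_mul_dvd_lcm
    have h2 : Nat.lcm (orderOf z) (orderOf w) ∣ orderOf z * orderOf w :=
      Nat.lcm_dvd_mul _ _
    exact Nat.Coprime.coprime_dvd_left (h1.trans h2) (Nat.Coprime.mul_left hn hm)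
  one_mem' := ⟨Z.one_mem, by simp⟩
  inv_mem' := by
    rintro z ⟨hz, hn⟩
    exact ⟨Z.inv_mem hz, by rwa [orderOf_inv]⟩

theorem Zp_normal (Z : Subgroup L) [hn : Z.Normal] (hZ : ∀ z ∈ Z, ∀ w ∈ Z, z * w = w * z) (p : ℕ) :
    (Zp Z hZ p).Normal := by
  refine ⟨?_⟩
  rintro z ⟨hz, n, hzn⟩ g
  refine ⟨hn.conj_mem z hz g, n, ?_⟩
  rw [conj_pow, hzn]
  group

theorem Zq_normal (Z : Subgroup L) [hn : Z.Normal] (hZ : ∀ z ∈ Z, ∀ w ∈ Z, z * w = w * z) (p : ℕ) :
    (Zq Z hZ p).Normal := by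
  refine ⟨?_⟩
  rintro z ⟨hz, hzn⟩ g
  refine ⟨hn.conj_mem z hz g, ?_⟩
  have h1 : orderOf (g * z * g⁻¹) = orderOf z := by
    have := MulEquiv.orderOf_eq (MulAut.conj g) z
    simpa [MulAut.conj_apply] using this
  rw [h1]
  exact hzn

theorem Zp_le (Z : Subgroup L) (hZ : ∀ z ∈ Z, ∀ w ∈ Z, z * w = w * z) (p : ℕ) : Zp Z hZ p ≤ Z :=
  fun _ h => h.1

theorem Zq_le (Z : Subgroup L) (hZ : ∀ z ∈ Z, ∀ w ∈ Z, z * w = w * z) (p : ℕ) : Zq Z hZ p ≤ Z :=
  fun _ h => h.1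

theorem card_lt_of_lt {A B : Subgroup L} (h : A < B) : Nat.card A < Nat.card B := by
  have h1 := Set.ncard_lt_ncard (s := (A : Set L)) (t := (B : Set L)) h (Set.toFinite _)
  rw [← Nat.card_coe_set_eq, ← Nat.card_coe_set_eq] at h1
  exact h1

theorem card_subgroupOf_ne_one {Z : Subgroup L} (hZK : Z ≤ K) (hZ1 : Z ≠ ⊥) :
    Nat.card (Z.subgroupOf K) ≠ 1 := by
  intro h5
  apply hZ1
  rw [eq_bot_iff]
  intro z hz
  have h6 : Subsingleton (Z.subgroupOf K) := (Nat.card_eq_one_iff_unique.mp h5).1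
  have h7 : (⟨⟨z, hZK hz⟩, Subgroup.mem_subgroupOf.mpr hz⟩ : Z.subgroupOf K) = 1 :=
    Subsingleton.elim _ _
  have h8 := congrArg (fun u : Z.subgroupOf K => ((u : K) : L)) h7
  simpa using h8

/-- A character non-trivial on two subgroups. -/
theorem exists_NT_two (hodd : Odd (Nat.card L)) {Z₁ Z₂ : Subgroup L} [hZ₁ : Z₁.Normal] [hZ₂ : Z₂.Normal]
    (h₁K : Z₁ ≤ K) (h₂K : Z₂ ≤ K) (h₁ : Z₁ ≠ ⊥) (h₂ : Z₂ ≠ ⊥) :
    ∃ θ : K → ℂ, IsIrrCharacter K θ ∧ NT K Z₁ θ ∧ NT K Z₂ θ := by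
  classical
  by_contra hcon
  push Not at hcon
  have hKodd : Odd (Nat.card K) := Odd.of_dvd_nat hodd (Subgroup.card_subgroup_dvd_card K)
  have hthree : ∀ Z : Subgroup L, Z ≤ K → Z ≠ ⊥ → 3 * (Z.subgroupOf K).index ≤ Nat.card K := by
    intro Z hZK hZ1
    have h1 := card_subgroupOf_ne_one hZK hZ1
    have h2 : Odd (Nat.card (Z.subgroupOf K)) :=
      Odd.of_dvd_nat hKodd (Subgroup.card_subgroup_dvd_card _)
    have h3 : 3 ≤ Nat.card (Z.subgroupOf K) := by
      obtain ⟨m, hm⟩ := h2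
      omega
    rw [← Subgroup.card_mul_index (Z.subgroupOf K)]
    exact Nat.mul_le_mul_right _ h3
  have h3 := hthree Z₁ h₁K h₁
  have h4 := hthree Z₂ h₂K h₂
  have h5 : Nat.card K ≤ (Z₁.subgroupOf K).index + (Z₂.subgroupOf K).index := by
    rw [← sum_ker_eq_index (Z₁.subgroupOf K), ← sum_ker_eq_index (Z₂.subgroupOf K),
      ← sum_charDegree_sq (G := K), ← Finset.sum_add_distrib]
    refine Finset.sum_le_sum fun θ _ => ?_
    by_cases h6 : ∀ n ∈ Z₁.subgroupOf K, (θ : K → ℂ) n = (θ : K → ℂ) 1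
    · rw [if_pos h6]
      exact Nat.le_add_right _ _
    · have h7 : NT K Z₁ (θ : K → ℂ) := by
        push Not at h6
        obtain ⟨n, hn, hne⟩ := h6
        exact ⟨n, Subgroup.mem_subgroupOf.mp hn, hne⟩
      have h8 : ∀ n ∈ Z₂.subgroupOf K, (θ : K → ℂ) n = (θ : K → ℂ) 1 := by
        intro n hn
        by_contra hne
        exact hcon _ θ.2 h7 ⟨n, Subgroup.mem_subgroupOf.mp hn, hne⟩
      rw [if_pos h8]
      exact Nat.le_add_left _ _
  have h6 : 0 < Nat.card K := Nat.card_pos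
  omega

/-- A real value of a character at an element of odd order in the central subgroup. -/
theorem real_val_eq_one {Z : Subgroup L} [hZ : Z.Normal] (hZc : ∀ z ∈ Z, ∀ k ∈ K, z * k = k * z)
    {θ : K → ℂ} (hθ : IsIrrCharacter K θ) {z : K} (hz : z ∈ Z.subgroupOf K)
    (hodd : Odd (orderOf z)) (hre : θ z = conj (θ z)) : θ z = θ 1 := by
  have hb := bb_lin hZc hθ (Z := Z)
  have ho := bb_over (Z := Z) hθ z hz
  have h0 := isIrr_one_ne_zero hθ
  have hmc := hb.mul_conj hz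
  obtain ⟨d, hd⟩ := isCharacter_one_eq (IsIrrCharacter.isCharacter hθ)
  have hconj1 : conj (θ 1) = θ 1 := by simp [hd]
  have h1 : bb θ z = conj (bb θ z) := by
    rw [ho, map_mul, hconj1] at hre
    exact mul_left_cancel₀ h0 hre
  rw [← h1] at hmc
  have h2 := hb.pow_order hz
  obtain ⟨m, hm⟩ := hodd
  rw [hm, pow_succ, pow_mul, sq, hmc, one_pow, one_mul] at h2
  rw [ho, h2, mul_one]

/-- The main induction. -/
theorem coherent_general (hnil : Group.IsNilpotent K) (hodd : Odd (Nat.card L))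
    (hcop : ∀ q : ℕ, q.Prime → q ∣ K.index → ¬ q ∣ Nat.card K) (τ : (L → ℂ) → (G → ℂ)) (n : ℕ) :
    ∀ (Z : Subgroup L) (_ : Z.Normal), Nat.card Z = n → Z ≠ ⊥ → Z ≤ K →
    (∀ z ∈ Z, ∀ k ∈ K, z * k = k * z) →
    (∀ θ : K → ℂ, IsIrrCharacter K θ → NT K Z θ → IsIrrCharacter L (indFun K θ)) →
    (∀ φ ∈ Tset K Z, conjFun φ ≠ φ) →
    IsLinearIsometryOn (zspanOn (Tset K Z) {1}ᶜ) τ →
    (∀ α ∈ zspanOn (Tset K Z) {1}ᶜ, τ α 1 = 0) →
    IsCoherent (Tset K Z) {1}ᶜ τ := by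
  classical
  induction n using Nat.strong_induction_on with
  | _ n ih =>
    intro Z hZn hcard hZ1 hZK hZc hI hconj hτ hτ1
    by_cases hpg : ∃ p : ℕ, p.Prime ∧ ∀ z ∈ Z, ∃ m : ℕ, z ^ (p ^ m) = 1
    · obtain ⟨p, hp, hpZ⟩ := hpg
      exact coherent_pgroup hnil hodd hZK hZc hZ1 hcop hI hconj hp hpZ τ hτ hτ1
    push Not at hpg
    have hZcomm : ∀ z ∈ Z, ∀ w ∈ Z, z * w = w * z := fun z hz w hw => hZc z hz w (hZK hw)
    -- a prime dividing the order
    obtain ⟨z₀, hz₀, hz₀1⟩ : ∃ z ∈ Z, z ≠ 1 := by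
      by_contra hcon
      push Not at hcon
      exact hZ1 ((Subgroup.eq_bot_iff_forall Z).mpr hcon)
    have hord : orderOf z₀ ≠ 1 := fun h => hz₀1 (orderOf_eq_one_iff.mp h)
    obtain ⟨p, hp, c, hc⟩ := Nat.exists_prime_and_dvd hord
    haveI : Fact p.Prime := ⟨hp⟩
    obtain ⟨w, hwZ, hw⟩ := hpg p hp
    set Z₁ := Zp Z hZcomm p with hZ₁
    set Z₂ := Zq Z hZcomm p with hZ₂
    haveI hZ₁n : Z₁.Normal := Zp_normal Z hZcomm p
    haveI hZ₂n : Z₂.Normal := Zq_normal Z hZcomm p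
    have h₁Z : Z₁ ≤ Z := Zp_le Z hZcomm p
    have h₂Z : Z₂ ≤ Z := Zq_le Z hZcomm p
    -- an element of order `p`
    have hc0 : c ≠ 0 := by
      rintro rfl
      rw [mul_zero] at hc
      exact (orderOf_pos z₀).ne' hc
    have hordp : orderOf (z₀ ^ c) = p := by
      rw [orderOf_pow' _ hc0, hc, Nat.gcd_mul_left_left, Nat.mul_div_cancel _ (Nat.pos_of_ne_zero hc0)]
    have hz₀c : z₀ ^ c ∈ Z₁ := ⟨Z.pow_mem hz₀ c, 1, by
      rw [pow_one, ← hordp]
      exact pow_orderOf_eq_one _⟩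
    have hz₀c1 : z₀ ^ c ≠ 1 := by
      intro h
      rw [h, orderOf_one] at hordp
      exact hp.one_lt.ne hordp
    have hz₀c2 : z₀ ^ c ∉ Z₂ := by
      intro h
      have h1 := h.2
      rw [hordp] at h1
      exact hp.one_lt.ne' (Nat.coprime_self p |>.mp h1)
    have h₁1 : Z₁ ≠ ⊥ := by
      intro h
      rw [h, Subgroup.mem_bot] at hz₀c
      exact hz₀c1 hz₀c
    -- an element of order prime to `p`
    obtain ⟨i, c', hc', hw1, -, hw3⟩ := exists_split w hp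
    have hwq : w ^ (p ^ i) ∈ Z₂ := ⟨Z.pow_mem hwZ _, hw3⟩
    have hwq1 : w ^ (p ^ i) ≠ 1 := hw i
    have h₂1 : Z₂ ≠ ⊥ := by
      intro h
      rw [h, Subgroup.mem_bot] at hwq
      exact hwq1 hwq
    have hw₁ : w ∉ Z₁ := by
      rintro ⟨-, m, hm⟩
      exact hw m hm
    have hlt₁ : Nat.card Z₁ < n := by
      rw [← hcard]
      exact card_lt_of_lt (lt_of_le_of_ne h₁Z (fun h => hw₁ (h ▸ hwZ)))
    have hlt₂ : Nat.card Z₂ < n := by
      rw [← hcard]
      exact card_lt_of_lt (lt_of_le_of_ne h₂Z (fun h => hz₀c2 (h ▸ Z.pow_mem hz₀ c)))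
    have h₁K : Z₁ ≤ K := h₁Z.trans hZK
    have h₂K : Z₂ ≤ K := h₂Z.trans hZK
    have hsub₁ := Tset_mono (K := K) h₁Z
    have hsub₂ := Tset_mono (K := K) h₂Z
    have hc₁ := ih _ hlt₁ Z₁ hZ₁n rfl h₁1 h₁K (fun z hz => hZc z (h₁Z hz))
      (fun θ h1 h2 => hI θ h1 (NT_mono h₁Z h2)) (fun φ hφ => hconj φ (hsub₁ hφ))
      (iso_mono hτ (zspanOn_mono hsub₁)) (fun α hα => hτ1 α (zspanOn_mono hsub₁ hα))
    have hc₂ := ih _ hlt₂ Z₂ hZ₂n rfl h₂1 h₂K (fun z hz => hZc z (h₂Z hz))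
      (fun θ h1 h2 => hI θ h1 (NT_mono h₂Z h2)) (fun φ hφ => hconj φ (hsub₂ hφ))
      (iso_mono hτ (zspanOn_mono hsub₂)) (fun α hα => hτ1 α (zspanOn_mono hsub₂ hα))
    -- the union
    have hunion : Tset K Z = Tset K Z₁ ∪ Tset K Z₂ := by
      apply Set.Subset.antisymm
      · rintro φ ⟨θ, h1, h2, rfl⟩
        by_cases h3 : NT K Z₁ θ
        · exact Or.inl ⟨θ, h1, h3, rfl⟩
        by_cases h4 : NT K Z₂ θ
        · exact Or.inr ⟨θ, h1, h4, rfl⟩
        exfalso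
        obtain ⟨a, ha, hne⟩ := h2
        obtain ⟨i', c'', hc'', ha1, -, ha3⟩ := exists_split a hp
        apply hne
        have hck := IsIrrCharacter.isCharacter h1
        rw [← mem_charKer hck]
        refine mem_of_pow_coprime _ (Nat.Coprime.pow_left i'
          ((Nat.Prime.coprime_iff_not_dvd hp).mpr hc'')) ?_ ?_
        · rw [mem_charKer hck]
          by_contra h5
          refine h4 ⟨a ^ (p ^ i'), ⟨?_, ?_⟩, h5⟩
          · exact_mod_cast Z.pow_mem ha _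
          · have h6 : orderOf ((a ^ (p ^ i') : K) : L) = orderOf (a ^ (p ^ i')) :=
              Subgroup.orderOf_coe _
            rw [h6]
            exact ha3
        · rw [mem_charKer hck]
          by_contra h5
          refine h3 ⟨a ^ c'', ⟨?_, i', ?_⟩, h5⟩
          · exact_mod_cast Z.pow_mem ha _
          · have h6 := congrArg Subtype.val ha1
            simpa using h6
      · exact Set.union_subset hsub₁ hsub₂
    rw [hunion] at hτ ⊢
    -- the overlap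
    obtain ⟨θ, hθ, hnt₁, hnt₂⟩ := exists_NT_two (K := K) hodd h₁K h₂K h₁1 h₂1
    letI : Fintype K := Fintype.ofFinite K
    -- the twist
    obtain ⟨N, c₀, hc₀, hNc⟩ := Nat.exists_eq_pow_mul_and_not_dvd (n := Nat.card K) Nat.card_pos.ne' p
      hp.ne_one
    have hcp : (p ^ N).Coprime c₀ :=
      Nat.Coprime.pow_left N ((Nat.Prime.coprime_iff_not_dvd hp).mpr hc₀)
    obtain ⟨t, ht₁, ht₂⟩ := Nat.chineseRemainder hcp 1 (c₀ - 1)
    have hc₀0 : c₀ ≠ 0 := by
      rintro rfl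
      exact hc₀ (dvd_zero p)
    have htcop : (Nat.card K).Coprime t := by
      rw [hNc]
      apply Nat.Coprime.mul_left
      · have h1 := ht₁.gcd_eq
        rw [Nat.Coprime, Nat.gcd_comm, h1]
        simp
      · have h1 := ht₂.gcd_eq
        rw [Nat.Coprime, Nat.gcd_comm, h1]
        obtain ⟨d, rfl⟩ := Nat.exists_eq_succ_of_ne_zero hc₀0
        simp
    have hK_p : ∀ u : K, (∃ m : ℕ, (u : L) ^ (p ^ m) = 1) → u ^ t = u := by
      rintro u ⟨m, hm⟩
      have h1 : u ^ (p ^ m) = 1 := Subtype.ext (by simpa using hm)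
      have h2 := orderOf_dvd_of_pow_eq_one h1
      obtain ⟨j, -, hj⟩ := (Nat.dvd_prime_pow hp).mp h2
      have h3 : orderOf u ∣ p ^ N * c₀ := by
        rw [← hNc]
        exact orderOf_dvd_natCard u
      have h4 : orderOf u ∣ p ^ N := by
        refine Nat.Coprime.dvd_of_dvd_mul_right ?_ h3
        rw [hj]
        exact Nat.Coprime.pow_left j ((Nat.Prime.coprime_iff_not_dvd hp).mpr hc₀)
      have h5 : t ≡ 1 [MOD orderOf u] := ht₁.of_dvd h4
      have h6 := (pow_eq_pow_iff_modEq (x := u)).mpr h5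
      rwa [pow_one] at h6
    have hK_q : ∀ u : K, (orderOf (u : L)).Coprime p → u ^ t = u⁻¹ := by
      intro u hu
      have h0 : orderOf (u : L) = orderOf u := Subgroup.orderOf_coe u
      rw [h0] at hu
      have h3 : orderOf u ∣ p ^ N * c₀ := by
        rw [← hNc]
        exact orderOf_dvd_natCard u
      have h4 : orderOf u ∣ c₀ := by
        refine Nat.Coprime.dvd_of_dvd_mul_left ?_ h3
        exact Nat.Coprime.pow_right N hu
      have h5 : t + 1 ≡ 0 [MOD orderOf u] := by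
        have h6 : t + 1 ≡ c₀ - 1 + 1 [MOD c₀] := ht₂.add_right 1
        have h7 : c₀ - 1 + 1 = c₀ := Nat.sub_add_cancel (Nat.pos_of_ne_zero hc₀0)
        rw [h7] at h6
        have h8 : c₀ ≡ 0 [MOD c₀] := (Nat.modEq_zero_iff_dvd).mpr dvd_rfl
        exact (h6.trans h8).of_dvd h4
      have h6 := (pow_eq_pow_iff_modEq (x := u)).mpr h5
      rw [pow_zero, pow_succ] at h6
      exact eq_inv_of_mul_eq_one_left h6
    set θ' : K → ℂ := fun k => θ (k ^ t) with hθ'
    have hθ'i : IsIrrCharacter K θ' := Cfsg.Agent.Lib.CharPow.isIrr_pow hθ htcop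
    have hθ'1 : θ' 1 = θ 1 := by simp [hθ']
    have hθ'p : ∀ u : K, (u : L) ∈ Z₁ → θ' u = θ u := by
      intro u hu
      show θ (u ^ t) = _
      rw [hK_p u hu.2]
    have hθ'q : ∀ u : K, (u : L) ∈ Z₂ → θ' u = conj (θ u) := by
      intro u hu
      show θ (u ^ t) = _
      rw [hK_q u hu.2, char_conj_eq_inv (IsIrrCharacter.isCharacter hθ)]
    obtain ⟨d₀, hd₀⟩ := isCharacter_one_eq (IsIrrCharacter.isCharacter hθ)
    have hconj1 : conj (θ 1) = θ 1 := by simp [hd₀]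
    have hnt'₁ : NT K Z₁ θ' := by
      obtain ⟨a, ha, hne⟩ := hnt₁
      exact ⟨a, ha, by rw [hθ'p a ha, hθ'1]; exact hne⟩
    have hnt'₂ : NT K Z₂ θ' := by
      obtain ⟨a, ha, hne⟩ := hnt₂
      refine ⟨a, ha, ?_⟩
      rw [hθ'q a ha, hθ'1]
      intro h
      apply hne
      rw [← hconj1] at h
      exact (starRingEnd ℂ).injective h
    set θc : K → ℂ := conjFun θ with hθc
    have hθci : IsIrrCharacter K θc := isIrrCharacter_conjFun hθ
    have hKodd : Odd (Nat.card K) := Odd.of_dvd_nat hodd (Subgroup.card_subgroup_dvd_card K)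
    have hoddo : ∀ u : K, Odd (orderOf u) := fun u =>
      Odd.of_dvd_nat hKodd (orderOf_dvd_natCard u)
    have hmemφ₁ : ∀ (Z' : Subgroup L) (ϑ : K → ℂ), IsIrrCharacter K ϑ → NT K Z' ϑ →
        indFun K ϑ ∈ Tset K Z' := fun Z' ϑ h1 h2 => ⟨ϑ, h1, h2, rfl⟩
    have hI₁ : ∀ ϑ : K → ℂ, IsIrrCharacter K ϑ → NT K Z₁ ϑ → IsIrrCharacter L (indFun K ϑ) :=
      fun ϑ h1 h2 => hI ϑ h1 (NT_mono h₁Z h2)
    have hI₂ : ∀ ϑ : K → ℂ, IsIrrCharacter K ϑ → NT K Z₂ ϑ → IsIrrCharacter L (indFun K ϑ) :=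
      fun ϑ h1 h2 => hI ϑ h1 (NT_mono h₂Z h2)
    have h0 := isIrr_one_ne_zero hθ
    have h12 : indFun K θ ≠ indFun K θ' := by
      intro h
      obtain ⟨k, hk⟩ := conj_of_ind_eq (hJ := hK) hθ hθ'i (hI₁ θ hθ hnt₁) h
      have hkK : k ∈ K := free_action (Z := Z₁) h₁K hcop hI₁ (bb_lin (fun z hz => hZc z (h₁Z hz)) hθ)
        (bb_ne hθ hnt₁) (x := k) (by
          intro z hz
          have hz' : (z : L) ∈ Z₁ := Subgroup.mem_subgroupOf.mp hz
          have h1 := congrFun hk z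
          rw [conjBy_apply, hθ'p z hz'] at h1
          show θ ⟨k * z * k⁻¹, _⟩ / θ 1 = θ z / θ 1
          rw [h1])
      have h1 : θ = θ' := by
        rw [← hk]
        exact (conjBy_eq_of_mem θ hθ hkK).symm
      obtain ⟨a, ha, hne⟩ := hnt₂
      apply hne
      refine real_val_eq_one (Z := Z₂) (fun z hz => hZc z (h₂Z hz)) hθ
        (Subgroup.mem_subgroupOf.mpr ha) (hoddo a) ?_
      have h2 := hθ'q a ha
      rw [← h1] at h2
      exact h2
    have h23 : indFun K θ' ≠ indFun K θc := by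
      intro h
      obtain ⟨k, hk⟩ := conj_of_ind_eq (hJ := hK) hθci hθ'i (hI₂ θc hθci (NT_conj hnt₂)) h.symm
      have hkK : k ∈ K := free_action (Z := Z₂) h₂K hcop hI₂ (bb_lin (fun z hz => hZc z (h₂Z hz)) hθ)
        (bb_ne hθ hnt₂) (x := k) (by
          intro z hz
          have hz' : (z : L) ∈ Z₂ := Subgroup.mem_subgroupOf.mp hz
          have h1 := congrFun hk z
          rw [conjBy_apply, hθ'q z hz'] at h1
          have h2 : θ ⟨k * z * k⁻¹, hK.conj_mem z z.2 k⟩ = θ z := (starRingEnd ℂ).injective h1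
          show θ ⟨k * z * k⁻¹, _⟩ / θ 1 = θ z / θ 1
          rw [h2])
      have h1 : θc = θ' := by
        rw [← hk]
        exact (conjBy_eq_of_mem θc hθci hkK).symm
      obtain ⟨a, ha, hne⟩ := hnt₁
      apply hne
      refine real_val_eq_one (Z := Z₁) (fun z hz => hZc z (h₁Z hz)) hθ
        (Subgroup.mem_subgroupOf.mpr ha) (hoddo a) ?_
      have h2 := hθ'p a ha
      rw [← h1] at h2
      exact h2.symm
    have h13 : indFun K θ ≠ indFun K θc := by
      rw [hθc, ← conjFun_indFun]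
      exact (hconj _ ⟨θ, hθ, NT_mono h₁Z hnt₁, rfl⟩).symm
    refine coherent_union (X := Tset K Z₁) (Y := Tset K Z₂) (φ₁ := indFun K θ) (φ₂ := indFun K θ')
      (φ₃ := indFun K θc) ?_ ?_ τ hτ hc₁ hc₂ (hmemφ₁ _ _ hθ hnt₁) (hmemφ₁ _ _ hθ hnt₂)
      (hmemφ₁ _ _ hθ'i hnt'₁) (hmemφ₁ _ _ hθ'i hnt'₂) (hmemφ₁ _ _ hθci (NT_conj hnt₁))
      (hmemφ₁ _ _ hθci (NT_conj hnt₂)) h12 h13 h23 ?_ ?_
    · rintro ξ ⟨ϑ, h1, h2, rfl⟩
      exact hI₁ ϑ h1 h2
    · rintro ξ ⟨ϑ, h1, h2, rfl⟩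
      exact hI₂ ϑ h1 h2
    · rw [indFun_one, indFun_one, hθ'1]
    · rw [indFun_one, indFun_one, hθc]
      simp only [conjFun]
      rw [hconj1]

end General

end Cfsg.Agent.Lib.CohCentral
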