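import Mathlib
import Cfsg.Agent.Lib.M11Chain

set_option autoImplicit false
set_option linter.unusedSectionVars false
set_option linter.unusedTactic false
set_option linter.unreachableTactic false
set_option linter.unusedVariables false
set_option linter.deprecated false

/-!
# Words in permutation codes; every element of `M11` is a product from the transversals
-/

namespace Cfsg.Agent.Lib.M11Enum
open Cfsg Cfsg.Spor Cfsg.Agent.Lib.M11Data Cfsg.Agent.Lib.M11Chain
open Cfsg.Agent.Lib.Golay hiding T1 T2 T3 T4 L1 L2 L3 L4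

/-- evaluation of a word of codes at a number -/
def evalW : List ℕ → ℕ → ℕ
  | [], i => i
  | c :: l, i => ap c (evalW l i)

/-- the permutation of a word of codes -/
noncomputable def prodW (l : List ℕ) : Equiv.Perm GolayPt := (l.map decode).prod

/-- all the codes of a word are valid -/
def allV (l : List ℕ) : Bool := l.all valid

theorem prodW_nil : prodW [] = 1 := rfl

theorem prodW_cons (c : ℕ) (l : List ℕ) : prodW (c :: l) = decode c * prodW l := by
  simp [prodW]

theorem prodW_append (l l' : List ℕ) : prodW (l ++ l') = prodW l * prodW l' := by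
  simp [prodW]

theorem allV_cons {c : ℕ} {l : List ℕ} : allV (c :: l) = true ↔ valid c = true ∧ allV l = true := by
  simp [allV]

theorem allV_append {l l' : List ℕ} (h : allV l = true) (h' : allV l' = true) : allV (l ++ l') = true := by
  simp only [allV, List.all_append, Bool.and_eq_true]
  exact ⟨h, h'⟩

theorem evalW_lt {l : List ℕ} (h : allV l = true) {i : ℕ} (hi : i < 24) : evalW l i < 24 := by
  induction l with
  | nil => exact hi
  | cons c l ih =>
    obtain ⟨h1, h2⟩ := allV_cons.1 h
    exact valid_ap_lt h1 (ih h2)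

theorem prodW_apply {l : List ℕ} (h : allV l = true) {i : ℕ} (hi : i < 24) :
    prodW l (pt i) = pt (evalW l i) := by
  induction l with
  | nil => rfl
  | cons c l ih =>
    obtain ⟨h1, h2⟩ := allV_cons.1 h
    rw [prodW_cons, Equiv.Perm.mul_apply, ih h2, decode_pt h1 (evalW_lt h2 hi)]
    rfl

/-- equality of two words, tested on all the points -/
def wordEq (w w' : List ℕ) : Bool := idxL.all fun i => Nat.beq (evalW w i) (evalW w' i)

theorem prodW_eq_of_wordEq {w w' : List ℕ} (hw : allV w = true) (hw' : allV w' = true)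
    (h : wordEq w w' = true) : prodW w = prodW w' := by
  apply Equiv.ext
  intro p
  rw [← pt_idx p, prodW_apply hw (idx_lt p), prodW_apply hw' (idx_lt p)]
  simp only [wordEq, List.all_eq_true] at h
  rw [Nat.eq_of_beq_eq_true (h _ (mem_idxL.2 (idx_lt p)))]

theorem wordEq_of_prodW_eq {w w' : List ℕ} (hw : allV w = true) (hw' : allV w' = true)
    (h : prodW w = prodW w') : wordEq w w' = true := by
  simp only [wordEq, List.all_eq_true]
  intro i hi
  have hi' := mem_idxL.1 hi
  have h1 : prodW w (pt i) = prodW w' (pt i) := by rw [h]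
  rw [prodW_apply hw hi', prodW_apply hw' hi'] at h1
  rw [pt_injOn (evalW_lt hw hi') (evalW_lt hw' hi') h1]
  exact Nat.beq_refl _

/-- repetition of a word -/
def rep (n : ℕ) (l : List ℕ) : List ℕ := (List.replicate n l).flatten

theorem prodW_rep (n : ℕ) (l : List ℕ) : prodW (rep n l) = prodW l ^ n := by
  induction n with
  | zero => rfl
  | succ n ih =>
    rw [rep, List.replicate_succ, List.flatten_cons, prodW_append, ← rep, ih, pow_succ']

theorem allV_rep (n : ℕ) {l : List ℕ} (h : allV l = true) : allV (rep n l) = true := by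
  induction n with
  | zero => rfl
  | succ n ih =>
    rw [rep, List.replicate_succ, List.flatten_cons]
    exact allV_append h ih

theorem prodW_replicate (n c : ℕ) : prodW (List.replicate n c) = decode c ^ n := by
  simp [prodW, List.map_replicate]

theorem allV_replicate (n : ℕ) {c : ℕ} (h : valid c = true) : allV (List.replicate n c) = true := by
  simp [allV, h]

/-! ### transversals and the decomposition of the elements of `M11` -/

theorem T1_M11 : levelM [] 1 L1 T1 = true := by decide +kernel
theorem T2_M11 : levelM [1] 2 L2 T2 = true := by decide +kernel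
theorem T3_M11 : levelM [2,1] 3 L3 T3 = true := by decide +kernel
theorem T4_M11 : levelM [3,2,1] 4 L4 T4 = true := by decide +kernel

theorem idx_mem_Ls {l : List ℕ} {b : ℕ} {Ls : List ℕ} (hb : b < 24) (hbl : b ∉ l) (hb0 : b ≠ 0)
    (hbD : dod.testBit b = true) (hc : coverD l Ls = true) {g : Equiv.Perm GolayPt} (hg : g ∈ MG l) :
    idx (g (pt b)) ∈ Ls := by
  obtain ⟨hg1, hg2⟩ := mem_MG.1 hg
  have h1 := mem_dod_smul hg1 hb hbD
  have h2 := idx_ne_zero hg1 hb hb0
  have h3 : idx (g (pt b)) ∉ l := by
    intro h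
    have h4 := hg2 _ h
    rw [pt_idx] at h4
    have h5 := g.injective h4
    rw [h5, idx_pt hb] at h
    exact hbl h
  simp only [coverD, List.all_eq_true, Bool.or_eq_true, Bool.not_eq_true', List.contains_iff_mem] at hc
  rcases hc _ (mem_idxL.2 (idx_lt (g (pt b)))) with ((h | h) | h) | h
  · rw [h1] at h; cases h
  · exact absurd (Nat.eq_of_beq_eq_true h) h2
  · exact absurd h h3
  · exact h

theorem exists_T {l : List ℕ} {b : ℕ} {Ls T : List ℕ} (hl : ∀ x ∈ l, x < 24) (hb : b < 24) (hbl : b ∉ l)
    (hb0 : b ≠ 0) (hbD : dod.testBit b = true) (hc : coverD l Ls = true) (hT : levelM l b Ls T = true)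
    {g : Equiv.Perm GolayPt} (hg : g ∈ MG l) :
    ∃ c ∈ T, valid c = true ∧ decode c ∈ MG l ∧ (decode c)⁻¹ * g ∈ MG (b :: l) := by
  have hq := idx_mem_Ls hb hbl hb0 hbD hc hg
  simp only [levelM, Bool.and_eq_true, List.all_eq_true, List.any_eq_true] at hT
  obtain ⟨h1, h2⟩ := hT
  obtain ⟨c, hc, hcq⟩ := h2 _ hq
  have hc1 := h1 c hc
  have hv := isM11_valid hc1.1
  have hdec : decode c ∈ MG l := by
    refine mem_MG.2 ⟨decode_mem_M11 hc1.1, ?_⟩
    intro x hx
    rw [decode_pt hv (hl x hx), Nat.eq_of_beq_eq_true (hc1.2 x hx)]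
  refine ⟨c, hc, hv, hdec, ?_⟩
  have hm : (decode c)⁻¹ * g ∈ MG l := (MG l).mul_mem ((MG l).inv_mem hdec) hg
  obtain ⟨hm1, hm2⟩ := mem_MG.1 hm
  refine mem_MG.2 ⟨hm1, ?_⟩
  intro i hi
  rcases List.mem_cons.1 hi with rfl | hi
  · rw [Equiv.Perm.mul_apply, Equiv.Perm.inv_eq_iff_eq, decode_pt hv hb, Nat.eq_of_beq_eq_true hcq, pt_idx]
  · exact hm2 i hi

/-- every element of `M11` is a product of elements of the transversals -/
theorem exists_decomp {g : Equiv.Perm GolayPt} (hg : g ∈ M11) :
    ∃ t1 ∈ T1, ∃ t2 ∈ T2, ∃ t3 ∈ T3, ∃ t4 ∈ T4, g = prodW [t1, t2, t3, t4] := by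
  have h0 : g ∈ MG [] := by rw [MG_nil]; exact hg
  obtain ⟨t1, ht1, hv1, -, h1⟩ := exists_T (l := []) (b := 1) (by simp) (by norm_num) (by simp) (by norm_num)
    (by decide +kernel) (by decide +kernel) T1_M11 h0
  obtain ⟨t2, ht2, hv2, -, h2⟩ := exists_T (l := [1]) (b := 2) (by simp) (by norm_num) (by simp) (by norm_num)
    (by decide +kernel) (by decide +kernel) T2_M11 h1
  obtain ⟨t3, ht3, hv3, -, h3⟩ := exists_T (l := [2,1]) (b := 3) (by simp) (by norm_num) (by simp) (by norm_num)
    (by decide +kernel) (by decide +kernel) T3_M11 h2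
  obtain ⟨t4, ht4, hv4, -, h4⟩ := exists_T (l := [3,2,1]) (b := 4) (by simp) (by norm_num) (by simp) (by norm_num)
    (by decide +kernel) (by decide +kernel) T4_M11 h3
  refine ⟨t1, ht1, t2, ht2, t3, ht3, t4, ht4, ?_⟩
  rw [MG_bot, Subgroup.mem_bot] at h4
  have h5 : g = decode t1 * (decode t2 * (decode t3 * decode t4)) := by
    have h6 := eq_of_inv_mul_eq_one h4
    have h7 := h6
    have h8 : (decode t3)⁻¹ * ((decode t2)⁻¹ * ((decode t1)⁻¹ * g)) = decode t4 := h7.symm
    rw [inv_mul_eq_iff_eq_mul, inv_mul_eq_iff_eq_mul, inv_mul_eq_iff_eq_mul] at h8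
    exact h8
  rw [h5]
  simp [prodW]

theorem T1_valid : ∀ t ∈ T1, valid t = true := by decide +kernel
theorem T2_valid : ∀ t ∈ T2, valid t = true := by decide +kernel
theorem T3_valid : ∀ t ∈ T3, valid t = true := by decide +kernel
theorem T4_valid : ∀ t ∈ T4, valid t = true := by decide +kernel

end Cfsg.Agent.Lib.M11Enum
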