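import Mathlib
import Cfsg.Agent.Lib.M11Enum

set_option autoImplicit false
set_option maxRecDepth 100000
set_option linter.style.haveILetI false
set_option linter.unusedSectionVars false

/-!
# The numbers of elements of given order in `M11`, by enumeration
-/

namespace Cfsg.Agent.Lib.M11Nse

open Cfsg Cfsg.Spor Cfsg.Agent.Lib.M11Data Cfsg.Agent.Lib.M11Chain Cfsg.Agent.Lib.M11Enum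
open Cfsg.Agent.Lib.Golay hiding T1 T2 T3 T4 L1 L2 L3 L4

/-- does the `k`-th power of the word fix the base? -/
def fixB (w : List ℕ) (k : ℕ) : Bool :=
  Nat.beq (evalW (rep k w) 1) 1 && Nat.beq (evalW (rep k w) 2) 2 &&
    Nat.beq (evalW (rep k w) 3) 3 && Nat.beq (evalW (rep k w) 4) 4

/-- the first exponent from `k` on with `fixB` -/
def ordFrom (w : List ℕ) : ℕ → ℕ → ℕ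
  | 0, _ => 0
  | f + 1, k => cond (fixB w k) k (ordFrom w f (k + 1))

/-- the order of a word -/
def ordW (w : List ℕ) : ℕ := ordFrom w 12 1

/-- all the words of the transversals -/
def allW : List (List ℕ) :=
  T1.flatMap fun a => T2.flatMap fun b => T3.flatMap fun c => T4.map fun d => [a, b, c, d]

/-- the orders of all the words -/
def ords : List ℕ := [1,4,4,4,2,4,4,4,2,4,4,4,3,4,4,4,4,3,4,2,4,4,4,4,4,4,3,4,4,4,2,4,4,2,4,3,4,4,4,4,3,4,4,4,2,4,4,4,4,4,4,4,4,3,4,2,4,4,2,4,4,4,3,4,4,4,4,4,4,2,4,3,2,2,8,2,2,8,8,8,3,5,4,5,4,8,8,4,5,3,8,4,5,8,4,4,8,8,5,4,4,4,5,3,5,4,4,3,5,4,8,8,4,5,8,5,3,4,4,8,4,8,4,4,8,5,3,5,4,4,5,8,8,3,5,4,8,4,3,8,4,5,4,5,3,5,8,5,4,4,4,8,2,4,4,4,3,4,4,4,2,5,8,5,5,4,8,4,8,8,4,4,8,4,5,5,2,5,4,5,5,8,4,8,2,3,8,3,4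,8,8,8,8,8,5,4,4,5,3,3,8,4,3,8,4,3,5,5,8,4,5,8,8,5,4,4,5,4,8,3,5,8,4,4,4,3,4,2,4,4,4,4,5,5,4,2,5,8,4,8,8,8,5,8,4,4,4,5,5,5,8,2,5,4,8,4,3,4,8,2,3,8,8,8,8,4,3,8,4,5,5,3,4,4,5,8,8,3,3,5,4,8,4,8,8,5,5,4,8,4,4,8,4,5,3,5,4,4,3,4,4,4,2,4,8,4,5,4,8,5,2,5,4,4,8,5,5,4,8,8,4,8,5,8,4,5,2,5,8,8,4,8,8,3,2,3,5,5,4,3,3,4,8,8,3,3,4,5,5,8,8,4,5,5,8,4,4,8,8,4,5,3,4,4,5,4,8,8,4,2,4,3,4,4,4,4,5,2,4,5,5,8,4,8,4,8,4,8,8,5,5,4,5,2,8,5,5,4,8,4,3,2,8,4,3,8,8,8,4,8,5,4,8,3,3,5,8,8,3,4,4,5,5,3,8,8,5,8,4,4,4,5,4,5,4,5,3,8,8,4,3,4,4,4,2,4,4,4,5,5,8,5,2,4,8,4,8,4,5,8,8,5,4,4,5,5,4,5,2,8,4,8,4,3,8,3,2,8,8,8,4,4,3,8,8,3,5,5,4,8,5,4,8,5,3,3,8,8,4,4,8,4,5,5,4,4,5,8,8,4,5,3,4,4,4,4,4,3,4,2,4,8,5,8,4,5,5,2,4,5,8,4,5,8,4,8,8,4,5,4,8,5,5,2,8,8,3,8,8,4,3,2,5,3,8,5,3,4,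4,8,3,5,4,3,5,4,8,8,5,4,4,5,4,8,8,8,4,8,3,4,8,5,4,5,4,4,2,4,4,4,3,4,8,4,2,4,8,5,5,5,5,5,8,4,4,8,8,4,4,8,2,8,4,5,5,5,8,8,2,8,8,3,4,3,3,3,8,5,5,8,4,4,5,5,8,3,3,4,4,8,4,4,8,5,5,4,8,8,8,8,5,4,4,3,5,4,4,4,4,4,4,2,4,3,4,8,5,8,4,2,5,5,5,4,4,5,4,8,8,8,8,4,5,4,8,2,5,5,8,8,3,8,8,2,3,4,3,5,4,3,5,8,8,4,5,3,8,5,3,8,4,4,4,5,8,4,5,8,4,8,2,8,8,8,2,2,8,2,2,8,8,8,6,6,8,6,8,6,6,6,8,8,2,8,8,6,6,2,8,8,6,8,8,6,2,6,8,8,6,8,6,8,8,8,2,6,8,6,6,8,8,8,6,2,8,6,8,2,6,6,8,8,6,8,6,8,8,8,6,6,8,2,3,3,6,6,6,3,3,6,4,11,6,8,5,11,5,8,5,8,4,11,6,11,5,8,8,6,8,5,11,4,11,5,6,11,5,8,5,8,4,11,5,8,5,11,4,8,6,11,11,5,8,4,8,6,11,5,11,5,11,6,8,5,8,4,8,4,11,5,11,5,8,6,4,5,8,6,5,11,11,8,3,8,4,4,4,5,8,5,3,11,6,6,5,6,11,4,6,4,11,8,8,8,6,11,6,8,5,5,6,5,8,5,6,11,5,5,5,4,11,6,3,5,11,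8,11,11,5,8,3,5,8,11,11,11,5,8,6,6,8,11,8,8,4,11,8,11,5,8,11,6,4,5,4,5,4,5,8,4,3,8,6,6,5,4,11,6,3,11,11,8,8,11,6,8,6,4,5,5,6,5,8,5,6,8,5,4,5,6,11,5,6,11,11,11,11,8,5,8,3,5,8,11,11,8,5,11,3,5,8,8,8,11,4,11,6,6,5,5,8,4,6,8,11,11,8,4,5,3,4,4,5,8,11,5,4,3,6,6,6,11,4,8,11,6,8,11,8,6,8,6,5,6,5,5,5,8,11,5,6,6,5,5,4,11,5,11,8,3,8,11,11,5,5,11,8,3,11,8,11,5,6,8,11,6,11,8,8,4,11,8,4,11,8,5,5,6,8,5,3,5,4,8,4,4,11,4,3,6,6,11,5,6,6,11,6,8,11,4,8,8,8,5,6,5,5,8,6,5,11,6,6,4,5,11,5,5,5,8,3,11,11,5,11,8,5,8,3,11,8,5,11,11,4,11,6,8,8,6,8,11,5,6,11,5,4,8,8,11,4,4,8,8,3,5,4,5,5,6,11,11,3,4,6,6,8,8,6,4,6,11,11,8,6,5,8,8,6,5,5,5,5,5,11,11,6,6,5,4,11,8,5,5,3,8,11,11,11,11,5,5,3,8,8,11,8,11,4,6,6,11,8,8,8,8,6,11,11,4,5,5,5,4,4,8,5,3,8,4,4,6,6,11,6,3,11,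5,11,11,8,6,8,6,4,8,5,5,5,8,5,6,8,6,6,5,5,11,4,6,11,5,8,11,8,5,11,3,5,11,8,8,11,5,11,3,5,11,11,8,11,4,8,6,6,8,6,4,11,5,5,11,8,8,4,3,5,4,8,8,5,4,6,3,6,5,11,11,4,6,8,6,8,8,4,6,11,11,5,6,5,6,8,8,5,5,5,6,4,5,11,11,6,5,8,3,11,11,5,5,8,11,11,3,11,11,5,5,8,8,11,6,8,8,6,4,11,8,11,11,5,8,8,5,6,4,5,8,8,4,5,4,4,3,6,11,11,6,4,5,6,3,8,6,4,11,11,8,8,6,5,8,8,5,5,6,5,6,4,11,11,5,6,5,5,6,11,5,5,11,8,11,8,3,11,5,5,8,8,11,11,3,8,4,6,8,11,8,11,6,3,6,3,3,6,6,6,3,4,6,11,5,5,8,8,11,8,8,6,11,11,5,5,4,5,4,8,5,6,8,11,11,11,11,5,8,8,4,6,5,5,5,8,6,4,11,11,8,8,11,4,8,11,6,5,5,6,5,11,4,5,11,8,8,11,8,5,11,8,5,4,6,2,8,2,8,2,8,2,8,3,4,5,8,4,4,5,8,8,5,8,5,4,3,4,4,5,8,3,4,5,4,4,8,4,5,4,5,8,4,8,3,4,8,5,4,3,8,5,4,8,3,4,4,4,5,8,5,5,4,4,8,5,8,3,4,4,4,8,3,8,5,4,5,2,8,6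,8,6,8,6,8,4,8,11,11,5,6,8,5,11,11,5,3,5,11,8,8,8,11,11,8,4,8,6,6,8,5,3,11,11,8,11,5,5,11,6,5,6,11,4,5,5,5,6,8,5,8,6,5,11,3,6,5,6,4,11,6,6,8,4,11,11,6,8,8,8,6,8,6,8,6,8,2,6,8,8,11,5,5,11,4,11,8,11,5,8,5,3,11,8,6,11,11,6,4,8,8,8,11,5,3,5,11,11,8,11,4,11,6,5,6,5,5,8,6,5,6,5,5,8,5,4,11,3,6,6,6,5,11,6,8,8,4,8,11,11,6,8,2,8,6,8,6,8,6,11,4,6,5,8,8,5,11,3,11,11,5,11,8,8,5,8,8,8,4,11,6,6,11,11,8,8,11,5,11,5,3,5,5,11,6,11,4,5,6,8,5,8,5,5,6,5,6,5,11,4,6,3,11,6,6,11,6,6,11,8,8,8,4,8,6,8,6,8,2,8,6,5,11,11,8,6,4,8,5,8,5,3,8,11,11,11,5,6,11,8,6,8,8,11,4,5,3,11,11,8,8,5,11,5,6,5,4,11,5,11,6,5,6,8,6,8,5,5,5,6,6,5,11,4,11,3,6,8,4,11,8,6,6,8,11,6,8,6,8,2,8,6,8,5,11,8,8,4,5,11,6,5,3,8,11,11,8,5,11,4,8,6,11,8,6,11,8,11,11,11,5,8,5,3,8,6,5,4,11,5,5,6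,11,5,8,6,5,5,5,6,8,6,5,11,3,11,6,6,4,11,11,8,8,6,8,4,6,6,8,2,8,6,8,6,8,8,5,4,6,11,8,5,11,8,8,11,11,5,11,5,3,6,6,8,8,11,11,4,8,11,5,8,8,3,5,11,11,4,5,5,11,6,11,6,5,6,5,5,8,6,5,5,8,11,6,11,4,6,3,6,5,8,8,6,6,4,8,11,11,8,6,8,2,8,6,8,6,8,5,5,4,11,11,6,8,11,5,8,11,3,5,11,8,11,4,6,8,8,11,8,6,5,11,5,8,11,3,8,11,11,6,5,5,5,6,11,4,5,5,5,5,8,6,8,6,3,6,6,11,5,6,4,11,8,11,8,6,11,4,6,8,6,8,6,8,6,8,2,8,11,6,5,5,8,11,4,8,5,11,5,8,8,3,11,11,11,8,4,6,6,8,8,11,3,8,11,5,11,11,8,5,6,11,6,5,4,5,5,11,6,8,5,5,6,8,5,5,6,4,6,6,11,5,11,3,4,6,11,8,8,11,6,8,4,8,5,11,5,8,6,11,3,4,8,8,4,5,4,5,6,11,4,6,8,11,8,8,3,6,11,11,5,4,6,6,3,8,5,5,11,8,11,11,6,5,11,11,5,6,5,4,6,8,6,4,8,11,11,8,6,5,8,8,6,5,5,5,3,11,5,5,11,8,8,11,3,8,5,4,4,8,5,4,2,4,4,4,3,4,4,4,8,4,8,5,8,5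,4,4,2,8,5,8,5,4,5,4,8,3,4,5,4,5,8,3,2,8,3,8,4,8,3,8,8,5,4,4,8,4,8,5,2,4,5,4,5,8,5,8,8,5,8,3,4,3,4,5,4,11,8,8,5,5,11,6,2,6,8,6,6,8,8,8,8,6,11,8,11,4,6,8,6,5,5,5,6,8,8,5,8,11,3,5,5,8,11,11,6,4,5,6,5,11,11,5,8,6,8,8,11,6,4,11,6,3,11,5,4,6,6,11,8,11,11,5,5,11,8,3,6,11,8,8,11,8,4,6,8,5,8,11,5,3,11,11,6,3,6,6,5,5,5,6,8,11,11,4,6,11,5,6,6,11,11,5,8,11,6,4,8,8,6,8,5,11,5,6,6,11,8,11,8,8,6,3,8,5,8,5,6,8,11,11,2,8,4,8,5,5,4,5,11,3,8,11,5,8,5,11,8,8,6,6,11,8,11,4,2,4,8,4,5,5,8,5,8,11,8,11,3,8,6,6,6,8,11,6,11,5,4,11,8,6,5,11,8,5,8,6,6,11,4,5,8,6,11,11,8,8,11,6,11,5,8,5,6,6,5,3,5,6,6,5,5,8,6,5,5,5,6,8,8,8,4,6,11,11,8,6,6,5,11,11,8,11,4,6,8,3,3,5,4,8,5,4,6,8,6,5,11,8,5,8,8,11,6,4,6,5,11,11,2,5,11,5,6,11,11,11,8,11,5,6,8,5,6,8,6,11,6,11,8,3,8,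8,5,5,4,11,6,5,6,11,6,6,11,4,5,5,5,11,8,11,8,6,8,6,5,5,6,8,11,6,11,4,5,11,8,6,5,8,11,11,5,8,2,8,8,8,4,3,8,3,8,4,11,11,6,11,6,5,6,11,3,11,8,6,8,8,8,8,5,8,5,6,6,11,8,8,6,11,4,6,11,8,6,5,8,5,6,5,5,8,8,11,6,11,3,6,8,8,2,11,5,11,6,11,5,11,8,8,6,8,5,5,11,6,6,6,5,8,11,11,11,4,8,5,5,3,4,4,3,8,6,8,8,5,11,5,8,6,8,4,5,11,6,6,11,11,8,11,11,5,11,5,3,8,8,5,11,11,5,11,3,8,6,6,4,8,11,11,11,5,8,8,11,8,5,6,6,5,2,6,6,6,3,6,6,6,8,8,5,6,11,8,5,11,6,5,5,8,11,8,6,8,8,5,5,4,8,8,4,4,6,5,6,11,8,4,11,11,11,5,11,3,6,6,6,4,6,5,6,3,4,11,11,6,8,6,8,8,11,5,11,5,6,5,8,8,11,6,8,5,8,4,4,5,8,4,5,8,6,11,8,11,8,8,3,6,8,6,6,11,8,8,5,5,2,11,11,11,6,5,11,5,8,5,11,5,6,11,8,8,8,5,11,4,11,5,8,6,4,4,5,3,8,8,5,4,11,8,8,6,6,4,11,8,6,5,6,3,11,11,4,6,8,11,11,3,5,5,8,11,5,5,4,6,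11,11,6,5,8,8,8,6,4,6,11,11,5,6,5,6,8,8,5,5,11,11,11,3,5,5,8,8,8,4,4,3,4,5,8,5,4,3,4,2,4,4,4,4,4,8,4,8,5,8,5,4,8,5,4,2,8,5,4,5,3,4,3,8,5,4,5,8,8,4,8,2,8,3,8,3,5,8,5,8,4,4,4,8,4,5,8,2,4,5,8,5,5,4,5,8,3,8,3,4,11,5,6,4,8,8,5,11,6,6,8,2,6,8,8,8,6,11,8,8,8,11,4,6,5,6,5,6,5,5,8,8,11,5,11,8,5,3,8,11,4,5,5,6,6,5,11,11,6,11,11,8,8,8,6,4,3,4,11,6,5,11,6,6,11,5,3,8,5,11,11,8,11,11,6,6,8,8,8,4,5,5,11,8,11,8,3,11,3,5,6,6,6,6,5,5,11,6,6,8,4,11,11,5,11,8,4,6,5,11,11,6,8,5,6,8,8,6,11,5,11,8,3,6,11,8,8,6,5,6,11,8,5,8,8,11,8,5,5,2,8,4,5,4,3,5,11,11,11,8,8,5,8,11,4,8,6,6,8,11,4,5,5,2,4,8,5,8,11,3,6,8,11,8,8,6,8,11,11,6,6,11,5,4,6,8,6,8,11,5,5,8,11,8,11,6,5,4,6,11,8,11,5,8,6,11,5,8,6,5,5,6,3,5,6,6,8,5,8,5,5,6,5,6,8,11,6,8,6,4,11,8,5,8,6,6,11,11,11,4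,3,4,4,8,5,3,8,5,8,11,8,6,5,6,8,5,11,6,11,8,4,6,5,11,5,6,11,2,5,11,11,11,11,8,8,8,6,5,5,6,11,8,8,6,11,6,3,8,5,6,11,5,11,4,5,6,6,5,11,6,4,11,5,5,11,8,5,8,6,8,6,5,8,11,11,6,6,11,4,5,6,11,8,8,8,5,11,5,8,4,3,2,8,8,3,8,4,6,5,8,11,11,11,6,11,8,8,6,11,3,6,8,8,5,11,8,8,5,6,6,8,4,8,8,11,6,6,11,5,6,8,6,5,8,5,5,11,3,8,8,11,6,6,8,11,6,11,2,11,5,11,5,8,5,6,8,8,6,5,11,6,11,4,6,8,5,11,11,5,4,8,8,3,5,4,3,8,11,6,6,5,8,5,8,4,6,11,8,11,5,6,11,11,11,8,8,5,11,5,3,5,5,8,8,11,11,11,3,6,11,5,6,8,4,11,11,8,5,5,8,8,11,6,6,6,3,6,2,6,6,6,6,8,11,11,8,6,5,8,5,5,11,8,6,8,5,8,6,5,8,4,8,4,5,8,4,5,8,11,6,11,6,4,11,5,6,4,11,3,11,6,6,5,4,6,6,3,6,11,11,6,11,5,8,8,8,5,11,5,11,5,6,8,8,6,8,4,8,8,8,5,4,4,5,11,8,6,6,11,8,8,3,6,8,5,8,11,6,8,5,11,6,5,2,11,11,5,11,5,6,8,8,5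,11,11,8,5,8,5,11,6,11,4,8,8,5,4,5,4,8,3,4,4,11,8,8,8,6,6,11,11,4,5,6,6,11,3,6,5,8,11,11,11,5,3,8,11,6,5,4,5,11,6,5,6,11,8,8,11,4,6,8,8,5,6,5,5,8,6,5,5,8,11,11,8,5,3,11,5,8,4,4,5,4,3,8,4,4,3,4,4,4,2,4,8,5,8,4,4,5,8,4,5,4,5,4,5,8,2,8,4,5,4,3,8,5,8,3,3,8,4,8,3,8,2,8,4,4,8,5,8,4,8,5,5,8,5,8,5,4,2,4,8,3,4,5,4,3,8,5,8,5,5,6,11,8,4,11,8,8,6,8,8,6,2,6,11,4,11,8,6,8,8,6,5,8,6,5,8,5,6,5,3,8,5,11,11,5,8,11,5,11,5,5,11,6,6,4,8,6,11,11,4,8,8,6,11,6,4,11,6,5,6,3,11,11,5,3,8,5,8,11,8,8,11,6,4,8,6,11,8,3,5,11,11,11,8,5,6,5,5,6,5,6,6,3,11,11,6,6,5,4,8,11,11,11,8,4,6,5,6,11,6,11,5,6,5,8,8,8,8,8,8,3,6,11,6,11,8,8,6,11,11,5,8,5,4,5,5,5,4,8,2,8,8,8,5,11,5,11,11,3,6,8,11,4,11,6,8,8,8,5,5,5,8,4,2,4,8,8,3,6,6,11,8,11,11,5,11,11,4,6,6,8,5,5,8,6,8,11,8,6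,4,6,8,11,11,5,6,11,11,5,11,5,8,6,8,8,5,6,5,5,6,3,6,6,6,5,5,8,6,5,5,8,4,11,11,6,8,6,8,8,11,11,8,6,4,11,6,5,3,8,4,4,5,5,8,3,6,8,11,8,5,5,6,8,6,5,6,11,11,4,8,11,11,11,6,11,11,5,2,5,5,5,8,8,6,6,8,11,6,3,8,8,8,11,6,11,4,5,6,11,6,11,5,5,11,5,5,11,5,4,6,6,8,6,8,5,5,6,8,11,11,4,11,11,5,6,6,8,5,11,11,8,5,8,8,6,8,3,4,3,8,8,2,8,11,11,6,5,6,11,8,4,3,6,8,8,8,11,6,11,5,6,5,11,6,8,8,8,6,6,4,8,11,11,8,8,8,5,6,8,5,5,6,5,6,6,3,8,8,11,8,11,5,11,6,11,5,11,2,11,6,5,5,6,11,8,8,8,5,11,11,4,11,8,6,6,5,4,4,8,3,3,8,5,8,5,11,6,8,5,6,8,5,6,6,11,11,11,8,4,11,5,11,8,3,5,8,11,11,11,5,8,3,11,8,5,4,11,11,5,11,8,6,6,11,6,5,5,6,8,8,8,6,6,3,6,6,6,2,6,5,8,11,11,5,6,8,8,5,8,11,8,6,8,6,5,5,8,8,4,4,4,8,5,6,4,8,11,11,11,6,5,11,6,6,4,6,3,11,5,6,11,4,6,11,3,6,5,8,5,11,5,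11,8,8,6,8,6,11,5,8,8,6,5,4,4,8,8,5,5,8,4,8,8,8,6,3,11,6,11,6,8,8,5,5,11,8,6,11,5,6,5,11,11,2,11,11,11,6,8,8,5,8,5,11,4,8,5,8,6,11,5,8,3,5,4,4,4,5,8,6,6,11,8,11,8,8,4,11,3,4,5,6,6,6,11,5,3,8,11,8,11,11,5,11,6,6,5,5,5,4,11,4,6,11,8,8,11,8,6,8,6,5,6,5,5,5,8,5,3,8,11,11,8,11,5,4,3,8,4,8,5,4,5,4,2,4,3,4,4,4,4,5,8,5,8,4,4,4,8,8,2,4,5,8,5,4,5,5,8,5,4,3,8,3,4,8,2,8,4,8,3,8,3,4,8,4,8,5,8,5,4,4,2,8,5,4,5,8,5,3,8,3,4,5,4,5,8,8,4,5,5,11,11,6,8,6,2,8,6,6,8,8,8,8,8,4,11,6,6,8,11,5,6,8,6,5,8,5,5,5,8,8,5,11,11,11,3,6,6,11,5,4,11,5,5,8,8,6,11,6,4,11,8,5,6,6,4,3,6,11,11,5,8,11,5,11,8,3,11,8,6,8,11,11,4,6,8,11,8,3,5,5,11,11,8,6,6,5,5,3,5,6,6,4,8,11,6,11,5,6,11,5,6,11,8,11,6,4,11,8,8,11,5,8,5,6,6,11,6,8,8,11,6,3,8,5,8,8,6,5,11,11,8,8,2,5,5,8,4,5,4,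11,11,8,5,3,5,11,8,6,8,8,11,8,11,4,6,4,2,5,5,4,8,5,8,11,8,8,3,11,6,6,8,6,6,5,11,8,4,11,11,11,8,5,8,6,8,6,5,5,6,6,8,11,11,11,4,6,8,5,11,8,8,5,11,3,6,6,5,6,6,5,5,5,5,5,5,8,6,8,6,6,8,11,11,8,8,6,4,11,6,11,8,5,4,6,11,5,8,8,4,3,5,4,3,5,6,8,11,8,5,8,6,4,8,5,6,11,11,11,6,5,2,11,6,5,11,11,11,6,8,5,8,11,6,8,5,11,6,3,8,11,8,8,6,11,5,5,6,5,6,11,4,4,6,5,5,6,5,11,11,6,8,6,8,11,5,5,8,6,6,4,11,8,5,11,11,8,8,11,11,6,5,8,5,8,2,3,4,8,8,3,8,11,8,11,6,4,6,5,11,11,6,6,8,11,8,8,3,8,8,6,5,8,6,11,5,11,8,6,4,8,11,8,6,5,6,5,6,5,5,8,8,11,8,6,3,11,8,8,6,11,2,11,6,11,5,11,5,8,8,5,5,8,11,6,6,8,6,11,11,6,11,4,5,3,8,4,4,5,3,8,5,5,6,5,11,8,8,6,8,11,8,6,6,4,11,11,5,5,8,5,11,11,3,8,11,11,8,11,5,5,3,8,11,8,6,11,11,6,11,5,4,8,8,6,5,8,6,5,11,6,2,6,3,6,6,6,6,6,8,8,11,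8,5,11,5,8,6,8,11,5,6,8,5,4,8,8,8,5,4,4,5,11,6,4,8,5,11,11,6,3,11,6,6,5,6,4,11,3,6,11,4,5,11,6,6,8,8,5,11,6,11,5,8,8,6,6,11,5,8,5,8,5,8,4,8,4,5,8,4,11,6,8,8,11,3,6,8,11,8,8,8,6,5,5,6,11,2,5,6,11,11,5,11,5,8,11,6,5,8,8,11,5,11,6,8,4,11,5,8,4,8,4,4,3,5,8,5,8,6,8,11,6,8,4,11,5,11,6,6,3,6,11,4,11,5,11,8,3,11,5,8,5,11,5,5,6,4,11,6,8,4,11,8,6,8,6,11,6,8,5,5,6,5,8,5,11,5,8,11,3,11,5,8,4,4,5,8,3,4,5,8,3,4,4,4,2,4,4,4,8,5,4,4,8,4,8,5,5,8,5,8,2,4,5,4,4,5,8,3,8,3,4,5,4,8,3,8,2,8,3,8,8,4,8,5,8,5,4,4,5,4,5,4,2,8,5,8,4,3,4,5,8,5,8,3,5,8,11,11,4,6,8,5,6,6,8,6,2,8,8,8,11,8,6,6,8,8,11,4,6,5,8,5,6,5,5,8,5,5,11,11,8,11,3,8,5,6,11,4,6,5,5,11,11,8,4,6,8,11,8,6,4,5,6,3,6,11,11,6,5,5,8,11,8,3,11,11,11,8,4,11,6,6,8,8,5,11,11,5,8,11,8,3,5,6,5,3,6,6,6,5,6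,4,5,11,8,6,11,11,8,5,6,11,6,4,11,11,5,8,5,8,8,6,6,11,8,11,6,11,6,3,8,8,6,5,11,5,8,11,8,8,5,8,4,8,2,5,4,5,5,11,5,3,11,11,8,8,11,6,11,8,8,4,6,8,5,4,8,4,2,5,8,5,3,11,6,11,8,6,8,8,11,6,4,8,6,11,11,5,8,11,8,6,8,6,5,5,8,5,11,11,6,11,4,6,11,6,8,8,8,5,11,5,5,3,6,6,6,5,5,6,5,5,6,8,5,8,6,5,11,6,8,8,8,6,4,11,8,11,4,5,6,6,11,11,4,5,5,3,8,4,3,8,11,5,5,8,6,8,6,8,6,4,11,11,8,11,6,5,6,5,11,5,2,11,11,11,8,6,6,11,8,8,5,5,8,11,8,11,6,8,6,3,6,11,6,5,5,11,4,5,5,4,5,6,6,11,11,5,8,6,5,11,8,5,8,6,11,6,5,8,6,11,11,4,11,8,5,6,8,8,5,11,4,8,8,8,2,3,8,3,6,11,6,4,8,5,11,11,8,11,8,11,6,8,3,6,5,8,6,8,8,11,5,6,4,11,11,8,8,8,6,6,6,5,5,5,6,8,8,5,3,11,8,11,8,8,6,6,6,11,5,11,2,11,5,11,5,8,11,8,8,6,6,5,11,8,11,6,6,4,5,11,4,3,3,5,8,8,5,4,11,5,8,8,6,6,8,5,6,11,11,4,8,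11,5,6,11,5,3,11,8,8,11,5,5,11,3,5,8,8,11,11,11,8,11,6,6,5,4,11,5,8,6,8,8,5,11,6,3,6,6,6,2,6,6,6,11,6,5,8,8,11,5,8,11,8,6,5,6,8,5,8,8,4,4,5,8,4,5,8,8,11,11,5,6,11,6,4,6,3,6,5,11,4,11,6,4,3,11,5,6,6,6,11,11,8,11,6,8,5,8,5,11,8,8,5,6,5,8,6,8,5,5,4,8,8,4,4,8,11,3,11,6,6,8,8,8,11,5,6,8,5,6,8,6,11,11,11,2,5,11,5,6,5,8,5,8,8,11,11,8,6,8,5,11,5,11,4,5,4,4,8,5,4,8,3,11,8,11,4,8,8,6,6,4,6,6,11,6,5,11,3,8,11,8,5,11,11,5,3,6,5,5,11,4,5,11,6,11,11,8,6,8,8,4,6,5,5,5,8,5,6,8,6,8,8,11,5,11,11,5,3,8,5,8,5,4,4,4,3,4,4,4,4,4,3,4,2,5,4,4,8,4,8,5,8,4,5,8,5,4,5,8,2,5,8,3,4,3,4,5,8,8,3,8,3,8,4,8,2,4,8,5,4,5,8,4,8,8,5,4,5,8,5,4,2,3,4,5,8,5,4,3,8,5,11,11,8,6,5,8,4,8,8,6,8,8,6,6,2,4,6,6,11,8,11,8,8,8,8,5,5,5,6,5,6,8,11,11,3,11,5,5,8,11,11,4,5,5,5,6,6,6,4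,6,8,11,11,8,8,6,6,3,11,11,4,5,6,11,8,11,11,3,5,5,8,8,4,11,8,6,11,8,6,3,11,5,8,11,5,11,8,5,5,3,6,6,5,6,6,11,5,11,11,6,6,4,8,11,6,11,11,4,8,5,6,11,5,8,6,6,5,8,8,8,6,11,8,3,8,11,6,8,11,5,8,11,6,5,8,5,4,8,4,5,5,8,2,8,5,3,8,11,5,11,11,8,11,8,6,4,11,6,8,5,8,4,8,5,5,4,2,8,6,11,8,6,3,11,8,5,4,8,11,11,11,6,6,5,8,6,5,6,8,11,8,6,11,11,4,11,8,5,6,5,8,8,11,5,11,6,8,6,6,6,5,5,5,3,6,5,6,8,6,8,5,5,5,11,8,8,4,6,11,6,8,11,4,5,11,6,8,11,6,8,5,3,3,4,4,5,8,8,5,8,6,8,11,5,6,5,11,11,6,11,6,4,8,11,11,5,11,11,6,5,2,5,6,11,5,8,8,6,8,3,8,11,6,8,8,11,6,5,6,5,4,11,6,11,5,5,5,6,11,11,5,4,6,6,5,11,8,5,8,6,8,4,5,8,11,11,11,6,6,11,5,6,5,8,11,8,8,3,8,8,8,3,4,8,2,11,6,4,11,5,6,11,8,6,8,11,3,8,8,11,6,6,6,8,5,11,5,8,8,6,11,8,6,8,4,11,8,5,5,5,8,8,6,5,6,6,8,11,6,8,3,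11,8,11,5,11,5,11,6,11,2,5,11,8,6,6,5,8,8,11,11,6,5,4,11,8,6,4,3,5,5,8,4,3,8,5,8,8,8,6,11,5,6,6,11,4,5,11,6,11,8,5,3,11,11,8,11,5,8,11,3,5,11,8,5,11,8,11,11,6,4,5,11,8,6,6,6,8,11,5,5,8,8,6,6,6,6,6,3,6,2,8,5,8,5,11,11,6,8,8,6,5,5,8,11,8,6,8,4,5,5,4,8,4,8,4,11,5,6,11,8,11,6,6,6,5,11,4,6,3,11,11,11,5,6,6,4,3,6,5,11,6,8,5,11,8,8,6,8,5,8,5,11,8,6,4,5,4,4,8,8,5,8,8,3,11,8,6,8,11,6,8,5,6,6,5,8,11,8,5,11,11,11,5,6,11,2,11,8,5,11,8,6,5,8,6,11,4,8,5,8,5,11,4,5,3,5,8,4,4,8,8,8,6,11,4,11,8,6,6,6,3,4,11,6,5,11,11,11,3,8,5,8,11,5,5,4,6,6,11,5,5,11,11,8,6,11,6,8,8,4,5,5,6,5,8,5,6,8,8,11,3,8,5,11,11,5,5,4,3,8,5,8,4,4,4,4,2,4,4,4,3,4,4,4,8,5,8,4,8,5,5,4,2,4,5,8,5,8,8,3,8,5,4,3,4,5,3,8,2,8,3,8,4,8,8,5,8,4,4,5,8,4,5,8,2,8,5,4,5,4,4,5,8,3,8,5,4,3,11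,6,4,5,8,11,5,8,8,8,2,8,8,6,6,6,6,8,8,4,11,6,11,8,8,5,6,8,5,5,6,5,11,11,8,8,3,11,5,5,11,5,6,11,5,4,5,6,4,11,8,6,8,6,11,8,6,11,6,6,11,3,4,5,8,3,8,11,11,11,5,5,4,6,6,8,8,11,11,8,11,11,8,3,8,5,5,11,5,6,6,5,6,3,5,6,5,6,8,11,11,11,6,4,6,4,6,11,11,11,8,5,5,6,8,11,6,8,5,8,6,3,6,8,8,11,8,11,11,11,8,8,8,5,6,5,4,5,2,5,4,8,5,8,5,11,11,8,8,3,5,11,11,4,8,8,6,8,11,6,8,5,2,5,8,4,5,4,6,6,8,8,8,11,3,11,4,11,6,5,11,8,11,6,8,6,8,5,5,6,8,11,11,11,6,6,4,11,8,5,8,5,8,5,11,8,11,6,6,5,6,6,5,6,5,3,6,8,5,5,6,8,5,5,8,6,8,11,4,8,11,6,4,6,6,11,11,5,8,11,5,4,8,8,3,3,4,5,5,8,6,8,6,8,11,5,11,11,8,5,6,11,6,4,11,11,2,11,11,5,6,5,6,8,8,5,5,11,8,6,8,8,6,3,6,11,8,11,6,11,5,5,4,5,6,11,5,11,6,5,11,6,5,4,5,5,8,6,8,11,8,6,5,11,6,4,11,8,11,6,5,8,8,11,5,6,11,8,8,3,2,3,8,8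,4,8,6,5,8,11,11,4,6,11,8,8,6,6,3,11,8,11,6,11,8,6,5,8,5,8,11,8,8,6,6,8,4,11,5,8,6,5,8,5,6,5,8,8,8,6,6,11,3,11,5,11,2,11,5,11,6,11,11,6,8,5,6,8,5,8,11,4,6,11,5,6,11,8,3,8,8,4,5,5,4,3,8,6,6,5,8,8,11,5,11,11,8,6,5,4,6,11,3,8,8,5,11,11,11,5,3,8,8,11,11,5,5,11,11,5,6,11,4,6,11,8,6,5,8,6,11,8,5,8,6,6,2,6,6,6,3,6,5,11,8,8,5,8,11,6,6,8,6,8,5,5,11,8,4,4,8,8,5,5,8,4,11,11,6,4,6,5,8,11,6,4,11,6,11,5,6,3,11,6,6,11,6,5,4,3,11,5,8,5,8,6,11,8,8,5,6,6,8,5,11,8,5,8,8,4,4,4,8,5,3,6,6,8,8,11,8,11,5,5,8,8,6,6,8,11,11,5,2,5,11,11,6,11,8,8,8,11,11,5,6,5,11,5,11,6,8,4,8,5,5,8,8,4,5,3,4,4,8,4,6,8,11,6,11,8,6,11,11,6,4,3,6,5,11,5,5,11,8,3,8,11,4,11,11,5,6,6,5,5,8,6,4,11,11,6,8,8,5,8,8,5,5,6,5,6,11,5,5,8,8,3,11,11,4,5,4,5,8,3,8,4,4,4,4,4,4,2,4,3,4,8,5,4,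5,8,4,8,4,5,8,5,4,2,8,5,3,4,5,8,5,8,3,4,8,3,8,3,8,2,8,4,5,4,4,8,4,8,5,8,8,5,4,5,8,2,4,5,5,8,3,4,3,8,5,4,6,8,8,11,5,4,11,5,8,8,6,8,8,2,6,6,8,11,8,6,4,8,6,11,5,5,5,8,8,6,5,6,11,3,5,11,8,8,11,5,5,5,6,11,11,6,4,5,11,8,8,4,6,8,6,11,11,11,5,6,6,6,3,4,3,11,5,8,11,8,11,5,6,8,8,4,8,6,11,11,11,8,11,11,3,8,5,5,6,6,6,5,5,6,3,5,6,11,4,5,11,8,11,6,4,11,5,6,11,6,11,8,6,6,8,5,11,8,8,5,3,8,11,6,8,6,11,8,11,8,5,11,8,8,5,6,5,4,8,4,5,2,8,5,11,8,11,5,8,11,3,5,4,6,6,11,8,8,8,11,5,8,4,8,5,2,4,5,6,8,11,6,8,8,11,3,11,11,6,4,5,6,8,11,6,5,11,8,5,8,6,8,11,4,5,11,6,6,11,8,5,11,6,8,5,8,8,11,5,5,3,6,6,6,6,5,8,6,5,6,5,5,8,5,6,4,6,8,11,8,8,11,6,11,11,4,11,6,5,8,4,3,5,5,8,8,3,4,8,6,5,5,8,6,8,11,11,6,4,11,5,8,11,6,11,11,5,11,11,2,5,6,8,5,6,6,5,8,11,8,8,6,11,8,3,6,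11,8,11,4,11,6,5,5,5,6,11,11,4,5,5,6,6,5,5,8,6,5,6,8,11,8,11,11,6,5,4,6,8,11,8,5,8,5,11,8,6,11,3,8,8,8,3,2,8,4,5,11,11,6,11,8,4,6,8,3,11,8,6,6,11,8,11,5,8,6,6,8,8,5,8,6,11,11,6,8,8,4,8,8,5,5,5,6,5,6,8,6,11,8,6,8,11,3,11,5,11,5,11,2,11,6,6,6,8,11,5,8,8,5,4,5,8,11,11,6,6,11,8,5,3,3,4,8,5,4,6,8,5,8,5,6,8,11,11,5,11,11,6,8,4,6,8,11,5,3,5,8,11,11,8,11,11,3,11,8,5,5,5,4,8,11,11,6,6,11,5,11,8,6,6,8,8,5,6,6,6,6,6,2,6,3,11,5,6,5,8,8,8,11,8,5,8,6,8,6,5,11,4,5,4,4,8,8,5,8,11,6,11,11,4,6,5,8,4,11,3,6,6,11,5,6,6,6,3,11,11,6,5,4,5,8,8,11,5,8,6,11,5,8,8,8,6,6,5,11,8,4,5,5,4,8,4,8,6,8,11,3,8,6,11,8,5,6,11,5,8,8,6,8,5,11,11,11,5,2,11,6,8,11,5,8,11,8,5,6]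

theorem allW_ords : allW.map ordW = ords := by decide +kernel

theorem allW_length : allW.length = 7920 := by decide +kernel

theorem ords_mem : ∀ o ∈ ords, o = 1 ∨ o = 2 ∨ o = 3 ∨ o = 4 ∨ o = 5 ∨ o = 6 ∨ o = 8 ∨ o = 11 := by
  decide +kernel

/-- the number of words of order `n` -/
def cnt (n : ℕ) : ℕ := (ords.map fun o => if o = n then 1 else 0).sum

theorem cnt1 : cnt 1 = 1 := by decide +kernel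
theorem cnt2 : cnt 2 = 165 := by decide +kernel
theorem cnt3 : cnt 3 = 440 := by decide +kernel
theorem cnt4 : cnt 4 = 990 := by decide +kernel
theorem cnt5 : cnt 5 = 1584 := by decide +kernel
theorem cnt6 : cnt 6 = 1320 := by decide +kernel
theorem cnt8 : cnt 8 = 1980 := by decide +kernel
theorem cnt11 : cnt 11 = 1440 := by decide +kernel

theorem cnt_zero {n : ℕ} (h : n ≠ 1 ∧ n ≠ 2 ∧ n ≠ 3 ∧ n ≠ 4 ∧ n ≠ 5 ∧ n ≠ 6 ∧ n ≠ 8 ∧ n ≠ 11) : cnt n = 0 := by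
  rw [cnt, List.sum_eq_zero]
  intro x hx
  obtain ⟨o, ho, rfl⟩ := List.mem_map.1 hx
  have h1 := ords_mem o ho
  rw [if_neg]
  rintro rfl
  omega

theorem isM11_of_T1 {c : ℕ} (h : c ∈ T1) : isM11 c = true := by
  have := T1_M11
  simp only [levelM, Bool.and_eq_true, List.all_eq_true] at this
  exact (this.1 c h).1

theorem isM11_of_T2 {c : ℕ} (h : c ∈ T2) : isM11 c = true := by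
  have := T2_M11
  simp only [levelM, Bool.and_eq_true, List.all_eq_true] at this
  exact (this.1 c h).1

theorem isM11_of_T3 {c : ℕ} (h : c ∈ T3) : isM11 c = true := by
  have := T3_M11
  simp only [levelM, Bool.and_eq_true, List.all_eq_true] at this
  exact (this.1 c h).1

theorem isM11_of_T4 {c : ℕ} (h : c ∈ T4) : isM11 c = true := by
  have := T4_M11
  simp only [levelM, Bool.and_eq_true, List.all_eq_true] at this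
  exact (this.1 c h).1

theorem mem_allW {w : List ℕ} : w ∈ allW ↔ ∃ a ∈ T1, ∃ b ∈ T2, ∃ c ∈ T3, ∃ d ∈ T4, w = [a, b, c, d] := by
  simp only [allW, List.mem_flatMap, List.mem_map]
  constructor
  · rintro ⟨a, ha, b, hb, c, hc, d, hd, rfl⟩
    exact ⟨a, ha, b, hb, c, hc, d, hd, rfl⟩
  · rintro ⟨a, ha, b, hb, c, hc, d, hd, rfl⟩
    exact ⟨a, ha, b, hb, c, hc, d, hd, rfl⟩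

theorem allV_of_mem {w : List ℕ} (hw : w ∈ allW) : allV w = true := by
  obtain ⟨a, ha, b, hb, c, hc, d, hd, rfl⟩ := mem_allW.1 hw
  simp only [allV, List.all_cons, List.all_nil, Bool.and_true, Bool.and_eq_true]
  exact ⟨isM11_valid (isM11_of_T1 ha), isM11_valid (isM11_of_T2 hb), isM11_valid (isM11_of_T3 hc),
    isM11_valid (isM11_of_T4 hd)⟩

theorem prodW_mem {w : List ℕ} (hw : w ∈ allW) : prodW w ∈ M11 := by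
  obtain ⟨a, ha, b, hb, c, hc, d, hd, rfl⟩ := mem_allW.1 hw
  have h : prodW [a, b, c, d] = decode a * (decode b * (decode c * decode d)) := by
    simp [prodW]
  rw [h]
  exact M11.mul_mem (decode_mem_M11 (isM11_of_T1 ha)) (M11.mul_mem (decode_mem_M11 (isM11_of_T2 hb))
    (M11.mul_mem (decode_mem_M11 (isM11_of_T3 hc)) (decode_mem_M11 (isM11_of_T4 hd))))

theorem fixB_iff {w : List ℕ} (hw : w ∈ allW) (k : ℕ) : fixB w k = true ↔ prodW w ^ k = 1 := by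
  have hV := allV_rep k (allV_of_mem hw)
  have hM : prodW w ^ k ∈ M11 := M11.pow_mem (prodW_mem hw) k
  constructor
  · intro h
    simp only [fixB, Bool.and_eq_true] at h
    obtain ⟨⟨⟨h1, h2⟩, h3⟩, h4⟩ := h
    apply eq_one_of_fix hM
    · rw [← prodW_rep, prodW_apply hV (by norm_num), Nat.eq_of_beq_eq_true h1]
    · rw [← prodW_rep, prodW_apply hV (by norm_num), Nat.eq_of_beq_eq_true h2]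
    · rw [← prodW_rep, prodW_apply hV (by norm_num), Nat.eq_of_beq_eq_true h3]
    · rw [← prodW_rep, prodW_apply hV (by norm_num), Nat.eq_of_beq_eq_true h4]
  · intro h
    have key : ∀ i : ℕ, i < 24 → Nat.beq (evalW (rep k w) i) i = true := by
      intro i hi
      have h1 : prodW (rep k w) (pt i) = pt i := by
        rw [prodW_rep, h]; rfl
      rw [prodW_apply hV hi] at h1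
      rw [pt_injOn (evalW_lt hV hi) hi h1]
      exact Nat.beq_refl _
    simp only [fixB, Bool.and_eq_true]
    exact ⟨⟨⟨key 1 (by norm_num), key 2 (by norm_num)⟩, key 3 (by norm_num)⟩, key 4 (by norm_num)⟩

theorem ordFrom_spec (w : List ℕ) (f k : ℕ) (h : ordFrom w f k ≠ 0) :
    k ≤ ordFrom w f k ∧ fixB w (ordFrom w f k) = true ∧
      ∀ j, k ≤ j → j < ordFrom w f k → fixB w j = false := by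
  induction f generalizing k with
  | zero => exact absurd rfl h
  | succ f ih =>
    by_cases hk : fixB w k = true
    · have : ordFrom w (f + 1) k = k := by simp [ordFrom, hk]
      rw [this]
      exact ⟨le_rfl, hk, fun j h1 h2 => absurd h2 (by omega)⟩
    · have hk' : fixB w k = false := by simpa using hk
      have : ordFrom w (f + 1) k = ordFrom w f (k + 1) := by simp [ordFrom, hk']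
      rw [this] at h ⊢
      obtain ⟨h1, h2, h3⟩ := ih (k + 1) h
      refine ⟨by omega, h2, ?_⟩
      intro j hj1 hj2
      rcases Nat.eq_or_lt_of_le hj1 with rfl | hlt
      · exact hk'
      · exact h3 j hlt hj2

theorem ordW_ne_zero {w : List ℕ} (hw : w ∈ allW) : ordW w ≠ 0 := by
  have h : ordW w ∈ ords := by
    rw [← allW_ords]
    exact List.mem_map.2 ⟨w, hw, rfl⟩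
  have := ords_mem _ h
  omega

theorem orderOf_prodW {w : List ℕ} (hw : w ∈ allW) : orderOf (prodW w) = ordW w := by
  have h0 := ordW_ne_zero hw
  obtain ⟨h1, h2, h3⟩ := ordFrom_spec w 12 1 h0
  rw [orderOf_eq_iff (by omega)]
  constructor
  · exact (fixB_iff hw _).1 h2
  · intro m hm hm0 hone
    have := h3 m hm0 hm
    rw [(fixB_iff hw m).2 hone] at this
    cases this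

/-- the map from positions in the list of words to `M11` -/
noncomputable def F (i : Fin allW.length) : M11 :=
  ⟨prodW allW[i.1], prodW_mem (List.getElem_mem _)⟩

theorem F_bijective : Function.Bijective F := by
  apply Function.Surjective.bijective_of_nat_card_le
  · rintro ⟨g, hg⟩
    obtain ⟨a, ha, b, hb, c, hc, d, hd, h⟩ := exists_decomp hg
    have hm : [a, b, c, d] ∈ allW := mem_allW.2 ⟨a, ha, b, hb, c, hc, d, hd, rfl⟩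
    obtain ⟨i, hi, hie⟩ := List.mem_iff_getElem.1 hm
    refine ⟨⟨i, hi⟩, Subtype.ext ?_⟩
    show prodW allW[i] = g
    rw [hie, h]
  · rw [card_M11, Nat.card_eq_fintype_card, Fintype.card_fin, allW_length]

theorem card_order (n : ℕ) : Nat.card {g : M11 // orderOf g = n} = cnt n := by
  classical
  let e : Fin allW.length ≃ M11 := Equiv.ofBijective F F_bijective
  have h1 : Nat.card {g : M11 // orderOf g = n} = Nat.card {i : Fin allW.length // orderOf (F i) = n} :=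
    Nat.card_congr (e.subtypeEquiv (fun i => Iff.rfl)).symm
  rw [h1, Nat.card_eq_fintype_card, Fintype.card_subtype, Finset.card_filter]
  have h2 : ∀ i : Fin allW.length, orderOf (F i) = ordW allW[i.1] := by
    intro i
    rw [← orderOf_prodW (List.getElem_mem _), F, Subgroup.orderOf_mk]
  simp only [h2]
  rw [Fin.sum_univ_fun_getElem allW (fun w => if ordW w = n then 1 else 0), cnt, ← allW_ords, List.map_map]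
  rfl

/-- The values of the function "number of elements of order `n`" on `M11`. -/
theorem card_order_values (n : ℕ) (h : 0 < Nat.card {g : M11 // orderOf g = n}) :
    Nat.card {g : M11 // orderOf g = n} = 1 ∨ Nat.card {g : M11 // orderOf g = n} = 165 ∨
    Nat.card {g : M11 // orderOf g = n} = 440 ∨ Nat.card {g : M11 // orderOf g = n} = 990 ∨
    Nat.card {g : M11 // orderOf g = n} = 1320 ∨ Nat.card {g : M11 // orderOf g = n} = 1440 ∨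
    Nat.card {g : M11 // orderOf g = n} = 1584 ∨ Nat.card {g : M11 // orderOf g = n} = 1980 := by
  rw [card_order] at h ⊢
  by_cases h1 : n = 1
  · subst h1; rw [cnt1]; simp
  by_cases h2 : n = 2
  · subst h2; rw [cnt2]; simp
  by_cases h3 : n = 3
  · subst h3; rw [cnt3]; simp
  by_cases h4 : n = 4
  · subst h4; rw [cnt4]; simp
  by_cases h5 : n = 5
  · subst h5; rw [cnt5]; simp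
  by_cases h6 : n = 6
  · subst h6; rw [cnt6]; simp
  by_cases h8 : n = 8
  · subst h8; rw [cnt8]; simp
  by_cases h11 : n = 11
  · subst h11; rw [cnt11]; simp
  rw [cnt_zero ⟨h1, h2, h3, h4, h5, h6, h8, h11⟩] at h
  omega

end Cfsg.Agent.Lib.M11Nse
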