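import Mathlib
import Cfsg.Agent.Lib.M22Simple

/-!
# The stabiliser of a dodecad and a point in `M24` is simple
-/

set_option autoImplicit false
set_option maxRecDepth 100000

namespace Cfsg.Agent.Lib.M11Simple

open Cfsg Cfsg.Agent.Lib.Golay Cfsg.Agent.Lib.GolaySift Cfsg.Agent.Lib.M24Facts
  Cfsg.Agent.Lib.DodecadFacts Cfsg.Agent.Lib.MathieuSimple Cfsg.Agent.Lib.M22Simple
open MulAction
open scoped Pointwise

/-- The dodecad of squares in `ZMod 23`. -/
def dsMask : ℕ := 340831

/-- The dodecad of squares. -/
noncomputable def ds : Finset GolayPt := ofMask dsMask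

theorem ds_mem : ds ∈ dodecads := ofMask_mem_dodecads (by decide +kernel)

/-- Pairs of mutually inverse codes. -/
def conj11 : List (ℕ × ℕ) := [(984818244535754528103549039458486304,984818244535754528103549039458486304),(653152597324209606296252924582475008,932307997269822642582748169276432480),(849799627579505317935233083876934784,233236866689737015878847798304673856)]

/-- Conjugates of `mul2`. -/
def S11 : List ℕ := conj11.map (fun p => comp (comp p.1 mul2) p.2)

/-- A straight-line program on the conjugates. -/
def ins11 : List (ℕ × ℕ) := [(0,0),(0,1),(0,2),(0,3),(0,4),(0,5),(0,6),(0,7),(0,8),(7,10),(0,0),(2,13),(2,0),(3,0),(0,1),(3,5),(4,3),(2,4),(1,8),(6,6),(0,7),(22,21),(0,24),(0,24),(18,0),(11,0),(13,0),(6,1),(1,2),(1,16),(1,17),(5,5),(0,6),(33,35),(0,35),(0,35),(25,0),(24,0),(12,0),(7,1),(7,2)]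

/-- Its outcome. -/
def T11 : List ℕ := [715872302521680643580706198532491296,609271311764373893382231684089481248,719923664328491199848526586197411872,608405391266436187982588441666881568,928718206277989008510816407558424608,928913018155889023685401593716935712,936387645834130189017006441359279680,845920656477327533658039014532920448,227578386318009578406903204956702752,970499966350631336865513127433832480,984534996141977609297800625156032544,648045425277649902928402440926824480,899214583888558003150069357295700000,719748774308089385568610015441717280,438084364835391119001047119775926304,232652365823391711183829569059784736,319959650499534135224324587090165792,840266560976723550430161363567676928,803111363957358212058108507182346496,236826897547861226479206813111230752,849887890532701421127722391426172960,486317894067777385906476470720956448,735587421144309950099182594919155744,606905132329921280441625681951460384,486257425919651564824724915134997536,649349355972871757864292884678918176,486067527387073594520997041631530016,6482072092228440744981605416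49210400,890954976140709938678640932563453984,234113164811180828075469505452057632,444168851316160528489127820531934240,735337033650775669291423836043250720,970567384681219435340729552166356352,977903326592794432676351619257413824,982051901153124072706648311500937312,969184212989482915311201746032266656,962298451038133363011374430748423744,973782968399780250007192978068752672,965063883269089610517257152230401536,975166140090675008210365318152896768,980668730378935070469623699575545984,983435072843990828779021698901151808,234570444694798906870776405319361632,438369710672120925548778624384288832]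

theorem run11 : runSLP S11 ins11 = T11 := by decide +kernel

/-- The check for the conjugators. -/
def conj11Ok : Bool :=
  conj11.all fun p => isM24 p.1 && Nat.beq (img p.1 dsMask) dsMask && Nat.beq (ap p.1 0) 0 &&
    idxL.all (fun i => Nat.beq (ap p.2 (ap p.1 i)) i)

theorem conj11_ok : conj11Ok = true := by decide +kernel

theorem mul2_img : img mul2 dsMask = dsMask := by decide +kernel

/-- The ambient group. -/
noncomputable def M12d : Subgroup (Equiv.Perm GolayPt) := M24 ⊓ stabilizer (Equiv.Perm GolayPt) ds

theorem decode_smul_ds {c : ℕ} (hv : valid c = true) (h : img c dsMask = dsMask) :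
    decode c • ds = ds := by
  rw [ds, decode_smul_ofMask hv, h]

theorem stab_of_perm {g : Equiv.Perm GolayPt} (hg : g ∈ M24) {d : Finset GolayPt} (h : g • d = d) :
    (⟨g, hg⟩ : M24) ∈ stabilizer M24 d := h

theorem conj11_spec : ∀ p ∈ conj11, valid p.1 = true ∧ decode p.1 ∈ fixL M12d [0] ∧
    idxL.all (fun i => Nat.beq (ap p.2 (ap p.1 i)) i) = true := by
  have h := conj11_ok
  simp only [conj11Ok, List.all_eq_true, Bool.and_eq_true] at h
  intro p hp
  obtain ⟨⟨⟨h1, h2⟩, h3⟩, h4⟩ := h p hp
  have hv := isM24_valid h1
  refine ⟨hv, ⟨⟨decode_mem_M24 h1, decode_smul_ds hv (Nat.eq_of_beq_eq_true h2)⟩, fun i hi => ?_⟩, ?_⟩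
  · simp only [List.mem_cons, List.not_mem_nil, or_false] at hi
    subst hi
    rw [decode_pt hv (by norm_num), Nat.eq_of_beq_eq_true h3]
  · simpa only [List.all_eq_true] using h4

/-- The points of the dodecad outside `pre` are covered by `A`. -/
def coverDs (pre A : List ℕ) : Bool :=
  idxL.all fun i => !(dsMask.testBit i) || pre.contains i || A.contains i

theorem orbit_ds {pre A : List ℕ} {b : ℕ} (hb : b < 24) (hbpre : b ∉ pre)
    (hbd : dsMask.testBit b = true) (hA : coverDs pre A = true) :
    ∀ g ∈ fixL M12d pre, idx (g (pt b)) ∈ A := by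
  intro g hg
  simp only [coverDs, List.all_eq_true, Bool.or_eq_true, List.contains_iff_mem, Bool.not_eq_true'] at hA
  have hmem : pt b ∈ ds := by
    rw [ds, mem_ofMask, idx_pt hb]
    exact hbd
  have hmem2 : g (pt b) ∈ ds := by
    have h1 : g • ds = ds := hg.1.2
    rw [← h1]
    exact Finset.smul_mem_smul_finset hmem
  have hbit : dsMask.testBit (idx (g (pt b))) = true := mem_ofMask.mp hmem2
  rcases hA _ (mem_idxL.mpr (idx_lt (g (pt b)))) with (h | h) | h
  · rw [hbit] at h
    cases h
  · exfalso
    have h1 := hg.2 _ h
    rw [pt_idx] at h1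
    have h2 : g (pt b) = pt b := g.injective h1
    rw [h2, idx_pt hb] at h
    exact hbpre h
  · exact h

theorem level1 : levelOk T11 [0] 1 [1,2,3,4,6,8,9,12,13,16,18] = true := by decide +kernel
theorem level2 : levelOk T11 [1,0] 2 [2,3,4,6,8,9,12,13,16,18] = true := by decide +kernel
theorem level3 : levelOk T11 [2,1,0] 3 [3,4,6,8,9,12,13,16,18] = true := by decide +kernel
theorem level4 : levelOk T11 [3,2,1,0] 4 [4,6,8,9,12,13,16,18] = true := by decide +kernel

/-- The first five points. -/
def emb5 : Fin 5 ↪ GolayPt :=
  ⟨fun i => pt i.1, fun i j h => by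
    have := congrArg idx h
    simp only at this
    rw [idx_pt (by have := i.2; omega), idx_pt (by have := j.2; omega)] at this
    exact Fin.ext this⟩

theorem emb5_mem : ∀ i, emb5 i ∈ ds := by
  intro i
  show pt i.1 ∈ ds
  rw [ds, mem_ofMask, idx_pt (by have := i.2; omega)]
  revert i
  decide +kernel

theorem fix_five_bot (g : Equiv.Perm GolayPt) (hg : g ∈ fixL M12d [4,3,2,1,0]) : g = 1 := by
  apply eq_one_of_fix_five ds_mem emb5 emb5_mem hg.1.1 hg.1.2
  intro i
  apply hg.2
  fin_cases i <;> simp

theorem sift11 (H : Subgroup (Equiv.Perm GolayPt)) (hH : H ≤ M12d)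
    (hc : ∀ b ∈ fixL M12d [0], b * decode mul2 * b⁻¹ ∈ H) : fixL M12d [0] ≤ H := by
  have hT : ∀ c ∈ T11, InH H c := by
    rw [← run11]
    apply runSLP_spec
    exact conj_inH hc (rep_decode mul2_valid) conj11 conj11_spec
  refine sift_step (orbit_ds (by norm_num) (by simp) (by decide +kernel) (by decide +kernel))
    (level_of_table hH hT (by simp) (by norm_num) level1) ?_
  refine sift_step (orbit_ds (by norm_num) (by simp) (by decide +kernel) (by decide +kernel))
    (level_of_table hH hT (by simp) (by norm_num) level2) ?_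
  refine sift_step (orbit_ds (by norm_num) (by simp) (by decide +kernel) (by decide +kernel))
    (level_of_table hH hT (by simp) (by norm_num) level3) ?_
  refine sift_step (orbit_ds (by norm_num) (by simp) (by decide +kernel) (by decide +kernel))
    (level_of_table hH hT (by simp) (by norm_num) level4) ?_
  intro g hg
  rw [fix_five_bot g hg]
  exact Subgroup.one_mem _

theorem pt0_mem : pt 0 ∈ ds := by
  rw [ds, mem_ofMask, idx_pt (by norm_num)]
  decide +kernel

/-- The standard stabiliser. -/
noncomputable abbrev K11 : Subgroup M24 := stabilizer M24 ds ⊓ stabilizer M24 (pt 0)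

theorem K11_d (g : K11) : (g : M24) • ds = ds := g.2.1
theorem K11_0 (g : K11) : g • pt 0 = pt 0 := g.2.2

/-- The element of order 11. -/
noncomputable def x11 : K11 :=
  ⟨⟨decode mul2, decode_mem_M24 mul2_M24⟩,
    stab_of_perm _ (decode_smul_ds mul2_valid mul2_img), by
    show decode mul2 (pt 0) = pt 0
    rw [decode_pt mul2_valid (by norm_num), mul2_0]⟩

theorem x11_order : orderOf x11 = 11 := by
  have : Fact (Nat.Prime 11) := ⟨by norm_num⟩
  apply orderOf_eq_prime
  · apply Subtype.ext
    apply Subtype.ext
    exact pow_eq_one_of_code (rep_decode mul2_valid) mul2_pow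
  · intro h
    have h1 : decode mul2 = 1 := congrArg (fun a : K11 => ((a : M24) : Equiv.Perm GolayPt)) h
    exact ne_one_of_code (rep_decode mul2_valid) (by norm_num) mul2_1 h1

theorem K11_mem (g : K11) {y : GolayPt} (hy : y ∈ ds) : g • y ∈ ds := by
  have h := K11_d g
  have h2 := Finset.smul_mem_smul_finset (a := (g : M24)) hy
  rw [h] at h2
  exact h2

/-- The stabiliser of the dodecad of squares and of `pt 0` is simple. -/
theorem m11_rep : IsSimpleGroup ↥K11 := by
  have : Fact (Nat.Prime 11) := ⟨by norm_num⟩
  refine JordanSimple.isSimple_of_prime (X := GolayPt) (ds.erase (pt 0))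
    ?_ ?_ ?_ (p := 11) ?_ ?_ (x := x11) x11_order ?_
  · intro g y hy
    simp only [Finset.mem_erase] at hy ⊢
    refine ⟨fun h => hy.1 ?_, K11_mem g hy.2⟩
    rw [← K11_0 g] at h
    exact smul_left_cancel g h
  · intro g hg
    apply Subtype.ext
    apply Subtype.ext
    have h1 : ∀ y ∈ ds, (g : K11) • y = y := by
      intro y hy
      by_cases h0 : y = pt 0
      · rw [h0]; exact K11_0 g
      · exact hg y (by simp [h0, hy])
    exact eq_one_of_fix_five ds_mem emb5 emb5_mem g.1.2 (K11_d g) (fun i => h1 _ (emb5_mem i))
  · intro y hy z hz w hw v hv hyz hwv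
    simp only [Finset.mem_erase] at hy hz hw hv
    obtain ⟨g, hg, hgd, hgi⟩ := exists_dodecad_le (k := 3) (by norm_num) ds_mem
      (emb3 (Ne.symm hy.1) (Ne.symm hz.1) hyz) (emb3 (Ne.symm hw.1) (Ne.symm hv.1) hwv)
      (by
        intro i
        fin_cases i
        · exact pt0_mem
        · exact hy.2
        · exact hz.2)
      (by
        intro i
        fin_cases i
        · exact pt0_mem
        · exact hw.2
        · exact hv.2)
    exact ⟨⟨⟨g, hg⟩, hgd, hgi 0⟩, hgi 1, hgi 2⟩
  · rw [card_stabilizer_dodecad_point ds_mem pt0_mem]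
    norm_num
  · rw [Finset.card_erase_of_mem pt0_mem, ds_mem.2]
  · intro N hN hx
    refine eq_top_of_sift (phi K11) (phi_inj K11) x11 M12d (fixL M12d [0]) ?_ ?_ ?_ ?_ N hN hx
    · rintro _ ⟨a, rfl⟩
      exact ⟨a.1.2, K11_d a⟩
    · intro a
      refine ⟨⟨a.1.2, K11_d a⟩, fun i hi => ?_⟩
      simp only [List.mem_cons, List.not_mem_nil, or_false] at hi
      subst hi
      exact K11_0 a
    · intro b hb
      have h0 := hb.2 0 (by simp)
      exact ⟨⟨⟨b, hb.1.1⟩, hb.1.2, h0⟩, rfl⟩
    · intro H hH hc
      exact sift11 H hH hc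

/-- Dodecads with a point on them are conjugate. -/
theorem exists_conj {d0 d : Finset GolayPt} (hd0 : d0 ∈ dodecads) (hd : d ∈ dodecads)
    {p0 p : GolayPt} (hp0 : p0 ∈ d0) (hp : p ∈ d) : ∃ g : M24, g • d0 = d ∧ g • p0 = p := by
  obtain ⟨a, ha, had⟩ := exists_smul_dodecad hd0 hd
  have hp' : a⁻¹ • p ∈ d0 := by
    rw [← had] at hp
    exact Finset.inv_smul_mem_iff.mpr hp
  obtain ⟨b, hb, hbd, hbi⟩ := exists_dodecad_le (k := 1) (by norm_num) hd0
    ⟨fun _ => p0, fun i j _ => Subsingleton.elim i j⟩
    ⟨fun _ => a⁻¹ • p, fun i j _ => Subsingleton.elim i j⟩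
    (fun _ => hp0) (fun _ => hp')
  have hb0 : b p0 = a⁻¹ • p := hbi 0
  refine ⟨⟨a * b, M24.mul_mem ha hb⟩, ?_, ?_⟩
  · show (a * b) • d0 = d
    rw [mul_smul, hbd, had]
  · show a (b p0) = p
    rw [hb0]
    show a • a⁻¹ • p = p
    simp

/-- The stabiliser of a dodecad and a point on it is simple. -/
theorem m11_simple {d : Finset GolayPt} (hd : d ∈ dodecads) {p : GolayPt} (hp : p ∈ d) :
    IsSimpleGroup ↥(stabilizer M24 d ⊓ stabilizer M24 p) := by
  obtain ⟨g, h1, h2⟩ := exists_conj ds_mem hd pt0_mem hp
  rw [← h1, ← h2]
  exact isSimple_inf_conj g _ _ m11_rep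

/-- The stabiliser of a dodecad is simple. -/
theorem m12_simple {d : Finset GolayPt} (hd : d ∈ dodecads) :
    IsSimpleGroup ↥(stabilizer M24 d) := by
  have h5 : 5 ≤ d.card := by rw [hd.2]; norm_num
  obtain ⟨y, hy, -⟩ := exists_emb_extend (k := 0) (by norm_num) h5
    ⟨fun i => i.elim0, fun i => i.elim0⟩ (fun i => i.elim0)
  have hp := hy 0
  have : IsSimpleGroup ↥(stabilizer M24 d ⊓ stabilizer M24 (y 0)) := m11_simple hd hp
  have := isSimple_stab_stab (G := M24) d (y 0)
  have hinv : ∀ (g : ↥(stabilizer M24 d)), ∀ z ∈ d, g • z ∈ d := by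
    intro g z hz
    have h : (g : M24) • d = d := g.2
    have h2 := Finset.smul_mem_smul_finset (a := (g : M24)) hz
    rw [h] at h2
    exact h2
  refine JordanSimple.isSimple_of_stabilizer (X := GolayPt) d hinv ?_ ?_ (b := y 0) hp ?_ ?_
  · intro g hg
    apply Subtype.ext
    apply Subtype.ext
    exact eq_one_of_fix_five hd y hy g.1.2 g.2 (fun i => hg _ (hy i))
  · intro a ha c hc w hw v hv hac hwv
    obtain ⟨g, hg, hgd, hgi⟩ := exists_dodecad_le (k := 2) (by norm_num) hd
      ⟨![a, c], by
        intro i j h
        fin_cases i <;> fin_cases j <;> simp_all⟩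
      ⟨![w, v], by
        intro i j h
        fin_cases i <;> fin_cases j <;> simp_all⟩
      (by
        intro i
        fin_cases i
        · exact ha
        · exact hc)
      (by
        intro i
        fin_cases i
        · exact hw
        · exact hv)
    exact ⟨⟨⟨g, hg⟩, hgd⟩, hgi 0, hgi 1⟩
  · rw [hd.2]; norm_num
  · rw [hd.2]; norm_num

end Cfsg.Agent.Lib.M11Simple
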