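import Mathlib
import Cfsg.Agent.Lib.FrobCount
import Cfsg.Agent.Lib.SmallGroups2

/-!
# Simplicity of a group of order 7920 from the numbers of elements of orders 3, 5, 11
-/

set_option autoImplicit false
set_option linter.style.haveILetI false
set_option linter.unusedSectionVars false

open scoped Pointwise

namespace Cfsg.Agent.Lib.Nse7920

open Cfsg.Agent.Lib.SmallGroups2 Cfsg.Agent.Lib.FrobCount Subgroup

variable {G : Type*} [Group G] [Finite G]

/-- Frobenius at a prime: the number of elements of order `p` is `-1` modulo `p`. -/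
theorem prime_dvd_succ_count (p : ℕ) (hp : p.Prime) (hd : p ∣ Nat.card G) :
    p ∣ Nat.card {g : G // orderOf g = p} + 1 := by
  classical
  haveI := Fintype.ofFinite G
  have h := frobenius_dvd_card_pow_eq_one G p hd
  have e : Nat.card {x : G // x ^ p = 1} = Nat.card {g : G // orderOf g = p} + 1 := by
    rw [Nat.card_eq_fintype_card, Nat.card_eq_fintype_card, Fintype.card_subtype, Fintype.card_subtype]
    have : (Finset.univ.filter fun x : G => x ^ p = 1) =
        insert 1 (Finset.univ.filter fun g : G => orderOf g = p) := by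
      ext x
      simp only [Finset.mem_filter, Finset.mem_univ, true_and, Finset.mem_insert]
      constructor
      · intro hx
        by_cases h1 : x = 1
        · exact Or.inl h1
        · haveI := Fact.mk hp
          exact Or.inr (orderOf_eq_prime hx h1)
      · rintro (rfl | hx)
        · simp
        · rw [← hx]; exact pow_orderOf_eq_one x
    rw [this, Finset.card_insert_of_notMem]
    simp only [Finset.mem_filter, Finset.mem_univ, true_and, orderOf_one]
    exact hp.one_lt.ne
  rwa [e] at h

/-- The number of elements of prime order `p` when the Sylow `p`-subgroups have order `p`. -/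
theorem count_eq (p : ℕ) [hp : Fact p.Prime] (hP : ∀ P : Sylow p G, Nat.card P = p) :
    Nat.card {g : G // orderOf g = p} = (p - 1) * Nat.card (Sylow p G) := by
  classical
  haveI := Fintype.ofFinite G
  haveI : Fintype (Sylow p G) := Fintype.ofFinite _
  have hpp : p.Prime := hp.out
  rw [Nat.card_eq_fintype_card, Nat.card_eq_fintype_card, Fintype.card_subtype]
  have hS : (Finset.univ.filter fun g : G => orderOf g = p) =
      (Finset.univ : Finset (Sylow p G)).biUnion
        (fun P => (Finset.univ.filter fun g : G => g ∈ (P : Subgroup G) ∧ g ≠ 1)) := by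
    ext g
    simp only [Finset.mem_filter, Finset.mem_univ, true_and, Finset.mem_biUnion]
    constructor
    · intro hg
      obtain ⟨Q, hQ⟩ := exists_sylow_mem_of_orderOf hg
      refine ⟨Q, hQ, ?_⟩
      rintro rfl
      rw [orderOf_one] at hg
      exact hpp.one_lt.ne hg
    · rintro ⟨P, hg, hne⟩
      exact orderOf_eq_of_mem_of_ne_one hpp (hP P) hg hne
  rw [hS, Finset.card_biUnion]
  · have : ∀ P ∈ (Finset.univ : Finset (Sylow p G)),
        (Finset.univ.filter fun g : G => g ∈ (P : Subgroup G) ∧ g ≠ 1).card = p - 1 := by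
      intro P _
      have h1 : (Finset.univ.filter fun g : G => g ∈ (P : Subgroup G) ∧ g ≠ 1) =
          (Finset.univ.filter fun g : G => g ∈ (P : Subgroup G)).erase 1 := by
        ext g
        simp only [Finset.mem_filter, Finset.mem_univ, true_and, Finset.mem_erase]
        tauto
      have h2 : (Finset.univ.filter fun g : G => g ∈ (P : Subgroup G)).card = p := by
        rw [← Fintype.card_subtype]
        have := hP P
        rwa [Nat.card_eq_fintype_card] at this
      rw [h1, Finset.card_erase_of_mem (by simp), h2]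
    rw [Finset.sum_congr rfl this, Finset.sum_const, Finset.card_univ, smul_eq_mul, mul_comm]
  · intro P _ Q _ hPQ
    rw [Function.onFun, Finset.disjoint_left]
    intro g hgP hgQ
    simp only [Finset.mem_filter, Finset.mem_univ, true_and] at hgP hgQ
    apply hPQ
    apply Sylow.ext
    rw [← zpowers_eq_of_mem_of_ne_one hpp (hP P) hgP.1 hgP.2,
      ← zpowers_eq_of_mem_of_ne_one hpp (hP Q) hgQ.1 hgQ.2]

/-- An element whose order is prime to the index of a normal subgroup lies in it. -/
theorem mem_of_coprime_index (N : Subgroup G) [N.Normal] {g : G}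
    (h : Nat.Coprime N.index (orderOf g)) : g ∈ N := by
  obtain ⟨m, hm⟩ := exists_pow_eq_self_of_coprime h
  rw [← hm]
  exact N.pow_mem (N.pow_index_mem g) m

/-- The key fixed point argument. -/
theorem exists_sylow_mod (N : Subgroup G) [N.Normal] (x : G) (hx : x ^ 11 = 1)
    (hN : ¬ 11 ∣ Nat.card N) (r : ℕ) [hr : Fact r.Prime]
    (hfix : ∀ y : N, (∃ k, (y : G) ^ r ^ k = 1) → (y : G) * x = x * y → y = 1) :
    ∃ Q : Sylow r N, Nat.card (Q : Subgroup N) % 11 = 1 := by
  classical
  haveI : Fintype (Sylow r N) := Fintype.ofFinite _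
  haveI : Fact (Nat.Prime 11) := ⟨by norm_num⟩
  let c : MulAut N := MulAut.conjNormal x
  have hc11 : c ^ 11 = 1 := by
    show (MulAut.conjNormal x) ^ 11 = 1
    rw [← map_pow, hx, map_one]
  -- a fixed Sylow subgroup
  let f : Function.End (Sylow r N) := fun Q => c • Q
  have hf : f ^ 11 ^ 1 = 1 := by
    have key : ∀ n : ℕ, ∀ Q, (f ^ n) Q = (c ^ n) • Q := by
      intro n
      induction n with
      | zero => intro Q; rw [pow_zero, pow_zero, one_smul]; rfl
      | succ n ih =>
        intro Q
        rw [pow_succ]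
        show (f ^ n) (f Q) = _
        rw [ih, pow_succ, mul_smul]
    funext Q
    rw [pow_one, key, hc11, one_smul]
    rfl
  have hmod := Equiv.Perm.card_fixedPoints_modEq hf
  have hdvdN : Fintype.card (Sylow r N) ∣ Nat.card N := by
    obtain ⟨Q⟩ := (inferInstance : Nonempty (Sylow r N))
    rw [← Nat.card_eq_fintype_card]
    exact Q.card_dvd_index.trans (Subgroup.index_dvd_card _)
  have hne : Nonempty (Function.fixedPoints f) := by
    by_contra hemp
    rw [not_nonempty_iff] at hemp
    have h0 : Fintype.card (Function.fixedPoints f) = 0 := Fintype.card_eq_zero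
    rw [h0] at hmod
    exact hN (((Nat.modEq_zero_iff_dvd).1 hmod).trans hdvdN)
  obtain ⟨⟨Q, hQ⟩⟩ := hne
  have hQc : ∀ y : N, y ∈ (Q : Subgroup N) → c y ∈ (Q : Subgroup N) := by
    intro y hy
    have h1 : c • Q = Q := hQ
    have h2 : c • y ∈ c • (Q : Subgroup N) := Subgroup.smul_mem_pointwise_smul y c _ hy
    rw [← Sylow.pointwise_smul_def, h1] at h2
    exact h2
  refine ⟨Q, ?_⟩
  -- the action on `Q`
  let g : Function.End (Q : Subgroup N) := fun y => ⟨c y, hQc y y.2⟩
  have hg : g ^ 11 ^ 1 = 1 := by
    have key : ∀ n : ℕ, ∀ y : (Q : Subgroup N), (((g ^ n) y : (Q : Subgroup N)) : N) = (c ^ n) y := by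
      intro n
      induction n with
      | zero => intro y; rfl
      | succ n ih =>
        intro y
        rw [pow_succ]
        show (((g ^ n) (g y) : (Q : Subgroup N)) : N) = _
        rw [ih, pow_succ]
        rfl
    funext y
    apply Subtype.ext
    rw [pow_one, key, hc11]
    rfl
  haveI : Fintype (Q : Subgroup N) := Fintype.ofFinite _
  have hmod2 := Equiv.Perm.card_fixedPoints_modEq hg
  have hfixed : Fintype.card (Function.fixedPoints g) = 1 := by
    rw [Fintype.card_eq_one_iff]
    refine ⟨⟨1, ?_⟩, ?_⟩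
    · show g 1 = 1
      apply Subtype.ext
      show c 1 = 1
      exact map_one c
    · rintro ⟨y, hy⟩
      apply Subtype.ext
      apply Subtype.ext
      have hy' : g y = y := hy
      have hy2 : c (y : N) = y := congrArg Subtype.val hy'
      have hy3 : x * ((y : N) : G) * x⁻¹ = ((y : N) : G) := by
        have := congrArg Subtype.val hy2
        rwa [show c (y : N) = MulAut.conjNormal x (y : N) from rfl, MulAut.conjNormal_apply] at this
      have hcomm : ((y : N) : G) * x = x * ((y : N) : G) := by
        calc ((y : N) : G) * x = (x * ((y : N) : G) * x⁻¹) * x := by rw [hy3]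
          _ = x * ((y : N) : G) := by group
      have hpow : ∃ k, ((y : N) : G) ^ r ^ k = 1 := by
        obtain ⟨k, hk⟩ := (IsPGroup.iff_orderOf.1 Q.isPGroup') y
        refine ⟨k, ?_⟩
        have h1 : y ^ r ^ k = 1 := by rw [← hk]; exact pow_orderOf_eq_one y
        have h2 := congrArg (fun z : (Q : Subgroup N) => ((z : N) : G)) h1
        simpa using h2
      have := hfix (y : N) hpow hcomm
      exact this
  rw [hfixed, ← Nat.card_eq_fintype_card] at hmod2
  exact hmod2

theorem two_bound (a : ℕ) (ha : 2 ^ a ∣ 7920) (hm : 2 ^ a % 11 = 1) : a = 0 := by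
  have h4 : a ≤ 4 := by
    by_contra hcon
    have h5' : 2 ^ 5 ∣ 2 ^ a := pow_dvd_pow 2 (by omega)
    have := h5'.trans ha
    omega
  interval_cases a
  · rfl
  all_goals omega

theorem three_bound (a : ℕ) (ha : 3 ^ a ∣ 7920) (hm : 3 ^ a % 11 = 1) : a = 0 := by
  have h4 : a ≤ 2 := by
    by_contra hcon
    have h5' : 3 ^ 3 ∣ 3 ^ a := pow_dvd_pow 3 (by omega)
    have := h5'.trans ha
    omega
  interval_cases a
  · rfl
  all_goals omega

/-- **Simplicity from the element counts.** -/
theorem isSimple_of_counts (hc : Nat.card G = 7920)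
    (h11 : Nat.card {g : G // orderOf g = 11} = 1440)
    (h5 : Nat.card {g : G // orderOf g = 5} = 1584)
    (h3 : Nat.card {g : G // orderOf g = 3} = 440) : IsSimpleGroup G := by
  classical
  haveI : Fact (Nat.Prime 11) := ⟨by norm_num⟩
  haveI : Fact (Nat.Prime 2) := ⟨by norm_num⟩
  haveI : Fact (Nat.Prime 3) := ⟨by norm_num⟩
  haveI : Fact (Nat.Prime 5) := ⟨by norm_num⟩
  haveI : Nontrivial G := by
    apply Finite.one_lt_card_iff_nontrivial.1
    rw [hc]; norm_num
  have hP : ∀ P : Sylow 11 G, Nat.card P = 11 := fun P => by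
    have := sylow_card_of_card_eq (p := 11) (a := 1) (m := 720) (by rw [hc]; norm_num) (by norm_num) P
    simpa using this
  have hn : Nat.card (Sylow 11 G) = 144 := by
    have := count_eq (G := G) 11 hP
    rw [h11] at this
    omega
  have hNP : ∀ P : Sylow 11 G, Nat.card (normalizer ((P : Subgroup G) : Set G)) = 55 := fun P => by
    have := card_normalizer_mul_card_sylow P
    rw [hn, hc] at this
    omega
  obtain ⟨P₀⟩ := (inferInstance : Nonempty (Sylow 11 G))
  obtain ⟨x, hxP, hx1⟩ : ∃ x ∈ (P₀ : Subgroup G), x ≠ 1 := by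
    have h1 : (1 : ℕ) < Nat.card (P₀ : Subgroup G) := by rw [hP]; norm_num
    haveI := Finite.one_lt_card_iff_nontrivial.1 h1
    obtain ⟨⟨x, hx⟩, hne⟩ := exists_ne (1 : (P₀ : Subgroup G))
    exact ⟨x, hx, fun h => hne (Subtype.ext h)⟩
  have hxord : orderOf x = 11 := orderOf_eq_of_mem_of_ne_one (by norm_num) (hP P₀) hxP hx1
  have hzp : Subgroup.zpowers x = (P₀ : Subgroup G) :=
    zpowers_eq_of_mem_of_ne_one (by norm_num) (hP P₀) hxP hx1
  have hC : ∀ y : G, y * x = x * y → orderOf y ∣ 55 := by
    intro y hy
    have hy' : y ∈ normalizer ((P₀ : Subgroup G) : Set G) := by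
      rw [← hzp]
      have : y ∈ Subgroup.centralizer ((Subgroup.zpowers x : Subgroup G) : Set G) := by
        rw [Subgroup.mem_centralizer_iff]
        intro h hh
        obtain ⟨k, rfl⟩ := Subgroup.mem_zpowers_iff.1 hh
        have : Commute y x := hy
        exact (this.zpow_right k).eq.symm
      exact (Subgroup.centralizer_le_normalizer _) this
    have h := orderOf_dvd_natCard (⟨y, hy'⟩ : normalizer ((P₀ : Subgroup G) : Set G))
    rw [hNP, Subgroup.orderOf_mk] at h
    exact h
  have hdvdG : ∀ N : Subgroup G, Nat.card N ∣ 7920 := fun N => by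
    rw [← hc]; exact Subgroup.card_subgroup_dvd_card N
  refine ⟨fun N hN => ?_⟩
  by_contra hcon
  push Not at hcon
  obtain ⟨hNb, hNt⟩ := hcon
  have hmul := N.card_mul_index
  rw [hc] at hmul
  have hidx1 : N.index ≠ 1 := fun h => hNt (Subgroup.index_eq_one.1 h)
  have hcard1 : Nat.card N ≠ 1 := fun h => hNb (Subgroup.card_eq_one.1 h)
  by_cases h11N : 11 ∣ Nat.card N
  · -- Frattini
    obtain ⟨Q⟩ := (inferInstance : Nonempty (Sylow 11 N))
    obtain ⟨d, hd⟩ := hdvdG N
    have hQ : Nat.card (Q : Subgroup N) = 11 := by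
      obtain ⟨e, he⟩ := h11N
      have he' : ¬ 11 ∣ e := by
        rintro ⟨e', rfl⟩
        have h121 : 121 ∣ 7920 := by
          refine ⟨e' * d, ?_⟩
          rw [hd, he]; ring
        omega
      have := sylow_card_of_card_eq (p := 11) (a := 1) (m := e) (by rw [he]; ring) he' Q
      simpa using this
    have hsup := Sylow.normalizer_sup_eq_top Q
    set R : Subgroup G := (Q : Subgroup N).map N.subtype with hR
    have hRcard : Nat.card R = 11 := by
      rw [hR, Subgroup.card_map_of_injective N.subtype_injective, hQ]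
    have hRp : IsPGroup 11 R := by
      rw [IsPGroup.iff_card]
      exact ⟨1, by rw [hRcard]; norm_num⟩
    obtain ⟨S, hS⟩ := hRp.exists_le_sylow
    have hRS : R = (S : Subgroup G) :=
      Subgroup.eq_of_le_of_card_ge hS (by rw [hP, hRcard])
    have hH : Nat.card (normalizer (R : Set G)) = 55 := by
      rw [hRS]; exact hNP S
    have hidx : N.index ∣ 55 := by
      have h1 := Subgroup.relIndex_sup_right (normalizer (R : Set G)) N
      rw [hsup, Subgroup.relIndex_top_right] at h1
      rw [h1, ← hH]
      exact Subgroup.relIndex_dvd_card _ _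
    have hidx5 : N.index = 5 := by
      have h6 : N.index ∈ Nat.divisors 55 := Nat.mem_divisors.2 ⟨hidx, by norm_num⟩
      have h7 : Nat.divisors 55 = {1, 5, 11, 55} := by decide +kernel
      rw [h7] at h6
      simp only [Finset.mem_insert, Finset.mem_singleton] at h6
      obtain ⟨e, he⟩ := h11N
      rcases h6 with h | h | h | h
      · exact absurd h hidx1
      · exact h
      · rw [h, he] at hmul; omega
      · rw [h, he] at hmul; omega
    have hNc : Nat.card N = 1584 := by
      rw [hidx5] at hmul; omega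
    have hmem : ∀ g : G, orderOf g = 11 ∨ orderOf g = 3 → g ∈ N := by
      rintro g (h | h) <;> apply mem_of_coprime_index <;> rw [hidx5, h] <;> norm_num
    let φ : {g : G // orderOf g = 11} ⊕ {g : G // orderOf g = 3} → N := fun s =>
      match s with
      | Sum.inl g => ⟨g.1, hmem _ (Or.inl g.2)⟩
      | Sum.inr g => ⟨g.1, hmem _ (Or.inr g.2)⟩
    have hφ : Function.Injective φ := by
      rintro (⟨a, ha⟩ | ⟨a, ha⟩) (⟨b, hb⟩ | ⟨b, hb⟩) h
      · have : a = b := congrArg Subtype.val h
        subst this; rfl
      · have : a = b := congrArg Subtype.val h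
        subst this
        rw [ha] at hb
        norm_num at hb
      · have : a = b := congrArg Subtype.val h
        subst this
        rw [ha] at hb
        norm_num at hb
      · have : a = b := congrArg Subtype.val h
        subst this; rfl
    have hle := Nat.card_le_card_of_injective φ hφ
    rw [Nat.card_sum, h11, h3, hNc] at hle
    omega
  · -- the coprime case
    obtain ⟨d, hd⟩ := hdvdG N
    have hx11 : x ^ 11 = 1 := by rw [← hxord]; exact pow_orderOf_eq_one x
    have key : ∀ r : ℕ, r.Prime → r ≠ 5 → r ≠ 11 → (∀ a : ℕ, r ^ a ∣ 7920 → r ^ a % 11 = 1 → a = 0) →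
        ¬ r ∣ Nat.card N := by
      intro r hr hr5 hr11 hb hrN
      haveI := Fact.mk hr
      obtain ⟨Q, hQ⟩ := exists_sylow_mod N x hx11 h11N r (by
        rintro y ⟨k, hk⟩ hy
        have h1 := hC y hy
        have h2 : orderOf (y : G) ∣ r ^ k := orderOf_dvd_of_pow_eq_one hk
        obtain ⟨i, -, hi⟩ := (Nat.dvd_prime_pow hr).1 h2
        have h3 : orderOf (y : G) = 1 := by
          rcases Nat.eq_zero_or_pos i with rfl | hipos
          · simpa using hi
          · exfalso
            have h4 : r ∣ 55 := (dvd_pow_self r hipos.ne').trans (hi ▸ h1)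
            have h5' : r ∣ 5 * 11 := by simpa using h4
            rcases (Nat.Prime.dvd_mul hr).1 h5' with h6 | h6
            · exact hr5 ((Nat.prime_dvd_prime_iff_eq hr (by norm_num)).1 h6)
            · exact hr11 ((Nat.prime_dvd_prime_iff_eq hr (by norm_num)).1 h6)
        rw [orderOf_eq_one_iff] at h3
        exact Subtype.ext h3)
      have hQc := Q.card_eq_multiplicity
      set a := (Nat.card N).factorization r with ha
      have hdv : r ^ a ∣ 7920 := by
        rw [← hQc]
        exact (Subgroup.card_subgroup_dvd_card (Q : Subgroup N)).trans (hdvdG N)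
      have ha0 := hb a hdv (by rw [← hQc]; exact hQ)
      rw [ha0, pow_zero] at hQc
      exact Q.ne_bot_of_dvd_card hrN (Subgroup.card_eq_one.1 hQc)
    have h2N : ¬ 2 ∣ Nat.card N := key 2 (by norm_num) (by norm_num) (by norm_num) two_bound
    have h3N : ¬ 3 ∣ Nat.card N := key 3 (by norm_num) (by norm_num) (by norm_num) three_bound
    have hN5 : Nat.card N = 5 := by
      have h6 : Nat.card N ∈ Nat.divisors 7920 := Nat.mem_divisors.2 ⟨hdvdG N, by norm_num⟩
      have h7 : (Nat.divisors 7920).filter (fun n => ¬ 2 ∣ n ∧ ¬ 3 ∣ n ∧ ¬ 11 ∣ n ∧ n ≠ 1) = {5} := by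
        decide +kernel
      have h8 : Nat.card N ∈ (Nat.divisors 7920).filter (fun n => ¬ 2 ∣ n ∧ ¬ 3 ∣ n ∧ ¬ 11 ∣ n ∧ n ≠ 1) :=
        Finset.mem_filter.2 ⟨h6, h2N, h3N, h11N, hcard1⟩
      rw [h7] at h8
      simpa using h8
    have hidx : N.index = 1584 := by
      rw [hN5] at hmul; omega
    have hmem : ∀ g : {g : G // orderOf g = 5}, g.1 ∈ N := by
      intro g
      apply mem_of_coprime_index
      rw [hidx, g.2]
      norm_num
    have hle := Nat.card_le_card_of_injective (fun g : {g : G // orderOf g = 5} => (⟨g.1, hmem g⟩ : N))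
      (fun a b h => Subtype.ext (congrArg (fun z : N => (z : G)) h))
    rw [h5, hN5] at hle
    omega

/-- The three counts from the congruences and membership in the list of values. -/
theorem counts_of_mem {L : Set ℕ} (hL : ∀ c ∈ L, c = 1 ∨ c = 165 ∨ c = 440 ∨ c = 990 ∨ c = 1320 ∨ c = 1440 ∨ c = 1584 ∨ c = 1980)
    (hc : Nat.card G = 7920) (h : ∀ n : ℕ, 0 < Nat.card {g : G // orderOf g = n} → Nat.card {g : G // orderOf g = n} ∈ L) :
    Nat.card {g : G // orderOf g = 11} = 1440 ∧ Nat.card {g : G // orderOf g = 5} = 1584 ∧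
      Nat.card {g : G // orderOf g = 3} = 440 := by
  have h11 := prime_dvd_succ_count (G := G) 11 (by norm_num) (by rw [hc]; norm_num)
  have h5 := prime_dvd_succ_count (G := G) 5 (by norm_num) (by rw [hc]; norm_num)
  have h3 := prime_dvd_succ_count (G := G) 3 (by norm_num) (by rw [hc]; norm_num)
  have pos : ∀ p : ℕ, 1 < p → p ∣ Nat.card {g : G // orderOf g = p} + 1 → 0 < Nat.card {g : G // orderOf g = p} := by
    intro p hp hd
    rcases Nat.eq_zero_or_pos (Nat.card {g : G // orderOf g = p}) with h0 | h0
    · rw [h0] at hd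
      have := Nat.le_of_dvd (by norm_num) hd
      omega
    · exact h0
  refine ⟨?_, ?_, ?_⟩
  · rcases hL _ (h 11 (pos 11 (by norm_num) h11)) with e | e | e | e | e | e | e | e <;> rw [e] at h11 ⊢ <;> omega
  · rcases hL _ (h 5 (pos 5 (by norm_num) h5)) with e | e | e | e | e | e | e | e <;> rw [e] at h5 ⊢ <;> omega
  · rcases hL _ (h 3 (pos 3 (by norm_num) h3)) with e | e | e | e | e | e | e | e <;> rw [e] at h3 ⊢ <;> omega

end Cfsg.Agent.Lib.Nse7920
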