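import Mathlib
import Cfsg.Agent.Lib.SmallGroups5
import Cfsg.Agent.Lib.TwoLocal3
import Cfsg.Agent.Lib.FrobCount
import Cfsg.Agent.Lib.TransferEval

/-!
# Simple groups of order 7920, part A: tools, Sylow 11-subgroups
-/

set_option autoImplicit false
set_option linter.unusedSectionVars false

namespace Cfsg.Agent.Lib.Ord7920

open Subgroup MulAction
open Cfsg.Agent.Lib.SmallGroups2 Cfsg.Agent.Lib.SmallGroups3 Cfsg.Agent.Lib.SmallGroups4
  Cfsg.Agent.Lib.SmallGroups5 Cfsg.Agent.Lib.TwoLocal Cfsg.Agent.Lib.TwoLocal2
  Cfsg.Agent.Lib.TwoLocal3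

instance fact5 : Fact (Nat.Prime 5) := ⟨by norm_num⟩
instance fact11 : Fact (Nat.Prime 11) := ⟨by norm_num⟩

/-- A free action on an invariant subset: the group order divides the size of the subset. -/
theorem card_dvd_ncard_of_free {T X : Type*} [Group T] [Finite T] [MulAction T X] [Finite X]
    (W : Set X) (hW : ∀ (t : T), ∀ x ∈ W, t • x ∈ W) (h : ∀ (t : T), ∀ x ∈ W, t • x = x → t = 1) :
    Nat.card T ∣ W.ncard := by
  let Y : SubMulAction T X := { carrier := W, smul_mem' := fun t x hx => hW t x hx }
  have hfree : ∀ y : Y, stabilizer T y = ⊥ := by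
    intro y
    rw [eq_bot_iff]
    intro t ht
    have h1 : t • y = y := ht
    have h2 : t • (y : X) = y := congrArg Subtype.val h1
    simpa using h t y y.2 h2
  have e := MulAction.selfEquivOrbitsQuotientProd hfree
  have h3 : Nat.card Y = Nat.card (orbitRel.Quotient T Y) * Nat.card T := by
    rw [Nat.card_congr e, Nat.card_prod]
  have h4 : Nat.card Y = W.ncard := rfl
  rw [← h4, h3]
  exact dvd_mul_left _ _


variable {G : Type*} [Group G]

theorem card_mul_relIndex_of_le {H K : Subgroup G} (h : H ≤ K) :
    Nat.card H * H.relIndex K = Nat.card K := by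
  have h1 := Subgroup.card_mul_index (H.subgroupOf K)
  rw [Nat.card_congr (Subgroup.subgroupOfEquivOfLe h).toEquiv] at h1
  exact h1

theorem centralizer_le_normalizer' (H : Subgroup G) :
    centralizer (H : Set G) ≤ normalizer (H : Set G) :=
  centralizer_le_normalizer _

variable [Finite G]

section simple

variable [IsSimpleGroup G]

theorem not_comm (hc : Nat.card G = 7920) : ¬ IsMulCommutative G :=
  not_isMulCommutative_of_not_prime (by rw [hc]; norm_num)

theorem card_sylow11_dvd (hc : Nat.card G = 7920) (P : Sylow 11 G) :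
    Nat.card (P : Subgroup G) = 11 := by
  have := sylow_card_of_card_eq (p := 11) (a := 1) (m := 720) (G := G) (by rw [hc]; norm_num) (by norm_num) P
  simpa using this

/-- Two distinct Sylows fixed by an element of `C(P)` give a contradiction when `f = 1`. -/
theorem two_le_fixedBy_sylow {p : ℕ} [Fact p.Prime] {P Q : Sylow p G} (hne : P ≠ Q) {r : G}
    (hP : r • P = P) (hQ : r • Q = Q) : 1 < Nat.card (fixedBy (Sylow p G) r) := by
  rw [Finite.one_lt_card_iff_nontrivial]
  refine ⟨⟨⟨P, hP⟩, ⟨Q, hQ⟩, ?_⟩⟩
  intro h
  exact hne (congrArg Subtype.val h)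

theorem card_sylow11 (hc : Nat.card G = 7920) : Nat.card (Sylow 11 G) = 144 := by
  have hnc := not_comm hc
  have mem := card_sylow_mem_filter (p := 11) (a := 1) (m := 720) (G := G) (by rw [hc]; norm_num) (by norm_num)
    (by norm_num)
  have hf : (Nat.divisors 720).filter (fun n => n % 11 = 1 % 11) = {1, 12, 45, 144} := by
    decide +kernel
  rw [hf] at mem
  have hne1 : Nat.card (Sylow 11 G) ≠ 1 := card_sylow_ne_one hnc (by rw [hc]; norm_num)
  simp only [Finset.mem_insert, Finset.mem_singleton] at mem
  rcases mem with h | h | h | h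
  · exact absurd h hne1
  · exfalso
    exact comm_exclude (p := 11) (q := 2) (m := 720) (k := 60) (n := 12) hnc (by rw [hc]) (by norm_num) h
      (by norm_num) (by decide +kernel) (by decide +kernel)
  · exfalso
    obtain ⟨P⟩ := (inferInstance : Nonempty (Sylow 11 G))
    have hN := card_normalizer_mul_card_sylow P
    rw [h, hc] at hN
    have hN' : Nat.card (normalizer ((P : Subgroup G) : Set G)) = 176 := by omega
    obtain ⟨s, hs1, hs2, hs3, hs4⟩ := exists_relIndex_of_card_eq (p := 11) (m := 720) hnc (by rw [hc])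
      (by norm_num) P
    rw [hN'] at hs3
    have hs : s = 2 := by
      have : s ∈ Nat.divisors 10 := by simp; exact hs2
      have h3 : s ≤ 10 := Nat.le_of_dvd (by norm_num) hs2
      interval_cases s <;> first | rfl | omega
    subst hs
    have hC := card_mul_relIndex_of_le (centralizer_le_normalizer' (P : Subgroup G))
    rw [hs4, hN'] at hC
    have hC' : Nat.card (centralizer ((P : Subgroup G) : Set G)) = 88 := by omega
    obtain ⟨T, hTC, hT⟩ := exists_subgroup_le_card (centralizer ((P : Subgroup G) : Set G)) (q := 2)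
      (a := 3) (by rw [hC']; norm_num)
    have hTP : ∀ t : T, t • P = P := by
      intro t
      have h1 : (t : G) ∈ normalizer ((P : Subgroup G) : Set G) :=
        centralizer_le_normalizer' _ (hTC t.2)
      exact Sylow.smul_eq_iff_mem_normalizer.2 h1
    have hdvd := card_dvd_ncard_of_free (T := T) (X := Sylow 11 G) {Q | Q ≠ P} (by
      intro t Q hQ hq
      apply hQ
      have : t • Q = t • P := by rw [hq, hTP]
      exact smul_left_cancel _ this) (by
      intro t Q hQ htQ
      by_contra htne
      have hord : orderOf t ∣ 8 := by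
        have := orderOf_dvd_natCard t
        rwa [hT] at this
      have ht1 : orderOf t ≠ 1 := fun h => htne (orderOf_eq_one_iff.1 h)
      have h2 : 2 ∣ orderOf t := by
        have h8 : orderOf t ∣ 2 ^ 3 := by simpa using hord
        obtain ⟨k, hk, hk2⟩ := (Nat.dvd_prime_pow Nat.prime_two).1 h8
        rw [hk2] at ht1 ⊢
        rcases k with _ | k
        · simp at ht1
        · rw [pow_succ]; exact dvd_mul_left _ _
      set r : T := t ^ (orderOf t / 2) with hr
      have hro : orderOf (r : G) = 2 := by
        rw [Subgroup.orderOf_coe, hr]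
        exact orderOf_pow_orderOf_div (by exact (orderOf_pos t).ne') h2
      have hrQ : r • Q = Q := by
        have : ∀ n : ℕ, (t ^ n) • Q = Q := by
          intro n
          induction n with
          | zero => simp
          | succ n ih => rw [pow_succ, mul_smul, htQ, ih]
        exact this _
      have hrQ' : (r : G) • Q = Q := hrQ
      have hrP : (r : G) • P = P := hTP r
      have hrC : (r : G) ∈ centralizer ((P : Subgroup G) : Set G) := hTC r.2
      obtain ⟨h5, -, h7, h8⟩ := fixedBy_facts hnc (p := 11) (q := 2) (by rw [hc]; norm_num) P hrC hro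
      have h9 := h7 rfl
      have h10 := two_le_fixedBy_sylow (Ne.symm hQ) hrP hrQ'
      rw [h] at h8 h9
      omega)
    rw [hT] at hdvd
    have hcompl : ({Q | Q ≠ P} : Set (Sylow 11 G)).ncard = 44 := by
      have h1 : ({Q | Q ≠ P} : Set (Sylow 11 G)) = {P}ᶜ := by ext; simp
      rw [h1, Set.ncard_compl, Set.ncard_singleton]
      simp [h]
    omega
  · exact h

theorem card_normalizer11 (hc : Nat.card G = 7920) (P : Sylow 11 G) :
    Nat.card (normalizer ((P : Subgroup G) : Set G)) = 55 := by
  have hN := card_normalizer_mul_card_sylow P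
  rw [card_sylow11 hc, hc] at hN
  omega

theorem card_centralizer11 (hc : Nat.card G = 7920) (P : Sylow 11 G) :
    Nat.card (centralizer ((P : Subgroup G) : Set G)) = 11 := by
  obtain ⟨s, hs1, hs2, hs3, hs4⟩ := exists_relIndex_of_card_eq (p := 11) (m := 720) (not_comm hc)
    (by rw [hc]) (by norm_num) P
  rw [card_normalizer11 hc] at hs3
  have hs : s = 5 := by
    have h3 : s ≤ 10 := Nat.le_of_dvd (by norm_num) hs2
    interval_cases s <;> first | rfl | omega
  subst hs
  have hC := card_mul_relIndex_of_le (centralizer_le_normalizer' (P : Subgroup G))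
  rw [hs4, card_normalizer11 hc] at hC
  omega

/-- `C(P) = P` for a Sylow 11-subgroup. -/
theorem mem_of_mem_centralizer11 (hc : Nat.card G = 7920) (P : Sylow 11 G) {g : G}
    (hg : g ∈ centralizer ((P : Subgroup G) : Set G)) : g ∈ (P : Subgroup G) := by
  have h1 : (P : Subgroup G) ≤ centralizer ((P : Subgroup G) : Set G) :=
    le_centralizer_of_card_prime (by norm_num) (card_sylow11_dvd hc P)
  have h2 : (P : Subgroup G) = centralizer ((P : Subgroup G) : Set G) := by
    apply Subgroup.eq_of_le_of_card_ge h1
    rw [card_centralizer11 hc, card_sylow11_dvd hc]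
  rw [h2]; exact hg

/-- An element commuting with an element of order 11 lies in the same Sylow 11-subgroup. -/
theorem exists_sylow11_of_comm (hc : Nat.card G = 7920) {y a : G} (hy : orderOf y = 11)
    (h : y * a = a * y) : ∃ Q : Sylow 11 G, y ∈ (Q : Subgroup G) ∧ a ∈ (Q : Subgroup G) := by
  obtain ⟨Q, hQ⟩ := exists_sylow_mem_of_orderOf hy
  refine ⟨Q, hQ, mem_of_mem_centralizer11 hc Q ?_⟩
  have hQ' : (Q : Subgroup G) = zpowers y := by
    rw [zpowers_eq_of_mem_of_ne_one (by norm_num) (card_sylow11_dvd hc Q) hQ]
    rintro rfl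
    simp at hy
  rw [hQ']
  rw [mem_centralizer_iff]
  intro w hw
  obtain ⟨k, rfl⟩ := Subgroup.mem_zpowers_iff.1 hw
  exact (Commute.zpow_left (show Commute y a from h) k)

/-- 11 does not divide the order of the centralizer of an element of order prime to 11. -/
theorem eleven_not_dvd_centralizer (hc : Nat.card G = 7920) {a : G} (ha : a ≠ 1)
    (hoa : ¬ 11 ∣ orderOf a) : ¬ 11 ∣ Nat.card (centralizer ({a} : Set G)) := by
  intro h
  obtain ⟨y, hy⟩ := exists_prime_orderOf_dvd_card' (G := centralizer ({a} : Set G)) 11 h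
  have hy' : orderOf (y : G) = 11 := by rwa [Subgroup.orderOf_coe]
  have hcomm : (y : G) * a = a * y := (mem_centralizer_singleton_iff.1 y.2)
  obtain ⟨Q, hQ1, hQ2⟩ := exists_sylow11_of_comm hc hy' hcomm
  have h1 : orderOf a ∣ 11 := by
    have := Subgroup.orderOf_dvd_natCard (Q : Subgroup G) hQ2
    rwa [card_sylow11_dvd hc Q] at this
  rcases (Nat.dvd_prime (by norm_num)).1 h1 with h2 | h2
  · exact ha (orderOf_eq_one_iff.1 h2)
  · exact hoa (by rw [h2])

end simple

end Cfsg.Agent.Lib.Ord7920
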