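import Mathlib
import Cfsg.Agent.Lib.Ord7920A

/-!
# Simple groups of order 7920, part B: Sylow 3-subgroups: Burnside fusion, transfer, inversion
-/

set_option autoImplicit false
set_option linter.unusedSectionVars false
set_option linter.style.haveILetI false

namespace Cfsg.Agent.Lib.Ord7920

open Subgroup MulAction
open Cfsg.Agent.Lib.SmallGroups2 Cfsg.Agent.Lib.SmallGroups3 Cfsg.Agent.Lib.SmallGroups4
  Cfsg.Agent.Lib.SmallGroups5 Cfsg.Agent.Lib.TwoLocal Cfsg.Agent.Lib.TwoLocal2
  Cfsg.Agent.Lib.TwoLocal3 Cfsg.Agent.Lib.TransferEval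

variable {G : Type*} [Group G] [Finite G]

/-- **Burnside's fusion theorem** for an abelian Sylow subgroup. -/
theorem burnside_fusion {p : ℕ} [Fact p.Prime] (P : Sylow p G)
    (hab : ∀ a ∈ (P : Subgroup G), ∀ b ∈ (P : Subgroup G), a * b = b * a) {x g : G}
    (hx : x ∈ (P : Subgroup G)) (hg : g⁻¹ * x * g ∈ (P : Subgroup G)) :
    ∃ n ∈ normalizer ((P : Subgroup G) : Set G), n⁻¹ * x * n = g⁻¹ * x * g := by
  set y := g⁻¹ * x * g with hy
  let C := centralizer ({y} : Set G)
  have hPC : (P : Subgroup G) ≤ C := by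
    intro a ha
    rw [mem_centralizer_singleton_iff]
    exact hab a ha y hg
  set Q : Sylow p G := g⁻¹ • P with hQ
  have hQC : (Q : Subgroup G) ≤ C := by
    intro a ha
    rw [mem_centralizer_singleton_iff]
    rw [hQ, mem_smul_sylow_iff] at ha
    have h1 := hab _ ha x hx
    simp only [inv_inv] at h1
    rw [hy]
    have h2 : a = g⁻¹ * (g * a * g⁻¹) * g := by group
    rw [h2]
    calc g⁻¹ * (g * a * g⁻¹) * g * (g⁻¹ * x * g) = g⁻¹ * ((g * a * g⁻¹) * x) * g := by group
      _ = g⁻¹ * (x * (g * a * g⁻¹)) * g := by rw [h1]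
      _ = _ := by group
  let P' : Sylow p C := P.subtype hPC
  let Q' : Sylow p C := Q.subtype hQC
  obtain ⟨c, hc⟩ := MulAction.exists_smul_eq C Q' P'
  have hc2 : (c : G) • Q = P := by
    have hle : (((c : G) • Q : Sylow p G) : Subgroup G) ≤ (P : Subgroup G) := by
      intro u hu
      rw [mem_smul_sylow_iff] at hu
      let a : C := ⟨(c : G)⁻¹ * u * c, hQC hu⟩
      have ha : a ∈ (Q' : Subgroup C) := by
        simp only [Q', Sylow.coe_subtype, mem_subgroupOf]
        exact hu
      have h6 : c * a * c⁻¹ ∈ ((c • Q' : Sylow p C) : Subgroup C) := by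
        rw [mem_smul_sylow_iff]
        have h8 : c⁻¹ * (c * a * c⁻¹) * c = a := by group
        rw [h8]; exact ha
      rw [hc] at h6
      simp only [P', Sylow.coe_subtype, mem_subgroupOf] at h6
      have h7 : ((c * a * c⁻¹ : C) : G) = u := by
        simp only [Subgroup.coe_mul, InvMemClass.coe_inv, a]
        group
      rwa [h7] at h6
    apply Sylow.ext
    exact ((c • Q : Sylow p G).is_maximal' P.isPGroup' hle).symm
  have hc3 : ((c : G) * g⁻¹) • P = P := by
    rw [mul_smul]; exact hc2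
  have hn : (c : G) * g⁻¹ ∈ normalizer ((P : Subgroup G) : Set G) :=
    Sylow.smul_eq_iff_mem_normalizer.1 hc3
  refine ⟨((c : G) * g⁻¹)⁻¹, inv_mem hn, ?_⟩
  have hcy : (c : G) * y = y * c := (mem_centralizer_singleton_iff.1 c.2)
  have : ((c : G) * g⁻¹)⁻¹⁻¹ * x * ((c : G) * g⁻¹)⁻¹ = (c : G) * y * (c : G)⁻¹ := by
    rw [hy]; group
  rw [this, hcy]
  group

/-- The norm homomorphism of a finite group of automorphisms of a commutative group. -/
noncomputable def normHom {V : Type*} [CommGroup V] (A : Subgroup (MulAut V)) [Finite A] : V →* V where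
  toFun v := haveI := Fintype.ofFinite A; ∏ a : A, (a : MulAut V) v
  map_one' := by simp
  map_mul' u v := by
    simp only [map_mul, Finset.prod_mul_distrib]

theorem normHom_apply {V : Type*} [CommGroup V] (A : Subgroup (MulAut V)) [Finite A] [Fintype A] (v : V) :
    normHom A v = ∏ a : A, (a : MulAut V) v := by
  simp only [normHom, MonoidHom.coe_mk, OneHom.coe_mk]
  congr!

theorem normHom_smul {V : Type*} [CommGroup V] (A : Subgroup (MulAut V)) [Finite A] (b : A) (v : V) :
    normHom A ((b : MulAut V) v) = normHom A v := by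
  classical
  haveI := Fintype.ofFinite A
  rw [normHom_apply, normHom_apply]
  apply Fintype.prod_equiv (Equiv.mulRight b)
  intro a
  simp [MulAut.mul_apply]

theorem normHom_of_fixed {V : Type*} [CommGroup V] (A : Subgroup (MulAut V)) [Finite A] {v : V}
    (h : ∀ a ∈ A, a v = v) : normHom A v = v ^ Nat.card A := by
  classical
  haveI := Fintype.ofFinite A
  rw [normHom_apply, Nat.card_eq_fintype_card, ← Finset.card_univ, ← Finset.prod_const]
  exact Finset.prod_congr rfl (fun a _ => h a a.2)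

theorem rho_coe {P : Subgroup G} (n : normalizer (P : Set G)) (y : P) :
    ((P.normalizerMonoidHom n y : P) : G) = (n : G) * y * (n : G)⁻¹ := rfl

/-- No non-identity element of an abelian Sylow subgroup of a non-abelian simple group is fixed by the
normalizer, when the automizer has order prime to `p` (automatic, recorded as a hypothesis). -/
theorem sylow_no_central {p : ℕ} [Fact p.Prime] [IsSimpleGroup G] (hnc : ¬ IsMulCommutative G)
    (P : Sylow p G) (hab : ∀ a ∈ (P : Subgroup G), ∀ b ∈ (P : Subgroup G), a * b = b * a)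
    (hA : (Nat.card (P : Subgroup G).normalizerMonoidHom.range).Coprime p) {x : G}
    (hx : x ∈ (P : Subgroup G))
    (hfix : ∀ n ∈ normalizer ((P : Subgroup G) : Set G), n * x * n⁻¹ = x) : x = 1 := by
  letI inst : CommGroup (P : Subgroup G) :=
    { (inferInstance : Group (P : Subgroup G)) with
      mul_comm := fun a b => Subtype.ext (hab a a.2 b b.2) }
  let A : Subgroup (MulAut (P : Subgroup G)) := (P : Subgroup G).normalizerMonoidHom.range
  let τ : (P : Subgroup G) →* (P : Subgroup G) := normHom A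
  have hinv : ∀ (y : (P : Subgroup G)) (g : G) (hg : g⁻¹ * (y : G) * g ∈ (P : Subgroup G)),
      τ ⟨g⁻¹ * (y : G) * g, hg⟩ = τ y := by
    intro y g hg
    obtain ⟨n, hn, hny⟩ := burnside_fusion P hab y.2 hg
    let b : A := ⟨(P : Subgroup G).normalizerMonoidHom ⟨n⁻¹, inv_mem hn⟩, ⟨_, rfl⟩⟩
    have : (⟨g⁻¹ * (y : G) * g, hg⟩ : (P : Subgroup G)) = (b : MulAut (P : Subgroup G)) y := by
      apply Subtype.ext
      show g⁻¹ * (y : G) * g = n⁻¹ * y * n⁻¹⁻¹
      rw [← hny, inv_inv]
    rw [this]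
    exact normHom_smul A b y
  have htr : ∀ y : (P : Subgroup G), τ.transfer (y : G) = τ y ^ (P : Subgroup G).index :=
    fun y => transfer_eq_pow_of_fusion τ hinv y
  have htriv : ∀ g : G, τ.transfer g = 1 := by
    intro g
    rcases (τ.transfer.normal_ker).eq_bot_or_eq_top with h | h
    · exfalso
      apply hnc
      have hinj : Function.Injective τ.transfer := (MonoidHom.ker_eq_bot_iff _).1 h
      refine ⟨⟨fun a b => hinj ?_⟩⟩
      rw [map_mul, map_mul, mul_comm]
    · have : g ∈ τ.transfer.ker := by rw [h]; trivial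
      exact this
  let x' : (P : Subgroup G) := ⟨x, hx⟩
  have h1 : τ x' = x' ^ Nat.card A := by
    apply normHom_of_fixed
    rintro a ⟨n, rfl⟩
    apply Subtype.ext
    exact hfix n n.2
  have h2 : x' ^ (Nat.card A * (P : Subgroup G).index) = 1 := by
    rw [pow_mul, ← h1, ← htr, htriv]
  have h3 : orderOf x' ∣ Nat.card A * (P : Subgroup G).index := orderOf_dvd_of_pow_eq_one h2
  have h4 : orderOf x' ∣ Nat.card (P : Subgroup G) := orderOf_dvd_natCard x'
  obtain ⟨k, hk⟩ := IsPGroup.iff_card.1 P.isPGroup'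
  rw [hk] at h4
  have hcop : Nat.Coprime (orderOf x') (Nat.card A * (P : Subgroup G).index) := by
    have h5 : Nat.Coprime (p ^ k) (Nat.card A * (P : Subgroup G).index) := by
      apply Nat.Coprime.pow_left
      apply Nat.Coprime.mul_right hA.symm
      exact ((Nat.Prime.coprime_iff_not_dvd Fact.out).2 P.not_dvd_index)
    exact Nat.Coprime.coprime_dvd_left h4 h5
  have h6 : orderOf x' = 1 := Nat.Coprime.eq_one_of_dvd hcop h3
  have h7 : x' = 1 := orderOf_eq_one_iff.1 h6
  exact congrArg Subtype.val h7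

theorem three_cases {V : Type*} [Group V] [Finite V] {H : Subgroup V} (hH : Nat.card H = 3) {p : V}
    (hp : p ∈ H) (hp1 : p ≠ 1) {y : V} (hy : y ∈ H) : y = 1 ∨ y = p ∨ y = p⁻¹ := by
  have h1 : zpowers p = H := zpowers_eq_of_mem_of_ne_one (by norm_num) hH hp hp1
  have ho : orderOf p = 3 := orderOf_eq_of_mem_of_ne_one (by norm_num) hH hp hp1
  rw [← h1] at hy
  obtain ⟨k, rfl⟩ := Subgroup.mem_zpowers_iff.1 hy
  have h3 : p ^ (3 : ℕ) = 1 := by rw [← ho]; exact pow_orderOf_eq_one p
  have h4 : p ^ k = p ^ (k % 3) := by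
    rw [← zpow_mod_orderOf, ho]; rfl
  have h5 : k % 3 = 0 ∨ k % 3 = 1 ∨ k % 3 = 2 := by omega
  rcases h5 with h | h | h
  · left; rw [h4, h]; simp
  · right; left; rw [h4, h]; simp
  · right; right
    rw [h4, h]
    have : p ^ (2 : ℤ) * p = 1 := by
      rw [← zpow_natCast p 3] at h3
      rw [← h3, ← zpow_add_one]; rfl
    exact eq_inv_of_mul_eq_one_left this

theorem exp_aux (a b : ℕ) (ha : a ≤ 2) (hb : b ≤ 2) (ha0 : a ≠ 0) (hb0 : b ≠ 0)
    (h : 3 ^ a * 3 ^ b ≤ 9) : a = 1 ∧ b = 1 := by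
  interval_cases a <;> interval_cases b <;> simp_all

/-- A `2`-group of automorphisms of a commutative group of order 9 with no non-trivial fixed point
contains the inversion. -/
theorem inv_mem_of_no_fixed {V : Type*} [CommGroup V] [Finite V] (hV : Nat.card V = 9)
    (A : Subgroup (MulAut V)) (hA : IsPGroup 2 A) (hfix : ∀ x : V, (∀ a ∈ A, a x = x) → x = 1) :
    ∃ a ∈ A, ∀ x, a x = x⁻¹ := by
  have hodd : ∀ x : V, x ^ 2 = 1 → x = 1 := by
    intro x hx
    have h1 : orderOf x ∣ 2 := orderOf_dvd_of_pow_eq_one hx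
    have h2 : orderOf x ∣ 9 := by rw [← hV]; exact orderOf_dvd_natCard x
    have h3 : orderOf x ∣ Nat.gcd 2 9 := Nat.dvd_gcd h1 h2
    have h4 : orderOf x = 1 := by simpa using h3
    exact orderOf_eq_one_iff.1 h4
  have hVnt : Nontrivial V := by
    rw [← Finite.one_lt_card_iff_nontrivial, hV]; norm_num
  have hAnt : Nontrivial A := by
    obtain ⟨x, hx⟩ := exists_ne (1 : V)
    by_contra hcon
    rw [not_nontrivial_iff_subsingleton] at hcon
    apply hx
    apply hfix
    intro a ha
    have : (⟨a, ha⟩ : A) = 1 := Subsingleton.elim _ _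
    have h2 : a = 1 := congrArg Subtype.val this
    rw [h2]; rfl
  haveI : Nontrivial (center A) := hA.center_nontrivial
  obtain ⟨z, hz⟩ := exists_ne (1 : center A)
  have hzo : (orderOf (z : A)) ∣ Nat.card A := orderOf_dvd_natCard _
  obtain ⟨k, hk⟩ := IsPGroup.iff_card.1 hA
  rw [hk] at hzo
  obtain ⟨m, hm, hm2⟩ := (Nat.dvd_prime_pow Nat.prime_two).1 hzo
  have hzne : (z : A) ≠ 1 := fun h => hz (Subtype.ext h)
  have hord1 : orderOf (z : A) ≠ 1 := fun h => hzne (orderOf_eq_one_iff.1 h)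
  have h2dvd : 2 ∣ orderOf (z : A) := by
    rw [hm2] at hord1 ⊢
    rcases m with _ | m
    · simp at hord1
    · rw [pow_succ]; exact dvd_mul_left _ _
  set s0 : A := (z : A) ^ (orderOf (z : A) / 2) with hs0
  have hs0o : orderOf s0 = 2 := orderOf_pow_orderOf_div (orderOf_pos _).ne' h2dvd
  have hs0c : ∀ b : A, b * s0 = s0 * b := by
    intro b
    have h1 : Commute b (z : A) := (mem_center_iff.1 z.2 b)
    exact (h1.pow_right _).eq
  set s : MulAut V := (s0 : MulAut V) with hs
  have hs2 : ∀ x, s (s x) = x := by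
    intro x
    have h1 : s0 ^ 2 = 1 := by rw [← hs0o]; exact pow_orderOf_eq_one s0
    have h2 : s * s = 1 := by
      have := congrArg (fun w : A => (w : MulAut V)) h1
      simpa [pow_two] using this
    have h3 := congrArg (fun w : MulAut V => w x) h2
    simpa [MulAut.mul_apply] using h3
  have hsne : s ≠ 1 := by
    intro h
    have : s0 = 1 := Subtype.ext h
    rw [this] at hs0o
    simp at hs0o
  by_cases hI : ∀ x, s x = x⁻¹
  · exact ⟨s, s0.2, hI⟩
  push Not at hI
  obtain ⟨x₀, hx₀⟩ := hI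
  set p₀ := x₀ * s x₀ with hp₀
  have hp₀1 : p₀ ≠ 1 := by
    intro h
    exact hx₀ (eq_inv_of_mul_eq_one_right h)
  have hsp₀ : s p₀ = p₀ := by rw [hp₀, map_mul, hs2, mul_comm]
  obtain ⟨x₁, hx₁⟩ : ∃ x, s x ≠ x := by
    by_contra h
    push Not at h
    exact hsne (MulEquiv.ext h)
  set q₀ := x₁ * (s x₁)⁻¹ with hq₀
  have hq₀1 : q₀ ≠ 1 := by
    intro h
    have : x₁ = s x₁ := mul_inv_eq_one.1 h
    exact hx₁ this.symm
  have hsq₀ : s q₀ = q₀⁻¹ := by
    rw [hq₀, map_mul, map_inv, hs2, mul_inv, inv_inv, mul_comm]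
  let F : Subgroup V :=
    { carrier := {x | s x = x}
      mul_mem' := fun {a b} ha hb => by
        have ha' : s a = a := ha
        have hb' : s b = b := hb
        show s (a * b) = a * b
        rw [map_mul, ha', hb']
      one_mem' := by show s 1 = 1; simp
      inv_mem' := fun {a} ha => by
        have ha' : s a = a := ha
        show s a⁻¹ = a⁻¹
        rw [map_inv, ha'] }
  let I : Subgroup V :=
    { carrier := {x | s x = x⁻¹}
      mul_mem' := fun {a b} ha hb => by
        have ha' : s a = a⁻¹ := ha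
        have hb' : s b = b⁻¹ := hb
        show s (a * b) = (a * b)⁻¹
        rw [map_mul, ha', hb', mul_inv]
      one_mem' := by show s 1 = 1⁻¹; simp
      inv_mem' := fun {a} ha => by
        have ha' : s a = a⁻¹ := ha
        show s a⁻¹ = a⁻¹⁻¹
        rw [map_inv, ha'] }
  have hFmem : ∀ x, x ∈ F ↔ s x = x := fun x => Iff.rfl
  have hImem : ∀ x, x ∈ I ↔ s x = x⁻¹ := fun x => Iff.rfl
  have hcard : Nat.card F * Nat.card I ≤ 9 := by
    rw [← Nat.card_prod, ← hV]
    apply Nat.card_le_card_of_injective (fun w : F × I => (w.1 : V) * (w.2 : V))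
    rintro ⟨f, i⟩ ⟨f', i'⟩ h
    simp only at h
    have h1 : (f' : V)⁻¹ * f = i' * (i : V)⁻¹ := by
      calc (f' : V)⁻¹ * f = (f' : V)⁻¹ * (f * i) * (i : V)⁻¹ := by group
        _ = (f' : V)⁻¹ * (f' * i') * (i : V)⁻¹ := by rw [h]
        _ = _ := by group
    have h2 : (f' : V)⁻¹ * f ∈ F := mul_mem (inv_mem f'.2) f.2
    have h3 : (f' : V)⁻¹ * f ∈ I := by rw [h1]; exact mul_mem i'.2 (inv_mem i.2)
    have h4 : ((f' : V)⁻¹ * f) ^ 2 = 1 := by
      have h5 := (hFmem _).1 h2
      have h6 := (hImem _).1 h3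
      rw [h5] at h6
      have h7 := mul_eq_one_iff_eq_inv.2 h6
      rw [pow_two]; exact h7
    have h8 := hodd _ h4
    have h9 : (f : V) = f' := by
      have := inv_mul_eq_one.1 h8
      exact this.symm
    have h10 : (i : V) = i' := by
      rw [h9] at h
      exact mul_left_cancel h
    rw [Prod.mk.injEq]
    exact ⟨Subtype.ext h9, Subtype.ext h10⟩
  have hp₀F : p₀ ∈ F := hsp₀
  have hq₀I : q₀ ∈ I := hsq₀
  have hFd : Nat.card F ∣ 3 ^ 2 := by
    have := Subgroup.card_subgroup_dvd_card F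
    rwa [hV] at this
  have hId : Nat.card I ∣ 3 ^ 2 := by
    have := Subgroup.card_subgroup_dvd_card I
    rwa [hV] at this
  obtain ⟨a, ha, hFa⟩ := (Nat.dvd_prime_pow Nat.prime_three).1 hFd
  obtain ⟨b, hb, hIb⟩ := (Nat.dvd_prime_pow Nat.prime_three).1 hId
  have hF1 : Nat.card F ≠ 1 := by
    intro h
    have : F = ⊥ := Subgroup.eq_bot_of_card_eq F h
    rw [this] at hp₀F
    exact hp₀1 (Subgroup.mem_bot.1 hp₀F)
  have hI1 : Nat.card I ≠ 1 := by
    intro h
    have : I = ⊥ := Subgroup.eq_bot_of_card_eq I h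
    rw [this] at hq₀I
    exact hq₀1 (Subgroup.mem_bot.1 hq₀I)
  have ha0 : a ≠ 0 := by
    rintro rfl
    exact hF1 (by simpa using hFa)
  have hb0 : b ≠ 0 := by
    rintro rfl
    exact hI1 (by simpa using hIb)
  have h11 := exp_aux a b ha hb ha0 hb0 (by rw [← hFa, ← hIb]; exact hcard)
  have hF3 : Nat.card F = 3 := by rw [hFa, h11.1]; norm_num
  have hI3 : Nat.card I = 3 := by rw [hIb, h11.2]; norm_num
  have hcomm : ∀ c ∈ A, ∀ x, s (c x) = c (s x) := by
    intro c hc x
    have h1 := hs0c ⟨c, hc⟩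
    have h2 : c * s = s * c := congrArg Subtype.val h1
    have h3 := congrArg (fun w : MulAut V => w x) h2
    exact h3.symm
  have hFst : ∀ c ∈ A, ∀ x ∈ F, c x ∈ F := by
    intro c hc x hx
    show s (c x) = c x
    rw [hcomm c hc, (hFmem x).1 hx]
  have hIst : ∀ c ∈ A, ∀ x ∈ I, c x ∈ I := by
    intro c hc x hx
    show s (c x) = (c x)⁻¹
    rw [hcomm c hc, (hImem x).1 hx, map_inv]
  obtain ⟨c, hc, hcp⟩ : ∃ c ∈ A, c p₀ ≠ p₀ := by
    by_contra h
    push Not at h
    exact hp₀1 (hfix p₀ h)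
  have hcp' : c p₀ = p₀⁻¹ := by
    rcases three_cases hF3 hp₀F hp₀1 (hFst c hc p₀ hp₀F) with h | h | h
    · exact absurd ((map_eq_one_iff c c.injective).1 h) hp₀1
    · exact absurd h hcp
    · exact h
  have hcq : c q₀ = q₀ ∨ c q₀ = q₀⁻¹ := by
    rcases three_cases hI3 hq₀I hq₀1 (hIst c hc q₀ hq₀I) with h | h | h
    · exact absurd ((map_eq_one_iff c c.injective).1 h) hq₀1
    · exact Or.inl h
    · exact Or.inr h
  obtain ⟨d, hd, hdp, hdq⟩ : ∃ d ∈ A, d p₀ = p₀⁻¹ ∧ d q₀ = q₀⁻¹ := by
    rcases hcq with h | h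
    · refine ⟨c * s, mul_mem hc s0.2, ?_, ?_⟩
      · rw [MulAut.mul_apply, hsp₀, hcp']
      · rw [MulAut.mul_apply, hsq₀, map_inv, h]
    · exact ⟨c, hc, hcp', h⟩
  have hdF : ∀ y ∈ F, d y = y⁻¹ := by
    intro y hy
    rcases three_cases hF3 hp₀F hp₀1 hy with h | h | h
    · rw [h]; simp
    · rw [h, hdp]
    · rw [h, map_inv, hdp]
  have hdI : ∀ y ∈ I, d y = y⁻¹ := by
    intro y hy
    rcases three_cases hI3 hq₀I hq₀1 hy with h | h | h
    · rw [h]; simp
    · rw [h, hdq]
    · rw [h, map_inv, hdq]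
  refine ⟨d, hd, fun x => ?_⟩
  have hf : x * s x ∈ F := by
    show s (x * s x) = x * s x
    rw [map_mul, hs2, mul_comm]
  have hi : x * (s x)⁻¹ ∈ I := by
    show s (x * (s x)⁻¹) = (x * (s x)⁻¹)⁻¹
    rw [map_mul, map_inv, hs2, mul_inv, inv_inv, mul_comm]
  have h2 : (x * s x) * (x * (s x)⁻¹) = x ^ 2 := by
    rw [pow_two]
    calc (x * s x) * (x * (s x)⁻¹) = x * x * (s x * (s x)⁻¹) := by
          rw [mul_mul_mul_comm]
      _ = x * x := by simp
  have h3 : d (x ^ 2) = (x ^ 2)⁻¹ := by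
    rw [← h2, map_mul, hdF _ hf, hdI _ hi]
    exact (mul_inv _ _).symm
  have h4 : (d x * x) ^ 2 = 1 := by
    rw [mul_pow, ← map_pow, h3]; simp
  exact eq_inv_of_mul_eq_one_left (hodd _ h4)

section simple

variable [IsSimpleGroup G]

theorem card_sylow3 (hc : Nat.card G = 7920) (P : Sylow 3 G) : Nat.card (P : Subgroup G) = 9 := by
  have := sylow_card_of_card_eq (p := 3) (a := 2) (m := 880) (G := G) (by rw [hc]; norm_num)
    (by norm_num) P
  simpa using this

theorem card_sylow5_sub (hc : Nat.card G = 7920) (P : Sylow 5 G) : Nat.card (P : Subgroup G) = 5 := by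
  have := sylow_card_of_card_eq (p := 5) (a := 1) (m := 1584) (G := G) (by rw [hc]; norm_num)
    (by norm_num) P
  simpa using this

theorem sylow3_comm (hc : Nat.card G = 7920) (P : Sylow 3 G) :
    ∀ a ∈ (P : Subgroup G), ∀ b ∈ (P : Subgroup G), a * b = b * a := by
  intro a ha b hb
  have h := le_centralizer_of_sq (q := 3) (P : Subgroup G) (by rw [card_sylow3 hc]; norm_num) hb ha
  exact mem_centralizer_singleton_iff.1 h

/-- `g` normalizes `H` with order `q`: if no proper divisor is congruent to `|H|`, `H` commutes with `g`. -/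
theorem le_centralizer_of_modEq {H : Subgroup G} {g : G} {q : ℕ} [Fact q.Prime]
    (hN : g ∈ normalizer (H : Set G)) (ho : orderOf g = q)
    (hm : ∀ d, d ∣ Nat.card H → d ≡ Nat.card H [MOD q] → d = Nat.card H) {a : G} (ha : a ∈ H) :
    a * g = g * a := by
  have h1 := card_modEq_card_inf_centralizer H hN ho
  have h2 : Nat.card ↥(H ⊓ centralizer ({g} : Set G)) ∣ Nat.card H :=
    Subgroup.card_dvd_of_le inf_le_left
  have h3 := hm _ h2 h1.symm
  have h4 : H ⊓ centralizer ({g} : Set G) = H :=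
    Subgroup.eq_of_le_of_card_ge inf_le_left (le_of_eq h3.symm)
  have h5 : a ∈ H ⊓ centralizer ({g} : Set G) := by rw [h4]; exact ha
  have h6 := mem_centralizer_singleton_iff.1 h5.2
  exact h6

/-- The automizer of a Sylow 3-subgroup is a 2-group. -/
theorem automizer_isPGroup (hc : Nat.card G = 7920) (P : Sylow 3 G) :
    IsPGroup 2 (P : Subgroup G).normalizerMonoidHom.range ∧
      (Nat.card (P : Subgroup G).normalizerMonoidHom.range).Coprime 3 := by
  let ρ := (P : Subgroup G).normalizerMonoidHom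
  have hker : Nat.card ρ.range * Nat.card ρ.ker = Nat.card (normalizer ((P : Subgroup G) : Set G)) := by
    rw [← Subgroup.index_ker, mul_comm]
    exact Subgroup.card_mul_index _
  have hN := card_normalizer_mul_card_sylow P
  rw [hc] at hN
  have hNd : Nat.card (normalizer ((P : Subgroup G) : Set G)) ∣ 7920 := ⟨_, hN.symm⟩
  have hmemker : ∀ g : normalizer ((P : Subgroup G) : Set G),
      (∀ a ∈ (P : Subgroup G), a * g = g * a) → g ∈ ρ.ker := by
    intro g hg
    rw [MonoidHom.mem_ker]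
    apply MulEquiv.ext
    intro y
    apply Subtype.ext
    show (g : G) * y * (g : G)⁻¹ = y
    rw [← hg y y.2]; group
  have h9 : 9 ∣ Nat.card ρ.ker := by
    rw [← card_sylow3 hc P]
    let e : (P : Subgroup G) →* ρ.ker :=
      { toFun := fun y => ⟨⟨y, Subgroup.le_normalizer y.2⟩, hmemker _ (fun a ha => sylow3_comm hc P a ha y y.2)⟩
        map_one' := rfl
        map_mul' := fun _ _ => rfl }
    apply Subgroup.card_dvd_of_injective e
    intro a b h
    have := congrArg (fun w : ρ.ker => ((w : normalizer ((P : Subgroup G) : Set G)) : G)) h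
    exact Subtype.ext this
  have hq : ∀ q : ℕ, [Fact q.Prime] → q ≠ 2 → q ≠ 3 → ¬ q * q ∣ 7920 →
      (∀ d, d ∣ 9 → d ≡ 9 [MOD q] → d = 9) → ¬ q ∣ Nat.card ρ.range := by
    intro q _ h2 h3 hqq hmod hdvd
    have h1 : q ∣ Nat.card (normalizer ((P : Subgroup G) : Set G)) := by
      rw [← hker]; exact dvd_mul_of_dvd_left hdvd _
    obtain ⟨g, hg⟩ := exists_prime_orderOf_dvd_card' (G := normalizer ((P : Subgroup G) : Set G)) q h1
    have hg' : orderOf (g : G) = q := by rwa [Subgroup.orderOf_coe]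
    have hcomm : ∀ a ∈ (P : Subgroup G), a * g = g * a := by
      intro a ha
      exact le_centralizer_of_modEq g.2 hg' (by rw [card_sylow3 hc]; exact hmod) ha
    have hgker := hmemker g hcomm
    have h5 : q ∣ Nat.card ρ.ker := by
      have h6 : orderOf (⟨g, hgker⟩ : ρ.ker) = q := by
        rw [Subgroup.orderOf_mk, hg]
      rw [← h6]; exact orderOf_dvd_natCard _
    apply hqq
    apply dvd_trans _ hNd
    rw [← hker]
    exact mul_dvd_mul hdvd h5
  have hmod : ∀ q : ℕ, q = 5 ∨ q = 11 → ∀ d, d ∣ 9 → d ≡ 9 [MOD q] → d = 9 := by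
    intro q hq d hd hm
    have hd9 : d ≤ 9 := Nat.le_of_dvd (by norm_num) hd
    rcases hq with rfl | rfl <;> interval_cases d <;> first | rfl | (exfalso; revert hd hm; decide)
  have h5 := hq 5 (by norm_num) (by norm_num) (by norm_num) (hmod 5 (Or.inl rfl))
  have h11 := hq 11 (by norm_num) (by norm_num) (by norm_num) (hmod 11 (Or.inr rfl))
  have h880 : Nat.card ρ.range ∣ 880 := by
    have h1 : Nat.card ρ.range * 9 ∣ 7920 :=
      dvd_trans (by rw [← hker]; exact mul_dvd_mul_left _ h9) hNd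
    have h2 : (7920 : ℕ) = 880 * 9 := by norm_num
    rw [h2] at h1
    exact Nat.dvd_of_mul_dvd_mul_right (by norm_num) h1
  have h16 : Nat.card ρ.range ∣ 2 ^ 4 := by
    have hcop : Nat.Coprime (Nat.card ρ.range) 55 := by
      have h55 : (55 : ℕ) = 5 * 11 := by norm_num
      rw [h55]
      apply Nat.Coprime.mul_right
      · exact ((Nat.Prime.coprime_iff_not_dvd (by norm_num)).2 h5).symm
      · exact ((Nat.Prime.coprime_iff_not_dvd (by norm_num)).2 h11).symm
    have h880' : (880 : ℕ) = 2 ^ 4 * 55 := by norm_num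
    rw [h880'] at h880
    exact hcop.dvd_of_dvd_mul_right h880
  obtain ⟨k, hk, hk2⟩ := (Nat.dvd_prime_pow Nat.prime_two).1 h16
  refine ⟨IsPGroup.of_card hk2, ?_⟩
  rw [hk2]
  apply Nat.Coprime.pow_left
  norm_num

/-- Every Sylow 3-subgroup is inverted by an element of its normalizer. -/
theorem exists_inverter (hc : Nat.card G = 7920) (P : Sylow 3 G) :
    ∃ s ∈ normalizer ((P : Subgroup G) : Set G), ∀ x ∈ (P : Subgroup G), s * x * s⁻¹ = x⁻¹ := by
  obtain ⟨hp2, hcop⟩ := automizer_isPGroup hc P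
  have hab := sylow3_comm hc P
  letI inst : CommGroup (P : Subgroup G) :=
    { (inferInstance : Group (P : Subgroup G)) with
      mul_comm := fun a b => Subtype.ext (hab a a.2 b b.2) }
  obtain ⟨a, ⟨n, rfl⟩, ha⟩ := inv_mem_of_no_fixed (V := (P : Subgroup G)) (card_sylow3 hc P)
    (P : Subgroup G).normalizerMonoidHom.range hp2 (by
      intro x hx
      have h1 : (x : G) = 1 := by
        apply sylow_no_central (not_comm hc) P hab hcop x.2
        intro n hn
        have h2 := hx _ ⟨⟨n, hn⟩, rfl⟩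
        exact congrArg Subtype.val h2
      exact Subtype.ext h1)
  refine ⟨n, n.2, fun x hx => ?_⟩
  have h3 := ha ⟨x, hx⟩
  exact congrArg Subtype.val h3

/-- Every element of order 3 is conjugate to its inverse. -/
theorem exists_conj_inv (hc : Nat.card G = 7920) {x : G} (hx : orderOf x = 3) :
    ∃ g, g * x * g⁻¹ = x⁻¹ := by
  obtain ⟨P, hP⟩ := exists_sylow_mem_of_orderOf hx
  obtain ⟨s, -, hs⟩ := exists_inverter hc P
  exact ⟨s, hs x hP⟩

end simple

end Cfsg.Agent.Lib.Ord7920
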