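import Mathlib
import Cfsg.Agent.Lib.Ord7920B

/-!
# Simple groups of order 7920, part C: Sylow 5-subgroups
-/

set_option autoImplicit false
set_option linter.unusedSectionVars false
set_option linter.style.haveILetI false

namespace Cfsg.Agent.Lib.Ord7920

open Subgroup MulAction
open Cfsg.Agent.Lib.SmallGroups2 Cfsg.Agent.Lib.SmallGroups3 Cfsg.Agent.Lib.SmallGroups4
  Cfsg.Agent.Lib.SmallGroups5 Cfsg.Agent.Lib.TwoLocal Cfsg.Agent.Lib.TwoLocal2
  Cfsg.Agent.Lib.TwoLocal3 Cfsg.Agent.Lib.TransferEval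

variable {G : Type*} [Group G] [Finite G]

theorem centralizer_zpowers_eq (x : G) :
    centralizer ((zpowers x : Subgroup G) : Set G) = centralizer ({x} : Set G) := by
  rw [zpowers_eq_closure]; exact centralizer_closure _

theorem orderOf_of_isConj {a b : G} (h : IsConj a b) : orderOf a = orderOf b := by
  obtain ⟨c, rfl⟩ := isConj_iff.1 h
  have := MulEquiv.orderOf_eq (MulAut.conj c) a
  rw [← this]
  rfl

/-- A `p`-subgroup acting on a conjugacy class. -/
theorem class_modEq {p : ℕ} [Fact p.Prime] (x : G) (R : Subgroup G) (hR : IsPGroup p R) :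
    Nat.card {w : G // IsConj x w} ≡ Nat.card {w : G // IsConj x w ∧ w ∈ centralizer (R : Set G)} [MOD p] := by
  letI act : MulAction R {w : G // IsConj x w} :=
    { smul := fun r w => ⟨(r : G) * w * (r : G)⁻¹, w.2.trans (isConj_iff.2 ⟨r, rfl⟩)⟩
      one_smul := fun w => Subtype.ext (by show (1 : G) * w * (1 : G)⁻¹ = w; simp)
      mul_smul := fun a b w => Subtype.ext (by
        show ((a : G) * b) * w * ((a : G) * b)⁻¹ = a * (b * w * (b : G)⁻¹) * (a : G)⁻¹
        group) }
  have h1 := hR.card_modEq_card_fixedPoints {w : G // IsConj x w}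
  have h2 : Nat.card (fixedPoints R {w : G // IsConj x w}) =
      Nat.card {w : G // IsConj x w ∧ w ∈ centralizer (R : Set G)} := by
    apply Nat.card_congr
    refine ⟨fun w => ⟨w.1.1, w.1.2, ?_⟩, fun w => ⟨⟨w.1, w.2.1⟩, ?_⟩, ?_, ?_⟩
    · rw [mem_centralizer_iff]
      intro r hr
      have h3 := w.2 ⟨r, hr⟩
      have h4 : r * w.1.1 * r⁻¹ = w.1.1 := congrArg Subtype.val h3
      calc r * w.1.1 = (r * w.1.1 * r⁻¹) * r := by group
        _ = w.1.1 * r := by rw [h4]
    · rintro ⟨r, hr⟩
      apply Subtype.ext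
      show r * w.1 * r⁻¹ = w.1
      have h5 := (mem_centralizer_iff.1 w.2.2) r hr
      rw [h5]; group
    · intro w; rfl
    · intro w; rfl
  rw [h2] at h1
  exact h1

section simple

variable [IsSimpleGroup G]

theorem card_normalizer_zpowers (hc : Nat.card G = 7920) {x : G} (hx : orderOf x = 3) :
    Nat.card (normalizer ((zpowers x : Subgroup G) : Set G)) = 2 * Nat.card (centralizer ({x} : Set G)) := by
  have h1 := card_mul_relIndex_of_le (centralizer_le_normalizer' (zpowers x))
  rw [centralizer_zpowers_eq] at h1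
  have h2 := relIndex_centralizer_normalizer_dvd (zpowers x)
  rw [centralizer_zpowers_eq, IsCyclic.card_mulAut, Nat.card_zpowers, hx] at h2
  have h3 : Nat.totient 3 = 2 := by decide
  rw [h3] at h2
  obtain ⟨g, hg⟩ := exists_conj_inv hc hx
  have hgN : g ∈ normalizer ((zpowers x : Subgroup G) : Set G) := by
    apply mem_normalizer_of_conj_le
    intro y hy
    obtain ⟨k, rfl⟩ := Subgroup.mem_zpowers_iff.1 hy
    have h4 : g * x ^ k * g⁻¹ = (g * x * g⁻¹) ^ k := by
      rw [conj_zpow]
    rw [h4, hg]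
    exact zpow_mem (inv_mem (mem_zpowers x)) k
  have hr1 : (centralizer ({x} : Set G)).relIndex (normalizer ((zpowers x : Subgroup G) : Set G)) ≠ 1 := by
    intro h
    have h5 := Subgroup.relIndex_eq_one.1 h hgN
    have h6 := mem_centralizer_singleton_iff.1 h5
    have h7 : x = x⁻¹ := by
      rw [← hg, h6]; group
    have h8 : x ^ 2 = 1 := by
      rw [pow_two]
      nth_rw 2 [h7]
      simp
    have h9 := orderOf_dvd_of_pow_eq_one h8
    rw [hx] at h9
    norm_num at h9
  have hr2 : (centralizer ({x} : Set G)).relIndex (normalizer ((zpowers x : Subgroup G) : Set G)) = 2 := by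
    rcases (Nat.dvd_prime Nat.prime_two).1 h2 with h | h
    · exact absurd h hr1
    · exact h
  rw [hr2] at h1
  rw [← h1, mul_comm]

/-- Data for an element of order 3. -/
theorem nine_dvd_centralizer (hc : Nat.card G = 7920) {x : G} (hx : orderOf x = 3) :
    9 ∣ Nat.card (centralizer ({x} : Set G)) := by
  obtain ⟨P, hP⟩ := exists_sylow_mem_of_orderOf hx
  rw [← card_sylow3 hc P]
  apply Subgroup.card_dvd_of_le
  intro y hy
  rw [mem_centralizer_singleton_iff]
  exact sylow3_comm hc P y hy x hP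

theorem two_mul_centralizer_dvd (hc : Nat.card G = 7920) {x : G} (hx : orderOf x = 3) :
    2 * Nat.card (centralizer ({x} : Set G)) ∣ 7920 := by
  rw [← card_normalizer_zpowers hc hx, ← hc]
  exact Subgroup.card_subgroup_dvd_card _

theorem card_mul_le_of_disjoint' {K : Type*} [Group K] [Finite K] (A B W : Subgroup K) (hA : A ≤ W)
    (hB : B ≤ W) (h : A ⊓ B = ⊥) : Nat.card A * Nat.card B ≤ Nat.card W := by
  rw [← Nat.card_prod]
  apply Nat.card_le_card_of_injective (fun w : A × B => (⟨(w.1 : K) * (w.2 : K), mul_mem (hA w.1.2) (hB w.2.2)⟩ : W))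
  rintro ⟨a, b⟩ ⟨a', b'⟩ he
  have h1 : (a : K) * b = a' * b' := congrArg Subtype.val he
  have h2 : (a' : K)⁻¹ * a = b' * (b : K)⁻¹ := by
    calc (a' : K)⁻¹ * a = (a' : K)⁻¹ * (a * b) * (b : K)⁻¹ := by group
      _ = (a' : K)⁻¹ * (a' * b') * (b : K)⁻¹ := by rw [h1]
      _ = _ := by group
  have h3 : (a' : K)⁻¹ * a ∈ A ⊓ B :=
    Subgroup.mem_inf.2 ⟨mul_mem (inv_mem a'.2) a.2, by rw [h2]; exact mul_mem b'.2 (inv_mem b.2)⟩
  rw [h, Subgroup.mem_bot] at h3
  have h4 : (a : K) = a' := (inv_mul_eq_one.1 h3).symm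
  have h5 : (b : K) = b' := by
    rw [h4] at h1
    exact mul_left_cancel h1
  rw [Prod.mk.injEq]
  exact ⟨Subtype.ext h4, Subtype.ext h5⟩

/-- No subgroup of order 90 contains two Sylow 5-subgroups and a Sylow 3-subgroup `P` not centralized by
the first of them. -/
theorem kill90 (hc : Nat.card G = 7920) (M : Subgroup G) (hM : Nat.card M = 90) (P : Sylow 3 G)
    (hP : (P : Subgroup G) ≤ M) (R₁ R₂ : Sylow 5 G) (hne : R₁ ≠ R₂) (h₁ : (R₁ : Subgroup G) ≤ M)
    (h₂ : (R₂ : Subgroup G) ≤ M)
    (hnot : ¬ (P : Subgroup G) ≤ centralizer ((R₁ : Subgroup G) : Set G)) : False := by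
  let P' : Sylow 3 M := P.subtype hP
  have hP'card : Nat.card (P' : Subgroup M) = 9 := by
    have := sylow_card_of_card_eq (p := 3) (a := 2) (m := 10) (G := M) (by rw [hM]; norm_num)
      (by norm_num) P'
    simpa using this
  have mem := card_sylow_mem_filter (p := 3) (a := 2) (m := 10) (G := M) (by rw [hM]; norm_num)
    (by norm_num) (by norm_num)
  have hf : (Nat.divisors 10).filter (fun n => n % 3 = 1 % 3) = {1, 10} := by decide +kernel
  rw [hf] at mem
  simp only [Finset.mem_insert, Finset.mem_singleton] at mem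
  rcases mem with h | h
  · apply hnot
    haveI : Subsingleton (Sylow 3 M) := (Nat.card_eq_one_iff_unique.1 h).1
    have hnorm : (P' : Subgroup M).Normal := Sylow.normal_of_subsingleton P'
    intro a ha
    rw [mem_centralizer_iff]
    intro r hr
    by_cases hr1 : r = 1
    · rw [hr1]; simp
    have hro : orderOf r = 5 :=
      orderOf_eq_of_mem_of_ne_one (by norm_num) (card_sylow5_sub hc R₁) hr hr1
    have hrN : r ∈ normalizer ((P : Subgroup G) : Set G) := by
      apply mem_normalizer_of_conj_le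
      intro y hy
      have hy' : (⟨y, hP hy⟩ : M) ∈ (P' : Subgroup M) := by
        simp only [P', Sylow.coe_subtype, mem_subgroupOf]
        exact hy
      have h3 := hnorm.conj_mem _ hy' ⟨r, h₁ hr⟩
      simp only [P', Sylow.coe_subtype, mem_subgroupOf] at h3
      exact h3
    have hmod : ∀ d, d ∣ Nat.card (P : Subgroup G) → d ≡ Nat.card (P : Subgroup G) [MOD 5] →
        d = Nat.card (P : Subgroup G) := by
      rw [card_sylow3 hc]
      intro d hd hm
      have hd9 : d ≤ 9 := Nat.le_of_dvd (by norm_num) hd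
      interval_cases d <;> first | rfl | (exfalso; revert hd hm; decide)
    exact (le_centralizer_of_modEq hrN hro hmod ha).symm
  · have hN := card_normalizer_mul_card_sylow P'
    rw [h, hM] at hN
    have hN9 : Nat.card (normalizer ((P' : Subgroup M) : Set M)) = 9 := by omega
    have hPN : (P' : Subgroup M) = normalizer ((P' : Subgroup M) : Set M) := by
      apply Subgroup.eq_of_le_of_card_ge (Subgroup.le_normalizer)
      rw [hN9, hP'card]
    have hle : normalizer ((P' : Subgroup M) : Set M) ≤ centralizer ((P' : Subgroup M) : Set M) := by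
      rw [← hPN]
      intro a ha
      rw [mem_centralizer_iff]
      intro b hb
      apply Subtype.ext
      have ha' : (a : G) ∈ (P : Subgroup G) := ha
      have hb' : (b : G) ∈ (P : Subgroup G) := hb
      exact sylow3_comm hc P _ hb' _ ha'
    have hcompl := MonoidHom.ker_transferSylow_isComplement' P' hle
    set W := (MonoidHom.transferSylow P' hle).ker with hW
    have hWcard : Nat.card W * 9 = 90 := by
      rw [← hP'card, ← hM]
      exact hcompl.card_mul_card
    have hWcard' : Nat.card W = 10 := by omega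
    have hWidx : W.index = 9 := by
      have := Subgroup.card_mul_index W
      rw [hWcard', hM] at this
      omega
    haveI hWn : W.Normal := MonoidHom.normal_ker _
    have hsub : ∀ R : Sylow 5 G, ∀ hR : (R : Subgroup G) ≤ M,
        ((R : Subgroup G).subgroupOf M) ≤ W := by
      intro R hR r hr
      have hr' : (r : G) ∈ (R : Subgroup G) := hr
      have h5 : r ^ 5 = 1 := by
        have h6 : orderOf (r : G) ∣ 5 := by
          have := Subgroup.orderOf_dvd_natCard (R : Subgroup G) hr'
          rwa [card_sylow5_sub hc R] at this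
        apply Subtype.ext
        simp only [Subgroup.coe_pow, OneMemClass.coe_one]
        exact orderOf_dvd_iff_pow_eq_one.1 h6
      have h7 : r ^ 9 ∈ W := by
        have := Subgroup.pow_index_mem W r
        rwa [hWidx] at this
      have h8 : r = (r ^ 9) ^ 4 := by
        rw [← pow_mul]
        have : (36 : ℕ) = 5 * 7 + 1 := by norm_num
        rw [show 9 * 4 = 36 from rfl, this, pow_add, pow_mul, h5]; simp
      rw [h8]
      exact pow_mem h7 4
    have hdisj : ((R₁ : Subgroup G).subgroupOf M) ⊓ ((R₂ : Subgroup G).subgroupOf M) = ⊥ := by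
      rw [eq_bot_iff]
      rintro u ⟨hu1, hu2⟩
      rw [Subgroup.mem_bot]
      by_contra hu
      have hu' : (u : G) ≠ 1 := fun h => hu (Subtype.ext h)
      exact hne (sylow_eq_of_mem_of_ne_one (card_sylow5_sub hc R₁) (card_sylow5_sub hc R₂) hu1 hu2 hu')
    have hfinal := card_mul_le_of_disjoint' _ _ W (hsub R₁ h₁) (hsub R₂ h₂) hdisj
    rw [Nat.card_congr (Subgroup.subgroupOfEquivOfLe h₁).toEquiv,
      Nat.card_congr (Subgroup.subgroupOfEquivOfLe h₂).toEquiv, card_sylow5_sub hc, card_sylow5_sub hc,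
      hWcard'] at hfinal
    omega

theorem card_conj_in_subgroup (hc : Nat.card G = 7920) {x : G} (hx : orderOf x = 3) (C : Subgroup G)
    (hxC : x ∈ C) (h3 : ∀ Q : Sylow 3 C, Nat.card (Q : Subgroup C) = 3) :
    Nat.card {w : G // IsConj x w ∧ w ∈ C} = Nat.card (Sylow 3 C) * 2 := by
  have h1 := card_orderOf_eq_prime (G := C) (p := 3) h3
  rw [show 3 - 1 = 2 from rfl] at h1
  rw [← h1]
  apply Nat.card_congr
  refine ⟨fun w => ⟨⟨w.1, w.2.2⟩, ?_⟩, fun g => ⟨g.1.1, ?_, g.1.2⟩, ?_, ?_⟩
  · rw [Subgroup.orderOf_mk, ← orderOf_of_isConj w.2.1, hx]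
  · have hg : orderOf g.1 = 3 := g.2
    have hg1 : g.1 ≠ 1 := by
      intro h; rw [h] at hg; simp at hg
    let x' : C := ⟨x, hxC⟩
    have hx' : orderOf x' = 3 := by rwa [Subgroup.orderOf_mk]
    obtain ⟨Q, hQ⟩ := exists_sylow_mem_of_orderOf hg
    obtain ⟨Q', hQ'⟩ := exists_sylow_mem_of_orderOf hx'
    obtain ⟨c, hcQ⟩ := MulAction.exists_smul_eq C Q' Q
    have h4 : c * x' * c⁻¹ ∈ (Q : Subgroup C) := by
      rw [← hcQ, mem_smul_sylow_iff]
      have : c⁻¹ * (c * x' * c⁻¹) * c = x' := by group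
      rw [this]; exact hQ'
    have hconj : IsConj x ((c * x' * c⁻¹ : C) : G) := isConj_iff.2 ⟨c, rfl⟩
    have hgo : orderOf (g.1 : G) = 3 := by rwa [Subgroup.orderOf_coe]
    rcases three_cases (h3 Q) hQ hg1 h4 with h | h | h
    · exfalso
      have h5 : x' = 1 := by
        have : c * x' * c⁻¹ * c = c := by rw [h]; simp
        have h6 : c * x' = c := by simpa using this
        simpa using h6
      rw [h5] at hx'
      simp at hx'
    · rw [h] at hconj; exact hconj
    · rw [h] at hconj
      have h7 : IsConj ((g.1⁻¹ : C) : G) (g.1 : G) := by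
        obtain ⟨k, hk⟩ := exists_conj_inv hc hgo
        refine isConj_iff.2 ⟨k⁻¹, ?_⟩
        have : ((g.1⁻¹ : C) : G) = (g.1 : G)⁻¹ := rfl
        rw [this, ← hk]
        group
      exact hconj.trans h7
  · intro w; rfl
  · intro g; rfl

theorem hmod_aux : ∀ d, d ∣ 5 → d ≡ 5 [MOD 3] → d = 5 := by
  intro d hd hm
  have hd9 : d ≤ 5 := Nat.le_of_dvd (by norm_num) hd
  interval_cases d <;> first | rfl | (exfalso; revert hd hm; decide)

theorem not_card_sylow5_66 (hc : Nat.card G = 7920) (h66 : Nat.card (Sylow 5 G) = 66) : False := by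
  have hnc := not_comm hc
  obtain ⟨R⟩ := (inferInstance : Nonempty (Sylow 5 G))
  have hR := card_sylow5_sub hc R
  have hN := card_normalizer_mul_card_sylow R
  rw [h66, hc] at hN
  have hN' : Nat.card (normalizer ((R : Subgroup G) : Set G)) = 120 := by omega
  obtain ⟨x, hxC, hx⟩ := exists_commuting (p := 5) (q := 3) (k := 24) R hR (by rw [hN']) (by
    intro e he he2
    have he4 : e ≤ 4 := Nat.le_of_dvd (by norm_num) he
    interval_cases e <;> revert he he2 <;> decide)
  obtain ⟨hf1, hf2, -, hf4⟩ := fixedBy_facts hnc (p := 5) (q := 3) (by rw [hc]; norm_num) R hxC hx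
  rw [h66] at hf2 hf4
  have hxR : x • R = R :=
    Sylow.smul_eq_iff_mem_normalizer.2 (centralizer_le_normalizer' _ hxC)
  have hfne : 1 < Nat.card (fixedBy (Sylow 5 G) x) := by omega
  rw [Finite.one_lt_card_iff_nontrivial] at hfne
  obtain ⟨⟨R', hR'⟩, hne'⟩ := exists_ne (⟨R, hxR⟩ : fixedBy (Sylow 5 G) x)
  have hRR' : R' ≠ R := fun h => hne' (Subtype.ext h)
  have hxN' : x ∈ normalizer ((R' : Subgroup G) : Set G) := Sylow.smul_eq_iff_mem_normalizer.1 hR'
  set Cx := centralizer ({x} : Set G) with hCx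
  have hR'Cx : (R' : Subgroup G) ≤ Cx := by
    intro a ha
    rw [hCx, mem_centralizer_singleton_iff]
    apply le_centralizer_of_modEq hxN' hx _ ha
    rw [card_sylow5_sub hc]
    exact hmod_aux
  have hRCx : (R : Subgroup G) ≤ Cx := by
    intro a ha
    rw [hCx, mem_centralizer_singleton_iff]
    exact ((mem_centralizer_iff.1 hxC) a ha)
  have h9 : 9 ∣ Nat.card Cx := nine_dvd_centralizer hc hx
  have h5 : 5 ∣ Nat.card Cx := by
    rw [← hR]; exact Subgroup.card_dvd_of_le hRCx
  have hx1 : x ≠ 1 := by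
    rintro rfl; simp at hx
  have h11 : ¬ 11 ∣ Nat.card Cx := eleven_not_dvd_centralizer hc hx1 (by rw [hx]; norm_num)
  have h2c : 2 * Nat.card Cx ∣ 7920 := two_mul_centralizer_dvd hc hx
  obtain ⟨j, hj⟩ : 45 ∣ Nat.card Cx :=
    (Nat.Coprime.mul_dvd_of_dvd_of_dvd (by norm_num : Nat.Coprime 9 5) h9 h5)
  have hj88 : j ∣ 88 := by
    rw [hj] at h2c
    have : 90 * j ∣ 90 * 88 := by
      have h90 : 2 * (45 * j) = 90 * j := by ring
      rw [h90] at h2c
      simpa using h2c
    exact Nat.dvd_of_mul_dvd_mul_left (by norm_num) this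
  have hjm : j ∈ Nat.divisors 88 := by simp [hj88]
  have hdiv88 : Nat.divisors 88 = {1, 2, 4, 8, 11, 22, 44, 88} := by decide +kernel
  rw [hdiv88] at hjm
  have hXi := card_isConj_mul_card_centralizer x
  rw [hc, ← hCx] at hXi
  set Cr := centralizer ((R : Subgroup G) : Set G) with hCr
  have hxCr : x ∈ Cr := hxC
  have hRCr : (R : Subgroup G) ≤ Cr := le_centralizer_of_card_prime (by norm_num) hR
  have hCrdvd : Nat.card Cr ∣ 120 := by
    rw [← hN']
    exact Subgroup.card_dvd_of_le (centralizer_le_normalizer' _)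
  have h3Cr : 3 ∣ Nat.card Cr := by
    have h1 := orderOf_dvd_natCard (⟨x, hxCr⟩ : Cr)
    rw [Subgroup.orderOf_mk, hx] at h1
    exact h1
  have h5Cr : 5 ∣ Nat.card Cr := by
    rw [← hR]; exact Subgroup.card_dvd_of_le hRCr
  obtain ⟨m, hm⟩ : 15 ∣ Nat.card Cr :=
    Nat.Coprime.mul_dvd_of_dvd_of_dvd (by norm_num : Nat.Coprime 3 5) h3Cr h5Cr
  have hm8 : m ∣ 8 := by
    rw [hm] at hCrdvd
    have : 15 * m ∣ 15 * 8 := by simpa using hCrdvd
    exact Nat.dvd_of_mul_dvd_mul_left (by norm_num) this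
  have hm3 : ¬ 3 ∣ 5 * m := by
    have : m ≤ 8 := Nat.le_of_dvd (by norm_num) hm8
    interval_cases m <;> revert hm8 <;> decide
  have hCr3 : Nat.card Cr = 3 ^ 1 * (5 * m) := by rw [hm]; ring
  have hsyl3 : ∀ Q : Sylow 3 Cr, Nat.card (Q : Subgroup Cr) = 3 := by
    intro Q
    have := sylow_card_of_card_eq (p := 3) (a := 1) (m := 5 * m) (G := Cr) hCr3 hm3 Q
    simpa using this
  have hW := card_conj_in_subgroup hc hx Cr hxCr hsyl3
  have hc3mod : Nat.card (Sylow 3 Cr) % 3 = 1 % 3 := card_sylow_mod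
  obtain ⟨Q⟩ := (inferInstance : Nonempty (Sylow 3 Cr))
  have hNQ := card_normalizer_mul_card_sylow Q
  have hN15 : 15 ∣ Nat.card (normalizer ((Q : Subgroup Cr) : Set Cr)) := by
    apply Nat.Coprime.mul_dvd_of_dvd_of_dvd (by norm_num : Nat.Coprime 3 5)
    · have h0 := Subgroup.card_dvd_of_le
        (Subgroup.le_normalizer : (Q : Subgroup Cr) ≤ normalizer ((Q : Subgroup Cr) : Set Cr))
      rw [hsyl3 Q] at h0
      exact h0
    · have hle : (R : Subgroup G).subgroupOf Cr ≤ normalizer ((Q : Subgroup Cr) : Set Cr) := by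
        intro r hr
        apply mem_normalizer_of_conj_le
        intro y hy
        have hcomm : r * y = y * r := by
          apply Subtype.ext
          have h1 := (mem_centralizer_iff.1 y.2) r hr
          exact h1
        rw [hcomm]
        simpa using hy
      have h1 := Subgroup.card_dvd_of_le hle
      rw [Nat.card_congr (Subgroup.subgroupOfEquivOfLe hRCr).toEquiv, hR] at h1
      exact h1
  have hc3dvd : Nat.card (Sylow 3 Cr) ∣ 8 := by
    obtain ⟨k, hk⟩ := hN15
    rw [hk, hm] at hNQ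
    have h1 : 15 * (k * Nat.card (Sylow 3 Cr)) = 15 * m := by rw [← hNQ]; ring
    have h2 : k * Nat.card (Sylow 3 Cr) = m := Nat.eq_of_mul_eq_mul_left (by norm_num) h1
    exact dvd_trans ⟨k, by rw [← h2]; ring⟩ hm8
  have hc3 : Nat.card (Sylow 3 Cr) = 1 ∨ Nat.card (Sylow 3 Cr) = 4 := by
    have h8 : Nat.card (Sylow 3 Cr) ≤ 8 := Nat.le_of_dvd (by norm_num) hc3dvd
    have h0 : 0 < Nat.card (Sylow 3 Cr) := Nat.card_pos
    revert hc3dvd hc3mod
    generalize Nat.card (Sylow 3 Cr) = w at h8 h0 ⊢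
    interval_cases w <;> simp (config := { decide := true })
  have hcl := class_modEq (p := 5) x (R : Subgroup G) R.isPGroup'
  rw [hW] at hcl
  have hcl' : Nat.card {w : G // IsConj x w} % 5 = (Nat.card (Sylow 3 Cr) * 2) % 5 := hcl
  simp only [Finset.mem_insert, Finset.mem_singleton] at hjm
  rw [hj] at hXi
  rcases hjm with rfl | rfl | rfl | rfl | rfl | rfl | rfl | rfl
  · rcases hc3 with h | h <;> rw [h] at hcl' <;> omega
  · -- `j = 2`
    have hXi' : Nat.card {w : G // IsConj x w} = 88 := by omega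
    have hc4 : Nat.card (Sylow 3 Cr) = 4 := by
      rcases hc3 with h | h
      · rw [h, hXi'] at hcl'; omega
      · exact h
    obtain ⟨P, hP⟩ := exists_sylow_mem_of_orderOf hx
    have hPCx : (P : Subgroup G) ≤ Cx := by
      intro y hy
      rw [hCx, mem_centralizer_singleton_iff]
      exact sylow3_comm hc P y hy x hP
    refine kill90 hc Cx (by rw [hj]) P hPCx R R' (Ne.symm hRR') hRCx hR'Cx ?_
    intro hle
    have h1 := Subgroup.card_dvd_of_le hle
    rw [card_sylow3 hc] at h1
    have h2 := dvd_trans h1 hCrdvd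
    norm_num at h2
  · rcases hc3 with h | h <;> rw [h] at hcl' <;> omega
  · -- `j = 8`
    have hXi' : Nat.card {w : G // IsConj x w} = 22 := by omega
    have hc1 : Nat.card (Sylow 3 Cr) = 1 := by
      rcases hc3 with h | h
      · exact h
      · rw [h, hXi'] at hcl'; omega
    haveI : Subsingleton (Sylow 3 Cr) := (Nat.card_eq_one_iff_unique.1 hc1).1
    set H := normalizer ((zpowers x : Subgroup G) : Set G) with hH
    have hHcard : Nat.card H = 720 := by
      rw [hH, card_normalizer_zpowers hc hx, ← hCx, hj]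
    have hHidx : H.index = 11 := by
      have := Subgroup.card_mul_index H
      rw [hHcard, hc] at this
      omega
    have hHne : H ≠ ⊤ := by
      intro h
      rw [h, Subgroup.index_top] at hHidx
      omega
    have hNH : normalizer ((R : Subgroup G) : Set G) ≤ H := by
      intro g hg
      have hyCr : g * x * g⁻¹ ∈ Cr := by
        rw [hCr, mem_centralizer_iff]
        intro r hr
        have h1 : g⁻¹ * r * g ∈ (R : Subgroup G) := by
          have := (mem_normalizer_iff.1 hg (g⁻¹ * r * g)).1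
          have h2 : g * (g⁻¹ * r * g) * g⁻¹ = r := by group
          have h3 := (mem_normalizer_iff.1 hg (g⁻¹ * r * g)).2
          rw [h2] at h3
          exact h3 hr
        have h4 := (mem_centralizer_iff.1 hxC) _ h1
        calc r * (g * x * g⁻¹) = g * ((g⁻¹ * r * g) * x) * g⁻¹ := by group
          _ = g * (x * (g⁻¹ * r * g)) * g⁻¹ := by rw [h4]
          _ = _ := by group
      have hyo : orderOf (⟨g * x * g⁻¹, hyCr⟩ : Cr) = 3 := by
        rw [Subgroup.orderOf_mk, ← orderOf_of_isConj (isConj_iff.2 ⟨g, rfl⟩), hx]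
      have hxo : orderOf (⟨x, hxCr⟩ : Cr) = 3 := by rwa [Subgroup.orderOf_mk]
      obtain ⟨Q1, hQ1⟩ := exists_sylow_mem_of_orderOf hyo
      obtain ⟨Q2, hQ2⟩ := exists_sylow_mem_of_orderOf hxo
      have hQQ : Q1 = Q2 := Subsingleton.elim _ _
      rw [hQQ] at hQ1
      have hxne : (⟨x, hxCr⟩ : Cr) ≠ 1 := by
        intro h
        rw [h] at hxo
        simp at hxo
      have hz := zpowers_eq_of_mem_of_ne_one (by norm_num) (hsyl3 Q2) hQ2 hxne
      rw [← hz] at hQ1
      obtain ⟨k, hk⟩ := Subgroup.mem_zpowers_iff.1 hQ1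
      have hk' : x ^ k = g * x * g⁻¹ := by
        have := congrArg Subtype.val hk
        simpa using this
      rw [hH]
      apply mem_normalizer_of_conj_le
      intro y hy
      obtain ⟨l, rfl⟩ := Subgroup.mem_zpowers_iff.1 hy
      rw [← conj_zpow, ← hk', ← zpow_mul]
      exact zpow_mem (mem_zpowers x) _
    obtain ⟨f, hf0, hf1', hf2', -⟩ := index_fix_test hnc (p := 5) (q := 3)
      (by rw [hc]; norm_num) R hR H hHne hNH hxC hx
    rw [hHidx] at hf0 hf2'
    omega
  · exfalso; apply h11; rw [hj]; norm_num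
  · exfalso; apply h11; rw [hj]; norm_num
  · exfalso; apply h11; rw [hj]; norm_num
  · exfalso; apply h11; rw [hj]; norm_num

end simple

end Cfsg.Agent.Lib.Ord7920
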