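import Mathlib
import Cfsg.Agent.Lib.Ord7920C

/-!
# Simple groups of order 7920, part D: Sylow 5-subgroups (continued), the class of `z`,
normalizers of Sylow 3-subgroups
-/

set_option autoImplicit false
set_option linter.unusedSectionVars false
set_option linter.style.haveILetI false

namespace Cfsg.Agent.Lib.Ord7920

open Subgroup MulAction
open Cfsg.Agent.Lib.SmallGroups2 Cfsg.Agent.Lib.SmallGroups3 Cfsg.Agent.Lib.SmallGroups4
  Cfsg.Agent.Lib.SmallGroups5 Cfsg.Agent.Lib.TwoLocal Cfsg.Agent.Lib.TwoLocal2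
  Cfsg.Agent.Lib.TwoLocal3 Cfsg.Agent.Lib.TransferEval

variable {G : Type*} [Group G] [Finite G]

/-- Conjugation by a `p`-subgroup normalizing `H` acts on the intersection of a class with `H`. -/
theorem class_inter_modEq {p : ℕ} [Fact p.Prime] (x : G) (R H : Subgroup G) (hR : IsPGroup p R)
    (hRH : ∀ r ∈ R, ∀ h ∈ H, r * h * r⁻¹ ∈ H) :
    Nat.card {w : G // IsConj x w ∧ w ∈ H} ≡
      Nat.card {w : G // (IsConj x w ∧ w ∈ H) ∧ w ∈ centralizer (R : Set G)} [MOD p] := by
  letI act : MulAction R {w : G // IsConj x w ∧ w ∈ H} :=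
    { smul := fun r w => ⟨(r : G) * w * (r : G)⁻¹, w.2.1.trans (isConj_iff.2 ⟨r, rfl⟩), hRH r r.2 w w.2.2⟩
      one_smul := fun w => Subtype.ext (by show (1 : G) * w * (1 : G)⁻¹ = w; simp)
      mul_smul := fun a b w => Subtype.ext (by
        show ((a : G) * b) * w * ((a : G) * b)⁻¹ = a * (b * w * (b : G)⁻¹) * (a : G)⁻¹
        group) }
  have h1 := hR.card_modEq_card_fixedPoints {w : G // IsConj x w ∧ w ∈ H}
  have h2 : Nat.card (fixedPoints R {w : G // IsConj x w ∧ w ∈ H}) =
      Nat.card {w : G // (IsConj x w ∧ w ∈ H) ∧ w ∈ centralizer (R : Set G)} := by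
    apply Nat.card_congr
    refine ⟨fun w => ⟨w.1.1, w.1.2, ?_⟩, fun w => ⟨⟨w.1, w.2.1⟩, ?_⟩, ?_, ?_⟩
    · rw [mem_centralizer_iff]
      intro r hr
      have h3 := w.2 ⟨r, hr⟩
      have h4 : r * w.1.1 * r⁻¹ = w.1.1 := congrArg Subtype.val h3
      calc r * w.1.1 = (r * w.1.1 * r⁻¹) * r := by group
        _ = w.1.1 * r := by rw [h4]
    · rintro ⟨r, hr⟩
      apply Subtype.ext
      show r * w.1 * r⁻¹ = w.1
      have h5 := (mem_centralizer_iff.1 w.2.2) r hr
      rw [h5]; group
    · intro w; rfl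
    · intro w; rfl
  rw [h2] at h1
  exact h1

/-- The "lines" bound: elements of order 5 inverted by conjugates of an involution. -/
theorem lines_bound (hR5 : ∀ R : Sylow 5 G, Nat.card (R : Subgroup G) = 5) {t : G} (ht : t ^ 2 = 1)
    (R : Sylow 5 G) {r₀ : G} (hr₀ : r₀ ∈ (R : Subgroup G)) (hr₀1 : r₀ ≠ 1) :
    Nat.card {r : G // orderOf r = 5} * Nat.card {w : G // IsConj t w ∧ w * r₀ * w⁻¹ = r₀⁻¹} +
        Nat.card {w : G // IsConj t w} ≤
      Nat.card {w : G // IsConj t w} * Nat.card {w : G // IsConj t w} := by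
  classical
  have hemb : ∀ r : {r : G // orderOf r = 5}, ∃ f : {w : G // IsConj t w ∧ w * r₀ * w⁻¹ = r₀⁻¹} →
      {w : G // IsConj t w ∧ w * r.1 * w⁻¹ = r.1⁻¹}, Function.Injective f := by
    rintro ⟨r, hr⟩
    obtain ⟨Q, hQ⟩ := exists_sylow_mem_of_orderOf hr
    obtain ⟨g, hg⟩ := MulAction.exists_smul_eq G R Q
    have hr1 : g⁻¹ * r * g ∈ (R : Subgroup G) := by
      rw [← hg, mem_smul_sylow_iff] at hQ
      exact hQ
    have hz : zpowers r₀ = (R : Subgroup G) :=
      zpowers_eq_of_mem_of_ne_one (by norm_num) (hR5 R) hr₀ hr₀1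
    rw [← hz] at hr1
    obtain ⟨k, hk⟩ := Subgroup.mem_zpowers_iff.1 hr1
    have hr2 : r = g * r₀ ^ k * g⁻¹ := by
      rw [hk]; group
    refine ⟨fun w => ⟨g * w.1 * g⁻¹, w.2.1.trans (isConj_iff.2 ⟨g, rfl⟩), ?_⟩, ?_⟩
    · have h1 := w.2.2
      have h2 : w.1 * r₀ ^ k * w.1⁻¹ = (r₀ ^ k)⁻¹ := by
        rw [← conj_zpow, h1, inv_zpow]
      show g * w.1 * g⁻¹ * r * (g * w.1 * g⁻¹)⁻¹ = r⁻¹
      rw [hr2]
      calc g * w.1 * g⁻¹ * (g * r₀ ^ k * g⁻¹) * (g * w.1 * g⁻¹)⁻¹
          = g * (w.1 * r₀ ^ k * w.1⁻¹) * g⁻¹ := by group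
        _ = g * (r₀ ^ k)⁻¹ * g⁻¹ := by rw [h2]
        _ = _ := by group
    · intro a b hab
      have h1 : g * a.1 * g⁻¹ = g * b.1 * g⁻¹ := congrArg Subtype.val hab
      apply Subtype.ext
      simpa using h1
  choose f hf using hemb
  let T := {w : G // IsConj t w}
  let Φ : ({r : G // orderOf r = 5} × {w : G // IsConj t w ∧ w * r₀ * w⁻¹ = r₀⁻¹}) ⊕ T → T × T :=
    fun x => match x with
    | Sum.inl p => (⟨(f p.1 p.2).1, (f p.1 p.2).2.1⟩,
        ⟨p.1.1⁻¹ * (f p.1 p.2).1 * p.1.1, (f p.1 p.2).2.1.trans (isConj_iff.2 ⟨p.1.1⁻¹, by simp⟩)⟩)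
    | Sum.inr w => (w, w)
  have hΦ : Function.Injective Φ := by
    have hinv : ∀ w : G, IsConj t w → w⁻¹ = w := by
      intro w hw
      have h1 : w ^ 2 = 1 := by
        obtain ⟨c, rfl⟩ := isConj_iff.1 hw
        rw [conj_pow, ht]; simp
      exact inv_eq_of_mul_eq_one_left (by rw [← pow_two]; exact h1)
    have hsq : ∀ (r w : G), orderOf r = 5 → IsConj t w → w * r * w⁻¹ = r⁻¹ →
        w * (r⁻¹ * w * r) = r ^ 2 := by
      intro r w hr hw h
      have h1 : w * r⁻¹ * w⁻¹ = r := by
        have h0 : (w * r * w⁻¹)⁻¹ = w * r⁻¹ * w⁻¹ := by group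
        rw [← h0, h, inv_inv]
      rw [hinv w hw] at h1
      calc w * (r⁻¹ * w * r) = (w * r⁻¹ * w) * r := by group
        _ = r * r := by rw [h1]
        _ = r ^ 2 := by rw [pow_two]
    have hne : ∀ (r w : G), orderOf r = 5 → IsConj t w → w * r * w⁻¹ = r⁻¹ → r⁻¹ * w * r ≠ w := by
      intro r w hr hw h he
      have h1 := hsq r w hr hw h
      rw [he] at h1
      have h2 : w * w = 1 := by
        rw [← pow_two]
        have := hinv w hw
        exact (by
          rw [pow_two]; nth_rw 1 [← this]; simp)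
      rw [h2] at h1
      have h3 : orderOf r ∣ 2 := orderOf_dvd_of_pow_eq_one h1.symm
      rw [hr] at h3
      norm_num at h3
    rintro (⟨r, w⟩ | w) (⟨r', w'⟩ | w') he
    · have h1 : (f r w).1 = (f r' w').1 := congrArg (fun p : T × T => p.1.1) he
      have h2 : r.1⁻¹ * (f r w).1 * r.1 = r'.1⁻¹ * (f r' w').1 * r'.1 :=
        congrArg (fun p : T × T => p.2.1) he
      have h3 := hsq r.1 (f r w).1 r.2 (f r w).2.1 (f r w).2.2
      have h4 := hsq r'.1 (f r' w').1 r'.2 (f r' w').2.1 (f r' w').2.2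
      rw [← h2, ← h1] at h4
      have h5 : r.1 ^ 2 = r'.1 ^ 2 := h3.symm.trans h4
      have h6 : ∀ v : G, orderOf v = 5 → v = (v ^ 2) ^ 3 := by
        intro v hv
        have h7 : v ^ 5 = 1 := by rw [← hv]; exact pow_orderOf_eq_one v
        rw [← pow_mul]
        calc v = v ^ 5 * v := by rw [h7]; simp
          _ = _ := by rw [← pow_succ]
      have h8 : r = r' := by
        apply Subtype.ext
        rw [h6 r.1 r.2, h6 r'.1 r'.2, h5]
      subst h8
      have h9 : f r w = f r w' := Subtype.ext h1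
      rw [hf r h9]
    · exfalso
      have h1 : (f r w).1 = w'.1 := congrArg (fun p : T × T => p.1.1) he
      have h2 : r.1⁻¹ * (f r w).1 * r.1 = w'.1 := congrArg (fun p : T × T => p.2.1) he
      rw [← h1] at h2
      exact hne r.1 (f r w).1 r.2 (f r w).2.1 (f r w).2.2 h2
    · exfalso
      have h1 : w.1 = (f r' w').1 := congrArg (fun p : T × T => p.1.1) he
      have h2 : w.1 = r'.1⁻¹ * (f r' w').1 * r'.1 := congrArg (fun p : T × T => p.2.1) he
      rw [h1] at h2
      exact hne r'.1 (f r' w').1 r'.2 (f r' w').2.1 (f r' w').2.2 h2.symm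
    · have h1 : w = w' := congrArg (fun p : T × T => p.1) he
      rw [h1]
  have h := Nat.card_le_card_of_injective Φ hΦ
  rw [Nat.card_sum, Nat.card_prod, Nat.card_prod] at h
  exact h

theorem conj_mem_centralizer {H : Subgroup G} {g c : G} (hg : g ∈ normalizer (H : Set G))
    (hc : c ∈ centralizer (H : Set G)) : g * c * g⁻¹ ∈ centralizer (H : Set G) := by
  rw [mem_centralizer_iff]
  intro r hr
  have h1 : g⁻¹ * r * g ∈ H := by
    have h2 : g * (g⁻¹ * r * g) * g⁻¹ = r := by group
    have h3 := (mem_normalizer_iff.1 hg (g⁻¹ * r * g)).2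
    rw [h2] at h3
    exact h3 hr
  have h4 := (mem_centralizer_iff.1 hc) _ h1
  calc r * (g * c * g⁻¹) = g * ((g⁻¹ * r * g) * c) * g⁻¹ := by group
    _ = g * (c * (g⁻¹ * r * g)) * g⁻¹ := by rw [h4]
    _ = _ := by group

section simple

variable [IsSimpleGroup G]

theorem card_sylow5 (hc : Nat.card G = 7920) : Nat.card (Sylow 5 G) = 396 := by
  have hnc := not_comm hc
  have mem := card_sylow_mem_filter (p := 5) (a := 1) (m := 1584) (G := G) (by rw [hc]; norm_num)
    (by norm_num) (by norm_num)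
  have hf : (Nat.divisors 1584).filter (fun n => n % 5 = 1 % 5) = {1, 6, 11, 16, 36, 66, 176, 396} := by
    decide +kernel
  rw [hf] at mem
  have hne1 : Nat.card (Sylow 5 G) ≠ 1 := card_sylow_ne_one hnc (by rw [hc]; norm_num)
  simp only [Finset.mem_insert, Finset.mem_singleton] at mem
  obtain ⟨R⟩ := (inferInstance : Nonempty (Sylow 5 G))
  have hR := card_sylow5_sub hc R
  have hN := card_normalizer_mul_card_sylow R
  rw [hc] at hN
  have h11 : ¬ 11 ∣ Nat.card (normalizer ((R : Subgroup G) : Set G)) := by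
    intro h
    obtain ⟨y, hy⟩ := exists_prime_orderOf_dvd_card' (G := normalizer ((R : Subgroup G) : Set G)) 11 h
    have hy' : orderOf (y : G) = 11 := by rwa [Subgroup.orderOf_coe]
    have hex : ∃ r ∈ (R : Subgroup G), r ≠ 1 := by
      have h1 : 1 < Nat.card (R : Subgroup G) := by rw [hR]; norm_num
      rw [Finite.one_lt_card_iff_nontrivial] at h1
      obtain ⟨r, hr⟩ := exists_ne (1 : (R : Subgroup G))
      exact ⟨r, r.2, fun h => hr (Subtype.ext h)⟩
    obtain ⟨r, hr, hr1⟩ := hex
    have hmod : ∀ d, d ∣ Nat.card (R : Subgroup G) → d ≡ Nat.card (R : Subgroup G) [MOD 11] →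
        d = Nat.card (R : Subgroup G) := by
      rw [hR]
      intro d hd hm
      have hd9 : d ≤ 5 := Nat.le_of_dvd (by norm_num) hd
      interval_cases d <;> first | rfl | (exfalso; revert hd hm; decide)
    have hcomm := le_centralizer_of_modEq y.2 hy' hmod hr
    obtain ⟨Q, hQ1, hQ2⟩ := exists_sylow11_of_comm hc hy' hcomm.symm
    have h1 : orderOf r ∣ 11 := by
      have := Subgroup.orderOf_dvd_natCard (Q : Subgroup G) hQ2
      rwa [card_sylow11_dvd hc Q] at this
    have h2 : orderOf r = 5 := orderOf_eq_of_mem_of_ne_one (by norm_num) hR hr hr1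
    rw [h2] at h1
    norm_num at h1
  rcases mem with h | h | h | h | h | h | h | h
  · exact absurd h hne1
  · exfalso; apply h11; rw [h] at hN; rw [show Nat.card (normalizer ((R : Subgroup G) : Set G)) = 1320 by omega]
    norm_num
  · exfalso
    exact comm_exclude (p := 5) (q := 3) (m := 1584) (k := 144) (n := 11) hnc (by rw [hc]) (by norm_num) h
      (by norm_num) (by decide +kernel) (by decide +kernel)
  · exfalso; apply h11; rw [h] at hN; rw [show Nat.card (normalizer ((R : Subgroup G) : Set G)) = 495 by omega]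
    norm_num
  · exfalso; apply h11; rw [h] at hN; rw [show Nat.card (normalizer ((R : Subgroup G) : Set G)) = 220 by omega]
    norm_num
  · exact (not_card_sylow5_66 hc h).elim
  · exfalso
    rw [h] at hN
    have hN' : Nat.card (normalizer ((R : Subgroup G) : Set G)) = 45 := by omega
    obtain ⟨s, hs1, hs2, hs3, hs4⟩ := exists_relIndex_of_card_eq (p := 5) (m := 1584) hnc (by rw [hc])
      (by norm_num) R
    rw [hN'] at hs3
    have h3 : s ≤ 4 := Nat.le_of_dvd (by norm_num) hs2
    interval_cases s <;> revert hs2 hs3 <;> decide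
  · exact h

theorem card_normalizer5 (hc : Nat.card G = 7920) (R : Sylow 5 G) :
    Nat.card (normalizer ((R : Subgroup G) : Set G)) = 20 := by
  have hN := card_normalizer_mul_card_sylow R
  rw [card_sylow5 hc, hc] at hN
  omega

/-- The normalizer of a Sylow subgroup inside an overgroup of its normalizer. -/
theorem card_normalizer_subtype {p : ℕ} [Fact p.Prime] (R : Sylow p G) {Y : Subgroup G}
    (hle : normalizer ((R : Subgroup G) : Set G) ≤ Y) :
    Nat.card (normalizer (((R.subtype (le_trans Subgroup.le_normalizer hle) : Sylow p Y) : Subgroup Y) : Set Y)) =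
      Nat.card (normalizer ((R : Subgroup G) : Set G)) := by
  have hRY : (R : Subgroup G) ≤ Y := le_trans Subgroup.le_normalizer hle
  have heq : normalizer (((R.subtype hRY : Sylow p Y) : Subgroup Y) : Set Y) =
      (normalizer ((R : Subgroup G) : Set G)).subgroupOf Y := by
    ext g
    rw [mem_subgroupOf]
    constructor
    · intro h
      apply mem_normalizer_of_conj_le
      intro y hy
      have h1 : (⟨y, hRY hy⟩ : Y) ∈ ((R.subtype hRY : Sylow p Y) : Subgroup Y) := by
        simp only [Sylow.coe_subtype, mem_subgroupOf]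
        exact hy
      have h2 := (mem_normalizer_iff.1 h _).1 h1
      simp only [Sylow.coe_subtype, mem_subgroupOf] at h2
      exact h2
    · intro h
      rw [mem_normalizer_iff]
      intro y
      simp only [Sylow.coe_subtype, mem_subgroupOf]
      exact mem_normalizer_iff.1 h y
  rw [heq]
  exact Nat.card_congr (Subgroup.subgroupOfEquivOfLe hle).toEquiv

theorem card_centralizer5 (hc : Nat.card G = 7920) (R : Sylow 5 G) :
    Nat.card (centralizer ((R : Subgroup G) : Set G)) = 5 := by
  have hnc := not_comm hc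
  have hR := card_sylow5_sub hc R
  have hN' := card_normalizer5 hc R
  obtain ⟨s, hs1, hs2, hs3, hs4⟩ := exists_relIndex_of_card_eq (p := 5) (m := 1584) hnc (by rw [hc])
    (by norm_num) R
  have hC := card_mul_relIndex_of_le (centralizer_le_normalizer' (R : Subgroup G))
  rw [hs4, hN'] at hC
  have hs : s = 2 ∨ s = 4 := by
    have h3 : s ≤ 4 := Nat.le_of_dvd (by norm_num) hs2
    interval_cases s <;> simp_all
  rcases hs with rfl | rfl
  swap
  · omega
  exfalso
  have hC10 : Nat.card (centralizer ((R : Subgroup G) : Set G)) = 10 := by omega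
  have hRC : (R : Subgroup G) ≤ centralizer ((R : Subgroup G) : Set G) :=
    le_centralizer_of_card_prime (by norm_num) hR
  obtain ⟨t', ht'⟩ := exists_prime_orderOf_dvd_card' (G := centralizer ((R : Subgroup G) : Set G)) 2
    (by rw [hC10]; norm_num)
  set t : G := (t' : G) with htdef
  have ht : orderOf t = 2 := by rw [htdef, Subgroup.orderOf_coe]; exact ht'
  have htC : t ∈ centralizer ((R : Subgroup G) : Set G) := t'.2
  have ht2 : t ^ 2 = 1 := by rw [← ht]; exact pow_orderOf_eq_one t
  have ht1 : t ≠ 1 := by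
    rintro h; rw [h] at ht; simp at ht
  have huniq : ∀ y ∈ centralizer ((R : Subgroup G) : Set G), y ^ 2 = 1 → y ≠ 1 → y = t := by
    intro y hy hy2 hy1
    exact eq_of_sq_eq_one_of_card_centralizer (p := 5) (by norm_num) (by norm_num) hR hRC
      (by rw [hC10]) htC ht2 ht1 hy hy2 hy1
  set Y := centralizer ({t} : Set G) with hY
  have hNt : normalizer ((R : Subgroup G) : Set G) ≤ Y := by
    intro g hg
    have h1 := conj_mem_centralizer hg htC
    have h2 : g * t * g⁻¹ = t := by
      apply huniq _ h1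
      · rw [conj_pow, ht2]; simp
      · intro h3
        apply ht1
        have : t = g⁻¹ * (g * t * g⁻¹) * g := by group
        rw [this, h3]; simp
    rw [hY, mem_centralizer_singleton_iff]
    calc g * t = (g * t * g⁻¹) * g := by group
      _ = t * g := by rw [h2]
  have hRY : (R : Subgroup G) ≤ Y := le_trans Subgroup.le_normalizer hNt
  have h20 : 20 ∣ Nat.card Y := by
    rw [← hN']; exact Subgroup.card_dvd_of_le hNt
  have h11 : ¬ 11 ∣ Nat.card Y := eleven_not_dvd_centralizer hc ht1 (by rw [ht]; norm_num)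
  have hYd : Nat.card Y ∣ 7920 := by rw [← hc]; exact Subgroup.card_subgroup_dvd_card Y
  obtain ⟨v, hv⟩ := h20
  have hv36 : v ∣ 396 := by
    rw [hv] at hYd
    have : 20 * v ∣ 20 * 396 := by simpa using hYd
    exact Nat.dvd_of_mul_dvd_mul_left (by norm_num) this
  have hvmod : v % 5 = 1 % 5 := by
    have h1 := card_normalizer_mul_card_sylow (R.subtype hRY)
    rw [card_normalizer_subtype R hNt, hN', hv] at h1
    have h2 : Nat.card (Sylow 5 Y) = v := by omega
    rw [← h2]
    exact card_sylow_mod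
  have hv11 : ¬ 11 ∣ v := fun h => h11 (by rw [hv]; exact dvd_mul_of_dvd_right h _)
  have hvc : v = 1 ∨ v = 6 ∨ v = 36 := by
    have hvm : v ∈ Nat.divisors 396 := by simp [hv36]
    have hdiv : (Nat.divisors 396).filter (fun n => n % 5 = 1 % 5 ∧ ¬ 11 ∣ n) = {1, 6, 36} := by
      decide +kernel
    have hvm2 : v ∈ (Nat.divisors 396).filter (fun n => n % 5 = 1 % 5 ∧ ¬ 11 ∣ n) :=
      Finset.mem_filter.2 ⟨hvm, hvmod, hv11⟩
    rw [hdiv] at hvm2
    simpa using hvm2
  have hF := card_fixedBy_mul_normalizer R t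
  rw [hN', ← hY, hv] at hF
  set W := Nat.card {w : G // IsConj t w ∧ w ∈ normalizer ((R : Subgroup G) : Set G)} with hWdef
  set F := Nat.card (fixedBy (Sylow 5 G) t) with hFdef
  have hFW : F = W * v := by nlinarith
  have hpar := card_modEq_fixedBy_four hnc (X := Sylow 5 G) t ht2
  rw [card_sylow5 hc, ← hFdef] at hpar
  have hF4 : F % 4 = 0 := by
    have : 396 % 4 = F % 4 := hpar
    omega
  have hW1 : W % 5 = 1 := by
    have h1 := class_inter_modEq (p := 5) t (R : Subgroup G)
      (normalizer ((R : Subgroup G) : Set G)) R.isPGroup' (by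
        intro r hr h hh
        exact mul_mem (mul_mem (Subgroup.le_normalizer hr) hh) (inv_mem (Subgroup.le_normalizer hr)))
    have h2 : Nat.card {w : G // (IsConj t w ∧ w ∈ normalizer ((R : Subgroup G) : Set G)) ∧
        w ∈ centralizer ((R : Subgroup G) : Set G)} = 1 := by
      rw [Nat.card_eq_one_iff_unique]
      refine ⟨⟨?_⟩, ⟨⟨t, ⟨IsConj.refl t, centralizer_le_normalizer' _ htC⟩, htC⟩⟩⟩
      rintro ⟨a, ⟨ha1, -⟩, ha3⟩ ⟨b, ⟨hb1, -⟩, hb3⟩
      apply Subtype.ext
      have hsq : ∀ w : G, IsConj t w → w ^ 2 = 1 ∧ w ≠ 1 := by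
        intro w hw
        obtain ⟨c, rfl⟩ := isConj_iff.1 hw
        refine ⟨by rw [conj_pow, ht2]; simp, ?_⟩
        intro h3
        apply ht1
        have : t = c⁻¹ * (c * t * c⁻¹) * c := by group
        rw [this, h3]; simp
      show a = b
      rw [huniq a ha3 (hsq a ha1).1 (hsq a ha1).2, huniq b hb3 (hsq b hb1).1 (hsq b hb1).2]
    rw [h2] at h1
    exact h1
  have hWle : W ≤ 12 := by
    have h1 := card_conj_normalizer_le (p := 5) (by norm_num) (by norm_num) hR ht2
    rw [hC10] at h1
    have h2 : Nat.card {x : G // x ∈ centralizer ((R : Subgroup G) : Set G) ∧ x ^ 2 = 1} ≤ 2 := by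
      classical
      have : Function.Injective (fun x : {x : G // x ∈ centralizer ((R : Subgroup G) : Set G) ∧ x ^ 2 = 1} =>
          (if x.1 = 1 then (0 : Fin 2) else 1)) := by
        rintro ⟨a, ha1, ha2⟩ ⟨b, hb1, hb2⟩ h
        apply Subtype.ext
        simp only at h ⊢
        by_cases ha : a = 1 <;> by_cases hb : b = 1
        · rw [ha, hb]
        · simp [ha, hb] at h
        · simp [ha, hb] at h
        · rw [huniq a ha1 ha2 ha, huniq b hb1 hb2 hb]
      have h3 := Nat.card_le_card_of_injective _ this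
      simpa using h3
    omega
  have hW3 : W = 1 ∨ W = 6 ∨ W = 11 := by omega
  have hYne : Y ≠ ⊤ := centralizer_singleton_ne_top hnc ht1
  obtain ⟨r₀, hr₀, hr₀1⟩ : ∃ r ∈ (R : Subgroup G), r ≠ 1 := by
    have h1 : 1 < Nat.card (R : Subgroup G) := by rw [hR]; norm_num
    rw [Finite.one_lt_card_iff_nontrivial] at h1
    obtain ⟨r, hr⟩ := exists_ne (1 : (R : Subgroup G))
    exact ⟨r, r.2, fun h => hr (Subtype.ext h)⟩
  rcases hvc with rfl | rfl | rfl
  · rw [hFW, mul_one] at hF4
    rcases hW3 with h | h | h <;> rw [h] at hF4 <;> omega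
  · have hW6 : W = 6 := by
      rcases hW3 with h | h | h
      · rw [hFW, h] at hF4; omega
      · exact h
      · rw [hFW, h] at hF4; omega
    have hXi := card_isConj_mul_card_centralizer t
    rw [hc, ← hY, hv] at hXi
    have hT : Nat.card {w : G // IsConj t w} = 66 := by omega
    have hlines := lines_bound (t := t) (card_sylow5_sub hc) ht2 R hr₀ hr₀1
    rw [card_orderOf_eq_prime (p := 5) (card_sylow5_sub hc), card_sylow5 hc, hT] at hlines
    set a := Nat.card {w : G // IsConj t w ∧ w * r₀ * w⁻¹ = r₀⁻¹} with ha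
    have hWa : W ≤ a + 1 := by
      classical
      have hinj : Function.Injective (fun w : {w : G // IsConj t w ∧ w ∈ normalizer ((R : Subgroup G) : Set G)} =>
          if h : w.1 = t then (none : Option {w : G // IsConj t w ∧ w * r₀ * w⁻¹ = r₀⁻¹}) else some ⟨w.1, w.2.1, by
            obtain ⟨c, hc'⟩ := isConj_iff.1 w.2.1
            have hw2 : w.1 ^ 2 = 1 := by rw [← hc', conj_pow, ht2]; simp
            have hw1 : w.1 ≠ 1 := by
              intro h3
              apply ht1
              have : t = c⁻¹ * (c * t * c⁻¹) * c := by group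
              rw [this, hc', h3]; simp
            apply inverts_of_mem_normalizer (p := 5) (by norm_num) (by norm_num) hR w.2.2 hw2 _ hr₀
            intro hC'
            exact h (huniq _ hC' hw2 hw1)⟩) := by
        rintro ⟨a', ha1, ha2⟩ ⟨b', hb1, hb2⟩ he
        apply Subtype.ext
        simp only at he ⊢
        by_cases h1 : a' = t <;> by_cases h2 : b' = t
        · rw [h1, h2]
        · simp [h1, h2] at he
        · simp [h1, h2] at he
        · simp only [h1, h2, dite_false, Option.some.injEq, Subtype.mk.injEq] at he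
          exact he
      have h3 := Nat.card_le_card_of_injective _ hinj
      rw [Finite.card_option] at h3
      exact h3
    omega
  · have hYcard : Nat.card Y = 720 := by rw [hv]
    have hYidx : Y.index = 11 := by
      have := Subgroup.card_mul_index Y
      rw [hYcard, hc] at this
      omega
    obtain ⟨f, hf0, hf1', hf2', hf3'⟩ := index_fix_test hnc (p := 5) (q := 2)
      (by rw [hc]; norm_num) R hR Y hYne hNt htC ht
    have hf4' := hf3' rfl
    rw [hYidx] at hf0 hf2' hf4'
    omega

end simple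

end Cfsg.Agent.Lib.Ord7920
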