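import Mathlib
import Cfsg.Agent.Lib.Ord7920D

/-!
# Simple groups of order 7920, part E: the class of `z`, parity of classes in subgroups,
dihedral subgroups of order 8
-/

set_option autoImplicit false
set_option linter.unusedSectionVars false
set_option linter.style.haveILetI false

namespace Cfsg.Agent.Lib.Ord7920

open Subgroup MulAction
open Cfsg.Agent.Lib.SmallGroups2 Cfsg.Agent.Lib.SmallGroups3 Cfsg.Agent.Lib.SmallGroups4
  Cfsg.Agent.Lib.SmallGroups5 Cfsg.Agent.Lib.TwoLocal Cfsg.Agent.Lib.TwoLocal2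
  Cfsg.Agent.Lib.TwoLocal3 Cfsg.Agent.Lib.TransferEval

variable {G : Type*} [Group G] [Finite G]

open scoped Classical in
/-- **The fixed point formula on cosets.** -/
theorem card_fixedBy_quotient (B : Subgroup G) (t : G) :
    Nat.card (MulAction.fixedBy (G ⧸ B) t) * Nat.card B =
      Nat.card {w : G // IsConj t w ∧ w ∈ B} * Nat.card (centralizer ({t} : Set G)) := by
  haveI := Fintype.ofFinite G
  haveI : Fintype (G ⧸ B) := Fintype.ofFinite _
  let S : Finset G := Finset.univ.filter fun b : G => b * t * b⁻¹ ∈ B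
  have h1 : S.card = Nat.card {w : G // IsConj t w ∧ w ∈ B} * Nat.card (centralizer ({t} : Set G)) := by
    let W : Finset G := Finset.univ.filter fun w : G => IsConj t w ∧ w ∈ B
    have hW : Nat.card {w : G // IsConj t w ∧ w ∈ B} = W.card := by
      rw [Nat.card_eq_fintype_card, Fintype.card_subtype]
    rw [hW]
    have hmaps : ∀ b ∈ S, b * t * b⁻¹ ∈ W := by
      intro b hb
      refine Finset.mem_filter.2 ⟨Finset.mem_univ _, isConj_iff.2 ⟨b, rfl⟩, (Finset.mem_filter.1 hb).2⟩
    rw [Finset.card_eq_sum_card_fiberwise hmaps]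
    rw [Finset.sum_const_nat (m := Nat.card (centralizer ({t} : Set G)))]
    intro w hw
    have hw' := Finset.mem_filter.1 hw
    have h2 := Cfsg.Agent.Lib.DefectTwo.card_filter_conj t w hw'.2.1
    rw [← h2]
    congr 1
    ext b
    simp only [S, Finset.mem_filter, Finset.mem_univ, true_and]
    constructor
    · rintro ⟨_, h⟩
      exact h
    · intro h
      refine ⟨?_, h⟩
      rw [h]
      exact hw'.2.2
  have h2 : S.card = Nat.card (MulAction.fixedBy (G ⧸ B) t) * Nat.card B := by
    let F : Finset (G ⧸ B) := Finset.univ.filter fun Q => t • Q = Q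
    have hF : Nat.card (MulAction.fixedBy (G ⧸ B) t) = F.card := by
      rw [Nat.card_eq_fintype_card]
      exact Fintype.card_of_subtype _ (by intro Q; simp [F, MulAction.mem_fixedBy])
    rw [hF]
    have hfix : ∀ b : G, b * t * b⁻¹ ∈ B ↔ t • ((b⁻¹ : G) : G ⧸ B) = ((b⁻¹ : G) : G ⧸ B) := by
      intro b
      rw [MulAction.Quotient.smul_coe, eq_comm, QuotientGroup.eq]
      have h3 : (b⁻¹)⁻¹ * (t • b⁻¹) = b * t * b⁻¹ := by
        rw [smul_eq_mul]; group
      rw [h3]
    have hmaps : ∀ b ∈ S, ((b⁻¹ : G) : G ⧸ B) ∈ F := by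
      intro b hb
      exact Finset.mem_filter.2 ⟨Finset.mem_univ _, (hfix b).1 (Finset.mem_filter.1 hb).2⟩
    rw [Finset.card_eq_sum_card_fiberwise hmaps]
    rw [Finset.sum_const_nat (m := Nat.card B)]
    intro Q hQ
    obtain ⟨g, rfl⟩ := QuotientGroup.mk_surjective Q
    have hfib : (S.filter fun b => ((b⁻¹ : G) : G ⧸ B) = (g : G ⧸ B)) =
        Finset.univ.filter fun b : G => ((b⁻¹ : G) : G ⧸ B) = (g : G ⧸ B) := by
      ext b
      simp only [Finset.mem_filter, Finset.mem_univ, true_and, S]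
      constructor
      · rintro ⟨_, h⟩
        exact h
      · intro h
        refine ⟨?_, h⟩
        rw [hfix, h]
        exact (Finset.mem_filter.1 hQ).2
    rw [hfib, Nat.card_eq_fintype_card, ← Fintype.card_subtype]
    refine Fintype.card_congr ⟨fun b => ⟨b.1 * g, ?_⟩, fun c => ⟨c.1 * g⁻¹, ?_⟩, ?_, ?_⟩
    · have h4 := QuotientGroup.eq.1 b.2
      simpa using h4
    · show (((c.1 * g⁻¹)⁻¹ : G) : G ⧸ B) = (g : G ⧸ B)
      rw [QuotientGroup.eq]
      have h5 : ((c.1 * g⁻¹)⁻¹)⁻¹ * g = c.1 := by group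
      rw [h5]
      exact c.2
    · intro b
      apply Subtype.ext
      simp
    · intro c
      apply Subtype.ext
      simp
  rw [← h1, h2]

/-- A group of order `3 m` with a central element of order 3 has a subgroup of order `m` containing
all elements whose `m`-th power is trivial. -/
theorem hall_of_central {L : Subgroup G} {x : G} (hxL : x ∈ L) (hx : orderOf x = 3)
    (hcent : ∀ e ∈ L, e * x = x * e) {k : ℕ} (hL : Nat.card L = 3 * 2 ^ k) :
    ∃ V : Subgroup G, V ≤ L ∧ Nat.card V = 2 ^ k ∧ (∀ e ∈ L, e ^ (2 ^ k) = 1 → e ∈ V) ∧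
      ∀ e ∈ L, ∃ a ∈ zpowers x, ∃ v ∈ V, e = a * v := by
  obtain ⟨V, hVL, hV⟩ := exists_subgroup_le_card (q := 2) (a := k) L (by rw [hL]; exact dvd_mul_left _ _)
  have hXL : zpowers x ≤ L := by rw [Subgroup.zpowers_le]; exact hxL
  have hdisj : zpowers x ⊓ V = ⊥ := by
    rw [eq_bot_iff]
    intro u hu
    have h1 : orderOf u ∣ 3 := by
      have := Subgroup.orderOf_dvd_natCard (zpowers x) hu.1
      rwa [Nat.card_zpowers, hx] at this
    have h2 : orderOf u ∣ 2 ^ k := by
      have := Subgroup.orderOf_dvd_natCard V hu.2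
      rwa [hV] at this
    have h3 : Nat.Coprime 3 (2 ^ k) := Nat.Coprime.pow_right _ (by norm_num)
    have h4 := Nat.Coprime.eq_one_of_dvd (Nat.Coprime.coprime_dvd_left h1 h3) h2
    exact Subgroup.mem_bot.2 (orderOf_eq_one_iff.1 h4)
  -- the multiplication map
  let f : zpowers x × V → L := fun w => ⟨(w.1 : G) * w.2, mul_mem (hXL w.1.2) (hVL w.2.2)⟩
  have hinj : Function.Injective f := by
    rintro ⟨a, b⟩ ⟨a', b'⟩ he
    have h1 : (a : G) * b = a' * b' := congrArg Subtype.val he
    have h2 : (a' : G)⁻¹ * a = b' * (b : G)⁻¹ := by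
      calc (a' : G)⁻¹ * a = (a' : G)⁻¹ * (a * b) * (b : G)⁻¹ := by group
        _ = (a' : G)⁻¹ * (a' * b') * (b : G)⁻¹ := by rw [h1]
        _ = _ := by group
    have h3 : (a' : G)⁻¹ * a ∈ zpowers x ⊓ V :=
      Subgroup.mem_inf.2 ⟨mul_mem (inv_mem a'.2) a.2, by rw [h2]; exact mul_mem b'.2 (inv_mem b.2)⟩
    rw [hdisj, Subgroup.mem_bot] at h3
    have h4 : (a : G) = a' := (inv_mul_eq_one.1 h3).symm
    have h5 : (b : G) = b' := by
      rw [h4] at h1
      exact mul_left_cancel h1
    rw [Prod.mk.injEq]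
    exact ⟨Subtype.ext h4, Subtype.ext h5⟩
  have hbij : Function.Bijective f := by
    apply hinj.bijective_of_nat_card_le
    rw [Nat.card_prod, Nat.card_zpowers, hx, hV, hL]
  refine ⟨V, hVL, hV, ?_, ?_⟩
  swap
  · intro e he
    obtain ⟨⟨a, b⟩, hab⟩ := hbij.2 ⟨e, he⟩
    have hab' : (a : G) * b = e := congrArg Subtype.val hab
    exact ⟨a, a.2, b, b.2, hab'.symm⟩
  intro e he hpow
  obtain ⟨⟨a, b⟩, hab⟩ := hbij.2 ⟨e, he⟩
  have hab' : (a : G) * b = e := congrArg Subtype.val hab
  obtain ⟨i, hi⟩ := Subgroup.mem_zpowers_iff.1 a.2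
  have hcomm : Commute (a : G) (b : G) := by
    rw [← hi]
    apply Commute.zpow_left
    exact ((hcent _ (hVL b.2)).symm)
  have h1 : e ^ (2 ^ k) = (a : G) ^ (2 ^ k) * (b : G) ^ (2 ^ k) := by
    rw [← hab', hcomm.mul_pow]
  have h2 : (b : G) ^ (2 ^ k) = 1 := by
    apply orderOf_dvd_iff_pow_eq_one.1
    have := Subgroup.orderOf_dvd_natCard V b.2
    rwa [hV] at this
  rw [hpow, h2, mul_one] at h1
  have h3 : orderOf (a : G) ∣ 3 := by
    have := Subgroup.orderOf_dvd_natCard (zpowers x) a.2
    rwa [Nat.card_zpowers, hx] at this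
  have h4 : orderOf (a : G) ∣ 2 ^ k := orderOf_dvd_of_pow_eq_one h1.symm
  have h5 : Nat.Coprime 3 (2 ^ k) := Nat.Coprime.pow_right _ (by norm_num)
  have h6 := Nat.Coprime.eq_one_of_dvd (Nat.Coprime.coprime_dvd_left h3 h5) h4
  have h7 : (a : G) = 1 := orderOf_eq_one_iff.1 h6
  rw [h7, one_mul] at hab'
  rw [← hab']
  exact b.2

section simple

variable [IsSimpleGroup G]

/-- `C(R) = R` for a Sylow 5-subgroup. -/
theorem mem_of_mem_centralizer5 (hc : Nat.card G = 7920) (R : Sylow 5 G) {g : G}
    (hg : g ∈ centralizer ((R : Subgroup G) : Set G)) : g ∈ (R : Subgroup G) := by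
  have h1 : (R : Subgroup G) ≤ centralizer ((R : Subgroup G) : Set G) :=
    le_centralizer_of_card_prime (by norm_num) (card_sylow5_sub hc R)
  have h2 : (R : Subgroup G) = centralizer ((R : Subgroup G) : Set G) := by
    apply Subgroup.eq_of_le_of_card_ge h1
    rw [card_centralizer5 hc, card_sylow5_sub hc]
  rw [h2]; exact hg

/-- An element commuting with an element of order 5 lies in the same Sylow 5-subgroup. -/
theorem exists_sylow5_of_comm (hc : Nat.card G = 7920) {y a : G} (hy : orderOf y = 5)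
    (h : y * a = a * y) : ∃ Q : Sylow 5 G, y ∈ (Q : Subgroup G) ∧ a ∈ (Q : Subgroup G) := by
  obtain ⟨Q, hQ⟩ := exists_sylow_mem_of_orderOf hy
  refine ⟨Q, hQ, mem_of_mem_centralizer5 hc Q ?_⟩
  have hQ' : (Q : Subgroup G) = zpowers y := by
    rw [zpowers_eq_of_mem_of_ne_one (by norm_num) (card_sylow5_sub hc Q) hQ]
    rintro rfl
    simp at hy
  rw [hQ']
  rw [mem_centralizer_iff]
  intro w hw
  obtain ⟨k, rfl⟩ := Subgroup.mem_zpowers_iff.1 hw
  exact (Commute.zpow_left (show Commute y a from h) k)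

/-- 5 does not divide the order of the centralizer of an element of order prime to 5. -/
theorem five_not_dvd_centralizer (hc : Nat.card G = 7920) {a : G} (ha : a ≠ 1)
    (hoa : ¬ 5 ∣ orderOf a) : ¬ 5 ∣ Nat.card (centralizer ({a} : Set G)) := by
  intro h
  obtain ⟨y, hy⟩ := exists_prime_orderOf_dvd_card' (G := centralizer ({a} : Set G)) 5 h
  have hy' : orderOf (y : G) = 5 := by rwa [Subgroup.orderOf_coe]
  have hcomm : (y : G) * a = a * y := (mem_centralizer_singleton_iff.1 y.2)
  obtain ⟨Q, hQ1, hQ2⟩ := exists_sylow5_of_comm hc hy' hcomm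
  have h1 : orderOf a ∣ 5 := by
    have := Subgroup.orderOf_dvd_natCard (Q : Subgroup G) hQ2
    rwa [card_sylow5_sub hc Q] at this
  rcases (Nat.dvd_prime (by norm_num)).1 h1 with h2 | h2
  · exact ha (orderOf_eq_one_iff.1 h2)
  · exact hoa (by rw [h2])

/-- 5 and 11 do not divide the order of the centralizer of a `{2,3}`-element. -/
theorem centralizer_of_two_three (hc : Nat.card G = 7920) {a : G} (ha : a ≠ 1) {n : ℕ}
    (hn : a ^ n = 1) (h5 : ¬ 5 ∣ n) (h11 : ¬ 11 ∣ n) :
    ¬ 5 ∣ Nat.card (centralizer ({a} : Set G)) ∧ ¬ 11 ∣ Nat.card (centralizer ({a} : Set G)) := by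
  have h := orderOf_dvd_of_pow_eq_one hn
  exact ⟨five_not_dvd_centralizer hc ha (fun h' => h5 (h'.trans h)),
    eleven_not_dvd_centralizer hc ha (fun h' => h11 (h'.trans h))⟩

theorem exists_z (hc : Nat.card G = 7920) :
    ∃ z : G, z ^ 2 = 1 ∧ z ≠ 1 ∧ (Nat.card (centralizer ({z} : Set G)) = 16 ∨
      Nat.card (centralizer ({z} : Set G)) = 48) := by
  classical
  have hnc := not_comm hc
  obtain ⟨R⟩ := (inferInstance : Nonempty (Sylow 5 G))
  have hR := card_sylow5_sub hc R
  have hN := card_normalizer5 hc R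
  obtain ⟨z', hz'⟩ := exists_prime_orderOf_dvd_card' (G := normalizer ((R : Subgroup G) : Set G)) 2
    (by rw [hN]; norm_num)
  set z : G := (z' : G) with hzdef
  have hz : orderOf z = 2 := by rw [hzdef, Subgroup.orderOf_coe]; exact hz'
  have hzN : z ∈ normalizer ((R : Subgroup G) : Set G) := z'.2
  have hz2 : z ^ 2 = 1 := by rw [← hz]; exact pow_orderOf_eq_one z
  have hz1 : z ≠ 1 := by
    rintro h; rw [h] at hz; simp at hz
  have hzinv : z⁻¹ = z := by
    rw [inv_eq_iff_mul_eq_one, ← sq]; exact hz2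
  have hzC : z ∉ centralizer ((R : Subgroup G) : Set G) := by
    intro h
    have h1 := mem_of_mem_centralizer5 hc R h
    have h2 := Subgroup.orderOf_dvd_natCard (R : Subgroup G) h1
    rw [hR, hz] at h2
    omega
  have hinv : ∀ r ∈ (R : Subgroup G), z * r * z⁻¹ = r⁻¹ := fun r hr =>
    inverts_of_mem_normalizer (by norm_num) (by norm_num) hR hzN hz2 hzC hr
  have hW : Nat.card {w : G // IsConj z w ∧ w ∈ normalizer ((R : Subgroup G) : Set G)} = 5 := by
    refine Eq.trans ?_ hR
    symm
    apply Nat.card_congr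
    refine Equiv.ofBijective (fun r : (R : Subgroup G) => ⟨(r : G) * z * (r : G)⁻¹, isConj_iff.2 ⟨r, rfl⟩, ?_⟩) ⟨?_, ?_⟩
    · exact mul_mem (mul_mem (Subgroup.le_normalizer r.2) hzN) (inv_mem (Subgroup.le_normalizer r.2))
    · rintro ⟨r, hr⟩ ⟨r', hr'⟩ he
      have h1 : r * z * r⁻¹ = r' * z * r'⁻¹ := congrArg Subtype.val he
      apply Subtype.ext
      show r = r'
      set u := r'⁻¹ * r with hu
      have huR : u ∈ (R : Subgroup G) := mul_mem (inv_mem hr') hr
      have h2 : z * u * z⁻¹ = u := by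
        have : u * z * u⁻¹ = z := by
          calc u * z * u⁻¹ = r'⁻¹ * (r * z * r⁻¹) * r' := by rw [hu]; group
            _ = r'⁻¹ * (r' * z * r'⁻¹) * r' := by rw [h1]
            _ = z := by group
        have hcm : u * z = z * u := by
          calc u * z = (u * z * u⁻¹) * u := by group
            _ = z * u := by rw [this]
        calc z * u * z⁻¹ = (u * z) * z⁻¹ := by rw [hcm]
          _ = u := by group
      have h3 : u⁻¹ = u := by rw [← hinv u huR]; exact h2
      have h4 : orderOf u ∣ 5 := by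
        have := Subgroup.orderOf_dvd_natCard (R : Subgroup G) huR
        rwa [hR] at this
      have h5 : u ^ 2 = 1 := by
        rw [sq]
        nth_rewrite 1 [← h3]
        simp
      have h6 : orderOf u ∣ 2 := orderOf_dvd_of_pow_eq_one h5
      have h7 : orderOf u = 1 := Nat.Coprime.eq_one_of_dvd (Nat.Coprime.coprime_dvd_left h6 (by norm_num)) h4
      have h8 : u = 1 := orderOf_eq_one_iff.1 h7
      exact (inv_mul_eq_one.1 h8).symm
    · rintro ⟨w, hw1, hw2⟩
      obtain ⟨c, hc'⟩ := isConj_iff.1 hw1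
      have hw3 : w ^ 2 = 1 := by rw [← hc', conj_pow, hz2]; simp
      have hw4 : w ≠ 1 := by
        intro h
        apply hz1
        have : z = c⁻¹ * (c * z * c⁻¹) * c := by group
        rw [this, hc', h]; simp
      have hw5 : w ∉ centralizer ((R : Subgroup G) : Set G) := by
        intro h
        have h1 := mem_of_mem_centralizer5 hc R h
        have h2 := Subgroup.orderOf_dvd_natCard (R : Subgroup G) h1
        rw [hR] at h2
        have h6 : orderOf w ∣ 2 := orderOf_dvd_of_pow_eq_one hw3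
        have h7 : orderOf w = 1 := Nat.Coprime.eq_one_of_dvd (Nat.Coprime.coprime_dvd_left h6 (by norm_num)) h2
        exact hw4 (orderOf_eq_one_iff.1 h7)
      have hinvw : ∀ r ∈ (R : Subgroup G), w * r * w⁻¹ = r⁻¹ := fun r hr =>
        inverts_of_mem_normalizer (by norm_num) (by norm_num) hR hw2 hw3 hw5 hr
      have hwz : w * z ∈ (R : Subgroup G) := by
        apply mem_of_mem_centralizer5 hc R
        rw [mem_centralizer_iff]
        intro r hr
        have hh1 : (w * z) * r * (w * z)⁻¹ = r := by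
          calc (w * z) * r * (w * z)⁻¹ = w * (z * r * z⁻¹) * w⁻¹ := by group
            _ = w * r⁻¹ * w⁻¹ := by rw [hinv r hr]
            _ = (w * r * w⁻¹)⁻¹ := by group
            _ = r := by rw [hinvw r hr]; simp
        calc r * (w * z) = ((w * z) * r * (w * z)⁻¹) * (w * z) := by rw [hh1]
          _ = (w * z) * r := by group
      set r := w * z with hr
      have hwr : w = r * z := by rw [hr, mul_assoc, ← sq, hz2, mul_one]
      have hr5 : r ^ 5 = 1 := by
        apply orderOf_dvd_iff_pow_eq_one.1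
        have := Subgroup.orderOf_dvd_natCard (R : Subgroup G) hwz
        rwa [hR] at this
      refine ⟨⟨r ^ 3, pow_mem hwz 3⟩, Subtype.ext ?_⟩
      show r ^ 3 * z * (r ^ 3)⁻¹ = w
      have h3 : z * (r ^ 3)⁻¹ = r ^ 3 * z := by
        have h4 := hinv (r ^ 3) (pow_mem hwz 3)
        have h5 : z * (r ^ 3) * z⁻¹ = (r ^ 3)⁻¹ := h4
        have h6 : (r ^ 3) = z * (r ^ 3)⁻¹ * z⁻¹ := by
          calc r ^ 3 = ((r ^ 3)⁻¹)⁻¹ := by rw [inv_inv]
            _ = (z * (r ^ 3) * z⁻¹)⁻¹ := by rw [h5]
            _ = _ := by group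
        calc z * (r ^ 3)⁻¹ = (z * (r ^ 3)⁻¹ * z⁻¹) * z := by group
          _ = r ^ 3 * z := by rw [← h6]
      rw [mul_assoc, h3, ← mul_assoc]
      have h7 : r ^ 3 * r ^ 3 = r := by
        calc r ^ 3 * r ^ 3 = r ^ 5 * r := by rw [← pow_add, ← pow_succ]
          _ = r := by rw [hr5, one_mul]
      rw [h7, hwr]
  have hfix := card_fixedBy_mul_normalizer R z
  rw [hN, hW] at hfix
  have hpar := card_modEq_fixedBy_four hnc (X := Sylow 5 G) z hz2
  rw [card_sylow5 hc] at hpar
  set f := Nat.card (fixedBy (Sylow 5 G) z) with hf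
  set n := Nat.card (centralizer ({z} : Set G)) with hn
  have hn16 : n = 16 * (f / 4) ∧ f = 4 * (f / 4) := by
    have h4 : f % 4 = 0 := by
      have : 396 % 4 = f % 4 := hpar
      omega
    omega
  obtain ⟨h1, h2⟩ := hn16
  set k := f / 4 with hk
  have hdvd : n ∣ 7920 := by
    rw [← hc]
    exact Subgroup.card_subgroup_dvd_card _
  obtain ⟨h5, h11⟩ := centralizer_of_two_three hc hz1 hz2 (by norm_num) (by norm_num)
  rw [← hn] at h5 h11
  have hk495 : k ∣ 495 := by
    rw [h1] at hdvd
    have : 16 * k ∣ 16 * 495 := hdvd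
    exact Nat.dvd_of_mul_dvd_mul_left (by norm_num) this
  have hcases : ∀ k, k ∣ 495 → ¬ 5 ∣ 16 * k → ¬ 11 ∣ 16 * k → k = 1 ∨ k = 3 ∨ k = 9 := by
    intro k hk h5 h11
    have hk' : k ≤ 495 := Nat.le_of_dvd (by norm_num) hk
    interval_cases k <;> first | omega | (exfalso; revert hk; decide)
  rw [h1] at h5 h11
  rcases hcases k hk495 h5 h11 with h | h | h
  · exact ⟨z, hz2, hz1, Or.inl (by rw [← hn, h1, h])⟩
  · exact ⟨z, hz2, hz1, Or.inr (by rw [← hn, h1, h])⟩
  · exfalso
    have hn144 : n = 144 := by rw [h1, h]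
    have hXi := card_isConj_mul_card_centralizer z
    rw [hc, ← hn, hn144] at hXi
    have hT : Nat.card {w : G // IsConj z w} = 55 := by omega
    obtain ⟨r₀, hr₀, hr₀1⟩ : ∃ r₀ ∈ (R : Subgroup G), r₀ ≠ 1 := by
      have : Nontrivial (R : Subgroup G) := by
        rw [← Finite.one_lt_card_iff_nontrivial, hR]; norm_num
      obtain ⟨⟨a, ha⟩, ha1⟩ := exists_ne (1 : (R : Subgroup G))
      exact ⟨a, ha, fun h => ha1 (Subtype.ext h)⟩
    have hlines := lines_bound (t := z) (card_sylow5_sub hc) hz2 R hr₀ hr₀1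
    rw [card_orderOf_eq_prime (p := 5) (card_sylow5_sub hc), card_sylow5 hc, hT] at hlines
    set a := Nat.card {w : G // IsConj z w ∧ w * r₀ * w⁻¹ = r₀⁻¹} with ha
    have hWa : 5 ≤ a := by
      rw [← hW]
      refine Nat.card_le_card_of_injective (fun w => ⟨w.1, w.2.1, ?_⟩) ?_
      · obtain ⟨c, hc'⟩ := isConj_iff.1 w.2.1
        have hw3 : w.1 ^ 2 = 1 := by rw [← hc', conj_pow, hz2]; simp
        have hw4 : w.1 ≠ 1 := by
          intro h
          apply hz1
          have : z = c⁻¹ * (c * z * c⁻¹) * c := by group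
          rw [this, hc', h]; simp
        have hw5 : w.1 ∉ centralizer ((R : Subgroup G) : Set G) := by
          intro h
          have h1 := mem_of_mem_centralizer5 hc R h
          have h2 := Subgroup.orderOf_dvd_natCard (R : Subgroup G) h1
          rw [hR] at h2
          have h6 : orderOf w.1 ∣ 2 := orderOf_dvd_of_pow_eq_one hw3
          have h7 : orderOf w.1 = 1 := Nat.Coprime.eq_one_of_dvd (Nat.Coprime.coprime_dvd_left h6 (by norm_num)) h2
          exact hw4 (orderOf_eq_one_iff.1 h7)
        exact inverts_of_mem_normalizer (by norm_num) (by norm_num) hR w.2.2 hw3 hw5 hr₀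
      · intro a b h
        apply Subtype.ext
        have h' := congrArg Subtype.val h
        exact h'
    norm_num at hlines
    omega

theorem fix_mod4 (hc : Nat.card G = 7920) (B : Subgroup G) {t : G} (ht : t ^ 2 = 1) :
    B.index % 4 = Nat.card (MulAction.fixedBy (G ⧸ B) t) % 4 :=
  card_modEq_fixedBy_four (not_comm hc) (X := G ⧸ B) t ht

/-- Parity of a class of involutions with centralizer of order `16 * odd` in a subgroup of order 8. -/
theorem parity_card8 (hc : Nat.card G = 7920) {B : Subgroup G} (hB : Nat.card B = 8) {t : G}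
    (ht : t ^ 2 = 1) {m : ℕ} (hC : Nat.card (centralizer ({t} : Set G)) = 16 * (2 * m + 1)) :
    Odd (Nat.card {w : G // IsConj t w ∧ w ∈ B}) := by
  have h1 := card_fixedBy_quotient B t
  have h2 := fix_mod4 hc B ht
  have h3 := Subgroup.card_mul_index B
  rw [hB, hc] at h3
  have h4 : B.index = 990 := by omega
  rw [h4] at h2
  rw [hB, hC] at h1
  set a := Nat.card {w : G // IsConj t w ∧ w ∈ B} with ha
  set f := Nat.card (MulAction.fixedBy (G ⧸ B) t) with hf
  have h5 : f = 2 * (a * (2 * m + 1)) := by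
    have : f * 8 = (2 * (a * (2 * m + 1))) * 8 := by rw [h1]; ring
    exact Nat.eq_of_mul_eq_mul_right (by norm_num) this
  have h6 : Odd (a * (2 * m + 1)) := by
    rw [h5] at h2
    rw [Nat.odd_iff]
    omega
  exact (Nat.odd_mul.1 h6).1

/-- The subgroup `{1, e, e', e e'}` of two commuting involutions. -/
def kleinOf (e e' : G) (he : e ^ 2 = 1) (he' : e' ^ 2 = 1) (hcm : e * e' = e' * e) : Subgroup G where
  carrier := {g | g = 1 ∨ g = e ∨ g = e' ∨ g = e * e'}
  one_mem' := Or.inl rfl
  inv_mem' := by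
    have h1 : e⁻¹ = e := by rw [inv_eq_iff_mul_eq_one, ← sq]; exact he
    have h2 : e'⁻¹ = e' := by rw [inv_eq_iff_mul_eq_one, ← sq]; exact he'
    have h3 : (e * e')⁻¹ = e * e' := by rw [mul_inv_rev, h1, h2, hcm]
    rintro a (rfl | rfl | rfl | rfl)
    · exact Or.inl inv_one
    · exact Or.inr (Or.inl h1)
    · exact Or.inr (Or.inr (Or.inl h2))
    · exact Or.inr (Or.inr (Or.inr h3))
  mul_mem' := by
    have h1 : e * e = 1 := by rw [← sq, he]
    have h2 : e' * e' = 1 := by rw [← sq, he']
    have h3 : e * (e * e') = e' := by rw [← mul_assoc, h1, one_mul]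
    have h4 : e' * e = e * e' := hcm.symm
    have h5 : e' * (e * e') = e := by rw [← mul_assoc, h4, mul_assoc, h2, mul_one]
    have h6 : (e * e') * e = e' := by rw [mul_assoc, h4, ← mul_assoc, h1, one_mul]
    have h7 : (e * e') * e' = e := by rw [mul_assoc, h2, mul_one]
    have h8 : (e * e') * (e * e') = 1 := by rw [mul_assoc, h5, h1]
    rintro a b (rfl | rfl | rfl | rfl) (rfl | rfl | rfl | rfl) <;>
      simp [h1, h2, h3, h4, h5, h6, h7, h8]

theorem mem_kleinOf {e e' : G} {he : e ^ 2 = 1} {he' : e' ^ 2 = 1} {hcm : e * e' = e' * e} {g : G} :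
    g ∈ kleinOf e e' he he' hcm ↔ g = 1 ∨ g = e ∨ g = e' ∨ g = e * e' := Iff.rfl

theorem card_kleinOf {e e' : G} (he : e ^ 2 = 1) (he' : e' ^ 2 = 1) (hcm : e * e' = e' * e)
    (he1 : e ≠ 1) (he'1 : e' ≠ 1) (hne : e ≠ e') :
    Nat.card (kleinOf e e' he he' hcm) = 4 := by
  classical
  have h1 : ((kleinOf e e' he he' hcm : Subgroup G) : Set G) =
      (({1, e, e', e * e'} : Finset G) : Set G) := by
    ext g
    simp [mem_kleinOf]
  have h2 : Nat.card (kleinOf e e' he he' hcm) = ((kleinOf e e' he he' hcm : Subgroup G) : Set G).ncard := rfl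
  rw [h2, h1, Set.ncard_coe_finset]
  have h3 : e * e' ≠ e' := fun h => he1 (by simpa using h)
  have h4 : e * e' ≠ e := fun h => he'1 (by simpa using h)
  have h5 : e * e' ≠ 1 := by
    intro h
    apply hne
    have : e = e * e' * e'⁻¹ := by group
    rw [this, h, one_mul, inv_eq_iff_mul_eq_one, ← sq]
    exact he'
  have m1 : (1 : G) ∉ ({e, e', e * e'} : Finset G) := by
    simp only [Finset.mem_insert, Finset.mem_singleton, not_or]
    exact ⟨Ne.symm he1, Ne.symm he'1, Ne.symm h5⟩
  have m2 : e ∉ ({e', e * e'} : Finset G) := by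
    simp only [Finset.mem_insert, Finset.mem_singleton, not_or]
    exact ⟨hne, Ne.symm h4⟩
  have m3 : e' ∉ ({e * e'} : Finset G) := by
    simp only [Finset.mem_singleton]
    exact Ne.symm h3
  rw [Finset.card_insert_of_notMem m1, Finset.card_insert_of_notMem m2,
    Finset.card_insert_of_notMem m3, Finset.card_singleton]

/-- The extension of a subgroup by an involution normalizing it. -/
def extInv (V : Subgroup G) (i : G) (hi : i ^ 2 = 1) (hV : ∀ v ∈ V, i * v * i⁻¹ ∈ V) : Subgroup G where
  carrier := {g | g ∈ V ∨ i * g ∈ V}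
  one_mem' := Or.inl V.one_mem
  inv_mem' := by
    have hi' : i⁻¹ = i := by rw [inv_eq_iff_mul_eq_one, ← sq]; exact hi
    rintro g (hg | hg)
    · exact Or.inl (inv_mem hg)
    · right
      have h1 := hV _ (inv_mem hg)
      have h2 : i * (i * g)⁻¹ * i⁻¹ = i * g⁻¹ := by
        rw [hi']
        calc i * (i * g)⁻¹ * i = i * g⁻¹ * (i⁻¹ * i) := by rw [mul_inv_rev, hi']; group
          _ = i * g⁻¹ := by group
      rwa [h2] at h1
  mul_mem' := by
    have hi' : i⁻¹ = i := by rw [inv_eq_iff_mul_eq_one, ← sq]; exact hi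
    have hii : i * i = 1 := by rw [← sq, hi]
    rintro g h (hg | hg) (hh | hh)
    · exact Or.inl (mul_mem hg hh)
    · right
      have h1 : i * (g * h) = (i * g * i⁻¹) * (i * h) := by group
      rw [h1]
      exact mul_mem (hV _ hg) hh
    · right
      have h1 : i * (g * h) = (i * g) * h := by group
      rw [h1]
      exact mul_mem hg hh
    · left
      have h1 : g * h = (i * (i * g) * i⁻¹) * (i * h) := by
        have h2 : i * (i * g) * i⁻¹ = g * i⁻¹ := by
          rw [← mul_assoc i i g, hii, one_mul]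
        rw [h2]
        group
      rw [h1]
      exact mul_mem (hV _ hg) hh

theorem mem_extInv {V : Subgroup G} {i : G} {hi : i ^ 2 = 1} {hV : ∀ v ∈ V, i * v * i⁻¹ ∈ V} {g : G} :
    g ∈ extInv V i hi hV ↔ g ∈ V ∨ i * g ∈ V := Iff.rfl

theorem card_extInv {V : Subgroup G} {i : G} (hi : i ^ 2 = 1) (hV : ∀ v ∈ V, i * v * i⁻¹ ∈ V)
    (hiV : i ∉ V) : Nat.card (extInv V i hi hV) = 2 * Nat.card V := by
  have hi' : i⁻¹ = i := by rw [inv_eq_iff_mul_eq_one, ← sq]; exact hi
  have hii : i * i = 1 := by rw [← sq, hi]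
  have hle : V ≤ extInv V i hi hV := fun v hv => Or.inl hv
  have h1 := card_mul_relIndex_of_le hle
  have h2 : V.relIndex (extInv V i hi hV) = 2 := by
    show (V.subgroupOf (extInv V i hi hV)).index = 2
    rw [Subgroup.index_eq_two_iff]
    refine ⟨⟨i, Or.inr (by rw [hii]; exact V.one_mem)⟩, ?_⟩
    rintro ⟨b, hb⟩
    simp only [mem_subgroupOf, Subgroup.coe_mul]
    by_cases hbV : b ∈ V
    · refine Or.inr ⟨hbV, ?_⟩
      intro h
      apply hiV
      have : i = b⁻¹ * (b * i) := by group
      rw [this]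
      exact mul_mem (inv_mem hbV) h
    · rcases hb with hb | hb
      · exact absurd hb hbV
      · refine Or.inl ⟨?_, hbV⟩
        have h3 := hV _ hb
        have h4 : i * (i * b) * i⁻¹ = b * i := by
          rw [← mul_assoc, hii, one_mul, hi']
        rwa [h4] at h3
  rw [h2] at h1
  omega

/-- The `D₈` argument: an involution with centralizer of order `16 * odd` cannot act nontrivially
on a Klein four-group which misses its class. -/
theorem d8_end (hc : Nat.card G = 7920) {i e e' : G} (hi : i ^ 2 = 1) (hi1 : i ≠ 1) (he : e ^ 2 = 1)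
    (he' : e' ^ 2 = 1) (hcm : e * e' = e' * e) (hie : i * e * i⁻¹ = e') (hne : e ≠ e') (he1 : e ≠ 1)
    (hT1 : ¬ IsConj i e) (hT2 : ¬ IsConj i e') (hT3 : ¬ IsConj i (e * e')) {m : ℕ}
    (hC : Nat.card (centralizer ({i} : Set G)) = 16 * (2 * m + 1)) : False := by
  classical
  have hi' : i⁻¹ = i := by rw [inv_eq_iff_mul_eq_one, ← sq]; exact hi
  have hii : i * i = 1 := by rw [← sq, hi]
  have hee : e * e = 1 := by rw [← sq, he]
  have he'e' : e' * e' = 1 := by rw [← sq, he']
  have he'1 : e' ≠ 1 := by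
    intro h
    rw [h] at hie
    apply he1
    have : e = i⁻¹ * (i * e * i⁻¹) * i := by group
    rw [this, hie]; simp
  have hie' : i * e' * i⁻¹ = e := by
    rw [← hie, hi']
    calc i * (i * e * i) * i = (i * i) * e * (i * i) := by group
      _ = e := by rw [hii]; group
  set V := kleinOf e e' he he' hcm with hVdef
  have hV4 := card_kleinOf he he' hcm he1 he'1 hne
  have hVnorm : ∀ v ∈ V, i * v * i⁻¹ ∈ V := by
    rintro v (rfl | rfl | rfl | rfl)
    · left; group
    · right; right; left; exact hie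
    · right; left; exact hie'
    · right; right; right
      calc i * (e * e') * i⁻¹ = (i * e * i⁻¹) * (i * e' * i⁻¹) := by group
        _ = e * e' := by rw [hie, hie', hcm]
  have hiV : i ∉ V := by
    rintro (h | h | h | h)
    · exact hi1 h
    · exact hT1 (by rw [← h])
    · exact hT2 (by rw [← h])
    · exact hT3 (by rw [← h])
  set B := extInv V i hi hVnorm with hB
  have hB8 : Nat.card B = 8 := by rw [hB, card_extInv hi hVnorm hiV, hV4]
  have hodd := parity_card8 hc hB8 hi hC
  have hee' : e * e' ≠ 1 := by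
    intro h
    apply hne
    calc e = e * (e' * e') := by rw [he'e', mul_one]
      _ = (e * e') * e' := by group
      _ = e' := by rw [h, one_mul]
  have hsq1 : (i * e) ^ 2 ≠ 1 := by
    intro h
    apply hee'
    have h1 : (i * e) ^ 2 = (i * e * i⁻¹) * e := by
      rw [sq, hi']; group
    rw [hie] at h1
    rw [hcm, ← h1, h]
  have hsq2 : (i * e') ^ 2 ≠ 1 := by
    intro h
    apply hee'
    have h1 : (i * e') ^ 2 = (i * e' * i⁻¹) * e' := by
      rw [sq, hi']; group
    rw [hie'] at h1
    rw [← h1, h]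
  have hconj_sq : ∀ w, IsConj i w → w ^ 2 = 1 := by
    intro w hw
    obtain ⟨c, hc'⟩ := isConj_iff.1 hw
    rw [← hc', conj_pow, hi]; simp
  have hcount : Nat.card {w : G // IsConj i w ∧ w ∈ B} = 2 := by
    have h1 : ∀ w, (IsConj i w ∧ w ∈ B) ↔ w ∈ ({i, i * (e * e')} : Finset G) := by
      intro w
      simp only [Finset.mem_insert, Finset.mem_singleton]
      constructor
      · rintro ⟨h1, h2⟩
        rcases h2 with h2 | h2
        · rcases h2 with h2 | h2 | h2 | h2
          · subst h2
            exfalso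
            apply hi1
            exact isConj_one_right.1 h1.symm
          · subst h2; exact absurd h1 hT1
          · subst h2; exact absurd h1 hT2
          · subst h2; exact absurd h1 hT3
        · have h3 : w = i * (i * w) := by rw [← mul_assoc, hii, one_mul]
          rcases h2 with h2 | h2 | h2 | h2
          · left; rw [h3, h2, mul_one]
          · exfalso
            have h4 : w = i * e := by rw [h3, h2]
            apply hsq1
            rw [← h4]
            exact hconj_sq w h1
          · exfalso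
            have h4 : w = i * e' := by rw [h3, h2]
            apply hsq2
            rw [← h4]
            exact hconj_sq w h1
          · right; rw [h3, h2]
      · rintro (h | h)
        · subst h
          exact ⟨IsConj.refl _, Or.inr (by rw [hii]; exact V.one_mem)⟩
        · subst h
          refine ⟨?_, Or.inr ?_⟩
          · rw [isConj_iff]
            refine ⟨e, ?_⟩
            have he' : e⁻¹ = e := by rw [inv_eq_iff_mul_eq_one, hee]
            rw [he']
            calc e * i * e = i * (i * e * i⁻¹) * e := by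
                  rw [hi', ← mul_assoc i (i * e) i, ← mul_assoc i i e, hii, one_mul]
              _ = i * e' * e := by rw [hie]
              _ = i * (e * e') := by rw [hcm]; group
          · rw [← mul_assoc, hii, one_mul]
            exact Or.inr (Or.inr (Or.inr rfl))
    have h2 : Nat.card {w : G // IsConj i w ∧ w ∈ B} =
        Nat.card {w : G // w ∈ ({i, i * (e * e')} : Finset G)} :=
      Nat.card_congr (Equiv.subtypeEquivRight h1)
    rw [h2, Nat.card_eq_fintype_card, Fintype.card_coe]
    rw [Finset.card_insert_of_notMem, Finset.card_singleton]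
    simp only [Finset.mem_singleton]
    intro h
    apply hee'
    have h3 : i * 1 = i * (e * e') := by rw [mul_one]; exact h
    exact (mul_left_cancel h3).symm
  rw [hcount] at hodd
  exact absurd hodd (by decide)

end simple

end Cfsg.Agent.Lib.Ord7920
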