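import Mathlib

/-!
# Simple groups of order 7920: facts on the symmetric group of degree 4
-/

set_option autoImplicit false

namespace Cfsg.Agent.Lib.Ord7920

abbrev S4 := Equiv.Perm (Fin 4)

/-- The Klein four-group of `S₄`, as a predicate. -/
def isV (σ : S4) : Prop := σ = 1 ∨ (σ ^ 2 = 1 ∧ ∀ a, σ a ≠ a)

instance : DecidablePred isV := fun σ => by unfold isV; infer_instance

theorem isV_one : isV 1 := Or.inl rfl

theorem isV_mul : ∀ σ τ : S4, isV σ → isV τ → isV (σ * τ) := by decide +kernel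

theorem isV_conj : ∀ ρ σ : S4, isV σ → isV (ρ * σ * ρ⁻¹) := by decide +kernel

theorem isV_inv : ∀ σ : S4, isV σ → isV σ⁻¹ := by decide +kernel

theorem isV_sq : ∀ σ : S4, isV σ → ∃ ρ : S4, ρ ^ 2 = σ := by decide +kernel

theorem isV_comm : ∀ σ τ : S4, isV σ → isV τ → σ * τ = τ * σ := by decide +kernel

theorem isV_sq_one : ∀ σ : S4, isV σ → σ ^ 2 = 1 := by decide +kernel

theorem not_isV_exists : ∀ σ : S4, ¬ isV σ → ∃ τ : S4, isV τ ∧ σ * τ * σ⁻¹ ≠ τ := by decide +kernel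

theorem isV_trans : ∀ σ τ : S4, isV σ → isV τ → σ ≠ 1 → τ ≠ 1 → ∃ ρ : S4, ρ * σ * ρ⁻¹ = τ := by
  decide +kernel

/-- The elements with exactly one fixed point are the 3-cycles. -/
theorem three_comm_invol : ∀ ρ σ : S4, (∃ a, ρ a = a ∧ ∀ b, ρ b = b → b = a) → σ ^ 2 = 1 → σ * ρ = ρ * σ → σ = 1 := by
  decide +kernel

theorem three_not_norm : ∀ ρ σ : S4, (∃ a, ρ a = a ∧ ∀ b, ρ b = b → b = a) → isV σ → σ ≠ 1 →
    σ * ρ * σ⁻¹ ≠ ρ ∧ σ * ρ * σ⁻¹ ≠ ρ⁻¹ := by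
  decide +kernel

/-- A fixed 3-cycle. -/
def rho0 : S4 := Equiv.swap 0 1 * Equiv.swap 1 2

theorem rho0_orbit : ∀ σ : S4, isV σ → σ ≠ 1 →
    rho0 * σ * rho0⁻¹ ≠ σ ∧ rho0 ^ 2 * σ * (rho0 ^ 2)⁻¹ ≠ σ ∧
      rho0 * σ * rho0⁻¹ ≠ rho0 ^ 2 * σ * (rho0 ^ 2)⁻¹ ∧
      ∀ τ : S4, isV τ → τ ≠ 1 → τ = σ ∨ τ = rho0 * σ * rho0⁻¹ ∨ τ = rho0 ^ 2 * σ * (rho0 ^ 2)⁻¹ := by
  decide +kernel

/-- Generation of the point stabilizer by a 3-cycle and an element inverting it. -/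
theorem stab_gen : ∀ (p : Fin 4) (ρ τ ξ : S4), ρ p = p → ρ ≠ 1 → ρ ^ 3 = 1 → τ p = p →
    τ * ρ * τ⁻¹ = ρ⁻¹ → ξ p = p → ξ = 1 ∨ ξ = ρ ∨ ξ = ρ ^ 2 ∨ ξ = τ ∨ ξ = τ * ρ ∨ ξ = τ * ρ ^ 2 := by
  decide +kernel

theorem card_V : (Finset.univ.filter isV).card = 4 := by decide +kernel

theorem card_cent : ∀ σ : S4, isV σ → σ ≠ 1 → (Finset.univ.filter (fun τ : S4 => τ * σ = σ * τ)).card = 8 := by
  decide +kernel

end Cfsg.Agent.Lib.Ord7920
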