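import Mathlib
import Cfsg.Agent.Lib.Ord7920E
import Cfsg.Agent.Lib.Ord7920S

/-!
# Simple groups of order 7920, part F: the normalizer of a subgroup of order 3 in two Sylow
3-subgroups maps onto `S₄`
-/

set_option autoImplicit false
set_option linter.unusedSectionVars false
set_option linter.style.haveILetI false

namespace Cfsg.Agent.Lib.Ord7920

open Subgroup MulAction
open Cfsg.Agent.Lib.SmallGroups2 Cfsg.Agent.Lib.SmallGroups3 Cfsg.Agent.Lib.SmallGroups4
  Cfsg.Agent.Lib.SmallGroups5 Cfsg.Agent.Lib.TwoLocal Cfsg.Agent.Lib.TwoLocal2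
  Cfsg.Agent.Lib.TwoLocal3 Cfsg.Agent.Lib.TransferEval

variable {G : Type*} [Group G]

section psi

variable {N : Subgroup G} (Ψ : N →* S4)

open scoped Classical in
/-- The homomorphism as a function on `G`. -/
noncomputable def psi (g : G) : S4 := if h : g ∈ N then Ψ ⟨g, h⟩ else 1

variable {Ψ}

theorem psi_coe {g : G} (h : g ∈ N) : psi Ψ g = Ψ ⟨g, h⟩ := by
  simp [psi, h]

theorem psi_mul {g h : G} (hg : g ∈ N) (hh : h ∈ N) : psi Ψ (g * h) = psi Ψ g * psi Ψ h := by
  rw [psi_coe hg, psi_coe hh, psi_coe (mul_mem hg hh), ← map_mul]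
  rfl

theorem psi_one : psi Ψ 1 = 1 := by
  rw [psi_coe N.one_mem]
  exact map_one Ψ

theorem psi_inv {g : G} (hg : g ∈ N) : psi Ψ g⁻¹ = (psi Ψ g)⁻¹ := by
  rw [psi_coe hg, psi_coe (inv_mem hg), ← map_inv]
  rfl

theorem psi_pow {g : G} (hg : g ∈ N) (n : ℕ) : psi Ψ (g ^ n) = (psi Ψ g) ^ n := by
  rw [psi_coe hg, psi_coe (pow_mem hg n), ← map_pow]
  rfl

theorem psi_conj {g h : G} (hg : g ∈ N) (hh : h ∈ N) :
    psi Ψ (g * h * g⁻¹) = psi Ψ g * psi Ψ h * (psi Ψ g)⁻¹ := by
  rw [psi_mul (mul_mem hg hh) (inv_mem hg), psi_mul hg hh, psi_inv hg]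

theorem psi_surj (hΨ : Function.Surjective Ψ) (σ : S4) : ∃ g ∈ N, psi Ψ g = σ := by
  obtain ⟨g, hg⟩ := hΨ σ
  exact ⟨g, g.2, by rw [psi_coe g.2]; exact hg⟩

variable (Ψ)

/-- The preimage in `G` of a subgroup of `S₄`. -/
def pre (T : Subgroup S4) : Subgroup G := (T.comap Ψ).map N.subtype

variable {Ψ}

theorem mem_pre {T : Subgroup S4} {g : G} : g ∈ pre Ψ T ↔ g ∈ N ∧ psi Ψ g ∈ T := by
  constructor
  · rintro ⟨h, hh, rfl⟩
    refine ⟨h.2, ?_⟩
    show psi Ψ (h : G) ∈ T
    rw [psi_coe h.2]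
    exact hh
  · rintro ⟨h1, h2⟩
    rw [psi_coe h1] at h2
    exact ⟨⟨g, h1⟩, h2, rfl⟩

theorem card_pre [Finite G] (hΨ : Function.Surjective Ψ) (T : Subgroup S4) :
    Nat.card (pre Ψ T) * T.index = Nat.card N := by
  have h1 : Nat.card (pre Ψ T) = Nat.card (T.comap Ψ) :=
    Nat.card_congr (Subgroup.equivMapOfInjective _ _ N.subtype_injective).symm.toEquiv
  rw [h1, ← Subgroup.index_comap_of_surjective T hΨ]
  exact Subgroup.card_mul_index _

/-- The Klein four-group in `S₄`. -/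
def Vsub : Subgroup S4 where
  carrier := {σ | isV σ}
  one_mem' := isV_one
  mul_mem' := fun {a b} ha hb => isV_mul a b ha hb
  inv_mem' := fun {a} ha => isV_inv a ha

theorem mem_Vsub {σ : S4} : σ ∈ Vsub ↔ isV σ := Iff.rfl

theorem index_of_card (T : Subgroup S4) (p : S4 → Prop) [DecidablePred p] (hp : ∀ τ, τ ∈ T ↔ p τ) {n : ℕ}
    (h : (Finset.univ.filter p).card = n) : n * T.index = 24 := by
  have h1 := Subgroup.card_mul_index T
  have h2 : Nat.card S4 = 24 := by
    rw [Nat.card_eq_fintype_card]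
    rfl
  rw [h2] at h1
  rw [← h1, ← h]
  congr 1
  have h3 : Nat.card T = Nat.card {τ : S4 // p τ} := Nat.card_congr (Equiv.subtypeEquivRight hp)
  rw [h3, Nat.card_eq_fintype_card, Fintype.card_subtype]

theorem index_Vsub : Vsub.index = 6 := by
  have := index_of_card Vsub isV (fun _ => Iff.rfl) card_V
  omega

/-- The centralizer of an element of `S₄`. -/
def Csub (σ : S4) : Subgroup S4 := centralizer {σ}

theorem mem_Csub {σ τ : S4} : τ ∈ Csub σ ↔ τ * σ = σ * τ := by
  rw [Csub, mem_centralizer_singleton_iff]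

theorem index_Csub {σ : S4} (h : isV σ) (h1 : σ ≠ 1) : (Csub σ).index = 3 := by
  have := index_of_card (Csub σ) (fun τ : S4 => τ * σ = σ * τ) (fun _ => mem_Csub) (card_cent σ h h1)
  omega

theorem index_bot : (⊥ : Subgroup S4).index = 24 := by
  rw [Subgroup.index_bot]
  rw [Nat.card_eq_fintype_card]
  rfl

end psi

section main

/-- A `p`-element normalizing a Sylow subgroup lies in it. -/
theorem mem_sylow_of_mem_normalizer {A : Type*} [Group A] [Finite A] {p : ℕ} [Fact p.Prime]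
    (R : Sylow p A) {g : A} (hp : IsPGroup p (zpowers g))
    (hg : g ∈ normalizer ((R : Subgroup A) : Set A)) : g ∈ (R : Subgroup A) := by
  have h1 := hp.inf_normalizer_sylow R
  have h2 : g ∈ zpowers g ⊓ normalizer (R : Set A) := ⟨mem_zpowers g, hg⟩
  rw [h1] at h2
  exact h2.2

theorem oneFix_cube : ∀ ρ : S4, (∃ a, ρ a = a ∧ ∀ b, ρ b = b → b = a) → ρ ^ 3 = 1 ∧ ρ ≠ 1 := by
  decide +kernel

abbrev Nx (x : G) : Subgroup G := normalizer ((zpowers x : Subgroup G) : Set G)

theorem cases_c (c : ℕ) (h : c < 441) (h1 : 18 * c ∣ 7920) (h2 : ¬ 5 ∣ 9 * c) (h3 : ¬ 11 ∣ 9 * c) :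
    c = 1 ∨ c = 2 ∨ c = 4 ∨ c = 8 := by
  interval_cases c <;> omega

variable [Finite G] [IsSimpleGroup G]

theorem exists_psi (hc : Nat.card G = 7920) {P Q : Sylow 3 G} (hne : P ≠ Q) {x : G}
    (hx : orderOf x = 3) (hxP : x ∈ (P : Subgroup G)) (hxQ : x ∈ (Q : Subgroup G)) :
    (Nat.card (Nx x) = 72 ∨ Nat.card (Nx x) = 144) ∧
    ∃ Ψ : Nx x →* S4, Function.Surjective Ψ ∧ psi Ψ x = 1 ∧
      (∀ y ∈ (P : Subgroup G), y ∉ zpowers x →
        ∃ a, psi Ψ y a = a ∧ ∀ b, psi Ψ y b = b → b = a) ∧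
      (∀ P' : Sylow 3 G, x ∈ (P' : Subgroup G) → ∀ g ∈ Nx x,
        g ∈ normalizer ((P' : Subgroup G) : Set G) → ∃ a, psi Ψ g a = a) := by
  classical
  have hx1 : x ≠ 1 := by rintro rfl; simp at hx
  have hx3 : x ^ 3 = 1 := by rw [← hx]; exact pow_orderOf_eq_one x
  have hxinv : x⁻¹ ≠ x := by
    intro h
    have h1 : x ^ 2 = 1 := by rw [sq]; nth_rewrite 1 [← h]; simp
    have h2 := orderOf_dvd_of_pow_eq_one h1
    rw [hx] at h2
    omega
  set N := Nx x with hNdef
  set M := centralizer ({x} : Set G) with hMdef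
  have hMN : M ≤ N := by
    rw [hMdef, ← centralizer_zpowers_eq]; exact centralizer_le_normalizer' _
  have hSM : ∀ S : Sylow 3 G, x ∈ (S : Subgroup G) → (S : Subgroup G) ≤ M := by
    intro S hS u hu
    rw [hMdef, mem_centralizer_singleton_iff]
    exact sylow3_comm hc S _ hu _ hS
  have hNcard : Nat.card N = 2 * Nat.card M := card_normalizer_zpowers hc hx
  obtain ⟨h5, h11⟩ := centralizer_of_two_three hc hx1 hx3 (by norm_num) (by norm_num)
  obtain ⟨c, hcM⟩ := nine_dvd_centralizer hc hx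
  have h2M := two_mul_centralizer_dvd hc hx
  rw [← hMdef] at h5 h11 h2M hcM
  rw [hcM] at h5 h11 h2M hNcard
  have hcases : c = 1 ∨ c = 2 ∨ c = 4 ∨ c = 8 := by
    have hle : 2 * (9 * c) ≤ 7920 := Nat.le_of_dvd (by norm_num) h2M
    exact cases_c c (by omega) (by rwa [show 18 * c = 2 * (9 * c) by ring]) h5 h11
  have hPN : (P : Subgroup G) ≤ N := (hSM P hxP).trans hMN
  have hQN : (Q : Subgroup G) ≤ N := (hSM Q hxQ).trans hMN
  let Ph : Sylow 3 N := P.subtype hPN
  let Qh : Sylow 3 N := Q.subtype hQN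
  have memP : ∀ u : N, u ∈ (Ph : Subgroup N) ↔ (u : G) ∈ (P : Subgroup G) := by
    intro u
    simp only [Ph, Sylow.coe_subtype, mem_subgroupOf]
  have memQ : ∀ u : N, u ∈ (Qh : Subgroup N) ↔ (u : G) ∈ (Q : Subgroup G) := by
    intro u
    simp only [Qh, Sylow.coe_subtype, mem_subgroupOf]
  have hPQ : Ph ≠ Qh := by
    intro h
    apply hne
    apply Sylow.ext
    ext u
    constructor
    · intro hu
      have h1 : (⟨u, hPN hu⟩ : N) ∈ (Ph : Subgroup N) := (memP _).2 hu
      rw [h] at h1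
      exact (memQ _).1 h1
    · intro hu
      have h1 : (⟨u, hQN hu⟩ : N) ∈ (Qh : Subgroup N) := (memQ _).2 hu
      rw [← h] at h1
      exact (memP _).1 h1
  have hNcard' : Nat.card N = 3 ^ 2 * (2 * c) := by rw [hNcard]; ring
  have hc3 : ¬ 3 ∣ 2 * c := by
    rcases hcases with rfl | rfl | rfl | rfl <;> norm_num
  have hSyl9 : ∀ S : Sylow 3 N, Nat.card (S : Subgroup N) = 9 := by
    intro S
    have := sylow_card_of_card_eq (p := 3) hNcard' hc3 S
    simpa using this
  have hnd : Nat.card (Sylow 3 N) ∣ 2 * c := card_sylow_dvd hNcard' hc3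
  have hnm : Nat.card (Sylow 3 N) % 3 = 1 % 3 := card_sylow_mod
  have hn1 : Nat.card (Sylow 3 N) ≠ 1 := by
    intro h
    haveI : Subsingleton (Sylow 3 N) := (Nat.card_eq_one_iff_unique.1 h).1
    exact hPQ (Subsingleton.elim _ _)
  obtain ⟨s, hsN, hs⟩ := exists_inverter hc P
  have hsX : s ∈ N := by
    apply mem_normalizer_of_conj_le
    intro y hy
    have hyP : y ∈ (P : Subgroup G) := by
      have hle : zpowers x ≤ (P : Subgroup G) := by rw [Subgroup.zpowers_le]; exact hxP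
      exact hle hy
    rw [hs y hyP]
    exact inv_mem hy
  let sh : N := ⟨s, hsX⟩
  have hshN : sh ∈ normalizer ((Ph : Subgroup N) : Set N) := by
    apply mem_normalizer_of_conj_le
    intro u hu
    rw [memP] at hu ⊢
    show s * (u : G) * s⁻¹ ∈ (P : Subgroup G)
    rw [hs _ hu]
    exact inv_mem hu
  have hshP : sh ∉ (Ph : Subgroup N) := by
    intro h
    have h1 : s ∈ (P : Subgroup G) := (memP _).1 h
    have h2 := hs x hxP
    have h3 : s * x = x * s := sylow3_comm hc P _ h1 _ hxP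
    rw [h3, mul_inv_cancel_right] at h2
    exact hxinv h2.symm
  have hnorm := card_normalizer_mul_card_sylow Ph
  have hnorm18 : 18 ≤ Nat.card (normalizer ((Ph : Subgroup N) : Set N)) := by
    have h1 : Nat.card (Ph : Subgroup N) ∣ Nat.card (normalizer ((Ph : Subgroup N) : Set N)) :=
      Subgroup.card_dvd_of_le Subgroup.le_normalizer
    rw [hSyl9] at h1
    obtain ⟨k, hk⟩ := h1
    have hk0 : k ≠ 0 := by
      intro h0
      rw [h0, mul_zero] at hk
      exact (Nat.card_pos).ne' hk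
    have hk1 : k ≠ 1 := by
      rintro rfl
      apply hshP
      have h2 : (Ph : Subgroup N) = normalizer ((Ph : Subgroup N) : Set N) := by
        apply Subgroup.eq_of_le_of_card_ge Subgroup.le_normalizer
        rw [hk, hSyl9]
      rw [h2]
      exact hshN
    have : 2 ≤ k := by omega
    omega
  have hnle : Nat.card (Sylow 3 N) ≤ c := by
    rw [hNcard'] at hnorm
    by_contra hlt
    have hgt : c + 1 ≤ Nat.card (Sylow 3 N) := by omega
    have := Nat.mul_le_mul hnorm18 hgt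
    rw [hnorm] at this
    omega
  have hn4 : Nat.card (Sylow 3 N) = 4 ∧ (c = 4 ∨ c = 8) := by
    rcases hcases with rfl | rfl | rfl | rfl
    · omega
    · omega
    · exact ⟨by omega, Or.inl rfl⟩
    · refine ⟨?_, Or.inr rfl⟩
      have h16 : Nat.card (Sylow 3 N) ≠ 7 := by
        intro h
        rw [h] at hnd
        omega
      omega
  obtain ⟨hn, hc48⟩ := hn4
  refine ⟨by rcases hc48 with rfl | rfl <;> omega, ?_⟩
  let e : Sylow 3 N ≃ Fin 4 := Finite.equivFinOfCardEq hn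
  let Ψ₀ : N →* Equiv.Perm (Sylow 3 N) := MulAction.toPermHom N (Sylow 3 N)
  let Ψ : N →* S4 := (Equiv.permCongrHom e).toMonoidHom.comp Ψ₀
  have hΨ : ∀ (g : N) (R : Sylow 3 N), Ψ g (e R) = e (g • R) := by
    intro g R
    simp [Ψ, Ψ₀, Equiv.permCongrHom]
  have hΨfix : ∀ (g : N) (R : Sylow 3 N), Ψ g (e R) = e R ↔ g ∈ normalizer ((R : Subgroup N) : Set N) := by
    intro g R
    rw [hΨ, e.injective.eq_iff, Sylow.smul_eq_iff_mem_normalizer]
    exact Iff.rfl
  have hxN : x ∈ N := hMN (by rw [hMdef, mem_centralizer_singleton_iff])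
  let xh : N := ⟨x, hxN⟩
  have hxhR : ∀ R : Sylow 3 N, xh ∈ (R : Subgroup N) := by
    intro R
    obtain ⟨c', rfl⟩ := MulAction.exists_smul_eq N Ph R
    rw [mem_smul_sylow_iff, memP]
    have h1 := (mem_normalizer_iff.1 (inv_mem c'.2) x).1 (mem_zpowers x)
    have hle : zpowers x ≤ (P : Subgroup G) := by rw [Subgroup.zpowers_le]; exact hxP
    have h2 := hle h1
    simpa using h2
  have hΨx : Ψ xh = 1 := by
    ext a
    have hb : ∃ R, e R = a := e.surjective a
    obtain ⟨R, rfl⟩ := hb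
    have h1 := (hΨfix xh R).2 (Subgroup.le_normalizer (hxhR R))
    rw [h1]
    rfl
  have honeFix : ∀ y ∈ (P : Subgroup G), y ∉ zpowers x →
      ∃ a, psi Ψ y a = a ∧ ∀ b, psi Ψ y b = b → b = a := by
    intro y hy hyX
    have hyN : y ∈ N := hPN hy
    rw [psi_coe hyN]
    set yh : N := ⟨y, hyN⟩ with hyh
    have hyhP : yh ∈ (Ph : Subgroup N) := (memP _).2 hy
    refine ⟨e Ph, (hΨfix _ _).2 (Subgroup.le_normalizer hyhP), ?_⟩
    intro b hb
    obtain ⟨R, rfl⟩ := e.surjective b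
    have h1 := (hΨfix _ _).1 hb
    have hp : IsPGroup 3 (zpowers yh) :=
      (Ph.isPGroup').to_le (by rw [Subgroup.zpowers_le]; exact hyhP)
    have h2 := mem_sylow_of_mem_normalizer R hp h1
    congr 1
    let W : Subgroup N := (R : Subgroup N) ⊓ (Ph : Subgroup N)
    have hxW : zpowers xh ≤ W := by
      rw [Subgroup.zpowers_le]
      exact ⟨hxhR R, hxhR Ph⟩
    have hW9 : Nat.card W ∣ 9 := by
      rw [← hSyl9 Ph]
      exact Subgroup.card_dvd_of_le inf_le_right
    have hW3 : 3 ∣ Nat.card W := by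
      have h3 := Subgroup.card_dvd_of_le hxW
      have h4 : Nat.card (zpowers xh) = 3 := by
        rw [Nat.card_zpowers, Subgroup.orderOf_mk, hx]
      rwa [h4] at h3
    have hWne : Nat.card W ≠ 3 := by
      intro h3
      have h4 : zpowers xh = W := by
        apply Subgroup.eq_of_le_of_card_ge hxW
        rw [h3, Nat.card_zpowers, Subgroup.orderOf_mk, hx]
      have h5 : yh ∈ zpowers xh := by
        rw [h4]; exact ⟨h2, hyhP⟩
      obtain ⟨k, hk⟩ := Subgroup.mem_zpowers_iff.1 h5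
      apply hyX
      rw [Subgroup.mem_zpowers_iff]
      refine ⟨k, ?_⟩
      have h6 := congrArg Subtype.val hk
      simpa using h6
    have hW9' : Nat.card W = 9 := by
      have h3 : Nat.card W ≤ 9 := Nat.le_of_dvd (by norm_num) hW9
      interval_cases h : Nat.card W <;> first | rfl | omega
    have h7 : W = (R : Subgroup N) :=
      Subgroup.eq_of_le_of_card_ge inf_le_left (by rw [hW9', hSyl9])
    have h8 : W = (Ph : Subgroup N) :=
      Subgroup.eq_of_le_of_card_ge inf_le_right (by rw [hW9', hSyl9])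
    exact Sylow.ext (h7.symm.trans h8)
  have hsurj : Function.Surjective Ψ := by
    intro σ
    obtain ⟨y, hyP, hyX⟩ : ∃ y ∈ (P : Subgroup G), y ∉ zpowers x := by
      by_contra hcon
      push Not at hcon
      have h1 : (P : Subgroup G) ≤ zpowers x := hcon
      have h2 := Nat.card_le_card_of_injective _ (Subgroup.inclusion_injective h1)
      rw [card_sylow3 hc, Nat.card_zpowers, hx] at h2
      omega
    have hyN : y ∈ N := hPN hyP
    have hone := honeFix y hyP hyX
    rw [psi_coe hyN] at hone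
    set yh : N := ⟨y, hyN⟩ with hyh
    have hyhP : yh ∈ (Ph : Subgroup N) := (memP _).2 hyP
    set ρ := Ψ yh with hρ
    obtain ⟨hρ3, hρ1⟩ := oneFix_cube ρ hone
    set τ := Ψ sh with hτ
    set p := e Ph with hp
    have hρp : ρ p = p := (hΨfix _ _).2 (Subgroup.le_normalizer hyhP)
    have hτp : τ p = p := (hΨfix _ _).2 hshN
    have hτρ : τ * ρ * τ⁻¹ = ρ⁻¹ := by
      rw [hτ, hρ, ← map_inv, ← map_mul, ← map_mul, ← map_inv]
      congr 1
      apply Subtype.ext
      exact hs y hyP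
    obtain ⟨g, hg⟩ : ∃ g : N, g • Ph = e.symm (σ p) := MulAction.exists_smul_eq N _ _
    have hgp : Ψ g p = σ p := by
      have h7 : Ψ g (e Ph) = e (g • Ph) := hΨ g Ph
      rw [← hp] at h7
      rw [h7, hg, Equiv.apply_symm_apply]
    set ξ := (Ψ g)⁻¹ * σ with hξ
    have hξp : ξ p = p := by
      rw [hξ, Equiv.Perm.mul_apply, ← hgp]
      simp
    have hσ : σ = Ψ g * ξ := by rw [hξ]; group
    rcases stab_gen p ρ τ ξ hρp hρ1 hρ3 hτp hτρ hξp with h | h | h | h | h | h
    · exact ⟨g, by rw [hσ, h, mul_one]⟩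
    · exact ⟨g * yh, by rw [hσ, h, map_mul]⟩
    · exact ⟨g * yh ^ 2, by rw [hσ, h, map_mul, map_pow]⟩
    · exact ⟨g * sh, by rw [hσ, h, map_mul]⟩
    · exact ⟨g * (sh * yh), by rw [hσ, h, map_mul, map_mul]⟩
    · exact ⟨g * (sh * yh ^ 2), by rw [hσ, h, map_mul, map_mul, map_pow]⟩
  refine ⟨Ψ, hsurj, ?_, honeFix, ?_⟩
  · rw [psi_coe hxN]; exact hΨx
  · intro P' hxP' g hgN hg
    have hP'N : (P' : Subgroup G) ≤ N := (hSM P' hxP').trans hMN
    refine ⟨e (P'.subtype hP'N), ?_⟩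
    rw [psi_coe hgN]
    apply (hΨfix _ _).2
    apply mem_normalizer_of_conj_le
    intro u hu
    simp only [Sylow.coe_subtype, mem_subgroupOf] at hu ⊢
    show g * (u : G) * g⁻¹ ∈ (P' : Subgroup G)
    exact (mem_normalizer_iff.1 hg _).1 hu

end main

end Cfsg.Agent.Lib.Ord7920
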