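import Mathlib
import Cfsg.Agent.Lib.Ord7920F

/-!
# Simple groups of order 7920, part G: Sylow 3-subgroups intersect trivially
-/

set_option autoImplicit false
set_option linter.unusedSectionVars false
set_option linter.style.haveILetI false

namespace Cfsg.Agent.Lib.Ord7920

open Subgroup MulAction
open Cfsg.Agent.Lib.SmallGroups2 Cfsg.Agent.Lib.SmallGroups3 Cfsg.Agent.Lib.SmallGroups4
  Cfsg.Agent.Lib.SmallGroups5 Cfsg.Agent.Lib.TwoLocal Cfsg.Agent.Lib.TwoLocal2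
  Cfsg.Agent.Lib.TwoLocal3 Cfsg.Agent.Lib.TransferEval

variable {G : Type*} [Group G] [Finite G]

theorem mem_Nx_of_conj {x g : G} (h : g * x * g⁻¹ ∈ zpowers x) : g ∈ Nx x := by
  apply mem_normalizer_of_conj_le
  intro y hy
  obtain ⟨k, rfl⟩ := Subgroup.mem_zpowers_iff.1 hy
  rw [← conj_zpow]
  exact zpow_mem h k

theorem cent_le_Nx (x : G) : centralizer ({x} : Set G) ≤ Nx x := by
  rw [← centralizer_zpowers_eq]; exact centralizer_le_normalizer' _

theorem conj_x {x g : G} (hx : orderOf x = 3) (hg : g ∈ Nx x) :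
    g * x * g⁻¹ = x ∨ g * x * g⁻¹ = x⁻¹ := by
  have hx1 : x ≠ 1 := by rintro rfl; simp at hx
  have h1 : g * x * g⁻¹ ∈ zpowers x := (mem_normalizer_iff.1 hg x).1 (mem_zpowers x)
  have hcard : Nat.card (zpowers x) = 3 := by rw [Nat.card_zpowers, hx]
  rcases three_cases hcard (mem_zpowers x) hx1 h1 with h | h | h
  · exfalso
    apply hx1
    have : x = g⁻¹ * (g * x * g⁻¹) * g := by group
    rw [this, h]; simp
  · exact Or.inl h
  · exact Or.inr h

theorem sq_mem_cent {x g : G} (hx : orderOf x = 3) (hg : g ∈ Nx x) : g ^ 2 ∈ centralizer ({x} : Set G) := by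
  rw [mem_centralizer_singleton_iff]
  have h2 : g ^ 2 * x * (g ^ 2)⁻¹ = x := by
    have h3 : g ^ 2 * x * (g ^ 2)⁻¹ = g * (g * x * g⁻¹) * g⁻¹ := by
      rw [sq]; group
    rw [h3]
    rcases conj_x hx hg with h | h
    · rw [h, h]
    · rw [h, ← conj_inv, h, inv_inv]
  calc g ^ 2 * x = (g ^ 2 * x * (g ^ 2)⁻¹) * g ^ 2 := by group
    _ = x * g ^ 2 := by rw [h2]

theorem conj_mem_cent {x g e : G} (hx : orderOf x = 3) (hg : g ∈ Nx x)
    (he : e ∈ centralizer ({x} : Set G)) : g * e * g⁻¹ ∈ centralizer ({x} : Set G) := by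
  rw [mem_centralizer_singleton_iff] at he ⊢
  have h1 : e * (g⁻¹ * x * g) = (g⁻¹ * x * g) * e := by
    have h2 : g⁻¹ * x * g⁻¹⁻¹ = x ∨ g⁻¹ * x * g⁻¹⁻¹ = x⁻¹ := conj_x hx (inv_mem hg)
    rw [inv_inv] at h2
    rcases h2 with h | h
    · rw [h, he]
    · rw [h]
      have h3 : e * x⁻¹ = x⁻¹ * e := by
        calc e * x⁻¹ = x⁻¹ * (x * e) * x⁻¹ := by group
          _ = x⁻¹ * (e * x) * x⁻¹ := by rw [he]
          _ = x⁻¹ * e := by group
      exact h3
  calc g * e * g⁻¹ * x = g * (e * (g⁻¹ * x * g)) * g⁻¹ := by group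
    _ = g * ((g⁻¹ * x * g) * e) * g⁻¹ := by rw [h1]
    _ = x * (g * e * g⁻¹) := by group

section package

variable {x : G} {Ψ : Nx x →* S4}

variable (Ψ) in
/-- `M ∩ F`: elements of `C(x)` mapped to the Klein four-group. -/
def Lsub : Subgroup G := centralizer ({x} : Set G) ⊓ pre Ψ Vsub

theorem mem_L {e : G} : e ∈ Lsub Ψ ↔ e ∈ centralizer ({x} : Set G) ∧ isV (psi Ψ e) := by
  constructor
  · rintro ⟨h1, h2⟩
    exact ⟨h1, (mem_pre.1 h2).2⟩
  · rintro ⟨h1, h2⟩
    exact ⟨h1, mem_pre.2 ⟨cent_le_Nx x h1, h2⟩⟩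

theorem lift_L (hx : orderOf x = 3) (hsurj : Function.Surjective Ψ) {σ : S4} (hσ : isV σ) :
    ∃ e ∈ Lsub Ψ, psi Ψ e = σ := by
  obtain ⟨ρ, hρ⟩ := isV_sq σ hσ
  obtain ⟨h, hh, hhρ⟩ := psi_surj hsurj ρ
  refine ⟨h ^ 2, mem_L.2 ⟨sq_mem_cent hx hh, ?_⟩, ?_⟩
  · rw [psi_pow hh, hhρ, hρ]; exact hσ
  · rw [psi_pow hh, hhρ, hρ]

theorem psi_zpowers (hψx : psi Ψ x = 1) {a : G} (ha : a ∈ zpowers x) : psi Ψ a = 1 := by
  have hxN : x ∈ Nx x := cent_le_Nx x (by rw [mem_centralizer_singleton_iff])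
  have hle : zpowers x ≤ pre Ψ ⊥ := by
    rw [Subgroup.zpowers_le]
    exact mem_pre.2 ⟨hxN, by rw [hψx]; exact Subgroup.one_mem _⟩
  exact (Subgroup.mem_bot.1 (mem_pre.1 (hle ha)).2)

theorem V_package (hx : orderOf x = 3) (hsurj : Function.Surjective Ψ) (hψx : psi Ψ x = 1) {k : ℕ}
    (hL : Nat.card (Lsub Ψ) = 3 * 2 ^ k) :
    ∃ V : Subgroup G, V ≤ Lsub Ψ ∧ Nat.card V = 2 ^ k ∧ (∀ e ∈ Lsub Ψ, e ^ (2 ^ k) = 1 → e ∈ V) ∧
      (∀ g ∈ Nx x, ∀ e ∈ V, g * e * g⁻¹ ∈ V) ∧ (∀ σ, isV σ → ∃ v ∈ V, psi Ψ v = σ) := by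
  have hxN : x ∈ Nx x := cent_le_Nx x (by rw [mem_centralizer_singleton_iff])
  have hxL : x ∈ Lsub Ψ := mem_L.2 ⟨by rw [mem_centralizer_singleton_iff], by rw [hψx]; exact isV_one⟩
  obtain ⟨V, hVL, hV, h1, h2⟩ := hall_of_central hxL hx (fun e he => by
    have := (mem_L.1 he).1
    rw [mem_centralizer_singleton_iff] at this
    exact this) hL
  refine ⟨V, hVL, hV, h1, ?_, ?_⟩
  · intro g hg e he
    have heL := mem_L.1 (hVL he)
    have heN := cent_le_Nx x heL.1
    apply h1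
    · refine mem_L.2 ⟨conj_mem_cent hx hg heL.1, ?_⟩
      rw [psi_conj hg heN]
      exact isV_conj _ _ heL.2
    · rw [conj_pow]
      have : e ^ (2 ^ k) = 1 := by
        apply orderOf_dvd_iff_pow_eq_one.1
        have := Subgroup.orderOf_dvd_natCard V he
        rwa [hV] at this
      rw [this]; group
  · intro σ hσ
    obtain ⟨e, he, hψe⟩ := lift_L hx hsurj hσ
    obtain ⟨a, ha, v, hv, rfl⟩ := h2 e he
    refine ⟨v, hv, ?_⟩
    have haN : a ∈ Nx x := (Subgroup.zpowers_le.2 hxN) ha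
    have hvN : v ∈ Nx x := cent_le_Nx x (mem_L.1 (hVL hv)).1
    rw [psi_mul haN hvN, psi_zpowers hψx ha, one_mul] at hψe
    exact hψe

theorem card_Vsub : Nat.card Vsub = 4 := by
  have h1 := Subgroup.card_mul_index Vsub
  rw [index_Vsub] at h1
  have h2 : Nat.card S4 = 24 := by
    rw [Nat.card_eq_fintype_card]
    rfl
  omega

/-- `ψ` is injective on a subgroup of order 4 of `L` mapping onto the Klein group. -/
theorem V_inj {V : Subgroup G} (hV : Nat.card V = 4) (hVL : V ≤ Lsub Ψ)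
    (hlift : ∀ σ, isV σ → ∃ v ∈ V, psi Ψ v = σ) {u w : G} (hu : u ∈ V) (hw : w ∈ V)
    (h : psi Ψ u = psi Ψ w) : u = w := by
  let f : V → Vsub := fun v => ⟨psi Ψ v, (mem_L.1 (hVL v.2)).2⟩
  have hs : Function.Surjective f := by
    rintro ⟨σ, hσ⟩
    obtain ⟨v, hv, hψ⟩ := hlift σ hσ
    exact ⟨⟨v, hv⟩, Subtype.ext hψ⟩
  have hb := hs.bijective_of_nat_card_le (by rw [hV, card_Vsub])
  have h1 : f ⟨u, hu⟩ = f ⟨w, hw⟩ := Subtype.ext h
  have h2 := hb.1 h1
  exact congrArg Subtype.val h2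

/-- The centralizer of a nontrivial element of `V` in `N`. -/
theorem card_inf_centralizer (hsurj : Function.Surjective Ψ) {V : Subgroup G} (hV : Nat.card V = 4)
    (hVL : V ≤ Lsub Ψ) (hlift : ∀ σ, isV σ → ∃ v ∈ V, psi Ψ v = σ)
    (hnorm : ∀ g ∈ Nx x, ∀ e ∈ V, g * e * g⁻¹ ∈ V) {v : G} (hv : v ∈ V) (hv1 : v ≠ 1) :
    Nat.card ↥(Nx x ⊓ centralizer ({v} : Set G)) * 3 = Nat.card (Nx x) := by
  have hvL := mem_L.1 (hVL hv)
  have hvN := cent_le_Nx x hvL.1
  have h1 : psi Ψ v ≠ 1 := by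
    intro h
    apply hv1
    apply V_inj hV hVL hlift hv V.one_mem
    rw [h, psi_one]
  have h2 := card_pre hsurj (Csub (psi Ψ v))
  rw [index_Csub hvL.2 h1] at h2
  have h3 : Nx x ⊓ centralizer ({v} : Set G) = pre Ψ (Csub (psi Ψ v)) := by
    ext g
    rw [Subgroup.mem_inf, mem_pre, mem_centralizer_singleton_iff, mem_Csub]
    constructor
    · rintro ⟨hg, hgv⟩
      refine ⟨hg, ?_⟩
      rw [← psi_mul hg hvN, ← psi_mul hvN hg, hgv]
    · rintro ⟨hg, hgv⟩
      refine ⟨hg, ?_⟩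
      have h4 : g * v * g⁻¹ = v := by
        apply V_inj hV hVL hlift (hnorm g hg v hv) hv
        rw [psi_conj hg hvN, hgv]
        group
      calc g * v = (g * v * g⁻¹) * g := by group
        _ = v * g := by rw [h4]
  rw [h3]
  exact h2

theorem card_sub_one (V : Subgroup G) : Nat.card {w : G // w ∈ V ∧ w ≠ 1} + 1 = Nat.card V := by
  classical
  haveI := Fintype.ofFinite G
  have h1 : Nat.card V = (Finset.univ.filter fun w : G => w ∈ V).card := by
    rw [Nat.card_eq_fintype_card, Fintype.card_subtype]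
  have h2 : Nat.card {w : G // w ∈ V ∧ w ≠ 1} = (Finset.univ.filter fun w : G => w ∈ V ∧ w ≠ 1).card := by
    rw [Nat.card_eq_fintype_card, Fintype.card_subtype]
  have h3 : (Finset.univ.filter fun w : G => w ∈ V) =
      insert 1 (Finset.univ.filter fun w : G => w ∈ V ∧ w ≠ 1) := by
    ext w
    simp only [Finset.mem_filter, Finset.mem_univ, true_and, Finset.mem_insert]
    constructor
    · intro h
      by_cases hw : w = 1
      · exact Or.inl hw
      · exact Or.inr ⟨h, hw⟩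
    · rintro (rfl | h)
      · exact V.one_mem
      · exact h.1
  rw [h1, h2, h3, Finset.card_insert_of_notMem]
  simp

/-- Sylow count: the number of conjugates of a subgroup of order 3 in a subgroup of order `3 m`. -/
theorem sylow_count_cent {Y : Subgroup G} {x : G} (hx : orderOf x = 3) (hxY : x ∈ Y) {m : ℕ}
    (hY : Nat.card Y = 3 * m) (hm : ¬ 3 ∣ m) :
    ∃ n, n % 3 = 1 ∧ n * Nat.card ↥(Y ⊓ Nx x) = Nat.card Y := by
  let xh : Y := ⟨x, hxY⟩
  have hxh : orderOf xh = 3 := by rw [Subgroup.orderOf_mk, hx]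
  have hS : IsPGroup 3 (zpowers xh) := by
    apply IsPGroup.of_card (n := 1)
    rw [Nat.card_zpowers, hxh, pow_one]
  obtain ⟨T, hT⟩ := hS.exists_le_sylow
  have hT3 : Nat.card (T : Subgroup Y) = 3 := by
    have := sylow_card_of_card_eq (p := 3) (a := 1) (m := m) (by rw [hY, pow_one]) hm T
    simpa using this
  have hTeq : zpowers xh = (T : Subgroup Y) := by
    apply Subgroup.eq_of_le_of_card_ge hT
    rw [hT3, Nat.card_zpowers, hxh]
  have hnorm := card_normalizer_mul_card_sylow T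
  refine ⟨Nat.card (Sylow 3 Y), ?_, ?_⟩
  · have : Nat.card (Sylow 3 Y) % 3 = 1 % 3 := card_sylow_mod
    simpa using this
  · rw [← hnorm, mul_comm]
    congr 1
    have h1 : Y ⊓ Nx x = (normalizer ((T : Subgroup Y) : Set Y)).map Y.subtype := by
      ext g
      rw [Subgroup.mem_inf, Subgroup.mem_map]
      constructor
      · rintro ⟨hgY, hgN⟩
        refine ⟨⟨g, hgY⟩, ?_, rfl⟩
        rw [← hTeq]
        apply mem_normalizer_of_conj_le
        intro y hy
        obtain ⟨k, rfl⟩ := Subgroup.mem_zpowers_iff.1 hy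
        rw [← conj_zpow]
        apply zpow_mem
        have h2 : g * x * g⁻¹ ∈ zpowers x := (mem_normalizer_iff.1 hgN x).1 (mem_zpowers x)
        obtain ⟨j, hj⟩ := Subgroup.mem_zpowers_iff.1 h2
        rw [Subgroup.mem_zpowers_iff]
        refine ⟨j, Subtype.ext ?_⟩
        simpa [xh] using hj
      · rintro ⟨⟨g', hg'⟩, hg, rfl⟩
        refine ⟨hg', ?_⟩
        rw [← hTeq] at hg
        have h2 := (mem_normalizer_iff.1 hg xh).1 (mem_zpowers xh)
        obtain ⟨j, hj⟩ := Subgroup.mem_zpowers_iff.1 h2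
        apply mem_Nx_of_conj
        rw [Subgroup.mem_zpowers_iff]
        refine ⟨j, ?_⟩
        have h3 := congrArg Subtype.val hj
        simpa [xh] using h3
    rw [h1]
    exact Nat.card_congr (Subgroup.equivMapOfInjective _ _ Y.subtype_injective).symm.toEquiv

end package

section simple

variable [IsSimpleGroup G]

/-- A subgroup of order divisible by 9 contains a Sylow 3-subgroup of `G` containing a given element
of order 3. -/
theorem exists_sylow3_in (hc : Nat.card G = 7920) {Y : Subgroup G} (hY : 9 ∣ Nat.card Y) {x : G}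
    (hx : orderOf x = 3) (hxY : x ∈ Y) : ∃ T : Sylow 3 G, x ∈ (T : Subgroup G) ∧ (T : Subgroup G) ≤ Y := by
  let xh : Y := ⟨x, hxY⟩
  have hxh : orderOf xh = 3 := by rw [Subgroup.orderOf_mk, hx]
  have hS : IsPGroup 3 (zpowers xh) := by
    apply IsPGroup.of_card (n := 1)
    rw [Nat.card_zpowers, hxh, pow_one]
  obtain ⟨T, hT⟩ := hS.exists_le_sylow
  obtain ⟨m, hm⟩ := hY
  have hm3 : ¬ 3 ∣ m := by
    rintro ⟨n, rfl⟩
    have h1 : Nat.card Y ∣ 7920 := by
      rw [← hc]; exact Subgroup.card_subgroup_dvd_card Y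
    rw [hm] at h1
    have h2 : 27 ∣ 7920 := Dvd.dvd.trans ⟨n, by ring⟩ h1
    omega
  have hT9 : Nat.card (T : Subgroup Y) = 9 := by
    have := sylow_card_of_card_eq (p := 3) (a := 2) (m := m) (by rw [hm]; norm_num) hm3 T
    simpa using this
  have hP' : IsPGroup 3 ((T : Subgroup Y).map Y.subtype) := T.isPGroup'.map _
  obtain ⟨Q, hQ⟩ := hP'.exists_le_sylow
  have hQeq : (T : Subgroup Y).map Y.subtype = (Q : Subgroup G) := by
    apply Subgroup.eq_of_le_of_card_ge hQ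
    rw [card_sylow3 hc Q, Subgroup.card_map_of_injective Y.subtype_injective, hT9]
  refine ⟨Q, ?_, ?_⟩
  · rw [← hQeq]
    exact ⟨xh, hT (mem_zpowers xh), rfl⟩
  · rw [← hQeq]
    rintro _ ⟨u, _, rfl⟩
    exact u.2

theorem cases_48 (k : ℕ) (h : k ∣ 165) (h5 : ¬ 5 ∣ 48 * k) (h11 : ¬ 11 ∣ 48 * k) : k = 1 ∨ k = 3 := by
  have hk : k ≤ 165 := Nat.le_of_dvd (by norm_num) h
  interval_cases k <;> omega

/-- Given `K ≤ C(x)` the preimage of the Klein group lies in `C(x)`. -/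
theorem L_eq_of_K_le {x : G} {Ψ : Nx x →* S4} (hx : orderOf x = 3) (hsurj : Function.Surjective Ψ)
    (hKM : ∀ e ∈ Nx x, psi Ψ e = 1 → e ∈ centralizer ({x} : Set G)) :
    Nat.card (Lsub Ψ) * 6 = Nat.card (Nx x) := by
  have h1 := card_pre hsurj Vsub
  rw [index_Vsub] at h1
  have h2 : Lsub Ψ = pre Ψ Vsub := by
    apply inf_eq_right.2
    intro e he
    obtain ⟨heN, heV⟩ := mem_pre.1 he
    obtain ⟨ρ, hρ⟩ := isV_sq _ (show isV (psi Ψ e) from heV)
    obtain ⟨h, hh, hψh⟩ := psi_surj hsurj ρ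
    have h3 : h ^ 2 ∈ centralizer ({x} : Set G) := sq_mem_cent hx hh
    have h4 : h ^ 2 ∈ Nx x := pow_mem hh 2
    have h5 : (h ^ 2)⁻¹ * e ∈ centralizer ({x} : Set G) := by
      apply hKM _ (mul_mem (inv_mem h4) heN)
      rw [psi_mul (inv_mem h4) heN, psi_inv h4, psi_pow hh, hψh, hρ]
      group
    have h6 : e = h ^ 2 * ((h ^ 2)⁻¹ * e) := by group
    rw [h6]
    exact mul_mem h3 h5
  rw [h2]
  exact h1

/-- The case `|N(⟨x⟩)| = 72`. -/
theorem kill_72 (hc : Nat.card G = 7920) {x : G} (hx : orderOf x = 3) {Ψ : Nx x →* S4}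
    (hsurj : Function.Surjective Ψ) (hψx : psi Ψ x = 1)
    (hfix : ∀ P' : Sylow 3 G, x ∈ (P' : Subgroup G) → ∀ g ∈ Nx x,
      g ∈ normalizer ((P' : Subgroup G) : Set G) → ∃ a, psi Ψ g a = a)
    (hN : Nat.card (Nx x) = 72) : False := by
  classical
  have hxN : x ∈ Nx x := cent_le_Nx x (by rw [mem_centralizer_singleton_iff])
  have hK := card_pre hsurj (⊥ : Subgroup S4)
  rw [index_bot, hN] at hK
  have hK3 : Nat.card (pre Ψ ⊥) = 3 := by omega
  have hXK : zpowers x ≤ pre Ψ ⊥ := by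
    rw [Subgroup.zpowers_le]
    exact mem_pre.2 ⟨hxN, by rw [hψx]; exact Subgroup.one_mem _⟩
  have hKeq : zpowers x = pre Ψ ⊥ := by
    apply Subgroup.eq_of_le_of_card_ge hXK
    rw [hK3, Nat.card_zpowers, hx]
  have hKM : ∀ e ∈ Nx x, psi Ψ e = 1 → e ∈ centralizer ({x} : Set G) := by
    intro e heN he
    have h1 : e ∈ pre Ψ ⊥ := mem_pre.2 ⟨heN, by rw [he]; exact Subgroup.one_mem _⟩
    rw [← hKeq] at h1
    obtain ⟨k, rfl⟩ := Subgroup.mem_zpowers_iff.1 h1
    rw [mem_centralizer_singleton_iff]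
    exact (Commute.zpow_left (Commute.refl x) k)
  have hL := L_eq_of_K_le hx hsurj hKM
  rw [hN] at hL
  obtain ⟨V, hVL, hV, hVall, hVnorm, hVlift⟩ := V_package hx hsurj hψx (k := 2) (by omega)
  have hV4 : Nat.card V = 4 := by rw [hV]; norm_num
  let σ₀ : S4 := Equiv.swap 0 1 * Equiv.swap 2 3
  have hσ₀ : isV σ₀ := by decide +kernel
  have hσ₀1 : σ₀ ≠ 1 := by decide +kernel
  have hσ₀f : ∀ a, σ₀ a ≠ a := by decide +kernel
  obtain ⟨v, hv, hψv⟩ := hVlift σ₀ hσ₀
  have hvL := mem_L.1 (hVL hv)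
  have hvN := cent_le_Nx x hvL.1
  have hv1 : v ≠ 1 := by
    rintro rfl
    rw [psi_one] at hψv
    exact hσ₀1 hψv.symm
  have hv2 : v ^ 2 = 1 := by
    apply V_inj hV4 hVL hVlift (pow_mem hv 2) V.one_mem
    rw [psi_pow hvN, psi_one, hψv]
    decide +kernel
  have hxC : x ∈ centralizer ({v} : Set G) := by
    have := hvL.1
    rw [mem_centralizer_singleton_iff] at this ⊢
    exact this.symm
  have hcount : Nat.card {w : G // IsConj v w ∧ w ∈ V} = 3 := by
    have h1 := card_sub_one V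
    rw [hV4] at h1
    have h2 : Nat.card {w : G // IsConj v w ∧ w ∈ V} = Nat.card {w : G // w ∈ V ∧ w ≠ 1} := by
      apply Nat.card_congr
      apply Equiv.subtypeEquivRight
      intro w
      constructor
      · rintro ⟨h3, h4⟩
        refine ⟨h4, ?_⟩
        rintro rfl
        exact hv1 (isConj_one_right.1 h3.symm)
      · rintro ⟨h3, h4⟩
        refine ⟨?_, h3⟩
        have h5 : psi Ψ w ≠ 1 := by
          intro h
          apply h4
          apply V_inj hV4 hVL hVlift h3 V.one_mem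
          rw [h, psi_one]
        obtain ⟨ρ, hρ⟩ := isV_trans (psi Ψ v) (psi Ψ w) hvL.2 (mem_L.1 (hVL h3)).2
          (by rw [hψv]; exact hσ₀1) h5
        obtain ⟨g, hg, hψg⟩ := psi_surj hsurj ρ
        rw [isConj_iff]
        refine ⟨g, ?_⟩
        apply V_inj hV4 hVL hVlift (hVnorm g hg v hv) h3
        rw [psi_conj hg hvN, hψg, hρ]
    omega
  have hfixf := card_fixedBy_quotient V v
  have hmod := fix_mod4 hc V hv2
  have hidx := Subgroup.card_mul_index V
  rw [hV4, hc] at hidx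
  have hidx' : V.index = 1980 := by omega
  rw [hidx'] at hmod
  rw [hV4, hcount] at hfixf
  set f := Nat.card (MulAction.fixedBy (G ⧸ V) v) with hf
  set n := Nat.card (centralizer ({v} : Set G)) with hn
  have h16 : 16 ∣ n := by omega
  have h3 : 3 ∣ n := by
    have h4 := Subgroup.orderOf_dvd_natCard (centralizer ({v} : Set G)) hxC
    rwa [hx] at h4
  obtain ⟨h5, h11⟩ := centralizer_of_two_three hc hv1 hv2 (by norm_num) (by norm_num)
  rw [← hn] at h5 h11
  have hdvd : n ∣ 7920 := by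
    rw [← hc]
    exact Subgroup.card_subgroup_dvd_card _
  obtain ⟨k, hk⟩ : 48 ∣ n := by
    have : Nat.Coprime 16 3 := by norm_num
    rw [show 48 = 16 * 3 by norm_num]
    exact this.mul_dvd_of_dvd_of_dvd h16 h3
  have hk165 : k ∣ 165 := by
    rw [hk] at hdvd
    have : 48 * k ∣ 48 * 165 := hdvd
    exact Nat.dvd_of_mul_dvd_mul_left (by norm_num) this
  rw [hk] at h5 h11
  rcases cases_48 k hk165 h5 h11 with rfl | rfl
  · have h1 := card_inf_centralizer hsurj hV4 hVL hVlift hVnorm hv hv1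
    rw [hN] at h1
    have hn48 : Nat.card (centralizer ({v} : Set G)) = 3 * 16 := by rw [← hn, hk]
    obtain ⟨n₃, h2, h4⟩ := sylow_count_cent hx hxC hn48 (by norm_num)
    rw [inf_comm, hn48] at h4
    have h6 : Nat.card ↥(Nx x ⊓ centralizer ({v} : Set G)) = 24 := by omega
    rw [h6] at h4
    omega
  · have hn144 : 9 ∣ Nat.card (centralizer ({v} : Set G)) := by rw [← hn, hk]; norm_num
    obtain ⟨T, hxT, hTY⟩ := exists_sylow3_in hc hn144 hx hxC
    have hvT : v ∈ normalizer ((T : Subgroup G) : Set G) := by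
      apply mem_normalizer_of_conj_le
      intro u hu
      have h1 := hTY hu
      rw [mem_centralizer_singleton_iff] at h1
      have h2 : v * u * v⁻¹ = u := by rw [← h1]; group
      rw [h2]
      exact hu
    obtain ⟨a, ha⟩ := hfix T hxT v hvN hvT
    rw [hψv] at ha
    exact hσ₀f a ha

theorem card_centralizer_of_isConj {a b : G} (h : IsConj a b) :
    Nat.card (centralizer ({b} : Set G)) = Nat.card (centralizer ({a} : Set G)) := by
  obtain ⟨c, rfl⟩ := isConj_iff.1 h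
  exact card_centralizer_conj a c

theorem sq_of_isConj {a b : G} (h : IsConj a b) (ha : a ^ 2 = 1) : b ^ 2 = 1 := by
  obtain ⟨c, rfl⟩ := isConj_iff.1 h
  rw [conj_pow, ha]; simp

theorem ne_one_of_isConj {a b : G} (h : IsConj a b) (ha : a ≠ 1) : b ≠ 1 := by
  rintro rfl
  exact ha (isConj_one_right.1 h.symm)

/-- Subgroups of order 2 have a unique nontrivial element. -/
theorem eq_of_card_two {V : Subgroup G} (hV : Nat.card V = 2) {a b : G} (ha : a ∈ V) (hb : b ∈ V)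
    (ha1 : a ≠ 1) (hb1 : b ≠ 1) : a = b := by
  have h1 := zpowers_eq_of_mem_of_ne_one (by norm_num) hV ha ha1
  have h2 := orderOf_eq_of_mem_of_ne_one (by norm_num) hV ha ha1
  have h3 : b ∈ zpowers a := by rw [h1]; exact hb
  obtain ⟨k, rfl⟩ := Subgroup.mem_zpowers_iff.1 h3
  have h4 : a ^ 2 = 1 := by rw [← h2]; exact pow_orderOf_eq_one a
  rcases Int.even_or_odd' k with ⟨m, rfl | rfl⟩
  · exfalso
    apply hb1
    rw [zpow_mul]
    have : a ^ (2 : ℤ) = 1 := by exact_mod_cast h4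
    rw [this]; simp
  · rw [zpow_add, zpow_mul]
    have : a ^ (2 : ℤ) = 1 := by exact_mod_cast h4
    rw [this]; simp

/-- The Sylow 2-subgroup containing a given subgroup of order 16. -/
theorem exists_sylow2_of_card (hc : Nat.card G = 7920) {S : Subgroup G} (hS : Nat.card S = 16) :
    ∃ T : Sylow 2 G, (T : Subgroup G) = S := by
  have hp : IsPGroup 2 S := IsPGroup.of_card (n := 4) (by rw [hS]; norm_num)
  obtain ⟨T, hT⟩ := hp.exists_le_sylow
  refine ⟨T, (Subgroup.eq_of_le_of_card_ge hT ?_).symm⟩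
  have := sylow_card_of_card_eq (p := 2) (a := 4) (m := 495) (by rw [hc]; norm_num) (by norm_num) T
  rw [this, hS]; norm_num

/-- The central involution in a prescribed Sylow 2-subgroup. -/
theorem exists_z_in (hc : Nat.card G = 7920) (T : Sylow 2 G) :
    ∃ z ∈ (T : Subgroup G), z ^ 2 = 1 ∧ z ≠ 1 ∧ (Nat.card (centralizer ({z} : Set G)) = 16 ∨
      Nat.card (centralizer ({z} : Set G)) = 48) ∧ ∀ u ∈ (T : Subgroup G), u * z = z * u := by
  obtain ⟨z₀, hz2, hz1, hzC⟩ := exists_z hc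
  have h16 : 2 ^ 4 ∣ Nat.card (centralizer ({z₀} : Set G)) := by
    rcases hzC with h | h <;> rw [h] <;> norm_num
  obtain ⟨S₀, hS₀, hS₀c⟩ := exists_subgroup_le_card (q := 2) (a := 4) _ h16
  obtain ⟨T₀, hT₀⟩ := exists_sylow2_of_card hc (S := S₀) (by rw [hS₀c]; norm_num)
  have hz₀N : z₀ ∈ normalizer ((T₀ : Subgroup G) : Set G) := by
    apply mem_normalizer_of_conj_le
    intro u hu
    rw [hT₀] at hu ⊢
    have h1 := hS₀ hu
    rw [mem_centralizer_singleton_iff] at h1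
    have h2 : z₀ * u * z₀⁻¹ = u := by rw [← h1]; group
    rw [h2]; exact hu
  have hp : IsPGroup 2 (zpowers z₀) := by
    apply IsPGroup.of_card (n := 1)
    rw [Nat.card_zpowers, orderOf_eq_prime hz2 hz1, pow_one]
  have hz₀T := mem_sylow_of_mem_normalizer T₀ hp hz₀N
  obtain ⟨c, rfl⟩ := MulAction.exists_smul_eq G T₀ T
  refine ⟨c * z₀ * c⁻¹, ?_, ?_, ?_, ?_, ?_⟩
  · rw [mem_smul_sylow_iff]
    have : c⁻¹ * (c * z₀ * c⁻¹) * c = z₀ := by group
    rw [this]; exact hz₀T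
  · rw [conj_pow, hz2]; simp
  · apply ne_one_of_isConj (isConj_iff.2 ⟨c, rfl⟩) hz1
  · rw [card_centralizer_conj]; exact hzC
  · intro u hu
    rw [mem_smul_sylow_iff] at hu
    rw [hT₀] at hu
    have h1 := hS₀ hu
    rw [mem_centralizer_singleton_iff] at h1
    calc u * (c * z₀ * c⁻¹) = c * ((c⁻¹ * u * c) * z₀) * c⁻¹ := by group
      _ = c * (z₀ * (c⁻¹ * u * c)) * c⁻¹ := by rw [← h1]
      _ = _ := by group

/-- The case `|N(⟨x⟩)| = 144` with `K ≤ C(x)`. -/
theorem kill_144a (hc : Nat.card G = 7920) {x : G} (hx : orderOf x = 3) {Ψ : Nx x →* S4}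
    (hsurj : Function.Surjective Ψ) (hψx : psi Ψ x = 1) (hN : Nat.card (Nx x) = 144)
    (hKM : ∀ e ∈ Nx x, psi Ψ e = 1 → e ∈ centralizer ({x} : Set G)) : False := by
  classical
  have hxN : x ∈ Nx x := cent_le_Nx x (by rw [mem_centralizer_singleton_iff])
  have hK := card_pre hsurj (⊥ : Subgroup S4)
  rw [index_bot, hN] at hK
  have hK6 : Nat.card (pre Ψ ⊥) = 6 := by omega
  have hmemK : ∀ {e}, e ∈ pre Ψ ⊥ ↔ e ∈ Nx x ∧ psi Ψ e = 1 := by
    intro e
    rw [mem_pre, Subgroup.mem_bot]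
  have hxK : x ∈ pre Ψ ⊥ := hmemK.2 ⟨hxN, hψx⟩
  -- the involution `t` of `K`
  obtain ⟨W, hWK, hW, hWall, -⟩ := hall_of_central (L := pre Ψ ⊥) (k := 1) hxK hx (fun e he => by
    have := hKM e (hmemK.1 he).1 (hmemK.1 he).2
    rw [mem_centralizer_singleton_iff] at this
    exact this) (by rw [hK6]; norm_num)
  have hW2 : Nat.card W = 2 := by rw [hW]; norm_num
  obtain ⟨t, htW, ht1⟩ : ∃ t ∈ W, t ≠ 1 := by
    have : Nontrivial W := by rw [← Finite.one_lt_card_iff_nontrivial, hW2]; norm_num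
    obtain ⟨⟨a, ha⟩, ha1⟩ := exists_ne (1 : W)
    exact ⟨a, ha, fun h => ha1 (Subtype.ext h)⟩
  have ht2 : t ^ 2 = 1 := by
    apply orderOf_dvd_iff_pow_eq_one.1
    have := Subgroup.orderOf_dvd_natCard W htW
    rwa [hW2] at this
  have htK := hWK htW
  have htN := (hmemK.1 htK).1
  have hψt := (hmemK.1 htK).2
  have hKinv : ∀ e ∈ pre Ψ ⊥, e ^ 2 = 1 → e = 1 ∨ e = t := by
    intro e he he2
    by_cases h1 : e = 1
    · exact Or.inl h1
    · exact Or.inr (eq_of_card_two hW2 (hWall e he (by simpa using he2)) htW h1 ht1)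
  have htcentral : ∀ g ∈ Nx x, g * t = t * g := by
    intro g hg
    have h1 : g * t * g⁻¹ ∈ pre Ψ ⊥ := by
      refine hmemK.2 ⟨mul_mem (mul_mem hg htN) (inv_mem hg), ?_⟩
      rw [psi_conj hg htN, hψt]
      group
    have h2 : (g * t * g⁻¹) ^ 2 = 1 := by rw [conj_pow, ht2]; simp
    rcases hKinv _ h1 h2 with h3 | h3
    · exfalso
      apply ht1
      have : t = g⁻¹ * (g * t * g⁻¹) * g := by group
      rw [this, h3]; simp
    · calc g * t = (g * t * g⁻¹) * g := by group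
        _ = t * g := by rw [h3]
  -- the centralizer of `t`
  have hCt : Nat.card (centralizer ({t} : Set G)) = 144 := by
    have hle : Nx x ≤ centralizer ({t} : Set G) := by
      intro g hg
      rw [mem_centralizer_singleton_iff]
      exact htcentral g hg
    have h1 := Subgroup.card_dvd_of_le hle
    rw [hN] at h1
    obtain ⟨k, hk⟩ := h1
    obtain ⟨h5, h11⟩ := centralizer_of_two_three hc ht1 ht2 (by norm_num) (by norm_num)
    rw [hk] at h5 h11
    have hdvd : Nat.card (centralizer ({t} : Set G)) ∣ 7920 := by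
      rw [← hc]
      exact Subgroup.card_subgroup_dvd_card _
    rw [hk] at hdvd
    have hk55 : k ∣ 55 := by
      have : 144 * k ∣ 144 * 55 := hdvd
      exact Nat.dvd_of_mul_dvd_mul_left (by norm_num) this
    have hk1 : k = 1 := by
      have hk' : k ≤ 55 := Nat.le_of_dvd (by norm_num) hk55
      interval_cases k <;> omega
    rw [hk, hk1]
  have hL := L_eq_of_K_le hx hsurj hKM
  rw [hN] at hL
  obtain ⟨J, hJL, hJ, hJall, hJnorm, hJlift⟩ := V_package hx hsurj hψx (k := 3) (by omega)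
  have hJ8 : Nat.card J = 8 := by rw [hJ]; norm_num
  have hJN : ∀ {e}, e ∈ J → e ∈ Nx x := fun he => cent_le_Nx x (mem_L.1 (hJL he)).1
  have hJpow : ∀ {e}, e ∈ J → e ^ 8 = 1 := by
    intro e he
    apply orderOf_dvd_iff_pow_eq_one.1
    have := Subgroup.orderOf_dvd_natCard J he
    rwa [hJ8] at this
  -- elements of `J` in the kernel
  have hJ1 : ∀ e ∈ J, psi Ψ e = 1 → e = 1 ∨ e = t := by
    intro e he hψe
    have heK : e ∈ pre Ψ ⊥ := hmemK.2 ⟨hJN he, hψe⟩
    apply hKinv e heK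
    have h6 : e ^ 6 = 1 := by
      apply orderOf_dvd_iff_pow_eq_one.1
      have := Subgroup.orderOf_dvd_natCard (pre Ψ ⊥) heK
      rwa [hK6] at this
    have h8 := hJpow he
    calc e ^ 2 = e ^ 8 * (e ^ 6)⁻¹ := by group
      _ = 1 := by rw [h6, h8]; simp
  -- a Sylow 2-subgroup in `N`
  obtain ⟨S₁, hS₁N, hS₁⟩ := exists_subgroup_le_card (q := 2) (a := 4) (Nx x) (by rw [hN]; norm_num)
  have hS₁16 : Nat.card S₁ = 16 := by rw [hS₁]; norm_num
  obtain ⟨T, hT⟩ := exists_sylow2_of_card hc hS₁16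
  have hJS : J ≤ S₁ := by
    have hpS : IsPGroup 2 S₁ := IsPGroup.of_card (n := 4) (by rw [hS₁])
    have hpJ : IsPGroup 2 J := IsPGroup.of_card (n := 3) (by rw [hJ])
    have hle : S₁ ≤ normalizer (J : Set G) := by
      intro g hg
      exact mem_normalizer_of_conj_le (fun y hy => hJnorm g (hS₁N hg) y hy)
    have hsup := hpS.to_sup_of_normal_right' hpJ hle
    obtain ⟨Q, hQ⟩ := hsup.exists_le_sylow
    have hQ16 : Nat.card (Q : Subgroup G) = 16 := by
      have := sylow_card_of_card_eq (p := 2) (a := 4) (m := 495) (by rw [hc]; norm_num) (by norm_num) Q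
      simpa using this
    have hSQ : S₁ = (Q : Subgroup G) := by
      apply Subgroup.eq_of_le_of_card_ge (le_sup_left.trans hQ)
      rw [hQ16, hS₁16]
    rw [hSQ]
    exact le_sup_right.trans hQ
  obtain ⟨z, hzT, hz2, hz1, hzC, hzcomm⟩ := exists_z_in hc T
  rw [hT] at hzT hzcomm
  have hzN := hS₁N hzT
  have hzne : ∀ u, IsConj z u → ¬ IsConj t u := by
    intro u h1 h2
    have h3 := card_centralizer_of_isConj h1
    have h4 := card_centralizer_of_isConj h2
    rw [hCt] at h4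
    rw [h4] at h3
    rcases hzC with h | h <;> omega
  have hψz1 : psi Ψ z ≠ 1 := by
    intro h
    rcases hKinv z (hmemK.2 ⟨hzN, h⟩) hz2 with h1 | h1
    · exact hz1 h1
    · rw [h1] at hzne
      exact hzne t (IsConj.refl _) (IsConj.refl _)
  have hψzV : isV (psi Ψ z) := by
    by_contra hcon
    obtain ⟨τ, hτ, hτ2⟩ := not_isV_exists _ hcon
    obtain ⟨v, hv, hψv⟩ := hJlift τ hτ
    apply hτ2
    rw [← hψv]
    have h1 := hzcomm v (hJS hv)
    rw [← psi_conj hzN (hJN hv)]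
    have h2 : z * v * z⁻¹ = v := by rw [← h1]; group
    rw [h2]
  have hLmem : ∀ {e}, e ∈ Nx x → isV (psi Ψ e) → e ∈ Lsub Ψ := by
    intro e he hv
    refine mem_L.2 ⟨?_, hv⟩
    obtain ⟨ρ, hρ⟩ := isV_sq _ hv
    obtain ⟨h, hh, hψh⟩ := psi_surj hsurj ρ
    have h3 : h ^ 2 ∈ centralizer ({x} : Set G) := sq_mem_cent hx hh
    have h4 : h ^ 2 ∈ Nx x := pow_mem hh 2
    have h5 : (h ^ 2)⁻¹ * e ∈ centralizer ({x} : Set G) := by
      apply hKM _ (mul_mem (inv_mem h4) he)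
      rw [psi_mul (inv_mem h4) he, psi_inv h4, psi_pow hh, hψh, hρ]
      group
    have h6 : e = h ^ 2 * ((h ^ 2)⁻¹ * e) := by group
    rw [h6]
    exact mul_mem h3 h5
  have hzJ : z ∈ J := by
    apply hJall z (hLmem hzN hψzV)
    have : z ^ (2 ^ 3) = (z ^ 2) ^ 4 := by rw [← pow_mul]; norm_num
    rw [this, hz2]; simp
  -- structure of `J`
  have hJ2 : ∀ e ∈ J, psi Ψ e ≠ 1 → ∃ z' ∈ J, IsConj z z' ∧ psi Ψ z' = psi Ψ e ∧ (e = z' ∨ e = t * z') := by
    intro e he hψe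
    have heV := (mem_L.1 (hJL he)).2
    obtain ⟨ρ, hρ⟩ := isV_trans _ _ hψzV heV hψz1 hψe
    obtain ⟨g, hg, hψg⟩ := psi_surj hsurj ρ
    have hz'J := hJnorm g hg z hzJ
    have hψz' : psi Ψ (g * z * g⁻¹) = psi Ψ e := by
      rw [psi_conj hg hzN, hψg, hρ]
    refine ⟨g * z * g⁻¹, hz'J, isConj_iff.2 ⟨g, rfl⟩, hψz', ?_⟩
    set z' := g * z * g⁻¹ with hz'
    have hz'N := hJN hz'J
    have h1 : e * z'⁻¹ ∈ J := mul_mem he (inv_mem hz'J)
    have h2 : psi Ψ (e * z'⁻¹) = 1 := by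
      rw [psi_mul (hJN he) (inv_mem hz'N), psi_inv hz'N, hψz']
      group
    rcases hJ1 _ h1 h2 with h3 | h3
    · left
      exact mul_inv_eq_one.1 h3
    · right
      exact mul_inv_eq_iff_eq_mul.1 h3
  have hJinv : ∀ e ∈ J, e ^ 2 = 1 := by
    intro e he
    by_cases hψe : psi Ψ e = 1
    · rcases hJ1 e he hψe with h | h
      · rw [h]; simp
      · rw [h]; exact ht2
    · obtain ⟨z', hz'J, hz'c, -, h⟩ := hJ2 e he hψe
      have hz'2 := sq_of_isConj hz'c hz2
      rcases h with h | h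
      · rw [h]; exact hz'2
      · have hcm : Commute t z' := (htcentral z' (hJN hz'J)).symm
        rw [h, hcm.mul_pow, ht2, hz'2, one_mul]
  have hJcomm : ∀ u ∈ J, ∀ w ∈ J, u * w = w * u := by
    intro u hu w hw
    have h1 := hJinv _ (mul_mem hu hw)
    have h2 := hJinv _ hu
    have h3 := hJinv _ hw
    rw [sq] at h1 h2 h3
    have h5 : u⁻¹ = u := by rw [inv_eq_iff_mul_eq_one]; exact h2
    have h6 : w⁻¹ = w := by rw [inv_eq_iff_mul_eq_one]; exact h3
    have h7 : (u * w)⁻¹ = u * w := inv_eq_of_mul_eq_one_left h1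
    rw [← h7, mul_inv_rev, h5, h6]
  -- parity in J
  have hCt' : Nat.card (centralizer ({t} : Set G)) = 16 * (2 * 4 + 1) := by rw [hCt]
  have hodd := parity_card8 hc hJ8 ht2 hCt'
  have hpow8 : ∀ {e : G}, e ^ 2 = 1 → e ^ (2 ^ 3) = 1 := by
    intro e he
    have : e ^ (2 ^ 3) = (e ^ 2) ^ 4 := by rw [← pow_mul]; norm_num
    rw [this, he]; simp
  have htJ : t ∈ J := hJall t (mem_L.2 ⟨hKM t htN hψt, by rw [hψt]; exact isV_one⟩) (hpow8 ht2)
  have hTJ : ∀ w ∈ J, IsConj t w → w = t := by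
    intro w₀ hw₀ hw₀t
    by_contra hw₀ne
    have hw₀1 : psi Ψ w₀ ≠ 1 := by
      intro h
      rcases hJ1 w₀ hw₀ h with h1 | h1
      · exact ne_one_of_isConj hw₀t ht1 h1
      · exact hw₀ne h1
    let f : {w : G // IsConj t w ∧ w ∈ J} → Vsub := fun w => ⟨psi Ψ w.1, (mem_L.1 (hJL w.2.2)).2⟩
    have hfinj : Function.Injective f := by
      rintro ⟨a, ha1, ha2⟩ ⟨b, hb1, hb2⟩ hab
      have hab' : psi Ψ a = psi Ψ b := congrArg Subtype.val hab
      apply Subtype.ext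
      show a = b
      by_cases hψa : psi Ψ a = 1
      · have hψb : psi Ψ b = 1 := by rw [← hab']; exact hψa
        rcases hJ1 a ha2 hψa with h1 | h1
        · exact absurd h1 (ne_one_of_isConj ha1 ht1)
        · rcases hJ1 b hb2 hψb with h2 | h2
          · exact absurd h2 (ne_one_of_isConj hb1 ht1)
          · rw [h1, h2]
      · have hψb : psi Ψ b ≠ 1 := by rw [← hab']; exact hψa
        obtain ⟨za, hza, hzac, hzaψ, h1⟩ := hJ2 a ha2 hψa
        obtain ⟨zb, hzb, hzbc, hzbψ, h2⟩ := hJ2 b hb2 hψb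
        have h3 : a = t * za := by
          rcases h1 with h | h
          · exact absurd ha1 (by rw [h]; exact hzne _ hzac)
          · exact h
        have h4 : b = t * zb := by
          rcases h2 with h | h
          · exact absurd hb1 (by rw [h]; exact hzne _ hzbc)
          · exact h
        have h5 : zb * za⁻¹ ∈ J := mul_mem hzb (inv_mem hza)
        have h6 : psi Ψ (zb * za⁻¹) = 1 := by
          rw [psi_mul (hJN hzb) (inv_mem (hJN hza)), psi_inv (hJN hza), hzaψ, hzbψ, ← hab']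
          group
        rcases hJ1 _ h5 h6 with h7 | h7
        · have : zb = za := mul_inv_eq_one.1 h7
          rw [h3, h4, this]
        · exfalso
          have h8 : zb = t * za := mul_inv_eq_iff_eq_mul.1 h7
          have h9 : b = za := by rw [h4, h8, ← mul_assoc, ← sq, ht2, one_mul]
          exact hzne za hzac (h9 ▸ hb1)
    have hfsurj : Function.Surjective f := by
      rintro ⟨σ, hσ⟩
      by_cases hσ1 : σ = 1
      · refine ⟨⟨t, IsConj.refl _, htJ⟩, Subtype.ext ?_⟩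
        show psi Ψ t = σ
        rw [hψt, hσ1]
      · obtain ⟨ρ, hρ⟩ := isV_trans _ _ (mem_L.1 (hJL hw₀)).2 hσ hw₀1 hσ1
        obtain ⟨g, hg, hψg⟩ := psi_surj hsurj ρ
        refine ⟨⟨g * w₀ * g⁻¹, hw₀t.trans (isConj_iff.2 ⟨g, rfl⟩), hJnorm g hg w₀ hw₀⟩, Subtype.ext ?_⟩
        show psi Ψ (g * w₀ * g⁻¹) = σ
        rw [psi_conj hg (hJN hw₀), hψg, hρ]
    have hcard := Nat.card_congr (Equiv.ofBijective f ⟨hfinj, hfsurj⟩)
    rw [card_Vsub] at hcard
    rw [hcard] at hodd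
    exact absurd hodd (by decide)
  -- parity on S₁
  have hfixS := card_fixedBy_quotient S₁ t
  have hmodS := fix_mod4 hc S₁ ht2
  have hidxS := Subgroup.card_mul_index S₁
  rw [hS₁16, hc] at hidxS
  have hidxS' : S₁.index = 495 := by omega
  rw [hidxS'] at hmodS
  rw [hS₁16, hCt] at hfixS
  have haS : Nat.card {w : G // IsConj t w ∧ w ∈ S₁} % 4 = 3 := by omega
  obtain ⟨i, hit, hiS, hine⟩ : ∃ i, IsConj t i ∧ i ∈ S₁ ∧ i ≠ t := by
    by_contra hcon
    push Not at hcon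
    have h1 : Nat.card {w : G // IsConj t w ∧ w ∈ S₁} ≤ 1 :=
      Finite.card_le_one_iff_subsingleton.2 ⟨fun a b => Subtype.ext (by
        rw [hcon a.1 a.2.1 a.2.2, hcon b.1 b.2.1 b.2.2])⟩
    omega
  have hiN := hS₁N hiS
  have hi2 := sq_of_isConj hit ht2
  have hi1 := ne_one_of_isConj hit ht1
  have hiJ : i ∉ J := fun h => hine (hTJ i h hit)
  have hiV : ¬ isV (psi Ψ i) := by
    intro hv
    exact hiJ (hJall i (hLmem hiN hv) (hpow8 hi2))
  obtain ⟨τ, hτ, hτ2⟩ := not_isV_exists _ hiV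
  obtain ⟨e, he, hψe⟩ := hJlift τ hτ
  have hτ1 : τ ≠ 1 := by
    rintro rfl
    apply hτ2
    group
  set e' := i * e * i⁻¹ with he'
  have he'J : e' ∈ J := hJnorm i hiN e he
  have hψe' : psi Ψ e' = psi Ψ i * τ * (psi Ψ i)⁻¹ := by
    rw [he', psi_conj hiN (hJN he), hψe]
  have hne : e ≠ e' := by
    intro h
    apply hτ2
    rw [← hψe', ← h, hψe]
  have he1 : e ≠ 1 := by
    rintro rfl
    rw [psi_one] at hψe
    exact hτ1 hψe.symm
  have hCi : Nat.card (centralizer ({i} : Set G)) = 16 * (2 * 4 + 1) := by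
    rw [card_centralizer_of_isConj hit, hCt]
  have hψne : ∀ w ∈ J, psi Ψ w ≠ 1 → ¬ IsConj i w := fun w hw h1 h2 =>
    h1 (by rw [hTJ w hw (hit.trans h2), hψt])
  have hψ1 : psi Ψ e ≠ 1 := by rw [hψe]; exact hτ1
  have hψ2 : psi Ψ e' ≠ 1 := by
    intro h
    apply hτ1
    have h3 : psi Ψ i * τ * (psi Ψ i)⁻¹ = 1 := by rw [← hψe', h]
    have h4 : τ = (psi Ψ i)⁻¹ * (psi Ψ i * τ * (psi Ψ i)⁻¹) * psi Ψ i := by group
    rw [h4, h3]; group
  have hψ3 : psi Ψ (e * e') ≠ 1 := by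
    rw [psi_mul (hJN he) (hJN he'J), hψe]
    intro h
    apply hτ2
    rw [← hψe']
    have h3 : τ ^ 2 = 1 := isV_sq_one τ hτ
    have h4 : τ⁻¹ = τ := by rw [inv_eq_iff_mul_eq_one, ← sq]; exact h3
    have h5 : τ⁻¹ = psi Ψ e' := inv_eq_of_mul_eq_one_right h
    rw [← h5, h4]
  exact d8_end hc hi2 hi1 (hJinv e he) (hJinv e' he'J) (hJcomm e he e' he'J) rfl hne he1
    (hψne e he hψ1) (hψne e' he'J hψ2) (hψne _ (mul_mem he he'J) hψ3) hCi

theorem exists_mem_not_zpowers (hc : Nat.card G = 7920) (P : Sylow 3 G) {x : G} (hx : orderOf x = 3) :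
    ∃ y ∈ (P : Subgroup G), y ∉ zpowers x := by
  by_contra hcon
  push Not at hcon
  have h1 : (P : Subgroup G) ≤ zpowers x := hcon
  have h2 := Nat.card_le_card_of_injective _ (Subgroup.inclusion_injective h1)
  rw [card_sylow3 hc, Nat.card_zpowers, hx] at h2
  omega

/-- The case `|N(⟨x⟩)| = 144` with `K` not in `C(x)`. -/
theorem kill_144b (hc : Nat.card G = 7920) {x : G} (hx : orderOf x = 3) {Ψ : Nx x →* S4}
    (hsurj : Function.Surjective Ψ) (hψx : psi Ψ x = 1) (hN : Nat.card (Nx x) = 144)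
    {P : Sylow 3 G} (hxP : x ∈ (P : Subgroup G))
    (hone : ∀ y ∈ (P : Subgroup G), y ∉ zpowers x → ∃ a, psi Ψ y a = a ∧ ∀ b, psi Ψ y b = b → b = a)
    {i₁ : G} (hi₁N : i₁ ∈ Nx x) (hi₁ψ : psi Ψ i₁ = 1) (hi₁M : i₁ ∉ centralizer ({x} : Set G)) :
    False := by
  classical
  have hxN : x ∈ Nx x := cent_le_Nx x (by rw [mem_centralizer_singleton_iff])
  have hx1 : x ≠ 1 := by rintro rfl; simp at hx
  have hx3 : x ^ 3 = 1 := by rw [← hx]; exact pow_orderOf_eq_one x
  set M := centralizer ({x} : Set G) with hMdef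
  have hMN : M ≤ Nx x := cent_le_Nx x
  have hK := card_pre hsurj (⊥ : Subgroup S4)
  rw [index_bot, hN] at hK
  have hK6 : Nat.card (pre Ψ ⊥) = 6 := by omega
  have hmemK : ∀ {e}, e ∈ pre Ψ ⊥ ↔ e ∈ Nx x ∧ psi Ψ e = 1 := by
    intro e
    rw [mem_pre, Subgroup.mem_bot]
  have hxK : x ∈ pre Ψ ⊥ := hmemK.2 ⟨hxN, hψx⟩
  have hmemM : ∀ g ∈ Nx x, g ∈ M ↔ g * x * g⁻¹ = x := by
    intro g _
    rw [hMdef, mem_centralizer_singleton_iff]
    constructor
    · intro h
      rw [h]; group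
    · intro h
      calc g * x = (g * x * g⁻¹) * g := by group
        _ = x * g := by rw [h]
  have hinvM : ∀ g ∈ Nx x, g ∉ M → g * x * g⁻¹ = x⁻¹ := by
    intro g hg hgM
    rcases conj_x hx hg with h | h
    · exact absurd ((hmemM g hg).2 h) hgM
    · exact h
  have hxinv : x⁻¹ ≠ x := by
    intro h
    have h1 : x ^ 2 = 1 := by rw [sq]; nth_rewrite 1 [← h]; simp
    have h2 := orderOf_dvd_of_pow_eq_one h1
    rw [hx] at h2
    omega
  -- the involution `i₀`
  set i₀ := i₁ ^ 3 with hi₀def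
  have hi₀N : i₀ ∈ Nx x := pow_mem hi₁N 3
  have hi₀ψ : psi Ψ i₀ = 1 := by rw [hi₀def, psi_pow hi₁N, hi₁ψ, one_pow]
  have hi₀inv : i₀ * x * i₀⁻¹ = x⁻¹ := by
    have h1 := hinvM i₁ hi₁N hi₁M
    calc i₀ * x * i₀⁻¹ = i₁ * (i₁ * (i₁ * x * i₁⁻¹) * i₁⁻¹) * i₁⁻¹ := by
          rw [hi₀def, pow_succ, pow_succ, pow_one]; group
      _ = x⁻¹ := by
          rw [h1, ← conj_inv, h1, inv_inv, h1]
  have hi₀2 : i₀ ^ 2 = 1 := by
    have h1 : i₁ ^ 6 = 1 := by
      apply orderOf_dvd_iff_pow_eq_one.1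
      have := Subgroup.orderOf_dvd_natCard (pre Ψ ⊥) (hmemK.2 ⟨hi₁N, hi₁ψ⟩)
      rwa [hK6] at this
    rw [hi₀def, ← pow_mul]
    exact h1
  have hi₀M : i₀ ∉ M := by
    intro h
    rw [hmemM _ hi₀N, hi₀inv] at h
    exact hxinv h
  have hi₀1 : i₀ ≠ 1 := by
    intro h
    exact hi₀M (by rw [h]; exact M.one_mem)
  have hi₀i : i₀⁻¹ = i₀ := by rw [inv_eq_iff_mul_eq_one, ← sq]; exact hi₀2
  have hidx2 : ∀ F : Subgroup G, F ≤ Nx x → i₀ ∈ F → Nat.card ↥(M ⊓ F) * 2 = Nat.card F := by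
    intro F hFN hi₀F
    have h1 : (M.subgroupOf F).index = 2 := by
      rw [Subgroup.index_eq_two_iff]
      refine ⟨⟨i₀, hi₀F⟩, ?_⟩
      rintro ⟨b, hb⟩
      simp only [mem_subgroupOf, Subgroup.coe_mul]
      by_cases hbM : b ∈ M
      · refine Or.inr ⟨hbM, ?_⟩
        intro h
        apply hi₀M
        have h2 : i₀ = b⁻¹ * (b * i₀) := by group
        rw [h2]
        exact mul_mem (inv_mem hbM) h
      · refine Or.inl ⟨?_, hbM⟩
        rw [hmemM _ (mul_mem (hFN hb) hi₀N)]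
        have h2 := hinvM b (hFN hb) hbM
        calc (b * i₀) * x * (b * i₀)⁻¹ = b * (i₀ * x * i₀⁻¹) * b⁻¹ := by group
          _ = b * x⁻¹ * b⁻¹ := by rw [hi₀inv]
          _ = (b * x * b⁻¹)⁻¹ := by group
          _ = x := by rw [h2, inv_inv]
    have h2 := Subgroup.card_mul_index (M.subgroupOf F)
    rw [h1] at h2
    have h3 : Nat.card (M.subgroupOf F) = Nat.card ↥(M ⊓ F) := by
      rw [← Subgroup.inf_subgroupOf_right]
      exact Nat.card_congr (Subgroup.subgroupOfEquivOfLe inf_le_right).toEquiv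
    rw [h3] at h2
    exact h2
  -- `K ∩ M` is `⟨x⟩`
  have hKMeq : zpowers x = M ⊓ pre Ψ ⊥ := by
    have h1 := hidx2 (pre Ψ ⊥) (fun e he => (hmemK.1 he).1) (hmemK.2 ⟨hi₀N, hi₀ψ⟩)
    rw [hK6] at h1
    apply Subgroup.eq_of_le_of_card_ge
    · rw [Subgroup.zpowers_le]
      exact Subgroup.mem_inf.2 ⟨(by rw [hMdef, mem_centralizer_singleton_iff] : x ∈ M), hxK⟩
    · rw [Nat.card_zpowers, hx]
      omega
  have hKM' : ∀ e ∈ M, psi Ψ e = 1 → e ∈ zpowers x := by
    intro e heM he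
    rw [hKMeq]
    exact ⟨heM, hmemK.2 ⟨hMN heM, he⟩⟩
  have hX3 : ∀ e ∈ zpowers x, e ^ 3 = 1 := by
    intro e he
    apply orderOf_dvd_iff_pow_eq_one.1
    have := Subgroup.orderOf_dvd_natCard (zpowers x) he
    rwa [Nat.card_zpowers, hx] at this
  have hsq_cube : ∀ e : G, e ^ 2 = 1 → e ^ 3 = 1 → e = 1 := by
    intro e h2 h3
    calc e = e ^ 3 * (e ^ 2)⁻¹ := by group
      _ = 1 := by rw [h2, h3]; simp
  -- package
  have hcardL : Nat.card (Lsub Ψ) = 3 * 2 ^ 2 := by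
    have h1 := hidx2 (pre Ψ Vsub) (fun e he => (mem_pre.1 he).1)
      (mem_pre.2 ⟨hi₀N, by rw [hi₀ψ]; exact Subgroup.one_mem _⟩)
    have h2 := card_pre hsurj Vsub
    rw [index_Vsub, hN] at h2
    have h3 : Nat.card (Lsub Ψ) = Nat.card ↥(M ⊓ pre Ψ Vsub) := rfl
    rw [h3]
    omega
  obtain ⟨V, hVL, hV, hVall, hVnorm, hVlift⟩ := V_package hx hsurj hψx hcardL
  have hV4 : Nat.card V = 4 := by rw [hV]; norm_num
  have hVinj : ∀ {u w}, u ∈ V → w ∈ V → psi Ψ u = psi Ψ w → u = w := fun hu hw h =>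
    V_inj hV4 hVL hVlift hu hw h
  have hVN : ∀ {e}, e ∈ V → e ∈ Nx x := fun he => hMN (mem_L.1 (hVL he)).1
  -- inversion on `⟨x⟩`
  have hinvz : ∀ u ∈ zpowers x, i₀ * u * i₀⁻¹ = u⁻¹ := by
    intro u hu
    obtain ⟨k, rfl⟩ := Subgroup.mem_zpowers_iff.1 hu
    rw [← conj_zpow, hi₀inv]
    simp
  -- involutions of `K`
  have hinvK : ∀ e ∈ Nx x, psi Ψ e = 1 → e ^ 2 = 1 → e ≠ 1 → ∃ u ∈ zpowers x, u * i₀ * u⁻¹ = e := by
    intro e heN heψ he2 he1
    have heM : e ∉ M := by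
      intro h
      exact he1 (hsq_cube e he2 (hX3 e (hKM' e h heψ)))
    have h1 : e * i₀ ∈ M := by
      rw [hmemM _ (mul_mem heN hi₀N)]
      have h2 := hinvM e heN heM
      calc (e * i₀) * x * (e * i₀)⁻¹ = e * (i₀ * x * i₀⁻¹) * e⁻¹ := by group
        _ = e * x⁻¹ * e⁻¹ := by rw [hi₀inv]
        _ = (e * x * e⁻¹)⁻¹ := by group
        _ = x := by rw [h2, inv_inv]
    have h2 : e * i₀ ∈ zpowers x := by
      apply hKM' _ h1
      rw [psi_mul heN hi₀N, heψ, hi₀ψ, one_mul]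
    set a := e * i₀ with ha
    have hea : e = a * i₀ := by
      rw [ha, mul_assoc, ← sq, hi₀2, mul_one]
    have ha3 := hX3 a h2
    refine ⟨a ^ 2, pow_mem h2 2, ?_⟩
    have h3 := hinvz (a ^ 2) (pow_mem h2 2)
    have h4 : i₀ * (a ^ 2)⁻¹ = (a ^ 2) * i₀ := by
      have h5 : i₀ * (a ^ 2)⁻¹ * i₀⁻¹ = a ^ 2 := by
        calc i₀ * (a ^ 2)⁻¹ * i₀⁻¹ = (i₀ * a ^ 2 * i₀⁻¹)⁻¹ := by group
          _ = a ^ 2 := by rw [h3, inv_inv]
      calc i₀ * (a ^ 2)⁻¹ = (i₀ * (a ^ 2)⁻¹ * i₀⁻¹) * i₀ := by group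
        _ = a ^ 2 * i₀ := by rw [h5]
    rw [mul_assoc, h4, ← mul_assoc, hea]
    congr 1
    calc a ^ 2 * a ^ 2 = a ^ 3 * a := by rw [← pow_add, ← pow_succ]
      _ = a := by rw [ha3, one_mul]
  -- the centralizer of `i₀` in `N`
  have hCN : Nat.card ↥(Nx x ⊓ centralizer ({i₀} : Set G)) * 3 = 144 := by
    rw [← hN]
    let f : zpowers x × ↥(Nx x ⊓ centralizer ({i₀} : Set G)) → Nx x := fun w =>
      ⟨(w.1 : G) * w.2, mul_mem ((Subgroup.zpowers_le.2 hxN) w.1.2) w.2.2.1⟩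
    have hf : Function.Bijective f := by
      constructor
      · rintro ⟨⟨u, hu⟩, ⟨c, hc1⟩⟩ ⟨⟨u', hu'⟩, ⟨c', hc2⟩⟩ he
        have h1 : u * c = u' * c' := congrArg Subtype.val he
        have h2 : u'⁻¹ * u = c' * c⁻¹ := by
          calc u'⁻¹ * u = u'⁻¹ * (u * c) * c⁻¹ := by group
            _ = u'⁻¹ * (u' * c') * c⁻¹ := by rw [h1]
            _ = c' * c⁻¹ := by group
        set w := u'⁻¹ * u with hw
        have hwX : w ∈ zpowers x := mul_mem (inv_mem hu') hu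
        have hwC : w ∈ centralizer ({i₀} : Set G) := by
          rw [h2]
          exact mul_mem hc2.2 (inv_mem hc1.2)
        have hw1 : w = 1 := by
          apply hsq_cube w _ (hX3 w hwX)
          have h3 := hinvz w hwX
          rw [mem_centralizer_singleton_iff] at hwC
          have h4 : i₀ * w * i₀⁻¹ = w := by rw [← hwC]; group
          rw [h4] at h3
          rw [sq]
          nth_rewrite 1 [h3]
          simp
        have h5 : u = u' := (inv_mul_eq_one.1 hw1).symm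
        have h6 : c = c' := by
          rw [h5] at h1
          exact mul_left_cancel h1
        subst h5 h6
        rfl
      · rintro ⟨g, hg⟩
        have h1 : g * i₀ * g⁻¹ ∈ Nx x := mul_mem (mul_mem hg hi₀N) (inv_mem hg)
        obtain ⟨u, hu, hue⟩ := hinvK _ h1
          (by rw [psi_conj hg hi₀N, hi₀ψ]; group) (by rw [conj_pow, hi₀2]; simp)
          (ne_one_of_isConj (isConj_iff.2 ⟨g, rfl⟩) hi₀1)
        have huN : u ∈ Nx x := (Subgroup.zpowers_le.2 hxN) hu
        refine ⟨⟨⟨u, hu⟩, ⟨u⁻¹ * g, Subgroup.mem_inf.2 ⟨mul_mem (inv_mem huN) hg, ?_⟩⟩⟩, ?_⟩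
        · rw [mem_centralizer_singleton_iff]
          have h2 : (u⁻¹ * g) * i₀ * (u⁻¹ * g)⁻¹ = i₀ := by
            calc (u⁻¹ * g) * i₀ * (u⁻¹ * g)⁻¹ = u⁻¹ * (g * i₀ * g⁻¹) * u := by group
              _ = u⁻¹ * (u * i₀ * u⁻¹) * u := by rw [hue]
              _ = i₀ := by group
          calc (u⁻¹ * g) * i₀ = ((u⁻¹ * g) * i₀ * (u⁻¹ * g)⁻¹) * (u⁻¹ * g) := by group
            _ = i₀ * (u⁻¹ * g) := by rw [h2]
        · apply Subtype.ext
          show u * (u⁻¹ * g) = g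
          group
    have h3 := Nat.card_congr (Equiv.ofBijective f hf)
    rw [← h3, Nat.card_prod, Nat.card_zpowers, hx, mul_comm]
  have hy := exists_mem_not_zpowers hc P hx
  obtain ⟨y, hyP, hyX⟩ := hy
  have hPM : (P : Subgroup G) ≤ M := by
    intro u hu
    rw [hMdef, mem_centralizer_singleton_iff]
    exact sylow3_comm hc P _ hu _ hxP
  -- the centralizer of `i₀`
  have hCi₀ : Nat.card (centralizer ({i₀} : Set G)) = 48 := by
    have h1 : Nat.card ↥(Nx x ⊓ centralizer ({i₀} : Set G)) ∣ Nat.card (centralizer ({i₀} : Set G)) :=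
      Subgroup.card_dvd_of_le inf_le_right
    have h2 : Nat.card ↥(Nx x ⊓ centralizer ({i₀} : Set G)) = 48 := by omega
    rw [h2] at h1
    obtain ⟨k, hk⟩ := h1
    obtain ⟨h5, h11⟩ := centralizer_of_two_three hc hi₀1 hi₀2 (by norm_num) (by norm_num)
    have hdvd : Nat.card (centralizer ({i₀} : Set G)) ∣ 7920 := by
      rw [← hc]
      exact Subgroup.card_subgroup_dvd_card _
    rw [hk] at hdvd h5 h11
    have hk165 : k ∣ 165 := by
      have : 48 * k ∣ 48 * 165 := hdvd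
      exact Nat.dvd_of_mul_dvd_mul_left (by norm_num) this
    rcases cases_48 k hk165 h5 h11 with rfl | rfl
    · rw [hk]
    · exfalso
      obtain ⟨S, hSC, hS9⟩ := exists_subgroup_le_card (q := 3) (a := 2) (centralizer ({i₀} : Set G))
        (by rw [hk]; norm_num)
      have hpS : IsPGroup 3 S := IsPGroup.of_card (n := 2) hS9
      obtain ⟨Q, hQ⟩ := hpS.exists_le_sylow
      have hQS : S = (Q : Subgroup G) := by
        apply Subgroup.eq_of_le_of_card_ge hQ
        rw [card_sylow3 hc Q, hS9]; norm_num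
      obtain ⟨c, rfl⟩ := MulAction.exists_smul_eq G Q P
      set i' := c * i₀ * c⁻¹ with hi'
      have hcomm : ∀ u ∈ ((c • Q : Sylow 3 G) : Subgroup G), u * i' = i' * u := by
        intro u hu
        rw [mem_smul_sylow_iff] at hu
        rw [← hQS] at hu
        have h3 := hSC hu
        rw [mem_centralizer_singleton_iff] at h3
        calc u * i' = c * ((c⁻¹ * u * c) * i₀) * c⁻¹ := by rw [hi']; group
          _ = c * (i₀ * (c⁻¹ * u * c)) * c⁻¹ := by rw [← h3]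
          _ = i' * u := by rw [hi']; group
      have hi'2 : i' ^ 2 = 1 := by rw [hi', conj_pow, hi₀2]; simp
      have hi'M : i' ∈ M := by
        rw [hMdef, mem_centralizer_singleton_iff]
        exact (hcomm x hxP).symm
      have hi'N := hMN hi'M
      have hyN := hMN (hPM hyP)
      have h3 : psi Ψ i' = 1 := by
        apply three_comm_invol (psi Ψ y) (psi Ψ i') (hone y hyP hyX)
        · rw [← psi_pow hi'N, hi'2, psi_one]
        · rw [← psi_mul hi'N hyN, ← psi_mul hyN hi'N, hcomm y hyP]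
      have h4 := hsq_cube i' hi'2 (hX3 i' (hKM' i' hi'M h3))
      exact ne_one_of_isConj (isConj_iff.2 ⟨c, rfl⟩) hi₀1 h4
  -- `V` centralizes `i₀`
  have hVcomm : ∀ v ∈ V, v * i₀ = i₀ * v := by
    intro v hv
    have h1 : v * (i₀ * v⁻¹ * i₀⁻¹) ∈ V := mul_mem hv (hVnorm i₀ hi₀N _ (inv_mem hv))
    have h2 : psi Ψ (v * (i₀ * v⁻¹ * i₀⁻¹)) = 1 := by
      rw [psi_mul (hVN hv) (mul_mem (mul_mem hi₀N (inv_mem (hVN hv))) (inv_mem hi₀N)),
        psi_conj hi₀N (inv_mem (hVN hv)), hi₀ψ, psi_inv (hVN hv)]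
      group
    have h3 := hVinj h1 V.one_mem (by rw [h2, psi_one])
    calc v * i₀ = (v * (i₀ * v⁻¹ * i₀⁻¹)) * i₀ * v := by group
      _ = i₀ * v := by rw [h3, one_mul]
  have hyN := hMN (hPM hyP)
  obtain ⟨u, huX, hu⟩ := hinvK (y * i₀ * y⁻¹) (mul_mem (mul_mem hyN hi₀N) (inv_mem hyN))
    (by rw [psi_conj hyN hi₀N, hi₀ψ]; group) (by rw [conj_pow, hi₀2]; simp)
    (ne_one_of_isConj (isConj_iff.2 ⟨y, rfl⟩) hi₀1)
  have hXP : zpowers x ≤ (P : Subgroup G) := by rw [Subgroup.zpowers_le]; exact hxP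
  set y₁ := u⁻¹ * y with hy₁def
  have hy₁P : y₁ ∈ (P : Subgroup G) := mul_mem (inv_mem (hXP huX)) hyP
  have hy₁X : y₁ ∉ zpowers x := fun h => hyX (by
    have h1 : y = u * y₁ := by rw [hy₁def]; group
    rw [h1]; exact mul_mem huX h)
  have hy₁N := hMN (hPM hy₁P)
  have hy₁C : y₁ ∈ centralizer ({i₀} : Set G) := by
    rw [mem_centralizer_singleton_iff]
    have h2 : y₁ * i₀ * y₁⁻¹ = i₀ := by
      calc y₁ * i₀ * y₁⁻¹ = u⁻¹ * (y * i₀ * y⁻¹) * u := by rw [hy₁def]; group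
        _ = u⁻¹ * (u * i₀ * u⁻¹) * u := by rw [hu]
        _ = i₀ := by group
    calc y₁ * i₀ = (y₁ * i₀ * y₁⁻¹) * y₁ := by group
      _ = i₀ * y₁ := by rw [h2]
  have hy₁1 : y₁ ≠ 1 := fun h => hy₁X (by rw [h]; exact Subgroup.one_mem _)
  let σ₀ : S4 := Equiv.swap 0 1 * Equiv.swap 2 3
  have hσ₀ : isV σ₀ := by decide +kernel
  have hσ₀1 : σ₀ ≠ 1 := by decide +kernel
  -- the class of `i₀` misses `V`
  have hTV : ∀ v ∈ V, ¬ IsConj i₀ v := by
    intro v hv hcv
    have hv1 := ne_one_of_isConj hcv hi₀1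
    have hCv : Nat.card (centralizer ({v} : Set G)) = 48 := by
      rw [card_centralizer_of_isConj hcv, hCi₀]
    have h1 := card_inf_centralizer hsurj hV4 hVL hVlift hVnorm hv hv1
    rw [hN] at h1
    have hCle : centralizer ({v} : Set G) ≤ Nx x := by
      have h2 : Nx x ⊓ centralizer ({v} : Set G) = centralizer ({v} : Set G) :=
        Subgroup.eq_of_le_of_card_ge inf_le_right (by rw [hCv]; omega)
      exact inf_eq_right.1 h2
    obtain ⟨c, hc'⟩ := isConj_iff.1 hcv.symm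
    set x' := c * x * c⁻¹ with hx'
    have hx'o : orderOf x' = 3 := by
      rw [← orderOf_of_isConj (isConj_iff.2 ⟨c, rfl⟩), hx]
    have hxv : v * x = x * v := by
      have h8 : v ∈ centralizer ({x} : Set G) := (mem_L.1 (hVL hv)).1
      rw [mem_centralizer_singleton_iff] at h8
      exact h8
    have hx'C : x' ∈ centralizer ({i₀} : Set G) := by
      rw [mem_centralizer_singleton_iff, ← hc', hx']
      calc c * x * c⁻¹ * (c * v * c⁻¹) = c * (x * v) * c⁻¹ := by group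
        _ = c * (v * x) * c⁻¹ := by rw [hxv]
        _ = c * v * c⁻¹ * (c * x * c⁻¹) := by group
    have hnorm' : ∀ g ∈ centralizer ({i₀} : Set G), g * x' * g⁻¹ ∈ zpowers x' := by
      intro g hg
      rw [mem_centralizer_singleton_iff] at hg
      have h2 : c⁻¹ * g * c ∈ centralizer ({v} : Set G) := by
        rw [mem_centralizer_singleton_iff]
        calc c⁻¹ * g * c * v = c⁻¹ * (g * (c * v * c⁻¹)) * c := by group
          _ = c⁻¹ * ((c * v * c⁻¹) * g) * c := by rw [hc', hg]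
          _ = v * (c⁻¹ * g * c) := by group
      have h3 := hCle h2
      have h4 : (c⁻¹ * g * c) * x * (c⁻¹ * g * c)⁻¹ ∈ zpowers x :=
        (mem_normalizer_iff.1 h3 x).1 (mem_zpowers x)
      obtain ⟨k, hk⟩ := Subgroup.mem_zpowers_iff.1 h4
      rw [Subgroup.mem_zpowers_iff]
      refine ⟨k, ?_⟩
      rw [hx', conj_zpow, hk]
      group
    have hy₁X' : y₁ ∈ zpowers x' := by
      have hpy : IsPGroup 3 (zpowers y₁) :=
        (P.isPGroup').to_le (by rw [Subgroup.zpowers_le]; exact hy₁P)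
      have hpx' : IsPGroup 3 (zpowers x') :=
        IsPGroup.of_card (n := 1) (by rw [Nat.card_zpowers, hx'o, pow_one])
      have hle : zpowers y₁ ≤ normalizer ((zpowers x' : Subgroup G) : Set G) := by
        rw [Subgroup.zpowers_le]
        exact mem_Nx_of_conj (hnorm' y₁ hy₁C)
      have hsup := hpy.to_sup_of_normal_right' hpx' hle
      obtain ⟨k, hk⟩ := IsPGroup.iff_card.1 hsup
      have hD : zpowers y₁ ⊔ zpowers x' ≤ centralizer ({i₀} : Set G) :=
        sup_le (by rw [Subgroup.zpowers_le]; exact hy₁C) (by rw [Subgroup.zpowers_le]; exact hx'C)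
      have hdv := Subgroup.card_dvd_of_le hD
      rw [hk, hCi₀] at hdv
      have hk1 : k ≤ 1 := by
        by_contra hk2
        have h2 : 3 ^ 2 ∣ 3 ^ k := pow_dvd_pow 3 (by omega)
        have h3 := h2.trans hdv
        omega
      have hDeq : zpowers x' = zpowers y₁ ⊔ zpowers x' := by
        apply Subgroup.eq_of_le_of_card_ge le_sup_right
        rw [hk, Nat.card_zpowers, hx'o]
        calc 3 ^ k ≤ 3 ^ 1 := Nat.pow_le_pow_right (by norm_num) hk1
          _ = 3 := by norm_num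
      rw [hDeq]
      exact Subgroup.mem_sup_left (mem_zpowers y₁)
    obtain ⟨v', hv', hψv'⟩ := hVlift σ₀ hσ₀
    have hv'C : v' ∈ centralizer ({i₀} : Set G) := by
      rw [mem_centralizer_singleton_iff]
      exact hVcomm v' hv'
    have h2 : v' * y₁ * v'⁻¹ ∈ zpowers x' :=
      (mem_normalizer_iff.1 (mem_Nx_of_conj (hnorm' v' hv'C)) y₁).1 hy₁X'
    have hcard3 : Nat.card (zpowers x') = 3 := by rw [Nat.card_zpowers, hx'o]
    obtain ⟨h3, h4⟩ := three_not_norm (psi Ψ y₁) σ₀ (hone y₁ hy₁P hy₁X) hσ₀ hσ₀1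
    rw [← hψv', ← psi_conj (hVN hv') hy₁N] at h3 h4
    rcases three_cases hcard3 hy₁X' hy₁1 h2 with h5 | h5 | h5
    · apply hy₁1
      have : y₁ = v'⁻¹ * (v' * y₁ * v'⁻¹) * v' := by group
      rw [this, h5]; simp
    · exact h3 (by rw [h5])
    · exact h4 (by rw [h5, psi_inv hy₁N])
  -- the class of `i₀` meets `M`
  have hMcard : Nat.card M = 72 := by
    have h2 : Nat.card (normalizer ((zpowers x : Subgroup G) : Set G)) = 144 := hN
    have h3 : 144 = 2 * Nat.card M := by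
      rw [← h2]
      exact card_normalizer_zpowers hc hx
    omega
  have hfixM := card_fixedBy_quotient M i₀
  have hmodM := fix_mod4 hc M hi₀2
  have hidxM := Subgroup.card_mul_index M
  rw [hMcard, hc] at hidxM
  have hidxM' : M.index = 110 := by omega
  rw [hidxM'] at hmodM
  rw [hMcard, hCi₀] at hfixM
  obtain ⟨⟨i, hit, hiM⟩⟩ : Nonempty {w : G // IsConj i₀ w ∧ w ∈ M} := by
    by_contra hcon
    rw [not_nonempty_iff] at hcon
    have h1 : Nat.card {w : G // IsConj i₀ w ∧ w ∈ M} = 0 := Nat.card_of_isEmpty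
    rw [h1] at hfixM
    omega
  have hiN := hMN hiM
  have hi2 := sq_of_isConj hit hi₀2
  have hi1 := ne_one_of_isConj hit hi₀1
  have hiV : ¬ isV (psi Ψ i) := by
    intro hv
    have h1 : i ^ (2 ^ 2) = 1 := by
      have : i ^ (2 ^ 2) = (i ^ 2) ^ 2 := by rw [← pow_mul]; norm_num
      rw [this, hi2]; simp
    exact hTV i (hVall i (mem_L.2 ⟨hiM, hv⟩) h1) hit
  obtain ⟨τ, hτ, hτ2⟩ := not_isV_exists _ hiV
  obtain ⟨e, he, hψe⟩ := hVlift τ hτ
  have hτ1 : τ ≠ 1 := by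
    rintro rfl
    apply hτ2
    group
  set e' := i * e * i⁻¹ with he'
  have he'V : e' ∈ V := hVnorm i hiN e he
  have hψe' : psi Ψ e' = psi Ψ i * τ * (psi Ψ i)⁻¹ := by
    rw [he', psi_conj hiN (hVN he), hψe]
  have hne : e ≠ e' := by
    intro h
    apply hτ2
    rw [← hψe', ← h, hψe]
  have he1 : e ≠ 1 := by
    rintro rfl
    rw [psi_one] at hψe
    exact hτ1 hψe.symm
  have hCi : Nat.card (centralizer ({i} : Set G)) = 16 * (2 * 1 + 1) := by
    rw [card_centralizer_of_isConj hit, hCi₀]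
  have he2 : e ^ 2 = 1 := by
    apply hVinj (pow_mem he 2) V.one_mem
    rw [psi_pow (hVN he), psi_one, hψe]
    exact isV_sq_one τ hτ
  have he'2 : e' ^ 2 = 1 := by
    rw [he', conj_pow, he2]; simp
  have hcm : e * e' = e' * e := by
    apply hVinj (mul_mem he he'V) (mul_mem he'V he)
    rw [psi_mul (hVN he) (hVN he'V), psi_mul (hVN he'V) (hVN he)]
    exact isV_comm _ _ (mem_L.1 (hVL he)).2 (mem_L.1 (hVL he'V)).2
  have hT : ∀ w ∈ V, ¬ IsConj i w := fun w hw h => hTV w hw (hit.trans h)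
  exact d8_end hc hi2 hi1 he2 he'2 hcm rfl hne he1 (hT e he) (hT e' he'V) (hT _ (mul_mem he he'V)) hCi

/-- **Sylow 3-subgroups of a simple group of order 7920 are TI.** -/
theorem sylow3_ti (hc : Nat.card G = 7920) {P Q : Sylow 3 G} (hne : P ≠ Q) {x : G}
    (hxP : x ∈ (P : Subgroup G)) (hxQ : x ∈ (Q : Subgroup G)) : x = 1 := by
  by_contra hx1
  have hW : Nat.card ↥((P : Subgroup G) ⊓ (Q : Subgroup G)) = 3 := by
    have h1 : Nat.card ↥((P : Subgroup G) ⊓ (Q : Subgroup G)) ∣ 9 := by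
      rw [← card_sylow3 hc P]
      exact Subgroup.card_dvd_of_le inf_le_left
    have h2 : Nat.card ↥((P : Subgroup G) ⊓ (Q : Subgroup G)) ≠ 1 := by
      intro h
      have h3 : x ∈ (P : Subgroup G) ⊓ (Q : Subgroup G) := ⟨hxP, hxQ⟩
      have h4 := Subgroup.card_eq_one.1 h
      rw [h4] at h3
      exact hx1 h3
    have h3 : Nat.card ↥((P : Subgroup G) ⊓ (Q : Subgroup G)) ≠ 9 := by
      intro h
      apply hne
      apply Sylow.ext
      have h4 : (P : Subgroup G) ⊓ (Q : Subgroup G) = P :=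
        Subgroup.eq_of_le_of_card_ge inf_le_left (by rw [h, card_sylow3 hc])
      have h5 : (P : Subgroup G) ⊓ (Q : Subgroup G) = Q :=
        Subgroup.eq_of_le_of_card_ge inf_le_right (by rw [h, card_sylow3 hc])
      rw [← h4, h5]
    have h4 : Nat.card ↥((P : Subgroup G) ⊓ (Q : Subgroup G)) ≤ 9 := Nat.le_of_dvd (by norm_num) h1
    interval_cases h : Nat.card ↥((P : Subgroup G) ⊓ (Q : Subgroup G)) <;> omega
  have hx : orderOf x = 3 := orderOf_eq_of_mem_of_ne_one (by norm_num) hW ⟨hxP, hxQ⟩ hx1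
  obtain ⟨hN, Ψ, hsurj, hψx, hone, hfix⟩ := exists_psi hc hne hx hxP hxQ
  rcases hN with hN | hN
  · exact kill_72 hc hx hsurj hψx hfix hN
  · by_cases hKM : ∀ e ∈ Nx x, psi Ψ e = 1 → e ∈ centralizer ({x} : Set G)
    · exact kill_144a hc hx hsurj hψx hN hKM
    · push Not at hKM
      obtain ⟨i₁, hi₁N, hi₁ψ, hi₁M⟩ := hKM
      exact kill_144b hc hx hsurj hψx hN hxP hone hi₁N hi₁ψ hi₁M

end simple

end Cfsg.Agent.Lib.Ord7920
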