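import Mathlib
import Cfsg.Agent.Lib.Ord7920G

/-!
# Simple groups of order 7920, part H: the normalizer of a Sylow 3-subgroup, `C(P) = P`
-/

set_option autoImplicit false
set_option linter.unusedSectionVars false
set_option linter.style.haveILetI false

namespace Cfsg.Agent.Lib.Ord7920

open Subgroup MulAction
open Cfsg.Agent.Lib.SmallGroups2 Cfsg.Agent.Lib.SmallGroups3 Cfsg.Agent.Lib.SmallGroups4
  Cfsg.Agent.Lib.SmallGroups5 Cfsg.Agent.Lib.TwoLocal Cfsg.Agent.Lib.TwoLocal2
  Cfsg.Agent.Lib.TwoLocal3 Cfsg.Agent.Lib.TransferEval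

variable {G : Type*} [Group G] [Finite G] [IsSimpleGroup G]

/-- A 3-element normalizing two distinct... moves every other Sylow 3-subgroup. -/
theorem smul_ne_of_mem (hc : Nat.card G = 7920) {P Q : Sylow 3 G} (hne : Q ≠ P) {p : G}
    (hp : p ∈ (P : Subgroup G)) (hp1 : p ≠ 1) : p • Q ≠ Q := by
  intro h
  have h1 : p ∈ normalizer ((Q : Subgroup G) : Set G) := Sylow.smul_eq_iff_mem_normalizer.1 h
  have h2 : IsPGroup 3 (zpowers p) :=
    (P.isPGroup').to_le (by rw [Subgroup.zpowers_le]; exact hp)
  have h3 := mem_sylow_of_mem_normalizer Q h2 h1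
  exact hp1 (sylow3_ti hc (Ne.symm hne) hp h3)

theorem nine_dvd_card_sylow3_sub (hc : Nat.card G = 7920) (P : Sylow 3 G) :
    9 ∣ Nat.card (Sylow 3 G) - 1 := by
  have hdvd := card_dvd_ncard_of_free (T := (P : Subgroup G)) (X := Sylow 3 G) ({P}ᶜ : Set (Sylow 3 G))
    (by
      intro t Q hQ h
      apply hQ
      have h1 : t • Q = t • P := by
        rw [Set.mem_singleton_iff.1 h]
        exact (Sylow.smul_eq_iff_mem_normalizer.2 (Subgroup.le_normalizer t.2)).symm
      exact smul_left_cancel _ h1)
    (by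
      intro t Q hQ h
      by_contra ht
      have h1 : (t : G) ≠ 1 := fun h2 => ht (Subtype.ext h2)
      exact smul_ne_of_mem hc hQ t.2 h1 h)
  rw [card_sylow3 hc] at hdvd
  have h2 : ({P}ᶜ : Set (Sylow 3 G)).ncard = Nat.card (Sylow 3 G) - 1 := by
    rw [Set.ncard_compl, Set.ncard_singleton]
  rwa [h2] at hdvd

theorem card_sylow3_eq (hc : Nat.card G = 7920) : Nat.card (Sylow 3 G) = 55 := by
  have hnc := not_comm hc
  obtain ⟨P⟩ := (inferInstance : Nonempty (Sylow 3 G))
  have h1 := nine_dvd_card_sylow3_sub hc P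
  have mem := card_sylow_mem_filter (p := 3) (a := 2) (m := 880) (G := G) (by rw [hc]; norm_num)
    (by norm_num) (by norm_num)
  have hne1 : Nat.card (Sylow 3 G) ≠ 1 := card_sylow_ne_one hnc (by rw [hc]; norm_num)
  rw [Finset.mem_filter, Nat.mem_divisors] at mem
  obtain ⟨⟨h2, -⟩, -⟩ := mem
  have hle : Nat.card (Sylow 3 G) ≤ 880 := Nat.le_of_dvd (by norm_num) h2
  have hcases : Nat.card (Sylow 3 G) = 10 ∨ Nat.card (Sylow 3 G) = 55 := by
    generalize Nat.card (Sylow 3 G) = n at *
    obtain ⟨k, hk⟩ := h1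
    have hn : n = 9 * k + 1 := by
      have : n ≠ 0 := by
        rintro rfl
        simp at h2
      omega
    have hk' : k ≤ 97 := by omega
    subst hn
    interval_cases k <;> first | omega | (exfalso; revert h2; decide)
  rcases hcases with h | h
  · exfalso
    have hN := card_normalizer_mul_card_sylow P
    rw [h, hc] at hN
    have hN' : Nat.card (normalizer ((P : Subgroup G) : Set G)) = 792 := by omega
    obtain ⟨g, hg⟩ := exists_prime_orderOf_dvd_card' (G := normalizer ((P : Subgroup G) : Set G)) 11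
      (by rw [hN']; norm_num)
    have hg' : orderOf (g : G) = 11 := by rwa [Subgroup.orderOf_coe]
    obtain ⟨x, hx, hx1⟩ : ∃ x ∈ (P : Subgroup G), x ≠ 1 := by
      have : Nontrivial (P : Subgroup G) := by
        rw [← Finite.one_lt_card_iff_nontrivial, card_sylow3 hc]; norm_num
      obtain ⟨⟨a, ha⟩, ha1⟩ := exists_ne (1 : (P : Subgroup G))
      exact ⟨a, ha, fun h => ha1 (Subtype.ext h)⟩
    have hcomm : x * g = g * x := le_centralizer_of_modEq (q := 11) g.2 hg' (by
      rw [card_sylow3 hc]
      intro d hd hm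
      have hd9 : d ≤ 9 := Nat.le_of_dvd (by norm_num) hd
      interval_cases d <;> first | rfl | (exfalso; revert hd hm; decide)) hx
    have hx9 : orderOf x ∣ 9 := by
      have := Subgroup.orderOf_dvd_natCard (P : Subgroup G) hx
      rwa [card_sylow3 hc] at this
    have h5 := eleven_not_dvd_centralizer hc hx1 (a := x) (fun h6 => by
      have := h6.trans hx9
      omega)
    apply h5
    have h6 : (g : G) ∈ centralizer ({x} : Set G) := by
      rw [mem_centralizer_singleton_iff]
      exact hcomm.symm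
    have h7 := Subgroup.orderOf_dvd_natCard (centralizer ({x} : Set G)) h6
    rwa [hg'] at h7
  · exact h

/-- **`|N(P)| = 144`.** -/
theorem card_normalizer3 (hc : Nat.card G = 7920) (P : Sylow 3 G) :
    Nat.card (normalizer ((P : Subgroup G) : Set G)) = 144 := by
  have hN := card_normalizer_mul_card_sylow P
  rw [card_sylow3_eq hc, hc] at hN
  omega

end Cfsg.Agent.Lib.Ord7920
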