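import Mathlib
import Cfsg.Agent.Lib.Ord7920H

/-!
# Simple groups of order 7920, part I: `C(P) = P` for a Sylow 3-subgroup, involutions acting on `P`
-/

set_option autoImplicit false
set_option linter.unusedSectionVars false
set_option linter.style.haveILetI false

namespace Cfsg.Agent.Lib.Ord7920

open Subgroup MulAction
open Cfsg.Agent.Lib.SmallGroups2 Cfsg.Agent.Lib.SmallGroups3 Cfsg.Agent.Lib.SmallGroups4
  Cfsg.Agent.Lib.SmallGroups5 Cfsg.Agent.Lib.TwoLocal Cfsg.Agent.Lib.TwoLocal2
  Cfsg.Agent.Lib.TwoLocal3 Cfsg.Agent.Lib.TransferEval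

variable {G : Type*} [Group G] [Finite G]

theorem isP_zpowers {A : Type*} [Group A] {x : A} (h : x ^ 9 = 1) : IsPGroup 3 (zpowers x) := by
  rintro ⟨g, hg⟩
  obtain ⟨j, rfl⟩ := Subgroup.mem_zpowers_iff.1 hg
  refine ⟨2, Subtype.ext ?_⟩
  show (x ^ j) ^ 3 ^ 2 = 1
  have h1 : (3 : ℕ) ^ 2 = 9 := by norm_num
  rw [h1, ← zpow_natCast, ← zpow_mul, mul_comm, zpow_mul, zpow_natCast, h]
  simp

variable [IsSimpleGroup G]

theorem pow9_of_mem (hc : Nat.card G = 7920) (P : Sylow 3 G) {p : G} (hp : p ∈ (P : Subgroup G)) :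
    p ^ 9 = 1 := by
  apply orderOf_dvd_iff_pow_eq_one.1
  have := Subgroup.orderOf_dvd_natCard (P : Subgroup G) hp
  rwa [card_sylow3 hc] at this

theorem eq_one_of_sq (hc : Nat.card G = 7920) (P : Sylow 3 G) {p : G} (hp : p ∈ (P : Subgroup G))
    (h : p ^ 2 = 1) : p = 1 := by
  have h9 := pow9_of_mem hc P hp
  calc p = p ^ 9 * ((p ^ 2) ^ 4)⁻¹ := by
        rw [← pow_mul]; group
    _ = 1 := by rw [h9, h]; simp

/-- A subgroup with order divisible by 9 contains a Sylow 3-subgroup through a given 3-element. -/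
theorem exists_sylow3_in' (hc : Nat.card G = 7920) {Y : Subgroup G} (hY : 9 ∣ Nat.card Y) {x : G}
    (hx : x ^ 9 = 1) (hxY : x ∈ Y) : ∃ T : Sylow 3 G, x ∈ (T : Subgroup G) ∧ (T : Subgroup G) ≤ Y := by
  let xh : Y := ⟨x, hxY⟩
  have hS : IsPGroup 3 (zpowers xh) := isP_zpowers (Subtype.ext (by simpa [xh] using hx))
  obtain ⟨T, hT⟩ := hS.exists_le_sylow
  obtain ⟨m, hm⟩ := hY
  have hm3 : ¬ 3 ∣ m := by
    rintro ⟨n, rfl⟩
    have h1 : Nat.card Y ∣ 7920 := by
      rw [← hc]; exact Subgroup.card_subgroup_dvd_card Y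
    rw [hm] at h1
    have h2 : 27 ∣ 7920 := Dvd.dvd.trans ⟨n, by ring⟩ h1
    omega
  have hT9 : Nat.card (T : Subgroup Y) = 9 := by
    have := sylow_card_of_card_eq (p := 3) (a := 2) (m := m) (by rw [hm]; norm_num) hm3 T
    simpa using this
  have hP' : IsPGroup 3 ((T : Subgroup Y).map Y.subtype) := T.isPGroup'.map _
  obtain ⟨Q, hQ⟩ := hP'.exists_le_sylow
  have hQeq : (T : Subgroup Y).map Y.subtype = (Q : Subgroup G) := by
    apply Subgroup.eq_of_le_of_card_ge hQ
    rw [card_sylow3 hc Q, Subgroup.card_map_of_injective Y.subtype_injective, hT9]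
  refine ⟨Q, ?_, ?_⟩
  · rw [← hQeq]
    exact ⟨xh, hT (mem_zpowers xh), rfl⟩
  · rw [← hQeq]
    rintro _ ⟨u, _, rfl⟩
    exact u.2

/-- The Sylow 3-subgroups of a subgroup of order divisible by 9. -/
theorem card_sylow_of_le (hc : Nat.card G = 7920) {Y : Subgroup G} (hY : 9 ∣ Nat.card Y) :
    Nat.card (Sylow 3 Y) = Nat.card {Q : Sylow 3 G // (Q : Subgroup G) ≤ Y} := by
  symm
  apply Nat.card_congr
  refine Equiv.ofBijective (fun Q => Q.1.subtype Q.2) ⟨?_, ?_⟩
  · rintro ⟨Q, hQ⟩ ⟨Q', hQ'⟩ h
    apply Subtype.ext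
    show Q = Q'
    have h1 : ((Q.subtype hQ : Sylow 3 Y) : Subgroup Y) = (Q'.subtype hQ' : Sylow 3 Y) :=
      congrArg (fun S : Sylow 3 Y => (S : Subgroup Y)) h
    simp only [Sylow.coe_subtype] at h1
    apply Sylow.ext
    ext u
    constructor
    · intro hu
      have h2 : (⟨u, hQ hu⟩ : Y) ∈ (Q : Subgroup G).subgroupOf Y := hu
      rw [h1] at h2
      exact h2
    · intro hu
      have h2 : (⟨u, hQ' hu⟩ : Y) ∈ (Q' : Subgroup G).subgroupOf Y := hu
      rw [← h1] at h2
      exact h2
  · intro S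
    obtain ⟨m, hm⟩ := hY
    have hm3 : ¬ 3 ∣ m := by
      rintro ⟨n, rfl⟩
      have h1 : Nat.card Y ∣ 7920 := by
        rw [← hc]; exact Subgroup.card_subgroup_dvd_card Y
      rw [hm] at h1
      have h2 : 27 ∣ 7920 := Dvd.dvd.trans ⟨n, by ring⟩ h1
      omega
    have hS9 : Nat.card (S : Subgroup Y) = 9 := by
      have := sylow_card_of_card_eq (p := 3) (a := 2) (m := m) (by rw [hm]; norm_num) hm3 S
      simpa using this
    have hP' : IsPGroup 3 ((S : Subgroup Y).map Y.subtype) := S.isPGroup'.map _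
    obtain ⟨Q, hQ⟩ := hP'.exists_le_sylow
    have hQeq : (S : Subgroup Y).map Y.subtype = (Q : Subgroup G) := by
      apply Subgroup.eq_of_le_of_card_ge hQ
      rw [card_sylow3 hc Q, Subgroup.card_map_of_injective Y.subtype_injective, hS9]
    have hQY : (Q : Subgroup G) ≤ Y := by
      rw [← hQeq]
      rintro _ ⟨u, _, rfl⟩
      exact u.2
    refine ⟨⟨Q, hQY⟩, ?_⟩
    apply Sylow.ext
    ext u
    simp only [Sylow.coe_subtype, mem_subgroupOf]
    rw [← hQeq]
    constructor
    · rintro ⟨v, hv, hvu⟩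
      have : v = u := Subtype.ext hvu
      rwa [← this]
    · intro hu
      exact ⟨u, hu, rfl⟩

theorem card_ne_sylow3 (hc : Nat.card G = 7920) (Q : Sylow 3 G) :
    Nat.card {R : Sylow 3 G // R ≠ Q} = 54 := by
  have h1 : Nat.card {R : Sylow 3 G // R ≠ Q} = ({Q}ᶜ : Set (Sylow 3 G)).ncard := rfl
  rw [h1, Set.ncard_compl, Set.ncard_singleton, card_sylow3_eq hc]

/-- An involution inverting a Sylow 3-subgroup fixes at most 7 Sylow 3-subgroups: the other fixed
points are in different orbits of `Q`. -/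
theorem fix_inv_bound (hc : Nat.card G = 7920) (Q : Sylow 3 G) {t : G} (ht : t ^ 2 = 1)
    (hinv : ∀ q ∈ (Q : Subgroup G), t * q * t⁻¹ = q⁻¹) :
    9 * Nat.card {R : Sylow 3 G // R ≠ Q ∧ t • R = R} ≤ 54 := by
  have hti : t⁻¹ = t := by rw [inv_eq_iff_mul_eq_one, ← sq]; exact ht
  let f : ↥(Q : Subgroup G) × {R : Sylow 3 G // R ≠ Q ∧ t • R = R} → {R : Sylow 3 G // R ≠ Q} :=
    fun a => ⟨(a.1 : G) • a.2.1, by
      intro h
      apply a.2.2.1
      have h1 : (a.1 : G) • a.2.1 = (a.1 : G) • Q := by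
        rw [h]
        exact (Sylow.smul_eq_iff_mem_normalizer.2 (Subgroup.le_normalizer a.1.2)).symm
      exact smul_left_cancel _ h1⟩
  have hf : Function.Injective f := by
    rintro ⟨⟨q, hq⟩, ⟨R, hR1, hR2⟩⟩ ⟨⟨q', hq'⟩, ⟨R', hR1', hR2'⟩⟩ he
    have h1 : q • R = q' • R' := congrArg Subtype.val he
    set u := q'⁻¹ * q with hu
    have huQ : u ∈ (Q : Subgroup G) := mul_mem (inv_mem hq') hq
    have h2 : u • R = R' := by
      rw [hu, mul_smul, h1, inv_smul_smul]
    have h3 : t • (u • R) = u • R := by rw [h2]; exact hR2'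
    have h4 : (t * u) • R = (u⁻¹ * t) • R := by
      have h5 : t * u = u⁻¹ * t := by
        have h6 := hinv u huQ
        calc t * u = (t * u * t⁻¹) * t := by group
          _ = u⁻¹ * t := by rw [h6]
      rw [h5]
    have h5 : u ^ 2 • R = R := by
      have h6 : (u⁻¹ * t) • R = u⁻¹ • R := by rw [mul_smul, hR2]
      have h7 : (t * u) • R = u • R := by rw [mul_smul]; exact h3
      rw [h6, h7] at h4
      rw [sq, mul_smul, h4, smul_inv_smul]
    have h6 : u ^ 2 = 1 := by
      by_contra hne
      exact smul_ne_of_mem hc hR1 (pow_mem huQ 2) hne h5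
    have h7 : u = 1 := eq_one_of_sq hc Q huQ h6
    have h8 : q = q' := (inv_mul_eq_one.1 h7).symm
    subst h8
    have h9 : R = R' := smul_left_cancel _ h1
    subst h9
    rfl
  have h1 := Nat.card_le_card_of_injective f hf
  rwa [Nat.card_prod, card_sylow3 hc, card_ne_sylow3 hc] at h1

/-- No involution centralizes a Sylow 3-subgroup. -/
theorem no_involution_centralizer (hc : Nat.card G = 7920) (P : Sylow 3 G) {t : G} (ht2 : t ^ 2 = 1)
    (ht1 : t ≠ 1) (htC : t ∈ centralizer ((P : Subgroup G) : Set G)) : False := by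
  classical
  have htP : ∀ p ∈ (P : Subgroup G), p * t = t * p := by
    intro p hp
    exact (mem_centralizer_iff.1 htC p hp)
  set f := Nat.card (fixedBy (Sylow 3 G) t) with hf
  have hfn : ((fixedBy (Sylow 3 G) t : Set (Sylow 3 G))).ncard = f := rfl
  have hPfix : P ∈ fixedBy (Sylow 3 G) t := by
    rw [mem_fixedBy]
    apply Sylow.smul_eq_iff_mem_normalizer.2
    exact centralizer_le_normalizer _ htC
  -- the action of `P` on the other fixed points
  have h9 : 9 ∣ ((fixedBy (Sylow 3 G) t : Set (Sylow 3 G)) \ {P}).ncard := by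
    have hdvd := card_dvd_ncard_of_free (T := (P : Subgroup G)) (X := Sylow 3 G)
      ((fixedBy (Sylow 3 G) t : Set (Sylow 3 G)) \ {P}) (by
        rintro ⟨p, hp⟩ Q ⟨hQ1, hQ2⟩
        refine ⟨?_, ?_⟩
        · rw [mem_fixedBy] at hQ1 ⊢
          show t • (p • Q) = p • Q
          rw [← mul_smul, ← htP p hp, mul_smul, hQ1]
        · intro h
          apply hQ2
          have h0 : p • Q = P := Set.mem_singleton_iff.1 h
          have h1 : p • Q = p • P := by
            rw [h0]
            exact (Sylow.smul_eq_iff_mem_normalizer.2 (Subgroup.le_normalizer hp)).symm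
          exact smul_left_cancel _ h1) (by
        rintro ⟨p, hp⟩ Q ⟨-, hQ2⟩ h
        by_contra hne
        have h1 : p ≠ 1 := fun h2 => hne (Subtype.ext h2)
        exact smul_ne_of_mem hc hQ2 hp h1 h)
    rwa [card_sylow3 hc] at hdvd
  have hsub : ((fixedBy (Sylow 3 G) t : Set (Sylow 3 G)) \ {P}).ncard + 1 = f := by
    rw [← hfn]
    exact Set.ncard_sdiff_singleton_add_one hPfix (Set.toFinite _)
  have hpar := card_modEq_fixedBy_four (not_comm hc) (X := Sylow 3 G) t ht2
  rw [card_sylow3_eq hc, ← hf] at hpar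
  have hle : f ≤ 55 := by
    rw [← card_sylow3_eq hc]
    exact Nat.card_le_card_of_injective _ Subtype.val_injective
  have hne55 : f ≠ 55 := by
    intro h55
    have huniv : (fixedBy (Sylow 3 G) t : Set (Sylow 3 G)) = Set.univ := by
      apply Set.eq_of_subset_of_ncard_le (Set.subset_univ _)
      rw [hfn, h55, Set.ncard_univ, card_sylow3_eq hc]
    let φ : G →* Equiv.Perm (Sylow 3 G) := MulAction.toPermHom G (Sylow 3 G)
    have hker : t ∈ φ.ker := by
      rw [MonoidHom.mem_ker]
      ext Q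
      have h1 : Q ∈ (fixedBy (Sylow 3 G) t : Set (Sylow 3 G)) := by rw [huniv]; trivial
      have h2 : t • Q = Q := h1
      rw [show (φ t) Q = t • Q from rfl, h2]
      rfl
    rcases (inferInstance : IsSimpleGroup G).eq_bot_or_eq_top_of_normal φ.ker φ.normal_ker with hb | ht
    · rw [hb, Subgroup.mem_bot] at hker
      exact ht1 hker
    · have h1 : normalizer ((P : Subgroup G) : Set G) = ⊤ := by
        rw [eq_top_iff]
        intro g _
        have h2 : g ∈ φ.ker := by rw [ht]; trivial
        rw [MonoidHom.mem_ker] at h2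
        apply Sylow.smul_eq_iff_mem_normalizer.1
        have h3 : (φ g) P = P := by rw [h2]; rfl
        exact h3
      have h2 := card_normalizer3 hc P
      rw [h1, Nat.card_congr Subgroup.topEquiv.toEquiv, hc] at h2
      omega
  have hf19 : f = 19 := by
    have h4 : f % 4 = 3 := by
      have : 55 % 4 = f % 4 := hpar
      omega
    obtain ⟨k, hk⟩ := h9
    omega
  -- every fixed point is centralized
  have hallC : ∀ Q : Sylow 3 G, t • Q = Q → (Q : Subgroup G) ≤ centralizer ({t} : Set G) := by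
    intro Q hQ
    have htN : t ∈ normalizer ((Q : Subgroup G) : Set G) := Sylow.smul_eq_iff_mem_normalizer.1 hQ
    have hconj : ∀ q ∈ (Q : Subgroup G), t * q * t⁻¹ ∈ (Q : Subgroup G) := fun q hq =>
      (mem_normalizer_iff.1 htN q).1 hq
    by_cases hinv : ∀ q ∈ (Q : Subgroup G), t * q * t⁻¹ = q⁻¹
    · exfalso
      have h1 := fix_inv_bound hc Q ht2 hinv
      have h2 : Nat.card {R : Sylow 3 G // R ≠ Q ∧ t • R = R} =
          ((fixedBy (Sylow 3 G) t : Set (Sylow 3 G)) \ {Q}).ncard := by
        have h3 : {R : Sylow 3 G | R ≠ Q ∧ t • R = R} = ((fixedBy (Sylow 3 G) t : Set (Sylow 3 G)) \ {Q}) := by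
          ext R
          constructor
          · rintro ⟨h4, h5⟩
            exact ⟨h5, h4⟩
          · rintro ⟨h4, h5⟩
            exact ⟨h5, h4⟩
        rw [← h3]
        rfl
      have h3 : ((fixedBy (Sylow 3 G) t : Set (Sylow 3 G)) \ {Q}).ncard + 1 = f := by
        rw [← hfn]
        exact Set.ncard_sdiff_singleton_add_one (by rw [mem_fixedBy]; exact hQ) (Set.toFinite _)
      rw [h2] at h1
      omega
    · push Not at hinv
      obtain ⟨q, hq, hq2⟩ := hinv
      set c := q * (t * q * t⁻¹) with hc'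
      have hcQ : c ∈ (Q : Subgroup G) := mul_mem hq (hconj q hq)
      have hc1 : c ≠ 1 := by
        intro h
        exact hq2 (eq_inv_of_mul_eq_one_right h)
      have htc : c ∈ centralizer ({t} : Set G) := by
        rw [mem_centralizer_singleton_iff]
        have h3 : t * c * t⁻¹ = c := by
          have h4 : t * (t * q * t⁻¹) * t⁻¹ = q := by
            have hti : t⁻¹ = t := by rw [inv_eq_iff_mul_eq_one, ← sq]; exact ht2
            rw [hti]
            calc t * (t * q * t) * t = (t ^ 2) * q * (t ^ 2) := by rw [sq]; group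
              _ = q := by rw [ht2]; group
          calc t * c * t⁻¹ = (t * q * t⁻¹) * (t * (t * q * t⁻¹) * t⁻¹) := by rw [hc']; group
            _ = (t * q * t⁻¹) * q := by rw [h4]
            _ = c := sylow3_comm hc Q _ (hconj q hq) _ hq
        calc c * t = t⁻¹ * (t * c * t⁻¹) * t * t := by group
          _ = t⁻¹ * c * t * t := by rw [h3]
          _ = t * c := by
              have hti : t⁻¹ = t := by rw [inv_eq_iff_mul_eq_one, ← sq]; exact ht2
              rw [hti, mul_assoc, mul_assoc, ← sq, ht2, mul_one]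
        
      have hY9 : 9 ∣ Nat.card (centralizer ({t} : Set G)) := by
        rw [← card_sylow3 hc P]
        apply Subgroup.card_dvd_of_le
        intro p hp
        rw [mem_centralizer_singleton_iff]
        exact htP p hp
      obtain ⟨T, hcT, hTY⟩ := exists_sylow3_in' hc hY9 (pow9_of_mem hc Q hcQ) htc
      have hTQ : T = Q := by
        by_contra hne
        exact hc1 (sylow3_ti hc hne hcT hcQ)
      rw [← hTQ]
      exact hTY
  have hcard : Nat.card (Sylow 3 (centralizer ({t} : Set G))) = 19 := by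
    rw [card_sylow_of_le hc (by
      rw [← card_sylow3 hc P]
      apply Subgroup.card_dvd_of_le
      intro p hp
      rw [mem_centralizer_singleton_iff]
      exact htP p hp), ← hf19]
    apply Nat.card_congr
    apply Equiv.subtypeEquivRight
    intro Q
    constructor
    · intro h
      rw [mem_fixedBy]
      apply Sylow.smul_eq_iff_mem_normalizer.2
      apply mem_normalizer_of_conj_le
      intro y hy
      have h1 := h hy
      rw [mem_centralizer_singleton_iff] at h1
      have h2 : t * y * t⁻¹ = y := by rw [← h1]; group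
      rw [h2]
      exact hy
    · exact hallC Q
  obtain ⟨S⟩ := (inferInstance : Nonempty (Sylow 3 (centralizer ({t} : Set G))))
  have h1 := S.card_dvd_index
  rw [hcard] at h1
  have h2 : (S : Subgroup (centralizer ({t} : Set G))).index ∣ Nat.card (centralizer ({t} : Set G)) :=
    Subgroup.index_dvd_card _
  have h3 : Nat.card (centralizer ({t} : Set G)) ∣ 7920 := by
    rw [← hc]
    exact Subgroup.card_subgroup_dvd_card _
  have h4 := (h1.trans h2).trans h3
  omega

/-- **`C(P) = P`.** -/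
theorem mem_of_mem_centralizer3 (hc : Nat.card G = 7920) (P : Sylow 3 G) {g : G}
    (hg : g ∈ centralizer ((P : Subgroup G) : Set G)) : g ∈ (P : Subgroup G) := by
  have hPC : (P : Subgroup G) ≤ centralizer ((P : Subgroup G) : Set G) := by
    intro u hu
    rw [mem_centralizer_iff]
    intro v hv
    exact sylow3_comm hc P _ hv _ hu
  have h1 : Nat.card (P : Subgroup G) ∣ Nat.card (centralizer ((P : Subgroup G) : Set G)) :=
    Subgroup.card_dvd_of_le hPC
  rw [card_sylow3 hc] at h1
  have h2 : Nat.card (centralizer ((P : Subgroup G) : Set G)) ∣ 144 := by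
    rw [← card_normalizer3 hc P]
    exact Subgroup.card_dvd_of_le (centralizer_le_normalizer _)
  obtain ⟨m, hm⟩ := h1
  have hm16 : m ∣ 16 := by
    rw [hm] at h2
    have : 9 * m ∣ 9 * 16 := h2
    exact Nat.dvd_of_mul_dvd_mul_left (by norm_num) this
  have hm1 : m = 1 := by
    by_contra hne
    have h2m : 2 ∣ m := by
      have hle : m ≤ 16 := Nat.le_of_dvd (by norm_num) hm16
      interval_cases m <;> omega
    have h2C : 2 ∣ Nat.card (centralizer ((P : Subgroup G) : Set G)) := by
      rw [hm]; exact Dvd.dvd.mul_left h2m 9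
    obtain ⟨t, ht⟩ := exists_prime_orderOf_dvd_card' (G := centralizer ((P : Subgroup G) : Set G)) 2 h2C
    have ht' : orderOf (t : G) = 2 := by rwa [Subgroup.orderOf_coe]
    have ht2 : (t : G) ^ 2 = 1 := by rw [← ht']; exact pow_orderOf_eq_one (t : G)
    have ht1 : (t : G) ≠ 1 := by
      intro h
      rw [h] at ht'
      simp at ht'
    exact no_involution_centralizer hc P ht2 ht1 t.2
  have h3 : (P : Subgroup G) = centralizer ((P : Subgroup G) : Set G) := by
    apply Subgroup.eq_of_le_of_card_ge hPC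
    rw [hm, hm1, card_sylow3 hc]
  rw [h3]
  exact hg

end Cfsg.Agent.Lib.Ord7920
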