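import Mathlib
import Cfsg.Agent.Lib.Ord7920I

/-!
# Simple groups of order 7920, part J: involutions acting on a Sylow 3-subgroup
-/

set_option autoImplicit false
set_option linter.unusedSectionVars false
set_option linter.style.haveILetI false

namespace Cfsg.Agent.Lib.Ord7920

open Subgroup MulAction
open Cfsg.Agent.Lib.SmallGroups2 Cfsg.Agent.Lib.SmallGroups3 Cfsg.Agent.Lib.SmallGroups4
  Cfsg.Agent.Lib.SmallGroups5 Cfsg.Agent.Lib.TwoLocal Cfsg.Agent.Lib.TwoLocal2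
  Cfsg.Agent.Lib.TwoLocal3 Cfsg.Agent.Lib.TransferEval

variable {G : Type*} [Group G] [Finite G]

/-- `i` inverts `P`. -/
def Inverts (i : G) (P : Sylow 3 G) : Prop := ∀ p ∈ (P : Subgroup G), i * p * i⁻¹ = p⁻¹

/-- An element acting on a subgroup of order 3 acts trivially or by inversion. -/
theorem order3_action {H : Subgroup G} (hH : Nat.card H = 3) {g : G} (hg : ∀ h ∈ H, g * h * g⁻¹ ∈ H) :
    (∀ h ∈ H, g * h * g⁻¹ = h) ∨ (∀ h ∈ H, g * h * g⁻¹ = h⁻¹) := by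
  obtain ⟨q, hq, hq1⟩ : ∃ q ∈ H, q ≠ 1 := by
    have : Nontrivial H := by
      rw [← Finite.one_lt_card_iff_nontrivial, hH]; norm_num
    obtain ⟨⟨a, ha⟩, ha1⟩ := exists_ne (1 : H)
    exact ⟨a, ha, fun h => ha1 (Subtype.ext h)⟩
  have hz := zpowers_eq_of_mem_of_ne_one (by norm_num) hH hq hq1
  rcases three_cases hH hq hq1 (hg q hq) with h | h | h
  · exfalso
    apply hq1
    have : q = g⁻¹ * (g * q * g⁻¹) * g := by group
    rw [this, h]; simp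
  · left
    intro u hu
    rw [← hz] at hu
    obtain ⟨k, rfl⟩ := Subgroup.mem_zpowers_iff.1 hu
    rw [← conj_zpow, h]
  · right
    intro u hu
    rw [← hz] at hu
    obtain ⟨k, rfl⟩ := Subgroup.mem_zpowers_iff.1 hu
    rw [← conj_zpow, h]
    simp

variable [IsSimpleGroup G]

/-- The fixed points of `i` on `P`. -/
def Fsub (i : G) (P : Sylow 3 G) : Subgroup G := (P : Subgroup G) ⊓ centralizer ({i} : Set G)

theorem mem_Fsub {i : G} {P : Sylow 3 G} {p : G} : p ∈ Fsub i P ↔ p ∈ (P : Subgroup G) ∧ p * i = i * p := by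
  rw [Fsub, Subgroup.mem_inf, mem_centralizer_singleton_iff]

/-- The elements of `P` inverted by `i`. -/
def Isub (hc : Nat.card G = 7920) (i : G) (P : Sylow 3 G) : Subgroup G where
  carrier := {p | p ∈ (P : Subgroup G) ∧ i * p * i⁻¹ = p⁻¹}
  one_mem' := ⟨Subgroup.one_mem _, by simp⟩
  inv_mem' := by
    rintro p ⟨h1, h2⟩
    refine ⟨inv_mem h1, ?_⟩
    rw [← conj_inv, h2]
  mul_mem' := by
    rintro p q ⟨h1, h2⟩ ⟨h3, h4⟩
    refine ⟨mul_mem h1 h3, ?_⟩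
    calc i * (p * q) * i⁻¹ = (i * p * i⁻¹) * (i * q * i⁻¹) := by group
      _ = p⁻¹ * q⁻¹ := by rw [h2, h4]
      _ = (q * p)⁻¹ := by group
      _ = (p * q)⁻¹ := by rw [sylow3_comm hc P _ h3 _ h1]

theorem mem_Isub {hc : Nat.card G = 7920} {i : G} {P : Sylow 3 G} {p : G} :
    p ∈ Isub hc i P ↔ p ∈ (P : Subgroup G) ∧ i * p * i⁻¹ = p⁻¹ := Iff.rfl

theorem conj_conj_of_sq {i : G} (hi : i ^ 2 = 1) (p : G) : i * (i * p * i⁻¹) * i⁻¹ = p := by
  have hti : i⁻¹ = i := by rw [inv_eq_iff_mul_eq_one, ← sq]; exact hi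
  rw [hti]
  calc i * (i * p * i) * i = (i ^ 2) * p * (i ^ 2) := by rw [sq]; group
    _ = p := by rw [hi]; group

theorem exists_fixed_of_not_inverts (hc : Nat.card G = 7920) {P : Sylow 3 G} {i : G}
    (hiN : i ∈ normalizer ((P : Subgroup G) : Set G)) (hi2 : i ^ 2 = 1) (hnot : ¬ Inverts i P) :
    ∃ q ∈ Fsub i P, q ≠ 1 := by
  unfold Inverts at hnot
  push Not at hnot
  obtain ⟨p, hp, hp2⟩ := hnot
  have hconj : i * p * i⁻¹ ∈ (P : Subgroup G) := (mem_normalizer_iff.1 hiN p).1 hp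
  refine ⟨p * (i * p * i⁻¹), mem_Fsub.2 ⟨mul_mem hp hconj, ?_⟩, ?_⟩
  · have h3 : i * (p * (i * p * i⁻¹)) * i⁻¹ = p * (i * p * i⁻¹) := by
      calc i * (p * (i * p * i⁻¹)) * i⁻¹ = (i * p * i⁻¹) * (i * (i * p * i⁻¹) * i⁻¹) := by group
        _ = (i * p * i⁻¹) * p := by rw [conj_conj_of_sq hi2]
        _ = p * (i * p * i⁻¹) := sylow3_comm hc P _ hconj _ hp
    calc p * (i * p * i⁻¹) * i = (i * (p * (i * p * i⁻¹)) * i⁻¹) * i := by rw [h3]
      _ = i * (p * (i * p * i⁻¹)) := by group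
  · intro h
    exact hp2 (eq_inv_of_mul_eq_one_right h)

theorem not_centralizer_of_involution (hc : Nat.card G = 7920) {P : Sylow 3 G} {i : G}
    (hi2 : i ^ 2 = 1) (hi1 : i ≠ 1) : i ∉ centralizer ((P : Subgroup G) : Set G) := by
  intro h
  exact hi1 (eq_one_of_sq hc P (mem_of_mem_centralizer3 hc P h) hi2)

theorem exists_inverted_of_involution (hc : Nat.card G = 7920) {P : Sylow 3 G} {i : G}
    (hiN : i ∈ normalizer ((P : Subgroup G) : Set G)) (hi2 : i ^ 2 = 1) (hi1 : i ≠ 1) :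
    ∃ r ∈ Isub hc i P, r ≠ 1 := by
  have h0 := not_centralizer_of_involution hc (P := P) hi2 hi1
  rw [mem_centralizer_iff] at h0
  push Not at h0
  obtain ⟨p, hp, hp2⟩ := h0
  have hp3 : i * p * i⁻¹ ≠ p := by
    intro h
    apply hp2
    calc p * i = (i * p * i⁻¹) * i := by rw [h]
      _ = i * p := by group
  have hconj : i * p * i⁻¹ ∈ (P : Subgroup G) := (mem_normalizer_iff.1 hiN p).1 hp
  refine ⟨p * (i * p * i⁻¹)⁻¹, ⟨mul_mem hp (inv_mem hconj), ?_⟩, ?_⟩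
  · calc i * (p * (i * p * i⁻¹)⁻¹) * i⁻¹ = (i * p * i⁻¹) * (i * (i * p * i⁻¹) * i⁻¹)⁻¹ := by group
      _ = (i * p * i⁻¹) * p⁻¹ := by rw [conj_conj_of_sq hi2]
      _ = (p * (i * p * i⁻¹)⁻¹)⁻¹ := by group
  · intro h
    exact hp3 (mul_inv_eq_one.1 h).symm

theorem card_Fsub (hc : Nat.card G = 7920) {P : Sylow 3 G} {i : G}
    (hiN : i ∈ normalizer ((P : Subgroup G) : Set G)) (hi2 : i ^ 2 = 1) (hi1 : i ≠ 1) (hnot : ¬ Inverts i P) :
    Nat.card (Fsub i P) = 3 := by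
  obtain ⟨q, hq, hq1⟩ := exists_fixed_of_not_inverts hc hiN hi2 hnot
  have h1 : Nat.card (Fsub i P) ∣ 9 := by
    rw [← card_sylow3 hc P]
    exact Subgroup.card_dvd_of_le inf_le_left
  have h2 : Nat.card (Fsub i P) ≠ 1 := by
    intro h
    have h3 := Subgroup.card_eq_one.1 h
    rw [h3] at hq
    exact hq1 hq
  have h3 : Nat.card (Fsub i P) ≠ 9 := by
    intro h
    have h4 : Fsub i P = (P : Subgroup G) :=
      Subgroup.eq_of_le_of_card_ge inf_le_left (by rw [h, card_sylow3 hc])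
    apply not_centralizer_of_involution hc (P := P) hi2 hi1
    rw [mem_centralizer_iff]
    intro p hp
    rw [← h4] at hp
    exact (mem_Fsub.1 hp).2
  have h4 : Nat.card (Fsub i P) ≤ 9 := Nat.le_of_dvd (by norm_num) h1
  interval_cases h : Nat.card (Fsub i P) <;> omega

theorem card_Isub (hc : Nat.card G = 7920) {P : Sylow 3 G} {i : G}
    (hiN : i ∈ normalizer ((P : Subgroup G) : Set G)) (hi2 : i ^ 2 = 1) (hi1 : i ≠ 1) (hnot : ¬ Inverts i P) :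
    Nat.card (Isub hc i P) = 3 := by
  obtain ⟨q, hq, hq1⟩ := exists_inverted_of_involution hc hiN hi2 hi1
  have hle : Isub hc i P ≤ (P : Subgroup G) := fun u hu => hu.1
  have h1 : Nat.card (Isub hc i P) ∣ 9 := by
    rw [← card_sylow3 hc P]
    exact Subgroup.card_dvd_of_le hle
  have h2 : Nat.card (Isub hc i P) ≠ 1 := by
    intro h
    have h3 := Subgroup.card_eq_one.1 h
    rw [h3] at hq
    exact hq1 hq
  have h3 : Nat.card (Isub hc i P) ≠ 9 := by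
    intro h
    have h4 : Isub hc i P = (P : Subgroup G) :=
      Subgroup.eq_of_le_of_card_ge hle (by rw [h, card_sylow3 hc])
    apply hnot
    intro p hp
    rw [← h4] at hp
    exact hp.2
  have h4 : Nat.card (Isub hc i P) ≤ 9 := Nat.le_of_dvd (by norm_num) h1
  interval_cases h : Nat.card (Isub hc i P) <;> omega

/-- `P` is the product of the fixed and the inverted elements of a reflection. -/
theorem exists_F_I (hc : Nat.card G = 7920) {P : Sylow 3 G} {i : G}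
    (hiN : i ∈ normalizer ((P : Subgroup G) : Set G)) (hi2 : i ^ 2 = 1) (hi1 : i ≠ 1) (hnot : ¬ Inverts i P)
    {p : G} (hp : p ∈ (P : Subgroup G)) : ∃ f ∈ Fsub i P, ∃ u ∈ Isub hc i P, p = f * u := by
  let m : Fsub i P × Isub hc i P → (P : Subgroup G) := fun a =>
    ⟨(a.1 : G) * a.2, mul_mem (mem_Fsub.1 a.1.2).1 (a.2.2).1⟩
  have hm : Function.Injective m := by
    rintro ⟨⟨f, hf⟩, ⟨u, hu⟩⟩ ⟨⟨f', hf'⟩, ⟨u', hu'⟩⟩ he
    have h1 : f * u = f' * u' := congrArg Subtype.val he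
    have h2 : f'⁻¹ * f = u' * u⁻¹ := by
      calc f'⁻¹ * f = f'⁻¹ * (f * u) * u⁻¹ := by group
        _ = f'⁻¹ * (f' * u') * u⁻¹ := by rw [h1]
        _ = _ := by group
    set w := f'⁻¹ * f with hw
    have hwF : w ∈ Fsub i P := mul_mem (inv_mem hf') hf
    have hwI : w ∈ Isub hc i P := by
      rw [h2]
      exact mul_mem hu' (inv_mem hu)
    have hw1 : w = 1 := by
      apply eq_one_of_sq hc P hwI.1
      have h3 := (mem_Fsub.1 hwF).2
      have h4 := hwI.2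
      have h5 : i * w * i⁻¹ = w := by rw [← h3]; group
      rw [h5] at h4
      rw [sq]
      nth_rewrite 1 [h4]
      simp
    have h5 : f = f' := (inv_mul_eq_one.1 hw1).symm
    have h6 : u = u' := by
      rw [h5] at h1
      exact mul_left_cancel h1
    subst h5 h6
    rfl
  have hb := hm.bijective_of_nat_card_le (by
    rw [Nat.card_prod, card_Fsub hc hiN hi2 hi1 hnot, card_Isub hc hiN hi2 hi1 hnot, card_sylow3 hc])
  obtain ⟨⟨f, u⟩, h⟩ := hb.2 ⟨p, hp⟩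
  exact ⟨f, f.2, u, u.2, (congrArg Subtype.val h).symm⟩

/-- The square of an element of order 4 normalizing `P` inverts `P`. -/
theorem inverts_sq (hc : Nat.card G = 7920) {P : Sylow 3 G} {g : G}
    (hgN : g ∈ normalizer ((P : Subgroup G) : Set G)) (h4 : g ^ 4 = 1) (h2 : g ^ 2 ≠ 1) :
    Inverts (g ^ 2) P := by
  by_contra hnot
  have hi2 : (g ^ 2) ^ 2 = 1 := by rw [← pow_mul]; exact h4
  have hiN := pow_mem hgN 2
  have hI := card_Isub hc hiN hi2 h2 hnot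
  obtain ⟨r, hr, hr1⟩ := exists_inverted_of_involution hc hiN hi2 h2
  have hact : ∀ u ∈ Isub hc (g ^ 2) P, g * u * g⁻¹ ∈ Isub hc (g ^ 2) P := by
    rintro u ⟨hu1, hu2⟩
    refine ⟨(mem_normalizer_iff.1 hgN u).1 hu1, ?_⟩
    have h5 : g ^ 2 * (g * u * g⁻¹) * (g ^ 2)⁻¹ = g * (g ^ 2 * u * (g ^ 2)⁻¹) * g⁻¹ := by
      simp only [sq]; group
    rw [h5, hu2]
    group
  have h6 : g ^ 2 * r * (g ^ 2)⁻¹ = r := by
    have h7 : g ^ 2 * r * (g ^ 2)⁻¹ = g * (g * r * g⁻¹) * g⁻¹ := by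
      simp only [sq]; group
    rw [h7]
    rcases order3_action hI hact with h | h
    · rw [h r hr, h r hr]
    · have h8 := h r hr
      rw [h8, ← conj_inv, h8, inv_inv]
  have h7 := hr.2
  rw [h6] at h7
  apply hr1
  apply eq_one_of_sq hc P hr.1
  rw [sq]
  nth_rewrite 1 [h7]
  simp

/-- Commuting involutions normalizing `P`: one of `i₁, i₂, i₁ i₂` inverts `P`. -/
theorem inverts_mul (hc : Nat.card G = 7920) {P : Sylow 3 G} {i₁ i₂ : G}
    (hN₁ : i₁ ∈ normalizer ((P : Subgroup G) : Set G)) (hN₂ : i₂ ∈ normalizer ((P : Subgroup G) : Set G))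
    (h₁2 : i₁ ^ 2 = 1) (h₂2 : i₂ ^ 2 = 1) (h₁1 : i₁ ≠ 1) (h₂1 : i₂ ≠ 1) (hne : i₁ ≠ i₂)
    (hcm : i₁ * i₂ = i₂ * i₁) (hn₁ : ¬ Inverts i₁ P) (hn₂ : ¬ Inverts i₂ P) : Inverts (i₁ * i₂) P := by
  have hF := card_Fsub hc hN₁ h₁2 h₁1 hn₁
  have hI := card_Isub hc hN₁ h₁2 h₁1 hn₁
  have hactF : ∀ u ∈ Fsub i₁ P, i₂ * u * i₂⁻¹ ∈ Fsub i₁ P := by
    intro u hu
    obtain ⟨hu1, hu2⟩ := mem_Fsub.1 hu
    refine mem_Fsub.2 ⟨(mem_normalizer_iff.1 hN₂ u).1 hu1, ?_⟩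
    calc i₂ * u * i₂⁻¹ * i₁ = i₂ * u * (i₂⁻¹ * i₁ * i₂) * i₂⁻¹ := by group
      _ = i₂ * u * i₁ * i₂⁻¹ := by
          rw [show i₂⁻¹ * i₁ * i₂ = i₁ by rw [mul_assoc, hcm]; group]
      _ = i₂ * (u * i₁) * i₂⁻¹ := by group
      _ = i₂ * (i₁ * u) * i₂⁻¹ := by rw [hu2]
      _ = (i₂ * i₁) * u * i₂⁻¹ := by group
      _ = (i₁ * i₂) * u * i₂⁻¹ := by rw [hcm]
      _ = i₁ * (i₂ * u * i₂⁻¹) := by group
  have hactI : ∀ u ∈ Isub hc i₁ P, i₂ * u * i₂⁻¹ ∈ Isub hc i₁ P := by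
    rintro u ⟨hu1, hu2⟩
    refine ⟨(mem_normalizer_iff.1 hN₂ u).1 hu1, ?_⟩
    have h5 : i₁ * (i₂ * u * i₂⁻¹) * i₁⁻¹ = i₂ * (i₁ * u * i₁⁻¹) * i₂⁻¹ := by
      calc i₁ * (i₂ * u * i₂⁻¹) * i₁⁻¹ = (i₁ * i₂) * u * (i₁ * i₂)⁻¹ := by group
        _ = (i₂ * i₁) * u * (i₂ * i₁)⁻¹ := by rw [hcm]
        _ = _ := by group
    rw [h5, hu2]
    group
  have hsplit : ∀ g : G, ∀ f u : G, g * (f * u) * g⁻¹ = (g * f * g⁻¹) * (g * u * g⁻¹) := by
    intro g f u; group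
  have hFcomm : ∀ f ∈ Fsub i₁ P, i₁ * f * i₁⁻¹ = f := by
    intro f hf
    have h := (mem_Fsub.1 hf).2
    rw [← h]; group
  rcases order3_action hF hactF with hFa | hFa <;> rcases order3_action hI hactI with hIa | hIa
  · exfalso
    apply not_centralizer_of_involution hc (P := P) h₂2 h₂1
    rw [mem_centralizer_iff]
    intro p hp
    obtain ⟨f, hf, u, hu, rfl⟩ := exists_F_I hc hN₁ h₁2 h₁1 hn₁ hp
    have h1 : i₂ * (f * u) * i₂⁻¹ = f * u := by rw [hsplit, hFa f hf, hIa u hu]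
    calc f * u * i₂ = (i₂ * (f * u) * i₂⁻¹) * i₂ := by rw [h1]
      _ = i₂ * (f * u) := by group
  · exfalso
    have h1 : i₁ * i₂ ∈ centralizer ((P : Subgroup G) : Set G) := by
      rw [mem_centralizer_iff]
      intro p hp
      obtain ⟨f, hf, u, hu, rfl⟩ := exists_F_I hc hN₁ h₁2 h₁1 hn₁ hp
      have h1 : (i₁ * i₂) * (f * u) * (i₁ * i₂)⁻¹ = f * u := by
        have h2 : (i₁ * i₂) * (f * u) * (i₁ * i₂)⁻¹ = i₁ * (i₂ * (f * u) * i₂⁻¹) * i₁⁻¹ := by group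
        rw [h2, hsplit i₂, hFa f hf, hIa u hu, hsplit i₁, hFcomm f hf, ← conj_inv, hu.2, inv_inv]
      calc f * u * (i₁ * i₂) = ((i₁ * i₂) * (f * u) * (i₁ * i₂)⁻¹) * (i₁ * i₂) := by rw [h1]
        _ = (i₁ * i₂) * (f * u) := by group
    have h2 := mem_of_mem_centralizer3 hc P h1
    have h3 : (i₁ * i₂) ^ 2 = 1 := by
      rw [(show Commute i₁ i₂ from hcm).mul_pow 2, h₁2, h₂2, one_mul]
    have h4 := eq_one_of_sq hc P h2 h3
    apply hne
    have h5 : i₂⁻¹ = i₂ := by rw [inv_eq_iff_mul_eq_one, ← sq]; exact h₂2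
    rw [← h5]
    exact eq_inv_of_mul_eq_one_left h4
  · intro p hp
    obtain ⟨f, hf, u, hu, rfl⟩ := exists_F_I hc hN₁ h₁2 h₁1 hn₁ hp
    have h2 : (i₁ * i₂) * (f * u) * (i₁ * i₂)⁻¹ = i₁ * (i₂ * (f * u) * i₂⁻¹) * i₁⁻¹ := by group
    rw [h2, hsplit i₂, hFa f hf, hIa u hu, hsplit i₁, ← conj_inv, hFcomm f hf, hu.2, mul_inv_rev]
    exact sylow3_comm hc P _ (inv_mem (mem_Fsub.1 hf).1) _ (inv_mem hu.1)
  · exfalso
    apply hn₂
    intro p hp
    obtain ⟨f, hf, u, hu, rfl⟩ := exists_F_I hc hN₁ h₁2 h₁1 hn₁ hp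
    rw [hsplit, hFa f hf, hIa u hu, mul_inv_rev]
    exact sylow3_comm hc P _ (inv_mem (mem_Fsub.1 hf).1) _ (inv_mem hu.1)

/-- A subgroup of order 4 normalizing `P` contains an involution inverting `P`. -/
theorem exists_inverter_four (hc : Nat.card G = 7920) {P : Sylow 3 G} {D : Subgroup G}
    (hD : D ≤ normalizer ((P : Subgroup G) : Set G)) (h4 : Nat.card D = 4) :
    ∃ s ∈ D, s ^ 2 = 1 ∧ Inverts s P := by
  have hpow : ∀ a ∈ D, a ^ 4 = 1 := by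
    intro a ha
    apply orderOf_dvd_iff_pow_eq_one.1
    have := Subgroup.orderOf_dvd_natCard D ha
    rwa [h4] at this
  by_cases hex : ∃ a ∈ D, a ^ 2 ≠ 1
  · obtain ⟨a, ha, ha2⟩ := hex
    exact ⟨a ^ 2, pow_mem ha 2, by rw [← pow_mul]; exact hpow a ha, inverts_sq hc (hD ha) (hpow a ha) ha2⟩
  push Not at hex
  obtain ⟨a, ha, ha1⟩ : ∃ a ∈ D, a ≠ 1 := by
    have : Nontrivial D := by
      rw [← Finite.one_lt_card_iff_nontrivial, h4]; norm_num
    obtain ⟨⟨a, ha⟩, ha1⟩ := exists_ne (1 : D)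
    exact ⟨a, ha, fun h => ha1 (Subtype.ext h)⟩
  obtain ⟨b, hb, hb1, hba⟩ : ∃ b ∈ D, b ≠ 1 ∧ a ≠ b := by
    by_contra hcon
    push Not at hcon
    have h1 : D ≤ zpowers a := by
      intro b hb
      by_cases hb1 : b = 1
      · rw [hb1]; exact Subgroup.one_mem _
      · rw [← hcon b hb hb1]; exact mem_zpowers a
    have h2 := Nat.card_le_card_of_injective _ (Subgroup.inclusion_injective h1)
    rw [h4, Nat.card_zpowers, orderOf_eq_prime (hex a ha) ha1] at h2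
    omega
  by_cases h1 : Inverts a P
  · exact ⟨a, ha, hex a ha, h1⟩
  by_cases h2 : Inverts b P
  · exact ⟨b, hb, hex b hb, h2⟩
  have hcm : a * b = b * a := by
    have h3 := hex _ (mul_mem ha hb)
    have h5 := hex a ha
    have h6 := hex b hb
    rw [sq] at h3 h5 h6
    have h7 : a⁻¹ = a := by rw [inv_eq_iff_mul_eq_one]; exact h5
    have h8 : b⁻¹ = b := by rw [inv_eq_iff_mul_eq_one]; exact h6
    have h9 : (a * b)⁻¹ = a * b := inv_eq_of_mul_eq_one_left h3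
    rw [← h9, mul_inv_rev, h7, h8]
  exact ⟨a * b, mul_mem ha hb, hex _ (mul_mem ha hb),
    inverts_mul hc (hD ha) (hD hb) (hex a ha) (hex b hb) ha1 hb1 hba hcm h1 h2⟩

end Cfsg.Agent.Lib.Ord7920
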