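import Mathlib
import Cfsg.Agent.Lib.Ord7920J

/-!
# Simple groups of order 7920, part K: centralizers of involutions
-/

set_option autoImplicit false
set_option linter.unusedSectionVars false
set_option linter.style.haveILetI false

namespace Cfsg.Agent.Lib.Ord7920

open Subgroup MulAction
open Cfsg.Agent.Lib.SmallGroups2 Cfsg.Agent.Lib.SmallGroups3 Cfsg.Agent.Lib.SmallGroups4
  Cfsg.Agent.Lib.SmallGroups5 Cfsg.Agent.Lib.TwoLocal Cfsg.Agent.Lib.TwoLocal2
  Cfsg.Agent.Lib.TwoLocal3 Cfsg.Agent.Lib.TransferEval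

variable {G : Type*} [Group G] [Finite G] [IsSimpleGroup G]

theorem exists_inv_involution (hc : Nat.card G = 7920) (P : Sylow 3 G) :
    ∃ s ∈ normalizer ((P : Subgroup G) : Set G), s ^ 2 = 1 ∧ s ≠ 1 ∧ Inverts s P := by
  obtain ⟨s, hsN, hs⟩ := exists_inverter hc P
  have hu : s ^ 2 ∈ centralizer ((P : Subgroup G) : Set G) := by
    rw [mem_centralizer_iff]
    intro p hp
    have h1 : s ^ 2 * p * (s ^ 2)⁻¹ = p := by
      calc s ^ 2 * p * (s ^ 2)⁻¹ = s * (s * p * s⁻¹) * s⁻¹ := by simp only [sq]; group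
        _ = p := by rw [hs p hp, ← conj_inv, hs p hp, inv_inv]
    calc p * s ^ 2 = (s ^ 2 * p * (s ^ 2)⁻¹) * s ^ 2 := by rw [h1]
      _ = s ^ 2 * p := by group
  have huP := mem_of_mem_centralizer3 hc P hu
  have h9 := pow9_of_mem hc P huP
  have hs18 : (s ^ 9) ^ 2 = 1 := by
    rw [← pow_mul, show 9 * 2 = 2 * 9 by norm_num, pow_mul]; exact h9
  have hinv : Inverts (s ^ 9) P := by
    intro p hp
    have h4 : (s ^ 2) ^ 4 ∈ centralizer ((P : Subgroup G) : Set G) := pow_mem hu 4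
    rw [mem_centralizer_iff] at h4
    have h5 : (s ^ 2) ^ 4 * p * ((s ^ 2) ^ 4)⁻¹ = p := by
      have := h4 p hp
      rw [← this]; group
    have h6 : s ^ 9 = s * (s ^ 2) ^ 4 := by
      rw [← pow_mul, ← pow_succ']
    rw [h6]
    calc s * (s ^ 2) ^ 4 * p * (s * (s ^ 2) ^ 4)⁻¹ = s * ((s ^ 2) ^ 4 * p * ((s ^ 2) ^ 4)⁻¹) * s⁻¹ := by
          group
      _ = p⁻¹ := by rw [h5, hs p hp]
  refine ⟨s ^ 9, pow_mem hsN 9, hs18, ?_, hinv⟩
  intro h
  obtain ⟨p, hp, hp1⟩ : ∃ p ∈ (P : Subgroup G), p ≠ 1 := by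
    have : Nontrivial (P : Subgroup G) := by
      rw [← Finite.one_lt_card_iff_nontrivial, card_sylow3 hc]; norm_num
    obtain ⟨⟨a, ha⟩, ha1⟩ := exists_ne (1 : (P : Subgroup G))
    exact ⟨a, ha, fun h => ha1 (Subtype.ext h)⟩
  have h1 := hinv p hp
  rw [h] at h1
  simp only [one_mul, inv_one, mul_one] at h1
  apply hp1
  apply eq_one_of_sq hc P hp
  rw [sq]
  nth_rewrite 1 [h1]
  simp

theorem inverter_conj (hc : Nat.card G = 7920) {P : Sylow 3 G} {s₀ s : G} (hs₀Inv : Inverts s₀ P)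
    (hsInv : Inverts s P) : ∃ p ∈ (P : Subgroup G), p * s₀ * p⁻¹ = s := by
  have hu : s * s₀⁻¹ ∈ centralizer ((P : Subgroup G) : Set G) := by
    rw [mem_centralizer_iff]
    intro q hq
    have h1 : (s * s₀⁻¹) * q * (s * s₀⁻¹)⁻¹ = q := by
      have h2 : s₀⁻¹ * q * s₀ = q⁻¹ := by
        have h3 := hs₀Inv q⁻¹ (inv_mem hq)
        rw [inv_inv] at h3
        calc s₀⁻¹ * q * s₀ = s₀⁻¹ * (s₀ * q⁻¹ * s₀⁻¹) * s₀ := by rw [h3]
          _ = q⁻¹ := by group
      calc (s * s₀⁻¹) * q * (s * s₀⁻¹)⁻¹ = s * (s₀⁻¹ * q * s₀) * s⁻¹ := by group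
        _ = s * q⁻¹ * s⁻¹ := by rw [h2]
        _ = (s * q * s⁻¹)⁻¹ := by group
        _ = q := by rw [hsInv q hq, inv_inv]
    calc q * (s * s₀⁻¹) = ((s * s₀⁻¹) * q * (s * s₀⁻¹)⁻¹) * (s * s₀⁻¹) := by rw [h1]
      _ = (s * s₀⁻¹) * q := by group
  have huP := mem_of_mem_centralizer3 hc P hu
  set u := s * s₀⁻¹ with hudef
  have h9 := pow9_of_mem hc P huP
  refine ⟨u ^ 5, pow_mem huP 5, ?_⟩
  have h1 : s₀ * (u ^ 5)⁻¹ = u ^ 5 * s₀ := by
    have h2 := hs₀Inv (u ^ 5)⁻¹ (inv_mem (pow_mem huP 5))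
    rw [inv_inv] at h2
    calc s₀ * (u ^ 5)⁻¹ = (s₀ * (u ^ 5)⁻¹ * s₀⁻¹) * s₀ := by group
      _ = u ^ 5 * s₀ := by rw [h2]
  rw [mul_assoc, h1, ← mul_assoc]
  have h2 : u ^ 5 * u ^ 5 = u := by
    calc u ^ 5 * u ^ 5 = u ^ 9 * u := by rw [← pow_add, ← pow_succ]
      _ = u := by rw [h9, one_mul]
  rw [h2, hudef]
  group

theorem inverts_conj_of_mem_normalizer {P : Sylow 3 G} {s g : G} (hs : Inverts s P)
    (hg : g ∈ normalizer ((P : Subgroup G) : Set G)) : Inverts (g * s * g⁻¹) P := by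
  intro p hp
  have h1 : g⁻¹ * p * g ∈ (P : Subgroup G) := by
    have := (mem_normalizer_iff.1 (inv_mem hg) p).1 hp
    simpa using this
  have h2 := hs _ h1
  calc (g * s * g⁻¹) * p * (g * s * g⁻¹)⁻¹ = g * (s * (g⁻¹ * p * g) * s⁻¹) * g⁻¹ := by group
    _ = p⁻¹ := by rw [h2]; group

/-- The centralizer of an inverting involution in `N(P)`. -/
theorem card_inf_centralizer_inv (hc : Nat.card G = 7920) {P : Sylow 3 G} {s₀ : G}
    (hs₀N : s₀ ∈ normalizer ((P : Subgroup G) : Set G)) (hs₀Inv : Inverts s₀ P) :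
    Nat.card ↥(normalizer ((P : Subgroup G) : Set G) ⊓ centralizer ({s₀} : Set G)) * 9 = 144 := by
  rw [← card_normalizer3 hc P]
  let f : ↥(P : Subgroup G) × ↥(normalizer ((P : Subgroup G) : Set G) ⊓ centralizer ({s₀} : Set G)) →
      normalizer ((P : Subgroup G) : Set G) := fun w =>
    ⟨(w.1 : G) * w.2, mul_mem (Subgroup.le_normalizer w.1.2) (Subgroup.mem_inf.1 w.2.2).1⟩
  have hf : Function.Bijective f := by
    constructor
    · rintro ⟨⟨u, hu⟩, ⟨c, hc1⟩⟩ ⟨⟨u', hu'⟩, ⟨c', hc2⟩⟩ he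
      have h1 : u * c = u' * c' := congrArg Subtype.val he
      have h2 : u'⁻¹ * u = c' * c⁻¹ := by
        calc u'⁻¹ * u = u'⁻¹ * (u * c) * c⁻¹ := by group
          _ = u'⁻¹ * (u' * c') * c⁻¹ := by rw [h1]
          _ = c' * c⁻¹ := by group
      set w := u'⁻¹ * u with hw
      have hwP : w ∈ (P : Subgroup G) := mul_mem (inv_mem hu') hu
      have hwC : w ∈ centralizer ({s₀} : Set G) := by
        rw [h2]
        exact mul_mem (Subgroup.mem_inf.1 hc2).2 (inv_mem (Subgroup.mem_inf.1 hc1).2)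
      have hw1 : w = 1 := by
        apply eq_one_of_sq hc P hwP
        have h3 := hs₀Inv w hwP
        rw [mem_centralizer_singleton_iff] at hwC
        have h4 : s₀ * w * s₀⁻¹ = w := by rw [← hwC]; group
        rw [h4] at h3
        rw [sq]
        nth_rewrite 1 [h3]
        simp
      have h5 : u = u' := (inv_mul_eq_one.1 hw1).symm
      have h6 : c = c' := by
        rw [h5] at h1
        exact mul_left_cancel h1
      subst h5 h6
      rfl
    · rintro ⟨g, hg⟩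
      obtain ⟨p, hp, hpe⟩ := inverter_conj hc hs₀Inv (inverts_conj_of_mem_normalizer hs₀Inv hg)
      have hpN := Subgroup.le_normalizer hp
      refine ⟨⟨⟨p, hp⟩, ⟨p⁻¹ * g, Subgroup.mem_inf.2 ⟨mul_mem (inv_mem hpN) hg, ?_⟩⟩⟩, ?_⟩
      · rw [mem_centralizer_singleton_iff]
        have h2 : (p⁻¹ * g) * s₀ * (p⁻¹ * g)⁻¹ = s₀ := by
          calc (p⁻¹ * g) * s₀ * (p⁻¹ * g)⁻¹ = p⁻¹ * (g * s₀ * g⁻¹) * p := by group
            _ = p⁻¹ * (p * s₀ * p⁻¹) * p := by rw [hpe]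
            _ = s₀ := by group
        calc (p⁻¹ * g) * s₀ = ((p⁻¹ * g) * s₀ * (p⁻¹ * g)⁻¹) * (p⁻¹ * g) := by group
          _ = s₀ * (p⁻¹ * g) := by rw [h2]
      · apply Subtype.ext
        show p * (p⁻¹ * g) = g
        group
  have h3 := Nat.card_congr (Equiv.ofBijective f hf)
  rw [← h3, Nat.card_prod, card_sylow3 hc, mul_comm]

/-- The stabilizer in `N(P)` of another Sylow 3-subgroup contains an inverter. -/
theorem stab_has_inverter (hc : Nat.card G = 7920) {P Q : Sylow 3 G} (hQ : Q ≠ P) :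
    ∃ s ∈ normalizer ((P : Subgroup G) : Set G), s • Q = Q ∧ s ^ 2 = 1 ∧ Inverts s P := by
  set N := normalizer ((P : Subgroup G) : Set G) with hN
  have horb : Nat.card (orbit N Q) * Nat.card (stabilizer N Q) = 144 := by
    have h1 := Subgroup.card_mul_index (stabilizer N Q)
    rw [MulAction.index_stabilizer, show Nat.card N = 144 from card_normalizer3 hc P] at h1
    rw [mul_comm]
    exact h1
  have hsmulP : ∀ n : N, n • P = P := fun n => Sylow.smul_eq_iff_mem_normalizer.2 n.2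
  have horb54 : Nat.card (orbit N Q) ≤ 54 := by
    rw [← card_ne_sylow3 hc P]
    refine Nat.card_le_card_of_injective (fun R => ⟨R.1, ?_⟩) ?_
    · obtain ⟨n, hn⟩ := R.2
      intro h
      apply hQ
      have h1 : n • Q = P := by rw [← h]; exact hn
      have h2 : n • Q = n • P := by rw [h1, hsmulP]
      exact smul_left_cancel _ h2
    · intro a b h
      apply Subtype.ext
      have h' := congrArg Subtype.val h
      exact h'
  set D : Subgroup G := (stabilizer N Q).map N.subtype with hD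
  have hDcard : Nat.card D = Nat.card (stabilizer N Q) :=
    Nat.card_congr (Subgroup.equivMapOfInjective _ _ N.subtype_injective).symm.toEquiv
  have hDN : D ≤ N := by
    rintro _ ⟨u, _, rfl⟩
    exact u.2
  have hDQ : ∀ d ∈ D, d • Q = Q := by
    rintro _ ⟨u, hu, rfl⟩
    exact hu
  have hD3 : ¬ 3 ∣ Nat.card D := by
    intro h
    obtain ⟨x, hx⟩ := exists_prime_orderOf_dvd_card' (G := D) 3 h
    have hx' : orderOf (x : G) = 3 := by rwa [Subgroup.orderOf_coe]
    have hx9 : (x : G) ^ 9 = 1 := by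
      have h3 : (x : G) ^ 3 = 1 := by rw [← hx']; exact pow_orderOf_eq_one (x : G)
      calc (x : G) ^ 9 = ((x : G) ^ 3) ^ 3 := by rw [← pow_mul]
        _ = 1 := by rw [h3]; simp
    have h1 := mem_sylow_of_mem_normalizer P (isP_zpowers hx9) (hDN x.2)
    have h2 := mem_sylow_of_mem_normalizer Q (isP_zpowers hx9)
      (Sylow.smul_eq_iff_mem_normalizer.1 (hDQ x x.2))
    have h3 := sylow3_ti hc hQ h2 h1
    rw [h3] at hx'
    simp at hx'
  have hD4 : 4 ∣ Nat.card D := by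
    rw [hDcard] at hD3 ⊢
    have h1 : Nat.card (stabilizer N Q) ∣ 144 := ⟨Nat.card (orbit N Q), by rw [← horb, mul_comm]⟩
    have h2 : Nat.card (stabilizer N Q) ≤ 144 := Nat.le_of_dvd (by norm_num) h1
    have h3 : 3 ≤ Nat.card (stabilizer N Q) := by
      by_contra hlt
      have h4 : Nat.card (stabilizer N Q) ≤ 2 := by omega
      have h5 := Nat.mul_le_mul horb54 h4
      omega
    generalize Nat.card (stabilizer N Q) = m at *
    interval_cases m <;> first | omega | (exfalso; revert h1; decide)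
  obtain ⟨D₄, hD₄, hD₄c⟩ := exists_subgroup_le_card (q := 2) (a := 2) D (by simpa using hD4)
  obtain ⟨s, hs, hs2, hsI⟩ := exists_inverter_four hc (D := D₄) (hD₄.trans hDN) (by simpa using hD₄c)
  exact ⟨s, hDN (hD₄ hs), hDQ s (hD₄ hs), hs2, hsI⟩

/-- An inverting involution fixes exactly 7 Sylow 3-subgroups. -/
theorem fix_inverter (hc : Nat.card G = 7920) {P : Sylow 3 G} {s₀ : G} (hs₀2 : s₀ ^ 2 = 1)
    (hs₀Inv : Inverts s₀ P) : Nat.card {R : Sylow 3 G // R ≠ P ∧ s₀ • R = R} = 6 := by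
  have h1 := fix_inv_bound hc P hs₀2 hs₀Inv
  let f : ↥(P : Subgroup G) × {R : Sylow 3 G // R ≠ P ∧ s₀ • R = R} → {R : Sylow 3 G // R ≠ P} :=
    fun a => ⟨(a.1 : G) • a.2.1, by
      intro h
      apply a.2.2.1
      have h1 : (a.1 : G) • a.2.1 = (a.1 : G) • P := by
        rw [h]
        exact (Sylow.smul_eq_iff_mem_normalizer.2 (Subgroup.le_normalizer a.1.2)).symm
      exact smul_left_cancel _ h1⟩
  have hf : Function.Surjective f := by
    rintro ⟨Q, hQ⟩
    obtain ⟨s, hsN, hsQ, hs2, hsI⟩ := stab_has_inverter hc hQ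
    obtain ⟨p, hp, hpe⟩ := inverter_conj hc hs₀Inv hsI
    refine ⟨⟨⟨p, hp⟩, ⟨p⁻¹ • Q, ?_, ?_⟩⟩, Subtype.ext ?_⟩
    · intro h
      apply hQ
      have h2 : Q = p • (p⁻¹ • Q) := by rw [smul_inv_smul]
      rw [h2, h]
      exact Sylow.smul_eq_iff_mem_normalizer.2 (Subgroup.le_normalizer hp)
    · have h2 : s₀ * p⁻¹ = p⁻¹ * s := by
        rw [← hpe]; group
      rw [← mul_smul, h2, mul_smul, hsQ]
    · show p • (p⁻¹ • Q) = Q
      rw [smul_inv_smul]
  have h2 := Nat.card_le_card_of_surjective f hf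
  rw [Nat.card_prod, card_sylow3 hc, card_ne_sylow3 hc] at h2
  omega

/-- An element commuting with a nontrivial element of `P` normalizes `P`. -/
theorem mem_normalizer_of_comm (hc : Nat.card G = 7920) {P : Sylow 3 G} {p g : G}
    (hp : p ∈ (P : Subgroup G)) (hp1 : p ≠ 1) (hg : g * p = p * g) :
    g ∈ normalizer ((P : Subgroup G) : Set G) := by
  apply Sylow.smul_eq_iff_mem_normalizer.1
  by_contra hne
  apply hp1
  apply sylow3_ti hc hne _ hp
  rw [mem_smul_sylow_iff]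
  have : g⁻¹ * p * g = p := by
    rw [mul_assoc, ← hg]; group
  rw [this]
  exact hp

/-- Commuting reflections with a nontrivial element of `P`: at most three. -/
theorem card_comm_invol_le (hc : Nat.card G = 7920) {P : Sylow 3 G} {p : G}
    (hp : p ∈ (P : Subgroup G)) (hp1 : p ≠ 1) (A : Finset G)
    (hA : ∀ w ∈ A, w ∈ normalizer ((P : Subgroup G) : Set G) ∧ w ^ 2 = 1 ∧ w ≠ 1 ∧ ¬ Inverts w P ∧
      w * p = p * w) : A.card ≤ 3 := by
  classical
  haveI := Fintype.ofFinite G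
  rcases A.eq_empty_or_nonempty with rfl | ⟨i₁, hi₁⟩
  · simp
  obtain ⟨hN, hi2, hi1, hnot, hcomm⟩ := hA i₁ hi₁
  set Y := centralizer ({p} : Set G) with hY
  have hmemY : ∀ {g}, g ∈ Y ↔ g * p = p * g := by
    intro g
    rw [hY, mem_centralizer_singleton_iff]
  have hPY : (P : Subgroup G) ≤ Y := by
    intro u hu
    exact hmemY.2 (sylow3_comm hc P _ hu _ hp)
  have hYN : Y ≤ normalizer ((P : Subgroup G) : Set G) := fun g hg =>
    mem_normalizer_of_comm hc hp hp1 (hmemY.1 hg)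
  obtain ⟨m, hm⟩ : 9 ∣ Nat.card Y := by
    rw [← card_sylow3 hc P]
    exact Subgroup.card_dvd_of_le hPY
  have hm16 : m ∣ 16 := by
    have h1 : Nat.card Y ∣ 144 := by
      rw [← card_normalizer3 hc P]
      exact Subgroup.card_dvd_of_le hYN
    rw [hm] at h1
    have : 9 * m ∣ 9 * 16 := h1
    exact Nat.dvd_of_mul_dvd_mul_left (by norm_num) this
  have hm4 : ¬ 4 ∣ m := by
    intro h4
    obtain ⟨D₄, hD₄, hD₄c⟩ := exists_subgroup_le_card (q := 2) (a := 2) Y (by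
      rw [hm]
      exact Dvd.dvd.mul_left (by simpa using h4) 9)
    obtain ⟨s, hs, hs2, hsI⟩ := exists_inverter_four hc (P := P) (D := D₄) (hD₄.trans hYN)
      (by simpa using hD₄c)
    have h1 := hmemY.1 (hD₄ hs)
    have h2 := hsI p hp
    have h3 : s * p * s⁻¹ = p := by rw [h1]; group
    rw [h3] at h2
    apply hp1
    apply eq_one_of_sq hc P hp
    rw [sq]
    nth_rewrite 1 [h2]
    simp
  have hnotP : ∀ {w}, w ^ 2 = 1 → w ≠ 1 → w ∉ (P : Subgroup G) := fun h2 h1 h =>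
    h1 (eq_one_of_sq hc P h h2)
  have hi₁Y : i₁ ∈ Y := hmemY.2 hcomm
  have hm2 : m = 2 := by
    have hle : m ≤ 16 := Nat.le_of_dvd (by norm_num) hm16
    have hm1 : m ≠ 1 := by
      rintro rfl
      have h5 : (P : Subgroup G) = Y := by
        apply Subgroup.eq_of_le_of_card_ge hPY
        rw [hm, card_sylow3 hc]
      apply hnotP hi2 hi1
      rw [h5]
      exact hi₁Y
    interval_cases m <;> first | omega | rfl
  have hidx : ((P : Subgroup G).subgroupOf Y).index = 2 := by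
    have h1 := Subgroup.card_mul_index ((P : Subgroup G).subgroupOf Y)
    rw [Nat.card_congr (Subgroup.subgroupOfEquivOfLe hPY).toEquiv, card_sylow3 hc, hm, hm2] at h1
    omega
  have hI := card_Isub hc hN hi2 hi1 hnot
  have hIcard : Nat.card (Isub hc i₁ P) = (Finset.univ.filter fun u : G => u ∈ Isub hc i₁ P).card := by
    rw [Nat.card_eq_fintype_card, Fintype.card_subtype]
  rw [← hI, hIcard]
  apply Finset.card_le_card_of_injOn (fun w => i₁ * w)
  · intro w hw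
    have hw' := Finset.mem_coe.1 hw
    obtain ⟨hwN, hw2, hw1, -, hwc⟩ := hA w hw'
    apply Finset.mem_coe.2
    rw [Finset.mem_filter]
    refine ⟨Finset.mem_univ _, ?_, ?_⟩
    · have h1 := (Subgroup.mul_mem_iff_of_index_two hidx (a := ⟨i₁, hi₁Y⟩) (b := ⟨w, hmemY.2 hwc⟩)).2 (by
        constructor
        · intro h
          exact absurd h (hnotP hi2 hi1)
        · intro h
          exact absurd h (hnotP hw2 hw1))
      exact h1
    · have hi₁i : i₁⁻¹ = i₁ := by rw [inv_eq_iff_mul_eq_one, ← sq]; exact hi2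
      have hwi : w⁻¹ = w := by rw [inv_eq_iff_mul_eq_one, ← sq]; exact hw2
      rw [mul_inv_rev, hi₁i, hwi, ← mul_assoc, ← sq, hi2, one_mul]
  · intro a _ b _ h
    exact mul_left_cancel h

theorem card_reflections_le (hc : Nat.card G = 7920) (P : Sylow 3 G) :
    Nat.card {w : G // w ∈ normalizer ((P : Subgroup G) : Set G) ∧ w ^ 2 = 1 ∧ w ≠ 1 ∧ ¬ Inverts w P} ≤ 12 := by
  classical
  haveI := Fintype.ofFinite G
  let RF : Finset G := Finset.univ.filter fun w =>
    w ∈ normalizer ((P : Subgroup G) : Set G) ∧ w ^ 2 = 1 ∧ w ≠ 1 ∧ ¬ Inverts w P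
  let PF : Finset G := Finset.univ.filter fun p => p ∈ (P : Subgroup G) ∧ p ≠ 1
  have hRF : Nat.card {w : G // w ∈ normalizer ((P : Subgroup G) : Set G) ∧ w ^ 2 = 1 ∧ w ≠ 1 ∧ ¬ Inverts w P} = RF.card := by
    rw [Nat.card_eq_fintype_card, Fintype.card_subtype]
  have hPF : PF.card = 8 := by
    have h1 := card_sub_one (P : Subgroup G)
    rw [card_sylow3 hc] at h1
    have h2 : Nat.card {w : G // w ∈ (P : Subgroup G) ∧ w ≠ 1} = PF.card := by
      rw [Nat.card_eq_fintype_card, Fintype.card_subtype]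
    omega
  let r : G → G → Prop := fun w p => w * p = p * w
  have hsum := Finset.sum_card_bipartiteAbove_eq_sum_card_bipartiteBelow (s := RF) (t := PF) r
  have hlow : ∀ w ∈ RF, 2 ≤ (Finset.bipartiteAbove r PF w).card := by
    intro w hw
    obtain ⟨hN, hw2, hw1, hnot⟩ := (Finset.mem_filter.1 hw).2
    have h1 := card_Fsub hc hN hw2 hw1 hnot
    have h2 := card_sub_one (Fsub w P)
    rw [h1] at h2
    have h3 : Nat.card {u : G // u ∈ Fsub w P ∧ u ≠ 1} = (Finset.univ.filter fun u => u ∈ Fsub w P ∧ u ≠ 1).card := by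
      rw [Nat.card_eq_fintype_card, Fintype.card_subtype]
    have h4 : (Finset.univ.filter fun u => u ∈ Fsub w P ∧ u ≠ 1) ⊆ Finset.bipartiteAbove r PF w := by
      intro u hu
      obtain ⟨hu1, hu2⟩ := (Finset.mem_filter.1 hu).2
      obtain ⟨hu3, hu4⟩ := mem_Fsub.1 hu1
      rw [Finset.mem_bipartiteAbove]
      exact ⟨Finset.mem_filter.2 ⟨Finset.mem_univ _, hu3, hu2⟩, hu4.symm⟩
    have h5 := Finset.card_le_card h4
    omega
  have hup : ∀ p ∈ PF, (Finset.bipartiteBelow r RF p).card ≤ 3 := by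
    intro p hp
    obtain ⟨hp1, hp2⟩ := (Finset.mem_filter.1 hp).2
    apply card_comm_invol_le hc hp1 hp2
    intro w hw
    rw [Finset.mem_bipartiteBelow] at hw
    obtain ⟨hw1, hw2⟩ := hw
    obtain ⟨h1, h2, h3, h4⟩ := (Finset.mem_filter.1 hw1).2
    exact ⟨h1, h2, h3, h4, hw2⟩
  have h1 : RF.card * 2 ≤ ∑ w ∈ RF, (Finset.bipartiteAbove r PF w).card :=
    Finset.card_nsmul_le_sum _ _ _ hlow
  have h2 : ∑ p ∈ PF, (Finset.bipartiteBelow r RF p).card ≤ PF.card * 3 :=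
    Finset.sum_le_card_nsmul _ _ _ hup
  rw [hRF]
  rw [hPF] at h2
  omega

theorem card_invol_le (hc : Nat.card G = 7920) {P : Sylow 3 G} {s₀ : G} (hs₀Inv : Inverts s₀ P) :
    Nat.card {w : G // w ∈ normalizer ((P : Subgroup G) : Set G) ∧ w ^ 2 = 1 ∧ w ≠ 1} ≤ 21 := by
  classical
  haveI := Fintype.ofFinite G
  have h1 := card_reflections_le hc P
  have hb : Nat.card {w : G // w ∈ normalizer ((P : Subgroup G) : Set G) ∧ w ^ 2 = 1 ∧ w ≠ 1 ∧ Inverts w P} ≤ 9 := by
    rw [← card_sylow3 hc P]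
    refine Nat.card_le_card_of_injective (fun w => ⟨w.1 * s₀⁻¹, ?_⟩) ?_
    · obtain ⟨p, hp, hpe⟩ := inverter_conj hc hs₀Inv w.2.2.2.2
      apply mem_of_mem_centralizer3 hc P
      rw [mem_centralizer_iff]
      intro q hq
      have h2 : s₀⁻¹ * q * s₀ = q⁻¹ := by
        have h3 := hs₀Inv q⁻¹ (inv_mem hq)
        rw [inv_inv] at h3
        calc s₀⁻¹ * q * s₀ = s₀⁻¹ * (s₀ * q⁻¹ * s₀⁻¹) * s₀ := by rw [h3]
          _ = q⁻¹ := by group
      have h4 : (w.1 * s₀⁻¹) * q * (w.1 * s₀⁻¹)⁻¹ = q := by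
        calc (w.1 * s₀⁻¹) * q * (w.1 * s₀⁻¹)⁻¹ = w.1 * (s₀⁻¹ * q * s₀) * w.1⁻¹ := by group
          _ = w.1 * q⁻¹ * w.1⁻¹ := by rw [h2]
          _ = (w.1 * q * w.1⁻¹)⁻¹ := by group
          _ = q := by rw [w.2.2.2.2 q hq, inv_inv]
      calc q * (w.1 * s₀⁻¹) = ((w.1 * s₀⁻¹) * q * (w.1 * s₀⁻¹)⁻¹) * (w.1 * s₀⁻¹) := by rw [h4]
        _ = (w.1 * s₀⁻¹) * q := by group
    · intro a b h
      apply Subtype.ext
      have h' : a.1 * s₀⁻¹ = b.1 * s₀⁻¹ := congrArg Subtype.val h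
      exact mul_right_cancel h'
  have h3 : Nat.card {w : G // w ∈ normalizer ((P : Subgroup G) : Set G) ∧ w ^ 2 = 1 ∧ w ≠ 1} ≤
      Nat.card {w : G // w ∈ normalizer ((P : Subgroup G) : Set G) ∧ w ^ 2 = 1 ∧ w ≠ 1 ∧ Inverts w P} +
      Nat.card {w : G // w ∈ normalizer ((P : Subgroup G) : Set G) ∧ w ^ 2 = 1 ∧ w ≠ 1 ∧ ¬ Inverts w P} := by
    simp only [Nat.card_eq_fintype_card, Fintype.card_subtype]
    rw [← Finset.card_filter_add_card_filter_not (s := Finset.univ.filter fun w : G =>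
      w ∈ normalizer ((P : Subgroup G) : Set G) ∧ w ^ 2 = 1 ∧ w ≠ 1) (fun w => Inverts w P)]
    apply le_of_eq
    rw [Finset.filter_filter, Finset.filter_filter]
    congr 2
    · ext w
      simp only [Finset.mem_filter, Finset.mem_univ, true_and]
      tauto
    · ext w
      simp only [Finset.mem_filter, Finset.mem_univ, true_and]
      tauto
  omega

/-- The centralizer of an inverting involution and its class in `N(P)`. -/
theorem inverter_data (hc : Nat.card G = 7920) {P : Sylow 3 G} {s₀ : G}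
    (hs₀N : s₀ ∈ normalizer ((P : Subgroup G) : Set G)) (hs₀2 : s₀ ^ 2 = 1) (hs₀1 : s₀ ≠ 1)
    (hs₀Inv : Inverts s₀ P) :
    Nat.card (centralizer ({s₀} : Set G)) = 48 ∧
      ∀ w ∈ normalizer ((P : Subgroup G) : Set G), w ^ 2 = 1 → w ≠ 1 → IsConj s₀ w := by
  classical
  have hC1 := card_inf_centralizer_inv hc hs₀N hs₀Inv
  have hC16 : Nat.card ↥(normalizer ((P : Subgroup G) : Set G) ⊓ centralizer ({s₀} : Set G)) = 16 := by
    omega
  have hd16 : 16 ∣ Nat.card (centralizer ({s₀} : Set G)) := by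
    rw [← hC16]
    exact Subgroup.card_dvd_of_le inf_le_right
  obtain ⟨k, hk⟩ := hd16
  have hf := fix_inverter hc hs₀2 hs₀Inv
  have hfix : Nat.card (fixedBy (Sylow 3 G) s₀) = 7 := by
    have h1 : P ∈ fixedBy (Sylow 3 G) s₀ := by
      rw [mem_fixedBy]
      exact Sylow.smul_eq_iff_mem_normalizer.2 hs₀N
    have h2 := Set.ncard_sdiff_singleton_add_one h1 (Set.toFinite _)
    have h3 : ((fixedBy (Sylow 3 G) s₀ : Set (Sylow 3 G)) \ {P}).ncard = 6 := by
      rw [← hf]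
      have h4 : {R : Sylow 3 G | R ≠ P ∧ s₀ • R = R} = ((fixedBy (Sylow 3 G) s₀ : Set (Sylow 3 G)) \ {P}) := by
        ext R
        constructor
        · rintro ⟨h4, h5⟩
          exact ⟨h5, h4⟩
        · rintro ⟨h4, h5⟩
          exact ⟨h5, h4⟩
      rw [← h4]
      rfl
    rw [h3] at h2
    have h5 : Nat.card (fixedBy (Sylow 3 G) s₀) = (fixedBy (Sylow 3 G) s₀ : Set (Sylow 3 G)).ncard := rfl
    omega
  have hform := card_fixedBy_mul_normalizer P s₀
  rw [hfix, card_normalizer3 hc P, hk] at hform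
  set a := Nat.card {w : G // IsConj s₀ w ∧ w ∈ normalizer ((P : Subgroup G) : Set G)} with ha
  have haInv : a ≤ Nat.card {w : G // w ∈ normalizer ((P : Subgroup G) : Set G) ∧ w ^ 2 = 1 ∧ w ≠ 1} := by
    refine Nat.card_le_card_of_injective (fun w => ⟨w.1, w.2.2, sq_of_isConj w.2.1 hs₀2,
      ne_one_of_isConj w.2.1 hs₀1⟩) ?_
    intro u v h
    apply Subtype.ext
    have h' := congrArg Subtype.val h
    exact h'
  have ha21 := card_invol_le hc hs₀Inv
  have ha9 : 9 ≤ a := by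
    rw [← card_sylow3 hc P]
    refine Nat.card_le_card_of_injective (fun p => ⟨(p : G) * s₀ * (p : G)⁻¹, isConj_iff.2 ⟨p, rfl⟩,
      mul_mem (mul_mem (Subgroup.le_normalizer p.2) hs₀N) (inv_mem (Subgroup.le_normalizer p.2))⟩) ?_
    rintro ⟨u, hu⟩ ⟨v, hv⟩ h
    have h1 : u * s₀ * u⁻¹ = v * s₀ * v⁻¹ := congrArg Subtype.val h
    apply Subtype.ext
    show u = v
    set w := v⁻¹ * u with hw
    have hwP : w ∈ (P : Subgroup G) := mul_mem (inv_mem hv) hu
    have h2 : w * s₀ * w⁻¹ = s₀ := by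
      calc w * s₀ * w⁻¹ = v⁻¹ * (u * s₀ * u⁻¹) * v := by rw [hw]; group
        _ = v⁻¹ * (v * s₀ * v⁻¹) * v := by rw [h1]
        _ = s₀ := by group
    have h3 : s₀ * w * s₀⁻¹ = w := by
      have h4 : s₀ * w = w * s₀ := by
        calc s₀ * w = (w * s₀ * w⁻¹) * w := by rw [h2]
          _ = w * s₀ := by group
      rw [h4]; group
    have h5 := hs₀Inv w hwP
    rw [h3] at h5
    have h6 : w = 1 := by
      apply eq_one_of_sq hc P hwP
      rw [sq]
      nth_rewrite 1 [h5]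
      simp
    exact (inv_mul_eq_one.1 h6).symm
  have hs₀5 := centralizer_of_two_three hc hs₀1 hs₀2 (by norm_num) (by norm_num)
  obtain ⟨h5, h11⟩ := hs₀5
  rw [hk] at h5 h11
  have hdvd : Nat.card (centralizer ({s₀} : Set G)) ∣ 7920 := by
    rw [← hc]
    exact Subgroup.card_subgroup_dvd_card _
  rw [hk] at hdvd
  have hk495 : k ∣ 495 := by
    have : 16 * k ∣ 16 * 495 := hdvd
    exact Nat.dvd_of_mul_dvd_mul_left (by norm_num) this
  have hcases : k = 1 ∨ k = 3 ∨ k = 9 := by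
    have hle : k ≤ 495 := Nat.le_of_dvd (by norm_num) hk495
    interval_cases k <;> omega
  have hk3 : k = 3 := by
    rcases hcases with rfl | rfl | rfl
    · omega
    · rfl
    · omega
  subst hk3
  have ha21' : a = 21 := by omega
  have hs₀C : Nat.card (centralizer ({s₀} : Set G)) = 48 := by rw [hk]
  -- all involutions in `N(P)` are conjugate to `s₀`
  refine ⟨hs₀C, ?_⟩
  · intro w hwN hw2 hw1
    let f : {w : G // IsConj s₀ w ∧ w ∈ normalizer ((P : Subgroup G) : Set G)} →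
        {w : G // w ∈ normalizer ((P : Subgroup G) : Set G) ∧ w ^ 2 = 1 ∧ w ≠ 1} :=
      fun w => ⟨w.1, w.2.2, sq_of_isConj w.2.1 hs₀2, ne_one_of_isConj w.2.1 hs₀1⟩
    have hinj : Function.Injective f := by
      intro u v h
      apply Subtype.ext
      have h' := congrArg Subtype.val h
      exact h'
    have hb := hinj.bijective_of_nat_card_le (by rw [← ha, ha21']; exact ha21)
    obtain ⟨v, hv⟩ := hb.2 ⟨w, hwN, hw2, hw1⟩
    have hv' : v.1 = w := congrArg Subtype.val hv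
    rw [← hv']
    exact v.2.1
/-- Every involution is conjugate into `N(P)`. -/
theorem exists_conj_into_normalizer (hc : Nat.card G = 7920) (P : Sylow 3 G) {x : G} (hx2 : x ^ 2 = 1) :
    ∃ c : G, c⁻¹ * x * c ∈ normalizer ((P : Subgroup G) : Set G) := by
  have hpar := card_modEq_fixedBy_four (not_comm hc) (X := Sylow 3 G) x hx2
  rw [card_sylow3_eq hc] at hpar
  obtain ⟨⟨Q, hQ⟩⟩ : Nonempty (fixedBy (Sylow 3 G) x) := by
    by_contra hcon
    rw [not_nonempty_iff] at hcon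
    have h1 : Nat.card (fixedBy (Sylow 3 G) x) = 0 := Nat.card_of_isEmpty
    rw [h1] at hpar
    revert hpar
    decide
  obtain ⟨c, rfl⟩ := MulAction.exists_smul_eq G P Q
  have h1 : x • (c • P) = c • P := hQ
  refine ⟨c, ?_⟩
  apply Sylow.smul_eq_iff_mem_normalizer.1
  rw [mul_smul, mul_smul, h1, inv_smul_smul]

/-- Every involution is conjugate to an inverting involution. -/
theorem isConj_inverter (hc : Nat.card G = 7920) {P : Sylow 3 G} {s₀ : G}
    (hs₀N : s₀ ∈ normalizer ((P : Subgroup G) : Set G)) (hs₀2 : s₀ ^ 2 = 1) (hs₀1 : s₀ ≠ 1)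
    (hs₀Inv : Inverts s₀ P) {x : G} (hx2 : x ^ 2 = 1) (hx1 : x ≠ 1) : IsConj s₀ x := by
  obtain ⟨c, h2⟩ := exists_conj_into_normalizer hc P hx2
  have h3 : IsConj x (c⁻¹ * x * c) := by
    rw [isConj_iff]
    exact ⟨c⁻¹, by simp⟩
  have h4 := (inverter_data hc hs₀N hs₀2 hs₀1 hs₀Inv).2 _ h2 (sq_of_isConj h3 hx2) (ne_one_of_isConj h3 hx1)
  exact h4.trans h3.symm

/-- All involutions are conjugate. -/
theorem isConj_involutions (hc : Nat.card G = 7920) {x y : G} (hx2 : x ^ 2 = 1) (hx1 : x ≠ 1)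
    (hy2 : y ^ 2 = 1) (hy1 : y ≠ 1) : IsConj x y := by
  obtain ⟨P⟩ := (inferInstance : Nonempty (Sylow 3 G))
  obtain ⟨s₀, hs₀N, hs₀2, hs₀1, hs₀Inv⟩ := exists_inv_involution hc P
  exact (isConj_inverter hc hs₀N hs₀2 hs₀1 hs₀Inv hx2 hx1).symm.trans
    (isConj_inverter hc hs₀N hs₀2 hs₀1 hs₀Inv hy2 hy1)

/-- **The centralizer of an involution has order 48.** -/
theorem centralizer_involution (hc : Nat.card G = 7920) {x : G} (hx : orderOf x = 2) :
    Nat.card (centralizer ({x} : Set G)) = 48 := by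
  obtain ⟨P⟩ := (inferInstance : Nonempty (Sylow 3 G))
  obtain ⟨s₀, hs₀N, hs₀2, hs₀1, hs₀Inv⟩ := exists_inv_involution hc P
  have hx2 : x ^ 2 = 1 := by rw [← hx]; exact pow_orderOf_eq_one x
  have hx1 : x ≠ 1 := by
    rintro rfl
    simp at hx
  have h1 := isConj_inverter hc hs₀N hs₀2 hs₀1 hs₀Inv hx2 hx1
  rw [card_centralizer_of_isConj h1]
  exact (inverter_data hc hs₀N hs₀2 hs₀1 hs₀Inv).1

end Cfsg.Agent.Lib.Ord7920
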