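import Mathlib
import Cfsg.Agent.Lib.Ord7920K

/-!
# Simple groups of order 7920, part L: inverted Sylow subgroups of an involution
-/

set_option autoImplicit false
set_option linter.unusedSectionVars false
set_option linter.style.haveILetI false

namespace Cfsg.Agent.Lib.Ord7920

open Subgroup MulAction
open Cfsg.Agent.Lib.SmallGroups2 Cfsg.Agent.Lib.SmallGroups3 Cfsg.Agent.Lib.SmallGroups4
  Cfsg.Agent.Lib.SmallGroups5 Cfsg.Agent.Lib.TwoLocal Cfsg.Agent.Lib.TwoLocal2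
  Cfsg.Agent.Lib.TwoLocal3 Cfsg.Agent.Lib.TransferEval

variable {G : Type*} [Group G] [Finite G] [IsSimpleGroup G]

theorem inverts_smul {x : G} {Q : Sylow 3 G} (h : Inverts x Q) (g : G) : Inverts (g * x * g⁻¹) (g • Q) := by
  intro u hu
  rw [mem_smul_sylow_iff] at hu
  have h1 := h _ hu
  calc (g * x * g⁻¹) * u * (g * x * g⁻¹)⁻¹ = g * (x * (g⁻¹ * u * g) * x⁻¹) * g⁻¹ := by group
    _ = u⁻¹ := by rw [h1]; group

theorem inverts_smul_of_comm {x g : G} {Q : Sylow 3 G} (h : Inverts x Q) (hg : g * x = x * g) :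
    Inverts x (g • Q) := by
  have h1 := inverts_smul h g
  have h2 : g * x * g⁻¹ = x := by rw [hg]; group
  rwa [h2] at h1

theorem inverts_smul_iff_of_comm {x g : G} {Q : Sylow 3 G} (hg : g * x = x * g) :
    Inverts x (g • Q) ↔ Inverts x Q := by
  refine ⟨fun h => ?_, fun h => inverts_smul_of_comm h hg⟩
  have h1 : g⁻¹ * x = x * g⁻¹ := by
    calc g⁻¹ * x = g⁻¹ * (x * g) * g⁻¹ := by group
      _ = g⁻¹ * (g * x) * g⁻¹ := by rw [hg]
      _ = x * g⁻¹ := by group
  have h2 := inverts_smul_of_comm h h1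
  rwa [inv_smul_smul] at h2

theorem Inverts.mem_normalizer {x : G} {Q : Sylow 3 G} (h : Inverts x Q) :
    x ∈ normalizer ((Q : Subgroup G) : Set G) := by
  apply mem_normalizer_of_conj_le
  intro y hy
  rw [h y hy]
  exact inv_mem hy

theorem Inverts.smul_eq {x : G} {Q : Sylow 3 G} (h : Inverts x Q) : x • Q = Q :=
  Sylow.smul_eq_iff_mem_normalizer.2 h.mem_normalizer

theorem card_involutions (hc : Nat.card G = 7920) : Nat.card {x : G // x ^ 2 = 1 ∧ x ≠ 1} = 165 := by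
  obtain ⟨P⟩ := (inferInstance : Nonempty (Sylow 3 G))
  obtain ⟨s₀, hs₀N, hs₀2, hs₀1, hs₀Inv⟩ := exists_inv_involution hc P
  have h1 := card_isConj_mul_card_centralizer s₀
  rw [(inverter_data hc hs₀N hs₀2 hs₀1 hs₀Inv).1, hc] at h1
  have h2 : Nat.card {x : G // x ^ 2 = 1 ∧ x ≠ 1} = Nat.card {x : G // IsConj s₀ x} := by
    apply Nat.card_congr
    apply Equiv.subtypeEquivRight
    intro x
    exact ⟨fun h => isConj_inverter hc hs₀N hs₀2 hs₀1 hs₀Inv h.1 h.2,
      fun h => ⟨sq_of_isConj h hs₀2, ne_one_of_isConj h hs₀1⟩⟩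
  omega

theorem card_inverters (hc : Nat.card G = 7920) (Q : Sylow 3 G) :
    Nat.card {x : G // (x ^ 2 = 1 ∧ x ≠ 1) ∧ Inverts x Q} = 9 := by
  obtain ⟨s₀, hs₀N, hs₀2, hs₀1, hs₀Inv⟩ := exists_inv_involution hc Q
  rw [← card_sylow3 hc Q]
  symm
  apply Nat.card_congr
  refine Equiv.ofBijective (fun u => ⟨(u : G) * s₀ * (u : G)⁻¹, ⟨by rw [conj_pow, hs₀2]; simp,
    ne_one_of_isConj (isConj_iff.2 ⟨u, rfl⟩) hs₀1⟩, ?_⟩) ⟨?_, ?_⟩
  · have h1 := inverts_smul hs₀Inv u
    have h2 : (u : G) • Q = Q := Sylow.smul_eq_iff_mem_normalizer.2 (Subgroup.le_normalizer u.2)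
    rwa [h2] at h1
  · rintro ⟨u, hu⟩ ⟨v, hv⟩ h
    have h1 : u * s₀ * u⁻¹ = v * s₀ * v⁻¹ := congrArg Subtype.val h
    apply Subtype.ext
    show u = v
    set w := v⁻¹ * u with hw
    have hwP : w ∈ (Q : Subgroup G) := mul_mem (inv_mem hv) hu
    have h2 : w * s₀ * w⁻¹ = s₀ := by
      calc w * s₀ * w⁻¹ = v⁻¹ * (u * s₀ * u⁻¹) * v := by rw [hw]; group
        _ = v⁻¹ * (v * s₀ * v⁻¹) * v := by rw [h1]
        _ = s₀ := by group
    have h3 : s₀ * w * s₀⁻¹ = w := by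
      have h4 : s₀ * w = w * s₀ := by
        calc s₀ * w = (w * s₀ * w⁻¹) * w := by rw [h2]
          _ = w * s₀ := by group
      rw [h4]; group
    have h5 := hs₀Inv w hwP
    rw [h3] at h5
    have h6 : w = 1 := by
      apply eq_one_of_sq hc Q hwP
      rw [sq]
      nth_rewrite 1 [h5]
      simp
    exact (inv_mul_eq_one.1 h6).symm
  · rintro ⟨x, -, hxI⟩
    obtain ⟨p, hp, hpe⟩ := inverter_conj hc hs₀Inv hxI
    exact ⟨⟨p, hp⟩, Subtype.ext hpe⟩

/-- Every involution inverts exactly three Sylow 3-subgroups. -/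
theorem card_inverted (hc : Nat.card G = 7920) {z : G} (hz2 : z ^ 2 = 1) (hz1 : z ≠ 1) :
    Nat.card {Q : Sylow 3 G // Inverts z Q} = 3 := by
  classical
  haveI := Fintype.ofFinite G
  haveI : Fintype (Sylow 3 G) := Fintype.ofFinite _
  let I : Finset G := Finset.univ.filter fun x => x ^ 2 = 1 ∧ x ≠ 1
  let Ω : Finset (Sylow 3 G) := Finset.univ
  let r : G → Sylow 3 G → Prop := fun x Q => Inverts x Q
  have hsum := Finset.sum_card_bipartiteAbove_eq_sum_card_bipartiteBelow (s := I) (t := Ω) r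
  have hI : I.card = 165 := by
    rw [← card_involutions hc, Nat.card_eq_fintype_card, Fintype.card_subtype]
  have hΩ : Ω.card = 55 := by
    rw [← card_sylow3_eq hc, Nat.card_eq_fintype_card]
    rfl
  set n := Nat.card {Q : Sylow 3 G // Inverts z Q} with hn
  have habove : ∀ x ∈ I, (Finset.bipartiteAbove r Ω x).card = n := by
    intro x hx
    obtain ⟨hx2, hx1⟩ := (Finset.mem_filter.1 hx).2
    obtain ⟨g, rfl⟩ := isConj_iff.1 (isConj_involutions hc hz2 hz1 hx2 hx1)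
    have h1 : (Finset.bipartiteAbove r Ω (g * z * g⁻¹)).card =
        Nat.card {Q : Sylow 3 G // Inverts (g * z * g⁻¹) Q} := by
      rw [Nat.card_eq_fintype_card, Fintype.card_subtype]
      rfl
    rw [h1, hn]
    apply Nat.card_congr
    refine ⟨fun Q => ⟨g⁻¹ • Q.1, ?_⟩, fun Q => ⟨g • Q.1, inverts_smul Q.2 g⟩, ?_, ?_⟩
    · have h2 := inverts_smul Q.2 g⁻¹
      have h3 : g⁻¹ * (g * z * g⁻¹) * g⁻¹⁻¹ = z := by group
      rwa [h3] at h2
    · intro Q
      apply Subtype.ext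
      simp
    · intro Q
      apply Subtype.ext
      simp
  have hbelow : ∀ Q ∈ Ω, (Finset.bipartiteBelow r I Q).card = 9 := by
    intro Q _
    rw [← card_inverters hc Q, Nat.card_eq_fintype_card, Fintype.card_subtype]
    congr 1
    ext x
    simp [Finset.mem_bipartiteBelow, I, r]
  rw [Finset.sum_congr rfl habove, Finset.sum_congr rfl hbelow, Finset.sum_const, Finset.sum_const,
    hI, hΩ] at hsum
  simp only [smul_eq_mul] at hsum
  omega

/-- Injectivity: distinct fixed points of an inverter of `Q` lie in distinct `Q`-orbits. -/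
theorem inverter_orbit_unique (hc : Nat.card G = 7920) {Q : Sylow 3 G} {t : G} (hinv : Inverts t Q)
    {q q' : G} (hq : q ∈ (Q : Subgroup G)) (hq' : q' ∈ (Q : Subgroup G)) {R R' : Sylow 3 G}
    (hR : R ≠ Q) (hR2 : t • R = R) (hR2' : t • R' = R') (he : q • R = q' • R') : q = q' ∧ R = R' := by
  set u := q'⁻¹ * q with hu
  have huQ : u ∈ (Q : Subgroup G) := mul_mem (inv_mem hq') hq
  have h2 : u • R = R' := by
    rw [hu, mul_smul, he, inv_smul_smul]
  have h3 : t • (u • R) = u • R := by rw [h2]; exact hR2'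
  have h4 : (t * u) • R = (u⁻¹ * t) • R := by
    have h5 : t * u = u⁻¹ * t := by
      have h6 := hinv u huQ
      calc t * u = (t * u * t⁻¹) * t := by group
        _ = u⁻¹ * t := by rw [h6]
    rw [h5]
  have h5 : u ^ 2 • R = R := by
    have h6 : (u⁻¹ * t) • R = u⁻¹ • R := by rw [mul_smul, hR2]
    have h7 : (t * u) • R = u • R := by rw [mul_smul]; exact h3
    rw [h6, h7] at h4
    rw [sq, mul_smul, h4, smul_inv_smul]
  have h6 : u ^ 2 = 1 := by
    by_contra hne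
    exact smul_ne_of_mem hc hR (pow_mem huQ 2) hne h5
  have h7 : u = 1 := eq_one_of_sq hc Q huQ h6
  have h8 : q = q' := (inv_mul_eq_one.1 h7).symm
  subst h8
  exact ⟨rfl, smul_left_cancel _ he⟩

/-- Every `P`-orbit other than `{P}` contains a fixed point of an inverter of `P`. -/
theorem exists_fix_in_orbit (hc : Nat.card G = 7920) {P : Sylow 3 G} {z : G} (hzI : Inverts z P)
    {Q : Sylow 3 G} (hQ : Q ≠ P) : ∃ p ∈ (P : Subgroup G), ∃ R : Sylow 3 G, R ≠ P ∧ z • R = R ∧ p • R = Q := by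
  obtain ⟨s, hsN, hsQ, hs2, hsI⟩ := stab_has_inverter hc hQ
  obtain ⟨p, hp, hpe⟩ := inverter_conj hc hzI hsI
  refine ⟨p, hp, p⁻¹ • Q, ?_, ?_, ?_⟩
  · intro h
    apply hQ
    have h2 : Q = p • (p⁻¹ • Q) := by rw [smul_inv_smul]
    rw [h2, h]
    exact Sylow.smul_eq_iff_mem_normalizer.2 (Subgroup.le_normalizer hp)
  · have h2 : z * p⁻¹ = p⁻¹ * s := by
      rw [← hpe]; group
    rw [← mul_smul, h2, mul_smul, hsQ]
  · rw [smul_inv_smul]

theorem smul_eq_of_mem (P : Sylow 3 G) {p : G} (hp : p ∈ (P : Subgroup G)) : p • P = P :=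
  Sylow.smul_eq_iff_mem_normalizer.2 (Subgroup.le_normalizer hp)

theorem exists_line (hc : Nat.card G = 7920) {P : Sylow 3 G} {z : G} (hz2 : z ^ 2 = 1) (hz1 : z ≠ 1)
    (hzI : Inverts z P) : ∃ Q₁ Q₂ : Sylow 3 G, Q₁ ≠ Q₂ ∧ Q₁ ≠ P ∧ Q₂ ≠ P ∧
      ∀ Q, Inverts z Q ↔ Q = P ∨ Q = Q₁ ∨ Q = Q₂ := by
  classical
  haveI : Fintype (Sylow 3 G) := Fintype.ofFinite _
  have h1 := card_inverted hc hz2 hz1
  rw [Nat.card_eq_fintype_card, Fintype.card_subtype] at h1
  set F : Finset (Sylow 3 G) := Finset.univ.filter fun Q => Inverts z Q with hF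
  have hPF : P ∈ F := Finset.mem_filter.2 ⟨Finset.mem_univ _, hzI⟩
  have h2 : (F.erase P).card = 2 := by
    rw [Finset.card_erase_of_mem hPF, h1]
  obtain ⟨a, b, hab, h3⟩ := Finset.card_eq_two.1 h2
  have haF : a ∈ F.erase P := by rw [h3]; simp
  have hbF : b ∈ F.erase P := by rw [h3]; simp
  refine ⟨a, b, hab, (Finset.mem_erase.1 haF).1, (Finset.mem_erase.1 hbF).1, ?_⟩
  intro Q
  constructor
  · intro hQ
    by_cases hQP : Q = P
    · exact Or.inl hQP
    · have h4 : Q ∈ F.erase P := Finset.mem_erase.2 ⟨hQP, Finset.mem_filter.2 ⟨Finset.mem_univ _, hQ⟩⟩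
      rw [h3] at h4
      simp only [Finset.mem_insert, Finset.mem_singleton] at h4
      exact Or.inr h4
  · rintro (rfl | rfl | rfl)
    · exact hzI
    · exact (Finset.mem_filter.1 (Finset.mem_erase.1 haF).2).2
    · exact (Finset.mem_filter.1 (Finset.mem_erase.1 hbF).2).2

end Cfsg.Agent.Lib.Ord7920
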