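import Mathlib
import Cfsg.Agent.Lib.Ord7920L

/-!
# Simple groups of order 7920, part M: frames; the stabilizer of a line in `N(P)`
-/

set_option autoImplicit false
set_option linter.unusedSectionVars false
set_option linter.style.haveILetI false

namespace Cfsg.Agent.Lib.Ord7920

open Subgroup MulAction
open Cfsg.Agent.Lib.SmallGroups2 Cfsg.Agent.Lib.SmallGroups3 Cfsg.Agent.Lib.SmallGroups4
  Cfsg.Agent.Lib.SmallGroups5 Cfsg.Agent.Lib.TwoLocal Cfsg.Agent.Lib.TwoLocal2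
  Cfsg.Agent.Lib.TwoLocal3 Cfsg.Agent.Lib.TransferEval

variable {G : Type*} [Group G]

/-- A Sylow 3-subgroup, an involution inverting it and the two other Sylow 3-subgroups
inverted by the involution. -/
structure Frame (G : Type*) [Group G] where
  P : Sylow 3 G
  z : G
  Q₁ : Sylow 3 G
  Q₂ : Sylow 3 G
  hz2 : z ^ 2 = 1
  hz1 : z ≠ 1
  hzP : Inverts z P
  hne : Q₁ ≠ Q₂
  h1P : Q₁ ≠ P
  h2P : Q₂ ≠ P
  hl : ∀ Q, Inverts z Q ↔ Q = P ∨ Q = Q₁ ∨ Q = Q₂

variable [Finite G] [IsSimpleGroup G]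

theorem exists_frame (hc : Nat.card G = 7920) : Nonempty (Frame G) := by
  obtain ⟨P⟩ := (inferInstance : Nonempty (Sylow 3 G))
  obtain ⟨s₀, hs₀N, hs₀2, hs₀1, hs₀Inv⟩ := exists_inv_involution hc P
  obtain ⟨Q₁, Q₂, hne, h1, h2, hl⟩ := exists_line hc hs₀2 hs₀1 hs₀Inv
  exact ⟨⟨P, s₀, Q₁, Q₂, hs₀2, hs₀1, hs₀Inv, hne, h1, h2, hl⟩⟩

theorem exists_ne_one_of_sylow (hc : Nat.card G = 7920) (P : Sylow 3 G) :
    ∃ p ∈ (P : Subgroup G), p ≠ 1 := by
  have : Nontrivial (P : Subgroup G) := by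
    rw [← Finite.one_lt_card_iff_nontrivial, card_sylow3 hc]; norm_num
  obtain ⟨⟨a, ha⟩, ha1⟩ := exists_ne (1 : (P : Subgroup G))
  exact ⟨a, ha, fun h => ha1 (Subtype.ext h)⟩

theorem card_fix_involution (hc : Nat.card G = 7920) {z : G} (hz2 : z ^ 2 = 1) (hz1 : z ≠ 1) :
    Nat.card {R : Sylow 3 G // z • R = R} = 7 := by
  classical
  haveI : Fintype (Sylow 3 G) := Fintype.ofFinite _
  have h1 := card_inverted hc hz2 hz1
  obtain ⟨⟨Q, hQ⟩⟩ : Nonempty {Q : Sylow 3 G // Inverts z Q} := by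
    by_contra hcon
    rw [not_nonempty_iff] at hcon
    rw [Nat.card_of_isEmpty] at h1
    omega
  have h2 := fix_inverter hc hz2 hQ
  rw [Nat.card_eq_fintype_card, Fintype.card_subtype] at h2 ⊢
  have h3 : (Finset.univ.filter fun R : Sylow 3 G => z • R = R) =
      insert Q (Finset.univ.filter fun R : Sylow 3 G => R ≠ Q ∧ z • R = R) := by
    ext R
    simp only [Finset.mem_filter, Finset.mem_univ, true_and, Finset.mem_insert]
    constructor
    · intro h
      by_cases hR : R = Q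
      · exact Or.inl hR
      · exact Or.inr ⟨hR, h⟩
    · rintro (rfl | h)
      · exact hQ.smul_eq
      · exact h.2
  rw [h3, Finset.card_insert_of_notMem (by simp), h2]

namespace Frame

variable (F : Frame G)

/-- The centralizer of `z` in `N(P)`. -/
def S : Subgroup G := normalizer ((F.P : Subgroup G) : Set G) ⊓ centralizer ({F.z} : Set G)

variable {F}

theorem mem_S {s : G} : s ∈ F.S ↔ s ∈ normalizer ((F.P : Subgroup G) : Set G) ∧ s * F.z = F.z * s := by
  rw [S, Subgroup.mem_inf, mem_centralizer_singleton_iff]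

theorem hzN : F.z ∈ normalizer ((F.P : Subgroup G) : Set G) := F.hzP.mem_normalizer

theorem hzS : F.z ∈ F.S := mem_S.2 ⟨hzN, rfl⟩

theorem hzQ₁ : Inverts F.z F.Q₁ := (F.hl F.Q₁).2 (Or.inr (Or.inl rfl))

theorem hzQ₂ : Inverts F.z F.Q₂ := (F.hl F.Q₂).2 (Or.inr (Or.inr rfl))

theorem card_S (hc : Nat.card G = 7920) : Nat.card F.S = 16 := by
  have := card_inf_centralizer_inv hc hzN F.hzP
  have h2 : Nat.card F.S =
    Nat.card ↥(normalizer ((F.P : Subgroup G) : Set G) ⊓ centralizer ({F.z} : Set G)) := rfl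
  omega

theorem S_inv_unique (hc : Nat.card G = 7920) {s : G} (hs : s ∈ F.S) (hsI : Inverts s F.P) : s = F.z := by
  obtain ⟨hsN, hsz⟩ := mem_S.1 hs
  obtain ⟨p, hp, hpe⟩ := inverter_conj hc F.hzP hsI
  have h1 : p * F.z * p⁻¹ * F.z = F.z * (p * F.z * p⁻¹) := by
    rw [hpe]; exact hsz
  -- `p²` commutes with `z`
  have h2 : F.z * p * F.z⁻¹ = p⁻¹ := F.hzP p hp
  have h3 : p * F.z * p⁻¹ = p * p * F.z := by
    have h4 : F.z * p⁻¹ = p * F.z := by
      have h5 := F.hzP p⁻¹ (inv_mem hp)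
      rw [inv_inv] at h5
      calc F.z * p⁻¹ = (F.z * p⁻¹ * F.z⁻¹) * F.z := by group
        _ = p * F.z := by rw [h5]
    rw [mul_assoc p, h4, ← mul_assoc]
  have h6 : (p * p) * F.z = F.z * (p * p) := by
    rw [h3] at h1
    calc (p * p) * F.z = ((p * p) * F.z * F.z) * F.z⁻¹ := by group
      _ = F.z * ((p * p) * F.z) * F.z⁻¹ := by rw [h1]
      _ = F.z * (p * p) := by group
  have h7 : F.z * (p * p) * F.z⁻¹ = (p * p)⁻¹ := F.hzP _ (mul_mem hp hp)
  have h8 : F.z * (p * p) * F.z⁻¹ = p * p := by rw [← h6]; group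
  rw [h8] at h7
  have h9 : p * p = 1 := by
    apply eq_one_of_sq hc F.P (mul_mem hp hp)
    rw [sq]
    nth_rewrite 1 [h7]
    simp
  rw [← hpe, h3, h9, one_mul]

theorem S_line (hc : Nat.card G = 7920) {s : G} (hs : s ∈ F.S) {Q : Sylow 3 G}
    (hQ : Inverts F.z Q) : Inverts F.z (s • Q) :=
  inverts_smul_of_comm hQ (mem_S.1 hs).2

theorem S_smul_P {s : G} (hs : s ∈ F.S) : s • F.P = F.P :=
  Sylow.smul_eq_iff_mem_normalizer.2 (mem_S.1 hs).1

theorem S_Q₁ (hc : Nat.card G = 7920) {s : G} (hs : s ∈ F.S) : s • F.Q₁ = F.Q₁ ∨ s • F.Q₁ = F.Q₂ := by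
  rcases (F.hl _).1 (S_line hc hs hzQ₁) with h | h | h
  · exfalso
    apply F.h1P
    have h2 : s • F.Q₁ = s • F.P := by rw [h, S_smul_P hs]
    exact smul_left_cancel _ h2
  · exact Or.inl h
  · exact Or.inr h

theorem S_Q₂ (hc : Nat.card G = 7920) {s : G} (hs : s ∈ F.S) : s • F.Q₂ = F.Q₁ ∨ s • F.Q₂ = F.Q₂ := by
  rcases (F.hl _).1 (S_line hc hs hzQ₂) with h | h | h
  · exfalso
    apply F.h2P
    have h2 : s • F.Q₂ = s • F.P := by rw [h, S_smul_P hs]
    exact smul_left_cancel _ h2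
  · exact Or.inl h
  · exact Or.inr h

theorem S_Q₂_of_Q₁ (hc : Nat.card G = 7920) {s : G} (hs : s ∈ F.S) (h : s • F.Q₁ = F.Q₁) : s • F.Q₂ = F.Q₂ := by
  rcases S_Q₂ hc hs with h2 | h2
  · exfalso
    apply F.hne
    have h3 : s • F.Q₁ = s • F.Q₂ := by rw [h, h2]
    exact smul_left_cancel _ h3
  · exact h2

theorem S_Q₂_of_swap (hc : Nat.card G = 7920) {s : G} (hs : s ∈ F.S) (h : s • F.Q₁ = F.Q₂) : s • F.Q₂ = F.Q₁ := by
  rcases S_Q₂ hc hs with h2 | h2
  · exact h2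
  · exfalso
    apply F.hne
    have h3 : s • F.Q₁ = s • F.Q₂ := by rw [h, h2]
    exact smul_left_cancel _ h3

/-- The centralizer in `S` of a nontrivial element of `P` has order at most 2. -/
theorem sq_of_mem_S_comm (hc : Nat.card G = 7920) {p e : G} (hp : p ∈ (F.P : Subgroup G)) (hp1 : p ≠ 1)
    (he : e ∈ F.S) (hep : e * p = p * e) : e ^ 2 = 1 := by
  set Y : Subgroup G := F.S ⊓ centralizer ({p} : Set G) with hY
  have heY : e ∈ Y := Subgroup.mem_inf.2 ⟨he, by rw [mem_centralizer_singleton_iff]; exact hep⟩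
  have hd : Nat.card Y ∣ 16 := by
    rw [← card_S (F := F) hc]
    exact Subgroup.card_dvd_of_le inf_le_left
  have hn4 : ¬ 4 ∣ Nat.card Y := by
    intro h4
    obtain ⟨D₄, hD₄, hD₄c⟩ := exists_subgroup_le_card (q := 2) (a := 2) Y (by simpa using h4)
    have hD₄N : D₄ ≤ normalizer ((F.P : Subgroup G) : Set G) := by
      intro d hd
      exact (mem_S.1 (Subgroup.mem_inf.1 (hD₄ hd)).1).1
    obtain ⟨s, hs, hs2, hsI⟩ := exists_inverter_four hc (P := F.P) (D := D₄) hD₄N (by simpa using hD₄c)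
    have h1 := (Subgroup.mem_inf.1 (hD₄ hs)).2
    rw [mem_centralizer_singleton_iff] at h1
    have h2 := hsI p hp
    have h3 : s * p * s⁻¹ = p := by rw [h1]; group
    rw [h3] at h2
    apply hp1
    apply eq_one_of_sq hc F.P hp
    rw [sq]
    nth_rewrite 1 [h2]
    simp
  have h2 : Nat.card Y ∣ 2 := by
    have hle : Nat.card Y ≤ 16 := Nat.le_of_dvd (by norm_num) hd
    generalize Nat.card Y = m at *
    interval_cases m <;> first | omega | (exfalso; revert hd; decide)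
  apply orderOf_dvd_iff_pow_eq_one.1
  exact (Subgroup.orderOf_dvd_natCard Y heY).trans h2

theorem exists_reflection (hc : Nat.card G = 7920) :
    ∃ r ∈ F.S, r ^ 2 = 1 ∧ r ≠ 1 ∧ ¬ Inverts r F.P := by
  obtain ⟨p, hp, hp1⟩ := exists_ne_one_of_sylow hc F.P
  let f : F.S → (F.P : Subgroup G) := fun s => ⟨(s : G) * p * (s : G)⁻¹,
    (mem_normalizer_iff.1 (mem_S.1 s.2).1 p).1 hp⟩
  have hnot : ¬ Function.Injective f := by
    intro hinj
    have h1 := Nat.card_le_card_of_injective f hinj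
    rw [card_S hc, card_sylow3 hc] at h1
    omega
  rw [Function.Injective] at hnot
  push Not at hnot
  obtain ⟨⟨a, ha⟩, ⟨b, hb⟩, hab, hne⟩ := hnot
  have hab' : a * p * a⁻¹ = b * p * b⁻¹ := congrArg Subtype.val hab
  have hne' : a ≠ b := fun h => hne (Subtype.ext h)
  set e := b⁻¹ * a with he
  have heS : e ∈ F.S := mul_mem (inv_mem hb) ha
  have hep : e * p = p * e := by
    have h1 : e * p * e⁻¹ = p := by
      calc e * p * e⁻¹ = b⁻¹ * (a * p * a⁻¹) * b := by rw [he]; group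
        _ = b⁻¹ * (b * p * b⁻¹) * b := by rw [hab']
        _ = p := by group
    calc e * p = (e * p * e⁻¹) * e := by group
      _ = p * e := by rw [h1]
  have he1 : e ≠ 1 := by
    intro h
    exact hne' (inv_mul_eq_one.1 h).symm
  refine ⟨e, heS, sq_of_mem_S_comm hc hp hp1 heS hep, he1, ?_⟩
  intro hI
  have h2 := hI p hp
  have h3 : e * p * e⁻¹ = p := by rw [hep]; group
  rw [h3] at h2
  apply hp1
  apply eq_one_of_sq hc F.P hp
  rw [sq]
  nth_rewrite 1 [h2]
  simp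

/-- Two different involutions cannot invert the same Sylow 3-subgroup if they commute. -/
theorem eq_of_comm_inverts (hc : Nat.card G = 7920) {a b : G} {Q : Sylow 3 G} (ha : Inverts a Q)
    (hb : Inverts b Q) (ha2 : a ^ 2 = 1) (hb2 : b ^ 2 = 1) (hab : a * b = b * a) : a = b := by
  have hc1 : a * b ∈ centralizer ((Q : Subgroup G) : Set G) := by
    rw [mem_centralizer_iff]
    intro q hq
    have h1 : (a * b) * q * (a * b)⁻¹ = q := by
      calc (a * b) * q * (a * b)⁻¹ = a * (b * q * b⁻¹) * a⁻¹ := by group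
        _ = a * q⁻¹ * a⁻¹ := by rw [hb q hq]
        _ = (a * q * a⁻¹)⁻¹ := by group
        _ = q := by rw [ha q hq, inv_inv]
    calc q * (a * b) = ((a * b) * q * (a * b)⁻¹) * (a * b) := by rw [h1]
      _ = (a * b) * q := by group
  have h2 := mem_of_mem_centralizer3 hc Q hc1
  have h3 : (a * b) ^ 2 = 1 := by
    rw [(show Commute a b from hab).mul_pow 2, ha2, hb2, one_mul]
  have h4 := eq_one_of_sq hc Q h2 h3
  have h5 : b⁻¹ = b := by rw [inv_eq_iff_mul_eq_one, ← sq]; exact hb2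
  rw [← h5]
  exact eq_inv_of_mul_eq_one_left h4

theorem card_add_five {α : Type*} [DecidableEq α] (L : Finset α) {a b c d e : α} (ha : a ∉ L) (hb : b ∉ L)
    (hc : c ∉ L) (hd : d ∉ L) (he : e ∉ L) (hab : a ≠ b) (hac : a ≠ c) (had : a ≠ d) (hae : a ≠ e)
    (hbc : b ≠ c) (hbd : b ≠ d) (hbe : b ≠ e) (hcd : c ≠ d) (hce : c ≠ e) (hde : d ≠ e) :
    (insert a (insert b (insert c (insert d (insert e L))))).card = L.card + 5 := by
  rw [Finset.card_insert_of_notMem (by simp [*]), Finset.card_insert_of_notMem (by simp [*]),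
    Finset.card_insert_of_notMem (by simp [*]), Finset.card_insert_of_notMem (by simp [*]),
    Finset.card_insert_of_notMem (by simp [*])]

/-- A reflection centralizing `z` swaps the two other points of the line. -/
theorem reflection_swaps (hc : Nat.card G = 7920) {r : G} (hrS : r ∈ F.S) (hr2 : r ^ 2 = 1) (hr1 : r ≠ 1)
    (hrI : ¬ Inverts r F.P) : r • F.Q₁ = F.Q₂ := by
  classical
  haveI : Fintype (Sylow 3 G) := Fintype.ofFinite _
  rcases S_Q₁ hc hrS with h1 | h1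
  swap
  · exact h1
  exfalso
  have h2 := S_Q₂_of_Q₁ hc hrS h1
  obtain ⟨hrN, hrz⟩ := mem_S.1 hrS
  obtain ⟨c, hcF, hc1⟩ := exists_fixed_of_not_inverts hc hrN hr2 hrI
  obtain ⟨hcP, hcr⟩ := mem_Fsub.1 hcF
  have hF3 := card_Fsub hc hrN hr2 hr1 hrI
  have hco := orderOf_eq_of_mem_of_ne_one (by norm_num) hF3 hcF hc1
  have hcc : c * c ≠ 1 := by
    intro h
    have h3 : c ^ 2 = 1 := by rw [sq]; exact h
    exact hc1 (eq_one_of_sq hc F.P hcP h3)
  have hcrr : ∀ Q : Sylow 3 G, r • (c • Q) = c • (r • Q) := by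
    intro Q
    rw [← mul_smul, ← mul_smul, hcr]
  have hnotinv : ∀ Q : Sylow 3 G, Inverts F.z Q → ¬ Inverts r Q := by
    intro Q hzQ hrQ
    have h3 := eq_of_comm_inverts hc hrQ hzQ hr2 F.hz2 hrz
    rw [h3] at hrI
    exact hrI F.hzP
  have hccomm : c * c * r = r * (c * c) := by
    rw [mul_assoc, hcr, ← mul_assoc, hcr, mul_assoc]
  set L : Finset (Sylow 3 G) := Finset.univ.filter fun Q => Inverts r Q with hL
  have hLc : L.card = 3 := by
    have h3 := card_inverted hc hr2 hr1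
    rwa [Nat.card_eq_fintype_card, Fintype.card_subtype] at h3
  have hmemL : ∀ Q, Q ∈ L ↔ Inverts r Q := by
    intro Q
    simp [hL]
  have hfix7 := card_fix_involution hc hr2 hr1
  rw [Nat.card_eq_fintype_card, Fintype.card_subtype] at hfix7
  have hne1 : F.Q₁ ≠ c • F.Q₁ := fun h => smul_ne_of_mem hc F.h1P hcP hc1 h.symm
  have hne2 : F.Q₁ ≠ (c * c) • F.Q₁ := fun h => smul_ne_of_mem hc F.h1P (mul_mem hcP hcP) hcc h.symm
  have hne3 : c • F.Q₁ ≠ (c * c) • F.Q₁ := by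
    intro h
    rw [mul_smul] at h
    exact hne1 (smul_left_cancel _ h)
  have hnP : ∀ u ∈ (F.P : Subgroup G), u • F.Q₁ ≠ F.P := by
    intro u hu h
    apply F.h1P
    have h3 : u • F.Q₁ = u • F.P := by rw [h, smul_eq_of_mem F.P hu]
    exact smul_left_cancel _ h3
  have hnQ₂ : ∀ u ∈ (F.P : Subgroup G), u ≠ 1 → u • F.Q₁ ≠ F.Q₂ := by
    intro u hu hu1 h
    have h3 : u • F.Q₁ = (1 : G) • F.Q₂ := by rw [h, one_smul]
    exact hu1 (inverter_orbit_unique hc F.hzP hu (Subgroup.one_mem _) F.h1P hzQ₁.smul_eq hzQ₂.smul_eq h3).1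
  have hcard := card_add_five L (a := F.P) (b := F.Q₁) (c := c • F.Q₁) (d := (c * c) • F.Q₁) (e := F.Q₂)
    (by rw [hmemL]; exact hrI) (by rw [hmemL]; exact hnotinv _ hzQ₁)
    (by
      rw [hmemL, inverts_smul_iff_of_comm hcr]
      exact hnotinv _ hzQ₁)
    (by
      rw [hmemL, inverts_smul_iff_of_comm hccomm]
      exact hnotinv _ hzQ₁)
    (by rw [hmemL]; exact hnotinv _ hzQ₂)
    F.h1P.symm (hnP c hcP).symm (hnP _ (mul_mem hcP hcP)).symm F.h2P.symm hne1 hne2 F.hne hne3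
    (hnQ₂ c hcP hc1) (hnQ₂ _ (mul_mem hcP hcP) hcc)
  have hsub : insert F.P (insert F.Q₁ (insert (c • F.Q₁) (insert ((c * c) • F.Q₁) (insert F.Q₂ L)))) ⊆
      Finset.univ.filter fun R : Sylow 3 G => r • R = R := by
    intro Q hQ
    rw [Finset.mem_filter]
    refine ⟨Finset.mem_univ _, ?_⟩
    simp only [Finset.mem_insert] at hQ
    rcases hQ with rfl | rfl | rfl | rfl | rfl | hQ
    · exact S_smul_P hrS
    · exact h1
    · rw [hcrr, h1]
    · rw [mul_smul, hcrr, hcrr, h1]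
    · exact h2
    · exact ((hmemL Q).1 hQ).smul_eq
  have h7 := Finset.card_le_card hsub
  rw [hcard, hLc, hfix7] at h7
  omega

end Frame

end Cfsg.Agent.Lib.Ord7920
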