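import Mathlib
import Cfsg.Agent.Lib.Ord7920M

/-!
# Simple groups of order 7920, part N: the stabilizer of an ordered pair of Sylow subgroups
-/

set_option autoImplicit false
set_option linter.unusedSectionVars false
set_option linter.style.haveILetI false

namespace Cfsg.Agent.Lib.Ord7920

open Subgroup MulAction
open Cfsg.Agent.Lib.SmallGroups2 Cfsg.Agent.Lib.SmallGroups3 Cfsg.Agent.Lib.SmallGroups4
  Cfsg.Agent.Lib.SmallGroups5 Cfsg.Agent.Lib.TwoLocal Cfsg.Agent.Lib.TwoLocal2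
  Cfsg.Agent.Lib.TwoLocal3 Cfsg.Agent.Lib.TransferEval

variable {G : Type*} [Group G] [Finite G] [IsSimpleGroup G]

namespace Frame

/-- The stabilizer of `Q₁` in `S`. -/
def E (F : Frame G) : Subgroup G := F.S ⊓ normalizer ((F.Q₁ : Subgroup G) : Set G)

variable {F : Frame G}

theorem mem_E {e : G} : e ∈ F.E ↔ e ∈ F.S ∧ e • F.Q₁ = F.Q₁ := by
  rw [E, Subgroup.mem_inf, Sylow.smul_eq_iff_mem_normalizer]
  rfl

theorem hzE : F.z ∈ F.E := mem_E.2 ⟨hzS, hzQ₁.smul_eq⟩

theorem E_Q₂ (hc : Nat.card G = 7920) {e : G} (he : e ∈ F.E) : e • F.Q₂ = F.Q₂ :=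
  S_Q₂_of_Q₁ hc (mem_E.1 he).1 (mem_E.1 he).2

theorem E_P {e : G} (he : e ∈ F.E) : e • F.P = F.P := S_smul_P (mem_E.1 he).1

theorem card_E (hc : Nat.card G = 7920) : Nat.card F.E = 8 := by
  obtain ⟨r, hrS, hr2, hr1, hrI⟩ := exists_reflection (F := F) hc
  have hsw := reflection_swaps hc hrS hr2 hr1 hrI
  have hidx : (F.E.subgroupOf F.S).index = 2 := by
    rw [Subgroup.index_eq_two_iff]
    refine ⟨⟨r, hrS⟩, ?_⟩
    rintro ⟨b, hb⟩
    have hm1 : ∀ x : F.S, x ∈ F.E.subgroupOf F.S ↔ (x : G) • F.Q₁ = F.Q₁ := by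
      intro x
      rw [Subgroup.mem_subgroupOf, mem_E]
      exact ⟨fun h => h.2, fun h => ⟨x.2, h⟩⟩
    rw [hm1, hm1]
    show Xor ((b * r) • F.Q₁ = F.Q₁) (b • F.Q₁ = F.Q₁)
    rw [mul_smul, hsw]
    rcases S_Q₁ hc hb with h | h
    · right
      refine ⟨h, ?_⟩
      rw [S_Q₂_of_Q₁ hc hb h]
      exact F.hne.symm
    · left
      refine ⟨S_Q₂_of_swap hc hb h, ?_⟩
      rw [h]
      exact F.hne.symm
  have h1 := Subgroup.card_mul_index (F.E.subgroupOf F.S)
  rw [hidx] at h1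
  have h2 : Nat.card (F.E.subgroupOf F.S) = Nat.card F.E :=
    Nat.card_congr (Subgroup.subgroupOfEquivOfLe (inf_le_left)).toEquiv
  rw [h2, card_S hc] at h1
  omega

theorem E_inv (hc : Nat.card G = 7920) {e : G} (he : e ∈ F.E) (he2 : e ^ 2 = 1) (he1 : e ≠ 1) : e = F.z := by
  obtain ⟨heS, heQ⟩ := mem_E.1 he
  by_cases hI : Inverts e F.P
  · exact S_inv_unique hc heS hI
  · exfalso
    have h := reflection_swaps hc heS he2 he1 hI
    rw [heQ] at h
    exact F.hne h

theorem E_free (hc : Nat.card G = 7920) {e p : G} (he : e ∈ F.E) (hp : p ∈ (F.P : Subgroup G)) (hp1 : p ≠ 1)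
    (hep : e * p = p * e) : e = 1 := by
  by_contra he1
  have h2 := sq_of_mem_S_comm hc hp hp1 (mem_E.1 he).1 hep
  have h3 := E_inv hc he h2 he1
  subst h3
  have h4 := F.hzP p hp
  have h5 : F.z * p * F.z⁻¹ = p := by rw [hep]; group
  rw [h5] at h4
  apply hp1
  apply eq_one_of_sq hc F.P hp
  rw [sq]
  nth_rewrite 1 [h4]
  simp

/-- `E` is transitive (regular) on the nontrivial elements of `P`. -/
theorem E_trans (hc : Nat.card G = 7920) {p p' : G} (hp : p ∈ (F.P : Subgroup G)) (hp1 : p ≠ 1)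
    (hp' : p' ∈ (F.P : Subgroup G)) (hp1' : p' ≠ 1) : ∃ e ∈ F.E, e * p * e⁻¹ = p' := by
  let T := {w : G // w ∈ (F.P : Subgroup G) ∧ w ≠ 1}
  let f : F.E → T := fun e => ⟨(e : G) * p * (e : G)⁻¹,
    (mem_normalizer_iff.1 (mem_S.1 (mem_E.1 e.2).1).1 p).1 hp, by
      intro h
      apply hp1
      have h1 : (e : G)⁻¹ * ((e : G) * p * (e : G)⁻¹) * (e : G) = 1 := by rw [h]; group
      rw [← h1]; group⟩
  have hinj : Function.Injective f := by
    rintro ⟨a, ha⟩ ⟨b, hb⟩ hab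
    have hab' : a * p * a⁻¹ = b * p * b⁻¹ := congrArg Subtype.val hab
    have h1 : b⁻¹ * a ∈ F.E := mul_mem (inv_mem hb) ha
    have h2 : (b⁻¹ * a) * p = p * (b⁻¹ * a) := by
      have h3 : (b⁻¹ * a) * p * (b⁻¹ * a)⁻¹ = p := by
        calc (b⁻¹ * a) * p * (b⁻¹ * a)⁻¹ = b⁻¹ * (a * p * a⁻¹) * b := by group
          _ = b⁻¹ * (b * p * b⁻¹) * b := by rw [hab']
          _ = p := by group
      calc (b⁻¹ * a) * p = ((b⁻¹ * a) * p * (b⁻¹ * a)⁻¹) * (b⁻¹ * a) := by group
        _ = p * (b⁻¹ * a) := by rw [h3]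
    have h4 := E_free hc h1 hp hp1 h2
    apply Subtype.ext
    exact (inv_mul_eq_one.1 h4).symm
  have hT : Nat.card T = 8 := by
    have h1 := card_sub_one (F.P : Subgroup G)
    rw [card_sylow3 hc] at h1
    change Nat.card T + 1 = 9 at h1
    omega
  have hbij := hinj.bijective_of_nat_card_le (by rw [hT, card_E hc])
  obtain ⟨⟨e, he⟩, hee⟩ := hbij.2 ⟨p', hp', hp1'⟩
  exact ⟨e, he, congrArg Subtype.val hee⟩

/-- The Sylow subgroups fixed but not inverted by `z`. -/
abbrev RR (F : Frame G) : Type _ := {R : Sylow 3 G // F.z • R = R ∧ ¬ Inverts F.z R}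

theorem card_RR (hc : Nat.card G = 7920) : Nat.card F.RR = 4 := by
  classical
  haveI : Fintype (Sylow 3 G) := Fintype.ofFinite _
  have h1 := card_fix_involution hc F.hz2 F.hz1
  have h2 := card_inverted hc F.hz2 F.hz1
  have h3 : Nat.card F.RR = Nat.card {R : Sylow 3 G // F.z • R = R ∧ ¬ Inverts F.z R} := rfl
  rw [h3]
  rw [Nat.card_eq_fintype_card, Fintype.card_subtype] at h1 h2 ⊢
  have h4 := Finset.card_filter_add_card_filter_not (s := Finset.univ.filter fun R : Sylow 3 G => F.z • R = R)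
    (fun R => Inverts F.z R)
  rw [Finset.filter_filter, Finset.filter_filter] at h4
  have h5 : (Finset.univ.filter fun R : Sylow 3 G => F.z • R = R ∧ Inverts F.z R) =
      Finset.univ.filter fun R => Inverts F.z R := by
    ext R
    simp only [Finset.mem_filter, Finset.mem_univ, true_and]
    exact ⟨fun h => h.2, fun h => ⟨h.smul_eq, h⟩⟩
  rw [h5, h1, h2] at h4
  omega

/-- The stabilizer in `E` of a point in `RR` is `⟨z⟩`. -/
theorem E_R_stab (hc : Nat.card G = 7920) {R : Sylow 3 G} (hRz : ¬ Inverts F.z R) {e : G} (he : e ∈ F.E)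
    (heR : e • R = R) : e = 1 ∨ e = F.z := by
  have heN : e ∈ normalizer ((R : Subgroup G) : Set G) := Sylow.smul_eq_iff_mem_normalizer.1 heR
  have h8 : e ^ 8 = 1 := by
    have h1 := pow_card_eq_one' (G := F.E) (x := ⟨e, he⟩)
    rw [card_E hc] at h1
    exact congrArg Subtype.val h1
  by_cases h1 : e = 1
  · exact Or.inl h1
  right
  by_cases h2 : e ^ 2 = 1
  · exact E_inv hc he h2 h1
  exfalso
  by_cases h4 : e ^ 4 = 1
  · -- `e` has order 4
    have h5 := inverts_sq hc heN h4 h2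
    have h6 : e ^ 2 = F.z := E_inv hc (pow_mem he 2) (by rw [← pow_mul]; exact h4) h2
    rw [h6] at h5
    exact hRz h5
  · -- `e` has order 8
    have h5 := inverts_sq (g := e ^ 2) (P := R) hc (pow_mem heN 2) (by rw [← pow_mul]; exact h8)
      (by rw [← pow_mul]; exact h4)
    have h6 : (e ^ 2) ^ 2 = F.z := E_inv hc (pow_mem (pow_mem he 2) 2)
      (by rw [← pow_mul, ← pow_mul]; exact h8) (by rw [← pow_mul]; exact h4)
    rw [h6] at h5
    exact hRz h5

theorem E_smul_RR (hc : Nat.card G = 7920) {R : Sylow 3 G} (hR : F.z • R = R) (hRz : ¬ Inverts F.z R)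
    {e : G} (he : e ∈ F.E) : F.z • (e • R) = e • R ∧ ¬ Inverts F.z (e • R) := by
  have hcomm : e * F.z = F.z * e := (mem_S.1 (mem_E.1 he).1).2
  constructor
  · rw [← mul_smul, ← hcomm, mul_smul, hR]
  · rwa [inverts_smul_iff_of_comm hcomm]

/-- `E` is transitive on the Sylow subgroups fixed but not inverted by `z`. -/
theorem E_R_trans (hc : Nat.card G = 7920) {R R' : Sylow 3 G} (hR : F.z • R = R) (hRz : ¬ Inverts F.z R)
    (hR' : F.z • R' = R') (hRz' : ¬ Inverts F.z R') : ∃ e ∈ F.E, e • R = R' := by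
  classical
  haveI : Fintype F.E := Fintype.ofFinite _
  haveI : Fintype F.RR := Fintype.ofFinite _
  let f : F.E → F.RR := fun e => ⟨(e : G) • R, E_smul_RR hc hR hRz e.2⟩
  have hcardE : (Finset.univ : Finset F.E).card = 8 := by
    rw [← card_E (F := F) hc, Nat.card_eq_fintype_card]; rfl
  have hcardR : (Finset.univ : Finset F.RR).card = 4 := by
    rw [← card_RR (F := F) hc, Nat.card_eq_fintype_card]; rfl
  have hfib : ∀ b ∈ (Finset.univ : Finset F.E).image f,
      ((Finset.univ : Finset F.E).filter fun a => f a = b).card ≤ 2 := by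
    intro b hb
    obtain ⟨⟨a, ha⟩, -, rfl⟩ := Finset.mem_image.1 hb
    have hsub : ((Finset.univ : Finset F.E).filter fun x => f x = f ⟨a, ha⟩) ⊆
        {(⟨a, ha⟩ : F.E), ⟨a, ha⟩ * ⟨F.z, hzE⟩} := by
      rintro ⟨x, hx⟩ hx2
      have hx3 : x • R = a • R := congrArg Subtype.val (Finset.mem_filter.1 hx2).2
      have h5 : (a⁻¹ * x) • R = R := by rw [mul_smul, hx3, inv_smul_smul]
      simp only [Finset.mem_insert, Finset.mem_singleton]
      rcases E_R_stab hc hRz (mul_mem (inv_mem ha) hx) h5 with h6 | h6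
      · left
        apply Subtype.ext
        exact (inv_mul_eq_one.1 h6).symm
      · right
        apply Subtype.ext
        show x = a * F.z
        rw [← h6]; group
    exact (Finset.card_le_card hsub).trans Finset.card_le_two
  have h1 := Finset.card_le_mul_card_image _ 2 hfib
  rw [hcardE] at h1
  have himg : (Finset.univ : Finset F.E).image f = Finset.univ := by
    apply Finset.eq_of_subset_of_card_le (Finset.subset_univ _)
    rw [hcardR]
    omega
  have hmem : (⟨R', hR', hRz'⟩ : F.RR) ∈ (Finset.univ : Finset F.E).image f := by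
    rw [himg]; exact Finset.mem_univ _
  obtain ⟨⟨e, he⟩, -, hee⟩ := Finset.mem_image.1 hmem
  exact ⟨e, he, congrArg Subtype.val hee⟩

/-- The stabilizer of `P` and `Q₁` is `E`. -/
theorem mem_E_of_stab (hc : Nat.card G = 7920) {s : G} (hsP : s • F.P = F.P) (hsQ : s • F.Q₁ = F.Q₁) :
    s ∈ F.E := by
  have hsN : s ∈ normalizer ((F.P : Subgroup G) : Set G) := Sylow.smul_eq_iff_mem_normalizer.1 hsP
  have h1 : Inverts (s * F.z * s⁻¹) F.P := by
    have := inverts_smul F.hzP s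
    rwa [hsP] at this
  have h2 : Inverts (s * F.z * s⁻¹) F.Q₁ := by
    have := inverts_smul (hzQ₁ (F := F)) s
    rwa [hsQ] at this
  obtain ⟨u, hu, hue⟩ := inverter_conj hc F.hzP h1
  have h3 : Inverts F.z (u⁻¹ • F.Q₁) := by
    have := inverts_smul h2 u⁻¹
    rw [← hue] at this
    have h4 : u⁻¹ * (u * F.z * u⁻¹) * u⁻¹⁻¹ = F.z := by group
    rwa [h4] at this
  have hu1 : u = 1 := by
    rcases (F.hl _).1 h3 with h4 | h4 | h4
    · exfalso
      apply F.h1P
      have h5 : F.Q₁ = u • (u⁻¹ • F.Q₁) := by rw [smul_inv_smul]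
      rw [h5, h4, smul_eq_of_mem F.P hu]
    · have h5 : u⁻¹ • F.Q₁ = (1 : G) • F.Q₁ := by rw [h4, one_smul]
      have h6 := (inverter_orbit_unique hc F.hzP (inv_mem hu) (Subgroup.one_mem _) F.h1P hzQ₁.smul_eq
        hzQ₁.smul_eq h5).1
      exact inv_eq_one.1 h6
    · have h5 : u⁻¹ • F.Q₁ = (1 : G) • F.Q₂ := by rw [h4, one_smul]
      exact absurd (inverter_orbit_unique hc F.hzP (inv_mem hu) (Subgroup.one_mem _) F.h1P hzQ₁.smul_eq
        hzQ₂.smul_eq h5).2 F.hne
  rw [hu1] at hue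
  have h7 : s * F.z = F.z * s := by
    have h8 : F.z = s * F.z * s⁻¹ := by rw [← hue]; group
    calc s * F.z = (s * F.z * s⁻¹) * s := by group
      _ = F.z * s := by rw [← h8]
  exact mem_E.2 ⟨mem_S.2 ⟨hsN, h7⟩, hsQ⟩

end Frame

end Cfsg.Agent.Lib.Ord7920
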