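import Mathlib
import Cfsg.Agent.Lib.Ord7920N

/-!
# Simple groups of order 7920, part O: the graph on the Sylow 3-subgroups
-/

set_option autoImplicit false
set_option linter.unusedSectionVars false
set_option linter.style.haveILetI false
set_option linter.unusedVariables false

namespace Cfsg.Agent.Lib.Ord7920

open Subgroup MulAction
open Cfsg.Agent.Lib.SmallGroups2 Cfsg.Agent.Lib.SmallGroups3 Cfsg.Agent.Lib.SmallGroups4
  Cfsg.Agent.Lib.SmallGroups5 Cfsg.Agent.Lib.TwoLocal Cfsg.Agent.Lib.TwoLocal2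
  Cfsg.Agent.Lib.TwoLocal3 Cfsg.Agent.Lib.TransferEval
open scoped Pointwise

variable {G : Type*} [Group G] [Finite G] [IsSimpleGroup G]

/-- Two different Sylow 3-subgroups are adjacent if an involution inverts both. -/
def Adj (Q R : Sylow 3 G) : Prop :=
  Q ≠ R ∧ ∃ i : G, i ^ 2 = 1 ∧ i ≠ 1 ∧ Inverts i Q ∧ Inverts i R

theorem Adj.symm {Q R : Sylow 3 G} (h : Adj Q R) : Adj R Q :=
  let ⟨h1, i, a, b, c, d⟩ := h; ⟨h1.symm, i, a, b, d, c⟩

theorem Adj.irrefl (Q : Sylow 3 G) : ¬ Adj Q Q := fun h => h.1 rfl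

theorem Adj.smul {Q R : Sylow 3 G} (h : Adj Q R) (g : G) : Adj (g • Q) (g • R) := by
  obtain ⟨h1, i, a, b, c, d⟩ := h
  refine ⟨fun h => h1 (smul_left_cancel _ h), g * i * g⁻¹, ?_, ?_, inverts_smul c g, inverts_smul d g⟩
  · rw [conj_pow, a]; simp
  · intro h
    apply b
    have h2 : g⁻¹ * (g * i * g⁻¹) * g = 1 := by rw [h]; group
    rw [← h2]; group

theorem adj_smul_iff {Q R : Sylow 3 G} (g : G) : Adj (g • Q) (g • R) ↔ Adj Q R :=
  ⟨fun h => by simpa using h.smul g⁻¹, fun h => h.smul g⟩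

namespace Frame

variable {F : Frame G}

theorem adj_Q₁_Q₂ : Adj F.Q₁ F.Q₂ := ⟨F.hne, F.z, F.hz2, F.hz1, hzQ₁, hzQ₂⟩

theorem adj_P_Q₁ : Adj F.P F.Q₁ := ⟨F.h1P.symm, F.z, F.hz2, F.hz1, F.hzP, hzQ₁⟩

theorem adj_P_Q₂ : Adj F.P F.Q₂ := ⟨F.h2P.symm, F.z, F.hz2, F.hz1, F.hzP, hzQ₂⟩

theorem adj_P_smul_Q₁ {u : G} (hu : u ∈ (F.P : Subgroup G)) : Adj F.P (u • F.Q₁) := by
  have := (adj_P_Q₁ (F := F)).smul u
  rwa [smul_eq_of_mem F.P hu] at this

theorem adj_P_smul_Q₂ {u : G} (hu : u ∈ (F.P : Subgroup G)) : Adj F.P (u • F.Q₂) := by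
  have := (adj_P_Q₂ (F := F)).smul u
  rwa [smul_eq_of_mem F.P hu] at this

theorem adj_P_iff (hc : Nat.card G = 7920) {R : Sylow 3 G} :
    Adj F.P R ↔ ∃ u ∈ (F.P : Subgroup G), R = u • F.Q₁ ∨ R = u • F.Q₂ := by
  constructor
  · rintro ⟨hne, i, hi2, hi1, hiP, hiR⟩
    obtain ⟨u, hu, hue⟩ := inverter_conj hc F.hzP hiP
    refine ⟨u, hu, ?_⟩
    have h3 : Inverts F.z (u⁻¹ • R) := by
      have h4 := inverts_smul hiR u⁻¹
      rw [← hue] at h4
      have h5 : u⁻¹ * (u * F.z * u⁻¹) * u⁻¹⁻¹ = F.z := by group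
      rwa [h5] at h4
    rcases (F.hl _).1 h3 with h | h | h
    · exfalso
      apply hne
      have h5 : R = u • (u⁻¹ • R) := by rw [smul_inv_smul]
      rw [h5, h, smul_eq_of_mem F.P hu]
    · left; rw [← h, smul_inv_smul]
    · right; rw [← h, smul_inv_smul]
  · rintro ⟨u, hu, rfl | rfl⟩
    · exact adj_P_smul_Q₁ hu
    · exact adj_P_smul_Q₂ hu

/-- `N(P)` is transitive on the neighbours of `P`. -/
theorem rk1 (hc : Nat.card G = 7920) {R R' : Sylow 3 G} (h : Adj F.P R) (h' : Adj F.P R') :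
    ∃ g : G, g • F.P = F.P ∧ g • R = R' := by
  obtain ⟨r, hrS, hr2, hr1, hrI⟩ := exists_reflection (F := F) hc
  have hsw := reflection_swaps hc hrS hr2 hr1 hrI
  have hsw' := S_Q₂_of_swap hc hrS hsw
  have hrP := S_smul_P hrS
  obtain ⟨u, hu, hR⟩ := (adj_P_iff hc).1 h
  obtain ⟨v, hv, hR'⟩ := (adj_P_iff hc).1 h'
  have huP := smul_eq_of_mem F.P hu
  have hvP := smul_eq_of_mem F.P hv
  have hinvP : u⁻¹ • F.P = F.P := smul_eq_of_mem F.P (inv_mem hu)
  rcases hR with rfl | rfl <;> rcases hR' with rfl | rfl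
  · exact ⟨v * u⁻¹, by rw [mul_smul, hinvP, hvP], by rw [mul_smul, inv_smul_smul]⟩
  · exact ⟨v * r * u⁻¹, by rw [mul_smul, mul_smul, hinvP, hrP, hvP], by
      rw [mul_smul, mul_smul, inv_smul_smul, hsw]⟩
  · exact ⟨v * r * u⁻¹, by rw [mul_smul, mul_smul, hinvP, hrP, hvP], by
      rw [mul_smul, mul_smul, inv_smul_smul, hsw']⟩
  · exact ⟨v * u⁻¹, by rw [mul_smul, hinvP, hvP], by rw [mul_smul, inv_smul_smul]⟩

/-- `N(P)` is transitive on the non-neighbours of `P`. -/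
theorem rk2 (hc : Nat.card G = 7920) {R R' : Sylow 3 G} (h1 : R ≠ F.P) (h : ¬ Adj F.P R)
    (h1' : R' ≠ F.P) (h' : ¬ Adj F.P R') : ∃ g : G, g • F.P = F.P ∧ g • R = R' := by
  have key : ∀ R : Sylow 3 G, R ≠ F.P → ¬ Adj F.P R →
      ∃ p ∈ (F.P : Subgroup G), ∃ R₁ : Sylow 3 G, F.z • R₁ = R₁ ∧ ¬ Inverts F.z R₁ ∧ p • R₁ = R := by
    intro R h1 h
    obtain ⟨p, hp, R₁, hR₁, hz, hpR⟩ := exists_fix_in_orbit hc F.hzP h1
    refine ⟨p, hp, R₁, hz, ?_, hpR⟩
    intro hI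
    apply h
    rw [adj_P_iff hc]
    rcases (F.hl _).1 hI with h2 | h2 | h2
    · exact absurd h2 hR₁
    · exact ⟨p, hp, Or.inl (by rw [← hpR, h2])⟩
    · exact ⟨p, hp, Or.inr (by rw [← hpR, h2])⟩
  obtain ⟨p, hp, R₁, hz, hI, rfl⟩ := key R h1 h
  obtain ⟨p', hp', R₁', hz', hI', rfl⟩ := key R' h1' h'
  obtain ⟨e, he, heR⟩ := E_R_trans hc hz hI hz' hI'
  refine ⟨p' * e * p⁻¹, ?_, ?_⟩
  · rw [mul_smul, mul_smul, smul_eq_of_mem F.P (inv_mem hp), E_P he, smul_eq_of_mem F.P hp']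
  · rw [mul_smul, mul_smul, inv_smul_smul, heR]

theorem adj_dichotomy_Q₁ (hc : Nat.card G = 7920) :
    (∀ p ∈ (F.P : Subgroup G), p ≠ 1 → Adj F.Q₁ (p • F.Q₁)) ∨
      (∀ p ∈ (F.P : Subgroup G), p ≠ 1 → ¬ Adj F.Q₁ (p • F.Q₁)) := by
  by_cases h : ∃ p ∈ (F.P : Subgroup G), p ≠ 1 ∧ Adj F.Q₁ (p • F.Q₁)
  · left
    obtain ⟨p₀, hp₀, hp₀1, h0⟩ := h
    intro p hp hp1
    obtain ⟨e, he, hee⟩ := E_trans hc hp₀ hp₀1 hp hp1
    have h1 := h0.smul e
    rw [(mem_E.1 he).2] at h1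
    rwa [← mul_smul, show e * p₀ = (e * p₀ * e⁻¹) * e by group, mul_smul, (mem_E.1 he).2, hee] at h1
  · right
    intro p hp hp1 hadj
    exact h ⟨p, hp, hp1, hadj⟩

theorem adj_dichotomy_Q₂ (hc : Nat.card G = 7920) :
    (∀ p ∈ (F.P : Subgroup G), p ≠ 1 → Adj F.Q₁ (p • F.Q₂)) ∨
      (∀ p ∈ (F.P : Subgroup G), p ≠ 1 → ¬ Adj F.Q₁ (p • F.Q₂)) := by
  by_cases h : ∃ p ∈ (F.P : Subgroup G), p ≠ 1 ∧ Adj F.Q₁ (p • F.Q₂)
  · left
    obtain ⟨p₀, hp₀, hp₀1, h0⟩ := h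
    intro p hp hp1
    obtain ⟨e, he, hee⟩ := E_trans hc hp₀ hp₀1 hp hp1
    have h1 := h0.smul e
    rw [(mem_E.1 he).2] at h1
    rwa [← mul_smul, show e * p₀ = (e * p₀ * e⁻¹) * e by group, mul_smul, E_Q₂ hc he, hee] at h1
  · right
    intro p hp hp1 hadj
    exact h ⟨p, hp, hp1, hadj⟩

end Frame

section Count

open Classical

variable [Fintype (Sylow 3 G)]

/-- The neighbours of `Q`. -/
noncomputable def nbrs (Q : Sylow 3 G) : Finset (Sylow 3 G) := Finset.univ.filter fun R => Adj Q R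

theorem mem_nbrs {Q R : Sylow 3 G} : R ∈ nbrs Q ↔ Adj Q R := by simp [nbrs]

/-- The number of common neighbours. -/
noncomputable def cn (Q R : Sylow 3 G) : ℕ := (nbrs Q ∩ nbrs R).card

theorem nbrs_smul (g : G) (Q : Sylow 3 G) : nbrs (g • Q) = g • nbrs Q := by
  ext R
  rw [mem_nbrs, ← Finset.inv_smul_mem_iff, mem_nbrs]
  have h1 := adj_smul_iff (Q := Q) (R := g⁻¹ • R) g
  rwa [smul_inv_smul] at h1

theorem cn_smul (g : G) (Q R : Sylow 3 G) : cn (g • Q) (g • R) = cn Q R := by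
  rw [cn, cn, nbrs_smul, nbrs_smul, ← Finset.smul_finset_inter, Finset.card_smul_finset]

theorem card_nbrs_smul (g : G) (Q : Sylow 3 G) : (nbrs (g • Q)).card = (nbrs Q).card := by
  rw [nbrs_smul, Finset.card_smul_finset]

namespace Frame

variable {F : Frame G}

/-- The `P`-orbit of `Q`. -/
noncomputable def orb (F : Frame G) (Q : Sylow 3 G) : Finset (Sylow 3 G) :=
  Finset.univ.filter fun R => ∃ u ∈ (F.P : Subgroup G), R = u • Q

theorem mem_orb {Q R : Sylow 3 G} : R ∈ F.orb Q ↔ ∃ u ∈ (F.P : Subgroup G), R = u • Q := by simp [orb]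

theorem card_orb (hc : Nat.card G = 7920) {Q : Sylow 3 G} (hQ : Q ≠ F.P) : (F.orb Q).card = 9 := by
  haveI : Fintype (F.P : Subgroup G) := Fintype.ofFinite _
  have h1 : F.orb Q = (Finset.univ : Finset ↥(F.P : Subgroup G)).image fun u : ↥(F.P : Subgroup G) => (u : G) • Q := by
    ext R
    rw [mem_orb]
    simp only [Finset.mem_image, Finset.mem_univ, true_and]
    constructor
    · rintro ⟨u, hu, rfl⟩
      exact ⟨⟨u, hu⟩, rfl⟩
    · rintro ⟨⟨u, hu⟩, rfl⟩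
      exact ⟨u, hu, rfl⟩
  rw [h1, Finset.card_image_of_injective]
  · rw [← card_sylow3 hc F.P, Nat.card_eq_fintype_card]; rfl
  · rintro ⟨u, hu⟩ ⟨v, hv⟩ h
    have h2 : u • Q = v • Q := h
    have h3 : (v⁻¹ * u) • Q = Q := by rw [mul_smul, h2, inv_smul_smul]
    have h4 : v⁻¹ * u = 1 := by
      by_contra hne
      exact smul_ne_of_mem hc hQ (mul_mem (inv_mem hv) hu) hne h3
    apply Subtype.ext
    exact (inv_mul_eq_one.1 h4).symm

theorem nbrs_P (hc : Nat.card G = 7920) : nbrs F.P = F.orb F.Q₁ ∪ F.orb F.Q₂ := by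
  ext R
  rw [mem_nbrs, adj_P_iff hc, Finset.mem_union, mem_orb, mem_orb]
  constructor
  · rintro ⟨u, hu, h | h⟩
    · exact Or.inl ⟨u, hu, h⟩
    · exact Or.inr ⟨u, hu, h⟩
  · rintro (⟨u, hu, h⟩ | ⟨u, hu, h⟩)
    · exact ⟨u, hu, Or.inl h⟩
    · exact ⟨u, hu, Or.inr h⟩

theorem disjoint_orb (hc : Nat.card G = 7920) : Disjoint (F.orb F.Q₁) (F.orb F.Q₂) := by
  rw [Finset.disjoint_left]
  intro R h1 h2
  obtain ⟨u, hu, rfl⟩ := mem_orb.1 h1
  obtain ⟨v, hv, hvv⟩ := mem_orb.1 h2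
  exact F.hne (inverter_orbit_unique hc F.hzP hu hv F.h1P hzQ₁.smul_eq hzQ₂.smul_eq hvv).2

theorem card_nbrs_P (hc : Nat.card G = 7920) : (nbrs F.P).card = 18 := by
  rw [nbrs_P hc, Finset.card_union_of_disjoint (disjoint_orb hc), card_orb hc F.h1P, card_orb hc F.h2P]

theorem card_nbrs (hc : Nat.card G = 7920) (Q : Sylow 3 G) : (nbrs Q).card = 18 := by
  obtain ⟨F⟩ := exists_frame hc
  obtain ⟨g, rfl⟩ := MulAction.exists_smul_eq G F.P Q
  rw [card_nbrs_smul, card_nbrs_P hc]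

theorem card_univ_sylow (hc : Nat.card G = 7920) : (Finset.univ : Finset (Sylow 3 G)).card = 55 := by
  rw [← card_sylow3_eq hc, Nat.card_eq_fintype_card]; rfl

theorem cn_self (hc : Nat.card G = 7920) (Q : Sylow 3 G) : cn Q Q = 18 := by
  rw [cn, Finset.inter_self, card_nbrs hc]

theorem cn_adj (hc : Nat.card G = 7920) {Q R : Sylow 3 G} (h : Adj Q R) : cn Q R = cn F.P F.Q₁ := by
  obtain ⟨g, rfl⟩ := MulAction.exists_smul_eq G F.P Q
  have h1 : Adj F.P (g⁻¹ • R) := by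
    have := h.smul g⁻¹
    rwa [inv_smul_smul] at this
  obtain ⟨k, hk, hk2⟩ := rk1 hc h1 adj_P_Q₁
  have h2 := cn_smul g F.P (g⁻¹ • R)
  rw [smul_inv_smul] at h2
  rw [h2, ← hk2]
  have h3 := cn_smul k F.P (g⁻¹ • R)
  rw [hk] at h3
  exact h3.symm

theorem cn_nonadj (hc : Nat.card G = 7920) {R₀ Q R : Sylow 3 G} (hR₀ : R₀ ≠ F.P) (hR₀' : ¬ Adj F.P R₀)
    (hne : Q ≠ R) (h : ¬ Adj Q R) : cn Q R = cn F.P R₀ := by
  obtain ⟨g, rfl⟩ := MulAction.exists_smul_eq G F.P Q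
  have h1 : ¬ Adj F.P (g⁻¹ • R) := by
    intro h2
    have := h2.smul g
    rw [smul_inv_smul] at this
    exact h this
  have h1' : g⁻¹ • R ≠ F.P := by
    intro h2
    apply hne
    rw [← h2, smul_inv_smul]
  obtain ⟨k, hk, hk2⟩ := rk2 hc h1' h1 hR₀ hR₀'
  have h2 := cn_smul g F.P (g⁻¹ • R)
  rw [smul_inv_smul] at h2
  rw [h2, ← hk2]
  have h3 := cn_smul k F.P (g⁻¹ • R)
  rw [hk] at h3
  exact h3.symm

theorem exists_nonadj (hc : Nat.card G = 7920) : ∃ R₀ : Sylow 3 G, R₀ ≠ F.P ∧ ¬ Adj F.P R₀ := by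
  have h1 : (insert F.P (nbrs F.P)).card < (Finset.univ : Finset (Sylow 3 G)).card := by
    rw [card_univ_sylow hc]
    have := Finset.card_insert_le F.P (nbrs F.P)
    rw [card_nbrs_P hc] at this
    omega
  obtain ⟨R, -, hR⟩ := Finset.exists_mem_notMem_of_card_lt_card h1
  rw [Finset.mem_insert, not_or, mem_nbrs] at hR
  exact ⟨R, hR.1, hR.2⟩

/-- The double count: `λ + 2μ = 17`. -/
theorem lam_add_mu (hc : Nat.card G = 7920) {R₀ : Sylow 3 G} (hR₀ : R₀ ≠ F.P) (hR₀' : ¬ Adj F.P R₀) :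
    cn F.P F.Q₁ + 2 * cn F.P R₀ = 17 := by
  have hsum := Finset.sum_card_bipartiteAbove_eq_sum_card_bipartiteBelow (s := nbrs F.P)
    (t := (Finset.univ : Finset (Sylow 3 G))) (fun W R => Adj W R)
  have hab : ∀ W ∈ nbrs F.P, (Finset.bipartiteAbove (fun W R => Adj W R) Finset.univ W).card = 18 := by
    intro W _
    rw [← card_nbrs hc W]
    rfl
  have hbe : ∀ R ∈ (Finset.univ : Finset (Sylow 3 G)),
      (Finset.bipartiteBelow (fun W R => Adj W R) (nbrs F.P) R).card = cn F.P R := by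
    intro R _
    rw [cn]
    congr 1
    ext W
    rw [Finset.mem_bipartiteBelow, Finset.mem_inter, mem_nbrs, mem_nbrs]
    exact ⟨fun h => ⟨h.1, h.2.symm⟩, fun h => ⟨h.1, h.2.symm⟩⟩
  rw [Finset.sum_congr rfl hab, Finset.sum_congr rfl hbe, Finset.sum_const, card_nbrs_P hc] at hsum
  have hnot : F.P ∉ nbrs F.P := by
    rw [mem_nbrs]; exact Adj.irrefl _
  have hsplit := Finset.sum_sdiff (f := fun R => cn F.P R) (Finset.subset_univ (insert F.P (nbrs F.P)))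
  rw [Finset.sum_insert hnot, cn_self hc] at hsplit
  have h1 : ∀ R ∈ nbrs F.P, cn F.P R = cn F.P F.Q₁ := fun R hR => cn_adj hc (mem_nbrs.1 hR)
  have h2 : ∀ R ∈ Finset.univ \ insert F.P (nbrs F.P), cn F.P R = cn F.P R₀ := by
    intro R hR
    rw [Finset.mem_sdiff, Finset.mem_insert, not_or, mem_nbrs] at hR
    exact cn_nonadj hc hR₀ hR₀' (Ne.symm hR.2.1) hR.2.2
  rw [Finset.sum_congr rfl h1, Finset.sum_congr rfl h2, Finset.sum_const, Finset.sum_const,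
    Finset.card_sdiff_of_subset (Finset.subset_univ _), card_univ_sylow hc,
    Finset.card_insert_of_notMem hnot, card_nbrs_P hc] at hsplit
  simp only [smul_eq_mul] at hsplit hsum
  have h3 : Finset.univ.sum (cn F.P) = ∑ x, cn F.P x := rfl
  rw [h3] at hsum
  omega

/-- The neighbours of `P` in the orbit of `Q₁`. -/
theorem card_A_inter_T (hc : Nat.card G = 7920)
    (h : ∀ p ∈ (F.P : Subgroup G), p ≠ 1 → Adj F.Q₁ (p • F.Q₁)) :
    (F.orb F.Q₁ ∩ nbrs F.Q₁).card = 8 := by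
  have h1 : F.orb F.Q₁ ∩ nbrs F.Q₁ = (F.orb F.Q₁).erase F.Q₁ := by
    ext R
    rw [Finset.mem_inter, Finset.mem_erase, mem_nbrs]
    constructor
    · rintro ⟨h2, h3⟩
      exact ⟨h3.1.symm, h2⟩
    · rintro ⟨h2, h3⟩
      refine ⟨h3, ?_⟩
      obtain ⟨u, hu, rfl⟩ := mem_orb.1 h3
      apply h u hu
      rintro rfl
      exact h2 (one_smul _ _)
  have h2 : F.Q₁ ∈ F.orb F.Q₁ := mem_orb.2 ⟨1, Subgroup.one_mem _, (one_smul _ _).symm⟩
  rw [h1, Finset.card_erase_of_mem h2, card_orb hc F.h1P]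

theorem card_A_inter_F (hc : Nat.card G = 7920)
    (h : ∀ p ∈ (F.P : Subgroup G), p ≠ 1 → ¬ Adj F.Q₁ (p • F.Q₁)) :
    (F.orb F.Q₁ ∩ nbrs F.Q₁).card = 0 := by
  rw [Finset.card_eq_zero, Finset.eq_empty_iff_forall_notMem]
  intro R hR
  rw [Finset.mem_inter, mem_nbrs] at hR
  obtain ⟨u, hu, rfl⟩ := mem_orb.1 hR.1
  by_cases hu1 : u = 1
  · rw [hu1, one_smul] at hR
    exact Adj.irrefl _ hR.2
  · exact h u hu hu1 hR.2

theorem card_B_inter_T (hc : Nat.card G = 7920)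
    (h : ∀ p ∈ (F.P : Subgroup G), p ≠ 1 → Adj F.Q₁ (p • F.Q₂)) :
    (F.orb F.Q₂ ∩ nbrs F.Q₁).card = 9 := by
  have h1 : F.orb F.Q₂ ∩ nbrs F.Q₁ = F.orb F.Q₂ := by
    apply Finset.inter_eq_left.2
    intro R hR
    obtain ⟨u, hu, rfl⟩ := mem_orb.1 hR
    rw [mem_nbrs]
    by_cases hu1 : u = 1
    · rw [hu1, one_smul]
      exact adj_Q₁_Q₂
    · exact h u hu hu1
  rw [h1, card_orb hc F.h2P]

theorem card_B_inter_F (hc : Nat.card G = 7920)
    (h : ∀ p ∈ (F.P : Subgroup G), p ≠ 1 → ¬ Adj F.Q₁ (p • F.Q₂)) :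
    (F.orb F.Q₂ ∩ nbrs F.Q₁).card = 1 := by
  have h1 : F.orb F.Q₂ ∩ nbrs F.Q₁ = {F.Q₂} := by
    ext R
    rw [Finset.mem_inter, Finset.mem_singleton, mem_nbrs]
    constructor
    · rintro ⟨h2, h3⟩
      obtain ⟨u, hu, rfl⟩ := mem_orb.1 h2
      by_cases hu1 : u = 1
      · rw [hu1, one_smul]
      · exact absurd h3 (h u hu hu1)
    · rintro rfl
      exact ⟨mem_orb.2 ⟨1, Subgroup.one_mem _, (one_smul _ _).symm⟩, adj_Q₁_Q₂⟩
  rw [h1, Finset.card_singleton]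

theorem cn_eq_add (hc : Nat.card G = 7920) :
    cn F.P F.Q₁ = (F.orb F.Q₁ ∩ nbrs F.Q₁).card + (F.orb F.Q₂ ∩ nbrs F.Q₁).card := by
  rw [cn, nbrs_P hc, Finset.union_inter_distrib_right, Finset.card_union_of_disjoint]
  exact Finset.disjoint_of_subset_left Finset.inter_subset_left
    (Finset.disjoint_of_subset_right Finset.inter_subset_left (disjoint_orb hc))

end Frame

section Matrix

variable (K : Type) [CommRing K]

/-- The adjacency matrix. -/
noncomputable def adjM : Matrix (Sylow 3 G) (Sylow 3 G) K := Matrix.of fun Q R => if Adj Q R then 1 else 0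

/-- The all-one matrix. -/
noncomputable def oneM : Matrix (Sylow 3 G) (Sylow 3 G) K := Matrix.of fun _ _ => 1

theorem adjM_sq_apply (Q R : Sylow 3 G) :
    ((adjM (G := G) K * adjM (G := G) K : Matrix (Sylow 3 G) (Sylow 3 G) K)) Q R = (cn Q R : K) := by
  rw [Matrix.mul_apply]
  simp only [adjM, Matrix.of_apply, ite_mul, one_mul, zero_mul]
  have h1 : ∀ W : Sylow 3 G, (if Adj Q W then (if Adj W R then (1 : K) else 0) else 0) =
      if W ∈ nbrs Q ∩ nbrs R then 1 else 0 := by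
    intro W
    have hmem : W ∈ nbrs Q ∩ nbrs R ↔ Adj Q W ∧ Adj W R := by
      rw [Finset.mem_inter, mem_nbrs, mem_nbrs]
      exact ⟨fun h => ⟨h.1, h.2.symm⟩, fun h => ⟨h.1, h.2.symm⟩⟩
    by_cases h2 : Adj Q W <;> by_cases h3 : Adj W R <;> simp [h2, h3, hmem]
  rw [Finset.sum_congr rfl fun W _ => h1 W, Finset.sum_ite_mem, Finset.univ_inter, Finset.sum_const,
    cn, nsmul_eq_mul, mul_one]

theorem adjM_mul_oneM (hc : Nat.card G = 7920) : adjM (G := G) K * oneM K = (18 : K) • oneM K := by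
  ext Q R
  rw [Matrix.mul_apply, Matrix.smul_apply]
  simp only [adjM, oneM, Matrix.of_apply, mul_one, smul_eq_mul]
  rw [Finset.sum_boole]
  have h : (Finset.univ.filter fun W => Adj Q W).card = 18 := Frame.card_nbrs hc Q
  rw [h]
  norm_num

theorem oneM_mul_adjM (hc : Nat.card G = 7920) : oneM (G := G) K * adjM K = (18 : K) • oneM K := by
  ext Q R
  rw [Matrix.mul_apply, Matrix.smul_apply]
  simp only [adjM, oneM, Matrix.of_apply, one_mul, mul_one, smul_eq_mul]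
  rw [Finset.sum_boole]
  have h : (Finset.univ.filter fun W => Adj W R).card = 18 := by
    rw [← Frame.card_nbrs hc R]
    congr 1
    ext W
    rw [Finset.mem_filter, mem_nbrs]
    exact ⟨fun h => h.2.symm, fun h => ⟨Finset.mem_univ _, h.symm⟩⟩
  rw [h]
  norm_num

theorem oneM_mul_oneM (hc : Nat.card G = 7920) : oneM (G := G) K * oneM K = (55 : K) • oneM K := by
  ext Q R
  rw [Matrix.mul_apply, Matrix.smul_apply]
  simp only [oneM, Matrix.of_apply, mul_one, smul_eq_mul]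
  rw [Finset.sum_const, Frame.card_univ_sylow hc]
  norm_num

theorem trace_adjM : (adjM (G := G) K).trace = 0 := by
  simp [Matrix.trace, adjM, Adj.irrefl]

theorem trace_oneM (hc : Nat.card G = 7920) : (oneM (G := G) K).trace = 55 := by
  simp only [Matrix.trace, oneM, Matrix.diag_apply, Matrix.of_apply]
  rw [Finset.sum_const, Frame.card_univ_sylow hc]
  norm_num

theorem trace_one' (hc : Nat.card G = 7920) : (1 : Matrix (Sylow 3 G) (Sylow 3 G) K).trace = 55 := by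
  rw [Matrix.trace_one, ← Finset.card_univ, Frame.card_univ_sylow hc]
  norm_num

/-- The quadratic equation of a strongly regular graph. -/
theorem adjM_sq_eq {F : Frame G} (hc : Nat.card G = 7920) {R₀ : Sylow 3 G} (hR₀ : R₀ ≠ F.P)
    (hR₀' : ¬ Adj F.P R₀) :
    adjM (G := G) K * adjM K = (18 : K) • 1 + (cn F.P F.Q₁ : K) • adjM K +
      (cn F.P R₀ : K) • (oneM K - 1 - adjM K) := by
  ext Q R
  rw [adjM_sq_apply]
  simp only [Matrix.add_apply, Matrix.smul_apply, Matrix.sub_apply, smul_eq_mul, adjM, oneM,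
    Matrix.of_apply, Matrix.one_apply]
  by_cases h1 : Q = R
  · subst h1
    simp [Adj.irrefl, Frame.cn_self hc]
  · by_cases h2 : Adj Q R
    · simp [h1, h2, Frame.cn_adj (F := F) hc h2]
    · simp [h1, h2, Frame.cn_nonadj (F := F) hc hR₀ hR₀' h1 h2]

end Matrix

theorem z19a : (18 : ZMod 19) = -1 := by decide
theorem z19b : (17 : ZMod 19) = -2 := by decide
theorem z19c : ((0 : ZMod 19) + 55) ≠ 0 := by decide
theorem z89a : (89 : ZMod 89) = 0 := by decide +kernel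
theorem z89b : (147473 : ZMod 89) = 0 := by decide +kernel
theorem z89c : ((2 : ZMod 89) * 0 + 7 * 55 + 51 * 55) ≠ 0 := by decide +kernel

namespace Frame

variable {F : Frame G}

theorem not_TT (hc : Nat.card G = 7920) {R₀ : Sylow 3 G} (hR₀ : R₀ ≠ F.P) (hR₀' : ¬ Adj F.P R₀)
    (hlam : cn F.P F.Q₁ = 17) (hmu : cn F.P R₀ = 0) : False := by
  haveI : Fact (Nat.Prime 19) := ⟨by norm_num⟩
  have h := adjM_sq_eq (ZMod 19) (F := F) hc hR₀ hR₀'
  rw [hlam, hmu] at h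
  set A := adjM (G := G) (ZMod 19) with hA
  set B := A + 1 with hB
  have h2 : B * B = 0 := by
    have h3 : B * B = A * A + (2 : ZMod 19) • A + 1 := by
      rw [hB, add_mul, mul_add, mul_add, two_smul]
      simp only [mul_one, one_mul]
      abel
    rw [h3, h]
    have h4 : ((17 : ℕ) : ZMod 19) = 17 := by norm_num
    have h5 : ((0 : ℕ) : ZMod 19) = 0 := by norm_num
    rw [h4, h5, zero_smul, add_zero]
    rw [z19a, z19b, neg_smul, neg_smul, one_smul]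
    abel
  have h3 : IsNilpotent B := ⟨2, by rw [sq, h2]⟩
  have h4 := Matrix.isNilpotent_trace_of_isNilpotent h3
  rw [hB, Matrix.trace_add, hA, trace_adjM, trace_one' _ hc] at h4
  exact z19c h4.eq_zero

theorem not_FF (hc : Nat.card G = 7920) {R₀ : Sylow 3 G} (hR₀ : R₀ ≠ F.P) (hR₀' : ¬ Adj F.P R₀)
    (hlam : cn F.P F.Q₁ = 1) (hmu : cn F.P R₀ = 8) : False := by
  haveI : Fact (Nat.Prime 89) := ⟨by norm_num⟩
  have h := adjM_sq_eq (ZMod 89) (F := F) hc hR₀ hR₀'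
  rw [hlam, hmu] at h
  have hJ1 := adjM_mul_oneM (G := G) (ZMod 89) hc
  have hJ2 := oneM_mul_adjM (G := G) (ZMod 89) hc
  have hJ3 := oneM_mul_oneM (G := G) (ZMod 89) hc
  set A := adjM (G := G) (ZMod 89) with hA
  set J := oneM (G := G) (ZMod 89) with hJ
  set B := (2 : ZMod 89) • A + (7 : ZMod 89) • 1 + (51 : ZMod 89) • J with hB
  have h2 : B * B = 0 := by
    rw [hB]
    simp only [add_mul, mul_add, smul_mul_assoc, mul_smul_comm, mul_one, one_mul, smul_add, hJ1, hJ2,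
      hJ3, h]
    have h4 : ((1 : ℕ) : ZMod 89) = 1 := by norm_num
    have h5 : ((8 : ℕ) : ZMod 89) = 8 := by norm_num
    rw [h4, h5]
    have e : ∀ (a b c : ZMod 89) , a = 0 → b = 0 → c = 0 →
        a • (1 : Matrix (Sylow 3 G) (Sylow 3 G) (ZMod 89)) + b • A + c • J = 0 := by
      intro a b c ha hb hc
      rw [ha, hb, hc]
      simp
    exact Eq.trans (by module) (e 89 0 147473 z89a rfl z89b)
  have h3 : IsNilpotent B := ⟨2, by rw [sq, h2]⟩
  have h4 := Matrix.isNilpotent_trace_of_isNilpotent h3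
  rw [hB, Matrix.trace_add, Matrix.trace_add, Matrix.trace_smul, Matrix.trace_smul, Matrix.trace_smul,
    hA, trace_adjM, trace_one' _ hc, hJ, trace_oneM _ hc] at h4
  simp only [smul_eq_mul] at h4
  exact z89c h4.eq_zero

/-- The structure of the graph around a frame. -/
theorem adj_struct (hc : Nat.card G = 7920) :
    (∀ p ∈ (F.P : Subgroup G), p ≠ 1 → Adj F.Q₁ (p • F.Q₁)) ∧
      (∀ p ∈ (F.P : Subgroup G), p ≠ 1 → ¬ Adj F.Q₁ (p • F.Q₂)) := by
  obtain ⟨R₀, hR₀, hR₀'⟩ := exists_nonadj (F := F) hc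
  have hsum := lam_add_mu hc hR₀ hR₀'
  have hadd := cn_eq_add (F := F) hc
  rcases adj_dichotomy_Q₁ (F := F) hc with hA | hA <;> rcases adj_dichotomy_Q₂ (F := F) hc with hB | hB
  · exfalso
    rw [card_A_inter_T hc hA, card_B_inter_T hc hB] at hadd
    exact not_TT hc hR₀ hR₀' hadd (by omega)
  · exact ⟨hA, hB⟩
  · exfalso
    rw [card_A_inter_F hc hA, card_B_inter_T hc hB] at hadd
    obtain ⟨p, hp, hp1⟩ := exists_ne_one_of_sylow hc F.P
    have hne : F.Q₁ ≠ p • F.Q₁ := fun h => smul_ne_of_mem hc F.h1P hp hp1 h.symm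
    have h1 := cn_nonadj hc hR₀ hR₀' hne (hA p hp hp1)
    have h2 : cn F.P R₀ = 4 := by omega
    have hsub : insert F.P (F.orb F.Q₂) ⊆ nbrs F.Q₁ ∩ nbrs (p • F.Q₁) := by
      have hB' : ∀ u ∈ (F.P : Subgroup G), Adj F.Q₁ (u • F.Q₂) := by
        intro u hu
        by_cases hu1 : u = 1
        · rw [hu1, one_smul]; exact adj_Q₁_Q₂
        · exact hB u hu hu1
      intro W hW
      rw [Finset.mem_insert] at hW
      rw [Finset.mem_inter, mem_nbrs, mem_nbrs]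
      rcases hW with rfl | hW
      · exact ⟨adj_P_Q₁.symm, (adj_P_smul_Q₁ hp).symm⟩
      · obtain ⟨u, hu, rfl⟩ := mem_orb.1 hW
        refine ⟨hB' u hu, ?_⟩
        have h3 := (hB' (p⁻¹ * u) (mul_mem (inv_mem hp) hu)).smul p
        rwa [← mul_smul, mul_inv_cancel_left] at h3
    have hnot : F.P ∉ F.orb F.Q₂ := by
      intro h
      obtain ⟨u, hu, hu2⟩ := mem_orb.1 h
      apply F.h2P
      have h3 : u • F.Q₂ = u • F.P := by rw [← hu2, smul_eq_of_mem F.P hu]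
      exact smul_left_cancel _ h3
    have h3 := Finset.card_le_card hsub
    rw [Finset.card_insert_of_notMem hnot, card_orb hc F.h2P] at h3
    have h4 : (nbrs F.Q₁ ∩ nbrs (p • F.Q₁)).card = cn F.Q₁ (p • F.Q₁) := rfl
    omega
  · exfalso
    rw [card_A_inter_F hc hA, card_B_inter_F hc hB] at hadd
    exact not_FF hc hR₀ hR₀' hadd (by omega)

end Frame

end Count

end Cfsg.Agent.Lib.Ord7920
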