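import Mathlib
import Cfsg.Agent.Lib.Ord7920O

/-!
# Simple groups of order 7920, part P: eleven blocks of ten Sylow subgroups
-/

set_option autoImplicit false
set_option linter.unusedSectionVars false
set_option linter.style.haveILetI false
set_option linter.unusedVariables false

namespace Cfsg.Agent.Lib.Ord7920

open Subgroup MulAction
open Cfsg.Agent.Lib.SmallGroups2 Cfsg.Agent.Lib.SmallGroups3 Cfsg.Agent.Lib.SmallGroups4
  Cfsg.Agent.Lib.SmallGroups5 Cfsg.Agent.Lib.TwoLocal Cfsg.Agent.Lib.TwoLocal2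
  Cfsg.Agent.Lib.TwoLocal3 Cfsg.Agent.Lib.TransferEval
open scoped Pointwise

variable {G : Type*} [Group G] [Finite G] [IsSimpleGroup G]

section Blocks

open Classical

variable [Fintype (Sylow 3 G)]

/-- A clique of Sylow 3-subgroups. -/
def IsClq (T : Finset (Sylow 3 G)) : Prop := ∀ Q ∈ T, ∀ R ∈ T, Q ≠ R → Adj Q R

theorem IsClq.smul {T : Finset (Sylow 3 G)} (h : IsClq T) (g : G) : IsClq (g • T) := by
  intro Q hQ R hR hne
  rw [← Finset.inv_smul_mem_iff] at hQ hR
  have h1 := h _ hQ _ hR (fun h2 => hne (smul_left_cancel _ h2))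
  have h2 := h1.smul g
  rwa [smul_inv_smul, smul_inv_smul] at h2

variable (G) in
/-- The cliques of size 10. -/
abbrev Block : Type _ := {T : Finset (Sylow 3 G) // T.card = 10 ∧ IsClq T}

noncomputable instance : Fintype (Block G) := by
  unfold Block
  exact Fintype.ofFinite _

noncomputable instance : DecidableEq (Block G) := Classical.decEq _

noncomputable instance : MulAction G (Block G) where
  smul g T := ⟨g • T.1, by rw [Finset.card_smul_finset]; exact T.2.1, T.2.2.smul g⟩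
  one_smul T := Subtype.ext (one_smul G T.1)
  mul_smul a b T := Subtype.ext (mul_smul a b T.1)

theorem Block.coe_smul (g : G) (T : Block G) : (g • T).1 = g • T.1 := rfl

theorem Block.mem_smul {g : G} {T : Block G} {Q : Sylow 3 G} : Q ∈ (g • T).1 ↔ g⁻¹ • Q ∈ T.1 := by
  rw [Block.coe_smul, Finset.inv_smul_mem_iff]

theorem Block.smul_mem_smul {g : G} {T : Block G} {Q : Sylow 3 G} : g • Q ∈ (g • T).1 ↔ Q ∈ T.1 := by
  rw [Block.mem_smul, inv_smul_smul]

namespace Frame

variable {F : Frame G}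

theorem adj_AA (hc : Nat.card G = 7920) {u v : G} (hu : u ∈ (F.P : Subgroup G)) (hv : v ∈ (F.P : Subgroup G))
    (huv : u ≠ v) : Adj (u • F.Q₁) (v • F.Q₁) := by
  have h1 := (adj_struct (F := F) hc).1 (u⁻¹ * v) (mul_mem (inv_mem hu) hv)
    (fun h => huv (inv_mul_eq_one.1 h))
  have h2 := h1.smul u
  rwa [← mul_smul, mul_inv_cancel_left] at h2

theorem adj_AB_iff (hc : Nat.card G = 7920) {u v : G} (hu : u ∈ (F.P : Subgroup G))
    (hv : v ∈ (F.P : Subgroup G)) : Adj (u • F.Q₁) (v • F.Q₂) ↔ u = v := by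
  constructor
  · intro h
    by_contra huv
    have h1 := (adj_struct (F := F) hc).2 (u⁻¹ * v) (mul_mem (inv_mem hu) hv)
      (fun h => huv (inv_mul_eq_one.1 h))
    apply h1
    have h2 := h.smul u⁻¹
    rwa [inv_smul_smul, ← mul_smul] at h2
  · rintro rfl
    exact adj_Q₁_Q₂.smul u

theorem exists_swap (hc : Nat.card G = 7920) :
    ∃ r : G, r • F.P = F.P ∧ r • F.Q₁ = F.Q₂ ∧ r • F.Q₂ = F.Q₁ ∧ r * r = 1 ∧
      r ∈ normalizer ((F.P : Subgroup G) : Set G) := by
  obtain ⟨r, hrS, hr2, hr1, hrI⟩ := exists_reflection (F := F) hc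
  have hsw := reflection_swaps hc hrS hr2 hr1 hrI
  exact ⟨r, S_smul_P hrS, hsw, S_Q₂_of_swap hc hrS hsw, by rw [← sq, hr2], (mem_S.1 hrS).1⟩

theorem adj_BB (hc : Nat.card G = 7920) {u v : G} (hu : u ∈ (F.P : Subgroup G)) (hv : v ∈ (F.P : Subgroup G))
    (huv : u ≠ v) : Adj (u • F.Q₂) (v • F.Q₂) := by
  obtain ⟨r, hrP, h12, h21, hrr, hrN⟩ := exists_swap (F := F) hc
  have hconj : ∀ w ∈ (F.P : Subgroup G), r * w * r⁻¹ ∈ (F.P : Subgroup G) := fun w hw =>
    (mem_normalizer_iff.1 hrN w).1 hw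
  have hne : r * u * r⁻¹ ≠ r * v * r⁻¹ := by
    intro h
    apply huv
    have h2 := congrArg (fun x => r⁻¹ * x * r) h
    simpa [mul_assoc] using h2
  have h1 := adj_AA (F := F) hc (hconj u hu) (hconj v hv) hne
  have h2 := h1.smul r⁻¹
  have hrinv : r⁻¹ = r := by
    rw [inv_eq_iff_mul_eq_one]; exact hrr
  have h3 : ∀ w : G, r⁻¹ • (r * w * r⁻¹) • F.Q₁ = w • F.Q₂ := by
    intro w
    rw [← mul_smul, show r⁻¹ * (r * w * r⁻¹) = w * r⁻¹ by group, mul_smul, hrinv, h12]
  rwa [h3, h3] at h2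

/-- The first block through `P`. -/
noncomputable def T₀ (F : Frame G) : Finset (Sylow 3 G) := insert F.P (F.orb F.Q₁)

/-- The second block through `P`. -/
noncomputable def T₁ (F : Frame G) : Finset (Sylow 3 G) := insert F.P (F.orb F.Q₂)

theorem P_not_orb {Q : Sylow 3 G} (hQ : Q ≠ F.P) : F.P ∉ F.orb Q := by
  intro h
  obtain ⟨u, hu, hu2⟩ := mem_orb.1 h
  apply hQ
  have h3 : u • Q = u • F.P := by rw [← hu2, smul_eq_of_mem F.P hu]
  exact smul_left_cancel _ h3

theorem card_T₀ (hc : Nat.card G = 7920) : F.T₀.card = 10 := by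
  rw [T₀, Finset.card_insert_of_notMem (P_not_orb F.h1P), card_orb hc F.h1P]

theorem card_T₁ (hc : Nat.card G = 7920) : F.T₁.card = 10 := by
  rw [T₁, Finset.card_insert_of_notMem (P_not_orb F.h2P), card_orb hc F.h2P]

theorem clq_T₀ (hc : Nat.card G = 7920) : IsClq F.T₀ := by
  intro Q hQ R hR hne
  rw [T₀, Finset.mem_insert] at hQ hR
  rcases hQ with rfl | hQ <;> rcases hR with rfl | hR
  · exact absurd rfl hne
  · obtain ⟨u, hu, rfl⟩ := mem_orb.1 hR
    exact adj_P_smul_Q₁ hu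
  · obtain ⟨u, hu, rfl⟩ := mem_orb.1 hQ
    exact (adj_P_smul_Q₁ hu).symm
  · obtain ⟨u, hu, rfl⟩ := mem_orb.1 hQ
    obtain ⟨v, hv, rfl⟩ := mem_orb.1 hR
    refine adj_AA hc hu hv ?_
    rintro rfl
    exact hne rfl

theorem clq_T₁ (hc : Nat.card G = 7920) : IsClq F.T₁ := by
  intro Q hQ R hR hne
  rw [T₁, Finset.mem_insert] at hQ hR
  rcases hQ with rfl | hQ <;> rcases hR with rfl | hR
  · exact absurd rfl hne
  · obtain ⟨u, hu, rfl⟩ := mem_orb.1 hR
    exact adj_P_smul_Q₂ hu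
  · obtain ⟨u, hu, rfl⟩ := mem_orb.1 hQ
    exact (adj_P_smul_Q₂ hu).symm
  · obtain ⟨u, hu, rfl⟩ := mem_orb.1 hQ
    obtain ⟨v, hv, rfl⟩ := mem_orb.1 hR
    refine adj_BB hc hu hv ?_
    rintro rfl
    exact hne rfl

/-- A clique of size 10 through `P` is one of the two blocks. -/
theorem block_through_P (hc : Nat.card G = 7920) {T : Finset (Sylow 3 G)} (hT : T.card = 10) (hcl : IsClq T)
    (hP : F.P ∈ T) : T = F.T₀ ∨ T = F.T₁ := by
  have herase : (T.erase F.P).card = 9 := by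
    rw [Finset.card_erase_of_mem hP, hT]
  have hsub : ∀ W ∈ T.erase F.P, W ∈ F.orb F.Q₁ ∨ W ∈ F.orb F.Q₂ := by
    intro W hW
    obtain ⟨h1, h2⟩ := Finset.mem_erase.1 hW
    have h3 := hcl _ hP _ h2 (Ne.symm h1)
    have h4 : W ∈ nbrs F.P := mem_nbrs.2 h3
    rwa [nbrs_P hc, Finset.mem_union] at h4
  have hinsert : insert F.P (T.erase F.P) = T := Finset.insert_erase hP
  by_cases h1 : T.erase F.P ⊆ F.orb F.Q₁
  · left
    have h2 : T.erase F.P = F.orb F.Q₁ :=
      Finset.eq_of_subset_of_card_le h1 (by rw [herase, card_orb hc F.h1P])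
    rw [← hinsert, h2, T₀]
  by_cases h2 : T.erase F.P ⊆ F.orb F.Q₂
  · right
    have h3 : T.erase F.P = F.orb F.Q₂ :=
      Finset.eq_of_subset_of_card_le h2 (by rw [herase, card_orb hc F.h2P])
    rw [← hinsert, h3, T₁]
  exfalso
  obtain ⟨y, hyT, hyA⟩ := Finset.not_subset.1 h1
  obtain ⟨x, hxT, hxB⟩ := Finset.not_subset.1 h2
  have hy2 : y ∈ F.orb F.Q₂ := (hsub y hyT).resolve_left hyA
  have hx2 : x ∈ F.orb F.Q₁ := (hsub x hxT).resolve_right hxB
  obtain ⟨v, hv, rfl⟩ := mem_orb.1 hy2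
  obtain ⟨u, hu, rfl⟩ := mem_orb.1 hx2
  have hxTT := (Finset.mem_erase.1 hxT).2
  have hyTT := (Finset.mem_erase.1 hyT).2
  have hne : ∀ (a b : G), a ∈ (F.P : Subgroup G) → b ∈ (F.P : Subgroup G) → a • F.Q₁ ≠ b • F.Q₂ := by
    intro a b ha hb h
    exact F.hne (inverter_orbit_unique hc F.hzP ha hb F.h1P hzQ₁.smul_eq hzQ₂.smul_eq h).2
  have huv : u = v := (adj_AB_iff hc hu hv).1 (hcl _ hxTT _ hyTT (hne u v hu hv))
  subst huv
  have hsubset : T.erase F.P ⊆ {u • F.Q₁, u • F.Q₂} := by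
    intro W hW
    have hWT := (Finset.mem_erase.1 hW).2
    simp only [Finset.mem_insert, Finset.mem_singleton]
    rcases hsub W hW with hA | hB
    · obtain ⟨w, hw, rfl⟩ := mem_orb.1 hA
      left
      have h3 := hcl _ hWT _ hyTT (hne w u hw hu)
      rw [(adj_AB_iff hc hw hu).1 h3]
    · obtain ⟨w, hw, rfl⟩ := mem_orb.1 hB
      right
      have h3 := hcl _ hxTT _ hWT (hne u w hu hw)
      rw [← (adj_AB_iff hc hu hw).1 h3]
  have h3 := Finset.card_le_card hsubset
  have h4 : ({u • F.Q₁, u • F.Q₂} : Finset (Sylow 3 G)).card ≤ 2 := Finset.card_le_two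
  omega

theorem inter_T (hc : Nat.card G = 7920) {Q : Sylow 3 G} (h1 : Q ∈ F.T₀) (h2 : Q ∈ F.T₁) : Q = F.P := by
  rw [T₀, Finset.mem_insert] at h1
  rw [T₁, Finset.mem_insert] at h2
  rcases h1 with h1 | h1
  · exact h1
  rcases h2 with h2 | h2
  · exact h2
  exact absurd h2 (Finset.disjoint_left.1 (disjoint_orb hc) h1)

/-- The first block. -/
noncomputable def B₀ (F : Frame G) (hc : Nat.card G = 7920) : Block G := ⟨F.T₀, card_T₀ hc, clq_T₀ hc⟩

/-- The second block. -/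
noncomputable def B₁ (F : Frame G) (hc : Nat.card G = 7920) : Block G := ⟨F.T₁, card_T₁ hc, clq_T₁ hc⟩

theorem P_mem_B₀ (hc : Nat.card G = 7920) : F.P ∈ (F.B₀ hc).1 := Finset.mem_insert_self _ _

theorem P_mem_B₁ (hc : Nat.card G = 7920) : F.P ∈ (F.B₁ hc).1 := Finset.mem_insert_self _ _

theorem Q₁_mem_B₀ (hc : Nat.card G = 7920) : F.Q₁ ∈ (F.B₀ hc).1 :=
  Finset.mem_insert_of_mem (mem_orb.2 ⟨1, Subgroup.one_mem _, (one_smul _ _).symm⟩)

theorem Q₂_mem_B₁ (hc : Nat.card G = 7920) : F.Q₂ ∈ (F.B₁ hc).1 :=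
  Finset.mem_insert_of_mem (mem_orb.2 ⟨1, Subgroup.one_mem _, (one_smul _ _).symm⟩)

theorem B₀_ne_B₁ (hc : Nat.card G = 7920) : F.B₀ hc ≠ F.B₁ hc := by
  intro h
  have h1 := Q₁_mem_B₀ (F := F) hc
  rw [h] at h1
  exact F.h1P (inter_T hc (Q₁_mem_B₀ hc) h1)

theorem block_eq (hc : Nat.card G = 7920) {T : Block G} (hP : F.P ∈ T.1) : T = F.B₀ hc ∨ T = F.B₁ hc := by
  rcases block_through_P hc T.2.1 T.2.2 hP with h | h
  · exact Or.inl (Subtype.ext h)
  · exact Or.inr (Subtype.ext h)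

theorem exists_swap_block (hc : Nat.card G = 7920) :
    ∃ r : G, r • F.B₀ hc = F.B₁ hc ∧ r • F.B₁ hc = F.B₀ hc := by
  obtain ⟨r, hrP, h12, h21, hrr, hrN⟩ := exists_swap (F := F) hc
  refine ⟨r, ?_, ?_⟩
  · have h1 : F.P ∈ (r • F.B₀ hc).1 := by
      have := Block.smul_mem_smul (g := r) (T := F.B₀ hc) (Q := F.P)
      rw [hrP] at this
      exact this.2 (P_mem_B₀ hc)
    rcases block_eq hc h1 with h2 | h2
    · exfalso
      have h3 : r • F.Q₁ ∈ (r • F.B₀ hc).1 := Block.smul_mem_smul.2 (Q₁_mem_B₀ hc)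
      rw [h12, h2] at h3
      exact F.h2P (inter_T hc h3 (Q₂_mem_B₁ hc))
    · exact h2
  · have h1 : F.P ∈ (r • F.B₁ hc).1 := by
      have := Block.smul_mem_smul (g := r) (T := F.B₁ hc) (Q := F.P)
      rw [hrP] at this
      exact this.2 (P_mem_B₁ hc)
    rcases block_eq hc h1 with h2 | h2
    · exact h2
    · exfalso
      have h3 : r • F.Q₂ ∈ (r • F.B₁ hc).1 := Block.smul_mem_smul.2 (Q₂_mem_B₁ hc)
      rw [h21, h2] at h3
      exact F.h1P (inter_T hc (Q₁_mem_B₀ hc) h3)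

/-- Every Sylow subgroup lies in exactly two blocks. -/
theorem card_blocks_through (hc : Nat.card G = 7920) (Q : Sylow 3 G) :
    (Finset.univ.filter fun T : Block G => Q ∈ T.1).card = 2 := by
  obtain ⟨F⟩ := exists_frame hc
  obtain ⟨g, rfl⟩ := MulAction.exists_smul_eq G F.P Q
  have h1 : (Finset.univ.filter fun T : Block G => g • F.P ∈ T.1) = {g • F.B₀ hc, g • F.B₁ hc} := by
    ext T
    simp only [Finset.mem_filter, Finset.mem_univ, true_and, Finset.mem_insert, Finset.mem_singleton]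
    constructor
    · intro h
      have h2 : F.P ∈ (g⁻¹ • T).1 := by
        rw [Block.mem_smul, inv_inv]; exact h
      rcases block_eq hc h2 with h3 | h3
      · left; rw [← h3, smul_inv_smul]
      · right; rw [← h3, smul_inv_smul]
    · rintro (rfl | rfl)
      · exact Block.smul_mem_smul.2 (P_mem_B₀ hc)
      · exact Block.smul_mem_smul.2 (P_mem_B₁ hc)
  rw [h1, Finset.card_pair]
  intro h
  exact B₀_ne_B₁ hc (smul_left_cancel _ h)

theorem card_block (hc : Nat.card G = 7920) : Fintype.card (Block G) = 11 := by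
  have hsum := Finset.sum_card_bipartiteAbove_eq_sum_card_bipartiteBelow
    (s := (Finset.univ : Finset (Block G))) (t := (Finset.univ : Finset (Sylow 3 G))) (fun T Q => Q ∈ T.1)
  have h1 : ∀ T ∈ (Finset.univ : Finset (Block G)),
      (Finset.bipartiteAbove (fun (T : Block G) Q => Q ∈ T.1) Finset.univ T).card = 10 := by
    intro T _
    have h10 : T.1.card = 10 := T.2.1
    refine Eq.trans ?_ h10
    congr 1
    ext Q
    simp [Finset.mem_bipartiteAbove]
  have h2 : ∀ Q ∈ (Finset.univ : Finset (Sylow 3 G)),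
      (Finset.bipartiteBelow (fun (T : Block G) Q => Q ∈ T.1) Finset.univ Q).card = 2 := by
    intro Q _
    rw [← card_blocks_through hc Q]
    rfl
  rw [Finset.sum_congr rfl h1, Finset.sum_congr rfl h2, Finset.sum_const, Finset.sum_const,
    card_univ_sylow hc, Finset.card_univ] at hsum
  simp only [smul_eq_mul] at hsum
  omega

/-- Two blocks share at most one point. -/
theorem two_common (hc : Nat.card G = 7920) {T T' : Block G} (hne : T ≠ T') {Q Q' : Sylow 3 G} (h1 : Q ∈ T.1)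
    (h1' : Q ∈ T'.1) (h2 : Q' ∈ T.1) (h2' : Q' ∈ T'.1) : Q = Q' := by
  obtain ⟨F⟩ := exists_frame hc
  obtain ⟨g, rfl⟩ := MulAction.exists_smul_eq G F.P Q
  have a1 : F.P ∈ (g⁻¹ • T).1 := by rw [Block.mem_smul, inv_inv]; exact h1
  have a1' : F.P ∈ (g⁻¹ • T').1 := by rw [Block.mem_smul, inv_inv]; exact h1'
  have a2 : g⁻¹ • Q' ∈ (g⁻¹ • T).1 := Block.smul_mem_smul.2 h2
  have a2' : g⁻¹ • Q' ∈ (g⁻¹ • T').1 := Block.smul_mem_smul.2 h2'
  have hne' : g⁻¹ • T ≠ g⁻¹ • T' := fun h => hne (smul_left_cancel _ h)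
  have key : g⁻¹ • Q' = F.P := by
    rcases block_eq hc a1 with h3 | h3 <;> rcases block_eq hc a1' with h4 | h4
    · exact absurd (h3.trans h4.symm) hne'
    · rw [h3] at a2; rw [h4] at a2'
      exact inter_T hc a2 a2'
    · rw [h3] at a2; rw [h4] at a2'
      exact inter_T hc a2' a2
    · exact absurd (h3.trans h4.symm) hne'
  rw [← key, smul_inv_smul]

/-- Two different blocks always meet. -/
theorem exists_common (hc : Nat.card G = 7920) {T T' : Block G} (hne : T ≠ T') :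
    ∃ Q, Q ∈ T.1 ∧ Q ∈ T'.1 := by
  have hsum := Finset.sum_card_bipartiteAbove_eq_sum_card_bipartiteBelow
    (s := T.1) (t := (Finset.univ : Finset (Block G)).erase T) (fun Q S => Q ∈ S.1)
  have h1 : ∀ Q ∈ T.1, (Finset.bipartiteAbove (fun Q (S : Block G) => Q ∈ S.1)
      ((Finset.univ : Finset (Block G)).erase T) Q).card = 1 := by
    intro Q hQ
    have h2 := card_blocks_through hc Q
    have h3 : Finset.bipartiteAbove (fun Q (S : Block G) => Q ∈ S.1)
        ((Finset.univ : Finset (Block G)).erase T) Q =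
        (Finset.univ.filter fun S : Block G => Q ∈ S.1).erase T := by
      ext S
      simp [Finset.mem_bipartiteAbove, Finset.mem_erase]
    rw [h3, Finset.card_erase_of_mem (by simp [hQ]), h2]
  have h2 : ∀ S ∈ (Finset.univ : Finset (Block G)).erase T,
      (Finset.bipartiteBelow (fun Q (S : Block G) => Q ∈ S.1) T.1 S).card ≤ 1 := by
    intro S hS
    rw [Finset.card_le_one]
    intro a ha b hb
    rw [Finset.mem_bipartiteBelow] at ha hb
    exact two_common hc (Finset.mem_erase.1 hS).1.symm ha.1 ha.2 hb.1 hb.2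
  rw [Finset.sum_congr rfl h1, Finset.sum_const, T.2.1] at hsum
  simp only [smul_eq_mul, mul_one] at hsum
  have h3 : ((Finset.univ : Finset (Block G)).erase T).card = 10 := by
    rw [Finset.card_erase_of_mem (Finset.mem_univ _), Finset.card_univ, card_block hc]
  have h4 := (Finset.sum_eq_sum_iff_of_le (s := (Finset.univ : Finset (Block G)).erase T)
    (f := fun S => (Finset.bipartiteBelow (fun Q (S : Block G) => Q ∈ S.1) T.1 S).card) (g := fun _ => 1)
    h2).1 (by rw [← hsum]; simp [h3])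
  have h5 := h4 T' (Finset.mem_erase.2 ⟨Ne.symm hne, Finset.mem_univ _⟩)
  obtain ⟨Q, hQ⟩ := Finset.card_pos.1 (by omega :
    0 < (Finset.bipartiteBelow (fun Q (S : Block G) => Q ∈ S.1) T.1 T').card)
  rw [Finset.mem_bipartiteBelow] at hQ
  exact ⟨Q, hQ.1, hQ.2⟩

theorem exists_smul_frame (hc : Nat.card G = 7920) {T T' : Block G} (hne : T ≠ T') :
    ∃ h : G, h • F.B₀ hc = T ∧ h • F.B₁ hc = T' := by
  obtain ⟨Q, h1, h2⟩ := exists_common hc hne
  obtain ⟨g, rfl⟩ := MulAction.exists_smul_eq G F.P Q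
  have a1 : F.P ∈ (g⁻¹ • T).1 := by rw [Block.mem_smul, inv_inv]; exact h1
  have a1' : F.P ∈ (g⁻¹ • T').1 := by rw [Block.mem_smul, inv_inv]; exact h2
  have hne' : g⁻¹ • T ≠ g⁻¹ • T' := fun h => hne (smul_left_cancel _ h)
  obtain ⟨r, h01, h10⟩ := exists_swap_block (F := F) hc
  rcases block_eq hc a1 with h3 | h3 <;> rcases block_eq hc a1' with h4 | h4
  · exact absurd (h3.trans h4.symm) hne'
  · exact ⟨g, by rw [← h3, smul_inv_smul], by rw [← h4, smul_inv_smul]⟩
  · exact ⟨g * r, by rw [mul_smul, h01, ← h3, smul_inv_smul], by rw [mul_smul, h10, ← h4, smul_inv_smul]⟩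
  · exact absurd (h3.trans h4.symm) hne'

/-- An element fixing the two blocks through `P` and two further blocks is trivial. -/
theorem free₀ (hc : Nat.card G = 7920) {g : G} {S S' : Block G} (h0 : g • F.B₀ hc = F.B₀ hc)
    (h1 : g • F.B₁ hc = F.B₁ hc) (hS : g • S = S) (hS' : g • S' = S') (hne : S ≠ S') (hS0 : S ≠ F.B₀ hc)
    (hS1 : S ≠ F.B₁ hc) (hS'0 : S' ≠ F.B₀ hc) (hS'1 : S' ≠ F.B₁ hc) : g = 1 := by
  have hgP : g • F.P = F.P := by
    have a0 : g • F.P ∈ (F.B₀ hc).1 := by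
      have := Block.smul_mem_smul (g := g) (T := F.B₀ hc) (Q := F.P)
      rw [h0] at this
      exact this.2 (P_mem_B₀ hc)
    have a1 : g • F.P ∈ (F.B₁ hc).1 := by
      have := Block.smul_mem_smul (g := g) (T := F.B₁ hc) (Q := F.P)
      rw [h1] at this
      exact this.2 (P_mem_B₁ hc)
    exact inter_T hc a0 a1
  have key : ∀ S : Block G, g • S = S → S ≠ F.B₀ hc → S ≠ F.B₁ hc →
      ∃ u ∈ (F.P : Subgroup G), u • F.Q₁ ∈ S.1 ∧ g • (u • F.Q₁) = u • F.Q₁ := by
    intro S hS hS0 hS1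
    obtain ⟨x, hx0, hxS⟩ := exists_common hc hS0.symm
    have hx1 : x ≠ F.P := by
      rintro rfl
      rcases block_eq hc hxS with h | h
      · exact hS0 h
      · exact hS1 h
    have hxA : x ∈ F.orb F.Q₁ := by
      have hx0' : x ∈ F.T₀ := hx0
      rw [T₀, Finset.mem_insert] at hx0'
      exact hx0'.resolve_left hx1
    obtain ⟨u, hu, rfl⟩ := mem_orb.1 hxA
    refine ⟨u, hu, hxS, ?_⟩
    have a0 : g • u • F.Q₁ ∈ (F.B₀ hc).1 := by
      have := Block.smul_mem_smul (g := g) (T := F.B₀ hc) (Q := u • F.Q₁)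
      rw [h0] at this
      exact this.2 hx0
    have a1 : g • u • F.Q₁ ∈ S.1 := by
      have := Block.smul_mem_smul (g := g) (T := S) (Q := u • F.Q₁)
      rw [hS] at this
      exact this.2 hxS
    exact two_common hc hS0.symm a0 a1 hx0 hxS
  obtain ⟨u₃, hu₃, hx₃, hgx₃⟩ := key S hS hS0 hS1
  obtain ⟨u₄, hu₄, hx₄, hgx₄⟩ := key S' hS' hS'0 hS'1
  have hu34 : u₃ ≠ u₄ := by
    rintro rfl
    have h3 := card_blocks_through hc (u₃ • F.Q₁)
    have hmem : ∀ X ∈ ({F.B₀ hc, S, S'} : Finset (Block G)), u₃ • F.Q₁ ∈ X.1 := by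
      intro X hX
      simp only [Finset.mem_insert, Finset.mem_singleton] at hX
      rcases hX with rfl | rfl | rfl
      · exact Finset.mem_insert_of_mem (mem_orb.2 ⟨u₃, hu₃, rfl⟩)
      · exact hx₃
      · exact hx₄
    have hsub : ({F.B₀ hc, S, S'} : Finset (Block G)) ⊆
        Finset.univ.filter fun T : Block G => u₃ • F.Q₁ ∈ T.1 := by
      intro X hX
      exact Finset.mem_filter.2 ⟨Finset.mem_univ _, hmem X hX⟩
    have h4 := Finset.card_le_card hsub
    rw [Finset.card_eq_three.2 ⟨_, _, _, hS0.symm, hS'0.symm, hne, rfl⟩, h3] at h4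
    omega
  set e := u₃⁻¹ * g * u₃ with he
  have heP : e • F.P = F.P := by
    rw [he, mul_smul, mul_smul, smul_eq_of_mem F.P hu₃, hgP, smul_eq_of_mem F.P (inv_mem hu₃)]
  have heQ : e • F.Q₁ = F.Q₁ := by
    rw [he, mul_smul, mul_smul, hgx₃, inv_smul_smul]
  have heE : e ∈ F.E := mem_E_of_stab hc heP heQ
  have heN : e ∈ normalizer ((F.P : Subgroup G) : Set G) := Sylow.smul_eq_iff_mem_normalizer.1 heP
  set p := u₃⁻¹ * u₄ with hp
  have hpP : p ∈ (F.P : Subgroup G) := mul_mem (inv_mem hu₃) hu₄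
  have hp1 : p ≠ 1 := fun h => hu34 (inv_mul_eq_one.1 h)
  have hep : e • (p • F.Q₁) = p • F.Q₁ := by
    have h5 : e * p = u₃⁻¹ * (g * u₄) := by rw [he, hp]; group
    rw [← mul_smul, h5, mul_smul, mul_smul, hgx₄, hp, mul_smul]
  have hq : (e * p * e⁻¹) • F.Q₁ = p • F.Q₁ := by
    have h6 : (e * p * e⁻¹) • F.Q₁ = (e * p * e⁻¹) • (e • F.Q₁) := by rw [heQ]
    rw [h6, ← mul_smul, show e * p * e⁻¹ * e = e * p by group, mul_smul, hep]
  have hqP : e * p * e⁻¹ ∈ (F.P : Subgroup G) := (mem_normalizer_iff.1 heN p).1 hpP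
  have h7 := (inverter_orbit_unique hc F.hzP hqP hpP F.h1P hzQ₁.smul_eq hzQ₁.smul_eq hq).1
  have h8 : e * p = p * e := by
    calc e * p = (e * p * e⁻¹) * e := by group
      _ = p * e := by rw [h7]
  have h9 := E_free hc heE hpP hp1 h8
  have h10 : g = u₃ * e * u₃⁻¹ := by rw [he]; group
  rw [h10, h9]
  group

/-- The action on the blocks is free on quadruples of different blocks. -/
theorem block_free (hc : Nat.card G = 7920) {g : G} {a b c d : Block G} (hab : a ≠ b) (hac : a ≠ c)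
    (had : a ≠ d) (hbc : b ≠ c) (hbd : b ≠ d) (hcd : c ≠ d) (ha : g • a = a) (hb : g • b = b) (hc' : g • c = c)
    (hd : g • d = d) : g = 1 := by
  obtain ⟨F⟩ := exists_frame hc
  obtain ⟨h, h0, h1⟩ := exists_smul_frame (F := F) hc hab
  set k := h⁻¹ * g * h with hk
  have hfix : ∀ X : Block G, g • X = X → k • (h⁻¹ • X) = h⁻¹ • X := by
    intro X hX
    rw [hk, ← mul_smul, show h⁻¹ * g * h * h⁻¹ = h⁻¹ * g by group, mul_smul, hX]
  have hinv : ∀ X Y : Block G, X ≠ Y → h⁻¹ • X ≠ h⁻¹ • Y := fun X Y hXY h2 => hXY (smul_left_cancel _ h2)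
  have ha' : h⁻¹ • a = F.B₀ hc := by rw [← h0, inv_smul_smul]
  have hb' : h⁻¹ • b = F.B₁ hc := by rw [← h1, inv_smul_smul]
  have hk1 : k = 1 := free₀ hc (by rw [← ha']; exact hfix a ha) (by rw [← hb']; exact hfix b hb)
    (hfix c hc') (hfix d hd) (hinv c d hcd) (by rw [← ha']; exact hinv c a hac.symm)
    (by rw [← hb']; exact hinv c b hbc.symm) (by rw [← ha']; exact hinv d a had.symm)
    (by rw [← hb']; exact hinv d b hbd.symm)
  have h2 : g = h * k * h⁻¹ := by rw [hk]; group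
  rw [h2, hk1]
  group

/-- The action on the blocks is transitive on quadruples of different blocks. -/
theorem block_trans (hc : Nat.card G = 7920) (x y : Fin 4 ↪ Block G) : ∃ g : G, g • x = y := by
  have hinj : Function.Injective fun g : G => g • x := by
    intro a b hab
    have hab' : a • x = b • x := hab
    have h1 : (b⁻¹ * a) • x = x := by rw [mul_smul, hab', inv_smul_smul]
    have hx : ∀ i, (b⁻¹ * a) • x i = x i := by
      intro i
      exact congrArg (fun f : Fin 4 ↪ Block G => f i) h1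
    have hne : ∀ i j : Fin 4, i ≠ j → x i ≠ x j := fun i j hij h => hij (x.injective h)
    have h2 := block_free hc (hne 0 1 (by decide)) (hne 0 2 (by decide)) (hne 0 3 (by decide))
      (hne 1 2 (by decide)) (hne 1 3 (by decide)) (hne 2 3 (by decide)) (hx 0) (hx 1) (hx 2) (hx 3)
    exact (inv_mul_eq_one.1 h2).symm
  have hcard : Nat.card (Fin 4 ↪ Block G) = 7920 := by
    rw [Nat.card_eq_fintype_card, Fintype.card_embedding_eq, card_block hc, Fintype.card_fin]
    decide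
  have hbij := hinj.bijective_of_nat_card_le (by rw [hc, hcard])
  exact hbij.2 y

end Frame

end Blocks

end Cfsg.Agent.Lib.Ord7920
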