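import Mathlib
import Cfsg.Prelude.Def_Sporadic_a

/-!
# A sharply 4-transitive action on 11 points preserves a Steiner system `S(4,5,11)`
-/

set_option autoImplicit false
set_option linter.unusedSectionVars false
set_option linter.unusedVariables false
set_option linter.style.haveILetI false

namespace Cfsg.Agent.Lib.Sharp4

open Finset
open scoped Pointwise

variable {Γ X : Type*} [Group Γ] [MulAction Γ X] [Fintype X] [DecidableEq X]

/-- A sharply 4-transitive action on 11 points. -/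
structure Sharp (Γ X : Type*) [Group Γ] [MulAction Γ X] [Fintype X] : Prop where
  card : Fintype.card X = 11
  trans : ∀ a b c d a' b' c' d' : X, a ≠ b → a ≠ c → a ≠ d → b ≠ c → b ≠ d → c ≠ d →
    a' ≠ b' → a' ≠ c' → a' ≠ d' → b' ≠ c' → b' ≠ d' → c' ≠ d' →
    ∃ g : Γ, g • a = a' ∧ g • b = b' ∧ g • c = c' ∧ g • d = d'
  free : ∀ (g : Γ) (a b c d : X), a ≠ b → a ≠ c → a ≠ d → b ≠ c → b ≠ d → c ≠ d →
    g • a = a → g • b = b → g • c = c → g • d = d → g = 1

theorem exists_four {s : Finset X} (h : 3 < s.card) :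
    ∃ a b c d : X, a ∈ s ∧ b ∈ s ∧ c ∈ s ∧ d ∈ s ∧ a ≠ b ∧ a ≠ c ∧ a ≠ d ∧ b ≠ c ∧ b ≠ d ∧ c ≠ d := by
  obtain ⟨a, ha⟩ := Finset.card_pos.1 (by omega : 0 < s.card)
  have h2 : 2 < (s.erase a).card := by
    rw [Finset.card_erase_of_mem ha]; omega
  obtain ⟨b, hb, c, hc, d, hd, hbc, hbd, hcd⟩ := Finset.two_lt_card.1 h2
  obtain ⟨hb1, hb2⟩ := Finset.mem_erase.1 hb
  obtain ⟨hc1, hc2⟩ := Finset.mem_erase.1 hc
  obtain ⟨hd1, hd2⟩ := Finset.mem_erase.1 hd
  exact ⟨a, b, c, d, ha, hb2, hc2, hd2, hb1.symm, hc1.symm, hd1.symm, hbc, hbd, hcd⟩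

/-- The fixed points of an element. -/
def fixF (g : Γ) : Finset X := Finset.univ.filter fun x => g • x = x

theorem mem_fixF {g : Γ} {x : X} : x ∈ fixF g ↔ g • x = x := by simp [fixF]

theorem card_fixF_le (hS : Sharp Γ X) {g : Γ} (hg : g ≠ 1) : (fixF (X := X) g).card ≤ 3 := by
  by_contra h
  push Not at h
  obtain ⟨a, b, c, d, ha, hb, hc, hd, h1, h2, h3, h4, h5, h6⟩ := exists_four h
  exact hg (hS.free g a b c d h1 h2 h3 h4 h5 h6 (mem_fixF.1 ha) (mem_fixF.1 hb) (mem_fixF.1 hc)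
    (mem_fixF.1 hd))

theorem card_fixF_modEq (hS : Sharp Γ X) {p n : ℕ} [Fact p.Prime] {g : Γ} (hg : g ^ p ^ n = 1) :
    11 ≡ (fixF (X := X) g).card [MOD p] := by
  let f : Function.End X := fun x => g • x
  have hf : f ^ p ^ n = 1 := by
    have h1 : ∀ m : ℕ, ∀ x : X, (f ^ m) x = (g ^ m) • x := by
      intro m
      induction m with
      | zero => intro x; rw [pow_zero, pow_zero, one_smul]; rfl
      | succ m ih =>
        intro x
        rw [pow_succ, pow_succ, mul_smul]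
        show (f ^ m) (f x) = _
        rw [ih]
    funext x
    rw [h1, hg, one_smul]
    rfl
  have h2 := Equiv.Perm.card_fixedPoints_modEq hf
  rw [hS.card] at h2
  have h3 : Fintype.card (Function.fixedPoints f) = (fixF (X := X) g).card := by
    rw [Fintype.card_subtype]
    rfl
  rwa [h3] at h2

theorem exists_swap (hS : Sharp Γ X) {a b c d : X} (hab : a ≠ b) (hac : a ≠ c) (had : a ≠ d) (hbc : b ≠ c)
    (hbd : b ≠ d) (hcd : c ≠ d) : ∃ g : Γ, g • a = b ∧ g • b = a ∧ g • c = c ∧ g • d = d :=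
  hS.trans a b c d b a c d hab hac had hbc hbd hcd hab.symm hbc hbd hac had hcd

theorem swap_mul_self (hS : Sharp Γ X) {a b c d : X} (hab : a ≠ b) (hac : a ≠ c) (had : a ≠ d) (hbc : b ≠ c)
    (hbd : b ≠ d) (hcd : c ≠ d) {g : Γ} (h1 : g • a = b) (h2 : g • b = a) (h3 : g • c = c) (h4 : g • d = d) :
    g * g = 1 := by
  apply hS.free (g * g) a b c d hab hac had hbc hbd hcd
  · rw [mul_smul, h1, h2]
  · rw [mul_smul, h2, h1]
  · rw [mul_smul, h3, h3]
  · rw [mul_smul, h4, h4]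

theorem swap_unique (hS : Sharp Γ X) {a b c d : X} (hab : a ≠ b) (hac : a ≠ c) (had : a ≠ d) (hbc : b ≠ c)
    (hbd : b ≠ d) (hcd : c ≠ d) {g g' : Γ} (h1 : g • a = b) (h2 : g • b = a) (h3 : g • c = c) (h4 : g • d = d)
    (h1' : g' • a = b) (h2' : g' • b = a) (h3' : g' • c = c) (h4' : g' • d = d) : g = g' := by
  have h5 : g'⁻¹ * g = 1 := by
    apply hS.free _ a b c d hab hac had hbc hbd hcd
    · rw [mul_smul, h1, inv_smul_eq_iff, h1']
    · rw [mul_smul, h2, inv_smul_eq_iff, h2']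
    · rw [mul_smul, h3, inv_smul_eq_iff, h3']
    · rw [mul_smul, h4, inv_smul_eq_iff, h4']
  exact (inv_mul_eq_one.1 h5).symm

/-- The third fixed point of a transposition. -/
theorem third_fixed (hS : Sharp Γ X) {a b c d : X} (hab : a ≠ b) (hac : a ≠ c) (had : a ≠ d) (hbc : b ≠ c)
    (hbd : b ≠ d) (hcd : c ≠ d) {g : Γ} (h1 : g • a = b) (h2 : g • b = a) (h3 : g • c = c) (h4 : g • d = d) :
    ∃ e : X, e ≠ a ∧ e ≠ b ∧ e ≠ c ∧ e ≠ d ∧ g • e = e := by
  haveI : Fact (Nat.Prime 2) := ⟨by norm_num⟩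
  have hg2 : g ^ 2 ^ 1 = 1 := by
    rw [pow_one, sq]; exact swap_mul_self hS hab hac had hbc hbd hcd h1 h2 h3 h4
  have hmod := card_fixF_modEq hS (p := 2) (n := 1) hg2
  have hcm : c ∈ fixF (X := X) g := mem_fixF.2 h3
  have hdm : d ∈ (fixF (X := X) g).erase c := Finset.mem_erase.2 ⟨hcd.symm, mem_fixF.2 h4⟩
  have hc2 : 2 ≤ (fixF (X := X) g).card := by
    have := Finset.card_erase_of_mem hcm
    have h5 : 0 < ((fixF (X := X) g).erase c).card := Finset.card_pos.2 ⟨d, hdm⟩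
    omega
  have hodd : (fixF (X := X) g).card % 2 = 1 := by
    have := hmod
    unfold Nat.ModEq at this
    omega
  have hpos : 0 < (((fixF (X := X) g).erase c).erase d).card := by
    rw [Finset.card_erase_of_mem hdm, Finset.card_erase_of_mem hcm]
    omega
  obtain ⟨e, he⟩ := Finset.card_pos.1 hpos
  obtain ⟨he1, he2⟩ := Finset.mem_erase.1 he
  obtain ⟨he3, he4⟩ := Finset.mem_erase.1 he2
  have he5 := mem_fixF.1 he4
  refine ⟨e, ?_, ?_, he3, he1, he5⟩
  · rintro rfl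
    rw [h1] at he5
    exact hab he5.symm
  · rintro rfl
    rw [h2] at he5
    exact hab he5

/-- The fixed points of an element of order 3. -/
theorem order_three_fixed (hS : Sharp Γ X) {x : Γ} (hx3 : x ^ 3 ^ 1 = 1) (hx1 : x ≠ 1) {d : X} (hd : x • d = d) :
    ∃ w : X, w ≠ d ∧ x • w = w ∧ ∀ y : X, x • y = y → y = d ∨ y = w := by
  haveI : Fact (Nat.Prime 3) := ⟨by norm_num⟩
  have hmod := card_fixF_modEq hS (p := 3) (n := 1) hx3
  have hle := card_fixF_le hS hx1 (X := X)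
  have hdm : d ∈ fixF (X := X) x := mem_fixF.2 hd
  have hc : (fixF (X := X) x).card = 2 := by
    have hpos : 0 < (fixF (X := X) x).card := Finset.card_pos.2 ⟨d, hdm⟩
    unfold Nat.ModEq at hmod
    omega
  have h1 : ((fixF (X := X) x).erase d).card = 1 := by
    rw [Finset.card_erase_of_mem hdm, hc]
  obtain ⟨w, hw⟩ := Finset.card_eq_one.1 h1
  have hwm : w ∈ (fixF (X := X) x).erase d := by rw [hw]; simp
  obtain ⟨hw1, hw2⟩ := Finset.mem_erase.1 hwm
  refine ⟨w, hw1, mem_fixF.1 hw2, ?_⟩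
  intro y hy
  by_cases hyd : y = d
  · exact Or.inl hyd
  · right
    have h3 : y ∈ (fixF (X := X) x).erase d := Finset.mem_erase.2 ⟨hyd, mem_fixF.2 hy⟩
    rw [hw] at h3
    exact Finset.mem_singleton.1 h3

/-- The key step: transpositions of a block move along the block. -/
theorem move (hS : Sharp Γ X) {a b c d e : X} (hab : a ≠ b) (hac : a ≠ c) (had : a ≠ d) (hae : a ≠ e)
    (hbc : b ≠ c) (hbd : b ≠ d) (hbe : b ≠ e) (hcd : c ≠ d) (hce : c ≠ e) (hde : d ≠ e) {g : Γ}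
    (g1 : g • a = b) (g2 : g • b = a) (g3 : g • c = c) (g4 : g • d = d) (g5 : g • e = e) :
    ∃ h : Γ, h • a = c ∧ h • c = a ∧ h • b = b ∧ h • d = d ∧ h • e = e := by
  obtain ⟨h, h1, h2, h3, h4⟩ := exists_swap (Γ := Γ) hS hac hab had hbc.symm hcd hbd
  refine ⟨h, h1, h2, h3, h4, ?_⟩
  have hgg := swap_mul_self hS hab hac had hbc hbd hcd g1 g2 g3 g4
  have hhh := swap_mul_self hS hac hab had hbc.symm hcd hbd h1 h2 h3 h4
  set x := g * h with hx
  have xb : x • b = a := by rw [hx, mul_smul, h3, g2]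
  have xa : x • a = c := by rw [hx, mul_smul, h1, g3]
  have xc : x • c = b := by rw [hx, mul_smul, h2, g1]
  have xd : x • d = d := by rw [hx, mul_smul, h4, g4]
  have hx3 : x ^ 3 ^ 1 = 1 := by
    have h5 : x ^ 3 ^ 1 = x * x * x := by
      rw [pow_one, pow_succ, pow_two]
    rw [h5]
    apply hS.free _ a b c d hab hac had hbc hbd hcd
    · rw [mul_smul, mul_smul, xa, xc, xb]
    · rw [mul_smul, mul_smul, xb, xa, xc]
    · rw [mul_smul, mul_smul, xc, xb, xa]
    · rw [mul_smul, mul_smul, xd, xd, xd]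
  have hx1 : x ≠ 1 := by
    intro h5
    rw [h5, one_smul] at xa
    exact hac xa
  obtain ⟨w, hwd, hxw, hwu⟩ := order_three_fixed hS hx3 hx1 xd
  have hginv : g⁻¹ = g := by rw [inv_eq_iff_mul_eq_one]; exact hgg
  have hhinv : h⁻¹ = h := by rw [inv_eq_iff_mul_eq_one]; exact hhh
  have hxinv : x * (h * g) = 1 := by
    rw [hx, mul_assoc, ← mul_assoc h, hhh, one_mul, hgg]
  have h7 : x⁻¹ = h * g := inv_eq_of_mul_eq_one_right hxinv
  -- `g` and `h` invert `x`
  have hgx : x⁻¹ * g = g * x := by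
    rw [h7, hx, mul_assoc, hgg, mul_one, ← mul_assoc, hgg, one_mul]
  have hhx : x⁻¹ * h = h * x := by
    rw [h7, hx]
    group
  have hgw : g • w = w := by
    have h8 : x⁻¹ • (g • w) = g • w := by rw [← mul_smul, hgx, mul_smul, hxw]
    have h9 : x • (g • w) = g • w := (inv_smul_eq_iff.1 h8).symm
    rcases hwu _ h9 with h10 | h10
    · exfalso
      apply hwd
      have h11 : g • (g • w) = g • d := by rw [h10]
      rw [← mul_smul, hgg, one_smul, g4] at h11
      exact h11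
    · exact h10
  have hhw : h • w = w := by
    have h8 : x⁻¹ • (h • w) = h • w := by rw [← mul_smul, hhx, mul_smul, hxw]
    have h9 : x • (h • w) = h • w := (inv_smul_eq_iff.1 h8).symm
    rcases hwu _ h9 with h10 | h10
    · exfalso
      apply hwd
      have h11 : h • (h • w) = h • d := by rw [h10]
      rw [← mul_smul, hhh, one_smul, h4] at h11
      exact h11
    · exact h10
  have hwe : w = e := by
    by_contra hwe
    have hwc : w ≠ c := by
      rintro rfl
      rw [xc] at hxw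
      exact hbc hxw
    have h10 : g = 1 := hS.free g c d e w hcd hce hwc.symm hde hwd.symm (Ne.symm hwe) g3 g4 g5 hgw
    rw [h10, one_smul] at g1
    exact hab g1
  rw [← hwe]
  exact hhw

/-- A transposition of the points `a`, `b` of `s` fixing the other points of `s`. -/
def SwS (Γ : Type*) {X : Type*} [Group Γ] [MulAction Γ X] (s : Finset X) (a b : X) : Prop :=
  ∃ g : Γ, g • a = b ∧ g • b = a ∧ ∀ y ∈ s, y ≠ a → y ≠ b → g • y = y

theorem SwS.symm {s : Finset X} {a b : X} (h : SwS Γ s a b) : SwS Γ s b a := by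
  obtain ⟨g, h1, h2, h3⟩ := h
  exact ⟨g, h2, h1, fun y hy hya hyb => h3 y hy hyb hya⟩

theorem move_S (hS : Sharp Γ X) {s : Finset X} (hs : s.card = 5) {a b c : X} (ha : a ∈ s) (hb : b ∈ s)
    (hc : c ∈ s) (hab : a ≠ b) (hac : a ≠ c) (hbc : b ≠ c) (h : SwS Γ s a b) : SwS Γ s a c := by
  obtain ⟨g, g1, g2, g3⟩ := h
  have hb' : b ∈ s.erase a := Finset.mem_erase.2 ⟨hab.symm, hb⟩
  have hc' : c ∈ (s.erase a).erase b := Finset.mem_erase.2 ⟨hbc.symm, Finset.mem_erase.2 ⟨hac.symm, hc⟩⟩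
  have hcard : (((s.erase a).erase b).erase c).card = 2 := by
    rw [Finset.card_erase_of_mem hc', Finset.card_erase_of_mem hb', Finset.card_erase_of_mem ha, hs]
  obtain ⟨d, e, hde, hq⟩ := Finset.card_eq_two.1 hcard
  have hmem : ∀ y, y ∈ ({d, e} : Finset X) ↔ y ≠ c ∧ y ≠ b ∧ y ≠ a ∧ y ∈ s := by
    intro y
    rw [← hq, Finset.mem_erase, Finset.mem_erase, Finset.mem_erase]
  obtain ⟨d1, d2, d3, d4⟩ := (hmem d).1 (by simp)
  obtain ⟨e1, e2, e3, e4⟩ := (hmem e).1 (by simp)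
  obtain ⟨k, k1, k2, k3, k4, k5⟩ := move (Γ := Γ) hS hab hac d3.symm e3.symm hbc d2.symm e2.symm d1.symm e1.symm hde
    g1 g2 (g3 c hc hac.symm hbc.symm) (g3 d d4 d3 d2) (g3 e e4 e3 e2)
  refine ⟨k, k1, k2, ?_⟩
  intro y hy hya hyc
  by_cases hyb : y = b
  · rw [hyb]; exact k3
  · have h1 : y ∈ ({d, e} : Finset X) := (hmem y).2 ⟨hyc, hyb, hya, hy⟩
    simp only [Finset.mem_insert, Finset.mem_singleton] at h1
    rcases h1 with rfl | rfl
    · exact k4
    · exact k5

theorem sw_all (hS : Sharp Γ X) {s : Finset X} (hs : s.card = 5) {a₀ b₀ : X} (ha₀ : a₀ ∈ s) (hb₀ : b₀ ∈ s)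
    (hne : a₀ ≠ b₀) (h : SwS Γ s a₀ b₀) : ∀ a ∈ s, ∀ b ∈ s, a ≠ b → SwS Γ s a b := by
  have h0 : ∀ k ∈ s, k ≠ a₀ → SwS Γ s a₀ k := by
    intro k hk hka
    by_cases hkb : k = b₀
    · rw [hkb]; exact h
    · exact move_S hS hs ha₀ hb₀ hk hne (Ne.symm hka) (Ne.symm hkb) h
  intro a ha b hb hab
  by_cases haa : a = a₀
  · subst haa
    exact h0 b hb (Ne.symm hab)
  · have h1 := (h0 a ha haa).symm
    by_cases hba : b = a₀
    · rw [hba]; exact h1
    · exact move_S hS hs ha ha₀ hb haa hab (Ne.symm hba) h1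

variable (Γ X) in
/-- The blocks: 5-sets on which all transpositions are induced. -/
def blocks : Set (Finset X) := {s | s.card = 5 ∧ ∀ a ∈ s, ∀ b ∈ s, a ≠ b → SwS Γ s a b}

theorem exists_four_eq {S : Finset X} (h : S.card = 4) :
    ∃ a b c d : X, a ≠ b ∧ a ≠ c ∧ a ≠ d ∧ b ≠ c ∧ b ≠ d ∧ c ≠ d ∧ S = {a, b, c, d} := by
  obtain ⟨a, t, hat, rfl, ht⟩ := Finset.card_eq_succ.1 h
  obtain ⟨b, c, d, hbc, hbd, hcd, rfl⟩ := Finset.card_eq_three.1 ht
  simp only [Finset.mem_insert, Finset.mem_singleton, not_or] at hat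
  exact ⟨a, b, c, d, hat.1, hat.2.1, hat.2.2, hbc, hbd, hcd, rfl⟩

theorem isSteiner (hS : Sharp Γ X) : Cfsg.IsSteinerSystem 4 5 (blocks Γ X) := by
  refine ⟨fun b hb => hb.1, ?_⟩
  intro S hS4
  obtain ⟨a, b, c, d, hab, hac, had, hbc, hbd, hcd, rfl⟩ := exists_four_eq hS4
  obtain ⟨g, g1, g2, g3, g4⟩ := exists_swap (Γ := Γ) hS hab hac had hbc hbd hcd
  obtain ⟨e, ea, eb, ec, ed, g5⟩ := third_fixed hS hab hac had hbc hbd hcd g1 g2 g3 g4
  have hg1 : g ≠ 1 := by
    intro h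
    rw [h, one_smul] at g1
    exact hab g1
  have heS : e ∉ ({a, b, c, d} : Finset X) := by
    simp only [Finset.mem_insert, Finset.mem_singleton, not_or]
    exact ⟨ea, eb, ec, ed⟩
  set s : Finset X := insert e {a, b, c, d} with hs
  have hscard : s.card = 5 := by
    rw [hs, Finset.card_insert_of_notMem heS, hS4]
  have hsw : SwS Γ s a b := by
    refine ⟨g, g1, g2, ?_⟩
    intro y hy hya hyb
    rw [hs] at hy
    simp only [Finset.mem_insert, Finset.mem_singleton] at hy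
    rcases hy with rfl | rfl | rfl | rfl | rfl
    · exact g5
    · exact absurd rfl hya
    · exact absurd rfl hyb
    · exact g3
    · exact g4
  have has : a ∈ s := by simp [hs]
  have hbs : b ∈ s := by simp [hs]
  refine ⟨s, ⟨⟨hscard, sw_all hS hscard has hbs hab hsw⟩, Finset.subset_insert _ _⟩, ?_⟩
  rintro s' ⟨⟨hs'c, hs'⟩, hsub⟩
  have hdiff : (s' \ {a, b, c, d}).card = 1 := by
    rw [Finset.card_sdiff_of_subset hsub, hs'c, hS4]
  obtain ⟨e', he'⟩ := Finset.card_eq_one.1 hdiff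
  have he'm : e' ∈ s' \ {a, b, c, d} := by rw [he']; simp
  obtain ⟨he's, he'S⟩ := Finset.mem_sdiff.1 he'm
  simp only [Finset.mem_insert, Finset.mem_singleton, not_or] at he'S
  obtain ⟨k, k1, k2, k3⟩ := hs' a (hsub (by simp)) b (hsub (by simp)) hab
  have k4 := k3 c (hsub (by simp)) hac.symm hbc.symm
  have k5 := k3 d (hsub (by simp)) had.symm hbd.symm
  have k6 := k3 e' he's he'S.1 he'S.2.1
  have hkg : k = g := swap_unique hS hab hac had hbc hbd hcd k1 k2 k4 k5 g1 g2 g3 g4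
  subst hkg
  have hee : e' = e := by
    by_contra hne
    exact hg1 (hS.free k c d e e' hcd (Ne.symm ec) (Ne.symm he'S.2.2.1) (Ne.symm ed) (Ne.symm he'S.2.2.2)
      (Ne.symm hne) g3 g4 g5 k6)
  rw [hee] at he's
  have hsub2 : s ⊆ s' := by
    rw [hs]
    exact Finset.insert_subset he's hsub
  exact (Finset.eq_of_subset_of_card_le hsub2 (by rw [hs'c, hscard])).symm

theorem image_mem_blocks {s : Finset X} (hs : s ∈ blocks Γ X) (k : Γ) :
    s.image (fun x => k • x) ∈ blocks Γ X := by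
  obtain ⟨h1, h2⟩ := hs
  have hinj : Function.Injective fun x : X => k • x := MulAction.injective k
  refine ⟨by rw [Finset.card_image_of_injective _ hinj, h1], ?_⟩
  intro a ha b hb hab
  obtain ⟨a', ha', rfl⟩ := Finset.mem_image.1 ha
  obtain ⟨b', hb', rfl⟩ := Finset.mem_image.1 hb
  have hab' : a' ≠ b' := fun h => hab (by rw [h])
  obtain ⟨g, g1, g2, g3⟩ := h2 a' ha' b' hb' hab'
  refine ⟨k * g * k⁻¹, ?_, ?_, ?_⟩
  · rw [mul_smul, mul_smul, inv_smul_smul, g1]
  · rw [mul_smul, mul_smul, inv_smul_smul, g2]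
  · intro y hy hya hyb
    obtain ⟨y', hy', rfl⟩ := Finset.mem_image.1 hy
    rw [mul_smul, mul_smul, inv_smul_smul, g3 y' hy' (fun h => hya (by rw [h])) (fun h => hyb (by rw [h]))]

theorem toPerm_mem_aut (k : Γ) : MulAction.toPerm (α := Γ) (β := X) k ∈ Cfsg.setSystemAut (blocks Γ X) := by
  rw [Cfsg.setSystemAut, MulAction.mem_stabilizer_iff]
  have h1 : (MulAction.toPerm (α := Γ) (β := X) k) • blocks Γ X =
      (fun b : Finset X => b.image (fun x => k • x)) '' blocks Γ X := rfl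
  rw [h1]
  ext s
  constructor
  · rintro ⟨b, hb, rfl⟩
    exact image_mem_blocks hb k
  · intro hs
    refine ⟨s.image (fun x => k⁻¹ • x), image_mem_blocks hs k⁻¹, ?_⟩
    show (s.image (fun x => k⁻¹ • x)).image (fun x => k • x) = s
    rw [Finset.image_image]
    convert Finset.image_id (s := s) using 2
    funext x
    simp

/-- The homomorphism to the automorphism group of the Steiner system. -/
def toAut : Γ →* Cfsg.setSystemAut (blocks Γ X) where
  toFun k := ⟨MulAction.toPerm k, toPerm_mem_aut k⟩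
  map_one' := by
    apply Subtype.ext
    ext x
    simp
  map_mul' a b := by
    apply Subtype.ext
    ext x
    simp [mul_smul]

theorem toAut_injective (hS : Sharp Γ X) : Function.Injective (toAut (Γ := Γ) (X := X)) := by
  rw [injective_iff_map_eq_one]
  intro g hg
  have h1 : ∀ x : X, g • x = x := by
    intro x
    have h2 := congrArg (fun p : Cfsg.setSystemAut (blocks Γ X) => (p : Equiv.Perm X) x) hg
    exact h2
  have hcard : 3 < (Finset.univ : Finset X).card := by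
    rw [Finset.card_univ, hS.card]; norm_num
  obtain ⟨a, b, c, d, -, -, -, -, h2, h3, h4, h5, h6, h7⟩ := exists_four hcard
  exact hS.free g a b c d h2 h3 h4 h5 h6 h7 (h1 a) (h1 b) (h1 c) (h1 d)

end Cfsg.Agent.Lib.Sharp4
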