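import Mathlib
import Cfsg.Agent.Lib.SteinerSearch

set_option autoImplicit false
set_option maxRecDepth 1000000

/-!
# Uniqueness of the Steiner system S(4,5,11): the search table
-/

namespace Cfsg.Agent.Lib.SteinerF4511
open Cfsg Cfsg.Agent.Lib.SteinerSearch

def Lstd : List ℕ := [31,117,122,174,185,205,214,227,301,307,331,
  348,358,391,410,436,465,488,555,566,583,601,620,
  659,668,677,714,752,782,789,824,850,865,905,930,
  964,1063,1084,1102,1107,1129,1163,1173,1202,1240,1252,1302,
  1305,1322,1349,1392,1420,1441,1474,1549,1562,1585,1620,1634,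
  1670,1704,1729,1795,1828,1864,1936]

def entriesRest : List Entry := [
  ⟨[1039,535,295,199,283,587,171,1171,115,1347,899,1571,157,1077,569,109,341,1113,677,433,457,721,1249,781,1321,865,1413,1605,1673,1809,94,558,182,1082,316,1126,362,628,248,398,666,1196,1226,716,466,1236,738,484,1302,818,838,1356,856,1392,916,1432,1442,936,1564,1618,1640,1670,1712,1802,1828,1984], [], 0, [(0,0x25073148a18820)]⟩,
  ⟨[1039,535,295,199,283,587,171,1171,115,1347,899,1571,157,1077,569,109,341,1113,677,433,457,721,1249,781,1321,865,1413,1605,1673,1809,94], [46,54,58,60,102,106,116,120,142,154,172,202,204,210,212,226,228,278,306,326,332,344,368,404,408,418,424,540,594,616,646,688,778,804], 960, [(0,0x2928398a418820)]⟩,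
  ⟨[1039,535,295,199,283,587,171,1171,115,1347,899,1571,157,1077,569,109,341,1113,677,433,457,721,1249,781,1321,865,1413,1605,1673,1809,62], [78,86,90,92,102,106,116,120,142,150,166,172,178,184,204,226,232,284,298,306,308,338,356,394,408,452,464,538,556,624,660,706,774,840], 928, [(1,0x28c52250718820)]⟩,
  ⟨[1039,535,295,199,283,587,171,1171,115,1347,899,1571,157,1077,569,109,341,1113], [165,177,201,209,225,269,297,353,389,581,649,785], 30, [(1,0x2928398a418820),(0,0x2928398a418820)]⟩,
  ⟨[1039,535,295,199,283,587,171,1171,115,1347,899,1571,157], [53,57,45,85], 89, [(0,0x2928398a418820)]⟩,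
  ⟨[1039,535,295,199,283,587,171,1171,115,1347,899,1571,93], [45,57,53,101], 105, [(1,0x2907490c518820)]⟩,
  ⟨[1039,535,295,199,283,587], [43,147,51,323,387,547], 29, [(1,0x2928398a418820),(0,0x2928398a418820),(0,0x2907490c518820)]⟩,
  ⟨[1039,535,295,199,283], [], 75, [(0,0x2928398a418820),(0,0x2906490e518820)]⟩,
  ⟨[1039,535,295], [71], 27, [(0,0x2928398a418820),(0,0x2927414c418820),(0,0x2926414e418820),(0,0x29253990418820)]⟩,
  ⟨[1039,535], [], 39, [(0,0x2928398a418820),(0,0x2927418a418820),(0,0x292641ca418820)]⟩,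
  ⟨[1039], [], 23, [(0,0x2928398a418820),(0,0x2909398a418820),(0,0x28e9418a418820),(0,0x28c941ca418820),(0,0x28a941cc418820)]⟩
]

def rootE : Entry :=
  ⟨[], [], 15, [(0,0x2928398a418820),(0,0x2548398a418820),(0,0x2149398a418820),(0,0x1d49418a418820),(0,0x194941ca418820),(0,0x154941cc418820),(0,0x114941cc518820)]⟩

def entries : List Entry := entriesRest ++ [rootE]

theorem chk : tableOK 11 4 5 4 [Lstd] entries = true := by decide +kernel

theorem std_ok : stdOK 11 Lstd = true := by decide +kernel

theorem good : Good 11 4 5 4 (stdSet 11 Lstd) [] :=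
  main_search (e := rootE) (by norm_num) (by norm_num) std_ok (by decide +kernel) (by decide +kernel) chk
    (List.mem_append_right _ (List.mem_singleton.2 rfl)) rfl

end Cfsg.Agent.Lib.SteinerF4511
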