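import Mathlib

set_option autoImplicit false
set_option linter.unusedSectionVars false
set_option linter.unusedSimpArgs false
set_option linter.unusedVariables false

/-!
# Sharply multiply transitive groups

`SharpOn k G Ω`: a group `G` of permutations of `α` fixing everything outside the finite set `Ω` and
acting sharply `k`-transitively on `Ω`.

`Sharp2`: sharply 2-transitive on a finite set `D`: for `|D|` odd the involutions and the subgroup of
fixed-point-free elements.
-/

namespace Cfsg.Agent.Lib.SharpTrans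
open Equiv Finset

variable {α : Type*} [Fintype α] [DecidableEq α]

/-- Sharply 2-transitive on `D`, fixing everything outside `D`. -/
structure Sharp2 (H : Subgroup (Perm α)) (D : Finset α) : Prop where
  out : ∀ h ∈ H, ∀ x, x ∉ D → h x = x
  tr : ∀ x ∈ D, ∀ y ∈ D, ∀ x' ∈ D, ∀ y' ∈ D, x ≠ y → x' ≠ y' → ∃ h ∈ H, h x = x' ∧ h y = y'
  sh : ∀ h ∈ H, ∀ x ∈ D, ∀ y ∈ D, x ≠ y → h x = x → h y = y → h = 1

/-- Involutions of `H`. -/
def IsInvol (H : Subgroup (Perm α)) (t : Perm α) : Prop := t ∈ H ∧ t * t = 1 ∧ t ≠ 1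

namespace Sharp2

variable {H : Subgroup (Perm α)} {D : Finset α} (hS : Sharp2 H D)
include hS

theorem map_mem {h : Perm α} (hh : h ∈ H) {x : α} (hx : x ∈ D) : h x ∈ D := by
  by_contra hc
  have := hS.out h hh (h x) hc
  have h2 := h.injective this
  rw [h2] at hc
  exact hc hx

theorem map_mem_iff {h : Perm α} (hh : h ∈ H) (x : α) : h x ∈ D ↔ x ∈ D := by
  constructor
  · intro hx
    by_contra hc
    rw [hS.out h hh x hc] at hx
    exact hc hx
  · exact hS.map_mem hh

theorem eq_of_agree {h k : Perm α} (hh : h ∈ H) (hk : k ∈ H) {x y : α} (hx : x ∈ D) (hy : y ∈ D)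
    (hxy : x ≠ y) (h1 : h x = k x) (h2 : h y = k y) : h = k := by
  have := hS.sh (k⁻¹ * h) (H.mul_mem (H.inv_mem hk) hh) x hx y hy hxy
    (by simp [Perm.mul_apply, h1]) (by simp [Perm.mul_apply, h2])
  exact (inv_mul_eq_one.1 this).symm

theorem exists_swap {x y : α} (hx : x ∈ D) (hy : y ∈ D) (hxy : x ≠ y) :
    ∃ τ ∈ H, τ x = y ∧ τ y = x :=
  hS.tr x hx y hy y hy x hx hxy hxy.symm

theorem swap_isInvol {τ : Perm α} (hτ : τ ∈ H) {x y : α} (hx : x ∈ D) (hy : y ∈ D) (hxy : x ≠ y)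
    (h1 : τ x = y) (h2 : τ y = x) : IsInvol H τ := by
  refine ⟨hτ, ?_, ?_⟩
  · exact hS.sh _ (H.mul_mem hτ hτ) x hx y hy hxy (by simp [Perm.mul_apply, h1, h2])
      (by simp [Perm.mul_apply, h1, h2])
  · rintro rfl
    exact hxy (by simpa using h1)

theorem swap_unique {τ τ' : Perm α} (hτ : τ ∈ H) (hτ' : τ' ∈ H) {x y : α} (hx : x ∈ D) (hy : y ∈ D)
    (hxy : x ≠ y) (h1 : τ x = y) (h2 : τ y = x) (h1' : τ' x = y) (h2' : τ' y = x) : τ = τ' :=
  hS.eq_of_agree hτ hτ' hx hy hxy (h1.trans h1'.symm) (h2.trans h2'.symm)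

theorem fix_unique {t : Perm α} (ht : t ∈ H) (ht1 : t ≠ 1) {x y : α} (hx : x ∈ D) (hy : y ∈ D)
    (h1 : t x = x) (h2 : t y = y) : x = y := by
  by_contra hxy
  exact ht1 (hS.sh t ht x hx y hy hxy h1 h2)

omit hS in
theorem IsInvol.apply_apply {t : Perm α} {H : Subgroup (Perm α)} (ht : IsInvol H t) (x : α) :
    t (t x) = x := by
  have := congrArg (fun f : Perm α => f x) ht.2.1
  simpa [Perm.mul_apply] using this

omit hS in
theorem IsInvol.inv_eq {t : Perm α} {H : Subgroup (Perm α)} (ht : IsInvol H t) : t⁻¹ = t :=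
  inv_eq_of_mul_eq_one_left ht.2.1

theorem exists_fix {t : Perm α} (ht : IsInvol H t) (hodd : Odd D.card) : ∃ x ∈ D, t x = x := by
  by_contra hc
  push Not at hc
  have h0 : ∑ x ∈ D, (1 : ZMod 2) = 0 := by
    apply Finset.sum_involution (fun a _ => t a)
    · intro a ha; decide
    · intro a ha _; exact hc a ha
    · intro a ha; exact hS.map_mem ht.1 ha
    · intro a ha; exact IsInvol.apply_apply ht a
  simp only [sum_const, nsmul_eq_mul, mul_one] at h0
  rw [ZMod.natCast_eq_zero_iff] at h0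
  obtain ⟨k, hk⟩ := hodd
  omega

theorem exists_other {x : α} (hD : 2 ≤ D.card) (hx : x ∈ D) : ∃ y ∈ D, y ≠ x := by
  have : 1 < D.card := hD
  obtain ⟨y, hy, hne⟩ := Finset.exists_mem_ne this x
  exact ⟨y, hy, hne⟩

theorem exists_trans (hD : 2 ≤ D.card) {x y : α} (hx : x ∈ D) (hy : y ∈ D) : ∃ h ∈ H, h x = y := by
  obtain ⟨w, hw, hne⟩ := hS.exists_other hD hx
  obtain ⟨w', hw', hne'⟩ := hS.exists_other hD hy
  obtain ⟨h, hh, h1, _⟩ := hS.tr x hx w hw y hy w' hw' hne.symm hne'.symm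
  exact ⟨h, hh, h1⟩

omit hS in
theorem conj_isInvol {t g : Perm α} {H : Subgroup (Perm α)} (ht : IsInvol H t) (hg : g ∈ H) :
    IsInvol H (g * t * g⁻¹) := by
  refine ⟨H.mul_mem (H.mul_mem hg ht.1) (H.inv_mem hg), ?_, ?_⟩
  · have : g * t * g⁻¹ * (g * t * g⁻¹) = g * (t * t) * g⁻¹ := by group
    rw [this, ht.2.1]; group
  · intro h
    apply ht.2.2
    have : t = g⁻¹ * (g * t * g⁻¹) * g := by group
    rw [this, h]; group

theorem exists_invol_at (hD : 2 ≤ D.card) (hodd : Odd D.card) {x : α} (hx : x ∈ D) :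
    ∃ t, IsInvol H t ∧ t x = x := by
  obtain ⟨y, hy, hne⟩ := hS.exists_other hD hx
  obtain ⟨τ, hτ, h1, h2⟩ := hS.exists_swap hx hy hne.symm
  have hτ' := hS.swap_isInvol hτ hx hy hne.symm h1 h2
  obtain ⟨m, hm, hfix⟩ := hS.exists_fix hτ' hodd
  obtain ⟨g, hg, hgm⟩ := hS.exists_trans hD hm hx
  refine ⟨g * τ * g⁻¹, conj_isInvol hτ' hg, ?_⟩
  have : g⁻¹ x = m := by rw [← hgm]; simp
  simp [Perm.mul_apply, this, hfix, hgm]

/-- Uniqueness of the involution at a point. -/
theorem invol_unique (hD : 3 ≤ D.card) (hodd : Odd D.card) {t t' : Perm α} (ht : IsInvol H t)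
    (ht' : IsInvol H t') {z : α} (hz : z ∈ D) (h1 : t z = z) (h2 : t' z = z) : t = t' := by
  by_contra hne
  have hD2 : 2 ≤ D.card := by omega
  have hex : ∀ m : α, ∃ g, g ∈ H ∧ (m ∈ D → g z = m) := by
    intro m
    by_cases hm : m ∈ D
    · obtain ⟨g, hg, hgz⟩ := hS.exists_trans hD2 hz hm
      exact ⟨g, hg, fun _ => hgz⟩
    · exact ⟨1, H.one_mem, fun h => absurd h hm⟩
  choose g hg hgz using hex
  let I : α → Bool → Perm α := fun m b => g m * (cond b t t') * (g m)⁻¹
  have hI : ∀ m b, IsInvol H (I m b) := by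
    intro m b
    cases b
    · exact conj_isInvol ht' (hg m)
    · exact conj_isInvol ht (hg m)
  have hIfix : ∀ m b, m ∈ D → I m b m = m := by
    intro m b hm
    have h3 : (g m)⁻¹ m = z := by
      rw [Perm.inv_eq_iff_eq]
      exact (hgz m hm).symm
    cases b
    · simp only [I, Perm.mul_apply, h3, cond_false, h2, hgz m hm]
    · simp only [I, Perm.mul_apply, h3, cond_true, h1, hgz m hm]
  -- the map
  let Φ : α × Bool → α := fun p => I p.1 p.2 z
  have hmaps : ∀ p ∈ (D.erase z) ×ˢ (univ : Finset Bool), Φ p ∈ D.erase z := by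
    rintro ⟨m, b⟩ hp
    simp only [mem_product, mem_erase, mem_univ, and_true] at hp
    refine mem_erase.2 ⟨?_, hS.map_mem (hI m b).1 hz⟩
    intro h
    exact hp.1 (hS.fix_unique (hI m b).1 (hI m b).2.2 hp.2 hz (hIfix m b hp.2) h)
  have hinj : Set.InjOn Φ (↑((D.erase z) ×ˢ (univ : Finset Bool)) : Set (α × Bool)) := by
    rintro ⟨m, b⟩ hp ⟨m', b'⟩ hp' heq
    simp only [coe_product, Set.mem_prod, mem_coe, mem_erase, mem_univ, and_true] at hp hp'
    have hy : Φ (m, b) ∈ D := hS.map_mem (hI m b).1 hz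
    have hyz : Φ (m, b) ≠ z := (mem_erase.1 (hmaps (m, b) (by simp [hp]))).1
    have h3 : I m b = I m' b' := by
      apply hS.swap_unique (hI m b).1 (hI m' b').1 hz hy hyz.symm rfl
      · exact IsInvol.apply_apply (hI m b) z
      · exact heq.symm
      · change I m' b' (I m b z) = z
        have : I m b z = I m' b' z := heq
        rw [this]
        exact IsInvol.apply_apply (hI m' b') z
    have hmm : m = m' := by
      apply hS.fix_unique (hI m b).1 (hI m b).2.2 hp.2 hp'.2 (hIfix m b hp.2)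
      rw [h3]
      exact hIfix m' b' hp'.2
    subst hmm
    have h4 : cond b t t' = cond b' t t' := by
      have : g m * (cond b t t') * (g m)⁻¹ = g m * (cond b' t t') * (g m)⁻¹ := h3
      simpa using this
    have hbb : b = b' := by
      cases b <;> cases b' <;> first | rfl | (exfalso; simp only [cond_true, cond_false] at h4; first | exact hne h4 | exact hne h4.symm)
    rw [hbb]
  have hcard := Finset.card_le_card_of_injOn Φ hmaps hinj
  rw [card_product, card_erase_of_mem hz] at hcard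
  simp only [card_univ, Fintype.card_bool] at hcard
  omega

theorem prod_fpf (hD : 3 ≤ D.card) (hodd : Odd D.card) {t t' : Perm α} (ht : IsInvol H t)
    (ht' : IsInvol H t') (hne : t ≠ t') {w : α} (hw : w ∈ D) : (t * t') w ≠ w := by
  intro h
  rw [Perm.mul_apply] at h
  have h1 : t' w = t w := by
    have := congrArg t h
    rwa [IsInvol.apply_apply ht] at this
  by_cases h2 : t w = w
  · exact hne (hS.invol_unique hD hodd ht ht' hw h2 (h1.trans h2))
  · have hv : t w ∈ D := hS.map_mem ht.1 hw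
    apply hne
    apply hS.swap_unique ht.1 ht'.1 hw hv (Ne.symm h2) rfl (IsInvol.apply_apply ht w) h1
    rw [← h1]
    exact IsInvol.apply_apply ht' w

/-- Fixed-point-free elements. -/
def Fpf (D : Finset α) (h : Perm α) : Prop := ∀ w ∈ D, h w ≠ w

/-- A fixed-point-free element is determined by the image of one point. -/
theorem fpf_unique (hD : 3 ≤ D.card) {h h' : Perm α} (hh : h ∈ H) (hh' : h' ∈ H) (hf : Fpf D h)
    (hf' : Fpf D h') {x : α} (hx : x ∈ D) (heq : h x = h' x) : h = h' := by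
  by_contra hne
  have hD2 : 2 ≤ D.card := by omega
  set y := h x with hy
  have hyD : y ∈ D := hS.map_mem hh hx
  have hxy : y ≠ x := hf x hx
  obtain ⟨w, hw, hwx⟩ := hS.exists_other hD2 hx
  classical
  let W : Finset (Perm α) := univ.filter (fun g => g ∈ H ∧ g x = y)
  have hW : W.card ≤ (D.erase y).card := by
    apply Finset.card_le_card_of_injOn (fun g => g w)
    · intro g hg
      simp only [W, mem_filter, mem_univ, true_and, mem_coe] at hg
      refine mem_erase.2 ⟨?_, hS.map_mem hg.1 hw⟩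
      intro h2
      have : g w = g x := h2.trans hg.2.symm
      exact hwx (g.injective this)
    · intro g hg g' hg' h2
      simp only [W, mem_filter, mem_univ, true_and, mem_coe] at hg hg'
      exact hS.eq_of_agree hg.1 hg'.1 hx hw hwx.symm (hg.2.trans hg'.2.symm) h2
  -- the elements with a fixed point
  have hk : ∀ z : α, ∃ k : Perm α, z ∈ D → z ≠ x → z ≠ y → (k ∈ H ∧ k x = y ∧ k z = z) := by
    intro z
    by_cases hz : z ∈ D ∧ z ≠ x ∧ z ≠ y
    · obtain ⟨k, h1, h2, h3⟩ := hS.tr x hx z hz.1 y hyD z hz.1 (Ne.symm hz.2.1) (Ne.symm hz.2.2)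
      exact ⟨k, fun _ _ _ => ⟨h1, h2, h3⟩⟩
    · exact ⟨1, fun h1 h2 h3 => absurd ⟨h1, h2, h3⟩ hz⟩
  choose k hk using hk
  let Z := (D.erase x).erase y
  have hZ : ∀ z ∈ Z, z ∈ D ∧ z ≠ x ∧ z ≠ y := by
    intro z hz
    simp only [Z, mem_erase] at hz
    exact ⟨hz.2.2, hz.2.1, hz.1⟩
  have hkinj : Set.InjOn k (↑Z : Set α) := by
    intro z hz z' hz' heq'
    obtain ⟨h1, h2, h3⟩ := hZ z hz
    obtain ⟨h1', h2', h3'⟩ := hZ z' hz'
    obtain ⟨hk1, hk2, hk3⟩ := hk z h1 h2 h3
    obtain ⟨hk1', hk2', hk3'⟩ := hk z' h1' h2' h3'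
    have hk0 : k z ≠ 1 := by
      intro h0
      rw [h0] at hk2
      exact hxy hk2.symm
    apply hS.fix_unique hk1 hk0 h1 h1' hk3
    rw [heq']
    exact hk3'
  have hS1 : (insert h (insert h' (Z.image k))) ⊆ W := by
    intro g hg
    simp only [mem_insert, mem_image] at hg
    simp only [W, mem_filter, mem_univ, true_and]
    rcases hg with rfl | rfl | ⟨z, hz, rfl⟩
    · exact ⟨hh, rfl⟩
    · exact ⟨hh', heq.symm⟩
    · obtain ⟨h1, h2, h3⟩ := hZ z hz
      obtain ⟨hk1, hk2, hk3⟩ := hk z h1 h2 h3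
      exact ⟨hk1, hk2⟩
  have hcard := Finset.card_le_card hS1
  have hnot' : h' ∉ Z.image k := by
    simp only [mem_image, not_exists, not_and]
    intro z hz heq'
    obtain ⟨h1, h2, h3⟩ := hZ z hz
    obtain ⟨hk1, hk2, hk3⟩ := hk z h1 h2 h3
    exact hf' z h1 (heq' ▸ hk3)
  have hnot : h ∉ insert h' (Z.image k) := by
    simp only [mem_insert, mem_image, not_or, not_exists, not_and]
    refine ⟨hne, ?_⟩
    intro z hz heq'
    obtain ⟨h1, h2, h3⟩ := hZ z hz
    obtain ⟨hk1, hk2, hk3⟩ := hk z h1 h2 h3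
    exact hf z h1 (heq' ▸ hk3)
  rw [card_insert_of_notMem hnot, card_insert_of_notMem hnot', card_image_of_injOn hkinj] at hcard
  have h5 : Z.card = D.card - 2 := by
    simp only [Z]
    rw [card_erase_of_mem (mem_erase.2 ⟨hxy, hyD⟩), card_erase_of_mem hx]
    omega
  have h6 : (D.erase y).card = D.card - 1 := card_erase_of_mem hyD
  omega

/-- Factorisation of `N`-elements through a given involution. -/
theorem exists_factor (hD : 3 ≤ D.card) (hodd : Odd D.card) {t n : Perm α} (ht : IsInvol H t)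
    (hn : n ∈ H) (hn' : n = 1 ∨ Fpf D n) : ∃ t', IsInvol H t' ∧ n = t * t' := by
  rcases hn' with rfl | hf
  · exact ⟨t, ht, ht.2.1.symm⟩
  · obtain ⟨x, hx, hfix⟩ := hS.exists_fix ht hodd
    set y := n x with hy
    have hyD : y ∈ D := hS.map_mem hn hx
    have hyx : y ≠ x := hf x hx
    have hty : t y ≠ x := by
      intro h
      have := congrArg t h
      rw [IsInvol.apply_apply ht, hfix] at this
      exact hyx this
    have htyD : t y ∈ D := hS.map_mem ht.1 hyD
    obtain ⟨τ, hτ, h1, h2⟩ := hS.exists_swap hx htyD hty.symm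
    have hτ' := hS.swap_isInvol hτ hx htyD hty.symm h1 h2
    have hneτ : t ≠ τ := by
      rintro rfl
      rw [hfix] at h1
      exact hty h1.symm
    refine ⟨τ, hτ', ?_⟩
    apply hS.fpf_unique hD hn (H.mul_mem ht.1 hτ) hf
      (fun w hw => hS.prod_fpf hD hodd ht hτ' hneτ hw) hx
    rw [Perm.mul_apply, h1, IsInvol.apply_apply ht]

/-- The subgroup of elements without fixed points in `D`, with the identity. -/
def kernel (hD : 3 ≤ D.card) (hodd : Odd D.card) : Subgroup (Perm α) where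
  carrier := {h | h ∈ H ∧ (h = 1 ∨ Fpf D h)}
  one_mem' := ⟨H.one_mem, Or.inl rfl⟩
  inv_mem' := by
    rintro h ⟨hh, h1⟩
    refine ⟨H.inv_mem hh, ?_⟩
    rcases h1 with rfl | hf
    · left; simp
    · right
      intro w hw hc
      have : h w = w := by
        conv_lhs => rw [← hc]
        simp
      exact hf w hw this
  mul_mem' := by
    rintro a b ⟨ha, ha'⟩ ⟨hb, hb'⟩
    refine ⟨H.mul_mem ha hb, ?_⟩
    have hne : D.Nonempty := by
      rw [← card_pos]; omega
    obtain ⟨x, hx⟩ := hne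
    obtain ⟨t2, ht2, _⟩ := hS.exists_invol_at (by omega) hodd hx
    obtain ⟨t3, ht3, rfl⟩ := hS.exists_factor hD hodd ht2 hb hb'
    have hainv : a⁻¹ = 1 ∨ Fpf D a⁻¹ := by
      rcases ha' with rfl | hf
      · left; simp
      · right
        intro w hw hc
        have : a w = w := by
          conv_lhs => rw [← hc]
          simp
        exact hf w hw this
    obtain ⟨t1, ht1, h1⟩ := hS.exists_factor hD hodd ht2 (H.inv_mem ha) hainv
    have h2 : a = t1 * t2 := by
      have : a = (t2 * t1)⁻¹ := by rw [← h1]; simp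
      rw [this, mul_inv_rev, IsInvol.inv_eq ht1, IsInvol.inv_eq ht2]
    rw [h2]
    have h3 : t1 * t2 * (t2 * t3) = t1 * t3 := by
      rw [mul_assoc, ← mul_assoc t2, ht2.2.1, one_mul]
    rw [h3]
    by_cases h4 : t1 = t3
    · left; rw [h4]; exact ht3.2.1
    · right
      exact fun w hw => hS.prod_fpf hD hodd ht1 ht3 h4 hw

theorem mem_kernel {hD : 3 ≤ D.card} {hodd : Odd D.card} {h : Perm α} :
    h ∈ hS.kernel hD hodd ↔ h ∈ H ∧ (h = 1 ∨ Fpf D h) := Iff.rfl

theorem kernel_inv_conj {hD : 3 ≤ D.card} {hodd : Odd D.card} {t n : Perm α} (ht : IsInvol H t)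
    (hn : n ∈ hS.kernel hD hodd) : t * n * t = n⁻¹ := by
  obtain ⟨t', ht', rfl⟩ := hS.exists_factor hD hodd ht hn.1 hn.2
  rw [mul_inv_rev, IsInvol.inv_eq ht, IsInvol.inv_eq ht', ← mul_assoc t t t', ht.2.1, one_mul]

theorem kernel_comm {hD : 3 ≤ D.card} {hodd : Odd D.card} {a b : Perm α}
    (ha : a ∈ hS.kernel hD hodd) (hb : b ∈ hS.kernel hD hodd) : a * b = b * a := by
  have hne : D.Nonempty := by
    rw [← card_pos]; omega
  obtain ⟨x, hx⟩ := hne
  obtain ⟨t, ht, _⟩ := hS.exists_invol_at (by omega) hodd hx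
  have h1 := hS.kernel_inv_conj ht (Subgroup.mul_mem _ ha hb)
  have h2 : t * (a * b) * t = (t * a * t) * (t * b * t) := by
    have : (t * a * t) * (t * b * t) = t * a * (t * t) * b * t := by group
    rw [this, ht.2.1]; group
  rw [h2, hS.kernel_inv_conj ht ha, hS.kernel_inv_conj ht hb, mul_inv_rev] at h1
  have h3 := congrArg (fun w => w⁻¹) h1
  simp only [mul_inv_rev, inv_inv] at h3
  exact h3.symm

theorem kernel_free {hD : 3 ≤ D.card} {hodd : Odd D.card} {n : Perm α}
    (hn : n ∈ hS.kernel hD hodd) {x : α} (hx : x ∈ D) (h : n x = x) : n = 1 := by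
  rcases hn.2 with h1 | h1
  · exact h1
  · exact absurd h (h1 x hx)

theorem kernel_agree {hD : 3 ≤ D.card} {hodd : Odd D.card} {n n' : Perm α}
    (hn : n ∈ hS.kernel hD hodd) (hn' : n' ∈ hS.kernel hD hodd) {x : α} (hx : x ∈ D)
    (h : n x = n' x) : n = n' := by
  have := hS.kernel_free (Subgroup.mul_mem _ (Subgroup.inv_mem _ hn') hn) hx
    (by simp [Perm.mul_apply, h])
  exact (inv_mul_eq_one.1 this).symm

theorem kernel_trans (hD : 3 ≤ D.card) (hodd : Odd D.card) {x y : α} (hx : x ∈ D) (hy : y ∈ D) :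
    ∃ n ∈ hS.kernel hD hodd, n x = y := by
  by_cases hxy : x = y
  · exact ⟨1, Subgroup.one_mem _, by simp [hxy]⟩
  obtain ⟨t, ht, hfix⟩ := hS.exists_invol_at (by omega) hodd hx
  have hty : t y ≠ x := by
    intro h
    have := congrArg t h
    rw [IsInvol.apply_apply ht, hfix] at this
    exact hxy this.symm
  have htyD : t y ∈ D := hS.map_mem ht.1 hy
  obtain ⟨τ, hτ, h1, h2⟩ := hS.exists_swap hx htyD hty.symm
  have hτ' := hS.swap_isInvol hτ hx htyD hty.symm h1 h2
  have hneτ : t ≠ τ := by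
    rintro rfl
    rw [hfix] at h1
    exact hty h1.symm
  refine ⟨t * τ, ⟨H.mul_mem ht.1 hτ, Or.inr (fun w hw => hS.prod_fpf hD hodd ht hτ' hneτ hw)⟩, ?_⟩
  rw [Perm.mul_apply, h1, IsInvol.apply_apply ht]

theorem kernel_conj {hD : 3 ≤ D.card} {hodd : Odd D.card} {g : Perm α}
    (h1 : ∀ x, x ∈ D ↔ g x ∈ D) (h2 : ∀ h ∈ H, g * h * g⁻¹ ∈ H) {n : Perm α}
    (hn : n ∈ hS.kernel hD hodd) : g * n * g⁻¹ ∈ hS.kernel hD hodd := by
  refine ⟨h2 n hn.1, ?_⟩
  rcases hn.2 with rfl | hf
  · left; simp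
  · right
    intro w hw hc
    have hw' : g⁻¹ w ∈ D := by
      rw [h1]; simpa using hw
    apply hf _ hw'
    rw [Perm.mul_apply, Perm.mul_apply] at hc
    have := congrArg (fun x => g⁻¹ x) hc
    simpa using this

end Sharp2

/-! ### Sharply `k`-transitive -/

/-- `G` fixes everything outside `Ω`, and is sharply `k`-transitive on `Ω`. -/
structure SharpOn (k : ℕ) (G : Subgroup (Perm α)) (Ω : Finset α) : Prop where
  out : ∀ g ∈ G, ∀ x, x ∉ Ω → g x = x
  tr : ∀ u v : Fin k → α, Function.Injective u → Function.Injective v → (∀ i, u i ∈ Ω) →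
    (∀ i, v i ∈ Ω) → ∃ g ∈ G, ∀ i, g (u i) = v i
  sh : ∀ g ∈ G, ∀ u : Fin k → α, Function.Injective u → (∀ i, u i ∈ Ω) → (∀ i, g (u i) = u i) →
    g = 1

/-- The stabiliser of a point in `G`, as a group of permutations. -/
def fixer (G : Subgroup (Perm α)) (a : α) : Subgroup (Perm α) :=
  G ⊓ MulAction.stabilizer (Perm α) a

theorem mem_fixer {G : Subgroup (Perm α)} {a : α} {g : Perm α} : g ∈ fixer G a ↔ g ∈ G ∧ g a = a := by
  simp [fixer, Subgroup.mem_inf, MulAction.mem_stabilizer_iff, Perm.smul_def]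

theorem fin_cons_inj {k : ℕ} {a : α} {u : Fin k → α} (hu : Function.Injective u)
    (ha : ∀ i, u i ≠ a) : Function.Injective (Fin.cons a u : Fin (k + 1) → α) := by
  rw [Fin.cons_injective_iff]
  refine ⟨?_, hu⟩
  rintro ⟨i, hi⟩
  exact ha i hi

namespace SharpOn

variable {k : ℕ} {G : Subgroup (Perm α)} {Ω : Finset α}

theorem reduce (hG : SharpOn (k + 1) G Ω) {a : α} (ha : a ∈ Ω) :
    SharpOn k (fixer G a) (Ω.erase a) := by
  refine ⟨?_, ?_, ?_⟩
  · intro g hg x hx
    rw [mem_fixer] at hg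
    by_cases hxa : x = a
    · rw [hxa]; exact hg.2
    · apply hG.out g hg.1
      intro h
      exact hx (mem_erase.2 ⟨hxa, h⟩)
  · intro u v hu hv hu' hv'
    obtain ⟨g, hg, h⟩ := hG.tr (Fin.cons a u) (Fin.cons a v)
      (fin_cons_inj hu (fun i => (mem_erase.1 (hu' i)).1))
      (fin_cons_inj hv (fun i => (mem_erase.1 (hv' i)).1))
      (fun i => by
        refine Fin.cases ?_ (fun j => ?_) i
        · simpa using ha
        · simpa using (mem_erase.1 (hu' j)).2)
      (fun i => by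
        refine Fin.cases ?_ (fun j => ?_) i
        · simpa using ha
        · simpa using (mem_erase.1 (hv' j)).2)
    refine ⟨g, mem_fixer.2 ⟨hg, by simpa using h 0⟩, fun i => ?_⟩
    simpa using h i.succ
  · intro g hg u hu hu' hfix
    rw [mem_fixer] at hg
    apply hG.sh g hg.1 (Fin.cons a u) (fin_cons_inj hu (fun i => (mem_erase.1 (hu' i)).1))
    · intro i
      refine Fin.cases ?_ (fun j => ?_) i
      · simpa using ha
      · simpa using (mem_erase.1 (hu' j)).2
    · intro i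
      refine Fin.cases ?_ (fun j => ?_) i
      · simpa using hg.2
      · simpa using hfix j

theorem exists_tuple {k : ℕ} (s : Finset α) (hs : s.card = k) :
    ∃ u : Fin k → α, Function.Injective u ∧ ∀ i, u i ∈ s := by
  let e := s.equivFinOfCardEq hs
  refine ⟨fun i => (e.symm i : α), fun i j h => ?_, fun i => (e.symm i).2⟩
  exact e.symm.injective (Subtype.ext h)

theorem card_fix_lt (hG : SharpOn k G Ω) {g : Perm α} (hg : g ∈ G) (hg1 : g ≠ 1) :
    (Ω.filter (fun x => g x = x)).card < k := by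
  by_contra hc
  push Not at hc
  obtain ⟨s, hs, hsk⟩ := Finset.exists_subset_card_eq hc
  obtain ⟨u, hu, hu'⟩ := exists_tuple s hsk
  apply hg1
  apply hG.sh g hg u hu
  · intro i
    exact (mem_filter.1 (hs (hu' i))).1
  · intro i
    exact (mem_filter.1 (hs (hu' i))).2

theorem map_mem_iff (hG : SharpOn k G Ω) {g : Perm α} (hg : g ∈ G) (x : α) : g x ∈ Ω ↔ x ∈ Ω := by
  constructor
  · intro hx
    by_contra hc
    rw [hG.out g hg x hc] at hx
    exact hc hx
  · intro hx
    by_contra hc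
    have := hG.out g hg (g x) hc
    have h2 := g.injective this
    rw [h2] at hc
    exact hc hx

theorem toSharp2 (hG : SharpOn 2 G Ω) : Sharp2 G Ω := by
  have inj : ∀ x y : α, x ≠ y → Function.Injective ![x, y] := by
    intro x y hxy i j h
    fin_cases i <;> fin_cases j <;> simp_all
  have mem : ∀ x y : α, x ∈ Ω → y ∈ Ω → ∀ i, ![x, y] i ∈ Ω := by
    intro x y hx hy i
    fin_cases i <;> simp [hx, hy]
  refine ⟨hG.out, ?_, ?_⟩
  · intro x hx y hy x' hx' y' hy' hxy hxy'
    obtain ⟨g, hg, h⟩ := hG.tr ![x, y] ![x', y'] (inj x y hxy) (inj x' y' hxy') (mem x y hx hy)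
      (mem x' y' hx' hy')
    exact ⟨g, hg, by simpa using h 0, by simpa using h 1⟩
  · intro h hh x hx y hy hxy h1 h2
    apply hG.sh h hh ![x, y] (inj x y hxy) (mem x y hx hy)
    intro i
    fin_cases i
    · simpa using h1
    · simpa using h2

theorem sharp2_of (hG : SharpOn 4 G Ω) {a b : α} (ha : a ∈ Ω) (hb : b ∈ Ω) (hab : a ≠ b) :
    Sharp2 (fixer (fixer G a) b) ((Ω.erase a).erase b) :=
  ((hG.reduce ha).reduce (mem_erase.2 ⟨hab.symm, hb⟩)).toSharp2

/-- Agreement on four points. -/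
theorem inj4 {a b c d : α} (h1 : a ≠ b) (h2 : a ≠ c) (h3 : a ≠ d) (h4 : b ≠ c) (h5 : b ≠ d)
    (h6 : c ≠ d) : Function.Injective ![a, b, c, d] := by
  intro i j h
  fin_cases i <;> fin_cases j <;> simp_all

theorem tr4 (hG : SharpOn 4 G Ω) {a b c d a' b' c' d' : α}
    (ha : a ∈ Ω) (hb : b ∈ Ω) (hc : c ∈ Ω) (hd : d ∈ Ω)
    (ha' : a' ∈ Ω) (hb' : b' ∈ Ω) (hc' : c' ∈ Ω) (hd' : d' ∈ Ω)
    (h1 : a ≠ b) (h2 : a ≠ c) (h3 : a ≠ d) (h4 : b ≠ c) (h5 : b ≠ d) (h6 : c ≠ d)
    (h1' : a' ≠ b') (h2' : a' ≠ c') (h3' : a' ≠ d') (h4' : b' ≠ c') (h5' : b' ≠ d') (h6' : c' ≠ d') :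
    ∃ g ∈ G, g a = a' ∧ g b = b' ∧ g c = c' ∧ g d = d' := by
  obtain ⟨g, hg, h⟩ := hG.tr ![a, b, c, d] ![a', b', c', d'] (inj4 h1 h2 h3 h4 h5 h6)
    (inj4 h1' h2' h3' h4' h5' h6')
    (by intro i; fin_cases i <;> simp [ha, hb, hc, hd])
    (by intro i; fin_cases i <;> simp [ha', hb', hc', hd'])
  exact ⟨g, hg, by simpa using h 0, by simpa using h 1, by simpa using h 2, by simpa using h 3⟩

theorem sh4 (hG : SharpOn 4 G Ω) {g : Perm α} (hg : g ∈ G) {a b c d : α}
    (ha : a ∈ Ω) (hb : b ∈ Ω) (hc : c ∈ Ω) (hd : d ∈ Ω)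
    (h1 : a ≠ b) (h2 : a ≠ c) (h3 : a ≠ d) (h4 : b ≠ c) (h5 : b ≠ d) (h6 : c ≠ d)
    (ga : g a = a) (gb : g b = b) (gc : g c = c) (gd : g d = d) : g = 1 := by
  apply hG.sh g hg ![a, b, c, d] (inj4 h1 h2 h3 h4 h5 h6)
  · intro i; fin_cases i <;> simp [ha, hb, hc, hd]
  · intro i; fin_cases i <;> simp [ga, gb, gc, gd]

end SharpOn

/-- A fixed-point-free involutive automorphism of a finite group inverts it. -/
theorem inv_of_fpf {R : Subgroup (Perm α)} {s : Perm α} (hs : s * s = 1)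
    (h1 : ∀ r ∈ R, s * r * s⁻¹ ∈ R) (h2 : ∀ r ∈ R, s * r * s⁻¹ = r → r = 1) :
    ∀ y ∈ R, s * y * s⁻¹ = y⁻¹ := by
  have hsinv : s⁻¹ = s := inv_eq_of_mul_eq_one_left hs
  let σ : R → R := fun r => ⟨s * r * s⁻¹, h1 r r.2⟩
  have hσσ : ∀ r : R, σ (σ r) = r := by
    intro r
    apply Subtype.ext
    simp only [σ, hsinv]
    have : s * (s * (r : Perm α) * s) * s = (s * s) * r * (s * s) := by group
    rw [this, hs]; group
  have hσmul : ∀ r r' : R, σ (r * r') = σ r * σ r' := by
    intro r r'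
    apply Subtype.ext
    simp only [σ, Subgroup.coe_mul]
    group
  have hσinv : ∀ r : R, σ r⁻¹ = (σ r)⁻¹ := by
    intro r
    apply Subtype.ext
    simp only [σ, InvMemClass.coe_inv]
    group
  let f : R → R := fun r => r⁻¹ * σ r
  have hf : Function.Injective f := by
    intro r r' h
    have h3 : r' * r⁻¹ = σ (r' * r⁻¹) := by
      have h4 : r⁻¹ * σ r = r'⁻¹ * σ r' := h
      rw [hσmul, hσinv]
      have h5 : σ r' = r' * (r⁻¹ * σ r) := by rw [h4]; group
      rw [h5]; group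
    have h6 := h2 _ (r' * r⁻¹).2 (congrArg Subtype.val h3.symm)
    have h7 : r' * r⁻¹ = 1 := Subtype.ext h6
    have := mul_inv_eq_one.1 h7
    exact this.symm
  have hsurj : Function.Surjective f := Finite.injective_iff_surjective.1 hf
  intro y hy
  obtain ⟨r, hr⟩ := hsurj ⟨y, hy⟩
  have h3 : σ (f r) = (f r)⁻¹ := by
    simp only [f]
    rw [hσmul, hσinv, hσσ]
    group
  rw [hr] at h3
  exact congrArg Subtype.val h3

namespace SharpOn

variable {G : Subgroup (Perm α)} {Ω : Finset α}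

theorem exists4 (h : 4 ≤ Ω.card) : ∃ a b c d, a ∈ Ω ∧ b ∈ Ω ∧ c ∈ Ω ∧ d ∈ Ω ∧ a ≠ b ∧ a ≠ c ∧ a ≠ d ∧
    b ≠ c ∧ b ≠ d ∧ c ≠ d := by
  obtain ⟨a, ha⟩ : Ω.Nonempty := by rw [← card_pos]; omega
  have h1 : (Ω.erase a).card = Ω.card - 1 := card_erase_of_mem ha
  obtain ⟨b, hb⟩ : (Ω.erase a).Nonempty := by rw [← card_pos]; omega
  have h2 : ((Ω.erase a).erase b).card = Ω.card - 2 := by rw [card_erase_of_mem hb]; omega
  obtain ⟨c, hc⟩ : ((Ω.erase a).erase b).Nonempty := by rw [← card_pos]; omega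
  have h3 : (((Ω.erase a).erase b).erase c).card = Ω.card - 3 := by
    rw [card_erase_of_mem hc]; omega
  obtain ⟨d, hd⟩ : (((Ω.erase a).erase b).erase c).Nonempty := by rw [← card_pos]; omega
  simp only [mem_erase] at hb hc hd
  exact ⟨a, b, c, d, ha, hb.2, hc.2.2, hd.2.2.2, hb.1.symm, hc.2.1.symm, hd.2.2.1.symm, hc.1.symm,
    hd.2.1.symm, hd.1.symm⟩

/-- The parity of the number of fixed points of an involution. -/
theorem even_moved {s : Perm α} (hs : s * s = 1) (hG : SharpOn 4 G Ω) (hsG : s ∈ G) :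
    Even (Ω.filter (fun x => s x ≠ x)).card := by
  have hss : ∀ x, s (s x) = x := by
    intro x
    have := congrArg (fun f : Perm α => f x) hs
    simpa [Perm.mul_apply] using this
  have h0 : ∑ x ∈ Ω.filter (fun x => s x ≠ x), (1 : ZMod 2) = 0 := by
    apply Finset.sum_involution (fun a _ => s a)
    · intro a ha; decide
    · intro a ha _; exact (mem_filter.1 ha).2
    · intro a ha
      obtain ⟨h1, h2⟩ := mem_filter.1 ha
      refine mem_filter.2 ⟨(hG.map_mem_iff hsG a).2 h1, ?_⟩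
      intro h3
      exact h2 (s.injective h3)
    · intro a ha; exact hss a
  simp only [sum_const, nsmul_eq_mul, mul_one] at h0
  rw [ZMod.natCast_eq_zero_iff] at h0
  exact even_iff_two_dvd.2 h0

/-- Even degree: at most 6. -/
theorem even_le (hG : SharpOn 4 G Ω) (heven : Even Ω.card) (h4 : 4 ≤ Ω.card) : Ω.card ≤ 6 := by
  by_contra hc
  push Not at hc
  obtain ⟨a, b, c, d, ha, hb, hc', hd, hab, hac, had, hbc, hbd, hcd⟩ := exists4 h4
  -- the involution lemma
  have key : ∀ a b c : α, a ∈ Ω → b ∈ Ω → c ∈ Ω → a ≠ b → a ≠ c → a ≠ d → b ≠ c → b ≠ d → c ≠ d →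
      ∃ s ∈ G, s * s = 1 ∧ s a = b ∧ s b = a ∧ s c = c ∧ s d = d ∧
        ∀ x ∈ Ω, s x = x → x = c ∨ x = d := by
    intro a b c ha hb hc' hab hac had hbc hbd hcd
    obtain ⟨s, hs, h1, h2, h3, h4⟩ := hG.tr4 ha hb hc' hd hb ha hc' hd hab hac had hbc hbd hcd
      hab.symm hbc hbd hac had hcd
    have hss : s * s = 1 := by
      apply hG.sh4 (G.mul_mem hs hs) ha hb hc' hd hab hac had hbc hbd hcd <;>
        simp [Perm.mul_apply, h1, h2, h3, h4]
    refine ⟨s, hs, hss, h1, h2, h3, h4, ?_⟩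
    intro x hx hfix
    by_contra hne
    push Not at hne
    have hs1 : s ≠ 1 := by
      rintro rfl
      exact hab (by simpa using h1)
    have hlt := hG.card_fix_lt hs hs1
    have hsub : ({c, d, x} : Finset α) ⊆ Ω.filter (fun x => s x = x) := by
      intro y hy
      simp only [mem_insert, mem_singleton] at hy
      rcases hy with rfl | rfl | rfl
      · exact mem_filter.2 ⟨hc', h3⟩
      · exact mem_filter.2 ⟨hd, h4⟩
      · exact mem_filter.2 ⟨hx, hfix⟩
    have h3c : ({c, d, x} : Finset α).card = 3 := by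
      rw [card_insert_of_notMem, card_insert_of_notMem, card_singleton]
      · simpa using hne.2.symm
      · simp only [mem_insert, mem_singleton, not_or]
        exact ⟨hcd, hne.1.symm⟩
    have hge := card_le_card hsub
    have heq : (Ω.filter (fun x => s x = x)).card = 3 := by omega
    have hsum := card_filter_add_card_filter_not (s := Ω) (fun x => s x = x)
    have hev := even_moved hss hG hs
    rw [heq] at hsum
    simp only [ne_eq] at hev
    rcases heven with ⟨m, hm⟩
    rcases hev with ⟨m', hm'⟩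
    omega
  obtain ⟨s, hs, hss, s1, s2, s3, s4, sfix⟩ := key a b c ha hb hc' hab hac had hbc hbd hcd
  obtain ⟨u, hu, huu, u1, u2, u3, u4, ufix⟩ := key b c a hb hc' ha hbc hab.symm hbd hac.symm hcd had
  -- the stabiliser of three points
  let R := fixer (fixer (fixer G a) b) c
  have memR : ∀ r, r ∈ R ↔ r ∈ G ∧ r a = a ∧ r b = b ∧ r c = c := by
    intro r
    simp only [R, mem_fixer]
    tauto
  have hsinv : s⁻¹ = s := inv_eq_of_mul_eq_one_left hss
  have huinv : u⁻¹ = u := inv_eq_of_mul_eq_one_left huu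
  have ns : ∀ r ∈ R, s * r * s⁻¹ ∈ R := by
    intro r hr
    obtain ⟨h0, h1, h2, h3⟩ := (memR r).1 hr
    rw [hsinv, memR]
    refine ⟨G.mul_mem (G.mul_mem hs h0) hs, ?_, ?_, ?_⟩ <;>
      simp [Perm.mul_apply, s1, s2, s3, h1, h2, h3]
  have nu : ∀ r ∈ R, u * r * u⁻¹ ∈ R := by
    intro r hr
    obtain ⟨h0, h1, h2, h3⟩ := (memR r).1 hr
    rw [huinv, memR]
    refine ⟨G.mul_mem (G.mul_mem hu h0) hu, ?_, ?_, ?_⟩ <;>
      simp [Perm.mul_apply, u1, u2, u3, h1, h2, h3]
  have fs : ∀ r ∈ R, s * r * s⁻¹ = r → r = 1 := by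
    intro r hr h
    obtain ⟨h0, h1, h2, h3⟩ := (memR r).1 hr
    have h4 : s * r = r * s := by
      rw [hsinv] at h
      calc s * r = s * r * (s * s) := by rw [hss, mul_one]
        _ = (s * r * s) * s := by group
        _ = r * s := by rw [h]
    have h5 : s (r d) = r d := by
      have := congrArg (fun f : Perm α => f d) h4
      simpa [Perm.mul_apply, s4] using this
    have h6 : r d ∈ Ω := (hG.map_mem_iff h0 d).2 hd
    rcases sfix _ h6 h5 with h7 | h7
    · exact absurd (r.injective (h7.trans h3.symm)) hcd.symm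
    · exact hG.sh4 h0 ha hb hc' hd hab hac had hbc hbd hcd h1 h2 h3 h7
  have fu : ∀ r ∈ R, u * r * u⁻¹ = r → r = 1 := by
    intro r hr h
    obtain ⟨h0, h1, h2, h3⟩ := (memR r).1 hr
    have h4 : u * r = r * u := by
      rw [huinv] at h
      calc u * r = u * r * (u * u) := by rw [huu, mul_one]
        _ = (u * r * u) * u := by group
        _ = r * u := by rw [h]
    have h5 : u (r d) = r d := by
      have := congrArg (fun f : Perm α => f d) h4
      simpa [Perm.mul_apply, u4] using this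
    have h6 : r d ∈ Ω := (hG.map_mem_iff h0 d).2 hd
    rcases ufix _ h6 h5 with h7 | h7
    · exact absurd (r.injective (h7.trans h1.symm)) had.symm
    · exact hG.sh4 h0 ha hb hc' hd hab hac had hbc hbd hcd h1 h2 h3 h7
  have is := inv_of_fpf hss ns fs
  have iu := inv_of_fpf huu nu fu
  have hcomm : ∀ r ∈ R, (s * u) * r = r * (s * u) := by
    intro r hr
    have h1 := iu r hr
    have h2 := is r⁻¹ (R.inv_mem hr)
    have h3 : s * (u * r * u⁻¹) * s⁻¹ = r := by
      rw [h1, h2, inv_inv]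
    calc s * u * r = (s * (u * r * u⁻¹) * s⁻¹) * (s * u) := by group
      _ = r * (s * u) := by rw [h3]
  have hw1 : s * u ≠ 1 := by
    intro h
    have := congrArg (fun f : Perm α => f a) h
    simp [Perm.mul_apply, u3, s1] at this
    exact hab this.symm
  have hlt := hG.card_fix_lt (G.mul_mem hs hu) hw1
  have hsub : ((((Ω.erase a).erase b).erase c)) ⊆ Ω.filter (fun x => (s * u) x = x) := by
    intro x hx
    simp only [mem_erase] at hx
    obtain ⟨hxc, hxb, hxa, hxΩ⟩ := hx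
    refine mem_filter.2 ⟨hxΩ, ?_⟩
    by_cases hxd : x = d
    · rw [hxd]; simp [Perm.mul_apply, u4, s4]
    obtain ⟨r, hr, r1, r2, r3, r4⟩ := hG.tr4 ha hb hc' hd ha hb hc' hxΩ hab hac had hbc hbd hcd
      hab hac (Ne.symm hxa) hbc (Ne.symm hxb) (Ne.symm hxc)
    have hrR : r ∈ R := (memR r).2 ⟨hr, r1, r2, r3⟩
    have := congrArg (fun f : Perm α => f d) (hcomm r hrR)
    simp only [Perm.mul_apply, u4, s4, r4] at this
    simp only [Perm.mul_apply]
    exact this
  have hcard := card_le_card hsub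
  have hc1 : ((Ω.erase a).erase b).card = Ω.card - 2 := by
    rw [card_erase_of_mem (mem_erase.2 ⟨hab.symm, hb⟩), card_erase_of_mem ha]; omega
  have hc2 : (((Ω.erase a).erase b).erase c).card = Ω.card - 3 := by
    rw [card_erase_of_mem (mem_erase.2 ⟨hbc.symm, mem_erase.2 ⟨hac.symm, hc'⟩⟩), hc1]; omega
  omega

/-- Odd degree (Tits's argument): 5 or 11. -/
theorem odd_eq (hG : SharpOn 4 G Ω) (hodd : Odd Ω.card) (h5 : 5 ≤ Ω.card) :
    Ω.card = 5 ∨ Ω.card = 11 := by
  obtain ⟨a, b, c, d, ha, hb, hc', hd, hab, hac, had, hbc, hbd, hcd⟩ := exists4 (by omega : 4 ≤ Ω.card)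
  set q := Ω.card - 2 with hq
  have hDcard : ∀ x y : α, x ∈ Ω → y ∈ Ω → x ≠ y → ((Ω.erase x).erase y).card = q := by
    intro x y hx hy hxy
    rw [card_erase_of_mem (mem_erase.2 ⟨hxy.symm, hy⟩), card_erase_of_mem hx, hq]; omega
  have hq3 : 3 ≤ q := by omega
  have hqodd : Odd q := by
    obtain ⟨m, hm⟩ := hodd
    exact ⟨m - 1, by omega⟩
  -- the involution `t` with fixed points `a, b, c`
  have S1 := hG.sharp2_of ha hb hab
  have hD1 : ((Ω.erase a).erase b).card = q := hDcard a b ha hb hab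
  have cD1 : c ∈ (Ω.erase a).erase b := mem_erase.2 ⟨hbc.symm, mem_erase.2 ⟨hac.symm, hc'⟩⟩
  have dD1 : d ∈ (Ω.erase a).erase b := mem_erase.2 ⟨hbd.symm, mem_erase.2 ⟨had.symm, hd⟩⟩
  obtain ⟨t, ht, htc⟩ := S1.exists_invol_at (by omega) (hD1 ▸ hqodd) cD1
  have htG : t ∈ G := (mem_fixer.1 (mem_fixer.1 ht.1).1).1
  have hta : t a = a := (mem_fixer.1 (mem_fixer.1 ht.1).1).2
  have htb : t b = b := (mem_fixer.1 ht.1).2
  have htt : ∀ x, t (t x) = x := Sharp2.IsInvol.apply_apply ht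
  have htinv : t⁻¹ = t := Sharp2.IsInvol.inv_eq ht
  have tfix : ∀ x ∈ Ω, t x = x → x = a ∨ x = b ∨ x = c := by
    intro x hx h
    by_cases hxa : x = a
    · exact Or.inl hxa
    by_cases hxb : x = b
    · exact Or.inr (Or.inl hxb)
    right; right
    exact S1.fix_unique ht.1 ht.2.2 (mem_erase.2 ⟨hxb, mem_erase.2 ⟨hxa, hx⟩⟩) cD1 h htc
  -- the point `e`
  set e := t d with he
  have hte : t e = d := htt d
  have heD1 : e ∈ (Ω.erase a).erase b := S1.map_mem ht.1 dD1
  have heΩ : e ∈ Ω := (mem_erase.1 (mem_erase.1 heD1).2).2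
  have hed : d ≠ e := by
    intro h
    have := tfix d hd h.symm
    rcases this with h1 | h1 | h1
    · exact had h1.symm
    · exact hbd h1.symm
    · exact hcd h1.symm
  have hea : e ≠ a := (mem_erase.1 (mem_erase.1 heD1).2).1
  have heb : e ≠ b := (mem_erase.1 heD1).1
  have hec : e ≠ c := by
    intro h
    have : t e = t c := by rw [h]
    rw [hte, htc] at this
    exact hcd this.symm
  -- the second group
  have S2 := hG.sharp2_of hd heΩ hed
  have hD2 : ((Ω.erase d).erase e).card = q := hDcard d e hd heΩ hed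
  have hD3 : 3 ≤ ((Ω.erase d).erase e).card := by omega
  have hodd2 : Odd ((Ω.erase d).erase e).card := hD2 ▸ hqodd
  have aD2 : a ∈ (Ω.erase d).erase e := mem_erase.2 ⟨hea.symm, mem_erase.2 ⟨had, ha⟩⟩
  have bD2 : b ∈ (Ω.erase d).erase e := mem_erase.2 ⟨heb.symm, mem_erase.2 ⟨hbd, hb⟩⟩
  have cD2 : c ∈ (Ω.erase d).erase e := mem_erase.2 ⟨hec.symm, mem_erase.2 ⟨hcd, hc'⟩⟩
  set N := S2.kernel hD3 hodd2 with hN
  obtain ⟨τ, hτ, hτc⟩ := S2.exists_invol_at (by omega) hodd2 cD2
  have hτG : τ ∈ G := (mem_fixer.1 (mem_fixer.1 hτ.1).1).1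
  have hτe : τ e = e := (mem_fixer.1 hτ.1).2
  -- conjugation by `t`
  have hDt : ∀ x, x ∈ (Ω.erase d).erase e ↔ t x ∈ (Ω.erase d).erase e := by
    intro x
    simp only [mem_erase]
    rw [hG.map_mem_iff htG x]
    constructor
    · rintro ⟨h1, h2, h3⟩
      refine ⟨?_, ?_, h3⟩
      · intro h; apply h2
        apply t.injective; exact h
      · intro h; apply h1
        apply t.injective; rw [h, hte]
    · rintro ⟨h1, h2, h3⟩
      refine ⟨?_, ?_, h3⟩
      · rintro rfl
        exact h2 hte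
      · rintro rfl
        exact h1 rfl
  have hHt : ∀ h ∈ fixer (fixer G d) e, t * h * t⁻¹ ∈ fixer (fixer G d) e := by
    intro h hh
    have h0 := (mem_fixer.1 (mem_fixer.1 hh).1).1
    have h1 := (mem_fixer.1 (mem_fixer.1 hh).1).2
    have h2 := (mem_fixer.1 hh).2
    rw [htinv, mem_fixer, mem_fixer]
    refine ⟨⟨G.mul_mem (G.mul_mem htG h0) htG, ?_⟩, ?_⟩
    · simp only [Perm.mul_apply, ← he, h2, hte]
    · simp only [Perm.mul_apply, hte, h1, ← he]
  have hA : ∀ n ∈ N, t * n * t ∈ N := by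
    intro n hn
    have := S2.kernel_conj (hD := hD3) (hodd := hodd2) hDt hHt hn
    rwa [htinv] at this
  have hAA : ∀ n : Perm α, t * (t * n * t) * t = n := by
    intro n
    have : t * (t * n * t) * t = (t * t) * n * (t * t) := by group
    rw [this, ht.2.1]; group
  have hAmul : ∀ n n' : Perm α, t * (n * n') * t = (t * n * t) * (t * n' * t) := by
    intro n n'
    have : (t * n * t) * (t * n' * t) = t * n * (t * t) * n' * t := by group
    rw [this, ht.2.1]; group
  have hAinv : ∀ n : Perm α, t * n⁻¹ * t = (t * n * t)⁻¹ := by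
    intro n
    rw [mul_inv_rev, mul_inv_rev, htinv]; group
  have hAapp : ∀ (n : Perm α) (x : α), (t * n * t) (t x) = t (n x) := by
    intro n x
    simp [Perm.mul_apply, htt]
  -- the map `f`
  let f : Perm α → Perm α := fun n => n⁻¹ * (t * n * t)
  have hfN : ∀ n ∈ N, f n ∈ N := fun n hn => N.mul_mem (N.inv_mem hn) (hA n hn)
  have hAf : ∀ n, t * f n * t = (f n)⁻¹ := by
    intro n
    simp only [f]
    have h1 : (n⁻¹ * (t * n * t))⁻¹ = (t * n * t)⁻¹ * n := by group
    rw [h1, hAmul, hAinv, hAA]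
  -- the element `z`
  let z := τ * t
  have hzG : z ∈ G := G.mul_mem hτG htG
  have hz1 : z ≠ 1 := by
    intro h
    have := congrArg (fun g : Perm α => g d) h
    simp only [z, Perm.mul_apply, ← he, hτe, Perm.one_apply] at this
    exact hed this.symm
  have hzlt := hG.card_fix_lt hzG hz1
  have hzfix : ∀ n ∈ N, z ((f n) c) = (f n) c := by
    intro n hn
    have hm := hfN n hn
    have h1 : t ((f n) c) = (f n)⁻¹ c := by
      have := hAapp (f n) c
      rw [htc, hAf] at this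
      exact this.symm
    have h2 := S2.kernel_inv_conj (hD := hD3) (hodd := hodd2) hτ (N.inv_mem hm)
    rw [inv_inv] at h2
    simp only [z, Perm.mul_apply]
    rw [h1]
    have h3 := congrArg (fun g : Perm α => g c) h2
    simp only [Perm.mul_apply, hτc] at h3
    exact h3
  -- fibres of `f`
  have hfix_t : ∀ m ∈ N, t * m * t = m → m c = a ∨ m c = b ∨ m c = c := by
    intro m hm h
    apply tfix
    · have := S2.map_mem hm.1 cD2
      exact (mem_erase.1 (mem_erase.1 this).2).2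
    · have h1 := hAapp m c
      rw [htc, h] at h1
      exact h1.symm
  -- the points of `D` and the translations
  have hex : ∀ p : α, ∃ n, n ∈ N ∧ (p ∈ (Ω.erase d).erase e → n c = p) := by
    intro p
    by_cases hp : p ∈ (Ω.erase d).erase e
    · obtain ⟨n, hn, h⟩ := S2.kernel_trans hD3 hodd2 cD2 hp
      exact ⟨n, hn, fun _ => h⟩
    · exact ⟨1, N.one_mem, fun h => absurd h hp⟩
  choose ν hν hνc using hex
  let φ : α → α := fun p => (f (ν p)) c
  have hφF : ∀ p ∈ (Ω.erase d).erase e, φ p ∈ Ω.filter (fun x => z x = x) := by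
    intro p _
    refine mem_filter.2 ⟨?_, hzfix _ (hν p)⟩
    have := S2.map_mem (hfN _ (hν p)).1 cD2
    exact (mem_erase.1 (mem_erase.1 this).2).2
  have hfib : ∀ v ∈ ((Ω.erase d).erase e).image φ,
      (((Ω.erase d).erase e).filter (fun p => φ p = v)).card ≤ 3 := by
    intro v hv
    obtain ⟨p0, hp0, rfl⟩ := mem_image.1 hv
    have hsub : ((Ω.erase d).erase e).filter (fun p => φ p = φ p0)
        ⊆ {ν p0 a, ν p0 b, ν p0 c} := by
      intro p hp
      obtain ⟨hpD, hpv⟩ := mem_filter.1 hp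
      have h1 : f (ν p) = f (ν p0) :=
        S2.kernel_agree (hD := hD3) (hodd := hodd2) (hfN _ (hν p)) (hfN _ (hν p0)) cD2 hpv
      set m := ν p * (ν p0)⁻¹ with hm
      have hmN : m ∈ N := N.mul_mem (hν p) (N.inv_mem (hν p0))
      have h2 : t * m * t = m := by
        have h1' : (ν p)⁻¹ * (t * ν p * t) = (ν p0)⁻¹ * (t * ν p0 * t) := h1
        have ha' : t * ν p * t = ν p * ((ν p0)⁻¹ * (t * ν p0 * t)) := by
          rw [← h1']; group
        rw [hm, hAmul, hAinv, ha']
        group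
      have h3 := hfix_t m hmN h2
      have hcm : m * ν p0 = ν p0 * m := S2.kernel_comm (hD := hD3) (hodd := hodd2) hmN (hν p0)
      have h4 : p = ν p0 (m c) := by
        have h5 : ν p = m * ν p0 := by rw [hm]; group
        have h6 := hνc p hpD
        rw [h5, hcm, Perm.mul_apply] at h6
        exact h6.symm
      simp only [mem_insert, mem_singleton]
      rcases h3 with h3 | h3 | h3
      · left; rw [h4, h3]
      · right; left; rw [h4, h3]
      · right; right; rw [h4, h3]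
    exact (card_le_card hsub).trans card_le_three
  have hbound := Finset.card_le_mul_card_image _ 3 hfib
  have himg : (((Ω.erase d).erase e).image φ).card ≤ 3 := by
    have : ((Ω.erase d).erase e).image φ ⊆ Ω.filter (fun x => z x = x) := by
      intro v hv
      obtain ⟨p, hp, rfl⟩ := mem_image.1 hv
      exact hφF p hp
    have := card_le_card this
    omega
  have hq9 : q ≤ 9 := by
    rw [hD2] at hbound
    omega
  -- divisibility by 3
  obtain ⟨m0, hm0, hm0c⟩ := S2.kernel_trans hD3 hodd2 cD2 aD2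
  have hm0A : t * m0 * t = m0 := by
    apply S2.kernel_agree (hD := hD3) (hodd := hodd2) (hA _ hm0) hm0 cD2
    have := hAapp m0 c
    rw [htc] at this
    rw [this, hm0c, hta]
  have hm01 : m0 ≠ 1 := by
    rintro rfl
    exact hac (by simpa using hm0c.symm)
  have hm0fpf : ∀ x ∈ (Ω.erase d).erase e, m0 x ≠ x := fun x hx h =>
    hm01 (S2.kernel_free hm0 hx h)
  have hsq1 : m0 * m0 ≠ 1 := by
    intro h
    have hinv : IsInvol (fixer (fixer G d) e) m0 := ⟨hm0.1, h, hm01⟩
    obtain ⟨x, hx, hfx⟩ := S2.exists_fix hinv hodd2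
    exact hm0fpf x hx hfx
  have hsqA : t * (m0 * m0) * t = m0 * m0 := by rw [hAmul, hm0A]
  have hcuA : t * (m0 * m0 * m0) * t = m0 * m0 * m0 := by rw [hAmul, hsqA, hm0A]
  have hsqc : (m0 * m0) c = b := by
    rcases hfix_t _ (N.mul_mem hm0 hm0) hsqA with h | h | h
    · exfalso
      apply hm01
      have h1 : m0 * m0 = m0 := S2.kernel_agree (hD := hD3) (hodd := hodd2) (N.mul_mem hm0 hm0) hm0
        cD2 (by rw [h, hm0c])
      simpa using h1
    · exact h
    · exact absurd (S2.kernel_free (N.mul_mem hm0 hm0) cD2 h) hsq1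
  have hcu : m0 * m0 * m0 = 1 := by
    rcases hfix_t _ (N.mul_mem (N.mul_mem hm0 hm0) hm0) hcuA with h | h | h
    · exfalso
      apply hsq1
      have h1 : m0 * m0 * m0 = m0 := S2.kernel_agree (hD := hD3) (hodd := hodd2)
        (N.mul_mem (N.mul_mem hm0 hm0) hm0) hm0 cD2 (by rw [h, hm0c])
      simpa [mul_assoc] using h1
    · exfalso
      apply hm01
      have h1 : m0 * m0 * m0 = m0 * m0 := S2.kernel_agree (hD := hD3) (hodd := hodd2)
        (N.mul_mem (N.mul_mem hm0 hm0) hm0) (N.mul_mem hm0 hm0) cD2 (by rw [h, hsqc])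
      simpa using h1
    · exact S2.kernel_free (N.mul_mem (N.mul_mem hm0 hm0) hm0) cD2 h
  have hpow : m0 ^ 3 ^ 1 = 1 := by
    rw [pow_one, pow_three, ← mul_assoc, hcu]
  have : Fact (Nat.Prime 3) := ⟨Nat.prime_three⟩
  have hmod := Equiv.Perm.card_compl_support_modEq hpow
  have hsupp : m0.support = (Ω.erase d).erase e := by
    ext x
    rw [Perm.mem_support]
    constructor
    · intro h
      by_contra hx
      exact h (S2.out m0 hm0.1 x hx)
    · intro h
      exact hm0fpf x h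
  rw [hsupp, card_compl, hD2] at hmod
  have hqle : q ≤ Fintype.card α := by
    rw [← hD2]; exact card_le_univ _
  have h3q : 3 ∣ q := by
    unfold Nat.ModEq at hmod
    omega
  have hqcases : q = 3 ∨ q = 9 := by
    obtain ⟨m, hm⟩ := hqodd
    omega
  omega

/-- The degrees of sharply 4-transitive groups. -/
theorem degree (hG : SharpOn 4 G Ω) (h4 : 4 ≤ Ω.card) :
    Ω.card = 4 ∨ Ω.card = 5 ∨ Ω.card = 6 ∨ Ω.card = 11 := by
  rcases Nat.even_or_odd Ω.card with h | h
  · have := hG.even_le h h4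
    obtain ⟨m, hm⟩ := h
    omega
  · have h5 : 5 ≤ Ω.card := by
      obtain ⟨m, hm⟩ := h
      omega
    have := hG.odd_eq h h5
    omega

end SharpOn

/-- From the hypotheses on embeddings. -/
theorem sharpOn_of {k : ℕ} (G : Subgroup (Perm α)) [MulAction.IsMultiplyPretransitive G α k]
    (hsharp : ∀ x : Fin k ↪ α, MulAction.stabilizer G x = ⊥) : SharpOn k G univ := by
  refine ⟨fun _ _ x hx => absurd (mem_univ x) hx, ?_, ?_⟩
  · intro u v hu hv _ _
    obtain ⟨g, hg⟩ := MulAction.exists_smul_eq (M := G) (⟨u, hu⟩ : Fin k ↪ α) (⟨v, hv⟩ : Fin k ↪ α)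
    refine ⟨g.1, g.2, fun i => ?_⟩
    have := congrArg (fun e : Fin k ↪ α => e i) hg
    exact this
  · intro g hg u hu _ hfix
    have h1 : (⟨g, hg⟩ : G) ∈ MulAction.stabilizer G (⟨u, hu⟩ : Fin k ↪ α) := by
      rw [MulAction.mem_stabilizer_iff]
      ext i
      exact hfix i
    rw [hsharp] at h1
    have := Subgroup.mem_bot.1 h1
    simpa using congrArg Subtype.val this

end Cfsg.Agent.Lib.SharpTrans
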