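import Mathlib
import Cfsg.Agent.Lib.SharpTrans

set_option autoImplicit false
set_option linter.unusedSectionVars false
set_option linter.unusedSimpArgs false
set_option linter.unusedVariables false

/-!
# Orders of sharply transitive groups; simplicity in degrees 11 and 12; degree 13 does not occur
-/

namespace Cfsg.Agent.Lib.SharpTrans2
open Equiv Finset Cfsg.Agent.Lib.SharpTrans

variable {α : Type*} [Fintype α] [DecidableEq α]
variable {k : ℕ} {G : Subgroup (Perm α)} {Ω : Finset α}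

/-- The order of a sharply `k`-transitive group. -/
theorem card_eq (hG : SharpOn k G Ω) (hk : k ≤ Ω.card) :
    Nat.card G = Ω.card.descFactorial k := by
  obtain ⟨s, hs, hsk⟩ := Finset.exists_subset_card_eq hk
  obtain ⟨u, hu, hu'⟩ := SharpOn.exists_tuple s hsk
  let F : G → (Fin k ↪ Ω) := fun g =>
    ⟨fun i => ⟨g.1 (u i), (hG.map_mem_iff g.2 _).2 (hs (hu' i))⟩, fun i j h => by
      have := congrArg Subtype.val h
      exact hu (g.1.injective this)⟩
  have hF : Function.Bijective F := by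
    constructor
    · intro g g' h
      have h1 : g⁻¹.1 * g'.1 = 1 := by
        apply hG.sh _ (G.mul_mem (G.inv_mem g.2) g'.2) u hu (fun i => hs (hu' i))
        intro i
        have this : g.1 (u i) = g'.1 (u i) := congrArg (fun e : Fin k ↪ Ω => (e i).1) h
        show (g.1)⁻¹ (g'.1 (u i)) = u i
        rw [← this]
        simp
      apply Subtype.ext
      have := inv_mul_eq_one.1 h1
      simpa using this.symm.symm
    · intro e
      obtain ⟨g, hg, h⟩ := hG.tr u (fun i => (e i).1) hu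
        (fun i j h => e.injective (Subtype.ext h)) (fun i => hs (hu' i)) (fun i => (e i).2)
      refine ⟨⟨g, hg⟩, ?_⟩
      ext i
      simp only [F, Function.Embedding.coeFn_mk]
      exact h i
  rw [Nat.card_congr (Equiv.ofBijective F hF), Nat.card_eq_fintype_card, Fintype.card_embedding_eq]
  simp

/-- Reduction to smaller transitivity. -/
theorem reduce_to (m j : ℕ) (G : Subgroup (Perm α)) (Ω : Finset α) (hG : SharpOn (j + m) G Ω)
    (hle : j + m ≤ Ω.card) :
    ∃ (G' : Subgroup (Perm α)) (Ω' : Finset α), SharpOn j G' Ω' ∧ Ω'.card + m = Ω.card := by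
  induction m generalizing G Ω with
  | zero => exact ⟨G, Ω, hG, rfl⟩
  | succ m ih =>
    have hne : Ω.Nonempty := by rw [← card_pos]; omega
    obtain ⟨a, ha⟩ := hne
    have h1 := SharpOn.reduce (k := j + m) hG ha
    have hc : (Ω.erase a).card = Ω.card - 1 := card_erase_of_mem ha
    obtain ⟨G', Ω', h2, h3⟩ := ih _ _ h1 (by omega)
    exact ⟨G', Ω', h2, by omega⟩

/-! ### Elements of prime order in prime degree -/

theorem no_fix_of_prime {p : ℕ} [Fact p.Prime] (hG : SharpOn k G Ω) (hΩ : Ω.card = p)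
    (hkp : k ≤ p) {σ : Perm α} (hσ : σ ∈ G) (h1 : σ ≠ 1) (hp : σ ^ p = 1) {w : α} (hw : w ∈ Ω) :
    σ w ≠ w := by
  intro hfix
  have hpow : σ ^ p ^ 1 = 1 := by rwa [pow_one]
  have hmod := Equiv.Perm.card_compl_support_modEq hpow
  have hlt := hG.card_fix_lt hσ h1
  have hsupp : σ.support = Ω.filter (fun x => σ x ≠ x) := by
    ext x
    simp only [Perm.mem_support, mem_filter]
    constructor
    · intro h
      refine ⟨?_, h⟩
      by_contra hx
      exact h (hG.out σ hσ x hx)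
    · exact fun h => h.2
  have hsum := card_filter_add_card_filter_not (s := Ω) (fun x => σ x = x)
  have hpos : 0 < (Ω.filter (fun x => σ x = x)).card := card_pos.2 ⟨w, mem_filter.2 ⟨hw, hfix⟩⟩
  rw [hsupp, card_compl] at hmod
  simp only [ne_eq] at hmod
  set A := (Ω.filter (fun x => ¬ σ x = x)).card with hA
  set B := (Ω.filter (fun x => σ x = x)).card with hB
  have hle : A ≤ Fintype.card α := by
    rw [hA]; exact card_le_univ _
  have h3 : p ∣ A := by
    have := (Nat.modEq_iff_dvd' (Nat.sub_le _ _)).1 hmod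
    have h4 : Fintype.card α - (Fintype.card α - A) = A := by omega
    rwa [h4] at this
  rcases Nat.eq_zero_or_pos A with h5 | h5
  · omega
  · have := Nat.le_of_dvd h5 h3
    omega

/-- The orbits of an element of order `p` on a set of `p` points. -/
theorem orbit_cover {p : ℕ} [hp' : Fact p.Prime] (hG : SharpOn k G Ω) (hΩ : Ω.card = p)
    (hkp : k ≤ p) {σ : Perm α} (hσ : σ ∈ G) (h1 : σ ≠ 1) (hp : σ ^ p = 1) {a b : α} (ha : a ∈ Ω)
    (hb : b ∈ Ω) : ∃ i : ℕ, (σ ^ i) a = b := by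
  have hprime := hp'.out
  have hinj : Set.InjOn (fun i : ℕ => (σ ^ i) a) (↑(Finset.range p) : Set ℕ) := by
    have key : ∀ i j : ℕ, i < j → j < p → (σ ^ i) a ≠ (σ ^ j) a := by
      intro i j hij hjp h
      have h2 : (σ ^ (j - i)) a = a := by
        have h3 : σ ^ j = σ ^ i * σ ^ (j - i) := by
          rw [← pow_add]; congr 1; omega
        rw [h3, Perm.mul_apply] at h
        exact ((σ ^ i).injective h).symm
      have hd1 : σ ^ (j - i) ≠ 1 := by
        intro h3
        have h4 := orderOf_dvd_of_pow_eq_one h3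
        have h5 := orderOf_dvd_of_pow_eq_one hp
        rcases (Nat.dvd_prime hprime).1 h5 with h6 | h6
        · exact h1 (orderOf_eq_one_iff.1 h6)
        · rw [h6] at h4
          have := Nat.le_of_dvd (by omega) h4
          omega
      have hd2 : (σ ^ (j - i)) ^ p = 1 := by
        rw [← pow_mul, mul_comm, pow_mul, hp, one_pow]
      exact no_fix_of_prime hG hΩ hkp (G.pow_mem hσ _) hd1 hd2 ha h2
    intro i hi j hj h
    simp only [coe_range, Set.mem_Iio] at hi hj
    rcases lt_trichotomy i j with h2 | h2 | h2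
    · exact absurd h (key i j h2 hj)
    · exact h2
    · exact absurd h.symm (key j i h2 hi)
  have hsub : (Finset.range p).image (fun i : ℕ => (σ ^ i) a) ⊆ Ω := by
    intro x hx
    obtain ⟨i, _, rfl⟩ := mem_image.1 hx
    exact (hG.map_mem_iff (G.pow_mem hσ i) a).2 ha
  have hcard : ((Finset.range p).image (fun i : ℕ => (σ ^ i) a)).card = p := by
    rw [card_image_of_injOn hinj, card_range]
  have heq := Finset.eq_of_subset_of_card_le hsub (by rw [hcard, hΩ])
  rw [← heq] at hb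
  obtain ⟨i, _, h⟩ := mem_image.1 hb
  exact ⟨i, h⟩

/-- In prime degree, an element of order `p` is self-centralising. -/
theorem centralizer_le {p : ℕ} [hp' : Fact p.Prime] (hG : SharpOn k G Ω) (hΩ : Ω.card = p)
    (hkp : k ≤ p) {σ y : Perm α} (hσ : σ ∈ G) (h1 : σ ≠ 1) (hp : σ ^ p = 1) (hy : y ∈ G)
    (hc : y * σ = σ * y) : ∃ i : ℕ, y = σ ^ i := by
  have hne : Ω.Nonempty := by
    rw [← card_pos, hΩ]; exact hp'.out.pos
  obtain ⟨a, ha⟩ := hne
  obtain ⟨i, hi⟩ := orbit_cover hG hΩ hkp hσ h1 hp ha ((hG.map_mem_iff hy a).2 ha)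
  refine ⟨i, ?_⟩
  have hcomm : ∀ j : ℕ, y * σ ^ j = σ ^ j * y := fun j => (Commute.pow_right hc j)
  have hcomm2 : ∀ j : ℕ, σ ^ i * σ ^ j = σ ^ j * σ ^ i := fun j => (Commute.pow_pow_self σ i j)
  have hkey : ∀ w ∈ Ω, y w = (σ ^ i) w := by
    intro w hw
    obtain ⟨j, hj⟩ := orbit_cover hG hΩ hkp hσ h1 hp ha hw
    rw [← hj]
    have h2 := congrArg (fun f : Perm α => f a) (hcomm j)
    have h3 := congrArg (fun f : Perm α => f a) (hcomm2 j)
    simp only [Perm.mul_apply] at h2 h3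
    rw [h2, h3, hi]
  -- equality on all points
  have h5 : (σ ^ i)⁻¹ * y = 1 := by
    ext w
    by_cases hw : w ∈ Ω
    · simp [Perm.mul_apply, hkey w hw]
    · have h6 : y w = w := hG.out y hy w hw
      have h7 : (σ ^ i) w = w := hG.out _ (G.pow_mem hσ i) w hw
      simp only [Perm.mul_apply, h6, Perm.one_apply, Perm.inv_eq_iff_eq]
      exact h7.symm
  exact (inv_mul_eq_one.1 h5).symm

/-! ### Sylow counting -/

/-- The normaliser of a subgroup of prime order that is self-centralising. -/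
theorem card_normalizer_le {Γ : Type*} [Group Γ] [Finite Γ] {p : ℕ} [hp' : Fact p.Prime]
    (Q : Subgroup Γ) (hQ : Nat.card Q = p)
    (hC : ∀ x ∈ Q, x ≠ 1 → ∀ y, y * x = x * y → y ∈ Q) :
    Nat.card (Subgroup.normalizer (Q : Set Γ)) ≤ p * (p - 1) := by
  classical
  let _ := Fintype.ofFinite Γ
  have hQ' : (Q : Set Γ).toFinset.card = p := by
    rw [← hQ, Set.toFinset_card]
    exact (Nat.card_eq_fintype_card).symm
  have hex : ∃ x ∈ Q, x ≠ 1 := by
    by_contra hc
    push Not at hc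
    have : Q = ⊥ := (Subgroup.eq_bot_iff_forall Q).2 hc
    rw [this] at hQ
    simp at hQ
    exact hp'.out.one_lt.ne hQ
  obtain ⟨x, hx, hx1⟩ := hex
  let φ : Subgroup.normalizer (Q : Set Γ) → Γ := fun y => (y : Γ) * x * (y : Γ)⁻¹
  have hφ : ∀ y, φ y ∈ (Q : Set Γ).toFinset.erase 1 := by
    intro y
    simp only [φ, mem_erase, Set.mem_toFinset, SetLike.mem_coe]
    refine ⟨?_, (Subgroup.mem_normalizer_iff.1 y.2 x).1 hx⟩
    intro h
    apply hx1
    have : x = (y : Γ)⁻¹ * ((y : Γ) * x * (y : Γ)⁻¹) * y := by group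
    rw [this, h]; group
  have hb := Finset.card_le_mul_card_image (f := φ) (univ : Finset (Subgroup.normalizer (Q : Set Γ))) p ?_
  · have himg : (univ.image φ).card ≤ p - 1 := by
      have hs : univ.image φ ⊆ (Q : Set Γ).toFinset.erase 1 := by
        intro v hv
        obtain ⟨y, _, rfl⟩ := mem_image.1 hv
        exact hφ y
      have h2 := card_le_card hs
      rw [card_erase_of_mem (by simp [Subgroup.one_mem]), hQ'] at h2
      exact h2
    rw [Nat.card_eq_fintype_card, ← card_univ]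
    calc _ ≤ p * (univ.image φ).card := hb
      _ ≤ p * (p - 1) := Nat.mul_le_mul_left _ himg
  · intro v hv
    obtain ⟨y0, _, rfl⟩ := mem_image.1 hv
    rw [← hQ']
    apply Finset.card_le_card_of_injOn (fun y : Subgroup.normalizer (Q : Set Γ) => (y0 : Γ)⁻¹ * (y : Γ))
    · intro y hy
      have hy' : φ y = φ y0 := (mem_filter.1 hy).2
      simp only [φ] at hy'
      rw [mem_coe, Set.mem_toFinset, SetLike.mem_coe]
      apply hC x hx hx1
      have h3 : (y : Γ) * x = (y0 : Γ) * x * (y0 : Γ)⁻¹ * y := by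
        rw [← hy']; group
      calc (y0 : Γ)⁻¹ * y * x = (y0 : Γ)⁻¹ * (y * x) := by group
        _ = (y0 : Γ)⁻¹ * ((y0 : Γ) * x * (y0 : Γ)⁻¹ * y) := by rw [h3]
        _ = x * ((y0 : Γ)⁻¹ * y) := by group
    · intro y _ y' _ h
      apply Subtype.ext
      exact mul_left_cancel h

/-- The order of the normaliser when the prime is large. -/
theorem card_normalizer_eq {Γ : Type*} [Group Γ] [Finite Γ] {p : ℕ} [hp' : Fact p.Prime]
    (Q : Sylow p Γ) (hQ : Nat.card Q = p)
    (hC : ∀ x ∈ (Q : Subgroup Γ), x ≠ 1 → ∀ y, y * x = x * y → y ∈ (Q : Subgroup Γ)) :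
    ∃ d n, Nat.card (Subgroup.normalizer ((Q : Subgroup Γ) : Set Γ)) = p * d ∧ d ≤ p - 1 ∧
      n % p = 1 % p ∧ p * d * n = Nat.card Γ := by
  have h1 := card_normalizer_le (Q : Subgroup Γ) hQ hC
  have h2 : (Q : Subgroup Γ) ≤ Subgroup.normalizer ((Q : Subgroup Γ) : Set Γ) :=
    Subgroup.le_normalizer
  have h3 : p ∣ Nat.card (Subgroup.normalizer ((Q : Subgroup Γ) : Set Γ)) := by
    have := Subgroup.card_dvd_of_le h2
    rwa [hQ] at this
  obtain ⟨d, hd⟩ := h3
  have hp := hp'.out.pos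
  refine ⟨d, Nat.card (Sylow p Γ), hd, ?_, ?_, ?_⟩
  · rw [hd] at h1
    exact Nat.le_of_mul_le_mul_left h1 hp
  · exact card_sylow_modEq_one p Γ
  · rw [← hd, Sylow.card_eq_index_normalizer Q]
    exact Subgroup.card_mul_index _

/-- A Sylow subgroup of prime order. -/
theorem card_sylow_eq {Γ : Type*} [Group Γ] [Finite Γ] {p : ℕ} [hp' : Fact p.Prime] (Q : Sylow p Γ)
    (h1 : p ∣ Nat.card Γ) (h2 : ¬ p ^ 2 ∣ Nat.card Γ) : Nat.card Q = p := by
  have h3 : p ^ 1 ∣ Nat.card Q := Q.pow_dvd_card_of_pow_dvd_card (by simpa using h1)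
  have h4 := Subgroup.card_subgroup_dvd_card (Q : Subgroup Γ)
  obtain ⟨k, hk⟩ := IsPGroup.exists_card_eq Q.isPGroup'
  rw [hk] at h3 h4 ⊢
  have hk1 : 1 ≤ k := (Nat.pow_dvd_pow_iff_le_right hp'.out.one_lt).1 h3
  have hk2 : k < 2 := by
    by_contra hc
    push Not at hc
    exact h2 ((pow_dvd_pow p hc).trans h4)
  have : k = 1 := by omega
  rw [this, pow_one]

/-- If a subgroup of order `p` sits inside a normal subgroup whose order it divides. -/
theorem mem_normal_of_coprime {Γ : Type*} [Group Γ] [Finite Γ] {p : ℕ} [hp' : Fact p.Prime]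
    (K : Subgroup Γ) [K.Normal] (hK : Nat.Coprime p K.index) {x : Γ} (hx : x ^ p = 1) : x ∈ K := by
  have h1 := Subgroup.pow_index_mem K x
  by_cases hi : K.index = 1
  · have := Subgroup.index_eq_one.1 hi
    rw [this]; exact Subgroup.mem_top _
  obtain ⟨m, hm⟩ : ∃ m, K.index * m ≡ 1 [MOD p] := by
    have := Nat.exists_mul_mod_eq_one_of_coprime hK.symm hp'.out.one_lt
    obtain ⟨m, -, hm⟩ := this
    refine ⟨m, ?_⟩
    unfold Nat.ModEq
    rw [hm, Nat.mod_eq_of_lt hp'.out.one_lt]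
  have h2 : (x ^ K.index) ^ m = x := by
    rw [← pow_mul]
    have h3 := orderOf_dvd_of_pow_eq_one hx
    have h4 : x ^ (K.index * m) = x ^ 1 := by
      rw [pow_eq_pow_iff_modEq]
      exact hm.of_dvd h3
    simpa using h4
  rw [← h2]
  exact K.pow_mem h1 m

/-! ### Transitivity of normal subgroups and counting -/

theorem trans_le (hG : SharpOn k G Ω) (hk : k ≤ Ω.card) (j : ℕ) (hj : j ≤ k) :
    ∀ u v : Fin j → α, Function.Injective u → Function.Injective v → (∀ i, u i ∈ Ω) →
      (∀ i, v i ∈ Ω) → ∃ g ∈ G, ∀ i, g (u i) = v i := by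
  induction hj using Nat.decreasingInduction with
  | self => exact hG.tr
  | of_succ j hj ih =>
    intro u v hu hv hu' hv'
    have hex : ∀ w : Fin j → α, ∃ a ∈ Ω, ∀ i, w i ≠ a := by
      intro w
      by_contra hc
      push Not at hc
      have : Ω ⊆ univ.image w := by
        intro a ha
        obtain ⟨i, hi⟩ := hc a ha
        exact mem_image.2 ⟨i, mem_univ i, hi⟩
      have h1 := card_le_card this
      have h2 : (univ.image w).card ≤ j := by
        simpa using (card_image_le (s := (univ : Finset (Fin j))) (f := w))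
      omega
    obtain ⟨a, ha, ha'⟩ := hex u
    obtain ⟨b, hb, hb'⟩ := hex v
    obtain ⟨g, hg, h⟩ := ih (Fin.cons a u) (Fin.cons b v) (fin_cons_inj hu ha') (fin_cons_inj hv hb')
      (fun i => by
        refine Fin.cases ?_ (fun l => ?_) i
        · simpa using ha
        · simpa using hu' l)
      (fun i => by
        refine Fin.cases ?_ (fun l => ?_) i
        · simpa using hb
        · simpa using hv' l)
    exact ⟨g, hg, fun i => by simpa using h i.succ⟩

theorem exists_pair (hG : SharpOn k G Ω) (hk : k ≤ Ω.card) (h2 : 2 ≤ k) {a b c d : α} (ha : a ∈ Ω)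
    (hb : b ∈ Ω) (hc : c ∈ Ω) (hd : d ∈ Ω) (hab : a ≠ b) (hcd : c ≠ d) :
    ∃ g ∈ G, g a = c ∧ g b = d := by
  have inj : ∀ x y : α, x ≠ y → Function.Injective ![x, y] := by
    intro x y hxy i j h
    fin_cases i <;> fin_cases j <;> simp_all
  have mem : ∀ x y : α, x ∈ Ω → y ∈ Ω → ∀ i, ![x, y] i ∈ Ω := by
    intro x y hx hy i
    fin_cases i <;> simp [hx, hy]
  obtain ⟨g, hg, h⟩ := trans_le hG hk 2 h2 ![a, b] ![c, d] (inj a b hab) (inj c d hcd)
    (mem a b ha hb) (mem c d hc hd)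
  exact ⟨g, hg, by simpa using h 0, by simpa using h 1⟩

/-- A nontrivial normal subgroup of a 2-transitive group is transitive. -/
theorem trans_of_normal (hG : SharpOn k G Ω) (hk : k ≤ Ω.card) (h2 : 2 ≤ k)
    {K : Subgroup (Perm α)} (hK : K ≤ G) (hn : ∀ g ∈ G, ∀ h ∈ K, g * h * g⁻¹ ∈ K) (hne : K ≠ ⊥) :
    ∀ x ∈ Ω, ∀ y ∈ Ω, ∃ h ∈ K, h x = y := by
  obtain ⟨k0, hk0, hk01⟩ := (Subgroup.bot_or_exists_ne_one K).resolve_left hne
  have hex : ∃ u ∈ Ω, k0 u ≠ u := by
    by_contra hc
    push Not at hc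
    apply hk01
    ext w
    by_cases hw : w ∈ Ω
    · simpa using hc w hw
    · simpa using hG.out k0 (hK hk0) w hw
  obtain ⟨u, hu, huv⟩ := hex
  have hv : k0 u ∈ Ω := (hG.map_mem_iff (hK hk0) u).2 hu
  intro x hx y hy
  by_cases hxy : x = y
  · exact ⟨1, K.one_mem, by simp [hxy]⟩
  obtain ⟨g, hg, h1, h3⟩ := exists_pair hG hk h2 hu hv hx hy huv.symm hxy
  refine ⟨g * k0 * g⁻¹, hn g hg k0 hk0, ?_⟩
  have : g⁻¹ x = u := by rw [Perm.inv_eq_iff_eq]; exact h1.symm
  simp [Perm.mul_apply, this, h3]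

/-- Orbit-stabiliser. -/
theorem card_of_trans {K : Subgroup (Perm α)} {Ω : Finset α} (hmap : ∀ h ∈ K, ∀ w ∈ Ω, h w ∈ Ω)
    (htr : ∀ x ∈ Ω, ∀ y ∈ Ω, ∃ h ∈ K, h x = y) {x : α} (hx : x ∈ Ω) :
    Nat.card K = Ω.card * Nat.card (fixer K x) := by
  have h1 := Subgroup.index_mul_card (MulAction.stabilizer K x)
  rw [MulAction.index_stabilizer] at h1
  have h2 : MulAction.orbit K x = (↑Ω : Set α) := by
    ext y
    simp only [MulAction.mem_orbit_iff, mem_coe]
    constructor
    · rintro ⟨h, rfl⟩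
      exact hmap h.1 h.2 x hx
    · intro hy
      obtain ⟨h, hh, h3⟩ := htr x hx y hy
      exact ⟨⟨h, hh⟩, h3⟩
  rw [h2, Set.ncard_coe_finset] at h1
  rw [← h1]
  congr 1
  apply Nat.card_congr
  exact
    { toFun := fun h => ⟨h.1.1, mem_fixer.2 ⟨h.1.2, h.2⟩⟩
      invFun := fun h => ⟨⟨h.1, (mem_fixer.1 h.2).1⟩, (mem_fixer.1 h.2).2⟩
      left_inv := fun h => rfl
      right_inv := fun h => rfl }

theorem hC_of {p : ℕ} [hp' : Fact p.Prime] (hG : SharpOn k G Ω) (hΩ : Ω.card = p) (hkp : k ≤ p)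
    (Q : Sylow p G) (hQ : Nat.card Q = p) :
    ∀ x ∈ (Q : Subgroup G), x ≠ 1 → ∀ y, y * x = x * y → y ∈ (Q : Subgroup G) := by
  intro x hx hx1 y hy
  have h1 : x ^ p = 1 := by
    have := pow_card_eq_one' (G := (Q : Subgroup G)) (x := ⟨x, hx⟩)
    rw [hQ] at this
    simpa using congrArg Subtype.val this
  have h2 : x.1 ^ p = 1 := by
    have := congrArg Subtype.val h1
    simpa using this
  have h3 : x.1 ≠ 1 := fun h => hx1 (Subtype.ext h)
  have h4 : y.1 * x.1 = x.1 * y.1 := congrArg Subtype.val hy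
  obtain ⟨i, hi⟩ := centralizer_le hG hΩ hkp x.2 h3 h2 y.2 h4
  have h5 : y = x ^ i := Subtype.ext (by simpa using hi)
  rw [h5]
  exact Subgroup.pow_mem _ hx i

section NormalData

variable {K : Subgroup G}

theorem map_le (K : Subgroup G) : K.map G.subtype ≤ G := by
  rintro _ ⟨h, _, rfl⟩
  exact h.2

theorem map_normal (K : Subgroup G) [hK : K.Normal] :
    ∀ g ∈ G, ∀ h ∈ K.map G.subtype, g * h * g⁻¹ ∈ K.map G.subtype := by
  rintro g hg _ ⟨h, hh, rfl⟩
  exact ⟨⟨g, hg⟩ * h * ⟨g, hg⟩⁻¹, hK.conj_mem h hh ⟨g, hg⟩, rfl⟩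

theorem map_ne_bot (K : Subgroup G) (hne : K ≠ ⊥) : K.map G.subtype ≠ ⊥ := by
  intro h
  apply hne
  exact (Subgroup.map_eq_bot_iff_of_injective K G.subtype_injective).1 h

theorem card_map (K : Subgroup G) : Nat.card (K.map G.subtype) = Nat.card K :=
  Nat.card_congr (K.equivMapOfInjective _ G.subtype_injective).toEquiv.symm

end NormalData

/-- Normal subgroups in the stabiliser. -/
theorem fixer_normal {K : Subgroup (Perm α)} (hn : ∀ g ∈ G, ∀ h ∈ K, g * h * g⁻¹ ∈ K) (x : α) :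
    ∀ g ∈ fixer G x, ∀ h ∈ fixer K x, g * h * g⁻¹ ∈ fixer K x := by
  intro g hg h hh
  rw [mem_fixer] at hg hh ⊢
  refine ⟨hn g hg.1 h hh.1, ?_⟩
  have : g⁻¹ x = x := by rw [Perm.inv_eq_iff_eq]; exact hg.2.symm
  simp [Perm.mul_apply, this, hh.2, hg.2]

theorem fixer_mono {K : Subgroup (Perm α)} (hK : K ≤ G) (x : α) : fixer K x ≤ fixer G x := by
  intro h hh
  rw [mem_fixer] at hh ⊢
  exact ⟨hK hh.1, hh.2⟩

/-- Sharply 4-transitive of degree 11: simple of order 7920. -/
theorem simple11 (hG : SharpOn 4 G Ω) (hΩ : Ω.card = 11) : IsSimpleGroup G ∧ Nat.card G = 7920 := by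
  have hfact : Fact (Nat.Prime 11) := ⟨by norm_num⟩
  have hcard : Nat.card G = 7920 := by
    rw [card_eq hG (by omega), hΩ]; rfl
  refine ⟨?_, hcard⟩
  have : Finite G := inferInstance
  have hnt : Nontrivial G := by
    rw [← Finite.one_lt_card_iff_nontrivial, hcard]; norm_num
  refine ⟨fun K hKn => ?_⟩
  by_cases hbot : K = ⊥
  · exact Or.inl hbot
  right
  have hne : Ω.Nonempty := by rw [← card_pos]; omega
  obtain ⟨x, hx⟩ := hne
  have hK' := map_le K
  have hn := map_normal K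
  have hne' := map_ne_bot K hbot
  have htr := trans_of_normal hG (by omega) (by norm_num) hK' hn hne'
  have hmap : ∀ h ∈ K.map G.subtype, ∀ w ∈ Ω, h w ∈ Ω := fun h hh w hw =>
    (hG.map_mem_iff (hK' hh) w).2 hw
  have hc1 := card_of_trans hmap htr hx
  rw [card_map, hΩ] at hc1
  have hc2 := Subgroup.index_mul_card K
  rw [hcard] at hc2
  obtain ⟨Q⟩ : Nonempty (Sylow 11 G) := inferInstance
  have hQ : Nat.card Q = 11 := card_sylow_eq Q (by rw [hcard]; norm_num) (by rw [hcard]; norm_num)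
  have hcop : Nat.Coprime 11 K.index := by
    rw [Nat.Prime.coprime_iff_not_dvd (by norm_num)]
    intro h
    obtain ⟨a, ha⟩ := h
    rw [ha, hc1] at hc2
    have : 121 ∣ 7920 := ⟨a * Nat.card (fixer (K.map G.subtype) x), by rw [← hc2]; ring⟩
    norm_num at this
  have hQK : (Q : Subgroup G) ≤ K := by
    intro y hy
    apply mem_normal_of_coprime (p := 11) K hcop
    have := pow_card_eq_one' (G := (Q : Subgroup G)) (x := ⟨y, hy⟩)
    rw [hQ] at this
    simpa using congrArg Subtype.val this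
  obtain ⟨d, n, hd1, hd2, hn1, hn2⟩ := card_normalizer_eq Q hQ
    (hC_of hG hΩ (by norm_num) Q hQ)
  rw [hcard] at hn2
  have hd3 : d = 5 := by
    have hdn : d * n = 720 := by nlinarith
    have hd0 : d ≠ 0 := by rintro rfl; omega
    have hn720 : n ≤ 720 := by nlinarith [Nat.pos_of_ne_zero hd0]
    have hd10 : d ≤ 10 := by omega
    interval_cases d <;> omega
  subst hd3
  have hfr : Subgroup.normalizer ((Q : Subgroup G) : Set G) ⊔ K = ⊤ :=
    Sylow.normalizer_sup_eq_top' Q hQK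
  set N := Subgroup.normalizer ((Q : Subgroup G) : Set G) with hN
  have hri : K.index = K.relIndex N := by
    rw [← Subgroup.relIndex_sup_right, hfr, Subgroup.relIndex_top_right]
  have h55 : K.index * Nat.card (K.subgroupOf N) = 55 := by
    rw [hri]
    have := Subgroup.index_mul_card (K.subgroupOf N)
    rw [hd1] at this
    simpa [Subgroup.relIndex] using this
  have hQN : (Q : Subgroup G) ≤ N := Subgroup.le_normalizer
  have h11 : 11 ∣ Nat.card (K.subgroupOf N) := by
    have h1 : (Q : Subgroup G).subgroupOf N ≤ K.subgroupOf N := by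
      intro y hy
      rw [Subgroup.mem_subgroupOf] at hy ⊢
      exact hQK hy
    have h2 := Subgroup.card_dvd_of_le h1
    have h3 : Nat.card ((Q : Subgroup G).subgroupOf N) = 11 := by
      rw [Nat.card_congr (Subgroup.subgroupOfEquivOfLe hQN).toEquiv]
      exact hQ
    rwa [h3] at h2
  obtain ⟨b, hb⟩ := h11
  have hidx : K.index * b = 5 := by
    rw [hb] at h55
    nlinarith
  have hidx' : K.index = 1 ∨ K.index = 5 := by
    have : K.index ∣ 5 := ⟨b, hidx.symm⟩
    exact (Nat.dvd_prime (by norm_num)).1 this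
  rcases hidx' with h1 | h5
  · exact Subgroup.index_eq_one.1 h1
  · exfalso
    rw [h5] at hc2
    have hK1584 : Nat.card K = 1584 := by omega
    have hfx : Nat.card (fixer (K.map G.subtype) x) = 144 := by omega
    -- the point stabiliser acts on the remaining ten points
    have hGx : SharpOn 3 (fixer G x) (Ω.erase x) := hG.reduce hx
    have hcardx : (Ω.erase x).card = 10 := by rw [card_erase_of_mem hx, hΩ]
    have hle : fixer (K.map G.subtype) x ≤ fixer G x := fixer_mono hK' x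
    have hnorm := fixer_normal (K := K.map G.subtype) hn x
    have hnorm' : ∀ g ∈ fixer G x, ∀ h ∈ fixer (K.map G.subtype) x,
        g * h * g⁻¹ ∈ fixer (K.map G.subtype) x := hnorm
    have hne2 : fixer (K.map G.subtype) x ≠ ⊥ := by
      intro hb0
      rw [hb0] at hfx
      simp at hfx
    have htr2 := trans_of_normal hGx (by omega) (by norm_num) hle hnorm' hne2
    have hmap2 : ∀ h ∈ fixer (K.map G.subtype) x, ∀ w ∈ Ω.erase x, h w ∈ Ω.erase x := by
      intro h hh w hw
      exact (hGx.map_mem_iff (hle hh) w).2 hw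
    have hne3 : (Ω.erase x).Nonempty := by rw [← card_pos]; omega
    obtain ⟨y, hy⟩ := hne3
    have hc3 := card_of_trans hmap2 htr2 hy
    rw [hfx, hcardx] at hc3
    omega

/-- Sharply 5-transitive of degree 12: simple of order 95040. -/
theorem simple12 (hG : SharpOn 5 G Ω) (hΩ : Ω.card = 12) : IsSimpleGroup G ∧ Nat.card G = 95040 := by
  have hcard : Nat.card G = 95040 := by
    rw [card_eq hG (by omega), hΩ]; rfl
  refine ⟨?_, hcard⟩
  have : Finite G := inferInstance
  have hnt : Nontrivial G := by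
    rw [← Finite.one_lt_card_iff_nontrivial, hcard]; norm_num
  refine ⟨fun K hKn => ?_⟩
  by_cases hbot : K = ⊥
  · exact Or.inl hbot
  right
  have hne : Ω.Nonempty := by rw [← card_pos]; omega
  obtain ⟨x, hx⟩ := hne
  have hK' := map_le K
  have hn := map_normal K
  have hne' := map_ne_bot K hbot
  have htr := trans_of_normal hG (by omega) (by norm_num) hK' hn hne'
  have hmap : ∀ h ∈ K.map G.subtype, ∀ w ∈ Ω, h w ∈ Ω := fun h hh w hw =>
    (hG.map_mem_iff (hK' hh) w).2 hw
  have hc1 := card_of_trans hmap htr hx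
  rw [card_map, hΩ] at hc1
  have hGx : SharpOn 4 (fixer G x) (Ω.erase x) := hG.reduce hx
  have hcardx : (Ω.erase x).card = 11 := by rw [card_erase_of_mem hx, hΩ]
  obtain ⟨hsimp, hcx⟩ := simple11 hGx hcardx
  have hle : fixer (K.map G.subtype) x ≤ fixer G x := fixer_mono hK' x
  have hnorm : ((fixer (K.map G.subtype) x).subgroupOf (fixer G x)).Normal := by
    refine ⟨fun h hh g => ?_⟩
    rw [Subgroup.mem_subgroupOf] at hh ⊢
    exact fixer_normal (K := K.map G.subtype) hn x g.1 g.2 h.1 hh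
  rcases hsimp.eq_bot_or_eq_top_of_normal _ hnorm with h0 | h1
  · -- regular normal subgroup of order twelve
    exfalso
    have hbot2 : fixer (K.map G.subtype) x = ⊥ := by
      rw [Subgroup.subgroupOf_eq_bot] at h0
      exact disjoint_of_le_iff_left_eq_bot hle |>.1 h0
    rw [hbot2] at hc1
    simp only [Subgroup.card_bot, mul_one] at hc1
    have hreg : ∀ h ∈ K.map G.subtype, h x = x → h = 1 := by
      intro h hh hhx
      have : h ∈ fixer (K.map G.subtype) x := mem_fixer.2 ⟨hh, hhx⟩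
      rw [hbot2] at this
      exact this
    have hfact2 : Fact (Nat.Prime 2) := ⟨by norm_num⟩
    have hfact3 : Fact (Nat.Prime 3) := ⟨by norm_num⟩
    obtain ⟨a, ha⟩ := exists_prime_orderOf_dvd_card' (G := K) 2 (by rw [hc1]; norm_num)
    obtain ⟨b, hb⟩ := exists_prime_orderOf_dvd_card' (G := K) 3 (by rw [hc1]; norm_num)
    have ha' : (a.1.1 : Perm α) ∈ K.map G.subtype := ⟨a.1, a.2, rfl⟩
    have hb' : (b.1.1 : Perm α) ∈ K.map G.subtype := ⟨b.1, b.2, rfl⟩
    have ha1 : a.1.1 ≠ 1 := by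
      intro h
      have : a = 1 := Subtype.ext (Subtype.ext h)
      rw [this, orderOf_one] at ha
      omega
    have hb1 : b.1.1 ≠ 1 := by
      intro h
      have : b = 1 := Subtype.ext (Subtype.ext h)
      rw [this, orderOf_one] at hb
      omega
    have hax : a.1.1 x ≠ x := fun h => ha1 (hreg _ ha' h)
    have hbx : b.1.1 x ≠ x := fun h => hb1 (hreg _ hb' h)
    have hax' : a.1.1 x ∈ Ω := hmap _ ha' _ hx
    have hbx' : b.1.1 x ∈ Ω := hmap _ hb' _ hx
    obtain ⟨g, hg, hgg⟩ := trans_le (k := 4) hGx (by omega) 1 (by norm_num)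
      (fun _ => a.1.1 x) (fun _ => b.1.1 x) (fun i j _ => Subsingleton.elim i j)
      (fun i j _ => Subsingleton.elim i j)
      (fun _ => mem_erase.2 ⟨hax, hax'⟩) (fun _ => mem_erase.2 ⟨hbx, hbx'⟩)
    have hgg' := hgg 0
    have hgm := mem_fixer.1 hg
    have hgx : g⁻¹ x = x := by rw [Perm.inv_eq_iff_eq]; exact hgm.2.symm
    have hconj : g * a.1.1 * g⁻¹ ∈ K.map G.subtype := hn g hgm.1 _ ha'
    have hq : (g * a.1.1 * g⁻¹) = b.1.1 := by
      have hcomb : (b.1.1)⁻¹ * (g * a.1.1 * g⁻¹) = 1 := by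
        apply hreg _ ((K.map G.subtype).mul_mem ((K.map G.subtype).inv_mem hb') hconj)
        simp only [Perm.mul_apply, hgx]
        rw [hgg']; simp
      exact (inv_mul_eq_one.1 hcomb).symm
    have h2 : a.1.1 ^ 2 = 1 := by
      have : a ^ 2 = 1 := by rw [← ha]; exact pow_orderOf_eq_one a
      exact congrArg (fun z : K => z.1.1) this
    have h3 : b.1.1 ^ 3 = 1 := by
      have : b ^ 3 = 1 := by rw [← hb]; exact pow_orderOf_eq_one b
      exact congrArg (fun z : K => z.1.1) this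
    have h4 : b.1.1 ^ 2 = 1 := by
      rw [← hq, conj_pow, h2]
      simp
    have h5 : b.1.1 = 1 := by
      have : b.1.1 ^ 3 = b.1.1 ^ 2 * b.1.1 := pow_succ _ _
      rw [h3, h4, one_mul] at this
      exact this.symm
    exact hb1 h5
  · have htop : fixer G x ≤ fixer (K.map G.subtype) x := by
      rw [Subgroup.subgroupOf_eq_top] at h1
      exact h1
    have heq : fixer (K.map G.subtype) x = fixer G x := le_antisymm hle htop
    rw [heq, hcx] at hc1
    have hK95040 : Nat.card K = 95040 := hc1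
    exact Subgroup.eq_top_of_card_eq K (by rw [hK95040, hcard])

/-- There is no sharply 6-transitive group of degree 13. -/
theorem no13 (hG : SharpOn 6 G Ω) (hΩ : Ω.card = 13) : False := by
  have hfact : Fact (Nat.Prime 13) := ⟨by norm_num⟩
  have hcard : Nat.card G = 1235520 := by
    rw [card_eq hG (by omega), hΩ]; rfl
  obtain ⟨Q⟩ : Nonempty (Sylow 13 G) := inferInstance
  have hQ : Nat.card Q = 13 := card_sylow_eq Q (by rw [hcard]; norm_num) (by rw [hcard]; norm_num)
  have hCQ := hC_of hG hΩ (by norm_num) Q hQ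
  obtain ⟨d, n, hd1, hd2, hn1, hn2⟩ := card_normalizer_eq Q hQ hCQ
  rw [hcard] at hn2
  have hd3 : d = 10 := by
    have hdn : d * n = 95040 := by nlinarith
    have hd0 : d ≠ 0 := by rintro rfl; omega
    have hd10 : d ≤ 12 := by omega
    interval_cases d <;> omega
  subst hd3
  set N := Subgroup.normalizer ((Q : Subgroup G) : Set G) with hN
  have hfact5 : Fact (Nat.Prime 5) := ⟨by norm_num⟩
  obtain ⟨y, hy⟩ := exists_prime_orderOf_dvd_card' (G := N) 5 (by rw [hd1]; norm_num)
  -- a generator of `Q`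
  have hQnt : Nontrivial (Q : Subgroup G) := by
    rw [← Finite.one_lt_card_iff_nontrivial, hQ]; norm_num
  obtain ⟨x, hx1⟩ := exists_ne (1 : (Q : Subgroup G))
  have hx1' : (x : G) ≠ 1 := fun h => hx1 (Subtype.ext h)
  have hx13 : x ^ 13 = 1 := by
    have := pow_card_eq_one' (x := x)
    rwa [hQ] at this
  have hordx : orderOf x = 13 := orderOf_eq_prime hx13 hx1
  have hgen : ∀ z : (Q : Subgroup G), ∃ i : ℕ, x ^ i = z := by
    have htop : Subgroup.zpowers x = ⊤ := by
      apply Subgroup.eq_top_of_card_eq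
      rw [hQ, Nat.card_zpowers, hordx]
    intro z
    have hz : z ∈ Subgroup.zpowers x := by rw [htop]; exact Subgroup.mem_top _
    rw [← mem_powers_iff_mem_zpowers] at hz
    obtain ⟨i, hi⟩ := hz
    exact ⟨i, hi⟩
  have hconj : ∃ i : ℕ, y.1 * x.1 * y.1⁻¹ = x.1 ^ i := by
    have hmem : y.1 * x.1 * y.1⁻¹ ∈ (Q : Subgroup G) :=
      (Subgroup.mem_normalizer_iff.1 y.2 x.1).1 x.2
    obtain ⟨i, hi⟩ := hgen ⟨_, hmem⟩
    exact ⟨i, by simpa using (congrArg Subtype.val hi).symm⟩
  obtain ⟨i, hi⟩ := hconj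
  have hpow : ∀ j : ℕ, y.1 ^ j * x.1 * (y.1 ^ j)⁻¹ = x.1 ^ (i ^ j) := by
    intro j
    induction j with
    | zero => simp
    | succ j ih =>
      calc y.1 ^ (j + 1) * x.1 * (y.1 ^ (j + 1))⁻¹
          = y.1 * (y.1 ^ j * x.1 * (y.1 ^ j)⁻¹) * y.1⁻¹ := by rw [pow_succ']; group
        _ = y.1 * x.1 ^ (i ^ j) * y.1⁻¹ := by rw [ih]
        _ = (y.1 * x.1 * y.1⁻¹) ^ (i ^ j) := by rw [conj_pow]
        _ = x.1 ^ (i ^ (j + 1)) := by rw [hi, ← pow_mul, pow_succ']
  have hy5 : y.1 ^ 5 = 1 := by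
    have : y ^ 5 = 1 := by rw [← hy]; exact pow_orderOf_eq_one y
    exact congrArg Subtype.val this
  have h5 := hpow 5
  rw [hy5] at h5
  simp only [one_mul, inv_one, mul_one] at h5
  have hordx' : orderOf x.1 = 13 := by rw [Subgroup.orderOf_coe, hordx]
  have h6 : x.1 ^ 1 = x.1 ^ (i ^ 5) := by rw [pow_one]; exact h5
  rw [pow_eq_pow_iff_modEq, hordx'] at h6
  have h7 : i % 13 = 1 := by
    have h8 : i ^ 5 % 13 = 1 := h6.symm
    rw [Nat.pow_mod] at h8
    have h9 : i % 13 < 13 := Nat.mod_lt _ (by norm_num)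
    have key : ∀ r : Fin 13, r.1 ^ 5 % 13 = 1 → r.1 = 1 := by decide
    exact key ⟨i % 13, h9⟩ h8
  have h10 : x.1 ^ i = x.1 := by
    have : x.1 ^ i = x.1 ^ 1 := by
      rw [pow_eq_pow_iff_modEq, hordx']
      exact h7
    rwa [pow_one] at this
  have hcomm : y.1 * x.1 = x.1 * y.1 := by
    rw [← h10] at hi ⊢
    rw [h10] at hi ⊢
    rw [mul_inv_eq_iff_eq_mul] at hi
    rw [hi, h10]
  have hyQ : y.1 ∈ (Q : Subgroup G) := hCQ x.1 x.2 hx1' y.1 hcomm
  have hy13 : y.1 ^ 13 = 1 := by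
    have := pow_card_eq_one' (x := (⟨y.1, hyQ⟩ : (Q : Subgroup G)))
    rw [hQ] at this
    simpa using congrArg Subtype.val this
  have hy' : orderOf y.1 = 5 := by rw [Subgroup.orderOf_coe, hy]
  have := orderOf_dvd_of_pow_eq_one hy13
  rw [hy'] at this
  norm_num at this

end Cfsg.Agent.Lib.SharpTrans2
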