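import Mathlib
import Cfsg.Agent.Lib.Ord7920P
import Cfsg.Agent.Lib.Sharp4
import Cfsg.Agent.S0426

/-!
# Simple groups of order 7920, part Q: the Steiner system
-/

set_option autoImplicit false
set_option linter.unusedSectionVars false
set_option linter.style.haveILetI false
set_option linter.unusedVariables false

namespace Cfsg.Agent.Lib.Ord7920

open Subgroup MulAction
open Cfsg.Agent.Lib.Sharp4
open scoped Pointwise

universe u

variable {G : Type u} [Group G] [Finite G] [IsSimpleGroup G]

open Classical in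
theorem sharp_block [Fintype (Sylow 3 G)] (hc : Nat.card G = 7920) : Sharp G (Block G) where
  card := Frame.card_block hc
  trans := by
    intro a b c d a' b' c' d' h1 h2 h3 h4 h5 h6 h1' h2' h3' h4' h5' h6'
    let x : Fin 4 ↪ Block G := ⟨![a, b, c, d], by
      intro i j h
      fin_cases i <;> fin_cases j <;> first | rfl | (exfalso; revert h; simp [h1, h2, h3, h4, h5, h6, h1.symm,
        h2.symm, h3.symm, h4.symm, h5.symm, h6.symm])⟩
    let y : Fin 4 ↪ Block G := ⟨![a', b', c', d'], by
      intro i j h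
      fin_cases i <;> fin_cases j <;> first | rfl | (exfalso; revert h; simp [h1', h2', h3', h4', h5', h6', h1'.symm,
        h2'.symm, h3'.symm, h4'.symm, h5'.symm, h6'.symm])⟩
    obtain ⟨g, hg⟩ := Frame.block_trans hc x y
    refine ⟨g, ?_, ?_, ?_, ?_⟩
    · exact congrArg (fun f : Fin 4 ↪ Block G => f 0) hg
    · exact congrArg (fun f : Fin 4 ↪ Block G => f 1) hg
    · exact congrArg (fun f : Fin 4 ↪ Block G => f 2) hg
    · exact congrArg (fun f : Fin 4 ↪ Block G => f 3) hg
  free := by
    intro g a b c d h1 h2 h3 h4 h5 h6 ha hb hc' hd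
    exact Frame.block_free hc h1 h2 h3 h4 h5 h6 ha hb hc' hd

end Cfsg.Agent.Lib.Ord7920

namespace Cfsg.Agent.Lib.Ord7920

universe u

/-- Every simple group of order 7920 is the automorphism group of a Steiner system `S(4,5,11)`. -/
theorem exists_steiner {G : Type u} [Group G] [Finite G] (hG : Cfsg.IsM11 G) :
    ∃ (α : Type u) (_ : Fintype α) (_ : DecidableEq α) (B : Set (Finset α)), Fintype.card α = 11 ∧
      Cfsg.IsSteinerSystem 4 5 B ∧ Nonempty (G ≃* Cfsg.setSystemAut B) := by
  classical
  obtain ⟨hsimple, hc⟩ := hG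
  haveI : Fintype (Sylow 3 G) := Fintype.ofFinite _
  have hS := sharp_block (G := G) hc
  refine ⟨Block G, inferInstance, inferInstance, Cfsg.Agent.Lib.Sharp4.blocks G (Block G), hS.card,
    Cfsg.Agent.Lib.Sharp4.isSteiner hS, ?_⟩
  have hM := (Cfsg.Agent.S0426.result hS.card (Cfsg.Agent.Lib.Sharp4.isSteiner hS)).1
  have hinj := Cfsg.Agent.Lib.Sharp4.toAut_injective hS
  have hbij := hinj.bijective_of_nat_card_le (by rw [hM.2, hc])
  exact ⟨MulEquiv.ofBijective _ hbij⟩

end Cfsg.Agent.Lib.Ord7920
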