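import Mathlib
import Cfsg.Agent.Lib.SteinerSearch

set_option autoImplicit false
set_option maxRecDepth 1000000

/-!
# Uniqueness of the Steiner system S(4,5,11): the search table
-/

namespace Cfsg.Agent.Lib.Steiner4511
open Cfsg Cfsg.Agent.Lib.SteinerSearch

def Lstd : List ℕ := [94,109,115,157,171,182,199,248,283,295,316,
  341,362,398,433,457,466,484,535,558,569,587,628,
  666,677,716,721,738,781,818,838,856,865,899,916,
  936,1039,1077,1082,1113,1126,1171,1196,1226,1236,1249,1302,
  1321,1347,1356,1392,1413,1432,1442,1564,1571,1605,1618,1640,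
  1670,1673,1712,1802,1809,1828,1984]

def entriesRest : List Entry := [
  ⟨[1039,535,295,199,283,587,171,1171,115,1347,899,1571,157,1077,569,109,341,1113,677,433,457,721,1249,781,1321,865,1413,1605,1673,1809,94], [46,54,58,60,102,106,116,120,142,154,172,202,204,210,212,226,228,278,306,326,332,344,368,404,408,418,424,540,594,616,646,688,778,804,960], 0, [(0,0x2928398a418820)]⟩,
  ⟨[1039,535,295,199,283,587,171,1171,115,1347,899,1571,157], [53,57,45,85,89,165,177,201,209,225,269,297,353,389,581,649,785], 30, [(0,0x2928398a418820),(0,0x250650ce520820)]⟩,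
  ⟨[1039,535,295,199,283,587], [43,147,51,323,387,547], 29, [(0,0x2928398a418820),(0,0x254831ca320820),(0,0x2147224c328820)]⟩,
  ⟨[1039,535,295,199,283], [], 75, [(0,0x2928398a418820),(0,0x2906490e518820)]⟩,
  ⟨[1039,535,295], [71], 27, [(0,0x2928398a418820),(0,0x2927414c418820),(0,0x2926414e418820),(0,0x29253990418820)]⟩,
  ⟨[1039,535], [], 39, [(0,0x2928398a418820),(0,0x2927418a418820),(0,0x292641ca418820)]⟩,
  ⟨[1039], [], 23, [(0,0x2928398a418820),(0,0x2909398a418820),(0,0x28e9418a418820),(0,0x28c941ca418820),(0,0x28a941cc418820)]⟩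
]

def rootE : Entry :=
  ⟨[], [], 15, [(0,0x2928398a418820),(0,0x2548398a418820),(0,0x2149398a418820),(0,0x1d49418a418820),(0,0x194941ca418820),(0,0x154941cc418820),(0,0x114941cc518820)]⟩

def entries : List Entry := entriesRest ++ [rootE]

theorem chk : tableOK 11 4 5 0 [Lstd] entries = true := by decide +kernel

theorem std_ok : stdOK 11 Lstd = true := by decide +kernel

theorem good : Good 11 4 5 0 (stdSet 11 Lstd) [] :=
  main_search (e := rootE) (by norm_num) (by norm_num) std_ok (by decide +kernel) (by decide +kernel) chk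
    (List.mem_append_right _ (List.mem_singleton.2 rfl)) rfl

end Cfsg.Agent.Lib.Steiner4511
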