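import Mathlib
import Cfsg.Agent.Lib.Nse7920
import Cfsg.Agent.Lib.M11Nse
import Cfsg.Agent.S0420
import Cfsg.Agent.Lib.M11Simple

/-!
# Commuting graphs: the group `M11`
-/

set_option autoImplicit false
set_option linter.style.haveILetI false
set_option linter.unusedSectionVars false

open scoped Pointwise

namespace Cfsg.Agent.Lib.CommGraph

open Cfsg.Agent.Lib.SmallGroups2 Cfsg.Agent.Lib.Nse7920 Subgroup

section general

variable {G : Type*} [Group G] [Finite G]

/-- The centralizer of `x` has one element more than the set of its non-identity elements. -/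
theorem card_centralizer_eq_succ (x : G) :
    Nat.card (centralizer ({x} : Set G)) =
      Nat.card {y : {y : G // y ≠ 1} // (y : G) * x = x * y} + 1 := by
  classical
  let φ : Option {y : {y : G // y ≠ 1} // (y : G) * x = x * y} → centralizer ({x} : Set G) := fun o =>
    match o with
    | none => 1
    | some y => ⟨y.1.1, mem_centralizer_singleton_iff.2 y.2⟩
  have hφ : Function.Bijective φ := by
    constructor
    · rintro (_ | y) (_ | z) h
      · rfl
      · exfalso
        have h1 : (1 : G) = z.1.1 := congrArg (fun c : centralizer ({x} : Set G) => (c : G)) h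
        exact z.1.2 h1.symm
      · exfalso
        have h1 : y.1.1 = (1 : G) := congrArg (fun c : centralizer ({x} : Set G) => (c : G)) h
        exact y.1.2 h1
      · have h1 : y.1.1 = z.1.1 := congrArg (fun c : centralizer ({x} : Set G) => (c : G)) h
        have h2 : y = z := Subtype.ext (Subtype.ext h1)
        rw [h2]
    · rintro ⟨c, hc⟩
      by_cases h1 : c = 1
      · subst h1
        exact ⟨none, rfl⟩
      · exact ⟨some ⟨⟨c, h1⟩, mem_centralizer_singleton_iff.1 hc⟩, rfl⟩
  rw [← Nat.card_congr (Equiv.ofBijective φ hφ), Finite.card_option]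

/-- "Any non-identity element whose centralizer has order divisible by `p` has order `p`, and its
centralizer has order `p`." -/
def Good (p : ℕ) (G : Type*) [Group G] : Prop :=
  ∀ g : G, g ≠ 1 → p ∣ Nat.card (centralizer ({g} : Set G)) →
    orderOf g = p ∧ Nat.card (centralizer ({g} : Set G)) = p

theorem dvd_card_centralizer_self (g : G) : orderOf g ∣ Nat.card (centralizer ({g} : Set G)) := by
  have h : g ∈ centralizer ({g} : Set G) := mem_centralizer_singleton_iff.2 rfl
  have := orderOf_dvd_natCard (⟨g, h⟩ : centralizer ({g} : Set G))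
  rwa [Subgroup.orderOf_mk] at this

theorem exists_order_in_centralizer {p : ℕ} [Fact p.Prime] {g : G}
    (h : p ∣ Nat.card (centralizer ({g} : Set G))) :
    ∃ y : G, orderOf y = p ∧ y * g = g * y := by
  obtain ⟨y, hy⟩ := exists_prime_orderOf_dvd_card' p h
  refine ⟨y.1, by rwa [Subgroup.orderOf_coe], mem_centralizer_singleton_iff.1 y.2⟩

theorem order_of_good_centralizer {p : ℕ} (hp : p.Prime) {g y : G} (hg : g ≠ 1) (hgy : g * y = y * g)
    (hy : Nat.card (centralizer ({y} : Set G)) = p) : orderOf g = p := by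
  haveI := Fact.mk hp
  have h1 : g ∈ centralizer ({y} : Set G) := mem_centralizer_singleton_iff.2 hgy
  have h2 := orderOf_dvd_natCard (⟨g, h1⟩ : centralizer ({y} : Set G))
  rw [Subgroup.orderOf_mk, hy] at h2
  rcases (Nat.dvd_prime hp).1 h2 with h | h
  · exact absurd (orderOf_eq_one_iff.1 h) hg
  · exact h

theorem good_of_orders (p : ℕ) [hp : Fact p.Prime] (hp2 : ¬ p ^ 2 ∣ Nat.card G)
    (hno : ∀ g : G, ∀ q : ℕ, q.Prime → q ≠ p → orderOf g ≠ p * q) : Good p G := by
  have hpp : p.Prime := hp.out
  have key : ∀ y : G, orderOf y = p → Nat.card (centralizer ({y} : Set G)) = p := by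
    intro y hy
    have h1 := dvd_card_centralizer_self y
    rw [hy] at h1
    obtain ⟨k, hk⟩ := h1
    by_contra hne
    have hk1 : k ≠ 1 := by
      rintro rfl
      exact hne (by rw [hk, mul_one])
    obtain ⟨q, hq, hqk⟩ := Nat.exists_prime_and_dvd hk1
    haveI := Fact.mk hq
    have hqC : q ∣ Nat.card (centralizer ({y} : Set G)) := hk ▸ hqk.mul_left p
    obtain ⟨z, hz, hzy⟩ := exists_order_in_centralizer hqC
    have hqp : q ≠ p := by
      rintro rfl
      apply hp2
      have h2 : q ^ 2 ∣ Nat.card (centralizer ({y} : Set G)) := by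
        rw [hk, pow_two]; exact mul_dvd_mul_left q hqk
      exact h2.trans (Subgroup.card_subgroup_dvd_card _)
    have hcomm : Commute y z := hzy.symm
    have hord : orderOf (y * z) = p * q := by
      rw [hcomm.orderOf_mul_eq_mul_orderOf_of_coprime (by
        rw [hy, hz]; exact (Nat.coprime_primes hpp hq).2 hqp.symm), hy, hz]
    exact hno _ q hq hqp hord
  intro g hg hd
  obtain ⟨y, hy, hyg⟩ := exists_order_in_centralizer hd
  have h1 := key y hy
  have h2 : orderOf g = p := order_of_good_centralizer hpp hg hyg.symm h1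
  exact ⟨h2, key g h2⟩

theorem card_order_eq_of_good {p : ℕ} (hp : p.Prime) (h : Good p G) :
    Nat.card {g : G // orderOf g = p} =
      Nat.card {x : {x : G // x ≠ 1} // p ∣ Nat.card (centralizer ({(x : G)} : Set G))} := by
  refine Nat.card_congr ⟨fun g => ⟨⟨g.1, ?_⟩, ?_⟩, fun x => ⟨x.1.1, (h x.1.1 x.1.2 x.2).1⟩, ?_, ?_⟩
  · intro h1
    have := g.2
    rw [h1, orderOf_one] at this
    exact hp.one_lt.ne this
  · have := dvd_card_centralizer_self g.1
    rwa [g.2] at this
  · intro g; rfl
  · intro x; rfl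

theorem card_eq_succ_ne : Nat.card G = Nat.card {g : G // g ≠ 1} + 1 := by
  classical
  haveI := Fintype.ofFinite G
  rw [Nat.card_eq_fintype_card, Nat.card_eq_fintype_card, Fintype.card_subtype_compl, Fintype.card_subtype_eq]
  have : 0 < Fintype.card G := Fintype.card_pos
  omega

end general

section transfer

variable {H M : Type*} [Group H] [Group M] [Finite H] [Finite M]
  (f : {h : H // h ≠ 1} ≃ {g : M // g ≠ 1})
  (hf : ∀ x y : {h : H // h ≠ 1}, (x : H) * y = y * x ↔ ((f x) : M) * (f y) = (f y) * (f x))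

include hf in
theorem card_centralizer_transfer (x : {h : H // h ≠ 1}) :
    Nat.card (centralizer ({(x : H)} : Set H)) = Nat.card (centralizer ({((f x) : M)} : Set M)) := by
  rw [card_centralizer_eq_succ, card_centralizer_eq_succ]
  congr 1
  exact Nat.card_congr (f.subtypeEquiv (fun y => hf y x))

include hf in
theorem good_transfer {p : ℕ} (hp : p.Prime) (hM : Good p M) : Good p H := by
  haveI := Fact.mk hp
  have key : ∀ y : H, orderOf y = p → Nat.card (centralizer ({y} : Set H)) = p := by
    intro y hy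
    have hy1 : y ≠ 1 := by
      rintro rfl
      rw [orderOf_one] at hy
      exact hp.one_lt.ne hy
    have h1 := dvd_card_centralizer_self y
    rw [hy] at h1
    have h2 := card_centralizer_transfer f hf ⟨y, hy1⟩
    have h3 : p ∣ Nat.card (centralizer ({((f ⟨y, hy1⟩) : M)} : Set M)) := by
      rw [← h2]; exact h1
    rw [h2]
    exact (hM _ (f ⟨y, hy1⟩).2 h3).2
  intro x hx hd
  obtain ⟨y, hy, hyx⟩ := exists_order_in_centralizer hd
  have h1 := key y hy
  have h2 : orderOf x = p := order_of_good_centralizer hp hx hyx.symm h1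
  exact ⟨h2, key x h2⟩

include hf in
theorem card_order_transfer {p : ℕ} (hp : p.Prime) (hM : Good p M) :
    Nat.card {g : H // orderOf g = p} = Nat.card {g : M // orderOf g = p} := by
  rw [card_order_eq_of_good hp (good_transfer f hf hp hM), card_order_eq_of_good hp hM]
  refine Nat.card_congr (f.subtypeEquiv (fun x => ?_))
  rw [card_centralizer_transfer f hf x]

include f in
theorem card_eq_of_equiv : Nat.card H = Nat.card M := by
  rw [card_eq_succ_ne (G := H), card_eq_succ_ne (G := M), Nat.card_congr f]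

end transfer

section simple

variable {G : Type*} [Group G] [Finite G]

/-- **Simplicity from the element counts.** -/
theorem isSimple_of_counts' (hc : Nat.card G = 7920)
    (h11 : Nat.card {g : G // orderOf g = 11} = 1440)
    (h5 : Nat.card {g : G // orderOf g = 5} = 1584)
    (h3 : ∀ x : G, 5 ∣ orderOf x → orderOf x = 5) : IsSimpleGroup G := by
  classical
  haveI : Fact (Nat.Prime 11) := ⟨by norm_num⟩
  haveI : Fact (Nat.Prime 2) := ⟨by norm_num⟩
  haveI : Fact (Nat.Prime 3) := ⟨by norm_num⟩
  haveI : Fact (Nat.Prime 5) := ⟨by norm_num⟩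
  haveI : Nontrivial G := by
    apply Finite.one_lt_card_iff_nontrivial.1
    rw [hc]; norm_num
  have hP : ∀ P : Sylow 11 G, Nat.card P = 11 := fun P => by
    have := sylow_card_of_card_eq (p := 11) (a := 1) (m := 720) (by rw [hc]; norm_num) (by norm_num) P
    simpa using this
  have hn : Nat.card (Sylow 11 G) = 144 := by
    have := count_eq (G := G) 11 hP
    rw [h11] at this
    omega
  have hNP : ∀ P : Sylow 11 G, Nat.card (normalizer ((P : Subgroup G) : Set G)) = 55 := fun P => by
    have := card_normalizer_mul_card_sylow P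
    rw [hn, hc] at this
    omega
  obtain ⟨P₀⟩ := (inferInstance : Nonempty (Sylow 11 G))
  obtain ⟨x, hxP, hx1⟩ : ∃ x ∈ (P₀ : Subgroup G), x ≠ 1 := by
    have h1 : (1 : ℕ) < Nat.card (P₀ : Subgroup G) := by rw [hP]; norm_num
    haveI := Finite.one_lt_card_iff_nontrivial.1 h1
    obtain ⟨⟨x, hx⟩, hne⟩ := exists_ne (1 : (P₀ : Subgroup G))
    exact ⟨x, hx, fun h => hne (Subtype.ext h)⟩
  have hxord : orderOf x = 11 := orderOf_eq_of_mem_of_ne_one (by norm_num) (hP P₀) hxP hx1
  have hzp : Subgroup.zpowers x = (P₀ : Subgroup G) :=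
    zpowers_eq_of_mem_of_ne_one (by norm_num) (hP P₀) hxP hx1
  have hC : ∀ y : G, y * x = x * y → orderOf y ∣ 55 := by
    intro y hy
    have hy' : y ∈ normalizer ((P₀ : Subgroup G) : Set G) := by
      rw [← hzp]
      have : y ∈ Subgroup.centralizer ((Subgroup.zpowers x : Subgroup G) : Set G) := by
        rw [Subgroup.mem_centralizer_iff]
        intro h hh
        obtain ⟨k, rfl⟩ := Subgroup.mem_zpowers_iff.1 hh
        have : Commute y x := hy
        exact (this.zpow_right k).eq.symm
      exact (Subgroup.centralizer_le_normalizer _) this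
    have h := orderOf_dvd_natCard (⟨y, hy'⟩ : normalizer ((P₀ : Subgroup G) : Set G))
    rw [hNP, Subgroup.orderOf_mk] at h
    exact h
  have hdvdG : ∀ N : Subgroup G, Nat.card N ∣ 7920 := fun N => by
    rw [← hc]; exact Subgroup.card_subgroup_dvd_card N
  refine ⟨fun N hN => ?_⟩
  by_contra hcon
  push Not at hcon
  obtain ⟨hNb, hNt⟩ := hcon
  have hmul := N.card_mul_index
  rw [hc] at hmul
  have hidx1 : N.index ≠ 1 := fun h => hNt (Subgroup.index_eq_one.1 h)
  have hcard1 : Nat.card N ≠ 1 := fun h => hNb (Subgroup.card_eq_one.1 h)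
  by_cases h11N : 11 ∣ Nat.card N
  · -- Frattini
    obtain ⟨Q⟩ := (inferInstance : Nonempty (Sylow 11 N))
    obtain ⟨d, hd⟩ := hdvdG N
    have hQ : Nat.card (Q : Subgroup N) = 11 := by
      obtain ⟨e, he⟩ := h11N
      have he' : ¬ 11 ∣ e := by
        rintro ⟨e', rfl⟩
        have h121 : 121 ∣ 7920 := by
          refine ⟨e' * d, ?_⟩
          rw [hd, he]; ring
        omega
      have := sylow_card_of_card_eq (p := 11) (a := 1) (m := e) (by rw [he]; ring) he' Q
      simpa using this
    have hsup := Sylow.normalizer_sup_eq_top Q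
    set R : Subgroup G := (Q : Subgroup N).map N.subtype with hR
    have hRcard : Nat.card R = 11 := by
      rw [hR, Subgroup.card_map_of_injective N.subtype_injective, hQ]
    have hRp : IsPGroup 11 R := by
      rw [IsPGroup.iff_card]
      exact ⟨1, by rw [hRcard]; norm_num⟩
    obtain ⟨S, hS⟩ := hRp.exists_le_sylow
    have hRS : R = (S : Subgroup G) :=
      Subgroup.eq_of_le_of_card_ge hS (by rw [hP, hRcard])
    have hH : Nat.card (normalizer (R : Set G)) = 55 := by
      rw [hRS]; exact hNP S
    have hidx : N.index ∣ 55 := by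
      have h1 := Subgroup.relIndex_sup_right (normalizer (R : Set G)) N
      rw [hsup, Subgroup.relIndex_top_right] at h1
      rw [h1, ← hH]
      exact Subgroup.relIndex_dvd_card _ _
    have hidx5 : N.index = 5 := by
      have h6 : N.index ∈ Nat.divisors 55 := Nat.mem_divisors.2 ⟨hidx, by norm_num⟩
      have h7 : Nat.divisors 55 = {1, 5, 11, 55} := by decide +kernel
      rw [h7] at h6
      simp only [Finset.mem_insert, Finset.mem_singleton] at h6
      obtain ⟨e, he⟩ := h11N
      rcases h6 with h | h | h | h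
      · exact absurd h hidx1
      · exact h
      · rw [h, he] at hmul; omega
      · rw [h, he] at hmul; omega
    have hNc : Nat.card N = 1584 := by
      rw [hidx5] at hmul; omega
    have hmem : ∀ g : G, g ∉ N → orderOf g = 5 := by
      intro g hg
      apply h3
      by_contra hcon
      apply hg
      apply mem_of_coprime_index
      rw [hidx5]
      exact (Nat.Prime.coprime_iff_not_dvd (by norm_num)).2 hcon
    let φ : {g : G // g ∉ N} → {g : G // orderOf g = 5} := fun g => ⟨g.1, hmem g.1 g.2⟩
    have hφ : Function.Injective φ := fun a b h =>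
      Subtype.ext (congrArg (fun c : {g : G // orderOf g = 5} => c.1) h)
    have hle := Nat.card_le_card_of_injective φ hφ
    have hadd : Nat.card {g : G // g ∉ N} + Nat.card N = 7920 := by
      classical
      haveI := Fintype.ofFinite G
      rw [← hc]
      have h1 : Nat.card N = Fintype.card {g : G // g ∈ N} := Nat.card_eq_fintype_card
      rw [h1, Nat.card_eq_fintype_card, Nat.card_eq_fintype_card, Fintype.card_subtype_compl, add_comm]
      have := Fintype.card_subtype_le (fun g : G => g ∈ N)
      omega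
    rw [h5] at hle
    omega
  · -- the coprime case
    obtain ⟨d, hd⟩ := hdvdG N
    have hx11 : x ^ 11 = 1 := by rw [← hxord]; exact pow_orderOf_eq_one x
    have key : ∀ r : ℕ, r.Prime → r ≠ 5 → r ≠ 11 → (∀ a : ℕ, r ^ a ∣ 7920 → r ^ a % 11 = 1 → a = 0) →
        ¬ r ∣ Nat.card N := by
      intro r hr hr5 hr11 hb hrN
      haveI := Fact.mk hr
      obtain ⟨Q, hQ⟩ := exists_sylow_mod N x hx11 h11N r (by
        rintro y ⟨k, hk⟩ hy
        have h1 := hC y hy
        have h2 : orderOf (y : G) ∣ r ^ k := orderOf_dvd_of_pow_eq_one hk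
        obtain ⟨i, -, hi⟩ := (Nat.dvd_prime_pow hr).1 h2
        have h3 : orderOf (y : G) = 1 := by
          rcases Nat.eq_zero_or_pos i with rfl | hipos
          · simpa using hi
          · exfalso
            have h4 : r ∣ 55 := (dvd_pow_self r hipos.ne').trans (hi ▸ h1)
            have h5' : r ∣ 5 * 11 := by simpa using h4
            rcases (Nat.Prime.dvd_mul hr).1 h5' with h6 | h6
            · exact hr5 ((Nat.prime_dvd_prime_iff_eq hr (by norm_num)).1 h6)
            · exact hr11 ((Nat.prime_dvd_prime_iff_eq hr (by norm_num)).1 h6)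
        rw [orderOf_eq_one_iff] at h3
        exact Subtype.ext h3)
      have hQc := Q.card_eq_multiplicity
      set a := (Nat.card N).factorization r with ha
      have hdv : r ^ a ∣ 7920 := by
        rw [← hQc]
        exact (Subgroup.card_subgroup_dvd_card (Q : Subgroup N)).trans (hdvdG N)
      have ha0 := hb a hdv (by rw [← hQc]; exact hQ)
      rw [ha0, pow_zero] at hQc
      exact Q.ne_bot_of_dvd_card hrN (Subgroup.card_eq_one.1 hQc)
    have h2N : ¬ 2 ∣ Nat.card N := key 2 (by norm_num) (by norm_num) (by norm_num) two_bound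
    have h3N : ¬ 3 ∣ Nat.card N := key 3 (by norm_num) (by norm_num) (by norm_num) three_bound
    have hN5 : Nat.card N = 5 := by
      have h6 : Nat.card N ∈ Nat.divisors 7920 := Nat.mem_divisors.2 ⟨hdvdG N, by norm_num⟩
      have h7 : (Nat.divisors 7920).filter (fun n => ¬ 2 ∣ n ∧ ¬ 3 ∣ n ∧ ¬ 11 ∣ n ∧ n ≠ 1) = {5} := by
        decide +kernel
      have h8 : Nat.card N ∈ (Nat.divisors 7920).filter (fun n => ¬ 2 ∣ n ∧ ¬ 3 ∣ n ∧ ¬ 11 ∣ n ∧ n ≠ 1) :=
        Finset.mem_filter.2 ⟨h6, h2N, h3N, h11N, hcard1⟩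
      rw [h7] at h8
      simpa using h8
    have hidx : N.index = 1584 := by
      rw [hN5] at hmul; omega
    have hmem : ∀ g : {g : G // orderOf g = 5}, g.1 ∈ N := by
      intro g
      apply mem_of_coprime_index
      rw [hidx, g.2]
      norm_num
    have hle := Nat.card_le_card_of_injective (fun g : {g : G // orderOf g = 5} => (⟨g.1, hmem g⟩ : N))
      (fun a b h => Subtype.ext (congrArg (fun z : N => (z : G)) h))
    rw [h5, hN5] at hle
    omega


end simple

/-- Any simple group of order 7920 is isomorphic to the `M11` of the prelude. -/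
theorem iso_of_simple {G : Type*} [Group G] [Finite G] (hS : IsSimpleGroup G) (hc : Nat.card G = 7920) :
    Nonempty (G ≃* ↥Cfsg.Spor.M11) := by
  obtain ⟨e⟩ := Cfsg.Agent.S0420.result (G := G) ⟨hS, hc⟩ Cfsg.Agent.Lib.M11Simple.ds
    Cfsg.Agent.Lib.M11Simple.ds_mem (Cfsg.Agent.Lib.Golay.pt 0) Cfsg.Agent.Lib.M11Simple.pt0_mem
  refine ⟨e.trans ?_⟩
  exact
    { toFun := fun y => ⟨y.1.1, (Cfsg.Agent.Lib.M11Chain.mem_M11_iff _).mpr
        ⟨y.1.2, Cfsg.Agent.Lib.M11Simple.K11_d y, Cfsg.Agent.Lib.M11Simple.K11_0 y⟩⟩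
      invFun := fun m => ⟨⟨m.1, ((Cfsg.Agent.Lib.M11Chain.mem_M11_iff m.1).mp m.2).1⟩,
        ((Cfsg.Agent.Lib.M11Chain.mem_M11_iff m.1).mp m.2).2.1, ((Cfsg.Agent.Lib.M11Chain.mem_M11_iff m.1).mp m.2).2.2⟩
      left_inv := fun _ => rfl
      right_inv := fun _ => rfl
      map_mul' := fun _ _ => rfl }

/-- The orders of the elements of `M11`. -/
theorem orderOf_M11 (g : ↥Cfsg.Spor.M11) : orderOf g = 1 ∨ orderOf g = 2 ∨ orderOf g = 3 ∨ orderOf g = 4 ∨
    orderOf g = 5 ∨ orderOf g = 6 ∨ orderOf g = 8 ∨ orderOf g = 11 := by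
  by_contra hcon
  push Not at hcon
  obtain ⟨h1, h2, h3, h4, h5, h6, h8, h11⟩ := hcon
  have h := Cfsg.Agent.Lib.M11Nse.card_order (orderOf g)
  rw [Cfsg.Agent.Lib.M11Nse.cnt_zero ⟨h1, h2, h3, h4, h5, h6, h8, h11⟩] at h
  have h0 : 0 < Nat.card {x : ↥Cfsg.Spor.M11 // orderOf x = orderOf g} :=
    Nat.card_pos_iff.2 ⟨⟨⟨g, rfl⟩⟩, inferInstance⟩
  omega

end Cfsg.Agent.Lib.CommGraph
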