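import Mathlib
import Cfsg.Prelude.Def_ChevStructure
import Cfsg.Agent.Lib.CoxOrder

/-! Order and faithful reflection representation of the Coxeter group of type E6.
Generated certificates: coset tables and orbits along the chain of parabolic subgroups. -/

set_option autoImplicit false
set_option maxRecDepth 1000000

namespace Cfsg.Agent.Lib.CoxE6

open Cfsg.Agent.Lib.CoxOrder

/-- The Coxeter matrix. -/
abbrev M : CoxeterMatrix (Fin 6) := CoxeterMatrix.E₆

/-- Coxeter matrix table. -/
def mT (i j : ℕ) : ℕ := pk 0x132222313222231332223123223212222321 4 (i * 6 + j)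

/-- Cartan matrix table. -/
def A (i j : ℕ) : ℤ := (pk 0xa788887a788887a778887a878878a888878a 4 (i * 6 + j) : ℤ) - 8

theorem hM0 : ∀ i j : Fin 6, decide (M i j = mT i j) = true := by decide +kernel

theorem hM : ∀ i j : Fin 6, M i j = mT i j := fun i j => of_decide_eq_true (hM0 i j)

theorem hrel : ∀ i j : Fin 6, (R A i * R A j) ^ M i j = 1 := by decide +kernel

/-! Level 1: orbit of size 2. -/
def T1 (c i : ℕ) : ℕ := pk 0x1 2 (c * 6 + i)
def par1 (d : ℕ) : ℕ := pk 0x0 2 d
def gen1 (d : ℕ) : ℕ := pk 0x0 4 d
def pts1 (c k : ℕ) : ℤ := (pk 0x888987888889 4 (c * 6 + k) : ℤ) - 8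

theorem final1 : finalMask 2 6 (List.range 1) (List.range 0) mT T1 par1 gen1 = 0x40 := by
  decide +kernel

theorem upper1 : upperCheck 2 6 (List.range 1) (List.range 0) T1 par1 gen1 0x40 = true := by
  decide +kernel

theorem lower1 : lowerCheck 6 2 (List.range 1) (List.range 0) A pts1 par1 gen1 = true := by
  decide +kernel

theorem chain1 : Chain (sN M) (permRep M A hrel) (List.range 1) 2 := by
  have h := level M A hrel mT hM 2 6 (List.range 1) (List.range 0) T1 par1 gen1 pts1
    (by rw [final1]; exact upper1) lower1 (chain_nil _ _)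
  simpa using h

/-! Level 2: orbit of size 2. -/
def T2 (c i : ℕ) : ℕ := pk 0x1004 2 (c * 6 + i)
def par2 (d : ℕ) : ℕ := pk 0x0 2 d
def gen2 (d : ℕ) : ℕ := pk 0x10 4 d
def pts2 (c k : ℕ) : ℤ := (pk 0x889878888898 4 (c * 6 + k) : ℤ) - 8

theorem final2 : finalMask 2 6 (List.range 2) (List.range 1) mT T2 par2 gen2 = 0xc0 := by
  decide +kernel

theorem upper2 : upperCheck 2 6 (List.range 2) (List.range 1) T2 par2 gen2 0xc0 = true := by
  decide +kernel

theorem lower2 : lowerCheck 6 2 (List.range 2) (List.range 1) A pts2 par2 gen2 = true := by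
  decide +kernel

theorem chain2 : Chain (sN M) (permRep M A hrel) (List.range 2) 4 := by
  have h := level M A hrel mT hM 2 6 (List.range 2) (List.range 1) T2 par2 gen2 pts2
    (by rw [final2]; exact upper2) lower2 chain1
  simpa using h

/-! Level 3: orbit of size 3. -/
def T3 (c i : ℕ) : ℕ := pk 0x29006010 2 (c * 6 + i)
def par3 (d : ℕ) : ℕ := pk 0x10 2 d
def gen3 (d : ℕ) : ℕ := pk 0x20 4 d
def pts3 (c k : ℕ) : ℤ := (pk 0x889887889789888988 4 (c * 6 + k) : ℤ) - 8

theorem final3 : finalMask 3 6 (List.range 3) (List.range 2) mT T3 par3 gen3 = 0x7180 := by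
  decide +kernel

theorem upper3 : upperCheck 3 6 (List.range 3) (List.range 2) T3 par3 gen3 0x7180 = true := by
  decide +kernel

theorem lower3 : lowerCheck 6 3 (List.range 3) (List.range 2) A pts3 par3 gen3 = true := by
  decide +kernel

theorem chain3 : Chain (sN M) (permRep M A hrel) (List.range 3) 12 := by
  have h := level M A hrel mT hM 3 6 (List.range 3) (List.range 2) T3 par3 gen3 pts3
    (by rw [final3]; exact upper3) lower3 chain2
  simpa using h

/-! Level 4: orbit of size 10. -/
def T4 (c i : ℕ) : ℕ := pk 0x9899006987004778008654005563007236003145002412000321001000 4 (c * 6 + i)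
def par4 (d : ℕ) : ℕ := pk 0x8644321100 4 d
def gen4 (d : ℕ) : ℕ := pk 0x2330022130 4 d
def pts4 (c k : ℕ) : ℤ := (pk 0x8a87888a79878a7889899877898897899779898799898978897998889888 4 (c * 6 + k) : ℤ) - 8

theorem final4 : finalMask 10 6 (List.range 4) (List.range 3) mT T4 par4 gen4 = 0x3cb3c73c638b240 := by
  decide +kernel

theorem upper4 : upperCheck 10 6 (List.range 4) (List.range 3) T4 par4 gen4 0x3cb3c73c638b240 = true := by
  decide +kernel

theorem lower4 : lowerCheck 6 10 (List.range 4) (List.range 3) A pts4 par4 gen4 = true := by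
  decide +kernel

theorem chain4 : Chain (sN M) (permRep M A hrel) (List.range 4) 120 := by
  have h := level M A hrel mT hM 10 6 (List.range 4) (List.range 3) T4 par4 gen4 pts4
    (by rw [final4]; exact upper4) lower4 chain3
  simpa using h

/-! Level 5: orbit of size 16. -/
def T5 (c i : ℕ) : ℕ := pk 0x3def73c0e6b9ee02dcc6b4096358a035695ac085294c030eb4a00a2a10901d2731406318e40150321c04208a600c6510c0209062000410840100000 5 (c * 6 + i)
def par5 (d : ℕ) : ℕ := pk 0x735694a0e52906210400 5 d
def gen5 (d : ℕ) : ℕ := pk 0x1344243300221340 4 d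
def pts5 (c k : ℕ) : ℤ := (pk 0xa88878a87898a79788a78987998788a78889997987997889989877988897989779988799988978987998979888898888 4 (c * 6 + k) : ℤ) - 8

theorem final5 : finalMask 16 6 (List.range 5) (List.range 4) mT T5 par5 gen5 = 0x7dd5df3df2cf5df59e6d95c0 := by
  decide +kernel

theorem upper5 : upperCheck 16 6 (List.range 5) (List.range 4) T5 par5 gen5 0x7dd5df3df2cf5df59e6d95c0 = true := by
  decide +kernel

theorem lower5 : lowerCheck 6 16 (List.range 5) (List.range 4) A pts5 par5 gen5 = true := by
  decide +kernel

theorem chain5 : Chain (sN M) (permRep M A hrel) (List.range 5) 1920 := by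
  have h := level M A hrel mT hM 16 6 (List.range 5) (List.range 4) T5 par5 gen5 pts5
    (by rw [final5]; exact upper5) lower5 chain4
  simpa using h

/-! Level 6: orbit of size 27. -/
def T6 (c i : ℕ) : ℕ := pk 0x35ad6b59ce738ceb18be718bd717b5ed4b5af69deb5a5636952b4ace738cdf2a4252a45f19c5b084a0e9322d7bd6e739d0829af6ad8f6298c7256b5b54d431494acc94a908520e639ce7414c6490a8294a331c842186418c4520c4118842008210842000000 5 (c * 6 + i)
def par6 (d : ℕ) : ℕ := pk 0x6717ad2718bded62d4a4a0c62906310400 5 d
def gen6 (d : ℕ) : ℕ := pk 0x23445515354542433002213450 4 d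
def pts6 (c k : ℕ) : ℤ := (pk 0x888887888789887988879878878898798878797898988878789788987898788987979788788889978987898788978889897987897889889877888897889779888799888978887998879888798888988888 4 (c * 6 + k) : ℤ) - 8

theorem final6 : finalMask 27 6 (List.range 6) (List.range 5) mT T6 par6 gen6 = 0x3ffbbdffbef7ff77f5ff7ef7ebbf7ff6fbbe77bc0 := by
  decide +kernel

theorem upper6 : upperCheck 27 6 (List.range 6) (List.range 5) T6 par6 gen6 0x3ffbbdffbef7ff77f5ff7ef7ebbf7ff6fbbe77bc0 = true := by
  decide +kernel

theorem lower6 : lowerCheck 6 27 (List.range 6) (List.range 5) A pts6 par6 gen6 = true := by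
  decide +kernel

theorem chain6 : Chain (sN M) (permRep M A hrel) (List.range 6) 51840 := by
  have h := level M A hrel mT hM 27 6 (List.range 6) (List.range 5) T6 par6 gen6 pts6
    (by rw [final6]; exact upper6) lower6 chain5
  simpa using h

/-- Finite, of the right order, with faithful reflection representation. -/
theorem main : Finite M.Group ∧ Nat.card M.Group = 51840 ∧ Function.Injective (matRep M A hrel) :=
  final M A hrel _ chain6

/-- The table of powers of the Coxeter element in the reflection representation. -/
def Y (d : ℕ) : Matrix (Fin 6) (Fin 6) ℤ :=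
  Matrix.of fun i j => (pk 0x8180808080808081808080808080818080808080808180808080808081808080808080817f7f7f7f7f7f81808080808080818080808080808180818080808181808180808081808080807f7f80807f7f7f7f7f7f818080808080808181818081808181818180808081808180807f7f807f8080807f7f80807f7f7f7f7f7f8181818181808181828181818081818180817f7f7f7f807f807f7f807f8080807f7f80808080818080808081818180808181818181808080808080817f7f7f7f807f807f7f807f808081808080808181818081808080818080808080808180808080808080817f7f7f7f807f818080808080808080807f808081808080808080818081808080808180808080808080817f7f7f7f7f7f80807f7f807f81808080808080818181808180808180818080808081808080807f7f8080807f7f7f7f807f7f7f7f7f7f818181818180808181818081808081808180807f7f807f807f7f7e7f7f7f80807f7f80808080818080808181818181808081818180817f7f7f7f807f807f7f7f8080807f7f807f808081808080808080818080808181818181808080808080817f7f7f807f807f7f7f7f807f818080808080808180808080808081808080808080818080808080808180808080808081 8 ((d * 6 + i) * 6 + j) : ℤ) - 128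

theorem Y0 : Y 0 = 1 := by decide +kernel
theorem Ys : ∀ d < 12, Y (d + 1) = Y d * ((List.finRange 6).map (R A)).prod := by decide +kernel
theorem Yh : Y 12 = 1 := by decide +kernel
theorem Yne : ∀ d < 12, 0 < d → Y d ≠ 1 := by decide +kernel

/-- The order of the Coxeter element. -/
theorem orderOf_coxeterElement : orderOf ((List.finRange 6).map M.simple).prod = 12 :=
  orderOf_coxeter M A hrel main.2.2 Y 12 (by norm_num) Y0 Ys Yh Yne

end Cfsg.Agent.Lib.CoxE6
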