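import Mathlib
import Cfsg.Prelude.Def_ChevStructure
import Cfsg.Agent.Lib.CoxOrder

/-! Order and faithful reflection representation of the Coxeter group of type E7.
Generated certificates: coset tables and orbits along the chain of parabolic subgroups. -/

set_option autoImplicit false
set_option maxRecDepth 1000000

namespace Cfsg.Agent.Lib.CoxE7

open Cfsg.Agent.Lib.CoxOrder

/-- The Coxeter matrix. -/
abbrev M : CoxeterMatrix (Fin 7) := CoxeterMatrix.E₇

/-- Coxeter matrix table. -/
def mT (i j : ℕ) : ℕ := pk 0x1322222313222223132222231332222312322232122222321 4 (i * 7 + j)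

/-- Cartan matrix table. -/
def A (i j : ℕ) : ℤ := (pk 0xa7888887a7888887a7888887a7788887a8788878a8888878a 4 (i * 7 + j) : ℤ) - 8

theorem hM0 : ∀ i j : Fin 7, decide (M i j = mT i j) = true := by decide +kernel

theorem hM : ∀ i j : Fin 7, M i j = mT i j := fun i j => of_decide_eq_true (hM0 i j)

theorem hrel : ∀ i j : Fin 7, (R A i * R A j) ^ M i j = 1 := by decide +kernel

/-! Level 1: orbit of size 2. -/
def T1 (c i : ℕ) : ℕ := pk 0x1 2 (c * 7 + i)
def par1 (d : ℕ) : ℕ := pk 0x0 2 d
def gen1 (d : ℕ) : ℕ := pk 0x0 4 d
def pts1 (c k : ℕ) : ℤ := (pk 0x88889878888889 4 (c * 7 + k) : ℤ) - 8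

theorem final1 : finalMask 2 7 (List.range 1) (List.range 0) mT T1 par1 gen1 = 0x80 := by
  decide +kernel

theorem upper1 : upperCheck 2 7 (List.range 1) (List.range 0) T1 par1 gen1 0x80 = true := by
  decide +kernel

theorem lower1 : lowerCheck 7 2 (List.range 1) (List.range 0) A pts1 par1 gen1 = true := by
  decide +kernel

theorem chain1 : Chain (sN M) (permRep M A hrel) (List.range 1) 2 := by
  have h := level M A hrel mT hM 2 7 (List.range 1) (List.range 0) T1 par1 gen1 pts1
    (by rw [final1]; exact upper1) lower1 (chain_nil _ _)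
  simpa using h

/-! Level 2: orbit of size 2. -/
def T2 (c i : ℕ) : ℕ := pk 0x4004 2 (c * 7 + i)
def par2 (d : ℕ) : ℕ := pk 0x0 2 d
def gen2 (d : ℕ) : ℕ := pk 0x10 4 d
def pts2 (c k : ℕ) : ℤ := (pk 0x88898788888898 4 (c * 7 + k) : ℤ) - 8

theorem final2 : finalMask 2 7 (List.range 2) (List.range 1) mT T2 par2 gen2 = 0x180 := by
  decide +kernel

theorem upper2 : upperCheck 2 7 (List.range 2) (List.range 1) T2 par2 gen2 0x180 = true := by
  decide +kernel

theorem lower2 : lowerCheck 7 2 (List.range 2) (List.range 1) A pts2 par2 gen2 = true := by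
  decide +kernel

theorem chain2 : Chain (sN M) (permRep M A hrel) (List.range 2) 4 := by
  have h := level M A hrel mT hM 2 7 (List.range 2) (List.range 1) T2 par2 gen2 pts2
    (by rw [final2]; exact upper2) lower2 chain1
  simpa using h

/-! Level 3: orbit of size 3. -/
def T3 (c i : ℕ) : ℕ := pk 0x290018010 2 (c * 7 + i)
def par3 (d : ℕ) : ℕ := pk 0x10 2 d
def gen3 (d : ℕ) : ℕ := pk 0x20 4 d
def pts3 (c k : ℕ) : ℤ := (pk 0x888988788897898888988 4 (c * 7 + k) : ℤ) - 8

theorem final3 : finalMask 3 7 (List.range 3) (List.range 2) mT T3 par3 gen3 = 0x1c300 := by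
  decide +kernel

theorem upper3 : upperCheck 3 7 (List.range 3) (List.range 2) T3 par3 gen3 0x1c300 = true := by
  decide +kernel

theorem lower3 : lowerCheck 7 3 (List.range 3) (List.range 2) A pts3 par3 gen3 = true := by
  decide +kernel

theorem chain3 : Chain (sN M) (permRep M A hrel) (List.range 3) 12 := by
  have h := level M A hrel mT hM 3 7 (List.range 3) (List.range 2) T3 par3 gen3 pts3
    (by rw [final3]; exact upper3) lower3 chain2
  simpa using h

/-! Level 4: orbit of size 10. -/
def T4 (c i : ℕ) : ℕ := pk 0x9899000698700047780008654000556300072360003145000241200003210001000 4 (c * 7 + i)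
def par4 (d : ℕ) : ℕ := pk 0x8644321100 4 d
def gen4 (d : ℕ) : ℕ := pk 0x2330022130 4 d
def pts4 (c k : ℕ) : ℤ := (pk 0x88a878888a798788a78898899877889889788997798898799889897888979988889888 4 (c * 7 + k) : ℤ) - 8

theorem final4 : finalMask 10 7 (List.range 4) (List.range 3) mT T4 par4 gen4 = 0x78b1e1c7861c2c480 := by
  decide +kernel

theorem upper4 : upperCheck 10 7 (List.range 4) (List.range 3) T4 par4 gen4 0x78b1e1c7861c2c480 = true := by
  decide +kernel

theorem lower4 : lowerCheck 7 10 (List.range 4) (List.range 3) A pts4 par4 gen4 = true := by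
  decide +kernel

theorem chain4 : Chain (sN M) (permRep M A hrel) (List.range 4) 120 := by
  have h := level M A hrel mT hM 10 7 (List.range 4) (List.range 3) T4 par4 gen4 pts4
    (by rw [final4]; exact upper4) lower4 chain3
  simpa using h

/-! Level 5: orbit of size 16. -/
def T5 (c i : ℕ) : ℕ := pk 0x1ef7b9e0039ae7b8005b98d680096358a001ab4ad600214a5300061d694000a2a109000e9398a0018c6390002a06438004208a600063288600082418800008210800100000 5 (c * 7 + i)
def par5 (d : ℕ) : ℕ := pk 0x735694a0e52906210400 5 d
def gen5 (d : ℕ) : ℕ := pk 0x1344243300221340 4 d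
def pts5 (c k : ℕ) : ℤ := (pk 0x8a888788a878988a797888a7898789987888a788898997987899788989898778988897898977989887998988978898799889798888898888 4 (c * 7 + k) : ℤ) - 8

theorem final5 : finalMask 16 7 (List.range 5) (List.range 4) mT T5 par5 gen5 = 0x3e74b9f1e7c58f2e7cb1e3664b80 := by
  decide +kernel

theorem upper5 : upperCheck 16 7 (List.range 5) (List.range 4) T5 par5 gen5 0x3e74b9f1e7c58f2e7cb1e3664b80 = true := by
  decide +kernel

theorem lower5 : lowerCheck 7 16 (List.range 5) (List.range 4) A pts5 par5 gen5 = true := by
  decide +kernel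

theorem chain5 : Chain (sN M) (permRep M A hrel) (List.range 5) 1920 := by
  have h := level M A hrel mT hM 16 7 (List.range 5) (List.range 4) T5 par5 gen5 pts5
    (by rw [final5]; exact upper5) lower5 chain4
  simpa using h

/-! Level 6: orbit of size 27. -/
def T6 (c i : ℕ) : ℕ := pk 0xd6b5ad6419ce719d0318be71805eb8bdae0b52d6bd813bd6b4a8236952b4056739c6607ca90948148be33881b084a0e049916bde05b9ce74010535ed5818f6298c0392b5ada05350c524095992950108520e601ce73a0a0319242a00529466380842186400c62290601046210800104210802000000 5 (c * 7 + i)
def par6 (d : ℕ) : ℕ := pk 0x6717ad2718bded62d4a4a0c62906310400 5 d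
def gen6 (d : ℕ) : ℕ := pk 0x23445515354542433002213450 4 d
def pts6 (c k : ℕ) : ℤ := (pk 0xa888887a888789a887988a879878a878898a798878a7978989988878a7897889987898a7889879979788a78888999789879898788997888998979879897889988987798888979889779988879998889789887998987988897988888988888 4 (c * 7 + k) : ℤ) - 8

theorem final6 : finalMask 27 7 (List.range 6) (List.range 5) mT T6 par6 gen6 = 0xfdf3b6efd7af3efcebf2efcfaf3ead7b77ed9f3b72dd780 := by
  decide +kernel

theorem upper6 : upperCheck 27 7 (List.range 6) (List.range 5) T6 par6 gen6 0xfdf3b6efd7af3efcebf2efcfaf3ead7b77ed9f3b72dd780 = true := by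
  decide +kernel

theorem lower6 : lowerCheck 7 27 (List.range 6) (List.range 5) A pts6 par6 gen6 = true := by
  decide +kernel

theorem chain6 : Chain (sN M) (permRep M A hrel) (List.range 6) 51840 := by
  have h := level M A hrel mT hM 27 7 (List.range 6) (List.range 5) T6 par6 gen6 pts6
    (by rw [final6]; exact upper6) lower6 chain5
  simpa using h

/-! Level 7: orbit of size 56. -/
def T7 (c i : ℕ) : ℕ := pk 0xdb7df7df7df7d76db6db6d76d35d75d74d35cf4d34cf3cf4c72cf2cb2cafcf2c71c71cefc30c30c30bb1befbedcb1baebaeb2ec2fb6daefb6db2cb29baab2dae8b6baeba6aaa7aacaaaa66b299e9ae5ae8a28a269e3aa4a679e2a669a39a8a259659658a48249e48647e78e09a38e68a289f8a585e86186485c91d8e07a08df7dc89f7da85b79e81e65d81d75b7607197dc69c5db7986dd6de69769a71a7567196576546186d56186d36945d95d66565964d64555556154984145d15144d74d04d64cf49249249554e4515113d050d4ce41048c3cf3cf44e44b39038c34d40d2cd34c3ca30c30e2cb38934b28a28c1ca28b24924b2481c82082082461c71ca1462461861841c81451451c41441040c61440c30840c30c2043082082002041041041000000000 6 (c * 7 + i)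
def par7 (d : ℕ) : ℕ := pk 0xdb5d33c6fbeeb6cae9a279a58e28a07df79c71a6595d75944d345040f38d30b2ca2471c6144103081000 6 d
def gen7 (d : ℕ) : ℕ := pk 0x65432211334454565605625636646456516536545424330022134560 4 d
def pts7 (c k : ℕ) : ℤ := (pk 0x78888889788888897888888978888889778888879888889778888879888799788878998879887887978987988878878988879878979888878797988798878998888878789878798798898887898788898797987898879887978898789887898798787897898987889897988787889788979789889888787888987978978889878987888889978898789797889788889897898788987888978889889798788978898889877888889788897798888799888897888879988879888879888879888889888888 4 (c * 7 + k) : ℤ) - 8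

theorem final7 : finalMask 56 7 (List.range 7) (List.range 6) mT T7 par7 gen7 = 0xfefefefefffdfff3f7bf7dfff7dfdf7dfffbefbfdf777ffb7fefd7ff5f7ffbfbbfdfd77f7f7dfd7bfbffedfbdf9efbef80 := by
  decide +kernel

theorem upper7 : upperCheck 56 7 (List.range 7) (List.range 6) T7 par7 gen7 0xfefefefefffdfff3f7bf7dfff7dfdf7dfffbefbfdf777ffb7fefd7ff5f7ffbfbbfdfd77f7f7dfd7bfbffedfbdf9efbef80 = true := by
  decide +kernel

theorem lower7 : lowerCheck 7 56 (List.range 7) (List.range 6) A pts7 par7 gen7 = true := by
  decide +kernel

theorem chain7 : Chain (sN M) (permRep M A hrel) (List.range 7) 2903040 := by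
  have h := level M A hrel mT hM 56 7 (List.range 7) (List.range 6) T7 par7 gen7 pts7
    (by rw [final7]; exact upper7) lower7 chain6
  simpa using h

/-- Finite, of the right order, with faithful reflection representation. -/
theorem main : Finite M.Group ∧ Nat.card M.Group = 2903040 ∧ Function.Injective (matRep M A hrel) :=
  final M A hrel _ chain7

/-- The table of powers of the Coxeter element in the reflection representation. -/
def Y (d : ℕ) : Matrix (Fin 7) (Fin 7) ℤ :=
  Matrix.of fun i j => (pk 0x818080808080808081808080808080808180808080808080818080808080808081808080808080808180808080808080817f7f7f7f7f7f7f8180808080808080818080808080808081808080808080808180818080808081818081808080808180808080807f7f80807f7f7f7f7f7f7f818080808080808081808080808080808181818081808081818181808080808180818080807f7f807f808080807f7f80807f7f7f7f7f7f7f81808080808080808181818181808081818281818180808181818081807f7f7f7f807f80807f7f807f808080807f7f80807f7f7f7f7f7f7f8181818281818181818282828181808181818181807f7f7f7f7f7f80807f7f7f7f807f80807f7f807f808080807f7f808080808181818080808181828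18180818181828181818080807f8080807f7f7f7f7f7f80807f7f7f7f807f80807f7f807f8080818181808180818182828181818080818181808080807f808080808080807f8080807f7f7f7f7f7f80807f7f7f7f807f818181818180818081818181808080818181808180807f808080808080807f808080808080807f8080807f7f7f7f7f7f808080808080807f81818181808180818181818180817f808080808080807f808080808080807f808080808080807f808080808080807f808080808080807f808080808080807f818181818181817f808080808080807f808080808080807f808080808080807f807f808080807f7f807f808080807f808080808081818080818181818181817f808080808080807f808080808080807f7f7f807f80807f7f7f7f808080807f807f808080818180818080808081818080818181818181817f808080808080807f7f7f7f7f80807f7f7e7f7f7f80807f7f7f807f808181818180818080818180818080808081818080818181818181817f7f7f7e7f7f7f7f7f7e7e7e7f7f807f7f7f7f7f808181818181818080818181818081808081818081808080808181808080807f7f7f8080807f7f7e7f7f807f7f7f7e7f7f7f80808081808080818181818181808081818181808180808181808180807f7f7f807f807f7f7e7e7f7f7f80807f7f7f8080808081808080808080808180808081818181818180808181818180817f7f7f7f7f807f807f7f7f7f8080807f7f7f807f8080818080808080808081808080808080808180808081818181818180808080808080817f7f7f7f807f807f7f7f7f7f807f81808080808080808180808080808080818080808080808081808080808080808180808080808080818080808080808081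 8 ((d * 7 + i) * 7 + j) : ℤ) - 128

theorem Y0 : Y 0 = 1 := by decide +kernel
theorem Ys : ∀ d < 18, Y (d + 1) = Y d * ((List.finRange 7).map (R A)).prod := by decide +kernel
theorem Yh : Y 18 = 1 := by decide +kernel
theorem Yne : ∀ d < 18, 0 < d → Y d ≠ 1 := by decide +kernel

/-- The order of the Coxeter element. -/
theorem orderOf_coxeterElement : orderOf ((List.finRange 7).map M.simple).prod = 18 :=
  orderOf_coxeter M A hrel main.2.2 Y 18 (by norm_num) Y0 Ys Yh Yne

end Cfsg.Agent.Lib.CoxE7
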