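import Mathlib
import Cfsg.Agent.S0111
import Cfsg.Agent.Lib.Frat

/-!
# Involutions whose centralizer meets a Sylow 2-subgroup in a cyclic group of order 4: toolkit

The commutator set `[S,t]` is a cyclic subgroup of index 4 inverted by `t`.  This file also has
the conjugation toolkit (Sylow conjugation, the Thompson lemma and the focal subgroup theorem in a
form usable for subgroups of a larger group).
-/

set_option autoImplicit false

namespace Cfsg.Agent.Lib.CycFourA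

open Cfsg.Agent.Lib
open scoped commutatorElement

section conj
variable {X : Type*} [Group X] [Finite X]

/-- Sylow conjugation inside a subgroup `H`. -/
theorem conj_into (H P R : Subgroup X) (hPH : P ≤ H) (hP : IsPGroup 2 P)
    (hodd : ¬ 2 ∣ P.relIndex H) (hRH : R ≤ H) (hR : IsPGroup 2 R) :
    ∃ h ∈ H, ∀ r ∈ R, h * r * h⁻¹ ∈ P := by
  haveI : Fact (Nat.Prime 2) := ⟨Nat.prime_two⟩
  let R' : Subgroup H := R.subgroupOf H
  have hR' : IsPGroup 2 R' := hR.to_le (K := R) (by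
    intro x hx
    exact hx) |>.of_equiv (Subgroup.subgroupOfEquivOfLe hRH).symm
  obtain ⟨q, hq⟩ := hR'.nonempty_fixed_point_of_prime_not_dvd_card (H ⧸ P.subgroupOf H) (by
    have : Nat.card (H ⧸ P.subgroupOf H) = P.relIndex H := rfl
    rw [this]
    exact hodd)
  induction q using QuotientGroup.induction_on with
  | H g =>
  refine ⟨(g : X)⁻¹, (H.inv_mem g.2), fun r hr => ?_⟩
  have hr' : (⟨r, hRH hr⟩ : H) ∈ R' := hr
  have h1 : (((⟨r, hRH hr⟩ : H) * g : H) : H ⧸ P.subgroupOf H) = (g : H ⧸ P.subgroupOf H) :=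
    hq ⟨⟨r, hRH hr⟩, hr'⟩
  have h2 := QuotientGroup.eq.mp h1
  have h3 := (P.subgroupOf H).inv_mem h2
  have h4 := Subgroup.mem_subgroupOf.mp h3
  have h5 : ((((⟨r, hRH hr⟩ : H) * g)⁻¹ * g)⁻¹ : H).1 = (g : X)⁻¹ * r * ((g : X)⁻¹)⁻¹ := by
    simp [mul_assoc]
  rwa [h5] at h4

/-- Conjugate of a `2`-subgroup. -/
theorem isPGroup_conj (g : X) (S : Subgroup X) (hS : IsPGroup 2 S) :
    IsPGroup 2 (S.map (MulAut.conj g).toMonoidHom) := by
  haveI : Fact (Nat.Prime 2) := ⟨Nat.prime_two⟩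
  exact hS.map _

theorem mem_conj_map {g : X} {S : Subgroup X} {x : X} :
    x ∈ S.map (MulAut.conj g).toMonoidHom ↔ g⁻¹ * x * g ∈ S := by
  constructor
  · rintro ⟨s, hs, rfl⟩
    simpa [mul_assoc] using hs
  · intro h
    refine ⟨_, h, ?_⟩
    simp [mul_assoc]

end conj

section pow
variable {X : Type*} [Group X] [Finite X]

/-- `2`-elements generate `2`-subgroups. -/
theorem isPGroup_zpowers_of_pow {w : X} {k : ℕ} (h : w ^ (2 ^ k) = 1) :
    IsPGroup 2 (Subgroup.zpowers w) := by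
  haveI : Fact (Nat.Prime 2) := ⟨Nat.prime_two⟩
  rw [IsPGroup.iff_card]
  have h1 : orderOf w ∣ 2 ^ k := orderOf_dvd_of_pow_eq_one h
  obtain ⟨m, -, hm⟩ := (Nat.dvd_prime_pow Nat.prime_two).mp h1
  exact ⟨m, by rw [Nat.card_zpowers, hm]⟩

/-- Elements of a `2`-subgroup are `2`-elements. -/
theorem exists_pow_of_mem {S : Subgroup X} (hS : IsPGroup 2 S) {x : X} (hx : x ∈ S) :
    ∃ k : ℕ, x ^ (2 ^ k) = 1 := by
  obtain ⟨k, hk⟩ := hS ⟨x, hx⟩
  exact ⟨k, by simpa [Subtype.ext_iff] using hk⟩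

end pow

/-- The common context: `t` acts on the perfect subgroup `L` of index two. -/
structure Ctx {X : Type*} [Group X] (L S : Subgroup X) (t : X) : Prop where
  hLn : L.Normal
  hLi : L.index = 2
  htL : t ∉ L
  ht : t * t = 1
  hperf : commutator L = ⊤
  hSL : S ≤ L
  hS2 : IsPGroup 2 S
  hSo : ¬ 2 ∣ S.relIndex L
  htS : ∀ s ∈ S, t * s * t⁻¹ ∈ S
  h4 : ∀ g : X, ∀ P : Subgroup X, P ≤ L → IsPGroup 2 P →
    (∀ p ∈ P, p * (g * t * g⁻¹) = (g * t * g⁻¹) * p) → Nat.card P ≤ 4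

namespace Ctx

variable {X : Type*} [Group X] [Finite X] {L S : Subgroup X} {t : X}

/-- `S` viewed as a Sylow subgroup of `L`. -/
noncomputable def syl (c : Ctx L S t) : Sylow 2 L :=
  haveI : Fact (Nat.Prime 2) := ⟨Nat.prime_two⟩
  IsPGroup.toSylow (P := S.subgroupOf L)
    (c.hS2.of_equiv (Subgroup.subgroupOfEquivOfLe c.hSL).symm) c.hSo

theorem coe_syl (c : Ctx L S t) : ((c.syl : Sylow 2 L) : Subgroup L) = S.subgroupOf L := by
  rfl

/-- Thompson transfer inside `L`. -/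
theorem T1 (c : Ctx L S t) (Q : Subgroup X) (hQS : Q ≤ S) (hQi : Q.relIndex S = 2) {r : X}
    (hrS : r ∈ S) (hr : orderOf r = 2) (hrQ : r ∉ Q) : ∃ g ∈ L, g * r * g⁻¹ ∈ Q := by
  have hQL : Q ≤ L := hQS.trans c.hSL
  have hQ' : (Q.subgroupOf L) ≤ ((c.syl : Sylow 2 L) : Subgroup L) := by
    rw [c.coe_syl]
    intro x hx
    exact hQS hx
  have hidx : (Q.subgroupOf L).relIndex ((c.syl : Sylow 2 L) : Subgroup L) = 2 := by
    rw [c.coe_syl, Subgroup.relIndex_subgroupOf c.hSL]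
    exact hQi
  have hord : orderOf (⟨r, c.hSL hrS⟩ : L) = 2 := by
    rw [← hr]
    exact Subgroup.orderOf_mk _ _
  have hmem : (⟨r, c.hSL hrS⟩ : L) ∈ ((c.syl : Sylow 2 L) : Subgroup L) := by
    rw [c.coe_syl]
    exact hrS
  have hnot : (⟨r, c.hSL hrS⟩ : L) ∉ Q.subgroupOf L := hrQ
  rcases S0111.result c.syl (Q.subgroupOf L) hQ' hidx _ hord hmem hnot with ⟨M, hMn, hMi, hrM⟩ | ⟨g, hg⟩
  · exfalso
    apply hrM
    have hc : commutator L ≤ M := by
      haveI := hMn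
      have hcard : Nat.card (L ⧸ M) = 2 := hMi
      haveI : Fact (Nat.Prime 2) := ⟨Nat.prime_two⟩
      haveI : IsCyclic (L ⧸ M) := isCyclic_of_prime_card (p := 2) hcard
      have hcm : ∀ a b : L ⧸ M, a * b = b * a := fun a b => (IsCyclic.commGroup (α := L ⧸ M)).mul_comm a b
      rw [commutator_def, Subgroup.commutator_le]
      intro a _ b _
      rw [← QuotientGroup.eq_one_iff]
      simp only [commutatorElement_def, QuotientGroup.mk_mul, QuotientGroup.mk_inv]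
      rw [hcm (a : L ⧸ M) (b : L ⧸ M)]
      group
    rw [c.hperf] at hc
    exact hc (Subgroup.mem_top _)
  · refine ⟨g.1, g.2, ?_⟩
    exact hg

/-- Focal subgroup: a subgroup of index two of `S` is not strongly closed. -/
theorem F (c : Ctx L S t) (Q : Subgroup X) (hQS : Q ≤ S) (hQi : Q.relIndex S = 2) :
    ∃ a ∈ S, a ∉ Q ∧ ∃ g ∈ L, g * a * g⁻¹ ∈ Q := by
  by_contra hcon
  push Not at hcon
  haveI : Fact (Nat.Prime 2) := ⟨Nat.prime_two⟩
  have hfoc := Subgroup.commutator_inf_eq_focalSubgroup (G := L) (p := 2) c.syl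
  rw [c.hperf, top_inf_eq, c.coe_syl] at hfoc
  -- every generator lies in `Q`
  have hQ2 : (Q.subgroupOf S).index = 2 := hQi
  haveI hQn : (Q.subgroupOf S).Normal := Subgroup.normal_of_index_eq_two hQ2
  have key : ∀ x y : X, x ∈ S → y ∈ S → x * y ∉ Q → (x ∉ Q ∧ y ∈ Q) ∨ (x ∈ Q ∧ y ∉ Q) := by
    intro x y hx hy hxy
    have h := Subgroup.mul_mem_iff_of_index_two (H := Q.subgroupOf S) hQ2 (a := ⟨x, hx⟩) (b := ⟨y, hy⟩)
    have h1 : (⟨x, hx⟩ * ⟨y, hy⟩ : S) ∉ Q.subgroupOf S := hxy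
    have h2 : ¬ ((⟨x, hx⟩ : S) ∈ Q.subgroupOf S ↔ (⟨y, hy⟩ : S) ∈ Q.subgroupOf S) := fun h3 => h1 (h.mpr h3)
    change ¬ (x ∈ Q ↔ y ∈ Q) at h2
    by_cases hxQ : x ∈ Q
    · right
      exact ⟨hxQ, fun hyQ => h2 ⟨fun _ => hyQ, fun _ => hxQ⟩⟩
    · left
      refine ⟨hxQ, ?_⟩
      by_contra hyQ
      exact h2 ⟨fun h4 => absurd h4 hxQ, fun h4 => absurd h4 hyQ⟩
  have hle : (S.subgroupOf L) ≤ Q.subgroupOf L := by
    rw [hfoc, Subgroup.focalSubgroup_def, Subgroup.closure_le]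
    rintro g ⟨hgS, x, hxS, u, rfl⟩
    by_contra hnQ
    have hgS' : ((⁅x, u⁆ : L) : X) ∈ S := hgS
    have hxS' : (x : X) ∈ S := hxS
    have hnQ' : ((⁅x, u⁆ : L) : X) ∉ Q := hnQ
    have he : ((⁅x, u⁆ : L) : X) = (x : X) * ((u : X) * (x : X)⁻¹ * (u : X)⁻¹) := by
      simp [commutatorElement_def, mul_assoc]
    have hx2 : (u : X) * (x : X)⁻¹ * (u : X)⁻¹ ∈ S := by
      have h := S.mul_mem (S.inv_mem hxS') hgS'
      rw [he] at h
      simpa [mul_assoc] using h
    rw [he] at hnQ'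
    rcases key _ _ hxS' hx2 hnQ' with ⟨h1, h2⟩ | ⟨h1, h2⟩
    · -- `x⁻¹ ∉ Q`, its conjugate by `u` lies in `Q`
      have h3 := hcon (x : X)⁻¹ (S.inv_mem hxS') (fun h => h1 (by simpa using Q.inv_mem h)) u u.2
      exact h3 h2
    · have h3 := hcon ((u : X) * (x : X)⁻¹ * (u : X)⁻¹) hx2 h2 (u : X)⁻¹ (L.inv_mem u.2)
      apply h3
      have h4 : (u : X)⁻¹ * ((u : X) * (x : X)⁻¹ * (u : X)⁻¹) * (u : X)⁻¹⁻¹ = (x : X)⁻¹ := by group
      rw [h4]
      exact Q.inv_mem h1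
  -- then `S ≤ Q`, contradiction
  have hSQ : S ≤ Q := by
    intro s hs
    exact hle (show (⟨s, c.hSL hs⟩ : L) ∈ S.subgroupOf L from hs)
  have : Q.relIndex S = 1 := Subgroup.relIndex_eq_one.mpr hSQ
  omega

/-- Conjugating a central element into a given subgroup of its centralizer. -/
theorem Z (c : Ctx L S t) {x g : X} (hxS : x ∈ S) (hx : ∀ s ∈ S, s * x = x * s) (hg : g ∈ L)
    (R : Subgroup X) (hRL : R ≤ L) (hR : IsPGroup 2 R)
    (hRc : ∀ r ∈ R, r * (g * x * g⁻¹) = (g * x * g⁻¹) * r) :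
    ∃ g' ∈ L, g' * x * g'⁻¹ = g * x * g⁻¹ ∧ ∀ r ∈ R, g'⁻¹ * r * g' ∈ S := by
  set f := g * x * g⁻¹ with hf
  let H : Subgroup X := L ⊓ Subgroup.centralizer ({f} : Set X)
  let P : Subgroup X := S.map (MulAut.conj g).toMonoidHom
  have hPL : P ≤ L := by
    rintro _ ⟨s, hs, rfl⟩
    exact L.mul_mem (L.mul_mem hg (c.hSL hs)) (L.inv_mem hg)
  have hPH : P ≤ H := by
    intro p hp
    refine Subgroup.mem_inf.mpr ⟨hPL hp, ?_⟩
    rw [Subgroup.mem_centralizer_iff]
    rintro _ rfl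
    obtain ⟨s, hs, rfl⟩ := hp
    have h := hx s hs
    change g * x * g⁻¹ * ((MulAut.conj g) s) = ((MulAut.conj g) s) * (g * x * g⁻¹)
    simp only [MulAut.conj_apply]
    calc g * x * g⁻¹ * (g * s * g⁻¹) = g * (x * s) * g⁻¹ := by group
      _ = g * (s * x) * g⁻¹ := by rw [h]
      _ = g * s * g⁻¹ * (g * x * g⁻¹) := by group
  have hRH : R ≤ H := by
    intro r hr
    refine Subgroup.mem_inf.mpr ⟨hRL hr, ?_⟩
    rw [Subgroup.mem_centralizer_iff]
    rintro _ rfl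
    exact (hRc r hr).symm
  have hPo : ¬ 2 ∣ P.relIndex H := by
    intro h2
    apply c.hSo
    have h3 : P.relIndex L = S.relIndex L := by
      have : L = L.map (MulAut.conj g).toMonoidHom := by
        ext y
        rw [mem_conj_map]
        constructor
        · intro hy
          exact L.mul_mem (L.mul_mem (L.inv_mem hg) hy) hg
        · intro hy
          have h4 := L.mul_mem (L.mul_mem hg hy) (L.inv_mem hg)
          have h5 : g * (g⁻¹ * y * g) * g⁻¹ = y := by group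
          rwa [h5] at h4
      conv_lhs => rw [this]
      exact Subgroup.relIndex_map_map_of_injective _ _ (MulAut.conj g).injective
    rw [← h3]
    have h6 : H ≤ L := inf_le_left
    have h7 := Subgroup.relIndex_mul_relIndex P H L hPH h6
    rw [← h7]
    exact Dvd.dvd.mul_right h2 _
  obtain ⟨h, hhH, hh⟩ := conj_into H P R hPH (isPGroup_conj g S c.hS2) hPo hRH hR
  have hhL : h ∈ L := (Subgroup.mem_inf.mp hhH).1
  have hhc : h * f = f * h := by
    have := (Subgroup.mem_inf.mp hhH).2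
    rw [Subgroup.mem_centralizer_iff] at this
    exact (this f rfl).symm
  refine ⟨h⁻¹ * g, L.mul_mem (L.inv_mem hhL) hg, ?_, ?_⟩
  · calc h⁻¹ * g * x * (h⁻¹ * g)⁻¹ = h⁻¹ * (f * h) := by rw [hf]; group
      _ = h⁻¹ * (h * f) := by rw [hhc]
      _ = f := by group
  · intro r hr
    have h1 := hh r hr
    rw [mem_conj_map] at h1
    have h2 : (h⁻¹ * g)⁻¹ * r * (h⁻¹ * g) = g⁻¹ * (h * r * h⁻¹) * g := by group
    rwa [h2]

/-- A `2`-element commuting with a central element of `S` is conjugate into `S` fixing it. -/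
theorem Root (c : Ctx L S t) {f w : X} (hfS : f ∈ S) (hf : ∀ s ∈ S, s * f = f * s) (hw : w ∈ L)
    (hwf : w * f = f * w) {k : ℕ} (hw2 : w ^ (2 ^ k) = 1) :
    ∃ h ∈ L, h * f * h⁻¹ = f ∧ h * w * h⁻¹ ∈ S := by
  have hR : IsPGroup 2 (Subgroup.zpowers w) := isPGroup_zpowers_of_pow hw2
  have hRL : Subgroup.zpowers w ≤ L := by
    rw [Subgroup.zpowers_le]; exact hw
  obtain ⟨g', hg', h1, h2⟩ := c.Z hfS hf (L.one_mem) (Subgroup.zpowers w) hRL hR (by
    intro r hr
    obtain ⟨i, rfl⟩ := Subgroup.mem_zpowers_iff.mp hr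
    simp only [one_mul, inv_one, mul_one]
    exact ((Commute.zpow_left (show Commute w f from hwf) i)))
  refine ⟨g'⁻¹, L.inv_mem hg', ?_, ?_⟩
  · have h3 : g' * f * g'⁻¹ = f := by simpa using h1
    have h4 : g'⁻¹ * (g' * f * g'⁻¹) * g'⁻¹⁻¹ = f := by group
    rw [h3] at h4
    exact h4
  · have := h2 w (Subgroup.mem_zpowers w)
    simpa using this

/-- A `2`-element of `L` normalizing `S` lies in `S`. -/
theorem mem_of_normalizes (c : Ctx L S t) {r : X} (hr : r ∈ L) {k : ℕ} (hr2 : r ^ (2 ^ k) = 1)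
    (hn : ∀ s ∈ S, r * s * r⁻¹ ∈ S) : r ∈ S := by
  haveI : Fact (Nat.Prime 2) := ⟨Nat.prime_two⟩
  have hz : IsPGroup 2 (Subgroup.zpowers r) := isPGroup_zpowers_of_pow hr2
  have hnorm : Subgroup.zpowers r ≤ Subgroup.normalizer (S : Set X) := by
    rw [Subgroup.zpowers_le]
    rw [Subgroup.mem_normalizer_iff]
    intro s
    constructor
    · exact hn s
    · intro hs
      -- `r` has finite order so the conjugation by `r` is a bijection on `S`
      have hinj : Function.Injective (fun x : S => (⟨r * x * r⁻¹, hn x x.2⟩ : S)) := by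
        intro a b hab
        have h0 : r * (a : X) * r⁻¹ = r * (b : X) * r⁻¹ := congrArg Subtype.val hab
        exact Subtype.ext (by simpa using h0)
      have hsurj := Finite.surjective_of_injective hinj
      obtain ⟨a, ha⟩ := hsurj ⟨r * s * r⁻¹, hs⟩
      have h1 : r * a * r⁻¹ = r * s * r⁻¹ := congrArg Subtype.val ha
      have h2 : (a : X) = s := by simpa using h1
      rw [← h2]
      exact a.2
  have hsup : IsPGroup 2 (Subgroup.zpowers r ⊔ S : Subgroup X) :=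
    IsPGroup.to_sup_of_normal_right' hz c.hS2 hnorm
  have hleL : (Subgroup.zpowers r ⊔ S : Subgroup X) ≤ L := by
    refine sup_le ?_ c.hSL
    rw [Subgroup.zpowers_le]; exact hr
  have h1 : S ≤ (Subgroup.zpowers r ⊔ S : Subgroup X) := le_sup_right
  have h2 := Subgroup.relIndex_mul_relIndex S _ L h1 hleL
  have h3 : S.relIndex (Subgroup.zpowers r ⊔ S : Subgroup X) = 1 := by
    have h4 : IsPGroup 2 (S.subgroupOf (Subgroup.zpowers r ⊔ S : Subgroup X)) := c.hS2.of_equiv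
      (Subgroup.subgroupOfEquivOfLe h1).symm
    have h5 := hsup.index (S.subgroupOf (Subgroup.zpowers r ⊔ S : Subgroup X))
    obtain ⟨n, hn⟩ := h5
    change S.relIndex _ = 2 ^ n at hn
    rcases n with _ | n
    · simpa using hn
    · exfalso
      apply c.hSo
      rw [← h2, hn]
      exact Dvd.dvd.mul_right (dvd_pow_self 2 (Nat.succ_ne_zero n)) _
  have h6 := Subgroup.relIndex_eq_one.mp h3
  exact h6 (Subgroup.mem_sup_left (Subgroup.mem_zpowers r))

end Ctx

end Cfsg.Agent.Lib.CycFourA
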