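import Mathlib
import Cfsg.Prelude.Def_ClassificationK
import Cfsg.Agent.Lib.PCore
import Cfsg.Agent.S1754

set_option autoImplicit false

open Cfsg

namespace Cfsg.Agent.Lib.GF2Setup

variable {G : Type*} [Group G]

theorem isComponent_map_equiv (φ : G ≃* G) {K : Subgroup G} (h : IsComponent K) :
    IsComponent (K.map φ.toMonoidHom) :=
  ⟨h.1.map φ.surjective,
    Cfsg.Agent.S1754.isQuasisimple_congr (K.equivMapOfInjective φ.toMonoidHom φ.injective) h.2⟩

instance layer_characteristic : (layer G).Characteristic := by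
  rw [Subgroup.characteristic_iff_map_le]
  intro φ
  rw [Subgroup.map_le_iff_le_comap]
  refine sSup_le fun K hK => ?_
  rw [← Subgroup.map_le_iff_le_comap]
  exact le_sSup (isComponent_map_equiv φ hK)

instance generalizedFitting_characteristic : (generalizedFittingSubgroup G).Characteristic := by
  rw [Subgroup.characteristic_iff_map_le]
  intro φ
  have h1 : (layer G).map φ.toMonoidHom ≤ layer G :=
    (Subgroup.characteristic_iff_map_le.mp inferInstance) φ
  have h2 : (fittingSubgroup G).map φ.toMonoidHom ≤ fittingSubgroup G :=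
    (Subgroup.characteristic_iff_map_le.mp Cfsg.Agent.Lib.PCore.instFittingCharacteristic) φ
  unfold generalizedFittingSubgroup
  rw [Subgroup.map_sup]
  exact sup_le_sup h1 h2

instance generalizedFitting_normal : (generalizedFittingSubgroup G).Normal :=
  Subgroup.normal_of_characteristic _

theorem center_le_generalizedFitting : Subgroup.center G ≤ generalizedFittingSubgroup G :=
  Cfsg.Agent.Lib.PCore.center_le_fittingSubgroup.trans le_sup_right

/-- The unique involution of a cyclic group. -/
theorem eq_of_sq_eq_one_of_isCyclic {H : Type*} [Group H] [Finite H] [IsCyclic H] {a b : H}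
    (ha : a ^ 2 = 1) (hb : b ^ 2 = 1) (ha1 : a ≠ 1) (hb1 : b ≠ 1) : a = b := by
  classical
  by_contra hab
  haveI := Fintype.ofFinite H
  have h := IsCyclic.card_pow_eq_one_le (α := H) (n := 2) (by norm_num)
  have hsub : ({1, a, b} : Finset H) ⊆ Finset.univ.filter (fun x : H => x ^ 2 = 1) := by
    intro x hx
    simp only [Finset.mem_insert, Finset.mem_singleton] at hx
    simp only [Finset.mem_filter, Finset.mem_univ, true_and]
    rcases hx with rfl | rfl | rfl
    · exact one_pow 2
    · exact ha
    · exact hb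
  have h3 : ({1, a, b} : Finset H).card = 3 := by
    rw [Finset.card_insert_of_notMem, Finset.card_insert_of_notMem, Finset.card_singleton]
    · simpa using hab
    · simp only [Finset.mem_insert, Finset.mem_singleton, not_or]
      exact ⟨ha1.symm, hb1.symm⟩
  have := Finset.card_le_card hsub
  omega

/-- Powers of a nontrivial element of a 2-group reach an involution. -/
theorem exists_pow_involution {H : Type*} [Group H] (hH : IsPGroup 2 H) {x : H} (hx : x ≠ 1) :
    ∃ k : ℕ, (x ^ k) ^ 2 = 1 ∧ x ^ k ≠ 1 := by
  haveI : Fact (Nat.Prime 2) := ⟨Nat.prime_two⟩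
  obtain ⟨n, hn⟩ := IsPGroup.iff_orderOf.mp hH x
  have hn0 : n ≠ 0 := by
    rintro rfl
    rw [pow_zero] at hn
    exact hx (orderOf_eq_one_iff.mp hn)
  obtain ⟨m, rfl⟩ := Nat.exists_eq_succ_of_ne_zero hn0
  refine ⟨2 ^ m, ?_, ?_⟩
  · rw [← pow_mul, ← pow_succ, ← hn]
    exact pow_orderOf_eq_one x
  · apply pow_ne_one_of_lt_orderOf (by positivity)
    rw [hn]
    exact Nat.pow_lt_pow_right (by norm_num) (Nat.lt_succ_self m)

end Cfsg.Agent.Lib.GF2Setup
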