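import Mathlib
import Cfsg.Agent.Lib.KleinTools

/-!
# A 2-group containing an elementary abelian subgroup of order 8 has a normal four-subgroup
-/

set_option autoImplicit false
set_option linter.style.haveILetI false
set_option linter.unusedSectionVars false

universe u

namespace Cfsg.Agent.Lib.NormalKlein

open Cfsg.Agent.Lib.KleinTools

/-- A nontrivial normal subgroup of a finite `p`-group contains a nontrivial central element. -/
lemma exists_central_of_normal {R : Type*} [Group R] [Finite R] {p : ℕ} [Fact p.Prime]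
    (hR : IsPGroup p R) (N : Subgroup R) (hn : N.Normal) (hN : N ≠ ⊥) :
    ∃ z ∈ N, z ≠ 1 ∧ z ∈ Subgroup.center R := by
  let _ : MulAction R N :=
    { smul := fun r n => ⟨r * n * r⁻¹, hn.conj_mem _ n.2 r⟩
      one_smul := fun n => by
        apply Subtype.ext
        show (1 : R) * n * 1⁻¹ = n
        group
      mul_smul := fun r s n => by
        apply Subtype.ext
        show (r * s) * n * (r * s)⁻¹ = r * (s * n * s⁻¹) * r⁻¹
        group }
  have hdvd : p ∣ Nat.card N := by
    rcases (hR.to_subgroup N).card_eq_or_dvd with h | h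
    · exfalso
      apply hN
      exact Subgroup.card_eq_one.mp h
    · exact h
  have h1 : (1 : N) ∈ MulAction.fixedPoints R N := by
    intro r
    apply Subtype.ext
    show r * (1 : R) * r⁻¹ = 1
    group
  obtain ⟨b, hb, hne⟩ := hR.exists_fixed_point_of_prime_dvd_card_of_fixed_point N hdvd h1
  refine ⟨b, b.2, fun h => hne (Subtype.ext h.symm), ?_⟩
  rw [Subgroup.mem_center_iff]
  intro r
  have h2 : r * (b : R) * r⁻¹ = b := congrArg Subtype.val (hb r)
  calc r * (b : R) = r * b * r⁻¹ * r := by group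
    _ = b * r := by rw [h2]

/-- Order of a preimage under a quotient map. -/
lemma card_comap_mk {G : Type*} [Group G] [Finite G] (N : Subgroup G) [N.Normal]
    (B : Subgroup (G ⧸ N)) :
    Nat.card (B.comap (QuotientGroup.mk' N)) = Nat.card N * Nat.card B := by
  have hf : Function.Surjective (QuotientGroup.mk' N) := QuotientGroup.mk'_surjective N
  have h1 : (B.comap (QuotientGroup.mk' N)).index = B.index := Subgroup.index_comap_of_surjective B hf
  have h2 := Subgroup.card_mul_index (B.comap (QuotientGroup.mk' N))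
  have h3 := Subgroup.card_mul_index B
  have h4 := Subgroup.card_eq_card_quotient_mul_card_subgroup N
  rw [h1] at h2
  have hpos : 0 < B.index := Nat.pos_of_ne_zero Subgroup.index_ne_zero_of_finite
  apply Nat.eq_of_mul_eq_mul_right hpos
  rw [h2, h4, ← h3]
  ring

/-- A normal subgroup of order divisible by `p ^ k` in a `p`-group contains a normal subgroup of order
`p ^ k`. -/
theorem exists_normal_le_of_dvd {p : ℕ} [hp : Fact p.Prime] (k : ℕ) :
    ∀ (T : Type u) [Group T] [Finite T], IsPGroup p T → ∀ R : Subgroup T, R.Normal →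
      p ^ k ∣ Nat.card R → ∃ A : Subgroup T, A ≤ R ∧ A.Normal ∧ Nat.card A = p ^ k := by
  induction k with
  | zero =>
    intro T _ _ _ R _ _
    exact ⟨⊥, bot_le, inferInstance, by simp⟩
  | succ k ih =>
    intro T _ _ hT R hRn hdvd
    have hRne : R ≠ ⊥ := by
      rintro rfl
      rw [Subgroup.card_bot] at hdvd
      have := Nat.le_of_dvd (by norm_num) hdvd
      have h2 : 1 < p ^ (k + 1) := Nat.one_lt_pow (by omega) hp.out.one_lt
      omega
    obtain ⟨z, hzR, hz1, hzc⟩ := exists_central_of_normal hT R hRn hRne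
    -- a central element of order `p`
    have hdz : p ∣ orderOf z := by
      obtain ⟨s, hs⟩ := IsPGroup.iff_orderOf.1 hT z
      rcases s with _ | s
      · rw [pow_zero] at hs
        exact absurd (orderOf_eq_one_iff.1 hs) hz1
      · rw [hs]; exact dvd_pow_self p (by omega)
    set z' := z ^ (orderOf z / p) with hz'
    have hzo : orderOf z' = p := orderOf_pow_orderOf_div (orderOf_pos z).ne' hdz
    have hzR' : z' ∈ R := R.pow_mem hzR _
    have hzc' : z' ∈ Subgroup.center T := Subgroup.pow_mem _ hzc _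
    have hZ0n : (Subgroup.zpowers z').Normal := by
      constructor
      intro a ha g
      have h1 : g * a * g⁻¹ = a := by
        obtain ⟨j, rfl⟩ := Subgroup.mem_zpowers_iff.1 ha
        have : Commute g (z' ^ j) := Commute.zpow_right (Subgroup.mem_center_iff.1 hzc' g) j
        rw [this.eq, mul_inv_cancel_right]
      rw [h1]; exact ha
    have hZ0le : Subgroup.zpowers z' ≤ R := by
      rw [Subgroup.zpowers_le]; exact hzR'
    have hZ0c : Nat.card (Subgroup.zpowers z') = p := by rw [Nat.card_zpowers, hzo]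
    let f := QuotientGroup.mk' (Subgroup.zpowers z')
    have hf : Function.Surjective f := QuotientGroup.mk'_surjective _
    let Rb : Subgroup (T ⧸ Subgroup.zpowers z') := R.map f
    have hcomap : Rb.comap f = R := by
      apply Subgroup.comap_map_eq_self
      rw [QuotientGroup.ker_mk']
      exact hZ0le
    have hRbn : Rb.Normal := hRn.map f hf
    have hRbc : Nat.card R = p * Nat.card Rb := by
      have := card_comap_mk (Subgroup.zpowers z') Rb
      rw [hZ0c] at this
      rw [← this]
      show Nat.card R = Nat.card (Rb.comap f)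
      rw [hcomap]
    have hdvd' : p ^ k ∣ Nat.card Rb := by
      rw [hRbc, pow_succ'] at hdvd
      exact Nat.dvd_of_mul_dvd_mul_left hp.out.pos hdvd
    have hTb : IsPGroup p (T ⧸ Subgroup.zpowers z') := hT.to_quotient _
    obtain ⟨Ab, hAbR, hAbn, hAbc⟩ := ih _ hTb Rb hRbn hdvd'
    refine ⟨Ab.comap f, ?_, hAbn.comap f, ?_⟩
    · rw [← hcomap]
      exact Subgroup.comap_mono hAbR
    · have := card_comap_mk (Subgroup.zpowers z') Ab
      rw [hZ0c, hAbc, ← pow_succ'] at this
      exact this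

/-- A maximal normal abelian subgroup of a finite `p`-group is self-centralizing. -/
theorem exists_self_centralizing {T : Type u} [Group T] [Finite T] {p : ℕ} [hp : Fact p.Prime]
    (hT : IsPGroup p T) :
    ∃ N : Subgroup T, N.Normal ∧ (∀ a ∈ N, ∀ b ∈ N, a * b = b * a) ∧
      ∀ g : T, (∀ a ∈ N, g * a = a * g) → g ∈ N := by
  classical
  let S : Set (Subgroup T) := {N | N.Normal ∧ ∀ a ∈ N, ∀ b ∈ N, a * b = b * a}
  have hSne : S.Nonempty := ⟨⊥, inferInstance, by
    intro a ha b hb
    rw [Subgroup.mem_bot] at ha hb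
    rw [ha, hb]⟩
  obtain ⟨N, ⟨hNn, hNab⟩, hNmax⟩ := Set.exists_max_image S (fun N => Nat.card N)
    (Set.toFinite S) hSne
  refine ⟨N, hNn, hNab, ?_⟩
  intro g hg
  by_contra hgN
  haveI := hNn
  -- the centralizer of `N`
  let C : Subgroup T :=
    { carrier := {c | ∀ a ∈ N, c * a = a * c}
      one_mem' := by intro a _; simp
      mul_mem' := by
        intro c d hc hd a ha
        calc c * d * a = c * (d * a) := by group
          _ = c * (a * d) := by rw [hd a ha]
          _ = (c * a) * d := by group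
          _ = (a * c) * d := by rw [hc a ha]
          _ = a * (c * d) := by group
      inv_mem' := by
        intro c hc a ha
        have := hc a ha
        calc c⁻¹ * a = c⁻¹ * (a * c) * c⁻¹ := by group
          _ = c⁻¹ * (c * a) * c⁻¹ := by rw [this]
          _ = a * c⁻¹ := by group }
  have hCn : C.Normal := by
    constructor
    intro c hc t a ha
    have h1 : t⁻¹ * a * t ∈ N := by
      have := hNn.conj_mem a ha t⁻¹
      simpa using this
    have h2 := hc _ h1
    calc t * c * t⁻¹ * a = t * (c * (t⁻¹ * a * t)) * t⁻¹ := by group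
      _ = t * ((t⁻¹ * a * t) * c) * t⁻¹ := by rw [h2]
      _ = a * (t * c * t⁻¹) := by group
  let f := QuotientGroup.mk' N
  have hf : Function.Surjective f := QuotientGroup.mk'_surjective _
  let Cb : Subgroup (T ⧸ N) := C.map f
  have hCbn : Cb.Normal := hCn.map f hf
  have hCbne : Cb ≠ ⊥ := by
    intro h
    apply hgN
    have h1 : f g ∈ Cb := ⟨g, hg, rfl⟩
    rw [h, Subgroup.mem_bot] at h1
    exact (QuotientGroup.eq_one_iff g).1 h1
  obtain ⟨cb, hcb, hcb1, hcbc⟩ := exists_central_of_normal (hT.to_quotient N) Cb hCbn hCbne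
  obtain ⟨c, hcC, rfl⟩ := hcb
  -- the larger subgroup
  let N' : Subgroup T := (Subgroup.zpowers (f c)).comap f
  have hN'n : N'.Normal := by
    apply Subgroup.Normal.comap
    constructor
    intro a ha g
    have h1 : g * a * g⁻¹ = a := by
      obtain ⟨j, rfl⟩ := Subgroup.mem_zpowers_iff.1 ha
      have : Commute g ((f c) ^ j) :=
        Commute.zpow_right (Subgroup.mem_center_iff.1 hcbc g) j
      rw [this.eq, mul_inv_cancel_right]
    rw [h1]; exact ha
  have hform : ∀ a ∈ N', ∃ j : ℤ, ∃ n ∈ N, a = c ^ j * n := by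
    intro a ha
    obtain ⟨j, hj⟩ := Subgroup.mem_zpowers_iff.1 ha
    refine ⟨j, (c ^ j)⁻¹ * a, ?_, by group⟩
    rw [← QuotientGroup.eq]
    show ((c ^ j : T) : T ⧸ N) = a
    have : f (c ^ j) = f a := by rw [map_zpow]; exact hj
    exact this
  have hN'ab : ∀ a ∈ N', ∀ b ∈ N', a * b = b * a := by
    intro a ha b hb
    obtain ⟨j, n, hn, rfl⟩ := hform a ha
    obtain ⟨l, m, hm, rfl⟩ := hform b hb
    have hcj : ∀ (i : ℤ), (c ^ i) ∈ C := fun i => C.zpow_mem hcC i
    have e1 : n * c ^ l = c ^ l * n := (hcj l n hn).symm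
    have e2 : m * c ^ j = c ^ j * m := (hcj j m hm).symm
    have e3 : n * m = m * n := hNab n hn m hm
    have e4 : c ^ j * c ^ l = c ^ l * c ^ j := by
      rw [← zpow_add, ← zpow_add, add_comm]
    calc c ^ j * n * (c ^ l * m) = c ^ j * (n * c ^ l) * m := by group
      _ = c ^ j * (c ^ l * n) * m := by rw [e1]
      _ = (c ^ j * c ^ l) * (n * m) := by group
      _ = (c ^ l * c ^ j) * (m * n) := by rw [e3, e4]
      _ = c ^ l * (c ^ j * m) * n := by group
      _ = c ^ l * (m * c ^ j) * n := by rw [e2]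
      _ = c ^ l * m * (c ^ j * n) := by group
  have hle : N ≤ N' := by
    intro a ha
    have : f a = 1 := (QuotientGroup.eq_one_iff a).2 ha
    show f a ∈ Subgroup.zpowers (f c)
    rw [this]
    exact Subgroup.one_mem _
  have hcN' : c ∈ N' := Subgroup.mem_zpowers (f c)
  have hcN : c ∉ N := fun h => hcb1 ((QuotientGroup.eq_one_iff c).2 h)
  have h1 := hNmax N' ⟨hN'n, hN'ab⟩
  have h2 : N = N' := Subgroup.eq_of_le_of_card_ge hle h1
  exact hcN (h2 ▸ hcN')

/-- An involution acting on a cyclic 2-group fixes or inverts the square of the generator. -/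
lemma conj_sq_of_involution {T : Type*} [Group T] (n e : T) (t : ℕ) (hnt : orderOf n = 2 ^ t)
    (he : e * e = 1) (a : ℤ) (ha : e * n * e⁻¹ = n ^ a) :
    e * n ^ 2 * e⁻¹ = n ^ 2 ∨ e * n ^ 2 * e⁻¹ = (n ^ 2)⁻¹ := by
  have hei : e⁻¹ = e := inv_eq_of_mul_eq_one_left he
  -- `a ^ 2 ≡ 1`
  have h1 : n ^ (a * a) = n := by
    have h2 : e * (n ^ a) * e⁻¹ = (e * n * e⁻¹) ^ a := by rw [_root_.conj_zpow]
    rw [ha, ← ha] at h2
    rw [zpow_mul]
    calc (n ^ a) ^ a = (e * n * e⁻¹) ^ a := by rw [ha]
      _ = e * n ^ a * e⁻¹ := by rw [_root_.conj_zpow]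
      _ = e * (e * n * e⁻¹) * e⁻¹ := by rw [ha]
      _ = (e * e) * n * (e⁻¹ * e⁻¹) := by group
      _ = n := by rw [hei, he]; group
  have h3 : ((2 : ℤ) ^ t) ∣ a * a - 1 := by
    have h4 : n ^ (a * a - 1) = 1 := by
      rw [zpow_sub_one, h1, mul_inv_cancel]
    have h5 := orderOf_dvd_iff_zpow_eq_one.2 h4
    rw [hnt] at h5
    exact_mod_cast h5
  have hsq : e * n ^ 2 * e⁻¹ = n ^ (2 * a) := by
    have : e * n ^ 2 * e⁻¹ = (e * n * e⁻¹) ^ 2 := by rw [_root_.conj_pow]
    rw [this, ha, ← zpow_natCast, ← zpow_mul, mul_comm]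
    norm_cast
  rw [hsq]
  have hfin : ∀ c : ℤ, ((2 : ℤ) ^ t) ∣ c → n ^ c = 1 := by
    intro c hc
    apply orderOf_dvd_iff_zpow_eq_one.1
    rw [hnt]
    exact_mod_cast hc
  rcases t with _ | t
  · -- `n = 1`
    have hn1 : n = 1 := by
      rw [pow_zero] at hnt
      exact orderOf_eq_one_iff.1 hnt
    left
    simp [hn1]
  · -- `a` is odd
    have hodd : Odd a := by
      by_contra hev
      rw [Int.not_odd_iff_even] at hev
      obtain ⟨b, hb⟩ := hev
      have h6 : (2 : ℤ) ∣ a * a - 1 := Dvd.dvd.trans (dvd_pow_self 2 (by omega)) h3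
      have h7 : a * a = 2 * (2 * b * b) := by rw [hb]; ring
      omega
    obtain ⟨b, hb⟩ := hodd
    have h8 : a * a - 1 = 4 * (b * (b + 1)) := by rw [hb]; ring
    have key : ((2 : ℤ) ^ (t + 1)) ∣ 4 * b ∨ ((2 : ℤ) ^ (t + 1)) ∣ 4 * (b + 1) := by
      rcases t with _ | t
      · left
        exact ⟨2 * b, by ring⟩
      · rcases t with _ | t
        · left
          exact ⟨b, by ring⟩
        · -- general case
          rw [h8] at h3
          have h9 : ((2 : ℤ) ^ (t + 1 + 1 + 1)) = 4 * 2 ^ (t + 1) := by ring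
          rw [h9] at h3 ⊢
          have h10 : ((2 : ℤ) ^ (t + 1)) ∣ b * (b + 1) :=
            (mul_dvd_mul_iff_left (by norm_num)).1 h3
          rcases Int.even_or_odd b with hbe | hbo
          · -- `b + 1` is odd
            left
            have h11 : IsCoprime ((2 : ℤ) ^ (t + 1)) (b + 1) := by
              apply IsCoprime.pow_left
              obtain ⟨c, hc⟩ := hbe
              exact ⟨-c, 1, by rw [hc]; ring⟩
            exact mul_dvd_mul_left 4 (h11.dvd_of_dvd_mul_right h10)
          · right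
            have h11 : IsCoprime ((2 : ℤ) ^ (t + 1)) b := by
              apply IsCoprime.pow_left
              obtain ⟨c, hc⟩ := hbo
              exact ⟨-c, 1, by rw [hc]; ring⟩
            exact mul_dvd_mul_left 4 (h11.dvd_of_dvd_mul_left h10)
    rcases key with hk | hk
    · left
      have h12 : n ^ (2 * a - 2) = 1 := by
        apply hfin
        have : 2 * a - 2 = 4 * b := by rw [hb]; ring
        rw [this]
        exact hk
      have h13 : n ^ (2 * a) = n ^ (2 * a - 2) * n ^ (2 : ℤ) := by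
        rw [← zpow_add]; congr 1; ring
      rw [h13, h12, one_mul, zpow_ofNat]
    · right
      have h12 : n ^ (2 * a + 2) = 1 := by
        apply hfin
        have : 2 * a + 2 = 4 * (b + 1) := by rw [hb]; ring
        rw [this]
        exact hk
      have h13 : n ^ (2 * a) = n ^ (2 * a + 2) * (n ^ (2 : ℤ))⁻¹ := by
        rw [← zpow_neg, ← zpow_add]; congr 1; ring
      rw [h13, h12, one_mul, zpow_ofNat]

/-- Existence of a member of `E` outside a given finite set. -/
lemma exists_mem_notMem_finset {T : Type*} [Group T] [Finite T] (E : Subgroup T) (s : Finset T)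
    (h : s.card < Nat.card E) : ∃ e ∈ E, e ∉ s := by
  classical
  by_contra hcon
  push Not at hcon
  have h1 : Nat.card E ≤ Nat.card s :=
    Nat.card_le_card_of_injective (fun e : E => (⟨e.1, hcon e.1 e.2⟩ : s)) (by
      intro a b hab
      have h2 := congrArg Subtype.val hab
      exact Subtype.ext h2)
  have h2 : Nat.card s = s.card := by rw [Nat.card_eq_fintype_card, Fintype.card_coe]
  omega

/-- **Normal four-subgroup.** A 2-group with an elementary abelian subgroup of order 8 has a normal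
four-subgroup. -/
theorem exists_normal_klein {T : Type u} [Group T] [Finite T] (hT : IsPGroup 2 T) (E : Subgroup T)
    (hE : Nat.card E = 8) (hE2 : ∀ e ∈ E, e ^ 2 = 1) :
    ∃ A : Subgroup T, A.Normal ∧ Nat.card A = 4 ∧ ∀ a ∈ A, a ^ 2 = 1 := by
  classical
  haveI : Fact (Nat.Prime 2) := ⟨Nat.prime_two⟩
  by_contra hno
  push Not at hno
  obtain ⟨N, hNn, hNab, hNc⟩ := exists_self_centralizing hT
  -- uniqueness of involutions in `N`
  have huniq : ∀ y₁ ∈ N, ∀ y₂ ∈ N, y₁ ^ 2 = 1 → y₂ ^ 2 = 1 → y₁ ≠ 1 → y₂ ≠ 1 → y₁ = y₂ := by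
    intro y₁ hy₁ y₂ hy₂ h1 h2 h3 h4
    by_contra hne
    let Ω : Subgroup T :=
      { carrier := {y | y ∈ N ∧ y ^ 2 = 1}
        one_mem' := ⟨N.one_mem, by simp⟩
        mul_mem' := by
          rintro a b ⟨ha, ha2⟩ ⟨hb, hb2⟩
          refine ⟨N.mul_mem ha hb, ?_⟩
          rw [pow_two, ← mul_assoc, mul_assoc a b a, hNab b hb a ha, ← mul_assoc, ← pow_two, ha2,
            one_mul, ← pow_two, hb2]
        inv_mem' := by
          rintro a ⟨ha, ha2⟩
          exact ⟨N.inv_mem ha, by rw [inv_pow, ha2, inv_one]⟩ }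
    have hΩn : Ω.Normal := by
      constructor
      rintro y ⟨hy, hy2⟩ g
      refine ⟨hNn.conj_mem y hy g, ?_⟩
      rw [_root_.conj_pow, hy2]
      group
    have h4dvd : 4 ∣ Nat.card Ω := by
      haveI := Fintype.ofFinite Ω
      obtain ⟨j, hj⟩ := (hT.to_subgroup Ω).exists_card_eq
      have hcard : 3 ≤ Nat.card Ω := by
        have h5 : ({(⟨1, Ω.one_mem⟩ : Ω), ⟨y₁, hy₁, h1⟩, ⟨y₂, hy₂, h2⟩} : Finset Ω).card = 3 := by
          rw [Finset.card_eq_three]
          refine ⟨_, _, _, ?_, ?_, ?_, rfl⟩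
          · intro h
            exact h3 (congrArg Subtype.val h).symm
          · intro h
            exact h4 (congrArg Subtype.val h).symm
          · intro h
            exact hne (congrArg Subtype.val h)
        have h6 := Finset.card_le_univ
          ({(⟨1, Ω.one_mem⟩ : Ω), ⟨y₁, hy₁, h1⟩, ⟨y₂, hy₂, h2⟩} : Finset Ω)
        rw [h5] at h6
        rw [Nat.card_eq_fintype_card]
        exact h6
      rw [hj] at hcard ⊢
      rcases j with _ | _ | j
      · norm_num at hcard
      · norm_num at hcard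
      · exact ⟨2 ^ j, by ring⟩
    obtain ⟨A, hAΩ, hAn, hAc⟩ := exists_normal_le_of_dvd (p := 2) 2 T hT Ω hΩn (by simpa using h4dvd)
    obtain ⟨a, ha, ha2⟩ := hno A hAn (by simpa using hAc)
    exact ha2 (hAΩ ha).2
  -- `N` is nontrivial
  have hNne : N ≠ ⊥ := by
    rintro rfl
    have htriv : ∀ g : T, g = 1 := by
      intro g
      have := hNc g (by
        intro a ha
        rw [Subgroup.mem_bot] at ha
        rw [ha]; group)
      rwa [Subgroup.mem_bot] at this
    have hcard : Nat.card E ≤ 1 := by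
      have : Subsingleton E := ⟨fun a b => Subtype.ext ((htriv a).trans (htriv b).symm)⟩
      exact Finite.card_le_one_iff_subsingleton.2 this
    omega
  -- the involution of `N`
  have hzex : ∃ z ∈ N, z ^ 2 = 1 ∧ z ≠ 1 := by
    have h1 : (2 : ℕ) ∣ Nat.card N := by
      rcases (hT.to_subgroup N).card_eq_or_dvd with h | h
      · exact absurd (Subgroup.card_eq_one.mp h) hNne
      · exact h
    obtain ⟨x, hx⟩ := exists_prime_orderOf_dvd_card' (G := N) 2 h1
    refine ⟨x.1, x.2, ?_, ?_⟩
    · have h2 := pow_orderOf_eq_one x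
      rw [hx] at h2
      exact congrArg Subtype.val h2
    · intro h
      have : x = 1 := Subtype.ext h
      rw [this, orderOf_one] at hx
      omega
  obtain ⟨z, hzN, hz2, hz1⟩ := hzex
  have hzu : ∀ y ∈ N, y ^ 2 = 1 → y = 1 ∨ y = z := by
    intro y hy hy2
    by_cases h : y = 1
    · exact Or.inl h
    · exact Or.inr (huniq y hy z hzN hy2 hz2 h hz1)
  have hzz : z * z = 1 := by rw [← pow_two]; exact hz2
  have hzc : ∀ g : T, g * z = z * g := by
    intro g
    have h1 : g * z * g⁻¹ ∈ N := hNn.conj_mem z hzN g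
    have h2 : (g * z * g⁻¹) ^ 2 = 1 := by
      rw [_root_.conj_pow, hz2]; group
    have h3 : g * z * g⁻¹ ≠ 1 := by
      intro h
      apply hz1
      have := mul_inv_eq_one.1 h
      exact mul_eq_left.1 this
    have h4 := (hzu _ h1 h2).resolve_left h3
    exact mul_inv_eq_iff_eq_mul.1 h4
  -- a generator of `N`
  have hpow : ∀ y : T, ∃ s : ℕ, orderOf y = 2 ^ s := fun y => IsPGroup.iff_orderOf.1 hT y
  obtain ⟨n, hnN, hnmax⟩ := Set.exists_max_image (N : Set T) (fun y => orderOf y) (Set.toFinite _)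
    ⟨1, N.one_mem⟩
  simp only [SetLike.mem_coe] at hnN hnmax
  obtain ⟨t, hnt⟩ := hpow n
  have hzord : orderOf z = 2 := orderOf_eq_prime hz2 hz1
  have ht1 : 1 ≤ t := by
    have h1 := hnmax z hzN
    rw [hzord, hnt] at h1
    rcases t with _ | t
    · norm_num at h1
    · omega
  have hzn : z ∈ Subgroup.zpowers n := by
    have h1 : (n ^ (2 ^ (t - 1))) ^ 2 = 1 := by
      rw [← pow_mul, ← pow_succ]
      have : t - 1 + 1 = t := by omega
      rw [this, ← hnt, pow_orderOf_eq_one]
    have h2 : n ^ (2 ^ (t - 1)) ≠ 1 := by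
      intro h
      have h3 := orderOf_dvd_of_pow_eq_one h
      rw [hnt] at h3
      have h4 := (Nat.pow_dvd_pow_iff_le_right (by norm_num : 1 < 2)).1 h3
      omega
    have h3 := (hzu _ (N.pow_mem hnN _) h1).resolve_left h2
    rw [← h3]
    exact Subgroup.npow_mem_zpowers _ _
  have hgen : ∀ s : ℕ, ∀ y ∈ N, orderOf y = 2 ^ s → y ∈ Subgroup.zpowers n := by
    intro s
    induction s with
    | zero =>
      intro y _ hy
      rw [pow_zero] at hy
      rw [orderOf_eq_one_iff.1 hy]
      exact Subgroup.one_mem _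
    | succ s ih =>
      intro y hy hys
      have hy2N : y ^ 2 ∈ N := N.pow_mem hy _
      have hy2o : orderOf (y ^ 2) = 2 ^ s := by
        rw [orderOf_pow' y two_ne_zero, hys, Nat.gcd_eq_right (dvd_pow_self 2 (by omega))]
        rw [pow_succ]
        simp
      obtain ⟨j, hj⟩ := Subgroup.mem_zpowers_iff.1 (ih _ hy2N hy2o)
      rcases Int.even_or_odd' j with ⟨i, rfl | rfl⟩
      · -- `j` even: `y * n^(-i)` is an involution of `N` or trivial
        have hw : (y * (n ^ i)⁻¹) ^ 2 = 1 := by
          have hni : (n ^ i)⁻¹ ∈ N := N.inv_mem (N.zpow_mem hnN i)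
          have hc : y * (n ^ i)⁻¹ = (n ^ i)⁻¹ * y := hNab _ hy _ hni
          rw [pow_two]
          calc y * (n ^ i)⁻¹ * (y * (n ^ i)⁻¹) = y * ((n ^ i)⁻¹ * y) * (n ^ i)⁻¹ := by group
            _ = y * (y * (n ^ i)⁻¹) * (n ^ i)⁻¹ := by rw [hc]
            _ = y ^ 2 * ((n ^ i) * (n ^ i))⁻¹ := by rw [pow_two]; group
            _ = 1 := by
              have hj2 : y ^ 2 = n ^ i * n ^ i := by
                rw [← zpow_add, ← two_mul]
                exact hj.symm
              rw [hj2, mul_inv_cancel]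
        have hwN : y * (n ^ i)⁻¹ ∈ N := N.mul_mem hy (N.inv_mem (N.zpow_mem hnN i))
        have hy' : y = (y * (n ^ i)⁻¹) * n ^ i := by group
        rw [hy']
        apply Subgroup.mul_mem _ _ (Subgroup.zpow_mem_zpowers _ _)
        rcases hzu _ hwN hw with h | h
        · rw [h]; exact Subgroup.one_mem _
        · rw [h]; exact hzn
      · -- `j` odd: contradiction with the maximality of the order of `n`
        exfalso
        have h1 : n ^ (2 * i + 1) = y ^ 2 := hj
        -- `n` is a power of `y ^ 2`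
        have hcop : IsCoprime (2 * i + 1) ((2 : ℤ) ^ t) := by
          apply IsCoprime.pow_right
          exact ⟨1, -i, by ring⟩
        obtain ⟨u, v, huv⟩ := hcop
        have h2 : n = (y ^ 2) ^ u := by
          have h3 : n ^ ((2 : ℤ) ^ t) = 1 := by
            apply orderOf_dvd_iff_zpow_eq_one.1
            rw [hnt]
            exact_mod_cast dvd_refl _
          calc n = n ^ (u * (2 * i + 1) + v * 2 ^ t) := by rw [huv, zpow_one]
            _ = (n ^ (2 * i + 1)) ^ u * (n ^ ((2 : ℤ) ^ t)) ^ v := by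
                rw [zpow_add, mul_comm u, mul_comm v, zpow_mul, zpow_mul]
            _ = (y ^ 2) ^ u := by rw [h1, h3, one_zpow, mul_one]
        have h3 : orderOf n ∣ orderOf (y ^ 2) := by
          have hmem : n ∈ Subgroup.zpowers (y ^ 2) := by
            rw [h2]; exact Subgroup.zpow_mem_zpowers _ _
          exact orderOf_dvd_of_mem_zpowers hmem
        rw [hnt, hy2o] at h3
        have h4 := (Nat.pow_dvd_pow_iff_le_right (by norm_num : 1 < 2)).1 h3
        have h5 := hnmax y hy
        rw [hys, hnt] at h5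
        have h6 : s + 1 ≤ t := (Nat.pow_le_pow_iff_right (by norm_num : 1 < 2)).1 h5
        omega
  have hgen' : ∀ y ∈ N, ∃ k : ℤ, y = n ^ k := by
    intro y hy
    obtain ⟨s, hs⟩ := hpow y
    obtain ⟨k, hk⟩ := Subgroup.mem_zpowers_iff.1 (hgen s y hy hs)
    exact ⟨k, hk.symm⟩
  -- commuting with `n` means lying in `N`
  have hcommN : ∀ g : T, g * n = n * g → g ∈ N := by
    intro g hg
    apply hNc
    intro a ha
    obtain ⟨k, rfl⟩ := hgen' a ha
    exact (Commute.zpow_right (hg : Commute g n) k)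
  -- `E` is abelian
  have hEz : ∀ e ∈ E, e ∈ N → e = 1 ∨ e = z := fun e he heN => hzu e heN (hE2 e he)
  have hEcomm : ∀ a ∈ E, ∀ b ∈ E, a * b = b * a := by
    intro a ha b hb
    have h1 : (a * b) * (a * b) = 1 := by
      rw [← pow_two]; exact hE2 _ (E.mul_mem ha hb)
    have h2 : a * a = 1 := by rw [← pow_two]; exact hE2 _ ha
    have h3 : b * b = 1 := by rw [← pow_two]; exact hE2 _ hb
    calc a * b = a * (a * b * (a * b)) * b := by rw [h1]; group
      _ = (a * a) * b * a * (b * b) := by group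
      _ = b * a := by rw [h2, h3]; group
  -- the elements `e₁`, `e₂`
  obtain ⟨e₁, he₁, he₁s⟩ := exists_mem_notMem_finset E {1, z} (by
    rw [hE]
    exact lt_of_le_of_lt Finset.card_le_two (by norm_num))
  simp only [Finset.mem_insert, Finset.mem_singleton, not_or] at he₁s
  obtain ⟨he₁1, he₁z⟩ := he₁s
  obtain ⟨e₂, he₂, he₂s⟩ := exists_mem_notMem_finset E {1, z, e₁, e₁ * z} (by
    rw [hE]
    have h1 : ({1, z, e₁, e₁ * z} : Finset T).card ≤ 4 := by
      refine (Finset.card_insert_le _ _).trans ?_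
      refine Nat.succ_le_succ ((Finset.card_insert_le _ _).trans ?_)
      refine Nat.succ_le_succ ?_
      exact Finset.card_le_two
    omega)
  simp only [Finset.mem_insert, Finset.mem_singleton, not_or] at he₂s
  obtain ⟨he₂1, he₂z, he₂e₁, he₂e₁z⟩ := he₂s
  have he₁s : e₁ * e₁ = 1 := by rw [← pow_two]; exact hE2 _ he₁
  have he₂s' : e₂ * e₂ = 1 := by rw [← pow_two]; exact hE2 _ he₂
  have he₁N : e₁ ∉ N := fun h => (hEz e₁ he₁ h).elim he₁1 he₁z
  have he₂N : e₂ ∉ N := fun h => (hEz e₂ he₂ h).elim he₂1 he₂z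
  have he₁₂N : e₁ * e₂ ∉ N := by
    intro h
    rcases hEz _ (E.mul_mem he₁ he₂) h with h1 | h1
    · apply he₂e₁
      have : e₂ = e₁⁻¹ := eq_inv_of_mul_eq_one_right h1
      rw [this]
      exact inv_eq_of_mul_eq_one_left he₁s
    · apply he₂e₁z
      calc e₂ = e₁ * (e₁ * e₂) := by rw [← mul_assoc, he₁s, one_mul]
        _ = e₁ * z := by rw [h1]
  have he₁₂s : (e₁ * e₂) * (e₁ * e₂) = 1 := by
    rw [← pow_two]; exact hE2 _ (E.mul_mem he₁ he₂)
  -- every involution normalizes `N`, so acts on `n ^ 2`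
  have hact : ∀ e : T, e * e = 1 → e * n ^ 2 * e⁻¹ = n ^ 2 ∨ e * n ^ 2 * e⁻¹ = (n ^ 2)⁻¹ := by
    intro e he
    obtain ⟨a, ha⟩ := hgen' _ (hNn.conj_mem n hnN e)
    exact conj_sq_of_involution n e t hnt he a ha
  -- the key element
  have hkey : ∀ e : T, e * e = 1 → e ∉ N → e * n ^ 2 * e⁻¹ = n ^ 2 → e * n * e⁻¹ = n * z := by
    intro e he heN hfix
    have hy : n⁻¹ * (e * n * e⁻¹) ∈ N := N.mul_mem (N.inv_mem hnN) (hNn.conj_mem n hnN e)
    have hy2 : (n⁻¹ * (e * n * e⁻¹)) ^ 2 = 1 := by
      have hc : (e * n * e⁻¹) * n⁻¹ = n⁻¹ * (e * n * e⁻¹) :=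
        hNab _ (hNn.conj_mem n hnN e) _ (N.inv_mem hnN)
      rw [pow_two]
      calc n⁻¹ * (e * n * e⁻¹) * (n⁻¹ * (e * n * e⁻¹))
          = n⁻¹ * ((e * n * e⁻¹) * n⁻¹) * (e * n * e⁻¹) := by group
        _ = n⁻¹ * (n⁻¹ * (e * n * e⁻¹)) * (e * n * e⁻¹) := by rw [hc]
        _ = n⁻¹ * n⁻¹ * (e * (n * n) * e⁻¹) := by group
        _ = n⁻¹ * n⁻¹ * (e * n ^ 2 * e⁻¹) := by rw [pow_two]
        _ = 1 := by rw [hfix, pow_two]; group
    rcases hzu _ hy hy2 with h | h
    · exfalso
      apply heN
      apply hcommN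
      have h2 : e * n * e⁻¹ = n := by
        have := (inv_mul_eq_one.1 h)
        exact this.symm
      exact mul_inv_eq_iff_eq_mul.1 h2
    · rw [← h]; group
  -- `n ^ 4 ≠ 1`
  have hn4 : n ^ 4 ≠ 1 := by
    intro h4
    have hn2 : n ^ 2 = 1 ∨ n ^ 2 = z := hzu _ (N.pow_mem hnN 2) (by rw [← pow_mul]; exact h4)
    have hcen : ∀ g : T, g * n ^ 2 * g⁻¹ = n ^ 2 := by
      intro g
      rcases hn2 with h | h <;> rw [h]
      · group
      · rw [hzc g, mul_inv_cancel_right]
    have h1 := hkey e₁ he₁s he₁N (hcen e₁)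
    have h2 := hkey e₂ he₂s' he₂N (hcen e₂)
    apply he₁₂N
    apply hcommN
    have h3 : (e₁ * e₂) * n * (e₁ * e₂)⁻¹ = n := by
      calc (e₁ * e₂) * n * (e₁ * e₂)⁻¹ = e₁ * (e₂ * n * e₂⁻¹) * e₁⁻¹ := by group
        _ = e₁ * (n * z) * e₁⁻¹ := by rw [h2]
        _ = (e₁ * n * e₁⁻¹) * (e₁ * z * e₁⁻¹) := by group
        _ = (n * z) * z := by rw [h1, hzc e₁, mul_inv_cancel_right]
        _ = n := by rw [mul_assoc, hzz, mul_one]
    exact mul_inv_eq_iff_eq_mul.1 h3
  -- the element `e`
  obtain ⟨e, hee, heN, hefix⟩ : ∃ e : T, e * e = 1 ∧ e ∉ N ∧ e * n ^ 2 * e⁻¹ = n ^ 2 := by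
    rcases hact e₁ he₁s with h1 | h1
    · exact ⟨e₁, he₁s, he₁N, h1⟩
    · rcases hact e₂ he₂s' with h2 | h2
      · exact ⟨e₂, he₂s', he₂N, h2⟩
      · refine ⟨e₁ * e₂, he₁₂s, he₁₂N, ?_⟩
        calc (e₁ * e₂) * n ^ 2 * (e₁ * e₂)⁻¹ = e₁ * (e₂ * n ^ 2 * e₂⁻¹) * e₁⁻¹ := by group
          _ = e₁ * (n ^ 2)⁻¹ * e₁⁻¹ := by rw [h2]
          _ = (e₁ * n ^ 2 * e₁⁻¹)⁻¹ := by group
          _ = n ^ 2 := by rw [h1, inv_inv]
  have hen := hkey e hee heN hefix
  have hei : e⁻¹ = e := inv_eq_of_mul_eq_one_left hee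
  have hzpow : ∀ b : ℤ, z ^ b = 1 ∨ z ^ b = z := by
    intro b
    rcases Int.even_or_odd' b with ⟨i, rfl | rfl⟩
    · left
      rw [zpow_mul, zpow_two, hzz, one_zpow]
    · right
      rw [zpow_add, zpow_mul, zpow_two, hzz, one_zpow, one_mul, zpow_one]
  -- conjugates of `e`
  have hconj : ∀ g : T, g * e * g⁻¹ = e ∨ g * e * g⁻¹ = e * z := by
    intro g
    set e' := g * e * g⁻¹ with he'
    have hee' : e' * e' = 1 := by
      rw [he']
      calc g * e * g⁻¹ * (g * e * g⁻¹) = g * (e * e) * g⁻¹ := by group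
        _ = 1 := by rw [hee]; group
    have he'N : e' ∉ N := by
      intro h
      apply heN
      have := hNn.conj_mem e' h g⁻¹
      have e2 : g⁻¹ * e' * g⁻¹⁻¹ = e := by rw [he']; group
      rwa [e2] at this
    -- action of `e'` on `n`
    obtain ⟨b, hb⟩ := hgen' _ (hNn.conj_mem n hnN g⁻¹)
    simp only [inv_inv] at hb
    have h1 : e' * n * e'⁻¹ = n * z ^ b := by
      have hznb : e * n ^ b * e⁻¹ = n ^ b * z ^ b := by
        rw [← _root_.conj_zpow, hen]
        exact (show Commute n z from hzc n).mul_zpow b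
      calc e' * n * e'⁻¹ = g * (e * (g⁻¹ * n * g) * e⁻¹) * g⁻¹ := by rw [he']; group
        _ = g * (n ^ b * z ^ b) * g⁻¹ := by rw [hb, hznb]
        _ = g * n ^ b * g⁻¹ * z ^ b := by
            have : z ^ b * g⁻¹ = g⁻¹ * z ^ b := by
              have h2 : Commute z g⁻¹ := ((hzc g⁻¹).symm : Commute z g⁻¹)
              exact (h2.zpow_left b)
            calc g * (n ^ b * z ^ b) * g⁻¹ = g * n ^ b * (z ^ b * g⁻¹) := by group
              _ = g * n ^ b * (g⁻¹ * z ^ b) := by rw [this]
              _ = g * n ^ b * g⁻¹ * z ^ b := by group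
        _ = n * z ^ b := by
            rw [← hb]
            congr 1
            group
    have h2 : e' * n * e'⁻¹ = n * z := by
      rcases hzpow b with h3 | h3
      · exfalso
        apply he'N
        apply hcommN
        rw [h3, mul_one] at h1
        exact mul_inv_eq_iff_eq_mul.1 h1
      · rwa [h3] at h1
    -- `c = e * e'` lies in `N`
    have hcN : e * e' ∈ N := by
      apply hcommN
      have h3 : (e * e') * n * (e * e')⁻¹ = n := by
        calc (e * e') * n * (e * e')⁻¹ = e * (e' * n * e'⁻¹) * e⁻¹ := by group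
          _ = e * (n * z) * e⁻¹ := by rw [h2]
          _ = (e * n * e⁻¹) * (e * z * e⁻¹) := by group
          _ = (n * z) * z := by rw [hen, hzc e, mul_inv_cancel_right]
          _ = n := by rw [mul_assoc, hzz, mul_one]
      exact mul_inv_eq_iff_eq_mul.1 h3
    obtain ⟨j, hj⟩ := hgen' _ hcN
    set c := e * e' with hc
    have he'c : e' = e * c := by
      rw [hc, ← mul_assoc, hee, one_mul]
    -- `c ^ 2 = z ^ j`
    have hcsq : c * c * z ^ j = 1 := by
      have h3 : e * c * e⁻¹ = c * z ^ j := by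
        rw [hj, ← _root_.conj_zpow, hen]
        exact (show Commute n z from hzc n).mul_zpow j
      have h4 : (e * c) * (e * c) = 1 := by rw [← he'c]; exact hee'
      calc c * c * z ^ j = c * (c * z ^ j) := by group
        _ = c * (e * c * e⁻¹) := by rw [h3]
        _ = c * e * c * e := by rw [hei]; group
        _ = e * (e * c * e * c) * e := by
            calc c * e * c * e = (e * e) * (c * e * c * e) := by rw [hee, one_mul]
              _ = e * (e * c * e * c) * e := by group
        _ = e * ((e * c) * (e * c)) * e := by group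
        _ = 1 := by rw [h4, mul_one, hee]
    rcases hzpow j with h3 | h3
    · -- `c ^ 2 = 1`
      rw [h3, mul_one] at hcsq
      have hc2 : c ^ 2 = 1 := by rw [pow_two]; exact hcsq
      rcases hzu c hcN hc2 with h4 | h4
      · left
        rw [he'c, h4, mul_one]
      · right
        rw [he'c, h4]
    · -- `c ^ 2 = z`, impossible
      exfalso
      rw [h3] at hcsq
      have hc2 : c * c = z := by
        have : c * c * z * z = z := by rw [hcsq, one_mul]
        rw [mul_assoc, hzz, mul_one] at this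
        exact this
      have hc4 : c ^ 4 = 1 := by
        have : c ^ 4 = (c * c) * (c * c) := by
          rw [show (4 : ℕ) = 2 + 2 from rfl, pow_add, pow_two]
        rw [this, hc2, hzz]
      -- `j` is odd
      have hjodd : Odd j := by
        by_contra hev
        rw [Int.not_odd_iff_even] at hev
        obtain ⟨i, hi⟩ := hev
        apply hz1
        rw [← h3, hi, ← two_mul, zpow_mul, zpow_two, hzz, one_zpow]
      obtain ⟨i, hi⟩ := hjodd
      have hcop : IsCoprime j ((2 : ℤ) ^ t) := by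
        apply IsCoprime.pow_right
        exact ⟨1, -i, by rw [hi]; ring⟩
      obtain ⟨u, v, huv⟩ := hcop
      have hnc : n = c ^ u := by
        have h5 : n ^ ((2 : ℤ) ^ t) = 1 := by
          apply orderOf_dvd_iff_zpow_eq_one.1
          rw [hnt]
          exact_mod_cast dvd_refl _
        calc n = n ^ (u * j + v * 2 ^ t) := by rw [huv, zpow_one]
          _ = (n ^ j) ^ u * (n ^ ((2 : ℤ) ^ t)) ^ v := by
              rw [zpow_add, mul_comm u, mul_comm v, zpow_mul, zpow_mul]
          _ = c ^ u := by rw [← hj, h5, one_zpow, mul_one]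
      apply hn4
      rw [hnc, ← zpow_natCast, ← zpow_mul, mul_comm, zpow_mul, zpow_natCast, hc4, one_zpow]
  -- the normal four-subgroup
  have hez : e * z = z * e := hzc e
  have hee2 : e ^ 2 = 1 := by rw [pow_two]; exact hee
  have he1 : e ≠ 1 := fun h => heN (h ▸ N.one_mem)
  have hnez : e ≠ z := fun h => heN (h ▸ hzN)
  have hK := isKleinFour_kleinOf hee2 hz2 hez he1 hz1 hnez
  have hAn : (kleinOf e z hee2 hz2 hez).Normal := by
    constructor
    intro x hx g
    rw [mem_kleinOf] at hx ⊢
    have hgz : g * z * g⁻¹ = z := by rw [hzc g, mul_inv_cancel_right]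
    rcases hx with rfl | rfl | rfl | rfl
    · left; group
    · rcases hconj g with h | h
      · right; left; exact h
      · right; right; right; exact h
    · right; right; left; exact hgz
    · have e1 : g * (e * z) * g⁻¹ = (g * e * g⁻¹) * (g * z * g⁻¹) := by group
      rw [e1, hgz]
      rcases hconj g with h | h
      · right; right; right; rw [h]
      · right; left; rw [h, mul_assoc, hzz, mul_one]
  obtain ⟨a, ha, ha2⟩ := hno _ hAn hK.card_four
  exact ha2 (pow_two_of_mem_klein hK ha)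

end Cfsg.Agent.Lib.NormalKlein
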