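import Mathlib
import Cfsg.Agent.Lib.Frat
import Cfsg.Agent.Lib.NormalKlein
import Cfsg.Agent.Lib.GF2Setup

/-!
# Frattini index of 2-groups of automorphisms of odd abelian groups

Auxiliary facts on `|Q : Φ(Q)|` for `p`-groups, and 2-groups without a normal four-subgroup.
-/

set_option autoImplicit false
set_option linter.unusedSectionVars false

universe u

namespace Cfsg.Agent.Lib.OddAutTwo

open Cfsg.Agent.Lib

section frat
variable {M H : Type*} [Group M] [Group H] [Finite M]

/-- The Frattini index is at most the product of those of the image and the kernel. -/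
theorem frattini_index_le_mul {p : ℕ} [Fact p.Prime] (hM : IsPGroup p M) (f : M →* H)
    (hf : Function.Surjective f) :
    (frattini M).index ≤ (frattini H).index * (frattini f.ker).index := by
  haveI : Finite H := Finite.of_surjective f hf
  have hHp : IsPGroup p H := hM.of_surjective f hf
  set F := frattini M with hF
  set K := f.ker with hK
  have h1 : frattini H ≤ F.map f := by
    apply Frat.frattini_le_of_commutator_pow (p := p)
    · have h2 : (commutator M).map f = commutator H := by
        rw [commutator_def, commutator_def, Subgroup.map_commutator]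
        rw [(Subgroup.map_top_of_surjective f hf)]
      rw [← h2]
      exact Subgroup.map_mono (Frat.commutator_le_frattini hM)
    · intro x
      obtain ⟨y, rfl⟩ := hf x
      exact ⟨y ^ p, Frat.pow_mem_frattini hM y, map_pow f y p⟩
  have h3 : frattini K ≤ F.subgroupOf K := by
    apply Frat.frattini_le_of_commutator_pow (p := p)
    · have : commutator K ≤ (commutator M).subgroupOf K := by
        rw [commutator_def, Subgroup.commutator_le]
        intro a _ b _
        rw [Subgroup.mem_subgroupOf]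
        rw [commutator_def]
        exact Subgroup.commutator_mem_commutator (Subgroup.mem_top (a : M)) (Subgroup.mem_top (b : M))
      exact this.trans (Subgroup.comap_mono (Frat.commutator_le_frattini hM))
    · intro x
      rw [Subgroup.mem_subgroupOf]
      simpa using Frat.pow_mem_frattini hM (x : M)
  have h4 : (F.map f).index ≤ (frattini H).index :=
    Nat.le_of_dvd (Nat.pos_of_ne_zero Subgroup.index_ne_zero_of_finite) (Subgroup.index_dvd_of_le h1)
  have h5 : (F.subgroupOf K).index ≤ (frattini K).index :=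
    Nat.le_of_dvd (Nat.pos_of_ne_zero Subgroup.index_ne_zero_of_finite) (Subgroup.index_dvd_of_le h3)
  have h6 : (F ⊔ K).index = (F.map f).index := by
    rw [Subgroup.index_map, (MonoidHom.range_eq_top.mpr hf), Subgroup.index_top, mul_one]
  have h7 : F.relIndex (F ⊔ K) = F.relIndex K := Subgroup.relIndex_sup_left K F
  have h8 := Subgroup.relIndex_mul_index (le_sup_left : F ≤ F ⊔ K)
  rw [← h8, h7, h6, mul_comm]
  exact Nat.mul_le_mul h4 h5

/-- Any subgroup has index at most the order of the group. -/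
theorem index_le_card (S : Subgroup M) : S.index ≤ Nat.card M :=
  Nat.le_of_dvd Nat.card_pos S.index_dvd_card

/-- If `K` is normal in the `p`-group `M` then `|M:Φ(M)| ≤ |M:K| * |K:Φ(K)|`. -/
theorem frattini_index_le_index_mul {p : ℕ} [Fact p.Prime] (hM : IsPGroup p M) (K : Subgroup M)
    [K.Normal] : (frattini M).index ≤ K.index * (frattini K).index := by
  have := frattini_index_le_mul hM (QuotientGroup.mk' K) (QuotientGroup.mk'_surjective K)
  rw [QuotientGroup.ker_mk'] at this
  refine this.trans (Nat.mul_le_mul_right _ ?_)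
  exact index_le_card _

/-- A cyclic `p`-group has Frattini index at most `p`. -/
theorem frattini_index_le_of_isCyclic {p : ℕ} [hp : Fact p.Prime] (hM : IsPGroup p M)
    [IsCyclic M] : (frattini M).index ≤ p := by
  classical
  obtain ⟨g, hg⟩ := IsCyclic.exists_generator (α := M)
  have h := Frat.index_frattini_le hM ({g} : Finset M)
  have h2 : Frat.basisW M ({g} : Finset M) = ⊤ := by
    rw [Frat.basisW, eq_top_iff]
    intro x _
    apply Subgroup.mem_sup_left
    have : x ∈ Subgroup.zpowers g := hg x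
    rw [Subgroup.zpowers_eq_closure] at this
    simpa using this
  rw [h2, Subgroup.index_top, one_mul, Finset.card_singleton, pow_one] at h
  exact h

/-- A `p`-group with Frattini index at most `p` is cyclic. -/
theorem isCyclic_of_frattini_index_le {p : ℕ} [hp : Fact p.Prime] (hM : IsPGroup p M)
    (h : (frattini M).index ≤ p) : IsCyclic M := by
  classical
  by_cases htop : frattini M = ⊤
  · have : (⊥ : Subgroup M) = ⊤ := frattini_nongenerating (K := ⊥) (by rw [htop, sup_top_eq])
    haveI : Subsingleton (Subgroup M) := subsingleton_of_bot_eq_top this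
    haveI : Subsingleton M := Subgroup.subsingleton_iff.mp inferInstance
    exact isCyclic_of_subsingleton
  · obtain ⟨x, hx⟩ : ∃ x, x ∉ frattini M := by
      by_contra hc
      push Not at hc
      exact htop (eq_top_iff.mpr fun y _ => hc y)
    have h1 : Subgroup.zpowers x ⊔ frattini M = ⊤ := by
      rw [sup_comm]
      have h2 : frattini M ≤ frattini M ⊔ Subgroup.zpowers x := le_sup_left
      have h3 := Subgroup.relIndex_mul_index h2
      have h4 : (frattini M).relIndex (frattini M ⊔ Subgroup.zpowers x) ≠ 1 := by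
        intro h5
        rw [Subgroup.relIndex_eq_one] at h5
        exact hx (h5 (Subgroup.mem_sup_right (Subgroup.mem_zpowers x)))
      have h5 := Frat.relIndex_sup_zpowers_dvd hM (le_refl (frattini M)) x
      have h6 : (frattini M).relIndex (frattini M ⊔ Subgroup.zpowers x) = p :=
        ((Nat.dvd_prime hp.out).mp h5).resolve_left h4
      rw [h6] at h3
      have h7 : (frattini M ⊔ Subgroup.zpowers x).index ≠ 0 := Subgroup.index_ne_zero_of_finite
      have h8 : (frattini M ⊔ Subgroup.zpowers x).index = 1 := by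
        have hp0 := hp.out.pos
        have h9 : p * (frattini M ⊔ Subgroup.zpowers x).index ≤ p * 1 := by rw [h3, mul_one]; exact h
        have h10 := Nat.le_of_mul_le_mul_left h9 hp0
        omega
      exact Subgroup.index_eq_one.mp h8
    have h2 := frattini_nongenerating h1
    exact isCyclic_iff_exists_zpowers_eq_top.mpr ⟨x, h2⟩
end frat

section nk
variable {Q : Type u} [Group Q] [Finite Q]

/-- A normal four-subgroup, in terms of elements: a central involution `z` and a further involution
`e` whose conjugates lie in `{e, e z}`. -/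
def HasNK (Q : Type*) [Group Q] : Prop :=
  ∃ z e : Q, z ^ 2 = 1 ∧ z ≠ 1 ∧ e ^ 2 = 1 ∧ e ≠ 1 ∧ e ≠ z ∧ (∀ g, g * z = z * g) ∧
    ∀ g, g * e * g⁻¹ = e ∨ g * e * g⁻¹ = e * z

theorem hasNK_of_normal (hQ : IsPGroup 2 Q) (E : Subgroup Q) (hEn : E.Normal)
    (hc : Nat.card E = 4) (h2 : ∀ x ∈ E, x ^ 2 = 1) : HasNK Q := by
  classical
  haveI : Fact (Nat.Prime 2) := ⟨Nat.prime_two⟩
  have hE : E ≠ ⊥ := by
    rintro rfl
    simp at hc
  obtain ⟨z, hzE, hz1, hzc⟩ := NormalKlein.exists_central_of_normal hQ E hEn hE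
  have hzc' : ∀ g, g * z = z * g := Subgroup.mem_center_iff.mp hzc
  have hex : ∃ e ∈ E, e ≠ 1 ∧ e ≠ z := by
    by_contra hcon
    push Not at hcon
    have hsub : (E : Set Q) ⊆ (({1, z} : Finset Q) : Set Q) := by
      intro x hx
      by_cases hx1 : x = 1
      · simp [hx1]
      · simp [hcon x hx hx1]
    have h3 : Nat.card E ≤ (({1, z} : Finset Q) : Set Q).ncard := by
      have := Set.ncard_le_ncard hsub (Finset.finite_toSet _)
      rw [← Nat.card_coe_set_eq (E : Set Q)] at this
      exact this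
    rw [Set.ncard_coe_finset, hc] at h3
    have h4 : ({1, z} : Finset Q).card ≤ 2 := Finset.card_le_two
    omega
  obtain ⟨e, heE, he1, hez⟩ := hex
  have hcomm : z * e = e * z := (hzc' e).symm
  let K := KleinTools.kleinOf z e (h2 z hzE) (h2 e heE) hcomm
  have hKE : K ≤ E := by
    intro x hx
    rcases KleinTools.mem_kleinOf.mp hx with rfl | rfl | rfl | rfl
    · exact E.one_mem
    · exact hzE
    · exact heE
    · exact E.mul_mem hzE heE
  have hKcard : Nat.card K = 4 := by
    haveI := KleinTools.isKleinFour_kleinOf (h2 z hzE) (h2 e heE) hcomm hz1 he1 hez.symm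
    exact IsKleinFour.card_four
  have hKeq : K = E := Subgroup.eq_of_le_of_card_ge hKE (by rw [hc, hKcard])
  refine ⟨z, e, h2 z hzE, hz1, h2 e heE, he1, hez, hzc', ?_⟩
  intro g
  have hx : g * e * g⁻¹ ∈ K := by
    rw [hKeq]
    exact hEn.conj_mem e heE g
  rcases KleinTools.mem_kleinOf.mp hx with h | h | h | h
  · exfalso
    apply he1
    have : e = g⁻¹ * (g * e * g⁻¹) * g := by group
    rw [this, h]
    group
  · exfalso
    apply hez
    have : e = g⁻¹ * (g * e * g⁻¹) * g := by group
    rw [this, h, hzc' g⁻¹]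
    group
  · exact Or.inl h
  · exact Or.inr (h.trans hcomm)

/-- A normal commutative subgroup of a 2-group without normal four-subgroup is cyclic. -/
theorem isCyclic_of_normal_comm (hQ : IsPGroup 2 Q) (hno : ¬ HasNK Q) (D : Subgroup Q)
    (hD : D.Normal) (hcomm : ∀ a ∈ D, ∀ b ∈ D, a * b = b * a) : IsCyclic D := by
  classical
  haveI hf2 : Fact (Nat.Prime 2) := ⟨Nat.prime_two⟩
  let _ : CommGroup D :=
    { (inferInstance : Group D) with
      mul_comm := fun a b => Subtype.ext (hcomm a a.2 b b.2) }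
  have hDp : IsPGroup 2 D := hQ.to_subgroup D
  let s : D →* D := powMonoidHom 2
  let W : Subgroup Q := s.ker.map D.subtype
  have hW : ∀ x, x ∈ W ↔ x ∈ D ∧ x ^ 2 = 1 := by
    intro x
    constructor
    · rintro ⟨y, hy, rfl⟩
      refine ⟨y.2, ?_⟩
      have h0 : (y : D) ^ 2 = 1 := hy
      have h1 : ((y : D) ^ 2 : D).1 = (1 : D).1 := congrArg Subtype.val h0
      simpa using h1
    · rintro ⟨h1, h2⟩
      refine ⟨⟨x, h1⟩, ?_, rfl⟩
      show (⟨x, h1⟩ : D) ^ 2 = 1
      exact Subtype.ext h2
  have hWn : W.Normal := by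
    constructor
    intro x hx g
    rw [hW] at hx ⊢
    refine ⟨hD.conj_mem x hx.1 g, ?_⟩
    rw [conj_pow, hx.2]
    group
  have hWcard : Nat.card W = Nat.card s.ker :=
    Subgroup.card_map_of_injective D.subtype_injective
  have h4 : ¬ 2 ^ 2 ∣ Nat.card W := by
    intro h
    obtain ⟨E, hEW, hEn, hEc⟩ := NormalKlein.exists_normal_le_of_dvd (p := 2) 2 Q hQ W hWn h
    exact hno (hasNK_of_normal hQ E hEn hEc (fun x hx => ((hW x).mp (hEW hx)).2))
  have hle : Nat.card W ≤ 2 := by
    obtain ⟨n, hn⟩ := IsPGroup.iff_card.mp (hQ.to_subgroup W)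
    rw [hn] at h4 ⊢
    by_contra hc
    apply h4
    apply pow_dvd_pow
    by_contra hn2
    have : n ≤ 1 := by omega
    interval_cases n <;> simp at hc
  have hidx : s.range.index = Nat.card s.ker := by
    have h1 := Subgroup.card_mul_index s.range
    have h2 := Subgroup.card_mul_index s.ker
    rw [Subgroup.index_ker] at h2
    have hpos : 0 < Nat.card s.range := Nat.card_pos
    apply Nat.eq_of_mul_eq_mul_left hpos
    rw [h1, ← h2, mul_comm]
  have hr : s.range ≤ frattini D := by
    rintro _ ⟨x, rfl⟩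
    exact Frat.pow_mem_frattini hDp x
  have hidx2 : (frattini D).index ≤ s.range.index :=
    Nat.le_of_dvd (Nat.pos_of_ne_zero Subgroup.index_ne_zero_of_finite)
      (Subgroup.index_dvd_of_le hr)
  exact isCyclic_of_frattini_index_le hDp (by omega)

/-- The subgroup `A ∪ bA`. -/
def ext2 (A : Subgroup Q) (hA : A.Normal) (b : Q) (hb : b ^ 2 ∈ A) : Subgroup Q where
  carrier := {x | x ∈ A ∨ b⁻¹ * x ∈ A}
  one_mem' := Or.inl A.one_mem
  mul_mem' := by
    have hconj : ∀ x ∈ A, b⁻¹ * x * b ∈ A := fun x hx => by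
      simpa using hA.conj_mem x hx b⁻¹
    rintro x y (hx | hx) (hy | hy)
    · exact Or.inl (A.mul_mem hx hy)
    · right
      have : b⁻¹ * (x * y) = (b⁻¹ * x * b) * (b⁻¹ * y) := by group
      rw [this]
      exact A.mul_mem (hconj x hx) hy
    · right
      rw [← mul_assoc]
      exact A.mul_mem hx hy
    · left
      have : x * y = b ^ 2 * (b⁻¹ * (b⁻¹ * x) * b) * (b⁻¹ * y) := by group
      rw [this]
      exact A.mul_mem (A.mul_mem hb (hconj _ hx)) hy
  inv_mem' := by
    have hconj : ∀ x ∈ A, b⁻¹ * x * b ∈ A := fun x hx => by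
      simpa using hA.conj_mem x hx b⁻¹
    rintro x (hx | hx)
    · exact Or.inl (A.inv_mem hx)
    · right
      have : b⁻¹ * x⁻¹ = (b⁻¹ * (b⁻¹ * x)⁻¹ * b) * (b ^ 2)⁻¹ := by group
      rw [this]
      exact A.mul_mem (hconj _ (A.inv_mem hx)) (A.inv_mem hb)

theorem mem_ext2 {A : Subgroup Q} {hA : A.Normal} {b : Q} {hb : b ^ 2 ∈ A} {x : Q} :
    x ∈ ext2 A hA b hb ↔ x ∈ A ∨ b⁻¹ * x ∈ A := Iff.rfl

/-- The subgroup-closed criterion for index at most two. -/
theorem index_le_two_of_mul_mem (H : Subgroup Q) (h : ∀ g k, g ∉ H → k ∉ H → g * k ∈ H) :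
    H.index ≤ 2 := by
  by_cases ht : H = ⊤
  · simp [ht]
  · obtain ⟨t, ht⟩ : ∃ t, t ∉ H := by
      by_contra hc
      push Not at hc
      exact ht (eq_top_iff.mpr fun y _ => hc y)
    have : H.index = 2 := by
      refine Subgroup.index_eq_two_iff.mpr ⟨t, fun b => ?_⟩
      by_cases hb : b ∈ H
      · right
        exact ⟨hb, fun hbt => ht (by simpa using H.mul_mem (H.inv_mem hb) hbt)⟩
      · left
        exact ⟨h b t hb ht, hb⟩
    omega

/-- In a cyclic group, solutions of `x ^ n = 1` form the subgroup generated by an element of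
order `n`. -/
theorem mem_zpowers_of_pow_eq_one {H : Type*} [Group H] [Finite H] [IsCyclic H] {c x : H} {n : ℕ}
    (hn : 0 < n) (hc : orderOf c = n) (hx : x ^ n = 1) : x ∈ Subgroup.zpowers c := by
  classical
  haveI := Fintype.ofFinite H
  have h := IsCyclic.card_pow_eq_one_le (α := H) hn
  have hsub : ((Subgroup.zpowers c : Set H).toFinset) ⊆ Finset.univ.filter (fun y : H => y ^ n = 1) := by
    intro y hy
    simp only [Set.mem_toFinset, SetLike.mem_coe] at hy
    obtain ⟨k, rfl⟩ := Subgroup.mem_zpowers_iff.mp hy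
    simp only [Finset.mem_filter, Finset.mem_univ, true_and]
    rw [← zpow_natCast, ← zpow_mul, mul_comm, zpow_mul, zpow_natCast, ← hc, pow_orderOf_eq_one,
      one_zpow]
  have hcard : ((Subgroup.zpowers c : Set H).toFinset).card = n := by
    rw [Set.toFinset_card]
    have : Fintype.card (Subgroup.zpowers c : Set H) = Nat.card (Subgroup.zpowers c) := by
      rw [Nat.card_eq_fintype_card]
      rfl
    rw [this, Nat.card_zpowers, hc]
  have heq := Finset.eq_of_subset_of_card_le hsub (by rw [hcard]; exact h)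
  have hx2 : x ∈ Finset.univ.filter (fun y : H => y ^ n = 1) := by simp [hx]
  rw [← heq] at hx2
  simpa using hx2

/-- The "modular" configuration produces a normal four-group. -/
theorem hasNK_of_modular (A : Subgroup Q) (hAn : A.Normal)
    (hAcomm : ∀ x ∈ A, ∀ y ∈ A, x * y = y * x) (a : Q) (haA : A = Subgroup.zpowers a) (b : Q)
    (hbA : b ∉ A) (hb2 : b ^ 2 ∈ A) (hbg : ∀ g, b⁻¹ * (g * b * g⁻¹) ∈ A) (z : Q) (hzA : z ∈ A)
    (hz2 : z ^ 2 = 1) (hz1 : z ≠ 1) (hzc : ∀ g, g * z = z * g) (hσa : b⁻¹ * a * b = a * z) (d : Q)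
    (hdA : d ∈ A) (hdz : d ^ 2 = z) (hdb : b⁻¹ * d * b = d)
    (hker : ∀ x ∈ A, x ^ 2 = 1 → x = 1 ∨ x = z) (hker' : ∀ x ∈ A, x ^ 2 = z → b⁻¹ * x * b = x) :
    HasNK Q := by
  have haAm : a ∈ A := haA ▸ Subgroup.mem_zpowers a
  have hconj : ∀ x ∈ A, b⁻¹ * x * b ∈ A := fun x hx => by
    simpa using hAn.conj_mem x hx b⁻¹
  have hza : Commute a z := hAcomm a haAm z hzA
  have hσ : ∀ i : ℤ, b⁻¹ * a ^ i * b = a ^ i * z ^ i := by
    intro i
    have h1 : (b⁻¹ * a * b⁻¹⁻¹) ^ i = b⁻¹ * a ^ i * b⁻¹⁻¹ := conj_zpow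
    rw [inv_inv] at h1
    rw [← h1, hσa, hza.mul_zpow]
  have hzpow : ∀ i : ℤ, z ^ i = 1 ∨ z ^ i = z := by
    intro i
    rcases Int.even_or_odd' i with ⟨k, rfl | rfl⟩
    · left
      rw [zpow_mul, zpow_ofNat, hz2, one_zpow]
    · right
      rw [zpow_add, zpow_mul, zpow_ofNat, hz2, one_zpow, one_mul, zpow_one]
  have hzi : z⁻¹ = z := inv_eq_of_mul_eq_one_left (by rw [← pow_two]; exact hz2)
  -- the square of `b` is the square of a power of `a`
  obtain ⟨j, hj⟩ : ∃ j : ℤ, a ^ j = b ^ 2 := by
    have : b ^ 2 ∈ Subgroup.zpowers a := haA ▸ hb2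
    exact Subgroup.mem_zpowers_iff.mp this
  have hj2 : z ^ j = 1 := by
    have h1 := hσ j
    rw [hj] at h1
    have h2 : b⁻¹ * b ^ 2 * b = b ^ 2 := by group
    rw [h2] at h1
    exact (mul_eq_left.mp h1.symm)
  obtain ⟨i, hi⟩ : ∃ i : ℤ, j = 2 * i := by
    rcases Int.even_or_odd' j with ⟨k, rfl | rfl⟩
    · exact ⟨k, rfl⟩
    · exfalso
      apply hz1
      rw [zpow_add, zpow_mul, zpow_ofNat, hz2, one_zpow, one_mul, zpow_one] at hj2
      exact hj2
  -- an involution in the coset `bA`
  obtain ⟨x₁, hx₁A, hy2⟩ : ∃ x₁ ∈ A, (b * x₁) ^ 2 = 1 := by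
    have hx₀A : a ^ (-i) ∈ A := A.zpow_mem haAm _
    have h0 : (b * a ^ (-i)) * (b * a ^ (-i)) = z ^ (-i) := by
      have h1 : (b * a ^ (-i)) * (b * a ^ (-i)) = b ^ 2 * (b⁻¹ * a ^ (-i) * b) * a ^ (-i) := by group
      rw [h1, hσ (-i), ← hj, hi]
      have h2 : a ^ (2 * i) * (a ^ (-i) * z ^ (-i)) * a ^ (-i) =
          (a ^ (2 * i) * (a ^ (-i) * a ^ (-i))) * z ^ (-i) := by
        have : Commute (z ^ (-i)) (a ^ (-i)) := (hza.zpow_zpow (-i) (-i)).symm
        simp only [mul_assoc, this.eq]
      rw [h2, ← zpow_add, ← zpow_add]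
      have : 2 * i + (-i + -i) = 0 := by ring
      rw [this, zpow_zero, one_mul]
    rcases hzpow (-i) with h | h
    · exact ⟨a ^ (-i), hx₀A, by rw [pow_two, h0, h]⟩
    · refine ⟨a ^ (-i) * d, A.mul_mem hx₀A hdA, ?_⟩
      have h1 : (b * (a ^ (-i) * d)) ^ 2 =
          ((b * a ^ (-i)) * (b * a ^ (-i))) * ((a ^ (-i))⁻¹ * (b⁻¹ * d * b) * a ^ (-i)) * d := by
        rw [pow_two]
        group
      have h2 : (a ^ (-i))⁻¹ * d * a ^ (-i) = d := by
        have := hAcomm _ hx₀A d hdA
        rw [mul_assoc, ← this, inv_mul_cancel_left]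
      rw [h1, h0, h, hdb, h2, mul_assoc, ← pow_two, hdz, ← pow_two, hz2]
  set y := b * x₁ with hy
  have hyA : y ∉ A := by
    intro h
    apply hbA
    have : b = y * x₁⁻¹ := by rw [hy]; group
    rw [this]
    exact A.mul_mem h (A.inv_mem hx₁A)
  have hy1 : y ≠ 1 := fun h => hyA (h ▸ A.one_mem)
  have hyz : y ≠ z := fun h => hyA (h ▸ hzA)
  refine ⟨z, y, hz2, hz1, hy2, hy1, hyz, hzc, ?_⟩
  intro g
  set w := y⁻¹ * (g * y * g⁻¹) with hw
  have hwA : w ∈ A := by
    have : w = x₁⁻¹ * (b⁻¹ * (g * b * g⁻¹)) * (g * x₁ * g⁻¹) := by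
      rw [hw, hy]
      group
    rw [this]
    exact A.mul_mem (A.mul_mem (A.inv_mem hx₁A) (hbg g)) (hAn.conj_mem x₁ hx₁A g)
  have hyw : g * y * g⁻¹ = y * w := by rw [hw]; group
  have hσw : b⁻¹ * w * b * w = 1 := by
    have h1 : (g * y * g⁻¹) ^ 2 = 1 := by
      rw [conj_pow, hy2]
      group
    rw [hyw] at h1
    have h2 : y⁻¹ * w * y = b⁻¹ * w * b := by
      have := hAcomm _ (hconj w hwA) x₁ hx₁A
      rw [hy]
      calc (b * x₁)⁻¹ * w * (b * x₁) = x₁⁻¹ * (b⁻¹ * w * b) * x₁ := by group
        _ = x₁⁻¹ * (x₁ * (b⁻¹ * w * b)) := by rw [mul_assoc, this]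
        _ = b⁻¹ * w * b := by group
    have h3 : (y * w) ^ 2 = y ^ 2 * (y⁻¹ * w * y) * w := by
      rw [pow_two, pow_two]
      group
    rw [h3, hy2, one_mul, h2] at h1
    exact h1
  -- `w` is `1` or `z`
  have hwcases : w = 1 ∨ w = z := by
    obtain ⟨k, hk⟩ : ∃ k : ℤ, a ^ k = w := by
      have : w ∈ Subgroup.zpowers a := haA ▸ hwA
      exact Subgroup.mem_zpowers_iff.mp this
    have h1 := hσ k
    rw [hk] at h1
    rw [h1] at hσw
    have h2 : w * z ^ k * w = w ^ 2 * z ^ k := by
      have : Commute (z ^ k) w := by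
        rw [← hk]
        exact (hza.zpow_zpow k k).symm
      rw [mul_assoc w, this.eq, pow_two, mul_assoc w w]
    rw [h2] at hσw
    rcases hzpow k with h | h
    · rw [h, mul_one] at hσw
      exact hker w hwA hσw
    · exfalso
      rw [h] at hσw
      have h3 : w ^ 2 = z := by
        have := eq_inv_of_mul_eq_one_left hσw
        rwa [hzi] at this
      have h4 := hker' w hwA h3
      rw [h1, h] at h4
      exact hz1 (mul_eq_left.mp h4)
  rcases hwcases with h | h
  · left
    rw [hyw, h, mul_one]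
  · right
    rw [hyw, h]

/-- A 2-group of order at least 4 without normal four-group has a normal cyclic subgroup of index at
most 2. -/
theorem exists_cyclic_index_le_two (hQ : IsPGroup 2 Q) (hno : ¬ HasNK Q) (h4 : 2 ^ 2 ∣ Nat.card Q) :
    ∃ A : Subgroup Q, A.Normal ∧ IsCyclic A ∧ A.index ≤ 2 := by
  classical
  haveI hf2 : Fact (Nat.Prime 2) := ⟨Nat.prime_two⟩
  obtain ⟨X, -, hXn, hXc⟩ := NormalKlein.exists_normal_le_of_dvd (p := 2) 2 Q hQ ⊤ inferInstance
    (by rwa [Subgroup.card_top])
  obtain ⟨c, hcX, hc2⟩ : ∃ c ∈ X, c ^ 2 ≠ 1 := by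
    by_contra hcon
    push Not at hcon
    exact hno (hasNK_of_normal hQ X hXn hXc hcon)
  have hc4 : c ^ 4 = 1 := by
    have h1 := Subgroup.orderOf_dvd_natCard X hcX
    rw [hXc] at h1
    exact orderOf_dvd_iff_pow_eq_one.mp h1
  have hord : orderOf c = 4 := by
    have h1 : orderOf c ∣ 2 ^ 2 := orderOf_dvd_of_pow_eq_one hc4
    obtain ⟨k, hk, hk2⟩ := (Nat.dvd_prime_pow Nat.prime_two).mp h1
    interval_cases k
    · exfalso
      apply hc2
      have : c = 1 := by simpa using hk2
      simp [this]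
    · exfalso
      apply hc2
      have h3 : orderOf c = 2 := by simpa using hk2
      rw [← h3]
      exact pow_orderOf_eq_one c
    · rw [hk2]
      norm_num
  have hXz : X = Subgroup.zpowers c := by
    symm
    apply Subgroup.eq_of_le_of_card_ge
    · rw [Subgroup.zpowers_le]
      exact hcX
    · rw [hXc, Nat.card_zpowers, hord]
      norm_num
  have hconj : ∀ g, g * c * g⁻¹ = c ∨ g * c * g⁻¹ = c⁻¹ := by
    intro g
    have h1 : g * c * g⁻¹ ∈ Subgroup.zpowers c := hXz ▸ hXn.conj_mem c hcX g
    obtain ⟨i, hi⟩ := Subgroup.mem_zpowers_iff.mp h1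
    rw [← zpow_mod_orderOf, hord] at hi
    have h5 : (i % ((4 : ℕ) : ℤ)) = 0 ∨ (i % ((4 : ℕ) : ℤ)) = 1 ∨ (i % ((4 : ℕ) : ℤ)) = 2 ∨
        (i % ((4 : ℕ) : ℤ)) = 3 := by omega
    have hsq : (g * c * g⁻¹) ^ 2 = g * c ^ 2 * g⁻¹ := conj_pow
    rcases h5 with h | h | h | h <;> rw [h] at hi
    · exfalso
      apply hc2
      have : g * c * g⁻¹ = 1 := by rw [← hi]; simp
      have hc1 : c = 1 := by
        have h6 : c = g⁻¹ * (g * c * g⁻¹) * g := by group
        rw [h6, this]
        group
      simp [hc1]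
    · left
      rw [← hi]
      simp
    · exfalso
      apply hc2
      have h6 : g * c * g⁻¹ = c ^ 2 := by rw [← hi]; norm_cast
      rw [h6, ← pow_mul] at hsq
      have h7 : g * c ^ 2 * g⁻¹ = 1 := by rw [← hsq]; exact hc4
      have h8 : c ^ 2 = g⁻¹ * (g * c ^ 2 * g⁻¹) * g := by group
      rw [h8, h7]
      group
    · right
      rw [← hi]
      have h6 : c ^ (3 : ℤ) * c = 1 := by
        rw [← zpow_add_one]
        norm_num
        exact_mod_cast hc4
      exact eq_inv_of_mul_eq_one_left h6
  set z := c ^ 2 with hzdef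
  have hz2 : z ^ 2 = 1 := by
    rw [hzdef, ← pow_mul]
    exact hc4
  have hzc : ∀ g, g * z = z * g := by
    intro g
    have h1 : g * z * g⁻¹ = z := by
      have h2 : g * z * g⁻¹ = (g * c * g⁻¹) ^ 2 := by rw [conj_pow]
      rw [h2]
      rcases hconj g with h | h
      · rw [h]
      · rw [h, inv_pow]
        exact inv_eq_of_mul_eq_one_left (by rw [hzdef, ← pow_add]; exact hc4)
    calc g * z = g * z * g⁻¹ * g := by group
      _ = z * g := by rw [h1]
  -- the centralizer of `c`
  let C : Subgroup Q := Subgroup.centralizer {c}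
  have hCmem : ∀ n, n ∈ C ↔ n * c = c * n := fun n => Subgroup.mem_centralizer_singleton_iff
  have hCn : C.Normal := by
    constructor
    intro n hn g
    rw [hCmem] at hn ⊢
    have h1 : n * (g⁻¹ * c * g) = (g⁻¹ * c * g) * n := by
      have h2 := hconj g⁻¹
      rw [inv_inv] at h2
      rcases h2 with h | h
      · rw [h, hn]
      · rw [h]
        have h3 : Commute n c := hn
        exact h3.inv_right.eq
    calc g * n * g⁻¹ * c = g * (n * (g⁻¹ * c * g)) * g⁻¹ := by group
      _ = g * ((g⁻¹ * c * g) * n) * g⁻¹ := by rw [h1]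
      _ = c * (g * n * g⁻¹) := by group
  have hCidx : C.index ≤ 2 := by
    apply index_le_two_of_mul_mem
    intro g k hg hk
    have hg' : g * c * g⁻¹ = c⁻¹ := by
      rcases hconj g with h | h
      · exfalso
        apply hg
        rw [hCmem]
        exact mul_inv_eq_iff_eq_mul.mp h
      · exact h
    have hk' : k * c * k⁻¹ = c⁻¹ := by
      rcases hconj k with h | h
      · exfalso
        apply hk
        rw [hCmem]
        exact mul_inv_eq_iff_eq_mul.mp h
      · exact h
    rw [hCmem, ← mul_inv_eq_iff_eq_mul]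
    calc g * k * c * (g * k)⁻¹ = g * (k * c * k⁻¹) * g⁻¹ := by group
      _ = (g * c * g⁻¹)⁻¹ := by rw [hk']; group
      _ = c := by rw [hg', inv_inv]
  -- a maximal cyclic normal subgroup of `C` containing `c`
  let S : Set (Subgroup Q) := {A | A.Normal ∧ A ≤ C ∧ c ∈ A ∧ IsCyclic A}
  have hXS : X ∈ S := by
    refine ⟨hXn, ?_, hcX, ?_⟩
    · rw [hXz, Subgroup.zpowers_le, hCmem]
    · rw [hXz]
      infer_instance
  obtain ⟨A, hAm⟩ := S.toFinite.exists_maximal ⟨X, hXS⟩
  obtain ⟨hAn, hAC, hcA, hAcyc⟩ := hAm.1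
  have hAmax : ∀ B ∈ S, A ≤ B → B ≤ A := fun B hB h => hAm.2 hB h
  have hAeq : A = C := by
    by_contra hne
    have hlt : A < C := lt_of_le_of_ne hAC hne
    -- an element `b` of `C` outside `A`, central modulo `A`
    haveI := hAn
    obtain ⟨b, hbC, hbA, hb2, hbg⟩ : ∃ b ∈ C, b ∉ A ∧ b ^ 2 ∈ A ∧ ∀ g, b⁻¹ * (g * b * g⁻¹) ∈ A := by
      let N : Subgroup (Q ⧸ A) := C.map (QuotientGroup.mk' A)
      haveI : (C.map (QuotientGroup.mk' A)).Normal :=
        hCn.map _ (QuotientGroup.mk'_surjective A)
      have hQA : IsPGroup 2 (Q ⧸ A) := hQ.of_surjective _ (QuotientGroup.mk'_surjective A)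
      have hN : N ≠ ⊥ := by
        intro h
        obtain ⟨x, hxC, hxA⟩ := Set.exists_of_ssubset hlt
        apply hxA
        have : (QuotientGroup.mk' A) x ∈ N := ⟨x, hxC, rfl⟩
        rw [h, Subgroup.mem_bot] at this
        exact (QuotientGroup.eq_one_iff x).mp this
      obtain ⟨t, htN, ht1, htc⟩ := NormalKlein.exists_central_of_normal hQA N inferInstance hN
      obtain ⟨m, hm⟩ := IsPGroup.iff_orderOf.mp hQA t
      have hm0 : m ≠ 0 := by
        rintro rfl
        exact ht1 (orderOf_eq_one_iff.mp (by simpa using hm))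
      obtain ⟨m, rfl⟩ := Nat.exists_eq_succ_of_ne_zero hm0
      have hb1 : t ^ (2 ^ m) ≠ 1 := by
        apply pow_ne_one_of_lt_orderOf
        · positivity
        · rw [hm]
          exact Nat.pow_lt_pow_right (by norm_num) (Nat.lt_succ_self m)
      have hb2 : (t ^ (2 ^ m)) ^ 2 = 1 := by
        rw [← pow_mul, ← pow_succ, ← hm]
        exact pow_orderOf_eq_one t
      obtain ⟨b, hbC, hbeq⟩ := N.pow_mem htN (2 ^ m)
      have hbeq' : (b : Q ⧸ A) = t ^ 2 ^ m := hbeq
      refine ⟨b, hbC, ?_, ?_, ?_⟩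
      · rw [← QuotientGroup.eq_one_iff, hbeq']
        exact hb1
      · rw [← QuotientGroup.eq_one_iff, QuotientGroup.mk_pow, hbeq']
        exact hb2
      · intro g
        rw [← QuotientGroup.eq_one_iff]
        have hcen : ∀ x : Q ⧸ A, x * t ^ 2 ^ m = t ^ 2 ^ m * x := by
          intro x
          have : Commute x t := Subgroup.mem_center_iff.mp htc x
          exact (this.pow_right _)
        rw [QuotientGroup.mk_mul, QuotientGroup.mk_mul, QuotientGroup.mk_mul, QuotientGroup.mk_inv,
          QuotientGroup.mk_inv, hbeq', hcen]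
        group
    -- the generator
    have hAcomm : ∀ x ∈ A, ∀ y ∈ A, x * y = y * x := by
      intro x hx y hy
      have : (⟨x, hx⟩ : A) * ⟨y, hy⟩ = ⟨y, hy⟩ * ⟨x, hx⟩ :=
        (IsCyclic.commGroup (α := A)).mul_comm _ _
      exact congrArg Subtype.val this
    obtain ⟨⟨a, haA⟩, hagen⟩ := IsCyclic.exists_generator (α := A)
    have haz : A = Subgroup.zpowers a := by
      apply le_antisymm
      · intro x hx
        obtain ⟨i, hi⟩ := Subgroup.mem_zpowers_iff.mp (hagen ⟨x, hx⟩)
        refine Subgroup.mem_zpowers_iff.mpr ⟨i, ?_⟩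
        have := congrArg Subtype.val hi
        simpa using this
      · rw [Subgroup.zpowers_le]
        exact haA
    have hbnorm : ∀ x ∈ A, b⁻¹ * x * b ∈ A := fun x hx => by
      simpa using hAn.conj_mem x hx b⁻¹
    have hσσ : ∀ x ∈ A, b⁻¹ * (b⁻¹ * x * b) * b = x := by
      intro x hx
      have h1 := hAcomm _ hb2 x hx
      calc b⁻¹ * (b⁻¹ * x * b) * b = (b ^ 2)⁻¹ * (x * b ^ 2) := by
            rw [pow_two]
            group
        _ = (b ^ 2)⁻¹ * (b ^ 2 * x) := by rw [h1]
        _ = x := by group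
    set u := a⁻¹ * (b⁻¹ * a * b) with hu
    have huA : u ∈ A := A.mul_mem (A.inv_mem haA) (hbnorm a haA)
    have hσu : b⁻¹ * u * b = u⁻¹ := by
      have h1 : b⁻¹ * u * b = (b⁻¹ * a * b)⁻¹ * (b⁻¹ * (b⁻¹ * a * b) * b) := by
        rw [hu]
        group
      rw [h1, hσσ a haA, hu, mul_inv_rev a⁻¹, inv_inv]
    haveI hcycA : IsCyclic A := hAcyc
    -- `x ^ 4 = 1` inside `A` forces `b` to centralize `x`
    have h44 : ∀ x ∈ A, x ^ 4 = 1 → b⁻¹ * x * b = x := by
      intro x hx hx4
      have h1 : orderOf (⟨c, hcA⟩ : A) = 4 := by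
        rw [Subgroup.orderOf_mk]
        exact hord
      have h2 : (⟨x, hx⟩ : A) ^ 4 = 1 := Subtype.ext hx4
      have h3 := mem_zpowers_of_pow_eq_one (by norm_num) h1 h2
      obtain ⟨i, hi⟩ := Subgroup.mem_zpowers_iff.mp h3
      have h4 : c ^ i = x := by
        have := congrArg Subtype.val hi
        simpa using this
      rw [← h4]
      have hcb : Commute b c := (hCmem b).mp hbC
      have : Commute b (c ^ i) := hcb.zpow_right i
      rw [mul_assoc, ← this.eq, inv_mul_cancel_left]
    -- `u` is an involution or trivial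
    have hu2 : u ^ 2 = 1 := by
      by_contra hne2
      obtain ⟨m, hm⟩ := IsPGroup.iff_orderOf.mp hQ u
      have hm2 : 2 ≤ m := by
        by_contra hlt2
        apply hne2
        have h1 : orderOf u ∣ 2 := by
          rw [hm]
          exact pow_dvd_pow_of_dvd (dvd_refl 2) |> fun _ => by
            have : m ≤ 1 := by omega
            exact (pow_dvd_pow 2 this)
        exact orderOf_dvd_iff_pow_eq_one.mp h1
      obtain ⟨k, rfl⟩ : ∃ k, m = k + 2 := ⟨m - 2, by omega⟩
      set v := u ^ 2 ^ k with hv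
      have hvA : v ∈ A := A.pow_mem huA _
      have hv4 : v ^ 4 = 1 := by
        rw [hv, ← pow_mul]
        have : 2 ^ k * 4 = 2 ^ (k + 2) := by ring
        rw [this, ← hm]
        exact pow_orderOf_eq_one u
      have h1 := h44 v hvA hv4
      have h2 : b⁻¹ * v * b = v⁻¹ := by
        have h3 : (b⁻¹ * u * b⁻¹⁻¹) ^ 2 ^ k = b⁻¹ * u ^ 2 ^ k * b⁻¹⁻¹ := conj_pow
        rw [inv_inv, hσu] at h3
        rw [hv, ← h3, inv_pow]
      rw [h2] at h1
      have h3 : v ^ 2 = 1 := by
        rw [pow_two]
        nth_rewrite 1 [← h1]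
        exact inv_mul_cancel v
      have h4 : u ^ 2 ^ (k + 1) = 1 := by
        rw [pow_succ, pow_mul]
        exact h3
      have h5 := orderOf_dvd_of_pow_eq_one h4
      rw [hm] at h5
      have h6 := (Nat.pow_dvd_pow_iff_le_right (by norm_num : 1 < 2)).mp h5
      omega
    have hz1 : z ≠ 1 := hc2
    have hzA : z ∈ A := A.pow_mem hcA 2
    have hker : ∀ x ∈ A, x ^ 2 = 1 → x = 1 ∨ x = z := by
      intro x hx hx2
      by_cases hx1 : x = 1
      · exact Or.inl hx1
      · right
        have h1 : (⟨x, hx⟩ : A) = ⟨z, hzA⟩ := by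
          apply GF2Setup.eq_of_sq_eq_one_of_isCyclic
          · exact Subtype.ext hx2
          · exact Subtype.ext hz2
          · exact fun h => hx1 (congrArg Subtype.val h)
          · exact fun h => hz1 (congrArg Subtype.val h)
        exact congrArg Subtype.val h1
    by_cases hu1 : u = 1
    · -- `b` centralizes `A`
      have hba : Commute b a := by
        have h1 : b⁻¹ * a * b = a := by
          have : a⁻¹ * (b⁻¹ * a * b) = 1 := hu1
          exact (inv_mul_eq_one.mp this).symm
        have h2 : b⁻¹ * (a * b) = a := by rw [← mul_assoc]; exact h1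
        exact (eq_inv_mul_iff_mul_eq.mp h2.symm)
      have hbcom : ∀ x ∈ A, Commute b x := by
        intro x hx
        rw [haz] at hx
        obtain ⟨i, rfl⟩ := Subgroup.mem_zpowers_iff.mp hx
        exact hba.zpow_right i
      let B := ext2 A hAn b hb2
      have hBmem : ∀ x, x ∈ B ↔ x ∈ A ∨ b⁻¹ * x ∈ A := fun x => Iff.rfl
      have hBn : B.Normal := by
        constructor
        intro x hx g
        rw [hBmem] at hx ⊢
        rcases hx with hx | hx
        · exact Or.inl (hAn.conj_mem x hx g)
        · right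
          have : b⁻¹ * (g * x * g⁻¹) = b⁻¹ * (g * b * g⁻¹) * (g * (b⁻¹ * x) * g⁻¹) := by group
          rw [this]
          exact A.mul_mem (hbg g) (hAn.conj_mem _ hx g)
      have hBcomm : ∀ x ∈ B, ∀ y ∈ B, x * y = y * x := by
        have hkey : ∀ x ∈ B, ∀ y ∈ A, x * y = y * x := by
          intro x hx y hy
          rcases (hBmem x).mp hx with hx | hx
          · exact hAcomm x hx y hy
          · have h1 : x = b * (b⁻¹ * x) := by group
            rw [h1, mul_assoc, hAcomm _ hx y hy, ← mul_assoc, (hbcom y hy).eq, mul_assoc]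
        intro x hx y hy
        rcases (hBmem y).mp hy with hy | hy
        · exact hkey x hx y hy
        · rcases (hBmem x).mp hx with hx | hx
          · exact (hkey y ((hBmem y).mpr (Or.inr hy)) x hx).symm
          · have h1 : x = b * (b⁻¹ * x) := by group
            have h2 : y = b * (b⁻¹ * y) := by group
            rw [h1, h2]
            generalize b⁻¹ * x = p at hx
            generalize b⁻¹ * y = q at hy
            have h3 := (hbcom p hx).eq
            have h4 := (hbcom q hy).eq
            calc b * p * (b * q) = b * (p * b) * q := by group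
              _ = b * (b * p) * q := by rw [h3]
              _ = b * b * (p * q) := by group
              _ = b * b * (q * p) := by rw [hAcomm p hx q hy]
              _ = b * (b * q) * p := by group
              _ = b * (q * b) * p := by rw [h4]
              _ = b * q * (b * p) := by group
      have hBcyc : IsCyclic B := isCyclic_of_normal_comm hQ hno B hBn hBcomm
      have hBC : B ≤ C := by
        intro x hx
        rcases (hBmem x).mp hx with hx | hx
        · exact hAC hx
        · have h1 : x = b * (b⁻¹ * x) := by group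
          rw [h1]
          exact C.mul_mem hbC (hAC hx)
      have hAB : A ≤ B := fun x hx => (hBmem x).mpr (Or.inl hx)
      have hBS : B ∈ S := ⟨hBn, hBC, hAB hcA, hBcyc⟩
      have hbB : b ∈ B := (hBmem b).mpr (Or.inr (by simp [A.one_mem]))
      exact hbA (hAmax B hBS hAB hbB)
    · -- `b` acts as `a ↦ a z`
      have huz : u = z := by
        rcases hker u huA hu2 with h | h
        · exact absurd h hu1
        · exact h
      have hσa : b⁻¹ * a * b = a * z := by
        rw [← huz, hu]
        group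
      refine hno (hasNK_of_modular A hAn hAcomm a haz b hbA hb2 hbg z hzA hz2 hz1 hzc hσa c hcA rfl ?_ hker ?_)
      · exact h44 c hcA hc4
      · intro x hx hx2
        refine h44 x hx ?_
        have : x ^ 4 = (x ^ 2) ^ 2 := by rw [← pow_mul]
        rw [this, hx2]
        exact hz2
  refine ⟨A, hAn, hAcyc, ?_⟩
  rw [hAeq]
  exact hCidx

/-- A 2-group without normal four-group has Frattini index at most 4. -/
theorem frattini_index_le_four (hQ : IsPGroup 2 Q) (hno : ¬ HasNK Q) : (frattini Q).index ≤ 4 := by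
  haveI hf2 : Fact (Nat.Prime 2) := ⟨Nat.prime_two⟩
  by_cases h4 : 2 ^ 2 ∣ Nat.card Q
  · obtain ⟨A, hAn, hAc, hAi⟩ := exists_cyclic_index_le_two hQ hno h4
    have h1 := frattini_index_le_index_mul hQ A
    have h2 : (frattini A).index ≤ 2 := frattini_index_le_of_isCyclic (hQ.to_subgroup A)
    calc (frattini Q).index ≤ A.index * (frattini A).index := h1
      _ ≤ 2 * 2 := Nat.mul_le_mul hAi h2
      _ = 4 := by norm_num
  · have h1 := index_le_card (frattini Q)
    obtain ⟨n, hn⟩ := IsPGroup.iff_card.mp hQ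
    rw [hn] at h4
    have hn2 : n ≤ 1 := by
      by_contra hc
      exact h4 (pow_dvd_pow 2 (by omega))
    rw [hn] at h1
    have : 2 ^ n ≤ 2 ^ 1 := Nat.pow_le_pow_right (by norm_num) hn2
    omega

end nk

section main

open scoped Pointwise

variable {V : Type u} [CommGroup V] [Finite V]

/-- Fixed points of an automorphism. -/
def fixS (a : MulAut V) : Subgroup V where
  carrier := {v | a v = v}
  one_mem' := map_one a
  mul_mem' := by
    intro x y (hx : a x = x) (hy : a y = y)
    show a (x * y) = x * y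
    rw [map_mul, hx, hy]
  inv_mem' := by
    intro x (hx : a x = x)
    show a x⁻¹ = x⁻¹
    rw [map_inv, hx]

/-- Elements inverted by an automorphism. -/
def invS (a : MulAut V) : Subgroup V where
  carrier := {v | a v = v⁻¹}
  one_mem' := by
    show a 1 = 1⁻¹
    simp
  mul_mem' := by
    intro x y (hx : a x = x⁻¹) (hy : a y = y⁻¹)
    show a (x * y) = (x * y)⁻¹
    rw [map_mul, hx, hy, mul_inv]
  inv_mem' := by
    intro x (hx : a x = x⁻¹)
    show a x⁻¹ = x⁻¹⁻¹
    rw [map_inv, hx]

theorem mem_fixS {a : MulAut V} {v : V} : v ∈ fixS a ↔ a v = v := Iff.rfl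
theorem mem_invS {a : MulAut V} {v : V} : v ∈ invS a ↔ a v = v⁻¹ := Iff.rfl

theorem sq_inj (hodd : Odd (Nat.card V)) {x y : V} (h : x ^ 2 = y ^ 2) : x = y :=
  (powCoprime (n := 2) hodd.coprime_two_right).injective h

theorem exists_sq_eq (hodd : Odd (Nat.card V)) (x : V) : ∃ y : V, y ^ 2 = x :=
  (powCoprime (n := 2) hodd.coprime_two_right).surjective x

/-- Every square is a product of a fixed and an inverted element. -/
theorem exists_decomp (hodd : Odd (Nat.card V)) (a : MulAut V) (ha : ∀ v, a (a v) = v) (v : V) :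
    ∃ v₁ ∈ fixS a, ∃ v₂ ∈ invS a, v ^ 2 = v₁ * v₂ := by
  refine ⟨v * a v, ?_, v * (a v)⁻¹, ?_, ?_⟩
  · rw [mem_fixS, map_mul, ha, mul_comm]
  · rw [mem_invS, map_mul, map_inv, ha, mul_inv, inv_inv, mul_comm]
  · rw [pow_two]
    have : v * a v * (v * (a v)⁻¹) = (v * v) * (a v * (a v)⁻¹) := by
      rw [mul_mul_mul_comm]
    rw [this, mul_inv_cancel, mul_one]

theorem card_fix_mul_inv (hodd : Odd (Nat.card V)) (a : MulAut V) (ha : ∀ v, a (a v) = v) :
    Nat.card (fixS a) * Nat.card (invS a) = Nat.card V := by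
  have hdisj : Disjoint (fixS a) (invS a) := by
    rw [Subgroup.disjoint_def]
    intro x hx hy
    rw [mem_fixS] at hx
    rw [mem_invS, hx] at hy
    apply sq_inj hodd
    rw [pow_two, one_pow]
    nth_rewrite 1 [hy]
    exact inv_mul_cancel x
  have hmul : (fixS a : Set V) * (invS a : Set V) = Set.univ := by
    rw [Set.eq_univ_iff_forall]
    intro x
    obtain ⟨y, rfl⟩ := exists_sq_eq hodd x
    obtain ⟨v₁, h1, v₂, h2, h3⟩ := exists_decomp hodd a ha y
    exact Set.mem_mul.mpr ⟨v₁, h1, v₂, h2, h3.symm⟩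
  exact (Subgroup.isComplement'_of_disjoint_and_mul_eq_univ hdisj hmul).card_mul_card

theorem eq_one_of_invS_eq_bot (hodd : Odd (Nat.card V)) (a : MulAut V) (ha : ∀ v, a (a v) = v)
    (h : invS a = ⊥) (v : V) : a v = v := by
  obtain ⟨v₁, h1, v₂, h2, h3⟩ := exists_decomp hodd a ha v
  rw [h, Subgroup.mem_bot] at h2
  rw [h2, mul_one] at h3
  apply sq_inj hodd
  rw [← map_pow, h3]
  exact h1

theorem eq_inv_of_fixS_eq_bot (hodd : Odd (Nat.card V)) (a : MulAut V) (ha : ∀ v, a (a v) = v)
    (h : fixS a = ⊥) (v : V) : a v = v⁻¹ := by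
  obtain ⟨v₁, h1, v₂, h2, h3⟩ := exists_decomp hodd a ha v
  rw [h, Subgroup.mem_bot] at h1
  rw [h1, one_mul] at h3
  apply sq_inj hodd
  rw [← map_pow, h3, h2, ← h3, inv_pow]

/-- Restriction of an action to an invariant subgroup. -/
def resHom {Q : Type*} [Group Q] (ρ : Q →* MulAut V) (W : Subgroup V)
    (hW : ∀ q, ∀ v ∈ W, ρ q v ∈ W) : Q →* MulAut W :=
  MonoidHom.mk' (fun q =>
    { toFun := fun w => ⟨ρ q (w : V), hW q w w.2⟩
      invFun := fun w => ⟨ρ q⁻¹ (w : V), hW q⁻¹ w w.2⟩
      left_inv := fun w => Subtype.ext (by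
        show ρ q⁻¹ (ρ q (w : V)) = w
        rw [← MulAut.mul_apply, ← map_mul, inv_mul_cancel, map_one, MulAut.one_apply])
      right_inv := fun w => Subtype.ext (by
        show ρ q (ρ q⁻¹ (w : V)) = w
        rw [← MulAut.mul_apply, ← map_mul, mul_inv_cancel, map_one, MulAut.one_apply])
      map_mul' := fun x y => Subtype.ext (map_mul (ρ q) (x : V) (y : V)) })
    (fun x y => by
      ext w
      show ρ (x * y) (w : V) = ρ x (ρ y (w : V))
      rw [map_mul, MulAut.mul_apply])

theorem resHom_apply {Q : Type*} [Group Q] (ρ : Q →* MulAut V) (W : Subgroup V)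
    (hW : ∀ q, ∀ v ∈ W, ρ q v ∈ W) (q : Q) (w : W) : ((resHom ρ W hW q w : W) : V) = ρ q (w : V) := rfl

/-- The bound in terms of `v = |V|` and `μ = |Q : Φ(Q)|`. -/
def Good (v μ : ℕ) : Prop := (v = 1 → μ ≤ 1) ∧ (v = 3 → μ ≤ 2) ∧ (v ≠ 1 → v ≠ 3 → 2 * μ ≤ v)

theorem Good.le_sub_one {v μ : ℕ} (h : Good v μ) (hv : v ≠ 1) (hv0 : v ≠ 0) : μ ≤ v - 1 := by
  by_cases h3 : v = 3
  · have := h.2.1 h3
    omega
  · have := h.2.2 hv h3
    omega

theorem good_mul {v₁ v₂ μ₁ μ₂ μ : ℕ} (h₁ : Good v₁ μ₁) (h₂ : Good v₂ μ₂) (hv₁ : v₁ ≠ 1)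
    (hv₂ : v₂ ≠ 1) (ho₁ : Odd v₁) (ho₂ : Odd v₂) (hμ : μ ≤ μ₁ * μ₂) : Good (v₁ * v₂) μ := by
  have h3₁ : 3 ≤ v₁ := by
    obtain ⟨k, rfl⟩ := ho₁
    omega
  have h3₂ : 3 ≤ v₂ := by
    obtain ⟨k, rfl⟩ := ho₂
    omega
  have h9 : 9 ≤ v₁ * v₂ := Nat.mul_le_mul h3₁ h3₂
  refine ⟨fun h => by omega, fun h => by omega, fun _ _ => ?_⟩
  by_cases e₁ : v₁ = 3
  · have m₁ := h₁.2.1 e₁
    by_cases e₂ : v₂ = 3
    · have m₂ := h₂.2.1 e₂
      subst e₁ e₂
      have : μ₁ * μ₂ ≤ 2 * 2 := Nat.mul_le_mul m₁ m₂
      omega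
    · have m₂ := h₂.2.2 hv₂ e₂
      subst e₁
      have : μ₁ * μ₂ ≤ 2 * μ₂ := Nat.mul_le_mul_right _ m₁
      omega
  · have m₁ := h₁.2.2 hv₁ e₁
    by_cases e₂ : v₂ = 3
    · have m₂ := h₂.2.1 e₂
      subst e₂
      have : μ₁ * μ₂ ≤ μ₁ * 2 := Nat.mul_le_mul_left _ m₂
      omega
    · have m₂ := h₂.2.2 hv₂ e₂
      have h5 : (2 * μ₁) * (2 * μ₂) ≤ v₁ * v₂ := Nat.mul_le_mul m₁ m₂
      have h6 : (2 * μ₁) * (2 * μ₂) = 4 * (μ₁ * μ₂) := by ring
      omega

theorem good_swap {w μ₁ μ₂ μ : ℕ} (h₁ : Good w μ₁) (h₂ : Good w μ₂) (hw : w ≠ 1) (hw3 : w ≠ 3)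
    (ho : Odd w) (hμ : μ ≤ 2 * (μ₁ * μ₂)) : Good (w * w) μ := by
  have h3 : 3 ≤ w := by
    obtain ⟨k, rfl⟩ := ho
    omega
  have h9 : 9 ≤ w * w := Nat.mul_le_mul h3 h3
  refine ⟨fun h => by omega, fun h => by omega, fun _ _ => ?_⟩
  have m₁ := h₁.2.2 hw hw3
  have m₂ := h₂.2.2 hw hw3
  have h5 : (2 * μ₁) * (2 * μ₂) ≤ w * w := Nat.mul_le_mul m₁ m₂
  have h6 : (2 * μ₁) * (2 * μ₂) = 4 * (μ₁ * μ₂) := by ring
  omega

/-- The induction hypothesis: the bound holds for all smaller odd abelian groups. -/
def GoodLT (n : ℕ) : Prop :=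
  ∀ (V' Q' : Type u) [CommGroup V'] [Finite V'] [Group Q'] [Finite Q'] (ρ' : Q' →* MulAut V'),
    Function.Injective ρ' → IsPGroup 2 Q' → Odd (Nat.card V') → Nat.card V' < n →
      Good (Nat.card V') (frattini Q').index

theorem reducible_step {Q : Type u} [Group Q] [Finite Q] (ρ : Q →* MulAut V)
    (hinj : Function.Injective ρ) (hQ : IsPGroup 2 Q) (hodd : Odd (Nat.card V)) (e : Q)
    (hec : ∀ g, g * e = e * g) (he2 : e ^ 2 = 1) (h1 : fixS (ρ e) ≠ ⊥) (h2 : invS (ρ e) ≠ ⊥)
    (IH : GoodLT.{u} (Nat.card V)) :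
    ∃ μ₁ μ₂, Good (Nat.card (fixS (ρ e))) μ₁ ∧ Good (Nat.card (invS (ρ e))) μ₂ ∧
      (frattini Q).index ≤ μ₁ * μ₂ ∧
      Nat.card Q ≤ Nat.card (MulAut (fixS (ρ e))) * Nat.card (MulAut (invS (ρ e))) := by
  haveI hf2 : Fact (Nat.Prime 2) := ⟨Nat.prime_two⟩
  set a := ρ e with ha
  have haa : ∀ v, a (a v) = v := by
    intro v
    rw [← MulAut.mul_apply, ha, ← map_mul, ← pow_two, he2, map_one, MulAut.one_apply]
  have hcomm : ∀ q v, a (ρ q v) = ρ q (a v) := by
    intro q v
    rw [← MulAut.mul_apply, ← MulAut.mul_apply, ha, ← map_mul, ← map_mul, hec q]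
  have hW₁ : ∀ q, ∀ v ∈ fixS a, ρ q v ∈ fixS a := by
    intro q v hv
    rw [mem_fixS] at hv ⊢
    rw [hcomm, hv]
  have hW₂ : ∀ q, ∀ v ∈ invS a, ρ q v ∈ invS a := by
    intro q v hv
    rw [mem_invS] at hv ⊢
    rw [hcomm, hv, map_inv]
  let ρ₁ := resHom ρ (fixS a) hW₁
  let ρ₂ := resHom ρ (invS a) hW₂
  have hjoint : ∀ q, ρ₁ q = 1 → ρ₂ q = 1 → q = 1 := by
    intro q hq₁ hq₂
    apply hinj
    rw [map_one]
    ext v
    rw [MulAut.one_apply]
    apply sq_inj hodd
    obtain ⟨v₁, hv₁, v₂, hv₂, h3⟩ := exists_decomp hodd a haa v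
    rw [← map_pow, h3, map_mul]
    have h4 : ρ q v₁ = v₁ := by
      have := congrArg (fun f : MulAut (fixS a) => ((f ⟨v₁, hv₁⟩ : fixS a) : V)) hq₁
      exact this
    have h5 : ρ q v₂ = v₂ := by
      have := congrArg (fun f : MulAut (invS a) => ((f ⟨v₂, hv₂⟩ : invS a) : V)) hq₂
      exact this
    rw [h4, h5]
  have hcard := card_fix_mul_inv hodd a haa
  have hV0 : 0 < Nat.card V := Nat.card_pos
  have hc₁ : 1 < Nat.card (fixS a) := by
    rw [Subgroup.one_lt_card_iff_ne_bot]
    exact h1
  have hc₂ : 1 < Nat.card (invS a) := by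
    rw [Subgroup.one_lt_card_iff_ne_bot]
    exact h2
  have hlt₁ : Nat.card (fixS a) < Nat.card V := by
    rw [← hcard]
    exact lt_mul_of_one_lt_right (by omega) hc₂
  have hlt₂ : Nat.card (invS a) < Nat.card V := by
    rw [← hcard]
    exact lt_mul_of_one_lt_left (by omega) hc₁
  have ho₁ : Odd (Nat.card (fixS a)) := Odd.of_dvd_nat hodd (Subgroup.card_subgroup_dvd_card _)
  have ho₂ : Odd (Nat.card (invS a)) := Odd.of_dvd_nat hodd (Subgroup.card_subgroup_dvd_card _)
  let f := ρ₁.rangeRestrict
  have hf : Function.Surjective f := MonoidHom.rangeRestrict_surjective ρ₁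
  have hR := IH (fixS a) ρ₁.range ρ₁.range.subtype ρ₁.range.subtype_injective
    (hQ.of_surjective f hf) ho₁ hlt₁
  have hf1 : ∀ k : f.ker, ρ₁ (k : Q) = 1 := by
    intro k
    have h3 : f (k : Q) = 1 := k.2
    exact congrArg Subtype.val h3
  have hK := IH (invS a) f.ker (ρ₂.comp f.ker.subtype)
    (by
      rw [injective_iff_map_eq_one]
      intro k hk
      exact Subtype.ext (hjoint k (hf1 k) hk))
    (hQ.to_subgroup _) ho₂ hlt₂
  refine ⟨_, _, hR, hK, frattini_index_le_mul hQ f hf, ?_⟩
  have hinj2 : Function.Injective (ρ₁.prod ρ₂) := by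
    rw [injective_iff_map_eq_one]
    intro q hq
    exact hjoint q (congrArg Prod.fst hq) (congrArg Prod.snd hq)
  haveI : Finite (MulAut (fixS a)) := Finite.of_injective (fun f => (f : fixS a ≃ fixS a))
    (fun x y h => by
      ext v
      exact congrArg (fun g : fixS a ≃ fixS a => ((g v : fixS a) : V)) h)
  haveI : Finite (MulAut (invS a)) := Finite.of_injective (fun f => (f : invS a ≃ invS a))
    (fun x y h => by
      ext v
      exact congrArg (fun g : invS a ≃ invS a => ((g v : invS a) : V)) h)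
  have := Nat.card_le_card_of_injective _ hinj2
  rwa [Nat.card_prod] at this

/-- The bound, one step of the induction. -/
theorem good_step (n : ℕ) (IH : GoodLT.{u} n) {Q : Type u} [Group Q] [Finite Q]
    (ρ : Q →* MulAut V) (hinj : Function.Injective ρ) (hQ : IsPGroup 2 Q)
    (hodd : Odd (Nat.card V)) (hn : Nat.card V = n) : Good n (frattini Q).index := by
  classical
  haveI hf2 : Fact (Nat.Prime 2) := ⟨Nat.prime_two⟩
  subst hn
  have hV0 : 0 < Nat.card V := Nat.card_pos
  by_cases h9 : Nat.card V < 9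
  · -- small cases
    have hc : Nat.card V = 1 ∨ Nat.card V = 3 ∨ Nat.card V = 5 ∨ Nat.card V = 7 := by
      obtain ⟨k, hk⟩ := hodd
      omega
    rcases hc with h1 | hc
    · haveI : Subsingleton V := (Nat.card_eq_one_iff_unique.mp h1).1
      have hsub : Subsingleton Q := by
        refine ⟨fun x y => hinj ?_⟩
        ext v
        exact Subsingleton.elim _ _
      have h2 := index_le_card (frattini Q)
      rw [Nat.card_of_subsingleton (1 : Q)] at h2
      rw [h1]
      exact ⟨fun _ => h2, by omega, by omega⟩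
    · have hpr : (Nat.card V).Prime := by
        rcases hc with h | h | h <;> rw [h] <;> norm_num
      haveI : Fact (Nat.card V).Prime := ⟨hpr⟩
      haveI : IsCyclic V := isCyclic_of_prime_card rfl
      have hcyc : IsCyclic (MulAut V) :=
        isCyclic_of_surjective _ (IsCyclic.mulAutMulEquiv V).symm.surjective
      haveI : IsCyclic Q := isCyclic_of_injective ρ hinj
      have h2 : (frattini Q).index ≤ 2 := frattini_index_le_of_isCyclic hQ
      refine ⟨fun h => by omega, fun _ => h2, fun _ _ => ?_⟩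
      rcases hc with h | h | h <;> omega
  · have hnot1 : Nat.card V ≠ 1 := by omega
    have hnot3 : Nat.card V ≠ 3 := by omega
    by_cases hNK : HasNK Q
    · obtain ⟨z, e, hz2, hz1, he2, he1, hez, hzc, heconj⟩ := hNK
      have hself : ∀ q, q ^ 2 = 1 → ∀ v, ρ q (ρ q v) = v := by
        intro q hq v
        rw [← MulAut.mul_apply, ← map_mul, ← pow_two, hq, map_one, MulAut.one_apply]
      have hinvne : ∀ q, q ^ 2 = 1 → q ≠ 1 → invS (ρ q) ≠ ⊥ := by
        intro q hq hq1 hbot
        apply hq1
        apply hinj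
        rw [map_one]
        ext v
        rw [MulAut.one_apply]
        exact eq_one_of_invS_eq_bot hodd (ρ q) (hself q hq) hbot v
      by_cases hfz : fixS (ρ z) = ⊥
      · have hzinv : ∀ v, ρ z v = v⁻¹ := eq_inv_of_fixS_eq_bot hodd (ρ z) (hself z hz2) hfz
        have hfe : fixS (ρ e) ≠ ⊥ := by
          intro hbot
          apply hez
          apply hinj
          ext v
          rw [eq_inv_of_fixS_eq_bot hodd (ρ e) (hself e he2) hbot v, hzinv]
        have hie : invS (ρ e) ≠ ⊥ := hinvne e he2 he1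
        by_cases hcent : ∀ g, g * e = e * g
        · obtain ⟨μ₁, μ₂, h₁, h₂, hμ, -⟩ := reducible_step ρ hinj hQ hodd e hcent he2 hfe hie IH
          have hcard := card_fix_mul_inv hodd (ρ e) (hself e he2)
          have hc₁ : Nat.card (fixS (ρ e)) ≠ 1 := fun h => hfe (Subgroup.card_eq_one.mp h)
          have hc₂ : Nat.card (invS (ρ e)) ≠ 1 := fun h => hie (Subgroup.card_eq_one.mp h)
          have ho₁ : Odd (Nat.card (fixS (ρ e))) :=
            Odd.of_dvd_nat hodd (Subgroup.card_subgroup_dvd_card _)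
          have ho₂ : Odd (Nat.card (invS (ρ e))) :=
            Odd.of_dvd_nat hodd (Subgroup.card_subgroup_dvd_card _)
          rw [← hcard]
          exact good_mul h₁ h₂ hc₁ hc₂ ho₁ ho₂ hμ
        · push Not at hcent
          obtain ⟨t, ht⟩ := hcent
          have hte : t * e * t⁻¹ = e * z := by
            rcases heconj t with h | h
            · exfalso
              exact ht (mul_inv_eq_iff_eq_mul.mp h)
            · exact h
          have hte' : t⁻¹ * e * t = e * z := by
            have h0 := heconj t⁻¹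
            rw [inv_inv] at h0
            rcases h0 with h | h
            · exfalso
              apply ht
              have h3 : e * t = t * e := by
                calc e * t = t * (t⁻¹ * e * t) := by group
                  _ = t * e := by rw [h]
              exact h3.symm
            · exact h
          -- the centralizer of `e`
          let M : Subgroup Q := Subgroup.centralizer {e}
          have hMmem : ∀ n, n ∈ M ↔ n * e = e * n := fun n => Subgroup.mem_centralizer_singleton_iff
          have htM : t ∉ M := fun h => ht ((hMmem t).mp h)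
          have hMidx : M.index = 2 := by
            have h1 : M.index ≤ 2 := by
              apply index_le_two_of_mul_mem
              intro g k hg hk
              have hg' : g * e * g⁻¹ = e * z := by
                rcases heconj g with h | h
                · exfalso
                  apply hg
                  rw [hMmem]
                  exact mul_inv_eq_iff_eq_mul.mp h
                · exact h
              have hk' : k * e * k⁻¹ = e * z := by
                rcases heconj k with h | h
                · exfalso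
                  apply hk
                  rw [hMmem]
                  exact mul_inv_eq_iff_eq_mul.mp h
                · exact h
              rw [hMmem, ← mul_inv_eq_iff_eq_mul]
              calc g * k * e * (g * k)⁻¹ = g * (k * e * k⁻¹) * g⁻¹ := by group
                _ = g * e * g⁻¹ * (g * z * g⁻¹) := by rw [hk']; group
                _ = e * z * z := by
                    rw [hg', hzc g, mul_assoc z, mul_inv_cancel, mul_one]
                _ = e := by
                    rw [mul_assoc, ← pow_two, hz2, mul_one]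
            have h2 : M.index ≠ 0 := Subgroup.index_ne_zero_of_finite
            have h3 : M.index ≠ 1 := by
              intro h
              rw [Subgroup.index_eq_one] at h
              exact htM (h ▸ Subgroup.mem_top t)
            omega
          haveI hMn : M.Normal := Subgroup.normal_of_index_eq_two hMidx
          have heM : e ∈ M := (hMmem e).mpr rfl
          let e' : M := ⟨e, heM⟩
          have hρM : Function.Injective (ρ.comp M.subtype) :=
            hinj.comp M.subtype_injective
          have hQM : IsPGroup 2 M := hQ.to_subgroup M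
          have hec' : ∀ g : M, g * e' = e' * g := fun g => Subtype.ext ((hMmem g).mp g.2)
          have he'2 : e' ^ 2 = 1 := Subtype.ext he2
          obtain ⟨μ₁, μ₂, h₁, h₂, hμ, hcardM⟩ :=
            reducible_step (ρ.comp M.subtype) hρM hQM hodd e' hec' he'2 hfe hie IH
          change Good (Nat.card (fixS (ρ e))) μ₁ at h₁
          change Good (Nat.card (invS (ρ e))) μ₂ at h₂
          change Nat.card M ≤ Nat.card (MulAut (fixS (ρ e))) * Nat.card (MulAut (invS (ρ e))) at hcardM
          have hcard := card_fix_mul_inv hodd (ρ e) (hself e he2)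
          have hc₁ : Nat.card (fixS (ρ e)) ≠ 1 := fun h => hfe (Subgroup.card_eq_one.mp h)
          have hc₂ : Nat.card (invS (ρ e)) ≠ 1 := fun h => hie (Subgroup.card_eq_one.mp h)
          have ho₁ : Odd (Nat.card (fixS (ρ e))) :=
            Odd.of_dvd_nat hodd (Subgroup.card_subgroup_dvd_card _)
          -- `t` swaps the two eigenspaces
          have hact : ∀ v, ρ e (ρ t v) = ρ t ((ρ e v)⁻¹) := by
            intro v
            have h0 : e * t = t * (e * z) := by
              rw [← hte']
              group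
            rw [← MulAut.mul_apply, ← map_mul, h0, map_mul, MulAut.mul_apply, map_mul, MulAut.mul_apply,
              hzinv, map_inv]
          have hsw₁ : ∀ v ∈ fixS (ρ e), ρ t v ∈ invS (ρ e) := by
            intro v hv
            rw [mem_fixS] at hv
            rw [mem_invS, hact, hv, map_inv]
          have hsw₂ : ∀ v ∈ invS (ρ e), ρ t v ∈ fixS (ρ e) := by
            intro v hv
            rw [mem_invS] at hv
            rw [mem_fixS, hact, hv, inv_inv]
          have hle₁ : Nat.card (fixS (ρ e)) ≤ Nat.card (invS (ρ e)) :=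
            Nat.card_le_card_of_injective (fun v : fixS (ρ e) => (⟨ρ t v, hsw₁ v v.2⟩ : invS (ρ e)))
              (fun x y h => Subtype.ext ((ρ t).injective (congrArg Subtype.val h)))
          have hle₂ : Nat.card (invS (ρ e)) ≤ Nat.card (fixS (ρ e)) :=
            Nat.card_le_card_of_injective (fun v : invS (ρ e) => (⟨ρ t v, hsw₂ v v.2⟩ : fixS (ρ e)))
              (fun x y h => Subtype.ext ((ρ t).injective (congrArg Subtype.val h)))
          have hcw : Nat.card (invS (ρ e)) = Nat.card (fixS (ρ e)) := le_antisymm hle₂ hle₁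
          rw [hcw] at hcard h₂
          set w := Nat.card (fixS (ρ e)) with hw
          have hμQ : (frattini Q).index ≤ 2 * (μ₁ * μ₂) := by
            have h3 := frattini_index_le_index_mul hQ M
            rw [hMidx] at h3
            exact h3.trans (Nat.mul_le_mul_left _ hμ)
          by_cases hw3 : w = 3
          · -- the case `|V| = 9`
            have hn9 : Nat.card V = 9 := by
              rw [← hcard, hw3]
            have hpr3 : Nat.Prime 3 := by norm_num
            have hfc : Nat.card (fixS (ρ e)) = 3 := hw3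
            have hic : Nat.card (invS (ρ e)) = 3 := by rw [hcw]; exact hw3
            have hm₁ : Nat.card (MulAut (fixS (ρ e))) = 2 := by
              haveI : IsCyclic (fixS (ρ e)) := isCyclic_of_prime_card (p := 3) (hp := ⟨hpr3⟩) hfc
              rw [IsCyclic.card_mulAut, hfc]
              decide
            have hm₂ : Nat.card (MulAut (invS (ρ e))) = 2 := by
              haveI : IsCyclic (invS (ρ e)) := isCyclic_of_prime_card (p := 3) (hp := ⟨hpr3⟩) hic
              rw [IsCyclic.card_mulAut, hic]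
              decide
            rw [hm₁, hm₂] at hcardM
            have hcQ : Nat.card Q ≤ 8 := by
              have := M.index_mul_card
              rw [hMidx] at this
              omega
            have hΦ : frattini Q ≠ ⊥ := by
              intro hbot
              have h5 : t * e * t⁻¹ * e⁻¹ ∈ frattini Q := by
                apply Frat.commutator_le_frattini hQ
                rw [commutator_def]
                exact Subgroup.commutator_mem_commutator (Subgroup.mem_top t) (Subgroup.mem_top e)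
              rw [hbot, Subgroup.mem_bot] at h5
              apply ht
              have h6 : t * e * t⁻¹ = e := mul_inv_eq_one.mp h5
              exact mul_inv_eq_iff_eq_mul.mp h6
            have hΦc : 2 ≤ Nat.card (frattini Q) := by
              have := (Subgroup.one_lt_card_iff_ne_bot (frattini Q)).mpr hΦ
              omega
            have hidx : (frattini Q).index * Nat.card (frattini Q) = Nat.card Q :=
              (frattini Q).index_mul_card
            have h4 : (frattini Q).index ≤ 4 := by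
              by_contra hc
              have h5 : 5 * 2 ≤ (frattini Q).index * Nat.card (frattini Q) :=
                Nat.mul_le_mul (by omega) hΦc
              omega
            refine ⟨fun h => by omega, fun h => by omega, fun _ _ => by omega⟩
          · rw [← hcard]
            exact good_swap h₁ h₂ hc₁ hw3 ho₁ hμQ
      · obtain ⟨μ₁, μ₂, h₁, h₂, hμ, -⟩ :=
          reducible_step ρ hinj hQ hodd z hzc hz2 hfz (hinvne z hz2 hz1) IH
        have hcard := card_fix_mul_inv hodd (ρ z) (hself z hz2)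
        have hc₁ : Nat.card (fixS (ρ z)) ≠ 1 := fun h => hfz (Subgroup.card_eq_one.mp h)
        have hc₂ : Nat.card (invS (ρ z)) ≠ 1 := fun h =>
          hinvne z hz2 hz1 (Subgroup.card_eq_one.mp h)
        have ho₁ : Odd (Nat.card (fixS (ρ z))) :=
          Odd.of_dvd_nat hodd (Subgroup.card_subgroup_dvd_card _)
        have ho₂ : Odd (Nat.card (invS (ρ z))) :=
          Odd.of_dvd_nat hodd (Subgroup.card_subgroup_dvd_card _)
        rw [← hcard]
        exact good_mul h₁ h₂ hc₁ hc₂ ho₁ ho₂ hμ
    · have h4 := frattini_index_le_four hQ hNK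
      refine ⟨fun h => by omega, fun h => by omega, fun _ _ => by omega⟩

/-- **Main bound.** If `Q` is a 2-group acting faithfully on the odd abelian group `V`, then
`Good |V| |Q:Φ(Q)|`. -/
theorem good_main (n : ℕ) : ∀ (V Q : Type u) [CommGroup V] [Finite V] [Group Q] [Finite Q]
    (ρ : Q →* MulAut V), Function.Injective ρ → IsPGroup 2 Q → Odd (Nat.card V) →
      Nat.card V = n → Good n (frattini Q).index := by
  induction n using Nat.strong_induction_on with
  | _ n ih =>
    intro V Q _ _ _ _ ρ hinj hQ hodd hn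
    refine good_step n ?_ ρ hinj hQ hodd hn
    intro V' Q' _ _ _ _ ρ' hinj' hQ' hodd' hlt
    exact ih _ hlt V' Q' ρ' hinj' hQ' hodd' rfl

end main

end Cfsg.Agent.Lib.OddAutTwo
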