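import Mathlib
import Cfsg.Agent.Lib.Frat
import Cfsg.Agent.Lib.OddAutTwo

/-!
# Involutive automorphisms of 2-groups with centralizer cyclic of order 4

If `σ` is an involutive automorphism of the finite 2-group `P` whose fixed points form a cyclic
group of order 4, then the set of the `s * (σ s)⁻¹` is a cyclic subgroup of index 4.
-/

set_option autoImplicit false

namespace Cfsg.Agent.Lib.CycFourB

open Cfsg.Agent.Lib

variable {P : Type*} [Group P] [Finite P]

/-- Triviality of a `2`-group equal to its Frattini subgroup. -/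
theorem eq_bot_of_le_frattini_map (B : Subgroup P) (h : B ≤ (frattini B).map B.subtype) : B = ⊥ := by
  have h1 : frattini B = ⊤ := by
    rw [eq_top_iff]
    intro x _
    obtain ⟨y, hy, hxy⟩ := h x.2
    have : y = x := Subtype.ext hxy
    rwa [← this]
  have h2 : (⊥ : Subgroup B) = ⊤ := frattini_nongenerating (K := ⊥) (by rw [h1, sup_top_eq])
  rw [eq_bot_iff]
  intro x hx
  have h3 : (⟨x, hx⟩ : B) ∈ (⊥ : Subgroup B) := by rw [h2]; exact Subgroup.mem_top _
  have h4 : (⟨x, hx⟩ : B) = 1 := Subgroup.mem_bot.mp h3
  exact Subgroup.mem_bot.mpr (congrArg Subtype.val h4)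

/-- Main counting theorem. -/
theorem thmA (hP : IsPGroup 2 P) (σ : P →* P) (hσ : ∀ x, σ (σ x) = x) (u : P) (hu : σ u = u)
    (hu4 : orderOf u = 4) (hfix : ∀ x, σ x = x → x ∈ Subgroup.zpowers u) :
    ∃ b : P, σ b = b⁻¹ ∧ (∀ s, s * (σ s)⁻¹ ∈ Subgroup.zpowers b) ∧
      (∀ x ∈ Subgroup.zpowers b, ∃ s, s * (σ s)⁻¹ = x) ∧ Nat.card P = 4 * orderOf b := by
  classical
  haveI : Fact (Nat.Prime 2) := ⟨Nat.prime_two⟩
  set l : P → P := fun s => s * (σ s)⁻¹ with hl
  have l_def : ∀ s, l s = s * (σ s)⁻¹ := fun _ => rfl
  have l_mul : ∀ x y, l (x * y) = x * l y * x⁻¹ * l x := by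
    intro x y
    simp only [l_def, map_mul]
    group
  have l_inv : ∀ x, l x⁻¹ = x⁻¹ * (l x)⁻¹ * x := by
    intro x
    simp only [l_def, map_inv]
    group
  have σl : ∀ s, σ (l s) = (l s)⁻¹ := by
    intro s
    simp only [l_def, map_mul, map_inv, hσ]
    group
  set B : Subgroup P := Subgroup.closure (Set.range l) with hB
  have hlB : ∀ s, l s ∈ B := fun s => Subgroup.subset_closure ⟨s, rfl⟩
  have hBP : IsPGroup 2 B := hP.to_subgroup B
  set K : Subgroup P := (frattini B).map B.subtype with hK
  have hKB : K ≤ B := by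
    rintro _ ⟨y, -, rfl⟩
    exact y.2
  have sq_mem : ∀ x ∈ B, x ^ 2 ∈ K := by
    intro x hx
    exact ⟨_, Frat.pow_mem_frattini hBP ⟨x, hx⟩, rfl⟩
  have hKn : ∀ x ∈ B, ∀ y ∈ K, x * y * x⁻¹ ∈ K := by
    rintro x hx _ ⟨y, hy, rfl⟩
    have hn : (frattini B).Normal := inferInstance
    exact ⟨_, hn.conj_mem y hy ⟨x, hx⟩, by simp⟩
  have lB_K : ∀ x ∈ B, l x ∈ K := by
    intro x hx
    induction hx using Subgroup.closure_induction with
    | mem x hx =>
      obtain ⟨s, rfl⟩ := hx
      have h1 : l (l s) = (l s) ^ 2 := by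
        rw [l_def, σl, inv_inv, pow_two]
      rw [h1]
      exact sq_mem _ (hlB s)
    | one =>
      have : l 1 = 1 := by simp [l_def]
      rw [this]
      exact K.one_mem
    | mul x y hx hy ihx ihy =>
      rw [l_mul]
      exact K.mul_mem (hKn x hx _ ihy) ihx
    | inv x hx ih =>
      rw [l_inv]
      have := hKn x⁻¹ (B.inv_mem hx) _ (K.inv_mem ih)
      simpa using this
  have triv : (∀ s, l s ∈ K) → B = ⊥ := by
    intro h
    apply eq_bot_of_le_frattini_map
    rw [hB, Subgroup.closure_le]
    rintro _ ⟨s, rfl⟩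
    exact h s
  have hu2 : u * u ≠ 1 := by
    intro h
    have h1 : orderOf u ∣ 2 := orderOf_dvd_of_pow_eq_one (by rw [pow_two]; exact h)
    rw [hu4] at h1
    omega
  have hcardP : 4 ∣ Nat.card P := by
    rw [← hu4]
    exact orderOf_dvd_natCard u
  -- the image has order `|P|/4`
  have hcardJ : Nat.card (Set.range l) * 4 = Nat.card P := by
    have h1 := Subgroup.card_eq_card_quotient_mul_card_subgroup (Subgroup.zpowers u)
    rw [Nat.card_zpowers, hu4] at h1
    rw [h1]
    congr 1
    refine Nat.card_congr (Equiv.ofBijective ?_ ?_).symm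
    · exact fun q => Quotient.liftOn' q (fun s => (⟨l s, s, rfl⟩ : Set.range l)) (by
        intro a b hab
        have hab' : a⁻¹ * b ∈ Subgroup.zpowers u := QuotientGroup.leftRel_apply.mp hab
        have hfixz : ∀ y ∈ Subgroup.zpowers u, σ y = y := by
          intro y hy
          obtain ⟨i, rfl⟩ := Subgroup.mem_zpowers_iff.mp hy
          rw [map_zpow, hu]
        have h2 := hfixz _ hab'
        apply Subtype.ext
        simp only [l_def]
        rw [map_mul, map_inv] at h2
        have h3 : σ b = σ a * (a⁻¹ * b) := by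
          rw [← h2]; group
        rw [h3]
        group)
    · constructor
      · intro a b hab
        induction a using QuotientGroup.induction_on with
        | H a =>
        induction b using QuotientGroup.induction_on with
        | H b =>
        have h2 : l a = l b := congrArg Subtype.val hab
        apply QuotientGroup.eq.mpr
        apply hfix
        simp only [l_def] at h2
        rw [map_mul, map_inv]
        have h3 : σ b = σ a * a⁻¹ * b := by
          have : (σ b)⁻¹ = b⁻¹ * (a * (σ a)⁻¹) := by rw [h2]; group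
          calc σ b = ((σ b)⁻¹)⁻¹ := by group
            _ = σ a * a⁻¹ * b := by rw [this]; group
        rw [h3]
        group
      · rintro ⟨_, s, rfl⟩
        exact ⟨(s : P ⧸ Subgroup.zpowers u), rfl⟩
  have hJB : Set.range l ⊆ (B : Set P) := Subgroup.subset_closure
  obtain ⟨k, hk⟩ := hP.index B
  have hidx := Subgroup.card_mul_index B
  -- index one or two is impossible
  have h0 : k ≠ 0 := by
    rintro rfl
    have hB1 : B = ⊤ := Subgroup.index_eq_one.mp (by simpa using hk)
    have hB2 : B = ⊥ := triv (fun s => lB_K s (by rw [hB1]; exact Subgroup.mem_top s))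
    have : u ∈ (⊥ : Subgroup P) := by rw [← hB2, hB1]; exact Subgroup.mem_top u
    rw [Subgroup.mem_bot] at this
    rw [this] at hu2
    simp at hu2
  have h1 : k ≠ 1 := by
    rintro rfl
    have hi2 : B.index = 2 := by simpa using hk
    haveI hBn : B.Normal := Subgroup.normal_of_index_eq_two hi2
    have hmm := fun a b => Subgroup.mul_mem_iff_of_index_two (H := B) hi2 (a := a) (b := b)
    by_cases huB : u ∈ B
    · -- `B` is cyclic, generated by `l y`
      have hy : ∃ y, y ∉ B := by
        by_contra hcon
        push Not at hcon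
        have : B = ⊤ := eq_top_iff.mpr fun x _ => hcon x
        rw [this, Subgroup.index_top] at hi2
        omega
      obtain ⟨y, hyB⟩ := hy
      set g := l y with hg
      have hKc : ∀ x ∈ K, y * x * y⁻¹ ∈ K := by
        rintro _ ⟨x, hx, rfl⟩
        have hchar : (frattini B).Characteristic := inferInstance
        have hfix' := hchar.fixed (MulAut.conjNormal y)
        have hmem : (MulAut.conjNormal y) x ∈ frattini B := by
          have h3 : x ∈ (frattini B).comap (MulAut.conjNormal y).toMonoidHom := by
            rw [hfix']; exact hx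
          exact h3
        exact ⟨_, hmem, by simp [MulAut.conjNormal_apply]⟩
      have hg_mem : g ∈ B := hlB y
      -- generators of `B` lie in `K ⊔ ⟨g⟩`
      have hle : B ≤ K ⊔ Subgroup.zpowers g := by
        rw [hB, Subgroup.closure_le]
        rintro _ ⟨s, rfl⟩
        by_cases hs : s ∈ B
        · exact Subgroup.mem_sup_left (lB_K s hs)
        · have h2 : y⁻¹ * s ∈ B := by
            rw [hmm]
            exact ⟨fun h => absurd (by simpa using B.inv_mem h) hyB, fun h => absurd h hs⟩
          have h3 : s = y * (y⁻¹ * s) := by group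
          rw [h3, l_mul]
          apply Subgroup.mul_mem
          · exact Subgroup.mem_sup_left (hKc _ (lB_K _ h2))
          · exact Subgroup.mem_sup_right (Subgroup.mem_zpowers _)
      -- in `B` this says `⟨g⟩` generates
      have htop : (Subgroup.zpowers (⟨g, hg_mem⟩ : B)) ⊔ frattini B = ⊤ := by
        rw [eq_top_iff]
        intro x _
        have hm : K ⊔ Subgroup.zpowers g ≤
            ((Subgroup.zpowers (⟨g, hg_mem⟩ : B)) ⊔ frattini B).map B.subtype := by
          refine sup_le (Subgroup.map_mono le_sup_right) ?_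
          rw [Subgroup.zpowers_le]
          exact ⟨⟨g, hg_mem⟩, Subgroup.mem_sup_left (Subgroup.mem_zpowers _), rfl⟩
        obtain ⟨y, hy, hxy⟩ := hm (hle x.2)
        have : y = x := Subtype.ext hxy
        rwa [← this]
      have hz := frattini_nongenerating htop
      have huz : (⟨u, huB⟩ : B) ∈ Subgroup.zpowers (⟨g, hg_mem⟩ : B) := by
        rw [hz]; exact Subgroup.mem_top _
      obtain ⟨i, hi⟩ := Subgroup.mem_zpowers_iff.mp huz
      have hi' : g ^ i = u := by
        have := congrArg Subtype.val hi
        simpa using this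
      have : σ u = u⁻¹ := by
        rw [← hi', map_zpow, hg, σl, inv_zpow]
      rw [hu] at this
      apply hu2
      calc u * u = u * u⁻¹ := by rw [← this]
        _ = 1 := by group
    · -- `u ∉ B`: all of `l` lies in `K`
      have hB2 : B = ⊥ := by
        apply triv
        intro s
        by_cases hs : s ∈ B
        · exact lB_K s hs
        · have h2 : s * u⁻¹ ∈ B := by
            rw [hmm]
            exact ⟨fun h => absurd h hs, fun h => absurd (by simpa using B.inv_mem h) huB⟩
          have h3 : s = (s * u⁻¹) * u := by group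
          rw [h3, l_mul]
          have hlu : l u = 1 := by
            rw [l_def, hu]; group
          rw [hlu]
          have := lB_K _ h2
          simpa using this
      rw [hB2] at hi2
      rw [Subgroup.index_bot] at hi2
      rw [hi2] at hcardP
      omega
  -- hence the index is at least four
  have hle4 : B.index = 4 ∧ Nat.card (Set.range l) = Nat.card B := by
    obtain ⟨j, rfl⟩ : ∃ j, k = j + 2 := ⟨k - 2, by omega⟩
    have h4 : 4 ∣ B.index := by
      rw [hk, pow_add]
      exact ⟨2 ^ j, by ring⟩
    have hle : Nat.card (Set.range l) ≤ Nat.card B := by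
      exact Nat.card_mono (Set.toFinite _) hJB
    have hpos : 0 < Nat.card B := Nat.card_pos
    have hpos' : 0 < B.index := Nat.pos_of_ne_zero Subgroup.index_ne_zero_of_finite
    have h5 : Nat.card B * B.index = Nat.card (Set.range l) * 4 := by rw [hidx, hcardJ]
    obtain ⟨m, hm⟩ := h4
    rw [hm] at h5 hpos' ⊢
    have hm1 : Nat.card (Set.range l) = Nat.card B * m := by
      have : Nat.card B * (4 * m) = (Nat.card B * m) * 4 := by ring
      rw [this] at h5
      exact (Nat.eq_of_mul_eq_mul_right (by norm_num) h5).symm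
    have hm0 : 0 < m := by omega
    have hm2 : m = 1 := by
      have : Nat.card B * m ≤ Nat.card B * 1 := by rw [← hm1, mul_one]; exact hle
      have := Nat.le_of_mul_le_mul_left this hpos
      omega
    subst hm2
    exact ⟨by norm_num, by simpa using hm1⟩
  obtain ⟨hi4, hcJ⟩ := hle4
  -- `range l = B`
  have hJeq : Set.range l = (B : Set P) := by
    apply Set.eq_of_subset_of_ncard_le hJB _ (Set.toFinite _)
    rw [← Nat.card_coe_set_eq, ← Nat.card_coe_set_eq]
    exact hcJ.symm.le
  have hinv : ∀ x ∈ B, σ x = x⁻¹ := by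
    intro x hx
    have : x ∈ Set.range l := by rw [hJeq]; exact hx
    obtain ⟨s, rfl⟩ := this
    exact σl s
  have hcomm : ∀ x ∈ B, ∀ y ∈ B, x * y = y * x := by
    intro x hx y hy
    have h2 := hinv _ (B.mul_mem hx hy)
    rw [map_mul, hinv x hx, hinv y hy] at h2
    have h3 : (x * y)⁻¹ = x⁻¹ * y⁻¹ := h2.symm
    have h4 : (y * x)⁻¹ = (x * y)⁻¹ := by rw [h3]; group
    exact (inv_injective h4).symm
  -- `B` has at most one involution
  have hinvol : ∀ x ∈ B, x * x = 1 → x = 1 ∨ x = u * u := by
    intro x hx hxx
    have h2 : σ x = x := by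
      rw [hinv x hx]
      exact inv_eq_of_mul_eq_one_left hxx
    obtain ⟨i, rfl⟩ := Subgroup.mem_zpowers_iff.mp (hfix x h2)
    have h3 : u ^ (i + i) = 1 := by rw [zpow_add]; exact hxx
    have h4 : (4 : ℤ) ∣ i + i := by
      have := orderOf_dvd_iff_zpow_eq_one.mpr h3
      rwa [hu4] at this
    have h5 : (2 : ℤ) ∣ i := by omega
    obtain ⟨j, rfl⟩ := h5
    have hj : (j % 2 = 0) ∨ (j % 2 = 1) := Int.emod_two_eq_zero_or_one j
    rcases hj with hj | hj
    · left
      have : (4 : ℤ) ∣ 2 * j := by omega
      exact orderOf_dvd_iff_zpow_eq_one.mp (by rw [hu4]; exact_mod_cast this)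
    · right
      have h6 : (4 : ℤ) ∣ 2 * j - 2 := by omega
      have h7 : u ^ (2 * j - 2) = 1 := orderOf_dvd_iff_zpow_eq_one.mp (by rw [hu4]; exact_mod_cast h6)
      have h8 : u ^ (2 * j) = u ^ (2 * j - 2) * u ^ (2 : ℤ) := by rw [← zpow_add]; congr 1; ring
      rw [h8, h7, one_mul]
      exact_mod_cast pow_two u
  -- cyclicity
  have hcyc : IsCyclic B := by
    letI instB : CommGroup B := { (inferInstance : Group B) with
      mul_comm := fun a b => Subtype.ext (hcomm a a.2 b b.2) }
    let f : B →* B := powMonoidHom 2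
    have hker : Nat.card f.ker ≤ 2 := by
      have hsub : ∀ x ∈ f.ker, (x : P) = 1 ∨ (x : P) = u * u := by
        intro x hx
        have h2 : x ^ 2 = 1 := hx
        have h3 : (x : P) ^ 2 = 1 := by simpa using congrArg Subtype.val h2
        exact hinvol x x.2 (by rw [← pow_two]; exact h3)
      by_contra hcon
      push Not at hcon
      have hfin : Finite f.ker := inferInstance
      have : Set.ncard (f.ker : Set B) > 2 := by
        rw [← Nat.card_coe_set_eq]
        exact hcon
      obtain ⟨a, c, d, ha, hc, hd, hac, had, hcd⟩ := (Set.two_lt_ncard_iff (Set.toFinite _)).mp this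
      rcases hsub a ha with h1 | h1 <;> rcases hsub c hc with h2 | h2 <;> rcases hsub d hd with h3 | h3
      all_goals first
        | exact hac (Subtype.ext (h1.trans h2.symm))
        | exact had (Subtype.ext (h1.trans h3.symm))
        | exact hcd (Subtype.ext (h2.trans h3.symm))
    have hrange : f.range ≤ frattini B := by
      rintro _ ⟨x, rfl⟩
      exact Frat.pow_mem_frattini hBP x
    have h2 : (frattini B).index ≤ 2 := by
      have h3 : (frattini B).index ∣ f.range.index := Subgroup.index_dvd_of_le hrange
      have h4 : f.range.index = Nat.card f.ker := by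
        have h5 := Subgroup.card_mul_index f.range
        have h6 := Subgroup.card_mul_index f.ker
        have h7 := Subgroup.index_ker f
        rw [h7] at h6
        have hpos : 0 < Nat.card f.range := Nat.card_pos
        have : Nat.card f.range * f.range.index = Nat.card f.range * Nat.card f.ker := by
          rw [h5, mul_comm (Nat.card f.range), h6]
        exact Nat.eq_of_mul_eq_mul_left hpos this
      have h8 : f.range.index ≤ 2 := by rw [h4]; exact hker
      exact (Nat.le_of_dvd (Nat.pos_of_ne_zero Subgroup.index_ne_zero_of_finite) h3).trans h8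
    exact OddAutTwo.isCyclic_of_frattini_index_le hBP h2
  obtain ⟨b', hb'⟩ := IsCyclic.exists_generator (α := B)
  have hzb : ∀ x, x ∈ Subgroup.zpowers (b' : P) ↔ x ∈ B := by
    intro x
    constructor
    · intro hx
      obtain ⟨i, rfl⟩ := Subgroup.mem_zpowers_iff.mp hx
      exact B.zpow_mem b'.2 i
    · intro hx
      obtain ⟨i, hi⟩ := Subgroup.mem_zpowers_iff.mp (hb' ⟨x, hx⟩)
      have := congrArg Subtype.val hi
      simp only [Subgroup.coe_zpow] at this
      exact Subgroup.mem_zpowers_iff.mpr ⟨i, this⟩
  refine ⟨b', hinv _ b'.2, fun s => (hzb _).mpr (hlB s), ?_, ?_⟩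
  · intro x hx
    have hx' := (hzb x).mp hx
    have : x ∈ Set.range l := by rw [hJeq]; exact hx'
    exact this
  · have h2 : Nat.card B = orderOf (b' : P) := by
      rw [Subgroup.orderOf_coe, orderOf_eq_card_of_forall_mem_zpowers hb']
    rw [← hidx, hi4, h2]
    ring

end Cfsg.Agent.Lib.CycFourB
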