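import Mathlib
import Cfsg.Agent.Lib.CycFourA
import Cfsg.Agent.Lib.CycFourB

/-!
# Parameters of a 2-group with an involutory automorphism with fixed points `Z₄`
-/

set_option autoImplicit false

namespace Cfsg.Agent.Lib.CycFourC

open Cfsg.Agent.Lib Cfsg.Agent.Lib.CycFourA

section mk
variable {X : Type*} [Group X] [Finite X]

/-- A coset union is a subgroup of twice the order. -/
theorem mk2 (B : Subgroup X) (c : X) (hc : ∀ x ∈ B, c * x * c⁻¹ ∈ B) (hc2 : c * c ∈ B) (hcB : c ∉ B) :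
    ∃ Q : Subgroup X, (∀ x, x ∈ Q ↔ x ∈ B ∨ x * c⁻¹ ∈ B) ∧ Nat.card Q = 2 * Nat.card B ∧ B ≤ Q ∧ c ∈ Q := by
  let Q : Subgroup X :=
    { carrier := {x | x ∈ B ∨ x * c⁻¹ ∈ B}
      one_mem' := Or.inl B.one_mem
      mul_mem' := by
        rintro x y (hx | hx) (hy | hy)
        · exact Or.inl (B.mul_mem hx hy)
        · right
          rw [mul_assoc]
          exact B.mul_mem hx hy
        · right
          have h := B.mul_mem hx (hc y hy)
          have e : x * c⁻¹ * (c * y * c⁻¹) = x * y * c⁻¹ := by group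
          rwa [e] at h
        · left
          have h := B.mul_mem (B.mul_mem hx (hc _ hy)) hc2
          have e : x * c⁻¹ * (c * (y * c⁻¹) * c⁻¹) * (c * c) = x * y := by group
          rwa [e] at h
      inv_mem' := by
        rintro x (hx | hx)
        · exact Or.inl (B.inv_mem hx)
        · right
          have h := B.mul_mem (hc _ hx) hc2
          have e : c * (x * c⁻¹) * c⁻¹ * (c * c) = c * x := by group
          rw [e] at h
          have h2 := B.inv_mem h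
          have e2 : (c * x)⁻¹ = x⁻¹ * c⁻¹ := by group
          rwa [e2] at h2 }
  have hmemQ : ∀ x, x ∈ Q ↔ x ∈ B ∨ x * c⁻¹ ∈ B := fun x => Iff.rfl
  have hBQ : B ≤ Q := fun x hx => Or.inl hx
  have hcQ : c ∈ Q := Or.inr (by simpa using B.one_mem)
  refine ⟨Q, hmemQ, ?_, hBQ, hcQ⟩
  have hidx : (B.subgroupOf Q).index = 2 := by
    rw [Subgroup.index_eq_two_iff]
    refine ⟨⟨c, hcQ⟩⁻¹, fun x => ?_⟩
    have hx := x.2
    rw [hmemQ] at hx
    change Xor ((x : X) * c⁻¹ ∈ B) ((x : X) ∈ B)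
    rcases hx with hx | hx
    · refine Or.inr ⟨hx, fun h => hcB ?_⟩
      have h2 := B.mul_mem (B.inv_mem hx) h
      have h3 := B.inv_mem h2
      simpa using h3
    · refine Or.inl ⟨hx, fun h => hcB ?_⟩
      have h2 := B.mul_mem (B.inv_mem h) hx
      have h3 := B.inv_mem h2
      simpa using h3
  have h1 := Subgroup.card_mul_index (B.subgroupOf Q)
  rw [hidx, Nat.card_congr (Subgroup.subgroupOfEquivOfLe hBQ).toEquiv] at h1
  omega

end mk

/-- The basic data. -/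
structure Base {X : Type*} [Group X] (L S : Subgroup X) (t u b : X) : Prop where
  c : Ctx L S t
  huS : u ∈ S
  hu4 : orderOf u = 4
  hut : t * u * t⁻¹ = u
  hfix : ∀ s ∈ S, t * s * t⁻¹ = s → s ∈ Subgroup.zpowers u
  hbS : b ∈ S
  hbt : t * b * t⁻¹ = b⁻¹
  hl : ∀ s ∈ S, s * (t * s * t⁻¹)⁻¹ ∈ Subgroup.zpowers b
  hls : ∀ x ∈ Subgroup.zpowers b, ∃ s ∈ S, s * (t * s * t⁻¹)⁻¹ = x
  hcard : Nat.card S = 4 * orderOf b

variable {X : Type*} [Group X] [Finite X] {L S : Subgroup X} {t u b : X}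

/-- Existence of `b` from the counting theorem. -/
theorem exists_base (c : Ctx L S t) (huS : u ∈ S) (hu4 : orderOf u = 4) (hut : t * u * t⁻¹ = u)
    (hfix : ∀ s ∈ S, t * s * t⁻¹ = s → s ∈ Subgroup.zpowers u) : ∃ b, Base L S t u b := by
  let σ : S →* S :=
    { toFun := fun x => ⟨t * x * t⁻¹, c.htS x x.2⟩
      map_one' := by ext; simp
      map_mul' := by intro a b; ext; simp [mul_assoc] }
  have hσ : ∀ x : S, σ x = ⟨t * x * t⁻¹, c.htS x x.2⟩ := fun _ => rfl
  have htt : t⁻¹ = t := by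
    have := c.ht
    exact inv_eq_of_mul_eq_one_left this
  have hσσ : ∀ x, σ (σ x) = x := by
    intro x
    apply Subtype.ext
    simp only [hσ]
    calc t * (t * x * t⁻¹) * t⁻¹ = (t * t) * x * (t * t)⁻¹ := by group
      _ = x := by rw [c.ht]; simp
  obtain ⟨b, h1, h2, h3, h4⟩ := CycFourB.thmA c.hS2 σ hσσ ⟨u, huS⟩ (Subtype.ext hut)
    (by rw [Subgroup.orderOf_mk]; exact hu4) (by
      intro x hx
      have h5 := congrArg Subtype.val hx
      obtain ⟨i, hi⟩ := Subgroup.mem_zpowers_iff.mp (hfix x x.2 h5)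
      exact Subgroup.mem_zpowers_iff.mpr ⟨i, Subtype.ext (by simpa using hi)⟩)
  have hzz : ∀ x : S, (x : X) ∈ Subgroup.zpowers (b : X) ↔ x ∈ Subgroup.zpowers b := by
    intro x
    constructor
    · intro hx
      obtain ⟨i, hi⟩ := Subgroup.mem_zpowers_iff.mp hx
      exact Subgroup.mem_zpowers_iff.mpr ⟨i, Subtype.ext (by simpa using hi)⟩
    · intro hx
      obtain ⟨i, hi⟩ := Subgroup.mem_zpowers_iff.mp hx
      exact Subgroup.mem_zpowers_iff.mpr ⟨i, by simpa using congrArg Subtype.val hi⟩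
  refine ⟨b, c, huS, hu4, hut, hfix, b.2, ?_, ?_, ?_, ?_⟩
  · have := congrArg Subtype.val h1
    simpa [hσ] using this
  · intro s hs
    have := h2 ⟨s, hs⟩
    exact (hzz _).mpr this
  · intro x hx
    have hxS : x ∈ S := by
      obtain ⟨i, rfl⟩ := Subgroup.mem_zpowers_iff.mp hx
      exact S.zpow_mem b.2 i
    have := (hzz ⟨x, hxS⟩).mp hx
    obtain ⟨s, hs⟩ := h3 _ this
    refine ⟨s, s.2, ?_⟩
    have h5 := congrArg Subtype.val hs
    simpa [hσ] using h5
  · rw [h4, Subgroup.orderOf_coe]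

/-- Coprimality with powers of two. -/
theorem two_pow_dvd_of_mul (m : ℕ) (a d : ℤ) (hd : d % 2 = 1) (h1 : ((2 : ℤ) ^ m) ∣ a * d) :
    ((2 : ℤ) ^ m) ∣ a := by
  have hc : IsCoprime (2 : ℤ) d := by
    refine ⟨-(d / 2), 1, ?_⟩
    have := Int.emod_add_mul_ediv d 2
    rw [hd] at this
    linarith
  exact (hc.pow_left).dvd_of_dvd_mul_right h1

namespace Base

variable (h : Base L S t u b)
include h

theorem tt : t⁻¹ = t := inv_eq_of_mul_eq_one_left h.c.ht

theorem t_zpow (i : ℤ) : t * b ^ i * t⁻¹ = b ^ (-i) := by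
  have h1 : (t * b * t⁻¹) ^ i = t * b ^ i * t⁻¹ := conj_zpow
  rw [← h1, h.hbt, inv_zpow, zpow_neg]

theorem t_mem_B {x : X} (hx : x ∈ Subgroup.zpowers b) : t * x * t⁻¹ = x⁻¹ := by
  obtain ⟨i, rfl⟩ := Subgroup.mem_zpowers_iff.mp hx
  rw [h.t_zpow, zpow_neg]

theorem B_le : Subgroup.zpowers b ≤ S := by
  rw [Subgroup.zpowers_le]; exact h.hbS

theorem hu2 : u * u ≠ 1 := by
  intro h1
  have h2 : orderOf u ∣ 2 := orderOf_dvd_of_pow_eq_one (by rw [pow_two]; exact h1)
  rw [h.hu4] at h2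
  omega

theorem u4 : (u * u) * (u * u) = 1 := by
  have : u ^ 4 = 1 := by rw [← h.hu4]; exact pow_orderOf_eq_one u
  calc (u * u) * (u * u) = u ^ 4 := by simp only [pow_succ, pow_zero, one_mul, mul_assoc]
    _ = 1 := this

theorem u_not_B : u ∉ Subgroup.zpowers b := by
  intro h1
  have h2 := h.t_mem_B h1
  rw [h.hut] at h2
  apply h.hu2
  calc u * u = u * u⁻¹ := by rw [← h2]
    _ = 1 := by group

/-- Involutions of `B` are the involution of `⟨u⟩`. -/
theorem invol_B {x : X} (hx : x ∈ Subgroup.zpowers b) (hxx : x * x = 1) : x = 1 ∨ x = u * u := by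
  have h2 : t * x * t⁻¹ = x := by
    rw [h.t_mem_B hx]
    exact inv_eq_of_mul_eq_one_left hxx
  have hxS := h.B_le hx
  obtain ⟨i, rfl⟩ := Subgroup.mem_zpowers_iff.mp (h.hfix x hxS h2)
  have h3 : u ^ (i + i) = 1 := by rw [zpow_add]; exact hxx
  have h4 : (4 : ℤ) ∣ i + i := by
    have := orderOf_dvd_iff_zpow_eq_one.mpr h3
    rwa [h.hu4] at this
  have h5 : (2 : ℤ) ∣ i := by omega
  obtain ⟨j, rfl⟩ := h5
  have hj : (j % 2 = 0) ∨ (j % 2 = 1) := Int.emod_two_eq_zero_or_one j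
  rcases hj with hj | hj
  · left
    have : (4 : ℤ) ∣ 2 * j := by omega
    exact orderOf_dvd_iff_zpow_eq_one.mp (by rw [h.hu4]; exact_mod_cast this)
  · right
    have h6 : (4 : ℤ) ∣ 2 * j - 2 := by omega
    have h7 : u ^ (2 * j - 2) = 1 := orderOf_dvd_iff_zpow_eq_one.mp (by rw [h.hu4]; exact_mod_cast h6)
    have h8 : u ^ (2 * j) = u ^ (2 * j - 2) * u ^ (2 : ℤ) := by rw [← zpow_add]; congr 1; ring
    rw [h8, h7, one_mul]
    exact_mod_cast pow_two u

/-- `B` is normal in `S`. -/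
theorem B_norm {s x : X} (hs : s ∈ S) (hx : x ∈ Subgroup.zpowers b) : s * x * s⁻¹ ∈ Subgroup.zpowers b := by
  obtain ⟨r, hr, rfl⟩ := h.hls x hx
  have h1 := h.hl (s * r) (S.mul_mem hs hr)
  have h2 := h.hl s hs
  have h3 := (Subgroup.zpowers b).mul_mem h1 ((Subgroup.zpowers b).inv_mem h2)
  have e : s * r * (t * (s * r) * t⁻¹)⁻¹ * (s * (t * s * t⁻¹)⁻¹)⁻¹ = s * (r * (t * r * t⁻¹)⁻¹) * s⁻¹ := by
    group
  rwa [e] at h3

/-- Order of `b` is a power of two. -/
theorem order_b : ∃ m : ℕ, orderOf b = 2 ^ m := by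
  haveI : Fact (Nat.Prime 2) := ⟨Nat.prime_two⟩
  obtain ⟨k, hk⟩ := exists_pow_of_mem h.c.hS2 h.hbS
  have h1 : orderOf b ∣ 2 ^ k := orderOf_dvd_of_pow_eq_one hk
  obtain ⟨m, -, hm⟩ := (Nat.dvd_prime_pow Nat.prime_two).mp h1
  exact ⟨m, hm⟩

/-- If `b ≠ 1`, the involution lies in `B`. -/
theorem z_mem_B (hb : b ≠ 1) : u * u ∈ Subgroup.zpowers b := by
  obtain ⟨m, hm⟩ := h.order_b
  have hm0 : m ≠ 0 := by
    rintro rfl
    rw [pow_zero, orderOf_eq_one_iff] at hm
    exact hb hm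
  obtain ⟨r, rfl⟩ : ∃ r, m = r + 1 := ⟨m - 1, by omega⟩
  set x := b ^ (2 ^ r) with hx
  have hx1 : x ≠ 1 := by
    intro h1
    have := orderOf_dvd_of_pow_eq_one h1
    rw [hm, pow_succ] at this
    have h2 : 2 ^ r * 2 ≤ 2 ^ r := Nat.le_of_dvd (by positivity) this
    have h3 : 0 < 2 ^ r := by positivity
    omega
  have hx2 : x * x = 1 := by
    rw [hx, ← pow_add, ← two_mul, ← pow_succ', ← hm]
    exact pow_orderOf_eq_one b
  rcases h.invol_B (Subgroup.npow_mem_zpowers b _) hx2 with h1 | h1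
  · exact absurd h1 hx1
  · rw [← h1]
    exact Subgroup.npow_mem_zpowers b _

/-- The involution is central in `S`. -/
theorem z_central (hb : b ≠ 1) {s : X} (hs : s ∈ S) : s * (u * u) = (u * u) * s := by
  have h1 := h.B_norm hs (h.z_mem_B hb)
  have h2 : (s * (u * u) * s⁻¹) * (s * (u * u) * s⁻¹) = 1 := by
    have := h.u4
    calc (s * (u * u) * s⁻¹) * (s * (u * u) * s⁻¹) = s * ((u * u) * (u * u)) * s⁻¹ := by group
      _ = 1 := by rw [this]; group
  rcases h.invol_B h1 h2 with h3 | h3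
  · exfalso
    have h4 : u * u = 1 := by
      have h5 : u * u = s⁻¹ * (s * (u * u) * s⁻¹) * s := by group
      rw [h5, h3]; group
    exact h.hu2 h4
  · calc s * (u * u) = (s * (u * u) * s⁻¹) * s := by group
      _ = (u * u) * s := by rw [h3]

/-- `B` and `⟨u⟩` meet in `⟨u²⟩`; the product is a subgroup of index two. -/
theorem exists_A (hb : b ≠ 1) : ∃ A : Subgroup X, (∀ x, x ∈ A ↔ x ∈ Subgroup.zpowers b ∨ x * u⁻¹ ∈ Subgroup.zpowers b) ∧
    A ≤ S ∧ A.relIndex S = 2 ∧ Subgroup.zpowers b ≤ A ∧ u ∈ A ∧ Nat.card A = 2 * orderOf b := by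
  obtain ⟨A, h1, h2, h3, h4⟩ := mk2 (Subgroup.zpowers b) u (fun x hx => h.B_norm h.huS hx) (h.z_mem_B hb) h.u_not_B
  rw [Nat.card_zpowers] at h2
  have hAS : A ≤ S := by
    intro x hx
    rcases (h1 x).mp hx with hx | hx
    · exact h.B_le hx
    · have := S.mul_mem (h.B_le hx) h.huS
      simpa using this
  refine ⟨A, h1, hAS, ?_, h3, h4, h2⟩
  have h5 := Subgroup.card_mul_index (A.subgroupOf S)
  rw [Nat.card_congr (Subgroup.subgroupOfEquivOfLe hAS).toEquiv, h2, h.hcard] at h5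
  have hpos : 0 < orderOf b := orderOf_pos b
  change A.relIndex S = 2
  have h6 : 2 * orderOf b * (A.relIndex S) = 2 * orderOf b * 2 := by
    rw [show A.relIndex S = (A.subgroupOf S).index from rfl, h5]; ring
  exact Nat.eq_of_mul_eq_mul_left (by positivity) h6

/-- Subgroups `B ∪ cB` of index two in `S`. -/
theorem exists_Q {c : X} (hcS : c ∈ S) (hcc : c * c ∈ Subgroup.zpowers b) (hcB : c ∉ Subgroup.zpowers b) :
    ∃ Q : Subgroup X, (∀ x, x ∈ Q ↔ x ∈ Subgroup.zpowers b ∨ x * c⁻¹ ∈ Subgroup.zpowers b) ∧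
    Q ≤ S ∧ Q.relIndex S = 2 ∧ Subgroup.zpowers b ≤ Q ∧ c ∈ Q := by
  obtain ⟨A, h1, h2, h3, h4⟩ := mk2 (Subgroup.zpowers b) c (fun x hx => h.B_norm hcS hx) hcc hcB
  rw [Nat.card_zpowers] at h2
  have hAS : A ≤ S := by
    intro x hx
    rcases (h1 x).mp hx with hx | hx
    · exact h.B_le hx
    · have := S.mul_mem (h.B_le hx) hcS
      simpa using this
  refine ⟨A, h1, hAS, ?_, h3, h4⟩
  have h5 := Subgroup.card_mul_index (A.subgroupOf S)
  rw [Nat.card_congr (Subgroup.subgroupOfEquivOfLe hAS).toEquiv, h2, h.hcard] at h5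
  have hpos : 0 < orderOf b := orderOf_pos b
  have h6 : 2 * orderOf b * (A.relIndex S) = 2 * orderOf b * 2 := by
    rw [show A.relIndex S = (A.subgroupOf S).index from rfl, h5]; ring
  exact Nat.eq_of_mul_eq_mul_left (by positivity) h6

/-- Existence of `y` with `l(y) = b`. -/
theorem exists_y : ∃ y ∈ S, t * y * t⁻¹ = b⁻¹ * y := by
  obtain ⟨y, hy, h1⟩ := h.hls b (Subgroup.mem_zpowers b)
  refine ⟨y, hy, ?_⟩
  have h2 : (t * y * t⁻¹)⁻¹ = y⁻¹ * b := by rw [← h1]; group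
  calc t * y * t⁻¹ = ((t * y * t⁻¹)⁻¹)⁻¹ := by group
    _ = b⁻¹ * y := by rw [h2]; group

/-- `S` is the union of two cosets of an index two subgroup. -/
theorem coset_of_index_two {A : Subgroup X} (hA : A ≤ S) (hi : A.relIndex S = 2) {y s : X} (hy : y ∈ S)
    (hyA : y ∉ A) (hs : s ∈ S) (hsA : s ∉ A) : s * y⁻¹ ∈ A ∧ y⁻¹ * s ∈ A := by
  have hi' : (A.subgroupOf S).index = 2 := hi
  have hmm := fun a c => Subgroup.mul_mem_iff_of_index_two (H := A.subgroupOf S) hi' (a := a) (b := c)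
  constructor
  · have := (hmm ⟨s, hs⟩ ⟨y, hy⟩⁻¹).mpr (by
      constructor
      · intro h1; exact absurd h1 hsA
      · intro h1
        exact absurd (by simpa using A.inv_mem h1) hyA)
    exact this
  · have := (hmm ⟨y, hy⟩⁻¹ ⟨s, hs⟩).mpr (by
      constructor
      · intro h1
        exact absurd (by simpa using A.inv_mem h1) hyA
      · intro h1; exact absurd h1 hsA)
    exact this

theorem mem_index_two_norm {A : Subgroup X} (hA : A ≤ S) (hi : A.relIndex S = 2) {x s : X} (hs : s ∈ S) (hx : x ∈ A) :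
    s * x * s⁻¹ ∈ A := by
  have hi' : (A.subgroupOf S).index = 2 := hi
  haveI hn : (A.subgroupOf S).Normal := Subgroup.normal_of_index_eq_two hi'
  have := hn.conj_mem ⟨x, hA hx⟩ hx ⟨s, hs⟩
  exact this

/-- The element `b` is not a square in `B`, when `b` has even order. -/
theorem b_not_sq (hb2 : 2 ∣ orderOf b) {x : X} (hx : x ∈ Subgroup.zpowers b) : x * x ≠ b := by
  intro h1
  obtain ⟨i, rfl⟩ := Subgroup.mem_zpowers_iff.mp hx
  have h2 : b ^ (i + i - 1) = 1 := by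
    rw [sub_eq_add_neg, zpow_add, zpow_add, h1, zpow_neg, zpow_one]
    group
  have h3 := orderOf_dvd_iff_zpow_eq_one.mpr h2
  have h4 : (2 : ℤ) ∣ (orderOf b : ℤ) := by exact_mod_cast hb2
  have h5 := h4.trans h3
  omega

/-- The element `y` with `l(y) = b` lies outside the subgroup `A`. -/
theorem y_not_A (hb2 : 2 ∣ orderOf b) {A : Subgroup X}
    (hA : ∀ x, x ∈ A ↔ x ∈ Subgroup.zpowers b ∨ x * u⁻¹ ∈ Subgroup.zpowers b) {y : X}
    (hyt : t * y * t⁻¹ = b⁻¹ * y) : y ∉ A := by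
  intro hy
  rcases (hA y).mp hy with h1 | h1
  · rw [h.t_mem_B h1] at hyt
    apply h.b_not_sq hb2 h1
    have : y * y = b := by
      have h2 : b * y⁻¹ = y := by rw [hyt]; group
      calc y * y = (b * y⁻¹) * y := by rw [h2]
        _ = b := by group
    exact this
  · set x := y * u⁻¹ with hx
    have hy2 : y = x * u := by rw [hx]; group
    have h3 : t * y * t⁻¹ = x⁻¹ * u := by
      rw [hy2]
      calc t * (x * u) * t⁻¹ = (t * x * t⁻¹) * (t * u * t⁻¹) := by group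
        _ = x⁻¹ * u := by rw [h.t_mem_B h1, h.hut]
    rw [h3, hy2] at hyt
    apply h.b_not_sq hb2 h1
    have h4 : x⁻¹ = b⁻¹ * x := by
      have := mul_right_cancel (a := x⁻¹) (b := u) (c := b⁻¹ * x) (by rw [hyt]; group)
      exact this
    have h5 : b * x⁻¹ = x := by rw [h4]; group
    calc x * x = (b * x⁻¹) * x := by rw [h5]
      _ = b := by group

/-- The dichotomy: `u` centralizes or inverts `B`. -/
theorem kappa {m : ℕ} (hm : orderOf b = 2 ^ m) (hm2 : 2 ≤ m) {A : Subgroup X}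
    (hA : ∀ x, x ∈ A ↔ x ∈ Subgroup.zpowers b ∨ x * u⁻¹ ∈ Subgroup.zpowers b) (hAS : A ≤ S)
    (hAi : A.relIndex S = 2) (huA : u ∈ A) {y : X} (hyS : y ∈ S) (hyt : t * y * t⁻¹ = b⁻¹ * y) :
    ∃ w ∈ Subgroup.zpowers b, y * u * y⁻¹ = w * u ∧
      ((u * b = b * u ∧ (w = 1 ∨ w = u * u)) ∨
       (u * b * u⁻¹ = b⁻¹ ∧ (w = b ∨ w = b * (u * u)))) := by
  have hb1 : b ≠ 1 := by
    intro h1
    rw [h1, orderOf_one] at hm
    have : 1 < 2 ^ m := Nat.one_lt_two_pow (by omega)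
    omega
  have hcB : ∀ x ∈ Subgroup.zpowers b, ∀ x' ∈ Subgroup.zpowers b, x * x' = x' * x := by
    intro x hx x' hx'
    obtain ⟨i, rfl⟩ := Subgroup.mem_zpowers_iff.mp hx
    obtain ⟨j, rfl⟩ := Subgroup.mem_zpowers_iff.mp hx'
    rw [← zpow_add, ← zpow_add, add_comm]
  have h1 : y * u * y⁻¹ ∈ A := h.mem_index_two_norm hAS hAi hyS huA
  have hw : y * u * y⁻¹ * u⁻¹ ∈ Subgroup.zpowers b := by
    rcases (hA _).mp h1 with h2 | h2
    · exfalso
      apply h.u_not_B
      have h3 := h.B_norm (S.inv_mem hyS) h2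
      have e : y⁻¹ * (y * u * y⁻¹) * y⁻¹⁻¹ = u := by group
      rwa [e] at h3
    · exact h2
  set w := y * u * y⁻¹ * u⁻¹ with hwdef
  have hyu : y * u * y⁻¹ = w * u := by rw [hwdef]; group
  refine ⟨w, hw, hyu, ?_⟩
  -- conjugating by `t`
  have hb_B : b ∈ Subgroup.zpowers b := Subgroup.mem_zpowers b
  have hE1 : u * b * u⁻¹ = b * (w⁻¹ * w⁻¹) := by
    have h2 : t * (y * u * y⁻¹) * t⁻¹ = b⁻¹ * (w * u) * b := by
      calc t * (y * u * y⁻¹) * t⁻¹ = (t * y * t⁻¹) * (t * u * t⁻¹) * (t * y * t⁻¹)⁻¹ := by group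
        _ = b⁻¹ * (y * u * y⁻¹) * b := by rw [hyt, h.hut]; group
        _ = b⁻¹ * (w * u) * b := by rw [hyu]
    have h3 : t * (w * u) * t⁻¹ = w⁻¹ * u := by
      calc t * (w * u) * t⁻¹ = (t * w * t⁻¹) * (t * u * t⁻¹) := by group
        _ = w⁻¹ * u := by rw [h.t_mem_B hw, h.hut]
    rw [hyu, h3] at h2
    have h4 : u * b * u⁻¹ = w⁻¹ * b * w⁻¹ := by
      have h5 : w⁻¹ * u * b⁻¹ = b⁻¹ * (w * u) * b * b⁻¹ := by rw [h2]
      calc u * b * u⁻¹ = w⁻¹ * (b * (b⁻¹ * w * u * b * u⁻¹)) := by group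
        _ = w⁻¹ * (b * (w⁻¹ * u * u⁻¹)) := by
              congr 2
              have : b⁻¹ * w * u * b = w⁻¹ * u := by rw [h2]; group
              rw [this]
        _ = w⁻¹ * b * w⁻¹ := by group
    rw [h4]
    have h6 : w⁻¹ * b = b * w⁻¹ := hcB _ ((Subgroup.zpowers b).inv_mem hw) _ hb_B
    rw [h6]; group
  -- squaring
  have hzc := h.z_central hb1 hyS
  have hE4 : u * w * u⁻¹ = w⁻¹ := by
    have h2 : (w * u) * (w * u) = u * u := by
      rw [← hyu]
      calc y * u * y⁻¹ * (y * u * y⁻¹) = y * (u * u) * y⁻¹ := by group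
        _ = u * u := by rw [hzc]; group
    have h3 : w * (u * w * u⁻¹) * (u * u) = u * u := by
      calc w * (u * w * u⁻¹) * (u * u) = (w * u) * (w * u) := by group
        _ = u * u := h2
    have h4 : w * (u * w * u⁻¹) = 1 := by
      simpa using h3
    exact eq_inv_of_mul_eq_one_right h4
  obtain ⟨c, hc⟩ := Subgroup.mem_zpowers_iff.mp hw
  have hE1' : u * b * u⁻¹ = b ^ (1 - 2 * c) := by
    rw [hE1, ← hc, ← zpow_neg, ← zpow_add, ← zpow_one_add]
    congr 1
    ring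
  have hE4' : b ^ ((1 - 2 * c) * c + c) = 1 := by
    have h2 : (b ^ (1 - 2 * c)) ^ c = w⁻¹ := by
      rw [← hE1', conj_zpow, hc, hE4]
    rw [zpow_add, zpow_mul, h2, hc]
    group
  have hdvd : ((2 : ℤ) ^ m) ∣ 2 * c * (1 - c) := by
    have h2 := orderOf_dvd_iff_zpow_eq_one.mpr hE4'
    rw [hm] at h2
    push_cast at h2
    have e : (1 - 2 * c) * c + c = 2 * c * (1 - c) := by ring
    rwa [e] at h2
  have hparity : c % 2 = 0 ∨ c % 2 = 1 := Int.emod_two_eq_zero_or_one c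
  rcases hparity with hpar | hpar
  · left
    have h2 := two_pow_dvd_of_mul m (2 * c) (1 - c) (by omega) hdvd
    have h3 : w * w = 1 := by
      rw [← hc, ← zpow_add]
      apply orderOf_dvd_iff_zpow_eq_one.mp
      rw [hm]
      push_cast
      have e : c + c = 2 * c := by ring
      rwa [e]
    constructor
    · have h4 : w⁻¹ * w⁻¹ = 1 := by
        have : w⁻¹ = w := inv_eq_of_mul_eq_one_left h3
        rw [this, h3]
      rw [h4, mul_one] at hE1
      calc u * b = u * b * u⁻¹ * u := by group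
        _ = b * u := by rw [hE1]
    · exact h.invol_B hw h3
  · right
    have h2 := two_pow_dvd_of_mul m (2 * (1 - c)) c hpar (by
      have e : 2 * (1 - c) * c = 2 * c * (1 - c) := by ring
      rwa [e])
    have h3 : b ^ (2 * (1 - c)) = 1 := by
      apply orderOf_dvd_iff_zpow_eq_one.mp
      rw [hm]
      push_cast
      exact h2
    constructor
    · rw [hE1']
      have e : 1 - 2 * c = 2 * (1 - c) + (-1) := by ring
      rw [e, zpow_add, h3, one_mul, zpow_neg, zpow_one]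
    · -- `w b⁻¹` squares to one
      have h4 : (w * b⁻¹) * (w * b⁻¹) = 1 := by
        rw [← hc, ← zpow_neg_one, ← zpow_add, ← zpow_add]
        have e : c + -1 + (c + -1) = -(2 * (1 - c)) := by ring
        rw [e, zpow_neg, h3, inv_one]
      have hmem : w * b⁻¹ ∈ Subgroup.zpowers b :=
        (Subgroup.zpowers b).mul_mem hw ((Subgroup.zpowers b).inv_mem hb_B)
      rcases h.invol_B hmem h4 with h5 | h5
      · left
        calc w = w * b⁻¹ * b := by group
          _ = b := by rw [h5, one_mul]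
      · right
        calc w = w * b⁻¹ * b := by group
          _ = (u * u) * b := by rw [h5]
          _ = b * (u * u) := (h.z_central hb1 h.hbS).symm

end Base

end Cfsg.Agent.Lib.CycFourC
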