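import Mathlib
import Cfsg.Agent.Lib.CycFourC

/-!
# Sylow subgroups of centralizers; the cases `|B| ≤ 2`
-/

set_option autoImplicit false

namespace Cfsg.Agent.Lib.CycFourC

open Cfsg.Agent.Lib Cfsg.Agent.Lib.CycFourA

variable {X : Type*} [Group X] [Finite X] {L S : Subgroup X} {t u b : X}

/-- A large `2`-subgroup of a centralizer is a Sylow subgroup of it, when no conjugate of the
centralized subgroup is central in `S`. -/
theorem conjP (c : Ctx L S t) (E P : Subgroup X) (hEP : E ≤ P) (hEL : E ≤ L) (hP2 : IsPGroup 2 P)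
    (hPE : ∀ p ∈ P, ∀ e ∈ E, p * e = e * p) (hcard : Nat.card P = Nat.card S)
    (hnc : ∀ h : X, (∀ e ∈ E, h * e * h⁻¹ ∈ S ∧ ∀ s ∈ S, s * (h * e * h⁻¹) = (h * e * h⁻¹) * s) → False)
    {τ : X} (hτ : ∀ e ∈ E, τ * e = e * τ) {k : ℕ} (hτ2 : τ ^ (2 ^ k) = 1) :
    ∃ h : X, (∀ e ∈ E, h * e = e * h) ∧ h * τ * h⁻¹ ∈ P := by
  haveI : Fact (Nat.Prime 2) := ⟨Nat.prime_two⟩
  let H : Subgroup X := Subgroup.centralizer (E : Set X)
  have hmemH : ∀ x, x ∈ H ↔ ∀ e ∈ E, x * e = e * x := by
    intro x
    rw [Subgroup.mem_centralizer_iff]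
    constructor
    · intro h e he
      exact (h e he).symm
    · intro h e he
      exact (h e he).symm
  have hPH : P ≤ H := fun p hp => (hmemH p).mpr (hPE p hp)
  have hPo : ¬ 2 ∣ P.relIndex H := by
    intro h2
    -- a Sylow subgroup of `H` above `P`
    have hP' : IsPGroup 2 (P.subgroupOf H) := hP2.of_equiv (Subgroup.subgroupOfEquivOfLe hPH).symm
    obtain ⟨Q', hQ'⟩ := hP'.exists_le_sylow
    obtain ⟨a, ha⟩ := (IsPGroup.iff_card.mp hP2)
    have h3 : 2 ^ (a + 1) ∣ Nat.card H := by
      have h4 := Subgroup.card_mul_index (P.subgroupOf H)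
      rw [Nat.card_congr (Subgroup.subgroupOfEquivOfLe hPH).toEquiv, ha] at h4
      rw [← h4, pow_succ]
      exact Nat.mul_dvd_mul_left _ h2
    have h5 : 2 ^ (a + 1) ∣ Nat.card Q' := Q'.pow_dvd_card_of_pow_dvd_card h3
    have hQ0 : 0 < Nat.card Q' := Nat.card_pos
    have h6 : 2 ^ (a + 1) ≤ Nat.card Q' := Nat.le_of_dvd hQ0 h5
    let Q : Subgroup X := (Q' : Subgroup H).map H.subtype
    have hcQ : Nat.card Q = Nat.card Q' :=
      Nat.card_congr (Subgroup.equivMapOfInjective _ _ H.subtype_injective).symm.toEquiv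
    have hPQ : P ≤ Q := by
      intro p hp
      exact ⟨⟨p, hPH hp⟩, hQ' hp, rfl⟩
    have hQH : Q ≤ H := by
      rintro _ ⟨x, -, rfl⟩
      exact x.2
    have hQ2 : IsPGroup 2 Q := Q'.isPGroup'.map H.subtype
    let R : Subgroup X := Q ⊓ L
    have hR2 : IsPGroup 2 R := hQ2.to_le inf_le_left
    have hRL : R ≤ L := inf_le_right
    obtain ⟨h, hhL, hh⟩ := conj_into L S R c.hSL c.hS2 c.hSo hRL hR2
    -- `R` has index at most two in `Q`
    have hRi : R.relIndex Q ≤ 2 := by
      have h7 : (Q ⊓ L).relIndex Q = L.relIndex Q := by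
        rw [inf_comm]
        exact Subgroup.inf_relIndex_right L Q
      have h8 : L.relIndex Q ≤ 2 := by
        haveI := c.hLn
        have h8' := Subgroup.relIndex_dvd_index_of_normal L Q
        rw [c.hLi] at h8'
        exact Nat.le_of_dvd (by omega) h8'
      change (Q ⊓ L).relIndex Q ≤ 2
      rw [h7]; exact h8
    have hRQ : R ≤ Q := inf_le_left
    have hcR : Nat.card Q = Nat.card R * R.relIndex Q := by
      have h9 := Subgroup.card_mul_index (R.subgroupOf Q)
      rw [Nat.card_congr (Subgroup.subgroupOfEquivOfLe hRQ).toEquiv] at h9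
      exact h9.symm
    have hcardR : Nat.card S ≤ Nat.card R := by
      have hSc : Nat.card S = 2 ^ a := by rw [← hcard, ha]
      rw [hSc]
      have h10 : 2 ^ (a + 1) ≤ Nat.card R * 2 := by
        calc 2 ^ (a + 1) ≤ Nat.card Q := by rw [hcQ]; exact h6
          _ = Nat.card R * R.relIndex Q := hcR
          _ ≤ Nat.card R * 2 := Nat.mul_le_mul_left _ hRi
      rw [pow_succ] at h10
      omega
    -- the conjugate is all of `S`
    let R₁ : Subgroup X := R.map (MulAut.conj h).toMonoidHom
    have hR₁S : R₁ ≤ S := by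
      rintro _ ⟨r, hr, rfl⟩
      exact hh r hr
    have hcR₁ : Nat.card R₁ = Nat.card R :=
      Nat.card_congr (Subgroup.equivMapOfInjective _ _ (MulAut.conj h).injective).symm.toEquiv
    have hR₁eq : R₁ = S := Subgroup.eq_of_le_of_card_ge hR₁S (by rw [hcR₁]; exact hcardR)
    apply hnc h
    intro e he
    have heR : e ∈ R := ⟨hPQ (hEP he), hEL he⟩
    refine ⟨hh e heR, ?_⟩
    intro s hs
    rw [← hR₁eq] at hs
    obtain ⟨r, hr, rfl⟩ := hs
    have h11 := (hmemH r).mp (hQH (hRQ hr)) e he
    change h * r * h⁻¹ * (h * e * h⁻¹) = h * e * h⁻¹ * (h * r * h⁻¹)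
    calc h * r * h⁻¹ * (h * e * h⁻¹) = h * (r * e) * h⁻¹ := by group
      _ = h * (e * r) * h⁻¹ := by rw [h11]
      _ = h * e * h⁻¹ * (h * r * h⁻¹) := by group
  have hRH : Subgroup.zpowers τ ≤ H := by
    rw [Subgroup.zpowers_le]
    exact (hmemH τ).mpr hτ
  obtain ⟨h, hhH, hh⟩ := conj_into H P (Subgroup.zpowers τ) hPH hP2 hPo hRH
    (isPGroup_zpowers_of_pow hτ2)
  exact ⟨h, (hmemH h).mp hhH, hh τ (Subgroup.mem_zpowers τ)⟩

namespace Base

variable (h : Base L S t u b)
include h

/-- Elements of `⟨u⟩`. -/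
theorem mem_T {x : X} (hx : x ∈ Subgroup.zpowers u) : x = 1 ∨ x = u ∨ x = u * u ∨ x = u⁻¹ := by
  obtain ⟨i, rfl⟩ := Subgroup.mem_zpowers_iff.mp hx
  have hu4 : u ^ (4 : ℤ) = 1 := by
    have := pow_orderOf_eq_one u
    rw [h.hu4] at this
    exact_mod_cast this
  have e : i = 4 * (i / 4) + i % 4 := (Int.mul_ediv_add_emod i 4).symm
  have h0 : u ^ i = u ^ (i % 4) := by
    conv_lhs => rw [e]
    rw [zpow_add, zpow_mul, hu4, one_zpow, one_mul]
  rw [h0]
  have h1 : i % 4 = 0 ∨ i % 4 = 1 ∨ i % 4 = 2 ∨ i % 4 = 3 := by omega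
  rcases h1 with h1 | h1 | h1 | h1 <;> rw [h1]
  · left; simp
  · right; left; simp
  · right; right; left; rw [zpow_two]
  · right; right; right
    have : u ^ (3 : ℤ) * u = 1 := by
      rw [← hu4]
      rw [← zpow_add_one]
      norm_num
    exact eq_inv_of_mul_eq_one_left this

theorem invol_T {x : X} (hx : x ∈ Subgroup.zpowers u) (hxx : x * x = 1) : x = 1 ∨ x = u * u := by
  rcases h.mem_T hx with h1 | h1 | h1 | h1
  · exact Or.inl h1
  · rw [h1] at hxx; exact absurd hxx h.hu2
  · exact Or.inr h1
  · rw [h1] at hxx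
    exfalso
    apply h.hu2
    have : u⁻¹ * u⁻¹ = (u * u)⁻¹ := by group
    rw [this] at hxx
    exact inv_eq_one.mp hxx

theorem T_le : Subgroup.zpowers u ≤ S := by
  rw [Subgroup.zpowers_le]; exact h.huS

theorem main_n1 (hb : orderOf b = 1) {x : X} (hx : x ∈ S) (hxx : x * x = 1) : x = 1 ∨ x = u * u := by
  have h1 : Nat.card S = 4 := by rw [h.hcard, hb]
  have h2 : Nat.card (Subgroup.zpowers u) = 4 := by rw [Nat.card_zpowers, h.hu4]
  have h3 : Subgroup.zpowers u = S := Subgroup.eq_of_le_of_card_ge h.T_le (by rw [h1, h2])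
  exact h.invol_T (by rw [h3]; exact hx) hxx

theorem main_n2 (hb : orderOf b = 2) {r : X} (hr : r ∈ S) (hrr : r * r = 1) : r = 1 ∨ r = u * u := by
  by_contra hcon
  push Not at hcon
  obtain ⟨hr1, hrz⟩ := hcon
  have hb1 : b ≠ 1 := by
    intro h1
    rw [h1, orderOf_one] at hb
    omega
  have hbb : b * b = 1 := by
    have := pow_orderOf_eq_one b
    rw [hb, pow_two] at this
    exact this
  have hB2 : ∀ x ∈ Subgroup.zpowers b, x * x = 1 := by
    intro x hx
    obtain ⟨i, rfl⟩ := Subgroup.mem_zpowers_iff.mp hx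
    rw [← zpow_add, ← two_mul, zpow_mul, zpow_two, hbb, one_zpow]
  have hB : ∀ x ∈ Subgroup.zpowers b, x = 1 ∨ x = u * u := fun x hx => h.invol_B hx (hB2 x hx)
  have hz2 := h.u4
  have hzc : ∀ s ∈ S, s * (u * u) = (u * u) * s := fun s hs => h.z_central hb1 hs
  have hrT : r ∉ Subgroup.zpowers u := fun h1 => by
    rcases h.invol_T h1 hrr with h2 | h2
    · exact hr1 h2
    · exact hrz h2
  -- `T` has index two
  have hTi : (Subgroup.zpowers u).relIndex S = 2 := by
    have h5 := Subgroup.card_mul_index ((Subgroup.zpowers u).subgroupOf S)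
    rw [Nat.card_congr (Subgroup.subgroupOfEquivOfLe h.T_le).toEquiv, h.hcard, hb, Nat.card_zpowers,
      h.hu4] at h5
    change (Subgroup.zpowers u).relIndex S = 2
    have h6 : 4 * (Subgroup.zpowers u).relIndex S = 4 * 2 := h5
    omega
  have hcoset : ∀ s ∈ S, s ∈ Subgroup.zpowers u ∨ s * r⁻¹ ∈ Subgroup.zpowers u := by
    intro s hs
    by_cases hsT : s ∈ Subgroup.zpowers u
    · exact Or.inl hsT
    · exact Or.inr (h.coset_of_index_two h.T_le hTi hr hrT hs hsT).1
  have hrord : orderOf r = 2 :=
    orderOf_eq_prime (by rw [pow_two]; exact hrr) hr1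
  -- `t` moves `r` by `z`
  have htr : t * r * t⁻¹ = (u * u) * r := by
    rcases hB _ (h.hl r hr) with h1 | h1
    · exfalso
      apply hrT
      apply h.hfix r hr
      exact (mul_inv_eq_one.mp h1).symm
    · have h2 : (t * r * t⁻¹)⁻¹ = r⁻¹ * (u * u) := by
        rw [← h1]; group
      calc t * r * t⁻¹ = ((t * r * t⁻¹)⁻¹)⁻¹ := by group
        _ = (r⁻¹ * (u * u))⁻¹ := by rw [h2]
        _ = (u * u)⁻¹ * r := by group
        _ = (u * u) * r := by
            rw [inv_eq_of_mul_eq_one_left hz2]
  -- fusion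
  obtain ⟨g, hgL, hg⟩ := h.c.T1 (Subgroup.zpowers u) h.T_le hTi hr hrord hrT
  have hgr : g * r * g⁻¹ = u * u := by
    have h2 : (g * r * g⁻¹) * (g * r * g⁻¹) = 1 := by
      calc (g * r * g⁻¹) * (g * r * g⁻¹) = g * (r * r) * g⁻¹ := by group
        _ = 1 := by rw [hrr]; group
    rcases h.invol_T hg h2 with h3 | h3
    · exfalso
      apply hr1
      have h4 : r = g⁻¹ * (g * r * g⁻¹) * g := by group
      rw [h4, h3]; group
    · exact h3
  have hgz : g⁻¹ * (u * u) * g = r := by rw [← hgr]; group
  have hruT := h.mem_index_two_norm h.T_le hTi hr (Subgroup.mem_zpowers u)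
  have hrz2 : (r * u * r⁻¹) * (r * u * r⁻¹) = u * u := by
    calc (r * u * r⁻¹) * (r * u * r⁻¹) = r * (u * u) * r⁻¹ := by group
      _ = (u * u) * r * r⁻¹ := by rw [hzc r hr]
      _ = u * u := by group
  have hzne : u * u ≠ 1 := h.hu2
  have hru : r * u * r⁻¹ = u ∨ r * u * r⁻¹ = u⁻¹ := by
    rcases h.mem_T hruT with h1 | h1 | h1 | h1
    · rw [h1] at hrz2; exact absurd (by simpa using hrz2.symm) hzne
    · exact Or.inl h1
    · rw [h1] at hrz2
      rw [hz2] at hrz2
      exact absurd hrz2.symm hzne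
    · exact Or.inr h1
  rcases hru with hru | hru
  · -- `r` is central
    have hru' : r * u = u * r := by
      calc r * u = r * u * r⁻¹ * r := by group
        _ = u * r := by rw [hru]
    have hTc : ∀ x ∈ Subgroup.zpowers u, r * x = x * r := by
      intro x hx
      obtain ⟨i, rfl⟩ := Subgroup.mem_zpowers_iff.mp hx
      exact ((show Commute r u from hru').zpow_right i)
    have hcen : ∀ s ∈ S, s * r = r * s := by
      intro s hs
      rcases hcoset s hs with h1 | h1
      · exact (hTc s h1).symm
      · have h2 := hTc _ h1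
        calc s * r = (s * r⁻¹) * r * r := by group
          _ = r * (s * r⁻¹) * r := by rw [h2]
          _ = r * s := by group
    set w := g⁻¹ * u * g with hw
    have hww : w * w = r := by
      rw [← hgz, hw]; group
    obtain ⟨h', hh'L, hh1, hh2⟩ := h.c.Root hr hcen (L.mul_mem (L.mul_mem (L.inv_mem hgL)
      (h.c.hSL h.huS)) hgL) (w := w) (by rw [← hww]; group) (k := 2) (by
        have : w ^ 2 ^ 2 = (w * w) * (w * w) := by
          rw [show (2 : ℕ) ^ 2 = 2 + 2 from rfl, pow_add, pow_two]
        rw [this, hww, hrr])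
    set a := h' * w * h'⁻¹ with ha
    have haa : a * a = r := by
      calc a * a = h' * (w * w) * h'⁻¹ := by rw [ha]; group
        _ = h' * r * h'⁻¹ := by rw [hww]
        _ = r := hh1
    have hsqT : ∀ x ∈ Subgroup.zpowers u, x * x = 1 ∨ x * x = u * u := by
      intro x hx
      rcases h.mem_T hx with h1 | h1 | h1 | h1 <;> rw [h1]
      · left; simp
      · right; rfl
      · left; exact hz2
      · right
        have : u⁻¹ * u⁻¹ = (u * u)⁻¹ := by group
        rw [this, inv_eq_of_mul_eq_one_left hz2]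
    rcases hcoset a hh2 with h1 | h1
    · rcases hsqT a h1 with h2 | h2
      · exact hr1 (by rw [← haa, h2])
      · exact hrz (by rw [← haa, h2])
    · set x := a * r⁻¹ with hx
      have hax : a = x * r := by rw [hx]; group
      have h3 : a * a = x * x := by
        rw [hax]
        calc x * r * (x * r) = x * (r * x) * r := by group
          _ = x * (x * r) * r := by rw [hTc x h1]
          _ = x * x * (r * r) := by group
          _ = x * x := by rw [hrr]; group
      rcases hsqT x h1 with h2 | h2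
      · exact hr1 (by rw [← haa, h3, h2])
      · exact hrz (by rw [← haa, h3, h2])
  · -- dihedral case
    have hru' : r * u = u⁻¹ * r := by
      calc r * u = r * u * r⁻¹ * r := by group
        _ = u⁻¹ * r := by rw [hru]
    have htt := h.tt
    set ω := u⁻¹ * t with hω
    have hut' : t * u = u * t := by
      calc t * u = t * u * t⁻¹ * t := by group
        _ = u * t := by rw [h.hut]
    have hut'' : t * u⁻¹ = u⁻¹ * t := by
      have e : t * u⁻¹ = (t * u * t⁻¹)⁻¹ * t := by group
      rw [e, h.hut]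
    have hωu : ω * u = u * ω := by
      rw [hω]
      calc u⁻¹ * t * u = u⁻¹ * (t * u) := by group
        _ = u⁻¹ * (u * t) := by rw [hut']
        _ = u * (u⁻¹ * t) := by group
    have hzinv : (u * u)⁻¹ = u * u := inv_eq_of_mul_eq_one_left hz2
    have htrr : t * r = (u * u) * r * t := by
      calc t * r = t * r * t⁻¹ * t := by group
        _ = (u * u) * r * t := by rw [htr]
    have hr2 : r * u⁻¹ = u * r := by
      calc r * u⁻¹ = (r * u * r⁻¹)⁻¹ * r := by group
        _ = u * r := by rw [hru]; group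
    have hωr : ω * r = r * ω := by
      rw [hω]
      calc u⁻¹ * t * r = u⁻¹ * (t * r) := by group
        _ = u⁻¹ * ((u * u) * r * t) := by rw [htrr]
        _ = u * r * t := by group
        _ = r * u⁻¹ * t := by rw [hr2]
        _ = r * (u⁻¹ * t) := by group
    have hTω : ∀ x ∈ Subgroup.zpowers u, ω * x = x * ω := by
      intro x hx
      obtain ⟨i, rfl⟩ := Subgroup.mem_zpowers_iff.mp hx
      exact ((show Commute ω u from hωu).zpow_right i)
    have hωS : ∀ s ∈ S, ω * s = s * ω := by
      intro s hs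
      rcases hcoset s hs with h1 | h1
      · exact hTω s h1
      · have h2 := hTω _ h1
        calc ω * s = ω * (s * r⁻¹) * r := by group
          _ = (s * r⁻¹) * ω * r := by rw [h2]
          _ = (s * r⁻¹) * (ω * r) := by group
          _ = (s * r⁻¹) * (r * ω) := by rw [hωr]
          _ = s * ω := by group
    have hωω : ω * ω = u * u := by
      rw [hω]
      calc u⁻¹ * t * (u⁻¹ * t) = u⁻¹ * (t * u⁻¹) * t := by group
        _ = u⁻¹ * (u⁻¹ * t) * t := by rw [hut'']
        _ = (u * u)⁻¹ * (t * t) := by group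
        _ = u * u := by rw [h.c.ht, hzinv]; group
    have hωL : ω ∉ L := by
      intro h1
      apply h.c.htL
      have h2 := L.mul_mem (h.c.hSL h.huS) h1
      have e : u * ω = t := by rw [hω]; group
      rwa [e] at h2
    have hzT : u * u ∈ Subgroup.zpowers u := (Subgroup.zpowers u).mul_mem (Subgroup.mem_zpowers u)
      (Subgroup.mem_zpowers u)
    have hZZ : ∀ x ∈ Subgroup.zpowers (u * u), x = 1 ∨ x = u * u := by
      intro x hx
      have hle : Subgroup.zpowers (u * u) ≤ Subgroup.zpowers u := by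
        rw [Subgroup.zpowers_le]; exact hzT
      obtain ⟨i, rfl⟩ := Subgroup.mem_zpowers_iff.mp hx
      apply h.invol_T (hle hx)
      rw [← zpow_add, ← two_mul, zpow_mul, zpow_two, hz2, one_zpow]
    have hzord : orderOf (u * u) = 2 := orderOf_eq_prime (by rw [pow_two]; exact hz2) hzne
    have hrZ : r ∉ Subgroup.zpowers (u * u) := fun h1 => by
      rcases hZZ r h1 with h2 | h2
      · exact hr1 h2
      · exact hrz h2
    have hrzc : r * (u * u) = (u * u) * r := hzc r hr
    obtain ⟨E, hE1, hE2, hE3, hE4⟩ := mk2 (Subgroup.zpowers (u * u)) r (by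
      intro x hx
      rcases hZZ x hx with rfl | rfl
      · simp
      · rw [hrzc]
        simpa using Subgroup.mem_zpowers (u * u)) (by rw [hrr]; exact Subgroup.one_mem _) hrZ
    rw [Nat.card_zpowers, hzord] at hE2
    have hE : ∀ e ∈ E, e = 1 ∨ e = u * u ∨ e = r ∨ e = (u * u) * r := by
      intro e he
      rcases (hE1 e).mp he with h1 | h1
      · rcases hZZ e h1 with h2 | h2
        · exact Or.inl h2
        · exact Or.inr (Or.inl h2)
      · rcases hZZ _ h1 with h2 | h2
        · right; right; left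
          exact mul_inv_eq_one.mp h2
        · right; right; right
          exact mul_inv_eq_iff_eq_mul.mp h2
    have hzS : u * u ∈ S := S.mul_mem h.huS h.huS
    have hES : E ≤ S := by
      intro e he
      rcases hE e he with rfl | rfl | rfl | rfl
      · exact S.one_mem
      · exact hzS
      · exact hr
      · exact S.mul_mem hzS hr
    have hEc : ∀ e ∈ E, e * r = r * e ∧ e * (u * u) = (u * u) * e := by
      intro e he
      rcases hE e he with rfl | rfl | rfl | rfl
      · simp
      · exact ⟨hrzc.symm, rfl⟩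
      · exact ⟨rfl, hrzc⟩
      · constructor
        · calc (u * u) * r * r = (r * (u * u)) * r := by rw [hrzc]
            _ = r * ((u * u) * r) := by group
        · calc (u * u) * r * (u * u) = (u * u) * (r * (u * u)) := by group
            _ = (u * u) * ((u * u) * r) := by rw [hrzc]
    have hEcc : ∀ e ∈ E, ∀ e' ∈ E, e * e' = e' * e := by
      intro e he e' he'
      obtain ⟨h1, h2⟩ := hEc e he
      rcases hE e' he' with rfl | rfl | rfl | rfl
      · simp
      · exact h2
      · exact h1
      · calc e * ((u * u) * r) = (e * (u * u)) * r := by group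
          _ = (u * u) * (e * r) := by rw [h2]; group
          _ = (u * u) * (r * e) := by rw [h1]
          _ = (u * u) * r * e := by group
    have hrE : r ∈ E := hE4
    have hzE : u * u ∈ E := hE3 (Subgroup.mem_zpowers _)
    obtain ⟨P, hP1, hP2, hP3, hP4⟩ := mk2 E ω (by
      intro x hx
      have : ω * x * ω⁻¹ = x := by
        rw [hωS x (hES hx)]; group
      rwa [this]) (by rw [hωω]; exact hzE) (fun h1 => hωL (h.c.hSL (hES h1)))
    rw [hE2] at hP2
    have hcS : Nat.card S = 8 := by rw [h.hcard, hb]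
    have hP2g : IsPGroup 2 P := IsPGroup.of_card (n := 3) (by rw [hP2]; norm_num)
    have hPE : ∀ p ∈ P, ∀ e ∈ E, p * e = e * p := by
      intro p hp e he
      rcases (hP1 p).mp hp with h1 | h1
      · exact hEcc p h1 e he
      · have h2 := hEcc _ h1 e he
        have h3 := hωS e (hES he)
        calc p * e = (p * ω⁻¹) * (ω * e) := by group
          _ = (p * ω⁻¹) * (e * ω) := by rw [h3]
          _ = ((p * ω⁻¹) * e) * ω := by group
          _ = (e * (p * ω⁻¹)) * ω := by rw [h2]
          _ = e * p := by group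
    have hE2g : IsPGroup 2 E := hP2g.to_le hP3
    -- fusion of `z` and `r`
    obtain ⟨g₁, hg₁L, hg₁, hg₁E⟩ := h.c.Z hzS hzc (L.inv_mem hgL) E (hES.trans h.c.hSL) hE2g (by
      intro e he
      have : g⁻¹ * (u * u) * g⁻¹⁻¹ = r := by rw [inv_inv]; exact hgz
      rw [this]
      exact (hEc e he).1)
    have hg₁z : g₁ * (u * u) * g₁⁻¹ = r := by rw [hg₁, inv_inv]; exact hgz
    set ω₁ := g₁ * ω * g₁⁻¹ with hω₁
    have hω₁E : ∀ e ∈ E, ω₁ * e = e * ω₁ := by
      intro e he
      have h1 := hωS _ (hg₁E e he)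
      rw [hω₁]
      calc g₁ * ω * g₁⁻¹ * e = g₁ * (ω * (g₁⁻¹ * e * g₁)) * g₁⁻¹ := by group
        _ = g₁ * ((g₁⁻¹ * e * g₁) * ω) * g₁⁻¹ := by rw [h1]
        _ = e * (g₁ * ω * g₁⁻¹) := by group
    have hω₁₁ : ω₁ * ω₁ = r := by
      rw [hω₁, ← hg₁z, ← hωω]; group
    have hcentS : ∀ x ∈ S, (∀ s ∈ S, s * x = x * s) → x = 1 ∨ x = u * u := by
      have hnc : r * u ≠ u * r := by
        intro h1
        rw [hru'] at h1
        apply h.hu2
        have h2 := mul_right_cancel h1
        calc u * u = u * u⁻¹ := by rw [h2]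
          _ = 1 := by group
      have hTu : ∀ x ∈ Subgroup.zpowers u, u * x = x * u := by
        intro x hx
        obtain ⟨i, rfl⟩ := Subgroup.mem_zpowers_iff.mp hx
        exact ((Commute.refl u).zpow_right i)
      intro x hxS hx
      rcases hcoset x hxS with h1 | h1
      · rcases h.mem_T h1 with h2 | h2 | h2 | h2
        · exact Or.inl h2
        · exact absurd (by rw [h2] at hx; exact hx r hr) hnc
        · exact Or.inr h2
        · exfalso
          have h3 := hx r hr
          rw [h2] at h3
          apply hnc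
          have h5 : r * u⁻¹ = u⁻¹ * r := h3
          calc r * u = u * (u⁻¹ * r) * u := by group
            _ = u * (r * u⁻¹) * u := by rw [h5]
            _ = u * r := by group
      · exfalso
        set x' := x * r⁻¹ with hx'
        have hxx : x = x' * r := by rw [hx']; group
        have h3 := hx u h.huS
        apply hnc
        have h4 := hTu x' h1
        rw [hxx] at h3
        have h5 : u * x' * r = x' * r * u := by
          calc u * x' * r = u * (x' * r) := by group
            _ = x' * r * u := h3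
        rw [h4] at h5
        have h6 := mul_left_cancel (a := x') (b := u * r) (c := r * u) (by
          calc x' * (u * r) = x' * u * r := by group
            _ = x' * r * u := h5
            _ = x' * (r * u) := by group)
        exact h6.symm
    obtain ⟨h', hh'E, hh'⟩ := conjP h.c E P hP3 (hES.trans h.c.hSL) hP2g hPE (by rw [hP2, hcS])
      (by
        intro h'' hh''
        obtain ⟨h1, h2⟩ := hh'' _ hzE
        obtain ⟨h3, h4⟩ := hh'' _ hrE
        have h5 : h'' * (u * u) * h''⁻¹ = u * u := by
          rcases hcentS _ h1 h2 with h6 | h6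
          · exfalso
            apply hzne
            have h7 : u * u = h''⁻¹ * (h'' * (u * u) * h''⁻¹) * h'' := by group
            rw [h7, h6]; group
          · exact h6
        have h8 : h'' * r * h''⁻¹ = u * u := by
          rcases hcentS _ h3 h4 with h6 | h6
          · exfalso
            apply hr1
            have h7 : r = h''⁻¹ * (h'' * r * h''⁻¹) * h'' := by group
            rw [h7, h6]; group
          · exact h6
        apply hrz
        have h9 : h'' * r * h''⁻¹ = h'' * (u * u) * h''⁻¹ := by rw [h5, h8]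
        simpa using h9)
      hω₁E (k := 2) (by
        have : ω₁ ^ 2 ^ 2 = (ω₁ * ω₁) * (ω₁ * ω₁) := by
          rw [show (2 : ℕ) ^ 2 = 2 + 2 from rfl, pow_add, pow_two]
        rw [this, hω₁₁, hrr])
    set q := h' * ω₁ * h'⁻¹ with hq
    have hqq : q * q = r := by
      have h1 : h' * r * h'⁻¹ = r := by
        rw [hh'E r hrE]; group
      rw [hq]
      calc h' * ω₁ * h'⁻¹ * (h' * ω₁ * h'⁻¹) = h' * (ω₁ * ω₁) * h'⁻¹ := by group
        _ = h' * r * h'⁻¹ := by rw [hω₁₁]
        _ = r := h1
    have hEsq : ∀ e ∈ E, e * e = 1 := by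
      intro e he
      rcases hE e he with rfl | rfl | rfl | rfl
      · simp
      · exact hz2
      · exact hrr
      · calc (u * u) * r * ((u * u) * r) = (u * u) * (r * (u * u)) * r := by group
          _ = (u * u) * ((u * u) * r) * r := by rw [hrzc]
          _ = ((u * u) * (u * u)) * (r * r) := by group
          _ = 1 := by rw [hz2, hrr]; simp
    rcases (hP1 q).mp hh' with h1 | h1
    · exact hr1 (by rw [← hqq]; exact hEsq q h1)
    · apply hrz
      set e := q * ω⁻¹ with he
      have hq2 : q = e * ω := by rw [he]; group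
      have h3 := hωS e (hES h1)
      rw [← hqq, hq2]
      calc e * ω * (e * ω) = e * (ω * e) * ω := by group
        _ = e * (e * ω) * ω := by rw [h3]
        _ = (e * e) * (ω * ω) := by group
        _ = u * u := by rw [hEsq e h1, hωω]; group

end Base

end Cfsg.Agent.Lib.CycFourC
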