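import Mathlib
import Cfsg.Agent.Lib.CycFourD

/-!
# The case when `u` inverts `B`
-/

set_option autoImplicit false

namespace Cfsg.Agent.Lib.CycFourC

open Cfsg.Agent.Lib Cfsg.Agent.Lib.CycFourA

variable {X : Type*} [Group X] [Finite X] {L S : Subgroup X} {t u b : X}

namespace Base

variable (h : Base L S t u b)
include h

theorem z_eq {m : ℕ} (hm : orderOf b = 2 ^ m) (hm0 : 1 ≤ m) : b ^ (2 ^ (m - 1)) = u * u := by
  obtain ⟨r, rfl⟩ : ∃ r, m = r + 1 := ⟨m - 1, by omega⟩
  simp only [Nat.add_sub_cancel]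
  set x := b ^ (2 ^ r) with hx
  have hx1 : x ≠ 1 := by
    intro h1
    have := orderOf_dvd_of_pow_eq_one h1
    rw [hm, pow_succ] at this
    have h2 : 2 ^ r * 2 ≤ 2 ^ r := Nat.le_of_dvd (by positivity) this
    have h3 : 0 < 2 ^ r := by positivity
    omega
  have hx2 : x * x = 1 := by
    rw [hx, ← pow_add, ← two_mul, ← pow_succ', ← hm]
    exact pow_orderOf_eq_one b
  rcases h.invol_B (Subgroup.npow_mem_zpowers b _) hx2 with h1 | h1
  · exact absurd h1 hx1
  · exact h1

theorem sq_mem {A : Subgroup X} (hAi : A.relIndex S = 2) {y : X} (hy : y ∈ S) (hyA : y ∉ A) :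
    y * y ∈ A := by
  have hi' : (A.subgroupOf S).index = 2 := hAi
  have := (Subgroup.mul_mem_iff_of_index_two (H := A.subgroupOf S) hi' (a := ⟨y, hy⟩) (b := ⟨y, hy⟩)).mpr
    (by constructor <;> intro h1 <;> exact absurd h1 hyA)
  exact this

theorem zpow_odd_ne {m : ℕ} (hm : orderOf b = 2 ^ m) (hm0 : 1 ≤ m) {a : ℤ} (ha : a % 2 = 1) :
    b ^ a ≠ 1 := by
  intro h1
  have h2 := orderOf_dvd_iff_zpow_eq_one.mpr h1
  rw [hm] at h2
  obtain ⟨r, rfl⟩ : ∃ r, m = r + 1 := ⟨m - 1, by omega⟩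
  have h3 : (2 : ℤ) ∣ a := by
    refine Dvd.dvd.trans ?_ h2
    push_cast
    exact Dvd.intro_left _ (by rw [pow_succ])
  omega

theorem exists_q_of_odd {m : ℕ} (hm : orderOf b = 2 ^ m) {a : ℤ} (ha : a % 2 = 1) :
    ∃ q : ℤ, (b ^ a) ^ q = b := by
  have hc : IsCoprime a (2 : ℤ) := by
    refine ⟨1, -(a / 2), ?_⟩
    have := Int.emod_add_mul_ediv a 2
    rw [ha] at this
    linarith
  obtain ⟨s, r, hsr⟩ := hc.pow_right (n := m)
  refine ⟨s, ?_⟩
  have h1 : b ^ ((2 : ℤ) ^ m) = 1 := by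
    have := pow_orderOf_eq_one b
    rw [hm] at this
    exact_mod_cast this
  calc (b ^ a) ^ s = (b ^ a) ^ s * (b ^ ((2 : ℤ) ^ m)) ^ r := by rw [h1]; simp
    _ = b ^ (s * a + r * 2 ^ m) := by
        rw [← zpow_mul, ← zpow_mul, ← zpow_add]
        congr 1
        ring
    _ = b := by rw [hsr, zpow_one]

theorem comm_B {x x' : X} (hx : x ∈ Subgroup.zpowers b) (hx' : x' ∈ Subgroup.zpowers b) :
    x * x' = x' * x := by
  obtain ⟨i, rfl⟩ := Subgroup.mem_zpowers_iff.mp hx
  obtain ⟨j, rfl⟩ := Subgroup.mem_zpowers_iff.mp hx'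
  rw [← zpow_add, ← zpow_add, add_comm]

/-- The main computation when `u` inverts `B` and `y²` generates `B`. -/
theorem main_neg_odd {m : ℕ} (hm : orderOf b = 2 ^ m) (hm2 : 2 ≤ m) {A : Subgroup X}
    (hA : ∀ x, x ∈ A ↔ x ∈ Subgroup.zpowers b ∨ x * u⁻¹ ∈ Subgroup.zpowers b) (hAS : A ≤ S)
    (hAi : A.relIndex S = 2) (huA : u ∈ A) {y : X} (hyS : y ∈ S) (hyt : t * y * t⁻¹ = b⁻¹ * y)
    (hyA : y ∉ A) {w : X} (hyu : y * u * y⁻¹ = w * u) (hub : u * b * u⁻¹ = b⁻¹)
    (hw : w = b ∨ w = b * (u * u)) {a : ℤ} (ha : a % 2 = 1) (hyy : y * y = b ^ a)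
    {r : X} (hr : r ∈ S) (hrr : r * r = 1) : r = 1 ∨ r = u * u := by
  have hm1 : 1 ≤ m := by omega
  have hb1 : b ≠ 1 := by
    intro h1
    rw [h1, orderOf_one] at hm
    have : 1 < 2 ^ m := Nat.one_lt_two_pow (by omega)
    omega
  have htt := h.tt
  have hbbne : b * b ≠ 1 := by
    intro h1
    have h2 := orderOf_dvd_of_pow_eq_one (x := b) (n := 2) (by rw [pow_two]; exact h1)
    rw [hm] at h2
    have h3 : 2 ^ 2 ∣ 2 ^ m := pow_dvd_pow 2 hm2
    have h4 := Nat.dvd_trans h3 h2
    omega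
  set z := u * u with hz
  have hzB : z ∈ Subgroup.zpowers b := h.z_mem_B hb1
  have hz2 : z * z = 1 := h.u4
  have hzinv : z⁻¹ = z := inv_eq_of_mul_eq_one_left hz2
  have hzc : ∀ s ∈ S, s * z = z * s := fun s hs => h.z_central hb1 hs
  have hzne : z ≠ 1 := h.hu2
  have hbB : b ∈ Subgroup.zpowers b := Subgroup.mem_zpowers b
  have hbS := h.hbS
  have huS := h.huS
  have hzS : z ∈ S := S.mul_mem huS huS
  -- `u` inverts `B`
  have huB : ∀ x ∈ Subgroup.zpowers b, u * x * u⁻¹ = x⁻¹ := by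
    intro x hx
    obtain ⟨i, rfl⟩ := Subgroup.mem_zpowers_iff.mp hx
    rw [← conj_zpow, hub, inv_zpow]
  -- `y` commutes with `B`
  have hyb : y * b = b * y := by
    obtain ⟨q, hq⟩ := h.exists_q_of_odd hm ha
    rw [← hyy] at hq
    have hcy : Commute y (y * y) := (Commute.refl y).mul_right (Commute.refl y)
    have := hcy.zpow_right q
    rw [hq] at this
    exact this
  have hyB : ∀ x ∈ Subgroup.zpowers b, y * x = x * y := by
    intro x hx
    obtain ⟨i, rfl⟩ := Subgroup.mem_zpowers_iff.mp hx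
    exact ((show Commute y b from hyb).zpow_right i)
  set c := y * y with hc
  have hcB : c ∈ Subgroup.zpowers b := by rw [hyy]; exact Subgroup.zpow_mem_zpowers b a
  -- `c` is `b` up to `z`
  have hcc : c * c = b * b := by
    have h1 : t * c * t⁻¹ = c⁻¹ := h.t_mem_B hcB
    have h2 : t * c * t⁻¹ = b⁻¹ * b⁻¹ * c := by
      rw [hc]
      calc t * (y * y) * t⁻¹ = (t * y * t⁻¹) * (t * y * t⁻¹) := by group
        _ = b⁻¹ * y * (b⁻¹ * y) := by rw [hyt]
        _ = b⁻¹ * (y * b⁻¹) * y := by group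
        _ = b⁻¹ * (b⁻¹ * y) * y := by rw [hyB _ ((Subgroup.zpowers b).inv_mem hbB)]
        _ = b⁻¹ * b⁻¹ * (y * y) := by group
    rw [h2] at h1
    have h3 : b⁻¹ * b⁻¹ * c * c = 1 := by rw [h1]; group
    calc c * c = (b * b) * (b⁻¹ * b⁻¹ * c * c) := by group
      _ = b * b := by rw [h3]; group
  have hc' : c = b ∨ c = z * b := by
    have h1 : (c * b⁻¹) * (c * b⁻¹) = 1 := by
      have h2 := h.comm_B (x := b⁻¹) ((Subgroup.zpowers b).inv_mem hbB) hcB
      calc (c * b⁻¹) * (c * b⁻¹) = c * (b⁻¹ * c) * b⁻¹ := by group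
        _ = c * (c * b⁻¹) * b⁻¹ := by rw [h2]
        _ = (c * c) * b⁻¹ * b⁻¹ := by group
        _ = 1 := by rw [hcc]; group
    rcases h.invol_B ((Subgroup.zpowers b).mul_mem hcB ((Subgroup.zpowers b).inv_mem hbB)) h1 with h2 | h2
    · left; exact mul_inv_eq_one.mp h2
    · right; exact mul_inv_eq_iff_eq_mul.mp h2
  have hzb : z * b = b * z := (hzc b hbS).symm
  have hwB : w ∈ Subgroup.zpowers b := by
    rcases hw with rfl | rfl
    · exact hbB
    · exact (Subgroup.zpowers b).mul_mem hbB hzB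
  -- `d = u y`
  set d := u * y with hd
  have hdS : d ∈ S := S.mul_mem huS hyS
  have hdd : d * d = 1 ∨ d * d = z := by
    have h1 : d * d = (u * w * u⁻¹) * z * c := by
      rw [hd, hz, hc]
      calc u * y * (u * y) = u * (y * u * y⁻¹) * (y * y) := by group
        _ = u * (w * u) * (y * y) := by rw [hyu]
        _ = _ := by group
    rw [h1, huB w hwB]
    rcases hw with hw1 | hw1 <;> rcases hc' with h2 | h2 <;> rw [hw1, h2]
    · right
      calc b⁻¹ * z * b = b⁻¹ * (z * b) := by group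
        _ = z := by rw [hzb]; group
    · left
      calc b⁻¹ * z * (z * b) = b⁻¹ * (z * z) * b := by group
        _ = 1 := by rw [hz2]; group
    · left
      calc (b * z)⁻¹ * z * b = z⁻¹ * b⁻¹ * z * b := by group
        _ = z⁻¹ * b⁻¹ * (z * b) := by group
        _ = 1 := by rw [hzb]; group
    · right
      calc (b * z)⁻¹ * z * (z * b) = z⁻¹ * b⁻¹ * (z * z) * b := by group
        _ = z⁻¹ := by rw [hz2]; group
        _ = z := hzinv
  have hdB : ∀ x ∈ Subgroup.zpowers b, d * x * d⁻¹ = x⁻¹ := by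
    intro x hx
    rw [hd]
    calc u * y * x * (u * y)⁻¹ = u * (y * x) * y⁻¹ * u⁻¹ := by group
      _ = u * (x * y) * y⁻¹ * u⁻¹ := by rw [hyB x hx]
      _ = u * x * u⁻¹ := by group
      _ = x⁻¹ := huB x hx
  -- normal form
  have hnf : ∀ s ∈ S, s ∈ Subgroup.zpowers b ∨ s * u⁻¹ ∈ Subgroup.zpowers b ∨
      s * y⁻¹ ∈ Subgroup.zpowers b ∨ s * d⁻¹ ∈ Subgroup.zpowers b := by
    intro s hs
    by_cases hsA : s ∈ A
    · rcases (hA s).mp hsA with h1 | h1
      · exact Or.inl h1
      · exact Or.inr (Or.inl h1)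
    · have h1 := (h.coset_of_index_two hAS hAi hyS hyA hs hsA).1
      rcases (hA _).mp h1 with h2 | h2
      · exact Or.inr (Or.inr (Or.inl h2))
      · right; right; right
        have e : s * d⁻¹ = s * y⁻¹ * u⁻¹ := by rw [hd]; group
        rwa [e]
  -- squares
  have hsq1 : ∀ x ∈ Subgroup.zpowers b, (x * u) * (x * u) = z := by
    intro x hx
    have h1 := huB x hx
    calc x * u * (x * u) = x * (u * x * u⁻¹) * (u * u) := by group
      _ = u * u := by rw [h1]; group
  have hsq2 : ∀ x ∈ Subgroup.zpowers b, (x * y) * (x * y) = x * x * c := by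
    intro x hx
    calc x * y * (x * y) = x * (y * x) * y := by group
      _ = x * (x * y) * y := by rw [hyB x hx]
      _ = x * x * c := by rw [hc]; group
  have hsq3 : ∀ x ∈ Subgroup.zpowers b, (x * d) * (x * d) = d * d := by
    intro x hx
    have h1 := hdB x hx
    calc x * d * (x * d) = x * (d * x * d⁻¹) * (d * d) := by group
      _ = d * d := by rw [h1]; group
  have hsq2ne : ∀ x ∈ Subgroup.zpowers b, x * x * c ≠ 1 := by
    intro x hx h1
    obtain ⟨i, rfl⟩ := Subgroup.mem_zpowers_iff.mp hx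
    rw [← zpow_add, hyy, ← zpow_add] at h1
    exact h.zpow_odd_ne hm hm1 (a := i + i + a) (by omega) h1
  by_cases hdz : d * d = z
  · -- generalized quaternion
    rcases hnf r hr with h1 | h1 | h1 | h1
    · exact h.invol_B h1 hrr
    · exfalso
      have h2 := hsq1 _ h1
      rw [inv_mul_cancel_right, hrr] at h2
      exact hzne h2.symm
    · exfalso
      have h2 := hsq2 _ h1
      rw [inv_mul_cancel_right, hrr] at h2
      exact hsq2ne _ h1 h2.symm
    · exfalso
      have h2 := hsq3 _ h1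
      rw [inv_mul_cancel_right, hrr, hdz] at h2
      exact hzne h2.symm
  · exfalso
    have hd1 : d * d = 1 := by
      rcases hdd with h1 | h1
      · exact h1
      · exact absurd h1 hdz
    have hinvB : ∀ x ∈ Subgroup.zpowers b, x⁻¹ ∈ Subgroup.zpowers b := fun x hx =>
      (Subgroup.zpowers b).inv_mem hx
    have hBS : Subgroup.zpowers b ≤ S := h.B_le
    have hBA : Subgroup.zpowers b ≤ A := fun x hx => (hA x).mpr (Or.inl hx)
    have hLS : S ≤ L := h.c.hSL
    set v := b ^ (2 ^ (m - 2)) with hv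
    have hvB : v ∈ Subgroup.zpowers b := Subgroup.npow_mem_zpowers b _
    have hvv : v * v = z := by
      rw [hv, ← pow_add, ← two_mul, ← pow_succ', show m - 2 + 1 = m - 1 by omega]
      exact h.z_eq hm hm1
    have hvz : v * z = z * v := hzc v (hBS hvB)
    have hvinv : v⁻¹ = z * v := by
      apply inv_eq_of_mul_eq_one_left
      calc z * v * v = z * (v * v) := by group
        _ = 1 := by rw [hvv, hz2]
    have hroot : ∀ q ∈ Subgroup.zpowers b, q * q = z → q = v ∨ q = v⁻¹ := by
      intro q hq hqq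
      have h1 : (q * v⁻¹) * (q * v⁻¹) = 1 := by
        have h2 := h.comm_B (hinvB v hvB) hq
        calc (q * v⁻¹) * (q * v⁻¹) = q * (v⁻¹ * q) * v⁻¹ := by group
          _ = q * (q * v⁻¹) * v⁻¹ := by rw [h2]
          _ = (q * q) * (v * v)⁻¹ := by group
          _ = 1 := by rw [hqq, hvv]; group
      rcases h.invol_B ((Subgroup.zpowers b).mul_mem hq (hinvB v hvB)) h1 with h2 | h2
      · left; exact mul_inv_eq_one.mp h2
      · right
        rw [hvinv]
        exact mul_inv_eq_iff_eq_mul.mp h2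
    have hbbinv : b⁻¹ = b → False := by
      intro h1
      apply hbbne
      calc b * b = b * b⁻¹ := by rw [h1]
        _ = 1 := by group
    have hdB' : d ∉ Subgroup.zpowers b := by
      intro h1
      have h2 := hdB b hbB
      rw [h.comm_B h1 hbB] at h2
      apply hbbinv
      rw [← h2]; group
    obtain ⟨D, hD1, hDS, hDi, hBD, hdD⟩ := h.exists_Q hdS (by rw [hd1]; exact Subgroup.one_mem _) hdB'
    obtain ⟨a₀, ha₀S, ha₀D, g, hgL, hg⟩ := h.c.F D hDS hDi
    have hbpow : b ^ (2 ^ m) = 1 := by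
      have := pow_orderOf_eq_one b
      rwa [hm] at this
    have hpowsq : ∀ (x : X) (k : ℕ), x ^ (2 ^ (k + 1)) = (x * x) ^ (2 ^ k) := by
      intro x k
      rw [pow_succ', pow_mul, pow_two]
    have hpowne : ∀ e : ℤ, e % 2 = 1 → (b ^ e) ^ (2 ^ (m - 1)) ≠ 1 := by
      intro e he h1
      obtain ⟨r, rfl⟩ : ∃ r, m = r + 1 := ⟨m - 1, by omega⟩
      simp only [Nat.add_sub_cancel] at h1
      rw [← zpow_natCast, ← zpow_mul] at h1
      have h2 := orderOf_dvd_iff_zpow_eq_one.mpr h1
      rw [hm] at h2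
      push_cast at h2
      have h3 : (2 : ℤ) ^ r * 2 ∣ 2 ^ r * e := by
        rw [pow_succ, mul_comm e] at h2
        exact h2
      have h4 : (2 : ℤ) ∣ e := (mul_dvd_mul_iff_left (by positivity)).mp h3
      omega
    have hm' : m - 1 + 1 = m := by omega
    obtain ⟨e, he, hwe⟩ : ∃ e : ℤ, e % 2 = 1 ∧ w = b ^ e := by
      rcases hw with hw1 | hw1
      · exact ⟨1, by norm_num, by rw [hw1, zpow_one]⟩
      · have hN : ((2 ^ (m - 2) : ℕ) : ℤ) + ((2 ^ (m - 2) : ℕ) : ℤ) = 2 * ((2 ^ (m - 2) : ℕ) : ℤ) := by ring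
        refine ⟨1 + (((2 ^ (m - 2) : ℕ) : ℤ) + ((2 ^ (m - 2) : ℕ) : ℤ)), by omega, ?_⟩
        rw [hw1, zpow_add, zpow_add, zpow_one, zpow_natCast, ← hv, hvv]
    obtain ⟨g₂, hg₂L, hg₂⟩ : ∃ g₂ ∈ L, g₂ * u * g₂⁻¹ = v := by
      rcases hnf a₀ ha₀S with h1 | h1 | h1 | h1
      · exact absurd (hBD h1) ha₀D
      · set x := a₀ * u⁻¹ with hx
        have hax : a₀ = x * u := by rw [hx]; group
        have ha₀₀ : a₀ * a₀ = z := by rw [hax]; exact hsq1 x h1
        set q := g * a₀ * g⁻¹ with hq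
        have hqq : q * q = g * z * g⁻¹ := by
          rw [hq, ← ha₀₀]; group
        have hqq1 : q * q ≠ 1 := by
          intro h2
          rw [hqq] at h2
          apply hzne
          have h3 : z = g⁻¹ * (g * z * g⁻¹) * g := by group
          rw [h3, h2]; group
        have hqB : q ∈ Subgroup.zpowers b := by
          rcases (hD1 q).mp hg with h2 | h2
          · exact h2
          · exfalso
            have h3 := hsq3 _ h2
            rw [inv_mul_cancel_right, hd1] at h3
            exact hqq1 h3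
        have hq4 : (q * q) * (q * q) = 1 := by
          rw [hqq]
          calc g * z * g⁻¹ * (g * z * g⁻¹) = g * (z * z) * g⁻¹ := by group
            _ = 1 := by rw [hz2]; group
        have hqz : q * q = z := by
          rcases h.invol_B ((Subgroup.zpowers b).mul_mem hqB hqB) hq4 with h2 | h2
          · exact absurd h2 hqq1
          · exact h2
        -- `a₀` is conjugate to `u` in `S`
        obtain ⟨s, hsS, hs⟩ : ∃ s ∈ S, s * u * s⁻¹ = x * u := by
          have hconj : ∀ j : ℤ, b ^ j * u * (b ^ j)⁻¹ = b ^ (j + j) * u := by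
            intro j
            have h2 := huB (b ^ j)⁻¹ (hinvB _ (Subgroup.zpow_mem_zpowers b j))
            rw [inv_inv] at h2
            calc b ^ j * u * (b ^ j)⁻¹ = b ^ j * (u * (b ^ j)⁻¹ * u⁻¹) * u := by group
              _ = b ^ j * b ^ j * u := by rw [h2]
              _ = b ^ (j + j) * u := by rw [zpow_add]
          obtain ⟨i, hi⟩ := Subgroup.mem_zpowers_iff.mp h1
          by_cases hpar : i % 2 = 0
          · refine ⟨b ^ (i / 2), hBS (Subgroup.zpow_mem_zpowers b _), ?_⟩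
            rw [hconj, ← hi]
            congr 2
            omega
          · refine ⟨b ^ ((i - e) / 2) * y, S.mul_mem (hBS (Subgroup.zpow_mem_zpowers b _)) hyS, ?_⟩
            set j := (i - e) / 2 with hj
            have hij : i = e + (j + j) := by omega
            have hcomm : b ^ j * w = w * b ^ j := h.comm_B (Subgroup.zpow_mem_zpowers b j) hwB
            calc b ^ j * y * u * (b ^ j * y)⁻¹ = b ^ j * (y * u * y⁻¹) * (b ^ j)⁻¹ := by group
              _ = b ^ j * (w * u) * (b ^ j)⁻¹ := by rw [hyu]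
              _ = (b ^ j * w) * u * (b ^ j)⁻¹ := by group
              _ = (w * b ^ j) * u * (b ^ j)⁻¹ := by rw [hcomm]
              _ = w * (b ^ j * u * (b ^ j)⁻¹) := by group
              _ = w * (b ^ (j + j) * u) := by rw [hconj]
              _ = x * u := by
                  rw [← hi, hij, zpow_add, hwe]; group
        have hsu : g * s * u * (g * s)⁻¹ = q := by
          rw [hq, hax, ← hs]; group
        have hgsL : g * s ∈ L := L.mul_mem hgL (hLS hsS)
        rcases hroot q hqB hqz with h2 | h2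
        · exact ⟨g * s, hgsL, by rw [hsu, h2]⟩
        · refine ⟨d⁻¹ * (g * s), L.mul_mem (L.inv_mem (hLS hdS)) hgsL, ?_⟩
          have h3 := hdB v hvB
          calc d⁻¹ * (g * s) * u * (d⁻¹ * (g * s))⁻¹ = d⁻¹ * (g * s * u * (g * s)⁻¹) * d := by group
            _ = d⁻¹ * v⁻¹ * d := by rw [hsu, h2]
            _ = d⁻¹ * (d * v * d⁻¹) * d := by rw [h3]
            _ = v := by group
      · exfalso
        set x := a₀ * y⁻¹ with hx
        have hax : a₀ = x * y := by rw [hx]; group
        have ha₀₀ : a₀ * a₀ = x * x * c := by rw [hax]; exact hsq2 x h1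
        obtain ⟨i, hi⟩ := Subgroup.mem_zpowers_iff.mp h1
        have hqpow : (g * a₀ * g⁻¹) ^ (2 ^ m) = 1 := by
          rcases (hD1 _).mp hg with h2 | h2
          · obtain ⟨i', hi'⟩ := Subgroup.mem_zpowers_iff.mp h2
            rw [← hi', ← zpow_natCast, ← zpow_mul, mul_comm, zpow_mul, zpow_natCast, hbpow, one_zpow]
          · have h3 := hsq3 _ h2
            rw [inv_mul_cancel_right, hd1] at h3
            rw [← hm', hpowsq, h3, one_pow]
        rw [conj_pow] at hqpow
        have ha₀pow : a₀ ^ (2 ^ m) = 1 := by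
          have h3 : g * a₀ ^ 2 ^ m * g⁻¹ = 1 := hqpow
          have h4 : a₀ ^ 2 ^ m = g⁻¹ * (g * a₀ ^ 2 ^ m * g⁻¹) * g := by group
          rw [h4, h3]; group
        rw [← hm', hpowsq, ha₀₀, ← hi, hyy, ← zpow_add, ← zpow_add] at ha₀pow
        exact hpowne (i + i + a) (by omega) ha₀pow
      · exact absurd ((hD1 a₀).mpr (Or.inr h1)) ha₀D
    -- the cyclic subgroup `C = ⟨y⟩`
    have hyne : y ^ (2 ^ m) ≠ 1 := by
      rw [← hm', hpowsq]
      rw [← hc, hyy]
      exact hpowne a ha
    have hyord : orderOf y = 2 ^ (m + 1) := by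
      haveI : Fact (Nat.Prime 2) := ⟨Nat.prime_two⟩
      refine orderOf_eq_prime_pow hyne ?_
      rw [hpowsq, ← hc, hyy, ← zpow_natCast, ← zpow_mul, mul_comm, zpow_mul, zpow_natCast, hbpow,
        one_zpow]
    set C := Subgroup.zpowers y with hC
    have hyC : y ∈ C := Subgroup.mem_zpowers y
    have hCS : C ≤ S := by rw [hC, Subgroup.zpowers_le]; exact hyS
    have hBC : Subgroup.zpowers b ≤ C := by
      rw [Subgroup.zpowers_le]
      obtain ⟨q, hq⟩ := h.exists_q_of_odd hm ha
      rw [← hq, ← hyy]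
      exact C.zpow_mem (C.mul_mem hyC hyC) q
    have hCb : ∀ c' ∈ C, ∀ x ∈ Subgroup.zpowers b, c' * x = x * c' := by
      intro c' hc' x hx
      obtain ⟨i, rfl⟩ := Subgroup.mem_zpowers_iff.mp hc'
      exact ((show Commute y x from hyB x hx).zpow_left i)
    have hεB : w * b⁻¹ ∈ Subgroup.zpowers b := (Subgroup.zpowers b).mul_mem hwB (hinvB b hbB)
    have hε : w * b⁻¹ = 1 ∨ w * b⁻¹ = z := by
      rcases hw with hw1 | hw1
      · left; rw [hw1]; group
      · right
        rw [hw1]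
        calc b * z * b⁻¹ = (z * b) * b⁻¹ := by rw [hzb]
          _ = z := by group
    have htw : t * w⁻¹ * t⁻¹ = w := by
      have h1 := h.t_mem_B (hinvB w hwB)
      rw [h1, inv_inv]
    have huy : u * y * u⁻¹ = w⁻¹ * y := by
      have h1 : y * u = w * u * y := by
        calc y * u = y * u * y⁻¹ * y := by group
          _ = w * u * y := by rw [hyu]
      calc u * y * u⁻¹ = w⁻¹ * (w * u * y) * u⁻¹ := by group
        _ = w⁻¹ * (y * u) * u⁻¹ := by rw [h1]
        _ = w⁻¹ * y := by group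
    have htuy : (t * u) * y * (t * u)⁻¹ = (w * b⁻¹) * y := by
      calc (t * u) * y * (t * u)⁻¹ = t * (u * y * u⁻¹) * t⁻¹ := by group
        _ = t * (w⁻¹ * y) * t⁻¹ := by rw [huy]
        _ = (t * w⁻¹ * t⁻¹) * (t * y * t⁻¹) := by group
        _ = w * (b⁻¹ * y) := by rw [htw, hyt]
        _ = (w * b⁻¹) * y := by group
    have htuu : (t * u) * (t * u) = z := by
      have h1 : t * u = u * t := by
        calc t * u = t * u * t⁻¹ * t := by group
          _ = u * t := by rw [h.hut]
      calc (t * u) * (t * u) = (u * t) * (t * u) := by rw [h1]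
        _ = u * (t * t) * u := by group
        _ = u * u := by rw [h.c.ht]; group
    have htuL : t * u ∉ L := by
      intro h1
      apply h.c.htL
      have h2 := L.mul_mem h1 (L.inv_mem (hLS huS))
      simpa using h2
    obtain ⟨P, hP1, hP2, hP3, hP4⟩ := mk2 C (t * u) (by
      intro x hx
      obtain ⟨i, rfl⟩ := Subgroup.mem_zpowers_iff.mp hx
      rw [← conj_zpow, htuy]
      exact C.zpow_mem (C.mul_mem (hBC hεB) hyC) i) (by rw [htuu]; exact hBC hzB)
      (fun h1 => htuL (hLS (hCS h1)))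
    rw [Nat.card_zpowers, hyord] at hP2
    have hcardS : Nat.card S = 4 * 2 ^ m := by rw [h.hcard, hm]
    have hP2g : IsPGroup 2 P := IsPGroup.of_card (n := m + 2) (by
      rw [hP2]; ring)
    have htuv : (t * u) * v = v * (t * u) := by
      have h1 := huB v hvB
      have h2 := h.t_mem_B (hinvB v hvB)
      rw [inv_inv] at h2
      calc (t * u) * v = t * (u * v * u⁻¹) * t⁻¹ * (t * u) := by group
        _ = t * v⁻¹ * t⁻¹ * (t * u) := by rw [h1]
        _ = v * (t * u) := by rw [h2]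
    have hPv : ∀ p ∈ P, p * v = v * p := by
      intro p hp
      rcases (hP1 p).mp hp with h1 | h1
      · exact hCb p h1 v hvB
      · have h2 := hCb _ h1 v hvB
        calc p * v = (p * (t * u)⁻¹) * ((t * u) * v) := by group
          _ = (p * (t * u)⁻¹) * (v * (t * u)) := by rw [htuv]
          _ = ((p * (t * u)⁻¹) * v) * (t * u) := by group
          _ = (v * (p * (t * u)⁻¹)) * (t * u) := by rw [h2]
          _ = v * p := by group
    have hEB : Subgroup.zpowers v ≤ Subgroup.zpowers b := by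
      rw [Subgroup.zpowers_le]; exact hvB
    set τ := g₂ * t * g₂⁻¹ with hτ
    have hτv : τ * v = v * τ := by
      have h1 : t * u = u * t := by
        calc t * u = t * u * t⁻¹ * t := by group
          _ = u * t := by rw [h.hut]
      rw [hτ, ← hg₂]
      calc g₂ * t * g₂⁻¹ * (g₂ * u * g₂⁻¹) = g₂ * (t * u) * g₂⁻¹ := by group
        _ = g₂ * (u * t) * g₂⁻¹ := by rw [h1]
        _ = g₂ * u * g₂⁻¹ * (g₂ * t * g₂⁻¹) := by group
    obtain ⟨h₁, hh₁, hh₁P⟩ := conjP h.c (Subgroup.zpowers v) P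
      (hEB.trans (hBC.trans hP3)) (hEB.trans (hBS.trans hLS)) hP2g
      (by
        intro p hp e he
        obtain ⟨i, rfl⟩ := Subgroup.mem_zpowers_iff.mp he
        exact ((show Commute p v from hPv p hp).zpow_right i))
      (by rw [hP2, hcardS]; ring)
      (by
        intro h'' hh''
        obtain ⟨h1, h2⟩ := hh'' v (Subgroup.mem_zpowers v)
        set x := h'' * v * h''⁻¹ with hx
        have hxx : x * x ≠ 1 := by
          intro h3
          have h4 : x * x = h'' * z * h''⁻¹ := by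
            rw [hx, ← hvv]; group
          rw [h4] at h3
          apply hzne
          have h5 : z = h''⁻¹ * (h'' * z * h''⁻¹) * h'' := by group
          rw [h5, h3]; group
        rcases hnf x h1 with h3 | h3 | h3 | h3
        · apply hxx
          have h4 := huB x h3
          have h5 := h2 u huS
          have h6 : u * x * u⁻¹ = x := by rw [h5]; group
          rw [h6] at h4
          calc x * x = x * x⁻¹ := by rw [← h4]
            _ = 1 := by group
        · apply hbbinv
          set x₀ := x * u⁻¹ with hx₀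
          have hxe : x = x₀ * u := by rw [hx₀]; group
          have h5 := h2 b hbS
          have h6 : x * b * x⁻¹ = b := by rw [← h5]; group
          have h7 : x * b * x⁻¹ = b⁻¹ := by
            rw [hxe]
            calc x₀ * u * b * (x₀ * u)⁻¹ = x₀ * (u * b * u⁻¹) * x₀⁻¹ := by group
              _ = x₀ * b⁻¹ * x₀⁻¹ := by rw [hub]
              _ = b⁻¹ * x₀ * x₀⁻¹ := by rw [h.comm_B h3 (hinvB b hbB)]
              _ = b⁻¹ := by group
          rw [← h7, h6]
        · apply hxx
          exfalso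
          set x₀ := x * y⁻¹ with hx₀
          have hxe : x = x₀ * y := by rw [hx₀]; group
          obtain ⟨i, hi⟩ := Subgroup.mem_zpowers_iff.mp h3
          have h5 := h2 u huS
          have h6 : x * u * x⁻¹ = u := by rw [← h5]; group
          have h7 : x * u * x⁻¹ = (x₀ * w * x₀) * u := by
            have h8 := huB x₀⁻¹ (hinvB _ h3)
            rw [inv_inv] at h8
            rw [hxe]
            calc x₀ * y * u * (x₀ * y)⁻¹ = x₀ * (y * u * y⁻¹) * x₀⁻¹ := by group
              _ = x₀ * (w * u) * x₀⁻¹ := by rw [hyu]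
              _ = x₀ * w * (u * x₀⁻¹ * u⁻¹) * u := by group
              _ = (x₀ * w * x₀) * u := by rw [h8]
          rw [h6] at h7
          have h9 : x₀ * w * x₀ = 1 := by
            have h10 : (x₀ * w * x₀) * u = 1 * u := by rw [one_mul]; exact h7.symm
            exact mul_right_cancel h10
          rw [← hi, hwe, ← zpow_add, ← zpow_add] at h9
          exact h.zpow_odd_ne hm hm1 (a := i + e + i) (by omega) h9
        · apply hxx
          have h4 := hsq3 _ h3
          rwa [inv_mul_cancel_right, hd1] at h4)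
      (τ := τ) (by
        intro e he
        obtain ⟨i, rfl⟩ := Subgroup.mem_zpowers_iff.mp he
        exact ((show Commute τ v from hτv).zpow_right i)) (k := 1) (by
        rw [pow_one, pow_two, hτ]
        calc g₂ * t * g₂⁻¹ * (g₂ * t * g₂⁻¹) = g₂ * (t * t) * g₂⁻¹ := by group
          _ = 1 := by rw [h.c.ht]; group)
    set τ₁ := h₁ * τ * h₁⁻¹ with hτ₁
    set g₃ := h₁ * g₂ with hg₃
    have hτ₁g : τ₁ = g₃ * t * g₃⁻¹ := by rw [hτ₁, hτ, hg₃]; group
    have hτ₁L : τ₁ ∉ L := by
      intro h1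
      apply h.c.htL
      have h2 := h.c.hLn.conj_mem τ₁ h1 g₃⁻¹
      have e : g₃⁻¹ * τ₁ * g₃⁻¹⁻¹ = t := by rw [hτ₁g]; group
      rwa [e] at h2
    have hτ₁₁ : τ₁ * τ₁ = 1 := by
      rw [hτ₁g]
      calc g₃ * t * g₃⁻¹ * (g₃ * t * g₃⁻¹) = g₃ * (t * t) * g₃⁻¹ := by group
        _ = 1 := by rw [h.c.ht]; group
    have hc₁ : τ₁ * (t * u)⁻¹ ∈ C := by
      rcases (hP1 τ₁).mp hh₁P with h1 | h1
      · exact absurd (hLS (hCS h1)) hτ₁L
      · exact h1
    set c₁ := τ₁ * (t * u)⁻¹ with hc₁def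
    have hτc : τ₁ = c₁ * (t * u) := by rw [hc₁def]; group
    set c₂ := t * c₁ * t⁻¹ with hc₂
    have hc₂C : c₂ ∈ C := by
      obtain ⟨i, hi⟩ := Subgroup.mem_zpowers_iff.mp hc₁
      rw [hc₂, ← hi, ← conj_zpow, hyt]
      exact C.zpow_mem (C.mul_mem (hBC (hinvB b hbB)) hyC) i
    set s := c₂ * u with hs
    have hτs : τ₁ = t * s := by
      rw [hτc, hs, hc₂]
      calc c₁ * (t * u) = c₁ * t * u := by group
        _ = t * t * c₁ * t * u := by rw [h.c.ht]; group
        _ = t * (t * c₁ * t * u) := by group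
        _ = t * (t * c₁ * t⁻¹ * u) := by rw [htt]
    have hsS : s ∈ S := S.mul_mem (hCS hc₂C) huS
    have hsB : ∀ x ∈ Subgroup.zpowers b, s * x * s⁻¹ = x⁻¹ := by
      intro x hx
      rw [hs]
      calc c₂ * u * x * (c₂ * u)⁻¹ = c₂ * (u * x * u⁻¹) * c₂⁻¹ := by group
        _ = c₂ * x⁻¹ * c₂⁻¹ := by rw [huB x hx]
        _ = x⁻¹ * c₂ * c₂⁻¹ := by rw [hCb c₂ hc₂C _ (hinvB x hx)]
        _ = x⁻¹ := by group
    have hts : t * s * t⁻¹ = s⁻¹ := by
      have h1 : (t * s * t⁻¹) * s = 1 := by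
        rw [htt]
        calc (t * s * t) * s = (t * s) * (t * s) := by group
          _ = τ₁ * τ₁ := by rw [hτs]
          _ = 1 := hτ₁₁
      exact eq_inv_of_mul_eq_one_left h1
    have hτ₁B : ∀ x ∈ Subgroup.zpowers b, τ₁ * x = x * τ₁ := by
      intro x hx
      have h1 := h.t_mem_B (hinvB x hx)
      rw [inv_inv] at h1
      rw [hτs]
      calc t * s * x = t * (s * x * s⁻¹) * t⁻¹ * (t * s) := by group
        _ = t * x⁻¹ * t⁻¹ * (t * s) := by rw [hsB x hx]
        _ = x * (t * s) := by rw [h1]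
    have hbs : s * b ≠ b * s := by
      intro h1
      apply hbbinv
      have h2 := hsB b hbB
      rw [h1] at h2
      rw [← h2]; group
    rcases hnf s hsS with h1 | h1 | h1 | h1
    · exact hbs (h.comm_B h1 hbB)
    · set x := s * u⁻¹ with hx
      have hsx : s = x * u := by rw [hx]; group
      have hss : s * s = z := by rw [hsx]; exact hsq1 x h1
      have hτy : τ₁ * y * τ₁⁻¹ = (w * b⁻¹) * y := by
        have h2 : s * y * s⁻¹ = w⁻¹ * y := by
          have h3 := h.comm_B h1 (hinvB w hwB)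
          have h4 := hyB _ (hinvB x h1)
          calc s * y * s⁻¹ = x * (u * y * u⁻¹) * x⁻¹ := by rw [hsx]; group
            _ = x * (w⁻¹ * y) * x⁻¹ := by rw [huy]
            _ = x * w⁻¹ * (y * x⁻¹) := by group
            _ = w⁻¹ * x * (x⁻¹ * y) := by rw [h3, h4]
            _ = w⁻¹ * y := by group
        rw [hτs]
        calc t * s * y * (t * s)⁻¹ = t * (s * y * s⁻¹) * t⁻¹ := by group
          _ = t * (w⁻¹ * y) * t⁻¹ := by rw [h2]
          _ = (t * w⁻¹ * t⁻¹) * (t * y * t⁻¹) := by group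
          _ = w * (b⁻¹ * y) := by rw [htw, hyt]
          _ = (w * b⁻¹) * y := by group
      have hsA : s ∈ A := (hA s).mpr (Or.inr h1)
      obtain ⟨y₁, hy₁S, hy₁B, hy₁τ⟩ : ∃ y₁ ∈ S, y₁ ∉ Subgroup.zpowers b ∧ τ₁ * y₁ = y₁ * τ₁ := by
        rcases hε with h2 | h2
        · refine ⟨y, hyS, fun h3 => hyA (hBA h3), ?_⟩
          rw [h2, one_mul] at hτy
          calc τ₁ * y = τ₁ * y * τ₁⁻¹ * τ₁ := by group
            _ = y * τ₁ := by rw [hτy]
        · refine ⟨y * s, S.mul_mem hyS hsS, fun h3 => hyA ?_, ?_⟩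
          · have h4 := A.mul_mem (hBA h3) (A.inv_mem hsA)
            simpa using h4
          · rw [h2] at hτy
            have h4 : τ₁ * s * τ₁⁻¹ = s⁻¹ := by
              rw [hτs]
              calc t * s * s * (t * s)⁻¹ = t * s * t⁻¹ := by group
                _ = s⁻¹ := hts
            have h5 : s⁻¹ = z * s := by
              apply inv_eq_of_mul_eq_one_left
              calc z * s * s = z * (s * s) := by group
                _ = 1 := by rw [hss, hz2]
            have h6 : τ₁ * (y * s) * τ₁⁻¹ = y * s := by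
              calc τ₁ * (y * s) * τ₁⁻¹ = (τ₁ * y * τ₁⁻¹) * (τ₁ * s * τ₁⁻¹) := by group
                _ = (z * y) * (z * s) := by rw [hτy, h4, h5]
                _ = z * (y * z) * s := by group
                _ = z * (z * y) * s := by rw [hzc y hyS]
                _ = (z * z) * (y * s) := by group
                _ = y * s := by rw [hz2]; group
            calc τ₁ * (y * s) = τ₁ * (y * s) * τ₁⁻¹ * τ₁ := by group
              _ = (y * s) * τ₁ := by rw [h6]
      let P' : Subgroup X := S ⊓ Subgroup.centralizer ({τ₁} : Set X)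
      have hP'mem : ∀ x, x ∈ P' ↔ x ∈ S ∧ x * τ₁ = τ₁ * x := by
        intro x
        rw [Subgroup.mem_inf, Subgroup.mem_centralizer_iff]
        constructor
        · rintro ⟨h2, h3⟩
          exact ⟨h2, (h3 τ₁ rfl).symm⟩
        · rintro ⟨h2, h3⟩
          refine ⟨h2, ?_⟩
          rintro _ rfl
          exact h3.symm
      have hBP' : Subgroup.zpowers b ≤ P' := fun x hx =>
        (hP'mem x).mpr ⟨hBS hx, (hτ₁B x hx).symm⟩
      have hcP' : Nat.card P' ≤ 4 := by
        apply h.c.h4 g₃ P' (le_trans inf_le_left hLS) (h.c.hS2.to_le inf_le_left)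
        intro p hp
        rw [← hτ₁g]
        exact ((hP'mem p).mp hp).2
      have hcB : 4 ≤ Nat.card (Subgroup.zpowers b) := by
        rw [Nat.card_zpowers, hm]
        calc 4 = 2 ^ 2 := rfl
          _ ≤ 2 ^ m := Nat.pow_le_pow_right (by omega) hm2
      have hEq := Subgroup.eq_of_le_of_card_ge hBP' (le_trans hcP' hcB)
      exact hy₁B (by rw [hEq]; exact (hP'mem y₁).mpr ⟨hy₁S, hy₁τ.symm⟩)
    · exact hbs (by
        set x := s * y⁻¹ with hx
        have hsx : s = x * y := by rw [hx]; group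
        rw [hsx]
        calc x * y * b = x * (y * b) := by group
          _ = x * (b * y) := by rw [hyb]
          _ = (x * b) * y := by group
          _ = (b * x) * y := by rw [h.comm_B h1 hbB]
          _ = b * (x * y) := by group)
    · exfalso
      have h2 := hsq3 _ h1
      rw [inv_mul_cancel_right, hd1] at h2
      have h3 : s⁻¹ = s := inv_eq_of_mul_eq_one_left h2
      rw [h3] at hts
      rcases h.invol_T (h.hfix s hsS hts) h2 with h4 | h4
      · exact hbs (by rw [h4]; group)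
      · exact hbs (by rw [h4]; exact hzb)

/-- The case when `u` inverts `B`. -/
theorem main_neg {m : ℕ} (hm : orderOf b = 2 ^ m) (hm2 : 2 ≤ m) {A : Subgroup X}
    (hA : ∀ x, x ∈ A ↔ x ∈ Subgroup.zpowers b ∨ x * u⁻¹ ∈ Subgroup.zpowers b) (hAS : A ≤ S)
    (hAi : A.relIndex S = 2) (huA : u ∈ A) {y : X} (hyS : y ∈ S) (hyt : t * y * t⁻¹ = b⁻¹ * y)
    (hyA : y ∉ A) {w : X} (hyu : y * u * y⁻¹ = w * u) (hub : u * b * u⁻¹ = b⁻¹)
    (hw : w = b ∨ w = b * (u * u))
    {r : X} (hr : r ∈ S) (hrr : r * r = 1) : r = 1 ∨ r = u * u := by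
  have hm1 : 1 ≤ m := by omega
  have hb1 : b ≠ 1 := by
    intro h1
    rw [h1, orderOf_one] at hm
    have : 1 < 2 ^ m := Nat.one_lt_two_pow (by omega)
    omega
  have hbB : b ∈ Subgroup.zpowers b := Subgroup.mem_zpowers b
  have huB : ∀ x ∈ Subgroup.zpowers b, u * x * u⁻¹ = x⁻¹ := by
    intro x hx
    obtain ⟨i, rfl⟩ := Subgroup.mem_zpowers_iff.mp hx
    rw [← conj_zpow, hub, inv_zpow]
  have hyyA := h.sq_mem hAi hyS hyA
  have hyyB : y * y ∈ Subgroup.zpowers b := by
    rcases (hA _).mp hyyA with h1 | h1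
    · exact h1
    · exfalso
      obtain ⟨k, hk⟩ := Subgroup.mem_zpowers_iff.mp (h.B_norm hyS hbB)
      set e := y * y * u⁻¹ with he
      have hyy : y * y = e * u := by rw [he]; group
      have h2 : (y * y) * b * (y * y)⁻¹ = b⁻¹ := by
        rw [hyy]
        calc e * u * b * (e * u)⁻¹ = e * (u * b * u⁻¹) * e⁻¹ := by group
          _ = e * b⁻¹ * e⁻¹ := by rw [hub]
          _ = b⁻¹ * e * e⁻¹ := by rw [h.comm_B h1 ((Subgroup.zpowers b).inv_mem hbB)]
          _ = b⁻¹ := by group
      have h3 : (y * y) * b * (y * y)⁻¹ = b ^ (k * k) := by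
        calc (y * y) * b * (y * y)⁻¹ = y * (y * b * y⁻¹) * y⁻¹ := by group
          _ = y * b ^ k * y⁻¹ := by rw [hk]
          _ = (y * b * y⁻¹) ^ k := conj_zpow.symm
          _ = (b ^ k) ^ k := by rw [hk]
          _ = b ^ (k * k) := by rw [zpow_mul]
      rw [h3] at h2
      have h4 : b ^ (k * k + 1) = 1 := by
        rw [zpow_add, h2, zpow_one]; group
      have h5 := orderOf_dvd_iff_zpow_eq_one.mpr h4
      rw [hm] at h5
      have h6 : (4 : ℤ) ∣ k * k + 1 := by
        refine Dvd.dvd.trans ?_ h5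
        have : ((2 : ℕ) ^ 2 : ℕ) ∣ 2 ^ m := pow_dvd_pow 2 hm2
        exact_mod_cast this
      rcases Int.even_or_odd' k with ⟨q, rfl | rfl⟩
      · have e1 : 2 * q * (2 * q) + 1 = 4 * (q * q) + 1 := by ring
        rw [e1] at h6
        omega
      · have e1 : (2 * q + 1) * (2 * q + 1) + 1 = 4 * (q * q + q) + 2 := by ring
        rw [e1] at h6
        omega
  obtain ⟨a, ha⟩ := Subgroup.mem_zpowers_iff.mp hyyB
  by_cases hpar : a % 2 = 1
  · exact h.main_neg_odd hm hm2 hA hAS hAi huA hyS hyt hyA hyu hub hw hpar ha.symm hr hrr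
  · have hz := h.z_eq hm hm1
    set Z : ℤ := ((2 ^ (m - 1) : ℕ) : ℤ) with hZ
    have hZ2 : Z % 2 = 0 := by
      obtain ⟨r', hr'⟩ : ∃ r', m - 1 = r' + 1 := ⟨m - 2, by omega⟩
      rw [hZ, hr', pow_succ]
      push_cast
      omega
    have hzZ : u * u = b ^ Z := by rw [← hz, hZ, zpow_natCast]
    have hsq : (y * u) * (y * u) = w * (b ^ a)⁻¹ * b ^ Z := by
      have h1 := huB (b ^ a) (Subgroup.zpow_mem_zpowers b a)
      calc (y * u) * (y * u) = (y * u * y⁻¹) * (y * y) * u := by group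
        _ = (w * u) * (b ^ a) * u := by rw [hyu, ha]
        _ = w * (u * b ^ a * u⁻¹) * (u * u) := by group
        _ = w * (b ^ a)⁻¹ * b ^ Z := by rw [h1, hzZ]
    obtain ⟨a', ha', hsq'⟩ : ∃ a' : ℤ, a' % 2 = 1 ∧ (y * u) * (y * u) = b ^ a' := by
      rcases hw with hw1 | hw1
      · refine ⟨1 + -a + Z, by omega, ?_⟩
        rw [hsq, hw1, zpow_add, zpow_add, zpow_one, zpow_neg]
      · refine ⟨1 + Z + -a + Z, by omega, ?_⟩
        rw [hsq, hw1, hzZ, zpow_add, zpow_add, zpow_add, zpow_one, zpow_neg]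
    have hyuA : y * u ∉ A := by
      intro h1
      apply hyA
      have h2 := A.mul_mem h1 (A.inv_mem huA)
      simpa using h2
    refine h.main_neg_odd hm hm2 hA hAS hAi huA (S.mul_mem hyS h.huS) ?_ hyuA (w := w) ?_ hub hw ha' hsq' hr hrr
    · calc t * (y * u) * t⁻¹ = (t * y * t⁻¹) * (t * u * t⁻¹) := by group
        _ = b⁻¹ * (y * u) := by rw [hyt, h.hut]; group
    · calc y * u * u * (y * u)⁻¹ = y * u * y⁻¹ := by group
        _ = w * u := hyu

end Base

end Cfsg.Agent.Lib.CycFourC
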