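import Mathlib
import Cfsg.Agent.Lib.CycFourE

/-!
# The case when `u` centralizes `B`: setup
-/

set_option autoImplicit false

namespace Cfsg.Agent.Lib.CycFourC

open Cfsg.Agent.Lib Cfsg.Agent.Lib.CycFourA

variable {X : Type*} [Group X] [Finite X] {L S : Subgroup X} {t u b : X}

/-- A `2`-power root of a fused element, transported to `S`. -/
theorem power_root (c : Ctx L S t) {f₁ e x g : X} (hf₁S : f₁ ∈ S) (hf₁ : ∀ s ∈ S, s * f₁ = f₁ * s)
    (hg : g ∈ L) (hgf : g * f₁ * g⁻¹ = e) (hx : x ∈ L) {j k : ℕ} (hxj : x ^ (2 ^ j) = e)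
    (hxk : x ^ (2 ^ k) = 1) : ∃ a ∈ S, a ^ (2 ^ j) = f₁ := by
  set w₀ := g⁻¹ * x * g with hw₀
  have hconj : ∀ n : ℕ, w₀ ^ n = g⁻¹ * x ^ n * g := by
    intro n
    have := conj_pow (a := g⁻¹) (b := x) (i := n)
    simpa [hw₀] using this
  have hw₀j : w₀ ^ (2 ^ j) = f₁ := by
    rw [hconj, hxj, ← hgf]
    group
  have hw₀L : w₀ ∈ L := L.mul_mem (L.mul_mem (L.inv_mem hg) hx) hg
  have hw₀f : w₀ * f₁ = f₁ * w₀ := by
    rw [← hw₀j]
    exact ((Commute.refl w₀).pow_right _)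
  have hw₀k : w₀ ^ (2 ^ k) = 1 := by
    rw [hconj, hxk]
    group
  obtain ⟨h, -, h1, h2⟩ := c.Root hf₁S hf₁ hw₀L hw₀f hw₀k
  refine ⟨h * w₀ * h⁻¹, h2, ?_⟩
  rw [conj_pow, hw₀j, h1]

/-- The setting of the commuting case. -/
structure Pos {X : Type*} [Group X] (L S : Subgroup X) (t u b : X) (A : Subgroup X) (y w : X) (m : ℕ)
    (v : X) : Prop where
  base : Base L S t u b
  hm : orderOf b = 2 ^ m
  hm2 : 2 ≤ m
  hA : ∀ x, x ∈ A ↔ x ∈ Subgroup.zpowers b ∨ x * u⁻¹ ∈ Subgroup.zpowers b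
  hAS : A ≤ S
  hAi : A.relIndex S = 2
  huA : u ∈ A
  hyS : y ∈ S
  hyt : t * y * t⁻¹ = b⁻¹ * y
  hyA : y ∉ A
  hyu : y * u * y⁻¹ = w * u
  hub : u * b = b * u
  hw : w = 1 ∨ w = u * u
  hv : v = b ^ (2 ^ (m - 2))

namespace Pos

variable {A : Subgroup X} {y w : X} {m : ℕ} {v : X} (p : Pos L S t u b A y w m v)
include p

theorem hb1 : b ≠ 1 := by
  intro h1
  have hm := p.hm
  have hm2 := p.hm2
  rw [h1, orderOf_one] at hm
  have : 1 < 2 ^ m := Nat.one_lt_two_pow (by omega)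
  omega

theorem hbbne : b * b ≠ 1 := by
  intro h1
  have h2 := orderOf_dvd_of_pow_eq_one (x := b) (n := 2) (by rw [pow_two]; exact h1)
  rw [p.hm] at h2
  have h3 : 2 ^ 2 ∣ 2 ^ m := pow_dvd_pow 2 p.hm2
  have h4 := Nat.dvd_trans h3 h2
  omega

theorem hbu {x : X} (hx : x ∈ Subgroup.zpowers b) : u * x = x * u := by
  obtain ⟨i, rfl⟩ := Subgroup.mem_zpowers_iff.mp hx
  exact ((show Commute u b from p.hub).zpow_right i)

theorem hBA {x : X} (hx : x ∈ Subgroup.zpowers b) : x ∈ A := (p.hA x).mpr (Or.inl hx)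

theorem hA_b {x : X} (hx : x ∈ A) : x * b = b * x ∧ x * u = u * x := by
  rcases (p.hA x).mp hx with h1 | h1
  · exact ⟨p.base.comm_B h1 (Subgroup.mem_zpowers b), (p.hbu h1).symm⟩
  · set x₀ := x * u⁻¹ with hx₀
    have hxe : x = x₀ * u := by rw [hx₀]; group
    rw [hxe]
    constructor
    · calc x₀ * u * b = x₀ * (b * u) := by rw [mul_assoc, p.hub]
        _ = (x₀ * b) * u := by group
        _ = (b * x₀) * u := by rw [p.base.comm_B h1 (Subgroup.mem_zpowers b)]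
        _ = b * (x₀ * u) := by group
    · calc x₀ * u * u = (x₀ * u) * u := rfl
        _ = (u * x₀) * u := by rw [p.hbu h1]
        _ = u * (x₀ * u) := by group

theorem comm_A {x x' : X} (hx : x ∈ A) (hx' : x' ∈ A) : x * x' = x' * x := by
  obtain ⟨h1, h2⟩ := p.hA_b hx
  rcases (p.hA x').mp hx' with h3 | h3
  · obtain ⟨i, rfl⟩ := Subgroup.mem_zpowers_iff.mp h3
    exact ((show Commute x b from h1).zpow_right i)
  · set x₀ := x' * u⁻¹ with hx₀
    have hxe : x' = x₀ * u := by rw [hx₀]; group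
    obtain ⟨i, hi⟩ := Subgroup.mem_zpowers_iff.mp h3
    have h4 : x * x₀ = x₀ * x := by
      rw [← hi]
      exact ((show Commute x b from h1).zpow_right i)
    rw [hxe]
    calc x * (x₀ * u) = (x * x₀) * u := by group
      _ = x₀ * (x * u) := by rw [h4]; group
      _ = x₀ * (u * x) := by rw [h2]
      _ = x₀ * u * x := by group

theorem hm1 : 1 ≤ m := by have := p.hm2; omega

theorem hzB : u * u ∈ Subgroup.zpowers b := p.base.z_mem_B p.hb1

theorem hz2 : (u * u) * (u * u) = 1 := p.base.u4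

theorem hzinv : (u * u)⁻¹ = u * u := inv_eq_of_mul_eq_one_left p.hz2

theorem hzc {s : X} (hs : s ∈ S) : s * (u * u) = (u * u) * s := p.base.z_central p.hb1 hs

theorem hvB : v ∈ Subgroup.zpowers b := by
  rw [p.hv]; exact Subgroup.npow_mem_zpowers b _

theorem hvv : v * v = u * u := by
  have := p.hm2
  rw [p.hv, ← pow_add, ← two_mul, ← pow_succ', show m - 2 + 1 = m - 1 by omega]
  exact p.base.z_eq p.hm p.hm1

theorem hvS : v ∈ S := p.base.B_le p.hvB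

theorem hvinv : v⁻¹ = (u * u) * v := by
  apply inv_eq_of_mul_eq_one_left
  calc (u * u) * v * v = (u * u) * (v * v) := by group
    _ = 1 := by rw [p.hvv, p.hz2]

theorem hroot {q : X} (hq : q ∈ Subgroup.zpowers b) (hqq : q * q = u * u) : q = v ∨ q = v⁻¹ := by
  have hvB := p.hvB
  have hvi : v⁻¹ ∈ Subgroup.zpowers b := (Subgroup.zpowers b).inv_mem hvB
  have h1 : (q * v⁻¹) * (q * v⁻¹) = 1 := by
    have h2 := p.base.comm_B hvi hq
    calc (q * v⁻¹) * (q * v⁻¹) = q * (v⁻¹ * q) * v⁻¹ := by group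
      _ = q * (q * v⁻¹) * v⁻¹ := by rw [h2]
      _ = (q * q) * (v * v)⁻¹ := by group
      _ = 1 := by rw [hqq, p.hvv]; group
  rcases p.base.invol_B ((Subgroup.zpowers b).mul_mem hq hvi) h1 with h2 | h2
  · left; exact mul_inv_eq_one.mp h2
  · right
    rw [p.hvinv]
    exact mul_inv_eq_iff_eq_mul.mp h2

/-- The involution `f = u v⁻¹`. -/
theorem hff : (u * v⁻¹) * (u * v⁻¹) = 1 := by
  have hvi : v⁻¹ ∈ Subgroup.zpowers b := (Subgroup.zpowers b).inv_mem p.hvB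
  have h1 := p.hbu hvi
  calc (u * v⁻¹) * (u * v⁻¹) = u * (v⁻¹ * u) * v⁻¹ := by group
    _ = u * (u * v⁻¹) * v⁻¹ := by rw [h1]
    _ = (u * u) * (v * v)⁻¹ := by group
    _ = 1 := by rw [p.hvv]; group

theorem hf_A : u * v⁻¹ ∈ A := A.mul_mem p.huA (p.hBA ((Subgroup.zpowers b).inv_mem p.hvB))

theorem hf_S : u * v⁻¹ ∈ S := p.hAS p.hf_A

theorem hf_B : u * v⁻¹ ∉ Subgroup.zpowers b := by
  intro h1
  apply p.base.u_not_B
  have h2 := (Subgroup.zpowers b).mul_mem h1 p.hvB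
  simpa using h2

theorem hfz_B : (u * v⁻¹) * (u * u) ∉ Subgroup.zpowers b := by
  intro h1
  apply p.hf_B
  have h2 := (Subgroup.zpowers b).mul_mem h1 ((Subgroup.zpowers b).inv_mem p.hzB)
  have e : (u * v⁻¹) * (u * u) * (u * u)⁻¹ = u * v⁻¹ := by group
  rwa [e] at h2

theorem hfz_A : (u * v⁻¹) * (u * u) ∈ A := A.mul_mem p.hf_A (p.hBA p.hzB)

theorem hfz_S : (u * v⁻¹) * (u * u) ∈ S := p.hAS p.hfz_A

theorem hfzfz : ((u * v⁻¹) * (u * u)) * ((u * v⁻¹) * (u * u)) = 1 := by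
  have h1 := p.hzc p.hf_S
  calc ((u * v⁻¹) * (u * u)) * ((u * v⁻¹) * (u * u))
      = (u * v⁻¹) * ((u * u) * (u * v⁻¹)) * (u * u) := by group
    _ = (u * v⁻¹) * ((u * v⁻¹) * (u * u)) * (u * u) := by rw [h1]
    _ = ((u * v⁻¹) * (u * v⁻¹)) * ((u * u) * (u * u)) := by group
    _ = 1 := by rw [p.hff, p.hz2]; simp

theorem hf_inB {x : X} (hx : x ∈ Subgroup.zpowers b) : x ≠ u * v⁻¹ := fun h1 => p.hf_B (h1 ▸ hx)

theorem hfz_inB {x : X} (hx : x ∈ Subgroup.zpowers b) : x ≠ (u * v⁻¹) * (u * u) :=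
  fun h1 => p.hfz_B (h1 ▸ hx)

/-- Involutions of `A`. -/
theorem invol_A {x : X} (hx : x ∈ A) (hxx : x * x = 1) :
    x = 1 ∨ x = u * u ∨ x = u * v⁻¹ ∨ x = (u * v⁻¹) * (u * u) := by
  rcases (p.hA x).mp hx with h1 | h1
  · rcases p.base.invol_B h1 hxx with h2 | h2
    · exact Or.inl h2
    · exact Or.inr (Or.inl h2)
  · right; right
    set x₀ := x * u⁻¹ with hx₀
    have hxe : x = x₀ * u := by rw [hx₀]; group
    have h2 : x₀ * x₀ = u * u := by
      have h3 : (x₀ * u) * (x₀ * u) = (x₀ * x₀) * (u * u) := by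
        calc (x₀ * u) * (x₀ * u) = x₀ * (u * x₀) * u := by group
          _ = x₀ * (x₀ * u) * u := by rw [p.hbu h1]
          _ = _ := by group
      rw [← hxe, hxx] at h3
      calc x₀ * x₀ = (x₀ * x₀) * ((u * u) * (u * u)) := by rw [p.hz2]; group
        _ = ((x₀ * x₀) * (u * u)) * (u * u) := by group
        _ = u * u := by rw [← h3]; group
    have hvi : v⁻¹ ∈ Subgroup.zpowers b := (Subgroup.zpowers b).inv_mem p.hvB
    rcases p.hroot h1 h2 with h3 | h3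
    · right
      rw [hxe, h3, ← p.hbu p.hvB]
      calc u * v = u * (v⁻¹ * (v * v)) := by group
        _ = u * (v⁻¹ * (u * u)) := by rw [p.hvv]
        _ = _ := by group
    · left
      rw [hxe, h3]
      exact (p.hbu hvi).symm

theorem A_sq {x : X} (hx : x ∈ A) : ∃ q ∈ Subgroup.zpowers b, x * x = q * q := by
  rcases (p.hA x).mp hx with h1 | h1
  · exact ⟨x, h1, rfl⟩
  · set x₀ := x * u⁻¹ with hx₀
    have hxe : x = x₀ * u := by rw [hx₀]; group
    refine ⟨x₀ * v, (Subgroup.zpowers b).mul_mem h1 p.hvB, ?_⟩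
    rw [hxe]
    calc x₀ * u * (x₀ * u) = x₀ * (u * x₀) * u := by group
      _ = x₀ * (x₀ * u) * u := by rw [p.hbu h1]
      _ = x₀ * x₀ * (u * u) := by group
      _ = x₀ * x₀ * (v * v) := by rw [p.hvv]
      _ = x₀ * (x₀ * v) * v := by group
      _ = x₀ * (v * x₀) * v := by rw [p.base.comm_B h1 p.hvB]
      _ = x₀ * v * (x₀ * v) := by group

theorem A_sq_B {x : X} (hx : x ∈ A) : x * x ∈ Subgroup.zpowers b := by
  obtain ⟨q, hq, h1⟩ := p.A_sq hx
  rw [h1]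
  exact (Subgroup.zpowers b).mul_mem hq hq

theorem coset {s : X} (hs : s ∈ S) (hsA : s ∉ A) : s * y⁻¹ ∈ A :=
  (p.base.coset_of_index_two p.hAS p.hAi p.hyS p.hyA hs hsA).1

theorem yy_A : y * y ∈ A := p.base.sq_mem p.hAi p.hyS p.hyA

theorem zS : u * u ∈ S := S.mul_mem p.base.huS p.base.huS

theorem hzne : u * u ≠ 1 := p.base.hu2

/-- Lemma L1. -/
theorem comm_S {x₀ f₁ g : X} (hx₀S : x₀ ∈ S) (hx₀c : ∀ s ∈ S, s * x₀ = x₀ * s)
    (hx₀₀ : x₀ * x₀ = u * u) (hf₁A : f₁ ∈ A) (hf₁B : f₁ ∉ Subgroup.zpowers b) (hg : g ∈ L)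
    (hgf : g * f₁ * g⁻¹ = u * u) : ∀ s ∈ S, ∀ s' ∈ S, s * s' = s' * s := by
  have hgz : g⁻¹ * (u * u) * g⁻¹⁻¹ = f₁ := by rw [← hgf]; group
  have hc := p.base.c
  obtain ⟨g', hg'L, hg'1, hg'2⟩ := hc.Z p.zS (fun s hs => p.hzc hs) (L.inv_mem hg) A
    (p.hAS.trans hc.hSL) (hc.hS2.to_le p.hAS) (by
      intro r hr
      rw [hgz]
      exact p.comm_A hr hf₁A)
  rw [hgz] at hg'1
  let A₂ : Subgroup X := A.map (MulAut.conj g'⁻¹).toMonoidHom
  have hA₂mem : ∀ x, x ∈ A₂ ↔ g' * x * g'⁻¹ ∈ A := by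
    intro x
    rw [mem_conj_map, inv_inv]
  have hA₂S : A₂ ≤ S := by
    intro x hx
    have h1 := hg'2 _ ((hA₂mem x).mp hx)
    have e : g'⁻¹ * (g' * x * g'⁻¹) * g' = x := by group
    rwa [e] at h1
  have hcA₂ : Nat.card A₂ = Nat.card A :=
    Nat.card_congr (Subgroup.equivMapOfInjective _ _ (MulAut.conj g'⁻¹).injective).symm.toEquiv
  have hA₂i : A₂.relIndex S = 2 := by
    have h1 := Subgroup.card_mul_index (A₂.subgroupOf S)
    have h2 := Subgroup.card_mul_index (A.subgroupOf S)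
    rw [Nat.card_congr (Subgroup.subgroupOfEquivOfLe hA₂S).toEquiv, hcA₂] at h1
    rw [Nat.card_congr (Subgroup.subgroupOfEquivOfLe p.hAS).toEquiv] at h2
    have h3 : (A.subgroupOf S).index = 2 := p.hAi
    rw [h3] at h2
    have h4 : 0 < Nat.card A := Nat.card_pos
    change (A₂.subgroupOf S).index = 2
    have h5 : Nat.card A * (A₂.subgroupOf S).index = Nat.card A * 2 := by rw [h1, h2]
    exact Nat.eq_of_mul_eq_mul_left h4 h5
  have hx₀A₂ : x₀ ∉ A₂ := by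
    intro h1
    have h2 := p.A_sq_B ((hA₂mem x₀).mp h1)
    have e : (g' * x₀ * g'⁻¹) * (g' * x₀ * g'⁻¹) = f₁ := by
      calc (g' * x₀ * g'⁻¹) * (g' * x₀ * g'⁻¹) = g' * (x₀ * x₀) * g'⁻¹ := by group
        _ = f₁ := by rw [hx₀₀]; exact hg'1
    rw [e] at h2
    exact hf₁B h2
  have hA₂c : ∀ x ∈ A₂, ∀ x' ∈ A₂, x * x' = x' * x := by
    intro x hx x' hx'
    have h1 := p.comm_A ((hA₂mem x).mp hx) ((hA₂mem x').mp hx')
    have h2 : g' * (x * x') * g'⁻¹ = g' * (x' * x) * g'⁻¹ := by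
      calc g' * (x * x') * g'⁻¹ = (g' * x * g'⁻¹) * (g' * x' * g'⁻¹) := by group
        _ = (g' * x' * g'⁻¹) * (g' * x * g'⁻¹) := h1
        _ = g' * (x' * x) * g'⁻¹ := by group
    simpa using h2
  have hcos : ∀ s ∈ S, s ∈ A₂ ∨ s * x₀⁻¹ ∈ A₂ := by
    intro s hs
    by_cases h1 : s ∈ A₂
    · exact Or.inl h1
    · exact Or.inr (p.base.coset_of_index_two hA₂S hA₂i hx₀S hx₀A₂ hs h1).1
  have hSA : ∀ s ∈ S, ∀ a ∈ A₂, s * a = a * s := by
    intro s hs a ha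
    rcases hcos s hs with h1 | h1
    · exact hA₂c s h1 a ha
    · have h2 := hA₂c _ h1 a ha
      have h3 := hx₀c a (hA₂S ha)
      calc s * a = (s * x₀⁻¹) * (x₀ * a) := by group
        _ = (s * x₀⁻¹) * (a * x₀) := by rw [h3]
        _ = ((s * x₀⁻¹) * a) * x₀ := by group
        _ = (a * (s * x₀⁻¹)) * x₀ := by rw [h2]
        _ = a * s := by group
  intro s hs s' hs'
  rcases hcos s' hs' with h1 | h1
  · exact hSA s hs s' h1
  · have h2 := hSA s hs _ h1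
    have h3 := hx₀c s hs
    calc s * s' = (s * (s' * x₀⁻¹)) * x₀ := by group
      _ = ((s' * x₀⁻¹) * s) * x₀ := by rw [h2]
      _ = (s' * x₀⁻¹) * (s * x₀) := by group
      _ = (s' * x₀⁻¹) * (x₀ * s) := by rw [h3]
      _ = s' * s := by group

/-- `y²` and the action of `y` on `b`. -/
theorem exists_a : ∃ a : ℤ, (y * y = b ^ a ∨ y * y = b ^ a * u) ∧ y * b * y⁻¹ = b⁻¹ * (b ^ a * b ^ a) := by
  set β := y * b * y⁻¹ with hβ
  have hy2 : t * (y * y) * t⁻¹ = b⁻¹ * β⁻¹ * (y * y) := by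
    calc t * (y * y) * t⁻¹ = (t * y * t⁻¹) * (t * y * t⁻¹) := by group
      _ = b⁻¹ * y * (b⁻¹ * y) := by rw [p.hyt]
      _ = b⁻¹ * (y * b * y⁻¹)⁻¹ * (y * y) := by group
  have key : ∀ c : X, c ∈ Subgroup.zpowers b → c⁻¹ = b⁻¹ * β⁻¹ * c → β = b⁻¹ * (c * c) := by
    intro c hc h1
    have h2 : β⁻¹ = b * c⁻¹ * c⁻¹ := by
      calc β⁻¹ = b * (b⁻¹ * β⁻¹ * c) * c⁻¹ := by group
        _ = b * c⁻¹ * c⁻¹ := by rw [← h1]
    have h3 : β = c * c * b⁻¹ := by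
      calc β = (β⁻¹)⁻¹ := by group
        _ = (b * c⁻¹ * c⁻¹)⁻¹ := by rw [h2]
        _ = c * c * b⁻¹ := by simp only [mul_inv_rev, inv_inv, mul_assoc]
    rw [h3]
    have h4 : b⁻¹ * c = c * b⁻¹ := p.base.comm_B ((Subgroup.zpowers b).inv_mem (Subgroup.mem_zpowers b)) hc
    calc c * c * b⁻¹ = c * (c * b⁻¹) := by group
      _ = c * (b⁻¹ * c) := by rw [h4]
      _ = (c * b⁻¹) * c := by group
      _ = (b⁻¹ * c) * c := by rw [h4]
      _ = b⁻¹ * (c * c) := by group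
  rcases (p.hA _).mp p.yy_A with h1 | h1
  · obtain ⟨a, ha⟩ := Subgroup.mem_zpowers_iff.mp h1
    refine ⟨a, Or.inl ha.symm, ?_⟩
    have hcB : b ^ a ∈ Subgroup.zpowers b := Subgroup.zpow_mem_zpowers b a
    apply key _ hcB
    rw [ha] at *
    have h2 := p.base.t_mem_B hcB
    rw [← h2, ← ha, hy2, ha]
  · obtain ⟨a, ha⟩ := Subgroup.mem_zpowers_iff.mp h1
    have hyy : y * y = b ^ a * u := by rw [ha]; group
    refine ⟨a, Or.inr hyy, ?_⟩
    have hcB : b ^ a ∈ Subgroup.zpowers b := Subgroup.zpow_mem_zpowers b a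
    apply key _ hcB
    have h2 := p.base.t_mem_B hcB
    have h3 : t * (y * y) * t⁻¹ = (b ^ a)⁻¹ * u := by
      rw [hyy]
      calc t * (b ^ a * u) * t⁻¹ = (t * b ^ a * t⁻¹) * (t * u * t⁻¹) := by group
        _ = (b ^ a)⁻¹ * u := by rw [h2, p.base.hut]
    rw [h3, hyy] at hy2
    have h4 : (b ^ a)⁻¹ * u = (b⁻¹ * β⁻¹ * b ^ a) * u := by rw [hy2]; group
    exact mul_right_cancel h4

theorem hwinv : w⁻¹ = w := by
  rcases p.hw with h1 | h1
  · rw [h1]; simp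
  · rw [h1]; exact p.hzinv

theorem hwB : w ∈ Subgroup.zpowers b := by
  rcases p.hw with h1 | h1
  · rw [h1]; exact Subgroup.one_mem _
  · rw [h1]; exact p.hzB

/-- The consequence of `y` commuting with `y²`. -/
theorem E5 {a : ℤ} (hβ : y * b * y⁻¹ = b⁻¹ * (b ^ a * b ^ a)) :
    (y * y = b ^ a → b ^ (2 * a * (a - 1)) = 1) ∧
    (y * y = b ^ a * u → b ^ (2 * a * (a - 1)) = w) := by
  have hβ' : y * b * y⁻¹ = b ^ (2 * a - 1) := by
    rw [hβ, ← zpow_add, ← zpow_neg_one, ← zpow_add]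
    congr 1
    ring
  have hyc : y * b ^ a * y⁻¹ = b ^ ((2 * a - 1) * a) := by
    rw [← conj_zpow, hβ', ← zpow_mul]
  have e : 2 * a * (a - 1) = (2 * a - 1) * a - a := by ring
  constructor
  · intro hyy
    have h1 : y * b ^ a * y⁻¹ = b ^ a := by
      rw [← hyy]; group
    rw [hyc] at h1
    rw [e, sub_eq_add_neg, zpow_add, h1, zpow_neg]
    group
  · intro hyy
    have h1 : y * (b ^ a * u) * y⁻¹ = b ^ a * u := by
      rw [← hyy]; group
    have h2 : y * (b ^ a * u) * y⁻¹ = (y * b ^ a * y⁻¹) * (y * u * y⁻¹) := by group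
    rw [h2, p.hyu, hyc] at h1
    have h3 : b ^ ((2 * a - 1) * a) * w = b ^ a := by
      have h4 : (b ^ ((2 * a - 1) * a) * w) * u = b ^ a * u := by rw [mul_assoc]; exact h1
      exact mul_right_cancel h4
    have h5 : b ^ ((2 * a - 1) * a) = b ^ a * w⁻¹ := by
      rw [← h3]; group
    rw [e, sub_eq_add_neg, zpow_add, h5, zpow_neg, p.hwinv]
    have h6 := p.base.comm_B p.hwB (Subgroup.zpow_mem_zpowers b a)
    rw [← h6]
    group

theorem dvd_of_pow {e : ℤ} (h1 : b ^ e = 1) : (2 : ℤ) ^ m ∣ e := by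
  have h2 := orderOf_dvd_iff_zpow_eq_one.mpr h1
  rw [p.hm] at h2
  exact_mod_cast h2

theorem pow_of_dvd {e : ℤ} (h1 : (2 : ℤ) ^ m ∣ e) : b ^ e = 1 := by
  apply orderOf_dvd_iff_zpow_eq_one.mp
  rw [p.hm]
  exact_mod_cast h1

theorem nt1 {a : ℤ} (ha : a % 2 = 0) (h1 : b ^ (2 * a * (a - 1)) = 1) : b ^ a * b ^ a = 1 := by
  have h2 := two_pow_dvd_of_mul m (2 * a) (a - 1) (by omega) (p.dvd_of_pow h1)
  rw [← zpow_add, show a + a = 2 * a by ring]
  exact p.pow_of_dvd h2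

theorem nt2 {a : ℤ} (ha : a % 2 = 1) (h1 : b ^ (2 * a * (a - 1)) = 1) : b ^ a * b ^ a = b * b := by
  have h2 := two_pow_dvd_of_mul m (2 * (a - 1)) a ha (by
    have e : 2 * (a - 1) * a = 2 * a * (a - 1) := by ring
    rw [e]; exact p.dvd_of_pow h1)
  have h3 := p.pow_of_dvd h2
  have e : a + a = 2 * (a - 1) + (1 + 1) := by ring
  rw [← zpow_add, e, zpow_add, h3, one_mul, zpow_add, zpow_one]

theorem hzZ : u * u = b ^ (((2 ^ (m - 1) : ℕ) : ℤ)) := by
  rw [zpow_natCast]; exact (p.base.z_eq p.hm p.hm1).symm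

theorem two_Z : (2 : ℤ) ^ m = 2 * ((2 ^ (m - 1) : ℕ) : ℤ) := by
  have := p.hm1
  obtain ⟨r, rfl⟩ : ∃ r, m = r + 1 := ⟨m - 1, by omega⟩
  simp only [Nat.add_sub_cancel]
  push_cast
  rw [pow_succ]; ring

theorem nt3 {a : ℤ} (ha : a % 2 = 0) (h1 : b ^ (2 * a * (a - 1)) = u * u) :
    b ^ a * b ^ a = u * u ∧ 3 ≤ m := by
  have hZ := p.hzZ
  have hT := p.two_Z
  set Z : ℤ := ((2 ^ (m - 1) : ℕ) : ℤ) with hZdef
  have h2 : b ^ (2 * a * (a - 1) - Z) = 1 := by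
    rw [sub_eq_add_neg, zpow_add, h1, zpow_neg, hZ]; group
  have h3 := p.dvd_of_pow h2
  obtain ⟨j, hj⟩ : ∃ j, a = 2 * j := ⟨a / 2, by omega⟩
  have h4 : (2 : ℤ) ^ m ∣ (2 * a - Z) * (a - 1) := by
    have e : (2 * a - Z) * (a - 1) = (2 * a * (a - 1) - Z) - (2 : ℤ) ^ m * (j - 1) := by
      rw [hT, hj]; ring
    rw [e]
    exact dvd_sub h3 (Dvd.intro _ rfl)
  have h5 := two_pow_dvd_of_mul m (2 * a - Z) (a - 1) (by omega) h4
  have h6 := p.pow_of_dvd h5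
  constructor
  · rw [hZ, ← zpow_add]
    have e : a + a = (2 * a - Z) + Z := by ring
    rw [e, zpow_add, h6, one_mul]
  · by_contra hcon
    have hm2 := p.hm2
    have hm' : m = 2 := by omega
    subst hm'
    have hZ2 : Z = 2 := by rw [hZdef]; norm_num
    rw [hT, hZ2] at h5
    omega

theorem nt4 {a : ℤ} (ha : a % 2 = 1) (h1 : b ^ (2 * a * (a - 1)) = u * u) :
    b ^ a * b ^ a = (u * u) * (b * b) ∧ 3 ≤ m := by
  have hZ := p.hzZ
  have hT := p.two_Z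
  set Z : ℤ := ((2 ^ (m - 1) : ℕ) : ℤ) with hZdef
  have h2 : b ^ (2 * a * (a - 1) - Z) = 1 := by
    rw [sub_eq_add_neg, zpow_add, h1, zpow_neg, hZ]; group
  have h3 := p.dvd_of_pow h2
  obtain ⟨j, hj⟩ : ∃ j, a = 2 * j + 1 := ⟨a / 2, by omega⟩
  have h4 : (2 : ℤ) ^ m ∣ (2 * (a - 1) - Z) * a := by
    have e : (2 * (a - 1) - Z) * a = (2 * a * (a - 1) - Z) - (2 : ℤ) ^ m * j := by
      rw [hT, hj]; ring
    rw [e]
    exact dvd_sub h3 (Dvd.intro _ rfl)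
  have h5 := two_pow_dvd_of_mul m (2 * (a - 1) - Z) a ha h4
  have h6 := p.pow_of_dvd h5
  constructor
  · rw [hZ, ← zpow_add]
    have e : a + a = (2 * (a - 1) - Z) + (Z + (1 + 1)) := by ring
    rw [e, zpow_add, h6, one_mul, zpow_add, zpow_add, zpow_one]
  · by_contra hcon
    have hm2 := p.hm2
    have hm' : m = 2 := by omega
    subst hm'
    have hZ2 : Z = 2 := by rw [hZdef]; norm_num
    rw [hT, hZ2] at h5
    omega

theorem hpowsq (x : X) (k : ℕ) : x ^ (2 ^ (k + 1)) = (x * x) ^ (2 ^ k) := by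
  rw [pow_succ', pow_mul, pow_two]

theorem zodd {a : ℤ} (ha : a % 2 = 1) : (u * u) ^ a = u * u := by
  obtain ⟨j, hj⟩ : ∃ j, a = 2 * j + 1 := ⟨a / 2, by omega⟩
  rw [hj, zpow_add, zpow_mul, zpow_two, p.hz2, one_zpow, one_mul, zpow_one]

theorem zeven {a : ℕ} (ha : a % 2 = 0) : (u * u) ^ a = 1 := by
  obtain ⟨j, hj⟩ : ∃ j, a = 2 * j := ⟨a / 2, by omega⟩
  rw [hj, pow_mul, pow_two, p.hz2, one_pow]

/-- The case when `a` is odd and `y` has order `2|B|`. -/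
theorem pos_A {a : ℤ} (ha : a % 2 = 1) (hyy : y * y = b ^ a ∨ (y * y = b ^ a * u ∧ 3 ≤ m))
    (hβ : y * b * y⁻¹ = b ∨ (y * b * y⁻¹ = (u * u) * b ∧ 3 ≤ m)) : False := by
  have hm1 := p.hm1
  have hm2 := p.hm2
  have hc := p.base.c
  have hu4 : u ^ 4 = 1 := by
    have := pow_orderOf_eq_one u
    rwa [p.base.hu4] at this
  have hbZ : (b ^ a) ^ (2 ^ (m - 1)) = u * u := by
    rw [← zpow_natCast, ← zpow_mul, mul_comm, zpow_mul, zpow_natCast, p.base.z_eq p.hm hm1,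
      p.zodd ha]
  have hm' : m - 1 + 1 = m := by omega
  have hyz : y ^ (2 ^ m) = u * u := by
    rw [← hm', p.hpowsq]
    rcases hyy with h1 | ⟨h1, h3⟩
    · rw [h1]; exact hbZ
    · rw [h1]
      have hcom : Commute (b ^ a) u := (show Commute b u from p.hub.symm).zpow_left a
      rw [hcom.mul_pow, hbZ]
      have hu : u ^ (2 ^ (m - 1)) = 1 := by
        obtain ⟨r, hr⟩ : ∃ r, m - 1 = r + 2 := ⟨m - 3, by omega⟩
        rw [hr, pow_add, mul_comm, pow_mul]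
        norm_num
        rw [hu4, one_pow]
      rw [hu, mul_one]
  have hyord : orderOf y = 2 ^ (m + 1) := by
    haveI : Fact (Nat.Prime 2) := ⟨Nat.prime_two⟩
    refine orderOf_eq_prime_pow (by rw [hyz]; exact p.hzne) ?_
    rw [pow_succ, pow_mul, hyz, pow_two, p.hz2]
  have hMS : Subgroup.zpowers y ≤ S := by
    rw [Subgroup.zpowers_le]; exact p.hyS
  have hMi : (Subgroup.zpowers y).relIndex S = 2 := by
    have h5 := Subgroup.card_mul_index ((Subgroup.zpowers y).subgroupOf S)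
    rw [Nat.card_congr (Subgroup.subgroupOfEquivOfLe hMS).toEquiv, p.base.hcard, p.hm,
      Nat.card_zpowers, hyord] at h5
    change (Subgroup.zpowers y).relIndex S = 2
    have h6 : 2 ^ (m + 1) * (Subgroup.zpowers y).relIndex S = 2 ^ (m + 1) * 2 := by
      rw [show (Subgroup.zpowers y).relIndex S = ((Subgroup.zpowers y).subgroupOf S).index from rfl,
        h5]
      ring
    exact Nat.eq_of_mul_eq_mul_left (by positivity) h6
  have hMinv : ∀ x ∈ Subgroup.zpowers y, x * x = 1 → x = 1 ∨ x = u * u := by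
    intro x hx hxx
    obtain ⟨i, rfl⟩ := Subgroup.mem_zpowers_iff.mp hx
    rw [← zpow_add] at hxx
    have h1 := orderOf_dvd_iff_zpow_eq_one.mpr hxx
    rw [hyord] at h1
    have h2 : (2 : ℤ) ^ m ∣ i := by
      push_cast at h1
      rw [pow_succ] at h1
      have e : i + i = i * 2 := by ring
      rw [e] at h1
      exact (mul_dvd_mul_iff_right (by norm_num)).mp h1
    obtain ⟨q, rfl⟩ := h2
    have hyz' : y ^ ((2 : ℤ) ^ m) = u * u := by
      have : ((2 : ℤ) ^ m) = ((2 ^ m : ℕ) : ℤ) := by push_cast; rfl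
      rw [this, zpow_natCast, hyz]
    rw [zpow_mul, hyz']
    by_cases hq : q % 2 = 1
    · right; exact p.zodd hq
    · left
      obtain ⟨j, hj⟩ : ∃ j, q = 2 * j := ⟨q / 2, by omega⟩
      rw [hj, zpow_mul, zpow_two, p.hz2, one_zpow]
  have hfne1 : u * v⁻¹ ≠ 1 := p.hf_inB (Subgroup.one_mem _) ∘ Eq.symm
  have hfnez : u * v⁻¹ ≠ u * u := p.hf_inB p.hzB ∘ Eq.symm
  have hfM : u * v⁻¹ ∉ Subgroup.zpowers y := fun h1 => by
    rcases hMinv _ h1 p.hff with h2 | h2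
    · exact hfne1 h2
    · exact hfnez h2
  have hford : orderOf (u * v⁻¹) = 2 := orderOf_eq_prime (by rw [pow_two]; exact p.hff) hfne1
  obtain ⟨g, hgL, hg⟩ := hc.T1 _ hMS hMi p.hf_S hford hfM
  have hgf : g * (u * v⁻¹) * g⁻¹ = u * u := by
    have h2 : (g * (u * v⁻¹) * g⁻¹) * (g * (u * v⁻¹) * g⁻¹) = 1 := by
      calc (g * (u * v⁻¹) * g⁻¹) * (g * (u * v⁻¹) * g⁻¹) = g * ((u * v⁻¹) * (u * v⁻¹)) * g⁻¹ := by group
        _ = 1 := by rw [p.hff]; group
    rcases hMinv _ hg h2 with h3 | h3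
    · exfalso
      apply hfne1
      have h4 : u * v⁻¹ = g⁻¹ * (g * (u * v⁻¹) * g⁻¹) * g := by group
      rw [h4, h3]; group
    · exact h3
  -- `v` is central
  have hyv : y * v = v * y := by
    have h1 : y * v * y⁻¹ = v := by
      have h2 : y * v * y⁻¹ = (y * b * y⁻¹) ^ (2 ^ (m - 2)) := by
        rw [p.hv, conj_pow]
      rcases hβ with h3 | ⟨h3, h4⟩
      · rw [h2, h3, p.hv]
      · rw [h2, h3, p.hv]
        have hcom : Commute (u * u) b := (p.hzc p.base.hbS).symm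
        rw [hcom.mul_pow, p.zeven (a := 2 ^ (m - 2)) (by
          obtain ⟨r, hr⟩ : ∃ r, m - 2 = r + 1 := ⟨m - 3, by omega⟩
          rw [hr, pow_succ]; omega), one_mul]
    calc y * v = y * v * y⁻¹ * y := by group
      _ = v * y := by rw [h1]
  have hvc : ∀ s ∈ S, s * v = v * s := by
    intro s hs
    by_cases hsA : s ∈ A
    · exact p.comm_A hsA (p.hBA p.hvB)
    · have h1 := p.comm_A (p.coset hs hsA) (p.hBA p.hvB)
      calc s * v = (s * y⁻¹) * (y * v) := by group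
        _ = (s * y⁻¹) * (v * y) := by rw [hyv]
        _ = ((s * y⁻¹) * v) * y := by group
        _ = (v * (s * y⁻¹)) * y := by rw [h1]
        _ = v * s := by group
  have hScomm := p.comm_S p.hvS hvc p.hvv p.hf_A p.hf_B hgL hgf
  -- a root of `f`
  obtain ⟨a₂, ha₂S, ha₂⟩ := power_root hc p.hf_S (fun s hs => hScomm s hs _ p.hf_S) hgL hgf
    (hc.hSL p.base.huS) (x := u) (j := 1) (k := 2) (by rw [pow_one, pow_two]) (by
      norm_num; exact hu4)
  rw [pow_one, pow_two] at ha₂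
  by_cases ha₂A : a₂ ∈ A
  · have h1 := p.A_sq_B ha₂A
    rw [ha₂] at h1
    exact p.hf_B h1
  · have h1 := p.coset ha₂S ha₂A
    set x₁ := a₂ * y⁻¹ with hx₁
    have hax : a₂ = x₁ * y := by rw [hx₁]; group
    have hxyc := hScomm _ (p.hAS h1) _ p.hyS
    have h2 : a₂ * a₂ = (x₁ * x₁) * (y * y) := by
      rw [hax]
      calc x₁ * y * (x₁ * y) = x₁ * (y * x₁) * y := by group
        _ = x₁ * (x₁ * y) * y := by rw [hxyc]
        _ = (x₁ * x₁) * (y * y) := by group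
    obtain ⟨q, hq, hqq⟩ := p.A_sq h1
    rcases hyy with h3 | ⟨h3, h4⟩
    · apply p.hf_B
      rw [← ha₂, h2, hqq, h3]
      exact (Subgroup.zpowers b).mul_mem ((Subgroup.zpowers b).mul_mem hq hq)
        (Subgroup.zpow_mem_zpowers b a)
    · -- parity
      obtain ⟨i, rfl⟩ := Subgroup.mem_zpowers_iff.mp hq
      rw [h2, hqq, h3] at ha₂
      obtain ⟨r, hr⟩ : ∃ r, m - 2 = r + 1 := ⟨m - 3, by omega⟩
      set N : ℤ := ((2 ^ (m - 2) : ℕ) : ℤ) with hN
      have hN2 : N % 2 = 0 := by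
        rw [hN, hr, pow_succ]
        push_cast
        omega
      have hvN : v = b ^ N := by
        rw [p.hv, hN, zpow_natCast]
      have h5 : b ^ i * b ^ i * (b ^ a * u) = v⁻¹ * u := by
        rw [ha₂]
        exact p.hbu ((Subgroup.zpowers b).inv_mem p.hvB)
      have h6 : b ^ i * b ^ i * b ^ a = v⁻¹ := by
        have h7 : (b ^ i * b ^ i * b ^ a) * u = v⁻¹ * u := by rw [mul_assoc]; exact h5
        exact mul_right_cancel h7
      have h7 : b ^ (i + i + a + N) = 1 := by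
        rw [zpow_add, zpow_add, zpow_add, h6, hvN]; group
      exact p.base.zpow_odd_ne p.hm hm1 (a := i + i + a + N) (by omega) h7

end Pos

end Cfsg.Agent.Lib.CycFourC
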