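import Mathlib
import Cfsg.Agent.Lib.CycFourF

/-!
# The case when `u` centralizes `B` and `y` inverts `B` modulo `z`
-/

set_option autoImplicit false

namespace Cfsg.Agent.Lib.CycFourC

open Cfsg.Agent.Lib Cfsg.Agent.Lib.CycFourA

variable {X : Type*} [Group X] [Finite X] {L S : Subgroup X} {t u b : X}

namespace Pos

variable {A : Subgroup X} {y w : X} {m : ℕ} {v : X} (p : Pos L S t u b A y w m v)
include p

theorem yinvB (hβ : y * b * y⁻¹ = b⁻¹) {x : X} (hx : x ∈ Subgroup.zpowers b) : y * x * y⁻¹ = x⁻¹ := by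
  obtain ⟨i, rfl⟩ := Subgroup.mem_zpowers_iff.mp hx
  rw [← conj_zpow, hβ, inv_zpow]

theorem binv_ne : b⁻¹ ≠ b := by
  intro h1
  apply p.hbbne
  calc b * b = b * b⁻¹ := by rw [h1]
    _ = 1 := by group

/-- A quaternion-like subgroup of index two forces `f` to fuse to `z`. -/
theorem fuse_of_quat {y' : X} (hy'S : y' ∈ S) (hy'A : y' ∉ A) (hy'y' : y' * y' = u * u)
    (hy'B : ∀ x ∈ Subgroup.zpowers b, y' * x * y'⁻¹ = x⁻¹) :
    ∃ g ∈ L, g * (u * v⁻¹) * g⁻¹ = u * u := by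
  have hc := p.base.c
  have hy'Bn : y' ∉ Subgroup.zpowers b := fun h1 => hy'A (p.hBA h1)
  obtain ⟨Q, hQ1, hQS, hQi, hQ2, hQ3⟩ := p.base.exists_Q hy'S (by rw [hy'y']; exact p.hzB) hy'Bn
  have hQinv : ∀ x ∈ Q, x * x = 1 → x = 1 ∨ x = u * u := by
    intro x hx hxx
    rcases (hQ1 x).mp hx with h1 | h1
    · exact p.base.invol_B h1 hxx
    · exfalso
      set x₀ := x * y'⁻¹ with hx₀
      have hxe : x = x₀ * y' := by rw [hx₀]; group
      apply p.hzne
      have h2 := hy'B x₀ h1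
      rw [← hxx, ← hy'y', hxe]
      calc y' * y' = x₀ * x₀⁻¹ * (y' * y') := by group
        _ = x₀ * (y' * x₀ * y'⁻¹) * (y' * y') := by rw [h2]
        _ = x₀ * y' * (x₀ * y') := by group
  have hfne1 : u * v⁻¹ ≠ 1 := p.hf_inB (Subgroup.one_mem _) ∘ Eq.symm
  have hfnez : u * v⁻¹ ≠ u * u := p.hf_inB p.hzB ∘ Eq.symm
  have hfQ : u * v⁻¹ ∉ Q := fun h1 => by
    rcases hQinv _ h1 p.hff with h2 | h2
    · exact hfne1 h2
    · exact hfnez h2
  have hford : orderOf (u * v⁻¹) = 2 := orderOf_eq_prime (by rw [pow_two]; exact p.hff) hfne1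
  obtain ⟨g, hgL, hg⟩ := hc.T1 Q hQS hQi p.hf_S hford hfQ
  refine ⟨g, hgL, ?_⟩
  have h2 : (g * (u * v⁻¹) * g⁻¹) * (g * (u * v⁻¹) * g⁻¹) = 1 := by
    calc (g * (u * v⁻¹) * g⁻¹) * (g * (u * v⁻¹) * g⁻¹) = g * ((u * v⁻¹) * (u * v⁻¹)) * g⁻¹ := by group
      _ = 1 := by rw [p.hff]; group
  rcases hQinv _ hg h2 with h3 | h3
  · exfalso
    apply hfne1
    have h4 : u * v⁻¹ = g⁻¹ * (g * (u * v⁻¹) * g⁻¹) * g := by group
    rw [h4, h3]; group
  · exact h3

/-- Case `y² ∈ {1, z}` with `u` central. -/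
theorem pos_B1a (hβ : y * b * y⁻¹ = b⁻¹) (hyy : y * y = 1 ∨ y * y = u * u) (hw1 : w = 1) : False := by
  have hyu' : y * u = u * y := by
    calc y * u = y * u * y⁻¹ * y := by group
      _ = u * y := by rw [p.hyu, hw1]; group
  have huc : ∀ s ∈ S, s * u = u * s := by
    intro s hs
    by_cases hsA : s ∈ A
    · exact p.comm_A hsA p.huA
    · have h1 := p.comm_A (p.coset hs hsA) p.huA
      calc s * u = (s * y⁻¹) * (y * u) := by group
        _ = (s * y⁻¹) * (u * y) := by rw [hyu']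
        _ = ((s * y⁻¹) * u) * y := by group
        _ = (u * (s * y⁻¹)) * y := by rw [h1]
        _ = u * s := by group
  obtain ⟨g, hgL, hg⟩ : ∃ g ∈ L, g * (u * v⁻¹) * g⁻¹ = u * u := by
    rcases hyy with h1 | h1
    · refine p.fuse_of_quat (y' := y * u) (S.mul_mem p.hyS p.base.huS) ?_ ?_ ?_
      · intro h2
        apply p.hyA
        have h3 := A.mul_mem h2 (A.inv_mem p.huA)
        simpa using h3
      · calc y * u * (y * u) = y * (u * y) * u := by group
          _ = y * (y * u) * u := by rw [hyu']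
          _ = (y * y) * (u * u) := by group
          _ = u * u := by rw [h1]; group
      · intro x hx
        have h2 := p.yinvB hβ hx
        have h3 := p.hbu hx
        calc y * u * x * (y * u)⁻¹ = y * (u * x) * u⁻¹ * y⁻¹ := by group
          _ = y * (x * u) * u⁻¹ * y⁻¹ := by rw [h3]
          _ = y * x * y⁻¹ := by group
          _ = x⁻¹ := h2
    · exact p.fuse_of_quat p.hyS p.hyA h1 (fun x hx => p.yinvB hβ hx)
  have hS := p.comm_S p.base.huS huc rfl p.hf_A p.hf_B hgL hg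
  have h1 := hS y p.hyS b p.base.hbS
  apply p.binv_ne
  rw [← hβ, h1]
  group

/-- Case `y² ∈ {1, z}` with `y` inverting `A`. -/
theorem pos_B1b (hβ : y * b * y⁻¹ = b⁻¹) (hyy : y * y = 1 ∨ y * y = u * u) (hw1 : w = u * u) :
    False := by
  have hc := p.base.c
  have hzS := p.zS
  have hz2 := p.hz2
  have hzzc := fun s hs => p.hzc (s := s) hs
  have hzinv := p.hzinv
  have hzB := p.hzB
  have hzne := p.hzne
  have huS := p.base.huS
  have hyS := p.hyS
  have hyA := p.hyA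
  have hbB : b ∈ Subgroup.zpowers b := Subgroup.mem_zpowers b
  have hyB := fun x (hx : x ∈ Subgroup.zpowers b) => p.yinvB hβ hx
  have hyu : y * u * y⁻¹ = u⁻¹ := by
    rw [p.hyu, hw1]
    apply eq_inv_of_mul_eq_one_left
    calc u * u * u * u = (u * u) * (u * u) := by group
      _ = 1 := hz2
  -- `y` inverts `A`
  have hyinv : ∀ x ∈ A, y * x * y⁻¹ = x⁻¹ := by
    intro x hx
    rcases (p.hA x).mp hx with h1 | h1
    · exact hyB x h1
    · set x₀ := x * u⁻¹ with hx₀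
      have hxe : x = x₀ * u := by rw [hx₀]; group
      rw [hxe]
      calc y * (x₀ * u) * y⁻¹ = (y * x₀ * y⁻¹) * (y * u * y⁻¹) := by group
        _ = x₀⁻¹ * u⁻¹ := by rw [hyB x₀ h1, hyu]
        _ = (u * x₀)⁻¹ := by group
        _ = (x₀ * u)⁻¹ := by rw [p.hbu h1]
  have hsq : ∀ s ∈ S, s ∉ A → s * s = y * y := by
    intro s hs hsA
    have h1 := p.coset hs hsA
    have h2 := hyinv _ h1
    set x := s * y⁻¹ with hx
    have hse : s = x * y := by rw [hx]; group
    rw [hse]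
    calc x * y * (x * y) = x * (y * x * y⁻¹) * (y * y) := by group
      _ = y * y := by rw [h2]; group
  have hyyB : y * y ∈ Subgroup.zpowers b := by
    rcases hyy with h1 | h1
    · rw [h1]; exact Subgroup.one_mem _
    · rw [h1]; exact hzB
  -- involutions of `A` are central
  have hcen : ∀ x ∈ A, x * x = 1 → ∀ s ∈ S, s * x = x * s := by
    intro x hx hxx s hs
    have hxinv : x⁻¹ = x := inv_eq_of_mul_eq_one_left hxx
    have hyx : y * x = x * y := by
      calc y * x = y * x * y⁻¹ * y := by group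
        _ = x * y := by rw [hyinv x hx, hxinv]
    by_cases hsA : s ∈ A
    · exact p.comm_A hsA hx
    · have h1 := p.comm_A (p.coset hs hsA) hx
      calc s * x = (s * y⁻¹) * (y * x) := by group
        _ = (s * y⁻¹) * (x * y) := by rw [hyx]
        _ = ((s * y⁻¹) * x) * y := by group
        _ = (x * (s * y⁻¹)) * y := by rw [h1]
        _ = x * s := by group
  -- (i)
  have hu4 : u ^ 2 ^ 2 = 1 := by
    have := pow_orderOf_eq_one u
    rw [p.base.hu4] at this
    exact this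
  have hi : ∀ f' ∈ A, f' ∉ Subgroup.zpowers b → f' * f' = 1 → ∀ g ∈ L, g * f' * g⁻¹ ≠ u * u := by
    intro f' hf'A hf'B hf'f' g hgL hgf
    obtain ⟨a₂, ha₂S, ha₂⟩ := power_root hc (p.hAS hf'A) (hcen f' hf'A hf'f') hgL hgf
      (hc.hSL huS) (x := u) (j := 1) (k := 2) (by rw [pow_one, pow_two]) hu4
    rw [pow_one, pow_two] at ha₂
    apply hf'B
    rw [← ha₂]
    by_cases ha₂A : a₂ ∈ A
    · exact p.A_sq_B ha₂A
    · rw [hsq a₂ ha₂S ha₂A]
      exact hyyB
  set f := u * v⁻¹ with hf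
  set fz := f * (u * u) with hfz
  have hff : f * f = 1 := p.hff
  have hfzfz : fz * fz = 1 := p.hfzfz
  have hfA : f ∈ A := p.hf_A
  have hfzA : fz ∈ A := p.hfz_A
  have hfB : f ∉ Subgroup.zpowers b := p.hf_B
  have hfzB : fz ∉ Subgroup.zpowers b := p.hfz_B
  have hfne1 : f ≠ 1 := fun h1 => hfB (h1 ▸ Subgroup.one_mem _)
  have hfzne1 : fz ≠ 1 := fun h1 => hfzB (h1 ▸ Subgroup.one_mem _)
  have hfnefz : f ≠ fz := by
    intro h1
    apply hzne
    have h2 : f * (u * u) = f * 1 := by rw [mul_one]; exact h1.symm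
    exact mul_left_cancel h2
  rcases hyy with hyy1 | hyyz
  swap
  · obtain ⟨g, hgL, hg⟩ := p.fuse_of_quat hyS hyA hyyz hyB
    exact hi f hfA hfB hff g hgL hg
  -- central elements lie in `A`
  have hbi : b⁻¹ ∈ Subgroup.zpowers b := (Subgroup.zpowers b).inv_mem hbB
  have hcA : ∀ x ∈ S, (∀ s ∈ S, s * x = x * s) → x ∈ A := by
    intro x hx hxc
    by_contra hxA
    have h1 := p.coset hx hxA
    set x₁ := x * y⁻¹ with hx₁
    have hxe : x = x₁ * y := by rw [hx₁]; group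
    apply p.binv_ne
    have h2 : x * b * x⁻¹ = b := by rw [← hxc b p.base.hbS]; group
    have h3 : x * b * x⁻¹ = b⁻¹ := by
      rw [hxe]
      calc x₁ * y * b * (x₁ * y)⁻¹ = x₁ * (y * b * y⁻¹) * x₁⁻¹ := by group
        _ = x₁ * b⁻¹ * x₁⁻¹ := by rw [hβ]
        _ = b⁻¹ * x₁ * x₁⁻¹ := by rw [p.comm_A h1 (p.hBA hbi)]
        _ = b⁻¹ := by group
    rw [← h3, h2]
  have hfc := hcen f hfA hff
  have hfzc := hcen fz hfzA hfzfz
  -- (ii)
  have hii : ∀ g ∈ L, g * f * g⁻¹ ≠ fz := by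
    intro g hgL hgf
    obtain ⟨g', hg'L, hg'1, hg'2⟩ := hc.Z (p.hAS hfA) hfc hgL S hc.hSL hc.hS2 (by
      intro r hr; rw [hgf]; exact hfzc r hr)
    rw [hgf] at hg'1
    set n := g'⁻¹ with hn
    have hnL : n ∈ L := L.inv_mem hg'L
    have hnS : ∀ s ∈ S, n * s * n⁻¹ ∈ S := by
      intro s hs
      have := hg'2 s hs
      rw [hn, inv_inv]; exact this
    have hnfz : n * fz * n⁻¹ = f := by
      rw [← hg'1, hn]; group
    have hsurj : ∀ s ∈ S, ∃ s' ∈ S, n * s' * n⁻¹ = s := by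
      have hinj : Function.Injective (fun x : S => (⟨n * x * n⁻¹, hnS x x.2⟩ : S)) := by
        intro a b' hab
        have h0 : n * (a : X) * n⁻¹ = n * (b' : X) * n⁻¹ := congrArg Subtype.val hab
        exact Subtype.ext (by simpa using h0)
      have h := Finite.surjective_of_injective hinj
      intro s hs
      obtain ⟨a, ha⟩ := h ⟨s, hs⟩
      exact ⟨a, a.2, congrArg Subtype.val ha⟩
    set f₃ := n * f * n⁻¹ with hf₃
    have hf₃S : f₃ ∈ S := hnS f (p.hAS hfA)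
    have hf₃c : ∀ s ∈ S, s * f₃ = f₃ * s := by
      intro s hs
      obtain ⟨s', hs', rfl⟩ := hsurj s hs
      have h1 := hfc s' hs'
      calc n * s' * n⁻¹ * f₃ = n * (s' * f) * n⁻¹ := by rw [hf₃]; group
        _ = n * (f * s') * n⁻¹ := by rw [h1]
        _ = f₃ * (n * s' * n⁻¹) := by rw [hf₃]; group
    have hf₃A := hcA f₃ hf₃S hf₃c
    have hf₃f₃ : f₃ * f₃ = 1 := by
      rw [hf₃]
      calc n * f * n⁻¹ * (n * f * n⁻¹) = n * (f * f) * n⁻¹ := by group
        _ = 1 := by rw [hff]; group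
    have hnf : f₃ = fz := by
      rcases p.invol_A hf₃A hf₃f₃ with h1 | h1 | h1 | h1
      · exfalso
        apply hfne1
        have h2 : f = n⁻¹ * f₃ * n := by rw [hf₃]; group
        rw [h2, h1]; group
      · exact absurd h1 (hi f hfA hfB hff n hnL)
      · exfalso
        apply hfnefz
        have h2 : n * f * n⁻¹ = n * fz * n⁻¹ := by rw [hnfz]; exact h1
        simpa using h2
      · exact h1
    have hkey : ∀ N : X, N * f * N⁻¹ = f → (N * n * n) * f * (N * n * n)⁻¹ = f := by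
      intro N hN
      calc N * n * n * f * (N * n * n)⁻¹ = N * (n * (n * f * n⁻¹) * n⁻¹) * N⁻¹ := by group
        _ = N * (n * fz * n⁻¹) * N⁻¹ := by rw [← hf₃, hnf]
        _ = N * f * N⁻¹ := by rw [hnfz]
        _ = f := hN
    have hpow2 : ∀ k : ℕ, (n ^ (2 * k)) * f * (n ^ (2 * k))⁻¹ = f := by
      intro k
      induction k with
      | zero => simp
      | succ k ih =>
        have e : n ^ (2 * (k + 1)) = n ^ (2 * k) * n * n := by
          rw [Nat.mul_succ, pow_add, pow_two, mul_assoc]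
        rw [e]
        exact hkey _ ih
    have hnorm : ∀ k : ℕ, ∀ s ∈ S, n ^ k * s * (n ^ k)⁻¹ ∈ S := by
      intro k
      induction k with
      | zero => intro s hs; simpa using hs
      | succ k ih =>
        intro s hs
        have h1 := ih _ (hnS s hs)
        have e : n ^ (k + 1) = n ^ k * n := pow_succ n k
        rw [e]
        have e2 : n ^ k * n * s * (n ^ k * n)⁻¹ = n ^ k * (n * s * n⁻¹) * (n ^ k)⁻¹ := by
          simp only [mul_inv_rev, mul_assoc]
        rw [e2]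
        exact h1
    obtain ⟨i, q, hq, hord⟩ := Nat.exists_eq_two_pow_mul_odd (orderOf_pos n).ne'
    obtain ⟨k, hk⟩ := hq
    have hr2 : (n ^ q) ^ (2 ^ i) = 1 := by
      rw [← pow_mul, mul_comm, ← hord]
      exact pow_orderOf_eq_one n
    have hrL : n ^ q ∈ L := L.pow_mem hnL q
    have hrS := hc.mem_of_normalizes hrL hr2 (hnorm q)
    have hrf : n ^ q * f * (n ^ q)⁻¹ = fz := by
      have e : n ^ q = n * n ^ (2 * k) := by rw [hk, pow_succ']
      rw [e]
      have h1 := hpow2 k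
      calc n * n ^ (2 * k) * f * (n * n ^ (2 * k))⁻¹
          = n * (n ^ (2 * k) * f * (n ^ (2 * k))⁻¹) * n⁻¹ := by
            simp only [mul_inv_rev, mul_assoc]
        _ = n * f * n⁻¹ := by rw [h1]
        _ = fz := hnf
    apply hfnefz
    rw [← hrf, hfc _ hrS]
    group
  -- Claim C
  have hC : ∀ r₀ ∈ S, r₀ ∉ A → r₀ * r₀ = 1 →
      ∃ c₀, (c₀ = f ∨ c₀ = fz) ∧ ∃ g ∈ L, g * c₀ * g⁻¹ = r₀ := by
    intro r₀ hr₀S hr₀A hr₀r₀
    have h1 := p.coset hr₀S hr₀A
    have hr₀B : r₀ ∉ Subgroup.zpowers b := fun h2 => hr₀A (p.hBA h2)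
    have hr₀inv : ∀ x ∈ Subgroup.zpowers b, r₀ * x * r₀⁻¹ = x⁻¹ := by
      intro x hx
      set x₁ := r₀ * y⁻¹ with hx₁
      have hxe : r₀ = x₁ * y := by rw [hx₁]; group
      rw [hxe]
      calc x₁ * y * x * (x₁ * y)⁻¹ = x₁ * (y * x * y⁻¹) * x₁⁻¹ := by group
        _ = x₁ * x⁻¹ * x₁⁻¹ := by rw [hyB x hx]
        _ = x⁻¹ * x₁ * x₁⁻¹ := by rw [p.comm_A h1 (p.hBA ((Subgroup.zpowers b).inv_mem hx))]
        _ = x⁻¹ := by group
    obtain ⟨Q, hQ1, hQS, hQi, hQ2, hQ3⟩ := p.base.exists_Q hr₀S (by rw [hr₀r₀]; exact Subgroup.one_mem _) hr₀B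
    have hfus : ∀ f' ∈ A, f' ∉ Subgroup.zpowers b → f' * f' = 1 →
        ∃ g ∈ L, ∃ i : ℤ, g * f' * g⁻¹ = b ^ i * r₀ := by
      intro f' hf'A hf'B hf'f'
      have hf'ne : f' ≠ 1 := fun h2 => hf'B (h2 ▸ Subgroup.one_mem _)
      have hord : orderOf f' = 2 := orderOf_eq_prime (by rw [pow_two]; exact hf'f') hf'ne
      have hf'Q : f' ∉ Q := by
        intro h2
        rcases (hQ1 f').mp h2 with h3 | h3
        · exact hf'B h3
        · apply hr₀A
          have h4 := A.mul_mem (A.inv_mem (p.hBA h3)) hf'A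
          have e : (f' * r₀⁻¹)⁻¹ * f' = r₀ := by group
          rwa [e] at h4
      obtain ⟨g, hgL, hg⟩ := hc.T1 Q hQS hQi (p.hAS hf'A) hord hf'Q
      refine ⟨g, hgL, ?_⟩
      have h2 : (g * f' * g⁻¹) * (g * f' * g⁻¹) = 1 := by
        calc (g * f' * g⁻¹) * (g * f' * g⁻¹) = g * (f' * f') * g⁻¹ := by group
          _ = 1 := by rw [hf'f']; group
      rcases (hQ1 _).mp hg with h3 | h3
      · exfalso
        rcases p.base.invol_B h3 h2 with h4 | h4
        · apply hf'ne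
          have h5 : f' = g⁻¹ * (g * f' * g⁻¹) * g := by group
          rw [h5, h4]; group
        · exact hi f' hf'A hf'B hf'f' g hgL h4
      · obtain ⟨i, hi'⟩ := Subgroup.mem_zpowers_iff.mp h3
        refine ⟨i, ?_⟩
        rw [hi']; group
    have hconj : ∀ i j : ℤ, b ^ j * (b ^ i * r₀) * (b ^ j)⁻¹ = b ^ (i + j + j) * r₀ := by
      intro i j
      have h2 := hr₀inv (b ^ j)⁻¹ ((Subgroup.zpowers b).inv_mem (Subgroup.zpow_mem_zpowers b j))
      rw [inv_inv] at h2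
      calc b ^ j * (b ^ i * r₀) * (b ^ j)⁻¹ = b ^ j * b ^ i * (r₀ * (b ^ j)⁻¹ * r₀⁻¹) * r₀ := by
            simp only [mul_assoc, inv_mul_cancel, mul_one]
        _ = b ^ j * b ^ i * b ^ j * r₀ := by rw [h2]
        _ = b ^ (i + j + j) * r₀ := by
            rw [zpow_add, zpow_add]
            have hcm : b ^ j * b ^ i = b ^ i * b ^ j := by
              rw [← zpow_add, ← zpow_add, add_comm]
            rw [hcm]
    obtain ⟨g₁, hg₁L, i₁, hg₁⟩ := hfus f hfA hfB hff
    obtain ⟨g₂, hg₂L, i₂, hg₂⟩ := hfus fz hfzA hfzB hfzfz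
    by_cases hpar : (i₁ - i₂) % 2 = 0
    · exfalso
      set j := (i₂ - i₁) / 2 with hj
      have hij : i₁ + j + j = i₂ := by omega
      have hbjL : b ^ j ∈ L := hc.hSL (S.zpow_mem p.base.hbS j)
      apply hii (g₂⁻¹ * (b ^ j * g₁)) (L.mul_mem (L.inv_mem hg₂L) (L.mul_mem hbjL hg₁L))
      calc g₂⁻¹ * (b ^ j * g₁) * f * (g₂⁻¹ * (b ^ j * g₁))⁻¹
          = g₂⁻¹ * (b ^ j * (g₁ * f * g₁⁻¹) * (b ^ j)⁻¹) * g₂ := by
            simp only [mul_inv_rev, inv_inv, mul_assoc]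
        _ = g₂⁻¹ * (b ^ i₂ * r₀) * g₂ := by rw [hg₁, hconj, hij]
        _ = g₂⁻¹ * (g₂ * fz * g₂⁻¹) * g₂ := by rw [hg₂]
        _ = fz := by group
    · by_cases hpar1 : i₁ % 2 = 0
      · set j := -i₁ / 2 with hj
        have hij : i₁ + j + j = 0 := by omega
        have hbjL : b ^ j ∈ L := hc.hSL (S.zpow_mem p.base.hbS j)
        refine ⟨f, Or.inl rfl, b ^ j * g₁, L.mul_mem hbjL hg₁L, ?_⟩
        calc b ^ j * g₁ * f * (b ^ j * g₁)⁻¹ = b ^ j * (g₁ * f * g₁⁻¹) * (b ^ j)⁻¹ := by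
              simp only [mul_inv_rev, mul_assoc]
          _ = r₀ := by rw [hg₁, hconj, hij]; simp
      · have hpar2 : i₂ % 2 = 0 := by omega
        set j := -i₂ / 2 with hj
        have hij : i₂ + j + j = 0 := by omega
        have hbjL : b ^ j ∈ L := hc.hSL (S.zpow_mem p.base.hbS j)
        refine ⟨fz, Or.inr rfl, b ^ j * g₂, L.mul_mem hbjL hg₂L, ?_⟩
        calc b ^ j * g₂ * fz * (b ^ j * g₂)⁻¹ = b ^ j * (g₂ * fz * g₂⁻¹) * (b ^ j)⁻¹ := by
              simp only [mul_inv_rev, mul_assoc]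
          _ = r₀ := by rw [hg₂, hconj, hij]; simp
  -- final step
  obtain ⟨c₀, hc₀, g, hgL, hgc⟩ := hC y hyS hyA hyy1
  have hc₀A : c₀ ∈ A := by
    rcases hc₀ with rfl | rfl
    · exact hfA
    · exact hfzA
  have hc₀B : c₀ ∉ Subgroup.zpowers b := by
    rcases hc₀ with rfl | rfl
    · exact hfB
    · exact hfzB
  have hc₀c₀ : c₀ * c₀ = 1 := by
    rcases hc₀ with rfl | rfl
    · exact hff
    · exact hfzfz
  have hZZ : ∀ x ∈ Subgroup.zpowers (u * u), x = 1 ∨ x = u * u := by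
    intro x hx
    have hle : Subgroup.zpowers (u * u) ≤ Subgroup.zpowers b := by
      rw [Subgroup.zpowers_le]; exact hzB
    obtain ⟨i, rfl⟩ := Subgroup.mem_zpowers_iff.mp hx
    apply p.base.invol_B (hle hx)
    rw [← zpow_add, ← two_mul, zpow_mul, zpow_two, hz2, one_zpow]
  have hzord : orderOf (u * u) = 2 := orderOf_eq_prime (by rw [pow_two]; exact hz2) hzne
  have hyZ : y ∉ Subgroup.zpowers (u * u) := fun h1 => by
    apply hyA
    rcases hZZ y h1 with h2 | h2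
    · rw [h2]; exact A.one_mem
    · rw [h2]; exact p.hBA hzB
  have hyzc : y * (u * u) = (u * u) * y := hzzc y hyS
  obtain ⟨E, hE1, hE2, hE3, hE4⟩ := mk2 (Subgroup.zpowers (u * u)) y (by
    intro x hx
    rcases hZZ x hx with rfl | rfl
    · simp
    · rw [hyzc]
      simpa using Subgroup.mem_zpowers (u * u)) (by rw [hyy1]; exact Subgroup.one_mem _) hyZ
  rw [Nat.card_zpowers, hzord] at hE2
  have hE : ∀ e ∈ E, e = 1 ∨ e = u * u ∨ e = y ∨ e = (u * u) * y := by
    intro e he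
    rcases (hE1 e).mp he with h1 | h1
    · rcases hZZ e h1 with h2 | h2
      · exact Or.inl h2
      · exact Or.inr (Or.inl h2)
    · rcases hZZ _ h1 with h2 | h2
      · right; right; left
        exact mul_inv_eq_one.mp h2
      · right; right; right
        exact mul_inv_eq_iff_eq_mul.mp h2
  have hES : E ≤ S := by
    intro e he
    rcases hE e he with rfl | rfl | rfl | rfl
    · exact S.one_mem
    · exact hzS
    · exact hyS
    · exact S.mul_mem hzS hyS
  have hEy : ∀ e ∈ E, e * y = y * e := by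
    intro e he
    rcases hE e he with rfl | rfl | rfl | rfl
    · simp
    · exact hyzc.symm
    · rfl
    · calc (u * u) * y * y = (y * (u * u)) * y := by rw [hyzc]
        _ = y * ((u * u) * y) := by group
  have hE2g : IsPGroup 2 E := hc.hS2.to_le hES
  obtain ⟨g', hg'L, hg'1, hg'2⟩ := hc.Z (p.hAS hc₀A) (hcen c₀ hc₀A hc₀c₀) hgL E (hES.trans hc.hSL) hE2g
    (by intro r hr; rw [hgc]; exact hEy r hr)
  rw [hgc] at hg'1
  have hzE : u * u ∈ E := hE3 (Subgroup.mem_zpowers _)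
  set z₁ := g'⁻¹ * (u * u) * g' with hz₁
  have hz₁S : z₁ ∈ S := hg'2 _ hzE
  have hz₁z₁ : z₁ * z₁ = 1 := by
    rw [hz₁]
    calc g'⁻¹ * (u * u) * g' * (g'⁻¹ * (u * u) * g') = g'⁻¹ * ((u * u) * (u * u)) * g' := by group
      _ = 1 := by rw [hz2]; group
  have hz₁ne : z₁ ≠ 1 := by
    intro h1
    apply hzne
    have h2 : u * u = g' * z₁ * g'⁻¹ := by rw [hz₁]; group
    rw [h2, h1]; group
  have hg'z₁ : g' * z₁ * g'⁻¹ = u * u := by rw [hz₁]; group
  have hz₁z : z₁ = u * u := by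
    by_cases hz₁A : z₁ ∈ A
    · rcases p.invol_A hz₁A hz₁z₁ with h1 | h1 | h1 | h1
      · exact absurd h1 hz₁ne
      · exact h1
      · exfalso
        apply hi f hfA hfB hff g' hg'L
        have h2 : z₁ = f := h1
        rw [← h2]; exact hg'z₁
      · exfalso
        apply hi fz hfzA hfzB hfzfz g' hg'L
        have h2 : z₁ = fz := h1
        rw [← h2]; exact hg'z₁
    · exfalso
      obtain ⟨c₁, hc₁, g₁, hg₁L, hg₁⟩ := hC z₁ hz₁S hz₁A hz₁z₁
      have hc₁A : c₁ ∈ A := by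
        rcases hc₁ with rfl | rfl
        · exact hfA
        · exact hfzA
      have hc₁B : c₁ ∉ Subgroup.zpowers b := by
        rcases hc₁ with rfl | rfl
        · exact hfB
        · exact hfzB
      have hc₁c₁ : c₁ * c₁ = 1 := by
        rcases hc₁ with rfl | rfl
        · exact hff
        · exact hfzfz
      apply hi c₁ hc₁A hc₁B hc₁c₁ (g' * g₁) (L.mul_mem hg'L hg₁L)
      calc g' * g₁ * c₁ * (g' * g₁)⁻¹ = g' * (g₁ * c₁ * g₁⁻¹) * g'⁻¹ := by group
        _ = g' * z₁ * g'⁻¹ := by rw [hg₁]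
        _ = u * u := hg'z₁
  have hg'z : g' * (u * u) * g'⁻¹ = u * u := by
    rw [← hz₁z]
    rw [hz₁z]
    rw [hz₁z] at hg'z₁
    exact hg'z₁
  have hvB := p.hvB
  have hyv : y * v = v⁻¹ * y := by
    calc y * v = y * v * y⁻¹ * y := by group
      _ = v⁻¹ * y := by rw [hyB v hvB]
  have hvy : v * ((u * u) * y) * v⁻¹ = y := by
    have hvv := p.hvv
    have hvz : (u * u) * v⁻¹ = v := by
      calc (u * u) * v⁻¹ = (v * v) * v⁻¹ := by rw [hvv]
        _ = v := by group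
    have hyvi : y * v⁻¹ = v * y := by
      have h1 := hyB v⁻¹ ((Subgroup.zpowers b).inv_mem hvB)
      rw [inv_inv] at h1
      calc y * v⁻¹ = y * v⁻¹ * y⁻¹ * y := by group
        _ = v * y := by rw [h1]
    calc v * ((u * u) * y) * v⁻¹ = v * (u * u) * (y * v⁻¹) := by group
      _ = v * (u * u) * (v * y) := by rw [hyvi]
      _ = (v * v) * (u * u) * y := by
          have := p.hzc p.hvS
          calc v * (u * u) * (v * y) = v * ((u * u) * v) * y := by group
            _ = v * (v * (u * u)) * y := by rw [this]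
            _ = (v * v) * (u * u) * y := by group
      _ = y := by rw [hvv, hz2]; group
  set g₅ := g'⁻¹ * v * g' with hg₅
  have hg₅L : g₅ ∈ L := L.mul_mem (L.mul_mem (L.inv_mem hg'L) (hc.hSL p.hvS)) hg'L
  have hg₅1 : g₅ * (c₀ * (u * u)) * g₅⁻¹ = c₀ := by
    have h1 : g' * (c₀ * (u * u)) * g'⁻¹ = (u * u) * y := by
      calc g' * (c₀ * (u * u)) * g'⁻¹ = (g' * c₀ * g'⁻¹) * (g' * (u * u) * g'⁻¹) := by group
        _ = y * (u * u) := by rw [hg'1, hg'z]
        _ = (u * u) * y := hyzc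
    rw [hg₅]
    calc g'⁻¹ * v * g' * (c₀ * (u * u)) * (g'⁻¹ * v * g')⁻¹
        = g'⁻¹ * (v * (g' * (c₀ * (u * u)) * g'⁻¹) * v⁻¹) * g' := by group
      _ = g'⁻¹ * (v * ((u * u) * y) * v⁻¹) * g' := by rw [h1]
      _ = g'⁻¹ * y * g' := by rw [hvy]
      _ = g'⁻¹ * (g' * c₀ * g'⁻¹) * g' := by rw [hg'1]
      _ = c₀ := by group
  rcases hc₀ with rfl | rfl
  · apply hii g₅⁻¹ (L.inv_mem hg₅L)
    calc g₅⁻¹ * f * g₅⁻¹⁻¹ = g₅⁻¹ * (g₅ * (f * (u * u)) * g₅⁻¹) * g₅⁻¹⁻¹ := by rw [hg₅1]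
      _ = f * (u * u) := by group
  · apply hii g₅ hg₅L
    have e : fz * (u * u) = f := by
      rw [hfz]
      calc f * (u * u) * (u * u) = f * ((u * u) * (u * u)) := by group
        _ = f := by rw [hz2]; group
    rw [e] at hg₅1
    exact hg₅1

end Pos

end Cfsg.Agent.Lib.CycFourC
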