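import Mathlib
import Cfsg.Agent.Lib.CycFourG

/-!
# The case when `u` centralizes `B`: the cases with `y²` outside `B`
-/

set_option autoImplicit false

namespace Cfsg.Agent.Lib.CycFourC

open Cfsg.Agent.Lib Cfsg.Agent.Lib.CycFourA

variable {X : Type*} [Group X] [Finite X] {L S : Subgroup X} {t u b : X}

namespace Pos

variable {A : Subgroup X} {y w : X} {m : ℕ} {v : X} (p : Pos L S t u b A y w m v)
include p

/-- Case `y² = u^{±1}` with `u` central. -/
theorem pos_B2 (hβ : y * b * y⁻¹ = b⁻¹) (hyy : y * y = u ∨ y * y = (u * u) * u) (hw1 : w = 1) : False := by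
  have hc := p.base.c
  have hz2 := p.hz2
  have hzinv := p.hzinv
  have hzne := p.hzne
  have huS := p.base.huS
  have hyB := fun x (hx : x ∈ Subgroup.zpowers b) => p.yinvB hβ hx
  have hyu : y * u * y⁻¹ = u := by rw [p.hyu, hw1]; group
  have huinv : u⁻¹ = (u * u) * u := by
    apply inv_eq_of_mul_eq_one_left
    calc (u * u) * u * u = (u * u) * (u * u) := by group
      _ = 1 := hz2
  obtain ⟨a₁, ha₁S, ha₁A, g, hgL, hg⟩ := hc.F A p.hAS p.hAi
  have hxA := p.coset ha₁S ha₁A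
  set x := a₁ * y⁻¹ with hx
  have hax : a₁ = x * y := by rw [hx]; group
  have hxx : x * (y * x * y⁻¹) = 1 ∨ x * (y * x * y⁻¹) = u * u := by
    rcases (p.hA x).mp hxA with h1 | h1
    · left
      rw [hyB x h1]; group
    · right
      set x₀ := x * u⁻¹ with hx₀
      have hxe : x = x₀ * u := by rw [hx₀]; group
      rw [hxe]
      have h2 := hyB x₀ h1
      calc x₀ * u * (y * (x₀ * u) * y⁻¹) = x₀ * u * ((y * x₀ * y⁻¹) * (y * u * y⁻¹)) := by group
        _ = x₀ * u * (x₀⁻¹ * u) := by rw [h2, hyu]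
        _ = x₀ * (u * x₀⁻¹) * u := by group
        _ = x₀ * (x₀⁻¹ * u) * u := by rw [p.hbu ((Subgroup.zpowers b).inv_mem h1)]
        _ = u * u := by group
  have ha₁₁ : a₁ * a₁ = x * (y * x * y⁻¹) * (y * y) := by rw [hax]; group
  -- the square of `a₁` generates `⟨u⟩`
  have hũ : a₁ * a₁ = u ∨ a₁ * a₁ = u⁻¹ := by
    rw [ha₁₁, huinv]
    rcases hxx with h1 | h1 <;> rcases hyy with h2 | h2 <;> rw [h1, h2]
    · left; group
    · right; group
    · right; rfl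
    · left
      rw [← mul_assoc, hz2, one_mul]
  set a' := g * a₁ * g⁻¹ with ha'
  have ha'a' : a' * a' = g * (a₁ * a₁) * g⁻¹ := by rw [ha']; group
  obtain ⟨q₀, hq₀, hq⟩ := p.A_sq hg
  obtain ⟨b₁, hb₁B, hb₁⟩ : ∃ b₁ ∈ Subgroup.zpowers b, b₁ * b₁ = g * u * g⁻¹ := by
    rcases hũ with h1 | h1
    · exact ⟨q₀, hq₀, by rw [← hq, ha'a', h1]⟩
    · refine ⟨q₀⁻¹, (Subgroup.zpowers b).inv_mem hq₀, ?_⟩
      have h2 : q₀ * q₀ = g * u⁻¹ * g⁻¹ := by rw [← hq, ha'a', h1]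
      calc q₀⁻¹ * q₀⁻¹ = (q₀ * q₀)⁻¹ := by group
        _ = (g * u⁻¹ * g⁻¹)⁻¹ := by rw [h2]
        _ = g * u * g⁻¹ := by group
  have hb₁₁ : (b₁ * b₁) * (b₁ * b₁) ≠ 1 := by
    rw [hb₁]
    intro h1
    apply hzne
    have h2 : (g * u * g⁻¹) * (g * u * g⁻¹) = g * (u * u) * g⁻¹ := by group
    rw [h2] at h1
    have h3 : u * u = g⁻¹ * (g * (u * u) * g⁻¹) * g := by group
    rw [h3, h1]; group
  have hm3 : 3 ≤ m := by
    by_contra hcon
    have hm2 := p.hm2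
    have hm' : m = 2 := by omega
    apply hb₁₁
    obtain ⟨i, rfl⟩ := Subgroup.mem_zpowers_iff.mp hb₁B
    have hb4 : b ^ (4 : ℕ) = 1 := by
      have := pow_orderOf_eq_one b
      rw [p.hm, hm'] at this
      exact this
    have h1 : b ^ i * b ^ i * (b ^ i * b ^ i) = (b ^ i) ^ (4 : ℕ) := by
      simp only [pow_succ, pow_zero, one_mul, mul_assoc]
    rw [h1, ← zpow_natCast, ← zpow_mul, mul_comm, zpow_mul, zpow_natCast, hb4, one_zpow]
  have huc : ∀ s ∈ S, s * u = u * s := by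
    have hyu' : y * u = u * y := by
      calc y * u = y * u * y⁻¹ * y := by group
        _ = u * y := by rw [hyu]
    intro s hs
    by_cases hsA : s ∈ A
    · exact p.comm_A hsA p.huA
    · have h1 := p.comm_A (p.coset hs hsA) p.huA
      calc s * u = (s * y⁻¹) * (y * u) := by group
        _ = (s * y⁻¹) * (u * y) := by rw [hyu']
        _ = ((s * y⁻¹) * u) * y := by group
        _ = (u * (s * y⁻¹)) * y := by rw [h1]
        _ = u * s := by group
  have hb₁A : b₁ ∈ A := p.hBA hb₁B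
  obtain ⟨g', hg'L, hg'1, hg'2⟩ := hc.Z huS huc hgL A (p.hAS.trans hc.hSL) (hc.hS2.to_le p.hAS) (by
    intro r hr
    rw [← hb₁]
    exact p.comm_A hr (A.mul_mem hb₁A hb₁A))
  rw [← hb₁] at hg'1
  let A₂ : Subgroup X := A.map (MulAut.conj g'⁻¹).toMonoidHom
  have hA₂mem : ∀ x, x ∈ A₂ ↔ g' * x * g'⁻¹ ∈ A := by
    intro x
    rw [mem_conj_map, inv_inv]
  have hA₂S : A₂ ≤ S := by
    intro x hx
    have h1 := hg'2 _ ((hA₂mem x).mp hx)
    have e : g'⁻¹ * (g' * x * g'⁻¹) * g' = x := by group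
    rwa [e] at h1
  have hcA₂ : Nat.card A₂ = Nat.card A :=
    Nat.card_congr (Subgroup.equivMapOfInjective _ _ (MulAut.conj g'⁻¹).injective).symm.toEquiv
  have hA₂c : ∀ x ∈ A₂, ∀ x' ∈ A₂, x * x' = x' * x := by
    intro x hx x' hx'
    have h1 := p.comm_A ((hA₂mem x).mp hx) ((hA₂mem x').mp hx')
    have h2 : g' * (x * x') * g'⁻¹ = g' * (x' * x) * g'⁻¹ := by
      calc g' * (x * x') * g'⁻¹ = (g' * x * g'⁻¹) * (g' * x' * g'⁻¹) := by group
        _ = (g' * x' * g'⁻¹) * (g' * x * g'⁻¹) := h1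
        _ = g' * (x' * x) * g'⁻¹ := by group
    simpa using h2
  set q₂ := g'⁻¹ * b₁ * g' with hq₂
  have hq₂A₂ : q₂ ∈ A₂ := by
    rw [hA₂mem, hq₂]
    have e : g' * (g'⁻¹ * b₁ * g') * g'⁻¹ = b₁ := by group
    rwa [e]
  have hq₂q₂ : q₂ * q₂ = u := by
    have h1 : u = g'⁻¹ * (g' * u * g'⁻¹) * g' := by group
    rw [h1, hg'1, hq₂]
    group
  have hq₂A : q₂ ∉ A := by
    intro h1
    apply p.base.u_not_B
    rw [← hq₂q₂]
    exact p.A_sq_B h1
  have hq₂S : q₂ ∈ S := hA₂S hq₂A₂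
  let I : Subgroup X := A ⊓ A₂
  have hIT : I ≤ Subgroup.zpowers u := by
    intro x hxI
    have hxA' : x ∈ A := hxI.1
    have hxA₂ : x ∈ A₂ := hxI.2
    have h1 := (p.base.coset_of_index_two p.hAS p.hAi hq₂S hq₂A p.hyS p.hyA).1
    have h2 := p.comm_A hxA' h1
    have h3 := hA₂c x hxA₂ q₂ hq₂A₂
    have hxy : x * y = y * x := by
      calc x * y = x * (y * q₂⁻¹) * q₂ := by group
        _ = (y * q₂⁻¹) * (x * q₂) := by rw [h2]; group
        _ = (y * q₂⁻¹) * (q₂ * x) := by rw [h3]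
        _ = y * x := by group
    have hxyx : y * x * y⁻¹ = x := by rw [← hxy]; group
    have hinvol : ∀ x₀ ∈ Subgroup.zpowers b, y * x₀ * y⁻¹ = x₀ → x₀ ∈ Subgroup.zpowers u := by
      intro x₀ hx₀ h4
      rw [hyB x₀ hx₀] at h4
      have h5 : x₀ * x₀ = 1 := by
        calc x₀ * x₀ = x₀ * x₀⁻¹ := by rw [h4]
          _ = 1 := by group
      rcases p.base.invol_B hx₀ h5 with h6 | h6
      · rw [h6]; exact Subgroup.one_mem _
      · rw [h6]
        exact (Subgroup.zpowers u).mul_mem (Subgroup.mem_zpowers u) (Subgroup.mem_zpowers u)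
    rcases (p.hA x).mp hxA' with h4 | h4
    · exact hinvol x h4 hxyx
    · have h5 : y * (x * u⁻¹) * y⁻¹ = x * u⁻¹ := by
        have e : y * (x * u⁻¹) * y⁻¹ = (y * x * y⁻¹) * (y * u * y⁻¹)⁻¹ := by group
        rw [e, hxyx, hyu]
      have h6 := hinvol _ h4 h5
      have h7 := (Subgroup.zpowers u).mul_mem h6 (Subgroup.mem_zpowers u)
      simpa using h7
  -- counting
  have hcI : Nat.card I ≤ 4 := by
    have h1 := Subgroup.card_le_of_le hIT
    rwa [Nat.card_zpowers, p.base.hu4] at h1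
  have hri : A.relIndex A₂ ≤ 2 := by
    have h1 := Subgroup.relIndex_le_of_le_right (H := A) hA₂S (by rw [p.hAi]; omega)
    rwa [p.hAi] at h1
  have hIA₂ : I ≤ A₂ := inf_le_right
  have hcA₂I : Nat.card A₂ = Nat.card I * A.relIndex A₂ := by
    have h1 := Subgroup.card_mul_index (I.subgroupOf A₂)
    rw [Nat.card_congr (Subgroup.subgroupOfEquivOfLe hIA₂).toEquiv] at h1
    have h2 : (I.subgroupOf A₂).index = I.relIndex A₂ := rfl
    rw [h2, Subgroup.inf_relIndex_right] at h1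
    exact h1.symm
  have hcA : Nat.card A * 2 = 4 * 2 ^ m := by
    have h1 := Subgroup.card_mul_index (A.subgroupOf S)
    rw [Nat.card_congr (Subgroup.subgroupOfEquivOfLe p.hAS).toEquiv, p.base.hcard, p.hm] at h1
    have h2 : (A.subgroupOf S).index = 2 := p.hAi
    rwa [h2] at h1
  have h8 : 2 ^ 3 ≤ 2 ^ m := Nat.pow_le_pow_right (by omega) hm3
  have h9 : Nat.card A₂ ≤ 4 * 2 := by
    rw [hcA₂I]
    exact Nat.mul_le_mul hcI hri
  rw [hcA₂] at h9
  omega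

/-- Case `y² = c u` with `c² = z`. -/
theorem pos_B3 (hβ : y * b * y⁻¹ = b⁻¹ * (u * u)) {c : X} (hcB : c ∈ Subgroup.zpowers b)
    (hcc : c * c = u * u) (hyy : y * y = c * u) (hw1 : w = u * u) (hm3 : 3 ≤ m) : False := by
  have hc := p.base.c
  have hz2 := p.hz2
  have hzne := p.hzne
  have hzS := p.zS
  have hzB := p.hzB
  have huS := p.base.huS
  have hbS := p.base.hbS
  have hyS := p.hyS
  have hzc := fun s hs => p.hzc (s := s) hs
  have hzb : (u * u) * b = b * (u * u) := (hzc b hbS).symm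
  have hcA : c ∈ A := p.hBA hcB
  set f₁ := c * u with hf₁
  have hf₁A : f₁ ∈ A := A.mul_mem hcA p.huA
  have hf₁B : f₁ ∉ Subgroup.zpowers b := by
    intro h1
    apply p.base.u_not_B
    have h2 := (Subgroup.zpowers b).mul_mem ((Subgroup.zpowers b).inv_mem hcB) h1
    rw [hf₁] at h2
    simpa using h2
  have hf₁f₁ : f₁ * f₁ = 1 := by
    rw [hf₁]
    calc c * u * (c * u) = c * (u * c) * u := by group
      _ = c * (c * u) * u := by rw [p.hbu hcB]
      _ = (c * c) * (u * u) := by group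
      _ = 1 := by rw [hcc, hz2]
  have hyf₁ : y * f₁ = f₁ * y := by
    rw [← hyy]; group
  have hf₁c : ∀ s ∈ S, s * f₁ = f₁ * s := by
    intro s hs
    by_cases hsA : s ∈ A
    · exact p.comm_A hsA hf₁A
    · have h1 := p.comm_A (p.coset hs hsA) hf₁A
      calc s * f₁ = (s * y⁻¹) * (y * f₁) := by group
        _ = (s * y⁻¹) * (f₁ * y) := by rw [hyf₁]
        _ = ((s * y⁻¹) * f₁) * y := by group
        _ = (f₁ * (s * y⁻¹)) * y := by rw [h1]
        _ = f₁ * s := by group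
  -- `x₀ · y x₀ y⁻¹` is `1` or `z`
  have hε : ∀ x₀ ∈ Subgroup.zpowers b, x₀ * (y * x₀ * y⁻¹) = 1 ∨ x₀ * (y * x₀ * y⁻¹) = u * u := by
    intro x₀ hx₀
    obtain ⟨i, rfl⟩ := Subgroup.mem_zpowers_iff.mp hx₀
    have h1 : y * b ^ i * y⁻¹ = (b ^ i)⁻¹ * (u * u) ^ i := by
      rw [← conj_zpow, hβ]
      have hcm : Commute b⁻¹ (u * u) :=
        (show Commute (u * u) b from hzb).symm.inv_left
      rw [hcm.mul_zpow, inv_zpow]
    rw [h1, mul_inv_cancel_left]
    by_cases hi : i % 2 = 1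
    · right; exact p.zodd hi
    · left
      obtain ⟨j, hj⟩ : ∃ j, i = 2 * j := ⟨i / 2, by omega⟩
      rw [hj, zpow_mul, zpow_two, hz2, one_zpow]
  have hsq : ∀ s ∈ S, s ∉ A → s * s = f₁ ∨ s * s = (u * u) * f₁ := by
    intro s hs hsA
    have h1 := p.coset hs hsA
    set x := s * y⁻¹ with hx
    have hse : s = x * y := by rw [hx]; group
    have h2 : s * s = x * (y * x * y⁻¹) * f₁ := by
      rw [← hyy, hse]; group
    have h3 : x * (y * x * y⁻¹) = 1 ∨ x * (y * x * y⁻¹) = u * u := by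
      rcases (p.hA x).mp h1 with h4 | h4
      · exact hε x h4
      · set x₀ := x * u⁻¹ with hx₀
        have hxe : x = x₀ * u := by rw [hx₀]; group
        have h5 := hε x₀ h4
        have h6 : x * (y * x * y⁻¹) = x₀ * (y * x₀ * y⁻¹) := by
          have h7 : y * x₀ * y⁻¹ ∈ Subgroup.zpowers b := p.base.B_norm hyS h4
          rw [hxe]
          calc x₀ * u * (y * (x₀ * u) * y⁻¹) = x₀ * u * ((y * x₀ * y⁻¹) * (y * u * y⁻¹)) := by group
            _ = x₀ * (u * (y * x₀ * y⁻¹)) * ((u * u) * u) := by rw [p.hyu, hw1]; group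
            _ = x₀ * ((y * x₀ * y⁻¹) * u) * ((u * u) * u) := by rw [p.hbu h7]
            _ = x₀ * (y * x₀ * y⁻¹) * ((u * u) * (u * u)) := by group
            _ = x₀ * (y * x₀ * y⁻¹) := by rw [hz2]; group
        rw [h6]
        exact h5
    rcases h3 with h3 | h3
    · left; rw [h2, h3]; group
    · right; rw [h2, h3]
  obtain ⟨a₁, ha₁S, ha₁A, g, hgL, hg⟩ := hc.F A p.hAS p.hAi
  set f₂ := a₁ * a₁ with hf₂
  have hf₂' : f₂ = f₁ ∨ f₂ = (u * u) * f₁ := hsq a₁ ha₁S ha₁A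
  have hzf₁A : (u * u) * f₁ ∈ A := A.mul_mem (p.hBA hzB) hf₁A
  have hzf₁B : (u * u) * f₁ ∉ Subgroup.zpowers b := by
    intro h1
    apply hf₁B
    have h2 := (Subgroup.zpowers b).mul_mem ((Subgroup.zpowers b).inv_mem hzB) h1
    have e : (u * u)⁻¹ * ((u * u) * f₁) = f₁ := by group
    rwa [e] at h2
  have hf₂A : f₂ ∈ A := by
    rcases hf₂' with h1 | h1 <;> rw [h1]
    · exact hf₁A
    · exact hzf₁A
  have hf₂B : f₂ ∉ Subgroup.zpowers b := by
    rcases hf₂' with h1 | h1 <;> rw [h1]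
    · exact hf₁B
    · exact hzf₁B
  have hsq1 : ∀ e, (e = f₁ ∨ e = (u * u) * f₁) → e * e = 1 := by
    intro e he
    rcases he with rfl | rfl
    · exact hf₁f₁
    · calc (u * u) * f₁ * ((u * u) * f₁) = (u * u) * (f₁ * (u * u)) * f₁ := by group
        _ = (u * u) * ((u * u) * f₁) * f₁ := by rw [hzc f₁ (p.hAS hf₁A)]
        _ = ((u * u) * (u * u)) * (f₁ * f₁) := by group
        _ = 1 := by rw [hz2, hf₁f₁]; group
  have hf₂f₂ : f₂ * f₂ = 1 := hsq1 f₂ hf₂'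
  have hf₂c : ∀ s ∈ S, s * f₂ = f₂ * s := by
    intro s hs
    rcases hf₂' with h1 | h1 <;> rw [h1]
    · exact hf₁c s hs
    · calc s * ((u * u) * f₁) = (s * (u * u)) * f₁ := by group
        _ = (u * u) * (s * f₁) := by rw [hzc s hs]; group
        _ = (u * u) * (f₁ * s) := by rw [hf₁c s hs]
        _ = (u * u) * f₁ * s := by group
  have hf₂ne : f₂ ≠ 1 := fun h1 => hf₂B (h1 ▸ Subgroup.one_mem _)
  have hgf₂ : g * f₂ * g⁻¹ = u * u := by
    have h1 := p.A_sq_B hg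
    have h2 : (g * a₁ * g⁻¹) * (g * a₁ * g⁻¹) = g * f₂ * g⁻¹ := by
      rw [hf₂]; group
    rw [h2] at h1
    have h3 : (g * f₂ * g⁻¹) * (g * f₂ * g⁻¹) = 1 := by
      calc (g * f₂ * g⁻¹) * (g * f₂ * g⁻¹) = g * (f₂ * f₂) * g⁻¹ := by group
        _ = 1 := by rw [hf₂f₂]; group
    rcases p.base.invol_B h1 h3 with h4 | h4
    · exfalso
      apply hf₂ne
      have h5 : f₂ = g⁻¹ * (g * f₂ * g⁻¹) * g := by group
      rw [h5, h4]; group
    · exact h4
  -- a fourth root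
  have hbm : b ^ (2 ^ m) = 1 := by
    have := pow_orderOf_eq_one b
    rwa [p.hm] at this
  set b₁ := b ^ (2 ^ (m - 3)) with hb₁
  have hb₁4 : b₁ ^ (2 ^ 2) = u * u := by
    rw [hb₁, ← pow_mul, ← pow_add, show m - 3 + 2 = m - 1 by omega]
    exact p.base.z_eq p.hm p.hm1
  have hb₁m : b₁ ^ (2 ^ m) = 1 := by
    rw [hb₁, ← pow_mul, mul_comm, pow_mul, hbm, one_pow]
  obtain ⟨a₂, ha₂S, ha₂⟩ := power_root hc (p.hAS hf₂A) hf₂c hgL hgf₂
    (hc.hSL (S.pow_mem hbS _)) hb₁4 hb₁m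
  have ha₂4 : a₂ ^ 2 ^ 2 = (a₂ * a₂) * (a₂ * a₂) := by
    rw [show (2 : ℕ) ^ 2 = 2 + 2 from rfl, pow_add, pow_two]
  rw [ha₂4] at ha₂
  by_cases ha₂A : a₂ ∈ A
  · apply hf₂B
    rw [← ha₂]
    exact p.A_sq_B (A.mul_mem ha₂A ha₂A)
  · apply hf₂ne
    rw [← ha₂]
    exact hsq1 _ (hsq a₂ ha₂S ha₂A)

end Pos

end Cfsg.Agent.Lib.CycFourC
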