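import Mathlib
import Cfsg.Prelude.Def_Transfer
import Cfsg.Prelude.Def_Local
import Cfsg.Agent.Lib.BlockSection
import Cfsg.Agent.Lib.BlockNormal
import Cfsg.Agent.Lib.CharKernel
import Cfsg.Agent.Lib.GenChar
import Cfsg.Agent.Lib.PSolv
import Cfsg.Agent.Lib.PConstr
import Cfsg.Agent.Lib.SylowConjLemmas
import Cfsg.Agent.Lib.LocalBalance2
import Cfsg.Agent.S0942

/-!
# Principal blocks constant on `p`-singular elements

If the centralizers of the elements of order `p` are `p`-nilpotent, the characters of the principal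
block are constant on `p`-sections.  Group theory of pairs of elements of order `p` generating a
`p`-solvable subgroup with abelian Sylow subgroups.
-/

set_option autoImplicit false
set_option linter.unusedSectionVars false
set_option linter.unusedVariables false

open Cfsg
open scoped ComplexConjugate

namespace Cfsg.Agent.Lib.SingConst

open Cfsg.Agent.Lib.CharBasic Cfsg.Agent.Lib.BlockNormal Cfsg.Agent.Lib.BlockIdem
open Cfsg.Agent.Lib.BlockLocal Cfsg.Agent.Lib.PCore Cfsg.Agent.Lib.PConstr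

universe u

section Pair

variable {G : Type u} [Group G] [Finite G] {p : ℕ} [hp : Fact p.Prime]

/-- In a `p`-solvable group with abelian Sylow `p`-subgroups, `O_{p'}`-quotient: the `p`-elements lie
in `O_p`. -/
theorem mk_mem_pCore (X : Type u) [Group X] [Finite X] (hsol : IsPSolvable p X)
    (hab : ∀ S : Sylow p X, ∀ a ∈ (S : Subgroup X), ∀ b ∈ (S : Subgroup X), a * b = b * a)
    (w : X) (hw : ∃ k : ℕ, w ^ p ^ k = 1) :
    (w : X ⧸ pPrimeCore p X) ∈ pCore p (X ⧸ pPrimeCore p X) := by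
  set N := pPrimeCore p X with hN
  let π := QuotientGroup.mk' N
  have hπ : Function.Surjective π := QuotientGroup.mk'_surjective N
  have hc := Cfsg.Agent.Lib.PSolv.centralizer_pCore_le_of_pSolvable
    (Cfsg.Agent.Lib.PSolv.isPSolvable_quotient hsol N)
    (pPrimeCore_quotient_eq_bot (p := p) (G := X))
  obtain ⟨k, hk⟩ := hw
  have hz : IsPGroup p (Subgroup.zpowers w) :=
    Cfsg.Agent.Lib.LocalBalance2.isPGroup_zpowers_of_ppow hk
  obtain ⟨S, hS⟩ := hz.exists_le_sylow
  have hwS : w ∈ (S : Subgroup X) := hS (Subgroup.mem_zpowers w)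
  apply hc
  rw [Subgroup.mem_centralizer_iff]
  intro z hzc
  have hzT : z ∈ ((S.mapSurjective hπ : Sylow p (X ⧸ N)) : Subgroup (X ⧸ N)) :=
    pCore_le_sylow p _ hzc
  rw [Sylow.coe_mapSurjective] at hzT
  obtain ⟨a, ha, rfl⟩ := hzT
  have h1 := hab S a ha w hwS
  change π a * π w = π w * π a
  rw [← map_mul, ← map_mul, h1]

/-- The key property of pairs. -/
theorem reg_pair (x y : G) (hx : orderOf x = p) (hy : orderOf y = p)
    (hsol : IsPSolvable p ↥(Subgroup.closure ({x, y} : Set G)))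
    (hab : ∀ S : Subgroup G, IsPGroup p S → ∀ a ∈ S, ∀ b ∈ S, a * b = b * a)
    (h1 : ¬ p ∣ orderOf (x * y)) (h2 : ¬ p ∣ orderOf (x * y ^ 2)) : False := by
  set X := Subgroup.closure ({x, y} : Set G) with hX
  have hxX : x ∈ X := Subgroup.subset_closure (Or.inl rfl)
  have hyX : y ∈ X := Subgroup.subset_closure (Or.inr rfl)
  let x' : X := ⟨x, hxX⟩
  let y' : X := ⟨y, hyX⟩
  have hox : orderOf x' = p := by rw [Subgroup.orderOf_mk, hx]
  have hoy : orderOf y' = p := by rw [Subgroup.orderOf_mk, hy]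
  have hab' : ∀ S : Sylow p X, ∀ a ∈ (S : Subgroup X), ∀ b ∈ (S : Subgroup X), a * b = b * a := by
    intro S a ha b hb
    have h3 := hab ((S : Subgroup X).map X.subtype) (S.isPGroup'.map _) a ⟨a, ha, rfl⟩ b ⟨b, hb, rfl⟩
    exact Subtype.ext h3
  have hmx := mk_mem_pCore (p := p) X hsol hab' x' ⟨1, by rw [pow_one, ← hox]; exact pow_orderOf_eq_one _⟩
  have hmy := mk_mem_pCore (p := p) X hsol hab' y' ⟨1, by rw [pow_one, ← hoy]; exact pow_orderOf_eq_one _⟩
  set N := pPrimeCore p X with hN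
  let π := QuotientGroup.mk' N
  have hpp : IsPGroup p (pCore p (X ⧸ N)) := isPGroup_pCore p
  have hcop1 : (orderOf (x' * y')).Coprime p := by
    have : orderOf (x' * y') = orderOf (x * y) := by
      rw [← Subgroup.orderOf_coe]; rfl
    rw [this]
    exact ((Nat.Prime.coprime_iff_not_dvd hp.out).mpr h1).symm
  have hcop2 : (orderOf (x' * y' ^ 2)).Coprime p := by
    have : orderOf (x' * y' ^ 2) = orderOf (x * y ^ 2) := by
      rw [← Subgroup.orderOf_coe]; rfl
    rw [this]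
    exact ((Nat.Prime.coprime_iff_not_dvd hp.out).mpr h2).symm
  have e1 : π (x' * y') = 1 := by
    apply eq_one_of_mem_of_coprime hpp (z := π (x' * y'))
    · rw [map_mul]; exact mul_mem hmx hmy
    · exact Nat.Coprime.coprime_dvd_left (orderOf_map_dvd π _) hcop1
  have e2 : π (x' * y' ^ 2) = 1 := by
    apply eq_one_of_mem_of_coprime hpp (z := π (x' * y' ^ 2))
    · rw [map_mul, map_pow]; exact mul_mem hmx (pow_mem hmy 2)
    · exact Nat.Coprime.coprime_dvd_left (orderOf_map_dvd π _) hcop2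
  have e3 : π y' = 1 := by
    rw [map_mul] at e1
    rw [map_mul, map_pow, pow_two, ← mul_assoc, e1, one_mul] at e2
    exact e2
  have e4 : π x' = 1 := by
    rw [map_mul, e3, mul_one] at e1
    exact e1
  have h5 : x' ∈ N := (QuotientGroup.eq_one_iff x').mp e4
  have h6 := orderOf_coprime_of_mem_pPrimeCore h5
  rw [hox] at h6
  exact hp.out.one_lt.ne' (Nat.Coprime.eq_one_of_dvd h6 dvd_rfl)

end Pair

section Arith

/-- The final estimate. -/
theorem arith_bound {ι : Type*} (F : Finset ι) (i₀ : ι) (hi₀ : i₀ ∈ F) (c : ι → ℤ) (d : ι → ℕ) (n : ℕ)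
    (hn : 3 ≤ n) (hc0 : c i₀ = 1) (hd0 : d i₀ = 1)
    (hsum : ∑ i ∈ F, (c i) ^ 2 = n) (hdc : ∑ i ∈ F, (d i : ℤ) * c i = 0)
    (hd : ∀ i ∈ F, i ≠ i₀ → 0 < c i → c i + n ≤ d i) (hdpos : ∀ i ∈ F, 0 < d i) :
    ∑ i ∈ F, ((c i : ℝ) ^ 3 / (d i : ℝ)) ≤ ((n : ℝ) + 1) / 3 := by
  classical
  -- a negative value
  obtain ⟨j, hjF, hjneg⟩ : ∃ j ∈ F, c j < 0 := by
    by_contra hcon
    push Not at hcon
    have h1 : ∀ i ∈ F, 0 ≤ (d i : ℤ) * c i := fun i hi => mul_nonneg (by positivity) (hcon i hi)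
    have h2 := (Finset.sum_eq_zero_iff_of_nonneg h1).mp hdc i₀ hi₀
    rw [hc0, hd0] at h2
    norm_num at h2
  have hji : j ≠ i₀ := by
    rintro rfl
    rw [hc0] at hjneg
    norm_num at hjneg
  -- squares
  have hsq : ∀ i ∈ F, i ≠ i₀ → (c i) ^ 2 + 1 ≤ n := by
    intro i hi hne
    have h1 : (c i) ^ 2 + (c i₀) ^ 2 ≤ ∑ k ∈ F, (c k) ^ 2 := by
      have h2 : ({i, i₀} : Finset ι) ⊆ F := by
        intro k hk
        simp only [Finset.mem_insert, Finset.mem_singleton] at hk
        rcases hk with rfl | rfl <;> assumption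
      have h3 := Finset.sum_le_sum_of_subset_of_nonneg (f := fun k => (c k) ^ 2) h2
        (fun k _ _ => sq_nonneg _)
      rw [Finset.sum_pair hne] at h3
      exact h3
    rw [hsum, hc0] at h1
    linarith
  have hF : F = insert i₀ (F.erase i₀) := (Finset.insert_erase hi₀).symm
  have hterm : ∀ i ∈ F.erase i₀, ((c i : ℝ) ^ 3 / (d i : ℝ)) ≤
      (if i = j then 0 else ((c i : ℝ) ^ 2 / 3)) := by
    intro i hi
    have hiF := Finset.mem_of_mem_erase hi
    have hne := Finset.ne_of_mem_erase hi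
    have hdp : (0 : ℝ) < d i := by exact_mod_cast hdpos i hiF
    by_cases hpos : 0 < c i
    · have hij : i ≠ j := by
        rintro rfl
        exact absurd hjneg (not_lt.mpr hpos.le)
      rw [if_neg hij]
      have h1 := hd i hiF hne hpos
      have h2 := hsq i hiF hne
      -- `2 c ≤ n`
      have h3 : 2 * c i ≤ n := by
        by_contra hcon
        push Not at hcon
        have hn' : (3 : ℤ) ≤ n := by exact_mod_cast hn
        nlinarith
      have h4 : 3 * c i ≤ d i := by linarith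
      have h5 : (3 : ℝ) * (c i : ℝ) ≤ d i := by exact_mod_cast h4
      have h6 : (0 : ℝ) < c i := by exact_mod_cast hpos
      rw [div_le_div_iff₀ hdp (by norm_num : (0 : ℝ) < 3)]
      nlinarith [sq_nonneg (c i : ℝ)]
    · have h1 : c i ≤ 0 := not_lt.mp hpos
      have h2 : (c i : ℝ) ≤ 0 := by exact_mod_cast h1
      have h3 : (c i : ℝ) ^ 3 ≤ 0 := by
        have : (c i : ℝ) ^ 3 = (c i : ℝ) * (c i : ℝ) ^ 2 := by ring
        rw [this]
        exact mul_nonpos_of_nonpos_of_nonneg h2 (sq_nonneg _)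
      have h4 : (c i : ℝ) ^ 3 / (d i : ℝ) ≤ 0 := div_nonpos_of_nonpos_of_nonneg h3 hdp.le
      split_ifs
      · exact h4
      · exact h4.trans (by positivity)
  have hsumerase : ∑ i ∈ F.erase i₀, (if i = j then (0 : ℝ) else ((c i : ℝ) ^ 2 / 3)) ≤
      ((n : ℝ) - 2) / 3 := by
    have h1 : ∑ i ∈ F.erase i₀, (c i : ℝ) ^ 2 = (n : ℝ) - 1 := by
      have h2 : ∑ i ∈ F, (c i : ℝ) ^ 2 = n := by exact_mod_cast hsum
      rw [← Finset.add_sum_erase F _ hi₀, hc0] at h2
      push_cast at h2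
      linarith
    have hjm : j ∈ F.erase i₀ := Finset.mem_erase.mpr ⟨hji, hjF⟩
    have h3 : ∑ i ∈ F.erase i₀, (if i = j then (0 : ℝ) else ((c i : ℝ) ^ 2 / 3)) =
        (∑ i ∈ F.erase i₀, (c i : ℝ) ^ 2) / 3 - (c j : ℝ) ^ 2 / 3 := by
      have h4 : ∀ i ∈ F.erase i₀, (if i = j then (0 : ℝ) else ((c i : ℝ) ^ 2 / 3)) =
          (c i : ℝ) ^ 2 / 3 - (if i = j then (c j : ℝ) ^ 2 / 3 else 0) := by
        intro i _
        split_ifs with h
        · rw [h]; ring
        · ring
      rw [Finset.sum_congr rfl h4, Finset.sum_sub_distrib, Finset.sum_ite_eq' _ j, if_pos hjm,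
        Finset.sum_div]
    rw [h3, h1]
    have h5 : (1 : ℝ) ≤ (c j : ℝ) ^ 2 := by
      have h6 : (1 : ℤ) ≤ (c j) ^ 2 := by nlinarith
      exact_mod_cast h6
    linarith
  rw [← Finset.add_sum_erase F _ hi₀, hc0, hd0]
  have h7 := (Finset.sum_le_sum hterm).trans hsumerase
  push_cast
  norm_num
  linarith

end Arith

section Main

variable {G : Type u} [Group G] [Fintype G] {p : ℕ} [hp : Fact p.Prime] {M : Ideal AlgInt}

/-- In a `p`-nilpotent group the principal block has `|H/N|` as the sum of the squares of degrees. -/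
theorem sum_principal_deg_sq {H : Type u} [Group H] [Fintype H] (hM : IsPModular p M)
    (N : Subgroup H) [hNn : N.Normal] (hN : ¬ p ∣ Nat.card N) (m : ℕ) (hQ : N.index = p ^ m) :
    ∑ᶠ ψ ∈ principalBlock M H, (charDegree (ψ : H → ℂ) : ℂ) ^ 2 = (N.index : ℂ) := by
  classical
  haveI := isPrime_of_isPModular hM
  have hcop : (Nat.card N).Coprime p :=
    ((Nat.Prime.coprime_iff_not_dvd hp.out).mpr hN).symm
  have hNle : N ≤ pPrimeCore p H := le_pPrimeCore hNn hcop
  have hle : pPrimeCore p H ≤ N := by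
    intro x hx
    have h1 := orderOf_coprime_of_mem_pPrimeCore hx
    rw [← QuotientGroup.eq_one_iff]
    have hcard : Nat.card (H ⧸ N) = p ^ m := by rw [← hQ]; rfl
    have h2 : orderOf (x : H ⧸ N) ∣ p ^ m := by
      rw [← hcard]; exact orderOf_dvd_natCard _
    have h3 : orderOf (x : H ⧸ N) ∣ orderOf x := orderOf_map_dvd (QuotientGroup.mk' N) x
    have h4 : orderOf (x : H ⧸ N) = 1 := Nat.eq_one_of_dvd_coprimes (Nat.Coprime.pow_right m h1) h3 h2
    exact orderOf_eq_one_iff.mp h4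
  have hsol : IsPSolvable p H := by
    apply isPSolvable_of_quotient p N (Or.inr hcop)
    refine ⟨1, ![⊥, ⊤], rfl, rfl, ?_, ?_, ?_⟩
    · intro i j hij
      fin_cases i <;> fin_cases j <;> simp_all
    · intro i
      fin_cases i <;> simp <;> infer_instance
    · intro i
      left
      fin_cases i
      refine ⟨m, ?_⟩
      have hcard : Nat.card (H ⧸ N) = p ^ m := by rw [← hQ]; rfl
      simpa [Nat.card_eq_fintype_card] using hcard
  have hiff : ∀ ψ : IrrCharacter H, ψ ∈ principalBlock M H ↔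
      ∀ n ∈ N, (ψ : H → ℂ) n = (ψ : H → ℂ) 1 := by
    intro ψ
    constructor
    · intro h
      exact eq_of_mem_principalBlock hM N hN ψ h
    · intro h
      exact mem_principalBlock_of_pSolvable hM hsol ψ (fun x hx => h x (hle hx))
  have hsq := Cfsg.Agent.Lib.CharKernel.sum_ker_deg_sq N
  have hfin : (∑ᶠ ψ ∈ principalBlock M H, (charDegree (ψ : H → ℂ) : ℂ) ^ 2) =
      ((∑ χ : IrrCharacter H, (if ∀ n ∈ N, (χ : H → ℂ) n = (χ : H → ℂ) 1 then
        (charDegree (χ : H → ℂ)) ^ 2 else 0) : ℕ) : ℂ) := by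
    rw [finsum_mem_eq_finite_toFinset_sum _ (Set.toFinite _)]
    push_cast
    rw [← Finset.sum_filter_add_sum_filter_not Finset.univ
      (fun χ : IrrCharacter H => ∀ n ∈ N, (χ : H → ℂ) n = (χ : H → ℂ) 1)]
    have h1 : ∑ x ∈ Finset.univ.filter
        (fun χ : IrrCharacter H => ¬ ∀ n ∈ N, (χ : H → ℂ) n = (χ : H → ℂ) 1),
        (if ∀ n ∈ N, (x : H → ℂ) n = (x : H → ℂ) 1 then (charDegree (x : H → ℂ) : ℂ) ^ 2 else 0) = 0 := by
      apply Finset.sum_eq_zero
      intro x hx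
      rw [if_neg (Finset.mem_filter.mp hx).2]
    rw [h1, add_zero]
    apply Finset.sum_congr
    · ext χ
      simp [hiff]
    · intro x hx
      rw [if_pos (Finset.mem_filter.mp hx).2]
  rw [hfin]
  have hmul : Nat.card N * N.index = Nat.card H := N.card_mul_index
  have hNpos : 0 < Nat.card N := Nat.card_pos
  have h3 : Nat.card N * (∑ χ : IrrCharacter H, (if ∀ n ∈ N, (χ : H → ℂ) n = (χ : H → ℂ) 1 then
        (charDegree (χ : H → ℂ)) ^ 2 else 0)) = Nat.card N * N.index := by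
    rw [hsq, hmul]
  have h4 := Nat.eq_of_mul_eq_mul_left hNpos h3
  rw [h4]

/-- A `p'`-element of a group with a normal `p`-complement lies in the `p'`-core. -/
theorem mem_pPrimeCore_of_coprime {H : Type*} [Group H] [Finite H] (N : Subgroup H) [hNn : N.Normal]
    (hN : ¬ p ∣ Nat.card N) (m : ℕ) (hQ : N.index = p ^ m) {u : H} (hu : ¬ p ∣ orderOf u) :
    u ∈ pPrimeCore p H := by
  have hcop : (Nat.card N).Coprime p :=
    ((Nat.Prime.coprime_iff_not_dvd hp.out).mpr hN).symm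
  have h1 : (orderOf u).Coprime p := ((Nat.Prime.coprime_iff_not_dvd hp.out).mpr hu).symm
  apply le_pPrimeCore hNn hcop
  rw [← QuotientGroup.eq_one_iff]
  have hcard : Nat.card (H ⧸ N) = p ^ m := by rw [← hQ]; rfl
  have h2 : orderOf (u : H ⧸ N) ∣ p ^ m := by
    rw [← hcard]; exact orderOf_dvd_natCard _
  have h3 : orderOf (u : H ⧸ N) ∣ orderOf u := orderOf_map_dvd (QuotientGroup.mk' N) u
  have h4 : orderOf (u : H ⧸ N) = 1 := Nat.eq_one_of_dvd_coprimes (Nat.Coprime.pow_right m h1) h3 h2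
  exact orderOf_eq_one_iff.mp h4

/-- Finite form of the principal block. -/
noncomputable def B₀ (M : Ideal AlgInt) (G : Type u) [Group G] [Fintype G] :
    Finset (IrrCharacter G) := (Set.toFinite (principalBlock M G)).toFinset

theorem mem_B₀ {χ : IrrCharacter G} : χ ∈ B₀ M G ↔ χ ∈ principalBlock M G :=
  Set.Finite.mem_toFinset _

theorem finsum_B₀ (f : IrrCharacter G → ℂ) :
    ∑ᶠ χ ∈ principalBlock M G, f χ = ∑ χ ∈ B₀ M G, f χ :=
  finsum_mem_eq_finite_toFinset_sum _ (Set.toFinite _)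

theorem not_isConj_of_reg {x g c : G} (hx : ∃ k : ℕ, orderOf x = p ^ k) (hx1 : x ≠ 1)
    (hcx : x * c = c * x) (hc : ¬ p ∣ orderOf c) (hg : ¬ p ∣ orderOf g) : ¬ IsConj (x * c) g := by
  intro h
  obtain ⟨a, ha⟩ := isConj_iff.1 h
  have h1 : orderOf (x * c) = orderOf g := by
    rw [← ha]
    exact SemiconjBy.orderOf_eq a (show a * (x * c) = a * (x * c) * a⁻¹ * a by group)
  obtain ⟨k, hk⟩ := hx
  have hk0 : k ≠ 0 := by
    rintro rfl
    rw [pow_zero] at hk
    exact hx1 (orderOf_eq_one_iff.mp hk)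
  have hcop : (orderOf x).Coprime (orderOf c) := by
    rw [hk]
    exact Nat.Coprime.pow_left k ((Nat.Prime.coprime_iff_not_dvd hp.out).mpr hc)
  have h2 : orderOf (x * c) = orderOf x * orderOf c :=
    Commute.orderOf_mul_eq_mul_orderOf_of_coprime hcx hcop
  apply hg
  rw [← h1, h2, hk]
  exact Dvd.dvd.mul_right (dvd_pow_self p hk0) _

/-- Block orthogonality between a `p`-element and a `p`-regular element. -/
theorem sum_reg (hM : IsPModular p M) {x g : G} (hx : ∃ k : ℕ, orderOf x = p ^ k) (hx1 : x ≠ 1)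
    (hg : ¬ p ∣ orderOf g) :
    ∑ χ ∈ B₀ M G, (χ : G → ℂ) x * conj ((χ : G → ℂ) g) = 0 := by
  classical
  letI : Fintype (Subgroup.centralizer ({x} : Set G)) := Fintype.ofFinite _
  have h := Cfsg.Agent.Lib.BlockSection.sum_block_mul_conj_eq_zero (H := Subgroup.centralizer ({x} : Set G))
    hM hx rfl (isPBlock_principalBlock M) (y := 1)
    (by simp [hp.out.one_lt.ne']) (v := g) (by
      intro c hc
      apply not_isConj_of_reg hx hx1 _ (by rwa [Subgroup.orderOf_coe]) hg
      have := Subgroup.mem_centralizer_iff.mp c.2 x rfl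
      exact this)
  simp only [Subgroup.coe_one, mul_one] at h
  rw [finsum_B₀] at h
  exact h

/-- The class sum of `x`, applied at `x`. -/
theorem sum_K (x : G) (χ : IrrCharacter G) [DecidablePred (IsConj x)] :
    ∑ l ∈ Finset.univ.filter (IsConj x), (χ : G → ℂ) (x * l) =
      (Finset.univ.filter (IsConj x)).card * (χ : G → ℂ) x * (χ : G → ℂ) x / (χ : G → ℂ) 1 := by
  classical
  have hχ := IsIrrCharacter.isCharacter χ.2
  let e : G → ℂ := fun l => if IsConj x l then 1 else 0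
  have he : IsClassFunction G e := by
    intro g h
    simp only [e]
    have : IsConj x (h * g * h⁻¹) ↔ IsConj x g := by
      constructor
      · intro h1
        exact h1.trans (isConj_iff.2 ⟨h⁻¹, by group⟩)
      · intro h1
        exact h1.trans (isConj_iff.2 ⟨h, rfl⟩)
    simp only [this]
  have h1 := Cfsg.Agent.Lib.BlockSecond.sum_class_mul_irr he χ x
  have h2 : ∑ l : G, e l * (χ : G → ℂ) (x * l) =
      ∑ l ∈ Finset.univ.filter (IsConj x), (χ : G → ℂ) (x * l) := by
    rw [Finset.sum_filter]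
    refine Finset.sum_congr rfl fun l _ => ?_
    simp only [e]
    split_ifs <;> simp
  rw [← h2, h1]
  have h3 : ∑ g : G, e g * (χ : G → ℂ) g = (Finset.univ.filter (IsConj x)).card * (χ : G → ℂ) x := by
    have h4 : ∑ g : G, e g * (χ : G → ℂ) g = ∑ l ∈ Finset.univ.filter (IsConj x), (χ : G → ℂ) x := by
      rw [Finset.sum_filter]
      refine Finset.sum_congr rfl fun l _ => ?_
      simp only [e]
      split_ifs with h
      · obtain ⟨a, ha⟩ := isConj_iff.1 h
        rw [← ha, one_mul]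
        exact isClassFunction_of_isCharacter hχ x a
      · simp
    rw [h4, Finset.sum_const, nsmul_eq_mul]
  rw [Cfsg.Agent.Lib.BlockIdem.omega, h3]
  ring

/-- The main count: the `p`-singular products. -/
theorem main_count (hM : IsPModular p M) (x : G) (hx : orderOf x = p) (n : ℕ) (hn : 3 ≤ n)
    (hsing : ∀ χ ∈ principalBlock M G, ∀ g : G, p ∣ orderOf g → (χ : G → ℂ) g = (χ : G → ℂ) x)
    (hnorm : ∑ χ ∈ B₀ M G, (χ : G → ℂ) x * conj ((χ : G → ℂ) x) = n)
    (hint : ∀ χ ∈ B₀ M G, ∃ c : ℤ, (χ : G → ℂ) x = c)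
    (hdeg : ∀ χ ∈ B₀ M G, χ ≠ irrOne G → ∀ c : ℤ, (χ : G → ℂ) x = c → 0 < c →
      c + n ≤ charDegree (χ : G → ℂ))
    [DecidablePred (IsConj x)] [DecidablePred fun l => p ∣ orderOf (x * l)] :
    (n : ℝ) * ((Finset.univ.filter (IsConj x)).filter fun l => p ∣ orderOf (x * l)).card ≤
      (Finset.univ.filter (IsConj x)).card * (((n : ℝ) + 1) / 3) := by
  classical
  haveI := isPrime_of_isPModular hM
  set K := Finset.univ.filter (IsConj x) with hK
  set K₁ := K.filter fun l => p ∣ orderOf (x * l) with hK₁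
  have hxp : ∃ k : ℕ, orderOf x = p ^ k := ⟨1, by rw [pow_one, hx]⟩
  have hx1 : x ≠ 1 := by
    rintro rfl
    rw [orderOf_one] at hx
    exact hp.out.one_lt.ne hx
  choose! c hc using hint
  let d : IrrCharacter G → ℕ := fun χ => charDegree (χ : G → ℂ)
  have hone : ∀ χ : IrrCharacter G, (χ : G → ℂ) 1 = d χ := fun χ =>
    Cfsg.Agent.Lib.CharKernel.one_eq_charDegree (IsIrrCharacter.isCharacter χ.2)
  have hdpos : ∀ χ ∈ B₀ M G, 0 < d χ := fun χ _ => Cfsg.Agent.Lib.CharKernel.charDegree_pos χ.2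
  have hone_mem : irrOne G ∈ B₀ M G := mem_B₀.mpr (irrOne_mem_principalBlock M)
  have hcone : c (irrOne G) = 1 := by
    have h1 := hc _ hone_mem
    have h2 : ((irrOne G : IrrCharacter G) : G → ℂ) x = 1 := rfl
    rw [h2] at h1
    exact_mod_cast h1.symm
  have hdone : d (irrOne G) = 1 := by
    change ⌊((1 : ℂ)).re⌋₊ = 1
    simp
  -- the function `F`
  have hFsing : ∀ g : G, p ∣ orderOf g →
      ∑ χ ∈ B₀ M G, (χ : G → ℂ) x * (χ : G → ℂ) g = n := by
    intro g hg
    rw [← hnorm]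
    refine Finset.sum_congr rfl fun χ hχ => ?_
    rw [hsing χ (mem_B₀.mp hχ) g hg, hc χ hχ]
    simp
  have hFreg : ∀ g : G, ¬ p ∣ orderOf g →
      ∑ χ ∈ B₀ M G, (χ : G → ℂ) x * (χ : G → ℂ) g = 0 := by
    intro g hg
    have h1 := sum_reg hM hxp hx1 hg
    have h2 := congrArg conj h1
    rw [map_sum, map_zero] at h2
    rw [← h2]
    refine Finset.sum_congr rfl fun χ hχ => ?_
    rw [map_mul, Complex.conj_conj, hc χ hχ]
    simp
  -- integers
  have hsum : ∑ χ ∈ B₀ M G, (c χ) ^ 2 = n := by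
    have h1 : ((∑ χ ∈ B₀ M G, (c χ) ^ 2 : ℤ) : ℂ) = ((n : ℤ) : ℂ) := by
      push_cast
      rw [← hnorm]
      refine Finset.sum_congr rfl fun χ hχ => ?_
      rw [hc χ hχ]
      simp only [map_intCast]
      ring
    exact_mod_cast h1
  have hdc : ∑ χ ∈ B₀ M G, (d χ : ℤ) * c χ = 0 := by
    have h1 := hFreg 1 (by rw [orderOf_one]; exact fun h => hp.out.one_lt.ne' (Nat.dvd_one.mp h))
    have h2 : ((∑ χ ∈ B₀ M G, (d χ : ℤ) * c χ : ℤ) : ℂ) = ((0 : ℤ) : ℂ) := by
      push_cast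
      rw [← h1]
      refine Finset.sum_congr rfl fun χ hχ => ?_
      rw [hc χ hχ, hone χ]
      ring
    exact_mod_cast h2
  have hbound := arith_bound (B₀ M G) (irrOne G) hone_mem c d n hn hcone hdone hsum hdc
    (fun χ hχ hne hpos => hdeg χ hχ hne (c χ) (hc χ hχ) hpos) hdpos
  -- the double sum
  have hdouble : ∑ l ∈ K, ∑ χ ∈ B₀ M G, (χ : G → ℂ) x * (χ : G → ℂ) (x * l) = n * K₁.card := by
    have h1 : ∀ l ∈ K, ∑ χ ∈ B₀ M G, (χ : G → ℂ) x * (χ : G → ℂ) (x * l) =
        if p ∣ orderOf (x * l) then (n : ℂ) else 0 := by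
      intro l _
      split_ifs with h
      · exact hFsing _ h
      · exact hFreg _ h
    rw [Finset.sum_congr rfl h1, ← Finset.sum_filter, Finset.sum_const, nsmul_eq_mul, mul_comm]
  have hdouble2 : ∑ l ∈ K, ∑ χ ∈ B₀ M G, (χ : G → ℂ) x * (χ : G → ℂ) (x * l) =
      K.card * ∑ χ ∈ B₀ M G, ((c χ : ℂ) ^ 3 / (d χ : ℂ)) := by
    rw [Finset.sum_comm, Finset.mul_sum]
    refine Finset.sum_congr rfl fun χ hχ => ?_
    rw [← Finset.mul_sum, sum_K, hc χ hχ, hone χ]
    ring
  have hfin : (n : ℝ) * K₁.card = K.card * ∑ χ ∈ B₀ M G, ((c χ : ℝ) ^ 3 / (d χ : ℝ)) := by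
    apply Complex.ofReal_injective
    push_cast
    rw [← hdouble, hdouble2]
  rw [hfin]
  exact mul_le_mul_of_nonneg_left hbound (Nat.cast_nonneg _)

end Main

end Cfsg.Agent.Lib.SingConst
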