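import Mathlib
import Cfsg.Agent.Lib.DefectOne
import Cfsg.Agent.Lib.SingConst
import Cfsg.Agent.Lib.CharTwist
import Cfsg.Agent.Lib.BlockOrtho
import Cfsg.Agent.Lib.BlockVal
import Cfsg.Agent.S0942

set_option autoImplicit false
set_option linter.unusedSectionVars false
set_option linter.unusedVariables false
set_option linter.style.haveILetI false

namespace Cfsg.Agent.Lib.FrobBlock

open Cfsg.Agent.Lib

open Cfsg Cfsg.Agent.Lib.CharBasic Subgroup
open Cfsg.Agent.Lib.DefectOne (cj cj_coe chi alpha alpha_one alpha_smul smul_ne_one NT classInner_alpha classInner_chi isIrr_chi)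
open scoped ComplexConjugate

universe u

/-- **Sunflower lemma**, general form.  A family of at least two integer vectors with
`u_j · u_k = m + δ_{jk}` and equal weighted sums against a positive weight. -/
theorem sunflower_fintype {I J : Type*} [Fintype I] [DecidableEq I] [Fintype J] [DecidableEq J] (m : ℤ)
    (u : J → I → ℤ) (x : I → ℤ) (hx : ∀ i, 0 < x i)
    (hu : ∀ j k, ∑ i, u j i * u k i = m + if j = k then 1 else 0)
    (hd : ∀ j k, ∑ i, x i * u j i = ∑ i, x i * u k i)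
    (j₀ j₁ : J) (hj : j₁ ≠ j₀) :
    ∃ (w : I → ℤ) (e : J → I) (σ : ℤ), (σ = 1 ∨ σ = -1) ∧ Function.Injective e ∧
      ∀ j i, u j i = w i + σ * (if i = e j then 1 else 0) := by
  classical
  let d : J → I → ℤ := fun j i => u j i - u j₀ i
  have hdd : ∀ j k, j ≠ j₀ → k ≠ j₀ → ∑ i, d j i * d k i = (if j = k then 2 else 1) := by
    intro j k hj hk
    have h1 : ∑ i, d j i * d k i = ∑ i, u j i * u k i - ∑ i, u j i * u j₀ i - ∑ i, u j₀ i * u k i +
        ∑ i, u j₀ i * u j₀ i := by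
      rw [← Finset.sum_sub_distrib, ← Finset.sum_sub_distrib, ← Finset.sum_add_distrib]
      refine Finset.sum_congr rfl fun i _ => ?_
      simp only [d]
      ring
    rw [h1, hu, hu, hu, hu, if_neg hj, if_neg (Ne.symm hk), if_pos rfl]
    split_ifs <;> ring
  have hd0 : ∀ j, ∑ i, x i * d j i = 0 := by
    intro j
    have h1 : ∑ i, x i * d j i = ∑ i, x i * u j i - ∑ i, x i * u j₀ i := by
      rw [← Finset.sum_sub_distrib]
      refine Finset.sum_congr rfl fun i _ => ?_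
      simp only [d]
      ring
    rw [h1, hd j j₀, sub_self]
  have hpair : ∀ j, j ≠ j₀ → ∃ a b, a ≠ b ∧ d j a = 1 ∧ d j b = -1 ∧ ∀ k, k ≠ a → k ≠ b → d j k = 0 := by
    intro j hj
    apply Cfsg.Agent.Lib.DefectOne.exists_oriented_pair (d j) x hx _ (hd0 j)
    rw [hdd j j hj hj, if_pos rfl]
  have : Nonempty I := by
    obtain ⟨a₀, _⟩ := hpair j₁ hj
    exact ⟨a₀⟩
  choose! a b hab ha hb h0 using hpair
  have hval : ∀ j, j ≠ j₀ → ∀ i, d j i = (if i = a j then 1 else 0) - (if i = b j then 1 else 0) := by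
    intro j hj i
    by_cases h1 : i = a j
    · subst h1
      rw [ha j hj, if_pos rfl, if_neg (hab j hj)]
      ring
    · by_cases h2 : i = b j
      · subst h2
        rw [hb j hj, if_neg h1, if_pos rfl]
        ring
      · rw [h0 j hj i h1 h2, if_neg h1, if_neg h2]
        ring
  -- the inner product in terms of the pairs
  have hip : ∀ j k, j ≠ j₀ → k ≠ j₀ → j ≠ k → d j (a k) - d j (b k) = 1 := by
    intro j k hj hk hjk
    have h1 := hdd j k hj hk
    rw [if_neg hjk] at h1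
    rw [← h1]
    have h2 : ∑ i, d j i * d k i = ∑ i, (d j i * (if i = a k then 1 else 0) - d j i * (if i = b k then 1 else 0)) := by
      refine Finset.sum_congr rfl fun i _ => ?_
      rw [hval k hk i]
      ring
    rw [h2, Finset.sum_sub_distrib]
    simp
  -- sharing
  have hshare : ∀ j k, j ≠ j₀ → k ≠ j₀ → j ≠ k →
      (a j = a k ∧ b j ≠ b k) ∨ (a j ≠ a k ∧ b j = b k) := by
    intro j k hj hk hjk
    have h1 := hip j k hj hk hjk
    rw [hval j hj (a k), hval j hj (b k)] at h1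
    have h2 := hab k hk
    have h3 := hab j hj
    by_cases e1 : a k = a j <;> by_cases e2 : a k = b j <;> by_cases e3 : b k = a j <;>
      by_cases e4 : b k = b j <;> simp only [e1, e2, e3, e4, if_true, if_false] at h1 <;> try omega
    all_goals first
      | exact Or.inl ⟨e1.symm, fun h => e4 h.symm⟩
      | exact Or.inr ⟨fun h => e1 h.symm, e4.symm⟩
      | (exfalso; simp_all)
  have htype : (∀ j, j ≠ j₀ → a j = a j₁) ∨ (∀ j, j ≠ j₀ → b j = b j₁) := by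
    by_cases h : ∀ j, j ≠ j₀ → a j = a j₁
    · exact Or.inl h
    · right
      push Not at h
      obtain ⟨j₂, hj₂, hne⟩ := h
      have h21 : j₂ ≠ j₁ := fun h => hne (by rw [h])
      have hb21 : b j₂ = b j₁ := by
        rcases hshare j₂ j₁ hj₂ hj h21 with h | h
        · exact absurd h.1 hne
        · exact h.2
      intro l hl
      by_cases hl1 : l = j₁
      · rw [hl1]
      by_cases hl2 : l = j₂
      · rw [hl2, hb21]
      by_contra hb
      have h1 : a l = a j₁ := by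
        rcases hshare l j₁ hl hj hl1 with h | h
        · exact h.1
        · exact absurd h.2 hb
      have h2 : a l = a j₂ := by
        rcases hshare l j₂ hl hj₂ hl2 with h | h
        · exact h.1
        · exact absurd (h.2.trans hb21) hb
      exact hne (h2.symm.trans h1)
  have huj : ∀ j, j ≠ j₀ → ∀ i, u j i = u j₀ i + ((if i = a j then 1 else 0) - (if i = b j then 1 else 0)) := by
    intro j hj i
    rw [← hval j hj i]
    simp only [d]
    ring
  rcases htype with hA | hB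
  · -- all `a` equal
    refine ⟨fun i => u j₀ i + (if i = a j₁ then 1 else 0), fun j => if j = j₀ then a j₁ else b j, -1,
      Or.inr rfl, ?_, ?_⟩
    · intro j k hjk
      simp only at hjk
      by_cases h1 : j = j₀ <;> by_cases h2 : k = j₀
      · rw [h1, h2]
      · exfalso
        rw [if_pos h1, if_neg h2] at hjk
        apply hab k h2
        rw [hA k h2, hjk]
      · exfalso
        rw [if_neg h1, if_pos h2] at hjk
        apply hab j h1
        rw [hA j h1, hjk]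
      · rw [if_neg h1, if_neg h2] at hjk
        by_contra hne
        rcases hshare j k h1 h2 hne with h | h
        · exact h.2 hjk
        · exact h.1 ((hA j h1).trans (hA k h2).symm)
    · intro j i
      by_cases h1 : j = j₀
      · subst h1
        simp only [if_true]
        ring
      · rw [huj j h1 i]
        simp only [if_neg h1]
        rw [hA j h1]
        ring
  · let β := b j₁
    refine ⟨fun i => u j₀ i - (if i = b j₁ then 1 else 0), fun j => if j = j₀ then b j₁ else a j, 1,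
      Or.inl rfl, ?_, ?_⟩
    · intro j k hjk
      simp only at hjk
      by_cases h1 : j = j₀ <;> by_cases h2 : k = j₀
      · rw [h1, h2]
      · exfalso
        rw [if_pos h1, if_neg h2] at hjk
        apply hab k h2
        rw [hB k h2, ← hjk]
      · exfalso
        rw [if_neg h1, if_pos h2] at hjk
        apply hab j h1
        rw [hB j h1, hjk]
      · rw [if_neg h1, if_neg h2] at hjk
        by_contra hne
        rcases hshare j k h1 h2 hne with h | h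
        · exact h.2 ((hB j h1).trans (hB k h2).symm)
        · exact h.1 hjk
    · intro j i
      by_cases h1 : j = j₀
      · subst h1
        simp only [if_true]
        ring
      · rw [huj j h1 i]
        simp only [if_neg h1]
        rw [hB j h1]
        ring

/-- **Sunflower lemma** over a finite set of indices. -/
theorem sunflower {ι J : Type*} [DecidableEq ι] [Fintype J] [DecidableEq J] (B : Finset ι) (m : ℤ)
    (u : J → ι → ℤ) (x : ι → ℤ) (hx : ∀ i ∈ B, 0 < x i)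
    (hu : ∀ j k, ∑ i ∈ B, u j i * u k i = m + if j = k then 1 else 0)
    (hd : ∀ j k, ∑ i ∈ B, x i * u j i = ∑ i ∈ B, x i * u k i)
    (j₀ j₁ : J) (hj : j₁ ≠ j₀) :
    ∃ (w : ι → ℤ) (e : J → ι) (σ : ℤ), (σ = 1 ∨ σ = -1) ∧ Function.Injective e ∧ (∀ j, e j ∈ B) ∧
      ∀ j, ∀ i ∈ B, u j i = w i + σ * (if i = e j then 1 else 0) := by
  obtain ⟨w, e, σ, hσ, he, hf⟩ := sunflower_fintype (I := ↥B) m (fun j i => u j i.1) (fun i => x i.1)
    (fun i => hx i.1 i.2)
    (by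
      intro j k
      rw [Finset.sum_coe_sort B (fun i => u j i * u k i)]
      exact hu j k)
    (by
      intro j k
      rw [Finset.sum_coe_sort B (fun i => x i * u j i), Finset.sum_coe_sort B (fun i => x i * u k i)]
      exact hd j k)
    j₀ j₁ hj
  refine ⟨fun i => if h : i ∈ B then w ⟨i, h⟩ else 0, fun j => (e j).1, σ, hσ, fun a b h => he (Subtype.ext h),
    fun j => (e j).2, ?_⟩
  intro j i hi
  have h1 := hf j ⟨i, hi⟩
  simp only [dif_pos hi]
  rw [show u j i = w ⟨i, hi⟩ + σ * (if (⟨i, hi⟩ : ↥B) = e j then 1 else 0) from h1]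
  congr 2
  simp [Subtype.ext_iff]

theorem sum_sq_expand {ι : Type*} [DecidableEq ι] (B : Finset ι) (w : ι → ℤ) (σ : ℤ) {a b : ι} (ha : a ∈ B) (hb : b ∈ B) :
    ∑ i ∈ B, (w i + σ * (if i = a then 1 else 0)) * (w i + σ * (if i = b then 1 else 0)) =
      ∑ i ∈ B, w i ^ 2 + σ * (w a + w b) + σ ^ 2 * (if a = b then 1 else 0) := by
  have h1 : ∀ i ∈ B, (w i + σ * (if i = a then 1 else 0)) * (w i + σ * (if i = b then 1 else 0)) =
      w i ^ 2 + σ * ((if i = a then w i else 0) + (if i = b then w i else 0)) +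
        σ ^ 2 * (if i = a then (if a = b then 1 else 0) else 0) := by
    intro i _
    by_cases h1 : i = a <;> by_cases h2 : i = b <;> by_cases h3 : a = b <;> simp_all <;> ring
  rw [Finset.sum_congr rfl h1, Finset.sum_add_distrib, Finset.sum_add_distrib, ← Finset.mul_sum, ← Finset.mul_sum,
    Finset.sum_add_distrib, Finset.sum_ite_eq' B a, Finset.sum_ite_eq' B b, Finset.sum_ite_eq' B a,
    if_pos ha, if_pos hb, if_pos ha]

section Dual

variable {A : Type*} [Group A] [Finite A]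

theorem card_dual (hc : ∀ a b : A, a * b = b * a) : Nat.card (A →* ℂˣ) = Nat.card A := by
  letI : CommGroup A := { (inferInstance : Group A) with mul_comm := hc }
  exact Cfsg.Agent.Lib.CharTwist.card_hom

theorem finite_dual (hc : ∀ a b : A, a * b = b * a) : Finite (A →* ℂˣ) := by
  apply Nat.finite_of_card_ne_zero
  rw [card_dual hc]
  exact Nat.card_pos.ne'

theorem sum_dual (hc : ∀ a b : A, a * b = b * a) [Fintype (A →* ℂˣ)] (y : A) [Decidable (y = 1)] :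
    ∑ l : A →* ℂˣ, ((l y : ℂˣ) : ℂ) = if y = 1 then (Nat.card A : ℂ) else 0 := by
  letI : CommGroup A := { (inferInstance : Group A) with mul_comm := hc }
  exact Cfsg.Agent.Lib.CharTwist.sum_hom y

theorem conj_hom (l : A →* ℂˣ) (a : A) : conj ((l a : ℂˣ) : ℂ) = ((l a⁻¹ : ℂˣ) : ℂ) := by
  have h1 := Cfsg.Agent.Lib.CharTwist.hom_mul_conj l a
  have h2 : ((l a : ℂˣ) : ℂ) * ((l a⁻¹ : ℂˣ) : ℂ) = 1 := by
    rw [← Units.val_mul, ← map_mul, mul_inv_cancel, map_one, Units.val_one]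
  have h3 : ((l a : ℂˣ) : ℂ) ≠ 0 := Units.ne_zero _
  exact mul_left_cancel₀ h3 (h1.trans h2.symm)

/-- Fourier inversion. -/
theorem sum_classInner_mul [Fintype A] (hc : ∀ a b : A, a * b = b * a) [Fintype (A →* ℂˣ)] (f : A → ℂ) (y : A) :
    ∑ l : A →* ℂˣ, classInner f (fun a => ((l a : ℂˣ) : ℂ)) * ((l y : ℂˣ) : ℂ) = f y := by
  classical
  unfold classInner
  have hA : (Nat.card A : ℂ) ≠ 0 := by exact_mod_cast Nat.card_pos.ne'
  have h1 : ∀ l : A →* ℂˣ, (Nat.card A : ℂ)⁻¹ * (∑ a : A, f a * conj ((l a : ℂˣ) : ℂ)) * ((l y : ℂˣ) : ℂ) =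
      (Nat.card A : ℂ)⁻¹ * ∑ a : A, f a * ((l (a⁻¹ * y) : ℂˣ) : ℂ) := by
    intro l
    rw [mul_assoc, Finset.sum_mul]
    congr 1
    refine Finset.sum_congr rfl fun a _ => ?_
    rw [conj_hom, map_mul, Units.val_mul, mul_assoc]
  simp_rw [h1]
  rw [← Finset.mul_sum, Finset.sum_comm]
  simp_rw [← Finset.mul_sum, sum_dual hc]
  rw [Finset.sum_eq_single y]
  · rw [inv_mul_cancel, if_pos rfl]
    field_simp
  · intro a _ ha
    rw [if_neg, mul_zero]
    intro h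
    exact ha (inv_mul_eq_one.mp h)
  · intro h
    exact absurd (Finset.mem_univ _) h

end Dual

section Fiber

/-- Fibres of a map with cosets of `K` as its fibres. -/
theorem card_fiber {H X : Type*} [Group H] [Fintype H] [DecidableEq X] (f : H → X) (K : Subgroup H)
    (hK : ∀ a b, f a = f b ↔ a⁻¹ * b ∈ K) (x : X) [Decidable (∃ a, f a = x)] :
    (Finset.univ.filter (fun a => f a = x)).card = if ∃ a, f a = x then Nat.card K else 0 := by
  classical
  split_ifs with h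
  · obtain ⟨a₀, rfl⟩ := h
    rw [← Fintype.card_subtype, ← Nat.card_eq_fintype_card]
    refine Nat.card_congr ⟨fun a => ⟨a₀⁻¹ * a.1, (hK _ _).1 a.2.symm⟩, fun k => ⟨a₀ * k.1, ?_⟩, ?_, ?_⟩
    · refine ((hK _ _).2 ?_).symm
      simp
    · intro a
      apply Subtype.ext
      simp
    · intro k
      apply Subtype.ext
      simp
  · rw [Finset.card_eq_zero, Finset.filter_eq_empty_iff]
    intro a _ ha
    exact h ⟨a, ha⟩

end Fiber

section Bb

variable {G : Type u} [Group G]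

/-- The difference of two multiplicities, as an inner product. -/
noncomputable def bb {P : Subgroup G} [Fintype P] (χ : G → ℂ) (ψ : ↥P →* ℂˣ) : ℂ :=
  classInner (fun a : P => χ a) (alpha ψ)

theorem bb_eq {P : Subgroup G} [Fintype P] (χ : G → ℂ) (ψ : ↥P →* ℂˣ) :
    bb χ ψ = classInner (fun a : P => χ a) (fun a => ((ψ a : ℂˣ) : ℂ)) -
      classInner (fun a : P => χ a) (fun a => (((1 : ↥P →* ℂˣ) a : ℂˣ) : ℂ)) := by
  unfold bb alpha
  rw [classInner_sub_right]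
  rfl

theorem exists_int_bb [Fintype G] {P : Subgroup G} [Fintype P] (χ : IrrCharacter G) (ψ : ↥P →* ℂˣ) :
    ∃ b : ℤ, bb (χ : G → ℂ) ψ = b := by
  obtain ⟨n₁, h₁⟩ := classInner_char_irr (isCharacter_restrict P (IsIrrCharacter.isCharacter χ.2)) (isIrr_chi ψ)
  obtain ⟨n₂, h₂⟩ := classInner_char_irr (isCharacter_restrict P (IsIrrCharacter.isCharacter χ.2))
    (isIrr_chi (1 : ↥P →* ℂˣ))
  refine ⟨n₁ - n₂, ?_⟩
  unfold bb alpha
  rw [classInner_sub_right, h₁, h₂]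
  push_cast
  ring

/-- Conjugation by an element of the normalizer, as a permutation. -/
def cjEquiv (P : Subgroup G) (n : normalizer (P : Set G)) : ↥P ≃ ↥P where
  toFun := cj P n
  invFun := cj P n⁻¹
  left_inv w := by
    apply Subtype.ext
    simp [cj_coe]
    group
  right_inv w := by
    apply Subtype.ext
    simp [cj_coe]
    group

theorem bb_smul [Fintype G] {P : Subgroup G} [Fintype P] (χ : IrrCharacter G) (n : normalizer (P : Set G)) (ψ : ↥P →* ℂˣ) :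
    bb (χ : G → ℂ) (n • ψ) = bb (χ : G → ℂ) ψ := by
  unfold bb classInner
  congr 1
  refine Fintype.sum_equiv (cjEquiv P n) _ _ fun a => ?_
  rw [alpha_smul]
  have h := isClassFunction_of_isCharacter (IsIrrCharacter.isCharacter χ.2) (a : G) (n : G)⁻¹
  change _ = (χ : G → ℂ) ((cj P n a : ↥P) : G) * _
  rw [cj_coe]
  congr 1
  change (χ : G → ℂ) a = _
  rw [← h]
  simp

end Bb

section Main

variable {G : Type u} [Group G] [Fintype G] {p : ℕ} [hp : Fact p.Prime] {M : Ideal AlgInt}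

/-- The hypotheses on the Sylow subgroup. -/
structure Hyp (P : Sylow p G) : Prop where
  comm : ∀ a ∈ (P : Subgroup G), ∀ b ∈ (P : Subgroup G), a * b = b * a
  frob : ∀ y : G, y ∈ (P : Subgroup G) → y ≠ 1 →
    centralizer ({y} : Set G) ⊓ normalizer ((P : Subgroup G) : Set G) =
      centralizer ((P : Subgroup G) : Set G)

variable {P : Sylow p G} (H : Hyp P)
include H

set_option quotPrecheck false in
local notation "𝔸" => ↥(P : Subgroup G)
set_option quotPrecheck false in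
local notation "𝔑" => ↥(normalizer ((P : Subgroup G) : Set G))

theorem Hyp.commA (a b : 𝔸) : a * b = b * a :=
  Subtype.ext (H.comm a a.2 b b.2)

theorem Hyp.exists_complement {y : G} (hy : y ∈ (P : Subgroup G)) (hy1 : y ≠ 1) :
    ∃ (N : Subgroup (centralizer ({y} : Set G))) (_ : N.Normal) (m : ℕ), ¬ p ∣ Nat.card N ∧
      N.index = p ^ m ∧ Nat.card (P : Subgroup G) = p ^ m := by
  classical
  have hPH : (P : Subgroup G) ≤ centralizer ({y} : Set G) := by
    intro a ha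
    rw [mem_centralizer_singleton_iff]
    exact H.comm a ha y hy
  let S : Sylow p (centralizer ({y} : Set G)) := P.subtype hPH
  have hS : (S : Subgroup (centralizer ({y} : Set G))) = (P : Subgroup G).subgroupOf (centralizer ({y} : Set G)) := P.coe_subtype hPH
  have hN : normalizer ((S : Subgroup (centralizer ({y} : Set G))) : Set (centralizer ({y} : Set G))) ≤ centralizer ((S : Subgroup (centralizer ({y} : Set G))) : Set (centralizer ({y} : Set G))) := by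
    intro x hx
    rw [mem_centralizer_iff]
    intro s hs
    have hsP : (s : G) ∈ (P : Subgroup G) := by
      have : s ∈ (P : Subgroup G).subgroupOf (centralizer ({y} : Set G)) := by rw [← hS]; exact hs
      exact this
    have hxN : (x : G) ∈ normalizer ((P : Subgroup G) : Set G) := by
      rw [mem_normalizer_iff]
      intro g
      have hx' := mem_normalizer_iff.1 hx
      constructor
      · intro hg
        have h1 := (hx' ⟨g, hPH hg⟩).1 (by
          rw [hS]; exact hg)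
        rw [hS] at h1
        exact h1
      · intro hg
        have hgH : g ∈ centralizer ({y} : Set G) := by
          have h2 := hPH hg
          have h3 : (x : G)⁻¹ * ((x : G) * g * (x : G)⁻¹) * x ∈ centralizer ({y} : Set G) :=
            (centralizer ({y} : Set G)).mul_mem
              ((centralizer ({y} : Set G)).mul_mem ((centralizer ({y} : Set G)).inv_mem x.2) h2) x.2
          have h4 : (x : G)⁻¹ * ((x : G) * g * (x : G)⁻¹) * x = g := by group
          rwa [h4] at h3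
        have h1 := (hx' ⟨g, hgH⟩).2 (by
          rw [hS]; exact hg)
        rw [hS] at h1
        exact h1
    have hxC : (x : G) ∈ centralizer ((P : Subgroup G) : Set G) := by
      rw [← H.frob y hy hy1]
      exact ⟨x.2, hxN⟩
    apply Subtype.ext
    exact (mem_centralizer_iff.1 hxC) s hsP
  have hcomp := MonoidHom.ker_transferSylow_isComplement' S hN
  have hnd := MonoidHom.not_dvd_card_ker_transferSylow S hN
  obtain ⟨m, hm⟩ := P.isPGroup'.exists_card_eq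
  have hcardS : Nat.card (S : Subgroup (centralizer ({y} : Set G))) = Nat.card (P : Subgroup G) := by
    rw [hS]
    exact Nat.card_congr (Subgroup.subgroupOfEquivOfLe hPH).toEquiv
  refine ⟨(MonoidHom.transferSylow S hN).ker, inferInstance, m, hnd, ?_, hm⟩
  rw [hcomp.symm.index_eq_card, hcardS, hm]

theorem Hyp.pelt {y : G} (hy : y ∈ (P : Subgroup G)) : ∃ k : ℕ, orderOf y = p ^ k := by
  obtain ⟨k, hk⟩ := IsPGroup.iff_orderOf.mp P.isPGroup' ⟨y, hy⟩
  exact ⟨k, by rw [← hk, Subgroup.orderOf_mk]⟩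

/-- The characters of the principal block on `p`-sections. -/
theorem Hyp.value_eq (hM : IsPModular p M) {χ : IrrCharacter G} (hχ : χ ∈ principalBlock M G)
    {z y : G} (hzy : IsPPart p z y) (hy : y ∈ (P : Subgroup G)) (hy1 : y ≠ 1) :
    (χ : G → ℂ) z = (χ : G → ℂ) y := by
  classical
  obtain ⟨x, rfl, hcomm, hk, hx⟩ := hzy
  obtain ⟨N, hNn, m, hN, hQ, hPm⟩ := H.exists_complement hy hy1
  haveI := hNn
  have hxH : x ∈ centralizer ({y} : Set G) := by
    rw [mem_centralizer_singleton_iff]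
    exact hcomm.eq.symm
  have huo : ¬ p ∣ orderOf (⟨x, hxH⟩ : centralizer ({y} : Set G)) := by
    rwa [Subgroup.orderOf_mk]
  have hucore := Cfsg.Agent.Lib.SingConst.mem_pPrimeCore_of_coprime N hN m hQ huo
  exact Cfsg.Agent.S0942.result p M hM y hk x ⟨⟨x, hxH⟩, hucore, rfl⟩ χ hχ

theorem Hyp.sum_norm (hM : IsPModular p M) {y : G} (hy : y ∈ (P : Subgroup G)) (hy1 : y ≠ 1) :
    ∑ χ ∈ Cfsg.Agent.Lib.SingConst.B₀ M G, (χ : G → ℂ) y * conj ((χ : G → ℂ) y) =
      (Nat.card (P : Subgroup G) : ℂ) := by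
  classical
  obtain ⟨N, hNn, m, hN, hQ, hPm⟩ := H.exists_complement hy hy1
  haveI := hNn
  letI : Fintype (centralizer ({y} : Set G)) := Fintype.ofFinite _
  have h1 := Cfsg.Agent.Lib.BlockSection.sum_principal_norm (G := G) (H := centralizer ({y} : Set G)) hM
      (z := y) (H.pelt hy) rfl
  rw [Cfsg.Agent.Lib.SingConst.finsum_B₀] at h1
  rw [h1, Cfsg.Agent.Lib.SingConst.sum_principal_deg_sq hM N hN m hQ, hQ, hPm]

theorem Hyp.sum_pp (hM : IsPModular p M) {y y' : G} (hy : y ∈ (P : Subgroup G)) (hy1 : y ≠ 1)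
    (hy' : y' ∈ (P : Subgroup G)) [Decidable (IsConj y y')] :
    ∑ χ ∈ Cfsg.Agent.Lib.SingConst.B₀ M G, (χ : G → ℂ) y * conj ((χ : G → ℂ) y') =
      if IsConj y y' then (Nat.card (P : Subgroup G) : ℂ) else 0 := by
  classical
  split_ifs with h
  · rw [← H.sum_norm hM hy hy1]
    refine Finset.sum_congr rfl fun χ _ => ?_
    obtain ⟨c, rfl⟩ := isConj_iff.1 h
    have := isClassFunction_of_isCharacter (IsIrrCharacter.isCharacter χ.2) y c
    rw [this]
  · have := Cfsg.Agent.Lib.BlockSection.sum_block_pelement_eq_zero hM (H.pelt hy) (H.pelt hy') h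
      (Cfsg.Agent.Lib.BlockNormal.isPBlock_principalBlock M)
    rw [Cfsg.Agent.Lib.SingConst.finsum_B₀] at this
    exact this

theorem Hyp.stab {g : 𝔸 →* ℂˣ} (hg : g ≠ 1) (n : 𝔑) :
    n • g = g ↔ (n : G) ∈ centralizer ((P : Subgroup G) : Set G) := by
  constructor
  · intro hn
    by_contra hnC
    apply hg
    have hfp : ∀ w : 𝔸, cj (P : Subgroup G) n w = w → w = 1 := by
      intro w hw
      by_contra hw1
      have hw1' : (w : G) ≠ 1 := fun h => hw1 (Subtype.ext h)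
      apply hnC
      rw [← H.frob w w.2 hw1']
      have h3 : (n : G)⁻¹ * w * n = w := congrArg Subtype.val hw
      have h4 : (n : G) ∈ centralizer ({(w : G)} : Set G) := by
        rw [mem_centralizer_singleton_iff]
        calc (n : G) * w = n * ((n : G)⁻¹ * w * n) := by rw [h3]
          _ = w * n := by group
      exact Subgroup.mem_inf.2 ⟨h4, n.2⟩
    let φ : 𝔸 → 𝔸 := fun w => cj (P : Subgroup G) n w * w⁻¹
    have hinj : Function.Injective φ := by
      intro a b hab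
      have h1 : cj (P : Subgroup G) n (a * b⁻¹) = a * b⁻¹ := by
        rw [map_mul, map_inv]
        have h2 : cj (P : Subgroup G) n a * a⁻¹ = cj (P : Subgroup G) n b * b⁻¹ := hab
        have h3 := H.commA a b⁻¹
        have h4 := H.commA (cj (P : Subgroup G) n a) (cj (P : Subgroup G) n b)⁻¹
        calc cj (P : Subgroup G) n a * (cj (P : Subgroup G) n b)⁻¹ = (cj (P : Subgroup G) n a * a⁻¹) * (a * (cj (P : Subgroup G) n b)⁻¹) := by group
          _ = (cj (P : Subgroup G) n b * b⁻¹) * (a * (cj (P : Subgroup G) n b)⁻¹) := by rw [h2]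
          _ = cj (P : Subgroup G) n b * (b⁻¹ * a) * (cj (P : Subgroup G) n b)⁻¹ := by group
          _ = (b⁻¹ * a) := by
              rw [H.commA (cj (P : Subgroup G) n b) (b⁻¹ * a)]
              group
          _ = a * b⁻¹ := by rw [H.commA b⁻¹ a]
      have := hfp _ h1
      exact mul_inv_eq_one.mp this
    have hsurj := Finite.injective_iff_surjective.mp hinj
    ext w
    obtain ⟨v, rfl⟩ := hsurj w
    simp only [φ, map_mul, map_inv]
    have h2 : g (cj (P : Subgroup G) n v) = g v := by rw [← DefectOne.smul_apply, hn]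
    rw [h2]
    simp
  · intro hn
    ext w
    rw [DefectOne.smul_apply]
    congr 2
    apply Subtype.ext
    rw [cj_coe]
    have h5 := (mem_centralizer_iff.1 hn) w w.2
    calc (n : G)⁻¹ * w * n = (n : G)⁻¹ * (w * n) := by group
      _ = (n : G)⁻¹ * (n * w) := by rw [h5]
      _ = w := by group

omit H in
theorem card_sub_eq : Nat.card ((centralizer ((P : Subgroup G) : Set G)).subgroupOf (normalizer ((P : Subgroup G) : Set G))) =
    Nat.card (centralizer ((P : Subgroup G) : Set G)) :=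
  Nat.card_congr (subgroupOfEquivOfLe (centralizer_le_normalizer _)).toEquiv

theorem Hyp.card_fiber_dual [Fintype 𝔑] {g : 𝔸 →* ℂˣ} (hg : g ≠ 1)
    (f : 𝔸 →* ℂˣ) [DecidableEq (𝔸 →* ℂˣ)]
    [Decidable (∃ n : 𝔑, n • g = f)] :
    (Finset.univ.filter (fun n : 𝔑 => n • g = f)).card =
      if ∃ n : 𝔑, n • g = f then
        Nat.card (centralizer ((P : Subgroup G) : Set G)) else 0 := by
  rw [card_fiber (fun n : 𝔑 => n • g)
    ((centralizer ((P : Subgroup G) : Set G)).subgroupOf (normalizer ((P : Subgroup G) : Set G))), card_sub_eq]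
  intro a b
  rw [mem_subgroupOf]
  have h1 := H.stab hg (a⁻¹ * b)
  rw [← h1, mul_smul, inv_smul_eq_iff]
  exact eq_comm

theorem Hyp.isConj_iff {y y' : 𝔸} :
    IsConj (y : G) (y' : G) ↔ ∃ n : 𝔑, cj (P : Subgroup G) n⁻¹ y = y' := by
  have hC : ∀ u : 𝔸, (u : G) ∈ centralizer ((P : Subgroup G) : Set G) := by
    intro u
    rw [mem_centralizer_iff]
    intro v hv
    exact H.comm v hv u u.2
  constructor
  · intro h
    obtain ⟨c, hc⟩ := _root_.isConj_iff.1 h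
    have hy2 : c * y * c⁻¹ ∈ centralizer ((P : Subgroup G) : Set G) := by
      rw [hc]
      exact hC y'
    obtain ⟨n, hn, hn2⟩ := P.conj_eq_normalizer_conj_of_mem_centralizer (y : G) c⁻¹ (hC y)
      (by simpa using hy2)
    refine ⟨⟨n⁻¹, (normalizer ((P : Subgroup G) : Set G)).inv_mem hn⟩, ?_⟩
    apply Subtype.ext
    rw [← hc, cj_coe]
    simp only [Subgroup.coe_inv, inv_inv] at hn2 ⊢
    exact hn2.symm
  · rintro ⟨n, rfl⟩
    refine _root_.isConj_iff.2 ⟨(n : G), ?_⟩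
    rw [cj_coe]
    simp

theorem Hyp.card_fiber_act [Fintype 𝔑] [Fintype 𝔸] {y : 𝔸} (hy : y ≠ 1)
    (y' : 𝔸) [DecidableEq 𝔸] [Decidable (IsConj (y : G) (y' : G))] :
    (Finset.univ.filter (fun n : 𝔑 => cj (P : Subgroup G) n⁻¹ y = y')).card =
      if IsConj (y : G) (y' : G) then Nat.card (centralizer ((P : Subgroup G) : Set G)) else 0 := by
  classical
  rw [card_fiber (fun n : 𝔑 => cj (P : Subgroup G) n⁻¹ y)
    ((centralizer ((P : Subgroup G) : Set G)).subgroupOf (normalizer ((P : Subgroup G) : Set G))), card_sub_eq]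
  · simp only [H.isConj_iff]
  · intro a b
    rw [mem_subgroupOf]
    have hy' : (y : G) ≠ 1 := fun h => hy (Subtype.ext h)
    rw [← H.frob y y.2 hy']
    constructor
    · intro h
      have h1 : (a : G) * y * (a : G)⁻¹ = (b : G) * y * (b : G)⁻¹ := by
        have := congrArg Subtype.val h
        simpa [cj_coe] using this
      have h5 : ((a⁻¹ * b : 𝔑) : G) ∈ centralizer ({(y : G)} : Set G) := by
        rw [mem_centralizer_singleton_iff]
        simp only [Subgroup.coe_mul, InvMemClass.coe_inv]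
        have h2 : (b : G) * y = (a : G) * y * (a : G)⁻¹ * b := by
          rw [h1]; group
        calc (a : G)⁻¹ * b * y = (a : G)⁻¹ * (b * y) := by group
          _ = (a : G)⁻¹ * ((a : G) * y * (a : G)⁻¹ * b) := by rw [h2]
          _ = y * ((a : G)⁻¹ * b) := by group
      exact Subgroup.mem_inf.2 ⟨h5, (a⁻¹ * b).2⟩
    · intro h
      have h1 := mem_centralizer_singleton_iff.1 h.1
      simp only [Subgroup.coe_mul, InvMemClass.coe_inv] at h1
      apply Subtype.ext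
      simp only [cj_coe, InvMemClass.coe_inv, inv_inv]
      have h2 : (b : G) * y = (a : G) * y * (a : G)⁻¹ * b := by
        calc (b : G) * y = a * ((a : G)⁻¹ * b * y) := by group
          _ = a * (y * ((a : G)⁻¹ * b)) := by rw [h1]
          _ = _ := by group
      calc (a : G) * y * (a : G)⁻¹ = (a : G) * y * (a : G)⁻¹ * b * (b : G)⁻¹ := by group
        _ = b * y * (b : G)⁻¹ := by rw [h2]

theorem Hyp.sum_act [Fintype 𝔑] [Fintype 𝔸] {y : 𝔸} (hy : y ≠ 1)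
    (F : 𝔸 → ℂ) [DecidableEq 𝔸] [DecidablePred (fun y' : 𝔸 => IsConj (y : G) (y' : G))] :
    ∑ n : 𝔑, F (cj (P : Subgroup G) n⁻¹ y) =
      (Nat.card (centralizer ((P : Subgroup G) : Set G)) : ℂ) *
        ∑ y' : 𝔸, if IsConj (y : G) (y' : G) then F y' else 0 := by
  classical
  rw [← Finset.sum_fiberwise Finset.univ (fun n : 𝔑 => cj (P : Subgroup G) n⁻¹ y), Finset.mul_sum]
  refine Finset.sum_congr rfl fun y' _ => ?_
  have h1 : ∑ n ∈ Finset.univ.filter (fun n : 𝔑 => cj (P : Subgroup G) n⁻¹ y = y'), F (cj (P : Subgroup G) n⁻¹ y) =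
      ∑ n ∈ Finset.univ.filter (fun n : 𝔑 => cj (P : Subgroup G) n⁻¹ y = y'), F y' :=
    Finset.sum_congr rfl fun n hn => by rw [(Finset.mem_filter.mp hn).2]
  rw [h1, Finset.sum_const, H.card_fiber_act hy y', nsmul_eq_mul]
  split_ifs <;> simp

theorem Hyp.sum_bb_reg [Fintype 𝔸] (hM : IsPModular p M) (ψ : 𝔸 →* ℂˣ) {g : G} (hg : ¬ p ∣ orderOf g) :
    ∑ χ ∈ SingConst.B₀ M G, bb (χ : G → ℂ) ψ * conj ((χ : G → ℂ) g) = 0 := by
  classical
  unfold bb classInner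
  simp_rw [mul_assoc, Finset.sum_mul, Finset.mul_sum]
  rw [Finset.sum_comm]
  refine Finset.sum_eq_zero fun y _ => ?_
  by_cases hy : y = 1
  · rw [hy]
    simp [alpha_one]
  · have hy' : (y : G) ≠ 1 := fun h => hy (Subtype.ext h)
    have h1 := SingConst.sum_reg hM (H.pelt y.2) hy' hg
    have h2 : ∑ χ ∈ SingConst.B₀ M G, (Nat.card 𝔸 : ℂ)⁻¹ * ((χ : G → ℂ) y * conj (alpha ψ y) * conj ((χ : G → ℂ) g)) =
        (Nat.card 𝔸 : ℂ)⁻¹ * conj (alpha ψ y) * ∑ χ ∈ SingConst.B₀ M G, (χ : G → ℂ) y * conj ((χ : G → ℂ) g) := by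
      rw [Finset.mul_sum]
      refine Finset.sum_congr rfl fun χ _ => ?_
      ring
    rw [h2, h1, mul_zero]

omit H in
theorem sum_mul_conj_expand {ι A : Type*} [Fintype A] (B : Finset ι) (f : ι → A → ℂ) (a a' : A → ℂ) (D : ℂ) :
    ∑ i ∈ B, (D * ∑ y, f i y * conj (a y)) * conj (D * ∑ y, f i y * conj (a' y)) =
      D * conj D * ∑ y, ∑ y', conj (a y) * a' y' * ∑ i ∈ B, f i y * conj (f i y') := by
  simp only [map_mul, map_sum, Complex.conj_conj]
  have h1 : ∀ i ∈ B, (D * ∑ y, f i y * conj (a y)) * (conj D * ∑ y, conj (f i y) * a' y) =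
      D * conj D * ∑ y, ∑ y', conj (a y) * a' y' * (f i y * conj (f i y')) := by
    intro i _
    rw [mul_mul_mul_comm, Finset.sum_mul_sum]
    congr 1
    refine Finset.sum_congr rfl fun y _ => Finset.sum_congr rfl fun y' _ => ?_
    ring
  rw [Finset.sum_congr rfl h1, ← Finset.mul_sum]
  congr 1
  rw [Finset.sum_comm]
  refine Finset.sum_congr rfl fun y _ => ?_
  rw [Finset.sum_comm]
  refine Finset.sum_congr rfl fun y' _ => ?_
  rw [Finset.mul_sum]

theorem Hyp.sum_bb_mul [Fintype 𝔸] [Fintype 𝔑] [DecidableEq 𝔸] (hM : IsPModular p M) {ψ ψ' : 𝔸 →* ℂˣ} (hψ : ψ ≠ 1) (hψ' : ψ' ≠ 1)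
    [Decidable (∃ n : 𝔑, n • ψ' = ψ)] :
    (Nat.card (centralizer ((P : Subgroup G) : Set G)) : ℂ) *
      ∑ χ ∈ SingConst.B₀ M G, bb (χ : G → ℂ) ψ * conj (bb (χ : G → ℂ) ψ') =
      (Nat.card 𝔑 : ℂ) + if ∃ n : 𝔑, n • ψ' = ψ then (Nat.card (centralizer ((P : Subgroup G) : Set G)) : ℂ) else 0 := by
  classical
  set c₀ : ℂ := (Nat.card (centralizer ((P : Subgroup G) : Set G)) : ℂ) with hc₀
  set D : ℂ := (Nat.card 𝔸 : ℂ)⁻¹ with hD
  have hA0 : (Nat.card 𝔸 : ℂ) ≠ 0 := by exact_mod_cast Nat.card_pos.ne'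
  have hDr : conj D = D := by
    rw [hD, map_inv₀, Complex.conj_natCast]
  have h1 : ∑ χ ∈ SingConst.B₀ M G, bb (χ : G → ℂ) ψ * conj (bb (χ : G → ℂ) ψ') =
      D * conj D * ∑ y : 𝔸, ∑ y' : 𝔸, conj (alpha ψ y) * alpha ψ' y' *
        ∑ χ ∈ SingConst.B₀ M G, (χ : G → ℂ) y * conj ((χ : G → ℂ) y') :=
    sum_mul_conj_expand (SingConst.B₀ M G) (fun (χ : IrrCharacter G) (y : 𝔸) => (χ : G → ℂ) y) (alpha ψ) (alpha ψ') D
  have hK : ∀ y : 𝔸, c₀ * ∑ y' : 𝔸, conj (alpha ψ y) * alpha ψ' y' *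
        ∑ χ ∈ SingConst.B₀ M G, (χ : G → ℂ) y * conj ((χ : G → ℂ) y') =
      (Nat.card 𝔸 : ℂ) * ∑ n : 𝔑, alpha (n⁻¹ • ψ') y * conj (alpha ψ y) := by
    intro y
    by_cases hy : y = 1
    · rw [hy]
      simp [alpha_one]
    · have hy' : (y : G) ≠ 1 := fun h => hy (Subtype.ext h)
      have h2 : ∀ n : 𝔑, alpha (n⁻¹ • ψ') y * conj (alpha ψ y) =
          conj (alpha ψ y) * alpha ψ' (cj (P : Subgroup G) n⁻¹ y) := by
        intro n
        rw [alpha_smul, mul_comm]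
      simp_rw [h2]
      rw [← Finset.mul_sum, H.sum_act hy (alpha ψ')]
      rw [Finset.mul_sum, Finset.mul_sum, Finset.mul_sum, Finset.mul_sum]
      refine Finset.sum_congr rfl fun y' _ => ?_
      rw [H.sum_pp hM y.2 hy' y'.2]
      split_ifs <;> ring
  have h3 : c₀ * ∑ χ ∈ SingConst.B₀ M G, bb (χ : G → ℂ) ψ * conj (bb (χ : G → ℂ) ψ') =
      ∑ n : 𝔑, classInner (alpha (n⁻¹ • ψ')) (alpha ψ) := by
    rw [h1, hDr, mul_left_comm, Finset.mul_sum]
    simp_rw [hK]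
    rw [← Finset.mul_sum, Finset.sum_comm]
    unfold classInner
    rw [← hD, ← Finset.mul_sum, ← mul_assoc, mul_assoc D D, hD]
    field_simp
  rw [h3]
  simp_rw [fun n : 𝔑 => classInner_alpha (smul_ne_one (P : Subgroup G) n⁻¹ hψ') hψ]
  rw [Finset.sum_add_distrib]
  have h4 : ∑ n : 𝔑, (if n⁻¹ • ψ' = ψ then (1 : ℂ) else 0) = ∑ n : 𝔑, (if n • ψ' = ψ then (1 : ℂ) else 0) :=
    Equiv.sum_comp (Equiv.inv 𝔑) (fun n : 𝔑 => if n • ψ' = ψ then (1 : ℂ) else 0)
  rw [h4, Finset.sum_boole, H.card_fiber_dual hψ' ψ]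
  simp only [Finset.sum_const, Finset.card_univ, nsmul_eq_mul, mul_one]
  rw [← Nat.card_eq_fintype_card, add_comm]
  congr 1
  split_ifs <;> simp [hc₀]

theorem Hyp.main [Fintype 𝔸] [Fintype 𝔑] [Fintype (𝔸 →* ℂˣ)] (hM : IsPModular p M) (m : ℕ) (hm0 : 0 < m)
    (hN : Nat.card 𝔑 = m * Nat.card (centralizer ((P : Subgroup G) : Set G)))
    (hmP : m + 1 < Nat.card 𝔸) :
    ∃ (w : IrrCharacter G → ℤ) (σ : ℤ) (ζ : (𝔸 →* ℂˣ) → IrrCharacter G) (Yf : Finset (IrrCharacter G)) (r : ℕ),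
      (σ = 1 ∨ σ = -1) ∧ r * m = Nat.card 𝔸 - 1 ∧ 2 ≤ r ∧ Yf.card = r ∧ Yf ⊆ SingConst.B₀ M G ∧
      (∀ ψ, ψ ≠ 1 → ζ ψ ∈ Yf) ∧ (∀ η ∈ Yf, ∃ ψ, ψ ≠ 1 ∧ ζ ψ = η) ∧
      (∀ ψ ψ', ψ ≠ 1 → ψ' ≠ 1 → (ζ ψ = ζ ψ' ↔ ∃ n : 𝔑, n • ψ = ψ')) ∧
      (∀ ψ, ψ ≠ 1 → ∀ χ ∈ SingConst.B₀ M G, bb (χ : G → ℂ) ψ = (w χ : ℂ) + σ * (if χ = ζ ψ then 1 else 0)) ∧
      (∀ ψ, ψ ≠ 1 → ∑ χ ∈ SingConst.B₀ M G, (w χ) ^ 2 + 2 * σ * w (ζ ψ) = m) := by
  classical
  set B := SingConst.B₀ M G with hB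
  have hc : (Nat.card (centralizer ((P : Subgroup G) : Set G)) : ℂ) ≠ 0 := by exact_mod_cast Nat.card_pos.ne'
  choose bZ hbZ using fun (ψ : 𝔸 →* ℂˣ) (χ : IrrCharacter G) => exists_int_bb (P := (P : Subgroup G)) χ ψ
  have hinner : ∀ ψ ψ' : 𝔸 →* ℂˣ, ψ ≠ 1 → ψ' ≠ 1 →
      ∑ χ ∈ B, bZ ψ χ * bZ ψ' χ = (m : ℤ) + if ∃ n : 𝔑, n • ψ' = ψ then 1 else 0 := by
    intro ψ ψ' h h'
    have h1 := H.sum_bb_mul hM h h'
    have h2 : ∑ χ ∈ B, bb (χ : G → ℂ) ψ * conj (bb (χ : G → ℂ) ψ') = ((∑ χ ∈ B, bZ ψ χ * bZ ψ' χ : ℤ) : ℂ) := by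
      push_cast
      refine Finset.sum_congr rfl fun χ _ => ?_
      rw [hbZ, hbZ, map_intCast]
    rw [h2, hN] at h1
    have h3 : ((∑ χ ∈ B, bZ ψ χ * bZ ψ' χ : ℤ) : ℂ) = (((m : ℤ) + if ∃ n : 𝔑, n • ψ' = ψ then 1 else 0 : ℤ) : ℂ) := by
      apply mul_left_cancel₀ hc
      rw [h1]
      push_cast
      split_ifs <;> ring
    exact_mod_cast h3
  have hone : ∀ χ : IrrCharacter G, (χ : G → ℂ) 1 = charDegree (χ : G → ℂ) := fun χ =>
    CharKernel.one_eq_charDegree (IsIrrCharacter.isCharacter χ.2)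
  have hdeg : ∀ ψ : 𝔸 →* ℂˣ, ∑ χ ∈ B, ((charDegree (χ : G → ℂ) : ℕ) : ℤ) * bZ ψ χ = 0 := by
    intro ψ
    have h1 := H.sum_bb_reg hM ψ (g := 1) (by
      rw [orderOf_one]
      exact fun h => hp.out.one_lt.ne' (Nat.dvd_one.mp h))
    have h2 : ((∑ χ ∈ B, ((charDegree (χ : G → ℂ) : ℕ) : ℤ) * bZ ψ χ : ℤ) : ℂ) = 0 := by
      rw [← h1]
      push_cast
      refine Finset.sum_congr rfl fun χ _ => ?_
      rw [hbZ, hone, Complex.conj_natCast]
      ring
    exact_mod_cast h2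
  let J := MulAction.orbitRel.Quotient 𝔑 (NT (P : Subgroup G))
  haveI : Fintype J := Fintype.ofFinite _
  let rp : J → NT (P : Subgroup G) := fun j => Quotient.out j
  have hrel : ∀ j k : J, (∃ x : 𝔑, x • (rp k).1 = (rp j).1) ↔ j = k := by
    intro j k
    constructor
    · rintro ⟨x, hx⟩
      have h3 : x • (rp k) = rp j := Subtype.ext hx
      have h4 : (Quotient.mk _ (rp j) : J) = Quotient.mk _ (rp k) := by
        apply Quotient.sound
        exact ⟨x, h3⟩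
      have h5 : ∀ l : J, (Quotient.mk _ (rp l) : J) = l := fun l => Quotient.out_eq l
      rw [h5, h5] at h4
      exact h4
    · rintro rfl
      exact ⟨1, one_smul _ _⟩
  have horb : ∀ a : NT (P : Subgroup G), Nat.card (MulAction.orbit 𝔑 a) = m := by
    intro a
    have h1 := Nat.card_congr (MulAction.orbitProdStabilizerEquivGroup 𝔑 a)
    rw [Nat.card_prod, hN] at h1
    have h2 : Nat.card (MulAction.stabilizer 𝔑 a) = Nat.card (centralizer ((P : Subgroup G) : Set G)) := by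
      rw [← card_sub_eq]
      apply Nat.card_congr
      apply Equiv.subtypeEquivRight
      intro n
      rw [MulAction.mem_stabilizer_iff, mem_subgroupOf, ← H.stab a.2 n]
      exact Subtype.ext_iff
    rw [h2] at h1
    exact Nat.eq_of_mul_eq_mul_right Nat.card_pos h1
  have hcardNT : (Fintype.card (NT (P : Subgroup G)) : ℤ) = (Nat.card 𝔸 : ℤ) - 1 := by
    have h1 : Fintype.card (NT (P : Subgroup G)) = Fintype.card (𝔸 →* ℂˣ) - 1 := by
      rw [Fintype.card_subtype_compl, Fintype.card_subtype_eq]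
    rw [h1, ← Nat.card_eq_fintype_card, card_dual H.commA, Nat.cast_sub Nat.card_pos]
    simp
  have hJ' : (m : ℤ) * Fintype.card J = (Nat.card 𝔸 : ℤ) - 1 := by
    have h1 := DefectOne.sum_eq_card_mul_sum_out m horb (fun _ => (1 : ℤ)) (fun _ _ => rfl)
    simp only [Finset.sum_const, Finset.card_univ, nsmul_eq_mul, mul_one] at h1
    rw [← hcardNT, h1]
  have hJ : Fintype.card J * m = Nat.card 𝔸 - 1 := by
    have h1 : ((Fintype.card J * m : ℕ) : ℤ) = ((Nat.card 𝔸 - 1 : ℕ) : ℤ) := by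
      rw [Nat.cast_sub Nat.card_pos]
      push_cast
      rw [mul_comm, hJ']
    exact_mod_cast h1
  have hJ2 : 2 ≤ Fintype.card J := by
    by_contra hlt
    push Not at hlt
    have h1 : Fintype.card J * m ≤ 1 * m := Nat.mul_le_mul_right m (Nat.le_of_lt_succ hlt)
    omega
  obtain ⟨j₀, j₁, hj⟩ := Fintype.one_lt_card_iff.mp hJ2
  have hu : ∀ j k : J, ∑ χ ∈ B, bZ (rp j).1 χ * bZ (rp k).1 χ = (m : ℤ) + if j = k then 1 else 0 := by
    intro j k
    rw [hinner _ _ (rp j).2 (rp k).2]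
    simp only [hrel]
  obtain ⟨w, e, σ, hσ, he, heB, hf⟩ := sunflower B (m : ℤ) (fun j i => bZ (rp j).1 i)
    (fun i => ((charDegree (i : G → ℂ) : ℕ) : ℤ))
    (fun i _ => by exact_mod_cast CharKernel.charDegree_pos i.2) hu
    (fun j k => (hdeg _).trans (hdeg _).symm) j₀ j₁ hj.symm
  let cl : (𝔸 →* ℂˣ) → J := fun ψ => if h : ψ ≠ 1 then Quotient.mk _ (⟨ψ, h⟩ : NT (P : Subgroup G)) else j₀
  have hcl1 : ∀ ψ (h : ψ ≠ 1), cl ψ = Quotient.mk _ (⟨ψ, h⟩ : NT (P : Subgroup G)) := by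
    intro ψ h
    simp only [cl, dif_pos h]
  have hcl : ∀ ψ (h : ψ ≠ 1), ∃ n : 𝔑, n • (rp (cl ψ)).1 = ψ := by
    intro ψ h
    have h1 : (Quotient.mk _ (rp (cl ψ)) : J) = Quotient.mk _ (⟨ψ, h⟩ : NT (P : Subgroup G)) := by
      rw [← hcl1 ψ h]
      exact Quotient.out_eq _
    obtain ⟨n, hn⟩ : (⟨ψ, h⟩ : NT (P : Subgroup G)) ∈ MulAction.orbit 𝔑 (rp (cl ψ)) :=
      (MulAction.orbitRel_apply).1 (Quotient.exact h1.symm)
    exact ⟨n, congrArg Subtype.val hn⟩
  have hclrp : ∀ j, cl (rp j).1 = j := by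
    intro j
    rw [hcl1 _ (rp j).2]
    exact Quotient.out_eq j
  refine ⟨w, σ, fun ψ => e (cl ψ), Finset.univ.image e, Fintype.card J, hσ, hJ, hJ2, ?_, ?_, ?_, ?_, ?_, ?_, ?_⟩
  · rw [Finset.card_image_of_injective _ he, Finset.card_univ]
  · intro χ hχ
    obtain ⟨j, _, rfl⟩ := Finset.mem_image.1 hχ
    exact heB j
  · intro ψ _
    exact Finset.mem_image_of_mem _ (Finset.mem_univ _)
  · intro η hη
    obtain ⟨j, _, rfl⟩ := Finset.mem_image.1 hη
    exact ⟨(rp j).1, (rp j).2, by simp only [hclrp]⟩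
  · intro ψ ψ' h h'
    simp only [he.eq_iff]
    rw [hcl1 ψ h, hcl1 ψ' h']
    constructor
    · intro h1
      obtain ⟨n, hn⟩ : (⟨ψ', h'⟩ : NT (P : Subgroup G)) ∈ MulAction.orbit 𝔑 (⟨ψ, h⟩ : NT (P : Subgroup G)) :=
        (MulAction.orbitRel_apply).1 (Quotient.exact h1.symm)
      exact ⟨n, congrArg Subtype.val hn⟩
    · rintro ⟨n, hn⟩
      symm
      apply Quotient.sound
      exact ⟨n, Subtype.ext hn⟩
  · intro ψ h χ hχ
    obtain ⟨n, hn⟩ := hcl ψ h
    have h1 : bb (χ : G → ℂ) ψ = (bZ (rp (cl ψ)).1 χ : ℂ) :=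
      calc bb (χ : G → ℂ) ψ = bb (χ : G → ℂ) (n • (rp (cl ψ)).1) := by rw [hn]
        _ = bb (χ : G → ℂ) (rp (cl ψ)).1 := bb_smul χ n _
        _ = _ := hbZ _ _
    rw [h1, hf (cl ψ) χ hχ]
    push_cast
    rfl
  · intro ψ h
    have h1 := hu (cl ψ) (cl ψ)
    have h2 : ∑ χ ∈ B, bZ (rp (cl ψ)).1 χ * bZ (rp (cl ψ)).1 χ =
        ∑ χ ∈ B, (w χ + σ * (if χ = e (cl ψ) then 1 else 0)) * (w χ + σ * (if χ = e (cl ψ) then 1 else 0)) :=
      Finset.sum_congr rfl fun χ hχ => by rw [hf (cl ψ) χ hχ]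
    rw [h2, sum_sq_expand B w σ (heB _) (heB _), if_pos rfl, if_pos rfl] at h1
    have hσ2 : σ ^ 2 = 1 := by
      rcases hσ with rfl | rfl <;> norm_num
    rw [hσ2] at h1
    simp only
    linarith

open Classical in
/-- The value formula on `P`. -/
theorem Hyp.value_formula [Fintype 𝔸] [Fintype (𝔸 →* ℂˣ)] {w : IrrCharacter G → ℤ} {σ : ℤ}
    {ζ : (𝔸 →* ℂˣ) → IrrCharacter G} {χ : IrrCharacter G}
    (hf : ∀ ψ, ψ ≠ 1 → bb (χ : G → ℂ) ψ = (w χ : ℂ) + σ * (if χ = ζ ψ then 1 else 0))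
    {y : 𝔸} (hy : y ≠ 1) :
    (χ : G → ℂ) y = -(w χ : ℂ) + σ * ∑ ψ : 𝔸 →* ℂˣ, if ψ ≠ 1 ∧ χ = ζ ψ then ((ψ y : ℂˣ) : ℂ) else 0 := by
  classical
  have h1 := sum_classInner_mul H.commA (fun a : 𝔸 => (χ : G → ℂ) a) y
  set c₁ : ℂ := classInner (fun a : 𝔸 => (χ : G → ℂ) a) (fun a => (((1 : 𝔸 →* ℂˣ) a : ℂˣ) : ℂ)) with hc₁
  have hs : ∑ l : 𝔸 →* ℂˣ, ((l y : ℂˣ) : ℂ) = 0 := by
    rw [sum_dual H.commA, if_neg hy]
  have h2 : ∀ ψ : 𝔸 →* ℂˣ, classInner (fun a : 𝔸 => (χ : G → ℂ) a) (fun a => ((ψ a : ℂˣ) : ℂ)) * ((ψ y : ℂˣ) : ℂ) =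
      c₁ * ((ψ y : ℂˣ) : ℂ) + (w χ : ℂ) * ((ψ y : ℂˣ) : ℂ) - (if ψ = 1 then (w χ : ℂ) * ((ψ y : ℂˣ) : ℂ) else 0) +
        σ * (if ψ ≠ 1 ∧ χ = ζ ψ then ((ψ y : ℂˣ) : ℂ) else 0) := by
    intro ψ
    by_cases hψ : ψ = 1
    · subst hψ
      simp [hc₁]
    · have h3 := bb_eq (χ : G → ℂ) ψ
      rw [hf ψ hψ, ← hc₁] at h3
      have h4 : classInner (fun a : 𝔸 => (χ : G → ℂ) a) (fun a => ((ψ a : ℂˣ) : ℂ)) =
          (w χ : ℂ) + σ * (if χ = ζ ψ then 1 else 0) + c₁ := by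
        linear_combination -h3
      rw [h4, if_neg hψ]
      by_cases h5 : χ = ζ ψ
      · rw [if_pos h5, if_pos ⟨hψ, h5⟩]
        ring
      · rw [if_neg h5, if_neg (fun h => h5 h.2)]
        ring
  rw [Finset.sum_congr rfl fun ψ _ => h2 ψ] at h1
  rw [Finset.sum_add_distrib, Finset.sum_sub_distrib, Finset.sum_add_distrib, ← Finset.mul_sum, ← Finset.mul_sum,
    ← Finset.mul_sum, hs, Finset.sum_ite_eq' Finset.univ (1 : 𝔸 →* ℂˣ), if_pos (Finset.mem_univ _)] at h1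
  simp only [MonoidHom.one_apply, Units.val_one, mul_one, mul_zero, zero_add] at h1
  rw [← h1]
  ring

open Classical in
theorem Hyp.main2 [Fintype 𝔸] [Fintype 𝔑] [Fintype (𝔸 →* ℂˣ)] (hM : IsPModular p M) (m : ℕ) (hm0 : 0 < m)
    (hN : Nat.card 𝔑 = m * Nat.card (centralizer ((P : Subgroup G) : Set G)))
    (hmP : m + 1 < Nat.card 𝔸) :
    ∃ (Xf Yf : Finset (IrrCharacter G)) (a : IrrCharacter G → ℤ) (d σ : ℤ) (ζ : (𝔸 →* ℂˣ) → IrrCharacter G) (r : ℕ),
      r * m = Nat.card 𝔸 - 1 ∧ 2 ≤ r ∧ Xf ∪ Yf = SingConst.B₀ M G ∧ Disjoint Xf Yf ∧ Yf.card = r ∧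
      BlockNormal.irrOne G ∈ Xf ∧ a (BlockNormal.irrOne G) = 1 ∧ (σ = 1 ∨ σ = -1) ∧
      (∀ χ ∈ Xf, a χ ≠ 0) ∧ (∀ χ ∈ Xf, ∀ y : 𝔸, y ≠ 1 → (χ : G → ℂ) y = a χ) ∧
      (∀ ψ, ψ ≠ 1 → ζ ψ ∈ Yf) ∧ (∀ η ∈ Yf, ∃ ψ, ψ ≠ 1 ∧ ζ ψ = η) ∧
      (∀ ψ ψ', ψ ≠ 1 → ψ' ≠ 1 → (ζ ψ = ζ ψ' ↔ ∃ n : 𝔑, n • ψ = ψ')) ∧
      (∀ ψ, ψ ≠ 1 → ∀ y : 𝔸, y ≠ 1 → (ζ ψ : G → ℂ) y =
        d + σ * ∑ ψ' : 𝔸 →* ℂˣ, if ∃ n : 𝔑, n • ψ = ψ' then ((ψ' y : ℂˣ) : ℂ) else 0) ∧
      (∑ χ ∈ Xf, a χ ^ 2 + r * d ^ 2 - 2 * σ * d = m) ∧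
      (∀ η ∈ Yf, ∀ η' ∈ Yf, ∀ g : G, ¬ p ∣ orderOf g → (η : G → ℂ) g = (η' : G → ℂ) g) ∧
      (∀ η ∈ Yf, ∀ g : G, ¬ p ∣ orderOf g →
        ((r : ℂ) * d - σ) * (η : G → ℂ) g + ∑ χ ∈ Xf, (a χ : ℂ) * (χ : G → ℂ) g = 0) := by
  classical
  haveI := BlockLocal.isPrime_of_isPModular hM
  obtain ⟨w, σ, ζ, Yf, r, hσ, hr, hr2, hYc, hYB, hζY, hYζ, hiff, hbb, hW⟩ := H.main hM m hm0 hN hmP
  set B := SingConst.B₀ M G with hB
  have hσ0 : (σ : ℤ) ≠ 0 := by
    rcases hσ with rfl | rfl <;> norm_num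
  have hσ2 : σ * σ = 1 := by
    rcases hσ with rfl | rfl <;> norm_num
  have hσc : (σ : ℂ) * σ = 1 := by exact_mod_cast hσ2
  -- a base character
  have hYne : Yf.Nonempty := by
    rw [← Finset.card_pos, hYc]
    omega
  obtain ⟨η₀, hη₀⟩ := hYne
  obtain ⟨ψ₀, hψ₀, hψ₀η⟩ := hYζ η₀ hη₀
  set d : ℤ := -(w (ζ ψ₀)) with hd
  have hwY : ∀ η ∈ Yf, w η = -d := by
    intro η hη
    obtain ⟨ψ, hψ, rfl⟩ := hYζ η hη
    have h1 := hW ψ hψ
    have h2 := hW ψ₀ hψ₀
    have h3 : 2 * σ * (w (ζ ψ) - w (ζ ψ₀)) = 0 := by linarith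
    have h4 : w (ζ ψ) - w (ζ ψ₀) = 0 := by
      rcases mul_eq_zero.1 h3 with h5 | h5
      · exfalso
        rcases hσ with rfl | rfl <;> omega
      · exact h5
    rw [hd]
    linarith
  -- the value formula
  have hval : ∀ χ ∈ B, ∀ y : 𝔸, y ≠ 1 → (χ : G → ℂ) y = -(w χ : ℂ) + σ * ∑ ψ : 𝔸 →* ℂˣ, if ψ ≠ 1 ∧ χ = ζ ψ then ((ψ y : ℂˣ) : ℂ) else 0 :=
    fun χ hχ y hy => H.value_formula (fun ψ hψ => hbb ψ hψ χ hχ) hy
  -- the principal character
  have hone_mem : BlockNormal.irrOne G ∈ B := SingConst.mem_B₀.mpr (BlockNormal.irrOne_mem_principalBlock M)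
  have hbone : ∀ ψ : 𝔸 →* ℂˣ, ψ ≠ 1 → bb ((BlockNormal.irrOne G : IrrCharacter G) : G → ℂ) ψ = -1 := by
    intro ψ hψ
    rw [bb_eq]
    have h1 : (fun a : 𝔸 => ((BlockNormal.irrOne G : IrrCharacter G) : G → ℂ) a) = chi (1 : 𝔸 →* ℂˣ) := by
      funext a
      simp [BlockNormal.irrOne, chi]
    rw [h1]
    change classInner (chi (1 : 𝔸 →* ℂˣ)) (chi ψ) - classInner (chi (1 : 𝔸 →* ℂˣ)) (chi (1 : 𝔸 →* ℂˣ)) = -1
    rw [classInner_chi, classInner_chi, if_neg hψ.symm, if_pos rfl]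
    ring
  have hform1 : ∀ ψ : 𝔸 →* ℂˣ, ψ ≠ 1 → w (BlockNormal.irrOne G) + σ * (if BlockNormal.irrOne G = ζ ψ then 1 else 0) = -1 := by
    intro ψ hψ
    have h1 := hbb ψ hψ _ hone_mem
    rw [hbone ψ hψ] at h1
    have h2 : (((w (BlockNormal.irrOne G) + σ * (if BlockNormal.irrOne G = ζ ψ then 1 else 0) : ℤ)) : ℂ) = ((-1 : ℤ) : ℂ) := by
      push_cast
      exact h1.symm
    exact_mod_cast h2
  have hone_notY : BlockNormal.irrOne G ∉ Yf := by
    intro h
    obtain ⟨ψ₁, hψ₁, hψ₁η⟩ := hYζ _ h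
    have hcard : 1 < Yf.card := by omega
    obtain ⟨η₂, hη₂, hne⟩ := Finset.exists_mem_ne hcard (BlockNormal.irrOne G)
    obtain ⟨ψ₂, hψ₂, hψ₂η⟩ := hYζ _ hη₂
    have h1 := hform1 ψ₁ hψ₁
    have h2 := hform1 ψ₂ hψ₂
    rw [if_pos hψ₁η.symm] at h1
    rw [if_neg (by rw [hψ₂η]; exact hne.symm)] at h2
    apply hσ0
    linarith
  have hw1 : w (BlockNormal.irrOne G) = -1 := by
    have h1 := hform1 ψ₀ hψ₀
    rw [if_neg (fun h : BlockNormal.irrOne G = ζ ψ₀ => hone_notY (h ▸ hζY ψ₀ hψ₀))] at h1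
    linarith
  -- the set `X`
  set Xf := B.filter (fun χ => χ ∉ Yf) with hXf
  have hXB : ∀ χ ∈ Xf, χ ∈ B := fun χ hχ => (Finset.mem_filter.1 hχ).1
  have hXY : ∀ χ ∈ Xf, χ ∉ Yf := fun χ hχ => (Finset.mem_filter.1 hχ).2
  have hunion : Xf ∪ Yf = B := by
    ext χ
    simp only [Finset.mem_union, hXf, Finset.mem_filter]
    constructor
    · rintro (h | h)
      · exact h.1
      · exact hYB h
    · intro h
      by_cases h2 : χ ∈ Yf
      · exact Or.inr h2
      · exact Or.inl ⟨h, h2⟩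
  have hdisj : Disjoint Xf Yf := by
    rw [Finset.disjoint_left]
    exact hXY
  -- values on `X`
  have hvalX : ∀ χ ∈ Xf, ∀ y : 𝔸, y ≠ 1 → (χ : G → ℂ) y = -(w χ : ℂ) := by
    intro χ hχ y hy
    rw [hval χ (hXB χ hχ) y hy, Finset.sum_eq_zero, mul_zero, add_zero]
    intro ψ _
    rw [if_neg]
    rintro ⟨h1, h2⟩
    exact hXY χ hχ (h2 ▸ hζY ψ h1)
  -- nonvanishing
  have hnz : ∀ χ ∈ Xf, -(w χ) ≠ 0 := by
    intro χ hχ h0
    have h0' : w χ = 0 := by linarith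
    have hbz : ∀ ψ : 𝔸 →* ℂˣ, classInner (fun a : 𝔸 => (χ : G → ℂ) a) (fun a => ((ψ a : ℂˣ) : ℂ)) =
        classInner (fun a : 𝔸 => (χ : G → ℂ) a) (fun a => (((1 : 𝔸 →* ℂˣ) a : ℂˣ) : ℂ)) := by
      intro ψ
      by_cases hψ : ψ = 1
      · rw [hψ]
      · have h1 := hbb ψ hψ χ (hXB χ hχ)
        rw [h0', if_neg (fun h : χ = ζ ψ => hXY χ hχ (h ▸ hζY ψ hψ)), bb_eq] at h1
        simp only [Int.cast_zero, mul_zero, add_zero] at h1
        exact sub_eq_zero.mp h1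
    have h1 := sum_classInner_mul H.commA (fun a : 𝔸 => (χ : G → ℂ) a) 1
    simp only [map_one, Units.val_one, mul_one] at h1
    simp_rw [hbz] at h1
    rw [Finset.sum_const, Finset.card_univ, ← Nat.card_eq_fintype_card, card_dual H.commA, nsmul_eq_mul] at h1
    obtain ⟨n, hn⟩ := classInner_char_irr (isCharacter_restrict (P : Subgroup G) (IsIrrCharacter.isCharacter χ.2))
      (isIrr_chi (1 : 𝔸 →* ℂˣ))
    change classInner (fun a : 𝔸 => (χ : G → ℂ) a) (chi (1 : 𝔸 →* ℂˣ)) = n at hn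
    have h2 : (fun a => (((1 : 𝔸 →* ℂˣ) a : ℂˣ) : ℂ)) = chi (1 : 𝔸 →* ℂˣ) := rfl
    rw [h2, hn, OneMemClass.coe_one] at h1
    have h3 : (χ : G → ℂ) 1 = charDegree (χ : G → ℂ) :=
      CharKernel.one_eq_charDegree (IsIrrCharacter.isCharacter χ.2)
    have h4 : charDegree (χ : G → ℂ) = Nat.card 𝔸 * n := by
      have h5 : ((charDegree (χ : G → ℂ) : ℕ) : ℂ) = ((Nat.card 𝔸 * n : ℕ) : ℂ) := by
        rw [← h3, ← h1]
        push_cast
        rfl
      exact_mod_cast h5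
    have hdvd : p ^ (Nat.card G).factorization p ∣ charDegree (χ : G → ℂ) := by
      rw [h4]
      exact Dvd.dvd.mul_right (by rw [P.card_eq_multiplicity]) _
    have hmemb : BlockNormal.irrOne G ∈ blockOf M (χ : G → ℂ) := by
      have h5 : χ ∈ principalBlock M G := SingConst.mem_B₀.mp (hXB χ hχ)
      exact BlockIdem.sameBlock_symm h5
    have h6 := BlockOrtho.eq_of_mem_blockOf_of_dvd hM hdvd hmemb
    rw [← h6, hw1] at h0'
    norm_num at h0'
  -- norm
  have hnorm : ∑ χ ∈ Xf, (-(w χ)) ^ 2 + (r : ℤ) * d ^ 2 - 2 * σ * d = m := by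
    have h1 := hW ψ₀ hψ₀
    have h2 : ∑ χ ∈ B, (w χ) ^ 2 = ∑ χ ∈ Xf, (-(w χ)) ^ 2 + ∑ χ ∈ Yf, (w χ) ^ 2 := by
      rw [← hunion, Finset.sum_union hdisj]
      congr 1
      refine Finset.sum_congr rfl fun χ _ => ?_
      ring
    have h3 : ∑ χ ∈ Yf, (w χ) ^ 2 = (r : ℤ) * d ^ 2 := by
      rw [Finset.sum_congr rfl (fun χ hχ => by rw [hwY χ hχ]), Finset.sum_const, hYc, nsmul_eq_mul]
      ring
    rw [h2, h3] at h1
    have h4 : w (ζ ψ₀) = -d := by rw [hd]; ring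
    rw [h4] at h1
    linarith
  -- regular elements
  set T : G → ℂ := fun g => ∑ χ ∈ B, (w χ : ℂ) * (χ : G → ℂ) g with hT
  have hreg : ∀ ψ : 𝔸 →* ℂˣ, ψ ≠ 1 → ∀ g : G, ¬ p ∣ orderOf g → T g + σ * (ζ ψ : G → ℂ) g = 0 := by
    intro ψ hψ g hg
    have h1 := H.sum_bb_reg hM ψ hg
    have h2 := congrArg conj h1
    rw [map_sum, map_zero] at h2
    have h3 : ∀ χ ∈ B, conj (bb (χ : G → ℂ) ψ * conj ((χ : G → ℂ) g)) =
        (w χ : ℂ) * (χ : G → ℂ) g + σ * (if χ = ζ ψ then (χ : G → ℂ) g else 0) := by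
      intro χ hχ
      rw [hbb ψ hψ χ hχ, map_mul, Complex.conj_conj, map_add, map_mul, map_intCast, map_intCast]
      split_ifs <;> simp <;> ring
    rw [Finset.sum_congr rfl h3, Finset.sum_add_distrib, ← Finset.mul_sum, Finset.sum_ite_eq' B (ζ ψ),
      if_pos (hYB (hζY ψ hψ))] at h2
    exact h2
  have hreg' : ∀ η ∈ Yf, ∀ g : G, ¬ p ∣ orderOf g → T g + σ * (η : G → ℂ) g = 0 := by
    intro η hη g hg
    obtain ⟨ψ, hψ, rfl⟩ := hYζ η hη
    exact hreg ψ hψ g hg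
  have hagree : ∀ η ∈ Yf, ∀ η' ∈ Yf, ∀ g : G, ¬ p ∣ orderOf g → (η : G → ℂ) g = (η' : G → ℂ) g := by
    intro η hη η' hη' g hg
    have h1 := hreg' η hη g hg
    have h2 := hreg' η' hη' g hg
    have h3 : (σ : ℂ) * ((η : G → ℂ) g - (η' : G → ℂ) g) = 0 := by linear_combination h1 - h2
    have hσne : (σ : ℂ) ≠ 0 := by exact_mod_cast hσ0
    have h4 := (mul_eq_zero.1 h3).resolve_left hσne
    exact sub_eq_zero.mp h4
  refine ⟨Xf, Yf, fun χ => -(w χ), d, σ, ζ, r, hr, hr2, hunion, hdisj, hYc, ?_, ?_, hσ, hnz, ?_, hζY, hYζ, hiff, ?_, hnorm,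
    hagree, ?_⟩
  · exact Finset.mem_filter.2 ⟨hone_mem, hone_notY⟩
  · simp only [hw1]
    norm_num
  · intro χ hχ y hy
    rw [hvalX χ hχ y hy]
    push_cast
    rfl
  · intro ψ hψ y hy
    rw [hval _ (hYB (hζY ψ hψ)) y hy, hwY _ (hζY ψ hψ)]
    push_cast
    rw [neg_neg]
    congr 2
    refine Finset.sum_congr rfl fun ψ' _ => ?_
    by_cases h1 : ∃ n : 𝔑, n • ψ = ψ'
    · rw [if_pos h1, if_pos]
      obtain ⟨n, rfl⟩ := h1
      have h2 := smul_ne_one (P : Subgroup G) n hψ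
      exact ⟨h2, (hiff ψ _ hψ h2).2 ⟨n, rfl⟩⟩
    · rw [if_neg h1, if_neg]
      rintro ⟨h2, h3⟩
      exact h1 ((hiff ψ ψ' hψ h2).1 h3)
  · intro η hη g hg
    have h1 := hreg' η hη g hg
    have h2 : T g = -∑ χ ∈ Xf, ((-(w χ) : ℤ) : ℂ) * (χ : G → ℂ) g - (r : ℂ) * d * (η : G → ℂ) g := by
      rw [hT]
      simp only
      rw [← hunion, Finset.sum_union hdisj]
      have h3 : ∑ χ ∈ Yf, (w χ : ℂ) * (χ : G → ℂ) g = -((r : ℂ) * d * (η : G → ℂ) g) := by
        rw [Finset.sum_congr rfl (fun χ hχ => by rw [hwY χ hχ, hagree χ hχ η hη g hg]), Finset.sum_const, hYc, nsmul_eq_mul]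
        push_cast
        ring
      have h4 : ∑ χ ∈ Xf, ((-(w χ) : ℤ) : ℂ) * (χ : G → ℂ) g = -∑ χ ∈ Xf, (w χ : ℂ) * (χ : G → ℂ) g := by
        rw [← Finset.sum_neg_distrib]
        refine Finset.sum_congr rfl fun χ _ => ?_
        push_cast
        ring
      rw [h3, h4]
      ring
    rw [h2] at h1
    linear_combination -h1

end Main

end Cfsg.Agent.Lib.FrobBlock
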