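import Mathlib
import Cfsg.Agent.Lib.FrobBlock
import Cfsg.Agent.S4722

/-!
# Abelian Sylow subgroup with `N/C` of order three acting freely: the normalized structure
-/

set_option autoImplicit false
set_option linter.unusedSectionVars false
set_option linter.unusedVariables false
set_option linter.style.haveILetI false

namespace Cfsg.Agent.Lib.FrobThree

open Cfsg Cfsg.Agent.Lib Cfsg.Agent.Lib.FrobBlock Cfsg.Agent.Lib.CharBasic Subgroup
open Cfsg.Agent.Lib.DefectOne (cj cj_coe chi smul_apply smul_ne_one)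
open scoped ComplexConjugate

universe u

theorem x_structure {ι : Type*} (X : Finset ι) (a : ι → ℤ) (h1 : ∀ χ ∈ X, a χ ≠ 0)
    (hs : ∑ χ ∈ X, a χ ^ 2 = 3) : X.card = 3 ∧ ∀ χ ∈ X, a χ = 1 ∨ a χ = -1 := by
  have h2 : ∀ χ ∈ X, a χ = 1 ∨ a χ = -1 := by
    intro χ hχ
    have h3 : a χ ^ 2 ≤ ∑ χ ∈ X, a χ ^ 2 :=
      Finset.single_le_sum (f := fun χ => a χ ^ 2) (fun i _ => sq_nonneg _) hχ
    rw [hs] at h3
    have h4 := h1 χ hχ
    have h5 : a χ ≤ 1 := by nlinarith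
    have h6 : -1 ≤ a χ := by nlinarith
    omega
  refine ⟨?_, h2⟩
  have h3 : ∑ χ ∈ X, a χ ^ 2 = ∑ χ ∈ X, (1 : ℤ) := by
    refine Finset.sum_congr rfl fun χ hχ => ?_
    rcases h2 χ hχ with h | h <;> rw [h] <;> norm_num
  rw [hs] at h3
  simp only [Finset.sum_const, nsmul_eq_mul, mul_one] at h3
  exact_mod_cast h3.symm

section Main

variable {G : Type u} [Group G] [Fintype G] {p : ℕ} [hp : Fact p.Prime] {M : Ideal AlgInt}
variable {P : Sylow p G} (H : Hyp P)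

set_option quotPrecheck false in
local notation "𝔸" => ↥(P : Subgroup G)
set_option quotPrecheck false in
local notation "𝔑" => ↥(normalizer ((P : Subgroup G) : Set G))

open Classical in
/-- The sum over the `N`-orbit of a linear character. -/
noncomputable def orb [Fintype (𝔸 →* ℂˣ)] (ψ : 𝔸 →* ℂˣ) (y : 𝔸) : ℂ :=
  ∑ ψ' : 𝔸 →* ℂˣ, if ∃ n : 𝔑, n • ψ = ψ' then ((ψ' y : ℂˣ) : ℂ) else 0

open Classical in
theorem orb_eq [Fintype (𝔸 →* ℂˣ)] (ψ : 𝔸 →* ℂˣ) (y : 𝔸) (inst : ∀ ψ' : 𝔸 →* ℂˣ, Decidable (∃ n : 𝔑, n • ψ = ψ')) :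
    (∑ ψ' : 𝔸 →* ℂˣ, @ite _ (∃ n : 𝔑, n • ψ = ψ') (inst ψ') ((ψ' y : ℂˣ) : ℂ) 0) = orb ψ y := by
  unfold orb
  refine Finset.sum_congr rfl fun ψ' _ => ?_
  by_cases h : ∃ n : 𝔑, n • ψ = ψ'
  · rw [if_pos h, if_pos h]
  · rw [if_neg h, if_neg h]

include H

open Classical in
theorem orb_add_orb [Fintype 𝔸] [Fintype (𝔸 →* ℂˣ)] {Yf : Finset (IrrCharacter G)}
    {ζ : (𝔸 →* ℂˣ) → IrrCharacter G}
    (hζY : ∀ ψ, ψ ≠ 1 → ζ ψ ∈ Yf)
    (hiff : ∀ ψ ψ', ψ ≠ 1 → ψ' ≠ 1 → (ζ ψ = ζ ψ' ↔ ∃ n : 𝔑, n • ψ = ψ'))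
    (hYc : Yf.card = 2) {ψ ψ' : 𝔸 →* ℂˣ} (hψ : ψ ≠ 1) (hψ' : ψ' ≠ 1) (hne : ζ ψ ≠ ζ ψ')
    {y : 𝔸} (hy : y ≠ 1) : orb ψ y + orb ψ' y = -1 := by
  have hY : Yf = {ζ ψ, ζ ψ'} := by
    symm
    apply Finset.eq_of_subset_of_card_le
    · intro η hη
      rw [Finset.mem_insert, Finset.mem_singleton] at hη
      rcases hη with rfl | rfl
      · exact hζY _ hψ
      · exact hζY _ hψ'
    · rw [Finset.card_pair hne, hYc]
  have h2 : orb ψ y + orb ψ' y = ∑ ψ'' : 𝔸 →* ℂˣ, (((ψ'' y : ℂˣ) : ℂ) - if ψ'' = 1 then 1 else 0) := by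
    unfold orb
    rw [← Finset.sum_add_distrib]
    refine Finset.sum_congr rfl fun ψ'' _ => ?_
    by_cases h1 : ψ'' = 1
    · subst h1
      rw [if_neg, if_neg, if_pos rfl]
      · simp
      · rintro ⟨n, hn⟩
        exact smul_ne_one _ n hψ' hn
      · rintro ⟨n, hn⟩
        exact smul_ne_one _ n hψ hn
    · rw [if_neg h1, sub_zero]
      have h2 := hζY _ h1
      rw [hY, Finset.mem_insert, Finset.mem_singleton] at h2
      rcases h2 with h2 | h2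
      · have h3 := (hiff ψ ψ'' hψ h1).1 h2.symm
        have h4 : ¬ ∃ n : 𝔑, n • ψ' = ψ'' := fun h => hne (by
          rw [← h2]
          exact ((hiff ψ' ψ'' hψ' h1).2 h).symm)
        rw [if_pos h3, if_neg h4, add_zero]
      · have h3 := (hiff ψ' ψ'' hψ' h1).1 h2.symm
        have h4 : ¬ ∃ n : 𝔑, n • ψ = ψ'' := fun h => hne (by
          rw [← h2]
          exact ((hiff ψ ψ'' hψ h1).2 h))
        rw [if_pos h3, if_neg h4, zero_add]
  rw [h2, Finset.sum_sub_distrib, sum_dual H.commA, if_neg hy,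
    Finset.sum_ite_eq' Finset.univ (1 : 𝔸 →* ℂˣ), if_pos (Finset.mem_univ _)]
  ring

set_option maxHeartbeats 2000000 in
open Classical in
/-- The normalized structure of the principal block. -/
theorem main3 [Fintype 𝔸] [Fintype 𝔑] [Fintype (𝔸 →* ℂˣ)] (hM : IsPModular p M)
    (hN : Nat.card 𝔑 = 3 * Nat.card (centralizer ((P : Subgroup G) : Set G)))
    (hmP : 3 + 1 < Nat.card 𝔸) :
    ∃ (Xf Yf : Finset (IrrCharacter G)) (a : IrrCharacter G → ℤ) (δ : ℤ) (ζ : (𝔸 →* ℂˣ) → IrrCharacter G) (r : ℕ),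
      r * 3 = Nat.card 𝔸 - 1 ∧ Xf ∪ Yf = SingConst.B₀ M G ∧ Disjoint Xf Yf ∧ Xf.card = 3 ∧ Yf.card = r ∧
      BlockNormal.irrOne G ∈ Xf ∧ a (BlockNormal.irrOne G) = 1 ∧ (δ = 1 ∨ δ = -1) ∧
      (∀ χ ∈ Xf, a χ = 1 ∨ a χ = -1) ∧ (∀ χ ∈ Xf, ∀ y : 𝔸, y ≠ 1 → (χ : G → ℂ) y = a χ) ∧
      (∀ ψ, ψ ≠ 1 → ζ ψ ∈ Yf) ∧ (∀ η ∈ Yf, ∃ ψ, ψ ≠ 1 ∧ ζ ψ = η) ∧
      (∀ ψ ψ', ψ ≠ 1 → ψ' ≠ 1 → (ζ ψ = ζ ψ' ↔ ∃ n : 𝔑, n • ψ = ψ')) ∧
      (∀ ψ, ψ ≠ 1 → ∀ y : 𝔸, y ≠ 1 → (ζ ψ : G → ℂ) y = δ * orb ψ y) ∧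
      (∀ η ∈ Yf, ∀ η' ∈ Yf, ∀ g : G, ¬ p ∣ orderOf g → (η : G → ℂ) g = (η' : G → ℂ) g) ∧
      (∀ η ∈ Yf, ∀ g : G, ¬ p ∣ orderOf g →
        - (δ : ℂ) * (η : G → ℂ) g + ∑ χ ∈ Xf, (a χ : ℂ) * (χ : G → ℂ) g = 0) := by
  obtain ⟨Xf, Yf, a, d, σ, ζ, r, hr, hr2, hU, hD, hYc, h1X, ha1, hσ, hnz, hvX, hζY, hYζ, hiff, hvY, hnorm, hagree, hlin⟩ :=
    H.main2 hM 3 (by norm_num) hN hmP
  have hvY' : ∀ ψ, ψ ≠ 1 → ∀ y : 𝔸, y ≠ 1 → (ζ ψ : G → ℂ) y = d + σ * orb ψ y := by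
    intro ψ hψ y hy
    rw [hvY ψ hψ y hy, orb_eq]
  have hr2' : (2 : ℤ) ≤ r := by exact_mod_cast hr2
  have hs1 : 1 ≤ ∑ χ ∈ Xf, a χ ^ 2 := by
    have h3 : a (BlockNormal.irrOne G) ^ 2 ≤ ∑ χ ∈ Xf, a χ ^ 2 :=
      Finset.single_le_sum (f := fun χ => a χ ^ 2) (fun i _ => sq_nonneg _) h1X
    rw [ha1] at h3
    simpa using h3
  have hσ2 : σ ^ 2 = 1 := by rcases hσ with rfl | rfl <;> norm_num
  have hσ0 : (σ : ℂ) * σ = 1 := by
    have : σ * σ = 1 := by rw [← sq]; exact hσ2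
    exact_mod_cast this
  -- the case `d = 0`
  by_cases hd : d = 0
  · subst hd
    have hs : ∑ χ ∈ Xf, a χ ^ 2 = 3 := by
      push_cast at hnorm
      linarith
    obtain ⟨hXc, hXs⟩ := x_structure Xf a hnz hs
    refine ⟨Xf, Yf, a, σ, ζ, r, hr, hU, hD, hXc, hYc, h1X, ha1, hσ, hXs, hvX, hζY, hYζ, hiff, ?_, hagree, ?_⟩
    · intro ψ hψ y hy
      rw [hvY' ψ hψ y hy]
      simp
    · intro η hη g hg
      have := hlin η hη g hg
      simp only [Int.cast_zero, mul_zero, zero_sub] at this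
      exact this
  -- otherwise `d = σ`, and `r ≤ 4`
  have hdσ : d = σ := by
    have h2 : (r : ℤ) * d ^ 2 - 2 * σ * d ≤ 2 := by
      push_cast at hnorm
      linarith
    have h3 : d ^ 2 ≥ 1 := by
      have : d ^ 2 > 0 := by positivity
      omega
    rcases hσ with rfl | rfl
    · have h4 : d ≤ 1 := by nlinarith
      have h5 : -1 ≤ d := by nlinarith
      have h6 : d ≠ -1 := by
        rintro rfl
        norm_num at h2
        linarith
      omega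
    · have h4 : d ≤ 1 := by nlinarith
      have h5 : -1 ≤ d := by nlinarith
      have h6 : d ≠ 1 := by
        rintro rfl
        norm_num at h2
        linarith
      omega
  subst hdσ
  have hrs : ∑ χ ∈ Xf, a χ ^ 2 + (r : ℤ) = 5 := by
    push_cast at hnorm
    have : (r : ℤ) * d ^ 2 - 2 * d * d = (r : ℤ) - 2 := by
      rw [hσ2]
      nlinarith
    linarith
  have hYne : Yf.Nonempty := by
    rw [← Finset.card_pos, hYc]
    omega
  obtain ⟨η₀, hη₀⟩ := hYne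
  -- `r = 4` is impossible
  have hr4 : r ≠ 4 := by
    rintro rfl
    have h2 : ∑ χ ∈ Xf, a χ ^ 2 = 1 := by push_cast at hrs; linarith
    have h3 : Xf = {BlockNormal.irrOne G} := by
      ext χ
      rw [Finset.mem_singleton]
      constructor
      · intro hχ
        by_contra hne
        have h4 : ∑ χ ∈ ({BlockNormal.irrOne G, χ} : Finset _), a χ ^ 2 ≤ ∑ χ ∈ Xf, a χ ^ 2 := by
          apply Finset.sum_le_sum_of_subset_of_nonneg
          · intro u hu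
            rw [Finset.mem_insert, Finset.mem_singleton] at hu
            rcases hu with rfl | rfl
            · exact h1X
            · exact hχ
          · intro i _ _
            exact sq_nonneg _
        rw [Finset.sum_pair (Ne.symm hne), ha1, h2] at h4
        have h5 : 0 < a χ ^ 2 := by
          have := hnz χ hχ
          positivity
        have h7 : (1 : ℤ) ^ 2 = 1 := by norm_num
        rw [h7] at h4
        linarith
      · rintro rfl
        exact h1X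
    have h4 := hlin η₀ hη₀ 1 (by simp [hp.out.one_lt.ne'])
    rw [h3, Finset.sum_singleton, ha1] at h4
    have h5 : ((BlockNormal.irrOne G : IrrCharacter G) : G → ℂ) 1 = 1 := rfl
    rw [h5, CharKernel.one_eq_charDegree (IsIrrCharacter.isCharacter η₀.2)] at h4
    push_cast at h4
    have h6 : ((3 * d * (charDegree (η₀ : G → ℂ)) + 1 : ℤ) : ℂ) = 0 := by
      push_cast
      linear_combination h4
    have h7 : 3 * d * (charDegree (η₀ : G → ℂ) : ℤ) + 1 = 0 := by exact_mod_cast h6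
    have h8 : (3 : ℤ) ∣ 1 := ⟨-(d * (charDegree (η₀ : G → ℂ) : ℤ)), by linear_combination h7⟩
    norm_num at h8
  -- `r = 3` is impossible
  have hr3 : r ≠ 3 := by
    rintro rfl
    have h1 : Nat.card 𝔸 = 10 := by omega
    obtain ⟨n, hn⟩ := IsPGroup.iff_card.mp P.isPGroup'
    rw [h1] at hn
    have hp' := hp.out
    have hn0 : n ≠ 0 := by
      rintro rfl
      norm_num at hn
    have hdvd : p ∣ 10 := by
      rw [hn]
      exact dvd_pow_self p hn0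
    have hp10 : p ≤ 10 := Nat.le_of_dvd (by norm_num) hdvd
    have hn4 : n < 4 := by
      by_contra hcon
      have h2 : 2 ^ 4 ≤ p ^ n := (Nat.pow_le_pow_left hp'.two_le 4).trans (Nat.pow_le_pow_right hp'.pos (by omega))
      omega
    interval_cases n <;> interval_cases p <;> simp_all (config := { decide := true })
  have hr2e : r = 2 := by
    have h2 : (r : ℤ) ≤ 4 := by linarith
    have h3 : r ≤ 4 := by exact_mod_cast h2
    omega
  subst hr2e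
  -- relabel
  have hs : ∑ χ ∈ Xf, a χ ^ 2 = 3 := by push_cast at hrs; linarith
  obtain ⟨hXc, hXs⟩ := x_structure Xf a hnz hs
  obtain ⟨η₁, η₂, hne, hY⟩ := Finset.card_eq_two.mp hYc
  set ζ' : (𝔸 →* ℂˣ) → IrrCharacter G := fun ψ => if ζ ψ = η₁ then η₂ else η₁ with hζ'
  have hmem1 : η₁ ∈ Yf := by rw [hY]; simp
  have hmem2 : η₂ ∈ Yf := by rw [hY]; simp
  have hcases : ∀ ψ, ψ ≠ 1 → ζ ψ = η₁ ∨ ζ ψ = η₂ := by
    intro ψ hψ
    have := hζY ψ hψ
    rw [hY, Finset.mem_insert, Finset.mem_singleton] at this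
    exact this
  have hζ'ne : ∀ ψ, ψ ≠ 1 → ζ' ψ ≠ ζ ψ := by
    intro ψ hψ
    simp only [hζ']
    rcases hcases ψ hψ with h | h
    · rw [if_pos h, h]
      exact hne.symm
    · rw [h, if_neg hne.symm]
      exact hne
  refine ⟨Xf, Yf, a, -d, ζ', 2, hr, hU, hD, hXc, hYc, h1X, ha1, ?_, hXs, hvX, ?_, ?_, ?_, ?_, hagree, ?_⟩
  · rcases hσ with rfl | rfl <;> simp
  · intro ψ hψ
    simp only [hζ']
    split_ifs
    · exact hmem2
    · exact hmem1
  · intro η hη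
    rw [hY, Finset.mem_insert, Finset.mem_singleton] at hη
    have h2 : ∀ η' ∈ Yf, η' ≠ η → ∃ ψ, ψ ≠ 1 ∧ ζ' ψ = η := by
      intro η' hη' hne'
      obtain ⟨ψ, hψ, hψη⟩ := hYζ η' hη'
      refine ⟨ψ, hψ, ?_⟩
      simp only [hζ']
      rcases hη with rfl | rfl
      · rw [if_neg (by rw [hψη]; exact hne')]
      · rw [hψη]
        have : η' = η₁ := by
          rw [hY, Finset.mem_insert, Finset.mem_singleton] at hη'
          rcases hη' with h | h
          · exact h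
          · exact absurd h hne'
        rw [if_pos this]
    rcases hη with rfl | rfl
    · exact h2 η₂ hmem2 hne.symm
    · exact h2 η₁ hmem1 hne
  · intro ψ ψ' hψ hψ'
    rw [← hiff ψ ψ' hψ hψ']
    simp only [hζ']
    rcases hcases ψ hψ with h | h <;> rcases hcases ψ' hψ' with h' | h'
    · simp [h, h']
    · simp [h, h', hne, hne.symm]
    · simp [h, h', hne, hne.symm]
    · simp [h, h', hne, hne.symm]
  · intro ψ hψ y hy
    obtain ⟨ψ', hψ', hψ'η⟩ := hYζ (ζ' ψ) (by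
      simp only [hζ']
      split_ifs
      · exact hmem2
      · exact hmem1)
    rw [← hψ'η, hvY' ψ' hψ' y hy]
    have h2 := orb_add_orb H hζY hiff hYc hψ hψ' (by rw [hψ'η]; exact (hζ'ne ψ hψ).symm) hy
    push_cast
    linear_combination (d : ℂ) * h2
  · intro η hη g hg
    have := hlin η hη g hg
    push_cast at this ⊢
    linear_combination this - (d : ℂ) * 0
end Main

end Cfsg.Agent.Lib.FrobThree
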