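import Mathlib
import Cfsg.Agent.Lib.FrobThree

/-!
# Abelian Sylow subgroup with `N/C` of order three: auxiliary lemmas on fusion and orbit sums
-/

set_option autoImplicit false
set_option linter.unusedSectionVars false
set_option linter.unusedVariables false
set_option linter.style.haveILetI false

namespace Cfsg.Agent.Lib.FrobThreeA

open Cfsg Cfsg.Agent.Lib Cfsg.Agent.Lib.FrobBlock Cfsg.Agent.Lib.FrobThree Cfsg.Agent.Lib.CharBasic Subgroup
open Cfsg.Agent.Lib.DefectOne (cj cj_coe chi smul_apply smul_ne_one)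
open Cfsg.Agent.Lib.CharIntegrality Cfsg.Agent.Lib.BlockIdem Cfsg.Agent.Lib.BlkBasic
open scoped ComplexConjugate

universe u

section Main

variable {G : Type u} [Group G] [Fintype G] {p : ℕ} [hp : Fact p.Prime] {M : Ideal AlgInt}
variable {P : Sylow p G} (H : Hyp P)

set_option quotPrecheck false in
local notation "𝔸" => ↥(P : Subgroup G)
set_option quotPrecheck false in
local notation "𝔑" => ↥(normalizer ((P : Subgroup G) : Set G))
set_option quotPrecheck false in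
local notation "ℭ" => centralizer ((P : Subgroup G) : Set G)

omit H in
theorem normal_sub : ((ℭ).subgroupOf (normalizer ((P : Subgroup G) : Set G))).Normal := by
  constructor
  intro k hk n
  rw [mem_subgroupOf] at hk ⊢
  rw [mem_centralizer_iff] at hk ⊢
  intro u hu
  have h1 : (n : G)⁻¹ * u * n ∈ (P : Subgroup G) := by
    have h2 := (mem_normalizer_iff.1 ((normalizer ((P : Subgroup G) : Set G)).inv_mem n.2) u).1 hu
    simpa using h2
  have h3 := hk _ h1
  simp only [Subgroup.coe_mul, InvMemClass.coe_inv] at h3 ⊢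
  calc u * ((n : G) * k * (n : G)⁻¹) = n * (((n : G)⁻¹ * u * n) * k) * (n : G)⁻¹ := by group
    _ = n * ((k : G) * ((n : G)⁻¹ * u * n)) * (n : G)⁻¹ := by rw [h3]
    _ = _ := by group

omit H in
theorem pow_three_mem (hidx : ((ℭ).subgroupOf (normalizer ((P : Subgroup G) : Set G))).index = 3) (n : 𝔑) :
    (n : G) ^ 3 ∈ ℭ := by
  haveI := normal_sub (P := P)
  have h := Subgroup.pow_index_mem ((ℭ).subgroupOf (normalizer ((P : Subgroup G) : Set G))) n
  rw [hidx, mem_subgroupOf] at h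
  simpa using h

include H

/-- An element of the Sylow subgroup conjugate to its inverse is an involution. -/
theorem not_real (hidx : ((ℭ).subgroupOf (normalizer ((P : Subgroup G) : Set G))).index = 3)
    {y : G} (hy : y ∈ (P : Subgroup G)) (h : IsConj y y⁻¹) : y * y = 1 := by
  by_cases hy1 : y = 1
  · simp [hy1]
  obtain ⟨n, hn⟩ := (H.isConj_iff (y := ⟨y, hy⟩) (y' := ⟨y⁻¹, inv_mem hy⟩)).1 h
  have hn' : (n : G) * y * (n : G)⁻¹ = y⁻¹ := by
    have h1 := congrArg Subtype.val hn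
    simpa [cj_coe] using h1
  have h2 : (n : G) ^ 2 ∈ centralizer ({y} : Set G) := by
    rw [mem_centralizer_singleton_iff]
    have h3 : (n : G) * y = y⁻¹ * n := by
      rw [← hn']
      simp
    have h4 : (n : G) * y⁻¹ = y * n := by
      have h5 : (n : G) * y⁻¹ * (n : G)⁻¹ = y := by
        have h6 : (n : G) * y⁻¹ * (n : G)⁻¹ = ((n : G) * y * (n : G)⁻¹)⁻¹ := by group
        rw [h6, hn', inv_inv]
      calc (n : G) * y⁻¹ = ((n : G) * y⁻¹ * (n : G)⁻¹) * n := by simp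
        _ = y * n := by rw [h5]
    calc (n : G) ^ 2 * y = n * ((n : G) * y) := by rw [pow_two, mul_assoc]
      _ = n * (y⁻¹ * n) := by rw [h3]
      _ = ((n : G) * y⁻¹) * n := by rw [mul_assoc]
      _ = (y * n) * n := by rw [h4]
      _ = y * (n : G) ^ 2 := by rw [pow_two, mul_assoc]
  have h3 : (n : G) ^ 2 ∈ ℭ := by
    rw [← H.frob y hy hy1]
    refine ⟨h2, ?_⟩
    exact (normalizer ((P : Subgroup G) : Set G)).pow_mem n.2 2
  have h4 := pow_three_mem hidx n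
  have h5 : (n : G) ∈ ℭ := by
    have h6 := mul_mem h4 (inv_mem h3)
    have h7 : (n : G) ^ 3 * ((n : G) ^ 2)⁻¹ = n := by group
    rwa [h7] at h6
  have h6 := mem_centralizer_iff.1 h5 y hy
  rw [← h6] at hn'
  have h7 : y = y⁻¹ := by
    rw [← hn']
    group
  calc y * y = y * y⁻¹ := by rw [← h7]
    _ = 1 := by group

/-- The product of two conjugates, in exponent two. -/
theorem prod_conj (hidx : ((ℭ).subgroupOf (normalizer ((P : Subgroup G) : Set G))).index = 3)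
    (hexp : ∀ y ∈ (P : Subgroup G), y * y = 1) {T W : G} (hT : T ∈ (P : Subgroup G))
    (hW : W ∈ (P : Subgroup G)) (h : IsConj T W) : W * T = 1 ∨ IsConj T (W * T) := by
  obtain ⟨n, hn⟩ := (H.isConj_iff (y := ⟨T, hT⟩) (y' := ⟨W, hW⟩)).1 h
  have hn' : (n : G) * T * (n : G)⁻¹ = W := by
    have h1 := congrArg Subtype.val hn
    simpa [cj_coe] using h1
  have hnP : ∀ y ∈ (P : Subgroup G), (n : G) * y * (n : G)⁻¹ ∈ (P : Subgroup G) := fun y hy =>
    (mem_normalizer_iff.1 n.2 y).1 hy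
  by_cases hC : (n : G) ∈ ℭ
  · left
    have h6 := mem_centralizer_iff.1 hC T hT
    rw [← h6] at hn'
    have h7 : T = W := by
      rw [← hn']
      group
    rw [← h7]
    exact hexp T hT
  · set Z := (n : G) * W * (n : G)⁻¹ with hZ
    have hZP : Z ∈ (P : Subgroup G) := hnP W hW
    set u := T * W * Z with hu
    have huP : u ∈ (P : Subgroup G) := mul_mem (mul_mem hT hW) hZP
    have h3 : (n : G) * Z * (n : G)⁻¹ = T := by
      have h4 := mem_centralizer_iff.1 (pow_three_mem hidx n) T hT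
      have h5 : (n : G) * Z * (n : G)⁻¹ = (n : G) ^ 3 * T * ((n : G) ^ 3)⁻¹ := by
        rw [hZ, ← hn']
        simp only [pow_succ, pow_zero, one_mul, mul_inv_rev, mul_assoc]
      rw [h5, ← h4]
      group
    have hnu : (n : G) * u * (n : G)⁻¹ = u := by
      have h4 : (n : G) * u * (n : G)⁻¹ =
          ((n : G) * T * (n : G)⁻¹) * ((n : G) * W * (n : G)⁻¹) * ((n : G) * Z * (n : G)⁻¹) := by
        rw [hu]
        group
      rw [h4, hn', h3, ← hZ, hu]
      have h5 := H.comm W hW T hT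
      have h6 := H.comm Z hZP T hT
      calc W * Z * T = W * (Z * T) := by group
        _ = W * (T * Z) := by rw [h6]
        _ = (W * T) * Z := by group
        _ = (T * W) * Z := by rw [h5]
    have hu1 : u = 1 := by
      by_contra hu1
      apply hC
      rw [← H.frob u huP hu1]
      refine ⟨?_, n.2⟩
      show (n : G) ∈ centralizer ({u} : Set G)
      rw [mem_centralizer_singleton_iff]
      calc (n : G) * u = ((n : G) * u * (n : G)⁻¹) * n := by group
        _ = u * n := by rw [hnu]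
    right
    have h5 : W * T = Z := by
      have h6 := hexp Z hZP
      have h7 : T * W * Z * Z = Z := by
        rw [← hu, hu1, one_mul]
      have h8 : T * W = Z := by
        calc T * W = T * W * (Z * Z) := by rw [h6, mul_one]
          _ = T * W * Z * Z := by group
          _ = Z := h7
      rw [H.comm W hW T hT]
      exact h8
    rw [h5]
    refine h.trans ?_
    exact isConj_iff.2 ⟨n, hZ.symm⟩

/-- The size of an orbit on the dual group. -/
theorem card_orbit3 [Fintype 𝔑] [Fintype (𝔸 →* ℂˣ)]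
    (hN : Nat.card 𝔑 = 3 * Nat.card ℭ) {ψ : 𝔸 →* ℂˣ} (hψ : ψ ≠ 1)
    [DecidableEq (𝔸 →* ℂˣ)] [DecidablePred (fun ψ' : 𝔸 →* ℂˣ => ∃ n : 𝔑, n • ψ = ψ')] :
    (Finset.univ.filter (fun ψ' : 𝔸 →* ℂˣ => ∃ n : 𝔑, n • ψ = ψ')).card = 3 := by
  have h1 : Fintype.card 𝔑 = ∑ ψ' : 𝔸 →* ℂˣ, (Finset.univ.filter (fun n : 𝔑 => n • ψ = ψ')).card := by
    rw [← Finset.card_univ]
    exact Finset.card_eq_sum_card_fiberwise (fun n _ => Finset.mem_coe.2 (Finset.mem_univ _))
  have h2 : ∀ ψ' : 𝔸 →* ℂˣ, (Finset.univ.filter (fun n : 𝔑 => n • ψ = ψ')).card =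
      if ∃ n : 𝔑, n • ψ = ψ' then Nat.card ℭ else 0 := fun ψ' => H.card_fiber_dual hψ ψ'
  simp_rw [h2] at h1
  rw [Finset.sum_ite, Finset.sum_const, Finset.sum_const_zero, add_zero, smul_eq_mul,
    ← Nat.card_eq_fintype_card, hN] at h1
  have hc : 0 < Nat.card ℭ := Nat.card_pos
  have h3 := Nat.eq_of_mul_eq_mul_right hc h1
  exact h3.symm

/-- The size of a class on the Sylow subgroup. -/
theorem card_class3 [Fintype 𝔑] [Fintype 𝔸]
    (hN : Nat.card 𝔑 = 3 * Nat.card ℭ) {y : 𝔸} (hy : y ≠ 1)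
    [DecidableEq 𝔸] [DecidablePred (fun y' : 𝔸 => IsConj (y : G) (y' : G))] :
    (Finset.univ.filter (fun y' : 𝔸 => IsConj (y : G) (y' : G))).card = 3 := by
  have h1 : Fintype.card 𝔑 = ∑ y' : 𝔸, (Finset.univ.filter (fun n : 𝔑 => cj (P : Subgroup G) n⁻¹ y = y')).card := by
    rw [← Finset.card_univ]
    exact Finset.card_eq_sum_card_fiberwise (fun n _ => Finset.mem_coe.2 (Finset.mem_univ _))
  have h2 : ∀ y' : 𝔸, (Finset.univ.filter (fun n : 𝔑 => cj (P : Subgroup G) n⁻¹ y = y')).card =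
      if IsConj (y : G) (y' : G) then Nat.card ℭ else 0 := fun y' => H.card_fiber_act hy y'
  simp_rw [h2] at h1
  rw [Finset.sum_ite, Finset.sum_const, Finset.sum_const_zero, add_zero, smul_eq_mul,
    ← Nat.card_eq_fintype_card, hN] at h1
  have hc : 0 < Nat.card ℭ := Nat.card_pos
  have h3 := Nat.eq_of_mul_eq_mul_right hc h1
  exact h3.symm

open Classical in
/-- The orbit sum as an average over the normalizer. -/
theorem orb_avg [Fintype 𝔑] [Fintype (𝔸 →* ℂˣ)] {ψ : 𝔸 →* ℂˣ} (hψ : ψ ≠ 1) (y : 𝔸) :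
    (Nat.card ℭ : ℂ) * orb ψ y = ∑ n : 𝔑, ((ψ (cj (P : Subgroup G) n y) : ℂˣ) : ℂ) := by
  have h1 : ∑ n : 𝔑, ((ψ (cj (P : Subgroup G) n y) : ℂˣ) : ℂ) = ∑ n : 𝔑, (((n • ψ) y : ℂˣ) : ℂ) := rfl
  rw [h1, ← Finset.sum_fiberwise Finset.univ (fun n : 𝔑 => n • ψ), orb, Finset.mul_sum]
  refine Finset.sum_congr rfl fun ψ' _ => ?_
  have h2 : ∑ n ∈ Finset.univ.filter (fun n : 𝔑 => n • ψ = ψ'), (((n • ψ) y : ℂˣ) : ℂ) =
      ∑ n ∈ Finset.univ.filter (fun n : 𝔑 => n • ψ = ψ'), ((ψ' y : ℂˣ) : ℂ) :=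
    Finset.sum_congr rfl fun n hn => by rw [(Finset.mem_filter.mp hn).2]
  rw [h2, Finset.sum_const, H.card_fiber_dual hψ ψ', nsmul_eq_mul]
  by_cases h : ∃ n : 𝔑, n • ψ = ψ'
  · rw [if_pos h, if_pos h]
  · rw [if_neg h, if_neg h]
    simp

open Classical in
/-- The triple sum over the nontrivial characters. -/
theorem triple_sum [Fintype 𝔑] [Fintype 𝔸] [Fintype (𝔸 →* ℂˣ)] (hN : Nat.card 𝔑 = 3 * Nat.card ℭ)
    (a₀ b₀ c₀ : 𝔸) (hw : ∀ n₁ n₂ n₃ : 𝔑, cj (P : Subgroup G) n₁ a₀ * cj (P : Subgroup G) n₂ b₀ ≠ cj (P : Subgroup G) n₃ c₀) :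
    ∑ ψ ∈ Finset.univ.filter (fun ψ : 𝔸 →* ℂˣ => ψ ≠ 1), orb ψ a₀ * orb ψ b₀ * conj (orb ψ c₀) = -27 := by
  set c : ℂ := (Nat.card ℭ : ℂ) with hc
  have hc0 : c ≠ 0 := by
    rw [hc]
    exact_mod_cast Nat.card_pos.ne'
  have h1 : ∀ ψ ∈ Finset.univ.filter (fun ψ : 𝔸 →* ℂˣ => ψ ≠ 1),
      c ^ 3 * (orb ψ a₀ * orb ψ b₀ * conj (orb ψ c₀)) =
        ∑ x : 𝔑 × 𝔑 × 𝔑, ((ψ (cj (P : Subgroup G) x.1 a₀ * cj (P : Subgroup G) x.2.1 b₀ * (cj (P : Subgroup G) x.2.2 c₀)⁻¹) : ℂˣ) : ℂ) := by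
    intro ψ hψ
    have hψ' : ψ ≠ 1 := (Finset.mem_filter.mp hψ).2
    have h2 := orb_avg H hψ' a₀
    have h3 := orb_avg H hψ' b₀
    have h4 := orb_avg H hψ' c₀
    have h5 : c ^ 3 * (orb ψ a₀ * orb ψ b₀ * conj (orb ψ c₀)) =
        (c * orb ψ a₀) * (c * orb ψ b₀) * conj (c * orb ψ c₀) := by
      rw [map_mul (starRingEnd ℂ) c, hc, Complex.conj_natCast]
      ring
    rw [h5, ← hc] at *
    rw [h2, h3, h4, Fintype.sum_prod_type, map_sum, Finset.sum_mul_sum, Finset.sum_mul]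
    refine Finset.sum_congr rfl fun n₁ _ => ?_
    rw [Fintype.sum_prod_type, Finset.sum_mul]
    refine Finset.sum_congr rfl fun n₂ _ => ?_
    rw [Finset.mul_sum]
    refine Finset.sum_congr rfl fun n₃ _ => ?_
    rw [conj_hom, map_mul, map_mul, map_inv]
    simp
  have h2 : c ^ 3 * ∑ ψ ∈ Finset.univ.filter (fun ψ : 𝔸 →* ℂˣ => ψ ≠ 1), orb ψ a₀ * orb ψ b₀ * conj (orb ψ c₀) =
      -27 * c ^ 3 := by
    rw [Finset.mul_sum, Finset.sum_congr rfl h1, Finset.sum_comm]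
    have h3 : ∀ x : 𝔑 × 𝔑 × 𝔑, ∑ ψ ∈ Finset.univ.filter (fun ψ : 𝔸 →* ℂˣ => ψ ≠ 1),
        ((ψ (cj (P : Subgroup G) x.1 a₀ * cj (P : Subgroup G) x.2.1 b₀ * (cj (P : Subgroup G) x.2.2 c₀)⁻¹) : ℂˣ) : ℂ) = -1 := by
      intro x
      set w := cj (P : Subgroup G) x.1 a₀ * cj (P : Subgroup G) x.2.1 b₀ * (cj (P : Subgroup G) x.2.2 c₀)⁻¹ with hwd
      have hw1 : w ≠ 1 := by
        intro h
        apply hw x.1 x.2.1 x.2.2
        rw [hwd, mul_inv_eq_one] at h
        exact h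
      have h4 := sum_dual H.commA w
      rw [if_neg hw1] at h4
      rw [Finset.filter_ne', Finset.sum_erase_eq_sub (Finset.mem_univ _), h4]
      simp
    simp_rw [h3]
    rw [Finset.sum_const, Finset.card_univ, Fintype.card_prod, Fintype.card_prod, ← Nat.card_eq_fintype_card, hN,
      nsmul_eq_mul, hc]
    push_cast
    ring
  have h3 : c ^ 3 ≠ 0 := pow_ne_zero _ hc0
  exact mul_left_cancel₀ h3 (by rw [h2]; ring)

end Main

end Cfsg.Agent.Lib.FrobThreeA
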