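import Mathlib
import Cfsg.Agent.Lib.FrobThreeA

/-!
# Abelian Sylow subgroup with `N/C` of order three: the relation of the class sums
-/

set_option autoImplicit false
set_option linter.unusedSectionVars false
set_option linter.unusedVariables false
set_option linter.style.haveILetI false

namespace Cfsg.Agent.Lib.FrobThreeB

open Cfsg Cfsg.Agent.Lib Cfsg.Agent.Lib.FrobBlock Cfsg.Agent.Lib.FrobThree Cfsg.Agent.Lib.FrobThreeA
open Cfsg.Agent.Lib.CharBasic Subgroup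
open Cfsg.Agent.Lib.DefectOne (cj cj_coe chi smul_apply smul_ne_one)
open Cfsg.Agent.Lib.CharIntegrality Cfsg.Agent.Lib.BlockIdem Cfsg.Agent.Lib.BlkBasic
open scoped ComplexConjugate

universe u

section Frob

variable {G : Type u} [Group G] [Fintype G] {M : Ideal AlgInt}

/-- The Frobenius class formula for two classes. -/
theorem frobenius_two {t s : G} (x : G) :
    conv (castFun (classIndicator t)) (castFun (classIndicator s)) x =
      (((centralizer ({t} : Set G)).index : ℂ) * ((centralizer ({s} : Set G)).index : ℂ) / (Nat.card G : ℂ)) *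
        ∑ χ : IrrCharacter G, ((χ : G → ℂ) t * (χ : G → ℂ) s / (χ : G → ℂ) 1) * (χ : G → ℂ) x⁻¹ := by
  classical
  set cl : G → ℂ := castFun (classIndicator t) with hcl
  set cs : G → ℂ := castFun (classIndicator s) with hcs
  have hclc : IsClassFunction G cl := castFun_isClassFunction (classIndicator_mem t)
  have hcsc : IsClassFunction G cs := castFun_isClassFunction (classIndicator_mem s)
  have h1 : IsClassFunction G (conv cl cs) := by
    intro g h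
    have := conv_isClassFunction hclc hcsc g h
    exact this
  have h2 := congrFun (invF_omega h1) x
  rw [← h2]
  unfold invF
  rw [Finset.mul_sum]
  refine Finset.sum_congr rfl fun χ _ => ?_
  show omega (χ : G → ℂ) (conv cl cs) * ec (χ : G → ℂ) x = _
  rw [omega_conv χ.2 hclc hcsc, hcl, hcs, omega_classIndicator, omega_classIndicator]
  unfold ec centralChar
  have h3 : (χ : G → ℂ) 1 ≠ 0 := irr_one_ne_zero' χ.2
  have h4 : (Nat.card G : ℂ) ≠ 0 := by exact_mod_cast Nat.card_pos.ne'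
  field_simp

/-- The vanishing of a sum over the principal block, when no product of the two classes lies in
the section of `y⁻¹`. -/
theorem sum_two_eq_zero {p : ℕ} [Fact p.Prime] (hM : IsPModular p M) {t s y : G}
    (hy : ∃ k : ℕ, orderOf y = p ^ k)
    (hno : ∀ k : centralizer ({y⁻¹} : Set G), ¬ p ∣ orderOf k → ∀ w v : G, IsConj t w → IsConj s v →
      w * v ≠ (y⁻¹ * (k : G))⁻¹) :
    ∑ᶠ χ ∈ principalBlock M G, ((χ : G → ℂ) t * (χ : G → ℂ) s / (χ : G → ℂ) 1) * conj ((χ : G → ℂ) y) = 0 := by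
  classical
  haveI := hM.2.1.isPrime
  have hzp : ∃ k : ℕ, orderOf y⁻¹ = p ^ k := by
    rw [orderOf_inv]
    exact hy
  letI : Fintype (centralizer ({y⁻¹} : Set G)) := Fintype.ofFinite _
  have key := BlockSection.sum_principal_coeff_eq_zero hM hzp (H := centralizer ({y⁻¹} : Set G)) rfl
    (fun χ : IrrCharacter G => (χ : G → ℂ) t * (χ : G → ℂ) s / (χ : G → ℂ) 1) (by
      intro k hk
      have hne : (((centralizer ({t} : Set G)).index : ℂ) * ((centralizer ({s} : Set G)).index : ℂ) / (Nat.card G : ℂ)) ≠ 0 := by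
        have h1 : ((centralizer ({t} : Set G)).index : ℂ) ≠ 0 := by
          exact_mod_cast (Subgroup.index_ne_zero_of_finite)
        have h1' : ((centralizer ({s} : Set G)).index : ℂ) ≠ 0 := by
          exact_mod_cast (Subgroup.index_ne_zero_of_finite)
        have h2 : (Nat.card G : ℂ) ≠ 0 := by exact_mod_cast Nat.card_pos.ne'
        exact div_ne_zero (mul_ne_zero h1 h1') h2
      have h1 := frobenius_two (t := t) (s := s) (y⁻¹ * (k : G))⁻¹
      rw [inv_inv] at h1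
      apply (mul_eq_zero.mp (?_ : _ * _ = (0 : ℂ))).resolve_left hne
      rw [← h1]
      unfold conv
      refine Finset.sum_eq_zero fun w _ => ?_
      unfold castFun
      by_cases hw : IsConj t w
      · by_cases hb : IsConj s (w⁻¹ * (y⁻¹ * (k : G))⁻¹)
        · exfalso
          apply hno k hk w _ hw hb
          group
        · rw [classIndicator_of_not_conj hb]
          simp
      · rw [classIndicator_of_not_conj hw]
        simp)
  rw [← key]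
  refine finsum_congr fun χ => finsum_congr fun _ => ?_
  rw [char_conj_eq_inv (IsIrrCharacter.isCharacter χ.2)]

/-- A product of two involutions with even order. -/
theorem conj_of_product {t k w v : G} (ht : t * t = 1) (hk : t * k = k * t) (hko : ¬ 2 ∣ orderOf k)
    (hw : w * w = 1) (hv : v * v = 1) (hwv : w * v = (t⁻¹ * k)⁻¹) :
    w * t = t * w ∧ IsConj (w * t) v := by
  have htinv : t⁻¹ = t := inv_eq_of_mul_eq_one_left ht
  have hwinv : w⁻¹ = w := inv_eq_of_mul_eq_one_left hw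
  set k' := k⁻¹ with hk'
  have hkc : t * k' = k' * t := by
    rw [hk']
    have : k⁻¹ * (t * k) * k⁻¹ = k⁻¹ * (k * t) * k⁻¹ := by rw [hk]
    calc t * k⁻¹ = k⁻¹ * (k * t) * k⁻¹ := by group
      _ = k⁻¹ * (t * k) * k⁻¹ := by rw [hk]
      _ = k⁻¹ * t := by group
  have hx : w * v = t * k' := by
    rw [hwv, mul_inv_rev, inv_inv]
    exact hkc.symm
  have hko' : ¬ 2 ∣ orderOf k' := by
    rw [hk', orderOf_inv]
    exact hko
  set o := orderOf k' with ho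
  have hoodd : Odd o := by
    rw [← Nat.not_even_iff_odd]
    intro h
    exact hko' h.two_dvd
  have hcomm : Commute t k' := hkc
  have ht1 : ∀ m : ℕ, Odd m → t ^ m = t := by
    rintro m ⟨l, rfl⟩
    rw [pow_succ, pow_mul, sq, ht, one_pow, one_mul]
  have ht2 : ∀ m : ℕ, Even m → t ^ m = 1 := by
    rintro m ⟨l, rfl⟩
    rw [← two_mul, pow_mul, sq, ht, one_pow]
  have hk1 : k' ^ o = 1 := pow_orderOf_eq_one k'
  have hxo : (w * v) ^ o = t := by
    rw [hx, hcomm.mul_pow, ht1 o hoodd, hk1, mul_one]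
  have hxo1 : (w * v) ^ (o + 1) = k' := by
    rw [hx, hcomm.mul_pow, ht2 (o + 1) hoodd.add_one, pow_succ, hk1, one_mul, one_mul]
  have hinv : w * (w * v) * w⁻¹ = (w * v)⁻¹ := Cfsg.Agent.S4722.inverts_of_invol hw hv
  have hwt : w * t * w⁻¹ = t⁻¹ := by
    have := Cfsg.Agent.S4722.inverts_pow hinv o
    rwa [hxo] at this
  have hwk : w * k' * w⁻¹ = k'⁻¹ := by
    have := Cfsg.Agent.S4722.inverts_pow hinv (o + 1)
    rwa [hxo1] at this
  have hwt' : w * t = t * w := by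
    calc w * t = (w * t * w⁻¹) * w := by group
      _ = t * w := by rw [hwt, htinv]
  refine ⟨hwt', ?_⟩
  obtain ⟨e, he⟩ := hoodd.add_one
  -- the square root of `k'`
  have he2 : o + 1 = 2 * e := by omega
  set l := k' ^ e with hl
  have hll : l * l = k' := by
    rw [hl, ← pow_add, ← two_mul, ← he2, pow_succ, hk1, one_mul]
  have hwl : w * l * w⁻¹ = l⁻¹ := by
    rw [hl, ← conj_pow, hwk, inv_pow]
  have htl : t * l = l * t := by
    have : Commute t l := hcomm.pow_right e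
    exact this
  have hwl' : w * l = l⁻¹ * w := by
    calc w * l = (w * l * w⁻¹) * w := by group
      _ = l⁻¹ * w := by rw [hwl]
  have hwk' : w * k' = k'⁻¹ * w := by
    calc w * k' = (w * k' * w⁻¹) * w := by group
      _ = k'⁻¹ * w := by rw [hwk]
  have hv' : v = w * t * k' := by
    calc v = w * (w * v) := by rw [← mul_assoc, hw, one_mul]
      _ = w * (t * k') := by rw [hx]
      _ = w * t * k' := by rw [mul_assoc]
  refine isConj_iff.2 ⟨l⁻¹, ?_⟩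
  rw [hv', inv_inv]
  calc l⁻¹ * (w * t) * l = l⁻¹ * (w * (t * l)) := by group
    _ = l⁻¹ * ((w * l) * t) := by rw [htl]; group
    _ = l⁻¹ * (l⁻¹ * w * t) := by rw [hwl']
    _ = (l * l)⁻¹ * (w * t) := by group
    _ = k'⁻¹ * (w * t) := by rw [hll]
    _ = (k'⁻¹ * w) * t := by group
    _ = (w * k') * t := by rw [hwk']
    _ = w * (t * k') := by rw [hkc]; group
    _ = w * t * k' := by group

/-- Conjugating an element of prime power order into a given Sylow subgroup. -/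
theorem exists_conj_mem_sylow {X : Type*} [Group X] [Finite X] {p : ℕ} [Fact p.Prime] (Q : Sylow p X) {x : X}
    (hx : ∃ k : ℕ, orderOf x = p ^ k) : ∃ c : X, c * x * c⁻¹ ∈ (Q : Subgroup X) := by
  have h1 : IsPGroup p (zpowers x) := by
    obtain ⟨k, hk⟩ := hx
    apply IsPGroup.of_card (n := k)
    rw [Nat.card_zpowers, hk]
  obtain ⟨R, hR⟩ := h1.exists_le_sylow
  obtain ⟨c, hc⟩ := MulAction.exists_smul_eq X R Q
  refine ⟨c, ?_⟩
  rw [← hc]
  rw [Sylow.coe_subgroup_smul]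
  have hx' : x ∈ (R : Subgroup X) := hR (mem_zpowers x)
  exact ⟨x, hx', rfl⟩

end Frob

section Main

variable {G : Type u} [Group G] [Fintype G] {p : ℕ} [hp : Fact p.Prime] {M : Ideal AlgInt}
variable {P : Sylow p G}

set_option quotPrecheck false in
local notation "𝔸" => ↥(P : Subgroup G)
set_option quotPrecheck false in
local notation "𝔑" => ↥(normalizer ((P : Subgroup G) : Set G))
set_option quotPrecheck false in
local notation "ℭ" => centralizer ((P : Subgroup G) : Set G)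

variable (M P) in
/-- The normalized data of the principal block. -/
structure Dat [Fintype 𝔸] [Fintype (𝔸 →* ℂˣ)]
    (Xf Yf : Finset (IrrCharacter G)) (a : IrrCharacter G → ℤ) (δ : ℤ)
    (ζ : (𝔸 →* ℂˣ) → IrrCharacter G) (r : ℕ) : Prop where
  hr : r * 3 = Nat.card 𝔸 - 1
  hU : Xf ∪ Yf = SingConst.B₀ M G
  hD : Disjoint Xf Yf
  hXc : Xf.card = 3
  hYc : Yf.card = r
  h1X : BlockNormal.irrOne G ∈ Xf
  ha1 : a (BlockNormal.irrOne G) = 1
  hδ : δ = 1 ∨ δ = -1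
  hXs : ∀ χ ∈ Xf, a χ = 1 ∨ a χ = -1
  hvX : ∀ χ ∈ Xf, ∀ y : 𝔸, y ≠ 1 → (χ : G → ℂ) y = a χ
  hζY : ∀ ψ, ψ ≠ 1 → ζ ψ ∈ Yf
  hYζ : ∀ η ∈ Yf, ∃ ψ, ψ ≠ 1 ∧ ζ ψ = η
  hiff : ∀ ψ ψ', ψ ≠ 1 → ψ' ≠ 1 → (ζ ψ = ζ ψ' ↔ ∃ n : 𝔑, n • ψ = ψ')
  hvY : ∀ ψ, ψ ≠ 1 → ∀ y : 𝔸, y ≠ 1 → (ζ ψ : G → ℂ) y = δ * orb ψ y
  hagree : ∀ η ∈ Yf, ∀ η' ∈ Yf, ∀ g : G, ¬ p ∣ orderOf g → (η : G → ℂ) g = (η' : G → ℂ) g
  hlin : ∀ η ∈ Yf, ∀ g : G, ¬ p ∣ orderOf g →
    - (δ : ℂ) * (η : G → ℂ) g + ∑ χ ∈ Xf, (a χ : ℂ) * (χ : G → ℂ) g = 0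

variable [Fintype ↥(P : Subgroup G)] [Fintype (↥(P : Subgroup G) →* ℂˣ)]
  {Xf Yf : Finset (IrrCharacter G)} {a : IrrCharacter G → ℤ} {δ : ℤ}
  {ζ : (↥(P : Subgroup G) →* ℂˣ) → IrrCharacter G} {r : ℕ}

theorem Dat.sum_B₀ (D : Dat M P Xf Yf a δ ζ r) {A : Type*} [AddCommMonoid A] (f : IrrCharacter G → A) :
    ∑ χ ∈ SingConst.B₀ M G, f χ = ∑ χ ∈ Xf, f χ + ∑ χ ∈ Yf, f χ := by
  classical
  rw [← D.hU, Finset.sum_union D.hD]

theorem Dat.exists_uv (D : Dat M P Xf Yf a δ ζ r) :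
    ∃ u v : IrrCharacter G, u ≠ BlockNormal.irrOne G ∧ v ≠ BlockNormal.irrOne G ∧ u ≠ v ∧
      Xf = {BlockNormal.irrOne G, u, v} := by
  classical
  have h1 : (Xf.erase (BlockNormal.irrOne G)).card = 2 := by
    rw [Finset.card_erase_of_mem D.h1X, D.hXc]
  obtain ⟨u, v, huv, h2⟩ := Finset.card_eq_two.mp h1
  have hu : u ∈ Xf.erase (BlockNormal.irrOne G) := by rw [h2]; simp
  have hv : v ∈ Xf.erase (BlockNormal.irrOne G) := by rw [h2]; simp
  refine ⟨u, v, Finset.ne_of_mem_erase hu, Finset.ne_of_mem_erase hv, huv, ?_⟩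
  rw [← h2, Finset.insert_erase D.h1X]

theorem Dat.sum_X (D : Dat M P Xf Yf a δ ζ r) {u v : IrrCharacter G} (hu : u ≠ BlockNormal.irrOne G)
    (hv : v ≠ BlockNormal.irrOne G) (huv : u ≠ v) (hX : Xf = {BlockNormal.irrOne G, u, v}) {A : Type*} [AddCommMonoid A]
    (f : IrrCharacter G → A) : ∑ χ ∈ Xf, f χ = f (BlockNormal.irrOne G) + (f u + f v) := by
  classical
  rw [hX, Finset.sum_insert, Finset.sum_pair huv]
  simp only [Finset.mem_insert, Finset.mem_singleton, not_or]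
  exact ⟨hu.symm, hv.symm⟩

theorem Dat.Y_deg (D : Dat M P Xf Yf a δ ζ r) {η η' : IrrCharacter G} (hη : η ∈ Yf) (hη' : η' ∈ Yf) :
    (η : G → ℂ) 1 = (η' : G → ℂ) 1 :=
  D.hagree η hη η' hη' 1 (by simp [hp.out.one_lt.ne'])

open Classical in
/-- The sum over the exceptional characters of a triple product. -/
theorem Dat.sum_Y_triple (H : Hyp P) [Fintype 𝔑] (D : Dat M P Xf Yf a δ ζ r)
    (hN : Nat.card 𝔑 = 3 * Nat.card ℭ) {a₀ b₀ c₀ : 𝔸} (ha₀ : a₀ ≠ 1) (hb₀ : b₀ ≠ 1) (hc₀ : c₀ ≠ 1)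
    (hw : ∀ n₁ n₂ n₃ : 𝔑, cj (P : Subgroup G) n₁ a₀ * cj (P : Subgroup G) n₂ b₀ ≠ cj (P : Subgroup G) n₃ c₀) :
    ∑ η ∈ Yf, (η : G → ℂ) a₀ * (η : G → ℂ) b₀ * conj ((η : G → ℂ) c₀) = -9 * δ := by
  set F : IrrCharacter G → ℂ := fun η => (η : G → ℂ) a₀ * (η : G → ℂ) b₀ * conj ((η : G → ℂ) c₀) with hF
  set S := Finset.univ.filter (fun ψ : 𝔸 →* ℂˣ => ψ ≠ 1) with hS
  have h1 : ∑ ψ ∈ S, F (ζ ψ) = ∑ η ∈ Yf, ∑ ψ ∈ S.filter (fun ψ => ζ ψ = η), F (ζ ψ) :=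
    (Finset.sum_fiberwise_of_maps_to (fun ψ hψ => D.hζY ψ (Finset.mem_filter.mp hψ).2) _).symm
  have h2 : ∀ η ∈ Yf, ∑ ψ ∈ S.filter (fun ψ => ζ ψ = η), F (ζ ψ) = 3 * F η := by
    intro η hη
    obtain ⟨ψ₀, hψ₀, rfl⟩ := D.hYζ η hη
    have h3 : S.filter (fun ψ => ζ ψ = ζ ψ₀) = Finset.univ.filter (fun ψ' : 𝔸 →* ℂˣ => ∃ n : 𝔑, n • ψ₀ = ψ') := by
      ext ψ'
      simp only [hS, Finset.mem_filter, Finset.mem_univ, true_and]
      constructor
      · rintro ⟨h4, h5⟩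
        exact (D.hiff ψ₀ ψ' hψ₀ h4).1 h5.symm
      · rintro ⟨n, rfl⟩
        have h4 := smul_ne_one (P : Subgroup G) n hψ₀
        exact ⟨h4, ((D.hiff ψ₀ _ hψ₀ h4).2 ⟨n, rfl⟩).symm⟩
    rw [h3, Finset.sum_congr rfl (g := fun _ => F (ζ ψ₀)) (fun ψ' hψ' => by
      obtain ⟨n, rfl⟩ := (Finset.mem_filter.mp hψ').2
      have h4 := smul_ne_one (P : Subgroup G) n hψ₀
      rw [← (D.hiff ψ₀ _ hψ₀ h4).2 ⟨n, rfl⟩]), Finset.sum_const, card_orbit3 H hN hψ₀, nsmul_eq_mul]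
    norm_num
  have h3 : ∀ ψ ∈ S, F (ζ ψ) = δ * (orb ψ a₀ * orb ψ b₀ * conj (orb ψ c₀)) := by
    intro ψ hψ
    have hψ' : ψ ≠ 1 := (Finset.mem_filter.mp hψ).2
    simp only [hF]
    rw [D.hvY ψ hψ' a₀ ha₀, D.hvY ψ hψ' b₀ hb₀, D.hvY ψ hψ' c₀ hc₀, map_mul, map_intCast]
    have hδ2 : (δ : ℂ) * δ * δ = δ := by
      rcases D.hδ with rfl | rfl <;> norm_num
    linear_combination (orb ψ a₀ * orb ψ b₀ * conj (orb ψ c₀)) * hδ2
  rw [Finset.sum_congr rfl h3, ← Finset.mul_sum, triple_sum H hN a₀ b₀ c₀ hw, Finset.sum_congr rfl h2,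
    ← Finset.mul_sum] at h1
  have h4 : (3 : ℂ) * ∑ η ∈ Yf, F η = 3 * (-9 * δ) := by
    rw [← h1]
    ring
  exact mul_left_cancel₀ (by norm_num) h4

/-- The formula for the degrees. -/
theorem Dat.star_formula (H : Hyp P) [Fintype 𝔑] (D : Dat M P Xf Yf a δ ζ r)
    (hN : Nat.card 𝔑 = 3 * Nat.card ℭ) {a₀ b₀ c₀ : 𝔸} (ha₀ : a₀ ≠ 1) (hb₀ : b₀ ≠ 1) (hc₀ : c₀ ≠ 1)
    (hw : ∀ n₁ n₂ n₃ : 𝔑, cj (P : Subgroup G) n₁ a₀ * cj (P : Subgroup G) n₂ b₀ ≠ cj (P : Subgroup G) n₃ c₀)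
    (hv : ∑ χ ∈ SingConst.B₀ M G, ((χ : G → ℂ) a₀ * (χ : G → ℂ) b₀ / (χ : G → ℂ) 1) * conj ((χ : G → ℂ) c₀) = 0)
    {u v η : IrrCharacter G} (hu : u ≠ BlockNormal.irrOne G)
    (hv' : v ≠ BlockNormal.irrOne G) (huv : u ≠ v) (hX : Xf = {BlockNormal.irrOne G, u, v}) (hη : η ∈ Yf) :
    1 + (a u : ℂ) / (u : G → ℂ) 1 + (a v : ℂ) / (v : G → ℂ) 1 - 9 * δ / (η : G → ℂ) 1 = 0 := by
  classical
  rw [D.sum_B₀, D.sum_X hu hv' huv hX] at hv
  have hYp : ∑ χ ∈ Yf, ((χ : G → ℂ) a₀ * (χ : G → ℂ) b₀ / (χ : G → ℂ) 1) * conj ((χ : G → ℂ) c₀) =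
      (-9 * δ) / (η : G → ℂ) 1 := by
    rw [← D.sum_Y_triple H hN ha₀ hb₀ hc₀ hw, Finset.sum_div]
    refine Finset.sum_congr rfl fun χ hχ => ?_
    rw [D.Y_deg hχ hη]
    ring
  have hXv : ∀ χ ∈ Xf, ((χ : G → ℂ) a₀ * (χ : G → ℂ) b₀ / (χ : G → ℂ) 1) * conj ((χ : G → ℂ) c₀) = (a χ : ℂ) / (χ : G → ℂ) 1 := by
    intro χ hχ
    rw [D.hvX χ hχ a₀ ha₀, D.hvX χ hχ b₀ hb₀, D.hvX χ hχ c₀ hc₀, map_intCast]
    have h1 : (a χ : ℂ) * a χ * a χ = a χ := by
      rcases D.hXs χ hχ with h | h <;> rw [h] <;> norm_num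
    rw [div_mul_eq_mul_div, h1]
  have hu1 : u ∈ Xf := by rw [hX]; simp
  have hv1 : v ∈ Xf := by rw [hX]; simp
  rw [hXv _ D.h1X, hXv u hu1, hXv v hv1, hYp, D.ha1] at hv
  have h1 : ((BlockNormal.irrOne G : IrrCharacter G) : G → ℂ) 1 = 1 := rfl
  rw [h1] at hv
  push_cast at hv
  rw [← hv]
  ring

end Main

end Cfsg.Agent.Lib.FrobThreeB
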