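import Mathlib
import Cfsg.Agent.Lib.FrobThreeB
import Cfsg.Agent.Lib.BlockGal

/-!
# Abelian Sylow subgroup with `N/C` of order three: an involution generating the group
-/

set_option autoImplicit false
set_option linter.unusedSectionVars false
set_option linter.unusedVariables false
set_option linter.style.haveILetI false

namespace Cfsg.Agent.Lib.FrobThreeC

open Cfsg Cfsg.Agent.Lib Cfsg.Agent.Lib.FrobBlock Cfsg.Agent.Lib.FrobThree Cfsg.Agent.Lib.FrobThreeA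
open Cfsg.Agent.Lib.FrobThreeB
open Cfsg.Agent.Lib.CharBasic Subgroup
open Cfsg.Agent.Lib.DefectOne (cj cj_coe chi smul_apply smul_ne_one)
open scoped ComplexConjugate

universe u

/-- The arithmetic for `p = 2`. -/
theorem arith_two {L a₂ a₃ δ d₂ d₃ d K : ℤ} (hL : 16 ≤ L)
    (ha₂ : a₂ = 1 ∨ a₂ = -1) (ha₃ : a₃ = 1 ∨ a₃ = -1) (hδ : δ = 1 ∨ δ = -1)
    (hd₂ : 15 ≤ d₂) (hd₃ : 15 ≤ d₃) (hd : 0 < d) (h1 : δ * d = 3 + L * K)
    (h2 : d * (d₂ * d₃ + a₂ * d₃ + a₃ * d₂) = 9 * δ * (d₂ * d₃)) : False := by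
  set Q := d₂ * d₃ with hQ
  have hQ1 : 15 * d₃ ≤ Q := by rw [hQ]; nlinarith
  have hQ2 : 15 * d₂ ≤ Q := by rw [hQ]; nlinarith
  have hQ0 : 0 < Q := by rw [hQ]; nlinarith
  set E := Q + a₂ * d₃ + a₃ * d₂ with hE
  have hE1 : 13 * Q ≤ 15 * E := by
    rcases ha₂ with rfl | rfl <;> rcases ha₃ with rfl | rfl <;> rw [hE] <;> linarith
  have hE2 : 15 * E ≤ 17 * Q := by
    rcases ha₂ with rfl | rfl <;> rcases ha₃ with rfl | rfl <;> rw [hE] <;> linarith
  have hE0 : 0 < E := by linarith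
  have hδ1 : δ = 1 := by
    rcases hδ with rfl | rfl
    · rfl
    · exfalso
      have h3 : 0 < d * E := by positivity
      rw [h2] at h3
      linarith
  subst hδ1
  have h3 : d * E = 9 * Q := by rw [h2]; ring
  have h4 : 8 ≤ d := by
    by_contra hcon
    have h5 : d ≤ 7 := by omega
    have h6 : d * E ≤ 7 * E := by nlinarith
    linarith
  have h5 : d ≤ 10 := by
    by_contra hcon
    have h6 : 11 ≤ d := by omega
    have h7 : 11 * E ≤ d * E := by nlinarith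
    linarith
  have h6 : L * K = d - 3 := by linarith
  rcases lt_or_ge 0 K with h7 | h7
  · have h8 : 16 * K ≤ L * K := by nlinarith
    omega
  · have h8 : L * K ≤ 0 := by nlinarith
    omega

/-- The polynomial identity behind the square. -/
theorem vander {D₁ D₂ D₃ x₁ x₂ x₃ : ℚ} (hx₁ : x₁ ≠ 0) (hx₂ : x₂ ≠ 0) (hx₃ : x₃ ≠ 0)
    (hs : D₁ + D₂ + D₃ = -1) (h1 : D₁ * x₁ + D₂ * x₂ + D₃ * x₃ = 0)
    (h2 : D₁ * x₁ ^ 2 + D₂ * x₂ ^ 2 + D₃ * x₃ ^ 2 = 0) : ∃ q : ℚ, D₁ * D₂ * D₃ = q ^ 2 := by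
  set V := (x₃ - x₂) * (x₂ - x₁) * (x₃ - x₁) with hV
  have e1 : D₁ * V = -(x₂ * x₃ * (x₃ - x₂)) := by
    rw [hV]
    linear_combination (x₂ * x₃ ^ 2 - x₃ * x₂ ^ 2) * hs - (x₃ ^ 2 - x₂ ^ 2) * h1 + (x₃ - x₂) * h2
  have e2 : D₂ * V = x₁ * x₃ * (x₃ - x₁) := by
    rw [hV]
    linear_combination (x₃ * x₁ ^ 2 - x₁ * x₃ ^ 2) * hs - (x₁ ^ 2 - x₃ ^ 2) * h1 + (x₁ - x₃) * h2
  have e3 : D₃ * V = -(x₁ * x₂ * (x₂ - x₁)) := by
    rw [hV]
    linear_combination (x₁ * x₂ ^ 2 - x₂ * x₁ ^ 2) * hs - (x₂ ^ 2 - x₁ ^ 2) * h1 + (x₂ - x₁) * h2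
  have hV0 : V ≠ 0 := by
    intro h0
    rw [h0, mul_zero] at e1 e2 e3
    have h32 : x₃ = x₂ := by
      have : x₂ * x₃ * (x₃ - x₂) = 0 := by linarith
      have h4 := (mul_eq_zero.1 this).resolve_left (mul_ne_zero hx₂ hx₃)
      linarith
    have h31 : x₃ = x₁ := by
      have h4 := (mul_eq_zero.1 e2.symm).resolve_left (mul_ne_zero hx₁ hx₃)
      linarith
    have h5 : (D₁ + D₂ + D₃) * x₃ = 0 := by
      calc (D₁ + D₂ + D₃) * x₃ = D₁ * x₁ + D₂ * x₂ + D₃ * x₃ := by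
            rw [← h31, ← h32]
            ring
        _ = 0 := h1
    rw [hs] at h5
    have : x₃ = 0 := by linarith
    exact hx₃ this
  refine ⟨x₁ * x₂ * x₃ / V, ?_⟩
  have h6 : (D₁ * D₂ * D₃) * V ^ 3 = (x₁ * x₂ * x₃) ^ 2 * V := by
    calc (D₁ * D₂ * D₃) * V ^ 3 = (D₁ * V) * (D₂ * V) * (D₃ * V) := by ring
      _ = _ := by
        rw [e1, e2, e3, hV]
        ring
  have h7 : V ^ 3 ≠ 0 := pow_ne_zero _ hV0
  field_simp
  have h8 : V * ((D₁ * D₂ * D₃) * V ^ 2) = V * (x₁ * x₂ * x₃) ^ 2 := by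
    linear_combination h6
  have h9 := mul_left_cancel₀ hV0 h8
  linear_combination h9

/-- A character with the value at `t` equal to its degree is principal. -/
theorem eq_one_of_ker {G : Type u} [Group G] [Fintype G] {t : G}
    (hn : ∀ K : Subgroup G, K.Normal → t ∈ K → K = ⊤) {χ : IrrCharacter G} (h : (χ : G → ℂ) t = (χ : G → ℂ) 1) :
    χ = BlockNormal.irrOne G := by
  classical
  have hχ := IsIrrCharacter.isCharacter χ.2
  have h1 : CharKernel.charKer hχ = ⊤ := hn _ inferInstance ((CharKernel.mem_charKer hχ).2 h)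
  have h2 : ∀ g : G, (χ : G → ℂ) g = (χ : G → ℂ) 1 := fun g => by
    have : g ∈ CharKernel.charKer hχ := by rw [h1]; trivial
    exact (CharKernel.mem_charKer hχ).1 this
  by_contra hne
  have h3 : ((χ : G → ℂ)) ≠ fun _ => 1 := fun h4 => hne (Subtype.ext h4)
  have h4 := classInner_irr_ne χ.2 isIrrCharacter_one h3
  unfold classInner at h4
  have h5 : ∑ g : G, (χ : G → ℂ) g * conj (1 : ℂ) = (Nat.card G : ℂ) * (χ : G → ℂ) 1 := by
    rw [Finset.sum_congr rfl fun g _ => by rw [h2 g, map_one, mul_one], Finset.sum_const, Finset.card_univ,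
      nsmul_eq_mul, Nat.card_eq_fintype_card]
  rw [h5] at h4
  have h6 : (Nat.card G : ℂ) ≠ 0 := by exact_mod_cast Nat.card_pos.ne'
  have h7 : (χ : G → ℂ) 1 ≠ 0 := BlockIdem.irr_one_ne_zero' χ.2
  field_simp at h4
  exact h7 h4

/-- The value of a character at an involution is a rational integer. -/
theorem int_of_invol {G : Type u} [Group G] [Fintype G] {t : G} (ht : t * t = 1) (ht1 : t ≠ 1)
    {χ : G → ℂ} (hχ : IsCharacter G χ) : ∃ z : ℤ, χ t = z := by
  apply BlockGal.exists_int_of_pow_eq hχ t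
  intro k hk
  have h2 : orderOf t = 2 := orderOf_eq_prime (by rw [sq]; exact ht) ht1
  have h3 : 2 ∣ Nat.card G := h2 ▸ orderOf_dvd_natCard t
  have h4 : Odd k := by
    rw [← Nat.not_even_iff_odd]
    intro h5
    have h6 := Nat.Coprime.eq_one_of_dvd (hk.coprime_dvd_left h3) h5.two_dvd
    omega
  obtain ⟨l, rfl⟩ := h4
  rw [pow_succ, pow_mul, sq, ht, one_pow, one_mul]

section Main

variable {G : Type u} [Group G] [Fintype G] {p : ℕ} [hp : Fact p.Prime] {M : Ideal AlgInt}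
variable {P : Sylow p G}

set_option quotPrecheck false in
local notation "𝔸" => ↥(P : Subgroup G)
set_option quotPrecheck false in
local notation "𝔑" => ↥(normalizer ((P : Subgroup G) : Set G))
set_option quotPrecheck false in
local notation "ℭ" => centralizer ((P : Subgroup G) : Set G)

variable [Fintype ↥(P : Subgroup G)] [Fintype (↥(P : Subgroup G) →* ℂˣ)]
  {Xf Yf : Finset (IrrCharacter G)} {a : IrrCharacter G → ℤ} {δ : ℤ}
  {ζ : (↥(P : Subgroup G) →* ℂˣ) → IrrCharacter G} {r : ℕ}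

/-- The degree of a character constant on the nonidentity elements of `P`. -/
theorem deg_cong (D : Dat M P Xf Yf a δ ζ r) {χ : IrrCharacter G} (hχ : χ ∈ Xf) :
    ∃ m : ℤ, (charDegree (χ : G → ℂ) : ℤ) + ((Nat.card 𝔸 : ℤ) - 1) * a χ = (Nat.card 𝔸 : ℤ) * m := by
  classical
  obtain ⟨n, hn⟩ := classInner_char_irr (isCharacter_restrict (P : Subgroup G) (IsIrrCharacter.isCharacter χ.2))
    (isIrrCharacter_one (G := 𝔸))
  refine ⟨n, ?_⟩
  unfold classInner at hn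
  have h1 : ∑ g : 𝔸, (χ : G → ℂ) g * conj (1 : ℂ) = (charDegree (χ : G → ℂ) : ℂ) + ((Nat.card 𝔸 : ℂ) - 1) * a χ := by
    rw [← Finset.add_sum_erase Finset.univ _ (Finset.mem_univ (1 : 𝔸))]
    congr 1
    · simp only [map_one, mul_one, Subgroup.coe_one]
      exact CharKernel.one_eq_charDegree (IsIrrCharacter.isCharacter χ.2)
    · rw [Finset.sum_congr rfl (g := fun _ => (a χ : ℂ)) (fun y hy => by
        rw [D.hvX χ hχ y (Finset.ne_of_mem_erase hy), map_one, mul_one]), Finset.sum_const,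
        Finset.card_erase_of_mem (Finset.mem_univ _), Finset.card_univ, nsmul_eq_mul,
        Nat.card_eq_fintype_card, Nat.cast_sub Fintype.card_pos]
      push_cast
      ring
  rw [h1] at hn
  have hc : (Nat.card 𝔸 : ℂ) ≠ 0 := by exact_mod_cast Nat.card_pos.ne'
  field_simp at hn
  have h2 : (((charDegree (χ : G → ℂ) : ℤ) + ((Nat.card 𝔸 : ℤ) - 1) * a χ : ℤ) : ℂ) = (((Nat.card 𝔸 : ℤ) * (n : ℤ) : ℤ) : ℂ) := by
    push_cast
    rw [hn]
  exact_mod_cast h2

/-- A nonprincipal character in `X` has a large degree. -/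
theorem deg_big (D : Dat M P Xf Yf a δ ζ r) {L : ℤ} (hL : L = Nat.card 𝔸) (hL16 : 16 ≤ L) {t : 𝔸} (ht : t ≠ 1)
    (hn : ∀ K : Subgroup G, K.Normal → (t : G) ∈ K → K = ⊤) {χ : IrrCharacter G} (hχ : χ ∈ Xf)
    (hχ1 : χ ≠ BlockNormal.irrOne G) :
    15 ≤ (charDegree (χ : G → ℂ) : ℤ) ∧ ∃ k : ℤ, a χ * (charDegree (χ : G → ℂ) : ℤ) = 1 + L * k := by
  obtain ⟨m, hm⟩ := deg_cong D hχ
  rw [← hL] at hm
  have hpos : 0 < (charDegree (χ : G → ℂ) : ℤ) := by exact_mod_cast CharKernel.charDegree_pos χ.2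
  rcases D.hXs χ hχ with ha | ha
  · rw [ha] at hm ⊢
    have h1 : (charDegree (χ : G → ℂ) : ℤ) = 1 + L * (m - 1) := by linarith
    refine ⟨?_, m - 1, by rw [one_mul]; exact h1⟩
    have hne : (charDegree (χ : G → ℂ) : ℤ) ≠ 1 := by
      intro h2
      apply hχ1
      apply eq_one_of_ker hn
      rw [D.hvX χ hχ t ht, ha, CharKernel.one_eq_charDegree (IsIrrCharacter.isCharacter χ.2)]
      have h3 : charDegree (χ : G → ℂ) = 1 := by exact_mod_cast h2
      rw [h3]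
      simp
    have h2 : m - 1 ≠ 0 := by
      intro h3
      rw [h3] at h1
      apply hne
      rw [h1]
      ring
    rcases lt_or_gt_of_ne h2 with h3 | h3
    · exfalso
      have h4 : L * (m - 1) ≤ L * (-1) := by nlinarith
      linarith
    · have h4 : L * 1 ≤ L * (m - 1) := by nlinarith
      linarith
  · rw [ha] at hm ⊢
    have h1 : (charDegree (χ : G → ℂ) : ℤ) = L * (m + 1) - 1 := by linarith
    refine ⟨?_, -(m + 1), by rw [h1]; ring⟩
    have h2 : 0 < m + 1 := by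
      by_contra hcon
      have h3 : m + 1 ≤ 0 := by omega
      have h4 : L * (m + 1) ≤ 0 := by nlinarith
      linarith
    have h4 : L * 1 ≤ L * (m + 1) := by nlinarith
    linarith

end Main

end Cfsg.Agent.Lib.FrobThreeC
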