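import Mathlib
import Cfsg.Agent.Lib.FrobThreeC

/-!
# Abelian Sylow subgroup with `N/C` of order three: the case `p = 2` cannot occur
-/

set_option autoImplicit false
set_option linter.unusedSectionVars false
set_option linter.unusedVariables false
set_option linter.style.haveILetI false

namespace Cfsg.Agent.Lib.FrobThreeD

open Cfsg Cfsg.Agent.Lib Cfsg.Agent.Lib.FrobBlock Cfsg.Agent.Lib.FrobThree Cfsg.Agent.Lib.FrobThreeA
open Cfsg.Agent.Lib.FrobThreeB Cfsg.Agent.Lib.FrobThreeC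
open Cfsg.Agent.Lib.CharBasic Subgroup
open Cfsg.Agent.Lib.DefectOne (cj cj_coe chi smul_apply smul_ne_one)
open scoped ComplexConjugate

universe u

section Main

variable {G : Type u} [Group G] [Fintype G] {p : ℕ} [hp : Fact p.Prime] {M : Ideal AlgInt}
variable {P : Sylow p G}

set_option quotPrecheck false in
local notation "𝔸" => ↥(P : Subgroup G)
set_option quotPrecheck false in
local notation "𝔑" => ↥(normalizer ((P : Subgroup G) : Set G))
set_option quotPrecheck false in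
local notation "ℭ" => centralizer ((P : Subgroup G) : Set G)

variable [Fintype ↥(P : Subgroup G)] [Fintype (↥(P : Subgroup G) →* ℂˣ)]
  {Xf Yf : Finset (IrrCharacter G)} {a : IrrCharacter G → ℤ} {δ : ℤ}
  {ζ : (↥(P : Subgroup G) →* ℂˣ) → IrrCharacter G} {r : ℕ}

theorem cj_eq_one {n : 𝔑} {y : 𝔸} (h : cj (P : Subgroup G) n y = 1) : y = 1 := by
  apply Subtype.ext
  have h1 := congrArg Subtype.val h
  simp only [cj_coe, Subgroup.coe_one] at h1 ⊢
  have h2 : (n : G)⁻¹ * y * n * (n : G)⁻¹ = (n : G)⁻¹ := by rw [h1, one_mul]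
  simpa using h2

/-- The vanishing sum, case of an element of order at least four. -/
theorem star_case_A (H : Hyp P) [Fintype 𝔑] (hM : IsPModular p M)
    (hidx : ((ℭ).subgroupOf (normalizer ((P : Subgroup G) : Set G))).index = 3)
    (hN : Nat.card 𝔑 = 3 * Nat.card ℭ) (D : Dat M P Xf Yf a δ ζ r) {t y : 𝔸} (ht : t ≠ 1)
    (htt : (t : G) * t = 1) (hy : (y : G) * y ≠ 1) {u v η : IrrCharacter G} (hu : u ≠ BlockNormal.irrOne G)
    (hv' : v ≠ BlockNormal.irrOne G) (huv : u ≠ v) (hX : Xf = {BlockNormal.irrOne G, u, v}) (hη : η ∈ Yf) :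
    1 + (a u : ℂ) / (u : G → ℂ) 1 + (a v : ℂ) / (v : G → ℂ) 1 - 9 * δ / (η : G → ℂ) 1 = 0 := by
  have hy1 : y ≠ 1 := by
    rintro rfl
    apply hy
    simp
  have hw : ∀ n₁ n₂ n₃ : 𝔑, cj (P : Subgroup G) n₁ t * cj (P : Subgroup G) n₂ t ≠ cj (P : Subgroup G) n₃ y := by
    intro n₁ n₂ n₃ h
    apply hy
    have htt' : t * t = 1 := Subtype.ext htt
    have h1 : cj (P : Subgroup G) n₃ (y * y) = 1 := by
      rw [map_mul, ← h]
      calc cj (P : Subgroup G) n₁ t * cj (P : Subgroup G) n₂ t * (cj (P : Subgroup G) n₁ t * cj (P : Subgroup G) n₂ t)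
          = (cj (P : Subgroup G) n₁ t * cj (P : Subgroup G) n₁ t) * (cj (P : Subgroup G) n₂ t * cj (P : Subgroup G) n₂ t) := by
            have := H.commA (cj (P : Subgroup G) n₂ t) (cj (P : Subgroup G) n₁ t)
            calc _ = cj (P : Subgroup G) n₁ t * (cj (P : Subgroup G) n₂ t * cj (P : Subgroup G) n₁ t) * cj (P : Subgroup G) n₂ t := by group
              _ = cj (P : Subgroup G) n₁ t * (cj (P : Subgroup G) n₁ t * cj (P : Subgroup G) n₂ t) * cj (P : Subgroup G) n₂ t := by rw [this]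
              _ = _ := by group
        _ = 1 := by
            rw [← map_mul, ← map_mul, htt']
            simp
    have h2 := cj_eq_one h1
    exact congrArg Subtype.val h2
  refine D.star_formula H hN ht ht hy1 hw ?_ hu hv' huv hX hη
  have h1 := Cfsg.Agent.S4722.sum_first_eq_zero (M := M) hM (t := (t : G)) (y := (y : G)) htt (H.pelt y.2) (by
    intro g h2
    apply hy
    apply not_real H hidx y.2
    exact isConj_iff.2 ⟨_, h2⟩)
  rw [SingConst.finsum_B₀] at h1
  rw [← h1]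
  refine Finset.sum_congr rfl fun χ _ => ?_
  rw [sq]

/-- The vanishing sum, case of exponent two. -/
theorem star_case_B (H : Hyp P) [Fintype 𝔑] (hM : IsPModular p M) (hp2 : p = 2)
    (hidx : ((ℭ).subgroupOf (normalizer ((P : Subgroup G) : Set G))).index = 3)
    (hN : Nat.card 𝔑 = 3 * Nat.card ℭ) (D : Dat M P Xf Yf a δ ζ r) {t : 𝔸} (ht : t ≠ 1)
    (hexp : ∀ y ∈ (P : Subgroup G), y * y = 1) (h16 : 4 < Nat.card 𝔸)
    {u v η : IrrCharacter G} (hu : u ≠ BlockNormal.irrOne G)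
    (hv' : v ≠ BlockNormal.irrOne G) (huv : u ≠ v) (hX : Xf = {BlockNormal.irrOne G, u, v}) (hη : η ∈ Yf) :
    1 + (a u : ℂ) / (u : G → ℂ) 1 + (a v : ℂ) / (v : G → ℂ) 1 - 9 * δ / (η : G → ℂ) 1 = 0 := by
  classical
  have htt : (t : G) * t = 1 := hexp t t.2
  -- a second class
  have hcl := card_class3 H hN ht
  obtain ⟨s, hs⟩ : ∃ s : 𝔸, s ∉ insert (1 : 𝔸) (Finset.univ.filter (fun y' : 𝔸 => IsConj (t : G) (y' : G))) := by
    have hcard : (insert (1 : 𝔸) (Finset.univ.filter (fun y' : 𝔸 => IsConj (t : G) (y' : G)))).card < (Finset.univ : Finset 𝔸).card := by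
      refine lt_of_le_of_lt (Finset.card_insert_le _ _) ?_
      rw [hcl, Finset.card_univ, ← Nat.card_eq_fintype_card]
      omega
    obtain ⟨s, -, hs⟩ := Finset.exists_mem_notMem_of_card_lt_card hcard
    exact ⟨s, hs⟩
  rw [Finset.mem_insert, not_or, Finset.mem_filter, not_and] at hs
  have hs1 : s ≠ 1 := hs.1
  have hts : ¬ IsConj (t : G) (s : G) := hs.2 (Finset.mem_univ _)
  have hw : ∀ n₁ n₂ n₃ : 𝔑, cj (P : Subgroup G) n₁ t * cj (P : Subgroup G) n₂ s ≠ cj (P : Subgroup G) n₃ t := by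
    intro n₁ n₂ n₃ h
    set T₁ := cj (P : Subgroup G) n₁ t with hT₁
    set T₃ := cj (P : Subgroup G) n₃ t with hT₃
    have hT₁t : IsConj (t : G) (T₁ : G) := isConj_iff.2 ⟨(n₁ : G)⁻¹, by rw [hT₁, cj_coe]; group⟩
    have hT₃t : IsConj (t : G) (T₃ : G) := isConj_iff.2 ⟨(n₃ : G)⁻¹, by rw [hT₃, cj_coe]; group⟩
    have hs2 : IsConj (s : G) (cj (P : Subgroup G) n₂ s : G) := isConj_iff.2 ⟨(n₂ : G)⁻¹, by rw [cj_coe]; group⟩
    have h1 : (cj (P : Subgroup G) n₂ s : G) = (T₃ : G) * T₁ := by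
      have h2 := congrArg Subtype.val h
      simp only [Subgroup.coe_mul] at h2
      have h3 := hexp T₁ T₁.2
      calc (cj (P : Subgroup G) n₂ s : G) = ((T₁ : G) * T₁) * cj (P : Subgroup G) n₂ s := by rw [h3, one_mul]
        _ = T₁ * ((T₁ : G) * cj (P : Subgroup G) n₂ s) := by group
        _ = T₁ * T₃ := by rw [h2]
        _ = T₃ * T₁ := H.comm _ T₁.2 _ T₃.2
    rcases prod_conj H hidx hexp T₁.2 T₃.2 (hT₁t.symm.trans hT₃t) with h2 | h2
    · rw [← h1] at h2
      apply hs1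
      have h3 : cj (P : Subgroup G) n₂ s = 1 := Subtype.ext h2
      exact cj_eq_one h3
    · rw [← h1] at h2
      exact hts (hT₁t.trans (h2.trans hs2.symm))
  refine D.star_formula H hN ht hs1 ht hw ?_ hu hv' huv hX hη
  have htinv : (t : G)⁻¹ = t := inv_eq_of_mul_eq_one_left htt
  have h1 := sum_two_eq_zero (M := M) hM (t := (t : G)) (s := (s : G)) (y := (t : G)) (H.pelt t.2) (by
    intro k hk w z hw' hz hwz
    have hk1 : (t : G) * (k : G) = k * t := by
      have h2 : (k : G) * (t : G)⁻¹ = (t : G)⁻¹ * k := mem_centralizer_singleton_iff.1 k.2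
      generalize (k : G) = K at h2 ⊢
      rw [htinv] at h2
      exact h2.symm
    have hko : ¬ 2 ∣ orderOf (k : G) := by rwa [Subgroup.orderOf_coe, ← hp2]
    have hww : w * w = 1 := by
      obtain ⟨g, rfl⟩ := isConj_iff.1 hw'
      calc g * t * g⁻¹ * (g * t * g⁻¹) = g * ((t : G) * t) * g⁻¹ := by group
        _ = 1 := by rw [htt]; group
    have hzz : z * z = 1 := by
      obtain ⟨g, rfl⟩ := isConj_iff.1 hz
      calc g * s * g⁻¹ * (g * s * g⁻¹) = g * ((s : G) * s) * g⁻¹ := by group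
        _ = 1 := by rw [hexp s s.2]; group
    obtain ⟨hcomm, hconj⟩ := conj_of_product htt hk1 hko hww hzz hwz
    -- conjugate `w` into `P` inside the centralizer of `t`
    have hPK : (P : Subgroup G) ≤ centralizer ({(t : G)} : Set G) := by
      intro x hx
      rw [mem_centralizer_singleton_iff]
      exact H.comm x hx t t.2
    have hwK : w ∈ centralizer ({(t : G)} : Set G) := by
      rw [mem_centralizer_singleton_iff]
      exact hcomm
    have hw1 : w ≠ 1 := by
      rintro rfl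
      exact ht (Subtype.ext (by simpa using hw'))
    have hord : ∃ k : ℕ, orderOf (⟨w, hwK⟩ : centralizer ({(t : G)} : Set G)) = p ^ k := by
      refine ⟨1, ?_⟩
      rw [Subgroup.orderOf_mk, pow_one, hp2]
      haveI : Fact (Nat.Prime 2) := ⟨Nat.prime_two⟩
      exact orderOf_eq_prime (by rw [sq]; exact hww) hw1
    obtain ⟨c, hc⟩ := exists_conj_mem_sylow (P.subtype hPK) hord
    have hc' : (c : G) * w * (c : G)⁻¹ ∈ (P : Subgroup G) := by
      rw [Sylow.coe_subtype, mem_subgroupOf] at hc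
      simpa using hc
    set W := (c : G) * w * (c : G)⁻¹ with hW
    have hct : (c : G) * t = t * c := mem_centralizer_singleton_iff.1 c.2
    have hconj2 : IsConj (w * t) (W * t) := by
      refine isConj_iff.2 ⟨c, ?_⟩
      rw [hW]
      calc (c : G) * (w * t) * (c : G)⁻¹ = (c : G) * w * ((t : G) * (c : G)⁻¹) := by group
        _ = (c : G) * w * ((c : G)⁻¹ * ((c : G) * t) * (c : G)⁻¹) := by group
        _ = (c : G) * w * ((c : G)⁻¹ * ((t : G) * c) * (c : G)⁻¹) := by rw [hct]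
        _ = _ := by group
    have htW : IsConj (t : G) W := hw'.trans (isConj_iff.2 ⟨c, rfl⟩)
    have hsW : IsConj (s : G) (W * t) := (hz.trans hconj.symm).trans hconj2
    rcases prod_conj H hidx hexp t.2 hc' htW with h2 | h2
    · rw [h2] at hsW
      apply hs1
      apply Subtype.ext
      simpa using hsW
    · exact hts (h2.trans hsW.symm))
  rw [SingConst.finsum_B₀] at h1
  exact h1

/-- The case `p = 2` cannot occur. -/
theorem two_false (H : Hyp P) [Fintype 𝔑] (hM : IsPModular p M) (hp2 : p = 2)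
    (hidx : ((ℭ).subgroupOf (normalizer ((P : Subgroup G) : Set G))).index = 3)
    (hN : Nat.card 𝔑 = 3 * Nat.card ℭ) (D : Dat M P Xf Yf a δ ζ r) (hmP : 3 + 1 < Nat.card 𝔸) {t : 𝔸} (ht : t ≠ 1)
    (htt : (t : G) * t = 1) (hn : ∀ K : Subgroup G, K.Normal → (t : G) ∈ K → K = ⊤) : False := by
  classical
  obtain ⟨u, v, hu, hv, huv, hX⟩ := D.exists_uv
  have hr0 : 0 < r := by
    have := D.hr
    omega
  have hYne : Yf.Nonempty := by
    rw [← Finset.card_pos, D.hYc]
    exact hr0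
  obtain ⟨η, hη⟩ := hYne
  have hstar : 1 + (a u : ℂ) / (u : G → ℂ) 1 + (a v : ℂ) / (v : G → ℂ) 1 - 9 * δ / (η : G → ℂ) 1 = 0 := by
    by_cases hexp : ∀ y ∈ (P : Subgroup G), y * y = 1
    · exact star_case_B H hM hp2 hidx hN D ht hexp hmP hu hv huv hX hη
    · push Not at hexp
      obtain ⟨y, hy, hyy⟩ := hexp
      exact star_case_A H hM hidx hN D (y := ⟨y, hy⟩) ht htt hyy hu hv huv hX hη
  set L : ℤ := ((Nat.card 𝔸 : ℕ) : ℤ) with hL
  have hL16 : 16 ≤ L := by
    obtain ⟨n, hcard⟩ := IsPGroup.iff_card.mp P.isPGroup'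
    replace hcard : Nat.card 𝔸 = 2 ^ n := by rw [hcard, hp2]
    have hr := D.hr
    have h1 : 16 ≤ Nat.card 𝔸 := by
      by_contra hcon
      have h2 : Nat.card 𝔸 < 16 := by omega
      rw [hcard] at h2 hr hmP
      have h3 : n < 4 := by
        by_contra h4
        have : 2 ^ 4 ≤ 2 ^ n := Nat.pow_le_pow_right (by norm_num) (by omega)
        omega
      interval_cases n <;> omega
    rw [hL]
    exact_mod_cast h1
  have hu1 : u ∈ Xf := by rw [hX]; simp
  have hv1 : v ∈ Xf := by rw [hX]; simp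
  obtain ⟨hdu, ku, hku⟩ := deg_big D hL hL16 ht hn hu1 hu
  obtain ⟨hdv, kv, hkv⟩ := deg_big D hL hL16 ht hn hv1 hv
  have hd : 0 < (charDegree (η : G → ℂ) : ℤ) := by exact_mod_cast CharKernel.charDegree_pos η.2
  have hun := CharKernel.one_eq_charDegree (IsIrrCharacter.isCharacter u.2)
  have hvn := CharKernel.one_eq_charDegree (IsIrrCharacter.isCharacter v.2)
  have hηn := CharKernel.one_eq_charDegree (IsIrrCharacter.isCharacter η.2)
  -- the linear relation at the identity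
  have hlin := D.hlin η hη 1 (by simp [hp.out.one_lt.ne'])
  rw [D.sum_X hu hv huv hX, D.ha1, hun, hvn, hηn] at hlin
  have h1e : ((BlockNormal.irrOne G : IrrCharacter G) : G → ℂ) 1 = 1 := rfl
  rw [h1e] at hlin
  have hlinZ : δ * (charDegree (η : G → ℂ) : ℤ) = 3 + L * (ku + kv) := by
    have h2 : ((-δ * (charDegree (η : G → ℂ) : ℤ) + (1 + (a u * (charDegree (u : G → ℂ) : ℤ) + a v * (charDegree (v : G → ℂ) : ℤ))) : ℤ) : ℂ) = 0 := by
      push_cast
      push_cast at hlin
      linear_combination hlin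
    have h3 : -δ * (charDegree (η : G → ℂ) : ℤ) + (1 + (a u * (charDegree (u : G → ℂ) : ℤ) + a v * (charDegree (v : G → ℂ) : ℤ))) = 0 := by
      exact_mod_cast h2
    rw [hku, hkv] at h3
    linear_combination -h3
  have hZ : (charDegree (η : G → ℂ) : ℤ) * ((charDegree (u : G → ℂ) : ℤ) * (charDegree (v : G → ℂ) : ℤ) + a u * (charDegree (v : G → ℂ) : ℤ) + a v * (charDegree (u : G → ℂ) : ℤ)) =
      9 * δ * ((charDegree (u : G → ℂ) : ℤ) * (charDegree (v : G → ℂ) : ℤ)) := by
    rw [hun, hvn, hηn] at hstar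
    have hu0 : (charDegree (u : G → ℂ) : ℂ) ≠ 0 := by exact_mod_cast (CharKernel.charDegree_pos u.2).ne'
    have hv0 : (charDegree (v : G → ℂ) : ℂ) ≠ 0 := by exact_mod_cast (CharKernel.charDegree_pos v.2).ne'
    have hη0 : (charDegree (η : G → ℂ) : ℂ) ≠ 0 := by exact_mod_cast (CharKernel.charDegree_pos η.2).ne'
    field_simp at hstar
    have h2 : (((charDegree (η : G → ℂ) : ℤ) * ((charDegree (u : G → ℂ) : ℤ) * (charDegree (v : G → ℂ) : ℤ) + a u * (charDegree (v : G → ℂ) : ℤ) + a v * (charDegree (u : G → ℂ) : ℤ)) : ℤ) : ℂ) =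
      ((9 * δ * ((charDegree (u : G → ℂ) : ℤ) * (charDegree (v : G → ℂ) : ℤ)) : ℤ) : ℂ) := by
      push_cast
      linear_combination hstar
    exact_mod_cast h2
  exact arith_two hL16 (D.hXs u hu1) (D.hXs v hv1) D.hδ hdu hdv hd hlinZ hZ

end Main

end Cfsg.Agent.Lib.FrobThreeD
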