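import Mathlib
import Cfsg.Agent.S0949
import Cfsg.Agent.Lib.PCore

/-!
# A perfect group cannot have a Sylow 2-subgroup `Z₄ × Z₄`
-/

set_option autoImplicit false

namespace Cfsg.Agent.Lib.CycFourJ

open Cfsg
open scoped commutatorElement

theorem no_ZZ {G : Type*} [Group G] [Finite G] (hperf : commutator G = ⊤) (P : Sylow 2 G)
    (e : (P : Subgroup G) ≃* Multiplicative (ZMod (2 ^ 2) × ZMod (2 ^ 2))) : False := by
  haveI : Fact (Nat.Prime 2) := ⟨Nat.prime_two⟩
  set O : Subgroup G := oddCore G with hO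
  haveI hOn : O.Normal := pPrimeCore_normal 2 G
  have hOc : Nat.Coprime (Nat.card O) 2 := Cfsg.Agent.Lib.PCore.card_pPrimeCore_coprime (G := G) 2
  let Q := G ⧸ O
  let f : G →* Q := QuotientGroup.mk' O
  have hf : Function.Surjective f := QuotientGroup.mk'_surjective O
  let Pb : Sylow 2 Q := P.mapSurjective hf
  have hPbc : (Pb : Subgroup Q) = (P : Subgroup G).map f := Sylow.coe_mapSurjective hf P
  -- `P` embeds in the quotient
  have hPO : (P : Subgroup G) ⊓ O = ⊥ := by
    apply Subgroup.inf_eq_bot_of_coprime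
    obtain ⟨n, hn⟩ := IsPGroup.iff_card.mp P.isPGroup'
    rw [hn]
    exact Nat.Coprime.pow_left n hOc.symm
  have hinj : Function.Injective (f.subgroupMap (P : Subgroup G)) := by
    rw [injective_iff_map_eq_one]
    intro x hx
    have h1 : f (x : G) = 1 := congrArg Subtype.val hx
    have h2 : (x : G) ∈ O := by
      have : (x : G) ∈ f.ker := h1
      rwa [QuotientGroup.ker_mk'] at this
    have h3 : (x : G) ∈ (P : Subgroup G) ⊓ O := ⟨x.2, h2⟩
    rw [hPO] at h3
    exact Subtype.ext h3
  let e₁ : (P : Subgroup G) ≃* (P : Subgroup G).map f :=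
    MulEquiv.ofBijective (f.subgroupMap (P : Subgroup G))
      ⟨hinj, MonoidHom.subgroupMap_surjective f _⟩
  let e₂ : (Pb : Subgroup Q) ≃* (P : Subgroup G).map f := MulEquiv.subgroupCongr hPbc
  let e₃ : (Pb : Subgroup Q) ≃* Multiplicative (ZMod (2 ^ 2) × ZMod (2 ^ 2)) :=
    (e₂.trans e₁.symm).trans e
  have hoddQ : ∀ N : Subgroup Q, N.Normal → Odd (Nat.card N) → N = ⊥ := by
    intro N hN hNo
    let M : Subgroup G := N.comap f
    haveI hMn : M.Normal := hN.comap f
    have hi : M.index = N.index := Subgroup.index_comap_of_surjective N hf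
    have hc1 : Nat.card G = Nat.card M * M.index := (Subgroup.card_mul_index M).symm
    have hc2 : Nat.card Q = Nat.card N * N.index := (Subgroup.card_mul_index N).symm
    have hc3 : Nat.card G = Nat.card Q * Nat.card O := Subgroup.card_eq_card_quotient_mul_card_subgroup O
    have hpos : 0 < N.index := Nat.pos_of_ne_zero Subgroup.index_ne_zero_of_finite
    have hc4 : Nat.card M = Nat.card N * Nat.card O := by
      have : Nat.card M * N.index = (Nat.card N * Nat.card O) * N.index := by
        rw [← hi, ← hc1, hc3, hc2, hi]; ring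
      exact Nat.eq_of_mul_eq_mul_right hpos this
    have hMc : Nat.Coprime (Nat.card M) 2 := by
      rw [hc4]
      exact Nat.Coprime.mul_left (Nat.coprime_two_right.mpr hNo) hOc
    have hMO : M ≤ O := le_sSup ⟨hMn, hMc⟩
    rw [eq_bot_iff]
    intro x hx
    obtain ⟨g, rfl⟩ := hf x
    have h1 : g ∈ M := hx
    have h2 := hMO h1
    have h3 : f g = 1 := by
      have : g ∈ f.ker := by rwa [QuotientGroup.ker_mk']
      exact this
    rw [h3]
    exact Subgroup.one_mem _
  obtain ⟨hPn, -, hPi⟩ := Cfsg.Agent.S0949.result Pb 2 (le_refl 2) e₃ hoddQ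
  -- `Q` is perfect
  have hQperf : commutator Q = ⊤ := by
    have h1 := Subgroup.map_commutator (⊤ : Subgroup G) ⊤ f
    have h2 : (⊤ : Subgroup G).map f = ⊤ := by
      rw [← MonoidHom.range_eq_map, MonoidHom.range_eq_top]
      exact hf
    rw [h2] at h1
    have h3 : ⁅(⊤ : Subgroup G), (⊤ : Subgroup G)⁆ = ⊤ := hperf
    rw [h3, h2] at h1
    exact h1.symm
  -- the quotient by `Pb` is commutative
  haveI := hPn
  have hPbtop : (Pb : Subgroup Q) = ⊤ := by
    have hc : ∀ a c : Q ⧸ (Pb : Subgroup Q), a * c = c * a := by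
      rcases hPi with h1 | h1
      · have h2 : Subsingleton (Q ⧸ (Pb : Subgroup Q)) := by
          have h3 : Nat.card (Q ⧸ (Pb : Subgroup Q)) = 1 := h1
          exact (Nat.card_eq_one_iff_unique.mp h3).1
        intro a c
        exact Subsingleton.elim _ _
      · have h3 : Nat.card (Q ⧸ (Pb : Subgroup Q)) = 3 := h1
        haveI : Fact (Nat.Prime 3) := ⟨Nat.prime_three⟩
        haveI : IsCyclic (Q ⧸ (Pb : Subgroup Q)) := isCyclic_of_prime_card h3
        letI := IsCyclic.commGroup (α := Q ⧸ (Pb : Subgroup Q))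
        intro a c
        exact mul_comm a c
    rw [eq_top_iff, ← hQperf]
    change ⁅(⊤ : Subgroup Q), (⊤ : Subgroup Q)⁆ ≤ _
    rw [Subgroup.commutator_le]
    intro a _ c _
    have h1 := hc (a : Q ⧸ (Pb : Subgroup Q)) c
    have h2 : ((⁅a, c⁆ : Q) : Q ⧸ (Pb : Subgroup Q)) = 1 := by
      rw [commutatorElement_def]
      simp only [QuotientGroup.mk_mul, QuotientGroup.mk_inv]
      rw [h1]
      group
    exact (QuotientGroup.eq_one_iff _).mp h2
  have hQ2 : IsPGroup 2 Q := by
    have h1 := Pb.isPGroup'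
    rw [hPbtop] at h1
    intro x
    obtain ⟨k, hk⟩ := h1 ⟨x, Subgroup.mem_top x⟩
    exact ⟨k, by simpa [Subtype.ext_iff] using hk⟩
  haveI : Group.IsNilpotent Q := hQ2.isNilpotent
  obtain ⟨n, hn⟩ := nilpotent_iff_lowerCentralSeries.mp (inferInstance : Group.IsNilpotent Q)
  have hlcs : ∀ k, (⊤ : Subgroup Q).lowerCentralSeries k = ⊤ := by
    intro k
    induction k with
    | zero => rfl
    | succ k ih =>
      rw [Subgroup.lowerCentralSeries_succ, ih]
      exact hQperf
  rw [hlcs] at hn
  have h16 : Nat.card (Pb : Subgroup Q) = 16 := by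
    rw [Nat.card_congr e₃.toEquiv]
    change Nat.card (ZMod (2 ^ 2) × ZMod (2 ^ 2)) = 16
    rw [Nat.card_prod, Nat.card_zmod]
    norm_num
  rw [hPbtop, hn] at h16
  simp at h16

end Cfsg.Agent.Lib.CycFourJ
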