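import Mathlib
import Cfsg.Agent.Lib.CycFourH
import Cfsg.Agent.Lib.CycFourJ

/-!
# The case `Z₄ × Z₄` and the conclusion: `S` has a unique involution
-/

set_option autoImplicit false

namespace Cfsg.Agent.Lib.CycFourC

open Cfsg.Agent.Lib Cfsg.Agent.Lib.CycFourA

variable {X : Type*} [Group X] [Finite X] {L S : Subgroup X} {t u b : X}

namespace Pos

variable {A : Subgroup X} {y w : X} {m : ℕ} {v : X} (p : Pos L S t u b A y w m v)
include p

/-- The homocyclic case. -/
theorem pos_ZZ (hm2' : m = 2) {a : ℤ} (ha : a % 2 = 1) (hyy : y * y = b ^ a * u) (hw1 : w = 1)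
    (hβ : y * b * y⁻¹ = b) : False := by
  classical
  have hc := p.base.c
  have hyS := p.hyS
  have hbS := p.base.hbS
  have hyb : y * b = b * y := by
    calc y * b = y * b * y⁻¹ * y := by group
      _ = b * y := by rw [hβ]
  have hyu : y * u = u * y := by
    calc y * u = y * u * y⁻¹ * y := by group
      _ = u * y := by rw [p.hyu, hw1]; group
  have hb4 : b ^ 4 = 1 := by
    have := pow_orderOf_eq_one b
    rw [p.hm, hm2'] at this
    exact this
  have hcomm : Commute b y := (show Commute y b from hyb).symm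
  have hbsq : b * b = u * u := by
    have := p.base.z_eq p.hm p.hm1
    rw [hm2'] at this
    simpa [pow_two] using this
  have hy4 : y ^ 4 = 1 := by
    have h1 : y ^ 4 = (y * y) * (y * y) := by
      simp only [pow_succ, pow_zero, one_mul, mul_assoc]
    have hcu : Commute (b ^ a) u := (show Commute b u from p.hub.symm).zpow_left a
    rw [h1, hyy]
    calc b ^ a * u * (b ^ a * u) = b ^ a * (u * b ^ a) * u := by group
      _ = b ^ a * (b ^ a * u) * u := by rw [← hcu.eq]
      _ = (b ^ a * b ^ a) * (u * u) := by group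
      _ = (b * b) ^ a * (u * u) := by
          rw [← hbsq]
          congr 1
          have hbb : Commute b b := Commute.refl b
          rw [hbb.mul_zpow]
      _ = (u * u) ^ a * (u * u) := by rw [hbsq]
      _ = 1 := by rw [p.zodd ha, p.hz2]
  have hu_eq : u = b ^ (-a) * (y * y) := by
    rw [hyy]; group
  -- normal form
  have hnf : ∀ s ∈ S, ∃ (i : ℤ) (j : ℕ), s = b ^ i * y ^ j := by
    have hcy : ∀ (i : ℤ) (j : ℕ), b ^ i * (y * y) * y ^ j = b ^ i * y ^ (2 + j) := by
      intro i j
      rw [pow_add, pow_two, mul_assoc]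
    intro s hs
    by_cases hsA : s ∈ A
    · rcases (p.hA s).mp hsA with h1 | h1
      · obtain ⟨i, rfl⟩ := Subgroup.mem_zpowers_iff.mp h1
        exact ⟨i, 0, by simp⟩
      · obtain ⟨i, hi⟩ := Subgroup.mem_zpowers_iff.mp h1
        refine ⟨i + -a, 2, ?_⟩
        have hs' : s = b ^ i * u := by rw [hi]; group
        rw [hs', zpow_add, pow_two]
        conv_lhs => rw [hu_eq]
        group
    · have h1 := p.coset hs hsA
      rcases (p.hA _).mp h1 with h2 | h2
      · obtain ⟨i, hi⟩ := Subgroup.mem_zpowers_iff.mp h2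
        refine ⟨i, 1, ?_⟩
        rw [hi, pow_one]; group
      · obtain ⟨i, hi⟩ := Subgroup.mem_zpowers_iff.mp h2
        refine ⟨i + -a, 3, ?_⟩
        have hs' : s = b ^ i * u * y := by rw [hi]; group
        rw [hs', zpow_add]
        conv_lhs => rw [hu_eq]
        simp only [pow_succ, pow_zero, one_mul, mul_assoc]
  -- the isomorphism
  have hmemS : ∀ (i j : ℕ), b ^ i * y ^ j ∈ S := fun i j => S.mul_mem (S.pow_mem hbS i) (S.pow_mem hyS j)
  let ψ : Multiplicative (ZMod (2 ^ 2) × ZMod (2 ^ 2)) →* S :=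
    { toFun := fun x => ⟨b ^ (Multiplicative.toAdd x).1.val * y ^ (Multiplicative.toAdd x).2.val,
        hmemS _ _⟩
      map_one' := by
        apply Subtype.ext
        simp
      map_mul' := by
        intro x x'
        apply Subtype.ext
        change b ^ ((Multiplicative.toAdd x).1 + (Multiplicative.toAdd x').1).val *
            y ^ ((Multiplicative.toAdd x).2 + (Multiplicative.toAdd x').2).val =
          b ^ (Multiplicative.toAdd x).1.val * y ^ (Multiplicative.toAdd x).2.val *
            (b ^ (Multiplicative.toAdd x').1.val * y ^ (Multiplicative.toAdd x').2.val)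
        rw [ZMod.val_add, ZMod.val_add, ← pow_eq_pow_mod _ (by simpa using hb4),
          ← pow_eq_pow_mod _ (by simpa using hy4), pow_add, pow_add]
        have h1 := (hcomm.pow_pow (Multiplicative.toAdd x').1.val
          (Multiplicative.toAdd x).2.val).eq
        calc b ^ (Multiplicative.toAdd x).1.val * b ^ (Multiplicative.toAdd x').1.val *
              (y ^ (Multiplicative.toAdd x).2.val * y ^ (Multiplicative.toAdd x').2.val)
            = b ^ (Multiplicative.toAdd x).1.val * (b ^ (Multiplicative.toAdd x').1.val *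
              y ^ (Multiplicative.toAdd x).2.val) * y ^ (Multiplicative.toAdd x').2.val := by
              simp only [mul_assoc]
          _ = _ := by
              rw [h1]
              simp only [mul_assoc] }
  have hψs : Function.Surjective ψ := by
    intro s
    obtain ⟨i, j, hs⟩ := hnf s s.2
    refine ⟨Multiplicative.ofAdd ((i : ZMod (2 ^ 2)), (j : ZMod (2 ^ 2))), ?_⟩
    apply Subtype.ext
    change b ^ (i : ZMod (2 ^ 2)).val * y ^ (j : ZMod (2 ^ 2)).val = s
    rw [hs, ZMod.val_natCast, ← pow_eq_pow_mod _ (by simpa using hy4)]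
    congr 1
    have h1 : ((( i : ZMod (2 ^ 2)).val : ℕ) : ℤ) = i % ((2 ^ 2 : ℕ) : ℤ) := ZMod.val_intCast i
    have h2 : ((2 ^ 2 : ℕ) : ℤ) = ((orderOf b : ℕ) : ℤ) := by rw [p.hm, hm2']
    rw [← zpow_natCast, h1, h2, zpow_mod_orderOf]
  have hcS : Nat.card S = 16 := by rw [p.base.hcard, p.hm, hm2']; norm_num
  have hcM : Nat.card (Multiplicative (ZMod (2 ^ 2) × ZMod (2 ^ 2))) = 16 := by
    change Nat.card (ZMod (2 ^ 2) × ZMod (2 ^ 2)) = 16
    rw [Nat.card_prod, Nat.card_zmod]
    norm_num
  have hψb : Function.Bijective ψ :=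
    (Nat.bijective_iff_surjective_and_card ψ).mpr ⟨hψs, by rw [hcM, hcS]⟩
  let e : S ≃* Multiplicative (ZMod (2 ^ 2) × ZMod (2 ^ 2)) := (MulEquiv.ofBijective ψ hψb).symm
  let e₀ : ((hc.syl : Sylow 2 L) : Subgroup L) ≃* Multiplicative (ZMod (2 ^ 2) × ZMod (2 ^ 2)) :=
    ((MulEquiv.subgroupCongr hc.coe_syl).trans (Subgroup.subgroupOfEquivOfLe hc.hSL)).trans e
  exact CycFourJ.no_ZZ hc.hperf hc.syl e₀

/-- The commuting case is impossible. -/
theorem main_pos : False := by
  obtain ⟨a, hyy, hβ⟩ := p.exists_a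
  obtain ⟨hE1, hE2⟩ := p.E5 hβ
  have hbi : b⁻¹ * (b * b) = b := by group
  by_cases ha : a % 2 = 1
  · rcases hyy with h1 | h1
    · have h2 := p.nt2 ha (hE1 h1)
      rw [h2, hbi] at hβ
      exact p.pos_A ha (Or.inl h1) (Or.inl hβ)
    · have h3 := hE2 h1
      rcases p.hw with hw1 | hw1
      · rw [hw1] at h3
        have h2 := p.nt2 ha h3
        rw [h2, hbi] at hβ
        by_cases hm3 : 3 ≤ m
        · exact p.pos_A ha (Or.inr ⟨h1, hm3⟩) (Or.inl hβ)
        · have hm2 := p.hm2
          exact p.pos_ZZ (by omega) ha h1 hw1 hβ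
      · rw [hw1] at h3
        obtain ⟨h2, hm3⟩ := p.nt4 ha h3
        rw [h2] at hβ
        have hβ' : y * b * y⁻¹ = (u * u) * b := by
          rw [hβ]
          have hzb : (u * u) * b = b * (u * u) := (p.hzc p.base.hbS).symm
          calc b⁻¹ * ((u * u) * (b * b)) = b⁻¹ * (((u * u) * b) * b) := by group
            _ = b⁻¹ * ((b * (u * u)) * b) := by rw [hzb]
            _ = (u * u) * b := by group
        exact p.pos_A ha (Or.inr ⟨h1, hm3⟩) (Or.inr ⟨hβ', hm3⟩)
  · have ha0 : a % 2 = 0 := by omega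
    have hcB : b ^ a ∈ Subgroup.zpowers b := Subgroup.zpow_mem_zpowers b a
    rcases hyy with h1 | h1
    · have h2 := p.nt1 ha0 (hE1 h1)
      rw [h2, mul_one] at hβ
      have h3 : y * y = 1 ∨ y * y = u * u := by
        rw [h1]; exact p.base.invol_B hcB h2
      rcases p.hw with hw1 | hw1
      · exact p.pos_B1a hβ h3 hw1
      · exact p.pos_B1b hβ h3 hw1
    · have h3 := hE2 h1
      rcases p.hw with hw1 | hw1
      · rw [hw1] at h3
        have h2 := p.nt1 ha0 h3
        rw [h2, mul_one] at hβ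
        have h4 : y * y = u ∨ y * y = (u * u) * u := by
          rw [h1]
          rcases p.base.invol_B hcB h2 with h5 | h5 <;> rw [h5]
          · left; group
          · right; rfl
        exact p.pos_B2 hβ h4 hw1
      · rw [hw1] at h3
        obtain ⟨h2, hm3⟩ := p.nt3 ha0 h3
        rw [h2] at hβ
        exact p.pos_B3 hβ hcB h2 h1 hw1 hm3

end Pos

namespace Base

variable (h : Base L S t u b)
include h

/-- **Main structural theorem.**  `S` has a unique involution. -/
theorem main {r : X} (hr : r ∈ S) (hrr : r * r = 1) : r = 1 ∨ r = u * u := by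
  obtain ⟨m, hm⟩ := h.order_b
  by_cases hm0 : m = 0
  · exact h.main_n1 (by rw [hm, hm0]; rfl) hr hrr
  by_cases hm1 : m = 1
  · exact h.main_n2 (by rw [hm, hm1]; rfl) hr hrr
  have hm2 : 2 ≤ m := by omega
  have hb1 : b ≠ 1 := by
    intro h1
    rw [h1, orderOf_one] at hm
    have : 1 < 2 ^ m := Nat.one_lt_two_pow (by omega)
    omega
  obtain ⟨A, hA, hAS, hAi, hBA, huA, hcA⟩ := h.exists_A hb1
  obtain ⟨y, hyS, hyt⟩ := h.exists_y
  have hb2 : 2 ∣ orderOf b := by
    rw [hm]
    exact dvd_pow_self 2 (by omega)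
  have hyA := h.y_not_A hb2 hA hyt
  obtain ⟨w, hwB, hyu, hk⟩ := h.kappa hm hm2 hA hAS hAi huA hyS hyt
  rcases hk with ⟨hub, hw⟩ | ⟨hub, hw⟩
  · exact (Pos.main_pos (v := b ^ (2 ^ (m - 2))) ⟨h, hm, hm2, hA, hAS, hAi, huA, hyS, hyt, hyA, hyu, hub, hw, rfl⟩).elim
  · exact h.main_neg hm hm2 hA hAS hAi huA hyS hyt hyA hyu hub hw hr hrr

end Base

end Cfsg.Agent.Lib.CycFourC
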