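import Mathlib
import Cfsg.Agent.Lib.CycFourK

/-!
# Involutions of a perfect normal subgroup of index two
-/

set_option autoImplicit false

namespace Cfsg.Agent.Lib.CycFourC

open Cfsg.Agent.Lib Cfsg.Agent.Lib.CycFourA

/-- Involutions of `⟨u⟩`, `u` of order four. -/
theorem invol_zpowers {X : Type*} [Group X] {u x : X} (hu4 : orderOf u = 4)
    (hx : x ∈ Subgroup.zpowers u) (hxx : x * x = 1) : x = 1 ∨ x = u * u := by
  obtain ⟨i, rfl⟩ := Subgroup.mem_zpowers_iff.mp hx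
  have h3 : u ^ (i + i) = 1 := by rw [zpow_add]; exact hxx
  have h4 : (4 : ℤ) ∣ i + i := by
    have := orderOf_dvd_iff_zpow_eq_one.mpr h3
    rwa [hu4] at this
  have h5 : (2 : ℤ) ∣ i := by omega
  obtain ⟨j, rfl⟩ := h5
  have hj : (j % 2 = 0) ∨ (j % 2 = 1) := Int.emod_two_eq_zero_or_one j
  rcases hj with hj | hj
  · left
    have : (4 : ℤ) ∣ 2 * j := by omega
    exact orderOf_dvd_iff_zpow_eq_one.mp (by rw [hu4]; exact_mod_cast this)
  · right
    have h6 : (4 : ℤ) ∣ 2 * j - 2 := by omega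
    have h7 : u ^ (2 * j - 2) = 1 := orderOf_dvd_iff_zpow_eq_one.mp (by rw [hu4]; exact_mod_cast h6)
    have h8 : u ^ (2 * j) = u ^ (2 * j - 2) * u ^ (2 : ℤ) := by rw [← zpow_add]; congr 1; ring
    rw [h8, h7, one_mul]
    exact_mod_cast pow_two u

theorem lemmaM {X : Type*} [Group X] [Finite X] (L : Subgroup X) (hLn : L.Normal) (hLi : L.index = 2)
    (t : X) (ht : t * t = 1) (htL : t ∉ L) (hperf : commutator L = ⊤) (u : X) (huL : u ∈ L)
    (hut : u * t = t * u) (hu4 : orderOf u = 4)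
    (hG2 : ∀ P : Subgroup X, P ≤ L → IsPGroup 2 P → (∀ p ∈ P, p * t = t * p) → Nat.card P ≤ 4)
    (E : Subgroup X) (hEL : E ≤ L) (hE : ∀ e ∈ E, e * e = 1) :
    ∃ h ∈ L, ∀ e ∈ E, e = 1 ∨ e = h⁻¹ * (u * u) * h := by
  haveI : Fact (Nat.Prime 2) := ⟨Nat.prime_two⟩
  have htinv : t⁻¹ = t := inv_eq_of_mul_eq_one_left ht
  have hTL : Subgroup.zpowers u ≤ L := by
    rw [Subgroup.zpowers_le]; exact huL
  have htT : t ∉ Subgroup.zpowers u := fun h1 => htL (hTL h1)
  have hTt : ∀ x ∈ Subgroup.zpowers u, x * t = t * x := by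
    intro x hx
    obtain ⟨i, rfl⟩ := Subgroup.mem_zpowers_iff.mp hx
    exact ((show Commute u t from hut).zpow_left i)
  obtain ⟨R, hR1, hR2, hR3, hR4⟩ := mk2 (Subgroup.zpowers u) t (by
    intro x hx
    have : t * x * t⁻¹ = x := by
      rw [← hTt x hx]; group
    rwa [this]) (by rw [ht]; exact Subgroup.one_mem _) htT
  rw [Nat.card_zpowers, hu4] at hR2
  have hR2g : IsPGroup 2 R := IsPGroup.of_card (n := 3) (by rw [hR2]; norm_num)
  obtain ⟨Sh, hSh⟩ := hR2g.exists_le_sylow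
  set S : Subgroup X := (Sh : Subgroup X) ⊓ L with hS
  have htSh : t ∈ (Sh : Subgroup X) := hSh hR4
  have huSh : u ∈ (Sh : Subgroup X) := hSh (hR3 (Subgroup.mem_zpowers u))
  have huS : u ∈ S := ⟨huSh, huL⟩
  have hSL : S ≤ L := inf_le_right
  have hSSh : S ≤ (Sh : Subgroup X) := inf_le_left
  have hS2 : IsPGroup 2 S := Sh.isPGroup'.to_le hSSh
  -- the index of `S` in `L`
  have hLSh : L.relIndex (Sh : Subgroup X) = 2 := by
    have h1 : L.relIndex (Sh : Subgroup X) ∣ L.index := by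
      haveI := hLn
      exact Subgroup.relIndex_dvd_index_of_normal L _
    rw [hLi] at h1
    rcases (Nat.dvd_prime Nat.prime_two).mp h1 with h2 | h2
    · exfalso
      have h3 := Subgroup.relIndex_eq_one.mp h2
      exact htL (h3 htSh)
    · exact h2
  have hcSh : Nat.card (Sh : Subgroup X) = Nat.card S * 2 := by
    have h1 := Subgroup.card_mul_index (S.subgroupOf (Sh : Subgroup X))
    rw [Nat.card_congr (Subgroup.subgroupOfEquivOfLe hSSh).toEquiv] at h1
    have h2 : (S.subgroupOf (Sh : Subgroup X)).index = S.relIndex (Sh : Subgroup X) := rfl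
    rw [h2, hS, Subgroup.inf_relIndex_left, hLSh] at h1
    exact h1.symm
  have hSo : ¬ 2 ∣ S.relIndex L := by
    have h1 := Subgroup.card_mul_index (S.subgroupOf L)
    rw [Nat.card_congr (Subgroup.subgroupOfEquivOfLe hSL).toEquiv] at h1
    have h2 := Subgroup.card_mul_index L
    have h3 := Subgroup.card_mul_index (Sh : Subgroup X)
    rw [hLi] at h2
    have h4 : S.relIndex L = (Sh : Subgroup X).index := by
      have h5 : Nat.card S * (S.subgroupOf L).index * 2 = Nat.card S * 2 * (Sh : Subgroup X).index := by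
        rw [h1, h2, ← h3, hcSh]
      have h6 : 0 < Nat.card S := Nat.card_pos
      have h7 : Nat.card S * 2 * (S.subgroupOf L).index = Nat.card S * 2 * (Sh : Subgroup X).index := by
        rw [← h5]; ring
      exact Nat.eq_of_mul_eq_mul_left (by positivity) h7
    rw [h4]
    exact Sh.not_dvd_index
  have htS : ∀ s ∈ S, t * s * t⁻¹ ∈ S := by
    intro s hs
    refine ⟨Sh.1.mul_mem (Sh.1.mul_mem htSh (hSSh hs)) (Sh.1.inv_mem htSh), ?_⟩
    exact hLn.conj_mem s (hSL hs) t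
  have h4 : ∀ g : X, ∀ P : Subgroup X, P ≤ L → IsPGroup 2 P →
      (∀ p ∈ P, p * (g * t * g⁻¹) = (g * t * g⁻¹) * p) → Nat.card P ≤ 4 := by
    intro g P hPL hP2 hPc
    let P' : Subgroup X := P.map (MulAut.conj g⁻¹).toMonoidHom
    have hcP' : Nat.card P' = Nat.card P :=
      Nat.card_congr (Subgroup.equivMapOfInjective _ _ (MulAut.conj g⁻¹).injective).symm.toEquiv
    rw [← hcP']
    apply hG2 P'
    · rintro _ ⟨p, hp, rfl⟩
      exact hLn.conj_mem p (hPL hp) g⁻¹
    · exact isPGroup_conj g⁻¹ P hP2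
    · rintro _ ⟨p, hp, rfl⟩
      have h1 := hPc p hp
      change g⁻¹ * p * g⁻¹⁻¹ * t = t * (g⁻¹ * p * g⁻¹⁻¹)
      calc g⁻¹ * p * g⁻¹⁻¹ * t = g⁻¹ * (p * (g * t * g⁻¹)) * g := by group
        _ = g⁻¹ * ((g * t * g⁻¹) * p) * g := by rw [h1]
        _ = t * (g⁻¹ * p * g⁻¹⁻¹) := by group
  have c : Ctx L S t := ⟨hLn, hLi, htL, ht, hperf, hSL, hS2, hSo, htS, h4⟩
  have hut' : t * u * t⁻¹ = u := by
    rw [← hut]; group
  have hfix : ∀ s ∈ S, t * s * t⁻¹ = s → s ∈ Subgroup.zpowers u := by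
    intro s hs hst
    let P : Subgroup X := S ⊓ Subgroup.centralizer ({t} : Set X)
    have hPmem : ∀ x, x ∈ P ↔ x ∈ S ∧ x * t = t * x := by
      intro x
      rw [Subgroup.mem_inf, Subgroup.mem_centralizer_iff]
      constructor
      · rintro ⟨h2, h3⟩
        exact ⟨h2, (h3 t rfl).symm⟩
      · rintro ⟨h2, h3⟩
        refine ⟨h2, ?_⟩
        rintro _ rfl
        exact h3.symm
    have hP4 : Nat.card P ≤ 4 := hG2 P (le_trans inf_le_left hSL) (hS2.to_le inf_le_left)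
      (fun p hp => ((hPmem p).mp hp).2)
    have hTP : Subgroup.zpowers u ≤ P := by
      rw [Subgroup.zpowers_le]
      exact (hPmem u).mpr ⟨huS, hut⟩
    have hEq := Subgroup.eq_of_le_of_card_ge hTP (by rw [Nat.card_zpowers, hu4]; exact hP4)
    rw [hEq]
    refine (hPmem s).mpr ⟨hs, ?_⟩
    calc s * t = (t * s * t⁻¹) * t := by rw [hst]
      _ = t * s := by group
  obtain ⟨b, hb⟩ := exists_base c huS hu4 hut' hfix
  have hE2 : IsPGroup 2 E := by
    intro e
    refine ⟨1, ?_⟩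
    apply Subtype.ext
    simpa [pow_two] using hE e e.2
  obtain ⟨h, hhL, hh⟩ := conj_into L S E hSL hS2 hSo hEL hE2
  refine ⟨h, hhL, ?_⟩
  intro e he
  have h1 : (h * e * h⁻¹) * (h * e * h⁻¹) = 1 := by
    calc (h * e * h⁻¹) * (h * e * h⁻¹) = h * (e * e) * h⁻¹ := by group
      _ = 1 := by rw [hE e he]; group
  rcases hb.main (hh e he) h1 with h2 | h2
  · left
    have h3 : e = h⁻¹ * (h * e * h⁻¹) * h := by group
    rw [h3, h2]; group
  · right
    rw [← h2]; group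

theorem normalizer_grows {X : Type*} [Group X] [Finite X] (P T : Subgroup X) (hP : IsPGroup 2 P)
    (hT : T ≤ P) (hne : T ≠ P) : ∃ x ∈ P, x ∉ T ∧ ∀ y ∈ T, x * y * x⁻¹ ∈ T := by
  haveI : Fact (Nat.Prime 2) := ⟨Nat.prime_two⟩
  haveI : Group.IsNilpotent P := hP.isNilpotent
  have hlt : T.subgroupOf P < ⊤ := by
    rw [lt_top_iff_ne_top]
    intro h1
    apply hne
    apply le_antisymm hT
    intro x hx
    have : (⟨x, hx⟩ : P) ∈ T.subgroupOf P := by rw [h1]; exact Subgroup.mem_top _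
    exact this
  have h2 := normalizerCondition_of_isNilpotent (T.subgroupOf P) hlt
  obtain ⟨x, hx1, hx2⟩ := SetLike.exists_of_lt h2
  refine ⟨x, x.2, hx2, ?_⟩
  intro y hy
  have h3 := (Subgroup.mem_normalizer_iff.mp hx1 ⟨y, hT hy⟩).mp hy
  exact h3

end Cfsg.Agent.Lib.CycFourC
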