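import Mathlib
import Cfsg.Agent.Lib.DihedralIso

/-!
# Finite 2-groups with a cyclic subgroup of index two

* `nonempty_quaternion_of_card`: presentation criterion for `QuaternionGroup m`.
* `classify`: a group of order `2^(n+1)` with an element `a` of order `2^n` (`n ≥ 2`) and an element `b`
  outside `⟨a⟩` acting on `a` by an exponent `r ≡ 3 (mod 4)` is dihedral, semidihedral or quaternion.
-/

set_option autoImplicit false

namespace Cfsg.Agent.Lib.CycMax2

open Cfsg.Agent.Lib.DihedralIso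

variable {G : Type*} [Group G]

lemma pw_mul_t {n : ℕ} [NeZero n] {ζ t : G} (hζ : ζ ^ n = 1) (hconj : t * ζ * t⁻¹ = ζ⁻¹) (i : ZMod n) :
    pw ζ i * t = t * (pw ζ i)⁻¹ := by
  have h1 : ∀ k : ℕ, t * ζ ^ k * t⁻¹ = (ζ ^ k)⁻¹ := by
    intro k
    rw [← conj_pow, hconj, inv_pow]
  have h2 : t * (pw ζ i)⁻¹ * t⁻¹ = pw ζ i := by
    rw [← pw_neg hζ, pw, h1, ← pw, pw_neg hζ, inv_inv]
  calc pw ζ i * t = (t * (pw ζ i)⁻¹ * t⁻¹) * t := by rw [h2]
    _ = _ := by group

lemma pw_comm {n : ℕ} [NeZero n] {ζ : G} (hζ : ζ ^ n = 1) (i j : ZMod n) :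
    pw ζ i * pw ζ j = pw ζ j * pw ζ i := by
  rw [← pw_add hζ, ← pw_add hζ, add_comm]

/-- The homomorphism from the quaternion group given by `ζ` and `t`. -/
def quaternionHom (m : ℕ) [NeZero (2 * m)] [NeZero m] (ζ t : G) (hζ : ζ ^ (2 * m) = 1) (ht : t * t = ζ ^ m)
    (hconj : t * ζ * t⁻¹ = ζ⁻¹) : QuaternionGroup m →* G where
  toFun x := match x with
    | .a i => pw ζ i
    | .xa i => t * pw ζ i
  map_one' := by
    change pw ζ (0 : ZMod (2 * m)) = 1
    exact pw_zero
  map_mul' := by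
    have hm : pw ζ ((m : ℕ) : ZMod (2 * m)) = ζ ^ m := by
      rw [pw, ZMod.val_natCast]
      exact (pow_eq_pow_mod _ hζ).symm
    rintro (i | i) (j | j)
    · simp only [QuaternionGroup.a_mul_a]
      exact pw_add hζ i j
    · simp only [QuaternionGroup.a_mul_xa]
      rw [pw_sub hζ, ← mul_assoc (pw ζ i) t, pw_mul_t hζ hconj, mul_assoc t, ← pw_neg hζ, pw_comm hζ j]
    · simp only [QuaternionGroup.xa_mul_a]
      rw [pw_add hζ, mul_assoc]
    · simp only [QuaternionGroup.xa_mul_xa]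
      rw [pw_sub hζ, pw_add hζ, hm, ← ht]
      have e1 := pw_mul_t hζ hconj i
      calc t * t * pw ζ j * (pw ζ i)⁻¹ = t * (t * (pw ζ i)⁻¹) * pw ζ j := by
            rw [mul_assoc (t * t), ← pw_neg hζ, pw_comm hζ j, pw_neg hζ]
            group
        _ = t * (pw ζ i * t) * pw ζ j := by rw [e1]
        _ = _ := by group

/-- A group of order `4 m` generated by `ζ` of order `2 m` and `t` outside, with `t² = ζ^m` and `t` inverting `ζ`,
is a generalized quaternion group. -/
theorem nonempty_quaternion_of_card [Finite G] (m : ℕ) [NeZero (2 * m)] [NeZero m] (ζ t : G)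
    (hζ : ζ ^ (2 * m) = 1) (ht : t * t = ζ ^ m) (hconj : t * ζ * t⁻¹ = ζ⁻¹) (hord : orderOf ζ = 2 * m)
    (htout : ∀ k : ℕ, ζ ^ k ≠ t) (hcard : Nat.card G = 4 * m) : Nonempty (G ≃* QuaternionGroup m) := by
  have hinj : Function.Injective (quaternionHom m ζ t hζ ht hconj) := by
    rw [injective_iff_map_eq_one]
    have hinv : ∀ i : ZMod (2 * m), pw ζ i = 1 → i = 0 := by
      intro i hi
      have h1 : orderOf ζ ∣ i.val := orderOf_dvd_of_pow_eq_one hi
      rw [hord] at h1
      have h2 := ZMod.val_lt i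
      have h3 : i.val = 0 := Nat.eq_zero_of_dvd_of_lt h1 h2
      exact (ZMod.val_eq_zero i).1 h3
    rintro (i | i) h
    · change pw ζ i = 1 at h
      rw [hinv i h]
      rfl
    · exfalso
      change t * pw ζ i = 1 at h
      have h1 : t = (pw ζ i)⁻¹ := eq_inv_of_mul_eq_one_left h
      rw [← pw_neg hζ] at h1
      exact htout _ h1.symm
  have hbij : Function.Bijective (quaternionHom m ζ t hζ ht hconj) := by
    rw [Nat.bijective_iff_injective_and_card]
    refine ⟨hinj, ?_⟩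
    rw [hcard, Nat.card_eq_fintype_card, QuaternionGroup.card]
  exact ⟨(MulEquiv.ofBijective _ hbij).symm⟩

/-- The conclusion of the classification. -/
def Concl (S : Type*) [Group S] : Prop :=
  (∃ k : ℕ, Nonempty (S ≃* DihedralGroup (2 ^ (k + 2)))) ∨
    (∃ k : ℕ, Nat.card S = 2 ^ (k + 4) ∧ ∃ a b : S, orderOf a = 2 ^ (k + 3) ∧ orderOf b = 2 ∧
      b * a * b⁻¹ = a ^ (2 ^ (k + 2) - 1)) ∨
    (∃ k : ℕ, Nonempty (S ≃* QuaternionGroup (2 ^ (k + 1))))

/-- Classification of the groups with a cyclic subgroup of index two whose complement acts on it by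
an exponent `≡ 3 (mod 4)`. -/
theorem classify {S : Type*} [Group S] [Finite S] (n : ℕ) (hn : 2 ≤ n) (a b : S)
    (ha : orderOf a = 2 ^ n) (hcard : Nat.card S = 2 ^ (n + 1)) (hb : b ∉ Subgroup.zpowers a)
    (r : ℕ) (hr : r % 4 = 3) (hab : b * a * b⁻¹ = a ^ r) : Concl S := by
  obtain ⟨n', rfl⟩ : ∃ n', n = n' + 2 := ⟨n - 2, by omega⟩
  have hidx : (Subgroup.zpowers a).index = 2 := by
    have h1 := Subgroup.card_mul_index (Subgroup.zpowers a)
    rw [Nat.card_zpowers, ha, hcard, pow_succ] at h1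
    exact Nat.eq_of_mul_eq_mul_left (by positivity) h1
  have hfin : IsOfFinOrder a := isOfFinOrder_of_finite a
  obtain ⟨s, hs⟩ : ∃ s : ℕ, a ^ s = b * b := by
    have h1 := Subgroup.mul_self_mem_of_index_two hidx b
    rw [← hfin.mem_powers_iff_mem_zpowers] at h1
    exact Submonoid.mem_powers_iff _ _ |>.1 h1
  have hconjpow : ∀ k : ℕ, b * a ^ k * b⁻¹ = a ^ (r * k) := by
    intro k
    rw [← conj_pow, hab, pow_mul]
  obtain ⟨j, hj⟩ : ∃ j, r = 4 * j + 3 := ⟨r / 4, by omega⟩
  have hr1 : r - 1 = 2 * (2 * j + 1) := by omega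
  have hodd : Nat.Coprime (2 ^ (n' + 1)) (2 * j + 1) := by
    apply Nat.Coprime.pow_left
    exact Nat.coprime_two_left.2 ⟨j, rfl⟩
  -- `b² ∈ {1, w}`
  have hdvd : ∀ x : ℕ, a ^ (r * x) = a ^ x → 2 ^ (n' + 1) ∣ x := by
    intro x hx
    have h1 : a ^ ((r - 1) * x) = 1 := by
      have e : r * x = (r - 1) * x + x := by
        have : r = (r - 1) + 1 := by omega
        conv_lhs => rw [this]
        rw [add_mul, one_mul]
      rw [e, pow_add] at hx
      exact mul_eq_right.1 hx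
    have h2 := orderOf_dvd_of_pow_eq_one h1
    rw [ha, hr1, pow_succ, mul_comm (2 ^ (n' + 1)) 2, mul_assoc 2] at h2
    have h3 := Nat.dvd_of_mul_dvd_mul_left (by norm_num) h2
    exact hodd.dvd_of_dvd_mul_left h3
  let w := a ^ (2 ^ (n' + 1))
  have hw2 : w * w = 1 := by
    simp only [w]
    rw [← pow_add, ← two_mul, ← pow_succ', ← ha, pow_orderOf_eq_one]
  have hw1 : w ≠ 1 := by
    intro h
    have := orderOf_dvd_of_pow_eq_one h
    rw [ha] at this
    have := (Nat.pow_dvd_pow_iff_le_right (by norm_num : 1 < 2)).1 this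
    omega
  have hpar : ∀ t : ℕ, a ^ (2 ^ (n' + 1) * t) = 1 ∧ Even t ∨ a ^ (2 ^ (n' + 1) * t) = w ∧ Odd t := by
    intro t
    rcases Nat.even_or_odd' t with ⟨u, rfl | rfl⟩
    · left
      refine ⟨?_, by simp⟩
      rw [pow_mul, pow_mul]
      have : (a ^ 2 ^ (n' + 1)) ^ 2 = 1 := by
        rw [sq]; exact hw2
      rw [this, one_pow]
    · right
      refine ⟨?_, by simp⟩
      rw [pow_mul, pow_succ, pow_mul]
      have : (a ^ 2 ^ (n' + 1)) ^ 2 = 1 := by
        rw [sq]; exact hw2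
      rw [this, one_pow, one_mul]
  have hbb : b * b = 1 ∨ b * b = w := by
    have h1 : a ^ (r * s) = a ^ s := by
      rw [← hconjpow, hs]
      group
    obtain ⟨t, rfl⟩ := hdvd s h1
    rcases hpar t with ⟨h, -⟩ | ⟨h, -⟩
    · left; rw [← hs, h]
    · right; rw [← hs, h]
  -- the exponent
  have hbbcomm : (b * b) * a * (b * b)⁻¹ = a := by
    rw [← hs, mul_inv_eq_iff_eq_mul, ← pow_succ, ← pow_succ']
  have hrr : a ^ (r * r) = a ^ 1 := by
    have h1 : (b * b) * a * (b * b)⁻¹ = b * (b * a * b⁻¹) * b⁻¹ := by group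
    rw [h1, hab, hconjpow] at hbbcomm
    rw [hbbcomm, pow_one]
  have hdvd2 : 2 ^ (n' + 1) ∣ r + 1 := by
    have h1 : a ^ ((r - 1) * (r + 1)) = 1 := by
      have e : r * r = (r - 1) * (r + 1) + 1 := by
        obtain ⟨q, rfl⟩ : ∃ q, r = q + 1 := ⟨r - 1, by omega⟩
        simp only [Nat.add_sub_cancel]
        ring
      rw [e, pow_add] at hrr
      exact mul_eq_right.1 hrr
    have h2 := orderOf_dvd_of_pow_eq_one h1
    rw [ha, hr1, pow_succ, mul_comm (2 ^ (n' + 1)) 2, mul_assoc 2] at h2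
    have h3 := Nat.dvd_of_mul_dvd_mul_left (by norm_num) h2
    exact hodd.dvd_of_dvd_mul_left h3
  obtain ⟨t, ht⟩ := hdvd2
  have hbout : ∀ k : ℕ, a ^ k ≠ b := by
    intro k h
    apply hb
    rw [← h]
    exact pow_mem (Subgroup.mem_zpowers a) k
  have hsucc : a ^ r * a = a ^ (2 ^ (n' + 1) * t) := by
    rw [← ht, pow_succ]
  have hne2 : (2 : ℕ) ^ (n' + 2) ≠ 0 := by positivity
  rcases hpar t with ⟨h, ht2⟩ | ⟨h, ht2⟩
  · -- `b` inverts `a`
    have hinv : b * a * b⁻¹ = a⁻¹ := by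
      rw [hab]
      rw [h] at hsucc
      exact eq_inv_of_mul_eq_one_left hsucc
    rcases hbb with hbb | hbb
    · left
      refine ⟨n', ?_⟩
      have hb' : b⁻¹ = b := inv_eq_of_mul_eq_one_left hbb
      have : NeZero ((2 : ℕ) ^ (n' + 2)) := ⟨hne2⟩
      refine nonempty_dihedral_of_card a b ?_ hbb (by rw [← hinv, hb']) ha hbout ?_
      · rw [← ha, pow_orderOf_eq_one]
      · rw [hcard, pow_succ, mul_comm]
    · right; right
      refine ⟨n', ?_⟩
      have : NeZero ((2 : ℕ) ^ (n' + 1)) := ⟨by positivity⟩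
      have h2m : 2 * (2 : ℕ) ^ (n' + 1) = 2 ^ (n' + 2) := by ring
      have : NeZero (2 * (2 : ℕ) ^ (n' + 1)) := ⟨by positivity⟩
      refine nonempty_quaternion_of_card _ a b ?_ hbb hinv ?_ hbout ?_
      · rw [h2m, ← ha, pow_orderOf_eq_one]
      · rw [h2m]; exact ha
      · rw [hcard]; ring
  · -- semidihedral
    right; left
    obtain ⟨k, rfl⟩ : ∃ k, n' = k + 1 := by
      cases n' with
      | zero =>
        exfalso
        obtain ⟨u, rfl⟩ := ht2
        omega
      | succ k => exact ⟨k, rfl⟩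
    refine ⟨k, ?_, ?_⟩
    · rw [hcard]
    have hexp : a ^ r = a ^ (2 ^ (k + 2) - 1) := by
      apply mul_right_cancel (b := a)
      rw [hsucc, h, ← pow_succ]
      have e3 : 2 ^ (k + 2) - 1 + 1 = 2 ^ (k + 2) := Nat.sub_add_cancel Nat.one_le_two_pow
      rw [e3]
    have hord2 : ∀ y : S, y * y = 1 → y ≠ 1 → orderOf y = 2 := by
      intro y hy hy1
      exact orderOf_eq_prime (by rw [sq, hy]) hy1
    rcases hbb with hbb | hbb
    · refine ⟨a, b, ha, hord2 b hbb ?_, by rw [hab, hexp]⟩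
      rintro rfl
      exact hb (one_mem _)
    · refine ⟨a, b * a, ha, hord2 (b * a) ?_ ?_, ?_⟩
      · have e : b * a * (b * a) = (b * a * b⁻¹) * (b * b) * a := by group
        rw [e, hab, hbb]
        have hwa : w * a = a * w := (Commute.pow_left (Commute.refl a) _).eq
        have e2 : a ^ r * w * a = (a ^ r * a) * w := by
          calc a ^ r * w * a = a ^ r * (w * a) := by group
            _ = a ^ r * (a * w) := by rw [hwa]
            _ = _ := by group
        rw [e2, hsucc, h, hw2]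
      · intro h1
        apply hb
        have : b = a⁻¹ := eq_inv_of_mul_eq_one_left h1
        rw [this]
        exact inv_mem (Subgroup.mem_zpowers a)
      · have e : b * a * a * (b * a)⁻¹ = b * a * b⁻¹ := by group
        rw [e, hab, hexp]

end Cfsg.Agent.Lib.CycMax2
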