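import Cfsg.Agent.Lib.Chev.TwD4BN

/-!
# The unipotent group of `D₄` in characteristic two: collection
-/

set_option autoImplicit false
set_option linter.unusedSectionVars false
set_option linter.unusedVariables false
set_option linter.unusedSimpArgs false

namespace Cfsg.Agent.Lib.D4Inv50

open Cfsg Cfsg.Lie Cfsg.Agent.Lib.Chev Cfsg.Agent.Lib.Chev.TwD4

section Swap

variable {K : Type*} [Field K]

/-- Root elements. -/
noncomputable abbrev x (r : ℕ) (t : K) : GL chevD4.Idx K := hF.c.xG r t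

theorem sw_nil {r s : ℕ} (h : r < chevD4.nroots ∧ s < chevD4.nroots ∧ s ≠ r ∧ s ≠ chevD4.neg r ∧ chevD4.commTerms r s = [])
    (t u : K) (w : GL chevD4.Idx K) : x s u * (x r t * w) = x r t * (x s u * w) := by
  obtain ⟨h1, h2, h3, h4, h5⟩ := h
  have h6 := hF.xG_comm h1 h2 h3 h4 t u
  rw [← mul_assoc, h6]
  simp [ChevalleyDatum.commWord, h5, Checks.wordG_nil, mul_assoc]

theorem sw_one [CharP K 2] {r s m : ℕ} {ε : ℤ}
    (h : r < chevD4.nroots ∧ s < chevD4.nroots ∧ s ≠ r ∧ s ≠ chevD4.neg r ∧ chevD4.commTerms r s = [(m, ε, 1, 1)] ∧ (ε = 1 ∨ ε = -1))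
    (t u : K) (w : GL chevD4.Idx K) : x s u * (x r t * w) = x r t * (x s u * (x m (t * u) * w)) := by
  obtain ⟨h1, h2, h3, h4, h5, h7⟩ := h
  have h6 := hF.xG_comm h1 h2 h3 h4 t u
  rw [← mul_assoc, h6]
  have e : ((ε : ℤ) : K) * (-t) ^ 1 * u ^ 1 = t * u := by
    rcases h7 with rfl | rfl
    · simp [CharTwo.neg_eq]
    · simp [CharTwo.neg_eq]
  have e2 : chevD4.commWord K r s t u = [(m, t * u)] := by
    simp only [ChevalleyDatum.commWord, h5, List.map_cons, List.map_nil]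
    rw [e]
  rw [e2, Checks.wordG_cons, Checks.wordG_nil, mul_one]
  simp only [mul_assoc]

theorem mg (r : ℕ) (a b : K) (w : GL chevD4.Idx K) : x r a * (x r b * w) = x r (a + b) * w := by
  rw [← mul_assoc, hF.c.xG_add]

theorem s_13_12 (t u : K) (w : GL chevD4.Idx K) : x 13 u * (x 12 t * w) = x 12 t * (x 13 u * w) :=
  sw_nil (by decide +kernel) t u w

theorem s_14_12 [CharP K 2] (t u : K) (w : GL chevD4.Idx K) : x 14 u * (x 12 t * w) = x 12 t * (x 14 u * (x 15 (t * u) * w)) :=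
  sw_one (ε := 1) (by decide +kernel) t u w

theorem s_15_12 (t u : K) (w : GL chevD4.Idx K) : x 15 u * (x 12 t * w) = x 12 t * (x 15 u * w) :=
  sw_nil (by decide +kernel) t u w

theorem s_16_12 [CharP K 2] (t u : K) (w : GL chevD4.Idx K) : x 16 u * (x 12 t * w) = x 12 t * (x 16 u * (x 17 (t * u) * w)) :=
  sw_one (ε := 1) (by decide +kernel) t u w

theorem s_17_12 (t u : K) (w : GL chevD4.Idx K) : x 17 u * (x 12 t * w) = x 12 t * (x 17 u * w) :=
  sw_nil (by decide +kernel) t u w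

theorem s_18_12 (t u : K) (w : GL chevD4.Idx K) : x 18 u * (x 12 t * w) = x 12 t * (x 18 u * w) :=
  sw_nil (by decide +kernel) t u w

theorem s_19_12 [CharP K 2] (t u : K) (w : GL chevD4.Idx K) : x 19 u * (x 12 t * w) = x 12 t * (x 19 u * (x 20 (t * u) * w)) :=
  sw_one (ε := 1) (by decide +kernel) t u w

theorem s_20_12 (t u : K) (w : GL chevD4.Idx K) : x 20 u * (x 12 t * w) = x 12 t * (x 20 u * w) :=
  sw_nil (by decide +kernel) t u w

theorem s_21_12 [CharP K 2] (t u : K) (w : GL chevD4.Idx K) : x 21 u * (x 12 t * w) = x 12 t * (x 21 u * (x 22 (t * u) * w)) :=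
  sw_one (ε := 1) (by decide +kernel) t u w

theorem s_22_12 (t u : K) (w : GL chevD4.Idx K) : x 22 u * (x 12 t * w) = x 12 t * (x 22 u * w) :=
  sw_nil (by decide +kernel) t u w

theorem s_23_12 (t u : K) (w : GL chevD4.Idx K) : x 23 u * (x 12 t * w) = x 12 t * (x 23 u * w) :=
  sw_nil (by decide +kernel) t u w

theorem s_14_13 [CharP K 2] (t u : K) (w : GL chevD4.Idx K) : x 14 u * (x 13 t * w) = x 13 t * (x 14 u * (x 16 (t * u) * w)) :=
  sw_one (ε := 1) (by decide +kernel) t u w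

theorem s_15_13 [CharP K 2] (t u : K) (w : GL chevD4.Idx K) : x 15 u * (x 13 t * w) = x 13 t * (x 15 u * (x 17 (t * u) * w)) :=
  sw_one (ε := 1) (by decide +kernel) t u w

theorem s_16_13 (t u : K) (w : GL chevD4.Idx K) : x 16 u * (x 13 t * w) = x 13 t * (x 16 u * w) :=
  sw_nil (by decide +kernel) t u w

theorem s_17_13 (t u : K) (w : GL chevD4.Idx K) : x 17 u * (x 13 t * w) = x 13 t * (x 17 u * w) :=
  sw_nil (by decide +kernel) t u w

theorem s_18_13 (t u : K) (w : GL chevD4.Idx K) : x 18 u * (x 13 t * w) = x 13 t * (x 18 u * w) :=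
  sw_nil (by decide +kernel) t u w

theorem s_19_13 [CharP K 2] (t u : K) (w : GL chevD4.Idx K) : x 19 u * (x 13 t * w) = x 13 t * (x 19 u * (x 21 (t * u) * w)) :=
  sw_one (ε := 1) (by decide +kernel) t u w

theorem s_20_13 [CharP K 2] (t u : K) (w : GL chevD4.Idx K) : x 20 u * (x 13 t * w) = x 13 t * (x 20 u * (x 22 (t * u) * w)) :=
  sw_one (ε := 1) (by decide +kernel) t u w

theorem s_21_13 (t u : K) (w : GL chevD4.Idx K) : x 21 u * (x 13 t * w) = x 13 t * (x 21 u * w) :=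
  sw_nil (by decide +kernel) t u w

theorem s_22_13 (t u : K) (w : GL chevD4.Idx K) : x 22 u * (x 13 t * w) = x 13 t * (x 22 u * w) :=
  sw_nil (by decide +kernel) t u w

theorem s_23_13 (t u : K) (w : GL chevD4.Idx K) : x 23 u * (x 13 t * w) = x 13 t * (x 23 u * w) :=
  sw_nil (by decide +kernel) t u w

theorem s_15_14 (t u : K) (w : GL chevD4.Idx K) : x 15 u * (x 14 t * w) = x 14 t * (x 15 u * w) :=
  sw_nil (by decide +kernel) t u w

theorem s_16_14 (t u : K) (w : GL chevD4.Idx K) : x 16 u * (x 14 t * w) = x 14 t * (x 16 u * w) :=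
  sw_nil (by decide +kernel) t u w

theorem s_17_14 (t u : K) (w : GL chevD4.Idx K) : x 17 u * (x 14 t * w) = x 14 t * (x 17 u * w) :=
  sw_nil (by decide +kernel) t u w

theorem s_18_14 [CharP K 2] (t u : K) (w : GL chevD4.Idx K) : x 18 u * (x 14 t * w) = x 14 t * (x 18 u * (x 19 (t * u) * w)) :=
  sw_one (ε := 1) (by decide +kernel) t u w

theorem s_19_14 (t u : K) (w : GL chevD4.Idx K) : x 19 u * (x 14 t * w) = x 14 t * (x 19 u * w) :=
  sw_nil (by decide +kernel) t u w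

theorem s_20_14 (t u : K) (w : GL chevD4.Idx K) : x 20 u * (x 14 t * w) = x 14 t * (x 20 u * w) :=
  sw_nil (by decide +kernel) t u w

theorem s_21_14 (t u : K) (w : GL chevD4.Idx K) : x 21 u * (x 14 t * w) = x 14 t * (x 21 u * w) :=
  sw_nil (by decide +kernel) t u w

theorem s_22_14 [CharP K 2] (t u : K) (w : GL chevD4.Idx K) : x 22 u * (x 14 t * w) = x 14 t * (x 22 u * (x 23 (t * u) * w)) :=
  sw_one (ε := 1) (by decide +kernel) t u w

theorem s_23_14 (t u : K) (w : GL chevD4.Idx K) : x 23 u * (x 14 t * w) = x 14 t * (x 23 u * w) :=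
  sw_nil (by decide +kernel) t u w

theorem s_16_15 (t u : K) (w : GL chevD4.Idx K) : x 16 u * (x 15 t * w) = x 15 t * (x 16 u * w) :=
  sw_nil (by decide +kernel) t u w

theorem s_17_15 (t u : K) (w : GL chevD4.Idx K) : x 17 u * (x 15 t * w) = x 15 t * (x 17 u * w) :=
  sw_nil (by decide +kernel) t u w

theorem s_18_15 [CharP K 2] (t u : K) (w : GL chevD4.Idx K) : x 18 u * (x 15 t * w) = x 15 t * (x 18 u * (x 20 (t * u) * w)) :=
  sw_one (ε := 1) (by decide +kernel) t u w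

theorem s_19_15 (t u : K) (w : GL chevD4.Idx K) : x 19 u * (x 15 t * w) = x 15 t * (x 19 u * w) :=
  sw_nil (by decide +kernel) t u w

theorem s_20_15 (t u : K) (w : GL chevD4.Idx K) : x 20 u * (x 15 t * w) = x 15 t * (x 20 u * w) :=
  sw_nil (by decide +kernel) t u w

theorem s_21_15 [CharP K 2] (t u : K) (w : GL chevD4.Idx K) : x 21 u * (x 15 t * w) = x 15 t * (x 21 u * (x 23 (t * u) * w)) :=
  sw_one (ε := -1) (by decide +kernel) t u w

theorem s_22_15 (t u : K) (w : GL chevD4.Idx K) : x 22 u * (x 15 t * w) = x 15 t * (x 22 u * w) :=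
  sw_nil (by decide +kernel) t u w

theorem s_23_15 (t u : K) (w : GL chevD4.Idx K) : x 23 u * (x 15 t * w) = x 15 t * (x 23 u * w) :=
  sw_nil (by decide +kernel) t u w

theorem s_17_16 (t u : K) (w : GL chevD4.Idx K) : x 17 u * (x 16 t * w) = x 16 t * (x 17 u * w) :=
  sw_nil (by decide +kernel) t u w

theorem s_18_16 [CharP K 2] (t u : K) (w : GL chevD4.Idx K) : x 18 u * (x 16 t * w) = x 16 t * (x 18 u * (x 21 (t * u) * w)) :=
  sw_one (ε := 1) (by decide +kernel) t u w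

theorem s_19_16 (t u : K) (w : GL chevD4.Idx K) : x 19 u * (x 16 t * w) = x 16 t * (x 19 u * w) :=
  sw_nil (by decide +kernel) t u w

theorem s_20_16 [CharP K 2] (t u : K) (w : GL chevD4.Idx K) : x 20 u * (x 16 t * w) = x 16 t * (x 20 u * (x 23 (t * u) * w)) :=
  sw_one (ε := -1) (by decide +kernel) t u w

theorem s_21_16 (t u : K) (w : GL chevD4.Idx K) : x 21 u * (x 16 t * w) = x 16 t * (x 21 u * w) :=
  sw_nil (by decide +kernel) t u w

theorem s_22_16 (t u : K) (w : GL chevD4.Idx K) : x 22 u * (x 16 t * w) = x 16 t * (x 22 u * w) :=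
  sw_nil (by decide +kernel) t u w

theorem s_23_16 (t u : K) (w : GL chevD4.Idx K) : x 23 u * (x 16 t * w) = x 16 t * (x 23 u * w) :=
  sw_nil (by decide +kernel) t u w

theorem s_18_17 [CharP K 2] (t u : K) (w : GL chevD4.Idx K) : x 18 u * (x 17 t * w) = x 17 t * (x 18 u * (x 22 (t * u) * w)) :=
  sw_one (ε := 1) (by decide +kernel) t u w

theorem s_19_17 [CharP K 2] (t u : K) (w : GL chevD4.Idx K) : x 19 u * (x 17 t * w) = x 17 t * (x 19 u * (x 23 (t * u) * w)) :=
  sw_one (ε := 1) (by decide +kernel) t u w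

theorem s_20_17 (t u : K) (w : GL chevD4.Idx K) : x 20 u * (x 17 t * w) = x 17 t * (x 20 u * w) :=
  sw_nil (by decide +kernel) t u w

theorem s_21_17 (t u : K) (w : GL chevD4.Idx K) : x 21 u * (x 17 t * w) = x 17 t * (x 21 u * w) :=
  sw_nil (by decide +kernel) t u w

theorem s_22_17 (t u : K) (w : GL chevD4.Idx K) : x 22 u * (x 17 t * w) = x 17 t * (x 22 u * w) :=
  sw_nil (by decide +kernel) t u w

theorem s_23_17 (t u : K) (w : GL chevD4.Idx K) : x 23 u * (x 17 t * w) = x 17 t * (x 23 u * w) :=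
  sw_nil (by decide +kernel) t u w

theorem s_19_18 (t u : K) (w : GL chevD4.Idx K) : x 19 u * (x 18 t * w) = x 18 t * (x 19 u * w) :=
  sw_nil (by decide +kernel) t u w

theorem s_20_18 (t u : K) (w : GL chevD4.Idx K) : x 20 u * (x 18 t * w) = x 18 t * (x 20 u * w) :=
  sw_nil (by decide +kernel) t u w

theorem s_21_18 (t u : K) (w : GL chevD4.Idx K) : x 21 u * (x 18 t * w) = x 18 t * (x 21 u * w) :=
  sw_nil (by decide +kernel) t u w

theorem s_22_18 (t u : K) (w : GL chevD4.Idx K) : x 22 u * (x 18 t * w) = x 18 t * (x 22 u * w) :=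
  sw_nil (by decide +kernel) t u w

theorem s_23_18 (t u : K) (w : GL chevD4.Idx K) : x 23 u * (x 18 t * w) = x 18 t * (x 23 u * w) :=
  sw_nil (by decide +kernel) t u w

theorem s_20_19 (t u : K) (w : GL chevD4.Idx K) : x 20 u * (x 19 t * w) = x 19 t * (x 20 u * w) :=
  sw_nil (by decide +kernel) t u w

theorem s_21_19 (t u : K) (w : GL chevD4.Idx K) : x 21 u * (x 19 t * w) = x 19 t * (x 21 u * w) :=
  sw_nil (by decide +kernel) t u w

theorem s_22_19 (t u : K) (w : GL chevD4.Idx K) : x 22 u * (x 19 t * w) = x 19 t * (x 22 u * w) :=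
  sw_nil (by decide +kernel) t u w

theorem s_23_19 (t u : K) (w : GL chevD4.Idx K) : x 23 u * (x 19 t * w) = x 19 t * (x 23 u * w) :=
  sw_nil (by decide +kernel) t u w

theorem s_21_20 (t u : K) (w : GL chevD4.Idx K) : x 21 u * (x 20 t * w) = x 20 t * (x 21 u * w) :=
  sw_nil (by decide +kernel) t u w

theorem s_22_20 (t u : K) (w : GL chevD4.Idx K) : x 22 u * (x 20 t * w) = x 20 t * (x 22 u * w) :=
  sw_nil (by decide +kernel) t u w

theorem s_23_20 (t u : K) (w : GL chevD4.Idx K) : x 23 u * (x 20 t * w) = x 20 t * (x 23 u * w) :=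
  sw_nil (by decide +kernel) t u w

theorem s_22_21 (t u : K) (w : GL chevD4.Idx K) : x 22 u * (x 21 t * w) = x 21 t * (x 22 u * w) :=
  sw_nil (by decide +kernel) t u w

theorem s_23_21 (t u : K) (w : GL chevD4.Idx K) : x 23 u * (x 21 t * w) = x 21 t * (x 23 u * w) :=
  sw_nil (by decide +kernel) t u w

theorem s_23_22 (t u : K) (w : GL chevD4.Idx K) : x 23 u * (x 22 t * w) = x 22 t * (x 23 u * w) :=
  sw_nil (by decide +kernel) t u w

theorem mg_12 (a b : K) (w : GL chevD4.Idx K) : x 12 a * (x 12 b * w) = x 12 (a + b) * w := mg 12 a b w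

theorem mg_13 (a b : K) (w : GL chevD4.Idx K) : x 13 a * (x 13 b * w) = x 13 (a + b) * w := mg 13 a b w

theorem mg_14 (a b : K) (w : GL chevD4.Idx K) : x 14 a * (x 14 b * w) = x 14 (a + b) * w := mg 14 a b w

theorem mg_15 (a b : K) (w : GL chevD4.Idx K) : x 15 a * (x 15 b * w) = x 15 (a + b) * w := mg 15 a b w

theorem mg_16 (a b : K) (w : GL chevD4.Idx K) : x 16 a * (x 16 b * w) = x 16 (a + b) * w := mg 16 a b w

theorem mg_17 (a b : K) (w : GL chevD4.Idx K) : x 17 a * (x 17 b * w) = x 17 (a + b) * w := mg 17 a b w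

theorem mg_18 (a b : K) (w : GL chevD4.Idx K) : x 18 a * (x 18 b * w) = x 18 (a + b) * w := mg 18 a b w

theorem mg_19 (a b : K) (w : GL chevD4.Idx K) : x 19 a * (x 19 b * w) = x 19 (a + b) * w := mg 19 a b w

theorem mg_20 (a b : K) (w : GL chevD4.Idx K) : x 20 a * (x 20 b * w) = x 20 (a + b) * w := mg 20 a b w

theorem mg_21 (a b : K) (w : GL chevD4.Idx K) : x 21 a * (x 21 b * w) = x 21 (a + b) * w := mg 21 a b w

theorem mg_22 (a b : K) (w : GL chevD4.Idx K) : x 22 a * (x 22 b * w) = x 22 (a + b) * w := mg 22 a b w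

theorem mg_23 (a b : K) (w : GL chevD4.Idx K) : x 23 a * (x 23 b * w) = x 23 (a + b) * w := mg 23 a b w

/-- The ordered product of the positive root elements. -/
noncomputable def W (a12 a13 a14 a15 a16 a17 a18 a19 a20 a21 a22 a23 : K) : GL chevD4.Idx K :=
  x 12 a12 * (x 13 a13 * (x 14 a14 * (x 15 a15 * (x 16 a16 * (x 17 a17 * (x 18 a18 * (x 19 a19 * (x 20 a20 * (x 21 a21 * (x 22 a22 * (x 23 a23 * 1)))))))))))

end Swap

end Cfsg.Agent.Lib.D4Inv50
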