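import Cfsg.Agent.Lib.D4Inv50A

set_option autoImplicit false
set_option linter.unusedSectionVars false
set_option linter.unusedVariables false
set_option linter.unusedSimpArgs false

namespace Cfsg.Agent.Lib.D4Inv50

open Cfsg Cfsg.Lie Cfsg.Agent.Lib.Chev Cfsg.Agent.Lib.Chev.TwD4

section Law

variable {K : Type*} [Field K] [CharP K 2]

theorem W_mul (a12 a13 a14 a15 a16 a17 a18 a19 a20 a21 a22 a23 b12 b13 b14 b15 b16 b17 b18 b19 b20 b21 b22 b23 : K) : W a12 a13 a14 a15 a16 a17 a18 a19 a20 a21 a22 a23 * W b12 b13 b14 b15 b16 b17 b18 b19 b20 b21 b22 b23 = W (a12 + b12) (a13 + b13) (a14 + b14) (a15 + b15 + a14*b12) (a16 + b16 + a14*b13) (a17 + b17 + a15*b13 + a16*b12 + a14*b12*b13) (a18 + b18) (a19 + b19 + a18*b14) (a20 + b20 + a18*b15 + a19*b12) (a21 + b21 + a18*b16 + a19*b13) (a22 + b22 + a18*b17 + a20*b13 + a21*b12 + a19*b12*b13) (a23 + b23 + a19*b17 + a20*b16 + a21*b15 + a22*b14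 + a18*b14*b17 + a18*b15*b16 + a19*b12*b16 + a19*b13*b15 + a20*b13*b14 + a21*b12*b14 + a19*b12*b13*b14) := by
  unfold W
  simp only [mul_assoc, one_mul, s_13_12, s_14_12, s_15_12, s_16_12, s_17_12, s_18_12, s_19_12, s_20_12, s_21_12, s_22_12, s_23_12, s_14_13, s_15_13, s_16_13, s_17_13, s_18_13, s_19_13, s_20_13, s_21_13, s_22_13, s_23_13, s_15_14, s_16_14, s_17_14, s_18_14, s_19_14, s_20_14, s_21_14, s_22_14, s_23_14, s_16_15, s_17_15, s_18_15, s_19_15, s_20_15, s_21_15, s_22_15, s_23_15, s_17_16, s_18_16, s_19_16, s_20_16, s_21_16, s_22_16, s_23_16, s_18_17, s_19_17, s_20_17, s_21_17, s_22_17, s_23_17, s_19_18, s_20_18, s_21_18, s_22_18, s_23_18, s_20_19, s_21_19, s_22_19, s_23_19, s_21_20, s_22_20, s_23_20, s_22_21, s_23_21, s_23_22, mg_12, mg_13, mg_14, mg_15, mg_16, mg_17, mg_18, mg_19, mg_20, mg_21, mg_22, mg_23]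
  exact congrArg₂ (· * ·) (congrArg (x 12) (by ring)) (congrArg₂ (· * ·) (congrArg (x 13) (by ring)) (congrArg₂ (· * ·) (congrArg (x 14) (by ring)) (congrArg₂ (· * ·) (congrArg (x 15) (by ring)) (congrArg₂ (· * ·) (congrArg (x 16) (by ring)) (congrArg₂ (· * ·) (congrArg (x 17) (by ring)) (congrArg₂ (· * ·) (congrArg (x 18) (by ring)) (congrArg₂ (· * ·) (congrArg (x 19) (by ring)) (congrArg₂ (· * ·) (congrArg (x 20) (by ring)) (congrArg₂ (· * ·) (congrArg (x 21) (by ring)) (congrArg₂ (· * ·) (congrArg (x 22) (by ring)) (congrArg₂ (· * ·) (congrArg (x 23) (by ring)) (rfl))))))))))))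

end Law

section ELaw

variable {K : Type*} [Field K] [CharP K 2] (f : K ≃+* K)

theorem W_congr {a12 a13 a14 a15 a16 a17 a18 a19 a20 a21 a22 a23 b12 b13 b14 b15 b16 b17 b18 b19 b20 b21 b22 b23 : K}
    (h12 : a12 = b12) (h13 : a13 = b13) (h14 : a14 = b14) (h15 : a15 = b15) (h16 : a16 = b16) (h17 : a17 = b17)
    (h18 : a18 = b18) (h19 : a19 = b19) (h20 : a20 = b20) (h21 : a21 = b21) (h22 : a22 = b22) (h23 : a23 = b23) :
    W a12 a13 a14 a15 a16 a17 a18 a19 a20 a21 a22 a23 = W b12 b13 b14 b15 b16 b17 b18 b19 b20 b21 b22 b23 := by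
  subst_vars
  rfl

/-- The general element of the fixed points of the twist in `U`, in the coordinates of the twisted root groups. -/
noncomputable def E (a b c d e g : K) : GL chevD4.Idx K :=
  W (f (f b)) (f b) a (f (f c) + a * f (f b)) (f c + a * f b) (d + a * f b * f (f b)) b c (f d + b * f (f c))
    (f (f d) + b * f c) (e + b * d) (g + c * d + b * f c * f (f c))

theorem E_mul (hf3 : ∀ t, f (f (f t)) = t) {xa ya : K} (hxa : f xa = xa) (hya : f ya = ya) (xb xc xd xe xg yb yc yd ye yg : K) :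
    E f xa xb xc xd xe xg * E f ya yb yc yd ye yg = E f (xa + ya) (xb + yb) (xc + yc + xb*ya) (xd + yd + (f xc)*(f (f yb)) + (f (f xc))*(f yb) + (f xb)*(f (f xb))*ya + (f xb)*ya*(f (f yb)) + (f (f xb))*ya*(f yb)) (xe + ye + xd*yb + (f xd)*(f yb) + (f (f xd))*(f (f yb)) + xc*(f yb)*(f (f yb)) + (f xc)*yb*(f (f yb)) + (f (f xc))*yb*(f yb) + xb*(f xb)*(f (f xb))*ya + xb*(f xb)*ya*(f (f yb)) + xb*(f (f xb))*ya*(f yb) + xb*ya*(f yb)*(f (f yb)) + (f xb)*(f (f xb))*ya*yb + (f xb)*ya*yb*(f (f yb)) + (f (f xb))*ya*yb*(f yb)) (xg + yg + xd*yc + (f xd)*(f yc) + (f (f xd))*(f (f yc)) + xe*ya + xc*(f xc)*(f (f yb)) + xc*(f (f xc))*(f yb) + xc*(f yb)*(f (f yc)) + xc*(f (f yb))*(f yc) + (f xc)*(f (f xc))*yb + (f xc)*yb*(f (f yc)) + (f xc)*(f (f yb))*yc + (f (f xc))*yb*(f yc) + (f (f xc))*(f yb)*yc + xb*(f xb)*(f (f xc))*ya + xb*(f xb)*ya*(f (f yc)) + xb*(f (f xb))*(f xc)*ya + xb*(f (f xb))*ya*(f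 yc) + xb*(f xc)*ya*(f (f yb)) + xb*(f (f xc))*ya*(f yb) + xb*ya*(f yb)*(f (f yc)) + xb*ya*(f (f yb))*(f yc) + (f xb)*(f (f xb))*xc*ya + (f xb)*(f (f xb))*ya*yc + (f xb)*xc*ya*(f (f yb)) + (f xb)*(f (f xc))*ya*yb + (f xb)*ya*yb*(f (f yc)) + (f xb)*ya*(f (f yb))*yc + (f (f xb))*xc*ya*(f yb) + (f (f xb))*(f xc)*ya*yb + (f (f xb))*ya*yb*(f yc) + (f (f xb))*ya*(f yb)*yc + xb*(f xb)*ya*ya*(f (f yb)) + xb*(f (f xb))*ya*ya*(f yb) + (f xb)*(f (f xb))*ya*ya*yb) := by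
  have h2 : (2 : K) = 0 := CharTwo.two_eq_zero
  unfold E
  rw [W_mul]
  apply W_congr
  · (try simp only [map_add, map_mul, hf3, hxa, hya]) <;> linear_combination (0) * h2
  · (try simp only [map_add, map_mul, hf3, hxa, hya]) <;> linear_combination (0) * h2
  · (try simp only [map_add, map_mul, hf3, hxa, hya]) <;> linear_combination (0) * h2
  · (try simp only [map_add, map_mul, hf3, hxa, hya]) <;> linear_combination ((-1)*(f (f xb))*ya) * h2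
  · (try simp only [map_add, map_mul, hf3, hxa, hya]) <;> linear_combination ((-1)*(f xb)*ya) * h2
  · (try simp only [map_add, map_mul, hf3, hxa, hya]) <;> linear_combination ((-1)*(f xb)*(f (f xb))*ya + (-1)*(f xb)*ya*(f (f yb)) + (-1)*(f (f xb))*ya*(f yb)) * h2
  · (try simp only [map_add, map_mul, hf3, hxa, hya]) <;> linear_combination (0) * h2
  · (try simp only [map_add, map_mul, hf3, hxa, hya]) <;> linear_combination (0) * h2
  · (try simp only [map_add, map_mul, hf3, hxa, hya]) <;> linear_combination ((-1)*(f (f xc))*yb + (-1)*xb*(f (f xb))*ya + (-1)*(f (f xb))*ya*yb) * h2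
  · (try simp only [map_add, map_mul, hf3, hxa, hya]) <;> linear_combination ((-1)*(f xc)*yb + (-1)*xb*(f xb)*ya + (-1)*(f xb)*ya*yb) * h2
  · (try simp only [map_add, map_mul, hf3, hxa, hya]) <;> linear_combination ((-1)*xd*yb + (-1)*(f xc)*yb*(f (f yb)) + (-1)*(f (f xc))*yb*(f yb) + (-1)*xb*(f xb)*(f (f xb))*ya + (-1)*xb*(f xb)*ya*(f (f yb)) + (-1)*xb*(f (f xb))*ya*(f yb) + (-1)*(f xb)*(f (f xb))*ya*yb + (-1)*(f xb)*ya*yb*(f (f yb)) + (-1)*(f (f xb))*ya*yb*(f yb)) * h2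
  · (try simp only [map_add, map_mul, hf3, hxa, hya]) <;> linear_combination ((-1)*xd*yc + (-1)*xc*(f xc)*(f (f yb)) + (-1)*xc*(f (f xc))*(f yb) + (-1)*(f xc)*(f (f xc))*yb + (-1)*(f xc)*yb*(f (f yc)) + (-1)*(f xc)*(f (f yb))*yc + (-1)*(f (f xc))*yb*(f yc) + (-1)*(f (f xc))*(f yb)*yc + (f xd)*ya*(f yb) + (f (f xd))*ya*(f (f yb)) + (-1)*xb*(f xb)*(f (f xc))*ya + (-1)*xb*(f xb)*ya*(f (f yc)) + (-1)*xb*(f (f xb))*(f xc)*ya + (-1)*xb*(f (f xb))*ya*(f yc) + (-1)*(f xb)*(f (f xb))*xc*ya + (-1)*(f xb)*(f (f xb))*ya*yc + (-1)*(f xb)*xc*ya*(f (f yb)) + (-1)*(f xb)*(f (f xc))*ya*yb + (-1)*(f xb)*ya*yb*(f (f yc)) + (-1)*(f xb)*ya*(f (f yb))*yc + (-1)*(f (f xb))*xc*ya*(f yb) + (-1)*(f (f xb))*(f xc)*ya*yb + (-1)*(f (f xb))*ya*yb*(f yc) + (-1)*(f (f xb))*ya*(f yb)*yc + 2*xc*ya*(f yb)*(f (f yb)) + (-1)*xb*(f xb)*(f (f xb))*ya*ya + (-1)*xb*(f xb)*ya*ya*(f (f yb)) + (-1)*xb*(f (f xb))*ya*ya*(f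 yb) + xb*ya*ya*(f yb)*(f (f yb)) + (-1)*(f xb)*(f (f xb))*ya*ya*yb) * h2

end ELaw

end Cfsg.Agent.Lib.D4Inv50
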