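import Cfsg.Agent.Lib.D4Inv50H
import Cfsg.Agent.Lib.ChevFix

/-!
# The involutions of `³D₄(q)`, `q` even: the two representatives are not conjugate
-/

set_option autoImplicit false
set_option linter.unusedSectionVars false
set_option linter.unusedVariables false
set_option linter.unusedSimpArgs false

namespace Cfsg.Agent.Lib.D4Inv50

open Cfsg Cfsg.Lie Cfsg.Agent.Lib.Chev Cfsg.Agent.Lib.Chev.TwD4

section RankData

def code : chevD4.Idx → ℕ
  | Sum.inl i => i.1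
  | Sum.inr s => 4 + s.1

def vl : Fin 10 → List ℕ := ![[18],[5],[9],[14],[15],[1,18],[19],[20],[23],[27]]
def wl : Fin 10 → List ℕ := ![[0,2,3],[4],[8],[11],[12],[13],[16],[17],[22],[26]]

def Pm : Matrix chevD4.Idx (Fin 10) (ZMod 2) := fun i k => if code i ∈ vl k then 1 else 0
def Qm : Matrix (Fin 10) chevD4.Idx (ZMod 2) := fun k j => if code j ∈ wl k then 1 else 0

set_option maxRecDepth 100000 in
theorem A_fact : chevD4.x (ZMod 2) 14 1 - 1 = Pm * Qm := by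
  decide +kernel

def rowf : Fin 12 → chevD4.Idx :=
  ![Sum.inl ⟨0, by decide⟩, Sum.inl ⟨2, by decide⟩, Sum.inl ⟨3, by decide⟩, Sum.inr ⟨18, by decide⟩, Sum.inr ⟨9, by decide⟩, Sum.inr ⟨7, by decide⟩, Sum.inr ⟨8, by decide⟩, Sum.inr ⟨2, by decide⟩, Sum.inr ⟨22, by decide⟩, Sum.inr ⟨20, by decide⟩, Sum.inr ⟨21, by decide⟩, Sum.inr ⟨15, by decide⟩]
def colf : Fin 12 → chevD4.Idx :=
  ![Sum.inr ⟨5, by decide⟩, Sum.inr ⟨10, by decide⟩, Sum.inr ⟨11, by decide⟩, Sum.inl ⟨1, by decide⟩, Sum.inr ⟨4, by decide⟩, Sum.inr ⟨2, by decide⟩, Sum.inr ⟨3, by decide⟩, Sum.inr ⟨1, by decide⟩, Sum.inr ⟨17, by decide⟩, Sum.inr ⟨15, by decide⟩, Sum.inr ⟨16, by decide⟩, Sum.inr ⟨14, by decide⟩]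

def S0 : Matrix (Fin 12) (Fin 12) (ZMod 2) :=
  ![![1, 0, 0, 0, 0, 0, 0, 0, 0, 0, 0, 0],
    ![0, 1, 0, 0, 0, 0, 0, 0, 0, 0, 0, 0],
    ![0, 0, 1, 0, 0, 0, 0, 0, 0, 0, 0, 0],
    ![1, 0, 0, 1, 0, 0, 0, 0, 0, 0, 0, 0],
    ![0, 0, 0, 0, 1, 1, 1, 1, 0, 0, 0, 0],
    ![0, 0, 0, 0, 0, 1, 0, 1, 0, 0, 0, 0],
    ![0, 0, 0, 0, 0, 0, 1, 1, 0, 0, 0, 0],
    ![0, 0, 0, 0, 0, 0, 0, 1, 0, 0, 0, 0],
    ![0, 0, 0, 0, 0, 0, 0, 0, 1, 1, 1, 1],
    ![0, 0, 0, 0, 0, 0, 0, 0, 0, 1, 0, 1],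
    ![0, 0, 0, 0, 0, 0, 0, 0, 0, 0, 1, 1],
    ![0, 0, 0, 0, 0, 0, 0, 0, 0, 0, 0, 1]]

set_option maxRecDepth 100000 in
theorem B_fact :
    (chevD4.x (ZMod 2) 12 1 * (chevD4.x (ZMod 2) 13 1 * chevD4.x (ZMod 2) 18 1) - 1).submatrix rowf colf = S0 := by
  decide +kernel

set_option maxRecDepth 100000 in
theorem S_inv : S0 * S0 = 1 := by
  decide +kernel

end RankData

section NonConj

variable {K : Type*} [Field K] [CharP K 2] (f : K ≃+* K)

/-- The canonical map from the prime field. -/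
noncomputable def phi : ZMod 2 →+* K := ZMod.castHom (dvd_refl 2) K

theorem t1_eq : E f (1 : K) 0 0 0 0 0 = x 14 1 := by
  unfold E W
  simp [x_zero]

theorem t2_eq : E f (0 : K) 1 0 0 0 0 = x 12 1 * (x 13 1 * x 18 1) := by
  unfold E W
  simp [x_zero]

theorem t1_val : ((E f (1 : K) 0 0 0 0 0 : GL chevD4.Idx K) : Matrix chevD4.Idx chevD4.Idx K) - 1
    = (Pm.map (phi (K := K))) * (Qm.map (phi (K := K))) := by
  rw [t1_eq]
  have h1 : ((x 14 (1 : K) : GL chevD4.Idx K) : Matrix chevD4.Idx chevD4.Idx K) = chevD4.x K 14 1 := rfl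
  rw [h1]
  have h2 := ChevFix.x_map chevD4 (phi (K := K)) 14 1
  rw [map_one] at h2
  rw [← h2, ← Matrix.map_mul, ← A_fact]
  ext i j
  simp [Matrix.sub_apply, Matrix.one_apply, apply_ite (phi (K := K))]

theorem t2_val : ((E f (0 : K) 1 0 0 0 0 : GL chevD4.Idx K) : Matrix chevD4.Idx chevD4.Idx K) - 1
    = (chevD4.x (ZMod 2) 12 1 * (chevD4.x (ZMod 2) 13 1 * chevD4.x (ZMod 2) 18 1) - 1).map (phi (K := K)) := by
  rw [t2_eq]
  have h1 : ∀ r, ((x r (1 : K) : GL chevD4.Idx K) : Matrix chevD4.Idx chevD4.Idx K) = chevD4.x K r 1 := fun r => rfl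
  have h2 : ∀ r, (chevD4.x (ZMod 2) r 1).map (phi (K := K)) = chevD4.x K r 1 := fun r => by
    have h2 := ChevFix.x_map chevD4 (phi (K := K)) r 1
    rwa [map_one] at h2
  have e : ((x 12 (1 : K) * (x 13 1 * x 18 1) : GL chevD4.Idx K) : Matrix chevD4.Idx chevD4.Idx K)
      = chevD4.x K 12 1 * (chevD4.x K 13 1 * chevD4.x K 18 1) := rfl
  have e2 : (chevD4.x (ZMod 2) 12 1 * (chevD4.x (ZMod 2) 13 1 * chevD4.x (ZMod 2) 18 1)).map (phi (K := K))
      = chevD4.x K 12 1 * (chevD4.x K 13 1 * chevD4.x K 18 1) := by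
    rw [Matrix.map_mul, Matrix.map_mul, h2, h2, h2]
  rw [e, ← e2]
  generalize chevD4.x (ZMod 2) 12 1 * (chevD4.x (ZMod 2) 13 1 * chevD4.x (ZMod 2) 18 1) = M
  ext i j
  simp [Matrix.sub_apply, Matrix.one_apply, apply_ite (phi (K := K))]

theorem rank_t1 : (((E f (1 : K) 0 0 0 0 0 : GL chevD4.Idx K) : Matrix chevD4.Idx chevD4.Idx K) - 1).rank ≤ 10 := by
  rw [t1_val]
  refine (Matrix.rank_mul_le_left _ _).trans ?_
  simpa using Matrix.rank_le_card_width (Pm.map (phi (K := K)))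

theorem rank_t2 : 12 ≤ (((E f (0 : K) 1 0 0 0 0 : GL chevD4.Idx K) : Matrix chevD4.Idx chevD4.Idx K) - 1).rank := by
  rw [t2_val]
  refine le_trans ?_ (Matrix.rank_submatrix_le _ rowf colf)
  have e : ((chevD4.x (ZMod 2) 12 1 * (chevD4.x (ZMod 2) 13 1 * chevD4.x (ZMod 2) 18 1) - 1).map (phi (K := K))).submatrix rowf colf
      = S0.map (phi (K := K)) := by
    rw [← B_fact]
    rfl
  rw [e]
  have hu : IsUnit (S0.map (phi (K := K))) := by
    refine IsUnit.of_mul_eq_one (S0.map (phi (K := K))) ?_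
    rw [← Matrix.map_mul, S_inv]
    ext i j
    simp [Matrix.one_apply, apply_ite (phi (K := K))]
  rw [Matrix.rank_of_isUnit _ hu]
  simp

theorem not_conj (h : GL chevD4.Idx K) : h * E f (1 : K) 0 0 0 0 0 * h⁻¹ ≠ E f (0 : K) 1 0 0 0 0 := by
  intro e
  have h1 := rank_t1 (K := K) f
  have h2 := rank_t2 (K := K) f
  rw [← e] at h2
  have e2 : ((h * E f (1 : K) 0 0 0 0 0 * h⁻¹ : GL chevD4.Idx K) : Matrix chevD4.Idx chevD4.Idx K) - 1
      = (h : Matrix chevD4.Idx chevD4.Idx K) * (((E f (1 : K) 0 0 0 0 0 : GL chevD4.Idx K) : Matrix chevD4.Idx chevD4.Idx K) - 1)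
        * ((h⁻¹ : GL chevD4.Idx K) : Matrix chevD4.Idx chevD4.Idx K) := by
    rw [mul_sub, sub_mul, mul_one, Units.val_mul, Units.val_mul]
    simp
  rw [e2] at h2
  have h3 := (Matrix.rank_mul_le_left ((h : Matrix chevD4.Idx chevD4.Idx K) * (((E f (1 : K) 0 0 0 0 0 : GL chevD4.Idx K) : Matrix chevD4.Idx chevD4.Idx K) - 1))
    ((h⁻¹ : GL chevD4.Idx K) : Matrix chevD4.Idx chevD4.Idx K))
  have h4 := Matrix.rank_mul_le_right (h : Matrix chevD4.Idx chevD4.Idx K) (((E f (1 : K) 0 0 0 0 0 : GL chevD4.Idx K) : Matrix chevD4.Idx chevD4.Idx K) - 1)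
  omega

end NonConj

section Sylow

variable {K : Type*} [Field K] [CharP K 2] [Fintype K]

theorem exists_conj_into_U {k : ℕ} (hk : k ≠ 0) (hK : Fintype.card K = (2 ^ k) ^ 3)
    (g : ↥(twistedD4 K (2 ^ k))) (hg : orderOf g = 2) :
    ∃ h : ↥(twistedD4 K (2 ^ k)), ((h * g * h⁻¹ : ↥(twistedD4 K (2 ^ k))) : GL chevD4.Idx K) ∈ chevD4.posUnipotent K := by
  classical
  have hq : IsPrimePow (2 ^ k) := Nat.prime_two.isPrimePow.pow hk
  have : Fact (Nat.Prime 2) := ⟨Nat.prime_two⟩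
  let P : Subgroup ↥(twistedD4 K (2 ^ k)) := (chevD4.posUnipotent K ⊓ twistedD4 K (2 ^ k)).subgroupOf (twistedD4 K (2 ^ k))
  have hP : Nat.card P = (2 ^ k) ^ 12 := by
    rw [Nat.card_congr (Subgroup.subgroupOfEquivOfLe inf_le_right).toEquiv]
    exact card_U1 hq hK
  have hG := card_twisted hq hK
  have hi := Subgroup.card_mul_index P
  rw [hP, hG] at hi
  have hi2 : P.index = ((2 ^ k) ^ 2 - 1) * ((2 ^ k) ^ 6 - 1) * ((2 ^ k) ^ 8 + (2 ^ k) ^ 4 + 1) := by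
    have h0 : 0 < (2 ^ k) ^ 12 := by positivity
    have : (2 ^ k) ^ 12 * P.index = (2 ^ k) ^ 12 * (((2 ^ k) ^ 2 - 1) * ((2 ^ k) ^ 6 - 1) * ((2 ^ k) ^ 8 + (2 ^ k) ^ 4 + 1)) := by
      rw [hi]
      ring
    exact Nat.eq_of_mul_eq_mul_left h0 this
  have h2 : 2 ∣ 2 ^ k := dvd_pow_self 2 hk
  have hge : 2 ≤ 2 ^ k := Nat.le_of_dvd (by positivity) h2
  have hodd : ¬ 2 ∣ P.index := by
    rw [hi2, Nat.Prime.dvd_mul Nat.prime_two, Nat.Prime.dvd_mul Nat.prime_two]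
    have hq1 : ∀ n, n ≠ 0 → ¬ 2 ∣ (2 ^ k) ^ n - 1 := by
      intro n hn hd
      have h3 : 2 ∣ (2 ^ k) ^ n := h2.trans (dvd_pow_self _ hn)
      have h4 : 1 ≤ (2 ^ k) ^ n := Nat.one_le_pow _ _ (by omega)
      omega
    rintro ((h | h) | h)
    · exact hq1 2 (by norm_num) h
    · exact hq1 6 (by norm_num) h
    · have h3 : 2 ∣ (2 ^ k) ^ 8 := h2.trans (dvd_pow_self _ (by norm_num))
      have h4 : 2 ∣ (2 ^ k) ^ 4 := h2.trans (dvd_pow_self _ (by norm_num))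
      omega
  have hp : IsPGroup 2 P := IsPGroup.of_card (n := k * 12) (by rw [hP, pow_mul])
  let S : Sylow 2 ↥(twistedD4 K (2 ^ k)) := hp.toSylow hodd
  have hz : IsPGroup 2 (Subgroup.zpowers g) := IsPGroup.of_card (n := 1) (by rw [Nat.card_zpowers, hg, pow_one])
  obtain ⟨Q, hQ⟩ := hz.exists_le_sylow
  obtain ⟨h, hh⟩ := MulAction.exists_smul_eq ↥(twistedD4 K (2 ^ k)) Q S
  refine ⟨h, ?_⟩
  have hgQ : g ∈ (Q : Subgroup _) := hQ (Subgroup.mem_zpowers g)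
  have h5 : h * g * h⁻¹ ∈ (S : Subgroup ↥(twistedD4 K (2 ^ k))) := by
    rw [← hh, Sylow.coe_subgroup_smul]
    exact Subgroup.mem_pointwise_smul_iff_inv_smul_mem.2 (by simpa [MulAut.conj_inv_apply, mul_assoc] using hgQ)
  have h6 : h * g * h⁻¹ ∈ P := h5
  exact (Subgroup.mem_subgroupOf.1 h6).1

end Sylow

section Main

variable {K : Type*} [Field K] [Fintype K] [CharP K 2]

theorem main_count (q : ℕ) (hK : Fintype.card K = q ^ 3) :
    (ConjClasses.mk '' {g : ↥(Cfsg.Lie.twistedD4 K q) | orderOf g = 2}).ncard = 2 := by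
  classical
  -- `q` is a power of two
  obtain ⟨n, hn2, hn⟩ := FiniteField.card K 2
  have hq2 : ∃ k, k ≠ 0 ∧ q = 2 ^ k := by
    have h1 : q ∣ 2 ^ (n : ℕ) := by
      rw [← hn, hK]
      exact dvd_pow_self q (by norm_num)
    obtain ⟨k, -, hk⟩ := (Nat.dvd_prime_pow Nat.prime_two).1 h1
    refine ⟨k, ?_, hk⟩
    rintro rfl
    have hq1 : q = 1 := by simpa using hk
    have : Fintype.card K = 1 := by rw [hK, hq1]; norm_num
    exact Fintype.one_lt_card.ne' this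
  obtain ⟨k, hk, rfl⟩ := hq2
  have hq : IsPrimePow (2 ^ k) := Nat.prime_two.isPrimePow.pow hk
  obtain ⟨f, hf, hf3'⟩ := exists_frob3 hq hK
  have hf3 : ∀ t, f (f (f t)) = t := hf3'
  have hG1 : (sc f).G1 = twistedD4 K (2 ^ k) := G1_eq f hf hf3'
  have hq2' : 2 ≤ 2 ^ k := Nat.le_of_dvd (by positivity) (dvd_pow_self 2 hk)
  obtain ⟨θ, hθ⟩ := exists_theta hq2' hK hf hf3
  have hone : f (1 : K) = 1 := map_one f
  have hzero : f (0 : K) = 0 := map_zero f
  have hm1 : E f (1 : K) 0 0 0 0 0 ∈ twistedD4 K (2 ^ k) := by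
    rw [← hG1]
    exact E_mem_G1 f hf3 hone hzero hzero _ _ _
  have hm2 : E f (0 : K) 1 0 0 0 0 ∈ twistedD4 K (2 ^ k) := by
    rw [← hG1]
    exact E_mem_G1 f hf3 hzero hzero hzero _ _ _
  let T1 : ↥(twistedD4 K (2 ^ k)) := ⟨_, hm1⟩
  let T2 : ↥(twistedD4 K (2 ^ k)) := ⟨_, hm2⟩
  have hne1 : E f (1 : K) 0 0 0 0 0 ≠ 1 := by
    intro h
    rw [← E_zero f] at h
    exact one_ne_zero (E_inj f h).1
  have hne2 : E f (0 : K) 1 0 0 0 0 ≠ 1 := by
    intro h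
    rw [← E_zero f] at h
    exact one_ne_zero (E_inj f h).2.1
  have hs1 : E f (1 : K) 0 0 0 0 0 * E f (1 : K) 0 0 0 0 0 = 1 := by
    rw [E_mul f hf3 hone hone, ← E_zero f]
    apply E_congr <;> simp [CharTwo.add_self_eq_zero]
  have hs2 : E f (0 : K) 1 0 0 0 0 * E f (0 : K) 1 0 0 0 0 = 1 := by
    rw [E_mul f hf3 hzero hzero, ← E_zero f]
    apply E_congr <;> simp [CharTwo.add_self_eq_zero]
  have ho1 : orderOf T1 = 2 := by
    refine orderOf_eq_prime ?_ ?_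
    · rw [pow_two]
      exact Subtype.ext hs1
    · intro h
      exact hne1 (congrArg Subtype.val h)
  have ho2 : orderOf T2 = 2 := by
    refine orderOf_eq_prime ?_ ?_
    · rw [pow_two]
      exact Subtype.ext hs2
    · intro h
      exact hne2 (congrArg Subtype.val h)
  have hset : ConjClasses.mk '' {g : ↥(twistedD4 K (2 ^ k)) | orderOf g = 2} = {ConjClasses.mk T1, ConjClasses.mk T2} := by
    ext c
    simp only [Set.mem_image, Set.mem_ofPred_eq, Set.mem_insert_iff, Set.mem_singleton_iff]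
    constructor
    · rintro ⟨g, hg, rfl⟩
      obtain ⟨h, hh⟩ := exists_conj_into_U hk hK g hg
      have hmemG : ((h * g * h⁻¹ : ↥(twistedD4 K (2 ^ k))) : GL chevD4.Idx K) ∈ (sc f).G1 := by
        rw [hG1]
        exact (h * g * h⁻¹).2
      obtain ⟨a, b, c, d, e, g', ha, he, hg', hu⟩ := exists_E hq hK hf hf3 hh hmemG
      set u : ↥(twistedD4 K (2 ^ k)) := h * g * h⁻¹ with hu_def
      have hg2 : g * g = 1 := by
        have := pow_orderOf_eq_one g
        rwa [hg, pow_two] at this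
      have hg1 : g ≠ 1 := by
        rintro rfl
        simp at hg
      have hus : u * u = 1 := by
        rw [hu_def]
        calc h * g * h⁻¹ * (h * g * h⁻¹) = h * (g * g) * h⁻¹ := by group
          _ = 1 := by rw [hg2]; group
      have hune : u ≠ 1 := by
        intro h0
        apply hg1
        rw [hu_def] at h0
        have : g = h⁻¹ * (h * g * h⁻¹) * h := by group
        rw [this, h0]
        group
      have hv : (u : GL chevD4.Idx K) = E f a b c d e g' := hu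
      have hsE : E f a b c d e g' * E f a b c d e g' = 1 := by
        rw [← hv]
        exact congrArg Subtype.val hus
      have hneE : E f a b c d e g' ≠ 1 := by
        rw [← hv]
        intro h0
        exact hune (Subtype.ext h0)
      have hmE : E f a b c d e g' ∈ (sc f).G1 := by
        rw [← hv]
        exact hmemG
      have key : ∀ T : ↥(twistedD4 K (2 ^ k)), Cj f (E f a b c d e g') (T : GL chevD4.Idx K) → ConjClasses.mk g = ConjClasses.mk T := by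
        rintro T ⟨m, hm, hmT⟩
        rw [hG1] at hm
        refine ConjClasses.mk_eq_mk_iff_isConj.2 (isConj_iff.2 ⟨⟨m, hm⟩ * h, ?_⟩)
        apply Subtype.ext
        rw [← hmT, ← hv]
        simp only [hu_def, Subgroup.coe_mul, Subgroup.coe_inv, mul_inv_rev]
        group
      rcases reduce hf3 hθ ha hmE hsE hneE with h1 | h1
      · exact Or.inl (key T1 h1)
      · exact Or.inr (key T2 h1)
    · rintro (rfl | rfl)
      · exact ⟨T1, ho1, rfl⟩
      · exact ⟨T2, ho2, rfl⟩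
  rw [hset, Set.ncard_pair]
  intro h
  obtain ⟨c, hc⟩ := isConj_iff.1 (ConjClasses.mk_eq_mk_iff_isConj.1 h)
  exact not_conj f (c : GL chevD4.Idx K) (congrArg Subtype.val hc)

end Main

end Cfsg.Agent.Lib.D4Inv50
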