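import Mathlib
import Cfsg.Prelude.Def_LieTwisted

/-!
# The natural eight-dimensional module of `D₄` in characteristic two: root elements and the
map from the Lie algebra to alternating forms
-/

set_option autoImplicit false

namespace Cfsg.Agent.Lib.D4V27

open Cfsg.Lie Matrix

/-- The two nonzero positions of the natural nilpotent of a root. -/
def posE : ℕ → (ℕ × ℕ) × (ℕ × ℕ)
  | 0 => ((4, 1), (5, 0)) | 1 => ((4, 2), (6, 0)) | 2 => ((3, 0), (4, 7)) | 3 => ((4, 3), (7, 0))
  | 4 => ((2, 0), (4, 6)) | 5 => ((1, 0), (4, 5)) | 6 => ((5, 2), (6, 1)) | 7 => ((3, 1), (5, 7))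
  | 8 => ((5, 3), (7, 1)) | 9 => ((2, 1), (5, 6)) | 10 => ((3, 2), (6, 7)) | 11 => ((6, 3), (7, 2))
  | 12 => ((2, 7), (3, 6)) | 13 => ((2, 3), (7, 6)) | 14 => ((1, 2), (6, 5)) | 15 => ((1, 7), (3, 5))
  | 16 => ((1, 3), (7, 5)) | 17 => ((1, 6), (2, 5)) | 18 => ((0, 1), (5, 4)) | 19 => ((0, 2), (6, 4))
  | 20 => ((0, 7), (3, 4)) | 21 => ((0, 3), (7, 4)) | 22 => ((0, 6), (2, 4)) | 23 => ((0, 5), (1, 4))
  | _ => ((0, 0), (0, 0))

/-- Is `(i, j)` a position of the natural nilpotent of `r`? -/
def inE (r i j : ℕ) : Bool :=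
  (((posE r).1.1 == i) && ((posE r).1.2 == j)) || (((posE r).2.1 == i) && ((posE r).2.2 == j))

/-- The natural nilpotent of a root, over any ring. -/
def eN (K : Type*) [Zero K] [One K] (r : ℕ) : Matrix (Fin 8) (Fin 8) K :=
  fun i j => if inE r i.val j.val then 1 else 0

/-- Codes of the images of the basis vectors of the Lie algebra. -/
def tauCode : Nat → Nat
  | 0 => 2203318231056 | 1 => 1128098934300672 | 2 => 577586654361944064 | 3 => 577586654361944064
  | 4 => 17729624997888 | 5 => 4503874505277440 | 6 => 34628173824 | 7 => 1152922054362660864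
  | 8 => 17180917760 | 9 => 8589938688 | 10 => 9077567998918656 | 11 => 8796629893120
  | 12 => 2305983746702049280 | 13 => 4398048608256 | 14 => 2251800887427072 | 15 => 4647714815446351872
  | 16 => 67633152 | 17 => 288230376160100352 | 18 => 562949953437696 | 19 => 33556480
  | 20 => 144115188075888640 | 21 => 132096 | 22 => 1099511627808 | 23 => 281474976710720
  | 24 => 16777224 | 25 => 72057594037928064 | 26 => 65540 | 27 => 258
  | _ => 0

/-- The number of a coordinate of the Lie algebra. -/
def idxN : chevD4.Idx → ℕ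
  | Sum.inl i => i.val
  | Sum.inr s => 4 + s.val

/-- The image of a basis vector of the Lie algebra, over any ring. -/
def T₀ (K : Type*) [Zero K] [One K] (c : chevD4.Idx) : Matrix (Fin 8) (Fin 8) K :=
  fun i j => if (tauCode (idxN c)).testBit (8 * i.val + j.val) then 1 else 0

/-- the coefficient of `t` in `x_r(t)`. -/
def d1 (r : ℕ) (row col : chevD4.Idx) : ℤ :=
  match col with
  | Sum.inl i =>
    (match row with
     | Sum.inl _ => 0
     | Sum.inr u => if u.val = r then - ((chevD4.cartanSR.getD i.val #[]).getD r 0) else 0)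
  | Sum.inr s =>
    if s.val = r then 0
    else if s.val = chevD4.negIdx.getD r 0 then
      (match row with
       | Sum.inl i => (chevD4.coroot.getD r #[]).getD i.val 0
       | Sum.inr _ => 0)
    else
      (match row with
       | Sum.inl _ => 0
       | Sum.inr u => ((chevD4.chainCoeff r s.val u.val).map fun km => km.2).sum)

/-- the coefficient of `t²` in `x_r(t)`. -/
def d2 (r : ℕ) (row col : chevD4.Idx) : ℤ :=
  match col, row with
  | Sum.inr s, Sum.inr u => if s.val = chevD4.negIdx.getD r 0 ∧ u.val = r then -1 else 0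
  | _, _ => 0

set_option maxRecDepth 100000 in
theorem chain_one : ∀ r s u : Fin 24, ∀ km ∈ chevD4.chainCoeff r.val s.val u.val, km.1 = 1 := by
  decide +kernel

end Cfsg.Agent.Lib.D4V27
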