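import Cfsg.Agent.Lib.D4V27F

/-!
# The test of all the families of `³D₄(2)`
-/

set_option autoImplicit false

namespace Cfsg.Agent.Lib.D4V27

theorem fam_0_0 : famOK (fam 0 0) = true := by decide +kernel
theorem fam_0_1 : famOK (fam 0 1) = true := by decide +kernel
theorem fam_0_2 : famOK (fam 0 2) = true := by decide +kernel
theorem fam_0_3 : famOK (fam 0 3) = true := by decide +kernel
theorem fam_0_4 : famOK (fam 0 4) = true := by decide +kernel
theorem fam_0_5 : famOK (fam 0 5) = true := by decide +kernel
theorem fam_0_6 : famOK (fam 0 6) = true := by decide +kernel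
theorem fam_0_7 : famOK (fam 0 7) = true := by decide +kernel
theorem fam_0_8 : famOK (fam 0 8) = true := by decide +kernel
theorem fam_0_9 : famOK (fam 0 9) = true := by decide +kernel
theorem fam_0_10 : famOK (fam 0 10) = true := by decide +kernel
theorem fam_0_11 : famOK (fam 0 11) = true := by decide +kernel
theorem fam_1_0 : famOK (fam 1 0) = true := by decide +kernel
theorem fam_1_1 : famOK (fam 1 1) = true := by decide +kernel
theorem fam_1_2 : famOK (fam 1 2) = true := by decide +kernel
theorem fam_1_3 : famOK (fam 1 3) = true := by decide +kernel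
theorem fam_1_4 : famOK (fam 1 4) = true := by decide +kernel
theorem fam_1_5 : famOK (fam 1 5) = true := by decide +kernel
theorem fam_1_6 : famOK (fam 1 6) = true := by decide +kernel
theorem fam_1_7 : famOK (fam 1 7) = true := by decide +kernel
theorem fam_1_8 : famOK (fam 1 8) = true := by decide +kernel
theorem fam_1_9 : famOK (fam 1 9) = true := by decide +kernel
theorem fam_1_10 : famOK (fam 1 10) = true := by decide +kernel
theorem fam_1_11 : famOK (fam 1 11) = true := by decide +kernel
theorem fam_2_0 : famOK (fam 2 0) = true := by decide +kernel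
theorem fam_2_1 : famOK (fam 2 1) = true := by decide +kernel
theorem fam_2_2 : famOK (fam 2 2) = true := by decide +kernel
theorem fam_2_3 : famOK (fam 2 3) = true := by decide +kernel
theorem fam_2_4 : famOK (fam 2 4) = true := by decide +kernel
theorem fam_2_5 : famOK (fam 2 5) = true := by decide +kernel
theorem fam_2_6 : famOK (fam 2 6) = true := by decide +kernel
theorem fam_2_7 : famOK (fam 2 7) = true := by decide +kernel
theorem fam_2_8 : famOK (fam 2 8) = true := by decide +kernel
theorem fam_2_9 : famOK (fam 2 9) = true := by decide +kernel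
theorem fam_2_10 : famOK (fam 2 10) = true := by decide +kernel
theorem fam_2_11 : famOK (fam 2 11) = true := by decide +kernel
theorem fam_3_0 : famOK (fam 3 0) = true := by decide +kernel
theorem fam_3_1 : famOK (fam 3 1) = true := by decide +kernel
theorem fam_3_2 : famOK (fam 3 2) = true := by decide +kernel
theorem fam_3_3 : famOK (fam 3 3) = true := by decide +kernel
theorem fam_3_4 : famOK (fam 3 4) = true := by decide +kernel
theorem fam_3_5 : famOK (fam 3 5) = true := by decide +kernel
theorem fam_3_6 : famOK (fam 3 6) = true := by decide +kernel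
theorem fam_3_7 : famOK (fam 3 7) = true := by decide +kernel
theorem fam_3_8 : famOK (fam 3 8) = true := by decide +kernel
theorem fam_3_9 : famOK (fam 3 9) = true := by decide +kernel
theorem fam_3_10 : famOK (fam 3 10) = true := by decide +kernel
theorem fam_3_11 : famOK (fam 3 11) = true := by decide +kernel
theorem fam_4_0 : famOK (fam 4 0) = true := by decide +kernel
theorem fam_4_1 : famOK (fam 4 1) = true := by decide +kernel
theorem fam_4_2 : famOK (fam 4 2) = true := by decide +kernel
theorem fam_4_3 : famOK (fam 4 3) = true := by decide +kernel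
theorem fam_4_4 : famOK (fam 4 4) = true := by decide +kernel
theorem fam_4_5 : famOK (fam 4 5) = true := by decide +kernel
theorem fam_4_6 : famOK (fam 4 6) = true := by decide +kernel
theorem fam_4_7 : famOK (fam 4 7) = true := by decide +kernel
theorem fam_4_8 : famOK (fam 4 8) = true := by decide +kernel
theorem fam_4_9 : famOK (fam 4 9) = true := by decide +kernel
theorem fam_4_10 : famOK (fam 4 10) = true := by decide +kernel
theorem fam_4_11 : famOK (fam 4 11) = true := by decide +kernel
theorem fam_5_0 : famOK (fam 5 0) = true := by decide +kernel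
theorem fam_5_1 : famOK (fam 5 1) = true := by decide +kernel
theorem fam_5_2 : famOK (fam 5 2) = true := by decide +kernel
theorem fam_5_3 : famOK (fam 5 3) = true := by decide +kernel
theorem fam_5_4 : famOK (fam 5 4) = true := by decide +kernel
theorem fam_5_5 : famOK (fam 5 5) = true := by decide +kernel
theorem fam_5_6 : famOK (fam 5 6) = true := by decide +kernel
theorem fam_5_7 : famOK (fam 5 7) = true := by decide +kernel
theorem fam_5_8 : famOK (fam 5 8) = true := by decide +kernel
theorem fam_5_9 : famOK (fam 5 9) = true := by decide +kernel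
theorem fam_5_10 : famOK (fam 5 10) = true := by decide +kernel
theorem fam_5_11 : famOK (fam 5 11) = true := by decide +kernel
theorem fam_6_0 : famOK (fam 6 0) = true := by decide +kernel
theorem fam_6_1 : famOK (fam 6 1) = true := by decide +kernel
theorem fam_6_2 : famOK (fam 6 2) = true := by decide +kernel
theorem fam_6_3 : famOK (fam 6 3) = true := by decide +kernel
theorem fam_6_4 : famOK (fam 6 4) = true := by decide +kernel
theorem fam_6_5 : famOK (fam 6 5) = true := by decide +kernel
theorem fam_6_6 : famOK (fam 6 6) = true := by decide +kernel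
theorem fam_6_7 : famOK (fam 6 7) = true := by decide +kernel
theorem fam_6_8 : famOK (fam 6 8) = true := by decide +kernel
theorem fam_6_9 : famOK (fam 6 9) = true := by decide +kernel
theorem fam_6_10 : famOK (fam 6 10) = true := by decide +kernel
theorem fam_6_11 : famOK (fam 6 11) = true := by decide +kernel

theorem fam_all {i j : ℕ} (hi : i < 7) (hj : j < 12) : famOK (fam i j) = true := by
  interval_cases i <;> interval_cases j
  · exact fam_0_0
  · exact fam_0_1
  · exact fam_0_2
  · exact fam_0_3
  · exact fam_0_4
  · exact fam_0_5
  · exact fam_0_6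
  · exact fam_0_7
  · exact fam_0_8
  · exact fam_0_9
  · exact fam_0_10
  · exact fam_0_11
  · exact fam_1_0
  · exact fam_1_1
  · exact fam_1_2
  · exact fam_1_3
  · exact fam_1_4
  · exact fam_1_5
  · exact fam_1_6
  · exact fam_1_7
  · exact fam_1_8
  · exact fam_1_9
  · exact fam_1_10
  · exact fam_1_11
  · exact fam_2_0
  · exact fam_2_1
  · exact fam_2_2
  · exact fam_2_3
  · exact fam_2_4
  · exact fam_2_5
  · exact fam_2_6
  · exact fam_2_7
  · exact fam_2_8
  · exact fam_2_9
  · exact fam_2_10
  · exact fam_2_11
  · exact fam_3_0
  · exact fam_3_1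
  · exact fam_3_2
  · exact fam_3_3
  · exact fam_3_4
  · exact fam_3_5
  · exact fam_3_6
  · exact fam_3_7
  · exact fam_3_8
  · exact fam_3_9
  · exact fam_3_10
  · exact fam_3_11
  · exact fam_4_0
  · exact fam_4_1
  · exact fam_4_2
  · exact fam_4_3
  · exact fam_4_4
  · exact fam_4_5
  · exact fam_4_6
  · exact fam_4_7
  · exact fam_4_8
  · exact fam_4_9
  · exact fam_4_10
  · exact fam_4_11
  · exact fam_5_0
  · exact fam_5_1
  · exact fam_5_2
  · exact fam_5_3
  · exact fam_5_4
  · exact fam_5_5
  · exact fam_5_6
  · exact fam_5_7
  · exact fam_5_8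
  · exact fam_5_9
  · exact fam_5_10
  · exact fam_5_11
  · exact fam_6_0
  · exact fam_6_1
  · exact fam_6_2
  · exact fam_6_3
  · exact fam_6_4
  · exact fam_6_5
  · exact fam_6_6
  · exact fam_6_7
  · exact fam_6_8
  · exact fam_6_9
  · exact fam_6_10
  · exact fam_6_11

end Cfsg.Agent.Lib.D4V27
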