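import Mathlib

/-!
# Counting with double cosets

If a group is the union of the double cosets `H * W k * H`, the index of `H` is bounded by the sum of the
indices in `H` of subgroups `A k` with `W k * A k * (W k)⁻¹ ≤ H`.  If the bound is attained, the image of a normal
subgroup meeting `H` trivially is a union of the pieces.
-/

set_option autoImplicit false
set_option linter.unusedSectionVars false

namespace Cfsg.Agent.Lib.DCount

variable {G : Type*} [Group G] {H : Subgroup G} {n : ℕ} {W : Fin n → G} {A : Fin n → Subgroup G}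

/-- Closure under right multiplication by `H` and `Z` gives everything. -/
theorem cover_of_step {Z : G} (hgen : Subgroup.closure ((H : Set G) ∪ {Z}) = ⊤) (hZ : Z * Z ∈ H) {k0 : Fin n}
    (hk0 : W k0 = 1)
    (hstep : ∀ k, ∀ h ∈ H, ∃ k', ∃ η ∈ H, ∃ h' ∈ H, W k * h * Z = η * W k' * h') :
    ∀ g : G, ∃ k, ∃ η ∈ H, ∃ h ∈ H, g = η * W k * h := by
  have key : ∀ g ∈ Subgroup.closure ((H : Set G) ∪ {Z}), ∃ k, ∃ η ∈ H, ∃ h ∈ H, g = η * W k * h := by
    intro g hg
    have hright : ∀ g x : G, (∃ k, ∃ η ∈ H, ∃ h ∈ H, g = η * W k * h) → x ∈ H →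
        ∃ k, ∃ η ∈ H, ∃ h ∈ H, g * x = η * W k * h := by
      rintro g x ⟨k, η, hη, h, hh, rfl⟩ hx
      exact ⟨k, η, hη, h * x, H.mul_mem hh hx, by group⟩
    have hz : ∀ g : G, (∃ k, ∃ η ∈ H, ∃ h ∈ H, g = η * W k * h) →
        ∃ k, ∃ η ∈ H, ∃ h ∈ H, g * Z = η * W k * h := by
      rintro g ⟨k, η, hη, h, hh, rfl⟩
      obtain ⟨k', η', hη', h', hh', e⟩ := hstep k h hh
      refine ⟨k', η * η', H.mul_mem hη hη', h', hh', ?_⟩
      calc η * W k * h * Z = η * (W k * h * Z) := by group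
        _ = _ := by rw [e]; group
    induction hg using Subgroup.closure_induction_right with
    | one => exact ⟨k0, 1, H.one_mem, 1, H.one_mem, by rw [hk0]; group⟩
    | mul_right x y _ hy ih =>
      rcases hy with hy | hy
      · exact hright _ _ ih hy
      · rw [Set.mem_singleton_iff.mp hy]
        exact hz _ ih
    | mul_inv_cancel x y _ hy ih =>
      rcases hy with hy | hy
      · exact hright _ _ ih (H.inv_mem hy)
      · rw [Set.mem_singleton_iff.mp hy]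
        have e : x * Z⁻¹ = x * Z * (Z * Z)⁻¹ := by group
        rw [e]
        exact hright _ _ (hz _ ih) (H.inv_mem hZ)
  intro g
  exact key g (by rw [hgen]; trivial)

/-- The maps of the pieces to the cosets. -/
noncomputable def Phi (hc : ∀ k, ∀ y ∈ A k, W k * y * (W k)⁻¹ ∈ H) (k : Fin n) :
    (H ⧸ (A k).subgroupOf H) → G ⧸ H :=
  Quotient.lift (s := QuotientGroup.leftRel ((A k).subgroupOf H)) (fun h : H => (((h : G) * (W k)⁻¹ : G) : G ⧸ H)) (by
    intro a b hab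
    have h2 : a⁻¹ * b ∈ (A k).subgroupOf H := QuotientGroup.leftRel_apply.mp hab
    have h3 : ((a⁻¹ * b : H) : G) ∈ A k := Subgroup.mem_subgroupOf.mp h2
    apply QuotientGroup.eq.mpr
    have h4 := hc k _ h3
    have e : ((a : G) * (W k)⁻¹)⁻¹ * ((b : G) * (W k)⁻¹) = W k * ((a⁻¹ * b : H) : G) * (W k)⁻¹ := by
      push_cast
      group
    rw [e]
    exact h4)

theorem Phi_mk (hc : ∀ k, ∀ y ∈ A k, W k * y * (W k)⁻¹ ∈ H) (k : Fin n) (h : H) :
    Phi hc k (h : H ⧸ (A k).subgroupOf H) = (((h : G) * (W k)⁻¹ : G) : G ⧸ H) := rfl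

/-- The map on the disjoint union. -/
noncomputable def PhiS (hc : ∀ k, ∀ y ∈ A k, W k * y * (W k)⁻¹ ∈ H) :
    (Σ k, H ⧸ (A k).subgroupOf H) → G ⧸ H := fun x => Phi hc x.1 x.2

theorem PhiS_surj (hc : ∀ k, ∀ y ∈ A k, W k * y * (W k)⁻¹ ∈ H)
    (hcov : ∀ g : G, ∃ k, ∃ η ∈ H, ∃ h ∈ H, g = η * W k * h) : Function.Surjective (PhiS hc) := by
  intro q
  obtain ⟨g, rfl⟩ := QuotientGroup.mk_surjective q
  obtain ⟨k, η, hη, h, hh, e⟩ := hcov g⁻¹
  refine ⟨⟨k, ((⟨h⁻¹, H.inv_mem hh⟩ : H) : H ⧸ (A k).subgroupOf H)⟩, ?_⟩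
  show (((h⁻¹ : G) * (W k)⁻¹ : G) : G ⧸ H) = (g : G ⧸ H)
  apply QuotientGroup.eq.mpr
  have e2 : g = h⁻¹ * (W k)⁻¹ * η⁻¹ := by
    have : g = (g⁻¹)⁻¹ := by group
    rw [this, e]
    group
  have e3 : (h⁻¹ * (W k)⁻¹)⁻¹ * g = η⁻¹ := by
    rw [e2]
    group
  rw [e3]
  exact H.inv_mem hη

theorem index_le_sum [Finite H] (hc : ∀ k, ∀ y ∈ A k, W k * y * (W k)⁻¹ ∈ H)
    (hcov : ∀ g : G, ∃ k, ∃ η ∈ H, ∃ h ∈ H, g = η * W k * h) :
    Finite (G ⧸ H) ∧ H.index ≤ ∑ k, (A k).relIndex H := by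
  have hs := PhiS_surj hc hcov
  refine ⟨Finite.of_surjective _ hs, ?_⟩
  have := Nat.card_le_card_of_surjective _ hs
  rw [Nat.card_sigma] at this
  exact this

/-- The orders of the subgroup and of the pieces. -/
theorem relIndex_le_of_card [Finite H] {B : Subgroup G} (hB : B ≤ H) {N m b : ℕ} (hH : Nat.card H = N)
    (hm : 0 < m) (hmb : m * b = N) (hcard : m ≤ Nat.card B) : B.relIndex H ≤ b := by
  have h1 : Nat.card (B.subgroupOf H) * (B.subgroupOf H).index = Nat.card H :=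
    Subgroup.card_mul_index _
  have h2 : Nat.card (B.subgroupOf H) = Nat.card B :=
    Nat.card_congr (Subgroup.subgroupOfEquivOfLe hB).toEquiv
  rw [h2, hH, ← hmb] at h1
  have h3 : m * B.relIndex H ≤ m * b := by
    calc m * B.relIndex H ≤ Nat.card B * B.relIndex H := Nat.mul_le_mul_right _ hcard
      _ = m * b := h1
  exact Nat.le_of_mul_le_mul_left h3 hm

section normal

variable (hc : ∀ k, ∀ y ∈ A k, W k * y * (W k)⁻¹ ∈ H)

include hc in
theorem mem_image_iff {N : Subgroup G} [N.Normal] (k : Fin n) (h : H) :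
    Phi hc k (h : H ⧸ (A k).subgroupOf H) ∈ (fun x : N => ((x : G) : G ⧸ H)) '' Set.univ ↔
      (((W k)⁻¹ : G) : G ⧸ H) ∈ (fun x : N => ((x : G) : G ⧸ H)) '' Set.univ := by
  have key : ∀ (a b : G), a ∈ H → ((b : G) : G ⧸ H) ∈ (fun x : N => ((x : G) : G ⧸ H)) '' Set.univ →
      ((a * b : G) : G ⧸ H) ∈ (fun x : N => ((x : G) : G ⧸ H)) '' Set.univ := by
    rintro a b ha ⟨x, -, hx⟩
    refine ⟨⟨a * x * a⁻¹, Subgroup.Normal.conj_mem inferInstance _ x.2 a⟩, trivial, ?_⟩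
    have hx' : (x : G)⁻¹ * b ∈ H := QuotientGroup.eq.mp hx
    apply QuotientGroup.eq.mpr
    have e : (a * (x : G) * a⁻¹)⁻¹ * (a * b) = a * ((x : G)⁻¹ * b) := by group
    show (a * (x : G) * a⁻¹)⁻¹ * (a * b) ∈ H
    rw [e]
    exact H.mul_mem ha hx'
  rw [Phi_mk]
  constructor
  · intro h1
    have := key _ _ (H.inv_mem h.2) h1
    have e : ((h : G)⁻¹ * ((h : G) * (W k)⁻¹)) = (W k)⁻¹ := by group
    rwa [e] at this
  · intro h1
    exact key _ _ h.2 h1

/-- The image of a normal subgroup meeting `H` trivially is a union of pieces: its order is a sum of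
indices, if the map on the union of the pieces is bijective. -/
theorem card_normal_eq [Finite H] [Finite (G ⧸ H)] (hbij : Function.Bijective (PhiS hc)) (N : Subgroup G) [N.Normal]
    (hN : N ⊓ H = ⊥) :
    ∃ I : Finset (Fin n), (∀ k, k ∈ I ↔ (((W k)⁻¹ : G) : G ⧸ H) ∈ (fun x : N => ((x : G) : G ⧸ H)) '' Set.univ) ∧
      Nat.card N = ∑ k ∈ I, (A k).relIndex H := by
  classical
  set f : N → G ⧸ H := fun x => ((x : G) : G ⧸ H) with hf
  have hfinj : Function.Injective f := by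
    intro a b hab
    have h1 : (a : G)⁻¹ * b ∈ H := QuotientGroup.eq.mp hab
    have h2 : (a : G)⁻¹ * b ∈ N := N.mul_mem (N.inv_mem a.2) b.2
    have h3 : (a : G)⁻¹ * b ∈ N ⊓ H := ⟨h2, h1⟩
    rw [hN] at h3
    have h4 : (a : G)⁻¹ * b = 1 := Subgroup.mem_bot.mp h3
    exact Subtype.ext (inv_mul_eq_one.mp h4)
  let I : Finset (Fin n) := Finset.univ.filter fun k => (((W k)⁻¹ : G) : G ⧸ H) ∈ f '' Set.univ
  refine ⟨I, fun k => by simp [I, hf], ?_⟩
  -- the points of the image correspond to the pieces in `I`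
  have hmem : ∀ x : (Σ k, H ⧸ (A k).subgroupOf H), PhiS hc x ∈ Set.range f ↔ x.1 ∈ I := by
    rintro ⟨k, q⟩
    obtain ⟨h, rfl⟩ := QuotientGroup.mk_surjective q
    have h1 := mem_image_iff hc (N := N) k h
    simp only [I, Finset.mem_filter, Finset.mem_univ, true_and, Set.image_univ] at h1 ⊢
    exact h1
  have e1 : Nat.card N = Nat.card (Set.range f) := Nat.card_congr (Equiv.ofInjective f hfinj)
  let e2 : {x : (Σ k, H ⧸ (A k).subgroupOf H) // x.1 ∈ I} ≃ Set.range f :=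
    Equiv.ofBijective (fun x => ⟨PhiS hc x.1, (hmem x.1).mpr x.2⟩) (by
      constructor
      · intro a b hab
        have := hbij.1 (congrArg Subtype.val hab)
        exact Subtype.ext this
      · rintro ⟨y, hy⟩
        obtain ⟨x, rfl⟩ := hbij.2 y
        exact ⟨⟨x, (hmem x).mp hy⟩, rfl⟩)
  rw [e1, ← Nat.card_congr e2, Nat.card_congr (Equiv.subtypeSigmaEquiv (fun k => H ⧸ (A k).subgroupOf H) (· ∈ I)),
    Nat.card_sigma]
  exact Finset.sum_coe_sort I (fun k => Nat.card (H ⧸ (A k).subgroupOf H))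

include hc in
/-- Five primes dividing the order of a normal subgroup meeting `H` trivially, with at most four pieces other
than the trivial one: impossible. -/
theorem pigeonhole [Finite G] (hcov : ∀ g : G, ∃ k, ∃ η ∈ H, ∃ h ∈ H, g = η * W k * h) {k0 : Fin n}
    (hk0 : W k0 = 1) (hn : n = 5) (N : Subgroup G) [N.Normal] (hN : N ⊓ H = ⊥) (p : Fin 5 → ℕ) (hp : ∀ i, (p i).Prime)
    (hinj : Function.Injective p) (hd : ∀ i, p i ∣ Nat.card N) : False := by
  classical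
  have hs := PhiS_surj hc hcov
  have h1 : ∀ i, ∃ x : G, x ∈ N ∧ orderOf x = p i := by
    intro i
    haveI : Fact (p i).Prime := ⟨hp i⟩
    obtain ⟨x, hx⟩ := exists_prime_orderOf_dvd_card' (p i) (hd i)
    exact ⟨x, x.2, by rw [← Subgroup.orderOf_coe] at hx; exact hx⟩
  choose x hxN hxo using h1
  have h2 : ∀ i, ∃ k, ∃ h ∈ H, ((x i : G) : G ⧸ H) = (((h : G) * (W k)⁻¹ : G) : G ⧸ H) := by
    intro i
    obtain ⟨⟨k, q⟩, hq⟩ := hs ((x i : G) : G ⧸ H)
    obtain ⟨h, rfl⟩ := QuotientGroup.mk_surjective q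
    exact ⟨k, h, h.2, hq.symm⟩
  choose k hk hH he using h2
  have hne : ∀ i, k i ≠ k0 := by
    intro i h0
    have h3 := he i
    rw [h0, hk0] at h3
    simp only [inv_one, mul_one] at h3
    have h4 : (x i)⁻¹ * hk i ∈ H := QuotientGroup.eq.mp h3
    have h5 : x i ∈ H := by
      have e : x i = hk i * ((x i)⁻¹ * hk i)⁻¹ := by group
      rw [e]
      exact H.mul_mem (hH i) (H.inv_mem h4)
    have h6 : x i ∈ N ⊓ H := ⟨hxN i, h5⟩
    rw [hN] at h6
    have h7 : x i = 1 := Subgroup.mem_bot.mp h6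
    have h8 := hxo i
    rw [h7, orderOf_one] at h8
    exact (hp i).one_lt.ne h8
  let F : Fin 5 → {j : Fin n // j ≠ k0} := fun i => ⟨k i, hne i⟩
  have hcard : Fintype.card {j : Fin n // j ≠ k0} < Fintype.card (Fin 5) := by
    subst hn
    rw [Fintype.card_subtype_compl, Fintype.card_fin, Fintype.card_unique]
    · norm_num
  obtain ⟨i, j, hij, hF⟩ := Fintype.exists_ne_map_eq_of_card_lt F hcard
  have hkk : k i = k j := congrArg Subtype.val hF
  have h3 := he i
  have h4 := he j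
  rw [← hkk] at h4
  -- the conjugate
  set a : G := hk j * (hk i)⁻¹ with ha
  have haH : a ∈ H := H.mul_mem (hH j) (H.inv_mem (hH i))
  have h5 : (x j)⁻¹ * (a * x i * a⁻¹) ∈ H := by
    have h6 : (x i)⁻¹ * (hk i * (W (k i))⁻¹) ∈ H := QuotientGroup.eq.mp h3
    have h7 : ((x j)⁻¹ * (hk j * (W (k i))⁻¹)) ∈ H := QuotientGroup.eq.mp h4
    have e : (x j)⁻¹ * (a * x i * a⁻¹) =
        ((x j)⁻¹ * (hk j * (W (k i))⁻¹)) * ((x i)⁻¹ * (hk i * (W (k i))⁻¹))⁻¹ * a⁻¹ := by
      rw [ha]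
      group
    rw [e]
    exact H.mul_mem (H.mul_mem h7 (H.inv_mem h6)) (H.inv_mem haH)
  have h6 : (x j)⁻¹ * (a * x i * a⁻¹) ∈ N :=
    N.mul_mem (N.inv_mem (hxN j)) (Subgroup.Normal.conj_mem inferInstance _ (hxN i) a)
  have h7 : (x j)⁻¹ * (a * x i * a⁻¹) ∈ N ⊓ H := ⟨h6, h5⟩
  rw [hN] at h7
  have h8 : (x j)⁻¹ * (a * x i * a⁻¹) = 1 := Subgroup.mem_bot.mp h7
  have h9 : a * x i * a⁻¹ = x j := (inv_mul_eq_one.mp h8).symm
  have h10 : orderOf (x j) = orderOf (x i) := by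
    rw [← h9]
    exact orderOf_eq_orderOf_iff.mpr (by
      intro m
      constructor
      · intro h
        have : a * x i ^ m * a⁻¹ = 1 := by
          rw [← conj_pow]; exact h
        have h11 : x i ^ m = a⁻¹ * (a * x i ^ m * a⁻¹) * a := by group
        rw [h11, this]
        group
      · intro h
        rw [conj_pow, h]
        group)
  rw [hxo, hxo] at h10
  exact hij (hinj h10.symm)

end normal

end Cfsg.Agent.Lib.DCount
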