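import Cfsg.Agent.Lib.DefectZeroUnique50
import Cfsg.Agent.Lib.LamRep50

/-!
# The Gelfand–Graev argument: characters vanishing on `p`-singular elements

A variant of `DefectZeroUnique50`, with the Weyl group hypothesis replaced by a hypothesis on
the spherical function.
-/

set_option autoImplicit false
set_option linter.unusedSectionVars false
set_option linter.unusedVariables false
set_option linter.style.haveILetI false

namespace Cfsg.Agent.Lib.DZGG50

open Cfsg Cfsg.Agent.Lib.CharBasic Cfsg.Agent.Lib.CharInd Cfsg.Agent.Lib.CharInduction Cfsg.Agent.Lib.Clifford Cfsg.Agent.Lib.GlaubDual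
open Cfsg.Agent.Lib.DefectZeroUnique50 (sum_A_C)
open Cfsg.Agent.Lib.LamRep50
open scoped ComplexConjugate Classical

universe u

section Main

variable {G : Type u} [Group G] [Fintype G] {p : ℕ} [hp : Fact p.Prime]
  {B U T : Subgroup G} [Fintype B] [Fintype U] [Fintype T] {π : B →* T} {ψ : U →* ℂˣ}

/-- The structure used in the Gelfand–Graev argument. -/
structure BorelD (G : Type u) [Group G] [Fintype G] (p : ℕ) (B U T : Subgroup G) [Fintype U]
    (π : B →* T) (ψ : U →* ℂˣ) : Prop where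
  hUB : U ≤ B
  hTB : T ≤ B
  hπT : ∀ t : T, π ⟨t, hTB t.2⟩ = t
  hπU : ∀ b : B, π b = 1 ↔ (b : G) ∈ U
  hTc : ∀ a b : T, a * b = b * a
  hUp : IsPGroup p U
  hTp : ∀ (t : T) (k : ℕ), t ^ p ^ k = 1 → t = 1
  hbig : ∃ N : ℕ, N ≤ Nat.card U * Nat.card B ∧
    ∑ x : G, ∑ u : U, (if x⁻¹ * (u : G) * x ∈ B then conj ((ψ u : ℂˣ) : ℂ) else 0) = (N : ℂ)

namespace BorelD

variable (D : BorelD G p B U T π ψ)
include D

lemma surj : Function.Surjective π := fun t => ⟨_, D.hπT t⟩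

lemma mem_U_of_pi (b : B) : ((π b : T) : G)⁻¹ * b ∈ U := by
  rw [← D.hπU ⟨((π b : T) : G)⁻¹ * b, B.mul_mem (B.inv_mem (D.hTB (π b).2)) b.2⟩]
  have e : (⟨((π b : T) : G)⁻¹ * b, B.mul_mem (B.inv_mem (D.hTB (π b).2)) b.2⟩ : B) =
      (⟨(π b : T), D.hTB (π b).2⟩ : B)⁻¹ * b := rfl
  rw [e, map_mul, map_inv, D.hπT, inv_mul_cancel]

lemma pi_mul (t : T) (u : U) :
    π ⟨(t : G) * u, B.mul_mem (D.hTB t.2) (D.hUB u.2)⟩ = t := by
  have e : (⟨(t : G) * u, B.mul_mem (D.hTB t.2) (D.hUB u.2)⟩ : B) =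
      (⟨t, D.hTB t.2⟩ : B) * ⟨u, D.hUB u.2⟩ := rfl
  rw [e, map_mul, D.hπT, (D.hπU ⟨u, D.hUB u.2⟩).mpr u.2, mul_one]

/-- `B = T U`. -/
noncomputable def eqv : T × U ≃ B where
  toFun x := ⟨(x.1 : G) * x.2, B.mul_mem (D.hTB x.1.2) (D.hUB x.2.2)⟩
  invFun b := (π b, ⟨((π b : T) : G)⁻¹ * b, D.mem_U_of_pi b⟩)
  left_inv := by
    rintro ⟨t, u⟩
    have h := D.pi_mul t u
    ext1
    · exact h
    · apply Subtype.ext
      simp only [h]
      group
  right_inv := by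
    intro b
    apply Subtype.ext
    simp

lemma sum_B (f : B → ℂ) :
    ∑ b : B, f b = ∑ t : T, ∑ u : U,
      f ⟨(t : G) * u, B.mul_mem (D.hTB t.2) (D.hUB u.2)⟩ := by
  rw [← Fintype.sum_prod_type' (f := fun (t : T) (u : U) =>
    f ⟨(t : G) * u, B.mul_mem (D.hTB t.2) (D.hUB u.2)⟩)]
  exact (Fintype.sum_equiv D.eqv _ _ (fun x => rfl)).symm

lemma card_B : Nat.card B = Nat.card T * Nat.card U := by
  rw [← Nat.card_prod]
  exact (Nat.card_congr D.eqv).symm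

/-- The multiplicity of `θ` in `χ` restricted to `B`. -/
noncomputable def A (π : B →* T) (θ : IrrCharacter T) (χ : IrrCharacter G) : ℂ :=
  classInner (fun b : B => (θ : T → ℂ) (π b)) (fun b : B => (χ : G → ℂ) b)

omit D in
/-- The multiplicity of `ψ` in `χ` restricted to `U`. -/
noncomputable def C (ψ : U →* ℂˣ) (χ : IrrCharacter G) : ℂ :=
  classInner (fun u : U => (χ : G → ℂ) u) (fun u : U => ((ψ u : ℂˣ) : ℂ))

omit D in
theorem C_nat (χ : IrrCharacter G) : ∃ n : ℕ, C ψ χ = n :=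
  classInner_char_irr (isCharacter_comp U.subtype (IsIrrCharacter.isCharacter χ.2))
    (isIrrCharacter_of_hom ψ)

theorem A_nat (θ : IrrCharacter T) (χ : IrrCharacter G) : ∃ n : ℕ, A π θ χ = n := by
  obtain ⟨n, hn⟩ := classInner_char_irr (isCharacter_comp B.subtype (IsIrrCharacter.isCharacter χ.2))
    (isIrrCharacter_comp_of_surjective π D.surj θ.2)
  refine ⟨n, ?_⟩
  unfold A
  rw [← classInner_conj_symm]
  have : classInner (fun b : B => (χ : G → ℂ) b) (fun b : B => (θ : T → ℂ) (π b)) = n := hn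
  rw [this]
  simp

lemma coe_pow_eq_one {u : G} (hu : u ∈ U) : ∃ k : ℕ, u ^ p ^ k = 1 := by
  obtain ⟨k, hk⟩ := D.hUp ⟨u, hu⟩
  exact ⟨k, by simpa [Subtype.ext_iff] using hk⟩

lemma pi_conj (θ : IrrCharacter T) {x : G} (u : U) (h : x⁻¹ * (u : G) * x ∈ B) :
    (θ : T → ℂ) (π ⟨_, h⟩) = 1 := by
  obtain ⟨k, hk⟩ := D.coe_pow_eq_one u.2
  have h1 : (π ⟨_, h⟩) ^ p ^ k = 1 := by
    rw [← map_pow]
    have : (⟨_, h⟩ : B) ^ p ^ k = 1 := by
      apply Subtype.ext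
      simp only [SubmonoidClass.mk_pow, OneMemClass.coe_one]
      have e : x⁻¹ * (u : G) * x = x⁻¹ * (u : G) * x⁻¹⁻¹ := by rw [inv_inv]
      rw [e, conj_pow, hk]
      group
    rw [this, map_one]
  rw [D.hTp _ _ h1]
  exact dual_one D.hTc θ

lemma inner_sum (θ : IrrCharacter T) (x : G) (u : U) :
    (∑ b : B, if x⁻¹ * (u : G) * x = b then (θ : T → ℂ) (π b) else 0) =
      if x⁻¹ * (u : G) * x ∈ B then 1 else 0 := by
  by_cases h : x⁻¹ * (u : G) * x ∈ B
  · rw [if_pos h, Finset.sum_eq_single (⟨_, h⟩ : B)]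
    · rw [if_pos rfl]
      exact D.pi_conj θ u h
    · intro b _ hb
      rw [if_neg]
      intro e
      exact hb (Subtype.ext e.symm)
    · simp
  · rw [if_neg h]
    apply Finset.sum_eq_zero
    intro b _
    rw [if_neg]
    intro e
    exact h (e ▸ b.2)

/-- The Gelfand–Graev count. -/
lemma sum_AC (θ : IrrCharacter T) : ∃ N : ℕ, N ≤ Nat.card U * Nat.card B ∧
    ∑ χ : IrrCharacter G, A π θ χ * C ψ χ = ((Nat.card B : ℂ)⁻¹ * (Nat.card U : ℂ)⁻¹) * N := by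
  obtain ⟨N, hN, hS⟩ := D.hbig
  refine ⟨N, hN, ?_⟩
  unfold A C
  rw [sum_A_C B U, ← hS]
  congr 1
  refine Finset.sum_congr rfl fun x _ => Finset.sum_congr rfl fun u _ => ?_
  rw [D.inner_sum θ x u]
  split_ifs <;> simp

/-- Natural number version. -/
lemma sum_nat_le (θ : IrrCharacter T) {An : IrrCharacter G → ℕ} {Cn : IrrCharacter G → ℕ}
    (hA : ∀ χ, A π θ χ = An χ) (hC : ∀ χ, C ψ χ = Cn χ) : ∑ χ, An χ * Cn χ ≤ 1 := by
  obtain ⟨N, hN, hS⟩ := D.sum_AC θ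
  have hB : 0 < Nat.card B := Nat.card_pos
  have hU : 0 < Nat.card U := Nat.card_pos
  have hB' : (Nat.card B : ℂ) ≠ 0 := by exact_mod_cast hB.ne'
  have hU' : (Nat.card U : ℂ) ≠ 0 := by exact_mod_cast hU.ne'
  simp only [hA, hC] at hS
  have h2 : (∑ χ, An χ * Cn χ) * (Nat.card U * Nat.card B) = N := by
    have h3 : ((∑ χ, An χ * Cn χ : ℕ) : ℂ) * ((Nat.card U : ℂ) * Nat.card B) = N := by
      push_cast
      rw [hS]
      field_simp
    exact_mod_cast h3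
  by_contra hcon
  push Not at hcon
  have h4 : 2 * (Nat.card U * Nat.card B) ≤ N := by
    rw [← h2]
    exact Nat.mul_le_mul_right _ hcon
  have h5 : 0 < Nat.card U * Nat.card B := Nat.mul_pos hU hB
  omega

/-- The average of `χ` over the coset `t U`. -/
noncomputable def tau (U : Subgroup G) [Fintype U] {T : Subgroup G} (χ : G → ℂ) (t : T) : ℂ :=
  (Nat.card U : ℂ)⁻¹ * ∑ u : U, χ ((t : G) * u)

lemma A_eq (θ : IrrCharacter T) (χ : IrrCharacter G) :
    A π θ χ = (Nat.card T : ℂ)⁻¹ * ∑ t : T, (θ : T → ℂ) t * conj (tau U (χ : G → ℂ) t) := by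
  unfold A classInner tau
  rw [D.sum_B, D.card_B]
  have hU : (Nat.card U : ℂ) ≠ 0 := by exact_mod_cast (Nat.card_pos (α := U)).ne'
  push_cast
  rw [mul_inv, mul_assoc]
  congr 1
  rw [Finset.mul_sum]
  refine Finset.sum_congr rfl fun t _ => ?_
  simp only [map_mul, map_inv₀, map_natCast, map_sum, D.pi_mul]
  rw [Finset.mul_sum, Finset.mul_sum, Finset.mul_sum]
  refine Finset.sum_congr rfl fun u _ => ?_
  ring

lemma sum_theta (χ : IrrCharacter G) (t₀ : T) :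
    ∑ θ : IrrCharacter T, A π θ χ * conj ((θ : T → ℂ) t₀) = conj (tau U (χ : G → ℂ) t₀) := by
  have hT : (Nat.card T : ℂ) ≠ 0 := by exact_mod_cast (Nat.card_pos (α := T)).ne'
  simp only [D.A_eq, Finset.mul_sum, Finset.sum_mul]
  rw [Finset.sum_comm]
  rw [Finset.sum_eq_single t₀]
  · have h := sum_dual D.hTc t₀ t₀
    rw [if_pos rfl] at h
    have : ∀ θ : IrrCharacter T, (Nat.card T : ℂ)⁻¹ * ((θ : T → ℂ) t₀ * conj (tau U (χ : G → ℂ) t₀)) *
        conj ((θ : T → ℂ) t₀) = (Nat.card T : ℂ)⁻¹ * conj (tau U (χ : G → ℂ) t₀) *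
          ((θ : T → ℂ) t₀ * conj ((θ : T → ℂ) t₀)) := fun θ => by ring
    simp only [this]
    rw [← Finset.mul_sum, h]
    field_simp
  · intro t _ ht
    have h := sum_dual D.hTc t t₀
    rw [if_neg ht] at h
    have : ∀ θ : IrrCharacter T, (Nat.card T : ℂ)⁻¹ * ((θ : T → ℂ) t * conj (tau U (χ : G → ℂ) t)) *
        conj ((θ : T → ℂ) t₀) = (Nat.card T : ℂ)⁻¹ * conj (tau U (χ : G → ℂ) t) *
          ((θ : T → ℂ) t * conj ((θ : T → ℂ) t₀)) := fun θ => by ring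
    simp only [this]
    rw [← Finset.mul_sum, h, mul_zero]
  · simp

lemma orderOf_dvd_of_U {u : U} (hu : u ≠ 1) : p ∣ orderOf (u : G) := by
  obtain ⟨k, hk⟩ := D.coe_pow_eq_one u.2
  have h1 : orderOf (u : G) ∣ p ^ k := orderOf_dvd_of_pow_eq_one hk
  obtain ⟨j, -, hj⟩ := (Nat.dvd_prime_pow hp.out).mp h1
  rw [hj]
  have hj0 : j ≠ 0 := by
    rintro rfl
    rw [pow_zero, orderOf_eq_one_iff] at hj
    exact hu (Subtype.ext hj)
  exact dvd_pow_self p hj0

lemma tau_one {χ : IrrCharacter G} (hχ : ∀ g, p ∣ orderOf g → (χ : G → ℂ) g = 0) :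
    tau U (χ : G → ℂ) (1 : T) = C ψ χ := by
  unfold tau C classInner
  congr 1
  refine Finset.sum_congr rfl fun u _ => ?_
  by_cases hu : u = 1
  · subst hu
    simp
  · have h0 := hχ _ (D.orderOf_dvd_of_U hu)
    simp only [OneMemClass.coe_one, one_mul]
    rw [h0, zero_mul]

lemma C_ne_zero {χ : IrrCharacter G} (hχ : ∀ g, p ∣ orderOf g → (χ : G → ℂ) g = 0) :
    C ψ χ ≠ 0 := by
  have h : C ψ χ = (Nat.card U : ℂ)⁻¹ * (χ : G → ℂ) 1 := by
    unfold C classInner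
    congr 1
    rw [Finset.sum_eq_single (1 : U)]
    · simp
    · intro u _ hu
      change (χ : G → ℂ) u * _ = 0
      rw [hχ _ (D.orderOf_dvd_of_U hu), zero_mul]
    · simp
  rw [h]
  apply mul_ne_zero
  · exact inv_ne_zero (by exact_mod_cast (Nat.card_pos (α := U)).ne')
  · obtain ⟨d, hd, hd'⟩ := irr_degree_pos χ.2
    rw [hd']
    exact_mod_cast hd.ne'

/-- The first half of the argument: the multiplicity of `ψ` is one, and the average over `T` is a
linear character. -/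
theorem eq_theta {χ : IrrCharacter G} (hχ : ∀ g, p ∣ orderOf g → (χ : G → ℂ) g = 0)
    {An : IrrCharacter T → IrrCharacter G → ℕ} {Cn : IrrCharacter G → ℕ}
    (hA : ∀ θ χ, A π θ χ = An θ χ) (hC : ∀ χ, C ψ χ = Cn χ) :
    Cn χ = 1 ∧ ∃ θ₀ : IrrCharacter T, An θ₀ χ = 1 ∧ ∀ t : T, tau U (χ : G → ℂ) t = (θ₀ : T → ℂ) t := by
  classical
  have hm : Cn χ ≠ 0 := by
    intro h
    have := D.C_ne_zero (ψ := ψ) hχ
    rw [hC, h] at this
    simp at this
  have hsumT : ∀ t₀ : T, ∑ θ : IrrCharacter T, (An θ χ : ℂ) * conj ((θ : T → ℂ) t₀) =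
      conj (tau U (χ : G → ℂ) t₀) := by
    intro t₀
    rw [← D.sum_theta χ t₀]
    simp only [hA]
  have hsum1 : ∑ θ : IrrCharacter T, An θ χ = Cn χ := by
    have h := hsumT 1
    rw [D.tau_one (ψ := ψ) hχ, hC] at h
    simp only [dual_one D.hTc, map_one, mul_one, Complex.conj_natCast] at h
    exact_mod_cast h
  obtain ⟨θ₀, -, hθ₀⟩ : ∃ θ₀ ∈ Finset.univ, An θ₀ χ ≠ 0 := by
    by_contra hcon
    push Not at hcon
    apply hm
    rw [← hsum1]
    exact Finset.sum_eq_zero hcon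
  have hle : An θ₀ χ * Cn χ ≤ 1 := by
    refine le_trans ?_ (D.sum_nat_le θ₀ (An := An θ₀) (hA θ₀) hC)
    exact Finset.single_le_sum (f := fun χ => An θ₀ χ * Cn χ) (fun _ _ => Nat.zero_le _) (Finset.mem_univ χ)
  have ha1 : 1 ≤ An θ₀ χ := Nat.pos_of_ne_zero hθ₀
  have hc1 : 1 ≤ Cn χ := Nat.pos_of_ne_zero hm
  have hA1 : An θ₀ χ = 1 := by
    have : An θ₀ χ ≤ An θ₀ χ * Cn χ := Nat.le_mul_of_pos_right _ hc1
    omega
  have hC1 : Cn χ = 1 := by
    have : Cn χ ≤ An θ₀ χ * Cn χ := Nat.le_mul_of_pos_left _ ha1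
    omega
  have hzero : ∀ θ, θ ≠ θ₀ → An θ χ = 0 := by
    intro θ hθ
    have h1 := Finset.add_sum_erase Finset.univ (fun θ => An θ χ) (Finset.mem_univ θ₀)
    rw [hsum1, hA1, hC1] at h1
    have h2 : ∑ x ∈ Finset.univ.erase θ₀, An x χ = 0 := by omega
    exact (Finset.sum_eq_zero_iff.mp h2) θ (Finset.mem_erase.mpr ⟨hθ, Finset.mem_univ _⟩)
  have htau : ∀ t : T, tau U (χ : G → ℂ) t = (θ₀ : T → ℂ) t := by
    intro t
    have h := hsumT t
    rw [Finset.sum_eq_single θ₀ (fun θ _ hθ => by rw [hzero θ hθ]; simp) (by simp), hA1] at h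
    simp only [Nat.cast_one, one_mul] at h
    exact ((starRingEnd ℂ).injective h).symm
  exact ⟨hC1, θ₀, hA1, htau⟩

/-- The value of the spherical function at `1`. -/
theorem lamF_one {χ : IrrCharacter G} (hχ : ∀ g, p ∣ orderOf g → (χ : G → ℂ) g = 0) :
    lamF (χ : G → ℂ) U 1 = 1 := by
  classical
  choose An hA using fun (θ : IrrCharacter T) (χ : IrrCharacter G) => D.A_nat θ χ
  choose Cn hC using fun (χ : IrrCharacter G) => C_nat (ψ := ψ) χ
  obtain ⟨h1, -⟩ := D.eq_theta hχ hA hC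
  have h2 := D.tau_one (ψ := ψ) hχ
  rw [hC, h1] at h2
  have h3 : lamF (χ : G → ℂ) U 1 = tau U (χ : G → ℂ) (1 : T) := by
    unfold lamF tau
    simp
  rw [h3, h2]
  simp

/-- **Uniqueness of the defect-zero character**, if the spherical functions are trivial on `T`. -/
theorem unique_of_vanish (hT1 : ∀ χ : IrrCharacter G, (∀ g, p ∣ orderOf g → (χ : G → ℂ) g = 0) →
      ∀ t : T, lamF (χ : G → ℂ) U (t : G) = 1)
    (χ χ' : IrrCharacter G) (hχ : ∀ g, p ∣ orderOf g → (χ : G → ℂ) g = 0)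
    (hχ' : ∀ g, p ∣ orderOf g → (χ' : G → ℂ) g = 0) : χ = χ' := by
  classical
  choose An hA using fun (θ : IrrCharacter T) (χ : IrrCharacter G) => D.A_nat θ χ
  choose Cn hC using fun (χ : IrrCharacter G) => C_nat (ψ := ψ) χ
  have key : ∀ χ : IrrCharacter G, (∀ g, p ∣ orderOf g → (χ : G → ℂ) g = 0) →
      An (triv T) χ = 1 ∧ Cn χ = 1 := by
    intro χ hχ
    obtain ⟨h1, θ₀, h2, h3⟩ := D.eq_theta hχ hA hC
    have hθ₀ : θ₀ = triv T := by
      apply Subtype.ext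
      funext t
      rw [← h3 t]
      have := hT1 χ hχ t
      unfold lamF at this
      unfold tau
      rw [this]
      simp [triv]
    rw [← hθ₀]
    exact ⟨h2, h1⟩
  obtain ⟨h1, h2⟩ := key χ hχ
  obtain ⟨h1', h2'⟩ := key χ' hχ'
  by_contra hne
  have h := D.sum_nat_le (triv T) (An := An (triv T)) (hA (triv T)) hC
  have h3 : ∑ i ∈ ({χ, χ'} : Finset (IrrCharacter G)), An (triv T) i * Cn i ≤
      ∑ i, An (triv T) i * Cn i :=
    Finset.sum_le_sum_of_subset (Finset.subset_univ _)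
  rw [Finset.sum_pair hne, h1, h2, h1', h2'] at h3
  omega

end BorelD

end Main

end Cfsg.Agent.Lib.DZGG50
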