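import Mathlib

/-!
# Dedekind elimination for operators

* `elim`: if `∑_{i ∈ I} s_i(u) • e_i = 0` for all `u`, where the `s_i` are multiplicative into a commutative ring `A`, then
  `(∏_{j ≠ j₀} (s_{j₀}(a_j) - s_j(a_j))) • e_{j₀} = 0`.
* `unipotent_trivial`: on a module killed by a prime `q`, a unipotent element of order prime to `q` acts trivially.
* `dedekind_core`: let `S` be a finite abelian group of order prime to `q` acting faithfully on an elementary abelian `q`-group `M`,
  `T` an operator on `M` inducing `σ` on `S` with `σ ^ (p ^ n) = 1` and `1 + T + ⋯ + T ^ (p ^ n - 1) = 0`.  Then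
  `σ ^ (p ^ (n - 1)) = 1`.
-/

set_option autoImplicit false
set_option linter.unusedSectionVars false
set_option linter.unusedVariables false
set_option linter.style.haveILetI false

namespace Cfsg.Agent.Lib.DedekindOps

section Elim

variable {A M ι S : Type*} [CommRing A] [AddCommGroup M] [Module A M] [Monoid S]

theorem elim_aux [DecidableEq ι] (s : ι → S → A) (hs : ∀ i u w, s i (u * w) = s i u * s i w) (hs1 : ∀ i, s i 1 = 1) (j₀ : ι)
    (a : ι → S) (J : Finset ι) : j₀ ∉ J → ∀ e : ι → M, (∀ u, s j₀ u • e j₀ + ∑ i ∈ J, s i u • e i = 0) →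
      (∏ j ∈ J, (s j₀ (a j) - s j (a j))) • e j₀ = 0 := by
  induction J using Finset.induction_on with
  | empty =>
    intro _ e h
    have := h 1
    simpa [hs1] using this
  | insert j J hj ih =>
    intro hj₀ e h
    have hj₀' : j₀ ∉ J := fun h' => hj₀ (Finset.mem_insert_of_mem h')
    have hne : j₀ ≠ j := fun h' => hj₀ (h' ▸ Finset.mem_insert_self _ _)
    set e' : ι → M := fun i => (s i (a j) - s j (a j)) • e i with he'
    have h1 : ∀ u, s j₀ u • e' j₀ + ∑ i ∈ J, s i u • e' i = 0 := by
      intro u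
      have h2 := h (u * a j)
      have h3 := h u
      rw [Finset.sum_insert hj] at h2 h3
      have e1 : ∀ i, s i u • e' i = s i (u * a j) • e i - s j (a j) • (s i u • e i) := by
        intro i
        show s i u • ((s i (a j) - s j (a j)) • e i) = _
        rw [smul_smul, mul_sub, sub_smul, hs, smul_smul, mul_comm (s j (a j)) (s i u)]
      rw [e1, Finset.sum_congr rfl (fun i _ => e1 i), Finset.sum_sub_distrib, ← Finset.smul_sum]
      set X₀ := s j₀ (u * a j) • e j₀
      set Y₀ := s j₀ u • e j₀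
      set X := ∑ i ∈ J, s i (u * a j) • e i
      set Y := ∑ i ∈ J, s i u • e i
      have a1 : X₀ + X = -(s j (u * a j) • e j) := by
        rw [eq_neg_iff_add_eq_zero, ← h2]
        abel
      have a2 : Y₀ + Y = -(s j u • e j) := by
        rw [eq_neg_iff_add_eq_zero, ← h3]
        abel
      have a3 : X₀ - s j (a j) • Y₀ + (X - s j (a j) • Y) = (X₀ + X) - s j (a j) • (Y₀ + Y) := by
        rw [smul_add]
        abel
      rw [a3, a1, a2, hs, smul_neg, smul_smul, mul_comm (s j (a j))]
      simp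
    have h5 := ih hj₀' e' h1
    rw [Finset.prod_insert hj, mul_comm, mul_smul]
    exact h5

/-- **Dedekind elimination.** -/
theorem elim [DecidableEq ι] (s : ι → S → A) (hs : ∀ i u w, s i (u * w) = s i u * s i w) (hs1 : ∀ i, s i 1 = 1) (I : Finset ι)
    (e : ι → M) (h : ∀ u, ∑ i ∈ I, s i u • e i = 0) {j₀ : ι} (hj₀ : j₀ ∈ I) (a : ι → S) :
    (∏ j ∈ I.erase j₀, (s j₀ (a j) - s j (a j))) • e j₀ = 0 := by
  refine elim_aux s hs hs1 j₀ a (I.erase j₀) (Finset.notMem_erase _ _) e ?_
  intro u
  rw [Finset.add_sum_erase I (fun i => s i u • e i) hj₀]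
  exact h u

/-- A unipotent element of order prime to `q` acts trivially. -/
theorem unipotent_trivial {q N K : ℕ} (hM : ∀ v : M, q • v = 0) (hN : Nat.Coprime N q) {Y : A} (hY : Y ^ N = 1)
    (hK : ∀ v : M, (Y - 1) ^ K • v = 0) (v : M) : (Y - 1) • v = 0 := by
  set z := Y - 1 with hz
  have h1 : z * ∑ i ∈ Finset.range N, Y ^ i = 0 := by
    rw [hz, mul_geom_sum, hY, sub_self]
  -- `∑ Y ^ i = N + z h`
  obtain ⟨h, hh⟩ : ∃ h : A, ∑ i ∈ Finset.range N, Y ^ i = (N : A) + z * h := by
    have h2 : ∀ i : ℕ, z ∣ Y ^ i - 1 := fun i => by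
      have := sub_dvd_pow_sub_pow Y 1 i
      simpa using this
    have h3 : z ∣ ∑ i ∈ Finset.range N, (Y ^ i - 1) := Finset.dvd_sum fun i _ => h2 i
    obtain ⟨h, hh⟩ := h3
    refine ⟨h, ?_⟩
    rw [← hh, Finset.sum_sub_distrib]
    simp
  have h4 : z * (N : A) = - (z * z * h) := by
    rw [hh] at h1
    linear_combination h1
  -- Bezout
  have hb := Nat.gcd_eq_gcd_ab N q
  rw [hN.gcd_eq_one] at hb
  set a := Nat.gcdA N q
  set b := Nat.gcdB N q
  have hN' : ∀ w : M, (a : A) • (N : A) • w = w := by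
    intro w
    have e1 : ((a * N : ℤ) : A) • w = w := by
      have e2 : (a * N : ℤ) = 1 - q * b := by
        push_cast at hb
        linarith
      rw [e2]
      push_cast
      rw [sub_smul, one_smul, mul_smul]
      have e3 : ((q : A)) • ((b : A) • w) = 0 := by
        rw [Nat.cast_smul_eq_nsmul]
        exact hM _
      rw [e3, sub_zero]
    rw [← mul_smul]
    have e4 : (a : A) * (N : A) = ((a * N : ℤ) : A) := by
      push_cast
      ring
    rw [e4]
    exact e1
  have h5 : ∀ w : M, z • w = (-(a : A) * h) • (z * z) • w := by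
    intro w
    have e1 : z • w = (a : A) • (N : A) • z • w := (hN' _).symm
    rw [e1, ← mul_smul (N : A) z, mul_comm (N : A) z, h4]
    simp only [← mul_smul]
    congr 1
    ring
  -- iterate
  have h6 : ∀ k : ℕ, ∀ w : M, z • w = (-(a : A) * h) ^ k • (z ^ (k + 1)) • w := by
    intro k
    induction k with
    | zero => intro w; simp
    | succ k ih =>
      intro w
      have e5 : (z ^ (k + 1)) • w = (-(a : A) * h) • (z ^ (k + 1 + 1)) • w := by
        rw [pow_succ', mul_smul, h5 (z ^ k • w)]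
        simp only [← mul_smul]
        congr 1
        ring
      rw [ih w, e5]
      simp only [← mul_smul]
      congr 1
      ring
  rw [h6 K v, pow_succ', mul_smul, hK, smul_zero, smul_zero]

end Elim

section Core

variable {M : Type*} [AddCommGroup M] {S : Type*} [CommGroup S] [Finite S]

theorem exists_mul_modEq {p n j : ℕ} (hp : p.Prime) (hj0 : 0 < j) (hj : j < p ^ n) :
    ∃ w : ℕ, j * w ≡ p ^ (n - 1) [MOD p ^ n] := by
  obtain ⟨e, u, hu, rfl⟩ := Nat.exists_eq_pow_mul_and_not_dvd (Nat.pos_iff_ne_zero.1 hj0) p hp.ne_one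
  have hen : e < n := by
    have h1 : p ^ e ≤ p ^ e * u := Nat.le_mul_of_pos_right _ (Nat.pos_of_ne_zero fun h => by simp [h] at hj0)
    exact (Nat.pow_lt_pow_iff_right hp.one_lt).1 (lt_of_le_of_lt h1 hj)
  have hcop : Nat.Coprime u (p ^ n) := Nat.Coprime.pow_right _ ((Nat.Prime.coprime_iff_not_dvd hp).2 hu).symm
  have h1 : 1 < p ^ n := Nat.one_lt_pow (by omega) hp.one_lt
  obtain ⟨u', -, hu'⟩ := Nat.exists_mul_mod_eq_one_of_coprime hcop h1
  refine ⟨u' * p ^ (n - 1 - e), ?_⟩
  have e1 : p ^ e * u * (u' * p ^ (n - 1 - e)) = p ^ (n - 1) * (u * u') := by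
    have : p ^ (n - 1) = p ^ e * p ^ (n - 1 - e) := by
      rw [← pow_add]
      congr 1
      omega
    rw [this]
    ring
  rw [e1]
  have h2 : u * u' ≡ 1 [MOD p ^ n] := by
    unfold Nat.ModEq
    rw [hu', Nat.mod_eq_of_lt h1]
  simpa using h2.mul_left (p ^ (n - 1))

/-- Telescoping. -/
theorem telescope (τ : MulAut S) (w : ℕ) (c : S) :
    (∏ l ∈ Finset.range w, (τ ^ l) c) = τ (∏ l ∈ Finset.range w, (τ ^ l) c) * (c * ((τ ^ w) c)⁻¹) := by
  have h1 := Finset.prod_range_succ (fun l => (τ ^ l) c) w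
  have h2 := Finset.prod_range_succ' (fun l => (τ ^ l) c) w
  have h3 : τ (∏ l ∈ Finset.range w, (τ ^ l) c) = ∏ l ∈ Finset.range w, (τ ^ (l + 1)) c := by
    rw [map_prod]
    refine Finset.prod_congr rfl fun l _ => ?_
    rw [pow_succ', MulAut.mul_apply]
  rw [h3]
  rw [h1] at h2
  simp only [pow_zero, MulAut.one_apply] at h2
  rw [← mul_assoc, ← h2]
  simp

/-- **Dedekind core.** -/
theorem dedekind_core {q : ℕ} (hM : ∀ v : M, q • v = 0) (hS : Nat.Coprime (Nat.card S) q)
    (op : S →* Module.End ℤ M) (hop : Function.Injective op) (T : Module.End ℤ M) (σ : MulAut S)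
    (hT : ∀ s, T * op s = op (σ s) * T) {p n : ℕ} (hp : p.Prime) (hn : 1 ≤ n) (hσ : σ ^ (p ^ n) = 1)
    (hN : ∀ v, ∑ i ∈ Finset.range (p ^ n), (T ^ i) v = 0) : σ ^ (p ^ (n - 1)) = 1 := by
  classical
  set m := p ^ n with hm
  set k := p ^ (n - 1) with hk
  -- the conjugation formula
  have hTi : ∀ (i : ℕ) (s : S), T ^ i * op s = op ((σ ^ i) s) * T ^ i := by
    intro i
    induction i with
    | zero => intro s; simp
    | succ i ih =>
      intro s
      rw [pow_succ, mul_assoc, hT, ← mul_assoc, ih, pow_succ σ, MulAut.mul_apply, mul_assoc]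
  -- the commutative ring
  let f : MonoidAlgebra ℤ S →ₐ[ℤ] Module.End ℤ M := MonoidAlgebra.lift ℤ (Module.End ℤ M) S op
  letI : Module (MonoidAlgebra ℤ S) M := Module.compHom M f.toRingHom
  have hsmul : ∀ (g : S) (v : M), (MonoidAlgebra.of ℤ S g) • v = op g v := by
    intro g v
    show f (MonoidAlgebra.of ℤ S g) v = _
    simp [f]
  let s : ℕ → S → MonoidAlgebra ℤ S := fun i u => MonoidAlgebra.of ℤ S ((σ ^ i) u)
  have hs : ∀ i u w, s i (u * w) = s i u * s i w := by
    intro i u w
    simp [s]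
  have hs1 : ∀ i, s i 1 = 1 := by
    intro i
    show MonoidAlgebra.of ℤ S ((σ ^ i) 1) = 1
    rw [map_one, map_one]
  have hm1 : 0 ∈ Finset.range m := Finset.mem_range.2 (pow_pos hp.pos n)
  have hfix : ∀ c : S, (σ ^ k) c = c := by
    intro c
    have hY : ∀ v : M, (MonoidAlgebra.of ℤ S (c * ((σ ^ k) c)⁻¹) - 1) ^ (m - 1) • v = 0 := by
      intro v
      -- the choice of the elements
      have hw : ∀ j ∈ (Finset.range m).erase 0, ∃ w : ℕ, j * w ≡ k [MOD m] := by
        intro j hj
        obtain ⟨h1, h2⟩ := Finset.mem_erase.1 hj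
        exact exists_mul_modEq hp (Nat.pos_of_ne_zero h1) (Finset.mem_range.1 h2)
      let W : ℕ → ℕ := fun j => if h : j ∈ (Finset.range m).erase 0 then (hw j h).choose else 0
      have hW : ∀ j ∈ (Finset.range m).erase 0, j * W j ≡ k [MOD m] := by
        intro j hj
        simp only [W, dif_pos hj]
        exact (hw j hj).choose_spec
      let a : ℕ → S := fun j => ∏ l ∈ Finset.range (W j), ((σ ^ j) ^ l) c
      -- relation
      have hrel : ∀ u : S, ∑ i ∈ Finset.range m, s i u • (T ^ i) v = 0 := by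
        intro u
        have h1 := hN (op u v)
        rw [← h1]
        refine Finset.sum_congr rfl fun i _ => ?_
        rw [hsmul]
        have h2 := hTi i u
        have h3 := congrArg (fun F : Module.End ℤ M => F v) h2
        exact h3.symm
      have h2 := elim s hs hs1 (Finset.range m) (fun i => (T ^ i) v) hrel hm1 a
      simp only [pow_zero, Module.End.one_apply] at h2
      -- factorization
      have hfac : ∀ j ∈ (Finset.range m).erase 0, s 0 (a j) - s j (a j)
          = MonoidAlgebra.of ℤ S ((σ ^ j) (a j)) * (MonoidAlgebra.of ℤ S (c * ((σ ^ k) c)⁻¹) - 1) := by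
        intro j hj
        have h3 := telescope (σ ^ j) (W j) c
        have h4 : ((σ ^ j) ^ W j) c = (σ ^ k) c := by
          have h5 : σ ^ (j * W j) = σ ^ k := by
            rw [pow_eq_pow_mod _ hσ, pow_eq_pow_mod k hσ]
            rw [hW j hj]
          rw [← pow_mul, h5]
        rw [h4] at h3
        simp only [s, pow_zero, MulAut.one_apply, a]
        rw [mul_sub, mul_one, ← map_mul, ← h3]
      rw [Finset.prod_congr rfl hfac, Finset.prod_mul_distrib, Finset.prod_const, Finset.card_erase_of_mem hm1,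
        Finset.card_range, mul_smul, ← map_prod] at h2
      set x := ∏ j ∈ (Finset.range m).erase 0, (σ ^ j) (a j) with hx
      have h6 : (MonoidAlgebra.of ℤ S (c * ((σ ^ k) c)⁻¹) - 1) ^ (m - 1) • v
          = MonoidAlgebra.of ℤ S x⁻¹ • (MonoidAlgebra.of ℤ S x • ((MonoidAlgebra.of ℤ S (c * ((σ ^ k) c)⁻¹) - 1) ^ (m - 1) • v)) := by
        rw [← mul_smul, ← map_mul, inv_mul_cancel, map_one, one_smul]
      rw [h6, h2, smul_zero]
    have hN' : (MonoidAlgebra.of ℤ S (c * ((σ ^ k) c)⁻¹)) ^ Nat.card S = 1 := by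
      rw [← map_pow, pow_card_eq_one', map_one]
    have h3 : ∀ v : M, op (c * ((σ ^ k) c)⁻¹) v = v := by
      intro v
      have h4 := unipotent_trivial hM hS hN' hY v
      rw [sub_smul, one_smul, hsmul, sub_eq_zero] at h4
      exact h4
    have h5 : op (c * ((σ ^ k) c)⁻¹) = op 1 := by
      rw [map_one]
      ext v
      exact h3 v
    have h6 := hop h5
    exact (mul_inv_eq_one.1 h6).symm
  ext c
  simpa using hfix c

end Core

end Cfsg.Agent.Lib.DedekindOps
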