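import Mathlib
import Cfsg.Agent.Lib.BlockDefect
import Cfsg.Agent.Lib.BlockOrtho
import Cfsg.Agent.Lib.BlockOrth
import Cfsg.Agent.Lib.BlockVal
import Cfsg.Agent.Lib.BlockQ

/-!
# Counting blocks of a given defect: the two halves of the min-max theorem in numerical form
-/

set_option autoImplicit false
set_option linter.style.haveILetI false
set_option linter.unusedVariables false
set_option linter.unusedSectionVars false

namespace Cfsg.Agent.Lib.DefectCount

open Cfsg Cfsg.Agent.Lib.CharBasic Cfsg.Agent.Lib.BlockLocal Cfsg.Agent.Lib.BlockIdem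
open Cfsg.Agent.Lib.BlockDefect Cfsg.Agent.Lib.BlockVal Cfsg.Agent.Lib.BlockQ

universe u

variable {G : Type u} [Group G] [Fintype G] {p : ℕ} {M : Ideal AlgInt}

/-- The defect of an element. -/
noncomputable abbrev cd (p : ℕ) (x : G) : ℕ :=
  (Nat.card (Subgroup.centralizer ({x} : Set G))).factorization p

/-- The central character at an element of defect smaller than that of the block lies in the ideal. -/
theorem centralChar_mem_of_lt (hM : IsPModular p M) {B : Set (IrrCharacter G)} (hB : IsPBlock M B)
    {ψ : IrrCharacter G} (hψ : ψ ∈ B) {x : G} (h : cd p x < blockDefect p B) :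
    MemLocalIdeal M (centralChar (ψ : G → ℂ) x) := by
  classical
  have := hM.2.1.isPrime
  have hp := hM.1
  obtain ⟨χ, hχ, hχm⟩ := exists_minExp (p := p) hB
  have hchi : MemLocalIdeal M (centralChar (χ : G → ℂ) x) := by
    have hG := card_factorization_eq (p := p) hB
    have hcard := Subgroup.card_mul_index (Subgroup.centralizer ({x} : Set G))
    have hC0 : Nat.card (Subgroup.centralizer ({x} : Set G)) ≠ 0 := Nat.card_pos.ne'
    have hi0 : (Subgroup.centralizer ({x} : Set G)).index ≠ 0 := by
      intro h0
      rw [h0, mul_zero] at hcard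
      exact Nat.card_pos.ne' hcard.symm
    have hf : (Nat.card G).factorization p =
        cd p x + (Subgroup.centralizer ({x} : Set G)).index.factorization p := by
      rw [← hcard, Nat.factorization_mul hC0 hi0]
      rfl
    have hdeg0 := Cfsg.Agent.Lib.CharKernel.charDegree_ne_zero χ.2
    have hdvd : p ^ ((charDegree (χ : G → ℂ)).factorization p + 1) ∣
        (Subgroup.centralizer ({x} : Set G)).index := by
      rw [hp.pow_dvd_iff_le_factorization hi0, hχm]
      omega
    have h1 := memLocalIdeal_natCast_div_of_dvd hM hdeg0 hdvd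
    have h2 : centralChar (χ : G → ℂ) x =
        (((Subgroup.centralizer ({x} : Set G)).index : ℂ) / (charDegree (χ : G → ℂ) : ℂ)) *
          (χ : G → ℂ) x := by
      unfold centralChar
      rw [Cfsg.Agent.Lib.CharKernel.one_eq_charDegree (IsIrrCharacter.isCharacter χ.2)]
      ring
    rw [h2]
    exact memLocalIdeal_mul_right h1 (memLocalRing_of_isIntegral (isIntegral_irr χ x))
  have h3 := sameBlock_of_mem hB hχ hψ x
  have h4 := memLocalIdeal_sub hchi h3
  simpa using h4

/-- A unit idempotent coefficient occurs only at `p`-regular elements of defect at most `d(B)`. -/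
theorem of_blockCoeff_unit [hp : Fact p.Prime] (hM : IsPModular p M) {B : Set (IrrCharacter G)}
    (hB : IsPBlock M B) {z : G} (hz : ¬ MemLocalIdeal M (blockCoeff B z)) :
    ¬ p ∣ orderOf z ∧ cd p z ≤ blockDefect p B := by
  classical
  have := hM.2.1.isPrime
  constructor
  · intro hsing
    apply hz
    rw [Cfsg.Agent.Lib.BlockOrth.blockCoeff_eq_zero hM hB hsing]
    exact memLocalIdeal_zero
  · obtain ⟨D, hD⟩ := exists_isDefectGroup hM hB
    have h1 := IsDefectGroup.sylow_conj hM hB hD hz
    obtain ⟨P⟩ : Nonempty (Sylow p (Subgroup.centralizer ({z} : Set G))) := inferInstance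
    set U : Subgroup G := (P : Subgroup (Subgroup.centralizer ({z} : Set G))).map
      (Subgroup.centralizer ({z} : Set G)).subtype with hU
    have hUcard : Nat.card U = p ^ cd p z := by
      rw [hU, Subgroup.card_map_of_injective Subtype.val_injective]
      exact Sylow.card_eq_multiplicity P
    have hUp : IsPGroup p U := IsPGroup.of_card hUcard
    obtain ⟨t, ht⟩ := h1 U hUp (Subgroup.map_subtype_le _)
    have h2 : Nat.card (U.map (MulAut.conj t).toMonoidHom) ≤ Nat.card D :=
      Subgroup.card_le_of_le ht
    rw [Subgroup.card_map_of_injective (MulAut.conj t).injective, hUcard,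
      card_isDefectGroup hM hB hD] at h2
    exact (Nat.pow_le_pow_iff_right hp.out.one_lt).mp h2

/-- The idempotent expansion. -/
theorem sum_classes [Fintype (ConjClasses G)] (B : Set (IrrCharacter G)) (ψ : IrrCharacter G) :
    ∑ K : ConjClasses G, blockCoeff B (Quotient.out K) * centralChar (ψ : G → ℂ) (Quotient.out K) =
      Cfsg.Agent.Lib.BlockOrtho.indB B ψ := by
  rw [← omega_eq_sum_classes ψ (Cfsg.Agent.Lib.BlockDefect.blockCoeff_isClassFunction B),
    blockCoeff_eq_invF]
  exact omega_invF _ _

/-- A term at a class that is not good lies in the ideal. -/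
theorem term_mem [Fact p.Prime] (hM : IsPModular p M) {B B' : Set (IrrCharacter G)}
    (hB : IsPBlock M B) (hB' : IsPBlock M B') {σ : ℕ} (hσ : blockDefect p B = σ)
    (hσ' : blockDefect p B' = σ) {ψ : IrrCharacter G} (hψ : ψ ∈ B') {x : G}
    (hx : ¬ (¬ p ∣ orderOf x ∧ cd p x = σ)) :
    MemLocalIdeal M (blockCoeff B x * centralChar (ψ : G → ℂ) x) := by
  have := hM.2.1.isPrime
  by_cases h : MemLocalIdeal M (blockCoeff B x)
  · exact memLocalIdeal_mul_right h (memLocalRing_of_isIntegral (isIntegral_centralChar ψ x))
  · obtain ⟨h1, h2⟩ := of_blockCoeff_unit hM hB h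
    have h3 : cd p x < blockDefect p B' := by
      rw [hσ']
      rw [hσ] at h2
      have h4 : cd p x ≠ σ := fun h5 => hx ⟨h1, h5⟩
      omega
    exact memLocalIdeal_mul_left (memLocalRing_blockCoeff hB x) (centralChar_mem_of_lt hM hB' hψ h3)


/-- A pairing that is the identity modulo the ideal bounds the cardinality. -/
theorem card_le_of_pairing [M.IsPrime] {T C : Type*} [Fintype T] [Fintype C] [DecidableEq T]
    [DecidableEq C] (a w : T → C → ℂ) (ha : ∀ B K, MemLocalRing M (a B K))
    (hw : ∀ B K, MemLocalRing M (w B K))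
    (h : ∀ B B', MemLocalIdeal M ((∑ K, a B K * w B' K) - if B = B' then 1 else 0)) :
    Fintype.card T ≤ Fintype.card C := by
  classical
  let I := Cfsg.Agent.Lib.BlockOrth.locIdeal M
  let F := localSubring M ⧸ I
  haveI hnt : Nontrivial F := by
    apply Ideal.Quotient.nontrivial_iff.mpr
    intro htop
    have h1 : (1 : localSubring M) ∈ I := by
      rw [htop]
      exact Submodule.mem_top
    exact not_memLocalIdeal_one (M := M) h1
  let a' : Matrix T C F := fun B K => Ideal.Quotient.mk I ⟨a B K, ha B K⟩
  let w' : Matrix C T F := fun K B => Ideal.Quotient.mk I ⟨w B K, hw B K⟩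
  have hmul : a' * w' = 1 := by
    ext B B'
    rw [Matrix.mul_apply, Matrix.one_apply]
    have h1 : ∑ K, a' B K * w' K B' = Ideal.Quotient.mk I
        (⟨∑ K, a B K * w B' K, memLocalRing_sum _ _ fun K _ => memLocalRing_mul (ha B K) (hw B' K)⟩ :
          localSubring M) := by
      have h2 : (⟨∑ K, a B K * w B' K, memLocalRing_sum _ _ fun K _ =>
          memLocalRing_mul (ha B K) (hw B' K)⟩ : localSubring M) =
          ∑ K, (⟨a B K, ha B K⟩ : localSubring M) * (⟨w B' K, hw B' K⟩ : localSubring M) := by
        apply Subtype.ext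
        rw [AddSubmonoidClass.coe_finset_sum]
        rfl
      rw [h2, map_sum]
      refine Finset.sum_congr rfl fun K _ => ?_
      rw [map_mul]
    rw [h1]
    have h3 : (if B = B' then (1 : F) else 0) = Ideal.Quotient.mk I
        (if B = B' then (1 : localSubring M) else 0) := by
      split_ifs <;> simp
    rw [h3, Ideal.Quotient.eq]
    show MemLocalIdeal M _
    have h4 := h B B'
    convert h4 using 2
    push_cast
    split_ifs <;> simp
  let f : (T → F) →ₗ[F] (C → F) := w'.mulVecLin
  have hinj : Function.Injective f := by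
    intro u v huv
    have h1 : a'.mulVec (w'.mulVec u) = a'.mulVec (w'.mulVec v) := by
      have h2 : w'.mulVec u = w'.mulVec v := huv
      rw [h2]
    rw [Matrix.mulVec_mulVec, Matrix.mulVec_mulVec, hmul, Matrix.one_mulVec, Matrix.one_mulVec] at h1
    exact h1
  exact card_le_of_injective F f hinj

end Cfsg.Agent.Lib.DefectCount
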