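import Mathlib
import Cfsg.Agent.Lib.Deg11Eval

/-!
# Data for transitive groups of degree eleven
-/

set_option autoImplicit false
set_option maxRecDepth 100000

namespace Cfsg.Agent.Lib.Deg11Data
open Cfsg.Agent.Lib.Deg11Eval

/-- The powers of the translation. -/
def cPows : List Nat := [11649936536080, 728121033505, 1145019192370, 2270586955075, 3440446568020, 4613074421605, 5785875290230, 6958686972295, 8131499330200, 9304311730345, 10477124133130]

/-- Word programs for an involution. -/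
def progs : List (List Nat × List Bool) := [([11, 1, 11, 10],[true,true,false,false]),
  ([11, 3, 11, 8],[true,true,false,false]),
  ([11, 2, 11, 9],[true,true,false,false]),
  ([11, 4, 11, 7],[true,true,false,false]),
  ([11, 5, 11, 6],[true,true,false,false]),
  ([11, 1, 11, 7],[true,true,false,false]),
  ([11, 2, 11, 3],[true,true,false,false]),
  ([11, 4, 11, 6],[true,true,false,false]),
  ([11, 2, 11, 9],[true]),
  ([11, 2, 11, 5],[true,true,false,false]),
  ([11, 2],[false,false,false,true,true,false,false,false]),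
  ([11, 5, 11, 6],[true]),
  ([11, 5],[true,false,false]),
  ([11, 5],[false,false,false]),
  ([11, 1],[false,true,false,false,false]),
  ([11, 2, 11, 4],[true,false,false]),
  ([11, 1, 11, 8],[true,true,false,false]),
  ([11, 1, 11, 3],[true,false,false]),
  ([11, 3],[false])]

/-- Word programs for a pair of involutions. -/
def progsL2 : List (List Nat × List Bool) := [([12, 0, 11, 0],[true,true]),([12, 1, 11, 4],[true,true]),([12, 0, 11, 5],[true,true]),([12, 0, 11, 7],[false,false]),([12, 0, 11, 2],[true,true]),([12, 0, 11, 6],[false,false]),([12, 0, 11, 0],[true]),([12, 0, 11, 2],[false]),([12, 0, 11, 5],[false,false]),([12, 0, 11, 3],[true,true]),([12, 0, 11, 4],[true]),([12, 0, 11, 6],[true,true]),([12, 0, 11, 7],[true,true]),([12, 0, 11, 10],[true])]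

/-- Involutions fixing `0` in the subgroup `L` of the Mathieu group, with words. -/
def tabA : List (Nat × List Nat × List Nat) := [(10609779750160,[11],[11]),(6951313557520,[6, 11, 9, 11],[1, 11, 5, 11, 7]),(2788329552400,[5, 11, 4, 11, 1],[8, 11, 2, 11, 1]),(3747246088480,[3, 11, 7, 11, 2],[4, 11, 2, 11, 5]),(8000053514800,[6, 11, 5, 11],[6, 11, 1, 11, 1]),(4915961926960,[5, 11, 6, 11],[1, 11, 1, 11, 6]),(11584926736960,[1, 11, 10],[10, 11, 1]),(2853589572160,[3, 11, 8],[8, 11, 3]),(9045840009040,[6, 11, 1, 11],[2, 11, 4, 11, 8]),(3468208417120,[2, 11, 9, 11, 4],[5, 11, 5, 11, 3]),(11356272599920,[1, 11, 2, 11, 4],[3, 11, 6, 11]),(7228871574640,[1, 11, 1, 11, 5],[7, 11, 4, 11, 3]),(5709968609920,[4, 11, 10, 11, 1],[9, 11, 4, 11, 1]),(11096086099600,[6, 11, 4, 11],[7, 11, 2, 11, 2]),(1740074530720,[2, 11, 6, 11, 3],[4, 11, 1, 11, 3])]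

/-- The other involutions fixing `0` in the Mathieu group, with words. -/
def tabB : List (Nat × List Nat × List Nat) := [(4842730443280,[11],[11]),(9322567705360,[6, 11, 4, 11, 7, 11, 5],[2, 11, 4, 11, 7, 11, 9]),(11224486155280,[1, 11, 10],[10, 11, 1]),(3935573681680,[1, 11, 7, 11, 3, 11, 6],[5, 11, 8, 11, 3, 11, 6]),(5807394088720,[3, 11, 5, 11, 3, 11, 6],[6, 11, 1, 11, 8, 11, 3, 11]),(7849694824720,[4, 11, 10, 11, 7, 11, 4, 11, 1],[3, 11, 1, 11, 4, 11, 3]),(4988190994720,[1, 11, 3, 11, 10, 11, 3],[1, 11, 4, 11, 7, 11, 10, 11]),(6148357046560,[1, 11, 10, 11, 7, 11, 5],[6, 11, 1, 11, 10, 11, 5, 11]),(11504475984160,[7, 11, 4, 11, 7, 11, 4],[1, 11, 4, 11, 7, 11, 10]),(10606195512880,[1, 11, 3, 11, 10, 11, 1],[1, 11, 6, 11, 3, 11, 10, 11, 9]),(11623345887280,[2, 11, 9],[9, 11, 2]),(10592300660800,[1, 11, 8, 11, 5, 11, 10, 11, 9],[2, 11, 7, 11, 10, 11, 3]),(8978450954560,[1, 11, 8, 11, 3, 11, 10],[4, 11, 4, 11, 9, 11, 10, 11, 2]),(7097871250000,[3, 11, 4, 11, 7, 11, 8],[7, 11,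 8, 11, 3, 11, 4]),(5044306584400,[7, 11, 1, 11, 10, 11, 4],[1, 11, 2, 11, 8, 11, 3, 11]),(11167788857680,[2, 11, 7, 11, 3, 11, 5],[4, 11, 8, 11, 3, 11, 7]),(9458344620640,[5, 11, 1, 11, 10, 11, 6],[2, 11, 3, 11, 7, 11, 3, 11, 5]),(8077249229920,[2, 11, 5, 11, 3, 11, 2, 11, 1],[4, 11, 3, 11, 2, 11, 1]),(11284777633120,[4, 11, 5, 11, 3, 11, 5],[1, 11, 1, 11, 2, 11, 2, 11, 5]),(10617517982320,[4, 11, 3, 11, 10, 11],[1, 11, 10, 11, 3, 11, 10, 11, 1]),(5918895126640,[2, 11, 8, 11, 6, 11],[3, 11, 8, 11, 3, 11, 10, 11, 2]),(8322088723840,[7, 11, 9, 11, 9, 11, 2],[1, 11, 4, 11, 3, 11, 7, 11]),(11412421429120,[5, 11, 10, 11, 7, 11, 4, 11],[2, 11, 1, 11, 4, 11, 4]),(2479646915200,[3, 11, 1, 11, 5, 11, 8, 11, 4],[1, 11, 2, 11, 9, 11, 10]),(3389912490640,[5, 11, 9, 11, 9, 11, 4],[1, 11, 2, 11, 7, 11, 1, 11, 7]),(6701666542480,[4, 11, 8, 11, 3, 11, 7],[1, 11, 4, 11, 9, 11, 10, 11, 5]),(2286857775760,[2, 11, 2, 11, 2, 11],[1, 11, 6, 11, 3, 11, 5, 11]),(1457731699360,[3, 11, 1, 11, 10, 11, 8],[1,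 11, 6, 11, 1, 11, 2, 11, 1]),(1689905157280,[11, 4, 11, 7, 11],[1, 11, 6, 11, 1, 11, 3]),(1341142832800,[2, 11, 3, 11, 2, 11, 4, 11, 1],[1, 11, 3, 11, 2, 11, 4])]

/-- Words in the conjugates giving the translation. -/
def tabC : List (Nat × List Nat) := [(10609779750160,[0, 2, 4, 6, 8]),(6951313557520,[0, 7, 3]),(2788329552400,[0, 2, 0, 6, 1]),(3747246088480,[0, 2, 0, 6, 1]),(8000053514800,[0, 7, 5, 1]),(4915961926960,[0, 7, 5, 1]),(11584926736960,[0, 2, 4, 6, 8]),(2853589572160,[0, 2, 4, 6, 8]),(9045840009040,[0, 2, 5, 7]),(3468208417120,[0, 7, 3]),(11356272599920,[0, 7, 3]),(7228871574640,[0, 2, 5, 7]),(5709968609920,[0, 2, 5, 7]),(11096086099600,[0, 2, 0, 6, 1]),(1740074530720,[0, 7, 5, 1]),(4842730443280,[0, 1, 7, 6, 9, 7]),(9322567705360,[0, 1, 3, 6, 10, 7]),(11224486155280,[0, 1, 7, 6, 9, 7]),(3935573681680,[0, 1, 7, 9, 0, 3]),(5807394088720,[0, 2, 10, 5, 7, 4]),(7849694824720,[0, 1, 8, 5, 6, 2]),(4988190994720,[0, 1, 6, 0, 4, 0]),(6148357046560,[0, 1, 6, 0, 4, 0]),(11504475984160,[0,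 1, 3, 6, 10, 7]),(10606195512880,[0, 1, 3, 8, 7, 4, 5]),(11623345887280,[0, 1, 7, 6, 9, 7]),(10592300660800,[0, 1, 8, 5, 6, 2]),(8978450954560,[0, 1, 3, 8, 7, 4, 5]),(7097871250000,[0, 1, 7, 9, 0, 3]),(5044306584400,[0, 1, 3, 6, 0, 6, 7]),(11167788857680,[0, 1, 7, 9, 0, 3]),(9458344620640,[0, 1, 3, 6, 0, 6, 7]),(8077249229920,[0, 1, 9, 6, 3]),(11284777633120,[0, 2, 10, 5, 7, 4]),(10617517982320,[0, 1, 6, 0, 4, 0]),(5918895126640,[0, 2, 10, 5, 7, 4]),(8322088723840,[0, 8, 5, 2]),(11412421429120,[0, 1, 8, 5, 6, 2]),(2479646915200,[0, 1, 9, 6, 3]),(3389912490640,[0, 8, 5, 2]),(6701666542480,[0, 1, 3, 8, 7, 4, 5]),(2286857775760,[0, 8, 5, 2]),(1457731699360,[0, 1, 3, 6, 0, 6, 7]),(1689905157280,[0, 1, 3, 6, 10, 7]),(1341142832800,[0, 1, 9, 6, 3])]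

/-- The first generator. -/
def g1N : Nat := 10609779750160

/-- The second generator. -/
def g0N : Nat := 4842730443280

/-- The translation. -/
def cN : Nat := 728121033505

/-- Negation. -/
def negN : Nat := 1250999896480

/-- Multiplication by three. -/
def mu3N : Nat := 9151086433840

/-- A word for `g1N`. -/
def wG : List Nat := [7, 11, 3, 11, 6, 11, 2, 11]

/-- A word for `mu3N`. -/
def wMu : List Nat := [2, 11, 6, 11, 7, 11]

/-- Involutions of the first kind. -/
def E1 : List Nat := [10609779750160, 6951313557520, 2788329552400, 3747246088480, 8000053514800, 4915961926960, 11584926736960, 2853589572160, 9045840009040, 3468208417120, 11356272599920, 7228871574640, 5709968609920, 11096086099600, 1740074530720, 4842730443280, 9322567705360, 11224486155280, 3935573681680, 5807394088720, 7849694824720, 4988190994720, 6148357046560, 11504475984160, 10606195512880, 11623345887280, 10592300660800, 8978450954560, 7097871250000, 5044306584400, 11167788857680, 9458344620640, 8077249229920,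 11284777633120, 10617517982320, 5918895126640, 8322088723840, 11412421429120, 2479646915200, 3389912490640, 6701666542480, 2286857775760, 1457731699360, 1689905157280, 1341142832800]

/-- Involutions of the second kind. -/
def E2 : List Nat := [11443021238560, 11233521866320, 11082985382800, 10588824810880, 9458158753600, 9251784373360, 8339291775760, 7793893782160, 6882590267440, 5641282472320, 4987301819920, 4894486069840, 3926966708320, 2578718083600, 1410149737120, 11639766336880, 11584977114160, 11487213348880, 11343890903680, 11292031661920, 11147173529920, 10617532785520, 10615033905760, 10610585785360, 9184579182880, 9046365540880, 7922710516000, 7871154886960, 7250879083600, 7185919922800, 6753206417680, 6134952366640, 6015414253120, 5923458549520, 5048824901920, 4640463295840, 3734365119040, 3605728437520, 3402223757200, 2822923315840, 2789381388880, 2290132220560, 1732788979360, 1608873419680, 1452883261600]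

/-- Words moving `1` with `0` fixed. -/
def tT2 : List (List Nat) := [[3, 11, 2, 11, 1, 11, 2], [11, 7, 11, 10, 11], [4, 11, 2, 11, 9, 11], [6, 11, 3, 11, 10, 11, 1], [1, 11, 1, 11, 6, 11, 2, 11, 2], [1, 11, 4, 11, 5, 11, 2, 11, 8], [6, 11, 2, 11, 2, 11, 4], [1, 11, 7, 11, 7], [7, 11, 9, 11, 1, 11]]

/-- Words moving `2` with `0, 1` fixed. -/
def tT3 : List (List Nat) := [[7, 11, 1, 11, 2, 11, 10], [5, 11, 2, 11, 8], [1, 11, 1, 11, 8, 11, 7], [4, 11, 1, 11, 8, 11], [10, 11, 1, 11], [3, 11, 10, 11, 7], [2, 11, 7, 11, 2, 11, 2], [1, 11, 1, 11, 4, 11, 4, 11, 7]]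

/-- Words moving `3` with `0, 1, 2` fixed. -/
def tT4 : List (List Nat) := [[4, 11, 10, 11, 6], [5, 11, 1, 11, 7], [1, 11, 3, 11, 9, 11, 5], [6, 11, 2, 11, 8, 11, 10], [11], [3, 11, 1, 11, 9, 11, 9, 11, 2], [2, 11, 3, 11, 2, 11, 8, 11, 7]]

/-- The blocks. -/
def masks : List Nat := [47, 94, 115, 155, 188, 213, 230, 233, 285, 310, 331, 357, 376, 391, 426, 433, 460, 466, 565, 570, 583, 601, 620, 653, 662, 675, 714, 752, 782, 787, 809, 852, 866, 920, 932, 961, 1047, 1081, 1101, 1130, 1140, 1166, 1189, 1202, 1219, 1240, 1306, 1315, 1324, 1350, 1361, 1417, 1428, 1504, 1547, 1564, 1574, 1618, 1633, 1681, 1704, 1732, 1797, 1840, 1864, 1922]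

/-- Some program gives a short prime cycle. -/
def cert (env : List Nat) (ps : List (List Nat × List Bool)) : Bool :=
  ps.any fun p => let x := evalW env p.1; isPC (powB x p.2 x)

/-- Membership in a list. -/
def memN (l : List Nat) (a : Nat) : Bool := l.any (Nat.beq a)

/-- The test for an involution fixing `0`. -/
def testT (x : Nat) : Bool :=
  cert (cPows ++ [x]) progs || Nat.beq x idN || Nat.beq x negN || memN E1 x || memN E2 x

/-- The numeral of a list. -/
def ofL : List Nat → Nat
  | [a0,a1,a2,a3,a4,a5,a6,a7,a8,a9,a10] => mk11 a0 a1 a2 a3 a4 a5 a6 a7 a8 a9 a10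
  | _ => 0

/-- The test on partial involutions. -/
def guard : List Nat → Nat → Nat → Bool
  | [], _, _ => true
  | a :: t, k, v =>
    !(Nat.beq a v) && ((Nat.beq a k) == (Nat.beq v t.length)) && guard t k v

/-- Running over all involutions. -/
def dfs (T : List Nat → Bool) : Nat → Nat → List Nat → Bool
  | 0, _, prev => T prev.reverse
  | n + 1, k, prev =>
    (List.range 11).all fun v => !guard prev k v || dfs T n (k + 1) (v :: prev)

/-- Translations and their inverses. -/
def cPairs : List (Nat × Nat) := [(11649936536080,11649936536080),(728121033505,10477124133130),(1145019192370,9304311730345),(2270586955075,8131499330200),(3440446568020,6958686972295),(4613074421605,5785875290230),(5785875290230,4613074421605),(6958686972295,3440446568020),(8131499330200,2270586955075),(9304311730345,1145019192370),(10477124133130,728121033505)]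

/-- The conjugates under translations. -/
def conjL (x : Nat) : List Nat := cPairs.map fun p => comp (comp p.1 x) p.2

theorem check_cPairs : ∀ p ∈ cPairs, ∃ k : Fin 11, (∀ y : X, (y + ((k : ℕ) : X)).val = dig p.1 y.val) ∧
    (∀ y : X, (y - ((k : ℕ) : X)).val = dig p.2 y.val) := by decide +kernel

theorem check_tabA : tabA.all (fun r => Nat.beq (evalW (cPows ++ [r.1]) r.2.1) g1N &&
    Nat.beq (evalW (cPows ++ [g1N]) r.2.2) r.1) = true := by decide +kernel

theorem check_tabB : tabB.all (fun r => Nat.beq (evalW (cPows ++ [r.1]) r.2.1) g0N &&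
    Nat.beq (evalW (cPows ++ [g0N]) r.2.2) r.1) = true := by decide +kernel

theorem check_tabC : tabC.all (fun r => Nat.beq (evalW (conjL r.1) r.2) cN) = true := by decide +kernel

theorem check_E1 : E1 = tabA.map Prod.fst ++ tabB.map Prod.fst := by decide +kernel

theorem check_E1C : E1 = tabC.map Prod.fst := by decide +kernel

theorem check_wG : evalW (cPows ++ [g0N]) wG = g1N := by decide +kernel

theorem check_wMu : evalW (cPows ++ [g1N]) wMu = mu3N := by decide +kernel

theorem check_L2 : (negN :: E2).all (fun x => cert (cPows ++ [g1N, x]) progsL2) = true := by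
  decide +kernel

theorem check_E2 : E2.all (fun x => memN E1 (comp (comp negN x) negN)) = true := by decide +kernel

end Cfsg.Agent.Lib.Deg11Data
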