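import Mathlib

/-!
# Odd-order automorphisms of dihedral `2`-groups
-/

set_option autoImplicit false

namespace Cfsg.Agent.Lib.DihedralAut

lemma eq_one_of_pow_eq_one {k r u : ℕ} (hr : Odd r) (h : u ^ r ≡ 1 [MOD 2 ^ k]) (hk : k ≠ 0) : u ≡ 1 [MOD 2 ^ k] := by
  haveI : NeZero (2 ^ k) := ⟨by positivity⟩
  have h1 : ((u : ZMod (2 ^ k))) ^ r = 1 := by
    have := (ZMod.natCast_eq_natCast_iff (u ^ r) 1 (2 ^ k)).2 h
    simpa using this
  have hr0 : r ≠ 0 := by
    rintro rfl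
    simp at hr
  have hu : IsUnit (u : ZMod (2 ^ k)) := by
    apply IsUnit.of_pow_eq_one h1 hr0
  obtain ⟨w, hw⟩ := hu
  have h2 : w ^ r = 1 := by
    apply Units.ext
    rw [Units.val_pow_eq_pow_val, hw, h1, Units.val_one]
  have h3 : orderOf w ∣ r := orderOf_dvd_of_pow_eq_one h2
  have h4 : orderOf w ∣ Nat.card (ZMod (2 ^ k))ˣ := orderOf_dvd_natCard w
  have h5 : Nat.card (ZMod (2 ^ k))ˣ = 2 ^ (k - 1) := by
    rw [Nat.card_eq_fintype_card, ZMod.card_units_eq_totient, Nat.totient_prime_pow Nat.prime_two (Nat.pos_of_ne_zero hk)]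
    simp
  rw [h5] at h4
  have h6 : Nat.Coprime r (2 ^ (k - 1)) := Nat.Coprime.pow_right (k - 1) (Nat.coprime_two_right.2 hr)
  have h7 : orderOf w = 1 := Nat.Coprime.eq_one_of_dvd (Nat.Coprime.coprime_dvd_left h3 h6) h4
  have h8 : w = 1 := orderOf_eq_one_iff.1 h7
  have h9 : (u : ZMod (2 ^ k)) = 1 := by
    rw [← hw, h8, Units.val_one]
  have := (ZMod.natCast_eq_natCast_iff u 1 (2 ^ k)).1 (by simpa using h9)
  exact this

variable {S : Type*} [Group S]

/-- An automorphism of odd order of a dihedral `2`-group of order at least `8` is trivial. -/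
theorem eq_one_of_odd_order {c t : S} {k : ℕ} (hk : 2 ≤ k)
    (H1 : ∀ s : S, ∃ m : ℕ, s = c ^ m ∨ s = t * c ^ m) (H2 : orderOf c = 2 ^ k)
    (H3 : ∀ m : ℕ, (t * c ^ m) * (t * c ^ m) = 1) (H4 : ∀ m : ℕ, t ≠ c ^ m)
    (α : MulAut S) (hα : Odd (orderOf α)) : α = 1 := by
  set r := orderOf α with hr
  have hk0 : k ≠ 0 := by omega
  have hcc : c * c ≠ 1 := by
    intro h
    have h1 : orderOf c ∣ 2 := orderOf_dvd_of_pow_eq_one (by rw [sq]; exact h)
    rw [H2] at h1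
    have h2 : 2 ^ 2 ∣ 2 ^ k := pow_dvd_pow 2 hk
    have h3 := h2.trans h1
    omega
  -- `α` fixes `c`
  obtain ⟨u, hu⟩ : ∃ u : ℕ, α c = c ^ u := by
    obtain ⟨m, hm | hm⟩ := H1 (α c)
    · exact ⟨m, hm⟩
    · exfalso
      apply hcc
      apply α.injective
      rw [_root_.map_mul, hm, H3, _root_.map_one]
  have hpow : ∀ j : ℕ, (α ^ j) c = c ^ (u ^ j) := by
    intro j
    induction j with
    | zero => simp
    | succ j ih =>
      rw [pow_succ', MulAut.mul_apply, ih, map_pow, hu, ← pow_mul, pow_succ', ]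
  have h1 : c ^ (u ^ r) = c ^ 1 := by
    rw [← hpow r, hr, pow_orderOf_eq_one, pow_one]
    rfl
  have h2 : u ^ r ≡ 1 [MOD 2 ^ k] := by
    rw [← H2]
    exact (pow_eq_pow_iff_modEq).1 h1
  have h3 := eq_one_of_pow_eq_one hα h2 hk0
  have hc : α c = c := by
    rw [hu]
    have : c ^ u = c ^ 1 := pow_eq_pow_iff_modEq.2 (by rw [H2]; exact h3)
    rw [this, pow_one]
  have hcm : ∀ m : ℕ, α (c ^ m) = c ^ m := fun m => by rw [map_pow, hc]
  -- `α` fixes `t`
  obtain ⟨v, hv⟩ : ∃ v : ℕ, α t = t * c ^ v := by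
    obtain ⟨m, hm | hm⟩ := H1 (α t)
    · exfalso
      apply H4 m
      apply α.injective
      rw [hm, hcm]
    · exact ⟨m, hm⟩
  have htj : ∀ j : ℕ, (α ^ j) t = t * c ^ (j * v) := by
    intro j
    induction j with
    | zero => simp
    | succ j ih =>
      rw [pow_succ', MulAut.mul_apply, ih, _root_.map_mul, hv, hcm, mul_assoc, ← pow_add]
      congr 2
      ring
  have h4 : t * c ^ (r * v) = t := by
    rw [← htj r, hr, pow_orderOf_eq_one]
    rfl
  have h5 : c ^ (r * v) = 1 := by simpa using h4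
  have h6 : 2 ^ k ∣ r * v := by
    rw [← H2]
    exact orderOf_dvd_of_pow_eq_one h5
  have h7 : Nat.Coprime (2 ^ k) r := (Nat.Coprime.pow_left k (Nat.coprime_two_left.2 hα))
  have h8 : 2 ^ k ∣ v := h7.dvd_of_dvd_mul_left h6
  have h9 : c ^ v = 1 := by
    rw [← H2] at h8
    exact orderOf_dvd_iff_pow_eq_one.1 h8
  have ht : α t = t := by rw [hv, h9, mul_one]
  ext s
  obtain ⟨m, hm | hm⟩ := H1 s
  · rw [hm, hcm]; rfl
  · rw [hm, _root_.map_mul, ht, hcm]; rfl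

/-- All automorphisms of a dihedral `2`-group of order at least `8` have `2`-power order. -/
theorem isPGroup_mulAut [Finite S] {c t : S} {k : ℕ} (hk : 2 ≤ k)
    (H1 : ∀ s : S, ∃ m : ℕ, s = c ^ m ∨ s = t * c ^ m) (H2 : orderOf c = 2 ^ k)
    (H3 : ∀ m : ℕ, (t * c ^ m) * (t * c ^ m) = 1) (H4 : ∀ m : ℕ, t ≠ c ^ m) :
    IsPGroup 2 (MulAut S) := by
  haveI : Finite (MulAut S) := inferInstance
  rw [IsPGroup.iff_orderOf]
  intro α
  have hn : orderOf α ≠ 0 := (orderOf_pos α).ne'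
  obtain ⟨a, b, hb, hab⟩ := Nat.exists_eq_two_pow_mul_odd hn
  have h1 : orderOf (α ^ 2 ^ a) = b := by
    rw [orderOf_pow_of_dvd (by positivity) ⟨b, hab⟩, hab]
    exact Nat.mul_div_cancel_left _ (by positivity)
  have h2 : α ^ 2 ^ a = 1 := eq_one_of_odd_order hk H1 H2 H3 H4 _ (by rw [h1]; exact hb)
  have h3 : b = 1 := by
    rw [← h1, h2, orderOf_one]
  exact ⟨a, by rw [hab, h3, mul_one]⟩

end Cfsg.Agent.Lib.DihedralAut
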