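import Mathlib
import Cfsg.Prelude.Def_SporadicB
import Cfsg.Agent.Lib.Pres.Carmichael

/-!
# A double cover of the alternating group of degree 11 inside a centraliser

Nine lifts of three-cycles in the centraliser of an involution, permuted by an element of order nine modulo the
involution, together with a bound on the order of the centraliser.
-/

set_option autoImplicit false
set_option linter.all false

namespace Cfsg.Agent.Lib.DoubleA11

open Cfsg.Agent.Lib.Pres.Carmichael

section orbit

variable {Γ : Type*} [Group Γ]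

/-- The conjugates of `s` along the powers of `h`. -/
def uu (h s : Γ) (i : ℕ) : Γ := h ^ i * s * (h ^ i)⁻¹

theorem uu_add (h s : Γ) (i k : ℕ) : uu h s (i + k) = h ^ k * uu h s i * (h ^ k)⁻¹ := by
  unfold uu
  rw [add_comm i k, pow_add]
  group

theorem uu_nine (h s : Γ) (h9 : h ^ 9 = 1) (i : ℕ) : uu h s (i + 9) = uu h s i := by
  rw [uu_add, h9]
  simp

/-- The relation on a pair. -/
def RR (h s : Γ) (i j : ℕ) : Prop := (uu h s i * uu h s j) ^ 2 = 1

theorem RR_symm {h s : Γ} {i j : ℕ} (r : RR h s i j) : RR h s j i := by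
  unfold RR at *
  have e : (uu h s j * uu h s i) ^ 2 = uu h s j * (uu h s i * uu h s j) ^ 2 * (uu h s j)⁻¹ := by
    simp only [sq]
    group
  rw [e, r]
  simp

theorem RR_shift {h s : Γ} {i j : ℕ} (k : ℕ) (r : RR h s i j) : RR h s (i + k) (j + k) := by
  unfold RR at *
  rw [uu_add, uu_add]
  have e : (h ^ k * uu h s i * (h ^ k)⁻¹ * (h ^ k * uu h s j * (h ^ k)⁻¹)) ^ 2 =
      h ^ k * (uu h s i * uu h s j) ^ 2 * (h ^ k)⁻¹ := by
    rw [← conj_pow]
    congr 1
    group
  rw [e, r]
  simp

/-- The orbit relations: nine conjugates satisfying the Carmichael relations. -/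
theorem isCar_uu (h s : Γ) (h9 : h ^ 9 = 1) (s3 : s ^ 3 = 1) (r1 : RR h s 0 1) (r2 : RR h s 0 2) (r3 : RR h s 0 3)
    (r4 : RR h s 0 4) : IsCar (fun i : Fin 9 => uu h s i) := by
  have r0 : ∀ d, 1 ≤ d → d ≤ 4 → RR h s 0 d := by
    intro d h1 h2
    interval_cases d
    · exact r1
    · exact r2
    · exact r3
    · exact r4
  have r9 : ∀ d, 1 ≤ d → d ≤ 4 → RR h s 0 (9 - d) := by
    intro d h1 h2
    have a := RR_shift (9 - d) (RR_symm (r0 d h1 h2))
    have e1 : d + (9 - d) = 0 + 9 := by omega
    have e2 : (0 : ℕ) + (9 - d) = 9 - d := by omega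
    rw [e1, e2] at a
    unfold RR at a ⊢
    rwa [uu_nine h s h9] at a
  have rall : ∀ d, 1 ≤ d → d ≤ 8 → RR h s 0 d := by
    intro d h1 h2
    by_cases h3 : d ≤ 4
    · exact r0 d h1 h3
    · have := r9 (9 - d) (by omega) (by omega)
      have e : 9 - (9 - d) = d := by omega
      rwa [e] at this
  have rlt : ∀ i j : ℕ, i < j → j < 9 → RR h s i j := by
    intro i j h1 h2
    have a := RR_shift i (rall (j - i) (by omega) (by omega))
    have e1 : 0 + i = i := by omega
    have e2 : j - i + i = j := by omega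
    rwa [e1, e2] at a
  constructor
  · intro i
    show (h ^ (i : ℕ) * s * (h ^ (i : ℕ))⁻¹) ^ 3 = 1
    have e : (h ^ (i : ℕ) * s * (h ^ (i : ℕ))⁻¹) ^ 3 = h ^ (i : ℕ) * s ^ 3 * (h ^ (i : ℕ))⁻¹ := conj_pow
    rw [e, s3]
    simp
  · intro i j hij
    have hij' : (i : ℕ) ≠ j := fun e => hij (Fin.ext e)
    rcases lt_or_gt_of_ne hij' with h1 | h1
    · exact rlt i j h1 j.2
    · exact RR_symm (rlt j i h1 i.2)

end orbit

variable {X : Type*} [Group X] [Finite X]

theorem cent_mem {t y : X} (h : y * t = t * y) : y ∈ Subgroup.centralizer ({t} : Set X) :=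
  Subgroup.mem_centralizer_singleton_iff.mpr h

theorem card_A11 : Nat.card (alternatingGroup (Fin 9 ⊕ Bool)) = 19958400 := by
  haveI : Nontrivial (Fin 9 ⊕ Bool) := ⟨⟨Sum.inr true, Sum.inr false, by simp⟩⟩
  have h := two_mul_nat_card_alternatingGroup (α := Fin 9 ⊕ Bool)
  have h2 : Nat.card (Equiv.Perm (Fin 9 ⊕ Bool)) = 39916800 := by
    rw [Nat.card_eq_fintype_card, Fintype.card_perm]
    simp [Nat.factorial]
  omega

/-- The main statement. -/
theorem main {t h s : X} (ht2 : t ^ 2 = 1) (ht1 : t ≠ 1) (hh : h * t = t * h) (hs : s * t = t * s)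
    (h9 : h ^ 9 = 1 ∨ h ^ 9 = t) (s3 : s ^ 3 = 1)
    (p1 : (s * (h ^ 1 * s * (h ^ 1)⁻¹)) ^ 2 = t) (p2 : (s * (h ^ 2 * s * (h ^ 2)⁻¹)) ^ 2 = t)
    (p3 : (s * (h ^ 3 * s * (h ^ 3)⁻¹)) ^ 2 = t) (p4 : (s * (h ^ 4 * s * (h ^ 4)⁻¹)) ^ 2 = t)
    (hc : Nat.card (Subgroup.centralizer ({t} : Set X)) < 79833600) :
    Cfsg.IsNonsplitDoubleCover (Subgroup.centralizer ({t} : Set X)) (alternatingGroup (Fin 11)) := by
  classical
  let C := Subgroup.centralizer ({t} : Set X)
  let t' : C := ⟨t, cent_mem rfl⟩
  let h' : C := ⟨h, cent_mem hh⟩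
  let s' : C := ⟨s, cent_mem hs⟩
  have ht'c : ∀ y : C, y * t' = t' * y := by
    intro y
    apply Subtype.ext
    exact Subgroup.mem_centralizer_singleton_iff.mp y.2
  have ht'2 : t' ^ 2 = 1 := Subtype.ext ht2
  have ht'1 : t' ≠ 1 := fun e => ht1 (congrArg Subtype.val e)
  have hord : orderOf t' = 2 := orderOf_eq_prime ht'2 ht'1
  let Z : Subgroup C := Subgroup.zpowers t'
  have hZmem : ∀ y : C, y ∈ Z ↔ y = 1 ∨ y = t' := by
    intro y
    constructor
    · intro hy
      obtain ⟨k, rfl⟩ := Subgroup.mem_zpowers_iff.mp hy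
      rcases Int.emod_two_eq_zero_or_one k with hk | hk
      · left
        have : (2 : ℤ) ∣ k := Int.dvd_of_emod_eq_zero hk
        obtain ⟨m, rfl⟩ := this
        rw [zpow_mul]
        have : t' ^ (2 : ℤ) = 1 := by exact_mod_cast ht'2
        rw [this, one_zpow]
      · right
        have hk2 : k = 2 * (k / 2) + 1 := by omega
        rw [hk2, zpow_add, zpow_mul]
        have : t' ^ (2 : ℤ) = 1 := by exact_mod_cast ht'2
        rw [this, one_zpow]
        simp
    · rintro (rfl | rfl)
      · exact Z.one_mem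
      · exact Subgroup.mem_zpowers _
  have hZc : ∀ z ∈ Z, ∀ y : C, y * z = z * y := by
    intro z hz y
    rcases (hZmem z).mp hz with rfl | rfl
    · simp
    · exact ht'c y
  haveI hZn : Z.Normal := ⟨fun n hn g => by
    have e : g * n * g⁻¹ = n := by rw [hZc n hn g]; group
    rw [e]
    exact hn⟩
  have hZcard : Nat.card Z = 2 := by
    show Nat.card (Subgroup.zpowers t') = 2
    rw [Nat.card_zpowers, hord]
  let Γ := C ⧸ Z
  let mk : C →* Γ := QuotientGroup.mk' Z
  have hmk : ∀ y : C, mk y = 1 ↔ y ∈ Z := fun y => QuotientGroup.eq_one_iff y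
  -- the relations in the quotient
  have hh9 : (mk h') ^ 9 = 1 := by
    rw [← map_pow, hmk, hZmem]
    rcases h9 with e | e
    · left
      exact Subtype.ext e
    · right
      exact Subtype.ext e
  have hs3 : (mk s') ^ 3 = 1 := by
    rw [← map_pow, hmk, hZmem]
    left
    exact Subtype.ext s3
  have huu : ∀ i, uu (mk h') (mk s') i = mk (h' ^ i * s' * (h' ^ i)⁻¹) := by
    intro i
    simp [uu, map_mul, map_pow, map_inv]
  have rr : ∀ d, (s * (h ^ d * s * (h ^ d)⁻¹)) ^ 2 = t → RR (mk h') (mk s') 0 d := by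
    intro d hd
    unfold RR
    rw [huu, huu, ← map_mul, ← map_pow, hmk, hZmem]
    right
    apply Subtype.ext
    simpa using hd
  have hcar := isCar_uu (mk h') (mk s') hh9 hs3 (rr 1 p1) (rr 2 p2) (rr 3 p3) (rr 4 p4)
  obtain ⟨θ, hθ⟩ := exists_theta (fun i : Fin 9 => uu (mk h') (mk s') i) hcar
  -- the homomorphism is not trivial
  have hs'Z : s' ∉ Z := by
    intro hz
    rcases (hZmem s').mp hz with e | e
    · have e1 : s = 1 := congrArg Subtype.val e
      apply ht1
      rw [← p1, e1]
      simp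
    · have e1 : s = t := congrArg Subtype.val e
      apply ht1
      have : t ^ 3 = 1 := by rw [← e1]; exact s3
      have e2 : t ^ 3 = t ^ 2 * t := pow_succ _ _
      rw [e2, ht2, one_mul] at this
      exact this
  haveI hsimple : IsSimpleGroup (alternatingGroup (Fin 9 ⊕ Bool)) :=
    alternatingGroup.isSimpleGroup (by simp)
  have hθinj : Function.Injective θ := by
    rw [← MonoidHom.ker_eq_bot_iff]
    rcases (inferInstance : (θ.ker).Normal) |> IsSimpleGroup.eq_bot_or_eq_top_of_normal _ with e | e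
    · exact e
    · exfalso
      have h1 : θ (cycA (0 : Fin 9)) = 1 := by
        have : cycA (0 : Fin 9) ∈ θ.ker := by rw [e]; trivial
        exact this
      rw [hθ] at h1
      have h2 : uu (mk h') (mk s') ((0 : Fin 9) : ℕ) = mk s' := by simp [uu]
      rw [h2] at h1
      exact hs'Z ((hmk s').mp h1)
  -- cardinalities
  have hcardC : Nat.card C = Nat.card Γ * 2 := by
    have := Subgroup.card_eq_card_quotient_mul_card_subgroup Z
    rw [hZcard] at this
    exact this
  have hfinC : Finite C := inferInstance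
  haveI hfinΓ : Finite Γ := inferInstance
  have hrange : Nat.card θ.range = 19958400 := by
    rw [← card_A11]
    exact (Nat.card_congr (MonoidHom.ofInjective hθinj).toEquiv).symm
  have hsurj : Function.Surjective θ := by
    have h1 := Subgroup.card_mul_index θ.range
    rw [hrange] at h1
    have h2 : Nat.card Γ < 39916800 := by
      have : Nat.card C < 79833600 := hc
      omega
    have h3 : θ.range.index ≠ 0 := Subgroup.index_ne_zero_of_finite
    have h4 : θ.range.index = 1 := by omega
    have h5 : θ.range = ⊤ := Subgroup.index_eq_one.mp h4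
    exact MonoidHom.range_eq_top.mp h5
  let E : alternatingGroup (Fin 9 ⊕ Bool) ≃* Γ := MulEquiv.ofBijective θ ⟨hθinj, hsurj⟩
  have hcenterA : Subgroup.center (alternatingGroup (Fin 9 ⊕ Bool)) = ⊥ :=
    alternatingGroup.center_eq_bot (by simp)
  have hcenterE : Subgroup.center C = Z := by
    apply le_antisymm
    · intro z hz
      rw [← hmk]
      have hz' : ∀ y : C, y * z = z * y := fun y => (Subgroup.mem_center_iff.mp hz y)
      obtain ⟨a, ha⟩ := hsurj (mk z)
      have ha1 : a ∈ Subgroup.center (alternatingGroup (Fin 9 ⊕ Bool)) := by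
        rw [Subgroup.mem_center_iff]
        intro b
        apply hθinj
        rw [map_mul, map_mul, ha]
        obtain ⟨y, hy⟩ := QuotientGroup.mk'_surjective Z (θ b)
        have hy' : mk y = θ b := hy
        rw [← hy', ← map_mul, ← map_mul, hz' y]
      rw [hcenterA, Subgroup.mem_bot] at ha1
      rw [← ha, ha1, map_one]
    · intro z hz
      rw [Subgroup.mem_center_iff]
      intro y
      exact hZc z hz y
  refine ⟨?_, ?_, ?_⟩
  · show Nat.card (Subgroup.center C) = 2
    rw [hcenterE]
    exact hZcard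
  · refine ⟨(QuotientGroup.quotientMulEquivOfEq hcenterE).trans (E.symm.trans ?_)⟩
    exact Equiv.altCongrHom (finSumFinEquiv.symm.symm.trans (finCongr (by norm_num)) |>.symm.symm |> fun e =>
      ((Equiv.sumCongr (Equiv.refl (Fin 9)) finTwoEquiv.symm).trans e))
  · intro L hL
    -- the square of an element of the complement
    let y : C := s' * (h' ^ 1 * s' * (h' ^ 1)⁻¹)
    have hy : y ^ 2 = t' := by
      apply Subtype.ext
      simpa [y] using p1
    obtain ⟨⟨⟨z, hz⟩, ⟨l, hl⟩⟩, hzl⟩ := hL.existsUnique y |>.exists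
    have hzl' : z * l = y := hzl
    have hz2 : z ^ 2 = 1 := by
      have hz' : z ∈ Z := by rw [← hcenterE]; exact hz
      rcases (hZmem z).mp hz' with rfl | rfl
      · simp
      · exact ht'2
    have hl2 : l ^ 2 = t' := by
      rw [← hy, ← hzl']
      have hc1 : z * l = l * z := (Subgroup.mem_center_iff.mp hz l).symm
      rw [(show Commute z l from hc1).mul_pow, hz2, one_mul]
    have hmemL : t' ∈ L := by
      rw [← hl2]
      exact L.pow_mem hl 2
    have hmemZ : t' ∈ Subgroup.center C := by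
      rw [hcenterE]
      exact Subgroup.mem_zpowers _
    have hd := hL.disjoint
    rw [Subgroup.disjoint_def] at hd
    exact ht'1 (hd hmemZ hmemL)

end Cfsg.Agent.Lib.DoubleA11
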