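import Mathlib
import Cfsg.Agent.Lib.Fi22K5a

set_option autoImplicit false
set_option maxRecDepth 1000000
set_option linter.all false

namespace Cfsg.Agent.Lib.Fi22K

open Cfsg.Agent.Lib.OutTree36
open Cfsg.Agent.TcChain36.Out.Fi22

set_option Elab.async false

/-- The factorizations of a coset. -/
def cf0 : TF :=
  (.nd (.nd (.nd (.nd (.nd (.nd (.nd (.nd (.nd (.nd .nil (.lf [133])) (.nd (.lf [149]) (.lf [133, 149]))) (.nd (.nd (.lf [220]) (.lf [133, 220])) (.nd (.lf [149, 220]) (.lf [0, 140, 218])))) (.nd (.nd (.nd (.lf [34]) (.lf [34, 133])) (.nd (.lf [34, 149]) (.lf [34, 133, 149]))) (.nd (.nd (.lf [34, 220]) (.lf [34, 133, 220])) (.nd (.lf [34, 149, 220]) (.lf [107, 338, 384]))))) (.nd (.nd (.nd (.nd (.lf [251]) (.lf [133, 251])) (.nd (.lf [149, 251]) (.lf [133, 149, 251]))) (.nd (.nd (.lf [220, 251]) (.lf [107, 247, 324])) (.nd (.lf [34, 71, 175]) (.lf [109, 204,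 384])))) (.nd (.nd (.nd (.lf [34, 251]) (.lf [34, 133, 251])) (.nd (.lf [34, 149, 251]) (.lf [0, 107, 201]))) (.nd (.nd (.lf [34, 220, 251]) (.lf [0, 204, 249])) (.nd (.lf [71, 175]) (.lf [71, 133, 175])))))) (.nd (.nd (.nd (.nd (.nd (.lf [324]) (.lf [133, 324])) (.nd (.lf [149, 324]) (.lf [133, 149, 324]))) (.nd (.nd (.lf [220, 324]) (.lf [107, 247, 251])) (.nd (.lf [109, 314, 338]) (.lf [34, 172, 249])))) (.nd (.nd (.nd (.lf [34, 324]) (.lf [0, 71, 338])) (.nd (.lf [34, 149, 324]) (.lf [109, 140, 251]))) (.nd (.nd (.lf [34, 220, 324]) (.lf [149, 172, 249])) (.nd (.lf [0, 201, 247]) (.lf [172, 249]))))) (.nd (.nd (.nd (.nd (.lf [251, 324]) (.lf [107, 220, 247])) (.nd (.lf [0, 172, 204]) (.lf [34, 109, 140]))) (.nd (.nd (.lf [107, 133, 247]) (.lf [107, 247])) (.nd (.lf [140, 141, 201]) (.lf [0, 175, 338])))) (.nd (.nd (.nd (.lf [34, 251, 324]) (.lf [109, 140, 149]))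 (.nd (.lf [109, 133, 140]) (.lf [109, 140]))) (.nd (.nd (.lf [0, 109, 218]) (.lf [34, 107, 247])) (.nd (.lf [71, 175, 324]) (.lf [109, 140, 220]))))))) (.nd (.nd (.nd (.nd (.nd (.nd (.lf [249]) (.lf [133, 249])) (.nd (.lf [149, 249]) (.lf [133, 149, 249]))) (.nd (.nd (.lf [220, 249]) (.lf [71, 314, 384])) (.nd (.lf [107, 201, 204]) (.lf [34, 172, 324])))) (.nd (.nd (.nd (.lf [34, 249]) (.lf [34, 133, 249])) (.nd (.lf [0, 109, 384]) (.lf [71, 201, 218]))) (.nd (.nd (.lf [34, 220, 249]) (.lf [0, 204, 251])) (.nd (.lf [133, 172, 324]) (.lf [172, 324]))))) (.nd (.nd (.nd (.nd (.lf [249, 251]) (.lf [133, 249, 251])) (.nd (.lf [133, 141, 338]) (.lf [141, 338]))) (.nd (.nd (.lf [109, 140, 172]) (.lf [0, 34, 204])) (.nd (.lf [0, 247, 314]) (.lf [71, 107, 140])))) (.nd (.nd (.nd (.lf [34, 249, 251]) (.lf [0, 204, 220])) (.nd (.lf [107, 172, 247]) (.lf [34, 141, 338]))) (.nd (.nd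 (.lf [0, 133, 204]) (.lf [0, 204])) (.nd (.lf [71, 175, 249]) (.lf [0, 149, 204])))))) (.nd (.nd (.nd (.nd (.nd (.lf [249, 324]) (.lf [109, 204, 218])) (.nd (.lf [71, 140, 247]) (.lf [0, 107, 314]))) (.nd (.nd (.lf [0, 141, 175]) (.lf [34, 149, 172])) (.nd (.lf [34, 133, 172]) (.lf [34, 172])))) (.nd (.nd (.nd (.lf [34, 249, 324]) (.lf [141, 247, 384])) (.nd (.lf [133, 172, 220]) (.lf [172, 220]))) (.nd (.nd (.lf [71, 107, 109]) (.lf [149, 172])) (.nd (.lf [133, 172]) (.lf [172]))))) (.nd (.nd (.nd (.nd (.lf [34, 201, 314]) (.lf [0, 140, 384])) (.nd (.lf [107, 109, 175]) (.lf [141, 324, 338]))) (.nd (.nd (.lf [71, 204, 338]) (.lf [107, 247, 249])) (.nd (.lf [218, 384]) (.lf [34, 172, 251])))) (.nd (.nd (.nd (.lf [201, 314]) (.lf [107, 218, 338])) (.nd (.lf [0, 71, 141]) (.lf [109, 140, 249]))) (.nd (.nd (.lf [140, 175, 247]) (.lf [0, 204, 324])) (.nd (.lf [34, 218, 384])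 (.lf [172, 251])))))))) (.nd (.nd (.nd (.nd (.nd (.nd (.nd (.lf [109]) (.lf [109, 133])) (.nd (.lf [109, 149]) (.lf [71, 107, 172]))) (.nd (.nd (.lf [109, 220]) (.lf [34, 141, 201])) (.nd (.lf [109, 149, 220]) (.lf [175, 247, 249])))) (.nd (.nd (.nd (.lf [34, 109]) (.lf [34, 109, 133])) (.nd (.lf [0, 249, 384]) (.lf [140, 251, 324]))) (.nd (.nd (.lf [34, 109, 220]) (.lf [141, 201])) (.nd (.lf [107, 140, 247]) (.lf [0, 71, 314]))))) (.nd (.nd (.nd (.nd (.lf [109, 251]) (.lf [0, 175, 314])) (.nd (.lf [109, 149, 251]) (.lf [34, 140, 324]))) (.nd (.nd (.lf [109, 220, 251]) (.lf [71, 218, 338])) (.nd (.lf [0, 107, 141]) (.lf [204, 384])))) (.nd (.nd (.nd (.lf [34, 109, 251]) (.lf [71, 247, 249])) (.nd (.lf [133, 140, 324]) (.lf [140, 324]))) (.nd (.nd (.lf [0, 218, 324]) (.lf [107, 172, 175])) (.nd (.lf [71, 109, 175]) (.lf [34, 204, 384])))))) (.nd (.nd (.nd (.nd (.nd (.lf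 [109, 324]) (.lf [109, 133, 324])) (.nd (.lf [109, 149, 324]) (.lf [0, 141, 247]))) (.nd (.nd (.lf [109, 220, 324]) (.lf [0, 172, 384])) (.nd (.lf [314, 338]) (.lf [107, 201, 218])))) (.nd (.nd (.nd (.lf [34, 109, 324]) (.lf [107, 314, 384])) (.nd (.lf [71, 201, 204]) (.lf [140, 251]))) (.nd (.nd (.lf [0, 218, 251]) (.lf [141, 201, 324])) (.nd (.lf [34, 314, 338]) (.lf [109, 172, 249]))))) (.nd (.nd (.nd (.nd (.lf [71, 141, 384]) (.lf [34, 140, 149])) (.nd (.lf [34, 133, 140]) (.lf [34, 140]))) (.nd (.nd (.lf [0, 34, 218]) (.lf [107, 109, 247])) (.nd (.lf [71, 172, 247]) (.lf [34, 140, 220])))) (.nd (.nd (.nd (.lf [0, 218, 220]) (.lf [140, 149])) (.nd (.lf [133, 140]) (.lf [140]))) (.nd (.nd (.lf [0, 218]) (.lf [0, 133, 218])) (.nd (.lf [0, 149, 218]) (.lf [140, 220]))))))) (.nd (.nd (.nd (.nd (.nd (.nd (.lf [109, 249]) (.lf [109, 133, 249])) (.nd (.lf [0, 34, 384])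 (.lf [140, 201, 314]))) (.nd (.nd (.lf [109, 220, 249]) (.lf [0, 107, 338])) (.nd (.lf [71, 141, 218]) (.lf [175, 247])))) (.nd (.nd (.nd (.lf [0, 149, 384]) (.lf [71, 247, 251])) (.nd (.lf [0, 384]) (.lf [0, 133, 384]))) (.nd (.nd (.lf [71, 107, 324]) (.lf [140, 218, 384])) (.nd (.lf [0, 220, 384]) (.lf [34, 175, 247]))))) (.nd (.nd (.nd (.nd (.lf [109, 249, 251]) (.lf [34, 71, 247])) (.nd (.lf [71, 204, 314]) (.lf [0, 172, 218]))) (.nd (.nd (.lf [140, 172]) (.lf [133, 140, 172])) (.nd (.lf [34, 201, 338]) (.lf [175, 247, 251])))) (.nd (.nd (.nd (.lf [71, 133, 247]) (.lf [71, 247])) (.nd (.lf [0, 251, 384]) (.lf [71, 149, 247]))) (.nd (.nd (.lf [34, 140, 172]) (.lf [0, 109, 204])) (.nd (.lf [201, 338]) (.lf [107, 218, 314])))))) (.nd (.nd (.nd (.nd (.nd (.lf [109, 249, 324]) (.lf [204, 218])) (.nd (.lf [107, 175, 251]) (.lf [71, 338, 384]))) (.nd (.nd (.lf [34, 71,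 107]) (.lf [141, 251, 314])) (.nd (.lf [0, 140, 204]) (.lf [34, 109, 172])))) (.nd (.nd (.nd (.lf [71, 107, 220]) (.lf [0, 175, 201])) (.nd (.lf [0, 324, 384]) (.lf [109, 172, 220]))) (.nd (.nd (.lf [71, 107]) (.lf [71, 107, 133])) (.nd (.lf [71, 107, 149]) (.lf [109, 172]))))) (.nd (.nd (.nd (.nd (.lf [0, 247, 338]) (.lf [141, 220, 314])) (.nd (.lf [107, 175]) (.lf [34, 140, 249]))) (.nd (.nd (.lf [133, 141, 314]) (.lf [141, 314])) (.nd (.lf [107, 175, 220]) (.lf [0, 71, 201])))) (.nd (.nd (.nd (.lf [109, 201, 314]) (.lf [71, 247, 324])) (.nd (.lf [34, 107, 175]) (.lf [140, 249]))) (.nd (.nd (.lf [0, 218, 249]) (.lf [34, 141, 314])) (.nd (.lf [141, 204, 247]) (.lf [109, 172, 251]))))))))) (.nd (.nd (.nd (.nd (.nd (.nd (.nd (.nd (.lf [247]) (.lf [133, 247])) (.nd (.lf [149, 247]) (.lf [34, 204, 314]))) (.nd (.nd (.lf [220, 247]) (.lf [107, 251, 324])) (.nd (.lf [141,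 172, 384]) (.lf [71, 201, 338])))) (.nd (.nd (.nd (.lf [34, 247]) (.lf [34, 133, 247])) (.nd (.lf [34, 149, 247]) (.lf [204, 314]))) (.nd (.nd (.lf [34, 220, 247]) (.lf [0, 175, 384])) (.nd (.lf [0, 201, 324]) (.lf [141, 218, 251]))))) (.nd (.nd (.nd (.nd (.lf [247, 251]) (.lf [107, 220, 324])) (.nd (.lf [109, 201, 218]) (.lf [0, 71, 384]))) (.nd (.nd (.lf [107, 133, 324]) (.lf [107, 324])) (.nd (.lf [0, 249, 314]) (.lf [34, 141, 218])))) (.nd (.nd (.nd (.lf [0, 140, 141]) (.lf [71, 109, 249])) (.nd (.lf [107, 172, 249]) (.lf [141, 218, 220]))) (.nd (.nd (.lf [109, 314, 384]) (.lf [34, 107, 324])) (.nd (.lf [71, 175, 247]) (.lf [141, 218])))))) (.nd (.nd (.nd (.nd (.nd (.lf [247, 324]) (.lf [107, 220, 251])) (.nd (.lf [71, 140, 249]) (.lf [0, 109, 141]))) (.nd (.nd (.lf [107, 133, 251]) (.lf [107, 251])) (.nd (.lf [0, 34, 201]) (.lf [107, 149, 251])))) (.nd (.nd (.nd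 (.lf [34, 247, 324]) (.lf [140, 201, 218])) (.nd (.lf [0, 201, 220]) (.lf [71, 107, 175]))) (.nd (.nd (.lf [0, 149, 201]) (.lf [34, 107, 251])) (.nd (.lf [0, 201]) (.lf [0, 133, 201]))))) (.nd (.nd (.nd (.nd (.lf [107, 133, 220]) (.lf [107, 220])) (.nd (.lf [34, 338, 384]) (.lf [107, 149, 220]))) (.nd (.nd (.lf [107, 133]) (.lf [107])) (.nd (.lf [71, 109, 172]) (.lf [107, 149])))) (.nd (.nd (.nd (.lf [71, 204, 218]) (.lf [0, 172, 314])) (.nd (.lf [338, 384]) (.lf [109, 140, 247]))) (.nd (.nd (.lf [34, 107, 133]) (.lf [34, 107])) (.nd (.lf [0, 201, 251]) (.lf [34, 107, 149]))))))) (.nd (.nd (.nd (.nd (.nd (.nd (.lf [247, 249]) (.lf [0, 172, 201])) (.nd (.lf [71, 140, 324]) (.lf [107, 218, 384]))) (.nd (.nd (.lf [34, 218, 338]) (.lf [109, 149, 175])) (.nd (.lf [0, 251, 314]) (.lf [109, 175])))) (.nd (.nd (.nd (.lf [34, 247, 249]) (.lf [71, 109, 251])) (.nd (.lf [107, 172,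 251]) (.lf [0, 140, 338]))) (.nd (.nd (.lf [218, 338]) (.lf [107, 201, 314])) (.nd (.lf [71, 204, 384]) (.lf [34, 109, 175]))))) (.nd (.nd (.nd (.nd (.lf [175, 204, 384]) (.lf [34, 71, 109])) (.nd (.lf [0, 220, 314]) (.lf [141, 247, 338]))) (.nd (.nd (.lf [0, 149, 314]) (.lf [107, 249, 324])) (.nd (.lf [0, 314]) (.lf [0, 133, 314])))) (.nd (.nd (.nd (.lf [71, 109, 133]) (.lf [71, 109])) (.nd (.lf [107, 172]) (.lf [71, 109, 149]))) (.nd (.nd (.lf [140, 175, 324]) (.lf [0, 204, 247])) (.nd (.lf [0, 34, 314]) (.lf [140, 201, 384])))))) (.nd (.nd (.nd (.nd (.nd (.lf [71, 140, 149]) (.lf [34, 141, 384])) (.nd (.lf [71, 140]) (.lf [71, 133, 140]))) (.nd (.nd (.lf [109, 201, 384]) (.lf [0, 71, 218])) (.nd (.lf [71, 140, 220]) (.lf [34, 172, 247])))) (.nd (.nd (.nd (.lf [0, 107, 204]) (.lf [141, 384])) (.nd (.lf [34, 71, 140]) (.lf [141, 149, 384]))) (.nd (.nd (.lf [140, 175,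 251]) (.lf [141, 220, 384])) (.nd (.lf [0, 201, 249]) (.lf [172, 247]))))) (.nd (.nd (.nd (.nd (.lf [0, 109, 338]) (.lf [107, 220, 249])) (.nd (.lf [71, 140, 251]) (.lf [201, 204]))) (.nd (.nd (.lf [34, 140, 175]) (.lf [107, 249])) (.nd (.lf [0, 314, 324]) (.lf [107, 149, 249])))) (.nd (.nd (.nd (.lf [140, 175, 220]) (.lf [71, 109, 324])) (.nd (.lf [107, 172, 324]) (.lf [0, 175, 218]))) (.nd (.nd (.lf [140, 175]) (.lf [34, 107, 249])) (.nd (.lf [109, 141, 204]) (.lf [71, 314, 338])))))))) (.nd (.nd (.nd (.nd (.nd (.nd (.nd (.lf [109, 247]) (.lf [109, 133, 247])) (.nd (.lf [109, 149, 247]) (.lf [0, 141, 324]))) (.nd (.nd (.lf [0, 71, 204]) (.lf [149, 175, 249])) (.nd (.lf [34, 107, 140]) (.lf [175, 249])))) (.nd (.nd (.nd (.lf [34, 109, 247]) (.lf [0, 107, 218])) (.nd (.lf [71, 141, 338]) (.lf [109, 204, 314]))) (.nd (.nd (.lf [107, 140, 149]) (.lf [141, 201, 247])) (.nd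 (.lf [107, 140]) (.lf [34, 175, 249]))))) (.nd (.nd (.nd (.nd (.lf [109, 247, 251]) (.lf [34, 71, 249])) (.nd (.lf [201, 218]) (.lf [107, 314, 338]))) (.nd (.nd (.lf [34, 314, 384]) (.lf [0, 140, 201])) (.nd (.lf [71, 172, 324]) (.lf [175, 249, 251])))) (.nd (.nd (.nd (.lf [71, 133, 249]) (.lf [71, 249])) (.nd (.lf [0, 175, 204]) (.lf [71, 149, 249]))) (.nd (.nd (.lf [314, 384]) (.lf [71, 220, 249])) (.nd (.lf [107, 140, 251]) (.lf [0, 172, 338])))))) (.nd (.nd (.nd (.nd (.nd (.lf [34, 172, 175]) (.lf [0, 141, 149])) (.nd (.lf [0, 133, 141]) (.lf [0, 141]))) (.nd (.nd (.lf [140, 141, 218]) (.lf [34, 204, 338])) (.nd (.lf [71, 172, 251]) (.lf [0, 141, 220])))) (.nd (.nd (.nd (.lf [172, 175]) (.lf [133, 172, 175])) (.nd (.lf [149, 172, 175]) (.lf [0, 34, 141]))) (.nd (.nd (.lf [133, 204, 338]) (.lf [204, 338])) (.nd (.lf [0, 109, 201]) (.lf [71, 218, 384]))))) (.nd (.nd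 (.nd (.nd (.lf [0, 249, 338]) (.lf [107, 109, 220])) (.nd (.lf [71, 172, 220]) (.lf [0, 141, 251]))) (.nd (.nd (.lf [71, 149, 172]) (.lf [107, 109])) (.nd (.lf [71, 172]) (.lf [71, 133, 172])))) (.nd (.nd (.nd (.lf [107, 141, 201]) (.lf [71, 249, 324])) (.nd (.lf [109, 338, 384]) (.lf [140, 247]))) (.nd (.nd (.lf [0, 218, 247]) (.lf [34, 107, 109])) (.nd (.lf [34, 71, 172]) (.lf [140, 220, 247]))))))) (.nd (.nd (.nd (.nd (.nd (.nd (.lf [107, 141, 314]) (.lf [34, 71, 251])) (.nd (.lf [133, 175, 220]) (.lf [175, 220]))) (.nd (.nd (.lf [133, 149, 175]) (.lf [149, 175])) (.nd (.lf [133, 175]) (.lf [175])))) (.nd (.nd (.nd (.lf [71, 133, 251]) (.lf [71, 251])) (.nd (.lf [0, 247, 384]) (.lf [34, 175, 220]))) (.nd (.nd (.lf [0, 141, 172]) (.lf [34, 149, 175])) (.nd (.lf [34, 133, 175]) (.lf [34, 175]))))) (.nd (.nd (.nd (.nd (.lf [0, 324, 338]) (.lf [34, 71])) (.nd (.lf [140,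 141, 384]) (.lf [34, 71, 149]))) (.nd (.nd (.lf [107, 204, 218]) (.lf [34, 71, 220])) (.nd (.lf [0, 109, 314]) (.lf [175, 251])))) (.nd (.nd (.nd (.lf [71, 133]) (.lf [71])) (.nd (.lf [71, 133, 149]) (.lf [71, 149]))) (.nd (.nd (.lf [71, 133, 220]) (.lf [71, 220])) (.nd (.lf [141, 204, 324]) (.lf [34, 175, 251])))))) (.nd (.nd (.nd (.nd (.nd (.lf [0, 251, 338]) (.lf [107, 140, 172])) (.nd (.lf [34, 218, 314]) (.lf [0, 141, 249]))) (.nd (.nd (.lf [201, 384]) (.lf [133, 201, 384])) (.nd (.lf [133, 175, 324]) (.lf [175, 324])))) (.nd (.nd (.nd (.lf [149, 218, 314]) (.lf [71, 251, 324])) (.nd (.lf [218, 314]) (.lf [107, 201, 338]))) (.nd (.nd (.lf [34, 201, 384]) (.lf [0, 140, 314])) (.nd (.lf [141, 204, 251]) (.lf [34, 175, 324]))))) (.nd (.nd (.nd (.nd (.lf [0, 338]) (.lf [0, 133, 338])) (.nd (.lf [0, 149, 338]) (.lf [109, 201, 204]))) (.nd (.nd (.lf [0, 220, 338]) (.lf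 [107, 109, 249])) (.nd (.lf [34, 141, 204]) (.lf [140, 218, 338])))) (.nd (.nd (.nd (.lf [0, 34, 338]) (.lf [71, 324])) (.nd (.lf [141, 204, 220]) (.lf [71, 149, 324]))) (.nd (.nd (.lf [109, 140, 175]) (.lf [71, 220, 324])) (.nd (.lf [141, 204]) (.lf [0, 107, 384])))))))))) (.nd (.nd (.nd (.nd (.nd (.nd (.nd (.nd (.nd (.lf [0]) (.lf [0, 133])) (.nd (.lf [0, 149]) (.lf [0, 133, 149]))) (.nd (.nd (.lf [0, 220]) (.lf [0, 133, 220])) (.nd (.lf [0, 149, 220]) (.lf [140, 218])))) (.nd (.nd (.nd (.lf [0, 34]) (.lf [0, 34, 133])) (.nd (.lf [0, 34, 149]) (.lf [107, 201, 251]))) (.nd (.nd (.lf [0, 34, 220]) (.lf [175, 247, 384])) (.nd (.lf [141, 204, 338]) (.lf [34, 140, 218]))))) (.nd (.nd (.nd (.nd (.lf [0, 251]) (.lf [0, 133, 251])) (.nd (.lf [0, 149, 251]) (.lf [34, 107, 201]))) (.nd (.nd (.lf [0, 220, 251]) (.lf [34, 204, 249])) (.nd (.lf [107, 109, 141]) (.lf [140, 218,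 251])))) (.nd (.nd (.nd (.lf [0, 34, 251]) (.lf [107, 149, 201])) (.nd (.lf [107, 133, 201]) (.lf [107, 201]))) (.nd (.nd (.lf [109, 218, 324]) (.lf [204, 249])) (.nd (.lf [0, 71, 175]) (.lf [107, 201, 220])))))) (.nd (.nd (.nd (.nd (.nd (.lf [0, 324]) (.lf [0, 133, 324])) (.nd (.lf [0, 149, 324]) (.lf [107, 249, 314]))) (.nd (.nd (.lf [0, 220, 324]) (.lf [109, 172, 384])) (.nd (.lf [34, 201, 247]) (.lf [140, 218, 324])))) (.nd (.nd (.nd (.lf [0, 34, 324]) (.lf [71, 338])) (.nd (.lf [140, 175, 314]) (.lf [71, 149, 338]))) (.nd (.nd (.lf [109, 218, 251]) (.lf [71, 220, 338])) (.nd (.lf [201, 247]) (.lf [0, 172, 249]))))) (.nd (.nd (.nd (.nd (.lf [0, 251, 324]) (.lf [140, 249, 384])) (.nd (.lf [172, 204]) (.lf [133, 172, 204]))) (.nd (.nd (.lf [34, 109, 218]) (.lf [0, 107, 247])) (.nd (.lf [133, 175, 338]) (.lf [175, 338])))) (.nd (.nd (.nd (.lf [107, 175, 384]) (.lf [71,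 251, 338])) (.nd (.lf [34, 172, 204]) (.lf [0, 109, 140]))) (.nd (.nd (.lf [109, 218]) (.lf [109, 133, 218])) (.nd (.lf [109, 149, 218]) (.lf [34, 175, 338]))))))) (.nd (.nd (.nd (.nd (.nd (.nd (.lf [0, 249]) (.lf [0, 133, 249])) (.nd (.lf [0, 149, 249]) (.lf [71, 175, 204]))) (.nd (.nd (.lf [0, 220, 249]) (.lf [34, 204, 251])) (.nd (.lf [71, 172, 338]) (.lf [140, 218, 249])))) (.nd (.nd (.nd (.lf [0, 34, 249]) (.lf [141, 218, 314])) (.nd (.lf [109, 384]) (.lf [109, 133, 384]))) (.nd (.nd (.lf [71, 140, 201]) (.lf [204, 251])) (.nd (.lf [107, 175, 218]) (.lf [0, 172, 324]))))) (.nd (.nd (.nd (.nd (.lf [0, 249, 251]) (.lf [34, 204, 220])) (.nd (.lf [140, 175, 201]) (.lf [0, 141, 338]))) (.nd (.nd (.lf [34, 133, 204]) (.lf [34, 204])) (.nd (.lf [247, 314]) (.lf [34, 149, 204])))) (.nd (.nd (.nd (.lf [133, 204, 220]) (.lf [204, 220])) (.nd (.lf [71, 141, 324]) (.lf [107,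 201, 249]))) (.nd (.nd (.lf [133, 204]) (.lf [204])) (.nd (.lf [34, 247, 314]) (.lf [149, 204])))))) (.nd (.nd (.nd (.nd (.nd (.lf [0, 249, 324]) (.lf [107, 149, 314])) (.nd (.lf [107, 133, 314]) (.lf [107, 314]))) (.nd (.nd (.lf [141, 175]) (.lf [71, 218, 247])) (.nd (.lf [109, 140, 204]) (.lf [0, 34, 172])))) (.nd (.nd (.nd (.lf [107, 204, 247]) (.lf [71, 249, 338])) (.nd (.lf [71, 141, 251]) (.lf [0, 172, 220]))) (.nd (.nd (.lf [34, 141, 175]) (.lf [0, 149, 172])) (.nd (.lf [0, 133, 172]) (.lf [0, 172]))))) (.nd (.nd (.nd (.nd (.lf [109, 247, 338]) (.lf [140, 384])) (.nd (.lf [34, 71, 141]) (.lf [107, 251, 314]))) (.nd (.nd (.lf [107, 172, 201]) (.lf [34, 204, 324])) (.nd (.lf [0, 218, 384]) (.lf [71, 109, 201])))) (.nd (.nd (.nd (.lf [0, 201, 314]) (.lf [34, 140, 384])) (.nd (.lf [71, 141]) (.lf [71, 133, 141]))) (.nd (.nd (.lf [109, 218, 249]) (.lf [204, 324]))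 (.nd (.lf [71, 141, 220]) (.lf [0, 172, 251])))))))) (.nd (.nd (.nd (.nd (.nd (.nd (.nd (.lf [0, 109]) (.lf [0, 109, 133])) (.nd (.lf [0, 109, 149]) (.lf [141, 247, 324]))) (.nd (.nd (.lf [0, 109, 220]) (.lf [107, 249, 338])) (.nd (.lf [107, 141, 251]) (.lf [34, 71, 314])))) (.nd (.nd (.nd (.lf [0, 34, 109]) (.lf [107, 218, 247])) (.nd (.lf [249, 384]) (.lf [71, 220, 314]))) (.nd (.nd (.lf [140, 175, 338]) (.lf [0, 141, 201])) (.nd (.lf [71, 133, 314]) (.lf [71, 314]))))) (.nd (.nd (.nd (.nd (.lf [0, 109, 251]) (.lf [175, 314])) (.nd (.lf [71, 140, 338]) (.lf [149, 175, 314]))) (.nd (.nd (.lf [34, 218, 324]) (.lf [140, 201, 247])) (.nd (.lf [107, 141]) (.lf [0, 204, 384])))) (.nd (.nd (.nd (.lf [71, 172, 201]) (.lf [34, 175, 314])) (.nd (.lf [175, 204, 247]) (.lf [0, 140, 324]))) (.nd (.nd (.lf [218, 324]) (.lf [109, 204, 249])) (.nd (.lf [34, 107, 141]) (.lf [71, 251,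 314])))))) (.nd (.nd (.nd (.nd (.nd (.lf [0, 109, 324]) (.lf [141, 149, 247])) (.nd (.lf [71, 175, 218]) (.lf [141, 247]))) (.nd (.nd (.lf [34, 218, 251]) (.lf [172, 384])) (.nd (.lf [0, 314, 338]) (.lf [141, 220, 247])))) (.nd (.nd (.nd (.lf [141, 204, 314]) (.lf [71, 109, 338])) (.nd (.lf [107, 172, 338]) (.lf [0, 140, 251]))) (.nd (.nd (.lf [218, 251]) (.lf [34, 172, 384])) (.nd (.lf [109, 201, 247]) (.lf [71, 314, 324]))))) (.nd (.nd (.nd (.nd (.lf [34, 218, 220]) (.lf [71, 107, 204])) (.nd (.lf [109, 172, 204]) (.lf [0, 34, 140]))) (.nd (.nd (.lf [34, 218]) (.lf [34, 133, 218])) (.nd (.lf [34, 149, 218]) (.lf [71, 201, 249])))) (.nd (.nd (.nd (.lf [218, 220]) (.lf [0, 140, 149])) (.nd (.lf [0, 133, 140]) (.lf [0, 140]))) (.nd (.nd (.lf [218]) (.lf [133, 218])) (.nd (.lf [149, 218]) (.lf [0, 140, 220]))))))) (.nd (.nd (.nd (.nd (.nd (.nd (.lf [0, 109, 249]) (.lf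 [71, 140, 141])) (.nd (.lf [34, 384]) (.lf [34, 133, 384]))) (.nd (.nd (.lf [107, 133, 338]) (.lf [107, 338])) (.nd (.lf [34, 220, 384]) (.lf [0, 175, 247])))) (.nd (.nd (.nd (.lf [149, 384]) (.lf [133, 149, 384])) (.nd (.lf [384]) (.lf [133, 384]))) (.nd (.nd (.lf [141, 172, 247]) (.lf [34, 107, 338])) (.nd (.lf [220, 384]) (.lf [71, 249, 314]))))) (.nd (.nd (.nd (.nd (.lf [141, 201, 204]) (.lf [149, 172, 218])) (.nd (.lf [34, 251, 384]) (.lf [172, 218]))) (.nd (.nd (.lf [0, 140, 172]) (.lf [34, 109, 204])) (.nd (.lf [107, 141, 249]) (.lf [71, 201, 324])))) (.nd (.nd (.nd (.lf [107, 140, 314]) (.lf [0, 71, 247])) (.nd (.lf [251, 384]) (.lf [34, 172, 218]))) (.nd (.nd (.lf [109, 133, 204]) (.lf [109, 204])) (.nd (.lf [0, 201, 338]) (.lf [109, 149, 204])))))) (.nd (.nd (.nd (.nd (.nd (.lf [71, 172, 314]) (.lf [0, 204, 218])) (.nd (.lf [34, 324, 384]) (.lf [107, 109, 314])))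 (.nd (.nd (.lf [109, 141, 175]) (.lf [107, 324, 338])) (.nd (.lf [140, 204]) (.lf [71, 201, 251])))) (.nd (.nd (.nd (.lf [133, 175, 201]) (.lf [175, 201])) (.nd (.lf [324, 384]) (.lf [133, 324, 384]))) (.nd (.nd (.lf [0, 71, 107]) (.lf [140, 247, 314])) (.nd (.lf [34, 140, 204]) (.lf [0, 109, 172]))))) (.nd (.nd (.nd (.nd (.lf [247, 338]) (.lf [109, 140, 384])) (.nd (.lf [0, 107, 175]) (.lf [71, 201, 220]))) (.nd (.nd (.lf [34, 218, 249]) (.lf [0, 141, 314])) (.nd (.lf [71, 133, 201]) (.lf [71, 201])))) (.nd (.nd (.nd (.lf [34, 247, 338]) (.lf [107, 141, 172])) (.nd (.lf [71, 109, 141]) (.lf [0, 140, 249]))) (.nd (.nd (.lf [218, 249]) (.lf [109, 204, 324])) (.nd (.lf [149, 218, 249]) (.lf [34, 71, 201]))))))))) (.nd (.nd (.nd (.nd (.nd (.nd (.nd (.nd (.lf [0, 247]) (.lf [0, 133, 247])) (.nd (.lf [0, 149, 247]) (.lf [71, 251, 384]))) (.nd (.nd (.lf [0, 220, 247]) (.lf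 [34, 175, 384])) (.nd (.lf [34, 201, 324]) (.lf [107, 172, 204])))) (.nd (.nd (.nd (.lf [0, 34, 247]) (.lf [107, 109, 218])) (.nd (.lf [71, 172, 218]) (.lf [0, 204, 314]))) (.nd (.nd (.lf [133, 175, 384]) (.lf [175, 384])) (.nd (.lf [201, 324]) (.lf [133, 201, 324]))))) (.nd (.nd (.nd (.nd (.lf [0, 247, 251]) (.lf [71, 149, 384])) (.nd (.lf [71, 133, 384]) (.lf [71, 384]))) (.nd (.nd (.lf [149, 249, 314]) (.lf [0, 107, 324])) (.nd (.lf [249, 314]) (.lf [71, 220, 384])))) (.nd (.nd (.nd (.lf [140, 141]) (.lf [133, 140, 141])) (.nd (.lf [109, 175, 204]) (.lf [34, 71, 384]))) (.nd (.nd (.lf [71, 107, 338]) (.lf [175, 251, 384])) (.nd (.lf [34, 249, 314]) (.lf [0, 141, 218])))))) (.nd (.nd (.nd (.nd (.nd (.lf [0, 247, 324]) (.lf [109, 141, 149])) (.nd (.lf [34, 201, 220]) (.lf [109, 141]))) (.nd (.nd (.lf [34, 149, 201]) (.lf [0, 107, 251])) (.nd (.lf [34, 201]) (.lf [34,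 133, 201])))) (.nd (.nd (.nd (.lf [107, 204, 249]) (.lf [71, 247, 338])) (.nd (.lf [201, 220]) (.lf [34, 109, 141]))) (.nd (.nd (.lf [149, 201]) (.lf [133, 149, 201])) (.nd (.lf [201]) (.lf [133, 201]))))) (.nd (.nd (.nd (.nd (.lf [71, 175, 201]) (.lf [0, 107, 220])) (.nd (.lf [107, 140, 218]) (.lf [71, 324, 384]))) (.nd (.nd (.lf [0, 107, 133]) (.lf [0, 107])) (.nd (.lf [34, 201, 251]) (.lf [0, 107, 149])))) (.nd (.nd (.nd (.lf [133, 172, 314]) (.lf [172, 314])) (.nd (.lf [0, 338, 384]) (.lf [149, 172, 314]))) (.nd (.nd (.lf [109, 218, 247]) (.lf [0, 34, 107])) (.nd (.lf [201, 251]) (.lf [71, 140, 204]))))))) (.nd (.nd (.nd (.nd (.nd (.nd (.lf [0, 247, 249]) (.lf [172, 201])) (.nd (.lf [141, 204, 218]) (.lf [34, 140, 338]))) (.nd (.nd (.lf [107, 140, 384]) (.lf [71, 218, 324])) (.nd (.lf [251, 314]) (.lf [0, 109, 175])))) (.nd (.nd (.nd (.lf [71, 175, 314]) (.lf [34,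 172, 201])) (.nd (.lf [109, 247, 384]) (.lf [140, 338]))) (.nd (.nd (.lf [0, 218, 338]) (.lf [175, 249, 384])) (.nd (.lf [34, 251, 314]) (.lf [71, 107, 141]))))) (.nd (.nd (.nd (.nd (.lf [109, 324, 338]) (.lf [107, 141, 175])) (.nd (.lf [220, 314]) (.lf [71, 249, 384]))) (.nd (.nd (.lf [149, 314]) (.lf [34, 204, 247])) (.nd (.lf [314]) (.lf [133, 314])))) (.nd (.nd (.nd (.lf [140, 141, 249]) (.lf [0, 71, 109])) (.nd (.lf [0, 107, 172]) (.lf [140, 251, 338]))) (.nd (.nd (.lf [34, 149, 314]) (.lf [204, 247])) (.nd (.lf [34, 314]) (.lf [34, 133, 314])))))) (.nd (.nd (.nd (.nd (.nd (.lf [34, 107, 204]) (.lf [71, 218, 220])) (.nd (.lf [0, 71, 140]) (.lf [107, 247, 314]))) (.nd (.nd (.lf [71, 133, 218]) (.lf [71, 218])) (.nd (.lf [34, 201, 249]) (.lf [71, 149, 218])))) (.nd (.nd (.nd (.lf [107, 204]) (.lf [0, 141, 384])) (.nd (.lf [107, 149, 204]) (.lf [140, 324, 338]))) (.nd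 (.nd (.lf [107, 204, 220]) (.lf [34, 71, 218])) (.nd (.lf [201, 249]) (.lf [0, 172, 247]))))) (.nd (.nd (.nd (.nd (.lf [109, 338]) (.lf [109, 133, 338])) (.nd (.lf [109, 149, 338]) (.lf [0, 201, 204]))) (.nd (.nd (.lf [109, 220, 338]) (.lf [0, 107, 249])) (.nd (.lf [314, 324]) (.lf [133, 314, 324])))) (.nd (.nd (.nd (.lf [34, 109, 338]) (.lf [149, 175, 218])) (.nd (.lf [71, 141, 247]) (.lf [175, 218]))) (.nd (.nd (.lf [0, 140, 175]) (.lf [141, 201, 338])) (.nd (.lf [34, 314, 324]) (.lf [107, 109, 384])))))))) (.nd (.nd (.nd (.nd (.nd (.nd (.nd (.lf [0, 109, 247]) (.lf [34, 107, 218])) (.nd (.lf [133, 141, 324]) (.lf [141, 324]))) (.nd (.nd (.lf [71, 204]) (.lf [71, 133, 204])) (.nd (.lf [71, 149, 204]) (.lf [0, 175, 249])))) (.nd (.nd (.nd (.lf [107, 133, 218]) (.lf [107, 218])) (.nd (.lf [175, 204, 251]) (.lf [34, 141, 324]))) (.nd (.nd (.lf [34, 71, 204]) (.lf [107,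 218, 220])) (.nd (.lf [0, 107, 140]) (.lf [71, 247, 314]))))) (.nd (.nd (.nd (.nd (.lf [107, 172, 384]) (.lf [140, 201, 220])) (.nd (.lf [0, 201, 218]) (.lf [71, 109, 384]))) (.nd (.nd (.lf [71, 204, 251]) (.lf [140, 201])) (.nd (.lf [107, 141, 247]) (.lf [34, 172, 338])))) (.nd (.nd (.nd (.lf [109, 140, 141]) (.lf [0, 71, 249])) (.nd (.lf [175, 204]) (.lf [133, 175, 204]))) (.nd (.nd (.lf [0, 314, 384]) (.lf [34, 140, 201])) (.nd (.lf [133, 172, 338]) (.lf [172, 338])))))) (.nd (.nd (.nd (.nd (.nd (.lf [133, 141, 149]) (.lf [141, 149])) (.nd (.lf [133, 141]) (.lf [141]))) (.nd (.nd (.lf [71, 204, 324]) (.lf [141, 149, 220])) (.nd (.lf [34, 109, 201]) (.lf [141, 220])))) (.nd (.nd (.nd (.lf [0, 172, 175]) (.lf [34, 141, 149])) (.nd (.lf [34, 133, 141]) (.lf [34, 141]))) (.nd (.nd (.lf [109, 149, 201]) (.lf [0, 204, 338])) (.nd (.lf [109, 201]) (.lf [34, 141, 220])))))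 (.nd (.nd (.nd (.nd (.lf [249, 338]) (.lf [133, 249, 338])) (.nd (.lf [133, 141, 251]) (.lf [141, 251]))) (.nd (.nd (.lf [34, 218, 247]) (.lf [0, 107, 109])) (.nd (.lf [0, 71, 172]) (.lf [141, 220, 251])))) (.nd (.nd (.nd (.lf [34, 249, 338]) (.lf [109, 172, 314])) (.nd (.lf [71, 107, 314]) (.lf [0, 140, 247]))) (.nd (.nd (.lf [218, 247]) (.lf [71, 141, 175])) (.nd (.lf [109, 201, 251]) (.lf [107, 249, 384]))))))) (.nd (.nd (.nd (.nd (.nd (.nd (.lf [140, 175, 218]) (.lf [109, 172, 201])) (.nd (.lf [34, 247, 384]) (.lf [0, 175, 220]))) (.nd (.nd (.lf [34, 141, 172]) (.lf [0, 149, 175])) (.nd (.lf [0, 133, 175]) (.lf [0, 175])))) (.nd (.nd (.nd (.lf [141, 172, 220]) (.lf [0, 71, 251])) (.nd (.lf [247, 384]) (.lf [109, 140, 338]))) (.nd (.nd (.lf [141, 172]) (.lf [133, 141, 172])) (.nd (.lf [141, 149, 172]) (.lf [0, 34, 175]))))) (.nd (.nd (.nd (.nd (.lf [324, 338]) (.lf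 [0, 34, 71])) (.nd (.lf [109, 220, 314]) (.lf [107, 140, 204]))) (.nd (.nd (.lf [109, 149, 314]) (.lf [140, 201, 249])) (.nd (.lf [109, 314]) (.lf [0, 175, 251])))) (.nd (.nd (.nd (.lf [0, 71, 133]) (.lf [0, 71])) (.nd (.lf [175, 204, 249]) (.lf [0, 71, 149]))) (.nd (.nd (.lf [107, 175, 201]) (.lf [0, 71, 220])) (.nd (.lf [34, 109, 314]) (.lf [107, 324, 384])))))) (.nd (.nd (.nd (.nd (.nd (.lf [251, 338]) (.lf [133, 251, 338])) (.nd (.lf [133, 141, 249]) (.lf [141, 249]))) (.nd (.nd (.lf [0, 201, 384]) (.lf [34, 140, 314])) (.nd (.lf [107, 172, 218]) (.lf [0, 175, 324])))) (.nd (.nd (.nd (.lf [34, 251, 338]) (.lf [140, 220, 314])) (.nd (.lf [0, 218, 314]) (.lf [34, 141, 249]))) (.nd (.nd (.lf [133, 140, 314]) (.lf [140, 314])) (.nd (.lf [71, 175, 338]) (.lf [107, 251, 384]))))) (.nd (.nd (.nd (.nd (.lf [338]) (.lf [133, 338])) (.nd (.lf [149, 338]) (.lf [133, 149, 338])))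 (.nd (.nd (.lf [220, 338]) (.lf [133, 220, 338])) (.nd (.lf [109, 314, 324]) (.lf [34, 107, 384])))) (.nd (.nd (.nd (.lf [34, 338]) (.lf [0, 71, 324])) (.nd (.lf [34, 149, 338]) (.lf [107, 220, 384]))) (.nd (.nd (.lf [34, 220, 338]) (.lf [107, 149, 384])) (.nd (.lf [0, 141, 204]) (.lf [107, 384])))))))))))

theorem kf0 : chkF cf0 0 = true := by decide +kernel

/-- The factorizations of a coset. -/
def cf1 : TF :=
  (.nd (.nd (.nd (.nd (.nd (.nd (.nd (.nd (.nd (.nd (.lf [5, 21]) (.lf [5, 21, 133])) .nil) .nil) (.nd (.nd (.nd (.lf [5, 21, 34]) (.lf [0, 151, 347])) .nil) .nil)) .nil) (.nd (.nd (.nd (.nd (.nd (.lf [0, 6, 310]) (.lf [8, 77, 338])) .nil) .nil) (.nd (.nd (.nd (.lf [26, 71, 154]) (.lf [66, 192])) .nil) .nil)) .nil)) (.nd (.nd (.nd (.nd .nil (.nd (.nd (.lf [197, 273]) (.lf [71, 340, 349])) .nil)) (.nd .nil (.nd (.nd (.lf [34, 197, 273]) (.lf [0, 223, 225])) .nil)))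 .nil) (.nd (.nd (.nd .nil (.nd (.nd (.lf [0, 158, 161]) (.lf [34, 134, 190])) .nil)) (.nd .nil (.nd (.nd (.lf [71, 80, 121]) (.lf [134, 190])) .nil))) .nil))) .nil) (.nd .nil (.nd (.nd (.nd .nil (.nd (.nd .nil (.nd (.nd (.lf [34, 340, 349]) (.lf [0, 157, 177])) .nil)) (.nd .nil (.nd (.nd (.lf [340, 349]) (.lf [71, 197, 273])) .nil)))) (.nd .nil (.nd (.nd .nil (.nd (.nd (.lf [71, 134, 190]) (.lf [80, 121])) .nil)) (.nd .nil (.nd (.nd (.lf [0, 195, 230]) (.lf [34, 80, 121])) .nil))))) (.nd (.nd .nil (.nd (.nd (.nd (.nd (.lf [6, 310, 338]) (.lf [0, 8, 77])) .nil) .nil) (.nd (.nd (.nd (.lf [10, 51]) (.lf [5, 21, 71])) .nil) .nil))) (.nd .nil (.nd (.nd (.nd (.nd (.lf [26, 133, 154]) (.lf [26, 154])) .nil) .nil) (.nd (.nd (.nd (.lf [0, 98, 155]) (.lf [26, 34, 154])) .nil) .nil))))))) (.nd (.nd (.nd (.nd (.nd (.nd (.nd (.nd (.nd (.lf [0, 5, 21]) (.lf [26, 154, 338])) .nil)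 .nil) (.nd (.nd (.nd (.lf [8, 71, 77]) (.lf [151, 347])) .nil) .nil)) .nil) (.nd (.nd (.nd (.nd (.nd (.lf [6, 310]) (.lf [6, 133, 310])) .nil) .nil) (.nd (.nd (.nd (.lf [6, 34, 310]) (.lf [0, 66, 192])) .nil) .nil)) .nil)) (.nd (.nd (.nd (.nd .nil (.nd (.nd (.lf [0, 197, 273]) (.lf [34, 223, 225])) .nil)) (.nd .nil (.nd (.nd (.lf [71, 157, 177]) (.lf [223, 225])) .nil))) .nil) (.nd (.nd (.nd .nil (.nd (.nd (.lf [158, 161]) (.lf [71, 195, 230])) .nil)) (.nd .nil (.nd (.nd (.lf [34, 158, 161]) (.lf [0, 134, 190])) .nil))) .nil))) .nil) (.nd .nil (.nd (.nd (.nd .nil (.nd (.nd .nil (.nd (.nd (.lf [71, 223, 225]) (.lf [157, 177])) .nil)) (.nd .nil (.nd (.nd (.lf [0, 340, 349]) (.lf [34, 157, 177])) .nil)))) (.nd .nil (.nd (.nd .nil (.nd (.nd (.lf [34, 195, 230]) (.lf [0, 80, 121])) .nil)) (.nd .nil (.nd (.nd (.lf [195, 230]) (.lf [71, 158, 161])) .nil))))) (.nd (.nd .nil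 (.nd (.nd (.nd (.nd (.lf [8, 77, 133]) (.lf [8, 77])) .nil) .nil) (.nd (.nd (.nd (.lf [0, 10, 51]) (.lf [8, 34, 77])) .nil) .nil))) (.nd .nil (.nd (.nd (.nd (.nd (.lf [5, 21, 338]) (.lf [0, 26, 154])) .nil) .nil) (.nd (.nd (.nd (.lf [98, 155]) (.lf [6, 71, 310])) .nil) .nil))))))))

theorem kf1 : chkF cf1 1 = true := by decide +kernel

/-- The factorizations of a coset. -/
def cf2 : TF :=
  (.nd (.nd (.nd (.nd (.nd (.nd (.nd (.nd (.nd (.nd (.lf [5, 8]) (.lf [0, 66, 98])) .nil) .nil) (.nd (.nd (.nd (.lf [5, 8, 34]) (.lf [10, 151, 338])) .nil) .nil)) .nil) (.nd (.nd (.nd (.nd (.nd (.lf [5, 8, 324]) (.lf [21, 77, 338])) .nil) .nil) (.nd (.nd (.nd (.lf [51, 347]) (.lf [0, 6, 154])) .nil) .nil)) .nil)) .nil) (.nd (.nd (.nd .nil (.nd (.nd .nil (.nd .nil (.nd (.lf [0, 80, 158]) (.lf [225, 349])))) (.nd .nil (.nd .nil (.nd (.lf [71, 121, 161]) (.lf [34, 225, 349])))))) (.nd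 .nil (.nd (.nd .nil (.nd .nil (.nd (.lf [71, 190, 230]) (.lf [34, 157, 197])))) (.nd .nil (.nd .nil (.nd (.lf [0, 134, 195]) (.lf [157, 197]))))))) .nil)) (.nd (.nd .nil (.nd (.nd (.nd (.nd .nil (.nd .nil (.nd (.lf [0, 223, 340]) (.lf [121, 161])))) (.nd .nil (.nd .nil (.nd (.lf [71, 225, 349]) (.lf [34, 121, 161]))))) .nil) (.nd (.nd (.nd .nil (.nd .nil (.nd (.lf [71, 157, 197]) (.lf [34, 190, 230])))) (.nd .nil (.nd .nil (.nd (.lf [0, 177, 273]) (.lf [190, 230]))))) .nil))) (.nd .nil (.nd (.nd .nil (.nd (.nd (.nd (.nd (.lf [155, 192]) (.lf [0, 21, 77])) .nil) .nil) (.nd (.nd (.nd (.lf [26, 310, 324]) (.lf [5, 8, 71])) .nil) .nil))) (.nd .nil (.nd (.nd (.nd (.nd (.lf [26, 34, 310]) (.lf [51, 71, 347])) .nil) .nil) (.nd (.nd (.nd (.lf [26, 310]) (.lf [0, 10, 151])) .nil) .nil))))))) (.nd (.nd (.nd (.nd (.nd (.nd (.nd (.nd (.nd (.lf [0, 5, 8]) (.lf [66, 98])) .nil) .nil)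 (.nd (.nd (.nd (.lf [21, 71, 77]) (.lf [6, 154, 324])) .nil) .nil)) .nil) (.nd (.nd (.nd (.nd (.nd (.lf [10, 71, 151]) (.lf [6, 34, 154])) .nil) .nil) (.nd (.nd (.nd (.lf [0, 51, 347]) (.lf [6, 154])) .nil) .nil)) .nil)) .nil) (.nd (.nd (.nd .nil (.nd (.nd .nil (.nd .nil (.nd (.lf [80, 158]) (.lf [0, 225, 349])))) (.nd .nil (.nd .nil (.nd (.lf [34, 80, 158]) (.lf [71, 223, 340])))))) (.nd .nil (.nd (.nd .nil (.nd .nil (.nd (.lf [34, 134, 195]) (.lf [71, 177, 273])))) (.nd .nil (.nd .nil (.nd (.lf [134, 195]) (.lf [0, 157, 197]))))))) .nil)) (.nd (.nd .nil (.nd (.nd (.nd (.nd .nil (.nd .nil (.nd (.lf [223, 340]) (.lf [0, 121, 161])))) (.nd .nil (.nd .nil (.nd (.lf [34, 223, 340]) (.lf [71, 80, 158]))))) .nil) (.nd (.nd (.nd .nil (.nd .nil (.nd (.lf [34, 177, 273]) (.lf [71, 134, 195])))) (.nd .nil (.nd .nil (.nd (.lf [177, 273]) (.lf [0, 190, 230]))))) .nil))) (.nd .nil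 (.nd (.nd .nil (.nd (.nd (.nd (.nd (.lf [0, 155, 192]) (.lf [21, 77])) .nil) .nil) (.nd (.nd (.nd (.lf [51, 338, 347]) (.lf [10, 151, 324])) .nil) .nil))) (.nd .nil (.nd (.nd (.nd (.nd (.lf [5, 8, 338]) (.lf [10, 34, 151])) .nil) .nil) (.nd (.nd (.nd (.lf [0, 26, 310]) (.lf [10, 151])) .nil) .nil))))))))

theorem kf2 : chkF cf2 2 = true := by decide +kernel

/-- The factorizations of a coset. -/
def cf3 : TF :=
  (.nd (.nd (.nd (.nd (.nd (.nd (.nd (.nd (.nd (.nd (.lf [8, 21]) (.lf [8, 21, 133])) .nil) .nil) (.nd (.nd (.nd (.lf [8, 21, 34]) (.lf [154, 310])) .nil) .nil)) .nil) (.nd (.nd (.nd (.nd (.nd (.lf [8, 21, 324]) (.lf [0, 51, 151])) .nil) .nil) (.nd (.nd (.nd (.lf [0, 98, 192]) (.lf [10, 71, 347])) .nil) .nil)) .nil)) .nil) (.nd .nil (.nd (.nd .nil (.nd (.nd (.nd .nil (.nd (.lf [71, 223, 349]) (.lf [0, 134, 230]))) .nil) (.nd (.nd .nil (.nd (.lf [0, 225, 340])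 (.lf [71, 190, 195]))) .nil))) (.nd .nil (.nd (.nd (.nd .nil (.nd (.lf [121, 158]) (.lf [34, 177, 197]))) .nil) (.nd (.nd .nil (.nd (.lf [34, 121, 158]) (.lf [177, 197]))) .nil)))))) (.nd (.nd (.nd (.nd (.nd (.nd (.nd .nil (.nd (.lf [190, 195]) (.lf [34, 223, 349]))) .nil) (.nd (.nd .nil (.nd (.lf [34, 190, 195]) (.lf [223, 349]))) .nil)) .nil) (.nd (.nd (.nd (.nd .nil (.nd (.lf [71, 177, 197]) (.lf [0, 80, 161]))) .nil) (.nd (.nd .nil (.nd (.lf [0, 157, 273]) (.lf [71, 121, 158]))) .nil)) .nil)) .nil) (.nd .nil (.nd (.nd .nil (.nd (.nd (.nd (.nd (.lf [10, 324, 347]) (.lf [0, 5, 77])) .nil) .nil) (.nd (.nd (.nd (.lf [0, 6, 26]) (.lf [8, 21, 71])) .nil) .nil))) (.nd .nil (.nd (.nd (.nd (.nd (.lf [10, 347]) (.lf [10, 133, 347])) .nil) .nil) (.nd (.nd (.nd (.lf [10, 34, 347]) (.lf [66, 155])) .nil) .nil))))))) (.nd (.nd (.nd (.nd (.nd (.nd (.nd (.nd (.nd (.lf [0, 8, 21])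 (.lf [6, 26, 71])) .nil) .nil) (.nd (.nd (.nd (.lf [5, 71, 77]) (.lf [0, 154, 310])) .nil) .nil)) .nil) (.nd (.nd (.nd (.nd (.nd (.lf [34, 98, 192]) (.lf [51, 151])) .nil) .nil) (.nd (.nd (.nd (.lf [98, 192]) (.lf [34, 51, 151])) .nil) .nil)) .nil)) .nil) (.nd .nil (.nd (.nd .nil (.nd (.nd (.nd .nil (.nd (.lf [34, 225, 340]) (.lf [134, 230]))) .nil) (.nd (.nd .nil (.nd (.lf [225, 340]) (.lf [34, 134, 230]))) .nil))) (.nd .nil (.nd (.nd (.nd .nil (.nd (.lf [0, 121, 158]) (.lf [71, 157, 273]))) .nil) (.nd (.nd .nil (.nd (.lf [71, 80, 161]) (.lf [0, 177, 197]))) .nil)))))) (.nd (.nd (.nd (.nd (.nd (.nd (.nd .nil (.nd (.lf [0, 190, 195]) (.lf [71, 225, 340]))) .nil) (.nd (.nd .nil (.nd (.lf [71, 134, 230]) (.lf [0, 223, 349]))) .nil)) .nil) (.nd (.nd (.nd (.nd .nil (.nd (.lf [34, 157, 273]) (.lf [80, 161]))) .nil) (.nd (.nd .nil (.nd (.lf [157, 273]) (.lf [34, 80, 161])))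 .nil)) .nil)) .nil) (.nd .nil (.nd (.nd .nil (.nd (.nd (.nd (.nd (.lf [5, 77, 133]) (.lf [5, 77])) .nil) .nil) (.nd (.nd (.nd (.lf [6, 26]) (.lf [5, 34, 77])) .nil) .nil))) (.nd .nil (.nd (.nd (.nd (.nd (.lf [0, 10, 347]) (.lf [5, 77, 324])) .nil) .nil) (.nd (.nd (.nd (.lf [6, 26, 324]) (.lf [0, 66, 155])) .nil) .nil))))))))

theorem kf3 : chkF cf3 3 = true := by decide +kernel

/-- The factorizations of a coset. -/
def cf4 : TF :=
  (.nd (.nd (.nd (.nd (.nd (.nd (.nd (.nd (.nd (.nd (.lf [13, 19]) (.lf [13, 19, 133])) .nil) .nil) (.nd (.nd (.nd (.lf [13, 19, 34]) (.lf [391, 430])) .nil) .nil)) .nil) .nil) (.nd (.nd (.nd (.nd (.nd (.nd (.lf [13, 19, 249]) (.lf [31, 78, 140])) .nil) .nil) (.nd (.nd (.nd (.lf [116, 140, 252]) (.lf [107, 115, 357])) .nil) .nil)) .nil) .nil)) (.nd (.nd .nil (.nd .nil (.nd (.nd (.nd .nil (.nd (.lf [140, 391, 430]) (.lf [107, 216, 289]))) .nil)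 (.nd (.nd .nil (.nd (.lf [31, 78, 249]) (.lf [13, 19, 140]))) .nil)))) (.nd .nil (.nd .nil (.nd (.nd (.nd .nil (.nd (.lf [31, 34, 78]) (.lf [116, 252]))) .nil) (.nd (.nd .nil (.nd (.lf [31, 78]) (.lf [31, 78, 133]))) .nil)))))) (.nd (.nd (.nd .nil (.nd .nil (.nd (.nd .nil (.nd (.nd (.lf [116, 175, 252]) (.lf [13, 19, 107])) .nil)) (.nd .nil (.nd (.nd (.lf [107, 391, 430]) (.lf [31, 78, 175])) .nil))))) (.nd .nil (.nd .nil (.nd (.nd .nil (.nd (.nd (.lf [34, 115, 357]) (.lf [186, 403])) .nil)) (.nd .nil (.nd (.nd (.lf [115, 357]) (.lf [34, 186, 403])) .nil)))))) (.nd (.nd (.nd (.nd (.nd .nil (.nd .nil (.nd (.lf [216, 289]) (.lf [34, 307, 369])))) (.nd .nil (.nd .nil (.nd (.lf [34, 216, 289]) (.lf [307, 369]))))) .nil) .nil) (.nd (.nd (.nd (.nd .nil (.nd .nil (.nd (.lf [107, 116, 252]) (.lf [13, 19, 175])))) (.nd .nil (.nd .nil (.nd (.lf [140, 186, 403]) (.lf [31, 78, 107])))))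 .nil) .nil)))) (.nd (.nd (.nd (.nd (.nd .nil (.nd (.nd .nil (.nd .nil (.nd (.lf [28, 104, 107]) (.lf [140, 180, 418])))) (.nd .nil (.nd .nil (.nd (.lf [12, 18, 175]) (.lf [107, 112, 274])))))) .nil) (.nd (.nd .nil (.nd (.nd .nil (.nd .nil (.nd (.lf [333, 401]) (.lf [34, 240, 265])))) (.nd .nil (.nd .nil (.nd (.lf [34, 333, 401]) (.lf [240, 265])))))) .nil)) (.nd (.nd .nil (.nd (.nd (.nd .nil (.nd (.nd (.lf [34, 180, 418]) (.lf [111, 336])) .nil)) (.nd .nil (.nd (.nd (.lf [180, 418]) (.lf [34, 111, 336])) .nil))) .nil)) (.nd .nil (.nd (.nd (.nd .nil (.nd (.nd (.lf [28, 104, 175]) (.lf [107, 373, 435])) .nil)) (.nd .nil (.nd (.nd (.lf [12, 18, 107]) (.lf [112, 175, 274])) .nil))) .nil)))) (.nd (.nd (.nd .nil (.nd (.nd (.nd (.nd .nil (.nd (.lf [28, 104, 133]) (.lf [28, 104]))) .nil) (.nd (.nd .nil (.nd (.lf [112, 274]) (.lf [28, 34, 104]))) .nil)) .nil)) (.nd .nil (.nd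 (.nd (.nd (.nd .nil (.nd (.lf [12, 18, 140]) (.lf [28, 104, 249]))) .nil) (.nd (.nd .nil (.nd (.lf [107, 240, 265]) (.lf [140, 373, 435]))) .nil)) .nil))) (.nd (.nd (.nd .nil (.nd (.nd (.nd (.nd (.lf [107, 111, 336]) (.lf [112, 140, 274])) .nil) .nil) (.nd (.nd (.nd (.lf [28, 104, 140]) (.lf [12, 18, 249])) .nil) .nil))) .nil) (.nd (.nd .nil (.nd (.nd (.nd (.nd (.lf [373, 435]) (.lf [12, 18, 34])) .nil) .nil) (.nd (.nd (.nd (.lf [12, 18, 133]) (.lf [12, 18])) .nil) .nil))) .nil)))))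

theorem kf4 : chkF cf4 4 = true := by decide +kernel

/-- The factorizations of a coset. -/
def cf7 : TF :=
  (.nd (.nd (.nd (.nd (.nd (.nd (.nd (.nd (.nd (.nd (.lf [3, 32]) (.lf [3, 32, 133])) .nil) (.nd (.nd (.lf [3, 32, 220]) (.lf [41, 99, 201])) .nil)) (.nd (.nd (.nd (.lf [3, 32, 34]) (.lf [293, 436])) .nil) (.nd (.nd (.lf [92, 201, 233]) (.lf [89, 109, 365])) .nil))) .nil) .nil) (.nd .nil (.nd .nil (.nd (.nd (.nd .nil (.nd (.lf [39, 109, 126]) (.lf [141, 323, 437]))) (.nd .nil (.nd (.lf [351, 388]) (.lf [34, 227, 270])))) (.nd (.nd .nil (.nd (.lf [2, 29, 141]) (.lf [86, 109, 250]))) (.nd .nil (.nd (.lf [34, 351, 388]) (.lf [227, 270])))))))) (.nd (.nd (.nd (.nd (.nd (.nd (.nd (.lf [3, 32, 109]) (.lf [92, 141, 233])) .nil) (.nd (.nd (.lf [171, 402]) (.lf [34, 89, 365])) .nil)) (.nd (.nd (.nd (.lf [41, 99, 141]) (.lf [89, 220, 365])) .nil) (.nd (.nd (.lf [34, 171,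 402]) (.lf [89, 365])) .nil))) .nil) .nil) (.nd .nil (.nd .nil (.nd (.nd (.nd .nil (.nd (.lf [39, 126]) (.lf [34, 86, 250]))) (.nd .nil (.nd (.lf [39, 126, 220]) (.lf [2, 29, 201])))) (.nd (.nd .nil (.nd (.lf [34, 39, 126]) (.lf [86, 250]))) (.nd .nil (.nd (.lf [141, 166, 415]) (.lf [86, 220, 250]))))))))) .nil) (.nd .nil (.nd (.nd (.nd .nil (.nd (.nd (.nd (.nd .nil (.nd (.lf [92, 233]) (.lf [34, 41, 99]))) (.nd .nil (.nd (.lf [92, 220, 233]) (.lf [141, 171, 402])))) (.nd (.nd .nil (.nd (.lf [34, 92, 233]) (.lf [41, 99]))) (.nd .nil (.nd (.lf [3, 32, 201]) (.lf [41, 99, 220]))))) .nil)) (.nd (.nd .nil (.nd (.nd (.nd (.nd (.lf [84, 220, 400]) (.lf [39, 126, 141])) .nil) (.nd (.nd (.lf [84, 400]) (.lf [34, 166, 415])) .nil)) (.nd (.nd (.nd (.lf [86, 141, 250]) (.lf [2, 29, 109])) .nil) (.nd (.nd (.lf [34, 84, 400]) (.lf [166, 415])) .nil)))) .nil)) (.nd (.nd .nil (.nd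 (.nd (.nd (.nd .nil (.nd (.lf [92, 109, 233]) (.lf [3, 32, 141]))) (.nd .nil (.nd (.lf [207, 248]) (.lf [34, 321, 355])))) (.nd (.nd .nil (.nd (.lf [141, 293, 436]) (.lf [41, 99, 109]))) (.nd .nil (.nd (.lf [34, 207, 248]) (.lf [321, 355]))))) .nil)) (.nd (.nd .nil (.nd (.nd (.nd (.nd (.lf [323, 437]) (.lf [2, 29, 34])) .nil) (.nd (.nd (.lf [84, 109, 400]) (.lf [86, 201, 250])) .nil)) (.nd (.nd (.nd (.lf [2, 29, 133]) (.lf [2, 29])) .nil) (.nd (.nd (.lf [39, 126, 201]) (.lf [2, 29, 220])) .nil)))) .nil)))))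

theorem kf7 : chkF cf7 7 = true := by decide +kernel

end Cfsg.Agent.Lib.Fi22K
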