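import Mathlib
import Cfsg.Agent.Lib.Fi22K5a

set_option autoImplicit false
set_option maxRecDepth 1000000
set_option linter.all false

namespace Cfsg.Agent.Lib.Fi22K

open Cfsg.Agent.Lib.OutTree36
open Cfsg.Agent.TcChain36.Out.Fi22

set_option Elab.async false

/-- The factorizations of a coset. -/
def cf8 : TF :=
  (.nd (.nd (.nd (.nd (.nd (.nd (.nd (.nd (.nd (.nd (.lf [6, 21]) (.lf [6, 21, 133])) .nil) .nil) (.nd (.nd (.nd (.lf [6, 21, 34]) (.lf [0, 10, 98])) .nil) .nil)) (.nd (.nd (.nd .nil (.nd (.lf [190, 225]) (.lf [133, 190, 225]))) .nil) (.nd (.nd .nil (.nd (.lf [34, 190, 225]) (.lf [0, 121, 157]))) .nil))) (.nd (.nd (.nd (.nd (.nd (.lf [0, 5, 310]) (.lf [34, 51, 155])) .nil) .nil) (.nd (.nd (.nd (.lf [8, 26, 338]) (.lf [51, 155])) .nil) .nil)) (.nd (.nd (.nd .nil (.nd (.lf [0, 134, 223]) (.lf [34, 80, 177]))) .nil) (.nd (.nd .nil (.nd (.lf [80, 133,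 177]) (.lf [80, 177]))) .nil)))) .nil) .nil) (.nd .nil (.nd .nil (.nd (.nd (.nd (.nd (.nd .nil (.nd (.lf [133, 158, 273]) (.lf [158, 273]))) .nil) (.nd (.nd .nil (.nd (.lf [0, 195, 340]) (.lf [34, 158, 273]))) .nil)) (.nd (.nd (.nd (.nd (.lf [5, 310, 338]) (.lf [192, 347])) .nil) .nil) (.nd (.nd (.nd (.lf [0, 8, 26]) (.lf [6, 21, 71])) .nil) .nil))) (.nd (.nd (.nd (.nd .nil (.nd (.lf [34, 230, 349]) (.lf [0, 161, 197]))) .nil) (.nd (.nd .nil (.nd (.lf [230, 349]) (.lf [121, 157, 338]))) .nil)) (.nd (.nd (.nd (.nd (.lf [34, 77, 154]) (.lf [0, 66, 151])) .nil) .nil) (.nd (.nd (.nd (.lf [77, 154]) (.lf [10, 98, 338])) .nil) .nil))))))) (.nd (.nd (.nd (.nd (.nd (.nd (.nd (.nd (.nd (.lf [0, 6, 21]) (.lf [8, 26, 71])) .nil) .nil) (.nd (.nd (.nd (.lf [10, 98, 133]) (.lf [10, 98])) .nil) .nil)) (.nd (.nd (.nd .nil (.nd (.lf [0, 190, 225]) (.lf [34, 121, 157]))) .nil)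 (.nd (.nd .nil (.nd (.lf [121, 133, 157]) (.lf [121, 157]))) .nil))) (.nd (.nd (.nd (.nd (.nd (.lf [5, 310]) (.lf [5, 133, 310])) .nil) .nil) (.nd (.nd (.nd (.lf [5, 34, 310]) (.lf [0, 51, 155])) .nil) .nil)) (.nd (.nd (.nd .nil (.nd (.lf [134, 223]) (.lf [133, 134, 223]))) .nil) (.nd (.nd .nil (.nd (.lf [34, 134, 223]) (.lf [0, 80, 177]))) .nil)))) .nil) .nil) (.nd .nil (.nd .nil (.nd (.nd (.nd (.nd (.nd .nil (.nd (.lf [34, 195, 340]) (.lf [0, 158, 273]))) .nil) (.nd (.nd .nil (.nd (.lf [195, 340]) (.lf [80, 177, 338]))) .nil)) (.nd (.nd (.nd (.nd (.lf [8, 26, 34]) (.lf [0, 192, 347])) .nil) .nil) (.nd (.nd (.nd (.lf [8, 26]) (.lf [8, 26, 133])) .nil) .nil))) (.nd (.nd (.nd (.nd .nil (.nd (.lf [133, 161, 197]) (.lf [161, 197]))) .nil) (.nd (.nd .nil (.nd (.lf [0, 230, 349]) (.lf [34, 161, 197]))) .nil)) (.nd (.nd (.nd (.nd (.lf [6, 21, 338]) (.lf [66, 151]))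 .nil) .nil) (.nd (.nd (.nd (.lf [0, 77, 154]) (.lf [5, 71, 310])) .nil) .nil))))))))

theorem kf8 : chkF cf8 8 = true := by decide +kernel

/-- The factorizations of a coset. -/
def cf9 : TF :=
  (.nd (.nd (.nd (.nd (.nd (.nd (.nd (.nd (.nd (.nd (.lf [5, 6]) (.lf [5, 6, 133])) .nil) .nil) (.nd (.nd (.nd (.lf [5, 6, 34]) (.lf [26, 77])) .nil) .nil)) .nil) (.nd (.nd (.nd (.nd (.nd (.lf [0, 21, 310]) (.lf [51, 98, 338])) .nil) .nil) (.nd (.nd (.nd (.lf [10, 71, 155]) (.lf [0, 8, 154])) .nil) .nil)) .nil)) (.nd (.nd .nil (.nd (.nd .nil (.nd .nil (.nd (.lf [0, 230, 340]) (.lf [71, 80, 157])))) (.nd .nil (.nd .nil (.nd (.lf [71, 161, 273]) (.lf [0, 134, 225])))))) (.nd .nil (.nd (.nd .nil (.nd .nil (.nd (.lf [195, 349]) (.lf [34, 190, 223])))) (.nd .nil (.nd .nil (.nd (.lf [34, 195, 349]) (.lf [190, 223])))))))) .nil) (.nd .nil (.nd (.nd (.nd (.nd (.nd .nil (.nd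 .nil (.nd (.lf [34, 80, 157]) (.lf [161, 273])))) (.nd .nil (.nd .nil (.nd (.lf [80, 157]) (.lf [34, 161, 273]))))) .nil) (.nd (.nd (.nd .nil (.nd .nil (.nd (.lf [71, 190, 223]) (.lf [0, 158, 197])))) (.nd .nil (.nd .nil (.nd (.lf [0, 121, 177]) (.lf [71, 195, 349]))))) .nil)) (.nd (.nd .nil (.nd (.nd (.nd (.nd (.lf [21, 310, 338]) (.lf [0, 51, 98])) .nil) .nil) (.nd (.nd (.nd (.lf [0, 151, 192]) (.lf [5, 6, 71])) .nil) .nil))) (.nd .nil (.nd (.nd (.nd (.nd (.lf [10, 133, 155]) (.lf [10, 155])) .nil) .nil) (.nd (.nd (.nd (.lf [66, 347]) (.lf [10, 34, 155])) .nil) .nil))))))) (.nd (.nd (.nd (.nd (.nd (.nd (.nd (.nd (.nd (.lf [0, 5, 6]) (.lf [10, 155, 338])) .nil) .nil) (.nd (.nd (.nd (.lf [51, 71, 98]) (.lf [0, 26, 77])) .nil) .nil)) .nil) (.nd (.nd (.nd (.nd (.nd (.lf [21, 310]) (.lf [8, 34, 154])) .nil) .nil) (.nd (.nd (.nd (.lf [8, 133, 154]) (.lf [8, 154]))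 .nil) .nil)) .nil)) (.nd (.nd .nil (.nd (.nd .nil (.nd .nil (.nd (.lf [230, 340]) (.lf [34, 134, 225])))) (.nd .nil (.nd .nil (.nd (.lf [34, 230, 340]) (.lf [134, 225])))))) (.nd .nil (.nd (.nd .nil (.nd .nil (.nd (.lf [0, 195, 349]) (.lf [71, 121, 177])))) (.nd .nil (.nd .nil (.nd (.lf [71, 158, 197]) (.lf [0, 190, 223])))))))) .nil) (.nd .nil (.nd (.nd (.nd (.nd (.nd .nil (.nd .nil (.nd (.lf [71, 134, 225]) (.lf [0, 161, 273])))) (.nd .nil (.nd .nil (.nd (.lf [0, 80, 157]) (.lf [71, 230, 340]))))) .nil) (.nd (.nd (.nd .nil (.nd .nil (.nd (.lf [34, 121, 177]) (.lf [158, 197])))) (.nd .nil (.nd .nil (.nd (.lf [121, 177]) (.lf [34, 158, 197]))))) .nil)) (.nd (.nd .nil (.nd (.nd (.nd (.nd (.lf [34, 151, 192]) (.lf [51, 98])) .nil) .nil) (.nd (.nd (.nd (.lf [151, 192]) (.lf [34, 51, 98])) .nil) .nil))) (.nd .nil (.nd (.nd (.nd (.nd (.lf [5, 6, 338]) (.lf [0, 10,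 155])) .nil) .nil) (.nd (.nd (.nd (.lf [0, 66, 347]) (.lf [21, 71, 310])) .nil) .nil))))))))

theorem kf9 : chkF cf9 9 = true := by decide +kernel

/-- The factorizations of a coset. -/
def cf10 : TF :=
  (.nd (.nd (.nd (.nd (.nd (.nd (.nd (.nd (.nd (.nd (.lf [10, 34, 66]) (.lf [155, 347])) .nil) .nil) (.nd (.nd (.nd (.lf [10, 66]) (.lf [10, 66, 133])) .nil) .nil)) .nil) (.nd (.nd (.nd (.nd (.nd (.lf [0, 8, 310]) (.lf [6, 77, 338])) .nil) .nil) (.nd (.nd (.nd (.lf [5, 26, 338]) (.lf [0, 21, 154])) .nil) .nil)) .nil)) .nil) (.nd (.nd (.nd (.nd (.nd .nil (.nd (.nd (.lf [34, 134, 340]) (.lf [225, 230])) .nil)) (.nd .nil (.nd (.nd (.lf [134, 340]) (.lf [34, 225, 230])) .nil))) .nil) (.nd (.nd (.nd .nil (.nd (.nd (.lf [0, 157, 161]) (.lf [158, 177, 338])) .nil)) (.nd .nil (.nd (.nd (.lf [121, 197, 338]) (.lf [0, 80, 273])) .nil))) .nil)) .nil)) (.nd (.nd .nil (.nd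 (.nd .nil (.nd (.nd .nil (.nd (.nd (.lf [157, 161, 338]) (.lf [0, 158, 177])) .nil)) (.nd .nil (.nd (.nd (.lf [0, 121, 197]) (.lf [80, 273, 338])) .nil)))) (.nd .nil (.nd (.nd .nil (.nd (.nd (.lf [195, 223]) (.lf [34, 190, 349])) .nil)) (.nd .nil (.nd (.nd (.lf [34, 195, 223]) (.lf [190, 349])) .nil)))))) (.nd .nil (.nd (.nd .nil (.nd (.nd (.nd (.nd (.lf [8, 310, 338]) (.lf [0, 6, 77])) .nil) .nil) (.nd (.nd (.nd (.lf [0, 5, 26]) (.lf [21, 154, 338])) .nil) .nil))) (.nd .nil (.nd (.nd (.nd (.nd (.lf [98, 151]) (.lf [34, 51, 192])) .nil) .nil) (.nd (.nd (.nd (.lf [34, 98, 151]) (.lf [51, 192])) .nil) .nil))))))) (.nd (.nd (.nd (.nd (.nd (.nd (.nd (.nd (.nd (.lf [8, 310, 324]) (.lf [0, 155, 347])) .nil) .nil) (.nd (.nd (.nd (.lf [0, 10, 66]) (.lf [21, 154, 324])) .nil) .nil)) .nil) (.nd (.nd (.nd (.nd (.nd (.lf [8, 310]) (.lf [8, 133, 310])) .nil) .nil) (.nd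 (.nd (.nd (.lf [8, 34, 310]) (.lf [21, 154])) .nil) .nil)) .nil)) .nil) (.nd (.nd (.nd (.nd (.nd .nil (.nd (.nd (.lf [157, 161, 324]) (.lf [0, 225, 230])) .nil)) (.nd .nil (.nd (.nd (.lf [0, 134, 340]) (.lf [80, 273, 324])) .nil))) .nil) (.nd (.nd (.nd .nil (.nd (.nd (.lf [157, 161]) (.lf [34, 80, 273])) .nil)) (.nd .nil (.nd (.nd (.lf [34, 157, 161]) (.lf [80, 273])) .nil))) .nil)) .nil)) (.nd (.nd .nil (.nd (.nd .nil (.nd (.nd .nil (.nd (.nd (.lf [34, 121, 197]) (.lf [158, 177])) .nil)) (.nd .nil (.nd (.nd (.lf [121, 197]) (.lf [34, 158, 177])) .nil)))) (.nd .nil (.nd (.nd .nil (.nd (.nd (.lf [0, 195, 223]) (.lf [158, 177, 324])) .nil)) (.nd .nil (.nd (.nd (.lf [121, 197, 324]) (.lf [0, 190, 349])) .nil)))))) (.nd .nil (.nd (.nd .nil (.nd (.nd (.nd (.nd (.lf [5, 26, 34]) (.lf [6, 77])) .nil) .nil) (.nd (.nd (.nd (.lf [5, 26]) (.lf [5, 26, 133])) .nil) .nil)))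 (.nd .nil (.nd (.nd (.nd (.nd (.lf [0, 98, 151]) (.lf [6, 77, 324])) .nil) .nil) (.nd (.nd (.nd (.lf [5, 26, 324]) (.lf [0, 51, 192])) .nil) .nil))))))))

theorem kf10 : chkF cf10 10 = true := by decide +kernel

/-- The factorizations of a coset. -/
def cf11 : TF :=
  (.nd (.nd (.nd (.nd (.nd (.nd (.nd (.nd (.nd (.nd (.lf [6, 8]) (.lf [6, 8, 133])) .nil) .nil) (.nd (.nd (.nd (.lf [0, 151, 155]) (.lf [51, 66, 71])) .nil) .nil)) .nil) (.nd (.nd (.nd (.nd (.nd (.lf [6, 8, 324]) (.lf [10, 192])) .nil) .nil) (.nd (.nd (.nd (.lf [21, 26, 338]) (.lf [0, 5, 154])) .nil) .nil)) .nil)) .nil) (.nd .nil (.nd (.nd (.nd (.nd (.nd (.nd (.lf [161, 177]) (.lf [133, 161, 177])) .nil) .nil) (.nd (.nd (.nd (.lf [0, 195, 225]) (.lf [71, 190, 340])) .nil) .nil)) .nil) (.nd (.nd (.nd (.nd (.nd (.lf [133, 134, 349]) (.lf [134, 349])) .nil) .nil) (.nd (.nd (.nd (.lf [71, 157, 158])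 (.lf [0, 121, 273])) .nil) .nil)) .nil)))) (.nd (.nd (.nd (.nd .nil (.nd (.nd (.nd (.nd (.lf [190, 340]) (.lf [133, 190, 340])) .nil) .nil) (.nd (.nd (.nd (.lf [0, 80, 197]) (.lf [71, 161, 177])) .nil) .nil))) (.nd .nil (.nd (.nd (.nd (.nd (.lf [133, 157, 158]) (.lf [157, 158])) .nil) .nil) (.nd (.nd (.nd (.lf [71, 134, 349]) (.lf [0, 223, 230])) .nil) .nil)))) .nil) (.nd .nil (.nd (.nd .nil (.nd (.nd (.nd (.nd (.lf [51, 66]) (.lf [51, 66, 133])) .nil) .nil) (.nd (.nd (.nd (.lf [0, 21, 26]) (.lf [5, 154, 338])) .nil) .nil))) (.nd .nil (.nd (.nd (.nd (.nd (.lf [51, 66, 324]) (.lf [77, 310])) .nil) .nil) (.nd (.nd (.nd (.lf [10, 71, 192]) (.lf [0, 98, 347])) .nil) .nil))))))) (.nd (.nd (.nd (.nd (.nd (.nd (.nd (.nd (.nd (.lf [0, 6, 8]) (.lf [21, 26, 71])) .nil) .nil) (.nd (.nd (.nd (.lf [151, 155]) (.lf [5, 154, 324])) .nil) .nil)) .nil) (.nd (.nd (.nd (.nd (.nd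 (.lf [51, 66, 338]) (.lf [0, 10, 192])) .nil) .nil) (.nd (.nd (.nd (.lf [5, 133, 154]) (.lf [5, 154])) .nil) .nil)) .nil)) .nil) (.nd .nil (.nd (.nd (.nd (.nd (.nd (.nd (.lf [0, 161, 177]) (.lf [71, 80, 197])) .nil) .nil) (.nd (.nd (.nd (.lf [195, 225]) (.lf [121, 273, 324])) .nil) .nil)) .nil) (.nd (.nd (.nd (.nd (.nd (.lf [71, 223, 230]) (.lf [0, 134, 349])) .nil) .nil) (.nd (.nd (.nd (.lf [121, 133, 273]) (.lf [121, 273])) .nil) .nil)) .nil)))) (.nd (.nd (.nd (.nd .nil (.nd (.nd (.nd (.nd (.lf [0, 190, 340]) (.lf [71, 195, 225])) .nil) .nil) (.nd (.nd (.nd (.lf [80, 197]) (.lf [80, 133, 197])) .nil) .nil))) (.nd .nil (.nd (.nd (.nd (.nd (.lf [71, 121, 273]) (.lf [0, 157, 158])) .nil) .nil) (.nd (.nd (.nd (.lf [80, 197, 324]) (.lf [223, 230])) .nil) .nil)))) .nil) (.nd .nil (.nd (.nd .nil (.nd (.nd (.nd (.nd (.lf [0, 51, 66]) (.lf [10, 192, 338])) .nil) .nil)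 (.nd (.nd (.nd (.lf [21, 26]) (.lf [21, 26, 133])) .nil) .nil))) (.nd .nil (.nd (.nd (.nd (.nd (.lf [5, 71, 154]) (.lf [0, 77, 310])) .nil) .nil) (.nd (.nd (.nd (.lf [21, 26, 324]) (.lf [98, 347])) .nil) .nil))))))))

theorem kf11 : chkF cf11 11 = true := by decide +kernel

/-- The factorizations of a coset. -/
def cf13 : TF :=
  (.nd (.nd (.nd (.nd (.nd (.nd (.nd (.nd (.nd (.nd (.lf [34, 42, 53]) (.lf [304, 346])) .nil) .nil) (.nd (.nd (.nd (.lf [42, 53]) (.lf [34, 304, 346])) .nil) .nil)) (.nd (.nd (.nd (.nd (.lf [170, 380, 384]) (.lf [169, 218, 419])) .nil) .nil) (.nd (.nd (.nd (.lf [42, 53, 251]) (.lf [113, 266, 384])) .nil) .nil))) .nil) (.nd .nil (.nd (.nd (.nd .nil (.nd .nil (.nd (.lf [170, 218, 380]) (.lf [42, 53, 172])))) (.nd .nil (.nd .nil (.nd (.lf [132, 384, 392]) (.lf [113, 218, 266]))))) (.nd (.nd .nil (.nd .nil (.nd (.lf [320, 411]) (.lf [34,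 205, 294])))) (.nd .nil (.nd .nil (.nd (.lf [34, 320, 411]) (.lf [205, 294])))))))) .nil) (.nd (.nd (.nd (.nd (.nd (.nd (.nd .nil (.nd (.lf [34, 110, 290]) (.lf [165, 345]))) .nil) (.nd (.nd .nil (.nd (.lf [110, 290]) (.lf [34, 165, 345]))) .nil)) (.nd (.nd (.nd .nil (.nd (.lf [130, 172, 372]) (.lf [165, 251, 345]))) .nil) (.nd (.nd .nil (.nd (.lf [110, 251, 290]) (.lf [40, 52, 384]))) .nil))) .nil) (.nd .nil (.nd (.nd (.nd .nil (.nd (.nd (.lf [187, 251, 426]) (.lf [110, 172, 290])) .nil)) (.nd .nil (.nd (.nd (.lf [165, 172, 345]) (.lf [40, 52, 218])) .nil))) (.nd (.nd .nil (.nd (.nd (.lf [187, 426]) (.lf [34, 130, 372])) .nil)) (.nd .nil (.nd (.nd (.lf [34, 187, 426]) (.lf [130, 372])) .nil)))))) .nil)) (.nd (.nd .nil (.nd (.nd .nil (.nd (.nd (.nd .nil (.nd (.nd (.lf [132, 392]) (.lf [34, 169, 419])) .nil)) (.nd .nil (.nd (.nd (.lf [34, 132, 392]) (.lf [169,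 419])) .nil))) (.nd (.nd .nil (.nd (.nd (.lf [42, 53, 218]) (.lf [170, 172, 380])) .nil)) (.nd .nil (.nd (.nd (.lf [113, 172, 266]) (.lf [169, 251, 419])) .nil))))) (.nd (.nd (.nd (.nd (.nd .nil (.nd (.lf [42, 53, 384]) (.lf [113, 251, 266]))) .nil) (.nd (.nd .nil (.nd (.lf [170, 251, 380]) (.lf [132, 172, 392]))) .nil)) (.nd (.nd (.nd .nil (.nd (.lf [34, 170, 380]) (.lf [113, 266]))) .nil) (.nd (.nd .nil (.nd (.lf [170, 380]) (.lf [34, 113, 266]))) .nil))) .nil))) (.nd .nil (.nd (.nd .nil (.nd (.nd (.nd .nil (.nd .nil (.nd (.lf [179, 271]) (.lf [34, 291, 390])))) (.nd .nil (.nd .nil (.nd (.lf [34, 179, 271]) (.lf [291, 390]))))) (.nd (.nd .nil (.nd .nil (.nd (.lf [110, 218, 290]) (.lf [130, 372, 384])))) (.nd .nil (.nd .nil (.nd (.lf [40, 52, 172]) (.lf [165, 218, 345]))))))) (.nd (.nd (.nd (.nd (.nd (.nd (.lf [110, 290, 384]) (.lf [40, 52, 251])) .nil) .nil)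 (.nd (.nd (.nd (.lf [187, 218, 426]) (.lf [165, 345, 384])) .nil) .nil)) (.nd (.nd (.nd (.nd (.lf [34, 327, 383]) (.lf [40, 52])) .nil) .nil) (.nd (.nd (.nd (.lf [327, 383]) (.lf [34, 40, 52])) .nil) .nil))) .nil)))))

theorem kf13 : chkF cf13 13 = true := by decide +kernel

/-- The factorizations of a coset. -/
def cf14 : TF :=
  (.nd (.nd (.nd (.nd (.nd (.nd (.nd (.nd (.nd (.nd (.lf [23, 34, 88]) (.lf [326, 379])) (.nd (.lf [87, 245, 247]) (.lf [63, 314, 329]))) .nil) (.nd (.nd (.nd (.lf [23, 88]) (.lf [23, 88, 133])) (.nd (.lf [23, 88, 149]) (.lf [188, 247, 407]))) .nil)) .nil) .nil) .nil) (.nd (.nd (.nd (.nd (.nd .nil (.nd (.nd (.lf [34, 61, 364]) (.lf [183, 393])) (.nd (.lf [82, 204, 269]) (.lf [22, 83, 314])))) (.nd .nil (.nd (.nd (.lf [61, 364]) (.lf [34, 183, 393])) (.nd (.lf [61, 149, 364]) (.lf [182, 204, 382]))))) .nil) .nil) .nil)) (.nd (.nd (.nd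 (.nd (.nd (.nd (.nd (.nd (.lf [87, 149, 245]) (.lf [189, 204, 368])) (.nd (.lf [87, 245]) (.lf [34, 188, 407]))) .nil) (.nd (.nd (.nd (.lf [23, 88, 247]) (.lf [149, 188, 407])) (.nd (.lf [34, 87, 245]) (.lf [188, 407]))) .nil)) .nil) .nil) .nil) (.nd (.nd (.nd (.nd (.nd .nil (.nd (.nd (.lf [149, 241, 264]) (.lf [183, 247, 393])) (.nd (.lf [241, 264]) (.lf [34, 330, 337])))) (.nd .nil (.nd (.nd (.lf [22, 83, 204]) (.lf [82, 269, 314])) (.nd (.lf [34, 241, 264]) (.lf [330, 337]))))) .nil) .nil) .nil))) (.nd (.nd (.nd .nil (.nd (.nd .nil (.nd (.nd .nil (.nd (.nd (.lf [87, 245, 314]) (.lf [23, 88, 204])) (.nd (.lf [366, 371]) (.lf [34, 242, 263])))) (.nd .nil (.nd (.nd (.lf [189, 247, 368]) (.lf [149, 242, 263])) (.nd (.lf [34, 366, 371]) (.lf [242, 263])))))) .nil)) (.nd .nil (.nd (.nd .nil (.nd (.nd (.nd (.nd (.lf [149, 182, 382]) (.lf [22, 83, 247])) (.nd (.lf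 [182, 382]) (.lf [34, 82, 269]))) .nil) (.nd (.nd (.nd (.lf [183, 204, 393]) (.lf [82, 149, 269])) (.nd (.lf [34, 182, 382]) (.lf [82, 269]))) .nil))) .nil))) (.nd (.nd .nil (.nd (.nd .nil (.nd (.nd .nil (.nd (.nd (.lf [34, 189, 368]) (.lf [63, 329])) (.nd (.lf [188, 204, 407]) (.lf [63, 149, 329])))) (.nd .nil (.nd (.nd (.lf [189, 368]) (.lf [34, 63, 329])) (.nd (.lf [23, 88, 314]) (.lf [87, 204, 245])))))) .nil)) (.nd .nil (.nd (.nd .nil (.nd (.nd (.nd (.nd (.lf [22, 83, 133]) (.lf [22, 83])) (.nd (.lf [182, 247, 382]) (.lf [22, 83, 149]))) .nil) (.nd (.nd (.nd (.lf [306, 344]) (.lf [22, 34, 83])) (.nd (.lf [61, 314, 364]) (.lf [82, 247, 269]))) .nil))) .nil)))))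

theorem kf14 : chkF cf14 14 = true := by decide +kernel

end Cfsg.Agent.Lib.Fi22K
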