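import Mathlib
import Cfsg.Agent.Lib.Fi22K5a

set_option autoImplicit false
set_option maxRecDepth 1000000
set_option linter.all false

namespace Cfsg.Agent.Lib.Fi22K

open Cfsg.Agent.Lib.OutTree36
open Cfsg.Agent.TcChain36.Out.Fi22

set_option Elab.async false

/-- The factorizations of a coset. -/
def cf16 : TF :=
  (.nd (.nd (.nd (.nd (.nd (.nd (.nd (.nd (.nd (.nd (.lf [5, 10]) (.lf [5, 10, 133])) .nil) .nil) (.nd (.nd (.nd (.lf [0, 154, 192]) (.lf [8, 151, 338])) .nil) .nil)) .nil) (.nd (.nd (.nd (.nd (.nd (.lf [5, 10, 324]) (.lf [0, 77, 347])) .nil) .nil) (.nd (.nd (.nd (.lf [6, 71, 155]) (.lf [98, 310])) .nil) .nil)) .nil)) .nil) (.nd (.nd (.nd (.nd (.nd (.nd .nil (.nd (.lf [121, 134]) (.lf [71, 80, 190]))) .nil) (.nd (.nd .nil (.nd (.lf [0, 273, 349]) (.lf [157, 223, 324]))) .nil)) .nil) (.nd (.nd (.nd (.nd .nil (.nd (.lf [121, 134, 324]) (.lf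 [0, 158, 230]))) .nil) (.nd (.nd .nil (.nd (.lf [71, 177, 225]) (.lf [157, 223]))) .nil)) .nil)) .nil)) (.nd (.nd .nil (.nd (.nd .nil (.nd (.nd (.nd .nil (.nd (.lf [0, 197, 340]) (.lf [158, 230, 338]))) .nil) (.nd (.nd .nil (.nd (.lf [80, 190]) (.lf [71, 121, 134]))) .nil))) (.nd .nil (.nd (.nd (.nd .nil (.nd (.lf [71, 157, 223]) (.lf [177, 225]))) .nil) (.nd (.nd .nil (.nd (.lf [80, 190, 324]) (.lf [0, 161, 195]))) .nil))))) (.nd .nil (.nd (.nd .nil (.nd (.nd (.nd (.nd (.lf [0, 26, 66]) (.lf [6, 155, 324])) .nil) .nil) (.nd (.nd (.nd (.lf [21, 51]) (.lf [5, 10, 71])) .nil) .nil))) (.nd .nil (.nd (.nd (.nd (.nd (.lf [6, 133, 155]) (.lf [6, 155])) .nil) .nil) (.nd (.nd (.nd (.lf [21, 51, 324]) (.lf [0, 8, 151])) .nil) .nil))))))) (.nd (.nd (.nd (.nd (.nd (.nd (.nd (.nd (.nd (.lf [0, 5, 10]) (.lf [6, 155, 338])) .nil) .nil) (.nd (.nd (.nd (.lf [154, 192])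 (.lf [26, 66, 71])) .nil) .nil)) .nil) (.nd (.nd (.nd (.nd (.nd (.lf [8, 71, 151]) (.lf [77, 347])) .nil) .nil) (.nd (.nd (.nd (.lf [21, 51, 338]) (.lf [0, 98, 310])) .nil) .nil)) .nil)) .nil) (.nd (.nd (.nd (.nd (.nd (.nd .nil (.nd (.lf [0, 121, 134]) (.lf [158, 230, 324]))) .nil) (.nd (.nd .nil (.nd (.lf [273, 349]) (.lf [71, 197, 340]))) .nil)) .nil) (.nd (.nd (.nd (.nd .nil (.nd (.lf [71, 161, 195]) (.lf [158, 230]))) .nil) (.nd (.nd .nil (.nd (.lf [80, 190, 338]) (.lf [0, 157, 223]))) .nil)) .nil)) .nil)) (.nd (.nd .nil (.nd (.nd .nil (.nd (.nd (.nd .nil (.nd (.lf [197, 340]) (.lf [71, 273, 349]))) .nil) (.nd (.nd .nil (.nd (.lf [0, 80, 190]) (.lf [157, 223, 338]))) .nil))) (.nd .nil (.nd (.nd (.nd .nil (.nd (.lf [121, 134, 338]) (.lf [0, 177, 225]))) .nil) (.nd (.nd .nil (.nd (.lf [71, 158, 230]) (.lf [161, 195]))) .nil))))) (.nd .nil (.nd (.nd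 .nil (.nd (.nd (.nd (.nd (.lf [26, 66]) (.lf [26, 66, 133])) .nil) .nil) (.nd (.nd (.nd (.lf [0, 21, 51]) (.lf [8, 151, 324])) .nil) .nil))) (.nd .nil (.nd (.nd (.nd (.nd (.lf [5, 10, 338]) (.lf [0, 6, 155])) .nil) .nil) (.nd (.nd (.nd (.lf [8, 133, 151]) (.lf [8, 151])) .nil) .nil))))))))

theorem kf16 : chkF cf16 16 = true := by decide +kernel

/-- The factorizations of a coset. -/
def cf17 : TF :=
  (.nd (.nd (.nd (.nd (.nd (.nd (.nd (.nd (.nd (.nd (.lf [10, 21]) (.lf [5, 51, 71])) .nil) .nil) (.nd (.nd (.nd (.lf [10, 21, 34]) (.lf [0, 6, 98])) .nil) .nil)) .nil) (.nd (.nd (.nd (.nd (.nd (.lf [10, 21, 324]) (.lf [0, 66, 154])) .nil) .nil) (.nd (.nd (.nd (.lf [77, 151]) (.lf [8, 71, 347])) .nil) .nil)) .nil)) .nil) (.nd .nil (.nd (.nd (.nd (.nd .nil (.nd .nil (.nd (.lf [71, 161, 230]) (.lf [158, 195])))) (.nd .nil (.nd .nil (.nd (.lf [0, 273, 340])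 (.lf [34, 158, 195]))))) .nil) (.nd (.nd (.nd .nil (.nd .nil (.nd (.lf [0, 177, 223]) (.lf [34, 80, 134])))) (.nd .nil (.nd .nil (.nd (.lf [71, 121, 190]) (.lf [80, 134]))))) .nil)))) (.nd (.nd (.nd (.nd .nil (.nd (.nd .nil (.nd .nil (.nd (.lf [0, 197, 349]) (.lf [34, 161, 230])))) (.nd .nil (.nd .nil (.nd (.lf [71, 158, 195]) (.lf [161, 230])))))) (.nd .nil (.nd (.nd .nil (.nd .nil (.nd (.lf [71, 80, 134]) (.lf [121, 190])))) (.nd .nil (.nd .nil (.nd (.lf [0, 157, 225]) (.lf [34, 121, 190]))))))) .nil) (.nd .nil (.nd (.nd .nil (.nd (.nd (.nd (.nd (.lf [5, 34, 51]) (.lf [0, 155, 310])) .nil) .nil) (.nd (.nd (.nd (.lf [5, 51]) (.lf [5, 51, 133])) .nil) .nil))) (.nd .nil (.nd (.nd (.nd (.nd (.lf [8, 347]) (.lf [8, 133, 347])) .nil) .nil) (.nd (.nd (.nd (.lf [5, 51, 324]) (.lf [0, 26, 192])) .nil) .nil))))))) (.nd (.nd (.nd (.nd (.nd (.nd (.nd (.nd (.nd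 (.lf [0, 10, 21]) (.lf [6, 34, 98])) .nil) .nil) (.nd (.nd (.nd (.lf [6, 98, 133]) (.lf [6, 98])) .nil) .nil)) .nil) (.nd (.nd (.nd (.nd (.nd (.lf [26, 71, 192]) (.lf [66, 154])) .nil) .nil) (.nd (.nd (.nd (.lf [0, 77, 151]) (.lf [6, 98, 324])) .nil) .nil)) .nil)) .nil) (.nd .nil (.nd (.nd (.nd (.nd .nil (.nd .nil (.nd (.lf [34, 273, 340]) (.lf [0, 158, 195])))) (.nd .nil (.nd .nil (.nd (.lf [273, 340]) (.lf [71, 197, 349]))))) .nil) (.nd (.nd (.nd .nil (.nd .nil (.nd (.lf [177, 223]) (.lf [71, 157, 225])))) (.nd .nil (.nd .nil (.nd (.lf [34, 177, 223]) (.lf [0, 80, 134]))))) .nil)))) (.nd (.nd (.nd (.nd .nil (.nd (.nd .nil (.nd .nil (.nd (.lf [197, 349]) (.lf [71, 273, 340])))) (.nd .nil (.nd .nil (.nd (.lf [34, 197, 349]) (.lf [0, 161, 230])))))) (.nd .nil (.nd (.nd .nil (.nd .nil (.nd (.lf [34, 157, 225]) (.lf [0, 121, 190])))) (.nd .nil (.nd .nil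 (.nd (.lf [157, 225]) (.lf [71, 177, 223]))))))) .nil) (.nd .nil (.nd (.nd .nil (.nd (.nd (.nd (.nd (.lf [6, 71, 98]) (.lf [155, 310])) .nil) .nil) (.nd (.nd (.nd (.lf [0, 5, 51]) (.lf [26, 192, 324])) .nil) .nil))) (.nd .nil (.nd (.nd (.nd (.nd (.lf [0, 8, 347]) (.lf [26, 34, 192])) .nil) .nil) (.nd (.nd (.nd (.lf [26, 133, 192]) (.lf [26, 192])) .nil) .nil))))))))

theorem kf17 : chkF cf17 17 = true := by decide +kernel

/-- The factorizations of a coset. -/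
def cf18 : TF :=
  (.nd (.nd (.nd (.nd (.nd (.nd (.nd (.nd (.nd (.nd (.lf [8, 10]) (.lf [6, 192, 324])) .nil) .nil) (.nd (.nd (.nd (.lf [8, 10, 34]) (.lf [0, 51, 77])) .nil) .nil)) (.nd (.nd .nil (.nd (.nd (.lf [157, 340]) (.lf [133, 157, 340])) .nil)) (.nd .nil (.nd (.nd (.lf [34, 157, 340]) (.lf [0, 177, 349])) .nil)))) (.nd (.nd (.nd (.nd (.nd (.lf [6, 133, 192]) (.lf [6, 192])) .nil) .nil) (.nd (.nd (.nd (.lf [0, 66, 310]) (.lf [6, 34, 192])) .nil) .nil)) (.nd (.nd .nil (.nd (.nd (.lf [133, 158, 190]) (.lf [158, 190])) .nil)) (.nd .nil (.nd (.nd (.lf [0, 134, 161]) (.lf [34, 158, 190])) .nil))))) .nil) .nil) (.nd .nil (.nd .nil (.nd (.nd (.nd (.nd .nil (.nd (.nd (.lf [121, 133, 195]) (.lf [121, 195])) .nil)) (.nd .nil (.nd (.nd (.lf [0, 80, 230]) (.lf [34, 121, 195])) .nil))) (.nd (.nd (.nd (.nd (.lf [21, 324, 347]) (.lf [26, 98])) .nil) .nil) (.nd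 (.nd (.nd (.lf [0, 154, 155]) (.lf [8, 10, 71])) .nil) .nil))) (.nd (.nd (.nd .nil (.nd (.nd (.lf [225, 273]) (.lf [121, 195, 324])) .nil)) (.nd .nil (.nd (.nd (.lf [34, 225, 273]) (.lf [0, 197, 223])) .nil))) (.nd (.nd (.nd (.nd (.lf [21, 347]) (.lf [21, 133, 347])) .nil) .nil) (.nd (.nd (.nd (.lf [6, 71, 192]) (.lf [0, 5, 151])) .nil) .nil))))))) (.nd (.nd (.nd (.nd (.nd (.nd (.nd (.nd (.nd (.lf [0, 8, 10]) (.lf [34, 51, 77])) .nil) .nil) (.nd (.nd (.nd (.lf [51, 77, 133]) (.lf [51, 77])) .nil) .nil)) (.nd (.nd .nil (.nd (.nd (.lf [0, 157, 340]) (.lf [34, 177, 349])) .nil)) (.nd .nil (.nd (.nd (.lf [133, 177, 349]) (.lf [177, 349])) .nil)))) (.nd (.nd (.nd (.nd (.nd (.lf [5, 71, 151]) (.lf [0, 6, 192])) .nil) .nil) (.nd (.nd (.nd (.lf [66, 310]) (.lf [51, 77, 324])) .nil) .nil)) (.nd (.nd .nil (.nd (.nd (.lf [34, 134, 161]) (.lf [0, 158, 190])) .nil))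 (.nd .nil (.nd (.nd (.lf [134, 161]) (.lf [133, 134, 161])) .nil))))) .nil) .nil) (.nd .nil (.nd .nil (.nd (.nd (.nd (.nd .nil (.nd (.nd (.lf [34, 80, 230]) (.lf [0, 121, 195])) .nil)) (.nd .nil (.nd (.nd (.lf [80, 230]) (.lf [80, 133, 230])) .nil))) (.nd (.nd (.nd (.nd (.lf [34, 154, 155]) (.lf [0, 26, 98])) .nil) .nil) (.nd (.nd (.nd (.lf [154, 155]) (.lf [5, 151, 324])) .nil) .nil))) (.nd (.nd (.nd .nil (.nd (.nd (.lf [0, 225, 273]) (.lf [34, 197, 223])) .nil)) (.nd .nil (.nd (.nd (.lf [80, 230, 324]) (.lf [197, 223])) .nil))) (.nd (.nd (.nd (.nd (.lf [0, 21, 347]) (.lf [5, 34, 151])) .nil) .nil) (.nd (.nd (.nd (.lf [5, 133, 151]) (.lf [5, 151])) .nil) .nil))))))))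

theorem kf18 : chkF cf18 18 = true := by decide +kernel

/-- The factorizations of a coset. -/
def cf19 : TF :=
  (.nd (.nd (.nd (.nd (.nd (.nd (.nd (.nd (.nd (.nd (.lf [6, 34, 66]) (.lf [0, 192, 310])) .nil) .nil) (.nd (.nd (.nd (.lf [6, 66]) (.lf [6, 66, 133])) .nil) .nil)) .nil) (.nd (.nd (.nd (.nd (.nd (.lf [98, 154]) (.lf [10, 77, 338])) .nil) .nil) (.nd (.nd (.nd (.lf [6, 66, 324]) (.lf [0, 26, 155])) .nil) .nil)) .nil)) (.nd (.nd .nil (.nd (.nd (.nd (.nd (.lf [34, 161, 190]) (.lf [0, 134, 158])) .nil) .nil) (.nd (.nd (.nd (.lf [161, 190]) (.lf [133, 161, 190])) .nil) .nil))) (.nd .nil (.nd (.nd (.nd (.nd (.lf [121, 230]) (.lf [121, 133, 230])) .nil) .nil) (.nd (.nd (.nd (.lf [34, 121, 230]) (.lf [0, 80, 195])) .nil) .nil))))) .nil) (.nd .nil (.nd (.nd (.nd (.nd (.nd (.nd (.nd (.lf [34, 177, 340]) (.lf [0, 157, 349])) .nil) .nil) (.nd (.nd (.nd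 (.lf [177, 340]) (.lf [80, 195, 338])) .nil) .nil)) .nil) (.nd (.nd (.nd (.nd (.nd (.lf [223, 273]) (.lf [133, 223, 273])) .nil) .nil) (.nd (.nd (.nd (.lf [34, 223, 273]) (.lf [0, 197, 225])) .nil) .nil)) .nil)) (.nd (.nd .nil (.nd (.nd (.nd (.nd (.lf [5, 324, 347]) (.lf [0, 10, 77])) .nil) .nil) (.nd (.nd (.nd (.lf [8, 51]) (.lf [8, 51, 133])) .nil) .nil))) (.nd .nil (.nd (.nd (.nd (.nd (.lf [5, 347]) (.lf [5, 133, 347])) .nil) .nil) (.nd (.nd (.nd (.lf [5, 34, 347]) (.lf [0, 21, 151])) .nil) .nil))))))) (.nd (.nd (.nd (.nd (.nd (.nd (.nd (.nd (.nd (.lf [5, 338, 347]) (.lf [192, 310])) .nil) .nil) (.nd (.nd (.nd (.lf [0, 6, 66]) (.lf [26, 155, 324])) .nil) .nil)) .nil) (.nd (.nd (.nd (.nd (.nd (.lf [0, 98, 154]) (.lf [26, 34, 155])) .nil) .nil) (.nd (.nd (.nd (.lf [8, 51, 338]) (.lf [26, 155])) .nil) .nil)) .nil)) (.nd (.nd .nil (.nd (.nd (.nd (.nd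 (.lf [133, 134, 158]) (.lf [134, 158])) .nil) .nil) (.nd (.nd (.nd (.lf [0, 161, 190]) (.lf [34, 134, 158])) .nil) .nil))) (.nd .nil (.nd (.nd (.nd (.nd (.lf [0, 121, 230]) (.lf [34, 80, 195])) .nil) .nil) (.nd (.nd (.nd (.lf [80, 133, 195]) (.lf [80, 195])) .nil) .nil))))) .nil) (.nd .nil (.nd (.nd (.nd (.nd (.nd (.nd (.nd (.lf [121, 230, 338]) (.lf [157, 349])) .nil) .nil) (.nd (.nd (.nd (.lf [0, 177, 340]) (.lf [34, 157, 349])) .nil) .nil)) .nil) (.nd (.nd (.nd (.nd (.nd (.lf [0, 223, 273]) (.lf [34, 197, 225])) .nil) .nil) (.nd (.nd (.nd (.lf [133, 197, 225]) (.lf [197, 225])) .nil) .nil)) .nil)) (.nd (.nd .nil (.nd (.nd (.nd (.nd (.lf [10, 77, 133]) (.lf [10, 77])) .nil) .nil) (.nd (.nd (.nd (.lf [0, 8, 51]) (.lf [10, 34, 77])) .nil) .nil))) (.nd .nil (.nd (.nd (.nd (.nd (.lf [0, 5, 347]) (.lf [10, 77, 324])) .nil) .nil) (.nd (.nd (.nd (.lf [6,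 66, 338]) (.lf [21, 151])) .nil) .nil))))))))

theorem kf19 : chkF cf19 19 = true := by decide +kernel

/-- The factorizations of a coset. -/
def cf24 : TF :=
  (.nd (.nd (.nd (.nd (.nd (.nd (.nd (.nd (.nd (.nd (.lf [8, 34, 66]) (.lf [6, 51, 71])) .nil) .nil) (.nd (.nd (.nd (.lf [8, 66]) (.lf [0, 5, 98])) .nil) .nil)) .nil) (.nd (.nd (.nd (.nd (.nd (.lf [0, 10, 310]) (.lf [26, 151])) .nil) .nil) (.nd (.nd (.nd (.lf [8, 66, 324]) (.lf [26, 34, 151])) .nil) .nil)) .nil)) .nil) (.nd (.nd (.nd .nil (.nd (.nd (.nd (.nd (.lf [34, 161, 340]) (.lf [71, 177, 190])) .nil) .nil) (.nd (.nd (.nd (.lf [161, 340]) (.lf [0, 121, 223])) .nil) .nil))) (.nd .nil (.nd (.nd (.nd (.nd (.lf [0, 134, 157]) (.lf [195, 197])) .nil) .nil) (.nd (.nd (.nd (.lf [71, 80, 225]) (.lf [34, 195, 197])) .nil) .nil)))) .nil)) (.nd (.nd .nil (.nd (.nd (.nd (.nd (.nd (.nd (.lf [34, 177,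 190]) (.lf [71, 161, 340])) .nil) .nil) (.nd (.nd (.nd (.lf [177, 190]) (.lf [0, 230, 273])) .nil) .nil)) .nil) (.nd (.nd (.nd (.nd (.nd (.lf [0, 158, 349]) (.lf [80, 225])) .nil) .nil) (.nd (.nd (.nd (.lf [71, 195, 197]) (.lf [34, 80, 225])) .nil) .nil)) .nil))) (.nd .nil (.nd (.nd .nil (.nd (.nd (.nd (.nd (.lf [6, 34, 51]) (.lf [8, 66, 71])) .nil) .nil) (.nd (.nd (.nd (.lf [6, 51]) (.lf [0, 154, 347])) .nil) .nil))) (.nd .nil (.nd (.nd (.nd (.nd (.lf [0, 77, 192]) (.lf [21, 155])) .nil) .nil) (.nd (.nd (.nd (.lf [6, 51, 324]) (.lf [5, 98, 338])) .nil) .nil))))))) (.nd (.nd (.nd (.nd (.nd (.nd (.nd (.nd (.nd (.lf [10, 310, 324]) (.lf [5, 34, 98])) .nil) .nil) (.nd (.nd (.nd (.lf [0, 8, 66]) (.lf [5, 98])) .nil) .nil)) .nil) (.nd (.nd (.nd (.nd (.nd (.lf [10, 310]) (.lf [0, 26, 151])) .nil) .nil) (.nd (.nd (.nd (.lf [6, 51, 338]) (.lf [5, 98, 324]))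 .nil) .nil)) .nil)) .nil) (.nd (.nd (.nd .nil (.nd (.nd (.nd (.nd (.lf [71, 230, 273]) (.lf [34, 121, 223])) .nil) .nil) (.nd (.nd (.nd (.lf [0, 161, 340]) (.lf [121, 223])) .nil) .nil))) (.nd .nil (.nd (.nd (.nd (.nd (.lf [134, 157]) (.lf [0, 195, 197])) .nil) .nil) (.nd (.nd (.nd (.lf [34, 134, 157]) (.lf [71, 158, 349])) .nil) .nil)))) .nil)) (.nd (.nd .nil (.nd (.nd (.nd (.nd (.nd (.nd (.lf [71, 121, 223]) (.lf [34, 230, 273])) .nil) .nil) (.nd (.nd (.nd (.lf [0, 177, 190]) (.lf [230, 273])) .nil) .nil)) .nil) (.nd (.nd (.nd (.nd (.nd (.lf [158, 349]) (.lf [0, 80, 225])) .nil) .nil) (.nd (.nd (.nd (.lf [34, 158, 349]) (.lf [71, 134, 157])) .nil) .nil)) .nil))) (.nd .nil (.nd (.nd .nil (.nd (.nd (.nd (.nd (.lf [5, 71, 98]) (.lf [26, 151, 338])) .nil) .nil) (.nd (.nd (.nd (.lf [0, 6, 51]) (.lf [154, 347])) .nil) .nil))) (.nd .nil (.nd (.nd (.nd (.nd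 (.lf [77, 192]) (.lf [0, 21, 155])) .nil) .nil) (.nd (.nd (.nd (.lf [8, 66, 338]) (.lf [10, 71, 310])) .nil) .nil))))))))

theorem kf24 : chkF cf24 24 = true := by decide +kernel

/-- The factorizations of a coset. -/
def cf25 : TF :=
  (.nd (.nd (.nd (.nd (.nd (.nd (.nd (.nd (.nd (.nd (.lf [6, 10]) (.lf [6, 10, 133])) .nil) .nil) (.nd (.nd (.nd (.lf [6, 10, 34]) (.lf [0, 21, 98])) .nil) .nil)) .nil) (.nd (.nd (.nd (.nd (.nd (.lf [6, 10, 324]) (.lf [8, 192])) .nil) .nil) (.nd (.nd (.nd (.lf [0, 26, 347]) (.lf [8, 34, 192])) .nil) .nil)) .nil)) .nil) (.nd .nil (.nd (.nd .nil (.nd (.nd .nil (.nd (.nd (.lf [80, 223]) (.lf [80, 133, 223])) .nil)) (.nd .nil (.nd (.nd (.lf [34, 80, 223]) (.lf [0, 134, 177])) .nil)))) (.nd .nil (.nd (.nd .nil (.nd (.nd (.lf [80, 223, 324]) (.lf [197, 230])) .nil)) (.nd .nil (.nd (.nd (.lf [0, 161, 349]) (.lf [34, 197, 230]))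 .nil))))))) (.nd (.nd (.nd (.nd (.nd (.nd .nil (.nd (.nd (.lf [158, 340]) (.lf [133, 158, 340])) .nil)) (.nd .nil (.nd (.nd (.lf [34, 158, 340]) (.lf [0, 195, 273])) .nil))) .nil) (.nd (.nd (.nd .nil (.nd (.nd (.lf [133, 157, 190]) (.lf [157, 190])) .nil)) (.nd .nil (.nd (.nd (.lf [0, 121, 225]) (.lf [34, 157, 190])) .nil))) .nil)) .nil) (.nd .nil (.nd (.nd .nil (.nd (.nd (.nd (.nd (.lf [151, 154]) (.lf [5, 155, 324])) .nil) .nil) (.nd (.nd (.nd (.lf [26, 338, 347]) (.lf [0, 66, 77])) .nil) .nil))) (.nd .nil (.nd (.nd (.nd (.nd (.lf [5, 133, 155]) (.lf [5, 155])) .nil) .nil) (.nd (.nd (.nd (.lf [0, 51, 310]) (.lf [5, 34, 155])) .nil) .nil))))))) (.nd (.nd (.nd (.nd (.nd (.nd (.nd (.nd (.nd (.lf [0, 6, 10]) (.lf [5, 155, 338])) .nil) .nil) (.nd (.nd (.nd (.lf [21, 98, 133]) (.lf [21, 98])) .nil) .nil)) .nil) (.nd (.nd (.nd (.nd (.nd (.lf [26, 34, 347])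 (.lf [0, 8, 192])) .nil) .nil) (.nd (.nd (.nd (.lf [26, 347]) (.lf [21, 98, 324])) .nil) .nil)) .nil)) .nil) (.nd .nil (.nd (.nd .nil (.nd (.nd .nil (.nd (.nd (.lf [0, 80, 223]) (.lf [34, 134, 177])) .nil)) (.nd .nil (.nd (.nd (.lf [133, 134, 177]) (.lf [134, 177])) .nil)))) (.nd .nil (.nd (.nd .nil (.nd (.nd (.lf [34, 161, 349]) (.lf [0, 197, 230])) .nil)) (.nd .nil (.nd (.nd (.lf [161, 349]) (.lf [133, 161, 349])) .nil))))))) (.nd (.nd (.nd (.nd (.nd (.nd .nil (.nd (.nd (.lf [0, 158, 340]) (.lf [34, 195, 273])) .nil)) (.nd .nil (.nd (.nd (.lf [121, 225, 324]) (.lf [195, 273])) .nil))) .nil) (.nd (.nd (.nd .nil (.nd (.nd (.lf [34, 121, 225]) (.lf [0, 157, 190])) .nil)) (.nd .nil (.nd (.nd (.lf [121, 225]) (.lf [121, 133, 225])) .nil))) .nil)) .nil) (.nd .nil (.nd (.nd .nil (.nd (.nd (.nd (.nd (.lf [0, 151, 154]) (.lf [8, 192, 338])) .nil) .nil) (.nd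 (.nd (.nd (.lf [51, 310, 324]) (.lf [66, 77])) .nil) .nil))) (.nd .nil (.nd (.nd (.nd (.nd (.lf [6, 10, 338]) (.lf [0, 5, 155])) .nil) .nil) (.nd (.nd (.nd (.lf [51, 310]) (.lf [51, 133, 310])) .nil) .nil))))))))

theorem kf25 : chkF cf25 25 = true := by decide +kernel

end Cfsg.Agent.Lib.Fi22K
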