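import Mathlib
import Cfsg.Agent.Lib.Fi22K5a

set_option autoImplicit false
set_option maxRecDepth 1000000
set_option linter.all false

namespace Cfsg.Agent.Lib.Fi22K

open Cfsg.Agent.Lib.OutTree36
open Cfsg.Agent.TcChain36.Out.Fi22

set_option Elab.async false

/-- The factorizations of a coset. -/
def cf26 : TF :=
  (.nd (.nd (.nd (.nd (.nd (.nd (.nd (.nd (.nd (.nd (.lf [5, 34, 66]) (.lf [21, 192, 324])) .nil) (.nd .nil (.nd (.lf [34, 134, 197]) (.lf [80, 338, 349])))) (.nd (.nd (.nd (.lf [5, 66]) (.lf [0, 8, 98])) .nil) (.nd .nil (.nd (.lf [134, 197]) (.lf [0, 157, 195]))))) .nil) (.nd (.nd (.nd (.nd (.nd (.lf [0, 77, 155]) (.lf [21, 192])) .nil) (.nd .nil (.nd (.lf [0, 177, 230]) (.lf [190, 273])))) (.nd (.nd (.nd (.lf [5, 66, 324]) (.lf [6, 71, 347])) .nil) (.nd .nil (.nd (.lf [121, 338, 340]) (.lf [34, 190, 273]))))) .nil)) .nil) .nil) (.nd .nil (.nd .nil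 (.nd (.nd .nil (.nd (.nd (.nd (.nd (.lf [6, 324, 347]) (.lf [5, 66, 71])) .nil) (.nd .nil (.nd (.lf [158, 225, 324]) (.lf [34, 161, 223])))) (.nd (.nd (.nd (.lf [0, 10, 26]) (.lf [151, 310])) .nil) (.nd .nil (.nd (.lf [0, 121, 340]) (.lf [161, 223])))))) (.nd .nil (.nd (.nd (.nd (.nd (.lf [6, 347]) (.lf [0, 51, 154])) .nil) (.nd .nil (.nd (.lf [158, 225]) (.lf [0, 80, 349])))) (.nd (.nd (.nd (.lf [6, 34, 347]) (.lf [8, 98, 338])) .nil) (.nd .nil (.nd (.lf [34, 158, 225]) (.lf [157, 195, 338])))))))))) (.nd (.nd (.nd (.nd (.nd (.nd (.nd (.nd (.nd (.lf [6, 338, 347]) (.lf [8, 34, 98])) .nil) (.nd .nil (.nd (.lf [158, 225, 338]) (.lf [34, 157, 195])))) (.nd (.nd (.nd (.lf [0, 5, 66]) (.lf [8, 98])) .nil) (.nd .nil (.nd (.lf [0, 134, 197]) (.lf [157, 195]))))) .nil) (.nd (.nd (.nd (.nd (.nd (.lf [77, 155]) (.lf [0, 21, 192])) .nil) (.nd .nil (.nd (.lf [177, 230])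 (.lf [0, 190, 273])))) (.nd (.nd (.nd (.lf [34, 77, 155]) (.lf [8, 98, 324])) .nil) (.nd .nil (.nd (.lf [34, 177, 230]) (.lf [157, 195, 324]))))) .nil)) .nil) .nil) (.nd .nil (.nd .nil (.nd (.nd .nil (.nd (.nd (.nd (.nd (.lf [8, 71, 98]) (.lf [21, 192, 338])) .nil) (.nd .nil (.nd (.lf [34, 121, 340]) (.lf [80, 324, 349])))) (.nd (.nd (.nd (.lf [10, 26]) (.lf [0, 151, 310])) .nil) (.nd .nil (.nd (.lf [121, 340]) (.lf [0, 161, 223])))))) (.nd .nil (.nd (.nd (.nd (.nd (.lf [0, 6, 347]) (.lf [51, 154])) .nil) (.nd .nil (.nd (.lf [0, 158, 225]) (.lf [80, 349])))) (.nd (.nd (.nd (.lf [5, 66, 338]) (.lf [34, 51, 154])) .nil) (.nd .nil (.nd (.lf [121, 324, 340]) (.lf [34, 80, 349])))))))))))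

theorem kf26 : chkF cf26 26 = true := by decide +kernel

/-- The factorizations of a coset. -/
def cf27 : TF :=
  (.nd (.nd (.nd (.nd (.nd (.nd (.nd (.nd (.nd (.nd (.lf [0, 26, 51]) (.lf [5, 192, 324])) .nil) .nil) (.nd (.nd (.nd (.lf [21, 66]) (.lf [6, 151, 338])) .nil) .nil)) .nil) (.nd (.nd (.nd (.nd (.nd (.lf [5, 133, 192]) (.lf [5, 192])) .nil) .nil) (.nd (.nd (.nd (.lf [8, 71, 155]) (.lf [0, 10, 154])) .nil) .nil)) .nil)) (.nd (.nd (.nd (.nd (.nd .nil (.nd (.lf [0, 80, 340]) (.lf [71, 157, 230]))) .nil) (.nd (.nd .nil (.nd (.lf [190, 197]) (.lf [133, 190, 197]))) .nil)) .nil) (.nd (.nd (.nd (.nd .nil (.nd (.lf [133, 134, 273]) (.lf [134, 273]))) .nil) (.nd (.nd .nil (.nd (.lf [71, 177, 195]) (.lf [0, 121, 349]))) .nil)) .nil))) .nil) (.nd .nil (.nd (.nd (.nd .nil (.nd (.nd (.nd .nil (.nd (.lf [0, 158, 223]) (.lf [71, 190, 197]))) .nil) (.nd (.nd .nil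 (.nd (.lf [157, 230]) (.lf [121, 338, 349]))) .nil))) (.nd .nil (.nd (.nd (.nd .nil (.nd (.lf [80, 338, 340]) (.lf [177, 195]))) .nil) (.nd (.nd .nil (.nd (.lf [71, 134, 273]) (.lf [0, 161, 225]))) .nil)))) (.nd (.nd .nil (.nd (.nd (.nd (.nd (.lf [0, 310, 347]) (.lf [8, 155, 324])) .nil) .nil) (.nd (.nd (.nd (.lf [77, 98]) (.lf [10, 154, 338])) .nil) .nil))) (.nd .nil (.nd (.nd (.nd (.nd (.lf [8, 133, 155]) (.lf [8, 155])) .nil) .nil) (.nd (.nd (.nd (.lf [5, 71, 192]) (.lf [0, 6, 151])) .nil) .nil))))))) (.nd (.nd (.nd (.nd (.nd (.nd (.nd (.nd (.nd (.lf [26, 51]) (.lf [8, 155, 338])) .nil) .nil) (.nd (.nd (.nd (.lf [0, 21, 66]) (.lf [10, 154, 324])) .nil) .nil)) .nil) (.nd (.nd (.nd (.nd (.nd (.lf [6, 71, 151]) (.lf [0, 5, 192])) .nil) .nil) (.nd (.nd (.nd (.lf [10, 133, 154]) (.lf [10, 154])) .nil) .nil)) .nil)) (.nd (.nd (.nd (.nd (.nd .nil (.nd (.lf [80,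 340]) (.lf [80, 133, 340]))) .nil) (.nd (.nd .nil (.nd (.lf [0, 190, 197]) (.lf [71, 158, 223]))) .nil)) .nil) (.nd (.nd (.nd (.nd .nil (.nd (.lf [71, 161, 225]) (.lf [0, 134, 273]))) .nil) (.nd (.nd .nil (.nd (.lf [121, 133, 349]) (.lf [121, 349]))) .nil)) .nil))) .nil) (.nd .nil (.nd (.nd (.nd .nil (.nd (.nd (.nd .nil (.nd (.lf [158, 223]) (.lf [133, 158, 223]))) .nil) (.nd (.nd .nil (.nd (.lf [0, 157, 230]) (.lf [71, 80, 340]))) .nil))) (.nd .nil (.nd (.nd (.nd .nil (.nd (.lf [71, 121, 349]) (.lf [0, 177, 195]))) .nil) (.nd (.nd .nil (.nd (.lf [133, 161, 225]) (.lf [161, 225]))) .nil)))) (.nd (.nd .nil (.nd (.nd (.nd (.nd (.lf [310, 347]) (.lf [5, 192, 338])) .nil) .nil) (.nd (.nd (.nd (.lf [0, 77, 98]) (.lf [6, 151, 324])) .nil) .nil))) (.nd .nil (.nd (.nd (.nd (.nd (.lf [10, 71, 154]) (.lf [0, 8, 155])) .nil) .nil) (.nd (.nd (.nd (.lf [6, 133, 151]) (.lf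 [6, 151])) .nil) .nil))))))))

theorem kf27 : chkF cf27 27 = true := by decide +kernel

/-- The factorizations of a coset. -/
def cf32 : TF :=
  (.nd (.nd (.nd (.nd (.nd (.nd (.nd (.nd (.nd (.nd (.lf [33, 226]) .nil) (.nd (.lf [33, 149, 226]) .nil)) (.nd (.nd (.lf [33, 220, 226]) .nil) (.nd (.lf [168, 279, 324]) .nil))) (.nd (.nd (.nd .nil (.lf [65, 308])) (.nd .nil (.lf [65, 149, 308]))) (.nd (.nd .nil (.lf [65, 220, 308])) (.nd .nil (.lf [184, 254, 338]))))) .nil) (.nd (.nd (.nd (.nd (.nd (.lf [33, 226, 324]) .nil) (.nd (.lf [109, 315, 358]) .nil)) (.nd (.nd (.lf [149, 168, 279]) .nil) (.nd (.lf [168, 279]) .nil))) (.nd (.nd (.nd .nil (.lf [30, 206, 338])) (.nd .nil (.lf [109, 238, 410]))) (.nd (.nd .nil (.lf [149, 211, 385])) (.nd .nil (.lf [211, 385]))))) .nil)) .nil) (.nd (.nd (.nd (.nd (.nd (.nd (.nd (.lf [33, 109, 226]) .nil) (.nd (.lf [259, 338, 389])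 .nil)) (.nd (.nd (.lf [386, 421]) .nil) (.nd (.lf [93, 313, 314]) .nil))) (.nd (.nd (.nd .nil (.lf [65, 109, 308])) (.nd .nil (.lf [238, 324, 410]))) (.nd (.nd .nil (.lf [325, 406])) (.nd .nil (.lf [30, 206, 314]))))) .nil) (.nd (.nd (.nd (.nd (.nd (.lf [149, 315, 358]) .nil) (.nd (.lf [315, 358]) .nil)) (.nd (.nd (.lf [309, 338, 381]) .nil) (.nd (.lf [109, 168, 279]) .nil))) (.nd (.nd (.nd .nil (.lf [149, 238, 410])) (.nd .nil (.lf [238, 410]))) (.nd (.nd .nil (.lf [324, 325, 406])) (.nd .nil (.lf [109, 211, 385]))))) .nil)) .nil)) .nil) (.nd .nil (.nd (.nd .nil (.nd (.nd .nil (.nd (.nd (.nd (.nd (.lf [93, 109, 313]) .nil) (.nd (.lf [259, 324, 389]) .nil)) (.nd (.nd (.lf [309, 381]) .nil) (.nd (.lf [33, 226, 314]) .nil))) (.nd (.nd (.nd .nil (.lf [30, 109, 206])) (.nd .nil (.lf [238, 338, 410]))) (.nd (.nd .nil (.lf [352, 408])) (.nd .nil (.lf [65, 308, 314]))))))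 (.nd .nil (.nd (.nd (.nd (.nd (.lf [149, 259, 389]) .nil) (.nd (.lf [259, 389]) .nil)) (.nd (.nd (.lf [309, 324, 381]) .nil) (.nd (.lf [109, 234, 405]) .nil))) (.nd (.nd (.nd .nil (.lf [149, 292, 328])) (.nd .nil (.lf [292, 328]))) (.nd (.nd .nil (.lf [324, 352, 408])) (.nd .nil (.lf [109, 184, 254])))))))) (.nd .nil (.nd (.nd .nil (.nd (.nd (.nd (.nd (.lf [93, 313]) .nil) (.nd (.lf [93, 149, 313]) .nil)) (.nd (.nd (.lf [93, 220, 313]) .nil) (.nd (.lf [168, 279, 338]) .nil))) (.nd (.nd (.nd .nil (.lf [30, 206])) (.nd .nil (.lf [30, 149, 206]))) (.nd (.nd .nil (.lf [30, 206, 220])) (.nd .nil (.lf [184, 254, 324])))))) (.nd .nil (.nd (.nd (.nd (.nd (.lf [33, 226, 338]) .nil) (.nd (.lf [109, 259, 389]) .nil)) (.nd (.nd (.lf [149, 234, 405]) .nil) (.nd (.lf [234, 405]) .nil))) (.nd (.nd (.nd .nil (.lf [30, 206, 324])) (.nd .nil (.lf [109, 292, 328]))) (.nd (.nd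 .nil (.lf [149, 184, 254])) (.nd .nil (.lf [184, 254])))))))))))

theorem kf32 : chkF cf32 32 = true := by decide +kernel

/-- The factorizations of a coset. -/
def cf39 : TF :=
  (.nd (.nd (.nd (.nd (.nd (.nd (.nd (.nd (.nd (.nd (.lf [73, 122]) .nil) .nil) (.nd (.nd (.lf [7, 96, 109]) .nil) .nil)) (.nd (.nd (.nd .nil (.lf [17, 262])) .nil) (.nd (.nd .nil (.lf [9, 58, 109])) .nil))) .nil) .nil) (.nd (.nd .nil (.nd (.nd (.nd (.nd (.lf [67, 153]) .nil) .nil) (.nd (.nd (.lf [67, 153, 220]) .nil) .nil)) (.nd (.nd (.nd .nil (.lf [94, 194])) .nil) (.nd (.nd .nil (.lf [94, 194, 220])) .nil)))) .nil)) (.nd (.nd (.nd (.nd (.nd (.nd (.nd (.lf [7, 96, 220]) .nil) .nil) (.nd (.nd (.lf [7, 96]) .nil) .nil)) (.nd (.nd (.nd .nil (.lf [9, 58, 220])) .nil) (.nd (.nd .nil (.lf [9, 58])) .nil))) .nil) .nil) (.nd (.nd .nil (.nd (.nd (.nd (.nd (.lf [67, 109, 153]) .nil) .nil) (.nd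 (.nd (.lf [160, 339]) .nil) .nil)) (.nd (.nd (.nd .nil (.lf [94, 109, 194])) .nil) (.nd (.nd .nil (.lf [105, 209])) .nil)))) .nil))) (.nd (.nd (.nd (.nd (.nd (.nd (.nd (.nd (.lf [73, 122, 247]) .nil) .nil) (.nd (.nd (.lf [0, 60, 246]) .nil) .nil)) (.nd (.nd (.nd .nil (.lf [17, 247, 262])) .nil) (.nd (.nd .nil (.lf [0, 69, 128])) .nil))) .nil) .nil) (.nd (.nd .nil (.nd (.nd (.nd (.nd (.lf [67, 153, 247]) .nil) .nil) (.nd (.nd (.lf [0, 196, 222]) .nil) .nil)) (.nd (.nd (.nd .nil (.lf [60, 204, 246])) .nil) (.nd (.nd .nil (.lf [0, 236, 287])) .nil)))) .nil)) (.nd (.nd (.nd (.nd (.nd (.nd (.nd (.lf [0, 136, 239]) .nil) .nil) (.nd (.nd (.lf [7, 96, 247]) .nil) .nil)) (.nd (.nd (.nd .nil (.lf [0, 37, 221])) .nil) (.nd (.nd .nil (.lf [9, 58, 247])) .nil))) .nil) .nil) (.nd (.nd .nil (.nd (.nd (.nd (.nd (.lf [0, 108, 124]) .nil) .nil) (.nd (.nd (.lf [37, 204, 221])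 .nil) .nil)) (.nd (.nd (.nd .nil (.lf [0, 74, 427])) .nil) (.nd (.nd .nil (.lf [105, 209, 247])) .nil)))) .nil)))) (.nd (.nd (.nd (.nd (.nd (.nd (.nd (.nd (.nd (.lf [0, 73, 122]) .nil) .nil) (.nd (.nd (.lf [60, 246, 247]) .nil) .nil)) (.nd (.nd (.nd .nil (.lf [0, 17, 262])) .nil) (.nd (.nd .nil (.lf [67, 153, 204])) .nil))) .nil) .nil) (.nd (.nd .nil (.nd (.nd (.nd (.nd (.lf [0, 67, 153]) .nil) .nil) (.nd (.nd (.lf [17, 204, 262]) .nil) .nil)) (.nd (.nd (.nd .nil (.lf [0, 94, 194])) .nil) (.nd (.nd .nil (.lf [73, 122, 204])) .nil)))) .nil)) (.nd (.nd (.nd (.nd (.nd (.nd (.nd (.lf [105, 204, 209]) .nil) .nil) (.nd (.nd (.lf [0, 7, 96]) .nil) .nil)) (.nd (.nd (.nd .nil (.lf [37, 221, 247])) .nil) (.nd (.nd .nil (.lf [0, 9, 58])) .nil))) .nil) .nil) (.nd (.nd .nil (.nd (.nd (.nd (.nd (.lf [9, 58, 204]) .nil) .nil) (.nd (.nd (.lf [0, 160, 339]) .nil) .nil)) (.nd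 (.nd (.nd .nil (.lf [7, 96, 204])) .nil) (.nd (.nd .nil (.lf [0, 105, 209])) .nil)))) .nil))) (.nd (.nd (.nd (.nd (.nd (.nd (.nd (.nd (.lf [60, 220, 246]) .nil) .nil) (.nd (.nd (.lf [60, 246]) .nil) .nil)) (.nd (.nd (.nd .nil (.lf [37, 109, 221])) .nil) (.nd (.nd .nil (.lf [69, 128])) .nil))) .nil) .nil) (.nd (.nd .nil (.nd (.nd (.nd (.nd (.lf [108, 109, 124]) .nil) .nil) (.nd (.nd (.lf [196, 222]) .nil) .nil)) (.nd (.nd (.nd .nil (.lf [74, 109, 427])) .nil) (.nd (.nd .nil (.lf [236, 287])) .nil)))) .nil)) (.nd (.nd (.nd (.nd (.nd (.nd (.nd (.lf [136, 239]) .nil) .nil) (.nd (.nd (.lf [60, 109, 246]) .nil) .nil)) (.nd (.nd (.nd .nil (.lf [37, 221])) .nil) (.nd (.nd .nil (.lf [37, 220, 221])) .nil))) .nil) .nil) (.nd (.nd .nil (.nd (.nd (.nd (.nd (.lf [108, 124]) .nil) .nil) (.nd (.nd (.lf [108, 124, 220]) .nil) .nil)) (.nd (.nd (.nd .nil (.lf [74, 427])) .nil)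 (.nd (.nd .nil (.lf [74, 220, 427])) .nil)))) .nil)))))

theorem kf39 : chkF cf39 39 = true := by decide +kernel

/-- The factorizations of a coset. -/
def cf42 : TF :=
  (.nd (.nd (.nd (.nd (.nd (.nd (.nd (.nd (.nd (.nd .nil (.lf [146, 181])) .nil) .nil) (.nd (.nd (.nd (.lf [114, 434]) .nil) .nil) .nil)) .nil) (.nd (.nd (.nd (.nd (.nd .nil (.lf [90, 338, 432])) .nil) .nil) (.nd (.nd (.nd (.lf [114, 324, 434]) .nil) .nil) .nil)) .nil)) (.nd (.nd .nil (.nd (.nd (.nd .nil (.nd (.lf [204, 231, 244]) .nil)) .nil) (.nd (.nd .nil (.nd .nil (.lf [204, 281, 317]))) .nil))) (.nd .nil (.nd (.nd (.nd .nil (.nd (.lf [90, 141, 432]) .nil)) .nil) (.nd (.nd .nil (.nd .nil (.lf [141, 148, 167]))) .nil))))) (.nd (.nd (.nd (.nd (.nd .nil (.nd (.nd .nil (.lf [387, 422])) .nil)) (.nd .nil (.nd (.nd (.lf [282, 343]) .nil) .nil))) .nil) (.nd (.nd (.nd .nil (.nd (.nd .nil (.lf [298,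 338, 378])) .nil)) (.nd .nil (.nd (.nd (.lf [282, 324, 343]) .nil) .nil))) .nil)) (.nd (.nd .nil (.nd (.nd .nil (.nd .nil (.nd (.lf [204, 316, 417]) .nil))) (.nd .nil (.nd .nil (.nd .nil (.lf [204, 342, 354])))))) (.nd .nil (.nd (.nd .nil (.nd .nil (.nd (.lf [141, 298, 378]) .nil))) (.nd .nil (.nd .nil (.nd .nil (.lf [90, 201, 432]))))))))) (.nd (.nd (.nd (.nd (.nd (.nd (.nd (.nd .nil (.lf [146, 181, 247])) .nil) .nil) (.nd (.nd (.nd (.lf [114, 247, 434]) .nil) .nil) .nil)) .nil) (.nd (.nd (.nd (.nd (.nd .nil (.lf [141, 342, 354])) .nil) .nil) (.nd (.nd (.nd (.lf [141, 316, 417]) .nil) .nil) .nil)) .nil)) (.nd (.nd .nil (.nd (.nd (.nd .nil (.nd (.lf [284, 424]) .nil)) .nil) (.nd (.nd .nil (.nd .nil (.lf [376, 377]))) .nil))) (.nd .nil (.nd (.nd (.nd .nil (.nd (.lf [284, 324, 424]) .nil)) .nil) (.nd (.nd .nil (.nd .nil (.lf [316, 338, 417]))) .nil))))) (.nd (.nd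 (.nd (.nd (.nd .nil (.nd (.nd .nil (.lf [148, 167, 204])) .nil)) (.nd .nil (.nd (.nd (.lf [90, 204, 432]) .nil) .nil))) .nil) (.nd (.nd (.nd .nil (.nd (.nd .nil (.lf [141, 281, 317])) .nil)) (.nd .nil (.nd (.nd (.lf [141, 231, 244]) .nil) .nil))) .nil)) (.nd (.nd .nil (.nd (.nd .nil (.nd .nil (.nd (.lf [210, 268]) .nil))) (.nd .nil (.nd .nil (.nd .nil (.lf [285, 288])))))) (.nd .nil (.nd (.nd .nil (.nd .nil (.nd (.lf [210, 268, 324]) .nil))) (.nd .nil (.nd .nil (.nd .nil (.lf [231, 244, 338])))))))))) (.nd (.nd (.nd (.nd (.nd (.nd (.nd .nil (.nd .nil (.nd (.lf [281, 317]) .nil))) (.nd .nil (.nd .nil (.nd .nil (.lf [231, 244]))))) .nil) (.nd (.nd (.nd .nil (.nd .nil (.nd (.lf [210, 268, 338]) .nil))) (.nd .nil (.nd .nil (.nd .nil (.lf [231, 244, 324]))))) .nil)) (.nd (.nd .nil (.nd (.nd .nil (.nd (.nd .nil (.lf [114, 204, 434])) .nil)) (.nd .nil (.nd (.nd (.lf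 [146, 181, 204]) .nil) .nil)))) (.nd .nil (.nd (.nd .nil (.nd (.nd .nil (.lf [141, 210, 268])) .nil)) (.nd .nil (.nd (.nd (.lf [141, 285, 288]) .nil) .nil)))))) (.nd (.nd (.nd (.nd (.nd (.nd .nil (.nd (.lf [342, 354]) .nil)) .nil) (.nd (.nd .nil (.nd .nil (.lf [316, 417]))) .nil)) .nil) (.nd (.nd (.nd (.nd .nil (.nd (.lf [284, 338, 424]) .nil)) .nil) (.nd (.nd .nil (.nd .nil (.lf [316, 324, 417]))) .nil)) .nil)) (.nd (.nd .nil (.nd (.nd (.nd (.nd .nil (.lf [90, 247, 432])) .nil) .nil) (.nd (.nd (.nd (.lf [148, 167, 247]) .nil) .nil) .nil))) (.nd .nil (.nd (.nd (.nd (.nd .nil (.lf [141, 284, 424])) .nil) .nil) (.nd (.nd (.nd (.lf [141, 376, 377]) .nil) .nil) .nil)))))) (.nd (.nd (.nd (.nd (.nd (.nd .nil (.nd .nil (.nd (.lf [204, 376, 377]) .nil))) (.nd .nil (.nd .nil (.nd .nil (.lf [204, 284, 424]))))) .nil) (.nd (.nd (.nd .nil (.nd .nil (.nd (.lf [114, 201,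 434]) .nil))) (.nd .nil (.nd .nil (.nd .nil (.lf [141, 282, 343]))))) .nil)) (.nd (.nd .nil (.nd (.nd .nil (.nd (.nd .nil (.lf [298, 378])) .nil)) (.nd .nil (.nd (.nd (.lf [367, 428]) .nil) .nil)))) (.nd .nil (.nd (.nd .nil (.nd (.nd .nil (.lf [298, 324, 378])) .nil)) (.nd .nil (.nd (.nd (.lf [282, 338, 343]) .nil) .nil)))))) (.nd (.nd (.nd (.nd (.nd (.nd .nil (.nd (.lf [204, 285, 288]) .nil)) .nil) (.nd (.nd .nil (.nd .nil (.lf [204, 210, 268]))) .nil)) .nil) (.nd (.nd (.nd (.nd .nil (.nd (.lf [141, 146, 181]) .nil)) .nil) (.nd (.nd .nil (.nd .nil (.lf [114, 141, 434]))) .nil)) .nil)) (.nd (.nd .nil (.nd (.nd (.nd (.nd .nil (.lf [90, 432])) .nil) .nil) (.nd (.nd (.nd (.lf [148, 167]) .nil) .nil) .nil))) (.nd .nil (.nd (.nd (.nd (.nd .nil (.lf [90, 324, 432])) .nil) .nil) (.nd (.nd (.nd (.lf [114, 338, 434]) .nil) .nil) .nil))))))))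

theorem kf42 : chkF cf42 42 = true := by decide +kernel

/-- The factorizations of a coset. -/
def cf46 : TF :=
  (.nd (.nd (.nd (.nd (.nd (.nd (.nd (.nd (.nd (.nd .nil (.lf [125, 297])) (.nd .nil (.lf [15, 76, 314]))) .nil) (.nd (.nd (.nd (.lf [101, 208]) .nil) (.nd (.lf [14, 72, 314]) .nil)) .nil)) .nil) .nil) (.nd .nil (.nd .nil (.nd (.nd (.nd (.nd (.lf [0, 70, 162]) .nil) (.nd (.lf [14, 72, 201]) .nil)) .nil) (.nd (.nd (.nd .nil (.lf [0, 36, 150])) (.nd .nil (.lf [15, 76, 201]))) .nil))))) (.nd (.nd (.nd (.nd (.nd .nil (.nd (.nd .nil (.lf [257, 278])) (.nd .nil (.lf [27, 276, 314])))) (.nd .nil (.nd (.nd (.lf [174, 200]) .nil) (.nd (.lf [48, 68, 314]) .nil)))) .nil) .nil) (.nd .nil (.nd .nil (.nd (.nd .nil (.nd (.nd (.lf [0, 95, 277]) .nil) (.nd (.lf [15, 76, 141]) .nil))) (.nd .nil (.nd (.nd .nil (.lf [0, 45, 100])) (.nd .nil (.lf [14, 72, 141])))))))))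 (.nd (.nd (.nd .nil (.nd (.nd (.nd .nil (.nd (.nd (.lf [103, 404]) .nil) (.nd (.lf [70, 162, 314]) .nil))) (.nd .nil (.nd (.nd .nil (.lf [129, 191])) (.nd .nil (.lf [36, 150, 314]))))) .nil)) (.nd (.nd .nil (.nd (.nd .nil (.nd (.nd .nil (.lf [0, 15, 76])) (.nd .nil (.lf [36, 150, 201])))) (.nd .nil (.nd (.nd (.lf [0, 14, 72]) .nil) (.nd (.lf [45, 100, 141]) .nil))))) .nil)) (.nd (.nd .nil (.nd (.nd (.nd (.nd (.nd (.lf [75, 212]) .nil) (.nd (.lf [75, 149, 212]) .nil)) .nil) (.nd (.nd (.nd .nil (.lf [152, 202])) (.nd .nil (.lf [45, 100, 314]))) .nil)) .nil)) (.nd (.nd .nil (.nd (.nd (.nd (.nd .nil (.lf [0, 27, 276])) (.nd .nil (.lf [45, 100, 201]))) .nil) (.nd (.nd (.nd (.lf [0, 48, 68]) .nil) (.nd (.lf [36, 141, 150]) .nil)) .nil))) .nil)))) (.nd (.nd (.nd (.nd (.nd (.nd (.nd (.nd (.nd .nil (.lf [0, 125, 297])) (.nd .nil (.lf [75, 141, 212]))) .nil) (.nd (.nd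 (.nd (.lf [0, 101, 208]) .nil) (.nd (.lf [103, 201, 404]) .nil)) .nil)) .nil) .nil) (.nd .nil (.nd .nil (.nd (.nd (.nd (.nd (.lf [70, 162]) .nil) (.nd (.lf [70, 149, 162]) .nil)) .nil) (.nd (.nd (.nd .nil (.lf [36, 150])) (.nd .nil (.lf [36, 149, 150]))) .nil))))) (.nd (.nd (.nd (.nd (.nd .nil (.nd (.nd .nil (.lf [0, 257, 278])) (.nd .nil (.lf [103, 141, 404])))) (.nd .nil (.nd (.nd (.lf [0, 174, 200]) .nil) (.nd (.lf [75, 201, 212]) .nil)))) .nil) .nil) (.nd .nil (.nd .nil (.nd (.nd .nil (.nd (.nd (.lf [95, 277]) .nil) (.nd (.lf [75, 212, 314]) .nil))) (.nd .nil (.nd (.nd .nil (.lf [45, 100])) (.nd .nil (.lf [45, 100, 149]))))))))) (.nd (.nd (.nd .nil (.nd (.nd (.nd .nil (.nd (.nd (.lf [0, 103, 404]) .nil) (.nd (.lf [101, 201, 208]) .nil))) (.nd .nil (.nd (.nd .nil (.lf [0, 129, 191])) (.nd .nil (.lf [125, 201, 297]))))) .nil)) (.nd (.nd .nil (.nd (.nd .nil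 (.nd (.nd .nil (.lf [15, 76])) (.nd .nil (.lf [15, 76, 149])))) (.nd .nil (.nd (.nd (.lf [14, 72]) .nil) (.nd (.lf [14, 72, 149]) .nil))))) .nil)) (.nd (.nd .nil (.nd (.nd (.nd (.nd (.nd (.lf [0, 75, 212]) .nil) (.nd (.lf [125, 141, 297]) .nil)) .nil) (.nd (.nd (.nd .nil (.lf [0, 152, 202])) (.nd .nil (.lf [101, 141, 208]))) .nil)) .nil)) (.nd (.nd .nil (.nd (.nd (.nd (.nd .nil (.lf [27, 276])) (.nd .nil (.lf [27, 149, 276]))) .nil) (.nd (.nd (.nd (.lf [48, 68]) .nil) (.nd (.lf [48, 68, 149]) .nil)) .nil))) .nil)))))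

theorem kf46 : chkF cf46 46 = true := by decide +kernel

end Cfsg.Agent.Lib.Fi22K
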