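import Mathlib
import Cfsg.Agent.Lib.Fi22K5a

set_option autoImplicit false
set_option maxRecDepth 1000000
set_option linter.all false

namespace Cfsg.Agent.Lib.Fi22K

open Cfsg.Agent.Lib.OutTree36
open Cfsg.Agent.TcChain36.Out.Fi22

set_option Elab.async false

/-- The factorizations of a coset. -/
def cf48 : TF :=
  (.nd (.nd (.nd (.nd (.nd (.nd (.nd (.nd (.nd (.nd (.lf [85, 145, 324]) .nil) .nil) .nil) (.nd (.nd (.nd .nil (.lf [91, 164, 338])) .nil) .nil)) (.nd (.nd (.nd (.nd (.lf [140, 215, 423]) .nil) .nil) .nil) (.nd (.nd (.nd .nil (.lf [140, 303, 331])) .nil) .nil))) (.nd (.nd (.nd (.nd (.nd (.lf [85, 145]) .nil) .nil) .nil) (.nd (.nd (.nd .nil (.lf [147, 429])) .nil) .nil)) (.nd (.nd (.nd (.nd (.lf [85, 145, 251]) .nil) .nil) .nil) (.nd (.nd (.nd .nil (.lf [147, 251, 429])) .nil) .nil)))) .nil) (.nd (.nd (.nd (.nd (.nd (.nd .nil (.nd (.lf [237, 338, 412])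 .nil)) .nil) (.nd (.nd .nil (.nd .nil (.lf [215, 324, 423]))) .nil)) (.nd (.nd (.nd .nil (.nd (.lf [140, 147, 429]) .nil)) .nil) (.nd (.nd .nil (.nd .nil (.lf [85, 140, 145]))) .nil))) (.nd (.nd (.nd (.nd .nil (.nd (.lf [303, 331]) .nil)) .nil) (.nd (.nd .nil (.nd .nil (.lf [215, 423]))) .nil)) (.nd (.nd (.nd .nil (.nd (.lf [218, 302, 305]) .nil)) .nil) (.nd (.nd .nil (.nd .nil (.lf [215, 251, 423]))) .nil)))) .nil)) (.nd (.nd .nil (.nd (.nd (.nd (.nd .nil (.nd (.nd .nil (.lf [91, 164, 218])) .nil)) (.nd .nil (.nd (.nd (.lf [131, 218, 433]) .nil) .nil))) (.nd (.nd .nil (.nd (.nd .nil (.lf [396, 398])) .nil)) (.nd .nil (.nd (.nd (.lf [361, 375]) .nil) .nil)))) (.nd (.nd (.nd .nil (.nd (.nd .nil (.lf [140, 232, 243])) .nil)) (.nd .nil (.nd (.nd (.lf [140, 312, 318]) .nil) .nil))) (.nd (.nd .nil (.nd (.nd .nil (.lf [324, 396, 398])) .nil)) (.nd .nil (.nd (.nd (.lf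 [324, 361, 375]) .nil) .nil)))))) (.nd .nil (.nd (.nd (.nd (.nd .nil (.nd .nil (.nd .nil (.lf [218, 319, 356])))) (.nd .nil (.nd .nil (.nd (.lf [218, 237, 412]) .nil)))) (.nd (.nd .nil (.nd .nil (.nd .nil (.lf [312, 318])))) (.nd .nil (.nd .nil (.nd (.lf [232, 243]) .nil))))) (.nd (.nd (.nd .nil (.nd .nil (.nd .nil (.lf [85, 145, 175])))) (.nd .nil (.nd .nil (.nd (.lf [140, 396, 398]) .nil)))) (.nd (.nd .nil (.nd .nil (.nd .nil (.lf [219, 256, 338])))) (.nd .nil (.nd .nil (.nd (.lf [232, 243, 324]) .nil))))))))) (.nd (.nd (.nd (.nd (.nd (.nd (.nd .nil (.nd .nil (.nd .nil (.lf [219, 256])))) (.nd .nil (.nd .nil (.nd (.lf [302, 305]) .nil)))) (.nd (.nd .nil (.nd .nil (.nd .nil (.lf [215, 218, 423])))) (.nd .nil (.nd .nil (.nd (.lf [218, 303, 331]) .nil))))) (.nd (.nd (.nd .nil (.nd .nil (.nd .nil (.lf [219, 256, 324])))) (.nd .nil (.nd .nil (.nd (.lf [232, 243,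 338]) .nil)))) (.nd (.nd .nil (.nd .nil (.nd .nil (.lf [131, 175, 433])))) (.nd .nil (.nd .nil (.nd (.lf [91, 164, 175]) .nil)))))) .nil) (.nd (.nd (.nd (.nd (.nd .nil (.nd (.nd .nil (.lf [353, 395])) .nil)) (.nd .nil (.nd (.nd (.lf [360, 362]) .nil) .nil))) (.nd (.nd .nil (.nd (.nd .nil (.lf [147, 218, 429])) .nil)) (.nd .nil (.nd (.nd (.lf [85, 145, 218]) .nil) .nil)))) (.nd (.nd (.nd .nil (.nd (.nd .nil (.lf [324, 353, 395])) .nil)) (.nd .nil (.nd (.nd (.lf [324, 360, 362]) .nil) .nil))) (.nd (.nd .nil (.nd (.nd .nil (.lf [140, 302, 305])) .nil)) (.nd .nil (.nd (.nd (.lf [140, 219, 256]) .nil) .nil))))) .nil)) (.nd (.nd .nil (.nd (.nd (.nd (.nd (.nd .nil (.nd (.lf [91, 140, 164]) .nil)) .nil) (.nd (.nd .nil (.nd .nil (.lf [131, 140, 433]))) .nil)) (.nd (.nd (.nd .nil (.nd (.lf [237, 324, 412]) .nil)) .nil) (.nd (.nd .nil (.nd .nil (.lf [215, 338, 423]))) .nil)))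 (.nd (.nd (.nd (.nd .nil (.nd (.lf [218, 232, 243]) .nil)) .nil) (.nd (.nd .nil (.nd .nil (.lf [218, 312, 318]))) .nil)) (.nd (.nd (.nd .nil (.nd (.lf [237, 412]) .nil)) .nil) (.nd (.nd .nil (.nd .nil (.lf [319, 356]))) .nil))))) (.nd .nil (.nd (.nd (.nd (.nd (.nd (.nd (.lf [140, 319, 356]) .nil) .nil) .nil) (.nd (.nd (.nd .nil (.lf [140, 237, 412])) .nil) .nil)) (.nd (.nd (.nd (.nd (.lf [85, 145, 338]) .nil) .nil) .nil) (.nd (.nd (.nd .nil (.lf [91, 164, 324])) .nil) .nil))) (.nd (.nd (.nd (.nd (.nd (.lf [131, 251, 433]) .nil) .nil) .nil) (.nd (.nd (.nd .nil (.lf [91, 164, 251])) .nil) .nil)) (.nd (.nd (.nd (.nd (.lf [131, 433]) .nil) .nil) .nil) (.nd (.nd (.nd .nil (.lf [91, 164])) .nil) .nil))))))))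

theorem kf48 : chkF cf48 48 = true := by decide +kernel

/-- The factorizations of a coset. -/
def cf52 : TF :=
  (.nd (.nd (.nd (.nd (.nd .nil (.nd (.nd (.nd (.nd (.nd (.lf [47, 299]) .nil) .nil) .nil) (.nd (.nd (.nd .nil (.lf [44, 59])) .nil) .nil)) (.nd (.nd .nil (.nd .nil (.nd .nil (.lf [50, 267, 384])))) (.nd .nil (.nd .nil (.nd (.lf [56, 106, 384]) .nil)))))) (.nd (.nd (.nd (.nd .nil (.nd .nil (.nd (.lf [44, 59, 172]) .nil))) (.nd .nil (.nd .nil (.nd .nil (.lf [47, 172, 299]))))) (.nd (.nd (.nd (.nd .nil (.lf [139, 224])) .nil) .nil) (.nd (.nd (.nd (.lf [97, 235]) .nil) .nil) .nil))) .nil)) (.nd (.nd (.nd (.nd (.nd .nil (.nd (.nd .nil (.lf [0, 272, 275])) .nil)) (.nd .nil (.nd (.nd (.lf [0, 178, 286]) .nil) .nil))) (.nd (.nd (.nd .nil (.nd (.lf [1, 38, 175]) .nil)) .nil) (.nd (.nd .nil (.nd .nil (.lf [16, 135, 175]))) .nil))) .nil) (.nd .nil (.nd (.nd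 (.nd (.nd .nil (.nd .nil (.lf [97, 140, 235]))) .nil) (.nd (.nd .nil (.nd (.lf [139, 140, 224]) .nil)) .nil)) (.nd (.nd .nil (.nd (.nd (.lf [0, 56, 106]) .nil) .nil)) (.nd .nil (.nd (.nd .nil (.lf [0, 50, 267])) .nil))))))) (.nd (.nd (.nd .nil (.nd (.nd (.nd .nil (.nd (.nd (.lf [123, 229]) .nil) .nil)) (.nd .nil (.nd (.nd .nil (.lf [173, 311])) .nil))) (.nd (.nd (.nd .nil (.nd .nil (.lf [16, 135, 172]))) .nil) (.nd (.nd .nil (.nd (.lf [1, 38, 172]) .nil)) .nil)))) (.nd (.nd (.nd (.nd (.nd .nil (.nd (.lf [57, 142, 384]) .nil)) .nil) (.nd (.nd .nil (.nd .nil (.lf [24, 144, 384]))) .nil)) (.nd (.nd .nil (.nd (.nd .nil (.lf [1, 38])) .nil)) (.nd .nil (.nd (.nd (.lf [16, 135]) .nil) .nil)))) .nil)) (.nd (.nd (.nd (.nd (.nd (.nd (.nd .nil (.lf [0, 24, 144])) .nil) .nil) (.nd (.nd (.nd (.lf [0, 57, 142]) .nil) .nil) .nil)) (.nd (.nd .nil (.nd .nil (.nd (.lf [139, 175,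 224]) .nil))) (.nd .nil (.nd .nil (.nd .nil (.lf [97, 175, 235])))))) .nil) (.nd .nil (.nd (.nd (.nd .nil (.nd .nil (.nd .nil (.lf [16, 135, 140])))) (.nd .nil (.nd .nil (.nd (.lf [1, 38, 140]) .nil)))) (.nd (.nd (.nd (.nd (.lf [0, 102, 350]) .nil) .nil) .nil) (.nd (.nd (.nd .nil (.lf [0, 159, 163])) .nil) .nil))))))) (.nd (.nd (.nd (.nd .nil (.nd (.nd (.nd (.nd (.nd (.lf [0, 47, 299]) .nil) .nil) .nil) (.nd (.nd (.nd .nil (.lf [0, 44, 59])) .nil) .nil)) (.nd (.nd .nil (.nd .nil (.nd .nil (.lf [102, 175, 350])))) (.nd .nil (.nd .nil (.nd (.lf [140, 272, 275]) .nil)))))) (.nd (.nd (.nd (.nd .nil (.nd .nil (.nd (.lf [24, 144, 175]) .nil))) (.nd .nil (.nd .nil (.nd .nil (.lf [56, 106, 140]))))) (.nd (.nd (.nd (.nd .nil (.lf [0, 139, 224])) .nil) .nil) (.nd (.nd (.nd (.lf [0, 97, 235]) .nil) .nil) .nil))) .nil)) (.nd (.nd (.nd (.nd (.nd .nil (.nd (.nd .nil (.lf [272,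 275])) .nil)) (.nd .nil (.nd (.nd (.lf [178, 286]) .nil) .nil))) (.nd (.nd (.nd .nil (.nd (.lf [50, 172, 267]) .nil)) .nil) (.nd (.nd .nil (.nd .nil (.lf [56, 106, 172]))) .nil))) .nil) (.nd .nil (.nd (.nd (.nd (.nd .nil (.nd .nil (.lf [44, 59, 384]))) .nil) (.nd (.nd .nil (.nd (.lf [47, 299, 384]) .nil)) .nil)) (.nd (.nd .nil (.nd (.nd (.lf [56, 106]) .nil) .nil)) (.nd .nil (.nd (.nd .nil (.lf [50, 267])) .nil))))))) (.nd (.nd (.nd .nil (.nd (.nd (.nd .nil (.nd (.nd (.lf [0, 123, 229]) .nil) .nil)) (.nd .nil (.nd (.nd .nil (.lf [0, 173, 311])) .nil))) (.nd (.nd (.nd .nil (.nd .nil (.lf [56, 106, 175]))) .nil) (.nd (.nd .nil (.nd (.lf [24, 140, 144]) .nil)) .nil)))) (.nd (.nd (.nd (.nd (.nd .nil (.nd (.lf [140, 159, 163]) .nil)) .nil) (.nd (.nd .nil (.nd .nil (.lf [102, 140, 350]))) .nil)) (.nd (.nd .nil (.nd (.nd .nil (.lf [0, 1, 38])) .nil)) (.nd .nil (.nd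 (.nd (.lf [0, 16, 135]) .nil) .nil)))) .nil)) (.nd (.nd (.nd (.nd (.nd (.nd (.nd .nil (.lf [24, 144])) .nil) .nil) (.nd (.nd (.nd (.lf [57, 142]) .nil) .nil) .nil)) (.nd (.nd .nil (.nd .nil (.nd (.lf [16, 135, 384]) .nil))) (.nd .nil (.nd .nil (.nd .nil (.lf [1, 38, 384])))))) .nil) (.nd .nil (.nd (.nd (.nd .nil (.nd .nil (.nd .nil (.lf [57, 142, 172])))) (.nd .nil (.nd .nil (.nd (.lf [24, 144, 172]) .nil)))) (.nd (.nd (.nd (.nd (.lf [102, 350]) .nil) .nil) .nil) (.nd (.nd (.nd .nil (.lf [159, 163])) .nil) .nil))))))))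

theorem kf52 : chkF cf52 52 = true := by decide +kernel

/-- The factorizations of a coset. -/
def cf58 : TF :=
  (.nd (.nd (.nd (.nd (.nd (.nd (.nd (.nd (.nd (.nd .nil (.lf [54, 338, 348])) .nil) (.nd .nil (.nd .nil (.lf [193, 324, 409])))) (.nd (.nd (.nd (.lf [43, 324, 335]) .nil) .nil) (.nd .nil (.nd (.lf [185, 253, 324]) .nil)))) .nil) (.nd (.nd (.nd (.nd (.nd .nil (.lf [64, 280])) .nil) (.nd .nil (.nd .nil (.lf [193, 409])))) (.nd (.nd (.nd (.lf [43, 335]) .nil) .nil) (.nd .nil (.nd (.lf [185, 253]) .nil)))) .nil)) (.nd (.nd (.nd (.nd (.nd (.nd .nil (.lf [172, 185, 253])) .nil) (.nd .nil (.nd .nil (.lf [43, 172, 335])))) (.nd (.nd (.nd (.lf [172, 193, 409]) .nil) .nil) (.nd .nil (.nd (.lf [64, 172, 280]) .nil)))) .nil) (.nd (.nd (.nd (.nd (.nd .nil (.lf [64, 249, 280])) .nil) (.nd .nil (.nd .nil (.lf [107, 260, 431])))) (.nd (.nd (.nd (.lf [43, 249, 335])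 .nil) .nil) (.nd .nil (.nd (.lf [107, 363, 370]) .nil)))) .nil))) .nil) (.nd (.nd (.nd (.nd .nil (.nd (.nd (.nd .nil (.nd (.lf [107, 193, 409]) .nil)) (.nd (.nd (.lf [64, 107, 280]) .nil) .nil)) (.nd (.nd .nil (.nd .nil (.lf [107, 185, 253]))) (.nd (.nd .nil (.lf [43, 107, 335])) .nil)))) (.nd .nil (.nd (.nd (.nd .nil (.nd (.lf [62, 255, 384]) .nil)) (.nd (.nd (.lf [172, 363, 370]) .nil) .nil)) (.nd (.nd .nil (.nd .nil (.lf [54, 348, 384]))) (.nd (.nd .nil (.lf [172, 260, 431])) .nil))))) (.nd (.nd .nil (.nd (.nd (.nd .nil (.nd (.lf [260, 431]) .nil)) (.nd (.nd (.lf [397, 399]) .nil) .nil)) (.nd (.nd .nil (.nd .nil (.lf [363, 370]))) (.nd (.nd .nil (.lf [322, 359])) .nil)))) (.nd .nil (.nd (.nd (.nd .nil (.nd (.lf [260, 324, 431]) .nil)) (.nd (.nd (.lf [324, 397, 399]) .nil) .nil)) (.nd (.nd .nil (.nd .nil (.lf [283, 338, 425]))) (.nd (.nd .nil (.lf [322, 324,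 359])) .nil)))))) .nil)) (.nd (.nd .nil (.nd (.nd (.nd (.nd (.nd (.nd .nil (.nd (.lf [332, 334]) .nil)) (.nd (.nd (.lf [341, 394]) .nil) .nil)) (.nd (.nd .nil (.nd .nil (.lf [283, 425]))) (.nd (.nd .nil (.lf [413, 416])) .nil))) .nil) (.nd (.nd (.nd (.nd .nil (.nd (.lf [260, 338, 431]) .nil)) (.nd (.nd (.lf [324, 341, 394]) .nil) .nil)) (.nd (.nd .nil (.nd .nil (.lf [283, 324, 425]))) (.nd (.nd .nil (.lf [322, 338, 359])) .nil))) .nil)) (.nd (.nd (.nd (.nd (.nd .nil (.nd (.lf [107, 198, 228]) .nil)) (.nd (.nd (.lf [54, 107, 348]) .nil) .nil)) (.nd (.nd .nil (.nd .nil (.lf [107, 214, 420]))) (.nd (.nd .nil (.lf [62, 107, 255])) .nil))) .nil) (.nd (.nd (.nd (.nd .nil (.nd (.lf [43, 335, 384]) .nil)) (.nd (.nd (.lf [172, 283, 425]) .nil) .nil)) (.nd (.nd .nil (.nd .nil (.lf [64, 280, 384]))) (.nd (.nd .nil (.lf [172, 332, 334])) .nil))) .nil)))) (.nd .nil (.nd (.nd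 (.nd .nil (.nd (.nd (.nd (.nd .nil (.lf [172, 214, 420])) .nil) (.nd .nil (.nd .nil (.lf [62, 172, 255])))) (.nd (.nd (.nd (.lf [172, 198, 228]) .nil) .nil) (.nd .nil (.nd (.lf [54, 172, 348]) .nil))))) (.nd .nil (.nd (.nd (.nd (.nd .nil (.lf [54, 249, 348])) .nil) (.nd .nil (.nd .nil (.lf [107, 332, 334])))) (.nd (.nd (.nd (.lf [62, 249, 255]) .nil) .nil) (.nd .nil (.nd (.lf [107, 283, 425]) .nil)))))) (.nd (.nd .nil (.nd (.nd (.nd (.nd .nil (.lf [54, 324, 348])) .nil) (.nd .nil (.nd .nil (.lf [193, 338, 409])))) (.nd (.nd (.nd (.lf [43, 335, 338]) .nil) .nil) (.nd .nil (.nd (.lf [185, 253, 338]) .nil))))) (.nd .nil (.nd (.nd (.nd (.nd .nil (.lf [54, 348])) .nil) (.nd .nil (.nd .nil (.lf [198, 228])))) (.nd (.nd (.nd (.lf [62, 255]) .nil) .nil) (.nd .nil (.nd (.lf [214, 420]) .nil))))))))))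

theorem kf58 : chkF cf58 58 = true := by decide +kernel

/-- The factorizations of a coset. -/
def cf61 : TF :=
  (.nd (.nd (.nd (.nd (.nd .nil (.nd (.nd (.nd (.nd (.nd .nil (.lf [49, 156])) .nil) .nil) (.nd (.nd (.nd (.lf [137, 414]) .nil) .nil) .nil)) (.nd (.nd (.nd (.nd .nil (.lf [4, 46, 218])) .nil) .nil) (.nd (.nd (.nd (.lf [20, 118, 218]) .nil) .nil) .nil)))) (.nd .nil (.nd (.nd (.nd (.nd (.nd .nil (.lf [49, 156, 249])) .nil) .nil) (.nd (.nd (.nd (.lf [107, 295, 300]) .nil) .nil) .nil)) (.nd (.nd (.nd (.nd .nil (.lf [0, 25, 199])) .nil) .nil) (.nd (.nd (.nd (.lf [0, 120, 258]) .nil) .nil) .nil))))) (.nd (.nd (.nd (.nd (.nd .nil (.nd (.nd (.lf [0, 20, 118]) .nil) .nil)) (.nd .nil (.nd (.nd .nil (.lf [0, 4, 46])) .nil))) (.nd (.nd .nil (.nd (.nd (.lf [107, 117, 217]) .nil) .nil)) (.nd .nil (.nd (.nd .nil (.lf [55, 107, 176])) .nil)))) .nil) (.nd (.nd (.nd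 (.nd .nil (.nd (.nd (.lf [120, 218, 258]) .nil) .nil)) (.nd .nil (.nd (.nd .nil (.lf [25, 199, 218])) .nil))) (.nd (.nd .nil (.nd (.nd (.lf [143, 213]) .nil) .nil)) (.nd .nil (.nd (.nd .nil (.lf [127, 374])) .nil)))) .nil))) (.nd (.nd (.nd (.nd (.nd (.nd .nil (.nd (.nd (.lf [0, 35, 79]) .nil) .nil)) (.nd .nil (.nd (.nd .nil (.lf [0, 81, 296])) .nil))) (.nd (.nd .nil (.nd (.nd (.lf [49, 107, 156]) .nil) .nil)) (.nd .nil (.nd (.nd .nil (.lf [107, 137, 414])) .nil)))) .nil) (.nd (.nd (.nd (.nd .nil (.nd (.nd (.lf [11, 218, 301]) .nil) .nil)) (.nd .nil (.nd (.nd .nil (.lf [119, 138, 218])) .nil))) (.nd (.nd .nil (.nd (.nd (.lf [203, 261]) .nil) .nil)) (.nd .nil (.nd (.nd .nil (.lf [295, 300])) .nil)))) .nil)) (.nd (.nd .nil (.nd (.nd (.nd (.nd (.nd .nil (.lf [117, 217])) .nil) .nil) (.nd (.nd (.nd (.lf [55, 176]) .nil) .nil) .nil)) (.nd (.nd (.nd (.nd .nil (.lf [81,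 218, 296])) .nil) .nil) (.nd (.nd (.nd (.lf [35, 79, 218]) .nil) .nil) .nil)))) (.nd .nil (.nd (.nd (.nd (.nd (.nd .nil (.lf [107, 143, 213])) .nil) .nil) (.nd (.nd (.nd (.lf [55, 176, 249]) .nil) .nil) .nil)) (.nd (.nd (.nd (.nd .nil (.lf [0, 119, 138])) .nil) .nil) (.nd (.nd (.nd (.lf [0, 11, 301]) .nil) .nil) .nil))))))) (.nd (.nd (.nd (.nd .nil (.nd (.nd (.nd (.nd (.nd .nil (.lf [0, 49, 156])) .nil) .nil) (.nd (.nd (.nd (.lf [0, 137, 414]) .nil) .nil) .nil)) (.nd (.nd (.nd (.nd .nil (.lf [25, 199, 249])) .nil) .nil) (.nd (.nd (.nd (.lf [81, 107, 296]) .nil) .nil) .nil)))) (.nd .nil (.nd (.nd (.nd (.nd (.nd .nil (.lf [25, 199, 251])) .nil) .nil) (.nd (.nd (.nd (.lf [120, 251, 258]) .nil) .nil) .nil)) (.nd (.nd (.nd (.nd .nil (.lf [25, 199])) .nil) .nil) (.nd (.nd (.nd (.lf [120, 258]) .nil) .nil) .nil))))) (.nd (.nd (.nd (.nd (.nd .nil (.nd (.nd (.lf [20,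 118]) .nil) .nil)) (.nd .nil (.nd (.nd .nil (.lf [4, 46])) .nil))) (.nd (.nd .nil (.nd (.nd (.lf [20, 118, 251]) .nil) .nil)) (.nd .nil (.nd (.nd .nil (.lf [4, 46, 251])) .nil)))) .nil) (.nd (.nd (.nd (.nd .nil (.nd (.nd (.lf [20, 118, 249]) .nil) .nil)) (.nd .nil (.nd (.nd .nil (.lf [4, 46, 249])) .nil))) (.nd (.nd .nil (.nd (.nd (.lf [0, 143, 213]) .nil) .nil)) (.nd .nil (.nd (.nd .nil (.lf [0, 127, 374])) .nil)))) .nil))) (.nd (.nd (.nd (.nd (.nd (.nd .nil (.nd (.nd (.lf [35, 79]) .nil) .nil)) (.nd .nil (.nd (.nd .nil (.lf [81, 296])) .nil))) (.nd (.nd .nil (.nd (.nd (.lf [35, 79, 251]) .nil) .nil)) (.nd .nil (.nd (.nd .nil (.lf [81, 251, 296])) .nil)))) .nil) (.nd (.nd (.nd (.nd .nil (.nd (.nd (.lf [25, 107, 199]) .nil) .nil)) (.nd .nil (.nd (.nd .nil (.lf [81, 249, 296])) .nil))) (.nd (.nd .nil (.nd (.nd (.lf [0, 203, 261]) .nil) .nil)) (.nd .nil (.nd (.nd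 .nil (.lf [0, 295, 300])) .nil)))) .nil)) (.nd (.nd .nil (.nd (.nd (.nd (.nd (.nd .nil (.lf [0, 117, 217])) .nil) .nil) (.nd (.nd (.nd (.lf [0, 55, 176]) .nil) .nil) .nil)) (.nd (.nd (.nd (.nd .nil (.lf [20, 107, 118])) .nil) .nil) (.nd (.nd (.nd (.lf [4, 46, 107]) .nil) .nil) .nil)))) (.nd .nil (.nd (.nd (.nd (.nd (.nd .nil (.lf [119, 138, 251])) .nil) .nil) (.nd (.nd (.nd (.lf [11, 251, 301]) .nil) .nil) .nil)) (.nd (.nd (.nd (.nd .nil (.lf [119, 138])) .nil) .nil) (.nd (.nd (.nd (.lf [11, 301]) .nil) .nil) .nil))))))))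

theorem kf61 : chkF cf61 61 = true := by decide +kernel

/-- The factorizations of a coset. -/
def cf68 : TF :=
  (.nd (.nd (.nd (.nd (.nd (.nd (.nd (.nd (.nd (.nd (.lf [184, 211]) .nil) (.nd (.lf [30, 65, 109]) .nil)) (.nd (.nd (.lf [184, 211, 220]) .nil) (.nd (.lf [238, 324, 328]) .nil))) .nil) .nil) (.nd (.nd (.nd (.nd (.nd (.lf [184, 211, 324]) .nil) (.nd (.lf [220, 238, 328]) .nil)) (.nd (.nd (.lf [109, 406, 408]) .nil) (.nd (.lf [238, 328]) .nil))) .nil) .nil)) .nil) (.nd (.nd (.nd (.nd (.nd (.nd (.nd (.lf [30, 65, 149]) .nil) (.nd (.lf [30, 65]) .nil)) (.nd (.nd (.lf [324, 406, 408]) .nil) (.nd (.lf [30, 65, 220]) .nil))) .nil) .nil) (.nd (.nd (.nd (.nd (.nd (.lf [220, 406, 408]) .nil) (.nd (.lf [30, 65, 324]) .nil)) (.nd (.nd (.lf [406, 408]) .nil) (.nd (.lf [109, 238, 328]) .nil))) .nil) .nil)) .nil)) (.nd (.nd .nil (.nd (.nd .nil (.nd .nil (.nd (.nd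 (.nd (.lf [109, 279, 405]) .nil) (.nd (.lf [226, 313]) .nil)) (.nd (.nd (.lf [309, 324, 386]) .nil) (.nd (.lf [168, 234, 314]) .nil))))) (.nd .nil (.nd .nil (.nd (.nd (.nd (.lf [220, 309, 386]) .nil) (.nd (.lf [33, 93, 338]) .nil)) (.nd (.nd (.lf [309, 386]) .nil) (.nd (.lf [109, 315, 389]) .nil))))))) (.nd .nil (.nd (.nd .nil (.nd .nil (.nd (.nd (.nd (.lf [279, 405]) .nil) (.nd (.lf [109, 226, 313]) .nil)) (.nd (.nd (.lf [33, 93, 314]) .nil) (.nd (.lf [259, 338, 358]) .nil))))) (.nd .nil (.nd .nil (.nd (.nd (.nd (.lf [168, 234, 338]) .nil) (.nd (.lf [220, 315, 389]) .nil)) (.nd (.nd (.lf [109, 309, 386]) .nil) (.nd (.lf [315, 389]) .nil))))))))) (.nd (.nd (.nd (.nd (.nd (.nd .nil (.nd (.nd (.nd (.lf [168, 234]) .nil) (.nd (.lf [33, 93, 109]) .nil)) (.nd (.nd (.lf [168, 220, 234]) .nil) (.nd (.lf [259, 324, 358]) .nil)))) .nil) (.nd (.nd .nil (.nd (.nd (.nd (.lf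 [168, 234, 324]) .nil) (.nd (.lf [220, 259, 358]) .nil)) (.nd (.nd (.lf [109, 381, 421]) .nil) (.nd (.lf [259, 358]) .nil)))) .nil)) .nil) (.nd (.nd (.nd (.nd .nil (.nd (.nd (.nd (.lf [33, 93, 149]) .nil) (.nd (.lf [33, 93]) .nil)) (.nd (.nd (.lf [309, 338, 386]) .nil) (.nd (.lf [33, 93, 220]) .nil)))) .nil) (.nd (.nd .nil (.nd (.nd (.nd (.lf [220, 381, 421]) .nil) (.nd (.lf [33, 93, 324]) .nil)) (.nd (.nd (.lf [381, 421]) .nil) (.nd (.lf [109, 259, 358]) .nil)))) .nil)) .nil)) (.nd (.nd .nil (.nd (.nd .nil (.nd (.nd (.nd (.nd (.lf [109, 254, 385]) .nil) (.nd (.lf [206, 308]) .nil)) (.nd (.nd (.lf [324, 325, 352]) .nil) (.nd (.lf [184, 211, 314]) .nil))) .nil)) (.nd .nil (.nd (.nd (.nd (.nd (.lf [220, 325, 352]) .nil) (.nd (.lf [30, 65, 338]) .nil)) (.nd (.nd (.lf [325, 352]) .nil) (.nd (.lf [109, 292, 410]) .nil))) .nil)))) (.nd .nil (.nd (.nd .nil (.nd (.nd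 (.nd (.nd (.lf [254, 385]) .nil) (.nd (.lf [109, 206, 308]) .nil)) (.nd (.nd (.lf [30, 65, 314]) .nil) (.nd (.lf [238, 328, 338]) .nil))) .nil)) (.nd .nil (.nd (.nd (.nd (.nd (.lf [184, 211, 338]) .nil) (.nd (.lf [220, 292, 410]) .nil)) (.nd (.nd (.lf [109, 325, 352]) .nil) (.nd (.lf [292, 410]) .nil))) .nil)))))))

theorem kf68 : chkF cf68 68 = true := by decide +kernel

/-- The factorizations of a coset. -/
def cf77 : TF :=
  (.nd (.nd (.nd (.nd (.nd (.nd (.nd (.nd (.nd (.nd .nil (.lf [232, 305])) .nil) .nil) (.nd .nil (.nd .nil (.nd (.lf [215, 324, 356]) .nil)))) (.nd (.nd (.nd (.nd .nil (.lf [140, 164, 429])) .nil) .nil) (.nd .nil (.nd .nil (.nd (.lf [145, 218, 433]) .nil))))) (.nd (.nd (.nd (.nd (.nd .nil (.lf [232, 305, 324])) .nil) .nil) (.nd .nil (.nd .nil (.nd (.lf [215, 356]) .nil)))) (.nd (.nd (.nd (.nd .nil (.lf [175, 303, 412])) .nil) .nil) (.nd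 .nil (.nd .nil (.nd (.lf [140, 361, 362]) .nil)))))) .nil) (.nd (.nd (.nd (.nd (.nd .nil (.nd (.nd .nil (.lf [361, 362])) .nil)) (.nd (.nd .nil (.nd (.lf [91, 147, 338]) .nil)) .nil)) (.nd (.nd .nil (.nd (.nd .nil (.lf [140, 215, 356])) .nil)) (.nd (.nd .nil (.nd (.lf [175, 353, 398]) .nil)) .nil))) (.nd (.nd (.nd .nil (.nd (.nd .nil (.lf [324, 361, 362])) .nil)) (.nd (.nd .nil (.nd (.lf [164, 429]) .nil)) .nil)) (.nd (.nd .nil (.nd (.nd .nil (.lf [85, 131, 175])) .nil)) (.nd (.nd .nil (.nd (.lf [140, 232, 305]) .nil)) .nil)))) .nil)) (.nd (.nd .nil (.nd (.nd (.nd (.nd (.nd .nil (.nd (.lf [175, 361, 362]) .nil)) .nil) (.nd .nil (.nd (.nd .nil (.lf [140, 303, 412])) .nil))) (.nd (.nd (.nd .nil (.nd (.lf [85, 131, 324]) .nil)) .nil) (.nd .nil (.nd (.nd .nil (.lf [353, 398])) .nil)))) (.nd (.nd (.nd (.nd .nil (.nd (.lf [85, 131, 251]) .nil)) .nil) (.nd .nil (.nd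 (.nd .nil (.lf [164, 175, 429])) .nil))) (.nd (.nd (.nd .nil (.nd (.lf [85, 131]) .nil)) .nil) (.nd .nil (.nd (.nd .nil (.lf [324, 353, 398])) .nil)))))) (.nd .nil (.nd (.nd (.nd (.nd .nil (.nd .nil (.nd (.lf [91, 147, 218]) .nil))) (.nd (.nd (.nd .nil (.lf [85, 131, 140])) .nil) .nil)) (.nd (.nd .nil (.nd .nil (.nd (.lf [237, 331, 338]) .nil))) (.nd (.nd (.nd .nil (.lf [219, 318])) .nil) .nil))) (.nd (.nd (.nd .nil (.nd .nil (.nd (.lf [140, 353, 398]) .nil))) (.nd (.nd (.nd .nil (.lf [175, 215, 356])) .nil) .nil)) (.nd (.nd .nil (.nd .nil (.nd (.lf [303, 412]) .nil))) (.nd (.nd (.nd .nil (.lf [219, 318, 324])) .nil) .nil))))))) (.nd (.nd (.nd (.nd (.nd (.nd (.nd .nil (.nd .nil (.nd (.lf [237, 324, 331]) .nil))) (.nd (.nd (.nd .nil (.lf [256, 312])) .nil) .nil)) (.nd (.nd .nil (.nd .nil (.nd (.lf [164, 218, 429]) .nil))) (.nd (.nd (.nd .nil (.lf [140, 145, 433]))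 .nil) .nil))) (.nd (.nd (.nd .nil (.nd .nil (.nd (.lf [237, 331]) .nil))) (.nd (.nd (.nd .nil (.lf [219, 318, 338])) .nil) .nil)) (.nd (.nd .nil (.nd .nil (.nd (.lf [140, 395, 396]) .nil))) (.nd (.nd (.nd .nil (.lf [175, 319, 423])) .nil) .nil)))) .nil) (.nd (.nd (.nd (.nd (.nd (.nd .nil (.nd (.lf [85, 131, 338]) .nil)) .nil) (.nd .nil (.nd (.nd .nil (.lf [395, 396])) .nil))) (.nd (.nd (.nd .nil (.nd (.lf [175, 360, 375]) .nil)) .nil) (.nd .nil (.nd (.nd .nil (.lf [140, 237, 331])) .nil)))) (.nd (.nd (.nd (.nd .nil (.nd (.lf [145, 433]) .nil)) .nil) (.nd .nil (.nd (.nd .nil (.lf [324, 395, 396])) .nil))) (.nd (.nd (.nd .nil (.nd (.lf [140, 256, 312]) .nil)) .nil) (.nd .nil (.nd (.nd .nil (.lf [91, 147, 175])) .nil))))) .nil)) (.nd (.nd .nil (.nd (.nd (.nd (.nd .nil (.nd (.nd .nil (.lf [140, 319, 423])) .nil)) (.nd (.nd .nil (.nd (.lf [175, 395, 396]) .nil)) .nil))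 (.nd (.nd .nil (.nd (.nd .nil (.lf [360, 375])) .nil)) (.nd (.nd .nil (.nd (.lf [91, 147, 324]) .nil)) .nil))) (.nd (.nd (.nd .nil (.nd (.nd .nil (.lf [145, 175, 433])) .nil)) (.nd (.nd .nil (.nd (.lf [91, 147, 251]) .nil)) .nil)) (.nd (.nd .nil (.nd (.nd .nil (.lf [324, 360, 375])) .nil)) (.nd (.nd .nil (.nd (.lf [91, 147]) .nil)) .nil))))) (.nd .nil (.nd (.nd (.nd (.nd (.nd (.nd .nil (.lf [91, 140, 147])) .nil) .nil) (.nd .nil (.nd .nil (.nd (.lf [85, 131, 218]) .nil)))) (.nd (.nd (.nd (.nd .nil (.lf [243, 302])) .nil) .nil) (.nd .nil (.nd .nil (.nd (.lf [215, 338, 356]) .nil))))) (.nd (.nd (.nd (.nd (.nd .nil (.lf [175, 237, 331])) .nil) .nil) (.nd .nil (.nd .nil (.nd (.lf [140, 360, 375]) .nil)))) (.nd (.nd (.nd (.nd .nil (.lf [232, 305, 338])) .nil) .nil) (.nd .nil (.nd .nil (.nd (.lf [319, 423]) .nil))))))))))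

theorem kf77 : chkF cf77 77 = true := by decide +kernel

end Cfsg.Agent.Lib.Fi22K
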