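import Mathlib
import Cfsg.Agent.Lib.Fi22K5a

set_option autoImplicit false
set_option maxRecDepth 1000000
set_option linter.all false

namespace Cfsg.Agent.Lib.Fi22K

open Cfsg.Agent.Lib.OutTree36
open Cfsg.Agent.TcChain36.Out.Fi22

set_option Elab.async false

/-- The factorizations of a coset. -/
def cf84 : TF :=
  (.nd (.nd (.nd (.nd (.nd (.nd (.nd .nil (.nd (.nd (.nd .nil (.lf [210, 317])) .nil) (.nd .nil (.nd .nil (.lf [284, 342]))))) .nil) (.nd (.nd .nil (.nd (.nd (.nd .nil (.lf [210, 317, 324])) .nil) (.nd .nil (.nd .nil (.lf [284, 324, 342]))))) .nil)) (.nd (.nd .nil (.nd .nil (.nd (.nd .nil (.nd (.lf [201, 378, 422]) .nil)) (.nd (.nd (.lf [181, 201, 432]) .nil) .nil)))) (.nd .nil (.nd .nil (.nd (.nd .nil (.nd (.lf [141, 268, 281]) .nil)) (.nd (.nd (.lf [141, 354, 424]) .nil) .nil)))))) (.nd (.nd (.nd (.nd (.nd (.nd .nil (.nd (.lf [90, 146, 324]) .nil)) (.nd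 (.nd (.lf [298, 324, 387]) .nil) .nil)) .nil) .nil) (.nd (.nd (.nd (.nd .nil (.nd (.lf [90, 146]) .nil)) (.nd (.nd (.lf [298, 387]) .nil) .nil)) .nil) .nil)) (.nd (.nd .nil (.nd (.nd (.nd (.nd .nil (.lf [141, 181, 432])) .nil) (.nd .nil (.nd .nil (.lf [141, 378, 422])))) .nil)) (.nd .nil (.nd (.nd (.nd (.nd .nil (.lf [201, 354, 424])) .nil) (.nd .nil (.nd .nil (.lf [114, 148, 204])))) .nil))))) (.nd (.nd (.nd (.nd (.nd .nil (.nd (.nd (.nd .nil (.lf [114, 141, 148])) .nil) (.nd .nil (.nd .nil (.lf [141, 282, 367]))))) .nil) (.nd (.nd .nil (.nd (.nd (.nd .nil (.lf [201, 316, 377])) .nil) (.nd .nil (.nd .nil (.lf [181, 204, 432]))))) .nil)) (.nd (.nd .nil (.nd .nil (.nd (.nd .nil (.nd (.lf [114, 148, 338]) .nil)) (.nd (.nd (.lf [282, 338, 367]) .nil) .nil)))) (.nd .nil (.nd .nil (.nd (.nd .nil (.nd (.lf [167, 434]) .nil)) (.nd (.nd (.lf [343, 428]) .nil) .nil)))))) (.nd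 (.nd (.nd (.nd (.nd (.nd .nil (.nd (.lf [201, 282, 367]) .nil)) (.nd (.nd (.lf [114, 148, 201]) .nil) .nil)) .nil) .nil) (.nd (.nd (.nd (.nd .nil (.nd (.lf [90, 146, 247]) .nil)) (.nd (.nd (.lf [141, 316, 377]) .nil) .nil)) .nil) .nil)) (.nd (.nd .nil (.nd (.nd (.nd (.nd .nil (.lf [244, 288])) .nil) (.nd .nil (.nd .nil (.lf [376, 417])))) .nil)) (.nd .nil (.nd (.nd (.nd (.nd .nil (.lf [231, 285, 338])) .nil) (.nd .nil (.nd .nil (.lf [316, 338, 377])))) .nil)))))) (.nd (.nd (.nd (.nd (.nd (.nd (.nd (.nd (.nd .nil (.lf [231, 285])) .nil) (.nd .nil (.nd .nil (.lf [316, 377])))) .nil) .nil) (.nd (.nd (.nd (.nd (.nd .nil (.lf [231, 285, 324])) .nil) (.nd .nil (.nd .nil (.lf [316, 324, 377])))) .nil) .nil)) (.nd (.nd .nil (.nd (.nd (.nd .nil (.nd (.lf [201, 343, 428]) .nil)) (.nd (.nd (.lf [167, 201, 434]) .nil) .nil)) .nil)) (.nd .nil (.nd (.nd (.nd .nil (.nd (.lf [141,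 244, 288]) .nil)) (.nd (.nd (.lf [141, 376, 417]) .nil) .nil)) .nil)))) (.nd (.nd (.nd (.nd .nil (.nd (.nd .nil (.nd (.lf [114, 148, 324]) .nil)) (.nd (.nd (.lf [282, 324, 367]) .nil) .nil))) .nil) (.nd (.nd .nil (.nd (.nd .nil (.nd (.lf [114, 148]) .nil)) (.nd (.nd (.lf [282, 367]) .nil) .nil))) .nil)) (.nd (.nd .nil (.nd .nil (.nd (.nd (.nd .nil (.lf [141, 167, 434])) .nil) (.nd .nil (.nd .nil (.lf [141, 343, 428])))))) (.nd .nil (.nd .nil (.nd (.nd (.nd .nil (.lf [201, 376, 417])) .nil) (.nd .nil (.nd .nil (.lf [90, 146, 204]))))))))) (.nd (.nd (.nd (.nd (.nd (.nd (.nd (.nd .nil (.lf [90, 141, 146])) .nil) (.nd .nil (.nd .nil (.lf [141, 298, 387])))) .nil) .nil) (.nd (.nd (.nd (.nd (.nd .nil (.lf [201, 284, 342])) .nil) (.nd .nil (.nd .nil (.lf [167, 204, 434])))) .nil) .nil)) (.nd (.nd .nil (.nd (.nd (.nd .nil (.nd (.lf [90, 146, 338]) .nil)) (.nd (.nd (.lf [298,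 338, 387]) .nil) .nil)) .nil)) (.nd .nil (.nd (.nd (.nd .nil (.nd (.lf [181, 432]) .nil)) (.nd (.nd (.lf [378, 422]) .nil) .nil)) .nil)))) (.nd (.nd (.nd (.nd .nil (.nd (.nd .nil (.nd (.lf [201, 298, 387]) .nil)) (.nd (.nd (.lf [90, 146, 201]) .nil) .nil))) .nil) (.nd (.nd .nil (.nd (.nd .nil (.nd (.lf [114, 148, 247]) .nil)) (.nd (.nd (.lf [141, 284, 342]) .nil) .nil))) .nil)) (.nd (.nd .nil (.nd .nil (.nd (.nd (.nd .nil (.lf [268, 281])) .nil) (.nd .nil (.nd .nil (.lf [354, 424])))))) (.nd .nil (.nd .nil (.nd (.nd (.nd .nil (.lf [210, 317, 338])) .nil) (.nd .nil (.nd .nil (.lf [284, 338, 342])))))))))))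

theorem kf84 : chkF cf84 84 = true := by decide +kernel

/-- The factorizations of a coset. -/
def cf93 : TF :=
  (.nd (.nd (.nd (.nd (.nd (.nd (.nd (.nd .nil (.nd .nil (.nd .nil (.lf [260, 332])))) (.nd (.nd (.nd (.lf [193, 198]) .nil) .nil) .nil)) .nil) (.nd (.nd (.nd .nil (.nd .nil (.nd .nil (.lf [260, 324, 332])))) (.nd (.nd (.nd (.lf [193, 198, 324]) .nil) .nil) .nil)) .nil)) (.nd (.nd (.nd (.nd .nil (.nd .nil (.nd .nil (.lf [249, 260, 332])))) (.nd (.nd (.nd (.lf [193, 198, 249]) .nil) .nil) .nil)) .nil) (.nd (.nd (.nd .nil (.nd .nil (.nd .nil (.lf [43, 62, 107])))) (.nd (.nd (.nd (.lf [107, 359, 416]) .nil) .nil) .nil)) .nil))) (.nd (.nd (.nd (.nd (.nd .nil (.nd (.nd .nil (.lf [341, 397])) .nil)) (.nd (.nd .nil (.nd (.lf [280, 348]) .nil)) .nil)) .nil) (.nd (.nd (.nd .nil (.nd (.nd .nil (.lf [324, 341, 397])) .nil)) (.nd (.nd .nil (.nd (.lf [54, 64, 338]) .nil))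 .nil)) .nil)) (.nd (.nd (.nd (.nd .nil (.nd (.nd .nil (.lf [249, 341, 397])) .nil)) (.nd (.nd .nil (.nd (.lf [185, 214, 384]) .nil)) .nil)) .nil) (.nd (.nd (.nd .nil (.nd (.nd .nil (.lf [107, 253, 420])) .nil)) (.nd (.nd .nil (.nd (.lf [107, 363, 425]) .nil)) .nil)) .nil)))) (.nd (.nd (.nd (.nd .nil (.nd (.nd (.nd .nil (.nd (.lf [43, 62, 249]) .nil)) .nil) (.nd .nil (.nd (.nd .nil (.lf [249, 359, 416])) .nil)))) (.nd .nil (.nd (.nd (.nd .nil (.nd (.lf [107, 260, 332]) .nil)) .nil) (.nd .nil (.nd (.nd .nil (.lf [43, 62, 172])) .nil))))) (.nd (.nd .nil (.nd (.nd (.nd .nil (.nd (.lf [43, 62]) .nil)) .nil) (.nd .nil (.nd (.nd .nil (.lf [359, 416])) .nil)))) (.nd .nil (.nd (.nd (.nd .nil (.nd (.lf [43, 62, 324]) .nil)) .nil) (.nd .nil (.nd (.nd .nil (.lf [322, 338, 413])) .nil)))))) (.nd (.nd (.nd .nil (.nd (.nd (.nd (.nd (.lf [54, 64, 384]) .nil) .nil) .nil) (.nd .nil (.nd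 .nil (.nd .nil (.lf [249, 363, 425])))))) (.nd .nil (.nd (.nd (.nd (.nd (.lf [107, 341, 397]) .nil) .nil) .nil) (.nd .nil (.nd .nil (.nd .nil (.lf [107, 280, 348]))))))) (.nd (.nd .nil (.nd (.nd (.nd (.nd (.lf [253, 420]) .nil) .nil) .nil) (.nd .nil (.nd .nil (.nd .nil (.lf [363, 425])))))) (.nd .nil (.nd (.nd (.nd (.nd (.lf [185, 214, 338]) .nil) .nil) .nil) (.nd .nil (.nd .nil (.nd .nil (.lf [283, 338, 370])))))))))) (.nd (.nd (.nd (.nd (.nd (.nd (.nd (.nd (.nd (.lf [185, 214]) .nil) .nil) .nil) (.nd .nil (.nd .nil (.nd .nil (.lf [283, 370]))))) .nil) (.nd (.nd (.nd (.nd (.nd (.lf [185, 214, 324]) .nil) .nil) .nil) (.nd .nil (.nd .nil (.nd .nil (.lf [283, 324, 370]))))) .nil)) (.nd (.nd (.nd (.nd (.nd (.nd (.lf [185, 214, 249]) .nil) .nil) .nil) (.nd .nil (.nd .nil (.nd .nil (.lf [249, 283, 370]))))) .nil) (.nd (.nd (.nd (.nd (.nd (.lf [107, 394, 399]) .nil) .nil)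 .nil) (.nd .nil (.nd .nil (.nd .nil (.lf [54, 64, 107]))))) .nil))) (.nd (.nd (.nd (.nd (.nd (.nd .nil (.nd (.lf [255, 335]) .nil)) .nil) (.nd .nil (.nd (.nd .nil (.lf [322, 413])) .nil))) .nil) (.nd (.nd (.nd (.nd .nil (.nd (.lf [43, 62, 338]) .nil)) .nil) (.nd .nil (.nd (.nd .nil (.lf [322, 324, 413])) .nil))) .nil)) (.nd (.nd (.nd (.nd (.nd .nil (.nd (.lf [193, 198, 384]) .nil)) .nil) (.nd .nil (.nd (.nd .nil (.lf [249, 322, 413])) .nil))) .nil) (.nd (.nd (.nd (.nd .nil (.nd (.lf [107, 334, 431]) .nil)) .nil) (.nd .nil (.nd (.nd .nil (.lf [107, 228, 409])) .nil))) .nil)))) (.nd (.nd (.nd (.nd .nil (.nd (.nd .nil (.nd (.nd .nil (.lf [249, 394, 399])) .nil)) (.nd (.nd .nil (.nd (.lf [54, 64, 249]) .nil)) .nil))) (.nd .nil (.nd (.nd .nil (.nd (.nd .nil (.lf [54, 64, 172])) .nil)) (.nd (.nd .nil (.nd (.lf [107, 283, 370]) .nil)) .nil)))) (.nd (.nd .nil (.nd (.nd .nil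 (.nd (.nd .nil (.lf [394, 399])) .nil)) (.nd (.nd .nil (.nd (.lf [54, 64]) .nil)) .nil))) (.nd .nil (.nd (.nd .nil (.nd (.nd .nil (.lf [324, 394, 399])) .nil)) (.nd (.nd .nil (.nd (.lf [54, 64, 324]) .nil)) .nil))))) (.nd (.nd (.nd .nil (.nd (.nd .nil (.nd .nil (.nd .nil (.lf [249, 334, 431])))) (.nd (.nd (.nd (.lf [43, 62, 384]) .nil) .nil) .nil))) (.nd .nil (.nd (.nd .nil (.nd .nil (.nd .nil (.lf [107, 255, 335])))) (.nd (.nd (.nd (.lf [107, 322, 413]) .nil) .nil) .nil)))) (.nd (.nd .nil (.nd (.nd .nil (.nd .nil (.nd .nil (.lf [334, 431])))) (.nd (.nd (.nd (.lf [228, 409]) .nil) .nil) .nil))) (.nd .nil (.nd (.nd .nil (.nd .nil (.nd .nil (.lf [260, 332, 338])))) (.nd (.nd (.nd (.lf [193, 198, 338]) .nil) .nil) .nil))))))))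

theorem kf93 : chkF cf93 93 = true := by decide +kernel

/-- The factorizations of a coset. -/
def cf100 : TF :=
  (.nd (.nd (.nd (.nd (.nd (.nd (.nd (.nd (.nd (.nd (.lf [359, 413]) .nil) .nil) .nil) (.nd .nil (.nd .nil (.nd .nil (.lf [193, 228, 324]))))) .nil) (.nd (.nd (.nd (.nd (.nd (.lf [322, 338, 416]) .nil) .nil) .nil) (.nd .nil (.nd .nil (.nd .nil (.lf [193, 228]))))) .nil)) (.nd (.nd (.nd (.nd (.nd (.nd (.lf [172, 193, 228]) .nil) .nil) .nil) (.nd .nil (.nd .nil (.nd .nil (.lf [43, 107, 255]))))) .nil) (.nd (.nd (.nd (.nd (.nd (.lf [62, 335, 384]) .nil) .nil) .nil) (.nd .nil (.nd .nil (.nd .nil (.lf [172, 359, 413]))))) .nil))) (.nd (.nd (.nd (.nd (.nd .nil (.nd (.nd (.lf [370, 425]) .nil) .nil)) (.nd (.nd .nil (.nd .nil (.lf [54, 280, 338]))) .nil)) .nil) (.nd (.nd (.nd .nil (.nd (.nd (.lf [283, 338, 363]) .nil) .nil)) (.nd (.nd .nil (.nd .nil (.lf [64, 348])))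 .nil)) .nil)) (.nd (.nd (.nd (.nd .nil (.nd (.nd (.lf [64, 172, 348]) .nil) .nil)) (.nd (.nd .nil (.nd .nil (.lf [107, 185, 420]))) .nil)) .nil) (.nd (.nd (.nd .nil (.nd (.nd (.lf [107, 341, 399]) .nil) .nil)) (.nd (.nd .nil (.nd .nil (.lf [64, 249, 348]))) .nil)) .nil)))) (.nd (.nd (.nd (.nd .nil (.nd (.nd .nil (.nd (.nd .nil (.lf [43, 172, 255])) .nil)) (.nd (.nd .nil (.nd (.lf [107, 193, 228]) .nil)) .nil))) (.nd .nil (.nd (.nd .nil (.nd (.nd .nil (.lf [107, 359, 413])) .nil)) (.nd (.nd .nil (.nd (.lf [43, 249, 255]) .nil)) .nil)))) (.nd (.nd .nil (.nd (.nd .nil (.nd (.nd .nil (.lf [260, 334])) .nil)) (.nd (.nd .nil (.nd (.lf [43, 255, 324]) .nil)) .nil))) (.nd .nil (.nd (.nd .nil (.nd (.nd .nil (.lf [260, 324, 334])) .nil)) (.nd (.nd .nil (.nd (.lf [43, 255]) .nil)) .nil))))) (.nd (.nd (.nd .nil (.nd (.nd (.nd (.nd .nil (.lf [172, 185, 420])) .nil) .nil) (.nd .nil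 (.nd .nil (.nd (.lf [64, 107, 348]) .nil))))) (.nd .nil (.nd (.nd (.nd (.nd .nil (.lf [54, 280, 384])) .nil) .nil) (.nd .nil (.nd .nil (.nd (.lf [172, 341, 399]) .nil)))))) (.nd (.nd .nil (.nd (.nd (.nd (.nd .nil (.lf [341, 399])) .nil) .nil) (.nd .nil (.nd .nil (.nd (.lf [185, 324, 420]) .nil))))) (.nd .nil (.nd (.nd (.nd (.nd .nil (.lf [324, 341, 399])) .nil) .nil) (.nd .nil (.nd .nil (.nd (.lf [185, 420]) .nil))))))))) (.nd (.nd (.nd (.nd (.nd (.nd (.nd (.nd (.nd .nil (.lf [394, 397])) .nil) .nil) (.nd .nil (.nd .nil (.nd (.lf [185, 338, 420]) .nil)))) .nil) (.nd (.nd (.nd (.nd (.nd .nil (.lf [324, 394, 397])) .nil) .nil) (.nd .nil (.nd .nil (.nd (.lf [214, 253]) .nil)))) .nil)) (.nd (.nd (.nd (.nd (.nd (.nd .nil (.lf [172, 214, 253])) .nil) .nil) (.nd .nil (.nd .nil (.nd (.lf [54, 107, 280]) .nil)))) .nil) (.nd (.nd (.nd (.nd (.nd .nil (.lf [64, 348, 384])) .nil)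 .nil) (.nd .nil (.nd .nil (.nd (.lf [172, 394, 397]) .nil)))) .nil))) (.nd (.nd (.nd (.nd (.nd .nil (.nd (.nd .nil (.lf [332, 431])) .nil)) (.nd (.nd .nil (.nd (.lf [43, 255, 338]) .nil)) .nil)) .nil) (.nd (.nd (.nd .nil (.nd (.nd .nil (.lf [260, 334, 338])) .nil)) (.nd (.nd .nil (.nd (.lf [62, 335]) .nil)) .nil)) .nil)) (.nd (.nd (.nd (.nd .nil (.nd (.nd .nil (.lf [62, 172, 335])) .nil)) (.nd (.nd .nil (.nd (.lf [107, 198, 409]) .nil)) .nil)) .nil) (.nd (.nd (.nd .nil (.nd (.nd .nil (.lf [107, 322, 416])) .nil)) (.nd (.nd .nil (.nd (.lf [62, 249, 335]) .nil)) .nil)) .nil)))) (.nd (.nd (.nd (.nd .nil (.nd (.nd .nil (.nd (.nd (.lf [54, 172, 280]) .nil) .nil)) (.nd (.nd .nil (.nd .nil (.lf [107, 214, 253]))) .nil))) (.nd .nil (.nd (.nd .nil (.nd (.nd (.lf [107, 394, 397]) .nil) .nil)) (.nd (.nd .nil (.nd .nil (.lf [54, 249, 280]))) .nil)))) (.nd (.nd .nil (.nd (.nd .nil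 (.nd (.nd (.lf [283, 363]) .nil) .nil)) (.nd (.nd .nil (.nd .nil (.lf [54, 280, 324]))) .nil))) (.nd .nil (.nd (.nd .nil (.nd (.nd (.lf [283, 324, 363]) .nil) .nil)) (.nd (.nd .nil (.nd .nil (.lf [54, 280]))) .nil))))) (.nd (.nd (.nd .nil (.nd (.nd (.nd (.nd (.lf [172, 198, 409]) .nil) .nil) .nil) (.nd .nil (.nd .nil (.nd .nil (.lf [62, 107, 335])))))) (.nd .nil (.nd (.nd (.nd (.nd (.lf [43, 255, 384]) .nil) .nil) .nil) (.nd .nil (.nd .nil (.nd .nil (.lf [172, 322, 416]))))))) (.nd (.nd .nil (.nd (.nd (.nd (.nd (.lf [322, 416]) .nil) .nil) .nil) (.nd .nil (.nd .nil (.nd .nil (.lf [193, 228, 338])))))) (.nd .nil (.nd (.nd (.nd (.nd (.lf [322, 324, 416]) .nil) .nil) .nil) (.nd .nil (.nd .nil (.nd .nil (.lf [198, 409])))))))))))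

theorem kf100 : chkF cf100 100 = true := by decide +kernel

/-- The factorizations of a coset. -/
def cf109 : TF :=
  (.nd (.nd (.nd (.nd (.nd (.nd (.nd (.nd (.nd (.nd .nil (.lf [324, 352, 406])) (.nd .nil (.lf [65, 109, 206]))) (.nd (.nd .nil (.lf [30, 308, 314])) (.nd .nil (.lf [184, 338, 385])))) .nil) .nil) (.nd (.nd (.nd (.nd (.nd .nil (.lf [352, 406])) (.nd .nil (.lf [149, 352, 406]))) (.nd (.nd .nil (.lf [149, 211, 254])) (.nd .nil (.lf [211, 254])))) .nil) .nil)) .nil) (.nd (.nd (.nd (.nd (.nd (.nd (.nd .nil (.lf [65, 149, 206])) (.nd .nil (.lf [65, 206]))) (.nd (.nd .nil (.lf [238, 292])) (.nd .nil (.lf [65, 206, 220])))) .nil) .nil) (.nd (.nd (.nd (.nd (.nd .nil (.lf [109, 352, 406])) (.nd .nil (.lf [30, 308, 338]))) (.nd (.nd .nil (.lf [238, 292, 324])) (.nd .nil (.lf [109, 211, 254])))) .nil) .nil)) .nil)) (.nd (.nd .nil (.nd (.nd .nil (.nd (.nd (.nd (.nd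 (.lf [33, 149, 313]) .nil) (.nd (.lf [33, 313]) .nil)) (.nd (.nd (.lf [358, 389]) .nil) (.nd (.lf [33, 220, 313]) .nil))) .nil)) (.nd .nil (.nd (.nd (.nd (.nd (.lf [109, 309, 421]) .nil) (.nd (.lf [33, 313, 324]) .nil)) (.nd (.nd (.lf [259, 315, 338]) .nil) (.nd (.lf [109, 168, 405]) .nil))) .nil)))) (.nd .nil (.nd (.nd .nil (.nd (.nd (.nd (.nd (.lf [309, 324, 421]) .nil) (.nd (.lf [33, 109, 313]) .nil)) (.nd (.nd (.lf [93, 226, 314]) .nil) (.nd (.lf [168, 324, 405]) .nil))) .nil)) (.nd .nil (.nd (.nd (.nd (.nd (.lf [309, 421]) .nil) (.nd (.lf [149, 309, 421]) .nil)) (.nd (.nd (.lf [149, 168, 405]) .nil) (.nd (.lf [168, 405]) .nil))) .nil)))))) (.nd (.nd (.nd (.nd (.nd (.nd (.nd (.nd (.nd (.lf [309, 338, 421]) .nil) (.nd (.lf [93, 109, 226]) .nil)) (.nd (.nd (.lf [33, 313, 314]) .nil) (.nd (.lf [168, 338, 405]) .nil))) .nil) .nil) (.nd (.nd (.nd (.nd (.nd (.lf [381,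 386]) .nil) (.nd (.lf [149, 381, 386]) .nil)) (.nd (.nd (.lf [149, 234, 279]) .nil) (.nd (.lf [234, 279]) .nil))) .nil) .nil)) .nil) (.nd (.nd (.nd (.nd (.nd (.nd (.nd (.lf [93, 149, 226]) .nil) (.nd (.lf [93, 226]) .nil)) (.nd (.nd (.lf [259, 315]) .nil) (.nd (.lf [93, 220, 226]) .nil))) .nil) .nil) (.nd (.nd (.nd (.nd (.nd (.lf [109, 381, 386]) .nil) (.nd (.lf [33, 313, 338]) .nil)) (.nd (.nd (.lf [259, 315, 324]) .nil) (.nd (.lf [109, 234, 279]) .nil))) .nil) .nil)) .nil)) (.nd (.nd .nil (.nd (.nd .nil (.nd (.nd (.nd (.nd .nil (.lf [30, 149, 308])) (.nd .nil (.lf [30, 308]))) (.nd (.nd .nil (.lf [328, 410])) (.nd .nil (.lf [30, 220, 308])))) .nil)) (.nd .nil (.nd (.nd (.nd (.nd .nil (.lf [109, 325, 408])) (.nd .nil (.lf [30, 308, 324]))) (.nd (.nd .nil (.lf [238, 292, 338])) (.nd .nil (.lf [109, 184, 385])))) .nil)))) (.nd .nil (.nd (.nd .nil (.nd (.nd (.nd (.nd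 .nil (.lf [324, 325, 408])) (.nd .nil (.lf [30, 109, 308]))) (.nd (.nd .nil (.lf [65, 206, 314])) (.nd .nil (.lf [184, 324, 385])))) .nil)) (.nd .nil (.nd (.nd (.nd (.nd .nil (.lf [325, 408])) (.nd .nil (.lf [149, 325, 408]))) (.nd (.nd .nil (.lf [149, 184, 385])) (.nd .nil (.lf [184, 385])))) .nil)))))))

theorem kf109 : chkF cf109 109 = true := by decide +kernel

/-- The factorizations of a coset. -/
def cf116 : TF :=
  (.nd (.nd (.nd (.nd (.nd (.nd (.nd (.nd .nil (.nd .nil (.nd (.lf [244, 285]) .nil))) (.nd (.nd (.nd .nil (.lf [298, 338, 422])) .nil) .nil)) .nil) (.nd (.nd (.nd .nil (.nd .nil (.nd (.lf [231, 288, 338]) .nil))) (.nd (.nd (.nd .nil (.lf [378, 387])) .nil) .nil)) .nil)) (.nd (.nd .nil (.nd (.nd .nil (.nd (.nd .nil (.lf [146, 201, 432])) .nil)) (.nd (.nd .nil (.nd (.lf [141, 298, 422]) .nil)) .nil))) (.nd .nil (.nd (.nd .nil (.nd (.nd .nil (.lf [141,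 231, 288])) .nil)) (.nd (.nd .nil (.nd (.lf [148, 247, 434]) .nil)) .nil))))) (.nd (.nd (.nd (.nd (.nd .nil (.nd (.nd (.lf [316, 376]) .nil) .nil)) (.nd (.nd .nil (.nd .nil (.lf [90, 181, 324]))) .nil)) .nil) (.nd (.nd (.nd .nil (.nd (.nd (.lf [316, 324, 376]) .nil) .nil)) (.nd (.nd .nil (.nd .nil (.lf [90, 181]))) .nil)) .nil)) (.nd (.nd .nil (.nd (.nd .nil (.nd .nil (.nd .nil (.lf [201, 298, 422])))) (.nd (.nd (.nd (.lf [141, 146, 432]) .nil) .nil) .nil))) (.nd .nil (.nd (.nd .nil (.nd .nil (.nd .nil (.lf [114, 167, 204])))) (.nd (.nd (.nd (.lf [201, 231, 288]) .nil) .nil) .nil)))))) (.nd (.nd (.nd (.nd (.nd (.nd .nil (.nd .nil (.nd (.lf [201, 343, 367]) .nil))) (.nd (.nd (.nd .nil (.lf [114, 141, 167])) .nil) .nil)) .nil) (.nd (.nd (.nd .nil (.nd .nil (.nd (.lf [141, 284, 354]) .nil))) (.nd (.nd (.nd .nil (.lf [201, 268, 317])) .nil) .nil)) .nil)) (.nd (.nd .nil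 (.nd (.nd .nil (.nd (.nd .nil (.lf [342, 424])) .nil)) (.nd (.nd .nil (.nd (.lf [114, 167, 338]) .nil)) .nil))) (.nd .nil (.nd (.nd .nil (.nd (.nd .nil (.lf [284, 338, 354])) .nil)) (.nd (.nd .nil (.nd (.lf [148, 434]) .nil)) .nil))))) (.nd (.nd (.nd (.nd (.nd .nil (.nd (.nd (.lf [114, 167, 201]) .nil) .nil)) (.nd (.nd .nil (.nd .nil (.lf [141, 343, 367]))) .nil)) .nil) (.nd (.nd (.nd .nil (.nd (.nd (.lf [141, 268, 317]) .nil) .nil)) (.nd (.nd .nil (.nd .nil (.lf [90, 181, 247]))) .nil)) .nil)) (.nd (.nd .nil (.nd (.nd .nil (.nd .nil (.nd .nil (.lf [210, 281])))) (.nd (.nd (.nd (.lf [282, 324, 428]) .nil) .nil) .nil))) (.nd .nil (.nd (.nd .nil (.nd .nil (.nd .nil (.lf [210, 281, 324])))) (.nd (.nd (.nd (.lf [282, 428]) .nil) .nil) .nil))))))) (.nd (.nd (.nd (.nd (.nd (.nd (.nd .nil (.nd .nil (.nd .nil (.lf [268, 317])))) (.nd (.nd (.nd (.lf [282, 338, 428]) .nil) .nil)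 .nil)) .nil) (.nd (.nd (.nd .nil (.nd .nil (.nd .nil (.lf [210, 281, 338])))) (.nd (.nd (.nd (.lf [343, 367]) .nil) .nil) .nil)) .nil)) (.nd (.nd .nil (.nd (.nd .nil (.nd (.nd (.lf [148, 201, 434]) .nil) .nil)) (.nd (.nd .nil (.nd .nil (.lf [141, 282, 428]))) .nil))) (.nd .nil (.nd (.nd .nil (.nd (.nd (.lf [141, 210, 281]) .nil) .nil)) (.nd (.nd .nil (.nd .nil (.lf [146, 247, 432]))) .nil))))) (.nd (.nd (.nd (.nd (.nd .nil (.nd (.nd .nil (.lf [284, 354])) .nil)) (.nd (.nd .nil (.nd (.lf [114, 167, 324]) .nil)) .nil)) .nil) (.nd (.nd (.nd .nil (.nd (.nd .nil (.lf [284, 324, 354])) .nil)) (.nd (.nd .nil (.nd (.lf [114, 167]) .nil)) .nil)) .nil)) (.nd (.nd .nil (.nd (.nd .nil (.nd .nil (.nd (.lf [201, 282, 428]) .nil))) (.nd (.nd (.nd .nil (.lf [141, 148, 434])) .nil) .nil))) (.nd .nil (.nd (.nd .nil (.nd .nil (.nd (.lf [90, 181, 204]) .nil))) (.nd (.nd (.nd .nil (.lf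 [201, 210, 281])) .nil) .nil)))))) (.nd (.nd (.nd (.nd (.nd (.nd .nil (.nd .nil (.nd .nil (.lf [201, 378, 387])))) (.nd (.nd (.nd (.lf [90, 141, 181]) .nil) .nil) .nil)) .nil) (.nd (.nd (.nd .nil (.nd .nil (.nd .nil (.lf [141, 316, 376])))) (.nd (.nd (.nd (.lf [201, 244, 285]) .nil) .nil) .nil)) .nil)) (.nd (.nd .nil (.nd (.nd .nil (.nd (.nd (.lf [377, 417]) .nil) .nil)) (.nd (.nd .nil (.nd .nil (.lf [90, 181, 338]))) .nil))) (.nd .nil (.nd (.nd .nil (.nd (.nd (.lf [316, 338, 376]) .nil) .nil)) (.nd (.nd .nil (.nd .nil (.lf [146, 432]))) .nil))))) (.nd (.nd (.nd (.nd (.nd .nil (.nd (.nd .nil (.lf [90, 181, 201])) .nil)) (.nd (.nd .nil (.nd (.lf [141, 378, 387]) .nil)) .nil)) .nil) (.nd (.nd (.nd .nil (.nd (.nd .nil (.lf [141, 244, 285])) .nil)) (.nd (.nd .nil (.nd (.lf [114, 167, 247]) .nil)) .nil)) .nil)) (.nd (.nd .nil (.nd (.nd .nil (.nd .nil (.nd (.lf [231, 288])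 .nil))) (.nd (.nd (.nd .nil (.lf [298, 324, 422])) .nil) .nil))) (.nd .nil (.nd (.nd .nil (.nd .nil (.nd (.lf [231, 288, 324]) .nil))) (.nd (.nd (.nd .nil (.lf [298, 422])) .nil) .nil))))))))

theorem kf116 : chkF cf116 116 = true := by decide +kernel

/-- The factorizations of a coset. -/
def cf125 : TF :=
  (.nd (.nd (.nd (.nd (.nd (.nd (.nd .nil (.nd (.nd (.nd (.lf [395, 398]) .nil) .nil) (.nd .nil (.nd (.lf [219, 312]) .nil)))) (.nd .nil (.nd (.nd (.nd (.lf [175, 232, 302]) .nil) .nil) (.nd .nil (.nd (.lf [175, 362, 375]) .nil))))) (.nd (.nd .nil (.nd (.nd (.nd (.lf [324, 395, 398]) .nil) .nil) (.nd .nil (.nd (.lf [219, 312, 324]) .nil)))) (.nd .nil (.nd (.nd (.nd (.lf [91, 140, 429]) .nil) .nil) (.nd .nil (.nd (.lf [85, 218, 433]) .nil)))))) .nil) (.nd (.nd (.nd (.nd (.nd (.nd .nil (.nd .nil (.lf [91, 429]))) (.nd (.nd .nil (.lf [356, 423])) .nil)) .nil) (.nd (.nd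 (.nd .nil (.nd .nil (.lf [91, 251, 429]))) (.nd (.nd .nil (.lf [131, 145, 175])) .nil)) .nil)) (.nd (.nd (.nd (.nd .nil (.nd .nil (.lf [91, 324, 429]))) (.nd (.nd .nil (.lf [215, 319, 338])) .nil)) .nil) (.nd (.nd (.nd .nil (.nd .nil (.lf [140, 395, 398]))) (.nd (.nd .nil (.lf [140, 219, 312])) .nil)) .nil))) .nil)) (.nd (.nd .nil (.nd (.nd (.nd (.nd (.nd .nil (.nd (.lf [131, 145, 251]) .nil)) (.nd (.nd (.lf [91, 175, 429]) .nil) .nil)) .nil) (.nd (.nd (.nd .nil (.nd (.lf [131, 145]) .nil)) (.nd (.nd (.lf [237, 303]) .nil) .nil)) .nil)) (.nd (.nd (.nd (.nd .nil (.nd (.lf [140, 362, 375]) .nil)) (.nd (.nd (.lf [140, 232, 302]) .nil) .nil)) .nil) (.nd (.nd (.nd .nil (.nd (.lf [85, 338, 433]) .nil)) (.nd (.nd (.lf [237, 303, 324]) .nil) .nil)) .nil)))) (.nd .nil (.nd (.nd (.nd .nil (.nd (.nd (.nd .nil (.lf [175, 219, 312])) .nil) (.nd .nil (.nd .nil (.lf [175, 395, 398])))))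 (.nd .nil (.nd (.nd (.nd .nil (.lf [362, 375])) .nil) (.nd .nil (.nd .nil (.lf [232, 302])))))) (.nd (.nd .nil (.nd (.nd (.nd .nil (.lf [131, 140, 145])) .nil) (.nd .nil (.nd .nil (.lf [140, 237, 303]))))) (.nd .nil (.nd (.nd (.nd .nil (.lf [324, 362, 375])) .nil) (.nd .nil (.nd .nil (.lf [232, 302, 324])))))))))) (.nd (.nd (.nd (.nd (.nd (.nd .nil (.nd (.nd (.nd .nil (.lf [360, 361])) .nil) (.nd .nil (.nd .nil (.lf [243, 305]))))) (.nd .nil (.nd (.nd (.nd .nil (.lf [175, 256, 318])) .nil) (.nd .nil (.nd .nil (.lf [175, 353, 396])))))) (.nd (.nd .nil (.nd (.nd (.nd .nil (.lf [324, 360, 361])) .nil) (.nd .nil (.nd .nil (.lf [232, 302, 338]))))) (.nd .nil (.nd (.nd (.nd .nil (.lf [85, 140, 433])) .nil) (.nd .nil (.nd .nil (.lf [91, 218, 429]))))))) .nil) (.nd (.nd (.nd (.nd (.nd (.nd .nil (.nd (.lf [85, 433]) .nil)) (.nd (.nd (.lf [331, 412]) .nil) .nil)) .nil) (.nd (.nd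 (.nd .nil (.nd (.lf [85, 251, 433]) .nil)) (.nd (.nd (.lf [147, 164, 175]) .nil) .nil)) .nil)) (.nd (.nd (.nd (.nd .nil (.nd (.lf [85, 324, 433]) .nil)) (.nd (.nd (.lf [237, 303, 338]) .nil) .nil)) .nil) (.nd (.nd (.nd .nil (.nd (.lf [140, 360, 361]) .nil)) (.nd (.nd (.lf [140, 243, 305]) .nil) .nil)) .nil))) .nil)) (.nd (.nd .nil (.nd (.nd (.nd (.nd (.nd .nil (.nd .nil (.lf [147, 164, 251]))) (.nd (.nd .nil (.lf [85, 175, 433])) .nil)) .nil) (.nd (.nd (.nd .nil (.nd .nil (.lf [147, 164]))) (.nd (.nd .nil (.lf [215, 319])) .nil)) .nil)) (.nd (.nd (.nd (.nd .nil (.nd .nil (.lf [140, 353, 396]))) (.nd (.nd .nil (.lf [140, 256, 318])) .nil)) .nil) (.nd (.nd (.nd .nil (.nd .nil (.lf [91, 338, 429]))) (.nd (.nd .nil (.lf [215, 319, 324])) .nil)) .nil)))) (.nd .nil (.nd (.nd (.nd .nil (.nd (.nd (.nd (.lf [175, 243, 305]) .nil) .nil) (.nd .nil (.nd (.lf [175, 360, 361]) .nil))))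 (.nd .nil (.nd (.nd (.nd (.lf [353, 396]) .nil) .nil) (.nd .nil (.nd (.lf [256, 318]) .nil))))) (.nd (.nd .nil (.nd (.nd (.nd (.lf [140, 147, 164]) .nil) .nil) (.nd .nil (.nd (.lf [131, 145, 218]) .nil)))) (.nd .nil (.nd (.nd (.nd (.lf [324, 353, 396]) .nil) .nil) (.nd .nil (.nd (.lf [219, 312, 338]) .nil))))))))))

theorem kf125 : chkF cf125 125 = true := by decide +kernel

end Cfsg.Agent.Lib.Fi22K
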