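import Mathlib
import Cfsg.Agent.TcChain36.Out.U0M22.Alpha

/-!
# Involutions of the presented `PSU₆(2)` and commutator certificates
-/

set_option autoImplicit false
set_option maxRecDepth 1000000
set_option linter.all false

namespace Cfsg.Agent.Lib.DoubleLift.U0

open Cfsg.Agent.Lib.OutTree36 Cfsg.Agent.Lib.TcBits Cfsg.Agent.Lib.TcPres Cfsg.Agent.Lib.PresChain36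
open Cfsg.Agent.TcData.U0M22.I693 Cfsg.Agent.TcData.U0M22 Cfsg.Agent.TcChain36.M22U.U0 Cfsg.Agent.TcChain36.Out.U0M22

/-- A lookup structure. -/
inductive TF
  | nil
  | lf (c : List ℕ)
  | nd (a b : TF)

/-- The lookup. -/
def TF.get : TF → ℕ → List ℕ
  | .nil, _ => []
  | .lf c, _ => c
  | .nd a b, v => bif Nat.beq (Nat.land v 1) 0 then a.get (Nat.shiftRight v 1) else b.get (Nat.shiftRight v 1)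

/-- The representatives. -/
def repK : ℕ → List ℕ
  | 0 => [0]
  | 1 => [0, 2]
  | _ => [0, 2, 6]

/-- The check of a certificate: the first entry is the kind, the rest a conjugating word. -/
noncomputable def goodU (X : List ℕ) : List ℕ → Bool
  | [] => false
  | k :: u => isOne ap bsL (u ++ X ++ invW iv u ++ repK k)

/-- The check of the candidates of a coset. -/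
noncomputable def chkU (cd : TF) (i : ℕ) : Bool :=
  !(Nat.beq (DD.sqi i) 0) ||
    allR (fun v => !(Nat.blt v (2 ^ DD.m)) || !(Nat.beq (Nat.xor (Nat.xor (DD.sqc i) (DD.linK i DD.m v)) v) 0) ||
      (Nat.beq i 0 && Nat.beq v 0) || goodU (DD.τW i ++ DD.nuW DD.m v) (cd.get v)) DD.m 0

/-- Certificates of a coset. -/
def cf0 : TF :=
  (.nd (.nd (.nd (.nd (.nd (.nd (.nd (.nd (.nd .nil (.lf [0,1,2,3,4,7,3,2,1,6,5,7,6])) (.nd (.lf [0]) (.lf [1,1,0,3,2,1,4,3,2,5,1,7,3,6,5,1,0,7,6,5,1]))) (.nd (.nd (.lf [0,1,0,2,3,4,5,7,3,2,1]) (.lf [1,1,0,3,2,4,3,7,3,2,1,4,3,6,5,7,6])) (.nd (.lf [1,1,0,2,1,3,4,7,3,6,5,7,6]) (.lf [2,3,2,1,0,4,3,7,3,2,1,0,4,6,5,1,2,7,3,2,1,6,5,7,6])))) (.nd (.nd (.nd (.lf [0,1,2,3,4,5,1,7,3])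 (.lf [1,1,0,3,2,4,3,5,6,7,3,2,1,0,4,3,5,1,6])) (.nd (.lf [1,1,2,3,2,1,0,4,5,1,0,2,1,7,3]) (.lf [2,1,0,2,1,5,1,0,2,1,3,4,7,3,2,1,0,4,3,6,7,3,2,1,6]))) (.nd (.nd (.lf [1,1,3,2,4,3,5,7,3,2,1,4,3]) (.lf [1,3,4,7,3,6,5,1,0,2,1,3,2,4,3,5,6])) (.nd (.lf [2,5,1,0,7,3,2,1,5,6,7,3,2,1,4,3,2,5,1,7,3,2,6,7,3]) (.lf [2,1,0,2,1,7,3,2,1,0,4,3,2,1,5,1,0,2,1,7,6]))))) (.nd (.nd (.nd (.nd (.lf [0,1,2,3,4,7,3,2,1]) (.lf [1,1,0,5,1,6,7,3,2,1,0,4,3,7,6,5,1])) (.nd (.lf [1,1,2,3,2,1,0,4,3,2,1,7,3,6,5,1,0,7,6,5,1]) (.lf [2,3,2,4,3,7,3,2,1,0,4,3,5,1,6,5,1,7,3,4,6,7,3]))) (.nd (.nd (.lf [1,1,0,5,1,6,5,7,3,2,1,0,4,3,2,1,6]) (.lf [2,1,2,7,3,2,1,0,4,3,2,1,7,3,2,4,6,5,1,7,3,2,6,5,1])) (.nd (.lf [1,1,0,3,4,5,1,2,3,6,5,1,0,2,1,5,6])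 (.lf [2,3,2,5,1,0,2,1,6,7,3,2,1,4,3,6,5,1,2,7,6,5,1])))) (.nd (.nd (.nd (.lf [1,1,0,2,3,2,1,0,4,3,5,1,0,7,3,2,1,4,3]) (.lf [2,3,2,5,1,7,3,2,1,0,4,6,7,3,2,1,4,5,6,7,3])) (.nd (.lf [2,1,0,2,1,3,2,1,0,4,3,5,1,0,2,6,5,7,6,5,1]) (.lf [1,3,4,7,3,6,5,1,0,2,1,5,6]))) (.nd (.nd (.lf [2,1,0,2,1,3,2,4,3,5,1,0,2,1,3,2,6,7,3]) (.lf [2,1,0,3,5,1,0,2,1,3,2,4,5,1,0,6,7,3,2,1,0,4,3,5,1,7,6])) (.nd (.lf [2,3,2,4,7,3,2,1,0,4,3,2,1,5,6,7,3,2,1,4,3,2,6,5,1,7,6]) (.lf [1,1,0,3,2,4,3,5,6,7,3,2,1,0,5,1,2,3,6])))))) (.nd (.nd (.nd (.nd (.nd (.lf [0,1,0,2,1]) (.lf [1,1,0,3,4,7,3,2,1,6,5,7,6])) (.nd (.lf [1,1,0,2,1]) (.lf [2,3,2,4,3,7,3,2,1,0,4,3,2,1,5,7,6]))) (.nd (.nd (.lf [1,1,0,3,2,1,0,4,5,1,2,7,3,2,1]) (.lf [2,1,2,3,4,5,1,0,7,3,2,1,0,4,3,2,5,6,7,3,2,4,6,7,3,2,1]))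 (.nd (.lf [2,1,0,5,1,0,2,7,3,4,6,5,1,2,3,7,3,2,4,3,6]) (.lf [1,1,2,3,4,5,6,7,3,2,1,0,4,6,7,3,2,1,4,5,6,7,3])))) (.nd (.nd (.nd (.lf [1,3,4,7,3,6,5,1,0,2,1,7,6]) (.lf [2,3,4,7,3,2,1,0,4,5,1,2,3,4,7,3,6,5,1,7,6])) (.nd (.lf [2,3,5,7,3,2,1,0,4,3,2,1,6,7,3,2,6,5,1,7,3]) (.lf [1,1,0,2,3,2,4,3,5,6,7,3,2,1,0,4,3,5,1,7,6]))) (.nd (.nd (.lf [2,1,2,3,4,5,1,2,3,7,3,2,1,0,4,5,1,2,6,7,3]) (.lf [2,5,1,0,2,1,7,3,2,1,0,4,3,2,1,5,6])) (.nd (.lf [1,3,4,7,3,6,5,1,0,2,1,7,3,2,6,7,3]) (.lf [2,3,4,5,1,0,2,1,3,2,4,3,5,1,0,6,5,7,3,4,6,5,1,7,3]))))) (.nd (.nd (.nd (.nd (.lf [1,1,0,3,4,7,3,2,1]) (.lf [2,3,4,5,1,0,7,3,2,1,4,5,6,7,3,2,1,4,3,5,6])) (.nd (.lf [2,3,2,1,0,4,3,7,3,2,1,0,4,3,6,5,1,7,3,2,1,4,3]) (.lf [1,1,0,3,4,5,1,6,7,3,2,1,0,4,3,6,7,3,2,1,6])))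 (.nd (.nd (.lf [2,3,4,5,1,0,2,1,3,2,4,3,6,5,1]) (.lf [1,1,0,3,4,7,3,2,1,6,5,7,3,4,6,7,3])) (.nd (.lf [2,1,0,3,4,5,1,0,2,3,4,7,3,2,6,5,1,2,3,7,3,4,6,7,3]) (.lf [2,1,2,3,4,5,1,0,2,3,4,7,3,2,1,0,5,1,6,7,3])))) (.nd (.nd (.nd (.lf [2,1,0,2,1,3,2,1,0,4,3,5,1,0,2,1,5,7,6,5,1]) (.lf [1,1,0,3,2,1,0,4,5,1,0,2,1,7,3,6,5,7,6])) (.nd (.lf [1,1,0,2,3,2,1,0,4,3,5,1,0,7,3,2,1,4,3,6,5,7,6]) (.lf [0,1,2,3,4,5,1,7,3,6,5,7,6]))) (.nd (.nd (.lf [1,1,0,2,3,2,1,4,5,1,0,7,3,2,1,4,3,6,5,1,2,7,6,5,1]) (.lf [2,3,2,5,1,0,2,1,3,2,4,3,5,1,6,5,1,7,6])) (.nd (.lf [2,3,2,1,4,3,5,1,0,6,5,1,7,3,2,1,4,3,2,7,6,5,1]) (.lf [1,1,0,5,1,6,7,3,2,4,3,7,6]))))))) (.nd (.nd (.nd (.nd (.nd (.nd (.lf [0,1,0,2,1,3,2,7,3]) (.lf [1,1,0,3,4,5,1,7,3,6,5,1,0,7,6,5,1]))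 (.nd (.lf [1,1,0,2,1,3,2,7,3]) (.lf [1,1,0,2,3,4,5,6,7,3,2,1,4,3,5,6,7,3,2,1,6]))) (.nd (.nd (.lf [1,1,0,3,2,1,0,4,3,2,5,7,3,2,1]) (.lf [2,3,5,7,3,2,1,0,4,3,6,5,1,7,6,5,1,2,3,7,6])) (.nd (.lf [2,3,5,1,0,2,1,6,5,7,3,2,1,4,3,6,5,7,6]) (.lf [2,1,0,3,4,5,1,0,2,3,6,5,7,6,5,1,2,3,4,7,3,2,1,5,6])))) (.nd (.nd (.nd (.lf [1,1,0,3,2,1,4,3,2,5,1,7,3]) (.lf [2,1,0,3,2,1,4,3,2,7,3,2,1,0,4,5,1,2,3,6,7,3,6,5,1])) (.nd (.lf [2,1,0,3,2,1,0,5,6,7,3,2,1,0,4,3,2,5,6,5,1]) (.lf [2,3,4,5,1,0,2,1,3,2,4,3,5,1,2,6,5,7,6,5,1]))) (.nd (.nd (.lf [2,1,0,5,1,0,2,1,5,7,3,2,4,3,6,7,3,2,1,4,3]) (.lf [2,1,0,2,1,7,3,2,1,0,4,3,5,1,2,6,5,7,6,5,1])) (.nd (.lf [1,1,0,3,2,1,4,3,2,5,1,2,3]) (.lf [1,1,0,3,4,7,3,2,1,6,5,1,2,7,6,5,1])))))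 (.nd (.nd (.nd (.nd (.lf [1,1,0,3,2,1,4,3,2,7,3,2,1]) (.lf [2,5,1,0,2,1,3,2,4,3,5,1,0,7,6,5,1])) (.nd (.lf [2,3,2,1,0,4,3,7,3,2,1,0,4,6,5,7,3,2,1,4,3]) (.lf [2,1,0,3,4,5,1,0,2,1,3,2,4,7,3,2,1,5,6,7,3,2,1,4,3]))) (.nd (.nd (.lf [2,1,0,5,1,0,2,1,3,4,5,7,3,2,1,0,4,5,6,7,3,2,1,4,3,5,6]) (.lf [1,1,3,2,4,3,7,6,5,1,0,2,1,3,4,5,7,3,6])) (.nd (.lf [2,3,4,5,1,0,2,1,3,2,4,5,6,5,1,2,7,3,2,4,3,6,7,3,6]) (.lf [1,1,3,2,4,3,7,6,5,1,0,2,1,3,2,5,7,3,6])))) (.nd (.nd (.nd (.lf [2,1,0,2,1,3,2,1,0,4,3,2,1,5,1,0,2,1,6]) (.lf [1,1,0,2,3,2,1,4,5,1,0,7,3,2,1,4,3,6,5,1,0,2,1,5,6])) (.nd (.lf [1,1,0,2,1,3,2,1,4,3,2,5,1]) (.lf [2,1,0,2,1,5,7,3,2,1,0,4,3,2,1,5,1,0,6,5,1]))) (.nd (.nd (.lf [1,1,0,2,3,2,1,4,3,2,5,1,2,7,3]) (.lf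 [2,3,2,4,3,5,1,0,2,1,3,2,4,3,5,7,6])) (.nd (.lf [2,1,0,7,3,2,1,0,4,6,5,7,3,2,1,4,3]) (.lf [2,3,4,7,3,2,1,0,5,1,2,3,4,7,3,2,6,5,1,7,6])))))) (.nd (.nd (.nd (.nd (.nd (.lf [1,1,0,2,1,3,2,1,0,7,3,2,1]) (.lf [2,1,0,2,1,7,3,2,1,0,4,3,2,1,5,1,0,7,6,5,1])) (.nd (.lf [2,1,0,2,1,7,3,2,1,0,6,7,3,2,1]) (.lf [2,3,2,4,3,5,7,3,2,1,0,4,3,5,1,2,6,5,1,7,3,4,6,7,3]))) (.nd (.nd (.lf [2,1,0,3,2,1,0,5,6,7,3,2,1,4,3,5,6,5,1]) (.lf [1,1,3,2,1,7,3,2,4,6,5,1,0,2,3,7,6,5,1,2,3,7,6,5,1])) (.nd (.lf [1,1,0,2,3,2,5,1,0,7,3,2,1,4,3]) (.lf [2,5,1,0,2,7,3,2,1,0,4,3,2,1,5,1,0,6,5,1,2,7,3])))) (.nd (.nd (.nd (.lf [2,5,1,0,7,3,2,1,5,6,7,3,2,1,4,3,2,5,1,7,6]) (.lf [1,1,0,3,4,5,6,7,3,2,1,0,5,1,6,5,7,3,6])) (.nd (.lf [1,1,0,2,3,2,4,5,1,7,3,2,1,4,3])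 (.lf [2,5,1,0,7,3,2,1,0,4,3,2,1,5,1,0,6,7,3,2,1]))) (.nd (.nd (.lf [1,1,0,3,2,1,4,5,1,0,2,1,3]) (.lf [2,1,0,3,4,7,3,2,1,0,4,3,2,5,1,2,3,6,7,3,2,1,4,3,6])) (.nd (.lf [0,1,2,3,4,5,1,2,3]) (.lf [1,1,3,4,5,6,7,3,2,1,0,4,5,1,6,5,7,3,6]))))) (.nd (.nd (.nd (.nd (.lf [1,1,5,6,7,3,2,1,4,3,2,7,6,5,1,0,2,1,3,2,5,1,6]) (.lf [2,1,2,5,1,2,3,4,7,3,2,1,0,4,5,1,6,5,1,7,3,2,6,5,1])) (.nd (.lf [2,3,2,4,5,1,0,7,3,2,1,4,5,6,5,7,3,2,1,4,3,5,6]) (.lf [1,1,0,3,2,1,4,7,6,5,1,2,3,7,6,5,1,2,3]))) (.nd (.nd (.lf [2,3,2,4,3,7,3,2,1,0,4,5,6,5,1,2,7,3,2,4,3,6,7,3,6]) (.lf [2,3,2,4,5,1,0,7,3,2,1,0,5,6,5,7,3,2,1,4,3,7,6])) (.nd (.lf [1,1,5,6,7,3,2,1,0,4,3,2,1,5,1,2,3,4,6,7,3,2,1,4,3]) (.lf [2,5,1,0,2,1,7,3,2,1,4,3,2,5,1,6,5,7,6,5,1]))))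 (.nd (.nd (.nd (.lf [2,1,5,1,0,2,1,3,2,4,3,7,3,2,1,0,6,5,1,2,3,7,3,2,1,4,3,7,6]) (.lf [2,3,2,5,1,0,2,1,6,7,3,2,1,4,3,6,5,7,6])) (.nd (.lf [2,1,0,2,1,3,2,4,3,5,1,0,2,1,6]) (.lf [1,1,0,3,4,5,1,7,3,6,5,7,6]))) (.nd (.nd (.lf [2,3,4,5,1,0,2,1,6,7,3,2,1,4,3,6,5,7,6]) (.lf [1,1,0,3,4,5,1,6,5,7,3,4,6,5,7,3,6])) (.nd (.lf [1,1,0,2,3,2,1,4,5,1,0,7,3,2,1,4,3]) (.lf [2,5,1,0,2,1,3,2,4,3,5,7,6])))))))) (.nd (.nd (.nd (.nd (.nd (.nd (.nd (.lf [0,1,0,2,1,3,4,7,3]) (.lf [1,1,2,5,1,6,5,7,3,2,1,0,4,3,2,1,5,7,6])) (.nd (.lf [1,1,0,2,1,3,4,7,3]) (.lf [1,1,0,3,4,5,1,2,3,6,5,1,0,2,1,7,6]))) (.nd (.nd (.lf [1,1,0,3,2,1,0,4,3,5,1,7,3,2,1,4,3]) (.lf [2,3,2,4,5,1,0,2,3,4,6,5,1,7,3,2,1,4,3,6,5,7,6])) (.nd (.lf [2,1,0,2,1,3,2,1,4,3,2,5,1,0,2,1,5,7,6,5,1])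 (.lf [2,3,2,4,5,1,0,7,3,2,1,0,4,5,6,5,7,3,2,4,3,7,6,5,1])))) (.nd (.nd (.nd (.lf [1,1,0,5,1,6,5,7,3,2,4,3,6]) (.lf [2,3,4,7,3,2,1,0,5,1,2,3,4,7,3,2,6,5,1,7,3,2,4,3,6])) (.nd (.lf [2,3,2,5,1,0,2,1,3,2,4,3,6,5,1]) (.lf [2,5,1,0,2,1,7,3,2,1,0,4,3,2,1,7,6]))) (.nd (.nd (.lf [2,1,0,5,1,2,6,5,7,3,2,4,3,6,5,1,2,7,3,2,1]) (.lf [2,3,2,1,0,5,1,0,2,3,4,7,3,2,6,5,1,2,3,7,3,4,6,7,3])) (.nd (.lf [1,1,3,2,1,4,5,1,0,7,3,2,1,4,3,6,5,7,3,4,6,7,3]) (.lf [1,1,3,4,5,7,3,2,1,6,5,1,0,2,1,3,2,4,3,7,6]))))) (.nd (.nd (.nd (.nd (.lf [1,1,0,3,2,4,3,7,3,2,1,4,3]) (.lf [2,1,2,3,4,5,7,3,2,1,0,4,3,5,1,2,3,6,7,3,2,4,6,7,3,2,1])) (.nd (.lf [2,3,2,1,4,3,2,7,3,2,1,0,6,7,3,2,1,4,3]) (.lf [2,5,1,0,7,3,2,1,0,4,5,6,7,3,2,1,4,3,5,7,6,5,1])))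 (.nd (.nd (.lf [2,1,0,2,1,3,4,5,1,2,3,4,6,7,3,2,1,4,3]) (.lf [1,1,0,3,4,5,1,2,3,6,5,1,0,2,1,7,3,2,6,7,3])) (.nd (.lf [2,3,4,7,3,2,1,0,4,3,2,1,5,6,7,3,2,1,0,4,3,5,6,5,1]) (.lf [1,1,0,3,4,5,1,2,3,6,5,1,0,2,1,7,3,4,6,7,3])))) (.nd (.nd (.nd (.lf [2,3,4,5,1,0,2,3,6,7,3,2,1,4,3]) (.lf [1,1,0,3,2,1,4,3,2,5,1,6,5,7,3,4,6,5,7,3,6])) (.nd (.lf [1,1,0,2,3,2,5,1,0,7,3,2,1,4,3,6,5,1,2,7,6,5,1]) (.lf [2,7,3,2,1,0,4,3,5,1,2,6,5,7,3,4,6,5,1,2,3]))) (.nd (.nd (.lf [1,1,0,5,1,6,5,7,6]) (.lf [2,3,2,4,3,5,7,3,2,1,0,4,3,5,1,6,5,7,6,5,1])) (.nd (.lf [2,5,1,0,2,1,3,2,6,7,3]) (.lf [2,3,2,7,3,2,1,0,4,3,2,1,5,6,7,3,2,1,0,4,3,5,6,5,1])))))) (.nd (.nd (.nd (.nd (.nd (.lf [1,3,2,1,0,4,3,5,1,6,5,7,3,2,4,3,6]) (.lf [2,3,4,5,1,0,2,1,3,2,4,3,5,1,6,5,1,7,6]))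 (.nd (.lf [2,3,2,1,0,4,3,5,1,0,6,5,1,7,3,2,4,3,6]) (.lf [2,1,0,3,5,1,0,2,1,3,2,4,5,1,6,7,3,2,4,3,6,5,1,7,6]))) (.nd (.nd (.lf [2,1,0,2,1,3,2,1,0,4,3,5,1,6,5,7,6,5,1]) (.lf [1,1,0,3,5,1,2,6,7,3,2,1,0,4,3,6,7,3,6,5,1])) (.nd (.lf [1,1,3,2,5,1,0,7,3,2,1,4,3,6,5,7,3,2,4,3,6]) (.lf [2,3,2,1,4,3,2,7,3,2,1,0,4,6,5,1,2,7,3,2,1,6,5,7,6])))) (.nd (.nd (.nd (.lf [1,1,3,2,4,3,5,6,7,3,2,1,0,5,1,2,3,7,6]) (.lf [2,1,0,2,1,5,7,3,2,1,0,4,3,2,1,5,1,0,2,1,6])) (.nd (.lf [2,1,0,3,5,1,0,2,1,3,2,4,5,1,6,7,3,2,1,0,4,3,5,1,6]) (.lf [1,3,4,7,3,6,5,1,0,2,1,3,2,4,3,7,6]))) (.nd (.nd (.lf [2,3,2,4,5,1,0,7,3,2,1,5,6,7,3,2,1,0,4,3,2,1,5,7,6,5,1]) (.lf [1,1,3,4,5,7,3,2,1,6,5,1,0,2,1,3,2,4,3,5,6])) (.nd (.lf [2,3,2,4,3,5,1,0,2,1,5,7,3,4,6,7,3])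 (.lf [2,1,0,3,5,1,0,2,1,3,2,4,5,1,0,6,7,3,2,1,4,3,5,7,6,5,1]))))) (.nd (.nd (.nd (.nd (.lf [2,1,2,3,2,1,0,7,3,2,1,0,5,6,7,3,2,4,3,7,6,5,1,2,3]) (.lf [1,1,0,2,3,4,5,6,7,3,2,1,4,3,5,6,7,3,6,5,1])) (.nd (.lf [1,1,3,2,4,3,7,3,2,6,5,1,0,2,3,7,3,2,1,4,3,5,6]) (.lf [2,3,2,4,3,7,3,2,1,0,4,3,5,1,2,6,5,7,3,4,6,5,1,2,3]))) (.nd (.nd (.lf [1,1,0,2,3,2,5,1,0,7,3,2,1,4,3,6,5,1,0,7,6,5,1]) (.lf [0,1,2,3,4,5,1,2,3,6,5,1,0,7,6,5,1])) (.nd (.lf [2,1,5,1,0,7,3,2,4,3,6,7,3,2,1,0,4,3,2,5,6,5,1]) (.lf [1,1,3,4,5,6,7,3,2,1,0,5,1,2,6,5,1,7,3,2,6,5,1])))) (.nd (.nd (.nd (.lf [2,3,4,7,3,2,1,0,4,3,2,1,5,6,7,3,2,1,4,3,2,5,6,5,1]) (.lf [2,1,2,3,4,5,1,7,3,2,1,0,4,5,1,2,3,6,7,3,6])) (.nd (.lf [2,1,0,5,1,0,2,6,5,7,3,2,1,4,3,2,6,5,1,7,3,6,5,7,6])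 (.lf [1,1,0,2,3,2,4,3,5,7,3,2,1,4,3,6,5,7,6]))) (.nd (.nd (.lf [2,3,2,4,5,7,3,2,1,0,4,5,6,5,1,0,2,3,4,7,3,4,6,5,1,2,7,3,6]) (.lf [1,1,3,4,5,7,3,2,1,6,5,1,0,2,1,3,4,5,6,7,3])) (.nd (.lf [1,1,0,5,1]) (.lf [2,7,3,2,1,0,4,5,6,5,1,2,7,3,2,1,4,3,6,7,3,2,6,5,1]))))))) (.nd (.nd (.nd (.nd (.nd (.nd (.lf [1,1,2,3,2,1,0,4,3,2,1,7,3]) (.lf [1,1,0,3,2,1,4,3,2,5,1,2,3,6,5,1,0,2,1,7,6])) (.nd (.lf [1,1,0,2,5,6,7,3,2,4,3,7,6,5,1,0,2,1,3,5,6]) (.lf [0,1,2,3,4,5,1,2,3,6,5,1,0,2,1,7,6]))) (.nd (.nd (.lf [2,1,0,2,1,3,2,1,0,4,3,2,1,5,6]) (.lf [2,3,2,4,3,7,3,2,1,0,4,3,5,1,2,6,5,7,3,4,6,5,1,7,3])) (.nd (.lf [2,1,0,3,4,7,3,2,1,0,4,3,5,1,6,7,3,2,1,4,3,5,6,5,1,0,7,3,6,5,1]) (.lf [1,1,0,3,2,4,3,7,6,5,1,2,3,4,7,3,2,1,6]))))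 (.nd (.nd (.nd (.lf [2,3,4,5,7,3,2,1,0,4,3,5,1,6,5,1,7,3,4,6,5,1,7,3,6]) (.lf [2,3,5,1,0,7,3,2,1,4,5,6,5,7,3,2,1,4,3,5,6])) (.nd (.lf [2,3,4,5,1,0,2,1,3,2,4,3,5,1,0,7,3,4,6,5,1,2,3,7,6]) (.lf [1,1,0,3,5,1,2,6,7,3,2,1,0,4,3,6,7,3,2,1,6]))) (.nd (.nd (.lf [1,1,0,2,3,2,1,4,3,5,1,0,2,7,3,2,1]) (.lf [1,1,0,3,2,1,4,5,1,0,2,1,3,6,5,1,2,7,6,5,1])) (.nd (.lf [2,3,4,5,1,0,2,1,6,7,3,2,1,4,3,6,5,1,0,2,1,7,6]) (.lf [2,3,2,1,0,7,3,2,1,0,4,5,1,6,7,3,2,1,4,5,6,7,3]))))) (.nd (.nd (.nd (.nd (.lf [2,1,2,7,3,2,1,0,4,3,2,1,6,7,3]) (.lf [2,5,1,0,2,1,7,3,2,1,4,3,2,5,1,0,6,5,1,7,6])) (.nd (.lf [2,5,1,0,2,1,3,2,4,3,5,1,0,2,1,5,6]) (.lf [1,1,0,3,5,1,2,6,7,3,2,1,0,4,3,7,6,5,1,2,3]))) (.nd (.nd (.lf [1,1,0,2,3,2,4,3,5,1,0,2,1,7,3])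 (.lf [2,5,1,0,2,1,3,2,4,3,5,1,7,3,2,4,6,5,1,7,3,2,1,4,3])) (.nd (.lf [1,1,0,2,5,6,7,3,2,1,0,4,3,2,1,5,6,7,3]) (.lf [2,3,2,5,1,0,2,1,3,2,4,3,5,1,2,6,5,7,6,5,1])))) (.nd (.nd (.nd (.lf [1,1,0,2,3,2,4,3,5,1,2,7,3,2,1]) (.lf [2,3,5,1,0,7,3,2,1,4,5,6,5,1,7,3,2,1,4,5,6,7,3])) (.nd (.lf [2,1,0,3,7,3,2,1,0,6,5,7,3,2,1,4,3,2,5,7,6,5,1]) (.lf [1,1,3,2,1,0,4,5,1,0,2,7,3,2,1,6,5,7,3,4,6,7,3]))) (.nd (.nd (.lf [0,1,2,3,5,1,2,7,3]) (.lf [1,1,3,2,1,0,4,5,1,0,2,7,3,2,1,6,5,7,6])) (.nd (.lf [1,1,0,3,2,1,5,1,0,2,1,7,3]) (.lf [2,3,2,1,0,7,3,2,1,0,4,5,6,7,3,2,1,4,3,5,6])))))) (.nd (.nd (.nd (.nd (.nd (.lf [2,3,2,1,0,4,3,7,3,2,1,6,5,7,3,2,1,4,3]) (.lf [2,1,0,3,4,7,3,2,1,0,4,5,1,2,3,4,7,3,2,1,6])) (.nd (.lf [2,3,2,4,5,1,0,7,3,2,1,4,5,6,7,3,2,1,0,4,3,2,5,1,6])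 (.lf [1,1,0,3,2,1,4,5,6,7,3,2,1,0,5,1,2,3,6]))) (.nd (.nd (.lf [1,1,0,2,1,3,2,1,0,4,3,5,1]) (.lf [2,5,1,0,2,1,7,3,2,1,0,4,3,7,6,5,1])) (.nd (.lf [2,1,0,2,1,3,2,4,3,5,1,0,6,5,1]) (.lf [1,1,0,3,2,1,0,4,3,2,1,7,3,6,5,1,0,2,1,5,6])))) (.nd (.nd (.nd (.lf [2,3,2,1,0,4,5,1,0,7,3,2,4,3,7,6,5,1,0,2,3,7,6,5,1]) (.lf [1,1,0,3,4,5,1,7,3,6,5,1,0,2,1,5,6])) (.nd (.lf [1,1,0,3,2,4,5,6,7,3,2,1,0,4,5,1,2,3,6,5,7,3,6]) (.lf [2,1,0,2,1,5,7,3,2,1,0,4,3,5,1,2,6,5,1,7,6]))) (.nd (.nd (.lf [2,1,0,7,3,2,1,6,5,7,3,2,1,4,3]) (.lf [2,3,4,5,1,0,2,1,3,2,4,3,5,1,2,6,5,7,3,4,6,5,1,7,3])) (.nd (.lf [1,1,0,2,3,2,1,5,1,7,3,2,1,4,3]) (.lf [2,3,2,4,3,5,1,0,2,1,3,2,4,3,5,1,0,7,6,5,1]))))) (.nd (.nd (.nd (.nd (.lf [2,1,2,3,4,5,1,2,3,4,7,3,2,1,0,5,1,2,3,7,6])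 (.lf [1,1,0,3,2,1,4,3,2,5,1,7,3,6,5,1,0,2,1,7,6])) (.nd (.lf [1,1,0,3,4,7,3,2,1,6,7,3,2,4,3,7,6]) (.lf [2,5,1,0,7,3,2,1,4,5,6,7,3,2,1,0,4,3,5,1,6]))) (.nd (.nd (.lf [2,1,0,3,2,1,4,5,1,2,3,7,3,2,1,5,6,7,3,2,1,4,3]) (.lf [1,1,0,3,4,5,1,2,3,6,5,1,0,7,6,5,1])) (.nd (.lf [2,3,2,7,3,2,1,0,4,3,2,1,5,6,5,7,3,2,1,4,3,7,6]) (.lf [2,1,0,2,1,3,2,1,0,5,1,0,2,3,4,7,3,2,1,0,5,1,6,7,3])))) (.nd (.nd (.nd (.lf [1,1,5,6,7,3,2,1,0,4,3,2,1,5,1,0,6,7,3,2,1]) (.lf [2,3,2,4,3,7,3,2,1,0,4,3,5,1,6,5,7,3,4,6,5,7,3,2,1])) (.nd (.lf [2,3,4,7,3,2,1,0,4,3,2,1,5,6,5,7,3,2,1,4,3,7,6]) (.lf [2,5,1,0,2,1,7,3,2,1,0,4,3,2,1,7,3,2,6,7,3]))) (.nd (.nd (.lf [1,1,0,3,2,1,5,1,2,7,3,2,1]) (.lf [2,3,2,4,5,1,0,2,1,6,5,7,3,2,1,4,3,6,5,7,6]))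 (.nd (.lf [2,1,0,3,2,1,0,4,3,2,1,5,1,0,2,1,6,7,3,2,1,4,3]) (.lf [1,1,0,2,3,2,5,1,0,7,3,2,1,4,3,6,5,1,0,2,1,5,6]))))))))) (.nd (.nd (.nd (.nd (.nd (.nd (.nd (.nd (.lf [0,1,0,2,1,3,2,4,3]) (.lf [1,1,0,3,2,1,4,7,3,2,1,4,3,6,5,7,6])) (.nd (.lf [1,1,0,2,1,3,2,4,3]) (.lf [2,3,2,1,0,4,3,2,1,7,3,2,1,0,4,3,2,1,5,7,6]))) (.nd (.nd (.lf [1,1,0,3,2,1,0,4,5,7,3,2,1,4,3]) (.lf [1,1,0,3,2,4,3,7,3,2,1,4,3,6,5,1,0,2,1,7,6])) (.nd (.lf [2,1,0,3,7,3,2,1,0,6,7,3,2,1,4,3,5,7,6]) (.lf [2,1,0,3,4,5,1,0,7,3,2,1,4,3,2,5,6,7,3,2,1,4,6,7,3])))) (.nd (.nd (.nd (.lf [1,1,0,3,2,1,5,7,3,2,1,4,3]) (.lf [1,1,0,3,4,5,1,2,3,6,7,3,2,4,3,7,6])) (.nd (.lf [2,1,0,3,2,1,0,5,6,7,3,2,1,0,4,3,5,1,6]) (.lf [2,1,0,2,1,7,3,2,1,0,4,3,5,1,6,5,1,7,3,2,6,7,3])))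 (.nd (.nd (.lf [1,1,0,2,3,2,4,3,5,7,3,2,1,4,3,6,5,1,0,2,1,5,6]) (.lf [0,1,2,3,4,5,1,2,3,6,5,7,3,2,6,7,3])) (.nd (.lf [2,3,2,4,3,5,1,0,7,3,2,1,4,5,6,7,3,2,1,0,5,1,2,3,6]) (.lf [1,1,0,3,4,7,3,2,1,6,5,1,0,2,1,7,6]))))) (.nd (.nd (.nd (.nd (.lf [1,1,0,3,2,1,4,7,3,2,1,4,3]) (.lf [2,1,0,3,4,5,1,0,7,3,2,1,4,3,2,5,1,6,7,3,2,1,4,3,6])) (.nd (.lf [2,3,2,1,0,4,3,7,3,2,1,0,6,7,3,2,1,4,3]) (.lf [1,1,0,3,4,5,1,2,3,6,5,7,3,2,1,0,4,6,5,1,2,7,3]))) (.nd (.nd (.lf [2,1,0,2,1,3,2,5,1,2,3,4,6,7,3,2,1,4,3]) (.lf [2,1,2,5,1,0,2,3,4,7,3,2,1,0,4,5,1,2,3,6,7,3,6])) (.nd (.lf [2,3,2,5,1,0,2,1,3,2,4,3,5,1,0,2,1,5,6,5,1]) (.lf [1,1,0,3,2,1,4,5,6,7,3,2,1,0,4,5,1,2,6,7,3])))) (.nd (.nd (.nd (.lf [2,1,0,3,2,1,0,4,3,2,1,5,1,0,2,3,6,7,3,2,1,4,3])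 (.lf [2,1,2,5,1,0,2,3,4,7,3,2,1,0,5,1,6,5,1,7,3,2,6,5,1])) (.nd (.lf [1,1,0,2,1,3,2,1,5,7,3,2,1]) (.lf [2,1,0,2,1,5,7,3,2,1,0,4,3,2,1,5,6]))) (.nd (.nd (.lf [2,1,3,4,7,3,2,1,0,4,3,2,1,5,6,5,7,3,2,1,4,3,2,6,7,3,6]) (.lf [1,1,0,2,3,4,5,6,7,3,2,1,0,4,3,5,1,2,7,3,6])) (.nd (.lf [1,1,0,2,5,6,7,3,2,1,4,3,5,7,6,5,1,0,2,1,3,2,5,1,6]) (.lf [2,3,4,5,1,0,2,1,3,2,4,3,5,1,0,2,6,5,1,7,6])))))) (.nd (.nd (.nd (.nd (.nd (.lf [1,1,0,2,1,3,2,1,0,4,3,2,1]) (.lf [2,1,0,2,1,7,3,2,1,0,4,3,2,1,5,7,6])) (.nd (.lf [1,1,2,5,6,7,3,2,4,3,7,6,5,1,0,2,1,5,6,7,3]) (.lf [2,3,4,5,7,3,2,1,0,5,1,2,3,4,6,7,3,4,6,5,1,2,7,3,6]))) (.nd (.nd (.lf [2,3,2,1,0,4,3,2,1,5,7,3,2,4,3,7,6]) (.lf [2,1,0,5,1,2,3,4,7,3,2,1,0,4,5,1,6,5,1,0,7,3,2,1,6]))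 (.nd (.lf [2,1,3,2,4,3,7,3,2,1,0,5,1,2,3,4,6,7,3,2,1,0,4,3,6,5,1,7,6]) (.lf [1,1,0,3,2,1,4,3,2,7,3,2,1,6,5,7,3,2,4,3,6])))) (.nd (.nd (.nd (.lf [2,1,0,2,1,5,7,3,2,1,0,4,3,2,1,7,6]) (.lf [2,5,1,0,2,1,3,4,7,3,2,4,3,6,7,3,6])) (.nd (.lf [2,1,0,3,4,5,1,2,3,4,6,5,7,6,5,1,0,2,1,3,2,4,5,6,7,3,6]) (.lf [1,1,0,3,4,5,1,2,3,6,5,7,3,2,4,3,6]))) (.nd (.nd (.lf [2,3,2,4,3,7,3,2,1,0,5,6,5,1,2,3,7,3,2,1,4,3,2,7,6,5,1]) (.lf [1,1,0,3,4,5,1,2,3,6,5,7,3,2,6,7,3])) (.nd (.lf [1,1,3,4,5,6,7,3,2,1,0,5,1,2,3,6,7,3,6]) (.lf [2,7,3,2,1,0,4,5,6,5,1,2,7,3,2,4,6,5,7,3,6]))))) (.nd (.nd (.nd (.nd (.lf [2,1,0,2,1,7,3,2,1,0,4,3,2,1,6]) (.lf [1,1,3,2,1,7,3,2,4,6,5,1,0,2,3,7,6,5,1,0,2,1,3,7,6])) (.nd (.lf [2,1,2,5,1,0,2,1,3,2,4,3,5,1,0,2,1,5,6,7,3])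 (.lf [2,3,2,4,3,7,3,2,1,0,4,5,1,6,5,1,2,7,3,4,6,5,7,3,6]))) (.nd (.nd (.lf [1,1,0,3,2,4,3,5,1,0,2,1,3]) (.lf [2,3,2,4,5,1,0,7,3,2,1,5,6,5,7,3,2,4,3,7,6,5,1])) (.nd (.lf [1,1,0,5,1,6,7,3,2,1,0,4,3,2,1,5,6]) (.lf [2,1,0,2,1,5,7,3,2,1,0,4,3,5,1,6,5,7,3,6,5,1,2,7,3])))) (.nd (.nd (.nd (.lf [1,1,0,3,5,1,2,7,3]) (.lf [2,5,1,0,2,1,7,3,2,4,3,7,6])) (.nd (.lf [2,1,0,3,2,1,0,4,3,2,1,5,1,0,2,3,6,7,3,2,1,4,3,6,5,7,6]) (.lf [1,1,0,3,2,1,5,7,3,2,1,4,3,6,5,7,6]))) (.nd (.nd (.lf [2,1,5,1,0,7,3,2,4,3,6,7,3,2,1,4,5,6,5,1,2,7,3]) (.lf [1,1,0,3,4,5,1,2,3,6,5,7,6])) (.nd (.lf [2,1,3,4,7,3,2,1,0,4,3,2,6,5,7,6,5,1,2,3,4,7,3,2,6,5,1,7,3]) (.lf [2,7,3,2,1,0,4,5,1,6,5,1,2,7,3,4,6,5,7,3,6]))))))) (.nd (.nd (.nd (.nd (.nd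 (.nd (.lf [1,1,0,2,1,3,2,1,0,4,3,5,1,6,5,7,6]) (.lf [2,1,0,2,1,5,7,3,2,1,0,4,3,5,1,6,5,7,6,5,1])) (.nd (.lf [2,1,0,2,1,3,2,1,0,4,3,5,1,0,6,5,1,7,6]) (.lf [2,3,2,7,3,2,1,0,4,3,2,1,5,6,5,7,3,2,1,4,3,5,6]))) (.nd (.nd (.lf [2,3,2,1,0,7,3,2,1,5,6,7,3,2,1,4,3,7,6]) (.lf [2,3,2,4,3,7,3,2,1,0,4,5,6,5,1,2,7,3,2,4,6,5,7,3,6])) (.nd (.lf [1,1,0,2,3,2,5,1,0,7,3,2,1,4,3,6,5,7,6]) (.lf [1,1,3,2,4,5,1,7,3,2,1,6,5,1,0,2,1,3,2,4,3,7,6,5,1])))) (.nd (.nd (.nd (.lf [2,3,2,1,0,4,3,5,1,0,2,6,5,7,3,4,6,5,1,7,3]) (.lf [2,1,3,5,1,0,7,3,2,1,4,5,6,7,3,2,1,0,4,3,2,5,1,2,6,7,3])) (.nd (.lf [1,1,0,2,3,2,1,0,4,5,1,0,2,7,3,2,1]) (.lf [1,1,0,3,2,4,3,5,1,0,2,1,3,6,5,1,2,7,6,5,1]))) (.nd (.nd (.lf [2,1,0,5,1,0,2,3,4,7,3,2,1,4,5,6,5,1,0,7,6,5,1,2,3,7,6])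 (.lf [1,1,0,3,4,5,1,7,3,6,5,1,2,7,6,5,1])) (.nd (.lf [2,3,2,4,3,5,1,0,2,1,3,2,4,3,6]) (.lf [2,1,0,2,1,7,3,2,1,0,4,3,2,1,5,1,2,7,6,5,1]))))) (.nd (.nd (.nd (.nd (.lf [2,3,2,1,0,4,3,5,1,0,2,6,5,7,3,4,6,7,3,2,1]) (.lf [1,1,0,3,2,1,4,7,6,5,1,2,3,4,7,3,6,5,1])) (.nd (.lf [1,1,2,3,2,1,0,4,3,2,1,7,3,6,5,1,0,2,1,7,6]) (.lf [2,3,4,7,3,2,1,0,6,5,1,2,7,3,2,4,6,5,1,2,3,7,6]))) (.nd (.nd (.lf [1,1,3,2,5,1,0,6,7,3,2,1,0,6,7,3,2,4,3,7,6,5,1,2,3]) (.lf [2,3,2,4,5,7,3,2,4,6,5,1,0,2,1,5,6,7,3,2,1,4,3,5,6])) (.nd (.lf [2,1,5,1,0,7,3,2,1,4,3,6,7,3,2,1,0,4,3,2,5,6,5,1,2,7,3]) (.lf [2,5,1,0,2,1,7,3,2,1,4,3,2,7,6,5,1])))) (.nd (.nd (.nd (.lf [1,1,0,3,2,1,0,5,1,0,2,1,3]) (.lf [2,3,4,5,1,0,2,1,6,7,3,2,1,4,3,6,5,1,0,2,1,5,6]))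 (.nd (.lf [0,1,2,5,1]) (.lf [1,1,3,4,5,7,3,2,1,6,5,1,0,2,1,5,6]))) (.nd (.nd (.lf [2,1,0,7,3,2,1,0,4,6,5,7,3,2,1,4,3,6,5,7,6]) (.lf [1,1,0,3,2,1,4,3,2,5,1,2,3,6,5,7,6])) (.nd (.lf [1,1,0,2,3,4,5,7,3,2,1]) (.lf [2,1,2,7,3,2,1,0,4,3,2,6,5,7,3,2,1,6,5,7,6])))))) (.nd (.nd (.nd (.nd (.nd (.lf [2,1,0,2,1,3,2,1,0,4,3,5,1,2,6,5,1,7,6]) (.lf [1,1,0,3,4,7,3,2,1,6,5,1,0,7,6,5,1])) (.nd (.lf [2,1,3,4,5,1,2,3,4,7,3,2,1,0,5,1,2,3,4,6,7,3,2,1,4,3,6]) (.lf [1,1,0,3,2,4,3,5,7,6,5,1,0,2,1,3,2,4,7,3,6]))) (.nd (.nd (.lf [1,1,0,2,1,3,2,1,0,4,5,1,2,7,3]) (.lf [2,1,0,5,1,0,7,3,2,4,3,6,5,7,6,5,1,0,2,1,3,4,7,3,6])) (.nd (.lf [2,3,5,1,0,2,1,6,5,7,3,2,1,4,3]) (.lf [2,3,2,1,0,5,1,0,7,3,2,1,4,3,2,5,1,7,3,2,6,5,1,7,3])))) (.nd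 (.nd (.nd (.lf [1,1,0,2,3,2,5,1,0,7,3,2,1,4,3,6,5,1,0,2,1,7,6]) (.lf [2,3,4,5,1,0,2,1,3,2,4,3,5,1,0,6,5,7,6,5,1])) (.nd (.lf [2,3,2,4,5,1,0,2,1,6,5,7,3,2,1,4,3]) (.lf [2,1,0,2,1,5,1,0,7,3,2,1,0,4,3,2,1,5,6,7,3]))) (.nd (.nd (.lf [2,5,1,0,2,1,3,2,4,3,6]) (.lf [1,1,0,2,3,4,5,6,7,3,2,1,0,4,3,5,1,6,7,3,6])) (.nd (.lf [1,1,0,5,1,6,5,7,3,4,6,7,3]) (.lf [2,1,0,3,4,7,3,2,1,5,6,5,7,3,2,1,0,4,3,2,1,5,1,7,6]))))) (.nd (.nd (.nd (.nd (.lf [2,3,4,7,3,2,1,0,5,1,2,3,6,5,7,3,4,6,5,7,3,2,1,5,6]) (.lf [2,1,0,5,1,0,7,3,2,4,3,7,6,5,1,0,2,1,3,7,6])) (.nd (.lf [1,1,0,2,3,2,4,3,7,6,5,1,2,3,4,7,3,2,1,5,6]) (.lf [2,3,2,4,3,5,1,0,2,1,3,2,4,3,5,1,2,7,6,5,1]))) (.nd (.nd (.lf [2,1,0,3,2,4,3,5,1,2,3,7,3,2,1,5,6,7,3,2,1,4,3])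 (.lf [1,1,0,3,2,4,3,7,6,5,1,0,2,1,3,4,7,3,6])) (.nd (.lf [2,1,0,3,4,5,1,0,2,3,4,6,5,7,6,5,1,2,3,4,7,3,6,5,1]) (.lf [1,1,0,3,2,4,3,7,6,5,1,0,2,1,3,2,7,3,6])))) (.nd (.nd (.nd (.lf [2,3,2,5,1,0,2,1,3,2,6,5,1,7,3]) (.lf [1,1,0,3,5,1,2,6,7,3,2,4,3,6,7,3,6])) (.nd (.lf [1,1,0,5,1,6,5,7,3,2,6,7,3]) (.lf [2,1,0,2,1,7,3,2,1,0,4,3,5,1,6,5,1,7,6]))) (.nd (.nd (.lf [1,1,0,2,3,2,1,4,5,1,0,7,3,2,1,4,3,6,5,7,6]) (.lf [0,1,2,3,4,5,1,2,3,6,5,7,6])) (.nd (.lf [2,3,4,5,1,0,2,1,6,7,3,2,1,4,3]) (.lf [1,1,0,3,2,1,4,5,1,0,2,1,3,6,5,7,6])))))))) (.nd (.nd (.nd (.nd (.nd (.nd (.nd (.lf [1,1,0,3,2,1,0,7,3,2,1,4,3]) (.lf [2,1,0,2,1,3,2,5,1,0,2,3,4,6,5,7,3,2,1,4,3,6,5,7,6])) (.nd (.lf [2,1,0,7,3,2,1,0,6,7,3,2,1,4,3]) (.lf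 [2,3,2,5,1,0,2,1,3,2,4,3,5,1,0,2,6,5,1,7,6]))) (.nd (.nd (.lf [2,1,0,3,2,1,0,4,3,2,1,5,1,2,3,4,6,7,3,2,1,4,3]) (.lf [2,3,2,4,3,7,3,2,1,0,4,3,5,1,6,5,1,7,3,2,4,3,6])) (.nd (.lf [1,1,0,3,2,5,1,0,2,7,3,2,1]) (.lf [1,1,0,3,2,4,3,7,6,5,1,0,2,3,4,7,3,2,6,5,1])))) (.nd (.nd (.nd (.lf [2,1,0,2,1,3,2,5,1,0,2,3,6,7,3,2,1,4,3]) (.lf [2,3,2,5,1,0,2,1,6,7,3,2,1,4,3,6,5,7,3,2,6,7,3])) (.nd (.lf [1,1,0,3,4,5,1,2,3]) (.lf [1,1,0,3,4,5,1,6,5,7,3,2,6,5,7,3,6]))) (.nd (.nd (.lf [2,1,0,3,4,5,1,0,2,3,4,6,7,6,5,1,0,2,1,3,2,4,7,3,6]) (.lf [1,1,0,3,4,5,1,6,7,3,2,4,6,5,7,3,6])) (.nd (.lf [2,3,4,5,1,0,2,1,6,7,3,2,1,4,3,6,5,1,0,7,6,5,1]) (.lf [2,3,2,4,3,5,7,3,2,1,0,5,1,6,5,7,3,4,6,7,3,2,1,5,6]))))) (.nd (.nd (.nd (.nd (.lf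 [1,1,0,3,2,4,3,7,3,2,1,4,3,6,5,1,0,2,1,5,6]) (.lf [2,3,2,4,3,7,3,2,1,0,4,3,5,1,2,6,5,7,6,5,1])) (.nd (.lf [2,3,2,1,0,5,1,0,7,3,2,4,3,7,6,5,1,2,3,7,6]) (.lf [1,1,0,3,2,4,3,7,3,2,1,4,3,6,5,7,3,2,6,7,3]))) (.nd (.nd (.lf [2,1,3,5,1,2,3,4,7,3,2,1,0,5,1,2,3,4,6,7,3,4,6,5,1,0,2,1,3]) (.lf [1,1,3,2,4,3,5,1,2,6,5,1,0,7,3,2,1,5,6,7,3,2,1])) (.nd (.lf [1,1,5,6,7,3,2,1,0,4,3,2,1,5,1,6,5,7,3,2,1]) (.lf [0,1,2,3,4,5,1,2,3,6,5,1,2,7,6,5,1])))) (.nd (.nd (.nd (.lf [2,1,0,3,4,7,3,2,1,0,4,3,2,1,7,3,2,4,6,5,1,7,3,2,6,5,1,7,6]) (.lf [1,1,3,4,5,6,7,3,2,1,0,5,1,2,6,5,7,3,6])) (.nd (.lf [2,3,5,1,0,2,1,6,5,7,3,2,1,4,3,6,5,1,2,7,6,5,1]) (.lf [2,1,0,3,4,7,3,2,1,0,4,5,1,2,3,6,7,3,2,1,6]))) (.nd (.nd (.lf [1,1,3,4,5,6,7,3,2,1,0,5,1,2,3,4,7,3,6])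 (.lf [2,1,0,3,4,7,3,2,1,0,4,3,5,1,2,3,6,7,3,2,1,4,6,7,3])) (.nd (.lf [2,1,3,4,7,3,2,1,0,4,3,6,7,3,6,5,1,2,3,4,7,3,6,5,1]) (.lf [1,1,0,3,4,5,6,7,3,2,1,0,4,5,1,2,6,5,7,3,6])))))) (.nd (.nd (.nd (.nd (.nd (.lf [2,3,2,1,0,4,3,7,3,2,1,4,6,7,3,2,1,4,3]) (.lf [1,1,0,3,2,4,3,5,1,0,2,1,3,6,5,7,6])) (.nd (.lf [2,1,0,3,4,5,1,0,2,1,3,4,5,7,3,6,5,1,0,2,1,3,2,5,1,7,3,4,6,7,3]) (.lf [1,1,0,5,1,6,7,3,2,1,0,4,3,2,1,7,6]))) (.nd (.nd (.lf [1,1,0,2,1,3,2,1,0,5,1,7,3]) (.lf [2,3,5,1,0,7,3,2,1,5,6,5,7,3,2,4,3,7,6,5,1])) (.nd (.lf [2,3,4,5,7,3,2,1,0,4,6,5,1,7,3,2,6,5,1,7,3,4,6,7,3]) (.lf [2,5,1,0,2,1,3,2,4,3,5,1,0,7,3,6,5,1,2,7,3])))) (.nd (.nd (.nd (.lf [2,3,4,5,1,0,2,1,3,2,4,3,5,1,0,2,1,5,6,5,1]) (.lf [1,1,0,3,4,7,3,2,1,6,5,1,0,2,1,5,6]))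 (.nd (.lf [1,1,0,5,1,6,7,3,2,1,0,4,3,2,1,5,1,0,6,5,1]) (.lf [0,1,2,3,4,5,1,2,3,6,5,7,3,2,4,3,6]))) (.nd (.nd (.lf [1,1,0,3,4,5,6,7,3,2,1,0,4,5,1,2,3,6,7,3,6]) (.lf [2,3,2,4,3,5,7,3,2,1,0,4,3,5,1,6,5,7,3,4,6,7,3,2,1])) (.nd (.lf [2,1,3,4,5,1,0,2,1,3,2,4,3,5,1,0,2,1,5,6,5,1,2,7,3]) (.lf [1,1,0,3,4,5,1,6,7,3,2,4,3,6,7,3,6]))))) (.nd (.nd (.nd (.nd (.lf [2,1,2,3,5,1,2,3,4,7,3,2,1,0,5,1,2,3,4,6,7,3,6]) (.lf [2,3,2,4,3,5,1,0,7,3,2,1,5,6,7,3,2,1,4,3,5,7,6,5,1])) (.nd (.lf [1,1,0,3,2,1,4,3,2,7,3,2,1,6,7,3,2,4,3,7,6]) (.lf [2,1,0,2,1,5,1,2,3,4,7,3,4,6,5,1,0,7,6,5,1,2,3,7,6]))) (.nd (.nd (.lf [2,5,1,0,7,3,2,1,5,6,7,3,2,1,4,3,5,7,6,5,1]) (.lf [1,1,0,3,4,5,1,2,3,6,5,1,2,7,3,4,6,7,3,2,1])) (.nd (.lf [2,1,0,2,1,7,3,2,1,4,3,2,5,1,0,7,3,4,6,5,1,2,3,7,3,4,6,7,3])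 (.lf [1,1,0,3,4,5,1,6,5,7,3,6,5,1,0,7,6,5,1,2,3])))) (.nd (.nd (.nd (.lf [1,1,5,6,7,3,2,1,0,4,3,2,1,5,1,0,6,5,1,7,3]) (.lf [2,3,4,5,1,0,2,1,3,2,4,3,5,1,0,2,6,5,1,7,3,4,6,7,3])) (.nd (.lf [2,1,0,3,4,5,1,0,2,1,3,2,4,3,5,1,0,2,1,5,6,5,1,7,3]) (.lf [1,1,0,3,2,4,3,5,6,7,3,2,1,0,4,3,2,5,6,5,1]))) (.nd (.nd (.lf [2,1,0,3,4,5,1,0,2,1,3,2,4,3,5,1,0,2,1,5,6,5,1,2,3]) (.lf [2,3,2,4,5,1,0,2,1,6,5,7,3,2,1,4,3,6,5,1,0,7,6,5,1])) (.nd (.lf [1,1,0,3,4,5,6,7,3,2,1,0,4,5,1,2,3,4,7,3,6]) (.lf [2,1,0,5,1,0,2,3,4,7,3,2,1,0,5,1,6,5,1,0,7,3,2,1,6]))))))) (.nd (.nd (.nd (.nd (.nd (.nd (.lf [2,1,0,3,2,1,0,4,5,6,7,3,2,4,3,6,5,7,6,5,1]) (.lf [2,1,2,3,4,5,1,0,2,3,4,7,3,2,1,0,5,1,2,3,6])) (.nd (.lf [2,3,2,4,5,1,0,7,3,2,1,4,5,6,7,3,2,1,0,4,3,2,1,5,1,7,6])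 (.lf [1,1,0,3,4,7,3,2,1,6,5,7,3,2,4,3,6]))) (.nd (.nd (.lf [1,1,0,2,1,3,2,1,0,5,1,2,3]) (.lf [1,1,0,2,3,4,5,6,7,3,2,1,0,4,6,7,3,2,1,5,6,7,3])) (.nd (.lf [2,3,4,5,7,3,2,1,0,4,6,5,1,7,3,2,6,5,1,7,3,2,4,3,6]) (.lf [2,3,2,4,5,1,0,7,3,2,1,4,5,6,5,7,3,2,1,4,3,7,6])))) (.nd (.nd (.nd (.lf [1,1,3,2,1,0,4,3,5,1,0,7,3,2,1,4,3,6,5,7,3,4,6,7,3]) (.lf [1,1,0,3,5,1,2,6,7,3,2,1,0,4,6,7,3,2,1,5,6])) (.nd (.lf [2,3,4,5,7,3,2,1,0,4,3,2,6,7,3,2,1,4,6,7,3]) (.lf [2,3,5,1,0,7,3,2,1,4,5,6,5,7,3,2,1,4,3,7,6]))) (.nd (.nd (.lf [2,3,4,5,7,3,2,1,0,4,3,2,1,6,7,3,2,1,4,3,6]) (.lf [2,5,1,0,2,1,3,2,4,3,5,1,2,7,6,5,1])) (.nd (.lf [1,1,0,2,3,2,1,4,5,1,0,7,3,2,1,4,3,6,5,1,0,2,1,7,6]) (.lf [2,3,4,7,3,2,1,0,5,1,2,3,4,7,3,2,6,5,1,7,3,2,6,7,3])))))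 (.nd (.nd (.nd (.nd (.lf [2,1,0,2,1,5,1,0,2,1,3,4,7,3,2,1,0,4,3,6,5,1,7,3,6,5,1,7,6]) (.lf [1,1,0,3,2,1,4,3,2,5,1,7,3,6,5,1,0,2,1,5,6])) (.nd (.lf [1,1,0,3,2,1,7,6,5,1,2,3,4,7,3,2,1,5,6]) (.lf [2,5,1,0,7,3,2,1,0,4,5,6,7,3,2,1,0,4,3,5,1,7,6]))) (.nd (.nd (.lf [2,3,2,4,5,7,3,2,1,0,4,3,2,1,6,7,3,2,4,3,6,5,1]) (.lf [2,3,2,4,3,7,3,2,1,0,4,3,2,1,5,7,3,2,6,7,3])) (.nd (.lf [2,1,0,3,4,7,3,2,1,0,4,5,6,5,7,3,2,1,0,4,3,2,5,1,6]) (.lf [1,1,0,3,4,5,1,2,3,6,5,1,2,7,6,5,1])))) (.nd (.nd (.nd (.lf [2,3,5,7,3,2,1,0,4,3,2,1,6,7,3,2,4,3,6,5,1]) (.lf [2,3,2,1,0,7,3,2,1,0,4,5,6,5,7,3,2,1,0,5,6,7,3,2,1])) (.nd (.lf [1,1,0,2,1,3,4,7,3,6,5,1,2,7,6,5,1]) (.lf [2,3,2,4,3,5,7,3,2,1,0,4,3,5,1,6,5,7,3,4,6,5,1,7,3]))) (.nd (.nd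 (.lf [1,1,0,2,1,3,2,1,4,3,2,5,1,6,5,7,6]) (.lf [2,5,1,0,2,1,5,7,3,2,1,4,3,2,5,1,6,5,1,7,6])) (.nd (.lf [2,1,2,3,4,5,1,2,3,7,3,2,1,0,5,1,2,3,6]) (.lf [1,1,0,3,2,1,4,3,2,5,1,7,3,6,5,7,6])))))) (.nd (.nd (.nd (.nd (.nd (.lf [1,1,2,3,2,1,0,4,3,2,1,7,3,6,5,7,6]) (.lf [2,5,1,0,2,1,3,4,7,3,2,4,6,5,1,7,3,2,6,5,1])) (.nd (.lf [1,1,0,2,5,6,7,3,2,4,3,7,6,5,1,0,2,1,3,7,6]) (.lf [2,5,1,0,2,1,3,2,4,3,5,1,0,2,1,7,6]))) (.nd (.nd (.lf [0,1,0,5,1]) (.lf [1,1,0,3,2,1,4,3,2,7,3,2,1,6,5,7,6])) (.nd (.lf [1,1,0,2,1,3,2,7,3,6,5,7,6]) (.lf [2,3,2,1,0,4,3,2,1,7,3,2,1,0,4,3,5,1,6,5,1,7,6])))) (.nd (.nd (.nd (.lf [2,3,4,5,7,3,2,1,0,4,3,5,1,6,7,3,6,5,1,2,3,4,7,3,6]) (.lf [2,1,0,2,1,5,7,3,2,1,0,4,3,2,1,5,1,2,6,5,1])) (.nd (.lf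 [2,3,4,7,3,2,1,0,4,3,5,1,6,5,7,3,4,6,5,7,3,2,1,5,6]) (.lf [1,1,0,3,4,5,1,7,3,6,5,1,0,2,1,7,6]))) (.nd (.nd (.lf [1,1,2,3,4,5,1,7,3]) (.lf [2,1,2,3,4,5,1,0,2,1,3,2,4,7,3,2,1,0,4,5,6,7,3,2,1,4,3])) (.nd (.lf [2,3,2,5,1,0,2,1,6,7,3,2,1,4,3]) (.lf [1,1,0,3,2,4,3,5,6,7,3,2,1,0,5,1,6,7,3]))))) (.nd (.nd (.nd (.nd (.lf [1,1,0,3,7,6,5,1,2,3,4,7,3,2,1,0,5,1,6]) (.lf [2,5,1,0,2,1,7,3,2,1,0,4,3,2,1,5,1,0,6,5,1])) (.nd (.lf [0,1,2,3,4,5,1,2,3,6,5,1,0,2,1,5,6]) (.lf [1,1,0,2,3,2,4,5,1,7,3,2,1,4,3,6,5,1,0,2,1,5,6]))) (.nd (.nd (.lf [1,1,0,2,1,3,4,7,3,6,5,1,0,7,6,5,1]) (.lf [2,3,2,5,1,0,2,1,3,2,4,3,5,1,0,6,5,7,6,5,1])) (.nd (.lf [1,1,0,2,3,4,5,6,7,3,2,1,4,5,6,7,3,2,1,5,6]) (.lf [2,1,0,2,1,7,3,2,1,0,4,3,2,1,5,1,0,7,3,6,5,1,2,7,3]))))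 (.nd (.nd (.nd (.lf [2,3,4,7,3,2,1,0,4,3,2,1,5,6,5,7,3,2,1,4,3,5,6]) (.lf [1,1,0,3,2,4,3,5,6,7,3,2,1,0,4,5,1,2,6,7,3])) (.nd (.lf [1,1,3,2,4,5,6,7,3,2,1,0,5,1,2,3,4,6,7,3,6]) (.lf [2,1,0,3,2,1,4,3,2,7,3,2,1,0,4,5,1,2,3,6,7,3,2,1,6]))) (.nd (.nd (.lf [2,1,0,2,1,3,2,4,3,5,1,0,2,1,5,7,6]) (.lf [1,3,4,7,3,6,5,1,0,2,1,3,4,5,6,7,3])) (.nd (.lf [2,3,2,4,3,7,3,2,1,0,5,1,2,3,4,7,3,2,6,5,1,2,3,7,6]) (.lf [2,5,1,0,7,3,2,1,4,5,6,7,3,2,1,4,3,2,5,1,6]))))))))))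

theorem kf0 : chkU cf0 0 = true := by decide +kernel

/-- Certificates of a coset. -/
def cf1 : TF :=
  (.nd (.nd (.nd (.nd (.nd (.nd (.nd (.nd (.nd (.lf [1,1,3,2,4,3,7,3,2,4,3,6,7]) .nil) .nil) .nil) (.nd (.nd (.nd .nil (.lf [1,1,0,3,2,4,3,7,3,2,4,3,6,5,1,0,2,1])) .nil) .nil)) (.nd (.nd (.nd (.nd (.lf [2,3,2,1,0,4,3,7,3,2,1,0,4,3,5,6,5,1,7,3,2,1,4,3,7]) .nil) .nil) .nil) (.nd (.nd (.nd .nil (.lf [2,1,0,2,3,2,1,7,3,2,1,4,3,2,6,7,3,6,5,7])) .nil) .nil))) (.nd (.nd (.nd (.nd .nil (.nd (.lf [1,1,0,3,2,4,3,7,3,2,4,3,6,7]) .nil)) .nil) (.nd (.nd .nil (.nd .nil (.lf [1,1,0,2,3,2,4,3,7,3,2,4,3,6,5,1,0,2,1]))) .nil)) (.nd (.nd (.nd .nil (.nd (.lf [2,1,0,3,2,1,0,4,7,3,2,1,0,4,3,2,5,7,3,6,5,1,2,3,7,3]) .nil))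 .nil) (.nd (.nd .nil (.nd .nil (.lf [2,1,0,2,3,2,1,7,3,2,1,0,4,3,2,6,7,3,6,5,7]))) .nil)))) .nil) (.nd (.nd (.nd (.nd (.nd (.nd (.nd (.lf [2,1,0,2,3,2,1,7,3,2,1,4,3,2,6,7,3,6,7]) .nil) .nil) .nil) (.nd (.nd (.nd .nil (.lf [2,1,0,3,5,1,2,3,4,7,3,2,1,0,5,1,6,5,1,0,2,1,3,4,7,3])) .nil) .nil)) (.nd (.nd (.nd (.nd (.lf [1,1,0,3,2,4,3,7,3,2,4,3,6,5,1,0,2,1,5]) .nil) .nil) .nil) (.nd (.nd (.nd .nil (.lf [1,1,3,2,4,3,7,3,2,4,3,6,5,7])) .nil) .nil))) (.nd (.nd (.nd (.nd .nil (.nd (.lf [2,1,0,2,3,2,1,7,3,2,1,0,4,3,2,6,7,3,6,7]) .nil)) .nil) (.nd (.nd .nil (.nd .nil (.lf [2,3,2,4,7,3,2,1,0,5,1,2,3,4,6,5,7,3,4,6,5,1,2,3,7]))) .nil)) (.nd (.nd (.nd .nil (.nd (.lf [1,1,0,2,3,2,4,3,7,3,2,4,3,6,5,1,0,2,1,5]) .nil))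 .nil) (.nd (.nd .nil (.nd .nil (.lf [1,1,0,3,2,4,3,7,3,2,4,3,6,5,7]))) .nil)))) .nil)) (.nd (.nd (.nd (.nd (.nd (.nd (.nd (.nd (.lf [1,1,0,2,3,2,4,3,7,3,2,4,3,6,5,1,0,2,1,5,7]) .nil) .nil) .nil) (.nd (.nd (.nd .nil (.lf [1,1,0,3,2,4,3,7,3,2,4,3,6,5])) .nil) .nil)) (.nd (.nd (.nd (.nd (.lf [2,1,0,2,3,2,1,7,3,2,1,0,4,3,2,6,7,3,6]) .nil) .nil) .nil) (.nd (.nd (.nd .nil (.lf [2,3,2,4,7,3,2,1,0,5,1,2,3,4,6,5,7,3,4,6,5,1,2,3])) .nil) .nil))) (.nd (.nd (.nd (.nd .nil (.nd (.lf [1,1,0,3,2,4,3,7,3,2,4,3,6,5,1,0,2,1,5,7]) .nil)) .nil) (.nd (.nd .nil (.nd .nil (.lf [1,1,3,2,4,3,7,3,2,4,3,6,5]))) .nil)) (.nd (.nd (.nd .nil (.nd (.lf [2,1,0,2,3,2,1,7,3,2,1,4,3,2,6,7,3,6]) .nil)) .nil) (.nd (.nd .nil (.nd .nil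 (.lf [2,3,2,1,0,4,3,7,3,2,1,0,4,3,5,6,5,1,7,3,2,1,4,3,5]))) .nil)))) .nil) (.nd (.nd (.nd (.nd (.nd (.nd (.nd (.lf [2,1,0,3,2,1,0,4,7,3,2,1,0,4,3,2,5,7,3,6,5,1,2,7,3]) .nil) .nil) .nil) (.nd (.nd (.nd .nil (.lf [2,1,0,2,3,2,1,7,3,2,1,0,4,3,2,6,7,3,6,5])) .nil) .nil)) (.nd (.nd (.nd (.nd (.lf [1,1,0,3,2,4,3,7,3,2,4,3,6]) .nil) .nil) .nil) (.nd (.nd (.nd .nil (.lf [1,1,0,2,3,2,4,3,7,3,2,4,3,6,5,1,0,2,1,7])) .nil) .nil))) (.nd (.nd (.nd (.nd .nil (.nd (.lf [2,3,2,1,0,4,3,7,3,2,1,0,4,3,5,6,5,1,7,3,2,1,4,3]) .nil)) .nil) (.nd (.nd .nil (.nd .nil (.lf [2,1,0,2,3,2,1,7,3,2,1,4,3,2,6,7,3,6,5]))) .nil)) (.nd (.nd (.nd .nil (.nd (.lf [1,1,3,2,4,3,7,3,2,4,3,6]) .nil)) .nil) (.nd (.nd .nil (.nd .nil (.lf [1,1,0,3,2,4,3,7,3,2,4,3,6,5,1,0,2,1,7])))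 .nil)))) .nil)))

theorem kf1 : chkU cf1 1 = true := by decide +kernel

/-- Certificates of a coset. -/
def cf2 : TF :=
  (.nd (.nd (.nd (.nd (.nd (.nd (.nd (.nd (.nd (.lf [1,1,0,2,3,2,4,3,5,6,7,3,2,1,4,3,7]) .nil) .nil) .nil) (.nd .nil (.nd (.nd (.lf [1,1,0,2,3,2,4,3,5,6,7,3,2,1,4,3,2,5]) .nil) .nil))) (.nd (.nd (.nd (.nd (.lf [2,3,2,5,1,0,2,7,3,2,1,0,4,3,2,5,1,2,6,7,3]) .nil) .nil) .nil) (.nd .nil (.nd (.nd (.lf [2,3,2,4,5,1,0,2,1,3,5,6,5,1,7,3,2,1,4,3]) .nil) .nil)))) (.nd (.nd (.nd .nil (.nd .nil (.nd .nil (.lf [1,1,0,3,4,5,1,2,3,6,5,7,3,2,1,0,4,3])))) (.nd (.nd .nil (.nd .nil (.lf [1,1,0,2,3,2,4,3,5,6,7,3,2,1,0,4,3]))) .nil)) (.nd (.nd .nil (.nd .nil (.nd .nil (.lf [2,3,2,4,5,1,0,2,1,3,5,6,5,1,7,3,2,1,0,4,3,7]))))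 (.nd (.nd .nil (.nd .nil (.lf [2,1,0,2,1,3,2,5,1,0,2,1,3,4,7,3,2,1,0,4,6,7,3]))) .nil)))) .nil) (.nd (.nd (.nd (.nd (.nd (.nd (.nd (.lf [2,3,2,4,5,1,0,2,1,3,5,6,5,1,7,3,2,1,4,3,7]) .nil) .nil) .nil) (.nd .nil (.nd (.nd (.lf [2,1,0,2,1,3,2,5,1,0,2,1,3,4,7,3,2,1,4,6,7,3]) .nil) .nil))) (.nd (.nd (.nd (.nd (.lf [1,1,0,3,4,5,1,2,3,6,5,7,3,2,1,4,3]) .nil) .nil) .nil) (.nd .nil (.nd (.nd (.lf [1,1,0,2,3,2,4,3,5,6,7,3,2,1,4,3]) .nil) .nil)))) (.nd (.nd (.nd .nil (.nd .nil (.nd .nil (.lf [2,3,2,5,1,0,2,7,3,2,1,0,4,3,2,5,1,0,2,6,7,3])))) (.nd (.nd .nil (.nd .nil (.lf [2,3,2,4,5,1,0,2,1,3,5,6,5,1,7,3,2,1,0,4,3]))) .nil)) (.nd (.nd .nil (.nd .nil (.nd .nil (.lf [1,1,0,2,3,2,4,3,5,6,7,3,2,1,0,4,3,7])))) (.nd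 (.nd .nil (.nd .nil (.lf [1,1,0,2,3,2,4,3,5,6,7,3,2,1,0,4,3,2,5]))) .nil)))) .nil)) (.nd (.nd (.nd (.nd (.nd (.nd (.nd (.nd (.lf [1,1,0,2,3,2,4,3,5,6,7,3,2,1,0,4,3,2,7]) .nil) .nil) .nil) (.nd .nil (.nd (.nd (.lf [1,1,0,2,3,2,4,3,5,6,7,3,2,1,0,4,3,5]) .nil) .nil))) (.nd (.nd (.nd (.nd (.lf [2,3,2,4,5,1,0,2,1,3,5,6,5,1,7,3,2,1,0,4,3,5,7]) .nil) .nil) .nil) (.nd .nil (.nd (.nd (.lf [2,3,2,4,5,1,0,2,1,3,5,6,5,1,7,3,2,1,0,4,3,2]) .nil) .nil)))) (.nd (.nd (.nd .nil (.nd .nil (.nd .nil (.lf [1,1,0,2,3,2,4,3,5,6,7,3,2,1,4,3,5,7])))) (.nd (.nd .nil (.nd .nil (.lf [1,1,0,2,3,2,4,3,5,6,7,3,2,1,4,3,2]))) .nil)) (.nd (.nd .nil (.nd .nil (.nd .nil (.lf [2,3,2,4,5,1,0,2,1,3,5,6,5,1,7,3,2,1,4,3,2,7])))) (.nd (.nd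 .nil (.nd .nil (.lf [2,3,2,4,5,1,0,2,1,3,5,6,5,1,7,3,2,1,4,3,5]))) .nil)))) .nil) (.nd (.nd (.nd (.nd (.nd (.nd (.nd (.lf [2,3,2,4,5,1,0,2,1,3,5,6,5,1,7,3,2,1,0,4,3,2,7]) .nil) .nil) .nil) (.nd .nil (.nd (.nd (.lf [2,3,2,4,5,1,0,2,1,3,5,6,5,1,7,3,2,1,0,4,3,5]) .nil) .nil))) (.nd (.nd (.nd (.nd (.lf [1,1,0,2,3,2,4,3,5,6,7,3,2,1,0,4,3,5,7]) .nil) .nil) .nil) (.nd .nil (.nd (.nd (.lf [1,1,0,2,3,2,4,3,5,6,7,3,2,1,0,4,3,2]) .nil) .nil)))) (.nd (.nd (.nd .nil (.nd .nil (.nd .nil (.lf [2,3,2,4,5,1,0,2,1,3,5,6,5,1,7,3,2,1,4,3,5,7])))) (.nd (.nd .nil (.nd .nil (.lf [2,3,2,4,5,1,0,2,1,3,5,6,5,1,7,3,2,1,4,3,2]))) .nil)) (.nd (.nd .nil (.nd .nil (.nd .nil (.lf [1,1,0,2,3,2,4,3,5,6,7,3,2,1,4,3,2,7])))) (.nd (.nd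 .nil (.nd .nil (.lf [1,1,0,2,3,2,4,3,5,6,7,3,2,1,4,3,5]))) .nil)))) .nil)))

theorem kf2 : chkU cf2 2 = true := by decide +kernel

/-- Certificates of a coset. -/
def cf3 : TF :=
  (.nd (.nd (.nd (.nd (.nd (.nd (.nd (.nd (.nd (.lf [1,1,0,3,2,4,3,5,6,7,3,2,1,4,3,6,5]) .nil) .nil) (.nd (.nd .nil (.lf [1,1,0,2,3,2,4,3,5,7,3,2,4,3,6,5,1,2])) .nil)) .nil) (.nd (.nd (.nd (.nd (.lf [2,1,0,3,2,1,4,5,7,3,2,1,0,4,5,1,2,6,5,7,3]) .nil) .nil) (.nd (.nd .nil (.lf [2,1,0,3,2,1,4,5,7,3,2,1,0,4,5,1,2,3,6,7,3,2])) .nil)) .nil)) (.nd (.nd .nil (.nd (.nd .nil (.nd .nil (.lf [1,1,0,3,2,4,3,5,6,7,3,2,1,4,3,2,6]))) (.nd .nil (.nd (.lf [1,1,0,2,3,2,4,3,5,7,3,2,1,4,3,6,5,1]) .nil)))) (.nd .nil (.nd (.nd .nil (.nd .nil (.lf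 [2,1,0,3,2,1,4,5,7,3,2,1,0,4,5,1,2,6,7,3,2]))) (.nd .nil (.nd (.lf [2,1,0,3,2,1,4,5,7,3,2,1,0,4,5,1,2,3,6,5,7,3]) .nil)))))) .nil) (.nd (.nd (.nd (.nd (.nd (.nd (.nd (.lf [2,1,0,3,2,1,4,5,7,3,2,1,0,4,5,1,2,3,6,7,3]) .nil) .nil) (.nd (.nd .nil (.lf [2,1,0,3,2,1,4,5,7,3,2,1,0,4,5,1,2,6,5,7,3,2])) .nil)) .nil) (.nd (.nd (.nd (.nd (.lf [1,1,0,2,3,2,4,3,5,7,3,2,4,3,6,5,1]) .nil) .nil) (.nd (.nd .nil (.lf [1,1,0,3,2,4,3,5,6,7,3,2,1,4,3,2,6,5])) .nil)) .nil)) (.nd (.nd .nil (.nd (.nd .nil (.nd .nil (.lf [2,1,0,3,2,1,4,5,7,3,2,1,0,4,5,1,2,3,6,5,7,3,2]))) (.nd .nil (.nd (.lf [2,1,0,3,2,1,4,5,7,3,2,1,0,4,5,1,2,6,7,3]) .nil)))) (.nd .nil (.nd (.nd .nil (.nd .nil (.lf [1,1,0,2,3,2,4,3,5,7,3,2,1,4,3,6,5,1,2])))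 (.nd .nil (.nd (.lf [1,1,0,3,2,4,3,5,6,7,3,2,1,4,3,6]) .nil)))))) .nil)) (.nd (.nd (.nd (.nd (.nd (.nd (.nd (.nd (.lf [1,1,0,3,2,4,3,5,6,7,3,2,1,0,4,3,2,6,5]) .nil) .nil) (.nd (.nd .nil (.lf [1,1,0,2,3,2,4,3,5,7,3,2,4,3,6,5,1,0])) .nil)) .nil) (.nd (.nd (.nd (.nd (.lf [2,1,0,3,2,1,4,7,3,2,1,0,4,5,1,2,6,5,7,3,2]) .nil) .nil) (.nd (.nd .nil (.lf [2,1,0,3,2,1,4,7,3,2,1,0,4,5,1,2,3,6,7,3])) .nil)) .nil)) (.nd (.nd .nil (.nd (.nd .nil (.nd .nil (.lf [1,1,0,3,2,4,3,5,6,7,3,2,1,0,4,3,6]))) (.nd .nil (.nd (.lf [1,1,0,2,3,2,4,3,5,7,3,2,1,4,3,6,5,1,0,2]) .nil)))) (.nd .nil (.nd (.nd .nil (.nd .nil (.lf [2,1,0,3,2,1,4,7,3,2,1,0,4,5,1,2,6,7,3]))) (.nd .nil (.nd (.lf [2,1,0,3,2,1,4,7,3,2,1,0,4,5,1,2,3,6,5,7,3,2])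 .nil)))))) .nil) (.nd (.nd (.nd (.nd (.nd (.nd (.nd (.lf [2,1,0,3,2,1,4,7,3,2,1,0,4,5,1,2,3,6,7,3,2]) .nil) .nil) (.nd (.nd .nil (.lf [2,1,0,3,2,1,4,7,3,2,1,0,4,5,1,2,6,5,7,3])) .nil)) .nil) (.nd (.nd (.nd (.nd (.lf [1,1,0,2,3,2,4,3,5,7,3,2,4,3,6,5,1,0,2]) .nil) .nil) (.nd (.nd .nil (.lf [1,1,0,3,2,4,3,5,6,7,3,2,1,0,4,3,6,5])) .nil)) .nil)) (.nd (.nd .nil (.nd (.nd .nil (.nd .nil (.lf [2,1,0,3,2,1,4,7,3,2,1,0,4,5,1,2,3,6,5,7,3]))) (.nd .nil (.nd (.lf [2,1,0,3,2,1,4,7,3,2,1,0,4,5,1,2,6,7,3,2]) .nil)))) (.nd .nil (.nd (.nd .nil (.nd .nil (.lf [1,1,0,2,3,2,4,3,5,7,3,2,1,4,3,6,5,1,0]))) (.nd .nil (.nd (.lf [1,1,0,3,2,4,3,5,6,7,3,2,1,0,4,3,2,6]) .nil)))))) .nil)))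

theorem kf3 : chkU cf3 3 = true := by decide +kernel

/-- Certificates of a coset. -/
def cf4 : TF :=
  (.nd (.nd (.nd (.nd (.nd (.nd (.nd (.nd (.nd (.lf [1,1,0,3,2,1,4,7,3,4,6,5,7,3,2,1,6]) .nil) .nil) .nil) .nil) (.nd (.nd (.nd (.nd (.lf [2,1,0,3,2,1,0,4,5,7,3,2,1,0,4,3,5,6,5,1,0]) .nil) .nil) .nil) .nil)) (.nd (.nd .nil (.nd (.nd .nil (.nd .nil (.lf [2,1,0,3,2,1,0,7,3,2,1,0,4,3,2,5,1,0,7,6,5]))) .nil)) (.nd .nil (.nd (.nd .nil (.nd .nil (.lf [1,1,0,2,3,2,1,4,5,6,7,3,2,1,4,6,5,7,3]))) .nil)))) (.nd (.nd (.nd .nil (.nd (.nd (.nd (.lf [1,1,0,2,3,2,1,4,5,6,7,3,2,1,4,6,7,3]) .nil) .nil) .nil)) (.nd .nil (.nd (.nd (.nd (.lf [2,1,0,3,2,1,0,7,3,2,1,0,4,3,2,5,1,0,7,6]) .nil) .nil) .nil))) (.nd (.nd (.nd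 (.nd .nil (.nd .nil (.lf [2,1,0,3,2,1,0,4,5,7,3,2,1,0,4,3,5,1,6,5,1,0]))) .nil) .nil) (.nd (.nd (.nd .nil (.nd .nil (.lf [1,1,0,3,2,1,4,7,3,4,6,5,7,3,2,1,6,5]))) .nil) .nil)))) (.nd (.nd (.nd (.nd (.nd (.nd (.nd (.lf [2,3,4,5,1,0,2,1,7,3,2,1,0,4,3,2,5,1,6,5,7]) .nil) .nil) .nil) .nil) (.nd (.nd (.nd (.nd (.lf [1,1,0,3,2,1,4,7,3,4,6,5,1,7,3,2,1,6,5]) .nil) .nil) .nil) .nil)) (.nd (.nd .nil (.nd (.nd .nil (.nd .nil (.lf [1,1,0,2,3,2,1,4,5,6,7,3,2,1,4,6,7,3,2]))) .nil)) (.nd .nil (.nd (.nd .nil (.nd .nil (.lf [2,3,4,5,1,0,2,1,7,3,2,1,0,4,3,2,5,1,6]))) .nil)))) (.nd (.nd (.nd .nil (.nd (.nd (.nd (.lf [2,3,4,5,1,0,2,1,7,3,2,1,0,4,3,2,5,1,6,5]) .nil) .nil) .nil)) (.nd .nil (.nd (.nd (.nd (.lf [1,1,0,3,2,4,5,1,6,7,3,2,4,6,7,3,2,1])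 .nil) .nil) .nil))) (.nd (.nd (.nd (.nd .nil (.nd .nil (.lf [1,1,0,3,2,1,4,7,3,4,6,5,1,7,3,2,1,6]))) .nil) .nil) (.nd (.nd (.nd .nil (.nd .nil (.lf [2,3,4,5,1,0,2,1,7,3,2,1,0,4,3,2,5,1,6,7]))) .nil) .nil))))) (.nd (.nd (.nd (.nd (.nd (.nd (.nd (.nd (.lf [2,1,0,3,2,1,0,7,3,2,1,0,4,3,2,5,1,7,6]) .nil) .nil) .nil) .nil) (.nd (.nd (.nd (.nd (.lf [1,1,0,2,3,2,1,4,5,6,7,3,2,1,0,4,6,7,3]) .nil) .nil) .nil) .nil)) (.nd (.nd .nil (.nd (.nd .nil (.nd .nil (.lf [1,1,0,3,2,1,4,7,3,4,6,5,7,3,2,1,0,6,5]))) .nil)) (.nd .nil (.nd (.nd .nil (.nd .nil (.lf [2,1,0,3,2,1,0,4,5,7,3,2,1,0,4,3,5,1,6,5,1]))) .nil)))) (.nd (.nd (.nd .nil (.nd (.nd (.nd (.lf [2,1,0,3,2,1,0,4,5,7,3,2,1,0,4,3,5,6,5,1]) .nil) .nil) .nil)) (.nd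 .nil (.nd (.nd (.nd (.lf [1,1,0,3,2,1,4,7,3,4,6,5,7,3,2,1,0,6]) .nil) .nil) .nil))) (.nd (.nd (.nd (.nd .nil (.nd .nil (.lf [1,1,0,2,3,2,1,4,5,6,7,3,2,1,0,4,6,5,7,3]))) .nil) .nil) (.nd (.nd (.nd .nil (.nd .nil (.lf [2,1,0,3,2,1,0,7,3,2,1,0,4,3,2,5,1,7,6,5]))) .nil) .nil)))) (.nd (.nd (.nd (.nd (.nd (.nd (.nd (.lf [1,1,0,3,2,4,5,1,6,7,3,2,4,6,7,3,2,1,0]) .nil) .nil) .nil) .nil) (.nd (.nd (.nd (.nd (.lf [2,1,0,3,2,1,0,7,3,2,1,0,4,3,2,5,1,2,7,6,5]) .nil) .nil) .nil) .nil)) (.nd (.nd .nil (.nd (.nd .nil (.nd .nil (.lf [2,1,0,3,2,1,0,4,5,7,3,2,1,0,4,3,5,6,5,1,2]))) .nil)) (.nd .nil (.nd (.nd .nil (.nd .nil (.lf [1,1,0,3,2,1,4,7,3,4,6,5,1,7,3,2,1,0,6]))) .nil)))) (.nd (.nd (.nd .nil (.nd (.nd (.nd (.lf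 [1,1,0,3,2,1,4,7,3,4,6,5,1,7,3,2,1,0,6,5]) .nil) .nil) .nil)) (.nd .nil (.nd (.nd (.nd (.lf [2,1,0,3,2,1,0,4,5,7,3,2,1,0,4,3,5,1,6,5,1,2]) .nil) .nil) .nil))) (.nd (.nd (.nd (.nd .nil (.nd .nil (.lf [2,1,0,3,2,1,0,7,3,2,1,0,4,3,2,5,1,2,7,6]))) .nil) .nil) (.nd (.nd (.nd .nil (.nd .nil (.lf [1,1,0,2,3,2,1,4,5,6,7,3,2,1,0,4,6,7,3,2]))) .nil) .nil))))))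

theorem kf4 : chkU cf4 4 = true := by decide +kernel

/-- Certificates of a coset. -/
def cf5 : TF :=
  (.nd (.nd (.nd (.nd (.nd (.nd (.nd (.nd (.nd (.lf [1,1,0,2,3,2,4,5,1,6,7,3,2,1,4,3,7]) .nil) .nil) .nil) .nil) (.nd (.nd (.nd (.nd (.lf [2,3,2,4,5,1,0,2,1,5,6,5,7,3,2,1,4,3,5]) .nil) .nil) .nil) .nil)) (.nd (.nd .nil (.nd (.nd .nil (.nd .nil (.lf [1,1,0,3,4,5,1,2,6,5,1,7,3,2,1,4,3]))) .nil)) (.nd .nil (.nd (.nd .nil (.nd .nil (.lf [2,1,0,3,2,1,7,3,2,1,0,4,3,5,1,2,6,5,1]))) .nil)))) (.nd (.nd (.nd (.nd (.nd (.nd .nil (.lf [1,1,0,2,3,2,4,5,1,6,7,3,2,1,4,3])) .nil) .nil) .nil) (.nd (.nd (.nd (.nd .nil (.lf [2,1,0,2,1,3,2,5,1,0,2,3,4,7,3,2,1,4,3,6])) .nil) .nil) .nil)) (.nd (.nd .nil (.nd (.nd .nil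 (.nd (.lf [1,1,0,2,3,2,4,5,1,6,7,3,2,1,4,3,2,5]) .nil)) .nil)) (.nd .nil (.nd (.nd .nil (.nd (.lf [2,1,0,3,2,1,7,3,2,1,0,4,3,5,1,2,6,5,1,7]) .nil)) .nil))))) (.nd (.nd (.nd (.nd (.nd (.nd (.nd (.lf [1,1,0,2,3,2,4,5,1,6,7,3,2,1,0,4,3]) .nil) .nil) .nil) .nil) (.nd (.nd (.nd (.nd (.lf [2,1,0,3,2,1,4,7,3,2,1,0,4,3,2,5,1,7,6]) .nil) .nil) .nil) .nil)) (.nd (.nd .nil (.nd (.nd .nil (.nd .nil (.lf [1,1,0,2,3,2,4,5,1,6,7,3,2,1,0,4,3,2,5]))) .nil)) (.nd .nil (.nd (.nd .nil (.nd .nil (.lf [2,1,0,3,2,1,4,7,3,2,1,0,4,3,2,5,1,2,7,6,5]))) .nil)))) (.nd (.nd (.nd (.nd (.nd (.nd .nil (.lf [1,1,0,2,3,2,4,5,1,6,7,3,2,1,0,4,3,7])) .nil) .nil) .nil) (.nd (.nd (.nd (.nd .nil (.lf [2,1,0,3,2,1,4,7,3,2,1,0,4,3,2,5,1,6,7,6]))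 .nil) .nil) .nil)) (.nd (.nd .nil (.nd (.nd .nil (.nd (.lf [1,1,0,3,4,5,1,2,6,5,1,7,3,2,1,0,4,3]) .nil)) .nil)) (.nd .nil (.nd (.nd .nil (.nd (.lf [2,1,0,3,2,1,7,3,2,1,0,4,3,5,1,2,6,5,1,0]) .nil)) .nil)))))) (.nd (.nd (.nd (.nd (.nd (.nd (.nd (.nd (.lf [2,3,2,4,5,1,0,2,1,5,6,5,7,3,2,1,4,3,7]) .nil) .nil) .nil) .nil) (.nd (.nd (.nd (.nd (.lf [1,1,0,2,3,2,4,5,1,6,7,3,2,1,4,3,5]) .nil) .nil) .nil) .nil)) (.nd (.nd .nil (.nd (.nd .nil (.nd .nil (.lf [2,3,2,5,1,0,2,1,7,3,2,1,0,4,3,2,5,1,6]))) .nil)) (.nd .nil (.nd (.nd .nil (.nd .nil (.lf [1,1,0,2,3,2,4,5,1,6,7,3,2,1,4,3,2]))) .nil)))) (.nd (.nd (.nd (.nd (.nd (.nd .nil (.lf [2,3,2,4,5,1,0,2,1,5,6,5,7,3,2,1,4,3])) .nil) .nil) .nil) (.nd (.nd (.nd (.nd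 .nil (.lf [1,3,2,7,6,5,1,0,2,3,4,7,3,2,1,6])) .nil) .nil) .nil)) (.nd (.nd .nil (.nd (.nd .nil (.nd (.lf [2,1,0,3,2,1,7,3,2,1,0,4,3,2,5,1,2,6,5,1]) .nil)) .nil)) (.nd .nil (.nd (.nd .nil (.nd (.lf [1,1,0,2,3,2,4,5,1,6,7,3,2,1,4,3,2,7]) .nil)) .nil))))) (.nd (.nd (.nd (.nd (.nd (.nd (.nd (.lf [2,3,2,4,5,1,0,2,1,5,6,5,7,3,2,1,0,4,3]) .nil) .nil) .nil) .nil) (.nd (.nd (.nd (.nd (.lf [1,1,3,2,4,7,3,4,6,7,3,2,1,0,5,1,6]) .nil) .nil) .nil) .nil)) (.nd (.nd .nil (.nd (.nd .nil (.nd .nil (.lf [2,1,0,3,2,1,4,7,3,2,1,0,4,3,2,5,1,2,6,7,6]))) .nil)) (.nd .nil (.nd (.nd .nil (.nd .nil (.lf [1,1,0,2,3,2,4,5,1,6,7,3,2,1,0,4,3,2,7]))) .nil)))) (.nd (.nd (.nd (.nd (.nd (.nd .nil (.lf [2,1,0,3,2,1,4,7,3,2,1,0,4,3,2,5,1,7,6,5]))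 .nil) .nil) .nil) (.nd (.nd (.nd (.nd .nil (.lf [1,1,0,2,3,2,4,5,1,6,7,3,2,1,0,4,3,5])) .nil) .nil) .nil)) (.nd (.nd .nil (.nd (.nd .nil (.nd (.lf [2,1,0,3,2,1,4,7,3,2,1,0,4,3,2,5,1,2,7,6]) .nil)) .nil)) (.nd .nil (.nd (.nd .nil (.nd (.lf [1,1,0,2,3,2,4,5,1,6,7,3,2,1,0,4,3,2]) .nil)) .nil)))))))

theorem kf5 : chkU cf5 5 = true := by decide +kernel

/-- Certificates of a coset. -/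
def cf6 : TF :=
  (.nd (.nd (.nd (.nd (.nd (.nd (.nd (.nd (.nd (.lf [1,1,0,3,2,1,0,4,7,3,4,6,5,1,7,3,6]) .nil) .nil) .nil) .nil) (.nd (.nd (.nd (.nd (.lf [2,1,0,3,2,1,0,4,7,3,2,1,0,4,3,2,5,1,2,6,5,1,0]) .nil) .nil) .nil) .nil)) (.nd (.nd .nil (.nd (.nd .nil (.nd .nil (.lf [1,1,0,3,2,4,5,1,0,6,7,3,2,1,0,4,3,6,5,7,3]))) .nil)) (.nd .nil (.nd (.nd .nil (.nd .nil (.lf [2,1,0,3,2,1,0,5,7,3,2,1,0,4,3,5,6,7,6]))) .nil)))) (.nd (.nd (.nd (.nd .nil (.nd (.nd (.lf [1,1,0,3,2,1,0,4,7,3,4,6,5,1,7,3,6,7]) .nil) .nil)) .nil) (.nd (.nd .nil (.nd (.nd (.lf [2,1,0,3,2,1,0,4,7,3,2,1,0,4,3,5,1,2,6,5,1,0,2,7]) .nil) .nil)) .nil)) (.nd (.nd .nil (.nd .nil (.nd .nil (.nd .nil (.lf [1,1,0,3,2,4,5,1,0,6,7,3,2,1,0,4,6,5,7,3])))))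 (.nd .nil (.nd .nil (.nd .nil (.nd .nil (.lf [2,1,0,3,2,1,0,5,7,3,2,1,0,4,3,5,7,6])))))))) (.nd (.nd (.nd (.nd (.nd (.nd (.nd (.lf [2,1,0,3,2,1,0,5,7,3,2,1,4,3,2,5,6,7,6]) .nil) .nil) .nil) .nil) (.nd (.nd (.nd (.nd (.lf [1,1,0,3,2,4,5,1,0,6,7,3,2,1,4,3,6,7,3]) .nil) .nil) .nil) .nil)) (.nd (.nd .nil (.nd (.nd .nil (.nd .nil (.lf [2,1,0,3,2,1,0,4,7,3,2,1,0,4,3,5,1,2,6,5,1]))) .nil)) (.nd .nil (.nd (.nd .nil (.nd .nil (.lf [1,1,0,3,2,1,0,4,7,3,4,6,5,1,0,7,3,2,6]))) .nil)))) (.nd (.nd (.nd (.nd .nil (.nd (.nd (.lf [2,1,0,3,2,1,0,5,7,3,2,1,4,3,2,5,7,6]) .nil) .nil)) .nil) (.nd (.nd .nil (.nd (.nd (.lf [1,1,0,3,2,4,5,1,0,6,7,3,2,1,4,6,7,3]) .nil) .nil)) .nil)) (.nd (.nd .nil (.nd .nil (.nd .nil (.nd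 .nil (.lf [2,1,0,3,2,1,0,4,7,3,2,1,0,4,3,5,1,2,6,5,1,7]))))) (.nd .nil (.nd .nil (.nd .nil (.nd .nil (.lf [1,1,0,3,2,1,0,4,7,3,4,6,5,1,0,7,3,2,6,7]))))))))) (.nd (.nd (.nd (.nd (.nd (.nd (.nd (.nd (.lf [2,1,0,3,2,1,0,5,7,3,2,1,4,3,5,7,6]) .nil) .nil) .nil) .nil) (.nd (.nd (.nd (.nd (.lf [1,1,0,3,2,4,5,1,0,6,7,3,2,1,4,6,5,7,3]) .nil) .nil) .nil) .nil)) (.nd (.nd .nil (.nd (.nd .nil (.nd .nil (.lf [2,1,0,3,2,1,0,4,7,3,2,1,0,4,3,2,5,1,2,6,5,1,7]))) .nil)) (.nd .nil (.nd (.nd .nil (.nd .nil (.lf [1,1,0,3,2,1,0,4,7,3,4,6,5,1,0,7,3,6,7]))) .nil)))) (.nd (.nd (.nd (.nd .nil (.nd (.nd (.lf [2,1,0,3,2,1,0,5,7,3,2,1,4,3,5,6,7,6]) .nil) .nil)) .nil) (.nd (.nd .nil (.nd (.nd (.lf [1,1,0,3,2,4,5,1,0,6,7,3,2,1,4,3,6,7,3,2])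 .nil) .nil)) .nil)) (.nd (.nd .nil (.nd .nil (.nd .nil (.nd .nil (.lf [2,1,0,3,2,1,0,4,7,3,2,1,0,4,3,2,5,1,2,6,5,1]))))) (.nd .nil (.nd .nil (.nd .nil (.nd .nil (.lf [1,1,0,3,2,1,0,4,7,3,4,6,5,1,0,7,3,6])))))))) (.nd (.nd (.nd (.nd (.nd (.nd (.nd (.lf [1,1,0,3,2,1,0,4,7,3,4,6,5,1,7,3,2,6,7]) .nil) .nil) .nil) .nil) (.nd (.nd (.nd (.nd (.lf [2,1,0,3,2,1,0,4,7,3,2,1,0,4,3,5,1,2,6,5,1,0,7]) .nil) .nil) .nil) .nil)) (.nd (.nd .nil (.nd (.nd .nil (.nd .nil (.lf [1,1,0,3,2,4,5,1,0,6,7,3,2,1,0,4,6,7,3]))) .nil)) (.nd .nil (.nd (.nd .nil (.nd .nil (.lf [2,3,4,5,1,0,2,1,5,7,3,2,1,4,3,5,6]))) .nil)))) (.nd (.nd (.nd (.nd .nil (.nd (.nd (.lf [1,1,0,3,2,1,0,4,7,3,4,6,5,1,7,3,2,6]) .nil) .nil)) .nil) (.nd (.nd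 .nil (.nd (.nd (.lf [2,1,0,3,2,1,0,4,7,3,2,1,0,4,3,5,1,2,6,5,1,0]) .nil) .nil)) .nil)) (.nd (.nd .nil (.nd .nil (.nd .nil (.nd .nil (.lf [1,1,0,3,2,4,5,1,0,6,7,3,2,1,0,4,3,6,7,3]))))) (.nd .nil (.nd .nil (.nd .nil (.nd .nil (.lf [2,3,4,5,1,0,2,1,5,7,3,2,1,4,3,5,6,7]))))))))))

theorem kf6 : chkU cf6 6 = true := by decide +kernel

/-- Certificates of a coset. -/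
def cf7 : TF :=
  (.nd (.nd (.nd (.nd (.nd (.nd (.nd (.nd (.nd (.lf [1,1,0,2,3,2,5,1,0,6,7,3,2,1,4,3,7]) .nil) .nil) .nil) .nil) (.nd (.nd (.nd (.nd (.lf [1,1,3,2,5,1,0,6,7,3,2,1,4,3,2]) .nil) .nil) .nil) .nil)) (.nd (.nd .nil (.nd (.nd .nil (.nd .nil (.lf [2,3,2,5,1,0,2,1,5,7,3,2,1,4,3,5,6]))) .nil)) (.nd .nil (.nd (.nd .nil (.nd .nil (.lf [2,1,0,3,2,1,4,5,7,3,2,1,0,4,3,5,6,7,6]))) .nil)))) (.nd (.nd (.nd .nil (.nd .nil (.nd (.nd .nil (.lf [2,1,0,3,2,1,5,7,3,2,1,0,4,3,5,6,5,1])) .nil))) (.nd .nil (.nd .nil (.nd (.nd .nil (.lf [2,3,5,1,0,2,1,5,6,5,7,3,2,1,4,3,2,7])) .nil)))) (.nd (.nd (.nd .nil (.nd .nil (.nd (.lf [1,3,7,6,5,1,0,2,3,4,7,3,6,7]) .nil))) .nil) (.nd (.nd .nil (.nd .nil (.nd (.lf [1,3,7,6,5,1,0,2,3,4,7,3,2,6])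 .nil))) .nil)))) (.nd (.nd (.nd (.nd (.nd (.nd (.nd (.lf [2,1,0,2,1,3,2,5,1,2,3,7,3,2,1,4,3,6,7]) .nil) .nil) .nil) .nil) (.nd (.nd (.nd (.nd (.lf [2,1,0,3,2,1,4,5,7,3,2,1,4,3,5,7,6]) .nil) .nil) .nil) .nil)) (.nd (.nd .nil (.nd (.nd .nil (.nd .nil (.lf [1,1,3,2,5,1,0,6,7,3,2,1,4,3,5]))) .nil)) (.nd .nil (.nd (.nd .nil (.nd .nil (.lf [1,1,3,2,5,1,0,6,7,3,2,1,4,3,2,5,7]))) .nil)))) (.nd (.nd (.nd .nil (.nd .nil (.nd (.nd .nil (.lf [1,3,7,6,5,1,2,3,4,7,3,6])) .nil))) (.nd .nil (.nd .nil (.nd (.nd .nil (.lf [1,3,7,6,5,1,2,3,4,7,3,2,6,7])) .nil)))) (.nd (.nd (.nd .nil (.nd .nil (.nd (.lf [2,3,5,1,0,2,1,5,6,5,7,3,2,1,0,4,3,7]) .nil))) .nil) (.nd (.nd .nil (.nd .nil (.nd (.lf [2,3,5,1,0,2,1,5,6,5,7,3,2,1,0,4,3,2])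 .nil))) .nil))))) (.nd (.nd (.nd (.nd (.nd (.nd (.nd (.nd (.lf [2,3,5,1,0,2,1,5,6,5,7,3,2,1,4,3,7]) .nil) .nil) .nil) .nil) (.nd (.nd (.nd (.nd (.lf [2,1,0,3,2,1,5,7,3,2,1,0,4,3,5,6,5,1,2]) .nil) .nil) .nil) .nil)) (.nd (.nd .nil (.nd (.nd .nil (.nd .nil (.lf [1,3,7,6,5,1,0,2,3,4,7,3,6]))) .nil)) (.nd .nil (.nd (.nd .nil (.nd .nil (.lf [1,3,7,6,5,1,0,2,3,4,7,3,2,6,7]))) .nil)))) (.nd (.nd (.nd .nil (.nd .nil (.nd (.nd .nil (.lf [1,1,3,2,5,1,0,6,7,3,2,1,4,3])) .nil))) (.nd .nil (.nd .nil (.nd (.nd .nil (.lf [1,1,0,2,3,2,5,1,0,6,7,3,2,1,4,3,2,7])) .nil)))) (.nd (.nd (.nd .nil (.nd .nil (.nd (.lf [2,3,2,5,1,0,2,1,5,7,3,2,1,4,3,5,6,7]) .nil))) .nil) (.nd (.nd .nil (.nd .nil (.nd (.lf [2,1,0,3,2,1,4,5,7,3,2,1,0,4,3,5,7,6])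 .nil))) .nil)))) (.nd (.nd (.nd (.nd (.nd (.nd (.nd (.lf [1,3,7,6,5,1,2,3,4,7,3,6,7]) .nil) .nil) .nil) .nil) (.nd (.nd (.nd (.nd (.lf [1,3,7,6,5,1,2,3,4,7,3,2,6]) .nil) .nil) .nil) .nil)) (.nd (.nd .nil (.nd (.nd .nil (.nd .nil (.lf [2,3,5,1,0,2,1,5,6,5,7,3,2,1,0,4,3]))) .nil)) (.nd .nil (.nd (.nd .nil (.nd .nil (.lf [2,3,5,1,0,2,1,5,6,5,7,3,2,1,0,4,3,2,7]))) .nil)))) (.nd (.nd (.nd .nil (.nd .nil (.nd (.nd .nil (.lf [2,1,0,2,1,3,2,5,1,2,3,7,3,2,1,4,3,6])) .nil))) (.nd .nil (.nd .nil (.nd (.nd .nil (.lf [2,1,0,3,2,1,4,5,7,3,2,1,4,3,5,6,7,6])) .nil)))) (.nd (.nd (.nd .nil (.nd .nil (.nd (.lf [1,1,3,2,5,1,0,6,7,3,2,1,4,3,5,7]) .nil))) .nil) (.nd (.nd .nil (.nd .nil (.nd (.lf [1,1,3,2,5,1,0,6,7,3,2,1,4,3,2,5])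 .nil))) .nil))))))

theorem kf7 : chkU cf7 7 = true := by decide +kernel

/-- Certificates of a coset. -/
def cf8 : TF :=
  (.nd (.nd (.nd (.nd (.nd (.nd (.nd (.nd (.nd (.lf [1,1,0,3,2,1,0,4,3,7,3,4,6,7,3,2,1]) .nil) .nil) .nil) .nil) (.nd (.nd (.nd (.nd (.lf [1,1,0,3,2,1,0,4,3,7,3,4,6,7,3,2,1,0,5]) .nil) .nil) .nil) .nil)) (.nd (.nd .nil (.nd (.nd .nil (.nd .nil (.lf [2,3,5,1,0,2,1,7,3,2,1,4,3,2,5,6,5,1,7,6,5]))) .nil)) (.nd .nil (.nd (.nd .nil (.nd .nil (.lf [2,1,0,3,2,1,7,3,2,1,0,4,3,6,7,6,5,1,0,2,1]))) .nil)))) (.nd (.nd (.nd .nil (.nd (.nd .nil (.nd .nil (.lf [2,3,5,1,0,2,1,7,3,2,1,4,3,2,6,5,1,7,6,5]))) .nil)) (.nd .nil (.nd (.nd .nil (.nd .nil (.lf [2,1,0,3,2,1,7,3,2,1,4,3,6,7,6,5,1,0,2,1])))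 .nil))) (.nd (.nd (.nd (.nd (.nd (.lf [1,1,3,2,1,0,4,3,7,3,4,6,7,3,2,1]) .nil) .nil) .nil) .nil) (.nd (.nd (.nd (.nd (.lf [1,1,3,2,1,0,4,3,7,3,4,6,7,3,2,1,0,5]) .nil) .nil) .nil) .nil)))) (.nd (.nd (.nd (.nd (.nd (.nd (.nd (.lf [2,1,0,3,2,1,0,4,7,3,2,1,4,3,7,6,5]) .nil) .nil) .nil) .nil) (.nd (.nd (.nd (.nd (.lf [2,1,0,3,2,1,0,4,7,3,2,1,0,4,3,7,6]) .nil) .nil) .nil) .nil)) (.nd (.nd .nil (.nd (.nd .nil (.nd .nil (.lf [1,1,0,3,2,4,3,7,3,4,6,5,1,0,7,3,2,1,0]))) .nil)) (.nd .nil (.nd (.nd .nil (.nd .nil (.lf [1,1,2,3,2,4,3,7,3,4,6,5,1,0,7,3,2,1,5]))) .nil)))) (.nd (.nd (.nd .nil (.nd (.nd .nil (.nd .nil (.lf [1,1,0,2,3,2,4,3,7,3,4,6,5,1,0,7,3,2,1,0]))) .nil)) (.nd .nil (.nd (.nd .nil (.nd .nil (.lf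 [1,1,0,2,3,2,4,3,7,3,4,6,5,1,0,7,3,2,1,5]))) .nil))) (.nd (.nd (.nd (.nd (.nd (.lf [2,1,0,3,2,1,0,4,7,3,2,1,4,3,2,7,6,5]) .nil) .nil) .nil) .nil) (.nd (.nd (.nd (.nd (.lf [2,1,0,3,2,1,0,4,7,3,2,1,0,4,3,2,7,6]) .nil) .nil) .nil) .nil))))) (.nd (.nd (.nd (.nd (.nd (.nd (.nd (.nd (.lf [2,1,0,3,2,1,0,4,7,3,2,1,4,3,2,7,6]) .nil) .nil) .nil) .nil) (.nd (.nd (.nd (.nd (.lf [2,1,0,3,2,1,0,4,7,3,2,1,0,4,3,2,7,6,5]) .nil) .nil) .nil) .nil)) (.nd (.nd .nil (.nd (.nd .nil (.nd .nil (.lf [1,1,0,2,3,2,4,3,7,3,4,6,5,1,0,7,3,2,1,0,5]))) .nil)) (.nd .nil (.nd (.nd .nil (.nd .nil (.lf [1,1,0,2,3,2,4,3,7,3,4,6,5,1,0,7,3,2,1]))) .nil)))) (.nd (.nd (.nd .nil (.nd (.nd .nil (.nd .nil (.lf [1,1,0,3,2,4,3,7,3,4,6,5,1,0,7,3,2,1,0,5])))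 .nil)) (.nd .nil (.nd (.nd .nil (.nd .nil (.lf [1,1,2,3,2,4,3,7,3,4,6,5,1,0,7,3,2,1]))) .nil))) (.nd (.nd (.nd (.nd (.nd (.lf [2,1,0,3,2,1,0,4,7,3,2,1,4,3,7,6]) .nil) .nil) .nil) .nil) (.nd (.nd (.nd (.nd (.lf [2,1,0,3,2,1,0,4,7,3,2,1,0,4,3,7,6,5]) .nil) .nil) .nil) .nil)))) (.nd (.nd (.nd (.nd (.nd (.nd (.nd (.lf [1,1,3,2,1,0,4,3,7,3,4,6,7,3,2,1,5]) .nil) .nil) .nil) .nil) (.nd (.nd (.nd (.nd (.lf [1,1,3,2,1,0,4,3,7,3,4,6,7,3,2,1,0]) .nil) .nil) .nil) .nil)) (.nd (.nd .nil (.nd (.nd .nil (.nd .nil (.lf [2,3,5,1,0,2,1,7,3,2,1,4,3,2,6,5,1,7,6]))) .nil)) (.nd .nil (.nd (.nd .nil (.nd .nil (.lf [2,1,0,3,2,1,7,3,2,1,4,3,6,7,6,5,1,0,2,1,5]))) .nil)))) (.nd (.nd (.nd .nil (.nd (.nd .nil (.nd .nil (.lf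 [2,3,5,1,0,2,1,7,3,2,1,4,3,2,5,6,5,1,7,6]))) .nil)) (.nd .nil (.nd (.nd .nil (.nd .nil (.lf [2,1,0,3,2,1,7,3,2,1,0,4,3,6,7,6,5,1,0,2,1,5]))) .nil))) (.nd (.nd (.nd (.nd (.nd (.lf [1,1,0,3,2,1,0,4,3,7,3,4,6,7,3,2,1,5]) .nil) .nil) .nil) .nil) (.nd (.nd (.nd (.nd (.lf [1,1,0,3,2,1,0,4,3,7,3,4,6,7,3,2,1,0]) .nil) .nil) .nil) .nil))))))

theorem kf8 : chkU cf8 8 = true := by decide +kernel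

/-- Certificates of a coset. -/
def cf9 : TF :=
  (.nd (.nd (.nd (.nd (.nd (.nd (.nd (.nd (.nd (.lf [1,1,0,3,2,4,3,7,3,4,6,7,3]) .nil) .nil) .nil) .nil) (.nd (.nd (.nd (.nd (.lf [2,1,0,3,2,1,0,4,7,3,2,1,0,4,3,2,5,7,6,5,1]) .nil) .nil) .nil) .nil)) (.nd (.nd .nil (.nd (.nd .nil (.nd .nil (.lf [1,1,0,2,3,2,4,3,7,3,2,4,3,6,5,1,0,2,1,3,2,7,3]))) .nil)) (.nd .nil (.nd (.nd .nil (.nd .nil (.lf [2,1,0,3,2,1,7,3,2,1,0,4,3,2,7,6,5]))) .nil)))) (.nd (.nd (.nd (.nd (.nd .nil (.nd (.lf [1,1,3,2,4,3,7,3,4,6,7,3]) .nil)) .nil) .nil) (.nd (.nd (.nd .nil (.nd (.lf [2,1,0,3,2,1,0,4,7,3,2,1,0,4,3,2,5,7,6,5,1,0]) .nil)) .nil) .nil)) (.nd (.nd .nil (.nd (.nd (.nd .nil (.lf [1,1,0,3,2,4,3,7,3,2,4,3,6,5,1,0,2,1,3,2,7,3]))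 .nil) .nil)) (.nd .nil (.nd (.nd (.nd .nil (.lf [2,1,0,3,2,1,7,3,2,1,4,3,2,7,6,5])) .nil) .nil))))) (.nd (.nd (.nd (.nd (.nd (.nd (.nd (.lf [1,1,0,3,2,1,0,4,3,2,1,7,6,5,1,0,2,1,3,4,7,3,2]) .nil) .nil) .nil) .nil) (.nd (.nd (.nd (.nd (.lf [2,1,0,3,2,1,7,3,2,1,4,3,2,7,6]) .nil) .nil) .nil) .nil)) (.nd (.nd .nil (.nd (.nd .nil (.nd .nil (.lf [1,1,3,2,4,3,7,3,4,6,5,7,3]))) .nil)) (.nd .nil (.nd (.nd .nil (.nd .nil (.lf [2,1,0,3,2,1,0,4,7,3,2,1,0,4,3,2,5,1,7,6,5,1,0]))) .nil)))) (.nd (.nd (.nd (.nd (.nd .nil (.nd (.lf [1,1,0,3,2,1,0,4,3,7,3,4,6,7,3,2,1,0,5,1,2,6]) .nil)) .nil) .nil) (.nd (.nd (.nd .nil (.nd (.lf [2,1,0,3,2,1,7,3,2,1,0,4,3,2,7,6]) .nil)) .nil) .nil)) (.nd (.nd .nil (.nd (.nd (.nd .nil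 (.lf [1,1,0,3,2,4,3,7,3,4,6,5,7,3])) .nil) .nil)) (.nd .nil (.nd (.nd (.nd .nil (.lf [2,1,0,3,2,1,0,4,7,3,2,1,0,4,3,2,5,1,7,6,5,1])) .nil) .nil)))))) (.nd (.nd (.nd (.nd (.nd (.nd (.nd (.nd (.lf [2,1,0,3,2,1,7,3,2,1,0,4,3,7,6]) .nil) .nil) .nil) .nil) (.nd (.nd (.nd (.nd (.lf [1,1,0,3,2,1,0,4,3,7,3,4,6,7,3,2,1,0,5,1,6]) .nil) .nil) .nil) .nil)) (.nd (.nd .nil (.nd (.nd .nil (.nd .nil (.lf [2,1,0,3,2,1,0,4,7,3,2,1,0,4,3,2,5,1,7,6,5,1,2]))) .nil)) (.nd .nil (.nd (.nd .nil (.nd .nil (.lf [1,1,0,3,2,4,3,7,3,4,6,5,7,3,2]))) .nil)))) (.nd (.nd (.nd (.nd (.nd .nil (.nd (.lf [2,1,0,3,2,1,7,3,2,1,4,3,7,6]) .nil)) .nil) .nil) (.nd (.nd (.nd .nil (.nd (.lf [1,1,0,3,2,1,0,4,3,2,1,7,6,5,1,0,2,1,3,4,7,3]) .nil))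 .nil) .nil)) (.nd (.nd .nil (.nd (.nd (.nd .nil (.lf [2,1,0,3,2,1,0,4,7,3,2,1,0,4,3,2,5,1,7,6,5,1,0,2])) .nil) .nil)) (.nd .nil (.nd (.nd (.nd .nil (.lf [1,1,3,2,4,3,7,3,4,6,5,7,3,2])) .nil) .nil))))) (.nd (.nd (.nd (.nd (.nd (.nd (.nd (.lf [2,1,0,3,2,1,0,4,7,3,2,1,0,4,3,2,5,7,6,5,1,0,2]) .nil) .nil) .nil) .nil) (.nd (.nd (.nd (.nd (.lf [1,1,3,2,4,3,7,3,4,6,7,3,2]) .nil) .nil) .nil) .nil)) (.nd (.nd .nil (.nd (.nd .nil (.nd .nil (.lf [2,1,0,3,2,1,7,3,2,1,4,3,7,6,5]))) .nil)) (.nd .nil (.nd (.nd .nil (.nd .nil (.lf [1,1,0,3,2,1,0,4,3,2,1,7,6,5,1,0,2,1,3,4,5,7,3]))) .nil)))) (.nd (.nd (.nd (.nd (.nd .nil (.nd (.lf [2,1,0,3,2,1,0,4,7,3,2,1,0,4,3,2,5,7,6,5,1,2]) .nil)) .nil) .nil) (.nd (.nd (.nd .nil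 (.nd (.lf [1,1,0,3,2,4,3,7,3,4,6,7,3,2]) .nil)) .nil) .nil)) (.nd (.nd .nil (.nd (.nd (.nd .nil (.lf [2,1,0,3,2,1,7,3,2,1,0,4,3,7,6,5])) .nil) .nil)) (.nd .nil (.nd (.nd (.nd .nil (.lf [1,1,0,3,2,1,0,4,3,7,3,4,6,7,3,2,1,0,5,1,6,5])) .nil) .nil)))))))

theorem kf9 : chkU cf9 9 = true := by decide +kernel

/-- Certificates of a coset. -/
def cf10 : TF :=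
  (.nd (.nd (.nd (.nd (.nd (.nd (.nd (.nd (.nd (.lf [1,1,0,2,3,2,1,5,1,0,6,7,3,2,1,4,3,6,7]) .nil) .nil) .nil) .nil) (.nd (.nd (.nd (.nd (.lf [2,3,5,1,0,2,1,7,3,2,1,4,3,2,6,5,7]) .nil) .nil) .nil) .nil)) (.nd (.nd .nil (.nd (.nd .nil (.nd .nil (.lf [2,3,5,1,0,2,1,7,3,2,1,4,3,2,6]))) .nil)) (.nd .nil (.nd (.nd .nil (.nd .nil (.lf [1,1,0,2,3,2,5,6,7,3,2,1,0,4,6,7,3]))) .nil)))) (.nd (.nd (.nd (.nd .nil (.nd .nil (.nd .nil (.lf [2,3,5,1,0,2,1,7,3,2,1,0,4,3,2,6])))) .nil) (.nd (.nd .nil (.nd .nil (.nd .nil (.lf [1,1,0,2,3,2,5,6,7,3,2,1,4,6,7,3])))) .nil)) (.nd (.nd .nil (.nd .nil (.nd (.nd (.lf [1,1,0,2,3,2,5,6,7,3,2,1,4,3,6,5,7,3]) .nil) .nil))) (.nd .nil (.nd .nil (.nd (.nd (.lf [2,3,5,1,0,2,1,7,3,2,1,0,4,3,2,6,5,7])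 .nil) .nil)))))) (.nd (.nd (.nd (.nd (.nd (.nd (.nd (.lf [2,3,5,1,0,2,1,7,3,2,1,0,4,3,6,5,7]) .nil) .nil) .nil) .nil) (.nd (.nd (.nd (.nd (.lf [1,1,0,2,3,2,5,6,7,3,2,1,4,3,6,5,7,3,2]) .nil) .nil) .nil) .nil)) (.nd (.nd .nil (.nd (.nd .nil (.nd .nil (.lf [1,1,0,2,3,2,5,6,7,3,2,1,4,6,7,3,2]))) .nil)) (.nd .nil (.nd (.nd .nil (.nd .nil (.lf [2,3,5,1,0,2,1,7,3,2,1,0,4,3,6]))) .nil)))) (.nd (.nd (.nd (.nd .nil (.nd .nil (.nd .nil (.lf [1,1,0,2,3,2,5,6,7,3,2,1,0,4,6,7,3,2])))) .nil) (.nd (.nd .nil (.nd .nil (.nd .nil (.lf [2,3,5,1,0,2,1,7,3,2,1,4,3,6])))) .nil)) (.nd (.nd .nil (.nd .nil (.nd (.nd (.lf [2,3,5,1,0,2,1,7,3,2,1,4,3,6,5,7]) .nil) .nil))) (.nd .nil (.nd .nil (.nd (.nd (.lf [1,1,0,2,3,2,1,5,1,0,6,7,3,2,1,4,3,2,6,7])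 .nil) .nil))))))) (.nd (.nd (.nd (.nd (.nd (.nd (.nd (.nd (.lf [2,3,5,1,0,2,1,7,3,2,1,4,3,6,7]) .nil) .nil) .nil) .nil) (.nd (.nd (.nd (.nd (.lf [1,1,0,2,3,2,5,6,7,3,2,1,0,4,3,6,7,3,2]) .nil) .nil) .nil) .nil)) (.nd (.nd .nil (.nd (.nd .nil (.nd .nil (.lf [1,1,0,2,3,2,1,5,1,0,6,7,3,2,1,4,3,2,6]))) .nil)) (.nd .nil (.nd (.nd .nil (.nd .nil (.lf [2,3,5,1,0,2,1,7,3,2,1,4,3,6,5]))) .nil)))) (.nd (.nd (.nd (.nd .nil (.nd .nil (.nd .nil (.lf [1,1,0,2,3,2,5,6,7,3,2,1,4,6,5,7,3,2])))) .nil) (.nd (.nd .nil (.nd .nil (.nd .nil (.lf [2,3,5,1,0,2,1,7,3,2,1,0,4,3,6,5])))) .nil)) (.nd (.nd .nil (.nd .nil (.nd (.nd (.lf [2,3,5,1,0,2,1,7,3,2,1,0,4,3,6,7]) .nil) .nil))) (.nd .nil (.nd .nil (.nd (.nd (.lf [1,1,0,2,3,2,5,6,7,3,2,1,4,3,6,7,3,2])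 .nil) .nil)))))) (.nd (.nd (.nd (.nd (.nd (.nd (.nd (.lf [1,1,0,2,3,2,5,6,7,3,2,1,4,3,6,7,3]) .nil) .nil) .nil) .nil) (.nd (.nd (.nd (.nd (.lf [2,3,5,1,0,2,1,7,3,2,1,0,4,3,2,6,7]) .nil) .nil) .nil) .nil)) (.nd (.nd .nil (.nd (.nd .nil (.nd .nil (.lf [2,3,5,1,0,2,1,7,3,2,1,0,4,3,2,6,5]))) .nil)) (.nd .nil (.nd (.nd .nil (.nd .nil (.lf [1,1,0,2,3,2,5,6,7,3,2,1,4,6,5,7,3]))) .nil)))) (.nd (.nd (.nd (.nd .nil (.nd .nil (.nd .nil (.lf [2,3,5,1,0,2,1,7,3,2,1,4,3,2,6,5])))) .nil) (.nd (.nd .nil (.nd .nil (.nd .nil (.lf [1,1,0,2,3,2,1,5,1,0,6,7,3,2,1,4,3,6])))) .nil)) (.nd (.nd .nil (.nd .nil (.nd (.nd (.lf [1,1,0,2,3,2,5,6,7,3,2,1,0,4,3,6,7,3]) .nil) .nil))) (.nd .nil (.nd .nil (.nd (.nd (.lf [2,3,5,1,0,2,1,7,3,2,1,4,3,2,6,7])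 .nil) .nil))))))))

theorem kf10 : chkU cf10 10 = true := by decide +kernel

/-- Certificates of a coset. -/
def cf11 : TF :=
  (.nd (.nd (.nd (.nd (.nd (.nd (.nd (.nd (.nd (.lf [1,1,0,3,2,5,6,7,3,2,4,6,7,3,2,1,5]) .nil) .nil) .nil) .nil) (.nd (.nd (.nd (.nd (.lf [2,3,2,4,5,1,0,2,1,7,3,2,1,4,3,6,5]) .nil) .nil) .nil) .nil)) (.nd (.nd .nil (.nd (.nd .nil (.nd .nil (.lf [1,1,0,2,3,2,1,4,5,1,6,7,3,2,1,0,4,3,6]))) .nil)) (.nd .nil (.nd (.nd .nil (.nd .nil (.lf [2,1,0,7,3,2,1,0,4,5,6,5,7,3,2,1,0,4,3]))) .nil)))) (.nd (.nd (.nd .nil (.nd .nil (.nd .nil (.nd (.lf [1,1,0,3,2,5,6,7,3,2,1,4,6,7,3,2,1,5]) .nil)))) (.nd .nil (.nd .nil (.nd .nil (.nd (.lf [2,3,2,4,5,1,0,2,1,7,3,2,1,4,3,2,6,5]) .nil))))) (.nd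 (.nd (.nd .nil (.nd (.nd .nil (.lf [1,3,7,6,5,1,0,2,1,3,4,5,7,3,2,1,0,6])) .nil)) .nil) (.nd (.nd .nil (.nd (.nd .nil (.lf [2,1,0,7,3,2,1,0,4,5,6,5,7,3,2,1,0,4,3,2])) .nil)) .nil)))) (.nd (.nd (.nd (.nd (.nd (.nd (.nd (.lf [2,3,2,4,5,1,0,2,1,7,3,2,1,0,4,3,2,6,5]) .nil) .nil) .nil) .nil) (.nd (.nd (.nd (.nd (.lf [1,1,0,3,2,5,6,7,3,2,1,4,6,7,3,2,1,0,5]) .nil) .nil) .nil) .nil)) (.nd (.nd .nil (.nd (.nd .nil (.nd .nil (.lf [2,1,0,7,3,2,1,0,4,5,6,5,7,3,2,1,4,3,2]))) .nil)) (.nd .nil (.nd (.nd .nil (.nd .nil (.lf [1,3,7,6,5,1,0,2,1,3,4,5,7,3,2,1,6]))) .nil)))) (.nd (.nd (.nd .nil (.nd .nil (.nd .nil (.nd (.lf [2,3,2,4,5,1,0,2,1,7,3,2,1,0,4,3,6,5]) .nil)))) (.nd .nil (.nd .nil (.nd .nil (.nd (.lf [1,1,0,3,2,5,6,7,3,2,4,6,7,3,2,1,0,5])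 .nil))))) (.nd (.nd (.nd .nil (.nd (.nd .nil (.lf [2,1,0,7,3,2,1,0,4,5,6,5,7,3,2,1,4,3])) .nil)) .nil) (.nd (.nd .nil (.nd (.nd .nil (.lf [1,1,0,2,3,2,1,4,5,1,6,7,3,2,1,4,3,6])) .nil)) .nil))))) (.nd (.nd (.nd (.nd (.nd (.nd (.nd (.nd (.lf [2,3,2,4,5,1,0,2,1,7,3,2,1,4,3,6,7]) .nil) .nil) .nil) .nil) (.nd (.nd (.nd (.nd (.lf [1,1,0,2,3,2,4,3,7,3,4,6,5,1,7,3,6]) .nil) .nil) .nil) .nil)) (.nd (.nd .nil (.nd (.nd .nil (.nd .nil (.lf [2,3,2,4,5,1,0,2,1,7,3,2,1,0,4,3,6]))) .nil)) (.nd .nil (.nd (.nd .nil (.nd .nil (.lf [1,1,0,3,2,5,6,7,3,2,4,6,7,3,2,1,0]))) .nil)))) (.nd (.nd (.nd .nil (.nd .nil (.nd .nil (.nd (.lf [2,3,2,4,5,1,0,2,1,7,3,2,1,4,3,2,6,7]) .nil)))) (.nd .nil (.nd .nil (.nd .nil (.nd (.lf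 [1,1,0,2,3,2,4,3,7,3,4,6,5,1,7,3,2,6]) .nil))))) (.nd (.nd (.nd .nil (.nd (.nd .nil (.lf [2,3,2,4,5,1,0,2,1,7,3,2,1,0,4,3,2,6])) .nil)) .nil) (.nd (.nd .nil (.nd (.nd .nil (.lf [1,1,0,3,2,5,6,7,3,2,1,4,6,7,3,2,1,0])) .nil)) .nil)))) (.nd (.nd (.nd (.nd (.nd (.nd (.nd (.lf [1,1,0,2,3,2,4,3,7,3,4,6,5,1,0,7,3,2,6]) .nil) .nil) .nil) .nil) (.nd (.nd (.nd (.nd (.lf [2,3,2,4,5,1,0,2,1,7,3,2,1,0,4,3,2,6,7]) .nil) .nil) .nil) .nil)) (.nd (.nd .nil (.nd (.nd .nil (.nd .nil (.lf [1,1,0,3,2,5,6,7,3,2,1,4,6,7,3,2,1]))) .nil)) (.nd .nil (.nd (.nd .nil (.nd .nil (.lf [2,3,2,4,5,1,0,2,1,7,3,2,1,4,3,2,6]))) .nil)))) (.nd (.nd (.nd .nil (.nd .nil (.nd .nil (.nd (.lf [1,1,0,2,3,2,4,3,7,3,4,6,5,1,0,7,3,6]) .nil))))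 (.nd .nil (.nd .nil (.nd .nil (.nd (.lf [2,3,2,4,5,1,0,2,1,7,3,2,1,0,4,3,6,7]) .nil))))) (.nd (.nd (.nd .nil (.nd (.nd .nil (.lf [1,1,0,3,2,5,6,7,3,2,4,6,7,3,2,1])) .nil)) .nil) (.nd (.nd .nil (.nd (.nd .nil (.lf [2,3,2,4,5,1,0,2,1,7,3,2,1,4,3,6])) .nil)) .nil))))))

theorem kf11 : chkU cf11 11 = true := by decide +kernel

/-- Certificates of a coset. -/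
def cf12 : TF :=
  (.nd (.nd (.nd (.nd (.nd (.nd (.nd (.nd (.nd (.lf [1,3,4,7,6,5,1,0,2,3,4,7,3,2,1,6,7]) .nil) (.nd .nil (.lf [1,1,3,2,1,7,3,4,6,7,3,2,1,0,5,1,6,7]))) .nil) .nil) (.nd (.nd (.nd (.nd (.lf [2,1,0,3,2,1,4,5,7,3,2,1,0,4,3,5,1,2,6,5,7]) .nil) (.nd .nil (.lf [2,1,0,3,2,1,4,7,3,2,1,0,4,3,5,1,2,6,5,7]))) .nil) .nil)) (.nd (.nd .nil (.nd (.nd (.nd (.lf [1,3,4,7,6,5,1,0,2,1,3,4,7,3,2,1,6,7]) .nil) (.nd .nil (.lf [1,1,3,2,1,7,3,4,6,7,3,2,1,0,5,1,2,6,7]))) .nil)) (.nd .nil (.nd (.nd (.nd (.lf [2,1,0,3,2,1,4,5,7,3,2,1,0,4,3,5,1,6,5,7]) .nil) (.nd .nil (.lf [2,1,0,3,2,1,4,7,3,2,1,0,4,3,5,1,6,5,7]))) .nil)))) .nil) (.nd (.nd (.nd (.nd (.nd (.nd (.nd (.lf [1,1,3,2,1,7,3,4,6,7,3,2,1,0,5,1,6]) .nil)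 (.nd .nil (.lf [1,3,4,7,6,5,1,0,2,3,4,7,3,2,1,6]))) .nil) .nil) (.nd (.nd (.nd (.nd (.lf [2,1,0,3,2,1,4,7,3,2,1,0,4,3,5,1,2,6,5]) .nil) (.nd .nil (.lf [2,1,0,3,2,1,4,5,7,3,2,1,0,4,3,5,1,2,6,5]))) .nil) .nil)) (.nd (.nd .nil (.nd (.nd (.nd (.lf [1,1,3,2,1,7,3,4,6,7,3,2,1,0,5,1,2,6]) .nil) (.nd .nil (.lf [1,3,4,7,6,5,1,0,2,1,3,4,7,3,2,1,6]))) .nil)) (.nd .nil (.nd (.nd (.nd (.lf [2,1,0,3,2,1,4,7,3,2,1,0,4,3,5,1,6,5]) .nil) (.nd .nil (.lf [2,1,0,3,2,1,4,5,7,3,2,1,0,4,3,5,1,6,5]))) .nil)))) .nil)) (.nd (.nd (.nd (.nd (.nd (.nd (.nd (.nd (.lf [2,1,0,3,2,1,4,5,7,3,2,1,0,4,3,5,1,6,7]) .nil) (.nd .nil (.lf [2,1,0,3,2,1,4,7,3,2,1,0,4,3,5,1,6,7]))) .nil) .nil) (.nd (.nd (.nd (.nd (.lf [1,1,0,3,2,4,3,5,1,6,7,3,2,1,4,3,6,7,3])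 .nil) (.nd .nil (.lf [1,1,0,3,2,4,3,5,1,6,7,3,2,1,0,4,3,6,7,3]))) .nil) .nil)) (.nd (.nd .nil (.nd (.nd (.nd (.lf [2,1,0,3,2,1,4,5,7,3,2,1,0,4,3,5,1,2,6,7]) .nil) (.nd .nil (.lf [2,1,0,3,2,1,4,7,3,2,1,0,4,3,5,1,2,6,7]))) .nil)) (.nd .nil (.nd (.nd (.nd (.lf [1,3,4,7,6,5,1,0,2,3,4,7,3,2,1,6,5,7]) .nil) (.nd .nil (.lf [1,1,3,2,1,7,3,4,6,7,3,2,1,0,5,1,6,5,7]))) .nil)))) .nil) (.nd (.nd (.nd (.nd (.nd (.nd (.nd (.lf [2,1,0,3,2,1,4,7,3,2,1,0,4,3,5,1,6]) .nil) (.nd .nil (.lf [2,1,0,3,2,1,4,5,7,3,2,1,0,4,3,5,1,6]))) .nil) .nil) (.nd (.nd (.nd (.nd (.lf [1,1,0,3,2,4,3,5,1,6,7,3,2,1,0,4,6,7,3]) .nil) (.nd .nil (.lf [1,1,0,3,2,4,3,5,1,6,7,3,2,1,4,6,7,3]))) .nil) .nil)) (.nd (.nd .nil (.nd (.nd (.nd (.lf [2,1,0,3,2,1,4,7,3,2,1,0,4,3,5,1,2,6])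 .nil) (.nd .nil (.lf [2,1,0,3,2,1,4,5,7,3,2,1,0,4,3,5,1,2,6]))) .nil)) (.nd .nil (.nd (.nd (.nd (.lf [1,1,3,2,1,7,3,4,6,7,3,2,1,0,5,1,6,5]) .nil) (.nd .nil (.lf [1,3,4,7,6,5,1,0,2,3,4,7,3,2,1,6,5]))) .nil)))) .nil)))

theorem kf12 : chkU cf12 12 = true := by decide +kernel

/-- Certificates of a coset. -/
def cf13 : TF :=
  (.nd (.nd (.nd (.nd (.nd (.nd (.nd (.nd (.nd (.lf [1,1,0,3,2,1,7,3,4,6,5,1,0,7,3,6,7]) .nil) .nil) .nil) (.nd (.nd .nil (.nd (.lf [1,1,0,3,2,1,7,3,4,6,5,1,7,3,6,7]) .nil)) .nil)) (.nd (.nd (.nd (.nd (.lf [2,1,0,3,2,1,0,7,3,2,1,0,4,3,5,1,6]) .nil) .nil) .nil) (.nd (.nd .nil (.nd (.lf [2,1,0,3,2,1,0,5,7,3,2,1,0,4,3,5,1,6]) .nil)) .nil))) (.nd (.nd (.nd (.nd (.nd .nil (.lf [1,1,0,3,2,1,7,3,4,6,5,1,0,7,3,2,6,7]))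 .nil) .nil) (.nd (.nd .nil (.nd .nil (.lf [1,1,0,3,2,1,7,3,4,6,5,1,7,3,2,6,7]))) .nil)) (.nd (.nd (.nd (.nd .nil (.lf [2,1,0,3,2,1,0,7,3,2,1,0,4,3,5,1,2,6])) .nil) .nil) (.nd (.nd .nil (.nd .nil (.lf [2,1,0,3,2,1,0,5,7,3,2,1,0,4,3,5,1,2,6]))) .nil)))) .nil) (.nd (.nd (.nd (.nd (.nd (.nd (.nd (.lf [2,1,0,3,2,1,0,7,3,2,1,0,4,3,5,1,6,5,7]) .nil) .nil) .nil) (.nd (.nd .nil (.nd (.lf [2,1,0,3,2,1,0,5,7,3,2,1,0,4,3,5,1,6,5,7]) .nil)) .nil)) (.nd (.nd (.nd (.nd (.lf [1,1,0,2,3,2,5,1,6,7,3,2,1,0,4,3,6]) .nil) .nil) .nil) (.nd (.nd .nil (.nd (.lf [1,1,0,2,3,2,5,1,6,7,3,2,1,4,3,6]) .nil)) .nil))) (.nd (.nd (.nd (.nd (.nd .nil (.lf [2,1,0,3,2,1,0,7,3,2,1,0,4,3,5,1,2,6,5,7])) .nil) .nil) (.nd (.nd .nil (.nd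 .nil (.lf [2,1,0,3,2,1,0,5,7,3,2,1,0,4,3,5,1,2,6,5,7]))) .nil)) (.nd (.nd (.nd (.nd .nil (.lf [1,1,0,2,3,2,5,1,6,7,3,2,1,0,4,3,2,6])) .nil) .nil) (.nd (.nd .nil (.nd .nil (.lf [1,1,0,2,3,2,5,1,6,7,3,2,1,4,3,2,6]))) .nil)))) .nil)) (.nd (.nd (.nd (.nd (.nd (.nd (.nd (.nd (.lf [2,1,0,3,2,1,0,5,7,3,2,1,0,4,3,5,1,6,7]) .nil) .nil) .nil) (.nd (.nd .nil (.nd (.lf [2,1,0,3,2,1,0,7,3,2,1,0,4,3,5,1,6,7]) .nil)) .nil)) (.nd (.nd (.nd (.nd (.lf [1,1,0,3,2,1,7,3,4,6,5,1,7,3,6]) .nil) .nil) .nil) (.nd (.nd .nil (.nd (.lf [1,1,0,3,2,1,7,3,4,6,5,1,0,7,3,6]) .nil)) .nil))) (.nd (.nd (.nd (.nd (.nd .nil (.lf [2,1,0,3,2,1,0,5,7,3,2,1,0,4,3,5,1,2,6,7])) .nil) .nil) (.nd (.nd .nil (.nd .nil (.lf [2,1,0,3,2,1,0,7,3,2,1,0,4,3,5,1,2,6,7])))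 .nil)) (.nd (.nd (.nd (.nd .nil (.lf [1,1,0,3,2,1,7,3,4,6,5,1,7,3,2,6])) .nil) .nil) (.nd (.nd .nil (.nd .nil (.lf [1,1,0,3,2,1,7,3,4,6,5,1,0,7,3,2,6]))) .nil)))) .nil) (.nd (.nd (.nd (.nd (.nd (.nd (.nd (.lf [1,1,0,2,3,2,5,1,6,7,3,2,1,4,3,6,7]) .nil) .nil) .nil) (.nd (.nd .nil (.nd (.lf [1,1,0,2,3,2,5,1,6,7,3,2,1,0,4,3,6,7]) .nil)) .nil)) (.nd (.nd (.nd (.nd (.lf [2,1,0,3,2,1,0,5,7,3,2,1,0,4,3,5,1,6,5]) .nil) .nil) .nil) (.nd (.nd .nil (.nd (.lf [2,1,0,3,2,1,0,7,3,2,1,0,4,3,5,1,6,5]) .nil)) .nil))) (.nd (.nd (.nd (.nd (.nd .nil (.lf [1,1,0,2,3,2,5,1,6,7,3,2,1,4,3,2,6,7])) .nil) .nil) (.nd (.nd .nil (.nd .nil (.lf [1,1,0,2,3,2,5,1,6,7,3,2,1,0,4,3,2,6,7]))) .nil)) (.nd (.nd (.nd (.nd .nil (.lf [2,1,0,3,2,1,0,5,7,3,2,1,0,4,3,5,1,2,6,5]))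 .nil) .nil) (.nd (.nd .nil (.nd .nil (.lf [2,1,0,3,2,1,0,7,3,2,1,0,4,3,5,1,2,6,5]))) .nil)))) .nil)))

theorem kf13 : chkU cf13 13 = true := by decide +kernel

/-- Certificates of a coset. -/
def cf14 : TF :=
  (.nd (.nd (.nd (.nd (.nd (.nd (.nd (.nd (.nd (.lf [1,1,0,3,2,1,0,7,3,4,6,5,1,7,3,2,1,6,5]) .nil) .nil) .nil) (.nd .nil (.nd .nil (.nd .nil (.lf [2,1,0,3,2,1,0,4,5,7,3,2,4,3,6,5,1,0,2,7]))))) (.nd (.nd (.nd (.nd (.lf [2,3,5,1,0,2,1,5,7,3,2,4,3,7,6,5,1]) .nil) .nil) .nil) (.nd .nil (.nd .nil (.nd .nil (.lf [1,1,3,2,4,5,1,0,6,7,3,2,1,0,4,3,6,5])))))) (.nd (.nd (.nd .nil (.nd (.nd (.lf [1,1,0,3,2,1,0,7,3,4,6,5,7,3,2,1,6,5]) .nil) .nil)) (.nd (.nd .nil (.nd .nil (.lf [2,1,0,3,2,1,0,4,5,7,3,2,4,3,6,5,1,0,7])))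 .nil)) (.nd (.nd .nil (.nd (.nd (.lf [2,3,5,1,0,2,1,5,7,3,2,4,3,7,6,5,1,2]) .nil) .nil)) (.nd (.nd .nil (.nd .nil (.lf [1,1,3,2,4,5,1,0,6,7,3,2,1,0,4,3,2,6,5]))) .nil)))) .nil) (.nd (.nd (.nd (.nd (.nd (.nd (.nd (.lf [2,1,0,3,2,1,0,7,3,2,1,4,3,2,5,1,6]) .nil) .nil) .nil) (.nd .nil (.nd .nil (.nd .nil (.lf [1,1,0,3,2,1,0,7,3,4,6,5,7,3,2,1,0,6]))))) (.nd (.nd (.nd (.nd (.lf [1,1,3,2,4,5,1,0,6,7,3,2,1,4,3,2,6]) .nil) .nil) .nil) (.nd .nil (.nd .nil (.nd .nil (.lf [2,3,4,5,1,0,2,1,5,6,5,7,3,2,1,0,4,3,2,6])))))) (.nd (.nd (.nd .nil (.nd (.nd (.lf [2,1,0,3,2,1,0,5,7,3,2,1,4,3,2,5,1,6]) .nil) .nil)) (.nd (.nd .nil (.nd .nil (.lf [1,1,0,3,2,1,0,7,3,4,6,5,1,7,3,2,1,0,6]))) .nil)) (.nd (.nd .nil (.nd (.nd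 (.lf [1,1,3,2,4,5,1,0,6,7,3,2,1,4,3,6]) .nil) .nil)) (.nd (.nd .nil (.nd .nil (.lf [2,3,4,5,1,0,2,1,5,6,5,7,3,2,1,0,4,3,6]))) .nil)))) .nil)) (.nd (.nd (.nd (.nd (.nd (.nd (.nd (.nd (.lf [2,1,0,3,2,1,0,4,5,7,3,2,4,3,6,5,1,2,7]) .nil) .nil) .nil) (.nd .nil (.nd .nil (.nd .nil (.lf [1,1,0,3,2,1,0,7,3,4,6,5,1,7,3,2,1,0,6,5]))))) (.nd (.nd (.nd (.nd (.lf [1,1,3,2,4,5,1,0,6,7,3,2,1,4,3,6,5]) .nil) .nil) .nil) (.nd .nil (.nd .nil (.nd .nil (.lf [2,3,5,1,0,2,1,5,7,3,2,4,3,7,6,5,1,0])))))) (.nd (.nd (.nd .nil (.nd (.nd (.lf [2,1,0,3,2,1,0,4,5,7,3,2,4,3,6,5,1,7]) .nil) .nil)) (.nd (.nd .nil (.nd .nil (.lf [1,1,0,3,2,1,0,7,3,4,6,5,7,3,2,1,0,6,5]))) .nil)) (.nd (.nd .nil (.nd (.nd (.lf [1,1,3,2,4,5,1,0,6,7,3,2,1,4,3,2,6,5])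 .nil) .nil)) (.nd (.nd .nil (.nd .nil (.lf [2,3,5,1,0,2,1,5,7,3,2,4,3,7,6,5,1,0,2]))) .nil)))) .nil) (.nd (.nd (.nd (.nd (.nd (.nd (.nd (.lf [1,1,0,3,2,1,0,7,3,4,6,5,7,3,2,1,6]) .nil) .nil) .nil) (.nd .nil (.nd .nil (.nd .nil (.lf [2,1,0,3,2,1,0,7,3,2,1,4,3,2,5,1,0,6]))))) (.nd (.nd (.nd (.nd (.lf [2,1,0,3,2,1,5,7,3,2,1,0,4,3,2,6,5,1,2]) .nil) .nil) .nil) (.nd .nil (.nd .nil (.nd .nil (.lf [1,1,0,2,3,2,4,5,1,0,6,7,3,2,1,0,4,3,2,6])))))) (.nd (.nd (.nd .nil (.nd (.nd (.lf [1,1,0,3,2,1,0,7,3,4,6,5,1,7,3,2,1,6]) .nil) .nil)) (.nd (.nd .nil (.nd .nil (.lf [2,1,0,3,2,1,0,5,7,3,2,1,4,3,2,5,1,0,6]))) .nil)) (.nd (.nd .nil (.nd (.nd (.lf [2,1,0,3,2,1,5,7,3,2,1,0,4,3,2,6,5,1]) .nil) .nil)) (.nd (.nd .nil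 (.nd .nil (.lf [1,1,0,2,3,2,4,5,1,0,6,7,3,2,1,0,4,3,6]))) .nil)))) .nil)))

theorem kf14 : chkU cf14 14 = true := by decide +kernel

/-- Certificates of a coset. -/
def cf15 : TF :=
  (.nd (.nd (.nd (.nd (.nd (.nd (.nd (.nd (.nd (.lf [1,3,2,4,7,6,5,1,2,3,4,7,3,6,7]) .nil) .nil) (.nd .nil (.nd (.lf [1,3,2,4,7,6,5,1,0,2,3,4,7,3,6,7]) .nil))) .nil) (.nd (.nd (.nd (.nd (.lf [1,1,3,2,7,3,4,6,5,7,3,2,1,5,6]) .nil) .nil) (.nd .nil (.nd (.lf [1,1,3,2,7,3,4,6,5,7,3,2,1,0,5,6]) .nil))) .nil)) (.nd (.nd .nil (.nd (.nd .nil (.nd .nil (.lf [2,1,0,2,1,3,2,5,1,2,3,7,3,2,4,3,7,6,5]))) (.nd (.nd .nil (.lf [2,1,0,2,1,3,2,5,1,0,2,3,7,3,2,4,3,7,6,5])) .nil))) (.nd .nil (.nd (.nd .nil (.nd .nil (.lf [2,1,0,2,1,3,2,5,1,0,2,3,7,3,2,4,3,7,6])))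 (.nd (.nd .nil (.lf [2,1,0,2,1,3,2,5,1,2,3,7,3,2,4,3,7,6])) .nil))))) .nil) (.nd (.nd (.nd (.nd (.nd (.nd (.nd (.lf [2,3,2,4,5,1,0,2,1,7,3,2,1,0,4,3,2,1,5,7,6,5,1]) .nil) .nil) (.nd .nil (.nd (.lf [2,1,0,3,2,1,4,5,7,3,2,1,0,4,3,5,1,6,5,1,0,2,1,7]) .nil))) .nil) (.nd (.nd (.nd (.nd (.lf [2,3,4,7,3,2,6,5,1,0,2,1,3,2,4,3,5,6,7,6,5,1,2]) .nil) .nil) (.nd .nil (.nd (.lf [2,1,0,3,2,1,0,4,7,3,2,1,0,4,3,2,1,5,1,0,2,6,5,1]) .nil))) .nil)) (.nd (.nd .nil (.nd (.nd .nil (.nd .nil (.lf [1,1,0,3,2,4,3,5,1,0,6,7,3,2,4,6,7,3,2,1,5]))) (.nd (.nd .nil (.lf [1,1,3,2,4,3,5,7,3,4,6,5,1,0,2,7,3,2,1,5])) .nil))) (.nd .nil (.nd (.nd .nil (.nd .nil (.lf [1,1,0,2,3,2,4,3,5,7,3,4,6,5,1,0,2,7,3,2,1]))) (.nd (.nd .nil (.lf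 [1,1,0,3,2,4,3,5,1,0,6,7,3,2,4,6,7,3,2,1])) .nil))))) .nil)) (.nd (.nd (.nd (.nd (.nd (.nd (.nd (.nd (.lf [2,1,0,2,1,3,2,5,1,2,3,7,3,2,4,3,6,7,6]) .nil) .nil) (.nd .nil (.nd (.lf [2,1,0,2,1,3,2,5,1,0,2,3,7,3,2,4,3,6,7,6]) .nil))) .nil) (.nd (.nd (.nd (.nd (.lf [2,1,0,3,2,1,4,7,3,2,1,4,3,2,5,1,6]) .nil) .nil) (.nd .nil (.nd (.lf [2,1,0,3,2,1,4,7,3,2,1,4,3,2,5,1,0,6]) .nil))) .nil)) (.nd (.nd .nil (.nd (.nd .nil (.nd .nil (.lf [1,3,2,4,7,6,5,1,2,3,4,7,3,6,5]))) (.nd (.nd .nil (.lf [1,3,2,4,7,6,5,1,0,2,3,4,7,3,6,5])) .nil))) (.nd .nil (.nd (.nd .nil (.nd .nil (.lf [1,3,2,4,7,6,5,1,0,2,3,4,7,3,6]))) (.nd (.nd .nil (.lf [1,3,2,4,7,6,5,1,2,3,4,7,3,6])) .nil))))) .nil) (.nd (.nd (.nd (.nd (.nd (.nd (.nd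 (.lf [1,1,0,3,2,4,3,5,1,0,6,7,3,2,4,3,6,7,3,2,1]) .nil) .nil) (.nd .nil (.nd (.lf [1,1,0,2,3,2,4,3,5,7,3,4,6,5,1,0,2,3,7,3,2,1]) .nil))) .nil) (.nd (.nd (.nd (.nd (.lf [1,1,0,3,2,4,5,1,0,6,7,3,2,1,4,6,5,1,7,3,6]) .nil) .nil) (.nd .nil (.nd (.lf [1,1,3,2,4,3,5,7,3,4,6,5,1,0,2,1,7,3,2,1]) .nil))) .nil)) (.nd (.nd .nil (.nd (.nd .nil (.nd .nil (.lf [2,3,4,7,3,2,6,5,1,0,2,1,3,2,4,3,5,7,6,5,1,0,2]))) (.nd (.nd .nil (.lf [2,1,0,3,2,1,4,5,7,3,2,1,4,3,6,5,1,0,2,1,7,6,5,1])) .nil))) (.nd .nil (.nd (.nd .nil (.nd .nil (.lf [2,1,0,3,2,1,4,5,7,3,2,1,0,4,3,5,1,6,5,1,0,2,1]))) (.nd (.nd .nil (.lf [2,1,0,3,2,1,4,5,7,3,2,1,0,4,3,5,1,2,6,5,1,0,2,1])) .nil))))) .nil)))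

theorem kf15 : chkU cf15 15 = true := by decide +kernel

/-- Certificates of a coset. -/
def cf16 : TF :=
  (.nd (.nd (.nd (.nd (.nd (.nd (.nd (.nd (.nd (.lf [1,1,0,3,2,4,3,7,3,2,4,3]) .nil) .nil) .nil) (.nd .nil (.nd (.nd (.lf [1,1,0,2,5]) .nil) .nil))) .nil) (.nd (.nd (.nd (.nd .nil (.nd (.lf [1,1,3,2,4,3,7,3,2,4,3]) .nil)) .nil) (.nd .nil (.nd .nil (.nd (.lf [1,1,2,5]) .nil)))) .nil)) (.nd (.nd (.nd (.nd (.nd (.nd (.lf [2,1,2,7,3,2,1,0,4,3,2,6,7,3]) .nil) .nil) .nil) (.nd .nil (.nd (.nd (.lf [2,1,0,2,1,7,3,2,1,0,6,5,7,3,2]) .nil) .nil))) .nil) (.nd (.nd (.nd (.nd .nil (.nd (.lf [2,1,0,7,3,2,1,4,3,2,6,7,3]) .nil)) .nil) (.nd .nil (.nd .nil (.nd (.lf [2,1,0,3,2,1,0,4,3,2,1,5,1,0,2,1,6,7,3,2,4,3])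 .nil)))) .nil))) (.nd (.nd (.nd .nil (.nd (.nd (.nd (.nd (.lf [1,1,2]) .nil) .nil) .nil) (.nd .nil (.nd (.nd (.lf [1,1,3,2,4,3,5,7,3,2,4,3]) .nil) .nil)))) (.nd .nil (.nd (.nd (.nd .nil (.nd (.lf [1,1,0,2]) .nil)) .nil) (.nd .nil (.nd .nil (.nd (.lf [1,1,0,3,2,4,3,5,7,3,2,4,3]) .nil)))))) (.nd (.nd .nil (.nd (.nd (.nd (.nd (.lf [2,1,0,2,1,7,3,2,1,6,7,3,2]) .nil) .nil) .nil) (.nd .nil (.nd (.nd (.lf [2,1,0,5,1,0,2,1,5,7,3,2,4,3,6,7,3,2,4,3]) .nil) .nil)))) (.nd .nil (.nd (.nd (.nd .nil (.nd (.lf [2,1,0,2,1,7,3,2,1,0,6,7,3,2]) .nil)) .nil) (.nd .nil (.nd .nil (.nd (.lf [2,1,0,7,3,2,1,0,4,3,2,6,5,7,3]) .nil)))))))) (.nd (.nd (.nd (.nd (.nd (.nd (.nd (.nd (.lf [1,1,0,3,2,4,3,7,3,2,4,3,6,5,1,0,2,1,5,6])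 .nil) .nil) .nil) (.nd .nil (.nd (.nd (.lf [1,1,0,3,4,5,1,6,5,7,3,2,1,0,4,5,1,2,3,4,7,3,6]) .nil) .nil))) .nil) (.nd (.nd (.nd (.nd .nil (.nd (.lf [1,1,0,2,3,2,4,3,7,3,2,4,3,6,5,1,0,2,1,5,6]) .nil)) .nil) (.nd .nil (.nd .nil (.nd (.lf [1,1,0,3,4,5,1,6,7,3,2,1,0,4,5,1,2,3,4,7,3,6]) .nil)))) .nil)) (.nd (.nd (.nd (.nd (.nd (.nd (.lf [2,1,0,2,1,5,1,0,2,1,3,4,7,3,2,1,0,4,3,6,5,1,7,3,6,5,7,6]) .nil) .nil) .nil) (.nd .nil (.nd (.nd (.lf [2,3,2,4,3,7,3,2,1,0,5,1,2,3,4,7,3,6,5,1,0,2,3,7,6]) .nil) .nil))) .nil) (.nd (.nd (.nd (.nd .nil (.nd (.lf [2,1,0,2,1,5,1,0,2,1,3,4,7,3,2,1,0,4,3,6,5,1,0,7,3,6,5,7,6]) .nil)) .nil) (.nd .nil (.nd .nil (.nd (.lf [2,3,2,4,3,7,3,2,1,0,5,1,2,3,4,7,3,6,5,1,2,3,7,6]) .nil))))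 .nil))) (.nd (.nd (.nd .nil (.nd (.nd (.nd (.nd (.lf [1,1,0,3,4,5,1,6,7,3,2,1,0,4,5,1,2,3,4,7,3,6,5]) .nil) .nil) .nil) (.nd .nil (.nd (.nd (.lf [1,1,0,2,3,2,4,3,5,7,3,2,4,3,6,5,1,0,2,1,5,6]) .nil) .nil)))) (.nd .nil (.nd (.nd (.nd .nil (.nd (.lf [1,1,0,5,6,7,3,2,1,4,3,7,6,5,1,0,2,1,5,6,7,3]) .nil)) .nil) (.nd .nil (.nd .nil (.nd (.lf [1,1,0,3,2,4,3,5,7,3,2,4,3,6,5,1,0,2,1,5,6]) .nil)))))) (.nd (.nd .nil (.nd (.nd (.nd (.nd (.lf [2,3,2,4,3,7,3,2,1,0,5,1,2,3,4,7,3,6,5,1,2,3,7,6,5]) .nil) .nil) .nil) (.nd .nil (.nd (.nd (.lf [2,1,0,2,1,5,1,0,2,1,3,4,7,3,2,1,0,4,6,5,1,0,7,3,6,5,7,6]) .nil) .nil)))) (.nd .nil (.nd (.nd (.nd .nil (.nd (.lf [2,1,3,4,5,1,2,3,4,7,3,2,1,0,5,1,2,3,4,6,7,3,2,4,3,6]) .nil))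 .nil) (.nd .nil (.nd .nil (.nd (.lf [2,1,0,2,1,5,1,0,2,1,3,4,7,3,2,1,0,4,6,5,1,7,3,6,5,7,6]) .nil)))))))))

theorem kf16 : chkU cf16 16 = true := by decide +kernel

/-- Certificates of a coset. -/
def cf17 : TF :=
  (.nd (.nd (.nd (.nd (.nd (.nd (.nd (.nd (.nd (.lf [1,1,0,3,2,4,3,7,3,2,1,4,3,6,5,1,0,2,1,5]) .nil) (.nd (.lf [2,3,2,4,5,1,0,7,3,2,1,4,5,6,5,1,2,7,3,2,1,5]) .nil)) (.nd (.nd .nil (.lf [1,3,2,1,4,5,6,7,3,2,1,6,5,1,0,2,1,5,6,7,3])) (.nd .nil (.lf [2,3,2,1,0,5,1,0,2,3,7,3,2,1,4,3,6,7,3,4,6,5,1,2,3])))) .nil) .nil) (.nd (.nd (.nd (.nd (.nd (.lf [2,1,0,5,1,2,3,4,7,3,2,1,0,4,3,5,1,6,5,1,0,7,3,2,1,5]) .nil) (.nd (.lf [1,1,0,3,2,1,4,3,2,7,3,2,1,6,7,3,2,4,3,7]) .nil)) (.nd (.nd .nil (.lf [2,1,3,2,1,4,3,2,7,3,2,1,0,6,7,3,2,1,4,3,5]))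 (.nd .nil (.lf [1,1,0,3,2,4,3,7,3,2,1,4,3,6,5])))) .nil) .nil)) .nil) (.nd (.nd (.nd .nil (.nd (.nd (.nd (.nd (.lf [1,1,3,2,4,3,7,3,2,6,5,1,0,7,3,2,1,5,6,7,3]) .nil) (.nd (.lf [2,5,1,0,7,3,2,1,0,4,3,5,6,7,3,2,1,0,4,3,5,1,2,6,5,7,3]) .nil)) (.nd (.nd .nil (.lf [1,1,0,3,2,4,3,7,3,2,1,4,3,6,5,1,0,2,1,7])) (.nd .nil (.lf [2,1,3,4,5,1,0,7,3,2,1,4,3,2,5,6,7,3,2,1,4,6,7,3])))) .nil)) (.nd .nil (.nd (.nd (.nd (.nd (.lf [2,1,3,2,1,4,3,2,7,3,2,1,0,6,7,3,2,1,4,3,7]) .nil) (.nd (.lf [1,1,0,3,2,4,3,7,3,2,1,4,3,6,7]) .nil)) (.nd (.nd .nil (.lf [2,1,0,5,1,2,3,4,7,3,2,1,0,4,5,1,6,5,1,0,7,3,2,1])) (.nd .nil (.lf [1,1,0,3,2,1,4,3,2,7,3,2,1,6,5,7,3,2,4,3])))) .nil))) .nil)) (.nd (.nd (.nd (.nd (.nd (.nd (.nd (.nd (.lf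 [1,1,0,3,2,4,3,7,3,2,1,4,3,6]) .nil) (.nd (.lf [2,1,3,2,1,4,3,2,7,3,2,1,0,6,7,3,2,1,4,3]) .nil)) (.nd (.nd .nil (.lf [1,1,0,3,2,1,4,3,2,7,3,2,1,6,5,7,3,2,4,3,7])) (.nd .nil (.lf [2,1,0,5,1,2,3,4,7,3,2,1,0,4,3,5,1,6,5,1,0,7,3,2,1])))) .nil) .nil) (.nd (.nd (.nd (.nd (.nd (.lf [2,3,2,1,0,5,1,0,2,3,7,3,2,4,3,6,7,3,4,6,5,1,2,3]) .nil) (.nd (.lf [1,1,3,2,4,3,7,3,2,6,5,1,0,2,3,7,3,2,1,4,3,5]) .nil)) (.nd (.nd .nil (.lf [2,1,3,4,5,1,0,7,3,2,1,4,3,2,5,6,7,3,2,1,4,3,6,7,3])) (.nd .nil (.lf [1,1,0,3,2,4,3,7,3,2,1,4,3,6,5,1,0,2,1])))) .nil) .nil)) .nil) (.nd (.nd (.nd .nil (.nd (.nd (.nd (.nd (.lf [1,1,0,3,2,1,4,3,2,7,3,2,1,6,7,3,2,4,3]) .nil) (.nd (.lf [2,1,0,5,1,2,3,4,7,3,2,1,0,4,5,1,6,5,1,0,7,3,2,1,5]) .nil))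 (.nd (.nd .nil (.lf [1,1,0,3,2,4,3,7,3,2,1,4,3,6,5,7])) (.nd .nil (.lf [2,3,2,1,0,4,3,7,3,2,1,0,4,6,5,1,2,7,3,2,1,6,5,7])))) .nil)) (.nd .nil (.nd (.nd (.nd (.nd (.lf [2,1,3,4,5,1,0,7,3,2,1,4,3,2,5,6,7,3,2,1,4,6,5,7,3]) .nil) (.nd (.lf [1,1,0,3,2,4,3,7,3,2,1,4,3,6,5,1,0,2,1,5,7]) .nil)) (.nd (.nd .nil (.lf [2,5,1,0,7,3,2,1,0,4,3,5,6,7,3,2,1,0,4,3,5,1,2,6,7,3])) (.nd .nil (.lf [1,1,3,2,4,3,7,3,2,6,5,1,0,7,3,2,1,5,6,5,7,3])))) .nil))) .nil)))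

theorem kf17 : chkU cf17 17 = true := by decide +kernel

/-- Certificates of a coset. -/
def cf18 : TF :=
  (.nd (.nd (.nd (.nd .nil (.nd (.nd (.nd (.nd .nil (.nd (.lf [1,1,0,3,2,4,3,5,6,7,3,2,1,0,4,3,5]) (.lf [2,1,0,2,1,3,5,1,0,2,1,3,4,7,3,2,4,3,6,5,1,0,7,3]))) (.nd .nil (.nd (.lf [2,1,0,2,1,3,5,1,0,2,1,3,4,7,3,2,1,4,6,5,1,0,7,3]) (.lf [1,1,2,3,2,4,3,5,6,7,3,2,1,0,4,3,7])))) (.nd (.nd .nil (.nd (.lf [2,1,0,2,1,3,5,1,0,2,1,3,4,7,3,2,4,6,5,1,0,7,3,2]) (.lf [1,1,0,3,4,5,1,2,3,6,7,3,2,1,0,4,3]))) (.nd .nil (.nd (.lf [1,1,0,3,2,4,3,5,6,7,3,2,1,0,4,3,2]) (.lf [2,1,0,3,2,7,3,2,1,0,4,3,5,1,2,3,6,5,1,0,2,1,7,3]))))) .nil)) .nil) (.nd (.nd .nil (.nd .nil (.nd (.nd (.nd .nil (.nd (.lf [1,1,0,3,2,4,3,5,6,7,3,2,1,0,4,3,2,7])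 (.lf [2,3,4,7,3,2,1,0,4,3,5,1,2,3,6,7,3,2,1,4,6,7,3]))) (.nd .nil (.nd (.lf [2,1,0,2,1,3,5,1,0,2,1,3,4,7,3,2,4,3,6,5,1,0,7,3,2]) (.lf [1,1,0,3,2,4,3,5,6,7,3,2,1,0,4,3,2,5])))) (.nd (.nd .nil (.nd (.lf [2,1,3,2,4,3,7,3,2,1,0,4,3,5,1,2,6,5,1,7,6,5,1]) (.lf [1,1,0,3,2,4,3,5,6,7,3,2,1,0,4,3]))) (.nd .nil (.nd (.lf [1,1,0,3,2,4,3,5,6,7,3,2,1,0,4,3,5,7]) (.lf [2,1,0,2,1,3,5,1,0,2,1,3,4,7,3,2,4,6,5,1,0,7,3]))))))) .nil)) (.nd (.nd (.nd .nil (.nd (.nd (.nd (.nd .nil (.nd (.lf [1,1,0,3,2,4,3,5,6,7,3,2,1,4,3,2,5]) (.lf [2,1,0,2,1,3,5,1,0,2,1,3,4,7,3,2,4,3,6,5,1,7,3,2]))) (.nd .nil (.nd (.lf [2,1,0,3,2,5,1,7,3,2,1,4,3,5,6,5,1,0,2,1,7,3]) (.lf [1,1,0,3,2,4,3,5,6,7,3,2,1,4,3,2,7])))) (.nd (.nd .nil (.nd (.lf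 [2,1,0,2,1,3,5,1,0,2,1,3,4,7,3,2,4,6,5,1,7,3]) (.lf [1,1,0,3,2,4,3,5,6,7,3,2,1,4,3,5,7]))) (.nd .nil (.nd (.lf [1,1,0,3,2,4,3,5,6,7,3,2,1,4,3]) (.lf [2,1,0,2,1,3,5,1,0,2,1,3,4,7,3,2,1,4,3,6,5,1,7,3]))))) .nil)) .nil) (.nd (.nd .nil (.nd .nil (.nd (.nd (.nd .nil (.nd (.lf [1,1,0,3,2,4,3,5,6,7,3,2,1,4,3,7]) (.lf [2,3,2,5,1,0,2,1,3,4,7,3,2,4,6,5,1,7,3,2,1]))) (.nd .nil (.nd (.lf [2,1,2,3,2,4,3,5,1,7,3,2,1,0,4,5,1,2,3,6,7,3,2,1,5,6,5]) (.lf [1,1,0,3,2,4,3,5,6,7,3,2,1,4,3,5])))) (.nd (.nd .nil (.nd (.lf [2,3,2,5,1,0,2,1,3,4,7,3,2,4,3,6,5,7,3,2,1]) (.lf [1,1,0,3,2,4,3,5,6,7,3,2,1,4,3,2]))) (.nd .nil (.nd (.lf [1,1,0,3,4,5,1,2,3,6,7,3,2,1,4,3]) (.lf [2,3,5,1,0,2,1,3,4,7,3,2,4,6,5,1,7,3,2]))))))) .nil)))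

theorem kf18 : chkU cf18 18 = true := by decide +kernel

/-- Certificates of a coset. -/
def cf19 : TF :=
  (.nd (.nd (.nd (.nd (.nd (.nd (.nd .nil (.nd (.nd .nil (.lf [1,1,3,4,5,6,7,3,2,1,0,5,1,2,6,5,1,0,7,3])) .nil)) (.nd .nil (.nd (.nd (.lf [1,1,3,2,4,3,5,6,7,3,2,1,0,4,3,2,6]) .nil) .nil))) .nil) (.nd (.nd (.nd (.nd .nil (.nd (.lf [1,1,0,3,2,4,3,5,7,3,2,4,3,6,5,1,0,2]) .nil)) .nil) (.nd (.nd .nil (.nd .nil (.lf [1,1,3,4,5,6,7,3,2,1,0,5,1,2,3,6,5,1,0,7,3]))) .nil)) .nil)) (.nd (.nd .nil (.nd (.nd .nil (.nd .nil (.nd (.lf [2,1,3,2,4,3,7,3,2,1,0,5,6,5,1,0,2,3,7,3,2,4,3,7,6]) .nil))) (.nd .nil (.nd .nil (.nd .nil (.lf [2,1,2,3,4,7,3,2,1,0,4,5,1,2,3,6,5,1,7,3])))))) (.nd .nil (.nd (.nd (.nd (.nd .nil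 (.lf [2,1,2,3,2,4,5,1,2,7,3,2,1,0,4,5,1,2,6,5,7,3,2,1,0])) .nil) .nil) (.nd (.nd (.nd (.lf [2,3,2,1,0,5,1,0,2,1,3,2,4,3,6,7,3,6,5,1,2,3]) .nil) .nil) .nil))))) (.nd (.nd (.nd .nil (.nd (.nd .nil (.nd (.nd .nil (.lf [1,1,0,3,2,4,3,5,7,3,2,4,3,6,5,1,2])) .nil)) (.nd .nil (.nd (.nd (.lf [1,1,3,4,5,6,7,3,2,1,0,5,1,2,3,6,5,1,7,3]) .nil) .nil)))) (.nd .nil (.nd (.nd (.nd .nil (.nd (.lf [1,1,3,4,5,6,7,3,2,1,0,5,1,2,6,5,1,7,3]) .nil)) .nil) (.nd (.nd .nil (.nd .nil (.lf [1,1,0,2,3,2,4,3,5,6,7,3,2,1,4,3,2,6]))) .nil)))) (.nd (.nd (.nd (.nd .nil (.nd .nil (.nd (.lf [2,1,2,3,2,4,5,1,2,7,3,2,1,0,4,5,1,2,6,5,7,3,2,1]) .nil))) (.nd .nil (.nd .nil (.nd .nil (.lf [2,3,2,1,0,5,1,0,2,1,3,2,4,3,6,7,3,6,5,1,0,2,3])))))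 .nil) (.nd (.nd (.nd (.nd (.nd .nil (.lf [2,1,3,2,4,3,7,3,2,1,0,5,6,5,1,2,3,7,3,2,4,3,7,6])) .nil) .nil) (.nd (.nd (.nd (.lf [2,1,3,4,5,1,0,2,1,3,2,4,7,3,2,1,5,6,7,3,2,1,4,3,2]) .nil) .nil) .nil)) .nil)))) (.nd (.nd (.nd (.nd (.nd (.nd .nil (.nd (.nd .nil (.lf [1,1,3,4,5,6,7,3,2,1,0,5,1,2,6,5,1,7,3,2])) .nil)) (.nd .nil (.nd (.nd (.lf [1,1,3,2,4,3,5,6,7,3,2,1,4,3,6]) .nil) .nil))) .nil) (.nd (.nd (.nd (.nd .nil (.nd (.lf [1,1,0,3,2,4,3,5,7,3,2,4,3,6,5,1]) .nil)) .nil) (.nd (.nd .nil (.nd .nil (.lf [1,1,3,4,5,6,7,3,2,1,0,5,1,2,3,6,5,1,7,3,2]))) .nil)) .nil)) (.nd (.nd .nil (.nd (.nd .nil (.nd .nil (.nd (.lf [2,1,3,2,4,3,7,3,2,1,0,5,6,5,1,2,3,4,7,3,2,4,3,7,6]) .nil))) (.nd .nil (.nd .nil (.nd .nil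 (.lf [2,1,3,4,5,1,0,2,1,3,2,4,7,3,2,1,5,6,7,3,2,1,4,3])))))) (.nd .nil (.nd (.nd (.nd (.nd .nil (.lf [2,1,2,3,2,4,5,1,2,7,3,2,1,0,4,5,1,2,6,5,1,7,3,2,1])) .nil) .nil) (.nd (.nd (.nd (.lf [2,1,0,2,1,3,4,5,1,0,2,1,3,2,4,7,3,2,1,5,6,7,3,2,1,0,4,3]) .nil) .nil) .nil))))) (.nd (.nd (.nd .nil (.nd (.nd .nil (.nd (.nd .nil (.lf [1,1,2,3,2,4,3,5,7,3,2,4,3,6,5,1,0])) .nil)) (.nd .nil (.nd (.nd (.lf [1,3,4,7,3,6,5,1,0,2,1,3,7,3,2,6,5,1,7,3]) .nil) .nil)))) (.nd .nil (.nd (.nd (.nd .nil (.nd (.lf [1,1,0,3,2,1,4,3,2,5,1,6,5,7,3,4,6,5,1,7,3]) .nil)) .nil) (.nd (.nd .nil (.nd .nil (.lf [1,1,3,2,4,3,5,6,7,3,2,1,0,4,3,6]))) .nil)))) (.nd (.nd (.nd (.nd .nil (.nd .nil (.nd (.lf [2,1,0,3,2,4,3,7,3,2,1,0,5,6,5,1,2,3,7,3,2,4,3,6,7,6])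 .nil))) (.nd .nil (.nd .nil (.nd .nil (.lf [2,3,2,1,0,5,1,0,2,1,3,2,4,3,6,7,6,5,1,2,3]))))) .nil) (.nd (.nd (.nd (.nd (.nd .nil (.lf [2,1,2,3,4,5,7,3,2,1,0,4,5,1,2,3,6,5,7,3,2,1])) .nil) .nil) (.nd (.nd (.nd (.lf [2,1,3,4,5,1,0,2,1,3,2,4,7,3,2,1,5,6,7,3,2,1,0,4,3]) .nil) .nil) .nil)) .nil)))))

theorem kf19 : chkU cf19 19 = true := by decide +kernel

/-- Certificates of a coset. -/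
def cf32 : TF :=
  (.nd (.nd (.nd (.nd (.nd (.nd (.nd (.nd (.nd (.lf [1,1,0,3,2,4,3,5,6,7,3,2,1,4,3,5,6,5]) .nil) .nil) .nil) (.nd (.nd (.nd .nil (.lf [1,1,0,3,2,1,4,3,2,7,3,2,1,6,5,7,3,2,1,0,4,3,6])) .nil) .nil)) .nil) (.nd (.nd (.nd .nil (.nd .nil (.nd .nil (.lf [1,1,0,3,2,4,3,5,6,7,3,2,1,0,4,3,2,5,6])))) (.nd .nil (.nd .nil (.nd (.lf [1,1,0,3,4,5,1,2,3,6,5,1,0,2,1,7,3,2,1,6,7,3]) .nil)))) .nil)) (.nd (.nd (.nd (.nd (.nd (.nd (.lf [2,5,1,0,2,1,3,7,3,2,1,0,4,3,2,1,7,3,2,6,7,3]) .nil) .nil) .nil) (.nd (.nd (.nd .nil (.lf [2,3,2,4,3,7,3,2,1,0,4,3,2,1,5,7,3,2,1,6,5,7,3])) .nil) .nil)) .nil) (.nd (.nd (.nd .nil (.nd .nil (.nd .nil (.lf [2,1,0,3,2,1,4,3,2,7,3,2,1,0,4,5,1,2,3,6,7,3,2,6,5])))) (.nd .nil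 (.nd .nil (.nd (.lf [2,5,1,0,2,1,3,2,4,3,5,1,7,3,2,4,6,5,1,7,3,2,4,3]) .nil)))) .nil))) (.nd (.nd (.nd .nil (.nd (.nd .nil (.nd (.nd .nil (.lf [1,1,0,3,2,4,3,5,6,7,3,2,1,4,3,2,5,6,5])) .nil)) (.nd .nil (.nd (.nd (.lf [1,1,3,2,4,3,5,1,2,6,5,1,0,7,3,2,1,5,6,5,7,3]) .nil) .nil)))) (.nd .nil (.nd (.nd (.nd .nil (.nd (.lf [1,1,0,3,2,4,3,5,6,7,3,2,1,0,4,3,5,6]) .nil)) .nil) (.nd (.nd .nil (.nd .nil (.lf [1,1,0,3,2,1,4,3,2,5,1,2,3,6,5,1,2,7,3,4,6,7,3]))) .nil)))) (.nd (.nd .nil (.nd (.nd .nil (.nd (.nd .nil (.lf [2,3,2,4,3,5,1,0,2,1,3,2,4,3,5,1,7,3,4,6,7,3,2])) .nil)) (.nd .nil (.nd (.nd (.lf [2,1,3,4,7,3,2,1,0,4,3,5,6,5,7,3,2,1,4,6,5,7,3,6]) .nil) .nil)))) (.nd .nil (.nd (.nd (.nd .nil (.nd (.lf [2,1,0,3,2,1,4,3,2,7,3,2,1,0,4,5,1,2,3,6,7,3,6,5])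 .nil)) .nil) (.nd (.nd .nil (.nd .nil (.lf [2,3,2,1,0,5,1,0,7,3,2,1,4,3,2,5,1,7,3,2,6,7,3]))) .nil)))))) (.nd (.nd (.nd (.nd (.nd (.nd (.nd (.nd (.lf [1,1,0,3,2,4,3,5,6,7,3,2,1,0,4,3,2,5,6,5]) .nil) .nil) .nil) (.nd (.nd (.nd .nil (.lf [1,3,2,1,4,5,6,7,3,6,5,1,0,2,1,3,5,6,7,3,6])) .nil) .nil)) .nil) (.nd (.nd (.nd .nil (.nd .nil (.nd .nil (.lf [1,1,0,3,2,4,3,5,6,7,3,2,1,4,3,5,6])))) (.nd .nil (.nd .nil (.nd (.lf [1,1,3,2,4,3,5,1,2,6,5,1,0,7,3,2,1,5,6,7,3,2]) .nil)))) .nil)) (.nd (.nd (.nd (.nd (.nd (.nd (.lf [2,1,0,3,2,1,4,3,2,7,3,2,1,0,4,5,1,2,3,6,7,3,2,6]) .nil) .nil) .nil) (.nd (.nd (.nd .nil (.lf [2,3,2,4,3,7,3,2,1,0,4,6,5,1,2,7,3,6,5,1,0,7,6])) .nil) .nil)) .nil) (.nd (.nd (.nd .nil (.nd .nil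 (.nd .nil (.lf [2,3,2,4,3,5,1,0,2,1,3,2,4,3,5,1,7,3,4,6,5,7,3])))) (.nd .nil (.nd .nil (.nd (.lf [2,3,2,4,3,7,3,2,1,0,4,3,2,1,5,7,3,2,1,6,7,3]) .nil)))) .nil))) (.nd (.nd (.nd .nil (.nd (.nd .nil (.nd (.nd .nil (.lf [1,1,0,3,2,4,3,5,6,7,3,2,1,0,4,3,5,6,5])) .nil)) (.nd .nil (.nd (.nd (.lf [1,1,0,3,2,1,4,3,2,7,3,2,1,6,5,7,3,2,1,4,3,6]) .nil) .nil)))) (.nd .nil (.nd (.nd (.nd .nil (.nd (.lf [1,1,0,3,2,4,3,5,6,7,3,2,1,4,3,2,5,6]) .nil)) .nil) (.nd (.nd .nil (.nd .nil (.lf [1,1,3,2,4,3,5,1,2,6,5,1,0,7,3,2,1,5,6,7,3]))) .nil)))) (.nd (.nd .nil (.nd (.nd .nil (.nd (.nd .nil (.lf [2,1,0,3,2,1,4,3,2,7,3,2,1,0,4,5,1,2,3,6,7,3,6])) .nil)) (.nd .nil (.nd (.nd (.lf [2,3,2,1,0,5,1,0,7,3,2,1,4,3,2,5,1,7,3,2,6,5,7,3])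 .nil) .nil)))) (.nd .nil (.nd (.nd (.nd .nil (.nd (.lf [2,1,3,5,1,0,7,3,2,1,4,5,6,7,3,2,1,0,4,3,5,1,2,6,7,3]) .nil)) .nil) (.nd (.nd .nil (.nd .nil (.lf [2,3,2,4,3,7,3,2,1,0,4,3,2,1,5,7,3,2,1,6,7,3,2]))) .nil)))))))

theorem kf32 : chkU cf32 32 = true := by decide +kernel

/-- Certificates of a coset. -/
def cf33 : TF :=
  (.nd (.nd (.nd (.nd (.nd (.nd (.nd (.nd (.nd (.lf [1,1,0,3,2,4,3,7,3,2,4,3,6,5,1,7]) (.lf [2,3,4,5,1,0,2,3,7,3,2,1,0,4,3,2,5,7,6,5,1])) .nil) (.nd (.nd (.lf [2,3,4,5,1,0,2,3,7,3,2,1,0,4,3,2,5,6,7,6,5,1,2]) (.lf [1,1,0,3,2,4,3,7,3,2,4,3,6,5,1,2])) .nil)) (.nd (.nd (.nd (.lf [2,1,0,2,3,2,1,4,7,3,2,1,0,4,3,2,6,7,3,6,5,1,7]) (.lf [1,1,0,3,2,4,3,7,3,2,1,4,3,6,5,1,0,7])) .nil) (.nd (.nd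 (.lf [1,1,0,3,2,4,3,7,3,2,1,4,3,6,5,1,0,2]) (.lf [2,1,0,2,3,2,1,4,7,3,2,1,0,4,3,2,6,7,3,6,5,1,2])) .nil))) .nil) .nil) .nil) (.nd (.nd .nil (.nd .nil (.nd (.nd (.nd .nil (.nd (.lf [1,1,0,3,2,4,3,7,3,2,4,3,6,5,1,0,2]) (.lf [2,1,0,2,3,2,1,4,7,3,2,1,0,4,3,2,1,6,7,3,6,5,1,2]))) (.nd .nil (.nd (.lf [2,1,0,2,3,2,1,4,7,3,2,1,0,4,3,2,1,6,7,3,6,5,1,7]) (.lf [1,1,0,3,2,4,3,7,3,2,4,3,6,5,1,0,7])))) (.nd (.nd .nil (.nd (.lf [2,1,0,2,3,2,1,4,7,3,2,1,0,4,3,2,6,7,3,6,5,1,0,2]) (.lf [1,1,0,3,2,4,3,7,3,2,1,4,3,6,5,1,2]))) (.nd .nil (.nd (.lf [1,1,0,3,2,4,3,7,3,2,1,4,3,6,5,1,7]) (.lf [2,1,0,2,3,2,1,4,7,3,2,1,0,4,3,2,6,7,3,6,5,1,0,7]))))))) .nil)) (.nd (.nd (.nd (.nd (.nd (.nd (.nd (.nd (.lf [1,1,0,3,2,4,3,7,3,2,4,3,6,5,1,0,2,7])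 (.lf [2,1,3,2,1,4,7,3,2,1,0,4,3,2,1,6,7,3,6,5,1,2,7])) .nil) (.nd (.nd (.lf [2,1,3,2,1,4,7,3,2,1,0,4,3,2,1,6,7,3,6,5,1]) (.lf [1,1,0,3,2,4,3,7,3,2,4,3,6,5,1,0])) .nil)) (.nd (.nd (.nd (.lf [2,3,4,5,1,0,2,1,3,4,7,3,2,4,3,6,7,3,2,1,5,6,5]) (.lf [1,1,0,3,2,4,3,7,3,2,1,4,3,6,5,1,2,7])) .nil) (.nd (.nd (.lf [1,1,0,3,2,4,3,7,3,2,1,4,3,6,5,1]) (.lf [2,1,3,2,1,7,3,2,1,0,4,3,2,1,6,7,3,2,6,5,1,2,7])) .nil))) .nil) .nil) .nil) (.nd (.nd .nil (.nd .nil (.nd (.nd (.nd .nil (.nd (.lf [1,1,0,3,2,4,3,7,3,2,4,3,6,5,1]) (.lf [2,1,0,2,3,2,1,4,7,3,2,1,0,4,3,2,1,6,7,3,6,5,1,0]))) (.nd .nil (.nd (.lf [2,1,0,2,3,2,1,4,7,3,2,1,0,4,3,2,1,6,7,3,6,5,1,0,2,7]) (.lf [1,1,0,3,2,4,3,7,3,2,4,3,6,5,1,2,7])))) (.nd (.nd .nil (.nd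 (.lf [2,1,0,2,3,2,1,4,7,3,2,1,0,4,3,2,6,7,3,6,5,1]) (.lf [1,1,0,3,2,4,3,7,3,2,1,4,3,6,5,1,0]))) (.nd .nil (.nd (.lf [1,1,0,3,2,4,3,7,3,2,1,4,3,6,5,1,0,2,7]) (.lf [2,1,0,2,3,2,1,4,7,3,2,1,0,4,3,2,6,7,3,6,5,1,2,7]))))))) .nil)))

theorem kf33 : chkU cf33 33 = true := by decide +kernel

/-- Certificates of a coset. -/
def cf34 : TF :=
  (.nd (.nd (.nd (.nd (.nd (.nd (.nd (.nd (.nd (.lf [1,1,5,6,7]) .nil) .nil) (.nd (.nd .nil (.lf [1,1,0,3,2,4,3,5,6,7,3,2,4,3])) .nil)) .nil) .nil) (.nd (.nd (.nd (.nd .nil (.nd (.lf [1,1,0,5,6,7]) .nil)) (.nd .nil (.nd .nil (.lf [1,1,0,2,3,2,4,3,5,6,7,3,2,4,3])))) .nil) .nil)) (.nd (.nd .nil (.nd .nil (.nd (.nd .nil (.nd (.lf [2,1,0,3,2,1,4,5,1,0,2,1,3,2,4,3,5,1,0,6,5,1,2,3,7])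 .nil)) (.nd .nil (.nd .nil (.lf [2,5,1,0,2,1,3,4,7,3,2,1,0,4,3,6,5,1,7,3])))))) (.nd .nil (.nd .nil (.nd (.nd (.nd (.lf [2,1,0,3,4,7,3,2,1,0,4,3,6,7,3,6,5,1,2,3,4,7,3,2,1,6]) .nil) .nil) (.nd (.nd .nil (.lf [2,3,4,7,3,2,1,0,4,5,1,2,3,4,7,3,2,1,6])) .nil)))))) (.nd (.nd (.nd .nil (.nd .nil (.nd (.nd (.nd .nil (.lf [1,1,2,3,2,4,3,5,6,7,3,2,4,3,7])) .nil) (.nd (.nd (.lf [1,1,0,2,5,6]) .nil) .nil)))) (.nd .nil (.nd .nil (.nd (.nd .nil (.nd .nil (.lf [1,1,0,2,3,2,4,3,5,6,7,3,2,4,3,7]))) (.nd .nil (.nd (.lf [1,1,0,5,6]) .nil)))))) (.nd (.nd (.nd (.nd (.nd .nil (.nd .nil (.lf [2,3,4,7,3,2,1,0,4,5,1,2,3,4,7,3,2,1,0,6,7]))) (.nd .nil (.nd (.lf [2,1,5,7,3,2,1,0,4,3,2,1,5,6,5,1,0,2,1,7,3,2,4,3]) .nil))) .nil)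 .nil) (.nd (.nd (.nd (.nd (.nd .nil (.lf [2,3,4,7,3,2,1,0,4,5,1,2,3,4,7,3,2,1,6,7])) .nil) (.nd (.nd (.lf [2,1,0,3,2,1,4,5,1,0,2,1,3,2,4,3,5,1,0,6,5,1,0,2,3]) .nil) .nil)) .nil) .nil)))) (.nd (.nd (.nd (.nd (.nd (.nd (.nd (.nd (.lf [1,1,0,3,4,5,1,6,5,7,3,2,1,0,5,1,2,3,4,7,3]) .nil) .nil) (.nd (.nd .nil (.lf [1,1,0,3,2,4,3,5,6,7,3,2,1,0,4,3,2,1])) .nil)) .nil) .nil) (.nd (.nd (.nd (.nd .nil (.nd (.lf [1,1,0,3,4,5,1,6,7,3,2,1,0,5,1,2,3,4,7,3]) .nil)) (.nd .nil (.nd .nil (.lf [1,1,0,2,3,2,4,3,5,6,7,3,2,1,0,4,3,2,1])))) .nil) .nil)) (.nd (.nd .nil (.nd .nil (.nd (.nd .nil (.nd (.lf [2,1,0,2,5,1,0,2,1,6,7]) .nil)) (.nd .nil (.nd .nil (.lf [2,3,4,5,1,7,3,2,1,0,4,5,1,2,3,4,7,3,6,7])))))) (.nd .nil (.nd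 .nil (.nd (.nd (.nd (.lf [2,3,5,1,0,2,1,3,2,6,7,3,2,6,5,1]) .nil) .nil) (.nd (.nd .nil (.lf [2,1,3,4,5,1,7,3,2,1,0,4,5,1,2,3,4,7,3,6,7])) .nil)))))) (.nd (.nd (.nd .nil (.nd .nil (.nd (.nd (.nd .nil (.lf [1,1,0,3,2,4,3,5,6,7,3,2,1,0,4,3,2,1,7])) .nil) (.nd (.nd (.lf [1,1,0,3,4,5,1,6,5,7,3,2,1,0,4,5,1,2,3,4,7,3]) .nil) .nil)))) (.nd .nil (.nd .nil (.nd (.nd .nil (.nd .nil (.lf [1,1,0,2,3,2,4,3,5,6,7,3,2,1,0,4,3,2,1,7]))) (.nd .nil (.nd (.lf [1,1,0,3,4,5,1,6,7,3,2,1,0,4,5,1,2,3,4,7,3]) .nil)))))) (.nd (.nd (.nd (.nd (.nd .nil (.nd .nil (.lf [2,3,4,5,1,7,3,2,1,0,4,5,1,2,3,4,7,3,6]))) (.nd .nil (.nd (.lf [2,3,2,7,3,2,1,0,6,5,7,3,6,7]) .nil))) .nil) .nil) (.nd (.nd (.nd (.nd (.nd .nil (.lf [2,5,1,0,2,1,3,4,7,3,2,1,4,3,6,5,7,3,2,1]))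 .nil) (.nd (.nd (.lf [2,1,5,6,7]) .nil) .nil)) .nil) .nil)))))

theorem kf34 : chkU cf34 34 = true := by decide +kernel

/-- Certificates of a coset. -/
def cf35 : TF :=
  (.nd (.nd (.nd (.nd (.nd (.nd (.nd (.nd (.nd (.lf [1,1,0,3,2,1,4,3,2,5,1,6,5,7,3,4,6,7,3]) .nil) (.nd (.lf [2,7,3,2,1,0,4,3,2,5,1,2,6,7,3,4,6,5,1,2,3]) .nil)) .nil) (.nd .nil (.nd (.nd (.lf [1,1,0,2,3,2,4,3,5,7,3,2,1,4,3,6]) .nil) (.nd (.lf [2,1,5,1,0,7,3,2,1,5,6,7,3,2,1,4,3,2,5,1,7,3,2,6,7,3]) .nil)))) .nil) (.nd (.nd (.nd (.nd (.nd (.lf [2,1,0,3,2,1,4,3,2,5,1,0,6,5,1,2,7,3,4,6,5,7,3]) .nil) (.nd (.lf [1,1,0,2,3,2,4,3,5,7,3,2,1,4,3,6,7]) .nil)) .nil) (.nd .nil (.nd (.nd (.lf [2,3,5,7,3,2,1,0,4,3,2,1,6,5,7,3,2,6,5,1,2,3]) .nil)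 (.nd (.lf [1,3,4,7,3,6,5,1,0,2,1,3,7,3,2,6,7,3]) .nil)))) .nil)) .nil) (.nd (.nd (.nd .nil (.nd (.nd .nil (.nd (.nd .nil (.lf [1,1,0,2,3,2,4,3,5,7,3,2,1,4,3,6,5])) (.nd .nil (.lf [2,3,4,5,1,0,2,1,3,2,4,7,3,2,1,4,5,6,5,7,3,2,1,4,3])))) (.nd (.nd (.nd .nil (.lf [1,1,0,3,2,1,4,3,2,5,1,6,5,7,3,4,6,5,7,3])) (.nd .nil (.lf [2,7,3,2,1,0,4,3,5,1,2,6,7,3,4,6,5,1,2,3]))) .nil))) (.nd .nil (.nd (.nd .nil (.nd (.nd .nil (.lf [2,7,3,2,1,0,4,3,5,1,2,6,7,3,4,6,5,1,2,3,7])) (.nd .nil (.lf [1,3,4,7,3,6,5,1,0,2,1,3,7,3,2,6,5,7,3])))) (.nd (.nd (.nd .nil (.lf [2,1,2,3,4,5,1,7,3,2,1,0,4,5,1,2,3,6,7,3])) (.nd .nil (.lf [1,1,0,2,3,2,4,3,5,7,3,2,1,4,3,6,5,7]))) .nil)))) .nil)) (.nd (.nd (.nd (.nd (.nd (.nd (.nd (.nd (.lf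 [1,1,3,4,5,6,7,3,2,1,0,5,1,2,6,7,3]) .nil) (.nd (.lf [2,1,3,4,5,1,0,2,1,3,2,4,3,5,1,0,2,6,5,1,2,7,3,4,6,7,3]) .nil)) .nil) (.nd .nil (.nd (.nd (.lf [1,1,0,2,3,2,4,3,5,7,3,2,1,4,3,6,5,1,0,2,1,5]) .nil) (.nd (.lf [2,3,2,4,3,5,1,0,7,3,2,1,4,5,6,7,3,2,1,0,5,1,2,3]) .nil)))) .nil) (.nd (.nd (.nd (.nd (.nd (.lf [2,3,2,4,3,5,1,0,7,3,2,1,4,5,6,7,3,2,1,0,5,1,2,3,7]) .nil) (.nd (.lf [1,1,0,3,2,4,3,5,6,7,3,2,1,0,4,3,2,1,6,5,1]) .nil)) .nil) (.nd .nil (.nd (.nd (.lf [2,1,0,3,4,5,1,0,2,1,3,2,4,3,5,1,0,2,6,5,1,2,7,3,4,6,7,3]) .nil) (.nd (.lf [1,1,3,4,5,6,7,3,2,1,0,5,1,2,3,6,7,3]) .nil)))) .nil)) .nil) (.nd (.nd (.nd .nil (.nd (.nd .nil (.nd (.nd .nil (.lf [1,1,0,2,3,2,4,3,5,7,3,2,1,4,3,6,5,1,0,2,1])) (.nd .nil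 (.lf [2,1,0,3,4,5,1,2,7,3,2,1,0,4,5,1,2,6,5,1,0,7,3,2,1])))) (.nd (.nd (.nd .nil (.lf [1,1,3,4,5,6,7,3,2,1,0,5,1,2,6,5,7,3])) (.nd .nil (.lf [2,1,0,3,4,7,3,2,1,0,4,5,1,2,3,6,7,3,2,1]))) .nil))) (.nd .nil (.nd (.nd .nil (.nd (.nd .nil (.lf [2,1,0,2,1,3,4,5,1,0,2,1,3,2,4,7,3,2,1,0,5,6,5,7,3,2,1,4,3])) (.nd .nil (.lf [1,1,3,4,5,6,7,3,2,1,0,5,1,2,3,6,5,7,3])))) (.nd (.nd (.nd .nil (.lf [2,3,4,7,3,2,1,0,4,5,1,2,3,4,6,5,7,3,6,5,1,2,7,3])) (.nd .nil (.lf [1,1,0,3,2,4,3,5,6,7,3,2,1,0,4,3,2,6,5,1]))) .nil)))) .nil)))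

theorem kf35 : chkU cf35 35 = true := by decide +kernel

/-- Certificates of a coset. -/
def cf48 : TF :=
  (.nd (.nd (.nd (.nd (.nd (.nd (.nd (.nd (.nd (.lf [1,1,0,2,3,2,4,3,5,6,7,3,2,1,0,4,3,5,7,6]) .nil) .nil) (.nd (.nd .nil (.lf [1,1,3,4,5,6,7,3,2,1,0,5,1,2,6,5,1,7,3,2,6])) .nil)) .nil) .nil) (.nd (.nd .nil (.nd (.nd .nil (.nd .nil (.lf [1,1,0,3,2,1,0,4,5,1,2,6,5,1,0,7,3,2,1,5,6,7,3]))) (.nd .nil (.nd (.lf [1,1,0,3,2,4,3,7,3,2,1,4,3,6,5,1,7,6]) .nil)))) .nil)) (.nd (.nd (.nd (.nd (.nd (.nd (.lf [2,5,1,0,7,3,2,1,0,4,3,2,1,5,1,0,6,7,3,2]) .nil) .nil) (.nd (.nd .nil (.lf [2,3,2,1,0,7,3,2,1,0,4,5,6,5,7,3,2,1,0,5,6,7,3])) .nil)) .nil) .nil) (.nd (.nd .nil (.nd (.nd .nil (.nd .nil (.lf [2,1,0,2,1,3,2,1,0,5,1,0,2,3,4,7,3,2,1,5,6,7,3])))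 (.nd .nil (.nd (.lf [2,5,1,0,7,3,2,1,0,4,3,2,1,5,1,6,5,7,3,2]) .nil)))) .nil))) (.nd (.nd (.nd .nil (.nd .nil (.nd (.nd (.nd .nil (.lf [1,1,0,3,2,4,3,7,3,2,1,4,3,6,5,1,0,7,6])) .nil) (.nd (.nd (.lf [1,1,3,4,5,6,7,3,2,1,0,5,1,2,6,5,1,7,3,2,6,5]) .nil) .nil)))) (.nd .nil (.nd (.nd (.nd .nil (.nd (.lf [1,1,0,3,2,1,4,3,2,5,1,6,5,7,3,4,6,5,1,7,3,6]) .nil)) (.nd .nil (.nd .nil (.lf [1,1,0,2,3,2,4,3,5,6,7,3,2,1,4,3,5,7,6])))) .nil))) (.nd (.nd .nil (.nd .nil (.nd (.nd (.nd .nil (.lf [2,5,1,0,7,3,2,1,0,4,3,2,1,5,1,0,6,5,7,3,2])) .nil) (.nd (.nd (.lf [2,1,0,2,1,3,2,1,0,5,1,0,2,3,4,7,3,2,1,0,5,6,7,3]) .nil) .nil)))) (.nd .nil (.nd (.nd (.nd .nil (.nd (.lf [2,1,3,5,1,0,7,3,2,1,4,5,6,5,1,7,3,2,1,4,5,6,7,3])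 .nil)) (.nd .nil (.nd .nil (.lf [2,5,1,0,7,3,2,1,0,4,3,2,1,5,1,6,7,3,2])))) .nil))))) (.nd (.nd (.nd (.nd (.nd (.nd (.nd (.nd (.lf [1,1,0,3,4,5,1,2,3,6,5,7,3,2,1,4,3,6]) .nil) .nil) (.nd (.nd .nil (.lf [1,1,3,4,5,6,7,3,2,1,0,5,1,2,6,5,1,0,7,3,6])) .nil)) .nil) .nil) (.nd (.nd .nil (.nd (.nd .nil (.nd .nil (.lf [1,1,3,4,5,6,7,3,2,1,0,5,1,2,6,5,1,7,3,6,5]))) (.nd .nil (.nd (.lf [1,1,0,3,2,4,3,7,3,2,1,4,3,6,5,1,0,2,7,6]) .nil)))) .nil)) (.nd (.nd (.nd (.nd (.nd (.nd (.lf [2,1,0,2,1,5,1,0,7,3,2,1,0,4,3,2,1,5,1,6,7,3]) .nil) .nil) (.nd (.nd .nil (.lf [2,3,2,1,0,7,3,2,1,0,4,5,6,5,7,3,2,1,5,6,7,3,2])) .nil)) .nil) .nil) (.nd (.nd .nil (.nd (.nd .nil (.nd .nil (.lf [2,3,2,7,3,2,1,0,4,3,2,1,5,6,7,3,2,1,0,5,6,7,3])))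 (.nd .nil (.nd (.lf [2,3,2,4,3,7,3,2,1,0,4,5,6,5,1,2,7,3,2,4,6,5,1,7,3,6]) .nil)))) .nil))) (.nd (.nd (.nd .nil (.nd .nil (.nd (.nd (.nd .nil (.lf [1,1,0,3,2,4,3,7,3,2,1,4,3,6,5,1,2,7,6])) .nil) (.nd (.nd (.lf [1,1,0,3,4,5,1,6,5,7,3,6,5,1,0,2,7,6,5,1,2,3]) .nil) .nil)))) (.nd .nil (.nd (.nd (.nd .nil (.nd (.lf [1,1,3,4,5,6,7,3,2,1,0,5,1,2,6,5,1,7,3,6]) .nil)) (.nd .nil (.nd .nil (.lf [1,1,0,3,4,5,1,2,3,6,5,7,3,2,1,0,4,3,6])))) .nil))) (.nd (.nd .nil (.nd .nil (.nd (.nd (.nd .nil (.lf [2,5,1,0,7,3,2,1,0,4,3,2,1,5,1,6,5,7,3])) .nil) (.nd (.nd (.lf [2,1,0,2,1,7,3,2,1,0,4,3,2,1,5,1,0,7,3,2,6,5,1,2,7,3]) .nil) .nil)))) (.nd .nil (.nd (.nd (.nd .nil (.nd (.lf [2,3,2,1,0,7,3,2,1,0,4,5,6,5,7,3,2,1,0,5,6,7,3,2])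 .nil)) (.nd .nil (.nd .nil (.lf [2,5,1,0,7,3,2,1,0,4,3,2,1,5,1,0,6,7,3])))) .nil))))))

theorem kf48 : chkU cf48 48 = true := by decide +kernel

/-- Certificates of a coset. -/
def cf49 : TF :=
  (.nd (.nd (.nd (.nd (.nd (.nd (.nd (.nd (.nd (.lf [1,1,0,2,3,2,4,3,7,3,2,4,3,6,5,1,0,2]) .nil) .nil) .nil) (.nd .nil (.nd (.nd (.lf [1,3,2,1,4,5,6,7,3,2,6,5,1,0,2,1,3,5,6,7,3]) .nil) .nil))) .nil) (.nd (.nd (.nd .nil (.nd .nil (.nd .nil (.lf [1,1,0,2,3,2,4,3,7,3,2,4,3,6,5,1,2,7])))) (.nd (.nd .nil (.nd .nil (.lf [1,3,2,1,4,5,6,7,3,6,5,1,0,2,1,5,6,7,3]))) .nil)) .nil)) (.nd (.nd .nil (.nd (.nd .nil (.nd .nil (.nd (.lf [2,3,5,7,3,2,1,4,5,6,5,1,0,7,3,2,1,0,5,6,7,3,2]) .nil))) (.nd (.nd .nil (.nd (.lf [2,1,0,2,3,2,1,4,3,2,7,3,2,1,0,4,6,5,7,3,2,1,4,3])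 .nil)) .nil))) (.nd .nil (.nd (.nd (.nd (.nd .nil (.lf [2,3,2,1,5,1,0,7,3,4,6,5,7,3,2,1,0,5,6,7,3,2,1])) .nil) .nil) (.nd .nil (.nd (.nd .nil (.lf [2,3,7,3,2,1,4,5,6,5,1,0,7,3,2,1,0,5,6,7,3,2,1,0])) .nil)))))) (.nd (.nd (.nd .nil (.nd (.nd .nil (.nd (.nd .nil (.lf [1,1,3,2,4,3,7,3,2,4,3,6,5,1,0])) .nil)) (.nd (.nd (.nd .nil (.lf [1,1,0,3,2,1,4,3,2,7,3,2,1,6,5,7,3,2,1,0,4,3])) .nil) .nil))) (.nd .nil (.nd (.nd (.nd .nil (.nd (.lf [1,1,3,2,4,3,7,3,2,4,3,6,5,1,7]) .nil)) .nil) (.nd .nil (.nd .nil (.nd (.lf [1,3,2,1,4,5,6,7,3,6,5,1,0,2,1,5,6,7,3,2]) .nil)))))) (.nd (.nd (.nd (.nd (.nd .nil (.nd .nil (.lf [2,3,2,1,0,4,5,1,0,7,3,2,1,4,3,7,6,5,1,0,2,1,3,2]))) .nil) (.nd .nil (.nd .nil (.nd .nil (.lf [2,3,2,1,5,1,0,7,3,4,6,7,3,2,1,0,5,6,7,3,2])))))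 .nil) (.nd (.nd (.nd .nil (.nd (.nd (.lf [2,1,3,2,1,4,3,2,7,3,2,1,6,5,7,3,2,1,4,3]) .nil) .nil)) (.nd (.nd (.nd (.lf [2,3,7,3,2,1,4,5,6,5,1,0,7,3,2,1,0,5,1,6,7,3,2,1,0]) .nil) .nil) .nil)) .nil)))) (.nd (.nd (.nd (.nd (.nd (.nd (.nd (.nd (.lf [1,1,3,2,4,3,7,3,2,4,3,6,5,1]) .nil) .nil) .nil) (.nd .nil (.nd (.nd (.lf [1,1,0,3,2,1,4,3,2,7,3,2,1,6,5,7,3,2,1,4,3]) .nil) .nil))) .nil) (.nd (.nd (.nd .nil (.nd .nil (.nd .nil (.lf [1,1,3,2,4,3,7,3,2,4,3,6,5,1,0,7])))) (.nd (.nd .nil (.nd .nil (.lf [1,3,2,1,4,5,6,7,3,2,6,5,1,0,2,1,5,6,7,3,2]))) .nil)) .nil)) (.nd (.nd .nil (.nd (.nd .nil (.nd .nil (.nd (.lf [2,3,5,7,3,2,1,4,5,6,5,1,0,7,3,2,1,5,6,7,3]) .nil))) (.nd (.nd .nil (.nd (.lf [2,3,2,1,5,1,0,7,3,4,6,7,3,2,1,5,6,7,3,2])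 .nil)) .nil))) (.nd .nil (.nd (.nd (.nd (.nd .nil (.lf [2,3,2,1,0,4,5,1,0,7,3,2,1,4,3,7,6,5,1,0,2,1,3,2,7])) .nil) .nil) (.nd .nil (.nd (.nd .nil (.lf [2,1,2,5,1,2,3,4,7,3,2,1,0,4,5,6,5,1,7,3,2,1])) .nil)))))) (.nd (.nd (.nd .nil (.nd (.nd .nil (.nd (.nd .nil (.lf [1,1,3,2,4,3,7,3,2,4,3,6,5,1,2])) .nil)) (.nd (.nd (.nd .nil (.lf [1,3,2,1,4,5,6,7,3,6,5,1,0,2,1,3,5,6,7,3])) .nil) .nil))) (.nd .nil (.nd (.nd (.nd .nil (.nd (.lf [1,1,0,2,3,2,4,3,7,3,2,4,3,6,5,1,0,2,7]) .nil)) .nil) (.nd .nil (.nd .nil (.nd (.lf [1,3,2,1,4,5,6,7,3,2,6,5,1,0,2,1,5,6,7,3]) .nil)))))) (.nd (.nd (.nd (.nd (.nd .nil (.nd .nil (.lf [2,1,3,5,1,0,7,3,4,6,5,7,3,2,1,5,6,7,3,2]))) .nil) (.nd .nil (.nd .nil (.nd .nil (.lf [2,3,2,1,5,1,0,7,3,4,6,7,3,2,1,5,6,7,3])))))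 .nil) (.nd (.nd (.nd .nil (.nd (.nd (.lf [2,3,2,1,0,4,5,1,0,7,3,2,1,4,3,7,6,5,1,0,2,1,3,7]) .nil) .nil)) (.nd (.nd (.nd (.lf [2,3,7,3,2,1,4,5,6,5,1,0,7,3,2,1,0,5,6,7,3,2,1]) .nil) .nil) .nil)) .nil)))))

theorem kf49 : chkU cf49 49 = true := by decide +kernel

/-- Certificates of a coset. -/
def cf50 : TF :=
  (.nd (.nd (.nd (.nd (.nd (.nd (.nd .nil (.nd (.nd .nil (.lf [1,1,0,3,4,5,1,2,3,6,7,3,2,4,3])) (.nd .nil (.lf [2,5,1,0,2,1,3,4,7,3,2,4,3,6,5,7,3])))) (.nd .nil (.nd (.nd (.lf [1,1,3,4,5,6,7,3,2,1,0,5,1,2,3,4,7,3]) .nil) (.nd (.lf [2,3,4,7,3,2,1,0,4,5,1,2,3,6,7,3,6,5,1,2,3,4,7,3]) .nil)))) .nil) (.nd (.nd (.nd .nil (.nd (.nd .nil (.lf [2,1,0,2,1,7,3,2,1,0,4,5,1,6,5,1,7,3,2,6,5,7,3])) (.nd .nil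 (.lf [1,1,0,3,4,5,1,2,3,6,5,7,3,2,4,3,7])))) (.nd .nil (.nd (.nd (.lf [2,1,0,3,4,5,1,0,2,1,3,2,4,3,5,1,0,2,1,6,5,1,2,3]) .nil) (.nd (.lf [1,1,0,3,4,5,6,7,3,2,1,0,4,5,1,2,3,4,7,3]) .nil)))) .nil)) .nil) (.nd (.nd (.nd .nil (.nd (.nd (.nd (.nd (.lf [1,1,3,4,5,6,7,3,2,1,0,4,5,1,2,3,4,7,3]) .nil) (.nd (.lf [2,3,4,7,3,2,1,0,4,5,1,2,3,6,7,3,4,6,5,1,2,3,4,7,3]) .nil)) .nil) (.nd (.nd (.nd .nil (.lf [1,1,0,3,4,5,1,2,3,6,7,3,2,4,3,7])) (.nd .nil (.lf [2,1,0,2,1,7,3,2,1,0,4,5,1,6,5,1,7,3,2,6,7,3]))) .nil))) (.nd .nil (.nd (.nd (.nd (.nd (.lf [2,1,3,4,7,3,2,1,0,4,5,1,2,3,6,7,3,6,5,1,2,3,4,7,3]) .nil) (.nd (.lf [1,1,0,3,4,5,6,7,3,2,1,0,5,1,2,3,4,7,3]) .nil)) .nil) (.nd (.nd (.nd .nil (.lf [2,5,1,0,2,1,3,4,7,3,2,4,3,6,7,3]))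 (.nd .nil (.lf [1,1,0,3,4,5,1,2,3,6,5,7,3,2,4,3]))) .nil)))) .nil)) (.nd (.nd (.nd (.nd (.nd (.nd .nil (.nd (.nd .nil (.lf [1,1,2,3,2,4,3,5,6,7,3,2,1,0,4,3,5,1,7])) (.nd .nil (.lf [2,1,0,2,1,5,1,0,2,1,3,4,7,3,2,1,0,4,6,7,3,2,1])))) (.nd .nil (.nd (.nd (.lf [1,1,0,5,1,6,5,7]) .nil) (.nd (.lf [2,3,2,5,1,0,2,1,3,2,5,6,5,1,2,3]) .nil)))) .nil) (.nd (.nd (.nd .nil (.nd (.nd .nil (.lf [2,1,0,2,1,5,1,0,2,1,3,4,7,3,2,1,0,4,3,6,7,3,2,1,5])) (.nd .nil (.lf [1,1,0,2,3,2,4,3,5,6,7,3,2,1,0,4,3,5,1])))) (.nd .nil (.nd (.nd (.lf [2,3,2,4,5,7,3,2,1,0,4,5,6,5,1,0,2,3,4,7,3,4,6,5,1,2,7,3]) .nil) (.nd (.lf [1,1,0,5,1,6]) .nil)))) .nil)) .nil) (.nd (.nd (.nd .nil (.nd (.nd (.nd (.nd (.lf [1,1,0,5,1,6,5]) .nil) (.nd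 (.lf [2,1,0,5,7,3,2,1,0,4,3,2,1,5,1,0,2,1,6,7,3,2,1,4,3,2,5,1,7]) .nil)) .nil) (.nd (.nd (.nd .nil (.lf [1,1,0,3,2,4,3,5,6,7,3,2,1,0,4,3,5,1])) (.nd .nil (.lf [2,1,0,2,1,5,1,0,2,1,3,4,7,3,2,1,0,4,3,6,7,3,2,1]))) .nil))) (.nd .nil (.nd (.nd (.nd (.nd (.lf [2,1,0,2,5,7,3,2,1,0,4,3,2,1,5,1,0,2,1,6,7,3,2,1,4,3,2,5,1]) .nil) (.nd (.lf [1,1,0,5,1,6,7]) .nil)) .nil) (.nd (.nd (.nd .nil (.lf [2,1,0,2,1,5,1,0,2,1,3,4,7,3,2,4,6,5,1,0,7,3,2,1])) (.nd .nil (.lf [1,1,0,2,3,2,4,3,5,6,7,3,2,1,0,4,3,5,1,7]))) .nil)))) .nil)))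

theorem kf50 : chkU cf50 50 = true := by decide +kernel

/-- Certificates of a coset. -/
def cf51 : TF :=
  (.nd (.nd .nil (.nd (.nd (.nd .nil (.nd (.nd (.nd (.nd (.lf [1,1,0,2,3,2,4,3,5,6,7,3,2,1,0,4,3,2,1,6,5]) (.lf [2,1,0,3,2,4,5,7,3,2,1,0,4,5,1,2,6,5,1,7,3,2])) .nil) (.nd (.nd (.lf [2,1,0,3,2,1,4,7,3,2,1,0,4,5,1,2,6,7,3,2,1,0,5,1]) (.lf [1,1,0,3,2,4,3,5,6,7,3,2,4,3,6])) .nil)) (.nd (.nd (.nd (.lf [2,1,0,2,3,2,7,3,2,1,0,4,3,2,6,5,7,3,6,5,1,0,2,1,5,7]) (.lf [1,1,0,3,2,4,3,5,7,3,2,4,3,6,5])) .nil) (.nd (.nd (.lf [1,1,0,2,3,2,4,3,5,7,3,2,4,3,6,5,1,0,2,1,5]) (.lf [2,1,0,3,2,4,5,7,3,2,1,0,4,5,1,2,3,6,5,1,7,3])) .nil)))) (.nd .nil (.nd (.nd (.nd .nil (.nd (.lf [1,1,0,3,2,4,3,5,6,7,3,2,1,0,4,3,2,1,6,5])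 (.lf [2,1,0,5,1,0,2,1,3,2,4,3,7,3,2,4,3,7,6]))) (.nd .nil (.nd (.lf [2,1,0,2,3,2,7,3,2,1,0,4,3,2,6,5,7,3,6,5,1,0,2,1,5]) (.lf [1,1,0,2,3,2,4,3,5,6,7,3,2,4,3,6])))) (.nd (.nd .nil (.nd (.lf [2,1,0,3,2,1,4,7,3,2,1,0,4,5,1,2,3,6,7,3,2,1,0,5,1]) (.lf [1,1,3,2,4,3,5,7,3,2,4,3,6,5]))) (.nd .nil (.nd (.lf [1,1,0,3,2,4,3,5,7,3,2,4,3,6,5,1,0,2,1,5]) (.lf [2,1,5,1,0,2,1,3,2,4,3,7,3,2,4,3,6,7,6]))))))) .nil)) (.nd .nil (.nd (.nd (.nd .nil (.nd (.nd (.nd (.nd (.lf [1,1,0,3,2,4,3,5,7,3,2,4,3,6,7]) (.lf [2,1,0,2,3,2,7,3,2,1,0,4,3,2,6,5,7,3,6,5,1,0,2,1])) .nil) (.nd (.nd (.lf [2,1,0,2,3,2,7,3,2,1,4,3,2,6,5,1,0,7,3,2,1,6]) (.lf [1,1,0,3,2,4,3,5,6,7,3,2,1,0,4,3,2,1,6])) .nil)) (.nd (.nd (.nd (.lf [2,1,0,2,3,2,7,3,2,1,4,3,2,6,5,1,0,7,3,2,1,0,6,7])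 (.lf [1,1,0,3,2,4,3,5,7,3,2,4,3,6,5,1,0,2,1])) .nil) (.nd (.nd (.lf [1,1,3,2,4,3,5,7,3,2,4,3,6]) (.lf [2,1,0,2,3,2,7,3,2,1,0,4,3,2,6,5,7,3,2,6,5,1,0,2,1,7])) .nil)))) (.nd .nil (.nd (.nd (.nd .nil (.nd (.lf [1,1,0,2,3,2,4,3,5,7,3,2,4,3,6,7]) (.lf [2,1,3,2,4,3,7,3,2,1,0,4,3,2,1,5,6,7,6]))) (.nd .nil (.nd (.lf [2,1,3,2,7,3,2,1,4,3,2,6,5,1,0,7,3,2,1,0,6]) (.lf [1,1,0,2,3,2,4,3,5,6,7,3,2,1,0,4,3,2,1,6])))) (.nd (.nd .nil (.nd (.lf [2,1,3,2,7,3,2,1,0,4,3,2,6,5,7,3,6]) (.lf [1,1,0,2,3,2,4,3,5,7,3,2,4,3,6,5,1,0,2,1]))) (.nd .nil (.nd (.lf [1,1,0,3,2,4,3,5,7,3,2,4,3,6]) (.lf [2,1,0,3,2,4,3,7,3,2,1,0,4,3,2,1,5,7,6]))))))) .nil)))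

theorem kf51 : chkU cf51 51 = true := by decide +kernel

theorem kfz (i : ℕ) (hi : i ∈ ([20, 21, 22, 23, 24, 25, 26, 27, 28, 29, 30, 31, 36, 37, 38, 39, 40, 41, 42, 43, 44, 45, 46, 47, 52, 53, 54, 55, 56, 57, 58, 59, 60, 61, 62, 63] : List ℕ)) : chkU .nil i = true := by
  revert i
  decide +kernel

/-- The certificates. -/
noncomputable def cfF (i : ℕ) : TF :=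
  match i with
  | 0 => cf0
  | 1 => cf1
  | 2 => cf2
  | 3 => cf3
  | 4 => cf4
  | 5 => cf5
  | 6 => cf6
  | 7 => cf7
  | 8 => cf8
  | 9 => cf9
  | 10 => cf10
  | 11 => cf11
  | 12 => cf12
  | 13 => cf13
  | 14 => cf14
  | 15 => cf15
  | 16 => cf16
  | 17 => cf17
  | 18 => cf18
  | 19 => cf19
  | 32 => cf32
  | 33 => cf33
  | 34 => cf34
  | 35 => cf35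
  | 48 => cf48
  | 49 => cf49
  | 50 => cf50
  | 51 => cf51
  | _ => .nil

theorem hF : ∀ i, i < DD.N → chkU (cfF i) i = true := by
  intro i hi
  have hi2 : i < 64 := hi
  interval_cases i
  · exact kf0
  · exact kf1
  · exact kf2
  · exact kf3
  · exact kf4
  · exact kf5
  · exact kf6
  · exact kf7
  · exact kf8
  · exact kf9
  · exact kf10
  · exact kf11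
  · exact kf12
  · exact kf13
  · exact kf14
  · exact kf15
  · exact kf16
  · exact kf17
  · exact kf18
  · exact kf19
  · exact kfz 20 (by decide)
  · exact kfz 21 (by decide)
  · exact kfz 22 (by decide)
  · exact kfz 23 (by decide)
  · exact kfz 24 (by decide)
  · exact kfz 25 (by decide)
  · exact kfz 26 (by decide)
  · exact kfz 27 (by decide)
  · exact kfz 28 (by decide)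
  · exact kfz 29 (by decide)
  · exact kfz 30 (by decide)
  · exact kfz 31 (by decide)
  · exact kf32
  · exact kf33
  · exact kf34
  · exact kf35
  · exact kfz 36 (by decide)
  · exact kfz 37 (by decide)
  · exact kfz 38 (by decide)
  · exact kfz 39 (by decide)
  · exact kfz 40 (by decide)
  · exact kfz 41 (by decide)
  · exact kfz 42 (by decide)
  · exact kfz 43 (by decide)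
  · exact kfz 44 (by decide)
  · exact kfz 45 (by decide)
  · exact kfz 46 (by decide)
  · exact kfz 47 (by decide)
  · exact kf48
  · exact kf49
  · exact kf50
  · exact kf51
  · exact kfz 52 (by decide)
  · exact kfz 53 (by decide)
  · exact kfz 54 (by decide)
  · exact kfz 55 (by decide)
  · exact kfz 56 (by decide)
  · exact kfz 57 (by decide)
  · exact kfz 58 (by decide)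
  · exact kfz 59 (by decide)
  · exact kfz 60 (by decide)
  · exact kfz 61 (by decide)
  · exact kfz 62 (by decide)
  · exact kfz 63 (by decide)

/-- The check of a commutator certificate: `y = [p₁, q₁] [p₂, q₂]` with `p₁, q₁, p₂, q₂` commuting with `x`. -/
noncomputable def pairOK (x y : ℕ) (p1 q1 p2 q2 : List ℕ) : Bool :=
  isOne ap bsL (p1 ++ [x] ++ invW iv p1 ++ [iv x]) && isOne ap bsL (q1 ++ [x] ++ invW iv q1 ++ [iv x]) &&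
  isOne ap bsL (p2 ++ [x] ++ invW iv p2 ++ [iv x]) && isOne ap bsL (q2 ++ [x] ++ invW iv q2 ++ [iv x]) &&
  isOne ap bsL (p1 ++ q1 ++ invW iv p1 ++ invW iv q1 ++ p2 ++ q2 ++ invW iv p2 ++ invW iv q2 ++ [iv y])

theorem po_0_2 : pairOK 0 2 [3,7,2,3,4,3,2,7,3] [5,1,2,0,1,5,6,3,2,1,5,0,1,2,3,4,3,2,1,0,5,1,2,3,6,5,1,0,2,1,5,6,3,7,2,3,4,3,2,7,3,6] [3,7,1,5,0,1,2,3,4,3,2,1,0,5,1,7,3] [7,4,3,4,3,4,7,3,4,3] = true := by decide +kernel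

theorem po_0_3 : pairOK 0 3 [7,3,4,3,7] [5,1,2,0,1,5,6,3,2,1,5,0,1,2,3,4,3,2,1,0,5,1,2,3,6,5,1,0,2,1,5,6,7,3,4,3,7,6] [2,1,5,4,0,1,2,3,4,3,2,1,0,4,5,1,2] [3,7,4,3,4,3,4,7,3,4] = true := by decide +kernel

theorem po_0_4 : pairOK 0 4 [3,7,4,3,4,3,4,7,3] [6,1,2,3,7,0,1,2,3,4,3,2,1,0,7,3,2,1,6,6,3,7,2,3,4,3,2,7,3,6] [3,2,1,5,0,1,2,3,4,3,2,1,0,5,1,2,3] [7,4,3,4,3,4,7,3,4,3] = true := by decide +kernel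

theorem po_0_5 : pairOK 0 5 [4] [6,2,1,5,0,1,2,3,7,6,5,0,1,2,3,4,3,2,1,0,5,6,7,3,2,1,0,5,1,2,6,3,4,3] [6,7,5,6,3,2,1,5,0,1,2,3,4,3,2,1,0,5,1,2,3,6,5,7,6] [6,2,1,5,0,1,2,3,7,6,5,0,1,2,3,4,3,2,1,0,5,6,7,3,2,1,0,5,1,2,6,3,4,3] = true := by decide +kernel

theorem po_0_6 : pairOK 0 6 [4] [3,7,6,3,2,1,5,0,1,2,3,4,3,2,1,0,5,1,2,3,6,7,3,3,4,3] [3,4,2,3,7,6,1,2,3,7,0,1,2,3,4,3,2,1,0,7,3,2,1,6,7,3,2,4,3] [3,7,6,3,2,1,5,0,1,2,3,4,3,2,1,0,5,1,2,3,6,7,3,3,4,3] = true := by decide +kernel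

theorem po_1_3 : pairOK 1 3 [7,3,4,3,7] [5,1,2,0,1,5,6,3,2,1,5,0,1,2,3,4,3,2,1,0,5,1,2,3,6,5,1,0,2,1,5,6,7,3,4,3,7,6] [2,1,5,4,0,1,2,3,4,3,2,1,0,4,5,1,2] [3,7,4,3,4,3,4,7,3,4] = true := by decide +kernel

theorem po_1_4 : pairOK 1 4 [3,7,4,3,4,3,4,7,3] [5,1,2,0,1,5,6,3,2,1,5,0,1,2,3,4,3,2,1,0,5,1,2,3,6,5,1,0,2,1,5,6,3,7,4,3,4,3,4,7,3,6] [3,2,1,5,0,1,2,3,4,3,2,1,0,5,1,2,3] [7,4,3,4,3,4,7,3,4,3] = true := by decide +kernel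

theorem po_1_6 : pairOK 1 6 [4] [3,7,6,3,2,1,5,0,1,2,3,4,3,2,1,0,5,1,2,3,6,7,3,3,4,3] [3,4,2,3,7,6,1,2,3,7,0,1,2,3,4,3,2,1,0,7,3,2,1,6,7,3,2,4,3] [3,7,6,3,2,1,5,0,1,2,3,4,3,2,1,0,5,1,2,3,6,7,3,3,4,3] = true := by decide +kernel

theorem po_2_4 : pairOK 2 4 [3,7,4,3,4,3,4,7,3] [6,1,2,3,7,0,1,2,3,4,3,2,1,0,7,3,2,1,6,6,3,7,2,3,4,3,2,7,3,6] [3,2,1,5,0,1,2,3,4,3,2,1,0,5,1,2,3] [7,4,1,2,3,4,3,2,1,4,7,1,2,3,4,3,2,1] = true := by decide +kernel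

theorem po_2_5 : pairOK 2 5 [4] [6,5,0,1,2,3,7,6,2,1,5,0,1,2,3,4,3,2,1,0,5,1,2,6,7,3,2,1,0,5,6,1,2,3,4,3,2,1] [6,7,5,6,3,2,1,5,0,1,2,3,4,3,2,1,0,5,1,2,3,6,5,7,6] [6,1,2,3,7,0,1,2,3,4,3,2,1,0,7,3,2,1,6,6,3,7,2,3,4,3,2,7,3,6] = true := by decide +kernel

theorem po_2_6 : pairOK 2 6 [4] [1,2,3,7,6,3,2,1,5,0,1,2,3,4,3,2,1,0,5,1,2,3,6,7,3,2,1,1,2,3,4,3,2,1] [3,4,2,3,7,6,1,2,3,7,0,1,2,3,4,3,2,1,0,7,3,2,1,6,7,3,2,4,3] [1,2,3,7,6,3,2,1,5,0,1,2,3,4,3,2,1,0,5,1,2,3,6,7,3,2,1,1,2,3,4,3,2,1] = true := by decide +kernel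

theorem po_3_5 : pairOK 3 5 [6,1,5,0,1,2,3,7,6,5,0,1,2,3,4,3,2,1,0,5,6,7,3,2,1,0,5,1,6] [6,5,0,1,2,3,7,6,5,0,1,2,3,4,3,2,1,0,5,6,7,3,2,1,0,5,6,1,2,3,4,3,2,1] [6,2,3,7,5,6,3,2,1,5,0,1,2,3,4,3,2,1,0,5,1,2,3,6,5,7,3,2,6] [6,1,2,3,7,0,1,2,3,4,3,2,1,0,7,3,2,1,6,6,7,3,4,3,7,6] = true := by decide +kernel

theorem po_3_6 : pairOK 3 6 [2,3,4,3,2] [1,2,3,7,6,3,2,1,5,0,1,2,3,4,3,2,1,0,5,1,2,3,6,7,3,2,1,1,2,3,4,3,2,1] [4,3,7,6,1,2,3,7,0,1,2,3,4,3,2,1,0,7,3,2,1,6,7,3,4] [6,7,3,4,2,3,7,6,1,5,0,1,2,3,4,3,2,1,0,5,1,6,7,3,2,4,3,7,6,7,3,4,3,7] = true := by decide +kernel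

theorem po_4_5 : pairOK 4 5 [6,3,4,2,3,7,5,6,3,2,1,5,0,1,2,3,4,3,2,1,0,5,1,2,3,6,5,7,3,2,4,3,6] [5,6,7,2,1,5,6,3,2,1,5,0,1,2,3,4,3,2,1,0,5,1,2,3,6,5,1,2,7,6,5,3,7,1,2,3,4,3,2,1,7,3] [3,2,1,5,0,1,2,3,4,3,2,1,0,5,1,2,3] [6,1,5,3,4,0,1,2,3,4,3,2,1,0,4,3,5,1,6,6,3,7,2,3,4,3,2,7,3,6] = true := by decide +kernel

theorem po_4_6 : pairOK 4 6 [1,2,0,1,5,6,3,2,1,5,0,1,2,3,4,3,2,1,0,5,1,2,3,6,5,1,0,2,1] [6,7,1,2,0,1,5,6,3,2,1,5,0,1,2,3,4,3,2,1,0,5,1,2,3,6,5,1,0,2,1,7,6,3,7,2,3,4,3,2,7,3] [5,6,1,2,3,7,0,1,2,3,4,3,2,1,0,7,3,2,1,6,5] [2,1,5,6,2,3,7,5,0,1,2,3,4,3,2,1,0,5,7,3,2,6,5,1,2,3,7,1,2,3,4,3,2,1,7,3] = true := by decide +kernel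

end Cfsg.Agent.Lib.DoubleLift.U0
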