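import Mathlib

/-!
# The number of nilpotent matrices over a finite field (Fine–Herstein, after Crabb)

Every endomorphism of `V` is conjugate to a block sum of a nilpotent and an invertible one
(the Fitting decomposition).  Counting the triples (frame, nilpotent, invertible) gives
`q^(n²)/|GL_n| = ∑_{k ≤ n} N_k/|GL_k|`, whence `N_n = q^(n² - n)`.
-/

set_option autoImplicit false
set_option linter.unusedSectionVars false
set_option linter.unusedSimpArgs false
set_option linter.unusedVariables false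

namespace Cfsg.Agent.Lib.NilCount

open Module

variable {F : Type*} [Field F]

/-- The block space `F^k × F^l`. -/
abbrev PP (F : Type*) [Field F] (k l : ℕ) := (Fin k → F) × (Fin l → F)

/-- The block sum. -/
abbrev Dg {k l : ℕ} (N : End F (Fin k → F)) (A : End F (Fin l → F)) : End F (PP F k l) :=
  N.prodMap A

theorem Dg_pow {k l : ℕ} (N : End F (Fin k → F)) (A : End F (Fin l → F)) (m : ℕ) (p : PP F k l) :
    (Dg N A ^ m) p = ((N ^ m) p.1, (A ^ m) p.2) := by
  induction m generalizing p with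
  | zero => simp
  | succ m ih =>
    rw [pow_succ, Module.End.mul_apply, ih, pow_succ, pow_succ]
    rfl

section Rigid

variable {k l k' l' : ℕ} {N : End F (Fin k → F)} {A : (Fin l → F) ≃ₗ[F] (Fin l → F)}
  {N' : End F (Fin k' → F)} {A' : (Fin l' → F) ≃ₗ[F] (Fin l' → F)}

/-- An intertwiner of two block sums preserves the blocks. -/
theorem rigid_pow (h : PP F k l →ₗ[F] PP F k' l')
    (hh : ∀ p, h (Dg N (A : _ →ₗ[F] _) p) = Dg N' (A' : _ →ₗ[F] _) (h p)) (m : ℕ) (p : PP F k l) :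
    h ((Dg N (A : _ →ₗ[F] _) ^ m) p) = (Dg N' (A' : _ →ₗ[F] _) ^ m) (h p) := by
  induction m generalizing p with
  | zero => simp
  | succ m ih =>
    rw [pow_succ, Module.End.mul_apply, ih, hh, pow_succ, Module.End.mul_apply]

theorem pow_equiv_inj (A' : (Fin l' → F) ≃ₗ[F] (Fin l' → F)) (m : ℕ) (y : Fin l' → F)
    (h : (((A' : _ →ₗ[F] _) : End F (Fin l' → F)) ^ m) y = 0) : y = 0 := by
  induction m generalizing y with
  | zero => simpa using h
  | succ m ih =>
    rw [pow_succ, Module.End.mul_apply] at h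
    have := ih _ h
    simpa using this

theorem pow_equiv_surj (A : (Fin l → F) ≃ₗ[F] (Fin l → F)) (m : ℕ) (y : Fin l → F) :
    ∃ z, (((A : _ →ₗ[F] _) : End F (Fin l → F)) ^ m) z = y := by
  induction m generalizing y with
  | zero => exact ⟨y, by simp⟩
  | succ m ih =>
    obtain ⟨z, hz⟩ := ih y
    refine ⟨A.symm z, ?_⟩
    rw [pow_succ, Module.End.mul_apply]
    simpa using hz

theorem rigid_left (hN : IsNilpotent N) (h : PP F k l →ₗ[F] PP F k' l')
    (hh : ∀ p, h (Dg N (A : _ →ₗ[F] _) p) = Dg N' (A' : _ →ₗ[F] _) (h p)) (x : Fin k → F) :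
    (h (x, 0)).2 = 0 := by
  obtain ⟨m, hm⟩ := hN
  have h1 := rigid_pow h hh m (x, 0)
  rw [Dg_pow, Dg_pow, hm] at h1
  simp only [LinearMap.zero_apply, map_zero] at h1
  have h2 : ((0 : Fin k → F), (0 : Fin l → F)) = 0 := rfl
  rw [h2, map_zero] at h1
  exact pow_equiv_inj A' m _ (congrArg Prod.snd h1).symm

theorem rigid_right (hN' : IsNilpotent N') (h : PP F k l →ₗ[F] PP F k' l')
    (hh : ∀ p, h (Dg N (A : _ →ₗ[F] _) p) = Dg N' (A' : _ →ₗ[F] _) (h p)) (y : Fin l → F) :
    (h (0, y)).1 = 0 := by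
  obtain ⟨m, hm⟩ := hN'
  obtain ⟨z, hz⟩ := pow_equiv_surj A m y
  have h1 := rigid_pow h hh m (0, z)
  rw [Dg_pow, Dg_pow, hm, hz] at h1
  simp only [map_zero] at h1
  rw [h1]
  simp

end Rigid

section Triple

variable {V : Type*} [AddCommGroup V] [Module F V]

/-- Frames, nilpotent blocks, invertible blocks. -/
abbrev Tr (F : Type*) [Field F] (k l : ℕ) (V : Type*) [AddCommGroup V] [Module F V] :=
  (PP F k l ≃ₗ[F] V) × {N : End F (Fin k → F) // IsNilpotent N} ×
    ((Fin l → F) ≃ₗ[F] (Fin l → F))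

variable {k l : ℕ}

/-- The endomorphism of `V` determined by a triple. -/
noncomputable def Phi (x : Tr F k l V) : End F V :=
  (x.1 : PP F k l →ₗ[F] V) ∘ₗ Dg x.2.1.1 (x.2.2 : _ →ₗ[F] _) ∘ₗ (x.1.symm : V →ₗ[F] PP F k l)

theorem Phi_apply (x : Tr F k l V) (p : PP F k l) :
    Phi x (x.1 p) = x.1 (Dg x.2.1.1 (x.2.2 : _ →ₗ[F] _) p) := by
  simp [Phi]

theorem Phi_eq_of (x : Tr F k l V) {φ : End F V}
    (h : ∀ p, φ (x.1 p) = x.1 (Dg x.2.1.1 (x.2.2 : _ →ₗ[F] _) p)) : Phi x = φ := by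
  ext v
  obtain ⟨p, rfl⟩ := x.1.surjective v
  rw [Phi_apply, h]

/-- The block equivalence. -/
abbrev blk (h₁ : (Fin k → F) ≃ₗ[F] (Fin k → F)) (h₂ : (Fin l → F) ≃ₗ[F] (Fin l → F)) :
    PP F k l ≃ₗ[F] PP F k l := h₁.prodCongr h₂

/-- Changing a triple by a block element. -/
noncomputable def Psi (b : Tr F k l V) (h₁ : (Fin k → F) ≃ₗ[F] (Fin k → F))
    (h₂ : (Fin l → F) ≃ₗ[F] (Fin l → F)) : Tr F k l V :=
  (blk h₁ h₂ ≪≫ₗ b.1,
    ⟨(h₁.symm : _ →ₗ[F] _) ∘ₗ b.2.1.1 ∘ₗ (h₁ : _ →ₗ[F] _), by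
      obtain ⟨m, hm⟩ := b.2.1.2
      refine ⟨m, ?_⟩
      have key : ∀ j : ℕ, ((h₁.symm : _ →ₗ[F] _) ∘ₗ b.2.1.1 ∘ₗ (h₁ : _ →ₗ[F] _) :
          End F (Fin k → F)) ^ j = (h₁.symm : _ →ₗ[F] _) ∘ₗ (b.2.1.1 ^ j) ∘ₗ (h₁ : _ →ₗ[F] _) := by
        intro j
        induction j with
        | zero =>
          ext x i
          simp
        | succ j ih =>
          rw [pow_succ, ih, pow_succ]
          ext x i
          simp [Module.End.mul_apply]
      rw [key, hm]
      simp⟩,
    h₂ ≪≫ₗ b.2.2 ≪≫ₗ h₂.symm)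

theorem Phi_Psi (b : Tr F k l V) (h₁ : (Fin k → F) ≃ₗ[F] (Fin k → F))
    (h₂ : (Fin l → F) ≃ₗ[F] (Fin l → F)) : Phi (Psi b h₁ h₂) = Phi b := by
  apply Phi_eq_of
  intro p
  have : (Psi b h₁ h₂).1 p = b.1 (h₁ p.1, h₂ p.2) := rfl
  rw [this, Phi_apply]
  have e2 : (Psi b h₁ h₂).1 (Dg (Psi b h₁ h₂).2.1.1 ((Psi b h₁ h₂).2.2 : _ →ₗ[F] _) p) =
      b.1 (h₁ ((Psi b h₁ h₂).2.1.1 p.1), h₂ ((Psi b h₁ h₂).2.2 p.2)) := rfl
  rw [e2]
  congr 1
  ext1
  · show b.2.1.1 (h₁ p.1) = h₁ ((h₁.symm : _ →ₗ[F] _) (b.2.1.1 (h₁ p.1)))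
    simp
  · show b.2.2 (h₂ p.2) = h₂ (h₂.symm (b.2.2 (h₂ p.2)))
    simp

/-- The image of `Phi`. -/
abbrev XX (F : Type*) [Field F] (k l : ℕ) (V : Type*) [AddCommGroup V] [Module F V] :=
  {φ : End F V // ∃ x : Tr F k l V, Phi x = φ}

/-- A chosen triple for an element of the image. -/
noncomputable def base (φ : XX F k l V) : Tr F k l V := Classical.choose φ.2

theorem Phi_base (φ : XX F k l V) : Phi (base φ) = φ.1 := Classical.choose_spec φ.2

/-- The parametrisation of triples. -/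
noncomputable def Psi' (t : XX F k l V × ((Fin k → F) ≃ₗ[F] (Fin k → F)) ×
    ((Fin l → F) ≃ₗ[F] (Fin l → F))) : Tr F k l V := Psi (base t.1) t.2.1 t.2.2

theorem Psi'_injective : Function.Injective (Psi' (F := F) (k := k) (l := l) (V := V)) := by
  rintro ⟨φ, h₁, h₂⟩ ⟨φ', h₁', h₂'⟩ h
  have hφ : φ = φ' := by
    apply Subtype.ext
    have := congrArg Phi h
    simp only [Psi', Phi_Psi, Phi_base] at this
    exact this
  subst hφ
  have h1 := congrArg Prod.fst h
  have key : ∀ p : PP F k l, (h₁ p.1, h₂ p.2) = (h₁' p.1, h₂' p.2) := by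
    intro p
    have := LinearEquiv.congr_fun h1 p
    exact (base φ).1.injective this
  have e1 : h₁ = h₁' := by
    ext1 x
    exact congrArg Prod.fst (key (x, 0))
  have e2 : h₂ = h₂' := by
    ext1 y
    exact congrArg Prod.snd (key (0, y))
  rw [e1, e2]

theorem Psi'_surjective [FiniteDimensional F V] :
    Function.Surjective (Psi' (F := F) (k := k) (l := l) (V := V)) := by
  rintro x
  let φ : XX F k l V := ⟨Phi x, x, rfl⟩
  let b := base φ
  have hb : Phi b = Phi x := Phi_base φ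
  let h : PP F k l ≃ₗ[F] PP F k l := x.1 ≪≫ₗ b.1.symm
  have hh : ∀ p, (h : PP F k l →ₗ[F] PP F k l) (Dg x.2.1.1 (x.2.2 : _ →ₗ[F] _) p) =
      Dg b.2.1.1 (b.2.2 : _ →ₗ[F] _) ((h : PP F k l →ₗ[F] PP F k l) p) := by
    intro p
    have h1 := Phi_apply x p
    have h2 := Phi_apply b (b.1.symm (x.1 p))
    rw [LinearEquiv.apply_symm_apply, hb, h1] at h2
    show b.1.symm (x.1 _) = _
    rw [h2, LinearEquiv.symm_apply_apply]
    rfl
  have hl := rigid_left x.2.1.2 _ hh
  have hr := rigid_right b.2.1.2 _ hh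
  let f₁ : End F (Fin k → F) :=
    LinearMap.fst F _ _ ∘ₗ (h : PP F k l →ₗ[F] PP F k l) ∘ₗ LinearMap.inl F _ _
  let f₂ : End F (Fin l → F) :=
    LinearMap.snd F _ _ ∘ₗ (h : PP F k l →ₗ[F] PP F k l) ∘ₗ LinearMap.inr F _ _
  have f1a : ∀ y, f₁ y = (h (y, 0)).1 := fun _ => rfl
  have f2a : ∀ y, f₂ y = (h (0, y)).2 := fun _ => rfl
  have inj1 : Function.Injective f₁ := by
    rw [← LinearMap.ker_eq_bot, LinearMap.ker_eq_bot']
    intro y hy
    have h0 : h (y, 0) = 0 := Prod.ext hy (hl y)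
    have := h.map_eq_zero_iff.mp h0
    exact congrArg Prod.fst this
  have inj2 : Function.Injective f₂ := by
    rw [← LinearMap.ker_eq_bot, LinearMap.ker_eq_bot']
    intro y hy
    have h0 : h (0, y) = 0 := Prod.ext (hr y) hy
    have := h.map_eq_zero_iff.mp h0
    exact congrArg Prod.snd this
  let h₁ := LinearEquiv.ofInjectiveEndo f₁ inj1
  let h₂ := LinearEquiv.ofInjectiveEndo f₂ inj2
  have h1a : ∀ y, h₁ y = (h (y, 0)).1 := fun _ => rfl
  have h2a : ∀ y, h₂ y = (h (0, y)).2 := fun _ => rfl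
  have hsplit : ∀ p : PP F k l, h p = (h₁ p.1, h₂ p.2) := by
    intro p
    have e : p = (p.1, 0) + (0, p.2) := by simp
    have e2 : h p = h (p.1, 0) + h (0, p.2) := by
      conv_lhs => rw [e]
      exact map_add _ _ _
    have hl' : ∀ y, (h (y, 0)).2 = 0 := hl
    have hr' : ∀ y, (h (0, y)).1 = 0 := hr
    rw [e2, h1a, h2a]
    ext1
    · simp [hr']
    · simp [hl']
  refine ⟨(φ, h₁, h₂), ?_⟩
  show Psi b h₁ h₂ = x
  have hfst : (Psi b h₁ h₂).1 = x.1 := by
    ext1 p
    show b.1 (h₁ p.1, h₂ p.2) = x.1 p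
    rw [← hsplit]
    simp [h]
  have hsec : (Psi b h₁ h₂).2.1 = x.2.1 := by
    apply Subtype.ext
    refine LinearMap.ext fun y => ?_
    show h₁.symm (b.2.1.1 (h₁ y)) = x.2.1.1 y
    rw [LinearEquiv.symm_apply_eq, h1a, h1a]
    have := hh (y, 0)
    have e : Dg x.2.1.1 ((x.2.2 : (Fin l → F) ≃ₗ[F] (Fin l → F)) : (Fin l → F) →ₗ[F] (Fin l → F)) (y, 0) =
        (x.2.1.1 y, 0) := by simp
    rw [e] at this
    have := congrArg Prod.fst this
    exact this.symm
  have hthd : (Psi b h₁ h₂).2.2 = x.2.2 := by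
    refine LinearEquiv.ext fun y => ?_
    show h₂.symm (b.2.2 (h₂ y)) = x.2.2 y
    rw [LinearEquiv.symm_apply_eq, h2a, h2a]
    have := hh (0, y)
    have e : Dg x.2.1.1 ((x.2.2 : (Fin l → F) ≃ₗ[F] (Fin l → F)) : (Fin l → F) →ₗ[F] (Fin l → F)) (0, y) =
        (0, x.2.2 y) := by simp
    rw [e] at this
    have := congrArg Prod.snd this
    exact this.symm
  exact Prod.ext hfst (Prod.ext hsec hthd)

/-- The fibres of `Phi`: `|Tr| = |X| |GL_k| |GL_l|`. -/
theorem card_Tr [FiniteDimensional F V] :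
    Nat.card (Tr F k l V) = Nat.card (XX F k l V) *
      (Nat.card ((Fin k → F) ≃ₗ[F] (Fin k → F)) * Nat.card ((Fin l → F) ≃ₗ[F] (Fin l → F))) := by
  rw [← Nat.card_congr (Equiv.ofBijective _ ⟨Psi'_injective, Psi'_surjective⟩), Nat.card_prod,
    Nat.card_prod]

/-- Two block decompositions of the same endomorphism have the same sizes. -/
theorem sizes_le {k' l' : ℕ} (x : Tr F k l V) (y : Tr F k' l' V) (h : Phi x = Phi y) :
    k ≤ k' ∧ l ≤ l' := by
  let g : PP F k l ≃ₗ[F] PP F k' l' := x.1 ≪≫ₗ y.1.symm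
  have hh : ∀ p, (g : PP F k l →ₗ[F] PP F k' l') (Dg x.2.1.1 (x.2.2 : _ →ₗ[F] _) p) =
      Dg y.2.1.1 (y.2.2 : _ →ₗ[F] _) ((g : PP F k l →ₗ[F] PP F k' l') p) := by
    intro p
    have h1 := Phi_apply x p
    have h2 := Phi_apply y (y.1.symm (x.1 p))
    rw [LinearEquiv.apply_symm_apply, ← h, h1] at h2
    show y.1.symm (x.1 _) = _
    rw [h2, LinearEquiv.symm_apply_apply]
    rfl
  have hl := rigid_left x.2.1.2 _ hh
  have hr := rigid_right y.2.1.2 _ hh
  let f₁ : (Fin k → F) →ₗ[F] (Fin k' → F) :=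
    LinearMap.fst F _ _ ∘ₗ (g : PP F k l →ₗ[F] PP F k' l') ∘ₗ LinearMap.inl F _ _
  let f₂ : (Fin l → F) →ₗ[F] (Fin l' → F) :=
    LinearMap.snd F _ _ ∘ₗ (g : PP F k l →ₗ[F] PP F k' l') ∘ₗ LinearMap.inr F _ _
  have inj1 : Function.Injective f₁ := by
    rw [← LinearMap.ker_eq_bot, LinearMap.ker_eq_bot']
    intro z hz
    have h0 : g (z, 0) = 0 := Prod.ext hz (hl z)
    have := g.map_eq_zero_iff.mp h0
    exact congrArg Prod.fst this
  have inj2 : Function.Injective f₂ := by
    rw [← LinearMap.ker_eq_bot, LinearMap.ker_eq_bot']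
    intro z hz
    have h0 : g (0, z) = 0 := Prod.ext (hr z) hz
    have := g.map_eq_zero_iff.mp h0
    exact congrArg Prod.snd this
  have h1 := LinearMap.finrank_le_finrank_of_injective inj1
  have h2 := LinearMap.finrank_le_finrank_of_injective inj2
  simpa using And.intro h1 h2

end Triple

section Fitting

variable {V : Type*} [AddCommGroup V] [Module F V] [FiniteDimensional F V]

theorem conj_nil {W W' : Type*} [AddCommGroup W] [Module F W] [AddCommGroup W'] [Module F W']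
    (e : W ≃ₗ[F] W') {f : End F W} (hf : IsNilpotent f) :
    IsNilpotent ((e : W →ₗ[F] W') ∘ₗ f ∘ₗ (e.symm : W' →ₗ[F] W) : End F W') := by
  have := IsNilpotent.map hf (e.conjRingEquiv)
  exact this

/-- The Fitting decomposition gives a triple. -/
theorem exists_triple (φ : End F V) :
    ∃ k l, k + l = finrank F V ∧ ∃ x : Tr F k l V, Phi x = φ := by
  obtain ⟨m, hm, hm1⟩ := ((LinearMap.eventually_isCompl_ker_pow_range_pow φ).and
    (Filter.eventually_ge_atTop 1)).exists
  set K := (φ ^ m).ker with hKdef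
  set R := (φ ^ m).range with hRdef
  have hcomm : ∀ v, (φ ^ m) (φ v) = φ ((φ ^ m) v) := by
    intro v
    rw [← Module.End.mul_apply, ← Module.End.mul_apply, ← pow_succ, pow_succ']
  have hK : ∀ v ∈ K, φ v ∈ K := by
    intro v hv
    rw [hKdef, LinearMap.mem_ker] at hv ⊢
    rw [hcomm, hv, map_zero]
  have hR : ∀ v ∈ R, φ v ∈ R := by
    intro v hv
    rw [hRdef, LinearMap.mem_range] at hv ⊢
    obtain ⟨w, rfl⟩ := hv
    exact ⟨φ w, hcomm w⟩
  let φK : End F K := φ.restrict hK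
  let φR : End F R := φ.restrict hR
  have hnil : IsNilpotent φK := by
    refine ⟨m, ?_⟩
    have key : ∀ j (v : K), (((φK ^ j) v : K) : V) = (φ ^ j) v := by
      intro j v
      induction j generalizing v with
      | zero => simp
      | succ j ih =>
        rw [pow_succ, pow_succ, Module.End.mul_apply, Module.End.mul_apply, ih]
        rfl
    ext1 v
    apply Subtype.ext
    rw [key]
    exact v.2
  have hinj : Function.Injective φR := by
    rw [← LinearMap.ker_eq_bot, LinearMap.ker_eq_bot']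
    intro v hv
    have h1 : φ v = 0 := congrArg Subtype.val hv
    have h2 : (v : V) ∈ K := by
      rw [hKdef, LinearMap.mem_ker]
      have e : m = (m - 1) + 1 := by omega
      rw [e, pow_succ, Module.End.mul_apply, h1, map_zero]
    have h3 : (v : V) = 0 := by
      have := hm.disjoint
      rw [Submodule.disjoint_def] at this
      exact this _ h2 v.2
    exact Subtype.ext h3
  let k := finrank F K
  let l := finrank F R
  let e₁ : K ≃ₗ[F] (Fin k → F) := (Module.finBasis F K).equivFun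
  let e₂ : R ≃ₗ[F] (Fin l → F) := (Module.finBasis F R).equivFun
  let fr : PP F k l ≃ₗ[F] V :=
    (e₁.symm.prodCongr e₂.symm) ≪≫ₗ Submodule.prodEquivOfIsCompl K R hm
  let N : End F (Fin k → F) := (e₁ : K →ₗ[F] (Fin k → F)) ∘ₗ φK ∘ₗ (e₁.symm : (Fin k → F) →ₗ[F] K)
  have hN : IsNilpotent N := conj_nil e₁ hnil
  let A : (Fin l → F) ≃ₗ[F] (Fin l → F) :=
    e₂.symm ≪≫ₗ LinearEquiv.ofInjectiveEndo φR hinj ≪≫ₗ e₂
  refine ⟨k, l, Submodule.finrank_add_eq_of_isCompl hm, (fr, ⟨N, hN⟩, A), ?_⟩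
  apply Phi_eq_of
  rintro ⟨p₁, p₂⟩
  show φ (((e₁.symm p₁ : K) : V) + ((e₂.symm p₂ : R) : V)) =
    ((e₁.symm (N p₁) : K) : V) + ((e₂.symm (A p₂) : R) : V)
  rw [map_add]
  congr 1
  · show _ = ((e₁.symm (e₁ (φK (e₁.symm p₁))) : K) : V)
    rw [LinearEquiv.symm_apply_apply]
    rfl
  · show _ = ((e₂.symm (e₂ (φR (e₂.symm p₂))) : R) : V)
    rw [LinearEquiv.symm_apply_apply]
    rfl

end Fitting

section Count

variable [Fintype F]

/-- The number of nilpotent endomorphisms of `F^k`. -/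
noncomputable def nilC (F : Type*) [Field F] (k : ℕ) : ℕ :=
  Nat.card {N : End F (Fin k → F) // IsNilpotent N}

/-- The order of `GL(F^k)`. -/
noncomputable def glC (F : Type*) [Field F] (k : ℕ) : ℕ :=
  Nat.card ((Fin k → F) ≃ₗ[F] (Fin k → F))

theorem glC_pos (k : ℕ) : 0 < glC F k := by
  haveI : Finite ((Fin k → F) ≃ₗ[F] (Fin k → F)) :=
    Finite.of_injective (fun f => (f : (Fin k → F) → (Fin k → F))) DFunLike.coe_injective
  exact Nat.card_pos

theorem glC_eq (k : ℕ) : glC F k = Nat.card (Matrix.GeneralLinearGroup (Fin k) F) := by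
  unfold glC
  exact Nat.card_congr ((Matrix.GeneralLinearGroup.toLin.trans
    (LinearMap.GeneralLinearGroup.generalLinearEquiv F (Fin k → F))).toEquiv.symm)

theorem glC_succ (n : ℕ) :
    ((glC F (n + 1) : ℕ) : ℚ) =
      (glC F n : ℚ) * ((Fintype.card F : ℚ) ^ n * ((Fintype.card F : ℚ) ^ (n + 1) - 1)) := by
  set q := Fintype.card F with hq
  have hq1 : 1 ≤ q := Fintype.card_pos
  have hcast : ∀ (m : ℕ), ((glC F m : ℕ) : ℚ) = ∏ i ∈ Finset.range m, ((q : ℚ) ^ m - (q : ℚ) ^ i) := by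
    intro m
    rw [glC_eq, Matrix.card_GL_field, Nat.cast_prod,
      Fin.prod_univ_eq_prod_range (fun i => ((q ^ m - q ^ i : ℕ) : ℚ)) m]
    refine Finset.prod_congr rfl fun i hi => ?_
    have hi' := Finset.mem_range.mp hi
    rw [Nat.cast_sub (Nat.pow_le_pow_right hq1 hi'.le)]
    push_cast
    rfl
  rw [hcast, hcast, Finset.prod_range_succ']
  have : ∀ i ∈ Finset.range n, (q : ℚ) ^ (n + 1) - (q : ℚ) ^ (i + 1) =
      (q : ℚ) * ((q : ℚ) ^ n - (q : ℚ) ^ i) := by
    intro i _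
    ring
  rw [Finset.prod_congr rfl this, Finset.prod_mul_distrib, Finset.prod_const, Finset.card_range]
  simp only [pow_zero]
  ring

/-- The number of endomorphisms with nilpotent part of dimension `k`. -/
theorem card_XX {n k l : ℕ} (hkl : k + l = n) :
    glC F n * nilC F k = Nat.card (XX F k l (Fin n → F)) * glC F k := by
  have hfr : Nonempty (PP F k l ≃ₗ[F] (Fin n → F)) := by
    refine ⟨LinearEquiv.ofFinrankEq _ _ ?_⟩
    rw [Module.finrank_prod, Module.finrank_fin_fun, Module.finrank_fin_fun, Module.finrank_fin_fun, hkl]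
  obtain ⟨e₁⟩ := hfr
  have hframes : Nat.card (PP F k l ≃ₗ[F] (Fin n → F)) = glC F n := by
    unfold glC
    refine Nat.card_congr ⟨fun f => e₁.symm ≪≫ₗ f, fun f => e₁ ≪≫ₗ f, ?_, ?_⟩
    · intro f
      ext1 p
      simp
    · intro f
      ext1 p
      simp
  have h1 := card_Tr (F := F) (k := k) (l := l) (V := Fin n → F)
  rw [Nat.card_prod, Nat.card_prod, hframes] at h1
  have h2 : glC F n * nilC F k * glC F l = Nat.card (XX F k l (Fin n → F)) * glC F k * glC F l := by
    unfold nilC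
    unfold glC at *
    rw [mul_assoc, h1, mul_assoc]
  exact Nat.eq_of_mul_eq_mul_right (glC_pos l) h2

/-- The partition of all endomorphisms. -/
theorem card_End (n : ℕ) :
    (Fintype.card F) ^ (n * n) =
      ∑ k ∈ Finset.range (n + 1), Nat.card (XX F k (n - k) (Fin n → F)) := by
  classical
  have hcover : ∀ φ : End F (Fin n → F), ∃ k, k ≤ n ∧ ∃ x : Tr F k (n - k) (Fin n → F), Phi x = φ := by
    intro φ
    obtain ⟨k, l, hkl, x, hx⟩ := exists_triple φ
    rw [Module.finrank_fin_fun] at hkl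
    obtain rfl : l = n - k := by omega
    exact ⟨k, by omega, x, hx⟩
  let κ : End F (Fin n → F) → ℕ := fun φ => Classical.choose (hcover φ)
  have hκ1 : ∀ φ, κ φ ≤ n := fun φ => (Classical.choose_spec (hcover φ)).1
  have hκ2 : ∀ φ, ∃ x : Tr F (κ φ) (n - κ φ) (Fin n → F), Phi x = φ :=
    fun φ => (Classical.choose_spec (hcover φ)).2
  have hκ : ∀ φ k, k ≤ n → ((κ φ = k) ↔ ∃ x : Tr F k (n - k) (Fin n → F), Phi x = φ) := by
    intro φ k hk
    constructor
    · rintro rfl
      exact hκ2 φ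
    · rintro ⟨x, hx⟩
      obtain ⟨y, hy⟩ := hκ2 φ
      have h1 := sizes_le x y (hx.trans hy.symm)
      have h2 := sizes_le y x (hy.trans hx.symm)
      omega
  haveI : Finite (End F (Fin n → F)) :=
    Finite.of_injective (fun f => (f : (Fin n → F) → (Fin n → F))) DFunLike.coe_injective
  letI : Fintype (End F (Fin n → F)) := Fintype.ofFinite _
  have hcard : Fintype.card (End F (Fin n → F)) = (Fintype.card F) ^ (n * n) := by
    rw [← Nat.card_eq_fintype_card, Module.natCard_eq_pow_finrank (K := F), Module.finrank_linearMap,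
      Module.finrank_fin_fun, Nat.card_eq_fintype_card]
  rw [← hcard, ← Finset.card_univ, Finset.card_eq_sum_card_fiberwise (f := κ)
    (t := Finset.range (n + 1)) (fun φ _ => Finset.mem_coe.mpr (Finset.mem_range.mpr (by
      have := hκ1 φ
      omega)))]
  refine Finset.sum_congr rfl fun k hk => ?_
  have hk' : k ≤ n := by
    have := Finset.mem_range.mp hk
    omega
  rw [← Fintype.card_subtype, ← Nat.card_eq_fintype_card]
  exact Nat.card_congr (Equiv.subtypeEquivRight fun φ => by simpa using hκ φ k hk')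

/-- The main recursion. -/
theorem sum_formula (n : ℕ) :
    ((Fintype.card F : ℚ)) ^ (n * n) / glC F n =
      ∑ k ∈ Finset.range (n + 1), (nilC F k : ℚ) / glC F k := by
  have h := congrArg (fun x : ℕ => (x : ℚ)) (card_End (F := F) n)
  simp only [Nat.cast_pow, Nat.cast_sum] at h
  rw [h, Finset.sum_div]
  refine Finset.sum_congr rfl fun k hk => ?_
  have hk' : k ≤ n := by
    have := Finset.mem_range.mp hk
    omega
  have h1 := card_XX (F := F) (n := n) (k := k) (l := n - k) (by omega)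
  have h2 := congrArg (fun x : ℕ => (x : ℚ)) h1
  simp only [Nat.cast_mul] at h2
  have h3 : (glC F n : ℚ) ≠ 0 := by exact_mod_cast (glC_pos n).ne'
  have h4 : (glC F k : ℚ) ≠ 0 := by exact_mod_cast (glC_pos k).ne'
  field_simp
  linarith

/-- Fine–Herstein: the number of nilpotent endomorphisms of `F^n`. -/
theorem nilC_eq (n : ℕ) : nilC F n = (Fintype.card F) ^ (n * (n - 1)) := by
  have hq : (Fintype.card F : ℚ) ≠ 0 := by
    exact_mod_cast (Fintype.card_pos (α := F)).ne'
  cases n with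
  | zero =>
    have h := sum_formula (F := F) 0
    simp only [zero_add, Finset.sum_range_one, mul_zero, pow_zero, Nat.zero_mul] at h
    have h4 : (glC F 0 : ℚ) ≠ 0 := by exact_mod_cast (glC_pos 0).ne'
    field_simp at h
    have : nilC F 0 = 1 := by exact_mod_cast h.symm
    simpa using this
  | succ n =>
    have h1 := sum_formula (F := F) n
    have h2 := sum_formula (F := F) (n + 1)
    rw [Finset.sum_range_succ, ← h1, glC_succ] at h2
    have h3 : (glC F n : ℚ) ≠ 0 := by exact_mod_cast (glC_pos n).ne'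
    have h4 := glC_succ (F := F) n
    have h5 : ((glC F (n + 1) : ℕ) : ℚ) ≠ 0 := by exact_mod_cast (glC_pos (n + 1)).ne'
    have h6 : (Fintype.card F : ℚ) ^ (n + 1) - 1 ≠ 0 := by
      intro h
      rw [h4, h, mul_zero, mul_zero] at h5
      exact h5 rfl
    have h7 : (nilC F (n + 1) : ℚ) = (Fintype.card F : ℚ) ^ ((n + 1) * (n + 1 - 1)) := by
      have hpow : (n + 1) * (n + 1 - 1) = n * n + n := by
        rw [Nat.add_sub_cancel]
        ring
      rw [hpow]
      have hh : (Fintype.card F : ℚ) ^ (n * n) * ((Fintype.card F : ℚ) ^ n * ((Fintype.card F : ℚ) ^ (n + 1) - 1)) +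
          (nilC F (n + 1) : ℚ) = (Fintype.card F : ℚ) ^ ((n + 1) * (n + 1)) := by
        field_simp at h2
        linarith
      have e : (Fintype.card F : ℚ) ^ ((n + 1) * (n + 1)) =
          (Fintype.card F : ℚ) ^ (n * n) * (Fintype.card F : ℚ) ^ n * (Fintype.card F : ℚ) ^ (n + 1) := by
        rw [← pow_add, ← pow_add]
        congr 1
        ring
      rw [e] at hh
      rw [pow_add]
      linarith
    exact_mod_cast h7

end Count

section Unipotent

variable [Fintype F] (p : ℕ) [Fact p.Prime] [CharP F p] {n : ℕ}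

theorem order_iff (g : Matrix.GeneralLinearGroup (Fin n) F) :
    (∃ k : ℕ, orderOf g = p ^ k) ↔
      IsNilpotent ((g : Matrix (Fin n) (Fin n) F) - 1) := by
  have hp : p.Prime := Fact.out
  rcases Nat.eq_zero_or_pos n with rfl | hn
  · constructor
    · intro _
      exact ⟨1, Subsingleton.elim _ _⟩
    · intro _
      have : g = 1 := by
        apply Units.ext
        exact Subsingleton.elim _ _
      exact ⟨0, by simp [this]⟩
  · haveI : Nonempty (Fin n) := ⟨⟨0, hn⟩⟩
    haveI : CharP (Matrix (Fin n) (Fin n) F) p := Matrix.charP p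
    have hc : Commute (g : Matrix (Fin n) (Fin n) F) 1 := Commute.one_right _
    constructor
    · rintro ⟨k, hk⟩
      refine ⟨p ^ k, ?_⟩
      rw [sub_pow_char_pow_of_commute p k hc, one_pow, sub_eq_zero, ← Units.val_pow_eq_pow_val, ← hk,
        pow_orderOf_eq_one]
      rfl
    · rintro ⟨m, hm⟩
      have hlt : m ≤ p ^ m := (Nat.lt_pow_self hp.one_lt).le
      have h0 : ((g : Matrix (Fin n) (Fin n) F) - 1) ^ p ^ m = 0 := by
        rw [← Nat.sub_add_cancel hlt, pow_add, hm, mul_zero]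
      rw [sub_pow_char_pow_of_commute p m hc, one_pow, sub_eq_zero] at h0
      have h1 : g ^ p ^ m = 1 := by
        apply Units.ext
        rw [Units.val_pow_eq_pow_val, h0]
        rfl
      obtain ⟨j, _, hj⟩ := (Nat.dvd_prime_pow hp).mp (orderOf_dvd_of_pow_eq_one h1)
      exact ⟨j, hj⟩

/-- The unipotent elements of `GL_n` correspond to nilpotent matrices. -/
theorem card_unipotent :
    Nat.card {g : Matrix.GeneralLinearGroup (Fin n) F // ∃ k : ℕ, orderOf g = p ^ k} =
      Nat.card {N : Matrix (Fin n) (Fin n) F // IsNilpotent N} := by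
  let f : {g : Matrix.GeneralLinearGroup (Fin n) F // ∃ k : ℕ, orderOf g = p ^ k} →
      {N : Matrix (Fin n) (Fin n) F // IsNilpotent N} :=
    fun g => ⟨(g.1 : Matrix (Fin n) (Fin n) F) - 1, (order_iff p g.1).mp g.2⟩
  refine Nat.card_eq_of_bijective f ⟨?_, ?_⟩
  · intro g g' h
    have h1 : (g.1 : Matrix (Fin n) (Fin n) F) - 1 = (g'.1 : Matrix (Fin n) (Fin n) F) - 1 :=
      congrArg Subtype.val h
    apply Subtype.ext
    apply Units.ext
    exact sub_left_injective h1
  · rintro ⟨N, hN⟩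
    obtain ⟨u, hu⟩ := hN.isUnit_one_add
    have hu' : (u : Matrix (Fin n) (Fin n) F) - 1 = N := by
      rw [hu]
      abel
    refine ⟨⟨u, (order_iff p u).mpr (by rw [hu']; exact hN)⟩, ?_⟩
    exact Subtype.ext hu'

theorem card_nil_matrix :
    Nat.card {N : Matrix (Fin n) (Fin n) F // IsNilpotent N} = nilC F n := by
  unfold nilC
  refine Nat.card_congr (Equiv.subtypeEquiv (Matrix.toLinAlgEquiv' (R := F) (n := Fin n)).toEquiv ?_)
  intro N
  constructor
  · intro h
    exact IsNilpotent.map h (Matrix.toLinAlgEquiv' (R := F) (n := Fin n))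
  · intro h
    have := IsNilpotent.map h (Matrix.toLinAlgEquiv' (R := F) (n := Fin n)).symm
    simpa using this

/-- Steinberg's count for `GL_n`. -/
theorem main :
    Nat.card {g : Matrix.GeneralLinearGroup (Fin n) F // ∃ k : ℕ, orderOf g = p ^ k} =
      Fintype.card F ^ (n * (n - 1)) := by
  rw [card_unipotent p, card_nil_matrix, nilC_eq]

end Unipotent

end Cfsg.Agent.Lib.NilCount
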