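import Mathlib
import Cfsg.Agent.Lib.NilCount

/-!
# Unipotent classes of `GL_n(F)` and partitions of `n`
-/

set_option autoImplicit false
set_option linter.unusedSectionVars false
set_option linter.unusedSimpArgs false
set_option linter.unusedVariables false

namespace Cfsg.Agent.Lib.JordanClasses

open Module Polynomial DirectSum
open scoped Matrix

universe u

variable {F : Type*} [Field F]

/-! ### Similarity of endomorphisms -/

/-- Similarity of endomorphisms of possibly different spaces. -/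
def Sim {M M' : Type*} [AddCommGroup M] [Module F M] [AddCommGroup M'] [Module F M']
    (T : End F M) (T' : End F M') : Prop :=
  ∃ g : M ≃ₗ[F] M', ∀ v, g (T v) = T' (g v)

section SimLemmas

variable {M M' M'' : Type*} [AddCommGroup M] [Module F M] [AddCommGroup M'] [Module F M']
  [AddCommGroup M''] [Module F M''] {T : End F M} {T' : End F M'} {T'' : End F M''}

theorem Sim.refl (T : End F M) : Sim T T := ⟨LinearEquiv.refl F M, fun _ => rfl⟩

theorem Sim.symm (h : Sim T T') : Sim T' T := by
  obtain ⟨g, hg⟩ := h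
  refine ⟨g.symm, fun v => ?_⟩
  rw [LinearEquiv.symm_apply_eq, hg, LinearEquiv.apply_symm_apply]

theorem Sim.trans (h : Sim T T') (h' : Sim T' T'') : Sim T T'' := by
  obtain ⟨g, hg⟩ := h
  obtain ⟨g', hg'⟩ := h'
  refine ⟨g ≪≫ₗ g', fun v => ?_⟩
  simp only [LinearEquiv.trans_apply, hg, hg']

theorem Sim.pow (h : Sim T T') (j : ℕ) : ∃ g : M ≃ₗ[F] M', ∀ v, g ((T ^ j) v) = (T' ^ j) (g v) := by
  obtain ⟨g, hg⟩ := h
  refine ⟨g, fun v => ?_⟩
  induction j generalizing v with
  | zero => simp
  | succ j ih => rw [pow_succ, Module.End.mul_apply, ih, hg, pow_succ, Module.End.mul_apply]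

/-- The size of the kernel of `T ^ j`. -/
noncomputable def dk (T : End F M) (j : ℕ) : ℕ := Nat.card {v : M // (T ^ j) v = 0}

theorem Sim.dk_eq (h : Sim T T') (j : ℕ) : dk T j = dk T' j := by
  obtain ⟨g, hg⟩ := h.pow j
  refine Nat.card_congr (Equiv.subtypeEquiv g.toEquiv fun v => ?_)
  show (T ^ j) v = 0 ↔ (T' ^ j) (g v) = 0
  rw [← hg, g.map_eq_zero_iff]

theorem Sim.nil (h : Sim T T') (hT : IsNilpotent T) : IsNilpotent T' := by
  obtain ⟨m, hm⟩ := hT
  obtain ⟨g, hg⟩ := h.pow m
  refine ⟨m, ?_⟩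
  ext1 v
  obtain ⟨w, rfl⟩ := g.surjective v
  rw [← hg, hm]
  simp

end SimLemmas

/-! ### The shift -/

/-- The shift on `F^e`. -/
def Sh (F : Type*) [Field F] (e : ℕ) : End F (Fin e → F) where
  toFun v a := if h : a.val = 0 then 0 else v ⟨a.val - 1, by omega⟩
  map_add' v w := by
    ext a
    by_cases h : a.val = 0 <;> simp [h]
  map_smul' c v := by
    ext a
    by_cases h : a.val = 0 <;> simp [h]

theorem Sh_apply (e : ℕ) (v : Fin e → F) (a : Fin e) :
    Sh F e v a = if h : a.val = 0 then 0 else v ⟨a.val - 1, by omega⟩ := rfl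

theorem Sh_pow_apply (e j : ℕ) (v : Fin e → F) (a : Fin e) :
    (Sh F e ^ j) v a = if h : j ≤ a.val then v ⟨a.val - j, by omega⟩ else 0 := by
  induction j generalizing a with
  | zero => simp
  | succ j ih =>
    rw [pow_succ', Module.End.mul_apply, Sh_apply]
    by_cases h0 : a.val = 0
    · rw [dif_pos h0, dif_neg (by omega)]
    · rw [dif_neg h0, ih]
      by_cases hj : j + 1 ≤ a.val
      · rw [dif_pos (by simp; omega), dif_pos hj]
        congr 2
        simp
        omega
      · rw [dif_neg (by simp; omega), dif_neg hj]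

theorem Sh_pow_zero_iff (e j : ℕ) (v : Fin e → F) :
    (Sh F e ^ j) v = 0 ↔ ∀ b : Fin e, b.val + j < e → v b = 0 := by
  constructor
  · intro h b hb
    have := congrFun h ⟨b.val + j, hb⟩
    rw [Sh_pow_apply, dif_pos (by simp)] at this
    simpa using this
  · intro h
    ext a
    rw [Sh_pow_apply]
    by_cases hj : j ≤ a.val
    · rw [dif_pos hj]
      apply h
      have := a.2
      simp
      omega
    · rw [dif_neg hj]
      rfl

theorem card_ker_Sh [Fintype F] (e j : ℕ) :
    Nat.card {v : Fin e → F // (Sh F e ^ j) v = 0} = Fintype.card F ^ min j e := by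
  classical
  let A := {b : Fin e // ¬ (b.val + j < e)}
  have hcard : Fintype.card A = min j e := by
    rw [Fintype.card_subtype]
    have : (Finset.univ.filter fun b : Fin e => ¬ (b.val + j < e)) =
        (Finset.Ico (e - j) e).attachFin (fun a ha => (Finset.mem_Ico.mp ha).2) := by
      ext b
      simp
    rw [this, Finset.card_attachFin, Nat.card_Ico]
    omega
  have hequiv : {v : Fin e → F // (Sh F e ^ j) v = 0} ≃ (A → F) := by
    refine ⟨fun v b => v.1 b.1, fun w => ⟨fun b => if h : b.val + j < e then 0 else w ⟨b, h⟩, ?_⟩, ?_, ?_⟩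
    · rw [Sh_pow_zero_iff]
      intro b hb
      rw [dif_pos hb]
    · rintro ⟨v, hv⟩
      apply Subtype.ext
      ext b
      rw [Sh_pow_zero_iff] at hv
      by_cases h : b.val + j < e
      · simp only [dif_pos h]
        exact (hv b h).symm
      · simp only [dif_neg h]
    · intro w
      ext b
      simp only [dif_neg b.2]
      rfl
  rw [Nat.card_congr hequiv, Nat.card_eq_fintype_card, Fintype.card_fun, hcard]

/-! ### The model -/

/-- The product of shifts. -/
def Tm {ι : Type*} [Fintype ι] (e : ι → ℕ) : End F (∀ i, Fin (e i) → F) :=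
  LinearMap.pi fun i => Sh F (e i) ∘ₗ LinearMap.proj i

theorem Tm_apply {ι : Type*} [Fintype ι] (e : ι → ℕ) (v : ∀ i, Fin (e i) → F) (i : ι) :
    Tm e v i = Sh F (e i) (v i) := rfl

theorem Tm_pow_apply {ι : Type*} [Fintype ι] (e : ι → ℕ) (j : ℕ) (v : ∀ i, Fin (e i) → F) (i : ι) :
    (Tm e ^ j) v i = (Sh F (e i) ^ j) (v i) := by
  induction j generalizing v with
  | zero => simp
  | succ j ih =>
    rw [pow_succ, Module.End.mul_apply, ih, pow_succ, Module.End.mul_apply]
    rfl

theorem dk_Tm [Fintype F] {ι : Type*} [Fintype ι] (e : ι → ℕ) (j : ℕ) :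
    dk (Tm (F := F) e) j = Fintype.card F ^ ∑ i, min j (e i) := by
  unfold dk
  have hequiv : {v : ∀ i, Fin (e i) → F // (Tm e ^ j) v = 0} ≃
      ∀ i, {w : Fin (e i) → F // (Sh F (e i) ^ j) w = 0} := by
    refine Equiv.trans (Equiv.subtypeEquivRight fun v => ?_) Equiv.subtypePiEquivPi
    constructor
    · intro h i
      rw [← Tm_pow_apply, h]
      rfl
    · intro h
      ext1 i
      rw [Tm_pow_apply, h i]
      rfl
  rw [Nat.card_congr hequiv, Nat.card_pi]
  simp only [card_ker_Sh]
  rw [Finset.prod_pow_eq_pow_sum]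

theorem Tm_nil {ι : Type*} [Fintype ι] (e : ι → ℕ) : IsNilpotent (Tm (F := F) e) := by
  refine ⟨∑ i, e i, ?_⟩
  ext1 v
  ext i a
  rw [Tm_pow_apply, Sh_pow_apply, dif_neg]
  · rfl
  · have : e i ≤ ∑ i, e i := Finset.single_le_sum (fun _ _ => Nat.zero_le _) (Finset.mem_univ i)
    have := a.2
    omega

/-! ### Coefficients -/

section Poly

variable {e : ℕ} {P : Submodule F[X] F[X]}

/-- The first `e` coefficients of a polynomial. -/
def cf (e : ℕ) (f : F[X]) : Fin e → F := fun a => f.coeff a.val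

/-- The coefficient map on the quotient. -/
noncomputable def kap (P : Submodule F[X] F[X]) (e : ℕ) (q : F[X] ⧸ P) : Fin e → F :=
  cf e (Function.surjInv (Submodule.Quotient.mk_surjective P) q)

theorem kap_mk (hP : ∀ f, f ∈ P ↔ X ^ e ∣ f) (f : F[X]) :
    kap P e (Submodule.Quotient.mk f) = cf e f := by
  set g := Function.surjInv (Submodule.Quotient.mk_surjective P) (Submodule.Quotient.mk f) with hg
  have h1 : (Submodule.Quotient.mk g : F[X] ⧸ P) = Submodule.Quotient.mk f :=
    Function.surjInv_eq (Submodule.Quotient.mk_surjective P) _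
  rw [Submodule.Quotient.eq, hP, X_pow_dvd_iff] at h1
  ext a
  have := h1 a.val a.2
  rw [coeff_sub, sub_eq_zero] at this
  exact this

theorem kap_add (hP : ∀ f, f ∈ P ↔ X ^ e ∣ f) (q q' : F[X] ⧸ P) :
    kap P e (q + q') = kap P e q + kap P e q' := by
  obtain ⟨f, rfl⟩ := Submodule.Quotient.mk_surjective P q
  obtain ⟨f', rfl⟩ := Submodule.Quotient.mk_surjective P q'
  rw [← Submodule.Quotient.mk_add, kap_mk hP, kap_mk hP, kap_mk hP]
  ext a
  simp [cf]

theorem kap_C (hP : ∀ f, f ∈ P ↔ X ^ e ∣ f) (c : F) (q : F[X] ⧸ P) :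
    kap P e ((C c : F[X]) • q) = c • kap P e q := by
  obtain ⟨f, rfl⟩ := Submodule.Quotient.mk_surjective P q
  rw [← Submodule.Quotient.mk_smul, kap_mk hP, kap_mk hP]
  ext a
  simp [cf]

theorem kap_X (hP : ∀ f, f ∈ P ↔ X ^ e ∣ f) (q : F[X] ⧸ P) :
    kap P e ((X : F[X]) • q) = Sh F e (kap P e q) := by
  obtain ⟨f, rfl⟩ := Submodule.Quotient.mk_surjective P q
  rw [← Submodule.Quotient.mk_smul, kap_mk hP, kap_mk hP]
  ext a
  rw [Sh_apply]
  simp only [cf, smul_eq_mul]
  by_cases h : a.val = 0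
  · rw [dif_pos h, h, coeff_X_mul_zero]
  · rw [dif_neg h]
    obtain ⟨b, hb⟩ : ∃ b, a.val = b + 1 := ⟨a.val - 1, by omega⟩
    rw [hb, coeff_X_mul]
    simp

theorem kap_inj (hP : ∀ f, f ∈ P ↔ X ^ e ∣ f) : Function.Injective (kap P e) := by
  intro q q' h
  obtain ⟨f, rfl⟩ := Submodule.Quotient.mk_surjective P q
  obtain ⟨f', rfl⟩ := Submodule.Quotient.mk_surjective P q'
  rw [kap_mk hP, kap_mk hP] at h
  rw [Submodule.Quotient.eq, hP, X_pow_dvd_iff]
  intro d hd
  have := congrFun h ⟨d, hd⟩
  simp only [cf] at this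
  rw [coeff_sub, this, sub_self]

theorem kap_surj (hP : ∀ f, f ∈ P ↔ X ^ e ∣ f) : Function.Surjective (kap P e) := by
  intro v
  refine ⟨Submodule.Quotient.mk (∑ a : Fin e, monomial a.val (v a)), ?_⟩
  rw [kap_mk hP]
  ext b
  simp only [cf, finset_sum_coeff, coeff_monomial]
  rw [Finset.sum_eq_single b]
  · simp
  · intro c _ hc
    rw [if_neg (fun h => hc (Fin.ext h))]
  · simp

end Poly

/-- The structure theorem: a nilpotent endomorphism is similar to a product of shifts. -/
theorem exists_model {F : Type u} [Field F] {n : ℕ} (N : End F (Fin n → F)) (hN : IsNilpotent N) :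
    ∃ (ι : Type u) (_ : Fintype ι) (e : ι → ℕ), Sim N (Tm (F := F) e) := by
  classical
  obtain ⟨m, hm⟩ := hN
  have hT : Module.IsTorsion F[X] (AEval' N) := by
    intro x
    refine ⟨⟨X ^ m, mem_nonZeroDivisors_of_ne_zero (pow_ne_zero m X_ne_zero)⟩, ?_⟩
    obtain ⟨v, rfl⟩ := (AEval'.of N).surjective x
    show (X ^ m : F[X]) • AEval'.of N v = 0
    rw [AEval'.X_pow_smul_of, hm]
    simp
  obtain ⟨ι, _, p, hp, e, ⟨φ⟩⟩ := Module.equiv_directSum_of_isTorsion hT
  have hP : ∀ i, ∀ f : F[X], f ∈ (Submodule.span F[X] {p i ^ e i}) ↔ X ^ e i ∣ f := by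
    intro i f
    rw [Submodule.mem_span_singleton]
    have hdvd : ∀ f : F[X], (∃ a : F[X], a • (p i ^ e i) = f) ↔ p i ^ e i ∣ f := by
      intro f
      constructor
      · rintro ⟨a, rfl⟩
        exact Dvd.intro_left _ rfl
      · rintro ⟨a, rfl⟩
        exact ⟨a, by rw [smul_eq_mul, mul_comm]⟩
    rw [hdvd]
    by_cases he : e i = 0
    · rw [he]
      simp
    have hass : Associated (p i) X := by
      -- `X ^ m` kills the generator of the `i`-th summand
      let y : ⨁ i, F[X] ⧸ (Submodule.span F[X] {p i ^ e i}) :=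
        DirectSum.of (fun i => F[X] ⧸ (Submodule.span F[X] {p i ^ e i})) i (Submodule.Quotient.mk 1)
      obtain ⟨x, hx⟩ := φ.surjective y
      have h0 : (X ^ m : F[X]) • x = 0 := by
        obtain ⟨v, rfl⟩ := (AEval'.of N).surjective x
        rw [AEval'.X_pow_smul_of, hm]
        simp
      have h1 : (X ^ m : F[X]) • y = 0 := by
        rw [← hx, ← map_smul, h0, map_zero]
      have h2 : ((X ^ m : F[X]) • y) i = 0 := by
        rw [h1]
        rfl
      rw [DirectSum.smul_apply, DirectSum.of_eq_same, ← Submodule.Quotient.mk_smul,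
        Submodule.Quotient.mk_eq_zero, Submodule.mem_span_singleton, hdvd, smul_eq_mul, mul_one] at h2
      have h3 : p i ∣ X ^ m := (dvd_pow_self _ he).trans h2
      exact (hp i).associated_of_dvd irreducible_X ((hp i).prime.dvd_of_dvd_pow h3)
    exact (hass.pow_pow (n := e i)).dvd_iff_dvd_left
  let g : (Fin n → F) → ∀ i, Fin (e i) → F := fun v i =>
    kap (Submodule.span F[X] {p i ^ e i}) (e i) ((φ (AEval'.of N v)) i)
  have hadd : ∀ v w, g (v + w) = g v + g w := by
    intro v w
    ext1 i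
    simp only [g, map_add, DirectSum.add_apply]
    rw [kap_add (hP i)]
    rfl
  have hsmul : ∀ (c : F) v, g (c • v) = c • g v := by
    intro c v
    ext1 i
    simp only [g, map_smul]
    have e1 : c • AEval'.of N v = (C c : F[X]) • AEval'.of N v := by
      rw [Polynomial.C_eq_algebraMap, algebraMap_smul]
    rw [e1, map_smul, DirectSum.smul_apply, kap_C (hP i)]
    rfl
  have hX : ∀ v, g (N v) = Tm e (g v) := by
    intro v
    ext1 i
    simp only [g, Tm_apply]
    rw [← AEval'.X_smul_of, map_smul, DirectSum.smul_apply, kap_X (hP i)]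
  have hinj : Function.Injective g := by
    intro v w h
    have h1 : φ (AEval'.of N v) = φ (AEval'.of N w) := by
      refine DFinsupp.ext fun i => ?_
      exact kap_inj (hP i) (congrFun h i)
    exact (AEval'.of N).injective (φ.injective h1)
  have hsurj : Function.Surjective g := by
    intro w
    choose q hq using fun i => kap_surj (hP i) (w i)
    let y : ⨁ i, F[X] ⧸ (Submodule.span F[X] {p i ^ e i}) :=
      (DirectSum.linearEquivFunOnFintype F[X] ι (fun i => F[X] ⧸ (Submodule.span F[X] {p i ^ e i}))).symm q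
    have hy : ∀ i, y i = q i := by
      intro i
      exact congrFun ((DirectSum.linearEquivFunOnFintype F[X] ι
        (fun i => F[X] ⧸ (Submodule.span F[X] {p i ^ e i}))).apply_symm_apply q) i
    refine ⟨(AEval'.of N).symm (φ.symm y), ?_⟩
    ext1 i
    simp only [g, LinearEquiv.apply_symm_apply, hy, hq]
  let G : (Fin n → F) →ₗ[F] ∀ i, Fin (e i) → F :=
    { toFun := g, map_add' := hadd, map_smul' := hsmul }
  exact ⟨ι, inferInstance, e, LinearEquiv.ofBijective G ⟨hinj, hsurj⟩, hX⟩

/-! ### Comparing models -/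

section Compare

theorem Sim_reindex {ι ι' : Type*} [Fintype ι] [Fintype ι'] (σ : ι ≃ ι') (e' : ι' → ℕ) :
    Sim (Tm (F := F) (fun i => e' (σ i))) (Tm (F := F) e') := by
  classical
  let g := LinearEquiv.piCongrLeft F (fun i' => Fin (e' i') → F) σ
  have hg : ∀ (w : ∀ i, Fin (e' (σ i)) → F) (a : ι), g w (σ a) = w a := fun w a =>
    Equiv.piCongrLeft_apply_apply (fun i' => Fin (e' i') → F) σ w a
  refine ⟨g, fun v => ?_⟩
  ext1 i'
  obtain ⟨a, rfl⟩ := σ.surjective i'
  rw [hg, Tm_apply, Tm_apply, hg]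

theorem Sim_pos {ι : Type*} [Fintype ι] (e : ι → ℕ) [DecidablePred fun i => 0 < e i] :
    Sim (Tm (F := F) e) (Tm (F := F) (fun i : {i // 0 < e i} => e i.1)) := by
  let G : (∀ i, Fin (e i) → F) →ₗ[F] (∀ i : {i // 0 < e i}, Fin (e i.1) → F) :=
    { toFun := fun v i => v i.1, map_add' := fun _ _ => rfl, map_smul' := fun _ _ => rfl }
  have hinj : Function.Injective G := by
    intro v w h
    ext1 i
    by_cases hi : 0 < e i
    · exact congrFun h ⟨i, hi⟩
    · ext a
      have := a.2
      omega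
  have hsurj : Function.Surjective G := by
    intro w
    refine ⟨fun i => if h : 0 < e i then w ⟨i, h⟩ else 0, ?_⟩
    ext1 i
    show (if h : 0 < e i.1 then w ⟨i.1, h⟩ else 0) = w i
    rw [dif_pos i.2]
  exact ⟨LinearEquiv.ofBijective G ⟨hinj, hsurj⟩, fun v => rfl⟩

/-- The multiset of sizes. -/
def mset {ι : Type*} [Fintype ι] (e : ι → ℕ) : Multiset ℕ := Multiset.map e Finset.univ.val

theorem count_mset {ι : Type*} [Fintype ι] (e : ι → ℕ) (v : ℕ) :
    Multiset.count v (mset e) = (Finset.univ.filter fun i => e i = v).card := by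
  classical
  unfold mset
  rw [Multiset.count_map]
  simp only [Finset.card, Finset.filter_val, eq_comm]

theorem count_key {κ : Type*} [Fintype κ] [DecidableEq κ] (f : κ → ℕ) (hf : ∀ i, 0 < f i) (v : ℕ) (hv : 0 < v) :
    ((Finset.univ.filter fun i => f i = v).card : ℤ) =
      2 * ((∑ i, min v (f i) : ℕ) : ℤ) - ((∑ i, min (v - 1) (f i) : ℕ) : ℤ) -
        ((∑ i, min (v + 1) (f i) : ℕ) : ℤ) := by
  rw [Finset.card_filter]
  push_cast
  rw [Finset.mul_sum, ← Finset.sum_sub_distrib, ← Finset.sum_sub_distrib]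
  refine Finset.sum_congr rfl fun i _ => ?_
  by_cases hfi : f i = v
  · rw [if_pos hfi]
    omega
  · rw [if_neg hfi]
    omega

theorem mset_eq_of_min {ι ι' : Type*} [Fintype ι] [Fintype ι'] (e : ι → ℕ) (e' : ι' → ℕ)
    (he : ∀ i, 0 < e i) (he' : ∀ i, 0 < e' i)
    (h : ∀ j, ∑ i, min j (e i) = ∑ i, min j (e' i)) : mset e = mset e' := by
  classical
  ext v
  rw [count_mset, count_mset]
  rcases Nat.eq_zero_or_pos v with rfl | hv
  · rw [Finset.card_eq_zero.mpr, Finset.card_eq_zero.mpr]
    · rw [Finset.filter_eq_empty_iff]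
      intro i _
      exact (he' i).ne'
    · rw [Finset.filter_eq_empty_iff]
      intro i _
      exact (he i).ne'
  · have h1 := count_key e he v hv
    have h2 := count_key e' he' v hv
    rw [h v, h (v - 1), h (v + 1), ← h2] at h1
    exact_mod_cast h1

theorem exists_equiv_of_mset {ι ι' : Type*} [Fintype ι] [Fintype ι'] (e : ι → ℕ) (e' : ι' → ℕ)
    (h : mset e = mset e') : ∃ σ : ι ≃ ι', ∀ i, e' (σ i) = e i := by
  classical
  have hc : ∀ v, Fintype.card {i // e i = v} = Fintype.card {i // e' i = v} := by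
    intro v
    rw [Fintype.card_subtype, Fintype.card_subtype, ← count_mset, ← count_mset, h]
  have hτ := fun v => Fintype.card_eq.mp (hc v)
  let τ := fun v => (hτ v).some
  refine ⟨(Equiv.sigmaFiberEquiv e).symm.trans ((Equiv.sigmaCongrRight τ).trans
    (Equiv.sigmaFiberEquiv e')), fun i => ?_⟩
  show e' (τ (e i) ⟨i, rfl⟩).1 = e i
  exact (τ (e i) ⟨i, rfl⟩).2

theorem finrank_model {ι : Type*} [Fintype ι] (e : ι → ℕ) :
    finrank F (∀ i, Fin (e i) → F) = ∑ i, e i := by
  classical
  rw [Module.finrank_pi_fintype]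
  simp

end Compare

/-! ### The conjugacy criterion -/

section Conj

variable {n : ℕ}

/-- From `GL_n` to the linear equivalences. -/
noncomputable def Gm : Matrix.GeneralLinearGroup (Fin n) F ≃* ((Fin n → F) ≃ₗ[F] (Fin n → F)) :=
  Matrix.GeneralLinearGroup.toLin.trans (LinearMap.GeneralLinearGroup.generalLinearEquiv F (Fin n → F))

theorem Gm_apply (c : Matrix.GeneralLinearGroup (Fin n) F) (v : Fin n → F) :
    Gm c v = (c : Matrix (Fin n) (Fin n) F) *ᵥ v := rfl

/-- The endomorphism attached to `g - 1`. -/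
noncomputable def Tg (g : Matrix.GeneralLinearGroup (Fin n) F) : End F (Fin n → F) :=
  Matrix.toLin' ((g : Matrix (Fin n) (Fin n) F) - 1)

theorem Tg_apply (g : Matrix.GeneralLinearGroup (Fin n) F) (v : Fin n → F) :
    Tg g v = ((g : Matrix (Fin n) (Fin n) F) - 1) *ᵥ v := rfl

theorem isConj_iff_sim (g g' : Matrix.GeneralLinearGroup (Fin n) F) :
    IsConj g g' ↔ Sim (Tg g) (Tg g') := by
  rw [isConj_iff]
  constructor
  · rintro ⟨c, hc⟩
    have h1 : c * g = g' * c := by
      rw [← hc]
      group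
    have h2 : (c : Matrix (Fin n) (Fin n) F) * ((g : Matrix (Fin n) (Fin n) F) - 1) =
        ((g' : Matrix (Fin n) (Fin n) F) - 1) * c := by
      have := congrArg (fun x : Matrix.GeneralLinearGroup (Fin n) F =>
        (x : Matrix (Fin n) (Fin n) F)) h1
      simp only [Units.val_mul] at this
      rw [mul_sub, sub_mul, this, mul_one, one_mul]
    refine ⟨Gm c, fun v => ?_⟩
    rw [Gm_apply, Gm_apply, Tg_apply, Tg_apply, Matrix.mulVec_mulVec, Matrix.mulVec_mulVec, h2]
  · rintro ⟨ĝ, hĝ⟩
    let c := Gm.symm ĝ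
    have hc : ∀ v, Gm c v = ĝ v := by
      intro v
      simp [c]
    have h2 : (c : Matrix (Fin n) (Fin n) F) * ((g : Matrix (Fin n) (Fin n) F) - 1) =
        ((g' : Matrix (Fin n) (Fin n) F) - 1) * c := by
      apply Matrix.toLin'.injective
      refine LinearMap.ext fun v => ?_
      rw [Matrix.toLin'_apply, Matrix.toLin'_apply, ← Matrix.mulVec_mulVec, ← Matrix.mulVec_mulVec]
      rw [← Gm_apply, ← Gm_apply, hc, hc]
      exact hĝ v
    refine ⟨c, ?_⟩
    rw [mul_inv_eq_iff_eq_mul]
    apply Units.ext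
    rw [Units.val_mul, Units.val_mul]
    rw [mul_sub, sub_mul, mul_one, one_mul] at h2
    exact sub_left_injective h2

end Conj

/-! ### The Jordan model of a partition -/

section Main

variable {n : ℕ}

/-- The sizes of a partition, indexed by a `Fin`. -/
noncomputable def eP (l : Nat.Partition n) : Fin l.parts.toList.length → ℕ := fun i => l.parts.toList.get i

theorem mset_eP (l : Nat.Partition n) : mset (eP l) = l.parts := by
  unfold mset eP
  rw [Fin.univ_val_map, List.ofFn_get, Multiset.coe_toList]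

theorem eP_pos (l : Nat.Partition n) (i) : 0 < eP l i := by
  apply l.parts_pos
  rw [← mset_eP]
  exact Multiset.mem_map_of_mem _ (Finset.mem_univ i)

theorem sum_mset {ι : Type*} [Fintype ι] (e : ι → ℕ) : ∑ i, e i = (mset e).sum := rfl

theorem sum_eP (l : Nat.Partition n) : ∑ i, eP l i = n := by
  rw [sum_mset, mset_eP, l.parts_sum]

/-- A frame of the model of a partition. -/
noncomputable def thetaP (l : Nat.Partition n) :
    (∀ i, Fin (eP l i) → F) ≃ₗ[F] (Fin n → F) :=
  LinearEquiv.ofFinrankEq _ _ (by rw [finrank_model, sum_eP, Module.finrank_fin_fun])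

/-- The Jordan endomorphism of a partition. -/
noncomputable def NP (F : Type*) [Field F] (l : Nat.Partition n) : End F (Fin n → F) :=
  ((thetaP (F := F) l : _ ≃ₗ[F] _) : _ →ₗ[F] _) ∘ₗ Tm (eP l) ∘ₗ
    (((thetaP (F := F) l).symm : _ ≃ₗ[F] _) : _ →ₗ[F] _)

theorem Sim_NP (l : Nat.Partition n) : Sim (Tm (F := F) (eP l)) (NP F l) :=
  ⟨thetaP l, fun v => by simp [NP]⟩

theorem NP_nil (l : Nat.Partition n) : IsNilpotent (NP F l) := (Sim_NP l).nil (Tm_nil _)

/-- The Jordan matrix of a partition. -/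
noncomputable def JP (F : Type*) [Field F] (l : Nat.Partition n) : Matrix (Fin n) (Fin n) F :=
  LinearMap.toMatrix' (NP F l)

theorem JP_nil (l : Nat.Partition n) : IsNilpotent (JP F l) := by
  have := IsNilpotent.map (NP_nil (F := F) l) (Matrix.toLinAlgEquiv' (R := F) (n := Fin n)).symm
  exact this

/-- The unipotent element of a partition. -/
noncomputable def gP (F : Type*) [Field F] (l : Nat.Partition n) :
    Matrix.GeneralLinearGroup (Fin n) F :=
  (JP_nil (F := F) l).isUnit_one_add.unit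

theorem gP_coe (l : Nat.Partition n) :
    ((gP F l : Matrix.GeneralLinearGroup (Fin n) F) : Matrix (Fin n) (Fin n) F) = 1 + JP F l := rfl

theorem Tg_gP (l : Nat.Partition n) : Tg (gP F l) = NP F l := by
  unfold Tg
  rw [gP_coe, add_sub_cancel_left, JP, Matrix.toLin'_toMatrix']

theorem Tm_eP_inj [Fintype F] {l l' : Nat.Partition n}
    (h : Sim (Tm (F := F) (eP l)) (Tm (F := F) (eP l'))) : l = l' := by
  have hq : 1 < Fintype.card F := Fintype.one_lt_card
  have hmin : ∀ j, ∑ i, min j (eP l i) = ∑ i, min j (eP l' i) := by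
    intro j
    have := h.dk_eq j
    rw [dk_Tm, dk_Tm] at this
    exact Nat.pow_right_injective hq this
  have hm := mset_eq_of_min _ _ (eP_pos l) (eP_pos l') hmin
  rw [mset_eP, mset_eP] at hm
  exact Nat.Partition.ext hm

variable [Fintype F] (p : ℕ) [Fact p.Prime] [CharP F p]

theorem gP_order (l : Nat.Partition n) : ∃ k : ℕ, orderOf (gP F l) = p ^ k := by
  rw [NilCount.order_iff p, gP_coe, add_sub_cancel_left]
  exact JP_nil l

theorem exists_partition {F : Type u} [Field F] [Fintype F] [CharP F p]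
    (g : Matrix.GeneralLinearGroup (Fin n) F)
    (hg : ∃ k : ℕ, orderOf g = p ^ k) : ∃ l : Nat.Partition n, IsConj g (gP F l) := by
  classical
  have hN : IsNilpotent (Tg g) := by
    have := (NilCount.order_iff p g).mp hg
    exact IsNilpotent.map this (Matrix.toLinAlgEquiv' (R := F) (n := Fin n))
  obtain ⟨ι, _, e, hS⟩ := exists_model (Tg g) hN
  have hS2 := hS.trans (Sim_pos (F := F) e)
  set ep : {i // 0 < e i} → ℕ := fun i => e i.1 with hep
  have hsum : ∑ i, ep i = n := by
    obtain ⟨G, _⟩ := hS2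
    have := G.finrank_eq
    rw [finrank_model, Module.finrank_fin_fun] at this
    exact this.symm
  let l : Nat.Partition n :=
    { parts := mset ep
      parts_pos := by
        intro i hi
        obtain ⟨a, _, rfl⟩ := Multiset.mem_map.mp hi
        exact a.2
      parts_sum := hsum }
  refine ⟨l, ?_⟩
  have hm : mset ep = mset (eP l) := by
    rw [mset_eP]
  obtain ⟨σ, hσ⟩ := exists_equiv_of_mset _ _ hm
  have hfun : ep = fun i => eP l (σ i) := by
    funext i
    exact (hσ i).symm
  have hS3 : Sim (Tm (F := F) ep) (Tm (F := F) (eP l)) := by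
    rw [hfun]
    exact Sim_reindex σ (eP l)
  rw [isConj_iff_sim, Tg_gP]
  exact hS2.trans (hS3.trans (Sim_NP l))

/-- The unipotent classes of `GL_n` correspond to the partitions of `n`. -/
theorem main {F : Type u} [Field F] [Fintype F] [CharP F p] (n : ℕ) :
    Nat.card {C : ConjClasses (Matrix.GeneralLinearGroup (Fin n) F) //
      ∃ g : Matrix.GeneralLinearGroup (Fin n) F, (∃ k : ℕ, orderOf g = p ^ k) ∧ ConjClasses.mk g = C} =
      Fintype.card (Nat.Partition n) := by
  rw [← Nat.card_eq_fintype_card]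
  symm
  refine Nat.card_eq_of_bijective (fun l => ⟨ConjClasses.mk (gP F l), gP F l, gP_order p l, rfl⟩) ⟨?_, ?_⟩
  · intro l l' h
    have h1 : ConjClasses.mk (gP F l) = ConjClasses.mk (gP F l') := congrArg Subtype.val h
    rw [ConjClasses.mk_eq_mk_iff_isConj, isConj_iff_sim, Tg_gP, Tg_gP] at h1
    exact Tm_eP_inj ((Sim_NP l).trans (h1.trans (Sim_NP l').symm))
  · rintro ⟨C, g, hg, rfl⟩
    obtain ⟨l, hl⟩ := exists_partition p g hg
    refine ⟨l, Subtype.ext ?_⟩
    exact (ConjClasses.mk_eq_mk_iff_isConj.mpr hl).symm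

end Main

end Cfsg.Agent.Lib.JordanClasses
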