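import Mathlib
import Cfsg.Agent.Lib.JordanClasses

/-!
# Elements of order prime to the characteristic in `GL_n(F)`, `F` finite

Such an element is similar to a product of multiplications by roots on fields `F[X]/(f_i)`.
-/

set_option autoImplicit false
set_option linter.unusedSectionVars false
set_option linter.unusedSimpArgs false
set_option linter.unusedVariables false

namespace Cfsg.Agent.Lib.SemisimpleGL

open Module Polynomial DirectSum Cfsg.Agent.Lib.JordanClasses
open scoped Matrix

universe u v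

variable {F : Type*} [Field F]

/-! ### Products of endomorphisms -/

/-- The product of a family of endomorphisms. -/
def piE {ι : Type*} {M : ι → Type*} [∀ i, AddCommGroup (M i)] [∀ i, Module F (M i)]
    (T : ∀ i, End F (M i)) : End F (∀ i, M i) :=
  LinearMap.pi fun i => T i ∘ₗ LinearMap.proj i

theorem piE_apply {ι : Type*} {M : ι → Type*} [∀ i, AddCommGroup (M i)] [∀ i, Module F (M i)]
    (T : ∀ i, End F (M i)) (v : ∀ i, M i) (i : ι) : piE T v i = T i (v i) := rfl

/-- The statement to be proved by induction on the index type. -/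
def PcS (F : Type*) [Field F] (ι : Type u) : Prop :=
  ∀ [Fintype ι] (M : ι → Type v) [∀ i, AddCommGroup (M i)] [∀ i, Module F (M i)]
    [∀ i, FiniteDimensional F (M i)] (T : ∀ i, End F (M i)),
    (piE T).charpoly = ∏ i, (T i).charpoly

theorem charpoly_piE_aux (ι : Type u) [Finite ι] : PcS.{u, v} F ι := by
  refine Finite.induction_empty_option (P := PcS.{u, v} F) ?_ ?_ ?_ ι
  · intro α β e ih _ M _ _ _ T
    classical
    letI : Fintype α := Fintype.ofEquiv β e.symm
    have h := ih (fun a => M (e a)) (fun a => T (e a))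
    let g := LinearEquiv.piCongrLeft F M e
    have hg : ∀ (w : ∀ a, M (e a)) (a : α), g w (e a) = w a := fun w a =>
      Equiv.piCongrLeft_apply_apply M e w a
    have hconj : piE T = g.conj (piE fun a => T (e a)) := by
      refine LinearMap.ext fun v => ?_
      obtain ⟨w, rfl⟩ := g.surjective v
      funext b
      obtain ⟨a, rfl⟩ := e.surjective b
      rw [piE_apply, hg]
      simp only [LinearEquiv.conj_apply, LinearMap.comp_apply, LinearEquiv.coe_coe,
        LinearEquiv.symm_apply_apply]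
      rw [hg, piE_apply]
    rw [hconj, LinearEquiv.charpoly_conj, h]
    exact Fintype.prod_equiv e _ _ fun _ => rfl
  · intro _ M _ _ _ T
    simp only [Finset.univ_eq_empty, Finset.prod_empty]
    have hm := LinearMap.charpoly_monic (piE T)
    have hd : (LinearMap.charpoly (piE T)).natDegree = 0 := by
      rw [LinearMap.charpoly_natDegree]
      exact Module.finrank_zero_of_subsingleton
    exact (Polynomial.Monic.natDegree_eq_zero hm).mp hd
  · intro α _ ih _ M _ _ _ T
    classical
    have h := ih (fun a => M (some a)) (fun a => T (some a))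
    let g : (∀ i, M i) ≃ₗ[F] (M none × ∀ a : α, M (some a)) :=
      { Equiv.piOptionEquivProd with
        map_add' := fun _ _ => rfl
        map_smul' := fun _ _ => rfl }
    have hconj : piE T = g.symm.conj ((T none).prodMap (piE fun a => T (some a))) := by
      refine LinearMap.ext fun v => ?_
      obtain ⟨w, rfl⟩ := g.symm.surjective v
      funext b
      cases b with
      | none => simp [LinearEquiv.conj_apply, piE_apply, g, Equiv.piOptionEquivProd]
      | some a => simp [LinearEquiv.conj_apply, piE_apply, g, Equiv.piOptionEquivProd]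
    rw [hconj, LinearEquiv.charpoly_conj, LinearMap.charpoly_prodMap, h]
    convert (Fintype.prod_option (fun i => LinearMap.charpoly (T i))).symm

theorem charpoly_piE {ι : Type u} [Fintype ι] {M : ι → Type v} [∀ i, AddCommGroup (M i)]
    [∀ i, Module F (M i)] [∀ i, FiniteDimensional F (M i)] (T : ∀ i, End F (M i)) :
    (piE T).charpoly = ∏ i, (T i).charpoly :=
  charpoly_piE_aux ι M T

/-- The same induction for the determinant. -/
def PdS (F : Type*) [Field F] (ι : Type u) : Prop :=
  ∀ [Fintype ι] (M : ι → Type v) [∀ i, AddCommGroup (M i)] [∀ i, Module F (M i)]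
    [∀ i, FiniteDimensional F (M i)] (T : ∀ i, End F (M i)),
    LinearMap.det (piE T) = ∏ i, LinearMap.det (T i)

theorem det_piE_aux (ι : Type u) [Finite ι] : PdS.{u, v} F ι := by
  refine Finite.induction_empty_option (P := PdS.{u, v} F) ?_ ?_ ?_ ι
  · intro α β e ih _ M _ _ _ T
    classical
    letI : Fintype α := Fintype.ofEquiv β e.symm
    have h := ih (fun a => M (e a)) (fun a => T (e a))
    let g := LinearEquiv.piCongrLeft F M e
    have hg : ∀ (w : ∀ a, M (e a)) (a : α), g w (e a) = w a := fun w a =>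
      Equiv.piCongrLeft_apply_apply M e w a
    have hconj : piE T = g.conj (piE fun a => T (e a)) := by
      refine LinearMap.ext fun v => ?_
      obtain ⟨w, rfl⟩ := g.surjective v
      funext b
      obtain ⟨a, rfl⟩ := e.surjective b
      rw [piE_apply, hg]
      simp only [LinearEquiv.conj_apply, LinearMap.comp_apply, LinearEquiv.coe_coe,
        LinearEquiv.symm_apply_apply]
      rw [hg, piE_apply]
    rw [hconj, LinearEquiv.conj_apply, LinearMap.comp_assoc, LinearMap.det_conj, h]
    exact Fintype.prod_equiv e _ _ fun _ => rfl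
  · intro _ M _ _ _ T
    simp only [Finset.univ_eq_empty, Finset.prod_empty]
    exact LinearMap.det_eq_one_of_finrank_eq_zero (Module.finrank_zero_of_subsingleton) _
  · intro α _ ih _ M _ _ _ T
    classical
    have h := ih (fun a => M (some a)) (fun a => T (some a))
    let g : (∀ i, M i) ≃ₗ[F] (M none × ∀ a : α, M (some a)) :=
      { Equiv.piOptionEquivProd with
        map_add' := fun _ _ => rfl
        map_smul' := fun _ _ => rfl }
    have hconj : piE T = g.symm.conj ((T none).prodMap (piE fun a => T (some a))) := by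
      refine LinearMap.ext fun v => ?_
      obtain ⟨w, rfl⟩ := g.symm.surjective v
      funext b
      cases b with
      | none => simp [LinearEquiv.conj_apply, piE_apply, g, Equiv.piOptionEquivProd]
      | some a => simp [LinearEquiv.conj_apply, piE_apply, g, Equiv.piOptionEquivProd]
    rw [hconj, LinearEquiv.conj_apply, LinearMap.comp_assoc, LinearMap.det_conj, LinearMap.det_prodMap, h]
    convert (Fintype.prod_option (fun i => LinearMap.det (T i))).symm

theorem det_piE {ι : Type u} [Fintype ι] {M : ι → Type v} [∀ i, AddCommGroup (M i)]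
    [∀ i, Module F (M i)] [∀ i, FiniteDimensional F (M i)] (T : ∀ i, End F (M i)) :
    LinearMap.det (piE T) = ∏ i, LinearMap.det (T i) :=
  det_piE_aux ι M T

/-! ### The model -/

section Model

/-- Multiplication by the root. -/
noncomputable def rootMul (f : F[X]) : End F (AdjoinRoot f) :=
  Algebra.lmul F (AdjoinRoot f) (AdjoinRoot.root f)

theorem rootMul_apply (f : F[X]) (a : AdjoinRoot f) : rootMul f a = AdjoinRoot.root f * a := rfl

theorem charpoly_rootMul {f : F[X]} [Module.Finite F (AdjoinRoot f)] (hf : f.Monic) :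
    (rootMul f).charpoly = f := by
  let pb := AdjoinRoot.powerBasis' hf
  have h1 : (Algebra.leftMulMatrix pb.basis pb.gen).charpoly = minpoly F pb.gen :=
    charpoly_leftMulMatrix pb
  have h2 : pb.gen = AdjoinRoot.root f := rfl
  rw [Algebra.leftMulMatrix_apply, LinearMap.charpoly_toMatrix, h2, AdjoinRoot.minpoly_root hf.ne_zero,
    hf.leadingCoeff] at h1
  simpa [rootMul] using h1

theorem finrank_adjoinRoot {f : F[X]} (hf : f.Monic) : finrank F (AdjoinRoot f) = f.natDegree := by
  have := (AdjoinRoot.powerBasis' hf).finrank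
  rw [this]
  rfl

/-- The model. -/
noncomputable def TT {ι : Type*} (f : ι → F[X]) : End F (∀ i, AdjoinRoot (f i)) :=
  piE fun i => rootMul (f i)

theorem charpoly_TT {ι : Type u} [Fintype ι] {f : ι → F[X]} (hf : ∀ i, (f i).Monic) :
    haveI := fun i => (hf i).finite_adjoinRoot
    (TT f).charpoly = ∏ i, f i := by
  haveI := fun i => (hf i).finite_adjoinRoot
  rw [TT, charpoly_piE]
  exact Finset.prod_congr rfl fun i _ => charpoly_rootMul (hf i)

theorem finrank_TT {ι : Type*} [Fintype ι] {f : ι → F[X]} (hf : ∀ i, (f i).Monic) :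
    finrank F (∀ i, AdjoinRoot (f i)) = ∑ i, (f i).natDegree := by
  classical
  haveI := fun i => (hf i).finite_adjoinRoot
  rw [Module.finrank_pi_fintype]
  exact Finset.sum_congr rfl fun i _ => finrank_adjoinRoot (hf i)

theorem Sim_reindexT {ι ι' : Type*} [Fintype ι] [Fintype ι'] (σ : ι ≃ ι') (f' : ι' → F[X]) :
    Sim (TT (fun i => f' (σ i))) (TT f') := by
  classical
  let g := LinearEquiv.piCongrLeft F (fun i' => AdjoinRoot (f' i')) σ
  have hg : ∀ (w : ∀ i, AdjoinRoot (f' (σ i))) (a : ι), g w (σ a) = w a := fun w a =>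
    Equiv.piCongrLeft_apply_apply (fun i' => AdjoinRoot (f' i')) σ w a
  refine ⟨g, fun v => ?_⟩
  funext i'
  obtain ⟨a, rfl⟩ := σ.surjective i'
  rw [hg]
  show rootMul _ (v a) = rootMul _ (g v (σ a))
  rw [hg]

/-! Coefficient map for the structure theorem. -/

/-- The map from the abstract quotient to `AdjoinRoot`. -/
noncomputable def kapR (P : Submodule F[X] F[X]) (f : F[X]) (q : F[X] ⧸ P) : AdjoinRoot f :=
  AdjoinRoot.mk f (Function.surjInv (Submodule.Quotient.mk_surjective P) q)

variable {P : Submodule F[X] F[X]} {f : F[X]}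

theorem kapR_mk (hP : ∀ h, h ∈ P ↔ f ∣ h) (h : F[X]) :
    kapR P f (Submodule.Quotient.mk h) = AdjoinRoot.mk f h := by
  set g := Function.surjInv (Submodule.Quotient.mk_surjective P) (Submodule.Quotient.mk h) with hg
  have h1 : (Submodule.Quotient.mk g : F[X] ⧸ P) = Submodule.Quotient.mk h :=
    Function.surjInv_eq (Submodule.Quotient.mk_surjective P) _
  rw [Submodule.Quotient.eq, hP] at h1
  exact AdjoinRoot.mk_eq_mk.mpr h1

theorem kapR_add (hP : ∀ h, h ∈ P ↔ f ∣ h) (q q' : F[X] ⧸ P) :
    kapR P f (q + q') = kapR P f q + kapR P f q' := by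
  obtain ⟨h, rfl⟩ := Submodule.Quotient.mk_surjective P q
  obtain ⟨h', rfl⟩ := Submodule.Quotient.mk_surjective P q'
  rw [← Submodule.Quotient.mk_add, kapR_mk hP, kapR_mk hP, kapR_mk hP, map_add]

theorem kapR_C (hP : ∀ h, h ∈ P ↔ f ∣ h) (c : F) (q : F[X] ⧸ P) :
    kapR P f ((C c : F[X]) • q) = c • kapR P f q := by
  obtain ⟨h, rfl⟩ := Submodule.Quotient.mk_surjective P q
  rw [← Submodule.Quotient.mk_smul, kapR_mk hP, kapR_mk hP, smul_eq_mul, map_mul,
    Algebra.smul_def]
  rfl

theorem kapR_X (hP : ∀ h, h ∈ P ↔ f ∣ h) (q : F[X] ⧸ P) :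
    kapR P f ((X : F[X]) • q) = rootMul f (kapR P f q) := by
  obtain ⟨h, rfl⟩ := Submodule.Quotient.mk_surjective P q
  rw [← Submodule.Quotient.mk_smul, kapR_mk hP, kapR_mk hP, smul_eq_mul, map_mul, AdjoinRoot.mk_X]
  rfl

theorem kapR_inj (hP : ∀ h, h ∈ P ↔ f ∣ h) : Function.Injective (kapR P f) := by
  intro q q' h
  obtain ⟨g, rfl⟩ := Submodule.Quotient.mk_surjective P q
  obtain ⟨g', rfl⟩ := Submodule.Quotient.mk_surjective P q'
  rw [kapR_mk hP, kapR_mk hP, AdjoinRoot.mk_eq_mk] at h
  rw [Submodule.Quotient.eq, hP]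
  exact h

theorem kapR_surj (hP : ∀ h, h ∈ P ↔ f ∣ h) : Function.Surjective (kapR P f) := by
  intro v
  obtain ⟨g, rfl⟩ := AdjoinRoot.mk_surjective v
  exact ⟨Submodule.Quotient.mk g, kapR_mk hP g⟩

end Model

/-- The structure theorem for an endomorphism of order prime to the characteristic. -/
theorem exists_ss_model {F : Type u} [Field F] {n : ℕ} (T : End F (Fin n → F)) {m : ℕ}
    (hm : (m : F) ≠ 0) (hT : T ^ m = 1) :
    ∃ (ι : Type u) (_ : Fintype ι) (f : ι → F[X]), (∀ i, (f i).Monic) ∧ (∀ i, Irreducible (f i)) ∧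
      Sim T (TT f) := by
  classical
  have hm0 : m ≠ 0 := by
    rintro rfl
    simp at hm
  have hne : (X ^ m - C 1 : F[X]) ≠ 0 := X_pow_sub_C_ne_zero (Nat.pos_of_ne_zero hm0) 1
  have hkill : ∀ x : AEval' T, (X ^ m - C 1 : F[X]) • x = 0 := by
    intro x
    obtain ⟨v, rfl⟩ := (AEval'.of T).surjective x
    rw [sub_smul, AEval'.X_pow_smul_of, hT, map_one, one_smul]
    simp
  have hTor : Module.IsTorsion F[X] (AEval' T) := by
    intro x
    exact ⟨⟨X ^ m - C 1, mem_nonZeroDivisors_of_ne_zero hne⟩, hkill x⟩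
  obtain ⟨ι, _, p, hp, e, ⟨φ⟩⟩ := Module.equiv_directSum_of_isTorsion hTor
  have hsf : Squarefree (X ^ m - C 1 : F[X]) :=
    (separable_X_pow_sub_C 1 hm one_ne_zero).squarefree
  have hdvd : ∀ i (f : F[X]), (∃ a : F[X], a • (p i ^ e i) = f) ↔ p i ^ e i ∣ f := by
    intro i f
    constructor
    · rintro ⟨a, rfl⟩
      exact Dvd.intro_left _ rfl
    · rintro ⟨a, rfl⟩
      exact ⟨a, by rw [smul_eq_mul, mul_comm]⟩
  have hann : ∀ i, p i ^ e i ∣ (X ^ m - C 1 : F[X]) := by
    intro i
    let y : ⨁ i, F[X] ⧸ (Submodule.span F[X] {p i ^ e i}) :=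
      DirectSum.of (fun i => F[X] ⧸ (Submodule.span F[X] {p i ^ e i})) i (Submodule.Quotient.mk 1)
    obtain ⟨x, hx⟩ := φ.surjective y
    have h1 : (X ^ m - C 1 : F[X]) • y = 0 := by
      rw [← hx, ← map_smul, hkill, map_zero]
    have h2 : ((X ^ m - C 1 : F[X]) • y) i = 0 := by
      rw [h1]
      rfl
    rw [DirectSum.smul_apply, DirectSum.of_eq_same, ← Submodule.Quotient.mk_smul,
      Submodule.Quotient.mk_eq_zero, Submodule.mem_span_singleton, hdvd, smul_eq_mul, mul_one] at h2
    exact h2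
  have he1 : ∀ i, e i ≠ 0 → e i = 1 := by
    intro i hi
    by_contra h2
    have h3 : 2 ≤ e i := by omega
    have h4 : p i * p i ∣ (X ^ m - C 1 : F[X]) := by
      refine Dvd.dvd.trans ?_ (hann i)
      rw [← pow_two]
      exact pow_dvd_pow _ h3
    exact (hp i).not_isUnit (hsf _ h4)
  -- the monic generators
  let f : {i // e i ≠ 0} → F[X] := fun i => p i.1 * C (p i.1).leadingCoeff⁻¹
  have hass : ∀ i : {i // e i ≠ 0}, Associated (p i.1) (f i) := by
    intro i
    have hu : IsUnit (C (p i.1).leadingCoeff⁻¹ : F[X]) :=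
      isUnit_C.mpr (IsUnit.mk0 _ (inv_ne_zero (leadingCoeff_ne_zero.mpr (hp i.1).ne_zero)))
    exact associated_mul_unit_right _ _ hu
  have hfm : ∀ i, (f i).Monic := fun i => monic_mul_leadingCoeff_inv (hp i.1).ne_zero
  have hfi : ∀ i, Irreducible (f i) := fun i => (hass i).irreducible (hp i.1)
  have hP : ∀ (i : {i // e i ≠ 0}) (h : F[X]),
      h ∈ (Submodule.span F[X] {p i.1 ^ e i.1}) ↔ f i ∣ h := by
    intro i h
    rw [Submodule.mem_span_singleton, hdvd, he1 i.1 i.2, pow_one]
    exact (hass i).dvd_iff_dvd_left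
  let g : (Fin n → F) → ∀ i, AdjoinRoot (f i) := fun v i =>
    kapR (Submodule.span F[X] {p i.1 ^ e i.1}) (f i) ((φ (AEval'.of T v)) i.1)
  have hadd : ∀ v w, g (v + w) = g v + g w := by
    intro v w
    funext i
    simp only [g, map_add, DirectSum.add_apply]
    rw [kapR_add (hP i)]
    rfl
  have hsmul : ∀ (c : F) v, g (c • v) = c • g v := by
    intro c v
    funext i
    simp only [g, map_smul]
    have e1 : c • AEval'.of T v = (C c : F[X]) • AEval'.of T v := by
      rw [Polynomial.C_eq_algebraMap, algebraMap_smul]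
    rw [e1, map_smul, DirectSum.smul_apply, kapR_C (hP i)]
    rfl
  have hX : ∀ v, g (T v) = TT f (g v) := by
    intro v
    funext i
    simp only [g]
    rw [← AEval'.X_smul_of, map_smul, DirectSum.smul_apply, kapR_X (hP i)]
    rfl
  have hinj : Function.Injective g := by
    intro v w h
    have h1 : φ (AEval'.of T v) = φ (AEval'.of T w) := by
      refine DFinsupp.ext fun i => ?_
      by_cases hi : e i = 0
      · have hsub : Subsingleton (F[X] ⧸ (Submodule.span F[X] {p i ^ e i})) := by
          rw [hi, pow_zero]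
          apply Submodule.Quotient.subsingleton_iff.mpr
          exact Ideal.span_singleton_one
        exact Subsingleton.elim _ _
      · exact kapR_inj (hP ⟨i, hi⟩) (congrFun h ⟨i, hi⟩)
    exact (AEval'.of T).injective (φ.injective h1)
  have hsurj : Function.Surjective g := by
    intro w
    choose q hq using fun i => kapR_surj (hP i) (w i)
    let q' : ∀ i, F[X] ⧸ (Submodule.span F[X] {p i ^ e i}) := fun i =>
      if h : e i ≠ 0 then q ⟨i, h⟩ else 0
    let y : ⨁ i, F[X] ⧸ (Submodule.span F[X] {p i ^ e i}) :=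
      (DirectSum.linearEquivFunOnFintype F[X] ι (fun i => F[X] ⧸ (Submodule.span F[X] {p i ^ e i}))).symm q'
    have hy : ∀ i, y i = q' i := by
      intro i
      exact congrFun ((DirectSum.linearEquivFunOnFintype F[X] ι
        (fun i => F[X] ⧸ (Submodule.span F[X] {p i ^ e i}))).apply_symm_apply q') i
    refine ⟨(AEval'.of T).symm (φ.symm y), ?_⟩
    funext i
    simp only [g, LinearEquiv.apply_symm_apply, hy, q']
    rw [dif_pos i.2]
    exact hq i
  let G : (Fin n → F) →ₗ[F] ∀ i, AdjoinRoot (f i) :=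
    { toFun := g, map_add' := hadd, map_smul' := hsmul }
  exact ⟨_, inferInstance, f, hfm, hfi, LinearEquiv.ofBijective G ⟨hinj, hsurj⟩, hX⟩

/-! ### Conjugacy -/

theorem sim_charpoly_eq {M M' : Type*} [AddCommGroup M] [Module F M] [AddCommGroup M'] [Module F M']
    [FiniteDimensional F M] [FiniteDimensional F M'] {T : End F M} {T' : End F M'} (h : Sim T T') :
    T.charpoly = T'.charpoly := by
  obtain ⟨g, hg⟩ := h
  have : T' = g.conj T := by
    refine LinearMap.ext fun v => ?_
    obtain ⟨w, rfl⟩ := g.surjective v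
    rw [← hg]
    simp [LinearEquiv.conj_apply]
  rw [this, LinearEquiv.charpoly_conj]

theorem exists_equiv_of_map_eq {ι ι' β : Type*} [Fintype ι] [Fintype ι'] (e : ι → β) (e' : ι' → β)
    (h : Multiset.map e Finset.univ.val = Multiset.map e' Finset.univ.val) :
    ∃ σ : ι ≃ ι', ∀ i, e' (σ i) = e i := by
  classical
  have hc : ∀ v, Fintype.card {i // e i = v} = Fintype.card {i // e' i = v} := by
    intro v
    rw [Fintype.card_subtype, Fintype.card_subtype]
    have h1 := congrArg (Multiset.count v) h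
    rw [Multiset.count_map, Multiset.count_map] at h1
    simpa only [Finset.card, Finset.filter_val, eq_comm] using h1
  have hτ := fun v => Fintype.card_eq.mp (hc v)
  let τ := fun v => (hτ v).some
  refine ⟨(Equiv.sigmaFiberEquiv e).symm.trans ((Equiv.sigmaCongrRight τ).trans
    (Equiv.sigmaFiberEquiv e')), fun i => ?_⟩
  show e' (τ (e i) ⟨i, rfl⟩).1 = e i
  exact (τ (e i) ⟨i, rfl⟩).2

theorem Sim_of_prod_eq {ι ι' : Type u} [Fintype ι] [Fintype ι'] {f : ι → F[X]} {f' : ι' → F[X]}
    (hf : ∀ i, (f i).Monic) (hf' : ∀ i, (f' i).Monic) (hi : ∀ i, Irreducible (f i))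
    (hi' : ∀ i, Irreducible (f' i)) (h : ∏ i, f i = ∏ i, f' i) : Sim (TT f) (TT f') := by
  classical
  have key : ∀ {κ : Type u} [Fintype κ] (g : κ → F[X]), (∀ i, (g i).Monic) → (∀ i, Irreducible (g i)) →
      Multiset.map g Finset.univ.val = UniqueFactorizationMonoid.normalizedFactors (∏ i, g i) := by
    intro κ _ g hgm hgi
    have h1 := UniqueFactorizationMonoid.normalizedFactors_prod_eq
      (Multiset.map g Finset.univ.val) (by
        intro a ha
        obtain ⟨i, _, rfl⟩ := Multiset.mem_map.mp ha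
        exact hgi i)
    have h2 : (Multiset.map g Finset.univ.val).prod = ∏ i, g i := rfl
    rw [h2] at h1
    rw [h1, Multiset.map_map]
    refine Multiset.map_congr rfl fun i _ => ?_
    exact (hgm i).normalize_eq_self.symm
  obtain ⟨σ, hσ⟩ := exists_equiv_of_map_eq f f' (by rw [key f hf hi, key f' hf' hi', h])
  have hfun : f = fun i => f' (σ i) := by
    funext i
    exact (hσ i).symm
  rw [hfun]
  exact Sim_reindexT σ f'

/-- Matrices of finite order prime to the characteristic with equal characteristic polynomial are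
similar. -/
theorem mat_conj {F : Type u} [Field F] {n : ℕ} {A B : Matrix (Fin n) (Fin n) F} {m m' : ℕ}
    (hm : (m : F) ≠ 0) (hm' : (m' : F) ≠ 0) (hA : A ^ m = 1) (hB : B ^ m' = 1)
    (hc : A.charpoly = B.charpoly) :
    ∃ Y : Matrix (Fin n) (Fin n) F, Y.det ≠ 0 ∧ Y * A = B * Y := by
  have hpow : ∀ {C : Matrix (Fin n) (Fin n) F} {k : ℕ}, C ^ k = 1 →
      (Matrix.toLin' C : End F (Fin n → F)) ^ k = 1 := by
    intro C k h
    have := congrArg (Matrix.toLinAlgEquiv' (R := F) (n := Fin n)) h
    rw [map_pow, map_one] at this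
    exact this
  obtain ⟨ι, _, f, hfm, hfi, hS⟩ := exists_ss_model (Matrix.toLin' A) hm (hpow hA)
  obtain ⟨ι', _, f', hfm', hfi', hS'⟩ := exists_ss_model (Matrix.toLin' B) hm' (hpow hB)
  haveI := fun i => (hfm i).finite_adjoinRoot
  haveI := fun i => (hfm' i).finite_adjoinRoot
  have h1 : ∏ i, f i = ∏ i, f' i := by
    have e1 := sim_charpoly_eq hS
    have e2 := sim_charpoly_eq hS'
    rw [Matrix.charpoly_toLin', charpoly_TT hfm] at e1
    rw [Matrix.charpoly_toLin', charpoly_TT hfm'] at e2
    rw [← e1, ← e2, hc]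
  obtain ⟨g, hg⟩ := hS.trans ((Sim_of_prod_eq hfm hfm' hfi hfi' h1).trans hS'.symm)
  refine ⟨LinearMap.toMatrix' (g : (Fin n → F) →ₗ[F] (Fin n → F)), ?_, ?_⟩
  · have h2 : LinearMap.toMatrix' (g : (Fin n → F) →ₗ[F] (Fin n → F)) *
        LinearMap.toMatrix' (g.symm : (Fin n → F) →ₗ[F] (Fin n → F)) = 1 := by
      rw [← LinearMap.toMatrix'_comp]
      simp
    intro h3
    have h4 := congrArg Matrix.det h2
    rw [Matrix.det_mul, h3, zero_mul, Matrix.det_one] at h4
    exact zero_ne_one h4
  · have h2 : (g : (Fin n → F) →ₗ[F] (Fin n → F)) ∘ₗ Matrix.toLin' A =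
        Matrix.toLin' B ∘ₗ (g : (Fin n → F) →ₗ[F] (Fin n → F)) :=
      LinearMap.ext hg
    have h3 := congrArg LinearMap.toMatrix' h2
    rw [LinearMap.toMatrix'_comp, LinearMap.toMatrix'_comp, LinearMap.toMatrix'_toLin',
      LinearMap.toMatrix'_toLin'] at h3
    exact h3

/-- The centraliser of a semisimple matrix has all determinants. -/
theorem mat_centralizer {F : Type u} [Field F] [Fintype F] {n : ℕ} (hn : 1 ≤ n)
    {A : Matrix (Fin n) (Fin n) F} {m : ℕ}
    (hm : (m : F) ≠ 0) (hA : A ^ m = 1) {c : F} (hc : c ≠ 0) :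
    ∃ Z : Matrix (Fin n) (Fin n) F, Z.det = c ∧ Z * A = A * Z := by
  classical
  have hpow : (Matrix.toLin' A : End F (Fin n → F)) ^ m = 1 := by
    have := congrArg (Matrix.toLinAlgEquiv' (R := F) (n := Fin n)) hA
    rw [map_pow, map_one] at this
    exact this
  obtain ⟨ι, _, f, hfm, hfi, g, hg⟩ := exists_ss_model (Matrix.toLin' A) hm hpow
  haveI := fun i => (hfm i).finite_adjoinRoot
  haveI := fun i => Fact.mk (hfi i)
  have hne : Nonempty ι := by
    by_contra h
    rw [not_nonempty_iff] at h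
    have h1 := g.finrank_eq
    rw [Module.finrank_fin_fun, Module.finrank_zero_of_subsingleton] at h1
    omega
  obtain ⟨i₀⟩ := hne
  haveI : Finite (AdjoinRoot (f i₀)) := Module.finite_of_finite F
  obtain ⟨α, hα⟩ := FiniteField.norm_surjective F (AdjoinRoot (f i₀)) c
  let a : ∀ i, AdjoinRoot (f i) := Function.update 1 i₀ α
  let Z : End F (∀ i, AdjoinRoot (f i)) := piE fun i => Algebra.lmul F (AdjoinRoot (f i)) (a i)
  have hdet : LinearMap.det Z = c := by
    rw [det_piE, Finset.prod_eq_single i₀]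
    · rw [← hα, Algebra.norm_apply]
      simp [a]
    · intro i _ hi
      have : a i = 1 := by simp [a, Function.update_of_ne hi]
      rw [this, map_one, map_one]
    · simp
  have hcomm : ∀ v, Z (TT f v) = TT f (Z v) := by
    intro v
    funext i
    show a i * (AdjoinRoot.root (f i) * v i) = AdjoinRoot.root (f i) * (a i * v i)
    ring
  let Z' : End F (Fin n → F) := g.symm.conj Z
  have hZ' : ∀ v, Z' (Matrix.toLin' A v) = Matrix.toLin' A (Z' v) := by
    intro v
    have h1 : g (Matrix.toLin' A (g.symm (Z (g v)))) = TT f (Z (g v)) := by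
      rw [hg, LinearEquiv.apply_symm_apply]
    show g.symm (Z (g (Matrix.toLin' A v))) = Matrix.toLin' A (g.symm (Z (g v)))
    rw [hg, hcomm, ← h1, LinearEquiv.symm_apply_apply]
  refine ⟨LinearMap.toMatrix' Z', ?_, ?_⟩
  · rw [← LinearMap.det_toLin', Matrix.toLin'_toMatrix']
    show LinearMap.det (g.symm.conj Z) = c
    rw [LinearEquiv.conj_apply, LinearMap.comp_assoc, LinearMap.det_conj, hdet]
  · have h2 : Z' ∘ₗ Matrix.toLin' A = Matrix.toLin' A ∘ₗ Z' := LinearMap.ext hZ'
    have h3 := congrArg LinearMap.toMatrix' h2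
    rw [LinearMap.toMatrix'_comp, LinearMap.toMatrix'_comp, LinearMap.toMatrix'_toLin'] at h3
    exact h3

/-! ### Existence -/

theorem TT_pow_apply {ι : Type*} (f : ι → F[X]) (j : ℕ) (v : ∀ i, AdjoinRoot (f i)) (i : ι) :
    (TT f ^ j) v i = AdjoinRoot.root (f i) ^ j * v i := by
  induction j generalizing v with
  | zero => simp
  | succ j ih =>
    rw [pow_succ, Module.End.mul_apply, ih]
    show AdjoinRoot.root (f i) ^ j * (AdjoinRoot.root (f i) * v i) = _
    ring

/-- Every monic polynomial with non-zero constant term is the characteristic polynomial of a matrix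
of finite order prime to the characteristic. -/
theorem mat_exists {F : Type u} [Field F] [Fintype F] (p : ℕ) [Fact p.Prime] [CharP F p] {n : ℕ}
    (f : F[X]) (hf : f.Monic) (hd : f.natDegree = n) (h0 : f.coeff 0 ≠ 0) :
    ∃ (A : Matrix (Fin n) (Fin n) F) (m : ℕ), A ^ m = 1 ∧ m.Coprime p ∧ A.charpoly = f := by
  classical
  have hp : p.Prime := Fact.out
  set s := UniqueFactorizationMonoid.normalizedFactors f with hs
  let L := s.toList
  let g : Fin L.length → F[X] := fun i => L.get i
  have hmap : Multiset.map g Finset.univ.val = s := by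
    rw [Fin.univ_val_map, List.ofFn_get, Multiset.coe_toList]
  have hmem : ∀ i, g i ∈ s := by
    intro i
    rw [← hmap]
    exact Multiset.mem_map_of_mem _ (Finset.mem_univ i)
  have hprod : ∏ i, g i = f := by
    have h1 : ∏ i, g i = (Multiset.map g Finset.univ.val).prod := rfl
    rw [h1, hmap]
    have h2 := leadingCoeff_mul_prod_normalizedFactors f
    rw [hf.leadingCoeff, map_one, one_mul] at h2
    exact h2
  have hspec : ∀ i, Irreducible (g i) ∧ (g i).Monic ∧ g i ∣ f := fun i =>
    (Polynomial.mem_normalizedFactors_iff hf.ne_zero).mp (hmem i)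
  have hgm : ∀ i, (g i).Monic := fun i => (hspec i).2.1
  haveI : ∀ i, Module.Finite F (AdjoinRoot (g i)) := fun i => (hgm i).finite_adjoinRoot
  haveI : ∀ i, Fact (Irreducible (g i)) := fun i => Fact.mk (hspec i).1
  haveI : ∀ i, Finite (AdjoinRoot (g i)) := fun i => Module.finite_of_finite F
  have hsum : ∑ i, (g i).natDegree = n := by
    rw [← natDegree_prod_of_monic _ _ (fun i _ => hgm i), hprod, hd]
  let θ : (∀ i, AdjoinRoot (g i)) ≃ₗ[F] (Fin n → F) :=
    LinearEquiv.ofFinrankEq _ _ (by rw [finrank_TT hgm, hsum, Module.finrank_fin_fun])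
  have hroot : ∀ i, AdjoinRoot.root (g i) ≠ 0 := by
    intro i h
    rw [← AdjoinRoot.mk_X, AdjoinRoot.mk_eq_zero] at h
    have h1 : Associated (g i) X := (hspec i).1.associated_of_dvd irreducible_X h
    have h2 : (X : F[X]) ∣ f := h1.symm.dvd.trans (hspec i).2.2
    exact h0 (X_dvd_iff.mp h2)
  let N : Fin L.length → ℕ := fun i => Nat.card (AdjoinRoot (g i))
  have hN : ∀ i, AdjoinRoot.root (g i) ^ (N i - 1) = 1 := by
    intro i
    letI : Fintype (AdjoinRoot (g i)) := Fintype.ofFinite _
    have := FiniteField.pow_card_sub_one_eq_one (AdjoinRoot.root (g i)) (hroot i)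
    rwa [← Nat.card_eq_fintype_card] at this
  have hpq : p ∣ Fintype.card F := by
    rw [← CharP.cast_eq_zero_iff F p]
    exact Nat.cast_card_eq_zero F
  have hNc : ∀ i, (N i - 1).Coprime p := by
    intro i
    have h1 : N i = Fintype.card F ^ (g i).natDegree := by
      show Nat.card (AdjoinRoot (g i)) = _
      rw [Module.natCard_eq_pow_finrank (K := F), finrank_adjoinRoot (hgm i), Nat.card_eq_fintype_card]
    have h2 : (g i).natDegree ≠ 0 := (hspec i).1.natDegree_pos.ne'
    have h3 : p ∣ N i := by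
      rw [h1]
      exact hpq.trans (dvd_pow_self _ h2)
    have h4 : 0 < N i := Nat.card_pos
    apply Nat.Coprime.symm
    rw [Nat.Prime.coprime_iff_not_dvd hp]
    intro h5
    have h6 : p ∣ 1 := by
      have := (Nat.dvd_sub h3 h5)
      have e : N i - (N i - 1) = 1 := by omega
      rwa [e] at this
    exact hp.one_lt.ne' (Nat.dvd_one.mp h6)
  set m := ∏ i, (N i - 1) with hmdef
  have hmc : m.Coprime p := Nat.Coprime.prod_left fun i _ => hNc i
  have hT : TT g ^ m = 1 := by
    refine LinearMap.ext fun v => ?_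
    funext i
    rw [TT_pow_apply]
    obtain ⟨c, hc⟩ : N i - 1 ∣ m := Finset.dvd_prod_of_mem _ (Finset.mem_univ i)
    rw [hc, pow_mul, hN, one_pow, one_mul]
    rfl
  let T' : End F (Fin n → F) := θ.conjRingEquiv (TT g)
  have hT' : T' ^ m = 1 := by
    show (θ.conjRingEquiv (TT g)) ^ m = 1
    rw [← map_pow, hT, map_one]
  refine ⟨LinearMap.toMatrix' T', m, ?_, hmc, ?_⟩
  · have := congrArg (Matrix.toLinAlgEquiv' (R := F) (n := Fin n)).symm hT'
    rw [map_pow, map_one] at this
    exact this
  · rw [← Matrix.charpoly_toLin', Matrix.toLin'_toMatrix']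
    show (θ.conj (TT g)).charpoly = f
    rw [LinearEquiv.charpoly_conj, charpoly_TT hgm, hprod]

/-! ### Monic polynomials -/

section Count

variable [Fintype F]

theorem card_monic (k : ℕ) (P : F → Prop) :
    Nat.card {f : F[X] // f.Monic ∧ f.natDegree = k + 1 ∧ P (f.coeff 0)} =
      Nat.card {a // P a} * Fintype.card F ^ k := by
  classical
  have h1 : Fintype.card F ^ k = Nat.card (Fin k → F) := by
    rw [Nat.card_eq_fintype_card, Fintype.card_fun, Fintype.card_fin]
  rw [h1, ← Nat.card_prod]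
  let φ : {f : F[X] // f.Monic ∧ f.natDegree = k + 1 ∧ P (f.coeff 0)} → {a // P a} × (Fin k → F) :=
    fun f => (⟨f.1.coeff 0, f.2.2.2⟩, fun i => f.1.coeff (i.val + 1))
  refine Nat.card_eq_of_bijective φ ⟨?_, ?_⟩
  · rintro ⟨f, hf, hd, hP⟩ ⟨f', hf', hd', hP'⟩ h
    apply Subtype.ext
    show f = f'
    have h0 : f.coeff 0 = f'.coeff 0 := congrArg (fun x => (x.1 : F)) (congrArg Prod.fst h)
    have hs : ∀ i : Fin k, f.coeff (i.val + 1) = f'.coeff (i.val + 1) := fun i =>
      congrFun (congrArg Prod.snd h) i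
    ext j
    rcases lt_trichotomy j (k + 1) with hj | hj | hj
    · cases j with
      | zero => exact h0
      | succ j => exact hs ⟨j, by omega⟩
    · rw [hj]
      have e1 := hf.coeff_natDegree
      have e2 := hf'.coeff_natDegree
      rw [hd] at e1
      rw [hd'] at e2
      rw [e1, e2]
    · rw [coeff_eq_zero_of_natDegree_lt (by omega), coeff_eq_zero_of_natDegree_lt (by omega)]
  · rintro ⟨⟨a, ha⟩, c⟩
    let g : F[X] := C a + ∑ i : Fin k, C (c i) * X ^ (i.val + 1)
    have hg : ∀ j, g.coeff j = if h : j = 0 then a else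
        if h' : j - 1 < k then c ⟨j - 1, h'⟩ else 0 := by
      intro j
      simp only [g, coeff_add, finset_sum_coeff, coeff_C_mul_X_pow, coeff_C]
      by_cases h : j = 0
      · subst h
        simp
      · rw [if_neg h, dif_neg h, zero_add]
        by_cases h' : j - 1 < k
        · rw [dif_pos h', Finset.sum_eq_single ⟨j - 1, h'⟩]
          · rw [if_pos (by simp; omega)]
          · intro b _ hb
            rw [if_neg]
            intro e
            apply hb
            apply Fin.ext
            simp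
            omega
          · simp
        · rw [dif_neg h']
          apply Finset.sum_eq_zero
          intro b _
          rw [if_neg]
          have := b.2
          omega
    have hdeg : g.degree < ((k + 1 : ℕ) : WithBot ℕ) := by
      rw [Polynomial.degree_lt_iff_coeff_zero]
      intro j hj
      rw [hg, dif_neg (by omega), dif_neg (by omega)]
    have hm : (X ^ (k + 1) + g).Monic := monic_X_pow_add hdeg
    have hd : (X ^ (k + 1) + g).natDegree = k + 1 := by
      apply natDegree_eq_of_degree_eq_some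
      rw [degree_add_eq_left_of_degree_lt (by rw [degree_X_pow]; exact hdeg), degree_X_pow]
    have hc0 : (X ^ (k + 1) + g).coeff 0 = a := by
      rw [coeff_add, coeff_X_pow, if_neg (by omega), zero_add, hg, dif_pos rfl]
    refine ⟨⟨X ^ (k + 1) + g, hm, hd, by rw [hc0]; exact ha⟩, ?_⟩
    apply Prod.ext
    · exact Subtype.ext hc0
    · funext i
      show (X ^ (k + 1) + g).coeff (i.val + 1) = c i
      have := i.2
      rw [coeff_add, coeff_X_pow, if_neg (by omega), zero_add, hg, dif_neg (by omega),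
        dif_pos (by simp)]
      simp

end Count

/-! ### The final statements -/

section Final

variable {F : Type u} [Field F] [Fintype F] (p : ℕ) [Fact p.Prime] [CharP F p] {n : ℕ}

theorem cast_ne_of_coprime {m : ℕ} (h : m.Coprime p) : (m : F) ≠ 0 := by
  have hp : p.Prime := Fact.out
  rw [Ne, CharP.cast_eq_zero_iff F p]
  intro hd
  exact hp.one_lt.ne' (Nat.Coprime.eq_one_of_dvd h.symm hd)

/-- Semisimple elements of `SL_n` with the same characteristic polynomial are conjugate. -/
theorem sl_conj (g h : Matrix.SpecialLinearGroup (Fin n) F) (hg : (orderOf g).Coprime p)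
    (hh : (orderOf h).Coprime p)
    (hc : (g : Matrix (Fin n) (Fin n) F).charpoly = (h : Matrix (Fin n) (Fin n) F).charpoly) :
    IsConj g h := by
  rcases Nat.eq_zero_or_pos n with rfl | hn
  · have : g = h := Subtype.ext (Subsingleton.elim _ _)
    rw [this]
  have hA : (g : Matrix (Fin n) (Fin n) F) ^ orderOf g = 1 := by
    rw [← Matrix.SpecialLinearGroup.coe_pow, pow_orderOf_eq_one]
    rfl
  have hB : (h : Matrix (Fin n) (Fin n) F) ^ orderOf h = 1 := by
    rw [← Matrix.SpecialLinearGroup.coe_pow, pow_orderOf_eq_one]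
    rfl
  have hm := cast_ne_of_coprime (F := F) p hg
  obtain ⟨Y, hY, hYA⟩ := mat_conj hm (cast_ne_of_coprime (F := F) p hh) hA hB hc
  obtain ⟨Z, hZ, hZA⟩ := mat_centralizer hn hm hA (inv_ne_zero hY)
  have hdet : (Y * Z).det = 1 := by
    rw [Matrix.det_mul, hZ, mul_inv_cancel₀ hY]
  let c : Matrix.SpecialLinearGroup (Fin n) F := ⟨Y * Z, hdet⟩
  rw [isConj_iff]
  refine ⟨c, ?_⟩
  rw [mul_inv_eq_iff_eq_mul]
  apply Subtype.ext
  show Y * Z * (g : Matrix (Fin n) (Fin n) F) = (h : Matrix (Fin n) (Fin n) F) * (Y * Z)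
  rw [mul_assoc, hZA, ← mul_assoc, hYA, mul_assoc]

theorem exists_gl (f : F[X]) (hf : f.Monic) (hd : f.natDegree = n) (h0 : f.coeff 0 ≠ 0) :
    ∃ g : Matrix.GeneralLinearGroup (Fin n) F, (orderOf g).Coprime p ∧
      (g : Matrix (Fin n) (Fin n) F).charpoly = f := by
  obtain ⟨A, m, hA, hm, hc⟩ := mat_exists p f hf hd h0
  have hp : p.Prime := Fact.out
  have hm0 : m ≠ 0 := by
    rintro rfl
    exact hp.one_lt.ne' (Nat.coprime_zero_left p |>.mp hm)
  let g := Units.ofPowEqOne A m hA hm0
  refine ⟨g, ?_, hc⟩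
  have h1 : g ^ m = 1 := Units.ext (by rw [Units.val_pow_eq_pow_val]; exact hA)
  exact Nat.Coprime.coprime_dvd_left (orderOf_dvd_of_pow_eq_one h1) hm

theorem count_gl (hn : 1 ≤ n) :
    Nat.card {c : ConjClasses (Matrix.GeneralLinearGroup (Fin n) F) //
      ∃ g : Matrix.GeneralLinearGroup (Fin n) F, ConjClasses.mk g = c ∧ (orderOf g).Coprime p} =
      (Fintype.card F - 1) * Fintype.card F ^ (n - 1) := by
  classical
  obtain ⟨k, rfl⟩ : ∃ k, n = k + 1 := ⟨n - 1, by omega⟩
  have h1 : Nat.card {a : F // a ≠ 0} = Fintype.card F - 1 := by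
    rw [← Nat.card_congr unitsEquivNeZero, Nat.card_eq_fintype_card, Fintype.card_units]
  rw [Nat.add_sub_cancel, ← h1, ← card_monic k (fun a : F => a ≠ 0)]
  symm
  have hex : ∀ f : {f : F[X] // f.Monic ∧ f.natDegree = k + 1 ∧ f.coeff 0 ≠ 0},
      ∃ g : Matrix.GeneralLinearGroup (Fin (k + 1)) F, (orderOf g).Coprime p ∧
        (g : Matrix (Fin (k + 1)) (Fin (k + 1)) F).charpoly = f.1 :=
    fun f => exists_gl p f.1 f.2.1 f.2.2.1 f.2.2.2
  choose elt helt hchar using hex
  refine Nat.card_eq_of_bijective (fun f => ⟨ConjClasses.mk (elt f), elt f, rfl, helt f⟩) ⟨?_, ?_⟩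
  · intro f f' h
    have h1 : ConjClasses.mk (elt f) = ConjClasses.mk (elt f') := congrArg Subtype.val h
    rw [ConjClasses.mk_eq_mk_iff_isConj, isConj_iff] at h1
    obtain ⟨c, hc⟩ := h1
    apply Subtype.ext
    rw [← hchar f, ← hchar f', ← hc]
    show _ = (c.val * (elt f).val * (c⁻¹).val).charpoly
    rw [Matrix.charpoly_mul_comm, ← mul_assoc, Units.inv_mul, one_mul]
  · rintro ⟨C, g, rfl, hg⟩
    have hmonic := Matrix.charpoly_monic (g : Matrix (Fin (k + 1)) (Fin (k + 1)) F)
    have hdeg : (g : Matrix (Fin (k + 1)) (Fin (k + 1)) F).charpoly.natDegree = k + 1 := by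
      rw [Matrix.charpoly_natDegree_eq_dim, Fintype.card_fin]
    have hdet : (g : Matrix (Fin (k + 1)) (Fin (k + 1)) F).det ≠ 0 :=
      ((Matrix.isUnit_iff_isUnit_det _).mp g.isUnit).ne_zero
    have h0 : (g : Matrix (Fin (k + 1)) (Fin (k + 1)) F).charpoly.coeff 0 ≠ 0 := by
      intro h
      rw [Matrix.det_eq_sign_charpoly_coeff, h, mul_zero] at hdet
      exact hdet rfl
    refine ⟨⟨_, hmonic, hdeg, h0⟩, Subtype.ext ?_⟩
    set f : {f : F[X] // f.Monic ∧ f.natDegree = k + 1 ∧ f.coeff 0 ≠ 0} := ⟨_, hmonic, hdeg, h0⟩ with hf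
    show ConjClasses.mk (elt f) = ConjClasses.mk g
    rw [ConjClasses.mk_eq_mk_iff_isConj, isConj_iff]
    have hA : ((elt f : Matrix.GeneralLinearGroup (Fin (k + 1)) F) : Matrix (Fin (k + 1)) (Fin (k + 1)) F) ^ orderOf (elt f) = 1 := by
      rw [← Units.val_pow_eq_pow_val, pow_orderOf_eq_one]
      rfl
    have hB : (g : Matrix (Fin (k + 1)) (Fin (k + 1)) F) ^ orderOf g = 1 := by
      rw [← Units.val_pow_eq_pow_val, pow_orderOf_eq_one]
      rfl
    obtain ⟨Y, hY, hYA⟩ := mat_conj (cast_ne_of_coprime (F := F) p (helt f))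
      (cast_ne_of_coprime (F := F) p hg) hA hB (hchar f)
    refine ⟨Matrix.GeneralLinearGroup.mkOfDetNeZero Y hY, ?_⟩
    rw [mul_inv_eq_iff_eq_mul]
    apply Units.ext
    exact hYA

theorem count_sl (hn : 1 ≤ n) :
    Nat.card {c : ConjClasses (Matrix.SpecialLinearGroup (Fin n) F) //
      ∃ g : Matrix.SpecialLinearGroup (Fin n) F, ConjClasses.mk g = c ∧ (orderOf g).Coprime p} =
      Fintype.card F ^ (n - 1) := by
  classical
  obtain ⟨k, rfl⟩ : ∃ k, n = k + 1 := ⟨n - 1, by omega⟩
  have h1 : Nat.card {a : F // a = (-1) ^ (k + 1)} = 1 := by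
    rw [Nat.card_eq_fintype_card, Fintype.card_subtype_eq]
  have h2 := card_monic (F := F) k (fun a : F => a = (-1) ^ (k + 1))
  rw [h1, one_mul] at h2
  rw [Nat.add_sub_cancel, ← h2]
  symm
  have hsq : ((-1 : F) ^ (k + 1)) * ((-1 : F) ^ (k + 1)) = 1 := by
    rw [← mul_pow]
    simp
  have hex : ∀ f : {f : F[X] // f.Monic ∧ f.natDegree = k + 1 ∧ f.coeff 0 = (-1) ^ (k + 1)},
      ∃ g : Matrix.SpecialLinearGroup (Fin (k + 1)) F, (orderOf g).Coprime p ∧
        (g : Matrix (Fin (k + 1)) (Fin (k + 1)) F).charpoly = f.1 := by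
    intro f
    have hne : f.1.coeff 0 ≠ 0 := by
      rw [f.2.2.2]
      exact pow_ne_zero _ (neg_ne_zero.mpr one_ne_zero)
    obtain ⟨A, m, hA, hm, hc⟩ := mat_exists p f.1 f.2.1 f.2.2.1 hne
    have hdet : A.det = 1 := by
      rw [Matrix.det_eq_sign_charpoly_coeff, hc, f.2.2.2, Fintype.card_fin, hsq]
    let g : Matrix.SpecialLinearGroup (Fin (k + 1)) F := ⟨A, hdet⟩
    refine ⟨g, ?_, hc⟩
    have h1 : g ^ m = 1 := by
      apply Subtype.ext
      rw [Matrix.SpecialLinearGroup.coe_pow]
      exact hA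
    exact Nat.Coprime.coprime_dvd_left (orderOf_dvd_of_pow_eq_one h1) hm
  choose elt helt hchar using hex
  refine Nat.card_eq_of_bijective (fun f => ⟨ConjClasses.mk (elt f), elt f, rfl, helt f⟩) ⟨?_, ?_⟩
  · intro f f' h
    have h1 : ConjClasses.mk (elt f) = ConjClasses.mk (elt f') := congrArg Subtype.val h
    rw [ConjClasses.mk_eq_mk_iff_isConj, isConj_iff] at h1
    obtain ⟨c, hc⟩ := h1
    apply Subtype.ext
    rw [← hchar f, ← hchar f', ← hc]
    show _ = ((c : Matrix (Fin (k + 1)) (Fin (k + 1)) F) * (elt f : Matrix (Fin (k + 1)) (Fin (k + 1)) F) *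
      ((c⁻¹ : Matrix.SpecialLinearGroup (Fin (k + 1)) F) : Matrix (Fin (k + 1)) (Fin (k + 1)) F)).charpoly
    rw [Matrix.charpoly_mul_comm, ← mul_assoc, ← Matrix.SpecialLinearGroup.coe_mul, inv_mul_cancel]
    simp
  · rintro ⟨C, g, rfl, hg⟩
    have hmonic := Matrix.charpoly_monic (g : Matrix (Fin (k + 1)) (Fin (k + 1)) F)
    have hdeg : (g : Matrix (Fin (k + 1)) (Fin (k + 1)) F).charpoly.natDegree = k + 1 := by
      rw [Matrix.charpoly_natDegree_eq_dim, Fintype.card_fin]
    have h0 : (g : Matrix (Fin (k + 1)) (Fin (k + 1)) F).charpoly.coeff 0 = (-1) ^ (k + 1) := by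
      have h3 := Matrix.det_eq_sign_charpoly_coeff (g : Matrix (Fin (k + 1)) (Fin (k + 1)) F)
      rw [g.2, Fintype.card_fin] at h3
      calc _ = ((-1 : F) ^ (k + 1) * (-1) ^ (k + 1)) * (g : Matrix (Fin (k + 1)) (Fin (k + 1)) F).charpoly.coeff 0 := by
            rw [hsq, one_mul]
        _ = (-1) ^ (k + 1) * ((-1) ^ (k + 1) * (g : Matrix (Fin (k + 1)) (Fin (k + 1)) F).charpoly.coeff 0) := by
            ring
        _ = _ := by rw [← h3, mul_one]
    refine ⟨⟨_, hmonic, hdeg, h0⟩, Subtype.ext ?_⟩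
    set f : {f : F[X] // f.Monic ∧ f.natDegree = k + 1 ∧ f.coeff 0 = (-1) ^ (k + 1)} := ⟨_, hmonic, hdeg, h0⟩ with hf
    show ConjClasses.mk (elt f) = ConjClasses.mk g
    rw [ConjClasses.mk_eq_mk_iff_isConj]
    exact sl_conj p (elt f) g (helt f) hg (hchar f)

end Final

end Cfsg.Agent.Lib.SemisimpleGL
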