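import Mathlib
import Cfsg.Agent.Lib.SemisimpleGL

/-!
# The factorisation of `X^r - 1` over a finite field, and tuples of multiplicities
-/

set_option autoImplicit false
set_option linter.unusedSectionVars false
set_option linter.unusedSimpArgs false
set_option linter.unusedVariables false

namespace Cfsg.Agent.Lib.PrimeFactors

open Module Polynomial UniqueFactorizationMonoid
open Cfsg.Agent.Lib.JordanClasses Cfsg.Agent.Lib.SemisimpleGL

universe u

section count

theorem finite_tuples (t N : ℕ) : Finite {a : Fin t → ℕ // ∑ i, a i ≤ N} := by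
  refine Finite.of_injective (fun a => fun i => (⟨a.1 i, ?_⟩ : Fin (N + 1))) ?_
  · have := Finset.single_le_sum (f := a.1) (fun _ _ => Nat.zero_le _) (Finset.mem_univ i)
    have := a.2
    omega
  · intro a b h
    apply Subtype.ext
    funext i
    exact congrArg Fin.val (congrFun h i)

theorem sum_hockey (t N : ℕ) : ∑ x ∈ Finset.range (N + 1), (x + t).choose t = (N + t + 1).choose (t + 1) := by
  induction N with
  | zero => simp
  | succ N ih =>
    rw [Finset.sum_range_succ, ih]
    have e1 : N + 1 + t + 1 = (N + t + 1) + 1 := by ring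
    have e2 : N + 1 + t = N + t + 1 := by ring
    rw [e1, e2, Nat.choose_succ_succ (N + t + 1) t, add_comm]

theorem card_tuples (t N : ℕ) : Nat.card {a : Fin t → ℕ // ∑ i, a i ≤ N} = (N + t).choose t := by
  induction t generalizing N with
  | zero =>
    simp only [Nat.add_zero, Nat.choose_zero_right]
    haveI : Unique {a : Fin 0 → ℕ // ∑ i, a i ≤ N} :=
      ⟨⟨⟨fun i => i.elim0, by simp⟩⟩, fun a => Subtype.ext (funext fun i => i.elim0)⟩
    exact Nat.card_unique
  | succ t ih =>
    have e : {a : Fin (t + 1) → ℕ // ∑ i, a i ≤ N} ≃ Σ x : Fin (N + 1), {a : Fin t → ℕ // ∑ i, a i ≤ N - x.val} := by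
      refine ⟨fun a => ⟨⟨a.1 0, ?_⟩, ⟨fun i => a.1 i.succ, ?_⟩⟩, fun y => ⟨Fin.cons y.1.val y.2.1, ?_⟩, ?_, ?_⟩
      · have := a.2
        rw [Fin.sum_univ_succ] at this
        omega
      · have := a.2
        rw [Fin.sum_univ_succ] at this
        simp only
        omega
      · rw [Fin.sum_univ_succ]
        simp only [Fin.cons_zero, Fin.cons_succ]
        have h1 := y.2.2
        have h2 := y.1.2
        omega
      · intro a
        apply Subtype.ext
        funext i
        induction i using Fin.cases with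
        | zero => rfl
        | succ i => rfl
      · rintro ⟨x, a⟩
        rfl
    haveI := fun k => finite_tuples t k
    rw [Nat.card_congr e, Nat.card_sigma]
    simp only [ih]
    rw [Fin.sum_univ_eq_sum_range (fun x => (N - x + t).choose t) (N + 1)]
    rw [← Finset.sum_range_reflect]
    have e2 : ∀ x ∈ Finset.range (N + 1), (N - (N + 1 - 1 - x) + t).choose t = (x + t).choose t := by
      intro x hx
      have := Finset.mem_range.mp hx
      congr 2
      omega
    rw [Finset.sum_congr rfl e2, sum_hockey]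
    congr 1

theorem card_tuples' {ι : Type*} [Fintype ι] (N : ℕ) :
    Nat.card {a : ι → ℕ // ∑ i, a i ≤ N} = (N + Fintype.card ι).choose (Fintype.card ι) := by
  classical
  rw [← card_tuples]
  have σ := Fintype.equivFin ι
  refine Nat.card_congr (Equiv.subtypeEquiv (Equiv.arrowCongr σ (Equiv.refl ℕ)) fun a => ?_)
  have h3 := Equiv.sum_comp σ.symm a
  have h4 : ∀ i, (Equiv.arrowCongr σ (Equiv.refl ℕ) a) i = a (σ.symm i) := fun i => rfl
  simp only [h4, h3]

/-- The number of nonzero tuples. -/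
theorem card_tuples_ne {ι : Type*} [Fintype ι] (N : ℕ) :
    Nat.card {a : ι → ℕ // a ≠ 0 ∧ ∑ i, a i ≤ N} = (N + Fintype.card ι).choose (Fintype.card ι) - 1 := by
  classical
  obtain ⟨t, ht⟩ : ∃ t, t = Fintype.card ι := ⟨_, rfl⟩
  rw [← card_tuples' N]
  have hfin : Finite {a : ι → ℕ // ∑ i, a i ≤ N} := by
    have σ := Fintype.equivFin ι
    have := finite_tuples (Fintype.card ι) N
    refine Finite.of_injective (fun a => (⟨a.1 ∘ σ.symm, by
      have h2 := a.2
      have h3 := Equiv.sum_comp σ.symm a.1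
      simp only [Function.comp]
      omega⟩ : {a : Fin (Fintype.card ι) → ℕ // ∑ i, a i ≤ N})) ?_
    intro a b h
    apply Subtype.ext
    have h1 := congrArg Subtype.val h
    exact σ.symm.surjective.injective_comp_right h1
  haveI := Fintype.ofFinite {a : ι → ℕ // ∑ i, a i ≤ N}
  have h0 : ({⟨0, by simp⟩} : Finset {a : ι → ℕ // ∑ i, a i ≤ N}).card = 1 := Finset.card_singleton _
  rw [Nat.card_eq_fintype_card (α := {a : ι → ℕ // ∑ i, a i ≤ N})]
  have e : {a : ι → ℕ // a ≠ 0 ∧ ∑ i, a i ≤ N} ≃ {a : {a : ι → ℕ // ∑ i, a i ≤ N} // a ≠ ⟨0, by simp⟩} := by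
    refine ⟨fun a => ⟨⟨a.1, a.2.2⟩, fun h => a.2.1 (congrArg Subtype.val h)⟩,
      fun a => ⟨a.1.1, fun h => a.2 (Subtype.ext h), a.1.2⟩, fun _ => rfl, fun _ => rfl⟩
  rw [Nat.card_congr e, Nat.card_eq_fintype_card, Fintype.card_subtype_compl, Fintype.card_subtype_eq]

end count

section factors

open scoped Classical

variable {F : Type u} [Field F] [Fintype F]

/-- The polynomial `1 + X + ... + X^(r-1)`. -/
noncomputable def Psi (F : Type u) [Field F] (r : ℕ) : F[X] := ∑ j ∈ Finset.range r, X ^ j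

theorem psi_mul (r : ℕ) : Psi F r * (X - 1) = X ^ r - 1 := geom_sum_mul X r

theorem X_sub_one_dvd (r : ℕ) : (X - 1 : F[X]) ∣ X ^ r - 1 := ⟨Psi F r, by rw [← psi_mul, mul_comm]⟩

theorem X_pow_sub_one_ne {r : ℕ} (hr : r ≠ 0) : (X ^ r - 1 : F[X]) ≠ 0 := by
  have := X_pow_sub_C_ne_zero (Nat.pos_of_ne_zero hr) (1 : F)
  simpa using this

theorem psi_ne {r : ℕ} (hr : r ≠ 0) : Psi F r ≠ 0 := by
  intro h
  have := psi_mul (F := F) r
  rw [h, zero_mul] at this
  exact X_pow_sub_one_ne hr this.symm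

theorem monic_X_sub_one : (X - 1 : F[X]).Monic := by
  simpa using monic_X_sub_C (1 : F)

theorem irr_X_sub_one : Irreducible (X - 1 : F[X]) := by
  simpa using irreducible_X_sub_C (1 : F)

theorem psi_monic {r : ℕ} (hr : r ≠ 0) : (Psi F r).Monic := by
  have h1 : (Psi F r * (X - 1)).Monic := by
    rw [psi_mul]
    have := monic_X_pow_sub_C (1 : F) hr
    simpa using this
  exact Polynomial.Monic.of_mul_monic_right monic_X_sub_one h1

theorem psi_natDegree {r : ℕ} (hr : r ≠ 0) : (Psi F r).natDegree = r - 1 := by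
  have h1 := natDegree_mul (psi_ne (F := F) hr) (monic_X_sub_one (F := F)).ne_zero
  rw [psi_mul] at h1
  have h2 : (X ^ r - 1 : F[X]).natDegree = r := by
    have := natDegree_X_pow_sub_C (n := r) (r := (1 : F))
    simpa using this
  have h3 : (X - 1 : F[X]).natDegree = 1 := by
    have := natDegree_X_sub_C (1 : F)
    simpa using this
  omega

theorem eval_psi_one (r : ℕ) : (Psi F r).eval 1 = (r : F) := by
  simp [Psi, eval_finsetSum]

theorem separable_pow {r : ℕ} (hr : (r : F) ≠ 0) : (X ^ r - 1 : F[X]).Separable := by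
  have := Polynomial.separable_X_pow_sub_C (1 : F) hr one_ne_zero
  simpa using this

theorem psi_squarefree {r : ℕ} (hr : (r : F) ≠ 0) : Squarefree (Psi F r) := by
  have h := (separable_pow (F := F) hr).squarefree
  rw [← psi_mul] at h
  exact h.of_mul_left

/-- The set of monic irreducible factors of `Psi`. -/
noncomputable def Idx (F : Type u) [Field F] (r : ℕ) : Finset F[X] := (normalizedFactors (Psi F r)).toFinset

theorem mem_Idx {r : ℕ} (hr : r ≠ 0) {j : F[X]} : j ∈ Idx F r ↔ Irreducible j ∧ j.Monic ∧ j ∣ Psi F r := by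
  rw [Idx, Multiset.mem_toFinset]
  exact Polynomial.mem_normalizedFactors_iff (psi_ne hr)

theorem prod_Idx {r : ℕ} (hr : (r : F) ≠ 0) (hr0 : r ≠ 0) : ∏ j ∈ Idx F r, j = Psi F r := by
  have h1 : (normalizedFactors (Psi F r)).Nodup :=
    (squarefree_iff_nodup_normalizedFactors (psi_ne hr0)).1 (psi_squarefree hr)
  have h2 : ∏ j ∈ Idx F r, j = (normalizedFactors (Psi F r)).prod := by
    rw [Idx, Finset.prod, Multiset.toFinset_val, Multiset.dedup_eq_self.2 h1]
    simp
  rw [h2]
  have h3 := leadingCoeff_mul_prod_normalizedFactors (Psi F r)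
  rw [(psi_monic hr0).leadingCoeff, map_one, one_mul] at h3
  exact h3

theorem one_not_mem {r : ℕ} (hr : (r : F) ≠ 0) (hr0 : r ≠ 0) : (X - 1 : F[X]) ∉ Idx F r := by
  intro h
  have h1 := ((mem_Idx hr0).1 h).2.2
  have h2 : (Psi F r).eval 1 = 0 := by
    have : (Psi F r).IsRoot 1 := by
      rw [← dvd_iff_isRoot]
      simpa using h1
    exact this
  rw [eval_psi_one] at h2
  exact hr h2

/-- Irreducible factors of `X^r - 1`. -/
theorem eq_or_mem {r : ℕ} (hr0 : r ≠ 0) {g : F[X]} (hm : g.Monic) (hi : Irreducible g) (hd : g ∣ X ^ r - 1) :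
    g = X - 1 ∨ g ∈ Idx F r := by
  rw [← psi_mul] at hd
  rcases (hi.prime.dvd_or_dvd hd) with h | h
  · exact Or.inr ((mem_Idx hr0).2 ⟨hi, hm, h⟩)
  · left
    have h1 : Associated g (X - 1) := (hi.associated_of_dvd irr_X_sub_one h)
    exact eq_of_monic_of_associated hm monic_X_sub_one h1

theorem mem_dvd {r : ℕ} (hr0 : r ≠ 0) {j : F[X]} (hj : j ∈ Idx F r) : j ∣ X ^ r - 1 := by
  rw [← psi_mul]
  exact Dvd.dvd.mul_right ((mem_Idx hr0).1 hj).2.2 _

theorem coeff_zero_ne_of_dvd {r : ℕ} (hr0 : r ≠ 0) {g : F[X]} (hd : g ∣ X ^ r - 1) : g.coeff 0 ≠ 0 := by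
  obtain ⟨c, hc⟩ := hd
  intro h
  have h1 := congrArg (fun P => Polynomial.coeff P 0) hc
  simp only [mul_coeff_zero, h, zero_mul] at h1
  have h2 : (X ^ r - 1 : F[X]).coeff 0 = -1 := by
    have : ¬ 0 = r := fun h => hr0 h.symm
    simp [coeff_X_pow, this]
  rw [h2] at h1
  exact neg_ne_zero.mpr one_ne_zero h1

end factors

section degree

variable {F : Type u} [Field F] [Fintype F] {r : ℕ}

theorem frob_pow_apply {E : Type*} [Field E] [Fintype E] [Algebra F E] (b : ℕ) (x : E) :
    ((FiniteField.frobeniusAlgHom F E) ^ b) x = x ^ (Fintype.card F ^ b) := by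
  induction b with
  | zero => simp
  | succ b ih =>
    rw [pow_succ', AlgHom.mul_apply, ih, FiniteField.coe_frobeniusAlgHom, pow_succ (Fintype.card F) b, pow_mul]

/-- The degree of the irreducible factors. -/
theorem natDegree_of_mem [hrp : Fact r.Prime] (hr : (r : F) ≠ 0) {j : F[X]} (hj : j ∈ Idx F r) :
    j.natDegree = orderOf ((Fintype.card F : ℕ) : ZMod r) := by
  classical
  have hprime : r.Prime := Fact.out
  have hr0 : r ≠ 0 := hprime.ne_zero
  obtain ⟨hi, hm, hdP⟩ := (mem_Idx hr0).1 hj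
  have hQ1 : 1 < Fintype.card F := Fintype.one_lt_card
  haveI : Fact (Irreducible j) := ⟨hi⟩
  haveI : Module.Finite F (AdjoinRoot j) := hm.finite_adjoinRoot
  haveI : Finite (AdjoinRoot j) := Module.finite_of_finite F
  haveI : Fintype (AdjoinRoot j) := Fintype.ofFinite _
  obtain ⟨θ, hθ⟩ : ∃ θ, θ = AdjoinRoot.root j := ⟨_, rfl⟩
  -- θ has order r
  have hpow : θ ^ r = 1 := by
    have h1 : AdjoinRoot.mk j (X ^ r - 1) = 0 := AdjoinRoot.mk_eq_zero.2 (mem_dvd hr0 hj)
    rw [map_sub, map_pow, AdjoinRoot.mk_X, map_one, sub_eq_zero, ← hθ] at h1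
    exact h1
  have hne : θ ≠ 1 := by
    intro h1
    have h2 : AdjoinRoot.mk j (X - 1) = 0 := by
      rw [map_sub, AdjoinRoot.mk_X, map_one, ← hθ, h1, sub_self]
    rw [AdjoinRoot.mk_eq_zero] at h2
    have h3 : Associated j (X - 1) := hi.associated_of_dvd irr_X_sub_one h2
    have h4 := eq_of_monic_of_associated hm monic_X_sub_one h3
    rw [h4] at hj
    exact one_not_mem hr hr0 hj
  haveI : Fact (Nat.Prime r) := hrp
  have hord : orderOf θ = r := orderOf_eq_prime hpow hne
  have hθ0 : θ ≠ 0 := by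
    rintro rfl
    rw [zero_pow hr0] at hpow
    exact zero_ne_one hpow
  have hd : finrank F (AdjoinRoot j) = j.natDegree := finrank_adjoinRoot hm
  have hcard : Fintype.card (AdjoinRoot j) = Fintype.card F ^ j.natDegree := by
    rw [← hd]
    exact Module.card_eq_pow_finrank (K := F) (V := AdjoinRoot j)
  have hd0 : j.natDegree ≠ 0 := hi.natDegree_pos.ne'
  -- the order divides the degree
  have h1 : r ∣ Fintype.card F ^ j.natDegree - 1 := by
    rw [← hord, ← hcard]
    exact orderOf_dvd_of_pow_eq_one (FiniteField.pow_card_sub_one_eq_one θ hθ0)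
  have h2 : ((Fintype.card F : ℕ) : ZMod r) ^ j.natDegree = 1 := by
    have h3 := (ZMod.natCast_eq_zero_iff _ _).2 h1
    rw [Nat.cast_sub (Nat.one_le_pow _ _ (by omega)), Nat.cast_pow, Nat.cast_one, sub_eq_zero] at h3
    exact h3
  have h3 := orderOf_dvd_of_pow_eq_one h2
  obtain ⟨b, hb⟩ : ∃ b, b = orderOf ((Fintype.card F : ℕ) : ZMod r) := ⟨_, rfl⟩
  rw [← hb] at h3 ⊢
  have hble := Nat.le_of_dvd (Nat.pos_of_ne_zero hd0) h3
  have hb0 : b ≠ 0 := by
    rintro rfl
    exact hd0 (Nat.eq_zero_of_zero_dvd h3)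
  -- the converse
  have h4 : ((Fintype.card F : ℕ) : ZMod r) ^ b = 1 := by
    rw [hb]
    exact pow_orderOf_eq_one _
  have h5 : r ∣ Fintype.card F ^ b - 1 := by
    rw [← ZMod.natCast_eq_zero_iff, Nat.cast_sub (Nat.one_le_pow _ _ (by omega)), Nat.cast_pow, Nat.cast_one, h4, sub_self]
  obtain ⟨c, hc⟩ := h5
  have hfix : θ ^ (Fintype.card F ^ b) = θ := by
    have e : Fintype.card F ^ b = r * c + 1 := by
      have := Nat.one_le_pow b (Fintype.card F) (by omega)
      omega
    rw [e, pow_succ, pow_mul, hpow, one_pow, one_mul]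
  have hid : (FiniteField.frobeniusAlgHom F (AdjoinRoot j)) ^ b = AlgHom.id F (AdjoinRoot j) := by
    apply AdjoinRoot.algHom_ext
    rw [frob_pow_apply, ← hθ, hfix]
    rfl
  have hall : ∀ x : AdjoinRoot j, x ^ (Fintype.card F ^ b) = x := by
    intro x
    rw [← frob_pow_apply (F := F), hid]
    rfl
  have hQb : 1 < Fintype.card F ^ b := Nat.one_lt_pow hb0 hQ1
  have hneP := FiniteField.X_pow_card_sub_X_ne_zero (AdjoinRoot j) hQb
  have hsub : (Finset.univ : Finset (AdjoinRoot j)).val ⊆ (X ^ (Fintype.card F ^ b) - X : (AdjoinRoot j)[X]).roots := by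
    intro a _
    rw [Polynomial.mem_roots hneP]
    simp [Polynomial.IsRoot, hall a]
  have h6 := Polynomial.card_le_degree_of_subset_roots hsub
  rw [FiniteField.X_pow_card_sub_X_natDegree_eq (AdjoinRoot j) hQb, Finset.card_univ, hcard] at h6
  have h7 := (Nat.pow_le_pow_iff_right hQ1).1 h6
  omega

end degree

section matrices

variable {F : Type u} [Field F] {n : ℕ}

open scoped Classical

/-- A semisimple matrix: powers and the factors of the characteristic polynomial. -/
theorem pow_eq_one_of_dvd [Fintype F] {A : Matrix (Fin n) (Fin n) F} {m : ℕ} (hm : (m : F) ≠ 0) (hA : A ^ m = 1) (r : ℕ)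
    (h : ∀ g : F[X], g.Monic → Irreducible g → g ∣ A.charpoly → g ∣ X ^ r - 1) : A ^ r = 1 := by
  have hpow : (Matrix.toLin' A : End F (Fin n → F)) ^ m = 1 := by
    have := congrArg (Matrix.toLinAlgEquiv' (R := F) (n := Fin n)) hA
    rw [map_pow, map_one] at this
    exact this
  obtain ⟨ι, _, f, hfm, hfi, hS⟩ := exists_ss_model (Matrix.toLin' A) hm hpow
  haveI := fun i => (hfm i).finite_adjoinRoot
  have hc : A.charpoly = ∏ i, f i := by
    have e1 := sim_charpoly_eq hS
    rw [Matrix.charpoly_toLin', charpoly_TT hfm] at e1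
    exact e1
  have hroot : ∀ i, AdjoinRoot.root (f i) ^ r = 1 := by
    intro i
    have h1 : f i ∣ X ^ r - 1 := h _ (hfm i) (hfi i) (by
      rw [hc]
      exact Finset.dvd_prod_of_mem _ (Finset.mem_univ i))
    have h2 : AdjoinRoot.mk (f i) (X ^ r - 1) = 0 := AdjoinRoot.mk_eq_zero.2 h1
    rw [map_sub, map_pow, AdjoinRoot.mk_X, map_one, sub_eq_zero] at h2
    exact h2
  obtain ⟨g, hg⟩ := hS
  have hgr : ∀ (j : ℕ) (v : Fin n → F), g ((Matrix.toLin' A ^ j) v) = (TT f ^ j) (g v) := by
    intro j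
    induction j with
    | zero => intro v; simp
    | succ j ih =>
      intro v
      rw [pow_succ, pow_succ, Module.End.mul_apply, Module.End.mul_apply, ih, hg]
  have hTT : ∀ v, (TT f ^ r) v = v := by
    intro v
    funext i
    rw [TT_pow_apply, hroot, one_mul]
  have h1 : (Matrix.toLin' A : End F (Fin n → F)) ^ r = 1 := by
    refine LinearMap.ext fun v => ?_
    apply g.injective
    rw [hgr, hTT]
    rfl
  have h2 : Matrix.toLinAlgEquiv' (R := F) (n := Fin n) (A ^ r) = Matrix.toLinAlgEquiv' (R := F) (n := Fin n) 1 := by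
    rw [map_pow, map_one]
    exact h1
  exact (Matrix.toLinAlgEquiv' (R := F) (n := Fin n)).injective h2

theorem dvd_of_pow_eq_one [Fintype F] {A : Matrix (Fin n) (Fin n) F} {r : ℕ} (hr : (r : F) ≠ 0) (hA : A ^ r = 1) {g : F[X]}
    (hi : Irreducible g) (hd : g ∣ A.charpoly) : g ∣ X ^ r - 1 := by
  have hpow : (Matrix.toLin' A : End F (Fin n → F)) ^ r = 1 := by
    have := congrArg (Matrix.toLinAlgEquiv' (R := F) (n := Fin n)) hA
    rw [map_pow, map_one] at this
    exact this
  obtain ⟨ι, _, f, hfm, hfi, hS⟩ := exists_ss_model (Matrix.toLin' A) hr hpow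
  haveI := fun i => (hfm i).finite_adjoinRoot
  have hc : A.charpoly = ∏ i, f i := by
    have e1 := sim_charpoly_eq hS
    rw [Matrix.charpoly_toLin', charpoly_TT hfm] at e1
    exact e1
  rw [hc] at hd
  obtain ⟨i, -, hi2⟩ := (Prime.dvd_finsetProd_iff hi.prime _).1 hd
  refine hi2.trans ?_
  obtain ⟨g', hg'⟩ := hS
  haveI : Fact (Irreducible (f i)) := ⟨hfi i⟩
  -- the root has order dividing r
  have hgr : ∀ (j : ℕ) (v : Fin n → F), g' ((Matrix.toLin' A ^ j) v) = (TT f ^ j) (g' v) := by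
    intro j
    induction j with
    | zero => intro v; simp
    | succ j ih =>
      intro v
      rw [pow_succ, pow_succ, Module.End.mul_apply, Module.End.mul_apply, ih, hg']
  have hroot : AdjoinRoot.root (f i) ^ r = 1 := by
    have h1 := hgr r (g'.symm (Pi.mulSingle i 1))
    rw [hpow] at h1
    have h2 : g' ((1 : End F (Fin n → F)) (g'.symm (Pi.mulSingle i 1))) = Pi.mulSingle i 1 := by
      simp
    rw [h2, LinearEquiv.apply_symm_apply] at h1
    have h3 := congrFun h1 i
    rw [TT_pow_apply] at h3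
    simpa using h3.symm
  rw [← AdjoinRoot.mk_eq_zero, map_sub, map_pow, AdjoinRoot.mk_X, map_one, hroot, sub_self]

end matrices
section tuples

open scoped Classical

variable {F : Type u} [Field F] [Fintype F] {r : ℕ}

/-- The polynomial with prescribed multiplicities. -/
noncomputable def Pa (F : Type u) [Field F] [Fintype F] (r n : ℕ) (a : ↥(Idx F r) → ℕ) : F[X] :=
  (X - 1) ^ (n - orderOf ((Fintype.card F : ℕ) : ZMod r) * ∑ j, a j) * ∏ j : ↥(Idx F r), (j : F[X]) ^ a j

variable {n : ℕ} {a : ↥(Idx F r) → ℕ}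

theorem Pa_monic (hr0 : r ≠ 0) : (Pa F r n a).Monic := by
  refine Monic.mul (monic_X_sub_one.pow _) (monic_prod_of_monic _ _ fun j _ => ?_)
  exact ((mem_Idx hr0).1 j.2).2.1.pow _

theorem Pa_natDegree [Fact r.Prime] (hr : (r : F) ≠ 0) (hb : orderOf ((Fintype.card F : ℕ) : ZMod r) * ∑ j, a j ≤ n) :
    (Pa F r n a).natDegree = n := by
  have hprime : r.Prime := Fact.out
  have hr0 := hprime.ne_zero
  have h1 : (X - 1 : F[X]).natDegree = 1 := by
    have := natDegree_X_sub_C (1 : F)
    simpa using this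
  rw [Pa, Monic.natDegree_mul (monic_X_sub_one.pow _) (monic_prod_of_monic _ _ fun j _ => ((mem_Idx hr0).1 j.2).2.1.pow _),
    Monic.natDegree_pow monic_X_sub_one, h1, natDegree_prod_of_monic _ _ fun j _ => ((mem_Idx hr0).1 j.2).2.1.pow _]
  have h2 : ∑ j : ↥(Idx F r), ((j : F[X]) ^ a j).natDegree = orderOf ((Fintype.card F : ℕ) : ZMod r) * ∑ j, a j := by
    rw [Finset.mul_sum]
    refine Finset.sum_congr rfl fun j _ => ?_
    rw [Monic.natDegree_pow ((mem_Idx hr0).1 j.2).2.1, natDegree_of_mem hr j.2, mul_comm]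
  rw [h2]
  omega

theorem Pa_dvd (hr0 : r ≠ 0) {g : F[X]} (hi : Irreducible g) (hd : g ∣ Pa F r n a) : g ∣ X ^ r - 1 := by
  rcases hi.prime.dvd_or_dvd hd with h | h
  · exact (hi.prime.dvd_of_dvd_pow h).trans (X_sub_one_dvd r)
  · obtain ⟨j, -, h2⟩ := (Prime.dvd_finsetProd_iff hi.prime _).1 h
    exact (hi.prime.dvd_of_dvd_pow h2).trans (mem_dvd hr0 j.2)

theorem coeff_zero_of_supp (hr0 : r ≠ 0) {f : F[X]} (hf : f.Monic)
    (hs : ∀ g : F[X], Irreducible g → g ∣ f → g ∣ X ^ r - 1) : f.coeff 0 ≠ 0 := by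
  intro h
  have h1 : (X : F[X]) ∣ f := X_dvd_iff.2 h
  have h2 := hs X irreducible_X h1
  have h3 := coeff_zero_ne_of_dvd hr0 h2
  simp at h3

/-- Multiplicities can be read off. -/
theorem emult_Pa (hr : (r : F) ≠ 0) (hr0 : r ≠ 0) (j₀ : ↥(Idx F r)) :
    emultiplicity (j₀ : F[X]) (Pa F r n a) = a j₀ := by
  obtain ⟨hi, hm, -⟩ := (mem_Idx hr0).1 j₀.2
  have hp := hi.prime
  rw [Pa, emultiplicity_mul hp, emultiplicity_pow hp, Finset.emultiplicity_prod hp]
  have h1 : emultiplicity (j₀ : F[X]) (X - 1) = 0 := by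
    rw [emultiplicity_eq_zero]
    intro h
    have h3 : Associated (j₀ : F[X]) (X - 1) := hi.associated_of_dvd irr_X_sub_one h
    have h4 := eq_of_monic_of_associated hm monic_X_sub_one h3
    have h5 := j₀.2
    rw [h4] at h5
    exact one_not_mem hr hr0 h5
  rw [h1, mul_zero, zero_add, Finset.sum_eq_single j₀]
  · rw [emultiplicity_pow hp, FiniteMultiplicity.emultiplicity_self (FiniteMultiplicity.of_not_isUnit hi.not_isUnit hi.ne_zero), mul_one]
  · intro j _ hj
    rw [emultiplicity_pow hp]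
    have h2 : emultiplicity (j₀ : F[X]) (j : F[X]) = 0 := by
      rw [emultiplicity_eq_zero]
      intro h
      have h3 : Associated (j₀ : F[X]) (j : F[X]) := hi.associated_of_dvd ((mem_Idx hr0).1 j.2).1 h
      have h4 := eq_of_monic_of_associated hm ((mem_Idx hr0).1 j.2).2.1 h3
      exact hj (Subtype.ext h4.symm)
    rw [h2, mul_zero]
  · intro h
    exact absurd (Finset.mem_univ _) h

theorem Pa_inj (hr : (r : F) ≠ 0) (hr0 : r ≠ 0) {a a' : ↥(Idx F r) → ℕ} (h : Pa F r n a = Pa F r n a') : a = a' := by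
  funext j
  have h1 := emult_Pa (n := n) (a := a) hr hr0 j
  rw [h, emult_Pa hr hr0 j] at h1
  exact_mod_cast h1.symm

/-- Every polynomial supported on the factors of `X^r - 1` has this form. -/
theorem exists_Pa [Fact r.Prime] (hr : (r : F) ≠ 0) {f : F[X]} (hf : f.Monic) (hd : f.natDegree = n)
    (hs : ∀ g : F[X], Irreducible g → g ∣ f → g ∣ X ^ r - 1) :
    ∃ a : ↥(Idx F r) → ℕ, orderOf ((Fintype.card F : ℕ) : ZMod r) * ∑ j, a j ≤ n ∧ f = Pa F r n a := by
  have hprime : r.Prime := Fact.out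
  have hr0 := hprime.ne_zero
  obtain ⟨s, hsdef⟩ : ∃ s, s = normalizedFactors f := ⟨_, rfl⟩
  have h1 : s.prod = f := by
    have h3 := leadingCoeff_mul_prod_normalizedFactors f
    rw [hf.leadingCoeff, map_one, one_mul, ← hsdef] at h3
    exact h3
  have hmem : ∀ m ∈ s, m = X - 1 ∨ m ∈ Idx F r := by
    intro m hm
    rw [hsdef] at hm
    obtain ⟨h3, h4, h5⟩ := (Polynomial.mem_normalizedFactors_iff hf.ne_zero).1 hm
    exact eq_or_mem hr0 h4 h3 (hs m h3 h5)
  have h2 : f = (X - 1) ^ s.count (X - 1) * ∏ j : ↥(Idx F r), (j : F[X]) ^ s.count (j : F[X]) := by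
    rw [← h1, Finset.prod_multiset_count s]
    have hsub : s.toFinset ⊆ insert (X - 1) (Idx F r) := by
      intro m hm
      rw [Multiset.mem_toFinset] at hm
      rcases hmem m hm with h3 | h3
      · rw [h3]
        exact Finset.mem_insert_self _ _
      · exact Finset.mem_insert_of_mem h3
    rw [Finset.prod_subset hsub (fun m _ hm => by
      rw [Multiset.mem_toFinset] at hm
      rw [Multiset.count_eq_zero.2 hm, pow_zero]), Finset.prod_insert (one_not_mem hr hr0)]
    congr 1
    exact (Finset.prod_coe_sort (Idx F r) (fun m => m ^ s.count m)).symm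
  refine ⟨fun j => s.count (j : F[X]), ?_, ?_⟩
  · have h3 : ((X - 1 : F[X]) ^ s.count (X - 1) * ∏ j : ↥(Idx F r), (j : F[X]) ^ s.count (j : F[X])).natDegree =
        s.count (X - 1) + orderOf ((Fintype.card F : ℕ) : ZMod r) * ∑ j : ↥(Idx F r), s.count (j : F[X]) := by
      have h4 : (X - 1 : F[X]).natDegree = 1 := by
        have := natDegree_X_sub_C (1 : F)
        simpa using this
      rw [Monic.natDegree_mul (monic_X_sub_one.pow _) (monic_prod_of_monic _ _ fun j _ => ((mem_Idx hr0).1 j.2).2.1.pow _),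
        Monic.natDegree_pow monic_X_sub_one, h4, natDegree_prod_of_monic _ _ fun j _ => ((mem_Idx hr0).1 j.2).2.1.pow _,
        mul_one, Finset.mul_sum]
      congr 1
      refine Finset.sum_congr rfl fun j _ => ?_
      rw [Monic.natDegree_pow ((mem_Idx hr0).1 j.2).2.1, natDegree_of_mem hr j.2, mul_comm]
    rw [← h2, hd] at h3
    show orderOf ((Fintype.card F : ℕ) : ZMod r) * ∑ j : ↥(Idx F r), s.count (j : F[X]) ≤ n
    omega
  · have h3 : ((X - 1 : F[X]) ^ s.count (X - 1) * ∏ j : ↥(Idx F r), (j : F[X]) ^ s.count (j : F[X])).natDegree =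
        s.count (X - 1) + orderOf ((Fintype.card F : ℕ) : ZMod r) * ∑ j : ↥(Idx F r), s.count (j : F[X]) := by
      have h4 : (X - 1 : F[X]).natDegree = 1 := by
        have := natDegree_X_sub_C (1 : F)
        simpa using this
      rw [Monic.natDegree_mul (monic_X_sub_one.pow _) (monic_prod_of_monic _ _ fun j _ => ((mem_Idx hr0).1 j.2).2.1.pow _),
        Monic.natDegree_pow monic_X_sub_one, h4, natDegree_prod_of_monic _ _ fun j _ => ((mem_Idx hr0).1 j.2).2.1.pow _,
        mul_one, Finset.mul_sum]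
      congr 1
      refine Finset.sum_congr rfl fun j _ => ?_
      rw [Monic.natDegree_pow ((mem_Idx hr0).1 j.2).2.1, natDegree_of_mem hr j.2, mul_comm]
    rw [← h2, hd] at h3
    have h5 : n - orderOf ((Fintype.card F : ℕ) : ZMod r) * ∑ j : ↥(Idx F r), s.count (j : F[X]) = s.count (X - 1) := by omega
    rw [Pa, h5]
    exact h2

theorem card_Idx [Fact r.Prime] (hr : (r : F) ≠ 0) :
    Fintype.card ↥(Idx F r) * orderOf ((Fintype.card F : ℕ) : ZMod r) = r - 1 := by
  have hprime : r.Prime := Fact.out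
  have hr0 := hprime.ne_zero
  have h1 := psi_natDegree (F := F) hr0
  rw [← prod_Idx hr hr0, natDegree_prod_of_monic _ _ fun j hj => ((mem_Idx hr0).1 hj).2.1,
    Finset.sum_congr rfl (fun j hj => natDegree_of_mem hr hj), Finset.sum_const, smul_eq_mul] at h1
  rw [Fintype.card_coe]
  exact h1

end tuples

end Cfsg.Agent.Lib.PrimeFactors
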