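import Mathlib
import Cfsg.Agent.Lib.PrimeFactors

/-!
# Dual polynomials and the factors of `X^r - 1`

For a ring automorphism `σ` of a field with `σ ∘ σ = id`, the operation `f ↦ σ(f(0))⁻¹ f^σ` reversed permutes
the monic irreducible factors of `X^r - 1`, and we compute when it has fixed points.
-/

set_option autoImplicit false
set_option linter.unusedSectionVars false
set_option linter.unusedSimpArgs false
set_option linter.unusedVariables false

namespace Cfsg.Agent.Lib.DualFactors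

open Module Polynomial
open Cfsg.Agent.Lib.PrimeFactors

universe u

section dual

variable {F : Type u} [Field F] (σ : F →+* F)

/-- The dual of a polynomial. -/
noncomputable def Dl (f : F[X]) : F[X] := C (σ (f.coeff 0))⁻¹ * (f.map σ).reverse

theorem Dl_mul (f g : F[X]) : Dl σ (f * g) = Dl σ f * Dl σ g := by
  unfold Dl
  rw [mul_coeff_zero, map_mul, mul_inv, C_mul, Polynomial.map_mul, reverse_mul_of_domain]
  ring

theorem Dl_one : Dl σ 1 = 1 := by
  have h : (1 : F[X]).reverse = 1 := by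
    have := reverse_C (1 : F)
    simpa using this
  simp [Dl, h]

/-- `Dl` as a monoid homomorphism. -/
noncomputable def DlHom : F[X] →* F[X] where
  toFun := Dl σ
  map_one' := Dl_one σ
  map_mul' := Dl_mul σ

theorem DlHom_apply (f : F[X]) : DlHom σ f = Dl σ f := rfl

variable {σ} {f : F[X]}

theorem natTrailing_map (hf0 : f.coeff 0 ≠ 0) : (f.map σ).natTrailingDegree = 0 := by
  rw [natTrailingDegree_eq_zero]
  right
  rw [coeff_map]
  exact (map_ne_zero σ).2 hf0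

theorem natDegree_Dl (hf0 : f.coeff 0 ≠ 0) : (Dl σ f).natDegree = f.natDegree := by
  unfold Dl
  rw [natDegree_C_mul (inv_ne_zero ((map_ne_zero σ).2 hf0)), reverse_natDegree, natTrailing_map hf0,
    natDegree_map_eq_of_injective σ.injective, Nat.sub_zero]

theorem leadingCoeff_Dl (hf0 : f.coeff 0 ≠ 0) : (Dl σ f).leadingCoeff = 1 := by
  unfold Dl
  rw [leadingCoeff_mul, leadingCoeff_C, reverse_leadingCoeff, trailingCoeff, natTrailing_map hf0, coeff_map]
  exact inv_mul_cancel₀ ((map_ne_zero σ).2 hf0)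

theorem monic_Dl (hf0 : f.coeff 0 ≠ 0) : (Dl σ f).Monic := leadingCoeff_Dl hf0

theorem coeff_zero_Dl (hf : f.Monic) : (Dl σ f).coeff 0 = (σ (f.coeff 0))⁻¹ := by
  unfold Dl
  rw [mul_coeff_zero, coeff_C_zero, coeff_zero_reverse, leadingCoeff_map, hf.leadingCoeff, map_one, mul_one]

theorem reverse_reverse_of (hf0 : f.coeff 0 ≠ 0) : f.reverse.reverse = f := by
  ext i
  rw [coeff_reverse, coeff_reverse]
  have h1 : f.reverse.natDegree = f.natDegree := by
    rw [reverse_natDegree, natTrailingDegree_eq_zero.2 (Or.inr hf0), Nat.sub_zero]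
  rw [h1, revAt_invol]

theorem Dl_Dl (hσ : ∀ x, σ (σ x) = x) (hf : f.Monic) (hf0 : f.coeff 0 ≠ 0) : Dl σ (Dl σ f) = f := by
  have h1 : Dl σ f = C (σ (f.coeff 0))⁻¹ * (f.map σ).reverse := rfl
  have h2 : (Dl σ f).map σ = C (f.coeff 0)⁻¹ * f.reverse := by
    rw [h1, Polynomial.map_mul, map_C, map_inv₀, hσ]
    congr 1
    ext i
    rw [coeff_map, coeff_reverse, coeff_reverse, natDegree_map_eq_of_injective σ.injective, coeff_map, hσ]
  have h3 : ((C (f.coeff 0)⁻¹ : F[X]) * f.reverse).reverse = C (f.coeff 0)⁻¹ * f := by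
    rw [reverse_mul_of_domain, reverse_C, reverse_reverse_of hf0]
  show C (σ ((Dl σ f).coeff 0))⁻¹ * ((Dl σ f).map σ).reverse = f
  rw [h2, h3, coeff_zero_Dl hf, map_inv₀ σ, hσ, inv_inv, ← mul_assoc, ← C_mul, mul_inv_cancel₀ hf0, C_1, one_mul]

theorem coeff_zero_ne_of_monic_Dl (hσ : ∀ x, σ (σ x) = x) (hf : f.Monic) (hf0 : f.coeff 0 ≠ 0) : (Dl σ f).coeff 0 ≠ 0 := by
  rw [coeff_zero_Dl hf]
  exact inv_ne_zero ((map_ne_zero σ).2 hf0)

theorem Dl_ne_zero (hf0 : f.coeff 0 ≠ 0) : Dl σ f ≠ 0 := (monic_Dl hf0).ne_zero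

theorem irreducible_Dl (hσ : ∀ x, σ (σ x) = x) (hf : f.Monic) (hf0 : f.coeff 0 ≠ 0) (hi : Irreducible f) :
    Irreducible (Dl σ f) := by
  have hm := monic_Dl (σ := σ) hf0
  rw [hm.irreducible_iff_natDegree]
  have hdeg := natDegree_Dl (σ := σ) hf0
  have hpos := hi.natDegree_pos
  refine ⟨?_, ?_⟩
  · intro h
    rw [h, natDegree_one] at hdeg
    omega
  · intro g h hg hh hgh
    have h0 : (Dl σ f).coeff 0 ≠ 0 := coeff_zero_ne_of_monic_Dl hσ hf hf0
    rw [← hgh, mul_coeff_zero] at h0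
    have hg0 : g.coeff 0 ≠ 0 := left_ne_zero_of_mul h0
    have hh0 : h.coeff 0 ≠ 0 := right_ne_zero_of_mul h0
    have h1 : Dl σ g * Dl σ h = f := by
      rw [← Dl_mul, hgh, Dl_Dl hσ hf hf0]
    rcases hi.isUnit_or_isUnit h1.symm with hu | hu
    · left
      rw [← natDegree_Dl (σ := σ) hg0]
      exact natDegree_eq_zero_of_isUnit hu
    · right
      rw [← natDegree_Dl (σ := σ) hh0]
      exact natDegree_eq_zero_of_isUnit hu

theorem Dl_X_pow_sub_one {r : ℕ} (hr : r ≠ 0) (hσ1 : σ (-1) = -1) : Dl σ (X ^ r - 1 : F[X]) = X ^ r - 1 := by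
  have h0 : ((X ^ r - 1 : F[X])).coeff 0 = -1 := by
    have : ¬ 0 = r := fun h => hr h.symm
    simp [coeff_X_pow, this]
  have h1 : (X ^ r - 1 : F[X]).map σ = X ^ r - 1 := by
    simp
  have hd : (X ^ r - 1 : F[X]).natDegree = r := by
    have := natDegree_X_pow_sub_C (n := r) (r := (1 : F))
    simpa using this
  have h2 : (X ^ r - 1 : F[X]).reverse = 1 - X ^ r := by
    rw [reverse, hd, reflect_sub, reflect_monomial, reflect_one]
    simp
  unfold Dl
  rw [h0, h1, h2, hσ1]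
  rw [inv_neg, inv_one, C_neg, C_1]
  ring

theorem Dl_X_sub_one (hσ1 : σ (-1) = -1) : Dl σ (X - 1 : F[X]) = X - 1 := by
  have h := Dl_X_pow_sub_one (σ := σ) (r := 1) one_ne_zero hσ1
  simpa using h

end dual

section fixed

variable {F : Type u} [Field F] [Fintype F] {σ : F →+* F} {r : ℕ}

theorem Dl_mem_Idx (hσ : ∀ x, σ (σ x) = x) (hσ1 : σ (-1) = -1) (hr : (r : F) ≠ 0) (hr0 : r ≠ 0) {j : F[X]} (hj : j ∈ Idx F r) :
    Dl σ j ∈ Idx F r := by
  obtain ⟨hi, hm, -⟩ := (mem_Idx hr0).1 hj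
  have hd := mem_dvd hr0 hj
  have h0 := coeff_zero_ne_of_dvd hr0 hd
  have hd' : Dl σ j ∣ X ^ r - 1 := by
    obtain ⟨c, hc⟩ := hd
    rw [← Dl_X_pow_sub_one (σ := σ) hr0 hσ1, hc, Dl_mul]
    exact Dvd.intro _ rfl
  rcases eq_or_mem hr0 (monic_Dl h0) (irreducible_Dl hσ hm h0 hi) hd' with h | h
  · exfalso
    have h1 : j = X - 1 := by
      rw [← Dl_Dl hσ hm h0, h, Dl_X_sub_one hσ1]
    rw [h1] at hj
    exact one_not_mem hr hr0 hj
  · exact h

/-- The involution on the set of factors. -/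
noncomputable def dl (hσ : ∀ x, σ (σ x) = x) (hσ1 : σ (-1) = -1) (hr : (r : F) ≠ 0) (hr0 : r ≠ 0) (j : ↥(Idx F r)) : ↥(Idx F r) :=
  ⟨Dl σ j, Dl_mem_Idx hσ hσ1 hr hr0 j.2⟩

theorem dl_dl (hσ : ∀ x, σ (σ x) = x) (hσ1 : σ (-1) = -1) (hr : (r : F) ≠ 0) (hr0 : r ≠ 0) (j : ↥(Idx F r)) :
    dl hσ hσ1 hr hr0 (dl hσ hσ1 hr hr0 j) = j := by
  obtain ⟨hi, hm, -⟩ := (mem_Idx hr0).1 j.2
  exact Subtype.ext (Dl_Dl hσ hm (coeff_zero_ne_of_dvd hr0 (mem_dvd hr0 j.2)))

theorem Dl_Pa (hσ : ∀ x, σ (σ x) = x) (hσ1 : σ (-1) = -1) (hr : (r : F) ≠ 0) (hr0 : r ≠ 0) (n : ℕ) (a : ↥(Idx F r) → ℕ) :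
    Dl σ (Pa F r n a) = Pa F r n (a ∘ dl hσ hσ1 hr hr0) := by
  obtain ⟨e, he⟩ : ∃ e : Equiv.Perm ↥(Idx F r), e = Function.Involutive.toPerm _ (dl_dl hσ hσ1 hr hr0) := ⟨_, rfl⟩
  have hev : ∀ j, e j = dl hσ hσ1 hr hr0 j := by
    intro j
    rw [he]
    rfl
  have hee : ∀ j, e (e j) = j := fun j => by rw [hev, hev, dl_dl]
  have hc : a ∘ dl hσ hσ1 hr hr0 = a ∘ e := by
    funext j
    simp [hev]
  rw [hc]
  have hsum : ∑ j, (a ∘ e) j = ∑ j, a j := Equiv.sum_comp e a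
  unfold Pa
  rw [hsum, Dl_mul]
  congr 1
  · rw [← DlHom_apply, map_pow, DlHom_apply, Dl_X_sub_one hσ1]
  · rw [← DlHom_apply, map_prod]
    have h1 : ∀ j : ↥(Idx F r), DlHom σ ((j : F[X]) ^ a j) = (e j : F[X]) ^ a j := by
      intro j
      rw [map_pow, DlHom_apply, hev]
      rfl
    rw [Finset.prod_congr rfl (fun j _ => h1 j)]
    rw [← Equiv.prod_comp e (fun j => (j : F[X]) ^ (a ∘ e) j)]
    refine Finset.prod_congr rfl fun j _ => ?_
    simp [hee]

end fixed

section roots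

variable {F : Type u} [Field F] [Fintype F] {r : ℕ}

theorem root_order [hrp : Fact r.Prime] (hr : (r : F) ≠ 0) {j : F[X]} (hj : j ∈ Idx F r) [Fact (Irreducible j)] :
    orderOf (AdjoinRoot.root j) = r := by
  have hprime : r.Prime := Fact.out
  have hr0 : r ≠ 0 := hprime.ne_zero
  obtain ⟨hi, hm, hdP⟩ := (mem_Idx hr0).1 hj
  have hpow : AdjoinRoot.root j ^ r = 1 := by
    have h1 : AdjoinRoot.mk j (X ^ r - 1) = 0 := AdjoinRoot.mk_eq_zero.2 (mem_dvd hr0 hj)
    rw [map_sub, map_pow, AdjoinRoot.mk_X, map_one, sub_eq_zero] at h1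
    exact h1
  have hne : AdjoinRoot.root j ≠ 1 := by
    intro h1
    have h2 : AdjoinRoot.mk j (X - 1) = 0 := by
      rw [map_sub, AdjoinRoot.mk_X, map_one, h1, sub_self]
    rw [AdjoinRoot.mk_eq_zero] at h2
    have h3 : Associated j (X - 1) := hi.associated_of_dvd irr_X_sub_one h2
    have h4 := eq_of_monic_of_associated hm monic_X_sub_one h3
    rw [h4] at hj
    exact one_not_mem hr hr0 hj
  exact orderOf_eq_prime hpow hne

theorem aeval_root_eq (j : F[X]) : aeval (AdjoinRoot.root j) j = 0 := by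
  exact AdjoinRoot.aeval_eq j ▸ (by simp)

theorem aeval_frob {E : Type*} [Field E] [Fintype E] [Algebra F E] {j : F[X]} {θ : E} (h : aeval θ j = 0) (k : ℕ) :
    aeval (θ ^ (Fintype.card F ^ k)) j = 0 := by
  rw [← frob_pow_apply (F := F), Polynomial.aeval_algHom_apply, h, map_zero]

theorem exists_pow_of_root [hrp : Fact r.Prime] (hr : (r : F) ≠ 0) {j : F[X]} (hj : j ∈ Idx F r) [Fact (Irreducible j)]
    [Fintype (AdjoinRoot j)] {y : AdjoinRoot j} (hy : aeval y j = 0) :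
    ∃ k, y = AdjoinRoot.root j ^ (Fintype.card F ^ k) := by
  classical
  have hprime : r.Prime := Fact.out
  have hr0 : r ≠ 0 := hprime.ne_zero
  obtain ⟨hi, hm, hdP⟩ := (mem_Idx hr0).1 hj
  have hord := root_order hr hj
  obtain ⟨θ, hθ⟩ : ∃ θ, θ = AdjoinRoot.root j := ⟨_, rfl⟩
  rw [← hθ] at hord ⊢
  have h0 : aeval θ j = 0 := by rw [hθ]; exact aeval_root_eq j
  have hdeg := natDegree_of_mem hr hj
  obtain ⟨b, hb⟩ : ∃ b, b = orderOf ((Fintype.card F : ℕ) : ZMod r) := ⟨_, rfl⟩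
  rw [← hb] at hdeg
  let S : Finset (AdjoinRoot j) := (Finset.range b).image (fun k => θ ^ (Fintype.card F ^ k))
  have hcard : S.card = b := by
    rw [Finset.card_image_of_injOn, Finset.card_range]
    intro k hk l hl hkl
    have h1 : θ ^ (Fintype.card F ^ k) = θ ^ (Fintype.card F ^ l) := hkl
    have hfin : IsOfFinOrder θ := orderOf_pos_iff.1 (by rw [hord]; exact Nat.pos_of_ne_zero hr0)
    rw [hfin.pow_eq_pow_iff_modEq, hord] at h1
    have h2 := (ZMod.natCast_eq_natCast_iff _ _ _).2 h1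
    rw [Nat.cast_pow, Nat.cast_pow] at h2
    have hk' : k < orderOf ((Fintype.card F : ℕ) : ZMod r) := by
      rw [← hb]
      exact Finset.mem_range.1 hk
    have hl' : l < orderOf ((Fintype.card F : ℕ) : ZMod r) := by
      rw [← hb]
      exact Finset.mem_range.1 hl
    exact pow_injOn_Iio_orderOf hk' hl' h2
  have hsub : S ⊆ (j.aroots (AdjoinRoot j)).toFinset := by
    intro z hz
    obtain ⟨k, -, rfl⟩ := Finset.mem_image.1 hz
    rw [Multiset.mem_toFinset, mem_aroots]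
    exact ⟨hm.ne_zero, aeval_frob h0 k⟩
  have hle : (j.aroots (AdjoinRoot j)).toFinset.card ≤ S.card := by
    rw [hcard, ← hdeg]
    refine (Multiset.toFinset_card_le _).trans ?_
    exact (Polynomial.card_roots' _).trans natDegree_map_le
  have heq := Finset.eq_of_subset_of_card_le hsub hle
  have hymem : y ∈ (j.aroots (AdjoinRoot j)).toFinset := by
    rw [Multiset.mem_toFinset, mem_aroots]
    exact ⟨hm.ne_zero, hy⟩
  rw [← heq] at hymem
  obtain ⟨k, -, hk⟩ := Finset.mem_image.1 hymem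
  exact ⟨k, hk.symm⟩

variable {σ : F →+* F}

theorem aeval_Dl_inv {E : Type*} [Field E] [Algebra F E] (τ : E →+* E)
    (hτ : ∀ x, τ (algebraMap F E x) = algebraMap F E (σ x)) {θ : E} (hθ : θ ≠ 0) {j : F[X]}
    (h : aeval θ j = 0) : aeval (τ θ)⁻¹ (Dl σ j) = 0 := by
  have hx : τ θ ≠ 0 := (map_ne_zero τ).2 hθ
  letI := invertibleOfNonzero hx
  have h1 := eval₂_reverse_mul_pow (algebraMap F E) (τ θ) (j.map σ)
  have h2 : eval₂ (algebraMap F E) (τ θ) (j.map σ) = τ (aeval θ j) := by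
    rw [eval₂_map, aeval_def, hom_eval₂]
    congr 1
    ext x
    exact (hτ x).symm
  rw [h2, h, map_zero, invOf_eq_inv] at h1
  have h3 : eval₂ (algebraMap F E) (τ θ)⁻¹ (j.map σ).reverse = 0 :=
    (mul_eq_zero.1 h1).resolve_right (pow_ne_zero _ hx)
  unfold Dl
  rw [map_mul, aeval_def, aeval_def] at *
  rw [h3, mul_zero]

theorem dual_fixed_iff [hrp : Fact r.Prime] (hσ : ∀ x, σ (σ x) = x) (hr : (r : F) ≠ 0) {j : F[X]} (hj : j ∈ Idx F r) (m : ℕ)
    (τ : AdjoinRoot j →+* AdjoinRoot j) (hτ1 : ∀ x, τ (algebraMap F (AdjoinRoot j) x) = algebraMap F (AdjoinRoot j) (σ x))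
    (hτ2 : τ (AdjoinRoot.root j) = AdjoinRoot.root j ^ m) :
    Dl σ j = j ↔ ∃ k, ((Fintype.card F : ℕ) : ZMod r) ^ k = -(m : ZMod r) := by
  classical
  have hprime : r.Prime := Fact.out
  have hr0 : r ≠ 0 := hprime.ne_zero
  obtain ⟨hi, hm, hdP⟩ := (mem_Idx hr0).1 hj
  haveI : Fact (Irreducible j) := ⟨hi⟩
  haveI : Module.Finite F (AdjoinRoot j) := hm.finite_adjoinRoot
  haveI : Finite (AdjoinRoot j) := Module.finite_of_finite F
  haveI : Fintype (AdjoinRoot j) := Fintype.ofFinite _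
  have hord := root_order hr hj
  have h0 : aeval (AdjoinRoot.root j) j = 0 := aeval_root_eq j
  have hne : AdjoinRoot.root j ≠ 0 := by
    intro h
    rw [h, orderOf_zero] at hord
    exact hr0 hord.symm
  have hdual := aeval_Dl_inv τ hτ1 hne h0
  rw [hτ2] at hdual
  obtain ⟨θ, hθ⟩ : ∃ θ, θ = AdjoinRoot.root j := ⟨_, rfl⟩
  rw [← hθ] at hord h0 hne hdual
  have hj0 := coeff_zero_ne_of_dvd hr0 (mem_dvd hr0 hj)
  have key : ∀ k, θ ^ (Fintype.card F ^ k) = (θ ^ m)⁻¹ ↔ ((Fintype.card F : ℕ) : ZMod r) ^ k = -(m : ZMod r) := by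
    intro k
    have h1 : θ ^ (Fintype.card F ^ k) = (θ ^ m)⁻¹ ↔ θ ^ (Fintype.card F ^ k) * θ ^ m = 1 :=
      ⟨fun h => by rw [h, inv_mul_cancel₀ (pow_ne_zero _ hne)], fun h => eq_inv_of_mul_eq_one_left h⟩
    rw [h1, ← pow_add, ← orderOf_dvd_iff_pow_eq_one, hord,
      ← ZMod.natCast_eq_zero_iff, Nat.cast_add, Nat.cast_pow, add_eq_zero_iff_eq_neg]
  constructor
  · intro h
    rw [h] at hdual
    obtain ⟨k, hk⟩ := exists_pow_of_root hr hj hdual
    refine ⟨k, (key k).1 ?_⟩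
    rw [← hθ] at hk
    exact hk.symm
  · rintro ⟨k, hk⟩
    have h1 := (key k).2 hk
    have h2 : aeval (θ ^ m)⁻¹ j = 0 := by
      rw [← h1]
      exact aeval_frob h0 k
    have hDl0 := monic_Dl (σ := σ) hj0
    have hDi := irreducible_Dl hσ hm hj0 hi
    exact (minpoly.eq_of_irreducible_of_monic hDi hdual hDl0).trans (minpoly.eq_of_irreducible_of_monic hi h2 hm).symm

end roots

section arith

variable {r : ℕ} [hrp : Fact r.Prime]

theorem pow_half (hr2 : r ≠ 2) {x : ZMod r} {c : ℕ} (hc : 0 < c) (h : orderOf x = 2 * c) : x ^ c = -1 := by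
  have h1 : (x ^ c - 1) * (x ^ c + 1) = 0 := by
    have h2 : x ^ (2 * c) = 1 := by rw [← h]; exact pow_orderOf_eq_one x
    have h3 : (x ^ c - 1) * (x ^ c + 1) = x ^ (2 * c) - 1 := by
      rw [two_mul, pow_add]
      ring
    rw [h3, h2, sub_self]
  rcases mul_eq_zero.1 h1 with h2 | h2
  · exfalso
    rw [sub_eq_zero] at h2
    exact pow_ne_one_of_lt_orderOf hc.ne' (by omega) h2
  · exact eq_neg_of_add_eq_zero_left h2

theorem neg_one_ne (hr2 : r ≠ 2) : (-1 : ZMod r) ≠ 1 := by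
  have : Fact (2 < r) := ⟨by
    have := (Fact.out : r.Prime).two_le
    omega⟩
  exact ZMod.neg_one_ne_one

/-- The symplectic condition. -/
theorem exists_pow_eq_neg_one_iff (hr2 : r ≠ 2) {x : ZMod r} (hx : orderOf x ≠ 0) :
    (∃ k, x ^ k = -1) ↔ Even (orderOf x) := by
  constructor
  · rintro ⟨k, hk⟩
    by_contra hodd
    rw [Nat.not_even_iff_odd] at hodd
    have h1 : x ^ (k * 2) = 1 := by
      rw [pow_mul, hk]
      ring
    have h2 := orderOf_dvd_of_pow_eq_one h1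
    have h3 : orderOf x ∣ k := (Nat.Coprime.dvd_mul_right (Odd.coprime_two_right hodd)).1 h2
    have h4 := orderOf_dvd_iff_pow_eq_one.1 h3
    rw [hk] at h4
    exact neg_one_ne hr2 h4
  · rintro ⟨c, hc⟩
    have hc' : orderOf x = 2 * c := by omega
    exact ⟨c, pow_half hr2 (by omega) hc'⟩

/-- The unitary condition. -/
theorem exists_sq_pow_eq_neg_iff (hr2 : r ≠ 2) {x : ZMod r} (hx : orderOf x ≠ 0) :
    (∃ k, (x ^ 2) ^ k = -x) ↔ orderOf x % 4 = 2 := by
  have hx0 : x ≠ 0 := by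
    rintro rfl
    rw [orderOf_zero] at hx
    exact hx rfl
  constructor
  · rintro ⟨k, hk⟩
    obtain ⟨i, hi⟩ : ∃ i, i = orderOf x := ⟨_, rfl⟩
    rw [← hi] at hx ⊢
    have hpi : x ^ i = 1 := by rw [hi]; exact pow_orderOf_eq_one x
    have h1 : x ^ (2 * (k + i) - 1) = -1 := by
      have h2 : x ^ (2 * (k + i)) = -x := by
        rw [mul_add, pow_add, pow_mul, hk, mul_comm 2 i, pow_mul, hpi, one_pow, mul_one]
      have h3 : 2 * (k + i) = (2 * (k + i) - 1) + 1 := by omega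
      rw [h3, pow_succ] at h2
      have h4 : (x ^ (2 * (k + i) - 1) + 1) * x = 0 := by
        rw [add_mul, h2]
        ring
      exact eq_neg_of_add_eq_zero_left ((mul_eq_zero.1 h4).resolve_right hx0)
    obtain ⟨e, he⟩ : ∃ e, e = 2 * (k + i) - 1 := ⟨_, rfl⟩
    rw [← he] at h1
    have heo : Odd e := ⟨k + i - 1, by omega⟩
    have h2 : x ^ (e * 2) = 1 := by
      rw [pow_mul, h1]
      ring
    have h3 : i ∣ e * 2 := hi ▸ orderOf_dvd_of_pow_eq_one h2
    have h4 : ¬ i ∣ e := by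
      intro h5
      have h6 : x ^ e = 1 := by
        rw [hi] at h5
        exact orderOf_dvd_iff_pow_eq_one.1 h5
      rw [h1] at h6
      exact neg_one_ne hr2 h6
    rcases Nat.even_or_odd i with hev | hod
    · obtain ⟨c, hc⟩ := hev
      have hi2 : i = c * 2 := by omega
      rw [hi2] at h3
      have hcd : c ∣ e := Nat.dvd_of_mul_dvd_mul_right (by norm_num) h3
      have hco : Odd c := Odd.of_dvd_nat heo hcd
      obtain ⟨d, hd⟩ := hco
      omega
    · exfalso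
      exact h4 ((Nat.Coprime.dvd_mul_right (Odd.coprime_two_right hod)).1 h3)
  · intro h
    obtain ⟨c, hc⟩ : ∃ c, orderOf x = 2 * c := ⟨orderOf x / 2, by omega⟩
    have hcpos : 0 < c := by omega
    have hcodd : c % 2 = 1 := by omega
    have h1 := pow_half hr2 hcpos hc
    refine ⟨(c + 1) / 2, ?_⟩
    rw [← pow_mul]
    have h2 : 2 * ((c + 1) / 2) = c + 1 := by omega
    rw [h2, pow_succ, h1]
    ring

end arith

section count

variable {ι : Type*} [Fintype ι]

theorem card_inv_id (b n : ℕ) (hb : 0 < b) :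
    Nat.card {a : ι → ℕ // a ≠ 0 ∧ b * ∑ j, a j ≤ n} =
      (n / b + Fintype.card ι).choose (Fintype.card ι) - 1 := by
  rw [← card_tuples_ne]
  refine Nat.card_congr (Equiv.subtypeEquivRight fun a => ?_)
  rw [Nat.le_div_iff_mul_le hb, mul_comm]

/-- The relation of lying in the same orbit of an involution. -/
def orbSetoid (δ : ι → ι) (hδ : ∀ i, δ (δ i) = i) : Setoid ι where
  r := fun i j => j = i ∨ j = δ i
  iseqv := by
    refine ⟨fun i => Or.inl rfl, ?_, ?_⟩
    · rintro i j (rfl | rfl)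
      · exact Or.inl rfl
      · exact Or.inr (hδ i).symm
    · rintro i j k (rfl | rfl) h
      · exact h
      · rcases h with rfl | rfl
        · exact Or.inr rfl
        · exact Or.inl (hδ i)

theorem sum_orb (δ : ι → ι) (hδ : ∀ i, δ (δ i) = i) (hfp : ∀ i, δ i ≠ i) [Fintype (Quotient (orbSetoid δ hδ))]
    (h : Quotient (orbSetoid δ hδ) → ℕ) :
    ∑ i, h (Quotient.mk _ i) = 2 * ∑ c, h c := by
  classical
  rw [← Finset.sum_fiberwise Finset.univ (fun i => Quotient.mk (orbSetoid δ hδ) i), Finset.mul_sum]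
  refine Finset.sum_congr rfl fun c _ => ?_
  induction c using Quotient.inductionOn with
  | h i₀ =>
    have h1 : (Finset.univ.filter fun i => Quotient.mk (orbSetoid δ hδ) i = Quotient.mk (orbSetoid δ hδ) i₀) = {i₀, δ i₀} := by
      ext i
      simp only [Finset.mem_filter, Finset.mem_univ, true_and, Finset.mem_insert, Finset.mem_singleton]
      rw [Quotient.eq]
      show (i₀ = i ∨ i₀ = δ i) ↔ _
      constructor
      · rintro (rfl | rfl)
        · exact Or.inl rfl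
        · exact Or.inr (hδ i).symm
      · rintro (rfl | rfl)
        · exact Or.inl rfl
        · exact Or.inr (hδ i₀).symm
    have h2 : Quotient.mk (orbSetoid δ hδ) (δ i₀) = Quotient.mk (orbSetoid δ hδ) i₀ := by
      rw [Quotient.eq]
      show i₀ = δ i₀ ∨ i₀ = δ (δ i₀)
      exact Or.inr (hδ i₀).symm
    rw [Finset.sum_congr h1 (fun _ _ => rfl), Finset.sum_pair (hfp i₀).symm, h2, two_mul]

theorem card_orb (δ : ι → ι) (hδ : ∀ i, δ (δ i) = i) (hfp : ∀ i, δ i ≠ i) [Fintype (Quotient (orbSetoid δ hδ))] :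
    Fintype.card ι = 2 * Fintype.card (Quotient (orbSetoid δ hδ)) := by
  have := sum_orb δ hδ hfp (fun _ => 1)
  simpa using this

theorem card_inv_fpf (δ : ι → ι) (hδ : ∀ i, δ (δ i) = i) (hfp : ∀ i, δ i ≠ i) (b n : ℕ) (hb : 0 < b) :
    Nat.card {a : ι → ℕ // a ≠ 0 ∧ a ∘ δ = a ∧ b * ∑ j, a j ≤ n} =
      (n / (2 * b) + Fintype.card ι / 2).choose (Fintype.card ι / 2) - 1 := by
  classical
  haveI : Fintype (Quotient (orbSetoid δ hδ)) := Fintype.ofFinite _
  have hc := card_orb δ hδ hfp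
  have hc2 : Fintype.card ι / 2 = Fintype.card (Quotient (orbSetoid δ hδ)) := by omega
  rw [hc2, ← card_tuples_ne]
  have hπδ : ∀ i, Quotient.mk (orbSetoid δ hδ) (δ i) = Quotient.mk (orbSetoid δ hδ) i := by
    intro i
    rw [Quotient.eq]
    show i = δ i ∨ i = δ (δ i)
    exact Or.inr (hδ i).symm
  have hle : ∀ a' : Quotient (orbSetoid δ hδ) → ℕ,
      b * ∑ i, a' (Quotient.mk _ i) ≤ n ↔ ∑ c, a' c ≤ n / (2 * b) := by
    intro a'
    rw [sum_orb δ hδ hfp a', Nat.le_div_iff_mul_le (by omega)]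
    constructor <;> intro h <;> nlinarith
  refine (Nat.card_eq_of_bijective (fun x : {a' : Quotient (orbSetoid δ hδ) → ℕ // a' ≠ 0 ∧ ∑ c, a' c ≤ n / (2 * b)} =>
    (⟨fun i => x.1 (Quotient.mk _ i), ?_, ?_, ?_⟩ : {a : ι → ℕ // a ≠ 0 ∧ a ∘ δ = a ∧ b * ∑ j, a j ≤ n})) ⟨?_, ?_⟩).symm
  · intro h
    apply x.2.1
    funext c
    induction c using Quotient.inductionOn with
    | h i => exact congrFun h i
  · funext i
    show x.1 (Quotient.mk _ (δ i)) = x.1 (Quotient.mk _ i)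
    rw [hπδ]
  · exact (hle x.1).2 x.2.2
  · intro x y hxy
    apply Subtype.ext
    funext c
    induction c using Quotient.inductionOn with
    | h i => exact congrFun (congrArg Subtype.val hxy) i
  · rintro ⟨a, ha0, hainv, hale⟩
    have hlift : ∀ i j, (orbSetoid δ hδ) i j → a i = a j := by
      rintro i j (rfl | rfl)
      · rfl
      · exact (congrFun hainv i).symm
    obtain ⟨a', ha'⟩ : ∃ a' : Quotient (orbSetoid δ hδ) → ℕ, ∀ i, a' (Quotient.mk _ i) = a i :=
      ⟨Quotient.lift a hlift, fun i => rfl⟩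
    have hfa : (fun i => a' (Quotient.mk _ i)) = a := funext ha'
    refine ⟨⟨a', ?_, ?_⟩, Subtype.ext hfa⟩
    · rintro rfl
      apply ha0
      rw [← hfa]
      rfl
    · rw [← hle a', hfa]
      exact hale

end count

end Cfsg.Agent.Lib.DualFactors
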