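import Cfsg.Agent.Lib.RepE6FAll
import Cfsg.Agent.Lib.E6Poly

/-! Data for the cubic form of type `E₆` in the coordinates of the table `RepE6F.T`. -/

set_option autoImplicit false

namespace Cfsg.Agent.Lib.E6Data

open Cfsg.Agent.Lib.E6Poly Cfsg.Agent.Lib.Chev

/-- The 45 monomials of the cubic form: coordinate `0`, then `16` coordinates, then `10` coordinates. -/
def triL : CL := [(1,0,17,22),(1,0,18,23),(1,0,19,24),(1,0,20,25),(1,0,21,26),(1,1,8,22),(1,1,12,23),(1,1,14,24),(1,1,15,25),(-1,1,16,21),(1,2,7,22),(1,2,11,23),(1,2,13,24),(-1,2,15,26),(-1,2,16,20),(1,3,6,22),(1,3,10,23),(-1,3,13,25),(-1,3,14,26),(-1,3,16,19),(1,4,5,22),(-1,4,10,24),(-1,4,11,25),(-1,4,12,26),(-1,4,16,18),(1,5,9,23),(-1,5,13,21),(1,5,14,20),(-1,5,15,19),(1,6,9,24),(1,6,11,21),(-1,6,12,20),(1,6,15,18),(1,7,9,25),(-1,7,10,21),(1,7,12,19),(-1,7,14,18),(1,8,9,26),(1,8,10,20),(-1,8,11,19),(1,8,13,18),(1,9,16,17),(-1,10,15,17),(1,11,14,17),(-1,12,13,17)]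

/-- The column extras with the `c`-th row selected. -/
noncomputable def rowN (r d : ℕ) : ℕ → List (ℤ × ℕ)
  | 0 => []
  | N + 1 => (((RepE6F.T.exOf r N).filter fun e => Nat.beq e.1 d).map fun e => (e.2.1, N)) ++ rowN r d N

/-- The rows of the root elements. -/
noncomputable def rowL (r d : ℕ) : List (ℤ × ℕ) := if d < 27 then rowN r d 27 else []

/-- For the coordinate `w + 1`: root element moving `e₀` to `e_w`. -/
def umL : List (ℕ × ℤ) := [(36,-1),(38,-1),(41,-1),(45,-1),(49,-1),(52,-1),(54,-1),(55,-1),(60,-1),(63,-1),(65,-1),(66,-1),(68,-1),(69,-1),(70,-1),(71,-1)]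
/-- For the coordinate `w + 1`: root element moving `e_w` to `e₀`. -/
def upL : List (ℕ × ℤ) := [(35,-1),(33,-1),(30,-1),(26,-1),(22,-1),(19,-1),(17,-1),(16,-1),(11,-1),(8,-1),(6,-1),(5,-1),(3,-1),(2,-1),(1,-1),(0,-1)]
/-- For the coordinate `c + 17`: a root element moving `e_c` to some `e_w`. -/
def zbL : List (ℕ × ℕ × ℤ) := [(16,1,1),(5,1,1),(2,1,1),(1,1,1),(1,2,-1),(0,9,1),(0,4,-1),(0,3,-1),(0,2,-1),(0,1,-1)]
/-- The `D₅` roots, with the data `(r, p, q, σ)` of the Siegel maps. -/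
def d5L : List (ℕ × ℕ × ℕ × ℤ) := [(4,0,1,1),(7,0,2,-1),(9,0,3,1),(10,0,4,-1),(12,0,9,1),(13,0,8,1),(14,0,7,1),(15,0,6,1),(18,1,2,1),(20,1,3,-1),(21,1,4,1),(23,2,3,1),(24,2,4,-1),(25,3,4,1),(27,1,9,-1),(28,1,8,-1),(29,1,7,-1),(31,2,9,-1),(32,2,8,-1),(34,3,9,-1),(37,4,8,-1),(39,3,7,-1),(40,4,7,-1),(42,2,6,-1),(43,3,6,-1),(44,4,6,-1),(46,8,9,-1),(47,7,9,1),(48,7,8,-1),(50,6,9,-1),(51,6,8,1),(53,6,7,-1),(56,1,5,1),(57,2,5,1),(58,3,5,1),(59,4,5,1),(61,5,9,1),(62,5,8,-1),(64,5,7,1),(67,5,6,-1)]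

/-- The root moving `e₀` to `e_w`. -/
def umR (w : ℕ) : ℕ := (umL.getD (w - 1) (0, 0)).1
/-- The sign. -/
def umA (w : ℕ) : ℤ := (umL.getD (w - 1) (0, 0)).2
/-- The root moving `e_w` to `e₀`. -/
def upR (w : ℕ) : ℕ := (upL.getD (w - 1) (0, 0)).1
/-- The sign. -/
def upA (w : ℕ) : ℤ := (upL.getD (w - 1) (0, 0)).2
/-- The root moving `e_c` to some `e_w`. -/
def zbR (c : ℕ) : ℕ := (zbL.getD (c - 17) (0, 0, 0)).1
/-- The `w`. -/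
def zbW (c : ℕ) : ℕ := (zbL.getD (c - 17) (0, 0, 0)).2.1
/-- The sign. -/
def zbA (c : ℕ) : ℤ := (zbL.getD (c - 17) (0, 0, 0)).2.2

/-- The pairing of the `10` coordinates. -/
def bar10 (c : ℕ) : ℕ := if c < 5 then c + 5 else if c < 10 then c - 5 else c


/-- Witnesses for the off-diagonal vanishing. -/
def offWL : List (List (ℕ × ℕ)) := [[(0,0),(3,16),(2,16),(1,16),(2,15),(1,15),(1,14),(1,13),(0,16),(0,15),(0,14),(0,13),(0,12),(0,11),(0,10),(0,9)],[(8,15),(0,0),(2,16),(1,16),(2,15),(1,15),(1,14),(1,13),(0,16),(0,15),(0,14),(0,13),(0,12),(0,11),(0,10),(0,9)],[(7,14),(7,13),(0,0),(1,16),(3,14),(1,15),(1,14),(1,13),(0,16),(0,15),(0,14),(0,13),(0,12),(0,11),(0,10),(0,9)],[(6,12),(6,11),(6,10),(0,0),(6,9),(3,12),(2,12),(2,11),(0,16),(0,15),(0,14),(0,13),(0,12),(0,11),(0,10),(0,9)],[(7,14),(7,13),(8,13),(1,16),(0,0),(1,15),(1,14),(1,13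),(0,16),(0,15),(0,14),(0,13),(0,12),(0,11),(0,10),(0,9)],[(6,12),(6,11),(6,10),(8,11),(6,9),(0,0),(2,12),(2,11),(0,16),(0,15),(0,14),(0,13),(0,12),(0,11),(0,10),(0,9)],[(6,12),(6,11),(6,10),(7,10),(6,9),(7,9),(0,0),(3,10),(0,16),(0,15),(0,14),(0,13),(0,12),(0,11),(0,10),(0,9)],[(6,12),(6,11),(6,10),(7,10),(6,9),(7,9),(8,9),(0,0),(0,16),(0,15),(0,14),(0,13),(0,12),(0,11),(0,10),(0,9)],[(5,8),(5,7),(5,6),(5,5),(5,4),(5,3),(5,2),(5,1),(0,0),(3,8),(2,8),(2,7),(1,8),(1,7),(1,6),(1,4)],[(5,8),(5,7),(5,6),(5,5),(5,4),(5,3),(5,2),(5,1),(8,7),(0,0),(2,8),(2,7),(1,8),(1,7),(1,6),(1,4)],[(5,8),(5,7),(5,6),(5,5),(5,4),(5,3),(5,2),(5,1),(7,6),(7,4),(0,0),(3,6),(1,8),(1,7),(1,6),(1,4)],[(5,8),(5,7),(5,6),(5,5),(5,4),(5,3),(5,2),(5,1),(7,6),(7,4),(8,4),(0,0),(1,8),(1,7),(1,6),(1,4)],[(5,8),(5,7),(5,6),(5,5),(5,4),(5,3),(5,2),(5,1),(6,5),(6,3),(6,2),(6,1),(0,0),(3,5),(2,5),(2,3)],[(5,8),(5,7),(5,6),(5,5),(5,4),(5,3),(5,2),(5,1),(6,5),(6,3),(6,2),(6,1),(8,3),(0,0),(2,5),(2,3)],[(5,8),(5,7),(5,6),(5,5),(5,4),(5,3),(5,2),(5,1),(6,5),(6,3),(6,2),(6,1),(7,2),(7,1),(0,0),(3,2)],[(5,8),(5,7),(5,6),(5,5),(5,4),(5,3),(5,2),(5,1),(6,5),(6,3),(6,2),(6,1),(7,2),(7,1),(8,1),(0,0)]]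
/-- The witness at `(w, w')`. -/
def offW (w w' : ℕ) : ℕ × ℕ := ((offWL.getD (w - 1) []).getD (w' - 1) (0, 0))
/-- Witnesses for the last step. -/
def uniWL : List (List (ℕ × ℕ)) := [[(1,8),(1,7),(1,6),(1,5),(1,4),(1,3),(1,2),(1,1),(0,16),(0,15),(0,14),(0,13),(0,12),(0,11),(0,10),(0,9)],[(1,12),(1,11),(1,10),(0,16),(1,9),(0,15),(0,14),(0,13),(1,5),(1,3),(1,2),(1,1),(0,8),(0,7),(0,6),(0,4)],[(1,14),(1,13),(0,16),(1,10),(0,15),(1,9),(0,12),(0,11),(1,6),(1,4),(0,8),(0,7),(1,2),(1,1),(0,5),(0,3)],[(1,15),(0,16),(1,13),(1,11),(0,14),(0,12),(1,9),(0,10),(1,7),(0,8),(1,4),(0,6),(1,3),(0,5),(1,1),(0,2)],[(0,16),(1,15),(1,14),(1,12),(0,13),(0,11),(0,10),(1,9),(1,8),(0,7),(0,6),(1,4),(0,5),(1,3),(1,2),(0,1)],[(0,8),(0,7),(0,6),(0,5),(0,4),(0,3),(0,2),(0,1),(1,16),(1,15),(1,14),(1,13),(1,12),(1,11),(1,10),(1,9)],[(0,12),(0,11),(0,10),(1,16),(0,9),(1,15),(1,14),(1,13),(0,5),(0,3),(0,2),(0,1),(1,8),(1,7),(1,6),(1,4)],[(0,14),(0,13),(1,16),(0,10),(1,15),(0,9),(1,12),(1,11),(0,6),(0,4),(1,8),(1,7),(0,2),(0,1),(1,5),(1,3)],[(0,15),(1,16),(0,13),(0,11),(1,14),(1,12),(0,9),(1,10),(0,7),(1,8),(0,4),(1,6),(0,3),(1,5),(0,1),(1,2)],[(1,16),(0,15),(0,14),(0,12),(1,13),(1,11),(1,10),(0,9),(0,8),(1,7),(1,6),(0,4),(1,5),(0,3),(0,2),(1,1)]]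
/-- The witness at `(c, w)`. -/
def uniW (c w : ℕ) : ℕ × ℕ := ((uniWL.getD (c - 17) []).getD (w - 1) (0, 0))
/-- The exponents of the final torus element. -/
def EeL : List ℤ := [0,-1,1,1,1,-1,-1,-1,1,1,-1,-1,1,-1,1,1,-1,0,0,0,0,2,0,0,0,0,-2]

/-- The coefficient of a linear form with one term. -/
def coefL (L : List (ℤ × ℕ)) : ℤ := (L.headD (0, 0)).1

/-- Membership in the eight coordinates of the first four planes. -/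
def s8b (n : ℕ) : Bool :=
  Nat.beq n 0 || Nat.beq n 5 || Nat.beq n 1 || Nat.beq n 6 || Nat.beq n 2 || Nat.beq n 7 || Nat.beq n 3 || Nat.beq n 8

/-- The part of a list of quadratic monomials with second variable `c`. -/
def quadRow (L : List (ℤ × ℕ × ℕ)) (c : ℕ) : List (ℤ × ℕ) :=
  L.filterMap fun p => if p.2.2 = c then some (p.1, p.2.1) else none

end Cfsg.Agent.Lib.E6Data
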