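import Cfsg.Agent.Lib.Chev.TwE6P

/-!
# The unipotent group of `E₆` in characteristic two: collection
-/

set_option autoImplicit false
set_option linter.unusedSectionVars false
set_option linter.unusedVariables false
set_option linter.unusedSimpArgs false

namespace Cfsg.Agent.Lib.E6Inv50

open Cfsg Cfsg.Lie Cfsg.Agent.Lib.Chev Cfsg.Agent.Lib.Chev.TwE6

section Swap

variable {K : Type*} [Field K]

/-- Root elements. -/
noncomputable abbrev x (r : ℕ) (t : K) : GL chevE6.Idx K := hF.c.xG r t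

theorem sw_nil {r s : ℕ} (h : r < chevE6.nroots ∧ s < chevE6.nroots ∧ s ≠ r ∧ s ≠ chevE6.neg r ∧ chevE6.commTerms r s = [])
    (t u : K) (w : GL chevE6.Idx K) : x s u * (x r t * w) = x r t * (x s u * w) := by
  obtain ⟨h1, h2, h3, h4, h5⟩ := h
  have h6 := hF.xG_comm h1 h2 h3 h4 t u
  rw [← mul_assoc, h6]
  simp [ChevalleyDatum.commWord, h5, Checks.wordG_nil, mul_assoc]

theorem sw_one [CharP K 2] {r s m : ℕ} {ε : ℤ}
    (h : r < chevE6.nroots ∧ s < chevE6.nroots ∧ s ≠ r ∧ s ≠ chevE6.neg r ∧ chevE6.commTerms r s = [(m, ε, 1, 1)] ∧ (ε = 1 ∨ ε = -1))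
    (t u : K) (w : GL chevE6.Idx K) : x s u * (x r t * w) = x r t * (x s u * (x m (t * u) * w)) := by
  obtain ⟨h1, h2, h3, h4, h5, h7⟩ := h
  have h6 := hF.xG_comm h1 h2 h3 h4 t u
  rw [← mul_assoc, h6]
  have e : ((ε : ℤ) : K) * (-t) ^ 1 * u ^ 1 = t * u := by
    rcases h7 with rfl | rfl
    · simp [CharTwo.neg_eq]
    · simp [CharTwo.neg_eq]
  have e2 : chevE6.commWord K r s t u = [(m, t * u)] := by
    simp only [ChevalleyDatum.commWord, h5, List.map_cons, List.map_nil]
    rw [e]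
  rw [e2, Checks.wordG_cons, Checks.wordG_nil, mul_one]
  simp only [mul_assoc]

theorem mg (r : ℕ) (a b : K) (w : GL chevE6.Idx K) : x r a * (x r b * w) = x r (a + b) * w := by
  rw [← mul_assoc, hF.c.xG_add]

theorem s_37_36 [CharP K 2] (t u : K) (w : GL chevE6.Idx K) : x 37 u * (x 36 t * w) = x 36 t * (x 37 u * (x 38 (t * u) * w)) :=
  sw_one (ε := 1) (by decide +kernel) t u w

theorem s_38_36 (t u : K) (w : GL chevE6.Idx K) : x 38 u * (x 36 t * w) = x 36 t * (x 38 u * w) :=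
  sw_nil (by decide +kernel) t u w

theorem s_39_36 (t u : K) (w : GL chevE6.Idx K) : x 39 u * (x 36 t * w) = x 36 t * (x 39 u * w) :=
  sw_nil (by decide +kernel) t u w

theorem s_40_36 [CharP K 2] (t u : K) (w : GL chevE6.Idx K) : x 40 u * (x 36 t * w) = x 36 t * (x 40 u * (x 41 (t * u) * w)) :=
  sw_one (ε := 1) (by decide +kernel) t u w

theorem s_41_36 (t u : K) (w : GL chevE6.Idx K) : x 41 u * (x 36 t * w) = x 36 t * (x 41 u * w) :=
  sw_nil (by decide +kernel) t u w

theorem s_42_36 (t u : K) (w : GL chevE6.Idx K) : x 42 u * (x 36 t * w) = x 36 t * (x 42 u * w) :=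
  sw_nil (by decide +kernel) t u w

theorem s_43_36 (t u : K) (w : GL chevE6.Idx K) : x 43 u * (x 36 t * w) = x 36 t * (x 43 u * w) :=
  sw_nil (by decide +kernel) t u w

theorem s_44_36 [CharP K 2] (t u : K) (w : GL chevE6.Idx K) : x 44 u * (x 36 t * w) = x 36 t * (x 44 u * (x 45 (t * u) * w)) :=
  sw_one (ε := 1) (by decide +kernel) t u w

theorem s_45_36 (t u : K) (w : GL chevE6.Idx K) : x 45 u * (x 36 t * w) = x 36 t * (x 45 u * w) :=
  sw_nil (by decide +kernel) t u w

theorem s_46_36 (t u : K) (w : GL chevE6.Idx K) : x 46 u * (x 36 t * w) = x 36 t * (x 46 u * w) :=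
  sw_nil (by decide +kernel) t u w

theorem s_47_36 (t u : K) (w : GL chevE6.Idx K) : x 47 u * (x 36 t * w) = x 36 t * (x 47 u * w) :=
  sw_nil (by decide +kernel) t u w

theorem s_48_36 [CharP K 2] (t u : K) (w : GL chevE6.Idx K) : x 48 u * (x 36 t * w) = x 36 t * (x 48 u * (x 49 (t * u) * w)) :=
  sw_one (ε := 1) (by decide +kernel) t u w

theorem s_49_36 (t u : K) (w : GL chevE6.Idx K) : x 49 u * (x 36 t * w) = x 36 t * (x 49 u * w) :=
  sw_nil (by decide +kernel) t u w

theorem s_50_36 (t u : K) (w : GL chevE6.Idx K) : x 50 u * (x 36 t * w) = x 36 t * (x 50 u * w) :=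
  sw_nil (by decide +kernel) t u w

theorem s_51_36 [CharP K 2] (t u : K) (w : GL chevE6.Idx K) : x 51 u * (x 36 t * w) = x 36 t * (x 51 u * (x 52 (t * u) * w)) :=
  sw_one (ε := 1) (by decide +kernel) t u w

theorem s_52_36 (t u : K) (w : GL chevE6.Idx K) : x 52 u * (x 36 t * w) = x 36 t * (x 52 u * w) :=
  sw_nil (by decide +kernel) t u w

theorem s_53_36 [CharP K 2] (t u : K) (w : GL chevE6.Idx K) : x 53 u * (x 36 t * w) = x 36 t * (x 53 u * (x 54 (t * u) * w)) :=
  sw_one (ε := 1) (by decide +kernel) t u w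

theorem s_54_36 (t u : K) (w : GL chevE6.Idx K) : x 54 u * (x 36 t * w) = x 36 t * (x 54 u * w) :=
  sw_nil (by decide +kernel) t u w

theorem s_55_36 (t u : K) (w : GL chevE6.Idx K) : x 55 u * (x 36 t * w) = x 36 t * (x 55 u * w) :=
  sw_nil (by decide +kernel) t u w

theorem s_56_36 (t u : K) (w : GL chevE6.Idx K) : x 56 u * (x 36 t * w) = x 36 t * (x 56 u * w) :=
  sw_nil (by decide +kernel) t u w

theorem s_57_36 (t u : K) (w : GL chevE6.Idx K) : x 57 u * (x 36 t * w) = x 36 t * (x 57 u * w) :=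
  sw_nil (by decide +kernel) t u w

theorem s_58_36 (t u : K) (w : GL chevE6.Idx K) : x 58 u * (x 36 t * w) = x 36 t * (x 58 u * w) :=
  sw_nil (by decide +kernel) t u w

theorem s_59_36 [CharP K 2] (t u : K) (w : GL chevE6.Idx K) : x 59 u * (x 36 t * w) = x 36 t * (x 59 u * (x 60 (t * u) * w)) :=
  sw_one (ε := 1) (by decide +kernel) t u w

theorem s_60_36 (t u : K) (w : GL chevE6.Idx K) : x 60 u * (x 36 t * w) = x 36 t * (x 60 u * w) :=
  sw_nil (by decide +kernel) t u w

theorem s_61_36 (t u : K) (w : GL chevE6.Idx K) : x 61 u * (x 36 t * w) = x 36 t * (x 61 u * w) :=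
  sw_nil (by decide +kernel) t u w

theorem s_62_36 [CharP K 2] (t u : K) (w : GL chevE6.Idx K) : x 62 u * (x 36 t * w) = x 36 t * (x 62 u * (x 63 (t * u) * w)) :=
  sw_one (ε := 1) (by decide +kernel) t u w

theorem s_63_36 (t u : K) (w : GL chevE6.Idx K) : x 63 u * (x 36 t * w) = x 36 t * (x 63 u * w) :=
  sw_nil (by decide +kernel) t u w

theorem s_64_36 [CharP K 2] (t u : K) (w : GL chevE6.Idx K) : x 64 u * (x 36 t * w) = x 36 t * (x 64 u * (x 65 (t * u) * w)) :=
  sw_one (ε := 1) (by decide +kernel) t u w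

theorem s_65_36 (t u : K) (w : GL chevE6.Idx K) : x 65 u * (x 36 t * w) = x 36 t * (x 65 u * w) :=
  sw_nil (by decide +kernel) t u w

theorem s_66_36 (t u : K) (w : GL chevE6.Idx K) : x 66 u * (x 36 t * w) = x 36 t * (x 66 u * w) :=
  sw_nil (by decide +kernel) t u w

theorem s_67_36 [CharP K 2] (t u : K) (w : GL chevE6.Idx K) : x 67 u * (x 36 t * w) = x 36 t * (x 67 u * (x 68 (t * u) * w)) :=
  sw_one (ε := 1) (by decide +kernel) t u w

theorem s_68_36 (t u : K) (w : GL chevE6.Idx K) : x 68 u * (x 36 t * w) = x 36 t * (x 68 u * w) :=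
  sw_nil (by decide +kernel) t u w

theorem s_69_36 (t u : K) (w : GL chevE6.Idx K) : x 69 u * (x 36 t * w) = x 36 t * (x 69 u * w) :=
  sw_nil (by decide +kernel) t u w

theorem s_70_36 (t u : K) (w : GL chevE6.Idx K) : x 70 u * (x 36 t * w) = x 36 t * (x 70 u * w) :=
  sw_nil (by decide +kernel) t u w

theorem s_71_36 (t u : K) (w : GL chevE6.Idx K) : x 71 u * (x 36 t * w) = x 36 t * (x 71 u * w) :=
  sw_nil (by decide +kernel) t u w

theorem s_38_37 (t u : K) (w : GL chevE6.Idx K) : x 38 u * (x 37 t * w) = x 37 t * (x 38 u * w) :=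
  sw_nil (by decide +kernel) t u w

theorem s_39_37 [CharP K 2] (t u : K) (w : GL chevE6.Idx K) : x 39 u * (x 37 t * w) = x 37 t * (x 39 u * (x 40 (t * u) * w)) :=
  sw_one (ε := 1) (by decide +kernel) t u w

theorem s_40_37 (t u : K) (w : GL chevE6.Idx K) : x 40 u * (x 37 t * w) = x 37 t * (x 40 u * w) :=
  sw_nil (by decide +kernel) t u w

theorem s_41_37 (t u : K) (w : GL chevE6.Idx K) : x 41 u * (x 37 t * w) = x 37 t * (x 41 u * w) :=
  sw_nil (by decide +kernel) t u w

theorem s_42_37 (t u : K) (w : GL chevE6.Idx K) : x 42 u * (x 37 t * w) = x 37 t * (x 42 u * w) :=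
  sw_nil (by decide +kernel) t u w

theorem s_43_37 [CharP K 2] (t u : K) (w : GL chevE6.Idx K) : x 43 u * (x 37 t * w) = x 37 t * (x 43 u * (x 44 (t * u) * w)) :=
  sw_one (ε := 1) (by decide +kernel) t u w

theorem s_44_37 (t u : K) (w : GL chevE6.Idx K) : x 44 u * (x 37 t * w) = x 37 t * (x 44 u * w) :=
  sw_nil (by decide +kernel) t u w

theorem s_45_37 (t u : K) (w : GL chevE6.Idx K) : x 45 u * (x 37 t * w) = x 37 t * (x 45 u * w) :=
  sw_nil (by decide +kernel) t u w

theorem s_46_37 (t u : K) (w : GL chevE6.Idx K) : x 46 u * (x 37 t * w) = x 37 t * (x 46 u * w) :=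
  sw_nil (by decide +kernel) t u w

theorem s_47_37 [CharP K 2] (t u : K) (w : GL chevE6.Idx K) : x 47 u * (x 37 t * w) = x 37 t * (x 47 u * (x 48 (t * u) * w)) :=
  sw_one (ε := 1) (by decide +kernel) t u w

theorem s_48_37 (t u : K) (w : GL chevE6.Idx K) : x 48 u * (x 37 t * w) = x 37 t * (x 48 u * w) :=
  sw_nil (by decide +kernel) t u w

theorem s_49_37 (t u : K) (w : GL chevE6.Idx K) : x 49 u * (x 37 t * w) = x 37 t * (x 49 u * w) :=
  sw_nil (by decide +kernel) t u w

theorem s_50_37 [CharP K 2] (t u : K) (w : GL chevE6.Idx K) : x 50 u * (x 37 t * w) = x 37 t * (x 50 u * (x 51 (t * u) * w)) :=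
  sw_one (ε := 1) (by decide +kernel) t u w

theorem s_51_37 (t u : K) (w : GL chevE6.Idx K) : x 51 u * (x 37 t * w) = x 37 t * (x 51 u * w) :=
  sw_nil (by decide +kernel) t u w

theorem s_52_37 (t u : K) (w : GL chevE6.Idx K) : x 52 u * (x 37 t * w) = x 37 t * (x 52 u * w) :=
  sw_nil (by decide +kernel) t u w

theorem s_53_37 (t u : K) (w : GL chevE6.Idx K) : x 53 u * (x 37 t * w) = x 37 t * (x 53 u * w) :=
  sw_nil (by decide +kernel) t u w

theorem s_54_37 [CharP K 2] (t u : K) (w : GL chevE6.Idx K) : x 54 u * (x 37 t * w) = x 37 t * (x 54 u * (x 55 (t * u) * w)) :=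
  sw_one (ε := 1) (by decide +kernel) t u w

theorem s_55_37 (t u : K) (w : GL chevE6.Idx K) : x 55 u * (x 37 t * w) = x 37 t * (x 55 u * w) :=
  sw_nil (by decide +kernel) t u w

theorem s_56_37 (t u : K) (w : GL chevE6.Idx K) : x 56 u * (x 37 t * w) = x 37 t * (x 56 u * w) :=
  sw_nil (by decide +kernel) t u w

theorem s_57_37 (t u : K) (w : GL chevE6.Idx K) : x 57 u * (x 37 t * w) = x 37 t * (x 57 u * w) :=
  sw_nil (by decide +kernel) t u w

theorem s_58_37 [CharP K 2] (t u : K) (w : GL chevE6.Idx K) : x 58 u * (x 37 t * w) = x 37 t * (x 58 u * (x 59 (t * u) * w)) :=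
  sw_one (ε := 1) (by decide +kernel) t u w

theorem s_59_37 (t u : K) (w : GL chevE6.Idx K) : x 59 u * (x 37 t * w) = x 37 t * (x 59 u * w) :=
  sw_nil (by decide +kernel) t u w

theorem s_60_37 (t u : K) (w : GL chevE6.Idx K) : x 60 u * (x 37 t * w) = x 37 t * (x 60 u * w) :=
  sw_nil (by decide +kernel) t u w

theorem s_61_37 [CharP K 2] (t u : K) (w : GL chevE6.Idx K) : x 61 u * (x 37 t * w) = x 37 t * (x 61 u * (x 62 (t * u) * w)) :=
  sw_one (ε := 1) (by decide +kernel) t u w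

theorem s_62_37 (t u : K) (w : GL chevE6.Idx K) : x 62 u * (x 37 t * w) = x 37 t * (x 62 u * w) :=
  sw_nil (by decide +kernel) t u w

theorem s_63_37 (t u : K) (w : GL chevE6.Idx K) : x 63 u * (x 37 t * w) = x 37 t * (x 63 u * w) :=
  sw_nil (by decide +kernel) t u w

theorem s_64_37 (t u : K) (w : GL chevE6.Idx K) : x 64 u * (x 37 t * w) = x 37 t * (x 64 u * w) :=
  sw_nil (by decide +kernel) t u w

theorem s_65_37 [CharP K 2] (t u : K) (w : GL chevE6.Idx K) : x 65 u * (x 37 t * w) = x 37 t * (x 65 u * (x 66 (t * u) * w)) :=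
  sw_one (ε := 1) (by decide +kernel) t u w

theorem s_66_37 (t u : K) (w : GL chevE6.Idx K) : x 66 u * (x 37 t * w) = x 37 t * (x 66 u * w) :=
  sw_nil (by decide +kernel) t u w

theorem s_67_37 (t u : K) (w : GL chevE6.Idx K) : x 67 u * (x 37 t * w) = x 37 t * (x 67 u * w) :=
  sw_nil (by decide +kernel) t u w

theorem s_68_37 [CharP K 2] (t u : K) (w : GL chevE6.Idx K) : x 68 u * (x 37 t * w) = x 37 t * (x 68 u * (x 69 (t * u) * w)) :=
  sw_one (ε := 1) (by decide +kernel) t u w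

theorem s_69_37 (t u : K) (w : GL chevE6.Idx K) : x 69 u * (x 37 t * w) = x 37 t * (x 69 u * w) :=
  sw_nil (by decide +kernel) t u w

theorem s_70_37 (t u : K) (w : GL chevE6.Idx K) : x 70 u * (x 37 t * w) = x 37 t * (x 70 u * w) :=
  sw_nil (by decide +kernel) t u w

theorem s_71_37 (t u : K) (w : GL chevE6.Idx K) : x 71 u * (x 37 t * w) = x 37 t * (x 71 u * w) :=
  sw_nil (by decide +kernel) t u w

theorem s_39_38 [CharP K 2] (t u : K) (w : GL chevE6.Idx K) : x 39 u * (x 38 t * w) = x 38 t * (x 39 u * (x 41 (t * u) * w)) :=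
  sw_one (ε := 1) (by decide +kernel) t u w

theorem s_40_38 (t u : K) (w : GL chevE6.Idx K) : x 40 u * (x 38 t * w) = x 38 t * (x 40 u * w) :=
  sw_nil (by decide +kernel) t u w

theorem s_41_38 (t u : K) (w : GL chevE6.Idx K) : x 41 u * (x 38 t * w) = x 38 t * (x 41 u * w) :=
  sw_nil (by decide +kernel) t u w

theorem s_42_38 (t u : K) (w : GL chevE6.Idx K) : x 42 u * (x 38 t * w) = x 38 t * (x 42 u * w) :=
  sw_nil (by decide +kernel) t u w

theorem s_43_38 [CharP K 2] (t u : K) (w : GL chevE6.Idx K) : x 43 u * (x 38 t * w) = x 38 t * (x 43 u * (x 45 (t * u) * w)) :=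
  sw_one (ε := 1) (by decide +kernel) t u w

theorem s_44_38 (t u : K) (w : GL chevE6.Idx K) : x 44 u * (x 38 t * w) = x 38 t * (x 44 u * w) :=
  sw_nil (by decide +kernel) t u w

theorem s_45_38 (t u : K) (w : GL chevE6.Idx K) : x 45 u * (x 38 t * w) = x 38 t * (x 45 u * w) :=
  sw_nil (by decide +kernel) t u w

theorem s_46_38 (t u : K) (w : GL chevE6.Idx K) : x 46 u * (x 38 t * w) = x 38 t * (x 46 u * w) :=
  sw_nil (by decide +kernel) t u w

theorem s_47_38 [CharP K 2] (t u : K) (w : GL chevE6.Idx K) : x 47 u * (x 38 t * w) = x 38 t * (x 47 u * (x 49 (t * u) * w)) :=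
  sw_one (ε := 1) (by decide +kernel) t u w

theorem s_48_38 (t u : K) (w : GL chevE6.Idx K) : x 48 u * (x 38 t * w) = x 38 t * (x 48 u * w) :=
  sw_nil (by decide +kernel) t u w

theorem s_49_38 (t u : K) (w : GL chevE6.Idx K) : x 49 u * (x 38 t * w) = x 38 t * (x 49 u * w) :=
  sw_nil (by decide +kernel) t u w

theorem s_50_38 [CharP K 2] (t u : K) (w : GL chevE6.Idx K) : x 50 u * (x 38 t * w) = x 38 t * (x 50 u * (x 52 (t * u) * w)) :=
  sw_one (ε := 1) (by decide +kernel) t u w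

theorem s_51_38 (t u : K) (w : GL chevE6.Idx K) : x 51 u * (x 38 t * w) = x 38 t * (x 51 u * w) :=
  sw_nil (by decide +kernel) t u w

theorem s_52_38 (t u : K) (w : GL chevE6.Idx K) : x 52 u * (x 38 t * w) = x 38 t * (x 52 u * w) :=
  sw_nil (by decide +kernel) t u w

theorem s_53_38 [CharP K 2] (t u : K) (w : GL chevE6.Idx K) : x 53 u * (x 38 t * w) = x 38 t * (x 53 u * (x 55 (t * u) * w)) :=
  sw_one (ε := -1) (by decide +kernel) t u w

theorem s_54_38 (t u : K) (w : GL chevE6.Idx K) : x 54 u * (x 38 t * w) = x 38 t * (x 54 u * w) :=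
  sw_nil (by decide +kernel) t u w

theorem s_55_38 (t u : K) (w : GL chevE6.Idx K) : x 55 u * (x 38 t * w) = x 38 t * (x 55 u * w) :=
  sw_nil (by decide +kernel) t u w

theorem s_56_38 (t u : K) (w : GL chevE6.Idx K) : x 56 u * (x 38 t * w) = x 38 t * (x 56 u * w) :=
  sw_nil (by decide +kernel) t u w

theorem s_57_38 (t u : K) (w : GL chevE6.Idx K) : x 57 u * (x 38 t * w) = x 38 t * (x 57 u * w) :=
  sw_nil (by decide +kernel) t u w

theorem s_58_38 [CharP K 2] (t u : K) (w : GL chevE6.Idx K) : x 58 u * (x 38 t * w) = x 38 t * (x 58 u * (x 60 (t * u) * w)) :=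
  sw_one (ε := 1) (by decide +kernel) t u w

theorem s_59_38 (t u : K) (w : GL chevE6.Idx K) : x 59 u * (x 38 t * w) = x 38 t * (x 59 u * w) :=
  sw_nil (by decide +kernel) t u w

theorem s_60_38 (t u : K) (w : GL chevE6.Idx K) : x 60 u * (x 38 t * w) = x 38 t * (x 60 u * w) :=
  sw_nil (by decide +kernel) t u w

theorem s_61_38 [CharP K 2] (t u : K) (w : GL chevE6.Idx K) : x 61 u * (x 38 t * w) = x 38 t * (x 61 u * (x 63 (t * u) * w)) :=
  sw_one (ε := 1) (by decide +kernel) t u w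

theorem s_62_38 (t u : K) (w : GL chevE6.Idx K) : x 62 u * (x 38 t * w) = x 38 t * (x 62 u * w) :=
  sw_nil (by decide +kernel) t u w

theorem s_63_38 (t u : K) (w : GL chevE6.Idx K) : x 63 u * (x 38 t * w) = x 38 t * (x 63 u * w) :=
  sw_nil (by decide +kernel) t u w

theorem s_64_38 [CharP K 2] (t u : K) (w : GL chevE6.Idx K) : x 64 u * (x 38 t * w) = x 38 t * (x 64 u * (x 66 (t * u) * w)) :=
  sw_one (ε := -1) (by decide +kernel) t u w

theorem s_65_38 (t u : K) (w : GL chevE6.Idx K) : x 65 u * (x 38 t * w) = x 38 t * (x 65 u * w) :=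
  sw_nil (by decide +kernel) t u w

theorem s_66_38 (t u : K) (w : GL chevE6.Idx K) : x 66 u * (x 38 t * w) = x 38 t * (x 66 u * w) :=
  sw_nil (by decide +kernel) t u w

theorem s_67_38 [CharP K 2] (t u : K) (w : GL chevE6.Idx K) : x 67 u * (x 38 t * w) = x 38 t * (x 67 u * (x 69 (t * u) * w)) :=
  sw_one (ε := -1) (by decide +kernel) t u w

theorem s_68_38 (t u : K) (w : GL chevE6.Idx K) : x 68 u * (x 38 t * w) = x 38 t * (x 68 u * w) :=
  sw_nil (by decide +kernel) t u w

theorem s_69_38 (t u : K) (w : GL chevE6.Idx K) : x 69 u * (x 38 t * w) = x 38 t * (x 69 u * w) :=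
  sw_nil (by decide +kernel) t u w

theorem s_70_38 (t u : K) (w : GL chevE6.Idx K) : x 70 u * (x 38 t * w) = x 38 t * (x 70 u * w) :=
  sw_nil (by decide +kernel) t u w

theorem s_71_38 (t u : K) (w : GL chevE6.Idx K) : x 71 u * (x 38 t * w) = x 38 t * (x 71 u * w) :=
  sw_nil (by decide +kernel) t u w

theorem s_40_39 (t u : K) (w : GL chevE6.Idx K) : x 40 u * (x 39 t * w) = x 39 t * (x 40 u * w) :=
  sw_nil (by decide +kernel) t u w

theorem s_41_39 (t u : K) (w : GL chevE6.Idx K) : x 41 u * (x 39 t * w) = x 39 t * (x 41 u * w) :=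
  sw_nil (by decide +kernel) t u w

theorem s_42_39 [CharP K 2] (t u : K) (w : GL chevE6.Idx K) : x 42 u * (x 39 t * w) = x 39 t * (x 42 u * (x 43 (t * u) * w)) :=
  sw_one (ε := 1) (by decide +kernel) t u w

theorem s_43_39 (t u : K) (w : GL chevE6.Idx K) : x 43 u * (x 39 t * w) = x 39 t * (x 43 u * w) :=
  sw_nil (by decide +kernel) t u w

theorem s_44_39 (t u : K) (w : GL chevE6.Idx K) : x 44 u * (x 39 t * w) = x 39 t * (x 44 u * w) :=
  sw_nil (by decide +kernel) t u w

theorem s_45_39 (t u : K) (w : GL chevE6.Idx K) : x 45 u * (x 39 t * w) = x 39 t * (x 45 u * w) :=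
  sw_nil (by decide +kernel) t u w

theorem s_46_39 [CharP K 2] (t u : K) (w : GL chevE6.Idx K) : x 46 u * (x 39 t * w) = x 39 t * (x 46 u * (x 47 (t * u) * w)) :=
  sw_one (ε := 1) (by decide +kernel) t u w

theorem s_47_39 (t u : K) (w : GL chevE6.Idx K) : x 47 u * (x 39 t * w) = x 39 t * (x 47 u * w) :=
  sw_nil (by decide +kernel) t u w

theorem s_48_39 (t u : K) (w : GL chevE6.Idx K) : x 48 u * (x 39 t * w) = x 39 t * (x 48 u * w) :=
  sw_nil (by decide +kernel) t u w

theorem s_49_39 (t u : K) (w : GL chevE6.Idx K) : x 49 u * (x 39 t * w) = x 39 t * (x 49 u * w) :=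
  sw_nil (by decide +kernel) t u w

theorem s_50_39 (t u : K) (w : GL chevE6.Idx K) : x 50 u * (x 39 t * w) = x 39 t * (x 50 u * w) :=
  sw_nil (by decide +kernel) t u w

theorem s_51_39 [CharP K 2] (t u : K) (w : GL chevE6.Idx K) : x 51 u * (x 39 t * w) = x 39 t * (x 51 u * (x 53 (t * u) * w)) :=
  sw_one (ε := 1) (by decide +kernel) t u w

theorem s_52_39 [CharP K 2] (t u : K) (w : GL chevE6.Idx K) : x 52 u * (x 39 t * w) = x 39 t * (x 52 u * (x 54 (t * u) * w)) :=
  sw_one (ε := 1) (by decide +kernel) t u w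

theorem s_53_39 (t u : K) (w : GL chevE6.Idx K) : x 53 u * (x 39 t * w) = x 39 t * (x 53 u * w) :=
  sw_nil (by decide +kernel) t u w

theorem s_54_39 (t u : K) (w : GL chevE6.Idx K) : x 54 u * (x 39 t * w) = x 39 t * (x 54 u * w) :=
  sw_nil (by decide +kernel) t u w

theorem s_55_39 (t u : K) (w : GL chevE6.Idx K) : x 55 u * (x 39 t * w) = x 39 t * (x 55 u * w) :=
  sw_nil (by decide +kernel) t u w

theorem s_56_39 (t u : K) (w : GL chevE6.Idx K) : x 56 u * (x 39 t * w) = x 39 t * (x 56 u * w) :=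
  sw_nil (by decide +kernel) t u w

theorem s_57_39 [CharP K 2] (t u : K) (w : GL chevE6.Idx K) : x 57 u * (x 39 t * w) = x 39 t * (x 57 u * (x 58 (t * u) * w)) :=
  sw_one (ε := 1) (by decide +kernel) t u w

theorem s_58_39 (t u : K) (w : GL chevE6.Idx K) : x 58 u * (x 39 t * w) = x 39 t * (x 58 u * w) :=
  sw_nil (by decide +kernel) t u w

theorem s_59_39 (t u : K) (w : GL chevE6.Idx K) : x 59 u * (x 39 t * w) = x 39 t * (x 59 u * w) :=
  sw_nil (by decide +kernel) t u w

theorem s_60_39 (t u : K) (w : GL chevE6.Idx K) : x 60 u * (x 39 t * w) = x 39 t * (x 60 u * w) :=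
  sw_nil (by decide +kernel) t u w

theorem s_61_39 (t u : K) (w : GL chevE6.Idx K) : x 61 u * (x 39 t * w) = x 39 t * (x 61 u * w) :=
  sw_nil (by decide +kernel) t u w

theorem s_62_39 [CharP K 2] (t u : K) (w : GL chevE6.Idx K) : x 62 u * (x 39 t * w) = x 39 t * (x 62 u * (x 64 (t * u) * w)) :=
  sw_one (ε := 1) (by decide +kernel) t u w

theorem s_63_39 [CharP K 2] (t u : K) (w : GL chevE6.Idx K) : x 63 u * (x 39 t * w) = x 39 t * (x 63 u * (x 65 (t * u) * w)) :=
  sw_one (ε := 1) (by decide +kernel) t u w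

theorem s_64_39 (t u : K) (w : GL chevE6.Idx K) : x 64 u * (x 39 t * w) = x 39 t * (x 64 u * w) :=
  sw_nil (by decide +kernel) t u w

theorem s_65_39 (t u : K) (w : GL chevE6.Idx K) : x 65 u * (x 39 t * w) = x 39 t * (x 65 u * w) :=
  sw_nil (by decide +kernel) t u w

theorem s_66_39 (t u : K) (w : GL chevE6.Idx K) : x 66 u * (x 39 t * w) = x 39 t * (x 66 u * w) :=
  sw_nil (by decide +kernel) t u w

theorem s_67_39 (t u : K) (w : GL chevE6.Idx K) : x 67 u * (x 39 t * w) = x 39 t * (x 67 u * w) :=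
  sw_nil (by decide +kernel) t u w

theorem s_68_39 (t u : K) (w : GL chevE6.Idx K) : x 68 u * (x 39 t * w) = x 39 t * (x 68 u * w) :=
  sw_nil (by decide +kernel) t u w

theorem s_69_39 [CharP K 2] (t u : K) (w : GL chevE6.Idx K) : x 69 u * (x 39 t * w) = x 39 t * (x 69 u * (x 70 (t * u) * w)) :=
  sw_one (ε := 1) (by decide +kernel) t u w

theorem s_70_39 (t u : K) (w : GL chevE6.Idx K) : x 70 u * (x 39 t * w) = x 39 t * (x 70 u * w) :=
  sw_nil (by decide +kernel) t u w

theorem s_71_39 (t u : K) (w : GL chevE6.Idx K) : x 71 u * (x 39 t * w) = x 39 t * (x 71 u * w) :=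
  sw_nil (by decide +kernel) t u w

theorem s_41_40 (t u : K) (w : GL chevE6.Idx K) : x 41 u * (x 40 t * w) = x 40 t * (x 41 u * w) :=
  sw_nil (by decide +kernel) t u w

theorem s_42_40 [CharP K 2] (t u : K) (w : GL chevE6.Idx K) : x 42 u * (x 40 t * w) = x 40 t * (x 42 u * (x 44 (t * u) * w)) :=
  sw_one (ε := 1) (by decide +kernel) t u w

theorem s_43_40 (t u : K) (w : GL chevE6.Idx K) : x 43 u * (x 40 t * w) = x 40 t * (x 43 u * w) :=
  sw_nil (by decide +kernel) t u w

theorem s_44_40 (t u : K) (w : GL chevE6.Idx K) : x 44 u * (x 40 t * w) = x 40 t * (x 44 u * w) :=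
  sw_nil (by decide +kernel) t u w

theorem s_45_40 (t u : K) (w : GL chevE6.Idx K) : x 45 u * (x 40 t * w) = x 40 t * (x 45 u * w) :=
  sw_nil (by decide +kernel) t u w

theorem s_46_40 [CharP K 2] (t u : K) (w : GL chevE6.Idx K) : x 46 u * (x 40 t * w) = x 40 t * (x 46 u * (x 48 (t * u) * w)) :=
  sw_one (ε := 1) (by decide +kernel) t u w

theorem s_47_40 (t u : K) (w : GL chevE6.Idx K) : x 47 u * (x 40 t * w) = x 40 t * (x 47 u * w) :=
  sw_nil (by decide +kernel) t u w

theorem s_48_40 (t u : K) (w : GL chevE6.Idx K) : x 48 u * (x 40 t * w) = x 40 t * (x 48 u * w) :=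
  sw_nil (by decide +kernel) t u w

theorem s_49_40 (t u : K) (w : GL chevE6.Idx K) : x 49 u * (x 40 t * w) = x 40 t * (x 49 u * w) :=
  sw_nil (by decide +kernel) t u w

theorem s_50_40 [CharP K 2] (t u : K) (w : GL chevE6.Idx K) : x 50 u * (x 40 t * w) = x 40 t * (x 50 u * (x 53 (t * u) * w)) :=
  sw_one (ε := -1) (by decide +kernel) t u w

theorem s_51_40 (t u : K) (w : GL chevE6.Idx K) : x 51 u * (x 40 t * w) = x 40 t * (x 51 u * w) :=
  sw_nil (by decide +kernel) t u w

theorem s_52_40 [CharP K 2] (t u : K) (w : GL chevE6.Idx K) : x 52 u * (x 40 t * w) = x 40 t * (x 52 u * (x 55 (t * u) * w)) :=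
  sw_one (ε := 1) (by decide +kernel) t u w

theorem s_53_40 (t u : K) (w : GL chevE6.Idx K) : x 53 u * (x 40 t * w) = x 40 t * (x 53 u * w) :=
  sw_nil (by decide +kernel) t u w

theorem s_54_40 (t u : K) (w : GL chevE6.Idx K) : x 54 u * (x 40 t * w) = x 40 t * (x 54 u * w) :=
  sw_nil (by decide +kernel) t u w

theorem s_55_40 (t u : K) (w : GL chevE6.Idx K) : x 55 u * (x 40 t * w) = x 40 t * (x 55 u * w) :=
  sw_nil (by decide +kernel) t u w

theorem s_56_40 (t u : K) (w : GL chevE6.Idx K) : x 56 u * (x 40 t * w) = x 40 t * (x 56 u * w) :=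
  sw_nil (by decide +kernel) t u w

theorem s_57_40 [CharP K 2] (t u : K) (w : GL chevE6.Idx K) : x 57 u * (x 40 t * w) = x 40 t * (x 57 u * (x 59 (t * u) * w)) :=
  sw_one (ε := 1) (by decide +kernel) t u w

theorem s_58_40 (t u : K) (w : GL chevE6.Idx K) : x 58 u * (x 40 t * w) = x 40 t * (x 58 u * w) :=
  sw_nil (by decide +kernel) t u w

theorem s_59_40 (t u : K) (w : GL chevE6.Idx K) : x 59 u * (x 40 t * w) = x 40 t * (x 59 u * w) :=
  sw_nil (by decide +kernel) t u w

theorem s_60_40 (t u : K) (w : GL chevE6.Idx K) : x 60 u * (x 40 t * w) = x 40 t * (x 60 u * w) :=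
  sw_nil (by decide +kernel) t u w

theorem s_61_40 [CharP K 2] (t u : K) (w : GL chevE6.Idx K) : x 61 u * (x 40 t * w) = x 40 t * (x 61 u * (x 64 (t * u) * w)) :=
  sw_one (ε := -1) (by decide +kernel) t u w

theorem s_62_40 (t u : K) (w : GL chevE6.Idx K) : x 62 u * (x 40 t * w) = x 40 t * (x 62 u * w) :=
  sw_nil (by decide +kernel) t u w

theorem s_63_40 [CharP K 2] (t u : K) (w : GL chevE6.Idx K) : x 63 u * (x 40 t * w) = x 40 t * (x 63 u * (x 66 (t * u) * w)) :=
  sw_one (ε := 1) (by decide +kernel) t u w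

theorem s_64_40 (t u : K) (w : GL chevE6.Idx K) : x 64 u * (x 40 t * w) = x 40 t * (x 64 u * w) :=
  sw_nil (by decide +kernel) t u w

theorem s_65_40 (t u : K) (w : GL chevE6.Idx K) : x 65 u * (x 40 t * w) = x 40 t * (x 65 u * w) :=
  sw_nil (by decide +kernel) t u w

theorem s_66_40 (t u : K) (w : GL chevE6.Idx K) : x 66 u * (x 40 t * w) = x 40 t * (x 66 u * w) :=
  sw_nil (by decide +kernel) t u w

theorem s_67_40 (t u : K) (w : GL chevE6.Idx K) : x 67 u * (x 40 t * w) = x 40 t * (x 67 u * w) :=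
  sw_nil (by decide +kernel) t u w

theorem s_68_40 [CharP K 2] (t u : K) (w : GL chevE6.Idx K) : x 68 u * (x 40 t * w) = x 40 t * (x 68 u * (x 70 (t * u) * w)) :=
  sw_one (ε := -1) (by decide +kernel) t u w

theorem s_69_40 (t u : K) (w : GL chevE6.Idx K) : x 69 u * (x 40 t * w) = x 40 t * (x 69 u * w) :=
  sw_nil (by decide +kernel) t u w

theorem s_70_40 (t u : K) (w : GL chevE6.Idx K) : x 70 u * (x 40 t * w) = x 40 t * (x 70 u * w) :=
  sw_nil (by decide +kernel) t u w

theorem s_71_40 (t u : K) (w : GL chevE6.Idx K) : x 71 u * (x 40 t * w) = x 40 t * (x 71 u * w) :=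
  sw_nil (by decide +kernel) t u w

theorem s_42_41 [CharP K 2] (t u : K) (w : GL chevE6.Idx K) : x 42 u * (x 41 t * w) = x 41 t * (x 42 u * (x 45 (t * u) * w)) :=
  sw_one (ε := 1) (by decide +kernel) t u w

theorem s_43_41 (t u : K) (w : GL chevE6.Idx K) : x 43 u * (x 41 t * w) = x 41 t * (x 43 u * w) :=
  sw_nil (by decide +kernel) t u w

theorem s_44_41 (t u : K) (w : GL chevE6.Idx K) : x 44 u * (x 41 t * w) = x 41 t * (x 44 u * w) :=
  sw_nil (by decide +kernel) t u w

theorem s_45_41 (t u : K) (w : GL chevE6.Idx K) : x 45 u * (x 41 t * w) = x 41 t * (x 45 u * w) :=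
  sw_nil (by decide +kernel) t u w

theorem s_46_41 [CharP K 2] (t u : K) (w : GL chevE6.Idx K) : x 46 u * (x 41 t * w) = x 41 t * (x 46 u * (x 49 (t * u) * w)) :=
  sw_one (ε := 1) (by decide +kernel) t u w

theorem s_47_41 (t u : K) (w : GL chevE6.Idx K) : x 47 u * (x 41 t * w) = x 41 t * (x 47 u * w) :=
  sw_nil (by decide +kernel) t u w

theorem s_48_41 (t u : K) (w : GL chevE6.Idx K) : x 48 u * (x 41 t * w) = x 41 t * (x 48 u * w) :=
  sw_nil (by decide +kernel) t u w

theorem s_49_41 (t u : K) (w : GL chevE6.Idx K) : x 49 u * (x 41 t * w) = x 41 t * (x 49 u * w) :=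
  sw_nil (by decide +kernel) t u w

theorem s_50_41 [CharP K 2] (t u : K) (w : GL chevE6.Idx K) : x 50 u * (x 41 t * w) = x 41 t * (x 50 u * (x 54 (t * u) * w)) :=
  sw_one (ε := -1) (by decide +kernel) t u w

theorem s_51_41 [CharP K 2] (t u : K) (w : GL chevE6.Idx K) : x 51 u * (x 41 t * w) = x 41 t * (x 51 u * (x 55 (t * u) * w)) :=
  sw_one (ε := -1) (by decide +kernel) t u w

theorem s_52_41 (t u : K) (w : GL chevE6.Idx K) : x 52 u * (x 41 t * w) = x 41 t * (x 52 u * w) :=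
  sw_nil (by decide +kernel) t u w

theorem s_53_41 (t u : K) (w : GL chevE6.Idx K) : x 53 u * (x 41 t * w) = x 41 t * (x 53 u * w) :=
  sw_nil (by decide +kernel) t u w

theorem s_54_41 (t u : K) (w : GL chevE6.Idx K) : x 54 u * (x 41 t * w) = x 41 t * (x 54 u * w) :=
  sw_nil (by decide +kernel) t u w

theorem s_55_41 (t u : K) (w : GL chevE6.Idx K) : x 55 u * (x 41 t * w) = x 41 t * (x 55 u * w) :=
  sw_nil (by decide +kernel) t u w

theorem s_56_41 (t u : K) (w : GL chevE6.Idx K) : x 56 u * (x 41 t * w) = x 41 t * (x 56 u * w) :=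
  sw_nil (by decide +kernel) t u w

theorem s_57_41 [CharP K 2] (t u : K) (w : GL chevE6.Idx K) : x 57 u * (x 41 t * w) = x 41 t * (x 57 u * (x 60 (t * u) * w)) :=
  sw_one (ε := 1) (by decide +kernel) t u w

theorem s_58_41 (t u : K) (w : GL chevE6.Idx K) : x 58 u * (x 41 t * w) = x 41 t * (x 58 u * w) :=
  sw_nil (by decide +kernel) t u w

theorem s_59_41 (t u : K) (w : GL chevE6.Idx K) : x 59 u * (x 41 t * w) = x 41 t * (x 59 u * w) :=
  sw_nil (by decide +kernel) t u w

theorem s_60_41 (t u : K) (w : GL chevE6.Idx K) : x 60 u * (x 41 t * w) = x 41 t * (x 60 u * w) :=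
  sw_nil (by decide +kernel) t u w

theorem s_61_41 [CharP K 2] (t u : K) (w : GL chevE6.Idx K) : x 61 u * (x 41 t * w) = x 41 t * (x 61 u * (x 65 (t * u) * w)) :=
  sw_one (ε := -1) (by decide +kernel) t u w

theorem s_62_41 [CharP K 2] (t u : K) (w : GL chevE6.Idx K) : x 62 u * (x 41 t * w) = x 41 t * (x 62 u * (x 66 (t * u) * w)) :=
  sw_one (ε := -1) (by decide +kernel) t u w

theorem s_63_41 (t u : K) (w : GL chevE6.Idx K) : x 63 u * (x 41 t * w) = x 41 t * (x 63 u * w) :=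
  sw_nil (by decide +kernel) t u w

theorem s_64_41 (t u : K) (w : GL chevE6.Idx K) : x 64 u * (x 41 t * w) = x 41 t * (x 64 u * w) :=
  sw_nil (by decide +kernel) t u w

theorem s_65_41 (t u : K) (w : GL chevE6.Idx K) : x 65 u * (x 41 t * w) = x 41 t * (x 65 u * w) :=
  sw_nil (by decide +kernel) t u w

theorem s_66_41 (t u : K) (w : GL chevE6.Idx K) : x 66 u * (x 41 t * w) = x 41 t * (x 66 u * w) :=
  sw_nil (by decide +kernel) t u w

theorem s_67_41 [CharP K 2] (t u : K) (w : GL chevE6.Idx K) : x 67 u * (x 41 t * w) = x 41 t * (x 67 u * (x 70 (t * u) * w)) :=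
  sw_one (ε := 1) (by decide +kernel) t u w

theorem s_68_41 (t u : K) (w : GL chevE6.Idx K) : x 68 u * (x 41 t * w) = x 41 t * (x 68 u * w) :=
  sw_nil (by decide +kernel) t u w

theorem s_69_41 (t u : K) (w : GL chevE6.Idx K) : x 69 u * (x 41 t * w) = x 41 t * (x 69 u * w) :=
  sw_nil (by decide +kernel) t u w

theorem s_70_41 (t u : K) (w : GL chevE6.Idx K) : x 70 u * (x 41 t * w) = x 41 t * (x 70 u * w) :=
  sw_nil (by decide +kernel) t u w

theorem s_71_41 (t u : K) (w : GL chevE6.Idx K) : x 71 u * (x 41 t * w) = x 41 t * (x 71 u * w) :=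
  sw_nil (by decide +kernel) t u w

theorem s_43_42 (t u : K) (w : GL chevE6.Idx K) : x 43 u * (x 42 t * w) = x 42 t * (x 43 u * w) :=
  sw_nil (by decide +kernel) t u w

theorem s_44_42 (t u : K) (w : GL chevE6.Idx K) : x 44 u * (x 42 t * w) = x 42 t * (x 44 u * w) :=
  sw_nil (by decide +kernel) t u w

theorem s_45_42 (t u : K) (w : GL chevE6.Idx K) : x 45 u * (x 42 t * w) = x 42 t * (x 45 u * w) :=
  sw_nil (by decide +kernel) t u w

theorem s_46_42 (t u : K) (w : GL chevE6.Idx K) : x 46 u * (x 42 t * w) = x 42 t * (x 46 u * w) :=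
  sw_nil (by decide +kernel) t u w

theorem s_47_42 [CharP K 2] (t u : K) (w : GL chevE6.Idx K) : x 47 u * (x 42 t * w) = x 42 t * (x 47 u * (x 50 (t * u) * w)) :=
  sw_one (ε := 1) (by decide +kernel) t u w

theorem s_48_42 [CharP K 2] (t u : K) (w : GL chevE6.Idx K) : x 48 u * (x 42 t * w) = x 42 t * (x 48 u * (x 51 (t * u) * w)) :=
  sw_one (ε := 1) (by decide +kernel) t u w

theorem s_49_42 [CharP K 2] (t u : K) (w : GL chevE6.Idx K) : x 49 u * (x 42 t * w) = x 42 t * (x 49 u * (x 52 (t * u) * w)) :=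
  sw_one (ε := 1) (by decide +kernel) t u w

theorem s_50_42 (t u : K) (w : GL chevE6.Idx K) : x 50 u * (x 42 t * w) = x 42 t * (x 50 u * w) :=
  sw_nil (by decide +kernel) t u w

theorem s_51_42 (t u : K) (w : GL chevE6.Idx K) : x 51 u * (x 42 t * w) = x 42 t * (x 51 u * w) :=
  sw_nil (by decide +kernel) t u w

theorem s_52_42 (t u : K) (w : GL chevE6.Idx K) : x 52 u * (x 42 t * w) = x 42 t * (x 52 u * w) :=
  sw_nil (by decide +kernel) t u w

theorem s_53_42 (t u : K) (w : GL chevE6.Idx K) : x 53 u * (x 42 t * w) = x 42 t * (x 53 u * w) :=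
  sw_nil (by decide +kernel) t u w

theorem s_54_42 (t u : K) (w : GL chevE6.Idx K) : x 54 u * (x 42 t * w) = x 42 t * (x 54 u * w) :=
  sw_nil (by decide +kernel) t u w

theorem s_55_42 (t u : K) (w : GL chevE6.Idx K) : x 55 u * (x 42 t * w) = x 42 t * (x 55 u * w) :=
  sw_nil (by decide +kernel) t u w

theorem s_56_42 [CharP K 2] (t u : K) (w : GL chevE6.Idx K) : x 56 u * (x 42 t * w) = x 42 t * (x 56 u * (x 57 (t * u) * w)) :=
  sw_one (ε := 1) (by decide +kernel) t u w

theorem s_57_42 (t u : K) (w : GL chevE6.Idx K) : x 57 u * (x 42 t * w) = x 42 t * (x 57 u * w) :=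
  sw_nil (by decide +kernel) t u w

theorem s_58_42 (t u : K) (w : GL chevE6.Idx K) : x 58 u * (x 42 t * w) = x 42 t * (x 58 u * w) :=
  sw_nil (by decide +kernel) t u w

theorem s_59_42 (t u : K) (w : GL chevE6.Idx K) : x 59 u * (x 42 t * w) = x 42 t * (x 59 u * w) :=
  sw_nil (by decide +kernel) t u w

theorem s_60_42 (t u : K) (w : GL chevE6.Idx K) : x 60 u * (x 42 t * w) = x 42 t * (x 60 u * w) :=
  sw_nil (by decide +kernel) t u w

theorem s_61_42 (t u : K) (w : GL chevE6.Idx K) : x 61 u * (x 42 t * w) = x 42 t * (x 61 u * w) :=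
  sw_nil (by decide +kernel) t u w

theorem s_62_42 (t u : K) (w : GL chevE6.Idx K) : x 62 u * (x 42 t * w) = x 42 t * (x 62 u * w) :=
  sw_nil (by decide +kernel) t u w

theorem s_63_42 (t u : K) (w : GL chevE6.Idx K) : x 63 u * (x 42 t * w) = x 42 t * (x 63 u * w) :=
  sw_nil (by decide +kernel) t u w

theorem s_64_42 [CharP K 2] (t u : K) (w : GL chevE6.Idx K) : x 64 u * (x 42 t * w) = x 42 t * (x 64 u * (x 67 (t * u) * w)) :=
  sw_one (ε := 1) (by decide +kernel) t u w

theorem s_65_42 [CharP K 2] (t u : K) (w : GL chevE6.Idx K) : x 65 u * (x 42 t * w) = x 42 t * (x 65 u * (x 68 (t * u) * w)) :=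
  sw_one (ε := 1) (by decide +kernel) t u w

theorem s_66_42 [CharP K 2] (t u : K) (w : GL chevE6.Idx K) : x 66 u * (x 42 t * w) = x 42 t * (x 66 u * (x 69 (t * u) * w)) :=
  sw_one (ε := 1) (by decide +kernel) t u w

theorem s_67_42 (t u : K) (w : GL chevE6.Idx K) : x 67 u * (x 42 t * w) = x 42 t * (x 67 u * w) :=
  sw_nil (by decide +kernel) t u w

theorem s_68_42 (t u : K) (w : GL chevE6.Idx K) : x 68 u * (x 42 t * w) = x 42 t * (x 68 u * w) :=
  sw_nil (by decide +kernel) t u w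

theorem s_69_42 (t u : K) (w : GL chevE6.Idx K) : x 69 u * (x 42 t * w) = x 42 t * (x 69 u * w) :=
  sw_nil (by decide +kernel) t u w

theorem s_70_42 (t u : K) (w : GL chevE6.Idx K) : x 70 u * (x 42 t * w) = x 42 t * (x 70 u * w) :=
  sw_nil (by decide +kernel) t u w

theorem s_71_42 (t u : K) (w : GL chevE6.Idx K) : x 71 u * (x 42 t * w) = x 42 t * (x 71 u * w) :=
  sw_nil (by decide +kernel) t u w

theorem s_44_43 (t u : K) (w : GL chevE6.Idx K) : x 44 u * (x 43 t * w) = x 43 t * (x 44 u * w) :=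
  sw_nil (by decide +kernel) t u w

theorem s_45_43 (t u : K) (w : GL chevE6.Idx K) : x 45 u * (x 43 t * w) = x 43 t * (x 45 u * w) :=
  sw_nil (by decide +kernel) t u w

theorem s_46_43 [CharP K 2] (t u : K) (w : GL chevE6.Idx K) : x 46 u * (x 43 t * w) = x 43 t * (x 46 u * (x 50 (t * u) * w)) :=
  sw_one (ε := -1) (by decide +kernel) t u w

theorem s_47_43 (t u : K) (w : GL chevE6.Idx K) : x 47 u * (x 43 t * w) = x 43 t * (x 47 u * w) :=
  sw_nil (by decide +kernel) t u w

theorem s_48_43 [CharP K 2] (t u : K) (w : GL chevE6.Idx K) : x 48 u * (x 43 t * w) = x 43 t * (x 48 u * (x 53 (t * u) * w)) :=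
  sw_one (ε := 1) (by decide +kernel) t u w

theorem s_49_43 [CharP K 2] (t u : K) (w : GL chevE6.Idx K) : x 49 u * (x 43 t * w) = x 43 t * (x 49 u * (x 54 (t * u) * w)) :=
  sw_one (ε := 1) (by decide +kernel) t u w

theorem s_50_43 (t u : K) (w : GL chevE6.Idx K) : x 50 u * (x 43 t * w) = x 43 t * (x 50 u * w) :=
  sw_nil (by decide +kernel) t u w

theorem s_51_43 (t u : K) (w : GL chevE6.Idx K) : x 51 u * (x 43 t * w) = x 43 t * (x 51 u * w) :=
  sw_nil (by decide +kernel) t u w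

theorem s_52_43 (t u : K) (w : GL chevE6.Idx K) : x 52 u * (x 43 t * w) = x 43 t * (x 52 u * w) :=
  sw_nil (by decide +kernel) t u w

theorem s_53_43 (t u : K) (w : GL chevE6.Idx K) : x 53 u * (x 43 t * w) = x 43 t * (x 53 u * w) :=
  sw_nil (by decide +kernel) t u w

theorem s_54_43 (t u : K) (w : GL chevE6.Idx K) : x 54 u * (x 43 t * w) = x 43 t * (x 54 u * w) :=
  sw_nil (by decide +kernel) t u w

theorem s_55_43 (t u : K) (w : GL chevE6.Idx K) : x 55 u * (x 43 t * w) = x 43 t * (x 55 u * w) :=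
  sw_nil (by decide +kernel) t u w

theorem s_56_43 [CharP K 2] (t u : K) (w : GL chevE6.Idx K) : x 56 u * (x 43 t * w) = x 43 t * (x 56 u * (x 58 (t * u) * w)) :=
  sw_one (ε := 1) (by decide +kernel) t u w

theorem s_57_43 (t u : K) (w : GL chevE6.Idx K) : x 57 u * (x 43 t * w) = x 43 t * (x 57 u * w) :=
  sw_nil (by decide +kernel) t u w

theorem s_58_43 (t u : K) (w : GL chevE6.Idx K) : x 58 u * (x 43 t * w) = x 43 t * (x 58 u * w) :=
  sw_nil (by decide +kernel) t u w

theorem s_59_43 (t u : K) (w : GL chevE6.Idx K) : x 59 u * (x 43 t * w) = x 43 t * (x 59 u * w) :=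
  sw_nil (by decide +kernel) t u w

theorem s_60_43 (t u : K) (w : GL chevE6.Idx K) : x 60 u * (x 43 t * w) = x 43 t * (x 60 u * w) :=
  sw_nil (by decide +kernel) t u w

theorem s_61_43 (t u : K) (w : GL chevE6.Idx K) : x 61 u * (x 43 t * w) = x 43 t * (x 61 u * w) :=
  sw_nil (by decide +kernel) t u w

theorem s_62_43 [CharP K 2] (t u : K) (w : GL chevE6.Idx K) : x 62 u * (x 43 t * w) = x 43 t * (x 62 u * (x 67 (t * u) * w)) :=
  sw_one (ε := -1) (by decide +kernel) t u w

theorem s_63_43 [CharP K 2] (t u : K) (w : GL chevE6.Idx K) : x 63 u * (x 43 t * w) = x 43 t * (x 63 u * (x 68 (t * u) * w)) :=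
  sw_one (ε := -1) (by decide +kernel) t u w

theorem s_64_43 (t u : K) (w : GL chevE6.Idx K) : x 64 u * (x 43 t * w) = x 43 t * (x 64 u * w) :=
  sw_nil (by decide +kernel) t u w

theorem s_65_43 (t u : K) (w : GL chevE6.Idx K) : x 65 u * (x 43 t * w) = x 43 t * (x 65 u * w) :=
  sw_nil (by decide +kernel) t u w

theorem s_66_43 [CharP K 2] (t u : K) (w : GL chevE6.Idx K) : x 66 u * (x 43 t * w) = x 43 t * (x 66 u * (x 70 (t * u) * w)) :=
  sw_one (ε := 1) (by decide +kernel) t u w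

theorem s_67_43 (t u : K) (w : GL chevE6.Idx K) : x 67 u * (x 43 t * w) = x 43 t * (x 67 u * w) :=
  sw_nil (by decide +kernel) t u w

theorem s_68_43 (t u : K) (w : GL chevE6.Idx K) : x 68 u * (x 43 t * w) = x 43 t * (x 68 u * w) :=
  sw_nil (by decide +kernel) t u w

theorem s_69_43 (t u : K) (w : GL chevE6.Idx K) : x 69 u * (x 43 t * w) = x 43 t * (x 69 u * w) :=
  sw_nil (by decide +kernel) t u w

theorem s_70_43 (t u : K) (w : GL chevE6.Idx K) : x 70 u * (x 43 t * w) = x 43 t * (x 70 u * w) :=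
  sw_nil (by decide +kernel) t u w

theorem s_71_43 (t u : K) (w : GL chevE6.Idx K) : x 71 u * (x 43 t * w) = x 43 t * (x 71 u * w) :=
  sw_nil (by decide +kernel) t u w

theorem s_45_44 (t u : K) (w : GL chevE6.Idx K) : x 45 u * (x 44 t * w) = x 44 t * (x 45 u * w) :=
  sw_nil (by decide +kernel) t u w

theorem s_46_44 [CharP K 2] (t u : K) (w : GL chevE6.Idx K) : x 46 u * (x 44 t * w) = x 44 t * (x 46 u * (x 51 (t * u) * w)) :=
  sw_one (ε := -1) (by decide +kernel) t u w

theorem s_47_44 [CharP K 2] (t u : K) (w : GL chevE6.Idx K) : x 47 u * (x 44 t * w) = x 44 t * (x 47 u * (x 53 (t * u) * w)) :=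
  sw_one (ε := -1) (by decide +kernel) t u w

theorem s_48_44 (t u : K) (w : GL chevE6.Idx K) : x 48 u * (x 44 t * w) = x 44 t * (x 48 u * w) :=
  sw_nil (by decide +kernel) t u w

theorem s_49_44 [CharP K 2] (t u : K) (w : GL chevE6.Idx K) : x 49 u * (x 44 t * w) = x 44 t * (x 49 u * (x 55 (t * u) * w)) :=
  sw_one (ε := 1) (by decide +kernel) t u w

theorem s_50_44 (t u : K) (w : GL chevE6.Idx K) : x 50 u * (x 44 t * w) = x 44 t * (x 50 u * w) :=
  sw_nil (by decide +kernel) t u w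

theorem s_51_44 (t u : K) (w : GL chevE6.Idx K) : x 51 u * (x 44 t * w) = x 44 t * (x 51 u * w) :=
  sw_nil (by decide +kernel) t u w

theorem s_52_44 (t u : K) (w : GL chevE6.Idx K) : x 52 u * (x 44 t * w) = x 44 t * (x 52 u * w) :=
  sw_nil (by decide +kernel) t u w

theorem s_53_44 (t u : K) (w : GL chevE6.Idx K) : x 53 u * (x 44 t * w) = x 44 t * (x 53 u * w) :=
  sw_nil (by decide +kernel) t u w

theorem s_54_44 (t u : K) (w : GL chevE6.Idx K) : x 54 u * (x 44 t * w) = x 44 t * (x 54 u * w) :=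
  sw_nil (by decide +kernel) t u w

theorem s_55_44 (t u : K) (w : GL chevE6.Idx K) : x 55 u * (x 44 t * w) = x 44 t * (x 55 u * w) :=
  sw_nil (by decide +kernel) t u w

theorem s_56_44 [CharP K 2] (t u : K) (w : GL chevE6.Idx K) : x 56 u * (x 44 t * w) = x 44 t * (x 56 u * (x 59 (t * u) * w)) :=
  sw_one (ε := 1) (by decide +kernel) t u w

theorem s_57_44 (t u : K) (w : GL chevE6.Idx K) : x 57 u * (x 44 t * w) = x 44 t * (x 57 u * w) :=
  sw_nil (by decide +kernel) t u w

theorem s_58_44 (t u : K) (w : GL chevE6.Idx K) : x 58 u * (x 44 t * w) = x 44 t * (x 58 u * w) :=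
  sw_nil (by decide +kernel) t u w

theorem s_59_44 (t u : K) (w : GL chevE6.Idx K) : x 59 u * (x 44 t * w) = x 44 t * (x 59 u * w) :=
  sw_nil (by decide +kernel) t u w

theorem s_60_44 (t u : K) (w : GL chevE6.Idx K) : x 60 u * (x 44 t * w) = x 44 t * (x 60 u * w) :=
  sw_nil (by decide +kernel) t u w

theorem s_61_44 [CharP K 2] (t u : K) (w : GL chevE6.Idx K) : x 61 u * (x 44 t * w) = x 44 t * (x 61 u * (x 67 (t * u) * w)) :=
  sw_one (ε := 1) (by decide +kernel) t u w

theorem s_62_44 (t u : K) (w : GL chevE6.Idx K) : x 62 u * (x 44 t * w) = x 44 t * (x 62 u * w) :=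
  sw_nil (by decide +kernel) t u w

theorem s_63_44 [CharP K 2] (t u : K) (w : GL chevE6.Idx K) : x 63 u * (x 44 t * w) = x 44 t * (x 63 u * (x 69 (t * u) * w)) :=
  sw_one (ε := -1) (by decide +kernel) t u w

theorem s_64_44 (t u : K) (w : GL chevE6.Idx K) : x 64 u * (x 44 t * w) = x 44 t * (x 64 u * w) :=
  sw_nil (by decide +kernel) t u w

theorem s_65_44 [CharP K 2] (t u : K) (w : GL chevE6.Idx K) : x 65 u * (x 44 t * w) = x 44 t * (x 65 u * (x 70 (t * u) * w)) :=
  sw_one (ε := -1) (by decide +kernel) t u w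

theorem s_66_44 (t u : K) (w : GL chevE6.Idx K) : x 66 u * (x 44 t * w) = x 44 t * (x 66 u * w) :=
  sw_nil (by decide +kernel) t u w

theorem s_67_44 (t u : K) (w : GL chevE6.Idx K) : x 67 u * (x 44 t * w) = x 44 t * (x 67 u * w) :=
  sw_nil (by decide +kernel) t u w

theorem s_68_44 (t u : K) (w : GL chevE6.Idx K) : x 68 u * (x 44 t * w) = x 44 t * (x 68 u * w) :=
  sw_nil (by decide +kernel) t u w

theorem s_69_44 (t u : K) (w : GL chevE6.Idx K) : x 69 u * (x 44 t * w) = x 44 t * (x 69 u * w) :=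
  sw_nil (by decide +kernel) t u w

theorem s_70_44 (t u : K) (w : GL chevE6.Idx K) : x 70 u * (x 44 t * w) = x 44 t * (x 70 u * w) :=
  sw_nil (by decide +kernel) t u w

theorem s_71_44 (t u : K) (w : GL chevE6.Idx K) : x 71 u * (x 44 t * w) = x 44 t * (x 71 u * w) :=
  sw_nil (by decide +kernel) t u w

theorem s_46_45 [CharP K 2] (t u : K) (w : GL chevE6.Idx K) : x 46 u * (x 45 t * w) = x 45 t * (x 46 u * (x 52 (t * u) * w)) :=
  sw_one (ε := -1) (by decide +kernel) t u w

theorem s_47_45 [CharP K 2] (t u : K) (w : GL chevE6.Idx K) : x 47 u * (x 45 t * w) = x 45 t * (x 47 u * (x 54 (t * u) * w)) :=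
  sw_one (ε := -1) (by decide +kernel) t u w

theorem s_48_45 [CharP K 2] (t u : K) (w : GL chevE6.Idx K) : x 48 u * (x 45 t * w) = x 45 t * (x 48 u * (x 55 (t * u) * w)) :=
  sw_one (ε := -1) (by decide +kernel) t u w

theorem s_49_45 (t u : K) (w : GL chevE6.Idx K) : x 49 u * (x 45 t * w) = x 45 t * (x 49 u * w) :=
  sw_nil (by decide +kernel) t u w

theorem s_50_45 (t u : K) (w : GL chevE6.Idx K) : x 50 u * (x 45 t * w) = x 45 t * (x 50 u * w) :=
  sw_nil (by decide +kernel) t u w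

theorem s_51_45 (t u : K) (w : GL chevE6.Idx K) : x 51 u * (x 45 t * w) = x 45 t * (x 51 u * w) :=
  sw_nil (by decide +kernel) t u w

theorem s_52_45 (t u : K) (w : GL chevE6.Idx K) : x 52 u * (x 45 t * w) = x 45 t * (x 52 u * w) :=
  sw_nil (by decide +kernel) t u w

theorem s_53_45 (t u : K) (w : GL chevE6.Idx K) : x 53 u * (x 45 t * w) = x 45 t * (x 53 u * w) :=
  sw_nil (by decide +kernel) t u w

theorem s_54_45 (t u : K) (w : GL chevE6.Idx K) : x 54 u * (x 45 t * w) = x 45 t * (x 54 u * w) :=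
  sw_nil (by decide +kernel) t u w

theorem s_55_45 (t u : K) (w : GL chevE6.Idx K) : x 55 u * (x 45 t * w) = x 45 t * (x 55 u * w) :=
  sw_nil (by decide +kernel) t u w

theorem s_56_45 [CharP K 2] (t u : K) (w : GL chevE6.Idx K) : x 56 u * (x 45 t * w) = x 45 t * (x 56 u * (x 60 (t * u) * w)) :=
  sw_one (ε := 1) (by decide +kernel) t u w

theorem s_57_45 (t u : K) (w : GL chevE6.Idx K) : x 57 u * (x 45 t * w) = x 45 t * (x 57 u * w) :=
  sw_nil (by decide +kernel) t u w

theorem s_58_45 (t u : K) (w : GL chevE6.Idx K) : x 58 u * (x 45 t * w) = x 45 t * (x 58 u * w) :=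
  sw_nil (by decide +kernel) t u w

theorem s_59_45 (t u : K) (w : GL chevE6.Idx K) : x 59 u * (x 45 t * w) = x 45 t * (x 59 u * w) :=
  sw_nil (by decide +kernel) t u w

theorem s_60_45 (t u : K) (w : GL chevE6.Idx K) : x 60 u * (x 45 t * w) = x 45 t * (x 60 u * w) :=
  sw_nil (by decide +kernel) t u w

theorem s_61_45 [CharP K 2] (t u : K) (w : GL chevE6.Idx K) : x 61 u * (x 45 t * w) = x 45 t * (x 61 u * (x 68 (t * u) * w)) :=
  sw_one (ε := 1) (by decide +kernel) t u w

theorem s_62_45 [CharP K 2] (t u : K) (w : GL chevE6.Idx K) : x 62 u * (x 45 t * w) = x 45 t * (x 62 u * (x 69 (t * u) * w)) :=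
  sw_one (ε := 1) (by decide +kernel) t u w

theorem s_63_45 (t u : K) (w : GL chevE6.Idx K) : x 63 u * (x 45 t * w) = x 45 t * (x 63 u * w) :=
  sw_nil (by decide +kernel) t u w

theorem s_64_45 [CharP K 2] (t u : K) (w : GL chevE6.Idx K) : x 64 u * (x 45 t * w) = x 45 t * (x 64 u * (x 70 (t * u) * w)) :=
  sw_one (ε := 1) (by decide +kernel) t u w

theorem s_65_45 (t u : K) (w : GL chevE6.Idx K) : x 65 u * (x 45 t * w) = x 45 t * (x 65 u * w) :=
  sw_nil (by decide +kernel) t u w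

theorem s_66_45 (t u : K) (w : GL chevE6.Idx K) : x 66 u * (x 45 t * w) = x 45 t * (x 66 u * w) :=
  sw_nil (by decide +kernel) t u w

theorem s_67_45 (t u : K) (w : GL chevE6.Idx K) : x 67 u * (x 45 t * w) = x 45 t * (x 67 u * w) :=
  sw_nil (by decide +kernel) t u w

theorem s_68_45 (t u : K) (w : GL chevE6.Idx K) : x 68 u * (x 45 t * w) = x 45 t * (x 68 u * w) :=
  sw_nil (by decide +kernel) t u w

theorem s_69_45 (t u : K) (w : GL chevE6.Idx K) : x 69 u * (x 45 t * w) = x 45 t * (x 69 u * w) :=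
  sw_nil (by decide +kernel) t u w

theorem s_70_45 (t u : K) (w : GL chevE6.Idx K) : x 70 u * (x 45 t * w) = x 45 t * (x 70 u * w) :=
  sw_nil (by decide +kernel) t u w

theorem s_71_45 (t u : K) (w : GL chevE6.Idx K) : x 71 u * (x 45 t * w) = x 45 t * (x 71 u * w) :=
  sw_nil (by decide +kernel) t u w

theorem s_47_46 (t u : K) (w : GL chevE6.Idx K) : x 47 u * (x 46 t * w) = x 46 t * (x 47 u * w) :=
  sw_nil (by decide +kernel) t u w

theorem s_48_46 (t u : K) (w : GL chevE6.Idx K) : x 48 u * (x 46 t * w) = x 46 t * (x 48 u * w) :=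
  sw_nil (by decide +kernel) t u w

theorem s_49_46 (t u : K) (w : GL chevE6.Idx K) : x 49 u * (x 46 t * w) = x 46 t * (x 49 u * w) :=
  sw_nil (by decide +kernel) t u w

theorem s_50_46 (t u : K) (w : GL chevE6.Idx K) : x 50 u * (x 46 t * w) = x 46 t * (x 50 u * w) :=
  sw_nil (by decide +kernel) t u w

theorem s_51_46 (t u : K) (w : GL chevE6.Idx K) : x 51 u * (x 46 t * w) = x 46 t * (x 51 u * w) :=
  sw_nil (by decide +kernel) t u w

theorem s_52_46 (t u : K) (w : GL chevE6.Idx K) : x 52 u * (x 46 t * w) = x 46 t * (x 52 u * w) :=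
  sw_nil (by decide +kernel) t u w

theorem s_53_46 (t u : K) (w : GL chevE6.Idx K) : x 53 u * (x 46 t * w) = x 46 t * (x 53 u * w) :=
  sw_nil (by decide +kernel) t u w

theorem s_54_46 (t u : K) (w : GL chevE6.Idx K) : x 54 u * (x 46 t * w) = x 46 t * (x 54 u * w) :=
  sw_nil (by decide +kernel) t u w

theorem s_55_46 (t u : K) (w : GL chevE6.Idx K) : x 55 u * (x 46 t * w) = x 46 t * (x 55 u * w) :=
  sw_nil (by decide +kernel) t u w

theorem s_56_46 (t u : K) (w : GL chevE6.Idx K) : x 56 u * (x 46 t * w) = x 46 t * (x 56 u * w) :=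
  sw_nil (by decide +kernel) t u w

theorem s_57_46 (t u : K) (w : GL chevE6.Idx K) : x 57 u * (x 46 t * w) = x 46 t * (x 57 u * w) :=
  sw_nil (by decide +kernel) t u w

theorem s_58_46 [CharP K 2] (t u : K) (w : GL chevE6.Idx K) : x 58 u * (x 46 t * w) = x 46 t * (x 58 u * (x 61 (t * u) * w)) :=
  sw_one (ε := 1) (by decide +kernel) t u w

theorem s_59_46 [CharP K 2] (t u : K) (w : GL chevE6.Idx K) : x 59 u * (x 46 t * w) = x 46 t * (x 59 u * (x 62 (t * u) * w)) :=
  sw_one (ε := 1) (by decide +kernel) t u w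

theorem s_60_46 [CharP K 2] (t u : K) (w : GL chevE6.Idx K) : x 60 u * (x 46 t * w) = x 46 t * (x 60 u * (x 63 (t * u) * w)) :=
  sw_one (ε := 1) (by decide +kernel) t u w

theorem s_61_46 (t u : K) (w : GL chevE6.Idx K) : x 61 u * (x 46 t * w) = x 46 t * (x 61 u * w) :=
  sw_nil (by decide +kernel) t u w

theorem s_62_46 (t u : K) (w : GL chevE6.Idx K) : x 62 u * (x 46 t * w) = x 46 t * (x 62 u * w) :=
  sw_nil (by decide +kernel) t u w

theorem s_63_46 (t u : K) (w : GL chevE6.Idx K) : x 63 u * (x 46 t * w) = x 46 t * (x 63 u * w) :=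
  sw_nil (by decide +kernel) t u w

theorem s_64_46 (t u : K) (w : GL chevE6.Idx K) : x 64 u * (x 46 t * w) = x 46 t * (x 64 u * w) :=
  sw_nil (by decide +kernel) t u w

theorem s_65_46 (t u : K) (w : GL chevE6.Idx K) : x 65 u * (x 46 t * w) = x 46 t * (x 65 u * w) :=
  sw_nil (by decide +kernel) t u w

theorem s_66_46 (t u : K) (w : GL chevE6.Idx K) : x 66 u * (x 46 t * w) = x 46 t * (x 66 u * w) :=
  sw_nil (by decide +kernel) t u w

theorem s_67_46 (t u : K) (w : GL chevE6.Idx K) : x 67 u * (x 46 t * w) = x 46 t * (x 67 u * w) :=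
  sw_nil (by decide +kernel) t u w

theorem s_68_46 (t u : K) (w : GL chevE6.Idx K) : x 68 u * (x 46 t * w) = x 46 t * (x 68 u * w) :=
  sw_nil (by decide +kernel) t u w

theorem s_69_46 (t u : K) (w : GL chevE6.Idx K) : x 69 u * (x 46 t * w) = x 46 t * (x 69 u * w) :=
  sw_nil (by decide +kernel) t u w

theorem s_70_46 [CharP K 2] (t u : K) (w : GL chevE6.Idx K) : x 70 u * (x 46 t * w) = x 46 t * (x 70 u * (x 71 (t * u) * w)) :=
  sw_one (ε := 1) (by decide +kernel) t u w

theorem s_71_46 (t u : K) (w : GL chevE6.Idx K) : x 71 u * (x 46 t * w) = x 46 t * (x 71 u * w) :=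
  sw_nil (by decide +kernel) t u w

theorem s_48_47 (t u : K) (w : GL chevE6.Idx K) : x 48 u * (x 47 t * w) = x 47 t * (x 48 u * w) :=
  sw_nil (by decide +kernel) t u w

theorem s_49_47 (t u : K) (w : GL chevE6.Idx K) : x 49 u * (x 47 t * w) = x 47 t * (x 49 u * w) :=
  sw_nil (by decide +kernel) t u w

theorem s_50_47 (t u : K) (w : GL chevE6.Idx K) : x 50 u * (x 47 t * w) = x 47 t * (x 50 u * w) :=
  sw_nil (by decide +kernel) t u w

theorem s_51_47 (t u : K) (w : GL chevE6.Idx K) : x 51 u * (x 47 t * w) = x 47 t * (x 51 u * w) :=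
  sw_nil (by decide +kernel) t u w

theorem s_52_47 (t u : K) (w : GL chevE6.Idx K) : x 52 u * (x 47 t * w) = x 47 t * (x 52 u * w) :=
  sw_nil (by decide +kernel) t u w

theorem s_53_47 (t u : K) (w : GL chevE6.Idx K) : x 53 u * (x 47 t * w) = x 47 t * (x 53 u * w) :=
  sw_nil (by decide +kernel) t u w

theorem s_54_47 (t u : K) (w : GL chevE6.Idx K) : x 54 u * (x 47 t * w) = x 47 t * (x 54 u * w) :=
  sw_nil (by decide +kernel) t u w

theorem s_55_47 (t u : K) (w : GL chevE6.Idx K) : x 55 u * (x 47 t * w) = x 47 t * (x 55 u * w) :=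
  sw_nil (by decide +kernel) t u w

theorem s_56_47 (t u : K) (w : GL chevE6.Idx K) : x 56 u * (x 47 t * w) = x 47 t * (x 56 u * w) :=
  sw_nil (by decide +kernel) t u w

theorem s_57_47 [CharP K 2] (t u : K) (w : GL chevE6.Idx K) : x 57 u * (x 47 t * w) = x 47 t * (x 57 u * (x 61 (t * u) * w)) :=
  sw_one (ε := -1) (by decide +kernel) t u w

theorem s_58_47 (t u : K) (w : GL chevE6.Idx K) : x 58 u * (x 47 t * w) = x 47 t * (x 58 u * w) :=
  sw_nil (by decide +kernel) t u w

theorem s_59_47 [CharP K 2] (t u : K) (w : GL chevE6.Idx K) : x 59 u * (x 47 t * w) = x 47 t * (x 59 u * (x 64 (t * u) * w)) :=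
  sw_one (ε := 1) (by decide +kernel) t u w

theorem s_60_47 [CharP K 2] (t u : K) (w : GL chevE6.Idx K) : x 60 u * (x 47 t * w) = x 47 t * (x 60 u * (x 65 (t * u) * w)) :=
  sw_one (ε := 1) (by decide +kernel) t u w

theorem s_61_47 (t u : K) (w : GL chevE6.Idx K) : x 61 u * (x 47 t * w) = x 47 t * (x 61 u * w) :=
  sw_nil (by decide +kernel) t u w

theorem s_62_47 (t u : K) (w : GL chevE6.Idx K) : x 62 u * (x 47 t * w) = x 47 t * (x 62 u * w) :=
  sw_nil (by decide +kernel) t u w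

theorem s_63_47 (t u : K) (w : GL chevE6.Idx K) : x 63 u * (x 47 t * w) = x 47 t * (x 63 u * w) :=
  sw_nil (by decide +kernel) t u w

theorem s_64_47 (t u : K) (w : GL chevE6.Idx K) : x 64 u * (x 47 t * w) = x 47 t * (x 64 u * w) :=
  sw_nil (by decide +kernel) t u w

theorem s_65_47 (t u : K) (w : GL chevE6.Idx K) : x 65 u * (x 47 t * w) = x 47 t * (x 65 u * w) :=
  sw_nil (by decide +kernel) t u w

theorem s_66_47 (t u : K) (w : GL chevE6.Idx K) : x 66 u * (x 47 t * w) = x 47 t * (x 66 u * w) :=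
  sw_nil (by decide +kernel) t u w

theorem s_67_47 (t u : K) (w : GL chevE6.Idx K) : x 67 u * (x 47 t * w) = x 47 t * (x 67 u * w) :=
  sw_nil (by decide +kernel) t u w

theorem s_68_47 (t u : K) (w : GL chevE6.Idx K) : x 68 u * (x 47 t * w) = x 47 t * (x 68 u * w) :=
  sw_nil (by decide +kernel) t u w

theorem s_69_47 [CharP K 2] (t u : K) (w : GL chevE6.Idx K) : x 69 u * (x 47 t * w) = x 47 t * (x 69 u * (x 71 (t * u) * w)) :=
  sw_one (ε := -1) (by decide +kernel) t u w

theorem s_70_47 (t u : K) (w : GL chevE6.Idx K) : x 70 u * (x 47 t * w) = x 47 t * (x 70 u * w) :=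
  sw_nil (by decide +kernel) t u w

theorem s_71_47 (t u : K) (w : GL chevE6.Idx K) : x 71 u * (x 47 t * w) = x 47 t * (x 71 u * w) :=
  sw_nil (by decide +kernel) t u w

theorem s_49_48 (t u : K) (w : GL chevE6.Idx K) : x 49 u * (x 48 t * w) = x 48 t * (x 49 u * w) :=
  sw_nil (by decide +kernel) t u w

theorem s_50_48 (t u : K) (w : GL chevE6.Idx K) : x 50 u * (x 48 t * w) = x 48 t * (x 50 u * w) :=
  sw_nil (by decide +kernel) t u w

theorem s_51_48 (t u : K) (w : GL chevE6.Idx K) : x 51 u * (x 48 t * w) = x 48 t * (x 51 u * w) :=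
  sw_nil (by decide +kernel) t u w

theorem s_52_48 (t u : K) (w : GL chevE6.Idx K) : x 52 u * (x 48 t * w) = x 48 t * (x 52 u * w) :=
  sw_nil (by decide +kernel) t u w

theorem s_53_48 (t u : K) (w : GL chevE6.Idx K) : x 53 u * (x 48 t * w) = x 48 t * (x 53 u * w) :=
  sw_nil (by decide +kernel) t u w

theorem s_54_48 (t u : K) (w : GL chevE6.Idx K) : x 54 u * (x 48 t * w) = x 48 t * (x 54 u * w) :=
  sw_nil (by decide +kernel) t u w

theorem s_55_48 (t u : K) (w : GL chevE6.Idx K) : x 55 u * (x 48 t * w) = x 48 t * (x 55 u * w) :=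
  sw_nil (by decide +kernel) t u w

theorem s_56_48 (t u : K) (w : GL chevE6.Idx K) : x 56 u * (x 48 t * w) = x 48 t * (x 56 u * w) :=
  sw_nil (by decide +kernel) t u w

theorem s_57_48 [CharP K 2] (t u : K) (w : GL chevE6.Idx K) : x 57 u * (x 48 t * w) = x 48 t * (x 57 u * (x 62 (t * u) * w)) :=
  sw_one (ε := -1) (by decide +kernel) t u w

theorem s_58_48 [CharP K 2] (t u : K) (w : GL chevE6.Idx K) : x 58 u * (x 48 t * w) = x 48 t * (x 58 u * (x 64 (t * u) * w)) :=
  sw_one (ε := -1) (by decide +kernel) t u w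

theorem s_59_48 (t u : K) (w : GL chevE6.Idx K) : x 59 u * (x 48 t * w) = x 48 t * (x 59 u * w) :=
  sw_nil (by decide +kernel) t u w

theorem s_60_48 [CharP K 2] (t u : K) (w : GL chevE6.Idx K) : x 60 u * (x 48 t * w) = x 48 t * (x 60 u * (x 66 (t * u) * w)) :=
  sw_one (ε := 1) (by decide +kernel) t u w

theorem s_61_48 (t u : K) (w : GL chevE6.Idx K) : x 61 u * (x 48 t * w) = x 48 t * (x 61 u * w) :=
  sw_nil (by decide +kernel) t u w

theorem s_62_48 (t u : K) (w : GL chevE6.Idx K) : x 62 u * (x 48 t * w) = x 48 t * (x 62 u * w) :=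
  sw_nil (by decide +kernel) t u w

theorem s_63_48 (t u : K) (w : GL chevE6.Idx K) : x 63 u * (x 48 t * w) = x 48 t * (x 63 u * w) :=
  sw_nil (by decide +kernel) t u w

theorem s_64_48 (t u : K) (w : GL chevE6.Idx K) : x 64 u * (x 48 t * w) = x 48 t * (x 64 u * w) :=
  sw_nil (by decide +kernel) t u w

theorem s_65_48 (t u : K) (w : GL chevE6.Idx K) : x 65 u * (x 48 t * w) = x 48 t * (x 65 u * w) :=
  sw_nil (by decide +kernel) t u w

theorem s_66_48 (t u : K) (w : GL chevE6.Idx K) : x 66 u * (x 48 t * w) = x 48 t * (x 66 u * w) :=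
  sw_nil (by decide +kernel) t u w

theorem s_67_48 (t u : K) (w : GL chevE6.Idx K) : x 67 u * (x 48 t * w) = x 48 t * (x 67 u * w) :=
  sw_nil (by decide +kernel) t u w

theorem s_68_48 [CharP K 2] (t u : K) (w : GL chevE6.Idx K) : x 68 u * (x 48 t * w) = x 48 t * (x 68 u * (x 71 (t * u) * w)) :=
  sw_one (ε := 1) (by decide +kernel) t u w

theorem s_69_48 (t u : K) (w : GL chevE6.Idx K) : x 69 u * (x 48 t * w) = x 48 t * (x 69 u * w) :=
  sw_nil (by decide +kernel) t u w

theorem s_70_48 (t u : K) (w : GL chevE6.Idx K) : x 70 u * (x 48 t * w) = x 48 t * (x 70 u * w) :=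
  sw_nil (by decide +kernel) t u w

theorem s_71_48 (t u : K) (w : GL chevE6.Idx K) : x 71 u * (x 48 t * w) = x 48 t * (x 71 u * w) :=
  sw_nil (by decide +kernel) t u w

theorem s_50_49 (t u : K) (w : GL chevE6.Idx K) : x 50 u * (x 49 t * w) = x 49 t * (x 50 u * w) :=
  sw_nil (by decide +kernel) t u w

theorem s_51_49 (t u : K) (w : GL chevE6.Idx K) : x 51 u * (x 49 t * w) = x 49 t * (x 51 u * w) :=
  sw_nil (by decide +kernel) t u w

theorem s_52_49 (t u : K) (w : GL chevE6.Idx K) : x 52 u * (x 49 t * w) = x 49 t * (x 52 u * w) :=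
  sw_nil (by decide +kernel) t u w

theorem s_53_49 (t u : K) (w : GL chevE6.Idx K) : x 53 u * (x 49 t * w) = x 49 t * (x 53 u * w) :=
  sw_nil (by decide +kernel) t u w

theorem s_54_49 (t u : K) (w : GL chevE6.Idx K) : x 54 u * (x 49 t * w) = x 49 t * (x 54 u * w) :=
  sw_nil (by decide +kernel) t u w

theorem s_55_49 (t u : K) (w : GL chevE6.Idx K) : x 55 u * (x 49 t * w) = x 49 t * (x 55 u * w) :=
  sw_nil (by decide +kernel) t u w

theorem s_56_49 (t u : K) (w : GL chevE6.Idx K) : x 56 u * (x 49 t * w) = x 49 t * (x 56 u * w) :=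
  sw_nil (by decide +kernel) t u w

theorem s_57_49 [CharP K 2] (t u : K) (w : GL chevE6.Idx K) : x 57 u * (x 49 t * w) = x 49 t * (x 57 u * (x 63 (t * u) * w)) :=
  sw_one (ε := -1) (by decide +kernel) t u w

theorem s_58_49 [CharP K 2] (t u : K) (w : GL chevE6.Idx K) : x 58 u * (x 49 t * w) = x 49 t * (x 58 u * (x 65 (t * u) * w)) :=
  sw_one (ε := -1) (by decide +kernel) t u w

theorem s_59_49 [CharP K 2] (t u : K) (w : GL chevE6.Idx K) : x 59 u * (x 49 t * w) = x 49 t * (x 59 u * (x 66 (t * u) * w)) :=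
  sw_one (ε := -1) (by decide +kernel) t u w

theorem s_60_49 (t u : K) (w : GL chevE6.Idx K) : x 60 u * (x 49 t * w) = x 49 t * (x 60 u * w) :=
  sw_nil (by decide +kernel) t u w

theorem s_61_49 (t u : K) (w : GL chevE6.Idx K) : x 61 u * (x 49 t * w) = x 49 t * (x 61 u * w) :=
  sw_nil (by decide +kernel) t u w

theorem s_62_49 (t u : K) (w : GL chevE6.Idx K) : x 62 u * (x 49 t * w) = x 49 t * (x 62 u * w) :=
  sw_nil (by decide +kernel) t u w

theorem s_63_49 (t u : K) (w : GL chevE6.Idx K) : x 63 u * (x 49 t * w) = x 49 t * (x 63 u * w) :=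
  sw_nil (by decide +kernel) t u w

theorem s_64_49 (t u : K) (w : GL chevE6.Idx K) : x 64 u * (x 49 t * w) = x 49 t * (x 64 u * w) :=
  sw_nil (by decide +kernel) t u w

theorem s_65_49 (t u : K) (w : GL chevE6.Idx K) : x 65 u * (x 49 t * w) = x 49 t * (x 65 u * w) :=
  sw_nil (by decide +kernel) t u w

theorem s_66_49 (t u : K) (w : GL chevE6.Idx K) : x 66 u * (x 49 t * w) = x 49 t * (x 66 u * w) :=
  sw_nil (by decide +kernel) t u w

theorem s_67_49 [CharP K 2] (t u : K) (w : GL chevE6.Idx K) : x 67 u * (x 49 t * w) = x 49 t * (x 67 u * (x 71 (t * u) * w)) :=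
  sw_one (ε := -1) (by decide +kernel) t u w

theorem s_68_49 (t u : K) (w : GL chevE6.Idx K) : x 68 u * (x 49 t * w) = x 49 t * (x 68 u * w) :=
  sw_nil (by decide +kernel) t u w

theorem s_69_49 (t u : K) (w : GL chevE6.Idx K) : x 69 u * (x 49 t * w) = x 49 t * (x 69 u * w) :=
  sw_nil (by decide +kernel) t u w

theorem s_70_49 (t u : K) (w : GL chevE6.Idx K) : x 70 u * (x 49 t * w) = x 49 t * (x 70 u * w) :=
  sw_nil (by decide +kernel) t u w

theorem s_71_49 (t u : K) (w : GL chevE6.Idx K) : x 71 u * (x 49 t * w) = x 49 t * (x 71 u * w) :=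
  sw_nil (by decide +kernel) t u w

theorem s_51_50 (t u : K) (w : GL chevE6.Idx K) : x 51 u * (x 50 t * w) = x 50 t * (x 51 u * w) :=
  sw_nil (by decide +kernel) t u w

theorem s_52_50 (t u : K) (w : GL chevE6.Idx K) : x 52 u * (x 50 t * w) = x 50 t * (x 52 u * w) :=
  sw_nil (by decide +kernel) t u w

theorem s_53_50 (t u : K) (w : GL chevE6.Idx K) : x 53 u * (x 50 t * w) = x 50 t * (x 53 u * w) :=
  sw_nil (by decide +kernel) t u w

theorem s_54_50 (t u : K) (w : GL chevE6.Idx K) : x 54 u * (x 50 t * w) = x 50 t * (x 54 u * w) :=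
  sw_nil (by decide +kernel) t u w

theorem s_55_50 (t u : K) (w : GL chevE6.Idx K) : x 55 u * (x 50 t * w) = x 50 t * (x 55 u * w) :=
  sw_nil (by decide +kernel) t u w

theorem s_56_50 [CharP K 2] (t u : K) (w : GL chevE6.Idx K) : x 56 u * (x 50 t * w) = x 50 t * (x 56 u * (x 61 (t * u) * w)) :=
  sw_one (ε := 1) (by decide +kernel) t u w

theorem s_57_50 (t u : K) (w : GL chevE6.Idx K) : x 57 u * (x 50 t * w) = x 50 t * (x 57 u * w) :=
  sw_nil (by decide +kernel) t u w

theorem s_58_50 (t u : K) (w : GL chevE6.Idx K) : x 58 u * (x 50 t * w) = x 50 t * (x 58 u * w) :=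
  sw_nil (by decide +kernel) t u w

theorem s_59_50 [CharP K 2] (t u : K) (w : GL chevE6.Idx K) : x 59 u * (x 50 t * w) = x 50 t * (x 59 u * (x 67 (t * u) * w)) :=
  sw_one (ε := 1) (by decide +kernel) t u w

theorem s_60_50 [CharP K 2] (t u : K) (w : GL chevE6.Idx K) : x 60 u * (x 50 t * w) = x 50 t * (x 60 u * (x 68 (t * u) * w)) :=
  sw_one (ε := 1) (by decide +kernel) t u w

theorem s_61_50 (t u : K) (w : GL chevE6.Idx K) : x 61 u * (x 50 t * w) = x 50 t * (x 61 u * w) :=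
  sw_nil (by decide +kernel) t u w

theorem s_62_50 (t u : K) (w : GL chevE6.Idx K) : x 62 u * (x 50 t * w) = x 50 t * (x 62 u * w) :=
  sw_nil (by decide +kernel) t u w

theorem s_63_50 (t u : K) (w : GL chevE6.Idx K) : x 63 u * (x 50 t * w) = x 50 t * (x 63 u * w) :=
  sw_nil (by decide +kernel) t u w

theorem s_64_50 (t u : K) (w : GL chevE6.Idx K) : x 64 u * (x 50 t * w) = x 50 t * (x 64 u * w) :=
  sw_nil (by decide +kernel) t u w

theorem s_65_50 (t u : K) (w : GL chevE6.Idx K) : x 65 u * (x 50 t * w) = x 50 t * (x 65 u * w) :=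
  sw_nil (by decide +kernel) t u w

theorem s_66_50 [CharP K 2] (t u : K) (w : GL chevE6.Idx K) : x 66 u * (x 50 t * w) = x 50 t * (x 66 u * (x 71 (t * u) * w)) :=
  sw_one (ε := 1) (by decide +kernel) t u w

theorem s_67_50 (t u : K) (w : GL chevE6.Idx K) : x 67 u * (x 50 t * w) = x 50 t * (x 67 u * w) :=
  sw_nil (by decide +kernel) t u w

theorem s_68_50 (t u : K) (w : GL chevE6.Idx K) : x 68 u * (x 50 t * w) = x 50 t * (x 68 u * w) :=
  sw_nil (by decide +kernel) t u w

theorem s_69_50 (t u : K) (w : GL chevE6.Idx K) : x 69 u * (x 50 t * w) = x 50 t * (x 69 u * w) :=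
  sw_nil (by decide +kernel) t u w

theorem s_70_50 (t u : K) (w : GL chevE6.Idx K) : x 70 u * (x 50 t * w) = x 50 t * (x 70 u * w) :=
  sw_nil (by decide +kernel) t u w

theorem s_71_50 (t u : K) (w : GL chevE6.Idx K) : x 71 u * (x 50 t * w) = x 50 t * (x 71 u * w) :=
  sw_nil (by decide +kernel) t u w

theorem s_52_51 (t u : K) (w : GL chevE6.Idx K) : x 52 u * (x 51 t * w) = x 51 t * (x 52 u * w) :=
  sw_nil (by decide +kernel) t u w

theorem s_53_51 (t u : K) (w : GL chevE6.Idx K) : x 53 u * (x 51 t * w) = x 51 t * (x 53 u * w) :=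
  sw_nil (by decide +kernel) t u w

theorem s_54_51 (t u : K) (w : GL chevE6.Idx K) : x 54 u * (x 51 t * w) = x 51 t * (x 54 u * w) :=
  sw_nil (by decide +kernel) t u w

theorem s_55_51 (t u : K) (w : GL chevE6.Idx K) : x 55 u * (x 51 t * w) = x 51 t * (x 55 u * w) :=
  sw_nil (by decide +kernel) t u w

theorem s_56_51 [CharP K 2] (t u : K) (w : GL chevE6.Idx K) : x 56 u * (x 51 t * w) = x 51 t * (x 56 u * (x 62 (t * u) * w)) :=
  sw_one (ε := 1) (by decide +kernel) t u w

theorem s_57_51 (t u : K) (w : GL chevE6.Idx K) : x 57 u * (x 51 t * w) = x 51 t * (x 57 u * w) :=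
  sw_nil (by decide +kernel) t u w

theorem s_58_51 [CharP K 2] (t u : K) (w : GL chevE6.Idx K) : x 58 u * (x 51 t * w) = x 51 t * (x 58 u * (x 67 (t * u) * w)) :=
  sw_one (ε := -1) (by decide +kernel) t u w

theorem s_59_51 (t u : K) (w : GL chevE6.Idx K) : x 59 u * (x 51 t * w) = x 51 t * (x 59 u * w) :=
  sw_nil (by decide +kernel) t u w

theorem s_60_51 [CharP K 2] (t u : K) (w : GL chevE6.Idx K) : x 60 u * (x 51 t * w) = x 51 t * (x 60 u * (x 69 (t * u) * w)) :=
  sw_one (ε := 1) (by decide +kernel) t u w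

theorem s_61_51 (t u : K) (w : GL chevE6.Idx K) : x 61 u * (x 51 t * w) = x 51 t * (x 61 u * w) :=
  sw_nil (by decide +kernel) t u w

theorem s_62_51 (t u : K) (w : GL chevE6.Idx K) : x 62 u * (x 51 t * w) = x 51 t * (x 62 u * w) :=
  sw_nil (by decide +kernel) t u w

theorem s_63_51 (t u : K) (w : GL chevE6.Idx K) : x 63 u * (x 51 t * w) = x 51 t * (x 63 u * w) :=
  sw_nil (by decide +kernel) t u w

theorem s_64_51 (t u : K) (w : GL chevE6.Idx K) : x 64 u * (x 51 t * w) = x 51 t * (x 64 u * w) :=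
  sw_nil (by decide +kernel) t u w

theorem s_65_51 [CharP K 2] (t u : K) (w : GL chevE6.Idx K) : x 65 u * (x 51 t * w) = x 51 t * (x 65 u * (x 71 (t * u) * w)) :=
  sw_one (ε := -1) (by decide +kernel) t u w

theorem s_66_51 (t u : K) (w : GL chevE6.Idx K) : x 66 u * (x 51 t * w) = x 51 t * (x 66 u * w) :=
  sw_nil (by decide +kernel) t u w

theorem s_67_51 (t u : K) (w : GL chevE6.Idx K) : x 67 u * (x 51 t * w) = x 51 t * (x 67 u * w) :=
  sw_nil (by decide +kernel) t u w

theorem s_68_51 (t u : K) (w : GL chevE6.Idx K) : x 68 u * (x 51 t * w) = x 51 t * (x 68 u * w) :=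
  sw_nil (by decide +kernel) t u w

theorem s_69_51 (t u : K) (w : GL chevE6.Idx K) : x 69 u * (x 51 t * w) = x 51 t * (x 69 u * w) :=
  sw_nil (by decide +kernel) t u w

theorem s_70_51 (t u : K) (w : GL chevE6.Idx K) : x 70 u * (x 51 t * w) = x 51 t * (x 70 u * w) :=
  sw_nil (by decide +kernel) t u w

theorem s_71_51 (t u : K) (w : GL chevE6.Idx K) : x 71 u * (x 51 t * w) = x 51 t * (x 71 u * w) :=
  sw_nil (by decide +kernel) t u w

theorem s_53_52 (t u : K) (w : GL chevE6.Idx K) : x 53 u * (x 52 t * w) = x 52 t * (x 53 u * w) :=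
  sw_nil (by decide +kernel) t u w

theorem s_54_52 (t u : K) (w : GL chevE6.Idx K) : x 54 u * (x 52 t * w) = x 52 t * (x 54 u * w) :=
  sw_nil (by decide +kernel) t u w

theorem s_55_52 (t u : K) (w : GL chevE6.Idx K) : x 55 u * (x 52 t * w) = x 52 t * (x 55 u * w) :=
  sw_nil (by decide +kernel) t u w

theorem s_56_52 [CharP K 2] (t u : K) (w : GL chevE6.Idx K) : x 56 u * (x 52 t * w) = x 52 t * (x 56 u * (x 63 (t * u) * w)) :=
  sw_one (ε := 1) (by decide +kernel) t u w

theorem s_57_52 (t u : K) (w : GL chevE6.Idx K) : x 57 u * (x 52 t * w) = x 52 t * (x 57 u * w) :=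
  sw_nil (by decide +kernel) t u w

theorem s_58_52 [CharP K 2] (t u : K) (w : GL chevE6.Idx K) : x 58 u * (x 52 t * w) = x 52 t * (x 58 u * (x 68 (t * u) * w)) :=
  sw_one (ε := -1) (by decide +kernel) t u w

theorem s_59_52 [CharP K 2] (t u : K) (w : GL chevE6.Idx K) : x 59 u * (x 52 t * w) = x 52 t * (x 59 u * (x 69 (t * u) * w)) :=
  sw_one (ε := -1) (by decide +kernel) t u w

theorem s_60_52 (t u : K) (w : GL chevE6.Idx K) : x 60 u * (x 52 t * w) = x 52 t * (x 60 u * w) :=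
  sw_nil (by decide +kernel) t u w

theorem s_61_52 (t u : K) (w : GL chevE6.Idx K) : x 61 u * (x 52 t * w) = x 52 t * (x 61 u * w) :=
  sw_nil (by decide +kernel) t u w

theorem s_62_52 (t u : K) (w : GL chevE6.Idx K) : x 62 u * (x 52 t * w) = x 52 t * (x 62 u * w) :=
  sw_nil (by decide +kernel) t u w

theorem s_63_52 (t u : K) (w : GL chevE6.Idx K) : x 63 u * (x 52 t * w) = x 52 t * (x 63 u * w) :=
  sw_nil (by decide +kernel) t u w

theorem s_64_52 [CharP K 2] (t u : K) (w : GL chevE6.Idx K) : x 64 u * (x 52 t * w) = x 52 t * (x 64 u * (x 71 (t * u) * w)) :=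
  sw_one (ε := 1) (by decide +kernel) t u w

theorem s_65_52 (t u : K) (w : GL chevE6.Idx K) : x 65 u * (x 52 t * w) = x 52 t * (x 65 u * w) :=
  sw_nil (by decide +kernel) t u w

theorem s_66_52 (t u : K) (w : GL chevE6.Idx K) : x 66 u * (x 52 t * w) = x 52 t * (x 66 u * w) :=
  sw_nil (by decide +kernel) t u w

theorem s_67_52 (t u : K) (w : GL chevE6.Idx K) : x 67 u * (x 52 t * w) = x 52 t * (x 67 u * w) :=
  sw_nil (by decide +kernel) t u w

theorem s_68_52 (t u : K) (w : GL chevE6.Idx K) : x 68 u * (x 52 t * w) = x 52 t * (x 68 u * w) :=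
  sw_nil (by decide +kernel) t u w

theorem s_69_52 (t u : K) (w : GL chevE6.Idx K) : x 69 u * (x 52 t * w) = x 52 t * (x 69 u * w) :=
  sw_nil (by decide +kernel) t u w

theorem s_70_52 (t u : K) (w : GL chevE6.Idx K) : x 70 u * (x 52 t * w) = x 52 t * (x 70 u * w) :=
  sw_nil (by decide +kernel) t u w

theorem s_71_52 (t u : K) (w : GL chevE6.Idx K) : x 71 u * (x 52 t * w) = x 52 t * (x 71 u * w) :=
  sw_nil (by decide +kernel) t u w

theorem s_54_53 (t u : K) (w : GL chevE6.Idx K) : x 54 u * (x 53 t * w) = x 53 t * (x 54 u * w) :=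
  sw_nil (by decide +kernel) t u w

theorem s_55_53 (t u : K) (w : GL chevE6.Idx K) : x 55 u * (x 53 t * w) = x 53 t * (x 55 u * w) :=
  sw_nil (by decide +kernel) t u w

theorem s_56_53 [CharP K 2] (t u : K) (w : GL chevE6.Idx K) : x 56 u * (x 53 t * w) = x 53 t * (x 56 u * (x 64 (t * u) * w)) :=
  sw_one (ε := 1) (by decide +kernel) t u w

theorem s_57_53 [CharP K 2] (t u : K) (w : GL chevE6.Idx K) : x 57 u * (x 53 t * w) = x 53 t * (x 57 u * (x 67 (t * u) * w)) :=
  sw_one (ε := 1) (by decide +kernel) t u w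

theorem s_58_53 (t u : K) (w : GL chevE6.Idx K) : x 58 u * (x 53 t * w) = x 53 t * (x 58 u * w) :=
  sw_nil (by decide +kernel) t u w

theorem s_59_53 (t u : K) (w : GL chevE6.Idx K) : x 59 u * (x 53 t * w) = x 53 t * (x 59 u * w) :=
  sw_nil (by decide +kernel) t u w

theorem s_60_53 [CharP K 2] (t u : K) (w : GL chevE6.Idx K) : x 60 u * (x 53 t * w) = x 53 t * (x 60 u * (x 70 (t * u) * w)) :=
  sw_one (ε := 1) (by decide +kernel) t u w

theorem s_61_53 (t u : K) (w : GL chevE6.Idx K) : x 61 u * (x 53 t * w) = x 53 t * (x 61 u * w) :=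
  sw_nil (by decide +kernel) t u w

theorem s_62_53 (t u : K) (w : GL chevE6.Idx K) : x 62 u * (x 53 t * w) = x 53 t * (x 62 u * w) :=
  sw_nil (by decide +kernel) t u w

theorem s_63_53 [CharP K 2] (t u : K) (w : GL chevE6.Idx K) : x 63 u * (x 53 t * w) = x 53 t * (x 63 u * (x 71 (t * u) * w)) :=
  sw_one (ε := 1) (by decide +kernel) t u w

theorem s_64_53 (t u : K) (w : GL chevE6.Idx K) : x 64 u * (x 53 t * w) = x 53 t * (x 64 u * w) :=
  sw_nil (by decide +kernel) t u w

theorem s_65_53 (t u : K) (w : GL chevE6.Idx K) : x 65 u * (x 53 t * w) = x 53 t * (x 65 u * w) :=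
  sw_nil (by decide +kernel) t u w

theorem s_66_53 (t u : K) (w : GL chevE6.Idx K) : x 66 u * (x 53 t * w) = x 53 t * (x 66 u * w) :=
  sw_nil (by decide +kernel) t u w

theorem s_67_53 (t u : K) (w : GL chevE6.Idx K) : x 67 u * (x 53 t * w) = x 53 t * (x 67 u * w) :=
  sw_nil (by decide +kernel) t u w

theorem s_68_53 (t u : K) (w : GL chevE6.Idx K) : x 68 u * (x 53 t * w) = x 53 t * (x 68 u * w) :=
  sw_nil (by decide +kernel) t u w

theorem s_69_53 (t u : K) (w : GL chevE6.Idx K) : x 69 u * (x 53 t * w) = x 53 t * (x 69 u * w) :=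
  sw_nil (by decide +kernel) t u w

theorem s_70_53 (t u : K) (w : GL chevE6.Idx K) : x 70 u * (x 53 t * w) = x 53 t * (x 70 u * w) :=
  sw_nil (by decide +kernel) t u w

theorem s_71_53 (t u : K) (w : GL chevE6.Idx K) : x 71 u * (x 53 t * w) = x 53 t * (x 71 u * w) :=
  sw_nil (by decide +kernel) t u w

theorem s_55_54 (t u : K) (w : GL chevE6.Idx K) : x 55 u * (x 54 t * w) = x 54 t * (x 55 u * w) :=
  sw_nil (by decide +kernel) t u w

theorem s_56_54 [CharP K 2] (t u : K) (w : GL chevE6.Idx K) : x 56 u * (x 54 t * w) = x 54 t * (x 56 u * (x 65 (t * u) * w)) :=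
  sw_one (ε := 1) (by decide +kernel) t u w

theorem s_57_54 [CharP K 2] (t u : K) (w : GL chevE6.Idx K) : x 57 u * (x 54 t * w) = x 54 t * (x 57 u * (x 68 (t * u) * w)) :=
  sw_one (ε := 1) (by decide +kernel) t u w

theorem s_58_54 (t u : K) (w : GL chevE6.Idx K) : x 58 u * (x 54 t * w) = x 54 t * (x 58 u * w) :=
  sw_nil (by decide +kernel) t u w

theorem s_59_54 [CharP K 2] (t u : K) (w : GL chevE6.Idx K) : x 59 u * (x 54 t * w) = x 54 t * (x 59 u * (x 70 (t * u) * w)) :=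
  sw_one (ε := -1) (by decide +kernel) t u w

theorem s_60_54 (t u : K) (w : GL chevE6.Idx K) : x 60 u * (x 54 t * w) = x 54 t * (x 60 u * w) :=
  sw_nil (by decide +kernel) t u w

theorem s_61_54 (t u : K) (w : GL chevE6.Idx K) : x 61 u * (x 54 t * w) = x 54 t * (x 61 u * w) :=
  sw_nil (by decide +kernel) t u w

theorem s_62_54 [CharP K 2] (t u : K) (w : GL chevE6.Idx K) : x 62 u * (x 54 t * w) = x 54 t * (x 62 u * (x 71 (t * u) * w)) :=
  sw_one (ε := -1) (by decide +kernel) t u w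

theorem s_63_54 (t u : K) (w : GL chevE6.Idx K) : x 63 u * (x 54 t * w) = x 54 t * (x 63 u * w) :=
  sw_nil (by decide +kernel) t u w

theorem s_64_54 (t u : K) (w : GL chevE6.Idx K) : x 64 u * (x 54 t * w) = x 54 t * (x 64 u * w) :=
  sw_nil (by decide +kernel) t u w

theorem s_65_54 (t u : K) (w : GL chevE6.Idx K) : x 65 u * (x 54 t * w) = x 54 t * (x 65 u * w) :=
  sw_nil (by decide +kernel) t u w

theorem s_66_54 (t u : K) (w : GL chevE6.Idx K) : x 66 u * (x 54 t * w) = x 54 t * (x 66 u * w) :=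
  sw_nil (by decide +kernel) t u w

theorem s_67_54 (t u : K) (w : GL chevE6.Idx K) : x 67 u * (x 54 t * w) = x 54 t * (x 67 u * w) :=
  sw_nil (by decide +kernel) t u w

theorem s_68_54 (t u : K) (w : GL chevE6.Idx K) : x 68 u * (x 54 t * w) = x 54 t * (x 68 u * w) :=
  sw_nil (by decide +kernel) t u w

theorem s_69_54 (t u : K) (w : GL chevE6.Idx K) : x 69 u * (x 54 t * w) = x 54 t * (x 69 u * w) :=
  sw_nil (by decide +kernel) t u w

theorem s_70_54 (t u : K) (w : GL chevE6.Idx K) : x 70 u * (x 54 t * w) = x 54 t * (x 70 u * w) :=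
  sw_nil (by decide +kernel) t u w

theorem s_71_54 (t u : K) (w : GL chevE6.Idx K) : x 71 u * (x 54 t * w) = x 54 t * (x 71 u * w) :=
  sw_nil (by decide +kernel) t u w

theorem s_56_55 [CharP K 2] (t u : K) (w : GL chevE6.Idx K) : x 56 u * (x 55 t * w) = x 55 t * (x 56 u * (x 66 (t * u) * w)) :=
  sw_one (ε := 1) (by decide +kernel) t u w

theorem s_57_55 [CharP K 2] (t u : K) (w : GL chevE6.Idx K) : x 57 u * (x 55 t * w) = x 55 t * (x 57 u * (x 69 (t * u) * w)) :=
  sw_one (ε := 1) (by decide +kernel) t u w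

theorem s_58_55 [CharP K 2] (t u : K) (w : GL chevE6.Idx K) : x 58 u * (x 55 t * w) = x 55 t * (x 58 u * (x 70 (t * u) * w)) :=
  sw_one (ε := 1) (by decide +kernel) t u w

theorem s_59_55 (t u : K) (w : GL chevE6.Idx K) : x 59 u * (x 55 t * w) = x 55 t * (x 59 u * w) :=
  sw_nil (by decide +kernel) t u w

theorem s_60_55 (t u : K) (w : GL chevE6.Idx K) : x 60 u * (x 55 t * w) = x 55 t * (x 60 u * w) :=
  sw_nil (by decide +kernel) t u w

theorem s_61_55 [CharP K 2] (t u : K) (w : GL chevE6.Idx K) : x 61 u * (x 55 t * w) = x 55 t * (x 61 u * (x 71 (t * u) * w)) :=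
  sw_one (ε := 1) (by decide +kernel) t u w

theorem s_62_55 (t u : K) (w : GL chevE6.Idx K) : x 62 u * (x 55 t * w) = x 55 t * (x 62 u * w) :=
  sw_nil (by decide +kernel) t u w

theorem s_63_55 (t u : K) (w : GL chevE6.Idx K) : x 63 u * (x 55 t * w) = x 55 t * (x 63 u * w) :=
  sw_nil (by decide +kernel) t u w

theorem s_64_55 (t u : K) (w : GL chevE6.Idx K) : x 64 u * (x 55 t * w) = x 55 t * (x 64 u * w) :=
  sw_nil (by decide +kernel) t u w

theorem s_65_55 (t u : K) (w : GL chevE6.Idx K) : x 65 u * (x 55 t * w) = x 55 t * (x 65 u * w) :=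
  sw_nil (by decide +kernel) t u w

theorem s_66_55 (t u : K) (w : GL chevE6.Idx K) : x 66 u * (x 55 t * w) = x 55 t * (x 66 u * w) :=
  sw_nil (by decide +kernel) t u w

theorem s_67_55 (t u : K) (w : GL chevE6.Idx K) : x 67 u * (x 55 t * w) = x 55 t * (x 67 u * w) :=
  sw_nil (by decide +kernel) t u w

theorem s_68_55 (t u : K) (w : GL chevE6.Idx K) : x 68 u * (x 55 t * w) = x 55 t * (x 68 u * w) :=
  sw_nil (by decide +kernel) t u w

theorem s_69_55 (t u : K) (w : GL chevE6.Idx K) : x 69 u * (x 55 t * w) = x 55 t * (x 69 u * w) :=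
  sw_nil (by decide +kernel) t u w

theorem s_70_55 (t u : K) (w : GL chevE6.Idx K) : x 70 u * (x 55 t * w) = x 55 t * (x 70 u * w) :=
  sw_nil (by decide +kernel) t u w

theorem s_71_55 (t u : K) (w : GL chevE6.Idx K) : x 71 u * (x 55 t * w) = x 55 t * (x 71 u * w) :=
  sw_nil (by decide +kernel) t u w

theorem s_57_56 (t u : K) (w : GL chevE6.Idx K) : x 57 u * (x 56 t * w) = x 56 t * (x 57 u * w) :=
  sw_nil (by decide +kernel) t u w

theorem s_58_56 (t u : K) (w : GL chevE6.Idx K) : x 58 u * (x 56 t * w) = x 56 t * (x 58 u * w) :=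
  sw_nil (by decide +kernel) t u w

theorem s_59_56 (t u : K) (w : GL chevE6.Idx K) : x 59 u * (x 56 t * w) = x 56 t * (x 59 u * w) :=
  sw_nil (by decide +kernel) t u w

theorem s_60_56 (t u : K) (w : GL chevE6.Idx K) : x 60 u * (x 56 t * w) = x 56 t * (x 60 u * w) :=
  sw_nil (by decide +kernel) t u w

theorem s_61_56 (t u : K) (w : GL chevE6.Idx K) : x 61 u * (x 56 t * w) = x 56 t * (x 61 u * w) :=
  sw_nil (by decide +kernel) t u w

theorem s_62_56 (t u : K) (w : GL chevE6.Idx K) : x 62 u * (x 56 t * w) = x 56 t * (x 62 u * w) :=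
  sw_nil (by decide +kernel) t u w

theorem s_63_56 (t u : K) (w : GL chevE6.Idx K) : x 63 u * (x 56 t * w) = x 56 t * (x 63 u * w) :=
  sw_nil (by decide +kernel) t u w

theorem s_64_56 (t u : K) (w : GL chevE6.Idx K) : x 64 u * (x 56 t * w) = x 56 t * (x 64 u * w) :=
  sw_nil (by decide +kernel) t u w

theorem s_65_56 (t u : K) (w : GL chevE6.Idx K) : x 65 u * (x 56 t * w) = x 56 t * (x 65 u * w) :=
  sw_nil (by decide +kernel) t u w

theorem s_66_56 (t u : K) (w : GL chevE6.Idx K) : x 66 u * (x 56 t * w) = x 56 t * (x 66 u * w) :=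
  sw_nil (by decide +kernel) t u w

theorem s_67_56 (t u : K) (w : GL chevE6.Idx K) : x 67 u * (x 56 t * w) = x 56 t * (x 67 u * w) :=
  sw_nil (by decide +kernel) t u w

theorem s_68_56 (t u : K) (w : GL chevE6.Idx K) : x 68 u * (x 56 t * w) = x 56 t * (x 68 u * w) :=
  sw_nil (by decide +kernel) t u w

theorem s_69_56 (t u : K) (w : GL chevE6.Idx K) : x 69 u * (x 56 t * w) = x 56 t * (x 69 u * w) :=
  sw_nil (by decide +kernel) t u w

theorem s_70_56 (t u : K) (w : GL chevE6.Idx K) : x 70 u * (x 56 t * w) = x 56 t * (x 70 u * w) :=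
  sw_nil (by decide +kernel) t u w

theorem s_71_56 (t u : K) (w : GL chevE6.Idx K) : x 71 u * (x 56 t * w) = x 56 t * (x 71 u * w) :=
  sw_nil (by decide +kernel) t u w

theorem s_58_57 (t u : K) (w : GL chevE6.Idx K) : x 58 u * (x 57 t * w) = x 57 t * (x 58 u * w) :=
  sw_nil (by decide +kernel) t u w

theorem s_59_57 (t u : K) (w : GL chevE6.Idx K) : x 59 u * (x 57 t * w) = x 57 t * (x 59 u * w) :=
  sw_nil (by decide +kernel) t u w

theorem s_60_57 (t u : K) (w : GL chevE6.Idx K) : x 60 u * (x 57 t * w) = x 57 t * (x 60 u * w) :=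
  sw_nil (by decide +kernel) t u w

theorem s_61_57 (t u : K) (w : GL chevE6.Idx K) : x 61 u * (x 57 t * w) = x 57 t * (x 61 u * w) :=
  sw_nil (by decide +kernel) t u w

theorem s_62_57 (t u : K) (w : GL chevE6.Idx K) : x 62 u * (x 57 t * w) = x 57 t * (x 62 u * w) :=
  sw_nil (by decide +kernel) t u w

theorem s_63_57 (t u : K) (w : GL chevE6.Idx K) : x 63 u * (x 57 t * w) = x 57 t * (x 63 u * w) :=
  sw_nil (by decide +kernel) t u w

theorem s_64_57 (t u : K) (w : GL chevE6.Idx K) : x 64 u * (x 57 t * w) = x 57 t * (x 64 u * w) :=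
  sw_nil (by decide +kernel) t u w

theorem s_65_57 (t u : K) (w : GL chevE6.Idx K) : x 65 u * (x 57 t * w) = x 57 t * (x 65 u * w) :=
  sw_nil (by decide +kernel) t u w

theorem s_66_57 (t u : K) (w : GL chevE6.Idx K) : x 66 u * (x 57 t * w) = x 57 t * (x 66 u * w) :=
  sw_nil (by decide +kernel) t u w

theorem s_67_57 (t u : K) (w : GL chevE6.Idx K) : x 67 u * (x 57 t * w) = x 57 t * (x 67 u * w) :=
  sw_nil (by decide +kernel) t u w

theorem s_68_57 (t u : K) (w : GL chevE6.Idx K) : x 68 u * (x 57 t * w) = x 57 t * (x 68 u * w) :=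
  sw_nil (by decide +kernel) t u w

theorem s_69_57 (t u : K) (w : GL chevE6.Idx K) : x 69 u * (x 57 t * w) = x 57 t * (x 69 u * w) :=
  sw_nil (by decide +kernel) t u w

theorem s_70_57 (t u : K) (w : GL chevE6.Idx K) : x 70 u * (x 57 t * w) = x 57 t * (x 70 u * w) :=
  sw_nil (by decide +kernel) t u w

theorem s_71_57 (t u : K) (w : GL chevE6.Idx K) : x 71 u * (x 57 t * w) = x 57 t * (x 71 u * w) :=
  sw_nil (by decide +kernel) t u w

theorem s_59_58 (t u : K) (w : GL chevE6.Idx K) : x 59 u * (x 58 t * w) = x 58 t * (x 59 u * w) :=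
  sw_nil (by decide +kernel) t u w

theorem s_60_58 (t u : K) (w : GL chevE6.Idx K) : x 60 u * (x 58 t * w) = x 58 t * (x 60 u * w) :=
  sw_nil (by decide +kernel) t u w

theorem s_61_58 (t u : K) (w : GL chevE6.Idx K) : x 61 u * (x 58 t * w) = x 58 t * (x 61 u * w) :=
  sw_nil (by decide +kernel) t u w

theorem s_62_58 (t u : K) (w : GL chevE6.Idx K) : x 62 u * (x 58 t * w) = x 58 t * (x 62 u * w) :=
  sw_nil (by decide +kernel) t u w

theorem s_63_58 (t u : K) (w : GL chevE6.Idx K) : x 63 u * (x 58 t * w) = x 58 t * (x 63 u * w) :=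
  sw_nil (by decide +kernel) t u w

theorem s_64_58 (t u : K) (w : GL chevE6.Idx K) : x 64 u * (x 58 t * w) = x 58 t * (x 64 u * w) :=
  sw_nil (by decide +kernel) t u w

theorem s_65_58 (t u : K) (w : GL chevE6.Idx K) : x 65 u * (x 58 t * w) = x 58 t * (x 65 u * w) :=
  sw_nil (by decide +kernel) t u w

theorem s_66_58 (t u : K) (w : GL chevE6.Idx K) : x 66 u * (x 58 t * w) = x 58 t * (x 66 u * w) :=
  sw_nil (by decide +kernel) t u w

theorem s_67_58 (t u : K) (w : GL chevE6.Idx K) : x 67 u * (x 58 t * w) = x 58 t * (x 67 u * w) :=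
  sw_nil (by decide +kernel) t u w

theorem s_68_58 (t u : K) (w : GL chevE6.Idx K) : x 68 u * (x 58 t * w) = x 58 t * (x 68 u * w) :=
  sw_nil (by decide +kernel) t u w

theorem s_69_58 (t u : K) (w : GL chevE6.Idx K) : x 69 u * (x 58 t * w) = x 58 t * (x 69 u * w) :=
  sw_nil (by decide +kernel) t u w

theorem s_70_58 (t u : K) (w : GL chevE6.Idx K) : x 70 u * (x 58 t * w) = x 58 t * (x 70 u * w) :=
  sw_nil (by decide +kernel) t u w

theorem s_71_58 (t u : K) (w : GL chevE6.Idx K) : x 71 u * (x 58 t * w) = x 58 t * (x 71 u * w) :=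
  sw_nil (by decide +kernel) t u w

theorem s_60_59 (t u : K) (w : GL chevE6.Idx K) : x 60 u * (x 59 t * w) = x 59 t * (x 60 u * w) :=
  sw_nil (by decide +kernel) t u w

theorem s_61_59 (t u : K) (w : GL chevE6.Idx K) : x 61 u * (x 59 t * w) = x 59 t * (x 61 u * w) :=
  sw_nil (by decide +kernel) t u w

theorem s_62_59 (t u : K) (w : GL chevE6.Idx K) : x 62 u * (x 59 t * w) = x 59 t * (x 62 u * w) :=
  sw_nil (by decide +kernel) t u w

theorem s_63_59 (t u : K) (w : GL chevE6.Idx K) : x 63 u * (x 59 t * w) = x 59 t * (x 63 u * w) :=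
  sw_nil (by decide +kernel) t u w

theorem s_64_59 (t u : K) (w : GL chevE6.Idx K) : x 64 u * (x 59 t * w) = x 59 t * (x 64 u * w) :=
  sw_nil (by decide +kernel) t u w

theorem s_65_59 (t u : K) (w : GL chevE6.Idx K) : x 65 u * (x 59 t * w) = x 59 t * (x 65 u * w) :=
  sw_nil (by decide +kernel) t u w

theorem s_66_59 (t u : K) (w : GL chevE6.Idx K) : x 66 u * (x 59 t * w) = x 59 t * (x 66 u * w) :=
  sw_nil (by decide +kernel) t u w

theorem s_67_59 (t u : K) (w : GL chevE6.Idx K) : x 67 u * (x 59 t * w) = x 59 t * (x 67 u * w) :=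
  sw_nil (by decide +kernel) t u w

theorem s_68_59 (t u : K) (w : GL chevE6.Idx K) : x 68 u * (x 59 t * w) = x 59 t * (x 68 u * w) :=
  sw_nil (by decide +kernel) t u w

theorem s_69_59 (t u : K) (w : GL chevE6.Idx K) : x 69 u * (x 59 t * w) = x 59 t * (x 69 u * w) :=
  sw_nil (by decide +kernel) t u w

theorem s_70_59 (t u : K) (w : GL chevE6.Idx K) : x 70 u * (x 59 t * w) = x 59 t * (x 70 u * w) :=
  sw_nil (by decide +kernel) t u w

theorem s_71_59 (t u : K) (w : GL chevE6.Idx K) : x 71 u * (x 59 t * w) = x 59 t * (x 71 u * w) :=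
  sw_nil (by decide +kernel) t u w

theorem s_61_60 (t u : K) (w : GL chevE6.Idx K) : x 61 u * (x 60 t * w) = x 60 t * (x 61 u * w) :=
  sw_nil (by decide +kernel) t u w

theorem s_62_60 (t u : K) (w : GL chevE6.Idx K) : x 62 u * (x 60 t * w) = x 60 t * (x 62 u * w) :=
  sw_nil (by decide +kernel) t u w

theorem s_63_60 (t u : K) (w : GL chevE6.Idx K) : x 63 u * (x 60 t * w) = x 60 t * (x 63 u * w) :=
  sw_nil (by decide +kernel) t u w

theorem s_64_60 (t u : K) (w : GL chevE6.Idx K) : x 64 u * (x 60 t * w) = x 60 t * (x 64 u * w) :=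
  sw_nil (by decide +kernel) t u w

theorem s_65_60 (t u : K) (w : GL chevE6.Idx K) : x 65 u * (x 60 t * w) = x 60 t * (x 65 u * w) :=
  sw_nil (by decide +kernel) t u w

theorem s_66_60 (t u : K) (w : GL chevE6.Idx K) : x 66 u * (x 60 t * w) = x 60 t * (x 66 u * w) :=
  sw_nil (by decide +kernel) t u w

theorem s_67_60 (t u : K) (w : GL chevE6.Idx K) : x 67 u * (x 60 t * w) = x 60 t * (x 67 u * w) :=
  sw_nil (by decide +kernel) t u w

theorem s_68_60 (t u : K) (w : GL chevE6.Idx K) : x 68 u * (x 60 t * w) = x 60 t * (x 68 u * w) :=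
  sw_nil (by decide +kernel) t u w

theorem s_69_60 (t u : K) (w : GL chevE6.Idx K) : x 69 u * (x 60 t * w) = x 60 t * (x 69 u * w) :=
  sw_nil (by decide +kernel) t u w

theorem s_70_60 (t u : K) (w : GL chevE6.Idx K) : x 70 u * (x 60 t * w) = x 60 t * (x 70 u * w) :=
  sw_nil (by decide +kernel) t u w

theorem s_71_60 (t u : K) (w : GL chevE6.Idx K) : x 71 u * (x 60 t * w) = x 60 t * (x 71 u * w) :=
  sw_nil (by decide +kernel) t u w

theorem s_62_61 (t u : K) (w : GL chevE6.Idx K) : x 62 u * (x 61 t * w) = x 61 t * (x 62 u * w) :=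
  sw_nil (by decide +kernel) t u w

theorem s_63_61 (t u : K) (w : GL chevE6.Idx K) : x 63 u * (x 61 t * w) = x 61 t * (x 63 u * w) :=
  sw_nil (by decide +kernel) t u w

theorem s_64_61 (t u : K) (w : GL chevE6.Idx K) : x 64 u * (x 61 t * w) = x 61 t * (x 64 u * w) :=
  sw_nil (by decide +kernel) t u w

theorem s_65_61 (t u : K) (w : GL chevE6.Idx K) : x 65 u * (x 61 t * w) = x 61 t * (x 65 u * w) :=
  sw_nil (by decide +kernel) t u w

theorem s_66_61 (t u : K) (w : GL chevE6.Idx K) : x 66 u * (x 61 t * w) = x 61 t * (x 66 u * w) :=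
  sw_nil (by decide +kernel) t u w

theorem s_67_61 (t u : K) (w : GL chevE6.Idx K) : x 67 u * (x 61 t * w) = x 61 t * (x 67 u * w) :=
  sw_nil (by decide +kernel) t u w

theorem s_68_61 (t u : K) (w : GL chevE6.Idx K) : x 68 u * (x 61 t * w) = x 61 t * (x 68 u * w) :=
  sw_nil (by decide +kernel) t u w

theorem s_69_61 (t u : K) (w : GL chevE6.Idx K) : x 69 u * (x 61 t * w) = x 61 t * (x 69 u * w) :=
  sw_nil (by decide +kernel) t u w

theorem s_70_61 (t u : K) (w : GL chevE6.Idx K) : x 70 u * (x 61 t * w) = x 61 t * (x 70 u * w) :=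
  sw_nil (by decide +kernel) t u w

theorem s_71_61 (t u : K) (w : GL chevE6.Idx K) : x 71 u * (x 61 t * w) = x 61 t * (x 71 u * w) :=
  sw_nil (by decide +kernel) t u w

theorem s_63_62 (t u : K) (w : GL chevE6.Idx K) : x 63 u * (x 62 t * w) = x 62 t * (x 63 u * w) :=
  sw_nil (by decide +kernel) t u w

theorem s_64_62 (t u : K) (w : GL chevE6.Idx K) : x 64 u * (x 62 t * w) = x 62 t * (x 64 u * w) :=
  sw_nil (by decide +kernel) t u w

theorem s_65_62 (t u : K) (w : GL chevE6.Idx K) : x 65 u * (x 62 t * w) = x 62 t * (x 65 u * w) :=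
  sw_nil (by decide +kernel) t u w

theorem s_66_62 (t u : K) (w : GL chevE6.Idx K) : x 66 u * (x 62 t * w) = x 62 t * (x 66 u * w) :=
  sw_nil (by decide +kernel) t u w

theorem s_67_62 (t u : K) (w : GL chevE6.Idx K) : x 67 u * (x 62 t * w) = x 62 t * (x 67 u * w) :=
  sw_nil (by decide +kernel) t u w

theorem s_68_62 (t u : K) (w : GL chevE6.Idx K) : x 68 u * (x 62 t * w) = x 62 t * (x 68 u * w) :=
  sw_nil (by decide +kernel) t u w

theorem s_69_62 (t u : K) (w : GL chevE6.Idx K) : x 69 u * (x 62 t * w) = x 62 t * (x 69 u * w) :=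
  sw_nil (by decide +kernel) t u w

theorem s_70_62 (t u : K) (w : GL chevE6.Idx K) : x 70 u * (x 62 t * w) = x 62 t * (x 70 u * w) :=
  sw_nil (by decide +kernel) t u w

theorem s_71_62 (t u : K) (w : GL chevE6.Idx K) : x 71 u * (x 62 t * w) = x 62 t * (x 71 u * w) :=
  sw_nil (by decide +kernel) t u w

theorem s_64_63 (t u : K) (w : GL chevE6.Idx K) : x 64 u * (x 63 t * w) = x 63 t * (x 64 u * w) :=
  sw_nil (by decide +kernel) t u w

theorem s_65_63 (t u : K) (w : GL chevE6.Idx K) : x 65 u * (x 63 t * w) = x 63 t * (x 65 u * w) :=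
  sw_nil (by decide +kernel) t u w

theorem s_66_63 (t u : K) (w : GL chevE6.Idx K) : x 66 u * (x 63 t * w) = x 63 t * (x 66 u * w) :=
  sw_nil (by decide +kernel) t u w

theorem s_67_63 (t u : K) (w : GL chevE6.Idx K) : x 67 u * (x 63 t * w) = x 63 t * (x 67 u * w) :=
  sw_nil (by decide +kernel) t u w

theorem s_68_63 (t u : K) (w : GL chevE6.Idx K) : x 68 u * (x 63 t * w) = x 63 t * (x 68 u * w) :=
  sw_nil (by decide +kernel) t u w

theorem s_69_63 (t u : K) (w : GL chevE6.Idx K) : x 69 u * (x 63 t * w) = x 63 t * (x 69 u * w) :=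
  sw_nil (by decide +kernel) t u w

theorem s_70_63 (t u : K) (w : GL chevE6.Idx K) : x 70 u * (x 63 t * w) = x 63 t * (x 70 u * w) :=
  sw_nil (by decide +kernel) t u w

theorem s_71_63 (t u : K) (w : GL chevE6.Idx K) : x 71 u * (x 63 t * w) = x 63 t * (x 71 u * w) :=
  sw_nil (by decide +kernel) t u w

theorem s_65_64 (t u : K) (w : GL chevE6.Idx K) : x 65 u * (x 64 t * w) = x 64 t * (x 65 u * w) :=
  sw_nil (by decide +kernel) t u w

theorem s_66_64 (t u : K) (w : GL chevE6.Idx K) : x 66 u * (x 64 t * w) = x 64 t * (x 66 u * w) :=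
  sw_nil (by decide +kernel) t u w

theorem s_67_64 (t u : K) (w : GL chevE6.Idx K) : x 67 u * (x 64 t * w) = x 64 t * (x 67 u * w) :=
  sw_nil (by decide +kernel) t u w

theorem s_68_64 (t u : K) (w : GL chevE6.Idx K) : x 68 u * (x 64 t * w) = x 64 t * (x 68 u * w) :=
  sw_nil (by decide +kernel) t u w

theorem s_69_64 (t u : K) (w : GL chevE6.Idx K) : x 69 u * (x 64 t * w) = x 64 t * (x 69 u * w) :=
  sw_nil (by decide +kernel) t u w

theorem s_70_64 (t u : K) (w : GL chevE6.Idx K) : x 70 u * (x 64 t * w) = x 64 t * (x 70 u * w) :=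
  sw_nil (by decide +kernel) t u w

theorem s_71_64 (t u : K) (w : GL chevE6.Idx K) : x 71 u * (x 64 t * w) = x 64 t * (x 71 u * w) :=
  sw_nil (by decide +kernel) t u w

theorem s_66_65 (t u : K) (w : GL chevE6.Idx K) : x 66 u * (x 65 t * w) = x 65 t * (x 66 u * w) :=
  sw_nil (by decide +kernel) t u w

theorem s_67_65 (t u : K) (w : GL chevE6.Idx K) : x 67 u * (x 65 t * w) = x 65 t * (x 67 u * w) :=
  sw_nil (by decide +kernel) t u w

theorem s_68_65 (t u : K) (w : GL chevE6.Idx K) : x 68 u * (x 65 t * w) = x 65 t * (x 68 u * w) :=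
  sw_nil (by decide +kernel) t u w

theorem s_69_65 (t u : K) (w : GL chevE6.Idx K) : x 69 u * (x 65 t * w) = x 65 t * (x 69 u * w) :=
  sw_nil (by decide +kernel) t u w

theorem s_70_65 (t u : K) (w : GL chevE6.Idx K) : x 70 u * (x 65 t * w) = x 65 t * (x 70 u * w) :=
  sw_nil (by decide +kernel) t u w

theorem s_71_65 (t u : K) (w : GL chevE6.Idx K) : x 71 u * (x 65 t * w) = x 65 t * (x 71 u * w) :=
  sw_nil (by decide +kernel) t u w

theorem s_67_66 (t u : K) (w : GL chevE6.Idx K) : x 67 u * (x 66 t * w) = x 66 t * (x 67 u * w) :=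
  sw_nil (by decide +kernel) t u w

theorem s_68_66 (t u : K) (w : GL chevE6.Idx K) : x 68 u * (x 66 t * w) = x 66 t * (x 68 u * w) :=
  sw_nil (by decide +kernel) t u w

theorem s_69_66 (t u : K) (w : GL chevE6.Idx K) : x 69 u * (x 66 t * w) = x 66 t * (x 69 u * w) :=
  sw_nil (by decide +kernel) t u w

theorem s_70_66 (t u : K) (w : GL chevE6.Idx K) : x 70 u * (x 66 t * w) = x 66 t * (x 70 u * w) :=
  sw_nil (by decide +kernel) t u w

theorem s_71_66 (t u : K) (w : GL chevE6.Idx K) : x 71 u * (x 66 t * w) = x 66 t * (x 71 u * w) :=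
  sw_nil (by decide +kernel) t u w

theorem s_68_67 (t u : K) (w : GL chevE6.Idx K) : x 68 u * (x 67 t * w) = x 67 t * (x 68 u * w) :=
  sw_nil (by decide +kernel) t u w

theorem s_69_67 (t u : K) (w : GL chevE6.Idx K) : x 69 u * (x 67 t * w) = x 67 t * (x 69 u * w) :=
  sw_nil (by decide +kernel) t u w

theorem s_70_67 (t u : K) (w : GL chevE6.Idx K) : x 70 u * (x 67 t * w) = x 67 t * (x 70 u * w) :=
  sw_nil (by decide +kernel) t u w

theorem s_71_67 (t u : K) (w : GL chevE6.Idx K) : x 71 u * (x 67 t * w) = x 67 t * (x 71 u * w) :=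
  sw_nil (by decide +kernel) t u w

theorem s_69_68 (t u : K) (w : GL chevE6.Idx K) : x 69 u * (x 68 t * w) = x 68 t * (x 69 u * w) :=
  sw_nil (by decide +kernel) t u w

theorem s_70_68 (t u : K) (w : GL chevE6.Idx K) : x 70 u * (x 68 t * w) = x 68 t * (x 70 u * w) :=
  sw_nil (by decide +kernel) t u w

theorem s_71_68 (t u : K) (w : GL chevE6.Idx K) : x 71 u * (x 68 t * w) = x 68 t * (x 71 u * w) :=
  sw_nil (by decide +kernel) t u w

theorem s_70_69 (t u : K) (w : GL chevE6.Idx K) : x 70 u * (x 69 t * w) = x 69 t * (x 70 u * w) :=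
  sw_nil (by decide +kernel) t u w

theorem s_71_69 (t u : K) (w : GL chevE6.Idx K) : x 71 u * (x 69 t * w) = x 69 t * (x 71 u * w) :=
  sw_nil (by decide +kernel) t u w

theorem s_71_70 (t u : K) (w : GL chevE6.Idx K) : x 71 u * (x 70 t * w) = x 70 t * (x 71 u * w) :=
  sw_nil (by decide +kernel) t u w

theorem mg_36 (a b : K) (w : GL chevE6.Idx K) : x 36 a * (x 36 b * w) = x 36 (a + b) * w := mg 36 a b w

theorem mg_37 (a b : K) (w : GL chevE6.Idx K) : x 37 a * (x 37 b * w) = x 37 (a + b) * w := mg 37 a b w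

theorem mg_38 (a b : K) (w : GL chevE6.Idx K) : x 38 a * (x 38 b * w) = x 38 (a + b) * w := mg 38 a b w

theorem mg_39 (a b : K) (w : GL chevE6.Idx K) : x 39 a * (x 39 b * w) = x 39 (a + b) * w := mg 39 a b w

theorem mg_40 (a b : K) (w : GL chevE6.Idx K) : x 40 a * (x 40 b * w) = x 40 (a + b) * w := mg 40 a b w

theorem mg_41 (a b : K) (w : GL chevE6.Idx K) : x 41 a * (x 41 b * w) = x 41 (a + b) * w := mg 41 a b w

theorem mg_42 (a b : K) (w : GL chevE6.Idx K) : x 42 a * (x 42 b * w) = x 42 (a + b) * w := mg 42 a b w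

theorem mg_43 (a b : K) (w : GL chevE6.Idx K) : x 43 a * (x 43 b * w) = x 43 (a + b) * w := mg 43 a b w

theorem mg_44 (a b : K) (w : GL chevE6.Idx K) : x 44 a * (x 44 b * w) = x 44 (a + b) * w := mg 44 a b w

theorem mg_45 (a b : K) (w : GL chevE6.Idx K) : x 45 a * (x 45 b * w) = x 45 (a + b) * w := mg 45 a b w

theorem mg_46 (a b : K) (w : GL chevE6.Idx K) : x 46 a * (x 46 b * w) = x 46 (a + b) * w := mg 46 a b w

theorem mg_47 (a b : K) (w : GL chevE6.Idx K) : x 47 a * (x 47 b * w) = x 47 (a + b) * w := mg 47 a b w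

theorem mg_48 (a b : K) (w : GL chevE6.Idx K) : x 48 a * (x 48 b * w) = x 48 (a + b) * w := mg 48 a b w

theorem mg_49 (a b : K) (w : GL chevE6.Idx K) : x 49 a * (x 49 b * w) = x 49 (a + b) * w := mg 49 a b w

theorem mg_50 (a b : K) (w : GL chevE6.Idx K) : x 50 a * (x 50 b * w) = x 50 (a + b) * w := mg 50 a b w

theorem mg_51 (a b : K) (w : GL chevE6.Idx K) : x 51 a * (x 51 b * w) = x 51 (a + b) * w := mg 51 a b w

theorem mg_52 (a b : K) (w : GL chevE6.Idx K) : x 52 a * (x 52 b * w) = x 52 (a + b) * w := mg 52 a b w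

theorem mg_53 (a b : K) (w : GL chevE6.Idx K) : x 53 a * (x 53 b * w) = x 53 (a + b) * w := mg 53 a b w

theorem mg_54 (a b : K) (w : GL chevE6.Idx K) : x 54 a * (x 54 b * w) = x 54 (a + b) * w := mg 54 a b w

theorem mg_55 (a b : K) (w : GL chevE6.Idx K) : x 55 a * (x 55 b * w) = x 55 (a + b) * w := mg 55 a b w

theorem mg_56 (a b : K) (w : GL chevE6.Idx K) : x 56 a * (x 56 b * w) = x 56 (a + b) * w := mg 56 a b w

theorem mg_57 (a b : K) (w : GL chevE6.Idx K) : x 57 a * (x 57 b * w) = x 57 (a + b) * w := mg 57 a b w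

theorem mg_58 (a b : K) (w : GL chevE6.Idx K) : x 58 a * (x 58 b * w) = x 58 (a + b) * w := mg 58 a b w

theorem mg_59 (a b : K) (w : GL chevE6.Idx K) : x 59 a * (x 59 b * w) = x 59 (a + b) * w := mg 59 a b w

theorem mg_60 (a b : K) (w : GL chevE6.Idx K) : x 60 a * (x 60 b * w) = x 60 (a + b) * w := mg 60 a b w

theorem mg_61 (a b : K) (w : GL chevE6.Idx K) : x 61 a * (x 61 b * w) = x 61 (a + b) * w := mg 61 a b w

theorem mg_62 (a b : K) (w : GL chevE6.Idx K) : x 62 a * (x 62 b * w) = x 62 (a + b) * w := mg 62 a b w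

theorem mg_63 (a b : K) (w : GL chevE6.Idx K) : x 63 a * (x 63 b * w) = x 63 (a + b) * w := mg 63 a b w

theorem mg_64 (a b : K) (w : GL chevE6.Idx K) : x 64 a * (x 64 b * w) = x 64 (a + b) * w := mg 64 a b w

theorem mg_65 (a b : K) (w : GL chevE6.Idx K) : x 65 a * (x 65 b * w) = x 65 (a + b) * w := mg 65 a b w

theorem mg_66 (a b : K) (w : GL chevE6.Idx K) : x 66 a * (x 66 b * w) = x 66 (a + b) * w := mg 66 a b w

theorem mg_67 (a b : K) (w : GL chevE6.Idx K) : x 67 a * (x 67 b * w) = x 67 (a + b) * w := mg 67 a b w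

theorem mg_68 (a b : K) (w : GL chevE6.Idx K) : x 68 a * (x 68 b * w) = x 68 (a + b) * w := mg 68 a b w

theorem mg_69 (a b : K) (w : GL chevE6.Idx K) : x 69 a * (x 69 b * w) = x 69 (a + b) * w := mg 69 a b w

theorem mg_70 (a b : K) (w : GL chevE6.Idx K) : x 70 a * (x 70 b * w) = x 70 (a + b) * w := mg 70 a b w

theorem mg_71 (a b : K) (w : GL chevE6.Idx K) : x 71 a * (x 71 b * w) = x 71 (a + b) * w := mg 71 a b w

/-- The ordered product of the positive root elements. -/
noncomputable def W (a36 a37 a38 a39 a40 a41 a42 a43 a44 a45 a46 a47 a48 a49 a50 a51 a52 a53 a54 a55 a56 a57 a58 a59 a60 a61 a62 a63 a64 a65 a66 a67 a68 a69 a70 a71 : K) : GL chevE6.Idx K :=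
  x 36 a36 * (x 37 a37 * (x 38 a38 * (x 39 a39 * (x 40 a40 * (x 41 a41 * (x 42 a42 * (x 43 a43 * (x 44 a44 * (x 45 a45 * (x 46 a46 * (x 47 a47 * (x 48 a48 * (x 49 a49 * (x 50 a50 * (x 51 a51 * (x 52 a52 * (x 53 a53 * (x 54 a54 * (x 55 a55 * (x 56 a56 * (x 57 a57 * (x 58 a58 * (x 59 a59 * (x 60 a60 * (x 61 a61 * (x 62 a62 * (x 63 a63 * (x 64 a64 * (x 65 a65 * (x 66 a66 * (x 67 a67 * (x 68 a68 * (x 69 a69 * (x 70 a70 * (x 71 a71 * 1)))))))))))))))))))))))))))))))))))

end Swap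

end Cfsg.Agent.Lib.E6Inv50
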