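import Cfsg.Agent.Lib.E6Inv50A

set_option autoImplicit false
set_option linter.unusedSectionVars false
set_option linter.unusedVariables false
set_option linter.unusedSimpArgs false

namespace Cfsg.Agent.Lib.E6Inv50

open Cfsg Cfsg.Lie Cfsg.Agent.Lib.Chev Cfsg.Agent.Lib.Chev.TwE6

section Law

variable {K : Type*} [Field K] [CharP K 2]

set_option maxHeartbeats 8000000 in
theorem W_mul (a36 a37 a38 a39 a40 a41 a42 a43 a44 a45 a46 a47 a48 a49 a50 a51 a52 a53 a54 a55 a56 a57 a58 a59 a60 a61 a62 a63 a64 a65 a66 a67 a68 a69 a70 a71 b36 b37 b38 b39 b40 b41 b42 b43 b44 b45 b46 b47 b48 b49 b50 b51 b52 b53 b54 b55 b56 b57 b58 b59 b60 b61 b62 b63 b64 b65 b66 b67 b68 b69 b70 b71 : K) : W a36 a37 a38 a39 a40 a41 a42 a43 a44 a45 a46 a47 a48 a49 a50 a51 a52 a53 a54 a55 a56 a57 a58 a59 a60 a61 a62 a63 a64 a65 a66 a67 a68 a69 a70 a71 * W b36 b37 b38 b39 b40 b41 b42 b43 b44 b45 b46 b47 b48 b49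 b50 b51 b52 b53 b54 b55 b56 b57 b58 b59 b60 b61 b62 b63 b64 b65 b66 b67 b68 b69 b70 b71 = W (a36 + b36) (a37 + b37) (a38 + b38 + a37*b36) (a39 + b39) (a40 + b40 + a39*b37) (a41 + b41 + a39*b38 + a40*b36) (a42 + b42) (a43 + b43 + a42*b39) (a44 + b44 + a42*b40 + a43*b37) (a45 + b45 + a42*b41 + a43*b38 + a44*b36) (a46 + b46) (a47 + b47 + a46*b39) (a48 + b48 + a46*b40 + a47*b37) (a49 + b49 + a46*b41 + a47*b38 + a48*b36) (a50 + b50 + a46*b43 + a47*b42 + a46*b39*b42) (a51 + b51 + a46*b44 + a48*b42 + a50*b37 + a46*b40*b42 + a47*b37*b42) (a52 + b52 + a46*b45 + a49*b42 + a50*b38 + a51*b36 + a46*b41*b42 + a47*b38*b42 + a48*b36*b42) (a53 + b53 + a47*b44 + a48*b43 + a50*b40 + a51*b39 + a46*b39*b44 + a46*b40*b43 + a47*b37*b43 + a50*b37*b39) (a54 + b54 + a47*b45 + a49*b43 + a50*b41 + a52*b39 + a53*b36 + a46*b39*b45 + a46*b41*b43 + a47*b38*b43 + a48*b36*b43 + a50*b38*b39 + a51*b36*b39) (a55 +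 b55 + a48*b45 + a49*b44 + a51*b41 + a52*b40 + a53*b38 + a54*b37 + a46*b40*b45 + a46*b41*b44 + a47*b37*b45 + a47*b38*b44 + a48*b36*b44 + a50*b37*b41 + a50*b38*b40 + a51*b36*b40 + a53*b36*b37) (a56 + b56) (a57 + b57 + a56*b42) (a58 + b58 + a56*b43 + a57*b39) (a59 + b59 + a56*b44 + a57*b40 + a58*b37) (a60 + b60 + a56*b45 + a57*b41 + a58*b38 + a59*b36) (a61 + b61 + a56*b50 + a57*b47 + a58*b46 + a56*b42*b47 + a56*b43*b46 + a57*b39*b46) (a62 + b62 + a56*b51 + a57*b48 + a59*b46 + a61*b37 + a56*b42*b48 + a56*b44*b46 + a57*b40*b46 + a58*b37*b46) (a63 + b63 + a56*b52 + a57*b49 + a60*b46 + a61*b38 + a62*b36 + a56*b42*b49 + a56*b45*b46 + a57*b41*b46 + a58*b38*b46 + a59*b36*b46) (a64 + b64 + a56*b53 + a58*b48 + a59*b47 + a61*b40 + a62*b39 + a56*b43*b48 + a56*b44*b47 + a57*b39*b48 + a57*b40*b47 + a58*b37*b47 + a61*b37*b39) (a65 + b65 + a56*b54 + a58*b49 + a60*b47 + a61*b41 + a63*b39 + a64*b36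 + a56*b43*b49 + a56*b45*b47 + a57*b39*b49 + a57*b41*b47 + a58*b38*b47 + a59*b36*b47 + a61*b38*b39 + a62*b36*b39) (a66 + b66 + a56*b55 + a59*b49 + a60*b48 + a62*b41 + a63*b40 + a64*b38 + a65*b37 + a56*b44*b49 + a56*b45*b48 + a57*b40*b49 + a57*b41*b48 + a58*b37*b49 + a58*b38*b48 + a59*b36*b48 + a61*b37*b41 + a61*b38*b40 + a62*b36*b40 + a64*b36*b37) (a67 + b67 + a57*b53 + a58*b51 + a59*b50 + a61*b44 + a62*b43 + a64*b42 + a56*b42*b53 + a56*b43*b51 + a56*b44*b50 + a57*b39*b51 + a57*b40*b50 + a58*b37*b50 + a61*b37*b43 + a61*b40*b42 + a62*b39*b42 + a61*b37*b39*b42) (a68 + b68 + a57*b54 + a58*b52 + a60*b50 + a61*b45 + a63*b43 + a65*b42 + a67*b36 + a56*b42*b54 + a56*b43*b52 + a56*b45*b50 + a57*b39*b52 + a57*b41*b50 + a58*b38*b50 + a59*b36*b50 + a61*b38*b43 + a61*b41*b42 + a62*b36*b43 + a63*b39*b42 + a64*b36*b42 + a61*b38*b39*b42 + a62*b36*b39*b42) (a69 + b69 + a57*b55 + a59*b52 + a60*b51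 + a62*b45 + a63*b44 + a66*b42 + a67*b38 + a68*b37 + a56*b42*b55 + a56*b44*b52 + a56*b45*b51 + a57*b40*b52 + a57*b41*b51 + a58*b37*b52 + a58*b38*b51 + a59*b36*b51 + a61*b37*b45 + a61*b38*b44 + a62*b36*b44 + a62*b41*b42 + a63*b40*b42 + a64*b38*b42 + a65*b37*b42 + a67*b36*b37 + a61*b37*b41*b42 + a61*b38*b40*b42 + a62*b36*b40*b42 + a64*b36*b37*b42) (a70 + b70 + a58*b55 + a59*b54 + a60*b53 + a64*b45 + a65*b44 + a66*b43 + a67*b41 + a68*b40 + a69*b39 + a56*b43*b55 + a56*b44*b54 + a56*b45*b53 + a57*b39*b55 + a57*b40*b54 + a57*b41*b53 + a58*b37*b54 + a58*b38*b53 + a59*b36*b53 + a61*b40*b45 + a61*b41*b44 + a62*b39*b45 + a62*b41*b43 + a63*b39*b44 + a63*b40*b43 + a64*b36*b44 + a64*b38*b43 + a65*b37*b43 + a67*b36*b40 + a67*b38*b39 + a68*b37*b39 + a61*b37*b39*b45 + a61*b37*b41*b43 + a61*b38*b39*b44 + a61*b38*b40*b43 + a62*b36*b39*b44 + a62*b36*b40*b43 + a64*b36*b37*b43 + a67*b36*b37*b39) (a71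 + b71 + a61*b55 + a62*b54 + a63*b53 + a64*b52 + a65*b51 + a66*b50 + a67*b49 + a68*b48 + a69*b47 + a70*b46 + a56*b50*b55 + a56*b51*b54 + a56*b52*b53 + a57*b47*b55 + a57*b48*b54 + a57*b49*b53 + a58*b46*b55 + a58*b48*b52 + a58*b49*b51 + a59*b46*b54 + a59*b47*b52 + a59*b49*b50 + a60*b46*b53 + a60*b47*b51 + a60*b48*b50 + a61*b37*b54 + a61*b38*b53 + a61*b40*b52 + a61*b41*b51 + a61*b44*b49 + a61*b45*b48 + a62*b36*b53 + a62*b39*b52 + a62*b41*b50 + a62*b43*b49 + a62*b45*b47 + a63*b39*b51 + a63*b40*b50 + a63*b43*b48 + a63*b44*b47 + a64*b36*b51 + a64*b38*b50 + a64*b42*b49 + a64*b45*b46 + a65*b37*b50 + a65*b42*b48 + a65*b44*b46 + a66*b42*b47 + a66*b43*b46 + a67*b36*b48 + a67*b38*b47 + a67*b41*b46 + a68*b37*b47 + a68*b40*b46 + a69*b39*b46 + a56*b42*b47*b55 + a56*b42*b48*b54 + a56*b42*b49*b53 + a56*b43*b46*b55 + a56*b43*b48*b52 + a56*b43*b49*b51 + a56*b44*b46*b54 + a56*b44*b47*b52 + a56*b44*b49*b50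 + a56*b45*b46*b53 + a56*b45*b47*b51 + a56*b45*b48*b50 + a57*b39*b46*b55 + a57*b39*b48*b52 + a57*b39*b49*b51 + a57*b40*b46*b54 + a57*b40*b47*b52 + a57*b40*b49*b50 + a57*b41*b46*b53 + a57*b41*b47*b51 + a57*b41*b48*b50 + a58*b37*b46*b54 + a58*b37*b47*b52 + a58*b37*b49*b50 + a58*b38*b46*b53 + a58*b38*b47*b51 + a58*b38*b48*b50 + a59*b36*b46*b53 + a59*b36*b47*b51 + a59*b36*b48*b50 + a61*b37*b39*b52 + a61*b37*b41*b50 + a61*b37*b43*b49 + a61*b37*b45*b47 + a61*b38*b39*b51 + a61*b38*b40*b50 + a61*b38*b43*b48 + a61*b38*b44*b47 + a61*b40*b42*b49 + a61*b40*b45*b46 + a61*b41*b42*b48 + a61*b41*b44*b46 + a62*b36*b39*b51 + a62*b36*b40*b50 + a62*b36*b43*b48 + a62*b36*b44*b47 + a62*b39*b42*b49 + a62*b39*b45*b46 + a62*b41*b42*b47 + a62*b41*b43*b46 + a63*b39*b42*b48 + a63*b39*b44*b46 + a63*b40*b42*b47 + a63*b40*b43*b46 + a64*b36*b37*b50 + a64*b36*b42*b48 + a64*b36*b44*b46 + a64*b38*b42*b47 + a64*b38*b43*b46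 + a65*b37*b42*b47 + a65*b37*b43*b46 + a67*b36*b37*b47 + a67*b36*b40*b46 + a67*b38*b39*b46 + a68*b37*b39*b46 + a61*b37*b39*b42*b49 + a61*b37*b39*b45*b46 + a61*b37*b41*b42*b47 + a61*b37*b41*b43*b46 + a61*b38*b39*b42*b48 + a61*b38*b39*b44*b46 + a61*b38*b40*b42*b47 + a61*b38*b40*b43*b46 + a62*b36*b39*b42*b48 + a62*b36*b39*b44*b46 + a62*b36*b40*b42*b47 + a62*b36*b40*b43*b46 + a64*b36*b37*b42*b47 + a64*b36*b37*b43*b46 + a67*b36*b37*b39*b46) := by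
  have h2 : (2 : K) = 0 := CharTwo.two_eq_zero
  unfold W
  simp only [mul_assoc, one_mul, s_37_36, s_38_36, s_39_36, s_40_36, s_41_36, s_42_36, s_43_36, s_44_36, s_45_36, s_46_36, s_47_36, s_48_36, s_49_36, s_50_36, s_51_36, s_52_36, s_53_36, s_54_36, s_55_36, s_56_36, s_57_36, s_58_36, s_59_36, s_60_36, s_61_36, s_62_36, s_63_36, s_64_36, s_65_36, s_66_36, s_67_36, s_68_36, s_69_36, s_70_36, s_71_36, s_38_37, s_39_37, s_40_37, s_41_37, s_42_37, s_43_37, s_44_37, s_45_37, s_46_37, s_47_37, s_48_37, s_49_37, s_50_37, s_51_37, s_52_37, s_53_37, s_54_37, s_55_37, s_56_37, s_57_37, s_58_37, s_59_37, s_60_37, s_61_37, s_62_37, s_63_37, s_64_37, s_65_37, s_66_37, s_67_37, s_68_37, s_69_37, s_70_37, s_71_37, s_39_38, s_40_38, s_41_38, s_42_38, s_43_38, s_44_38, s_45_38, s_46_38, s_47_38, s_48_38, s_49_38, s_50_38, s_51_38, s_52_38, s_53_38, s_54_38, s_55_38, s_56_38, s_57_38, s_58_38,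 s_59_38, s_60_38, s_61_38, s_62_38, s_63_38, s_64_38, s_65_38, s_66_38, s_67_38, s_68_38, s_69_38, s_70_38, s_71_38, s_40_39, s_41_39, s_42_39, s_43_39, s_44_39, s_45_39, s_46_39, s_47_39, s_48_39, s_49_39, s_50_39, s_51_39, s_52_39, s_53_39, s_54_39, s_55_39, s_56_39, s_57_39, s_58_39, s_59_39, s_60_39, s_61_39, s_62_39, s_63_39, s_64_39, s_65_39, s_66_39, s_67_39, s_68_39, s_69_39, s_70_39, s_71_39, s_41_40, s_42_40, s_43_40, s_44_40, s_45_40, s_46_40, s_47_40, s_48_40, s_49_40, s_50_40, s_51_40, s_52_40, s_53_40, s_54_40, s_55_40, s_56_40, s_57_40, s_58_40, s_59_40, s_60_40, s_61_40, s_62_40, s_63_40, s_64_40, s_65_40, s_66_40, s_67_40, s_68_40, s_69_40, s_70_40, s_71_40, s_42_41, s_43_41, s_44_41, s_45_41, s_46_41, s_47_41, s_48_41, s_49_41, s_50_41, s_51_41, s_52_41, s_53_41, s_54_41, s_55_41, s_56_41, s_57_41, s_58_41, s_59_41, s_60_41, s_61_41, s_62_41, s_63_41, s_64_41,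 s_65_41, s_66_41, s_67_41, s_68_41, s_69_41, s_70_41, s_71_41, s_43_42, s_44_42, s_45_42, s_46_42, s_47_42, s_48_42, s_49_42, s_50_42, s_51_42, s_52_42, s_53_42, s_54_42, s_55_42, s_56_42, s_57_42, s_58_42, s_59_42, s_60_42, s_61_42, s_62_42, s_63_42, s_64_42, s_65_42, s_66_42, s_67_42, s_68_42, s_69_42, s_70_42, s_71_42, s_44_43, s_45_43, s_46_43, s_47_43, s_48_43, s_49_43, s_50_43, s_51_43, s_52_43, s_53_43, s_54_43, s_55_43, s_56_43, s_57_43, s_58_43, s_59_43, s_60_43, s_61_43, s_62_43, s_63_43, s_64_43, s_65_43, s_66_43, s_67_43, s_68_43, s_69_43, s_70_43, s_71_43, s_45_44, s_46_44, s_47_44, s_48_44, s_49_44, s_50_44, s_51_44, s_52_44, s_53_44, s_54_44, s_55_44, s_56_44, s_57_44, s_58_44, s_59_44, s_60_44, s_61_44, s_62_44, s_63_44, s_64_44, s_65_44, s_66_44, s_67_44, s_68_44, s_69_44, s_70_44, s_71_44, s_46_45, s_47_45, s_48_45, s_49_45, s_50_45, s_51_45, s_52_45, s_53_45,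 s_54_45, s_55_45, s_56_45, s_57_45, s_58_45, s_59_45, s_60_45, s_61_45, s_62_45, s_63_45, s_64_45, s_65_45, s_66_45, s_67_45, s_68_45, s_69_45, s_70_45, s_71_45, s_47_46, s_48_46, s_49_46, s_50_46, s_51_46, s_52_46, s_53_46, s_54_46, s_55_46, s_56_46, s_57_46, s_58_46, s_59_46, s_60_46, s_61_46, s_62_46, s_63_46, s_64_46, s_65_46, s_66_46, s_67_46, s_68_46, s_69_46, s_70_46, s_71_46, s_48_47, s_49_47, s_50_47, s_51_47, s_52_47, s_53_47, s_54_47, s_55_47, s_56_47, s_57_47, s_58_47, s_59_47, s_60_47, s_61_47, s_62_47, s_63_47, s_64_47, s_65_47, s_66_47, s_67_47, s_68_47, s_69_47, s_70_47, s_71_47, s_49_48, s_50_48, s_51_48, s_52_48, s_53_48, s_54_48, s_55_48, s_56_48, s_57_48, s_58_48, s_59_48, s_60_48, s_61_48, s_62_48, s_63_48, s_64_48, s_65_48, s_66_48, s_67_48, s_68_48, s_69_48, s_70_48, s_71_48, s_50_49, s_51_49, s_52_49, s_53_49, s_54_49, s_55_49, s_56_49, s_57_49, s_58_49,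 s_59_49, s_60_49, s_61_49, s_62_49, s_63_49, s_64_49, s_65_49, s_66_49, s_67_49, s_68_49, s_69_49, s_70_49, s_71_49, s_51_50, s_52_50, s_53_50, s_54_50, s_55_50, s_56_50, s_57_50, s_58_50, s_59_50, s_60_50, s_61_50, s_62_50, s_63_50, s_64_50, s_65_50, s_66_50, s_67_50, s_68_50, s_69_50, s_70_50, s_71_50, s_52_51, s_53_51, s_54_51, s_55_51, s_56_51, s_57_51, s_58_51, s_59_51, s_60_51, s_61_51, s_62_51, s_63_51, s_64_51, s_65_51, s_66_51, s_67_51, s_68_51, s_69_51, s_70_51, s_71_51, s_53_52, s_54_52, s_55_52, s_56_52, s_57_52, s_58_52, s_59_52, s_60_52, s_61_52, s_62_52, s_63_52, s_64_52, s_65_52, s_66_52, s_67_52, s_68_52, s_69_52, s_70_52, s_71_52, s_54_53, s_55_53, s_56_53, s_57_53, s_58_53, s_59_53, s_60_53, s_61_53, s_62_53, s_63_53, s_64_53, s_65_53, s_66_53, s_67_53, s_68_53, s_69_53, s_70_53, s_71_53, s_55_54, s_56_54, s_57_54, s_58_54, s_59_54, s_60_54, s_61_54, s_62_54,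 s_63_54, s_64_54, s_65_54, s_66_54, s_67_54, s_68_54, s_69_54, s_70_54, s_71_54, s_56_55, s_57_55, s_58_55, s_59_55, s_60_55, s_61_55, s_62_55, s_63_55, s_64_55, s_65_55, s_66_55, s_67_55, s_68_55, s_69_55, s_70_55, s_71_55, s_57_56, s_58_56, s_59_56, s_60_56, s_61_56, s_62_56, s_63_56, s_64_56, s_65_56, s_66_56, s_67_56, s_68_56, s_69_56, s_70_56, s_71_56, s_58_57, s_59_57, s_60_57, s_61_57, s_62_57, s_63_57, s_64_57, s_65_57, s_66_57, s_67_57, s_68_57, s_69_57, s_70_57, s_71_57, s_59_58, s_60_58, s_61_58, s_62_58, s_63_58, s_64_58, s_65_58, s_66_58, s_67_58, s_68_58, s_69_58, s_70_58, s_71_58, s_60_59, s_61_59, s_62_59, s_63_59, s_64_59, s_65_59, s_66_59, s_67_59, s_68_59, s_69_59, s_70_59, s_71_59, s_61_60, s_62_60, s_63_60, s_64_60, s_65_60, s_66_60, s_67_60, s_68_60, s_69_60, s_70_60, s_71_60, s_62_61, s_63_61, s_64_61, s_65_61, s_66_61, s_67_61, s_68_61, s_69_61, s_70_61,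 s_71_61, s_63_62, s_64_62, s_65_62, s_66_62, s_67_62, s_68_62, s_69_62, s_70_62, s_71_62, s_64_63, s_65_63, s_66_63, s_67_63, s_68_63, s_69_63, s_70_63, s_71_63, s_65_64, s_66_64, s_67_64, s_68_64, s_69_64, s_70_64, s_71_64, s_66_65, s_67_65, s_68_65, s_69_65, s_70_65, s_71_65, s_67_66, s_68_66, s_69_66, s_70_66, s_71_66, s_68_67, s_69_67, s_70_67, s_71_67, s_69_68, s_70_68, s_71_68, s_70_69, s_71_69, s_71_70, mg_36, mg_37, mg_38, mg_39, mg_40, mg_41, mg_42, mg_43, mg_44, mg_45, mg_46, mg_47, mg_48, mg_49, mg_50, mg_51, mg_52, mg_53, mg_54, mg_55, mg_56, mg_57, mg_58, mg_59, mg_60, mg_61, mg_62, mg_63, mg_64, mg_65, mg_66, mg_67, mg_68, mg_69, mg_70, mg_71]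
  exact congrArg₂ (· * ·) (congrArg (x 36) (by first | ring1 | (rw [← sub_eq_zero]; ring_nf; simp [h2]))) (congrArg₂ (· * ·) (congrArg (x 37) (by first | ring1 | (rw [← sub_eq_zero]; ring_nf; simp [h2]))) (congrArg₂ (· * ·) (congrArg (x 38) (by first | ring1 | (rw [← sub_eq_zero]; ring_nf; simp [h2]))) (congrArg₂ (· * ·) (congrArg (x 39) (by first | ring1 | (rw [← sub_eq_zero]; ring_nf; simp [h2]))) (congrArg₂ (· * ·) (congrArg (x 40) (by first | ring1 | (rw [← sub_eq_zero]; ring_nf; simp [h2]))) (congrArg₂ (· * ·) (congrArg (x 41) (by first | ring1 | (rw [← sub_eq_zero]; ring_nf; simp [h2]))) (congrArg₂ (· * ·) (congrArg (x 42) (by first | ring1 | (rw [← sub_eq_zero]; ring_nf; simp [h2]))) (congrArg₂ (· * ·) (congrArg (x 43) (by first | ring1 | (rw [← sub_eq_zero]; ring_nf; simp [h2]))) (congrArg₂ (· * ·) (congrArg (x 44) (by first | ring1 | (rw [← sub_eq_zero]; ring_nf; simp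 [h2]))) (congrArg₂ (· * ·) (congrArg (x 45) (by first | ring1 | (rw [← sub_eq_zero]; ring_nf; simp [h2]))) (congrArg₂ (· * ·) (congrArg (x 46) (by first | ring1 | (rw [← sub_eq_zero]; ring_nf; simp [h2]))) (congrArg₂ (· * ·) (congrArg (x 47) (by first | ring1 | (rw [← sub_eq_zero]; ring_nf; simp [h2]))) (congrArg₂ (· * ·) (congrArg (x 48) (by first | ring1 | (rw [← sub_eq_zero]; ring_nf; simp [h2]))) (congrArg₂ (· * ·) (congrArg (x 49) (by first | ring1 | (rw [← sub_eq_zero]; ring_nf; simp [h2]))) (congrArg₂ (· * ·) (congrArg (x 50) (by first | ring1 | (rw [← sub_eq_zero]; ring_nf; simp [h2]))) (congrArg₂ (· * ·) (congrArg (x 51) (by first | ring1 | (rw [← sub_eq_zero]; ring_nf; simp [h2]))) (congrArg₂ (· * ·) (congrArg (x 52) (by first | ring1 | (rw [← sub_eq_zero]; ring_nf; simp [h2]))) (congrArg₂ (· * ·) (congrArg (x 53) (by first | ring1 | (rw [← sub_eq_zero]; ring_nf; simp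 [h2]))) (congrArg₂ (· * ·) (congrArg (x 54) (by first | ring1 | (rw [← sub_eq_zero]; ring_nf; simp [h2]))) (congrArg₂ (· * ·) (congrArg (x 55) (by first | ring1 | (rw [← sub_eq_zero]; ring_nf; simp [h2]))) (congrArg₂ (· * ·) (congrArg (x 56) (by first | ring1 | (rw [← sub_eq_zero]; ring_nf; simp [h2]))) (congrArg₂ (· * ·) (congrArg (x 57) (by first | ring1 | (rw [← sub_eq_zero]; ring_nf; simp [h2]))) (congrArg₂ (· * ·) (congrArg (x 58) (by first | ring1 | (rw [← sub_eq_zero]; ring_nf; simp [h2]))) (congrArg₂ (· * ·) (congrArg (x 59) (by first | ring1 | (rw [← sub_eq_zero]; ring_nf; simp [h2]))) (congrArg₂ (· * ·) (congrArg (x 60) (by first | ring1 | (rw [← sub_eq_zero]; ring_nf; simp [h2]))) (congrArg₂ (· * ·) (congrArg (x 61) (by first | ring1 | (rw [← sub_eq_zero]; ring_nf; simp [h2]))) (congrArg₂ (· * ·) (congrArg (x 62) (by first | ring1 | (rw [← sub_eq_zero]; ring_nf; simp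 [h2]))) (congrArg₂ (· * ·) (congrArg (x 63) (by first | ring1 | (rw [← sub_eq_zero]; ring_nf; simp [h2]))) (congrArg₂ (· * ·) (congrArg (x 64) (by first | ring1 | (rw [← sub_eq_zero]; ring_nf; simp [h2]))) (congrArg₂ (· * ·) (congrArg (x 65) (by first | ring1 | (rw [← sub_eq_zero]; ring_nf; simp [h2]))) (congrArg₂ (· * ·) (congrArg (x 66) (by first | ring1 | (rw [← sub_eq_zero]; ring_nf; simp [h2]))) (congrArg₂ (· * ·) (congrArg (x 67) (by first | ring1 | (rw [← sub_eq_zero]; ring_nf; simp [h2]))) (congrArg₂ (· * ·) (congrArg (x 68) (by first | ring1 | (rw [← sub_eq_zero]; ring_nf; simp [h2]))) (congrArg₂ (· * ·) (congrArg (x 69) (by first | ring1 | (rw [← sub_eq_zero]; ring_nf; simp [h2]))) (congrArg₂ (· * ·) (congrArg (x 70) (by first | ring1 | (rw [← sub_eq_zero]; ring_nf; simp [h2]))) (congrArg₂ (· * ·) (congrArg (x 71) (by first | ring1 | (rw [← sub_eq_zero]; ring_nf; simp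 [h2]))) (rfl))))))))))))))))))))))))))))))))))))

theorem W_congr {a36 a37 a38 a39 a40 a41 a42 a43 a44 a45 a46 a47 a48 a49 a50 a51 a52 a53 a54 a55 a56 a57 a58 a59 a60 a61 a62 a63 a64 a65 a66 a67 a68 a69 a70 a71 b36 b37 b38 b39 b40 b41 b42 b43 b44 b45 b46 b47 b48 b49 b50 b51 b52 b53 b54 b55 b56 b57 b58 b59 b60 b61 b62 b63 b64 b65 b66 b67 b68 b69 b70 b71 : K} (h36 : a36 = b36) (h37 : a37 = b37) (h38 : a38 = b38) (h39 : a39 = b39) (h40 : a40 = b40) (h41 : a41 = b41) (h42 : a42 = b42) (h43 : a43 = b43) (h44 : a44 = b44) (h45 : a45 = b45) (h46 : a46 = b46) (h47 : a47 = b47) (h48 : a48 = b48) (h49 : a49 = b49) (h50 : a50 = b50) (h51 : a51 = b51) (h52 : a52 = b52) (h53 : a53 = b53) (h54 : a54 = b54) (h55 : a55 = b55) (h56 : a56 = b56) (h57 : a57 = b57) (h58 : a58 = b58) (h59 : a59 = b59) (h60 : a60 = b60) (h61 : a61 = b61) (h62 : a62 = b62) (h63 : a63 = b63) (h64 : a64 = b64) (h65 : a65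 = b65) (h66 : a66 = b66) (h67 : a67 = b67) (h68 : a68 = b68) (h69 : a69 = b69) (h70 : a70 = b70) (h71 : a71 = b71) :
    W a36 a37 a38 a39 a40 a41 a42 a43 a44 a45 a46 a47 a48 a49 a50 a51 a52 a53 a54 a55 a56 a57 a58 a59 a60 a61 a62 a63 a64 a65 a66 a67 a68 a69 a70 a71 = W b36 b37 b38 b39 b40 b41 b42 b43 b44 b45 b46 b47 b48 b49 b50 b51 b52 b53 b54 b55 b56 b57 b58 b59 b60 b61 b62 b63 b64 b65 b66 b67 b68 b69 b70 b71 := by
  subst_vars
  rfl

end Law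

end Cfsg.Agent.Lib.E6Inv50
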