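import Cfsg.Agent.Lib.E6Inv50B

/-!
# The unipotent group of `²E₆(q)`, `q` even: the general element
-/

set_option autoImplicit false
set_option linter.unusedSectionVars false
set_option linter.unusedVariables false
set_option linter.unusedSimpArgs false
set_option maxRecDepth 100000

namespace Cfsg.Agent.Lib.E6Inv50

open Cfsg Cfsg.Lie Cfsg.Agent.Lib.Chev Cfsg.Agent.Lib.Chev.TwE6

section Inj

variable {K : Type*} [Field K]

theorem W_ord (a36 a37 a38 a39 a40 a41 a42 a43 a44 a45 a46 a47 a48 a49 a50 a51 a52 a53 a54 a55 a56 a57 a58 a59 a60 a61 a62 a63 a64 a65 a66 a67 a68 a69 a70 a71 : K) (t : ℕ → K)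
    (h36 : t 36 = a36) (h37 : t 37 = a37) (h38 : t 38 = a38) (h39 : t 39 = a39) (h40 : t 40 = a40) (h41 : t 41 = a41) (h42 : t 42 = a42) (h43 : t 43 = a43) (h44 : t 44 = a44) (h45 : t 45 = a45) (h46 : t 46 = a46) (h47 : t 47 = a47) (h48 : t 48 = a48) (h49 : t 49 = a49) (h50 : t 50 = a50) (h51 : t 51 = a51) (h52 : t 52 = a52) (h53 : t 53 = a53) (h54 : t 54 = a54) (h55 : t 55 = a55) (h56 : t 56 = a56) (h57 : t 57 = a57) (h58 : t 58 = a58) (h59 : t 59 = a59) (h60 : t 60 = a60) (h61 : t 61 = a61) (h62 : t 62 = a62) (h63 : t 63 = a63) (h64 : t 64 = a64) (h65 : t 65 = a65) (h66 : t 66 = a66) (h67 : t 67 = a67) (h68 : t 68 = a68) (h69 : t 69 = a69) (h70 : t 70 = a70) (h71 : t 71 = a71) :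
    hF.ordW 36 t = W a36 a37 a38 a39 a40 a41 a42 a43 a44 a45 a46 a47 a48 a49 a50 a51 a52 a53 a54 a55 a56 a57 a58 a59 a60 a61 a62 a63 a64 a65 a66 a67 a68 a69 a70 a71 := by
  unfold W
  subst_vars
  rw [hF.ordW_succ (by decide), hF.ordW_succ (by decide), hF.ordW_succ (by decide), hF.ordW_succ (by decide), hF.ordW_succ (by decide), hF.ordW_succ (by decide), hF.ordW_succ (by decide), hF.ordW_succ (by decide), hF.ordW_succ (by decide), hF.ordW_succ (by decide), hF.ordW_succ (by decide), hF.ordW_succ (by decide), hF.ordW_succ (by decide), hF.ordW_succ (by decide), hF.ordW_succ (by decide), hF.ordW_succ (by decide), hF.ordW_succ (by decide), hF.ordW_succ (by decide), hF.ordW_succ (by decide), hF.ordW_succ (by decide), hF.ordW_succ (by decide), hF.ordW_succ (by decide), hF.ordW_succ (by decide), hF.ordW_succ (by decide), hF.ordW_succ (by decide), hF.ordW_succ (by decide), hF.ordW_succ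 (by decide), hF.ordW_succ (by decide), hF.ordW_succ (by decide), hF.ordW_succ (by decide), hF.ordW_succ (by decide), hF.ordW_succ (by decide), hF.ordW_succ (by decide), hF.ordW_succ (by decide), hF.ordW_succ (by decide), hF.ordW_succ (by decide),
    hF.ordW_of_ge (by decide)]

/-- The coordinates of the general element of `U`. -/
noncomputable def ww (a36 a37 a38 a39 a40 a41 a42 a43 a44 a45 a46 a47 a48 a49 a50 a51 a52 a53 a54 a55 a56 a57 a58 a59 a60 a61 a62 a63 a64 a65 a66 a67 a68 a69 a70 a71 : K) : ℕ → K := fun r =>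
  match r with
  | 36 => a36 | 37 => a37 | 38 => a38 | 39 => a39 | 40 => a40 | 41 => a41 | 42 => a42 | 43 => a43 | 44 => a44 | 45 => a45 | 46 => a46 | 47 => a47 | 48 => a48 | 49 => a49 | 50 => a50 | 51 => a51 | 52 => a52 | 53 => a53 | 54 => a54 | 55 => a55 | 56 => a56 | 57 => a57 | 58 => a58 | 59 => a59 | 60 => a60 | 61 => a61 | 62 => a62 | 63 => a63 | 64 => a64 | 65 => a65 | 66 => a66 | 67 => a67 | 68 => a68 | 69 => a69 | 70 => a70 | 71 => a71 | _ => 0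

theorem W_inj {a36 a37 a38 a39 a40 a41 a42 a43 a44 a45 a46 a47 a48 a49 a50 a51 a52 a53 a54 a55 a56 a57 a58 a59 a60 a61 a62 a63 a64 a65 a66 a67 a68 a69 a70 a71 b36 b37 b38 b39 b40 b41 b42 b43 b44 b45 b46 b47 b48 b49 b50 b51 b52 b53 b54 b55 b56 b57 b58 b59 b60 b61 b62 b63 b64 b65 b66 b67 b68 b69 b70 b71 : K}
    (h : W a36 a37 a38 a39 a40 a41 a42 a43 a44 a45 a46 a47 a48 a49 a50 a51 a52 a53 a54 a55 a56 a57 a58 a59 a60 a61 a62 a63 a64 a65 a66 a67 a68 a69 a70 a71 = W b36 b37 b38 b39 b40 b41 b42 b43 b44 b45 b46 b47 b48 b49 b50 b51 b52 b53 b54 b55 b56 b57 b58 b59 b60 b61 b62 b63 b64 b65 b66 b67 b68 b69 b70 b71) :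
    a36 = b36 ∧ a37 = b37 ∧ a38 = b38 ∧ a39 = b39 ∧ a40 = b40 ∧ a41 = b41 ∧ a42 = b42 ∧ a43 = b43 ∧ a44 = b44 ∧ a45 = b45 ∧ a46 = b46 ∧ a47 = b47 ∧ a48 = b48 ∧ a49 = b49 ∧ a50 = b50 ∧ a51 = b51 ∧ a52 = b52 ∧ a53 = b53 ∧ a54 = b54 ∧ a55 = b55 ∧ a56 = b56 ∧ a57 = b57 ∧ a58 = b58 ∧ a59 = b59 ∧ a60 = b60 ∧ a61 = b61 ∧ a62 = b62 ∧ a63 = b63 ∧ a64 = b64 ∧ a65 = b65 ∧ a66 = b66 ∧ a67 = b67 ∧ a68 = b68 ∧ a69 = b69 ∧ a70 = b70 ∧ a71 = b71 := by
  have h1 := W_ord a36 a37 a38 a39 a40 a41 a42 a43 a44 a45 a46 a47 a48 a49 a50 a51 a52 a53 a54 a55 a56 a57 a58 a59 a60 a61 a62 a63 a64 a65 a66 a67 a68 a69 a70 a71 (ww a36 a37 a38 a39 a40 a41 a42 a43 a44 a45 a46 a47 a48 a49 a50 a51 a52 a53 a54 a55 a56 a57 a58 a59 a60 a61 a62 a63 a64 a65 a66 a67 a68 a69 a70 a71) rfl rfl rfl rfl rfl rfl rfl rfl rfl rfl rfl rfl rfl rfl rfl rfl rfl rfl rfl rfl rfl rfl rfl rfl rfl rfl rfl rfl rfl rfl rfl rfl rfl rfl rfl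 rfl
  have h2 := W_ord b36 b37 b38 b39 b40 b41 b42 b43 b44 b45 b46 b47 b48 b49 b50 b51 b52 b53 b54 b55 b56 b57 b58 b59 b60 b61 b62 b63 b64 b65 b66 b67 b68 b69 b70 b71 (ww b36 b37 b38 b39 b40 b41 b42 b43 b44 b45 b46 b47 b48 b49 b50 b51 b52 b53 b54 b55 b56 b57 b58 b59 b60 b61 b62 b63 b64 b65 b66 b67 b68 b69 b70 b71) rfl rfl rfl rfl rfl rfl rfl rfl rfl rfl rfl rfl rfl rfl rfl rfl rfl rfl rfl rfl rfl rfl rfl rfl rfl rfl rfl rfl rfl rfl rfl rfl rfl rfl rfl rfl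
  have h3 := hF.ordW_inj RootE6T.R.N 36 (by decide) (by decide) _ _ (h1.trans (h.trans h2.symm))
  have key : ∀ r : ℕ, 36 ≤ r → r < 72 → ww a36 a37 a38 a39 a40 a41 a42 a43 a44 a45 a46 a47 a48 a49 a50 a51 a52 a53 a54 a55 a56 a57 a58 a59 a60 a61 a62 a63 a64 a65 a66 a67 a68 a69 a70 a71 r = ww b36 b37 b38 b39 b40 b41 b42 b43 b44 b45 b46 b47 b48 b49 b50 b51 b52 b53 b54 b55 b56 b57 b58 b59 b60 b61 b62 b63 b64 b65 b66 b67 b68 b69 b70 b71 r := fun r h4 h5 => h3 r h4 h5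
  exact ⟨key 36 (by norm_num) (by norm_num), key 37 (by norm_num) (by norm_num), key 38 (by norm_num) (by norm_num), key 39 (by norm_num) (by norm_num), key 40 (by norm_num) (by norm_num), key 41 (by norm_num) (by norm_num), key 42 (by norm_num) (by norm_num), key 43 (by norm_num) (by norm_num), key 44 (by norm_num) (by norm_num), key 45 (by norm_num) (by norm_num), key 46 (by norm_num) (by norm_num), key 47 (by norm_num) (by norm_num), key 48 (by norm_num) (by norm_num), key 49 (by norm_num) (by norm_num), key 50 (by norm_num) (by norm_num), key 51 (by norm_num) (by norm_num), key 52 (by norm_num) (by norm_num), key 53 (by norm_num) (by norm_num), key 54 (by norm_num) (by norm_num), key 55 (by norm_num) (by norm_num), key 56 (by norm_num) (by norm_num), key 57 (by norm_num) (by norm_num), key 58 (by norm_num) (by norm_num), key 59 (by norm_num) (by norm_num), key 60 (by norm_num)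 (by norm_num), key 61 (by norm_num) (by norm_num), key 62 (by norm_num) (by norm_num), key 63 (by norm_num) (by norm_num), key 64 (by norm_num) (by norm_num), key 65 (by norm_num) (by norm_num), key 66 (by norm_num) (by norm_num), key 67 (by norm_num) (by norm_num), key 68 (by norm_num) (by norm_num), key 69 (by norm_num) (by norm_num), key 70 (by norm_num) (by norm_num), key 71 (by norm_num) (by norm_num)⟩

theorem W_zero : W (0 : K) 0 0 0 0 0 0 0 0 0 0 0 0 0 0 0 0 0 0 0 0 0 0 0 0 0 0 0 0 0 0 0 0 0 0 0 = 1 := by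
  simp [W, hF.c.xG_zero]

theorem W_mem_U (a36 a37 a38 a39 a40 a41 a42 a43 a44 a45 a46 a47 a48 a49 a50 a51 a52 a53 a54 a55 a56 a57 a58 a59 a60 a61 a62 a63 a64 a65 a66 a67 a68 a69 a70 a71 : K) :
    W a36 a37 a38 a39 a40 a41 a42 a43 a44 a45 a46 a47 a48 a49 a50 a51 a52 a53 a54 a55 a56 a57 a58 a59 a60 a61 a62 a63 a64 a65 a66 a67 a68 a69 a70 a71 ∈ chevE6.posUnipotent K := by
  have key : ∀ (r : ℕ) (t : K) (w : GL chevE6.Idx K), r ∈ ([36, 37, 38, 39, 40, 41, 42, 43, 44, 45, 46, 47, 48, 49, 50, 51, 52, 53, 54, 55, 56, 57, 58, 59, 60, 61, 62, 63, 64, 65, 66, 67, 68, 69, 70, 71] : List ℕ) →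
      w ∈ chevE6.posUnipotent K → x r t * w ∈ chevE6.posUnipotent K := by
    intro r t w hr hw
    have h : r < chevE6.nroots ∧ RootE6T.R.N ≤ r := by
      revert r
      decide +kernel
    exact mul_mem (hF.xG_mem_U h.1 h.2 t) hw
  unfold W
  repeat' (apply key _ _ _ (by simp))
  exact one_mem _

end Inj

section Elt

variable {K : Type*} [Field K] (f : K ≃+* K)

/-- The general element of the fixed points of the twist in `U`, in the coordinates of the twisted root groups. -/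
noncomputable def E (l36 l37 l38 t39 l40 l41 t44 l45 t46 t47 l48 l49 t51 l52 t53 l54 l55 t60 t63 t65 l66 t69 t70 t71 : K) : GL chevE6.Idx K :=
  W (l36) (l37) (l38) (t39) (l40) (l41) ((f l37)) ((f l40) + t39*(f l37)) (t44 + l40*(f l37)) (l45 + l41*(f l37)) (t46) (t47) (l48) (l49) ((f l48)) (t51) (l52) (t53) (l54) (l55) ((f l36)) ((f l38) + (f l36)*(f l37)) ((f l41) + t39*(f l38) + (f l36)*(f l40) + t39*(f l36)*(f l37)) ((f l45) + l40*(f l38) + t44*(f l36) + l40*(f l36)*(f l37)) (t60 + l41*(f l38) + l45*(f l36) + l41*(f l36)*(f l37)) ((f l49) + t46*(f l41) + t47*(f l38) + (f l36)*(f l48) + t39*t46*(f l38) + t46*(f l36)*(f l40) + t47*(f l36)*(f l37) + t39*t46*(f l36)*(f l37)) ((f l52) + l48*(f l38) + t46*(f l45) + t51*(f l36) + l40*t46*(f l38) + l48*(f l36)*(f l37) + t44*t46*(f l36) + l40*t46*(f l36)*(f l37)) (t63 + l49*(f l38) + l52*(f l36) + l41*t46*(f l38) + l45*t46*(f l36) +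 l49*(f l36)*(f l37) + l41*t46*(f l36)*(f l37)) ((f l54) + l48*(f l41) + t47*(f l45) + t53*(f l36) + l40*t47*(f l38) + l48*t39*(f l38) + l48*(f l36)*(f l40) + t44*t47*(f l36) + l40*t47*(f l36)*(f l37) + l48*t39*(f l36)*(f l37)) (t65 + l49*(f l41) + l54*(f l36) + l41*t47*(f l38) + l45*t47*(f l36) + l49*t39*(f l38) + l49*(f l36)*(f l40) + l41*t47*(f l36)*(f l37) + l49*t39*(f l36)*(f l37)) (l66 + l49*(f l45) + l55*(f l36) + l40*l49*(f l38) + l41*l48*(f l38) + l45*l48*(f l36) + l49*t44*(f l36) + l40*l49*(f l36)*(f l37) + l41*l48*(f l36)*(f l37)) ((f l55) + t51*(f l41) + t53*(f l38) + (f l45)*(f l48) + l40*(f l38)*(f l48) + t39*t51*(f l38) + t44*(f l36)*(f l48) + t51*(f l36)*(f l40) + t53*(f l36)*(f l37) + l40*(f l36)*(f l37)*(f l48) + t39*t51*(f l36)*(f l37)) ((f l66) + l52*(f l41) + l54*(f l38) + l41*(f l38)*(f l48) + l45*(f l36)*(f l48) + l52*t39*(f l38) + l52*(f l36)*(f l40) + l54*(f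 l36)*(f l37) + l41*(f l36)*(f l37)*(f l48) + l52*t39*(f l36)*(f l37)) (t69 + l52*(f l45) + l55*(f l38) + l40*l52*(f l38) + l41*t51*(f l38) + l45*t51*(f l36) + l52*t44*(f l36) + l55*(f l36)*(f l37) + l40*l52*(f l36)*(f l37) + l41*t51*(f l36)*(f l37)) (t70 + l54*(f l45) + l55*(f l41) + l40*l54*(f l38) + l41*t53*(f l38) + l45*t53*(f l36) + l54*t44*(f l36) + l55*t39*(f l38) + l55*(f l36)*(f l40) + l40*l54*(f l36)*(f l37) + l41*t53*(f l36)*(f l37) + l55*t39*(f l36)*(f l37)) (t71 + l54*(f l52) + l55*(f l49) + l48*l52*(f l41) + l48*l54*(f l38) + l49*t51*(f l41) + l49*t53*(f l38) + l49*(f l45)*(f l48) + l52*t47*(f l45) + l52*t53*(f l36) + l54*t46*(f l45) + l54*t51*(f l36) + l55*t46*(f l41) + l55*t47*(f l38) + l55*(f l36)*(f l48) + l40*l49*(f l38)*(f l48) + l40*l52*t47*(f l38) + l40*l54*t46*(f l38) + l41*l48*(f l38)*(f l48) + l41*t46*t53*(f l38) + l41*t47*t51*(f l38) + l45*l48*(f l36)*(f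 l48) + l45*t46*t53*(f l36) + l45*t47*t51*(f l36) + l48*l52*t39*(f l38) + l48*l52*(f l36)*(f l40) + l48*l54*(f l36)*(f l37) + l49*t39*t51*(f l38) + l49*t44*(f l36)*(f l48) + l49*t51*(f l36)*(f l40) + l49*t53*(f l36)*(f l37) + l52*t44*t47*(f l36) + l54*t44*t46*(f l36) + l55*t39*t46*(f l38) + l55*t46*(f l36)*(f l40) + l55*t47*(f l36)*(f l37) + l40*l49*(f l36)*(f l37)*(f l48) + l40*l52*t47*(f l36)*(f l37) + l40*l54*t46*(f l36)*(f l37) + l41*l48*(f l36)*(f l37)*(f l48) + l41*t46*t53*(f l36)*(f l37) + l41*t47*t51*(f l36)*(f l37) + l48*l52*t39*(f l36)*(f l37) + l49*t39*t51*(f l36)*(f l37) + l55*t39*t46*(f l36)*(f l37))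

theorem E_mem_U (l36 l37 l38 t39 l40 l41 t44 l45 t46 t47 l48 l49 t51 l52 t53 l54 l55 t60 t63 t65 l66 t69 t70 t71 : K) : E f l36 l37 l38 t39 l40 l41 t44 l45 t46 t47 l48 l49 t51 l52 t53 l54 l55 t60 t63 t65 l66 t69 t70 t71 ∈ chevE6.posUnipotent K := W_mem_U _ _ _ _ _ _ _ _ _ _ _ _ _ _ _ _ _ _ _ _ _ _ _ _ _ _ _ _ _ _ _ _ _ _ _ _

theorem E_zero : E f (0 : K) 0 0 0 0 0 0 0 0 0 0 0 0 0 0 0 0 0 0 0 0 0 0 0 = 1 := by
  unfold E
  simpa using W_zero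

theorem E_inj {l36 l37 l38 t39 l40 l41 t44 l45 t46 t47 l48 l49 t51 l52 t53 l54 l55 t60 t63 t65 l66 t69 t70 t71 l36' l37' l38' t39' l40' l41' t44' l45' t46' t47' l48' l49' t51' l52' t53' l54' l55' t60' t63' t65' l66' t69' t70' t71' : K} (h : E f l36 l37 l38 t39 l40 l41 t44 l45 t46 t47 l48 l49 t51 l52 t53 l54 l55 t60 t63 t65 l66 t69 t70 t71 = E f l36' l37' l38' t39' l40' l41' t44' l45' t46' t47' l48' l49' t51' l52' t53' l54' l55' t60' t63' t65' l66' t69' t70' t71') :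
    l36 = l36' ∧ l37 = l37' ∧ l38 = l38' ∧ t39 = t39' ∧ l40 = l40' ∧ l41 = l41' ∧ t44 = t44' ∧ l45 = l45' ∧ t46 = t46' ∧ t47 = t47' ∧ l48 = l48' ∧ l49 = l49' ∧ t51 = t51' ∧ l52 = l52' ∧ t53 = t53' ∧ l54 = l54' ∧ l55 = l55' ∧ t60 = t60' ∧ t63 = t63' ∧ t65 = t65' ∧ l66 = l66' ∧ t69 = t69' ∧ t70 = t70' ∧ t71 = t71' := by
  obtain ⟨h36, h37, h38, h39, h40, h41, h42, h43, h44, h45, h46, h47, h48, h49, h50, h51, h52, h53, h54, h55, h56, h57, h58, h59, h60, h61, h62, h63, h64, h65, h66, h67, h68, h69, h70, h71⟩ := W_inj h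
  have el36 : l36 = l36' := by linear_combination h36
  subst el36
  have el37 : l37 = l37' := by linear_combination h37
  subst el37
  have el38 : l38 = l38' := by linear_combination h38
  subst el38
  have et39 : t39 = t39' := by linear_combination h39
  subst et39
  have el40 : l40 = l40' := by linear_combination h40
  subst el40
  have el41 : l41 = l41' := by linear_combination h41
  subst el41
  have et44 : t44 = t44' := by linear_combination h44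
  subst et44
  have el45 : l45 = l45' := by linear_combination h45
  subst el45
  have et46 : t46 = t46' := by linear_combination h46
  subst et46
  have et47 : t47 = t47' := by linear_combination h47
  subst et47
  have el48 : l48 = l48' := by linear_combination h48
  subst el48
  have el49 : l49 = l49' := by linear_combination h49
  subst el49
  have et51 : t51 = t51' := by linear_combination h51
  subst et51
  have el52 : l52 = l52' := by linear_combination h52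
  subst el52
  have et53 : t53 = t53' := by linear_combination h53
  subst et53
  have el54 : l54 = l54' := by linear_combination h54
  subst el54
  have el55 : l55 = l55' := by linear_combination h55
  subst el55
  have et60 : t60 = t60' := by linear_combination h60
  subst et60
  have et63 : t63 = t63' := by linear_combination h63
  subst et63
  have et65 : t65 = t65' := by linear_combination h65
  subst et65
  have el66 : l66 = l66' := by linear_combination h66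
  subst el66
  have et69 : t69 = t69' := by linear_combination h69
  subst et69
  have et70 : t70 = t70' := by linear_combination h70
  subst et70
  have et71 : t71 = t71' := by linear_combination h71
  subst et71
  exact ⟨rfl, rfl, rfl, rfl, rfl, rfl, rfl, rfl, rfl, rfl, rfl, rfl, rfl, rfl, rfl, rfl, rfl, rfl, rfl, rfl, rfl, rfl, rfl, rfl⟩

end Elt

section Fix

variable {K : Type*} [Field K] [CharP K 2] [Fintype K] (f : K ≃+* K)

theorem s_x {r : ℕ} (hr : r < chevE6.nroots) (t : K) : (τ f).s (x r t) = x (TwTabE6.S.r r) (f t) := by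
  have h := TwTabE6.ok.signTw_s hF TwTabE6.sign_ok TwTabE6.sq_ok TwTabE6.unit_ok TwTabE6.neg_ok f hr t
  rcases TwTabE6.unit_ok r hr with h1 | h1
  · rw [h1] at h
    simpa using h
  · rw [h1] at h
    simpa [CharTwo.neg_eq] using h


theorem rho_tab : TwTabE6.S.r 36 = 56 ∧ TwTabE6.S.r 37 = 42 ∧ TwTabE6.S.r 38 = 57 ∧ TwTabE6.S.r 39 = 39 ∧ TwTabE6.S.r 40 = 43 ∧ TwTabE6.S.r 41 = 58 ∧ TwTabE6.S.r 42 = 37 ∧ TwTabE6.S.r 43 = 40 ∧ TwTabE6.S.r 44 = 44 ∧ TwTabE6.S.r 45 = 59 ∧ TwTabE6.S.r 46 = 46 ∧ TwTabE6.S.r 47 = 47 ∧ TwTabE6.S.r 48 = 50 ∧ TwTabE6.S.r 49 = 61 ∧ TwTabE6.S.r 50 = 48 ∧ TwTabE6.S.r 51 = 51 ∧ TwTabE6.S.r 52 = 62 ∧ TwTabE6.S.r 53 = 53 ∧ TwTabE6.S.r 54 = 64 ∧ TwTabE6.S.r 55 = 67 ∧ TwTabE6.S.r 56 = 36 ∧ TwTabE6.S.r 57 = 38 ∧ TwTabE6.S.r 58 = 41 ∧ TwTabE6.S.r 59 = 45 ∧ TwTabE6.S.r 60 = 60 ∧ TwTabE6.S.r 61 = 49 ∧ TwTabE6.S.r 62 = 52 ∧ TwTabE6.S.r 63 = 63 ∧ TwTabE6.S.r 64 = 54 ∧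 TwTabE6.S.r 65 = 65 ∧ TwTabE6.S.r 66 = 68 ∧ TwTabE6.S.r 67 = 55 ∧ TwTabE6.S.r 68 = 66 ∧ TwTabE6.S.r 69 = 69 ∧ TwTabE6.S.r 70 = 70 ∧ TwTabE6.S.r 71 = 71 := by
  decide +kernel

theorem W_eq_word (a36 a37 a38 a39 a40 a41 a42 a43 a44 a45 a46 a47 a48 a49 a50 a51 a52 a53 a54 a55 a56 a57 a58 a59 a60 a61 a62 a63 a64 a65 a66 a67 a68 a69 a70 a71 : K) :
    W a36 a37 a38 a39 a40 a41 a42 a43 a44 a45 a46 a47 a48 a49 a50 a51 a52 a53 a54 a55 a56 a57 a58 a59 a60 a61 a62 a63 a64 a65 a66 a67 a68 a69 a70 a71 = hF.c.wordG [(36, a36), (37, a37), (38, a38), (39, a39), (40, a40), (41, a41), (42, a42), (43, a43), (44, a44), (45, a45), (46, a46), (47, a47), (48, a48), (49, a49), (50, a50), (51, a51), (52, a52), (53, a53), (54, a54), (55, a55), (56, a56), (57, a57), (58, a58), (59, a59), (60, a60), (61, a61), (62, a62), (63, a63), (64, a64), (65, a65), (66, a66), (67, a67), (68, a68), (69, a69), (70, a70),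 (71, a71)] := by
  simp only [W, Checks.wordG_cons, Checks.wordG_nil]

set_option maxHeartbeats 8000000 in
theorem s_W (a36 a37 a38 a39 a40 a41 a42 a43 a44 a45 a46 a47 a48 a49 a50 a51 a52 a53 a54 a55 a56 a57 a58 a59 a60 a61 a62 a63 a64 a65 a66 a67 a68 a69 a70 a71 : K) : (τ f).s (W a36 a37 a38 a39 a40 a41 a42 a43 a44 a45 a46 a47 a48 a49 a50 a51 a52 a53 a54 a55 a56 a57 a58 a59 a60 a61 a62 a63 a64 a65 a66 a67 a68 a69 a70 a71) = W ((f a56)) ((f a42)) ((f a57) + (f a42)*(f a56)) ((f a39)) ((f a43) + (f a39)*(f a42)) ((f a58) + (f a39)*(f a57) + (f a43)*(f a56) + (f a39)*(f a42)*(f a56)) ((f a37)) ((f a40) + (f a37)*(f a39)) ((f a44) + (f a37)*(f a43) + (f a40)*(f a42) + (f a37)*(f a39)*(f a42)) ((f a59) + (f a37)*(f a58) + (f a40)*(f a57) + (f a44)*(f a56) + (f a37)*(f a39)*(f a57) + (f a37)*(f a43)*(f a56) + (f a40)*(f a42)*(f a56) + (f a37)*(f a39)*(f a42)*(f a56)) ((f a46)) ((f a47))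 ((f a50)) ((f a61) + (f a46)*(f a58) + (f a47)*(f a57) + (f a50)*(f a56)) ((f a48)) ((f a51)) ((f a62) + (f a46)*(f a59) + (f a48)*(f a57) + (f a51)*(f a56)) ((f a53)) ((f a64) + (f a47)*(f a59) + (f a48)*(f a58) + (f a53)*(f a56)) ((f a67) + (f a50)*(f a59) + (f a51)*(f a58) + (f a53)*(f a57)) ((f a36)) ((f a38) + (f a36)*(f a37)) ((f a41) + (f a36)*(f a40) + (f a38)*(f a39) + (f a36)*(f a37)*(f a39)) ((f a45) + (f a36)*(f a44) + (f a38)*(f a43) + (f a41)*(f a42) + (f a36)*(f a37)*(f a43) + (f a36)*(f a40)*(f a42) + (f a38)*(f a39)*(f a42) + (f a36)*(f a37)*(f a39)*(f a42)) ((f a60) + (f a36)*(f a59) + (f a38)*(f a58) + (f a41)*(f a57) + (f a45)*(f a56) + (f a36)*(f a37)*(f a58) + (f a36)*(f a40)*(f a57) + (f a36)*(f a44)*(f a56) + (f a38)*(f a39)*(f a57) + (f a38)*(f a43)*(f a56) + (f a41)*(f a42)*(f a56) + (f a36)*(f a37)*(f a39)*(f a57) + (f a36)*(f a37)*(f a43)*(f a56) + (f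 a36)*(f a40)*(f a42)*(f a56) + (f a38)*(f a39)*(f a42)*(f a56) + (f a36)*(f a37)*(f a39)*(f a42)*(f a56)) ((f a49) + (f a36)*(f a48) + (f a38)*(f a47) + (f a41)*(f a46) + (f a36)*(f a37)*(f a47) + (f a36)*(f a40)*(f a46) + (f a38)*(f a39)*(f a46) + (f a36)*(f a37)*(f a39)*(f a46)) ((f a52) + (f a36)*(f a51) + (f a38)*(f a50) + (f a45)*(f a46) + (f a36)*(f a37)*(f a50) + (f a36)*(f a44)*(f a46) + (f a38)*(f a43)*(f a46) + (f a41)*(f a42)*(f a46) + (f a36)*(f a37)*(f a43)*(f a46) + (f a36)*(f a40)*(f a42)*(f a46) + (f a38)*(f a39)*(f a42)*(f a46) + (f a36)*(f a37)*(f a39)*(f a42)*(f a46)) ((f a63) + (f a36)*(f a62) + (f a38)*(f a61) + (f a49)*(f a57) + (f a52)*(f a56) + (f a36)*(f a37)*(f a61) + (f a36)*(f a48)*(f a57) + (f a36)*(f a51)*(f a56) + (f a38)*(f a47)*(f a57) + (f a38)*(f a50)*(f a56) + (f a41)*(f a46)*(f a57) + (f a45)*(f a46)*(f a56) + (f a36)*(f a37)*(f a47)*(f a57)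 + (f a36)*(f a37)*(f a50)*(f a56) + (f a36)*(f a40)*(f a46)*(f a57) + (f a36)*(f a44)*(f a46)*(f a56) + (f a38)*(f a39)*(f a46)*(f a57) + (f a38)*(f a43)*(f a46)*(f a56) + (f a41)*(f a42)*(f a46)*(f a56) + (f a36)*(f a37)*(f a39)*(f a46)*(f a57) + (f a36)*(f a37)*(f a43)*(f a46)*(f a56) + (f a36)*(f a40)*(f a42)*(f a46)*(f a56) + (f a38)*(f a39)*(f a42)*(f a46)*(f a56) + (f a36)*(f a37)*(f a39)*(f a42)*(f a46)*(f a56)) ((f a54) + (f a36)*(f a53) + (f a41)*(f a50) + (f a45)*(f a47) + (f a36)*(f a40)*(f a50) + (f a36)*(f a44)*(f a47) + (f a38)*(f a39)*(f a50) + (f a38)*(f a43)*(f a47) + (f a41)*(f a42)*(f a47) + (f a36)*(f a37)*(f a39)*(f a50) + (f a36)*(f a37)*(f a43)*(f a47) + (f a36)*(f a40)*(f a42)*(f a47) + (f a38)*(f a39)*(f a42)*(f a47) + (f a36)*(f a37)*(f a39)*(f a42)*(f a47)) ((f a65) + (f a36)*(f a64) + (f a41)*(f a61) + (f a49)*(f a58) + (f a54)*(f a56) + (f a36)*(f a40)*(f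 a61) + (f a36)*(f a48)*(f a58) + (f a36)*(f a53)*(f a56) + (f a38)*(f a39)*(f a61) + (f a38)*(f a47)*(f a58) + (f a41)*(f a46)*(f a58) + (f a41)*(f a50)*(f a56) + (f a45)*(f a47)*(f a56) + (f a36)*(f a37)*(f a39)*(f a61) + (f a36)*(f a37)*(f a47)*(f a58) + (f a36)*(f a40)*(f a46)*(f a58) + (f a36)*(f a40)*(f a50)*(f a56) + (f a36)*(f a44)*(f a47)*(f a56) + (f a38)*(f a39)*(f a46)*(f a58) + (f a38)*(f a39)*(f a50)*(f a56) + (f a38)*(f a43)*(f a47)*(f a56) + (f a41)*(f a42)*(f a47)*(f a56) + (f a36)*(f a37)*(f a39)*(f a46)*(f a58) + (f a36)*(f a37)*(f a39)*(f a50)*(f a56) + (f a36)*(f a37)*(f a43)*(f a47)*(f a56) + (f a36)*(f a40)*(f a42)*(f a47)*(f a56) + (f a38)*(f a39)*(f a42)*(f a47)*(f a56) + (f a36)*(f a37)*(f a39)*(f a42)*(f a47)*(f a56)) ((f a68) + (f a36)*(f a67) + (f a45)*(f a61) + (f a52)*(f a58) + (f a54)*(f a57) + (f a36)*(f a44)*(f a61) + (f a36)*(f a51)*(f a58) + (f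 a36)*(f a53)*(f a57) + (f a38)*(f a43)*(f a61) + (f a38)*(f a50)*(f a58) + (f a41)*(f a42)*(f a61) + (f a41)*(f a50)*(f a57) + (f a45)*(f a46)*(f a58) + (f a45)*(f a47)*(f a57) + (f a36)*(f a37)*(f a43)*(f a61) + (f a36)*(f a37)*(f a50)*(f a58) + (f a36)*(f a40)*(f a42)*(f a61) + (f a36)*(f a40)*(f a50)*(f a57) + (f a36)*(f a44)*(f a46)*(f a58) + (f a36)*(f a44)*(f a47)*(f a57) + (f a38)*(f a39)*(f a42)*(f a61) + (f a38)*(f a39)*(f a50)*(f a57) + (f a38)*(f a43)*(f a46)*(f a58) + (f a38)*(f a43)*(f a47)*(f a57) + (f a41)*(f a42)*(f a46)*(f a58) + (f a41)*(f a42)*(f a47)*(f a57) + (f a36)*(f a37)*(f a39)*(f a42)*(f a61) + (f a36)*(f a37)*(f a39)*(f a50)*(f a57) + (f a36)*(f a37)*(f a43)*(f a46)*(f a58) + (f a36)*(f a37)*(f a43)*(f a47)*(f a57) + (f a36)*(f a40)*(f a42)*(f a46)*(f a58) + (f a36)*(f a40)*(f a42)*(f a47)*(f a57) + (f a38)*(f a39)*(f a42)*(f a46)*(f a58) + (f a38)*(f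 a39)*(f a42)*(f a47)*(f a57) + (f a36)*(f a37)*(f a39)*(f a42)*(f a46)*(f a58) + (f a36)*(f a37)*(f a39)*(f a42)*(f a47)*(f a57)) ((f a55) + (f a38)*(f a53) + (f a41)*(f a51) + (f a45)*(f a48) + (f a36)*(f a37)*(f a53) + (f a36)*(f a40)*(f a51) + (f a36)*(f a44)*(f a48) + (f a38)*(f a39)*(f a51) + (f a38)*(f a43)*(f a48) + (f a41)*(f a42)*(f a48) + (f a36)*(f a37)*(f a39)*(f a51) + (f a36)*(f a37)*(f a43)*(f a48) + (f a36)*(f a40)*(f a42)*(f a48) + (f a38)*(f a39)*(f a42)*(f a48) + (f a36)*(f a37)*(f a39)*(f a42)*(f a48)) ((f a66) + (f a38)*(f a64) + (f a41)*(f a62) + (f a49)*(f a59) + (f a55)*(f a56) + (f a36)*(f a37)*(f a64) + (f a36)*(f a40)*(f a62) + (f a36)*(f a48)*(f a59) + (f a38)*(f a39)*(f a62) + (f a38)*(f a47)*(f a59) + (f a38)*(f a53)*(f a56) + (f a41)*(f a46)*(f a59) + (f a41)*(f a51)*(f a56) + (f a45)*(f a48)*(f a56) + (f a36)*(f a37)*(f a39)*(f a62) + (f a36)*(f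 a37)*(f a47)*(f a59) + (f a36)*(f a37)*(f a53)*(f a56) + (f a36)*(f a40)*(f a46)*(f a59) + (f a36)*(f a40)*(f a51)*(f a56) + (f a36)*(f a44)*(f a48)*(f a56) + (f a38)*(f a39)*(f a46)*(f a59) + (f a38)*(f a39)*(f a51)*(f a56) + (f a38)*(f a43)*(f a48)*(f a56) + (f a41)*(f a42)*(f a48)*(f a56) + (f a36)*(f a37)*(f a39)*(f a46)*(f a59) + (f a36)*(f a37)*(f a39)*(f a51)*(f a56) + (f a36)*(f a37)*(f a43)*(f a48)*(f a56) + (f a36)*(f a40)*(f a42)*(f a48)*(f a56) + (f a38)*(f a39)*(f a42)*(f a48)*(f a56) + (f a36)*(f a37)*(f a39)*(f a42)*(f a48)*(f a56)) ((f a69) + (f a38)*(f a67) + (f a45)*(f a62) + (f a52)*(f a59) + (f a55)*(f a57) + (f a36)*(f a37)*(f a67) + (f a36)*(f a44)*(f a62) + (f a36)*(f a51)*(f a59) + (f a38)*(f a43)*(f a62) + (f a38)*(f a50)*(f a59) + (f a38)*(f a53)*(f a57) + (f a41)*(f a42)*(f a62) + (f a41)*(f a51)*(f a57) + (f a45)*(f a46)*(f a59) + (f a45)*(f a48)*(f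 a57) + (f a36)*(f a37)*(f a43)*(f a62) + (f a36)*(f a37)*(f a50)*(f a59) + (f a36)*(f a37)*(f a53)*(f a57) + (f a36)*(f a40)*(f a42)*(f a62) + (f a36)*(f a40)*(f a51)*(f a57) + (f a36)*(f a44)*(f a46)*(f a59) + (f a36)*(f a44)*(f a48)*(f a57) + (f a38)*(f a39)*(f a42)*(f a62) + (f a38)*(f a39)*(f a51)*(f a57) + (f a38)*(f a43)*(f a46)*(f a59) + (f a38)*(f a43)*(f a48)*(f a57) + (f a41)*(f a42)*(f a46)*(f a59) + (f a41)*(f a42)*(f a48)*(f a57) + (f a36)*(f a37)*(f a39)*(f a42)*(f a62) + (f a36)*(f a37)*(f a39)*(f a51)*(f a57) + (f a36)*(f a37)*(f a43)*(f a46)*(f a59) + (f a36)*(f a37)*(f a43)*(f a48)*(f a57) + (f a36)*(f a40)*(f a42)*(f a46)*(f a59) + (f a36)*(f a40)*(f a42)*(f a48)*(f a57) + (f a38)*(f a39)*(f a42)*(f a46)*(f a59) + (f a38)*(f a39)*(f a42)*(f a48)*(f a57) + (f a36)*(f a37)*(f a39)*(f a42)*(f a46)*(f a59) + (f a36)*(f a37)*(f a39)*(f a42)*(f a48)*(f a57)) ((f a70)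 + (f a41)*(f a67) + (f a45)*(f a64) + (f a54)*(f a59) + (f a55)*(f a58) + (f a36)*(f a40)*(f a67) + (f a36)*(f a44)*(f a64) + (f a36)*(f a53)*(f a59) + (f a38)*(f a39)*(f a67) + (f a38)*(f a43)*(f a64) + (f a38)*(f a53)*(f a58) + (f a41)*(f a42)*(f a64) + (f a41)*(f a50)*(f a59) + (f a41)*(f a51)*(f a58) + (f a45)*(f a47)*(f a59) + (f a45)*(f a48)*(f a58) + (f a36)*(f a37)*(f a39)*(f a67) + (f a36)*(f a37)*(f a43)*(f a64) + (f a36)*(f a37)*(f a53)*(f a58) + (f a36)*(f a40)*(f a42)*(f a64) + (f a36)*(f a40)*(f a50)*(f a59) + (f a36)*(f a40)*(f a51)*(f a58) + (f a36)*(f a44)*(f a47)*(f a59) + (f a36)*(f a44)*(f a48)*(f a58) + (f a38)*(f a39)*(f a42)*(f a64) + (f a38)*(f a39)*(f a50)*(f a59) + (f a38)*(f a39)*(f a51)*(f a58) + (f a38)*(f a43)*(f a47)*(f a59) + (f a38)*(f a43)*(f a48)*(f a58) + (f a41)*(f a42)*(f a47)*(f a59) + (f a41)*(f a42)*(f a48)*(f a58) + (f a36)*(f a37)*(f a39)*(f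 a42)*(f a64) + (f a36)*(f a37)*(f a39)*(f a50)*(f a59) + (f a36)*(f a37)*(f a39)*(f a51)*(f a58) + (f a36)*(f a37)*(f a43)*(f a47)*(f a59) + (f a36)*(f a37)*(f a43)*(f a48)*(f a58) + (f a36)*(f a40)*(f a42)*(f a47)*(f a59) + (f a36)*(f a40)*(f a42)*(f a48)*(f a58) + (f a38)*(f a39)*(f a42)*(f a47)*(f a59) + (f a38)*(f a39)*(f a42)*(f a48)*(f a58) + (f a36)*(f a37)*(f a39)*(f a42)*(f a47)*(f a59) + (f a36)*(f a37)*(f a39)*(f a42)*(f a48)*(f a58)) ((f a71) + (f a49)*(f a67) + (f a52)*(f a64) + (f a54)*(f a62) + (f a55)*(f a61) + (f a36)*(f a48)*(f a67) + (f a36)*(f a51)*(f a64) + (f a36)*(f a53)*(f a62) + (f a38)*(f a47)*(f a67) + (f a38)*(f a50)*(f a64) + (f a38)*(f a53)*(f a61) + (f a41)*(f a46)*(f a67) + (f a41)*(f a50)*(f a62) + (f a41)*(f a51)*(f a61) + (f a45)*(f a46)*(f a64) + (f a45)*(f a47)*(f a62) + (f a45)*(f a48)*(f a61) + (f a36)*(f a37)*(f a47)*(f a67) + (f a36)*(f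 a37)*(f a50)*(f a64) + (f a36)*(f a37)*(f a53)*(f a61) + (f a36)*(f a40)*(f a46)*(f a67) + (f a36)*(f a40)*(f a50)*(f a62) + (f a36)*(f a40)*(f a51)*(f a61) + (f a36)*(f a44)*(f a46)*(f a64) + (f a36)*(f a44)*(f a47)*(f a62) + (f a36)*(f a44)*(f a48)*(f a61) + (f a38)*(f a39)*(f a46)*(f a67) + (f a38)*(f a39)*(f a50)*(f a62) + (f a38)*(f a39)*(f a51)*(f a61) + (f a38)*(f a43)*(f a46)*(f a64) + (f a38)*(f a43)*(f a47)*(f a62) + (f a38)*(f a43)*(f a48)*(f a61) + (f a41)*(f a42)*(f a46)*(f a64) + (f a41)*(f a42)*(f a47)*(f a62) + (f a41)*(f a42)*(f a48)*(f a61) + (f a36)*(f a37)*(f a39)*(f a46)*(f a67) + (f a36)*(f a37)*(f a39)*(f a50)*(f a62) + (f a36)*(f a37)*(f a39)*(f a51)*(f a61) + (f a36)*(f a37)*(f a43)*(f a46)*(f a64) + (f a36)*(f a37)*(f a43)*(f a47)*(f a62) + (f a36)*(f a37)*(f a43)*(f a48)*(f a61) + (f a36)*(f a40)*(f a42)*(f a46)*(f a64) + (f a36)*(f a40)*(f a42)*(f a47)*(f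 a62) + (f a36)*(f a40)*(f a42)*(f a48)*(f a61) + (f a38)*(f a39)*(f a42)*(f a46)*(f a64) + (f a38)*(f a39)*(f a42)*(f a47)*(f a62) + (f a38)*(f a39)*(f a42)*(f a48)*(f a61) + (f a36)*(f a37)*(f a39)*(f a42)*(f a46)*(f a64) + (f a36)*(f a37)*(f a39)*(f a42)*(f a47)*(f a62) + (f a36)*(f a37)*(f a39)*(f a42)*(f a48)*(f a61)) := by
  have h2 : (2 : K) = 0 := CharTwo.two_eq_zero
  obtain ⟨r36, r37, r38, r39, r40, r41, r42, r43, r44, r45, r46, r47, r48, r49, r50, r51, r52, r53, r54, r55, r56, r57, r58, r59, r60, r61, r62, r63, r64, r65, r66, r67, r68, r69, r70, r71⟩ := rho_tab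
  have hlt : ∀ r ∈ ([36, 37, 38, 39, 40, 41, 42, 43, 44, 45, 46, 47, 48, 49, 50, 51, 52, 53, 54, 55, 56, 57, 58, 59, 60, 61, 62, 63, 64, 65, 66, 67, 68, 69, 70, 71] : List ℕ), r < chevE6.nroots := by decide +kernel
  rw [W_eq_word, (τ f).s_wordG _ (fun p hp => by
      apply hlt
      simp only [List.mem_cons, List.not_mem_nil, or_false] at hp
      rcases hp with rfl | rfl | rfl | rfl | rfl | rfl | rfl | rfl | rfl | rfl | rfl | rfl | rfl | rfl | rfl | rfl | rfl | rfl | rfl | rfl | rfl | rfl | rfl | rfl | rfl | rfl | rfl | rfl | rfl | rfl | rfl | rfl | rfl | rfl | rfl | rfl <;> simp)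
    (ρ' := TwTabE6.S.r) (c' := fun _ t => f t) (fun p hp => by
      apply s_x
      apply hlt
      simp only [List.mem_cons, List.not_mem_nil, or_false] at hp
      rcases hp with rfl | rfl | rfl | rfl | rfl | rfl | rfl | rfl | rfl | rfl | rfl | rfl | rfl | rfl | rfl | rfl | rfl | rfl | rfl | rfl | rfl | rfl | rfl | rfl | rfl | rfl | rfl | rfl | rfl | rfl | rfl | rfl | rfl | rfl | rfl | rfl <;> simp)]
  simp only [List.map_cons, List.map_nil, r36, r37, r38, r39, r40, r41, r42, r43, r44, r45, r46, r47, r48, r49, r50, r51, r52, r53, r54, r55, r56, r57, r58, r59, r60, r61, r62, r63, r64, r65, r66, r67, r68, r69, r70, r71, Checks.wordG_cons, Checks.wordG_nil]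
  unfold W
  show x 56 (f a36) * (x 42 (f a37) * (x 57 (f a38) * (x 39 (f a39) * (x 43 (f a40) * (x 58 (f a41) * (x 37 (f a42) * (x 40 (f a43) * (x 44 (f a44) * (x 59 (f a45) * (x 46 (f a46) * (x 47 (f a47) * (x 50 (f a48) * (x 61 (f a49) * (x 48 (f a50) * (x 51 (f a51) * (x 62 (f a52) * (x 53 (f a53) * (x 64 (f a54) * (x 67 (f a55) * (x 36 (f a56) * (x 38 (f a57) * (x 41 (f a58) * (x 45 (f a59) * (x 60 (f a60) * (x 49 (f a61) * (x 52 (f a62) * (x 63 (f a63) * (x 54 (f a64) * (x 65 (f a65) * (x 68 (f a66) * (x 55 (f a67) * (x 66 (f a68) * (x 69 (f a69) * (x 70 (f a70) * (x 71 (f a71) * 1))))))))))))))))))))))))))))))))))) = _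
  simp only [mul_assoc, one_mul, s_37_36, s_38_36, s_39_36, s_40_36, s_41_36, s_42_36, s_43_36, s_44_36, s_45_36, s_46_36, s_47_36, s_48_36, s_49_36, s_50_36, s_51_36, s_52_36, s_53_36, s_54_36, s_55_36, s_56_36, s_57_36, s_58_36, s_59_36, s_60_36, s_61_36, s_62_36, s_63_36, s_64_36, s_65_36, s_66_36, s_67_36, s_68_36, s_69_36, s_70_36, s_71_36, s_38_37, s_39_37, s_40_37, s_41_37, s_42_37, s_43_37, s_44_37, s_45_37, s_46_37, s_47_37, s_48_37, s_49_37, s_50_37, s_51_37, s_52_37, s_53_37, s_54_37, s_55_37, s_56_37, s_57_37, s_58_37, s_59_37, s_60_37, s_61_37, s_62_37, s_63_37, s_64_37, s_65_37, s_66_37, s_67_37, s_68_37, s_69_37, s_70_37, s_71_37, s_39_38, s_40_38, s_41_38, s_42_38, s_43_38, s_44_38, s_45_38, s_46_38, s_47_38, s_48_38, s_49_38, s_50_38, s_51_38, s_52_38, s_53_38, s_54_38, s_55_38, s_56_38, s_57_38, s_58_38, s_59_38, s_60_38, s_61_38, s_62_38, s_63_38, s_64_38, s_65_38,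 s_66_38, s_67_38, s_68_38, s_69_38, s_70_38, s_71_38, s_40_39, s_41_39, s_42_39, s_43_39, s_44_39, s_45_39, s_46_39, s_47_39, s_48_39, s_49_39, s_50_39, s_51_39, s_52_39, s_53_39, s_54_39, s_55_39, s_56_39, s_57_39, s_58_39, s_59_39, s_60_39, s_61_39, s_62_39, s_63_39, s_64_39, s_65_39, s_66_39, s_67_39, s_68_39, s_69_39, s_70_39, s_71_39, s_41_40, s_42_40, s_43_40, s_44_40, s_45_40, s_46_40, s_47_40, s_48_40, s_49_40, s_50_40, s_51_40, s_52_40, s_53_40, s_54_40, s_55_40, s_56_40, s_57_40, s_58_40, s_59_40, s_60_40, s_61_40, s_62_40, s_63_40, s_64_40, s_65_40, s_66_40, s_67_40, s_68_40, s_69_40, s_70_40, s_71_40, s_42_41, s_43_41, s_44_41, s_45_41, s_46_41, s_47_41, s_48_41, s_49_41, s_50_41, s_51_41, s_52_41, s_53_41, s_54_41, s_55_41, s_56_41, s_57_41, s_58_41, s_59_41, s_60_41, s_61_41, s_62_41, s_63_41, s_64_41, s_65_41, s_66_41, s_67_41, s_68_41, s_69_41, s_70_41, s_71_41,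 s_43_42, s_44_42, s_45_42, s_46_42, s_47_42, s_48_42, s_49_42, s_50_42, s_51_42, s_52_42, s_53_42, s_54_42, s_55_42, s_56_42, s_57_42, s_58_42, s_59_42, s_60_42, s_61_42, s_62_42, s_63_42, s_64_42, s_65_42, s_66_42, s_67_42, s_68_42, s_69_42, s_70_42, s_71_42, s_44_43, s_45_43, s_46_43, s_47_43, s_48_43, s_49_43, s_50_43, s_51_43, s_52_43, s_53_43, s_54_43, s_55_43, s_56_43, s_57_43, s_58_43, s_59_43, s_60_43, s_61_43, s_62_43, s_63_43, s_64_43, s_65_43, s_66_43, s_67_43, s_68_43, s_69_43, s_70_43, s_71_43, s_45_44, s_46_44, s_47_44, s_48_44, s_49_44, s_50_44, s_51_44, s_52_44, s_53_44, s_54_44, s_55_44, s_56_44, s_57_44, s_58_44, s_59_44, s_60_44, s_61_44, s_62_44, s_63_44, s_64_44, s_65_44, s_66_44, s_67_44, s_68_44, s_69_44, s_70_44, s_71_44, s_46_45, s_47_45, s_48_45, s_49_45, s_50_45, s_51_45, s_52_45, s_53_45, s_54_45, s_55_45, s_56_45, s_57_45, s_58_45, s_59_45, s_60_45,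 s_61_45, s_62_45, s_63_45, s_64_45, s_65_45, s_66_45, s_67_45, s_68_45, s_69_45, s_70_45, s_71_45, s_47_46, s_48_46, s_49_46, s_50_46, s_51_46, s_52_46, s_53_46, s_54_46, s_55_46, s_56_46, s_57_46, s_58_46, s_59_46, s_60_46, s_61_46, s_62_46, s_63_46, s_64_46, s_65_46, s_66_46, s_67_46, s_68_46, s_69_46, s_70_46, s_71_46, s_48_47, s_49_47, s_50_47, s_51_47, s_52_47, s_53_47, s_54_47, s_55_47, s_56_47, s_57_47, s_58_47, s_59_47, s_60_47, s_61_47, s_62_47, s_63_47, s_64_47, s_65_47, s_66_47, s_67_47, s_68_47, s_69_47, s_70_47, s_71_47, s_49_48, s_50_48, s_51_48, s_52_48, s_53_48, s_54_48, s_55_48, s_56_48, s_57_48, s_58_48, s_59_48, s_60_48, s_61_48, s_62_48, s_63_48, s_64_48, s_65_48, s_66_48, s_67_48, s_68_48, s_69_48, s_70_48, s_71_48, s_50_49, s_51_49, s_52_49, s_53_49, s_54_49, s_55_49, s_56_49, s_57_49, s_58_49, s_59_49, s_60_49, s_61_49, s_62_49, s_63_49, s_64_49, s_65_49,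 s_66_49, s_67_49, s_68_49, s_69_49, s_70_49, s_71_49, s_51_50, s_52_50, s_53_50, s_54_50, s_55_50, s_56_50, s_57_50, s_58_50, s_59_50, s_60_50, s_61_50, s_62_50, s_63_50, s_64_50, s_65_50, s_66_50, s_67_50, s_68_50, s_69_50, s_70_50, s_71_50, s_52_51, s_53_51, s_54_51, s_55_51, s_56_51, s_57_51, s_58_51, s_59_51, s_60_51, s_61_51, s_62_51, s_63_51, s_64_51, s_65_51, s_66_51, s_67_51, s_68_51, s_69_51, s_70_51, s_71_51, s_53_52, s_54_52, s_55_52, s_56_52, s_57_52, s_58_52, s_59_52, s_60_52, s_61_52, s_62_52, s_63_52, s_64_52, s_65_52, s_66_52, s_67_52, s_68_52, s_69_52, s_70_52, s_71_52, s_54_53, s_55_53, s_56_53, s_57_53, s_58_53, s_59_53, s_60_53, s_61_53, s_62_53, s_63_53, s_64_53, s_65_53, s_66_53, s_67_53, s_68_53, s_69_53, s_70_53, s_71_53, s_55_54, s_56_54, s_57_54, s_58_54, s_59_54, s_60_54, s_61_54, s_62_54, s_63_54, s_64_54, s_65_54, s_66_54, s_67_54, s_68_54, s_69_54,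 s_70_54, s_71_54, s_56_55, s_57_55, s_58_55, s_59_55, s_60_55, s_61_55, s_62_55, s_63_55, s_64_55, s_65_55, s_66_55, s_67_55, s_68_55, s_69_55, s_70_55, s_71_55, s_57_56, s_58_56, s_59_56, s_60_56, s_61_56, s_62_56, s_63_56, s_64_56, s_65_56, s_66_56, s_67_56, s_68_56, s_69_56, s_70_56, s_71_56, s_58_57, s_59_57, s_60_57, s_61_57, s_62_57, s_63_57, s_64_57, s_65_57, s_66_57, s_67_57, s_68_57, s_69_57, s_70_57, s_71_57, s_59_58, s_60_58, s_61_58, s_62_58, s_63_58, s_64_58, s_65_58, s_66_58, s_67_58, s_68_58, s_69_58, s_70_58, s_71_58, s_60_59, s_61_59, s_62_59, s_63_59, s_64_59, s_65_59, s_66_59, s_67_59, s_68_59, s_69_59, s_70_59, s_71_59, s_61_60, s_62_60, s_63_60, s_64_60, s_65_60, s_66_60, s_67_60, s_68_60, s_69_60, s_70_60, s_71_60, s_62_61, s_63_61, s_64_61, s_65_61, s_66_61, s_67_61, s_68_61, s_69_61, s_70_61, s_71_61, s_63_62, s_64_62, s_65_62, s_66_62, s_67_62, s_68_62,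 s_69_62, s_70_62, s_71_62, s_64_63, s_65_63, s_66_63, s_67_63, s_68_63, s_69_63, s_70_63, s_71_63, s_65_64, s_66_64, s_67_64, s_68_64, s_69_64, s_70_64, s_71_64, s_66_65, s_67_65, s_68_65, s_69_65, s_70_65, s_71_65, s_67_66, s_68_66, s_69_66, s_70_66, s_71_66, s_68_67, s_69_67, s_70_67, s_71_67, s_69_68, s_70_68, s_71_68, s_70_69, s_71_69, s_71_70, mg_36, mg_37, mg_38, mg_39, mg_40, mg_41, mg_42, mg_43, mg_44, mg_45, mg_46, mg_47, mg_48, mg_49, mg_50, mg_51, mg_52, mg_53, mg_54, mg_55, mg_56, mg_57, mg_58, mg_59, mg_60, mg_61, mg_62, mg_63, mg_64, mg_65, mg_66, mg_67, mg_68, mg_69, mg_70, mg_71]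
  exact congrArg₂ (· * ·) (congrArg (x 36) (by first | ring1 | (rw [← sub_eq_zero]; ring_nf; simp [h2]))) (congrArg₂ (· * ·) (congrArg (x 37) (by first | ring1 | (rw [← sub_eq_zero]; ring_nf; simp [h2]))) (congrArg₂ (· * ·) (congrArg (x 38) (by first | ring1 | (rw [← sub_eq_zero]; ring_nf; simp [h2]))) (congrArg₂ (· * ·) (congrArg (x 39) (by first | ring1 | (rw [← sub_eq_zero]; ring_nf; simp [h2]))) (congrArg₂ (· * ·) (congrArg (x 40) (by first | ring1 | (rw [← sub_eq_zero]; ring_nf; simp [h2]))) (congrArg₂ (· * ·) (congrArg (x 41) (by first | ring1 | (rw [← sub_eq_zero]; ring_nf; simp [h2]))) (congrArg₂ (· * ·) (congrArg (x 42) (by first | ring1 | (rw [← sub_eq_zero]; ring_nf; simp [h2]))) (congrArg₂ (· * ·) (congrArg (x 43) (by first | ring1 | (rw [← sub_eq_zero]; ring_nf; simp [h2]))) (congrArg₂ (· * ·) (congrArg (x 44) (by first | ring1 | (rw [← sub_eq_zero]; ring_nf; simp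 [h2]))) (congrArg₂ (· * ·) (congrArg (x 45) (by first | ring1 | (rw [← sub_eq_zero]; ring_nf; simp [h2]))) (congrArg₂ (· * ·) (congrArg (x 46) (by first | ring1 | (rw [← sub_eq_zero]; ring_nf; simp [h2]))) (congrArg₂ (· * ·) (congrArg (x 47) (by first | ring1 | (rw [← sub_eq_zero]; ring_nf; simp [h2]))) (congrArg₂ (· * ·) (congrArg (x 48) (by first | ring1 | (rw [← sub_eq_zero]; ring_nf; simp [h2]))) (congrArg₂ (· * ·) (congrArg (x 49) (by first | ring1 | (rw [← sub_eq_zero]; ring_nf; simp [h2]))) (congrArg₂ (· * ·) (congrArg (x 50) (by first | ring1 | (rw [← sub_eq_zero]; ring_nf; simp [h2]))) (congrArg₂ (· * ·) (congrArg (x 51) (by first | ring1 | (rw [← sub_eq_zero]; ring_nf; simp [h2]))) (congrArg₂ (· * ·) (congrArg (x 52) (by first | ring1 | (rw [← sub_eq_zero]; ring_nf; simp [h2]))) (congrArg₂ (· * ·) (congrArg (x 53) (by first | ring1 | (rw [← sub_eq_zero]; ring_nf; simp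 [h2]))) (congrArg₂ (· * ·) (congrArg (x 54) (by first | ring1 | (rw [← sub_eq_zero]; ring_nf; simp [h2]))) (congrArg₂ (· * ·) (congrArg (x 55) (by first | ring1 | (rw [← sub_eq_zero]; ring_nf; simp [h2]))) (congrArg₂ (· * ·) (congrArg (x 56) (by first | ring1 | (rw [← sub_eq_zero]; ring_nf; simp [h2]))) (congrArg₂ (· * ·) (congrArg (x 57) (by first | ring1 | (rw [← sub_eq_zero]; ring_nf; simp [h2]))) (congrArg₂ (· * ·) (congrArg (x 58) (by first | ring1 | (rw [← sub_eq_zero]; ring_nf; simp [h2]))) (congrArg₂ (· * ·) (congrArg (x 59) (by first | ring1 | (rw [← sub_eq_zero]; ring_nf; simp [h2]))) (congrArg₂ (· * ·) (congrArg (x 60) (by first | ring1 | (rw [← sub_eq_zero]; ring_nf; simp [h2]))) (congrArg₂ (· * ·) (congrArg (x 61) (by first | ring1 | (rw [← sub_eq_zero]; ring_nf; simp [h2]))) (congrArg₂ (· * ·) (congrArg (x 62) (by first | ring1 | (rw [← sub_eq_zero]; ring_nf; simp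 [h2]))) (congrArg₂ (· * ·) (congrArg (x 63) (by first | ring1 | (rw [← sub_eq_zero]; ring_nf; simp [h2]))) (congrArg₂ (· * ·) (congrArg (x 64) (by first | ring1 | (rw [← sub_eq_zero]; ring_nf; simp [h2]))) (congrArg₂ (· * ·) (congrArg (x 65) (by first | ring1 | (rw [← sub_eq_zero]; ring_nf; simp [h2]))) (congrArg₂ (· * ·) (congrArg (x 66) (by first | ring1 | (rw [← sub_eq_zero]; ring_nf; simp [h2]))) (congrArg₂ (· * ·) (congrArg (x 67) (by first | ring1 | (rw [← sub_eq_zero]; ring_nf; simp [h2]))) (congrArg₂ (· * ·) (congrArg (x 68) (by first | ring1 | (rw [← sub_eq_zero]; ring_nf; simp [h2]))) (congrArg₂ (· * ·) (congrArg (x 69) (by first | ring1 | (rw [← sub_eq_zero]; ring_nf; simp [h2]))) (congrArg₂ (· * ·) (congrArg (x 70) (by first | ring1 | (rw [← sub_eq_zero]; ring_nf; simp [h2]))) (congrArg₂ (· * ·) (congrArg (x 71) (by first | ring1 | (rw [← sub_eq_zero]; ring_nf; simp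 [h2]))) (rfl))))))))))))))))))))))))))))))))))))

set_option maxHeartbeats 8000000 in
theorem s_E (hff : ∀ t, f (f t) = t) (l36 l37 l38 t39 l40 l41 t44 l45 t46 t47 l48 l49 t51 l52 t53 l54 l55 t60 t63 t65 l66 t69 t70 t71 : K) :
    (τ f).s (E f l36 l37 l38 t39 l40 l41 t44 l45 t46 t47 l48 l49 t51 l52 t53 l54 l55 t60 t63 t65 l66 t69 t70 t71) = E f l36 l37 l38 (f t39) l40 l41 (f t44) l45 (f t46) (f t47) l48 l49 (f t51) l52 (f t53) l54 l55 (f t60) (f t63) (f t65) l66 (f t69) (f t70) (f t71) := by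
  have h2 : (2 : K) = 0 := CharTwo.two_eq_zero
  unfold E
  rw [s_W]
  apply W_congr
  · (try simp only [map_add, map_mul, map_pow, hff]) <;> linear_combination (0 : K) * h2
  · (try simp only [map_add, map_mul, map_pow, hff]) <;> linear_combination (0 : K) * h2
  · (try simp only [map_add, map_mul, map_pow, hff]) <;> linear_combination (l36*l37) * h2
  · (try simp only [map_add, map_mul, map_pow, hff]) <;> linear_combination (0 : K) * h2
  · (try simp only [map_add, map_mul, map_pow, hff]) <;> linear_combination (l37*(f t39)) * h2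
  · (try simp only [map_add, map_mul, map_pow, hff]) <;> linear_combination (l36*l40 + l38*(f t39) + 2*l36*l37*(f t39)) * h2
  · (try simp only [map_add, map_mul, map_pow, hff]) <;> linear_combination (0 : K) * h2
  · (try simp only [map_add, map_mul, map_pow, hff]) <;> linear_combination (0 : K) * h2
  · (try simp only [map_add, map_mul, map_pow, hff]) <;> linear_combination (l37*(f l40) + l37*(f l37)*(f t39)) * h2
  · (try simp only [map_add, map_mul, map_pow, hff]) <;> linear_combination (l36*(f t44) + l38*(f l40) + 2*l36*l37*(f l40) + l36*l40*(f l37) + l38*(f l37)*(f t39) + 2*l36*l37*(f l37)*(f t39)) * h2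
  · (try simp only [map_add, map_mul, map_pow, hff]) <;> linear_combination (0 : K) * h2
  · (try simp only [map_add, map_mul, map_pow, hff]) <;> linear_combination (0 : K) * h2
  · (try simp only [map_add, map_mul, map_pow, hff]) <;> linear_combination (0 : K) * h2
  · (try simp only [map_add, map_mul, map_pow, hff]) <;> linear_combination (l36*l48 + l38*(f t47) + l41*(f t46) + l36*l37*(f t47) + l36*l40*(f t46) + l38*(f t39)*(f t46) + l36*l37*(f t39)*(f t46)) * h2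
  · (try simp only [map_add, map_mul, map_pow, hff]) <;> linear_combination (0 : K) * h2
  · (try simp only [map_add, map_mul, map_pow, hff]) <;> linear_combination (0 : K) * h2
  · (try simp only [map_add, map_mul, map_pow, hff]) <;> linear_combination (l36*(f t51) + l38*(f l48) + l45*(f t46) + l36*l37*(f l48) + l36*(f t44)*(f t46) + l38*(f l40)*(f t46) + l36*l37*(f l40)*(f t46)) * h2
  · (try simp only [map_add, map_mul, map_pow, hff]) <;> linear_combination (0 : K) * h2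
  · (try simp only [map_add, map_mul, map_pow, hff]) <;> linear_combination (l36*(f t53) + l41*(f l48) + l45*(f t47) + l36*l40*(f l48) + l36*(f t44)*(f t47) + l38*(f l40)*(f t47) + l38*(f l48)*(f t39) + l36*l37*(f l40)*(f t47) + l36*l37*(f l48)*(f t39)) * h2
  · (try simp only [map_add, map_mul, map_pow, hff]) <;> linear_combination (l38*(f t53) + l41*(f t51) + l45*l48 + l36*l37*(f t53) + l36*l40*(f t51) + l36*l48*(f t44) + l38*l48*(f l40) + l38*(f t39)*(f t51) + l36*l37*l48*(f l40) + l36*l37*(f t39)*(f t51)) * h2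
  · (try simp only [map_add, map_mul, map_pow, hff]) <;> linear_combination (0 : K) * h2
  · (try simp only [map_add, map_mul, map_pow, hff]) <;> linear_combination (0 : K) * h2
  · (try simp only [map_add, map_mul, map_pow, hff]) <;> linear_combination (0 : K) * h2
  · (try simp only [map_add, map_mul, map_pow, hff]) <;> linear_combination (l37*(f l41) + l37*(f l36)*(f l40) + l37*(f l38)*(f t39) + l37*(f l36)*(f l37)*(f t39)) * h2
  · (try simp only [map_add, map_mul, map_pow, hff]) <;> linear_combination (l36*(f l45) + l38*(f l41) + 2*l36*l37*(f l41) + l36*l40*(f l38) + l36*(f l36)*(f t44) + l38*(f l36)*(f l40) + l38*(f l38)*(f t39) + 2*l36*l37*(f l36)*(f l40) + 2*l36*l37*(f l38)*(f t39) + l36*l40*(f l36)*(f l37) + l38*(f l36)*(f l37)*(f t39) + 2*l36*l37*(f l36)*(f l37)*(f t39)) * h2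
  · (try simp only [map_add, map_mul, map_pow, hff]) <;> linear_combination (0 : K) * h2
  · (try simp only [map_add, map_mul, map_pow, hff]) <;> linear_combination (l37*(f l41)*(f t46) + l37*(f l36)*(f l40)*(f t46) + l37*(f l38)*(f t39)*(f t46) + l37*(f l36)*(f l37)*(f t39)*(f t46)) * h2
  · (try simp only [map_add, map_mul, map_pow, hff]) <;> linear_combination (l36*(f l52) + l38*(f l49) + l36*l37*(f l49) + l36*l48*(f l38) + l36*(f l36)*(f t51) + l36*(f l45)*(f t46) + l38*(f l36)*(f l48) + l38*(f l38)*(f t47) + l38*(f l41)*(f t46) + l36*l37*(f l36)*(f l48) + l36*l37*(f l38)*(f t47) + 2*l36*l37*(f l41)*(f t46) + l36*l40*(f l38)*(f t46) + l36*l48*(f l36)*(f l37) + l36*(f l36)*(f t44)*(f t46) + l38*(f l36)*(f l37)*(f t47) + l38*(f l36)*(f l40)*(f t46) + l38*(f l38)*(f t39)*(f t46) + l36*l37*(f l36)*(f l37)*(f t47) + 2*l36*l37*(f l36)*(f l40)*(f t46) + 2*l36*l37*(f l38)*(f t39)*(f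 t46) + l36*l40*(f l36)*(f l37)*(f t46) + l38*(f l36)*(f l37)*(f t39)*(f t46) + 2*l36*l37*(f l36)*(f l37)*(f t39)*(f t46)) * h2
  · (try simp only [map_add, map_mul, map_pow, hff]) <;> linear_combination (l37*(f l41)*(f t47) + l37*(f l36)*(f l40)*(f t47) + l37*(f l38)*(f t39)*(f t47) + l37*(f l36)*(f l37)*(f t39)*(f t47)) * h2
  · (try simp only [map_add, map_mul, map_pow, hff]) <;> linear_combination (l36*(f l54) + l41*(f l49) + l36*l40*(f l49) + l36*l48*(f l41) + l36*(f l36)*(f t53) + l36*(f l45)*(f t47) + l38*(f l41)*(f t47) + l38*(f l49)*(f t39) + l41*(f l36)*(f l48) + l41*(f l41)*(f t46) + 2*l36*l37*(f l41)*(f t47) + l36*l37*(f l49)*(f t39) + l36*l40*(f l36)*(f l48) + l36*l40*(f l38)*(f t47) + l36*l40*(f l41)*(f t46) + l36*l48*(f l36)*(f l40) + l36*l48*(f l38)*(f t39) + l36*(f l36)*(f t44)*(f t47) + l38*(f l36)*(f l40)*(f t47) + l38*(f l36)*(f l48)*(f t39) + l38*(f l38)*(f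 t39)*(f t47) + l38*(f l41)*(f t39)*(f t46) + l41*(f l36)*(f l40)*(f t46) + l41*(f l38)*(f t39)*(f t46) + 2*l36*l37*(f l36)*(f l40)*(f t47) + l36*l37*(f l36)*(f l48)*(f t39) + 2*l36*l37*(f l38)*(f t39)*(f t47) + l36*l37*(f l41)*(f t39)*(f t46) + l36*l40*(f l36)*(f l37)*(f t47) + l36*l40*(f l36)*(f l40)*(f t46) + l36*l40*(f l38)*(f t39)*(f t46) + l36*l48*(f l36)*(f l37)*(f t39) + l38*(f l36)*(f l37)*(f t39)*(f t47) + l38*(f l36)*(f l40)*(f t39)*(f t46) + l38*(f l38)*(f t39)^2*(f t46) + l41*(f l36)*(f l37)*(f t39)*(f t46) + 2*l36*l37*(f l36)*(f l37)*(f t39)*(f t47) + l36*l37*(f l36)*(f l40)*(f t39)*(f t46) + l36*l37*(f l38)*(f t39)^2*(f t46) + l36*l40*(f l36)*(f l37)*(f t39)*(f t46) + l38*(f l36)*(f l37)*(f t39)^2*(f t46) + l36*l37*(f l36)*(f l37)*(f t39)^2*(f t46)) * h2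
  · (try simp only [map_add, map_mul, map_pow, hff]) <;> linear_combination (l38*(f l54) + l41*(f l52) + l36*l37*(f l54) + l36*l40*(f l52) + l36*l48*(f l45) + l37*l49*(f l41) + l38*l48*(f l41) + l38*(f l36)*(f t53) + l38*(f l45)*(f t47) + l38*(f l52)*(f t39) + l41*(f l36)*(f t51) + l41*(f l45)*(f t46) + 2*l36*l37*l48*(f l41) + l36*l37*(f l36)*(f t53) + l36*l37*(f l45)*(f t47) + l36*l37*(f l52)*(f t39) + l36*l40*l48*(f l38) + l36*l40*(f l36)*(f t51) + l36*l40*(f l45)*(f t46) + l36*l48*(f l36)*(f t44) + 2*l37*l38*(f l41)*(f t47) + 2*l37*l41*(f l41)*(f t46) + l37*l49*(f l36)*(f l40) + l37*l49*(f l38)*(f t39) + l38*l40*(f l38)*(f t47) + l38*l48*(f l36)*(f l40) + l38*l48*(f l38)*(f t39) + l38*(f l36)*(f t39)*(f t51) + l38*(f l36)*(f t44)*(f t47) + l38*(f l45)*(f t39)*(f t46) + l40*l41*(f l38)*(f t46) + l41*(f l36)*(f t44)*(f t46) + 2*l36*l37^2*(f l41)*(f t47) + l36*l37*l40*(f l38)*(f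 t47) + 2*l36*l37*l40*(f l41)*(f t46) + 2*l36*l37*l48*(f l36)*(f l40) + 2*l36*l37*l48*(f l38)*(f t39) + l36*l37*(f l36)*(f t39)*(f t51) + l36*l37*(f l36)*(f t44)*(f t47) + l36*l37*(f l45)*(f t39)*(f t46) + l36*l40^2*(f l38)*(f t46) + l36*l40*l48*(f l36)*(f l37) + l36*l40*(f l36)*(f t44)*(f t46) + 2*l37*l38*(f l36)*(f l40)*(f t47) + 2*l37*l38*(f l38)*(f t39)*(f t47) + 2*l37*l38*(f l41)*(f t39)*(f t46) + 2*l37*l41*(f l36)*(f l40)*(f t46) + 2*l37*l41*(f l38)*(f t39)*(f t46) + l37*l49*(f l36)*(f l37)*(f t39) + l38*l40*(f l36)*(f l37)*(f t47) + l38*l40*(f l38)*(f t39)*(f t46) + l38*l48*(f l36)*(f l37)*(f t39) + l38*(f l36)*(f t39)*(f t44)*(f t46) + l40*l41*(f l36)*(f l37)*(f t46) + 2*l36*l37^2*(f l36)*(f l40)*(f t47) + 2*l36*l37^2*(f l38)*(f t39)*(f t47) + 2*l36*l37^2*(f l41)*(f t39)*(f t46) + l36*l37*l40*(f l36)*(f l37)*(f t47) + 2*l36*l37*l40*(f l36)*(f l40)*(f t46) + 3*l36*l37*l40*(f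 l38)*(f t39)*(f t46) + 2*l36*l37*l48*(f l36)*(f l37)*(f t39) + l36*l37*(f l36)*(f t39)*(f t44)*(f t46) + l36*l40^2*(f l36)*(f l37)*(f t46) + 2*l37*l38*(f l36)*(f l37)*(f t39)*(f t47) + 2*l37*l38*(f l36)*(f l40)*(f t39)*(f t46) + 2*l37*l38*(f l38)*(f t39)^2*(f t46) + 2*l37*l41*(f l36)*(f l37)*(f t39)*(f t46) + l38*l40*(f l36)*(f l37)*(f t39)*(f t46) + 2*l36*l37^2*(f l36)*(f l37)*(f t39)*(f t47) + 2*l36*l37^2*(f l36)*(f l40)*(f t39)*(f t46) + 2*l36*l37^2*(f l38)*(f t39)^2*(f t46) + 3*l36*l37*l40*(f l36)*(f l37)*(f t39)*(f t46) + 2*l37*l38*(f l36)*(f l37)*(f t39)^2*(f t46) + 2*l36*l37^2*(f l36)*(f l37)*(f t39)^2*(f t46)) * h2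
  · (try simp only [map_add, map_mul, map_pow, hff]) <;> linear_combination (l37*(f l41)*(f l48) + l37*(f l36)*(f l40)*(f l48) + l37*(f l38)*(f l48)*(f t39) + l37*(f l36)*(f l37)*(f l48)*(f t39)) * h2
  · (try simp only [map_add, map_mul, map_pow, hff]) <;> linear_combination (l36*(f l55) + l45*(f l49) + l36*(f l38)*(f t53) + l36*(f l41)*(f t51) + l36*(f l45)*(f l48) + l36*(f l49)*(f t44) + l38*(f l40)*(f l49) + l38*(f l41)*(f l48) + l45*(f l38)*(f t47) + l45*(f l41)*(f t46) + l36*l37*(f l40)*(f l49) + 2*l36*l37*(f l41)*(f l48) + l36*l40*(f l38)*(f l48) + l36*(f l36)*(f l37)*(f t53) + l36*(f l36)*(f l40)*(f t51) + l36*(f l36)*(f l48)*(f t44) + l36*(f l38)*(f t39)*(f t51) + l36*(f l38)*(f t44)*(f t47) + l36*(f l41)*(f t44)*(f t46) + l38*(f l36)*(f l40)*(f l48) + l38*(f l38)*(f l40)*(f t47) + l38*(f l38)*(f l48)*(f t39) + l38*(f l40)*(f l41)*(f t46) + l45*(f l36)*(f l37)*(f t47)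 + l45*(f l36)*(f l40)*(f t46) + l45*(f l38)*(f t39)*(f t46) + 2*l36*l37*(f l36)*(f l40)*(f l48) + l36*l37*(f l38)*(f l40)*(f t47) + 2*l36*l37*(f l38)*(f l48)*(f t39) + l36*l37*(f l40)*(f l41)*(f t46) + l36*l40*(f l36)*(f l37)*(f l48) + l36*(f l36)*(f l37)*(f t39)*(f t51) + l36*(f l36)*(f l37)*(f t44)*(f t47) + l36*(f l36)*(f l40)*(f t44)*(f t46) + l36*(f l38)*(f t39)*(f t44)*(f t46) + l38*(f l36)*(f l37)*(f l40)*(f t47) + l38*(f l36)*(f l37)*(f l48)*(f t39) + l38*(f l36)*(f l40)^2*(f t46) + l38*(f l38)*(f l40)*(f t39)*(f t46) + l45*(f l36)*(f l37)*(f t39)*(f t46) + l36*l37*(f l36)*(f l37)*(f l40)*(f t47) + 2*l36*l37*(f l36)*(f l37)*(f l48)*(f t39) + l36*l37*(f l36)*(f l40)^2*(f t46) + l36*l37*(f l38)*(f l40)*(f t39)*(f t46) + l36*(f l36)*(f l37)*(f t39)*(f t44)*(f t46) + l38*(f l36)*(f l37)*(f l40)*(f t39)*(f t46) + l36*l37*(f l36)*(f l37)*(f l40)*(f t39)*(f t46)) * h2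
  · (try simp only [map_add, map_mul, map_pow, hff]) <;> linear_combination (l38*(f l55) + l45*(f l52) + l36*l37*(f l55) + l36*(f l45)*(f t51) + l36*(f l52)*(f t44) + l37*l52*(f l41) + l38*(f l38)*(f t53) + l38*(f l40)*(f l52) + l38*(f l41)*(f t51) + l38*(f l45)*(f l48) + l45*l48*(f l38) + l45*(f l45)*(f t46) + l36*l37*(f l38)*(f t53) + l36*l37*(f l40)*(f l52) + 2*l36*l37*(f l41)*(f t51) + l36*l37*(f l45)*(f l48) + l36*l40*(f l38)*(f t51) + l36*l48*(f l38)*(f t44) + l36*(f l36)*(f t44)*(f t51) + l36*(f l45)*(f t44)*(f t46) + 2*l37*l38*(f l41)*(f l48) + 2*l37*l45*(f l41)*(f t46) + l37*l52*(f l36)*(f l40) + l37*l52*(f l38)*(f t39) + l38*l40*(f l38)*(f l48) + l38*l48*(f l38)*(f l40) + l38*(f l36)*(f l37)*(f t53) + l38*(f l36)*(f l40)*(f t51) + l38*(f l36)*(f l48)*(f t44) + l38*(f l38)*(f t39)*(f t51) + l38*(f l40)*(f l45)*(f t46) + l40*l45*(f l38)*(f t46) + l45*l48*(f l36)*(f l37)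 + l45*(f l36)*(f t44)*(f t46) + 2*l36*l37^2*(f l41)*(f l48) + l36*l37*l40*(f l38)*(f l48) + l36*l37*l48*(f l38)*(f l40) + l36*l37*(f l36)*(f l37)*(f t53) + 2*l36*l37*(f l36)*(f l40)*(f t51) + l36*l37*(f l36)*(f l48)*(f t44) + 2*l36*l37*(f l38)*(f t39)*(f t51) + l36*l37*(f l40)*(f l45)*(f t46) + 2*l36*l37*(f l41)*(f t44)*(f t46) + l36*l40*(f l36)*(f l37)*(f t51) + l36*l40*(f l38)*(f t44)*(f t46) + l36*l48*(f l36)*(f l37)*(f t44) + l36*(f l36)*(f t44)^2*(f t46) + 2*l37*l38*(f l36)*(f l40)*(f l48) + 2*l37*l38*(f l38)*(f l48)*(f t39) + 2*l37*l38*(f l40)*(f l41)*(f t46) + 2*l37*l45*(f l36)*(f l40)*(f t46) + 2*l37*l45*(f l38)*(f t39)*(f t46) + l37*l52*(f l36)*(f l37)*(f t39) + l38*l40*(f l36)*(f l37)*(f l48) + l38*l40*(f l38)*(f l40)*(f t46) + l38*l48*(f l36)*(f l37)*(f l40) + l38*(f l36)*(f l37)*(f t39)*(f t51) + l38*(f l36)*(f l40)*(f t44)*(f t46) + l40*l45*(f l36)*(f l37)*(f t46)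 + 2*l36*l37^2*(f l36)*(f l40)*(f l48) + 2*l36*l37^2*(f l38)*(f l48)*(f t39) + 2*l36*l37^2*(f l40)*(f l41)*(f t46) + l36*l37*l40*(f l36)*(f l37)*(f l48) + l36*l37*l40*(f l38)*(f l40)*(f t46) + l36*l37*l48*(f l36)*(f l37)*(f l40) + 2*l36*l37*(f l36)*(f l37)*(f t39)*(f t51) + 3*l36*l37*(f l36)*(f l40)*(f t44)*(f t46) + 2*l36*l37*(f l38)*(f t39)*(f t44)*(f t46) + l36*l40*(f l36)*(f l37)*(f t44)*(f t46) + 2*l37*l38*(f l36)*(f l37)*(f l48)*(f t39) + 2*l37*l38*(f l36)*(f l40)^2*(f t46) + 2*l37*l38*(f l38)*(f l40)*(f t39)*(f t46) + 2*l37*l45*(f l36)*(f l37)*(f t39)*(f t46) + l38*l40*(f l36)*(f l37)*(f l40)*(f t46) + 2*l36*l37^2*(f l36)*(f l37)*(f l48)*(f t39) + 2*l36*l37^2*(f l36)*(f l40)^2*(f t46) + 2*l36*l37^2*(f l38)*(f l40)*(f t39)*(f t46) + l36*l37*l40*(f l36)*(f l37)*(f l40)*(f t46) + 2*l36*l37*(f l36)*(f l37)*(f t39)*(f t44)*(f t46) + 2*l37*l38*(f l36)*(f l37)*(f l40)*(f t39)*(f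 t46) + 2*l36*l37^2*(f l36)*(f l37)*(f l40)*(f t39)*(f t46)) * h2
  · (try simp only [map_add, map_mul, map_pow, hff]) <;> linear_combination (l41*(f l55) + l45*(f l54) + l36*l40*(f l55) + l36*(f l45)*(f t53) + l36*(f l54)*(f t44) + l37*l54*(f l41) + l38*(f l40)*(f l54) + l38*(f l41)*(f t53) + l38*(f l55)*(f t39) + l41*(f l41)*(f t51) + l41*(f l45)*(f l48) + l45*l48*(f l41) + l45*(f l45)*(f t47) + l36*l37*(f l40)*(f l54) + 2*l36*l37*(f l41)*(f t53) + l36*l37*(f l55)*(f t39) + l36*l40*(f l38)*(f t53) + l36*l40*(f l41)*(f t51) + l36*l40*(f l45)*(f l48) + l36*l48*(f l41)*(f t44) + l36*(f l36)*(f t44)*(f t53) + l36*(f l45)*(f t44)*(f t47) + 2*l37*l41*(f l41)*(f l48) + 2*l37*l45*(f l41)*(f t47) + l37*l54*(f l36)*(f l40) + l37*l54*(f l38)*(f t39) + l38*l48*(f l40)*(f l41) + l38*(f l36)*(f l40)*(f t53) + l38*(f l38)*(f t39)*(f t53) + l38*(f l40)*(f l45)*(f t47) + l38*(f l41)*(f t39)*(f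 t51) + l38*(f l45)*(f l48)*(f t39) + l40*l41*(f l38)*(f l48) + l40*l45*(f l38)*(f t47) + l41*(f l36)*(f l40)*(f t51) + l41*(f l36)*(f l48)*(f t44) + l41*(f l38)*(f t39)*(f t51) + l45*l48*(f l36)*(f l40) + l45*l48*(f l38)*(f t39) + l45*(f l36)*(f t44)*(f t47) + 2*l36*l37*l40*(f l41)*(f l48) + l36*l37*l48*(f l40)*(f l41) + 2*l36*l37*(f l36)*(f l40)*(f t53) + 2*l36*l37*(f l38)*(f t39)*(f t53) + l36*l37*(f l40)*(f l45)*(f t47) + l36*l37*(f l41)*(f t39)*(f t51) + 2*l36*l37*(f l41)*(f t44)*(f t47) + l36*l37*(f l45)*(f l48)*(f t39) + l36*l40^2*(f l38)*(f l48) + l36*l40*(f l36)*(f l37)*(f t53) + l36*l40*(f l36)*(f l40)*(f t51) + l36*l40*(f l36)*(f l48)*(f t44) + l36*l40*(f l38)*(f t39)*(f t51) + l36*l40*(f l38)*(f t44)*(f t47) + l36*l48*(f l36)*(f l40)*(f t44) + l36*l48*(f l38)*(f t39)*(f t44) + l36*(f l36)*(f t44)^2*(f t47) + 2*l37*l38*(f l40)*(f l41)*(f t47) + 2*l37*l38*(f l41)*(f l48)*(f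 t39) + 2*l37*l41*(f l36)*(f l40)*(f l48) + 2*l37*l41*(f l38)*(f l48)*(f t39) + 2*l37*l45*(f l36)*(f l40)*(f t47) + 2*l37*l45*(f l38)*(f t39)*(f t47) + l37*l54*(f l36)*(f l37)*(f t39) + l38*l40*(f l38)*(f l40)*(f t47) + l38*l40*(f l38)*(f l48)*(f t39) + l38*l48*(f l36)*(f l40)^2 + l38*l48*(f l38)*(f l40)*(f t39) + l38*(f l36)*(f l37)*(f t39)*(f t53) + l38*(f l36)*(f l40)*(f t39)*(f t51) + l38*(f l36)*(f l40)*(f t44)*(f t47) + l38*(f l36)*(f l48)*(f t39)*(f t44) + l38*(f l38)*(f t39)^2*(f t51) + l40*l41*(f l36)*(f l37)*(f l48) + l40*l45*(f l36)*(f l37)*(f t47) + l41*(f l36)*(f l37)*(f t39)*(f t51) + l45*l48*(f l36)*(f l37)*(f t39) + 2*l36*l37^2*(f l40)*(f l41)*(f t47) + 2*l36*l37^2*(f l41)*(f l48)*(f t39) + 2*l36*l37*l40*(f l36)*(f l40)*(f l48) + l36*l37*l40*(f l38)*(f l40)*(f t47) + 3*l36*l37*l40*(f l38)*(f l48)*(f t39) + l36*l37*l48*(f l36)*(f l40)^2 + l36*l37*l48*(f l38)*(f l40)*(f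 t39) + 2*l36*l37*(f l36)*(f l37)*(f t39)*(f t53) + l36*l37*(f l36)*(f l40)*(f t39)*(f t51) + 3*l36*l37*(f l36)*(f l40)*(f t44)*(f t47) + l36*l37*(f l36)*(f l48)*(f t39)*(f t44) + l36*l37*(f l38)*(f t39)^2*(f t51) + 2*l36*l37*(f l38)*(f t39)*(f t44)*(f t47) + l36*l40^2*(f l36)*(f l37)*(f l48) + l36*l40*(f l36)*(f l37)*(f t39)*(f t51) + l36*l40*(f l36)*(f l37)*(f t44)*(f t47) + l36*l48*(f l36)*(f l37)*(f t39)*(f t44) + 2*l37*l38*(f l36)*(f l40)^2*(f t47) + 2*l37*l38*(f l36)*(f l40)*(f l48)*(f t39) + 2*l37*l38*(f l38)*(f l40)*(f t39)*(f t47) + 2*l37*l38*(f l38)*(f l48)*(f t39)^2 + 2*l37*l41*(f l36)*(f l37)*(f l48)*(f t39) + 2*l37*l45*(f l36)*(f l37)*(f t39)*(f t47) + l38*l40*(f l36)*(f l37)*(f l40)*(f t47) + l38*l40*(f l36)*(f l37)*(f l48)*(f t39) + l38*l48*(f l36)*(f l37)*(f l40)*(f t39) + l38*(f l36)*(f l37)*(f t39)^2*(f t51) + 2*l36*l37^2*(f l36)*(f l40)^2*(f t47) + 2*l36*l37^2*(f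 l36)*(f l40)*(f l48)*(f t39) + 2*l36*l37^2*(f l38)*(f l40)*(f t39)*(f t47) + 2*l36*l37^2*(f l38)*(f l48)*(f t39)^2 + l36*l37*l40*(f l36)*(f l37)*(f l40)*(f t47) + 3*l36*l37*l40*(f l36)*(f l37)*(f l48)*(f t39) + l36*l37*l48*(f l36)*(f l37)*(f l40)*(f t39) + l36*l37*(f l36)*(f l37)*(f t39)^2*(f t51) + 2*l36*l37*(f l36)*(f l37)*(f t39)*(f t44)*(f t47) + 2*l37*l38*(f l36)*(f l37)*(f l40)*(f t39)*(f t47) + 2*l37*l38*(f l36)*(f l37)*(f l48)*(f t39)^2 + 2*l36*l37^2*(f l36)*(f l37)*(f l40)*(f t39)*(f t47) + 2*l36*l37^2*(f l36)*(f l37)*(f l48)*(f t39)^2) * h2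
  · (try simp only [map_add, map_mul, map_pow, hff]) <;> linear_combination (l49*(f l55) + l52*(f l54) + l36*l48*(f l55) + l36*(f l52)*(f t53) + l36*(f l54)*(f t51) + l38*(f l48)*(f l54) + l38*(f l49)*(f t53) + l38*(f l55)*(f t47) + l41*(f l48)*(f l52) + l41*(f l49)*(f t51) + l41*(f l55)*(f t46) + l45*l48*(f l49) + l45*(f l52)*(f t47) + l45*(f l54)*(f t46) + l36*l37*(f l48)*(f l54) + l36*l37*(f l49)*(f t53) + l36*l37*(f l55)*(f t47) + l36*l40*(f l48)*(f l52) + l36*l40*(f l49)*(f t51) + l36*l40*(f l55)*(f t46) + l36*l48*(f l38)*(f t53) + l36*l48*(f l41)*(f t51) + l36*l48*(f l45)*(f l48) + l36*l48*(f l49)*(f t44) + l36*(f l36)*(f t51)*(f t53) + l36*(f l45)*(f t46)*(f t53) + l36*(f l45)*(f t47)*(f t51) + l36*(f l52)*(f t44)*(f t47) + l36*(f l54)*(f t44)*(f t46) + l37*l49*(f l41)*(f l48) + l37*l52*(f l41)*(f t47) + l37*l54*(f l41)*(f t46) + l38*l48*(f l40)*(f l49) + l38*l48*(f l41)*(f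 l48) + l38*(f l36)*(f l48)*(f t53) + l38*(f l38)*(f t47)*(f t53) + l38*(f l40)*(f l52)*(f t47) + l38*(f l40)*(f l54)*(f t46) + l38*(f l41)*(f t46)*(f t53) + l38*(f l41)*(f t47)*(f t51) + l38*(f l45)*(f l48)*(f t47) + l38*(f l48)*(f l52)*(f t39) + l38*(f l49)*(f t39)*(f t51) + l38*(f l55)*(f t39)*(f t46) + l41*(f l36)*(f l48)*(f t51) + l41*(f l41)*(f t46)*(f t51) + l41*(f l45)*(f l48)*(f t46) + l45*l48*(f l38)*(f t47) + l45*l48*(f l41)*(f t46) + l45*(f l45)*(f t46)*(f t47) + l36*l37*l48*(f l40)*(f l49) + 2*l36*l37*l48*(f l41)*(f l48) + l36*l37*(f l36)*(f l48)*(f t53) + l36*l37*(f l38)*(f t47)*(f t53) + l36*l37*(f l40)*(f l52)*(f t47) + l36*l37*(f l40)*(f l54)*(f t46) + 2*l36*l37*(f l41)*(f t46)*(f t53) + 2*l36*l37*(f l41)*(f t47)*(f t51) + l36*l37*(f l45)*(f l48)*(f t47) + l36*l37*(f l48)*(f l52)*(f t39) + l36*l37*(f l49)*(f t39)*(f t51) + l36*l37*(f l55)*(f t39)*(f t46) + l36*l40*l48*(f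 l38)*(f l48) + l36*l40*(f l36)*(f l48)*(f t51) + l36*l40*(f l38)*(f t46)*(f t53) + l36*l40*(f l38)*(f t47)*(f t51) + l36*l40*(f l41)*(f t46)*(f t51) + l36*l40*(f l45)*(f l48)*(f t46) + l36*l48*(f l36)*(f l37)*(f t53) + l36*l48*(f l36)*(f l40)*(f t51) + l36*l48*(f l36)*(f l48)*(f t44) + l36*l48*(f l38)*(f t39)*(f t51) + l36*l48*(f l38)*(f t44)*(f t47) + l36*l48*(f l41)*(f t44)*(f t46) + l36*(f l36)*(f t44)*(f t46)*(f t53) + l36*(f l36)*(f t44)*(f t47)*(f t51) + l36*(f l45)*(f t44)*(f t46)*(f t47) + 2*l37*l38*(f l41)*(f l48)*(f t47) + 2*l37*l41*(f l41)*(f l48)*(f t46) + 2*l37*l45*(f l41)*(f t46)*(f t47) + l37*l49*(f l36)*(f l40)*(f l48) + l37*l49*(f l38)*(f l48)*(f t39) + l37*l52*(f l36)*(f l40)*(f t47) + l37*l52*(f l38)*(f t39)*(f t47) + l37*l54*(f l36)*(f l40)*(f t46) + l37*l54*(f l38)*(f t39)*(f t46) + l38*l40*(f l38)*(f l48)*(f t47) + l38*l48*(f l36)*(f l40)*(f l48) + l38*l48*(f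 l38)*(f l40)*(f t47) + l38*l48*(f l38)*(f l48)*(f t39) + l38*l48*(f l40)*(f l41)*(f t46) + l38*(f l36)*(f l37)*(f t47)*(f t53) + l38*(f l36)*(f l40)*(f t46)*(f t53) + l38*(f l36)*(f l40)*(f t47)*(f t51) + l38*(f l36)*(f l48)*(f t39)*(f t51) + l38*(f l36)*(f l48)*(f t44)*(f t47) + l38*(f l38)*(f t39)*(f t46)*(f t53) + l38*(f l38)*(f t39)*(f t47)*(f t51) + l38*(f l40)*(f l45)*(f t46)*(f t47) + l38*(f l41)*(f t39)*(f t46)*(f t51) + l38*(f l45)*(f l48)*(f t39)*(f t46) + l40*l41*(f l38)*(f l48)*(f t46) + l40*l45*(f l38)*(f t46)*(f t47) + l41*(f l36)*(f l40)*(f t46)*(f t51) + l41*(f l36)*(f l48)*(f t44)*(f t46) + l41*(f l38)*(f t39)*(f t46)*(f t51) + l45*l48*(f l36)*(f l37)*(f t47) + l45*l48*(f l36)*(f l40)*(f t46) + l45*l48*(f l38)*(f t39)*(f t46) + l45*(f l36)*(f t44)*(f t46)*(f t47) + 2*l36*l37^2*(f l41)*(f l48)*(f t47) + l36*l37*l40*(f l38)*(f l48)*(f t47) + 2*l36*l37*l40*(f l41)*(f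 l48)*(f t46) + 2*l36*l37*l48*(f l36)*(f l40)*(f l48) + l36*l37*l48*(f l38)*(f l40)*(f t47) + 2*l36*l37*l48*(f l38)*(f l48)*(f t39) + l36*l37*l48*(f l40)*(f l41)*(f t46) + l36*l37*(f l36)*(f l37)*(f t47)*(f t53) + 2*l36*l37*(f l36)*(f l40)*(f t46)*(f t53) + 2*l36*l37*(f l36)*(f l40)*(f t47)*(f t51) + l36*l37*(f l36)*(f l48)*(f t39)*(f t51) + l36*l37*(f l36)*(f l48)*(f t44)*(f t47) + 2*l36*l37*(f l38)*(f t39)*(f t46)*(f t53) + 2*l36*l37*(f l38)*(f t39)*(f t47)*(f t51) + l36*l37*(f l40)*(f l45)*(f t46)*(f t47) + l36*l37*(f l41)*(f t39)*(f t46)*(f t51) + 2*l36*l37*(f l41)*(f t44)*(f t46)*(f t47) + l36*l37*(f l45)*(f l48)*(f t39)*(f t46) + l36*l40^2*(f l38)*(f l48)*(f t46) + l36*l40*l48*(f l36)*(f l37)*(f l48) + l36*l40*(f l36)*(f l37)*(f t46)*(f t53) + l36*l40*(f l36)*(f l37)*(f t47)*(f t51) + l36*l40*(f l36)*(f l40)*(f t46)*(f t51) + l36*l40*(f l36)*(f l48)*(f t44)*(f t46) + l36*l40*(f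 l38)*(f t39)*(f t46)*(f t51) + l36*l40*(f l38)*(f t44)*(f t46)*(f t47) + l36*l48*(f l36)*(f l37)*(f t39)*(f t51) + l36*l48*(f l36)*(f l37)*(f t44)*(f t47) + l36*l48*(f l36)*(f l40)*(f t44)*(f t46) + l36*l48*(f l38)*(f t39)*(f t44)*(f t46) + l36*(f l36)*(f t44)^2*(f t46)*(f t47) + 2*l37*l38*(f l36)*(f l40)*(f l48)*(f t47) + 2*l37*l38*(f l38)*(f l48)*(f t39)*(f t47) + 2*l37*l38*(f l40)*(f l41)*(f t46)*(f t47) + 2*l37*l38*(f l41)*(f l48)*(f t39)*(f t46) + 2*l37*l41*(f l36)*(f l40)*(f l48)*(f t46) + 2*l37*l41*(f l38)*(f l48)*(f t39)*(f t46) + 2*l37*l45*(f l36)*(f l40)*(f t46)*(f t47) + 2*l37*l45*(f l38)*(f t39)*(f t46)*(f t47) + l37*l49*(f l36)*(f l37)*(f l48)*(f t39) + l37*l52*(f l36)*(f l37)*(f t39)*(f t47) + l37*l54*(f l36)*(f l37)*(f t39)*(f t46) + l38*l40*(f l36)*(f l37)*(f l48)*(f t47) + l38*l40*(f l38)*(f l40)*(f t46)*(f t47) + l38*l40*(f l38)*(f l48)*(f t39)*(f t46) + l38*l48*(f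 l36)*(f l37)*(f l40)*(f t47) + l38*l48*(f l36)*(f l37)*(f l48)*(f t39) + l38*l48*(f l36)*(f l40)^2*(f t46) + l38*l48*(f l38)*(f l40)*(f t39)*(f t46) + l38*(f l36)*(f l37)*(f t39)*(f t46)*(f t53) + l38*(f l36)*(f l37)*(f t39)*(f t47)*(f t51) + l38*(f l36)*(f l40)*(f t39)*(f t46)*(f t51) + l38*(f l36)*(f l40)*(f t44)*(f t46)*(f t47) + l38*(f l36)*(f l48)*(f t39)*(f t44)*(f t46) + l38*(f l38)*(f t39)^2*(f t46)*(f t51) + l40*l41*(f l36)*(f l37)*(f l48)*(f t46) + l40*l45*(f l36)*(f l37)*(f t46)*(f t47) + l41*(f l36)*(f l37)*(f t39)*(f t46)*(f t51) + l45*l48*(f l36)*(f l37)*(f t39)*(f t46) + 2*l36*l37^2*(f l36)*(f l40)*(f l48)*(f t47) + 2*l36*l37^2*(f l38)*(f l48)*(f t39)*(f t47) + 2*l36*l37^2*(f l40)*(f l41)*(f t46)*(f t47) + 2*l36*l37^2*(f l41)*(f l48)*(f t39)*(f t46) + l36*l37*l40*(f l36)*(f l37)*(f l48)*(f t47) + 2*l36*l37*l40*(f l36)*(f l40)*(f l48)*(f t46) + l36*l37*l40*(f l38)*(f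 l40)*(f t46)*(f t47) + 3*l36*l37*l40*(f l38)*(f l48)*(f t39)*(f t46) + l36*l37*l48*(f l36)*(f l37)*(f l40)*(f t47) + 2*l36*l37*l48*(f l36)*(f l37)*(f l48)*(f t39) + l36*l37*l48*(f l36)*(f l40)^2*(f t46) + l36*l37*l48*(f l38)*(f l40)*(f t39)*(f t46) + 2*l36*l37*(f l36)*(f l37)*(f t39)*(f t46)*(f t53) + 2*l36*l37*(f l36)*(f l37)*(f t39)*(f t47)*(f t51) + l36*l37*(f l36)*(f l40)*(f t39)*(f t46)*(f t51) + 3*l36*l37*(f l36)*(f l40)*(f t44)*(f t46)*(f t47) + l36*l37*(f l36)*(f l48)*(f t39)*(f t44)*(f t46) + l36*l37*(f l38)*(f t39)^2*(f t46)*(f t51) + 2*l36*l37*(f l38)*(f t39)*(f t44)*(f t46)*(f t47) + l36*l40^2*(f l36)*(f l37)*(f l48)*(f t46) + l36*l40*(f l36)*(f l37)*(f t39)*(f t46)*(f t51) + l36*l40*(f l36)*(f l37)*(f t44)*(f t46)*(f t47) + l36*l48*(f l36)*(f l37)*(f t39)*(f t44)*(f t46) + 2*l37*l38*(f l36)*(f l37)*(f l48)*(f t39)*(f t47) + 2*l37*l38*(f l36)*(f l40)^2*(f t46)*(f t47)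 + 2*l37*l38*(f l36)*(f l40)*(f l48)*(f t39)*(f t46) + 2*l37*l38*(f l38)*(f l40)*(f t39)*(f t46)*(f t47) + 2*l37*l38*(f l38)*(f l48)*(f t39)^2*(f t46) + 2*l37*l41*(f l36)*(f l37)*(f l48)*(f t39)*(f t46) + 2*l37*l45*(f l36)*(f l37)*(f t39)*(f t46)*(f t47) + l38*l40*(f l36)*(f l37)*(f l40)*(f t46)*(f t47) + l38*l40*(f l36)*(f l37)*(f l48)*(f t39)*(f t46) + l38*l48*(f l36)*(f l37)*(f l40)*(f t39)*(f t46) + l38*(f l36)*(f l37)*(f t39)^2*(f t46)*(f t51) + 2*l36*l37^2*(f l36)*(f l37)*(f l48)*(f t39)*(f t47) + 2*l36*l37^2*(f l36)*(f l40)^2*(f t46)*(f t47) + 2*l36*l37^2*(f l36)*(f l40)*(f l48)*(f t39)*(f t46) + 2*l36*l37^2*(f l38)*(f l40)*(f t39)*(f t46)*(f t47) + 2*l36*l37^2*(f l38)*(f l48)*(f t39)^2*(f t46) + l36*l37*l40*(f l36)*(f l37)*(f l40)*(f t46)*(f t47) + 3*l36*l37*l40*(f l36)*(f l37)*(f l48)*(f t39)*(f t46) + l36*l37*l48*(f l36)*(f l37)*(f l40)*(f t39)*(f t46) + l36*l37*(f l36)*(f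 l37)*(f t39)^2*(f t46)*(f t51) + 2*l36*l37*(f l36)*(f l37)*(f t39)*(f t44)*(f t46)*(f t47) + 2*l37*l38*(f l36)*(f l37)*(f l40)*(f t39)*(f t46)*(f t47) + 2*l37*l38*(f l36)*(f l37)*(f l48)*(f t39)^2*(f t46) + 2*l36*l37^2*(f l36)*(f l37)*(f l40)*(f t39)*(f t46)*(f t47) + 2*l36*l37^2*(f l36)*(f l37)*(f l48)*(f t39)^2*(f t46)) * h2

end Fix

end Cfsg.Agent.Lib.E6Inv50
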