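import Cfsg.Agent.Lib.E6Inv50E

/-!
# The involutions of `²E₆(q)`, `q` even: reduction chains
-/

set_option autoImplicit false
set_option linter.unusedSectionVars false
set_option linter.unusedVariables false
set_option linter.unusedSimpArgs false
set_option maxRecDepth 100000
set_option maxHeartbeats 4000000
set_option linter.unusedTactic false
set_option linter.unreachableTactic false

namespace Cfsg.Agent.Lib.E6Inv50

open Cfsg Cfsg.Lie Cfsg.Agent.Lib.Chev Cfsg.Agent.Lib.Chev.TwE6

variable {K : Type*} [Field K] [CharP K 2] [Fintype K] {f : K ≃+* K}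

section Tor

theorem chi_expand (c : Fin chevE6.rank → Kˣ) (s : ℕ) :
    chiT chevE6 c s = c ⟨0, by decide⟩ ^ chevE6.cartan 0 s * c ⟨1, by decide⟩ ^ chevE6.cartan 1 s *
      c ⟨2, by decide⟩ ^ chevE6.cartan 2 s * c ⟨3, by decide⟩ ^ chevE6.cartan 3 s * c ⟨4, by decide⟩ ^ chevE6.cartan 4 s *
      c ⟨5, by decide⟩ ^ chevE6.cartan 5 s :=
  Fin.prod_univ_six (fun i : Fin 6 => c i ^ chevE6.cartan i s)

theorem tor_conj (c : Fin chevE6.rank → Kˣ) {s : ℕ} (hs : s < chevE6.nroots) (t : K) :
    tor RootE6T.R chevE6 c * x s t * (tor RootE6T.R chevE6 c)⁻¹ = x s (((chiT chevE6 c s : Kˣ) : K) * t) :=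
  hF.tor_conj_xG c hs t

theorem unitsF_coe (u : Kˣ) : ((unitsF f u : Kˣ) : K) = f u := rfl

theorem tor_a (u : Kˣ) (hu : f u = u) (s l : K) : Cj f (E f 0 (l) 0 0 0 0 0 0 (s) 0 0 0 0 0 0 0 0 0 0 0 0 0 0 0) (E f 0 (l) 0 0 0 0 0 0 ((u : K) * u * s) 0 0 0 0 0 0 0 0 0 0 0 0 0 0 0) := by
  let c : Fin chevE6.rank → Kˣ := fun j => if j.1 = 1 then u else 1
  have hc : (sc f).FTh c = c := by
    rw [fixed_iff]
    refine ⟨?_, ?_, ?_, ?_, ?_, ?_⟩
    · show (1 : Kˣ) = unitsF f 1
      rw [map_one]
    · show u = unitsF f u
      exact Units.ext hu.symm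
    · show (1 : Kˣ) = unitsF f 1
      rw [map_one]
    · show (1 : Kˣ) = unitsF f 1
      rw [map_one]
    · show (1 : Kˣ) = unitsF f 1
      rw [map_one]
    · show (1 : Kˣ) = unitsF f 1
      rw [map_one]
  refine ⟨tor RootE6T.R chevE6 c, hmem f c hc, ?_⟩
  have c0 : c ⟨0, by decide⟩ = 1 := rfl
  have c1 : c ⟨1, by decide⟩ = u := rfl
  have c2 : c ⟨2, by decide⟩ = 1 := rfl
  have c3 : c ⟨3, by decide⟩ = 1 := rfl
  have c4 : c ⟨4, by decide⟩ = 1 := rfl
  have c5 : c ⟨5, by decide⟩ = 1 := rfl
  have t46 : chevE6.cartan 1 46 = 2 := by decide +kernel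
  have t37 : chevE6.cartan 1 37 = 0 := by decide +kernel
  have t42 : chevE6.cartan 1 42 = 0 := by decide +kernel
  have hchi46 : ((chiT chevE6 c 46 : Kˣ) : K) = u * u := by
    rw [chi_expand, c0, c1, c2, c3, c4, c5, t46]
    simp [zpow_ofNat, sq]
  have hchi37 : ((chiT chevE6 c 37 : Kˣ) : K) = 1 := by
    rw [chi_expand, c0, c1, c2, c3, c4, c5, t37]
    simp
  have hchi42 : ((chiT chevE6 c 42 : Kˣ) : K) = 1 := by
    rw [chi_expand, c0, c1, c2, c3, c4, c5, t42]
    simp
  unfold E
  simp only [map_zero, zero_mul, mul_zero, add_zero, zero_add]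
  rw [conj_W]
  simp only [conj_x0, one_mul, tor_conj c (s := 46) (by decide), tor_conj c (s := 37) (by decide),
    tor_conj c (s := 42) (by decide), hchi46, hchi37, hchi42]
  unfold W
  simp only [x_zero, one_mul]

theorem tor_c (hff : ∀ t, f (f t) = t) (u : Kˣ) (s l : K) : Cj f (E f 0 (l) 0 0 0 0 0 0 (s) 0 0 0 0 0 0 0 0 0 0 0 0 0 0 0) (E f 0 ((u : K) * u * l) 0 0 0 0 0 0 (s) 0 0 0 0 0 0 0 0 0 0 0 0 0 0 0) := by
  let c : Fin chevE6.rank → Kˣ := fun j => if j.1 = 2 then unitsF f u else if j.1 = 4 then u else 1
  have hc : (sc f).FTh c = c := by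
    rw [fixed_iff]
    refine ⟨?_, ?_, ?_, ?_, ?_, ?_⟩
    · show (1 : Kˣ) = unitsF f 1
      rw [map_one]
    · show (1 : Kˣ) = unitsF f 1
      rw [map_one]
    · show u = unitsF f (unitsF f u)
      exact Units.ext (hff u).symm
    · show (1 : Kˣ) = unitsF f 1
      rw [map_one]
    · show unitsF f u = unitsF f u
      rfl
    · show (1 : Kˣ) = unitsF f 1
      rw [map_one]
  refine ⟨tor RootE6T.R chevE6 c, hmem f c hc, ?_⟩
  have c0 : c ⟨0, by decide⟩ = 1 := rfl
  have c1 : c ⟨1, by decide⟩ = 1 := rfl
  have c2 : c ⟨2, by decide⟩ = unitsF f u := rfl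
  have c3 : c ⟨3, by decide⟩ = 1 := rfl
  have c4 : c ⟨4, by decide⟩ = u := rfl
  have c5 : c ⟨5, by decide⟩ = 1 := rfl
  have t46 : chevE6.cartan 2 46 = 0 ∧ chevE6.cartan 4 46 = 0 := by decide +kernel
  have t37 : chevE6.cartan 2 37 = 0 ∧ chevE6.cartan 4 37 = 2 := by decide +kernel
  have t42 : chevE6.cartan 2 42 = 2 ∧ chevE6.cartan 4 42 = 0 := by decide +kernel
  have hchi46 : ((chiT chevE6 c 46 : Kˣ) : K) = 1 := by
    rw [chi_expand, c0, c1, c2, c3, c4, c5, t46.1, t46.2]
    simp
  have hchi37 : ((chiT chevE6 c 37 : Kˣ) : K) = u * u := by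
    rw [chi_expand, c0, c1, c2, c3, c4, c5, t37.1, t37.2]
    simp [zpow_ofNat, sq]
  have hchi42 : ((chiT chevE6 c 42 : Kˣ) : K) = f u * f u := by
    rw [chi_expand, c0, c1, c2, c3, c4, c5, t42.1, t42.2]
    simp [zpow_ofNat, sq, unitsF_coe]
  unfold E
  simp only [map_zero, zero_mul, mul_zero, add_zero, zero_add, map_mul]
  rw [conj_W]
  simp only [conj_x0, one_mul, tor_conj c (s := 46) (by decide), tor_conj c (s := 37) (by decide),
    tor_conj c (s := 42) (by decide), hchi46, hchi37, hchi42]
  unfold W
  simp only [x_zero, one_mul]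

theorem scale_u {s : K} (hs : s ≠ 0) (h : f s = s) : ∃ u : Kˣ, f u = u ∧ (u : K) * u * s = 1 := by
  obtain ⟨v, hv⟩ := exists_sqrt s⁻¹
  have hv0 : v ≠ 0 := by
    rintro rfl
    have : s⁻¹ = 0 := by rw [← hv]; ring
    exact inv_ne_zero hs this
  refine ⟨Units.mk0 v hv0, fix_sqrt (f := f) ?_, ?_⟩
  · simp only [Units.val_mk0]
    rw [hv, map_inv₀, h]
  · simp only [Units.val_mk0]
    rw [hv]
    field_simp

theorem scale_v {l : K} (hl : l ≠ 0) : ∃ u : Kˣ, (u : K) * u * l = 1 := by
  obtain ⟨v, hv⟩ := exists_sqrt l⁻¹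
  have hv0 : v ≠ 0 := by
    rintro rfl
    have : l⁻¹ = 0 := by rw [← hv]; ring
    exact inv_ne_zero hl this
  refine ⟨Units.mk0 v hv0, ?_⟩
  simp only [Units.val_mk0]
  rw [hv]
  field_simp

theorem scale_a (d : Dt f) {s : K} (hs : s ≠ 0) (h : f s = s) : Cj f (E f 0 (0) 0 0 0 0 0 0 (s) 0 0 0 0 0 0 0 0 0 0 0 0 0 0 0) (E f 0 (0) 0 0 0 0 0 0 (1) 0 0 0 0 0 0 0 0 0 0 0 0 0 0 0) := by
  obtain ⟨u, hu, e⟩ := scale_u hs h
  have c := tor_a (f := f) u hu s 0
  rwa [e] at c

theorem scale_c (d : Dt f) {l : K} (hl : l ≠ 0) : Cj f (E f 0 (l) 0 0 0 0 0 0 (0) 0 0 0 0 0 0 0 0 0 0 0 0 0 0 0) (E f 0 (1) 0 0 0 0 0 0 (0) 0 0 0 0 0 0 0 0 0 0 0 0 0 0 0) := by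
  obtain ⟨u, e⟩ := scale_v hl
  have c := tor_c (f := f) d.hff u 0 l
  rwa [e] at c

theorem scale_ac (d : Dt f) {s l : K} (hs : s ≠ 0) (h : f s = s) (hl : l ≠ 0) : Cj f (E f 0 (l) 0 0 0 0 0 0 (s) 0 0 0 0 0 0 0 0 0 0 0 0 0 0 0) (E f 0 (1) 0 0 0 0 0 0 (1) 0 0 0 0 0 0 0 0 0 0 0 0 0 0 0) := by
  obtain ⟨u, hu, e⟩ := scale_u hs h
  obtain ⟨v, e2⟩ := scale_v hl
  have c := tor_a (f := f) u hu s l
  have c2 := tor_c (f := f) d.hff v 1 l
  rw [e] at c
  rw [e2] at c2
  exact c.trans f c2

end Tor

theorem nE_D0 {t71 : K} (hff : ∀ t, f (f t) = t) (it71 : f t71 = t71) :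
    nR [1, 2, 3, 1, 2, 1, 0] * E f 0 0 0 0 0 0 0 0 0 0 0 0 0 0 0 0 0 0 0 0 0 0 0 (t71) * (nR [1, 2, 3, 1, 2, 1, 0])⁻¹ = E f 0 0 0 0 0 0 0 0 (t71) 0 0 0 0 0 0 0 0 0 0 0 0 0 0 0 := by
  have h2 : (2 : K) = 0 := CharTwo.two_eq_zero
  have c71 := fun t : K => nR_at (l := [1, 2, 3, 1, 2, 1, 0]) (s := 71) (m := 46) (by decide +kernel) t
  unfold E
  rw [conj_W]
  simp only [map_zero, zero_mul, mul_zero, add_zero, zero_add, conj_x0, one_mul, c71]
  rw [← W_zero (K := K)]
  simp only [xW_46, zero_mul, mul_zero, add_zero, zero_add]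
  first
    | done
    | apply W_congr
      · (try simp only [map_add, map_mul, map_pow, map_zero, map_one, hff, it71]) <;> linear_combination (0 : K) * h2
      · (try simp only [map_add, map_mul, map_pow, map_zero, map_one, hff, it71]) <;> linear_combination (0 : K) * h2
      · (try simp only [map_add, map_mul, map_pow, map_zero, map_one, hff, it71]) <;> linear_combination (0 : K) * h2
      · (try simp only [map_add, map_mul, map_pow, map_zero, map_one, hff, it71]) <;> linear_combination (0 : K) * h2
      · (try simp only [map_add, map_mul, map_pow, map_zero, map_one, hff, it71]) <;> linear_combination (0 : K) * h2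
      · (try simp only [map_add, map_mul, map_pow, map_zero, map_one, hff, it71]) <;> linear_combination (0 : K) * h2
      · (try simp only [map_add, map_mul, map_pow, map_zero, map_one, hff, it71]) <;> linear_combination (0 : K) * h2
      · (try simp only [map_add, map_mul, map_pow, map_zero, map_one, hff, it71]) <;> linear_combination (0 : K) * h2
      · (try simp only [map_add, map_mul, map_pow, map_zero, map_one, hff, it71]) <;> linear_combination (0 : K) * h2
      · (try simp only [map_add, map_mul, map_pow, map_zero, map_one, hff, it71]) <;> linear_combination (0 : K) * h2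
      · (try simp only [map_add, map_mul, map_pow, map_zero, map_one, hff, it71]) <;> linear_combination (0 : K) * h2
      · (try simp only [map_add, map_mul, map_pow, map_zero, map_one, hff, it71]) <;> linear_combination (0 : K) * h2
      · (try simp only [map_add, map_mul, map_pow, map_zero, map_one, hff, it71]) <;> linear_combination (0 : K) * h2
      · (try simp only [map_add, map_mul, map_pow, map_zero, map_one, hff, it71]) <;> linear_combination (0 : K) * h2
      · (try simp only [map_add, map_mul, map_pow, map_zero, map_one, hff, it71]) <;> linear_combination (0 : K) * h2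
      · (try simp only [map_add, map_mul, map_pow, map_zero, map_one, hff, it71]) <;> linear_combination (0 : K) * h2
      · (try simp only [map_add, map_mul, map_pow, map_zero, map_one, hff, it71]) <;> linear_combination (0 : K) * h2
      · (try simp only [map_add, map_mul, map_pow, map_zero, map_one, hff, it71]) <;> linear_combination (0 : K) * h2
      · (try simp only [map_add, map_mul, map_pow, map_zero, map_one, hff, it71]) <;> linear_combination (0 : K) * h2
      · (try simp only [map_add, map_mul, map_pow, map_zero, map_one, hff, it71]) <;> linear_combination (0 : K) * h2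
      · (try simp only [map_add, map_mul, map_pow, map_zero, map_one, hff, it71]) <;> linear_combination (0 : K) * h2
      · (try simp only [map_add, map_mul, map_pow, map_zero, map_one, hff, it71]) <;> linear_combination (0 : K) * h2
      · (try simp only [map_add, map_mul, map_pow, map_zero, map_one, hff, it71]) <;> linear_combination (0 : K) * h2
      · (try simp only [map_add, map_mul, map_pow, map_zero, map_one, hff, it71]) <;> linear_combination (0 : K) * h2
      · (try simp only [map_add, map_mul, map_pow, map_zero, map_one, hff, it71]) <;> linear_combination (0 : K) * h2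
      · (try simp only [map_add, map_mul, map_pow, map_zero, map_one, hff, it71]) <;> linear_combination (0 : K) * h2
      · (try simp only [map_add, map_mul, map_pow, map_zero, map_one, hff, it71]) <;> linear_combination (0 : K) * h2
      · (try simp only [map_add, map_mul, map_pow, map_zero, map_one, hff, it71]) <;> linear_combination (0 : K) * h2
      · (try simp only [map_add, map_mul, map_pow, map_zero, map_one, hff, it71]) <;> linear_combination (0 : K) * h2
      · (try simp only [map_add, map_mul, map_pow, map_zero, map_one, hff, it71]) <;> linear_combination (0 : K) * h2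
      · (try simp only [map_add, map_mul, map_pow, map_zero, map_one, hff, it71]) <;> linear_combination (0 : K) * h2
      · (try simp only [map_add, map_mul, map_pow, map_zero, map_one, hff, it71]) <;> linear_combination (0 : K) * h2
      · (try simp only [map_add, map_mul, map_pow, map_zero, map_one, hff, it71]) <;> linear_combination (0 : K) * h2
      · (try simp only [map_add, map_mul, map_pow, map_zero, map_one, hff, it71]) <;> linear_combination (0 : K) * h2
      · (try simp only [map_add, map_mul, map_pow, map_zero, map_one, hff, it71]) <;> linear_combination (0 : K) * h2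
      · (try simp only [map_add, map_mul, map_pow, map_zero, map_one, hff, it71]) <;> linear_combination (0 : K) * h2

theorem nE_T1c (hff : ∀ t, f (f t) = t)  :
    nR [0, 1, 2, 3, 1, 2, 1] * E f 0 0 0 0 0 0 0 0 (1) 0 0 0 0 0 0 0 0 0 0 0 0 0 0 0 * (nR [0, 1, 2, 3, 1, 2, 1])⁻¹ = E f 0 0 0 0 0 0 0 0 0 0 0 0 0 0 0 0 0 0 0 0 0 0 0 (1) := by
  have h2 : (2 : K) = 0 := CharTwo.two_eq_zero
  have c46 := fun t : K => nR_at (l := [0, 1, 2, 3, 1, 2, 1]) (s := 46) (m := 71) (by decide +kernel) t
  unfold E
  rw [conj_W]
  simp only [map_zero, zero_mul, mul_zero, add_zero, zero_add, conj_x0, one_mul, c46]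
  rw [← W_zero (K := K)]
  simp only [xW_71, zero_mul, mul_zero, add_zero, zero_add]
  first
    | done
    | apply W_congr
      · (try simp only [map_add, map_mul, map_pow, map_zero, map_one, hff]) <;> linear_combination (0 : K) * h2
      · (try simp only [map_add, map_mul, map_pow, map_zero, map_one, hff]) <;> linear_combination (0 : K) * h2
      · (try simp only [map_add, map_mul, map_pow, map_zero, map_one, hff]) <;> linear_combination (0 : K) * h2
      · (try simp only [map_add, map_mul, map_pow, map_zero, map_one, hff]) <;> linear_combination (0 : K) * h2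
      · (try simp only [map_add, map_mul, map_pow, map_zero, map_one, hff]) <;> linear_combination (0 : K) * h2
      · (try simp only [map_add, map_mul, map_pow, map_zero, map_one, hff]) <;> linear_combination (0 : K) * h2
      · (try simp only [map_add, map_mul, map_pow, map_zero, map_one, hff]) <;> linear_combination (0 : K) * h2
      · (try simp only [map_add, map_mul, map_pow, map_zero, map_one, hff]) <;> linear_combination (0 : K) * h2
      · (try simp only [map_add, map_mul, map_pow, map_zero, map_one, hff]) <;> linear_combination (0 : K) * h2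
      · (try simp only [map_add, map_mul, map_pow, map_zero, map_one, hff]) <;> linear_combination (0 : K) * h2
      · (try simp only [map_add, map_mul, map_pow, map_zero, map_one, hff]) <;> linear_combination (0 : K) * h2
      · (try simp only [map_add, map_mul, map_pow, map_zero, map_one, hff]) <;> linear_combination (0 : K) * h2
      · (try simp only [map_add, map_mul, map_pow, map_zero, map_one, hff]) <;> linear_combination (0 : K) * h2
      · (try simp only [map_add, map_mul, map_pow, map_zero, map_one, hff]) <;> linear_combination (0 : K) * h2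
      · (try simp only [map_add, map_mul, map_pow, map_zero, map_one, hff]) <;> linear_combination (0 : K) * h2
      · (try simp only [map_add, map_mul, map_pow, map_zero, map_one, hff]) <;> linear_combination (0 : K) * h2
      · (try simp only [map_add, map_mul, map_pow, map_zero, map_one, hff]) <;> linear_combination (0 : K) * h2
      · (try simp only [map_add, map_mul, map_pow, map_zero, map_one, hff]) <;> linear_combination (0 : K) * h2
      · (try simp only [map_add, map_mul, map_pow, map_zero, map_one, hff]) <;> linear_combination (0 : K) * h2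
      · (try simp only [map_add, map_mul, map_pow, map_zero, map_one, hff]) <;> linear_combination (0 : K) * h2
      · (try simp only [map_add, map_mul, map_pow, map_zero, map_one, hff]) <;> linear_combination (0 : K) * h2
      · (try simp only [map_add, map_mul, map_pow, map_zero, map_one, hff]) <;> linear_combination (0 : K) * h2
      · (try simp only [map_add, map_mul, map_pow, map_zero, map_one, hff]) <;> linear_combination (0 : K) * h2
      · (try simp only [map_add, map_mul, map_pow, map_zero, map_one, hff]) <;> linear_combination (0 : K) * h2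
      · (try simp only [map_add, map_mul, map_pow, map_zero, map_one, hff]) <;> linear_combination (0 : K) * h2
      · (try simp only [map_add, map_mul, map_pow, map_zero, map_one, hff]) <;> linear_combination (0 : K) * h2
      · (try simp only [map_add, map_mul, map_pow, map_zero, map_one, hff]) <;> linear_combination (0 : K) * h2
      · (try simp only [map_add, map_mul, map_pow, map_zero, map_one, hff]) <;> linear_combination (0 : K) * h2
      · (try simp only [map_add, map_mul, map_pow, map_zero, map_one, hff]) <;> linear_combination (0 : K) * h2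
      · (try simp only [map_add, map_mul, map_pow, map_zero, map_one, hff]) <;> linear_combination (0 : K) * h2
      · (try simp only [map_add, map_mul, map_pow, map_zero, map_one, hff]) <;> linear_combination (0 : K) * h2
      · (try simp only [map_add, map_mul, map_pow, map_zero, map_one, hff]) <;> linear_combination (0 : K) * h2
      · (try simp only [map_add, map_mul, map_pow, map_zero, map_one, hff]) <;> linear_combination (0 : K) * h2
      · (try simp only [map_add, map_mul, map_pow, map_zero, map_one, hff]) <;> linear_combination (0 : K) * h2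
      · (try simp only [map_add, map_mul, map_pow, map_zero, map_one, hff]) <;> linear_combination (0 : K) * h2
      · (try simp only [map_add, map_mul, map_pow, map_zero, map_one, hff]) <;> linear_combination (0 : K) * h2

theorem T1c_1 (d : Dt f)  (hm : E f 0 0 0 0 0 0 0 0 0 0 0 0 0 0 0 0 0 0 0 0 0 0 0 (1) ∈ (sc f).G1) (hs : E f 0 0 0 0 0 0 0 0 0 0 0 0 0 0 0 0 0 0 0 0 0 0 0 (1) * E f 0 0 0 0 0 0 0 0 0 0 0 0 0 0 0 0 0 0 0 0 0 0 0 (1) = 1) : Res f (E f 0 0 0 0 0 0 0 0 0 0 0 0 0 0 0 0 0 0 0 0 0 0 0 (1)) := by
  exact Res.t1 f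

theorem T1c (d : Dt f)  (hm : E f 0 0 0 0 0 0 0 0 (1) 0 0 0 0 0 0 0 0 0 0 0 0 0 0 0 ∈ (sc f).G1) (hs : E f 0 0 0 0 0 0 0 0 (1) 0 0 0 0 0 0 0 0 0 0 0 0 0 0 0 * E f 0 0 0 0 0 0 0 0 (1) 0 0 0 0 0 0 0 0 0 0 0 0 0 0 0 = 1) : Res f (E f 0 0 0 0 0 0 0 0 (1) 0 0 0 0 0 0 0 0 0 0 0 0 0 0 0) := by
  obtain ⟨it39, it44, it46, it47, it51, it53, it60, it63, it65, it69, it70, it71⟩ := inv_of_mem d hm
  have c : Cj f (E f 0 0 0 0 0 0 0 0 (1) 0 0 0 0 0 0 0 0 0 0 0 0 0 0 0) (E f 0 0 0 0 0 0 0 0 0 0 0 0 0 0 0 0 0 0 0 0 0 0 0 (1)) := cjN f (nR_mem f [0, 1, 2, 3, 1, 2, 1]) (nE_T1c d.hff )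
  exact Res.of_cj f c (T1c_1 d  (c.mem f hm) (c.sq f hs))

theorem P46 {t46 : K} (d : Dt f) (hp46 : t46 ≠ 0) (hm : E f 0 0 0 0 0 0 0 0 (t46) 0 0 0 0 0 0 0 0 0 0 0 0 0 0 0 ∈ (sc f).G1) (hs : E f 0 0 0 0 0 0 0 0 (t46) 0 0 0 0 0 0 0 0 0 0 0 0 0 0 0 * E f 0 0 0 0 0 0 0 0 (t46) 0 0 0 0 0 0 0 0 0 0 0 0 0 0 0 = 1) : Res f (E f 0 0 0 0 0 0 0 0 (t46) 0 0 0 0 0 0 0 0 0 0 0 0 0 0 0) := by
  obtain ⟨it39, it44, it46, it47, it51, it53, it60, it63, it65, it69, it70, it71⟩ := inv_of_mem d hm
  have c := scale_a d hp46 it46
  exact Res.of_cj f c (T1c d (c.mem f hm) (c.sq f hs))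

theorem D0_1 {t46 : K} (d : Dt f) (hp46 : t46 ≠ 0) (hm : E f 0 0 0 0 0 0 0 0 (t46) 0 0 0 0 0 0 0 0 0 0 0 0 0 0 0 ∈ (sc f).G1) (hs : E f 0 0 0 0 0 0 0 0 (t46) 0 0 0 0 0 0 0 0 0 0 0 0 0 0 0 * E f 0 0 0 0 0 0 0 0 (t46) 0 0 0 0 0 0 0 0 0 0 0 0 0 0 0 = 1) : Res f (E f 0 0 0 0 0 0 0 0 (t46) 0 0 0 0 0 0 0 0 0 0 0 0 0 0 0) := by
  exact P46 d hp46 hm hs

theorem D0 {t71 : K} (d : Dt f) (hp71 : t71 ≠ 0) (hm : E f 0 0 0 0 0 0 0 0 0 0 0 0 0 0 0 0 0 0 0 0 0 0 0 (t71) ∈ (sc f).G1) (hs : E f 0 0 0 0 0 0 0 0 0 0 0 0 0 0 0 0 0 0 0 0 0 0 0 (t71) * E f 0 0 0 0 0 0 0 0 0 0 0 0 0 0 0 0 0 0 0 0 0 0 0 (t71) = 1) : Res f (E f 0 0 0 0 0 0 0 0 0 0 0 0 0 0 0 0 0 0 0 0 0 0 0 (t71)) := by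
  obtain ⟨it39, it44, it46, it47, it51, it53, it60, it63, it65, it69, it70, it71⟩ := inv_of_mem d hm
  have c : Cj f (E f 0 0 0 0 0 0 0 0 0 0 0 0 0 0 0 0 0 0 0 0 0 0 0 (t71)) (E f 0 0 0 0 0 0 0 0 (t71) 0 0 0 0 0 0 0 0 0 0 0 0 0 0 0) := cjN f (nR_mem f [1, 2, 3, 1, 2, 1, 0]) (nE_D0 d.hff it71)
  exact Res.of_cj f c (D0_1 d hp71 (c.mem f hm) (c.sq f hs))

theorem nE_D1 {t39 t71 : K} (hff : ∀ t, f (f t) = t) (it39 : f t39 = t39) (it71 : f t71 = t71) :
    nR [3, 0, 1, 2, 1, 0] * E f 0 0 0 (t39) 0 0 0 0 0 0 0 0 0 0 0 0 0 0 0 0 0 0 0 (t71) * (nR [3, 0, 1, 2, 1, 0])⁻¹ = E f 0 0 0 (t39) 0 0 (t71) 0 0 0 0 0 0 0 0 0 0 0 0 0 0 0 0 0 := by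
  have h2 : (2 : K) = 0 := CharTwo.two_eq_zero
  have c39 := fun t : K => nR_at (l := [3, 0, 1, 2, 1, 0]) (s := 39) (m := 39) (by decide +kernel) t
  have c71 := fun t : K => nR_at (l := [3, 0, 1, 2, 1, 0]) (s := 71) (m := 44) (by decide +kernel) t
  unfold E
  rw [conj_W]
  simp only [map_zero, zero_mul, mul_zero, add_zero, zero_add, conj_x0, one_mul, c39, c71]
  rw [← W_zero (K := K)]
  simp only [xW_39, xW_44, zero_mul, mul_zero, add_zero, zero_add]
  first
    | done
    | apply W_congr
      · (try simp only [map_add, map_mul, map_pow, map_zero, map_one, hff, it39, it71]) <;> linear_combination (0 : K) * h2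
      · (try simp only [map_add, map_mul, map_pow, map_zero, map_one, hff, it39, it71]) <;> linear_combination (0 : K) * h2
      · (try simp only [map_add, map_mul, map_pow, map_zero, map_one, hff, it39, it71]) <;> linear_combination (0 : K) * h2
      · (try simp only [map_add, map_mul, map_pow, map_zero, map_one, hff, it39, it71]) <;> linear_combination (0 : K) * h2
      · (try simp only [map_add, map_mul, map_pow, map_zero, map_one, hff, it39, it71]) <;> linear_combination (0 : K) * h2
      · (try simp only [map_add, map_mul, map_pow, map_zero, map_one, hff, it39, it71]) <;> linear_combination (0 : K) * h2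
      · (try simp only [map_add, map_mul, map_pow, map_zero, map_one, hff, it39, it71]) <;> linear_combination (0 : K) * h2
      · (try simp only [map_add, map_mul, map_pow, map_zero, map_one, hff, it39, it71]) <;> linear_combination (0 : K) * h2
      · (try simp only [map_add, map_mul, map_pow, map_zero, map_one, hff, it39, it71]) <;> linear_combination (0 : K) * h2
      · (try simp only [map_add, map_mul, map_pow, map_zero, map_one, hff, it39, it71]) <;> linear_combination (0 : K) * h2
      · (try simp only [map_add, map_mul, map_pow, map_zero, map_one, hff, it39, it71]) <;> linear_combination (0 : K) * h2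
      · (try simp only [map_add, map_mul, map_pow, map_zero, map_one, hff, it39, it71]) <;> linear_combination (0 : K) * h2
      · (try simp only [map_add, map_mul, map_pow, map_zero, map_one, hff, it39, it71]) <;> linear_combination (0 : K) * h2
      · (try simp only [map_add, map_mul, map_pow, map_zero, map_one, hff, it39, it71]) <;> linear_combination (0 : K) * h2
      · (try simp only [map_add, map_mul, map_pow, map_zero, map_one, hff, it39, it71]) <;> linear_combination (0 : K) * h2
      · (try simp only [map_add, map_mul, map_pow, map_zero, map_one, hff, it39, it71]) <;> linear_combination (0 : K) * h2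
      · (try simp only [map_add, map_mul, map_pow, map_zero, map_one, hff, it39, it71]) <;> linear_combination (0 : K) * h2
      · (try simp only [map_add, map_mul, map_pow, map_zero, map_one, hff, it39, it71]) <;> linear_combination (0 : K) * h2
      · (try simp only [map_add, map_mul, map_pow, map_zero, map_one, hff, it39, it71]) <;> linear_combination (0 : K) * h2
      · (try simp only [map_add, map_mul, map_pow, map_zero, map_one, hff, it39, it71]) <;> linear_combination (0 : K) * h2
      · (try simp only [map_add, map_mul, map_pow, map_zero, map_one, hff, it39, it71]) <;> linear_combination (0 : K) * h2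
      · (try simp only [map_add, map_mul, map_pow, map_zero, map_one, hff, it39, it71]) <;> linear_combination (0 : K) * h2
      · (try simp only [map_add, map_mul, map_pow, map_zero, map_one, hff, it39, it71]) <;> linear_combination (0 : K) * h2
      · (try simp only [map_add, map_mul, map_pow, map_zero, map_one, hff, it39, it71]) <;> linear_combination (0 : K) * h2
      · (try simp only [map_add, map_mul, map_pow, map_zero, map_one, hff, it39, it71]) <;> linear_combination (0 : K) * h2
      · (try simp only [map_add, map_mul, map_pow, map_zero, map_one, hff, it39, it71]) <;> linear_combination (0 : K) * h2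
      · (try simp only [map_add, map_mul, map_pow, map_zero, map_one, hff, it39, it71]) <;> linear_combination (0 : K) * h2
      · (try simp only [map_add, map_mul, map_pow, map_zero, map_one, hff, it39, it71]) <;> linear_combination (0 : K) * h2
      · (try simp only [map_add, map_mul, map_pow, map_zero, map_one, hff, it39, it71]) <;> linear_combination (0 : K) * h2
      · (try simp only [map_add, map_mul, map_pow, map_zero, map_one, hff, it39, it71]) <;> linear_combination (0 : K) * h2
      · (try simp only [map_add, map_mul, map_pow, map_zero, map_one, hff, it39, it71]) <;> linear_combination (0 : K) * h2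
      · (try simp only [map_add, map_mul, map_pow, map_zero, map_one, hff, it39, it71]) <;> linear_combination (0 : K) * h2
      · (try simp only [map_add, map_mul, map_pow, map_zero, map_one, hff, it39, it71]) <;> linear_combination (0 : K) * h2
      · (try simp only [map_add, map_mul, map_pow, map_zero, map_one, hff, it39, it71]) <;> linear_combination (0 : K) * h2
      · (try simp only [map_add, map_mul, map_pow, map_zero, map_one, hff, it39, it71]) <;> linear_combination (0 : K) * h2
      · (try simp only [map_add, map_mul, map_pow, map_zero, map_one, hff, it39, it71]) <;> linear_combination (0 : K) * h2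

theorem st_D1b {t39 w : K} (hff : ∀ t, f (f t) = t) (it39 : f t39 = t39) (iw : f w = w) :
    E f 0 (w) 0 0 0 0 0 0 0 0 0 0 0 0 0 0 0 0 0 0 0 0 0 0 * E f 0 0 0 (t39) 0 0 ((t39) * (w * w)) 0 0 0 0 0 0 0 0 0 0 0 0 0 0 0 0 0 = E f 0 0 0 (t39) (t39*w) 0 0 0 0 0 0 0 0 0 0 0 0 0 0 0 0 0 0 0 * E f 0 (w) 0 0 0 0 0 0 0 0 0 0 0 0 0 0 0 0 0 0 0 0 0 0 := by
  have h2 : (2 : K) = 0 := CharTwo.two_eq_zero
  unfold E
  rw [W_mul, W_mul]
  apply W_congr
  · (try simp only [map_add, map_mul, map_pow, map_zero, map_one, hff, it39, iw]) <;> linear_combination (0 : K) * h2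
  · (try simp only [map_add, map_mul, map_pow, map_zero, map_one, hff, it39, iw]) <;> linear_combination (0 : K) * h2
  · (try simp only [map_add, map_mul, map_pow, map_zero, map_one, hff, it39, iw]) <;> linear_combination (0 : K) * h2
  · (try simp only [map_add, map_mul, map_pow, map_zero, map_one, hff, it39, iw]) <;> linear_combination (0 : K) * h2
  · (try simp only [map_add, map_mul, map_pow, map_zero, map_one, hff, it39, iw]) <;> linear_combination (-t39*w) * h2
  · (try simp only [map_add, map_mul, map_pow, map_zero, map_one, hff, it39, iw]) <;> linear_combination (0 : K) * h2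
  · (try simp only [map_add, map_mul, map_pow, map_zero, map_one, hff, it39, iw]) <;> linear_combination (0 : K) * h2
  · (try simp only [map_add, map_mul, map_pow, map_zero, map_one, hff, it39, iw]) <;> linear_combination (0 : K) * h2
  · (try simp only [map_add, map_mul, map_pow, map_zero, map_one, hff, it39, iw]) <;> linear_combination (0 : K) * h2
  · (try simp only [map_add, map_mul, map_pow, map_zero, map_one, hff, it39, iw]) <;> linear_combination (0 : K) * h2
  · (try simp only [map_add, map_mul, map_pow, map_zero, map_one, hff, it39, iw]) <;> linear_combination (0 : K) * h2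
  · (try simp only [map_add, map_mul, map_pow, map_zero, map_one, hff, it39, iw]) <;> linear_combination (0 : K) * h2
  · (try simp only [map_add, map_mul, map_pow, map_zero, map_one, hff, it39, iw]) <;> linear_combination (0 : K) * h2
  · (try simp only [map_add, map_mul, map_pow, map_zero, map_one, hff, it39, iw]) <;> linear_combination (0 : K) * h2
  · (try simp only [map_add, map_mul, map_pow, map_zero, map_one, hff, it39, iw]) <;> linear_combination (0 : K) * h2
  · (try simp only [map_add, map_mul, map_pow, map_zero, map_one, hff, it39, iw]) <;> linear_combination (0 : K) * h2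
  · (try simp only [map_add, map_mul, map_pow, map_zero, map_one, hff, it39, iw]) <;> linear_combination (0 : K) * h2
  · (try simp only [map_add, map_mul, map_pow, map_zero, map_one, hff, it39, iw]) <;> linear_combination (0 : K) * h2
  · (try simp only [map_add, map_mul, map_pow, map_zero, map_one, hff, it39, iw]) <;> linear_combination (0 : K) * h2
  · (try simp only [map_add, map_mul, map_pow, map_zero, map_one, hff, it39, iw]) <;> linear_combination (0 : K) * h2
  · (try simp only [map_add, map_mul, map_pow, map_zero, map_one, hff, it39, iw]) <;> linear_combination (0 : K) * h2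
  · (try simp only [map_add, map_mul, map_pow, map_zero, map_one, hff, it39, iw]) <;> linear_combination (0 : K) * h2
  · (try simp only [map_add, map_mul, map_pow, map_zero, map_one, hff, it39, iw]) <;> linear_combination (0 : K) * h2
  · (try simp only [map_add, map_mul, map_pow, map_zero, map_one, hff, it39, iw]) <;> linear_combination (0 : K) * h2
  · (try simp only [map_add, map_mul, map_pow, map_zero, map_one, hff, it39, iw]) <;> linear_combination (0 : K) * h2
  · (try simp only [map_add, map_mul, map_pow, map_zero, map_one, hff, it39, iw]) <;> linear_combination (0 : K) * h2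
  · (try simp only [map_add, map_mul, map_pow, map_zero, map_one, hff, it39, iw]) <;> linear_combination (0 : K) * h2
  · (try simp only [map_add, map_mul, map_pow, map_zero, map_one, hff, it39, iw]) <;> linear_combination (0 : K) * h2
  · (try simp only [map_add, map_mul, map_pow, map_zero, map_one, hff, it39, iw]) <;> linear_combination (0 : K) * h2
  · (try simp only [map_add, map_mul, map_pow, map_zero, map_one, hff, it39, iw]) <;> linear_combination (0 : K) * h2
  · (try simp only [map_add, map_mul, map_pow, map_zero, map_one, hff, it39, iw]) <;> linear_combination (0 : K) * h2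
  · (try simp only [map_add, map_mul, map_pow, map_zero, map_one, hff, it39, iw]) <;> linear_combination (0 : K) * h2
  · (try simp only [map_add, map_mul, map_pow, map_zero, map_one, hff, it39, iw]) <;> linear_combination (0 : K) * h2
  · (try simp only [map_add, map_mul, map_pow, map_zero, map_one, hff, it39, iw]) <;> linear_combination (0 : K) * h2
  · (try simp only [map_add, map_mul, map_pow, map_zero, map_one, hff, it39, iw]) <;> linear_combination (0 : K) * h2
  · (try simp only [map_add, map_mul, map_pow, map_zero, map_one, hff, it39, iw]) <;> linear_combination (0 : K) * h2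

theorem nE_D1b_1 {l40 t39 : K} (hff : ∀ t, f (f t) = t) (it39 : f t39 = t39) :
    nR [2] * E f 0 0 0 (t39) (l40) 0 0 0 0 0 0 0 0 0 0 0 0 0 0 0 0 0 0 0 * (nR [2])⁻¹ = E f 0 0 0 0 ((f l40)) 0 (t39) 0 0 0 0 0 0 0 0 0 0 0 0 0 0 0 0 0 := by
  have h2 : (2 : K) = 0 := CharTwo.two_eq_zero
  have c39 := fun t : K => nR_at (l := [2]) (s := 39) (m := 44) (by decide +kernel) t
  have c40 := fun t : K => nR_at (l := [2]) (s := 40) (m := 43) (by decide +kernel) t
  have c43 := fun t : K => nR_at (l := [2]) (s := 43) (m := 40) (by decide +kernel) t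
  unfold E
  rw [conj_W]
  simp only [map_zero, zero_mul, mul_zero, add_zero, zero_add, conj_x0, one_mul, c39, c40, c43]
  rw [← W_zero (K := K)]
  simp only [xW_40, xW_43, xW_44, zero_mul, mul_zero, add_zero, zero_add]
  first
    | done
    | apply W_congr
      · (try simp only [map_add, map_mul, map_pow, map_zero, map_one, hff, it39]) <;> linear_combination (0 : K) * h2
      · (try simp only [map_add, map_mul, map_pow, map_zero, map_one, hff, it39]) <;> linear_combination (0 : K) * h2
      · (try simp only [map_add, map_mul, map_pow, map_zero, map_one, hff, it39]) <;> linear_combination (0 : K) * h2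
      · (try simp only [map_add, map_mul, map_pow, map_zero, map_one, hff, it39]) <;> linear_combination (0 : K) * h2
      · (try simp only [map_add, map_mul, map_pow, map_zero, map_one, hff, it39]) <;> linear_combination (0 : K) * h2
      · (try simp only [map_add, map_mul, map_pow, map_zero, map_one, hff, it39]) <;> linear_combination (0 : K) * h2
      · (try simp only [map_add, map_mul, map_pow, map_zero, map_one, hff, it39]) <;> linear_combination (0 : K) * h2
      · (try simp only [map_add, map_mul, map_pow, map_zero, map_one, hff, it39]) <;> linear_combination (0 : K) * h2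
      · (try simp only [map_add, map_mul, map_pow, map_zero, map_one, hff, it39]) <;> linear_combination (0 : K) * h2
      · (try simp only [map_add, map_mul, map_pow, map_zero, map_one, hff, it39]) <;> linear_combination (0 : K) * h2
      · (try simp only [map_add, map_mul, map_pow, map_zero, map_one, hff, it39]) <;> linear_combination (0 : K) * h2
      · (try simp only [map_add, map_mul, map_pow, map_zero, map_one, hff, it39]) <;> linear_combination (0 : K) * h2
      · (try simp only [map_add, map_mul, map_pow, map_zero, map_one, hff, it39]) <;> linear_combination (0 : K) * h2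
      · (try simp only [map_add, map_mul, map_pow, map_zero, map_one, hff, it39]) <;> linear_combination (0 : K) * h2
      · (try simp only [map_add, map_mul, map_pow, map_zero, map_one, hff, it39]) <;> linear_combination (0 : K) * h2
      · (try simp only [map_add, map_mul, map_pow, map_zero, map_one, hff, it39]) <;> linear_combination (0 : K) * h2
      · (try simp only [map_add, map_mul, map_pow, map_zero, map_one, hff, it39]) <;> linear_combination (0 : K) * h2
      · (try simp only [map_add, map_mul, map_pow, map_zero, map_one, hff, it39]) <;> linear_combination (0 : K) * h2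
      · (try simp only [map_add, map_mul, map_pow, map_zero, map_one, hff, it39]) <;> linear_combination (0 : K) * h2
      · (try simp only [map_add, map_mul, map_pow, map_zero, map_one, hff, it39]) <;> linear_combination (0 : K) * h2
      · (try simp only [map_add, map_mul, map_pow, map_zero, map_one, hff, it39]) <;> linear_combination (0 : K) * h2
      · (try simp only [map_add, map_mul, map_pow, map_zero, map_one, hff, it39]) <;> linear_combination (0 : K) * h2
      · (try simp only [map_add, map_mul, map_pow, map_zero, map_one, hff, it39]) <;> linear_combination (0 : K) * h2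
      · (try simp only [map_add, map_mul, map_pow, map_zero, map_one, hff, it39]) <;> linear_combination (0 : K) * h2
      · (try simp only [map_add, map_mul, map_pow, map_zero, map_one, hff, it39]) <;> linear_combination (0 : K) * h2
      · (try simp only [map_add, map_mul, map_pow, map_zero, map_one, hff, it39]) <;> linear_combination (0 : K) * h2
      · (try simp only [map_add, map_mul, map_pow, map_zero, map_one, hff, it39]) <;> linear_combination (0 : K) * h2
      · (try simp only [map_add, map_mul, map_pow, map_zero, map_one, hff, it39]) <;> linear_combination (0 : K) * h2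
      · (try simp only [map_add, map_mul, map_pow, map_zero, map_one, hff, it39]) <;> linear_combination (0 : K) * h2
      · (try simp only [map_add, map_mul, map_pow, map_zero, map_one, hff, it39]) <;> linear_combination (0 : K) * h2
      · (try simp only [map_add, map_mul, map_pow, map_zero, map_one, hff, it39]) <;> linear_combination (0 : K) * h2
      · (try simp only [map_add, map_mul, map_pow, map_zero, map_one, hff, it39]) <;> linear_combination (0 : K) * h2
      · (try simp only [map_add, map_mul, map_pow, map_zero, map_one, hff, it39]) <;> linear_combination (0 : K) * h2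
      · (try simp only [map_add, map_mul, map_pow, map_zero, map_one, hff, it39]) <;> linear_combination (0 : K) * h2
      · (try simp only [map_add, map_mul, map_pow, map_zero, map_one, hff, it39]) <;> linear_combination (0 : K) * h2
      · (try simp only [map_add, map_mul, map_pow, map_zero, map_one, hff, it39]) <;> linear_combination (0 : K) * h2

theorem st_D1b_1_1 {l40 y : K} (hff : ∀ t, f (f t) = t)  :
    E f 0 (y) 0 0 0 0 0 0 0 0 0 0 0 0 0 0 0 0 0 0 0 0 0 0 * E f 0 0 0 0 (l40) 0 ((l40) * f y + f (l40) * y) 0 0 0 0 0 0 0 0 0 0 0 0 0 0 0 0 0 = E f 0 0 0 0 (l40) 0 0 0 0 0 0 0 0 0 0 0 0 0 0 0 0 0 0 0 * E f 0 (y) 0 0 0 0 0 0 0 0 0 0 0 0 0 0 0 0 0 0 0 0 0 0 := by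
  have h2 : (2 : K) = 0 := CharTwo.two_eq_zero
  unfold E
  rw [W_mul, W_mul]
  apply W_congr
  · (try simp only [map_add, map_mul, map_pow, map_zero, map_one, hff]) <;> linear_combination (0 : K) * h2
  · (try simp only [map_add, map_mul, map_pow, map_zero, map_one, hff]) <;> linear_combination (0 : K) * h2
  · (try simp only [map_add, map_mul, map_pow, map_zero, map_one, hff]) <;> linear_combination (0 : K) * h2
  · (try simp only [map_add, map_mul, map_pow, map_zero, map_one, hff]) <;> linear_combination (0 : K) * h2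
  · (try simp only [map_add, map_mul, map_pow, map_zero, map_one, hff]) <;> linear_combination (0 : K) * h2
  · (try simp only [map_add, map_mul, map_pow, map_zero, map_one, hff]) <;> linear_combination (0 : K) * h2
  · (try simp only [map_add, map_mul, map_pow, map_zero, map_one, hff]) <;> linear_combination (0 : K) * h2
  · (try simp only [map_add, map_mul, map_pow, map_zero, map_one, hff]) <;> linear_combination (0 : K) * h2
  · (try simp only [map_add, map_mul, map_pow, map_zero, map_one, hff]) <;> linear_combination (l40*(f y)) * h2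
  · (try simp only [map_add, map_mul, map_pow, map_zero, map_one, hff]) <;> linear_combination (0 : K) * h2
  · (try simp only [map_add, map_mul, map_pow, map_zero, map_one, hff]) <;> linear_combination (0 : K) * h2
  · (try simp only [map_add, map_mul, map_pow, map_zero, map_one, hff]) <;> linear_combination (0 : K) * h2
  · (try simp only [map_add, map_mul, map_pow, map_zero, map_one, hff]) <;> linear_combination (0 : K) * h2
  · (try simp only [map_add, map_mul, map_pow, map_zero, map_one, hff]) <;> linear_combination (0 : K) * h2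
  · (try simp only [map_add, map_mul, map_pow, map_zero, map_one, hff]) <;> linear_combination (0 : K) * h2
  · (try simp only [map_add, map_mul, map_pow, map_zero, map_one, hff]) <;> linear_combination (0 : K) * h2
  · (try simp only [map_add, map_mul, map_pow, map_zero, map_one, hff]) <;> linear_combination (0 : K) * h2
  · (try simp only [map_add, map_mul, map_pow, map_zero, map_one, hff]) <;> linear_combination (0 : K) * h2
  · (try simp only [map_add, map_mul, map_pow, map_zero, map_one, hff]) <;> linear_combination (0 : K) * h2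
  · (try simp only [map_add, map_mul, map_pow, map_zero, map_one, hff]) <;> linear_combination (0 : K) * h2
  · (try simp only [map_add, map_mul, map_pow, map_zero, map_one, hff]) <;> linear_combination (0 : K) * h2
  · (try simp only [map_add, map_mul, map_pow, map_zero, map_one, hff]) <;> linear_combination (0 : K) * h2
  · (try simp only [map_add, map_mul, map_pow, map_zero, map_one, hff]) <;> linear_combination (0 : K) * h2
  · (try simp only [map_add, map_mul, map_pow, map_zero, map_one, hff]) <;> linear_combination (0 : K) * h2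
  · (try simp only [map_add, map_mul, map_pow, map_zero, map_one, hff]) <;> linear_combination (0 : K) * h2
  · (try simp only [map_add, map_mul, map_pow, map_zero, map_one, hff]) <;> linear_combination (0 : K) * h2
  · (try simp only [map_add, map_mul, map_pow, map_zero, map_one, hff]) <;> linear_combination (0 : K) * h2
  · (try simp only [map_add, map_mul, map_pow, map_zero, map_one, hff]) <;> linear_combination (0 : K) * h2
  · (try simp only [map_add, map_mul, map_pow, map_zero, map_one, hff]) <;> linear_combination (0 : K) * h2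
  · (try simp only [map_add, map_mul, map_pow, map_zero, map_one, hff]) <;> linear_combination (0 : K) * h2
  · (try simp only [map_add, map_mul, map_pow, map_zero, map_one, hff]) <;> linear_combination (0 : K) * h2
  · (try simp only [map_add, map_mul, map_pow, map_zero, map_one, hff]) <;> linear_combination (0 : K) * h2
  · (try simp only [map_add, map_mul, map_pow, map_zero, map_one, hff]) <;> linear_combination (0 : K) * h2
  · (try simp only [map_add, map_mul, map_pow, map_zero, map_one, hff]) <;> linear_combination (0 : K) * h2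
  · (try simp only [map_add, map_mul, map_pow, map_zero, map_one, hff]) <;> linear_combination (0 : K) * h2
  · (try simp only [map_add, map_mul, map_pow, map_zero, map_one, hff]) <;> linear_combination (0 : K) * h2

theorem nE_Dsh {l40 : K} (hff : ∀ t, f (f t) = t)  :
    nR [1] * E f 0 0 0 0 (l40) 0 0 0 0 0 0 0 0 0 0 0 0 0 0 0 0 0 0 0 * (nR [1])⁻¹ = E f 0 (l40) 0 0 0 0 0 0 0 0 0 0 0 0 0 0 0 0 0 0 0 0 0 0 := by
  have h2 : (2 : K) = 0 := CharTwo.two_eq_zero
  have c40 := fun t : K => nR_at (l := [1]) (s := 40) (m := 37) (by decide +kernel) t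
  have c43 := fun t : K => nR_at (l := [1]) (s := 43) (m := 42) (by decide +kernel) t
  unfold E
  rw [conj_W]
  simp only [map_zero, zero_mul, mul_zero, add_zero, zero_add, conj_x0, one_mul, c40, c43]
  rw [← W_zero (K := K)]
  simp only [xW_37, xW_42, zero_mul, mul_zero, add_zero, zero_add]
  first
    | done
    | apply W_congr
      · (try simp only [map_add, map_mul, map_pow, map_zero, map_one, hff]) <;> linear_combination (0 : K) * h2
      · (try simp only [map_add, map_mul, map_pow, map_zero, map_one, hff]) <;> linear_combination (0 : K) * h2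
      · (try simp only [map_add, map_mul, map_pow, map_zero, map_one, hff]) <;> linear_combination (0 : K) * h2
      · (try simp only [map_add, map_mul, map_pow, map_zero, map_one, hff]) <;> linear_combination (0 : K) * h2
      · (try simp only [map_add, map_mul, map_pow, map_zero, map_one, hff]) <;> linear_combination (0 : K) * h2
      · (try simp only [map_add, map_mul, map_pow, map_zero, map_one, hff]) <;> linear_combination (0 : K) * h2
      · (try simp only [map_add, map_mul, map_pow, map_zero, map_one, hff]) <;> linear_combination (0 : K) * h2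
      · (try simp only [map_add, map_mul, map_pow, map_zero, map_one, hff]) <;> linear_combination (0 : K) * h2
      · (try simp only [map_add, map_mul, map_pow, map_zero, map_one, hff]) <;> linear_combination (0 : K) * h2
      · (try simp only [map_add, map_mul, map_pow, map_zero, map_one, hff]) <;> linear_combination (0 : K) * h2
      · (try simp only [map_add, map_mul, map_pow, map_zero, map_one, hff]) <;> linear_combination (0 : K) * h2
      · (try simp only [map_add, map_mul, map_pow, map_zero, map_one, hff]) <;> linear_combination (0 : K) * h2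
      · (try simp only [map_add, map_mul, map_pow, map_zero, map_one, hff]) <;> linear_combination (0 : K) * h2
      · (try simp only [map_add, map_mul, map_pow, map_zero, map_one, hff]) <;> linear_combination (0 : K) * h2
      · (try simp only [map_add, map_mul, map_pow, map_zero, map_one, hff]) <;> linear_combination (0 : K) * h2
      · (try simp only [map_add, map_mul, map_pow, map_zero, map_one, hff]) <;> linear_combination (0 : K) * h2
      · (try simp only [map_add, map_mul, map_pow, map_zero, map_one, hff]) <;> linear_combination (0 : K) * h2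
      · (try simp only [map_add, map_mul, map_pow, map_zero, map_one, hff]) <;> linear_combination (0 : K) * h2
      · (try simp only [map_add, map_mul, map_pow, map_zero, map_one, hff]) <;> linear_combination (0 : K) * h2
      · (try simp only [map_add, map_mul, map_pow, map_zero, map_one, hff]) <;> linear_combination (0 : K) * h2
      · (try simp only [map_add, map_mul, map_pow, map_zero, map_one, hff]) <;> linear_combination (0 : K) * h2
      · (try simp only [map_add, map_mul, map_pow, map_zero, map_one, hff]) <;> linear_combination (0 : K) * h2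
      · (try simp only [map_add, map_mul, map_pow, map_zero, map_one, hff]) <;> linear_combination (0 : K) * h2
      · (try simp only [map_add, map_mul, map_pow, map_zero, map_one, hff]) <;> linear_combination (0 : K) * h2
      · (try simp only [map_add, map_mul, map_pow, map_zero, map_one, hff]) <;> linear_combination (0 : K) * h2
      · (try simp only [map_add, map_mul, map_pow, map_zero, map_one, hff]) <;> linear_combination (0 : K) * h2
      · (try simp only [map_add, map_mul, map_pow, map_zero, map_one, hff]) <;> linear_combination (0 : K) * h2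
      · (try simp only [map_add, map_mul, map_pow, map_zero, map_one, hff]) <;> linear_combination (0 : K) * h2
      · (try simp only [map_add, map_mul, map_pow, map_zero, map_one, hff]) <;> linear_combination (0 : K) * h2
      · (try simp only [map_add, map_mul, map_pow, map_zero, map_one, hff]) <;> linear_combination (0 : K) * h2
      · (try simp only [map_add, map_mul, map_pow, map_zero, map_one, hff]) <;> linear_combination (0 : K) * h2
      · (try simp only [map_add, map_mul, map_pow, map_zero, map_one, hff]) <;> linear_combination (0 : K) * h2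
      · (try simp only [map_add, map_mul, map_pow, map_zero, map_one, hff]) <;> linear_combination (0 : K) * h2
      · (try simp only [map_add, map_mul, map_pow, map_zero, map_one, hff]) <;> linear_combination (0 : K) * h2
      · (try simp only [map_add, map_mul, map_pow, map_zero, map_one, hff]) <;> linear_combination (0 : K) * h2
      · (try simp only [map_add, map_mul, map_pow, map_zero, map_one, hff]) <;> linear_combination (0 : K) * h2

theorem nE_T2c (hff : ∀ t, f (f t) = t)  :
    nR [3, 2, 1, 2, 3, 0, 1] * E f 0 (1) 0 0 0 0 0 0 0 0 0 0 0 0 0 0 0 0 0 0 0 0 0 0 * (nR [3, 2, 1, 2, 3, 0, 1])⁻¹ = E f 0 0 0 0 0 0 0 0 0 0 0 0 0 0 0 0 0 0 0 0 (1) 0 0 0 := by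
  have h2 : (2 : K) = 0 := CharTwo.two_eq_zero
  have c37 := fun t : K => nR_at (l := [3, 2, 1, 2, 3, 0, 1]) (s := 37) (m := 66) (by decide +kernel) t
  have c42 := fun t : K => nR_at (l := [3, 2, 1, 2, 3, 0, 1]) (s := 42) (m := 68) (by decide +kernel) t
  unfold E
  rw [conj_W]
  simp only [map_zero, zero_mul, mul_zero, add_zero, zero_add, conj_x0, one_mul, c37, c42]
  rw [← W_zero (K := K)]
  simp only [xW_66, xW_68, zero_mul, mul_zero, add_zero, zero_add]
  first
    | done
    | apply W_congr
      · (try simp only [map_add, map_mul, map_pow, map_zero, map_one, hff]) <;> linear_combination (0 : K) * h2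
      · (try simp only [map_add, map_mul, map_pow, map_zero, map_one, hff]) <;> linear_combination (0 : K) * h2
      · (try simp only [map_add, map_mul, map_pow, map_zero, map_one, hff]) <;> linear_combination (0 : K) * h2
      · (try simp only [map_add, map_mul, map_pow, map_zero, map_one, hff]) <;> linear_combination (0 : K) * h2
      · (try simp only [map_add, map_mul, map_pow, map_zero, map_one, hff]) <;> linear_combination (0 : K) * h2
      · (try simp only [map_add, map_mul, map_pow, map_zero, map_one, hff]) <;> linear_combination (0 : K) * h2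
      · (try simp only [map_add, map_mul, map_pow, map_zero, map_one, hff]) <;> linear_combination (0 : K) * h2
      · (try simp only [map_add, map_mul, map_pow, map_zero, map_one, hff]) <;> linear_combination (0 : K) * h2
      · (try simp only [map_add, map_mul, map_pow, map_zero, map_one, hff]) <;> linear_combination (0 : K) * h2
      · (try simp only [map_add, map_mul, map_pow, map_zero, map_one, hff]) <;> linear_combination (0 : K) * h2
      · (try simp only [map_add, map_mul, map_pow, map_zero, map_one, hff]) <;> linear_combination (0 : K) * h2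
      · (try simp only [map_add, map_mul, map_pow, map_zero, map_one, hff]) <;> linear_combination (0 : K) * h2
      · (try simp only [map_add, map_mul, map_pow, map_zero, map_one, hff]) <;> linear_combination (0 : K) * h2
      · (try simp only [map_add, map_mul, map_pow, map_zero, map_one, hff]) <;> linear_combination (0 : K) * h2
      · (try simp only [map_add, map_mul, map_pow, map_zero, map_one, hff]) <;> linear_combination (0 : K) * h2
      · (try simp only [map_add, map_mul, map_pow, map_zero, map_one, hff]) <;> linear_combination (0 : K) * h2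
      · (try simp only [map_add, map_mul, map_pow, map_zero, map_one, hff]) <;> linear_combination (0 : K) * h2
      · (try simp only [map_add, map_mul, map_pow, map_zero, map_one, hff]) <;> linear_combination (0 : K) * h2
      · (try simp only [map_add, map_mul, map_pow, map_zero, map_one, hff]) <;> linear_combination (0 : K) * h2
      · (try simp only [map_add, map_mul, map_pow, map_zero, map_one, hff]) <;> linear_combination (0 : K) * h2
      · (try simp only [map_add, map_mul, map_pow, map_zero, map_one, hff]) <;> linear_combination (0 : K) * h2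
      · (try simp only [map_add, map_mul, map_pow, map_zero, map_one, hff]) <;> linear_combination (0 : K) * h2
      · (try simp only [map_add, map_mul, map_pow, map_zero, map_one, hff]) <;> linear_combination (0 : K) * h2
      · (try simp only [map_add, map_mul, map_pow, map_zero, map_one, hff]) <;> linear_combination (0 : K) * h2
      · (try simp only [map_add, map_mul, map_pow, map_zero, map_one, hff]) <;> linear_combination (0 : K) * h2
      · (try simp only [map_add, map_mul, map_pow, map_zero, map_one, hff]) <;> linear_combination (0 : K) * h2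
      · (try simp only [map_add, map_mul, map_pow, map_zero, map_one, hff]) <;> linear_combination (0 : K) * h2
      · (try simp only [map_add, map_mul, map_pow, map_zero, map_one, hff]) <;> linear_combination (0 : K) * h2
      · (try simp only [map_add, map_mul, map_pow, map_zero, map_one, hff]) <;> linear_combination (0 : K) * h2
      · (try simp only [map_add, map_mul, map_pow, map_zero, map_one, hff]) <;> linear_combination (0 : K) * h2
      · (try simp only [map_add, map_mul, map_pow, map_zero, map_one, hff]) <;> linear_combination (0 : K) * h2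
      · (try simp only [map_add, map_mul, map_pow, map_zero, map_one, hff]) <;> linear_combination (0 : K) * h2
      · (try simp only [map_add, map_mul, map_pow, map_zero, map_one, hff]) <;> linear_combination (0 : K) * h2
      · (try simp only [map_add, map_mul, map_pow, map_zero, map_one, hff]) <;> linear_combination (0 : K) * h2
      · (try simp only [map_add, map_mul, map_pow, map_zero, map_one, hff]) <;> linear_combination (0 : K) * h2
      · (try simp only [map_add, map_mul, map_pow, map_zero, map_one, hff]) <;> linear_combination (0 : K) * h2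

theorem T2c_1 (d : Dt f)  (hm : E f 0 0 0 0 0 0 0 0 0 0 0 0 0 0 0 0 0 0 0 0 (1) 0 0 0 ∈ (sc f).G1) (hs : E f 0 0 0 0 0 0 0 0 0 0 0 0 0 0 0 0 0 0 0 0 (1) 0 0 0 * E f 0 0 0 0 0 0 0 0 0 0 0 0 0 0 0 0 0 0 0 0 (1) 0 0 0 = 1) : Res f (E f 0 0 0 0 0 0 0 0 0 0 0 0 0 0 0 0 0 0 0 0 (1) 0 0 0) := by
  exact Res.t2 f

theorem T2c (d : Dt f)  (hm : E f 0 (1) 0 0 0 0 0 0 0 0 0 0 0 0 0 0 0 0 0 0 0 0 0 0 ∈ (sc f).G1) (hs : E f 0 (1) 0 0 0 0 0 0 0 0 0 0 0 0 0 0 0 0 0 0 0 0 0 0 * E f 0 (1) 0 0 0 0 0 0 0 0 0 0 0 0 0 0 0 0 0 0 0 0 0 0 = 1) : Res f (E f 0 (1) 0 0 0 0 0 0 0 0 0 0 0 0 0 0 0 0 0 0 0 0 0 0) := by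
  obtain ⟨it39, it44, it46, it47, it51, it53, it60, it63, it65, it69, it70, it71⟩ := inv_of_mem d hm
  have c : Cj f (E f 0 (1) 0 0 0 0 0 0 0 0 0 0 0 0 0 0 0 0 0 0 0 0 0 0) (E f 0 0 0 0 0 0 0 0 0 0 0 0 0 0 0 0 0 0 0 0 (1) 0 0 0) := cjN f (nR_mem f [3, 2, 1, 2, 3, 0, 1]) (nE_T2c d.hff )
  exact Res.of_cj f c (T2c_1 d  (c.mem f hm) (c.sq f hs))

theorem P37 {l37 : K} (d : Dt f) (hp37 : l37 ≠ 0) (hm : E f 0 (l37) 0 0 0 0 0 0 0 0 0 0 0 0 0 0 0 0 0 0 0 0 0 0 ∈ (sc f).G1) (hs : E f 0 (l37) 0 0 0 0 0 0 0 0 0 0 0 0 0 0 0 0 0 0 0 0 0 0 * E f 0 (l37) 0 0 0 0 0 0 0 0 0 0 0 0 0 0 0 0 0 0 0 0 0 0 = 1) : Res f (E f 0 (l37) 0 0 0 0 0 0 0 0 0 0 0 0 0 0 0 0 0 0 0 0 0 0) := by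
  have c := scale_c d hp37
  exact Res.of_cj f c (T2c d (c.mem f hm) (c.sq f hs))

theorem Dsh_1 {l37 : K} (d : Dt f) (hp37 : l37 ≠ 0) (hm : E f 0 (l37) 0 0 0 0 0 0 0 0 0 0 0 0 0 0 0 0 0 0 0 0 0 0 ∈ (sc f).G1) (hs : E f 0 (l37) 0 0 0 0 0 0 0 0 0 0 0 0 0 0 0 0 0 0 0 0 0 0 * E f 0 (l37) 0 0 0 0 0 0 0 0 0 0 0 0 0 0 0 0 0 0 0 0 0 0 = 1) : Res f (E f 0 (l37) 0 0 0 0 0 0 0 0 0 0 0 0 0 0 0 0 0 0 0 0 0 0) := by
  exact P37 d hp37 hm hs

theorem Dsh {l40 : K} (d : Dt f) (hp40 : l40 ≠ 0) (hm : E f 0 0 0 0 (l40) 0 0 0 0 0 0 0 0 0 0 0 0 0 0 0 0 0 0 0 ∈ (sc f).G1) (hs : E f 0 0 0 0 (l40) 0 0 0 0 0 0 0 0 0 0 0 0 0 0 0 0 0 0 0 * E f 0 0 0 0 (l40) 0 0 0 0 0 0 0 0 0 0 0 0 0 0 0 0 0 0 0 = 1) : Res f (E f 0 0 0 0 (l40) 0 0 0 0 0 0 0 0 0 0 0 0 0 0 0 0 0 0 0) := by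
  obtain ⟨it39, it44, it46, it47, it51, it53, it60, it63, it65, it69, it70, it71⟩ := inv_of_mem d hm
  have c : Cj f (E f 0 0 0 0 (l40) 0 0 0 0 0 0 0 0 0 0 0 0 0 0 0 0 0 0 0) (E f 0 (l40) 0 0 0 0 0 0 0 0 0 0 0 0 0 0 0 0 0 0 0 0 0 0) := cjN f (nR_mem f [1]) (nE_Dsh d.hff )
  exact Res.of_cj f c (Dsh_1 d hp40 (c.mem f hm) (c.sq f hs))

theorem D1b_1_1_1 {l40 : K} (d : Dt f) (hp40 : l40 ≠ 0) (hm : E f 0 0 0 0 (l40) 0 0 0 0 0 0 0 0 0 0 0 0 0 0 0 0 0 0 0 ∈ (sc f).G1) (hs : E f 0 0 0 0 (l40) 0 0 0 0 0 0 0 0 0 0 0 0 0 0 0 0 0 0 0 * E f 0 0 0 0 (l40) 0 0 0 0 0 0 0 0 0 0 0 0 0 0 0 0 0 0 0 = 1) : Res f (E f 0 0 0 0 (l40) 0 0 0 0 0 0 0 0 0 0 0 0 0 0 0 0 0 0 0) := by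
  exact Dsh d hp40 hm hs

theorem D1b_1_1 {l40 t44 : K} (d : Dt f) (hp44 : t44 ≠ 0) (hp40 : l40 ≠ 0) (hm : E f 0 0 0 0 (l40) 0 (t44) 0 0 0 0 0 0 0 0 0 0 0 0 0 0 0 0 0 ∈ (sc f).G1) (hs : E f 0 0 0 0 (l40) 0 (t44) 0 0 0 0 0 0 0 0 0 0 0 0 0 0 0 0 0 * E f 0 0 0 0 (l40) 0 (t44) 0 0 0 0 0 0 0 0 0 0 0 0 0 0 0 0 0 = 1) : Res f (E f 0 0 0 0 (l40) 0 (t44) 0 0 0 0 0 0 0 0 0 0 0 0 0 0 0 0 0) := by
  obtain ⟨it39, it44, it46, it47, it51, it53, it60, it63, it65, it69, it70, it71⟩ := inv_of_mem d hm
  obtain ⟨y, rfl⟩ := solve_tr d hp40 it44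
  have c : Cj f (E f 0 0 0 0 (l40) 0 ((l40) * f y + f (l40) * y) 0 0 0 0 0 0 0 0 0 0 0 0 0 0 0 0 0) (E f 0 0 0 0 (l40) 0 0 0 0 0 0 0 0 0 0 0 0 0 0 0 0 0 0 0) := cjS f (E_mem_G1 d (map_zero f) (map_zero f) (map_zero f) (map_zero f) (map_zero f) (map_zero f) (map_zero f) (map_zero f) (map_zero f) (map_zero f) (map_zero f) (map_zero f) 0 (y) 0 0 0 0 0 0 0 0 0 0) (st_D1b_1_1 d.hff )
  exact Res.of_cj f c (D1b_1_1_1 d hp40 (c.mem f hm) (c.sq f hs))

theorem D1b_1 {l40 t39 : K} (d : Dt f) (hp39 : t39 ≠ 0) (hp40 : l40 ≠ 0) (hm : E f 0 0 0 (t39) (l40) 0 0 0 0 0 0 0 0 0 0 0 0 0 0 0 0 0 0 0 ∈ (sc f).G1) (hs : E f 0 0 0 (t39) (l40) 0 0 0 0 0 0 0 0 0 0 0 0 0 0 0 0 0 0 0 * E f 0 0 0 (t39) (l40) 0 0 0 0 0 0 0 0 0 0 0 0 0 0 0 0 0 0 0 = 1) : Res f (E f 0 0 0 (t39) (l40) 0 0 0 0 0 0 0 0 0 0 0 0 0 0 0 0 0 0 0) := by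
  obtain ⟨it39, it44, it46, it47, it51, it53, it60, it63, it65, it69, it70, it71⟩ := inv_of_mem d hm
  have c : Cj f (E f 0 0 0 (t39) (l40) 0 0 0 0 0 0 0 0 0 0 0 0 0 0 0 0 0 0 0) (E f 0 0 0 0 ((f l40)) 0 (t39) 0 0 0 0 0 0 0 0 0 0 0 0 0 0 0 0 0) := cjN f (nR_mem f [2]) (nE_D1b_1 d.hff it39)
  exact Res.of_cj f c (D1b_1_1 d hp39 (fne (f := f) hp40) (c.mem f hm) (c.sq f hs))

theorem D1b {t39 t44 : K} (d : Dt f) (hp39 : t39 ≠ 0) (hp44 : t44 ≠ 0) (hm : E f 0 0 0 (t39) 0 0 (t44) 0 0 0 0 0 0 0 0 0 0 0 0 0 0 0 0 0 ∈ (sc f).G1) (hs : E f 0 0 0 (t39) 0 0 (t44) 0 0 0 0 0 0 0 0 0 0 0 0 0 0 0 0 0 * E f 0 0 0 (t39) 0 0 (t44) 0 0 0 0 0 0 0 0 0 0 0 0 0 0 0 0 0 = 1) : Res f (E f 0 0 0 (t39) 0 0 (t44) 0 0 0 0 0 0 0 0 0 0 0 0 0 0 0 0 0) := by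
  obtain ⟨it39, it44, it46, it47, it51, it53, it60, it63, it65, it69, it70, it71⟩ := inv_of_mem d hm
  obtain ⟨w, hw, rfl⟩ := solve_sqrt hp39 (by simp only [map_mul, map_pow, map_one, map_zero, map_add, it39]) it44
  have hw0 : w ≠ 0 := by
    rintro rfl
    simp at hp44
  have c : Cj f (E f 0 0 0 (t39) 0 0 ((t39) * (w * w)) 0 0 0 0 0 0 0 0 0 0 0 0 0 0 0 0 0) (E f 0 0 0 (t39) (t39*w) 0 0 0 0 0 0 0 0 0 0 0 0 0 0 0 0 0 0 0) := cjS f (E_mem_G1 d (map_zero f) (map_zero f) (map_zero f) (map_zero f) (map_zero f) (map_zero f) (map_zero f) (map_zero f) (map_zero f) (map_zero f) (map_zero f) (map_zero f) 0 (w) 0 0 0 0 0 0 0 0 0 0) (st_D1b d.hff it39 hw)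
  exact Res.of_cj f c (D1b_1 d hp39 (mul_ne_zero hp39 hw0) (c.mem f hm) (c.sq f hs))

theorem D1_1 {t39 t44 : K} (d : Dt f) (hp44 : t44 ≠ 0) (hp39 : t39 ≠ 0) (hm : E f 0 0 0 (t39) 0 0 (t44) 0 0 0 0 0 0 0 0 0 0 0 0 0 0 0 0 0 ∈ (sc f).G1) (hs : E f 0 0 0 (t39) 0 0 (t44) 0 0 0 0 0 0 0 0 0 0 0 0 0 0 0 0 0 * E f 0 0 0 (t39) 0 0 (t44) 0 0 0 0 0 0 0 0 0 0 0 0 0 0 0 0 0 = 1) : Res f (E f 0 0 0 (t39) 0 0 (t44) 0 0 0 0 0 0 0 0 0 0 0 0 0 0 0 0 0) := by
  exact D1b d hp39 hp44 hm hs

theorem D1 {t39 t71 : K} (d : Dt f) (hp71 : t71 ≠ 0) (hp39 : t39 ≠ 0) (hm : E f 0 0 0 (t39) 0 0 0 0 0 0 0 0 0 0 0 0 0 0 0 0 0 0 0 (t71) ∈ (sc f).G1) (hs : E f 0 0 0 (t39) 0 0 0 0 0 0 0 0 0 0 0 0 0 0 0 0 0 0 0 (t71) * E f 0 0 0 (t39) 0 0 0 0 0 0 0 0 0 0 0 0 0 0 0 0 0 0 0 (t71) = 1) : Res f (E f 0 0 0 (t39) 0 0 0 0 0 0 0 0 0 0 0 0 0 0 0 0 0 0 0 (t71)) := by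
  obtain ⟨it39, it44, it46, it47, it51, it53, it60, it63, it65, it69, it70, it71⟩ := inv_of_mem d hm
  have c : Cj f (E f 0 0 0 (t39) 0 0 0 0 0 0 0 0 0 0 0 0 0 0 0 0 0 0 0 (t71)) (E f 0 0 0 (t39) 0 0 (t71) 0 0 0 0 0 0 0 0 0 0 0 0 0 0 0 0 0) := cjN f (nR_mem f [3, 0, 1, 2, 1, 0]) (nE_D1 d.hff it39 it71)
  exact Res.of_cj f c (D1_1 d hp71 hp39 (c.mem f hm) (c.sq f hs))

theorem st_D2 {t39 t71 w : K} (hff : ∀ t, f (f t) = t) (it39 : f t39 = t39) (it71 : f t71 = t71) (iw : f w = w) :
    E f 0 (w) 0 0 0 0 0 0 0 0 0 0 0 0 0 0 0 0 0 0 0 0 0 0 * E f 0 0 0 (t39) 0 0 ((t39) * (w * w)) 0 0 0 0 0 0 0 0 0 0 0 0 0 0 0 0 (t71) = E f 0 0 0 (t39) (t39*w) 0 0 0 0 0 0 0 0 0 0 0 0 0 0 0 0 0 0 (t71) * E f 0 (w) 0 0 0 0 0 0 0 0 0 0 0 0 0 0 0 0 0 0 0 0 0 0 := by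
  have h2 : (2 : K) = 0 := CharTwo.two_eq_zero
  unfold E
  rw [W_mul, W_mul]
  apply W_congr
  · (try simp only [map_add, map_mul, map_pow, map_zero, map_one, hff, it39, it71, iw]) <;> linear_combination (0 : K) * h2
  · (try simp only [map_add, map_mul, map_pow, map_zero, map_one, hff, it39, it71, iw]) <;> linear_combination (0 : K) * h2
  · (try simp only [map_add, map_mul, map_pow, map_zero, map_one, hff, it39, it71, iw]) <;> linear_combination (0 : K) * h2
  · (try simp only [map_add, map_mul, map_pow, map_zero, map_one, hff, it39, it71, iw]) <;> linear_combination (0 : K) * h2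
  · (try simp only [map_add, map_mul, map_pow, map_zero, map_one, hff, it39, it71, iw]) <;> linear_combination (-t39*w) * h2
  · (try simp only [map_add, map_mul, map_pow, map_zero, map_one, hff, it39, it71, iw]) <;> linear_combination (0 : K) * h2
  · (try simp only [map_add, map_mul, map_pow, map_zero, map_one, hff, it39, it71, iw]) <;> linear_combination (0 : K) * h2
  · (try simp only [map_add, map_mul, map_pow, map_zero, map_one, hff, it39, it71, iw]) <;> linear_combination (0 : K) * h2
  · (try simp only [map_add, map_mul, map_pow, map_zero, map_one, hff, it39, it71, iw]) <;> linear_combination (0 : K) * h2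
  · (try simp only [map_add, map_mul, map_pow, map_zero, map_one, hff, it39, it71, iw]) <;> linear_combination (0 : K) * h2
  · (try simp only [map_add, map_mul, map_pow, map_zero, map_one, hff, it39, it71, iw]) <;> linear_combination (0 : K) * h2
  · (try simp only [map_add, map_mul, map_pow, map_zero, map_one, hff, it39, it71, iw]) <;> linear_combination (0 : K) * h2
  · (try simp only [map_add, map_mul, map_pow, map_zero, map_one, hff, it39, it71, iw]) <;> linear_combination (0 : K) * h2
  · (try simp only [map_add, map_mul, map_pow, map_zero, map_one, hff, it39, it71, iw]) <;> linear_combination (0 : K) * h2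
  · (try simp only [map_add, map_mul, map_pow, map_zero, map_one, hff, it39, it71, iw]) <;> linear_combination (0 : K) * h2
  · (try simp only [map_add, map_mul, map_pow, map_zero, map_one, hff, it39, it71, iw]) <;> linear_combination (0 : K) * h2
  · (try simp only [map_add, map_mul, map_pow, map_zero, map_one, hff, it39, it71, iw]) <;> linear_combination (0 : K) * h2
  · (try simp only [map_add, map_mul, map_pow, map_zero, map_one, hff, it39, it71, iw]) <;> linear_combination (0 : K) * h2
  · (try simp only [map_add, map_mul, map_pow, map_zero, map_one, hff, it39, it71, iw]) <;> linear_combination (0 : K) * h2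
  · (try simp only [map_add, map_mul, map_pow, map_zero, map_one, hff, it39, it71, iw]) <;> linear_combination (0 : K) * h2
  · (try simp only [map_add, map_mul, map_pow, map_zero, map_one, hff, it39, it71, iw]) <;> linear_combination (0 : K) * h2
  · (try simp only [map_add, map_mul, map_pow, map_zero, map_one, hff, it39, it71, iw]) <;> linear_combination (0 : K) * h2
  · (try simp only [map_add, map_mul, map_pow, map_zero, map_one, hff, it39, it71, iw]) <;> linear_combination (0 : K) * h2
  · (try simp only [map_add, map_mul, map_pow, map_zero, map_one, hff, it39, it71, iw]) <;> linear_combination (0 : K) * h2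
  · (try simp only [map_add, map_mul, map_pow, map_zero, map_one, hff, it39, it71, iw]) <;> linear_combination (0 : K) * h2
  · (try simp only [map_add, map_mul, map_pow, map_zero, map_one, hff, it39, it71, iw]) <;> linear_combination (0 : K) * h2
  · (try simp only [map_add, map_mul, map_pow, map_zero, map_one, hff, it39, it71, iw]) <;> linear_combination (0 : K) * h2
  · (try simp only [map_add, map_mul, map_pow, map_zero, map_one, hff, it39, it71, iw]) <;> linear_combination (0 : K) * h2
  · (try simp only [map_add, map_mul, map_pow, map_zero, map_one, hff, it39, it71, iw]) <;> linear_combination (0 : K) * h2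
  · (try simp only [map_add, map_mul, map_pow, map_zero, map_one, hff, it39, it71, iw]) <;> linear_combination (0 : K) * h2
  · (try simp only [map_add, map_mul, map_pow, map_zero, map_one, hff, it39, it71, iw]) <;> linear_combination (0 : K) * h2
  · (try simp only [map_add, map_mul, map_pow, map_zero, map_one, hff, it39, it71, iw]) <;> linear_combination (0 : K) * h2
  · (try simp only [map_add, map_mul, map_pow, map_zero, map_one, hff, it39, it71, iw]) <;> linear_combination (0 : K) * h2
  · (try simp only [map_add, map_mul, map_pow, map_zero, map_one, hff, it39, it71, iw]) <;> linear_combination (0 : K) * h2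
  · (try simp only [map_add, map_mul, map_pow, map_zero, map_one, hff, it39, it71, iw]) <;> linear_combination (0 : K) * h2
  · (try simp only [map_add, map_mul, map_pow, map_zero, map_one, hff, it39, it71, iw]) <;> linear_combination (0 : K) * h2

theorem nE_D2_1 {l40 t39 t71 : K} (hff : ∀ t, f (f t) = t) (it39 : f t39 = t39) (it71 : f t71 = t71) :
    nR [2] * E f 0 0 0 (t39) (l40) 0 0 0 0 0 0 0 0 0 0 0 0 0 0 0 0 0 0 (t71) * (nR [2])⁻¹ = E f 0 0 0 0 ((f l40)) 0 (t39) 0 0 0 0 0 0 0 0 0 0 0 0 0 0 0 0 (t71) := by
  have h2 : (2 : K) = 0 := CharTwo.two_eq_zero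
  have c39 := fun t : K => nR_at (l := [2]) (s := 39) (m := 44) (by decide +kernel) t
  have c40 := fun t : K => nR_at (l := [2]) (s := 40) (m := 43) (by decide +kernel) t
  have c43 := fun t : K => nR_at (l := [2]) (s := 43) (m := 40) (by decide +kernel) t
  have c71 := fun t : K => nR_at (l := [2]) (s := 71) (m := 71) (by decide +kernel) t
  unfold E
  rw [conj_W]
  simp only [map_zero, zero_mul, mul_zero, add_zero, zero_add, conj_x0, one_mul, c39, c40, c43, c71]
  rw [← W_zero (K := K)]
  simp only [xW_40, xW_43, xW_44, xW_71, zero_mul, mul_zero, add_zero, zero_add]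
  first
    | done
    | apply W_congr
      · (try simp only [map_add, map_mul, map_pow, map_zero, map_one, hff, it39, it71]) <;> linear_combination (0 : K) * h2
      · (try simp only [map_add, map_mul, map_pow, map_zero, map_one, hff, it39, it71]) <;> linear_combination (0 : K) * h2
      · (try simp only [map_add, map_mul, map_pow, map_zero, map_one, hff, it39, it71]) <;> linear_combination (0 : K) * h2
      · (try simp only [map_add, map_mul, map_pow, map_zero, map_one, hff, it39, it71]) <;> linear_combination (0 : K) * h2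
      · (try simp only [map_add, map_mul, map_pow, map_zero, map_one, hff, it39, it71]) <;> linear_combination (0 : K) * h2
      · (try simp only [map_add, map_mul, map_pow, map_zero, map_one, hff, it39, it71]) <;> linear_combination (0 : K) * h2
      · (try simp only [map_add, map_mul, map_pow, map_zero, map_one, hff, it39, it71]) <;> linear_combination (0 : K) * h2
      · (try simp only [map_add, map_mul, map_pow, map_zero, map_one, hff, it39, it71]) <;> linear_combination (0 : K) * h2
      · (try simp only [map_add, map_mul, map_pow, map_zero, map_one, hff, it39, it71]) <;> linear_combination (0 : K) * h2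
      · (try simp only [map_add, map_mul, map_pow, map_zero, map_one, hff, it39, it71]) <;> linear_combination (0 : K) * h2
      · (try simp only [map_add, map_mul, map_pow, map_zero, map_one, hff, it39, it71]) <;> linear_combination (0 : K) * h2
      · (try simp only [map_add, map_mul, map_pow, map_zero, map_one, hff, it39, it71]) <;> linear_combination (0 : K) * h2
      · (try simp only [map_add, map_mul, map_pow, map_zero, map_one, hff, it39, it71]) <;> linear_combination (0 : K) * h2
      · (try simp only [map_add, map_mul, map_pow, map_zero, map_one, hff, it39, it71]) <;> linear_combination (0 : K) * h2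
      · (try simp only [map_add, map_mul, map_pow, map_zero, map_one, hff, it39, it71]) <;> linear_combination (0 : K) * h2
      · (try simp only [map_add, map_mul, map_pow, map_zero, map_one, hff, it39, it71]) <;> linear_combination (0 : K) * h2
      · (try simp only [map_add, map_mul, map_pow, map_zero, map_one, hff, it39, it71]) <;> linear_combination (0 : K) * h2
      · (try simp only [map_add, map_mul, map_pow, map_zero, map_one, hff, it39, it71]) <;> linear_combination (0 : K) * h2
      · (try simp only [map_add, map_mul, map_pow, map_zero, map_one, hff, it39, it71]) <;> linear_combination (0 : K) * h2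
      · (try simp only [map_add, map_mul, map_pow, map_zero, map_one, hff, it39, it71]) <;> linear_combination (0 : K) * h2
      · (try simp only [map_add, map_mul, map_pow, map_zero, map_one, hff, it39, it71]) <;> linear_combination (0 : K) * h2
      · (try simp only [map_add, map_mul, map_pow, map_zero, map_one, hff, it39, it71]) <;> linear_combination (0 : K) * h2
      · (try simp only [map_add, map_mul, map_pow, map_zero, map_one, hff, it39, it71]) <;> linear_combination (0 : K) * h2
      · (try simp only [map_add, map_mul, map_pow, map_zero, map_one, hff, it39, it71]) <;> linear_combination (0 : K) * h2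
      · (try simp only [map_add, map_mul, map_pow, map_zero, map_one, hff, it39, it71]) <;> linear_combination (0 : K) * h2
      · (try simp only [map_add, map_mul, map_pow, map_zero, map_one, hff, it39, it71]) <;> linear_combination (0 : K) * h2
      · (try simp only [map_add, map_mul, map_pow, map_zero, map_one, hff, it39, it71]) <;> linear_combination (0 : K) * h2
      · (try simp only [map_add, map_mul, map_pow, map_zero, map_one, hff, it39, it71]) <;> linear_combination (0 : K) * h2
      · (try simp only [map_add, map_mul, map_pow, map_zero, map_one, hff, it39, it71]) <;> linear_combination (0 : K) * h2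
      · (try simp only [map_add, map_mul, map_pow, map_zero, map_one, hff, it39, it71]) <;> linear_combination (0 : K) * h2
      · (try simp only [map_add, map_mul, map_pow, map_zero, map_one, hff, it39, it71]) <;> linear_combination (0 : K) * h2
      · (try simp only [map_add, map_mul, map_pow, map_zero, map_one, hff, it39, it71]) <;> linear_combination (0 : K) * h2
      · (try simp only [map_add, map_mul, map_pow, map_zero, map_one, hff, it39, it71]) <;> linear_combination (0 : K) * h2
      · (try simp only [map_add, map_mul, map_pow, map_zero, map_one, hff, it39, it71]) <;> linear_combination (0 : K) * h2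
      · (try simp only [map_add, map_mul, map_pow, map_zero, map_one, hff, it39, it71]) <;> linear_combination (0 : K) * h2
      · (try simp only [map_add, map_mul, map_pow, map_zero, map_one, hff, it39, it71]) <;> linear_combination (0 : K) * h2

theorem st_D2_1_1 {l40 t71 y : K} (hff : ∀ t, f (f t) = t) (it71 : f t71 = t71) :
    E f 0 (y) 0 0 0 0 0 0 0 0 0 0 0 0 0 0 0 0 0 0 0 0 0 0 * E f 0 0 0 0 (l40) 0 ((l40) * f y + f (l40) * y) 0 0 0 0 0 0 0 0 0 0 0 0 0 0 0 0 (t71) = E f 0 0 0 0 (l40) 0 0 0 0 0 0 0 0 0 0 0 0 0 0 0 0 0 0 (t71) * E f 0 (y) 0 0 0 0 0 0 0 0 0 0 0 0 0 0 0 0 0 0 0 0 0 0 := by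
  have h2 : (2 : K) = 0 := CharTwo.two_eq_zero
  unfold E
  rw [W_mul, W_mul]
  apply W_congr
  · (try simp only [map_add, map_mul, map_pow, map_zero, map_one, hff, it71]) <;> linear_combination (0 : K) * h2
  · (try simp only [map_add, map_mul, map_pow, map_zero, map_one, hff, it71]) <;> linear_combination (0 : K) * h2
  · (try simp only [map_add, map_mul, map_pow, map_zero, map_one, hff, it71]) <;> linear_combination (0 : K) * h2
  · (try simp only [map_add, map_mul, map_pow, map_zero, map_one, hff, it71]) <;> linear_combination (0 : K) * h2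
  · (try simp only [map_add, map_mul, map_pow, map_zero, map_one, hff, it71]) <;> linear_combination (0 : K) * h2
  · (try simp only [map_add, map_mul, map_pow, map_zero, map_one, hff, it71]) <;> linear_combination (0 : K) * h2
  · (try simp only [map_add, map_mul, map_pow, map_zero, map_one, hff, it71]) <;> linear_combination (0 : K) * h2
  · (try simp only [map_add, map_mul, map_pow, map_zero, map_one, hff, it71]) <;> linear_combination (0 : K) * h2
  · (try simp only [map_add, map_mul, map_pow, map_zero, map_one, hff, it71]) <;> linear_combination (l40*(f y)) * h2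
  · (try simp only [map_add, map_mul, map_pow, map_zero, map_one, hff, it71]) <;> linear_combination (0 : K) * h2
  · (try simp only [map_add, map_mul, map_pow, map_zero, map_one, hff, it71]) <;> linear_combination (0 : K) * h2
  · (try simp only [map_add, map_mul, map_pow, map_zero, map_one, hff, it71]) <;> linear_combination (0 : K) * h2
  · (try simp only [map_add, map_mul, map_pow, map_zero, map_one, hff, it71]) <;> linear_combination (0 : K) * h2
  · (try simp only [map_add, map_mul, map_pow, map_zero, map_one, hff, it71]) <;> linear_combination (0 : K) * h2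
  · (try simp only [map_add, map_mul, map_pow, map_zero, map_one, hff, it71]) <;> linear_combination (0 : K) * h2
  · (try simp only [map_add, map_mul, map_pow, map_zero, map_one, hff, it71]) <;> linear_combination (0 : K) * h2
  · (try simp only [map_add, map_mul, map_pow, map_zero, map_one, hff, it71]) <;> linear_combination (0 : K) * h2
  · (try simp only [map_add, map_mul, map_pow, map_zero, map_one, hff, it71]) <;> linear_combination (0 : K) * h2
  · (try simp only [map_add, map_mul, map_pow, map_zero, map_one, hff, it71]) <;> linear_combination (0 : K) * h2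
  · (try simp only [map_add, map_mul, map_pow, map_zero, map_one, hff, it71]) <;> linear_combination (0 : K) * h2
  · (try simp only [map_add, map_mul, map_pow, map_zero, map_one, hff, it71]) <;> linear_combination (0 : K) * h2
  · (try simp only [map_add, map_mul, map_pow, map_zero, map_one, hff, it71]) <;> linear_combination (0 : K) * h2
  · (try simp only [map_add, map_mul, map_pow, map_zero, map_one, hff, it71]) <;> linear_combination (0 : K) * h2
  · (try simp only [map_add, map_mul, map_pow, map_zero, map_one, hff, it71]) <;> linear_combination (0 : K) * h2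
  · (try simp only [map_add, map_mul, map_pow, map_zero, map_one, hff, it71]) <;> linear_combination (0 : K) * h2
  · (try simp only [map_add, map_mul, map_pow, map_zero, map_one, hff, it71]) <;> linear_combination (0 : K) * h2
  · (try simp only [map_add, map_mul, map_pow, map_zero, map_one, hff, it71]) <;> linear_combination (0 : K) * h2
  · (try simp only [map_add, map_mul, map_pow, map_zero, map_one, hff, it71]) <;> linear_combination (0 : K) * h2
  · (try simp only [map_add, map_mul, map_pow, map_zero, map_one, hff, it71]) <;> linear_combination (0 : K) * h2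
  · (try simp only [map_add, map_mul, map_pow, map_zero, map_one, hff, it71]) <;> linear_combination (0 : K) * h2
  · (try simp only [map_add, map_mul, map_pow, map_zero, map_one, hff, it71]) <;> linear_combination (0 : K) * h2
  · (try simp only [map_add, map_mul, map_pow, map_zero, map_one, hff, it71]) <;> linear_combination (0 : K) * h2
  · (try simp only [map_add, map_mul, map_pow, map_zero, map_one, hff, it71]) <;> linear_combination (0 : K) * h2
  · (try simp only [map_add, map_mul, map_pow, map_zero, map_one, hff, it71]) <;> linear_combination (0 : K) * h2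
  · (try simp only [map_add, map_mul, map_pow, map_zero, map_one, hff, it71]) <;> linear_combination (0 : K) * h2
  · (try simp only [map_add, map_mul, map_pow, map_zero, map_one, hff, it71]) <;> linear_combination (0 : K) * h2

theorem nE_D2a {l40 t71 : K} (hff : ∀ t, f (f t) = t) (it71 : f t71 = t71) :
    nR [3, 2, 1, 2, 3, 1, 2, 0, 1, 0] * E f 0 0 0 0 (l40) 0 0 0 0 0 0 0 0 0 0 0 0 0 0 0 0 0 0 (t71) * (nR [3, 2, 1, 2, 3, 1, 2, 0, 1, 0])⁻¹ = E f 0 ((f l40)) 0 0 0 0 0 0 (t71) 0 0 0 0 0 0 0 0 0 0 0 0 0 0 0 := by
  have h2 : (2 : K) = 0 := CharTwo.two_eq_zero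
  have c40 := fun t : K => nR_at (l := [3, 2, 1, 2, 3, 1, 2, 0, 1, 0]) (s := 40) (m := 42) (by decide +kernel) t
  have c43 := fun t : K => nR_at (l := [3, 2, 1, 2, 3, 1, 2, 0, 1, 0]) (s := 43) (m := 37) (by decide +kernel) t
  have c71 := fun t : K => nR_at (l := [3, 2, 1, 2, 3, 1, 2, 0, 1, 0]) (s := 71) (m := 46) (by decide +kernel) t
  unfold E
  rw [conj_W]
  simp only [map_zero, zero_mul, mul_zero, add_zero, zero_add, conj_x0, one_mul, c40, c43, c71]
  rw [← W_zero (K := K)]
  simp only [xW_37, xW_42, xW_46, zero_mul, mul_zero, add_zero, zero_add]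
  first
    | done
    | apply W_congr
      · (try simp only [map_add, map_mul, map_pow, map_zero, map_one, hff, it71]) <;> linear_combination (0 : K) * h2
      · (try simp only [map_add, map_mul, map_pow, map_zero, map_one, hff, it71]) <;> linear_combination (0 : K) * h2
      · (try simp only [map_add, map_mul, map_pow, map_zero, map_one, hff, it71]) <;> linear_combination (0 : K) * h2
      · (try simp only [map_add, map_mul, map_pow, map_zero, map_one, hff, it71]) <;> linear_combination (0 : K) * h2
      · (try simp only [map_add, map_mul, map_pow, map_zero, map_one, hff, it71]) <;> linear_combination (0 : K) * h2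
      · (try simp only [map_add, map_mul, map_pow, map_zero, map_one, hff, it71]) <;> linear_combination (0 : K) * h2
      · (try simp only [map_add, map_mul, map_pow, map_zero, map_one, hff, it71]) <;> linear_combination (0 : K) * h2
      · (try simp only [map_add, map_mul, map_pow, map_zero, map_one, hff, it71]) <;> linear_combination (0 : K) * h2
      · (try simp only [map_add, map_mul, map_pow, map_zero, map_one, hff, it71]) <;> linear_combination (0 : K) * h2
      · (try simp only [map_add, map_mul, map_pow, map_zero, map_one, hff, it71]) <;> linear_combination (0 : K) * h2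
      · (try simp only [map_add, map_mul, map_pow, map_zero, map_one, hff, it71]) <;> linear_combination (0 : K) * h2
      · (try simp only [map_add, map_mul, map_pow, map_zero, map_one, hff, it71]) <;> linear_combination (0 : K) * h2
      · (try simp only [map_add, map_mul, map_pow, map_zero, map_one, hff, it71]) <;> linear_combination (0 : K) * h2
      · (try simp only [map_add, map_mul, map_pow, map_zero, map_one, hff, it71]) <;> linear_combination (0 : K) * h2
      · (try simp only [map_add, map_mul, map_pow, map_zero, map_one, hff, it71]) <;> linear_combination (0 : K) * h2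
      · (try simp only [map_add, map_mul, map_pow, map_zero, map_one, hff, it71]) <;> linear_combination (0 : K) * h2
      · (try simp only [map_add, map_mul, map_pow, map_zero, map_one, hff, it71]) <;> linear_combination (0 : K) * h2
      · (try simp only [map_add, map_mul, map_pow, map_zero, map_one, hff, it71]) <;> linear_combination (0 : K) * h2
      · (try simp only [map_add, map_mul, map_pow, map_zero, map_one, hff, it71]) <;> linear_combination (0 : K) * h2
      · (try simp only [map_add, map_mul, map_pow, map_zero, map_one, hff, it71]) <;> linear_combination (0 : K) * h2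
      · (try simp only [map_add, map_mul, map_pow, map_zero, map_one, hff, it71]) <;> linear_combination (0 : K) * h2
      · (try simp only [map_add, map_mul, map_pow, map_zero, map_one, hff, it71]) <;> linear_combination (0 : K) * h2
      · (try simp only [map_add, map_mul, map_pow, map_zero, map_one, hff, it71]) <;> linear_combination (0 : K) * h2
      · (try simp only [map_add, map_mul, map_pow, map_zero, map_one, hff, it71]) <;> linear_combination (0 : K) * h2
      · (try simp only [map_add, map_mul, map_pow, map_zero, map_one, hff, it71]) <;> linear_combination (0 : K) * h2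
      · (try simp only [map_add, map_mul, map_pow, map_zero, map_one, hff, it71]) <;> linear_combination (0 : K) * h2
      · (try simp only [map_add, map_mul, map_pow, map_zero, map_one, hff, it71]) <;> linear_combination (0 : K) * h2
      · (try simp only [map_add, map_mul, map_pow, map_zero, map_one, hff, it71]) <;> linear_combination (0 : K) * h2
      · (try simp only [map_add, map_mul, map_pow, map_zero, map_one, hff, it71]) <;> linear_combination (0 : K) * h2
      · (try simp only [map_add, map_mul, map_pow, map_zero, map_one, hff, it71]) <;> linear_combination (0 : K) * h2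
      · (try simp only [map_add, map_mul, map_pow, map_zero, map_one, hff, it71]) <;> linear_combination (0 : K) * h2
      · (try simp only [map_add, map_mul, map_pow, map_zero, map_one, hff, it71]) <;> linear_combination (0 : K) * h2
      · (try simp only [map_add, map_mul, map_pow, map_zero, map_one, hff, it71]) <;> linear_combination (0 : K) * h2
      · (try simp only [map_add, map_mul, map_pow, map_zero, map_one, hff, it71]) <;> linear_combination (0 : K) * h2
      · (try simp only [map_add, map_mul, map_pow, map_zero, map_one, hff, it71]) <;> linear_combination (0 : K) * h2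
      · (try simp only [map_add, map_mul, map_pow, map_zero, map_one, hff, it71]) <;> linear_combination (0 : K) * h2

theorem nE_T3c (hff : ∀ t, f (f t) = t)  :
    nR [1, 2, 0, 1, 2, 3, 2, 0, 1] * E f 0 (1) 0 0 0 0 0 0 (1) 0 0 0 0 0 0 0 0 0 0 0 0 0 0 0 * (nR [1, 2, 0, 1, 2, 3, 2, 0, 1])⁻¹ = E f 0 0 0 0 0 0 0 0 0 0 0 0 0 0 0 0 (1) 0 0 (1) 0 0 0 0 := by
  have h2 : (2 : K) = 0 := CharTwo.two_eq_zero
  have c37 := fun t : K => nR_at (l := [1, 2, 0, 1, 2, 3, 2, 0, 1]) (s := 37) (m := 67) (by decide +kernel) t
  have c42 := fun t : K => nR_at (l := [1, 2, 0, 1, 2, 3, 2, 0, 1]) (s := 42) (m := 55) (by decide +kernel) t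
  have c46 := fun t : K => nR_at (l := [1, 2, 0, 1, 2, 3, 2, 0, 1]) (s := 46) (m := 65) (by decide +kernel) t
  unfold E
  rw [conj_W]
  simp only [map_zero, zero_mul, mul_zero, add_zero, zero_add, conj_x0, one_mul, c37, c42, c46]
  rw [← W_zero (K := K)]
  simp only [xW_55, xW_65, xW_67, zero_mul, mul_zero, add_zero, zero_add]
  first
    | done
    | apply W_congr
      · (try simp only [map_add, map_mul, map_pow, map_zero, map_one, hff]) <;> linear_combination (0 : K) * h2
      · (try simp only [map_add, map_mul, map_pow, map_zero, map_one, hff]) <;> linear_combination (0 : K) * h2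
      · (try simp only [map_add, map_mul, map_pow, map_zero, map_one, hff]) <;> linear_combination (0 : K) * h2
      · (try simp only [map_add, map_mul, map_pow, map_zero, map_one, hff]) <;> linear_combination (0 : K) * h2
      · (try simp only [map_add, map_mul, map_pow, map_zero, map_one, hff]) <;> linear_combination (0 : K) * h2
      · (try simp only [map_add, map_mul, map_pow, map_zero, map_one, hff]) <;> linear_combination (0 : K) * h2
      · (try simp only [map_add, map_mul, map_pow, map_zero, map_one, hff]) <;> linear_combination (0 : K) * h2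
      · (try simp only [map_add, map_mul, map_pow, map_zero, map_one, hff]) <;> linear_combination (0 : K) * h2
      · (try simp only [map_add, map_mul, map_pow, map_zero, map_one, hff]) <;> linear_combination (0 : K) * h2
      · (try simp only [map_add, map_mul, map_pow, map_zero, map_one, hff]) <;> linear_combination (0 : K) * h2
      · (try simp only [map_add, map_mul, map_pow, map_zero, map_one, hff]) <;> linear_combination (0 : K) * h2
      · (try simp only [map_add, map_mul, map_pow, map_zero, map_one, hff]) <;> linear_combination (0 : K) * h2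
      · (try simp only [map_add, map_mul, map_pow, map_zero, map_one, hff]) <;> linear_combination (0 : K) * h2
      · (try simp only [map_add, map_mul, map_pow, map_zero, map_one, hff]) <;> linear_combination (0 : K) * h2
      · (try simp only [map_add, map_mul, map_pow, map_zero, map_one, hff]) <;> linear_combination (0 : K) * h2
      · (try simp only [map_add, map_mul, map_pow, map_zero, map_one, hff]) <;> linear_combination (0 : K) * h2
      · (try simp only [map_add, map_mul, map_pow, map_zero, map_one, hff]) <;> linear_combination (0 : K) * h2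
      · (try simp only [map_add, map_mul, map_pow, map_zero, map_one, hff]) <;> linear_combination (0 : K) * h2
      · (try simp only [map_add, map_mul, map_pow, map_zero, map_one, hff]) <;> linear_combination (0 : K) * h2
      · (try simp only [map_add, map_mul, map_pow, map_zero, map_one, hff]) <;> linear_combination (0 : K) * h2
      · (try simp only [map_add, map_mul, map_pow, map_zero, map_one, hff]) <;> linear_combination (0 : K) * h2
      · (try simp only [map_add, map_mul, map_pow, map_zero, map_one, hff]) <;> linear_combination (0 : K) * h2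
      · (try simp only [map_add, map_mul, map_pow, map_zero, map_one, hff]) <;> linear_combination (0 : K) * h2
      · (try simp only [map_add, map_mul, map_pow, map_zero, map_one, hff]) <;> linear_combination (0 : K) * h2
      · (try simp only [map_add, map_mul, map_pow, map_zero, map_one, hff]) <;> linear_combination (0 : K) * h2
      · (try simp only [map_add, map_mul, map_pow, map_zero, map_one, hff]) <;> linear_combination (0 : K) * h2
      · (try simp only [map_add, map_mul, map_pow, map_zero, map_one, hff]) <;> linear_combination (0 : K) * h2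
      · (try simp only [map_add, map_mul, map_pow, map_zero, map_one, hff]) <;> linear_combination (0 : K) * h2
      · (try simp only [map_add, map_mul, map_pow, map_zero, map_one, hff]) <;> linear_combination (0 : K) * h2
      · (try simp only [map_add, map_mul, map_pow, map_zero, map_one, hff]) <;> linear_combination (0 : K) * h2
      · (try simp only [map_add, map_mul, map_pow, map_zero, map_one, hff]) <;> linear_combination (0 : K) * h2
      · (try simp only [map_add, map_mul, map_pow, map_zero, map_one, hff]) <;> linear_combination (0 : K) * h2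
      · (try simp only [map_add, map_mul, map_pow, map_zero, map_one, hff]) <;> linear_combination (0 : K) * h2
      · (try simp only [map_add, map_mul, map_pow, map_zero, map_one, hff]) <;> linear_combination (0 : K) * h2
      · (try simp only [map_add, map_mul, map_pow, map_zero, map_one, hff]) <;> linear_combination (0 : K) * h2
      · (try simp only [map_add, map_mul, map_pow, map_zero, map_one, hff]) <;> linear_combination (0 : K) * h2

theorem T3c_1 (d : Dt f)  (hm : E f 0 0 0 0 0 0 0 0 0 0 0 0 0 0 0 0 (1) 0 0 (1) 0 0 0 0 ∈ (sc f).G1) (hs : E f 0 0 0 0 0 0 0 0 0 0 0 0 0 0 0 0 (1) 0 0 (1) 0 0 0 0 * E f 0 0 0 0 0 0 0 0 0 0 0 0 0 0 0 0 (1) 0 0 (1) 0 0 0 0 = 1) : Res f (E f 0 0 0 0 0 0 0 0 0 0 0 0 0 0 0 0 (1) 0 0 (1) 0 0 0 0) := by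
  exact Res.t3 f

theorem T3c (d : Dt f)  (hm : E f 0 (1) 0 0 0 0 0 0 (1) 0 0 0 0 0 0 0 0 0 0 0 0 0 0 0 ∈ (sc f).G1) (hs : E f 0 (1) 0 0 0 0 0 0 (1) 0 0 0 0 0 0 0 0 0 0 0 0 0 0 0 * E f 0 (1) 0 0 0 0 0 0 (1) 0 0 0 0 0 0 0 0 0 0 0 0 0 0 0 = 1) : Res f (E f 0 (1) 0 0 0 0 0 0 (1) 0 0 0 0 0 0 0 0 0 0 0 0 0 0 0) := by
  obtain ⟨it39, it44, it46, it47, it51, it53, it60, it63, it65, it69, it70, it71⟩ := inv_of_mem d hm
  have c : Cj f (E f 0 (1) 0 0 0 0 0 0 (1) 0 0 0 0 0 0 0 0 0 0 0 0 0 0 0) (E f 0 0 0 0 0 0 0 0 0 0 0 0 0 0 0 0 (1) 0 0 (1) 0 0 0 0) := cjN f (nR_mem f [1, 2, 0, 1, 2, 3, 2, 0, 1]) (nE_T3c d.hff )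
  exact Res.of_cj f c (T3c_1 d  (c.mem f hm) (c.sq f hs))

theorem P4637 {l37 t46 : K} (d : Dt f) (hp46 : t46 ≠ 0) (hp37 : l37 ≠ 0) (hm : E f 0 (l37) 0 0 0 0 0 0 (t46) 0 0 0 0 0 0 0 0 0 0 0 0 0 0 0 ∈ (sc f).G1) (hs : E f 0 (l37) 0 0 0 0 0 0 (t46) 0 0 0 0 0 0 0 0 0 0 0 0 0 0 0 * E f 0 (l37) 0 0 0 0 0 0 (t46) 0 0 0 0 0 0 0 0 0 0 0 0 0 0 0 = 1) : Res f (E f 0 (l37) 0 0 0 0 0 0 (t46) 0 0 0 0 0 0 0 0 0 0 0 0 0 0 0) := by
  obtain ⟨it39, it44, it46, it47, it51, it53, it60, it63, it65, it69, it70, it71⟩ := inv_of_mem d hm
  have c := scale_ac d hp46 it46 hp37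
  exact Res.of_cj f c (T3c d (c.mem f hm) (c.sq f hs))

theorem D2a_1 {l37 t46 : K} (d : Dt f) (hp46 : t46 ≠ 0) (hp37 : l37 ≠ 0) (hm : E f 0 (l37) 0 0 0 0 0 0 (t46) 0 0 0 0 0 0 0 0 0 0 0 0 0 0 0 ∈ (sc f).G1) (hs : E f 0 (l37) 0 0 0 0 0 0 (t46) 0 0 0 0 0 0 0 0 0 0 0 0 0 0 0 * E f 0 (l37) 0 0 0 0 0 0 (t46) 0 0 0 0 0 0 0 0 0 0 0 0 0 0 0 = 1) : Res f (E f 0 (l37) 0 0 0 0 0 0 (t46) 0 0 0 0 0 0 0 0 0 0 0 0 0 0 0) := by
  exact P4637 d hp46 hp37 hm hs

theorem D2a {l40 t71 : K} (d : Dt f) (hp71 : t71 ≠ 0) (hp40 : l40 ≠ 0) (hm : E f 0 0 0 0 (l40) 0 0 0 0 0 0 0 0 0 0 0 0 0 0 0 0 0 0 (t71) ∈ (sc f).G1) (hs : E f 0 0 0 0 (l40) 0 0 0 0 0 0 0 0 0 0 0 0 0 0 0 0 0 0 (t71) * E f 0 0 0 0 (l40) 0 0 0 0 0 0 0 0 0 0 0 0 0 0 0 0 0 0 (t71) = 1) : Res f (E f 0 0 0 0 (l40) 0 0 0 0 0 0 0 0 0 0 0 0 0 0 0 0 0 0 (t71)) := by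
  obtain ⟨it39, it44, it46, it47, it51, it53, it60, it63, it65, it69, it70, it71⟩ := inv_of_mem d hm
  have c : Cj f (E f 0 0 0 0 (l40) 0 0 0 0 0 0 0 0 0 0 0 0 0 0 0 0 0 0 (t71)) (E f 0 ((f l40)) 0 0 0 0 0 0 (t71) 0 0 0 0 0 0 0 0 0 0 0 0 0 0 0) := cjN f (nR_mem f [3, 2, 1, 2, 3, 1, 2, 0, 1, 0]) (nE_D2a d.hff it71)
  exact Res.of_cj f c (D2a_1 d hp71 (fne (f := f) hp40) (c.mem f hm) (c.sq f hs))

theorem D2_1_1_1 {l40 t71 : K} (d : Dt f) (hp71 : t71 ≠ 0) (hp40 : l40 ≠ 0) (hm : E f 0 0 0 0 (l40) 0 0 0 0 0 0 0 0 0 0 0 0 0 0 0 0 0 0 (t71) ∈ (sc f).G1) (hs : E f 0 0 0 0 (l40) 0 0 0 0 0 0 0 0 0 0 0 0 0 0 0 0 0 0 (t71) * E f 0 0 0 0 (l40) 0 0 0 0 0 0 0 0 0 0 0 0 0 0 0 0 0 0 (t71) = 1) : Res f (E f 0 0 0 0 (l40) 0 0 0 0 0 0 0 0 0 0 0 0 0 0 0 0 0 0 (t71)) := by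
  exact D2a d hp71 hp40 hm hs

theorem D2_1_1 {l40 t44 t71 : K} (d : Dt f) (hp71 : t71 ≠ 0) (hp44 : t44 ≠ 0) (hp40 : l40 ≠ 0) (hm : E f 0 0 0 0 (l40) 0 (t44) 0 0 0 0 0 0 0 0 0 0 0 0 0 0 0 0 (t71) ∈ (sc f).G1) (hs : E f 0 0 0 0 (l40) 0 (t44) 0 0 0 0 0 0 0 0 0 0 0 0 0 0 0 0 (t71) * E f 0 0 0 0 (l40) 0 (t44) 0 0 0 0 0 0 0 0 0 0 0 0 0 0 0 0 (t71) = 1) : Res f (E f 0 0 0 0 (l40) 0 (t44) 0 0 0 0 0 0 0 0 0 0 0 0 0 0 0 0 (t71)) := by
  obtain ⟨it39, it44, it46, it47, it51, it53, it60, it63, it65, it69, it70, it71⟩ := inv_of_mem d hm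
  obtain ⟨y, rfl⟩ := solve_tr d hp40 it44
  have c : Cj f (E f 0 0 0 0 (l40) 0 ((l40) * f y + f (l40) * y) 0 0 0 0 0 0 0 0 0 0 0 0 0 0 0 0 (t71)) (E f 0 0 0 0 (l40) 0 0 0 0 0 0 0 0 0 0 0 0 0 0 0 0 0 0 (t71)) := cjS f (E_mem_G1 d (map_zero f) (map_zero f) (map_zero f) (map_zero f) (map_zero f) (map_zero f) (map_zero f) (map_zero f) (map_zero f) (map_zero f) (map_zero f) (map_zero f) 0 (y) 0 0 0 0 0 0 0 0 0 0) (st_D2_1_1 d.hff it71)
  exact Res.of_cj f c (D2_1_1_1 d hp71 hp40 (c.mem f hm) (c.sq f hs))

theorem D2_1 {l40 t39 t71 : K} (d : Dt f) (hp71 : t71 ≠ 0) (hp39 : t39 ≠ 0) (hp40 : l40 ≠ 0) (hm : E f 0 0 0 (t39) (l40) 0 0 0 0 0 0 0 0 0 0 0 0 0 0 0 0 0 0 (t71) ∈ (sc f).G1) (hs : E f 0 0 0 (t39) (l40) 0 0 0 0 0 0 0 0 0 0 0 0 0 0 0 0 0 0 (t71) * E f 0 0 0 (t39) (l40) 0 0 0 0 0 0 0 0 0 0 0 0 0 0 0 0 0 0 (t71) = 1) : Res f (E f 0 0 0 (t39) (l40) 0 0 0 0 0 0 0 0 0 0 0 0 0 0 0 0 0 0 (t71)) := by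
  obtain ⟨it39, it44, it46, it47, it51, it53, it60, it63, it65, it69, it70, it71⟩ := inv_of_mem d hm
  have c : Cj f (E f 0 0 0 (t39) (l40) 0 0 0 0 0 0 0 0 0 0 0 0 0 0 0 0 0 0 (t71)) (E f 0 0 0 0 ((f l40)) 0 (t39) 0 0 0 0 0 0 0 0 0 0 0 0 0 0 0 0 (t71)) := cjN f (nR_mem f [2]) (nE_D2_1 d.hff it39 it71)
  exact Res.of_cj f c (D2_1_1 d hp71 hp39 (fne (f := f) hp40) (c.mem f hm) (c.sq f hs))

theorem D2 {t39 t44 t71 : K} (d : Dt f) (hp39 : t39 ≠ 0) (hp44 : t44 ≠ 0) (hp71 : t71 ≠ 0) (hm : E f 0 0 0 (t39) 0 0 (t44) 0 0 0 0 0 0 0 0 0 0 0 0 0 0 0 0 (t71) ∈ (sc f).G1) (hs : E f 0 0 0 (t39) 0 0 (t44) 0 0 0 0 0 0 0 0 0 0 0 0 0 0 0 0 (t71) * E f 0 0 0 (t39) 0 0 (t44) 0 0 0 0 0 0 0 0 0 0 0 0 0 0 0 0 (t71) = 1) : Res f (E f 0 0 0 (t39) 0 0 (t44) 0 0 0 0 0 0 0 0 0 0 0 0 0 0 0 0 (t71)) := by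
  obtain ⟨it39, it44, it46, it47, it51, it53, it60, it63, it65, it69, it70, it71⟩ := inv_of_mem d hm
  obtain ⟨w, hw, rfl⟩ := solve_sqrt hp39 (by simp only [map_mul, map_pow, map_one, map_zero, map_add, it39]) it44
  have hw0 : w ≠ 0 := by
    rintro rfl
    simp at hp44
  have c : Cj f (E f 0 0 0 (t39) 0 0 ((t39) * (w * w)) 0 0 0 0 0 0 0 0 0 0 0 0 0 0 0 0 (t71)) (E f 0 0 0 (t39) (t39*w) 0 0 0 0 0 0 0 0 0 0 0 0 0 0 0 0 0 0 (t71)) := cjS f (E_mem_G1 d (map_zero f) (map_zero f) (map_zero f) (map_zero f) (map_zero f) (map_zero f) (map_zero f) (map_zero f) (map_zero f) (map_zero f) (map_zero f) (map_zero f) 0 (w) 0 0 0 0 0 0 0 0 0 0) (st_D2 d.hff it39 it71 hw)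
  exact Res.of_cj f c (D2_1 d hp71 hp39 (mul_ne_zero hp39 hw0) (c.mem f hm) (c.sq f hs))

theorem st_D3 {t39 t44 t60 w : K} (hff : ∀ t, f (f t) = t) (it39 : f t39 = t39) (it44 : f t44 = t44) (it60 : f t60 = t60) (iw : f w = w) :
    E f 0 0 0 0 0 0 0 0 0 (t39*w) 0 0 (t44*w) 0 (t39*t44*w) 0 0 0 (t60*w) 0 0 0 0 0 * E f 0 0 0 (t39) 0 0 (t44) 0 0 0 0 0 0 0 0 0 0 (t60) 0 0 0 0 0 ((t39*t44*t60) * (w * w)) = E f 0 0 0 (t39) 0 0 (t44) 0 0 0 0 0 0 0 0 0 0 (t60) 0 0 0 0 0 0 * E f 0 0 0 0 0 0 0 0 0 (t39*w) 0 0 (t44*w) 0 (t39*t44*w) 0 0 0 (t60*w) 0 0 0 0 0 := by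
  have h2 : (2 : K) = 0 := CharTwo.two_eq_zero
  unfold E
  rw [W_mul, W_mul]
  apply W_congr
  · (try simp only [map_add, map_mul, map_pow, map_zero, map_one, hff, it39, it44, it60, iw]) <;> linear_combination (0 : K) * h2
  · (try simp only [map_add, map_mul, map_pow, map_zero, map_one, hff, it39, it44, it60, iw]) <;> linear_combination (0 : K) * h2
  · (try simp only [map_add, map_mul, map_pow, map_zero, map_one, hff, it39, it44, it60, iw]) <;> linear_combination (0 : K) * h2
  · (try simp only [map_add, map_mul, map_pow, map_zero, map_one, hff, it39, it44, it60, iw]) <;> linear_combination (0 : K) * h2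
  · (try simp only [map_add, map_mul, map_pow, map_zero, map_one, hff, it39, it44, it60, iw]) <;> linear_combination (0 : K) * h2
  · (try simp only [map_add, map_mul, map_pow, map_zero, map_one, hff, it39, it44, it60, iw]) <;> linear_combination (0 : K) * h2
  · (try simp only [map_add, map_mul, map_pow, map_zero, map_one, hff, it39, it44, it60, iw]) <;> linear_combination (0 : K) * h2
  · (try simp only [map_add, map_mul, map_pow, map_zero, map_one, hff, it39, it44, it60, iw]) <;> linear_combination (0 : K) * h2
  · (try simp only [map_add, map_mul, map_pow, map_zero, map_one, hff, it39, it44, it60, iw]) <;> linear_combination (0 : K) * h2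
  · (try simp only [map_add, map_mul, map_pow, map_zero, map_one, hff, it39, it44, it60, iw]) <;> linear_combination (0 : K) * h2
  · (try simp only [map_add, map_mul, map_pow, map_zero, map_one, hff, it39, it44, it60, iw]) <;> linear_combination (0 : K) * h2
  · (try simp only [map_add, map_mul, map_pow, map_zero, map_one, hff, it39, it44, it60, iw]) <;> linear_combination (0 : K) * h2
  · (try simp only [map_add, map_mul, map_pow, map_zero, map_one, hff, it39, it44, it60, iw]) <;> linear_combination (0 : K) * h2
  · (try simp only [map_add, map_mul, map_pow, map_zero, map_one, hff, it39, it44, it60, iw]) <;> linear_combination (0 : K) * h2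
  · (try simp only [map_add, map_mul, map_pow, map_zero, map_one, hff, it39, it44, it60, iw]) <;> linear_combination (0 : K) * h2
  · (try simp only [map_add, map_mul, map_pow, map_zero, map_one, hff, it39, it44, it60, iw]) <;> linear_combination (0 : K) * h2
  · (try simp only [map_add, map_mul, map_pow, map_zero, map_one, hff, it39, it44, it60, iw]) <;> linear_combination (0 : K) * h2
  · (try simp only [map_add, map_mul, map_pow, map_zero, map_one, hff, it39, it44, it60, iw]) <;> linear_combination (t39*t44*w) * h2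
  · (try simp only [map_add, map_mul, map_pow, map_zero, map_one, hff, it39, it44, it60, iw]) <;> linear_combination (0 : K) * h2
  · (try simp only [map_add, map_mul, map_pow, map_zero, map_one, hff, it39, it44, it60, iw]) <;> linear_combination (0 : K) * h2
  · (try simp only [map_add, map_mul, map_pow, map_zero, map_one, hff, it39, it44, it60, iw]) <;> linear_combination (0 : K) * h2
  · (try simp only [map_add, map_mul, map_pow, map_zero, map_one, hff, it39, it44, it60, iw]) <;> linear_combination (0 : K) * h2
  · (try simp only [map_add, map_mul, map_pow, map_zero, map_one, hff, it39, it44, it60, iw]) <;> linear_combination (0 : K) * h2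
  · (try simp only [map_add, map_mul, map_pow, map_zero, map_one, hff, it39, it44, it60, iw]) <;> linear_combination (0 : K) * h2
  · (try simp only [map_add, map_mul, map_pow, map_zero, map_one, hff, it39, it44, it60, iw]) <;> linear_combination (0 : K) * h2
  · (try simp only [map_add, map_mul, map_pow, map_zero, map_one, hff, it39, it44, it60, iw]) <;> linear_combination (0 : K) * h2
  · (try simp only [map_add, map_mul, map_pow, map_zero, map_one, hff, it39, it44, it60, iw]) <;> linear_combination (0 : K) * h2
  · (try simp only [map_add, map_mul, map_pow, map_zero, map_one, hff, it39, it44, it60, iw]) <;> linear_combination (0 : K) * h2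
  · (try simp only [map_add, map_mul, map_pow, map_zero, map_one, hff, it39, it44, it60, iw]) <;> linear_combination (0 : K) * h2
  · (try simp only [map_add, map_mul, map_pow, map_zero, map_one, hff, it39, it44, it60, iw]) <;> linear_combination (0 : K) * h2
  · (try simp only [map_add, map_mul, map_pow, map_zero, map_one, hff, it39, it44, it60, iw]) <;> linear_combination (0 : K) * h2
  · (try simp only [map_add, map_mul, map_pow, map_zero, map_one, hff, it39, it44, it60, iw]) <;> linear_combination (0 : K) * h2
  · (try simp only [map_add, map_mul, map_pow, map_zero, map_one, hff, it39, it44, it60, iw]) <;> linear_combination (0 : K) * h2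
  · (try simp only [map_add, map_mul, map_pow, map_zero, map_one, hff, it39, it44, it60, iw]) <;> linear_combination (0 : K) * h2
  · (try simp only [map_add, map_mul, map_pow, map_zero, map_one, hff, it39, it44, it60, iw]) <;> linear_combination (0 : K) * h2
  · (try simp only [map_add, map_mul, map_pow, map_zero, map_one, hff, it39, it44, it60, iw]) <;> linear_combination (0 : K) * h2

theorem nE_D3_1 {t39 t44 t60 : K} (hff : ∀ t, f (f t) = t) (it39 : f t39 = t39) (it44 : f t44 = t44) (it60 : f t60 = t60) :
    nR [0, 1, 2, 1, 0] * E f 0 0 0 (t39) 0 0 (t44) 0 0 0 0 0 0 0 0 0 0 (t60) 0 0 0 0 0 0 * (nR [0, 1, 2, 1, 0])⁻¹ = E f 0 0 0 (t39) 0 0 (t44) 0 0 0 0 0 0 0 0 0 0 0 0 0 0 0 0 (t60) := by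
  have h2 : (2 : K) = 0 := CharTwo.two_eq_zero
  have c39 := fun t : K => nR_at (l := [0, 1, 2, 1, 0]) (s := 39) (m := 39) (by decide +kernel) t
  have c44 := fun t : K => nR_at (l := [0, 1, 2, 1, 0]) (s := 44) (m := 44) (by decide +kernel) t
  have c60 := fun t : K => nR_at (l := [0, 1, 2, 1, 0]) (s := 60) (m := 71) (by decide +kernel) t
  unfold E
  rw [conj_W]
  simp only [map_zero, zero_mul, mul_zero, add_zero, zero_add, conj_x0, one_mul, c39, c44, c60]
  rw [← W_zero (K := K)]
  simp only [xW_39, xW_44, xW_71, zero_mul, mul_zero, add_zero, zero_add]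
  first
    | done
    | apply W_congr
      · (try simp only [map_add, map_mul, map_pow, map_zero, map_one, hff, it39, it44, it60]) <;> linear_combination (0 : K) * h2
      · (try simp only [map_add, map_mul, map_pow, map_zero, map_one, hff, it39, it44, it60]) <;> linear_combination (0 : K) * h2
      · (try simp only [map_add, map_mul, map_pow, map_zero, map_one, hff, it39, it44, it60]) <;> linear_combination (0 : K) * h2
      · (try simp only [map_add, map_mul, map_pow, map_zero, map_one, hff, it39, it44, it60]) <;> linear_combination (0 : K) * h2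
      · (try simp only [map_add, map_mul, map_pow, map_zero, map_one, hff, it39, it44, it60]) <;> linear_combination (0 : K) * h2
      · (try simp only [map_add, map_mul, map_pow, map_zero, map_one, hff, it39, it44, it60]) <;> linear_combination (0 : K) * h2
      · (try simp only [map_add, map_mul, map_pow, map_zero, map_one, hff, it39, it44, it60]) <;> linear_combination (0 : K) * h2
      · (try simp only [map_add, map_mul, map_pow, map_zero, map_one, hff, it39, it44, it60]) <;> linear_combination (0 : K) * h2
      · (try simp only [map_add, map_mul, map_pow, map_zero, map_one, hff, it39, it44, it60]) <;> linear_combination (0 : K) * h2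
      · (try simp only [map_add, map_mul, map_pow, map_zero, map_one, hff, it39, it44, it60]) <;> linear_combination (0 : K) * h2
      · (try simp only [map_add, map_mul, map_pow, map_zero, map_one, hff, it39, it44, it60]) <;> linear_combination (0 : K) * h2
      · (try simp only [map_add, map_mul, map_pow, map_zero, map_one, hff, it39, it44, it60]) <;> linear_combination (0 : K) * h2
      · (try simp only [map_add, map_mul, map_pow, map_zero, map_one, hff, it39, it44, it60]) <;> linear_combination (0 : K) * h2
      · (try simp only [map_add, map_mul, map_pow, map_zero, map_one, hff, it39, it44, it60]) <;> linear_combination (0 : K) * h2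
      · (try simp only [map_add, map_mul, map_pow, map_zero, map_one, hff, it39, it44, it60]) <;> linear_combination (0 : K) * h2
      · (try simp only [map_add, map_mul, map_pow, map_zero, map_one, hff, it39, it44, it60]) <;> linear_combination (0 : K) * h2
      · (try simp only [map_add, map_mul, map_pow, map_zero, map_one, hff, it39, it44, it60]) <;> linear_combination (0 : K) * h2
      · (try simp only [map_add, map_mul, map_pow, map_zero, map_one, hff, it39, it44, it60]) <;> linear_combination (0 : K) * h2
      · (try simp only [map_add, map_mul, map_pow, map_zero, map_one, hff, it39, it44, it60]) <;> linear_combination (0 : K) * h2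
      · (try simp only [map_add, map_mul, map_pow, map_zero, map_one, hff, it39, it44, it60]) <;> linear_combination (0 : K) * h2
      · (try simp only [map_add, map_mul, map_pow, map_zero, map_one, hff, it39, it44, it60]) <;> linear_combination (0 : K) * h2
      · (try simp only [map_add, map_mul, map_pow, map_zero, map_one, hff, it39, it44, it60]) <;> linear_combination (0 : K) * h2
      · (try simp only [map_add, map_mul, map_pow, map_zero, map_one, hff, it39, it44, it60]) <;> linear_combination (0 : K) * h2
      · (try simp only [map_add, map_mul, map_pow, map_zero, map_one, hff, it39, it44, it60]) <;> linear_combination (0 : K) * h2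
      · (try simp only [map_add, map_mul, map_pow, map_zero, map_one, hff, it39, it44, it60]) <;> linear_combination (0 : K) * h2
      · (try simp only [map_add, map_mul, map_pow, map_zero, map_one, hff, it39, it44, it60]) <;> linear_combination (0 : K) * h2
      · (try simp only [map_add, map_mul, map_pow, map_zero, map_one, hff, it39, it44, it60]) <;> linear_combination (0 : K) * h2
      · (try simp only [map_add, map_mul, map_pow, map_zero, map_one, hff, it39, it44, it60]) <;> linear_combination (0 : K) * h2
      · (try simp only [map_add, map_mul, map_pow, map_zero, map_one, hff, it39, it44, it60]) <;> linear_combination (0 : K) * h2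
      · (try simp only [map_add, map_mul, map_pow, map_zero, map_one, hff, it39, it44, it60]) <;> linear_combination (0 : K) * h2
      · (try simp only [map_add, map_mul, map_pow, map_zero, map_one, hff, it39, it44, it60]) <;> linear_combination (0 : K) * h2
      · (try simp only [map_add, map_mul, map_pow, map_zero, map_one, hff, it39, it44, it60]) <;> linear_combination (0 : K) * h2
      · (try simp only [map_add, map_mul, map_pow, map_zero, map_one, hff, it39, it44, it60]) <;> linear_combination (0 : K) * h2
      · (try simp only [map_add, map_mul, map_pow, map_zero, map_one, hff, it39, it44, it60]) <;> linear_combination (0 : K) * h2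
      · (try simp only [map_add, map_mul, map_pow, map_zero, map_one, hff, it39, it44, it60]) <;> linear_combination (0 : K) * h2
      · (try simp only [map_add, map_mul, map_pow, map_zero, map_one, hff, it39, it44, it60]) <;> linear_combination (0 : K) * h2

theorem D3_1_1 {t39 t44 t71 : K} (d : Dt f) (hp71 : t71 ≠ 0) (hp39 : t39 ≠ 0) (hp44 : t44 ≠ 0) (hm : E f 0 0 0 (t39) 0 0 (t44) 0 0 0 0 0 0 0 0 0 0 0 0 0 0 0 0 (t71) ∈ (sc f).G1) (hs : E f 0 0 0 (t39) 0 0 (t44) 0 0 0 0 0 0 0 0 0 0 0 0 0 0 0 0 (t71) * E f 0 0 0 (t39) 0 0 (t44) 0 0 0 0 0 0 0 0 0 0 0 0 0 0 0 0 (t71) = 1) : Res f (E f 0 0 0 (t39) 0 0 (t44) 0 0 0 0 0 0 0 0 0 0 0 0 0 0 0 0 (t71)) := by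
  exact D2 d hp39 hp44 hp71 hm hs

theorem D3_1 {t39 t44 t60 : K} (d : Dt f) (hp39 : t39 ≠ 0) (hp44 : t44 ≠ 0) (hp60 : t60 ≠ 0) (hm : E f 0 0 0 (t39) 0 0 (t44) 0 0 0 0 0 0 0 0 0 0 (t60) 0 0 0 0 0 0 ∈ (sc f).G1) (hs : E f 0 0 0 (t39) 0 0 (t44) 0 0 0 0 0 0 0 0 0 0 (t60) 0 0 0 0 0 0 * E f 0 0 0 (t39) 0 0 (t44) 0 0 0 0 0 0 0 0 0 0 (t60) 0 0 0 0 0 0 = 1) : Res f (E f 0 0 0 (t39) 0 0 (t44) 0 0 0 0 0 0 0 0 0 0 (t60) 0 0 0 0 0 0) := by
  obtain ⟨it39, it44, it46, it47, it51, it53, it60, it63, it65, it69, it70, it71⟩ := inv_of_mem d hm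
  have c : Cj f (E f 0 0 0 (t39) 0 0 (t44) 0 0 0 0 0 0 0 0 0 0 (t60) 0 0 0 0 0 0) (E f 0 0 0 (t39) 0 0 (t44) 0 0 0 0 0 0 0 0 0 0 0 0 0 0 0 0 (t60)) := cjN f (nR_mem f [0, 1, 2, 1, 0]) (nE_D3_1 d.hff it39 it44 it60)
  exact Res.of_cj f c (D3_1_1 d hp60 hp39 hp44 (c.mem f hm) (c.sq f hs))

theorem D3 {t39 t44 t60 t71 : K} (d : Dt f) (hp71 : t71 ≠ 0) (hp39 : t39 ≠ 0) (hp44 : t44 ≠ 0) (hp60 : t60 ≠ 0) (hm : E f 0 0 0 (t39) 0 0 (t44) 0 0 0 0 0 0 0 0 0 0 (t60) 0 0 0 0 0 (t71) ∈ (sc f).G1) (hs : E f 0 0 0 (t39) 0 0 (t44) 0 0 0 0 0 0 0 0 0 0 (t60) 0 0 0 0 0 (t71) * E f 0 0 0 (t39) 0 0 (t44) 0 0 0 0 0 0 0 0 0 0 (t60) 0 0 0 0 0 (t71) = 1) : Res f (E f 0 0 0 (t39) 0 0 (t44) 0 0 0 0 0 0 0 0 0 0 (t60) 0 0 0 0 0 (t71)) := by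
  obtain ⟨it39, it44, it46, it47, it51, it53, it60, it63, it65, it69, it70, it71⟩ := inv_of_mem d hm
  obtain ⟨w, hw, rfl⟩ := solve_sqrt (mul_ne_zero (mul_ne_zero hp39 hp44) hp60) (by simp only [map_mul, map_pow, map_one, map_zero, map_add, it39, it44, it60]) it71
  have hw0 : w ≠ 0 := by
    rintro rfl
    simp at hp71
  have c : Cj f (E f 0 0 0 (t39) 0 0 (t44) 0 0 0 0 0 0 0 0 0 0 (t60) 0 0 0 0 0 ((t39*t44*t60) * (w * w))) (E f 0 0 0 (t39) 0 0 (t44) 0 0 0 0 0 0 0 0 0 0 (t60) 0 0 0 0 0 0) := cjS f (E_mem_G1 d (map_zero f) (map_zero f) (map_zero f) (by simp only [map_mul, map_pow, map_one, map_zero, map_add, it39, hw]) (by simp only [map_mul, map_pow, map_one, map_zero, map_add, it44, hw]) (by simp only [map_mul, map_pow, map_one, map_zero, map_add, it39, it44, hw]) (map_zero f) (by simp only [map_mul, map_pow, map_one, map_zero, map_add, it60, hw]) (map_zero f) (map_zero f) (map_zero f) (map_zero f) 0 0 0 0 0 0 0 0 0 0 0 0) (st_D3 d.hff it39 it44 it60 hw)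
  exact Res.of_cj f c (D3_1 d hp39 hp44 hp60 (c.mem f hm) (c.sq f hs))

end Cfsg.Agent.Lib.E6Inv50
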