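import Cfsg.Agent.Lib.E6Inv50M

/-!
# The involutions of `²E₆(q)`, `q` even: reduction chains
-/

set_option autoImplicit false
set_option linter.unusedSectionVars false
set_option linter.unusedVariables false
set_option linter.unusedSimpArgs false
set_option maxRecDepth 100000
set_option maxHeartbeats 4000000
set_option linter.unusedTactic false
set_option linter.unreachableTactic false

namespace Cfsg.Agent.Lib.E6Inv50

open Cfsg Cfsg.Lie Cfsg.Agent.Lib.Chev Cfsg.Agent.Lib.Chev.TwE6

variable {K : Type*} [Field K] [CharP K 2] [Fintype K] {f : K ≃+* K}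

theorem nE_W55 {l55 l66 t65 t69 t70 t71 : K} (hff : ∀ t, f (f t) = t) (it65 : f t65 = t65) (it69 : f t69 = t69) (it70 : f t70 = t70) (it71 : f t71 = t71) :
    nR [2] * E f 0 0 0 0 0 0 0 0 0 0 0 0 0 0 0 0 (l55) 0 0 (t65) (l66) (t69) (t70) (t71) * (nR [2])⁻¹ = E f 0 0 0 0 0 0 0 0 0 0 0 0 0 0 0 (l55) 0 0 0 (t69) ((f l66)) (t65) (t70) (t71) := by
  have h2 : (2 : K) = 0 := CharTwo.two_eq_zero
  have c55 := fun t : K => nR_at (l := [2]) (s := 55) (m := 54) (by decide +kernel) t
  have c65 := fun t : K => nR_at (l := [2]) (s := 65) (m := 69) (by decide +kernel) t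
  have c66 := fun t : K => nR_at (l := [2]) (s := 66) (m := 68) (by decide +kernel) t
  have c67 := fun t : K => nR_at (l := [2]) (s := 67) (m := 64) (by decide +kernel) t
  have c68 := fun t : K => nR_at (l := [2]) (s := 68) (m := 66) (by decide +kernel) t
  have c69 := fun t : K => nR_at (l := [2]) (s := 69) (m := 65) (by decide +kernel) t
  have c70 := fun t : K => nR_at (l := [2]) (s := 70) (m := 70) (by decide +kernel) t
  have c71 := fun t : K => nR_at (l := [2]) (s := 71) (m := 71) (by decide +kernel) t
  unfold E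
  rw [conj_W]
  simp only [map_zero, zero_mul, mul_zero, add_zero, zero_add, conj_x0, one_mul, c55, c65, c66, c67, c68, c69, c70, c71]
  rw [← W_zero (K := K)]
  simp only [xW_54, xW_64, xW_65, xW_66, xW_68, xW_69, xW_70, xW_71, zero_mul, mul_zero, add_zero, zero_add]
  first
    | done
    | apply W_congr
      · (try simp only [map_add, map_mul, map_pow, map_zero, map_one, hff, it65, it69, it70, it71]) <;> linear_combination (0 : K) * h2
      · (try simp only [map_add, map_mul, map_pow, map_zero, map_one, hff, it65, it69, it70, it71]) <;> linear_combination (0 : K) * h2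
      · (try simp only [map_add, map_mul, map_pow, map_zero, map_one, hff, it65, it69, it70, it71]) <;> linear_combination (0 : K) * h2
      · (try simp only [map_add, map_mul, map_pow, map_zero, map_one, hff, it65, it69, it70, it71]) <;> linear_combination (0 : K) * h2
      · (try simp only [map_add, map_mul, map_pow, map_zero, map_one, hff, it65, it69, it70, it71]) <;> linear_combination (0 : K) * h2
      · (try simp only [map_add, map_mul, map_pow, map_zero, map_one, hff, it65, it69, it70, it71]) <;> linear_combination (0 : K) * h2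
      · (try simp only [map_add, map_mul, map_pow, map_zero, map_one, hff, it65, it69, it70, it71]) <;> linear_combination (0 : K) * h2
      · (try simp only [map_add, map_mul, map_pow, map_zero, map_one, hff, it65, it69, it70, it71]) <;> linear_combination (0 : K) * h2
      · (try simp only [map_add, map_mul, map_pow, map_zero, map_one, hff, it65, it69, it70, it71]) <;> linear_combination (0 : K) * h2
      · (try simp only [map_add, map_mul, map_pow, map_zero, map_one, hff, it65, it69, it70, it71]) <;> linear_combination (0 : K) * h2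
      · (try simp only [map_add, map_mul, map_pow, map_zero, map_one, hff, it65, it69, it70, it71]) <;> linear_combination (0 : K) * h2
      · (try simp only [map_add, map_mul, map_pow, map_zero, map_one, hff, it65, it69, it70, it71]) <;> linear_combination (0 : K) * h2
      · (try simp only [map_add, map_mul, map_pow, map_zero, map_one, hff, it65, it69, it70, it71]) <;> linear_combination (0 : K) * h2
      · (try simp only [map_add, map_mul, map_pow, map_zero, map_one, hff, it65, it69, it70, it71]) <;> linear_combination (0 : K) * h2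
      · (try simp only [map_add, map_mul, map_pow, map_zero, map_one, hff, it65, it69, it70, it71]) <;> linear_combination (0 : K) * h2
      · (try simp only [map_add, map_mul, map_pow, map_zero, map_one, hff, it65, it69, it70, it71]) <;> linear_combination (0 : K) * h2
      · (try simp only [map_add, map_mul, map_pow, map_zero, map_one, hff, it65, it69, it70, it71]) <;> linear_combination (0 : K) * h2
      · (try simp only [map_add, map_mul, map_pow, map_zero, map_one, hff, it65, it69, it70, it71]) <;> linear_combination (0 : K) * h2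
      · (try simp only [map_add, map_mul, map_pow, map_zero, map_one, hff, it65, it69, it70, it71]) <;> linear_combination (0 : K) * h2
      · (try simp only [map_add, map_mul, map_pow, map_zero, map_one, hff, it65, it69, it70, it71]) <;> linear_combination (0 : K) * h2
      · (try simp only [map_add, map_mul, map_pow, map_zero, map_one, hff, it65, it69, it70, it71]) <;> linear_combination (0 : K) * h2
      · (try simp only [map_add, map_mul, map_pow, map_zero, map_one, hff, it65, it69, it70, it71]) <;> linear_combination (0 : K) * h2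
      · (try simp only [map_add, map_mul, map_pow, map_zero, map_one, hff, it65, it69, it70, it71]) <;> linear_combination (0 : K) * h2
      · (try simp only [map_add, map_mul, map_pow, map_zero, map_one, hff, it65, it69, it70, it71]) <;> linear_combination (0 : K) * h2
      · (try simp only [map_add, map_mul, map_pow, map_zero, map_one, hff, it65, it69, it70, it71]) <;> linear_combination (0 : K) * h2
      · (try simp only [map_add, map_mul, map_pow, map_zero, map_one, hff, it65, it69, it70, it71]) <;> linear_combination (0 : K) * h2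
      · (try simp only [map_add, map_mul, map_pow, map_zero, map_one, hff, it65, it69, it70, it71]) <;> linear_combination (0 : K) * h2
      · (try simp only [map_add, map_mul, map_pow, map_zero, map_one, hff, it65, it69, it70, it71]) <;> linear_combination (0 : K) * h2
      · (try simp only [map_add, map_mul, map_pow, map_zero, map_one, hff, it65, it69, it70, it71]) <;> linear_combination (0 : K) * h2
      · (try simp only [map_add, map_mul, map_pow, map_zero, map_one, hff, it65, it69, it70, it71]) <;> linear_combination (0 : K) * h2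
      · (try simp only [map_add, map_mul, map_pow, map_zero, map_one, hff, it65, it69, it70, it71]) <;> linear_combination (0 : K) * h2
      · (try simp only [map_add, map_mul, map_pow, map_zero, map_one, hff, it65, it69, it70, it71]) <;> linear_combination (0 : K) * h2
      · (try simp only [map_add, map_mul, map_pow, map_zero, map_one, hff, it65, it69, it70, it71]) <;> linear_combination (0 : K) * h2
      · (try simp only [map_add, map_mul, map_pow, map_zero, map_one, hff, it65, it69, it70, it71]) <;> linear_combination (0 : K) * h2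
      · (try simp only [map_add, map_mul, map_pow, map_zero, map_one, hff, it65, it69, it70, it71]) <;> linear_combination (0 : K) * h2
      · (try simp only [map_add, map_mul, map_pow, map_zero, map_one, hff, it65, it69, it70, it71]) <;> linear_combination (0 : K) * h2

theorem W55_1 {l54 l66 t65 t69 t70 t71 : K} (d : Dt f) (hp54 : l54 ≠ 0) (hm : E f 0 0 0 0 0 0 0 0 0 0 0 0 0 0 0 (l54) 0 0 0 (t65) (l66) (t69) (t70) (t71) ∈ (sc f).G1) (hs : E f 0 0 0 0 0 0 0 0 0 0 0 0 0 0 0 (l54) 0 0 0 (t65) (l66) (t69) (t70) (t71) * E f 0 0 0 0 0 0 0 0 0 0 0 0 0 0 0 (l54) 0 0 0 (t65) (l66) (t69) (t70) (t71) = 1) : Res f (E f 0 0 0 0 0 0 0 0 0 0 0 0 0 0 0 (l54) 0 0 0 (t65) (l66) (t69) (t70) (t71)) := by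
  exact C54 d hp54 hm hs

theorem W55 {l55 l66 t65 t69 t70 t71 : K} (d : Dt f) (hp55 : l55 ≠ 0) (hm : E f 0 0 0 0 0 0 0 0 0 0 0 0 0 0 0 0 (l55) 0 0 (t65) (l66) (t69) (t70) (t71) ∈ (sc f).G1) (hs : E f 0 0 0 0 0 0 0 0 0 0 0 0 0 0 0 0 (l55) 0 0 (t65) (l66) (t69) (t70) (t71) * E f 0 0 0 0 0 0 0 0 0 0 0 0 0 0 0 0 (l55) 0 0 (t65) (l66) (t69) (t70) (t71) = 1) : Res f (E f 0 0 0 0 0 0 0 0 0 0 0 0 0 0 0 0 (l55) 0 0 (t65) (l66) (t69) (t70) (t71)) := by
  obtain ⟨it39, it44, it46, it47, it51, it53, it60, it63, it65, it69, it70, it71⟩ := inv_of_mem d hm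
  have c : Cj f (E f 0 0 0 0 0 0 0 0 0 0 0 0 0 0 0 0 (l55) 0 0 (t65) (l66) (t69) (t70) (t71)) (E f 0 0 0 0 0 0 0 0 0 0 0 0 0 0 0 (l55) 0 0 0 (t69) ((f l66)) (t65) (t70) (t71)) := cjN f (nR_mem f [2]) (nE_W55 d.hff it65 it69 it70 it71)
  exact Res.of_cj f c (W55_1 d hp55 (c.mem f hm) (c.sq f hs))

theorem C55 {l36 l37 l38 l40 l41 l45 l48 l49 l52 l54 l55 l66 t39 t44 t46 t47 t51 t53 t60 t63 t65 t69 t70 t71 : K} (d : Dt f) (hp55 : l55 ≠ 0) (hm : E f (l36) (l37) (l38) (t39) (l40) (l41) (t44) (l45) (t46) (t47) (l48) (l49) (t51) (l52) (t53) (l54) (l55) (t60) (t63) (t65) (l66) (t69) (t70) (t71) ∈ (sc f).G1) (hs : E f (l36) (l37) (l38) (t39) (l40) (l41) (t44) (l45) (t46) (t47) (l48) (l49) (t51) (l52) (t53) (l54) (l55) (t60) (t63) (t65) (l66) (t69) (t70) (t71) * E f (l36) (l37) (l38) (t39) (l40) (l41) (t44) (l45) (t46) (t47) (l48) (l49) (t51) (l52) (t53) (l54) (l55) (t60) (t63) (t65) (l66) (t69) (t70) (t71) = 1) : Res f (E f (l36) (l37) (l38) (t39) (l40) (l41) (t44) (l45) (t46) (t47) (l48) (l49) (t51) (l52) (t53) (l54) (l55) (t60) (t63) (t65)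 (l66) (t69) (t70) (t71)) := by
  by_cases h46 : t46 = 0
  swap
  · exact C46 d h46 hm hs
  subst h46
  by_cases h39 : t39 = 0
  swap
  · exact C39 d h39 hm hs
  subst h39
  by_cases h37 : l37 = 0
  swap
  · exact C37 d h37 hm hs
  subst h37
  by_cases h36 : l36 = 0
  swap
  · exact C36 d h36 hm hs
  subst h36
  by_cases h38 : l38 = 0
  swap
  · exact C38 d h38 hm hs
  subst h38
  by_cases h40 : l40 = 0
  swap
  · exact C40 d h40 hm hs
  subst h40
  by_cases h47 : t47 = 0
  swap
  · exact C47 d h47 hm hs
  subst h47
  by_cases h41 : l41 = 0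
  swap
  · exact C41 d h41 hm hs
  subst h41
  by_cases h44 : t44 = 0
  swap
  · exact C44 d h44 hm hs
  subst h44
  by_cases h48 : l48 = 0
  swap
  · exact C48 d h48 hm hs
  subst h48
  by_cases h45 : l45 = 0
  swap
  · exact C45 d h45 hm hs
  subst h45
  by_cases h49 : l49 = 0
  swap
  · exact C49 d h49 hm hs
  subst h49
  by_cases h51 : t51 = 0
  swap
  · exact C51 d h51 hm hs
  subst h51
  by_cases h52 : l52 = 0
  swap
  · exact C52 d h52 hm hs
  subst h52
  by_cases h53 : t53 = 0
  swap
  · exact C53 d h53 hm hs
  subst h53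
  by_cases h60 : t60 = 0
  swap
  · exact C60 d h60 hm hs
  subst h60
  by_cases h54 : l54 = 0
  swap
  · exact C54 d h54 hm hs
  subst h54
  by_cases h63 : t63 = 0
  swap
  · exact C63 d h63 hm hs
  subst h63
  exact W55 d hp55 hm hs

theorem nE_W65 {l66 t65 t69 t70 t71 : K} (hff : ∀ t, f (f t) = t) (it65 : f t65 = t65) (it69 : f t69 = t69) (it70 : f t70 = t70) (it71 : f t71 = t71) :
    nR [1] * E f 0 0 0 0 0 0 0 0 0 0 0 0 0 0 0 0 0 0 0 (t65) (l66) (t69) (t70) (t71) * (nR [1])⁻¹ = E f 0 0 0 0 0 0 0 0 0 0 0 0 0 0 0 0 0 0 (t65) 0 (l66) (t70) (t69) (t71) := by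
  have h2 : (2 : K) = 0 := CharTwo.two_eq_zero
  have c65 := fun t : K => nR_at (l := [1]) (s := 65) (m := 63) (by decide +kernel) t
  have c66 := fun t : K => nR_at (l := [1]) (s := 66) (m := 66) (by decide +kernel) t
  have c68 := fun t : K => nR_at (l := [1]) (s := 68) (m := 68) (by decide +kernel) t
  have c69 := fun t : K => nR_at (l := [1]) (s := 69) (m := 70) (by decide +kernel) t
  have c70 := fun t : K => nR_at (l := [1]) (s := 70) (m := 69) (by decide +kernel) t
  have c71 := fun t : K => nR_at (l := [1]) (s := 71) (m := 71) (by decide +kernel) t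
  unfold E
  rw [conj_W]
  simp only [map_zero, zero_mul, mul_zero, add_zero, zero_add, conj_x0, one_mul, c65, c66, c68, c69, c70, c71]
  rw [← W_zero (K := K)]
  simp only [xW_63, xW_66, xW_68, xW_69, xW_70, xW_71, zero_mul, mul_zero, add_zero, zero_add]
  first
    | done
    | apply W_congr
      · (try simp only [map_add, map_mul, map_pow, map_zero, map_one, hff, it65, it69, it70, it71]) <;> linear_combination (0 : K) * h2
      · (try simp only [map_add, map_mul, map_pow, map_zero, map_one, hff, it65, it69, it70, it71]) <;> linear_combination (0 : K) * h2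
      · (try simp only [map_add, map_mul, map_pow, map_zero, map_one, hff, it65, it69, it70, it71]) <;> linear_combination (0 : K) * h2
      · (try simp only [map_add, map_mul, map_pow, map_zero, map_one, hff, it65, it69, it70, it71]) <;> linear_combination (0 : K) * h2
      · (try simp only [map_add, map_mul, map_pow, map_zero, map_one, hff, it65, it69, it70, it71]) <;> linear_combination (0 : K) * h2
      · (try simp only [map_add, map_mul, map_pow, map_zero, map_one, hff, it65, it69, it70, it71]) <;> linear_combination (0 : K) * h2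
      · (try simp only [map_add, map_mul, map_pow, map_zero, map_one, hff, it65, it69, it70, it71]) <;> linear_combination (0 : K) * h2
      · (try simp only [map_add, map_mul, map_pow, map_zero, map_one, hff, it65, it69, it70, it71]) <;> linear_combination (0 : K) * h2
      · (try simp only [map_add, map_mul, map_pow, map_zero, map_one, hff, it65, it69, it70, it71]) <;> linear_combination (0 : K) * h2
      · (try simp only [map_add, map_mul, map_pow, map_zero, map_one, hff, it65, it69, it70, it71]) <;> linear_combination (0 : K) * h2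
      · (try simp only [map_add, map_mul, map_pow, map_zero, map_one, hff, it65, it69, it70, it71]) <;> linear_combination (0 : K) * h2
      · (try simp only [map_add, map_mul, map_pow, map_zero, map_one, hff, it65, it69, it70, it71]) <;> linear_combination (0 : K) * h2
      · (try simp only [map_add, map_mul, map_pow, map_zero, map_one, hff, it65, it69, it70, it71]) <;> linear_combination (0 : K) * h2
      · (try simp only [map_add, map_mul, map_pow, map_zero, map_one, hff, it65, it69, it70, it71]) <;> linear_combination (0 : K) * h2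
      · (try simp only [map_add, map_mul, map_pow, map_zero, map_one, hff, it65, it69, it70, it71]) <;> linear_combination (0 : K) * h2
      · (try simp only [map_add, map_mul, map_pow, map_zero, map_one, hff, it65, it69, it70, it71]) <;> linear_combination (0 : K) * h2
      · (try simp only [map_add, map_mul, map_pow, map_zero, map_one, hff, it65, it69, it70, it71]) <;> linear_combination (0 : K) * h2
      · (try simp only [map_add, map_mul, map_pow, map_zero, map_one, hff, it65, it69, it70, it71]) <;> linear_combination (0 : K) * h2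
      · (try simp only [map_add, map_mul, map_pow, map_zero, map_one, hff, it65, it69, it70, it71]) <;> linear_combination (0 : K) * h2
      · (try simp only [map_add, map_mul, map_pow, map_zero, map_one, hff, it65, it69, it70, it71]) <;> linear_combination (0 : K) * h2
      · (try simp only [map_add, map_mul, map_pow, map_zero, map_one, hff, it65, it69, it70, it71]) <;> linear_combination (0 : K) * h2
      · (try simp only [map_add, map_mul, map_pow, map_zero, map_one, hff, it65, it69, it70, it71]) <;> linear_combination (0 : K) * h2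
      · (try simp only [map_add, map_mul, map_pow, map_zero, map_one, hff, it65, it69, it70, it71]) <;> linear_combination (0 : K) * h2
      · (try simp only [map_add, map_mul, map_pow, map_zero, map_one, hff, it65, it69, it70, it71]) <;> linear_combination (0 : K) * h2
      · (try simp only [map_add, map_mul, map_pow, map_zero, map_one, hff, it65, it69, it70, it71]) <;> linear_combination (0 : K) * h2
      · (try simp only [map_add, map_mul, map_pow, map_zero, map_one, hff, it65, it69, it70, it71]) <;> linear_combination (0 : K) * h2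
      · (try simp only [map_add, map_mul, map_pow, map_zero, map_one, hff, it65, it69, it70, it71]) <;> linear_combination (0 : K) * h2
      · (try simp only [map_add, map_mul, map_pow, map_zero, map_one, hff, it65, it69, it70, it71]) <;> linear_combination (0 : K) * h2
      · (try simp only [map_add, map_mul, map_pow, map_zero, map_one, hff, it65, it69, it70, it71]) <;> linear_combination (0 : K) * h2
      · (try simp only [map_add, map_mul, map_pow, map_zero, map_one, hff, it65, it69, it70, it71]) <;> linear_combination (0 : K) * h2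
      · (try simp only [map_add, map_mul, map_pow, map_zero, map_one, hff, it65, it69, it70, it71]) <;> linear_combination (0 : K) * h2
      · (try simp only [map_add, map_mul, map_pow, map_zero, map_one, hff, it65, it69, it70, it71]) <;> linear_combination (0 : K) * h2
      · (try simp only [map_add, map_mul, map_pow, map_zero, map_one, hff, it65, it69, it70, it71]) <;> linear_combination (0 : K) * h2
      · (try simp only [map_add, map_mul, map_pow, map_zero, map_one, hff, it65, it69, it70, it71]) <;> linear_combination (0 : K) * h2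
      · (try simp only [map_add, map_mul, map_pow, map_zero, map_one, hff, it65, it69, it70, it71]) <;> linear_combination (0 : K) * h2
      · (try simp only [map_add, map_mul, map_pow, map_zero, map_one, hff, it65, it69, it70, it71]) <;> linear_combination (0 : K) * h2

theorem W65_1 {l66 t63 t69 t70 t71 : K} (d : Dt f) (hp63 : t63 ≠ 0) (hm : E f 0 0 0 0 0 0 0 0 0 0 0 0 0 0 0 0 0 0 (t63) 0 (l66) (t69) (t70) (t71) ∈ (sc f).G1) (hs : E f 0 0 0 0 0 0 0 0 0 0 0 0 0 0 0 0 0 0 (t63) 0 (l66) (t69) (t70) (t71) * E f 0 0 0 0 0 0 0 0 0 0 0 0 0 0 0 0 0 0 (t63) 0 (l66) (t69) (t70) (t71) = 1) : Res f (E f 0 0 0 0 0 0 0 0 0 0 0 0 0 0 0 0 0 0 (t63) 0 (l66) (t69) (t70) (t71)) := by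
  exact C63 d hp63 hm hs

theorem W65 {l66 t65 t69 t70 t71 : K} (d : Dt f) (hp65 : t65 ≠ 0) (hm : E f 0 0 0 0 0 0 0 0 0 0 0 0 0 0 0 0 0 0 0 (t65) (l66) (t69) (t70) (t71) ∈ (sc f).G1) (hs : E f 0 0 0 0 0 0 0 0 0 0 0 0 0 0 0 0 0 0 0 (t65) (l66) (t69) (t70) (t71) * E f 0 0 0 0 0 0 0 0 0 0 0 0 0 0 0 0 0 0 0 (t65) (l66) (t69) (t70) (t71) = 1) : Res f (E f 0 0 0 0 0 0 0 0 0 0 0 0 0 0 0 0 0 0 0 (t65) (l66) (t69) (t70) (t71)) := by
  obtain ⟨it39, it44, it46, it47, it51, it53, it60, it63, it65, it69, it70, it71⟩ := inv_of_mem d hm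
  have c : Cj f (E f 0 0 0 0 0 0 0 0 0 0 0 0 0 0 0 0 0 0 0 (t65) (l66) (t69) (t70) (t71)) (E f 0 0 0 0 0 0 0 0 0 0 0 0 0 0 0 0 0 0 (t65) 0 (l66) (t70) (t69) (t71)) := cjN f (nR_mem f [1]) (nE_W65 d.hff it65 it69 it70 it71)
  exact Res.of_cj f c (W65_1 d hp65 (c.mem f hm) (c.sq f hs))

theorem C65 {l36 l37 l38 l40 l41 l45 l48 l49 l52 l54 l55 l66 t39 t44 t46 t47 t51 t53 t60 t63 t65 t69 t70 t71 : K} (d : Dt f) (hp65 : t65 ≠ 0) (hm : E f (l36) (l37) (l38) (t39) (l40) (l41) (t44) (l45) (t46) (t47) (l48) (l49) (t51) (l52) (t53) (l54) (l55) (t60) (t63) (t65) (l66) (t69) (t70) (t71) ∈ (sc f).G1) (hs : E f (l36) (l37) (l38) (t39) (l40) (l41) (t44) (l45) (t46) (t47) (l48) (l49) (t51) (l52) (t53) (l54) (l55) (t60) (t63) (t65) (l66) (t69) (t70) (t71) * E f (l36) (l37) (l38) (t39) (l40) (l41) (t44) (l45) (t46) (t47) (l48) (l49) (t51) (l52) (t53) (l54) (l55) (t60) (t63) (t65) (l66) (t69) (t70) (t71) = 1) : Res f (E f (l36) (l37) (l38) (t39) (l40) (l41) (t44) (l45) (t46) (t47) (l48) (l49) (t51) (l52) (t53) (l54) (l55) (t60) (t63) (t65) (l66) (t69)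 (t70) (t71)) := by
  by_cases h46 : t46 = 0
  swap
  · exact C46 d h46 hm hs
  subst h46
  by_cases h39 : t39 = 0
  swap
  · exact C39 d h39 hm hs
  subst h39
  by_cases h37 : l37 = 0
  swap
  · exact C37 d h37 hm hs
  subst h37
  by_cases h36 : l36 = 0
  swap
  · exact C36 d h36 hm hs
  subst h36
  by_cases h38 : l38 = 0
  swap
  · exact C38 d h38 hm hs
  subst h38
  by_cases h40 : l40 = 0
  swap
  · exact C40 d h40 hm hs
  subst h40
  by_cases h47 : t47 = 0
  swap
  · exact C47 d h47 hm hs
  subst h47
  by_cases h41 : l41 = 0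
  swap
  · exact C41 d h41 hm hs
  subst h41
  by_cases h44 : t44 = 0
  swap
  · exact C44 d h44 hm hs
  subst h44
  by_cases h48 : l48 = 0
  swap
  · exact C48 d h48 hm hs
  subst h48
  by_cases h45 : l45 = 0
  swap
  · exact C45 d h45 hm hs
  subst h45
  by_cases h49 : l49 = 0
  swap
  · exact C49 d h49 hm hs
  subst h49
  by_cases h51 : t51 = 0
  swap
  · exact C51 d h51 hm hs
  subst h51
  by_cases h52 : l52 = 0
  swap
  · exact C52 d h52 hm hs
  subst h52
  by_cases h53 : t53 = 0
  swap
  · exact C53 d h53 hm hs
  subst h53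
  by_cases h60 : t60 = 0
  swap
  · exact C60 d h60 hm hs
  subst h60
  by_cases h54 : l54 = 0
  swap
  · exact C54 d h54 hm hs
  subst h54
  by_cases h63 : t63 = 0
  swap
  · exact C63 d h63 hm hs
  subst h63
  by_cases h55 : l55 = 0
  swap
  · exact C55 d h55 hm hs
  subst h55
  exact W65 d hp65 hm hs

theorem nE_W66 {l66 t69 t70 t71 : K} (hff : ∀ t, f (f t) = t) (it69 : f t69 = t69) (it70 : f t70 = t70) (it71 : f t71 = t71) :
    nR [3] * E f 0 0 0 0 0 0 0 0 0 0 0 0 0 0 0 0 0 0 0 0 (l66) (t69) (t70) (t71) * (nR [3])⁻¹ = E f 0 0 0 0 0 0 0 0 0 0 0 0 0 0 0 0 (l66) 0 0 0 0 (t69) (t70) (t71) := by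
  have h2 : (2 : K) = 0 := CharTwo.two_eq_zero
  have c66 := fun t : K => nR_at (l := [3]) (s := 66) (m := 55) (by decide +kernel) t
  have c68 := fun t : K => nR_at (l := [3]) (s := 68) (m := 67) (by decide +kernel) t
  have c69 := fun t : K => nR_at (l := [3]) (s := 69) (m := 69) (by decide +kernel) t
  have c70 := fun t : K => nR_at (l := [3]) (s := 70) (m := 70) (by decide +kernel) t
  have c71 := fun t : K => nR_at (l := [3]) (s := 71) (m := 71) (by decide +kernel) t
  unfold E
  rw [conj_W]
  simp only [map_zero, zero_mul, mul_zero, add_zero, zero_add, conj_x0, one_mul, c66, c68, c69, c70, c71]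
  rw [← W_zero (K := K)]
  simp only [xW_55, xW_67, xW_69, xW_70, xW_71, zero_mul, mul_zero, add_zero, zero_add]
  first
    | done
    | apply W_congr
      · (try simp only [map_add, map_mul, map_pow, map_zero, map_one, hff, it69, it70, it71]) <;> linear_combination (0 : K) * h2
      · (try simp only [map_add, map_mul, map_pow, map_zero, map_one, hff, it69, it70, it71]) <;> linear_combination (0 : K) * h2
      · (try simp only [map_add, map_mul, map_pow, map_zero, map_one, hff, it69, it70, it71]) <;> linear_combination (0 : K) * h2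
      · (try simp only [map_add, map_mul, map_pow, map_zero, map_one, hff, it69, it70, it71]) <;> linear_combination (0 : K) * h2
      · (try simp only [map_add, map_mul, map_pow, map_zero, map_one, hff, it69, it70, it71]) <;> linear_combination (0 : K) * h2
      · (try simp only [map_add, map_mul, map_pow, map_zero, map_one, hff, it69, it70, it71]) <;> linear_combination (0 : K) * h2
      · (try simp only [map_add, map_mul, map_pow, map_zero, map_one, hff, it69, it70, it71]) <;> linear_combination (0 : K) * h2
      · (try simp only [map_add, map_mul, map_pow, map_zero, map_one, hff, it69, it70, it71]) <;> linear_combination (0 : K) * h2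
      · (try simp only [map_add, map_mul, map_pow, map_zero, map_one, hff, it69, it70, it71]) <;> linear_combination (0 : K) * h2
      · (try simp only [map_add, map_mul, map_pow, map_zero, map_one, hff, it69, it70, it71]) <;> linear_combination (0 : K) * h2
      · (try simp only [map_add, map_mul, map_pow, map_zero, map_one, hff, it69, it70, it71]) <;> linear_combination (0 : K) * h2
      · (try simp only [map_add, map_mul, map_pow, map_zero, map_one, hff, it69, it70, it71]) <;> linear_combination (0 : K) * h2
      · (try simp only [map_add, map_mul, map_pow, map_zero, map_one, hff, it69, it70, it71]) <;> linear_combination (0 : K) * h2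
      · (try simp only [map_add, map_mul, map_pow, map_zero, map_one, hff, it69, it70, it71]) <;> linear_combination (0 : K) * h2
      · (try simp only [map_add, map_mul, map_pow, map_zero, map_one, hff, it69, it70, it71]) <;> linear_combination (0 : K) * h2
      · (try simp only [map_add, map_mul, map_pow, map_zero, map_one, hff, it69, it70, it71]) <;> linear_combination (0 : K) * h2
      · (try simp only [map_add, map_mul, map_pow, map_zero, map_one, hff, it69, it70, it71]) <;> linear_combination (0 : K) * h2
      · (try simp only [map_add, map_mul, map_pow, map_zero, map_one, hff, it69, it70, it71]) <;> linear_combination (0 : K) * h2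
      · (try simp only [map_add, map_mul, map_pow, map_zero, map_one, hff, it69, it70, it71]) <;> linear_combination (0 : K) * h2
      · (try simp only [map_add, map_mul, map_pow, map_zero, map_one, hff, it69, it70, it71]) <;> linear_combination (0 : K) * h2
      · (try simp only [map_add, map_mul, map_pow, map_zero, map_one, hff, it69, it70, it71]) <;> linear_combination (0 : K) * h2
      · (try simp only [map_add, map_mul, map_pow, map_zero, map_one, hff, it69, it70, it71]) <;> linear_combination (0 : K) * h2
      · (try simp only [map_add, map_mul, map_pow, map_zero, map_one, hff, it69, it70, it71]) <;> linear_combination (0 : K) * h2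
      · (try simp only [map_add, map_mul, map_pow, map_zero, map_one, hff, it69, it70, it71]) <;> linear_combination (0 : K) * h2
      · (try simp only [map_add, map_mul, map_pow, map_zero, map_one, hff, it69, it70, it71]) <;> linear_combination (0 : K) * h2
      · (try simp only [map_add, map_mul, map_pow, map_zero, map_one, hff, it69, it70, it71]) <;> linear_combination (0 : K) * h2
      · (try simp only [map_add, map_mul, map_pow, map_zero, map_one, hff, it69, it70, it71]) <;> linear_combination (0 : K) * h2
      · (try simp only [map_add, map_mul, map_pow, map_zero, map_one, hff, it69, it70, it71]) <;> linear_combination (0 : K) * h2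
      · (try simp only [map_add, map_mul, map_pow, map_zero, map_one, hff, it69, it70, it71]) <;> linear_combination (0 : K) * h2
      · (try simp only [map_add, map_mul, map_pow, map_zero, map_one, hff, it69, it70, it71]) <;> linear_combination (0 : K) * h2
      · (try simp only [map_add, map_mul, map_pow, map_zero, map_one, hff, it69, it70, it71]) <;> linear_combination (0 : K) * h2
      · (try simp only [map_add, map_mul, map_pow, map_zero, map_one, hff, it69, it70, it71]) <;> linear_combination (0 : K) * h2
      · (try simp only [map_add, map_mul, map_pow, map_zero, map_one, hff, it69, it70, it71]) <;> linear_combination (0 : K) * h2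
      · (try simp only [map_add, map_mul, map_pow, map_zero, map_one, hff, it69, it70, it71]) <;> linear_combination (0 : K) * h2
      · (try simp only [map_add, map_mul, map_pow, map_zero, map_one, hff, it69, it70, it71]) <;> linear_combination (0 : K) * h2
      · (try simp only [map_add, map_mul, map_pow, map_zero, map_one, hff, it69, it70, it71]) <;> linear_combination (0 : K) * h2

theorem W66_1 {l55 t69 t70 t71 : K} (d : Dt f) (hp55 : l55 ≠ 0) (hm : E f 0 0 0 0 0 0 0 0 0 0 0 0 0 0 0 0 (l55) 0 0 0 0 (t69) (t70) (t71) ∈ (sc f).G1) (hs : E f 0 0 0 0 0 0 0 0 0 0 0 0 0 0 0 0 (l55) 0 0 0 0 (t69) (t70) (t71) * E f 0 0 0 0 0 0 0 0 0 0 0 0 0 0 0 0 (l55) 0 0 0 0 (t69) (t70) (t71) = 1) : Res f (E f 0 0 0 0 0 0 0 0 0 0 0 0 0 0 0 0 (l55) 0 0 0 0 (t69) (t70) (t71)) := by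
  exact C55 d hp55 hm hs

theorem W66 {l66 t69 t70 t71 : K} (d : Dt f) (hp66 : l66 ≠ 0) (hm : E f 0 0 0 0 0 0 0 0 0 0 0 0 0 0 0 0 0 0 0 0 (l66) (t69) (t70) (t71) ∈ (sc f).G1) (hs : E f 0 0 0 0 0 0 0 0 0 0 0 0 0 0 0 0 0 0 0 0 (l66) (t69) (t70) (t71) * E f 0 0 0 0 0 0 0 0 0 0 0 0 0 0 0 0 0 0 0 0 (l66) (t69) (t70) (t71) = 1) : Res f (E f 0 0 0 0 0 0 0 0 0 0 0 0 0 0 0 0 0 0 0 0 (l66) (t69) (t70) (t71)) := by
  obtain ⟨it39, it44, it46, it47, it51, it53, it60, it63, it65, it69, it70, it71⟩ := inv_of_mem d hm
  have c : Cj f (E f 0 0 0 0 0 0 0 0 0 0 0 0 0 0 0 0 0 0 0 0 (l66) (t69) (t70) (t71)) (E f 0 0 0 0 0 0 0 0 0 0 0 0 0 0 0 0 (l66) 0 0 0 0 (t69) (t70) (t71)) := cjN f (nR_mem f [3]) (nE_W66 d.hff it69 it70 it71)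
  exact Res.of_cj f c (W66_1 d hp66 (c.mem f hm) (c.sq f hs))

theorem C66 {l36 l37 l38 l40 l41 l45 l48 l49 l52 l54 l55 l66 t39 t44 t46 t47 t51 t53 t60 t63 t65 t69 t70 t71 : K} (d : Dt f) (hp66 : l66 ≠ 0) (hm : E f (l36) (l37) (l38) (t39) (l40) (l41) (t44) (l45) (t46) (t47) (l48) (l49) (t51) (l52) (t53) (l54) (l55) (t60) (t63) (t65) (l66) (t69) (t70) (t71) ∈ (sc f).G1) (hs : E f (l36) (l37) (l38) (t39) (l40) (l41) (t44) (l45) (t46) (t47) (l48) (l49) (t51) (l52) (t53) (l54) (l55) (t60) (t63) (t65) (l66) (t69) (t70) (t71) * E f (l36) (l37) (l38) (t39) (l40) (l41) (t44) (l45) (t46) (t47) (l48) (l49) (t51) (l52) (t53) (l54) (l55) (t60) (t63) (t65) (l66) (t69) (t70) (t71) = 1) : Res f (E f (l36) (l37) (l38) (t39) (l40) (l41) (t44) (l45) (t46) (t47) (l48) (l49) (t51) (l52) (t53) (l54) (l55) (t60) (t63) (t65) (l66) (t69) (t70) (t71)) := by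
  by_cases h46 : t46 = 0
  swap
  · exact C46 d h46 hm hs
  subst h46
  by_cases h39 : t39 = 0
  swap
  · exact C39 d h39 hm hs
  subst h39
  by_cases h37 : l37 = 0
  swap
  · exact C37 d h37 hm hs
  subst h37
  by_cases h36 : l36 = 0
  swap
  · exact C36 d h36 hm hs
  subst h36
  by_cases h38 : l38 = 0
  swap
  · exact C38 d h38 hm hs
  subst h38
  by_cases h40 : l40 = 0
  swap
  · exact C40 d h40 hm hs
  subst h40
  by_cases h47 : t47 = 0
  swap
  · exact C47 d h47 hm hs
  subst h47
  by_cases h41 : l41 = 0
  swap
  · exact C41 d h41 hm hs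
  subst h41
  by_cases h44 : t44 = 0
  swap
  · exact C44 d h44 hm hs
  subst h44
  by_cases h48 : l48 = 0
  swap
  · exact C48 d h48 hm hs
  subst h48
  by_cases h45 : l45 = 0
  swap
  · exact C45 d h45 hm hs
  subst h45
  by_cases h49 : l49 = 0
  swap
  · exact C49 d h49 hm hs
  subst h49
  by_cases h51 : t51 = 0
  swap
  · exact C51 d h51 hm hs
  subst h51
  by_cases h52 : l52 = 0
  swap
  · exact C52 d h52 hm hs
  subst h52
  by_cases h53 : t53 = 0
  swap
  · exact C53 d h53 hm hs
  subst h53
  by_cases h60 : t60 = 0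
  swap
  · exact C60 d h60 hm hs
  subst h60
  by_cases h54 : l54 = 0
  swap
  · exact C54 d h54 hm hs
  subst h54
  by_cases h63 : t63 = 0
  swap
  · exact C63 d h63 hm hs
  subst h63
  by_cases h55 : l55 = 0
  swap
  · exact C55 d h55 hm hs
  subst h55
  by_cases h65 : t65 = 0
  swap
  · exact C65 d h65 hm hs
  subst h65
  exact W66 d hp66 hm hs

theorem nE_W69 {t69 t70 t71 : K} (hff : ∀ t, f (f t) = t) (it69 : f t69 = t69) (it70 : f t70 = t70) (it71 : f t71 = t71) :
    nR [2] * E f 0 0 0 0 0 0 0 0 0 0 0 0 0 0 0 0 0 0 0 0 0 (t69) (t70) (t71) * (nR [2])⁻¹ = E f 0 0 0 0 0 0 0 0 0 0 0 0 0 0 0 0 0 0 0 (t69) 0 0 (t70) (t71) := by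
  have h2 : (2 : K) = 0 := CharTwo.two_eq_zero
  have c69 := fun t : K => nR_at (l := [2]) (s := 69) (m := 65) (by decide +kernel) t
  have c70 := fun t : K => nR_at (l := [2]) (s := 70) (m := 70) (by decide +kernel) t
  have c71 := fun t : K => nR_at (l := [2]) (s := 71) (m := 71) (by decide +kernel) t
  unfold E
  rw [conj_W]
  simp only [map_zero, zero_mul, mul_zero, add_zero, zero_add, conj_x0, one_mul, c69, c70, c71]
  rw [← W_zero (K := K)]
  simp only [xW_65, xW_70, xW_71, zero_mul, mul_zero, add_zero, zero_add]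
  first
    | done
    | apply W_congr
      · (try simp only [map_add, map_mul, map_pow, map_zero, map_one, hff, it69, it70, it71]) <;> linear_combination (0 : K) * h2
      · (try simp only [map_add, map_mul, map_pow, map_zero, map_one, hff, it69, it70, it71]) <;> linear_combination (0 : K) * h2
      · (try simp only [map_add, map_mul, map_pow, map_zero, map_one, hff, it69, it70, it71]) <;> linear_combination (0 : K) * h2
      · (try simp only [map_add, map_mul, map_pow, map_zero, map_one, hff, it69, it70, it71]) <;> linear_combination (0 : K) * h2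
      · (try simp only [map_add, map_mul, map_pow, map_zero, map_one, hff, it69, it70, it71]) <;> linear_combination (0 : K) * h2
      · (try simp only [map_add, map_mul, map_pow, map_zero, map_one, hff, it69, it70, it71]) <;> linear_combination (0 : K) * h2
      · (try simp only [map_add, map_mul, map_pow, map_zero, map_one, hff, it69, it70, it71]) <;> linear_combination (0 : K) * h2
      · (try simp only [map_add, map_mul, map_pow, map_zero, map_one, hff, it69, it70, it71]) <;> linear_combination (0 : K) * h2
      · (try simp only [map_add, map_mul, map_pow, map_zero, map_one, hff, it69, it70, it71]) <;> linear_combination (0 : K) * h2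
      · (try simp only [map_add, map_mul, map_pow, map_zero, map_one, hff, it69, it70, it71]) <;> linear_combination (0 : K) * h2
      · (try simp only [map_add, map_mul, map_pow, map_zero, map_one, hff, it69, it70, it71]) <;> linear_combination (0 : K) * h2
      · (try simp only [map_add, map_mul, map_pow, map_zero, map_one, hff, it69, it70, it71]) <;> linear_combination (0 : K) * h2
      · (try simp only [map_add, map_mul, map_pow, map_zero, map_one, hff, it69, it70, it71]) <;> linear_combination (0 : K) * h2
      · (try simp only [map_add, map_mul, map_pow, map_zero, map_one, hff, it69, it70, it71]) <;> linear_combination (0 : K) * h2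
      · (try simp only [map_add, map_mul, map_pow, map_zero, map_one, hff, it69, it70, it71]) <;> linear_combination (0 : K) * h2
      · (try simp only [map_add, map_mul, map_pow, map_zero, map_one, hff, it69, it70, it71]) <;> linear_combination (0 : K) * h2
      · (try simp only [map_add, map_mul, map_pow, map_zero, map_one, hff, it69, it70, it71]) <;> linear_combination (0 : K) * h2
      · (try simp only [map_add, map_mul, map_pow, map_zero, map_one, hff, it69, it70, it71]) <;> linear_combination (0 : K) * h2
      · (try simp only [map_add, map_mul, map_pow, map_zero, map_one, hff, it69, it70, it71]) <;> linear_combination (0 : K) * h2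
      · (try simp only [map_add, map_mul, map_pow, map_zero, map_one, hff, it69, it70, it71]) <;> linear_combination (0 : K) * h2
      · (try simp only [map_add, map_mul, map_pow, map_zero, map_one, hff, it69, it70, it71]) <;> linear_combination (0 : K) * h2
      · (try simp only [map_add, map_mul, map_pow, map_zero, map_one, hff, it69, it70, it71]) <;> linear_combination (0 : K) * h2
      · (try simp only [map_add, map_mul, map_pow, map_zero, map_one, hff, it69, it70, it71]) <;> linear_combination (0 : K) * h2
      · (try simp only [map_add, map_mul, map_pow, map_zero, map_one, hff, it69, it70, it71]) <;> linear_combination (0 : K) * h2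
      · (try simp only [map_add, map_mul, map_pow, map_zero, map_one, hff, it69, it70, it71]) <;> linear_combination (0 : K) * h2
      · (try simp only [map_add, map_mul, map_pow, map_zero, map_one, hff, it69, it70, it71]) <;> linear_combination (0 : K) * h2
      · (try simp only [map_add, map_mul, map_pow, map_zero, map_one, hff, it69, it70, it71]) <;> linear_combination (0 : K) * h2
      · (try simp only [map_add, map_mul, map_pow, map_zero, map_one, hff, it69, it70, it71]) <;> linear_combination (0 : K) * h2
      · (try simp only [map_add, map_mul, map_pow, map_zero, map_one, hff, it69, it70, it71]) <;> linear_combination (0 : K) * h2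
      · (try simp only [map_add, map_mul, map_pow, map_zero, map_one, hff, it69, it70, it71]) <;> linear_combination (0 : K) * h2
      · (try simp only [map_add, map_mul, map_pow, map_zero, map_one, hff, it69, it70, it71]) <;> linear_combination (0 : K) * h2
      · (try simp only [map_add, map_mul, map_pow, map_zero, map_one, hff, it69, it70, it71]) <;> linear_combination (0 : K) * h2
      · (try simp only [map_add, map_mul, map_pow, map_zero, map_one, hff, it69, it70, it71]) <;> linear_combination (0 : K) * h2
      · (try simp only [map_add, map_mul, map_pow, map_zero, map_one, hff, it69, it70, it71]) <;> linear_combination (0 : K) * h2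
      · (try simp only [map_add, map_mul, map_pow, map_zero, map_one, hff, it69, it70, it71]) <;> linear_combination (0 : K) * h2
      · (try simp only [map_add, map_mul, map_pow, map_zero, map_one, hff, it69, it70, it71]) <;> linear_combination (0 : K) * h2

theorem W69_1 {t65 t70 t71 : K} (d : Dt f) (hp65 : t65 ≠ 0) (hm : E f 0 0 0 0 0 0 0 0 0 0 0 0 0 0 0 0 0 0 0 (t65) 0 0 (t70) (t71) ∈ (sc f).G1) (hs : E f 0 0 0 0 0 0 0 0 0 0 0 0 0 0 0 0 0 0 0 (t65) 0 0 (t70) (t71) * E f 0 0 0 0 0 0 0 0 0 0 0 0 0 0 0 0 0 0 0 (t65) 0 0 (t70) (t71) = 1) : Res f (E f 0 0 0 0 0 0 0 0 0 0 0 0 0 0 0 0 0 0 0 (t65) 0 0 (t70) (t71)) := by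
  exact C65 d hp65 hm hs

theorem W69 {t69 t70 t71 : K} (d : Dt f) (hp69 : t69 ≠ 0) (hm : E f 0 0 0 0 0 0 0 0 0 0 0 0 0 0 0 0 0 0 0 0 0 (t69) (t70) (t71) ∈ (sc f).G1) (hs : E f 0 0 0 0 0 0 0 0 0 0 0 0 0 0 0 0 0 0 0 0 0 (t69) (t70) (t71) * E f 0 0 0 0 0 0 0 0 0 0 0 0 0 0 0 0 0 0 0 0 0 (t69) (t70) (t71) = 1) : Res f (E f 0 0 0 0 0 0 0 0 0 0 0 0 0 0 0 0 0 0 0 0 0 (t69) (t70) (t71)) := by
  obtain ⟨it39, it44, it46, it47, it51, it53, it60, it63, it65, it69, it70, it71⟩ := inv_of_mem d hm
  have c : Cj f (E f 0 0 0 0 0 0 0 0 0 0 0 0 0 0 0 0 0 0 0 0 0 (t69) (t70) (t71)) (E f 0 0 0 0 0 0 0 0 0 0 0 0 0 0 0 0 0 0 0 (t69) 0 0 (t70) (t71)) := cjN f (nR_mem f [2]) (nE_W69 d.hff it69 it70 it71)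
  exact Res.of_cj f c (W69_1 d hp69 (c.mem f hm) (c.sq f hs))

theorem C69 {l36 l37 l38 l40 l41 l45 l48 l49 l52 l54 l55 l66 t39 t44 t46 t47 t51 t53 t60 t63 t65 t69 t70 t71 : K} (d : Dt f) (hp69 : t69 ≠ 0) (hm : E f (l36) (l37) (l38) (t39) (l40) (l41) (t44) (l45) (t46) (t47) (l48) (l49) (t51) (l52) (t53) (l54) (l55) (t60) (t63) (t65) (l66) (t69) (t70) (t71) ∈ (sc f).G1) (hs : E f (l36) (l37) (l38) (t39) (l40) (l41) (t44) (l45) (t46) (t47) (l48) (l49) (t51) (l52) (t53) (l54) (l55) (t60) (t63) (t65) (l66) (t69) (t70) (t71) * E f (l36) (l37) (l38) (t39) (l40) (l41) (t44) (l45) (t46) (t47) (l48) (l49) (t51) (l52) (t53) (l54) (l55) (t60) (t63) (t65) (l66) (t69) (t70) (t71) = 1) : Res f (E f (l36) (l37) (l38) (t39) (l40) (l41) (t44) (l45) (t46) (t47) (l48) (l49) (t51) (l52) (t53) (l54) (l55) (t60) (t63) (t65) (l66) (t69) (t70) (t71)) := by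
  by_cases h46 : t46 = 0
  swap
  · exact C46 d h46 hm hs
  subst h46
  by_cases h39 : t39 = 0
  swap
  · exact C39 d h39 hm hs
  subst h39
  by_cases h37 : l37 = 0
  swap
  · exact C37 d h37 hm hs
  subst h37
  by_cases h36 : l36 = 0
  swap
  · exact C36 d h36 hm hs
  subst h36
  by_cases h38 : l38 = 0
  swap
  · exact C38 d h38 hm hs
  subst h38
  by_cases h40 : l40 = 0
  swap
  · exact C40 d h40 hm hs
  subst h40
  by_cases h47 : t47 = 0
  swap
  · exact C47 d h47 hm hs
  subst h47
  by_cases h41 : l41 = 0
  swap
  · exact C41 d h41 hm hs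
  subst h41
  by_cases h44 : t44 = 0
  swap
  · exact C44 d h44 hm hs
  subst h44
  by_cases h48 : l48 = 0
  swap
  · exact C48 d h48 hm hs
  subst h48
  by_cases h45 : l45 = 0
  swap
  · exact C45 d h45 hm hs
  subst h45
  by_cases h49 : l49 = 0
  swap
  · exact C49 d h49 hm hs
  subst h49
  by_cases h51 : t51 = 0
  swap
  · exact C51 d h51 hm hs
  subst h51
  by_cases h52 : l52 = 0
  swap
  · exact C52 d h52 hm hs
  subst h52
  by_cases h53 : t53 = 0
  swap
  · exact C53 d h53 hm hs
  subst h53
  by_cases h60 : t60 = 0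
  swap
  · exact C60 d h60 hm hs
  subst h60
  by_cases h54 : l54 = 0
  swap
  · exact C54 d h54 hm hs
  subst h54
  by_cases h63 : t63 = 0
  swap
  · exact C63 d h63 hm hs
  subst h63
  by_cases h55 : l55 = 0
  swap
  · exact C55 d h55 hm hs
  subst h55
  by_cases h65 : t65 = 0
  swap
  · exact C65 d h65 hm hs
  subst h65
  by_cases h66 : l66 = 0
  swap
  · exact C66 d h66 hm hs
  subst h66
  exact W69 d hp69 hm hs

theorem nE_W70 {t70 t71 : K} (hff : ∀ t, f (f t) = t) (it70 : f t70 = t70) (it71 : f t71 = t71) :
    nR [1] * E f 0 0 0 0 0 0 0 0 0 0 0 0 0 0 0 0 0 0 0 0 0 0 (t70) (t71) * (nR [1])⁻¹ = E f 0 0 0 0 0 0 0 0 0 0 0 0 0 0 0 0 0 0 0 0 0 (t70) 0 (t71) := by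
  have h2 : (2 : K) = 0 := CharTwo.two_eq_zero
  have c70 := fun t : K => nR_at (l := [1]) (s := 70) (m := 69) (by decide +kernel) t
  have c71 := fun t : K => nR_at (l := [1]) (s := 71) (m := 71) (by decide +kernel) t
  unfold E
  rw [conj_W]
  simp only [map_zero, zero_mul, mul_zero, add_zero, zero_add, conj_x0, one_mul, c70, c71]
  rw [← W_zero (K := K)]
  simp only [xW_69, xW_71, zero_mul, mul_zero, add_zero, zero_add]
  first
    | done
    | apply W_congr
      · (try simp only [map_add, map_mul, map_pow, map_zero, map_one, hff, it70, it71]) <;> linear_combination (0 : K) * h2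
      · (try simp only [map_add, map_mul, map_pow, map_zero, map_one, hff, it70, it71]) <;> linear_combination (0 : K) * h2
      · (try simp only [map_add, map_mul, map_pow, map_zero, map_one, hff, it70, it71]) <;> linear_combination (0 : K) * h2
      · (try simp only [map_add, map_mul, map_pow, map_zero, map_one, hff, it70, it71]) <;> linear_combination (0 : K) * h2
      · (try simp only [map_add, map_mul, map_pow, map_zero, map_one, hff, it70, it71]) <;> linear_combination (0 : K) * h2
      · (try simp only [map_add, map_mul, map_pow, map_zero, map_one, hff, it70, it71]) <;> linear_combination (0 : K) * h2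
      · (try simp only [map_add, map_mul, map_pow, map_zero, map_one, hff, it70, it71]) <;> linear_combination (0 : K) * h2
      · (try simp only [map_add, map_mul, map_pow, map_zero, map_one, hff, it70, it71]) <;> linear_combination (0 : K) * h2
      · (try simp only [map_add, map_mul, map_pow, map_zero, map_one, hff, it70, it71]) <;> linear_combination (0 : K) * h2
      · (try simp only [map_add, map_mul, map_pow, map_zero, map_one, hff, it70, it71]) <;> linear_combination (0 : K) * h2
      · (try simp only [map_add, map_mul, map_pow, map_zero, map_one, hff, it70, it71]) <;> linear_combination (0 : K) * h2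
      · (try simp only [map_add, map_mul, map_pow, map_zero, map_one, hff, it70, it71]) <;> linear_combination (0 : K) * h2
      · (try simp only [map_add, map_mul, map_pow, map_zero, map_one, hff, it70, it71]) <;> linear_combination (0 : K) * h2
      · (try simp only [map_add, map_mul, map_pow, map_zero, map_one, hff, it70, it71]) <;> linear_combination (0 : K) * h2
      · (try simp only [map_add, map_mul, map_pow, map_zero, map_one, hff, it70, it71]) <;> linear_combination (0 : K) * h2
      · (try simp only [map_add, map_mul, map_pow, map_zero, map_one, hff, it70, it71]) <;> linear_combination (0 : K) * h2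
      · (try simp only [map_add, map_mul, map_pow, map_zero, map_one, hff, it70, it71]) <;> linear_combination (0 : K) * h2
      · (try simp only [map_add, map_mul, map_pow, map_zero, map_one, hff, it70, it71]) <;> linear_combination (0 : K) * h2
      · (try simp only [map_add, map_mul, map_pow, map_zero, map_one, hff, it70, it71]) <;> linear_combination (0 : K) * h2
      · (try simp only [map_add, map_mul, map_pow, map_zero, map_one, hff, it70, it71]) <;> linear_combination (0 : K) * h2
      · (try simp only [map_add, map_mul, map_pow, map_zero, map_one, hff, it70, it71]) <;> linear_combination (0 : K) * h2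
      · (try simp only [map_add, map_mul, map_pow, map_zero, map_one, hff, it70, it71]) <;> linear_combination (0 : K) * h2
      · (try simp only [map_add, map_mul, map_pow, map_zero, map_one, hff, it70, it71]) <;> linear_combination (0 : K) * h2
      · (try simp only [map_add, map_mul, map_pow, map_zero, map_one, hff, it70, it71]) <;> linear_combination (0 : K) * h2
      · (try simp only [map_add, map_mul, map_pow, map_zero, map_one, hff, it70, it71]) <;> linear_combination (0 : K) * h2
      · (try simp only [map_add, map_mul, map_pow, map_zero, map_one, hff, it70, it71]) <;> linear_combination (0 : K) * h2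
      · (try simp only [map_add, map_mul, map_pow, map_zero, map_one, hff, it70, it71]) <;> linear_combination (0 : K) * h2
      · (try simp only [map_add, map_mul, map_pow, map_zero, map_one, hff, it70, it71]) <;> linear_combination (0 : K) * h2
      · (try simp only [map_add, map_mul, map_pow, map_zero, map_one, hff, it70, it71]) <;> linear_combination (0 : K) * h2
      · (try simp only [map_add, map_mul, map_pow, map_zero, map_one, hff, it70, it71]) <;> linear_combination (0 : K) * h2
      · (try simp only [map_add, map_mul, map_pow, map_zero, map_one, hff, it70, it71]) <;> linear_combination (0 : K) * h2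
      · (try simp only [map_add, map_mul, map_pow, map_zero, map_one, hff, it70, it71]) <;> linear_combination (0 : K) * h2
      · (try simp only [map_add, map_mul, map_pow, map_zero, map_one, hff, it70, it71]) <;> linear_combination (0 : K) * h2
      · (try simp only [map_add, map_mul, map_pow, map_zero, map_one, hff, it70, it71]) <;> linear_combination (0 : K) * h2
      · (try simp only [map_add, map_mul, map_pow, map_zero, map_one, hff, it70, it71]) <;> linear_combination (0 : K) * h2
      · (try simp only [map_add, map_mul, map_pow, map_zero, map_one, hff, it70, it71]) <;> linear_combination (0 : K) * h2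

theorem W70_1 {t69 t71 : K} (d : Dt f) (hp69 : t69 ≠ 0) (hm : E f 0 0 0 0 0 0 0 0 0 0 0 0 0 0 0 0 0 0 0 0 0 (t69) 0 (t71) ∈ (sc f).G1) (hs : E f 0 0 0 0 0 0 0 0 0 0 0 0 0 0 0 0 0 0 0 0 0 (t69) 0 (t71) * E f 0 0 0 0 0 0 0 0 0 0 0 0 0 0 0 0 0 0 0 0 0 (t69) 0 (t71) = 1) : Res f (E f 0 0 0 0 0 0 0 0 0 0 0 0 0 0 0 0 0 0 0 0 0 (t69) 0 (t71)) := by
  exact C69 d hp69 hm hs

theorem W70 {t70 t71 : K} (d : Dt f) (hp70 : t70 ≠ 0) (hm : E f 0 0 0 0 0 0 0 0 0 0 0 0 0 0 0 0 0 0 0 0 0 0 (t70) (t71) ∈ (sc f).G1) (hs : E f 0 0 0 0 0 0 0 0 0 0 0 0 0 0 0 0 0 0 0 0 0 0 (t70) (t71) * E f 0 0 0 0 0 0 0 0 0 0 0 0 0 0 0 0 0 0 0 0 0 0 (t70) (t71) = 1) : Res f (E f 0 0 0 0 0 0 0 0 0 0 0 0 0 0 0 0 0 0 0 0 0 0 (t70) (t71)) := by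
  obtain ⟨it39, it44, it46, it47, it51, it53, it60, it63, it65, it69, it70, it71⟩ := inv_of_mem d hm
  have c : Cj f (E f 0 0 0 0 0 0 0 0 0 0 0 0 0 0 0 0 0 0 0 0 0 0 (t70) (t71)) (E f 0 0 0 0 0 0 0 0 0 0 0 0 0 0 0 0 0 0 0 0 0 (t70) 0 (t71)) := cjN f (nR_mem f [1]) (nE_W70 d.hff it70 it71)
  exact Res.of_cj f c (W70_1 d hp70 (c.mem f hm) (c.sq f hs))

theorem C70 {l36 l37 l38 l40 l41 l45 l48 l49 l52 l54 l55 l66 t39 t44 t46 t47 t51 t53 t60 t63 t65 t69 t70 t71 : K} (d : Dt f) (hp70 : t70 ≠ 0) (hm : E f (l36) (l37) (l38) (t39) (l40) (l41) (t44) (l45) (t46) (t47) (l48) (l49) (t51) (l52) (t53) (l54) (l55) (t60) (t63) (t65) (l66) (t69) (t70) (t71) ∈ (sc f).G1) (hs : E f (l36) (l37) (l38) (t39) (l40) (l41) (t44) (l45) (t46) (t47) (l48) (l49) (t51) (l52) (t53) (l54) (l55) (t60) (t63) (t65) (l66) (t69) (t70) (t71) * E f (l36) (l37) (l38) (t39) (l40) (l41) (t44) (l45) (t46) (t47) (l48) (l49) (t51) (l52) (t53) (l54) (l55) (t60) (t63) (t65) (l66) (t69) (t70) (t71) = 1) : Res f (E f (l36) (l37) (l38) (t39) (l40) (l41) (t44) (l45) (t46) (t47) (l48)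 (l49) (t51) (l52) (t53) (l54) (l55) (t60) (t63) (t65) (l66) (t69) (t70) (t71)) := by
  by_cases h46 : t46 = 0
  swap
  · exact C46 d h46 hm hs
  subst h46
  by_cases h39 : t39 = 0
  swap
  · exact C39 d h39 hm hs
  subst h39
  by_cases h37 : l37 = 0
  swap
  · exact C37 d h37 hm hs
  subst h37
  by_cases h36 : l36 = 0
  swap
  · exact C36 d h36 hm hs
  subst h36
  by_cases h38 : l38 = 0
  swap
  · exact C38 d h38 hm hs
  subst h38
  by_cases h40 : l40 = 0
  swap
  · exact C40 d h40 hm hs
  subst h40
  by_cases h47 : t47 = 0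
  swap
  · exact C47 d h47 hm hs
  subst h47
  by_cases h41 : l41 = 0
  swap
  · exact C41 d h41 hm hs
  subst h41
  by_cases h44 : t44 = 0
  swap
  · exact C44 d h44 hm hs
  subst h44
  by_cases h48 : l48 = 0
  swap
  · exact C48 d h48 hm hs
  subst h48
  by_cases h45 : l45 = 0
  swap
  · exact C45 d h45 hm hs
  subst h45
  by_cases h49 : l49 = 0
  swap
  · exact C49 d h49 hm hs
  subst h49
  by_cases h51 : t51 = 0
  swap
  · exact C51 d h51 hm hs
  subst h51
  by_cases h52 : l52 = 0
  swap
  · exact C52 d h52 hm hs
  subst h52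
  by_cases h53 : t53 = 0
  swap
  · exact C53 d h53 hm hs
  subst h53
  by_cases h60 : t60 = 0
  swap
  · exact C60 d h60 hm hs
  subst h60
  by_cases h54 : l54 = 0
  swap
  · exact C54 d h54 hm hs
  subst h54
  by_cases h63 : t63 = 0
  swap
  · exact C63 d h63 hm hs
  subst h63
  by_cases h55 : l55 = 0
  swap
  · exact C55 d h55 hm hs
  subst h55
  by_cases h65 : t65 = 0
  swap
  · exact C65 d h65 hm hs
  subst h65
  by_cases h66 : l66 = 0
  swap
  · exact C66 d h66 hm hs
  subst h66
  by_cases h69 : t69 = 0
  swap
  · exact C69 d h69 hm hs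
  subst h69
  exact W70 d hp70 hm hs

theorem nE_W71 {t71 : K} (hff : ∀ t, f (f t) = t) (it71 : f t71 = t71) :
    nR [0] * E f 0 0 0 0 0 0 0 0 0 0 0 0 0 0 0 0 0 0 0 0 0 0 0 (t71) * (nR [0])⁻¹ = E f 0 0 0 0 0 0 0 0 0 0 0 0 0 0 0 0 0 0 0 0 0 0 (t71) 0 := by
  have h2 : (2 : K) = 0 := CharTwo.two_eq_zero
  have c71 := fun t : K => nR_at (l := [0]) (s := 71) (m := 70) (by decide +kernel) t
  unfold E
  rw [conj_W]
  simp only [map_zero, zero_mul, mul_zero, add_zero, zero_add, conj_x0, one_mul, c71]
  rw [← W_zero (K := K)]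
  simp only [xW_70, zero_mul, mul_zero, add_zero, zero_add]
  first
    | done
    | apply W_congr
      · (try simp only [map_add, map_mul, map_pow, map_zero, map_one, hff, it71]) <;> linear_combination (0 : K) * h2
      · (try simp only [map_add, map_mul, map_pow, map_zero, map_one, hff, it71]) <;> linear_combination (0 : K) * h2
      · (try simp only [map_add, map_mul, map_pow, map_zero, map_one, hff, it71]) <;> linear_combination (0 : K) * h2
      · (try simp only [map_add, map_mul, map_pow, map_zero, map_one, hff, it71]) <;> linear_combination (0 : K) * h2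
      · (try simp only [map_add, map_mul, map_pow, map_zero, map_one, hff, it71]) <;> linear_combination (0 : K) * h2
      · (try simp only [map_add, map_mul, map_pow, map_zero, map_one, hff, it71]) <;> linear_combination (0 : K) * h2
      · (try simp only [map_add, map_mul, map_pow, map_zero, map_one, hff, it71]) <;> linear_combination (0 : K) * h2
      · (try simp only [map_add, map_mul, map_pow, map_zero, map_one, hff, it71]) <;> linear_combination (0 : K) * h2
      · (try simp only [map_add, map_mul, map_pow, map_zero, map_one, hff, it71]) <;> linear_combination (0 : K) * h2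
      · (try simp only [map_add, map_mul, map_pow, map_zero, map_one, hff, it71]) <;> linear_combination (0 : K) * h2
      · (try simp only [map_add, map_mul, map_pow, map_zero, map_one, hff, it71]) <;> linear_combination (0 : K) * h2
      · (try simp only [map_add, map_mul, map_pow, map_zero, map_one, hff, it71]) <;> linear_combination (0 : K) * h2
      · (try simp only [map_add, map_mul, map_pow, map_zero, map_one, hff, it71]) <;> linear_combination (0 : K) * h2
      · (try simp only [map_add, map_mul, map_pow, map_zero, map_one, hff, it71]) <;> linear_combination (0 : K) * h2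
      · (try simp only [map_add, map_mul, map_pow, map_zero, map_one, hff, it71]) <;> linear_combination (0 : K) * h2
      · (try simp only [map_add, map_mul, map_pow, map_zero, map_one, hff, it71]) <;> linear_combination (0 : K) * h2
      · (try simp only [map_add, map_mul, map_pow, map_zero, map_one, hff, it71]) <;> linear_combination (0 : K) * h2
      · (try simp only [map_add, map_mul, map_pow, map_zero, map_one, hff, it71]) <;> linear_combination (0 : K) * h2
      · (try simp only [map_add, map_mul, map_pow, map_zero, map_one, hff, it71]) <;> linear_combination (0 : K) * h2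
      · (try simp only [map_add, map_mul, map_pow, map_zero, map_one, hff, it71]) <;> linear_combination (0 : K) * h2
      · (try simp only [map_add, map_mul, map_pow, map_zero, map_one, hff, it71]) <;> linear_combination (0 : K) * h2
      · (try simp only [map_add, map_mul, map_pow, map_zero, map_one, hff, it71]) <;> linear_combination (0 : K) * h2
      · (try simp only [map_add, map_mul, map_pow, map_zero, map_one, hff, it71]) <;> linear_combination (0 : K) * h2
      · (try simp only [map_add, map_mul, map_pow, map_zero, map_one, hff, it71]) <;> linear_combination (0 : K) * h2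
      · (try simp only [map_add, map_mul, map_pow, map_zero, map_one, hff, it71]) <;> linear_combination (0 : K) * h2
      · (try simp only [map_add, map_mul, map_pow, map_zero, map_one, hff, it71]) <;> linear_combination (0 : K) * h2
      · (try simp only [map_add, map_mul, map_pow, map_zero, map_one, hff, it71]) <;> linear_combination (0 : K) * h2
      · (try simp only [map_add, map_mul, map_pow, map_zero, map_one, hff, it71]) <;> linear_combination (0 : K) * h2
      · (try simp only [map_add, map_mul, map_pow, map_zero, map_one, hff, it71]) <;> linear_combination (0 : K) * h2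
      · (try simp only [map_add, map_mul, map_pow, map_zero, map_one, hff, it71]) <;> linear_combination (0 : K) * h2
      · (try simp only [map_add, map_mul, map_pow, map_zero, map_one, hff, it71]) <;> linear_combination (0 : K) * h2
      · (try simp only [map_add, map_mul, map_pow, map_zero, map_one, hff, it71]) <;> linear_combination (0 : K) * h2
      · (try simp only [map_add, map_mul, map_pow, map_zero, map_one, hff, it71]) <;> linear_combination (0 : K) * h2
      · (try simp only [map_add, map_mul, map_pow, map_zero, map_one, hff, it71]) <;> linear_combination (0 : K) * h2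
      · (try simp only [map_add, map_mul, map_pow, map_zero, map_one, hff, it71]) <;> linear_combination (0 : K) * h2
      · (try simp only [map_add, map_mul, map_pow, map_zero, map_one, hff, it71]) <;> linear_combination (0 : K) * h2

theorem W71_1 {t70 : K} (d : Dt f) (hp70 : t70 ≠ 0) (hm : E f 0 0 0 0 0 0 0 0 0 0 0 0 0 0 0 0 0 0 0 0 0 0 (t70) 0 ∈ (sc f).G1) (hs : E f 0 0 0 0 0 0 0 0 0 0 0 0 0 0 0 0 0 0 0 0 0 0 (t70) 0 * E f 0 0 0 0 0 0 0 0 0 0 0 0 0 0 0 0 0 0 0 0 0 0 (t70) 0 = 1) : Res f (E f 0 0 0 0 0 0 0 0 0 0 0 0 0 0 0 0 0 0 0 0 0 0 (t70) 0) := by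
  exact C70 d hp70 hm hs

theorem W71 {t71 : K} (d : Dt f) (hp71 : t71 ≠ 0) (hm : E f 0 0 0 0 0 0 0 0 0 0 0 0 0 0 0 0 0 0 0 0 0 0 0 (t71) ∈ (sc f).G1) (hs : E f 0 0 0 0 0 0 0 0 0 0 0 0 0 0 0 0 0 0 0 0 0 0 0 (t71) * E f 0 0 0 0 0 0 0 0 0 0 0 0 0 0 0 0 0 0 0 0 0 0 0 (t71) = 1) : Res f (E f 0 0 0 0 0 0 0 0 0 0 0 0 0 0 0 0 0 0 0 0 0 0 0 (t71)) := by
  obtain ⟨it39, it44, it46, it47, it51, it53, it60, it63, it65, it69, it70, it71⟩ := inv_of_mem d hm
  have c : Cj f (E f 0 0 0 0 0 0 0 0 0 0 0 0 0 0 0 0 0 0 0 0 0 0 0 (t71)) (E f 0 0 0 0 0 0 0 0 0 0 0 0 0 0 0 0 0 0 0 0 0 0 (t71) 0) := cjN f (nR_mem f [0]) (nE_W71 d.hff it71)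
  exact Res.of_cj f c (W71_1 d hp71 (c.mem f hm) (c.sq f hs))

theorem C71 {l36 l37 l38 l40 l41 l45 l48 l49 l52 l54 l55 l66 t39 t44 t46 t47 t51 t53 t60 t63 t65 t69 t70 t71 : K} (d : Dt f) (hp71 : t71 ≠ 0) (hm : E f (l36) (l37) (l38) (t39) (l40) (l41) (t44) (l45) (t46) (t47) (l48) (l49) (t51) (l52) (t53) (l54) (l55) (t60) (t63) (t65) (l66) (t69) (t70) (t71) ∈ (sc f).G1) (hs : E f (l36) (l37) (l38) (t39) (l40) (l41) (t44) (l45) (t46) (t47) (l48) (l49) (t51) (l52) (t53) (l54) (l55) (t60) (t63) (t65) (l66) (t69) (t70) (t71) * E f (l36) (l37) (l38) (t39) (l40) (l41) (t44) (l45) (t46) (t47) (l48) (l49) (t51) (l52) (t53) (l54) (l55) (t60) (t63) (t65) (l66) (t69) (t70) (t71) = 1) : Res f (E f (l36) (l37) (l38) (t39) (l40) (l41) (t44) (l45) (t46) (t47) (l48) (l49) (t51) (l52) (t53) (l54) (l55) (t60) (t63) (t65) (l66) (t69) (t70) (t71)) := by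
  by_cases h46 : t46 = 0
  swap
  · exact C46 d h46 hm hs
  subst h46
  by_cases h39 : t39 = 0
  swap
  · exact C39 d h39 hm hs
  subst h39
  by_cases h37 : l37 = 0
  swap
  · exact C37 d h37 hm hs
  subst h37
  by_cases h36 : l36 = 0
  swap
  · exact C36 d h36 hm hs
  subst h36
  by_cases h38 : l38 = 0
  swap
  · exact C38 d h38 hm hs
  subst h38
  by_cases h40 : l40 = 0
  swap
  · exact C40 d h40 hm hs
  subst h40
  by_cases h47 : t47 = 0
  swap
  · exact C47 d h47 hm hs
  subst h47
  by_cases h41 : l41 = 0
  swap
  · exact C41 d h41 hm hs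
  subst h41
  by_cases h44 : t44 = 0
  swap
  · exact C44 d h44 hm hs
  subst h44
  by_cases h48 : l48 = 0
  swap
  · exact C48 d h48 hm hs
  subst h48
  by_cases h45 : l45 = 0
  swap
  · exact C45 d h45 hm hs
  subst h45
  by_cases h49 : l49 = 0
  swap
  · exact C49 d h49 hm hs
  subst h49
  by_cases h51 : t51 = 0
  swap
  · exact C51 d h51 hm hs
  subst h51
  by_cases h52 : l52 = 0
  swap
  · exact C52 d h52 hm hs
  subst h52
  by_cases h53 : t53 = 0
  swap
  · exact C53 d h53 hm hs
  subst h53
  by_cases h60 : t60 = 0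
  swap
  · exact C60 d h60 hm hs
  subst h60
  by_cases h54 : l54 = 0
  swap
  · exact C54 d h54 hm hs
  subst h54
  by_cases h63 : t63 = 0
  swap
  · exact C63 d h63 hm hs
  subst h63
  by_cases h55 : l55 = 0
  swap
  · exact C55 d h55 hm hs
  subst h55
  by_cases h65 : t65 = 0
  swap
  · exact C65 d h65 hm hs
  subst h65
  by_cases h66 : l66 = 0
  swap
  · exact C66 d h66 hm hs
  subst h66
  by_cases h69 : t69 = 0
  swap
  · exact C69 d h69 hm hs
  subst h69
  by_cases h70 : t70 = 0
  swap
  · exact C70 d h70 hm hs
  subst h70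
  exact W71 d hp71 hm hs

theorem reduce {l36 l37 l38 t39 l40 l41 t44 l45 t46 t47 l48 l49 t51 l52 t53 l54 l55 t60 t63 t65 l66 t69 t70 t71 : K} (d : Dt f) (hne : E f (l36) (l37) (l38) (t39) (l40) (l41) (t44) (l45) (t46) (t47) (l48) (l49) (t51) (l52) (t53) (l54) (l55) (t60) (t63) (t65) (l66) (t69) (t70) (t71) ≠ 1) (hm : E f (l36) (l37) (l38) (t39) (l40) (l41) (t44) (l45) (t46) (t47) (l48) (l49) (t51) (l52) (t53) (l54) (l55) (t60) (t63) (t65) (l66) (t69) (t70) (t71) ∈ (sc f).G1) (hs : E f (l36) (l37) (l38) (t39) (l40) (l41) (t44) (l45) (t46) (t47) (l48) (l49) (t51) (l52) (t53) (l54) (l55) (t60) (t63) (t65) (l66) (t69) (t70) (t71) * E f (l36) (l37) (l38) (t39) (l40) (l41) (t44) (l45) (t46) (t47) (l48) (l49) (t51) (l52) (t53) (l54) (l55) (t60) (t63) (t65) (l66) (t69) (t70) (t71) = 1) : Res f (E f (l36) (l37) (l38) (t39) (l40) (l41) (t44) (l45) (t46) (t47) (l48) (l49) (t51) (l52) (t53) (l54) (l55) (t60) (t63) (t65) (l66) (t69) (t70) (t71)) := by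
  by_cases h46 : t46 = 0
  swap
  · exact C46 d h46 hm hs
  subst h46
  by_cases h39 : t39 = 0
  swap
  · exact C39 d h39 hm hs
  subst h39
  by_cases h37 : l37 = 0
  swap
  · exact C37 d h37 hm hs
  subst h37
  by_cases h36 : l36 = 0
  swap
  · exact C36 d h36 hm hs
  subst h36
  by_cases h38 : l38 = 0
  swap
  · exact C38 d h38 hm hs
  subst h38
  by_cases h40 : l40 = 0
  swap
  · exact C40 d h40 hm hs
  subst h40
  by_cases h47 : t47 = 0
  swap
  · exact C47 d h47 hm hs
  subst h47
  by_cases h41 : l41 = 0
  swap
  · exact C41 d h41 hm hs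
  subst h41
  by_cases h44 : t44 = 0
  swap
  · exact C44 d h44 hm hs
  subst h44
  by_cases h48 : l48 = 0
  swap
  · exact C48 d h48 hm hs
  subst h48
  by_cases h45 : l45 = 0
  swap
  · exact C45 d h45 hm hs
  subst h45
  by_cases h49 : l49 = 0
  swap
  · exact C49 d h49 hm hs
  subst h49
  by_cases h51 : t51 = 0
  swap
  · exact C51 d h51 hm hs
  subst h51
  by_cases h52 : l52 = 0
  swap
  · exact C52 d h52 hm hs
  subst h52
  by_cases h53 : t53 = 0
  swap
  · exact C53 d h53 hm hs
  subst h53
  by_cases h60 : t60 = 0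
  swap
  · exact C60 d h60 hm hs
  subst h60
  by_cases h54 : l54 = 0
  swap
  · exact C54 d h54 hm hs
  subst h54
  by_cases h63 : t63 = 0
  swap
  · exact C63 d h63 hm hs
  subst h63
  by_cases h55 : l55 = 0
  swap
  · exact C55 d h55 hm hs
  subst h55
  by_cases h65 : t65 = 0
  swap
  · exact C65 d h65 hm hs
  subst h65
  by_cases h66 : l66 = 0
  swap
  · exact C66 d h66 hm hs
  subst h66
  by_cases h69 : t69 = 0
  swap
  · exact C69 d h69 hm hs
  subst h69
  by_cases h70 : t70 = 0
  swap
  · exact C70 d h70 hm hs
  subst h70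
  by_cases h71 : t71 = 0
  swap
  · exact C71 d h71 hm hs
  subst h71
  exact absurd (E_zero f) hne

end Cfsg.Agent.Lib.E6Inv50
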