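import Mathlib
import Cfsg.Agent.Lib.E6Rigid
import Cfsg.Agent.Lib.Chev.RelE6
import Cfsg.Agent.Lib.Chev.RootE6
import Cfsg.Agent.Lib.ChevPresTabE6
import Cfsg.Agent.Lib.ChevPresNegE6
import Cfsg.Agent.Lib.Chev.PerfectTab
import Cfsg.Agent.Lib.Chev.Simple
import Cfsg.Prelude.Def_E6

/-!
# `E₆(F)` as the isometry group of the cubic form modulo its centre
-/

set_option autoImplicit false
set_option linter.unusedSectionVars false

namespace Cfsg.Agent.Lib.E6Main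

open QuadraticMap Cfsg.Lie Cfsg.Agent.Lib.OrthoBasic Cfsg.Agent.Lib.OrthoSiegel Cfsg.Agent.Lib.OrthElim
  Cfsg.Agent.Lib.ChevRep Cfsg.Agent.Lib.Chev Cfsg.Agent.Lib.ChevOmega Cfsg.Agent.Lib.RepE6F
  Cfsg.Agent.Lib.E6Poly Cfsg.Agent.Lib.E6Data Cfsg.Agent.Lib.E6Group Cfsg.Agent.Lib.E6Trans
  Cfsg.Agent.Lib.E6Stab Cfsg.Agent.Lib.E6Rigid Cfsg.Agent.Lib.OrthoCount

variable {F : Type*} [Field F]

/-- The image of Steinberg's group is the whole isometry group. -/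
theorem rho_surj (hs : ∃ s : F, s ≠ 0 ∧ s ≠ 1) : Function.Surjective (rho F) := by
  intro g
  have key : g ∈ (rho F).range := by
    obtain ⟨h₁, hm₁, h₁e⟩ := step1 hs g
    have hg₁ : h₁ * g ∈ Stab0 F := h₁e
    obtain ⟨π', hπ', hfix⟩ := elimE hs (piE hs ⟨h₁ * g, hg₁⟩)
    obtain ⟨⟨h₂, hs₂⟩, hm₂, rfl⟩ := hπ'
    have hm₂' : h₂ ∈ (rho F).range := Subgroup.mem_subgroupOf.1 hm₂
    rw [← map_mul] at hfix
    set g₂ : Stab0 F := ⟨h₂, hs₂⟩ * ⟨h₁ * g, hg₁⟩ with hg₂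
    have h8 : ∀ c : Fin 10, c ∈ S8 → zP F (g₂.1.1 (en (17 + c))) = bb c := fun c hc => by
      rw [← piE_en hs]
      exact hfix c hc
    obtain ⟨γ, -, hγ⟩ := last_plane (piE hs g₂) hfix
    have e4 : ((piE hs g₂ : OG (cE F).Q) : (Fin 10 → F) ≃ₗ[F] (Fin 10 → F)) (bb 4) = zP F (g₂.1.1 (en 21)) :=
      piE_en hs g₂ 4
    have e9 : ((piE hs g₂ : OG (cE F).Q) : (Fin 10 → F) ≃ₗ[F] (Fin 10 → F)) (bb 9) = zP F (g₂.1.1 (en 26)) :=
      piE_en hs g₂ 9
    rw [e4, e9] at hγ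
    obtain ⟨t, ht, hU⟩ := rigid hs g₂ h8 hγ
    obtain ⟨u, hu, hU', hfx⟩ := kill_n hU 16 le_rfl
    have hone := uni_trivial hs hU' (fun w h1 h2 => hfx w (by omega) h2)
    have e : g = (u * (t * (h₂ * h₁)))⁻¹ := by
      have e1 : u * (t * (h₂ * h₁)) * g = 1 := by
        have e2 : g₂.1 = h₂ * (h₁ * g) := rfl
        rw [e2] at hone
        rw [← hone]
        group
      exact eq_inv_of_mul_eq_one_right e1
    rw [e]
    exact inv_mem (mul_mem hu (mul_mem ht (mul_mem hm₂' hm₁)))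
  exact key

theorem up1 : upR 1 < 72 ∧ rowL (upR 1) 0 = [(upA 1, 1)] ∧ upA 1 * upA 1 = 1 := up_ok 1 (by norm_num) le_rfl

/-- The isometry group is not commutative. -/
theorem rho_nc : rho F (chevE6.stGen F (upR 1) 1) * rho F (chevE6.stGen F (umR 1) 1) ≠
    rho F (chevE6.stGen F (umR 1) 1) * rho F (chevE6.stGen F (upR 1) 1) := by
  intro h
  obtain ⟨a1, a2, a3⟩ := up1
  obtain ⟨b1, b2, b3, b4, -⟩ := um_ok 1 (by norm_num) le_rfl
  have h1 := congrArg (fun k : GT F => xh (k.1 (en 0)) 0) h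
  have e0 : (rho F (chevE6.stGen F (upR 1) 1)).1 (en 0) = en 0 := by
    rw [up_en (by norm_num) le_rfl (by norm_num)]
    simp
  have h2 : xh ((rho F (chevE6.stGen F (umR 1) 1)).1 (en 0)) 0 = 1 := by
    rw [xh_rho_y b1 1 _ (by norm_num), b2, evL_nil, xh_en (by norm_num)]
    simp
  have h3 : xh ((rho F (chevE6.stGen F (umR 1) 1)).1 (en 0)) 1 = ((umA 1 : ℤ) : F) := by
    rw [xh_rho_y b1 1 _ (by norm_num), b3, evL_cons, evL_nil, xh_en (by norm_num), xh_en (by norm_num)]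
    simp
  change xh ((rho F (chevE6.stGen F (upR 1) 1)).1 ((rho F (chevE6.stGen F (umR 1) 1)).1 (en 0))) 0 =
    xh ((rho F (chevE6.stGen F (umR 1) 1)).1 ((rho F (chevE6.stGen F (upR 1) 1)).1 (en 0))) 0 at h1
  rw [e0, h2, xh_rho_y a1 1 _ (by norm_num), a2, evL_cons, evL_nil, h2, h3] at h1
  have h5 : ((upA 1 : ℤ) : F) * ((umA 1 : ℤ) : F) = 0 := by
    linear_combination h1
  rcases mul_eq_zero.1 h5 with h6 | h6
  · exact int_ne a3 h6
  · exact int_ne b4 h6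

/-! ### The coordinates -/

/-- Table of the coordinate change. -/
def sI (x : I27) : Fin 27 := (![![![0,1,2],![16,26,25],![15,20,21]],![![19,18,17],![14,12,8],![13,11,7]],![![24,3,5],![23,4,6],![22,9,10]]] : Fin 3 → Fin 3 → Fin 3 → Fin 27) x.1 x.2.1 x.2.2
/-- Table of the signs. -/
def etaI (x : I27) : ℤ := (![![![1,1,1],![-1,-1,-1],![-1,1,-1]],![![-1,-1,1],![-1,-1,1],![-1,-1,1]],![![1,1,1],![1,1,-1],![-1,1,-1]]] : Fin 3 → Fin 3 → Fin 3 → ℤ) x.1 x.2.1 x.2.2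
/-- The inverse table. -/
def sF (n : Fin 27) : I27 := (![((0 : Fin 3), (0 : Fin 3), (0 : Fin 3)),((0 : Fin 3), (0 : Fin 3), (1 : Fin 3)),((0 : Fin 3), (0 : Fin 3), (2 : Fin 3)),((2 : Fin 3), (0 : Fin 3), (1 : Fin 3)),((2 : Fin 3), (1 : Fin 3), (1 : Fin 3)),((2 : Fin 3), (0 : Fin 3), (2 : Fin 3)),((2 : Fin 3), (1 : Fin 3), (2 : Fin 3)),((1 : Fin 3), (2 : Fin 3), (2 : Fin 3)),((1 : Fin 3), (1 : Fin 3), (2 : Fin 3)),((2 : Fin 3), (2 : Fin 3), (1 : Fin 3)),((2 : Fin 3), (2 : Fin 3), (2 : Fin 3)),((1 : Fin 3), (2 : Fin 3), (1 : Fin 3)),((1 : Fin 3), (1 : Fin 3), (1 : Fin 3)),((1 : Fin 3), (2 : Fin 3), (0 : Fin 3)),((1 : Fin 3), (1 : Fin 3), (0 : Fin 3)),((0 : Fin 3), (2 : Fin 3), (0 : Fin 3)),((0 : Fin 3), (1 : Fin 3), (0 : Fin 3)),((1 : Fin 3), (0 : Fin 3), (2 : Fin 3)),((1 : Fin 3), (0 : Fin 3), (1 : Fin 3)),((1 : Fin 3), (0 : Fin 3), (0 : Fin 3)),((0 : Fin 3), (2 : Fin 3), (1 : Fin 3)),((0 : Fin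 3), (2 : Fin 3), (2 : Fin 3)),((2 : Fin 3), (2 : Fin 3), (0 : Fin 3)),((2 : Fin 3), (1 : Fin 3), (0 : Fin 3)),((2 : Fin 3), (0 : Fin 3), (0 : Fin 3)),((0 : Fin 3), (1 : Fin 3), (2 : Fin 3)),((0 : Fin 3), (1 : Fin 3), (1 : Fin 3))] : Fin 27 → I27) n

theorem sI_sF : ∀ n, sI (sF n) = n := by decide +kernel
theorem sF_sI : ∀ x, sF (sI x) = x := by decide +kernel
theorem eta_sq : ∀ x, etaI x * etaI x = 1 := by decide +kernel

variable (F) in
/-- The coordinate change. -/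
def phi : (Fin 27 → F) ≃ₗ[F] (I27 → F) where
  toFun v x := ((etaI x : ℤ) : F) * v (sI x)
  invFun u n := ((etaI (sF n) : ℤ) : F) * u (sF n)
  map_add' v w := by
    funext x
    simp [mul_add]
  map_smul' c v := by
    funext x
    simp only [Pi.smul_apply, smul_eq_mul, RingHom.id_apply]
    ring
  left_inv v := by
    funext n
    simp only [sI_sF]
    have := int_sq_ne (F := F) (eta_sq (sF n))
    rw [← mul_assoc, this, one_mul]
  right_inv u := by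
    funext x
    simp only [sF_sI]
    have := int_sq_ne (F := F) (eta_sq x)
    rw [← mul_assoc, this, one_mul]

theorem phi_apply (v : Fin 27 → F) (x : I27) : phi F v x = ((etaI x : ℤ) : F) * v (sI x) := rfl

theorem cubicT_explicit (u : I27 → F) : cubicT u = u (0, 0, 0) * u (0, 1, 1) * u (0, 2, 2) + u (0, 0, 1) * u (0, 1, 2) * u (0, 2, 0) + u (0, 0, 2) * u (0, 1, 0) * u (0, 2, 1) - u (0, 0, 0) * u (0, 1, 2) * u (0, 2, 1) - u (0, 0, 1) * u (0, 1, 0) * u (0, 2, 2) - u (0, 0, 2) * u (0, 1, 1) * u (0, 2, 0) + u (1, 0, 0) * u (1, 1, 1) * u (1, 2, 2) + u (1, 0, 1) * u (1, 1, 2) * u (1, 2, 0) + u (1, 0, 2) * u (1, 1, 0) * u (1, 2, 1) - u (1, 0, 0) * u (1, 1, 2) * u (1, 2, 1) - u (1, 0, 1) * u (1, 1, 0) * u (1, 2, 2) - u (1, 0, 2) * u (1, 1, 1) * u (1, 2, 0) + u (2, 0, 0) * u (2, 1, 1) * u (2, 2, 2) + u (2, 0, 1) * u (2, 1, 2) * u (2, 2, 0) + u (2, 0, 2) * u (2, 1, 0) * u (2, 2, 1) - u (2, 0, 0) * u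 (2, 1, 2) * u (2, 2, 1) - u (2, 0, 1) * u (2, 1, 0) * u (2, 2, 2) - u (2, 0, 2) * u (2, 1, 1) * u (2, 2, 0) - u (0, 0, 0) * u (1, 0, 0) * u (2, 0, 0) - u (0, 0, 0) * u (1, 0, 1) * u (2, 1, 0) - u (0, 0, 0) * u (1, 0, 2) * u (2, 2, 0) - u (0, 0, 1) * u (1, 1, 0) * u (2, 0, 0) - u (0, 0, 1) * u (1, 1, 1) * u (2, 1, 0) - u (0, 0, 1) * u (1, 1, 2) * u (2, 2, 0) - u (0, 0, 2) * u (1, 2, 0) * u (2, 0, 0) - u (0, 0, 2) * u (1, 2, 1) * u (2, 1, 0) - u (0, 0, 2) * u (1, 2, 2) * u (2, 2, 0) - u (0, 1, 0) * u (1, 0, 0) * u (2, 0, 1) - u (0, 1, 0) * u (1, 0, 1) * u (2, 1, 1) - u (0, 1, 0) * u (1, 0, 2) * u (2, 2, 1) - u (0, 1, 1) * u (1, 1, 0) * u (2, 0, 1) - u (0, 1, 1) * u (1, 1, 1) * u (2, 1, 1) - u (0, 1, 1) * u (1, 1, 2) * u (2, 2, 1) - u (0, 1, 2) * u (1, 2, 0) * u (2, 0, 1) - u (0, 1, 2) * u (1, 2, 1) * u (2, 1, 1) - u (0, 1, 2) * u (1, 2, 2) * u (2, 2, 1) - u (0, 2, 0) * u (1, 0, 0) * u (2, 0, 2) -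 u (0, 2, 0) * u (1, 0, 1) * u (2, 1, 2) - u (0, 2, 0) * u (1, 0, 2) * u (2, 2, 2) - u (0, 2, 1) * u (1, 1, 0) * u (2, 0, 2) - u (0, 2, 1) * u (1, 1, 1) * u (2, 1, 2) - u (0, 2, 1) * u (1, 1, 2) * u (2, 2, 2) - u (0, 2, 2) * u (1, 2, 0) * u (2, 0, 2) - u (0, 2, 2) * u (1, 2, 1) * u (2, 1, 2) - u (0, 2, 2) * u (1, 2, 2) * u (2, 2, 2) := by
  simp only [cubicT, mat3, Matrix.det_fin_three, Matrix.trace_fin_three, Matrix.mul_apply, Fin.sum_univ_three, Matrix.of_apply]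
  ring

theorem cub_explicit (v : Fin 27 → F) : cub triL v = v 0 * v 17 * v 22 + v 0 * v 18 * v 23 + v 0 * v 19 * v 24 + v 0 * v 20 * v 25 + v 0 * v 21 * v 26 + v 1 * v 8 * v 22 + v 1 * v 12 * v 23 + v 1 * v 14 * v 24 + v 1 * v 15 * v 25 - v 1 * v 16 * v 21 + v 2 * v 7 * v 22 + v 2 * v 11 * v 23 + v 2 * v 13 * v 24 - v 2 * v 15 * v 26 - v 2 * v 16 * v 20 + v 3 * v 6 * v 22 + v 3 * v 10 * v 23 - v 3 * v 13 * v 25 - v 3 * v 14 * v 26 - v 3 * v 16 * v 19 + v 4 * v 5 * v 22 - v 4 * v 10 * v 24 - v 4 * v 11 * v 25 - v 4 * v 12 * v 26 - v 4 * v 16 * v 18 + v 5 * v 9 * v 23 - v 5 * v 13 * v 21 + v 5 * v 14 * v 20 - v 5 * v 15 * v 19 + v 6 * v 9 * v 24 + v 6 * v 11 * v 21 - v 6 * v 12 * v 20 + v 6 * v 15 * v 18 + v 7 * v 9 * v 25 - v 7 * v 10 * v 21 + v 7 * v 12 * v 19 - v 7 * v 14 * v 18 + v 8 * v 9 * v 26 + v 8 * v 10 * v 20 - v 8 * v 11 * v 19 + v 8 * v 13 * v 18 + v 9 * v 16 * v 17 - v 10 * v 15 *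 v 17 + v 11 * v 14 * v 17 - v 12 * v 13 * v 17 := by
  have x0 : xh v 0 = v 0 := xh_val v 0
  have x1 : xh v 1 = v 1 := xh_val v 1
  have x2 : xh v 2 = v 2 := xh_val v 2
  have x3 : xh v 3 = v 3 := xh_val v 3
  have x4 : xh v 4 = v 4 := xh_val v 4
  have x5 : xh v 5 = v 5 := xh_val v 5
  have x6 : xh v 6 = v 6 := xh_val v 6
  have x7 : xh v 7 = v 7 := xh_val v 7
  have x8 : xh v 8 = v 8 := xh_val v 8
  have x9 : xh v 9 = v 9 := xh_val v 9
  have x10 : xh v 10 = v 10 := xh_val v 10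
  have x11 : xh v 11 = v 11 := xh_val v 11
  have x12 : xh v 12 = v 12 := xh_val v 12
  have x13 : xh v 13 = v 13 := xh_val v 13
  have x14 : xh v 14 = v 14 := xh_val v 14
  have x15 : xh v 15 = v 15 := xh_val v 15
  have x16 : xh v 16 = v 16 := xh_val v 16
  have x17 : xh v 17 = v 17 := xh_val v 17
  have x18 : xh v 18 = v 18 := xh_val v 18
  have x19 : xh v 19 = v 19 := xh_val v 19
  have x20 : xh v 20 = v 20 := xh_val v 20
  have x21 : xh v 21 = v 21 := xh_val v 21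
  have x22 : xh v 22 = v 22 := xh_val v 22
  have x23 : xh v 23 = v 23 := xh_val v 23
  have x24 : xh v 24 = v 24 := xh_val v 24
  have x25 : xh v 25 = v 25 := xh_val v 25
  have x26 : xh v 26 = v 26 := xh_val v 26
  simp only [cub, triL, List.map_cons, List.map_nil, List.sum_cons, List.sum_nil, x0, x1, x2, x3, x4, x5, x6, x7, x8, x9, x10, x11, x12, x13, x14, x15, x16, x17, x18, x19, x20, x21, x22, x23, x24, x25, x26]
  push_cast
  ring

theorem cubicT_phi (v : Fin 27 → F) : cubicT (phi F v) = cub triL v := by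
  have e000 : phi F v (0, 0, 0) = v 0 := by
    show ((etaI (0, 0, 0) : ℤ) : F) * v (sI (0, 0, 0)) = _
    rw [show etaI ((0 : Fin 3), (0 : Fin 3), (0 : Fin 3)) = 1 by decide, show sI ((0 : Fin 3), (0 : Fin 3), (0 : Fin 3)) = 0 by decide]
    simp
  have e001 : phi F v (0, 0, 1) = v 1 := by
    show ((etaI (0, 0, 1) : ℤ) : F) * v (sI (0, 0, 1)) = _
    rw [show etaI ((0 : Fin 3), (0 : Fin 3), (1 : Fin 3)) = 1 by decide, show sI ((0 : Fin 3), (0 : Fin 3), (1 : Fin 3)) = 1 by decide]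
    simp
  have e002 : phi F v (0, 0, 2) = v 2 := by
    show ((etaI (0, 0, 2) : ℤ) : F) * v (sI (0, 0, 2)) = _
    rw [show etaI ((0 : Fin 3), (0 : Fin 3), (2 : Fin 3)) = 1 by decide, show sI ((0 : Fin 3), (0 : Fin 3), (2 : Fin 3)) = 2 by decide]
    simp
  have e010 : phi F v (0, 1, 0) = -v 16 := by
    show ((etaI (0, 1, 0) : ℤ) : F) * v (sI (0, 1, 0)) = _
    rw [show etaI ((0 : Fin 3), (1 : Fin 3), (0 : Fin 3)) = -1 by decide, show sI ((0 : Fin 3), (1 : Fin 3), (0 : Fin 3)) = 16 by decide]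
    simp
  have e011 : phi F v (0, 1, 1) = -v 26 := by
    show ((etaI (0, 1, 1) : ℤ) : F) * v (sI (0, 1, 1)) = _
    rw [show etaI ((0 : Fin 3), (1 : Fin 3), (1 : Fin 3)) = -1 by decide, show sI ((0 : Fin 3), (1 : Fin 3), (1 : Fin 3)) = 26 by decide]
    simp
  have e012 : phi F v (0, 1, 2) = -v 25 := by
    show ((etaI (0, 1, 2) : ℤ) : F) * v (sI (0, 1, 2)) = _
    rw [show etaI ((0 : Fin 3), (1 : Fin 3), (2 : Fin 3)) = -1 by decide, show sI ((0 : Fin 3), (1 : Fin 3), (2 : Fin 3)) = 25 by decide]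
    simp
  have e020 : phi F v (0, 2, 0) = -v 15 := by
    show ((etaI (0, 2, 0) : ℤ) : F) * v (sI (0, 2, 0)) = _
    rw [show etaI ((0 : Fin 3), (2 : Fin 3), (0 : Fin 3)) = -1 by decide, show sI ((0 : Fin 3), (2 : Fin 3), (0 : Fin 3)) = 15 by decide]
    simp
  have e021 : phi F v (0, 2, 1) = v 20 := by
    show ((etaI (0, 2, 1) : ℤ) : F) * v (sI (0, 2, 1)) = _
    rw [show etaI ((0 : Fin 3), (2 : Fin 3), (1 : Fin 3)) = 1 by decide, show sI ((0 : Fin 3), (2 : Fin 3), (1 : Fin 3)) = 20 by decide]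
    simp
  have e022 : phi F v (0, 2, 2) = -v 21 := by
    show ((etaI (0, 2, 2) : ℤ) : F) * v (sI (0, 2, 2)) = _
    rw [show etaI ((0 : Fin 3), (2 : Fin 3), (2 : Fin 3)) = -1 by decide, show sI ((0 : Fin 3), (2 : Fin 3), (2 : Fin 3)) = 21 by decide]
    simp
  have e100 : phi F v (1, 0, 0) = -v 19 := by
    show ((etaI (1, 0, 0) : ℤ) : F) * v (sI (1, 0, 0)) = _
    rw [show etaI ((1 : Fin 3), (0 : Fin 3), (0 : Fin 3)) = -1 by decide, show sI ((1 : Fin 3), (0 : Fin 3), (0 : Fin 3)) = 19 by decide]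
    simp
  have e101 : phi F v (1, 0, 1) = -v 18 := by
    show ((etaI (1, 0, 1) : ℤ) : F) * v (sI (1, 0, 1)) = _
    rw [show etaI ((1 : Fin 3), (0 : Fin 3), (1 : Fin 3)) = -1 by decide, show sI ((1 : Fin 3), (0 : Fin 3), (1 : Fin 3)) = 18 by decide]
    simp
  have e102 : phi F v (1, 0, 2) = v 17 := by
    show ((etaI (1, 0, 2) : ℤ) : F) * v (sI (1, 0, 2)) = _
    rw [show etaI ((1 : Fin 3), (0 : Fin 3), (2 : Fin 3)) = 1 by decide, show sI ((1 : Fin 3), (0 : Fin 3), (2 : Fin 3)) = 17 by decide]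
    simp
  have e110 : phi F v (1, 1, 0) = -v 14 := by
    show ((etaI (1, 1, 0) : ℤ) : F) * v (sI (1, 1, 0)) = _
    rw [show etaI ((1 : Fin 3), (1 : Fin 3), (0 : Fin 3)) = -1 by decide, show sI ((1 : Fin 3), (1 : Fin 3), (0 : Fin 3)) = 14 by decide]
    simp
  have e111 : phi F v (1, 1, 1) = -v 12 := by
    show ((etaI (1, 1, 1) : ℤ) : F) * v (sI (1, 1, 1)) = _
    rw [show etaI ((1 : Fin 3), (1 : Fin 3), (1 : Fin 3)) = -1 by decide, show sI ((1 : Fin 3), (1 : Fin 3), (1 : Fin 3)) = 12 by decide]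
    simp
  have e112 : phi F v (1, 1, 2) = v 8 := by
    show ((etaI (1, 1, 2) : ℤ) : F) * v (sI (1, 1, 2)) = _
    rw [show etaI ((1 : Fin 3), (1 : Fin 3), (2 : Fin 3)) = 1 by decide, show sI ((1 : Fin 3), (1 : Fin 3), (2 : Fin 3)) = 8 by decide]
    simp
  have e120 : phi F v (1, 2, 0) = -v 13 := by
    show ((etaI (1, 2, 0) : ℤ) : F) * v (sI (1, 2, 0)) = _
    rw [show etaI ((1 : Fin 3), (2 : Fin 3), (0 : Fin 3)) = -1 by decide, show sI ((1 : Fin 3), (2 : Fin 3), (0 : Fin 3)) = 13 by decide]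
    simp
  have e121 : phi F v (1, 2, 1) = -v 11 := by
    show ((etaI (1, 2, 1) : ℤ) : F) * v (sI (1, 2, 1)) = _
    rw [show etaI ((1 : Fin 3), (2 : Fin 3), (1 : Fin 3)) = -1 by decide, show sI ((1 : Fin 3), (2 : Fin 3), (1 : Fin 3)) = 11 by decide]
    simp
  have e122 : phi F v (1, 2, 2) = v 7 := by
    show ((etaI (1, 2, 2) : ℤ) : F) * v (sI (1, 2, 2)) = _
    rw [show etaI ((1 : Fin 3), (2 : Fin 3), (2 : Fin 3)) = 1 by decide, show sI ((1 : Fin 3), (2 : Fin 3), (2 : Fin 3)) = 7 by decide]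
    simp
  have e200 : phi F v (2, 0, 0) = v 24 := by
    show ((etaI (2, 0, 0) : ℤ) : F) * v (sI (2, 0, 0)) = _
    rw [show etaI ((2 : Fin 3), (0 : Fin 3), (0 : Fin 3)) = 1 by decide, show sI ((2 : Fin 3), (0 : Fin 3), (0 : Fin 3)) = 24 by decide]
    simp
  have e201 : phi F v (2, 0, 1) = v 3 := by
    show ((etaI (2, 0, 1) : ℤ) : F) * v (sI (2, 0, 1)) = _
    rw [show etaI ((2 : Fin 3), (0 : Fin 3), (1 : Fin 3)) = 1 by decide, show sI ((2 : Fin 3), (0 : Fin 3), (1 : Fin 3)) = 3 by decide]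
    simp
  have e202 : phi F v (2, 0, 2) = v 5 := by
    show ((etaI (2, 0, 2) : ℤ) : F) * v (sI (2, 0, 2)) = _
    rw [show etaI ((2 : Fin 3), (0 : Fin 3), (2 : Fin 3)) = 1 by decide, show sI ((2 : Fin 3), (0 : Fin 3), (2 : Fin 3)) = 5 by decide]
    simp
  have e210 : phi F v (2, 1, 0) = v 23 := by
    show ((etaI (2, 1, 0) : ℤ) : F) * v (sI (2, 1, 0)) = _
    rw [show etaI ((2 : Fin 3), (1 : Fin 3), (0 : Fin 3)) = 1 by decide, show sI ((2 : Fin 3), (1 : Fin 3), (0 : Fin 3)) = 23 by decide]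
    simp
  have e211 : phi F v (2, 1, 1) = v 4 := by
    show ((etaI (2, 1, 1) : ℤ) : F) * v (sI (2, 1, 1)) = _
    rw [show etaI ((2 : Fin 3), (1 : Fin 3), (1 : Fin 3)) = 1 by decide, show sI ((2 : Fin 3), (1 : Fin 3), (1 : Fin 3)) = 4 by decide]
    simp
  have e212 : phi F v (2, 1, 2) = -v 6 := by
    show ((etaI (2, 1, 2) : ℤ) : F) * v (sI (2, 1, 2)) = _
    rw [show etaI ((2 : Fin 3), (1 : Fin 3), (2 : Fin 3)) = -1 by decide, show sI ((2 : Fin 3), (1 : Fin 3), (2 : Fin 3)) = 6 by decide]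
    simp
  have e220 : phi F v (2, 2, 0) = -v 22 := by
    show ((etaI (2, 2, 0) : ℤ) : F) * v (sI (2, 2, 0)) = _
    rw [show etaI ((2 : Fin 3), (2 : Fin 3), (0 : Fin 3)) = -1 by decide, show sI ((2 : Fin 3), (2 : Fin 3), (0 : Fin 3)) = 22 by decide]
    simp
  have e221 : phi F v (2, 2, 1) = v 9 := by
    show ((etaI (2, 2, 1) : ℤ) : F) * v (sI (2, 2, 1)) = _
    rw [show etaI ((2 : Fin 3), (2 : Fin 3), (1 : Fin 3)) = 1 by decide, show sI ((2 : Fin 3), (2 : Fin 3), (1 : Fin 3)) = 9 by decide]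
    simp
  have e222 : phi F v (2, 2, 2) = -v 10 := by
    show ((etaI (2, 2, 2) : ℤ) : F) * v (sI (2, 2, 2)) = _
    rw [show etaI ((2 : Fin 3), (2 : Fin 3), (2 : Fin 3)) = -1 by decide, show sI ((2 : Fin 3), (2 : Fin 3), (2 : Fin 3)) = 10 by decide]
    simp
  rw [cubicT_explicit, cub_explicit, e000, e001, e002, e010, e011, e012, e020, e021, e022, e100, e101, e102, e110, e111, e112, e120, e121, e122, e200, e201, e202, e210, e211, e212, e220, e221, e222]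
  ring

/-! ### The group -/

variable (F) in
/-- The passage from the linear group on `I27` to that on `Fin 27`. -/
noncomputable def Phi : Matrix.GeneralLinearGroup I27 F ≃* ((Fin 27 → F) ≃ₗ[F] (Fin 27 → F)) :=
  glEquiv.trans
    { toFun := fun g => (phi F).trans (g.trans (phi F).symm)
      invFun := fun g => (phi F).symm.trans (g.trans (phi F))
      left_inv := fun g => by
        ext x
        simp
      right_inv := fun g => by
        ext x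
        simp
      map_mul' := fun g g' => by
        ext x
        simp [LinearEquiv.mul_apply] }

theorem Phi_apply (g : Matrix.GeneralLinearGroup I27 F) (v : Fin 27 → F) :
    phi F (Phi F g v) = (Units.coeHom (Matrix I27 I27 F) g).mulVec (phi F v) := by
  show phi F ((phi F).symm (glEquiv g (phi F v))) = _
  rw [LinearEquiv.apply_symm_apply, glEquiv_apply]
  rfl

variable (F) in
/-- The group of the cubic form in the original coordinates and in the table's coordinates. -/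
noncomputable def isoGT : E6univ F ≃* GT F :=
  ((Phi F).subgroupMap (E6univ F)).trans (MulEquiv.subgroupCongr (by
    ext g
    constructor
    · rintro ⟨g', hg', rfl⟩
      intro v
      have h1 := hg' (phi F v)
      rw [← Phi_apply, cubicT_phi, cubicT_phi] at h1
      exact h1
    · intro hg
      refine ⟨(Phi F).symm g, ?_, by simp⟩
      intro u
      obtain ⟨v, rfl⟩ := (phi F).surjective u
      rw [← Phi_apply, cubicT_phi, cubicT_phi]
      simp only [MulEquiv.apply_symm_apply]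
      exact hg v))

/-- The main theorem. -/
theorem main [Fintype F] (hF : 3 ≤ Fintype.card F) : Nonempty (E6 F ≃* ↥(chevE6.group F)) := by
  classical
  have hs : ∃ s : F, s ≠ 0 ∧ s ≠ 1 := by
    have h1 : ({0, 1} : Finset F).card < (Finset.univ : Finset F).card := by
      rw [Finset.card_univ]
      have := Finset.card_le_two (a := (0 : F)) (b := 1)
      omega
    obtain ⟨s, -, hs⟩ := Finset.exists_mem_notMem_of_card_lt_card h1
    simp only [Finset.mem_insert, Finset.mem_singleton, not_or] at hs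
    exact ⟨s, hs.1, hs.2⟩
  have hFull : Full _ _ _ chevE6 := ⟨RelE6.checks, RootE6.checks⟩
  have hP : ChevPres.PresOK _ chevE6 :=
    ⟨ChevPres.negOK_of_check hFull Cfsg.Agent.Lib.ChevPresNegE6.neg_ok, Cfsg.Agent.Lib.ChevPresTabE6.w_ok⟩
  have hperf := hFull.perfect_main (F := F) (by simp) (by
    intro h
    exfalso
    rcases h with h | h <;> exact absurd (congrArg ChevalleyDatum.rank h) (by decide +kernel))
  have hsim : IsSimpleGroup ↥(chevE6.group F) := (hFull.isSimple_main connE6 (by decide +kernel) hperf).1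
  let ψ : chevE6.SteinbergGroup F →* E6univ F := (isoGT F).symm.toMonoidHom.comp (rho F)
  have hψ : Function.Surjective ψ := (isoGT F).symm.surjective.comp (rho_surj hs)
  have hnc : ∃ a b : E6univ F, a * b ≠ b * a := by
    refine ⟨ψ (chevE6.stGen F (upR 1) 1), ψ (chevE6.stGen F (umR 1) 1), ?_⟩
    intro h
    apply rho_nc (F := F)
    have h2 := congrArg (isoGT F) h
    simpa [ψ, map_mul] using h2
  obtain ⟨e⟩ := nonempty_equiv_quot_center (ChevPres.thetaG hFull) (ChevPres.thetaG_surjective hFull)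
    (ChevPres.ker_eq_center hFull hP) ψ hψ hnc
  exact ⟨e.symm⟩

end Cfsg.Agent.Lib.E6Main
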