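import Mathlib

/-!
# Independence of characters in an endomorphism ring; fixed-point-free automorphisms acting on modules

`no_relation`: Dedekind-style elimination.  `eq_bot_of_fpf_action`: if an automorphism `φ` of prime order acts without
fixed points on `G`, and a `φ`-invariant abelian subgroup `Z` acts on a `φ`-invariant abelian subgroup `V` with `C_V(Z) = 1`, then
`V = 1` (there are no such modules for a Frobenius group unless `V = 0`).
-/

set_option autoImplicit false

namespace Cfsg.Agent.Lib.FpfAction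

/-- Dedekind-style elimination for actions of a commutative monoid on an abelian group. -/
theorem no_relation {A ι Z : Type*} [AddCommGroup A] [DecidableEq ι] [CommMonoid Z]
    (m : Z →* AddMonoid.End A) (φ : ι → Z → Z) (hφ1 : ∀ i, φ i 1 = 1)
    (hφmul : ∀ i a b, φ i (a * b) = φ i a * φ i b) (S : Finset ι)
    (hsep : ∀ i ∈ S, ∀ j ∈ S, i ≠ j → ∀ x : A, x ≠ 0 → ∃ w, m (φ i w) x ≠ m (φ j w) x) :
    ∀ (n : ℕ) (T : Finset ι), T.card = n → T ⊆ S → ∀ (y : ι → A), ∀ j₀ ∈ T, y j₀ ≠ 0 →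
      (∀ z, ∑ i ∈ T, m (φ i z) (y i) = 0) → False := by
  have hcomm : ∀ a b : Z, ∀ x : A, m a (m b x) = m b (m a x) := by
    intro a b x
    have h1 : m a * m b = m b * m a := by rw [← map_mul, ← map_mul, mul_comm]
    exact congrArg (fun f : AddMonoid.End A => f x) h1
  have hmul : ∀ a b : Z, ∀ x : A, m (a * b) x = m a (m b x) := by
    intro a b x
    rw [map_mul]; rfl
  intro n
  induction n with
  | zero =>
    intro T hT _ y j₀ hj₀
    rw [Finset.card_eq_zero] at hT
    rw [hT] at hj₀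
    simp at hj₀
  | succ n ih =>
    intro T hT hTS y j₀ hj₀ hy hrel
    by_cases hsingle : ∃ j ∈ T, j ≠ j₀
    · obtain ⟨j, hj, hjne⟩ := hsingle
      obtain ⟨w, hw⟩ := hsep j₀ (hTS hj₀) j (hTS hj) (Ne.symm hjne) (y j₀) hy
      refine ih (T.erase j) ?_ ((Finset.erase_subset _ _).trans hTS)
        (fun i => m (φ i w) (y i) - m (φ j w) (y i)) j₀ (Finset.mem_erase.mpr ⟨Ne.symm hjne, hj₀⟩) ?_ ?_
      · rw [Finset.card_erase_of_mem hj, hT]; rfl
      · exact sub_ne_zero.mpr hw
      · intro z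
        have h1 := hrel (z * w)
        have h2 := congrArg (m (φ j w)) (hrel z)
        rw [map_zero, map_sum] at h2
        have h3 : ∑ i ∈ T, (m (φ i (z * w)) (y i) - m (φ j w) (m (φ i z) (y i))) = 0 := by
          rw [Finset.sum_sub_distrib, h1, h2, sub_zero]
        rw [← Finset.add_sum_erase T _ hj] at h3
        have h4 : m (φ j (z * w)) (y j) - m (φ j w) (m (φ j z) (y j)) = 0 := by
          rw [hφmul, mul_comm, hmul, sub_self]
        rw [h4, zero_add] at h3
        rw [← h3]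
        apply Finset.sum_congr rfl
        intro i _
        rw [map_sub, hφmul, hmul, hcomm (φ i z) (φ j w)]
    · push_neg at hsingle
      have h1 := hrel 1
      have hT1 : T = {j₀} := by
        ext i
        simp only [Finset.mem_singleton]
        exact ⟨fun hi => hsingle i hi, fun hi => hi ▸ hj₀⟩
      rw [hT1, Finset.sum_singleton, hφ1, map_one] at h1
      exact hy h1

section Group

variable {G : Type*} [Group G] [Finite G]

theorem iterate_mem {H : Subgroup G} {φ : G ≃* G} (hH : ∀ x ∈ H, φ x ∈ H) (n : ℕ) {x : G} (hx : x ∈ H) :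
    φ^[n] x ∈ H := by
  induction n with
  | zero => exact hx
  | succ n ih =>
    rw [Function.iterate_succ_apply']
    exact hH _ ih

/-- Iterates of a fixed-point-free automorphism of prime order. -/
theorem iterate_fpf {φ : G ≃* G} (hfpf : ∀ x, φ x = x → x = 1) {r : ℕ} (hr : r.Prime)
    (hφr : ∀ x, φ^[r] x = x) {d : ℕ} (hd0 : 0 < d) (hdr : d < r) (x : G) (hx : φ^[d] x = x) : x = 1 := by
  have hc : Nat.Coprime d r := ((Nat.coprime_comm).mp ((Nat.Prime.coprime_iff_not_dvd hr).mpr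
    (Nat.not_dvd_of_pos_of_lt hd0 hdr)))
  -- `a * d = 1 + b * r` for natural numbers
  obtain ⟨a, ha⟩ := Nat.exists_mul_mod_eq_one_of_coprime hc hr.one_lt
  have hiter : ∀ k, φ^[d * k] x = x := by
    intro k
    induction k with
    | zero => simp
    | succ k ih =>
      rw [Nat.mul_succ, Function.iterate_add_apply, hx, ih]
  have hiter2 : ∀ k, φ^[r * k] (φ x) = φ x := by
    intro k
    induction k with
    | zero => simp
    | succ k ih =>
      rw [Nat.mul_succ, Function.iterate_add_apply, hφr, ih]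
  have h1 : d * a = r * ((d * a) / r) + 1 := by
    have := Nat.div_add_mod (d * a) r
    rw [ha.2] at this
    omega
  have h2 : φ x = x := by
    have h3 := hiter a
    rw [h1, Function.iterate_succ_apply] at h3
    rw [hiter2] at h3
    exact h3
  exact hfpf x h2

/-- **The Frobenius action**: `V` abelian and `φ`-invariant, `Z` abelian and `φ`-invariant normalizing `V` with `C_V(Z) = 1`,
`φ` fixed-point-free of prime order: then `V = 1`. -/
theorem eq_bot_of_fpf_action (φ : G ≃* G) (hfpf : ∀ x, φ x = x → x = 1) {r : ℕ} (hr : r.Prime)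
    (hφr : ∀ x, φ^[r] x = x) (V Z : Subgroup G) (hVφ : ∀ v ∈ V, φ v ∈ V) (hZφ : ∀ z ∈ Z, φ z ∈ Z)
    (hVc : ∀ x ∈ V, ∀ y ∈ V, x * y = y * x) (hZc : ∀ x ∈ Z, ∀ y ∈ Z, x * y = y * x)
    (hZV : ∀ z ∈ Z, ∀ v ∈ V, z * v * z⁻¹ ∈ V)
    (hC : ∀ v ∈ V, (∀ z ∈ Z, z * v * z⁻¹ = v) → v = 1) : V = ⊥ := by
  classical
  by_contra hne
  obtain ⟨v₀, hv₀, hv₀1⟩ : ∃ v₀ ∈ V, v₀ ≠ 1 := by
    obtain ⟨x, hx⟩ := (Subgroup.ne_bot_iff_exists_ne_one.mp hne)
    exact ⟨(x : G), x.2, fun h => hx (Subtype.ext h)⟩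
  letI instV : CommGroup V :=
    { (inferInstance : Group V) with
      mul_comm := fun x y => Subtype.ext (hVc x x.2 y y.2) }
  letI instZ : CommGroup Z :=
    { (inferInstance : Group Z) with
      mul_comm := fun x y => Subtype.ext (hZc x x.2 y y.2) }
  let A := Additive V
  let ι : ∀ y : G, y ∈ V → A := fun y hy => Additive.ofMul (⟨y, hy⟩ : V)
  have hιext : ∀ {x y : G} (hx : x ∈ V) (hy : y ∈ V), x = y → ι x hx = ι y hy := by
    intro x y hx hy h
    subst h; rfl
  have hιsurj : ∀ v : A, ∃ y, ∃ hy : y ∈ V, v = ι y hy := fun v => ⟨_, (Additive.toMul v).2, rfl⟩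
  have hιadd : ∀ {x y : G} (hx : x ∈ V) (hy : y ∈ V), ι x hx + ι y hy = ι (x * y) (V.mul_mem hx hy) :=
    fun _ _ => rfl
  have hιzero : ∀ {x : G} (hx : x ∈ V), x = 1 → ι x hx = 0 := by
    intro x hx h
    subst h; rfl
  have hιinj : ∀ {x y : G} (hx : x ∈ V) (hy : y ∈ V), ι x hx = ι y hy → x = y := by
    intro x y hx hy h
    exact congrArg (fun v : A => ((Additive.toMul v : V) : G)) h
  have hιone : ∀ {x : G} (hx : x ∈ V), ι x hx = 0 → x = 1 := by
    intro x hx h
    have h1 : ι x hx = ι 1 V.one_mem := h.trans (hιzero V.one_mem rfl).symm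
    exact hιinj _ _ h1
  -- the action of `Z`
  let mf : Z → AddMonoid.End A := fun z =>
    AddMonoidHom.mk' (fun v => ι ((z : G) * ((Additive.toMul v : V) : G) * (z : G)⁻¹) (hZV z z.2 _ (Additive.toMul v).2))
      (by
        intro v w
        rw [hιadd]
        apply hιext
        show (z : G) * (((Additive.toMul v : V) : G) * ((Additive.toMul w : V) : G)) * (z : G)⁻¹ = _
        group)
  have hmfι : ∀ (z : Z) (y : G) (hy : y ∈ V), mf z (ι y hy) = ι ((z : G) * y * (z : G)⁻¹) (hZV z z.2 _ hy) :=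
    fun _ _ _ => rfl
  let m : Z →* AddMonoid.End A :=
    { toFun := mf
      map_one' := by
        refine AddMonoidHom.ext fun v => ?_
        obtain ⟨y, hy, rfl⟩ := hιsurj v
        show mf 1 (ι y hy) = ι y hy
        rw [hmfι]
        apply hιext
        show 1 * y * 1⁻¹ = y
        group
      map_mul' := by
        intro a b
        refine AddMonoidHom.ext fun v => ?_
        obtain ⟨y, hy, rfl⟩ := hιsurj v
        show mf (a * b) (ι y hy) = mf a (mf b (ι y hy))
        rw [hmfι, hmfι, hmfι]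
        apply hιext
        show ((a : G) * (b : G)) * y * ((a : G) * (b : G))⁻¹ = _
        group }
  have hmι : ∀ (z : Z) (y : G) (hy : y ∈ V), m z (ι y hy) = ι ((z : G) * y * (z : G)⁻¹) (hZV z z.2 _ hy) :=
    fun _ _ _ => rfl
  -- iterates of `φ` on `Z`
  let φZ : ℕ → Z → Z := fun i z => ⟨φ^[i] z, iterate_mem hZφ i z.2⟩
  have hiter_mul : ∀ (i : ℕ) (a b : G), φ^[i] (a * b) = φ^[i] a * φ^[i] b :=
    fun i a b => iterate_map_mul φ.toMonoidHom i a b
  have hiter_one : ∀ i : ℕ, φ^[i] (1 : G) = 1 := fun i => iterate_map_one φ.toMonoidHom i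
  have hiter_inv : ∀ (i : ℕ) (a : G), φ^[i] a⁻¹ = (φ^[i] a)⁻¹ :=
    fun i a => iterate_map_inv φ.toMonoidHom i a
  have hφ1 : ∀ i, φZ i 1 = 1 := fun i => Subtype.ext (hiter_one i)
  have hφmul : ∀ i a b, φZ i (a * b) = φZ i a * φZ i b := fun i a b => Subtype.ext (hiter_mul i a b)
  have hinjiter : ∀ i : ℕ, Function.Injective (φ^[i]) := fun i => φ.injective.iterate i
  have hsurjiter : ∀ i : ℕ, Function.Surjective (φ^[i]) := fun i => φ.surjective.iterate i
  -- the separation
  have hsep0 : ∀ (i j : ℕ), i < j → j < r → ∀ x : A, x ≠ 0 → ∃ w, m (φZ i w) x ≠ m (φZ j w) x := by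
    intro i j hij hjr x hx
    obtain ⟨y, hy, rfl⟩ := hιsurj x
    have hy1 : y ≠ 1 := by
      rintro rfl
      exact hx (hιzero _ rfl)
    -- `c₀` not fixing `y`
    have hc₀ : ∃ c₀ ∈ Z, c₀ * y * c₀⁻¹ ≠ y := by
      by_contra hcon
      push_neg at hcon
      exact hy1 (hC y hy hcon)
    obtain ⟨c₀, hc₀Z, hc₀y⟩ := hc₀
    set d := j - i with hd
    have hd0 : 0 < d := Nat.sub_pos_of_lt hij
    have hdr : d < r := by omega
    -- the map `c ↦ φ^d(c) c⁻¹` is a bijection of `Z`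
    let τ : Z → Z := fun c => φZ d c * c⁻¹
    have hτinj : Function.Injective τ := by
      intro a b hab
      have h1 : φZ d a * a⁻¹ = φZ d b * b⁻¹ := hab
      have h2 : φZ d (a * b⁻¹) = a * b⁻¹ := by
        have h3 : φZ d (a * b⁻¹) = φZ d a * φZ d b⁻¹ := hφmul d a b⁻¹
        have h4 : φZ d b⁻¹ * φZ d b = 1 := by
          rw [← hφmul, inv_mul_cancel, hφ1]
        have h5 : φZ d b⁻¹ = (φZ d b)⁻¹ := eq_inv_of_mul_eq_one_left h4
        rw [h3, h5]
        have h6 : φZ d a * (φZ d b)⁻¹ = (φZ d a * a⁻¹) * a * (φZ d b)⁻¹ := by group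
        rw [h6, h1]
        have h7 : φZ d b * b⁻¹ * a * (φZ d b)⁻¹ = a * b⁻¹ := by
          rw [mul_comm (φZ d b) b⁻¹, mul_comm (b⁻¹ * φZ d b) a, mul_assoc, mul_assoc, mul_inv_cancel,
            mul_one, mul_comm]
        exact h7
      have h7 := iterate_fpf hfpf hr hφr hd0 hdr ((a * b⁻¹ : Z) : G) (congrArg Subtype.val h2)
      have h8 : a * b⁻¹ = 1 := Subtype.ext h7
      exact mul_inv_eq_one.mp h8
    have hτsurj : Function.Surjective τ := Finite.surjective_of_injective hτinj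
    obtain ⟨c, hc⟩ := hτsurj ⟨c₀, hc₀Z⟩
    -- `w` with `φ^i w = c`
    obtain ⟨w₀, hw₀⟩ := hsurjiter i (c : G)
    have hw₀Z : w₀ ∈ Z := by
      -- `Z` is finite and `φ`-invariant: also invariant under the inverse iterate
      have hbij : Function.Bijective (fun z : Z => (⟨φ^[i] z, iterate_mem hZφ i z.2⟩ : Z)) :=
        Finite.injective_iff_bijective.mp (fun a b hab => Subtype.ext (hinjiter i (congrArg Subtype.val hab)))
      obtain ⟨w₁, hw₁⟩ := hbij.2 c
      have h1 : φ^[i] (w₁ : G) = φ^[i] w₀ := by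
        rw [hw₀]; exact congrArg Subtype.val hw₁
      rw [← hinjiter i h1]
      exact w₁.2
    refine ⟨⟨w₀, hw₀Z⟩, ?_⟩
    have hφi : φZ i ⟨w₀, hw₀Z⟩ = c := Subtype.ext hw₀
    have hφj : φZ j ⟨w₀, hw₀Z⟩ = φZ d c := by
      apply Subtype.ext
      show φ^[j] w₀ = φ^[d] c
      rw [← hw₀, ← Function.iterate_add_apply]
      congr 1
      omega
    have hdc : φZ d c = ⟨c₀, hc₀Z⟩ * c := by
      rw [← hc]
      show φZ d c = φZ d c * c⁻¹ * c
      group
    rw [hφi, hφj, hdc, hmι, hmι]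
    intro hcon
    have h1 := hιinj _ _ hcon
    apply hc₀y
    have h2 : ((⟨c₀, hc₀Z⟩ * c : Z) : G) = c₀ * (c : G) := rfl
    rw [h2] at h1
    have h3 : (c : G) * y * (c : G)⁻¹ = (c : G) * (c₀ * y * c₀⁻¹) * (c : G)⁻¹ := by
      rw [h1]
      have h5 : (c : G) * c₀ = c₀ * c := hZc _ c.2 _ hc₀Z
      have : (c : G) * (c₀ * y * c₀⁻¹) * (c : G)⁻¹ = ((c : G) * c₀) * y * ((c : G) * c₀)⁻¹ := by group
      rw [this, h5]
    have h4 := mul_right_cancel (mul_left_cancel (a := (c : G)) (by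
      simpa [mul_assoc] using h3 : (c : G) * (y * (c : G)⁻¹) = (c : G) * ((c₀ * y * c₀⁻¹) * (c : G)⁻¹)))
    exact h4.symm
  have hsep : ∀ i ∈ Finset.range r, ∀ j ∈ Finset.range r, i ≠ j → ∀ x : A, x ≠ 0 →
      ∃ w, m (φZ i w) x ≠ m (φZ j w) x := by
    intro i hi j hj hij x hx
    rw [Finset.mem_range] at hi hj
    rcases lt_or_gt_of_ne hij with h | h
    · exact hsep0 i j h hj x hx
    · obtain ⟨w, hw⟩ := hsep0 j i h hi x hx
      exact ⟨w, hw.symm⟩
  -- the relation
  let y : ℕ → A := fun i => ι (φ^[i] v₀) (iterate_mem hVφ i hv₀)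
  -- the norm vanishes
  have hnorm : ∀ w (hw : w ∈ V), ∑ i ∈ Finset.range r, ι (φ^[i] w) (iterate_mem hVφ i hw) = 0 := by
    intro w hw
    let Φ : A →+ A := AddMonoidHom.mk' (fun v => ι (φ ((Additive.toMul v : V) : G)) (hVφ _ (Additive.toMul v).2))
      (by
        intro v w'
        rw [hιadd]
        apply hιext
        show φ (((Additive.toMul v : V) : G) * ((Additive.toMul w' : V) : G)) = _
        exact map_mul φ _ _)
    have hΦι : ∀ (a : G) (ha : a ∈ V), Φ (ι a ha) = ι (φ a) (hVφ a ha) := fun _ _ => rfl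
    set N := ∑ i ∈ Finset.range r, ι (φ^[i] w) (iterate_mem hVφ i hw) with hN
    have h1 : Φ N = N := by
      rw [hN, map_sum]
      have h2 : ∀ i ∈ Finset.range r, Φ (ι (φ^[i] w) (iterate_mem hVφ i hw)) =
          ι (φ^[i + 1] w) (iterate_mem hVφ (i + 1) hw) := by
        intro i _
        rw [hΦι]
        apply hιext
        rw [Function.iterate_succ_apply']
      rw [Finset.sum_congr rfl h2]
      have h3 := Finset.sum_range_succ (fun i => ι (φ^[i] w) (iterate_mem hVφ i hw)) r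
      have h4 := Finset.sum_range_succ' (fun i => ι (φ^[i] w) (iterate_mem hVφ i hw)) r
      have h5 : ι (φ^[r] w) (iterate_mem hVφ r hw) = ι (φ^[0] w) (iterate_mem hVφ 0 hw) :=
        hιext _ _ (by rw [hφr]; rfl)
      rw [h3, h5] at h4
      exact (add_right_cancel h4).symm
    obtain ⟨n₀, hn₀, hn₀N⟩ := hιsurj N
    rw [hn₀N] at h1
    rw [hΦι] at h1
    have h2 := hιinj _ _ h1
    have h3 := hfpf _ h2
    rw [hn₀N]
    exact hιzero _ h3
  refine no_relation m φZ hφ1 hφmul (Finset.range r) hsep r (Finset.range r) (by simp) subset_rfl y 0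
    (Finset.mem_range.mpr hr.pos) ?_ ?_
  · intro h
    exact hv₀1 (hιone _ h)
  · intro z
    have h1 := hnorm ((z : G) * v₀ * (z : G)⁻¹) (hZV z z.2 v₀ hv₀)
    rw [← h1]
    apply Finset.sum_congr rfl
    intro i _
    show m (φZ i z) (ι (φ^[i] v₀) _) = _
    rw [hmι]
    apply hιext
    show φ^[i] z * φ^[i] v₀ * (φ^[i] z)⁻¹ = _
    rw [hiter_mul, hiter_mul, hiter_inv]

end Group

end Cfsg.Agent.Lib.FpfAction
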