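import Mathlib
import Cfsg.Agent.Lib.FpfAction
import Cfsg.Agent.Lib.Kegel
import Cfsg.Prelude.Def_PLocal

/-!
# The Hall–Higman step for abelian groups of automorphisms

`hh_core`: suppose `γ` acts on an abelian group `A` of exponent `p` with `∑_{i<p} γ^i = 0` and normalizes a finite abelian
`p'`-group `Z` of automorphisms of `A`, acting fixed-point-freely on `Z`.  Then `Z` acts trivially on `A`.

`section_hh`: a `p`-element `a` with `[Y, a; p-1] = 1` on an abelian normal subgroup `Y` of exponent `p` centralizes every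
abelian `p'`-group of automorphisms of `Y` that it normalizes.
-/

set_option autoImplicit false

namespace Cfsg.Agent.Lib.HallHigmanAb

open Cfsg.Agent.Lib.FpfAction
open scoped commutatorElement

open Polynomial in
/-- In characteristic `p`, `∑_{i<p} x^i = (x-1)^{p-1}`. -/
theorem geom_sum_eq_sub_one_pow {R : Type*} [Ring R] {p : ℕ} [hp : Fact p.Prime] (hpR : (p : R) = 0) (x : R) :
    ∑ i ∈ Finset.range p, x ^ i = (x - 1) ^ (p - 1) := by
  have key : (∑ i ∈ Finset.range p, (X : (ZMod p)[X]) ^ i) = (X - 1) ^ (p - 1) := by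
    have hne : (X - 1 : (ZMod p)[X]) ≠ 0 := by
      simpa using X_sub_C_ne_zero (1 : ZMod p)
    apply mul_left_cancel₀ hne
    rw [mul_geom_sum, ← pow_succ', Nat.sub_add_cancel hp.out.one_le, sub_pow_char, one_pow]
  set P : ℤ[X] := (∑ i ∈ Finset.range p, (X : ℤ[X]) ^ i) - (X - 1) ^ (p - 1) with hP
  have hmap : P.map (Int.castRingHom (ZMod p)) = 0 := by
    rw [hP]
    simp only [Polynomial.map_sub, Polynomial.map_sum, Polynomial.map_pow, Polynomial.map_X, Polynomial.map_one]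
    rw [key, sub_self]
  have hdvd : C (p : ℤ) ∣ P := by
    rw [Polynomial.C_dvd_iff_dvd_coeff]
    intro n
    have h1 := congrArg (fun q => q.coeff n) hmap
    simp only [Polynomial.coeff_map, Polynomial.coeff_zero] at h1
    exact (ZMod.intCast_zmod_eq_zero_iff_dvd _ p).mp h1
  obtain ⟨Q, hQ⟩ := hdvd
  have h2 := congrArg (Polynomial.aeval x) hQ
  simp only [hP, map_sub, map_sum, map_pow, Polynomial.aeval_X, map_one, map_mul, Polynomial.aeval_C] at h2
  have h3 : (algebraMap ℤ R) (p : ℤ) = 0 := by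
    simpa using hpR
  rw [h3, zero_mul] at h2
  exact sub_eq_zero.mp h2

/-- **The core of the Hall–Higman step.** -/
theorem hh_core {A Z : Type*} [AddCommGroup A] [Group Z] [Finite Z] {p : ℕ} (hp : p.Prime) (hpA : ∀ x : A, p • x = 0)
    (hZc : ∀ x y : Z, x * y = y * x) (hZp : (Nat.card Z).Coprime p) (m : Z →* AddMonoid.End A)
    (γ : AddMonoid.End A) (hnorm : ∀ x, ∑ i ∈ Finset.range p, (γ ^ i) x = 0) (φ : Z ≃* Z)
    (hφp : ∀ z, φ^[p] z = z) (hcompat : ∀ z x, γ (m z x) = m (φ z) (γ x)) (hfpf : ∀ z, φ z = z → z = 1) :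
    ∀ z x, m z x = x := by
  classical
  letI : Fintype Z := Fintype.ofFinite Z
  letI instZ : CommGroup Z := { (inferInstance : Group Z) with mul_comm := hZc }
  -- the trace
  let T : A →+ A := AddMonoidHom.mk' (fun x => ∑ z : Z, m z x) (by
    intro a b
    simp only [map_add, Finset.sum_add_distrib])
  have hT : ∀ x, T x = ∑ z : Z, m z x := fun _ => rfl
  have hmul : ∀ a b x, m (a * b) x = m a (m b x) := by
    intro a b x
    rw [map_mul]; rfl
  have hone : ∀ x, m 1 x = x := by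
    intro x
    rw [map_one]; rfl
  have hTm : ∀ w x, T (m w x) = T x := by
    intro w x
    rw [hT, hT]
    simp only [← hmul]
    exact Equiv.sum_comp (Equiv.mulRight w) (fun z => m z x)
  have hmT : ∀ w x, m w (T x) = T x := by
    intro w x
    rw [hT, map_sum]
    simp only [← hmul]
    exact Equiv.sum_comp (Equiv.mulLeft w) (fun z => m z x)
  have hTγ : ∀ x, T (γ x) = γ (T x) := by
    intro x
    rw [hT, hT, map_sum]
    simp only [hcompat]
    exact (Equiv.sum_comp φ.toEquiv (fun z => m z (γ x))).symm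
  -- the submodule
  let B : AddSubgroup A := T.ker
  have hmemB : ∀ x, x ∈ B ↔ T x = 0 := fun x => AddMonoidHom.mem_ker
  have hBm : ∀ w x, x ∈ B → m w x ∈ B := by
    intro w x hx
    rw [hmemB] at hx ⊢
    rw [hTm, hx]
  have hBγ : ∀ x, x ∈ B → γ x ∈ B := by
    intro x hx
    rw [hmemB] at hx ⊢
    rw [hTγ, hx, map_zero]
  have hBγi : ∀ (i : ℕ) (x : A), x ∈ B → (γ ^ i) x ∈ B := by
    intro i x hx
    induction i with
    | zero => simpa using hx
    | succ i ih =>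
      rw [pow_succ']
      exact hBγ _ ih
  -- the action on the submodule
  let m' : Z →* AddMonoid.End B :=
    { toFun := fun w => AddMonoidHom.codRestrict ((m w).comp B.subtype) B (fun x => hBm w x x.2)
      map_one' := by
        refine AddMonoidHom.ext fun x => Subtype.ext ?_
        exact hone x
      map_mul' := by
        intro a b
        refine AddMonoidHom.ext fun x => Subtype.ext ?_
        exact hmul a b x }
  have hm' : ∀ w (x : B), ((m' w x : B) : A) = m w x := fun _ _ => rfl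
  -- iterates
  let ψ : ℕ → Z → Z := fun i z => φ^[i] z
  have hψ1 : ∀ i, ψ i 1 = 1 := fun i => iterate_map_one φ.toMonoidHom i
  have hψmul : ∀ i a b, ψ i (a * b) = ψ i a * ψ i b := fun i a b => iterate_map_mul φ.toMonoidHom i a b
  have hψinv : ∀ i a, ψ i a⁻¹ = (ψ i a)⁻¹ := fun i a => iterate_map_inv φ.toMonoidHom i a
  have hγi : ∀ (i : ℕ) z x, (γ ^ i) (m z x) = m (ψ i z) ((γ ^ i) x) := by
    intro i z x
    induction i with
    | zero => simp [ψ]
    | succ i ih =>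
      rw [pow_succ']
      show γ ((γ ^ i) (m z x)) = _
      rw [ih, hcompat]
      show _ = m (φ^[i + 1] z) (γ ((γ ^ i) x))
      rw [Function.iterate_succ_apply']
  have hsep0 : ∀ (i j : ℕ), i < j → j < p → ∀ x : B, x ≠ 0 → ∃ w, m' (ψ i w) x ≠ m' (ψ j w) x := by
    intro i j hij hjp x hx
    set d := j - i with hd
    have hd0 : 0 < d := Nat.sub_pos_of_lt hij
    have hdp : d < p := by omega
    -- an element moving `x`
    have hc₀ : ∃ c₀ : Z, m c₀ x ≠ x := by
      by_contra hcon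
      push_neg at hcon
      have h1 : T x = Nat.card Z • (x : A) := by
        rw [hT]
        simp [hcon, Nat.card_eq_fintype_card]
      have h2 : T x = 0 := (hmemB x).mp x.2
      rw [h2] at h1
      have h3 : ((x : A)) = 0 := by
        have h4 : ((Nat.card Z : ℤ) * Nat.gcdA (Nat.card Z) p + (p : ℤ) * Nat.gcdB (Nat.card Z) p) = 1 := by
          have := Nat.gcd_eq_gcd_ab (Nat.card Z) p
          rw [hZp] at this
          simpa using this.symm
        have e1 : (Nat.card Z : ℤ) • (x : A) = 0 := by rw [natCast_zsmul, ← h1]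
        have e2 : (p : ℤ) • (x : A) = 0 := by rw [natCast_zsmul, hpA]
        calc (x : A) = (1 : ℤ) • (x : A) := (one_smul _ _).symm
          _ = ((Nat.card Z : ℤ) * Nat.gcdA (Nat.card Z) p + (p : ℤ) * Nat.gcdB (Nat.card Z) p) • (x : A) := by rw [h4]
          _ = Nat.gcdA (Nat.card Z) p • ((Nat.card Z : ℤ) • (x : A)) + Nat.gcdB (Nat.card Z) p • ((p : ℤ) • (x : A)) := by
            rw [add_smul, mul_comm, mul_smul, mul_comm (p : ℤ), mul_smul]
          _ = 0 := by rw [e1, e2, smul_zero, smul_zero, add_zero]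
      exact hx (Subtype.ext h3)
    obtain ⟨c₀, hc₀⟩ := hc₀
    -- the map `c ↦ φ^d(c) c⁻¹`
    let τ : Z → Z := fun c => ψ d c * c⁻¹
    have hτinj : Function.Injective τ := by
      intro a b hab
      have h1 : ψ d a * a⁻¹ = ψ d b * b⁻¹ := hab
      have h2 : ψ d (a * b⁻¹) = a * b⁻¹ := by
        rw [hψmul, hψinv]
        calc ψ d a * (ψ d b)⁻¹ = (ψ d a * a⁻¹) * (a * (ψ d b)⁻¹) := by group
          _ = (ψ d b * b⁻¹) * (a * (ψ d b)⁻¹) := by rw [h1]
          _ = a * b⁻¹ := by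
            rw [mul_comm (ψ d b) b⁻¹, mul_comm a (ψ d b)⁻¹, mul_comm a b⁻¹]
            group
      have h3 := iterate_fpf hfpf hp hφp hd0 hdp _ h2
      exact mul_inv_eq_one.mp h3
    have hτsurj : Function.Surjective τ := Finite.surjective_of_injective hτinj
    obtain ⟨c, hc⟩ := hτsurj c₀
    obtain ⟨w, hw⟩ := (φ.surjective.iterate i) c
    refine ⟨w, ?_⟩
    have hψi : ψ i w = c := hw
    have hψj : ψ j w = ψ d c := by
      show φ^[j] w = φ^[d] c
      rw [← hw, ← Function.iterate_add_apply]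
      congr 1
      omega
    have hdc : ψ d c = c₀ * c := by
      rw [← hc]
      show ψ d c = ψ d c * c⁻¹ * c
      group
    rw [hψi, hψj, hdc]
    intro hcon
    have h1 : m c x = m (c₀ * c) x := by
      have := congrArg Subtype.val hcon
      rw [hm', hm'] at this
      exact this
    rw [mul_comm, hmul] at h1
    have h2 : ∀ y : A, m c⁻¹ (m c y) = y := by
      intro y
      rw [← hmul, inv_mul_cancel, hone]
    have h3 : (x : A) = m c₀ x := by
      have := congrArg (m c⁻¹) h1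
      rwa [h2, h2] at this
    exact hc₀ h3.symm
  have hsep : ∀ i ∈ Finset.range p, ∀ j ∈ Finset.range p, i ≠ j → ∀ x : B, x ≠ 0 →
      ∃ w, m' (ψ i w) x ≠ m' (ψ j w) x := by
    intro i hi j hj hij x hx
    rw [Finset.mem_range] at hi hj
    rcases lt_or_gt_of_ne hij with h | h
    · exact hsep0 i j h hj x hx
    · obtain ⟨w, hw⟩ := hsep0 j i h hi x hx
      exact ⟨w, hw.symm⟩
  have hB0 : ∀ x, x ∈ B → x = 0 := by
    intro x₀ hx₀
    by_contra hne
    refine no_relation m' ψ hψ1 hψmul (Finset.range p) hsep p (Finset.range p) (by simp) subset_rfl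
      (fun i => (⟨(γ ^ i) x₀, hBγi i x₀ hx₀⟩ : B)) 0 (Finset.mem_range.mpr hp.pos) ?_ ?_
    · intro h
      apply hne
      have := congrArg Subtype.val h
      simpa using this
    · intro z
      apply Subtype.ext
      rw [AddSubgroup.val_finset_sum]
      have h1 := hnorm (m z x₀)
      refine Eq.trans ?_ h1
      apply Finset.sum_congr rfl
      intro i _
      rw [hγi]
      rfl
  intro z x
  have h1 : m z x - x ∈ B := by
    rw [hmemB, map_sub, hTm, sub_self]
  exact sub_eq_zero.mp (hB0 _ h1)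

section Group

variable {p : ℕ} [hp : Fact p.Prime]

/-- Iterated commutators stay in a normal subgroup. -/
theorem iterCommutator_le {Γ : Type*} [Group Γ] (Y A : Subgroup Γ) (hYn : Y.Normal) (i : ℕ) :
    Cfsg.iterCommutator Y A i ≤ Y := by
  induction i with
  | zero => exact le_rfl
  | succ i ih =>
    show ⁅Cfsg.iterCommutator Y A i, A⁆ ≤ Y
    rw [Subgroup.commutator_le]
    intro c hc b _
    have hc' := ih hc
    have h1 : ⁅c, b⁆ = c * (b * c⁻¹ * b⁻¹) := by
      rw [commutatorElement_def]; group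
    rw [h1]
    exact Y.mul_mem hc' (hYn.conj_mem _ (Y.inv_mem hc') b)

/-- **The Hall–Higman step in a group.** -/
theorem section_hh {Γ : Type*} [Group Γ] [Finite Γ] (Y : Subgroup Γ) (hYn : Y.Normal)
    (hYc : ∀ x ∈ Y, ∀ y ∈ Y, x * y = y * x) (hYp : ∀ y ∈ Y, y ^ p = 1)
    (a : Γ) (ha : Cfsg.iterCommutator Y (Subgroup.zpowers a) (p - 1) = ⊥)
    (M : Subgroup Γ) (haM : ∀ m ∈ M, a * m * a⁻¹ ∈ M)
    (hMc : ∀ x ∈ M, ∀ z ∈ M, ∀ y ∈ Y, (x * z) * y * (x * z)⁻¹ = (z * x) * y * (z * x)⁻¹)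
    {N : ℕ} (hN : N.Coprime p) (hMN : ∀ m ∈ M, ∀ y ∈ Y, m ^ N * y * (m ^ N)⁻¹ = y) :
    ∀ m ∈ M, ∀ y ∈ Y, (a * m * a⁻¹) * y * (a * m * a⁻¹)⁻¹ = m * y * m⁻¹ := by
  classical
  letI inst : CommGroup Y :=
    { (inferInstance : Group Y) with
      mul_comm := fun x y => Subtype.ext (hYc x x.2 y y.2) }
  let A := Additive Y
  let ι : ∀ y : Γ, y ∈ Y → A := fun y hy => Additive.ofMul (⟨y, hy⟩ : Y)
  have hιext : ∀ {x y : Γ} (hx : x ∈ Y) (hy : y ∈ Y), x = y → ι x hx = ι y hy := by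
    intro x y hx hy h
    subst h; rfl
  have hιsurj : ∀ v : A, ∃ y, ∃ hy : y ∈ Y, v = ι y hy := fun v => ⟨_, (Additive.toMul v).2, rfl⟩
  have hιadd : ∀ {x y : Γ} (hx : x ∈ Y) (hy : y ∈ Y), ι x hx + ι y hy = ι (x * y) (Y.mul_mem hx hy) :=
    fun _ _ => rfl
  have hιneg : ∀ {x : Γ} (hx : x ∈ Y), - ι x hx = ι x⁻¹ (Y.inv_mem hx) := fun _ => rfl
  have hιsub : ∀ {x y : Γ} (hx : x ∈ Y) (hy : y ∈ Y),
      ι x hx - ι y hy = ι (x * y⁻¹) (Y.mul_mem hx (Y.inv_mem hy)) := by
    intro x y hx hy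
    rw [sub_eq_add_neg, hιneg, hιadd]
  have hιzero : ∀ {x : Γ} (hx : x ∈ Y), x = 1 → ι x hx = 0 := by
    intro x hx h
    subst h; rfl
  have hιinj : ∀ {x y : Γ} (hx : x ∈ Y) (hy : y ∈ Y), ι x hx = ι y hy → x = y := by
    intro x y hx hy h
    have := congrArg (fun v : A => ((Additive.toMul v : Y) : Γ)) h
    exact this
  let ρf : Γ → AddMonoid.End A := fun g =>
    AddMonoidHom.mk' (fun v => ι (g * ((Additive.toMul v : Y) : Γ) * g⁻¹) (hYn.conj_mem _ (Additive.toMul v).2 g))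
      (by
        intro v w
        rw [hιadd]
        apply hιext
        show g * (((Additive.toMul v : Y) : Γ) * ((Additive.toMul w : Y) : Γ)) * g⁻¹ = _
        group)
  have hρι : ∀ (g y : Γ) (hy : y ∈ Y), ρf g (ι y hy) = ι (g * y * g⁻¹) (hYn.conj_mem _ hy g) := fun _ _ _ => rfl
  let ρ : Γ →* AddMonoid.End A :=
    { toFun := ρf
      map_one' := by
        refine AddMonoidHom.ext fun v => ?_
        obtain ⟨y, hy, rfl⟩ := hιsurj v
        show ρf 1 (ι y hy) = ι y hy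
        rw [hρι]
        apply hιext
        group
      map_mul' := by
        intro g h
        refine AddMonoidHom.ext fun v => ?_
        obtain ⟨y, hy, rfl⟩ := hιsurj v
        show ρf (g * h) (ι y hy) = ρf g (ρf h (ι y hy))
        rw [hρι, hρι, hρι]
        apply hιext
        group }
  have hρι' : ∀ (g y : Γ) (hy : y ∈ Y), ρ g (ι y hy) = ι (g * y * g⁻¹) (hYn.conj_mem _ hy g) := fun _ _ _ => rfl
  have hpA : ∀ x : A, p • x = 0 := by
    intro v
    obtain ⟨y, hy, rfl⟩ := hιsurj v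
    have h1 : p • ι y hy = ι (y ^ p) (Y.pow_mem hy _) := rfl
    rw [h1]
    exact hιzero _ (hYp y hy)
  have hext : ∀ f g : AddMonoid.End A, (∀ (y : Γ) (hy : y ∈ Y), f (ι y hy) = g (ι y hy)) → f = g := by
    intro f g h
    refine AddMonoidHom.ext fun v => ?_
    obtain ⟨y, hy, rfl⟩ := hιsurj v
    exact h y hy
  have hpR : ((p : ℕ) : AddMonoid.End A) = 0 := by
    apply hext
    intro y hy
    show ((p : ℕ) : AddMonoid.End A) (ι y hy) = 0
    rw [AddMonoid.End.natCast_apply]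
    exact hpA _
  -- the unipotent part
  have hu : (ρ a - 1) ^ (p - 1) = 0 := by
    have key : ∀ (i : ℕ) (y : Γ) (hy : y ∈ Y), ∃ w, ∃ hw : w ∈ Y, w ∈ Cfsg.iterCommutator Y (Subgroup.zpowers a) i ∧
        ((ρ a - 1) ^ i) (ι y hy) = ι w hw := by
      intro i y hy
      induction i with
      | zero => exact ⟨y, hy, hy, rfl⟩
      | succ i ih =>
        obtain ⟨w, hw, hw1, hw2⟩ := ih
        have hc : a * w * a⁻¹ * w⁻¹ ∈ Y := Y.mul_mem (hYn.conj_mem _ hw a) (Y.inv_mem hw)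
        refine ⟨a * w * a⁻¹ * w⁻¹, hc, ?_, ?_⟩
        · have h1 : ⁅w, a⁆ ∈ Cfsg.iterCommutator Y (Subgroup.zpowers a) (i + 1) :=
            Subgroup.commutator_mem_commutator hw1 (Subgroup.mem_zpowers a)
          have h2 : a * w * a⁻¹ * w⁻¹ = ⁅w, a⁆⁻¹ := by
            rw [commutatorElement_inv, commutatorElement_def]
          rw [h2]
          exact Subgroup.inv_mem _ h1
        · rw [pow_succ']
          show (ρ a - 1) (((ρ a - 1) ^ i) (ι y hy)) = _
          rw [hw2]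
          show ρ a (ι w hw) - ι w hw = _
          rw [hρι', hιsub]
    apply hext
    intro y hy
    obtain ⟨w, hw, hw1, hw2⟩ := key (p - 1) y hy
    rw [ha, Subgroup.mem_bot] at hw1
    show ((ρ a - 1) ^ (p - 1)) (ι y hy) = 0
    rw [hw2]
    exact hιzero _ hw1
  have hgeom : ∑ i ∈ Finset.range p, (ρ a) ^ i = 0 := by
    rw [geom_sum_eq_sub_one_pow hpR, hu]
  have hnorm : ∀ x, ∑ i ∈ Finset.range p, ((ρ a) ^ i) x = 0 := by
    intro x
    have h1 : (∑ i ∈ Finset.range p, (ρ a) ^ i) x = ∑ i ∈ Finset.range p, ((ρ a) ^ i) x :=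
      AddMonoidHom.finset_sum_apply _ _ _
    rw [← h1, hgeom]
    rfl
  have hapow : (ρ a) ^ p = 1 := by
    have := mul_geom_sum (ρ a) p
    rw [hgeom, mul_zero] at this
    exact (sub_eq_zero.mp this.symm)
  -- the units
  haveI : Finite A := inferInstanceAs (Finite (Additive Y))
  haveI : Finite (AddMonoid.End A) := DFunLike.finite (A →+ A)
  let ρ' : Γ →* (AddMonoid.End A)ˣ := ρ.toHomUnits
  have hρ' : ∀ g, ((ρ' g : (AddMonoid.End A)ˣ) : AddMonoid.End A) = ρ g := fun g => MonoidHom.coe_toHomUnits ρ g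
  set a' := ρ' a with ha'
  have ha'p : a' ^ p = 1 := by
    apply Units.ext
    rw [Units.val_pow_eq_pow_val, ha', hρ', hapow]
    rfl
  let Abar : Subgroup (AddMonoid.End A)ˣ := M.map ρ'
  have hAc : ∀ x ∈ Abar, ∀ y ∈ Abar, x * y = y * x := by
    rintro _ ⟨x, hx, rfl⟩ _ ⟨z, hz, rfl⟩
    rw [← map_mul, ← map_mul]
    apply Units.ext
    rw [hρ', hρ']
    apply hext
    intro y hy
    show ρ (x * z) (ι y hy) = ρ (z * x) (ι y hy)
    rw [hρι', hρι']
    exact hιext _ _ (hMc x hx z hz y hy)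
  have hAN : ∀ x ∈ Abar, x ^ N = 1 := by
    rintro _ ⟨x, hx, rfl⟩
    rw [← map_pow]
    apply Units.ext
    rw [hρ']
    apply hext
    intro y hy
    show ρ (x ^ N) (ι y hy) = ι y hy
    rw [hρι']
    exact hιext _ _ (hMN x hx y hy)
  have hAa : ∀ x ∈ Abar, a' * x * a'⁻¹ ∈ Abar := by
    rintro _ ⟨x, hx, rfl⟩
    refine ⟨a * x * a⁻¹, haM x hx, ?_⟩
    simp only [map_mul, map_inv, ha']
  -- the commutator group
  let Z : Subgroup (AddMonoid.End A)ˣ :=
    { carrier := {z | ∃ x ∈ Abar, z = a' * x * a'⁻¹ * x⁻¹}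
      one_mem' := ⟨1, Abar.one_mem, by group⟩
      mul_mem' := by
        rintro _ _ ⟨x₁, hx₁, rfl⟩ ⟨x₂, hx₂, rfl⟩
        refine ⟨x₁ * x₂, Abar.mul_mem hx₁ hx₂, ?_⟩
        have h1 : x₁⁻¹ * (a' * x₂ * a'⁻¹) = (a' * x₂ * a'⁻¹) * x₁⁻¹ := hAc _ (Abar.inv_mem hx₁) _ (hAa _ hx₂)
        have h2 : (x₁ * x₂)⁻¹ = x₁⁻¹ * x₂⁻¹ := by
          rw [mul_inv_rev]
          exact hAc _ (Abar.inv_mem hx₂) _ (Abar.inv_mem hx₁)
        calc a' * x₁ * a'⁻¹ * x₁⁻¹ * (a' * x₂ * a'⁻¹ * x₂⁻¹)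
            = a' * x₁ * a'⁻¹ * (x₁⁻¹ * (a' * x₂ * a'⁻¹)) * x₂⁻¹ := by group
          _ = a' * x₁ * a'⁻¹ * ((a' * x₂ * a'⁻¹) * x₁⁻¹) * x₂⁻¹ := by rw [h1]
          _ = a' * (x₁ * x₂) * a'⁻¹ * (x₁⁻¹ * x₂⁻¹) := by group
          _ = _ := by rw [h2]
      inv_mem' := by
        rintro _ ⟨x, hx, rfl⟩
        refine ⟨x⁻¹, Abar.inv_mem hx, ?_⟩
        have h1 : x * (a' * x⁻¹ * a'⁻¹) = (a' * x⁻¹ * a'⁻¹) * x := hAc _ hx _ (hAa _ (Abar.inv_mem hx))
        calc (a' * x * a'⁻¹ * x⁻¹)⁻¹ = x * (a' * x⁻¹ * a'⁻¹) := by group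
          _ = (a' * x⁻¹ * a'⁻¹) * x := h1
          _ = _ := by group }
  have hZmem : ∀ z, z ∈ Z ↔ ∃ x ∈ Abar, z = a' * x * a'⁻¹ * x⁻¹ := fun _ => Iff.rfl
  have hZA : ∀ z ∈ Z, z ∈ Abar := by
    rintro _ ⟨x, hx, rfl⟩
    exact Abar.mul_mem (hAa x hx) (Abar.inv_mem hx)
  have hZa : ∀ z ∈ Z, (MulAut.conj a') z ∈ Z := by
    rintro _ ⟨x, hx, rfl⟩
    refine ⟨a' * x * a'⁻¹, hAa x hx, ?_⟩
    rw [MulAut.conj_apply]
    group
  let φ : Z ≃* Z := Cfsg.Agent.Lib.Kegel.restr (MulAut.conj a') Z hZa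
  have hφc : ∀ z : Z, ((φ z : Z) : (AddMonoid.End A)ˣ) = a' * z * a'⁻¹ := fun _ => rfl
  have hφiter : ∀ (i : ℕ) (z : Z), ((φ^[i] z : Z) : (AddMonoid.End A)ˣ) = a' ^ i * z * (a' ^ i)⁻¹ := by
    intro i z
    induction i with
    | zero => simp
    | succ i ih =>
      rw [Function.iterate_succ_apply', hφc, ih, pow_succ']
      group
  have hφp : ∀ z, φ^[p] z = z := by
    intro z
    apply Subtype.ext
    rw [hφiter, ha'p]
    simp
  have hfpf : ∀ z, φ z = z → z = 1 := by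
    rintro ⟨z, hz⟩ hfix
    obtain ⟨x, hx, hzx⟩ := id hz
    have hfix' : a' * z * a'⁻¹ = z := congrArg Subtype.val hfix
    have hfixn : ∀ n : ℕ, a' ^ n * z * (a' ^ n)⁻¹ = z := by
      intro n
      induction n with
      | zero => simp
      | succ n ih =>
        calc a' ^ (n + 1) * z * (a' ^ (n + 1))⁻¹ = a' ^ n * (a' * z * a'⁻¹) * (a' ^ n)⁻¹ := by
              rw [pow_succ]; group
          _ = z := by rw [hfix', ih]
    have hzn : ∀ n : ℕ, z ^ n = a' ^ n * x * (a' ^ n)⁻¹ * x⁻¹ := by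
      intro n
      induction n with
      | zero => simp
      | succ n ih =>
        calc z ^ (n + 1) = z * z ^ n := pow_succ' z n
          _ = (a' ^ n * z * (a' ^ n)⁻¹) * (a' ^ n * x * (a' ^ n)⁻¹ * x⁻¹) := by rw [hfixn n, ih]
          _ = (a' ^ n * (a' * x * a'⁻¹ * x⁻¹) * (a' ^ n)⁻¹) * (a' ^ n * x * (a' ^ n)⁻¹ * x⁻¹) := by rw [hzx]
          _ = a' ^ (n + 1) * x * (a' ^ (n + 1))⁻¹ * x⁻¹ := by rw [pow_succ]; group
    have h1 : z ^ p = 1 := by
      rw [hzn, ha'p]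
      group
    have h2 : z ^ N = 1 := hAN z (hZA z hz)
    have h3 : orderOf z = 1 := by
      have h4 := Nat.dvd_gcd (orderOf_dvd_of_pow_eq_one h2) (orderOf_dvd_of_pow_eq_one h1)
      rw [hN] at h4
      exact Nat.dvd_one.mp h4
    apply Subtype.ext
    exact orderOf_eq_one_iff.mp h3
  have hZp : (Nat.card Z).Coprime p := by
    rw [Nat.coprime_comm, Nat.Prime.coprime_iff_not_dvd hp.out]
    intro hd
    obtain ⟨z, hz⟩ := exists_prime_orderOf_dvd_card' p hd
    have h1 : (z : (AddMonoid.End A)ˣ) ^ N = 1 := hAN _ (hZA _ z.2)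
    have h2 : orderOf (z : (AddMonoid.End A)ˣ) = p := by rw [Subgroup.orderOf_coe, hz]
    have h3 := orderOf_dvd_of_pow_eq_one h1
    rw [h2] at h3
    exact (Nat.Prime.coprime_iff_not_dvd hp.out).mp hN.symm h3
  have hZc : ∀ x y : Z, x * y = y * x := fun x y => Subtype.ext (hAc _ (hZA _ x.2) _ (hZA _ y.2))
  let m : Z →* AddMonoid.End A := (Units.coeHom (AddMonoid.End A)).comp Z.subtype
  have hm : ∀ z : Z, m z = ((z : (AddMonoid.End A)ˣ) : AddMonoid.End A) := fun _ => rfl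
  have hcompat : ∀ z x, (ρ a) (m z x) = m (φ z) ((ρ a) x) := by
    intro z x
    have h1 : (ρ a) * m z = m (φ z) * (ρ a) := by
      rw [hm, hm, hφc, ← hρ' a]
      have h2 : a' * (z : (AddMonoid.End A)ˣ) = (a' * z * a'⁻¹) * a' := by group
      exact congrArg Units.val h2
    exact congrArg (fun f : AddMonoid.End A => f x) h1
  have hh := hh_core hp.out hpA hZc hZp m (ρ a) hnorm φ hφp hcompat hfpf
  have hZ1 : ∀ z ∈ Z, z = 1 := by
    intro z hz
    apply Units.ext
    refine AddMonoidHom.ext fun x => ?_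
    exact hh ⟨z, hz⟩ x
  intro c hc y hy
  have h1 := hZ1 _ ⟨ρ' c, ⟨c, hc, rfl⟩, rfl⟩
  have h2 : a' * ρ' c * a'⁻¹ = ρ' c := mul_inv_eq_one.mp h1
  have h3 : ρ' (a * c * a⁻¹) = ρ' c := by
    simp only [map_mul, map_inv]
    exact h2
  have h4 := congrArg (fun u : (AddMonoid.End A)ˣ => (u : AddMonoid.End A) (ι y hy)) h3
  simp only [hρ', hρι'] at h4
  exact hιinj _ _ h4

end Group

end Cfsg.Agent.Lib.HallHigmanAb
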