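import Mathlib
import Cfsg.Prelude.Def_Local
import Cfsg.Agent.Lib.PCore
import Cfsg.Agent.Lib.PSolv
import Cfsg.Agent.Lib.SuperSolv2
import Cfsg.Agent.S0579

/-!
# Groups whose maximal subgroups are `p`-nilpotent or of prime index

For a `p`-solvable group with this property the quotient by `O_{p',p}(G)` is `p`-nilpotent.
-/

set_option autoImplicit false

open Cfsg Cfsg.Agent.Lib.PCore Cfsg.Agent.Lib.PSolv
open scoped commutatorElement

namespace Cfsg.Agent.Lib.MaxPNilp

universe u v

variable {G : Type u} [Group G] {H : Type v} [Group H]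

/-- An abelian finite group with trivial `O_{p'}` is a `p`-group. -/
theorem isPGroup_of_comm [Finite G] (p : ℕ) [hp : Fact p.Prime] (hc : ∀ a b : G, a * b = b * a)
    (h : pPrimeCore p G = ⊥) : IsPGroup p G := by
  intro g
  have hn : orderOf g ≠ 0 := (orderOf_pos g).ne'
  obtain ⟨a, m, hm, hmeq⟩ := Nat.exists_eq_pow_mul_and_not_dvd hn p hp.out.ne_one
  refine ⟨a, ?_⟩
  set y := g ^ p ^ a with hy
  have hym : y ^ m = 1 := by
    rw [hy, ← pow_mul, ← hmeq, pow_orderOf_eq_one]
  have hnormal : (Subgroup.zpowers y).Normal := by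
    constructor
    intro n hn x
    have : x * n * x⁻¹ = n := by
      rw [hc x n, mul_assoc, mul_inv_cancel, mul_one]
    rwa [this]
  have hcard : (Nat.card (Subgroup.zpowers y)).Coprime p := by
    rw [Nat.card_zpowers]
    have hd : orderOf y ∣ m := orderOf_dvd_of_pow_eq_one hym
    have : m.Coprime p := ((Nat.Prime.coprime_iff_not_dvd hp.out).mpr hm).symm
    exact Nat.Coprime.coprime_dvd_left hd this
  have hle := le_pPrimeCore hnormal hcard
  rw [h] at hle
  have : y ∈ (⊥ : Subgroup G) := hle (Subgroup.mem_zpowers y)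
  exact Subgroup.mem_bot.mp this

/-- A nilpotent normal subgroup of a group with trivial `O_p` has order prime to `p`. -/
theorem coprime_of_nilpotent_normal [Finite G] (p : ℕ) [hp : Fact p.Prime] (hO : pCore p G = ⊥)
    (N : Subgroup G) [hN : N.Normal] (hnil : Group.IsNilpotent N) : (Nat.card N).Coprime p := by
  apply Nat.Coprime.symm
  rw [Nat.Prime.coprime_iff_not_dvd hp.out]
  intro hdvd
  have hsyl := ((Group.isNilpotent_of_finite_tfae (G := N)).out 0 3).mp hnil
  let P : Sylow p N := default
  have hPn : (P : Subgroup N).Normal := hsyl p inferInstance P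
  have hpc : pCore p N = ⊥ := by
    have h1 := map_pCore_of_normal (G := G) p N
    rw [hO, inf_bot_eq] at h1
    exact (Subgroup.map_eq_bot_iff_of_injective _ N.subtype_injective).mp h1
  have hle : (P : Subgroup N) ≤ pCore p N := le_pCore hPn P.isPGroup'
  rw [hpc] at hle
  have hbot : (P : Subgroup N) = ⊥ := le_bot_iff.mp hle
  have h2 := P.pow_dvd_card_of_pow_dvd_card (n := 1) (by simpa using hdvd)
  rw [hbot] at h2
  simp only [pow_one, Subgroup.card_bot] at h2
  exact hp.out.one_lt.ne' (Nat.dvd_one.mp h2)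

/-- The key lemma: `O_p(H) = 1` and every maximal subgroup a `p`-group or of prime index. -/
theorem isPGroup_quotient_core [Finite H] (p : ℕ) [hp : Fact p.Prime] (hsol : IsPSolvable p H)
    (hO : pCore p H = ⊥) (hmax : ∀ M : Subgroup H, IsCoatom M → IsPGroup p M ∨ M.index.Prime) :
    IsPGroup p (H ⧸ pPrimeCore p H) := by
  by_cases hall : ∀ M : Subgroup H, IsCoatom M → M.index.Prime
  · have hss : Cfsg.IsSupersolvable H := Cfsg.Agent.S0579.result hall
    have hnil := Cfsg.Agent.Lib.SuperSolv2.isNilpotent_commutator hss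
    have hcop := coprime_of_nilpotent_normal p hO (commutator H) hnil
    have hle : commutator H ≤ pPrimeCore p H := le_pPrimeCore inferInstance hcop
    apply isPGroup_of_comm p _ (pPrimeCore_quotient_pPrimeCore p)
    intro a b
    induction a using QuotientGroup.induction_on with
    | H a =>
      induction b using QuotientGroup.induction_on with
      | H b =>
        rw [← QuotientGroup.mk_mul, ← QuotientGroup.mk_mul, QuotientGroup.eq]
        apply hle
        have h1 : (a * b)⁻¹ * (b * a) = ⁅b⁻¹, a⁻¹⁆ := by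
          simp [commutatorElement_def, mul_assoc]
        rw [h1]
        exact Subgroup.commutator_mem_commutator (Subgroup.mem_top _) (Subgroup.mem_top _)
  · push Not at hall
    obtain ⟨M, hM, hMp⟩ := hall
    have hMP : IsPGroup p M := (hmax M hM).resolve_right hMp
    have hT : pPrimeCore p H ≠ ⊥ := by
      intro hT
      have h1 := centralizer_pCore_le_of_pSolvable hsol hT
      rw [hO] at h1
      have h2 : Subgroup.centralizer (((⊥ : Subgroup H)) : Set H) = ⊤ := by simp
      rw [h2] at h1
      have h3 : (⊤ : Subgroup H) = ⊥ := le_bot_iff.mp h1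
      apply hM.1
      rw [eq_top_iff, h3]
      exact bot_le
    have hnot : ¬ pPrimeCore p H ≤ M := by
      intro hle
      apply hT
      apply eq_bot_of_isPGroup_of_coprime _ (card_pPrimeCore_coprime p)
      exact hMP.to_le hle
    have hsup : M ⊔ pPrimeCore p H = ⊤ := by
      apply hM.2
      exact lt_of_le_of_ne le_sup_left (fun h => hnot (by rw [h]; exact le_sup_right))
    let φ : M →* H ⧸ pPrimeCore p H := (QuotientGroup.mk' (pPrimeCore p H)).comp M.subtype
    have hφ : Function.Surjective φ := by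
      intro y
      induction y using QuotientGroup.induction_on with
      | H x =>
        have hx : x ∈ ((M ⊔ pPrimeCore p H : Subgroup H) : Set H) := by rw [hsup]; trivial
        rw [Subgroup.mul_normal] at hx
        obtain ⟨m, hm, t, ht, rfl⟩ := hx
        refine ⟨⟨m, hm⟩, ?_⟩
        show (QuotientGroup.mk m : H ⧸ pPrimeCore p H) = QuotientGroup.mk (m * t)
        rw [QuotientGroup.eq]
        simpa using ht
    exact hMP.of_surjective φ hφ

/-- Pull back of a coatom along a surjection. -/
theorem isCoatom_comap (f : G →* H) (hf : Function.Surjective f) {M : Subgroup H}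
    (hM : IsCoatom M) : IsCoatom (M.comap f) := by
  constructor
  · intro h
    apply hM.1
    rw [eq_top_iff]
    intro y _
    obtain ⟨x, rfl⟩ := hf y
    have : x ∈ M.comap f := by rw [h]; trivial
    exact this
  · intro X hX
    have hker : f.ker ≤ X := le_trans (MonoidHom.ker_le_comap f M) hX.le
    have hmapeq : (X.map f).comap f = X := Subgroup.comap_map_eq_self hker
    have h1 : M ≤ X.map f := by
      intro y hy
      obtain ⟨x, rfl⟩ := hf y
      exact ⟨x, hX.le hy, rfl⟩
    have h2 : M ≠ X.map f := by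
      intro h
      apply hX.ne
      rw [h, hmapeq]
    have h3 : X.map f = ⊤ := hM.2 _ (lt_of_le_of_ne h1 h2)
    rw [← hmapeq, h3, Subgroup.comap_top]

/-- Main theorem: the chain `O_{p'} ≤ O_{p',p} ≤ C ≤ G` with `G/C` a `p`-group. -/
theorem main {G : Type u} [Group G] [Finite G] (p : ℕ) [hp : Fact p.Prime] (hsol : IsPSolvable p G)
    (hmax : ∀ M : Subgroup G, IsCoatom M →
      (∃ K : Subgroup ↥M, K.Normal ∧ ¬ p ∣ Nat.card K ∧ ∃ k : ℕ, K.index = p ^ k) ∨ (M.index).Prime) :
    ∃ A B C : Subgroup G, A.Normal ∧ B.Normal ∧ C.Normal ∧ A ≤ B ∧ B ≤ C ∧ ¬ p ∣ Nat.card A ∧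
      (∃ k : ℕ, A.relIndex B = p ^ k) ∧ ¬ p ∣ B.relIndex C ∧ ∃ k : ℕ, C.index = p ^ k := by
  let f1 := QuotientGroup.mk' (pPrimeCore p G)
  have hf1 : Function.Surjective f1 := QuotientGroup.mk'_surjective _
  have hsolb : IsPSolvable p (G ⧸ pPrimeCore p G) := isPSolvable_quotient hsol _
  let N := pCore p (G ⧸ pPrimeCore p G)
  let f2 := QuotientGroup.mk' N
  have hf2 : Function.Surjective f2 := QuotientGroup.mk'_surjective _
  have hsolH : IsPSolvable p ((G ⧸ pPrimeCore p G) ⧸ N) := isPSolvable_quotient hsolb _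
  have hO : pCore p ((G ⧸ pPrimeCore p G) ⧸ N) = ⊥ := pCore_quotient_pCore p
  have hCent : Subgroup.centralizer (N : Set (G ⧸ pPrimeCore p G)) ≤ N :=
    centralizer_pCore_le_of_pSolvable hsolb (pPrimeCore_quotient_pPrimeCore p)
  have hNp : IsPGroup p N := isPGroup_pCore p
  let f : G →* (G ⧸ pPrimeCore p G) ⧸ N := f2.comp f1
  have hf : Function.Surjective f := hf2.comp hf1
  have hmaxH : ∀ M0 : Subgroup ((G ⧸ pPrimeCore p G) ⧸ N), IsCoatom M0 →
      IsPGroup p M0 ∨ M0.index.Prime := by
    intro M0 hM0
    have hMc := isCoatom_comap f hf hM0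
    rcases hmax _ hMc with ⟨K, hKn, hKp, k, hk⟩ | hprime
    · left
      -- `K` dies in `G ⧸ O_{p'}`
      let L : Subgroup (G ⧸ pPrimeCore p G) := (K.map (M0.comap f).subtype).map f1
      have hLcard : (Nat.card L).Coprime p := by
        have h1 : Nat.card L ∣ Nat.card K := by
          have h2 : Nat.card L ∣ Nat.card (K.map (M0.comap f).subtype) := Subgroup.card_map_dvd _ _
          have h3 : Nat.card (K.map (M0.comap f).subtype) = Nat.card K :=
            Nat.card_congr (Subgroup.equivMapOfInjective K (M0.comap f).subtype (M0.comap f).subtype_injective).symm.toEquiv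
          rwa [h3] at h2
        refine Nat.Coprime.coprime_dvd_left h1 ?_
        exact ((Nat.Prime.coprime_iff_not_dvd hp.out).mpr hKp).symm
      have hLN : L ⊓ N = ⊥ := by
        apply eq_bot_of_isPGroup_of_coprime (hNp.to_le inf_le_right)
        exact Nat.Coprime.coprime_dvd_left (Subgroup.card_dvd_of_le inf_le_left) hLcard
      have hnorm : ∀ n ∈ N, ∀ l ∈ L, n * l * n⁻¹ ∈ L := by
        intro n hn l hl
        obtain ⟨g, rfl⟩ := hf1 n
        obtain ⟨_, ⟨k', hk', rfl⟩, rfl⟩ := hl
        have hgM : g ∈ M0.comap f := by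
          show f g ∈ M0
          have : f g = 1 := by
            show f2 (f1 g) = 1
            exact (QuotientGroup.eq_one_iff _).mpr hn
          rw [this]
          exact M0.one_mem
        refine ⟨_, ⟨(⟨g, hgM⟩ : M0.comap f) * k' * (⟨g, hgM⟩ : M0.comap f)⁻¹, hKn.conj_mem k' hk' _, rfl⟩, ?_⟩
        simp [map_mul, map_inv]
      have hLcomm : L ≤ N := by
        intro l hl
        apply hCent
        rw [Subgroup.mem_centralizer_iff]
        intro n hn
        have h1 : n * l * n⁻¹ * l⁻¹ ∈ L := L.mul_mem (hnorm n hn l hl) (L.inv_mem hl)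
        have h2 : n * l * n⁻¹ * l⁻¹ ∈ N := by
          have h3 : l * n⁻¹ * l⁻¹ ∈ N := (inferInstance : N.Normal).conj_mem _ (N.inv_mem hn) l
          have h4 : n * l * n⁻¹ * l⁻¹ = n * (l * n⁻¹ * l⁻¹) := by group
          rw [h4]
          exact N.mul_mem hn h3
        have h5 : n * l * n⁻¹ * l⁻¹ ∈ L ⊓ N := ⟨h1, h2⟩
        rw [hLN, Subgroup.mem_bot] at h5
        have h6 : n * l * n⁻¹ = l := by
          rwa [mul_inv_eq_one] at h5
        rw [mul_inv_eq_iff_eq_mul] at h6
        exact h6
      have hLbot : L = ⊥ := by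
        rw [eq_bot_iff, ← hLN]
        exact le_inf le_rfl hLcomm
      have hKdead : ∀ x ∈ K, f ((x : M0.comap f) : G) = 1 := by
        intro x hx
        have h1 : f1 ((x : M0.comap f) : G) ∈ L := ⟨_, ⟨x, hx, rfl⟩, rfl⟩
        rw [hLbot, Subgroup.mem_bot] at h1
        show f2 (f1 _) = 1
        rw [h1, map_one]
      -- `M0` is a quotient of `M ⧸ K`
      have := hKn
      let φ : (M0.comap f) →* M0 := (f.comp (M0.comap f).subtype).codRestrict M0 (fun x => x.2)
      have hφ : Function.Surjective φ := by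
        rintro ⟨y, hy⟩
        obtain ⟨x, rfl⟩ := hf y
        exact ⟨⟨x, hy⟩, rfl⟩
      have hkerφ : ∀ x ∈ K, φ x = 1 := by
        intro x hx
        apply Subtype.ext
        exact hKdead x hx
      let ψ : (M0.comap f) ⧸ K →* M0 := QuotientGroup.lift K φ hkerφ
      have hψ : Function.Surjective ψ := by
        intro y
        obtain ⟨x, rfl⟩ := hφ y
        exact ⟨QuotientGroup.mk x, rfl⟩
      have hpq : IsPGroup p ((M0.comap f) ⧸ K) := by
        apply IsPGroup.of_card (n := k)
        rw [← hk, Subgroup.index_eq_card]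
      exact hpq.of_surjective ψ hψ
    · right
      rwa [Subgroup.index_comap_of_surjective _ hf] at hprime
  have hkey := isPGroup_quotient_core p hsolH hO hmaxH
  set T := pPrimeCore p ((G ⧸ pPrimeCore p G) ⧸ N) with hT
  have hker1 : f1.ker = pPrimeCore p G := QuotientGroup.ker_mk' _
  refine ⟨pPrimeCore p G, f.ker, T.comap f, inferInstance, inferInstance,
    Subgroup.Normal.comap inferInstance f, ?_, MonoidHom.ker_le_comap f T,
    not_dvd_card_pPrimeCore p, ?_, ?_, ?_⟩
  · intro x hx
    have : f1 x = 1 := (QuotientGroup.eq_one_iff _).mpr hx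
    show f2 (f1 x) = 1
    rw [this, map_one]
  · have h1 : (pPrimeCore p G).relIndex f.ker = Nat.card (f.ker.map f1) := by
      have := Subgroup.relIndex_ker f.ker f1
      rwa [hker1] at this
    have h2 : f.ker.map f1 ≤ N := by
      rintro _ ⟨x, hx, rfl⟩
      exact (QuotientGroup.eq_one_iff _).mp hx
    obtain ⟨k, hk⟩ := IsPGroup.iff_card.mp (hNp.to_le h2)
    exact ⟨k, by rw [h1, hk]⟩
  · rw [Subgroup.relIndex_ker]
    have h2 : (T.comap f).map f ≤ T := Subgroup.map_comap_le _ _
    have h3 : Nat.card ((T.comap f).map f : Subgroup _) ∣ Nat.card T := Subgroup.card_dvd_of_le h2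
    intro h4
    exact not_dvd_card_pPrimeCore p (h4.trans h3)
  · rw [Subgroup.index_comap_of_surjective _ hf, Subgroup.index_eq_card]
    exact IsPGroup.iff_card.mp hkey

/-- Extension: a normal subgroup whose order is a `p`-power or prime to `p`, with `p`-solvable quotient. -/
theorem isPSolvable_of_quotient (p : ℕ) (N : Subgroup G) [hN : N.Normal]
    (hcard : (∃ m : ℕ, Nat.card N = p ^ m) ∨ (Nat.card N).Coprime p) (hQ : IsPSolvable p (G ⧸ N)) :
    IsPSolvable p G := by
  obtain ⟨n, K, h0, hlast, hmono, hnorm, hidx⟩ := hQ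
  let π := QuotientGroup.mk' N
  have hπ : Function.Surjective π := QuotientGroup.mk'_surjective N
  refine ⟨n + 1, Fin.cons ⊥ (fun i => (K i).comap π), rfl, ?_, ?_, ?_, ?_⟩
  · rw [← Fin.succ_last, Fin.cons_succ, hlast, Subgroup.comap_top]
  · rw [Fin.monotone_iff_le_succ]
    intro i
    refine Fin.cases ?_ (fun j => ?_) i
    · simp
    · have h1 : (j.succ.castSucc : Fin (n + 2)) = (j.castSucc).succ := rfl
      rw [h1, Fin.cons_succ, Fin.cons_succ]
      exact Subgroup.comap_mono (hmono (Fin.castSucc_lt_succ).le)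
  · intro i
    refine Fin.cases ?_ (fun j => ?_) i
    · simp only [Fin.cons_zero]
      infer_instance
    · rw [Fin.cons_succ]
      exact Subgroup.Normal.comap (hnorm j) π
  · intro i
    refine Fin.cases ?_ (fun j => ?_) i
    · have h1 : ((0 : Fin (n + 1)).castSucc : Fin (n + 2)) = 0 := rfl
      have h2 : ((0 : Fin (n + 1)).succ : Fin (n + 2)) = (0 : Fin (n + 1)).succ := rfl
      rw [h1, Fin.cons_succ, Fin.cons_zero, h0]
      have h3 : ((⊥ : Subgroup (G ⧸ N)).comap π) = N := by
        ext x
        simp only [Subgroup.mem_comap, Subgroup.mem_bot]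
        exact QuotientGroup.eq_one_iff x
      rw [h3, Subgroup.relIndex_bot_left]
      exact hcard.imp id id
    · have h1 : (j.succ.castSucc : Fin (n + 2)) = (j.castSucc).succ := rfl
      rw [h1, Fin.cons_succ, Fin.cons_succ, Subgroup.relIndex_comap,
        Subgroup.map_comap_eq_self_of_surjective hπ]
      exact hidx j

/-- A solvable group is `p`-solvable for each prime `p`. -/
theorem isPSolvable_of_isSolvable {G : Type u} [Group G] [Finite G] (p : ℕ) [hp : Fact p.Prime]
    (hG : Group.IsSolvable G) : IsPSolvable p G := by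
  induction' hc : Nat.card G using Nat.strong_induction_on with c ih generalizing G
  rcases subsingleton_or_nontrivial G with hs | hnt
  · refine ⟨0, fun _ => ⊥, rfl, Subsingleton.elim _ _, monotone_const, fun _ => inferInstance, ?_⟩
    intro i
    exact i.elim0
  · obtain ⟨q, hq, hne⟩ := exists_pCore_ne_bot (G := G)
    have : Fact q.Prime := ⟨hq⟩
    have hlt : Nat.card (G ⧸ pCore q G) < c := by
      rw [← hc]
      exact Cfsg.Agent.Lib.SuperSolv2.card_quotient_lt _ hne
    have hQ : IsPSolvable p (G ⧸ pCore q G) := ih _ hlt inferInstance rfl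
    refine isPSolvable_of_quotient p (pCore q G) ?_ hQ
    obtain ⟨k, hk⟩ := IsPGroup.iff_card.mp (isPGroup_pCore (G := G) q)
    by_cases hqp : q = p
    · subst hqp
      exact Or.inl ⟨k, hk⟩
    · right
      rw [hk]
      exact Nat.Coprime.pow_left k ((Nat.coprime_primes hq hp.out).mpr hqp)

end Cfsg.Agent.Lib.MaxPNilp
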