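import Mathlib
import Cfsg.Agent.Lib.HallHigmanAb
import Cfsg.Agent.Lib.BurnsideAut
import Cfsg.Agent.Lib.PSolv
import Cfsg.Agent.Lib.PLengthOne
import Cfsg.Agent.Lib.MaxPNilp
import Cfsg.Agent.Lib.BurnsidePQ
import Cfsg.Agent.Lib.Frat

/-!
# Groups of exponent dividing six have `2`-length and `3`-length at most one.
-/

set_option autoImplicit false
set_option linter.style.haveILetI false

open Cfsg Cfsg.Agent.Lib.PCore Cfsg.Agent.Lib.PSolv
open scoped commutatorElement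

namespace Cfsg.Agent.Lib.ExpSix

universe u

section basic

variable {G : Type u} [Group G]

/-- An element of `p`-power order whose `(p r)`-th power is trivial (`r` prime to `p`) has
`p`-th power trivial. -/
theorem pow_eq_one_of_pgroup {p r k : ℕ} (hp : p.Prime) (hr : r.Coprime p) {y : G}
    (h1 : y ^ (r * p) = 1) (h2 : y ^ p ^ k = 1) : y ^ p = 1 := by
  have h3 : orderOf y ∣ r * p := orderOf_dvd_of_pow_eq_one h1
  have h4 : orderOf y ∣ p ^ k := orderOf_dvd_of_pow_eq_one h2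
  have h5 : (orderOf y).Coprime r := Nat.Coprime.coprime_dvd_left h4 (Nat.Coprime.pow_left _ hr.symm)
  exact orderOf_dvd_iff_pow_eq_one.mp (h5.dvd_of_dvd_mul_left h3)

theorem card_exp_six [Finite G] (h : ∀ x : G, x ^ 6 = 1) : ∃ a b, Nat.card G = 2 ^ a * 3 ^ b := by
  have hne : Nat.card G ≠ 0 := Nat.card_pos.ne'
  have hprime : ∀ r : ℕ, r.Prime → r ∣ Nat.card G → r = 2 ∨ r = 3 := by
    intro r hr hd
    haveI : Fact r.Prime := ⟨hr⟩
    obtain ⟨x, hx⟩ := exists_prime_orderOf_dvd_card' r hd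
    have h1 : r ∣ 6 := hx ▸ orderOf_dvd_of_pow_eq_one (h x)
    have h2 : r ∣ 2 * 3 := h1
    rcases (Nat.Prime.dvd_mul hr).mp h2 with h3 | h3
    · exact Or.inl ((Nat.prime_dvd_prime_iff_eq hr Nat.prime_two).mp h3)
    · exact Or.inr ((Nat.prime_dvd_prime_iff_eq hr Nat.prime_three).mp h3)
  obtain ⟨a, m, hm, ha⟩ := Nat.exists_eq_pow_mul_and_not_dvd hne 2 (by norm_num)
  have hm0 : m ≠ 0 := by
    rintro rfl
    simp at hm
  obtain ⟨b, m', hm', hb⟩ := Nat.exists_eq_pow_mul_and_not_dvd hm0 3 (by norm_num)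
  refine ⟨a, b, ?_⟩
  have hm'1 : m' = 1 := by
    by_contra hne1
    obtain ⟨r, hr, hrd⟩ := Nat.exists_prime_and_dvd hne1
    have hrG : r ∣ Nat.card G := by
      rw [ha, hb]
      exact Dvd.dvd.mul_left (Dvd.dvd.mul_left hrd _) _
    rcases hprime r hr hrG with rfl | rfl
    · apply hm
      rw [hb]
      exact Dvd.dvd.mul_left hrd _
    · exact hm' hrd
  rw [ha, hb, hm'1, mul_one]

theorem solvable_exp_six [Finite G] (h : ∀ x : G, x ^ 6 = 1) : Group.IsSolvable G :=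
  Cfsg.Agent.Lib.BurnsidePQ.isSolvable_of_card_eq 2 3 Nat.prime_two Nat.prime_three _ G rfl (card_exp_six h)

/-- Exponent six passes to quotients. -/
theorem exp_six_quot (h : ∀ x : G, x ^ 6 = 1) (N : Subgroup G) [N.Normal] (x : G ⧸ N) : x ^ 6 = 1 := by
  induction x using QuotientGroup.induction_on with
  | H x =>
  rw [← QuotientGroup.mk_pow, h x]
  rfl

/-- Reduction of the statement to the `O_{p'}`-quotient. -/
theorem plength_of_core [Finite G] (p : ℕ) [Fact p.Prime] (k : ℕ) (hk : k % p = 1) (hpk : 6 ∣ k * p)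
    (h : ∀ x : G, x ^ 6 = 1)
    (hA : ∀ x : G ⧸ pPrimeCore p G, x ^ p = 1 → x ∈ pCore p (G ⧸ pPrimeCore p G)) :
    PLengthLE p 1 G := by
  show (upperPSeries p G (2 * 1 + 1)).1 = ⊤
  have key : ∀ N : Subgroup G, ∀ hN : N.Normal, N = pPrimePCore p G →
      (pPrimeCore p (G ⧸ N)).comap (QuotientGroup.mk' N) = ⊤ := by
    intro N hN hNeq
    have hc : (Nat.card (G ⧸ N)).Coprime p := by
      rw [Nat.coprime_comm, Nat.Prime.coprime_iff_not_dvd Fact.out]
      intro hd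
      obtain ⟨y, hy⟩ := exists_prime_orderOf_dvd_card' p hd
      induction y using QuotientGroup.induction_on with
      | H g =>
      -- the power `g ^ k`
      have h1 : (g ^ k) ^ p = 1 := by
        obtain ⟨c, hc⟩ := hpk
        rw [← pow_mul, hc, pow_mul, h g, one_pow]
      have h2 : ((QuotientGroup.mk (g ^ k) : G ⧸ pPrimeCore p G)) ^ p = 1 := by
        rw [← QuotientGroup.mk_pow, h1]
        rfl
      have h3 : g ^ k ∈ N := by
        rw [hNeq]
        exact hA _ h2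
      have h4 : ((g : G ⧸ N)) ^ k = 1 := by
        rw [← QuotientGroup.mk_pow]
        exact (QuotientGroup.eq_one_iff _).mpr h3
      have h5 : p ∣ k := by
        rw [← hy]
        exact orderOf_dvd_of_pow_eq_one h4
      have h6 : k % p = 0 := Nat.mod_eq_zero_of_dvd h5
      omega
    have h2 : pPrimeCore p (G ⧸ N) = ⊤ := by
      rw [eq_top_iff]
      have h3 : (⊤ : Subgroup (G ⧸ N)) ≤ pPrimeCore p (G ⧸ N) := by
        apply le_pPrimeCore inferInstance
        exact Nat.Coprime.coprime_dvd_left (Subgroup.card_subgroup_dvd_card _) hc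
      exact h3
    rw [h2, Subgroup.comap_top]
  have h1 := upperPSeries_succ_of_even p G (n := 2) (by decide)
  have h2 := key (upperPSeries p G 2).1 (upperPSeries p G 2).2 (Cfsg.Agent.Lib.PLengthOne.upperPSeries_two_eq p G)
  rw [h1]
  exact h2

/-- The case `p = 2`. -/
theorem core_two [Finite G] (h : ∀ x : G, x ^ 6 = 1) (hcore : pPrimeCore 2 G = ⊥) (x : G) (hx : x ^ 2 = 1) :
    x ∈ pCore 2 G := by
  classical
  haveI : Fact (Nat.Prime 2) := ⟨Nat.prime_two⟩
  have hsol := solvable_exp_six h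
  have hC : Subgroup.centralizer (pCore 2 G : Set G) ≤ pCore 2 G :=
    centralizer_pCore_le_of_pSolvable (Cfsg.Agent.Lib.MaxPNilp.isPSolvable_of_isSolvable 2 hsol) hcore
  apply hC
  have hxp : IsPGroup 2 (Subgroup.zpowers x) := by
    rw [IsPGroup.iff_card, Nat.card_zpowers]
    have h1 : orderOf x ∣ 2 ^ 1 := orderOf_dvd_of_pow_eq_one (by simpa using hx)
    obtain ⟨j, -, hj⟩ := (Nat.dvd_prime_pow Nat.prime_two).mp h1
    exact ⟨j, hj⟩
  obtain ⟨S, hS⟩ := hxp.exists_le_sylow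
  have hxS : x ∈ (S : Subgroup G) := hS (Subgroup.mem_zpowers x)
  have hSexp : ∀ y ∈ (S : Subgroup G), y ^ 2 = 1 := by
    intro y hy
    obtain ⟨k, hk⟩ := S.isPGroup' ⟨y, hy⟩
    have hk' : y ^ 2 ^ k = 1 := by
      have := congrArg Subtype.val hk
      simpa using this
    exact pow_eq_one_of_pgroup (r := 3) (p := 2) Nat.prime_two (by norm_num) (by simpa using h y) hk'
  rw [Subgroup.mem_centralizer_iff]
  intro z hz
  have hzS : z ∈ (S : Subgroup G) := pCore_le_sylow 2 S hz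
  have h1 := hSexp _ ((S : Subgroup G).mul_mem hzS hxS)
  have h2 := hSexp z hzS
  have h3 : z * x * (z * x) = 1 := by rw [← pow_two]; exact h1
  have hz' : z⁻¹ = z := by
    rw [inv_eq_iff_mul_eq_one, ← pow_two]; exact h2
  have hx' : x⁻¹ = x := by
    rw [inv_eq_iff_mul_eq_one, ← pow_two]; exact hx
  have h4 : (z * x)⁻¹ = z * x := by
    rw [inv_eq_iff_mul_eq_one]; exact h3
  rw [mul_inv_rev, hz', hx'] at h4
  exact h4.symm

/-- Quadratic action: the iterated commutator vanishes, from the norm relation. -/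
theorem iter_comm_eq_bot {Γ : Type*} [Group Γ] [Finite Γ] (Y : Subgroup Γ) (hYn : Y.Normal)
    (hYc : ∀ x ∈ Y, ∀ y ∈ Y, x * y = y * x) (hY3 : ∀ y ∈ Y, y ^ 3 = 1) (a : Γ)
    (hnorm : ∀ y ∈ Y, (a * y * a⁻¹) * (a * (a * y * a⁻¹) * a⁻¹) * y = 1) :
    Cfsg.iterCommutator Y (Subgroup.zpowers a) 2 = ⊥ := by
  have hcomm1 : ∀ y ∈ Y, ⁅y, a⁆ * a = a * ⁅y, a⁆ := by
    intro y hy
    set y1 := a * y * a⁻¹ with hy1
    set y2 := a * y1 * a⁻¹ with hy2
    have hy1Y : y1 ∈ Y := hYn.conj_mem y hy a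
    have hy2Y : y2 ∈ Y := hYn.conj_mem y1 hy1Y a
    have hn := hnorm y hy
    have h3 : y1 ^ 3 = 1 := hY3 y1 hy1Y
    have e1 : ⁅y, a⁆ = y * y1⁻¹ := by
      rw [commutatorElement_def, hy1]; group
    have e2 : a * (y * y1⁻¹) * a⁻¹ = y1 * y2⁻¹ := by
      calc a * (y * y1⁻¹) * a⁻¹ = (a * y * a⁻¹) * (a * y1 * a⁻¹)⁻¹ := by group
        _ = y1 * y2⁻¹ := rfl
    have e3 : y * y1⁻¹ = y1 * y2⁻¹ := by
      have h5 : y * y2 * y1 = 1 := by
        calc y * y2 * y1 = y1 * y2 * y := by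
              rw [hYc y hy y2 hy2Y, mul_assoc, hYc y hy y1 hy1Y, ← mul_assoc]
              rw [hYc y2 hy2Y y1 hy1Y]
          _ = 1 := hn
      have h6 : y * y2 = y1⁻¹ := eq_inv_of_mul_eq_one_left h5
      have h7 : y1⁻¹ = y1 * y1 := by
        rw [inv_eq_iff_mul_eq_one]
        simpa [pow_succ, mul_assoc] using h3
      calc y * y1⁻¹ = y * y2 * y2⁻¹ * y1⁻¹ := by group
        _ = y1⁻¹ * y2⁻¹ * y1⁻¹ := by rw [h6]
        _ = y1 * y1 * y2⁻¹ * y1⁻¹ := by rw [← h7]
        _ = y1 * (y1 * y2⁻¹ * y1⁻¹) := by group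
        _ = y1 * y2⁻¹ := by
            have h8 : y1 * y2⁻¹ = y2⁻¹ * y1 := hYc _ hy1Y _ (Y.inv_mem hy2Y)
            have h9 : y1 * y2⁻¹ * y1⁻¹ = y2⁻¹ := by rw [h8]; group
            rw [h9, h8]
    rw [e1]
    have e4 : a * (y * y1⁻¹) = (y * y1⁻¹) * a := by
      have := e2.trans e3.symm
      calc a * (y * y1⁻¹) = (a * (y * y1⁻¹) * a⁻¹) * a := by group
        _ = _ := by rw [this]
    exact e4.symm
  have hcommn : ∀ y ∈ Y, ∀ n : ℕ, ⁅y, a ^ n⁆ * a = a * ⁅y, a ^ n⁆ := by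
    intro y hy n
    induction n with
    | zero => simp
    | succ n ih =>
      have h1 := hcomm1 y hy
      have hc : Commute a ⁅y, a⁆ := h1.symm
      have hc2 : a ^ n * ⁅y, a⁆ * (a ^ n)⁻¹ = ⁅y, a⁆ := by
        have := (hc.pow_left n).eq
        rw [this]
        group
      have e : ⁅y, a ^ (n + 1)⁆ = ⁅y, a ^ n⁆ * ⁅y, a⁆ := by
        have e2 : ⁅y, a ^ (n + 1)⁆ = ⁅y, a ^ n⁆ * (a ^ n * ⁅y, a⁆ * (a ^ n)⁻¹) := by
          simp only [commutatorElement_def, pow_succ]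
          group
        rw [e2, hc2]
      rw [e]
      calc ⁅y, a ^ n⁆ * ⁅y, a⁆ * a = ⁅y, a ^ n⁆ * (⁅y, a⁆ * a) := by group
        _ = ⁅y, a ^ n⁆ * (a * ⁅y, a⁆) := by rw [h1]
        _ = (⁅y, a ^ n⁆ * a) * ⁅y, a⁆ := by group
        _ = (a * ⁅y, a ^ n⁆) * ⁅y, a⁆ := by rw [ih]
        _ = _ := by group
  show ⁅⁅Y, Subgroup.zpowers a⁆, Subgroup.zpowers a⁆ = ⊥
  rw [Subgroup.commutator_eq_bot_iff_le_centralizer]
  rw [Subgroup.commutator_le]
  intro y hy b hb
  rw [Subgroup.mem_centralizer_iff]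
  intro c hc
  obtain ⟨k, rfl⟩ := Subgroup.mem_zpowers_iff.mp hc
  obtain ⟨n, rfl⟩ := (mem_powers_iff_mem_zpowers).mpr hb
  have h1 : Commute a ⁅y, a ^ n⁆ := (hcommn y hy n).symm
  exact (h1.zpow_left k).eq

/-- The case `p = 3`. -/
theorem core_three [Finite G] (h : ∀ x : G, x ^ 6 = 1) (hcore : pPrimeCore 3 G = ⊥) (x : G) (hx : x ^ 3 = 1) :
    x ∈ pCore 3 G := by
  classical
  haveI : Fact (Nat.Prime 3) := ⟨Nat.prime_three⟩
  haveI : Fact (Nat.Prime 2) := ⟨Nat.prime_two⟩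
  set Q := pCore 3 G with hQ
  haveI hQn : Q.Normal := inferInstance
  have hQp : IsPGroup 3 Q := isPGroup_pCore 3
  have hQexp : ∀ y ∈ Q, y ^ 3 = 1 := by
    intro y hy
    obtain ⟨k, hk⟩ := hQp ⟨y, hy⟩
    have hk' : y ^ 3 ^ k = 1 := by
      have := congrArg Subtype.val hk
      simpa using this
    exact pow_eq_one_of_pgroup (r := 2) (p := 3) Nat.prime_three (by norm_num) (by simpa using h y) hk'
  have hsol := solvable_exp_six h
  have hCQ : Subgroup.centralizer (Q : Set G) ≤ Q :=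
    centralizer_pCore_le_of_pSolvable (Cfsg.Agent.Lib.MaxPNilp.isPSolvable_of_isSolvable 3 hsol) hcore
  -- the quotient by `Q`
  let ρ := QuotientGroup.mk' Q
  have hρ : Function.Surjective ρ := QuotientGroup.mk'_surjective Q
  have hρker : ∀ g, ρ g = 1 ↔ g ∈ Q := fun g => QuotientGroup.eq_one_iff g
  have hRexp : ∀ r : G ⧸ Q, r ^ 6 = 1 := exp_six_quot h Q
  have hRsol := solvable_exp_six hRexp
  have hR3 : pCore 3 (G ⧸ Q) = ⊥ := pCore_quotient_pCore 3
  have hR2core : pPrimeCore 2 (G ⧸ Q) = ⊥ := by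
    apply le_bot_iff.mp
    rw [← hR3]
    apply le_pCore inferInstance
    apply Cfsg.Agent.Lib.MinNorm.isPGroup_of_exponent
    intro u hu
    have h1 : orderOf u ∣ Nat.card (pPrimeCore 2 (G ⧸ Q)) := by
      have := orderOf_dvd_natCard (⟨u, hu⟩ : pPrimeCore 2 (G ⧸ Q))
      simpa using this
    have h2 : (orderOf u).Coprime 2 := Nat.Coprime.coprime_dvd_left h1 (card_pPrimeCore_coprime 2)
    have h3 : orderOf u ∣ 2 * 3 := orderOf_dvd_of_pow_eq_one (hRexp u)
    exact orderOf_dvd_iff_pow_eq_one.mp (h2.dvd_of_dvd_mul_left h3)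
  set Tb := pCore 2 (G ⧸ Q) with hTb
  have hTbexp : ∀ y ∈ Tb, y ^ 2 = 1 := by
    intro y hy
    obtain ⟨k, hk⟩ := (isPGroup_pCore 2 : IsPGroup 2 Tb) ⟨y, hy⟩
    have hk' : y ^ 2 ^ k = 1 := by
      have := congrArg Subtype.val hk
      simpa using this
    exact pow_eq_one_of_pgroup (r := 3) (p := 2) Nat.prime_two (by norm_num) (by simpa using hRexp y) hk'
  have hCT : Subgroup.centralizer (Tb : Set (G ⧸ Q)) ≤ Tb :=
    centralizer_pCore_le_of_pSolvable (Cfsg.Agent.Lib.MaxPNilp.isPSolvable_of_isSolvable 2 hRsol) hR2core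
  let T : Subgroup G := Tb.comap ρ
  haveI hTn : T.Normal := Subgroup.Normal.comap inferInstance ρ
  have hT2 : ∀ m ∈ T, m ^ 2 ∈ Q := by
    intro m hm
    rw [← hρker, map_pow]
    exact hTbexp _ hm
  have hTcomm : ∀ u ∈ Tb, ∀ v ∈ Tb, u * v = v * u := by
    intro u hu v hv
    have h1 := hTbexp _ (Tb.mul_mem hu hv)
    have h2 := hTbexp u hu
    have h3 := hTbexp v hv
    have h4 : u * v * (u * v) = 1 := by rw [← pow_two]; exact h1
    have hu' : u⁻¹ = u := by rw [inv_eq_iff_mul_eq_one, ← pow_two]; exact h2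
    have hv' : v⁻¹ = v := by rw [inv_eq_iff_mul_eq_one, ← pow_two]; exact h3
    have h5 : (u * v)⁻¹ = u * v := by rw [inv_eq_iff_mul_eq_one]; exact h4
    rw [mul_inv_rev, hu', hv'] at h5
    exact h5.symm
  have hTc : ∀ a ∈ T, ∀ b ∈ T, a * b * (b * a)⁻¹ ∈ Q := by
    intro a ha b hb
    rw [← hρker, map_mul, map_inv, map_mul, map_mul, hTcomm _ ha _ hb, mul_inv_cancel]
  -- the Frattini quotient
  let Φ : Subgroup G := (frattini Q).map Q.subtype
  haveI hΦn : Φ.Normal := inferInstance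
  let π := QuotientGroup.mk' Φ
  have hπ : ∀ g, π g = 1 ↔ g ∈ Φ := fun g => QuotientGroup.eq_one_iff g
  let Y : Subgroup (G ⧸ Φ) := Q.map π
  haveI hYn : Y.Normal := Subgroup.Normal.map inferInstance π (QuotientGroup.mk'_surjective Φ)
  have hQQ : ∀ u ∈ Q, ∀ v ∈ Q, π u * π v = π v * π u := by
    intro u hu v hv
    have h1 : ⁅(⟨u, hu⟩ : Q), (⟨v, hv⟩ : Q)⁆ ∈ frattini Q :=
      Cfsg.Agent.Lib.Frat.commutator_le_frattini hQp
        (by
          rw [commutator_def]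
          exact Subgroup.commutator_mem_commutator (Subgroup.mem_top _) (Subgroup.mem_top _))
    have h2 : ⁅u, v⁆ ∈ Φ := ⟨_, h1, rfl⟩
    have h3 := (hπ _).mpr h2
    rw [commutatorElement_def, map_mul, map_mul, map_mul, map_inv, map_inv] at h3
    have h4 : π u * π v = (π u * π v * (π u)⁻¹ * (π v)⁻¹) * (π v * π u) := by group
    rw [h4, h3, one_mul]
  have hYc : ∀ u ∈ Y, ∀ v ∈ Y, u * v = v * u := by
    rintro _ ⟨u, hu, rfl⟩ _ ⟨v, hv, rfl⟩
    exact hQQ u hu v hv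
  have hY3 : ∀ y ∈ Y, y ^ 3 = 1 := by
    rintro _ ⟨u, hu, rfl⟩
    rw [← map_pow, hQexp u hu, map_one]
  -- the norm relation
  have hxq : ∀ q ∈ Q, (x * q) ^ 3 = 1 := by
    intro q hq
    have h1 : (x * q) ^ 3 ∈ Q := by
      have e : (x * q) ^ 3 = (x * q * x⁻¹) * (x * (x * q * x⁻¹) * x⁻¹) * (x ^ 3 * q) := by
        simp only [pow_succ, pow_zero, one_mul]
        group
      rw [e, hx, one_mul]
      exact Q.mul_mem (Q.mul_mem (hQn.conj_mem q hq x) (hQn.conj_mem _ (hQn.conj_mem q hq x) x)) hq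
    have h2 := hQexp _ h1
    have h3 : ((x * q) ^ 3) ^ 2 = 1 := by
      rw [← pow_mul]
      exact h (x * q)
    have h4 : (x * q) ^ 3 = (((x * q) ^ 3) ^ 3) * (((x * q) ^ 3) ^ 2)⁻¹ := by
      group
    rw [h4, h2, h3]
    simp
  have hnormG : ∀ q ∈ Q, (x * q * x⁻¹) * (x * (x * q * x⁻¹) * x⁻¹) * q = 1 := by
    intro q hq
    have e : (x * q) ^ 3 = (x * q * x⁻¹) * (x * (x * q * x⁻¹) * x⁻¹) * (x ^ 3 * q) := by
      simp only [pow_succ, pow_zero, one_mul]
      group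
    have := hxq q hq
    rw [e, hx, one_mul] at this
    exact this
  have ha : Cfsg.iterCommutator Y (Subgroup.zpowers (π x)) 2 = ⊥ := by
    apply iter_comm_eq_bot Y hYn hYc hY3
    rintro _ ⟨q, hq, rfl⟩
    have := congrArg π (hnormG q hq)
    simpa only [map_mul, map_inv, map_one] using this
  -- Hall--Higman
  have hHH := Cfsg.Agent.Lib.HallHigmanAb.section_hh (p := 3) Y hYn hYc hY3 (π x) ha (T.map π)
    (by
      rintro _ ⟨m, hm, rfl⟩
      exact ⟨x * m * x⁻¹, hTn.conj_mem m hm x, by simp only [map_mul, map_inv]⟩)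
    (by
      rintro _ ⟨a, ha, rfl⟩ _ ⟨b, hb, rfl⟩ _ ⟨y, hy, rfl⟩
      set c := a * b * (b * a)⁻¹ with hc
      have hcQ : c ∈ Q := hTc a ha b hb
      have e1 : a * b = c * (b * a) := by rw [hc]; group
      rw [← map_mul, ← map_mul, e1, map_mul π c]
      set w := b * a
      have hyw : w * y * w⁻¹ ∈ Q := hQn.conj_mem y hy w
      have h1 := hQQ c hcQ _ hyw
      simp only [map_mul, map_inv] at h1 ⊢
      have h2 : π c * (π w * π y * (π w)⁻¹) * (π c)⁻¹ = π w * π y * (π w)⁻¹ := by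
        rw [h1]; group
      calc π c * π w * π y * (π c * π w)⁻¹ = π c * (π w * π y * (π w)⁻¹) * (π c)⁻¹ := by group
        _ = _ := h2)
    (N := 2) (by norm_num)
    (by
      rintro _ ⟨m, hm, rfl⟩ _ ⟨y, hy, rfl⟩
      have h1 := hQQ _ (hT2 m hm) y hy
      rw [← map_pow]
      rw [h1]
      group)
  -- the main computation
  have hmain : ∀ m ∈ T, (x * m * x⁻¹) * m⁻¹ ∈ Q := by
    intro m hm
    set c := (x * m * x⁻¹) * m⁻¹ with hc
    have hcT : c ∈ T := T.mul_mem (hTn.conj_mem m hm x) (T.inv_mem hm)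
    -- `c` acts trivially on `Q / Φ`
    have hact : ∀ y ∈ Q, π c * π y * (π c)⁻¹ = π y := by
      intro y hy
      have hy' : m⁻¹ * y * m ∈ Q := by
        have := hQn.conj_mem y hy m⁻¹
        simpa using this
      have h1 := hHH (π m) ⟨m, hm, rfl⟩ (π (m⁻¹ * y * m)) ⟨_, hy', rfl⟩
      simp only [map_mul, map_inv] at h1
      rw [hc]
      simp only [map_mul, map_inv]
      calc π x * π m * (π x)⁻¹ * (π m)⁻¹ * π y * (π x * π m * (π x)⁻¹ * (π m)⁻¹)⁻¹
          = π x * π m * (π x)⁻¹ * ((π m)⁻¹ * π y * π m) * (π x * π m * (π x)⁻¹)⁻¹ := by group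
        _ = _ := h1
        _ = π y := by group
    -- the involution `d = c ^ 3`
    set d := c ^ 3 with hd
    have hd2 : d ^ 2 = 1 := by
      rw [hd, ← pow_mul]
      exact h c
    have hdact : ∀ y ∈ Q, π d * π y * (π d)⁻¹ = π y := by
      intro y hy
      have h1 : π c * π y = π y * π c := by
        have h2 := hact y hy
        calc π c * π y = (π c * π y * (π c)⁻¹) * π c := by group
          _ = _ := by rw [h2]
      have h2 : Commute (π c) (π y) := h1
      rw [hd, map_pow, (h2.pow_left 3).eq]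
      group
    let τ : MulAut Q := MulAut.conjNormal d
    have hτ2 : τ ^ 2 = 1 := by
      show (MulAut.conjNormal d : MulAut Q) ^ 2 = 1
      rw [← map_pow, hd2, map_one]
    have hτ : ∀ q : Q, τ q * q⁻¹ ∈ frattini Q := by
      intro q
      have h1 := hdact q q.2
      have h2 : ((τ q * q⁻¹ : Q) : G) ∈ Φ := by
        rw [← hπ]
        have e : ((τ q * q⁻¹ : Q) : G) = d * q * d⁻¹ * (q : G)⁻¹ := by
          simp only [Subgroup.coe_mul, Subgroup.coe_inv]
          rw [MulAut.conjNormal_apply]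
        rw [e]
        simp only [map_mul, map_inv] at h1 ⊢
        rw [h1, mul_inv_cancel]
      obtain ⟨w, hw, hw2⟩ := h2
      have : w = τ q * q⁻¹ := Subtype.ext hw2
      rw [← this]
      exact hw
    have hτ1 := Cfsg.Agent.Lib.BurnsideAut.aut_eq_one_of_trivial_on_frattini (Q := Q) (p := 3) (r := 2) hQp
      Nat.prime_two (by norm_num) τ hτ2 hτ
    have hdC : d ∈ Subgroup.centralizer (Q : Set G) := by
      rw [Subgroup.mem_centralizer_iff]
      intro q hq
      have h1 := DFunLike.congr_fun hτ1 ⟨q, hq⟩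
      have h2 := congrArg Subtype.val h1
      have h3 : d * q * d⁻¹ = q := by
        have e := MulAut.conjNormal_apply (H := Q) d (⟨q, hq⟩ : Q)
        exact e.symm.trans h2
      calc q * d = (d * q * d⁻¹) * d := by rw [h3]
        _ = d * q := by group
    have hdQ := hCQ hdC
    have hd3 := hQexp d hdQ
    have hd1 : d = 1 := by
      have e : d = d ^ 3 * (d ^ 2)⁻¹ := by group
      rw [e, hd3, hd2]
      simp
    have e : c = c ^ 3 * (c ^ 2)⁻¹ := by group
    rw [e, ← hd, hd1, one_mul]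
    exact Q.inv_mem (hT2 c hcT)
  -- conclusion
  rw [← hρker]
  have hxC : ρ x ∈ Tb := by
    apply hCT
    rw [Subgroup.mem_centralizer_iff]
    intro u hu
    obtain ⟨m, rfl⟩ := hρ u
    have h1 := (hρker _).mpr (hmain m hu)
    simp only [map_mul, map_inv] at h1
    have h2 : ρ x * ρ m * (ρ x)⁻¹ = ρ m := by
      calc ρ x * ρ m * (ρ x)⁻¹ = (ρ x * ρ m * (ρ x)⁻¹ * (ρ m)⁻¹) * ρ m := by group
        _ = ρ m := by rw [h1, one_mul]
    calc ρ m * ρ x = (ρ x * ρ m * (ρ x)⁻¹) * ρ x := by rw [h2]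
      _ = ρ x * ρ m := by group
  have h1 := hTbexp _ hxC
  have h2 : ρ x ^ 3 = 1 := by
    rw [← map_pow, hx, map_one]
  have e : ρ x = ρ x ^ 3 * (ρ x ^ 2)⁻¹ := by group
  rw [e, h1, h2]
  simp

end basic

/-- **Groups of exponent six** have `2`-length and `3`-length at most one. -/
theorem plength_exp_six {G : Type u} [Group G] [Finite G] (h : ∀ x : G, x ^ 6 = 1) :
    PLengthLE 2 1 G ∧ PLengthLE 3 1 G := by
  haveI : Fact (Nat.Prime 3) := ⟨Nat.prime_three⟩
  haveI : Fact (Nat.Prime 2) := ⟨Nat.prime_two⟩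
  constructor
  · exact plength_of_core 2 3 (by norm_num) (by norm_num) h fun x hx =>
      core_two (exp_six_quot h _) (pPrimeCore_quotient_pPrimeCore 2) x hx
  · exact plength_of_core 3 4 (by norm_num) (by norm_num) h fun x hx =>
      core_three (exp_six_quot h _) (pPrimeCore_quotient_pPrimeCore 3) x hx

end Cfsg.Agent.Lib.ExpSix
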