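import Mathlib

/-!
# Extremely primitive groups: Manning's theorem

`manning_core`: let `G` act faithfully and primitively on a finite set, every point stabilizer acting
primitively on each of its orbits, and let `R` be an orbital relation which is irreflexive.  An element
of `G_x` which fixes every `u` with `R x u` is trivial.
-/

set_option autoImplicit false

namespace Cfsg.Agent.Lib.ExtPrim

open MulAction
open scoped Pointwise

/-- An invariant equivalence relation of a primitive action is trivial or universal. -/
lemma prim_rel {G Ω : Type*} [Group G] [MulAction G Ω] (hprim : IsPreprimitive G Ω)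
    (r : Ω → Ω → Prop) (hr : Equivalence r) (hinv : ∀ (g : G) (x y : Ω), r x y → r (g • x) (g • y)) :
    (∀ x y, r x y → x = y) ∨ ∀ x y, r x y := by
  by_cases h : ∀ x y, r x y → x = y
  · exact Or.inl h
  · right
    push Not at h
    obtain ⟨a, b, hab, hne⟩ := h
    have hB : IsBlock G {c : Ω | r a c} := by
      rw [isBlock_iff_smul_eq_of_nonempty]
      rintro g ⟨c, ⟨d, hd, rfl⟩, hc⟩
      have hd' : r a d := hd
      have hc' : r a (g • d) := hc
      have h1 : r (g • a) (g • d) := hinv g a d hd'
      have h2 : r (g • a) a := hr.trans h1 (hr.symm hc')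
      ext e
      constructor
      · rintro ⟨f, hf, rfl⟩
        have hf' : r a f := hf
        exact hr.trans (hr.symm h2) (hinv g a f hf')
      · intro he
        have he' : r a e := he
        refine ⟨g⁻¹ • e, ?_, smul_inv_smul g e⟩
        have h3 : r (g • a) e := hr.trans h2 he'
        have h4 := hinv g⁻¹ _ _ h3
        rwa [inv_smul_smul] at h4
    rcases hB.subsingleton_or_eq_univ with h | h
    · exact absurd (h (hr.refl a : r a a) hab) hne
    · have hall : ∀ c, r a c := fun c => by
        have : c ∈ {c : Ω | r a c} := by rw [h]; trivial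
        exact this
      intro x y
      exact hr.trans (hr.symm (hall x)) (hall y)

/-- A normal subgroup of a group acting primitively on an orbit. -/
lemma orbit_dichotomy {S Ω : Type*} [Group S] [MulAction S Ω] (ω : Ω)
    (hprim : IsPreprimitive S (orbit S ω)) (M : Subgroup S) [M.Normal] :
    (∀ m ∈ M, m • ω = ω) ∨ ∀ x ∈ orbit S ω, ∃ m ∈ M, m • ω = x := by
  let a : orbit S ω := ⟨ω, mem_orbit_self ω⟩
  have hB : IsBlock S (orbit M a) := IsBlock.orbit_of_normal a
  rcases hB.subsingleton_or_eq_univ with h | h
  · left
    intro m hm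
    have h1 : (⟨m, hm⟩ : M) • a ∈ orbit M a := mem_orbit _ _
    have h2 := h h1 (mem_orbit_self a)
    exact congrArg Subtype.val h2
  · right
    intro x hx
    have h1 : (⟨x, hx⟩ : orbit S ω) ∈ orbit M a := by rw [h]; trivial
    obtain ⟨⟨m, hm⟩, hm'⟩ := h1
    exact ⟨m, hm, congrArg Subtype.val hm'⟩

/-- A normal subgroup in a primitive action acts trivially or transitively. -/
lemma normal_trivial_or_transitive {G Ω : Type*} [Group G] [MulAction G Ω] (hprim : IsPreprimitive G Ω)
    (L : Subgroup G) [L.Normal] : (∀ l ∈ L, ∀ x : Ω, l • x = x) ∨ IsPretransitive L Ω := by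
  by_cases hfix : fixedPoints L Ω = Set.univ
  · left
    intro l hl x
    have hx : x ∈ fixedPoints L Ω := by rw [hfix]; trivial
    exact hx ⟨l, hl⟩
  · right
    haveI : IsQuasiPreprimitive G Ω := inferInstance
    exact IsQuasiPreprimitive.isPretransitive_of_normal hfix

section

variable {G Ω : Type*} [Group G] [MulAction G Ω] [Finite Ω]

/-- Key step. -/
lemma lemmaA (hprim : IsPreprimitive G Ω)
    (hep : ∀ (α ω : Ω), IsPreprimitive (stabilizer G α) (orbit (stabilizer G α) ω))
    (R : Ω → Ω → Prop) (hinv : ∀ (g : G) (x y : Ω), R x y → R (g • x) (g • y))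
    (htr : ∀ x y x' y', R x y → R x' y' → ∃ g : G, g • x = x' ∧ g • y = y')
    (hirr : ∀ x, ¬ R x x) {x y : Ω} (hxy : R x y) {k : G} (hk : k • x = x)
    (hkR : ∀ u, R x u → k • u = u) {z : Ω} (hz : R z y) : k • z = z := by
  classical
  let M : Subgroup (stabilizer G x) :=
    { carrier := {g | ∀ u, R x u → (g : G) • u = u}
      one_mem' := by intro u _; simp
      mul_mem' := by
        intro a b ha hb u hu
        rw [Subgroup.coe_mul, mul_smul, hb u hu, ha u hu]
      inv_mem' := by
        intro a ha u hu
        have := ha u hu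
        simp only [InvMemClass.coe_inv]
        rw [inv_smul_eq_iff, this] }
  haveI hMn : M.Normal := by
    constructor
    intro m hm g u hu
    have hgx : (g : G) • x = x := g.2
    have h1 : R x ((g : G)⁻¹ • u) := by
      have := hinv (g : G)⁻¹ _ _ hu
      rwa [show (g : G)⁻¹ • x = x by rw [inv_smul_eq_iff, hgx]] at this
    have h2 := hm _ h1
    simp only [Subgroup.coe_mul, InvMemClass.coe_inv, mul_smul]
    rw [h2, smul_inv_smul]
  have hkM : (⟨k, hk⟩ : stabilizer G x) ∈ M := hkR
  rcases orbit_dichotomy z (hep x z) M with h | h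
  · exact h _ hkM
  · -- `Δ x ⊆ Δ z`
    have hsub : ∀ u, R x u → R z u := by
      intro u hu
      obtain ⟨a, ha, hau⟩ := htr x y x u hxy hu
      let a' : stabilizer G x := ⟨a, ha⟩
      obtain ⟨m, hm, hmz⟩ := h (a'⁻¹ • z) (mem_orbit _ _)
      have hmz' : (m : G) • z = a⁻¹ • z := hmz
      have h1 : R ((m : G) • z) ((m : G) • y) := hinv _ _ _ hz
      rw [hmz', hm y hxy] at h1
      have h2 := hinv a _ _ h1
      rwa [smul_inv_smul, hau] at h2
    -- equal by counting
    have heq : ∀ u, R x u ↔ R z u := by
      obtain ⟨g, hg⟩ := hprim.exists_smul_eq x z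
      have hcard : {u | R z u}.ncard = {u | R x u}.ncard := by
        have himg : {u | R z u} = (fun u => g • u) '' {u | R x u} := by
          ext u
          constructor
          · intro hu
            refine ⟨g⁻¹ • u, ?_, smul_inv_smul g u⟩
            have := hinv g⁻¹ _ _ (show R z u from hu)
            rwa [← hg, inv_smul_smul] at this
          · rintro ⟨v, hv, rfl⟩
            have := hinv g _ _ (show R x v from hv)
            rwa [hg] at this
        rw [himg]
        exact Set.ncard_image_of_injective _ (MulAction.injective g)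
      have hset : {u | R x u} = {u | R z u} :=
        Set.eq_of_subset_of_ncard_le (fun u hu => hsub u hu) (le_of_eq hcard)
      intro u
      exact Set.ext_iff.1 hset u
    let r : Ω → Ω → Prop := fun a b => ∀ u, R a u ↔ R b u
    have hr : Equivalence r := ⟨fun _ _ => Iff.rfl, fun h u => (h u).symm, fun h h' u => (h u).trans (h' u)⟩
    have hrinv : ∀ (g : G) (a b : Ω), r a b → r (g • a) (g • b) := by
      intro g a b hab u
      constructor
      · intro hu
        have h1 := hinv g⁻¹ _ _ hu
        rw [inv_smul_smul] at h1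
        have h2 := hinv g _ _ ((hab _).1 h1)
        rwa [smul_inv_smul] at h2
      · intro hu
        have h1 := hinv g⁻¹ _ _ hu
        rw [inv_smul_smul] at h1
        have h2 := hinv g _ _ ((hab _).2 h1)
        rwa [smul_inv_smul] at h2
    rcases prim_rel hprim r hr hrinv with h' | h'
    · have : x = z := h' x z heq
      rw [← this, hk]
    · exact absurd ((h' x y y).1 hxy) (hirr y)

variable [FaithfulSMul G Ω]

/-- Manning's theorem, relation form. -/
theorem manning_core (hprim : IsPreprimitive G Ω)
    (hep : ∀ (α ω : Ω), IsPreprimitive (stabilizer G α) (orbit (stabilizer G α) ω))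
    (R : Ω → Ω → Prop) (hinv : ∀ (g : G) (x y : Ω), R x y → R (g • x) (g • y))
    (htr : ∀ x y x' y', R x y → R x' y' → ∃ g : G, g • x = x' ∧ g • y = y')
    (hirr : ∀ x, ¬ R x x) {x y : Ω} (hxy : R x y) {k : G} (hk : k • x = x)
    (hkR : ∀ u, R x u → k • u = u) : k = 1 := by
  classical
  have hinv' : ∀ (g : G) (a b : Ω), R b a → R (g • b) (g • a) := fun g a b h => hinv g b a h
  have htr' : ∀ a b a' b', R b a → R b' a' → ∃ g : G, g • a = a' ∧ g • b = b' := by
    intro a b a' b' h h'
    obtain ⟨g, hg1, hg2⟩ := htr _ _ _ _ h h'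
    exact ⟨g, hg2, hg1⟩
  let K : Ω → Set G := fun a => {g | g • a = a ∧ ∀ u, R a u → g • u = u}
  have hKeq : ∀ a a' b, R a b → R a' b → K a ⊆ K a' := by
    intro a a' b hab ha'b g hg
    have hgb : g • b = b := hg.2 b hab
    have hall : ∀ v, R v b → g • v = v := fun v hv => lemmaA hprim hep R hinv htr hirr hab hg.1 hg.2 hv
    refine ⟨hall a' ha'b, ?_⟩
    intro u hu
    exact lemmaA (R := fun a b => R b a) hprim hep hinv' htr' hirr ha'b hgb hall hu
  have hKg : ∀ (g h : G) (a : Ω), h ∈ K (g • a) ↔ g⁻¹ * h * g ∈ K a := by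
    intro g h a
    constructor
    · rintro ⟨h1, h2⟩
      refine ⟨?_, ?_⟩
      · rw [mul_smul, mul_smul, h1, inv_smul_smul]
      · intro u hu
        rw [mul_smul, mul_smul, h2 _ (hinv g _ _ hu), inv_smul_smul]
    · rintro ⟨h1, h2⟩
      refine ⟨?_, ?_⟩
      · rw [mul_smul, mul_smul, inv_smul_eq_iff] at h1
        exact h1
      · intro u hu
        have h3 := hinv g⁻¹ _ _ hu
        rw [inv_smul_smul] at h3
        have h4 := h2 _ h3
        rw [mul_smul, mul_smul, smul_inv_smul, inv_smul_eq_iff, smul_inv_smul] at h4
        exact h4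
  have hfaith : (∀ a : Ω, k • a = a) → k = 1 := by
    intro h
    apply FaithfulSMul.eq_of_smul_eq_smul (α := Ω)
    intro a
    rw [h a, one_smul]
  by_cases hcase : ∃ x', R x' y ∧ x' ≠ x
  · obtain ⟨x', hx', hne⟩ := hcase
    let r : Ω → Ω → Prop := fun a b => K a = K b
    have hr : Equivalence r := ⟨fun _ => rfl, fun h => h.symm, fun h h' => h.trans h'⟩
    have hrinv : ∀ (g : G) (a b : Ω), r a b → r (g • a) (g • b) := by
      intro g a b hab
      ext h
      rw [hKg, hKg]
      have : K a = K b := hab
      rw [this]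
    rcases prim_rel hprim r hr hrinv with h' | h'
    · have hxx' : r x x' := Set.Subset.antisymm (hKeq _ _ _ hxy hx') (hKeq _ _ _ hx' hxy)
      exact absurd (h' x x' hxx').symm hne
    · apply hfaith
      intro a
      have h1 : k ∈ K x := ⟨hk, hkR⟩
      have h2 : K x = K a := h' x a
      rw [h2] at h1
      exact h1.1
  · push Not at hcase
    have hle : stabilizer G y ≤ stabilizer G x := by
      intro g hg
      have hg' : g • y = y := hg
      have := hinv g _ _ hxy
      rw [hg'] at this
      exact hcase _ this
    have hxy_stab : stabilizer G y = stabilizer G x := by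
      haveI : IsPretransitive G Ω := hprim.toIsPretransitive
      have h1 : (stabilizer G y).index = (stabilizer G x).index := by
        rw [index_stabilizer_of_transitive, index_stabilizer_of_transitive]
      have h2 := Subgroup.relIndex_mul_index hle
      rw [h1] at h2
      have hpos : 0 < (stabilizer G x).index := by
        haveI : Nonempty Ω := ⟨x⟩
        rw [index_stabilizer_of_transitive]
        exact Nat.card_pos
      have h3 : (stabilizer G y).relIndex (stabilizer G x) = 1 := by
        exact Nat.eq_of_mul_eq_mul_right hpos (by rw [h2, one_mul])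
      rw [Subgroup.relIndex_eq_one] at h3
      exact le_antisymm hle h3
    let r : Ω → Ω → Prop := fun a b => stabilizer G a = stabilizer G b
    have hr : Equivalence r := ⟨fun _ => rfl, fun h => h.symm, fun h h' => h.trans h'⟩
    have hrinv : ∀ (g : G) (a b : Ω), r a b → r (g • a) (g • b) := by
      intro g a b hab
      have hab' : stabilizer G a = stabilizer G b := hab
      show stabilizer G (g • a) = stabilizer G (g • b)
      ext h
      have key : ∀ c : Ω, h ∈ stabilizer G (g • c) ↔ g⁻¹ * h * g ∈ stabilizer G c := by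
        intro c
        rw [mem_stabilizer_iff, mem_stabilizer_iff, mul_smul, mul_smul, inv_smul_eq_iff]
      rw [key, key, hab']
    rcases prim_rel hprim r hr hrinv with h' | h'
    · have hne : x ≠ y := by
        rintro rfl
        exact hirr _ hxy
      exact absurd (h' x y hxy_stab.symm) hne
    · apply hfaith
      intro a
      have h2 : stabilizer G x = stabilizer G a := h' x a
      have h1 : k ∈ stabilizer G x := hk
      rw [h2] at h1
      exact h1

/-- Manning's theorem, orbit form: `G_α` acts faithfully on each orbit other than `{α}`. -/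
theorem manning (hprim : IsPreprimitive G Ω)
    (hep : ∀ (α ω : Ω), IsPreprimitive (stabilizer G α) (orbit (stabilizer G α) ω))
    {α ω : Ω} (hω : ω ≠ α) {k : G} (hk : k • α = α)
    (hfix : ∀ g : G, g • α = α → k • (g • ω) = g • ω) : k = 1 := by
  let R : Ω → Ω → Prop := fun a b => ∃ g : G, g • α = a ∧ g • ω = b
  refine manning_core hprim hep R ?_ ?_ ?_ (x := α) (y := ω) ⟨1, by simp, by simp⟩ hk ?_
  · rintro g _ _ ⟨h, rfl, rfl⟩
    exact ⟨g * h, mul_smul _ _ _, mul_smul _ _ _⟩
  · rintro _ _ _ _ ⟨h, rfl, rfl⟩ ⟨h', rfl, rfl⟩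
    exact ⟨h' * h⁻¹, by rw [mul_smul, inv_smul_smul], by rw [mul_smul, inv_smul_smul]⟩
  · rintro x ⟨h, h1, h2⟩
    apply hω
    have := h1.trans h2.symm
    exact (smul_left_cancel h this).symm
  · rintro u ⟨g, hg, rfl⟩
    exact hfix g hg

end

end Cfsg.Agent.Lib.ExtPrim
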