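import Mathlib
import Cfsg.Agent.Lib.ExtPrim

/-!
# Linear representations from elementary abelian groups, free actions
-/

set_option autoImplicit false

namespace Cfsg.Agent.Lib.ExtPrim2

open MulAction

/-- A homomorphism to the endomorphisms of an `F_p`-vector space of order `p ^ e` gives a homomorphism to
`GL_e(p)` with the same kernel. -/
lemma exists_GL_hom_add {H V : Type*} [Group H] [AddCommGroup V] [Finite V] (p e : ℕ) [Fact p.Prime]
    [Module (ZMod p) V] (hcard : Nat.card V = p ^ e) (ρ : H →* Module.End (ZMod p) V) :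
    ∃ φ : H →* Matrix.GeneralLinearGroup (Fin e) (ZMod p), ∀ h, φ h = 1 ↔ ρ h = 1 := by
  classical
  have hp : p.Prime := Fact.out
  have hfinrank : Module.finrank (ZMod p) V = e := by
    have h1 : Nat.card V = Nat.card (ZMod p) ^ Module.finrank (ZMod p) V :=
      Module.natCard_eq_pow_finrank
    rw [hcard, Nat.card_zmod] at h1
    exact (Nat.pow_right_injective hp.two_le h1).symm
  let b := Module.finBasisOfFinrankEq (ZMod p) V hfinrank
  let T : Module.End (ZMod p) V ≃ₐ[ZMod p] Matrix (Fin e) (Fin e) (ZMod p) := LinearMap.toMatrixAlgEquiv b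
  let φ : H →* Matrix.GeneralLinearGroup (Fin e) (ZMod p) :=
    (Units.map (T.toRingEquiv.toMonoidHom)).comp ρ.toHomUnits
  refine ⟨φ, fun h => ?_⟩
  constructor
  · intro hφ
    have h1 : ((φ h : Matrix.GeneralLinearGroup (Fin e) (ZMod p)) : Matrix (Fin e) (Fin e) (ZMod p)) = 1 := by
      rw [hφ]; rfl
    have h2 : T (ρ h) = 1 := h1
    apply T.injective
    rw [h2, map_one]
  · intro hρ
    apply Units.ext
    show T (ρ h) = 1
    rw [hρ, map_one]

/-- additive action. -/
lemma exists_GL_hom_addAut {H V : Type*} [Group H] [AddCommGroup V] [Finite V] (p e : ℕ) [Fact p.Prime]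
    (hexp : ∀ x : V, p • x = 0) (hcard : Nat.card V = p ^ e) (ρ : H → (V →+ V))
    (h1 : ∀ x, ρ 1 x = x) (hmul : ∀ a b x, ρ (a * b) x = ρ a (ρ b x)) :
    ∃ φ : H →* Matrix.GeneralLinearGroup (Fin e) (ZMod p), ∀ h, φ h = 1 ↔ ∀ x, ρ h x = x := by
  letI instM : Module (ZMod p) V := AddCommGroup.zmodModule (n := p) hexp
  let ψ : H →* Module.End (ZMod p) V :=
    { toFun := fun h => AddMonoidHom.toZModLinearMap p (ρ h)
      map_one' := by
        apply LinearMap.ext
        intro x
        exact h1 x
      map_mul' := by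
        intro a b
        apply LinearMap.ext
        intro x
        exact hmul a b x }
  obtain ⟨φ, hφ⟩ := exists_GL_hom_add (V := V) p e hcard ψ
  refine ⟨φ, fun h => ?_⟩
  rw [hφ]
  constructor
  · intro hh x
    have := congrArg (fun f : Module.End (ZMod p) V => f x) hh
    exact this
  · intro hh
    apply LinearMap.ext
    intro x
    exact hh x

/-- A homomorphism to the automorphisms of an elementary abelian group of order `p ^ e` gives a homomorphism
to `GL_e(p)` with the same kernel. -/
lemma exists_GL_hom {H M : Type*} [Group H] [CommGroup M] [Finite M] (p e : ℕ) [Fact p.Prime]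
    (hexp : ∀ x : M, x ^ p = 1) (hcard : Nat.card M = p ^ e) (ρ : H →* MulAut M) :
    ∃ φ : H →* Matrix.GeneralLinearGroup (Fin e) (ZMod p), ∀ h, φ h = 1 ↔ ∀ x, ρ h x = x := by
  obtain ⟨φ, hφ⟩ := exists_GL_hom_addAut (H := H) (V := Additive M) p e (by
    intro x
    apply Additive.toMul.injective
    exact hexp _) hcard (fun h => (ρ h).toMonoidHom.toAdditive)
    (by
      intro x
      change Additive.ofMul (ρ 1 x.toMul) = x
      rw [map_one]
      rfl)
    (by
      intro a b x
      change Additive.ofMul (ρ (a * b) x.toMul) = Additive.ofMul (ρ a (ρ b x.toMul))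
      rw [map_mul]
      rfl)
  refine ⟨φ, fun h => ?_⟩
  rw [hφ]
  constructor
  · intro hh x
    exact Additive.ofMul.injective (hh (Additive.ofMul x))
  · intro hh x
    exact congrArg Additive.ofMul (hh x.toMul)

/-- A free action of a finite group on a finite set: the order of the group divides the size of the set. -/
lemma card_dvd_of_free {A X : Type*} [Group A] [MulAction A X] [Finite A] [Finite X]
    (hfree : ∀ (x : X) (a : A), a • x = x → a = 1) : Nat.card A ∣ Nat.card X := by
  classical
  have h1 : ∀ b : X, stabilizer A b = ⊥ := by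
    intro b
    rw [eq_bot_iff]
    intro a ha
    rw [Subgroup.mem_bot]
    exact hfree b a ha
  have h2 := Nat.card_congr (selfEquivOrbitsQuotientProd (G := A) (X := X) h1)
  rw [Nat.card_prod] at h2
  rw [h2]
  exact Dvd.intro_left _ rfl

end Cfsg.Agent.Lib.ExtPrim2
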