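import Mathlib
import Cfsg.Agent.Lib.LargeExtra

/-!
# Counting for the commutator pairing of an extraspecial 2-group

A character-sum proof of `|L| * |B| = |R| * |A|` for a biadditive `±1`-valued pairing, hence
`|A| * |C_Q(A)| = 2 * |Q|` for `z ∈ A ≤ Q`, `Q` extraspecial with centre `⟨z⟩`.
-/

set_option autoImplicit false

namespace Cfsg.Agent.Lib.ExtraDual

open Finset Cfsg.Agent.Lib.LargeExtra

theorem sum_char_eq_zero {B : Type*} [Group B] [Fintype B] (χ : B → ℤ)
    (hχ : ∀ b b', χ (b * b') = χ b * χ b') {b₀ : B} (h0 : χ b₀ = -1) : ∑ b, χ b = 0 := by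
  have h1 : ∑ b, χ (b₀ * b) = ∑ b, χ b := Equiv.sum_comp (Equiv.mulLeft b₀) χ
  simp only [hχ, h0] at h1
  have h2 : ∑ b, (-1 * χ b) = - ∑ b, χ b := by simp [Finset.sum_neg_distrib]
  linarith

theorem sum_pair_row {A B : Type*} [Group B] [Fintype A] [Fintype B] [DecidableEq A]
    (p : A → B → ℤ)
    (hp : ∀ a b, p a b = 1 ∨ p a b = -1) (hr : ∀ a b b', p a (b * b') = p a b * p a b')
    (a : A) [Decidable (∀ b, p a b = 1)] :
    ∑ b, p a b = if (∀ b, p a b = 1) then (Fintype.card B : ℤ) else 0 := by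
  split_ifs with h
  · simp [h]
  · push Not at h
    obtain ⟨b₀, hb₀⟩ := h
    have : p a b₀ = -1 := (hp a b₀).resolve_left hb₀
    exact sum_char_eq_zero (p a) (hr a) this

/-- The counting identity for a biadditive `±1`-valued pairing. -/
theorem pairing_count {A B : Type*} [Group A] [Group B] [Fintype A] [Fintype B]
    (p : A → B → ℤ) (hp : ∀ a b, p a b = 1 ∨ p a b = -1)
    (hl : ∀ a a' b, p (a * a') b = p a b * p a' b)
    (hr : ∀ a b b', p a (b * b') = p a b * p a b') :
    Nat.card {a : A // ∀ b, p a b = 1} * Fintype.card B =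
      Nat.card {b : B // ∀ a, p a b = 1} * Fintype.card A := by
  classical
  have h1 : ∑ a, ∑ b, p a b = ∑ b, ∑ a, p a b := Finset.sum_comm
  have h2 : ∀ a, ∑ b, p a b = if (∀ b, p a b = 1) then (Fintype.card B : ℤ) else 0 :=
    fun a => sum_pair_row p hp hr a
  have h3 : ∀ b, ∑ a, p a b = if (∀ a, p a b = 1) then (Fintype.card A : ℤ) else 0 := by
    intro b
    exact sum_pair_row (fun b a => p a b) (fun b a => hp a b) (fun b a a' => hl a a' b) b
  simp only [h2, h3, Finset.sum_ite, Finset.sum_const_zero, add_zero, Finset.sum_const,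
    nsmul_eq_mul] at h1
  rw [Nat.card_eq_fintype_card, Nat.card_eq_fintype_card, Fintype.card_subtype,
    Fintype.card_subtype]
  exact_mod_cast h1

variable {G : Type*} [Group G]

/-- The commutator form on an extraspecial group. -/
noncomputable def form (x y : G) : ℤ :=
  open scoped Classical in if x * y * x⁻¹ * y⁻¹ = 1 then 1 else -1

theorem form_eq_one_iff {x y : G} : form x y = 1 ↔ x * y = y * x := by
  classical
  unfold form
  constructor
  · intro h
    by_cases h1 : x * y * x⁻¹ * y⁻¹ = 1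
    · exact comm_of_conj_eq (mul_inv_eq_one.mp h1)
    · simp [h1] at h
  · intro h
    have : x * y * x⁻¹ * y⁻¹ = 1 := by rw [h]; group
    simp [this]

theorem form_cases (x y : G) : form x y = 1 ∨ form x y = -1 := by
  classical
  unfold form
  split_ifs <;> simp

open scoped Classical in
theorem form_mul_aux {Q : Subgroup G} {z : G} (h : ExtraAt Q z) {u v w : G}
    (hu : u = 1 ∨ u = z) (hv : v = 1 ∨ v = z) (huv : w = u * v) :
    (if w = 1 then (1 : ℤ) else -1) = (if u = 1 then (1 : ℤ) else -1) * (if v = 1 then (1 : ℤ) else -1) := by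
  have hz1 := h.ne_one
  have hzz := h.sq_eq
  rcases hu with rfl | rfl <;> rcases hv with rfl | rfl
  · subst huv; simp
  · subst huv; simp [hz1]
  · subst huv; simp [hz1]
  · subst huv; simp [hz1, hzz]

theorem form_mul_left {Q : Subgroup G} {z : G} (h : ExtraAt Q z) {a b c : G}
    (ha : a ∈ Q) (hb : b ∈ Q) (hc : c ∈ Q) : form (a * b) c = form a c * form b c := by
  unfold form
  exact form_mul_aux h (h.comm a ha c hc) (h.comm b hb c hc) (h.comm_mul_left ha hb hc)

theorem form_mul_right {Q : Subgroup G} {z : G} (h : ExtraAt Q z) {a b c : G}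
    (ha : a ∈ Q) (hb : b ∈ Q) (hc : c ∈ Q) : form a (b * c) = form a b * form a c := by
  unfold form
  exact form_mul_aux h (h.comm a ha b hb) (h.comm a ha c hc) (h.comm_mul_right ha hb hc)

/-- For subgroups `A, B ≤ Q`: `|C_A(B)| * |B| = |C_B(A)| * |A|`. -/
theorem card_pair [Finite G] {Q A B : Subgroup G} {z : G} (h : ExtraAt Q z)
    (hA : A ≤ Q) (hB : B ≤ Q) :
    Nat.card ↥(A ⊓ Subgroup.centralizer (B : Set G)) * Nat.card B =
      Nat.card ↥(B ⊓ Subgroup.centralizer (A : Set G)) * Nat.card A := by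
  classical
  have := Fintype.ofFinite A
  have := Fintype.ofFinite B
  have key := pairing_count (A := A) (B := B) (fun a b => form (a : G) (b : G))
    (fun a b => form_cases _ _)
    (fun a a' b => form_mul_left h (hA a.2) (hA a'.2) (hB b.2))
    (fun a b b' => form_mul_right h (hA a.2) (hB b.2) (hB b'.2))
  have e1 : Nat.card {a : A // ∀ b : B, form (a : G) (b : G) = 1} =
      Nat.card ↥(A ⊓ Subgroup.centralizer (B : Set G)) := by
    apply Nat.card_congr
    refine ⟨fun a => ⟨a.1.1, a.1.2, ?_⟩, fun a => ⟨⟨a.1, a.2.1⟩, ?_⟩, fun _ => rfl, fun _ => rfl⟩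
    · refine Subgroup.mem_centralizer_iff.mpr ?_
      intro b hb
      exact (form_eq_one_iff.mp (a.2 ⟨b, hb⟩)).symm
    · intro b
      exact form_eq_one_iff.mpr ((Subgroup.mem_centralizer_iff.mp a.2.2 b b.2).symm)
  have e2 : Nat.card {b : B // ∀ a : A, form (a : G) (b : G) = 1} =
      Nat.card ↥(B ⊓ Subgroup.centralizer (A : Set G)) := by
    apply Nat.card_congr
    refine ⟨fun b => ⟨b.1.1, b.1.2, ?_⟩, fun b => ⟨⟨b.1, b.2.1⟩, ?_⟩, fun _ => rfl, fun _ => rfl⟩
    · refine Subgroup.mem_centralizer_iff.mpr ?_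
      intro a ha
      exact form_eq_one_iff.mp (b.2 ⟨a, ha⟩)
    · intro a
      exact form_eq_one_iff.mpr (Subgroup.mem_centralizer_iff.mp b.2.2 a a.2)
  rw [e1, e2, ← Nat.card_eq_fintype_card, ← Nat.card_eq_fintype_card] at key
  exact key

theorem card_inf_centralizer_self [Finite G] {Q A : Subgroup G} {z : G} (h : ExtraAt Q z)
    (hA : A ≤ Q) (hz : z ∈ A) : Nat.card ↥(A ⊓ Subgroup.centralizer (Q : Set G)) = 2 := by
  have h1 : A ⊓ Subgroup.centralizer (Q : Set G) = Subgroup.zpowers z := by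
    apply le_antisymm
    · rintro x ⟨hx1, hx2⟩
      have hx3 := Subgroup.mem_centralizer_iff.mp hx2
      rcases h.central x (hA hx1) (fun y hy => (hx3 y hy).symm) with rfl | rfl
      · exact Subgroup.one_mem _
      · exact Subgroup.mem_zpowers _
    · rw [Subgroup.zpowers_le]
      refine ⟨hz, Subgroup.mem_centralizer_iff.mpr ?_⟩
      intro y hy
      exact h.cen y hy
  rw [h1, Nat.card_zpowers, h.order]

/-- The perp formula: `|A| * |C_Q(A)| = 2 * |Q|` for `z ∈ A ≤ Q`. -/
theorem card_mul_centralizer [Finite G] {Q A : Subgroup G} {z : G} (h : ExtraAt Q z)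
    (hA : A ≤ Q) (hz : z ∈ A) :
    Nat.card A * Nat.card ↥(Q ⊓ Subgroup.centralizer (A : Set G)) = 2 * Nat.card Q := by
  have := card_pair h hA (le_refl Q)
  rw [card_inf_centralizer_self h hA hz] at this
  rw [this]; ring

/-- Double perp: `C_Q(C_Q(A)) = A` for `z ∈ A ≤ Q`. -/
theorem double_perp [Finite G] {Q A : Subgroup G} {z : G} (h : ExtraAt Q z)
    (hA : A ≤ Q) (hz : z ∈ A) :
    Q ⊓ Subgroup.centralizer ((Q ⊓ Subgroup.centralizer (A : Set G) : Subgroup G) : Set G) = A := by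
  symm
  have hle : A ≤ Q ⊓ Subgroup.centralizer ((Q ⊓ Subgroup.centralizer (A : Set G) : Subgroup G) : Set G) := by
    intro a ha
    refine ⟨hA ha, Subgroup.mem_centralizer_iff.mpr ?_⟩
    rintro y ⟨-, hy⟩
    exact (Subgroup.mem_centralizer_iff.mp hy a ha).symm
  apply Subgroup.eq_of_le_of_card_ge hle
  have hz2 : z ∈ Q ⊓ Subgroup.centralizer (A : Set G) :=
    ⟨h.mem, Subgroup.mem_centralizer_iff.mpr fun y hy => h.cen y (hA hy)⟩
  have h1 := card_mul_centralizer h hA hz
  have h2 := card_mul_centralizer h (A := Q ⊓ Subgroup.centralizer (A : Set G)) inf_le_left hz2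
  have hpos : 0 < Nat.card ↥(Q ⊓ Subgroup.centralizer (A : Set G)) := Nat.card_pos
  have : Nat.card A * Nat.card ↥(Q ⊓ Subgroup.centralizer (A : Set G)) =
      Nat.card ↥(Q ⊓ Subgroup.centralizer ((Q ⊓ Subgroup.centralizer (A : Set G) : Subgroup G) : Set G)) *
        Nat.card ↥(Q ⊓ Subgroup.centralizer (A : Set G)) := by
    rw [h1, mul_comm _ (Nat.card ↥(Q ⊓ Subgroup.centralizer (A : Set G))), h2]
  exact (Nat.eq_of_mul_eq_mul_right hpos this).ge

theorem form_congr {x y x' y' : G} (h : x * y = y * x ↔ x' * y' = y' * x') :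
    form x y = form x' y' := by
  rcases form_cases x y with h1 | h1
  · rw [h1, form_eq_one_iff.mpr (h.mp (form_eq_one_iff.mp h1))]
  · rcases form_cases x' y' with h2 | h2
    · exfalso
      have h3 := form_eq_one_iff.mpr (h.mpr (form_eq_one_iff.mp h2))
      rw [h1] at h3
      omega
    · rw [h1, h2]

/-- The commutator form is conjugation invariant. -/
theorem form_conj (a x y : G) : form (a * x * a⁻¹) (a * y * a⁻¹) = form x y := by
  apply form_congr
  constructor
  · intro h
    have h1 : a⁻¹ * (a * x * a⁻¹ * (a * y * a⁻¹)) * a = a⁻¹ * (a * y * a⁻¹ * (a * x * a⁻¹)) * a := by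
      rw [h]
    have e1 : a⁻¹ * (a * x * a⁻¹ * (a * y * a⁻¹)) * a = x * y := by group
    have e2 : a⁻¹ * (a * y * a⁻¹ * (a * x * a⁻¹)) * a = y * x := by group
    rwa [e1, e2] at h1
  · intro h
    have e1 : a * x * a⁻¹ * (a * y * a⁻¹) = a * (x * y) * a⁻¹ := by group
    have e2 : a * y * a⁻¹ * (a * x * a⁻¹) = a * (y * x) * a⁻¹ := by group
    rw [e1, e2, h]

theorem form_inv_left {Q : Subgroup G} {z : G} (h : ExtraAt Q z) {a c : G}
    (ha : a ∈ Q) (hc : c ∈ Q) : form a⁻¹ c = form a c := by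
  have h1 := form_mul_left h (Q.inv_mem ha) ha hc
  have h2 : form (a⁻¹ * a) c = 1 := form_eq_one_iff.mpr (by simp)
  rw [h2] at h1
  rcases form_cases a c with h3 | h3 <;> rcases form_cases a⁻¹ c with h4 | h4
  · rw [h3, h4]
  · rw [h3, h4] at h1; norm_num at h1
  · rw [h3, h4] at h1; norm_num at h1
  · rw [h3, h4]

theorem form_inv_right {Q : Subgroup G} {z : G} (h : ExtraAt Q z) {a c : G}
    (ha : a ∈ Q) (hc : c ∈ Q) : form a c⁻¹ = form a c := by
  have h1 := form_mul_right h ha (Q.inv_mem hc) hc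
  have h2 : form a (c⁻¹ * c) = 1 := form_eq_one_iff.mpr (by simp)
  rw [h2] at h1
  rcases form_cases a c with h3 | h3 <;> rcases form_cases a c⁻¹ with h4 | h4
  · rw [h3, h4]
  · rw [h3, h4] at h1; norm_num at h1
  · rw [h3, h4] at h1; norm_num at h1
  · rw [h3, h4]

/-- Transport of `ExtraAt` along an injective homomorphism. -/
theorem extraAt_map {H : Type*} [Group H] {Q : Subgroup H} {z : H} (h : ExtraAt Q z)
    (φ : H →* G) (hφ : Function.Injective φ) : ExtraAt (Q.map φ) (φ z) where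
  two := h.two.map φ
  mem := ⟨z, h.mem, rfl⟩
  order := by rw [orderOf_injective φ hφ, h.order]
  cen := by
    rintro x ⟨a, ha, rfl⟩
    rw [← map_mul, ← map_mul, h.cen a ha]
  comm := by
    rintro x ⟨a, ha, rfl⟩ y ⟨b, hb, rfl⟩
    simp only [← map_mul, ← map_inv]
    rcases h.comm a ha b hb with h1 | h1
    · left; rw [h1, map_one]
    · right; rw [h1]
  sq := by
    rintro x ⟨a, ha, rfl⟩
    rw [← map_pow]
    rcases h.sq a ha with h1 | h1
    · left; rw [h1, map_one]
    · right; rw [h1]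
  central := by
    rintro x ⟨a, ha, rfl⟩ hx
    have h1 : ∀ y ∈ Q, a * y = y * a := by
      intro y hy
      apply hφ
      rw [map_mul, map_mul]
      exact hx (φ y) ⟨y, hy, rfl⟩
    rcases h.central a ha h1 with h2 | h2
    · left; rw [h2, map_one]
    · right; rw [h2]

/-! ### The generic pairing with commutators in `{1, z}` (`z` central in the ambient group) -/

open scoped Classical in
theorem form_aux_gen {z : G} (hz1 : z ≠ 1) (hzz : z * z = 1) {u v w : G}
    (hu : u = 1 ∨ u = z) (hv : v = 1 ∨ v = z) (huv : w = u * v) :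
    (if w = 1 then (1 : ℤ) else -1) =
      (if u = 1 then (1 : ℤ) else -1) * (if v = 1 then (1 : ℤ) else -1) := by
  rcases hu with rfl | rfl <;> rcases hv with rfl | rfl
  · subst huv; simp
  · subst huv; simp [hz1]
  · subst huv; simp [hz1]
  · subst huv; simp [hz1, hzz]

/-- `|C_A(B)| * |B| = |C_B(A)| * |A|` when all commutators `[a, b]` lie in `{1, z}` with `z` central
in the ambient group. -/
theorem card_pair_gen [Finite G] {A B : Subgroup G} {z : G} (hz1 : z ≠ 1) (hzz : z * z = 1)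
    (hcen : ∀ x : G, x * z = z * x)
    (hD : ∀ a ∈ A, ∀ b ∈ B, a * b * a⁻¹ * b⁻¹ = 1 ∨ a * b * a⁻¹ * b⁻¹ = z) :
    Nat.card ↥(A ⊓ Subgroup.centralizer (B : Set G)) * Nat.card B =
      Nat.card ↥(B ⊓ Subgroup.centralizer (A : Set G)) * Nat.card A := by
  classical
  have hconj : ∀ (a u : G), (u = 1 ∨ u = z) → a * u * a⁻¹ = u := by
    rintro a u (rfl | rfl)
    · simp
    · rw [hcen a]; simp
  have hL : ∀ a ∈ A, ∀ a' ∈ A, ∀ b ∈ B, form (a * a') b = form a b * form a' b := by
    intro a ha a' ha' b hb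
    unfold form
    have h1 := hD a ha b hb
    have h2 := hD a' ha' b hb
    refine form_aux_gen hz1 hzz h1 h2 ?_
    have e : (a * a') * b * (a * a')⁻¹ * b⁻¹ =
        (a * (a' * b * a'⁻¹ * b⁻¹) * a⁻¹) * (a * b * a⁻¹ * b⁻¹) := by group
    rw [e, hconj a _ h2]
    rcases h1 with h3 | h3 <;> rcases h2 with h4 | h4 <;> simp [h3, h4]
  have hR : ∀ a ∈ A, ∀ b ∈ B, ∀ b' ∈ B, form a (b * b') = form a b * form a b' := by
    intro a ha b hb b' hb'
    unfold form
    have h1 := hD a ha b hb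
    have h2 := hD a ha b' hb'
    refine form_aux_gen hz1 hzz h1 h2 ?_
    have e : a * (b * b') * a⁻¹ * (b * b')⁻¹ =
        (a * b * a⁻¹ * b⁻¹) * (b * (a * b' * a⁻¹ * b'⁻¹) * b⁻¹) := by group
    rw [e, hconj b _ h2]
  have := Fintype.ofFinite A
  have := Fintype.ofFinite B
  have key := pairing_count (A := A) (B := B) (fun a b => form (a : G) (b : G))
    (fun a b => form_cases _ _)
    (fun a a' b => hL a a.2 a' a'.2 b b.2)
    (fun a b b' => hR a a.2 b b.2 b' b'.2)
  have e1 : Nat.card {a : A // ∀ b : B, form (a : G) (b : G) = 1} =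
      Nat.card ↥(A ⊓ Subgroup.centralizer (B : Set G)) := by
    apply Nat.card_congr
    refine ⟨fun a => ⟨a.1.1, a.1.2, ?_⟩, fun a => ⟨⟨a.1, a.2.1⟩, ?_⟩, fun _ => rfl, fun _ => rfl⟩
    · refine Subgroup.mem_centralizer_iff.mpr ?_
      intro b hb
      exact (form_eq_one_iff.mp (a.2 ⟨b, hb⟩)).symm
    · intro b
      exact form_eq_one_iff.mpr ((Subgroup.mem_centralizer_iff.mp a.2.2 b b.2).symm)
  have e2 : Nat.card {b : B // ∀ a : A, form (a : G) (b : G) = 1} =
      Nat.card ↥(B ⊓ Subgroup.centralizer (A : Set G)) := by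
    apply Nat.card_congr
    refine ⟨fun b => ⟨b.1.1, b.1.2, ?_⟩, fun b => ⟨⟨b.1, b.2.1⟩, ?_⟩, fun _ => rfl, fun _ => rfl⟩
    · refine Subgroup.mem_centralizer_iff.mpr ?_
      intro a ha
      exact form_eq_one_iff.mp (b.2 ⟨a, ha⟩)
    · intro a
      exact form_eq_one_iff.mpr (Subgroup.mem_centralizer_iff.mp b.2.2 a a.2)
  rw [e1, e2, ← Nat.card_eq_fintype_card, ← Nat.card_eq_fintype_card] at key
  exact key

end Cfsg.Agent.Lib.ExtraDual
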