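/-
ExtraGlue: isomorphisms built as graphs.  A subgroup `D ≤ E₁ × E₂` that projects onto both factors
and has at most `|E₁| = |E₂|` elements is the graph of an isomorphism.  Applied to the central
decomposition of extraspecial groups `E = ⟨x, y⟩ ∘ C_E(x, y)`.
-/
import Mathlib
import Cfsg.Prelude.Def_Transfer
import Cfsg.Agent.Lib.Frat

set_option autoImplicit false

namespace Cfsg.Agent.Lib.ExtraGlue

open scoped commutatorElement

universe u v w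

theorem mem_normalizer_of_forall' {G : Type*} [Group G] [Finite G] {S : Subgroup G} {g : G}
    (h : ∀ x ∈ S, g * x * g⁻¹ ∈ S) : g ∈ Subgroup.normalizer (S : Set G) := by
  rw [Subgroup.mem_normalizer_iff]
  intro x
  refine ⟨h x, fun hx => ?_⟩
  have hinj : Function.Injective (fun y : S => (⟨g * y * g⁻¹, h y y.2⟩ : S)) := by
    intro y z hyz
    have := congrArg Subtype.val hyz
    simp only [mul_left_inj, mul_right_inj] at this
    exact Subtype.ext this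
  obtain ⟨y, hy⟩ := (Finite.injective_iff_surjective.1 hinj) ⟨_, hx⟩
  have h1 : g * (y : G) * g⁻¹ = g * x * g⁻¹ := congrArg Subtype.val hy
  have h2 : (y : G) = x := by
    simpa only [mul_left_inj, mul_right_inj] using h1
  rw [← h2]
  exact y.2

section graph

variable {E₁ : Type*} {E₂ : Type*} [Group E₁] [Group E₂] [Finite E₁] [Finite E₂]

/-- A subgroup of the product projecting onto both factors with few elements is the graph of an
isomorphism. -/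
theorem iso_of_graph (D : Subgroup (E₁ × E₂)) (h₁ : ∀ a : E₁, ∃ b, (a, b) ∈ D)
    (h₂ : ∀ b : E₂, ∃ a, (a, b) ∈ D) (hc₁ : Nat.card D ≤ Nat.card E₁)
    (hc₂ : Nat.card D ≤ Nat.card E₂) :
    ∃ Φ : E₁ ≃* E₂, ∀ a b, (a, b) ∈ D → Φ a = b := by
  let π₁ : D →* E₁ := (MonoidHom.fst E₁ E₂).comp D.subtype
  let π₂ : D →* E₂ := (MonoidHom.snd E₁ E₂).comp D.subtype
  have hs₁ : Function.Surjective π₁ := fun a => by
    obtain ⟨b, hb⟩ := h₁ a
    exact ⟨⟨(a, b), hb⟩, rfl⟩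
  have hs₂ : Function.Surjective π₂ := fun b => by
    obtain ⟨a, hb⟩ := h₂ b
    exact ⟨⟨(a, b), hb⟩, rfl⟩
  have hb₁ : Function.Bijective π₁ := by
    rw [Nat.bijective_iff_surjective_and_card]
    exact ⟨hs₁, le_antisymm hc₁ (Nat.card_le_card_of_surjective _ hs₁)⟩
  have hb₂ : Function.Bijective π₂ := by
    rw [Nat.bijective_iff_surjective_and_card]
    exact ⟨hs₂, le_antisymm hc₂ (Nat.card_le_card_of_surjective _ hs₂)⟩
  let e₁ : D ≃* E₁ := MulEquiv.ofBijective π₁ hb₁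
  let e₂ : D ≃* E₂ := MulEquiv.ofBijective π₂ hb₂
  refine ⟨e₁.symm.trans e₂, ?_⟩
  intro a b hab
  have h : e₁.symm a = ⟨(a, b), hab⟩ := by
    rw [MulEquiv.symm_apply_eq]
    rfl
  show e₂ (e₁.symm a) = b
  rw [h]
  rfl

end graph

/-- The subgroup generated by `N` and `x`, with `x` normalizing `N` and `x ^ k ∈ N`, has at most
`k * |N|` elements. -/
theorem card_sup_zpowers_le {G : Type*} [Group G] [Finite G] (N : Subgroup G) (x : G) (k : ℕ)
    (hk : 0 < k) (hx : x ∈ Subgroup.normalizer (N : Set G)) (hp : x ^ k ∈ N) :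
    Nat.card (N ⊔ Subgroup.zpowers x : Subgroup G) ≤ k * Nat.card N := by
  have hform : ∀ g ∈ N ⊔ Subgroup.zpowers x, ∃ m : ℤ, ∃ n ∈ N, g = x ^ m * n := by
    intro g hg
    rw [Subgroup.sup_eq_closure] at hg
    induction hg using Subgroup.closure_induction with
    | mem g hg =>
      rcases hg with hg | hg
      · exact ⟨0, g, hg, by simp⟩
      · obtain ⟨m, rfl⟩ := hg
        exact ⟨m, 1, N.one_mem, by simp⟩
    | one => exact ⟨0, 1, N.one_mem, by simp⟩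
    | mul a b _ _ iha ihb =>
      obtain ⟨m, n, hn, rfl⟩ := iha
      obtain ⟨m', n', hn', rfl⟩ := ihb
      refine ⟨m + m', (x ^ (-m')) * n * (x ^ (-m'))⁻¹ * n', ?_, ?_⟩
      · exact N.mul_mem ((Subgroup.mem_normalizer_iff.1 (zpow_mem hx _) n).1 hn) hn'
      · rw [zpow_add, zpow_neg, inv_inv]
        group
    | inv a _ iha =>
      obtain ⟨m, n, hn, rfl⟩ := iha
      refine ⟨-m, (x ^ m) * n⁻¹ * (x ^ m)⁻¹, ?_, ?_⟩
      · exact (Subgroup.mem_normalizer_iff.1 (zpow_mem hx _) _).1 (N.inv_mem hn)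
      · group
  have hform' : ∀ g ∈ N ⊔ Subgroup.zpowers x, ∃ r : Fin k, ∃ n ∈ N, g = x ^ (r : ℕ) * n := by
    intro g hg
    obtain ⟨m, n, hn, rfl⟩ := hform g hg
    have hkz : (k : ℤ) ≠ 0 := by exact_mod_cast hk.ne'
    have hr0 : 0 ≤ m % (k : ℤ) := Int.emod_nonneg _ hkz
    have hrlt : m % (k : ℤ) < k := Int.emod_lt_of_pos _ (by exact_mod_cast hk)
    refine ⟨⟨(m % (k : ℤ)).toNat, by omega⟩, (x ^ k) ^ (m / (k : ℤ)) * n,
      N.mul_mem (zpow_mem hp _) hn, ?_⟩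
    have e : x ^ m = x ^ ((m % (k : ℤ)).toNat) * (x ^ k) ^ (m / (k : ℤ)) := by
      rw [← zpow_natCast x (m % (k : ℤ)).toNat, ← zpow_natCast x k, ← zpow_mul, ← zpow_add,
        Int.toNat_of_nonneg hr0, Int.emod_add_mul_ediv]
    show x ^ m * n = _
    rw [e, mul_assoc]
  let f : Fin k × N → (N ⊔ Subgroup.zpowers x : Subgroup G) := fun q =>
    ⟨x ^ (q.1 : ℕ) * q.2, Subgroup.mul_mem _ (Subgroup.mem_sup_right (pow_mem (Subgroup.mem_zpowers x) _))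
      (Subgroup.mem_sup_left q.2.2)⟩
  have hf : Function.Surjective f := by
    rintro ⟨g, hg⟩
    obtain ⟨r, n, hn, rfl⟩ := hform' g hg
    exact ⟨(r, ⟨n, hn⟩), rfl⟩
  calc Nat.card (N ⊔ Subgroup.zpowers x : Subgroup G) ≤ Nat.card (Fin k × N) :=
        Nat.card_le_card_of_surjective f hf
    _ = k * Nat.card N := by
        rw [Nat.card_prod, Nat.card_eq_fintype_card, Fintype.card_fin]

section glue

variable {E₁ : Type*} {E₂ : Type*} [Group E₁] [Group E₂] [Finite E₁] [Finite E₂]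

/-- **Gluing**: extend an isomorphism `N₁ ≃ N₂` to `E₁ = N₁⟨x₁⟩⟨y₁⟩ → E₂ = N₂⟨x₂⟩⟨y₂⟩`, the
elements `xᵢ, yᵢ` centralizing `Nᵢ` with matching `p`-th powers and commutators. -/
theorem glue (p : ℕ) (hp : 0 < p) (N₁ : Subgroup E₁) (N₂ : Subgroup E₂) (φ : N₁ ≃* N₂)
    (x₁ y₁ : E₁) (x₂ y₂ : E₂)
    (hx₁ : ∀ n ∈ N₁, x₁ * n = n * x₁) (hy₁ : ∀ n ∈ N₁, y₁ * n = n * y₁)
    (hx₂ : ∀ n ∈ N₂, x₂ * n = n * x₂) (hy₂ : ∀ n ∈ N₂, y₂ * n = n * y₂)
    (c a b : N₁) (hc₁ : ⁅x₁, y₁⁆ = c) (hc₂ : ⁅x₂, y₂⁆ = φ c)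
    (ha₁ : x₁ ^ p = a) (ha₂ : x₂ ^ p = φ a) (hb₁ : y₁ ^ p = b) (hb₂ : y₂ ^ p = φ b)
    (hgen₁ : ∀ g : E₁, g ∈ N₁ ⊔ Subgroup.zpowers x₁ ⊔ Subgroup.zpowers y₁)
    (hgen₂ : ∀ g : E₂, g ∈ N₂ ⊔ Subgroup.zpowers x₂ ⊔ Subgroup.zpowers y₂)
    (hcard₁ : Nat.card E₁ = p ^ 2 * Nat.card N₁) (hcard₂ : Nat.card E₂ = p ^ 2 * Nat.card N₂) :
    ∃ Φ : E₁ ≃* E₂, ∀ n : N₁, Φ n = φ n := by
  classical
  let ι : N₁ →* E₁ × E₂ := MonoidHom.prod N₁.subtype (N₂.subtype.comp φ.toMonoidHom)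
  let Γ : Subgroup (E₁ × E₂) := ι.range
  have hΓ : ∀ n : N₁, ((n : E₁), (φ n : E₂)) ∈ Γ := fun n => ⟨n, rfl⟩
  have hΓcard : Nat.card Γ ≤ Nat.card N₁ :=
    Nat.card_le_card_of_surjective ι.rangeRestrict ι.rangeRestrict_surjective
  set X : E₁ × E₂ := (x₁, x₂) with hX
  set Y : E₁ × E₂ := (y₁, y₂) with hY
  have hXc : ∀ w ∈ Γ, X * w = w * X := by
    rintro _ ⟨n, rfl⟩
    exact Prod.ext (hx₁ _ n.2) (hx₂ _ (φ n).2)
  have hYc : ∀ w ∈ Γ, Y * w = w * Y := by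
    rintro _ ⟨n, rfl⟩
    exact Prod.ext (hy₁ _ n.2) (hy₂ _ (φ n).2)
  have hcXY : ⁅X, Y⁆ ∈ Γ := by
    have : ⁅X, Y⁆ = ((c : E₁), (φ c : E₂)) := by
      apply Prod.ext
      · exact hc₁
      · exact hc₂
    rw [this]
    exact hΓ c
  have hXp : X ^ p ∈ Γ := by
    have : X ^ p = ((a : E₁), (φ a : E₂)) := by
      apply Prod.ext
      · exact ha₁
      · exact ha₂
    rw [this]
    exact hΓ a
  have hYp : Y ^ p ∈ Γ := by
    have : Y ^ p = ((b : E₁), (φ b : E₂)) := by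
      apply Prod.ext
      · exact hb₁
      · exact hb₂
    rw [this]
    exact hΓ b
  have hXN : X ∈ Subgroup.normalizer (Γ : Set (E₁ × E₂)) := by
    rw [Subgroup.mem_normalizer_iff]
    intro w
    constructor
    · intro hw
      have e : X * w * X⁻¹ = w := by rw [hXc w hw]; group
      rw [e]; exact hw
    · intro hw
      have h1 : X⁻¹ * (X * w * X⁻¹) * X = w := by group
      have e : X * (X * w * X⁻¹) * X⁻¹ = X * w * X⁻¹ := by
        have := hXc _ hw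
        rw [this]; group
      have h2 : X * w * X⁻¹ = w := by
        have h3 : X⁻¹ * (X * (X * w * X⁻¹) * X⁻¹) * X = X * w * X⁻¹ := by group
        rw [e] at h3
        rw [← h3, h1]
      rwa [h2] at hw
  set Γ₁ : Subgroup (E₁ × E₂) := Γ ⊔ Subgroup.zpowers X with hΓ₁
  have hc1 : Nat.card Γ₁ ≤ p * Nat.card Γ := card_sup_zpowers_le Γ X p hp hXN hXp
  have hYN : Y ∈ Subgroup.normalizer (Γ₁ : Set (E₁ × E₂)) := by
    have hle : ∀ w ∈ Γ₁, Y * w * Y⁻¹ ∈ Γ₁ := by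
      have hsub : Γ₁ ≤ Γ₁.comap (MulAut.conj Y).toMonoidHom := by
        rw [hΓ₁, sup_le_iff]
        constructor
        · intro w hw
          show Y * w * Y⁻¹ ∈ Γ ⊔ Subgroup.zpowers X
          have e : Y * w * Y⁻¹ = w := by rw [hYc w hw]; group
          rw [e]
          exact Subgroup.mem_sup_left hw
        · rw [Subgroup.zpowers_le]
          show Y * X * Y⁻¹ ∈ Γ ⊔ Subgroup.zpowers X
          have e : Y * X * Y⁻¹ = ⁅X, Y⁆⁻¹ * X := by
            rw [commutatorElement_def]; group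
          rw [e]
          exact Subgroup.mul_mem _ (Subgroup.mem_sup_left (inv_mem hcXY))
            (Subgroup.mem_sup_right (Subgroup.mem_zpowers X))
      exact fun w hw => hsub hw
    exact Cfsg.Agent.Lib.ExtraGlue.mem_normalizer_of_forall' hle
  set D : Subgroup (E₁ × E₂) := Γ₁ ⊔ Subgroup.zpowers Y with hD
  have hc2 : Nat.card D ≤ p * Nat.card Γ₁ :=
    card_sup_zpowers_le Γ₁ Y p hp hYN (Subgroup.mem_sup_left hYp)
  have hN : Nat.card N₁ = Nat.card N₂ := Nat.card_congr φ.toEquiv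
  have hDcard : Nat.card D ≤ p ^ 2 * Nat.card N₁ := by
    calc Nat.card D ≤ p * Nat.card Γ₁ := hc2
      _ ≤ p * (p * Nat.card Γ) := Nat.mul_le_mul_left _ hc1
      _ ≤ p * (p * Nat.card N₁) := Nat.mul_le_mul_left _ (Nat.mul_le_mul_left _ hΓcard)
      _ = p ^ 2 * Nat.card N₁ := by ring
  have hΓD : Γ ≤ D := le_trans le_sup_left le_sup_left
  have hXD : X ∈ D := Subgroup.mem_sup_left (Subgroup.mem_sup_right (Subgroup.mem_zpowers X))
  have hYD : Y ∈ D := Subgroup.mem_sup_right (Subgroup.mem_zpowers Y)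
  have hπ₁ : ∀ g : E₁, ∃ b, (g, b) ∈ D := by
    have hle : N₁ ⊔ Subgroup.zpowers x₁ ⊔ Subgroup.zpowers y₁ ≤ D.map (MonoidHom.fst E₁ E₂) := by
      refine sup_le (sup_le ?_ ?_) ?_
      · intro n hn
        exact ⟨_, hΓD (hΓ ⟨n, hn⟩), rfl⟩
      · rw [Subgroup.zpowers_le]
        exact ⟨X, hXD, rfl⟩
      · rw [Subgroup.zpowers_le]
        exact ⟨Y, hYD, rfl⟩
    intro g
    obtain ⟨⟨g', b⟩, hq, rfl⟩ := hle (hgen₁ g)
    exact ⟨b, hq⟩
  have hπ₂ : ∀ g : E₂, ∃ a, (a, g) ∈ D := by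
    have hle : N₂ ⊔ Subgroup.zpowers x₂ ⊔ Subgroup.zpowers y₂ ≤ D.map (MonoidHom.snd E₁ E₂) := by
      refine sup_le (sup_le ?_ ?_) ?_
      · intro n hn
        obtain ⟨n', hn'⟩ := φ.surjective ⟨n, hn⟩
        refine ⟨_, hΓD (hΓ n'), ?_⟩
        show ((φ n' : N₂) : E₂) = n
        rw [hn']
      · rw [Subgroup.zpowers_le]
        exact ⟨X, hXD, rfl⟩
      · rw [Subgroup.zpowers_le]
        exact ⟨Y, hYD, rfl⟩
    intro g
    obtain ⟨⟨a, g'⟩, hq, rfl⟩ := hle (hgen₂ g)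
    exact ⟨a, hq⟩
  obtain ⟨Φ, hΦ⟩ := iso_of_graph D hπ₁ hπ₂ (by rw [hcard₁]; exact hDcard)
    (by rw [hcard₂, ← hN]; exact hDcard)
  exact ⟨Φ, fun n => hΦ _ _ (hΓD (hΓ n))⟩

end glue

end Cfsg.Agent.Lib.ExtraGlue
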