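/-
ExtraES: central decomposition of extraspecial groups and their classification up to isomorphism
(exponent `p`: one class for each order; `p = 2`: at most two classes for each order).
-/
import Mathlib
import Cfsg.Agent.Lib.ExtraGlue

set_option autoImplicit false

namespace Cfsg.Agent.Lib.ExtraES

open scoped commutatorElement
open Cfsg.Agent.Lib.ExtraGlue

universe u v w

/-- Elementwise form of "extraspecial (or of order `p`) with central generator `z`". -/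
structure ES (p : ℕ) (E : Type*) [Group E] (z : E) : Prop where
  central : ∀ g : E, g * z = z * g
  order : orderOf z = p
  center_le : ∀ g : E, (∀ h : E, h * g = g * h) → ∃ k : ℕ, g = z ^ k
  comm_le : ∀ a b : E, ∃ k : ℕ, ⁅a, b⁆ = z ^ k
  pow_le : ∀ a : E, ∃ k : ℕ, a ^ p = z ^ k

section basic

variable {p : ℕ} {E : Type*} [Group E] {z : E}

theorem ES.pow_central (h : ES p E z) (k : ℕ) (g : E) : g * z ^ k = z ^ k * g :=
  ((Commute.pow_right (h.central g) k))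

theorem ES.comm_central (h : ES p E z) (a b g : E) : g * ⁅a, b⁆ = ⁅a, b⁆ * g := by
  obtain ⟨k, hk⟩ := h.comm_le a b
  rw [hk]
  exact h.pow_central k g

theorem ES.comm_mul_right (h : ES p E z) (x g g' : E) : ⁅x, g * g'⁆ = ⁅x, g⁆ * ⁅x, g'⁆ := by
  have e : ⁅x, g * g'⁆ = ⁅x, g⁆ * (g * ⁅x, g'⁆ * g⁻¹) := by
    simp only [commutatorElement_def]
    group
  rw [e, h.comm_central x g' g]
  group

/-- The commutator homomorphism. -/
def ES.comHom (h : ES p E z) (x : E) : E →* Subgroup.zpowers z where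
  toFun g := ⟨⁅x, g⁆, by
    obtain ⟨k, hk⟩ := h.comm_le x g
    rw [hk]
    exact pow_mem (Subgroup.mem_zpowers z) k⟩
  map_one' := Subtype.ext (commutatorElement_one_right x)
  map_mul' g g' := Subtype.ext (h.comm_mul_right x g g')

@[simp] theorem ES.comHom_val (h : ES p E z) (x g : E) : ((h.comHom x g : Subgroup.zpowers z) : E) = ⁅x, g⁆ :=
  rfl

theorem ES.comm_pow_right (h : ES p E z) (x g : E) (k : ℕ) : ⁅x, g ^ k⁆ = ⁅x, g⁆ ^ k := by
  have h1 : h.comHom x (g ^ k) = (h.comHom x g) ^ k := map_pow _ _ _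
  exact congrArg Subtype.val h1

end basic

section partner

variable {p : ℕ} [hp : Fact p.Prime] {E : Type*} [Group E] {z : E}

/-- A non-central element has a partner with commutator `z`. -/
theorem ES.exists_partner (h : ES p E z) (x : E) (hx : ∃ a, a * x ≠ x * a) : ∃ y, ⁅x, y⁆ = z := by
  obtain ⟨a, ha⟩ := hx
  obtain ⟨k, hk⟩ := h.comm_le x a
  have hnd : ¬ p ∣ k := by
    intro hd
    have h1 : z ^ k = 1 := by
      rw [← h.order] at hd
      exact orderOf_dvd_iff_pow_eq_one.1 hd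
    rw [h1] at hk
    apply ha
    rw [commutatorElement_eq_one_iff_mul_comm] at hk
    exact hk.symm
  obtain ⟨m, hm⟩ := Nat.exists_mul_mod_eq_one_of_coprime
    ((Nat.Prime.coprime_iff_not_dvd hp.out).2 hnd).symm hp.out.one_lt
  refine ⟨a ^ m, ?_⟩
  rw [h.comm_pow_right, hk, ← pow_mul]
  have h2 : k * m = p * (k * m / p) + 1 := by
    have := Nat.div_add_mod (k * m) p
    omega
  rw [h2, pow_add, pow_mul, ← h.order, pow_orderOf_eq_one, one_pow, one_mul, pow_one]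

end partner

section decomposition

variable {p : ℕ} [hp : Fact p.Prime] {E : Type*} [Group E] [Finite E] {z : E}

/-- `⁅y, x⁻¹⁆ = ⁅x, y⁆` if commutators are central. -/
theorem ES.comm_inv_swap (h : ES p E z) {x y : E} (hxy : ⁅x, y⁆ = z) : ⁅y, x⁻¹⁆ = z := by
  have e : ⁅y, x⁻¹⁆ = x⁻¹ * ⁅x, y⁆ * x := by
    simp only [commutatorElement_def]
    group
  rw [e, hxy, h.central x⁻¹]
  group

/-- The centralizer of a pair. -/
abbrev Cn (x y : E) : Subgroup E := Subgroup.centralizer ({x, y} : Set E)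

theorem mem_Cn {x y c : E} : c ∈ Cn x y ↔ x * c = c * x ∧ y * c = c * y := by
  rw [Subgroup.mem_centralizer_iff]
  constructor
  · intro h
    exact ⟨h x (by simp), h y (by simp)⟩
  · rintro ⟨h1, h2⟩ g hg
    rcases hg with rfl | hg
    · exact h1
    · rw [Set.mem_singleton_iff] at hg
      rw [hg]
      exact h2

/-- `g = c * (y ^ i * x⁻¹ ^ j)` with `c` in the centralizer of the pair. -/
theorem ES.exists_decomp (h : ES p E z) {x y : E} (hxy : ⁅x, y⁆ = z) (g : E) :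
    ∃ c ∈ Cn x y, ∃ i j : ℕ, g = c * (y ^ i * x⁻¹ ^ j) := by
  classical
  obtain ⟨k₁, hk₁⟩ := h.comm_le x g
  obtain ⟨k₂, hk₂⟩ := h.comm_le y g
  set w : E := y ^ k₁ * x⁻¹ ^ k₂ with hw
  have h1 : ⁅x, w⁆ = z ^ k₁ := by
    rw [hw, h.comm_mul_right, h.comm_pow_right, h.comm_pow_right, hxy]
    have : ⁅x, x⁻¹⁆ = 1 := by
      rw [commutatorElement_eq_one_iff_mul_comm]; simp
    rw [this, one_pow, mul_one]
  have h2 : ⁅y, w⁆ = z ^ k₂ := by
    rw [hw, h.comm_mul_right, h.comm_pow_right, h.comm_pow_right, h.comm_inv_swap hxy]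
    have : ⁅y, y⁆ = 1 := commutatorElement_self y
    rw [this, one_pow, one_mul]
  refine ⟨g * w⁻¹, ?_, k₁, k₂, by rw [← hw, inv_mul_cancel_right]⟩
  rw [mem_Cn]
  have hg1 : ⁅x, g * w⁻¹⁆ = 1 := by
    rw [h.comm_mul_right]
    have : ⁅x, w⁻¹⁆ = ⁅x, w⁆⁻¹ := by
      have e : ⁅x, w * w⁻¹⁆ = ⁅x, w⁆ * ⁅x, w⁻¹⁆ := h.comm_mul_right x w w⁻¹
      rw [mul_inv_cancel, commutatorElement_one_right] at e
      exact eq_inv_of_mul_eq_one_right e.symm
    rw [this, hk₁, h1]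
    group
  have hg2 : ⁅y, g * w⁻¹⁆ = 1 := by
    rw [h.comm_mul_right]
    have : ⁅y, w⁻¹⁆ = ⁅y, w⁆⁻¹ := by
      have e : ⁅y, w * w⁻¹⁆ = ⁅y, w⁆ * ⁅y, w⁻¹⁆ := h.comm_mul_right y w w⁻¹
      rw [mul_inv_cancel, commutatorElement_one_right] at e
      exact eq_inv_of_mul_eq_one_right e.symm
    rw [this, hk₂, h2]
    group
  rw [commutatorElement_eq_one_iff_mul_comm] at hg1 hg2
  exact ⟨hg1, hg2⟩

/-- The generation statement. -/
theorem ES.mem_sup (h : ES p E z) {x y : E} (hxy : ⁅x, y⁆ = z) (g : E) :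
    g ∈ Cn x y ⊔ Subgroup.zpowers x ⊔ Subgroup.zpowers y := by
  obtain ⟨c, hc, i, j, rfl⟩ := h.exists_decomp hxy g
  have hy : y ^ i ∈ Cn x y ⊔ Subgroup.zpowers x ⊔ Subgroup.zpowers y :=
    pow_mem (Subgroup.mem_sup_right (Subgroup.mem_zpowers y)) i
  have hx : x⁻¹ ^ j ∈ Cn x y ⊔ Subgroup.zpowers x ⊔ Subgroup.zpowers y :=
    pow_mem (inv_mem (Subgroup.mem_sup_left (Subgroup.mem_sup_right (Subgroup.mem_zpowers x)))) j
  exact Subgroup.mul_mem _ (Subgroup.mem_sup_left (Subgroup.mem_sup_left hc)) (Subgroup.mul_mem _ hy hx)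

/-- The order formula. -/
theorem ES.card_eq (h : ES p E z) {x y : E} (hxy : ⁅x, y⁆ = z) :
    Nat.card E = p ^ 2 * Nat.card (Cn x y) := by
  classical
  let f : E →* Subgroup.zpowers z × Subgroup.zpowers z := (h.comHom x).prod (h.comHom y)
  have hker : f.ker = Cn x y := by
    ext c
    rw [MonoidHom.mem_ker, mem_Cn]
    constructor
    · intro hc
      have h1 : ⁅x, c⁆ = 1 := congrArg (fun q => ((q.1 : Subgroup.zpowers z) : E)) hc
      have h2 : ⁅y, c⁆ = 1 := congrArg (fun q => ((q.2 : Subgroup.zpowers z) : E)) hc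
      rw [commutatorElement_eq_one_iff_mul_comm] at h1 h2
      exact ⟨h1, h2⟩
    · rintro ⟨h1, h2⟩
      apply Prod.ext
      · apply Subtype.ext
        show ⁅x, c⁆ = 1
        rwa [commutatorElement_eq_one_iff_mul_comm]
      · apply Subtype.ext
        show ⁅y, c⁆ = 1
        rwa [commutatorElement_eq_one_iff_mul_comm]
  have hsurj : Function.Surjective f := by
    rintro ⟨⟨a, ha⟩, ⟨b, hb⟩⟩
    obtain ⟨i, hi⟩ := (mem_powers_iff_mem_zpowers.2 ha : a ∈ Submonoid.powers z)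
    obtain ⟨j, hj⟩ := (mem_powers_iff_mem_zpowers.2 hb : b ∈ Submonoid.powers z)
    refine ⟨y ^ i * x⁻¹ ^ j, ?_⟩
    apply Prod.ext
    · apply Subtype.ext
      show ⁅x, y ^ i * x⁻¹ ^ j⁆ = a
      rw [h.comm_mul_right, h.comm_pow_right, h.comm_pow_right, hxy]
      have : ⁅x, x⁻¹⁆ = 1 := by
        rw [commutatorElement_eq_one_iff_mul_comm]; simp
      rw [this, one_pow, mul_one]
      exact hi
    · apply Subtype.ext
      show ⁅y, y ^ i * x⁻¹ ^ j⁆ = b
      rw [h.comm_mul_right, h.comm_pow_right, h.comm_pow_right, h.comm_inv_swap hxy]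
      have : ⁅y, y⁆ = 1 := commutatorElement_self y
      rw [this, one_pow, one_mul]
      exact hj
  have hZ : Nat.card (Subgroup.zpowers z) = p := by
    rw [Nat.card_zpowers, h.order]
  have hcardf : Nat.card (f.range) = p ^ 2 := by
    rw [MonoidHom.range_eq_top.2 hsurj, Subgroup.card_top, Nat.card_prod, hZ, pow_two]
  have h1 := Subgroup.card_mul_index f.ker
  rw [Subgroup.index_ker, hcardf, hker] at h1
  rw [← h1, mul_comm]

/-- The central decomposition: the centralizer of a pair satisfies the hypothesis again. -/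
theorem ES.Cn_ES (h : ES p E z) {x y : E} (hxy : ⁅x, y⁆ = z) :
    ∃ hz : z ∈ Cn x y, ES p (Cn x y) ⟨z, hz⟩ := by
  have hz : z ∈ Cn x y := mem_Cn.2 ⟨h.central x, h.central y⟩
  refine ⟨hz, ⟨?_, ?_, ?_, ?_, ?_⟩⟩
  · intro g
    exact Subtype.ext (h.central g)
  · rw [Subgroup.orderOf_mk]
    exact h.order
  · rintro ⟨g, hg⟩ hcen
    have hgc := mem_Cn.1 hg
    obtain ⟨k, hk⟩ := h.center_le g (by
      intro a
      obtain ⟨c, hc, i, j, rfl⟩ := h.exists_decomp hxy a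
      have h1 : c * g = g * c := congrArg Subtype.val (hcen ⟨c, hc⟩)
      have h2 : Commute g (y ^ i) := (Commute.pow_right (show Commute g y from hgc.2.symm) i)
      have h3 : Commute g (x⁻¹ ^ j) :=
        (Commute.pow_right (Commute.inv_right (show Commute g x from hgc.1.symm)) j)
      calc c * (y ^ i * x⁻¹ ^ j) * g = c * (y ^ i * (x⁻¹ ^ j * g)) := by group
        _ = c * (y ^ i * (g * x⁻¹ ^ j)) := by rw [h3.eq]
        _ = c * ((y ^ i * g) * x⁻¹ ^ j) := by group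
        _ = c * ((g * y ^ i) * x⁻¹ ^ j) := by rw [h2.eq]
        _ = (c * g) * (y ^ i * x⁻¹ ^ j) := by group
        _ = (g * c) * (y ^ i * x⁻¹ ^ j) := by rw [h1]
        _ = g * (c * (y ^ i * x⁻¹ ^ j)) := by group)
    exact ⟨k, Subtype.ext hk⟩
  · intro a b
    obtain ⟨k, hk⟩ := h.comm_le (a : E) b
    exact ⟨k, Subtype.ext hk⟩
  · intro a
    obtain ⟨k, hk⟩ := h.pow_le (a : E)
    exact ⟨k, Subtype.ext hk⟩

/-- An abelian group with this structure is `⟨z⟩`. -/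
theorem ES.card_of_comm (h : ES p E z) (hc : ∀ a b : E, a * b = b * a) :
    Subgroup.zpowers z = ⊤ ∧ Nat.card E = p := by
  have h1 : Subgroup.zpowers z = ⊤ := by
    rw [eq_top_iff]
    intro g _
    obtain ⟨k, hk⟩ := h.center_le g (fun a => hc a g)
    rw [hk]
    exact pow_mem (Subgroup.mem_zpowers z) k
  refine ⟨h1, ?_⟩
  rw [← Subgroup.card_top (G := E), ← h1, Nat.card_zpowers, h.order]

end decomposition

section iso

variable {p : ℕ} [hp : Fact p.Prime]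

theorem iso_cyclic {E₁ : Type*} {E₂ : Type*} [Group E₁] [Group E₂] [Finite E₁] [Finite E₂] {z₁ : E₁} {z₂ : E₂}
    (h₁ : Subgroup.zpowers z₁ = ⊤) (h₂ : Subgroup.zpowers z₂ = ⊤)
    (o₁ : orderOf z₁ = p) (o₂ : orderOf z₂ = p) : ∃ Φ : E₁ ≃* E₂, Φ z₁ = z₂ := by
  have hord : orderOf ((z₁, z₂) : E₁ × E₂) = p := by
    rw [Prod.orderOf_mk, o₁, o₂, Nat.lcm_self]
  have hD : Nat.card (Subgroup.zpowers ((z₁, z₂) : E₁ × E₂)) = p := by
    rw [Nat.card_zpowers, hord]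
  have hc₁ : Nat.card E₁ = p := by
    rw [← Subgroup.card_top (G := E₁), ← h₁, Nat.card_zpowers, o₁]
  have hc₂ : Nat.card E₂ = p := by
    rw [← Subgroup.card_top (G := E₂), ← h₂, Nat.card_zpowers, o₂]
  obtain ⟨Φ, hΦ⟩ := iso_of_graph (Subgroup.zpowers ((z₁, z₂) : E₁ × E₂))
    (fun a => by
      have : a ∈ Subgroup.zpowers z₁ := by rw [h₁]; trivial
      obtain ⟨m, rfl⟩ := this
      exact ⟨z₂ ^ m, ⟨m, by simp⟩⟩)
    (fun b => by
      have : b ∈ Subgroup.zpowers z₂ := by rw [h₂]; trivial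
      obtain ⟨m, rfl⟩ := this
      exact ⟨z₁ ^ m, ⟨m, by simp⟩⟩)
    (by rw [hD, hc₁]) (by rw [hD, hc₂])
  exact ⟨Φ, hΦ _ _ (Subgroup.mem_zpowers _)⟩

/-- **Exponent `p`**: isomorphism type determined by the order, with prescribed image of `z`. -/
theorem iso_of_exponent : ∀ (n : ℕ) (E₁ : Type u) (E₂ : Type v) [Group E₁] [Group E₂] [Finite E₁]
    [Finite E₂] (z₁ : E₁) (z₂ : E₂), ES p E₁ z₁ → ES p E₂ z₂ → (∀ g : E₁, g ^ p = 1) →
    (∀ g : E₂, g ^ p = 1) → Nat.card E₁ = Nat.card E₂ → Nat.card E₁ = n →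
    ∃ Φ : E₁ ≃* E₂, Φ z₁ = z₂ := by
  intro n
  induction n using Nat.strong_induction_on with
  | _ n ih =>
    intro E₁ E₂ _ _ _ _ z₁ z₂ h₁ h₂ e₁ e₂ hcard hn
    by_cases hc₁ : ∀ a b : E₁, a * b = b * a
    · obtain ⟨t₁, c₁⟩ := h₁.card_of_comm hc₁
      have hc₂ : Subgroup.zpowers z₂ = ⊤ := by
        apply Subgroup.eq_top_of_card_eq
        rw [Nat.card_zpowers, h₂.order, ← hcard, c₁]
      exact iso_cyclic t₁ hc₂ h₁.order h₂.order
    · have hp2 : 2 ≤ p := hp.out.two_le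
      push Not at hc₁
      obtain ⟨a₁, b₁, hab₁⟩ := hc₁
      obtain ⟨y₁, hy₁⟩ := h₁.exists_partner a₁ ⟨b₁, fun h => hab₁ h.symm⟩
      have hcE₁ := h₁.card_eq hy₁
      have hpos₁ : 0 < Nat.card (Cn a₁ y₁) := Nat.card_pos
      have hc₂ : ¬ ∀ a b : E₂, a * b = b * a := by
        intro hc₂
        obtain ⟨_, c₂⟩ := h₂.card_of_comm hc₂
        rw [← hcard, hcE₁] at c₂
        have : p ^ 2 * 1 ≤ p ^ 2 * Nat.card (Cn a₁ y₁) := Nat.mul_le_mul_left _ hpos₁
        nlinarith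
      push Not at hc₂
      obtain ⟨a₂, b₂, hab₂⟩ := hc₂
      obtain ⟨y₂, hy₂⟩ := h₂.exists_partner a₂ ⟨b₂, fun h => hab₂ h.symm⟩
      have hcE₂ := h₂.card_eq hy₂
      obtain ⟨hz₁, hC₁⟩ := h₁.Cn_ES hy₁
      obtain ⟨hz₂, hC₂⟩ := h₂.Cn_ES hy₂
      have hCcard : Nat.card (Cn a₁ y₁) = Nat.card (Cn a₂ y₂) := by
        have hpp : 0 < p ^ 2 := by positivity
        apply Nat.eq_of_mul_eq_mul_left hpp
        rw [← hcE₁, ← hcE₂, hcard]
      have hlt : Nat.card (Cn a₁ y₁) < n := by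
        rw [← hn, hcE₁]
        have : 1 < p ^ 2 := Nat.one_lt_pow (by norm_num) hp.out.one_lt
        nlinarith
      obtain ⟨φ, hφ⟩ := ih _ hlt (Cn a₁ y₁) (Cn a₂ y₂) _ _ hC₁ hC₂
        (fun g => Subtype.ext (e₁ g)) (fun g => Subtype.ext (e₂ g)) hCcard rfl
      obtain ⟨Φ, hΦ⟩ := glue p hp.out.pos (Cn a₁ y₁) (Cn a₂ y₂) φ a₁ y₁ a₂ y₂
        (fun n hn => (mem_Cn.1 hn).1) (fun n hn => (mem_Cn.1 hn).2)
        (fun n hn => (mem_Cn.1 hn).1) (fun n hn => (mem_Cn.1 hn).2)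
        ⟨z₁, hz₁⟩ 1 1 hy₁ (by rw [hφ]; exact hy₂) (e₁ a₁) (by rw [map_one]; exact e₂ a₂)
        (e₁ y₁) (by rw [map_one]; exact e₂ y₂) (h₁.mem_sup hy₁) (h₂.mem_sup hy₂) hcE₁ hcE₂
      refine ⟨Φ, ?_⟩
      have := hΦ ⟨z₁, hz₁⟩
      rw [hφ] at this
      exact this

end iso

end Cfsg.Agent.Lib.ExtraES
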