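/-
ExtraES2: extraspecial groups as `ES`, and at most two classes of extraspecial 2-groups of each order.
-/
import Mathlib
import Cfsg.Agent.Lib.ExtraES

set_option autoImplicit false

namespace Cfsg.Agent.Lib.ExtraES2

open scoped commutatorElement
open Cfsg.Agent.Lib.ExtraGlue Cfsg.Agent.Lib.ExtraES

universe u v w

/-- Every extraspecial group has the elementwise structure. -/
theorem exists_ES {p : ℕ} [hp : Fact p.Prime] {E : Type*} [Group E] [Finite E]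
    (h : Cfsg.IsExtraspecial p E) : ∃ z : E, ES p E z := by
  obtain ⟨⟨hP, hfr, hcomm⟩, hZ⟩ := h
  haveI : IsCyclic (Subgroup.center E) := isCyclic_of_prime_card hZ
  obtain ⟨z₀, hz₀⟩ := IsCyclic.exists_generator (α := Subgroup.center E)
  refine ⟨z₀, ⟨?_, ?_, ?_, ?_, ?_⟩⟩
  · intro g
    exact (Subgroup.mem_center_iff.1 z₀.2 g)
  · rw [Subgroup.orderOf_coe, orderOf_eq_card_of_forall_mem_zpowers hz₀, hZ]
  · have hmem : ∀ g ∈ Subgroup.center E, ∃ k : ℕ, g = (z₀ : E) ^ k := by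
      intro g hg
      obtain ⟨k, hk⟩ := (mem_powers_iff_mem_zpowers.2 (hz₀ ⟨g, hg⟩) : (⟨g, hg⟩ : Subgroup.center E) ∈ Submonoid.powers z₀)
      exact ⟨k, (congrArg Subtype.val hk).symm⟩
    intro g hg
    exact hmem g (Subgroup.mem_center_iff.2 hg)
  · intro a b
    have hmem : ⁅a, b⁆ ∈ Subgroup.center E := by
      rw [← hcomm]
      exact Subgroup.commutator_mem_commutator (Subgroup.mem_top a) (Subgroup.mem_top b)
    obtain ⟨k, hk⟩ := (mem_powers_iff_mem_zpowers.2 (hz₀ ⟨_, hmem⟩) : (⟨_, hmem⟩ : Subgroup.center E) ∈ Submonoid.powers z₀)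
    exact ⟨k, (congrArg Subtype.val hk).symm⟩
  · intro a
    have hmem : a ^ p ∈ Subgroup.center E := by
      rw [← hfr]
      exact Cfsg.Agent.Lib.Frat.pow_mem_frattini hP a
    obtain ⟨k, hk⟩ := (mem_powers_iff_mem_zpowers.2 (hz₀ ⟨_, hmem⟩) : (⟨_, hmem⟩ : Subgroup.center E) ∈ Submonoid.powers z₀)
    exact ⟨k, (congrArg Subtype.val hk).symm⟩

section two

variable {E : Type*} [Group E] [Finite E] {z : E}

theorem zsq (h : ES 2 E z) : z ^ 2 = 1 := by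
  rw [← h.order]; exact pow_orderOf_eq_one z

theorem z_ne_one (h : ES 2 E z) : z ≠ 1 := by
  intro hz
  have := h.order
  rw [hz, orderOf_one] at this
  omega

theorem pow_cases (h : ES 2 E z) (k : ℕ) : z ^ k = 1 ∨ z ^ k = z := by
  rw [pow_eq_pow_mod k (zsq h)]
  have hk : k % 2 = 0 ∨ k % 2 = 1 := Nat.mod_two_eq_zero_or_one k
  rcases hk with hk | hk
  · left; rw [hk, pow_zero]
  · right; rw [hk, pow_one]

theorem sq_cases (h : ES 2 E z) (g : E) : g ^ 2 = 1 ∨ g ^ 2 = z := by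
  obtain ⟨k, hk⟩ := h.pow_le g
  rw [hk]
  exact pow_cases h k

/-- The existence of a non-central involution. -/
def TypeD (E : Type*) [Group E] : Prop := ∃ x : E, x ^ 2 = 1 ∧ ∃ a, a * x ≠ x * a

omit [Finite E] in
theorem comm_ne_one {a b : E} (hab : ⁅a, b⁆ ≠ 1) : b * a ≠ a * b := by
  intro h
  apply hab
  rw [commutatorElement_eq_one_iff_mul_comm]
  exact h.symm

theorem pair_D (h : ES 2 E z) (hD : TypeD E) : ∃ x y : E, x ^ 2 = 1 ∧ y ^ 2 = 1 ∧ ⁅x, y⁆ = z := by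
  haveI : Fact (Nat.Prime 2) := ⟨Nat.prime_two⟩
  obtain ⟨x, hx, hnc⟩ := hD
  obtain ⟨y₀, hy₀⟩ := h.exists_partner x hnc
  rcases sq_cases h y₀ with hs | hs
  · exact ⟨x, y₀, hx, hs, hy₀⟩
  · refine ⟨x, x * y₀, hx, ?_, ?_⟩
    · have hxinv : x⁻¹ = x := by
        rw [inv_eq_iff_mul_eq_one, ← pow_two, hx]
      have e : x * y₀ * x = z * y₀ := by
        rw [← hy₀, commutatorElement_def]
        nth_rewrite 2 [← hxinv]
        group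
      calc (x * y₀) ^ 2 = (x * y₀ * x) * y₀ := by rw [pow_two]; group
        _ = z * y₀ * y₀ := by rw [e]
        _ = z * y₀ ^ 2 := by rw [pow_two]; group
        _ = z ^ 2 := by rw [hs, pow_two]
        _ = 1 := zsq h
    · have e : ⁅x, x * y₀⁆ = x * ⁅x, y₀⁆ * x⁻¹ := by
        simp only [commutatorElement_def]
        group
      rw [e, hy₀, h.central x]
      group

theorem pair_Q (h : ES 2 E z) (hD : ¬ TypeD E) (hnc : ∃ a b : E, a * b ≠ b * a) :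
    ∃ x y : E, x ^ 2 = z ∧ y ^ 2 = z ∧ ⁅x, y⁆ = z := by
  haveI : Fact (Nat.Prime 2) := ⟨Nat.prime_two⟩
  obtain ⟨a, b, hab⟩ := hnc
  have hsq : ∀ x : E, (∃ c, c * x ≠ x * c) → x ^ 2 = z := by
    intro x hx
    rcases sq_cases h x with hs | hs
    · exact absurd ⟨x, hs, hx⟩ hD
    · exact hs
  obtain ⟨y, hy⟩ := h.exists_partner a ⟨b, fun h => hab h.symm⟩
  refine ⟨a, y, hsq a ⟨b, fun h => hab h.symm⟩, hsq y ⟨a, ?_⟩, hy⟩
  intro hc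
  have : ⁅a, y⁆ = 1 := by
    rw [commutatorElement_eq_one_iff_mul_comm]
    exact hc
  rw [this] at hy
  exact z_ne_one h hy.symm

theorem typeD_of_large (h : ES 2 E z) (hcard : 8 < Nat.card E) (hnc : ∃ a b : E, a * b ≠ b * a) :
    TypeD E := by
  haveI : Fact (Nat.Prime 2) := ⟨Nat.prime_two⟩
  obtain ⟨a, b, hab⟩ := hnc
  obtain ⟨y, hy⟩ := h.exists_partner a ⟨b, fun h => hab h.symm⟩
  rcases sq_cases h a with hs | hs
  · exact ⟨a, hs, b, fun h => hab h.symm⟩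
  · have hc := h.card_eq hy
    -- an element of the centralizer outside `⟨z⟩`
    have hC : 2 < Nat.card (Cn a y) := by
      rw [hc] at hcard
      omega
    have hZ : Nat.card (Subgroup.zpowers z) = 2 := by rw [Nat.card_zpowers, h.order]
    have hex : ∃ c ∈ Cn a y, c ∉ Subgroup.zpowers z := by
      by_contra hno
      push Not at hno
      have hle : Cn a y ≤ Subgroup.zpowers z := hno
      have := Subgroup.card_le_of_le hle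
      omega
    obtain ⟨c, hcC, hcZ⟩ := hex
    have hcc := mem_Cn.1 hcC
    rcases sq_cases h c with hs' | hs'
    · refine ⟨c, hs', ?_⟩
      by_contra hall
      push Not at hall
      obtain ⟨k, hk⟩ := h.center_le c hall
      apply hcZ
      rw [hk]
      exact pow_mem (Subgroup.mem_zpowers z) k
    · refine ⟨a * c, ?_, y, ?_⟩
      · have hcom : Commute a c := hcc.1
        rw [hcom.mul_pow, hs, hs', ← pow_two]
        exact zsq h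
      · apply comm_ne_one (a := a * c)
        have e : ⁅a * c, y⁆ = ⁅a, y⁆ := by
          have hcy : y * c = c * y := hcc.2
          simp only [commutatorElement_def]
          have hcac : a * c * y * (a * c)⁻¹ = a * y * a⁻¹ := by
            calc a * c * y * (a * c)⁻¹ = a * (c * y) * c⁻¹ * a⁻¹ := by group
              _ = a * (y * c) * c⁻¹ * a⁻¹ := by rw [hcy]
              _ = a * y * a⁻¹ := by group
          rw [hcac]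
        rw [e, hy]
        exact z_ne_one h

theorem noncomm_of_card (h : ES 2 E z) (hcard : 2 < Nat.card E) : ∃ a b : E, a * b ≠ b * a := by
  by_contra hno
  push Not at hno
  have := (h.card_of_comm hno).2
  omega

end two

section iso

variable {E₁ : Type*} {E₂ : Type*} [Group E₁] [Group E₂] [Finite E₁] [Finite E₂] {z₁ : E₁} {z₂ : E₂}

theorem iso_maps_z (h₁ : ES 2 E₁ z₁) (h₂ : ES 2 E₂ z₂) (φ : E₁ ≃* E₂) : φ z₁ = z₂ := by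
  have hc : ∀ g : E₂, g * φ z₁ = φ z₁ * g := by
    intro g
    obtain ⟨g', rfl⟩ := φ.surjective g
    rw [← map_mul, ← map_mul, h₁.central]
  obtain ⟨k, hk⟩ := h₂.center_le (φ z₁) hc
  rcases pow_cases h₂ k with h | h
  · rw [h] at hk
    have : z₁ = 1 := φ.injective (by rw [hk, map_one])
    exact absurd this (z_ne_one h₁)
  · rw [hk, h]

theorem glue2 (h₁ : ES 2 E₁ z₁) (h₂ : ES 2 E₂ z₂) {x₁ y₁ : E₁} {x₂ y₂ : E₂}
    (hxy₁ : ⁅x₁, y₁⁆ = z₁) (hxy₂ : ⁅x₂, y₂⁆ = z₂)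
    (hx : (x₁ ^ 2 = 1 ∧ x₂ ^ 2 = 1) ∨ (x₁ ^ 2 = z₁ ∧ x₂ ^ 2 = z₂))
    (hy : (y₁ ^ 2 = 1 ∧ y₂ ^ 2 = 1) ∨ (y₁ ^ 2 = z₁ ∧ y₂ ^ 2 = z₂))
    (ψ : Cn x₁ y₁ ≃* Cn x₂ y₂) : Nonempty (E₁ ≃* E₂) := by
  haveI : Fact (Nat.Prime 2) := ⟨Nat.prime_two⟩
  obtain ⟨hz₁, hC₁⟩ := h₁.Cn_ES hxy₁
  obtain ⟨hz₂, hC₂⟩ := h₂.Cn_ES hxy₂
  have hψ := iso_maps_z hC₁ hC₂ ψ
  have hcase : ∀ {a₁ : E₁} {a₂ : E₂}, ((a₁ ^ 2 = 1 ∧ a₂ ^ 2 = 1) ∨ (a₁ ^ 2 = z₁ ∧ a₂ ^ 2 = z₂)) →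
      ∃ a : Cn x₁ y₁, a₁ ^ 2 = a ∧ a₂ ^ 2 = ψ a := by
    intro a₁ a₂ h
    rcases h with ⟨h1, h2⟩ | ⟨h1, h2⟩
    · refine ⟨1, h1, ?_⟩
      rw [map_one]
      exact h2
    · refine ⟨⟨z₁, hz₁⟩, h1, ?_⟩
      rw [hψ]
      exact h2
  obtain ⟨a, ha₁, ha₂⟩ := hcase hx
  obtain ⟨b, hb₁, hb₂⟩ := hcase hy
  obtain ⟨Φ, -⟩ := glue 2 (by norm_num) (Cn x₁ y₁) (Cn x₂ y₂) ψ x₁ y₁ x₂ y₂
    (fun n hn => (mem_Cn.1 hn).1) (fun n hn => (mem_Cn.1 hn).2)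
    (fun n hn => (mem_Cn.1 hn).1) (fun n hn => (mem_Cn.1 hn).2)
    ⟨z₁, hz₁⟩ a b hxy₁ (by rw [hψ]; exact hxy₂) ha₁ ha₂ hb₁ hb₂
    (h₁.mem_sup hxy₁) (h₂.mem_sup hxy₂) (h₁.card_eq hxy₁) (h₂.card_eq hxy₂)
  exact ⟨Φ⟩

omit [Finite E₂] [Group E₂] in
theorem card_cn (h : ES 2 E₁ z₁) {x y : E₁} (hxy : ⁅x, y⁆ = z₁) (hc : Nat.card E₁ = 8) :
    Nat.card (Cn x y) = 2 := by
  haveI : Fact (Nat.Prime 2) := ⟨Nat.prime_two⟩
  have := h.card_eq hxy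
  omega

theorem pair_large {E : Type*} [Group E] [Finite E] {z : E} (n : ℕ) (hn : n ≠ 0) (h : ES 2 E z)
    (c : Nat.card E = 2 ^ (2 * (n + 1) + 1)) :
    ∃ x y : E, x ^ 2 = 1 ∧ y ^ 2 = 1 ∧ ∃ _ : ⁅x, y⁆ = z, Nat.card (Cn x y) = 2 ^ (2 * n + 1) := by
  haveI : Fact (Nat.Prime 2) := ⟨Nat.prime_two⟩
  have hbig : 8 < 2 ^ (2 * (n + 1) + 1) := by
    have h4 : 2 * (n + 1) + 1 ≥ 4 := by omega
    calc 8 < 2 ^ 4 := by norm_num
      _ ≤ 2 ^ (2 * (n + 1) + 1) := Nat.pow_le_pow_right (by norm_num) h4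
  have hD := typeD_of_large h (by omega) (noncomm_of_card h (by omega))
  obtain ⟨x, y, hx, hy, hxy⟩ := pair_D h hD
  refine ⟨x, y, hx, hy, hxy, ?_⟩
  have := h.card_eq hxy
  rw [c] at this
  have e : 2 ^ (2 * (n + 1) + 1) = 2 ^ 2 * 2 ^ (2 * n + 1) := by ring
  rw [e] at this
  exact (Nat.eq_of_mul_eq_mul_left (by norm_num) this).symm

/-- Order `8`: the presence of a non-central involution decides the class. -/
theorem iso_of_same_type (h₁ : ES 2 E₁ z₁) (h₂ : ES 2 E₂ z₂) (c₁ : Nat.card E₁ = 8)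
    (c₂ : Nat.card E₂ = 8) (ht : TypeD E₁ ↔ TypeD E₂) : Nonempty (E₁ ≃* E₂) := by
  haveI : Fact (Nat.Prime 2) := ⟨Nat.prime_two⟩
  by_cases hD : TypeD E₁
  · obtain ⟨x₁, y₁, hx₁, hy₁, hxy₁⟩ := pair_D h₁ hD
    obtain ⟨x₂, y₂, hx₂, hy₂, hxy₂⟩ := pair_D h₂ (ht.1 hD)
    exact glue2 h₁ h₂ hxy₁ hxy₂ (Or.inl ⟨hx₁, hx₂⟩) (Or.inl ⟨hy₁, hy₂⟩)
      (mulEquivOfPrimeCardEq (card_cn h₁ hxy₁ c₁) (card_cn h₂ hxy₂ c₂))
  · have hD₂ : ¬ TypeD E₂ := fun h => hD (ht.2 h)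
    obtain ⟨x₁, y₁, hx₁, hy₁, hxy₁⟩ := pair_Q h₁ hD (noncomm_of_card h₁ (by omega))
    obtain ⟨x₂, y₂, hx₂, hy₂, hxy₂⟩ := pair_Q h₂ hD₂ (noncomm_of_card h₂ (by omega))
    exact glue2 h₁ h₂ hxy₁ hxy₂ (Or.inr ⟨hx₁, hx₂⟩) (Or.inr ⟨hy₁, hy₂⟩)
      (mulEquivOfPrimeCardEq (card_cn h₁ hxy₁ c₁) (card_cn h₂ hxy₂ c₂))

end iso

/-- **At most two classes** of extraspecial `2`-groups of each order. -/
theorem two_classes : ∀ (n : ℕ) (E₁ : Type u) (E₂ : Type v) (E₃ : Type w) [Group E₁] [Group E₂] [Group E₃]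
    [Finite E₁] [Finite E₂] [Finite E₃] (z₁ : E₁) (z₂ : E₂) (z₃ : E₃),
    ES 2 E₁ z₁ → ES 2 E₂ z₂ → ES 2 E₃ z₃ → Nat.card E₁ = 2 ^ (2 * n + 1) →
    Nat.card E₂ = 2 ^ (2 * n + 1) → Nat.card E₃ = 2 ^ (2 * n + 1) →
    Nonempty (E₁ ≃* E₂) ∨ Nonempty (E₂ ≃* E₃) ∨ Nonempty (E₁ ≃* E₃) := by
  haveI : Fact (Nat.Prime 2) := ⟨Nat.prime_two⟩
  intro n
  induction n with
  | zero =>
    intro E₁ E₂ E₃ _ _ _ _ _ _ z₁ z₂ z₃ h₁ h₂ h₃ c₁ c₂ c₃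
    left
    exact ⟨mulEquivOfPrimeCardEq (p := 2) (by simpa using c₁) (by simpa using c₂)⟩
  | succ n ih =>
    intro E₁ E₂ E₃ _ _ _ _ _ _ z₁ z₂ z₃ h₁ h₂ h₃ c₁ c₂ c₃
    by_cases hn : n = 0
    · subst hn
      have c₁' : Nat.card E₁ = 8 := by simpa using c₁
      have c₂' : Nat.card E₂ = 8 := by simpa using c₂
      have c₃' : Nat.card E₃ = 8 := by simpa using c₃
      by_cases t₁ : TypeD E₁ <;> by_cases t₂ : TypeD E₂ <;> by_cases t₃ : TypeD E₃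
      · exact Or.inl (iso_of_same_type h₁ h₂ c₁' c₂' (by simp [t₁, t₂]))
      · exact Or.inl (iso_of_same_type h₁ h₂ c₁' c₂' (by simp [t₁, t₂]))
      · exact Or.inr (Or.inr (iso_of_same_type h₁ h₃ c₁' c₃' (by simp [t₁, t₃])))
      · exact Or.inr (Or.inl (iso_of_same_type h₂ h₃ c₂' c₃' (by simp [t₂, t₃])))
      · exact Or.inr (Or.inl (iso_of_same_type h₂ h₃ c₂' c₃' (by simp [t₂, t₃])))
      · exact Or.inr (Or.inr (iso_of_same_type h₁ h₃ c₁' c₃' (by simp [t₁, t₃])))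
      · exact Or.inl (iso_of_same_type h₁ h₂ c₁' c₂' (by simp [t₁, t₂]))
      · exact Or.inl (iso_of_same_type h₁ h₂ c₁' c₂' (by simp [t₁, t₂]))
    · obtain ⟨x₁, y₁, hx₁, hy₁, hxy₁, hc₁⟩ := pair_large n hn h₁ c₁
      obtain ⟨x₂, y₂, hx₂, hy₂, hxy₂, hc₂⟩ := pair_large n hn h₂ c₂
      obtain ⟨x₃, y₃, hx₃, hy₃, hxy₃, hc₃⟩ := pair_large n hn h₃ c₃
      obtain ⟨hz₁, hC₁⟩ := h₁.Cn_ES hxy₁
      obtain ⟨hz₂, hC₂⟩ := h₂.Cn_ES hxy₂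
      obtain ⟨hz₃, hC₃⟩ := h₃.Cn_ES hxy₃
      rcases ih (Cn x₁ y₁) (Cn x₂ y₂) (Cn x₃ y₃) _ _ _ hC₁ hC₂ hC₃ hc₁ hc₂ hc₃ with
        ⟨⟨ψ⟩⟩ | ⟨⟨ψ⟩⟩ | ⟨⟨ψ⟩⟩
      · exact Or.inl (glue2 h₁ h₂ hxy₁ hxy₂ (Or.inl ⟨hx₁, hx₂⟩) (Or.inl ⟨hy₁, hy₂⟩) ψ)
      · exact Or.inr (Or.inl (glue2 h₂ h₃ hxy₂ hxy₃ (Or.inl ⟨hx₂, hx₃⟩) (Or.inl ⟨hy₂, hy₃⟩) ψ))
      · exact Or.inr (Or.inr (glue2 h₁ h₃ hxy₁ hxy₃ (Or.inl ⟨hx₁, hx₃⟩) (Or.inl ⟨hy₁, hy₃⟩) ψ))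

end Cfsg.Agent.Lib.ExtraES2
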