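import Mathlib
import Cfsg.Prelude.Def_Transfer
import Cfsg.Agent.Lib.BGTH
import Cfsg.Agent.Lib.UniqueSub
import Cfsg.Agent.Lib.Frat
import Cfsg.Agent.Lib.ExtraBasics

/-!
# Noncyclic abelian groups of odd order acting on 2-groups with unique fixed involutions

Part 1: fixed point subgroups, coprime generation, automorphisms of groups with a unique involution.
-/

set_option autoImplicit false

namespace Cfsg.Agent.Lib.ExtraThreeAct

open QuaternionGroup

section Basic

variable {W : Type*} [Group W]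

/-- The fixed points of an automorphism. -/
def fixS (e : MulAut W) : Subgroup W where
  carrier := {x | e x = x}
  mul_mem' := by
    intro x y hx hy
    simp only [Set.mem_setOf_eq] at *
    rw [map_mul, hx, hy]
  one_mem' := map_one e
  inv_mem' := by
    intro x hx
    simp only [Set.mem_setOf_eq] at *
    rw [map_inv, hx]

@[simp] theorem mem_fixS {e : MulAut W} {x : W} : x ∈ fixS e ↔ e x = x := Iff.rfl

theorem fix_pow {g : MulAut W} {x : W} (h : g x = x) (k : ℕ) : (g ^ k) x = x := by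
  induction k with
  | zero => simp
  | succ n ih => rw [pow_succ, MulAut.mul_apply, h, ih]

theorem fix_of_sq {e : MulAut W} (ho : Odd (orderOf e)) {x : W} (h : (e ^ 2) x = x) : e x = x := by
  obtain ⟨m, hm⟩ := exists_pow_eq_self_of_coprime (x := e) (n := 2)
    (Nat.coprime_two_left.mpr ho)
  rw [← hm]
  exact fix_pow h m

/-- Restriction of an automorphism to an invariant subgroup. -/
def resAut (f : MulAut W) (X : Subgroup W) (h : ∀ x ∈ X, f x ∈ X) (h' : ∀ x ∈ X, f⁻¹ x ∈ X) :
    MulAut X where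
  toFun x := ⟨f x, h x x.2⟩
  invFun x := ⟨f⁻¹ x, h' x x.2⟩
  left_inv x := by ext; simp
  right_inv x := by ext; simp
  map_mul' x y := by ext; simp

theorem resAut_apply (f : MulAut W) (X : Subgroup W) (h : ∀ x ∈ X, f x ∈ X)
    (h' : ∀ x ∈ X, f⁻¹ x ∈ X) (x : X) : ((resAut f X h h' x : X) : W) = f x := rfl

theorem resAut_pow_apply (f : MulAut W) (X : Subgroup W) (h : ∀ x ∈ X, f x ∈ X)
    (h' : ∀ x ∈ X, f⁻¹ x ∈ X) (k : ℕ) (x : X) : ((((resAut f X h h') ^ k) x : X) : W) = (f ^ k) x := by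
  induction k generalizing x with
  | zero => simp
  | succ n ih =>
    rw [pow_succ, MulAut.mul_apply, ih, pow_succ, MulAut.mul_apply, resAut_apply]

end Basic

section Gen

variable {W : Type*} [Group W] [Finite W]

/-- Coprime generation, for a noncyclic abelian group of automorphisms. -/
theorem gen_le {r : ℕ} [hr : Fact r.Prime] (E : Subgroup (MulAut W)) (hE : IsPGroup r E)
    (hEc : ∀ e ∈ E, ∀ f ∈ E, e * f = f * e) {a c : MulAut W} (ha : a ∈ E) (hc : c ∈ E)
    (ha' : a ^ r = 1) (hc' : c ^ r = 1) (Y R : Subgroup W) (hYs : Group.IsSolvable Y)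
    (hY : (Nat.card Y).Coprime r) (hinv : ∀ e ∈ E, ∀ y ∈ Y, e y ∈ Y)
    (h1 : ∀ k : ℕ, 0 < k → k < r → ∀ y ∈ Y, (a ^ k) y = y → y ∈ R)
    (h2 : ∀ i : ℕ, ∀ y ∈ Y, (a ^ i * c) y = y → y ∈ R) : Y ≤ R := by
  classical
  let G := SemidirectProduct W (MulAut W) (MonoidHom.id (MulAut W))
  haveI : Finite G := Finite.of_equiv _ (SemidirectProduct.equivProd (N := W) (G := MulAut W)
    (φ := MonoidHom.id (MulAut W))).symm
  let ι : W →* G := SemidirectProduct.inl
  let κ : MulAut W →* G := SemidirectProduct.inr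
  have hι : Function.Injective ι := SemidirectProduct.inl_injective
  have hconj : ∀ (e : MulAut W) (y : W), κ e * ι y * (κ e)⁻¹ = ι (e y) := by
    intro e y
    have h0 := SemidirectProduct.inl_aut (φ := MonoidHom.id (MulAut W)) e y
    show SemidirectProduct.inr e * SemidirectProduct.inl y * (SemidirectProduct.inr e)⁻¹ = _
    rw [← map_inv]
    exact h0.symm
  have hcen : ∀ (e : MulAut W) (y : W), ι y ∈ Subgroup.centralizer ({κ e} : Set G) → e y = y := by
    intro e y hy
    have h3 : κ e * ι y = ι y * κ e := by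
      have := Subgroup.mem_centralizer_singleton_iff.mp hy
      exact this.symm
    have h4 : κ e * ι y * (κ e)⁻¹ = ι y := by
      rw [h3, mul_inv_cancel_right]
    rw [hconj] at h4
    exact hι h4
  have key : Y.map ι ≤ R.map ι := by
    refine Cfsg.Agent.Lib.BGTH.le_of_fixed_parts (r := r) (B := E.map κ) (a := κ a) (b := κ c)
      (hE.map κ) ?_ (Subgroup.mem_map_of_mem _ ha) (Subgroup.mem_map_of_mem _ hc)
      (by rw [← map_pow, ha', map_one]) (by rw [← map_pow, hc', map_one]) ?_ ?_ ?_ ?_ ?_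
    · refine ⟨⟨?_⟩⟩
      rintro ⟨_, e, he, rfl⟩ ⟨_, f, hf, rfl⟩
      apply Subtype.ext
      show κ e * κ f = κ f * κ e
      rw [← map_mul, ← map_mul, hEc e he f hf]
    · exact (Group.isSolvable_of_surjective (f := (Y.equivMapOfInjective ι hι).toMonoidHom)
        (Y.equivMapOfInjective ι hι).surjective)
    · rwa [Subgroup.card_map_of_injective hι]
    · rintro _ ⟨e, he, rfl⟩
      rw [Subgroup.mem_normalizer_iff]
      intro h
      constructor
      · rintro ⟨y, hy, rfl⟩
        exact ⟨e y, hinv e he y hy, (hconj e y).symm⟩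
      · rintro ⟨y, hy, hh⟩
        refine ⟨e⁻¹ y, hinv _ (E.inv_mem he) y hy, ?_⟩
        have h3 := hconj e⁻¹ y
        rw [hh, map_inv] at h3
        have h4 : h = (κ e)⁻¹ * (κ e * h * (κ e)⁻¹) * (κ e)⁻¹⁻¹ := by
          rw [inv_inv]
          simp only [mul_assoc, inv_mul_cancel_left, inv_mul_cancel, mul_one]
        rw [h4]
        exact h3.symm
    · intro k hk hkr x hx
      obtain ⟨⟨y, hy, rfl⟩, hyc⟩ := Subgroup.mem_inf.mp hx |>.imp id id
      rw [← map_pow] at hyc
      exact Subgroup.mem_map_of_mem _ (h1 k hk hkr y hy (hcen _ y hyc))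
    · intro i x hx
      obtain ⟨⟨y, hy, rfl⟩, hyc⟩ := Subgroup.mem_inf.mp hx |>.imp id id
      rw [← map_pow, ← map_mul] at hyc
      exact Subgroup.mem_map_of_mem _ (h2 i y hy (hcen _ y hyc))
  intro y hy
  obtain ⟨y', hy', he⟩ := key (Subgroup.mem_map_of_mem ι hy)
  rwa [← hι he]

end Gen

section Cyc

/-- An automorphism of odd prime power order of a cyclic `2`-group is trivial. -/
theorem aut_cyclic_trivial {X : Type*} [Group X] [Finite X] [IsCyclic X] (hX : IsPGroup 2 X)
    (f : MulAut X) {q m : ℕ} [hq : Fact q.Prime] (hq2 : q ≠ 2) (hf : f ^ q ^ m = 1) : f = 1 := by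
  obtain ⟨k, hk⟩ := IsPGroup.iff_card.mp hX
  have hcard : Nat.card (MulAut X) = Nat.totient (2 ^ k) := by
    rw [IsCyclic.card_mulAut, hk]
  have h2 : ∃ t, Nat.card (MulAut X) = 2 ^ t := by
    rcases k with _ | k
    · exact ⟨0, by simp [hcard]⟩
    · exact ⟨k, by rw [hcard, Nat.totient_prime_pow Nat.prime_two (by omega)]; simp⟩
  obtain ⟨t, ht⟩ := h2
  have h3 : f ^ 2 ^ t = 1 := by rw [← ht]; exact pow_card_eq_one'
  have h4 : orderOf f ∣ 2 ^ t := orderOf_dvd_of_pow_eq_one h3
  have h5 : orderOf f ∣ q ^ m := orderOf_dvd_of_pow_eq_one hf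
  have h6 : Nat.Coprime (2 ^ t) (q ^ m) := by
    apply Nat.Coprime.pow
    exact (Nat.coprime_primes Nat.prime_two hq.out).mpr (Ne.symm hq2)
  have h7 : orderOf f = 1 := Nat.eq_one_of_dvd_coprimes h6 h4 h5
  exact orderOf_eq_one_iff.mp h7

theorem aut_quat_a {n : ℕ} [NeZero n] (hn : 3 ≤ n) (g : MulAut (QuaternionGroup n)) :
    ∃ j, g (a 1) = a j := by
  have h1 : orderOf (g (a 1)) = 2 * n := by
    rw [MulEquiv.orderOf_eq, orderOf_a_one]
  cases h : g (a 1) with
  | a j => exact ⟨j, rfl⟩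
  | xa j =>
    rw [h, orderOf_xa] at h1
    omega

/-- Odd automorphisms of big generalized quaternion groups are trivial. -/
theorem aut_quat_trivial {n : ℕ} [NeZero n] (hn : 3 ≤ n) (hp : IsPGroup 2 (QuaternionGroup n))
    (f : MulAut (QuaternionGroup n)) {q m : ℕ} [hq : Fact q.Prime] (hq2 : q ≠ 2)
    (hf : f ^ q ^ m = 1) : f = 1 := by
  classical
  let Q := QuaternionGroup n
  let A : Subgroup Q := Subgroup.zpowers (a 1)
  have hmemA : ∀ i : ZMod (2 * n), (a i : Q) ∈ A := by
    intro i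
    have : (a i : Q) = (a 1 : Q) ^ i.val := by
      rw [a_one_pow]; simp
    rw [this]
    exact Subgroup.npow_mem_zpowers _ _
  have hA : ∀ g : MulAut Q, ∀ x ∈ A, g x ∈ A := by
    intro g x hx
    obtain ⟨k, rfl⟩ := Subgroup.mem_zpowers_iff.mp hx
    obtain ⟨j, hj⟩ := aut_quat_a hn g
    rw [map_zpow, hj]
    exact A.zpow_mem (hmemA j) k
  let fA : MulAut A := resAut f A (hA f) (hA f⁻¹)
  haveI : IsCyclic A := inferInstance
  have hfA : fA = 1 := by
    refine aut_cyclic_trivial (hp.to_subgroup A) fA hq2 (q := q) (m := m) ?_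
    ext x
    rw [resAut_pow_apply, hf]
    simp
  have hfix : ∀ x ∈ A, f x = x := by
    intro x hx
    have := congrArg (fun φ : MulAut A => ((φ ⟨x, hx⟩ : A) : Q)) hfA
    simpa [fA, resAut_apply] using this
  -- the other generator
  have hxa : ∃ j, f (xa 0) = xa j := by
    cases h : f (xa 0) with
    | xa j => exact ⟨j, rfl⟩
    | a j =>
      exfalso
      have h1 : (f⁻¹ (f (xa 0))) ∈ A := by
        rw [h]
        exact hA f⁻¹ _ (hmemA j)
      rw [MulAut.inv_apply_self] at h1
      have hA' : ∀ x ∈ A, ∃ i, x = (a i : Q) := by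
        intro x hx
        obtain ⟨k, rfl⟩ := Subgroup.mem_zpowers_iff.mp hx
        obtain ⟨k', hk'⟩ : ∃ k' : ℕ, (a 1 : Q) ^ k = (a 1 : Q) ^ k' := by
          refine ⟨(k % (orderOf (a 1 : Q) : ℤ)).toNat, ?_⟩
          rw [← zpow_natCast, Int.toNat_of_nonneg (Int.emod_nonneg _ ?_), zpow_mod_orderOf]
          exact_mod_cast (orderOf_pos (a 1 : Q)).ne'
        exact ⟨_, by rw [hk', a_one_pow]⟩
      obtain ⟨i, hi⟩ := hA' _ h1
      exact absurd hi (by simp)
  obtain ⟨j, hj⟩ := hxa
  have hy : f (a j) = a j := hfix _ (hmemA j)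
  have hpow : ∀ k : ℕ, (f ^ k) (xa 0) = xa 0 * (a j) ^ k := by
    intro k
    induction k with
    | zero => simp
    | succ k ih =>
      rw [pow_succ', MulAut.mul_apply, ih, map_mul, hj, map_pow, hy, pow_succ']
      rw [← mul_assoc, xa_mul_a]
      simp
  have h1 : (a j : Q) ^ q ^ m = 1 := by
    have := hpow (q ^ m)
    rw [hf, MulAut.one_apply] at this
    exact mul_left_cancel (a := xa 0) (by rw [← this, mul_one])
  have hj0 : (a j : Q) = 1 := by
    obtain ⟨t, ht⟩ := hp (a j)
    have h4 : orderOf (a j : Q) ∣ 2 ^ t := orderOf_dvd_of_pow_eq_one ht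
    have h5 : orderOf (a j : Q) ∣ q ^ m := orderOf_dvd_of_pow_eq_one h1
    have h6 : Nat.Coprime (2 ^ t) (q ^ m) := by
      apply Nat.Coprime.pow
      exact (Nat.coprime_primes Nat.prime_two hq.out).mpr (Ne.symm hq2)
    exact orderOf_eq_one_iff.mp (Nat.eq_one_of_dvd_coprimes h6 h4 h5)
  have hfx : f (xa 0) = xa 0 := by
    have h7 : xa j = (xa 0 : Q) * a j := by rw [xa_mul_a]; simp
    rw [hj, h7, hj0, mul_one]
  ext x
  cases x with
  | a i => exact hfix _ (hmemA i)
  | xa i =>
    have h7 : (xa i : Q) = (xa 0 : Q) * a i := by rw [xa_mul_a]; simp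
    rw [MulAut.one_apply, h7, map_mul, hfx, hfix _ (hmemA i)]

/-- An automorphism of odd prime power order of a `2`-group with a unique involution. -/
theorem quat_of_aut {X : Type*} [Group X] [Finite X] (hX : IsPGroup 2 X)
    (huniq : ∀ x y : X, orderOf x = 2 → orderOf y = 2 → x = y) (f : MulAut X) {q m : ℕ}
    [hq : Fact q.Prime] (hq2 : q ≠ 2) (hf : f ^ q ^ m = 1) (hne : f ≠ 1) :
    Nonempty (X ≃* QuaternionGroup 2) := by
  classical
  haveI : Fact (Nat.Prime 2) := ⟨Nat.prime_two⟩
  have hS : ∀ H K : Subgroup X, Nat.card H = 2 → Nat.card K = 2 → H = K := by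
    have key : ∀ H : Subgroup X, Nat.card H = 2 → ∃ x ∈ H, orderOf x = 2 ∧
        ∀ y ∈ H, y = 1 ∨ orderOf y = 2 := by
      intro H hH
      haveI : Nontrivial H := Finite.one_lt_card_iff_nontrivial.mp (by omega)
      obtain ⟨x, hx⟩ := exists_ne (1 : H)
      have hord : ∀ y : H, y ≠ 1 → orderOf (y : X) = 2 := by
        intro y hy
        rw [Subgroup.orderOf_coe]
        have h1 : orderOf y ∣ 2 := by rw [← hH]; exact orderOf_dvd_natCard y
        rcases (Nat.dvd_prime Nat.prime_two).mp h1 with h | h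
        · exact absurd (orderOf_eq_one_iff.mp h) hy
        · exact h
      refine ⟨x, x.2, hord x hx, ?_⟩
      intro y hy
      by_cases h1 : y = 1
      · exact Or.inl h1
      · exact Or.inr (hord ⟨y, hy⟩ (fun h => h1 (congrArg Subtype.val h)))
    intro H K hH hK
    obtain ⟨x, hxH, hx, hH'⟩ := key H hH
    obtain ⟨y, hyK, hy, hK'⟩ := key K hK
    have hxy := huniq x y hx hy
    ext w
    constructor
    · intro hw
      rcases hH' w hw with h | h
      · rw [h]; exact K.one_mem
      · rw [huniq w y h hy]; exact hyK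
    · intro hw
      rcases hK' w hw with h | h
      · rw [h]; exact H.one_mem
      · rw [huniq w x h hx]; exact hxH
  rcases Cfsg.Agent.Lib.UniqueSub.main 2 hX hS with hc | ⟨-, n, ⟨ψ⟩⟩
  · exact absurd (aut_cyclic_trivial hX f hq2 hf) hne
  · rcases n with _ | _ | n
    · exfalso
      haveI : IsCyclic (QuaternionGroup (2 ^ 0)) := quaternionGroup_one_isCyclic
      haveI : IsCyclic X := isCyclic_of_surjective ψ.symm ψ.symm.surjective
      exact hne (aut_cyclic_trivial hX f hq2 hf)
    · exact ⟨ψ⟩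
    · exfalso
      have hn : 3 ≤ 2 ^ (n + 1 + 1) := by
        have : 2 ^ (n + 1 + 1) = 4 * 2 ^ n := by ring
        have h2 : 1 ≤ 2 ^ n := Nat.one_le_two_pow
        omega
      haveI : NeZero (2 ^ (n + 1 + 1)) := ⟨by positivity⟩
      have hp : IsPGroup 2 (QuaternionGroup (2 ^ (n + 1 + 1))) :=
        hX.of_surjective ψ.toMonoidHom ψ.surjective
      have h1 : MulAut.congr ψ f = 1 := by
        apply aut_quat_trivial hn hp _ hq2 (q := q) (m := m)
        rw [← map_pow, hf, map_one]
      apply hne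
      have h2 : f = (MulAut.congr ψ).symm (MulAut.congr ψ f) := ((MulAut.congr ψ).symm_apply_apply f).symm
      rw [h2, h1, map_one]

end Cyc

end Cfsg.Agent.Lib.ExtraThreeAct
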