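import Mathlib
import Cfsg.Prelude.Def_Transfer
import Cfsg.Agent.Lib.ExtraThreeAct

/-!
# Noncyclic abelian groups of odd order acting on 2-groups with unique fixed involutions

Part 2: the `Q₈` package, the context, the central fixed involution, `p = 3`.
-/

set_option autoImplicit false

namespace Cfsg.Agent.Lib.ExtraThreeAct

open QuaternionGroup

section Q8

theorem q8_comm : ∀ x y : QuaternionGroup 2, x * y = y * x ∨ x * y = y * x * a 2 := by decide
theorem q8_sq : ∀ x : QuaternionGroup 2, x = 1 ∨ x = a 2 ∨ x * x = a 2 := by decide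
theorem q8_cen : ∀ x : QuaternionGroup 2, (∀ y : QuaternionGroup 2, x * y = y * x) →
    x = 1 ∨ x = a 2 := by decide
theorem q8_inv : ∀ x : QuaternionGroup 2, x * x = 1 → x = 1 ∨ x = a 2 := by decide
theorem q8_gen : ∀ u v x : QuaternionGroup 2, u ≠ 1 → u ≠ a 2 → v ≠ 1 → v ≠ a 2 → v ≠ u →
    v ≠ u * a 2 → u * v = v * u * a 2 ∧
      (x = 1 ∨ x = a 2 ∨ x = u ∨ x = u * a 2 ∨ x = v ∨ x = v * a 2 ∨ x = u * v ∨ x = u * v * a 2) := by
  decide +kernel

variable {W : Type*} [Group W]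

/-- `X` looks like `Q₈` with central involution `z`. -/
structure QPack (X : Subgroup W) (z : W) : Prop where
  card_eq : Nat.card X = 8
  comm : ∀ x ∈ X, ∀ y ∈ X, x * y = y * x ∨ x * y = y * x * z
  sq : ∀ x ∈ X, x = 1 ∨ x = z ∨ x * x = z
  cen : ∀ x ∈ X, (∀ y ∈ X, x * y = y * x) → x = 1 ∨ x = z
  gen : ∀ u ∈ X, ∀ v ∈ X, ∀ x ∈ X, u ≠ 1 → u ≠ z → v ≠ 1 → v ≠ z → v ≠ u → v ≠ u * z →
    u * v = v * u * z ∧
      (x = 1 ∨ x = z ∨ x = u ∨ x = u * z ∨ x = v ∨ x = v * z ∨ x = u * v ∨ x = u * v * z)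

theorem qpack_of_equiv {X : Subgroup W} {z : W} (hzX : z ∈ X) (hz1 : z ≠ 1) (hz2 : z * z = 1)
    (ψ : X ≃* QuaternionGroup 2) : QPack X z := by
  classical
  let z' : X := ⟨z, hzX⟩
  have hψ : ψ z' = a 2 := by
    have h1 : ψ z' * ψ z' = 1 := by
      rw [← map_mul]
      have : z' * z' = 1 := Subtype.ext hz2
      rw [this, map_one]
    rcases q8_inv _ h1 with h | h
    · exfalso
      have h2 : z' = 1 := ψ.injective (by rw [h, map_one])
      exact hz1 (congrArg Subtype.val h2)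
    · exact h
  have hinj : ∀ {x y : X}, ψ x = ψ y → (x : W) = y := fun h => congrArg Subtype.val (ψ.injective h)
  refine ⟨?_, ?_, ?_, ?_, ?_⟩
  · rw [Nat.card_congr ψ.toEquiv, Nat.card_eq_fintype_card, QuaternionGroup.card]
  · intro x hx y hy
    rcases q8_comm (ψ ⟨x, hx⟩) (ψ ⟨y, hy⟩) with h | h
    · left
      exact hinj (x := ⟨x, hx⟩ * ⟨y, hy⟩) (y := ⟨y, hy⟩ * ⟨x, hx⟩) (by rw [map_mul, map_mul, h])
    · right
      exact hinj (x := ⟨x, hx⟩ * ⟨y, hy⟩) (y := ⟨y, hy⟩ * ⟨x, hx⟩ * z')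
        (by rw [map_mul, map_mul, map_mul, h, hψ])
  · intro x hx
    rcases q8_sq (ψ ⟨x, hx⟩) with h | h | h
    · left
      exact hinj (x := ⟨x, hx⟩) (y := 1) (by rw [h, map_one])
    · right; left
      exact hinj (x := ⟨x, hx⟩) (y := z') (by rw [h, hψ])
    · right; right
      exact hinj (x := ⟨x, hx⟩ * ⟨x, hx⟩) (y := z') (by rw [map_mul, h, hψ])
  · intro x hx hc
    have h1 : ∀ y : QuaternionGroup 2, ψ ⟨x, hx⟩ * y = y * ψ ⟨x, hx⟩ := by
      intro y
      obtain ⟨y', rfl⟩ := ψ.surjective y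
      rw [← map_mul, ← map_mul]
      congr 1
      exact Subtype.ext (hc y' y'.2)
    rcases q8_cen _ h1 with h | h
    · left
      exact hinj (x := ⟨x, hx⟩) (y := 1) (by rw [h, map_one])
    · right
      exact hinj (x := ⟨x, hx⟩) (y := z') (by rw [h, hψ])
  · intro u hu v hv x hx hu1 huz hv1 hvz hvu hvuz
    let u' : X := ⟨u, hu⟩
    let v' : X := ⟨v, hv⟩
    let x' : X := ⟨x, hx⟩
    have hne : ∀ {s t : X}, (s : W) ≠ t → ψ s ≠ ψ t := fun h h' => h (hinj h')
    have h := q8_gen (ψ u') (ψ v') (ψ x')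
      (by rw [← map_one ψ]; exact hne (s := u') (t := 1) hu1)
      (by rw [← hψ]; exact hne (s := u') (t := z') huz)
      (by rw [← map_one ψ]; exact hne (s := v') (t := 1) hv1)
      (by rw [← hψ]; exact hne (s := v') (t := z') hvz)
      (hne (s := v') (t := u') hvu)
      (by rw [← hψ, ← map_mul]; exact hne (s := v') (t := u' * z') hvuz)
    rw [← hψ] at h
    simp only [← map_mul] at h
    obtain ⟨h1, h2⟩ := h
    refine ⟨hinj h1, ?_⟩
    rcases h2 with h | h | h | h | h | h | h | h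
    · left
      rw [← map_one ψ] at h
      exact hinj h
    · right; left; exact hinj h
    · right; right; left; exact hinj h
    · right; right; right; left; exact hinj h
    · right; right; right; right; left; exact hinj h
    · right; right; right; right; right; left; exact hinj h
    · right; right; right; right; right; right; left; exact hinj h
    · right; right; right; right; right; right; right; exact hinj h

/-- Counting fixed points of an automorphism of odd prime power order on a group of order 8. -/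
theorem quat_fix {X : Type*} [Group X] [Finite X] (hcard : Nat.card X = 8) (f : MulAut X) {q m : ℕ}
    [hq : Fact q.Prime] (hq2 : q ≠ 2) (hf : f ^ q ^ m = 1) (hne : f ≠ 1) (x₀ : X) (hx₀ : x₀ ≠ 1)
    (hfx₀ : f x₀ = x₀) : q = 3 ∧ ∀ x, f x = x → x = 1 ∨ x = x₀ := by
  classical
  let H := Subgroup.zpowers f
  have hH : IsPGroup q H := by
    rintro ⟨g, hg⟩
    obtain ⟨k, rfl⟩ := Subgroup.mem_zpowers_iff.mp hg
    refine ⟨m, Subtype.ext ?_⟩
    show (f ^ k) ^ q ^ m = 1
    rw [← zpow_natCast, ← zpow_mul, mul_comm, zpow_mul, zpow_natCast, hf, one_zpow]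
  have hm := hH.card_modEq_card_fixedPoints X
  have hset : MulAction.fixedPoints H X = (fixS f : Set X) := by
    ext x
    constructor
    · intro h
      exact h ⟨f, Subgroup.mem_zpowers f⟩
    · rintro h ⟨g, hg⟩
      have h1 : Subgroup.zpowers f ≤ MulAction.stabilizer (MulAut X) x :=
        Subgroup.zpowers_le.mpr h
      exact h1 hg
  rw [hset] at hm
  have hm' : 8 ≡ Nat.card (fixS f) [MOD q] := by
    rw [hcard] at hm
    exact hm
  have hd : Nat.card (fixS f) ∣ 2 ^ 3 := by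
    have := Subgroup.card_subgroup_dvd_card (fixS f)
    rwa [hcard] at this
  obtain ⟨k, hk, hdk⟩ := (Nat.dvd_prime_pow Nat.prime_two).mp hd
  have hq' := hq.out
  have hdvd3 : q ∣ 2 ∨ q ∣ 3 → q = 2 ∨ q = 3 := by
    rintro (h | h)
    · exact Or.inl ((Nat.prime_dvd_prime_iff_eq hq' Nat.prime_two).mp h)
    · exact Or.inr ((Nat.prime_dvd_prime_iff_eq hq' Nat.prime_three).mp h)
  interval_cases k
  · exfalso
    rw [pow_zero] at hdk
    have h1 : Subsingleton (fixS f) := (Nat.card_eq_one_iff_unique.mp hdk).1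
    have h2 : (⟨x₀, hfx₀⟩ : fixS f) = 1 := Subsingleton.elim _ _
    exact hx₀ (congrArg Subtype.val h2)
  · rw [pow_one] at hdk
    rw [hdk] at hm'
    have h6 : q ∣ 6 := (Nat.modEq_iff_dvd' (by norm_num)).mp hm'.symm
    have h3 : q = 3 := by
      have h2 : q ∣ 2 ∨ q ∣ 3 := (Nat.Prime.dvd_mul hq').mp (by simpa using h6)
      rcases hdvd3 h2 with h | h
      · exact absurd h hq2
      · exact h
    refine ⟨h3, ?_⟩
    intro x hx
    by_contra hcon
    push Not at hcon
    haveI := Fintype.ofFinite (fixS f)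
    have h4 : 2 < Fintype.card (fixS f) := by
      rw [Fintype.two_lt_card_iff]
      refine ⟨1, ⟨x₀, hfx₀⟩, ⟨x, hx⟩, ?_, ?_, ?_⟩
      · intro h
        exact hx₀ (congrArg Subtype.val h).symm
      · intro h
        exact hcon.1 (congrArg Subtype.val h).symm
      · intro h
        exact hcon.2 (congrArg Subtype.val h).symm
    rw [← Nat.card_eq_fintype_card, hdk] at h4
    omega
  · exfalso
    rw [hdk] at hm'
    have h6 : q ∣ 4 := (Nat.modEq_iff_dvd' (by norm_num)).mp hm'.symm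
    have h2 : q ∣ 2 := by
      have : q ∣ 2 ^ 2 := by simpa using h6
      exact hq'.dvd_of_dvd_pow this
    exact hq2 ((Nat.prime_dvd_prime_iff_eq hq' Nat.prime_two).mp h2)
  · exfalso
    have h7 : fixS f = ⊤ := by
      apply Subgroup.eq_top_of_card_eq
      rw [hdk, hcard]
      norm_num
    apply hne
    ext x
    have : x ∈ fixS f := by rw [h7]; trivial
    exact this

end Q8

section Context

variable {W : Type*} [Group W] [Finite W]

/-- The context. -/
structure Ctx (E : Subgroup (MulAut W)) (p : ℕ) (z : W) : Prop where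
  hW : IsPGroup 2 W
  hp2 : p ≠ 2
  hE : IsPGroup p E
  hc : ∀ e ∈ E, ∀ f ∈ E, e * f = f * e
  hfix : ∀ e ∈ E, e ≠ 1 → ∀ x y : W, orderOf x = 2 → orderOf y = 2 → e x = x → e y = y → x = y
  hz : orderOf z = 2
  hzc : ∀ x, z * x = x * z
  hzE : ∀ e ∈ E, e z = z

/-- A noncyclic pair of elements of order `p`. -/
structure Pair (E : Subgroup (MulAut W)) (p : ℕ) (a c : MulAut W) : Prop where
  ha : a ∈ E
  hc : c ∈ E
  ha' : a ^ p = 1
  hc' : c ^ p = 1
  h1 : ∀ k : ℕ, 0 < k → k < p → a ^ k ≠ 1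
  h2 : ∀ i : ℕ, a ^ i * c ≠ 1

/-- The representatives of the nontrivial elements of a pair. -/
def IsG (a c : MulAut W) (p : ℕ) (g : MulAut W) : Prop :=
  (∃ k : ℕ, 0 < k ∧ k < p ∧ g = a ^ k) ∨ ∃ i : ℕ, g = a ^ i * c

variable {E : Subgroup (MulAut W)} {p : ℕ} {z : W} {a c : MulAut W}

theorem Pair.g_mem (P : Pair E p a c) {g : MulAut W} (hg : IsG a c p g) : g ∈ E := by
  rcases hg with ⟨k, -, -, rfl⟩ | ⟨i, rfl⟩
  · exact E.pow_mem P.ha k
  · exact E.mul_mem (E.pow_mem P.ha i) P.hc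

theorem Pair.g_ne (P : Pair E p a c) {g : MulAut W} (hg : IsG a c p g) : g ≠ 1 := by
  rcases hg with ⟨k, h0, h1, rfl⟩ | ⟨i, rfl⟩
  · exact P.h1 k h0 h1
  · exact P.h2 i

theorem Pair.a_ne [hp : Fact p.Prime] (P : Pair E p a c) : a ≠ 1 := by
  have := P.h1 1 one_pos hp.out.one_lt
  rwa [pow_one] at this

theorem comm_apply {e f : MulAut W} (h : e * f = f * e) (x : W) : e (f x) = f (e x) := by
  have := congrArg (fun φ : MulAut W => φ x) h
  simpa [MulAut.mul_apply] using this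

theorem gen_isG [hp : Fact p.Prime] (hW : IsPGroup 2 W) (hp2 : p ≠ 2) (hE : IsPGroup p E)
    (hc : ∀ e ∈ E, ∀ f ∈ E, e * f = f * e) (P : Pair E p a c) (Y R : Subgroup W)
    (hinv : ∀ e ∈ E, ∀ y ∈ Y, e y ∈ Y)
    (h : ∀ g, IsG a c p g → ∀ y ∈ Y, g y = y → y ∈ R) : Y ≤ R := by
  have hYp : IsPGroup 2 Y := hW.to_subgroup Y
  haveI : Fact (Nat.Prime 2) := ⟨Nat.prime_two⟩
  haveI : Group.IsNilpotent Y := hYp.isNilpotent
  refine gen_le E hE hc P.ha P.hc P.ha' P.hc' Y R inferInstance ?_ hinv ?_ ?_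
  · obtain ⟨k, hk⟩ := IsPGroup.iff_card.mp hYp
    rw [hk]
    apply Nat.Coprime.pow_left
    exact (Nat.coprime_primes Nat.prime_two hp.out).mpr (Ne.symm hp2)
  · intro k h0 h1 y hy hfix
    exact h _ (Or.inl ⟨k, h0, h1, rfl⟩) y hy hfix
  · intro i y hy hfix
    exact h _ (Or.inr ⟨i, rfl⟩) y hy hfix

/-- Existence of the fixed central involution. -/
theorem exists_z [hp : Fact p.Prime] (hW : IsPGroup 2 W) (hp2 : p ≠ 2) (hE : IsPGroup p E)
    (hc : ∀ e ∈ E, ∀ f ∈ E, e * f = f * e)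
    (hfix : ∀ e ∈ E, e ≠ 1 → ∀ x y : W, orderOf x = 2 → orderOf y = 2 → e x = x → e y = y → x = y)
    (P : Pair E p a c) : ∃ z, Ctx E p z := by
  classical
  haveI : Fact (Nat.Prime 2) := ⟨Nat.prime_two⟩
  haveI : Nontrivial W := by
    by_contra hn
    rw [not_nontrivial_iff_subsingleton] at hn
    apply P.a_ne
    ext x
    exact Subsingleton.elim _ _
  have hcen : ¬ (Subgroup.center W ≤ ⊥) := by
    intro h
    have := hW.center_nontrivial
    obtain ⟨x, hx⟩ := exists_ne (1 : Subgroup.center W)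
    have h2 := h x.2
    rw [Subgroup.mem_bot] at h2
    exact hx (Subtype.ext h2)
  have hex : ∃ g, IsG a c p g ∧ ∃ y ∈ Subgroup.center W, g y = y ∧ y ≠ 1 := by
    by_contra hno
    push Not at hno
    apply hcen
    refine gen_isG hW hp2 hE hc P _ ⊥ ?_ ?_
    · intro e _ y hy
      rw [Subgroup.mem_center_iff] at hy ⊢
      intro w
      have h3 := hy (e⁻¹ w)
      have h4 := congrArg e h3
      simpa using h4
    · intro g hg y hy hgy
      exact Subgroup.mem_bot.mpr (hno g hg y hy hgy)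
  obtain ⟨g, hg, y, hy, hgy, hy1⟩ := hex
  obtain ⟨k, hk⟩ := (IsPGroup.iff_orderOf.mp hW) y
  have h2 : 2 ∣ orderOf y := by
    rw [hk]
    rcases k with _ | k
    · exfalso
      rw [pow_zero] at hk
      exact hy1 (orderOf_eq_one_iff.mp hk)
    · exact dvd_pow_self 2 (by omega)
  let z := y ^ (orderOf y / 2)
  have hz : orderOf z = 2 := orderOf_pow_orderOf_div (orderOf_pos y).ne' h2
  have hzcen : z ∈ Subgroup.center W := (Subgroup.center W).pow_mem hy _
  have hgz : g z = z := by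
    show g (y ^ _) = _
    rw [map_pow, hgy]
  have hgE := P.g_mem hg
  have hg1 := P.g_ne hg
  refine ⟨z, hW, hp2, hE, hc, hfix, hz, ?_, ?_⟩
  · intro x
    exact (Subgroup.mem_center_iff.mp hzcen x).symm
  · intro e he
    apply hfix g hgE hg1 _ _ _ hz _ hgz
    · rw [MulEquiv.orderOf_eq, hz]
    · rw [comm_apply (hc g hgE e he), hgz]

namespace Ctx

variable (C : Ctx E p z)
include C

theorem z1 : z ≠ 1 := by
  intro h
  have := C.hz
  rw [h, orderOf_one] at this
  omega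

theorem zz : z * z = 1 := by
  have := pow_orderOf_eq_one z
  rw [C.hz, pow_two] at this
  exact this

theorem pow_eq {e : MulAut W} (he : e ∈ E) : ∃ m, e ^ p ^ m = 1 := by
  obtain ⟨m, hm⟩ := C.hE ⟨e, he⟩
  exact ⟨m, congrArg Subtype.val hm⟩

theorem odd {e : MulAut W} [hp : Fact p.Prime] (he : e ∈ E) : Odd (orderOf e) := by
  obtain ⟨m, hm⟩ := C.pow_eq he
  have h1 : orderOf e ∣ p ^ m := orderOf_dvd_of_pow_eq_one hm
  have h2 : Odd (p ^ m) := (hp.out.odd_of_ne_two C.hp2).pow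
  exact Odd.of_dvd_nat h2 h1

theorem fix_of_mul_z {e : MulAut W} [hp : Fact p.Prime] (he : e ∈ E) {x : W} (h : e x = x * z) :
    e x = x := by
  apply fix_of_sq (C.odd he)
  rw [pow_two, MulAut.mul_apply, h, map_mul, h, C.hzE e he, mul_assoc, C.zz, mul_one]

theorem unique_inv {e : MulAut W} (he : e ∈ E) (he1 : e ≠ 1) {y : W} (hy : orderOf y = 2)
    (hey : e y = y) : y = z :=
  C.hfix e he he1 y z hy C.hz hey (C.hzE e he)

theorem inv_fix {g f : MulAut W} (hg : g ∈ E) (hf : f ∈ E) {x : W} (hx : g x = x) : g (f x) = f x := by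
  rw [comm_apply (C.hc g hg f hf), hx]

/-- Structure of the fixed points of `g`, when another `f` acts nontrivially. -/
theorem fix_struct [hp : Fact p.Prime] {g f : MulAut W} (hg : g ∈ E) (hg1 : g ≠ 1) (hf : f ∈ E)
    {u : W} (hu : g u = u) (hfu : f u ≠ u) :
    QPack (fixS g) z ∧ p = 3 ∧ ∀ x, g x = x → f x = x → x = 1 ∨ x = z := by
  classical
  haveI : Fact (Nat.Prime 2) := ⟨Nat.prime_two⟩
  have h1 : ∀ x ∈ fixS g, f x ∈ fixS g := fun x hx => C.inv_fix hg hf hx
  have h1' : ∀ x ∈ fixS g, f⁻¹ x ∈ fixS g := fun x hx => C.inv_fix hg (E.inv_mem hf) hx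
  let f' := resAut f (fixS g) h1 h1'
  obtain ⟨m, hm⟩ := C.pow_eq hf
  have hf'pow : f' ^ p ^ m = 1 := by
    ext x
    rw [resAut_pow_apply, hm]
    simp
  have hf'ne : f' ≠ 1 := by
    intro h
    apply hfu
    have := congrArg (fun φ : MulAut (fixS g) => ((φ ⟨u, hu⟩ : fixS g) : W)) h
    simpa [f', resAut_apply] using this
  have huniq : ∀ x y : fixS g, orderOf x = 2 → orderOf y = 2 → x = y := by
    intro x y hx hy
    apply Subtype.ext
    apply C.hfix g hg hg1
    · rwa [Subgroup.orderOf_coe]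
    · rwa [Subgroup.orderOf_coe]
    · exact x.2
    · exact y.2
  obtain ⟨ψ⟩ := quat_of_aut (C.hW.to_subgroup (fixS g)) huniq f' C.hp2 hf'pow hf'ne
  have hzg : z ∈ fixS g := C.hzE g hg
  have hQ := qpack_of_equiv hzg C.z1 C.zz ψ
  obtain ⟨h3, h4⟩ := quat_fix hQ.card_eq f' C.hp2 hf'pow hf'ne ⟨z, hzg⟩
    (fun h => C.z1 (congrArg Subtype.val h)) (Subtype.ext (C.hzE f hf))
  refine ⟨hQ, h3, ?_⟩
  intro x hx hfx
  rcases h4 ⟨x, hx⟩ (Subtype.ext hfx) with h | h
  · exact Or.inl (congrArg Subtype.val h)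
  · exact Or.inr (congrArg Subtype.val h)

/-- Common fixed points of a pair. -/
theorem cent_pair [hp : Fact p.Prime] (P : Pair E p a c) {u : W} (hau : a u = u) (hcu : c u = u) :
    u = 1 ∨ u = z := by
  by_contra hcon
  push Not at hcon
  have hgu : ∀ g, IsG a c p g → g u = u := by
    rintro g (⟨k, -, -, rfl⟩ | ⟨i, rfl⟩)
    · exact fix_pow hau k
    · rw [MulAut.mul_apply, hcu]
      exact fix_pow hau i
  have hall : ∀ g, IsG a c p g → ∀ y, g y = y → a y = y := by
    intro g hg y hy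
    by_contra hay
    obtain ⟨-, -, h3⟩ := C.fix_struct (P.g_mem hg) (P.g_ne hg) P.ha hy hay
    rcases h3 u (hgu g hg) hau with h | h
    · exact hcon.1 h
    · exact hcon.2 h
  have h4 : (⊤ : Subgroup W) ≤ fixS a := by
    refine gen_isG C.hW C.hp2 C.hE C.hc P _ _ (fun _ _ _ _ => trivial) ?_
    intro g hg y _ hy
    exact hall g hg y hy
  apply P.a_ne
  ext x
  exact h4 (Subgroup.mem_top x)

/-- Some fixed point group is bigger than `⟨z⟩`. -/
theorem exists_big [hp : Fact p.Prime] (P : Pair E p a c) :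
    ∃ g, IsG a c p g ∧ ∃ u, g u = u ∧ u ≠ 1 ∧ u ≠ z := by
  by_contra hno
  push Not at hno
  have h4 : (⊤ : Subgroup W) ≤ fixS a := by
    refine gen_isG C.hW C.hp2 C.hE C.hc P _ _ (fun _ _ _ _ => trivial) ?_
    intro g hg y _ hy
    by_cases h1 : y = 1
    · rw [h1]; exact (fixS a).one_mem
    · rw [hno g hg y hy h1]
      exact C.hzE a P.ha
  apply P.a_ne
  ext x
  exact h4 (Subgroup.mem_top x)

theorem exists_moved [hp : Fact p.Prime] (P : Pair E p a c) {u : W} (h1 : u ≠ 1) (hz : u ≠ z) :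
    ∃ f ∈ E, f u ≠ u := by
  by_contra hno
  push Not at hno
  rcases C.cent_pair P (hno a P.ha) (hno c P.hc) with h | h
  · exact h1 h
  · exact hz h

theorem p_three [hp : Fact p.Prime] (P : Pair E p a c) : p = 3 := by
  obtain ⟨g, hg, u, hu, h1, hz⟩ := C.exists_big P
  obtain ⟨f, hf, hfu⟩ := C.exists_moved P h1 hz
  exact (C.fix_struct (P.g_mem hg) (P.g_ne hg) hf hu hfu).2.1

end Ctx

end Context

end Cfsg.Agent.Lib.ExtraThreeAct
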