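import Mathlib
import Cfsg.Prelude.Def_Transfer
import Cfsg.Agent.Lib.ExtraThreeAct2

/-!
# Noncyclic abelian groups of odd order acting on 2-groups with unique fixed involutions

Part 3: invariant subgroups containing `z` are central products of `Q₈`s.
-/

set_option autoImplicit false

namespace Cfsg.Agent.Lib.ExtraThreeAct

section Helpers

variable {W : Type*} [Group W]

theorem anti_step {z b t y : W} (hzc : ∀ x, z * x = x * z) (hzz : z * z = 1)
    (hanti : b * t = t * b * z) (hy : b * y = y * b ∨ b * y = y * b * z) :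
    ∃ s, (s = 1 ∨ s = t) ∧ b * (s⁻¹ * y) = (s⁻¹ * y) * b := by
  rcases hy with h | h
  · exact ⟨1, Or.inl rfl, by simpa using h⟩
  · refine ⟨t, Or.inr rfl, ?_⟩
    have h1 : b * t⁻¹ = t⁻¹ * b * z := by
      apply mul_right_cancel (b := t)
      rw [inv_mul_cancel_right]
      calc b = t⁻¹ * (t * b * z * z) := by
            rw [mul_assoc (t * b), hzz, mul_one, inv_mul_cancel_left]
        _ = t⁻¹ * (b * t * z) := by rw [hanti]
        _ = t⁻¹ * b * (t * z) := by simp only [mul_assoc]
        _ = t⁻¹ * b * z * t := by rw [← hzc t]; simp only [mul_assoc]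
    calc b * (t⁻¹ * y) = (b * t⁻¹) * y := by rw [mul_assoc]
      _ = t⁻¹ * b * z * y := by rw [h1]
      _ = t⁻¹ * b * (z * y) := by rw [mul_assoc]
      _ = t⁻¹ * b * (y * z) := by rw [hzc y]
      _ = t⁻¹ * (b * y) * z := by simp only [mul_assoc]
      _ = t⁻¹ * (y * b * z) * z := by rw [h]
      _ = t⁻¹ * y * b * (z * z) := by simp only [mul_assoc]
      _ = t⁻¹ * y * b := by rw [hzz, mul_one]

theorem rc_mul {z x x' w w' : W} (hzc : ∀ x, z * x = x * z) (hzz : z * z = 1)
    (h1 : x * x' = x' * x ∨ x * x' = x' * x * z) (h2 : w * w' = w' * w ∨ w * w' = w' * w * z)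
    (hxw' : x * w' = w' * x) (hwx' : w * x' = x' * w) :
    x * w * (x' * w') = x' * w' * (x * w) ∨ x * w * (x' * w') = x' * w' * (x * w) * z := by
  have e1 : x * w * (x' * w') = (x * x') * (w * w') := by
    calc x * w * (x' * w') = x * (w * x') * w' := by simp only [mul_assoc]
      _ = x * (x' * w) * w' := by rw [hwx']
      _ = (x * x') * (w * w') := by simp only [mul_assoc]
  have e2 : x' * w' * (x * w) = (x' * x) * (w' * w) := by
    calc x' * w' * (x * w) = x' * (w' * x) * w := by simp only [mul_assoc]
      _ = x' * (x * w') * w := by rw [hxw']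
      _ = (x' * x) * (w' * w) := by simp only [mul_assoc]
  rw [e1, e2]
  rcases h1 with h1 | h1 <;> rcases h2 with h2 | h2 <;> rw [h1, h2]
  · left; rfl
  · right; simp only [mul_assoc]
  · right
    calc x' * x * z * (w' * w) = x' * x * (z * (w' * w)) := by simp only [mul_assoc]
      _ = x' * x * ((w' * w) * z) := by rw [hzc]
      _ = _ := by simp only [mul_assoc]
  · left
    calc x' * x * z * (w' * w * z) = x' * x * (z * (w' * w)) * z := by simp only [mul_assoc]
      _ = x' * x * ((w' * w) * z) * z := by rw [hzc]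
      _ = x' * x * (w' * w) * (z * z) := by simp only [mul_assoc]
      _ = _ := by rw [hzz, mul_one]

theorem list_mem (K : Subgroup W) {u v z x : W} (hu : u ∈ K) (hv : v ∈ K) (hz : z ∈ K)
    (h : x = 1 ∨ x = z ∨ x = u ∨ x = u * z ∨ x = v ∨ x = v * z ∨ x = u * v ∨ x = u * v * z) :
    x ∈ K := by
  rcases h with rfl | rfl | rfl | rfl | rfl | rfl | rfl | rfl
  · exact K.one_mem
  · exact hz
  · exact hu
  · exact K.mul_mem hu hz
  · exact hv
  · exact K.mul_mem hv hz
  · exact K.mul_mem hu hv
  · exact K.mul_mem (K.mul_mem hu hv) hz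

theorem mem_zpowers_two {z x : W} (hzz : z * z = 1) : x ∈ Subgroup.zpowers z ↔ x = 1 ∨ x = z := by
  constructor
  · intro h
    obtain ⟨k, rfl⟩ := Subgroup.mem_zpowers_iff.mp h
    rcases Int.even_or_odd' k with ⟨m, rfl | rfl⟩
    · left
      rw [zpow_mul, zpow_two, hzz, one_zpow]
    · right
      rw [zpow_add, zpow_mul, zpow_two, hzz, one_zpow, one_mul, zpow_one]
  · rintro (rfl | rfl)
    · exact Subgroup.one_mem _
    · exact Subgroup.mem_zpowers _

/-- `Nice U z`: `U` is extraspecial (or of order 2) with centre `⟨z⟩`. -/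
structure Nice (U : Subgroup W) (z : W) : Prop where
  sq : ∀ y ∈ U, y * y = 1 ∨ y * y = z
  comm : ∀ y ∈ U, ∀ y' ∈ U, y * y' = y' * y ∨ y * y' = y' * y * z
  cen : ∀ y ∈ U, (∀ y' ∈ U, y * y' = y' * y) → y = 1 ∨ y = z

end Helpers

section Main

variable {W : Type*} [Group W] [Finite W]
variable {E : Subgroup (MulAut W)} {p : ℕ} {z : W} {a c : MulAut W}

namespace Ctx

variable (C : Ctx E p z)
include C

/-- the relation `commute modulo z` is invariant under `E`. -/
theorem rc_apply {e : MulAut W} (he : e ∈ E) {U : Subgroup W} (hinv : ∀ e ∈ E, ∀ y ∈ U, e y ∈ U) {y : W}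
    (hy : ∀ y' ∈ U, y * y' = y' * y ∨ y * y' = y' * y * z) :
    ∀ y' ∈ U, e y * y' = y' * e y ∨ e y * y' = y' * e y * z := by
  intro y' hy'
  have h1 := hy (e⁻¹ y') (hinv _ (E.inv_mem he) y' hy')
  rcases h1 with h | h
  · left
    have := congrArg e h
    simpa using this
  · right
    have := congrArg e h
    simpa [C.hzE e he] using this

/-- An element of `U` outside `⟨z⟩`, fixed by some element of the pair, central modulo `z`. -/
theorem exists_central_fix [hp : Fact p.Prime] (P : Pair E p a c) (U : Subgroup W) (hzU : z ∈ U)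
    (hinv : ∀ e ∈ E, ∀ y ∈ U, e y ∈ U) (hne : ∃ u ∈ U, u ≠ 1 ∧ u ≠ z) :
    ∃ g, IsG a c p g ∧ ∃ u ∈ U, g u = u ∧ u ≠ 1 ∧ u ≠ z ∧
      ∀ y ∈ U, u * y = y * u ∨ u * y = y * u * z := by
  classical
  haveI : Fact (Nat.Prime 2) := ⟨Nat.prime_two⟩
  let T : Subgroup W := Subgroup.zpowers z
  have hT : ∀ x, x ∈ T ↔ x = 1 ∨ x = z := fun x => mem_zpowers_two C.zz
  haveI hTn : T.Normal := by
    constructor
    intro n hn g
    rcases (hT n).mp hn with rfl | rfl
    · rw [mul_one, mul_inv_cancel]; exact T.one_mem
    · have : g * n * g⁻¹ = n := by rw [← C.hzc g, mul_inv_cancel_right]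
      rw [this]; exact hn
  let mk : W →* W ⧸ T := QuotientGroup.mk' T
  have hcomm : ∀ x y, mk x * mk y = mk y * mk x ↔ (x * y = y * x ∨ x * y = y * x * z) := by
    intro x y
    rw [← map_mul, ← map_mul]
    show ((x * y : W) : W ⧸ T) = ((y * x : W) : W ⧸ T) ↔ _
    rw [eq_comm, QuotientGroup.eq, hT]
    constructor
    · rintro (h | h)
      · left
        exact (inv_mul_eq_one.mp h).symm
      · right
        have : x * y = y * x * ((y * x)⁻¹ * (x * y)) := by group
        rw [this, h]
    · rintro (h | h)
      · left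
        rw [h]; group
      · right
        rw [h]; group
  let Ubar : Subgroup (W ⧸ T) := U.map mk
  let S : Subgroup W := U ⊓ (Subgroup.centralizer (Ubar : Set (W ⧸ T))).comap mk
  have hS : ∀ y, y ∈ S ↔ y ∈ U ∧ ∀ y' ∈ U, y * y' = y' * y ∨ y * y' = y' * y * z := by
    intro y
    constructor
    · rintro ⟨hy, hy2⟩
      refine ⟨hy, fun y' hy' => ?_⟩
      have h1 := Subgroup.mem_centralizer_iff.mp hy2 (mk y') (Subgroup.mem_map_of_mem _ hy')
      exact (hcomm y y').mp h1.symm
    · rintro ⟨hy, hy2⟩
      refine ⟨hy, ?_⟩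
      apply Subgroup.mem_centralizer_iff.mpr
      rintro _ ⟨y', hy', rfl⟩
      exact ((hcomm y y').mpr (hy2 y' hy')).symm
  have hST : ¬ S ≤ T := by
    obtain ⟨u0, hu0, h01, h0z⟩ := hne
    have hmk0 : mk u0 ≠ 1 := by
      intro h
      have h1 : u0 ∈ T := (QuotientGroup.eq_one_iff u0).mp h
      rcases (hT u0).mp h1 with h | h
      · exact h01 h
      · exact h0z h
    have hpU : IsPGroup 2 Ubar := by
      have h3 : IsPGroup 2 (U.map mk) := by
        intro x
        obtain ⟨x, y, hy, rfl⟩ := x
        obtain ⟨k, hk⟩ := C.hW y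
        refine ⟨k, Subtype.ext ?_⟩
        show (mk y) ^ 2 ^ k = 1
        rw [← map_pow, hk, map_one]
      exact h3
    haveI : Nontrivial Ubar := ⟨⟨⟨mk u0, Subgroup.mem_map_of_mem _ hu0⟩, 1, fun h =>
      hmk0 (congrArg Subtype.val h)⟩⟩
    haveI := hpU.center_nontrivial
    obtain ⟨w, hw⟩ := exists_ne (1 : Subgroup.center Ubar)
    obtain ⟨⟨_, u, hu, rfl⟩, hwc⟩ := w
    intro hle
    have huS : u ∈ S := by
      refine ⟨hu, ?_⟩
      apply Subgroup.mem_centralizer_iff.mpr
      rintro _ ⟨y', hy', rfl⟩
      have := (Subgroup.mem_center_iff.mp hwc) ⟨mk y', Subgroup.mem_map_of_mem _ hy'⟩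
      exact congrArg Subtype.val this
    have h2 : mk u = 1 := (QuotientGroup.eq_one_iff u).mpr (hle huS)
    apply hw
    apply Subtype.ext
    apply Subtype.ext
    exact h2
  by_contra hno
  push Not at hno
  apply hST
  refine gen_isG C.hW C.hp2 C.hE C.hc P S T ?_ ?_
  · intro e he y hy
    obtain ⟨h1, h2⟩ := (hS y).mp hy
    exact (hS _).mpr ⟨hinv e he y h1, C.rc_apply he hinv h2⟩
  · intro g hg y hy hgy
    by_contra hyT
    have hyT' : ¬ (y = 1 ∨ y = z) := fun h => hyT ((hT y).mpr h)
    push Not at hyT'
    obtain ⟨h1, h2⟩ := (hS y).mp hy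
    obtain ⟨y', hy', h3, h4⟩ := hno g hg y h1 hgy hyT'.1 hyT'.2
    rcases h2 y' hy' with h | h
    · exact h3 h
    · exact h4 h

/-- The main induction. -/
theorem nice_aux [hp : Fact p.Prime] (P : Pair E p a c) : ∀ n : ℕ, ∀ U : Subgroup W, Nat.card U ≤ n →
    z ∈ U → (∀ e ∈ E, ∀ y ∈ U, e y ∈ U) → Nice U z := by
  classical
  have hzc := C.hzc
  have hzz := C.zz
  intro n
  induction n with
  | zero =>
    intro U h
    have := Nat.card_pos (α := U)
    omega
  | succ n ih =>
    intro U hcard hzU hinv
    by_cases hbase : ∀ y ∈ U, y = 1 ∨ y = z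
    · refine ⟨?_, ?_, ?_⟩
      · intro y hy
        left
        rcases hbase y hy with rfl | rfl
        · simp
        · exact hzz
      · intro y hy y' hy'
        left
        rcases hbase y hy with rfl | rfl
        · simp
        · exact hzc y'
      · intro y hy _
        exact hbase y hy
    · push Not at hbase
      obtain ⟨u0, hu0, h01, h0z⟩ := hbase
      obtain ⟨g, hg, u, huU, hgu, hu1, huz, huR⟩ :=
        C.exists_central_fix P U hzU hinv ⟨u0, hu0, h01, h0z⟩
      have hgE := P.g_mem hg
      have hg1 := P.g_ne hg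
      obtain ⟨f, hf, hfu⟩ := C.exists_moved P hu1 huz
      obtain ⟨hQ, -, -⟩ := C.fix_struct hgE hg1 hf hgu hfu
      set v := f u with hv
      have hgv : g v = v := C.inv_fix hgE hf hgu
      have hvU : v ∈ U := hinv f hf u huU
      have hvR := C.rc_apply hf hinv huR
      have hv1 : v ≠ 1 := by
        intro h
        apply hu1
        have : f u = f 1 := by rw [map_one]; exact h
        exact f.injective this
      have hvz : v ≠ z := by
        intro h
        apply huz
        have : f u = f z := by rw [C.hzE f hf]; exact h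
        exact f.injective this
      have hvuz : v ≠ u * z := fun h => hfu (C.fix_of_mul_z hf h)
      have hlist := fun x (hx : g x = x) => hQ.gen u hgu v hgv x hx hu1 huz hv1 hvz hfu hvuz
      have hanti : u * v = v * u * z := (hlist 1 (map_one g)).1
      have hanti' : v * u = u * v * z := by
        rw [hanti, mul_assoc, hzz, mul_one]
      have hXU : ∀ x, g x = x → x ∈ U := fun x hx => list_mem U huU hvU hzU (hlist x hx).2
      let U₁ : Subgroup W := U ⊓ Subgroup.centralizer (fixS g : Set W)
      have hzU₁ : z ∈ U₁ := by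
        refine ⟨hzU, Subgroup.mem_centralizer_iff.mpr fun x _ => (hzc x).symm⟩
      have hinvU₁ : ∀ e ∈ E, ∀ y ∈ U₁, e y ∈ U₁ := by
        rintro e he y ⟨hy, hyc⟩
        refine ⟨hinv e he y hy, Subgroup.mem_centralizer_iff.mpr fun x hx => ?_⟩
        have h1 : e⁻¹ x ∈ fixS g := C.inv_fix hgE (E.inv_mem he) hx
        have h2 := Subgroup.mem_centralizer_iff.mp hyc _ h1
        have h3 := congrArg e h2
        simpa using h3
      have hlt : Nat.card U₁ ≤ n := by
        have hle : U₁ ≤ U := inf_le_left
        have hdvd : Nat.card U₁ ≤ Nat.card U :=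
          Subgroup.card_le_of_le hle
        have hne : Nat.card U₁ ≠ Nat.card U := by
          intro h
          have h1 : U₁ = U := Subgroup.eq_of_le_of_card_ge hle h.ge
          have h2 : u ∈ U₁ := by rw [h1]; exact huU
          have h3 := Subgroup.mem_centralizer_iff.mp h2.2 v hgv
          have h4 : u * v * z = u * v * 1 := by rw [← hanti', h3, mul_one]
          exact C.z1 (mul_left_cancel h4)
        omega
      have IH := ih U₁ hlt hzU₁ hinvU₁
      have hdec : ∀ y ∈ U, ∃ x, g x = x ∧ ∃ w ∈ U₁, y = x * w := by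
        intro y hy
        obtain ⟨s₁, hs₁, h1⟩ := anti_step hzc hzz hanti (huR y hy)
        have hs₁U : s₁ ∈ U := by
          rcases hs₁ with rfl | rfl
          · exact U.one_mem
          · exact hvU
        set y₁ := s₁⁻¹ * y with hy₁
        have hy₁U : y₁ ∈ U := U.mul_mem (U.inv_mem hs₁U) hy
        obtain ⟨s₂, hs₂, h2⟩ := anti_step hzc hzz hanti' (hvR y₁ hy₁U)
        have hs₂U : s₂ ∈ U := by
          rcases hs₂ with rfl | rfl
          · exact U.one_mem
          · exact huU
        set y₂ := s₂⁻¹ * y₁ with hy₂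
        have hy₂U : y₂ ∈ U := U.mul_mem (U.inv_mem hs₂U) hy₁U
        have h3 : u * y₂ = y₂ * u := by
          rcases hs₂ with rfl | rfl
          · simpa [hy₂] using h1
          · rw [hy₂, mul_inv_cancel_left, mul_assoc, ← h1, inv_mul_cancel_left]
        refine ⟨s₁ * s₂, ?_, y₂, ⟨hy₂U, ?_⟩, ?_⟩
        · have hgs₁ : g s₁ = s₁ := by
            rcases hs₁ with rfl | rfl
            · exact map_one g
            · exact hgv
          have hgs₂ : g s₂ = s₂ := by
            rcases hs₂ with rfl | rfl
            · exact map_one g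
            · exact hgu
          rw [map_mul, hgs₁, hgs₂]
        · apply Subgroup.mem_centralizer_iff.mpr
          intro x hx
          have h5 : x ∈ Subgroup.centralizer ({y₂} : Set W) := by
            apply list_mem _ (u := u) (v := v) (z := z) _ _ _ (hlist x hx).2
            · exact Subgroup.mem_centralizer_singleton_iff.mpr h3
            · exact Subgroup.mem_centralizer_singleton_iff.mpr h2
            · exact Subgroup.mem_centralizer_singleton_iff.mpr (hzc y₂)
          exact Subgroup.mem_centralizer_singleton_iff.mp h5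
        · rw [hy₂, hy₁]
          group
      have hcw : ∀ w ∈ U₁, ∀ x, g x = x → x * w = w * x :=
        fun w hw x hx => Subgroup.mem_centralizer_iff.mp hw.2 x hx
      refine ⟨?_, ?_, ?_⟩
      · intro y hy
        obtain ⟨x, hx, w, hw, rfl⟩ := hdec y hy
        have h1 : x * w * (x * w) = (x * x) * (w * w) := by
          calc x * w * (x * w) = x * (w * x) * w := by simp only [mul_assoc]
            _ = x * (x * w) * w := by rw [hcw w hw x hx]
            _ = _ := by simp only [mul_assoc]
        rw [h1]
        have h2 : x * x = 1 ∨ x * x = z := by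
          rcases hQ.sq x hx with h | h | h
          · left; rw [h, mul_one]
          · left; rw [h]; exact hzz
          · right; exact h
        rcases h2 with h2 | h2 <;> rcases IH.sq w hw with h3 | h3 <;> rw [h2, h3]
        · left; rw [mul_one]
        · right; rw [one_mul]
        · right; rw [mul_one]
        · left; exact hzz
      · intro y hy y' hy'
        obtain ⟨x, hx, w, hw, rfl⟩ := hdec y hy
        obtain ⟨x', hx', w', hw', rfl⟩ := hdec y' hy'
        exact rc_mul hzc hzz (hQ.comm x hx x' hx') (IH.comm w hw w' hw') (hcw w' hw' x hx)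
          (hcw w hw x' hx').symm
      · intro y hy hyc
        obtain ⟨x, hx, w, hw, rfl⟩ := hdec y hy
        have hxc : ∀ x' ∈ fixS g, x * x' = x' * x := by
          intro x' hx'
          have h1 := hyc x' (hXU x' hx')
          have h2 := hcw w hw x' hx'
          have h3 : x * x' * w = x' * x * w := by
            calc x * x' * w = x * (x' * w) := by rw [mul_assoc]
              _ = x * (w * x') := by rw [h2]
              _ = x * w * x' := by rw [mul_assoc]
              _ = x' * (x * w) := h1
              _ = _ := by rw [mul_assoc]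
          exact mul_right_cancel h3
        have hx12 := hQ.cen x hx hxc
        have hxcen : ∀ t, x * t = t * x := by
          intro t
          rcases hx12 with rfl | rfl
          · simp
          · exact hzc t
        have hwc : ∀ y' ∈ U₁, w * y' = y' * w := by
          intro y' hy'
          have h1 := hyc y' hy'.1
          have h3 : x * (w * y') = x * (y' * w) := by
            calc x * (w * y') = x * w * y' := by rw [mul_assoc]
              _ = y' * (x * w) := h1
              _ = (y' * x) * w := by rw [mul_assoc]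
              _ = (x * y') * w := by rw [hxcen y']
              _ = _ := by rw [mul_assoc]
          exact mul_left_cancel h3
        rcases hx12 with rfl | rfl <;> rcases IH.cen w hw hwc with rfl | rfl
        · left; simp
        · right; simp
        · right; simp
        · left; exact hzz

theorem nice_top [hp : Fact p.Prime] (P : Pair E p a c) : Nice (⊤ : Subgroup W) z :=
  C.nice_aux P _ ⊤ le_rfl (Subgroup.mem_top z) (fun _ _ _ _ => Subgroup.mem_top _)

end Ctx

end Main

end Cfsg.Agent.Lib.ExtraThreeAct
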