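import Mathlib
import Cfsg.Prelude.Def_Transfer
import Cfsg.Agent.Lib.ExtraThreeAct3

/-!
# Noncyclic abelian groups of odd order acting on 2-groups with unique fixed involutions

Part 4: conclusion.
-/

set_option autoImplicit false

namespace Cfsg.Agent.Lib.ExtraThreeAct

open scoped commutatorElement

section Final

variable {W : Type*} [Group W] [Finite W]
variable {E : Subgroup (MulAut W)} {p : ℕ} {z : W} {a c : MulAut W}

namespace Ctx

variable (C : Ctx E p z)
include C

theorem extra [hp : Fact p.Prime] (P : Pair E p a c) :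
    Cfsg.IsExtraspecial 2 W ∧ Subgroup.center W = Subgroup.zpowers z := by
  haveI : Fact (Nat.Prime 2) := ⟨Nat.prime_two⟩
  have N := C.nice_top P
  have hT : ∀ x, x ∈ Subgroup.zpowers z ↔ x = 1 ∨ x = z := fun x => mem_zpowers_two C.zz
  have hcen : Subgroup.center W = Subgroup.zpowers z := by
    ext x
    rw [hT]
    constructor
    · intro hx
      exact N.cen x trivial fun y' _ => (Subgroup.mem_center_iff.mp hx y').symm
    · rintro (rfl | rfl)
      · exact Subgroup.one_mem _
      · exact Subgroup.mem_center_iff.mpr fun y => (C.hzc y).symm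
  have hnc : ∃ x y : W, x * y ≠ y * x := by
    by_contra hno
    push Not at hno
    apply P.a_ne
    ext x
    rcases N.cen x trivial (fun y' _ => hno x y') with rfl | rfl
    · simp
    · simpa using C.hzE a P.ha
  have hcomm : commutator W = Subgroup.zpowers z := by
    apply le_antisymm
    · rw [commutator_def, Subgroup.commutator_le]
      intro x _ y _
      rw [hT, commutatorElement_def]
      rcases N.comm x trivial y trivial with h | h
      · left
        rw [h]; group
      · right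
        rw [h, ← C.hzc (y * x)]
        group
    · rw [Subgroup.zpowers_le]
      obtain ⟨x, y, hxy⟩ := hnc
      rcases N.comm x trivial y trivial with h | h
      · exact absurd h hxy
      · have h1 : z = ⁅x⁻¹, y⁻¹⁆ := by
          rw [commutatorElement_def, inv_inv, inv_inv]
          have h2 : z = (y * x)⁻¹ * (x * y) := by rw [h]; group
          rw [h2]; group
        rw [h1, commutator_def]
        exact Subgroup.commutator_mem_commutator (Subgroup.mem_top _) (Subgroup.mem_top _)
  have hfr : frattini W = Subgroup.zpowers z := by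
    apply le_antisymm
    · apply Cfsg.Agent.Lib.Frat.frattini_le_of_commutator_pow (p := 2) _ hcomm.le
      intro x
      rw [pow_two, hT]
      exact N.sq x trivial
    · rw [← hcomm]
      exact Cfsg.Agent.Lib.Frat.commutator_le_frattini C.hW
  refine ⟨⟨⟨C.hW, ?_, ?_⟩, ?_⟩, hcen⟩
  · rw [hfr, hcen]
  · rw [hcomm, hcen]
  · rw [hcen, Nat.card_zpowers, C.hz]

theorem card_bounds [hp : Fact p.Prime] (P : Pair E p a c) :
    Nat.card W = 2 ^ 5 ∨ Nat.card W = 2 ^ 7 ∨ Nat.card W = 2 ^ 9 := by
  classical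
  haveI : Fact (Nat.Prime 2) := ⟨Nat.prime_two⟩
  obtain ⟨hX, hcen⟩ := C.extra P
  obtain ⟨n, hn1, hn⟩ := Cfsg.Agent.Lib.ExtraBasics.card_of_isExtraspecial hX
  have hp3 := C.p_three P
  subst hp3
  -- lower bound
  have hn2 : 2 ≤ n := by
    by_contra hlt
    have hn' : n = 1 := by omega
    subst hn'
    obtain ⟨g, hg, u, hu, h1, hz⟩ := C.exists_big P
    obtain ⟨f, hf, hfu⟩ := C.exists_moved P h1 hz
    obtain ⟨hQ, -, -⟩ := C.fix_struct (P.g_mem hg) (P.g_ne hg) hf hu hfu
    have h7 : fixS g = ⊤ := by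
      apply Subgroup.eq_top_of_card_eq
      rw [hQ.card_eq, hn]
      norm_num
    apply P.g_ne hg
    ext x
    have : x ∈ fixS g := by rw [h7]; trivial
    exact this
  -- upper bound
  have hzΦ : z ∈ frattini W := by
    rw [hX.1.2.1, hcen]
    exact Subgroup.mem_zpowers z
  have hD : ∀ g, g ∈ E → g ≠ 1 → ∃ D : Finset W, D.card ≤ 2 ∧
      fixS g ≤ Subgroup.closure (D : Set W) ⊔ frattini W := by
    intro g hg hg1
    by_cases h : ∃ u, g u = u ∧ u ≠ 1 ∧ u ≠ z
    · obtain ⟨u, hu, hu1, huz⟩ := h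
      obtain ⟨f, hf, hfu⟩ := C.exists_moved P hu1 huz
      obtain ⟨hQ, -, -⟩ := C.fix_struct hg hg1 hf hu hfu
      refine ⟨{u, f u}, Finset.card_le_two, ?_⟩
      intro x hx
      have hgv : g (f u) = f u := C.inv_fix hg hf hu
      have hv1 : f u ≠ 1 := by
        intro h
        apply hu1
        have : f u = f 1 := by rw [map_one]; exact h
        exact f.injective this
      have hvz : f u ≠ z := by
        intro h
        apply huz
        have : f u = f z := by rw [C.hzE f hf]; exact h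
        exact f.injective this
      have hvuz : f u ≠ u * z := fun h => hfu (C.fix_of_mul_z hf h)
      have hl := hQ.gen u hu (f u) hgv x hx hu1 huz hv1 hvz hfu hvuz
      refine list_mem _ ?_ ?_ ?_ hl.2
      · exact (le_sup_left : _ ≤ Subgroup.closure _ ⊔ frattini W)
          (Subgroup.subset_closure (by simp))
      · exact (le_sup_left : _ ≤ Subgroup.closure _ ⊔ frattini W)
          (Subgroup.subset_closure (by simp))
      · exact (le_sup_right : _ ≤ Subgroup.closure _ ⊔ frattini W) hzΦ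
    · push Not at h
      refine ⟨∅, by simp, ?_⟩
      intro x hx
      by_cases h1 : x = 1
      · rw [h1]; exact Subgroup.one_mem _
      · rw [h x hx h1]
        exact (le_sup_right : _ ≤ Subgroup.closure _ ⊔ frattini W) hzΦ
  have hg1 : IsG a c 3 a := Or.inl ⟨1, by norm_num, by norm_num, by simp⟩
  have hg2 : IsG a c 3 c := Or.inr ⟨0, by simp⟩
  have hg3 : IsG a c 3 (a * c) := Or.inr ⟨1, by simp⟩
  have hg4 : IsG a c 3 (a ^ 2 * c) := Or.inr ⟨2, rfl⟩
  obtain ⟨D₁, hD₁, hle₁⟩ := hD _ (P.g_mem hg1) (P.g_ne hg1)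
  obtain ⟨D₂, hD₂, hle₂⟩ := hD _ (P.g_mem hg2) (P.g_ne hg2)
  obtain ⟨D₃, hD₃, hle₃⟩ := hD _ (P.g_mem hg3) (P.g_ne hg3)
  obtain ⟨D₄, hD₄, hle₄⟩ := hD _ (P.g_mem hg4) (P.g_ne hg4)
  let Tf : Finset W := D₁ ∪ D₂ ∪ D₃ ∪ D₄
  have hTf : Tf.card ≤ 8 := by
    have h1 := Finset.card_union_le (D₁ ∪ D₂ ∪ D₃) D₄
    have h2 := Finset.card_union_le (D₁ ∪ D₂) D₃
    have h3 := Finset.card_union_le D₁ D₂
    show (D₁ ∪ D₂ ∪ D₃ ∪ D₄).card ≤ 8
    omega
  let R : Subgroup W := Subgroup.closure (Tf : Set W) ⊔ frattini W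
  have hRle : ∀ D : Finset W, D ⊆ Tf → Subgroup.closure (D : Set W) ⊔ frattini W ≤ R := by
    intro D hDT
    exact sup_le_sup_right (Subgroup.closure_mono (by exact_mod_cast hDT)) _
  have hle1 : fixS a ≤ R := hle₁.trans (hRle _ (by
    intro x hx; simp only [Tf, Finset.mem_union]; tauto))
  have hle2 : fixS c ≤ R := hle₂.trans (hRle _ (by
    intro x hx; simp only [Tf, Finset.mem_union]; tauto))
  have hle3 : fixS (a * c) ≤ R := hle₃.trans (hRle _ (by
    intro x hx; simp only [Tf, Finset.mem_union]; tauto))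
  have hle4 : fixS (a ^ 2 * c) ≤ R := hle₄.trans (hRle _ (by
    intro x hx; simp only [Tf, Finset.mem_union]; tauto))
  have htop : (⊤ : Subgroup W) ≤ R := by
    refine gen_isG C.hW C.hp2 C.hE C.hc P _ _ (fun _ _ _ _ => trivial) ?_
    rintro g (⟨k, h0, h3, rfl⟩ | ⟨i, rfl⟩) y _ hy
    · apply hle1
      interval_cases k
      · simpa using hy
      · exact fix_of_sq (C.odd P.ha) hy
    · have h1 : a ^ i = a ^ (i % 3) := pow_eq_pow_mod i P.ha'
      rw [h1] at hy
      have h2 : i % 3 < 3 := Nat.mod_lt _ (by norm_num)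
      generalize i % 3 = j at h2 hy
      interval_cases j
      · apply hle2; simpa using hy
      · apply hle3; simpa using hy
      · apply hle4; exact hy
  have hidx : (frattini W).index ≤ 2 ^ 8 := by
    have h1 := Cfsg.Agent.Lib.Frat.index_frattini_le (p := 2) C.hW Tf
    have h2 : Cfsg.Agent.Lib.Frat.basisW W Tf = ⊤ := top_le_iff.mp htop
    rw [h2, Subgroup.index_top, one_mul] at h1
    exact h1.trans (Nat.pow_le_pow_right (by norm_num) hTf)
  have hcardΦ : Nat.card (frattini W) = 2 := by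
    rw [hX.1.2.1]
    exact hX.2
  have hle : Nat.card W ≤ 2 ^ 9 := by
    have h1 := (frattini W).card_mul_index
    rw [hcardΦ] at h1
    rw [← h1]
    omega
  have hn4 : n ≤ 4 := by
    rw [hn] at hle
    have := (Nat.pow_le_pow_iff_right (by norm_num : 1 < 2)).mp hle
    omega
  interval_cases n
  · left; exact hn
  · right; left; exact hn
  · right; right; exact hn

theorem orbit_index [hp : Fact p.Prime] {g f : MulAut W} (hg : g ∈ E) (hg1 : g ≠ 1) (hf : f ∈ E) {y : W}
    (hy : g y = y) (hy1 : y ≠ 1) (hyz : y ≠ z) (hfy : f y ≠ y) :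
    (MulAction.stabilizer E y).index = 1 ∨ (MulAction.stabilizer E y).index = 3 := by
  classical
  obtain ⟨hQ, hp3, -⟩ := C.fix_struct hg hg1 hf hy hfy
  subst hp3
  have h1 : MulAction.orbit E y ⊆ (fixS g : Set W) \ {1, z} := by
    rintro _ ⟨e, rfl⟩
    refine ⟨C.inv_fix hg e.2 hy, ?_⟩
    rintro (h | h)
    · apply hy1
      have : (e : MulAut W) y = (e : MulAut W) 1 := by rw [map_one]; exact h
      exact (e : MulAut W).injective this
    · apply hyz
      have : (e : MulAut W) y = (e : MulAut W) z := by rw [C.hzE _ e.2]; exact h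
      exact (e : MulAut W).injective this
  have h2 : ((fixS g : Set W) \ {1, z}).ncard = 6 := by
    have h3 : ({1, z} : Set W) ⊆ (fixS g : Set W) := by
      rintro x (rfl | rfl)
      · exact (fixS g).one_mem
      · exact C.hzE g hg
    rw [Set.ncard_diff h3 (Set.toFinite _), Set.ncard_pair C.z1.symm]
    have h4 : (fixS g : Set W).ncard = 8 := by
      rw [← Nat.card_coe_set_eq]
      exact hQ.card_eq
    rw [h4]
  have h5 : (MulAction.stabilizer E y).index = (MulAction.orbit E y).ncard :=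
    MulAction.index_stabilizer E y
  have h6 : (MulAction.orbit E y).ncard ≤ 6 := by
    rw [← h2]
    exact Set.ncard_le_ncard h1 (Set.toFinite _)
  have h7 : (MulAction.stabilizer E y).index ∣ Nat.card E := Subgroup.index_dvd_card _
  obtain ⟨k, hk⟩ := IsPGroup.iff_card.mp C.hE
  rw [hk] at h7
  obtain ⟨j, -, hj⟩ := (Nat.dvd_prime_pow hp.out).mp h7
  rw [hj]
  rw [← h5, hj] at h6
  have hj2 : j ≤ 1 := by
    by_contra hlt
    have : 3 ^ 2 ≤ 3 ^ j := Nat.pow_le_pow_right (by norm_num) (by omega)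
    omega
  interval_cases j
  · left; norm_num
  · right; norm_num

theorem exp3 [hp : Fact p.Prime] (P : Pair E p a c) {e : MulAut W} (he : e ∈ E) : e ^ 3 = 1 := by
  classical
  have hp3 := C.p_three P
  subst hp3
  have h1 : (⊤ : Subgroup W) ≤ fixS (e ^ 3) := by
    refine gen_isG C.hW C.hp2 C.hE C.hc P _ _ (fun _ _ _ _ => trivial) ?_
    intro g hg y _ hy
    by_cases h1 : y = 1
    · rw [h1]; exact (fixS _).one_mem
    by_cases hz : y = z
    · rw [hz]
      exact C.hzE _ (E.pow_mem he 3)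
    obtain ⟨f, hf, hfy⟩ := C.exists_moved P h1 hz
    have hidx := C.orbit_index (P.g_mem hg) (P.g_ne hg) hf hy h1 hz hfy
    let K : Subgroup E := MulAction.stabilizer E y
    haveI hKn : K.Normal := by
      constructor
      intro n hn g'
      have : g' * n * g'⁻¹ = n := by
        apply Subtype.ext
        show (g' : MulAut W) * n * (g' : MulAut W)⁻¹ = n
        rw [C.hc _ g'.2 _ n.2, mul_inv_cancel_right]
      rw [this]; exact hn
    have hmem : (⟨e, he⟩ : E) ^ K.index ∈ K := Subgroup.pow_index_mem K _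
    rcases hidx with h | h
    · have h3 : K.index = 1 := h
      rw [h3, pow_one] at hmem
      exact fix_pow hmem 3
    · have h3 : K.index = 3 := h
      rw [h3] at hmem
      exact hmem
  ext x
  exact h1 (Subgroup.mem_top x)

end Ctx

theorem exists_pair [hp : Fact p.Prime] (hp2 : p ≠ 2) (K : Subgroup (MulAut W)) (hKE : K ≤ E)
    (hK : IsPGroup p K) (hnc : ¬ IsCyclic K) : ∃ a c, Pair E p a c ∧ a ∈ K ∧ c ∈ K := by
  by_contra hno
  apply hnc
  have hS : ∀ H₁ H₂ : Subgroup K, Nat.card H₁ = p → Nat.card H₂ = p → H₁ = H₂ := by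
    intro H₁ H₂ h₁ h₂
    by_contra hne
    apply hno
    have key : ∀ H : Subgroup K, Nat.card H = p → ∃ x ∈ H, orderOf x = p ∧ H = Subgroup.zpowers x := by
      intro H hH
      haveI : Nontrivial H := Finite.one_lt_card_iff_nontrivial.mp (by rw [hH]; exact hp.out.one_lt)
      obtain ⟨x, hx⟩ := exists_ne (1 : H)
      have hord : orderOf (x : K) = p := by
        rw [Subgroup.orderOf_coe]
        have h1 : orderOf x ∣ p := by rw [← hH]; exact orderOf_dvd_natCard x
        rcases (Nat.dvd_prime hp.out).mp h1 with h | h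
        · exact absurd (orderOf_eq_one_iff.mp h) hx
        · exact h
      refine ⟨x, x.2, hord, ?_⟩
      symm
      apply Subgroup.eq_of_le_of_card_ge (Subgroup.zpowers_le.mpr x.2)
      rw [hH, Nat.card_zpowers, hord]
    obtain ⟨x₁, hx₁, ho₁, e₁⟩ := key H₁ h₁
    obtain ⟨x₂, hx₂, ho₂, e₂⟩ := key H₂ h₂
    have ho₁' : orderOf (x₁ : MulAut W) = p := by rw [Subgroup.orderOf_coe]; exact ho₁
    have ho₂' : orderOf (x₂ : MulAut W) = p := by rw [Subgroup.orderOf_coe]; exact ho₂
    refine ⟨x₁, x₂, ⟨hKE x₁.2, hKE x₂.2, ?_, ?_, ?_, ?_⟩, x₁.2, x₂.2⟩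
    · rw [← ho₁']; exact pow_orderOf_eq_one _
    · rw [← ho₂']; exact pow_orderOf_eq_one _
    · intro k h0 h1
      exact pow_ne_one_of_lt_orderOf h0.ne' (by rwa [ho₁'])
    · intro i h
      apply hne
      have h3 : x₂ = (x₁ ^ i)⁻¹ := by
        apply Subtype.ext
        show (x₂ : MulAut W) = ((x₁ : MulAut W) ^ i)⁻¹
        exact eq_inv_of_mul_eq_one_right h
      have h4 : x₂ ∈ H₁ := by
        rw [h3]
        exact H₁.inv_mem (H₁.pow_mem hx₁ i)
      have h5 : H₂ ≤ H₁ := by
        rw [e₂]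
        exact Subgroup.zpowers_le.mpr h4
      exact (Subgroup.eq_of_le_of_card_ge h5 (by rw [h₁, h₂])).symm
  rcases Cfsg.Agent.Lib.UniqueSub.main p hK hS with h | ⟨h2, -⟩
  · exact h
  · exact absurd h2 hp2

namespace Ctx

variable (C : Ctx E p z)
include C

theorem card_E [hp : Fact p.Prime] (P : Pair E p a c) (hnc : ¬ IsCyclic E) : Nat.card E = 9 := by
  classical
  have hp3 := C.p_three P
  subst hp3
  obtain ⟨g, hg, u, hu, h1, hz⟩ := C.exists_big P
  obtain ⟨f, hf, hfu⟩ := C.exists_moved P h1 hz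
  have hidx := C.orbit_index (P.g_mem hg) (P.g_ne hg) hf hu h1 hz hfu
  let K : Subgroup E := MulAction.stabilizer E u
  have hcyc : IsCyclic K := by
    by_contra hnK
    let K' : Subgroup (MulAut W) := K.map E.subtype
    let φ : K ≃* K' := K.equivMapOfInjective _ E.subtype_injective
    have hnK' : ¬ IsCyclic K' := fun h =>
      hnK (isCyclic_of_surjective φ.symm.toMonoidHom φ.symm.surjective)
    have hK'E : K' ≤ E := by
      rintro _ ⟨x, _, rfl⟩
      exact x.2
    obtain ⟨a', c', P', ha', hc'⟩ := exists_pair C.hp2 K' hK'E (C.hE.to_le hK'E) hnK'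
    have hfixK : ∀ t ∈ K', t u = u := by
      rintro _ ⟨x, hx, rfl⟩
      exact hx
    rcases C.cent_pair P' (hfixK a' ha') (hfixK c' hc') with h | h
    · exact h1 h
    · exact hz h
  have hKcard : Nat.card K ≤ 3 := by
    have h3 : Monoid.exponent K ∣ 3 := by
      apply Monoid.exponent_dvd_of_forall_pow_eq_one
      intro x
      apply Subtype.ext
      apply Subtype.ext
      exact C.exp3 P (x : E).2
    rw [IsCyclic.exponent_eq_card] at h3
    exact Nat.le_of_dvd (by norm_num) h3
  have hcard : K.index * Nat.card K = Nat.card E := K.index_mul_card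
  have hidx' : K.index ≤ 3 := by
    rcases hidx with h | h
    · have : K.index = 1 := h
      omega
    · have : K.index = 3 := h
      omega
  have hle : Nat.card E ≤ 9 := by
    rw [← hcard]
    exact Nat.mul_le_mul hidx' hKcard
  obtain ⟨k, hk⟩ := IsPGroup.iff_card.mp C.hE
  have hk2 : k ≤ 2 := by
    by_contra hlt
    have : 3 ^ 3 ≤ 3 ^ k := Nat.pow_le_pow_right (by norm_num) (by omega)
    omega
  interval_cases k
  · exfalso
    apply hnc
    haveI : Subsingleton E := (Nat.card_eq_one_iff_unique.mp (by simpa using hk)).1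
    exact isCyclic_of_subsingleton
  · exfalso
    apply hnc
    exact isCyclic_of_prime_card (p := 3) (by simpa using hk)
  · simpa using hk

end Ctx

end Final

/-- The main theorem. -/
theorem main {W : Type*} [Group W] [Finite W] (hW : IsPGroup 2 W) {p : ℕ} [Fact p.Prime] (hp : p ≠ 2)
    (E : Subgroup (MulAut W)) (hE : IsPGroup p ↥E) (hab : IsMulCommutative ↥E) (hnc : ¬ IsCyclic ↥E)
    (hfix : ∀ e ∈ E, e ≠ 1 → ∀ x y : W, orderOf x = 2 → orderOf y = 2 → e x = x → e y = y → x = y) :
    Nat.card ↥E = 9 ∧ Cfsg.IsExtraspecial 2 W ∧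
      (Nat.card W = 2 ^ 5 ∨ Nat.card W = 2 ^ 7 ∨ Nat.card W = 2 ^ 9) ∧
      {x : W | ∀ e ∈ E, e x = x} = (Subgroup.center W : Set W) := by
  have hc : ∀ e ∈ E, ∀ f ∈ E, e * f = f * e := fun e he f hf =>
    congrArg Subtype.val (hab.is_comm.comm (⟨e, he⟩ : E) ⟨f, hf⟩)
  obtain ⟨a, c, P, -, -⟩ := exists_pair hp E le_rfl hE hnc
  obtain ⟨z, C⟩ := exists_z hW hp hE hc hfix P
  obtain ⟨hX, hcen⟩ := C.extra P
  refine ⟨C.card_E P hnc, hX, C.card_bounds P, ?_⟩
  ext x
  constructor
  · intro hx
    have h1 : x = 1 ∨ x = z := C.cent_pair P (hx a P.ha) (hx c P.hc)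
    show x ∈ Subgroup.center W
    rw [hcen]
    exact (mem_zpowers_two C.zz).mpr h1
  · intro hx e he
    have hx' : x ∈ Subgroup.center W := hx
    rw [hcen, mem_zpowers_two C.zz] at hx'
    rcases hx' with rfl | rfl
    · exact map_one e
    · exact C.hzE e he

end Cfsg.Agent.Lib.ExtraThreeAct
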