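import Mathlib
import Cfsg.Agent.Lib.NPCThompson
import Cfsg.Agent.Lib.Kegel
import Cfsg.Agent.Lib.ZJFusion
import Cfsg.Agent.Lib.TransferCore
import Cfsg.Agent.Lib.PStab

/-!
# A group acted on by automorphisms and anti-automorphisms in an "extremely primitive" way

Let `H` act on the finite group `R` so that every element acts as an automorphism or an
anti-automorphism, every inner automorphism of `R` is realized by `H`, and point stabilizers of
non-identity points are maximal subgroups of `H` (or everything).  Then `R` has a non-trivial abelian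
normal subgroup, unless `R` is trivial.
-/

set_option autoImplicit false

namespace Cfsg.Agent.Lib.ExtremeP

open MulAction Cfsg

/-- The hypotheses. -/
structure Hyp (H R : Type*) [Group H] [Group R] [MulAction H R] : Prop where
  ha : ∀ h : H, (∀ u v : R, h • (u * v) = (h • u) * (h • v)) ∨ (∀ u v : R, h • (u * v) = (h • v) * (h • u))
  hb : ∀ r : R, ∃ b : H, ∀ u : R, b • u = r * u * r⁻¹
  hc : ∀ x : R, x ≠ 1 → stabilizer H x = ⊤ ∨ IsCoatom (stabilizer H x)
  hd : ∀ A : Subgroup R, A.Normal → IsMulCommutative A → A = ⊥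

variable {H R : Type*} [Group H] [Group R] [MulAction H R]

/-- In a nilpotent subgroup `M` containing the Sylow subgroup `Q`, every `r`-element lies in `Q`. -/
theorem sylow_mem_of_nilp [Finite R] {r : ℕ} [Fact r.Prime] {M : Subgroup R} [Group.IsNilpotent M]
    (Q : Sylow r R) (hQ : (Q : Subgroup R) ≤ M) {u : R} (hu : u ∈ M) {k : ℕ} (huk : u ^ (r ^ k) = 1) :
    u ∈ Q := by
  have hQ1 : IsPGroup r ((Q : Subgroup R).comap M.subtype) :=
    Q.isPGroup'.comap_of_injective M.subtype Subtype.val_injective
  obtain ⟨S, hS⟩ := hQ1.exists_le_sylow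
  have hU : IsPGroup r (Subgroup.zpowers (⟨u, hu⟩ : M)) := by
    rintro ⟨x, n, rfl⟩
    refine ⟨k, ?_⟩
    apply Subtype.ext
    apply Subtype.ext
    show (u ^ n) ^ (r ^ k) = 1
    rw [← zpow_natCast, ← zpow_mul, mul_comm, zpow_mul, zpow_natCast, huk, one_zpow]
  obtain ⟨S', hS'⟩ := hU.exists_le_sylow
  have hS0 : (S : Subgroup M).Normal := Group.isNilpotent_of_finite_tfae.out 0 3 rfl rfl |>.mp ‹_› r ‹_› S
  have := Sylow.unique_of_normal S hS0
  have hSS : S' = S := Subsingleton.elim _ _
  have hmem : (⟨u, hu⟩ : M) ∈ (S : Subgroup M) := by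
    rw [← hSS]
    exact hS' (Subgroup.mem_zpowers _)
  have hmap : IsPGroup r ((S : Subgroup M).map M.subtype) := S.isPGroup'.map _
  have hle : (Q : Subgroup R) ≤ (S : Subgroup M).map M.subtype := by
    intro x hx
    exact ⟨⟨x, hQ hx⟩, hS hx, rfl⟩
  have heq := Q.is_maximal' hmap hle
  show u ∈ (Q : Subgroup R)
  rw [← heq]
  exact ⟨⟨u, hu⟩, hmem, rfl⟩

namespace Hyp

variable (S : Hyp H R)
include S

theorem smul_one (h : H) : h • (1 : R) = 1 := by
  rcases S.ha h with h1 | h1
  · have := h1 1 1
    rw [mul_one] at this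
    exact (left_eq_mul.mp this)
  · have := h1 1 1
    rw [mul_one] at this
    exact (left_eq_mul.mp this)

theorem smul_inv (h : H) (u : R) : h • u⁻¹ = (h • u)⁻¹ := by
  rcases S.ha h with h1 | h1
  · have := h1 u u⁻¹
    rw [mul_inv_cancel, S.smul_one] at this
    exact eq_inv_of_mul_eq_one_right this.symm
  · have := h1 u u⁻¹
    rw [mul_inv_cancel, S.smul_one] at this
    exact eq_inv_of_mul_eq_one_left this.symm

theorem smul_pow (h : H) (u : R) (n : ℕ) : h • (u ^ n) = (h • u) ^ n := by
  induction n with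
  | zero => simpa using S.smul_one h
  | succ n ih =>
    rcases S.ha h with h1 | h1
    · rw [pow_succ, h1, ih, pow_succ]
    · rw [pow_succ, h1, ih, pow_succ']

theorem center_trivial {x : R} (hx : ∀ r : R, r * x * r⁻¹ = x) : x = 1 := by
  have h1 : Subgroup.center R = ⊥ := S.hd _ inferInstance inferInstance
  have h2 : x ∈ Subgroup.center R := by
    rw [Subgroup.mem_center_iff]
    intro r
    have := hx r
    calc r * x = (r * x * r⁻¹) * r := by group
      _ = x * r := by rw [this]
  rw [h1] at h2
  exact h2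

theorem coatom {x : R} (hx : x ≠ 1) : IsCoatom (stabilizer H x) := by
  rcases S.hc x hx with h1 | h1
  · exfalso
    apply hx
    apply S.center_trivial
    intro r
    obtain ⟨b, hb⟩ := S.hb r
    have : b ∈ stabilizer H x := by rw [h1]; trivial
    rw [← hb]
    exact this
  · exact h1

theorem stab_eq_of_le {x w : R} (hx : x ≠ 1) (hw : w ≠ 1) (h : stabilizer H x ≤ stabilizer H w) :
    stabilizer H x = stabilizer H w := by
  by_contra hne
  exact (S.coatom hw).1 ((S.coatom hx).2 _ (lt_of_le_of_ne h hne))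

omit S in
/-- `b_y` fixes `x` iff `y` commutes with `x`. -/
theorem comm_iff {y x : R} {b : H} (hb : ∀ u : R, b • u = y * u * y⁻¹) : b ∈ stabilizer H x ↔ y * x = x * y := by
  rw [mem_stabilizer_iff, hb]
  constructor
  · intro h
    calc y * x = (y * x * y⁻¹) * y := by group
      _ = x * y := by rw [h]
  · intro h
    rw [h]; group

/-- If `y` commutes with `x`, and `H_w = H_x`, then `y` commutes with `w`. -/
theorem comm_of_stab {x y w : R} (hxy : y * x = x * y)
    (hw : stabilizer H w = stabilizer H x) : y * w = w * y := by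
  obtain ⟨b, hb⟩ := S.hb y
  rw [← comm_iff hb, hw, comm_iff hb]
  exact hxy

/-- Two elements with the same stabilizer commute. -/
theorem comm_of_stab_eq {w w' : R} (hw : stabilizer H w = stabilizer H w') : w * w' = w' * w :=
  S.comm_of_stab (x := w) (by rfl) hw.symm

theorem stab_inv (x : R) : stabilizer H x⁻¹ = stabilizer H x := by
  ext h
  rw [mem_stabilizer_iff, mem_stabilizer_iff, S.smul_inv, inv_inj]

/-- Elements of a commuting pair with different stabilizers: the order of one kills the other. -/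
theorem pow_order_eq_one {u v : R} (hu : u ≠ 1) (hv : v ≠ 1) (huv : u * v = v * u)
    (hne : stabilizer H u ≠ stabilizer H v) : v ^ orderOf u = 1 := by
  by_contra hk
  set n := orderOf u with hn
  have hc : Commute u v := huv
  have h1 : (u * v) ^ n = v ^ n := by
    rw [hc.mul_pow, hn, pow_orderOf_eq_one, one_mul]
  have huv1 : u * v ≠ 1 := by
    intro h
    have : u = v⁻¹ := eq_inv_of_mul_eq_one_left h
    apply hne
    rw [this, S.stab_inv]
  have hstab1 : stabilizer H v ≤ stabilizer H (v ^ n) := by
    intro h hh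
    rw [mem_stabilizer_iff] at hh ⊢
    rw [S.smul_pow, hh]
  have hstab2 : stabilizer H (u * v) ≤ stabilizer H (v ^ n) := by
    intro h hh
    rw [mem_stabilizer_iff] at hh ⊢
    rw [← h1, S.smul_pow, hh]
  have e1 := S.stab_eq_of_le hv hk hstab1
  have e2 := S.stab_eq_of_le huv1 hk hstab2
  have hle : stabilizer H v ≤ stabilizer H u := by
    intro h hh
    have hh2 : h ∈ stabilizer H (u * v) := by rw [e2, ← e1]; exact hh
    rw [mem_stabilizer_iff] at hh hh2 ⊢
    have h3 : u = (u * v) * v⁻¹ := by group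
    have h4 : h • v⁻¹ = v⁻¹ := by rw [S.smul_inv, hh]
    rw [h3]
    rcases S.ha h with h5 | h5
    · rw [h5, hh2, h4]
    · rw [h5, hh2, h4, ← h3]
      calc v⁻¹ * (u * v) = v⁻¹ * (v * u) := by rw [huv]
        _ = u := by group
  exact hne (S.stab_eq_of_le hv hu hle).symm

theorem order_eq {u v : R} (hu : u ≠ 1) (hv : v ≠ 1) (huv : u * v = v * u)
    (hne : stabilizer H u ≠ stabilizer H v) : orderOf u = orderOf v :=
  Nat.dvd_antisymm (orderOf_dvd_of_pow_eq_one (S.pow_order_eq_one hv hu huv.symm hne.symm))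
    (orderOf_dvd_of_pow_eq_one (S.pow_order_eq_one hu hv huv hne))

/-- If `x` is conjugate to its inverse in `R` then `x ^ 2 = 1`. -/
theorem sq_eq_one_of_conj_inv {x r : R} (hr : r * x * r⁻¹ = x⁻¹) : x ^ 2 = 1 := by
  by_contra hx2
  have hx : x ≠ 1 := by
    rintro rfl
    simp at hx2
  have hne : x⁻¹ ≠ x := by
    intro h
    apply hx2
    rw [sq]
    nth_rewrite 1 [← h]
    exact inv_mul_cancel x
  let L : Subgroup H :=
    { carrier := {h | h • x = x ∨ h • x = x⁻¹}
      one_mem' := Or.inl (one_smul _ _)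
      mul_mem' := by
        rintro a b ha hb
        simp only [Set.mem_ofPred_eq] at ha hb ⊢
        rw [mul_smul]
        rcases hb with hb | hb
        · rw [hb]; exact ha
        · rw [hb, S.smul_inv]
          rcases ha with ha | ha
          · right; rw [ha]
          · left; rw [ha, inv_inv]
      inv_mem' := by
        rintro a ha
        simp only [Set.mem_ofPred_eq] at ha ⊢
        rcases ha with ha | ha
        · left; exact inv_smul_eq_iff.mpr ha.symm
        · right
          rw [inv_smul_eq_iff, S.smul_inv, ha, inv_inv] }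
  have hLle : stabilizer H x ≤ L := fun h hh => Or.inl hh
  obtain ⟨b, hb⟩ := S.hb r
  have hbL : b ∈ L := Or.inr (by rw [hb, hr])
  have hbS : b ∉ stabilizer H x := by
    rw [mem_stabilizer_iff, hb, hr]
    exact hne
  have hL : L = ⊤ := (S.coatom hx).2 _ (lt_of_le_of_ne hLle (fun h => hbS (h ▸ hbL)))
  have hz : Subgroup.zpowers x = ⊥ := by
    apply S.hd
    · constructor
      rintro _ ⟨k, rfl⟩ g
      obtain ⟨b', hb'⟩ := S.hb g
      have h1 : b' ∈ L := by rw [hL]; trivial
      have h2 : g * x * g⁻¹ = x ∨ g * x * g⁻¹ = x⁻¹ := by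
        rw [← hb']; exact h1
      show g * (x ^ k) * g⁻¹ ∈ Subgroup.zpowers x
      have h3 : g * (x ^ k) * g⁻¹ = (g * x * g⁻¹) ^ k := by
        rw [conj_zpow]
      rw [h3]
      rcases h2 with h2 | h2
      · rw [h2]; exact ⟨k, rfl⟩
      · rw [h2]; exact Subgroup.zpow_mem _ (Subgroup.inv_mem _ (Subgroup.mem_zpowers x)) k
    · infer_instance
  exact hx (Subgroup.zpowers_eq_bot.mp hz)

/-- All involutions commute. -/
theorem invol_comm {a b : R} (ha : a ^ 2 = 1) (hb : b ^ 2 = 1) : a * b = b * a := by
  have ha' : a⁻¹ = a := by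
    rw [inv_eq_iff_mul_eq_one, ← sq, ha]
  have hb' : b⁻¹ = b := by
    rw [inv_eq_iff_mul_eq_one, ← sq, hb]
  have h1 : a * (a * b) * a⁻¹ = (a * b)⁻¹ := by
    have haa : a * a = 1 := by rw [← sq, ha]
    calc a * (a * b) * a⁻¹ = (a * a) * b * a⁻¹ := by group
      _ = b * a⁻¹ := by rw [haa, one_mul]
      _ = b⁻¹ * a⁻¹ := by rw [hb']
      _ = (a * b)⁻¹ := by group
  have h2 := S.sq_eq_one_of_conj_inv h1
  rw [sq] at h2
  calc a * b = a * b * ((a * b) * (a * b))⁻¹ * 1 := by rw [h2]; simp
    _ = b⁻¹ * a⁻¹ := by group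
    _ = b * a := by rw [ha', hb']

/-- There are no involutions. -/
theorem eq_one_of_sq {a : R} (ha : a ^ 2 = 1) : a = 1 := by
  let A : Subgroup R :=
    { carrier := {a | a ^ 2 = 1}
      one_mem' := one_pow _
      mul_mem' := by
        rintro x y hx hy
        simp only [Set.mem_ofPred_eq] at hx hy ⊢
        have hc : Commute x y := S.invol_comm hx hy
        rw [hc.mul_pow, hx, hy, one_mul]
      inv_mem' := by
        rintro x hx
        simp only [Set.mem_ofPred_eq] at hx ⊢
        rw [inv_pow, hx, inv_one] }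
  have hA : A = ⊥ := by
    apply S.hd
    · constructor
      rintro x hx g
      show (g * x * g⁻¹) ^ 2 = 1
      rw [conj_pow, show x ^ 2 = 1 from hx]
      group
    · refine ⟨⟨?_⟩⟩
      rintro ⟨x, hx⟩ ⟨y, hy⟩
      exact Subtype.ext (S.invol_comm hx hy)
  have : a ∈ A := ha
  rw [hA] at this
  exact this

/-- Centralizers of non-identity elements are abelian or of prime exponent. -/
theorem centralizer_dichotomy [Finite R] {z : R} (hz : z ≠ 1) :
    (∀ u v : R, u * z = z * u → v * z = z * v → u * v = v * u) ∨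
      ∃ r : ℕ, r.Prime ∧ ∀ u : R, u * z = z * u → u ^ r = 1 := by
  by_cases hall : ∀ y : R, y ≠ 1 → y * z = z * y → stabilizer H y = stabilizer H z
  · left
    intro u v hu hv
    by_cases hu1 : u = 1
    · simp [hu1]
    by_cases hv1 : v = 1
    · simp [hv1]
    exact S.comm_of_stab_eq ((hall u hu1 hu).trans (hall v hv1 hv).symm)
  · right
    push Not at hall
    obtain ⟨y, hy1, hyz, hyne⟩ := hall
    -- every non-identity element of the centralizer has the order of `z`
    have hord : ∀ w : R, w ≠ 1 → w * z = z * w → orderOf w = orderOf z := by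
      intro w hw hwz
      by_cases hws : stabilizer H w = stabilizer H z
      · have h1 : y * w = w * y := S.comm_of_stab hyz hws
        have h2 : stabilizer H w ≠ stabilizer H y := by
          rw [hws]; exact hyne.symm
        rw [S.order_eq hw hy1 h1.symm h2, S.order_eq hy1 hz hyz hyne]
      · exact S.order_eq hw hz hwz hws
    have hz0 : orderOf z ≠ 1 := by
      rwa [Ne, orderOf_eq_one_iff]
    obtain ⟨r, hr, hrd⟩ := Nat.exists_prime_and_dvd hz0
    obtain ⟨k, hk⟩ := hrd
    have hk0 : k ≠ 0 := by
      rintro rfl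
      have := orderOf_pos_iff.mpr (isOfFinOrder_of_finite z)
      omega
    have hzk : orderOf (z ^ k) = r := by
      rw [orderOf_pow_of_dvd hk0 ⟨r, by rw [hk, mul_comm]⟩, hk]
      exact Nat.mul_div_cancel _ (Nat.pos_of_ne_zero hk0)
    have hzk1 : z ^ k ≠ 1 := by
      intro h
      rw [h, orderOf_one] at hzk
      exact hr.one_lt.ne hzk
    have hzc : z ^ k * z = z * z ^ k := by
      exact (pow_succ z k).symm.trans (pow_succ' z k)
    have hrn : r = orderOf z := by
      rw [← hzk]; exact hord _ hzk1 hzc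
    refine ⟨r, hr, ?_⟩
    intro u hu
    by_cases hu1 : u = 1
    · simp [hu1]
    · rw [hrn, ← hord u hu1 hu]
      exact pow_orderOf_eq_one u

/-- Centralizers of non-identity elements are nilpotent. -/
theorem centralizer_nilpotent [Finite R] {z : R} (hz : z ≠ 1) :
    Group.IsNilpotent (Subgroup.centralizer ({z} : Set R)) := by
  rcases S.centralizer_dichotomy hz with h | ⟨r, hr, h⟩
  · let _ : CommGroup (Subgroup.centralizer ({z} : Set R)) := { (inferInstance : Group (Subgroup.centralizer ({z} : Set R))) with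
      mul_comm := fun a b => by
        apply Subtype.ext
        exact h a b (Subgroup.mem_centralizer_singleton_iff.mp a.2) (Subgroup.mem_centralizer_singleton_iff.mp b.2) }
    infer_instance
  · have : Fact r.Prime := ⟨hr⟩
    have hp : IsPGroup r (Subgroup.centralizer ({z} : Set R)) := by
      rintro ⟨x, hx⟩
      refine ⟨1, ?_⟩
      apply Subtype.ext
      simpa using h x (Subgroup.mem_centralizer_singleton_iff.mp hx)
    exact hp.isNilpotent

/-- The main step: normal `r`-complements exist. -/
theorem hasNPC [Finite R] {r : ℕ} [hrp : Fact r.Prime] (hr : r ∣ Nat.card R) : HasNormalPComplement r R := by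
  obtain ⟨Q⟩ : Nonempty (Sylow r R) := inferInstance
  have hQ1 : (Q : Subgroup R) ≠ ⊥ := Sylow.ne_bot_of_dvd_card Q hr
  have hr2 : r ≠ 2 := by
    rintro rfl
    obtain ⟨a, ha⟩ := exists_prime_orderOf_dvd_card' 2 hr
    have h1 : a ^ 2 = 1 := by rw [← ha]; exact pow_orderOf_eq_one a
    rw [S.eq_one_of_sq h1, orderOf_one] at ha
    omega
  have : Nontrivial (Q : Subgroup R) := (Subgroup.nontrivial_iff_ne_bot _).mpr hQ1
  have := Q.isPGroup'.center_nontrivial
  obtain ⟨⟨⟨z, hz⟩, hzc⟩, hz1⟩ := exists_ne (1 : Subgroup.center (Q : Subgroup R))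
  have hz1' : z ≠ 1 := by
    intro h
    apply hz1
    apply Subtype.ext
    apply Subtype.ext
    exact h
  set M := Subgroup.centralizer ({z} : Set R) with hM
  have hQM : (Q : Subgroup R) ≤ M := by
    intro x hx
    rw [hM, Subgroup.mem_centralizer_singleton_iff]
    have := Subgroup.mem_center_iff.mp hzc ⟨x, hx⟩
    exact (congrArg Subtype.val this)
  have nil : Group.IsNilpotent M := S.centralizer_nilpotent hz1'
  set W := centerThompsonAOf (Q : Subgroup R) with hW
  have hWb : W ≠ ⊥ := Cfsg.Agent.Lib.ZJFusion.centerThompsonAOf_ne_bot Q.isPGroup' hQ1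
  have hWcomm : IsMulCommutative W := by
    refine ⟨⟨?_⟩⟩
    rintro ⟨a, ha⟩ ⟨b, hb⟩
    apply Subtype.ext
    exact (Subgroup.mem_centralizer_iff.mp hb.2 a ha.1)
  have key : ∀ f : R ≃* R, (f z = z ∨ f z = z⁻¹) → ∀ w, f w ∈ W ↔ w ∈ W := by
    intro f hf
    have hfM : ∀ x, x * z = z * x → f x * z = z * f x := by
      intro x hx
      have h1 : f x * f z = f z * f x := by rw [← map_mul, ← map_mul, hx]
      rcases hf with hf | hf
      · rwa [hf] at h1
      · rw [hf] at h1
        have h2 : z * (f x * z⁻¹) * z = z * (z⁻¹ * f x) * z := by rw [h1]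
        calc f x * z = z * (z⁻¹ * f x) * z := by group
          _ = z * (f x * z⁻¹) * z := h2.symm
          _ = z * f x := by group
    have hmapQ : (Q : Subgroup R).map f.toMonoidHom = Q := by
      apply Subgroup.eq_of_le_of_card_ge
      · rintro _ ⟨x, hx, rfl⟩
        obtain ⟨k, hk⟩ := Q.isPGroup' ⟨x, hx⟩
        refine sylow_mem_of_nilp Q hQM (k := k) ?_ ?_
        · rw [hM, Subgroup.mem_centralizer_singleton_iff]
          exact hfM x (Subgroup.mem_centralizer_singleton_iff.mp (hQM hx))
        · show (f x) ^ (r ^ k) = 1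
          rw [← map_pow]
          have : x ^ (r ^ k) = 1 := congrArg Subtype.val hk
          rw [this, map_one]
      · rw [Subgroup.card_map_of_injective f.injective]
    have hmapW : W.map f.toMonoidHom = W := by
      rw [hW, Cfsg.Agent.Lib.PStab.map_centerThompsonAOf f.toMonoidHom
        (fun x _ h => (map_eq_one_iff f f.injective).mp h), hmapQ]
    intro w
    constructor
    · intro h
      rw [← hmapW] at h
      obtain ⟨w', hw', he⟩ := h
      have : w' = w := f.injective he
      rwa [← this]
    · intro h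
      rw [← hmapW]
      exact ⟨w, h, rfl⟩
  let L : Subgroup H :=
    { carrier := {h | ∀ w, h • w ∈ W ↔ w ∈ W}
      one_mem' := fun w => by rw [one_smul]
      mul_mem' := by
        rintro a b ha hb w
        rw [mul_smul, ha, hb]
      inv_mem' := by
        rintro a ha w
        rw [← ha (a⁻¹ • w), smul_inv_smul] }
  have hLle : stabilizer H z ≤ L := by
    intro h hh w
    rw [mem_stabilizer_iff] at hh
    rcases S.ha h with h1 | h1
    · exact key { toEquiv := MulAction.toPerm h, map_mul' := h1 } (Or.inl hh) w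
    · have h2 := key { toEquiv := (MulAction.toPerm h).trans (Equiv.inv R)
                       map_mul' := fun u v => by
                         show (h • (u * v))⁻¹ = (h • u)⁻¹ * (h • v)⁻¹
                         rw [h1, mul_inv_rev] } (Or.inr (by
          show (h • z)⁻¹ = z⁻¹
          rw [hh])) w
      rw [← h2]
      exact (Subgroup.inv_mem_iff W).symm
  have hLne : L ≠ ⊤ := by
    intro hL
    apply hWb
    apply S.hd W _ hWcomm
    constructor
    intro w hw g
    obtain ⟨b, hb⟩ := S.hb g
    have h1 : b ∈ L := by rw [hL]; trivial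
    rw [← hb]
    exact (h1 w).mpr hw
  have hLeq : L = stabilizer H z := by
    by_contra hne
    exact hLne ((S.coatom hz1').2 _ (lt_of_le_of_ne hLle (Ne.symm hne)))
  have hNM : Subgroup.normalizer (W : Set R) ≤ M := by
    intro g hg
    obtain ⟨b, hb⟩ := S.hb g
    have h1 : b ∈ L := by
      intro w
      rw [hb]
      exact ((Subgroup.mem_normalizer_iff.mp hg) w).symm
    rw [hLeq, comm_iff hb] at h1
    rw [hM, Subgroup.mem_centralizer_singleton_iff]
    exact h1
  have hnilN : Group.IsNilpotent (Subgroup.normalizer (W : Set R)) :=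
    (Group.isNilpotent_congr (Subgroup.subgroupOfEquivOfLe hNM)).mp inferInstance
  exact Cfsg.Agent.Lib.NPCThompson.hasNPC_of_centerThompsonA hr2 Q
    (Cfsg.Agent.Lib.Kegel.hasNPC_of_isNilpotent)

/-- Lemma P. -/
theorem subsingleton [Finite R] : Subsingleton R := by
  by_contra hR
  rw [not_subsingleton_iff_nontrivial] at hR
  have hex : ∀ s : ℕ, s.Prime → ∃ M : Subgroup R, M.Normal ∧ ∀ x, x ∈ M ↔ Nat.Coprime (orderOf x) s := by
    intro s hs
    have : Fact s.Prime := ⟨hs⟩
    by_cases hsd : s ∣ Nat.card R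
    · obtain ⟨P, M, hM, hc⟩ := S.hasNPC hsd
      exact ⟨M, hM, Cfsg.Agent.Lib.TransferCore.mem_of_complement_iff hc⟩
    · refine ⟨⊤, inferInstance, fun x => ⟨fun _ => ?_, fun _ => trivial⟩⟩
      have h1 : Nat.Coprime (Nat.card R) s := ((Nat.Prime.coprime_iff_not_dvd hs).mpr hsd).symm
      exact Nat.Coprime.coprime_dvd_left (orderOf_dvd_natCard x) h1
  choose M hMn hM using hex
  obtain ⟨r, hr, hrd⟩ := Nat.exists_prime_and_dvd (Finite.one_lt_card (α := R)).ne'
  have : Fact r.Prime := ⟨hr⟩
  let D : Subgroup R :=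
    { carrier := {x | ∀ s (hs : s.Prime), s ≠ r → x ∈ M s hs}
      one_mem' := fun s hs _ => (M s hs).one_mem
      mul_mem' := fun ha hb s hs h => (M s hs).mul_mem (ha s hs h) (hb s hs h)
      inv_mem' := fun ha s hs h => (M s hs).inv_mem (ha s hs h) }
  have hDn : D.Normal := by
    constructor
    intro x hx g s hs h
    have := hMn s hs
    exact (hMn s hs).conj_mem _ (hx s hs h) g
  have hDp : IsPGroup r D := by
    rw [IsPGroup.iff_orderOf]
    rintro ⟨x, hx⟩
    have h1 : orderOf x ≠ 0 := (orderOf_pos x).ne'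
    have h2 : ∀ {d : ℕ}, d.Prime → d ∣ orderOf x → d = r := by
      intro d hd hdv
      by_contra hne
      have h3 := (hM d hd x).mp (hx d hd hne)
      exact hd.one_lt.ne' (Nat.eq_one_of_dvd_coprimes h3 hdv dvd_rfl)
    rw [Subgroup.orderOf_mk]
    exact ⟨_, Nat.eq_prime_pow_of_unique_prime_dvd h1 h2⟩
  obtain ⟨a, ha⟩ := exists_prime_orderOf_dvd_card' r hrd
  have haD : a ∈ D := by
    intro s hs hne
    rw [hM, ha]
    exact (Nat.coprime_primes hr hs).mpr hne.symm
  have ha1 : a ≠ 1 := by
    rintro rfl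
    rw [orderOf_one] at ha
    exact hr.one_lt.ne ha
  have hDnt : Nontrivial D := by
    rw [Subgroup.nontrivial_iff_exists_ne_one]
    exact ⟨a, haD, ha1⟩
  have := hDp.center_nontrivial
  obtain ⟨⟨⟨c, hc⟩, hcc⟩, hc1⟩ := exists_ne (1 : Subgroup.center D)
  let Z : Subgroup R := D ⊓ Subgroup.centralizer (D : Set R)
  have hZ : Z = ⊥ := by
    apply S.hd
    · have : (Subgroup.centralizer (D : Set R)).Normal := by
        constructor
        intro x hx g
        rw [Subgroup.mem_centralizer_iff] at hx ⊢
        intro y hy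
        have h1 := hx (g⁻¹ * y * g) (by
          have := hDn.conj_mem y hy g⁻¹
          rwa [inv_inv] at this)
        calc y * (g * x * g⁻¹) = g * ((g⁻¹ * y * g) * x) * g⁻¹ := by group
          _ = g * (x * (g⁻¹ * y * g)) * g⁻¹ := by rw [h1]
          _ = g * x * g⁻¹ * y := by group
      exact Subgroup.normal_inf_normal _ _
    · refine ⟨⟨?_⟩⟩
      rintro ⟨x, hx⟩ ⟨y, hy⟩
      apply Subtype.ext
      exact (Subgroup.mem_centralizer_iff.mp hy.2 x hx.1)
  have hcZ : c ∈ Z := by
    refine ⟨hc, Subgroup.mem_centralizer_iff.mpr ?_⟩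
    intro y hy
    have := Subgroup.mem_center_iff.mp hcc ⟨y, hy⟩
    exact (congrArg Subtype.val this)
  rw [hZ] at hcZ
  apply hc1
  apply Subtype.ext
  apply Subtype.ext
  exact hcZ

end Hyp

section Transport

variable {G Ω : Type*} [Group G] [MulAction G Ω]

/-- A primitive action on an orbit: the point stabilizer is maximal or everything. -/
theorem stab_coatom {S : Type*} [Group S] [MulAction S Ω] (ω : Ω)
    (hp : IsPreprimitive S (orbit S ω)) : stabilizer S ω = ⊤ ∨ IsCoatom (stabilizer S ω) := by
  by_cases hall : ∀ k : S, k • ω = ω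
  · left
    rw [eq_top_iff]
    intro k _
    exact hall k
  · right
    push Not at hall
    obtain ⟨k, hk⟩ := hall
    let a : orbit S ω := ⟨ω, mem_orbit_self ω⟩
    haveI : Nontrivial (orbit S ω) := by
      refine ⟨⟨a, k • a, ?_⟩⟩
      intro h
      exact hk (congrArg Subtype.val h).symm
    have h1 : IsCoatom (stabilizer S a) := (isCoatom_stabilizer_iff_preprimitive (G := S) a).mpr hp
    have h2 : stabilizer S a = stabilizer S ω := by
      ext g
      rw [mem_stabilizer_iff, mem_stabilizer_iff]
      exact Subtype.ext_iff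
    rwa [h2] at h1

/-- The transported version of Lemma P for a regular subgroup `R` of `G`. -/
theorem no_regular (R : Subgroup G) [Finite R] (α : Ω)
    (hep : ∀ ω : Ω, IsPreprimitive (stabilizer G α) (orbit (stabilizer G α) ω))
    (hreg : Function.Bijective (fun u : R => (u : G) • α))
    (ha : ∀ h : stabilizer G α, ∃ φ : R → R, (∀ u : R, (φ u : G) • α = (h : G) • (u : G) • α) ∧
      ((∀ u v, φ (u * v) = φ u * φ v) ∨ (∀ u v, φ (u * v) = φ v * φ u)))
    (hb : ∀ r : R, ∃ b : stabilizer G α, ∀ u : R, (b : G) • (u : G) • α = ((r : G) * u * (r : G)⁻¹) • α)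
    (hd : ∀ A : Subgroup R, A.Normal → IsMulCommutative A → A = ⊥) : Subsingleton R := by
  let e : R ≃ Ω := Equiv.ofBijective _ hreg
  have he : ∀ u : R, e u = (u : G) • α := fun _ => rfl
  letI : MulAction (stabilizer G α) R := e.mulAction _
  have hsm : ∀ (h : stabilizer G α) (u : R), h • u = e.symm (h • e u) := fun _ _ => rfl
  have hsm' : ∀ (h : stabilizer G α) (u w : R), (h • u = w) ↔ (h : G) • (u : G) • α = (w : G) • α := by
    intro h u w
    rw [hsm, Equiv.symm_apply_eq]
    exact Iff.rfl
  have S : Hyp (stabilizer G α) R := by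
    refine ⟨?_, ?_, ?_, hd⟩
    · intro h
      obtain ⟨φ, hφ, hm⟩ := ha h
      have hφ' : ∀ u, h • u = φ u := fun u => (hsm' h u (φ u)).mpr (hφ u).symm
      rcases hm with hm | hm
      · left
        intro u v
        rw [hφ', hφ', hφ', hm]
      · right
        intro u v
        rw [hφ', hφ', hφ', hm]
    · intro r
      obtain ⟨b, hb'⟩ := hb r
      refine ⟨b, fun u => ?_⟩
      rw [hsm']
      exact hb' u
    · intro x _
      have h1 := stab_coatom (e x) (hep (e x))
      have h2 : stabilizer (stabilizer G α) x = stabilizer (stabilizer G α) (e x) := by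
        ext k
        rw [mem_stabilizer_iff, mem_stabilizer_iff, hsm, Equiv.symm_apply_eq]
      rwa [h2]
  exact S.subsingleton

end Transport

end Cfsg.Agent.Lib.ExtremeP
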