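import Cfsg.Agent.Lib.Chev.TwF4P

/-!
# The unipotent group of `F₄` in characteristic two: collection
-/

set_option autoImplicit false
set_option linter.unusedSectionVars false
set_option linter.unusedVariables false
set_option linter.unusedSimpArgs false

namespace Cfsg.Agent.Lib.F4Inv50

open Cfsg Cfsg.Lie Cfsg.Agent.Lib.Chev Cfsg.Agent.Lib.Chev.TwF4

section Swap

variable {K : Type*} [Field K]

/-- Root elements. -/
noncomputable abbrev x (r : ℕ) (t : K) : GL chevF4.Idx K := hF.c.xG r t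

theorem sw_nil {r s : ℕ} (h : r < chevF4.nroots ∧ s < chevF4.nroots ∧ s ≠ r ∧ s ≠ chevF4.neg r ∧ chevF4.commTerms r s = [])
    (t u : K) (w : GL chevF4.Idx K) : x s u * (x r t * w) = x r t * (x s u * w) := by
  obtain ⟨h1, h2, h3, h4, h5⟩ := h
  have h6 := hF.xG_comm h1 h2 h3 h4 t u
  rw [← mul_assoc, h6]
  simp [ChevalleyDatum.commWord, h5, Checks.wordG_nil, mul_assoc]

theorem sw_zero [CharP K 2] {r s m : ℕ} {ε : ℤ}
    (h : r < chevF4.nroots ∧ s < chevF4.nroots ∧ s ≠ r ∧ s ≠ chevF4.neg r ∧ chevF4.commTerms r s = [(m, ε, 1, 1)] ∧ (ε = 2 ∨ ε = -2))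
    (t u : K) (w : GL chevF4.Idx K) : x s u * (x r t * w) = x r t * (x s u * w) := by
  obtain ⟨h1, h2, h3, h4, h5, h7⟩ := h
  have h6 := hF.xG_comm h1 h2 h3 h4 t u
  rw [← mul_assoc, h6]
  have h20 : (2 : K) = 0 := CharTwo.two_eq_zero
  have e : ((ε : ℤ) : K) * (-t) ^ 1 * u ^ 1 = 0 := by
    rcases h7 with rfl | rfl
    · simp [h20]
    · simp [h20]
  have e2 : chevF4.commWord K r s t u = [(m, 0)] := by
    simp only [ChevalleyDatum.commWord, h5, List.map_cons, List.map_nil]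
    rw [e]
  rw [e2, Checks.wordG_cons, Checks.wordG_nil, mul_one, hF.c.xG_zero, mul_one]
  simp only [mul_assoc]

theorem sw_one [CharP K 2] {r s m : ℕ} {ε : ℤ}
    (h : r < chevF4.nroots ∧ s < chevF4.nroots ∧ s ≠ r ∧ s ≠ chevF4.neg r ∧ chevF4.commTerms r s = [(m, ε, 1, 1)] ∧ (ε = 1 ∨ ε = -1))
    (t u : K) (w : GL chevF4.Idx K) : x s u * (x r t * w) = x r t * (x s u * (x m (t * u) * w)) := by
  obtain ⟨h1, h2, h3, h4, h5, h7⟩ := h
  have h6 := hF.xG_comm h1 h2 h3 h4 t u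
  rw [← mul_assoc, h6]
  have e : ((ε : ℤ) : K) * (-t) ^ 1 * u ^ 1 = t * u := by
    rcases h7 with rfl | rfl
    · simp [CharTwo.neg_eq]
    · simp [CharTwo.neg_eq]
  have e2 : chevF4.commWord K r s t u = [(m, t * u)] := by
    simp only [ChevalleyDatum.commWord, h5, List.map_cons, List.map_nil]
    rw [e]
  rw [e2, Checks.wordG_cons, Checks.wordG_nil, mul_one]
  simp only [mul_assoc]

theorem sw_two12 [CharP K 2] {r s m n : ℕ} {ε δ : ℤ}
    (h : r < chevF4.nroots ∧ s < chevF4.nroots ∧ s ≠ r ∧ s ≠ chevF4.neg r ∧ chevF4.commTerms r s = [(m, ε, 1, 1), (n, δ, 1, 2)] ∧ (ε = 1 ∨ ε = -1) ∧ (δ = 1 ∨ δ = -1))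
    (t u : K) (w : GL chevF4.Idx K) : x s u * (x r t * w) = x r t * (x s u * (x m (t * u) * (x n (t * u ^ 2) * w))) := by
  obtain ⟨h1, h2, h3, h4, h5, h7, h8⟩ := h
  have h6 := hF.xG_comm h1 h2 h3 h4 t u
  rw [← mul_assoc, h6]
  have e : ((ε : ℤ) : K) * (-t) ^ 1 * u ^ 1 = t * u := by
    rcases h7 with rfl | rfl
    · simp [CharTwo.neg_eq]
    · simp [CharTwo.neg_eq]
  have e' : ((δ : ℤ) : K) * (-t) ^ 1 * u ^ 2 = t * u ^ 2 := by
    rcases h8 with rfl | rfl
    · simp [CharTwo.neg_eq]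
    · simp [CharTwo.neg_eq]
  have e2 : chevF4.commWord K r s t u = [(m, t * u), (n, t * u ^ 2)] := by
    simp only [ChevalleyDatum.commWord, h5, List.map_cons, List.map_nil]
    rw [e, e']
  rw [e2, Checks.wordG_cons, Checks.wordG_cons, Checks.wordG_nil, mul_one]
  simp only [mul_assoc]

theorem sw_two21 [CharP K 2] {r s m n : ℕ} {ε δ : ℤ}
    (h : r < chevF4.nroots ∧ s < chevF4.nroots ∧ s ≠ r ∧ s ≠ chevF4.neg r ∧ chevF4.commTerms r s = [(m, ε, 1, 1), (n, δ, 2, 1)] ∧ (ε = 1 ∨ ε = -1) ∧ (δ = 1 ∨ δ = -1))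
    (t u : K) (w : GL chevF4.Idx K) : x s u * (x r t * w) = x r t * (x s u * (x m (t * u) * (x n (t ^ 2 * u) * w))) := by
  obtain ⟨h1, h2, h3, h4, h5, h7, h8⟩ := h
  have h6 := hF.xG_comm h1 h2 h3 h4 t u
  rw [← mul_assoc, h6]
  have e : ((ε : ℤ) : K) * (-t) ^ 1 * u ^ 1 = t * u := by
    rcases h7 with rfl | rfl
    · simp [CharTwo.neg_eq]
    · simp [CharTwo.neg_eq]
  have e' : ((δ : ℤ) : K) * (-t) ^ 2 * u ^ 1 = t ^ 2 * u := by
    rcases h8 with rfl | rfl
    · simp [CharTwo.neg_eq, neg_sq]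
    · simp [CharTwo.neg_eq, neg_sq]
  have e2 : chevF4.commWord K r s t u = [(m, t * u), (n, t ^ 2 * u)] := by
    simp only [ChevalleyDatum.commWord, h5, List.map_cons, List.map_nil]
    rw [e, e']
  rw [e2, Checks.wordG_cons, Checks.wordG_cons, Checks.wordG_nil, mul_one]
  simp only [mul_assoc]

theorem mg (r : ℕ) (a b : K) (w : GL chevF4.Idx K) : x r a * (x r b * w) = x r (a + b) * w := by
  rw [← mul_assoc, hF.c.xG_add]

theorem s_25_24 [CharP K 2] (t u : K) (w : GL chevF4.Idx K) : x 25 u * (x 24 t * w) = x 24 t * (x 25 u * (x 26 (t * u) * w)) :=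
  sw_one (ε := 1) (by decide +kernel) t u w

theorem s_26_24 (t u : K) (w : GL chevF4.Idx K) : x 26 u * (x 24 t * w) = x 24 t * (x 26 u * w) :=
  sw_nil (by decide +kernel) t u w

theorem s_27_24 (t u : K) (w : GL chevF4.Idx K) : x 27 u * (x 24 t * w) = x 24 t * (x 27 u * w) :=
  sw_nil (by decide +kernel) t u w

theorem s_28_24 [CharP K 2] (t u : K) (w : GL chevF4.Idx K) : x 28 u * (x 24 t * w) = x 24 t * (x 28 u * (x 29 (t * u) * (x 32 (t * u ^ 2) * w))) :=
  sw_two12 (ε := 1) (δ := -1) (by decide +kernel) t u w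

theorem s_29_24 (t u : K) (w : GL chevF4.Idx K) : x 29 u * (x 24 t * w) = x 24 t * (x 29 u * w) :=
  sw_nil (by decide +kernel) t u w

theorem s_30_24 [CharP K 2] (t u : K) (w : GL chevF4.Idx K) : x 30 u * (x 24 t * w) = x 24 t * (x 30 u * (x 31 (t * u) * w)) :=
  sw_one (ε := 1) (by decide +kernel) t u w

theorem s_31_24 (t u : K) (w : GL chevF4.Idx K) : x 31 u * (x 24 t * w) = x 24 t * (x 31 u * w) :=
  sw_nil (by decide +kernel) t u w

theorem s_32_24 (t u : K) (w : GL chevF4.Idx K) : x 32 u * (x 24 t * w) = x 24 t * (x 32 u * w) :=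
  sw_nil (by decide +kernel) t u w

theorem s_33_24 (t u : K) (w : GL chevF4.Idx K) : x 33 u * (x 24 t * w) = x 24 t * (x 33 u * w) :=
  sw_nil (by decide +kernel) t u w

theorem s_34_24 (t u : K) (w : GL chevF4.Idx K) : x 34 u * (x 24 t * w) = x 24 t * (x 34 u * w) :=
  sw_nil (by decide +kernel) t u w

theorem s_35_24 [CharP K 2] (t u : K) (w : GL chevF4.Idx K) : x 35 u * (x 24 t * w) = x 24 t * (x 35 u * (x 36 (t * u) * (x 43 (t * u ^ 2) * w))) :=
  sw_two12 (ε := 1) (δ := 1) (by decide +kernel) t u w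

theorem s_36_24 (t u : K) (w : GL chevF4.Idx K) : x 36 u * (x 24 t * w) = x 24 t * (x 36 u * w) :=
  sw_nil (by decide +kernel) t u w

theorem s_37_24 [CharP K 2] (t u : K) (w : GL chevF4.Idx K) : x 37 u * (x 24 t * w) = x 24 t * (x 37 u * (x 38 (t * u) * (x 45 (t * u ^ 2) * w))) :=
  sw_two12 (ε := 1) (δ := 1) (by decide +kernel) t u w

theorem s_38_24 (t u : K) (w : GL chevF4.Idx K) : x 38 u * (x 24 t * w) = x 24 t * (x 38 u * w) :=
  sw_nil (by decide +kernel) t u w

theorem s_39_24 (t u : K) (w : GL chevF4.Idx K) : x 39 u * (x 24 t * w) = x 24 t * (x 39 u * w) :=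
  sw_nil (by decide +kernel) t u w

theorem s_40_24 (t u : K) (w : GL chevF4.Idx K) : x 40 u * (x 24 t * w) = x 24 t * (x 40 u * w) :=
  sw_nil (by decide +kernel) t u w

theorem s_41_24 [CharP K 2] (t u : K) (w : GL chevF4.Idx K) : x 41 u * (x 24 t * w) = x 24 t * (x 41 u * (x 42 (t * u) * w)) :=
  sw_one (ε := 1) (by decide +kernel) t u w

theorem s_42_24 (t u : K) (w : GL chevF4.Idx K) : x 42 u * (x 24 t * w) = x 24 t * (x 42 u * w) :=
  sw_nil (by decide +kernel) t u w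

theorem s_43_24 (t u : K) (w : GL chevF4.Idx K) : x 43 u * (x 24 t * w) = x 24 t * (x 43 u * w) :=
  sw_nil (by decide +kernel) t u w

theorem s_44_24 (t u : K) (w : GL chevF4.Idx K) : x 44 u * (x 24 t * w) = x 24 t * (x 44 u * w) :=
  sw_nil (by decide +kernel) t u w

theorem s_45_24 (t u : K) (w : GL chevF4.Idx K) : x 45 u * (x 24 t * w) = x 24 t * (x 45 u * w) :=
  sw_nil (by decide +kernel) t u w

theorem s_46_24 [CharP K 2] (t u : K) (w : GL chevF4.Idx K) : x 46 u * (x 24 t * w) = x 24 t * (x 46 u * (x 47 (t * u) * w)) :=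
  sw_one (ε := 1) (by decide +kernel) t u w

theorem s_47_24 (t u : K) (w : GL chevF4.Idx K) : x 47 u * (x 24 t * w) = x 24 t * (x 47 u * w) :=
  sw_nil (by decide +kernel) t u w

theorem s_26_25 (t u : K) (w : GL chevF4.Idx K) : x 26 u * (x 25 t * w) = x 25 t * (x 26 u * w) :=
  sw_nil (by decide +kernel) t u w

theorem s_27_25 [CharP K 2] (t u : K) (w : GL chevF4.Idx K) : x 27 u * (x 25 t * w) = x 25 t * (x 27 u * (x 28 (t * u) * (x 30 (t * u ^ 2) * w))) :=
  sw_two12 (ε := 1) (δ := -1) (by decide +kernel) t u w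

theorem s_28_25 (t u : K) (w : GL chevF4.Idx K) : x 28 u * (x 25 t * w) = x 25 t * (x 28 u * w) :=
  sw_nil (by decide +kernel) t u w

theorem s_29_25 (t u : K) (w : GL chevF4.Idx K) : x 29 u * (x 25 t * w) = x 25 t * (x 29 u * w) :=
  sw_nil (by decide +kernel) t u w

theorem s_30_25 (t u : K) (w : GL chevF4.Idx K) : x 30 u * (x 25 t * w) = x 25 t * (x 30 u * w) :=
  sw_nil (by decide +kernel) t u w

theorem s_31_25 [CharP K 2] (t u : K) (w : GL chevF4.Idx K) : x 31 u * (x 25 t * w) = x 25 t * (x 31 u * (x 32 (t * u) * w)) :=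
  sw_one (ε := 1) (by decide +kernel) t u w

theorem s_32_25 (t u : K) (w : GL chevF4.Idx K) : x 32 u * (x 25 t * w) = x 25 t * (x 32 u * w) :=
  sw_nil (by decide +kernel) t u w

theorem s_33_25 (t u : K) (w : GL chevF4.Idx K) : x 33 u * (x 25 t * w) = x 25 t * (x 33 u * w) :=
  sw_nil (by decide +kernel) t u w

theorem s_34_25 [CharP K 2] (t u : K) (w : GL chevF4.Idx K) : x 34 u * (x 25 t * w) = x 25 t * (x 34 u * (x 35 (t * u) * (x 41 (t * u ^ 2) * w))) :=
  sw_two12 (ε := 1) (δ := 1) (by decide +kernel) t u w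

theorem s_35_25 (t u : K) (w : GL chevF4.Idx K) : x 35 u * (x 25 t * w) = x 25 t * (x 35 u * w) :=
  sw_nil (by decide +kernel) t u w

theorem s_36_25 (t u : K) (w : GL chevF4.Idx K) : x 36 u * (x 25 t * w) = x 25 t * (x 36 u * w) :=
  sw_nil (by decide +kernel) t u w

theorem s_37_25 (t u : K) (w : GL chevF4.Idx K) : x 37 u * (x 25 t * w) = x 25 t * (x 37 u * w) :=
  sw_nil (by decide +kernel) t u w

theorem s_38_25 [CharP K 2] (t u : K) (w : GL chevF4.Idx K) : x 38 u * (x 25 t * w) = x 25 t * (x 38 u * (x 39 (t * u) * (x 47 (t * u ^ 2) * w))) :=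
  sw_two12 (ε := 1) (δ := 1) (by decide +kernel) t u w

theorem s_39_25 (t u : K) (w : GL chevF4.Idx K) : x 39 u * (x 25 t * w) = x 25 t * (x 39 u * w) :=
  sw_nil (by decide +kernel) t u w

theorem s_40_25 (t u : K) (w : GL chevF4.Idx K) : x 40 u * (x 25 t * w) = x 25 t * (x 40 u * w) :=
  sw_nil (by decide +kernel) t u w

theorem s_41_25 (t u : K) (w : GL chevF4.Idx K) : x 41 u * (x 25 t * w) = x 25 t * (x 41 u * w) :=
  sw_nil (by decide +kernel) t u w

theorem s_42_25 [CharP K 2] (t u : K) (w : GL chevF4.Idx K) : x 42 u * (x 25 t * w) = x 25 t * (x 42 u * (x 43 (t * u) * w)) :=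
  sw_one (ε := 1) (by decide +kernel) t u w

theorem s_43_25 (t u : K) (w : GL chevF4.Idx K) : x 43 u * (x 25 t * w) = x 25 t * (x 43 u * w) :=
  sw_nil (by decide +kernel) t u w

theorem s_44_25 (t u : K) (w : GL chevF4.Idx K) : x 44 u * (x 25 t * w) = x 25 t * (x 44 u * w) :=
  sw_nil (by decide +kernel) t u w

theorem s_45_25 [CharP K 2] (t u : K) (w : GL chevF4.Idx K) : x 45 u * (x 25 t * w) = x 25 t * (x 45 u * (x 46 (t * u) * w)) :=
  sw_one (ε := 1) (by decide +kernel) t u w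

theorem s_46_25 (t u : K) (w : GL chevF4.Idx K) : x 46 u * (x 25 t * w) = x 25 t * (x 46 u * w) :=
  sw_nil (by decide +kernel) t u w

theorem s_47_25 (t u : K) (w : GL chevF4.Idx K) : x 47 u * (x 25 t * w) = x 25 t * (x 47 u * w) :=
  sw_nil (by decide +kernel) t u w

theorem s_27_26 [CharP K 2] (t u : K) (w : GL chevF4.Idx K) : x 27 u * (x 26 t * w) = x 26 t * (x 27 u * (x 29 (t * u) * (x 31 (t * u ^ 2) * w))) :=
  sw_two12 (ε := 1) (δ := -1) (by decide +kernel) t u w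

theorem s_28_26 (t u : K) (w : GL chevF4.Idx K) : x 28 u * (x 26 t * w) = x 26 t * (x 28 u * w) :=
  sw_nil (by decide +kernel) t u w

theorem s_29_26 (t u : K) (w : GL chevF4.Idx K) : x 29 u * (x 26 t * w) = x 26 t * (x 29 u * w) :=
  sw_nil (by decide +kernel) t u w

theorem s_30_26 [CharP K 2] (t u : K) (w : GL chevF4.Idx K) : x 30 u * (x 26 t * w) = x 26 t * (x 30 u * (x 32 (t * u) * w)) :=
  sw_one (ε := -1) (by decide +kernel) t u w

theorem s_31_26 (t u : K) (w : GL chevF4.Idx K) : x 31 u * (x 26 t * w) = x 26 t * (x 31 u * w) :=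
  sw_nil (by decide +kernel) t u w

theorem s_32_26 (t u : K) (w : GL chevF4.Idx K) : x 32 u * (x 26 t * w) = x 26 t * (x 32 u * w) :=
  sw_nil (by decide +kernel) t u w

theorem s_33_26 (t u : K) (w : GL chevF4.Idx K) : x 33 u * (x 26 t * w) = x 26 t * (x 33 u * w) :=
  sw_nil (by decide +kernel) t u w

theorem s_34_26 [CharP K 2] (t u : K) (w : GL chevF4.Idx K) : x 34 u * (x 26 t * w) = x 26 t * (x 34 u * (x 36 (t * u) * (x 42 (t * u ^ 2) * w))) :=
  sw_two12 (ε := 1) (δ := 1) (by decide +kernel) t u w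

theorem s_35_26 (t u : K) (w : GL chevF4.Idx K) : x 35 u * (x 26 t * w) = x 26 t * (x 35 u * w) :=
  sw_nil (by decide +kernel) t u w

theorem s_36_26 (t u : K) (w : GL chevF4.Idx K) : x 36 u * (x 26 t * w) = x 26 t * (x 36 u * w) :=
  sw_nil (by decide +kernel) t u w

theorem s_37_26 [CharP K 2] (t u : K) (w : GL chevF4.Idx K) : x 37 u * (x 26 t * w) = x 26 t * (x 37 u * (x 39 (t * u) * (x 46 (t * u ^ 2) * w))) :=
  sw_two12 (ε := -1) (δ := -1) (by decide +kernel) t u w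

theorem s_38_26 (t u : K) (w : GL chevF4.Idx K) : x 38 u * (x 26 t * w) = x 26 t * (x 38 u * w) :=
  sw_nil (by decide +kernel) t u w

theorem s_39_26 (t u : K) (w : GL chevF4.Idx K) : x 39 u * (x 26 t * w) = x 26 t * (x 39 u * w) :=
  sw_nil (by decide +kernel) t u w

theorem s_40_26 (t u : K) (w : GL chevF4.Idx K) : x 40 u * (x 26 t * w) = x 26 t * (x 40 u * w) :=
  sw_nil (by decide +kernel) t u w

theorem s_41_26 [CharP K 2] (t u : K) (w : GL chevF4.Idx K) : x 41 u * (x 26 t * w) = x 26 t * (x 41 u * (x 43 (t * u) * w)) :=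
  sw_one (ε := -1) (by decide +kernel) t u w

theorem s_42_26 (t u : K) (w : GL chevF4.Idx K) : x 42 u * (x 26 t * w) = x 26 t * (x 42 u * w) :=
  sw_nil (by decide +kernel) t u w

theorem s_43_26 (t u : K) (w : GL chevF4.Idx K) : x 43 u * (x 26 t * w) = x 26 t * (x 43 u * w) :=
  sw_nil (by decide +kernel) t u w

theorem s_44_26 (t u : K) (w : GL chevF4.Idx K) : x 44 u * (x 26 t * w) = x 26 t * (x 44 u * w) :=
  sw_nil (by decide +kernel) t u w

theorem s_45_26 [CharP K 2] (t u : K) (w : GL chevF4.Idx K) : x 45 u * (x 26 t * w) = x 26 t * (x 45 u * (x 47 (t * u) * w)) :=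
  sw_one (ε := 1) (by decide +kernel) t u w

theorem s_46_26 (t u : K) (w : GL chevF4.Idx K) : x 46 u * (x 26 t * w) = x 26 t * (x 46 u * w) :=
  sw_nil (by decide +kernel) t u w

theorem s_47_26 (t u : K) (w : GL chevF4.Idx K) : x 47 u * (x 26 t * w) = x 26 t * (x 47 u * w) :=
  sw_nil (by decide +kernel) t u w

theorem s_28_27 [CharP K 2] (t u : K) (w : GL chevF4.Idx K) : x 28 u * (x 27 t * w) = x 27 t * (x 28 u * w) :=
  sw_zero (m := 30) (ε := 2) (by decide +kernel) t u w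

theorem s_29_27 [CharP K 2] (t u : K) (w : GL chevF4.Idx K) : x 29 u * (x 27 t * w) = x 27 t * (x 29 u * w) :=
  sw_zero (m := 31) (ε := 2) (by decide +kernel) t u w

theorem s_30_27 (t u : K) (w : GL chevF4.Idx K) : x 30 u * (x 27 t * w) = x 27 t * (x 30 u * w) :=
  sw_nil (by decide +kernel) t u w

theorem s_31_27 (t u : K) (w : GL chevF4.Idx K) : x 31 u * (x 27 t * w) = x 27 t * (x 31 u * w) :=
  sw_nil (by decide +kernel) t u w

theorem s_32_27 (t u : K) (w : GL chevF4.Idx K) : x 32 u * (x 27 t * w) = x 27 t * (x 32 u * w) :=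
  sw_nil (by decide +kernel) t u w

theorem s_33_27 [CharP K 2] (t u : K) (w : GL chevF4.Idx K) : x 33 u * (x 27 t * w) = x 27 t * (x 33 u * (x 34 (t * u) * w)) :=
  sw_one (ε := 1) (by decide +kernel) t u w

theorem s_34_27 (t u : K) (w : GL chevF4.Idx K) : x 34 u * (x 27 t * w) = x 27 t * (x 34 u * w) :=
  sw_nil (by decide +kernel) t u w

theorem s_35_27 [CharP K 2] (t u : K) (w : GL chevF4.Idx K) : x 35 u * (x 27 t * w) = x 27 t * (x 35 u * (x 37 (t * u) * w)) :=
  sw_one (ε := 1) (by decide +kernel) t u w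

theorem s_36_27 [CharP K 2] (t u : K) (w : GL chevF4.Idx K) : x 36 u * (x 27 t * w) = x 27 t * (x 36 u * (x 38 (t * u) * w)) :=
  sw_one (ε := 1) (by decide +kernel) t u w

theorem s_37_27 (t u : K) (w : GL chevF4.Idx K) : x 37 u * (x 27 t * w) = x 27 t * (x 37 u * w) :=
  sw_nil (by decide +kernel) t u w

theorem s_38_27 (t u : K) (w : GL chevF4.Idx K) : x 38 u * (x 27 t * w) = x 27 t * (x 38 u * w) :=
  sw_nil (by decide +kernel) t u w

theorem s_39_27 [CharP K 2] (t u : K) (w : GL chevF4.Idx K) : x 39 u * (x 27 t * w) = x 27 t * (x 39 u * (x 40 (t * u) * w)) :=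
  sw_one (ε := 1) (by decide +kernel) t u w

theorem s_40_27 (t u : K) (w : GL chevF4.Idx K) : x 40 u * (x 27 t * w) = x 27 t * (x 40 u * w) :=
  sw_nil (by decide +kernel) t u w

theorem s_41_27 (t u : K) (w : GL chevF4.Idx K) : x 41 u * (x 27 t * w) = x 27 t * (x 41 u * w) :=
  sw_nil (by decide +kernel) t u w

theorem s_42_27 (t u : K) (w : GL chevF4.Idx K) : x 42 u * (x 27 t * w) = x 27 t * (x 42 u * w) :=
  sw_nil (by decide +kernel) t u w

theorem s_43_27 [CharP K 2] (t u : K) (w : GL chevF4.Idx K) : x 43 u * (x 27 t * w) = x 27 t * (x 43 u * (x 44 (t * u) * (x 45 (t ^ 2 * u) * w))) :=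
  sw_two21 (ε := 1) (δ := 1) (by decide +kernel) t u w

theorem s_44_27 [CharP K 2] (t u : K) (w : GL chevF4.Idx K) : x 44 u * (x 27 t * w) = x 27 t * (x 44 u * w) :=
  sw_zero (m := 45) (ε := 2) (by decide +kernel) t u w

theorem s_45_27 (t u : K) (w : GL chevF4.Idx K) : x 45 u * (x 27 t * w) = x 27 t * (x 45 u * w) :=
  sw_nil (by decide +kernel) t u w

theorem s_46_27 (t u : K) (w : GL chevF4.Idx K) : x 46 u * (x 27 t * w) = x 27 t * (x 46 u * w) :=
  sw_nil (by decide +kernel) t u w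

theorem s_47_27 (t u : K) (w : GL chevF4.Idx K) : x 47 u * (x 27 t * w) = x 27 t * (x 47 u * w) :=
  sw_nil (by decide +kernel) t u w

theorem s_29_28 [CharP K 2] (t u : K) (w : GL chevF4.Idx K) : x 29 u * (x 28 t * w) = x 28 t * (x 29 u * w) :=
  sw_zero (m := 32) (ε := 2) (by decide +kernel) t u w

theorem s_30_28 (t u : K) (w : GL chevF4.Idx K) : x 30 u * (x 28 t * w) = x 28 t * (x 30 u * w) :=
  sw_nil (by decide +kernel) t u w

theorem s_31_28 (t u : K) (w : GL chevF4.Idx K) : x 31 u * (x 28 t * w) = x 28 t * (x 31 u * w) :=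
  sw_nil (by decide +kernel) t u w

theorem s_32_28 (t u : K) (w : GL chevF4.Idx K) : x 32 u * (x 28 t * w) = x 28 t * (x 32 u * w) :=
  sw_nil (by decide +kernel) t u w

theorem s_33_28 [CharP K 2] (t u : K) (w : GL chevF4.Idx K) : x 33 u * (x 28 t * w) = x 28 t * (x 33 u * (x 35 (t * u) * w)) :=
  sw_one (ε := 1) (by decide +kernel) t u w

theorem s_34_28 [CharP K 2] (t u : K) (w : GL chevF4.Idx K) : x 34 u * (x 28 t * w) = x 28 t * (x 34 u * (x 37 (t * u) * w)) :=
  sw_one (ε := -1) (by decide +kernel) t u w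

theorem s_35_28 (t u : K) (w : GL chevF4.Idx K) : x 35 u * (x 28 t * w) = x 28 t * (x 35 u * w) :=
  sw_nil (by decide +kernel) t u w

theorem s_36_28 [CharP K 2] (t u : K) (w : GL chevF4.Idx K) : x 36 u * (x 28 t * w) = x 28 t * (x 36 u * (x 39 (t * u) * w)) :=
  sw_one (ε := 1) (by decide +kernel) t u w

theorem s_37_28 (t u : K) (w : GL chevF4.Idx K) : x 37 u * (x 28 t * w) = x 28 t * (x 37 u * w) :=
  sw_nil (by decide +kernel) t u w

theorem s_38_28 [CharP K 2] (t u : K) (w : GL chevF4.Idx K) : x 38 u * (x 28 t * w) = x 28 t * (x 38 u * (x 40 (t * u) * w)) :=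
  sw_one (ε := -1) (by decide +kernel) t u w

theorem s_39_28 (t u : K) (w : GL chevF4.Idx K) : x 39 u * (x 28 t * w) = x 28 t * (x 39 u * w) :=
  sw_nil (by decide +kernel) t u w

theorem s_40_28 (t u : K) (w : GL chevF4.Idx K) : x 40 u * (x 28 t * w) = x 28 t * (x 40 u * w) :=
  sw_nil (by decide +kernel) t u w

theorem s_41_28 (t u : K) (w : GL chevF4.Idx K) : x 41 u * (x 28 t * w) = x 28 t * (x 41 u * w) :=
  sw_nil (by decide +kernel) t u w

theorem s_42_28 [CharP K 2] (t u : K) (w : GL chevF4.Idx K) : x 42 u * (x 28 t * w) = x 28 t * (x 42 u * (x 44 (t * u) * (x 46 (t ^ 2 * u) * w))) :=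
  sw_two21 (ε := -1) (δ := -1) (by decide +kernel) t u w

theorem s_43_28 (t u : K) (w : GL chevF4.Idx K) : x 43 u * (x 28 t * w) = x 28 t * (x 43 u * w) :=
  sw_nil (by decide +kernel) t u w

theorem s_44_28 [CharP K 2] (t u : K) (w : GL chevF4.Idx K) : x 44 u * (x 28 t * w) = x 28 t * (x 44 u * w) :=
  sw_zero (m := 46) (ε := 2) (by decide +kernel) t u w

theorem s_45_28 (t u : K) (w : GL chevF4.Idx K) : x 45 u * (x 28 t * w) = x 28 t * (x 45 u * w) :=
  sw_nil (by decide +kernel) t u w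

theorem s_46_28 (t u : K) (w : GL chevF4.Idx K) : x 46 u * (x 28 t * w) = x 28 t * (x 46 u * w) :=
  sw_nil (by decide +kernel) t u w

theorem s_47_28 (t u : K) (w : GL chevF4.Idx K) : x 47 u * (x 28 t * w) = x 28 t * (x 47 u * w) :=
  sw_nil (by decide +kernel) t u w

theorem s_30_29 (t u : K) (w : GL chevF4.Idx K) : x 30 u * (x 29 t * w) = x 29 t * (x 30 u * w) :=
  sw_nil (by decide +kernel) t u w

theorem s_31_29 (t u : K) (w : GL chevF4.Idx K) : x 31 u * (x 29 t * w) = x 29 t * (x 31 u * w) :=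
  sw_nil (by decide +kernel) t u w

theorem s_32_29 (t u : K) (w : GL chevF4.Idx K) : x 32 u * (x 29 t * w) = x 29 t * (x 32 u * w) :=
  sw_nil (by decide +kernel) t u w

theorem s_33_29 [CharP K 2] (t u : K) (w : GL chevF4.Idx K) : x 33 u * (x 29 t * w) = x 29 t * (x 33 u * (x 36 (t * u) * w)) :=
  sw_one (ε := 1) (by decide +kernel) t u w

theorem s_34_29 [CharP K 2] (t u : K) (w : GL chevF4.Idx K) : x 34 u * (x 29 t * w) = x 29 t * (x 34 u * (x 38 (t * u) * w)) :=
  sw_one (ε := -1) (by decide +kernel) t u w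

theorem s_35_29 [CharP K 2] (t u : K) (w : GL chevF4.Idx K) : x 35 u * (x 29 t * w) = x 29 t * (x 35 u * (x 39 (t * u) * w)) :=
  sw_one (ε := -1) (by decide +kernel) t u w

theorem s_36_29 (t u : K) (w : GL chevF4.Idx K) : x 36 u * (x 29 t * w) = x 29 t * (x 36 u * w) :=
  sw_nil (by decide +kernel) t u w

theorem s_37_29 [CharP K 2] (t u : K) (w : GL chevF4.Idx K) : x 37 u * (x 29 t * w) = x 29 t * (x 37 u * (x 40 (t * u) * w)) :=
  sw_one (ε := 1) (by decide +kernel) t u w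

theorem s_38_29 (t u : K) (w : GL chevF4.Idx K) : x 38 u * (x 29 t * w) = x 29 t * (x 38 u * w) :=
  sw_nil (by decide +kernel) t u w

theorem s_39_29 (t u : K) (w : GL chevF4.Idx K) : x 39 u * (x 29 t * w) = x 29 t * (x 39 u * w) :=
  sw_nil (by decide +kernel) t u w

theorem s_40_29 (t u : K) (w : GL chevF4.Idx K) : x 40 u * (x 29 t * w) = x 29 t * (x 40 u * w) :=
  sw_nil (by decide +kernel) t u w

theorem s_41_29 [CharP K 2] (t u : K) (w : GL chevF4.Idx K) : x 41 u * (x 29 t * w) = x 29 t * (x 41 u * (x 44 (t * u) * (x 47 (t ^ 2 * u) * w))) :=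
  sw_two21 (ε := 1) (δ := 1) (by decide +kernel) t u w

theorem s_42_29 (t u : K) (w : GL chevF4.Idx K) : x 42 u * (x 29 t * w) = x 29 t * (x 42 u * w) :=
  sw_nil (by decide +kernel) t u w

theorem s_43_29 (t u : K) (w : GL chevF4.Idx K) : x 43 u * (x 29 t * w) = x 29 t * (x 43 u * w) :=
  sw_nil (by decide +kernel) t u w

theorem s_44_29 [CharP K 2] (t u : K) (w : GL chevF4.Idx K) : x 44 u * (x 29 t * w) = x 29 t * (x 44 u * w) :=
  sw_zero (m := 47) (ε := 2) (by decide +kernel) t u w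

theorem s_45_29 (t u : K) (w : GL chevF4.Idx K) : x 45 u * (x 29 t * w) = x 29 t * (x 45 u * w) :=
  sw_nil (by decide +kernel) t u w

theorem s_46_29 (t u : K) (w : GL chevF4.Idx K) : x 46 u * (x 29 t * w) = x 29 t * (x 46 u * w) :=
  sw_nil (by decide +kernel) t u w

theorem s_47_29 (t u : K) (w : GL chevF4.Idx K) : x 47 u * (x 29 t * w) = x 29 t * (x 47 u * w) :=
  sw_nil (by decide +kernel) t u w

theorem s_31_30 (t u : K) (w : GL chevF4.Idx K) : x 31 u * (x 30 t * w) = x 30 t * (x 31 u * w) :=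
  sw_nil (by decide +kernel) t u w

theorem s_32_30 (t u : K) (w : GL chevF4.Idx K) : x 32 u * (x 30 t * w) = x 30 t * (x 32 u * w) :=
  sw_nil (by decide +kernel) t u w

theorem s_33_30 [CharP K 2] (t u : K) (w : GL chevF4.Idx K) : x 33 u * (x 30 t * w) = x 30 t * (x 33 u * (x 37 (t * u) * (x 41 (t * u ^ 2) * w))) :=
  sw_two12 (ε := 1) (δ := -1) (by decide +kernel) t u w

theorem s_34_30 (t u : K) (w : GL chevF4.Idx K) : x 34 u * (x 30 t * w) = x 30 t * (x 34 u * w) :=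
  sw_nil (by decide +kernel) t u w

theorem s_35_30 (t u : K) (w : GL chevF4.Idx K) : x 35 u * (x 30 t * w) = x 30 t * (x 35 u * w) :=
  sw_nil (by decide +kernel) t u w

theorem s_36_30 [CharP K 2] (t u : K) (w : GL chevF4.Idx K) : x 36 u * (x 30 t * w) = x 30 t * (x 36 u * (x 40 (t * u) * (x 47 (t * u ^ 2) * w))) :=
  sw_two12 (ε := 1) (δ := -1) (by decide +kernel) t u w

theorem s_37_30 (t u : K) (w : GL chevF4.Idx K) : x 37 u * (x 30 t * w) = x 30 t * (x 37 u * w) :=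
  sw_nil (by decide +kernel) t u w

theorem s_38_30 (t u : K) (w : GL chevF4.Idx K) : x 38 u * (x 30 t * w) = x 30 t * (x 38 u * w) :=
  sw_nil (by decide +kernel) t u w

theorem s_39_30 (t u : K) (w : GL chevF4.Idx K) : x 39 u * (x 30 t * w) = x 30 t * (x 39 u * w) :=
  sw_nil (by decide +kernel) t u w

theorem s_40_30 (t u : K) (w : GL chevF4.Idx K) : x 40 u * (x 30 t * w) = x 30 t * (x 40 u * w) :=
  sw_nil (by decide +kernel) t u w

theorem s_41_30 (t u : K) (w : GL chevF4.Idx K) : x 41 u * (x 30 t * w) = x 30 t * (x 41 u * w) :=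
  sw_nil (by decide +kernel) t u w

theorem s_42_30 [CharP K 2] (t u : K) (w : GL chevF4.Idx K) : x 42 u * (x 30 t * w) = x 30 t * (x 42 u * (x 45 (t * u) * w)) :=
  sw_one (ε := -1) (by decide +kernel) t u w

theorem s_43_30 [CharP K 2] (t u : K) (w : GL chevF4.Idx K) : x 43 u * (x 30 t * w) = x 30 t * (x 43 u * (x 46 (t * u) * w)) :=
  sw_one (ε := -1) (by decide +kernel) t u w

theorem s_44_30 (t u : K) (w : GL chevF4.Idx K) : x 44 u * (x 30 t * w) = x 30 t * (x 44 u * w) :=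
  sw_nil (by decide +kernel) t u w

theorem s_45_30 (t u : K) (w : GL chevF4.Idx K) : x 45 u * (x 30 t * w) = x 30 t * (x 45 u * w) :=
  sw_nil (by decide +kernel) t u w

theorem s_46_30 (t u : K) (w : GL chevF4.Idx K) : x 46 u * (x 30 t * w) = x 30 t * (x 46 u * w) :=
  sw_nil (by decide +kernel) t u w

theorem s_47_30 (t u : K) (w : GL chevF4.Idx K) : x 47 u * (x 30 t * w) = x 30 t * (x 47 u * w) :=
  sw_nil (by decide +kernel) t u w

theorem s_32_31 (t u : K) (w : GL chevF4.Idx K) : x 32 u * (x 31 t * w) = x 31 t * (x 32 u * w) :=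
  sw_nil (by decide +kernel) t u w

theorem s_33_31 [CharP K 2] (t u : K) (w : GL chevF4.Idx K) : x 33 u * (x 31 t * w) = x 31 t * (x 33 u * (x 38 (t * u) * (x 42 (t * u ^ 2) * w))) :=
  sw_two12 (ε := 1) (δ := -1) (by decide +kernel) t u w

theorem s_34_31 (t u : K) (w : GL chevF4.Idx K) : x 34 u * (x 31 t * w) = x 31 t * (x 34 u * w) :=
  sw_nil (by decide +kernel) t u w

theorem s_35_31 [CharP K 2] (t u : K) (w : GL chevF4.Idx K) : x 35 u * (x 31 t * w) = x 31 t * (x 35 u * (x 40 (t * u) * (x 46 (t * u ^ 2) * w))) :=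
  sw_two12 (ε := -1) (δ := 1) (by decide +kernel) t u w

theorem s_36_31 (t u : K) (w : GL chevF4.Idx K) : x 36 u * (x 31 t * w) = x 31 t * (x 36 u * w) :=
  sw_nil (by decide +kernel) t u w

theorem s_37_31 (t u : K) (w : GL chevF4.Idx K) : x 37 u * (x 31 t * w) = x 31 t * (x 37 u * w) :=
  sw_nil (by decide +kernel) t u w

theorem s_38_31 (t u : K) (w : GL chevF4.Idx K) : x 38 u * (x 31 t * w) = x 31 t * (x 38 u * w) :=
  sw_nil (by decide +kernel) t u w

theorem s_39_31 (t u : K) (w : GL chevF4.Idx K) : x 39 u * (x 31 t * w) = x 31 t * (x 39 u * w) :=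
  sw_nil (by decide +kernel) t u w

theorem s_40_31 (t u : K) (w : GL chevF4.Idx K) : x 40 u * (x 31 t * w) = x 31 t * (x 40 u * w) :=
  sw_nil (by decide +kernel) t u w

theorem s_41_31 [CharP K 2] (t u : K) (w : GL chevF4.Idx K) : x 41 u * (x 31 t * w) = x 31 t * (x 41 u * (x 45 (t * u) * w)) :=
  sw_one (ε := 1) (by decide +kernel) t u w

theorem s_42_31 (t u : K) (w : GL chevF4.Idx K) : x 42 u * (x 31 t * w) = x 31 t * (x 42 u * w) :=
  sw_nil (by decide +kernel) t u w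

theorem s_43_31 [CharP K 2] (t u : K) (w : GL chevF4.Idx K) : x 43 u * (x 31 t * w) = x 31 t * (x 43 u * (x 47 (t * u) * w)) :=
  sw_one (ε := -1) (by decide +kernel) t u w

theorem s_44_31 (t u : K) (w : GL chevF4.Idx K) : x 44 u * (x 31 t * w) = x 31 t * (x 44 u * w) :=
  sw_nil (by decide +kernel) t u w

theorem s_45_31 (t u : K) (w : GL chevF4.Idx K) : x 45 u * (x 31 t * w) = x 31 t * (x 45 u * w) :=
  sw_nil (by decide +kernel) t u w

theorem s_46_31 (t u : K) (w : GL chevF4.Idx K) : x 46 u * (x 31 t * w) = x 31 t * (x 46 u * w) :=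
  sw_nil (by decide +kernel) t u w

theorem s_47_31 (t u : K) (w : GL chevF4.Idx K) : x 47 u * (x 31 t * w) = x 31 t * (x 47 u * w) :=
  sw_nil (by decide +kernel) t u w

theorem s_33_32 [CharP K 2] (t u : K) (w : GL chevF4.Idx K) : x 33 u * (x 32 t * w) = x 32 t * (x 33 u * (x 39 (t * u) * (x 43 (t * u ^ 2) * w))) :=
  sw_two12 (ε := 1) (δ := -1) (by decide +kernel) t u w

theorem s_34_32 [CharP K 2] (t u : K) (w : GL chevF4.Idx K) : x 34 u * (x 32 t * w) = x 32 t * (x 34 u * (x 40 (t * u) * (x 45 (t * u ^ 2) * w))) :=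
  sw_two12 (ε := 1) (δ := -1) (by decide +kernel) t u w

theorem s_35_32 (t u : K) (w : GL chevF4.Idx K) : x 35 u * (x 32 t * w) = x 32 t * (x 35 u * w) :=
  sw_nil (by decide +kernel) t u w

theorem s_36_32 (t u : K) (w : GL chevF4.Idx K) : x 36 u * (x 32 t * w) = x 32 t * (x 36 u * w) :=
  sw_nil (by decide +kernel) t u w

theorem s_37_32 (t u : K) (w : GL chevF4.Idx K) : x 37 u * (x 32 t * w) = x 32 t * (x 37 u * w) :=
  sw_nil (by decide +kernel) t u w

theorem s_38_32 (t u : K) (w : GL chevF4.Idx K) : x 38 u * (x 32 t * w) = x 32 t * (x 38 u * w) :=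
  sw_nil (by decide +kernel) t u w

theorem s_39_32 (t u : K) (w : GL chevF4.Idx K) : x 39 u * (x 32 t * w) = x 32 t * (x 39 u * w) :=
  sw_nil (by decide +kernel) t u w

theorem s_40_32 (t u : K) (w : GL chevF4.Idx K) : x 40 u * (x 32 t * w) = x 32 t * (x 40 u * w) :=
  sw_nil (by decide +kernel) t u w

theorem s_41_32 [CharP K 2] (t u : K) (w : GL chevF4.Idx K) : x 41 u * (x 32 t * w) = x 32 t * (x 41 u * (x 46 (t * u) * w)) :=
  sw_one (ε := 1) (by decide +kernel) t u w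

theorem s_42_32 [CharP K 2] (t u : K) (w : GL chevF4.Idx K) : x 42 u * (x 32 t * w) = x 32 t * (x 42 u * (x 47 (t * u) * w)) :=
  sw_one (ε := 1) (by decide +kernel) t u w

theorem s_43_32 (t u : K) (w : GL chevF4.Idx K) : x 43 u * (x 32 t * w) = x 32 t * (x 43 u * w) :=
  sw_nil (by decide +kernel) t u w

theorem s_44_32 (t u : K) (w : GL chevF4.Idx K) : x 44 u * (x 32 t * w) = x 32 t * (x 44 u * w) :=
  sw_nil (by decide +kernel) t u w

theorem s_45_32 (t u : K) (w : GL chevF4.Idx K) : x 45 u * (x 32 t * w) = x 32 t * (x 45 u * w) :=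
  sw_nil (by decide +kernel) t u w

theorem s_46_32 (t u : K) (w : GL chevF4.Idx K) : x 46 u * (x 32 t * w) = x 32 t * (x 46 u * w) :=
  sw_nil (by decide +kernel) t u w

theorem s_47_32 (t u : K) (w : GL chevF4.Idx K) : x 47 u * (x 32 t * w) = x 32 t * (x 47 u * w) :=
  sw_nil (by decide +kernel) t u w

theorem s_34_33 (t u : K) (w : GL chevF4.Idx K) : x 34 u * (x 33 t * w) = x 33 t * (x 34 u * w) :=
  sw_nil (by decide +kernel) t u w

theorem s_35_33 (t u : K) (w : GL chevF4.Idx K) : x 35 u * (x 33 t * w) = x 33 t * (x 35 u * w) :=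
  sw_nil (by decide +kernel) t u w

theorem s_36_33 (t u : K) (w : GL chevF4.Idx K) : x 36 u * (x 33 t * w) = x 33 t * (x 36 u * w) :=
  sw_nil (by decide +kernel) t u w

theorem s_37_33 [CharP K 2] (t u : K) (w : GL chevF4.Idx K) : x 37 u * (x 33 t * w) = x 33 t * (x 37 u * w) :=
  sw_zero (m := 41) (ε := 2) (by decide +kernel) t u w

theorem s_38_33 [CharP K 2] (t u : K) (w : GL chevF4.Idx K) : x 38 u * (x 33 t * w) = x 33 t * (x 38 u * w) :=
  sw_zero (m := 42) (ε := 2) (by decide +kernel) t u w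

theorem s_39_33 [CharP K 2] (t u : K) (w : GL chevF4.Idx K) : x 39 u * (x 33 t * w) = x 33 t * (x 39 u * w) :=
  sw_zero (m := 43) (ε := 2) (by decide +kernel) t u w

theorem s_40_33 [CharP K 2] (t u : K) (w : GL chevF4.Idx K) : x 40 u * (x 33 t * w) = x 33 t * (x 40 u * (x 44 (t * u) * w)) :=
  sw_one (ε := 1) (by decide +kernel) t u w

theorem s_41_33 (t u : K) (w : GL chevF4.Idx K) : x 41 u * (x 33 t * w) = x 33 t * (x 41 u * w) :=
  sw_nil (by decide +kernel) t u w

theorem s_42_33 (t u : K) (w : GL chevF4.Idx K) : x 42 u * (x 33 t * w) = x 33 t * (x 42 u * w) :=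
  sw_nil (by decide +kernel) t u w

theorem s_43_33 (t u : K) (w : GL chevF4.Idx K) : x 43 u * (x 33 t * w) = x 33 t * (x 43 u * w) :=
  sw_nil (by decide +kernel) t u w

theorem s_44_33 (t u : K) (w : GL chevF4.Idx K) : x 44 u * (x 33 t * w) = x 33 t * (x 44 u * w) :=
  sw_nil (by decide +kernel) t u w

theorem s_45_33 (t u : K) (w : GL chevF4.Idx K) : x 45 u * (x 33 t * w) = x 33 t * (x 45 u * w) :=
  sw_nil (by decide +kernel) t u w

theorem s_46_33 (t u : K) (w : GL chevF4.Idx K) : x 46 u * (x 33 t * w) = x 33 t * (x 46 u * w) :=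
  sw_nil (by decide +kernel) t u w

theorem s_47_33 (t u : K) (w : GL chevF4.Idx K) : x 47 u * (x 33 t * w) = x 33 t * (x 47 u * w) :=
  sw_nil (by decide +kernel) t u w

theorem s_35_34 [CharP K 2] (t u : K) (w : GL chevF4.Idx K) : x 35 u * (x 34 t * w) = x 34 t * (x 35 u * w) :=
  sw_zero (m := 41) (ε := -2) (by decide +kernel) t u w

theorem s_36_34 [CharP K 2] (t u : K) (w : GL chevF4.Idx K) : x 36 u * (x 34 t * w) = x 34 t * (x 36 u * w) :=
  sw_zero (m := 42) (ε := -2) (by decide +kernel) t u w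

theorem s_37_34 (t u : K) (w : GL chevF4.Idx K) : x 37 u * (x 34 t * w) = x 34 t * (x 37 u * w) :=
  sw_nil (by decide +kernel) t u w

theorem s_38_34 (t u : K) (w : GL chevF4.Idx K) : x 38 u * (x 34 t * w) = x 34 t * (x 38 u * w) :=
  sw_nil (by decide +kernel) t u w

theorem s_39_34 [CharP K 2] (t u : K) (w : GL chevF4.Idx K) : x 39 u * (x 34 t * w) = x 34 t * (x 39 u * (x 44 (t * u) * w)) :=
  sw_one (ε := 1) (by decide +kernel) t u w

theorem s_40_34 [CharP K 2] (t u : K) (w : GL chevF4.Idx K) : x 40 u * (x 34 t * w) = x 34 t * (x 40 u * w) :=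
  sw_zero (m := 45) (ε := 2) (by decide +kernel) t u w

theorem s_41_34 (t u : K) (w : GL chevF4.Idx K) : x 41 u * (x 34 t * w) = x 34 t * (x 41 u * w) :=
  sw_nil (by decide +kernel) t u w

theorem s_42_34 (t u : K) (w : GL chevF4.Idx K) : x 42 u * (x 34 t * w) = x 34 t * (x 42 u * w) :=
  sw_nil (by decide +kernel) t u w

theorem s_43_34 (t u : K) (w : GL chevF4.Idx K) : x 43 u * (x 34 t * w) = x 34 t * (x 43 u * w) :=
  sw_nil (by decide +kernel) t u w

theorem s_44_34 (t u : K) (w : GL chevF4.Idx K) : x 44 u * (x 34 t * w) = x 34 t * (x 44 u * w) :=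
  sw_nil (by decide +kernel) t u w

theorem s_45_34 (t u : K) (w : GL chevF4.Idx K) : x 45 u * (x 34 t * w) = x 34 t * (x 45 u * w) :=
  sw_nil (by decide +kernel) t u w

theorem s_46_34 (t u : K) (w : GL chevF4.Idx K) : x 46 u * (x 34 t * w) = x 34 t * (x 46 u * w) :=
  sw_nil (by decide +kernel) t u w

theorem s_47_34 (t u : K) (w : GL chevF4.Idx K) : x 47 u * (x 34 t * w) = x 34 t * (x 47 u * w) :=
  sw_nil (by decide +kernel) t u w

theorem s_36_35 [CharP K 2] (t u : K) (w : GL chevF4.Idx K) : x 36 u * (x 35 t * w) = x 35 t * (x 36 u * w) :=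
  sw_zero (m := 43) (ε := -2) (by decide +kernel) t u w

theorem s_37_35 (t u : K) (w : GL chevF4.Idx K) : x 37 u * (x 35 t * w) = x 35 t * (x 37 u * w) :=
  sw_nil (by decide +kernel) t u w

theorem s_38_35 [CharP K 2] (t u : K) (w : GL chevF4.Idx K) : x 38 u * (x 35 t * w) = x 35 t * (x 38 u * (x 44 (t * u) * w)) :=
  sw_one (ε := -1) (by decide +kernel) t u w

theorem s_39_35 (t u : K) (w : GL chevF4.Idx K) : x 39 u * (x 35 t * w) = x 35 t * (x 39 u * w) :=
  sw_nil (by decide +kernel) t u w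

theorem s_40_35 [CharP K 2] (t u : K) (w : GL chevF4.Idx K) : x 40 u * (x 35 t * w) = x 35 t * (x 40 u * w) :=
  sw_zero (m := 46) (ε := 2) (by decide +kernel) t u w

theorem s_41_35 (t u : K) (w : GL chevF4.Idx K) : x 41 u * (x 35 t * w) = x 35 t * (x 41 u * w) :=
  sw_nil (by decide +kernel) t u w

theorem s_42_35 (t u : K) (w : GL chevF4.Idx K) : x 42 u * (x 35 t * w) = x 35 t * (x 42 u * w) :=
  sw_nil (by decide +kernel) t u w

theorem s_43_35 (t u : K) (w : GL chevF4.Idx K) : x 43 u * (x 35 t * w) = x 35 t * (x 43 u * w) :=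
  sw_nil (by decide +kernel) t u w

theorem s_44_35 (t u : K) (w : GL chevF4.Idx K) : x 44 u * (x 35 t * w) = x 35 t * (x 44 u * w) :=
  sw_nil (by decide +kernel) t u w

theorem s_45_35 (t u : K) (w : GL chevF4.Idx K) : x 45 u * (x 35 t * w) = x 35 t * (x 45 u * w) :=
  sw_nil (by decide +kernel) t u w

theorem s_46_35 (t u : K) (w : GL chevF4.Idx K) : x 46 u * (x 35 t * w) = x 35 t * (x 46 u * w) :=
  sw_nil (by decide +kernel) t u w

theorem s_47_35 (t u : K) (w : GL chevF4.Idx K) : x 47 u * (x 35 t * w) = x 35 t * (x 47 u * w) :=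
  sw_nil (by decide +kernel) t u w

theorem s_37_36 [CharP K 2] (t u : K) (w : GL chevF4.Idx K) : x 37 u * (x 36 t * w) = x 36 t * (x 37 u * (x 44 (t * u) * w)) :=
  sw_one (ε := 1) (by decide +kernel) t u w

theorem s_38_36 (t u : K) (w : GL chevF4.Idx K) : x 38 u * (x 36 t * w) = x 36 t * (x 38 u * w) :=
  sw_nil (by decide +kernel) t u w

theorem s_39_36 (t u : K) (w : GL chevF4.Idx K) : x 39 u * (x 36 t * w) = x 36 t * (x 39 u * w) :=
  sw_nil (by decide +kernel) t u w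

theorem s_40_36 [CharP K 2] (t u : K) (w : GL chevF4.Idx K) : x 40 u * (x 36 t * w) = x 36 t * (x 40 u * w) :=
  sw_zero (m := 47) (ε := 2) (by decide +kernel) t u w

theorem s_41_36 (t u : K) (w : GL chevF4.Idx K) : x 41 u * (x 36 t * w) = x 36 t * (x 41 u * w) :=
  sw_nil (by decide +kernel) t u w

theorem s_42_36 (t u : K) (w : GL chevF4.Idx K) : x 42 u * (x 36 t * w) = x 36 t * (x 42 u * w) :=
  sw_nil (by decide +kernel) t u w

theorem s_43_36 (t u : K) (w : GL chevF4.Idx K) : x 43 u * (x 36 t * w) = x 36 t * (x 43 u * w) :=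
  sw_nil (by decide +kernel) t u w

theorem s_44_36 (t u : K) (w : GL chevF4.Idx K) : x 44 u * (x 36 t * w) = x 36 t * (x 44 u * w) :=
  sw_nil (by decide +kernel) t u w

theorem s_45_36 (t u : K) (w : GL chevF4.Idx K) : x 45 u * (x 36 t * w) = x 36 t * (x 45 u * w) :=
  sw_nil (by decide +kernel) t u w

theorem s_46_36 (t u : K) (w : GL chevF4.Idx K) : x 46 u * (x 36 t * w) = x 36 t * (x 46 u * w) :=
  sw_nil (by decide +kernel) t u w

theorem s_47_36 (t u : K) (w : GL chevF4.Idx K) : x 47 u * (x 36 t * w) = x 36 t * (x 47 u * w) :=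
  sw_nil (by decide +kernel) t u w

theorem s_38_37 [CharP K 2] (t u : K) (w : GL chevF4.Idx K) : x 38 u * (x 37 t * w) = x 37 t * (x 38 u * w) :=
  sw_zero (m := 45) (ε := -2) (by decide +kernel) t u w

theorem s_39_37 [CharP K 2] (t u : K) (w : GL chevF4.Idx K) : x 39 u * (x 37 t * w) = x 37 t * (x 39 u * w) :=
  sw_zero (m := 46) (ε := -2) (by decide +kernel) t u w

theorem s_40_37 (t u : K) (w : GL chevF4.Idx K) : x 40 u * (x 37 t * w) = x 37 t * (x 40 u * w) :=
  sw_nil (by decide +kernel) t u w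

theorem s_41_37 (t u : K) (w : GL chevF4.Idx K) : x 41 u * (x 37 t * w) = x 37 t * (x 41 u * w) :=
  sw_nil (by decide +kernel) t u w

theorem s_42_37 (t u : K) (w : GL chevF4.Idx K) : x 42 u * (x 37 t * w) = x 37 t * (x 42 u * w) :=
  sw_nil (by decide +kernel) t u w

theorem s_43_37 (t u : K) (w : GL chevF4.Idx K) : x 43 u * (x 37 t * w) = x 37 t * (x 43 u * w) :=
  sw_nil (by decide +kernel) t u w

theorem s_44_37 (t u : K) (w : GL chevF4.Idx K) : x 44 u * (x 37 t * w) = x 37 t * (x 44 u * w) :=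
  sw_nil (by decide +kernel) t u w

theorem s_45_37 (t u : K) (w : GL chevF4.Idx K) : x 45 u * (x 37 t * w) = x 37 t * (x 45 u * w) :=
  sw_nil (by decide +kernel) t u w

theorem s_46_37 (t u : K) (w : GL chevF4.Idx K) : x 46 u * (x 37 t * w) = x 37 t * (x 46 u * w) :=
  sw_nil (by decide +kernel) t u w

theorem s_47_37 (t u : K) (w : GL chevF4.Idx K) : x 47 u * (x 37 t * w) = x 37 t * (x 47 u * w) :=
  sw_nil (by decide +kernel) t u w

theorem s_39_38 [CharP K 2] (t u : K) (w : GL chevF4.Idx K) : x 39 u * (x 38 t * w) = x 38 t * (x 39 u * w) :=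
  sw_zero (m := 47) (ε := -2) (by decide +kernel) t u w

theorem s_40_38 (t u : K) (w : GL chevF4.Idx K) : x 40 u * (x 38 t * w) = x 38 t * (x 40 u * w) :=
  sw_nil (by decide +kernel) t u w

theorem s_41_38 (t u : K) (w : GL chevF4.Idx K) : x 41 u * (x 38 t * w) = x 38 t * (x 41 u * w) :=
  sw_nil (by decide +kernel) t u w

theorem s_42_38 (t u : K) (w : GL chevF4.Idx K) : x 42 u * (x 38 t * w) = x 38 t * (x 42 u * w) :=
  sw_nil (by decide +kernel) t u w

theorem s_43_38 (t u : K) (w : GL chevF4.Idx K) : x 43 u * (x 38 t * w) = x 38 t * (x 43 u * w) :=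
  sw_nil (by decide +kernel) t u w

theorem s_44_38 (t u : K) (w : GL chevF4.Idx K) : x 44 u * (x 38 t * w) = x 38 t * (x 44 u * w) :=
  sw_nil (by decide +kernel) t u w

theorem s_45_38 (t u : K) (w : GL chevF4.Idx K) : x 45 u * (x 38 t * w) = x 38 t * (x 45 u * w) :=
  sw_nil (by decide +kernel) t u w

theorem s_46_38 (t u : K) (w : GL chevF4.Idx K) : x 46 u * (x 38 t * w) = x 38 t * (x 46 u * w) :=
  sw_nil (by decide +kernel) t u w

theorem s_47_38 (t u : K) (w : GL chevF4.Idx K) : x 47 u * (x 38 t * w) = x 38 t * (x 47 u * w) :=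
  sw_nil (by decide +kernel) t u w

theorem s_40_39 (t u : K) (w : GL chevF4.Idx K) : x 40 u * (x 39 t * w) = x 39 t * (x 40 u * w) :=
  sw_nil (by decide +kernel) t u w

theorem s_41_39 (t u : K) (w : GL chevF4.Idx K) : x 41 u * (x 39 t * w) = x 39 t * (x 41 u * w) :=
  sw_nil (by decide +kernel) t u w

theorem s_42_39 (t u : K) (w : GL chevF4.Idx K) : x 42 u * (x 39 t * w) = x 39 t * (x 42 u * w) :=
  sw_nil (by decide +kernel) t u w

theorem s_43_39 (t u : K) (w : GL chevF4.Idx K) : x 43 u * (x 39 t * w) = x 39 t * (x 43 u * w) :=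
  sw_nil (by decide +kernel) t u w

theorem s_44_39 (t u : K) (w : GL chevF4.Idx K) : x 44 u * (x 39 t * w) = x 39 t * (x 44 u * w) :=
  sw_nil (by decide +kernel) t u w

theorem s_45_39 (t u : K) (w : GL chevF4.Idx K) : x 45 u * (x 39 t * w) = x 39 t * (x 45 u * w) :=
  sw_nil (by decide +kernel) t u w

theorem s_46_39 (t u : K) (w : GL chevF4.Idx K) : x 46 u * (x 39 t * w) = x 39 t * (x 46 u * w) :=
  sw_nil (by decide +kernel) t u w

theorem s_47_39 (t u : K) (w : GL chevF4.Idx K) : x 47 u * (x 39 t * w) = x 39 t * (x 47 u * w) :=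
  sw_nil (by decide +kernel) t u w

theorem s_41_40 (t u : K) (w : GL chevF4.Idx K) : x 41 u * (x 40 t * w) = x 40 t * (x 41 u * w) :=
  sw_nil (by decide +kernel) t u w

theorem s_42_40 (t u : K) (w : GL chevF4.Idx K) : x 42 u * (x 40 t * w) = x 40 t * (x 42 u * w) :=
  sw_nil (by decide +kernel) t u w

theorem s_43_40 (t u : K) (w : GL chevF4.Idx K) : x 43 u * (x 40 t * w) = x 40 t * (x 43 u * w) :=
  sw_nil (by decide +kernel) t u w

theorem s_44_40 (t u : K) (w : GL chevF4.Idx K) : x 44 u * (x 40 t * w) = x 40 t * (x 44 u * w) :=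
  sw_nil (by decide +kernel) t u w

theorem s_45_40 (t u : K) (w : GL chevF4.Idx K) : x 45 u * (x 40 t * w) = x 40 t * (x 45 u * w) :=
  sw_nil (by decide +kernel) t u w

theorem s_46_40 (t u : K) (w : GL chevF4.Idx K) : x 46 u * (x 40 t * w) = x 40 t * (x 46 u * w) :=
  sw_nil (by decide +kernel) t u w

theorem s_47_40 (t u : K) (w : GL chevF4.Idx K) : x 47 u * (x 40 t * w) = x 40 t * (x 47 u * w) :=
  sw_nil (by decide +kernel) t u w

theorem s_42_41 (t u : K) (w : GL chevF4.Idx K) : x 42 u * (x 41 t * w) = x 41 t * (x 42 u * w) :=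
  sw_nil (by decide +kernel) t u w

theorem s_43_41 (t u : K) (w : GL chevF4.Idx K) : x 43 u * (x 41 t * w) = x 41 t * (x 43 u * w) :=
  sw_nil (by decide +kernel) t u w

theorem s_44_41 (t u : K) (w : GL chevF4.Idx K) : x 44 u * (x 41 t * w) = x 41 t * (x 44 u * w) :=
  sw_nil (by decide +kernel) t u w

theorem s_45_41 (t u : K) (w : GL chevF4.Idx K) : x 45 u * (x 41 t * w) = x 41 t * (x 45 u * w) :=
  sw_nil (by decide +kernel) t u w

theorem s_46_41 (t u : K) (w : GL chevF4.Idx K) : x 46 u * (x 41 t * w) = x 41 t * (x 46 u * w) :=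
  sw_nil (by decide +kernel) t u w

theorem s_47_41 (t u : K) (w : GL chevF4.Idx K) : x 47 u * (x 41 t * w) = x 41 t * (x 47 u * w) :=
  sw_nil (by decide +kernel) t u w

theorem s_43_42 (t u : K) (w : GL chevF4.Idx K) : x 43 u * (x 42 t * w) = x 42 t * (x 43 u * w) :=
  sw_nil (by decide +kernel) t u w

theorem s_44_42 (t u : K) (w : GL chevF4.Idx K) : x 44 u * (x 42 t * w) = x 42 t * (x 44 u * w) :=
  sw_nil (by decide +kernel) t u w

theorem s_45_42 (t u : K) (w : GL chevF4.Idx K) : x 45 u * (x 42 t * w) = x 42 t * (x 45 u * w) :=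
  sw_nil (by decide +kernel) t u w

theorem s_46_42 (t u : K) (w : GL chevF4.Idx K) : x 46 u * (x 42 t * w) = x 42 t * (x 46 u * w) :=
  sw_nil (by decide +kernel) t u w

theorem s_47_42 (t u : K) (w : GL chevF4.Idx K) : x 47 u * (x 42 t * w) = x 42 t * (x 47 u * w) :=
  sw_nil (by decide +kernel) t u w

theorem s_44_43 (t u : K) (w : GL chevF4.Idx K) : x 44 u * (x 43 t * w) = x 43 t * (x 44 u * w) :=
  sw_nil (by decide +kernel) t u w

theorem s_45_43 (t u : K) (w : GL chevF4.Idx K) : x 45 u * (x 43 t * w) = x 43 t * (x 45 u * w) :=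
  sw_nil (by decide +kernel) t u w

theorem s_46_43 (t u : K) (w : GL chevF4.Idx K) : x 46 u * (x 43 t * w) = x 43 t * (x 46 u * w) :=
  sw_nil (by decide +kernel) t u w

theorem s_47_43 (t u : K) (w : GL chevF4.Idx K) : x 47 u * (x 43 t * w) = x 43 t * (x 47 u * w) :=
  sw_nil (by decide +kernel) t u w

theorem s_45_44 (t u : K) (w : GL chevF4.Idx K) : x 45 u * (x 44 t * w) = x 44 t * (x 45 u * w) :=
  sw_nil (by decide +kernel) t u w

theorem s_46_44 (t u : K) (w : GL chevF4.Idx K) : x 46 u * (x 44 t * w) = x 44 t * (x 46 u * w) :=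
  sw_nil (by decide +kernel) t u w

theorem s_47_44 (t u : K) (w : GL chevF4.Idx K) : x 47 u * (x 44 t * w) = x 44 t * (x 47 u * w) :=
  sw_nil (by decide +kernel) t u w

theorem s_46_45 (t u : K) (w : GL chevF4.Idx K) : x 46 u * (x 45 t * w) = x 45 t * (x 46 u * w) :=
  sw_nil (by decide +kernel) t u w

theorem s_47_45 (t u : K) (w : GL chevF4.Idx K) : x 47 u * (x 45 t * w) = x 45 t * (x 47 u * w) :=
  sw_nil (by decide +kernel) t u w

theorem s_47_46 (t u : K) (w : GL chevF4.Idx K) : x 47 u * (x 46 t * w) = x 46 t * (x 47 u * w) :=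
  sw_nil (by decide +kernel) t u w

theorem mg_24 (a b : K) (w : GL chevF4.Idx K) : x 24 a * (x 24 b * w) = x 24 (a + b) * w := mg 24 a b w

theorem mg_25 (a b : K) (w : GL chevF4.Idx K) : x 25 a * (x 25 b * w) = x 25 (a + b) * w := mg 25 a b w

theorem mg_26 (a b : K) (w : GL chevF4.Idx K) : x 26 a * (x 26 b * w) = x 26 (a + b) * w := mg 26 a b w

theorem mg_27 (a b : K) (w : GL chevF4.Idx K) : x 27 a * (x 27 b * w) = x 27 (a + b) * w := mg 27 a b w

theorem mg_28 (a b : K) (w : GL chevF4.Idx K) : x 28 a * (x 28 b * w) = x 28 (a + b) * w := mg 28 a b w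

theorem mg_29 (a b : K) (w : GL chevF4.Idx K) : x 29 a * (x 29 b * w) = x 29 (a + b) * w := mg 29 a b w

theorem mg_30 (a b : K) (w : GL chevF4.Idx K) : x 30 a * (x 30 b * w) = x 30 (a + b) * w := mg 30 a b w

theorem mg_31 (a b : K) (w : GL chevF4.Idx K) : x 31 a * (x 31 b * w) = x 31 (a + b) * w := mg 31 a b w

theorem mg_32 (a b : K) (w : GL chevF4.Idx K) : x 32 a * (x 32 b * w) = x 32 (a + b) * w := mg 32 a b w

theorem mg_33 (a b : K) (w : GL chevF4.Idx K) : x 33 a * (x 33 b * w) = x 33 (a + b) * w := mg 33 a b w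

theorem mg_34 (a b : K) (w : GL chevF4.Idx K) : x 34 a * (x 34 b * w) = x 34 (a + b) * w := mg 34 a b w

theorem mg_35 (a b : K) (w : GL chevF4.Idx K) : x 35 a * (x 35 b * w) = x 35 (a + b) * w := mg 35 a b w

theorem mg_36 (a b : K) (w : GL chevF4.Idx K) : x 36 a * (x 36 b * w) = x 36 (a + b) * w := mg 36 a b w

theorem mg_37 (a b : K) (w : GL chevF4.Idx K) : x 37 a * (x 37 b * w) = x 37 (a + b) * w := mg 37 a b w

theorem mg_38 (a b : K) (w : GL chevF4.Idx K) : x 38 a * (x 38 b * w) = x 38 (a + b) * w := mg 38 a b w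

theorem mg_39 (a b : K) (w : GL chevF4.Idx K) : x 39 a * (x 39 b * w) = x 39 (a + b) * w := mg 39 a b w

theorem mg_40 (a b : K) (w : GL chevF4.Idx K) : x 40 a * (x 40 b * w) = x 40 (a + b) * w := mg 40 a b w

theorem mg_41 (a b : K) (w : GL chevF4.Idx K) : x 41 a * (x 41 b * w) = x 41 (a + b) * w := mg 41 a b w

theorem mg_42 (a b : K) (w : GL chevF4.Idx K) : x 42 a * (x 42 b * w) = x 42 (a + b) * w := mg 42 a b w

theorem mg_43 (a b : K) (w : GL chevF4.Idx K) : x 43 a * (x 43 b * w) = x 43 (a + b) * w := mg 43 a b w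

theorem mg_44 (a b : K) (w : GL chevF4.Idx K) : x 44 a * (x 44 b * w) = x 44 (a + b) * w := mg 44 a b w

theorem mg_45 (a b : K) (w : GL chevF4.Idx K) : x 45 a * (x 45 b * w) = x 45 (a + b) * w := mg 45 a b w

theorem mg_46 (a b : K) (w : GL chevF4.Idx K) : x 46 a * (x 46 b * w) = x 46 (a + b) * w := mg 46 a b w

theorem mg_47 (a b : K) (w : GL chevF4.Idx K) : x 47 a * (x 47 b * w) = x 47 (a + b) * w := mg 47 a b w

/-- The ordered product of the positive root elements. -/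
noncomputable def W (a24 a25 a26 a27 a28 a29 a30 a31 a32 a33 a34 a35 a36 a37 a38 a39 a40 a41 a42 a43 a44 a45 a46 a47 : K) : GL chevF4.Idx K :=
  x 24 a24 * (x 25 a25 * (x 26 a26 * (x 27 a27 * (x 28 a28 * (x 29 a29 * (x 30 a30 * (x 31 a31 * (x 32 a32 * (x 33 a33 * (x 34 a34 * (x 35 a35 * (x 36 a36 * (x 37 a37 * (x 38 a38 * (x 39 a39 * (x 40 a40 * (x 41 a41 * (x 42 a42 * (x 43 a43 * (x 44 a44 * (x 45 a45 * (x 46 a46 * (x 47 a47 * 1)))))))))))))))))))))))

end Swap

end Cfsg.Agent.Lib.F4Inv50
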