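import Cfsg.Agent.Lib.F4Inv50A

set_option autoImplicit false
set_option linter.unusedSectionVars false
set_option linter.unusedVariables false
set_option linter.unusedSimpArgs false

namespace Cfsg.Agent.Lib.F4Inv50

open Cfsg Cfsg.Lie Cfsg.Agent.Lib.Chev Cfsg.Agent.Lib.Chev.TwF4

section Law

variable {K : Type*} [Field K] [CharP K 2]

set_option maxHeartbeats 4000000 in
theorem W_mul (a24 a25 a26 a27 a28 a29 a30 a31 a32 a33 a34 a35 a36 a37 a38 a39 a40 a41 a42 a43 a44 a45 a46 a47 b24 b25 b26 b27 b28 b29 b30 b31 b32 b33 b34 b35 b36 b37 b38 b39 b40 b41 b42 b43 b44 b45 b46 b47 : K) : W a24 a25 a26 a27 a28 a29 a30 a31 a32 a33 a34 a35 a36 a37 a38 a39 a40 a41 a42 a43 a44 a45 a46 a47 * W b24 b25 b26 b27 b28 b29 b30 b31 b32 b33 b34 b35 b36 b37 b38 b39 b40 b41 b42 b43 b44 b45 b46 b47 = W (a24 + b24) (a25 + b25) (a26 + b26 + a25*b24) (a27 + b27) (a28 + b28 + a27*b25) (a29 + b29 + a27*b26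 + a28*b24) (a30 + b30 + a27^2*b25) (a31 + b31 + a30*b24 + a27^2*b26) (a32 + b32 + a30*b26 + a31*b25 + a28^2*b24 + a30*b24*b25 + a27^2*b25*b26) (a33 + b33) (a34 + b34 + a33*b27) (a35 + b35 + a33*b28 + a34*b25) (a36 + b36 + a33*b29 + a34*b26 + a35*b24) (a37 + b37 + a33*b30 + a34*b28 + a35*b27 + a33*b27*b28 + a34*b25*b27) (a38 + b38 + a33*b31 + a34*b29 + a36*b27 + a37*b24 + a33*b27*b29 + a34*b26*b27 + a35*b24*b27) (a39 + b39 + a33*b32 + a35*b29 + a36*b28 + a37*b26 + a38*b25 + a33*b28*b29 + a34*b25*b29 + a34*b26*b28 + a35*b24*b28 + a37*b24*b25) (a40 + b40 + a34*b32 + a35*b31 + a36*b30 + a37*b29 + a38*b28 + a39*b27 + a33*b27*b32 + a33*b28*b31 + a33*b29*b30 + a34*b25*b31 + a34*b26*b30 + a34*b28*b29 + a35*b24*b30 + a35*b27*b29 + a36*b27*b28 + a37*b24*b28 + a37*b26*b27 + a38*b25*b27 + a33*b27*b28*b29 + a34*b25*b27*b29 + a34*b26*b27*b28 + a35*b24*b27*b28 + a37*b24*b25*b27) (a41 + b41 +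 a33^2*b30 + a34^2*b25) (a42 + b42 + a41*b24 + a33^2*b31 + a34^2*b26) (a43 + b43 + a41*b26 + a42*b25 + a33^2*b32 + a35^2*b24 + a41*b24*b25 + a34^2*b25*b26) (a44 + b44 + a37*b36 + a38*b35 + a39*b34 + a40*b33 + a41*b29 + a42*b28 + a43*b27 + a33*a34*b32 + a33*a35*b31 + a33*a36*b30 + a33*b30*b36 + a33*b31*b35 + a33*b32*b34 + a34*a35*b29 + a34*a36*b28 + a34*b28*b36 + a34*b29*b35 + a34*b32*b33 + a35*a36*b27 + a35*b27*b36 + a35*b29*b34 + a35*b31*b33 + a36*b27*b35 + a36*b28*b34 + a36*b30*b33 + a37*b24*b35 + a37*b26*b34 + a37*b29*b33 + a38*b25*b34 + a38*b28*b33 + a39*b27*b33 + a41*b24*b28 + a41*b26*b27 + a42*b25*b27 + a33^2*b27*b32 + a33^2*b28*b31 + a33^2*b29*b30 + a33*a34*b25*b31 + a33*a34*b26*b30 + a33*a34*b28*b29 + a33*a35*b24*b30 + a33*a35*b27*b29 + a33*a36*b27*b28 + a33*b27*b28*b36 + a33*b27*b29*b35 + a33*b27*b32*b33 + a33*b28*b29*b34 + a33*b28*b31*b33 + a33*b29*b30*b33 + a34*a35*b24*b28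 + a34*a35*b26*b27 + a34*a36*b25*b27 + a34*b25*b27*b36 + a34*b25*b29*b34 + a34*b25*b31*b33 + a34*b26*b27*b35 + a34*b26*b28*b34 + a34*b26*b30*b33 + a34*b28*b29*b33 + a35*b24*b27*b35 + a35*b24*b28*b34 + a35*b24*b30*b33 + a35*b27*b29*b33 + a36*b27*b28*b33 + a37*b24*b25*b34 + a37*b24*b28*b33 + a37*b26*b27*b33 + a38*b25*b27*b33 + a41*b24*b25*b27 + a33^2*b27*b28*b29 + a33*a34*b25*b27*b29 + a33*a34*b26*b27*b28 + a33*a35*b24*b27*b28 + a33*b27*b28*b29*b33 + a34*a35*b24*b25*b27 + a34*b25*b27*b29*b33 + a34*b26*b27*b28*b33 + a35*b24*b27*b28*b33 + a37*b24*b25*b27*b33) (a45 + b45 + a41*b31 + a42*b30 + a34^2*b32 + a37^2*b24 + a41*b24*b30 + a43*b27^2 + a33^2*b30*b31 + a34^2*b25*b31 + a34^2*b26*b30 + a41*b26*b27^2 + a42*b25*b27^2 + a33^2*b27^2*b32 + a35^2*b24*b27^2 + a41*b24*b25*b27^2 + a34^2*b25*b26*b27^2) (a46 + b46 + a41*b32 + a43*b30 + a45*b25 + a35^2*b31 + a37^2*b26 + a41*b26*b30 + a42*b25*b30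 + a42*b28^2 + a33^2*b30*b32 + a34^2*b25*b32 + a35^2*b24*b30 + a37^2*b24*b25 + a41*b24*b25*b30 + a41*b24*b28^2 + a33^2*b28^2*b31 + a34^2*b25^2*b31 + a34^2*b25*b26*b30 + a34^2*b26*b28^2) (a47 + b47 + a42*b32 + a43*b31 + a45*b26 + a46*b24 + a36^2*b30 + a38^2*b25 + a41*b24*b32 + a41*b26*b31 + a41*b29^2 + a42*b25*b31 + a33^2*b31*b32 + a34^2*b26*b32 + a35^2*b24*b31 + a37^2*b24*b26 + a41*b24*b25*b31 + a33^2*b29^2*b30 + a34^2*b25*b26*b31 + a34^2*b25*b29^2 + a34^2*b26^2*b30 + a35^2*b24^2*b30 + a37^2*b24^2*b25) := by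
  have h2 : (2 : K) = 0 := CharTwo.two_eq_zero
  unfold W
  simp only [mul_assoc, one_mul, s_25_24, s_26_24, s_27_24, s_28_24, s_29_24, s_30_24, s_31_24, s_32_24, s_33_24, s_34_24, s_35_24, s_36_24, s_37_24, s_38_24, s_39_24, s_40_24, s_41_24, s_42_24, s_43_24, s_44_24, s_45_24, s_46_24, s_47_24, s_26_25, s_27_25, s_28_25, s_29_25, s_30_25, s_31_25, s_32_25, s_33_25, s_34_25, s_35_25, s_36_25, s_37_25, s_38_25, s_39_25, s_40_25, s_41_25, s_42_25, s_43_25, s_44_25, s_45_25, s_46_25, s_47_25, s_27_26, s_28_26, s_29_26, s_30_26, s_31_26, s_32_26, s_33_26, s_34_26, s_35_26, s_36_26, s_37_26, s_38_26, s_39_26, s_40_26, s_41_26, s_42_26, s_43_26, s_44_26, s_45_26, s_46_26, s_47_26, s_28_27, s_29_27, s_30_27, s_31_27, s_32_27, s_33_27, s_34_27, s_35_27, s_36_27, s_37_27, s_38_27, s_39_27, s_40_27, s_41_27, s_42_27, s_43_27, s_44_27, s_45_27, s_46_27, s_47_27, s_29_28, s_30_28, s_31_28,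 s_32_28, s_33_28, s_34_28, s_35_28, s_36_28, s_37_28, s_38_28, s_39_28, s_40_28, s_41_28, s_42_28, s_43_28, s_44_28, s_45_28, s_46_28, s_47_28, s_30_29, s_31_29, s_32_29, s_33_29, s_34_29, s_35_29, s_36_29, s_37_29, s_38_29, s_39_29, s_40_29, s_41_29, s_42_29, s_43_29, s_44_29, s_45_29, s_46_29, s_47_29, s_31_30, s_32_30, s_33_30, s_34_30, s_35_30, s_36_30, s_37_30, s_38_30, s_39_30, s_40_30, s_41_30, s_42_30, s_43_30, s_44_30, s_45_30, s_46_30, s_47_30, s_32_31, s_33_31, s_34_31, s_35_31, s_36_31, s_37_31, s_38_31, s_39_31, s_40_31, s_41_31, s_42_31, s_43_31, s_44_31, s_45_31, s_46_31, s_47_31, s_33_32, s_34_32, s_35_32, s_36_32, s_37_32, s_38_32, s_39_32, s_40_32, s_41_32, s_42_32, s_43_32, s_44_32, s_45_32, s_46_32, s_47_32, s_34_33, s_35_33, s_36_33, s_37_33, s_38_33, s_39_33, s_40_33, s_41_33, s_42_33, s_43_33, s_44_33, s_45_33, s_46_33, s_47_33, s_35_34, s_36_34, s_37_34,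 s_38_34, s_39_34, s_40_34, s_41_34, s_42_34, s_43_34, s_44_34, s_45_34, s_46_34, s_47_34, s_36_35, s_37_35, s_38_35, s_39_35, s_40_35, s_41_35, s_42_35, s_43_35, s_44_35, s_45_35, s_46_35, s_47_35, s_37_36, s_38_36, s_39_36, s_40_36, s_41_36, s_42_36, s_43_36, s_44_36, s_45_36, s_46_36, s_47_36, s_38_37, s_39_37, s_40_37, s_41_37, s_42_37, s_43_37, s_44_37, s_45_37, s_46_37, s_47_37, s_39_38, s_40_38, s_41_38, s_42_38, s_43_38, s_44_38, s_45_38, s_46_38, s_47_38, s_40_39, s_41_39, s_42_39, s_43_39, s_44_39, s_45_39, s_46_39, s_47_39, s_41_40, s_42_40, s_43_40, s_44_40, s_45_40, s_46_40, s_47_40, s_42_41, s_43_41, s_44_41, s_45_41, s_46_41, s_47_41, s_43_42, s_44_42, s_45_42, s_46_42, s_47_42, s_44_43, s_45_43, s_46_43, s_47_43, s_45_44, s_46_44, s_47_44, s_46_45, s_47_45, s_47_46, mg_24, mg_25, mg_26, mg_27, mg_28, mg_29, mg_30, mg_31, mg_32, mg_33, mg_34, mg_35, mg_36, mg_37,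 mg_38, mg_39, mg_40, mg_41, mg_42, mg_43, mg_44, mg_45, mg_46, mg_47]
  exact congrArg₂ (· * ·) (congrArg (x 24) (by first | ring1 | (rw [← sub_eq_zero]; ring_nf; simp [h2]))) (congrArg₂ (· * ·) (congrArg (x 25) (by first | ring1 | (rw [← sub_eq_zero]; ring_nf; simp [h2]))) (congrArg₂ (· * ·) (congrArg (x 26) (by first | ring1 | (rw [← sub_eq_zero]; ring_nf; simp [h2]))) (congrArg₂ (· * ·) (congrArg (x 27) (by first | ring1 | (rw [← sub_eq_zero]; ring_nf; simp [h2]))) (congrArg₂ (· * ·) (congrArg (x 28) (by first | ring1 | (rw [← sub_eq_zero]; ring_nf; simp [h2]))) (congrArg₂ (· * ·) (congrArg (x 29) (by first | ring1 | (rw [← sub_eq_zero]; ring_nf; simp [h2]))) (congrArg₂ (· * ·) (congrArg (x 30) (by first | ring1 | (rw [← sub_eq_zero]; ring_nf; simp [h2]))) (congrArg₂ (· * ·) (congrArg (x 31) (by first | ring1 | (rw [← sub_eq_zero]; ring_nf; simp [h2]))) (congrArg₂ (· * ·) (congrArg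 (x 32) (by first | ring1 | (rw [← sub_eq_zero]; ring_nf; simp [h2]))) (congrArg₂ (· * ·) (congrArg (x 33) (by first | ring1 | (rw [← sub_eq_zero]; ring_nf; simp [h2]))) (congrArg₂ (· * ·) (congrArg (x 34) (by first | ring1 | (rw [← sub_eq_zero]; ring_nf; simp [h2]))) (congrArg₂ (· * ·) (congrArg (x 35) (by first | ring1 | (rw [← sub_eq_zero]; ring_nf; simp [h2]))) (congrArg₂ (· * ·) (congrArg (x 36) (by first | ring1 | (rw [← sub_eq_zero]; ring_nf; simp [h2]))) (congrArg₂ (· * ·) (congrArg (x 37) (by first | ring1 | (rw [← sub_eq_zero]; ring_nf; simp [h2]))) (congrArg₂ (· * ·) (congrArg (x 38) (by first | ring1 | (rw [← sub_eq_zero]; ring_nf; simp [h2]))) (congrArg₂ (· * ·) (congrArg (x 39) (by first | ring1 | (rw [← sub_eq_zero]; ring_nf; simp [h2]))) (congrArg₂ (· * ·) (congrArg (x 40) (by first | ring1 | (rw [← sub_eq_zero]; ring_nf; simp [h2]))) (congrArg₂ (· * ·) (congrArg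 (x 41) (by first | ring1 | (rw [← sub_eq_zero]; ring_nf; simp [h2]))) (congrArg₂ (· * ·) (congrArg (x 42) (by first | ring1 | (rw [← sub_eq_zero]; ring_nf; simp [h2]))) (congrArg₂ (· * ·) (congrArg (x 43) (by first | ring1 | (rw [← sub_eq_zero]; ring_nf; simp [h2]))) (congrArg₂ (· * ·) (congrArg (x 44) (by first | ring1 | (rw [← sub_eq_zero]; ring_nf; simp [h2]))) (congrArg₂ (· * ·) (congrArg (x 45) (by first | ring1 | (rw [← sub_eq_zero]; ring_nf; simp [h2]))) (congrArg₂ (· * ·) (congrArg (x 46) (by first | ring1 | (rw [← sub_eq_zero]; ring_nf; simp [h2]))) (congrArg₂ (· * ·) (congrArg (x 47) (by first | ring1 | (rw [← sub_eq_zero]; ring_nf; simp [h2]))) (rfl))))))))))))))))))))))))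

theorem W_congr {a24 a25 a26 a27 a28 a29 a30 a31 a32 a33 a34 a35 a36 a37 a38 a39 a40 a41 a42 a43 a44 a45 a46 a47 b24 b25 b26 b27 b28 b29 b30 b31 b32 b33 b34 b35 b36 b37 b38 b39 b40 b41 b42 b43 b44 b45 b46 b47 : K} (h24 : a24 = b24) (h25 : a25 = b25) (h26 : a26 = b26) (h27 : a27 = b27) (h28 : a28 = b28) (h29 : a29 = b29) (h30 : a30 = b30) (h31 : a31 = b31) (h32 : a32 = b32) (h33 : a33 = b33) (h34 : a34 = b34) (h35 : a35 = b35) (h36 : a36 = b36) (h37 : a37 = b37) (h38 : a38 = b38) (h39 : a39 = b39) (h40 : a40 = b40) (h41 : a41 = b41) (h42 : a42 = b42) (h43 : a43 = b43) (h44 : a44 = b44) (h45 : a45 = b45) (h46 : a46 = b46) (h47 : a47 = b47) :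
    W a24 a25 a26 a27 a28 a29 a30 a31 a32 a33 a34 a35 a36 a37 a38 a39 a40 a41 a42 a43 a44 a45 a46 a47 = W b24 b25 b26 b27 b28 b29 b30 b31 b32 b33 b34 b35 b36 b37 b38 b39 b40 b41 b42 b43 b44 b45 b46 b47 := by
  subst_vars
  rfl

end Law

end Cfsg.Agent.Lib.F4Inv50
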