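import Cfsg.Agent.Lib.F4Inv50B

/-!
# The unipotent group of `²F₄(q)`: the general element
-/

set_option autoImplicit false
set_option linter.unusedSectionVars false
set_option linter.unusedVariables false
set_option linter.unusedSimpArgs false
set_option maxRecDepth 100000

namespace Cfsg.Agent.Lib.F4Inv50

open Cfsg Cfsg.Lie Cfsg.Agent.Lib.Chev Cfsg.Agent.Lib.Chev.TwF4

section Inj

variable {K : Type*} [Field K]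

theorem W_ord (a24 a25 a26 a27 a28 a29 a30 a31 a32 a33 a34 a35 a36 a37 a38 a39 a40 a41 a42 a43 a44 a45 a46 a47 : K) (t : ℕ → K)
    (h24 : t 24 = a24) (h25 : t 25 = a25) (h26 : t 26 = a26) (h27 : t 27 = a27) (h28 : t 28 = a28) (h29 : t 29 = a29) (h30 : t 30 = a30) (h31 : t 31 = a31) (h32 : t 32 = a32) (h33 : t 33 = a33) (h34 : t 34 = a34) (h35 : t 35 = a35) (h36 : t 36 = a36) (h37 : t 37 = a37) (h38 : t 38 = a38) (h39 : t 39 = a39) (h40 : t 40 = a40) (h41 : t 41 = a41) (h42 : t 42 = a42) (h43 : t 43 = a43) (h44 : t 44 = a44) (h45 : t 45 = a45) (h46 : t 46 = a46) (h47 : t 47 = a47) :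
    hF.ordW 24 t = W a24 a25 a26 a27 a28 a29 a30 a31 a32 a33 a34 a35 a36 a37 a38 a39 a40 a41 a42 a43 a44 a45 a46 a47 := by
  unfold W
  subst_vars
  rw [hF.ordW_succ (by decide), hF.ordW_succ (by decide), hF.ordW_succ (by decide), hF.ordW_succ (by decide), hF.ordW_succ (by decide), hF.ordW_succ (by decide), hF.ordW_succ (by decide), hF.ordW_succ (by decide), hF.ordW_succ (by decide), hF.ordW_succ (by decide), hF.ordW_succ (by decide), hF.ordW_succ (by decide), hF.ordW_succ (by decide), hF.ordW_succ (by decide), hF.ordW_succ (by decide), hF.ordW_succ (by decide), hF.ordW_succ (by decide), hF.ordW_succ (by decide), hF.ordW_succ (by decide), hF.ordW_succ (by decide), hF.ordW_succ (by decide), hF.ordW_succ (by decide), hF.ordW_succ (by decide), hF.ordW_succ (by decide),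
    hF.ordW_of_ge (by decide)]

/-- The coordinates of the general element of `U`. -/
noncomputable def ww (a24 a25 a26 a27 a28 a29 a30 a31 a32 a33 a34 a35 a36 a37 a38 a39 a40 a41 a42 a43 a44 a45 a46 a47 : K) : ℕ → K := fun r =>
  match r with
  | 24 => a24 | 25 => a25 | 26 => a26 | 27 => a27 | 28 => a28 | 29 => a29 | 30 => a30 | 31 => a31 | 32 => a32 | 33 => a33 | 34 => a34 | 35 => a35 | 36 => a36 | 37 => a37 | 38 => a38 | 39 => a39 | 40 => a40 | 41 => a41 | 42 => a42 | 43 => a43 | 44 => a44 | 45 => a45 | 46 => a46 | 47 => a47 | _ => 0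

theorem W_inj {a24 a25 a26 a27 a28 a29 a30 a31 a32 a33 a34 a35 a36 a37 a38 a39 a40 a41 a42 a43 a44 a45 a46 a47 b24 b25 b26 b27 b28 b29 b30 b31 b32 b33 b34 b35 b36 b37 b38 b39 b40 b41 b42 b43 b44 b45 b46 b47 : K}
    (h : W a24 a25 a26 a27 a28 a29 a30 a31 a32 a33 a34 a35 a36 a37 a38 a39 a40 a41 a42 a43 a44 a45 a46 a47 = W b24 b25 b26 b27 b28 b29 b30 b31 b32 b33 b34 b35 b36 b37 b38 b39 b40 b41 b42 b43 b44 b45 b46 b47) :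
    a24 = b24 ∧ a25 = b25 ∧ a26 = b26 ∧ a27 = b27 ∧ a28 = b28 ∧ a29 = b29 ∧ a30 = b30 ∧ a31 = b31 ∧ a32 = b32 ∧ a33 = b33 ∧ a34 = b34 ∧ a35 = b35 ∧ a36 = b36 ∧ a37 = b37 ∧ a38 = b38 ∧ a39 = b39 ∧ a40 = b40 ∧ a41 = b41 ∧ a42 = b42 ∧ a43 = b43 ∧ a44 = b44 ∧ a45 = b45 ∧ a46 = b46 ∧ a47 = b47 := by
  have h1 := W_ord a24 a25 a26 a27 a28 a29 a30 a31 a32 a33 a34 a35 a36 a37 a38 a39 a40 a41 a42 a43 a44 a45 a46 a47 (ww a24 a25 a26 a27 a28 a29 a30 a31 a32 a33 a34 a35 a36 a37 a38 a39 a40 a41 a42 a43 a44 a45 a46 a47) rfl rfl rfl rfl rfl rfl rfl rfl rfl rfl rfl rfl rfl rfl rfl rfl rfl rfl rfl rfl rfl rfl rfl rfl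
  have h2 := W_ord b24 b25 b26 b27 b28 b29 b30 b31 b32 b33 b34 b35 b36 b37 b38 b39 b40 b41 b42 b43 b44 b45 b46 b47 (ww b24 b25 b26 b27 b28 b29 b30 b31 b32 b33 b34 b35 b36 b37 b38 b39 b40 b41 b42 b43 b44 b45 b46 b47) rfl rfl rfl rfl rfl rfl rfl rfl rfl rfl rfl rfl rfl rfl rfl rfl rfl rfl rfl rfl rfl rfl rfl rfl
  have h3 := hF.ordW_inj RootF4T.R.N 24 (by decide) (by decide) _ _ (h1.trans (h.trans h2.symm))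
  have key : ∀ r : ℕ, 24 ≤ r → r < 48 → ww a24 a25 a26 a27 a28 a29 a30 a31 a32 a33 a34 a35 a36 a37 a38 a39 a40 a41 a42 a43 a44 a45 a46 a47 r = ww b24 b25 b26 b27 b28 b29 b30 b31 b32 b33 b34 b35 b36 b37 b38 b39 b40 b41 b42 b43 b44 b45 b46 b47 r := fun r h4 h5 => h3 r h4 h5
  exact ⟨key 24 (by norm_num) (by norm_num), key 25 (by norm_num) (by norm_num), key 26 (by norm_num) (by norm_num), key 27 (by norm_num) (by norm_num), key 28 (by norm_num) (by norm_num), key 29 (by norm_num) (by norm_num), key 30 (by norm_num) (by norm_num), key 31 (by norm_num) (by norm_num), key 32 (by norm_num) (by norm_num), key 33 (by norm_num) (by norm_num), key 34 (by norm_num) (by norm_num), key 35 (by norm_num) (by norm_num), key 36 (by norm_num) (by norm_num), key 37 (by norm_num) (by norm_num),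 key 38 (by norm_num) (by norm_num), key 39 (by norm_num) (by norm_num), key 40 (by norm_num) (by norm_num), key 41 (by norm_num) (by norm_num), key 42 (by norm_num) (by norm_num), key 43 (by norm_num) (by norm_num), key 44 (by norm_num) (by norm_num), key 45 (by norm_num) (by norm_num), key 46 (by norm_num) (by norm_num), key 47 (by norm_num) (by norm_num)⟩

theorem W_zero : W (0 : K) 0 0 0 0 0 0 0 0 0 0 0 0 0 0 0 0 0 0 0 0 0 0 0 = 1 := by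
  simp [W, hF.c.xG_zero]

theorem W_mem_U (a24 a25 a26 a27 a28 a29 a30 a31 a32 a33 a34 a35 a36 a37 a38 a39 a40 a41 a42 a43 a44 a45 a46 a47 : K) :
    W a24 a25 a26 a27 a28 a29 a30 a31 a32 a33 a34 a35 a36 a37 a38 a39 a40 a41 a42 a43 a44 a45 a46 a47 ∈ chevF4.posUnipotent K := by
  have key : ∀ (r : ℕ) (t : K) (w : GL chevF4.Idx K), r ∈ ([24, 25, 26, 27, 28, 29, 30, 31, 32, 33, 34, 35, 36, 37, 38, 39, 40, 41, 42, 43, 44, 45, 46, 47] : List ℕ) →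
      w ∈ chevF4.posUnipotent K → x r t * w ∈ chevF4.posUnipotent K := by
    intro r t w hr hw
    have h : r < chevF4.nroots ∧ RootF4T.R.N ≤ r := by
      revert r
      decide +kernel
    exact mul_mem (hF.xG_mem_U h.1 h.2 t) hw
  unfold W
  repeat' (apply key _ _ _ (by simp))
  exact one_mem _

end Inj

section Elt

variable {K : Type*} [Field K] (f : K ≃+* K)

/-- The general element of the fixed points of the twist in `U`, in the coordinates of the twisted root groups. -/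
noncomputable def E (t1 u1 v2 t3 u3 v4 t5 u5 v6 t7 u7 v8 : K) : GL chevF4.Idx K :=
  W (v8) (t1) (t7 + t1*v8) ((f t1)) (u1) ((f t5) + t7*(f t1) + u1*v8) ((f u1)^2 + t1*(f t1)^2) (t3 + t7*(f t1)^2 + v8*(f u1)^2 + t1*v8*(f t1)^2) (v2 + t7*(f u1)^2 + u1^2*v8 + t1*t7*(f t1)^2) ((f v8)) ((f t7)) ((f t3)) (u7 + v8*(f t3)) ((f v2)) ((f v6) + v8*(f v2)) ((f v4) + t7*(f v2) + (f t3)*(f t5)) (u3 + (f t5)*(f v2)) (t5) (t5*v8 + (f u7)^2 + t7*(f t7)^2) (v6 + t5*t7 + v8*(f t3)^2) (u5 + t5*(f t5) + u3*(f v8) + u7*(f v2) + (f t7)*(f v4) + t7*(f t7)*(f v2) + (f t3)*(f t5)*(f t7) + (f t5)*(f v2)*(f v8)) (v4 + v8*(f v2)^2) ((f u3)^2 + t3*(f t3)^2 + t7*(f v2)^2) (t7*v4 + (f u5)^2 + v8*(f u3)^2 + t3*v8*(f t3)^2 + t7*v8*(f v2)^2)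

theorem E_mem_U (t1 u1 v2 t3 u3 v4 t5 u5 v6 t7 u7 v8 : K) : E f t1 u1 v2 t3 u3 v4 t5 u5 v6 t7 u7 v8 ∈ chevF4.posUnipotent K := W_mem_U _ _ _ _ _ _ _ _ _ _ _ _ _ _ _ _ _ _ _ _ _ _ _ _

theorem E_zero : E f (0 : K) 0 0 0 0 0 0 0 0 0 0 0 = 1 := by
  unfold E
  simpa using W_zero

theorem E_inj {t1 u1 v2 t3 u3 v4 t5 u5 v6 t7 u7 v8 t1' u1' v2' t3' u3' v4' t5' u5' v6' t7' u7' v8' : K} (h : E f t1 u1 v2 t3 u3 v4 t5 u5 v6 t7 u7 v8 = E f t1' u1' v2' t3' u3' v4' t5' u5' v6' t7' u7' v8') :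
    t1 = t1' ∧ u1 = u1' ∧ v2 = v2' ∧ t3 = t3' ∧ u3 = u3' ∧ v4 = v4' ∧ t5 = t5' ∧ u5 = u5' ∧ v6 = v6' ∧ t7 = t7' ∧ u7 = u7' ∧ v8 = v8' := by
  obtain ⟨h24, h25, h26, h27, h28, h29, h30, h31, h32, h33, h34, h35, h36, h37, h38, h39, h40, h41, h42, h43, h44, h45, h46, h47⟩ := W_inj h
  have ev8 : v8 = v8' := by linear_combination h24
  subst ev8
  have et1 : t1 = t1' := by linear_combination h25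
  subst et1
  have eu1 : u1 = u1' := by linear_combination h28
  subst eu1
  have et7 : t7 = t7' := by linear_combination h26
  subst et7
  have et5 : t5 = t5' := by linear_combination h41
  subst et5
  have et3 : t3 = t3' := by linear_combination h31
  subst et3
  have ev2 : v2 = v2' := by linear_combination h32
  subst ev2
  have ev6 : v6 = v6' := by linear_combination h43
  subst ev6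
  have ev4 : v4 = v4' := by linear_combination h45
  subst ev4
  have eu7 : u7 = u7' := by linear_combination h36
  subst eu7
  have eu3 : u3 = u3' := by linear_combination h40
  subst eu3
  have eu5 : u5 = u5' := by linear_combination h44
  subst eu5
  exact ⟨rfl, rfl, rfl, rfl, rfl, rfl, rfl, rfl, rfl, rfl, rfl, rfl⟩

end Elt

section Fix

variable {K : Type*} [Field K] [CharP K 2] {e : ℕ} (d : Dat K e)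

theorem s_x2 {r : ℕ} (hr : r < chevF4.nroots) (t : K) : d.τ.s (x r t) = x (TwTabF4.S.r r) ((d.f t) ^ Cfsg.Agent.Lib.ChevAut.Exotic.lamF4 r) :=
  d.s_x hr t

theorem rho_tab : TwTabF4.S.r 24 = 33 ∧ TwTabF4.S.r 25 = 27 ∧ TwTabF4.S.r 26 = 34 ∧ TwTabF4.S.r 27 = 25 ∧ TwTabF4.S.r 28 = 30 ∧ TwTabF4.S.r 29 = 41 ∧ TwTabF4.S.r 30 = 28 ∧ TwTabF4.S.r 31 = 35 ∧ TwTabF4.S.r 32 = 37 ∧ TwTabF4.S.r 33 = 24 ∧ TwTabF4.S.r 34 = 26 ∧ TwTabF4.S.r 35 = 31 ∧ TwTabF4.S.r 36 = 42 ∧ TwTabF4.S.r 37 = 32 ∧ TwTabF4.S.r 38 = 43 ∧ TwTabF4.S.r 39 = 45 ∧ TwTabF4.S.r 40 = 46 ∧ TwTabF4.S.r 41 = 29 ∧ TwTabF4.S.r 42 = 36 ∧ TwTabF4.S.r 43 = 38 ∧ TwTabF4.S.r 44 = 47 ∧ TwTabF4.S.r 45 = 39 ∧ TwTabF4.S.r 46 = 40 ∧ TwTabF4.S.r 47 = 44 := by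
  decide +kernel

theorem lam_tab : Cfsg.Agent.Lib.ChevAut.Exotic.lamF4 24 = 1 ∧ Cfsg.Agent.Lib.ChevAut.Exotic.lamF4 25 = 1 ∧ Cfsg.Agent.Lib.ChevAut.Exotic.lamF4 26 = 1 ∧ Cfsg.Agent.Lib.ChevAut.Exotic.lamF4 27 = 2 ∧ Cfsg.Agent.Lib.ChevAut.Exotic.lamF4 28 = 2 ∧ Cfsg.Agent.Lib.ChevAut.Exotic.lamF4 29 = 2 ∧ Cfsg.Agent.Lib.ChevAut.Exotic.lamF4 30 = 1 ∧ Cfsg.Agent.Lib.ChevAut.Exotic.lamF4 31 = 1 ∧ Cfsg.Agent.Lib.ChevAut.Exotic.lamF4 32 = 1 ∧ Cfsg.Agent.Lib.ChevAut.Exotic.lamF4 33 = 2 ∧ Cfsg.Agent.Lib.ChevAut.Exotic.lamF4 34 = 2 ∧ Cfsg.Agent.Lib.ChevAut.Exotic.lamF4 35 = 2 ∧ Cfsg.Agent.Lib.ChevAut.Exotic.lamF4 36 = 2 ∧ Cfsg.Agent.Lib.ChevAut.Exotic.lamF4 37 = 2 ∧ Cfsg.Agent.Lib.ChevAut.Exotic.lamF4 38 = 2 ∧ Cfsg.Agent.Lib.ChevAut.Exotic.lamF4 39 = 2 ∧ Cfsg.Agent.Lib.ChevAut.Exotic.lamF4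 40 = 2 ∧ Cfsg.Agent.Lib.ChevAut.Exotic.lamF4 41 = 1 ∧ Cfsg.Agent.Lib.ChevAut.Exotic.lamF4 42 = 1 ∧ Cfsg.Agent.Lib.ChevAut.Exotic.lamF4 43 = 1 ∧ Cfsg.Agent.Lib.ChevAut.Exotic.lamF4 44 = 2 ∧ Cfsg.Agent.Lib.ChevAut.Exotic.lamF4 45 = 1 ∧ Cfsg.Agent.Lib.ChevAut.Exotic.lamF4 46 = 1 ∧ Cfsg.Agent.Lib.ChevAut.Exotic.lamF4 47 = 1 := by
  decide +kernel

theorem W_eq_word (a24 a25 a26 a27 a28 a29 a30 a31 a32 a33 a34 a35 a36 a37 a38 a39 a40 a41 a42 a43 a44 a45 a46 a47 : K) :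
    W a24 a25 a26 a27 a28 a29 a30 a31 a32 a33 a34 a35 a36 a37 a38 a39 a40 a41 a42 a43 a44 a45 a46 a47 = hF.c.wordG [(24, a24), (25, a25), (26, a26), (27, a27), (28, a28), (29, a29), (30, a30), (31, a31), (32, a32), (33, a33), (34, a34), (35, a35), (36, a36), (37, a37), (38, a38), (39, a39), (40, a40), (41, a41), (42, a42), (43, a43), (44, a44), (45, a45), (46, a46), (47, a47)] := by
  simp only [W, Checks.wordG_cons, Checks.wordG_nil]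

set_option maxHeartbeats 4000000 in
theorem s_W (a24 a25 a26 a27 a28 a29 a30 a31 a32 a33 a34 a35 a36 a37 a38 a39 a40 a41 a42 a43 a44 a45 a46 a47 : K) : d.τ.s (W a24 a25 a26 a27 a28 a29 a30 a31 a32 a33 a34 a35 a36 a37 a38 a39 a40 a41 a42 a43 a44 a45 a46 a47) = W ((d.f a33)^2) ((d.f a27)^2) ((d.f a34)^2 + (d.f a27)^2*(d.f a33)^2) ((d.f a25)) ((d.f a30) + (d.f a25)*(d.f a27)^2) ((d.f a41) + (d.f a25)*(d.f a34)^2 + (d.f a30)*(d.f a33)^2 + (d.f a25)*(d.f a27)^2*(d.f a33)^2) ((d.f a28)^2 + (d.f a25)^2*(d.f a27)^2) ((d.f a35)^2 + (d.f a25)^2*(d.f a34)^2 + (d.f a28)^2*(d.f a33)^2 + (d.f a25)^2*(d.f a27)^2*(d.f a33)^2) ((d.f a37)^2 + (d.f a28)^2*(d.f a34)^2 + (d.f a30)^2*(d.f a33)^2 + (d.f a25)^2*(d.f a27)^2*(d.f a34)^2 + (d.f a25)^2*(d.f a27)^4*(d.f a33)^2) ((d.f a24)) ((d.f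 a26) + (d.f a24)*(d.f a25)) ((d.f a31) + (d.f a24)*(d.f a30) + (d.f a26)*(d.f a27)^2 + (d.f a24)*(d.f a25)*(d.f a27)^2) ((d.f a42) + (d.f a24)*(d.f a41) + (d.f a26)*(d.f a34)^2 + (d.f a31)*(d.f a33)^2 + (d.f a24)*(d.f a25)*(d.f a34)^2 + (d.f a24)*(d.f a30)*(d.f a33)^2 + (d.f a26)*(d.f a27)^2*(d.f a33)^2 + (d.f a24)*(d.f a25)*(d.f a27)^2*(d.f a33)^2) ((d.f a32) + (d.f a26)*(d.f a30) + (d.f a24)*(d.f a25)*(d.f a30) + (d.f a24)*(d.f a28)^2) ((d.f a43) + (d.f a26)*(d.f a41) + (d.f a24)*(d.f a25)*(d.f a41) + (d.f a24)*(d.f a35)^2 + (d.f a32)*(d.f a33)^2 + (d.f a26)*(d.f a30)*(d.f a33)^2 + (d.f a24)*(d.f a25)*(d.f a30)*(d.f a33)^2 + (d.f a24)*(d.f a28)^2*(d.f a33)^2) ((d.f a45) + (d.f a31)*(d.f a41) + (d.f a24)*(d.f a30)*(d.f a41) + (d.f a24)*(d.f a37)^2 + (d.f a32)*(d.f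 a34)^2 + (d.f a26)*(d.f a27)^2*(d.f a41) + (d.f a26)*(d.f a30)*(d.f a34)^2 + (d.f a24)*(d.f a25)*(d.f a27)^2*(d.f a41) + (d.f a24)*(d.f a25)*(d.f a30)*(d.f a34)^2 + (d.f a24)*(d.f a28)^2*(d.f a34)^2) ((d.f a46) + (d.f a32)*(d.f a41) + (d.f a26)*(d.f a30)*(d.f a41) + (d.f a26)*(d.f a37)^2 + (d.f a31)*(d.f a35)^2 + (d.f a24)*(d.f a25)*(d.f a30)*(d.f a41) + (d.f a24)*(d.f a25)*(d.f a37)^2 + (d.f a24)*(d.f a28)^2*(d.f a41) + (d.f a24)*(d.f a30)*(d.f a35)^2 + (d.f a26)*(d.f a27)^2*(d.f a35)^2 + (d.f a24)*(d.f a25)*(d.f a27)^2*(d.f a35)^2) ((d.f a29)^2 + (d.f a24)^2*(d.f a28)^2 + (d.f a26)^2*(d.f a27)^2 + (d.f a24)^2*(d.f a25)^2*(d.f a27)^2) ((d.f a36)^2 + (d.f a24)^2*(d.f a35)^2 + (d.f a26)^2*(d.f a34)^2 + (d.f a29)^2*(d.f a33)^2 + (d.f a24)^2*(d.f a25)^2*(d.f a34)^2 + (d.f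 a24)^2*(d.f a28)^2*(d.f a33)^2 + (d.f a26)^2*(d.f a27)^2*(d.f a33)^2 + (d.f a24)^2*(d.f a25)^2*(d.f a27)^2*(d.f a33)^2) ((d.f a38)^2 + (d.f a24)^2*(d.f a37)^2 + (d.f a29)^2*(d.f a34)^2 + (d.f a31)^2*(d.f a33)^2 + (d.f a24)^2*(d.f a28)^2*(d.f a34)^2 + (d.f a24)^2*(d.f a30)^2*(d.f a33)^2 + (d.f a26)^2*(d.f a27)^2*(d.f a34)^2 + (d.f a24)^2*(d.f a25)^2*(d.f a27)^2*(d.f a34)^2 + (d.f a26)^2*(d.f a27)^4*(d.f a33)^2 + (d.f a24)^2*(d.f a25)^2*(d.f a27)^4*(d.f a33)^2) ((d.f a47) + (d.f a32)*(d.f a42) + (d.f a26)*(d.f a30)*(d.f a42) + (d.f a26)*(d.f a31)*(d.f a41) + (d.f a29)^2*(d.f a41) + (d.f a24)*(d.f a25)*(d.f a30)*(d.f a42) + (d.f a24)*(d.f a25)*(d.f a31)*(d.f a41) + (d.f a24)*(d.f a26)*(d.f a30)*(d.f a41) + (d.f a24)*(d.f a26)*(d.f a37)^2 + (d.f a24)*(d.f a28)^2*(d.f a42)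 + (d.f a24)*(d.f a31)*(d.f a35)^2 + (d.f a24)^2*(d.f a25)*(d.f a30)*(d.f a41) + (d.f a24)^2*(d.f a25)*(d.f a37)^2 + (d.f a24)^2*(d.f a28)^2*(d.f a41) + (d.f a24)^2*(d.f a30)*(d.f a35)^2 + (d.f a24)*(d.f a26)*(d.f a27)^2*(d.f a35)^2 + (d.f a24)^2*(d.f a25)*(d.f a27)^2*(d.f a35)^2) ((d.f a39)^2 + (d.f a26)^2*(d.f a37)^2 + (d.f a29)^2*(d.f a35)^2 + (d.f a32)^2*(d.f a33)^2 + (d.f a24)^2*(d.f a25)^2*(d.f a37)^2 + (d.f a24)^2*(d.f a28)^2*(d.f a35)^2 + (d.f a26)^2*(d.f a27)^2*(d.f a35)^2 + (d.f a26)^2*(d.f a30)^2*(d.f a33)^2 + (d.f a24)^2*(d.f a25)^2*(d.f a27)^2*(d.f a35)^2 + (d.f a24)^2*(d.f a25)^2*(d.f a30)^2*(d.f a33)^2 + (d.f a24)^2*(d.f a28)^4*(d.f a33)^2) ((d.f a40)^2 + (d.f a29)^2*(d.f a37)^2 + (d.f a31)^2*(d.f a35)^2 + (d.f a32)^2*(d.f a34)^2 + (d.f a24)^2*(d.f a28)^2*(d.f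 a37)^2 + (d.f a24)^2*(d.f a30)^2*(d.f a35)^2 + (d.f a26)^2*(d.f a27)^2*(d.f a37)^2 + (d.f a26)^2*(d.f a30)^2*(d.f a34)^2 + (d.f a24)^2*(d.f a25)^2*(d.f a27)^2*(d.f a37)^2 + (d.f a24)^2*(d.f a25)^2*(d.f a30)^2*(d.f a34)^2 + (d.f a24)^2*(d.f a28)^4*(d.f a34)^2 + (d.f a26)^2*(d.f a27)^4*(d.f a35)^2 + (d.f a24)^2*(d.f a25)^2*(d.f a27)^4*(d.f a35)^2) ((d.f a44)^2 + (d.f a29)^2*(d.f a41)^2 + (d.f a36)^2*(d.f a37)^2 + (d.f a24)^2*(d.f a28)^2*(d.f a41)^2 + (d.f a24)^2*(d.f a35)^2*(d.f a37)^2 + (d.f a26)^2*(d.f a27)^2*(d.f a41)^2 + (d.f a26)^2*(d.f a34)^2*(d.f a37)^2 + (d.f a29)^2*(d.f a33)^2*(d.f a37)^2 + (d.f a29)^2*(d.f a34)^2*(d.f a35)^2 + (d.f a31)^2*(d.f a33)^2*(d.f a35)^2 + (d.f a32)^2*(d.f a33)^2*(d.f a34)^2 + (d.f a24)^2*(d.f a25)^2*(d.f a27)^2*(d.f a41)^2 + (d.f a24)^2*(d.f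 a25)^2*(d.f a34)^2*(d.f a37)^2 + (d.f a24)^2*(d.f a28)^2*(d.f a33)^2*(d.f a37)^2 + (d.f a24)^2*(d.f a28)^2*(d.f a34)^2*(d.f a35)^2 + (d.f a24)^2*(d.f a30)^2*(d.f a33)^2*(d.f a35)^2 + (d.f a26)^2*(d.f a27)^2*(d.f a33)^2*(d.f a37)^2 + (d.f a26)^2*(d.f a27)^2*(d.f a34)^2*(d.f a35)^2 + (d.f a26)^2*(d.f a30)^2*(d.f a33)^2*(d.f a34)^2 + (d.f a24)^2*(d.f a25)^2*(d.f a27)^2*(d.f a33)^2*(d.f a37)^2 + (d.f a24)^2*(d.f a25)^2*(d.f a27)^2*(d.f a34)^2*(d.f a35)^2 + (d.f a24)^2*(d.f a25)^2*(d.f a30)^2*(d.f a33)^2*(d.f a34)^2 + (d.f a24)^2*(d.f a28)^4*(d.f a33)^2*(d.f a34)^2 + (d.f a26)^2*(d.f a27)^4*(d.f a33)^2*(d.f a35)^2 + (d.f a24)^2*(d.f a25)^2*(d.f a27)^4*(d.f a33)^2*(d.f a35)^2) := by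
  have h2 : (2 : K) = 0 := CharTwo.two_eq_zero
  have h4 : (4 : K) = 0 := by linear_combination 2 * h2
  have h6 : (6 : K) = 0 := by linear_combination 3 * h2
  have h8 : (8 : K) = 0 := by linear_combination 4 * h2
  have h10 : (10 : K) = 0 := by linear_combination 5 * h2
  have h12 : (12 : K) = 0 := by linear_combination 6 * h2
  have h14 : (14 : K) = 0 := by linear_combination 7 * h2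
  have h16 : (16 : K) = 0 := by linear_combination 8 * h2
  obtain ⟨r24, r25, r26, r27, r28, r29, r30, r31, r32, r33, r34, r35, r36, r37, r38, r39, r40, r41, r42, r43, r44, r45, r46, r47⟩ := rho_tab
  obtain ⟨l24, l25, l26, l27, l28, l29, l30, l31, l32, l33, l34, l35, l36, l37, l38, l39, l40, l41, l42, l43, l44, l45, l46, l47⟩ := lam_tab
  have hlt : ∀ r ∈ ([24, 25, 26, 27, 28, 29, 30, 31, 32, 33, 34, 35, 36, 37, 38, 39, 40, 41, 42, 43, 44, 45, 46, 47] : List ℕ), r < chevF4.nroots := by decide +kernel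
  rw [W_eq_word, d.τ.s_wordG _ (fun p hp => by
      apply hlt
      simp only [List.mem_cons, List.not_mem_nil, or_false] at hp
      rcases hp with rfl | rfl | rfl | rfl | rfl | rfl | rfl | rfl | rfl | rfl | rfl | rfl | rfl | rfl | rfl | rfl | rfl | rfl | rfl | rfl | rfl | rfl | rfl | rfl <;> simp)
    (ρ' := TwTabF4.S.r) (c' := fun r t => (d.f t) ^ Cfsg.Agent.Lib.ChevAut.Exotic.lamF4 r) (fun p hp => by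
      apply d.s_x
      apply hlt
      simp only [List.mem_cons, List.not_mem_nil, or_false] at hp
      rcases hp with rfl | rfl | rfl | rfl | rfl | rfl | rfl | rfl | rfl | rfl | rfl | rfl | rfl | rfl | rfl | rfl | rfl | rfl | rfl | rfl | rfl | rfl | rfl | rfl <;> simp)]
  simp only [List.map_cons, List.map_nil, r24, r25, r26, r27, r28, r29, r30, r31, r32, r33, r34, r35, r36, r37, r38, r39, r40, r41, r42, r43, r44, r45, r46, r47, l24, l25, l26, l27, l28, l29, l30, l31, l32, l33, l34, l35, l36, l37, l38, l39, l40, l41, l42, l43, l44, l45, l46, l47, Checks.wordG_cons, Checks.wordG_nil, pow_one]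
  unfold W
  show x 33 ((d.f a24)) * (x 27 ((d.f a25)) * (x 34 ((d.f a26)) * (x 25 ((d.f a27)^2) * (x 30 ((d.f a28)^2) * (x 41 ((d.f a29)^2) * (x 28 ((d.f a30)) * (x 35 ((d.f a31)) * (x 37 ((d.f a32)) * (x 24 ((d.f a33)^2) * (x 26 ((d.f a34)^2) * (x 31 ((d.f a35)^2) * (x 42 ((d.f a36)^2) * (x 32 ((d.f a37)^2) * (x 43 ((d.f a38)^2) * (x 45 ((d.f a39)^2) * (x 46 ((d.f a40)^2) * (x 29 ((d.f a41)) * (x 36 ((d.f a42)) * (x 38 ((d.f a43)) * (x 47 ((d.f a44)^2) * (x 39 ((d.f a45)) * (x 40 ((d.f a46)) * (x 44 ((d.f a47)) * 1))))))))))))))))))))))) = _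
  simp only [s_25_24, s_26_24, s_27_24, s_28_24, s_29_24, s_30_24, s_31_24, s_32_24, s_33_24, s_34_24, s_35_24, s_36_24, s_37_24, s_38_24, s_39_24, s_40_24, s_41_24, s_42_24, s_43_24, s_44_24, s_45_24, s_46_24, s_47_24, s_26_25, s_27_25, s_28_25, s_29_25, s_30_25, s_31_25, s_32_25, s_33_25, s_34_25, s_35_25, s_36_25, s_37_25, s_38_25, s_39_25, s_40_25, s_41_25, s_42_25, s_43_25, s_44_25, s_45_25, s_46_25, s_47_25, s_27_26, s_28_26, s_29_26, s_30_26, s_31_26, s_32_26, s_33_26, s_34_26, s_35_26, s_36_26, s_37_26, s_38_26, s_39_26, s_40_26, s_41_26, s_42_26, s_43_26, s_44_26, s_45_26, s_46_26, s_47_26, s_28_27, s_29_27, s_30_27, s_31_27, s_32_27, s_33_27, s_34_27, s_35_27, s_36_27, s_37_27, s_38_27, s_39_27, s_40_27, s_41_27, s_42_27, s_43_27, s_44_27, s_45_27, s_46_27,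 s_47_27, s_29_28, s_30_28, s_31_28, s_32_28, s_33_28, s_34_28, s_35_28, s_36_28, s_37_28, s_38_28, s_39_28, s_40_28, s_41_28, s_42_28, s_43_28, s_44_28, s_45_28, s_46_28, s_47_28, s_30_29, s_31_29, s_32_29, s_33_29, s_34_29, s_35_29, s_36_29, s_37_29, s_38_29, s_39_29, s_40_29, s_41_29, s_42_29, s_43_29, s_44_29, s_45_29, s_46_29, s_47_29, s_31_30, s_32_30, s_33_30, s_34_30, s_35_30, s_36_30, s_37_30, s_38_30, s_39_30, s_40_30, s_41_30, s_42_30, s_43_30, s_44_30, s_45_30, s_46_30, s_47_30, s_32_31, s_33_31, s_34_31, s_35_31, s_36_31, s_37_31, s_38_31, s_39_31, s_40_31, s_41_31, s_42_31, s_43_31, s_44_31, s_45_31, s_46_31, s_47_31, s_33_32, s_34_32, s_35_32, s_36_32, s_37_32, s_38_32, s_39_32, s_40_32, s_41_32, s_42_32, s_43_32, s_44_32, s_45_32, s_46_32, s_47_32, s_34_33,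 s_35_33, s_36_33, s_37_33, s_38_33, s_39_33, s_40_33, s_41_33, s_42_33, s_43_33, s_44_33, s_45_33, s_46_33, s_47_33, s_35_34, s_36_34, s_37_34, s_38_34, s_39_34, s_40_34, s_41_34, s_42_34, s_43_34, s_44_34, s_45_34, s_46_34, s_47_34, s_36_35, s_37_35, s_38_35, s_39_35, s_40_35, s_41_35, s_42_35, s_43_35, s_44_35, s_45_35, s_46_35, s_47_35, s_37_36, s_38_36, s_39_36, s_40_36, s_41_36, s_42_36, s_43_36, s_44_36, s_45_36, s_46_36, s_47_36, s_38_37, s_39_37, s_40_37, s_41_37, s_42_37, s_43_37, s_44_37, s_45_37, s_46_37, s_47_37, s_39_38, s_40_38, s_41_38, s_42_38, s_43_38, s_44_38, s_45_38, s_46_38, s_47_38, s_40_39, s_41_39, s_42_39, s_43_39, s_44_39, s_45_39, s_46_39, s_47_39, s_41_40, s_42_40, s_43_40, s_44_40, s_45_40, s_46_40, s_47_40, s_42_41, s_43_41, s_44_41, s_45_41,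 s_46_41, s_47_41, s_43_42, s_44_42, s_45_42, s_46_42, s_47_42, s_44_43, s_45_43, s_46_43, s_47_43, s_45_44, s_46_44, s_47_44, s_46_45, s_47_45, s_47_46, mg_24, mg_25, mg_26, mg_27, mg_28, mg_29, mg_30, mg_31, mg_32, mg_33, mg_34, mg_35, mg_36, mg_37, mg_38, mg_39, mg_40, mg_41, mg_42, mg_43, mg_44, mg_45, mg_46, mg_47]
  exact congrArg₂ (· * ·) (congrArg (x 24) (by first | ring1 | (rw [← sub_eq_zero]; ring_nf; simp [h2, h4, h6, h8, h10, h12, h14, h16]))) (congrArg₂ (· * ·) (congrArg (x 25) (by first | ring1 | (rw [← sub_eq_zero]; ring_nf; simp [h2, h4, h6, h8, h10, h12, h14, h16]))) (congrArg₂ (· * ·) (congrArg (x 26) (by first | ring1 | (rw [← sub_eq_zero]; ring_nf; simp [h2, h4, h6, h8, h10, h12, h14, h16]))) (congrArg₂ (· * ·) (congrArg (x 27) (by first | ring1 |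 (rw [← sub_eq_zero]; ring_nf; simp [h2, h4, h6, h8, h10, h12, h14, h16]))) (congrArg₂ (· * ·) (congrArg (x 28) (by first | ring1 | (rw [← sub_eq_zero]; ring_nf; simp [h2, h4, h6, h8, h10, h12, h14, h16]))) (congrArg₂ (· * ·) (congrArg (x 29) (by first | ring1 | (rw [← sub_eq_zero]; ring_nf; simp [h2, h4, h6, h8, h10, h12, h14, h16]))) (congrArg₂ (· * ·) (congrArg (x 30) (by first | ring1 | (rw [← sub_eq_zero]; ring_nf; simp [h2, h4, h6, h8, h10, h12, h14, h16]))) (congrArg₂ (· * ·) (congrArg (x 31) (by first | ring1 | (rw [← sub_eq_zero]; ring_nf; simp [h2, h4, h6, h8, h10, h12, h14, h16]))) (congrArg₂ (· * ·) (congrArg (x 32) (by first | ring1 | (rw [← sub_eq_zero]; ring_nf; simp [h2, h4, h6, h8, h10, h12, h14, h16]))) (congrArg₂ (· * ·) (congrArg (x 33) (by first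 | ring1 | (rw [← sub_eq_zero]; ring_nf; simp [h2, h4, h6, h8, h10, h12, h14, h16]))) (congrArg₂ (· * ·) (congrArg (x 34) (by first | ring1 | (rw [← sub_eq_zero]; ring_nf; simp [h2, h4, h6, h8, h10, h12, h14, h16]))) (congrArg₂ (· * ·) (congrArg (x 35) (by first | ring1 | (rw [← sub_eq_zero]; ring_nf; simp [h2, h4, h6, h8, h10, h12, h14, h16]))) (congrArg₂ (· * ·) (congrArg (x 36) (by first | ring1 | (rw [← sub_eq_zero]; ring_nf; simp [h2, h4, h6, h8, h10, h12, h14, h16]))) (congrArg₂ (· * ·) (congrArg (x 37) (by first | ring1 | (rw [← sub_eq_zero]; ring_nf; simp [h2, h4, h6, h8, h10, h12, h14, h16]))) (congrArg₂ (· * ·) (congrArg (x 38) (by first | ring1 | (rw [← sub_eq_zero]; ring_nf; simp [h2, h4, h6, h8, h10, h12, h14, h16]))) (congrArg₂ (· * ·) (congrArg (x 39)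 (by first | ring1 | (rw [← sub_eq_zero]; ring_nf; simp [h2, h4, h6, h8, h10, h12, h14, h16]))) (congrArg₂ (· * ·) (congrArg (x 40) (by first | ring1 | (rw [← sub_eq_zero]; ring_nf; simp [h2, h4, h6, h8, h10, h12, h14, h16]))) (congrArg₂ (· * ·) (congrArg (x 41) (by first | ring1 | (rw [← sub_eq_zero]; ring_nf; simp [h2, h4, h6, h8, h10, h12, h14, h16]))) (congrArg₂ (· * ·) (congrArg (x 42) (by first | ring1 | (rw [← sub_eq_zero]; ring_nf; simp [h2, h4, h6, h8, h10, h12, h14, h16]))) (congrArg₂ (· * ·) (congrArg (x 43) (by first | ring1 | (rw [← sub_eq_zero]; ring_nf; simp [h2, h4, h6, h8, h10, h12, h14, h16]))) (congrArg₂ (· * ·) (congrArg (x 44) (by first | ring1 | (rw [← sub_eq_zero]; ring_nf; simp [h2, h4, h6, h8, h10, h12, h14, h16]))) (congrArg₂ (· * ·) (congrArg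 (x 45) (by first | ring1 | (rw [← sub_eq_zero]; ring_nf; simp [h2, h4, h6, h8, h10, h12, h14, h16]))) (congrArg₂ (· * ·) (congrArg (x 46) (by first | ring1 | (rw [← sub_eq_zero]; ring_nf; simp [h2, h4, h6, h8, h10, h12, h14, h16]))) (congrArg₂ (· * ·) (congrArg (x 47) (by first | ring1 | (rw [← sub_eq_zero]; ring_nf; simp [h2, h4, h6, h8, h10, h12, h14, h16]))) (rfl))))))))))))))))))))))))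

set_option maxHeartbeats 4000000 in
theorem E_fix (t1 u1 v2 t3 u3 v4 t5 u5 v6 t7 u7 v8 : K) :
    d.τ.s (E d.f t1 u1 v2 t3 u3 v4 t5 u5 v6 t7 u7 v8) = E d.f t1 u1 v2 t3 u3 v4 t5 u5 v6 t7 u7 v8 := by
  have h2 : (2 : K) = 0 := CharTwo.two_eq_zero
  have hθ := d.hθ
  unfold E
  rw [s_W]
  apply W_congr
  · (try simp only [map_add, map_mul, map_pow]) <;> linear_combination (1) * hθ v8
  · (try simp only [map_add, map_mul, map_pow]) <;> linear_combination (1) * hθ t1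
  · (try simp only [map_add, map_mul, map_pow]) <;> linear_combination ((d.f (d.f v8))^2) * hθ t1 + (1) * hθ t7 + (t1) * hθ v8
  · (try simp only [map_add, map_mul, map_pow]) <;> linear_combination (0 : K) * h2
  · (try simp only [map_add, map_mul, map_pow]) <;> linear_combination (t1*(d.f t1)) * h2 + (2*(d.f t1)) * hθ t1 + (1) * hθ u1
  · (try simp only [map_add, map_mul, map_pow]) <;> linear_combination (t1*v8*(d.f t1)) * h2 + ((d.f t1)) * hθ t7 + (2*(d.f t1)*(d.f (d.f v8))^2) * hθ t1 + ((d.f (d.f v8))^2) * hθ u1 + (u1 + 2*t1*(d.f t1)) * hθ v8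
  · (try simp only [map_add, map_mul, map_pow]) <;> linear_combination ((d.f t1)^2) * hθ t1
  · (try simp only [map_add, map_mul, map_pow]) <;> linear_combination ((d.f t1)^2) * hθ t7 + ((d.f t1)^2*(d.f (d.f v8))^2) * hθ t1 + ((d.f u1)^2 + t1*(d.f t1)^2) * hθ v8 + (1) * hθ t3
  · (try simp only [map_add, map_mul, map_pow]) <;> linear_combination (t1*u1*v8*(d.f t1) + t1^2*v8*(d.f t1)^2) * h2 + ((d.f t1)^2*(d.f (d.f t7))^2 + 2*t1*(d.f t1)^2*(d.f (d.f v8))^2 + 2*(d.f t1)*(d.f (d.f u1))^2*(d.f (d.f v8))^2 + 2*(d.f t1)^2*(d.f (d.f t1))^2*(d.f (d.f v8))^2) * hθ t1 + ((d.f u1)^2 + t1*(d.f t1)^2) * hθ t7 + (u1*(d.f (d.f v8))^2 + 2*t1*(d.f t1)*(d.f (d.f v8))^2 + (d.f (d.f u1))^2*(d.f (d.f v8))^2) * hθ u1 + (1) * hθ v2 + (u1^2 + 2*t1*u1*(d.f t1) + 2*t1^2*(d.f t1)^2) * hθ v8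
  · (try simp only [map_add, map_mul, map_pow]) <;> linear_combination (0 : K) * h2
  · (try simp only [map_add, map_mul, map_pow]) <;> linear_combination ((d.f t1)*(d.f v8)) * h2
  · (try simp only [map_add, map_mul, map_pow]) <;> linear_combination (t1*(d.f t7) + u1*(d.f v8) + 2*t1*(d.f t1)*(d.f v8)) * h2 + (2*(d.f v8)) * hθ u1 + (2*(d.f t7) + 4*(d.f t1)*(d.f v8)) * hθ t1
  · (try simp only [map_add, map_mul, map_pow]) <;> linear_combination (t7*(d.f t7) + (d.f t5)*(d.f v8) + t1*v8*(d.f t7) + t7*(d.f t1)*(d.f v8) + u1*v8*(d.f v8) + 2*t1*v8*(d.f t1)*(d.f v8)) * h2 + (2*(d.f t7) + 2*(d.f t1)*(d.f v8)) * hθ t7 + (2*(d.f v8)*(d.f (d.f v8))^2) * hθ u1 + (2*(d.f t7)*(d.f (d.f v8))^2 + 4*(d.f t1)*(d.f v8)*(d.f (d.f v8))^2) * hθ t1 + ((d.f t3) + 2*t1*(d.f t7) + 2*u1*(d.f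 v8) + 4*t1*(d.f t1)*(d.f v8)) * hθ v8 + (1) * hθ u7
  · (try simp only [map_add, map_mul, map_pow]) <;> linear_combination (u1*(d.f t7) + t1*(d.f t1)*(d.f t7) + u1*(d.f t1)*(d.f v8) + (d.f u1)^2*(d.f v8) + t1*(d.f t1)^2*(d.f v8)) * h2 + (2*(d.f t7) + 2*(d.f t1)*(d.f v8)) * hθ u1 + (2*(d.f t1)*(d.f t7) + 2*(d.f t1)^2*(d.f v8)) * hθ t1
  · (try simp only [map_add, map_mul, map_pow]) <;> linear_combination (t3*(d.f v8) + (d.f t5)*(d.f t7) + u1*v8*(d.f t7) + (d.f t1)*(d.f t5)*(d.f v8) + t1*v8*(d.f t1)*(d.f t7) + u1*v8*(d.f t1)*(d.f v8) + v8*(d.f u1)^2*(d.f v8) + t1*v8*(d.f t1)^2*(d.f v8)) * h2 + (2*(d.f v8)) * hθ t3 + (2*(d.f t7)*(d.f (d.f v8))^2 + 2*(d.f t1)*(d.f v8)*(d.f (d.f v8))^2) * hθ u1 + (2*(d.f t1)*(d.f t7)*(d.f (d.f v8))^2 + 2*(d.f t1)^2*(d.f v8)*(d.f (d.f v8))^2)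 * hθ t1 + ((d.f v2) + 2*u1*(d.f t7) + 2*t1*(d.f t1)*(d.f t7) + 2*u1*(d.f t1)*(d.f v8) + 2*(d.f u1)^2*(d.f v8) + 2*t1*(d.f t1)^2*(d.f v8)) * hθ v8
  · (try simp only [map_add, map_mul, map_pow]) <;> linear_combination (v2*(d.f v8) + t1*(d.f t5)*(d.f t7) + t7*u1*(d.f t7) + u1*(d.f t5)*(d.f v8) + t1*t7*(d.f t1)*(d.f t7) + 2*t1*(d.f t1)*(d.f t5)*(d.f v8) + t7*u1*(d.f t1)*(d.f v8) + t7*(d.f u1)^2*(d.f v8) + t1*t7*(d.f t1)^2*(d.f v8)) * h2 + (2*t7*(d.f t7) + 2*(d.f t5)*(d.f v8) + 2*t7*(d.f t1)*(d.f v8)) * hθ u1 + (2*(d.f t5)*(d.f t7) + 4*(d.f t1)*(d.f t5)*(d.f v8) + 2*(d.f t1)*(d.f t7)*(d.f (d.f t7))^2 + 2*(d.f t1)^2*(d.f v8)*(d.f (d.f t7))^2) * hθ t1 + (2*(d.f v8)) * hθ v2 + ((d.f v2) + 2*t1*(d.f t1)*(d.f t7) + 2*(d.f t7)*(d.f (d.f u1))^2 + 2*(d.f u1)^2*(d.f v8) + 2*t1*(d.f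 t1)^2*(d.f v8) + 2*(d.f t1)*(d.f v8)*(d.f (d.f u1))^2) * hθ t7
  · (try simp only [map_add, map_mul, map_pow]) <;> linear_combination (t3*(d.f t3) + v2*(d.f t7) + t1*t3*(d.f t7) + t3*u1*(d.f v8) + u1*(d.f t5)*(d.f t7) + v2*(d.f t1)*(d.f v8) + 2*t1*t3*(d.f t1)*(d.f v8) + t1*(d.f t1)*(d.f t5)*(d.f t7) + u1*(d.f t1)*(d.f t5)*(d.f v8) + (d.f t5)*(d.f u1)^2*(d.f v8) + t1*(d.f t1)^2*(d.f t5)*(d.f v8)) * h2 + (2*t3*(d.f v8) + 2*(d.f t5)*(d.f t7) + 2*(d.f t1)*(d.f t5)*(d.f v8)) * hθ u1 + (2*(d.f t1)*(d.f t5)*(d.f t7) + 2*(d.f t7)*(d.f (d.f t3))^2 + 2*(d.f t1)^2*(d.f t5)*(d.f v8) + 4*(d.f t1)*(d.f v8)*(d.f (d.f t3))^2) * hθ t1 + (2*(d.f t7) + 2*(d.f t1)*(d.f v8)) * hθ v2 + (2*(d.f t3) + 2*t1*(d.f t7) + 4*t1*(d.f t1)*(d.f v8) + 2*(d.f v8)*(d.f (d.f u1))^2) * hθ t3 + (1) * hθ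 u3
  · (try simp only [map_add, map_mul, map_pow]) <;> linear_combination (t1*(d.f t7)^2 + (d.f t7)*(d.f (d.f t1))*(d.f (d.f t5)) + (d.f u1)*(d.f v8)*(d.f (d.f t5)) + t1*(d.f t1)*(d.f t7)*(d.f v8) + (d.f t7)*(d.f u1)*(d.f v8)*(d.f (d.f t1)) + (d.f u1)^2*(d.f v8)^2 + t1*(d.f t1)^2*(d.f v8)^2) * h2 + (2*(d.f t7)^2 + 2*(d.f t1)*(d.f t7)*(d.f v8) + 2*(d.f t1)^2*(d.f v8)^2) * hθ t1 + (1) * hθ t5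
  · (try simp only [map_add, map_mul, map_pow]) <;> linear_combination (t3*(d.f v8)^2 + (d.f u7)*(d.f v8)*(d.f (d.f t3)) + t1*v8*(d.f t7)^2 + t7*(d.f t1)*(d.f t7)*(d.f v8) + v8*(d.f t7)*(d.f (d.f t1))*(d.f (d.f t5)) + v8*(d.f u1)*(d.f v8)*(d.f (d.f t5)) + t1*v8*(d.f t1)*(d.f t7)*(d.f v8) + t7*(d.f t1)^2*(d.f v8)^2 + v8*(d.f t7)*(d.f u1)*(d.f v8)*(d.f (d.f t1)) + v8*(d.f u1)^2*(d.f v8)^2 + t1*v8*(d.f t1)^2*(d.f v8)^2) * h2 + (2*(d.f v8)^2) * hθ t3 + ((d.f t7)^2 + 2*(d.f t1)*(d.f t7)*(d.f v8) + 2*(d.f t1)^2*(d.f v8)^2) * hθ t7 + (t5 + 2*t1*(d.f t7)^2 + 2*(d.f t7)*(d.f (d.f t1))*(d.f (d.f t5)) + 2*(d.f u1)*(d.f v8)*(d.f (d.f t5)) + 2*t1*(d.f t1)*(d.f t7)*(d.f v8) + 2*(d.f t7)*(d.f u1)*(d.f v8)*(d.f (d.f t1)) + 2*(d.f u1)^2*(d.f v8)^2 + 2*t1*(d.f t1)^2*(d.f v8)^2) * hθ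 v8 + (2*(d.f t7)^2*(d.f (d.f v8))^2 + 2*(d.f t1)*(d.f t7)*(d.f v8)*(d.f (d.f v8))^2 + 2*(d.f t1)^2*(d.f v8)^2*(d.f (d.f v8))^2) * hθ t1 + ((d.f (d.f v8))^2) * hθ t5
  · (try simp only [map_add, map_mul, map_pow]) <;> linear_combination (v2*(d.f v8)^2 + (d.f v8)*(d.f (d.f v2))*(d.f (d.f v6)) + t1*t7*(d.f t7)^2 + t1*v8*(d.f t3)*(d.f t7) + t7*(d.f t7)*(d.f (d.f t1))*(d.f (d.f t5)) + t7*(d.f u1)*(d.f v8)*(d.f (d.f t5)) + u1*v8*(d.f t3)*(d.f v8) + t1^2*v8*(d.f t7)^2 + t1*t7*(d.f t1)*(d.f t7)*(d.f v8) + t1*u1*v8*(d.f t7)*(d.f v8) + t1*v8*(d.f t1)*(d.f t3)*(d.f v8) + t7*(d.f t7)*(d.f u1)*(d.f v8)*(d.f (d.f t1)) + t7*(d.f u1)^2*(d.f v8)^2 + u1^2*v8*(d.f v8)^2 + 2*t1^2*v8*(d.f t1)*(d.f t7)*(d.f v8) + t1*t7*(d.f t1)^2*(d.f v8)^2 + 2*t1*u1*v8*(d.f t1)*(d.f v8)^2 + 2*t1^2*v8*(d.f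 t1)^2*(d.f v8)^2) * h2 + (2*(d.f v8)^2) * hθ v2 + (t5 + 2*t1*(d.f t7)^2 + 2*(d.f t7)*(d.f (d.f t1))*(d.f (d.f t5)) + 2*(d.f u1)*(d.f v8)*(d.f (d.f t5)) + 2*t1*(d.f t1)*(d.f t7)*(d.f v8) + 2*(d.f t7)*(d.f u1)*(d.f v8)*(d.f (d.f t1)) + 2*(d.f u1)^2*(d.f v8)^2 + 2*t1*(d.f t1)^2*(d.f v8)^2) * hθ t7 + (2*(d.f t3)*(d.f t7)*(d.f (d.f v8))^2 + 2*(d.f t7)^2*(d.f (d.f t7))^2 + 2*t1*(d.f t7)^2*(d.f (d.f v8))^2 + 2*(d.f t1)*(d.f t3)*(d.f v8)*(d.f (d.f v8))^2 + 2*(d.f t1)*(d.f t7)*(d.f v8)*(d.f (d.f t7))^2 + 4*t1*(d.f t1)*(d.f t7)*(d.f v8)*(d.f (d.f v8))^2 + 2*(d.f t1)^2*(d.f v8)^2*(d.f (d.f t7))^2 + 2*(d.f t7)^2*(d.f (d.f t1))^2*(d.f (d.f v8))^2 + 2*(d.f t7)*(d.f v8)*(d.f (d.f u1))^2*(d.f (d.f v8))^2 + 4*t1*(d.f t1)^2*(d.f v8)^2*(d.f (d.f v8))^2 + 4*(d.f t1)*(d.f t7)*(d.f v8)*(d.f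 (d.f t1))^2*(d.f (d.f v8))^2 + 4*(d.f t1)*(d.f v8)^2*(d.f (d.f u1))^2*(d.f (d.f v8))^2 + 4*(d.f t1)^2*(d.f v8)^2*(d.f (d.f t1))^2*(d.f (d.f v8))^2) * hθ t1 + ((d.f (d.f t7))^2) * hθ t5 + (2*(d.f t3)*(d.f v8)*(d.f (d.f v8))^2 + 2*t1*(d.f t7)*(d.f v8)*(d.f (d.f v8))^2 + 2*u1*(d.f v8)^2*(d.f (d.f v8))^2 + 4*t1*(d.f t1)*(d.f v8)^2*(d.f (d.f v8))^2 + 2*(d.f v8)^2*(d.f (d.f u1))^2*(d.f (d.f v8))^2) * hθ u1 + ((d.f t3)^2 + 2*t1*(d.f t3)*(d.f t7) + 2*u1*(d.f t3)*(d.f v8) + 2*t1^2*(d.f t7)^2 + 2*t1*u1*(d.f t7)*(d.f v8) + 2*t1*(d.f t1)*(d.f t3)*(d.f v8) + 2*u1^2*(d.f v8)^2 + 4*t1^2*(d.f t1)*(d.f t7)*(d.f v8) + 4*t1*u1*(d.f t1)*(d.f v8)^2 + 4*t1^2*(d.f t1)^2*(d.f v8)^2) * hθ v8 + (1) * hθ v6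
  · (try simp only [map_add, map_mul, map_pow]) <;> linear_combination (t3*(d.f t3)*(d.f v8) + u1*u7*(d.f t7) + v2*(d.f t7)*(d.f v8) + t1*t3*(d.f t7)*(d.f v8) + t1*u7*(d.f t1)*(d.f t7) + t1*(d.f t5)*(d.f t7)^2 + t3*u1*(d.f v8)^2 + t7*u1*(d.f t7)^2 + u1*u7*(d.f t1)*(d.f v8) + 2*u1*(d.f t5)*(d.f t7)*(d.f v8) + u7*(d.f u1)^2*(d.f v8) + v2*(d.f t1)*(d.f v8)^2 + (d.f t1)*(d.f t3)*(d.f t5)*(d.f v8) + (d.f t5)*(d.f t7)*(d.f (d.f t1))*(d.f (d.f t5)) + (d.f t5)*(d.f u1)*(d.f v8)*(d.f (d.f t5)) + 2*t1*t3*(d.f t1)*(d.f v8)^2 + t1*t7*(d.f t1)*(d.f t7)^2 + t1*u7*(d.f t1)^2*(d.f v8) + 3*t1*(d.f t1)*(d.f t5)*(d.f t7)*(d.f v8) + t7*u1*(d.f t1)*(d.f t7)*(d.f v8) + t7*(d.f t7)*(d.f u1)^2*(d.f v8) + 3*u1*(d.f t1)*(d.f t5)*(d.f v8)^2 + (d.f t5)*(d.f t7)*(d.f u1)*(d.f v8)*(d.f (d.f t1))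 + 2*(d.f t5)*(d.f u1)^2*(d.f v8)^2 + t1*t7*(d.f t1)^2*(d.f t7)*(d.f v8) + 3*t1*(d.f t1)^2*(d.f t5)*(d.f v8)^2) * h2 + (2*t3*(d.f v8)^2 + 2*t7*(d.f t7)^2 + 4*(d.f t5)*(d.f t7)*(d.f v8) + 2*(d.f t7)*(d.f (d.f u7))^2 + 2*t7*(d.f t1)*(d.f t7)*(d.f v8) + 6*(d.f t1)*(d.f t5)*(d.f v8)^2 + 2*(d.f t1)*(d.f v8)*(d.f (d.f u7))^2) * hθ u1 + ((d.f t7)*(d.f v2) + 2*t1*(d.f t1)*(d.f t7)^2 + 2*(d.f t7)^2*(d.f (d.f u1))^2 + 2*(d.f t7)*(d.f u1)^2*(d.f v8) + 2*t1*(d.f t1)^2*(d.f t7)*(d.f v8) + 2*(d.f t1)*(d.f t7)*(d.f v8)*(d.f (d.f u1))^2) * hθ t7 + (2*(d.f t5)*(d.f t7)^2 + 6*(d.f t1)*(d.f t5)*(d.f t7)*(d.f v8) + 2*(d.f t1)*(d.f t7)*(d.f (d.f u7))^2 + 2*(d.f t7)*(d.f v8)*(d.f (d.f t3))^2 + 6*(d.f t1)^2*(d.f t5)*(d.f v8)^2 + 2*(d.f t1)^2*(d.f v8)*(d.f (d.f u7))^2 + 2*(d.f t1)*(d.f t7)^2*(d.f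 (d.f t7))^2 + 4*(d.f t1)*(d.f v8)^2*(d.f (d.f t3))^2 + 2*(d.f t1)^2*(d.f t7)*(d.f v8)*(d.f (d.f t7))^2) * hθ t1 + ((d.f v2) + 2*u1*(d.f t7) + 2*t1*(d.f t1)*(d.f t7) + 2*u1*(d.f t1)*(d.f v8) + 2*(d.f u1)^2*(d.f v8) + 2*t1*(d.f t1)^2*(d.f v8)) * hθ u7 + ((d.f t5)) * hθ t5 + (2*(d.f t7)*(d.f v8) + 2*(d.f t1)*(d.f v8)^2) * hθ v2 + (2*(d.f t3)*(d.f v8) + 2*t1*(d.f t7)*(d.f v8) + 4*t1*(d.f t1)*(d.f v8)^2 + 2*(d.f v8)^2*(d.f (d.f u1))^2) * hθ t3 + (1) * hθ u5 + ((d.f v8)) * hθ u3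
  · (try simp only [map_add, map_mul, map_pow]) <;> linear_combination (t3*t5 + v2*(d.f t7)^2 + (d.f t7)*(d.f (d.f v2))*(d.f (d.f v4)) + (d.f (d.f t3))*(d.f (d.f t5))*(d.f (d.f v4)) + t1*t3*(d.f t7)^2 + t3*(d.f t7)*(d.f (d.f t1))*(d.f (d.f t5)) + t3*(d.f u1)*(d.f v8)*(d.f (d.f t5)) + u1*v8*(d.f t7)*(d.f v2) + v2*(d.f t1)*(d.f t7)*(d.f v8) + (d.f t7)*(d.f (d.f t3))*(d.f (d.f t5))*(d.f (d.f v2)) + t1*t3*(d.f t1)*(d.f t7)*(d.f v8) + t1*v8*(d.f t1)*(d.f t7)*(d.f v2) + t3*(d.f t7)*(d.f u1)*(d.f v8)*(d.f (d.f t1)) + t3*(d.f u1)^2*(d.f v8)^2 + u1^2*v8*(d.f t7)^2 + v2*(d.f t1)^2*(d.f v8)^2 + v8*(d.f u1)^2*(d.f v2)*(d.f v8) + t1*t3*(d.f t1)^2*(d.f v8)^2 + 2*t1*u1*v8*(d.f t1)*(d.f t7)^2 + u1^2*v8*(d.f t1)*(d.f t7)*(d.f v8) + u1*v8*(d.f t7)*(d.f u1)^2*(d.f v8) + t1^2*v8*(d.f t1)^2*(d.f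 t7)^2 + 2*t1*u1*v8*(d.f t1)^2*(d.f t7)*(d.f v8) + t1*v8*(d.f t1)*(d.f t7)*(d.f u1)^2*(d.f v8) + u1^2*v8*(d.f t1)^2*(d.f v8)^2 + v8*(d.f u1)^4*(d.f v8)^2 + t1^2*v8*(d.f t1)^3*(d.f t7)*(d.f v8) + 2*t1*u1*v8*(d.f t1)^3*(d.f v8)^2 + t1^2*v8*(d.f t1)^4*(d.f v8)^2) * h2 + (2*(d.f t7)^2 + 2*(d.f t1)*(d.f t7)*(d.f v8) + 2*(d.f t1)^2*(d.f v8)^2) * hθ v2 + (2*(d.f (d.f t5))^2 + 2*t1*(d.f t7)^2 + 2*(d.f t7)*(d.f (d.f t1))*(d.f (d.f t5)) + 2*(d.f u1)*(d.f v8)*(d.f (d.f t5)) + 2*t1*(d.f t1)*(d.f t7)*(d.f v8) + 2*(d.f t7)*(d.f u1)*(d.f v8)*(d.f (d.f t1)) + 2*(d.f u1)^2*(d.f v8)^2 + 2*t1*(d.f t1)^2*(d.f v8)^2) * hθ t3 + (2*(d.f t7)^2*(d.f (d.f t3))^2 + 2*(d.f t1)*(d.f t7)*(d.f v2)*(d.f (d.f v8))^2 + 2*(d.f t1)*(d.f t7)*(d.f v8)*(d.f (d.f t3))^2 + 2*(d.f t1)^2*(d.f v8)^2*(d.f (d.f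 t3))^2 + 2*t1*(d.f t1)^2*(d.f t7)^2*(d.f (d.f v8))^2 + 4*(d.f t1)*(d.f t7)^2*(d.f (d.f u1))^2*(d.f (d.f v8))^2 + 2*(d.f t1)*(d.f t7)*(d.f u1)^2*(d.f v8)*(d.f (d.f v8))^2 + 2*t1*(d.f t1)^3*(d.f t7)*(d.f v8)*(d.f (d.f v8))^2 + 2*(d.f t1)^2*(d.f t7)^2*(d.f (d.f t1))^2*(d.f (d.f v8))^2 + 4*(d.f t1)^2*(d.f t7)*(d.f v8)*(d.f (d.f u1))^2*(d.f (d.f v8))^2 + 2*t1*(d.f t1)^4*(d.f v8)^2*(d.f (d.f v8))^2 + 2*(d.f t1)^3*(d.f t7)*(d.f v8)*(d.f (d.f t1))^2*(d.f (d.f v8))^2 + 4*(d.f t1)^3*(d.f v8)^2*(d.f (d.f u1))^2*(d.f (d.f v8))^2 + 2*(d.f t1)^4*(d.f v8)^2*(d.f (d.f t1))^2*(d.f (d.f v8))^2) * hθ t1 + (2*(d.f t7)*(d.f v2)*(d.f (d.f v8))^2 + 2*u1*(d.f t7)^2*(d.f (d.f v8))^2 + 4*t1*(d.f t1)*(d.f t7)^2*(d.f (d.f v8))^2 + 2*u1*(d.f t1)*(d.f t7)*(d.f v8)*(d.f (d.f v8))^2 + 2*(d.f t7)^2*(d.f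 (d.f u1))^2*(d.f (d.f v8))^2 + 2*(d.f t7)*(d.f u1)^2*(d.f v8)*(d.f (d.f v8))^2 + 4*t1*(d.f t1)^2*(d.f t7)*(d.f v8)*(d.f (d.f v8))^2 + 2*u1*(d.f t1)^2*(d.f v8)^2*(d.f (d.f v8))^2 + 2*(d.f t1)*(d.f t7)*(d.f v8)*(d.f (d.f u1))^2*(d.f (d.f v8))^2 + 4*t1*(d.f t1)^3*(d.f v8)^2*(d.f (d.f v8))^2 + 2*(d.f t1)^2*(d.f v8)^2*(d.f (d.f u1))^2*(d.f (d.f v8))^2) * hθ u1 + ((d.f v2)^2 + 2*u1*(d.f t7)*(d.f v2) + 2*t1*(d.f t1)*(d.f t7)*(d.f v2) + 2*u1^2*(d.f t7)^2 + 2*(d.f u1)^2*(d.f v2)*(d.f v8) + 4*t1*u1*(d.f t1)*(d.f t7)^2 + 2*u1^2*(d.f t1)*(d.f t7)*(d.f v8) + 2*u1*(d.f t7)*(d.f u1)^2*(d.f v8) + 2*t1^2*(d.f t1)^2*(d.f t7)^2 + 4*t1*u1*(d.f t1)^2*(d.f t7)*(d.f v8) + 2*t1*(d.f t1)*(d.f t7)*(d.f u1)^2*(d.f v8) + 2*u1^2*(d.f t1)^2*(d.f v8)^2 + 2*(d.f u1)^4*(d.f v8)^2 + 2*t1^2*(d.f t1)^3*(d.f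 t7)*(d.f v8) + 4*t1*u1*(d.f t1)^3*(d.f v8)^2 + 2*t1^2*(d.f t1)^4*(d.f v8)^2) * hθ v8 + (1) * hθ v4 + (2*t3) * hθ t5
  · (try simp only [map_add, map_mul, map_pow]) <;> linear_combination (t5*v2 + (d.f u3)*(d.f (d.f t5))*(d.f (d.f v2)) + t1*t3*(d.f t3)*(d.f t7) + t1*v2*(d.f t7)^2 + t3*u1*(d.f t3)*(d.f v8) + t7*u1*(d.f t7)*(d.f v2) + v2*(d.f t7)*(d.f (d.f t1))*(d.f (d.f t5)) + v2*(d.f u1)*(d.f v8)*(d.f (d.f t5)) + t1^2*t3*(d.f t7)^2 + t1*t3*u1*(d.f t7)*(d.f v8) + t1*t3*(d.f t1)*(d.f t3)*(d.f v8) + t1*t7*(d.f t1)*(d.f t7)*(d.f v2) + t1*v2*(d.f t1)*(d.f t7)*(d.f v8) + t3*u1^2*(d.f v8)^2 + t7*u1^2*(d.f t7)^2 + t7*(d.f u1)^2*(d.f v2)*(d.f v8) + v2*(d.f t7)*(d.f u1)*(d.f v8)*(d.f (d.f t1)) + v2*(d.f u1)^2*(d.f v8)^2 + 2*t1^2*t3*(d.f t1)*(d.f t7)*(d.f v8) + 2*t1*t3*u1*(d.f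 t1)*(d.f v8)^2 + 2*t1*t7*u1*(d.f t1)*(d.f t7)^2 + t1*v2*(d.f t1)^2*(d.f v8)^2 + t7*u1^2*(d.f t1)*(d.f t7)*(d.f v8) + t7*u1*(d.f t7)*(d.f u1)^2*(d.f v8) + 2*t1^2*t3*(d.f t1)^2*(d.f v8)^2 + t1^2*t7*(d.f t1)^2*(d.f t7)^2 + 2*t1*t7*u1*(d.f t1)^2*(d.f t7)*(d.f v8) + t1*t7*(d.f t1)*(d.f t7)*(d.f u1)^2*(d.f v8) + t7*u1^2*(d.f t1)^2*(d.f v8)^2 + t7*(d.f u1)^4*(d.f v8)^2 + t1^2*t7*(d.f t1)^3*(d.f t7)*(d.f v8) + 2*t1*t7*u1*(d.f t1)^3*(d.f v8)^2 + t1^2*t7*(d.f t1)^4*(d.f v8)^2) * h2 + (2*t5 + 2*t1*(d.f t7)^2 + 2*(d.f t7)*(d.f (d.f t1))*(d.f (d.f t5)) + 2*(d.f u1)*(d.f v8)*(d.f (d.f t5)) + 2*t1*(d.f t1)*(d.f t7)*(d.f v8) + 2*(d.f t7)*(d.f u1)*(d.f v8)*(d.f (d.f t1)) + 2*(d.f u1)^2*(d.f v8)^2 + 2*t1*(d.f t1)^2*(d.f v8)^2) * hθ v2 + (2*(d.f t3)*(d.f t7)*(d.f (d.f t3))^2 + 2*(d.f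 t7)^2*(d.f (d.f v2))^2 + 2*t1*(d.f t7)^2*(d.f (d.f t3))^2 + 2*(d.f t1)*(d.f t3)*(d.f v8)*(d.f (d.f t3))^2 + 2*(d.f t1)*(d.f t7)*(d.f v2)*(d.f (d.f t7))^2 + 2*(d.f t1)*(d.f t7)*(d.f v8)*(d.f (d.f v2))^2 + 4*t1*(d.f t1)*(d.f t7)*(d.f v8)*(d.f (d.f t3))^2 + 2*(d.f t1)^2*(d.f v8)^2*(d.f (d.f v2))^2 + 2*(d.f t7)^2*(d.f (d.f t1))^2*(d.f (d.f t3))^2 + 2*(d.f t7)*(d.f v8)*(d.f (d.f t3))^2*(d.f (d.f u1))^2 + 2*t1*(d.f t1)^2*(d.f t7)^2*(d.f (d.f t7))^2 + 4*t1*(d.f t1)^2*(d.f v8)^2*(d.f (d.f t3))^2 + 4*(d.f t1)*(d.f t7)^2*(d.f (d.f t7))^2*(d.f (d.f u1))^2 + 2*(d.f t1)*(d.f t7)*(d.f u1)^2*(d.f v8)*(d.f (d.f t7))^2 + 4*(d.f t1)*(d.f t7)*(d.f v8)*(d.f (d.f t1))^2*(d.f (d.f t3))^2 + 4*(d.f t1)*(d.f v8)^2*(d.f (d.f t3))^2*(d.f (d.f u1))^2 + 2*t1*(d.f t1)^3*(d.f t7)*(d.f v8)*(d.f (d.f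 t7))^2 + 2*(d.f t1)^2*(d.f t7)^2*(d.f (d.f t1))^2*(d.f (d.f t7))^2 + 4*(d.f t1)^2*(d.f t7)*(d.f v8)*(d.f (d.f t7))^2*(d.f (d.f u1))^2 + 4*(d.f t1)^2*(d.f v8)^2*(d.f (d.f t1))^2*(d.f (d.f t3))^2 + 2*t1*(d.f t1)^4*(d.f v8)^2*(d.f (d.f t7))^2 + 2*(d.f t1)^3*(d.f t7)*(d.f v8)*(d.f (d.f t1))^2*(d.f (d.f t7))^2 + 4*(d.f t1)^3*(d.f v8)^2*(d.f (d.f t7))^2*(d.f (d.f u1))^2 + 2*(d.f t1)^4*(d.f v8)^2*(d.f (d.f t1))^2*(d.f (d.f t7))^2) * hθ t1 + (2*(d.f (d.f v2))^2) * hθ t5 + ((d.f t3)^2 + 2*t1*(d.f t3)*(d.f t7) + 2*t1^2*(d.f t7)^2 + 2*t1*(d.f t1)*(d.f t3)*(d.f v8) + 2*(d.f t3)*(d.f v8)*(d.f (d.f u1))^2 + 4*t1^2*(d.f t1)*(d.f t7)*(d.f v8) + 2*t1*(d.f t7)*(d.f v8)*(d.f (d.f u1))^2 + 4*t1^2*(d.f t1)^2*(d.f v8)^2 + 4*t1*(d.f t1)*(d.f v8)^2*(d.f (d.f u1))^2 + 2*(d.f v8)^2*(d.f (d.f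 u1))^4) * hθ t3 + ((d.f v2)^2 + 2*t1*(d.f t1)*(d.f t7)*(d.f v2) + 2*(d.f t7)*(d.f v2)*(d.f (d.f u1))^2 + 2*(d.f u1)^2*(d.f v2)*(d.f v8) + 2*t1^2*(d.f t1)^2*(d.f t7)^2 + 4*t1*(d.f t1)*(d.f t7)^2*(d.f (d.f u1))^2 + 2*t1*(d.f t1)*(d.f t7)*(d.f u1)^2*(d.f v8) + 2*(d.f t7)^2*(d.f (d.f u1))^4 + 2*(d.f t7)*(d.f u1)^2*(d.f v8)*(d.f (d.f u1))^2 + 2*(d.f u1)^4*(d.f v8)^2 + 2*t1^2*(d.f t1)^3*(d.f t7)*(d.f v8) + 4*t1*(d.f t1)^2*(d.f t7)*(d.f v8)*(d.f (d.f u1))^2 + 2*(d.f t1)*(d.f t7)*(d.f v8)*(d.f (d.f u1))^4 + 2*t1^2*(d.f t1)^4*(d.f v8)^2 + 4*t1*(d.f t1)^3*(d.f v8)^2*(d.f (d.f u1))^2 + 2*(d.f t1)^2*(d.f v8)^2*(d.f (d.f u1))^4) * hθ t7 + (2*t3*(d.f t3)*(d.f v8) + 2*t7*(d.f t7)*(d.f v2) + 2*t1*t3*(d.f t7)*(d.f v8) + 2*t3*u1*(d.f v8)^2 + 2*t7*u1*(d.f t7)^2 + 4*t1*t3*(d.f t1)*(d.f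 v8)^2 + 4*t1*t7*(d.f t1)*(d.f t7)^2 + 2*t3*(d.f v8)^2*(d.f (d.f u1))^2 + 2*t7*u1*(d.f t1)*(d.f t7)*(d.f v8) + 2*t7*(d.f t7)^2*(d.f (d.f u1))^2 + 2*t7*(d.f t7)*(d.f u1)^2*(d.f v8) + 4*t1*t7*(d.f t1)^2*(d.f t7)*(d.f v8) + 2*t7*u1*(d.f t1)^2*(d.f v8)^2 + 2*t7*(d.f t1)*(d.f t7)*(d.f v8)*(d.f (d.f u1))^2 + 4*t1*t7*(d.f t1)^3*(d.f v8)^2 + 2*t7*(d.f t1)^2*(d.f v8)^2*(d.f (d.f u1))^2) * hθ u1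
  · (try simp only [map_add, map_mul, map_pow]) <;> linear_combination (t3*t5*t7 + t5*v2*v8 + t5*(d.f t5)^2 + v2*(d.f u7)^2 + (d.f t5)*(d.f u5)*(d.f (d.f t5)) + (d.f u3)*(d.f u5)*(d.f (d.f v8)) + (d.f u5)*(d.f u7)*(d.f (d.f v2)) + (d.f u5)*(d.f (d.f t7))*(d.f (d.f v4)) + t3*v2*(d.f v8)^2 + t5*(d.f t5)*(d.f (d.f t3))*(d.f (d.f t7)) + t5*(d.f t5)*(d.f (d.f v2))*(d.f (d.f v8)) + t7*v2*(d.f t7)^2 + t7*(d.f t7)*(d.f (d.f v2))*(d.f (d.f v4)) + t7*(d.f (d.f t3))*(d.f (d.f t5))*(d.f (d.f v4)) + v2*(d.f t7)*(d.f u7)*(d.f (d.f t7)) + v2*(d.f u7)*(d.f v8)*(d.f (d.f t3)) + v2*(d.f u7)*(d.f (d.f t5))*(d.f (d.f v8)) + v8*(d.f u3)*(d.f (d.f t5))*(d.f (d.f v2)) + (d.f t5)*(d.f u3)*(d.f (d.f t5))*(d.f (d.f v8)) + (d.f t5)*(d.f u7)*(d.f (d.f t5))*(d.f (d.f v2)) + (d.f t5)*(d.f (d.f t5))*(d.f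 (d.f t7))*(d.f (d.f v4)) + (d.f t7)*(d.f u5)*(d.f (d.f t7))*(d.f (d.f v2)) + (d.f u3)*(d.f u7)*(d.f (d.f v2))*(d.f (d.f v8)) + (d.f u3)*(d.f (d.f t7))*(d.f (d.f v4))*(d.f (d.f v8)) + (d.f u5)*(d.f (d.f t3))*(d.f (d.f t5))*(d.f (d.f t7)) + (d.f u5)*(d.f (d.f t5))*(d.f (d.f v2))*(d.f (d.f v8)) + (d.f u7)*(d.f (d.f t7))*(d.f (d.f v2))*(d.f (d.f v4)) + t1*t3*t7*(d.f t7)^2 + t1*t3*v8*(d.f t3)*(d.f t7) + t1*v2*v8*(d.f t7)^2 + t1*(d.f t5)^2*(d.f t7)^2 + t3*t7*(d.f t7)*(d.f (d.f t1))*(d.f (d.f t5)) + t3*t7*(d.f u1)*(d.f v8)*(d.f (d.f t5)) + t3*u1*v8*(d.f t3)*(d.f v8) + t5*(d.f (d.f t3))*(d.f (d.f t7))*(d.f (d.f v2))*(d.f (d.f v8)) + t7*u1*v8*(d.f t7)*(d.f v2) + t7*v2*(d.f t1)*(d.f t7)*(d.f v8) + t7*(d.f t7)*(d.f (d.f t3))*(d.f (d.f t5))*(d.f (d.f v2)) + v2*v8*(d.f t7)*(d.f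 (d.f t1))*(d.f (d.f t5)) + v2*v8*(d.f u1)*(d.f v8)*(d.f (d.f t5)) + v2*(d.f t7)*(d.f (d.f t5))*(d.f (d.f t7))*(d.f (d.f v8)) + (d.f t5)^2*(d.f t7)*(d.f (d.f t1))*(d.f (d.f t5)) + (d.f t5)^2*(d.f u1)*(d.f v8)*(d.f (d.f t5)) + (d.f t5)*(d.f t7)*(d.f (d.f t5))*(d.f (d.f t7))*(d.f (d.f v2)) + (d.f t7)*(d.f u3)*(d.f (d.f t7))*(d.f (d.f v2))*(d.f (d.f v8)) + (d.f u3)*(d.f (d.f t3))*(d.f (d.f t5))*(d.f (d.f t7))*(d.f (d.f v8)) + (d.f u7)*(d.f (d.f t3))*(d.f (d.f t5))*(d.f (d.f t7))*(d.f (d.f v2)) + (d.f (d.f t5))*(d.f (d.f t7))*(d.f (d.f v2))*(d.f (d.f v4))*(d.f (d.f v8)) + t1^2*t3*v8*(d.f t7)^2 + t1*t3*t7*(d.f t1)*(d.f t7)*(d.f v8) + t1*t3*u1*v8*(d.f t7)*(d.f v8) + t1*t3*v8*(d.f t1)*(d.f t3)*(d.f v8) + t1*t7*v8*(d.f t1)*(d.f t7)*(d.f v2) + t1*v2*v8*(d.f t1)*(d.f t7)*(d.f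 v8) + t1*(d.f t1)*(d.f t5)^2*(d.f t7)*(d.f v8) + t3*t7*(d.f t7)*(d.f u1)*(d.f v8)*(d.f (d.f t1)) + t3*t7*(d.f u1)^2*(d.f v8)^2 + t3*u1^2*v8*(d.f v8)^2 + t7*u1^2*v8*(d.f t7)^2 + t7*v2*(d.f t1)^2*(d.f v8)^2 + t7*v8*(d.f u1)^2*(d.f v2)*(d.f v8) + v2*v8*(d.f t7)*(d.f u1)*(d.f v8)*(d.f (d.f t1)) + v2*v8*(d.f u1)^2*(d.f v8)^2 + (d.f t5)^2*(d.f t7)*(d.f u1)*(d.f v8)*(d.f (d.f t1)) + (d.f t5)^2*(d.f u1)^2*(d.f v8)^2 + 2*t1^2*t3*v8*(d.f t1)*(d.f t7)*(d.f v8) + t1*t3*t7*(d.f t1)^2*(d.f v8)^2 + 2*t1*t3*u1*v8*(d.f t1)*(d.f v8)^2 + 2*t1*t7*u1*v8*(d.f t1)*(d.f t7)^2 + t1*v2*v8*(d.f t1)^2*(d.f v8)^2 + t1*(d.f t1)^2*(d.f t5)^2*(d.f v8)^2 + t7*u1^2*v8*(d.f t1)*(d.f t7)*(d.f v8) + t7*u1*v8*(d.f t7)*(d.f u1)^2*(d.f v8) + 2*t1^2*t3*v8*(d.f t1)^2*(d.f v8)^2 + t1^2*t7*v8*(d.f t1)^2*(d.f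 t7)^2 + 2*t1*t7*u1*v8*(d.f t1)^2*(d.f t7)*(d.f v8) + t1*t7*v8*(d.f t1)*(d.f t7)*(d.f u1)^2*(d.f v8) + t7*u1^2*v8*(d.f t1)^2*(d.f v8)^2 + t7*v8*(d.f u1)^4*(d.f v8)^2 + t1^2*t7*v8*(d.f t1)^3*(d.f t7)*(d.f v8) + 2*t1*t7*u1*v8*(d.f t1)^3*(d.f v8)^2 + t1^2*t7*v8*(d.f t1)^4*(d.f v8)^2) * h2 + (2*(d.f t5)^2*(d.f t7)^2 + 2*(d.f t1)*(d.f t5)^2*(d.f t7)*(d.f v8) + 2*(d.f t1)^2*(d.f t5)^2*(d.f v8)^2 + 2*(d.f t3)*(d.f t7)*(d.f (d.f t3))^2*(d.f (d.f v8))^2 + 2*(d.f t7)^2*(d.f (d.f t3))^2*(d.f (d.f t7))^2 + 2*(d.f t7)^2*(d.f (d.f v2))^2*(d.f (d.f v8))^2 + 2*t1*(d.f t7)^2*(d.f (d.f t3))^2*(d.f (d.f v8))^2 + 2*(d.f t1)*(d.f t3)*(d.f v8)*(d.f (d.f t3))^2*(d.f (d.f v8))^2 + 2*(d.f t1)*(d.f t7)*(d.f v2)*(d.f (d.f t7))^2*(d.f (d.f v8))^2 + 2*(d.f t1)*(d.f t7)*(d.f v8)*(d.f (d.f t3))^2*(d.f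 (d.f t7))^2 + 2*(d.f t1)*(d.f t7)*(d.f v8)*(d.f (d.f v2))^2*(d.f (d.f v8))^2 + 4*t1*(d.f t1)*(d.f t7)*(d.f v8)*(d.f (d.f t3))^2*(d.f (d.f v8))^2 + 2*(d.f t1)^2*(d.f v8)^2*(d.f (d.f t3))^2*(d.f (d.f t7))^2 + 2*(d.f t1)^2*(d.f v8)^2*(d.f (d.f v2))^2*(d.f (d.f v8))^2 + 2*(d.f t7)^2*(d.f (d.f t1))^2*(d.f (d.f t3))^2*(d.f (d.f v8))^2 + 2*(d.f t7)*(d.f v8)*(d.f (d.f t3))^2*(d.f (d.f u1))^2*(d.f (d.f v8))^2 + 2*t1*(d.f t1)^2*(d.f t7)^2*(d.f (d.f t7))^2*(d.f (d.f v8))^2 + 4*t1*(d.f t1)^2*(d.f v8)^2*(d.f (d.f t3))^2*(d.f (d.f v8))^2 + 4*(d.f t1)*(d.f t7)^2*(d.f (d.f t7))^2*(d.f (d.f u1))^2*(d.f (d.f v8))^2 + 2*(d.f t1)*(d.f t7)*(d.f u1)^2*(d.f v8)*(d.f (d.f t7))^2*(d.f (d.f v8))^2 + 4*(d.f t1)*(d.f t7)*(d.f v8)*(d.f (d.f t1))^2*(d.f (d.f t3))^2*(d.f (d.f v8))^2 + 4*(d.f t1)*(d.f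 v8)^2*(d.f (d.f t3))^2*(d.f (d.f u1))^2*(d.f (d.f v8))^2 + 2*t1*(d.f t1)^3*(d.f t7)*(d.f v8)*(d.f (d.f t7))^2*(d.f (d.f v8))^2 + 2*(d.f t1)^2*(d.f t7)^2*(d.f (d.f t1))^2*(d.f (d.f t7))^2*(d.f (d.f v8))^2 + 4*(d.f t1)^2*(d.f t7)*(d.f v8)*(d.f (d.f t7))^2*(d.f (d.f u1))^2*(d.f (d.f v8))^2 + 4*(d.f t1)^2*(d.f v8)^2*(d.f (d.f t1))^2*(d.f (d.f t3))^2*(d.f (d.f v8))^2 + 2*t1*(d.f t1)^4*(d.f v8)^2*(d.f (d.f t7))^2*(d.f (d.f v8))^2 + 2*(d.f t1)^3*(d.f t7)*(d.f v8)*(d.f (d.f t1))^2*(d.f (d.f t7))^2*(d.f (d.f v8))^2 + 4*(d.f t1)^3*(d.f v8)^2*(d.f (d.f t7))^2*(d.f (d.f u1))^2*(d.f (d.f v8))^2 + 2*(d.f t1)^4*(d.f v8)^2*(d.f (d.f t1))^2*(d.f (d.f t7))^2*(d.f (d.f v8))^2) * hθ t1 + (2*(d.f t5)^2 + 2*t3*(d.f (d.f t7))^2 + 2*(d.f t5)*(d.f (d.f t3))*(d.f (d.f t7)) + 2*(d.f t5)*(d.f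 (d.f v2))*(d.f (d.f v8)) + 2*(d.f (d.f t3))*(d.f (d.f t7))*(d.f (d.f v2))*(d.f (d.f v8)) + 2*(d.f (d.f v2))^2*(d.f (d.f v8))^2) * hθ t5 + ((d.f t3)^2*(d.f (d.f v8))^2 + 2*(d.f v8)^2*(d.f (d.f v2))^2 + 2*(d.f (d.f t5))^2*(d.f (d.f t7))^2 + 2*t1*(d.f t3)*(d.f t7)*(d.f (d.f v8))^2 + 2*t1*(d.f t7)^2*(d.f (d.f t7))^2 + 2*(d.f t7)*(d.f (d.f t1))*(d.f (d.f t5))*(d.f (d.f t7))^2 + 2*(d.f u1)*(d.f v8)*(d.f (d.f t5))*(d.f (d.f t7))^2 + 2*t1^2*(d.f t7)^2*(d.f (d.f v8))^2 + 2*t1*(d.f t1)*(d.f t3)*(d.f v8)*(d.f (d.f v8))^2 + 2*t1*(d.f t1)*(d.f t7)*(d.f v8)*(d.f (d.f t7))^2 + 2*(d.f t3)*(d.f v8)*(d.f (d.f u1))^2*(d.f (d.f v8))^2 + 2*(d.f t7)*(d.f u1)*(d.f v8)*(d.f (d.f t1))*(d.f (d.f t7))^2 + 2*(d.f u1)^2*(d.f v8)^2*(d.f (d.f t7))^2 + 4*t1^2*(d.f t1)*(d.f t7)*(d.f v8)*(d.f (d.f v8))^2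 + 2*t1*(d.f t1)^2*(d.f v8)^2*(d.f (d.f t7))^2 + 2*t1*(d.f t7)*(d.f v8)*(d.f (d.f u1))^2*(d.f (d.f v8))^2 + 4*t1^2*(d.f t1)^2*(d.f v8)^2*(d.f (d.f v8))^2 + 4*t1*(d.f t1)*(d.f v8)^2*(d.f (d.f u1))^2*(d.f (d.f v8))^2 + 2*(d.f v8)^2*(d.f (d.f u1))^4*(d.f (d.f v8))^2) * hθ t3 + (2*t3*t5 + (d.f (d.f v4))^2 + 2*(d.f t7)*(d.f (d.f v2))*(d.f (d.f v4)) + 2*(d.f (d.f t3))*(d.f (d.f t5))*(d.f (d.f v4)) + 2*t1*t3*(d.f t7)^2 + 2*t3*(d.f t7)*(d.f (d.f t1))*(d.f (d.f t5)) + 2*t3*(d.f u1)*(d.f v8)*(d.f (d.f t5)) + 2*(d.f t7)^2*(d.f (d.f v2))^2 + 2*(d.f t7)*(d.f (d.f t3))*(d.f (d.f t5))*(d.f (d.f v2)) + (d.f v2)^2*(d.f (d.f v8))^2 + 2*t1*t3*(d.f t1)*(d.f t7)*(d.f v8) + 2*t3*(d.f t7)*(d.f u1)*(d.f v8)*(d.f (d.f t1)) + 2*t3*(d.f u1)^2*(d.f v8)^2 + 2*(d.f t1)*(d.f t7)*(d.f v8)*(d.f (d.f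 v2))^2 + 2*t1*t3*(d.f t1)^2*(d.f v8)^2 + 2*t1*(d.f t1)*(d.f t7)*(d.f v2)*(d.f (d.f v8))^2 + 2*(d.f t1)^2*(d.f v8)^2*(d.f (d.f v2))^2 + 2*(d.f t7)*(d.f v2)*(d.f (d.f u1))^2*(d.f (d.f v8))^2 + 2*(d.f u1)^2*(d.f v2)*(d.f v8)*(d.f (d.f v8))^2 + 2*t1^2*(d.f t1)^2*(d.f t7)^2*(d.f (d.f v8))^2 + 4*t1*(d.f t1)*(d.f t7)^2*(d.f (d.f u1))^2*(d.f (d.f v8))^2 + 2*t1*(d.f t1)*(d.f t7)*(d.f u1)^2*(d.f v8)*(d.f (d.f v8))^2 + 2*(d.f t7)^2*(d.f (d.f u1))^4*(d.f (d.f v8))^2 + 2*(d.f t7)*(d.f u1)^2*(d.f v8)*(d.f (d.f u1))^2*(d.f (d.f v8))^2 + 2*(d.f u1)^4*(d.f v8)^2*(d.f (d.f v8))^2 + 2*t1^2*(d.f t1)^3*(d.f t7)*(d.f v8)*(d.f (d.f v8))^2 + 4*t1*(d.f t1)^2*(d.f t7)*(d.f v8)*(d.f (d.f u1))^2*(d.f (d.f v8))^2 + 2*(d.f t1)*(d.f t7)*(d.f v8)*(d.f (d.f u1))^4*(d.f (d.f v8))^2 + 2*t1^2*(d.f t1)^4*(d.f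 v8)^2*(d.f (d.f v8))^2 + 4*t1*(d.f t1)^3*(d.f v8)^2*(d.f (d.f u1))^2*(d.f (d.f v8))^2 + 2*(d.f t1)^2*(d.f v8)^2*(d.f (d.f u1))^4*(d.f (d.f v8))^2) * hθ t7 + (2*(d.f u7)^2 + 2*t3*(d.f v8)^2 + 2*t5*(d.f (d.f v8))^2 + 2*t7*(d.f t7)^2 + 2*(d.f t7)*(d.f u7)*(d.f (d.f t7)) + 2*(d.f u7)*(d.f v8)*(d.f (d.f t3)) + 2*(d.f u7)*(d.f (d.f t5))*(d.f (d.f v8)) + 2*t7*(d.f t1)*(d.f t7)*(d.f v8) + 2*(d.f t7)*(d.f (d.f t5))*(d.f (d.f t7))*(d.f (d.f v8)) + 2*t1*(d.f t7)^2*(d.f (d.f v8))^2 + 2*t7*(d.f t1)^2*(d.f v8)^2 + 2*(d.f t7)*(d.f (d.f t1))*(d.f (d.f t5))*(d.f (d.f v8))^2 + 2*(d.f u1)*(d.f v8)*(d.f (d.f t5))*(d.f (d.f v8))^2 + 2*t1*(d.f t1)*(d.f t7)*(d.f v8)*(d.f (d.f v8))^2 + 2*(d.f t7)*(d.f u1)*(d.f v8)*(d.f (d.f t1))*(d.f (d.f v8))^2 + 2*(d.f u1)^2*(d.f v8)^2*(d.f (d.f v8))^2 +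 2*t1*(d.f t1)^2*(d.f v8)^2*(d.f (d.f v8))^2) * hθ v2 + (2*t5*v2 + (d.f u3)^2 + t3*(d.f t3)^2 + t7*(d.f v2)^2 + 2*(d.f u3)*(d.f (d.f t5))*(d.f (d.f v2)) + 2*t1*t3*(d.f t3)*(d.f t7) + 2*t1*v2*(d.f t7)^2 + 2*t3*u1*(d.f t3)*(d.f v8) + 2*t7*u1*(d.f t7)*(d.f v2) + 2*v2*(d.f t7)*(d.f (d.f t1))*(d.f (d.f t5)) + 2*v2*(d.f u1)*(d.f v8)*(d.f (d.f t5)) + 2*t1^2*t3*(d.f t7)^2 + 2*t1*t3*u1*(d.f t7)*(d.f v8) + 2*t1*t3*(d.f t1)*(d.f t3)*(d.f v8) + 2*t1*t7*(d.f t1)*(d.f t7)*(d.f v2) + 2*t1*v2*(d.f t1)*(d.f t7)*(d.f v8) + 2*t3*u1^2*(d.f v8)^2 + 2*t7*u1^2*(d.f t7)^2 + 2*t7*(d.f u1)^2*(d.f v2)*(d.f v8) + 2*v2*(d.f t7)*(d.f u1)*(d.f v8)*(d.f (d.f t1)) + 2*v2*(d.f u1)^2*(d.f v8)^2 + 4*t1^2*t3*(d.f t1)*(d.f t7)*(d.f v8) + 4*t1*t3*u1*(d.f t1)*(d.f v8)^2 + 4*t1*t7*u1*(d.f t1)*(d.f t7)^2 + 2*t1*v2*(d.f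 t1)^2*(d.f v8)^2 + 2*t7*u1^2*(d.f t1)*(d.f t7)*(d.f v8) + 2*t7*u1*(d.f t7)*(d.f u1)^2*(d.f v8) + 4*t1^2*t3*(d.f t1)^2*(d.f v8)^2 + 2*t1^2*t7*(d.f t1)^2*(d.f t7)^2 + 4*t1*t7*u1*(d.f t1)^2*(d.f t7)*(d.f v8) + 2*t1*t7*(d.f t1)*(d.f t7)*(d.f u1)^2*(d.f v8) + 2*t7*u1^2*(d.f t1)^2*(d.f v8)^2 + 2*t7*(d.f u1)^4*(d.f v8)^2 + 2*t1^2*t7*(d.f t1)^3*(d.f t7)*(d.f v8) + 4*t1*t7*u1*(d.f t1)^3*(d.f v8)^2 + 2*t1^2*t7*(d.f t1)^4*(d.f v8)^2) * hθ v8 + (2*t3*(d.f t3)*(d.f v8)*(d.f (d.f v8))^2 + 2*t7*(d.f t7)*(d.f v2)*(d.f (d.f v8))^2 + 2*t1*t3*(d.f t7)*(d.f v8)*(d.f (d.f v8))^2 + 2*t3*u1*(d.f v8)^2*(d.f (d.f v8))^2 + 2*t7*u1*(d.f t7)^2*(d.f (d.f v8))^2 + 4*t1*t3*(d.f t1)*(d.f v8)^2*(d.f (d.f v8))^2 + 4*t1*t7*(d.f t1)*(d.f t7)^2*(d.f (d.f v8))^2 + 2*t3*(d.f v8)^2*(d.f (d.f u1))^2*(d.f (d.f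 v8))^2 + 2*t7*u1*(d.f t1)*(d.f t7)*(d.f v8)*(d.f (d.f v8))^2 + 2*t7*(d.f t7)^2*(d.f (d.f u1))^2*(d.f (d.f v8))^2 + 2*t7*(d.f t7)*(d.f u1)^2*(d.f v8)*(d.f (d.f v8))^2 + 4*t1*t7*(d.f t1)^2*(d.f t7)*(d.f v8)*(d.f (d.f v8))^2 + 2*t7*u1*(d.f t1)^2*(d.f v8)^2*(d.f (d.f v8))^2 + 2*t7*(d.f t1)*(d.f t7)*(d.f v8)*(d.f (d.f u1))^2*(d.f (d.f v8))^2 + 4*t1*t7*(d.f t1)^3*(d.f v8)^2*(d.f (d.f v8))^2 + 2*t7*(d.f t1)^2*(d.f v8)^2*(d.f (d.f u1))^2*(d.f (d.f v8))^2) * hθ u1 + (t7) * hθ v4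

end Fix

end Cfsg.Agent.Lib.F4Inv50
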