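import Cfsg.Agent.Lib.F4Inv50F
import Cfsg.Agent.Lib.ChevFix

/-!
# The involutions of `²F₄(q)`: the two representatives are not conjugate
-/

set_option autoImplicit false
set_option linter.unusedSectionVars false
set_option linter.unusedVariables false
set_option linter.unusedSimpArgs false

namespace Cfsg.Agent.Lib.F4Inv50

open Cfsg Cfsg.Lie Cfsg.Agent.Lib.Chev Cfsg.Agent.Lib.Chev.TwF4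

section RankData

def code : chevF4.Idx → ℕ
  | Sum.inl i => i.1
  | Sum.inr s => 4 + s.1

def vl : Fin 21 → List ℕ := ![[32],[32,34],[7,8,9],[9],[13,15],[15],[17,18],[18],[22,25,27],[27],[1,2,24,29,32,34],[1,31,32],[31,34],[33,35,36],[36],[39,41],[41],[43,44],[44],[48,49,50],[50]]
def wl : Fin 21 → List ℕ := ![[0,2,24],[3],[5],[6],[11],[12],[14],[16],[19],[20],[21],[23],[26],[28],[30],[37],[38],[40],[42],[46],[47]]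

def Pm : Matrix chevF4.Idx (Fin 21) (ZMod 2) := fun i k => if code i ∈ vl k then 1 else 0
def Qm : Matrix (Fin 21) chevF4.Idx (ZMod 2) := fun k j => if code j ∈ wl k then 1 else 0

set_option maxRecDepth 100000 in
theorem A_fact : chevF4.x (ZMod 2) 28 1 * chevF4.x (ZMod 2) 30 1 - 1 = Pm * Qm := by
  decide +kernel

def rowf : Fin 22 → chevF4.Idx :=
  ![Sum.inl ⟨0, by decide⟩, Sum.inl ⟨3, by decide⟩, Sum.inr ⟨1, by decide⟩, Sum.inr ⟨6, by decide⟩, Sum.inr ⟨7, by decide⟩, Sum.inr ⟨8, by decide⟩, Sum.inr ⟨10, by decide⟩, Sum.inr ⟨12, by decide⟩, Sum.inr ⟨17, by decide⟩, Sum.inr ⟨19, by decide⟩, Sum.inr ⟨20, by decide⟩, Sum.inr ⟨22, by decide⟩, Sum.inr ⟨24, by decide⟩, Sum.inr ⟨26, by decide⟩, Sum.inr ⟨29, by decide⟩, Sum.inr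 ⟨31, by decide⟩, Sum.inr ⟨33, by decide⟩, Sum.inr ⟨34, by decide⟩, Sum.inr ⟨36, by decide⟩, Sum.inr ⟨38, by decide⟩, Sum.inr ⟨39, by decide⟩, Sum.inr ⟨42, by decide⟩]
def colf : Fin 22 → chevF4.Idx :=
  ![Sum.inl ⟨1, by decide⟩, Sum.inl ⟨2, by decide⟩, Sum.inr ⟨0, by decide⟩, Sum.inr ⟨3, by decide⟩, Sum.inr ⟨4, by decide⟩, Sum.inr ⟨5, by decide⟩, Sum.inr ⟨6, by decide⟩, Sum.inr ⟨9, by decide⟩, Sum.inr ⟨11, by decide⟩, Sum.inr ⟨12, by decide⟩, Sum.inr ⟨13, by decide⟩, Sum.inr ⟨14, by decide⟩, Sum.inr ⟨21, by decide⟩, Sum.inr ⟨23, by decide⟩, Sum.inr ⟨25, by decide⟩, Sum.inr ⟨27, by decide⟩, Sum.inr ⟨28, by decide⟩, Sum.inr ⟨29, by decide⟩, Sum.inr ⟨30, by decide⟩, Sum.inr ⟨31, by decide⟩, Sum.inr ⟨32, by decide⟩, Sum.inr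 ⟨37, by decide⟩]

def S0 : Matrix (Fin 22) (Fin 22) (ZMod 2) :=
  ![![0, 0, 0, 0, 0, 0, 0, 0, 0, 0, 0, 1, 0, 0, 0, 0, 0, 0, 0, 0, 0, 0],
    ![0, 0, 0, 0, 0, 0, 0, 0, 0, 0, 0, 0, 0, 1, 0, 0, 0, 0, 0, 0, 0, 0],
    ![0, 0, 1, 0, 0, 0, 0, 0, 0, 0, 0, 0, 0, 0, 0, 0, 0, 0, 0, 0, 0, 0],
    ![0, 0, 0, 0, 0, 1, 0, 0, 0, 0, 0, 0, 0, 0, 0, 0, 0, 0, 0, 0, 0, 0],
    ![0, 0, 0, 1, 0, 0, 0, 0, 0, 0, 0, 0, 0, 0, 0, 0, 0, 0, 0, 0, 0, 0],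
    ![0, 0, 0, 0, 1, 0, 0, 0, 0, 0, 0, 0, 0, 0, 0, 0, 0, 0, 0, 0, 0, 0],
    ![0, 0, 0, 0, 0, 1, 1, 1, 0, 0, 0, 0, 0, 0, 0, 0, 0, 0, 0, 0, 0, 0],
    ![0, 0, 0, 0, 0, 0, 0, 0, 1, 0, 0, 0, 0, 0, 0, 0, 0, 0, 0, 0, 0, 0],
    ![0, 0, 0, 0, 0, 1, 1, 0, 0, 0, 0, 0, 0, 0, 0, 0, 0, 0, 0, 0, 0, 0],
    ![0, 0, 0, 0, 0, 0, 0, 0, 1, 1, 0, 0, 0, 0, 0, 0, 0, 0, 0, 0, 0, 0],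
    ![0, 0, 0, 0, 0, 0, 0, 0, 0, 0, 1, 0, 0, 0, 0, 0, 0, 0, 0, 0, 0, 0],
    ![0, 0, 0, 0, 0, 0, 0, 0, 0, 0, 0, 0, 1, 0, 0, 0, 0, 0, 0, 0, 0, 0],
    ![0, 1, 0, 0, 0, 0, 0, 0, 0, 0, 0, 0, 0, 1, 0, 0, 0, 0, 0, 0, 0, 0],
    ![0, 0, 0, 0, 0, 0, 0, 0, 0, 0, 0, 0, 0, 0, 1, 0, 0, 0, 0, 0, 0, 0],
    ![0, 0, 0, 0, 0, 0, 0, 0, 0, 0, 0, 0, 0, 0, 0, 0, 1, 0, 0, 0, 0, 0],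
    ![0, 0, 0, 0, 0, 0, 0, 0, 0, 0, 0, 0, 0, 0, 0, 0, 0, 0, 1, 0, 0, 0],
    ![1, 0, 0, 0, 0, 0, 0, 0, 0, 0, 0, 1, 0, 0, 0, 0, 0, 0, 0, 0, 0, 0],
    ![0, 0, 0, 0, 0, 0, 0, 0, 0, 0, 0, 0, 0, 0, 0, 1, 0, 0, 0, 0, 0, 0],
    ![0, 0, 0, 0, 0, 0, 0, 0, 0, 0, 0, 0, 0, 0, 0, 0, 1, 1, 0, 0, 0, 0],
    ![0, 0, 0, 0, 0, 0, 0, 0, 0, 0, 0, 0, 0, 0, 0, 0, 0, 0, 1, 1, 0, 1],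
    ![0, 0, 0, 0, 0, 0, 0, 0, 0, 0, 0, 0, 0, 0, 0, 0, 0, 0, 0, 0, 1, 0],
    ![0, 0, 0, 0, 0, 0, 0, 0, 0, 0, 0, 0, 0, 0, 0, 0, 0, 0, 1, 1, 0, 0]]

def S1 : Matrix (Fin 22) (Fin 22) (ZMod 2) :=
  ![![1, 0, 0, 0, 0, 0, 0, 0, 0, 0, 0, 0, 0, 0, 0, 0, 1, 0, 0, 0, 0, 0],
    ![0, 1, 0, 0, 0, 0, 0, 0, 0, 0, 0, 0, 1, 0, 0, 0, 0, 0, 0, 0, 0, 0],
    ![0, 0, 1, 0, 0, 0, 0, 0, 0, 0, 0, 0, 0, 0, 0, 0, 0, 0, 0, 0, 0, 0],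
    ![0, 0, 0, 0, 1, 0, 0, 0, 0, 0, 0, 0, 0, 0, 0, 0, 0, 0, 0, 0, 0, 0],
    ![0, 0, 0, 0, 0, 1, 0, 0, 0, 0, 0, 0, 0, 0, 0, 0, 0, 0, 0, 0, 0, 0],
    ![0, 0, 0, 1, 0, 0, 0, 0, 0, 0, 0, 0, 0, 0, 0, 0, 0, 0, 0, 0, 0, 0],
    ![0, 0, 0, 1, 0, 0, 0, 0, 1, 0, 0, 0, 0, 0, 0, 0, 0, 0, 0, 0, 0, 0],
    ![0, 0, 0, 0, 0, 0, 1, 0, 1, 0, 0, 0, 0, 0, 0, 0, 0, 0, 0, 0, 0, 0],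
    ![0, 0, 0, 0, 0, 0, 0, 1, 0, 0, 0, 0, 0, 0, 0, 0, 0, 0, 0, 0, 0, 0],
    ![0, 0, 0, 0, 0, 0, 0, 1, 0, 1, 0, 0, 0, 0, 0, 0, 0, 0, 0, 0, 0, 0],
    ![0, 0, 0, 0, 0, 0, 0, 0, 0, 0, 1, 0, 0, 0, 0, 0, 0, 0, 0, 0, 0, 0],
    ![1, 0, 0, 0, 0, 0, 0, 0, 0, 0, 0, 0, 0, 0, 0, 0, 0, 0, 0, 0, 0, 0],
    ![0, 0, 0, 0, 0, 0, 0, 0, 0, 0, 0, 1, 0, 0, 0, 0, 0, 0, 0, 0, 0, 0],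
    ![0, 1, 0, 0, 0, 0, 0, 0, 0, 0, 0, 0, 0, 0, 0, 0, 0, 0, 0, 0, 0, 0],
    ![0, 0, 0, 0, 0, 0, 0, 0, 0, 0, 0, 0, 0, 1, 0, 0, 0, 0, 0, 0, 0, 0],
    ![0, 0, 0, 0, 0, 0, 0, 0, 0, 0, 0, 0, 0, 0, 0, 0, 0, 1, 0, 0, 0, 0],
    ![0, 0, 0, 0, 0, 0, 0, 0, 0, 0, 0, 0, 0, 0, 1, 0, 0, 0, 0, 0, 0, 0],
    ![0, 0, 0, 0, 0, 0, 0, 0, 0, 0, 0, 0, 0, 0, 1, 0, 0, 0, 1, 0, 0, 0],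
    ![0, 0, 0, 0, 0, 0, 0, 0, 0, 0, 0, 0, 0, 0, 0, 1, 0, 0, 0, 0, 0, 0],
    ![0, 0, 0, 0, 0, 0, 0, 0, 0, 0, 0, 0, 0, 0, 0, 1, 0, 0, 0, 0, 0, 1],
    ![0, 0, 0, 0, 0, 0, 0, 0, 0, 0, 0, 0, 0, 0, 0, 0, 0, 0, 0, 0, 1, 0],
    ![0, 0, 0, 0, 0, 0, 0, 0, 0, 0, 0, 0, 0, 0, 0, 0, 0, 0, 0, 1, 0, 1]]

set_option maxRecDepth 100000 in
theorem B_fact :
    (chevF4.x (ZMod 2) 24 1 * chevF4.x (ZMod 2) 33 1 - 1).submatrix rowf colf = S0 := by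
  decide +kernel

set_option maxRecDepth 100000 in
theorem S_inv : S0 * S1 = 1 := by
  decide +kernel

end RankData

end Cfsg.Agent.Lib.F4Inv50
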