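import Mathlib
import Cfsg.Agent.Lib.DicksonStruct
import Cfsg.Agent.Lib.DicksonMat

/-!
# Dickson's list for subgroups of `PSL₂` of order prime to the characteristic, and the Klein
configuration inside `A₄`, `S₄`, `A₅`.
-/

set_option autoImplicit false
set_option linter.style.haveILetI false

namespace Cfsg.Agent.Lib.ZPerfA

open Cfsg.Agent.Lib.SL2Core Cfsg.Agent.Lib.DicksonAbs Cfsg.Agent.Lib.DicksonStruct

/-- Dickson's list for subgroups of order prime to the characteristic. -/
theorem dickson_coprime {F : Type*} [Field F] [Finite F] (p : ℕ) [hp : Fact p.Prime] [CharP F p]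
    (H : Subgroup (PSL2 F)) (hH : ¬ p ∣ Nat.card H) :
    IsCyclic H ∨ (∃ k : ℕ, Nonempty (H ≃* DihedralGroup k)) ∨
      Nonempty (H ≃* alternatingGroup (Fin 4)) ∨ Nonempty (H ≃* Equiv.Perm (Fin 4)) ∨
      Nonempty (H ≃* alternatingGroup (Fin 5)) := by
  classical
  let D : DStruct (PSL2 F) p := Cfsg.Agent.Lib.DicksonMat.dstruct p
  have hpH : ∀ S : Sylow p H, (S : Subgroup H) = ⊥ := by
    intro S
    have h1 : IsPGroup p (S : Subgroup H) := S.isPGroup'
    obtain ⟨k, hk⟩ := h1.exists_card_eq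
    have h2 : Nat.card (S : Subgroup H) ∣ Nat.card H := Subgroup.card_subgroup_dvd_card _
    rcases Nat.eq_zero_or_pos k with rfl | hk0
    · rw [pow_zero] at hk
      exact Subgroup.card_eq_one.mp hk
    · exfalso
      apply hH
      rw [hk] at h2
      exact (dvd_pow_self p hk0.ne').trans h2
  by_cases hb : H = ⊥
  · left
    subst hb
    exact isCyclic_of_subsingleton
  haveI : Nontrivial H := (Subgroup.nontrivial_iff_ne_bot H).mpr hb
  have hall : ∀ x : H, x ≠ 1 → IsSS p ((restrict D H).M x) := by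
    intro x hx
    rcases (restrict D H).dich x hx with h | h
    · exfalso
      obtain ⟨T, hT⟩ := h.exists_le_sylow
      have h1 : (T : Subgroup H) = ⊥ := hpH T
      have h2 := hT ((restrict D H).mem x hx)
      rw [h1] at h2
      exact hx (Subgroup.mem_bot.mp h2)
    · exact h
  rcases theoremA (restrict D H).toDPart hall with ⟨x, hx, h1⟩ | ⟨x, hx, h2, e⟩ | h1 | h1 | h1
  · left
    haveI := (hall x hx).cyclic
    have h3 : (restrict D H).M x = ⊤ := h1
    rw [h3] at this
    exact isCyclic_of_surjective (Subgroup.topEquiv (G := H)).toMonoidHom (Subgroup.topEquiv (G := H)).surjective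
  · right; left
    exact ⟨_, e⟩
  · right; right; left; exact h1
  · right; right; right; left; exact h1
  · right; right; right; right; exact h1

/-- The Klein configuration: a four-group `{1,s,t,st}` permuted cyclically by `u`. -/
structure K4 {X : Type*} [Group X] (s t u : X) : Prop where
  s2 : s * s = 1
  t2 : t * t = 1
  s1 : s ≠ 1
  st : s ≠ t
  comm : s * t = t * s
  u3 : u ^ 3 = 1
  us : u * s * u⁻¹ = t
  ut : u * t * u⁻¹ = s * t

theorem K4.map {X Y : Type*} [Group X] [Group Y] (f : X →* Y) (hf : Function.Injective f) {s t u : X}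
    (h : K4 s t u) : K4 (f s) (f t) (f u) where
  s2 := by rw [← map_mul, h.s2, map_one]
  t2 := by rw [← map_mul, h.t2, map_one]
  s1 := fun e => h.s1 (hf (by rw [e, map_one]))
  st := fun e => h.st (hf e)
  comm := by rw [← map_mul, h.comm, map_mul]
  u3 := by rw [← map_pow, h.u3, map_one]
  us := by rw [← map_inv, ← map_mul, ← map_mul, h.us]
  ut := by rw [← map_inv, ← map_mul, ← map_mul, h.ut, map_mul]

theorem K4.not_comm {X : Type*} [Group X] {s t u : X} (h : K4 s t u) : u * s ≠ s * u := by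
  intro e
  apply h.st
  rw [← h.us, e]
  group

theorem not_K4_dihedral {k : ℕ} (s t u : DihedralGroup k) : ¬ K4 s t u := by
  intro h
  have hu : ∃ c, u = DihedralGroup.r c := by
    rcases hu : u with c | c
    · exact ⟨c, rfl⟩
    · exfalso
      have h1 : u * u = 1 := by
        rw [hu]; simp [DihedralGroup.sr_mul_sr]
      have h3 := h.u3
      have h4 : u = 1 := by
        have : u ^ 3 = u * (u * u) := by rw [pow_succ', pow_two]
        rw [this, h1, mul_one] at h3
        exact h3
      apply h.st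
      rw [← h.us, h4]; simp
  obtain ⟨c, rfl⟩ := hu
  have hs : ∃ a, s = DihedralGroup.sr a := by
    rcases hs : s with a | a
    · exfalso
      apply h.st
      rw [← h.us, hs]
      simp [DihedralGroup.inv_r]
    · exact ⟨a, rfl⟩
  obtain ⟨a, rfl⟩ := hs
  have h1 := h.us
  have h2 := h.ut
  rw [← h1] at h2
  simp [DihedralGroup.inv_r, DihedralGroup.r_mul_sr, DihedralGroup.sr_mul_r, DihedralGroup.sr_mul_sr] at h2

/-! ### `A₄`, `S₄`, `A₅` -/

open Equiv.Perm in
theorem a5_pow : ∀ σ : Equiv.Perm (Fin 5), sign σ = 1 → σ = 1 ∨ σ ^ 2 = 1 ∨ σ ^ 3 = 1 ∨ σ ^ 5 = 1 := by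
  decide +kernel

theorem s4_pow : ∀ σ : Equiv.Perm (Fin 4), σ = 1 ∨ σ ^ 2 = 1 ∨ σ ^ 3 = 1 ∨ σ ^ 4 = 1 := by
  decide +kernel

/-- decidable form of `K4`. -/
def K4p {X : Type*} [Group X] (s t u : X) : Prop :=
  s * s = 1 ∧ t * t = 1 ∧ s ≠ 1 ∧ s ≠ t ∧ s * t = t * s ∧ u ^ 3 = 1 ∧ u * s * u⁻¹ = t ∧ u * t * u⁻¹ = s * t

instance {X : Type*} [Group X] [DecidableEq X] (s t u : X) : Decidable (K4p s t u) := by
  unfold K4p; infer_instance

theorem K4_of_K4p {X : Type*} [Group X] {s t u : X} (h : K4p s t u) : K4 s t u :=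
  ⟨h.1, h.2.1, h.2.2.1, h.2.2.2.1, h.2.2.2.2.1, h.2.2.2.2.2.1, h.2.2.2.2.2.2.1, h.2.2.2.2.2.2.2⟩

open Equiv.Perm in
theorem a5_exists : ∀ u : Equiv.Perm (Fin 5), sign u = 1 → u ≠ 1 → u ^ 3 = 1 →
    ∃ s : Equiv.Perm (Fin 5), sign s = 1 ∧ K4p s (u * s * u⁻¹) u := by
  decide +kernel

theorem s4_exists : ∀ u : Equiv.Perm (Fin 4), u ≠ 1 → u ^ 3 = 1 →
    ∃ s : Equiv.Perm (Fin 4), K4p s (u * s * u⁻¹) u := by
  decide +kernel

open Equiv.Perm in
theorem a5_inv : ∀ s : Equiv.Perm (Fin 5), sign s = 1 → s ≠ 1 → s * s = 1 → ∀ t : Equiv.Perm (Fin 5), sign t = 1 → t * t = 1 →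
    s * t = t * s → ∀ t' : Equiv.Perm (Fin 5), sign t' = 1 → t' * t' = 1 → s * t' = t' * s → (t * t') * (t * t') = 1 := by
  decide +kernel

open Equiv.Perm in
theorem s4_inv : ∀ t : Equiv.Perm (Fin 4), sign t = 1 → t * t = 1 → ∀ t' : Equiv.Perm (Fin 4), sign t' = 1 → t' * t' = 1 →
    (t * t') * (t * t') = 1 := by
  decide +kernel

open Equiv.Perm in
theorem K4.sign_eq {s t u : Equiv.Perm (Fin 4)} (h : K4 s t u) : sign s = 1 ∧ sign t = 1 := by
  have h1 : sign t = sign s := by
    rw [← h.us, map_mul, map_mul, map_inv]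
    simp only [Int.units_inv_eq_self]
    rw [mul_comm (sign u) (sign s), mul_assoc, Int.units_mul_self, mul_one]
  have h2 : sign s * sign t = sign t := by
    rw [← map_mul, ← h.ut, map_mul, map_mul, map_inv]
    simp only [Int.units_inv_eq_self]
    rw [mul_comm (sign u) (sign t), mul_assoc, Int.units_mul_self, mul_one]
  have h3 : sign s = 1 := by simpa using h2
  exact ⟨h3, h1.trans h3⟩

/-- The three possible targets. -/
def Poly (S : Type*) [Group S] : Prop :=
  Nonempty (S ≃* alternatingGroup (Fin 4)) ∨ Nonempty (S ≃* Equiv.Perm (Fin 4)) ∨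
    Nonempty (S ≃* alternatingGroup (Fin 5))

theorem K4_poly {F : Type*} [Field F] [Finite F] (p : ℕ) [Fact p.Prime] [CharP F p]
    (S : Subgroup (PSL2 F)) (hS : ¬ p ∣ Nat.card S) {s t u : S} (h : K4 s t u) : Poly S := by
  rcases dickson_coprime p S hS with hc | ⟨k, ⟨e⟩⟩ | h1 | h1 | h1
  · exfalso
    obtain ⟨g, hg⟩ := IsCyclic.exists_generator (α := S)
    obtain ⟨a, ha⟩ := Subgroup.mem_zpowers_iff.mp (hg u)
    obtain ⟨b, hb⟩ := Subgroup.mem_zpowers_iff.mp (hg s)
    apply h.not_comm
    rw [← ha, ← hb]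
    exact (zpow_mul_comm g a b)
  · exact absurd (h.map e.toMonoidHom e.injective) (not_K4_dihedral _ _ _)
  · exact Or.inl h1
  · exact Or.inr (Or.inl h1)
  · exact Or.inr (Or.inr h1)

theorem Poly.order_le {S : Type*} [Group S] (h : Poly S) (y : S) : orderOf y ≤ 5 := by
  have key : ∀ n : ℕ, n ≠ 0 → n ≤ 5 → y ^ n = 1 → orderOf y ≤ 5 := fun n hn hn5 e =>
    (orderOf_le_of_pow_eq_one (Nat.pos_of_ne_zero hn) e).trans hn5
  have A5 : ∀ e : S ≃* alternatingGroup (Fin 5), orderOf y ≤ 5 := by
    intro e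
    have hy := a5_pow ((e y : alternatingGroup (Fin 5)) : Equiv.Perm (Fin 5)) (e y).2
    have tr : ∀ n : ℕ, ((e y : alternatingGroup (Fin 5)) : Equiv.Perm (Fin 5)) ^ n = 1 → y ^ n = 1 := by
      intro n hn
      apply e.injective
      rw [map_pow, map_one]
      exact Subtype.ext (by simpa using hn)
    rcases hy with h1 | h1 | h1 | h1
    · exact key 1 (by norm_num) (by norm_num) (tr 1 (by simpa using h1))
    · exact key 2 (by norm_num) (by norm_num) (tr 2 h1)
    · exact key 3 (by norm_num) (by norm_num) (tr 3 h1)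
    · exact key 5 (by norm_num) (by norm_num) (tr 5 h1)
  have S4 : ∀ e : S ≃* Equiv.Perm (Fin 4), orderOf y ≤ 5 := by
    intro e
    have tr : ∀ n : ℕ, (e y) ^ n = 1 → y ^ n = 1 := by
      intro n hn
      apply e.injective
      rw [map_pow, map_one, hn]
    rcases s4_pow (e y) with h1 | h1 | h1 | h1
    · exact key 1 (by norm_num) (by norm_num) (tr 1 (by simpa using h1))
    · exact key 2 (by norm_num) (by norm_num) (tr 2 h1)
    · exact key 3 (by norm_num) (by norm_num) (tr 3 h1)
    · exact key 4 (by norm_num) (by norm_num) (tr 4 h1)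
  have A4 : ∀ e : S ≃* alternatingGroup (Fin 4), orderOf y ≤ 5 := by
    intro e
    have tr : ∀ n : ℕ, ((e y : alternatingGroup (Fin 4)) : Equiv.Perm (Fin 4)) ^ n = 1 → y ^ n = 1 := by
      intro n hn
      apply e.injective
      rw [map_pow, map_one]
      exact Subtype.ext (by simpa using hn)
    rcases s4_pow ((e y : alternatingGroup (Fin 4)) : Equiv.Perm (Fin 4)) with h1 | h1 | h1 | h1
    · exact key 1 (by norm_num) (by norm_num) (tr 1 (by simpa using h1))
    · exact key 2 (by norm_num) (by norm_num) (tr 2 h1)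
    · exact key 3 (by norm_num) (by norm_num) (tr 3 h1)
    · exact key 4 (by norm_num) (by norm_num) (tr 4 h1)
  rcases h with ⟨⟨e⟩⟩ | ⟨⟨e⟩⟩ | ⟨⟨e⟩⟩
  · exact A4 e
  · exact S4 e
  · exact A5 e

theorem Poly.exists_K4 {S : Type*} [Group S] (h : Poly S) (u : S) (hu : u ≠ 1) (hu3 : u ^ 3 = 1) :
    ∃ s t : S, K4 s t u := by
  rcases h with ⟨⟨e⟩⟩ | ⟨⟨e⟩⟩ | ⟨⟨e⟩⟩
  · have h1 : ((e u : alternatingGroup (Fin 4)) : Equiv.Perm (Fin 4)) ≠ 1 := by
      intro h
      apply hu
      apply e.injective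
      rw [map_one]
      exact Subtype.ext h
    have h2 : ((e u : alternatingGroup (Fin 4)) : Equiv.Perm (Fin 4)) ^ 3 = 1 := by
      have : (e u) ^ 3 = 1 := by rw [← map_pow, hu3, map_one]
      simpa using congrArg Subtype.val this
    obtain ⟨s, hs⟩ := s4_exists _ h1 h2
    -- sign of `s`
    have h3 := K4.sign_eq (K4_of_K4p hs)
    let s' : alternatingGroup (Fin 4) := ⟨s, Equiv.Perm.mem_alternatingGroup.mpr h3.1⟩
    let t' : alternatingGroup (Fin 4) := (e u) * s' * (e u)⁻¹
    have hK : K4 s' t' (e u) := by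
      have := K4_of_K4p hs
      refine ⟨Subtype.ext this.s2, Subtype.ext this.t2, fun e => this.s1 (congrArg Subtype.val e),
        fun e => this.st (congrArg Subtype.val e), Subtype.ext this.comm, Subtype.ext (by simpa using this.u3),
        Subtype.ext this.us, Subtype.ext this.ut⟩
    refine ⟨e.symm s', e.symm t', ?_⟩
    have := hK.map e.symm.toMonoidHom e.symm.injective
    simpa using this
  · have h1 : e u ≠ 1 := by
      intro h
      apply hu
      apply e.injective
      rw [map_one, h]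
    have h2 : (e u) ^ 3 = 1 := by rw [← map_pow, hu3, map_one]
    obtain ⟨s, hs⟩ := s4_exists _ h1 h2
    refine ⟨e.symm s, e.symm (e u * s * (e u)⁻¹), ?_⟩
    have := (K4_of_K4p hs).map e.symm.toMonoidHom e.symm.injective
    simpa using this
  · have h1 : ((e u : alternatingGroup (Fin 5)) : Equiv.Perm (Fin 5)) ≠ 1 := by
      intro h
      apply hu
      apply e.injective
      rw [map_one]
      exact Subtype.ext h
    have h2 : ((e u : alternatingGroup (Fin 5)) : Equiv.Perm (Fin 5)) ^ 3 = 1 := by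
      have : (e u) ^ 3 = 1 := by rw [← map_pow, hu3, map_one]
      simpa using congrArg Subtype.val this
    obtain ⟨s, hs1, hs⟩ := a5_exists _ (e u).2 h1 h2
    let s' : alternatingGroup (Fin 5) := ⟨s, Equiv.Perm.mem_alternatingGroup.mpr hs1⟩
    let t' : alternatingGroup (Fin 5) := (e u) * s' * (e u)⁻¹
    have hK : K4 s' t' (e u) := by
      have := K4_of_K4p hs
      refine ⟨Subtype.ext this.s2, Subtype.ext this.t2, fun e => this.s1 (congrArg Subtype.val e),
        fun e => this.st (congrArg Subtype.val e), Subtype.ext this.comm, Subtype.ext (by simpa using this.u3),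
        Subtype.ext this.us, Subtype.ext this.ut⟩
    refine ⟨e.symm s', e.symm t', ?_⟩
    have := hK.map e.symm.toMonoidHom e.symm.injective
    simpa using this

theorem Poly.two {S : Type*} [Group S] (h : Poly S) {s t u t' u' : S} (h1 : K4 s t u) (h2 : K4 s t' u') :
    (t * t') * (t * t') = 1 := by
  rcases h with ⟨⟨e⟩⟩ | ⟨⟨e⟩⟩ | ⟨⟨e⟩⟩
  · apply e.injective
    rw [map_mul, map_mul, map_one]
    have a1 := h1.map e.toMonoidHom e.injective
    have a2 := h2.map e.toMonoidHom e.injective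
    have ht := s4_inv ((e t : alternatingGroup (Fin 4)) : Equiv.Perm (Fin 4)) (e t).2
      (congrArg Subtype.val a1.t2) ((e t' : alternatingGroup (Fin 4)) : Equiv.Perm (Fin 4)) (e t').2
      (congrArg Subtype.val a2.t2)
    rw [← map_mul]
    exact Subtype.ext (by simpa using ht)
  · apply e.injective
    rw [map_mul, map_mul, map_one]
    have a1 := h1.map e.toMonoidHom e.injective
    have a2 := h2.map e.toMonoidHom e.injective
    exact s4_inv _ (K4.sign_eq a1).2 a1.t2 _ (K4.sign_eq a2).2 a2.t2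
  · apply e.injective
    rw [map_mul, map_mul, map_one]
    have a1 := h1.map e.toMonoidHom e.injective
    have a2 := h2.map e.toMonoidHom e.injective
    have ne1 : ((e s : alternatingGroup (Fin 5)) : Equiv.Perm (Fin 5)) ≠ 1 :=
      fun h => a1.s1 (Subtype.ext h)
    have ht := a5_inv ((e s : alternatingGroup (Fin 5)) : Equiv.Perm (Fin 5)) (e s).2 ne1
      (congrArg Subtype.val a1.s2)
      ((e t : alternatingGroup (Fin 5)) : Equiv.Perm (Fin 5)) (e t).2
      (congrArg Subtype.val a1.t2) (congrArg Subtype.val a1.comm)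
      ((e t' : alternatingGroup (Fin 5)) : Equiv.Perm (Fin 5)) (e t').2
      (congrArg Subtype.val a2.t2) (congrArg Subtype.val a2.comm)
    rw [← map_mul]
    exact Subtype.ext (by simpa using ht)

end Cfsg.Agent.Lib.ZPerfA
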