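import Mathlib
import Cfsg.Agent.Lib.ZPerfA

/-!
# Fixed-point-free representations: two-dimensional blocks and frames

`Fpf ρ`: every non-identity element has no non-zero fixed vector.  A *block* is a pair of independent
vectors `b₁, b₂` on which the group elements of `Blk` act through matrices in `SL₂`; the image in `PSL₂`
is a subgroup of order prime to the characteristic.  A *frame* `(i, j, x)` is a copy of the binary
tetrahedral group; `x` is a linear combination of `1, i, j, ij`.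
-/

set_option autoImplicit false
set_option linter.style.haveILetI false
set_option linter.unusedSectionVars false

namespace Cfsg.Agent.Lib.ZPerfB

open Cfsg.Agent.Lib.SL2Core Cfsg.Agent.Lib.DicksonMat

variable {F U G : Type*} [Field F] [AddCommGroup U] [Module F U] [Group G]

/-- Fixed point free representation. -/
def Fpf (ρ : G →* Module.End F U) : Prop := ∀ g : G, g ≠ 1 → ∀ v : U, ρ g v = v → v = 0

section basic

variable {ρ : G →* Module.End F U}

theorem rho_mul (g h : G) (v : U) : ρ (g * h) v = ρ g (ρ h v) := by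
  rw [map_mul]; rfl

theorem rho_one (v : U) : ρ (1 : G) v = v := by
  rw [map_one]; rfl

theorem rho_inv_self (g : G) (v : U) : ρ g⁻¹ (ρ g v) = v := by
  rw [← rho_mul, inv_mul_cancel, rho_one]

theorem rho_self_inv (g : G) (v : U) : ρ g (ρ g⁻¹ v) = v := by
  rw [← rho_mul, mul_inv_cancel, rho_one]

theorem Fpf.eq_one {ρ : G →* Module.End F U} (hf : Fpf ρ) {g : G} {v : U} (hv : v ≠ 0) (h : ρ g v = v) :
    g = 1 := by
  by_contra hg
  exact hv (hf g hg v h)

theorem Fpf.inj [Nontrivial U] {ρ : G →* Module.End F U} (hf : Fpf ρ) : Function.Injective ρ := by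
  intro g h e
  obtain ⟨v, hv⟩ := exists_ne (0 : U)
  have h1 : ρ (g * h⁻¹) v = v := by
    rw [rho_mul, e, rho_self_inv]
  have := hf.eq_one hv h1
  exact mul_inv_eq_one.mp this

theorem Fpf.neg_of_invol {ρ : G →* Module.End F U} (hf : Fpf ρ) {g : G} (hg : g ≠ 1) (h2 : g * g = 1) (v : U) :
    ρ g v = -v := by
  have h : ρ g (v + ρ g v) = v + ρ g v := by
    rw [map_add, ← rho_mul, h2, rho_one, add_comm]
  have := hf g hg _ h
  exact (eq_neg_of_add_eq_zero_right this)

theorem Fpf.three {ρ : G →* Module.End F U} (hf : Fpf ρ) {g : G} (hg : g ≠ 1) (h3 : g ^ 3 = 1) (v : U) :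
    v + ρ g v + ρ g (ρ g v) = 0 := by
  apply hf g hg
  simp only [map_add]
  rw [← rho_mul g g, ← rho_mul g (g * g)]
  have : g * (g * g) = 1 := by rw [← h3, pow_succ', pow_two]
  rw [this, rho_one]
  abel

end basic

/-! ### Blocks -/

section block

variable (ρ : G →* Module.End F U) (b₁ b₂ : U)

/-- `g` acts on `b₁, b₂` through the matrix `M`. -/
def IsMat (g : G) (M : SL2 F) : Prop :=
  ρ g b₁ = ee M 0 0 • b₁ + ee M 1 0 • b₂ ∧ ρ g b₂ = ee M 0 1 • b₁ + ee M 1 1 • b₂

/-- Independence. -/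
def Ind2 : Prop := ∀ a c : F, a • b₁ + c • b₂ = 0 → a = 0 ∧ c = 0

variable {ρ b₁ b₂}

theorem Ind2.ne_zero (h : Ind2 (F := F) b₁ b₂) : b₁ ≠ 0 := by
  intro e
  have := (h 1 0 (by simp [e])).1
  exact one_ne_zero this

theorem IsMat.one : IsMat ρ b₁ b₂ 1 (1 : SL2 F) := by
  constructor <;> simp [rho_one]

theorem IsMat.mul {g h : G} {M N : SL2 F} (hg : IsMat ρ b₁ b₂ g M) (hh : IsMat ρ b₁ b₂ h N) :
    IsMat ρ b₁ b₂ (g * h) (M * N) := by
  constructor
  · rw [rho_mul, hh.1, map_add, map_smul, map_smul, hg.1, hg.2, ee_mul, ee_mul]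
    module
  · rw [rho_mul, hh.2, map_add, map_smul, map_smul, hg.1, hg.2, ee_mul, ee_mul]
    module

theorem IsMat.inv {g : G} {M : SL2 F} (hg : IsMat ρ b₁ b₂ g M) : IsMat ρ b₁ b₂ g⁻¹ M⁻¹ := by
  have hd := ee_det M
  have key : ∀ a c : F, ρ g⁻¹ ((a * ee M 0 0 + c * ee M 0 1) • b₁ + (a * ee M 1 0 + c * ee M 1 1) • b₂) = a • b₁ + c • b₂ := by
    intro a c
    have h1 : (a * ee M 0 0 + c * ee M 0 1) • b₁ + (a * ee M 1 0 + c * ee M 1 1) • b₂ = a • ρ g b₁ + c • ρ g b₂ := by
      rw [hg.1, hg.2]; module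
    rw [h1, map_add, map_smul, map_smul, rho_inv_self, rho_inv_self]
  constructor
  · have h2 := key (ee M 1 1) (- ee M 1 0)
    have e1 : (ee M 1 1 * ee M 0 0 + - ee M 1 0 * ee M 0 1) = 1 := by linear_combination hd
    have e2 : (ee M 1 1 * ee M 1 0 + - ee M 1 0 * ee M 1 1) = 0 := by ring
    rw [e1, e2, one_smul, zero_smul, add_zero] at h2
    rw [h2, ee_inv00, ee_inv10]
  · have h2 := key (- ee M 0 1) (ee M 0 0)
    have e1 : (- ee M 0 1 * ee M 0 0 + ee M 0 0 * ee M 0 1) = 0 := by ring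
    have e2 : (- ee M 0 1 * ee M 1 0 + ee M 0 0 * ee M 1 1) = 1 := by linear_combination hd
    rw [e1, e2, one_smul, zero_smul, zero_add] at h2
    rw [h2, ee_inv01, ee_inv11]

variable (ρ b₁ b₂)

/-- The elements acting on `b₁, b₂` through `SL₂`. -/
def Blk : Subgroup G where
  carrier := {g | ∃ M : SL2 F, IsMat ρ b₁ b₂ g M}
  one_mem' := ⟨1, IsMat.one⟩
  mul_mem' := fun ⟨M, hM⟩ ⟨N, hN⟩ => ⟨M * N, hM.mul hN⟩
  inv_mem' := fun ⟨M, hM⟩ => ⟨M⁻¹, hM.inv⟩

variable {ρ b₁ b₂}

theorem IsMat.mem {g : G} {M : SL2 F} (h : IsMat ρ b₁ b₂ g M) : g ∈ Blk ρ b₁ b₂ := ⟨M, h⟩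

theorem IsMat.unique (hind : Ind2 (F := F) b₁ b₂) {g : G} {M N : SL2 F} (h1 : IsMat ρ b₁ b₂ g M)
    (h2 : IsMat ρ b₁ b₂ g N) : M = N := by
  have e1 : (ee M 0 0 - ee N 0 0) • b₁ + (ee M 1 0 - ee N 1 0) • b₂ = 0 := by
    have := h1.1.symm.trans h2.1
    rw [sub_smul, sub_smul]
    rw [← sub_eq_zero] at this
    rw [← this]; abel
  have e2 : (ee M 0 1 - ee N 0 1) • b₁ + (ee M 1 1 - ee N 1 1) • b₂ = 0 := by
    have := h1.2.symm.trans h2.2
    rw [sub_smul, sub_smul]
    rw [← sub_eq_zero] at this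
    rw [← this]; abel
  obtain ⟨a1, a2⟩ := hind _ _ e1
  obtain ⟨a3, a4⟩ := hind _ _ e2
  exact ee_ext (sub_eq_zero.mp a1) (sub_eq_zero.mp a3) (sub_eq_zero.mp a2) (sub_eq_zero.mp a4)

/-- The matrix homomorphism. -/
noncomputable def psi (hind : Ind2 (F := F) b₁ b₂) : Blk ρ b₁ b₂ →* SL2 F where
  toFun g := Classical.choose g.2
  map_one' := IsMat.unique hind (Classical.choose_spec (Blk ρ b₁ b₂).one_mem) IsMat.one
  map_mul' g h := IsMat.unique hind (Classical.choose_spec (g * h).2)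
    ((Classical.choose_spec g.2).mul (Classical.choose_spec h.2))

theorem psi_spec (hind : Ind2 (F := F) b₁ b₂) (g : Blk ρ b₁ b₂) : IsMat ρ b₁ b₂ (g : G) (psi hind g) :=
  Classical.choose_spec g.2

theorem psi_eq (hind : Ind2 (F := F) b₁ b₂) (g : Blk ρ b₁ b₂) {M : SL2 F} (h : IsMat ρ b₁ b₂ (g : G) M) :
    psi hind g = M := IsMat.unique hind (psi_spec hind g) h

/-- Projection of a block to `PSL₂`, with the main properties. -/
theorem block_image [Finite G] (hf : Fpf ρ) (hind : Ind2 (F := F) b₁ b₂) {z : G} (hz : ∀ v, ρ z v = -v) (hzz : z * z = 1)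
    {p : ℕ} (hp : ¬ p ∣ Nat.card G) :
    ∃ (S : Subgroup (PSL2 F)) (π : Blk ρ b₁ b₂ →* S), Function.Surjective π ∧
      (∀ g : Blk ρ b₁ b₂, π g = 1 ↔ ((g : G) = 1 ∨ (g : G) = z)) ∧ ¬ p ∣ Nat.card S := by
  let f : Blk ρ b₁ b₂ →* PSL2 F := proj.comp (psi hind)
  refine ⟨f.range, f.rangeRestrict, f.rangeRestrict_surjective, ?_, ?_⟩
  · intro g
    have hb := hind.ne_zero
    have h0 : (f.rangeRestrict g = 1) ↔ (proj (psi hind g) = 1) := by
      rw [Subtype.ext_iff]
      rfl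
    rw [h0, proj_eq_one_iff]
    constructor
    · intro hc
      rcases center_eq _ hc with h | h
      · left
        have h1 := (psi_spec hind g).1
        rw [h] at h1
        apply hf.eq_one hb
        rw [h1]
        simp
      · right
        have h1 := (psi_spec hind g).1
        rw [h] at h1
        have h2 : ρ (z * g) b₁ = b₁ := by
          rw [rho_mul, h1]
          have e00 : ee (negS (1 : SL2 F)) 0 0 = -1 := by rw [ee_neg]; simp
          have e10 : ee (negS (1 : SL2 F)) 1 0 = 0 := by rw [ee_neg]; simp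
          rw [e00, e10, hz]
          simp
        have h3 := hf.eq_one hb h2
        calc (g : G) = z * (z * g) := by rw [← mul_assoc, hzz, one_mul]
          _ = z := by rw [h3, mul_one]
    · rintro (h | h)
      · have : g = 1 := Subtype.ext h
        rw [this, map_one]
        exact Subgroup.one_mem _
      · have h1 : IsMat ρ b₁ b₂ (g : G) (negS 1 : SL2 F) := by
          rw [h]
          have e00 : ee (negS (1 : SL2 F)) 0 0 = -1 := by rw [ee_neg]; simp
          have e10 : ee (negS (1 : SL2 F)) 1 0 = 0 := by rw [ee_neg]; simp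
          have e01 : ee (negS (1 : SL2 F)) 0 1 = 0 := by rw [ee_neg]; simp
          have e11 : ee (negS (1 : SL2 F)) 1 1 = -1 := by rw [ee_neg]; simp
          constructor
          · rw [hz, e00, e10]; simp
          · rw [hz, e01, e11]; simp
        rw [psi_eq hind g h1, ← proj_eq_one_iff, proj_negS, map_one]
  · intro hd
    apply hp
    have h1 : Nat.card f.range ∣ Nat.card (Blk ρ b₁ b₂) := Subgroup.card_range_dvd f
    exact hd.trans (h1.trans (Subgroup.card_subgroup_dvd_card _))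

end block

/-! ### The base context and frames -/

/-- The standing assumptions: `ρ` is fixed point free and `z` acts as `-1`. -/
structure Base (ρ : G →* Module.End F U) (z : G) : Prop where
  fpf : Fpf ρ
  hz : ∀ v, ρ z v = -v
  zz : z * z = 1
  two : (2 : F) ≠ 0

/-- Binary tetrahedral frame. -/
structure Frame (z i j x : G) : Prop where
  ii : i * i = z
  jj : j * j = z
  ji : j * i * j⁻¹ = i⁻¹
  x3 : x ^ 3 = 1
  x1 : x ≠ 1
  xi : x * i * x⁻¹ = j
  xj : x * j * x⁻¹ = (i * j)⁻¹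

section frames

variable {ρ : G →* Module.End F U} {z : G}

theorem Base.inj [Nontrivial U] (B : Base ρ z) : Function.Injective ρ := B.fpf.inj

theorem Base.z_ne [Nontrivial U] (B : Base ρ z) : z ≠ 1 := by
  intro e
  obtain ⟨v, hv⟩ := exists_ne (0 : U)
  have h1 : ρ z v = v := by rw [e, rho_one]
  rw [B.hz] at h1
  have h2 : (2 : F) • v = 0 := by
    rw [two_smul]
    nth_rewrite 1 [← h1]
    simp
  rcases smul_eq_zero.mp h2 with h | h
  · exact B.two h
  · exact hv h

theorem Base.z_central [Nontrivial U] (B : Base ρ z) (g : G) : g * z = z * g := by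
  apply B.inj
  ext v
  rw [rho_mul, rho_mul, B.hz, B.hz, map_neg]

theorem Base.eq_z [Nontrivial U] (B : Base ρ z) {g : G} (hg : g ≠ 1) (h2 : g * g = 1) : g = z := by
  apply B.inj
  ext v
  rw [B.fpf.neg_of_invol hg h2, B.hz]

theorem Base.neg_mat (B : Base ρ z) : ρ z = -1 := by
  ext v
  rw [B.hz]; simp

theorem Base.inv_of_sq (B : Base ρ z) {i : G} (h : i * i = z) : i⁻¹ = z * i := by
  rw [eq_comm, ← mul_eq_one_iff_eq_inv, mul_assoc, h, B.zz]

theorem Base.rho_inv_of_sq (B : Base ρ z) {i : G} (h : i * i = z) : ρ i⁻¹ = - ρ i := by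
  rw [B.inv_of_sq h, map_mul, B.neg_mat]; simp

theorem Frame.anti (B : Base ρ z) {i j x : G} (h : Frame z i j x) : ρ j * ρ i = - (ρ i * ρ j) := by
  have h1 : j * i = i⁻¹ * j := by
    rw [← h.ji]; group
  rw [← map_mul, h1, map_mul, B.rho_inv_of_sq h.ii]
  simp

/-- The main formula for a frame. -/
theorem Frame.formula [Nontrivial U] (B : Base ρ z) {i j x : G} (h : Frame z i j x) :
    (2 : Module.End F U) * ρ x = -1 + ρ i + ρ j - ρ i * ρ j := by
  set X := ρ x with hX
  set I := ρ i with hI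
  set J := ρ j with hJ
  have hII : I * I = -1 := by rw [hI, ← map_mul, h.ii, B.neg_mat]
  have hJI : J * I = - (I * J) := h.anti B
  have hXI : X * I = J * X := by
    rw [hX, hI, hJ, ← map_mul, ← map_mul]
    congr 1
    rw [← h.xi]; group
  have h3 : 1 + X + X * X = 0 := by
    ext v
    exact B.fpf.three h.x1 h.x3 v
  have hgne : x * i ≠ 1 := by
    intro e
    have e1 : x = i⁻¹ := eq_inv_of_mul_eq_one_left e
    have e2 : j = i := by
      rw [← h.xi, e1]; group
    have e3 := h.ji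
    rw [e2] at e3
    have e4 : i = i⁻¹ := by
      rw [← e3]; group
    have e5 : i * i = 1 := by
      nth_rewrite 2 [e4]; group
    exact B.z_ne (by rw [← h.ii, e5])
  have hg3 : (x * i) ^ 3 = 1 := by
    have e1 : (x * i) ^ 3 = (x * i * x⁻¹) * (x * (x * i * x⁻¹) * x⁻¹) * (x ^ 3 * i) := by
      simp only [pow_succ, pow_zero, one_mul]
      group
    rw [e1, h.xi, h.xj, h.x3]
    group
  have h4 : 1 + X * I + (X * I) * (X * I) = 0 := by
    ext v
    have := B.fpf.three hgne hg3 v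
    rw [rho_mul] at this
    simpa [rho_mul, hX, hI] using this
  have hXX : X * X = -1 - X := by
    have : X * X = (1 + X + X * X) - 1 - X := by abel
    rw [this, h3]; abel
  have h5 : (X * I) * (X * I) = - (J * I) + X := by
    calc (X * I) * (X * I) = (J * X) * (X * I) := by congr 1
      _ = J * (X * X) * I := by simp only [mul_assoc]
      _ = J * (-1 - X) * I := by rw [hXX]
      _ = - (J * I) - (J * X) * I := by noncomm_ring
      _ = - (J * I) - (X * I) * I := by rw [hXI]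
      _ = - (J * I) - X * (I * I) := by rw [mul_assoc]
      _ = - (J * I) + X := by rw [hII]; noncomm_ring
  have h6 : X + X * I = J * I - 1 := by
    have : X + X * I = (1 + X * I + (X * I) * (X * I)) - 1 + (J * I) := by
      rw [h5]; abel
    rw [this, h4]; abel
  calc (2 : Module.End F U) * X = (X + X * I) * (1 - I) + X * (I * I) + X := by noncomm_ring
    _ = (J * I - 1) * (1 - I) + X * (I * I) + X := by rw [h6]
    _ = (J * I - 1) * (1 - I) := by rw [hII]; noncomm_ring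
    _ = J * I - J * (I * I) - 1 + I := by noncomm_ring
    _ = -1 + I + J - I * J := by rw [hII, hJI]; noncomm_ring

theorem Frame.formula_apply [Nontrivial U] (B : Base ρ z) {i j x : G} (h : Frame z i j x) (v : U) :
    (2 : F) • ρ x v = - v + ρ i v + ρ j v - ρ i (ρ j v) := by
  have := LinearMap.congr_fun (h.formula B) v
  simpa [two_mul, two_smul] using this

theorem Frame.sq_mul [Nontrivial U] {i j x : G} (B : Base ρ z) (h : Frame z i j x) : (i * j) * (i * j) = z := by
  have h1 : j * i = i⁻¹ * j := by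
    rw [← h.ji]; group
  calc (i * j) * (i * j) = i * (j * i) * j := by group
    _ = j * j := by rw [h1]; group
    _ = z := h.jj

theorem Frame.rotate [Nontrivial U] {i j x : G} (B : Base ρ z) (h : Frame z i j x) : Frame z j (i * j)⁻¹ x where
  ii := h.jj
  jj := by
    rw [← mul_inv_rev, h.sq_mul B]
    rw [inv_eq_of_mul_eq_one_left B.zz]
  ji := by
    have h1 : j * i = i⁻¹ * j := by
      rw [← h.ji]; group
    have h2 : j⁻¹ = z * j := B.inv_of_sq h.jj
    have h3 : i⁻¹ * i⁻¹ = z := by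
      rw [B.inv_of_sq h.ii]
      calc (z * i) * (z * i) = z * (i * z) * i := by group
        _ = z * z * (i * i) := by rw [B.z_central i]; group
        _ = z := by rw [B.zz, one_mul, h.ii]
    calc (i * j)⁻¹ * j * (i * j)⁻¹⁻¹ = j⁻¹ * (i⁻¹ * (j * i)) * j := by group
      _ = j⁻¹ * ((i⁻¹ * i⁻¹) * j) * j := by rw [h1]; group
      _ = j⁻¹ * (z * j) * j := by rw [h3]
      _ = j⁻¹ * (z * j * j) := by group
      _ = j⁻¹ * (z * z) := by rw [mul_assoc z, h.jj]
      _ = j⁻¹ := by rw [B.zz, mul_one]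
  x3 := h.x3
  x1 := h.x1
  xi := h.xj
  xj := by
    have e : x * (i * j)⁻¹ * x⁻¹ = ((x * i * x⁻¹) * (x * j * x⁻¹))⁻¹ := by group
    rw [e, h.xi, h.xj]

theorem Frame.rotate2 [Nontrivial U] {i j x : G} (B : Base ρ z) (h : Frame z i j x) : Frame z (i * j)⁻¹ i x := by
  have := (h.rotate B).rotate B
  have e : (j * (i * j)⁻¹)⁻¹ = i := by group
  rwa [e] at this

theorem Frame.conj [Nontrivial U] {i j x : G} (B : Base ρ z) (h : Frame z i j x) (g : G) :
    Frame z (g * i * g⁻¹) (g * j * g⁻¹) (g * x * g⁻¹) where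
  ii := by
    calc g * i * g⁻¹ * (g * i * g⁻¹) = g * (i * i) * g⁻¹ := by group
      _ = z := by rw [h.ii, B.z_central g]; group
  jj := by
    calc g * j * g⁻¹ * (g * j * g⁻¹) = g * (j * j) * g⁻¹ := by group
      _ = z := by rw [h.jj, B.z_central g]; group
  ji := by
    have e : g * j * g⁻¹ * (g * i * g⁻¹) * (g * j * g⁻¹)⁻¹ = g * (j * i * j⁻¹) * g⁻¹ := by group
    rw [e, h.ji]; group
  x3 := by
    have e : (g * x * g⁻¹) ^ 3 = g * x ^ 3 * g⁻¹ := by
      rw [conj_pow]
    rw [e, h.x3]; group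
  x1 := by
    intro e
    apply h.x1
    have : x = g⁻¹ * (g * x * g⁻¹) * g := by group
    rw [this, e]; group
  xi := by
    have e : g * x * g⁻¹ * (g * i * g⁻¹) * (g * x * g⁻¹)⁻¹ = g * (x * i * x⁻¹) * g⁻¹ := by group
    rw [e, h.xi]
  xj := by
    have e : g * x * g⁻¹ * (g * j * g⁻¹) * (g * x * g⁻¹)⁻¹ = g * (x * j * x⁻¹) * g⁻¹ := by group
    rw [e, h.xj]; group

/-- A frame with first coordinate the inverse. -/
theorem Frame.inv_first [Nontrivial U] {i j x : G} (B : Base ρ z) (h : Frame z i j x) :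
    Frame z i⁻¹ j (j * x * j⁻¹) := by
  have := h.conj B j
  rw [h.ji] at this
  have e : j * j * j⁻¹ = j := by group
  rwa [e] at this

end frames

/-! ### The block of a frame -/

section wblock

variable {ρ : G →* Module.End F U} {z i j : G} {v : U} {I : F}

/-- A vector on which `i` acts by the scalar `I`, with `j` inverting `i`. -/
structure WD (ρ : G →* Module.End F U) (z i j : G) (v : U) (I : F) : Prop where
  ii : i * i = z
  jj : j * j = z
  ji : j * i * j⁻¹ = i⁻¹
  hv : v ≠ 0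
  hvi : ρ i v = I • v
  hI : I * I = -1

theorem WD.jv_ne (h : WD ρ z i j v I) : ρ j v ≠ 0 := by
  intro e
  apply h.hv
  have := rho_inv_self (ρ := ρ) j v
  rw [e, map_zero] at this
  exact this.symm

theorem WD.i_jv (B : Base ρ z) (h : WD ρ z i j v I) : ρ i (ρ j v) = (-I) • ρ j v := by
  have h1 : j * i = i⁻¹ * j := by
    rw [← h.ji]; group
  have h2 : ρ i⁻¹ (ρ j v) = ρ j (I • v) := by
    rw [← h.hvi, ← rho_mul, ← rho_mul, h1]
  rw [map_smul] at h2
  rw [B.rho_inv_of_sq h.ii] at h2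
  have h3 : - ρ i (ρ j v) = I • ρ j v := h2
  rw [neg_smul, ← h3, neg_neg]

theorem WD.ind (B : Base ρ z) (h : WD ρ z i j v I) : Ind2 (F := F) v (ρ j v) := by
  intro a c hac
  have hI0 : I ≠ 0 := by
    intro e
    have := h.hI
    rw [e, mul_zero] at this
    have h2 : (1 : F) = 0 := by
      have := congrArg Neg.neg this
      simpa using this.symm
    exact one_ne_zero h2
  have h1 : ρ i (a • v + c • ρ j v) = 0 := by rw [hac, map_zero]
  rw [map_add, map_smul, map_smul, h.hvi, h.i_jv B] at h1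
  have h2 : (2 * I * c) • ρ j v = 0 := by
    have e1 : (2 * I * c) • ρ j v = I • (a • v + c • ρ j v) - (a • I • v + c • (-I) • ρ j v) := by
      module
    rw [e1, hac, h1]; simp
  rcases smul_eq_zero.mp h2 with h3 | h3
  · have hc : c = 0 := by
      rcases mul_eq_zero.mp h3 with h4 | h4
      · rcases mul_eq_zero.mp h4 with h5 | h5
        · exact absurd h5 B.two
        · exact absurd h5 hI0
      · exact h4
    refine ⟨?_, hc⟩
    rw [hc, zero_smul, add_zero] at hac
    rcases smul_eq_zero.mp hac with h4 | h4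
    · exact h4
    · exact absurd h4 h.hv
  · exact absurd h3 h.jv_ne

/-- `i` on the block. -/
theorem WD.mat_i (B : Base ρ z) (h : WD ρ z i j v I) :
    IsMat ρ v (ρ j v) i (mk2 I 0 0 (-I) (by rw [mul_neg, h.hI]; ring)) := by
  constructor
  · rw [h.hvi]
    change _ = I • v + (0 : F) • ρ j v
    simp
  · rw [h.i_jv B]
    change _ = (0 : F) • v + (-I) • ρ j v
    simp

theorem WD.mat_j (B : Base ρ z) (h : WD ρ z i j v I) :
    IsMat ρ v (ρ j v) j (mk2 0 (-1) 1 0 (by ring)) := by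
  constructor
  · change _ = (0 : F) • v + (1 : F) • ρ j v
    simp
  · change _ = (-1 : F) • v + (0 : F) • ρ j v
    rw [← rho_mul, h.jj, B.hz]
    simp

theorem inv_apply_of_eig {A : G} {ζ : F} (hAv : ρ A v = ζ • v) (hζ : ζ ≠ 0) : ρ A⁻¹ v = ζ⁻¹ • v := by
  have h1 : ρ A⁻¹ (ζ • v) = v := by rw [← hAv, rho_inv_self]
  rw [map_smul] at h1
  calc ρ A⁻¹ v = ζ⁻¹ • (ζ • ρ A⁻¹ v) := by rw [smul_smul, inv_mul_cancel₀ hζ, one_smul]
    _ = ζ⁻¹ • v := by rw [h1]

theorem eig_ne_zero {A : G} {ζ : F} (hv : v ≠ 0) (hAv : ρ A v = ζ • v) : ζ ≠ 0 := by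
  rintro rfl
  rw [zero_smul] at hAv
  apply hv
  have := rho_inv_self (ρ := ρ) A v
  rw [hAv, map_zero] at this
  exact this.symm

theorem WD.B_jv (h : WD ρ z i j v I) {A : G} {ζ : F} (hAj : j * A * j⁻¹ = A⁻¹) (hAv : ρ A v = ζ • v) :
    ρ A (ρ j v) = ζ⁻¹ • ρ j v := by
  have hζ := eig_ne_zero h.hv hAv
  have h1 : A * j = j * A⁻¹ := by
    have e : j * A⁻¹ * j⁻¹ = A := by
      have e : j * A⁻¹ * j⁻¹ = (j * A * j⁻¹)⁻¹ := by group
      rw [e, hAj, inv_inv]
    exact ((mul_inv_eq_iff_eq_mul).mp e).symm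
  rw [← rho_mul, h1, rho_mul, inv_apply_of_eig hAv hζ, map_smul]

theorem WD.mat_A (h : WD ρ z i j v I) {A : G} {ζ : F} (hAj : j * A * j⁻¹ = A⁻¹) (hAv : ρ A v = ζ • v) :
    A ∈ Blk ρ v (ρ j v) := by
  have hζ := eig_ne_zero h.hv hAv
  refine IsMat.mem (M := mk2 ζ 0 0 ζ⁻¹ (by rw [mul_inv_cancel₀ hζ]; ring)) ⟨?_, ?_⟩
  · rw [hAv]
    change _ = ζ • v + (0 : F) • ρ j v
    simp
  · rw [h.B_jv hAj hAv]
    change _ = (0 : F) • v + ζ⁻¹ • ρ j v
    simp

theorem WD.mat_frame [Nontrivial U] (B : Base ρ z) (h : WD ρ z i j v I) {A x : G} {β : F}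
    (hAj : j * A * j⁻¹ = A⁻¹) (hAv : ρ A v = β • v) (hF : Frame z i (A * j) x) :
    x ∈ Blk ρ v (ρ j v) := by
  have hβ := eig_ne_zero h.hv hAv
  have h2 := B.two
  have hI := h.hI
  have hdet : ((-1 + I) / 2) * ((-1 - I) / 2) - (β * (-1 + I) / 2) * (β⁻¹ * (1 + I) / 2) = 1 := by
    field_simp
    linear_combination (-2 : F) * hI
  refine IsMat.mem (M := mk2 ((-1 + I) / 2) (β * (-1 + I) / 2) (β⁻¹ * (1 + I) / 2) ((-1 - I) / 2) hdet) ⟨?_, ?_⟩
  · have e := hF.formula_apply B v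
    have e1 : ρ (A * j) v = β⁻¹ • ρ j v := by rw [rho_mul, h.B_jv hAj hAv]
    rw [e1, map_smul, h.i_jv B, h.hvi] at e
    change _ = ((-1 + I) / 2) • v + (β⁻¹ * (1 + I) / 2) • ρ j v
    have e2 : ρ x v = (2 : F)⁻¹ • ((2 : F) • ρ x v) := by
      rw [smul_smul, inv_mul_cancel₀ h2, one_smul]
    rw [e2, e]
    simp only [div_eq_mul_inv]
    module
  · have e := hF.formula_apply B (ρ j v)
    have e1 : ρ (A * j) (ρ j v) = (-β) • v := by
      rw [rho_mul, ← rho_mul j j, h.jj, B.hz, map_neg, hAv, neg_smul]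
    rw [e1, map_smul, h.i_jv B, h.hvi] at e
    change _ = (β * (-1 + I) / 2) • v + ((-1 - I) / 2) • ρ j v
    have e2 : ρ x (ρ j v) = (2 : F)⁻¹ • ((2 : F) • ρ x (ρ j v)) := by
      rw [smul_smul, inv_mul_cancel₀ h2, one_smul]
    rw [e2, e]
    simp only [div_eq_mul_inv]
    module

/-- The Klein configuration in the projective image of a block. -/
theorem frame_K4 [Nontrivial U] (B : Base ρ z) {j x : G} (hf : Frame z i j x) {S : Type*} [Group S]
    (Bk : Subgroup G) (π : Bk →* S) (hker : ∀ g : Bk, π g = 1 ↔ ((g : G) = 1 ∨ (g : G) = z))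
    (hi : i ∈ Bk) (hj : j ∈ Bk) (hx : x ∈ Bk) :
    Cfsg.Agent.Lib.ZPerfA.K4 (π ⟨i, hi⟩) (π ⟨j, hj⟩) (π ⟨x, hx⟩) := by
  have hii : π ⟨i, hi⟩ * π ⟨i, hi⟩ = 1 := by
    rw [← map_mul, hker]; right; exact hf.ii
  have hjj : π ⟨j, hj⟩ * π ⟨j, hj⟩ = 1 := by
    rw [← map_mul, hker]; right; exact hf.jj
  have hz1 := B.z_ne
  have hji2 : j * i = i⁻¹ * j := by
    rw [← hf.ji]; group
  refine ⟨hii, hjj, ?_, ?_, ?_, ?_, ?_, ?_⟩
  · intro e
    rcases (hker _).mp e with h | h
    · apply hz1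
      rw [← hf.ii]
      change (i : G) = 1 at h
      rw [h]; simp
    · apply hz1
      change (i : G) = z at h
      have := hf.ii
      rw [h] at this
      exact this.symm.trans B.zz
  · intro e
    have e1 : π (⟨i, hi⟩⁻¹ * ⟨j, hj⟩) = 1 := by
      rw [map_mul, map_inv, ← e]; simp
    have hij : j = i ∨ j = i * z := by
      rcases (hker _).mp e1 with h | h
      · left
        have h' : i⁻¹ * j = 1 := h
        exact (inv_mul_eq_one.mp h').symm
      · right
        have h' : i⁻¹ * j = z := h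
        rw [← h']; group
    have e2 : i = i⁻¹ := by
      have hji := hf.ji
      rcases hij with rfl | h
      · rw [← hji]; group
      · rw [h] at hji
        have hc := B.z_central i
        have e3 : (i * z) * i * (i * z)⁻¹ = i := by
          calc (i * z) * i * (i * z)⁻¹ = i * (z * i) * z⁻¹ * i⁻¹ := by group
            _ = i := by rw [← hc]; group
        rw [← hji]; exact e3.symm
    have e5 : i * i = 1 := by
      nth_rewrite 2 [e2]; group
    exact hz1 (by rw [← hf.ii, e5])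
  · have e1 : π (⟨i, hi⟩ * ⟨j, hj⟩ * (⟨j, hj⟩ * ⟨i, hi⟩)⁻¹) = 1 := by
      rw [hker]; right
      change i * j * (j * i)⁻¹ = z
      have e2 : j * i⁻¹ * j⁻¹ = i := by
        have e : j * i⁻¹ * j⁻¹ = (j * i * j⁻¹)⁻¹ := by group
        rw [e, hf.ji, inv_inv]
      calc i * j * (j * i)⁻¹ = i * (j * i⁻¹ * j⁻¹) := by group
        _ = z := by rw [e2, hf.ii]
    rw [map_mul, map_inv, map_mul, map_mul, mul_inv_eq_one] at e1
    exact e1
  · rw [← map_pow]
    have : (⟨x, hx⟩ : Bk) ^ 3 = 1 := Subtype.ext (by simpa using hf.x3)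
    rw [this, map_one]
  · rw [← map_inv, ← map_mul, ← map_mul]
    congr 1
    exact Subtype.ext hf.xi
  · have e1 : π (⟨i, hi⟩ * ⟨j, hj⟩) * π (⟨i, hi⟩ * ⟨j, hj⟩) = 1 := by
      rw [← map_mul, hker]; right
      exact hf.sq_mul B
    have e2 : π ⟨x, hx⟩ * π ⟨j, hj⟩ * (π ⟨x, hx⟩)⁻¹ = (π (⟨i, hi⟩ * ⟨j, hj⟩))⁻¹ := by
      rw [← map_inv, ← map_inv, ← map_mul, ← map_mul]
      congr 1
      exact Subtype.ext hf.xj
    rw [e2, ← map_mul, eq_comm]
    exact eq_inv_of_mul_eq_one_left e1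

end wblock

end Cfsg.Agent.Lib.ZPerfB
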