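import Mathlib
import Cfsg.Agent.Lib.ZPerfB

/-!
# Consequences of Dickson's theorem for fixed point free representations

`Ctx`: a fixed point free representation over a finite field with all the roots of unity needed.
* `order_bound`, `odd_elim`: elements `A` commuting with `i` and inverted by `j` are strongly restricted;
* `two_frames`: two frames with common first coordinate in a generalized quaternion group;
* `exists_frame`: two non-commuting elements of order three give a frame.
-/

set_option autoImplicit false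
set_option linter.style.haveILetI false
set_option linter.unusedSectionVars false

namespace Cfsg.Agent.Lib.ZPerfC

open Polynomial Cfsg.Agent.Lib.SL2Core Cfsg.Agent.Lib.DicksonMat Cfsg.Agent.Lib.ZPerfA Cfsg.Agent.Lib.ZPerfB

variable {F U G : Type*} [Field F] [AddCommGroup U] [Module F U] [Group G]

theorem exists_eig [FiniteDimensional F U] [Nontrivial U] (T : Module.End F U) (m : ℕ) (hm : m ≠ 0)
    (hT : T ^ m = 1) (hs : (X ^ m - 1 : F[X]).Splits) : ∃ (ζ : F) (v : U), v ≠ 0 ∧ T v = ζ • v := by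
  have h1 : aeval T (X ^ m - 1 : F[X]) = 0 := by
    simp [hT]
  have h2 : minpoly F T ∣ (X ^ m - 1 : F[X]) := minpoly.dvd F T h1
  have h3 : (X ^ m - 1 : F[X]) ≠ 0 := by
    have := X_pow_sub_C_ne_zero (R := F) (Nat.pos_of_ne_zero hm) 1
    simpa using this
  have h4 : (minpoly F T).Splits := hs.of_dvd h3 h2
  have h5 : (minpoly F T).degree ≠ 0 :=
    (minpoly.degree_pos (Algebra.IsIntegral.isIntegral T)).ne'
  obtain ⟨μ, hμ⟩ := h4.exists_eval_eq_zero h5
  have h6 : T.HasEigenvalue μ := Module.End.hasEigenvalue_of_isRoot hμ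
  obtain ⟨v, hv⟩ := h6.exists_hasEigenvector
  exact ⟨μ, v, hv.2, hv.apply_eq_smul⟩

/-- The standing assumptions with enough roots of unity. -/
structure Ctx (ρ : G →* Module.End F U) (z : G) (p : ℕ) : Prop extends Base ρ z where
  cop : ¬ p ∣ Nat.card G
  I₀ : ∃ I : F, I * I = -1
  s₀ : ∃ s : F, s * s = -3
  spl : (X ^ Nat.card G - 1 : F[X]).Splits

section main

variable [Finite G] [FiniteDimensional F U] [Nontrivial U] {ρ : G →* Module.End F U} {z : G} {p : ℕ}

theorem Ctx.eig (C : Ctx ρ z p) (g : G) : ∃ (ζ : F) (v : U), v ≠ 0 ∧ ρ g v = ζ • v := by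
  apply exists_eig (ρ g) (Nat.card G) Nat.card_pos.ne' _ C.spl
  rw [← map_pow, pow_card_eq_one', map_one]

theorem Ctx.exists_WD (C : Ctx ρ z p) {i j A : G} (hi : i * i = z) (hj : j * j = z) (hji : j * i * j⁻¹ = i⁻¹)
    (hAi : A * i = i * A) : ∃ (v : U) (I ζ : F), WD ρ z i j v I ∧ ρ A v = ζ • v := by
  obtain ⟨ζ, v₀, hv₀, hA⟩ := C.eig A
  obtain ⟨I₀, hI₀⟩ := C.I₀
  have hcomm : ∀ w : U, ρ A (ρ i w) = ρ i (ρ A w) := by
    intro w
    rw [← rho_mul, ← rho_mul, hAi]
  by_cases h : ρ i v₀ + I₀ • v₀ = 0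
  · refine ⟨v₀, -I₀, ζ, ⟨hi, hj, hji, hv₀, ?_, by rw [neg_mul_neg, hI₀]⟩, hA⟩
    rw [neg_smul]
    exact eq_neg_of_add_eq_zero_left h
  · refine ⟨ρ i v₀ + I₀ • v₀, I₀, ζ, ⟨hi, hj, hji, h, ?_, hI₀⟩, ?_⟩
    · rw [map_add, map_smul, ← rho_mul, hi, C.hz, smul_add, smul_smul, hI₀]
      simp only [neg_smul, one_smul]
      abel
    · rw [map_add, map_smul, hcomm, hA, map_smul, smul_add, smul_smul, smul_smul, mul_comm]

variable [Finite F] [hp : Fact p.Prime] [CharP F p]

/-- The block attached to a frame and an element `A`. -/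
theorem Ctx.frame_block (C : Ctx ρ z p) {i j x A : G} (hf : Frame z i j x) (hAi : A * i = i * A)
    (hAj : j * A * j⁻¹ = A⁻¹) :
    ∃ (Bk : Subgroup G) (S : Subgroup (PSL2 F)) (π : Bk →* S),
      (∀ g : Bk, π g = 1 ↔ ((g : G) = 1 ∨ (g : G) = z)) ∧ Cfsg.Agent.Lib.ZPerfA.Poly S ∧
      ∃ (hi : i ∈ Bk) (hj : j ∈ Bk) (hx : x ∈ Bk) (hA : A ∈ Bk),
        (∀ x' : G, Frame z i (A * j) x' → x' ∈ Bk) := by
  obtain ⟨v, I, ζ, hW, hAv⟩ := C.exists_WD hf.ii hf.jj hf.ji hAi
  have hind := hW.ind C.toBase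
  obtain ⟨S, π, hs, hker, hpS⟩ := block_image C.fpf hind C.hz C.zz C.cop
  have hi : i ∈ Blk ρ v (ρ j v) := (hW.mat_i C.toBase).mem
  have hj : j ∈ Blk ρ v (ρ j v) := (hW.mat_j C.toBase).mem
  have hx : x ∈ Blk ρ v (ρ j v) := by
    have hv1 : ρ (1 : G) v = (1 : F) • v := by rw [rho_one, one_smul]
    have e : (1 : G) * j = j := one_mul j
    refine hW.mat_frame C.toBase (A := 1) (β := 1) (by simp) hv1 ?_
    rw [e]; exact hf
  have hA : A ∈ Blk ρ v (ρ j v) := hW.mat_A hAj hAv
  refine ⟨Blk ρ v (ρ j v), S, π, hker, ?_, hi, hj, hx, hA, ?_⟩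
  · exact K4_poly p S hpS (frame_K4 C.toBase hf _ π hker hi hj hx)
  · intro x' hx'
    exact hW.mat_frame C.toBase hAj hAv hx'

/-- An element commuting with `i` and inverted by `j` has order at most `10`. -/
theorem Ctx.order_bound (C : Ctx ρ z p) {i j x A : G} (hf : Frame z i j x) (hAi : A * i = i * A)
    (hAj : j * A * j⁻¹ = A⁻¹) : orderOf A ≤ 10 := by
  obtain ⟨Bk, S, π, hker, hP, hi, hj, hx, hA, -⟩ := C.frame_block hf hAi hAj
  have h1 := hP.order_le (π ⟨A, hA⟩)
  set n := orderOf (π ⟨A, hA⟩) with hn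
  have hn0 : 0 < n := by
    have hd : n ∣ orderOf A := by
      apply orderOf_dvd_of_pow_eq_one
      rw [← map_pow]
      have : (⟨A, hA⟩ : Bk) ^ orderOf A = 1 := Subtype.ext (by simp [pow_orderOf_eq_one])
      rw [this, map_one]
    exact Nat.pos_of_dvd_of_pos hd (orderOf_pos A)
  have h2 : π (⟨A, hA⟩ ^ n) = 1 := by
    rw [map_pow, hn, pow_orderOf_eq_one]
  have h3 : A ^ (2 * n) = 1 := by
    rcases (hker _).mp h2 with h | h
    · have h' : A ^ n = 1 := by simpa using h
      rw [mul_comm, pow_mul, h', one_pow]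
    · have h' : A ^ n = z := by simpa using h
      rw [mul_comm, pow_mul, h', pow_two, C.zz]
  have h4 := orderOf_le_of_pow_eq_one (by omega) h3
  omega

/-- An element of odd order commuting with `i` and inverted by `j` is trivial. -/
theorem Ctx.odd_elim (C : Ctx ρ z p) {i j x A : G} (hf : Frame z i j x) (hAi : A * i = i * A)
    (hAj : j * A * j⁻¹ = A⁻¹) (hodd : Odd (orderOf A)) : A = 1 := by
  obtain ⟨Bk, S, π, hker, hP, hi, hj, hx, hA, -⟩ := C.frame_block hf hAi hAj
  have hK := frame_K4 C.toBase hf Bk π hker hi hj hx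
  set y := π ⟨A, hA⟩ with hy
  set t := π ⟨i, hi⟩ with ht
  have hcomm : Commute y t := by
    rw [Commute, SemiconjBy, hy, ht, ← map_mul, ← map_mul]
    congr 1
    exact Subtype.ext hAi
  have ho2 : orderOf t = 2 := orderOf_eq_prime (by rw [pow_two]; exact hK.s2) hK.s1
  have hdvd : orderOf y ∣ orderOf A := by
    apply orderOf_dvd_of_pow_eq_one
    rw [hy, ← map_pow]
    have : (⟨A, hA⟩ : Bk) ^ orderOf A = 1 := Subtype.ext (by simp [pow_orderOf_eq_one])
    rw [this, map_one]
  have hoddy : Odd (orderOf y) := Odd.of_dvd_nat hodd hdvd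
  have hcop : Nat.Coprime (orderOf y) (orderOf t) := by
    rw [ho2]
    exact Nat.coprime_two_right.mpr hoddy
  have h1 := hcomm.orderOf_mul_eq_mul_orderOf_of_coprime hcop
  have h2 := hP.order_le (y * t)
  rw [h1, ho2] at h2
  have h3 : orderOf y = 1 := by
    obtain ⟨k, hk⟩ := hoddy
    omega
  have h4 : y = 1 := orderOf_eq_one_iff.mp h3
  rcases (hker _).mp h4 with h | h
  · exact h
  · exfalso
    have h' : A = z := h
    rw [h', orderOf_eq_prime (by rw [pow_two]; exact C.zz) C.z_ne] at hodd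
    exact absurd hodd (by decide)

/-- Two frames with the same first coordinate whose second coordinates differ by `A` force `A⁴ = 1`. -/
theorem Ctx.two_frames (C : Ctx ρ z p) {i j x x' A : G} (hf : Frame z i j x) (hf' : Frame z i (A * j) x')
    (hAi : A * i = i * A) (hAj : j * A * j⁻¹ = A⁻¹) : A ^ 4 = 1 := by
  obtain ⟨Bk, S, π, hker, hP, hi, hj, hx, hA, hfr⟩ := C.frame_block hf hAi hAj
  have hx' := hfr x' hf'
  have hAj' : A * j ∈ Bk := Bk.mul_mem hA hj
  have h1 := frame_K4 C.toBase hf Bk π hker hi hj hx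
  have h2 := frame_K4 C.toBase hf' Bk π hker hi hAj' hx'
  have h3 := hP.two h1 h2
  -- `j * (A * j) = A⁻¹ * z`
  have e : j * (A * j) = A⁻¹ * z := by
    have : j * (A * j) = (j * A * j⁻¹) * (j * j) := by group
    rw [this, hAj, hf.jj]
  rw [← map_mul, ← map_mul] at h3
  have h4 := (hker _).mp h3
  have e2 : (((⟨j, hj⟩ : Bk) * ⟨A * j, hAj'⟩ * (⟨j, hj⟩ * ⟨A * j, hAj'⟩) : Bk) : G) = (A⁻¹ * z) * (A⁻¹ * z) := by
    change (j * (A * j)) * (j * (A * j)) = _
    rw [e]
  rw [e2] at h4
  have e3 : (A⁻¹ * z) * (A⁻¹ * z) = (A⁻¹) * (A⁻¹) := by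
    calc (A⁻¹ * z) * (A⁻¹ * z) = A⁻¹ * (z * A⁻¹) * z := by group
      _ = A⁻¹ * (A⁻¹ * z) * z := by rw [C.z_central A⁻¹]
      _ = A⁻¹ * A⁻¹ * (z * z) := by group
      _ = _ := by rw [C.zz, mul_one]
  rw [e3] at h4
  have h5 : (A⁻¹ * A⁻¹) * (A⁻¹ * A⁻¹) = 1 := by
    rcases h4 with h | h
    · rw [h, mul_one]
    · rw [h, C.zz]
  have h6 : (A ^ 4)⁻¹ = 1 := by
    rw [← h5]; group
  exact inv_eq_one.mp h6

end main

section pair

variable [Finite G] [FiniteDimensional F U] [Nontrivial U] {ρ : G →* Module.End F U} {z : G} {p : ℕ}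
variable [Finite F] [hp : Fact p.Prime] [CharP F p]

theorem dihedral_comm {k : ℕ} (a b : DihedralGroup k) (ha : a ^ 3 = 1) (hb : b ^ 3 = 1) : a * b = b * a := by
  have key : ∀ u : DihedralGroup k, u ^ 3 = 1 → ∃ c, u = DihedralGroup.r c := by
    intro u hu
    rcases hc : u with c | c
    · exact ⟨c, rfl⟩
    · exfalso
      subst hc
      have h1 : DihedralGroup.sr c * DihedralGroup.sr c = (1 : DihedralGroup k) := by
        simp [DihedralGroup.sr_mul_sr]
      have e : (DihedralGroup.sr c : DihedralGroup k) ^ 3 = DihedralGroup.sr c := by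
        rw [pow_succ, pow_two, h1, one_mul]
      rw [e] at hu
      have e1 : (1 : DihedralGroup k) = DihedralGroup.r 0 := rfl
      rw [e1] at hu
      cases hu
  obtain ⟨c, rfl⟩ := key a ha
  obtain ⟨d, rfl⟩ := key b hb
  simp [DihedralGroup.r_mul_r, add_comm]

/-- Lifting a Klein configuration from the projective image of a block to a frame. -/
theorem frame_of_K4 (B : Base ρ z) {Bk : Subgroup G} {S : Type*} [Group S] (π : Bk →* S)
    (hker : ∀ g : Bk, π g = 1 ↔ ((g : G) = 1 ∨ (g : G) = z)) (hs : Function.Surjective π)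
    {gy : Bk} {t₁ t₂ : S} (hK : K4 t₁ t₂ (π gy)) (hy1 : (gy : G) ≠ 1) (hy3 : (gy : G) ^ 3 = 1) :
    ∃ i j x : G, Frame z i j x := by
  obtain ⟨gi, hgi⟩ := hs t₁
  set y : G := (gy : G) with hy
  set i : G := (gi : G) with hi
  set j : G := y * i * y⁻¹ with hj
  have hzc := B.z_central
  have hz1 := B.z_ne
  -- `i * i = z`
  have hii : i * i = z := by
    have h1 : π (gi * gi) = 1 := by rw [map_mul, hgi, hK.s2]
    rcases (hker _).mp h1 with h | h
    · exfalso
      have h' : i * i = 1 := h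
      by_cases hi1 : i = 1
      · apply hK.s1
        rw [← hgi]
        exact (hker _).mpr (Or.inl hi1)
      · apply hK.s1
        rw [← hgi]
        exact (hker _).mpr (Or.inr (B.eq_z hi1 h'))
    · exact h
  have hjj : j * j = z := by
    have : j * j = y * (i * i) * y⁻¹ := by rw [hj]; group
    rw [this, hii, hzc y]; group
  obtain ⟨gj, hgj⟩ : ∃ gj : Bk, gj = gy * gi * gy⁻¹ := ⟨_, rfl⟩
  have hcj : (gj : G) = j := by rw [hgj]; rfl
  have hπj : π gj = t₂ := by
    rw [hgj, map_mul, map_mul, map_inv, hgi, hK.us]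
  -- commutation
  have hcomm : π (gi * gj * (gj * gi)⁻¹) = 1 := by
    rw [map_mul, map_inv, map_mul, map_mul, hπj, hgi, hK.comm]; simp
  have hcase : i * j * (j * i)⁻¹ = 1 ∨ i * j * (j * i)⁻¹ = z := by
    have := (hker _).mp hcomm
    simpa [hcj] using this
  have hinvz : i⁻¹ = z * i := B.inv_of_sq hii
  have hjinv : j⁻¹ = z * j := B.inv_of_sq hjj
  have hji : j * i * j⁻¹ = i⁻¹ := by
    rcases hcase with h | h
    · exfalso
      have hc : i * j = j * i := mul_inv_eq_one.mp h
      have h1 : (i * j) * (i * j) = 1 := by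
        calc (i * j) * (i * j) = i * (j * i) * j := by group
          _ = i * (i * j) * j := by rw [hc]
          _ = (i * i) * (j * j) := by group
          _ = 1 := by rw [hii, hjj, B.zz]
      have h2 : π (gi * gj) = 1 := by
        rw [hker]
        by_cases h3 : i * j = 1
        · left; simpa [hcj] using h3
        · right; simpa [hcj] using (B.eq_z h3 h1)
      rw [map_mul, hπj, hgi] at h2
      apply hK.st
      exact mul_left_cancel (a := t₁) (by rw [hK.s2, h2])
    · have h1 : i * j = z * (j * i) := by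
        rw [← h]; group
      have h2 : j * i = z * (i * j) := by
        rw [h1, ← mul_assoc, B.zz, one_mul]
      calc j * i * j⁻¹ = z * (i * j) * j⁻¹ := by rw [h2]
        _ = z * i := by group
        _ = i⁻¹ := hinvz.symm
  have hsq : (i * j) * (i * j) = z := by
    have h1 : j * i = i⁻¹ * j := by
      rw [← hji]; group
    calc (i * j) * (i * j) = i * (j * i) * j := by group
      _ = j * j := by rw [h1]; group
      _ = z := hjj
  -- the image of `y j y⁻¹`
  have hy2 : π (gy * gj * gy⁻¹ * (gi * gj)⁻¹) = 1 := by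
    rw [map_mul, map_mul, map_mul, map_inv, map_inv, map_mul, hπj, hgi, hK.ut]; simp
  have hcase2 : y * j * y⁻¹ * (i * j)⁻¹ = 1 ∨ y * j * y⁻¹ * (i * j)⁻¹ = z := by
    have := (hker _).mp hy2
    simpa [hcj] using this
  have hijinv : (i * j)⁻¹ = z * (i * j) := B.inv_of_sq hsq
  rcases hcase2 with h | h
  · -- second case: use `y⁻¹`
    have e1 : y * j * y⁻¹ = i * j := mul_inv_eq_one.mp h
    have hji2 : j * i * j = i := by
      calc j * i * j = (j * i * j⁻¹) * (j * j) := by group
        _ = z * i * z := by rw [hji, hinvz, hjj]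
        _ = i := by rw [← hzc i, mul_assoc, B.zz, mul_one]
    have e2 : y * (i * j) * y⁻¹ = i := by
      calc y * (i * j) * y⁻¹ = (y * i * y⁻¹) * (y * j * y⁻¹) := by group
        _ = j * (i * j) := by rw [e1]
        _ = i := by rw [← mul_assoc, hji2]
    refine ⟨i, i * j, y⁻¹, hii, hsq, ?_, ?_, ?_, ?_, ?_⟩
    · have h1 : j * i = i⁻¹ * j := by
        rw [← hji]; group
      calc i * j * i * (i * j)⁻¹ = i * (j * i) * j⁻¹ * i⁻¹ := by group
        _ = i⁻¹ := by rw [h1]; group
    · rw [inv_pow, hy3, inv_one]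
    · simpa using hy1
    · calc y⁻¹ * i * y⁻¹⁻¹ = y⁻¹ * (y * (i * j) * y⁻¹) * y := by rw [e2]; group
        _ = i * j := by group
    · have e3 : y⁻¹ * j * y = i := by rw [hj]; group
      have e4 : y⁻¹ * i * y = i * j := by
        calc y⁻¹ * i * y = y⁻¹ * (y * (i * j) * y⁻¹) * y := by rw [e2]
          _ = i * j := by group
      have e5 : y⁻¹ * (i * j) * y⁻¹⁻¹ = (y⁻¹ * i * y) * (y⁻¹ * j * y) := by group
      rw [e5, e3, e4]
      have e6 : (i * (i * j))⁻¹ = j := by
        have : i * (i * j) = z * j := by rw [← mul_assoc, hii]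
        rw [this]
        exact inv_eq_of_mul_eq_one_right (by rw [mul_assoc, hjj, B.zz])
      rw [e6]
      have h1 : j * i = i⁻¹ * j := by
        rw [← hji]; group
      calc i * j * i = i * (j * i) := by group
        _ = j := by rw [h1]; group
  · -- first case
    refine ⟨i, j, y, hii, hjj, hji, hy3, hy1, rfl, ?_⟩
    have e1 : y * j * y⁻¹ = z * (i * j) := by rw [← h]; group
    rw [e1, hijinv]

/-- Two non-commuting elements of order three produce a frame. -/
theorem Ctx.exists_frame (C : Ctx ρ z p) {y y' : G} (hy1 : y ≠ 1) (hy3 : y ^ 3 = 1) (hy'1 : y' ≠ 1) (hy'3 : y' ^ 3 = 1)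
    (hne : y * y' ≠ y' * y) : ∃ i j x : G, Frame z i j x := by
  classical
  have h2 := C.two
  have fY : ∀ v : U, v + ρ y v + ρ y (ρ y v) = 0 := C.fpf.three hy1 hy3
  have fY' : ∀ v : U, v + ρ y' v + ρ y' (ρ y' v) = 0 := C.fpf.three hy'1 hy'3
  have YY : ∀ v : U, ρ y (ρ y v) = - v - ρ y v := by
    intro v
    have e : ρ y (ρ y v) = (v + ρ y v + ρ y (ρ y v)) - v - ρ y v := by abel
    rw [e, fY]; abel
  have YY' : ∀ v : U, ρ y' (ρ y' v) = - v - ρ y' v := by
    intro v
    have e : ρ y' (ρ y' v) = (v + ρ y' v + ρ y' (ρ y' v)) - v - ρ y' v := by abel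
    rw [e, fY']; abel
  have Yi : ∀ v : U, ρ y⁻¹ v = - v - ρ y v := by
    intro v
    have e : ρ y (- v - ρ y v) = v := by
      rw [map_sub, map_neg, YY]; abel
    calc ρ y⁻¹ v = ρ y⁻¹ (ρ y (- v - ρ y v)) := by rw [e]
      _ = _ := rho_inv_self _ _
  have Yi' : ∀ v : U, ρ y'⁻¹ v = - v - ρ y' v := by
    intro v
    have e : ρ y' (- v - ρ y' v) = v := by
      rw [map_sub, map_neg, YY']; abel
    calc ρ y'⁻¹ v = ρ y'⁻¹ (ρ y' (- v - ρ y' v)) := by rw [e]
      _ = _ := rho_inv_self _ _
  let a : Module.End F U := (2 : F) • ρ y + 1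
  let b : Module.End F U := (2 : F) • ρ y' + 1
  have ha : ∀ v, a v = (2 : F) • ρ y v + v := fun v => rfl
  have hb : ∀ v, b v = (2 : F) • ρ y' v + v := fun v => rfl
  have haa : ∀ v, a (a v) = (-3 : F) • v := by
    intro v
    rw [ha, ha]
    simp only [map_add, map_smul]
    rw [YY]
    module
  have hbb : ∀ v, b (b v) = (-3 : F) • v := by
    intro v
    rw [hb, hb]
    simp only [map_add, map_smul]
    rw [YY']
    module
  let c : Module.End F U := a * b + b * a
  have hc0 : ∀ v, c v = a (b v) + b (a v) := fun v => rfl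
  have hca : ∀ v, c (a v) = a (c v) := by
    intro v
    rw [hc0, hc0, haa, map_smul, map_add, haa]
    abel
  have hcb : ∀ v, c (b v) = b (c v) := by
    intro v
    rw [hc0, hc0, hbb, map_smul, map_add, hbb]
    abel
  have hc : ∀ v, c v = (4 : F) • ρ (y * y') v + (4 : F) • ρ (y * y')⁻¹ v - (2 : F) • v := by
    intro v
    rw [hc0, ha, hb, ha, hb, mul_inv_rev, rho_mul, rho_mul, Yi, Yi']
    simp only [map_add, map_smul, map_neg, map_sub]
    module
  obtain ⟨ζ, u, hu, hgu⟩ := C.eig (y * y')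
  have hζ : ζ ≠ 0 := eig_ne_zero hu hgu
  set γ : F := 4 * (ζ + ζ⁻¹) - 2 with hγ
  have hcu : c u = γ • u := by
    rw [hc, hgu, inv_apply_of_eig hgu hζ, hγ]
    module
  obtain ⟨s, hs⟩ := C.s₀
  obtain ⟨v, s', hv, hav, hs', hcv⟩ : ∃ (v : U) (s' : F), v ≠ 0 ∧ a v = s' • v ∧ s' * s' = -3 ∧ c v = γ • v := by
    by_cases hw : a u + s • u = 0
    · refine ⟨u, -s, hu, ?_, by rw [neg_mul_neg, hs], hcu⟩
      rw [neg_smul]
      exact eq_neg_of_add_eq_zero_left hw
    · refine ⟨a u + s • u, s, hw, ?_, hs, ?_⟩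
      · rw [map_add, map_smul, haa, smul_add, smul_smul, hs]
        abel
      · rw [map_add, map_smul, hca, hcu, map_smul]
        module
  have hbv : a (b v) = γ • v - s' • b v := by
    have h1 := hc0 v
    rw [hcv, hav, map_smul] at h1
    rw [h1]; abel
  have half : ∀ x w : U, (2 : F) • x = w → x = (2 : F)⁻¹ • w := by
    intro x w h
    rw [← h, smul_smul, inv_mul_cancel₀ h2, one_smul]
  by_cases hind : Ind2 (F := F) v (b v)
  · -- the block
    have e1 : ρ y v = ((s' - 1) / 2) • v := by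
      have : (2 : F) • ρ y v = (s' - 1) • v := by
        have h1 := hav
        rw [ha] at h1
        rw [sub_smul, one_smul, ← h1]; abel
      rw [half _ _ this, smul_smul, div_eq_inv_mul]
    have e2 : ρ y (b v) = (γ / 2) • v + ((-s' - 1) / 2) • b v := by
      have : (2 : F) • ρ y (b v) = γ • v + (-s' - 1) • b v := by
        have h1 := hbv
        rw [ha] at h1
        have e : (2 : F) • ρ y (b v) = ((2 : F) • ρ y (b v) + b v) - b v := by abel
        rw [e, h1]
        module
      rw [half _ _ this, smul_add, smul_smul, smul_smul, div_eq_inv_mul, div_eq_inv_mul]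
    have e3 : ρ y' v = (-1 / 2 : F) • v + (1 / 2 : F) • b v := by
      have : (2 : F) • ρ y' v = (-1 : F) • v + (1 : F) • b v := by
        rw [hb]; module
      rw [half _ _ this, smul_add, smul_smul, smul_smul, div_eq_inv_mul, div_eq_inv_mul]
    have e4 : ρ y' (b v) = (-3 / 2 : F) • v + (-1 / 2 : F) • b v := by
      have : (2 : F) • ρ y' (b v) = (-3 : F) • v + (-1 : F) • b v := by
        have h1 := hbb v
        rw [hb (b v)] at h1
        have e : (2 : F) • ρ y' (b v) = ((2 : F) • ρ y' (b v) + b v) - b v := by abel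
        rw [e, h1]
        module
      rw [half _ _ this, smul_add, smul_smul, smul_smul, div_eq_inv_mul, div_eq_inv_mul]
    have det1 : ((s' - 1) / 2) * ((-s' - 1) / 2) - (γ / 2) * 0 = 1 := by
      field_simp
      linear_combination (-1 : F) * hs'
    have det2 : (-1 / 2 : F) * (-1 / 2) - (-3 / 2) * (1 / 2) = 1 := by
      field_simp
      norm_num
    have m1 : y ∈ Blk ρ v (b v) := by
      refine IsMat.mem (M := mk2 ((s' - 1) / 2) (γ / 2) 0 ((-s' - 1) / 2) det1) ⟨?_, ?_⟩
      · rw [e1]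
        change _ = ((s' - 1) / 2) • v + (0 : F) • b v
        simp
      · exact e2
    have m2 : y' ∈ Blk ρ v (b v) := by
      refine IsMat.mem (M := mk2 (-1 / 2) (-3 / 2) (1 / 2) (-1 / 2) det2) ⟨?_, ?_⟩
      · exact e3
      · exact e4
    obtain ⟨S, π, hsurj, hker, hpS⟩ := block_image C.fpf hind C.hz C.zz C.cop
    have hzc := C.z_central
    have hz1 := C.z_ne
    have ycube : ∀ g : Blk ρ v (b v), (g : G) ^ 3 = 1 → π g ^ 3 = 1 := by
      intro g hg
      rw [← map_pow]
      have : g ^ 3 = 1 := Subtype.ext (by simpa using hg)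
      rw [this, map_one]
    have hcontra : π ⟨y, m1⟩ * π ⟨y', m2⟩ ≠ π ⟨y', m2⟩ * π ⟨y, m1⟩ := by
      intro e
      have h1 : π (⟨y, m1⟩ * ⟨y', m2⟩ * (⟨y', m2⟩ * ⟨y, m1⟩)⁻¹) = 1 := by
        rw [map_mul, map_inv, map_mul, map_mul, e]; simp
      have h3 : y * y' * (y' * y)⁻¹ = 1 ∨ y * y' * (y' * y)⁻¹ = z := (hker _).mp h1
      rcases h3 with h3 | h3
      · exact hne (mul_inv_eq_one.mp h3)
      · apply hz1
        have h4 : y * y' * y⁻¹ = z * y' := by
          calc y * y' * y⁻¹ = (y * y' * (y' * y)⁻¹) * y' := by group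
            _ = z * y' := by rw [h3]
        have h5 : (y * y' * y⁻¹) ^ 3 = 1 := by
          rw [conj_pow, hy'3]; group
        rw [h4] at h5
        have h6 : (z * y') ^ 3 = z * (z * z) * y' ^ 3 := by
          have hc1 := hzc y'
          calc (z * y') ^ 3 = z * (y' * z) * (y' * z) * y' := by
                simp only [pow_succ, pow_zero, one_mul]; group
            _ = z * (z * y') * (z * y') * y' := by rw [hc1]
            _ = z * z * (y' * z) * y' * y' := by group
            _ = z * z * (z * y') * y' * y' := by rw [hc1]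
            _ = z * (z * z) * (y' * y' * y') := by group
            _ = _ := by rw [pow_succ, pow_two]
        rw [h6, hy'3, C.zz] at h5
        simpa using h5
    rcases dickson_coprime p S hpS with hcy | ⟨k, ⟨e⟩⟩ | h | h | h
    · exfalso
      obtain ⟨g, hg⟩ := IsCyclic.exists_generator (α := S)
      obtain ⟨a', ha'⟩ := Subgroup.mem_zpowers_iff.mp (hg (π ⟨y, m1⟩))
      obtain ⟨b', hb'⟩ := Subgroup.mem_zpowers_iff.mp (hg (π ⟨y', m2⟩))
      apply hcontra
      rw [← ha', ← hb']
      exact zpow_mul_comm g a' b'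
    · exfalso
      apply hcontra
      apply e.injective
      rw [map_mul, map_mul]
      apply dihedral_comm
      · rw [← map_pow, ycube _ hy3, map_one]
      · rw [← map_pow, ycube _ hy'3, map_one]
    all_goals
      have hP : Cfsg.Agent.Lib.ZPerfA.Poly S := by
        first
          | exact Or.inl h
          | exact Or.inr (Or.inl h)
          | exact Or.inr (Or.inr h)
      have hne1 : π ⟨y, m1⟩ ≠ 1 := by
        intro e
        rcases (hker _).mp e with h' | h'
        · exact hy1 h'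
        · apply hz1
          have h'' : y = z := h'
          have := hy3
          rw [h'', pow_succ, pow_two, C.zz, one_mul] at this
          exact this
      obtain ⟨t₁, t₂, hK⟩ := hP.exists_K4 _ hne1 (ycube _ hy3)
      exact frame_of_K4 C.toBase π hker hsurj hK hy1 hy3
  · -- the vectors are dependent: `y`, `y'` commute
    exfalso
    apply hne
    unfold Ind2 at hind
    push Not at hind
    obtain ⟨α, β, h0, hαβ⟩ := hind
    have hβ : β ≠ 0 := by
      intro hβ
      rw [hβ, zero_smul, add_zero] at h0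
      rcases smul_eq_zero.mp h0 with h | h
      · exact hαβ h hβ
      · exact hv h
    have hbv' : b v = (-(α / β)) • v := by
      have : β • b v = (-α) • v := by
        rw [neg_smul]; exact eq_neg_of_add_eq_zero_right h0
      calc b v = β⁻¹ • (β • b v) := by rw [smul_smul, inv_mul_cancel₀ hβ, one_smul]
        _ = _ := by rw [this, smul_smul]; congr 1; field_simp
    have e1 : ρ y v = ((s' - 1) / 2) • v := by
      have : (2 : F) • ρ y v = (s' - 1) • v := by
        have h1 := hav
        rw [ha] at h1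
        rw [sub_smul, one_smul, ← h1]; abel
      rw [half _ _ this, smul_smul, div_eq_inv_mul]
    obtain ⟨μ, e3⟩ : ∃ μ : F, ρ y' v = μ • v := by
      refine ⟨(2 : F)⁻¹ * (-(α / β) - 1), ?_⟩
      have : (2 : F) • ρ y' v = (-(α / β) - 1) • v := by
        have h1 := hbv'
        rw [hb] at h1
        rw [sub_smul, one_smul, ← h1]; abel
      rw [half _ _ this, smul_smul]
    have h1 : ρ ((y' * y)⁻¹ * (y * y')) v = v := by
      have e5 : ρ (y * y') v = ρ (y' * y) v := by
        rw [rho_mul, rho_mul, e3, map_smul, e1, map_smul, e3, smul_smul, smul_smul, mul_comm]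
      rw [rho_mul, e5, rho_inv_self]
    have h3 := C.fpf.eq_one hv h1
    exact (inv_mul_eq_one.mp h3).symm

end pair

end Cfsg.Agent.Lib.ZPerfC
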