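import Mathlib
import Cfsg.Agent.Lib.QuadSec
import Cfsg.Agent.Lib.ExtraGlue

set_option autoImplicit false

namespace Cfsg.Agent.Lib.SL23Sec

open Subgroup
open Cfsg.Agent.Lib.QuadSec (sl3 tT tS closure_tT_tS)

theorem r1 : tS ^ 4 = (1 : sl3) := by decide
theorem r2 : (tT * tS * tT⁻¹) * (tT * tS * tT⁻¹) = (tS * tS : sl3) := by decide
theorem r3 : (tT * tS * tT⁻¹) * tS * (tT * tS * tT⁻¹)⁻¹ = (tS⁻¹ : sl3) := by decide
theorem r4 : tT * (tT * tS * tT⁻¹) * tT⁻¹ = (tS * (tT * tS * tT⁻¹) : sl3) := by decide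
theorem r5 : tT ^ 3 = (1 : sl3) := by decide

/-- recognition of `SL(2,3)` by generators and relations (with a lower bound on the order) -/
theorem sl3_iso {E : Type*} [Group E] [Finite E] (i j y : E)
    (hi4 : i ^ 4 = 1) (hjj : j * j = i * i) (hji : j * i * j⁻¹ = i⁻¹) (hyi : y * i * y⁻¹ = j)
    (hyj : y * j * y⁻¹ = i * j) (hy3 : y ^ 3 = 1)
    (hgen : closure ({i, j, y} : Set E) = ⊤) (hcard : 24 ≤ Nat.card E) :
    Nonempty (E ≃* sl3) := by
  classical
  let j' : sl3 := tT * tS * tT⁻¹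
  let I : E × sl3 := (i, tS)
  let J : E × sl3 := (j, j')
  let Y : E × sl3 := (y, tT)
  have hI4 : I ^ 4 = 1 := Prod.ext hi4 r1
  have hJJ : J * J = I * I := Prod.ext hjj r2
  have hJI : J * I * J⁻¹ = I⁻¹ := Prod.ext hji r3
  have hYI : Y * I * Y⁻¹ = J := Prod.ext hyi rfl
  have hYJ : Y * J * Y⁻¹ = I * J := Prod.ext hyj r4
  have hY3 : Y ^ 3 = 1 := Prod.ext hy3 r5
  set D₁ : Subgroup (E × sl3) := zpowers I with hD₁
  set D₂ : Subgroup (E × sl3) := D₁ ⊔ zpowers J with hD₂
  set D₃ : Subgroup (E × sl3) := D₂ ⊔ zpowers Y with hD₃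
  have hc₁ : Nat.card D₁ ≤ 4 := by
    rw [hD₁, Nat.card_zpowers]
    exact orderOf_le_of_pow_eq_one (by norm_num) hI4
  have hI₁ : I ∈ D₁ := mem_zpowers I
  have hJ₂ : J ∈ D₂ := mem_sup_right (mem_zpowers J)
  have hI₂ : I ∈ D₂ := mem_sup_left hI₁
  have hJn : J ∈ normalizer (D₁ : Set (E × sl3)) := by
    apply ExtraGlue.mem_normalizer_of_forall'
    rintro u ⟨k, rfl⟩
    show J * I ^ k * J⁻¹ ∈ D₁
    rw [← conj_zpow, hJI]
    exact zpow_mem (inv_mem hI₁) k
  have hc₂ : Nat.card D₂ ≤ 8 := by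
    have := ExtraGlue.card_sup_zpowers_le D₁ J 2 (by norm_num) hJn
      (by rw [pow_two, hJJ]; exact mul_mem hI₁ hI₁)
    calc Nat.card D₂ ≤ 2 * Nat.card D₁ := this
      _ ≤ 8 := by omega
  have hYn : Y ∈ normalizer (D₂ : Set (E × sl3)) := by
    apply ExtraGlue.mem_normalizer_of_forall'
    have hle : D₂.map (MulAut.conj Y).toMonoidHom ≤ D₂ := by
      rw [hD₂, hD₁, Subgroup.map_sup, MonoidHom.map_zpowers, MonoidHom.map_zpowers]
      apply sup_le
      · rw [zpowers_le]
        show Y * I * Y⁻¹ ∈ _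
        rw [hYI]
        exact hJ₂
      · rw [zpowers_le]
        show Y * J * Y⁻¹ ∈ _
        rw [hYJ]
        exact mul_mem hI₂ hJ₂
    intro x hx
    exact hle ⟨x, hx, rfl⟩
  have hc₃ : Nat.card D₃ ≤ 24 := by
    have := ExtraGlue.card_sup_zpowers_le D₂ Y 3 (by norm_num) hYn (by rw [hY3]; exact one_mem _)
    calc Nat.card D₃ ≤ 3 * Nat.card D₂ := this
      _ ≤ 24 := by omega
  have hJ₃ : J ∈ D₃ := mem_sup_left hJ₂
  have hI₃ : I ∈ D₃ := mem_sup_left hI₂
  have hY₃ : Y ∈ D₃ := mem_sup_right (mem_zpowers Y)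
  have h₁ : ∀ a : E, ∃ b, (a, b) ∈ D₃ := by
    have hle : closure ({i, j, y} : Set E) ≤ D₃.map (MonoidHom.fst E sl3) := by
      rw [closure_le]
      rintro u (rfl | rfl | rfl)
      · exact ⟨I, hI₃, rfl⟩
      · exact ⟨J, hJ₃, rfl⟩
      · exact ⟨Y, hY₃, rfl⟩
    intro a
    have : a ∈ closure ({i, j, y} : Set E) := by rw [hgen]; trivial
    obtain ⟨⟨a', b⟩, hb, rfl⟩ := hle this
    exact ⟨b, hb⟩
  have h₂ : ∀ b : sl3, ∃ a, (a, b) ∈ D₃ := by
    have hle : Subgroup.closure ({tT, tS} : Set sl3) ≤ D₃.map (MonoidHom.snd E sl3) := by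
      rw [closure_le]
      rintro u (rfl | rfl)
      · exact ⟨Y, hY₃, rfl⟩
      · exact ⟨I, hI₃, rfl⟩
    intro b
    have : b ∈ Subgroup.closure ({tT, tS} : Set sl3) := by rw [closure_tT_tS]; trivial
    obtain ⟨⟨a, b'⟩, hb, rfl⟩ := hle this
    exact ⟨a, hb⟩
  have hs : Nat.card sl3 = 24 := by
    rw [Nat.card_eq_fintype_card]
    decide +kernel
  obtain ⟨Φ, -⟩ := ExtraGlue.iso_of_graph D₃ h₁ h₂ (by omega) (by omega)
  exact ⟨Φ⟩

/-- The section `SL(2,3)` inside a group with a quaternion `2`-subgroup `⟨i, j⟩` and an element `x`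
of odd order permuting `i, j, ij` cyclically. -/
theorem section_of_relations {G : Type*} [Group G] [Finite G] (i j x z : G)
    (hQ : IsPGroup 2 (closure ({i, j} : Set G))) (hx : Odd (orderOf x))
    (hi : i * i = z) (hj : j * j = z) (hz1 : z ≠ 1) (hzz : z * z = 1)
    (hji : j * i * j⁻¹ = i⁻¹) (hxi : x * i * x⁻¹ = j) (hxj : x * j * x⁻¹ = i * j) :
    ∃ (H K : Subgroup G) (hK : (K.subgroupOf H).Normal),
      Nonempty ((H ⧸ K.subgroupOf H) ≃* Matrix.SpecialLinearGroup (Fin 2) (ZMod 3)) := by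
  classical
  -- commutation
  have e1 : x * i = j * x := by rw [← hxi]; group
  have e2 : x * j = i * j * x := by rw [← hxj]; group
  have e3 : j * i = i⁻¹ * j := by rw [← hji]; group
  have e4 : i⁻¹ * z = i := by rw [← hi]; group
  have hx3i : x ^ 3 * i = i * x ^ 3 := by
    calc x ^ 3 * i = x * x * (x * i) := by simp only [pow_succ, pow_zero, one_mul, mul_assoc]
      _ = x * x * (j * x) := by rw [e1]
      _ = x * (x * j) * x := by group
      _ = x * (i * j * x) * x := by rw [e2]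
      _ = (x * i) * j * x * x := by group
      _ = (j * x) * j * x * x := by rw [e1]
      _ = j * (x * j) * x * x := by group
      _ = j * (i * j * x) * x * x := by rw [e2]
      _ = (j * i) * j * x ^ 3 := by simp only [pow_succ, pow_zero, one_mul, mul_assoc]
      _ = (i⁻¹ * j) * j * x ^ 3 := by rw [e3]
      _ = i⁻¹ * (j * j) * x ^ 3 := by group
      _ = i * x ^ 3 := by rw [hj, e4]
  have hx3j : x ^ 3 * j = j * x ^ 3 := by
    calc x ^ 3 * j = x ^ 3 * (x * i * x⁻¹) := by rw [hxi]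
      _ = x * (x ^ 3 * i) * x⁻¹ := by group
      _ = x * (i * x ^ 3) * x⁻¹ := by rw [hx3i]
      _ = (x * i * x⁻¹) * x ^ 3 := by group
      _ = j * x ^ 3 := by rw [hxi]
  have hx3x : x ^ 3 * x = x * x ^ 3 := by group
  set S : Set G := {i, j, x} with hS
  set H : Subgroup G := closure S with hH
  set K : Subgroup G := zpowers (x ^ 3) with hK
  have hiH : i ∈ H := subset_closure (by simp [hS])
  have hjH : j ∈ H := subset_closure (by simp [hS])
  have hxH : x ∈ H := subset_closure (by simp [hS])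
  have hcent : H ≤ centralizer ({x ^ 3} : Set G) := by
    rw [hH, closure_le]
    rintro u (rfl | rfl | rfl)
    · exact mem_centralizer_singleton_iff.2 hx3i.symm
    · exact mem_centralizer_singleton_iff.2 hx3j.symm
    · exact mem_centralizer_singleton_iff.2 hx3x.symm
  have hcomm : ∀ h ∈ H, ∀ k ∈ K, h * k = k * h := by
    intro h hh k hk
    obtain ⟨m, rfl⟩ := hk
    have h1 : h * x ^ 3 = x ^ 3 * h := mem_centralizer_singleton_iff.1 (hcent hh)
    have h2 : Commute h (x ^ 3) := h1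
    exact (h2.zpow_right m).eq
  have hNorm : (K.subgroupOf H).Normal := by
    refine ⟨fun n hn g => ?_⟩
    have hn' : (n : G) ∈ K := hn
    rw [mem_subgroupOf]
    have : ((g * n * g⁻¹ : H) : G) = n := by
      simp only [Subgroup.coe_mul, Subgroup.coe_inv]
      rw [hcomm g g.2 n hn']
      group
    rw [this]
    exact hn'
  refine ⟨H, K, hNorm, ?_⟩
  have hxm : x ^ orderOf x = 1 := pow_orderOf_eq_one x
  -- the images
  let π : H →* H ⧸ K.subgroupOf H := QuotientGroup.mk' _
  let i₀ : H := ⟨i, hiH⟩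
  let j₀ : H := ⟨j, hjH⟩
  let x₀ : H := ⟨x, hxH⟩
  have hπ : Function.Surjective π := QuotientGroup.mk'_surjective _
  have rel1 : i₀ ^ 4 = 1 := Subtype.ext (by
    show i ^ 4 = 1
    calc i ^ 4 = (i * i) * (i * i) := by simp only [pow_succ, pow_zero, one_mul, mul_assoc]
      _ = 1 := by rw [hi, hzz])
  have rel2 : j₀ * j₀ = i₀ * i₀ := Subtype.ext (by
    show j * j = i * i
    rw [hi, hj])
  have rel3 : j₀ * i₀ * j₀⁻¹ = i₀⁻¹ := Subtype.ext hji
  have rel4 : x₀ * i₀ * x₀⁻¹ = j₀ := Subtype.ext hxi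
  have rel5 : x₀ * j₀ * x₀⁻¹ = i₀ * j₀ := Subtype.ext hxj
  have rel6 : π x₀ ^ 3 = 1 := by
    rw [← map_pow]
    show π (x₀ ^ 3) = 1
    have : x₀ ^ 3 ∈ K.subgroupOf H := by
      rw [mem_subgroupOf]
      exact mem_zpowers (x ^ 3)
    exact (QuotientGroup.eq_one_iff _).2 this
  have hgen : closure ({π i₀, π j₀, π x₀} : Set (H ⧸ K.subgroupOf H)) = ⊤ := by
    have h1 : closure (((↑) : H → G) ⁻¹' S) = ⊤ := closure_closure_coe_preimage
    have h2 := congrArg (Subgroup.map π) h1
    rw [MonoidHom.map_closure, ← MonoidHom.range_eq_map, MonoidHom.range_eq_top.2 hπ] at h2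
    rw [eq_top_iff, ← h2, closure_le]
    rintro _ ⟨u, hu, rfl⟩
    rcases hu with hu | hu | hu
    · have : u = i₀ := Subtype.ext hu
      rw [this]
      exact subset_closure (by simp)
    · have : u = j₀ := Subtype.ext hu
      rw [this]
      exact subset_closure (by simp)
    · have : u = x₀ := Subtype.ext hu
      rw [this]
      exact subset_closure (by simp)
  -- the order
  have hKodd : Nat.Coprime (Nat.card (K.subgroupOf H)) 2 := by
    have hKH : K ≤ H := by
      rw [hK, zpowers_le]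
      exact pow_mem hxH 3
    have h1 : Nat.card (K.subgroupOf H) ∣ Nat.card K := by
      rw [Nat.card_congr (subgroupOfEquivOfLe hKH).toEquiv]
    have h2 : Nat.card K ∣ orderOf x := by
      rw [hK, Nat.card_zpowers]
      exact orderOf_pow_dvd 3
    have h3 : Nat.Coprime (orderOf x) 2 := Nat.coprime_two_right.2 hx
    exact Nat.Coprime.coprime_dvd_left (h1.trans h2) h3
  have hne : i ≠ i⁻¹ := by
    intro h
    apply hz1
    rw [← hi]
    nth_rw 1 [h]
    group
  have h8 : 8 ∣ Nat.card H := by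
    have hQH : closure ({i, j} : Set G) ≤ H := by
      rw [closure_le]
      rintro u (rfl | rfl)
      · exact hiH
      · exact hjH
    refine Dvd.dvd.trans ?_ (card_dvd_of_le hQH)
    have hi₁ : i ∈ closure ({i, j} : Set G) := subset_closure (by simp)
    have hj₁ : j ∈ closure ({i, j} : Set G) := subset_closure (by simp)
    have hlt : zpowers i < closure ({i, j} : Set G) := by
      refine lt_of_le_of_ne ((zpowers_le).2 hi₁) ?_
      intro h
      rw [← h] at hj₁
      obtain ⟨m, hm⟩ := hj₁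
      have hc : Commute j i := by
        rw [← hm]
        exact (Commute.refl i).zpow_left m
      apply hne
      rw [← hji, hc.eq]
      group
    have hc4 : Nat.card (zpowers i) = 4 := by
      rw [Nat.card_zpowers]
      have hnot : ¬ i ^ 2 ^ 1 = 1 := by
        intro h
        apply hz1
        rw [← hi, ← pow_two]
        exact h
      have hfin : i ^ 2 ^ (1 + 1) = 1 := by
        calc i ^ 2 ^ (1 + 1) = i ^ 4 := by norm_num
          _ = (i * i) * (i * i) := by simp only [pow_succ, pow_zero, one_mul, mul_assoc]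
          _ = 1 := by rw [hi, hzz]
      rw [orderOf_eq_prime_pow hnot hfin]
      norm_num
    obtain ⟨k, hk⟩ := IsPGroup.iff_card.1 hQ
    have hlt' := Set.ncard_lt_ncard (show ((zpowers i : Subgroup G) : Set G) ⊂ (closure ({i, j} : Set G) : Subgroup G) from hlt)
      (Set.toFinite _)
    have hlt2 : Nat.card (zpowers i) < Nat.card (closure ({i, j} : Set G)) := hlt'
    rw [hk, hc4] at hlt2
    rw [hk]
    have hk3 : 3 ≤ k := by
      by_contra hcon
      have : k ≤ 2 := by omega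
      have h2 : 2 ^ k ≤ 2 ^ 2 := Nat.pow_le_pow_right (by norm_num) this
      omega
    exact (pow_dvd_pow 2 hk3 : 2 ^ 3 ∣ 2 ^ k)
  have h3 : 3 ∣ Nat.card (H ⧸ K.subgroupOf H) := by
    have : orderOf (π x₀) = 3 := by
      haveI : Fact (Nat.Prime 3) := ⟨Nat.prime_three⟩
      refine orderOf_eq_prime rel6 ?_
      intro h
      have h1 : x₀ ∈ K.subgroupOf H := (QuotientGroup.eq_one_iff _).1 h
      have h2 : x ∈ K := h1
      have h3 : i * x = x * i := hcomm i hiH x h2
      have h4 : j = i := by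
        rw [← hxi, ← h3]
        group
      apply hne
      rw [← hji, h4]
      group
    rw [← this]
    exact orderOf_dvd_natCard _
  have h8' : 8 ∣ Nat.card (H ⧸ K.subgroupOf H) := by
    have h1 := card_eq_card_quotient_mul_card_subgroup (K.subgroupOf H)
    rw [h1] at h8
    have h2 : Nat.Coprime 8 (Nat.card (K.subgroupOf H)) :=
      (Nat.Coprime.pow_right 3 hKodd).symm
    exact h2.dvd_of_dvd_mul_right h8
  have h24 : 24 ∣ Nat.card (H ⧸ K.subgroupOf H) := by
    have : Nat.Coprime 8 3 := by norm_num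
    exact this.mul_dvd_of_dvd_of_dvd h8' h3
  have hcard : 24 ≤ Nat.card (H ⧸ K.subgroupOf H) := Nat.le_of_dvd Nat.card_pos h24
  exact sl3_iso (π i₀) (π j₀) (π x₀)
    (by rw [← map_pow, rel1, map_one])
    (by rw [← map_mul, ← map_mul, rel2])
    (by rw [← map_mul, ← map_inv, ← map_mul, rel3, map_inv])
    (by rw [← map_mul, ← map_inv, ← map_mul, rel4])
    (by rw [← map_mul, ← map_inv, ← map_mul, rel5, map_mul])
    rel6 hgen hcard

end Cfsg.Agent.Lib.SL23Sec
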