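import Mathlib
import Cfsg.Agent.Lib.ZPerfC
import Cfsg.Agent.Lib.FrobCompl
import Cfsg.Agent.S0106

/-!
# Perfect groups with the Sylow structure of a Frobenius complement: general lemmas
-/

set_option autoImplicit false
set_option linter.style.haveILetI false
set_option linter.unusedSectionVars false
set_option linter.unusedSimpArgs false
set_option linter.unusedVariables false

namespace Cfsg.Agent.Lib.ZPerfD

open Subgroup

variable {G : Type*} [Group G]

theorem hom_trivial (hG : commutator G = ⊤) {A : Type*} [CommGroup A] (f : G →* A) (g : G) : f g = 1 := by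
  have h : commutator G ≤ f.ker := by
    rw [commutator_def, Subgroup.commutator_le]
    intro a _ b _
    simp [MonoidHom.mem_ker, commutatorElement_def, mul_comm]
  have : g ∈ f.ker := h (by rw [hG]; trivial)
  exact this

theorem derived_top (hG : commutator G = ⊤) (n : ℕ) : derivedSeries G n = ⊤ := by
  induction n with
  | zero => rfl
  | succ n ih => rw [derivedSeries_succ, ih]; exact hG

/-- A solvable homomorphic image of a perfect group is trivial. -/
theorem surj_solvable (hG : commutator G = ⊤) {Q : Type*} [Group Q] [Group.IsSolvable Q] (f : G →* Q)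
    (hf : Function.Surjective f) (q : Q) : q = 1 := by
  obtain ⟨n, hn⟩ := Group.IsSolvable.solvable (G := Q)
  have h := map_derivedSeries_eq hf n
  rw [derived_top hG, hn, ← MonoidHom.range_eq_map, MonoidHom.range_eq_top.mpr hf] at h
  have : q ∈ (⊥ : Subgroup Q) := by rw [← h]; trivial
  exact this

theorem not_solvable (hG : commutator G = ⊤) [Nontrivial G] : ¬ Group.IsSolvable G := by
  intro h
  obtain ⟨g, hg⟩ := exists_ne (1 : G)
  exact hg (surj_solvable hG (MonoidHom.id G) Function.surjective_id g)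

theorem surj_perfect (hG : commutator G = ⊤) {Q : Type*} [Group Q] (f : G →* Q)
    (hf : Function.Surjective f) : commutator Q = ⊤ := by
  have h := map_derivedSeries_eq hf 1
  rw [derived_top hG, ← MonoidHom.range_eq_map, MonoidHom.range_eq_top.mpr hf, derivedSeries_one] at h
  exact h.symm

theorem no_index_two [Finite G] (hG : commutator G = ⊤) (H : Subgroup G) : H.index ≠ 2 := by
  intro h
  haveI : H.Normal := Subgroup.normal_of_index_eq_two h
  have hc : Nat.card (G ⧸ H) = 2 := h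
  haveI : Fact (Nat.card (G ⧸ H)).Prime := ⟨by rw [hc]; exact Nat.prime_two⟩
  haveI : IsCyclic (G ⧸ H) := isCyclic_of_prime_card rfl
  letI : CommGroup (G ⧸ H) := IsCyclic.commGroup
  have h1 := hom_trivial hG (QuotientGroup.mk' H)
  have : H = ⊤ := by
    rw [eq_top_iff]
    intro g _
    exact (QuotientGroup.eq_one_iff g).mp (h1 g)
  rw [this, Subgroup.index_top] at h
  omega

/-- A perfect group has no normal `p`-complement if `p` divides its order. -/
theorem not_complement [Finite G] (hG : commutator G = ⊤) {p : ℕ} [Fact p.Prime] (hp : p ∣ Nat.card G) :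
    ¬ Cfsg.HasNormalPComplement p G := by
  rintro ⟨P, N, hN, hc⟩
  haveI : N.Normal := hN
  -- `G ⧸ N` is a `p`-group
  have h1 : Nat.card (G ⧸ N) = Nat.card P := by
    have := hc.symm.index_eq_card
    exact this
  have hP : IsPGroup p (G ⧸ N) := by
    apply IsPGroup.of_card (n := (Nat.card P).factorization p)
    rw [h1]
    obtain ⟨k, hk⟩ := P.isPGroup'.exists_card_eq
    rw [hk, Nat.Prime.factorization_pow Fact.out]
    simp
  haveI : Finite (G ⧸ N) := inferInstance
  haveI : Group.IsNilpotent (G ⧸ N) := hP.isNilpotent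
  haveI : Group.IsSolvable (G ⧸ N) := inferInstance
  have h2 := surj_solvable hG (QuotientGroup.mk' N) (QuotientGroup.mk'_surjective N)
  have h3 : Nat.card (G ⧸ N) = 1 := Nat.card_eq_one_iff_unique.mpr ⟨⟨fun a b => by rw [h2 a, h2 b]⟩, ⟨1⟩⟩
  rw [h1] at h3
  have h4 := P.ne_bot_of_dvd_card hp
  exact h4 (Subgroup.card_eq_one.mp h3)

/-- Burnside's transfer theorem for perfect groups. -/
theorem burnside_false [Finite G] (hG : commutator G = ⊤) {ℓ : ℕ} [Fact ℓ.Prime] (P : Sylow ℓ G)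
    (hP : normalizer (P : Set G) ≤ centralizer (P : Set G)) (hne : (P : Subgroup G) ≠ ⊥) : False := by
  let f := MonoidHom.transferSylow P hP
  haveI : IsMulCommutative (P : Subgroup G) :=
    ⟨⟨fun a b => Subtype.ext (hP (le_normalizer b.2) a a.2)⟩⟩
  letI : CommGroup (P : Subgroup G) := { (inferInstance : Group (P : Subgroup G)) with
    mul_comm := fun a b => mul_comm' a b }
  have h1 : f.ker = ⊤ := by
    rw [eq_top_iff]
    intro g _
    exact hom_trivial hG f g
  have h2 := MonoidHom.ker_transferSylow_isComplement' P hP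
  rw [h1] at h2
  apply hne
  exact (Subgroup.isComplement'_top_left.mp h2)

/-- Lemma B: in a perfect group, an element of a nontrivial cyclic Sylow subgroup cannot be fixed
by the whole normalizer of the Sylow subgroup. -/
theorem lemmaB [Finite G] (hG : commutator G = ⊤) {ℓ : ℕ} [Fact ℓ.Prime] (P : Sylow ℓ G)
    (hc : IsCyclic (P : Subgroup G)) {r₀ : G} (hr : r₀ ∈ (P : Subgroup G)) (hr1 : r₀ ≠ 1)
    (hfix : ∀ w ∈ normalizer (P : Set G), w * r₀ * w⁻¹ = r₀) : False := by
  have hne : (P : Subgroup G) ≠ ⊥ := by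
    intro h
    rw [h] at hr
    exact hr1 (Subgroup.mem_bot.mp hr)
  refine burnside_false hG P ?_ hne
  -- the image of the normalizer in `Aut P`
  let φ := (P : Subgroup G).normalizerMonoidHom
  let K : Subgroup (MulAut (P : Subgroup G)) := φ.range
  have hcop : (Nat.card (P : Subgroup G)).Coprime (Nat.card K) := by
    obtain ⟨k, hk⟩ := P.2.exists_card_eq
    rw [hk]
    apply Nat.Coprime.pow_left
    rw [Nat.Prime.coprime_iff_not_dvd Fact.out]
    intro hd
    have h1 : Nat.card K = φ.ker.index := (Subgroup.index_ker φ).symm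
    rw [h1, normalizerMonoidHom_ker, ← relIndex] at hd
    apply P.not_dvd_index
    refine hd.trans ?_
    exact (relIndex_dvd_of_le_left _ P.le_centralizer).trans (relIndex_dvd_index_of_le P.le_normalizer)
  have hfix' : ∀ k : K, k • (⟨r₀, hr⟩ : (P : Subgroup G)) = ⟨r₀, hr⟩ := by
    rintro ⟨_, w, rfl⟩
    apply Subtype.ext
    exact hfix w w.2
  haveI : IsCyclic (P : Subgroup G) := hc
  intro w hw g hg
  have h := Cfsg.Agent.Lib.FrobCompl.fix_of_fix P.2 hcop ⟨r₀, hr⟩ (fun e => hr1 (congrArg Subtype.val e)) hfix'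
    ⟨g, hg⟩ ⟨φ ⟨w, hw⟩, ⟨w, hw⟩, rfl⟩
  have h2 : w * g * w⁻¹ = g := congrArg Subtype.val h
  rw [mul_inv_eq_iff_eq_mul] at h2
  exact h2.symm

/-- In a cyclic `ℓ`-group, two elements of order `ℓ` generate the same subgroup. -/
theorem mem_zpowers_of_cyclic {ℓ : ℕ} [Finite G] [Fact ℓ.Prime] {A : Subgroup G} (hc : IsCyclic A) {y y' : G}
    (hy : y ∈ A) (hy' : y' ∈ A) (hy1 : y ≠ 1) (h : y ^ ℓ = 1) (h' : y' ^ ℓ = 1) :
    y' ∈ zpowers y := by
  have e1 : orderOf (⟨y, hy⟩ : A) = ℓ := by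
    apply orderOf_eq_prime
    · exact Subtype.ext h
    · exact fun e => hy1 (congrArg Subtype.val e)
  by_cases hy'1 : y' = 1
  · rw [hy'1]; exact one_mem _
  have e2 : orderOf (⟨y', hy'⟩ : A) = ℓ := by
    apply orderOf_eq_prime
    · exact Subtype.ext h'
    · exact fun e => hy'1 (congrArg Subtype.val e)
  have e3 := Cfsg.Agent.Lib.FrobCompl.zpowers_eq_of_orderOf_eq (C := A) (e1.trans e2.symm)
  have e4 : (⟨y', hy'⟩ : A) ∈ zpowers (⟨y, hy⟩ : A) := by
    rw [e3]; exact mem_zpowers _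
  obtain ⟨n, hn⟩ := Subgroup.mem_zpowers_iff.mp e4
  exact Subgroup.mem_zpowers_iff.mpr ⟨n, congrArg Subtype.val hn⟩

/-- The Sylow hypotheses. -/
def SylHyp (G : Type*) [Group G] : Prop :=
  ∀ (q : ℕ) [Fact q.Prime] (A : Subgroup G), IsPGroup q A →
    IsCyclic A ∨ (q = 2 ∧ ∃ n : ℕ, Nonempty (A ≃* QuaternionGroup (2 ^ n)))

theorem SylHyp.odd {q : ℕ} [Fact q.Prime] (h : SylHyp G) (hq : q ≠ 2) (A : Subgroup G) (hA : IsPGroup q A) :
    IsCyclic A := (h q A hA).resolve_right (fun h => hq h.1)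

/-- Lemma B again, for elements of prime order `ℓ`: here only normalizers of `⟨r₀⟩` matter. -/
theorem lemmaB' [Finite G] (hG : commutator G = ⊤) (hS : SylHyp G) {ℓ : ℕ} [Fact ℓ.Prime] (hℓ : ℓ ≠ 2) {r₀ : G}
    (hr1 : r₀ ≠ 1) (hr : r₀ ^ ℓ = 1) (hfix : ∀ w : G, w * r₀ * w⁻¹ ∈ zpowers r₀ → w * r₀ * w⁻¹ = r₀) : False := by
  have hp : IsPGroup ℓ (zpowers r₀) := by
    apply IsPGroup.of_card (n := 1)
    rw [Nat.card_zpowers, pow_one]
    exact orderOf_eq_prime hr hr1
  obtain ⟨P, hP⟩ := hp.exists_le_sylow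
  have hc := hS.odd hℓ (P : Subgroup G) P.2
  have hr₀ : r₀ ∈ (P : Subgroup G) := hP (mem_zpowers r₀)
  refine lemmaB hG P hc hr₀ hr1 ?_
  intro w hw
  apply hfix
  have h1 : w * r₀ * w⁻¹ ∈ (P : Subgroup G) := (mem_normalizer_iff.mp hw r₀).mp hr₀
  refine mem_zpowers_of_cyclic (ℓ := ℓ) hc hr₀ h1 hr1 hr ?_
  have : (w * r₀ * w⁻¹) ^ ℓ = w * r₀ ^ ℓ * w⁻¹ := by
    rw [← conj_pow]
  rw [this, hr]; group

theorem index_two_of_conj {H : Type*} [Group H] {y g₀ : H} (h : ∀ g : H, g * y * g⁻¹ = y ∨ g * y * g⁻¹ = y⁻¹)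
    (hy : y⁻¹ ≠ y) (hg₀ : g₀ * y * g₀⁻¹ = y⁻¹) : (centralizer ({y} : Set H)).index = 2 := by
  rw [Subgroup.index_eq_two_iff]
  refine ⟨g₀, fun b => ?_⟩
  have e0 : ∀ c : H, c ∈ centralizer ({y} : Set H) ↔ c * y * c⁻¹ = y := by
    intro c
    rw [Subgroup.mem_centralizer_singleton_iff, mul_inv_eq_iff_eq_mul]
  have e1 : (b * g₀) * y * (b * g₀)⁻¹ = (b * y * b⁻¹)⁻¹ := by
    calc (b * g₀) * y * (b * g₀)⁻¹ = b * (g₀ * y * g₀⁻¹) * b⁻¹ := by group
      _ = _ := by rw [hg₀]; group
  rw [e0, e0, e1]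
  rcases h b with h1 | h1
  · rw [h1]
    exact Or.inr ⟨rfl, hy⟩
  · rw [h1, inv_inv]
    exact Or.inl ⟨rfl, hy⟩

theorem central_of_conj_or [Finite G] (hG : commutator G = ⊤) {y : G} (h : ∀ g : G, g * y * g⁻¹ = y ∨ g * y * g⁻¹ = y⁻¹)
    (hy : y⁻¹ ≠ y) (g : G) : g * y * g⁻¹ = y := by
  rcases h g with h1 | h1
  · exact h1
  · exact absurd (index_two_of_conj h hy h1) (no_index_two hG _)

theorem pow_three_cases {y y' : G} (hy3 : y ^ 3 = 1) (h : y' ∈ zpowers y) : y' = 1 ∨ y' = y ∨ y' = y⁻¹ := by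
  obtain ⟨k, rfl⟩ := Subgroup.mem_zpowers_iff.mp h
  have hy : y⁻¹ = y ^ 2 := by
    rw [inv_eq_iff_mul_eq_one, ← pow_succ', hy3]
  have h1 : y ^ k = y ^ (k % 3) := by
    conv_lhs => rw [← Int.mul_ediv_add_emod k 3]
    rw [zpow_add, zpow_mul, show ((3 : ℤ)) = ((3 : ℕ) : ℤ) from rfl, zpow_natCast, hy3, one_zpow, one_mul]
  have h2 : k % 3 = 0 ∨ k % 3 = 1 ∨ k % 3 = 2 := by omega
  rcases h2 with h2 | h2 | h2
  · left; rw [h1, h2, zpow_zero]
  · right; left; rw [h1, h2, zpow_one]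
  · right; right; rw [h1, h2, hy]; exact zpow_two y |>.trans (pow_two y).symm

theorem inv_ne_of_three {y : G} (hy1 : y ≠ 1) (hy3 : y ^ 3 = 1) : y⁻¹ ≠ y := by
  intro e
  have h2 : y * y = 1 := by
    nth_rewrite 1 [← e]
    simp
  have h3 : y = 1 := by
    have : y ^ 3 = (y * y) * y := by rw [pow_succ, pow_two]
    rw [hy3, h2, one_mul] at this
    exact this.symm
  exact hy1 h3

theorem zpowers_isPGroup_three [Finite G] {u : G} (hu : u ^ 3 = 1) : IsPGroup 3 (zpowers u) := by
  haveI : Fact (Nat.Prime 3) := ⟨Nat.prime_three⟩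
  by_cases hu1 : u = 1
  · rw [hu1, zpowers_one_eq_bot]
    exact IsPGroup.of_bot
  · apply IsPGroup.of_card (n := 1)
    rw [Nat.card_zpowers, pow_one]
    exact orderOf_eq_prime hu hu1

theorem mem_normalizer_of_comm {c y : G} (hc : c * y = y * c) : c ∈ normalizer (zpowers y : Set G) := by
  rw [mem_normalizer_iff]
  intro u
  have hc : Commute c y := hc
  constructor
  · intro hu
    obtain ⟨k, rfl⟩ := Subgroup.mem_zpowers_iff.mp hu
    rw [(hc.zpow_right k).eq, mul_inv_cancel_right]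
    exact zpow_mem (mem_zpowers y) k
  · intro hu
    obtain ⟨k, hk⟩ := Subgroup.mem_zpowers_iff.mp hu
    have : u = y ^ k := by
      have h2 : c * y ^ k = y ^ k * c := (hc.zpow_right k).eq
      have h3 : c * u = y ^ k * c := by rw [hk]; group
      rw [← h2] at h3
      exact mul_left_cancel h3
    rw [this]
    exact zpow_mem (mem_zpowers y) k

theorem exists_noncomm [Finite G] (hG : commutator G = ⊤) (hS : SylHyp G) {y : G} (hy1 : y ≠ 1) (hy3 : y ^ 3 = 1) :
    ∃ g : G, y * (g * y * g⁻¹) ≠ (g * y * g⁻¹) * y := by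
  by_contra hno
  push Not at hno
  haveI : Fact (Nat.Prime 3) := ⟨Nat.prime_three⟩
  have hinv : y⁻¹ ≠ y := inv_ne_of_three hy1 hy3
  have hconj : ∀ g : G, g * y * g⁻¹ = y ∨ g * y * g⁻¹ = y⁻¹ := by
    intro g
    set y' := g * y * g⁻¹ with hy'
    have hy'3 : y' ^ 3 = 1 := by
      rw [hy', conj_pow, hy3]; group
    have hle : zpowers y' ≤ normalizer (zpowers y : Set G) := by
      rw [zpowers_le]
      exact mem_normalizer_of_comm (hno g).symm
    have hp := IsPGroup.to_sup_of_normal_right' (zpowers_isPGroup_three hy'3) (zpowers_isPGroup_three hy3) hle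
    have hc := hS.odd (by decide) _ hp
    have a1 : y ∈ zpowers y' ⊔ zpowers y := (le_sup_right : zpowers y ≤ _) (mem_zpowers y)
    have a2 : y' ∈ zpowers y' ⊔ zpowers y := (le_sup_left : zpowers y' ≤ _) (mem_zpowers y')
    have a3 := mem_zpowers_of_cyclic (ℓ := 3) hc a1 a2 hy1 hy3 hy'3
    rcases pow_three_cases hy3 a3 with h | h | h
    · exfalso
      apply hy1
      rw [hy'] at h
      exact conj_eq_one_iff.mp h
    · exact Or.inl h
    · exact Or.inr h
  have hcen := central_of_conj_or hG hconj hinv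
  refine lemmaB' hG hS (ℓ := 3) (by decide) hy1 hy3 ?_
  intro w _
  exact hcen w

/-- Lemma C: an element of order three cannot be centralized by a Sylow `2`-subgroup. -/
theorem lemmaC [Finite G] (hG : commutator G = ⊤) (hS : SylHyp G) (T : Sylow 2 G) {y : G} (hy1 : y ≠ 1) (hy3 : y ^ 3 = 1)
    (hT : ∀ t ∈ (T : Subgroup G), t * y = y * t) : False := by
  haveI : Fact (Nat.Prime 3) := ⟨Nat.prime_three⟩
  have hinv : y⁻¹ ≠ y := inv_ne_of_three hy1 hy3
  refine lemmaB' hG hS (ℓ := 3) (by decide) hy1 hy3 ?_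
  intro w hw
  rcases pow_three_cases hy3 hw with h | h | h
  · exact absurd (conj_eq_one_iff.mp h) hy1
  · exact h
  exfalso
  -- `w` inverts `y`
  let D : Subgroup G := normalizer (zpowers y : Set G)
  have hyD : y ∈ D := le_normalizer (mem_zpowers y)
  have hconj : ∀ g : D, g * (⟨y, hyD⟩ : D) * g⁻¹ = ⟨y, hyD⟩ ∨ g * (⟨y, hyD⟩ : D) * g⁻¹ = (⟨y, hyD⟩ : D)⁻¹ := by
    intro g
    have h1 : (g : G) * y * (g : G)⁻¹ ∈ zpowers y := (mem_normalizer_iff.mp g.2 y).mp (mem_zpowers y)
    rcases pow_three_cases hy3 h1 with h2 | h2 | h2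
    · exact absurd (conj_eq_one_iff.mp h2) hy1
    · exact Or.inl (Subtype.ext h2)
    · exact Or.inr (Subtype.ext h2)
  have hwD : w ∈ D := by
    rw [mem_normalizer_iff]
    intro u
    have e1 : w⁻¹ * y * w = y⁻¹ := by
      have e2 : y = w⁻¹ * y⁻¹ * w := by
        rw [← h]; group
      calc w⁻¹ * y * w = (w⁻¹ * y⁻¹ * w)⁻¹ := by group
        _ = y⁻¹ := by rw [← e2]
    constructor
    · intro hu
      obtain ⟨k, rfl⟩ := Subgroup.mem_zpowers_iff.mp hu
      rw [← conj_zpow, h]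
      exact zpow_mem (inv_mem (mem_zpowers y)) k
    · intro hu
      obtain ⟨k, hk⟩ := Subgroup.mem_zpowers_iff.mp hu
      have : u = w⁻¹ * y ^ k * w := by
        rw [hk]; group
      rw [this]
      have e3 := conj_zpow (a := w⁻¹) (b := y) (i := k)
      rw [inv_inv] at e3
      rw [← e3, e1]
      exact zpow_mem (inv_mem (mem_zpowers y)) k
  have hidx := index_two_of_conj hconj (fun e => hinv (congrArg Subtype.val e)) (g₀ := ⟨w, hwD⟩) (Subtype.ext h)
  set C' := centralizer ({(⟨y, hyD⟩ : D)} : Set D) with hC'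
  have hTD : (T : Subgroup G) ≤ D := fun t ht => mem_normalizer_of_comm (hT t ht)
  have h1 : Nat.card D = 2 * Nat.card C' := by
    rw [← hidx, Subgroup.index_mul_card]
  have hle : (T : Subgroup G).subgroupOf D ≤ C' := by
    intro t ht
    rw [hC', Subgroup.mem_centralizer_singleton_iff]
    exact Subtype.ext (hT _ ht)
  have h2 : Nat.card T ∣ Nat.card C' := by
    have e := Nat.card_congr (Subgroup.subgroupOfEquivOfLe hTD).toEquiv
    rw [← e]
    exact Subgroup.card_dvd_of_le hle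
  have h3 : Nat.card D ∣ Nat.card G := Subgroup.card_subgroup_dvd_card D
  have h4 := Subgroup.index_mul_card (T : Subgroup G)
  have h5 : 2 * Nat.card T ∣ (T : Subgroup G).index * Nat.card T := by
    rw [h4]
    refine dvd_trans ?_ h3
    rw [h1]
    exact mul_dvd_mul_left 2 h2
  have h6 : 2 ∣ (T : Subgroup G).index := Nat.dvd_of_mul_dvd_mul_right Nat.card_pos h5
  exact T.not_dvd_index h6

theorem three_dvd_card_SL : 3 ∣ Nat.card (Matrix.SpecialLinearGroup (Fin 2) (ZMod 3)) := by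
  let u : Matrix.SpecialLinearGroup (Fin 2) (ZMod 3) := ⟨!![1, 1; 0, 1], by decide⟩
  have h3 : u ^ 3 = 1 := by decide
  have h1 : u ≠ 1 := by
    intro e
    have h2 := congrArg (fun m : Matrix.SpecialLinearGroup (Fin 2) (ZMod 3) => (m : Matrix (Fin 2) (Fin 2) (ZMod 3)) 0 1) e
    revert h2
    decide
  haveI : Fact (Nat.Prime 3) := ⟨Nat.prime_three⟩
  have h4 : orderOf u = 3 := orderOf_eq_prime h3 h1
  have h5 := orderOf_dvd_natCard u
  rwa [h4] at h5

/-- A perfect nontrivial group with these Sylow subgroups has an element of order three. -/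
theorem exists_three [Finite G] [Nontrivial G] (hG : commutator G = ⊤) (hS : SylHyp G) : ∃ y : G, y ≠ 1 ∧ y ^ 3 = 1 := by
  have hcard : Nat.card G ≠ 1 := by
    intro h
    obtain ⟨g, hg⟩ := exists_ne (1 : G)
    exact hg ((Nat.card_eq_one_iff_unique.mp h).1.elim _ _)
  obtain ⟨ℓ, hℓ⟩ : ∃ ℓ, (Nat.card G).minFac = ℓ := ⟨_, rfl⟩
  haveI : Fact ℓ.Prime := ⟨hℓ ▸ Nat.minFac_prime hcard⟩
  let P : Sylow ℓ G := default
  have hd : ℓ ∣ Nat.card G := hℓ ▸ Nat.minFac_dvd _
  have hne : (P : Subgroup G) ≠ ⊥ := P.ne_bot_of_dvd_card hd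
  have hnc : ¬ IsCyclic (P : Subgroup G) := by
    intro hc
    exact burnside_false hG P (IsCyclic.normalizer_le_centralizer hℓ hc) hne
  obtain ⟨rfl, n, ⟨e⟩⟩ := (hS _ (P : Subgroup G) P.2).resolve_left hnc
  have hn : 1 ≤ n := by
    by_contra h
    have hn0 : n = 0 := by omega
    subst hn0
    apply hnc
    haveI : IsCyclic (QuaternionGroup (2 ^ 0)) := by
      rw [pow_zero]; exact QuaternionGroup.quaternionGroup_one_isCyclic
    exact isCyclic_of_surjective e.symm.toMonoidHom e.symm.surjective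
  rcases Cfsg.Agent.S0106.result P n hn ⟨e⟩ with h | ⟨H, K, hK, ⟨φ⟩⟩
  · exact absurd h (not_complement hG hd)
  · haveI : Fact (Nat.Prime 3) := ⟨Nat.prime_three⟩
    have h1 : 3 ∣ Nat.card (H ⧸ K.subgroupOf H) := by
      rw [Nat.card_congr φ.toEquiv]
      exact three_dvd_card_SL
    have h2 : Nat.card (H ⧸ K.subgroupOf H) ∣ Nat.card H := Subgroup.card_quotient_dvd_card _
    have h3 : Nat.card H ∣ Nat.card G := Subgroup.card_subgroup_dvd_card H
    obtain ⟨y, hy⟩ := exists_prime_orderOf_dvd_card' (G := G) 3 (h1.trans (h2.trans h3))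
    refine ⟨y, ?_, ?_⟩
    · rintro rfl
      rw [orderOf_one] at hy
      omega
    · rw [← hy]; exact pow_orderOf_eq_one y

end Cfsg.Agent.Lib.ZPerfD
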