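import Mathlib
import Cfsg.Agent.Lib.ZPerfD

/-!
# Perfect Frobenius complements: the centralizer of an element of order four, and the Sylow bound
-/

set_option autoImplicit false
set_option linter.style.haveILetI false
set_option linter.unusedSectionVars false
set_option linter.unusedSimpArgs false
set_option linter.unusedVariables false

namespace Cfsg.Agent.Lib.ZPerfE

open Subgroup Cfsg.Agent.Lib.ZPerfA Cfsg.Agent.Lib.ZPerfB Cfsg.Agent.Lib.ZPerfC Cfsg.Agent.Lib.ZPerfD
open QuaternionGroup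

open Equiv.Perm in
theorem a5_cent : ∀ s : Equiv.Perm (Fin 5), sign s = 1 → s ≠ 1 → s * s = 1 → ∀ y : Equiv.Perm (Fin 5), sign y = 1 →
    y * s = s * y → y * y = 1 := by
  decide +kernel

open Equiv.Perm in
theorem s4_cent : ∀ s : Equiv.Perm (Fin 4), sign s = 1 → s ≠ 1 → s * s = 1 → ∀ y : Equiv.Perm (Fin 4),
    y * s = s * y → y * y = 1 ∨ y * y = s := by
  decide +kernel

theorem poly_sq {S : Type*} [Group S] (h : ZPerfA.Poly S) {s t u y : S} (h1 : K4 s t u) (hy : y * s = s * y) :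
    y * y = 1 ∨ y * y = s := by
  rcases h with ⟨⟨e⟩⟩ | ⟨⟨e⟩⟩ | ⟨⟨e⟩⟩
  · have a1 := h1.map e.toMonoidHom e.injective
    have h2 := s4_cent ((e s : alternatingGroup (Fin 4)) : Equiv.Perm (Fin 4)) (e s).2
      (fun h => a1.s1 (Subtype.ext h)) (congrArg Subtype.val a1.s2)
      ((e y : alternatingGroup (Fin 4)) : Equiv.Perm (Fin 4))
      (by rw [← Subgroup.coe_mul, ← Subgroup.coe_mul, ← map_mul, ← map_mul, hy])
    rcases h2 with h2 | h2
    · left
      apply e.injective
      rw [map_mul, map_one]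
      exact Subtype.ext h2
    · right
      apply e.injective
      rw [map_mul]
      exact Subtype.ext h2
  · have a1 := h1.map e.toMonoidHom e.injective
    have h2 := s4_cent (e s) (K4.sign_eq a1).1 a1.s1 a1.s2 (e y) (by rw [← map_mul, ← map_mul, hy])
    rcases h2 with h2 | h2
    · left
      apply e.injective
      rw [map_mul, map_one]
      exact h2
    · right
      apply e.injective
      rw [map_mul]
      exact h2
  · left
    have a1 := h1.map e.toMonoidHom e.injective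
    have h2 := a5_cent ((e s : alternatingGroup (Fin 5)) : Equiv.Perm (Fin 5)) (e s).2
      (fun h => a1.s1 (Subtype.ext h)) (congrArg Subtype.val a1.s2)
      ((e y : alternatingGroup (Fin 5)) : Equiv.Perm (Fin 5)) (e y).2
      (by rw [← Subgroup.coe_mul, ← Subgroup.coe_mul, ← map_mul, ← map_mul, hy])
    apply e.injective
    rw [map_mul, map_one]
    exact Subtype.ext h2

/-- A central element of a generalized quaternion group squares to one. -/
theorem qg_central_sq {N : ℕ} (hN : 2 ≤ N) (c : QuaternionGroup N) (hc : ∀ g, c * g = g * c) : c * c = 1 := by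
  haveI : NeZero N := ⟨by omega⟩
  rcases c with k | k
  · have h := hc (xa 0)
    rw [a_mul_xa, xa_mul_a, xa.injEq] at h
    rw [a_mul_a, one_def, a.injEq]
    linear_combination -h
  · exfalso
    have h := hc (a 1)
    rw [a_mul_xa, xa_mul_a, xa.injEq] at h
    have h2 : (2 : ZMod (2 * N)) = 0 := by
      linear_combination h
    haveI : Fact (1 < 2 * N) := ⟨by omega⟩
    have h3 : ((2 : ℕ) : ZMod (2 * N)) = 0 := by exact_mod_cast h2
    rw [ZMod.natCast_eq_zero_iff] at h3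
    have := Nat.le_of_dvd (by norm_num) h3
    omega

variable {G : Type*} [Group G]

/-- A `2`-subgroup with a central element whose square is not one is cyclic. -/
theorem cyclic_of_central (hS : SylHyp G) {A : Subgroup G} (hA : IsPGroup 2 A) {i : G} (hi : i ∈ A)
    (hic : ∀ g ∈ A, g * i = i * g) (hii : i * i ≠ 1) : IsCyclic A := by
  haveI : Fact (Nat.Prime 2) := ⟨Nat.prime_two⟩
  rcases hS 2 A hA with h | ⟨-, n, ⟨e⟩⟩
  · exact h
  rcases Nat.eq_zero_or_pos n with rfl | hn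
  · haveI : IsCyclic (QuaternionGroup (2 ^ 0)) := by
      rw [pow_zero]; exact QuaternionGroup.quaternionGroup_one_isCyclic
    exact isCyclic_of_surjective e.symm.toMonoidHom e.symm.surjective
  · exfalso
    have hN : 2 ≤ 2 ^ n := by
      calc 2 = 2 ^ 1 := rfl
        _ ≤ 2 ^ n := Nat.pow_le_pow_right (by norm_num) hn
    have h1 := qg_central_sq hN (e ⟨i, hi⟩) (by
      intro g
      obtain ⟨g', rfl⟩ := e.surjective g
      rw [← map_mul, ← map_mul]
      congr 1
      exact Subtype.ext (hic _ g'.2).symm)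
    rw [← map_mul, map_eq_one_iff e e.injective] at h1
    exact hii (congrArg Subtype.val h1)

section main

variable {F U : Type*} [Field F] [AddCommGroup U] [Module F U] [Finite G] [FiniteDimensional F U] [Nontrivial U]
  {ρ : G →* Module.End F U} {z : G} {p : ℕ} [Finite F] [hp : Fact p.Prime] [CharP F p]

theorem conj_order {j r : G} : orderOf (j * r * j⁻¹) = orderOf r :=
  orderOf_injective (MulAut.conj j).toMonoidHom (MulAut.conj j).injective r

theorem frame_ji' (B : Base ρ z) {i j x : G} (h : Frame z i j x) : j⁻¹ * i * j = i⁻¹ := by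
  have h1 : j⁻¹ * i * j = (j⁻¹ * j⁻¹) * (j * i * j⁻¹) * (j * j) := by group
  have h2 : j⁻¹ * j⁻¹ = z := by
    rw [← mul_inv_rev, h.jj, inv_eq_of_mul_eq_one_left B.zz]
  rw [h1, h2, h.ji, h.jj, ← B.z_central, mul_assoc, B.zz, mul_one]

theorem zpowers_isP {i : G} {k : ℕ} (h : i ^ 2 ^ k = 1) : IsPGroup 2 (zpowers i) := by
  rintro ⟨g, hg⟩
  obtain ⟨m, rfl⟩ := Subgroup.mem_zpowers_iff.mp hg
  refine ⟨k, Subtype.ext ?_⟩
  show (i ^ m) ^ 2 ^ k = 1
  rw [← zpow_natCast, ← zpow_mul, mul_comm, zpow_mul, zpow_natCast, h, one_zpow]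

/-- The group `C_G(i)` has a normal `2`-complement consisting of its elements of odd order. -/
theorem exists_complement (hS : SylHyp G) {i : G} (hii : i * i ≠ 1) (hi4 : i ^ 4 = 1) :
    ∃ (R : Subgroup (centralizer ({i} : Set G))), R.Normal ∧ ¬ 2 ∣ Nat.card R ∧
      (∀ r : centralizer ({i} : Set G), Odd (orderOf r) → r ∈ R) ∧
      ∃ P : Sylow 2 (centralizer ({i} : Set G)), R.IsComplement' P ∧ IsCyclic P := by
  haveI : Fact (Nat.Prime 2) := ⟨Nat.prime_two⟩
  set X := centralizer ({i} : Set G) with hX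
  have hiX : i ∈ X := by
    rw [hX, Subgroup.mem_centralizer_singleton_iff]
  let P : Sylow 2 X := default
  have hcyc : IsCyclic P := by
    let A : Subgroup G := (P : Subgroup X).map X.subtype
    have hpA : IsPGroup 2 A := P.2.map X.subtype
    have hpi : IsPGroup 2 (zpowers i) := zpowers_isP (k := 2) hi4
    have hAX : A ≤ X := by
      rintro _ ⟨a, -, rfl⟩
      exact a.2
    have hle : A ≤ normalizer (zpowers i : Set G) := by
      intro a ha
      exact mem_normalizer_of_comm ((Subgroup.mem_centralizer_singleton_iff).mp (hAX ha))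
    have hB := IsPGroup.to_sup_of_normal_right' hpA hpi hle
    have hbc : IsCyclic (A ⊔ zpowers i : Subgroup G) := by
      refine cyclic_of_central hS hB ((le_sup_right : zpowers i ≤ _) (mem_zpowers i)) ?_ hii
      intro g hg
      have hle2 : A ⊔ zpowers i ≤ X := by
        apply sup_le hAX
        rw [zpowers_le]; exact hiX
      exact (Subgroup.mem_centralizer_singleton_iff).mp (hle2 hg)
    let f : P →* (A ⊔ zpowers i : Subgroup G) :=
      { toFun := fun a => ⟨(a : X), (le_sup_left : A ≤ _) ⟨a, a.2, rfl⟩⟩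
        map_one' := rfl
        map_mul' := fun _ _ => rfl }
    refine isCyclic_of_injective f ?_
    intro a b hab
    exact Subtype.ext (Subtype.ext (congrArg (fun y : (A ⊔ zpowers i : Subgroup G) => (y : G)) hab))
  have h2 : 2 ∣ Nat.card X := by
    have h3 : orderOf (⟨i, hiX⟩ : X) = 2 ^ (1 + 1) := by
      apply orderOf_eq_prime_pow
      · intro e
        apply hii
        have : i ^ 2 = 1 := congrArg Subtype.val e
        rwa [pow_two] at this
      · exact Subtype.ext hi4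
    have h4 := orderOf_dvd_natCard (⟨i, hiX⟩ : X)
    rw [h3] at h4
    exact (by norm_num : 2 ∣ 2 ^ (1 + 1)).trans h4
  have h2' : (Nat.card X).minFac = 2 := Nat.minFac_eq_two_iff _ |>.mpr h2
  have hN := IsCyclic.normalizer_le_centralizer h2' hcyc
  refine ⟨(MonoidHom.transferSylow P hN).ker, inferInstance, MonoidHom.not_dvd_card_ker_transferSylow P hN, ?_,
    P, MonoidHom.ker_transferSylow_isComplement' P hN, hcyc⟩
  intro r hr
  rw [MonoidHom.mem_ker]
  obtain ⟨k, hk⟩ := P.2 (MonoidHom.transferSylow P hN r)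
  have h5 : orderOf (MonoidHom.transferSylow P hN r) ∣ 2 ^ k := orderOf_dvd_of_pow_eq_one hk
  have h6 : orderOf (MonoidHom.transferSylow P hN r) ∣ orderOf r := orderOf_map_dvd _ _
  have h7 : (2 ^ k).Coprime (orderOf r) := Nat.Coprime.pow_left k (Nat.coprime_two_left.mpr hr)
  exact orderOf_eq_one_iff.mp (Nat.eq_one_of_dvd_coprimes h7 h5 h6)

theorem Ctx.F3 (C : Ctx ρ z p) (hS : SylHyp G) {i j x r : G} (hf : Frame z i j x) (hr : r * i = i * r)
    (hodd : Odd (orderOf r)) : j * r * j⁻¹ = r := by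
  have hz1 : z ≠ 1 := C.z_ne
  have hii : i * i ≠ 1 := by rw [hf.ii]; exact hz1
  have hi4 : i ^ 4 = 1 := by
    have : i ^ 4 = (i * i) * (i * i) := by rw [show (4 : ℕ) = 2 + 2 from rfl, pow_add, pow_two]
    rw [this, hf.ii, C.zz]
  obtain ⟨R, hRn, hR2, hRodd, P, hc, hcyc⟩ := exists_complement hS hii hi4
  have hm : ∀ g : G, g ∈ centralizer ({i} : Set G) ↔ g * i = i * g := fun g => Subgroup.mem_centralizer_singleton_iff
  have hr' : (j * r * j⁻¹) * i = i * (j * r * j⁻¹) := by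
    have e := frame_ji' C.toBase hf
    have e2 : j * i⁻¹ * j⁻¹ = i := by
      have := hf.ji
      rw [← inv_inj] at this
      simpa [mul_assoc] using this
    calc (j * r * j⁻¹) * i = j * r * (j⁻¹ * i * j) * j⁻¹ := by group
      _ = j * r * i⁻¹ * j⁻¹ := by rw [e]
      _ = j * (r * i⁻¹ * r⁻¹) * r * j⁻¹ := by group
      _ = j * i⁻¹ * r * j⁻¹ := by
        have : r * i⁻¹ * r⁻¹ = i⁻¹ := by
          have hc : Commute r i := hr
          rw [hc.inv_right.eq]
          group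
        rw [this]
      _ = (j * i⁻¹ * j⁻¹) * (j * r * j⁻¹) := by group
      _ = _ := by rw [e2]
  have h1 : (⟨r, (hm r).mpr hr⟩ : centralizer ({i} : Set G)) ∈ R := by
    apply hRodd
    rwa [Subgroup.orderOf_mk]
  have h2 : (⟨j * r * j⁻¹, (hm _).mpr hr'⟩ : centralizer ({i} : Set G)) ∈ R := by
    apply hRodd
    rwa [Subgroup.orderOf_mk, conj_order]
  have h3 := R.mul_mem h1 (R.inv_mem h2)
  set A : G := r * (j * r * j⁻¹)⁻¹ with hA
  have hAi : A * i = i * A := by
    have := (hm _).mp (Subgroup.mul_mem _ ((hm r).mpr hr) (Subgroup.inv_mem _ ((hm _).mpr hr')))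
    exact this
  have hAj : j * A * j⁻¹ = A⁻¹ := by
    have e : j * r⁻¹ * j⁻¹ * j * r * j⁻¹ = 1 := by group
    calc j * A * j⁻¹ = (j * r * j⁻¹) * ((j * j) * r⁻¹ * (j * j)⁻¹) := by rw [hA]; group
      _ = (j * r * j⁻¹) * r⁻¹ := by
        rw [hf.jj, ← C.z_central r⁻¹]; group
      _ = A⁻¹ := by rw [hA]; group
  have hoddA : Odd (orderOf A) := by
    have h4 : orderOf A ∣ Nat.card R := by
      have h5 := orderOf_dvd_natCard (⟨_, h3⟩ : R)
      rwa [Subgroup.orderOf_mk, Subgroup.orderOf_mk] at h5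
    rw [← Nat.not_even_iff_odd, even_iff_two_dvd]
    exact fun h => hR2 (h.trans h4)
  have h6 := C.odd_elim hf hAi hAj hoddA
  rw [hA, mul_inv_eq_one] at h6
  exact h6.symm

theorem Base.comm_x (B : Base ρ z) {i j x r : G} (hf : Frame z i j x) (hri : r * i = i * r) (hrj : r * j = j * r) :
    r * x = x * r := by
  apply B.inj
  ext v
  have e1 : ∀ w : U, ρ r (ρ i w) = ρ i (ρ r w) := by
    intro w
    rw [← rho_mul, ← rho_mul, hri]
  have e2 : ∀ w : U, ρ r (ρ j w) = ρ j (ρ r w) := by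
    intro w
    rw [← rho_mul, ← rho_mul, hrj]
  have h2 := B.two
  have h1 : (2 : F) • ρ r (ρ x v) = (2 : F) • ρ x (ρ r v) := by
    rw [← map_smul, hf.formula_apply B, hf.formula_apply B, map_sub, map_add, map_add, map_neg, e1, e2, e1, e2]
  have h3 := smul_right_injective U h2 h1
  rw [rho_mul, rho_mul]
  exact h3

theorem Ctx.two_frames' (C : Ctx ρ z p) {i j x j₂ x₂ : G} (hf : Frame z i j x) (hf₂ : Frame z i j₂ x₂) :
    (j₂ * j⁻¹) ^ 4 = 1 := by
  set A := j₂ * j⁻¹ with hA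
  have e1 : A * j = j₂ := by rw [hA]; group
  have hAi : A * i = i * A := by
    have e := frame_ji' C.toBase hf
    have e2 : j₂ * i⁻¹ * j₂⁻¹ = i := by
      have := hf₂.ji
      rw [← inv_inj] at this
      simpa [mul_assoc] using this
    calc A * i = j₂ * (j⁻¹ * i * j) * j⁻¹ := by rw [hA]; group
      _ = (j₂ * i⁻¹ * j₂⁻¹) * (j₂ * j⁻¹) := by rw [e]; group
      _ = i * A := by rw [e2]
  have hAj : j * A * j⁻¹ = A⁻¹ := by
    have e3 : j₂⁻¹ = z * j₂ := C.inv_of_sq hf₂.jj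
    have e4 : j⁻¹ * j⁻¹ = z := by
      rw [← mul_inv_rev, hf.jj, inv_eq_of_mul_eq_one_left C.zz]
    calc j * A * j⁻¹ = j * j₂ * (j⁻¹ * j⁻¹) := by rw [hA]; group
      _ = j * (j₂ * z) := by rw [e4]; group
      _ = j * (z * j₂) := by rw [C.z_central]
      _ = j * j₂⁻¹ := by rw [e3]
      _ = A⁻¹ := by rw [hA]; group
  refine C.two_frames hf (x' := x₂) ?_ hAi hAj
  rw [e1]
  exact hf₂

theorem frame_first (B : Base ρ z) {i j x q : G} (hf : Frame z i j x)
    (hq : q = i ∨ q = i⁻¹ ∨ q = j ∨ q = j⁻¹ ∨ q = i * j ∨ q = (i * j)⁻¹) : ∃ j' x' : G, Frame z q j' x' := by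
  rcases hq with rfl | rfl | rfl | rfl | rfl | rfl
  · exact ⟨_, _, hf⟩
  · exact ⟨_, _, hf.inv_first B⟩
  · exact ⟨_, _, hf.rotate B⟩
  · exact ⟨_, _, (hf.rotate B).inv_first B⟩
  · have := (hf.rotate2 B).inv_first B
    rw [inv_inv] at this
    exact ⟨_, _, this⟩
  · exact ⟨_, _, hf.rotate2 B⟩

theorem mem_normalizer_of_inv {c y : G} (h : c * y * c⁻¹ = y⁻¹) (h' : c⁻¹ * y * c = y⁻¹) :
    c ∈ normalizer (zpowers y : Set G) := by
  rw [mem_normalizer_iff]
  intro u
  constructor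
  · intro hu
    obtain ⟨k, rfl⟩ := Subgroup.mem_zpowers_iff.mp hu
    rw [← conj_zpow, h]
    exact zpow_mem (inv_mem (mem_zpowers y)) k
  · intro hu
    obtain ⟨k, hk⟩ := Subgroup.mem_zpowers_iff.mp hu
    have : u = c⁻¹ * y ^ k * c := by
      rw [hk]; group
    rw [this]
    have e3 := conj_zpow (a := c⁻¹) (b := y) (i := k)
    rw [inv_inv] at e3
    rw [← e3, h']
    exact zpow_mem (inv_mem (mem_zpowers y)) k

theorem qg_conj_a_one {N : ℕ} (t : ZMod (2 * N)) :
    (xa t : QuaternionGroup N) * a 1 * (xa t)⁻¹ = (a 1)⁻¹ := by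
  rw [mul_inv_eq_iff_eq_mul, xa_mul_a, show (a 1 : QuaternionGroup N)⁻¹ = a (-1) from rfl, a_mul_xa]
  congr 1
  ring

theorem Ctx.sylow_bound_aux (C : Ctx ρ z p) {T : Subgroup G} {n : ℕ} (e : T ≃* QuaternionGroup (2 ^ n))
    {i j x : G} (hf : Frame z i j x) (hi : i ∈ T) (hj : j ∈ T) {s t : ZMod (2 * 2 ^ n)}
    (hes : e ⟨i, hi⟩ = a s) (het : e ⟨j, hj⟩ = xa t) : n ≤ 2 := by
  let f : QuaternionGroup (2 ^ n) →* G := T.subtype.comp e.symm.toMonoidHom
  have hfinj : Function.Injective f := by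
    intro u v h
    exact e.symm.injective (Subtype.ext h)
  have hfs : f (a s) = i := by
    rw [← hes]; simp [f]
  have hft : f (xa t) = j := by
    rw [← het]; simp [f]
  have hAi : f (a 1) * i = i * f (a 1) := by
    rw [← hfs, ← map_mul, ← map_mul, a_mul_a, a_mul_a, add_comm]
  have hAj : j * f (a 1) * j⁻¹ = (f (a 1))⁻¹ := by
    rw [← hft, ← map_mul, ← map_inv, ← map_mul, qg_conj_a_one, map_inv]
  have h1 := C.order_bound hf hAi hAj
  rw [orderOf_injective f hfinj] at h1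
  haveI : NeZero (2 ^ n) := ⟨by positivity⟩
  rw [orderOf_a_one] at h1
  by_contra hn
  have h2 : 2 ^ 3 ≤ 2 ^ n := Nat.pow_le_pow_right (by norm_num) (by omega)
  omega

/-- There is a Sylow `2`-subgroup, isomorphic to `Q₈` or `Q₁₆`, containing a frame in good position. -/
theorem Ctx.exists_sylow_frame (C : Ctx ρ z p) (hS : SylHyp G) {i j x : G} (hf : Frame z i j x) :
    ∃ (T : Sylow 2 G) (n : ℕ) (e : (T : Subgroup G) ≃* QuaternionGroup (2 ^ n)) (i' j' x' : G)
      (hi : i' ∈ (T : Subgroup G)) (hj : j' ∈ (T : Subgroup G)) (s t : ZMod (2 * 2 ^ n)),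
      Frame z i' j' x' ∧ e ⟨i', hi⟩ = a s ∧ e ⟨j', hj⟩ = xa t ∧ (n = 1 ∨ n = 2) := by
  haveI : Fact (Nat.Prime 2) := ⟨Nat.prime_two⟩
  have hz1 : z ≠ 1 := C.z_ne
  have h4 : ∀ g : G, g * g = z → g ^ 2 ^ 2 = 1 := by
    intro g hg
    have : g ^ 2 ^ 2 = (g * g) * (g * g) := by rw [show (2 : ℕ) ^ 2 = 2 + 2 from rfl, pow_add, pow_two]
    rw [this, hg, C.zz]
  have hB := IsPGroup.to_sup_of_normal_right' (zpowers_isP (h4 j hf.jj)) (zpowers_isP (h4 i hf.ii))
    (by rw [zpowers_le]; exact mem_normalizer_of_inv hf.ji (frame_ji' C.toBase hf))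
  obtain ⟨T, hT⟩ := hB.exists_le_sylow
  have hi : i ∈ (T : Subgroup G) := hT ((le_sup_right : zpowers i ≤ _) (mem_zpowers i))
  have hj : j ∈ (T : Subgroup G) := hT ((le_sup_left : zpowers j ≤ _) (mem_zpowers j))
  have hne : i * j ≠ j * i := by
    intro e
    have h1 : j * i * j⁻¹ = i := by
      rw [← e]; group
    rw [hf.ji] at h1
    have h2 : i * i = 1 := by
      nth_rewrite 1 [← h1]
      simp
    rw [hf.ii] at h2
    exact hz1 h2
  have hnc : ¬ IsCyclic (T : Subgroup G) := by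
    intro hc
    letI : CommGroup (T : Subgroup G) := IsCyclic.commGroup
    have := mul_comm (⟨i, hi⟩ : (T : Subgroup G)) ⟨j, hj⟩
    exact hne (congrArg Subtype.val this)
  obtain ⟨-, n, ⟨e⟩⟩ := (hS 2 (T : Subgroup G) T.2).resolve_left hnc
  have hn0 : n ≠ 0 := by
    rintro rfl
    apply hnc
    haveI : IsCyclic (QuaternionGroup (2 ^ 0)) := by
      rw [pow_zero]; exact QuaternionGroup.quaternionGroup_one_isCyclic
    exact isCyclic_of_surjective e.symm.toMonoidHom e.symm.surjective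
  have hinv : (i * j)⁻¹ ∈ (T : Subgroup G) := inv_mem (mul_mem hi hj)
  have emul : e ⟨(i * j)⁻¹, hinv⟩ = (e ⟨i, hi⟩ * e ⟨j, hj⟩)⁻¹ := by
    rw [← map_mul, ← map_inv]
    rfl
  have fin : ∀ (i' j' x' : G) (hi' : i' ∈ (T : Subgroup G)) (hj' : j' ∈ (T : Subgroup G)) (s t : ZMod (2 * 2 ^ n)),
      Frame z i' j' x' → e ⟨i', hi'⟩ = a s → e ⟨j', hj'⟩ = xa t →
      ∃ (T : Sylow 2 G) (n : ℕ) (e : (T : Subgroup G) ≃* QuaternionGroup (2 ^ n)) (i' j' x' : G)
      (hi : i' ∈ (T : Subgroup G)) (hj : j' ∈ (T : Subgroup G)) (s t : ZMod (2 * 2 ^ n)),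
      Frame z i' j' x' ∧ e ⟨i', hi⟩ = a s ∧ e ⟨j', hj⟩ = xa t ∧ (n = 1 ∨ n = 2) := by
    intro i' j' x' hi' hj' s t h1 h2 h3
    have := Ctx.sylow_bound_aux C e h1 hi' hj' h2 h3
    exact ⟨T, n, e, i', j', x', hi', hj', s, t, h1, h2, h3, by omega⟩
  rcases hei : e ⟨i, hi⟩ with s | s <;> rcases hej : e ⟨j, hj⟩ with t | t
  · exfalso
    apply hne
    have h1 : e ⟨i, hi⟩ * e ⟨j, hj⟩ = e ⟨j, hj⟩ * e ⟨i, hi⟩ := by
      rw [hei, hej, a_mul_a, a_mul_a, add_comm]
    rw [← map_mul, ← map_mul] at h1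
    exact congrArg Subtype.val (e.injective h1)
  · exact fin i j x hi hj s t hf hei hej
  · refine fin j (i * j)⁻¹ x hj hinv t (((2 ^ n : ℕ) : ZMod (2 * 2 ^ n)) + (s + t)) (hf.rotate C.toBase) hej ?_
    rw [emul, hei, hej, xa_mul_a]
    rfl
  · refine fin (i * j)⁻¹ i x hinv hi (-((2 ^ n : ℕ) + t - s)) s (hf.rotate2 C.toBase) ?_ hei
    rw [emul, hei, hej, xa_mul_xa]
    rfl

end main

end Cfsg.Agent.Lib.ZPerfE
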