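import Mathlib
import Cfsg.Agent.Lib.ZPerfE
import Cfsg.Agent.Lib.ThompsonTransfer

/-!
# Perfect Frobenius complements: the Sylow `2`-subgroup is not of order sixteen
-/

set_option autoImplicit false
set_option linter.style.haveILetI false
set_option linter.unusedSectionVars false
set_option linter.unusedSimpArgs false
set_option linter.unusedVariables false

namespace Cfsg.Agent.Lib.ZPerfF

open Subgroup Cfsg.Agent.Lib.ZPerfA Cfsg.Agent.Lib.ZPerfB Cfsg.Agent.Lib.ZPerfC Cfsg.Agent.Lib.ZPerfD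
  Cfsg.Agent.Lib.ZPerfE
open QuaternionGroup

/-- The index-two subgroups of `Q₁₆` containing `a 2` and `xa t`. -/
def inM (t : ZMod (2 * 4)) : QuaternionGroup 4 → Prop
  | a k => ZMod.val k % 2 = 0
  | xa k => ZMod.val (k - t) % 2 = 0

instance (t : ZMod (2 * 4)) : DecidablePred (inM t) := fun q => by
  cases q <;> unfold inM <;> infer_instance

theorem inM_one : ∀ t, inM t 1 := by decide +kernel

theorem inM_four : ∀ t, inM t (a 4) := by decide +kernel

theorem inM_mul : ∀ t q r, inM t q → inM t r → inM t (q * r) := by decide +kernel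

theorem inM_inv : ∀ t q, inM t q → inM t q⁻¹ := by decide +kernel

theorem inM_xor : ∀ t q, (inM t (q * a 1) ∧ ¬ inM t q) ∨ (inM t q ∧ ¬ inM t (q * a 1)) := by decide +kernel

theorem inM_elts : ∀ t q, inM t q → q * q = a 4 → q = a 2 ∨ q = (a 2)⁻¹ ∨ q = xa t ∨ q = (xa t)⁻¹ ∨
    q = a 2 * xa t ∨ q = (a 2 * xa t)⁻¹ := by decide +kernel

theorem sq_cases : ∀ s : ZMod (2 * 4), s + s = 4 → s = 2 ∨ s = 6 := by decide +kernel

theorem all_elts : ∀ t (q : QuaternionGroup 4), ∃ k : Fin 8, q = (a 1) ^ (k : ℕ) ∨ q = xa t * (a 1) ^ (k : ℕ) := by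
  decide +kernel

/-- The element `a 1 * xa t`. -/
def β (t : ZMod (2 * 4)) : QuaternionGroup 4 := a 1 * xa t

theorem β_facts : ∀ t, β t * β t = a 4 ∧ a 2 * β t * (a 2)⁻¹ = (β t)⁻¹ ∧ a 1 * a 1 = (a 2 : QuaternionGroup 4) ∧
    a 2 * a 2 = (a 4 : QuaternionGroup 4) ∧ xa t * xa t = (a 4 : QuaternionGroup 4) := by decide +kernel

theorem B_facts : ∀ t B, (B = β t ∨ B = (β t)⁻¹) →
    a 1 * B * (a 1)⁻¹ = a 2 * B ∧ a 2 * B * a 2 = B ∧ B * (a 2 * B) = a 2 ∧ B * B = a 4 ∧ B * a 2 * B⁻¹ = (a 2)⁻¹ ∧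
      B ≠ a 2 ∧ ((a 2 * B) * (xa t)⁻¹) ^ 4 ≠ 1 := by decide +kernel

theorem odd_facts : ∀ t, (β t * (xa t)⁻¹) ^ 4 ≠ 1 ∧ ((β t * a 2)⁻¹ * (xa t)⁻¹) ^ 4 ≠ 1 ∧
    ((β t * (a 2)⁻¹)⁻¹ * (xa t)⁻¹) ^ 4 ≠ 1 := by decide +kernel

variable {G : Type*} [Group G]

/-- Every element has a power of exponent `≡ 1 (mod 3)` which is a `3`-element. -/
theorem three_part [Finite G] (g : G) : ∃ k d : ℕ, (g ^ (3 * k + 1)) ^ 3 ^ d = 1 := by
  have hpos : orderOf g ≠ 0 := (orderOf_pos g).ne'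
  obtain ⟨c, r, hr, hcr⟩ : ∃ c r : ℕ, ¬ 3 ∣ r ∧ orderOf g = 3 ^ c * r := by
    refine ⟨(orderOf g).factorization 3, ordCompl[3] (orderOf g), Nat.not_dvd_ordCompl Nat.prime_three hpos, ?_⟩
    exact (Nat.ordProj_mul_ordCompl_eq_self _ _).symm
  have h3 : r % 3 = 1 ∨ r % 3 = 2 := by omega
  rcases h3 with h3 | h3
  · refine ⟨r / 3, c, ?_⟩
    have : 3 * (r / 3) + 1 = r := by omega
    rw [this, ← pow_mul, mul_comm, ← hcr, pow_orderOf_eq_one]
  · refine ⟨(2 * r) / 3, c, ?_⟩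
    have : 3 * ((2 * r) / 3) + 1 = 2 * r := by omega
    rw [this, ← pow_mul, show 2 * r * 3 ^ c = 2 * (3 ^ c * r) by ring, ← hcr, pow_mul']
    rw [pow_orderOf_eq_one, one_pow]

section main

variable {F U : Type*} [Field F] [AddCommGroup U] [Module F U] [Finite G] [FiniteDimensional F U] [Nontrivial U]
  {ρ : G →* Module.End F U} {z : G} {p : ℕ} [Finite F] [hp : Fact p.Prime] [CharP F p]

theorem frame_of_cycle (B₀ : Base ρ z) {i B t : G} (hii : i * i = z) (hBB : B * B = z) (hBi : B * i * B⁻¹ = i⁻¹)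
    (ht3 : t ^ 3 = 1) (ht1 : t ≠ 1) (tB : t * B * t⁻¹ = i * B) (tD : t * (i * B) * t⁻¹ = i) :
    Frame z i (i * B) t⁻¹ := by
  have hinv : B⁻¹ = z * B := B₀.inv_of_sq hBB
  have hzinv : z⁻¹ = z := inv_eq_of_mul_eq_one_left B₀.zz
  have hiB : i * B * i = B := by
    have h1 : B * i = i⁻¹ * B := by
      rw [← hBi]; group
    have h2 : i * B * i = i * (B * i) := by group
    rw [h2, h1]; group
  refine ⟨hii, ?_, ?_, ?_, ?_, ?_, ?_⟩
  · rw [← mul_assoc, hiB, hBB]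
  · calc i * B * i * (i * B)⁻¹ = (i * B * i) * (i * B)⁻¹ := rfl
      _ = B * (B⁻¹ * i⁻¹) := by rw [hiB]; group
      _ = i⁻¹ := by group
  · rw [inv_pow, ht3, inv_one]
  · simpa using ht1
  · rw [inv_inv]
    calc t⁻¹ * i * t = t⁻¹ * (t * (i * B) * t⁻¹) * t := by rw [tD]
      _ = i * B := by group
  · rw [inv_inv]
    have e1 : t⁻¹ * (i * B) * t = B := by
      rw [← tB]; group
    rw [e1, ← mul_assoc, hii, mul_inv_rev, hzinv, hinv, mul_assoc, B₀.z_central, ← mul_assoc, B₀.zz, one_mul]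

/-- The three-cycle on the lines of a quaternion group. -/
theorem Ctx.cycle_step (C : Ctx ρ z p) {i g₁ B : G} (hii : i * i = z) (hBB : B * B = z) (hBi : B * i * B⁻¹ = i⁻¹)
    (hne : B ≠ i) (h1 : g₁ * i * g₁⁻¹ = B) (h2 : g₁ * B * g₁⁻¹ = i * B) (h3 : g₁ * (i * B) * g₁⁻¹ = i) :
    (∃ x₂ : G, Frame z i (i * B) x₂) ∨ ∃ y : G, y ≠ 1 ∧ y ^ 3 = 1 ∧ y * i = i * y ∧ y * B = B * y := by
  -- `g₁ ^ 3` commutes with `i` and `B`
  have cube : ∀ {g : G}, g * i * g⁻¹ = B → g * B * g⁻¹ = i * B → g * (i * B) * g⁻¹ = i →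
      g ^ 3 * i = i * g ^ 3 ∧ g ^ 3 * B = B * g ^ 3 := by
    intro g a1 a2 a3
    have e : ∀ u : G, g ^ 3 * u * (g ^ 3)⁻¹ = g * (g * (g * u * g⁻¹) * g⁻¹) * g⁻¹ := by
      intro u
      rw [show g ^ 3 = g * g * g by rw [pow_succ, pow_two]]
      group
    constructor
    · have := e i
      rw [a1, a2, a3, mul_inv_eq_iff_eq_mul] at this
      exact this
    · have := e B
      rw [a2, a3, a1, mul_inv_eq_iff_eq_mul] at this
      exact this
  obtain ⟨k, d, hkd⟩ := three_part g₁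
  set t := g₁ ^ (3 * k + 1) with ht
  obtain ⟨c1, c2⟩ := cube h1 h2 h3
  have hc1 : Commute ((g₁ ^ 3) ^ k) i := Commute.pow_left c1 k
  have hc2 : Commute ((g₁ ^ 3) ^ k) B := Commute.pow_left c2 k
  have hte : t = (g₁ ^ 3) ^ k * g₁ := by
    rw [ht, pow_succ, pow_mul]
  have conj_t : ∀ u : G, t * u * t⁻¹ = (g₁ ^ 3) ^ k * (g₁ * u * g₁⁻¹) * ((g₁ ^ 3) ^ k)⁻¹ := by
    intro u
    rw [hte]; group
  have e1 : (g₁ ^ 3) ^ k * i * ((g₁ ^ 3) ^ k)⁻¹ = i := by
    rw [hc1.eq]; group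
  have e2 : (g₁ ^ 3) ^ k * B * ((g₁ ^ 3) ^ k)⁻¹ = B := by
    rw [hc2.eq]; group
  have tI : t * i * t⁻¹ = B := by
    rw [conj_t, h1, e2]
  have tB : t * B * t⁻¹ = i * B := by
    have e3 : (g₁ ^ 3) ^ k * (i * B) * ((g₁ ^ 3) ^ k)⁻¹ =
        ((g₁ ^ 3) ^ k * i * ((g₁ ^ 3) ^ k)⁻¹) * ((g₁ ^ 3) ^ k * B * ((g₁ ^ 3) ^ k)⁻¹) := by group
    rw [conj_t, h2, e3, e1, e2]
  have tD : t * (i * B) * t⁻¹ = i := by
    rw [conj_t, h3, e1]
  have ht1 : t ≠ 1 := by
    intro e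
    rw [e] at tI
    apply hne
    rw [← tI]; group
  obtain ⟨c, -, hc⟩ := (Nat.dvd_prime_pow Nat.prime_three).mp (orderOf_dvd_of_pow_eq_one hkd)
  obtain ⟨c3, c4⟩ := cube tI tB tD
  rcases c with _ | _ | c
  · exfalso
    rw [pow_zero] at hc
    exact ht1 (orderOf_eq_one_iff.mp hc)
  · left
    have h3' : t ^ 3 = 1 := by
      rw [← pow_one 3, ← zero_add 1, ← hc, pow_orderOf_eq_one]
    exact ⟨_, frame_of_cycle C.toBase hii hBB hBi h3' ht1 tB tD⟩
  · right
    refine ⟨t ^ 3 ^ (c + 1), ?_, ?_, ?_, ?_⟩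
    · apply pow_ne_one_of_lt_orderOf
      · positivity
      · rw [hc]
        exact Nat.pow_lt_pow_right (by norm_num) (by omega)
    · rw [← pow_mul, ← pow_succ, ← hc, pow_orderOf_eq_one]
    · rw [pow_succ 3 c, mul_comm, pow_mul]
      exact (Commute.pow_left c3 (3 ^ c)).eq
    · rw [pow_succ 3 c, mul_comm, pow_mul]
      exact (Commute.pow_left c4 (3 ^ c)).eq

/-- The index-two subgroup of `Q₁₆`. -/
def M₀ (t : ZMod (2 * 4)) : Subgroup (QuaternionGroup 4) where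
  carrier := {q | inM t q}
  mul_mem' := fun ha hb => inM_mul t _ _ ha hb
  one_mem' := inM_one t
  inv_mem' := fun ha => inM_inv t _ ha

theorem Ctx.exists_frame_b (C : Ctx ρ z p) (hG : commutator G = ⊤) (T : Sylow 2 G)
    (f : QuaternionGroup 4 →* G) (hfinj : Function.Injective f) (hfT : ∀ q, f q ∈ (T : Subgroup G))
    (hTf : ∀ g ∈ (T : Subgroup G), ∃ q, f q = g) {i j x : G} {t : ZMod (2 * 4)} (hf : Frame z i j x)
    (hfi : f (a 2) = i) (hfj : f (xa t) = j) : ∃ j' x' : G, Frame z (f (β t)) j' x' := by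
  obtain ⟨b1, b2, b3, b4, b5⟩ := β_facts t
  have hfz : f (a 4) = z := by rw [← hf.ii, ← hfi, ← map_mul, b4]
  set b := f (β t) with hb
  have hb2 : b * b = z := by rw [hb, ← map_mul, b1, hfz]
  let M : Subgroup G := (M₀ t).map f
  have hmem : ∀ q, f q ∈ M ↔ inM t q := fun q => Subgroup.mem_map_iff_mem hfinj
  have hMT : M ≤ (T : Subgroup G) := by
    rintro _ ⟨q, -, rfl⟩
    exact hfT q
  have hrel : M.relIndex (T : Subgroup G) = 2 := by
    rw [Subgroup.relIndex, Subgroup.index_eq_two_iff]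
    refine ⟨⟨f (a 1), hfT _⟩, ?_⟩
    rintro ⟨g, hg⟩
    obtain ⟨q, rfl⟩ := hTf g hg
    rw [Subgroup.mem_subgroupOf, Subgroup.mem_subgroupOf]
    show Xor' (f q * f (a 1) ∈ M) (f q ∈ M)
    rw [← map_mul, hmem, hmem]
    exact inM_xor t q
  have hzM : z ∈ M := by
    rw [← hfz, hmem]
    exact inM_four t
  have hb4 : b ^ 2 ^ 2 = 1 := by
    have : b ^ 2 ^ 2 = (b * b) * (b * b) := by rw [show (2 : ℕ) ^ 2 = 2 + 2 from rfl, pow_add, pow_two]
    rw [this, hb2, C.zz]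
  have hkey : ∀ (m : ℕ) (g : G), 2 ∣ m → m ≠ 0 → g⁻¹ * b ^ m * g ∈ (T : Subgroup G) → g⁻¹ * b ^ m * g ∈ M := by
    rintro m g ⟨m', rfl⟩ - -
    have e1 : b ^ (2 * m') = z ^ m' := by rw [pow_mul, pow_two, hb2]
    have e2 : Commute g⁻¹ (z ^ m') := Commute.pow_right (C.z_central g⁻¹) m'
    rw [e1, e2.eq]
    simpa using M.pow_mem hzM m'
  obtain ⟨g, hg⟩ := Cfsg.Agent.Lib.ThompsonTransfer.exists_conj_mem (no_index_two hG) T M hMT hrel T.not_dvd_index b 2 hb4 hkey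
  obtain ⟨q, hq, hqe⟩ := hg
  have hq2 : q * q = a 4 := by
    apply hfinj
    rw [map_mul, hqe, hfz]
    calc g⁻¹ * b * g * (g⁻¹ * b * g) = g⁻¹ * (b * b) * g := by group
      _ = z := by rw [hb2, (C.z_central g⁻¹)]; group
  have hq3 := inM_elts t q hq hq2
  have hq4 : f q = i ∨ f q = i⁻¹ ∨ f q = j ∨ f q = j⁻¹ ∨ f q = i * j ∨ f q = (i * j)⁻¹ := by
    rcases hq3 with h | h | h | h | h | h <;> rw [h]
    · left; exact hfi
    · right; left; rw [map_inv, hfi]
    · right; right; left; exact hfj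
    · right; right; right; left; rw [map_inv, hfj]
    · right; right; right; right; left; rw [map_mul, hfi, hfj]
    · right; right; right; right; right; rw [map_inv, map_mul, hfi, hfj]
  obtain ⟨j₁, x₁, h₁⟩ := frame_first C.toBase hf hq4
  have h₂ := Frame.conj C.toBase h₁ g
  rw [hqe] at h₂
  have e : g * (g⁻¹ * b * g) * g⁻¹ = b := by group
  rw [e] at h₂
  exact ⟨_, _, h₂⟩

theorem Ctx.no_Q16_aux (C : Ctx ρ z p) (hG : commutator G = ⊤) (hS : SylHyp G) (T : Sylow 2 G)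
    (f : QuaternionGroup 4 →* G) (hfinj : Function.Injective f) (hfT : ∀ q, f q ∈ (T : Subgroup G))
    (hTf : ∀ g ∈ (T : Subgroup G), ∃ q, f q = g) {i j x : G} {t : ZMod (2 * 4)} (hf : Frame z i j x)
    (hfi : f (a 2) = i) (hfj : f (xa t) = j) : False := by
  obtain ⟨j', x', hb⟩ := Ctx.exists_frame_b C hG T f hfinj hfT hTf hf hfi hfj
  obtain ⟨b1, b2, b3, b4, b5⟩ := β_facts t
  have hfz : f (a 4) = z := by rw [← hf.ii, ← hfi, ← map_mul, b4]
  set b := f (β t) with hbdef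
  have hb2 : b * b = z := hb.ii
  have hib : i * b * i⁻¹ = b⁻¹ := by rw [← hfi, hbdef, ← map_mul, ← map_inv, ← map_mul, b2, map_inv]
  have hib' : i * b⁻¹ * i⁻¹ = b := by
    have := hib
    rw [← inv_inj] at this
    simpa [mul_assoc] using this
  set τ := i * j'⁻¹ with hτ
  have hτj' : τ * j' = i := by rw [hτ]; group
  have e1 := frame_ji' C.toBase hb
  have hτb : τ * b = b * τ := by
    calc τ * b = i * (j'⁻¹ * b * j') * j'⁻¹ := by rw [hτ]; group
      _ = (i * b⁻¹ * i⁻¹) * (i * j'⁻¹) := by rw [e1]; group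
      _ = b * τ := by rw [hib']
  have hj'j' : j'⁻¹ * j'⁻¹ = z := by
    rw [← mul_inv_rev, hb.jj, inv_eq_of_mul_eq_one_left C.zz]
  have hinvi : i⁻¹ = z * i := C.inv_of_sq hf.ii
  have hτinv : j' * τ * j'⁻¹ = τ⁻¹ := by
    calc j' * τ * j'⁻¹ = j' * i * (j'⁻¹ * j'⁻¹) := by rw [hτ]; group
      _ = j' * (i * z) := by rw [hj'j']; group
      _ = j' * (z * i) := by rw [C.z_central]
      _ = j' * i⁻¹ := by rw [hinvi]
      _ = τ⁻¹ := by rw [hτ]; group
  have no_frame : ∀ (q : QuaternionGroup 4) (x₂ : G), Frame z i (f q) x₂ → (q * (xa t)⁻¹) ^ 4 = 1 := by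
    intro q x₂ h
    have h1 := Ctx.two_frames' C hf h
    rw [← hfj, ← map_inv, ← map_mul, ← map_pow] at h1
    exact hfinj (h1.trans (map_one f).symm)
  obtain ⟨o1, o2, o3⟩ := odd_facts t
  obtain ⟨Bk, S, π, hker, hP, hbB, hjB, hxB, hτB, -⟩ := C.frame_block hb hτb hτinv
  have K := frame_K4 C.toBase hb Bk π hker hbB hjB hxB
  have hcomm : π ⟨τ, hτB⟩ * π ⟨b, hbB⟩ = π ⟨b, hbB⟩ * π ⟨τ, hτB⟩ := by
    rw [← map_mul, ← map_mul]
    congr 1
    exact Subtype.ext hτb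
  rcases poly_sq hP K hcomm with h | h
  · -- `τ ^ 2 ∈ {1, z}`
    rw [← map_mul, hker] at h
    have h' : τ * τ = 1 ∨ τ * τ = z := h
    exfalso
    have key : τ * τ = 1 → τ = 1 ∨ τ = z := by
      intro e
      by_cases h1 : τ = 1
      · exact Or.inl h1
      · exact Or.inr (C.eq_z h1 e)
    rcases h' with e | e
    · rcases key e with e2 | e2
      · -- `i = j'`
        have e3 : j' = i := by
          rw [e2, one_mul] at hτj'
          exact hτj'
        have h1 := hb.rotate C.toBase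
        have e4 : (b * i)⁻¹ = f (β t * a 2)⁻¹ := by rw [map_inv, map_mul, hfi]
        rw [e3, e4] at h1
        exact o2 (no_frame _ _ h1)
      · -- `i = j'⁻¹`
        have e3 : j'⁻¹ = i := by
          rw [← hτj', e2, C.inv_of_sq hb.jj]
        have e4 : j' = i⁻¹ := by rw [← e3, inv_inv]
        have h1 := (hb.rotate C.toBase).inv_first C.toBase
        have e5 : (b * i⁻¹)⁻¹ = f (β t * (a 2)⁻¹)⁻¹ := by rw [map_inv, map_mul, map_inv, hfi]
        rw [e3, e4, e5] at h1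
        exact o3 (no_frame _ _ h1)
    · -- `τ ^ 2 = z`
      have hcb : Commute τ b := hτb
      have e5 : (τ * b⁻¹) * (τ * b⁻¹) = 1 := by
        calc (τ * b⁻¹) * (τ * b⁻¹) = τ * (b⁻¹ * τ) * b⁻¹ := by group
          _ = τ * (τ * b⁻¹) * b⁻¹ := by rw [hcb.inv_right.eq]
          _ = (τ * τ) * (b * b)⁻¹ := by group
          _ = 1 := by rw [e, hb2, inv_eq_of_mul_eq_one_left C.zz, C.zz]
      have e6 : τ * b⁻¹ = 1 ∨ τ * b⁻¹ = z := by
        by_cases h1 : τ * b⁻¹ = 1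
        · exact Or.inl h1
        · exact Or.inr (C.eq_z h1 e5)
      rcases e6 with e6 | e6
      · -- `τ = b`
        have e7 : τ = b := mul_inv_eq_one.mp e6
        have e8 : b * j' = i := by rw [← e7]; exact hτj'
        have h1 := (hb.rotate2 C.toBase).inv_first C.toBase
        rw [inv_inv, e8] at h1
        exact o1 (no_frame _ _ h1)
      · -- `τ = b⁻¹`
        have e7 : τ = z * b := by rw [← e6]; group
        have e8 : (b * j')⁻¹ = i := by
          rw [C.inv_of_sq (hb.sq_mul C.toBase), ← hτj', e7]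
          group
        have h1 := hb.rotate2 C.toBase
        rw [e8] at h1
        exact o1 (no_frame _ _ h1)
  · -- `τ ^ 2 = b ^ {±1}`
    have h1 : π (⟨τ, hτB⟩ * ⟨τ, hτB⟩ * (⟨b, hbB⟩ : Bk)⁻¹) = 1 := by
      rw [map_mul, map_mul, map_inv, h, mul_inv_cancel]
    rw [hker] at h1
    have h2 : τ * τ * b⁻¹ = 1 ∨ τ * τ * b⁻¹ = z := h1
    obtain ⟨B₀, hB₀, hBe⟩ : ∃ B₀, (B₀ = β t ∨ B₀ = (β t)⁻¹) ∧ f B₀ = τ * τ := by
      rcases h2 with h2 | h2
      · exact ⟨β t, Or.inl rfl, (mul_inv_eq_one.mp h2).symm⟩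
      · refine ⟨(β t)⁻¹, Or.inr rfl, ?_⟩
        rw [map_inv, ← hbdef, C.inv_of_sq hb2, ← h2]
        group
    set B := τ * τ with hB
    obtain ⟨c1, c2, c3, c4, c5, c6, c7⟩ := B_facts t B₀ hB₀
    set w := f (a 1) with hw
    have hwB : w * B * w⁻¹ = i * B := by
      rw [hw, ← hBe, ← hfi, ← map_inv, ← map_mul, ← map_mul, ← map_mul, c1]
    have hiBi : i * B * i = B := by
      rw [← hBe, ← hfi, ← map_mul, ← map_mul, c2]
    have hBiB : B * (i * B) = i := by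
      rw [← hBe, ← hfi, ← map_mul, ← map_mul, c3]
    have hBB : B * B = z := by
      rw [← hBe, ← map_mul, c4, hfz]
    have hBi : B * i * B⁻¹ = i⁻¹ := by
      rw [← hBe, ← hfi, ← map_inv, ← map_mul, ← map_mul, c5, map_inv]
    have hne : B ≠ i := by
      rw [← hBe, ← hfi]
      exact fun e => c6 (hfinj e)
    have hwi : w * i * w⁻¹ = i := by
      rw [mul_inv_eq_iff_eq_mul, hw, ← hfi, ← map_mul, ← map_mul, a_mul_a, a_mul_a, add_comm]
    have hτi : τ * i * τ⁻¹ = B * i := by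
      have e : j' * τ⁻¹ * j'⁻¹ = τ := by
        have := hτinv
        rw [← inv_inj] at this
        simpa [mul_assoc] using this
      calc τ * i * τ⁻¹ = τ * (τ * j') * τ⁻¹ := by rw [hτj']
        _ = τ * τ * (j' * τ⁻¹ * j'⁻¹) * j' := by group
        _ = τ * τ * (τ * j') := by rw [e]; group
        _ = B * i := by rw [hτj']
    have hτB' : τ * B * τ⁻¹ = B := by rw [hB]; group
    set g₁ := w * τ with hg₁
    have h1' : g₁ * i * g₁⁻¹ = B := by
      calc g₁ * i * g₁⁻¹ = w * (τ * i * τ⁻¹) * w⁻¹ := by rw [hg₁]; group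
        _ = (w * B * w⁻¹) * (w * i * w⁻¹) := by rw [hτi]; group
        _ = B := by rw [hwB, hwi, hiBi]
    have h2' : g₁ * B * g₁⁻¹ = i * B := by
      calc g₁ * B * g₁⁻¹ = w * (τ * B * τ⁻¹) * w⁻¹ := by rw [hg₁]; group
        _ = i * B := by rw [hτB', hwB]
    have h3' : g₁ * (i * B) * g₁⁻¹ = i := by
      calc g₁ * (i * B) * g₁⁻¹ = (g₁ * i * g₁⁻¹) * (g₁ * B * g₁⁻¹) := by group
        _ = i := by rw [h1', h2', hBiB]
    rcases Ctx.cycle_step C hf.ii hBB hBi hne h1' h2' h3' with ⟨x₂, hx₂⟩ | ⟨y, hy1, hy3, hyi, hyB⟩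
    · have h3 : Frame z i (f (a 2 * B₀)) x₂ := by
        rw [map_mul, hfi, hBe]; exact hx₂
      exact c7 (no_frame _ _ h3)
    · haveI : Fact (Nat.Prime 3) := ⟨Nat.prime_three⟩
      have hodd : Odd (orderOf y) := by
        rw [orderOf_eq_prime hy3 hy1]; decide
      have hyj := Ctx.F3 C hS hf hyi hodd
      have hcj : Commute y j := by
        show y * j = j * y
        rw [mul_inv_eq_iff_eq_mul] at hyj
        exact hyj.symm
      have hcB : Commute y B := hyB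
      have hcb : Commute y b := by
        rcases hB₀ with h4 | h4
        · rw [hbdef, ← h4, hBe]; exact hcB
        · have : b = B⁻¹ := by
            rw [← hBe, h4, map_inv, inv_inv]
          rw [this]
          exact hcB.inv_right
      have hbw : b = w * j := by
        rw [hbdef, ← hfj, hw, ← map_mul]
        rfl
      have hcw : Commute y w := by
        have : w = b * j⁻¹ := by rw [hbw]; group
        rw [this]
        exact hcb.mul_right hcj.inv_right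
      refine lemmaC hG hS T hy1 hy3 ?_
      intro s hs
      obtain ⟨q, rfl⟩ := hTf s hs
      obtain ⟨k, hk⟩ := all_elts t q
      rcases hk with hk | hk
      · rw [hk, map_pow]
        exact (hcw.pow_right _).symm.eq
      · rw [hk, map_mul, map_pow, hfj]
        exact (hcj.mul_right (hcw.pow_right _)).symm.eq

/-- The Sylow `2`-subgroups of a perfect Frobenius complement are not quaternion of order `16`. -/
theorem Ctx.no_Q16 (C : Ctx ρ z p) (hG : commutator G = ⊤) (hS : SylHyp G) (T : Sylow 2 G)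
    (e : (T : Subgroup G) ≃* QuaternionGroup (2 ^ 2)) {i j x : G} (hf : Frame z i j x)
    (hi : i ∈ (T : Subgroup G)) (hj : j ∈ (T : Subgroup G)) {s t : ZMod (2 * 2 ^ 2)}
    (hes : e ⟨i, hi⟩ = a s) (het : e ⟨j, hj⟩ = xa t) : False := by
  let e' : (T : Subgroup G) ≃* QuaternionGroup 4 := e
  let f : QuaternionGroup 4 →* G := (T : Subgroup G).subtype.comp e'.symm.toMonoidHom
  have hfinj : Function.Injective f := by
    intro u v h
    exact e'.symm.injective (Subtype.ext h)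
  have hfT : ∀ q, f q ∈ (T : Subgroup G) := fun q => (e'.symm q).2
  have hTf : ∀ g ∈ (T : Subgroup G), ∃ q, f q = g := by
    intro g hg
    refine ⟨e' ⟨g, hg⟩, ?_⟩
    simp [f]
  have hfs : f (a s) = i := by
    have : e' ⟨i, hi⟩ = a s := hes
    rw [← this]; simp [f]
  have hft : f (xa t) = j := by
    have : e' ⟨j, hj⟩ = xa t := het
    rw [← this]; simp [f]
  have h1 : f (a s * a s) = f (xa t * xa t) := by
    rw [map_mul, map_mul, hfs, hft, hf.ii, hf.jj]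
  have h2 := hfinj h1
  have h3 : s + s = 4 := by
    rw [a_mul_a, xa_mul_xa, a.injEq] at h2
    rw [h2, add_sub_cancel_right]
    decide
  rcases sq_cases s h3 with rfl | rfl
  · exact Ctx.no_Q16_aux C hG hS T f hfinj hfT hTf hf hfs hft
  · refine Ctx.no_Q16_aux C hG hS T f hfinj hfT hTf (hf.inv_first C.toBase) ?_ hft
    have : (a 2 : QuaternionGroup 4) = (a 6)⁻¹ := by decide
    rw [this, map_inv, hfs]

end main

end Cfsg.Agent.Lib.ZPerfF
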