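import Mathlib
import Cfsg.Agent.Lib.InvolutionFusion
import Cfsg.Agent.Lib.PGrp

set_option autoImplicit false

namespace Cfsg.Agent.Lib.KleinCent

open Finset
open scoped commutatorElement

variable {G : Type*} [Group G]

/-- Centralizer of an element. -/
abbrev Cn (a : G) : Subgroup G := Subgroup.centralizer ({a} : Set G)

theorem mem_Cn {a b : G} : b ∈ Cn a ↔ b * a = a * b := Subgroup.mem_centralizer_singleton_iff

theorem mem_Cn_conj {a b g : G} : b ∈ Cn (g * a * g⁻¹) ↔ g⁻¹ * b * g ∈ Cn a := by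
  rw [mem_Cn, mem_Cn]
  constructor
  · intro h
    have : g⁻¹ * (b * (g * a * g⁻¹)) * g = g⁻¹ * ((g * a * g⁻¹) * b) * g := by rw [h]
    calc g⁻¹ * b * g * a = g⁻¹ * (b * (g * a * g⁻¹)) * g := by group
      _ = g⁻¹ * ((g * a * g⁻¹) * b) * g := this
      _ = a * (g⁻¹ * b * g) := by group
  · intro h
    have : g * (g⁻¹ * b * g * a) * g⁻¹ = g * (a * (g⁻¹ * b * g)) * g⁻¹ := by rw [h]
    calc b * (g * a * g⁻¹) = g * (g⁻¹ * b * g * a) * g⁻¹ := by group
      _ = g * (a * (g⁻¹ * b * g)) * g⁻¹ := this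
      _ = g * a * g⁻¹ * b := by group

theorem card_Cn_conj (a g : G) : Nat.card (Cn (g * a * g⁻¹)) = Nat.card (Cn a) := by
  refine Nat.card_congr ⟨fun b => ⟨g⁻¹ * b * g, mem_Cn_conj.mp b.2⟩,
    fun b => ⟨g * b * g⁻¹, mem_Cn_conj.mpr (by
      have : g⁻¹ * (g * (b : G) * g⁻¹) * g = b := by group
      rw [this]; exact b.2)⟩, ?_, ?_⟩
  · intro b
    apply Subtype.ext
    change g * (g⁻¹ * (b : G) * g) * g⁻¹ = b
    group
  · intro b
    apply Subtype.ext
    change g⁻¹ * (g * (b : G) * g⁻¹) * g = b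
    group

theorem comm_of_exp_two {K : Subgroup G} (h : ∀ k ∈ K, k ^ 2 = 1) {a b : G} (ha : a ∈ K) (hb : b ∈ K) :
    a * b = b * a := by
  have h1 := h a ha
  have h2 := h b hb
  have h3 := h (a * b) (K.mul_mem ha hb)
  rw [pow_two] at h1 h2 h3
  have e1 : a⁻¹ = a := by rw [inv_eq_iff_mul_eq_one]; exact h1
  have e2 : b⁻¹ = b := by rw [inv_eq_iff_mul_eq_one]; exact h2
  have e3 : (a * b)⁻¹ = a * b := by rw [inv_eq_iff_mul_eq_one]; exact h3
  rw [mul_inv_rev, e1, e2] at e3
  exact e3.symm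

/-- Index bound: `H ≤ L`, `K ≤ L` gives `|H| |K| ≤ |L| |H ∩ K|`. -/
theorem card_mul_card_le [Finite G] {H K L : Subgroup G} (hH : H ≤ L) (hK : K ≤ L) :
    Nat.card H * Nat.card K ≤ Nat.card L * Nat.card (H ⊓ K : Subgroup G) := by
  classical
  have h1 : (H ⊓ K).relIndex H = K.relIndex H := by
    rw [inf_comm]; exact Subgroup.inf_relIndex_right K H
  have hne : K.relIndex L ≠ 0 := Subgroup.index_ne_zero_of_finite
  have h2 : K.relIndex H ≤ K.relIndex L := Subgroup.relIndex_le_of_le_right hH hne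
  have h3 : Nat.card (H ⊓ K : Subgroup G) * (H ⊓ K).relIndex H = Nat.card H := by
    have := Subgroup.relIndex_mul_relIndex ⊥ (H ⊓ K) H bot_le inf_le_left
    simpa [Subgroup.relIndex_bot_left] using this
  have h4 : Nat.card K * K.relIndex L = Nat.card L := by
    have := Subgroup.relIndex_mul_relIndex ⊥ K L bot_le hK
    simpa [Subgroup.relIndex_bot_left] using this
  rw [← h3, ← h4, h1]
  calc Nat.card (H ⊓ K : Subgroup G) * K.relIndex H * Nat.card K
      ≤ Nat.card (H ⊓ K : Subgroup G) * K.relIndex L * Nat.card K := by gcongr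
    _ = Nat.card K * K.relIndex L * Nat.card (H ⊓ K : Subgroup G) := by ring

theorem V_cases' [Finite G] {x z v : G} (hxs : x * x = 1) (hx1 : x ≠ 1) (hC4 : Nat.card (Cn x) = 4)
    (hzV : z ∈ Cn x) (hz1 : z ≠ 1) (hzx : z ≠ x) (hv : v ∈ Cn x) :
    v = 1 ∨ v = x ∨ v = z ∨ v = x * z := by
  classical
  haveI := Fintype.ofFinite G
  by_contra hne
  push Not at hne
  obtain ⟨h1, h2, h3, h4⟩ := hne
  have hxzx : x * z ≠ x := by
    intro e
    apply hz1
    exact mul_left_cancel (e.trans (mul_one x).symm)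
  have hxzz : x * z ≠ z := by
    intro e
    apply hx1
    exact mul_right_cancel (e.trans (one_mul z).symm)
  have hxz1 : x * z ≠ 1 := by
    intro e
    apply hzx
    exact mul_left_cancel (e.trans hxs.symm)
  let s : Finset G := {1, x, z, x * z, v}
  have hs : s.card = 5 := by
    simp only [s]
    rw [Finset.card_insert_of_notMem, Finset.card_insert_of_notMem, Finset.card_insert_of_notMem,
      Finset.card_insert_of_notMem, Finset.card_singleton]
    · simp only [Finset.mem_singleton]; exact h4.symm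
    · simp only [Finset.mem_insert, Finset.mem_singleton, not_or]
      exact ⟨hxzz.symm, h3.symm⟩
    · simp only [Finset.mem_insert, Finset.mem_singleton, not_or]
      exact ⟨hzx.symm, hxzx.symm, h2.symm⟩
    · simp only [Finset.mem_insert, Finset.mem_singleton, not_or]
      exact ⟨hx1.symm, hz1.symm, hxz1.symm, h1.symm⟩
  have hsub : s ⊆ univ.filter (fun a => a ∈ Cn x) := by
    intro a ha
    simp only [s, Finset.mem_insert, Finset.mem_singleton] at ha
    rw [Finset.mem_filter]
    refine ⟨Finset.mem_univ _, ?_⟩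
    rcases ha with rfl | rfl | rfl | rfl | rfl
    · exact Subgroup.one_mem _
    · exact mem_Cn.mpr rfl
    · exact hzV
    · exact Subgroup.mul_mem _ (mem_Cn.mpr rfl) hzV
    · exact hv
  have hc : (univ.filter (fun a => a ∈ Cn x)).card = 4 := by
    rw [← hC4, Nat.card_eq_fintype_card, Fintype.card_subtype]
  have := Finset.card_le_card hsub
  omega

/-- Data for the situation `T > C(x)`. -/
structure PA [Finite G] (x z : G) (T : Sylow 2 G) : Prop where
  hx : orderOf x = 2
  hC4 : Nat.card (Cn x) = 4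
  hCe : ∀ c ∈ Cn x, c ^ 2 = 1
  hVT : Cn x ≤ (T : Subgroup G)
  hcard : 4 < Nat.card (T : Subgroup G)
  hzT : z ∈ (T : Subgroup G)
  hzc : ∀ t ∈ (T : Subgroup G), t * z = z * t
  hzV : z ∈ Cn x
  hz1 : z ≠ 1
  hzx : z ≠ x
  hxz : ∃ g ∈ (T : Subgroup G), g * x * g⁻¹ = x * z

namespace PA

variable [Finite G] {x z : G} {T : Sylow 2 G} (h : PA x z T)

include h

theorem x_sq : x * x = 1 := by
  have := pow_orderOf_eq_one x
  rw [h.hx, pow_two] at this
  exact this

theorem z_sq : z * z = 1 := by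
  have := h.hCe z h.hzV
  rwa [pow_two] at this

theorem x_ne_one : x ≠ 1 := by
  intro h1
  have := h.hx
  rw [h1, orderOf_one] at this
  omega

theorem x_mem : x ∈ Cn x := mem_Cn.mpr rfl

theorem xz_comm : x * z = z * x := (mem_Cn.mp h.hzV).symm

theorem V_cases {v : G} (hv : v ∈ Cn x) : v = 1 ∨ v = x ∨ v = z ∨ v = x * z :=
  V_cases' h.x_sq h.x_ne_one h.hC4 h.hzV h.hz1 h.hzx hv

theorem V_comm {a b : G} (ha : a ∈ Cn x) (hb : b ∈ Cn x) : a * b = b * a :=
  comm_of_exp_two h.hCe ha hb

theorem z_not_conj : ¬ IsConj x z := by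
  intro hc
  obtain ⟨g, hg⟩ := isConj_iff.mp hc
  have h1 : (T : Subgroup G) ≤ Cn z := fun t ht => mem_Cn.mpr (h.hzc t ht)
  have h2 : Nat.card (T : Subgroup G) ≤ Nat.card (Cn z) := Subgroup.card_le_of_le h1
  rw [← hg, card_Cn_conj, h.hC4] at h2
  have := h.hcard
  omega

theorem xz_conj : IsConj x (x * z) := by
  obtain ⟨g, _, hg⟩ := h.hxz
  exact isConj_iff.mpr ⟨g, hg⟩

/-- Elements commuting with a conjugate of `x`, not conjugate to `x`. -/
theorem K1 {g b : G} (hb : b ∈ Cn (g * x * g⁻¹)) (hb1 : b ≠ 1) (hbD : ¬ IsConj x b) :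
    b = g * z * g⁻¹ := by
  have hv := mem_Cn_conj.mp hb
  rcases h.V_cases hv with e | e | e | e
  · exfalso; apply hb1
    have : b = g * (g⁻¹ * b * g) * g⁻¹ := by group
    rw [this, e]; group
  · exfalso; apply hbD
    refine isConj_iff.mpr ⟨g, ?_⟩
    rw [← e]; group
  · rw [← e]; group
  · exfalso; apply hbD
    have h1 := h.xz_conj
    obtain ⟨c, hc⟩ := isConj_iff.mp h1
    refine isConj_iff.mpr ⟨g * c, ?_⟩
    have : b = g * (g⁻¹ * b * g) * g⁻¹ := by group
    rw [this, e, ← hc]; group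

/-- Conjugates of `z` commuting with a conjugate of `x`. -/
theorem F {g w : G} (hw : IsConj z w) (hc : w ∈ Cn (g * x * g⁻¹)) : w = g * z * g⁻¹ := by
  apply h.K1 hc
  · intro e
    rw [e] at hw
    exact h.hz1 (isConj_one_left.mp hw)
  · intro e
    exact h.z_not_conj (e.trans hw.symm)

theorem sq_of_conj {a : G} (ha : IsConj x a) : a * a = 1 := by
  obtain ⟨g, rfl⟩ := isConj_iff.mp ha
  have := h.x_sq
  calc g * x * g⁻¹ * (g * x * g⁻¹) = g * (x * x) * g⁻¹ := by group
    _ = 1 := by rw [this]; group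

theorem sq_of_conj_z {a : G} (ha : IsConj z a) : a * a = 1 := by
  obtain ⟨g, rfl⟩ := isConj_iff.mp ha
  have := h.z_sq
  calc g * z * g⁻¹ * (g * z * g⁻¹) = g * (z * z) * g⁻¹ := by group
    _ = 1 := by rw [this]; group

theorem inv_of_conj {a : G} (ha : IsConj x a) : a⁻¹ = a :=
  inv_eq_of_mul_eq_one_left (h.sq_of_conj ha)

/-- `x` commutes with no other conjugate of `z`. -/
theorem x_not_mem_Cn {w : G} (hw : IsConj z w) (hwz : w ≠ z) : x ∉ Cn w := by
  intro hx
  apply hwz
  have h1 : w ∈ Cn (1 * x * (1 : G)⁻¹) := by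
    simp only [one_mul, inv_one, mul_one]
    exact mem_Cn.mpr (mem_Cn.mp hx).symm
  have := h.F hw h1
  simpa using this

/-- `D_z`, counted. -/
theorem card_Dz [DecidablePred fun a : G => IsConj x a ∧ a * z = z * a] :
    4 * Nat.card {a : G // IsConj x a ∧ a * z = z * a} = Nat.card (Cn z) := by
  have hxL : x ∈ Cn z := mem_Cn.mpr h.xz_comm
  have h1 := Cfsg.Agent.Lib.InvolutionFusion.card_conj_mul_card_centralizer (⟨x, hxL⟩ : Cn z)
  have h2 : Nat.card (Subgroup.centralizer ({(⟨x, hxL⟩ : Cn z)} : Set (Cn z))) = 4 := by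
    rw [← h.hC4]
    refine Nat.card_congr ⟨fun c => ⟨c.1.1, ?_⟩, fun c => ⟨⟨c.1, ?_⟩, ?_⟩, ?_, ?_⟩
    · have := Subgroup.mem_centralizer_singleton_iff.mp c.2
      exact mem_Cn.mpr (congrArg Subtype.val this)
    · exact mem_Cn.mpr (h.V_comm c.2 h.hzV)
    · apply Subgroup.mem_centralizer_singleton_iff.mpr
      apply Subtype.ext
      exact mem_Cn.mp c.2
    · intro c; rfl
    · intro c; rfl
  rw [h2] at h1
  rw [mul_comm, ← h1]
  congr 1
  apply Nat.card_congr
  refine ⟨fun a => ⟨⟨a.1, mem_Cn.mpr a.2.2⟩, ?_⟩, fun u => ⟨u.1.1, ?_, mem_Cn.mp u.1.2⟩, ?_, ?_⟩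
  · have ha := a.2.1
    obtain ⟨g, hg⟩ := isConj_iff.mp ha
    have hz : z ∈ Cn (g * x * g⁻¹) := by
      rw [hg]; exact mem_Cn.mpr a.2.2.symm
    have h3 := h.F (IsConj.refl z) hz
    have hgL : g ∈ Cn z := by
      rw [mem_Cn]
      calc g * z = g * z * g⁻¹ * g := by group
        _ = z * g := by rw [← h3]
    refine isConj_iff.mpr ⟨⟨g, hgL⟩, ?_⟩
    apply Subtype.ext
    exact hg
  · obtain ⟨c, hc⟩ := isConj_iff.mp u.2
    exact isConj_iff.mpr ⟨c.1, congrArg Subtype.val hc⟩
  · intro a; rfl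
  · intro a; rfl

/-- The conjugates of `x` moving `z` to `w`, multiplied by one of them, lie in `C(z) ∩ C(w)`. -/
theorem mul_mem_B {w a₀ a : G} (ha₀ : IsConj x a₀) (ha : IsConj x a) (h0 : a₀ * z * a₀⁻¹ = w)
    (h1 : a * z * a⁻¹ = w) : a₀ * a ∈ Cn z ⊓ Cn w := by
  have e0 := h.inv_of_conj ha₀
  have e1 := h.inv_of_conj ha
  have s0 := h.sq_of_conj ha₀
  have s1 := h.sq_of_conj ha
  rw [e0] at h0
  rw [e1] at h1
  refine ⟨mem_Cn.mpr ?_, mem_Cn.mpr ?_⟩
  · -- a₀ a z = z a₀ a
    calc a₀ * a * z = a₀ * (a * z * a) * a := by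
          rw [show a₀ * (a * z * a) * a = a₀ * a * z * (a * a) by group, s1, mul_one]
      _ = a₀ * w * a := by rw [h1]
      _ = a₀ * (a₀ * z * a₀) * a := by rw [h0]
      _ = (a₀ * a₀) * z * a₀ * a := by group
      _ = z * (a₀ * a) := by rw [s0]; group
  · calc a₀ * a * w = a₀ * a * (a * z * a) := by rw [h1]
      _ = a₀ * (a * a) * z * a := by group
      _ = a₀ * z * a := by rw [s1]; group
      _ = (a₀ * z * a₀) * (a₀ * a) := by
          rw [show (a₀ * z * a₀) * (a₀ * a) = a₀ * z * (a₀ * a₀) * a by group, s0, mul_one]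
      _ = w * (a₀ * a) := by rw [h0]

omit h in
/-- The conjugates of `x` moving `z` to `w`. -/
abbrev Nw (x z w : G) : Type _ := {a : G // IsConj x a ∧ a * z * a⁻¹ = w}

/-- The first bound. -/
theorem card_Nw_le (w : G) : Nat.card (Nw x z w) ≤ Nat.card (Cn z ⊓ Cn w : Subgroup G) := by
  classical
  by_cases he : IsEmpty (Nw x z w)
  · rw [Nat.card_of_isEmpty]; exact Nat.zero_le _
  rw [not_isEmpty_iff] at he
  obtain ⟨⟨a₀, ha₀, h0⟩⟩ := he
  refine Nat.card_le_card_of_injective
    (fun a : Nw x z w => (⟨a₀ * a.1, h.mul_mem_B ha₀ a.2.1 h0 a.2.2⟩ : (Cn z ⊓ Cn w : Subgroup G))) ?_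
  intro a b hab
  have : a₀ * a.1 = a₀ * b.1 := congrArg Subtype.val hab
  exact Subtype.ext (mul_left_cancel this)

/-- The second bound. -/
theorem card_Nw_le' {w : G} (hw : w ≠ z) (hc : z ∈ Cn w) :
    2 * Nat.card (Nw x z w) ≤ Nat.card (Cn z ⊓ Cn w : Subgroup G) := by
  classical
  by_cases he : IsEmpty (Nw x z w)
  · rw [Nat.card_of_isEmpty]; simp
  rw [not_isEmpty_iff] at he
  obtain ⟨⟨a₀, ha₀, h0⟩⟩ := he
  have hzB : z ∈ Cn z ⊓ Cn w := ⟨mem_Cn.mpr rfl, hc⟩
  let B : Subgroup G := Cn z ⊓ Cn w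
  let f : Bool × Nw x z w → B := fun p =>
    if p.1 then ⟨a₀ * p.2.1, h.mul_mem_B ha₀ p.2.2.1 h0 p.2.2.2⟩
    else ⟨a₀ * p.2.1 * z, B.mul_mem (h.mul_mem_B ha₀ p.2.2.1 h0 p.2.2.2) hzB⟩
  have hf : Function.Injective f := by
    have key : ∀ a b : Nw x z w, a₀ * a.1 ≠ a₀ * b.1 * z := by
      intro a b e
      have e1 : a.1 = b.1 * z := by
        have : a₀ * a.1 = a₀ * (b.1 * z) := by rw [e, mul_assoc]
        exact mul_left_cancel this
      apply hw
      have s := h.sq_of_conj a.2.1
      rw [e1] at s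
      have hb := b.2.2
      rw [h.inv_of_conj b.2.1] at hb
      have hz2 := h.z_sq
      -- b z b z = 1 so b z b = z
      have e2 : b.1 * z * b.1 = z := by
        calc b.1 * z * b.1 = b.1 * z * b.1 * (z * z) := by rw [hz2, mul_one]
          _ = (b.1 * z * (b.1 * z)) * z := by group
          _ = z := by rw [s, one_mul]
      rw [← hb, e2]
    rintro ⟨p, a⟩ ⟨q, b⟩ e
    cases p <;> cases q
    · simp only [f, Bool.false_eq_true, if_false] at e
      have e' : a₀ * a.1 * z = a₀ * b.1 * z := congrArg Subtype.val e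
      have := mul_left_cancel (mul_right_cancel e')
      congr 1
      exact Subtype.ext this
    · simp only [f, Bool.false_eq_true, if_false, if_true] at e
      exact absurd (congrArg Subtype.val e).symm (key b a)
    · simp only [f, Bool.false_eq_true, if_false, if_true] at e
      exact absurd (congrArg Subtype.val e) (key a b)
    · simp only [f, if_true] at e
      have e' : a₀ * a.1 = a₀ * b.1 := congrArg Subtype.val e
      have := mul_left_cancel e'
      congr 1
      exact Subtype.ext this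
  have := Nat.card_le_card_of_injective f hf
  rw [Nat.card_prod] at this
  have hb : Nat.card Bool = 2 := by simp
  rw [hb] at this
  exact this

/-- `w ∈ T` when `C_T(w)` has index two in `T`. -/
theorem mem_T_of_index_two {w : G} (hw : IsConj z w) (hwz : w ≠ z)
    (hA : Nat.card (T : Subgroup G) = 2 * Nat.card ((T : Subgroup G) ⊓ Cn w : Subgroup G)) :
    w ∈ (T : Subgroup G) := by
  classical
  by_contra hwT
  set A : Subgroup G := (T : Subgroup G) ⊓ Cn w with hAdef
  have hwsq := h.sq_of_conj_z hw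
  have hAw : ∀ a ∈ A, a * w = w * a := fun a ha => mem_Cn.mp ha.2
  have hwA : w ∉ A := fun hh => hwT hh.1
  -- the group A ∪ A w
  let Q : Subgroup G :=
    { carrier := {q | q ∈ A ∨ q * w ∈ A}
      one_mem' := Or.inl A.one_mem
      mul_mem' := by
        rintro a b (ha | ha) (hb | hb)
        · exact Or.inl (A.mul_mem ha hb)
        · right
          rw [mul_assoc]; exact A.mul_mem ha hb
        · right
          have : a * b * w = a * w * b := by
            rw [mul_assoc, mul_assoc, hAw b hb]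
          rw [this]; exact A.mul_mem ha hb
        · left
          have hbw : b * w = w * b := by
            have h1 := hAw _ hb
            have h2 : b * w * w = w * b * w := by rw [mul_assoc w]; exact h1
            exact mul_right_cancel h2
          have : a * b = a * w * (b * w) := by
            calc a * b = a * (w * w) * b := by rw [hwsq, mul_one]
              _ = a * w * (w * b) := by group
              _ = a * w * (b * w) := by rw [hbw]
          rw [this]; exact A.mul_mem ha hb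
      inv_mem' := by
        rintro a (ha | ha)
        · exact Or.inl (A.inv_mem ha)
        · right
          have haw : a * w = w * a := by
            have h1 := hAw _ ha
            have h2 : a * w * w = w * a * w := by rw [mul_assoc w]; exact h1
            exact mul_right_cancel h2
          have hw' : w⁻¹ = w := inv_eq_of_mul_eq_one_left hwsq
          have : a⁻¹ * w = (a * w)⁻¹ := by
            rw [mul_inv_rev, hw']
            calc a⁻¹ * w = a⁻¹ * (w * a) * a⁻¹ := by group
              _ = a⁻¹ * (a * w) * a⁻¹ := by rw [haw]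
              _ = w * a⁻¹ := by group
          rw [this]; exact A.inv_mem ha }
  have hQcases : ∀ {q : G}, q ∈ Q → q ∈ A ∨ q * w ∈ A := fun hq => hq
  have hAQ : A ≤ Q := fun a ha => Or.inl ha
  have hwQ : w ∈ Q := Or.inr (by rw [hwsq]; exact A.one_mem)
  have hQC : ∀ q ∈ Q, q * w = w * q := by
    rintro q (hq | hq)
    · exact hAw q hq
    · have h1 := hAw _ hq
      have h2 : q * w * w = w * q * w := by rw [mul_assoc w]; exact h1
      exact mul_right_cancel h2
  -- Q is a 2-group
  have hA2 : IsPGroup 2 A := T.isPGroup'.to_le inf_le_left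
  have hQ2 : IsPGroup 2 Q := by
    intro q
    have hsq : (q.1) ^ 2 ∈ A := by
      rcases hQcases q.2 with hq | hq
      · exact A.pow_mem hq 2
      · have e : q.1 ^ 2 = (q.1 * w) * (q.1 * w) := by
          rw [pow_two]
          calc q.1 * q.1 = q.1 * q.1 * (w * w) := by rw [hwsq, mul_one]
            _ = q.1 * (q.1 * w) * w := by group
            _ = q.1 * (w * q.1) * w := by rw [hQC q.1 q.2]
            _ = _ := by group
        rw [e]; exact A.mul_mem hq hq
    obtain ⟨k, hk⟩ := hA2 ⟨_, hsq⟩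
    refine ⟨k + 1, Subtype.ext ?_⟩
    have hk' : (q.1 ^ 2) ^ 2 ^ k = 1 := congrArg Subtype.val hk
    change q.1 ^ 2 ^ (k + 1) = 1
    rw [pow_succ', pow_mul]
    exact hk'
  -- its order
  have hcardQ : Nat.card (T : Subgroup G) ≤ Nat.card Q := by
    rw [hA]
    obtain ⟨i, hi⟩ := Subgroup.card_dvd_of_le hAQ
    have hi1 : i ≠ 1 := by
      rintro rfl
      rw [mul_one] at hi
      have := Subgroup.eq_of_le_of_card_ge hAQ hi.le
      exact hwA (this ▸ hwQ)
    have hi0 : i ≠ 0 := by
      rintro rfl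
      rw [mul_zero] at hi
      exact (Nat.card_pos (α := Q)).ne' hi
    rw [hi, mul_comm]
    exact Nat.mul_le_mul_left _ (by omega)
  -- Q is a Sylow subgroup
  obtain ⟨S, hS⟩ := hQ2.exists_le_sylow
  have hcardS : Nat.card S = Nat.card (T : Subgroup G) := by
    exact Nat.card_congr (S.equiv T).toEquiv
  have hQS : Q = S := Subgroup.eq_of_le_of_card_ge hS (by rw [hcardS]; exact hcardQ)
  -- a conjugate of x in Q
  obtain ⟨g, hg⟩ := MulAction.exists_smul_eq G T S
  have hxT : x ∈ (T : Subgroup G) := h.hVT h.x_mem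
  have hx'Q : g * x * g⁻¹ ∈ Q := by
    rw [hQS, ← hg]
    exact Subgroup.mem_map_of_mem _ hxT
  set x' := g * x * g⁻¹ with hx'
  have hx'C : w ∈ Cn x' := mem_Cn.mpr (hQC x' hx'Q).symm
  have hwg : w = g * z * g⁻¹ := h.F hw hx'C
  have hDx' : IsConj x x' := isConj_iff.mpr ⟨g, rfl⟩
  have hwD : ¬ IsConj x w := fun hh => h.z_not_conj (hh.trans hw.symm)
  -- an element α ∈ A
  have hx'sq : x' * x' = 1 := h.sq_of_conj hDx'
  obtain ⟨α, hαA, hαcases⟩ : ∃ α ∈ A, ∀ β ∈ A, β * α = α * β → β = 1 ∨ β = α := by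
    have hcomm : ∀ β ∈ A, β * x' = x' * β → β = 1 ∨ β = x' ∨ β = x' * w := by
      intro β hβ hc
      have hv : g⁻¹ * β * g ∈ Cn x := mem_Cn_conj.mp (mem_Cn.mpr hc)
      rcases h.V_cases hv with e | e | e | e
      · left
        have : β = g * (g⁻¹ * β * g) * g⁻¹ := by group
        rw [this, e]; group
      · right; left
        have : β = g * (g⁻¹ * β * g) * g⁻¹ := by group
        rw [this, e]
      · exfalso
        apply hwA
        have : β = g * (g⁻¹ * β * g) * g⁻¹ := by group
        rw [e, ← hwg] at this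
        rw [← this]; exact hβ
      · right; right
        have : β = g * (g⁻¹ * β * g) * g⁻¹ := by group
        rw [this, e, hx', hwg]; group
    rcases hQcases hx'Q with hα | hα
    · refine ⟨x', hα, fun β hβ hc => ?_⟩
      rcases hcomm β hβ hc with e | e | e
      · exact Or.inl e
      · exact Or.inr e
      · exfalso
        apply hwA
        have : w = x'⁻¹ * β := by rw [e]; group
        rw [this]
        exact A.mul_mem (A.inv_mem hα) hβ
    · refine ⟨x' * w, hα, fun β hβ hc => ?_⟩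
      have hβw := hAw β hβ
      have hc' : β * x' = x' * β := by
        have : β * x' * w = x' * β * w := by
          calc β * x' * w = β * (x' * w) := by group
            _ = (x' * w) * β := hc
            _ = x' * (w * β) := by group
            _ = x' * (β * w) := by rw [hβw]
            _ = x' * β * w := by group
        exact mul_right_cancel this
      rcases hcomm β hβ hc' with e | e | e
      · exact Or.inl e
      · exfalso
        apply hwA
        have : w = β⁻¹ * (x' * w) := by rw [e]; group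
        rw [this]
        exact A.mul_mem (A.inv_mem hβ) hα
      · exact Or.inr e
  -- contradiction from the centre of A
  have hcardA : 2 < Nat.card A := by
    have := h.hcard
    omega
  haveI : Nontrivial A := by
    rw [← Finite.one_lt_card_iff_nontrivial]; omega
  haveI hcn : Nontrivial (Subgroup.center A) := hA2.center_nontrivial
  obtain ⟨c, hc1⟩ := exists_ne (1 : Subgroup.center A)
  have hc2 : (c.1 : G) ≠ 1 := fun e => hc1 (Subtype.ext (Subtype.ext e))
  have hcα : ∀ β ∈ A, (c.1 : G) * β = β * c.1 := by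
    intro β hβ
    have := Subgroup.mem_center_iff.mp c.2 ⟨β, hβ⟩
    exact (congrArg Subtype.val this).symm
  have hcα' := hαcases c.1 c.1.2 (hcα α hαA)
  have hcαe : (c.1 : G) = α := hcα'.resolve_left hc2
  have hall : ∀ β ∈ A, β = 1 ∨ β = α := fun β hβ =>
    hαcases β hβ (by rw [← hcαe]; exact (hcα β hβ).symm)
  have hle : Nat.card A ≤ 2 := by
    haveI := Fintype.ofFinite G
    have hss : (univ.filter (fun a : G => a ∈ A)) ⊆ ({1, α} : Finset G) := by
      intro a ha
      have := hall a (Finset.mem_filter.mp ha).2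
      simpa using this
    have h1 := Finset.card_le_card hss
    have h2 : (univ.filter (fun a : G => a ∈ A)).card = Nat.card A := by
      rw [Nat.card_eq_fintype_card, Fintype.card_subtype]
    have h3 : ({1, α} : Finset G).card ≤ 2 := Finset.card_le_two
    omega
  omega

/-- The key bound in the non-commuting case. -/
theorem four_mul_B_le {w : G} (hw : IsConj z w) (hwz : w ≠ z) (hc : z ∉ Cn w) :
    4 * Nat.card (Cn z ⊓ Cn w : Subgroup G) ≤ Nat.card (Cn z) := by
  have hTL : (T : Subgroup G) ≤ Cn z := fun t ht => mem_Cn.mpr (h.hzc t ht)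
  set A : Subgroup G := (T : Subgroup G) ⊓ Cn w with hA
  have hAB : (T : Subgroup G) ⊓ (Cn z ⊓ Cn w) = A := by
    rw [hA, ← inf_assoc, inf_eq_left.mpr hTL]
  have h1 := card_mul_card_le hTL (inf_le_left : Cn z ⊓ Cn w ≤ Cn z)
  rw [hAB] at h1
  have hAT : A ≤ (T : Subgroup G) := inf_le_left
  obtain ⟨i, hi⟩ := Subgroup.card_dvd_of_le hAT
  have hxA : x ∉ A := fun hh => h.x_not_mem_Cn hw hwz hh.2
  have hxT : x ∈ (T : Subgroup G) := h.hVT h.x_mem
  have hi1 : i ≠ 1 := by
    rintro rfl
    rw [mul_one] at hi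
    have := Subgroup.eq_of_le_of_card_ge hAT hi.le
    exact hxA (this ▸ hxT)
  have hi2 : i ≠ 2 := by
    rintro rfl
    have hwT := h.mem_T_of_index_two hw hwz (by rw [hi, mul_comm])
    exact hc (mem_Cn.mpr (h.hzc w hwT).symm)
  have hi4 : 4 ≤ i := by
    obtain ⟨k, hk⟩ := IsPGroup.iff_card.mp T.isPGroup'
    have hid : i ∣ 2 ^ k := by
      rw [← hk, hi]; exact Dvd.intro_left _ rfl
    obtain ⟨j, _, rfl⟩ := (Nat.dvd_prime_pow Nat.prime_two).mp hid
    rcases j with _ | _ | j
    · simp at hi1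
    · simp at hi2
    · calc 4 = 2 ^ 2 := by norm_num
        _ ≤ 2 ^ (j + 1 + 1) := Nat.pow_le_pow_right (by norm_num) (by omega)
  have hApos : 0 < Nat.card A := Nat.card_pos
  rw [hi] at h1
  have h2 : Nat.card A * (4 * Nat.card (Cn z ⊓ Cn w : Subgroup G)) ≤ Nat.card A * Nat.card (Cn z) := by
    calc Nat.card A * (4 * Nat.card (Cn z ⊓ Cn w : Subgroup G))
        = Nat.card A * 4 * Nat.card (Cn z ⊓ Cn w : Subgroup G) := by ring
      _ ≤ Nat.card A * i * Nat.card (Cn z ⊓ Cn w : Subgroup G) := by gcongr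
      _ ≤ Nat.card (Cn z) * Nat.card A := h1
      _ = _ := by ring
  exact Nat.le_of_mul_le_mul_left h2 hApos

theorem two_mul_B_le {w : G} (hw : IsConj z w) (hwz : w ≠ z) :
    2 * Nat.card (Cn z ⊓ Cn w : Subgroup G) ≤ Nat.card (Cn z) := by
  have hBL : (Cn z ⊓ Cn w : Subgroup G) ≤ Cn z := inf_le_left
  obtain ⟨i, hi⟩ := Subgroup.card_dvd_of_le hBL
  have hx : x ∈ Cn z := mem_Cn.mpr h.xz_comm
  have hxB : x ∉ (Cn z ⊓ Cn w : Subgroup G) := fun hh => h.x_not_mem_Cn hw hwz hh.2
  have hi1 : i ≠ 1 := by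
    rintro rfl
    rw [mul_one] at hi
    have := Subgroup.eq_of_le_of_card_ge hBL hi.le
    exact hxB (by rw [this]; exact hx)
  have hi0 : i ≠ 0 := by
    rintro rfl
    rw [mul_zero] at hi
    exact (Nat.card_pos (α := Cn z)).ne' hi
  rw [hi, mul_comm]
  exact Nat.mul_le_mul_left _ (by omega)

theorem four_mul_Nw_le {w : G} (hw : IsConj z w) (hwz : w ≠ z) :
    4 * Nat.card (Nw x z w) ≤ Nat.card (Cn z) := by
  by_cases hc : z ∈ Cn w
  · have h1 := h.card_Nw_le' hwz hc
    have h2 := h.two_mul_B_le hw hwz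
    omega
  · have h1 := h.card_Nw_le w
    have h2 := h.four_mul_B_le hw hwz hc
    omega

theorem card_Nw_self : 4 * Nat.card (Nw x z z) = Nat.card (Cn z) := by
  classical
  rw [← h.card_Dz]
  congr 1
  apply Nat.card_congr
  refine Equiv.subtypeEquivRight fun a => ?_
  constructor
  · rintro ⟨h1, h2⟩
    refine ⟨h1, ?_⟩
    calc a * z = a * z * a⁻¹ * a := by group
      _ = z * a := by rw [h2]
  · rintro ⟨h1, h2⟩
    refine ⟨h1, ?_⟩
    rw [h2]; group

/-- All the fibres have the same size. -/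
theorem key_eq {w : G} (hw : IsConj z w) : 4 * Nat.card (Nw x z w) = Nat.card (Cn z) := by
  classical
  by_cases hwz : w = z
  · subst hwz; exact h.card_Nw_self
  haveI : Fintype {w : G // IsConj z w} := Fintype.ofFinite _
  let f : {a : G // IsConj x a} → {w : G // IsConj z w} := fun a => ⟨a.1 * z * a.1⁻¹, by
    exact isConj_iff.mpr ⟨a.1, rfl⟩⟩
  have hsum : Nat.card {a : G // IsConj x a} = ∑ v : {w : G // IsConj z w}, Nat.card (Nw x z v.1) := by
    rw [← Nat.card_congr (Equiv.sigmaFiberEquiv f), Nat.card_sigma]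
    refine Finset.sum_congr rfl fun v _ => ?_
    apply Nat.card_congr
    refine ⟨fun a => ⟨a.1.1, a.1.2, congrArg Subtype.val a.2⟩,
      fun a => ⟨⟨a.1, a.2.1⟩, Subtype.ext a.2.2⟩, ?_, ?_⟩
    · intro a; rfl
    · intro a; rfl
  have h1 := Cfsg.Agent.Lib.InvolutionFusion.card_conj_mul_card_centralizer x
  have h2 := Cfsg.Agent.Lib.InvolutionFusion.card_conj_mul_card_centralizer z
  rw [h.hC4] at h1
  have hle : ∀ v ∈ (Finset.univ : Finset {w : G // IsConj z w}),
      4 * Nat.card (Nw x z v.1) ≤ Nat.card (Cn z) := by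
    intro v _
    by_cases hv : v.1 = z
    · rw [hv]; exact h.card_Nw_self.le
    · exact h.four_mul_Nw_le v.2 hv
  have heq : ∑ v : {w : G // IsConj z w}, 4 * Nat.card (Nw x z v.1) =
      ∑ _v : {w : G // IsConj z w}, Nat.card (Cn z) := by
    rw [← Finset.mul_sum, ← hsum, Finset.sum_const, Finset.card_univ, ← Nat.card_eq_fintype_card,
      smul_eq_mul]
    rw [mul_comm, h1]
    exact h2.symm
  have := (Finset.sum_eq_sum_iff_of_le hle).mp heq ⟨w, hw⟩ (Finset.mem_univ _)
  exact this

/-- A conjugate of `z` commuting with `z` lies in `T`, with centralizer of index two. -/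
theorem E1 {w : G} (hw : IsConj z w) (hwz : w ≠ z) (hc : z ∈ Cn w) :
    Nat.card (T : Subgroup G) = 2 * Nat.card ((T : Subgroup G) ⊓ Cn w : Subgroup G) ∧
      w ∈ (T : Subgroup G) := by
  have hTL : (T : Subgroup G) ≤ Cn z := fun t ht => mem_Cn.mpr (h.hzc t ht)
  set A : Subgroup G := (T : Subgroup G) ⊓ Cn w with hA
  have hAB : (T : Subgroup G) ⊓ (Cn z ⊓ Cn w) = A := by
    rw [hA, ← inf_assoc, inf_eq_left.mpr hTL]
  have h1 := card_mul_card_le hTL (inf_le_left : Cn z ⊓ Cn w ≤ Cn z)
  rw [hAB] at h1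
  have h2 := h.card_Nw_le' hwz hc
  have h3 := h.key_eq hw
  have h4 : Nat.card (Cn z) ≤ 2 * Nat.card (Cn z ⊓ Cn w : Subgroup G) := by omega
  have hBpos : 0 < Nat.card (Cn z ⊓ Cn w : Subgroup G) := Nat.card_pos
  have h5 : Nat.card (T : Subgroup G) ≤ 2 * Nat.card A := by
    have : Nat.card (Cn z ⊓ Cn w : Subgroup G) * Nat.card (T : Subgroup G) ≤
        Nat.card (Cn z ⊓ Cn w : Subgroup G) * (2 * Nat.card A) := by
      calc _ = Nat.card (T : Subgroup G) * Nat.card (Cn z ⊓ Cn w : Subgroup G) := by ring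
        _ ≤ Nat.card (Cn z) * Nat.card A := h1
        _ ≤ 2 * Nat.card (Cn z ⊓ Cn w : Subgroup G) * Nat.card A := by gcongr
        _ = _ := by ring
    exact Nat.le_of_mul_le_mul_left this hBpos
  have hAT : A ≤ (T : Subgroup G) := inf_le_left
  obtain ⟨i, hi⟩ := Subgroup.card_dvd_of_le hAT
  have hxA : x ∉ A := fun hh => h.x_not_mem_Cn hw hwz hh.2
  have hxT : x ∈ (T : Subgroup G) := h.hVT h.x_mem
  have hi1 : i ≠ 1 := by
    rintro rfl
    rw [mul_one] at hi
    have := Subgroup.eq_of_le_of_card_ge hAT hi.le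
    exact hxA (this ▸ hxT)
  have hi0 : i ≠ 0 := by
    rintro rfl
    rw [mul_zero] at hi
    exact (Nat.card_pos (α := (T : Subgroup G))).ne' hi
  have hApos : 0 < Nat.card A := Nat.card_pos
  have hi2 : i = 2 := by
    rw [hi] at h5
    have : i ≤ 2 := by
      rw [mul_comm] at h5
      exact Nat.le_of_mul_le_mul_right h5 hApos
    omega
  have hh : Nat.card (T : Subgroup G) = 2 * Nat.card A := by rw [hi, hi2, mul_comm]
  exact ⟨hh, h.mem_T_of_index_two hw hwz hh⟩

/-- A conjugate of `z` not commuting with `z` commutes with another conjugate of `z` in `T`. -/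
theorem E2 {w : G} (hw : IsConj z w) (hwz : w ≠ z) (hc : z ∉ Cn w) :
    ∃ c : G, IsConj z c ∧ c ≠ z ∧ c ∈ (T : Subgroup G) ∧ c ∈ Cn w := by
  classical
  have hTL : (T : Subgroup G) ≤ Cn z := fun t ht => mem_Cn.mpr (h.hzc t ht)
  set A : Subgroup G := (T : Subgroup G) ⊓ Cn w with hA
  have hAB : (T : Subgroup G) ⊓ (Cn z ⊓ Cn w) = A := by
    rw [hA, ← inf_assoc, inf_eq_left.mpr hTL]
  have h1 := card_mul_card_le hTL (inf_le_left : Cn z ⊓ Cn w ≤ Cn z)
  rw [hAB] at h1
  have h2 := h.card_Nw_le w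
  have h3 := h.key_eq hw
  have h4 := h.four_mul_B_le hw hwz hc
  have hBcard : Nat.card (Nw x z w) = Nat.card (Cn z ⊓ Cn w : Subgroup G) := by omega
  have hBpos : 0 < Nat.card (Cn z ⊓ Cn w : Subgroup G) := Nat.card_pos
  have hNne : Nonempty (Nw x z w) := by
    exact (Nat.card_pos_iff.mp (by omega)).1
  obtain ⟨⟨a₀, ha₀, h0⟩⟩ := hNne
  -- A has an involution
  have h5 : Nat.card (T : Subgroup G) ≤ 4 * Nat.card A := by
    have : Nat.card (Cn z ⊓ Cn w : Subgroup G) * Nat.card (T : Subgroup G) ≤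
        Nat.card (Cn z ⊓ Cn w : Subgroup G) * (4 * Nat.card A) := by
      calc _ = Nat.card (T : Subgroup G) * Nat.card (Cn z ⊓ Cn w : Subgroup G) := by ring
        _ ≤ Nat.card (Cn z) * Nat.card A := h1
        _ = 4 * Nat.card (Cn z ⊓ Cn w : Subgroup G) * Nat.card A := by rw [← h3, hBcard]
        _ = _ := by ring
    exact Nat.le_of_mul_le_mul_left this hBpos
  have hA2 : IsPGroup 2 A := T.isPGroup'.to_le inf_le_left
  have hAgt : 1 < Nat.card A := by
    have := h.hcard
    omega
  have hAdvd : 2 ∣ Nat.card A := by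
    obtain ⟨k, hk⟩ := IsPGroup.iff_card.mp hA2
    rw [hk] at hAgt ⊢
    rcases k with _ | k
    · simp at hAgt
    · exact dvd_pow_self 2 (by omega)
  obtain ⟨c', hc'⟩ := exists_prime_orderOf_dvd_card' 2 hAdvd
  have hc1 : (c'.1 : G) ≠ 1 := by
    intro e
    have : c' = 1 := Subtype.ext e
    rw [this, orderOf_one] at hc'
    omega
  have hcsq : (c'.1 : G) * c'.1 = 1 := by
    have : c' ^ 2 = 1 := by rw [← hc']; exact pow_orderOf_eq_one c'
    have := congrArg Subtype.val this
    simpa [pow_two] using this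
  have hcT : (c'.1 : G) ∈ (T : Subgroup G) := c'.2.1
  have hcw : (c'.1 : G) ∈ Cn w := c'.2.2
  have hcB : (c'.1 : G) ∈ (Cn z ⊓ Cn w : Subgroup G) := ⟨hTL hcT, hcw⟩
  -- the injection is onto
  let f : Nw x z w → (Cn z ⊓ Cn w : Subgroup G) :=
    fun a => ⟨a₀ * a.1, h.mul_mem_B ha₀ a.2.1 h0 a.2.2⟩
  have hf : Function.Injective f := by
    intro a b hab
    have : a₀ * a.1 = a₀ * b.1 := congrArg Subtype.val hab
    exact Subtype.ext (mul_left_cancel this)
  have hfs : Function.Surjective f :=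
    ((Nat.bijective_iff_injective_and_card f).mpr ⟨hf, hBcard⟩).2
  obtain ⟨a, ha⟩ := hfs ⟨c'.1, hcB⟩
  have ha' : a₀ * a.1 = c'.1 := congrArg Subtype.val ha
  have hac : a.1 = a₀ * c'.1 := by
    rw [← ha', ← mul_assoc, h.sq_of_conj ha₀, one_mul]
  have has := h.sq_of_conj a.2.1
  rw [hac] at has
  -- a₀ commutes c'
  have hcomm : (c'.1 : G) * a₀ = a₀ * c'.1 := by
    have e0 := h.sq_of_conj ha₀
    calc (c'.1 : G) * a₀ = (c'.1 : G) * a₀ * ((a₀ * c'.1) * (a₀ * c'.1)) := by rw [has, mul_one]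
      _ = (c'.1 : G) * (a₀ * a₀) * c'.1 * (a₀ * c'.1) := by group
      _ = (c'.1 * c'.1) * (a₀ * c'.1) := by rw [e0, mul_one]
      _ = a₀ * c'.1 := by rw [hcsq, one_mul]
  obtain ⟨g, hg⟩ := isConj_iff.mp ha₀
  have hcnD : ¬ IsConj x c'.1 := by
    intro hD
    obtain ⟨g₁, hg₁⟩ := isConj_iff.mp hD
    have h6 : z ∈ Cn (g₁ * x * g₁⁻¹) := by
      rw [hg₁]; exact mem_Cn.mpr (h.hzc _ hcT).symm
    have h7 : w ∈ Cn (g₁ * x * g₁⁻¹) := by
      rw [hg₁]; exact mem_Cn.mpr (mem_Cn.mp hcw).symm
    have h8 := h.F (IsConj.refl z) h6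
    have h9 := h.F hw h7
    exact hwz (h9.trans h8.symm)
  have hcg : (c'.1 : G) = g * z * g⁻¹ := by
    apply h.K1 _ hc1 hcnD
    rw [hg]; exact mem_Cn.mpr hcomm
  refine ⟨c'.1, isConj_iff.mpr ⟨g, hcg.symm⟩, ?_, hcT, hcw⟩
  intro e
  apply hc
  rw [← e]; exact hcw

/-- The structure of `C_T(c)` for a conjugate `c ≠ z` of `z` in `T`. -/
theorem A7 {c : G} (hc : IsConj z c) (hcz : c ≠ z) (hcT : c ∈ (T : Subgroup G))
    (hA : Nat.card (T : Subgroup G) = 2 * Nat.card ((T : Subgroup G) ⊓ Cn c : Subgroup G)) :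
    x * c * x = c * z ∧ ∀ a ∈ ((T : Subgroup G) ⊓ Cn c : Subgroup G), a = 1 ∨ a = c ∨ a = z ∨ a = c * z := by
  classical
  set A : Subgroup G := (T : Subgroup G) ⊓ Cn c with hAdef
  have hAT : A ≤ (T : Subgroup G) := inf_le_left
  have hxT : x ∈ (T : Subgroup G) := h.hVT h.x_mem
  have hxA : x ∉ A := fun hh => h.x_not_mem_Cn hc hcz hh.2
  have hcA : c ∈ A := ⟨hcT, mem_Cn.mpr rfl⟩
  have hzA : z ∈ A := ⟨h.hzT, mem_Cn.mpr (h.hzc c hcT).symm⟩
  have hxs := h.x_sq
  have hcs := h.sq_of_conj_z hc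
  have hzs := h.z_sq
  have hxi : x⁻¹ = x := inv_eq_of_mul_eq_one_left hxs
  have hidx : (A.subgroupOf (T : Subgroup G)).index = 2 := by
    have h1 := Subgroup.card_mul_index (A.subgroupOf (T : Subgroup G))
    have h2 : Nat.card (A.subgroupOf (T : Subgroup G)) = Nat.card A :=
      Nat.card_congr (Subgroup.subgroupOfEquivOfLe hAT).toEquiv
    rw [h2, hA] at h1
    have hApos : 0 < Nat.card A := Nat.card_pos
    exact Nat.eq_of_mul_eq_mul_left hApos (by rw [h1]; ring)
  haveI hnA : (A.subgroupOf (T : Subgroup G)).Normal := Subgroup.normal_of_index_eq_two hidx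
  have hxconj : ∀ a ∈ A, x * a * x ∈ A := by
    intro a ha
    have h1 := hnA.conj_mem ⟨a, hAT ha⟩ (Subgroup.mem_subgroupOf.mpr ha) ⟨x, hxT⟩
    have h2 := Subgroup.mem_subgroupOf.mp h1
    simpa [hxi] using h2
  set w' := x * c * x with hw'
  have hw'A : w' ∈ A := hxconj c hcA
  have hw'' : w' = x⁻¹ * c * x := by rw [hw', hxi]
  have hw'comm : ∀ a ∈ A, a * w' = w' * a := by
    intro a ha
    have h1 := hxconj a ha
    have h2 : x * a * x * c = c * (x * a * x) := mem_Cn.mp h1.2
    have h2' : x * a * x⁻¹ * c = c * (x * a * x⁻¹) := by rw [hxi]; exact h2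
    calc a * w' = x⁻¹ * (x * a * x⁻¹ * c) * x := by rw [hw'']; group
      _ = x⁻¹ * (c * (x * a * x⁻¹)) * x := by rw [h2']
      _ = w' * a := by rw [hw'']; group
  have e1 : x * c * x⁻¹ = w' := by rw [hw', hxi]
  have e2 : x * w' * x⁻¹ = c := by
    rw [hw', hxi]
    calc x * (x * c * x) * x = (x * x) * c * (x * x) := by group
      _ = c := by rw [hxs]; group
  -- c w' = z
  have hy : c * w' = z := by
    have hyx : c * w' ∈ Cn x := by
      rw [mem_Cn]
      have h1 := hw'comm c hcA
      calc c * w' * x = w' * c * x := by rw [h1]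
        _ = (x * c * x⁻¹) * (x * w' * x⁻¹) * x := by rw [e1, e2]
        _ = x * (c * w') := by group
    rcases h.V_cases hyx with e | e | e | e
    · exfalso
      apply h.x_not_mem_Cn hc hcz
      have h1 : w' = c := by
        have : c * w' = c * c := by rw [e, hcs]
        exact mul_left_cancel this
      rw [mem_Cn]
      calc x * c = x * w' := by rw [h1]
        _ = (x * x) * c * x := by rw [hw']; group
        _ = c * x := by rw [hxs, one_mul]
    · exfalso
      apply hxA
      rw [← e]; exact A.mul_mem hcA hw'A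
    · exact e
    · exfalso
      apply hxA
      have : x = c * w' * z⁻¹ := by rw [e]; group
      rw [this]; exact A.mul_mem (A.mul_mem hcA hw'A) (A.inv_mem hzA)
  have hci : c⁻¹ = c := inv_eq_of_mul_eq_one_left hcs
  have hres : x * c * x = c * z := by
    rw [← hw', ← hy, ← mul_assoc, hcs, one_mul]
  refine ⟨hres, ?_⟩
  -- the subgroup E
  have hcz' : z * c = c * z := h.hzc c hcT |>.symm
  have e₁ : c * (c * z) = z := by rw [← mul_assoc, hcs, one_mul]
  have e₃ : z * (c * z) = c := by rw [← mul_assoc, hcz', mul_assoc, hzs, mul_one]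
  have e₄ : c * z * c = z := by rw [mul_assoc, hcz', ← mul_assoc, hcs, one_mul]
  have e₅ : c * z * z = c := by rw [mul_assoc, hzs, mul_one]
  have e₆ : c * z * (c * z) = 1 := by rw [mul_assoc, e₃, hcs]
  let E : Subgroup G :=
    { carrier := {a | a = 1 ∨ a = c ∨ a = z ∨ a = c * z}
      one_mem' := Or.inl rfl
      mul_mem' := by
        rintro a b (rfl | rfl | rfl | rfl) (rfl | rfl | rfl | rfl) <;>
          simp [hcs, hzs, e₁, hcz', e₃, e₄, e₅, e₆]
      inv_mem' := by
        rintro a (rfl | rfl | rfl | rfl)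
        · simp
        · right; left; exact hci
        · right; right; left; exact inv_eq_of_mul_eq_one_left hzs
        · right; right; right; exact inv_eq_of_mul_eq_one_left e₆ }
  have hEmem : ∀ {a : G}, a ∈ E ↔ a = 1 ∨ a = c ∨ a = z ∨ a = c * z := Iff.rfl
  have hEA : E ≤ A := by
    rintro a (rfl | rfl | rfl | rfl)
    · exact A.one_mem
    · exact hcA
    · exact hzA
    · exact A.mul_mem hcA hzA
  have hcomA : ∀ a ∈ A, a * c = c * a := fun a ha => mem_Cn.mp ha.2
  have hzcomA : ∀ a ∈ A, a * z = z * a := fun a ha => h.hzc a (hAT ha)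
  -- by contradiction
  by_contra hall
  push Not at hall
  obtain ⟨a₁, ha₁, hne1, hne2, hne3, hne4⟩ := hall
  have ha₁E : a₁ ∉ E := by
    rintro (h' | h' | h' | h')
    · exact hne1 h'
    · exact hne2 h'
    · exact hne3 h'
    · exact hne4 h'
  haveI hET : (E.subgroupOf (T : Subgroup G)).Normal := by
    constructor
    rintro ⟨e, heT⟩ he ⟨t, ht⟩
    rw [Subgroup.mem_subgroupOf] at he ⊢
    change t * e * t⁻¹ ∈ E
    have hconjc : t * c * t⁻¹ ∈ E := by
      by_cases htA : t ∈ A
      · right; left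
        have := hcomA t htA
        rw [this]; group
      · right; right; right
        have hidx' := Subgroup.mul_mem_iff_of_index_two hidx (a := ⟨x, hxT⟩) (b := ⟨t, ht⟩)
        have h3 : (⟨x * t, (T : Subgroup G).mul_mem hxT ht⟩ : (T : Subgroup G)) ∈ A.subgroupOf (T : Subgroup G) :=
          hidx'.mpr (by
            simp only [Subgroup.mem_subgroupOf]
            exact iff_of_false hxA htA)
        have h4 : x * t ∈ A := Subgroup.mem_subgroupOf.mp h3
        have h5 := hcomA _ h4
        have h6 : t = x⁻¹ * (x * t) := by group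
        calc t * c * t⁻¹ = x⁻¹ * ((x * t) * c) * t⁻¹ := by group
          _ = x⁻¹ * (c * (x * t)) * t⁻¹ := by rw [h5]
          _ = x⁻¹ * c * x := by group
          _ = c * z := by rw [← hw'']; exact hw'.trans hres
    have hconjz : t * z * t⁻¹ = z := by
      rw [h.hzc t ht]; group
    rcases he with rfl | rfl | rfl | rfl
    · simp [E.one_mem]
    · exact hconjc
    · rw [hconjz]; right; right; left; rfl
    · have : t * (c * z) * t⁻¹ = (t * c * t⁻¹) * (t * z * t⁻¹) := by group
      rw [this, hconjz]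
      exact E.mul_mem hconjc (Or.inr (Or.inr (Or.inl rfl)))
  haveI hAT' : (A.subgroupOf (T : Subgroup G)).Normal := hnA
  have hlt : E.subgroupOf (T : Subgroup G) < A.subgroupOf (T : Subgroup G) := by
    refine lt_of_le_of_ne
      (fun t ht => Subgroup.mem_subgroupOf.mpr (hEA (Subgroup.mem_subgroupOf.mp ht))) ?_
    intro heq
    have : (⟨a₁, hAT ha₁⟩ : (T : Subgroup G)) ∈ A.subgroupOf (T : Subgroup G) :=
      Subgroup.mem_subgroupOf.mpr ha₁
    rw [← heq, Subgroup.mem_subgroupOf] at this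
    exact ha₁E this
  obtain ⟨y, hyA, hyE, hycomm⟩ := Cfsg.Agent.Lib.PGrp.exists_central_mod T.isPGroup' _ _ hlt
  have hyA' : (y : G) ∈ A := Subgroup.mem_subgroupOf.mp hyA
  have hyE' : (y : G) ∉ E := fun hh => hyE (Subgroup.mem_subgroupOf.mpr hh)
  have he0 := Subgroup.mem_subgroupOf.mp (hycomm ⟨x, hxT⟩)
  set a : G := (y : G) with ha
  have hecomm : ((⁅y, (⟨x, hxT⟩ : (T : Subgroup G))⁆ : (T : Subgroup G)) : G) = a * x * a⁻¹ * x⁻¹ := by
    simp [commutatorElement_def, ha]
  rw [hecomm] at he0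
  set e : G := a * x * a⁻¹ * x⁻¹ with he
  -- the key relation
  have hAcomE : ∀ b ∈ E, ∀ d ∈ A, b * d = d * b := by
    rintro b (rfl | rfl | rfl | rfl) d hd
    · simp
    · exact (hcomA d hd).symm
    · exact (hzcomA d hd).symm
    · rw [mul_assoc, (hzcomA d hd).symm, ← mul_assoc, (hcomA d hd).symm, mul_assoc]
  have he2 : e * e = 1 := by
    rcases he0 with h' | h' | h' | h' <;> rw [h']
    · simp
    · exact hcs
    · exact hzs
    · exact e₆
  have hei : e⁻¹ = e := inv_eq_of_mul_eq_one_left he2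
  have hxax : x * a * x = e * a := by
    have h3 : x * a * x⁻¹ = e⁻¹ * a := by rw [he]; group
    rw [hxi] at h3
    rw [h3, hei]
  have hxe : x * e * x = e := by
    have h4 : (x * e * x) * e * a = 1 * a := by
      calc (x * e * x) * e * a = (x * e * x) * (e * a) := by group
        _ = (x * e * x) * (x * a * x) := by rw [hxax]
        _ = x * e * (x * x) * a * x := by group
        _ = x * (e * a) * x := by rw [hxs, mul_one]; group
        _ = x * (x * a * x) * x := by rw [hxax]
        _ = (x * x) * a * (x * x) := by group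
        _ = 1 * a := by rw [hxs]; group
    have h5 := mul_right_cancel h4
    have h6 : x * e * x = e⁻¹ := eq_inv_of_mul_eq_one_left h5
    rw [h6, hei]
  have hVA : ∀ b ∈ A, b ∈ Cn x → b = 1 ∨ b = z := by
    intro b hb hbx
    rcases h.V_cases hbx with e' | e' | e' | e'
    · exact Or.inl e'
    · exact absurd (e' ▸ hb) hxA
    · exact Or.inr e'
    · exfalso
      apply hxA
      have : x = b * z⁻¹ := by rw [e']; group
      rw [this]; exact A.mul_mem hb (A.inv_mem hzA)
  have hxz' : x * z * x = z := by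
    have := h.xz_comm
    rw [this, mul_assoc, hxs, mul_one]
  rcases he0 with h' | h' | h' | h'
  · -- e = 1
    rw [h', one_mul] at hxax
    have : a ∈ Cn x := by
      rw [mem_Cn]
      calc a * x = (x * a * x) * x := by rw [hxax]
        _ = x * a * (x * x) := by group
        _ = x * a := by rw [hxs, mul_one]
    rcases hVA a hyA' this with e' | e'
    · exact hyE' (Or.inl e')
    · exact hyE' (Or.inr (Or.inr (Or.inl e')))
  · -- e = c
    rw [h', hres] at hxe
    apply h.hz1
    have : c * z = c * 1 := by rw [hxe, mul_one]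
    exact mul_left_cancel this
  · -- e = z
    rw [h'] at hxax
    have h7 : c * a ∈ Cn x := by
      rw [mem_Cn]
      have h8 : x * (c * a) * x = c * a := by
        calc x * (c * a) * x = (x * c * x) * (x * a * x) := by
              rw [show (x * c * x) * (x * a * x) = x * c * (x * x) * a * x by group, hxs, mul_one]
              group
          _ = c * z * (z * a) := by rw [hres, hxax]
          _ = c * (z * z) * a := by group
          _ = c * a := by rw [hzs, mul_one]
      calc c * a * x = (x * (c * a) * x) * x := by rw [h8]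
        _ = x * (c * a) * (x * x) := by group
        _ = x * (c * a) := by rw [hxs, mul_one]
    rcases hVA (c * a) (A.mul_mem hcA hyA') h7 with e' | e'
    · apply hyE'
      right; left
      have : c * a = c * c := by rw [e', hcs]
      exact mul_left_cancel this
    · apply hyE'
      right; right; right
      have : c * a = c * (c * z) := by rw [e', e₁]
      exact mul_left_cancel this
  · -- e = c z
    rw [h'] at hxe
    apply h.hz1
    have h9 : x * (c * z) * x = c := by
      calc x * (c * z) * x = (x * c * x) * (x * z * x) := by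
            rw [show (x * c * x) * (x * z * x) = x * c * (x * x) * z * x by group, hxs, mul_one]
            group
        _ = c * z * z := by rw [hres, hxz']
        _ = c := e₅
    rw [h9] at hxe
    have : c * 1 = c * z := by rw [mul_one]; exact hxe
    exact (mul_left_cancel this).symm

/-- `T` is the union of `A` and `x A`. -/
theorem index_two_cases {c : G} (hc : IsConj z c) (hcz : c ≠ z)
    (hA : Nat.card (T : Subgroup G) = 2 * Nat.card ((T : Subgroup G) ⊓ Cn c : Subgroup G))
    {t : G} (ht : t ∈ (T : Subgroup G)) :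
    t ∈ ((T : Subgroup G) ⊓ Cn c : Subgroup G) ∨ x * t ∈ ((T : Subgroup G) ⊓ Cn c : Subgroup G) := by
  set A : Subgroup G := (T : Subgroup G) ⊓ Cn c with hAdef
  have hAT : A ≤ (T : Subgroup G) := inf_le_left
  have hxT : x ∈ (T : Subgroup G) := h.hVT h.x_mem
  have hxA : x ∉ A := fun hh => h.x_not_mem_Cn hc hcz hh.2
  have hidx : (A.subgroupOf (T : Subgroup G)).index = 2 := by
    have h1 := Subgroup.card_mul_index (A.subgroupOf (T : Subgroup G))
    have h2 : Nat.card (A.subgroupOf (T : Subgroup G)) = Nat.card A :=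
      Nat.card_congr (Subgroup.subgroupOfEquivOfLe hAT).toEquiv
    rw [h2, hA] at h1
    have hApos : 0 < Nat.card A := Nat.card_pos
    exact Nat.eq_of_mul_eq_mul_left hApos (by rw [h1]; ring)
  by_cases htA : t ∈ A
  · exact Or.inl htA
  right
  have hidx' := Subgroup.mul_mem_iff_of_index_two hidx (a := ⟨x, hxT⟩) (b := ⟨t, ht⟩)
  have h3 : (⟨x * t, (T : Subgroup G).mul_mem hxT ht⟩ : (T : Subgroup G)) ∈ A.subgroupOf (T : Subgroup G) :=
    hidx'.mpr (by
      simp only [Subgroup.mem_subgroupOf]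
      exact iff_of_false hxA htA)
  exact Subgroup.mem_subgroupOf.mp h3

/-- The contradiction in the situation `T > C(x)`. -/
theorem no_normal
    (hne : ∀ E : Subgroup G, E.Normal → (IsMulCommutative E ∧ ∀ a ∈ E, a ^ 2 = 1) →
      Nat.card E ≠ 2 ∧ Nat.card E ≠ 4) : False := by
  classical
  have hxs := h.x_sq
  have hzs := h.z_sq
  by_cases k1 : ∀ w, IsConj z w → w = z
  · have hconj : ∀ g : G, g * z * g⁻¹ = z := fun g => k1 _ (isConj_iff.mpr ⟨g, rfl⟩)
    have hord : orderOf z = 2 := by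
      apply orderOf_eq_prime
      · rw [pow_two]; exact hzs
      · exact h.hz1
    refine (hne (Subgroup.zpowers z) ?_ ⟨?_, ?_⟩).1 ?_
    · constructor
      rintro _ ⟨k, rfl⟩ g
      refine ⟨k, ?_⟩
      change z ^ k = g * z ^ k * g⁻¹
      rw [← conj_zpow, hconj]
    · exact ⟨⟨fun a b => by
        obtain ⟨a, i, rfl⟩ := a
        obtain ⟨b, j, rfl⟩ := b
        apply Subtype.ext
        change z ^ i * z ^ j = z ^ j * z ^ i
        rw [← zpow_add, ← zpow_add, add_comm]⟩⟩
    · rintro _ ⟨k, rfl⟩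
      change (z ^ k) ^ 2 = 1
      rw [← zpow_natCast, ← zpow_mul, mul_comm, zpow_mul, zpow_natCast, pow_two, hzs, one_zpow]
    · rw [Nat.card_zpowers, hord]
  push Not at k1
  obtain ⟨w₀, hw₀, hw₀z⟩ := k1
  -- a conjugate c of z in T
  obtain ⟨c, hc, hcz, hcT⟩ : ∃ c, IsConj z c ∧ c ≠ z ∧ c ∈ (T : Subgroup G) := by
    by_cases hcw : z ∈ Cn w₀
    · exact ⟨w₀, hw₀, hw₀z, (h.E1 hw₀ hw₀z hcw).2⟩
    · obtain ⟨c, h1, h2, h3, _⟩ := h.E2 hw₀ hw₀z hcw
      exact ⟨c, h1, h2, h3⟩
  have hzCc : z ∈ Cn c := mem_Cn.mpr (h.hzc c hcT).symm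
  have hA := (h.E1 hc hcz hzCc).1
  obtain ⟨hres, hAcases⟩ := h.A7 hc hcz hcT hA
  set A : Subgroup G := (T : Subgroup G) ⊓ Cn c with hAdef
  have hcs := h.sq_of_conj_z hc
  have hcomm : z * c = c * z := (h.hzc c hcT).symm
  -- involutions in x A
  have hxcsq : (x * c) * (x * c) = z := by
    calc (x * c) * (x * c) = (x * c * x) * c := by group
      _ = c * z * c := by rw [hres]
      _ = c * (z * c) := by group
      _ = c * (c * z) := by rw [hcomm]
      _ = (c * c) * z := by group
      _ = z := by rw [hcs, one_mul]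
  have hxczsq : (x * (c * z)) * (x * (c * z)) = z := by
    have e6 : c * z * (c * z) = 1 := by
      calc c * z * (c * z) = c * (z * c) * z := by group
        _ = c * (c * z) * z := by rw [hcomm]
        _ = (c * c) * (z * z) := by group
        _ = 1 := by rw [hcs, hzs, one_mul]
    calc (x * (c * z)) * (x * (c * z)) = x * c * (z * x) * c * z := by group
      _ = x * c * (x * z) * c * z := by rw [← h.xz_comm]
      _ = (x * c * x) * (z * c) * z := by group
      _ = (c * z) * (c * z) * z := by rw [hres, hcomm]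
      _ = z := by rw [e6, one_mul]
  -- claim C
  have claimC : ∀ w, IsConj z w → w ≠ z → z ∈ Cn w → w = c ∨ w = c * z := by
    intro w hw hwz hzw
    have hwT := (h.E1 hw hwz hzw).2
    rcases h.index_two_cases hc hcz hA hwT with hwA | hwA
    · rcases hAcases w hwA with e | e | e | e
      · exfalso
        rw [e] at hw
        exact h.hz1 (isConj_one_left.mp hw)
      · exact Or.inl e
      · exact absurd e hwz
      · exact Or.inr e
    · have hws := h.sq_of_conj_z hw
      have hxw : w = x * (x * w) := by rw [← mul_assoc, hxs, one_mul]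
      exfalso
      rcases hAcases _ hwA with e | e | e | e
      · rw [e, mul_one] at hxw
        exact h.z_not_conj (hw.trans (hxw ▸ IsConj.refl w) |>.symm)
      · rw [e] at hxw
        rw [hxw, hxcsq] at hws
        exact h.hz1 hws
      · rw [e] at hxw
        apply h.z_not_conj
        have h1 := h.xz_conj
        rw [← hxw] at h1
        exact h1.trans hw.symm
      · rw [e] at hxw
        rw [hxw, hxczsq] at hws
        exact h.hz1 hws
  -- claim D
  have claimD : ∀ w, IsConj z w → w ≠ z → z ∈ Cn w := by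
    intro w hw hwz
    by_contra hzw
    obtain ⟨c', hc', hc'z, hc'T, hc'w⟩ := h.E2 hw hwz hzw
    obtain ⟨g, hg⟩ := isConj_iff.mp hc'
    have hzc' : c' * z = z * c' := h.hzc c' hc'T
    -- transport
    have h1 : IsConj z (g⁻¹ * w * g) := by
      obtain ⟨g₁, hg₁⟩ := isConj_iff.mp hw
      refine isConj_iff.mpr ⟨g⁻¹ * g₁, ?_⟩
      rw [← hg₁]; group
    have h2 : g⁻¹ * w * g ≠ z := by
      intro e
      have : w = c' := by
        rw [← hg, ← e]; group
      apply hzw
      rw [this]
      exact mem_Cn.mpr hzc'.symm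
    have h3 : z ∈ Cn (g⁻¹ * w * g) := by
      have h4 : c' * w = w * c' := mem_Cn.mp hc'w
      rw [← hg] at h4
      rw [mem_Cn]
      have this : g⁻¹ * (g * z * g⁻¹ * w) * g = g⁻¹ * (w * (g * z * g⁻¹)) * g := by rw [h4]
      calc z * (g⁻¹ * w * g) = g⁻¹ * (g * z * g⁻¹ * w) * g := by group
        _ = g⁻¹ * (w * (g * z * g⁻¹)) * g := this
        _ = g⁻¹ * w * g * z := by group
    have h5 : IsConj z (g⁻¹ * z * g) := isConj_iff.mpr ⟨g⁻¹, by group⟩
    have h6 : g⁻¹ * z * g ≠ z := by
      intro e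
      apply hc'z
      rw [← hg]
      calc g * z * g⁻¹ = g * (g⁻¹ * z * g) * g⁻¹ := by rw [e]
        _ = z := by group
    have h7 : z ∈ Cn (g⁻¹ * z * g) := by
      rw [mem_Cn]
      rw [← hg] at hzc'
      have this : g⁻¹ * (g * z * g⁻¹ * z) * g = g⁻¹ * (z * (g * z * g⁻¹)) * g := by rw [hzc']
      calc z * (g⁻¹ * z * g) = g⁻¹ * (g * z * g⁻¹ * z) * g := by group
        _ = g⁻¹ * (z * (g * z * g⁻¹)) * g := this
        _ = g⁻¹ * z * g * z := by group
    have h8 := claimC _ h1 h2 h3
    have h9 := claimC _ h5 h6 h7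
    -- both lie in {c, c z}, which commute
    have hE : ∀ u v : G, (u = c ∨ u = c * z) → (v = c ∨ v = c * z) → u * v = v * u := by
      rintro u v (hu | hu) (hv | hv) <;> rw [hu, hv]
      · rw [mul_assoc c z c, hcomm]
      · rw [mul_assoc c z c, hcomm]
    have h10 := hE _ _ h8 h9
    apply hzw
    rw [mem_Cn]
    calc z * w = g * ((g⁻¹ * z * g) * (g⁻¹ * w * g)) * g⁻¹ := by group
      _ = g * ((g⁻¹ * w * g) * (g⁻¹ * z * g)) * g⁻¹ := by rw [h10]
      _ = w * z := by group
  have hZ : ∀ w, IsConj z w → w = z ∨ w = c ∨ w = c * z := by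
    intro w hw
    by_cases hwz : w = z
    · exact Or.inl hwz
    · exact Or.inr (claimC w hw hwz (claimD w hw hwz))
  have hcA : c ∈ A := ⟨hcT, mem_Cn.mpr rfl⟩
  have hzA : z ∈ A := ⟨h.hzT, hzCc⟩
  have hczconj : IsConj z (c * z) := by
    have h1 : IsConj c (c * z) := isConj_iff.mpr ⟨x, by
      rw [h.inv_of_conj (IsConj.refl x)]; exact hres⟩
    exact hc.trans h1
  have hZA : ∀ w, IsConj z w → w ∈ A := by
    intro w hw
    rcases hZ w hw with e | e | e <;> rw [e]
    · exact hzA
    · exact hcA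
    · exact A.mul_mem hcA hzA
  have hsq : ∀ a ∈ A, a ^ 2 = 1 := by
    intro a ha
    rw [pow_two]
    rcases hAcases a ha with e | e | e | e
    · rw [e, one_mul]
    · rw [e]; exact hcs
    · rw [e]; exact hzs
    · rw [e]; exact h.sq_of_conj_z hczconj
  refine (hne A ?_ ⟨?_, hsq⟩).2 ?_
  · constructor
    intro a ha g
    rcases hAcases a ha with e | e | e | e
    · rw [e]; simp [A.one_mem]
    · rw [e]; exact hZA _ (hc.trans (isConj_iff.mpr ⟨g, rfl⟩))
    · rw [e]; exact hZA _ (isConj_iff.mpr ⟨g, rfl⟩)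
    · rw [e]; exact hZA _ (hczconj.trans (isConj_iff.mpr ⟨g, rfl⟩))
  · exact ⟨⟨fun a b => Subtype.ext (comm_of_exp_two hsq a.2 b.2)⟩⟩
  · -- the order of A
    have h1 : 2 < Nat.card A := by
      have := h.hcard
      omega
    have h2 : Nat.card A ≤ 4 := by
      haveI := Fintype.ofFinite G
      have hss : (univ.filter (fun a : G => a ∈ A)) ⊆ ({1, c, z, c * z} : Finset G) := by
        intro a ha
        have := hAcases a (Finset.mem_filter.mp ha).2
        simpa using this
      have h3 := Finset.card_le_card hss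
      have h4 : (univ.filter (fun a : G => a ∈ A)).card = Nat.card A := by
        rw [Nat.card_eq_fintype_card, Fintype.card_subtype]
      have h5 : ({1, c, z, c * z} : Finset G).card ≤ 4 := Finset.card_le_four
      omega
    obtain ⟨k, hk⟩ := IsPGroup.iff_card.mp ((T.isPGroup').to_le (inf_le_left : A ≤ (T : Subgroup G)))
    rw [hk] at h1 h2 ⊢
    rcases k with _ | _ | _ | k
    · norm_num at h1
    · norm_num at h1
    · norm_num
    · exfalso
      have : 2 ^ (k + 1 + 1 + 1) = 8 * 2 ^ k := by ring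
      have h6 : 0 < 2 ^ k := by positivity
      omega

end PA

theorem exists_PA [Finite G] {x : G} (hx : orderOf x = 2) (hC4 : Nat.card (Cn x) = 4)
    (hCe : ∀ c ∈ Cn x, c ^ 2 = 1) (T : Sylow 2 G) (hVT : Cn x ≤ (T : Subgroup G))
    (hcard : 4 < Nat.card (T : Subgroup G)) : ∃ z, PA x z T := by
  classical
  have hxT : x ∈ (T : Subgroup G) := hVT (mem_Cn.mpr rfl)
  have hxs : x * x = 1 := by
    have := pow_orderOf_eq_one x
    rw [hx, pow_two] at this
    exact this
  have hx1 : x ≠ 1 := by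
    intro e
    rw [e, orderOf_one] at hx
    omega
  haveI : Nontrivial (T : Subgroup G) := by
    rw [← Finite.one_lt_card_iff_nontrivial]; omega
  haveI hcn : Nontrivial (Subgroup.center (T : Subgroup G)) := T.isPGroup'.center_nontrivial
  obtain ⟨c, hc1⟩ := exists_ne (1 : Subgroup.center (T : Subgroup G))
  have hzc : ∀ t ∈ (T : Subgroup G), t * (c.1 : G) = c.1 * t := by
    intro t ht
    have := Subgroup.mem_center_iff.mp c.2 ⟨t, ht⟩
    exact congrArg Subtype.val this
  set z : G := (c.1 : G) with hz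
  have hzT : z ∈ (T : Subgroup G) := c.1.2
  have hz1 : z ≠ 1 := fun e => hc1 (Subtype.ext (Subtype.ext e))
  have hzV : z ∈ Cn x := mem_Cn.mpr (hzc x hxT).symm
  have hzx : z ≠ x := by
    intro e
    have hle : (T : Subgroup G) ≤ Cn x := by
      intro t ht
      rw [mem_Cn, ← e]
      exact hzc t ht
    have := Subgroup.card_le_of_le hle
    omega
  -- the normalizer
  haveI : Group.IsNilpotent (T : Subgroup G) := T.isPGroup'.isNilpotent
  set V' : Subgroup (T : Subgroup G) := (Cn x).subgroupOf (T : Subgroup G) with hV'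
  have hV'top : V' < ⊤ := by
    refine lt_top_iff_ne_top.mpr ?_
    intro e
    have hle : (T : Subgroup G) ≤ Cn x := by
      intro t ht
      have : (⟨t, ht⟩ : (T : Subgroup G)) ∈ V' := by rw [e]; trivial
      exact Subgroup.mem_subgroupOf.mp this
    have := Subgroup.card_le_of_le hle
    omega
  have hnorm := Group.normalizerCondition_of_isNilpotent V' hV'top
  obtain ⟨g, hgN, hgV⟩ := SetLike.exists_of_lt hnorm
  have hg' := Subgroup.mem_normalizer_iff.mp hgN
  have hgx : x ∈ Cn x := mem_Cn.mpr rfl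
  have hy : (g : G) * x * (g : G)⁻¹ ∈ Cn x := by
    have := (hg' ⟨x, hxT⟩).mp (Subgroup.mem_subgroupOf.mpr hgx)
    exact Subgroup.mem_subgroupOf.mp this
  refine ⟨z, hx, hC4, hCe, hVT, hcard, hzT, hzc, hzV, hz1, hzx, g, g.2, ?_⟩
  rcases V_cases' hxs hx1 hC4 hzV hz1 hzx hy with e | e | e | e
  · exfalso
    apply hx1
    have : x = (g : G)⁻¹ * ((g : G) * x * (g : G)⁻¹) * g := by group
    rw [this, e]; group
  · exfalso
    apply hgV
    apply Subgroup.mem_subgroupOf.mpr
    rw [mem_Cn]
    calc (g : G) * x = (g : G) * x * (g : G)⁻¹ * g := by group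
      _ = x * g := by rw [e]
  · exfalso
    apply hzx
    have h1 : (g : G) * x = z * g := by
      calc (g : G) * x = (g : G) * x * (g : G)⁻¹ * g := by group
        _ = z * g := by rw [e]
    have h2 := hzc g g.2
    rw [← h2] at h1
    exact (mul_left_cancel h1).symm
  · exact e

end Cfsg.Agent.Lib.KleinCent
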