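import Mathlib
import Cfsg.Agent.Lib.KleinCent
import Cfsg.Agent.S3246
import Cfsg.Agent.Lib.ClassicalSmall

set_option autoImplicit false
set_option linter.unusedSectionVars false
set_option linter.style.haveILetI false
set_option linter.unusedVariables false

namespace Cfsg.Agent.Lib.KleinCent

open Finset
open scoped Pointwise

variable {G : Type*} [Group G] [Finite G]

/-- Normalizer of a Sylow subgroup. -/
abbrev Nm (P : Sylow 2 G) : Subgroup G := Subgroup.normalizer ((P : Subgroup G) : Set G)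

/-- Data for the situation `T = C(x)`, all involutions conjugate. -/
structure PB (G : Type*) [Group G] [Finite G] : Prop where
  hN : ∀ P : Sylow 2 G, Nat.card (Nm P) = 12
  hP4 : ∀ P : Sylow 2 G, Nat.card (P : Subgroup G) = 4
  hC : ∀ (P : Sylow 2 G) (a : G), a ∈ (P : Subgroup G) → a ≠ 1 → orderOf a = 2 ∧ Cn a = (P : Subgroup G)
  hI : Nat.card {a : G // orderOf a = 2} * 4 = Nat.card G

theorem mem_Nm_iff {P : Sylow 2 G} {g : G} : g ∈ Nm P ↔ g • P = P :=
  Sylow.smul_eq_iff_mem_normalizer.symm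

namespace PB

variable (h : PB G)

include h

theorem mem_of_mem_Nm {a : G} {P : Sylow 2 G} (ha : orderOf a = 2) (hN : a ∈ Nm P) :
    a ∈ (P : Subgroup G) := by
  have hz : IsPGroup 2 (Subgroup.zpowers a) := by
    refine IsPGroup.of_card (n := 1) ?_
    rw [Nat.card_zpowers, ha, pow_one]
  have hle : Subgroup.zpowers a ≤ Nm P := by
    rw [Subgroup.zpowers_le]; exact hN
  have hsup := P.isPGroup'.to_sup_of_normal_left' hz hle
  have h1 := P.is_maximal' hsup le_sup_left
  have h2 : a ∈ ((P : Subgroup G) ⊔ Subgroup.zpowers a) :=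
    (le_sup_right : Subgroup.zpowers a ≤ _) (Subgroup.mem_zpowers a)
  rwa [h1] at h2

theorem eq_of_mem {a : G} {P Q : Sylow 2 G} (ha : a ≠ 1) (hP : a ∈ (P : Subgroup G))
    (hQ : a ∈ (Q : Subgroup G)) : P = Q := by
  apply Sylow.ext
  rw [← (h.hC P a hP ha).2, (h.hC Q a hQ ha).2]

omit h in
theorem exists_mem {a : G} (ha : orderOf a = 2) : ∃ P : Sylow 2 G, a ∈ (P : Subgroup G) := by
  have hz : IsPGroup 2 (Subgroup.zpowers a) := by
    refine IsPGroup.of_card (n := 1) ?_
    rw [Nat.card_zpowers, ha, pow_one]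
  obtain ⟨P, hP⟩ := hz.exists_le_sylow
  exact ⟨P, hP (Subgroup.mem_zpowers a)⟩

theorem ne_one_of {a : G} (ha : orderOf a = 2) : a ≠ 1 := by
  intro e
  rw [e, orderOf_one] at ha
  omega

theorem smul_eq_iff {a : G} {P : Sylow 2 G} (ha : orderOf a = 2) :
    a • P = P ↔ a ∈ (P : Subgroup G) := by
  constructor
  · intro e
    exact h.mem_of_mem_Nm ha (mem_Nm_iff.mpr e)
  · intro hm
    exact mem_Nm_iff.mp (Subgroup.le_normalizer hm)

theorem card_G : Nat.card G = 12 * Nat.card (Sylow 2 G) := by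
  have P : Sylow 2 G := default
  have h1 := Subgroup.card_mul_index (Nm P)
  have h2 : Nat.card (Sylow 2 G) = (Nm P).index := Sylow.card_eq_index_normalizer P
  rw [h.hN P, ← h2] at h1
  exact h1.symm

theorem card_I : Nat.card {a : G // orderOf a = 2} = 3 * Nat.card (Sylow 2 G) := by
  have h1 := h.hI
  rw [h.card_G] at h1
  omega

/-- The two-point stabilizer. -/
abbrev Dp (P Q : Sylow 2 G) : Subgroup G := Nm P ⊓ Nm Q

omit h in
theorem mem_Dp {P Q : Sylow 2 G} {g : G} : g ∈ Dp P Q ↔ g • P = P ∧ g • Q = Q := by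
  rw [Subgroup.mem_inf, mem_Nm_iff, mem_Nm_iff]

theorem odd_Dp {P Q : Sylow 2 G} (hPQ : P ≠ Q) : ¬ 2 ∣ Nat.card (Dp P Q) := by
  intro h2
  obtain ⟨c, hc⟩ := exists_prime_orderOf_dvd_card' 2 h2
  have hc' : orderOf (c : G) = 2 := by rw [Subgroup.orderOf_coe]; exact hc
  have h1 := h.mem_of_mem_Nm hc' c.2.1
  have h3 := h.mem_of_mem_Nm hc' c.2.2
  exact hPQ (h.eq_of_mem (h.ne_one_of hc') h1 h3)

theorem card_Dp_le {P Q : Sylow 2 G} (hPQ : P ≠ Q) : Nat.card (Dp P Q) ≤ 3 := by
  have h1 : Nat.card (Dp P Q) ∣ 12 := by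
    rw [← h.hN P]
    exact Subgroup.card_dvd_of_le inf_le_left
  have h2 := h.odd_Dp hPQ
  have h3 : Nat.card (Dp P Q) ∈ Nat.divisors 12 := Nat.mem_divisors.mpr ⟨h1, by norm_num⟩
  have h4 : Nat.divisors 12 = {1, 2, 3, 4, 6, 12} := by decide
  rw [h4] at h3
  simp only [Finset.mem_insert, Finset.mem_singleton] at h3
  rcases h3 with e | e | e | e | e | e <;> rw [e] at h2 ⊢ <;> omega

/-- Involutions moving `P` to `Q`. -/
abbrev Sw (P Q : Sylow 2 G) : Type _ := {a : G // orderOf a = 2 ∧ a • P = Q}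

omit h in
theorem mul_smul_two {a : G} (ha : orderOf a = 2) (P : Sylow 2 G) : a • (a • P) = P := by
  rw [smul_smul]
  have : a * a = 1 := by
    have := pow_orderOf_eq_one a
    rwa [ha, pow_two] at this
  rw [this, one_smul]

omit h in
theorem mul_mem_Dp' {P Q : Sylow 2 G} {a₀ a : G} (h1 : orderOf a₀ = 2) (h2 : a₀ • P = Q)
    (h3 : orderOf a = 2) (h4 : a • P = Q) : a₀ * a ∈ Dp P Q := by
  rw [mem_Dp]
  constructor
  · rw [mul_smul, h4, ← h2, mul_smul_two h1]
  · rw [mul_smul, ← h4, mul_smul_two h3, h4, h2]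

omit h in
theorem mul_mem_Dp {P Q : Sylow 2 G} (a₀ a : Sw P Q) : a₀.1 * a.1 ∈ Dp P Q :=
  mul_mem_Dp' a₀.2.1 a₀.2.2 a.2.1 a.2.2

omit h in
theorem card_Sw_le_Dp (P Q : Sylow 2 G) : Nat.card (Sw P Q) ≤ Nat.card (Dp P Q) := by
  by_cases he : IsEmpty (Sw P Q)
  · rw [Nat.card_of_isEmpty]; exact Nat.zero_le _
  rw [not_isEmpty_iff] at he
  obtain ⟨a₀⟩ := he
  refine Nat.card_le_card_of_injective (fun a : Sw P Q => (⟨a₀.1 * a.1, mul_mem_Dp a₀ a⟩ : Dp P Q)) ?_
  intro a b hab
  have : a₀.1 * a.1 = a₀.1 * b.1 := congrArg Subtype.val hab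
  exact Subtype.ext (mul_left_cancel this)

theorem card_Sw_self (P : Sylow 2 G) : Nat.card (Sw P P) = 3 := by
  classical
  have h1 : Nat.card (Sw P P) = Nat.card {a : (P : Subgroup G) // a ≠ 1} := by
    apply Nat.card_congr
    refine ⟨fun a => ⟨⟨a.1, (h.smul_eq_iff a.2.1).mp a.2.2⟩, fun e =>
        h.ne_one_of a.2.1 (congrArg Subtype.val e)⟩,
      fun a => ⟨a.1.1, ?_⟩, ?_, ?_⟩
    · have hne : (a.1 : G) ≠ 1 := fun e => a.2 (Subtype.ext e)
      have ho := (h.hC P a.1.1 a.1.2 hne).1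
      exact ⟨ho, (h.smul_eq_iff ho).mpr a.1.2⟩
    · intro a; rfl
    · intro a; rfl
  rw [h1]
  have h2 : Nat.card {a : (P : Subgroup G) // a ≠ 1} + 1 = 4 := by
    rw [← h.hP4 P]
    haveI := Fintype.ofFinite (P : Subgroup G)
    rw [Nat.card_eq_fintype_card, Nat.card_eq_fintype_card, Fintype.card_subtype_compl]
    simp
    have : 0 < Fintype.card (P : Subgroup G) := Fintype.card_pos
    omega
  omega

/-- Each `Sw` has three elements. -/
theorem card_Sw (P Q : Sylow 2 G) : Nat.card (Sw P Q) = 3 := by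
  classical
  haveI := Fintype.ofFinite (Sylow 2 G)
  let f : {a : G // orderOf a = 2} → Sylow 2 G := fun a => a.1 • P
  have hsum : Nat.card {a : G // orderOf a = 2} = ∑ R : Sylow 2 G, Nat.card (Sw P R) := by
    rw [← Nat.card_congr (Equiv.sigmaFiberEquiv f), Nat.card_sigma]
    refine Finset.sum_congr rfl fun v _ => ?_
    apply Nat.card_congr
    exact ⟨fun a => ⟨a.1.1, a.1.2, a.2⟩, fun a => ⟨⟨a.1, a.2.1⟩, a.2.2⟩,
      fun a => rfl, fun a => rfl⟩
  have hle : ∀ R ∈ (Finset.univ : Finset (Sylow 2 G)), Nat.card (Sw P R) ≤ 3 := by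
    intro R _
    by_cases hR : P = R
    · rw [← hR, h.card_Sw_self]
    · exact (card_Sw_le_Dp P R).trans (h.card_Dp_le hR)
  have heq : ∑ R : Sylow 2 G, Nat.card (Sw P R) = ∑ _R : Sylow 2 G, 3 := by
    rw [← hsum, h.card_I, Finset.sum_const, Finset.card_univ, ← Nat.card_eq_fintype_card,
      smul_eq_mul, mul_comm]
  exact (Finset.sum_eq_sum_iff_of_le hle).mp heq Q (Finset.mem_univ _)

theorem card_Dp {P Q : Sylow 2 G} (hPQ : P ≠ Q) : Nat.card (Dp P Q) = 3 := by
  have h1 := card_Sw_le_Dp P Q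
  rw [h.card_Sw] at h1
  have h2 := h.card_Dp_le hPQ
  omega

/-- Any element of `a₀ D` is in `Sw`. -/
theorem mul_mem_Sw {P Q : Sylow 2 G} (hPQ : P ≠ Q) (a₀ : Sw P Q) {d : G} (hd : d ∈ Dp P Q) :
    orderOf (a₀.1 * d) = 2 ∧ (a₀.1 * d) • P = Q := by
  let f : Sw P Q → Dp P Q := fun a => ⟨a₀.1 * a.1, mul_mem_Dp a₀ a⟩
  have hf : Function.Injective f := by
    intro a b hab
    have : a₀.1 * a.1 = a₀.1 * b.1 := congrArg Subtype.val hab
    exact Subtype.ext (mul_left_cancel this)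
  have hc : Nat.card (Sw P Q) = Nat.card (Dp P Q) := by rw [h.card_Sw, h.card_Dp hPQ]
  have hfs : Function.Surjective f := ((Nat.bijective_iff_injective_and_card f).mpr ⟨hf, hc⟩).2
  obtain ⟨a, ha⟩ := hfs ⟨d, hd⟩
  have ha' : a₀.1 * a.1 = d := congrArg Subtype.val ha
  have ha₀s : a₀.1 * a₀.1 = 1 := by
    have := pow_orderOf_eq_one a₀.1
    rwa [a₀.2.1, pow_two] at this
  have e : a₀.1 * d = a.1 := by
    rw [← ha', ← mul_assoc, ha₀s, one_mul]
  rw [e]
  exact a.2

/-- Elements of the two-point stabilizer. -/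
theorem orderOf_of_mem_Dp {P Q : Sylow 2 G} (hPQ : P ≠ Q) {u : G} (hu : u ∈ Dp P Q) (hu1 : u ≠ 1) :
    orderOf u = 3 := by
  have hc := h.card_Dp hPQ
  have h1 : orderOf u ∣ 3 := by
    rw [← hc]
    have := Subgroup.orderOf_dvd_natCard (Dp P Q) hu
    exact this
  rcases (Nat.dvd_prime Nat.prime_three).mp h1 with e | e
  · exact absurd (orderOf_eq_one_iff.mp e) hu1
  · exact e

theorem Dp_eq_zpowers {P Q : Sylow 2 G} (hPQ : P ≠ Q) {u : G} (hu : u ∈ Dp P Q) (hu1 : u ≠ 1) :
    Dp P Q = Subgroup.zpowers u := by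
  symm
  apply Subgroup.eq_of_le_of_card_ge
  · rw [Subgroup.zpowers_le]; exact hu
  · rw [h.card_Dp hPQ, Nat.card_zpowers, h.orderOf_of_mem_Dp hPQ hu hu1]

/-- In `N(R)`, an element of a Sylow subgroup does not invert an element of order three. -/
theorem not_inverts {R : Sylow 2 G} {a u : G} (ha : a ∈ (R : Subgroup G)) (hu : u ∈ Nm R)
    (hu3 : orderOf u = 3) (hinv : a * u * a⁻¹ = u⁻¹) : False := by
  have h1 : u⁻¹ * a⁻¹ * u ∈ (R : Subgroup G) := by
    have := (Subgroup.mem_normalizer_iff.mp (Subgroup.inv_mem _ hu) a⁻¹).mp (Subgroup.inv_mem _ ha)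
    simpa using this
  have h2 : a * (u⁻¹ * a⁻¹ * u) ∈ (R : Subgroup G) := Subgroup.mul_mem _ ha h1
  have h3 : a * (u⁻¹ * a⁻¹ * u) = (a * u * a⁻¹)⁻¹ * u := by group
  rw [h3, hinv, inv_inv] at h2
  have h4 : u * u ∈ (R : Subgroup G) := h2
  -- u*u has order three and lies in a 2-group
  have hcop : (u * u) ^ 3 = 1 := by
    have := pow_orderOf_eq_one u
    rw [hu3] at this
    calc (u * u) ^ 3 = (u ^ 3) ^ 2 := by
          rw [← pow_two, ← pow_mul, ← pow_mul]
      _ = 1 := by rw [this, one_pow]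
  have h5 : (u * u) ^ 4 = 1 := by
    have hcard : orderOf (⟨u * u, h4⟩ : (R : Subgroup G)) ∣ 4 := by
      rw [← h.hP4 R]; exact orderOf_dvd_natCard _
    have := orderOf_dvd_iff_pow_eq_one.mp hcard
    exact congrArg Subtype.val this
  have h6 : u * u = 1 := by
    calc u * u = (u * u) ^ 3 * (u * u) := by rw [hcop, one_mul]
      _ = (u * u) ^ 4 := by rw [← pow_succ]
      _ = 1 := h5
  have h7 : orderOf u ∣ 2 := orderOf_dvd_of_pow_eq_one (by rw [pow_two]; exact h6)
  rw [hu3] at h7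
  omega

/-- The centralizer of an element of order three has no involution. -/
theorem no_inv_in_Cn {u c : G} (hu3 : orderOf u = 3) (hc : orderOf c = 2) (hcu : c ∈ Cn u) : False := by
  obtain ⟨R, hR⟩ := exists_mem hc
  have h1 := (h.hC R c hR (h.ne_one_of hc)).2
  have h2 : u ∈ Cn c := mem_Cn.mpr (mem_Cn.mp hcu).symm
  rw [h1] at h2
  have hcard : orderOf (⟨u, h2⟩ : (R : Subgroup G)) ∣ 4 := by
    rw [← h.hP4 R]; exact orderOf_dvd_natCard _
  have : orderOf u ∣ 4 := by
    rw [← Subgroup.orderOf_mk u h2]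
    exact hcard
  rw [hu3] at this
  omega

theorem odd_Cn {u : G} (hu3 : orderOf u = 3) : ¬ 2 ∣ Nat.card (Cn u) := by
  intro h2
  obtain ⟨c, hc⟩ := exists_prime_orderOf_dvd_card' 2 h2
  have hc' : orderOf (c : G) = 2 := by rw [Subgroup.orderOf_coe]; exact hc
  exact h.no_inv_in_Cn hu3 hc' c.2

/-- Stabilizers in `C(u)`. -/
theorem card_Cn_inf_Nm {u : G} {R : Sylow 2 G} (hu3 : orderOf u = 3) (huR : u ∈ Nm R) :
    Nat.card (Cn u ⊓ Nm R : Subgroup G) = 3 := by
  have h1 : Nat.card (Cn u ⊓ Nm R : Subgroup G) ∣ 12 := by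
    rw [← h.hN R]
    exact Subgroup.card_dvd_of_le inf_le_right
  have h2 : ¬ 2 ∣ Nat.card (Cn u ⊓ Nm R : Subgroup G) := by
    intro h2
    obtain ⟨c, hc⟩ := exists_prime_orderOf_dvd_card' 2 h2
    have hc' : orderOf (c : G) = 2 := by rw [Subgroup.orderOf_coe]; exact hc
    exact h.no_inv_in_Cn hu3 hc' c.2.1
  have h3 : 3 ∣ Nat.card (Cn u ⊓ Nm R : Subgroup G) := by
    rw [← hu3]
    exact Subgroup.orderOf_dvd_natCard _ ⟨mem_Cn.mpr rfl, huR⟩
  have h4 : Nat.card (Cn u ⊓ Nm R : Subgroup G) ∈ Nat.divisors 12 :=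
    Nat.mem_divisors.mpr ⟨h1, by norm_num⟩
  have h5 : Nat.divisors 12 = {1, 2, 3, 4, 6, 12} := by decide
  rw [h5] at h4
  simp only [Finset.mem_insert, Finset.mem_singleton] at h4
  rcases h4 with e | e | e | e | e | e <;> rw [e] at h2 h3 ⊢ <;> omega

/-- The fixed points of `u`. -/
abbrev Fx (u : G) : Type _ := {R : Sylow 2 G // u • R = R}

/-- Involutions inverting `u`. -/
abbrev Su (u : G) : Type _ := {a : G // orderOf a = 2 ∧ a * u * a⁻¹ = u⁻¹}

/-- `S_u` has the size of `C(u)`. -/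
theorem card_Su {u : G} (hu3 : orderOf u = 3) (a₀ : Su u) : Nat.card (Su u) = Nat.card (Cn u) := by
  classical
  have ha₀s : a₀.1 * a₀.1 = 1 := by
    have := pow_orderOf_eq_one a₀.1
    rwa [a₀.2.1, pow_two] at this
  have ha₀i : a₀.1⁻¹ = a₀.1 := inv_eq_of_mul_eq_one_left ha₀s
  have hu : a₀.1 * u * a₀.1 = u⁻¹ := by
    have := a₀.2.2
    rwa [ha₀i] at this
  have huu : a₀.1 * u⁻¹ * a₀.1 = u := by
    calc a₀.1 * u⁻¹ * a₀.1 = a₀.1 * (a₀.1 * u * a₀.1) * a₀.1 := by rw [hu]
      _ = (a₀.1 * a₀.1) * u * (a₀.1 * a₀.1) := by group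
      _ = u := by rw [ha₀s]; group
  -- a₀ inverts C(u)
  have hN : ∀ c ∈ Cn u, a₀.1 * c * a₀.1⁻¹ ∈ Cn u := by
    intro c hc
    rw [ha₀i, mem_Cn]
    have hc' : c * u = u * c := mem_Cn.mp hc
    have hc'' : c * u⁻¹ = u⁻¹ * c := by
      calc c * u⁻¹ = u⁻¹ * (u * c) * u⁻¹ := by group
        _ = u⁻¹ * (c * u) * u⁻¹ := by rw [hc']
        _ = u⁻¹ * c := by group
    calc a₀.1 * c * a₀.1 * u = a₀.1 * c * (a₀.1 * u * a₀.1) * a₀.1 := by
          rw [show a₀.1 * c * (a₀.1 * u * a₀.1) * a₀.1 = a₀.1 * c * a₀.1 * u * (a₀.1 * a₀.1) by group,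
            ha₀s, mul_one]
      _ = a₀.1 * c * u⁻¹ * a₀.1 := by rw [hu]
      _ = a₀.1 * (c * u⁻¹) * a₀.1 := by group
      _ = a₀.1 * (u⁻¹ * c) * a₀.1 := by rw [hc'']
      _ = (a₀.1 * u⁻¹ * a₀.1) * (a₀.1 * c * a₀.1) := by
          rw [show (a₀.1 * u⁻¹ * a₀.1) * (a₀.1 * c * a₀.1) = a₀.1 * u⁻¹ * (a₀.1 * a₀.1) * c * a₀.1 by group,
            ha₀s, mul_one]
          group
      _ = u * (a₀.1 * c * a₀.1) := by rw [huu]
  have hfix : ∀ c ∈ Cn u, c * a₀.1 = a₀.1 * c → c = 1 := by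
    intro c hc hca
    by_contra hc1
    -- c lies in C(a₀), a 2-group; a power of c is an involution in C(u)
    obtain ⟨R, hR⟩ := exists_mem a₀.2.1
    have h1 := (h.hC R a₀.1 hR (h.ne_one_of a₀.2.1)).2
    have h2 : c ∈ (R : Subgroup G) := by rw [← h1]; exact mem_Cn.mpr hca
    have h3 := (h.hC R c h2 hc1).1
    exact h.no_inv_in_Cn hu3 h3 hc
  have hinv := Cfsg.Agent.S3246.inverts_of_fixed_trivial (Cn u) a₀.1 ha₀s hN hfix
  refine Nat.card_congr ⟨fun a => ⟨a₀.1 * a.1, ?_⟩, fun c => ⟨a₀.1 * c.1, ?_, ?_⟩, ?_, ?_⟩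
  · -- a₀ a ∈ C(u)
    have hi : a.1⁻¹ = a.1 := by
      have := pow_orderOf_eq_one a.1
      rw [a.2.1, pow_two] at this
      exact inv_eq_of_mul_eq_one_left this
    have h1 := a.2.2
    rw [hi] at h1
    rw [mem_Cn]
    have has : a.1 * a.1 = 1 := by
      have := pow_orderOf_eq_one a.1
      rwa [a.2.1, pow_two] at this
    calc a₀.1 * a.1 * u = a₀.1 * (a.1 * u * a.1) * a.1 := by
          rw [show a₀.1 * (a.1 * u * a.1) * a.1 = a₀.1 * a.1 * u * (a.1 * a.1) by group, has, mul_one]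
      _ = a₀.1 * u⁻¹ * a.1 := by rw [h1]
      _ = (a₀.1 * u⁻¹ * a₀.1) * (a₀.1 * a.1) := by
          rw [show (a₀.1 * u⁻¹ * a₀.1) * (a₀.1 * a.1) = a₀.1 * u⁻¹ * (a₀.1 * a₀.1) * a.1 by group,
            ha₀s, mul_one]
      _ = u * (a₀.1 * a.1) := by rw [huu]
  · -- a₀ c is an involution
    have hc := hinv c.1 c.2
    rw [ha₀i] at hc
    have hsq : (a₀.1 * c.1) * (a₀.1 * c.1) = 1 := by
      calc (a₀.1 * c.1) * (a₀.1 * c.1) = (a₀.1 * c.1 * a₀.1) * c.1 := by group
        _ = 1 := by rw [hc]; group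
    have hne : a₀.1 * c.1 ≠ 1 := by
      intro e
      have h1 : a₀.1 = (c.1 : G)⁻¹ := eq_inv_of_mul_eq_one_left e
      have h2 : a₀.1 ∈ Cn u := by rw [h1]; exact Subgroup.inv_mem _ c.2
      exact h.no_inv_in_Cn hu3 a₀.2.1 h2
    exact orderOf_eq_prime (by rw [pow_two]; exact hsq) hne
  · -- it inverts u
    have hcu : c.1 * u = u * c.1 := mem_Cn.mp c.2
    calc a₀.1 * c.1 * u * (a₀.1 * c.1)⁻¹ = a₀.1 * (c.1 * u) * (c.1)⁻¹ * a₀.1⁻¹ := by group
      _ = a₀.1 * (u * c.1) * (c.1)⁻¹ * a₀.1⁻¹ := by rw [hcu]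
      _ = a₀.1 * u * a₀.1⁻¹ := by group
      _ = u⁻¹ := a₀.2.2
  · intro a
    apply Subtype.ext
    change a₀.1 * (a₀.1 * a.1) = a.1
    rw [← mul_assoc, ha₀s, one_mul]
  · intro c
    apply Subtype.ext
    change a₀.1 * (a₀.1 * c.1) = c.1
    rw [← mul_assoc, ha₀s, one_mul]

/-- An element of `S_u` moves every fixed point of `u` to another fixed point. -/
theorem Su_smul_mem {u : G} (a : Su u) {R : Sylow 2 G} (hR : u • R = R) : u • (a.1 • R) = a.1 • R := by
  have hi : a.1⁻¹ = a.1 := by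
    have := pow_orderOf_eq_one a.1
    rw [a.2.1, pow_two] at this
    exact inv_eq_of_mul_eq_one_left this
  have h1 : a.1 * u * a.1 = u⁻¹ := by
    have := a.2.2
    rwa [hi] at this
  have h2 : u * a.1 = a.1 * u⁻¹ := by
    have has : a.1 * a.1 = 1 := by
      have := pow_orderOf_eq_one a.1
      rwa [a.2.1, pow_two] at this
    calc u * a.1 = (a.1 * a.1) * u * a.1 := by rw [has, one_mul]
      _ = a.1 * (a.1 * u * a.1) := by group
      _ = a.1 * u⁻¹ := by rw [h1]
  have h3 : u⁻¹ • R = R := by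
    calc u⁻¹ • R = u⁻¹ • (u • R) := by rw [hR]
      _ = R := by rw [inv_smul_smul]
  rw [smul_smul, h2, mul_smul, h3]

theorem Su_smul_ne {u : G} (hu3 : orderOf u = 3) (a : Su u) {R : Sylow 2 G} (hR : u • R = R) :
    a.1 • R ≠ R := by
  intro e
  have h1 := (h.smul_eq_iff a.2.1).mp e
  exact h.not_inverts h1 (mem_Nm_iff.mpr hR) hu3 a.2.2

/-- Swappers of two fixed points of `u` invert `u`. -/
theorem Sw_inverts {u a : G} {R R' : Sylow 2 G} (hRR' : R ≠ R') (hu : u ∈ Dp R R')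
    (ha : orderOf a = 2) (haR : a • R = R') : a * u * a⁻¹ = u⁻¹ := by
  have h1 := h.mul_mem_Sw hRR' ⟨a, ha, haR⟩ hu
  have h2 : (a * u) * (a * u) = 1 := by
    have := pow_orderOf_eq_one (a * u)
    rwa [h1.1, pow_two] at this
  have has : a * a = 1 := by
    have := pow_orderOf_eq_one a
    rwa [ha, pow_two] at this
  have hi : a⁻¹ = a := inv_eq_of_mul_eq_one_left has
  rw [hi]
  calc a * u * a = (a * u) * (a * u) * u⁻¹ := by group
    _ = u⁻¹ := by rw [h2, one_mul]


omit h in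
/-- Counting with equal fibres. -/
theorem card_of_fiber {α β : Type*} [Finite α] [Finite β] (f : α → β) (k : ℕ)
    (hk : ∀ b, Nat.card {a // f a = b} = k) : Nat.card α = k * Nat.card β := by
  classical
  haveI := Fintype.ofFinite β
  rw [← Nat.card_congr (Equiv.sigmaFiberEquiv f), Nat.card_sigma]
  simp only [hk]
  rw [Finset.sum_const, Finset.card_univ, smul_eq_mul, mul_comm, Nat.card_eq_fintype_card]

omit h in
theorem card_ne {α : Type*} [Finite α] (a : α) : Nat.card {x // x ≠ a} + 1 = Nat.card α := by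
  classical
  haveI := Fintype.ofFinite α
  rw [Nat.card_eq_fintype_card, Nat.card_eq_fintype_card, Fintype.card_subtype_compl,
    Fintype.card_subtype_eq]
  have := Fintype.card_pos_iff.mpr ⟨a⟩
  omega

/-- `|S_u| = 3 (m - 1)`. -/
theorem card_Su_eq {u : G} {P : Sylow 2 G} (hu3 : orderOf u = 3) (hP : u • P = P) :
    Nat.card (Su u) = 3 * (Nat.card (Fx u) - 1) := by
  classical
  let P' : Fx u := ⟨P, hP⟩
  let f : Su u → {R : Fx u // R ≠ P'} := fun a => ⟨⟨a.1 • P, h.Su_smul_mem a hP⟩, fun e =>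
    h.Su_smul_ne hu3 a hP (congrArg Subtype.val e)⟩
  have h1 := card_of_fiber f 3 (by
    intro v
    rw [← h.card_Sw P v.1.1]
    apply Nat.card_congr
    refine ⟨fun a => ⟨a.1.1, a.1.2.1, congrArg (fun R : {R : Fx u // R ≠ P'} => R.1.1) a.2⟩,
      fun a => ⟨⟨a.1, a.2.1, ?_⟩, ?_⟩, fun a => rfl, fun a => rfl⟩
    · -- swappers invert u
      have hne : P ≠ v.1.1 := fun e => v.2 (Subtype.ext e.symm)
      exact h.Sw_inverts hne (mem_Dp.mpr ⟨hP, v.1.2⟩) a.2.1 a.2.2
    · apply Subtype.ext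
      apply Subtype.ext
      exact a.2.2)
  have h2 := card_ne P'
  rw [h1]
  congr 1
  omega

omit h in
theorem card_orbit_mul {H : Subgroup G} (R : Sylow 2 G) :
    Nat.card (MulAction.orbit H R) * Nat.card (MulAction.stabilizer H R) = Nat.card H := by
  have h1 := Subgroup.card_mul_index (MulAction.stabilizer H R)
  have h2 : (MulAction.stabilizer H R).index = Nat.card (MulAction.orbit H R) := by
    rw [MulAction.index_stabilizer]
    rfl
  rw [h2] at h1
  rw [mul_comm]
  exact h1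

/-- `u` has exactly two fixed points. -/
theorem card_Fx {P Q : Sylow 2 G} (hPQ : P ≠ Q) {u : G} (hu : u ∈ Dp P Q) (hu1 : u ≠ 1) :
    Nat.card (Fx u) = 2 := by
  classical
  have hu3 := h.orderOf_of_mem_Dp hPQ hu hu1
  obtain ⟨hP, hQ⟩ := mem_Dp.mp hu
  have ha₀ : Sw P Q := by
    have : 0 < Nat.card (Sw P Q) := by rw [h.card_Sw]; norm_num
    exact (Nat.card_pos_iff.mp this).1.some
  let a₀ : Su u := ⟨ha₀.1, ha₀.2.1, h.Sw_inverts hPQ hu ha₀.2.1 ha₀.2.2⟩
  have h1 := h.card_Su hu3 a₀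
  have h2 := h.card_Su_eq hu3 hP
  rw [h1] at h2
  set m := Nat.card (Fx u) with hm
  have hm2 : 2 ≤ m := by
    have : (⟨P, hP⟩ : Fx u) ≠ ⟨Q, hQ⟩ := fun e => hPQ (congrArg Subtype.val e)
    haveI : Nontrivial (Fx u) := ⟨⟨_, _, this⟩⟩
    exact Finite.one_lt_card
  -- orbits of C(u) on the fixed points
  have horb : ∀ R : Sylow 2 G, u • R = R →
      Nat.card (MulAction.orbit (Cn u) R) * 3 = Nat.card (Cn u) := by
    intro R hR
    have h3 := card_orbit_mul (H := Cn u) R
    have h4 : Nat.card (MulAction.stabilizer (Cn u) R) = 3 := by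
      rw [← h.card_Cn_inf_Nm hu3 (mem_Nm_iff.mpr hR)]
      apply Nat.card_congr
      refine ⟨fun c => ⟨c.1.1, c.1.2, mem_Nm_iff.mpr c.2⟩, fun c => ⟨⟨c.1, c.2.1⟩, ?_⟩, ?_, ?_⟩
      · exact mem_Nm_iff.mp c.2.2
      · intro c; rfl
      · intro c; rfl
    rw [h4] at h3
    exact h3
  have horbsub : ∀ R : Sylow 2 G, u • R = R → ∀ R' ∈ MulAction.orbit (Cn u) R, u • R' = R' := by
    rintro R hR _ ⟨c, rfl⟩
    change u • ((c : G) • R) = (c : G) • R
    rw [smul_smul]
    have : u * (c : G) = c * u := (mem_Cn.mp c.2).symm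
    rw [this, mul_smul, hR]
  have hsize : ∀ R : Sylow 2 G, u • R = R → Nat.card (MulAction.orbit (Cn u) R) = m - 1 := by
    intro R hR
    have h3 := horb R hR
    rw [h2] at h3
    omega
  by_contra hne
  have hm3 : 3 ≤ m := by omega
  -- a point outside the orbit of P
  let ι : MulAction.orbit (Cn u) P → Fx u := fun R => ⟨R.1, horbsub P hP R.1 R.2⟩
  have hι : Function.Injective ι := fun a b hab => Subtype.ext (congrArg (fun x : Fx u => x.1) hab)
  have hns : ¬ Function.Surjective ι := by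
    intro hs
    have := Nat.card_eq_of_bijective ι ⟨hι, hs⟩
    rw [hsize P hP] at this
    omega
  rw [Function.Surjective] at hns
  push Not at hns
  obtain ⟨S, hS⟩ := hns
  have hS' : S.1 ∉ MulAction.orbit (Cn u) P := fun e => hS ⟨S.1, e⟩ rfl
  have hdisj : ∀ T ∈ MulAction.orbit (Cn u) P, T ∉ MulAction.orbit (Cn u) S.1 := by
    intro T h1 h2
    apply hS'
    have e1 : MulAction.orbit (Cn u) T = MulAction.orbit (Cn u) P := MulAction.orbit_eq_iff.mpr h1
    have e2 : MulAction.orbit (Cn u) T = MulAction.orbit (Cn u) S.1 := MulAction.orbit_eq_iff.mpr h2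
    rw [← e1, e2]
    exact MulAction.mem_orbit_self _
  let κ : MulAction.orbit (Cn u) P ⊕ MulAction.orbit (Cn u) S.1 → Fx u := fun x =>
    match x with
    | Sum.inl R => ⟨R.1, horbsub P hP R.1 R.2⟩
    | Sum.inr R => ⟨R.1, horbsub S.1 S.2 R.1 R.2⟩
  have hκ : Function.Injective κ := by
    rintro (a | a) (b | b) hab
    · exact congrArg Sum.inl (Subtype.ext (congrArg (fun x : Fx u => x.1) hab))
    · have e : a.1 = b.1 := congrArg (fun x : Fx u => x.1) hab
      exact absurd b.2 (e ▸ hdisj a.1 a.2)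
    · have e : a.1 = b.1 := congrArg (fun x : Fx u => x.1) hab
      exact absurd a.2 (e.symm ▸ hdisj b.1 b.2)
    · exact congrArg Sum.inr (Subtype.ext (congrArg (fun x : Fx u => x.1) hab))
  have hle := Nat.card_le_card_of_injective κ hκ
  rw [Nat.card_sum, hsize P hP, hsize S.1 S.2] at hle
  omega

/-- Only the two points of a `Dp` are fixed. -/
theorem fixed_eq {P Q R : Sylow 2 G} (hPQ : P ≠ Q) {u : G} (hu : u ∈ Dp P Q) (hu1 : u ≠ 1)
    (hR : u • R = R) : R = P ∨ R = Q := by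
  by_contra hne
  push Not at hne
  obtain ⟨hP, hQ⟩ := mem_Dp.mp hu
  have h2 := h.card_Fx hPQ hu hu1
  have h3 : Nat.card (Fin 3) ≤ Nat.card (Fx u) := by
    refine Nat.card_le_card_of_injective
      (fun i : Fin 3 => if i.1 = 0 then (⟨P, hP⟩ : Fx u) else if i.1 = 1 then ⟨Q, hQ⟩ else ⟨R, hR⟩) ?_
    intro a b hab
    have e1 : (⟨P, hP⟩ : Fx u) ≠ ⟨Q, hQ⟩ := fun e => hPQ (congrArg Subtype.val e)
    have e2 : (⟨P, hP⟩ : Fx u) ≠ ⟨R, hR⟩ := fun e => hne.1 (congrArg Subtype.val e).symm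
    have e3 : (⟨Q, hQ⟩ : Fx u) ≠ ⟨R, hR⟩ := fun e => hne.2 (congrArg Subtype.val e).symm
    fin_cases a <;> fin_cases b <;> simp at hab ⊢ <;> first | exact absurd hab hPQ | exact absurd hab.symm hPQ | exact absurd hab.symm hne.1 | exact absurd hab hne.1 | exact absurd hab.symm hne.2 | exact absurd hab hne.2
  rw [h2] at h3
  simp at h3

/-- `P` acts semiregularly on the other Sylows. -/
theorem four_le_of_ne {P Q : Sylow 2 G} (hPQ : P ≠ Q) : 4 + 1 ≤ Nat.card (Sylow 2 G) := by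
  have h1 := card_ne P
  have h2 : 4 ≤ Nat.card {R : Sylow 2 G // R ≠ P} := by
    rw [← h.hP4 P]
    refine Nat.card_le_card_of_injective (fun a : (P : Subgroup G) => ⟨(a : G) • Q, ?_⟩) ?_
    · intro e
      have : (a : G) • P = P := mem_Nm_iff.mp (Subgroup.le_normalizer a.2)
      apply hPQ
      rw [← smul_left_cancel_iff (a : G), e, this]
    · intro a b hab
      have e : (a : G) • Q = (b : G) • Q := congrArg Subtype.val hab
      have e2 : ((b : G)⁻¹ * (a : G)) • Q = Q := by rw [mul_smul, e, inv_smul_smul]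
      by_contra hne
      have hne1 : (b : G)⁻¹ * (a : G) ≠ 1 := by
        intro e3
        apply hne
        apply Subtype.ext
        exact (inv_mul_eq_one.mp e3).symm
      have hmem : (b : G)⁻¹ * (a : G) ∈ (P : Subgroup G) := Subgroup.mul_mem _ (Subgroup.inv_mem _ b.2) a.2
      have ho := (h.hC P _ hmem hne1).1
      have hQ := (h.smul_eq_iff ho).mp e2
      exact hPQ (h.eq_of_mem hne1 hmem hQ)
  omega

/-- The counting replacement of the Sylow 3 argument. -/
theorem le_five (P : Sylow 2 G) : Nat.card (Sylow 2 G) ≤ 5 := by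
  classical
  have hex : ∀ R : {R : Sylow 2 G // R ≠ P}, ∃ u : G, u ∈ Dp P R.1 ∧ u ≠ 1 := by
    intro R
    have hc := h.card_Dp (P := P) (Q := R.1) (Ne.symm R.2)
    haveI : Nontrivial (Dp P R.1) := Finite.one_lt_card_iff_nontrivial.mp (by rw [hc]; norm_num)
    obtain ⟨c, hc1⟩ := exists_ne (1 : Dp P R.1)
    exact ⟨c.1, c.2, fun e => hc1 (Subtype.ext e)⟩
  choose u hu hu1 using hex
  have hord : ∀ R, orderOf (u R) = 3 := fun R => h.orderOf_of_mem_Dp (Ne.symm R.2) (hu R) (hu1 R)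
  let val : {R : Sylow 2 G // R ≠ P} × Bool → G := fun a => if a.2 then u a.1 else (u a.1)⁻¹
  have hval : ∀ a, val a ∈ Nm P := by
    rintro ⟨R, b⟩
    cases b
    · exact Subgroup.inv_mem _ (hu R).1
    · exact (hu R).1
  have hvalord : ∀ a, orderOf (val a) = 3 := by
    rintro ⟨R, b⟩
    cases b
    · simpa [val] using hord R
    · simpa [val] using hord R
  have hvalD : ∀ a, val a ∈ Dp P a.1.1 := by
    rintro ⟨R, b⟩
    cases b
    · exact Subgroup.inv_mem _ (hu R)
    · exact hu R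
  have hvalP : ∀ a, val a ∉ (P : Subgroup G) := by
    intro a ha
    have hne : val a ≠ 1 := by
      intro e
      have := hvalord a
      rw [e, orderOf_one] at this
      omega
    have := (h.hC P _ ha hne).1
    rw [hvalord a] at this
    omega
  have hvalinj : Function.Injective val := by
    rintro ⟨R, b⟩ ⟨S, c⟩ hab
    have hRS : R = S := by
      have h1 : val (R, b) ∈ Dp P S.1 := by rw [hab]; exact hvalD (S, c)
      have h2 : val (R, b) ≠ 1 := by
        intro e
        have := hvalord (R, b)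
        rw [e, orderOf_one] at this
        omega
      have hfix : val (R, b) • R.1 = R.1 := (mem_Dp.mp (hvalD (R, b))).2
      rcases h.fixed_eq (Ne.symm S.2) h1 h2 hfix with e | e
      · exact absurd e R.2
      · exact Subtype.ext e
    subst hRS
    have hb : b = c := by
      by_contra hne
      have hself : u R = (u R)⁻¹ := by
        cases b <;> cases c
        · exact absurd rfl hne
        · exact hab.symm
        · exact hab
        · exact absurd rfl hne
      have hs : (u R) ^ 2 = 1 := by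
        rw [pow_two]
        nth_rewrite 1 [hself]
        simp
      have := orderOf_dvd_of_pow_eq_one hs
      rw [hord R] at this
      omega
    rw [hb]
  let F : ({R : Sylow 2 G // R ≠ P} × Bool) ⊕ (P : Subgroup G) → Nm P := fun a =>
    match a with
    | Sum.inl a => ⟨val a, hval a⟩
    | Sum.inr a => ⟨a.1, Subgroup.le_normalizer a.2⟩
  have hF : Function.Injective F := by
    rintro (a | a) (b | b) hab
    · exact congrArg Sum.inl (hvalinj (congrArg Subtype.val hab))
    · have e : val a = b.1 := congrArg Subtype.val hab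
      exact absurd (e ▸ b.2) (hvalP a)
    · have e : a.1 = val b := congrArg Subtype.val hab
      exact absurd (e ▸ a.2) (hvalP b)
    · have e : a.1 = b.1 := congrArg (fun z : Nm P => z.1) hab
      exact congrArg Sum.inr (Subtype.ext e)
  have hle := Nat.card_le_card_of_injective F hF
  rw [Nat.card_sum, Nat.card_prod, h.hN P, h.hP4 P, Nat.card_eq_fintype_card (α := Bool),
    Fintype.card_bool] at hle
  have h2 := card_ne P
  omega

/-- If there are at least two Sylow subgroups, there are exactly five. -/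
theorem card_eq_five (hn : 1 < Nat.card (Sylow 2 G)) : Nat.card (Sylow 2 G) = 5 := by
  obtain ⟨P, Q, hPQ⟩ := (Finite.one_lt_card_iff_nontrivial.mp hn).exists_pair_ne
  have h1 := h.four_le_of_ne hPQ
  have h2 := h.le_five P
  omega

theorem iso_A5 (hn : 1 < Nat.card (Sylow 2 G)) : Nonempty (G ≃* alternatingGroup (Fin 5)) := by
  have h5 := h.card_eq_five hn
  have hG : Nat.card G = 60 := by
    rw [h.card_G, h5]
  refine Cfsg.Agent.Lib.ClassicalSmall.nonempty_equiv_alternating 5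
    (MulAction.toPermHom G (Sylow 2 G)) ?_ h5 (by rw [hG]; decide)
  rw [injective_iff_map_eq_one]
  intro k hk
  by_contra hk1
  have hfix : ∀ R : Sylow 2 G, k • R = R := by
    intro R
    have := congrArg (fun σ : Equiv.Perm (Sylow 2 G) => σ R) hk
    simpa using this
  obtain ⟨P, Q, hPQ⟩ := (Finite.one_lt_card_iff_nontrivial.mp hn).exists_pair_ne
  have h2 := h.card_Fx hPQ (mem_Dp.mpr ⟨hfix P, hfix Q⟩) hk1
  have h3 : Nat.card (Fx k) = Nat.card (Sylow 2 G) :=
    Nat.card_congr (Equiv.subtypeUnivEquiv hfix)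
  omega

end PB

/-- Construction of the data `PB` when the centralizer of `x` is a Sylow subgroup. -/
theorem PB.of_hyp {x : G} (T : Sylow 2 G) (hx : orderOf x = 2) (hT : (T : Subgroup G) = Cn x)
    (hC4 : Nat.card (Cn x) = 4) (hCe : ∀ c ∈ Cn x, c ^ 2 = 1)
    (hnc : ¬ Cfsg.HasNormalPComplement 2 G) : PB G := by
  classical
  have hxs : x * x = 1 := by
    have := pow_orderOf_eq_one x
    rwa [hx, pow_two] at this
  have hx1 : x ≠ 1 := by
    intro e
    rw [e, orderOf_one] at hx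
    omega
  have hxT : x ∈ (T : Subgroup G) := by rw [hT]; exact mem_Cn.mpr rfl
  have hTab : ∀ {a b : G}, a ∈ (T : Subgroup G) → b ∈ (T : Subgroup G) → a * b = b * a := by
    intro a b ha hb
    rw [hT] at ha hb
    exact comm_of_exp_two hCe ha hb
  -- a non central element of the normalizer
  have hg : ∃ g ∈ Nm T, g * x * g⁻¹ ≠ x := by
    by_contra hcon
    push Not at hcon
    have hle : Nm T ≤ Subgroup.centralizer ((T : Subgroup G) : Set G) := by
      intro g hg
      have h1 := hcon g hg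
      have h2 : g ∈ Cn x := by
        rw [mem_Cn]
        calc g * x = g * x * g⁻¹ * g := by group
          _ = x * g := by rw [h1]
      rw [← hT] at h2
      rw [Subgroup.mem_centralizer_iff]
      intro v hv
      exact hTab hv h2
    exact hnc ⟨T, _, MonoidHom.normal_ker _, MonoidHom.ker_transferSylow_isComplement' T hle⟩
  obtain ⟨g, hgN, hgx⟩ := hg
  have hconjT : ∀ {v : G}, v ∈ (T : Subgroup G) → g * v * g⁻¹ ∈ (T : Subgroup G) :=
    fun hv => (Subgroup.mem_normalizer_iff.mp hgN _).mp hv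
  set y := g * x * g⁻¹ with hy
  have hyT : y ∈ (T : Subgroup G) := hconjT hxT
  have hy1 : y ≠ 1 := by
    intro e
    apply hx1
    have : g⁻¹ * y * g = x := by rw [hy]; group
    rw [← this, e]; group
  have hgNi : g⁻¹ ∈ Nm T := Subgroup.inv_mem _ hgN
  set w := g * y * g⁻¹ with hw
  have hwT : w ∈ (T : Subgroup G) := hconjT hyT
  have hw1 : w ≠ 1 := by
    intro e
    apply hy1
    have : g⁻¹ * w * g = y := by rw [hw]; group
    rw [← this, e]; group
  have hwy : w ≠ y := by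
    intro e
    apply hgx
    have e1 : g * y * g⁻¹ = g * x * g⁻¹ := e
    have e2 : y = x := by
      have := congrArg (fun t => g⁻¹ * t * g) e1
      simpa [mul_assoc] using this
    exact e2
  have hwx : w ≠ x := by
    intro e
    -- g² centralizes x
    have h1 : g * g ∈ Cn x := by
      rw [mem_Cn]
      have : (g * g) * x * (g * g)⁻¹ = x := by
        calc (g * g) * x * (g * g)⁻¹ = g * (g * x * g⁻¹) * g⁻¹ := by group
          _ = x := e
      calc g * g * x = (g * g) * x * (g * g)⁻¹ * (g * g) := by group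
        _ = x * (g * g) := by rw [this]
    have h2 := hCe _ h1
    have hg4 : g ^ 4 = 1 := by
      rw [show g ^ 4 = (g * g) ^ 2 by rw [← pow_two, ← pow_mul]]
      exact h2
    have hz : IsPGroup 2 (Subgroup.zpowers g) := by
      rw [IsPGroup.iff_card]
      have h3 : orderOf g ∣ 2 ^ 2 := orderOf_dvd_of_pow_eq_one (by simpa using hg4)
      obtain ⟨k, -, hk⟩ := (Nat.dvd_prime_pow Nat.prime_two).mp h3
      exact ⟨k, by rw [Nat.card_zpowers, hk]⟩
    have hle : Subgroup.zpowers g ≤ Nm T := by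
      rw [Subgroup.zpowers_le]; exact hgN
    have hsup := T.isPGroup'.to_sup_of_normal_left' hz hle
    have h4 := T.is_maximal' hsup le_sup_left
    have h5 : g ∈ ((T : Subgroup G) ⊔ Subgroup.zpowers g) :=
      (le_sup_right : Subgroup.zpowers g ≤ _) (Subgroup.mem_zpowers g)
    rw [h4] at h5
    apply hgx
    have := hTab h5 hxT
    rw [hy, this]
    group
  have hyx : y ≠ x := hgx
  have hyV : y ∈ Cn x := by rw [← hT]; exact hyT
  have hcases : ∀ {v : G}, v ∈ (T : Subgroup G) → v = 1 ∨ v = x ∨ v = y ∨ v = x * y := by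
    intro v hv
    rw [hT] at hv
    exact V_cases' hxs hx1 hC4 hyV hy1 hyx hv
  have hwxy : w = x * y := by
    rcases hcases hwT with e | e | e | e
    · exact absurd e hw1
    · exact absurd e hwx
    · exact absurd e hwy
    · exact e
  -- every nontrivial element of `T` is `N(T)`-conjugate to `x`
  have hconjN : ∀ {v : G}, v ∈ (T : Subgroup G) → v ≠ 1 → ∃ c ∈ Nm T, v = c * x * c⁻¹ := by
    intro v hv hv1
    rcases hcases hv with e | e | e | e
    · exact absurd e hv1
    · exact ⟨1, Subgroup.one_mem _, by rw [e]; group⟩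
    · exact ⟨g, hgN, by rw [e]⟩
    · refine ⟨g * g, Subgroup.mul_mem _ hgN hgN, ?_⟩
      rw [e, ← hwxy, hw, hy]
      group
  have hcardT : Nat.card (T : Subgroup G) = 4 := by rw [hT]; exact hC4
  -- the normalizer has order 12
  have hNT : Nat.card (Nm T) = 12 := by
    let f : Nm T → {v : (T : Subgroup G) // v ≠ 1} := fun n =>
      ⟨⟨n.1 * x * n.1⁻¹, (Subgroup.mem_normalizer_iff.mp n.2 _).mp hxT⟩, fun e => by
        have e1 : n.1 * x * n.1⁻¹ = 1 := congrArg Subtype.val e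
        apply hx1
        have : n.1⁻¹ * (n.1 * x * n.1⁻¹) * n.1 = x := by group
        rw [← this, e1]; group⟩
    have h1 := PB.card_of_fiber f 4 (by
      intro v
      have hv1 : v.1.1 ≠ 1 := fun e => v.2 (Subtype.ext e)
      obtain ⟨c, hc, hcv⟩ := hconjN v.1.2 hv1
      rw [← hcardT]
      apply Nat.card_congr
      refine ⟨fun n => ⟨c⁻¹ * n.1.1, ?_⟩, fun t => ⟨⟨c * t.1, ?_⟩, ?_⟩, ?_, ?_⟩
      · apply hT.ge
        rw [mem_Cn]
        have e1 : n.1.1 * x * n.1.1⁻¹ = c * x * c⁻¹ := by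
          rw [← hcv]
          exact congrArg (fun z : {v : (T : Subgroup G) // v ≠ 1} => z.1.1) n.2
        have e2 : (c⁻¹ * n.1.1) * x * (c⁻¹ * n.1.1)⁻¹ = x := by
          calc (c⁻¹ * n.1.1) * x * (c⁻¹ * n.1.1)⁻¹ = c⁻¹ * (n.1.1 * x * n.1.1⁻¹) * c := by group
            _ = c⁻¹ * (c * x * c⁻¹) * c := by rw [e1]
            _ = x := by group
        calc c⁻¹ * n.1.1 * x = (c⁻¹ * n.1.1) * x * (c⁻¹ * n.1.1)⁻¹ * (c⁻¹ * n.1.1) := by group
          _ = x * (c⁻¹ * n.1.1) := by rw [e2]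
      · exact Subgroup.mul_mem _ hc (Subgroup.le_normalizer t.2)
      · apply Subtype.ext
        apply Subtype.ext
        change (c * t.1) * x * (c * t.1)⁻¹ = v.1.1
        have ht : (t.1 : G) * x = x * t.1 := hTab t.2 hxT
        rw [hcv]
        calc (c * t.1) * x * (c * t.1)⁻¹ = c * ((t.1 : G) * x) * (t.1 : G)⁻¹ * c⁻¹ := by group
          _ = c * (x * t.1) * (t.1 : G)⁻¹ * c⁻¹ := by rw [ht]
          _ = c * x * c⁻¹ := by group
      · intro n
        apply Subtype.ext
        apply Subtype.ext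
        change c * (c⁻¹ * n.1.1) = n.1.1
        group
      · intro t
        apply Subtype.ext
        change c⁻¹ * (c * t.1) = t.1
        group)
    have h2 := PB.card_ne (1 : (T : Subgroup G))
    rw [hcardT] at h2
    rw [h1]
    omega
  have hcardG : Nat.card G = 12 * Nat.card (Sylow 2 G) := by
    have h1 := Subgroup.card_mul_index (Nm T)
    have h2 : Nat.card (Sylow 2 G) = (Nm T).index := Sylow.card_eq_index_normalizer T
    rw [hNT, ← h2] at h1
    exact h1.symm
  -- every nontrivial element of a Sylow subgroup is conjugate to `x`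
  have hall : ∀ (P : Sylow 2 G) (a : G), a ∈ (P : Subgroup G) → a ≠ 1 → IsConj x a := by
    intro P a ha ha1
    obtain ⟨h', rfl⟩ := MulAction.exists_smul_eq G T P
    have hv : h'⁻¹ * a * h' ∈ (T : Subgroup G) := by
      rw [Sylow.coe_subgroup_smul, Subgroup.mem_pointwise_smul_iff_inv_smul_mem] at ha
      simpa [MulAut.smul_def, MulAut.conj_apply] using ha
    have hv1 : h'⁻¹ * a * h' ≠ 1 := by
      intro e
      apply ha1
      have : h' * (h'⁻¹ * a * h') * h'⁻¹ = a := by group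
      rw [← this, e]; group
    obtain ⟨c, -, hc⟩ := hconjN hv hv1
    rw [isConj_iff]
    refine ⟨h' * c, ?_⟩
    calc h' * c * x * (h' * c)⁻¹ = h' * (c * x * c⁻¹) * h'⁻¹ := by group
      _ = h' * (h'⁻¹ * a * h') * h'⁻¹ := by rw [hc]
      _ = a := by group
  have hP4 : ∀ P : Sylow 2 G, Nat.card (P : Subgroup G) = 4 := fun P => by
    rw [← hcardT]
    exact Nat.card_congr (Sylow.equiv P T).toEquiv
  refine ⟨?_, hP4, ?_, ?_⟩
  · intro P
    have h1 := Subgroup.card_mul_index (Nm P)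
    have h2 : Nat.card (Sylow 2 G) = (Nm P).index := Sylow.card_eq_index_normalizer P
    rw [← h2, hcardG] at h1
    have hpos : 0 < Nat.card (Sylow 2 G) := Nat.card_pos
    exact Nat.eq_of_mul_eq_mul_right hpos h1
  · intro P a ha ha1
    have hc := hall P a ha ha1
    obtain ⟨c, hc'⟩ := isConj_iff.mp hc
    have hoa : orderOf a = 2 := by
      rw [← hx, ← hc']
      have := MulEquiv.orderOf_eq (MulAut.conj c) x
      simpa [MulAut.conj_apply] using this
    refine ⟨hoa, ?_⟩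
    -- `P` is abelian as all its elements are in `h T h⁻¹`
    obtain ⟨h', rfl⟩ := MulAction.exists_smul_eq G T P
    have hcard : Nat.card (Cn a) = 4 := by
      rw [← hc', card_Cn_conj, hC4]
    have hmemT : ∀ b, b ∈ ((h' • T : Sylow 2 G) : Subgroup G) → h'⁻¹ * b * h' ∈ (T : Subgroup G) := by
      intro b hb
      rw [Sylow.coe_subgroup_smul, Subgroup.mem_pointwise_smul_iff_inv_smul_mem] at hb
      simpa [MulAut.smul_def, MulAut.conj_apply] using hb
    symm
    apply Subgroup.eq_of_le_of_card_ge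
    · intro b hb
      rw [mem_Cn]
      have h1 := hTab (hmemT b hb) (hmemT a ha)
      calc b * a = h' * ((h'⁻¹ * b * h') * (h'⁻¹ * a * h')) * h'⁻¹ := by group
        _ = h' * ((h'⁻¹ * a * h') * (h'⁻¹ * b * h')) * h'⁻¹ := by rw [h1]
        _ = a * b := by group
    · rw [hcard, hP4]
  · -- all involutions are conjugate to `x`
    have h1 := Cfsg.Agent.Lib.InvolutionFusion.card_conj_mul_card_centralizer x
    rw [hC4] at h1
    rw [← h1]
    congr 1
    apply Nat.card_congr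
    refine ⟨fun a => ⟨a.1, ?_⟩, fun a => ⟨a.1, ?_⟩, fun a => rfl, fun a => rfl⟩
    · obtain ⟨P, hP⟩ := PB.exists_mem a.2
      have ha1 : a.1 ≠ 1 := by
        intro e
        have := a.2
        rw [e, orderOf_one] at this
        omega
      exact hall P a.1 hP ha1
    · obtain ⟨c, hc'⟩ := isConj_iff.mp a.2
      rw [← hx, ← hc']
      have := MulEquiv.orderOf_eq (MulAut.conj c) x
      simpa [MulAut.conj_apply] using this

end Cfsg.Agent.Lib.KleinCent
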