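import Mathlib
import Cfsg.Agent.Lib.ZPerfF
import Cfsg.Agent.Lib.BurnsidePQ
import Cfsg.Agent.S3277
import Cfsg.Agent.S3378

/-!
# Perfect Frobenius complements with Sylow `2`-subgroup `Q₈` are `SL(2,5)`
-/

set_option autoImplicit false
set_option linter.style.haveILetI false
set_option linter.unusedSectionVars false
set_option linter.unusedSimpArgs false
set_option linter.unusedVariables false

namespace Cfsg.Agent.Lib.ZPerfG

open Subgroup Cfsg.Agent.Lib.ZPerfA Cfsg.Agent.Lib.ZPerfB Cfsg.Agent.Lib.ZPerfC Cfsg.Agent.Lib.ZPerfD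
  Cfsg.Agent.Lib.ZPerfE Cfsg.Agent.Lib.ZPerfF
open QuaternionGroup

theorem qg2_elts : ∀ s t : QuaternionGroup 2, s * s ≠ 1 → t * t = s * s → t * s * t⁻¹ = s⁻¹ →
    ∀ g, g = 1 ∨ g = s * s ∨ g = s ∨ g = s⁻¹ ∨ g = t ∨ g = t⁻¹ ∨ g = s * t ∨ g = (s * t)⁻¹ := by
  decide +kernel

theorem qg2_comm : ∀ s i₀ : QuaternionGroup 2, s * i₀ = i₀ * s → i₀ * i₀ ≠ 1 →
    s = 1 ∨ s = i₀ * i₀ ∨ s = i₀ ∨ s = i₀⁻¹ := by
  decide +kernel

theorem qg2_sq : ∀ s : QuaternionGroup 2, s * s = 1 ∨ s * s = a 2 := by decide +kernel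

variable {G : Type*} [Group G]

/-- The normalizer of a subgroup of prime order. -/
theorem mem_normalizer_of_conj_mem [Finite G] {ℓ : ℕ} [Fact ℓ.Prime] {r₀ g : G} (hr1 : r₀ ≠ 1) (hr : r₀ ^ ℓ = 1)
    (h : g * r₀ * g⁻¹ ∈ zpowers r₀) : g ∈ normalizer (zpowers r₀ : Set G) := by
  have hy1 : g * r₀ * g⁻¹ ≠ 1 := fun e => hr1 (conj_eq_one_iff.mp e)
  have hy : (g * r₀ * g⁻¹) ^ ℓ = 1 := by
    rw [conj_pow, hr]; group
  have hc : IsCyclic (zpowers r₀) := inferInstance
  have h1 : r₀ ∈ zpowers (g * r₀ * g⁻¹) := mem_zpowers_of_cyclic (ℓ := ℓ) hc h (mem_zpowers r₀) hy1 hy hr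
  obtain ⟨m, hm⟩ := Subgroup.mem_zpowers_iff.mp h1
  obtain ⟨k, hk⟩ := Subgroup.mem_zpowers_iff.mp h
  rw [mem_normalizer_iff]
  intro u
  constructor
  · intro hu
    obtain ⟨n, rfl⟩ := Subgroup.mem_zpowers_iff.mp hu
    rw [← conj_zpow]
    exact zpow_mem h n
  · intro hu
    have e : g⁻¹ * r₀ * g = r₀ ^ m := by
      have : r₀ ^ m = g⁻¹ * (g * r₀ ^ m * g⁻¹) * g := by group
      rw [this, ← conj_zpow, hm]
    have h2 : ∀ n : ℤ, g⁻¹ * r₀ ^ n * g ∈ zpowers r₀ := by
      intro n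
      have e3 := conj_zpow (a := g⁻¹) (b := r₀) (i := n)
      rw [inv_inv] at e3
      rw [← e3, e]
      exact zpow_mem (zpow_mem (mem_zpowers r₀) m) n
    obtain ⟨n, hn⟩ := Subgroup.mem_zpowers_iff.mp hu
    have : u = g⁻¹ * r₀ ^ n * g := by
      rw [hn]; group
    rw [this]
    exact h2 n

/-- An element normalizing a subgroup of prime order `ℓ` with order coprime to `ℓ - 1` centralizes it. -/
theorem comm_of_coprime [Finite G] {ℓ : ℕ} [hℓ : Fact ℓ.Prime] {r₀ r' : G} (hr1 : r₀ ≠ 1) (hr : r₀ ^ ℓ = 1)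
    (h : r' * r₀ * r'⁻¹ ∈ zpowers r₀) (hcop : (orderOf r').Coprime (ℓ - 1)) : r' * r₀ = r₀ * r' := by
  have hn := mem_normalizer_of_conj_mem hr1 hr h
  let φ := (zpowers r₀).normalizerMonoidHom
  have h1 : orderOf (φ ⟨r', hn⟩) ∣ orderOf r' := by
    have h2 := orderOf_map_dvd φ (⟨r', hn⟩ : normalizer (zpowers r₀ : Set G))
    rwa [Subgroup.orderOf_mk] at h2
  have h3 : orderOf (φ ⟨r', hn⟩) ∣ ℓ - 1 := by
    have h4 := orderOf_dvd_natCard (φ ⟨r', hn⟩)
    have hc : IsCyclic (zpowers r₀) := inferInstance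
    rw [hc.card_mulAut, Nat.card_zpowers, orderOf_eq_prime hr hr1, Nat.totient_prime hℓ.out] at h4
    exact h4
  have h5 : φ ⟨r', hn⟩ = 1 := orderOf_eq_one_iff.mp (Nat.eq_one_of_dvd_coprimes hcop h1 h3)
  have h6 := DFunLike.congr_fun h5 ⟨r₀, mem_zpowers r₀⟩
  have h7 : r' * r₀ * r'⁻¹ = r₀ := congrArg Subtype.val h6
  rwa [mul_inv_eq_iff_eq_mul] at h7

section main

variable {F U : Type*} [Field F] [AddCommGroup U] [Module F U] [Finite G] [FiniteDimensional F U] [Nontrivial U]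
  {ρ : G →* Module.End F U} {z : G} {p : ℕ} [Finite F] [hp : Fact p.Prime] [CharP F p]

/-- The standing assumptions of this file. -/
structure Q8Ctx (ρ : G →* Module.End F U) (z : G) (p : ℕ) (T : Sylow 2 G) (e : (T : Subgroup G) ≃* QuaternionGroup 2)
    (i j x : G) : Prop where
  C : Ctx ρ z p
  hG : commutator G = ⊤
  hS : SylHyp G
  hf : Frame z i j x
  hi : i ∈ (T : Subgroup G)
  hj : j ∈ (T : Subgroup G)

variable {T : Sylow 2 G} {e : (T : Subgroup G) ≃* QuaternionGroup 2} {i j x : G}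

theorem Q8Ctx.T_elts (H : Q8Ctx ρ z p T e i j x) {g : G} (hg : g ∈ (T : Subgroup G)) :
    g = 1 ∨ g = z ∨ g = i ∨ g = i⁻¹ ∨ g = j ∨ g = j⁻¹ ∨ g = i * j ∨ g = (i * j)⁻¹ := by
  let f : QuaternionGroup 2 →* G := (T : Subgroup G).subtype.comp e.symm.toMonoidHom
  have hfe : ∀ (g : G) (hg : g ∈ (T : Subgroup G)), f (e ⟨g, hg⟩) = g := by
    intro g hg; simp [f]
  have hfi := hfe i H.hi
  have hfj := hfe j H.hj
  have hinj : Function.Injective f := by
    intro u v h
    exact e.symm.injective (Subtype.ext h)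
  set s := e ⟨i, H.hi⟩ with hs
  set t := e ⟨j, H.hj⟩ with ht
  have hf := H.hf
  have hC := H.C
  have a1 : s * s ≠ 1 := by
    intro h
    have := congrArg f h
    rw [map_mul, map_one, hfi, hf.ii] at this
    exact hC.z_ne this
  have a2 : t * t = s * s := by
    apply hinj
    rw [map_mul, map_mul, hfi, hfj, hf.ii, hf.jj]
  have a3 : t * s * t⁻¹ = s⁻¹ := by
    apply hinj
    rw [map_mul, map_mul, map_inv, map_inv, hfi, hfj, hf.ji]
  have hgf := hfe g hg
  rcases qg2_elts s t a1 a2 a3 (e ⟨g, hg⟩) with h | h | h | h | h | h | h | h <;> rw [h] at hgf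
  · left; rw [← hgf, map_one]
  · right; left; rw [← hgf, map_mul, hfi, hf.ii]
  · right; right; left; rw [← hgf, hfi]
  · right; right; right; left; rw [← hgf, map_inv, hfi]
  · right; right; right; right; left; rw [← hgf, hfj]
  · right; right; right; right; right; left; rw [← hgf, map_inv, hfj]
  · right; right; right; right; right; right; left; rw [← hgf, map_mul, hfi, hfj]
  · right; right; right; right; right; right; right; rw [← hgf, map_inv, map_mul, hfi, hfj]

/-- Elements of `2`-power order commuting with `i`. -/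
theorem Q8Ctx.two_elt_comm (H : Q8Ctx ρ z p T e i j x) {s : G} {k : ℕ} (hs : s ^ 2 ^ k = 1) (hsi : s * i = i * s) :
    s = 1 ∨ s = z ∨ s = i ∨ s = i⁻¹ := by
  haveI : Fact (Nat.Prime 2) := ⟨Nat.prime_two⟩
  have hf := H.hf
  have hC := H.C
  have h4 : i ^ 2 ^ 2 = 1 := by
    have : i ^ 2 ^ 2 = (i * i) * (i * i) := by rw [show (2 : ℕ) ^ 2 = 2 + 2 from rfl, pow_add, pow_two]
    rw [this, hf.ii, hC.zz]
  have hB := IsPGroup.to_sup_of_normal_right' (zpowers_isP hs) (zpowers_isP h4)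
    (by rw [zpowers_le]; exact mem_normalizer_of_comm hsi)
  obtain ⟨T', hT'⟩ := hB.exists_le_sylow
  have hi' : i ∈ (T' : Subgroup G) := hT' ((le_sup_right : zpowers i ≤ _) (mem_zpowers i))
  have hs' : s ∈ (T' : Subgroup G) := hT' ((le_sup_left : zpowers s ≤ _) (mem_zpowers s))
  let e' : (T' : Subgroup G) ≃* QuaternionGroup 2 := (Sylow.equiv T' T).trans e
  let f : QuaternionGroup 2 →* G := (T' : Subgroup G).subtype.comp e'.symm.toMonoidHom
  have hfe : ∀ (g : G) (hg : g ∈ (T' : Subgroup G)), f (e' ⟨g, hg⟩) = g := by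
    intro g hg; simp [f]
  have hfi := hfe i hi'
  have hfs := hfe s hs'
  have hinj : Function.Injective f := by
    intro u v h
    exact e'.symm.injective (Subtype.ext h)
  have a1 : e' ⟨s, hs'⟩ * e' ⟨i, hi'⟩ = e' ⟨i, hi'⟩ * e' ⟨s, hs'⟩ := by
    apply hinj
    rw [map_mul, map_mul, hfi, hfs, hsi]
  have a2 : e' ⟨i, hi'⟩ * e' ⟨i, hi'⟩ ≠ 1 := by
    intro h
    have := congrArg f h
    rw [map_mul, map_one, hfi, hf.ii] at this
    exact hC.z_ne this
  rcases qg2_comm _ _ a1 a2 with h | h | h | h <;> rw [h] at hfs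
  · left; rw [← hfs, map_one]
  · right; left; rw [← hfs, map_mul, hfi, hf.ii]
  · right; right; left; rw [← hfs, hfi]
  · right; right; right; rw [← hfs, map_inv, hfi]

/-- The elements of `C_G(i)`: odd part times `⟨i⟩`. -/
theorem Q8Ctx.decomp (H : Q8Ctx ρ z p T e i j x) :
    ∃ (R : Subgroup (centralizer ({i} : Set G))), ¬ 2 ∣ Nat.card R ∧
      (∀ r : centralizer ({i} : Set G), Odd (orderOf r) → r ∈ R) ∧
      ∀ c : G, c * i = i * c → ∃ (r : R) (s : G), c = ((r : centralizer ({i} : Set G)) : G) * s ∧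
        (s = 1 ∨ s = z ∨ s = i ∨ s = i⁻¹) := by
  have hf := H.hf
  have hC := H.C
  have hii : i * i ≠ 1 := by rw [hf.ii]; exact hC.z_ne
  have hi4 : i ^ 4 = 1 := by
    have : i ^ 4 = (i * i) * (i * i) := by rw [show (4 : ℕ) = 2 + 2 from rfl, pow_add, pow_two]
    rw [this, hf.ii, hC.zz]
  obtain ⟨R, hRn, hR2, hRodd, P, hc, hcyc⟩ := exists_complement H.hS hii hi4
  refine ⟨R, hR2, hRodd, ?_⟩
  intro c hc'
  have hcX : c ∈ centralizer ({i} : Set G) := Subgroup.mem_centralizer_singleton_iff.mpr hc'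
  obtain ⟨⟨r, s⟩, hrs⟩ := hc.2 ⟨c, hcX⟩
  refine ⟨r, ((s : centralizer ({i} : Set G)) : G), ?_, ?_⟩
  · have := congrArg Subtype.val hrs
    exact this.symm
  · obtain ⟨k, hk⟩ := P.2 s
    have h1 : ((s : centralizer ({i} : Set G)) : G) ^ 2 ^ k = 1 := by
      have := congrArg (fun u : (P : Subgroup (centralizer ({i} : Set G))) => ((u : centralizer ({i} : Set G)) : G)) hk
      simpa using this
    exact H.two_elt_comm h1 (Subgroup.mem_centralizer_singleton_iff.mp (s : centralizer ({i} : Set G)).2)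

/-- Any element of `T` with square `z` can be moved to `i` by an element of `⟨j, x⟩`. -/
theorem Q8Ctx.exists_mover (H : Q8Ctx ρ z p T e i j x) {q : G} (hq : q ∈ (T : Subgroup G)) (hq2 : q * q = z) {r : G}
    (hri : r * i = i * r) (hrj : r * j = j * r) (hrx : r * x = x * r) :
    ∃ u : G, u * r = r * u ∧ u * q * u⁻¹ = i := by
  have hf := H.hf
  have hC := H.C
  have hz1 := hC.z_ne
  have cj : Commute r j := hrj
  have cx : Commute r x := hrx
  have hjinv : j * i⁻¹ * j⁻¹ = i := by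
    have := hf.ji
    rw [← inv_inj] at this
    simpa [mul_assoc] using this
  have hx3 : x * x * x = 1 := by
    have := hf.x3
    rwa [pow_succ, pow_two] at this
  have e1 : x⁻¹ * j * x = i := by
    rw [← hf.xi]; group
  have e2 : x⁻¹ * j⁻¹ * x = i⁻¹ := by
    rw [← hf.xi]; group
  have e3 : x * (i * j)⁻¹ * x⁻¹ = i := by
    rw [← hf.xj]
    calc x * (x * j * x⁻¹) * x⁻¹ = x * (x * (x * i * x⁻¹) * x⁻¹) * x⁻¹ := by rw [hf.xi]
      _ = (x * x * x) * i * (x * x * x)⁻¹ := by group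
      _ = i := by rw [hx3]; group
  have e4 : x * (i * j) * x⁻¹ = i⁻¹ := by
    have : x * (i * j) * x⁻¹ = (x * (i * j)⁻¹ * x⁻¹)⁻¹ := by group
    rw [this, e3]
  rcases H.T_elts hq with h | h | h | h | h | h | h | h
  · exfalso
    rw [h, one_mul] at hq2
    exact hz1 hq2.symm
  · exfalso
    rw [h, hC.zz] at hq2
    exact hz1 hq2.symm
  · exact ⟨1, by simp, by rw [h]; group⟩
  · exact ⟨j, cj.eq.symm, by rw [h]; exact hjinv⟩
  · exact ⟨x⁻¹, (cx.inv_right).eq.symm, by rw [h, inv_inv]; exact e1⟩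
  · refine ⟨j * x⁻¹, (cj.mul_right cx.inv_right).eq.symm, ?_⟩
    rw [h]
    calc j * x⁻¹ * j⁻¹ * (j * x⁻¹)⁻¹ = j * (x⁻¹ * j⁻¹ * x) * j⁻¹ := by group
      _ = i := by rw [e2, hjinv]
  · refine ⟨j * x, (cj.mul_right cx).eq.symm, ?_⟩
    rw [h]
    calc j * x * (i * j) * (j * x)⁻¹ = j * (x * (i * j) * x⁻¹) * j⁻¹ := by group
      _ = i := by rw [e4, hjinv]
  · exact ⟨x, cx.eq.symm, by rw [h]; exact e3⟩

/-- The odd part of `C_G(i)` is trivial. -/
theorem Q8Ctx.odd_trivial (H : Q8Ctx ρ z p T e i j x) {r : G} (hri : r * i = i * r) (hodd : Odd (orderOf r)) : r = 1 := by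
  classical
  have hf := H.hf
  have hC := H.C
  have hG := H.hG
  have hS := H.hS
  by_contra hr1
  obtain ⟨R, hR2, hRodd, hdec⟩ := H.decomp
  have hm : ∀ g : G, g ∈ centralizer ({i} : Set G) ↔ g * i = i * g := fun g => Subgroup.mem_centralizer_singleton_iff
  have hrR : (⟨r, (hm r).mpr hri⟩ : centralizer ({i} : Set G)) ∈ R := by
    apply hRodd
    rwa [Subgroup.orderOf_mk]
  have hcard : Nat.card R ≠ 1 := by
    intro h
    have h1 := Subgroup.card_eq_one.mp h
    rw [h] at hR2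
    rw [h1] at hrR
    exact hr1 (congrArg Subtype.val (Subgroup.mem_bot.mp hrR))
  obtain ⟨ℓ, hℓ⟩ : ∃ ℓ, (Nat.card R).minFac = ℓ := ⟨_, rfl⟩
  haveI hℓp : Fact ℓ.Prime := ⟨hℓ ▸ Nat.minFac_prime hcard⟩
  have hd : ℓ ∣ Nat.card R := hℓ ▸ Nat.minFac_dvd _
  have hℓ2 : ℓ ≠ 2 := by
    rintro rfl
    exact hR2 hd
  obtain ⟨r₁, hr₁⟩ := exists_prime_orderOf_dvd_card' (G := R) ℓ hd
  set r₀ : G := ((r₁ : centralizer ({i} : Set G)) : G) with hr₀
  have hr₀o : orderOf r₀ = ℓ := by
    rw [hr₀, Subgroup.orderOf_coe, Subgroup.orderOf_coe, hr₁]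
  have hr₀1 : r₀ ≠ 1 := by
    rintro e
    rw [e, orderOf_one] at hr₀o
    exact hℓp.out.one_lt.ne hr₀o
  have hr₀ℓ : r₀ ^ ℓ = 1 := by
    rw [← hr₀o]; exact pow_orderOf_eq_one r₀
  have hr₀i : r₀ * i = i * r₀ := (hm _).mp (r₁ : centralizer ({i} : Set G)).2
  have hoddr₀ : Odd (orderOf r₀) := by
    rw [hr₀o]
    exact hℓp.out.odd_of_ne_two hℓ2
  have hr₀j : r₀ * j = j * r₀ := by
    have := Ctx.F3 hC hS hf hr₀i hoddr₀
    rw [mul_inv_eq_iff_eq_mul] at this
    exact this.symm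
  have hr₀x : r₀ * x = x * r₀ := Base.comm_x hC.toBase hf hr₀i hr₀j
  have hr₀z : r₀ * z = z * r₀ := hC.z_central r₀
  have cI : Commute r₀ i := hr₀i
  have cJ : Commute r₀ j := hr₀j
  have cZ : Commute r₀ z := hr₀z
  have hr₀T : r₀ ∈ centralizer ((T : Subgroup G) : Set G) := by
    rw [Subgroup.mem_centralizer_iff]
    intro g hg
    have h1 : Commute r₀ g := by
      rcases H.T_elts hg with h | h | h | h | h | h | h | h <;> rw [h]
      · exact Commute.one_right r₀
      · exact cZ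
      · exact cI
      · exact cI.inv_right
      · exact cJ
      · exact cJ.inv_right
      · exact cI.mul_right cJ
      · exact (cI.mul_right cJ).inv_right
    exact h1.eq.symm
  refine lemmaB' hG hS hℓ2 hr₀1 hr₀ℓ ?_
  intro w hw
  set y := w * r₀ * w⁻¹ with hy
  have cy : ∀ g : G, Commute r₀ g → Commute y g := by
    intro g hg
    obtain ⟨k, hk⟩ := Subgroup.mem_zpowers_iff.mp hw
    rw [← hk]
    exact hg.zpow_left k
  have hyT : w⁻¹⁻¹ * r₀ * w⁻¹ ∈ centralizer ((T : Subgroup G) : Set G) := by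
    rw [inv_inv, Subgroup.mem_centralizer_iff]
    intro g hg
    have h1 : Commute r₀ g := (Subgroup.mem_centralizer_iff.mp hr₀T g hg).symm
    exact (cy g h1).eq.symm
  obtain ⟨n, hn, hne⟩ := T.conj_eq_normalizer_conj_of_mem_centralizer r₀ w⁻¹ hr₀T hyT
  rw [inv_inv] at hne
  have hnn : n⁻¹ ∈ normalizer ((T : Subgroup G) : Set G) := inv_mem hn
  have hq : n⁻¹ * i * n ∈ (T : Subgroup G) := by
    have := (mem_normalizer_iff.mp hnn i).mp H.hi
    rwa [inv_inv] at this
  have hq2 : (n⁻¹ * i * n) * (n⁻¹ * i * n) = z := by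
    calc (n⁻¹ * i * n) * (n⁻¹ * i * n) = n⁻¹ * (i * i) * n := by group
      _ = z := by rw [hf.ii, hC.z_central n⁻¹]; group
  obtain ⟨u, hu1, hu2⟩ := H.exists_mover hq hq2 hr₀i hr₀j hr₀x
  have hc : (u * n⁻¹) * i = i * (u * n⁻¹) := by
    have : (u * n⁻¹) * i * (u * n⁻¹)⁻¹ = i := by
      calc (u * n⁻¹) * i * (u * n⁻¹)⁻¹ = u * (n⁻¹ * i * n) * u⁻¹ := by group
        _ = i := hu2
    rwa [mul_inv_eq_iff_eq_mul] at this
  obtain ⟨r', s, hrs, hs⟩ := hdec _ hc
  have cS : Commute r₀ s := by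
    rcases hs with h | h | h | h <;> rw [h]
    · exact Commute.one_right r₀
    · exact cZ
    · exact cI
    · exact cI.inv_right
  set r'' : G := ((r' : centralizer ({i} : Set G)) : G) with hr''
  have e1 : r'' * r₀ * r''⁻¹ = y := by
    have e2 : (u * n⁻¹) * r₀ * (u * n⁻¹)⁻¹ = y := by
      have e3 : (u * n⁻¹) * r₀ * (u * n⁻¹)⁻¹ = u * y * u⁻¹ := by
        rw [hy, hne]; group
      have cU : Commute r₀ u := Commute.symm hu1
      rw [e3, (cy u cU).symm.eq]
      group
    rw [hrs] at e2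
    rw [← e2]
    have e4 : s * r₀ * s⁻¹ = r₀ := by
      rw [cS.symm.eq]; group
    calc r'' * r₀ * r''⁻¹ = r'' * (s * r₀ * s⁻¹) * r''⁻¹ := by rw [e4]
      _ = r'' * s * r₀ * (r'' * s)⁻¹ := by group
  have hcop : (orderOf r'').Coprime (ℓ - 1) := by
    apply Nat.coprime_of_dvd
    intro q hq1 hq2 hq3
    have h5 : orderOf r'' ∣ Nat.card R := by
      have h6 := orderOf_dvd_natCard r'
      rwa [← Subgroup.orderOf_coe, ← Subgroup.orderOf_coe] at h6
    have h7 : ℓ ≤ q := by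
      rw [← hℓ]
      exact Nat.minFac_le_of_dvd hq1.two_le (hq2.trans h5)
    have h8 := Nat.le_of_dvd (by have := hℓp.out.two_le; omega) hq3
    have := hℓp.out.two_le
    omega
  have h9 := comm_of_coprime hr₀1 hr₀ℓ (by rw [e1]; exact hw) hcop
  rw [← e1, mul_inv_eq_iff_eq_mul]
  exact h9

theorem Q8Ctx.cent_i (H : Q8Ctx ρ z p T e i j x) {g : G} (hg : g * i = i * g) : g = 1 ∨ g = z ∨ g = i ∨ g = i⁻¹ := by
  obtain ⟨R, hR2, hRodd, hdec⟩ := H.decomp
  obtain ⟨r, s, hrs, hs⟩ := hdec g hg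
  have hodd : Odd (orderOf ((r : centralizer ({i} : Set G)) : G)) := by
    have h5 : orderOf ((r : centralizer ({i} : Set G)) : G) ∣ Nat.card R := by
      have h6 := orderOf_dvd_natCard r
      rwa [← Subgroup.orderOf_coe, ← Subgroup.orderOf_coe] at h6
    rw [← Nat.not_even_iff_odd, even_iff_two_dvd]
    exact fun h => hR2 (h.trans h5)
  have h1 := H.odd_trivial (Subgroup.mem_centralizer_singleton_iff.mp (r : centralizer ({i} : Set G)).2) hodd
  rw [h1, one_mul] at hrs
  rw [hrs]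
  exact hs

theorem Q8Ctx.z_mem (H : Q8Ctx ρ z p T e i j x) : z ∈ (T : Subgroup G) := by
  rw [← H.hf.ii]
  exact mul_mem H.hi H.hi

theorem Q8Ctx.norm_i (H : Q8Ctx ρ z p T e i j x) {g : G} (hg : g * i * g⁻¹ = i⁻¹) : g ∈ (T : Subgroup G) := by
  have hf := H.hf
  have hjinv : j * i⁻¹ * j⁻¹ = i := by
    have := hf.ji
    rw [← inv_inj] at this
    simpa [mul_assoc] using this
  have h1 : (j * g) * i = i * (j * g) := by
    have : (j * g) * i * (j * g)⁻¹ = i := by
      calc (j * g) * i * (j * g)⁻¹ = j * (g * i * g⁻¹) * j⁻¹ := by group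
        _ = i := by rw [hg, hjinv]
    rwa [mul_inv_eq_iff_eq_mul] at this
  have h2 : j * g ∈ (T : Subgroup G) := by
    rcases H.cent_i h1 with h | h | h | h <;> rw [h]
    · exact one_mem _
    · exact H.z_mem
    · exact H.hi
    · exact inv_mem H.hi
  have h3 : g = j⁻¹ * (j * g) := by group
  rw [h3]
  exact mul_mem (inv_mem H.hj) h2

theorem Q8Ctx.T_conj (H : Q8Ctx ρ z p T e i j x) {g : G} (hg : g ∈ (T : Subgroup G)) :
    g * i * g⁻¹ = i ∨ g * i * g⁻¹ = i⁻¹ := by
  have hf := H.hf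
  have hC := H.C
  have e1 := frame_ji' hC.toBase hf
  have hcomm : ∀ u : G, Commute u i → u * i * u⁻¹ = i := by
    intro u hu
    rw [hu.eq]; group
  have ci : Commute i i := Commute.refl i
  rcases H.T_elts hg with h | h | h | h | h | h | h | h <;> rw [h]
  · left; group
  · left; exact hcomm z (hC.z_central i).symm
  · left; exact hcomm i ci
  · left; exact hcomm _ ci.inv_left
  · right; exact hf.ji
  · right
    rw [inv_inv]; exact e1
  · right
    calc i * j * i * (i * j)⁻¹ = i * (j * i * j⁻¹) * i⁻¹ := by group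
      _ = i⁻¹ := by rw [hf.ji]; group
  · right
    calc (i * j)⁻¹ * i * (i * j)⁻¹⁻¹ = j⁻¹ * i * j := by group
      _ = i⁻¹ := e1

theorem Q8Ctx.T_sq (H : Q8Ctx ρ z p T e i j x) {g : G} (hg : g ∈ (T : Subgroup G)) : g * g = 1 ∨ g * g = z := by
  have hf := H.hf
  have hC := H.C
  have hinv : ∀ u : G, u * u = z → u⁻¹ * u⁻¹ = z := by
    intro u hu
    rw [← mul_inv_rev, hu, inv_eq_of_mul_eq_one_left hC.zz]
  rcases H.T_elts hg with h | h | h | h | h | h | h | h <;> rw [h]
  · left; simp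
  · left; exact hC.zz
  · right; exact hf.ii
  · right; exact hinv _ hf.ii
  · right; exact hf.jj
  · right; exact hinv _ hf.jj
  · right; exact hf.sq_mul hC.toBase
  · right; exact hinv _ (hf.sq_mul hC.toBase)

/-- Elements of `T` outside `⟨z⟩` are first coordinates of frames. -/
theorem Q8Ctx.T_frame (H : Q8Ctx ρ z p T e i j x) {g : G} (hg : g ∈ (T : Subgroup G)) (h1 : g ≠ 1) (hz : g ≠ z) :
    ∃ j₁ x₁ : G, Frame z g j₁ x₁ := by
  apply frame_first H.C.toBase H.hf
  rcases H.T_elts hg with h | h | h | h | h | h | h | h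
  · exact absurd h h1
  · exact absurd h hz
  · exact Or.inl h
  · exact Or.inr (Or.inl h)
  · exact Or.inr (Or.inr (Or.inl h))
  · exact Or.inr (Or.inr (Or.inr (Or.inl h)))
  · exact Or.inr (Or.inr (Or.inr (Or.inr (Or.inl h))))
  · exact Or.inr (Or.inr (Or.inr (Or.inr (Or.inr h))))

theorem card_perm_solvable {E : Type*} [Finite E] (h : Nat.card E = 2 ∨ Nat.card E = 4) :
    Group.IsSolvable (Equiv.Perm E) := by
  apply Cfsg.Agent.Lib.BurnsidePQ.isSolvable_of_card_eq 2 3 Nat.prime_two Nat.prime_three _ (Equiv.Perm E) rfl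
  rw [Nat.card_perm]
  rcases h with h | h <;> rw [h]
  · exact ⟨1, 0, by decide⟩
  · exact ⟨3, 1, by decide⟩

theorem Q8Ctx.main (H : Q8Ctx ρ z p T e i j x) : Nonempty (G ≃* Matrix.SpecialLinearGroup (Fin 2) (ZMod 5)) := by
  classical
  have hf := H.hf
  have hC := H.C
  have hG := H.hG
  have hz1 := hC.z_ne
  have hzc : ∀ g : G, g * z = z * g := hC.z_central
  haveI : Nontrivial G := ⟨⟨z, 1, hz1⟩⟩
  haveI : Fact (Nat.Prime 2) := ⟨Nat.prime_two⟩
  let N : Subgroup G := zpowers z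
  have hNe : ∀ g ∈ N, g = 1 ∨ g = z := by
    intro g hg
    obtain ⟨k, rfl⟩ := Subgroup.mem_zpowers_iff.mp hg
    rcases Int.even_or_odd' k with ⟨m, rfl | rfl⟩
    · left
      rw [zpow_mul, zpow_two, hC.zz, one_zpow]
    · right
      rw [zpow_add, zpow_mul, zpow_two, hC.zz, one_zpow, one_mul, zpow_one]
  haveI hNn : N.Normal := by
    constructor
    intro n hn g
    rcases hNe n hn with h | h <;> rw [h]
    · simp
    · rw [hzc g]
      have e0 : z * g * g⁻¹ = z := by group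
      rw [e0]
      exact mem_zpowers z
  let π : G →* G ⧸ N := QuotientGroup.mk' N
  have hπs : Function.Surjective π := QuotientGroup.mk'_surjective N
  have hπeq : ∀ a b : G, π a = π b → b = a ∨ b = a * z := by
    intro a b h
    have h1 : a⁻¹ * b ∈ N := QuotientGroup.eq.mp h
    rcases hNe _ h1 with h2 | h2
    · left
      exact (inv_mul_eq_one.mp h2).symm
    · right
      rw [← h2]; group
  have hπz : π z = 1 := (QuotientGroup.eq_one_iff z).mpr (mem_zpowers z)
  have hπinv : ∀ {u : G}, u * u = z → π u⁻¹ = π u := by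
    intro u hu
    rw [hC.inv_of_sq hu, map_mul, hπz, one_mul]
  have hπ1 : ∀ g : G, π g = 1 → g = 1 ∨ g = z := by
    intro g h
    exact hNe g ((QuotientGroup.eq_one_iff g).mp h)
  have hi1 : i ≠ 1 := by
    intro h
    apply hz1
    rw [← hf.ii, h, one_mul]
  have hiz : i ≠ z := by
    intro h
    apply hz1
    have := hf.ii
    rw [h, hC.zz] at this
    exact this.symm
  have hordi : orderOf (π i) = 2 := by
    apply orderOf_eq_prime
    · rw [pow_two, ← map_mul, hf.ii, hπz]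
    · intro h
      rcases hπ1 i h with h | h
      · exact hi1 h
      · exact hiz h
  have hcen : ∀ g : G, π g ∈ centralizer ({π i} : Set (G ⧸ N)) ↔ g ∈ (T : Subgroup G) := by
    intro g
    rw [Subgroup.mem_centralizer_singleton_iff]
    constructor
    · intro h
      have h1 : π i = π (g * i * g⁻¹) := by
        rw [map_mul, map_mul, map_inv, h]; group
      rcases hπeq _ _ h1 with h2 | h2
      · have h3 : g * i = i * g := by
          rwa [mul_inv_eq_iff_eq_mul] at h2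
        rcases H.cent_i h3 with h | h | h | h <;> rw [h]
        · exact one_mem _
        · exact H.z_mem
        · exact H.hi
        · exact inv_mem H.hi
      · apply H.norm_i
        rw [h2, hC.inv_of_sq hf.ii, hzc]
    · intro hg
      have h1 : π (g * i * g⁻¹) = π i := by
        rcases H.T_conj hg with h | h <;> rw [h]
        exact hπinv hf.ii
      rw [map_mul, map_mul, map_inv, mul_inv_eq_iff_eq_mul] at h1
      exact h1
  -- the centralizer has order four
  let φ : (T : Subgroup G) →* G ⧸ N := π.comp (T : Subgroup G).subtype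
  have hrange : φ.range = centralizer ({π i} : Set (G ⧸ N)) := by
    ext c
    constructor
    · rintro ⟨t, rfl⟩
      exact (hcen t).mpr t.2
    · intro hc
      obtain ⟨g, rfl⟩ := hπs c
      exact ⟨⟨g, (hcen g).mp hc⟩, rfl⟩
  have hcardT : Nat.card (T : Subgroup G) = 8 := by
    rw [Nat.card_congr e.toEquiv, Nat.card_eq_fintype_card, QuaternionGroup.card]
  have hker : Nat.card φ.ker = 2 := by
    rw [Nat.card_eq_two_iff]
    have hk1 : (⟨z, H.z_mem⟩ : (T : Subgroup G)) ∈ φ.ker := by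
      rw [MonoidHom.mem_ker]; exact hπz
    refine ⟨1, ⟨⟨z, H.z_mem⟩, hk1⟩, ?_, ?_⟩
    · intro h
      have := congrArg (fun u : φ.ker => ((u : (T : Subgroup G)) : G)) h
      exact hz1 this.symm
    · ext t
      simp only [Set.mem_insert_iff, Set.mem_singleton_iff, Set.mem_univ, iff_true]
      obtain ⟨t, ht⟩ := t
      rcases hπ1 _ ht with h | h
      · left
        exact Subtype.ext (Subtype.ext h)
      · right
        exact Subtype.ext (Subtype.ext h)
  have hC4 : Nat.card (centralizer ({π i} : Set (G ⧸ N))) = 4 := by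
    rw [← hrange, ← Subgroup.index_ker]
    have := Subgroup.card_mul_index φ.ker
    rw [hcardT, hker] at this
    omega
  have hCe : ∀ c ∈ centralizer ({π i} : Set (G ⧸ N)), c ^ 2 = 1 := by
    intro c hc
    obtain ⟨g, rfl⟩ := hπs c
    have hg := (hcen g).mp hc
    rw [pow_two, ← map_mul]
    rcases H.T_sq hg with h | h <;> rw [h]
    · exact map_one π
    · exact hπz
  have hQperf : commutator (G ⧸ N) = ⊤ := surj_perfect hG π hπs
  have h2Q : 2 ∣ Nat.card (G ⧸ N) := by
    rw [← hordi]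
    exact orderOf_dvd_natCard _
  have hnc : ¬ Cfsg.HasNormalPComplement 2 (G ⧸ N) := not_complement hQperf h2Q
  have hne : ∀ E : Subgroup (G ⧸ N), E.Normal → Cfsg.IsElementaryAbelian 2 E → Nat.card E ≠ 2 ∧ Nat.card E ≠ 4 := by
    intro E hE _
    suffices hs : ¬ (Nat.card E = 2 ∨ Nat.card E = 4) by
      push Not at hs
      exact hs
    intro hcE
    haveI := hE
    haveI := card_perm_solvable hcE
    let ψ : (G ⧸ N) →* Equiv.Perm E := (MulAut.toPerm E).comp (MulAut.conjNormal (H := E))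
    have hψ : ∀ g, ψ g = 1 := by
      intro g
      have := surj_solvable hQperf ψ.rangeRestrict ψ.rangeRestrict_surjective (ψ.rangeRestrict g)
      exact congrArg Subtype.val this
    have hcentral : ∀ (g : G ⧸ N) (ε : E), g * (ε : G ⧸ N) = ε * g := by
      intro g ε
      have h1 := DFunLike.congr_fun (hψ g) ε
      have h2 : g * (ε : G ⧸ N) * g⁻¹ = ε := congrArg Subtype.val h1
      rwa [mul_inv_eq_iff_eq_mul] at h2
    have hnt : ∃ ε : E, ε ≠ 1 := by
      haveI : Nontrivial E := by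
        apply (Finite.one_lt_card_iff_nontrivial).mp
        rcases hcE with h | h <;> omega
      exact exists_ne 1
    obtain ⟨ε, hε⟩ := hnt
    obtain ⟨g, hg⟩ := hπs ε
    have hgT : g ∈ (T : Subgroup G) := by
      rw [← hcen, hg, Subgroup.mem_centralizer_singleton_iff]
      exact (hcentral (π i) ε).symm
    have hgne : π g ≠ 1 := by
      rw [hg]
      exact fun h => hε (Subtype.ext h)
    have hg1 : g ≠ 1 := by
      intro h
      apply hgne
      rw [h, map_one]
    have hgz : g ≠ z := by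
      intro h
      apply hgne
      rw [h, hπz]
    obtain ⟨j₁, x₁, hfr⟩ := H.T_frame hgT hg1 hgz
    have h3 : π x₁ * π g = π g * π x₁ := by
      rw [hg]
      exact hcentral (π x₁) ε
    have h4 : π g = π j₁ := by
      rw [← hfr.xi, map_mul, map_mul, map_inv, h3]
      group
    have h5 : g⁻¹ ≠ g := by
      intro h
      have h6 : g * g = 1 := by
        nth_rewrite 1 [← h]
        simp
      rw [hfr.ii] at h6
      exact hz1 h6
    have hji := hfr.ji
    rcases hπeq _ _ h4 with h6 | h6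
    · rw [h6] at hji
      apply h5
      rw [← hji]; group
    · apply h5
      have h7 : j₁ = g⁻¹ := by
        rw [h6, hC.inv_of_sq hfr.ii, hzc]
      rw [h7] at hji
      rw [← hji]; group
  obtain ⟨eA⟩ := Cfsg.Agent.S3277.result (π i) hordi hC4 hCe hnc hne
  have hcardQ : Nat.card (G ⧸ N) = 60 := by
    rw [Nat.card_congr eA.toEquiv]
    have := two_mul_nat_card_alternatingGroup (α := Fin 5)
    rw [Nat.card_perm, Nat.card_fin] at this
    have h120 : Nat.factorial 5 = 120 := rfl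
    omega
  have hcardN : Nat.card N = 2 := by
    rw [Nat.card_zpowers]
    exact orderOf_eq_prime (by rw [pow_two]; exact hC.zz) hz1
  have hcardG : Nat.card G = 120 := by
    rw [Subgroup.card_eq_card_quotient_mul_card_subgroup N, hcardQ, hcardN]
  exact Cfsg.Agent.S3378.result.1 G hcardG (not_solvable hG) (fun P => ⟨(Sylow.equiv P T).trans e⟩)

/-- **Zassenhaus**: a perfect nontrivial group with a fixed point free representation is `SL(2,5)`. -/
theorem Ctx.final [Nontrivial G] (C : Ctx ρ z p) (hG : commutator G = ⊤) (hS : SylHyp G) :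
    Nonempty (G ≃* Matrix.SpecialLinearGroup (Fin 2) (ZMod 5)) := by
  obtain ⟨y, hy1, hy3⟩ := exists_three hG hS
  obtain ⟨g, hg⟩ := exists_noncomm hG hS hy1 hy3
  have hy'1 : g * y * g⁻¹ ≠ 1 := fun e => hy1 (conj_eq_one_iff.mp e)
  have hy'3 : (g * y * g⁻¹) ^ 3 = 1 := by
    rw [conj_pow, hy3]; group
  obtain ⟨i, j, x, hf⟩ := C.exists_frame hy1 hy3 hy'1 hy'3 hg
  obtain ⟨T, n, e, i', j', x', hi, hj, s, t, hf', hes, het, hn⟩ := Ctx.exists_sylow_frame C hS hf
  rcases hn with rfl | rfl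
  · let e' : (T : Subgroup G) ≃* QuaternionGroup 2 := e
    have H : Q8Ctx ρ z p T e' i' j' x' := ⟨C, hG, hS, hf', hi, hj⟩
    exact H.main
  · exact (Ctx.no_Q16 C hG hS T e hf' hi hj hes het).elim

end main

end Cfsg.Agent.Lib.ZPerfG
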