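import Mathlib
import Cfsg.Agent.Lib.ZPerfG

/-!
# Zassenhaus' theorem: a perfect group of fixed point free automorphisms of an abelian group is `SL(2,5)`
-/

set_option autoImplicit false
set_option linter.style.haveILetI false
set_option linter.unusedSectionVars false
set_option linter.unusedSimpArgs false
set_option linter.unusedVariables false

namespace Cfsg.Agent.Lib.ZPerfH

open Subgroup Cfsg.Agent.Lib.ZPerfA Cfsg.Agent.Lib.ZPerfB Cfsg.Agent.Lib.ZPerfC Cfsg.Agent.Lib.ZPerfD
  Cfsg.Agent.Lib.ZPerfE Cfsg.Agent.Lib.ZPerfF Cfsg.Agent.Lib.ZPerfG Cfsg.Agent.Lib.FpfNorm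
open Polynomial TensorProduct

universe u v

section Tor

variable (V : Type v) [CommGroup V] (r : ℕ)

/-- The `r`-torsion as an additive group. -/
abbrev Tor : Type v := Additive ((powMonoidHom r : V →* V).ker)

noncomputable instance Tor.instModule : Module (ZMod r) (Tor V r) :=
  AddCommGroup.zmodModule (by
    intro x
    have hx : ((Additive.toMul x : (powMonoidHom r : V →* V).ker) : V) ^ r = 1 := (Additive.toMul x).2
    apply Additive.toMul.injective
    apply Subtype.ext
    exact hx)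

variable {V r}

/-- The restriction of an automorphism to the torsion. -/
def restr (f : MulAut V) : (powMonoidHom r : V →* V).ker →* (powMonoidHom r : V →* V).ker where
  toFun v := ⟨f v, by
    have hv : (v : V) ^ r = 1 := v.2
    show (f v) ^ r = 1
    rw [← map_pow, hv, map_one]⟩
  map_one' := Subtype.ext (map_one f)
  map_mul' a b := Subtype.ext (map_mul f _ _)

variable {G : Type u} [Group G] (φ : G →* MulAut V)

/-- The linear action on the torsion. -/
noncomputable def rhoT : G →* Module.End (ZMod r) (Tor V r) where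
  toFun g := AddMonoidHom.toZModLinearMap r (MonoidHom.toAdditive (restr (r := r) (φ g)))
  map_one' := by
    ext x
    simp [restr]
  map_mul' a b := by
    ext x
    simp [restr]

theorem rhoT_fpf [Fact r.Prime] (hφ : IsFpf φ) : Fpf (rhoT (r := r) φ) := by
  intro g hg v hv
  apply Additive.toMul.injective
  apply Subtype.ext
  have h1 : φ g ((Additive.toMul v : (powMonoidHom r : V →* V).ker) : V) = ((Additive.toMul v : (powMonoidHom r : V →* V).ker) : V) :=
    congrArg (fun w : Tor V r => ((Additive.toMul w : (powMonoidHom r : V →* V).ker) : V)) hv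
  exact hφ g hg _ h1

end Tor

section BaseChange

variable {K F V₀ G : Type*} [Field K] [Field F] [Algebra K F] [AddCommGroup V₀] [Module K V₀] [Group G]

/-- Base change of a representation. -/
noncomputable def rhoB (F : Type*) [Field F] [Algebra K F] (ρ₀ : G →* Module.End K V₀) : G →* Module.End F (F ⊗[K] V₀) :=
  ((Module.End.baseChangeHom K F V₀ : Module.End K V₀ →ₐ[K] _) : Module.End K V₀ →* Module.End F (F ⊗[K] V₀)).comp ρ₀

theorem rhoB_fpf [FiniteDimensional K V₀] {ρ₀ : G →* Module.End K V₀} (h : Fpf ρ₀) : Fpf (rhoB F ρ₀) := by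
  intro g hg v hv
  set T : Module.End K V₀ := ρ₀ g - 1 with hT
  have hinj : Function.Injective T := by
    rw [injective_iff_map_eq_zero]
    intro w hw
    apply h g hg
    have : (ρ₀ g) w - w = 0 := hw
    exact sub_eq_zero.mp this
  have hbij : Function.Bijective T := ⟨hinj, LinearMap.injective_iff_surjective.mp hinj⟩
  have hu : IsUnit T := (Module.End.isUnit_iff _).mpr hbij
  have hu' : IsUnit (rhoB F ρ₀ g - 1) := by
    have := hu.map (Module.End.baseChangeHom K F V₀ : Module.End K V₀ →ₐ[K] _)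
    rw [hT, map_sub, map_one] at this
    exact this
  have hinj' := ((Module.End.isUnit_iff _).mp hu').1
  apply hinj'
  rw [map_zero]
  show (rhoB F ρ₀ g) v - v = 0
  rw [hv, sub_self]

end BaseChange

/-- In a finite field, primitive roots of unity exist for divisors of the order of the unit group. -/
theorem exists_primitive {F : Type*} [Field F] [Finite F] {n : ℕ} (hn : n ≠ 0) (hd : n ∣ Nat.card F - 1) :
    ∃ ξ : F, IsPrimitiveRoot ξ n := by
  have hc : Nat.card Fˣ = Nat.card F - 1 := Nat.card_units F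
  obtain ⟨g, hg⟩ := IsCyclic.exists_ofOrder_eq_natCard (α := Fˣ)
  rw [hc] at hg
  obtain ⟨k, hk⟩ := hd
  have hpos : 0 < Nat.card F - 1 := by
    rw [← hc]; exact Nat.card_pos
  have hk0 : k ≠ 0 := by
    rintro rfl
    omega
  have h1 : orderOf (g ^ k) = n := by
    rw [orderOf_pow_of_dvd hk0 (by rw [hg, hk]; exact dvd_mul_left k n), hg, hk]
    exact Nat.mul_div_cancel _ (Nat.pos_of_ne_zero hk0)
  have h2 : IsPrimitiveRoot (g ^ k) n := by
    rw [← h1]; exact IsPrimitiveRoot.orderOf _
  exact ⟨((g ^ k : Fˣ) : F), IsPrimitiveRoot.coe_units_iff.mpr h2⟩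

theorem two_dvd_card {G : Type*} [Group G] [Finite G] [Nontrivial G] (hG : commutator G = ⊤) (hS : SylHyp G) :
    2 ∣ Nat.card G := by
  have hcard : Nat.card G ≠ 1 := by
    intro h
    obtain ⟨g, hg⟩ := exists_ne (1 : G)
    exact hg ((Nat.card_eq_one_iff_unique.mp h).1.elim _ _)
  obtain ⟨ℓ, hℓ⟩ : ∃ ℓ, (Nat.card G).minFac = ℓ := ⟨_, rfl⟩
  haveI : Fact ℓ.Prime := ⟨hℓ ▸ Nat.minFac_prime hcard⟩
  let P : Sylow ℓ G := default
  have hd : ℓ ∣ Nat.card G := hℓ ▸ Nat.minFac_dvd _
  have hne : (P : Subgroup G) ≠ ⊥ := P.ne_bot_of_dvd_card hd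
  have hnc : ¬ IsCyclic (P : Subgroup G) := by
    intro hc
    exact burnside_false hG P (IsCyclic.normalizer_le_centralizer hℓ hc) hne
  obtain ⟨rfl, -⟩ := (hS _ (P : Subgroup G) P.2).resolve_left hnc
  exact hd

/-- **Zassenhaus' theorem**. -/
theorem Z_main {G : Type u} {V : Type v} [Group G] [Finite G] [Nontrivial G] [CommGroup V] [Finite V] [Nontrivial V]
    (hG : commutator G = ⊤) (φ : G →* MulAut V) (hφ : IsFpf φ) :
    Nonempty (G ≃* Matrix.SpecialLinearGroup (Fin 2) (ZMod 5)) := by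
  classical
  have hS : SylHyp G := fun q _ A hA =>
    Cfsg.Agent.Lib.FrobCompl.cyclic_or_quaternion_of_fpf hA (hφ.comp A.subtype A.subtype_injective)
  obtain ⟨y, hy1, hy3⟩ := exists_three hG hS
  have h3G : 3 ∣ Nat.card G := by
    haveI : Fact (Nat.Prime 3) := ⟨Nat.prime_three⟩
    rw [← orderOf_eq_prime hy3 hy1]
    exact orderOf_dvd_natCard y
  have h2G := two_dvd_card hG hS
  have hcardV : Nat.card V ≠ 1 := by
    intro h
    obtain ⟨g, hg⟩ := exists_ne (1 : V)
    exact hg ((Nat.card_eq_one_iff_unique.mp h).1.elim _ _)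
  obtain ⟨r, hr, hrV⟩ := Nat.exists_prime_and_dvd hcardV
  haveI hrf : Fact r.Prime := ⟨hr⟩
  have hrG : ¬ r ∣ Nat.card G := fun h => not_dvd_card_of_fpf hφ h hrV
  have hcop : r.Coprime (12 * Nat.card G) := by
    rw [Nat.Prime.coprime_iff_not_dvd hr]
    intro h
    rcases (Nat.Prime.dvd_mul hr).mp h with h | h
    · have h12 : (12 : ℕ) = 2 ^ 2 * 3 := by norm_num
      rw [h12] at h
      rcases (Nat.Prime.dvd_mul hr).mp h with h | h
      · have h2 := (Nat.prime_dvd_prime_iff_eq hr Nat.prime_two).mp (hr.dvd_of_dvd_pow h)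
        exact hrG (h2 ▸ h2G)
      · have h2 := (Nat.prime_dvd_prime_iff_eq hr Nat.prime_three).mp h
        exact hrG (h2 ▸ h3G)
    · exact hrG h
  have hM0 : 12 * Nat.card G ≠ 0 := by
    have : 0 < Nat.card G := Nat.card_pos
    omega
  set N := Nat.totient (12 * Nat.card G) with hN
  have hN0 : N ≠ 0 := (Nat.totient_pos.mpr (Nat.pos_of_ne_zero hM0)).ne'
  have hdvd : 12 * Nat.card G ∣ r ^ N - 1 := by
    have h1 := Nat.ModEq.pow_totient hcop
    exact (Nat.modEq_iff_dvd' (Nat.one_le_pow _ _ hr.pos)).mp h1.symm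
  let F := GaloisField r N
  haveI : Finite F := inferInstance
  haveI : CharP F r := inferInstance
  have hcF : Nat.card F - 1 = r ^ N - 1 := by
    rw [GaloisField.card r N hN0]
  have hd4 : 4 ∣ Nat.card F - 1 := by
    rw [hcF]; exact (Dvd.intro (3 * Nat.card G) (by ring)).trans hdvd
  have hd3 : 3 ∣ Nat.card F - 1 := by
    rw [hcF]; exact (Dvd.intro (4 * Nat.card G) (by ring)).trans hdvd
  have hdG : Nat.card G ∣ Nat.card F - 1 := by
    rw [hcF]; exact (Dvd.intro_left 12 rfl).trans hdvd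
  obtain ⟨ξ₄, hξ₄⟩ := exists_primitive (F := F) (by norm_num) hd4
  obtain ⟨ξ₃, hξ₃⟩ := exists_primitive (F := F) (by norm_num) hd3
  obtain ⟨ζ, hζ⟩ := exists_primitive (F := F) Nat.card_pos.ne' hdG
  have hI : ξ₄ * ξ₄ = -1 := by
    have h1 : IsPrimitiveRoot (ξ₄ ^ 2) 2 := hξ₄.pow (by norm_num) (by norm_num)
    have h2 := h1.eq_neg_one_of_two_right
    rw [← h2, pow_two]
  have hs : (2 * ξ₃ + 1) * (2 * ξ₃ + 1) = -3 := by
    have h1 := hξ₃.geom_sum_eq_zero (by norm_num)
    simp only [Finset.sum_range_succ, Finset.sum_range_zero, pow_zero, pow_one, zero_add] at h1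
    linear_combination 4 * h1
  have hspl : (X ^ Nat.card G - 1 : F[X]).Splits := by
    have := X_pow_sub_one_splits hζ
    simpa using this
  -- the representation
  let V₀ := Tor V r
  have hV₀nt : Nontrivial V₀ := by
    obtain ⟨v, hv⟩ := exists_prime_orderOf_dvd_card' (G := V) r hrV
    have hv1 : v ≠ 1 := by
      rintro rfl
      rw [orderOf_one] at hv
      exact hr.one_lt.ne hv
    refine ⟨⟨Additive.ofMul ⟨v, ?_⟩, 0, ?_⟩⟩
    · show v ^ r = 1
      rw [← hv]; exact pow_orderOf_eq_one v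
    · intro e
      exact hv1 (congrArg (fun w : Tor V r => ((Additive.toMul w : (powMonoidHom r : V →* V).ker) : V)) e)
  haveI : FiniteDimensional (ZMod r) V₀ := Module.Finite.of_finite
  let ρ₀ : G →* Module.End (ZMod r) V₀ := rhoT (r := r) φ
  have hρ₀ : Fpf ρ₀ := rhoT_fpf φ hφ
  letI : Algebra (ZMod r) F := inferInstance
  let U := F ⊗[ZMod r] V₀
  let ρ : G →* Module.End F U := rhoB F ρ₀
  have hρ : Fpf ρ := rhoB_fpf hρ₀
  haveI : Nontrivial U := by
    apply Module.nontrivial_of_finrank_pos (R := F)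
    show 0 < Module.finrank F (F ⊗[ZMod r] V₀)
    rw [Module.finrank_baseChange]
    exact Module.finrank_pos
  haveI : FiniteDimensional F U := inferInstance
  haveI : Fact (Nat.Prime 2) := ⟨Nat.prime_two⟩
  obtain ⟨z, hz⟩ := exists_prime_orderOf_dvd_card' (G := G) 2 h2G
  have hz1 : z ≠ 1 := by
    rintro rfl
    rw [orderOf_one] at hz
    omega
  have hzz : z * z = 1 := by
    rw [← pow_two, ← hz]; exact pow_orderOf_eq_one z
  have h20 : (2 : F) ≠ 0 := by
    intro h
    have h1 : ((2 : ℕ) : F) = 0 := by exact_mod_cast h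
    rw [CharP.cast_eq_zero_iff F r] at h1
    have h2 := (Nat.prime_dvd_prime_iff_eq hr Nat.prime_two).mp h1
    exact hrG (h2 ▸ h2G)
  have C : Ctx ρ z r :=
    { fpf := hρ
      hz := hρ.neg_of_invol hz1 hzz
      zz := hzz
      two := h20
      cop := hrG
      I₀ := ⟨ξ₄, hI⟩
      s₀ := ⟨2 * ξ₃ + 1, hs⟩
      spl := hspl }
  exact Ctx.final C hG hS

end Cfsg.Agent.Lib.ZPerfH
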