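import Mathlib
import Cfsg.Agent.Lib.ZPerfH
import Cfsg.Agent.Lib.RegLin3

/-!
# Zassenhaus' theorem for groups of linear maps regular on the non-zero vectors
-/

set_option autoImplicit false
set_option linter.style.haveILetI false

namespace Cfsg.Agent.Lib.ZPerfLin

open Cfsg.Agent.Lib.RegLin Cfsg.Agent.Lib.FpfNorm

variable {p : ℕ} [Fact p.Prime] {V : Type*} [AddCommGroup V] [Module (ZMod p) V] [Finite V]
variable {H : Subgroup (V ≃ₗ[ZMod p] V)}

/-- The action of a group of linear maps on the multiplicative group of the vector space. -/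
noncomputable def actLin (H : Subgroup (V ≃ₗ[ZMod p] V)) : H →* MulAut (Multiplicative V) where
  toFun h := AddEquiv.toMultiplicative (h : V ≃ₗ[ZMod p] V).toAddEquiv
  map_one' := by
    ext v
    rfl
  map_mul' a b := by
    ext v
    rfl

theorem actLin_fpf (hreg : Reg H) : IsFpf (actLin H) := by
  intro h hh v hv
  by_contra hv1
  have hv0 : Multiplicative.toAdd v ≠ 0 := hv1
  have h1 : (h : V ≃ₗ[ZMod p] V) (Multiplicative.toAdd v) = Multiplicative.toAdd v := congrArg Multiplicative.toAdd hv
  exact hh (hreg.fpf h hv0 h1)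

/-- **Zassenhaus' theorem** in linear form. -/
theorem sl25_of_perfect (hreg : Reg H) (hV : Nontrivial V) {N : Subgroup H} (hperf : commutator N = ⊤)
    (hne : Nontrivial N) : Nonempty (N ≃* Matrix.SpecialLinearGroup (Fin 2) (ZMod 5)) := by
  haveI : Nontrivial (Multiplicative V) := hV
  exact Cfsg.Agent.Lib.ZPerfH.Z_main hperf ((actLin H).comp N.subtype)
    ((actLin_fpf hreg).comp N.subtype N.subtype_injective)

theorem commutator_eq_top_of {G : Type*} [Group G] {N : Subgroup G} (h : ⁅N, N⁆ = N) : commutator N = ⊤ := by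
  have e1 : (commutator N).map N.subtype = ⁅N, N⁆ := Subgroup.map_subtype_commutator N
  rw [h] at e1
  rw [eq_top_iff]
  intro x _
  have hx : (x : G) ∈ (commutator N).map N.subtype := by rw [e1]; exact x.2
  obtain ⟨y, hy, hxy⟩ := hx
  have : y = x := Subtype.ext hxy
  rwa [← this]

end Cfsg.Agent.Lib.ZPerfLin
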