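import Mathlib
import Cfsg.Agent.Lib.ZPerfLin

/-!
# Non-solvable groups acting fixed point freely on an abelian group: structure
-/

set_option autoImplicit false
set_option linter.style.haveILetI false
set_option linter.unusedSectionVars false
set_option linter.unusedSimpArgs false
set_option linter.unusedVariables false

namespace Cfsg.Agent.Lib.ZStruct

open Subgroup Cfsg.Agent.Lib.FpfNorm Cfsg.Agent.Lib.ZPerfD Cfsg.Agent.Lib.ZPerfLin
open Cfsg.Agent.S3378 (X Y Z SL5_gen SL5_card)
open QuaternionGroup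

universe u v

/-- The group `SL(2,5)`. -/
abbrev Γ := Matrix.SpecialLinearGroup (Fin 2) (ZMod 5)

/-- Elements of order three. -/
def A3 : Finset Γ := Finset.univ.filter (fun m => m ^ 3 = 1 ∧ m ≠ 1)
/-- Elements of order five. -/
def A5 : Finset Γ := Finset.univ.filter (fun m => m ^ 5 = 1 ∧ m ≠ 1)
/-- The candidates for the images of the generators under automorphisms. -/
def PP : Finset (Γ × Γ) := (A3 ×ˢ A5).filter (fun p => (p.1 * p.2) * (p.1 * p.2) = Z)

theorem PP_card : PP.card = 120 := by decide +kernel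

theorem xy_facts : (X ^ 3 = 1 ∧ X ≠ 1) ∧ (Y ^ 5 = 1 ∧ Y ≠ 1) ∧ (X * Y) * (X * Y) = Z := by decide +kernel

/-- An element of order four. -/
def Qi : Γ := ⟨!![2, 0; 0, 3], by decide⟩
/-- An element of order four. -/
def Qj : Γ := ⟨!![0, 1; 4, 0], by decide⟩

theorem Q_facts : Qi * Qi = Z ∧ Qj * Qj = Z ∧ Qj * Qi * Qj⁻¹ = Qi⁻¹ ∧ Qj⁻¹ * Qi * Qj = Qi⁻¹ ∧ Qi * Qj ≠ Qj * Qi := by
  decide +kernel

theorem unique_invol : ∀ m : Γ, m * m = 1 → m ≠ 1 → m = Z := by decide +kernel

theorem Z_facts : Z * Z = 1 ∧ Z ≠ 1 := by decide +kernel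

theorem center_facts : ∀ m : Γ, m * X = X * m → m * Y = Y * m → m = 1 ∨ m = Z := by decide +kernel

/-- The upper bound for the automorphism group of `SL(2,5)`. -/
theorem card_aut_le : Nat.card (MulAut Γ) ≤ 120 := by
  classical
  obtain ⟨⟨h3, h3'⟩, ⟨h5, h5'⟩, h2⟩ := xy_facts
  obtain ⟨hzz, hz1⟩ := Z_facts
  have hmem : ∀ α : MulAut Γ, (α X, α Y) ∈ PP := by
    intro α
    have hZ : α Z = Z := by
      apply unique_invol
      · rw [← map_mul, hzz, map_one]
      · intro h
        apply hz1
        apply α.injective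
        rw [h, map_one]
    simp only [PP, A3, A5, Finset.mem_filter, Finset.mem_product, Finset.mem_univ, true_and]
    refine ⟨⟨⟨?_, ?_⟩, ?_, ?_⟩, ?_⟩
    · rw [← map_pow, h3, map_one]
    · intro h
      apply h3'
      apply α.injective
      rw [h, map_one]
    · rw [← map_pow, h5, map_one]
    · intro h
      apply h5'
      apply α.injective
      rw [h, map_one]
    · rw [← map_mul, ← map_mul, h2, hZ]
  let f : MulAut Γ → PP := fun α => ⟨(α X, α Y), hmem α⟩
  have hf : Function.Injective f := by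
    intro α β h
    have h1 : α X = β X := congrArg (fun p : PP => (p : Γ × Γ).1) h
    have h2 : α Y = β Y := congrArg (fun p : PP => (p : Γ × Γ).2) h
    have h3 := SL5_gen (MonoidHom.eqLocus (α : Γ →* Γ) (β : Γ →* Γ)) h1 h2
    ext m
    have h4 : m ∈ MonoidHom.eqLocus (α : Γ →* Γ) (β : Γ →* Γ) := by rw [h3]; trivial
    have h5 : α m = β m := h4
    rw [h5]
  have h1 := Nat.card_le_card_of_injective f hf
  rw [Nat.card_eq_fintype_card (α := PP), Fintype.card_coe, PP_card] at h1
  exact h1

/-- A central element of a generalized quaternion group... centralizing two non-commuting elements has square one. -/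
theorem qg_comm_noncomm {N : ℕ} {s i j : QuaternionGroup N} (hsi : s * i = i * s) (hsj : s * j = j * s)
    (hii : i * i ≠ 1) (hjj : j * j ≠ 1) (hij : i * j ≠ j * i) : s * s = 1 := by
  rcases s with k | k
  · have key : ∀ t : ZMod (2 * N), (a k : QuaternionGroup N) * xa t = xa t * a k → k + k = 0 := by
      intro t h
      rw [a_mul_xa, xa_mul_a, xa.injEq] at h
      linear_combination -h
    rw [a_mul_a, one_def, a.injEq]
    rcases i with l | l
    · rcases j with m | m
      · exfalso
        apply hij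
        rw [a_mul_a, a_mul_a, add_comm]
      · exact key m hsj
    · exact key l hsi
  · exfalso
    have key : ∀ l : ZMod (2 * N), (xa k : QuaternionGroup N) * a l = a l * xa k → (a l : QuaternionGroup N) * a l = 1 := by
      intro l h
      rw [xa_mul_a, a_mul_xa, xa.injEq] at h
      rw [a_mul_a, one_def, a.injEq]
      linear_combination h
    rcases i with l | l
    · exact hii (key l hsi)
    rcases j with m | m
    · exact hjj (key m hsj)
    apply hij
    rw [xa_mul_xa, xa_mul_xa] at *
    rw [a.injEq] at *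
    linear_combination hsj - hsi

section main

variable {G : Type u} {V : Type v} [Group G] [Finite G] [CommGroup V] [Finite V] [Nontrivial V]
  {φ : G →* MulAut V}

theorem invol_unique (hφ : IsFpf φ) {g g' : G} (hg : g ≠ 1) (hg2 : g * g = 1) (hg' : g' ≠ 1) (hg'2 : g' * g' = 1) :
    g = g' := by
  have key : ∀ h : G, h ≠ 1 → h * h = 1 → ∀ v : V, φ h v = v⁻¹ := by
    intro h h1 h2 v
    have h3 : φ h (φ h v * v) = φ h v * v := by
      rw [map_mul, ← MulAut.mul_apply, ← map_mul, h2, map_one, MulAut.one_apply, mul_comm]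
    have h4 := hφ h h1 _ h3
    exact eq_inv_of_mul_eq_one_left h4
  obtain ⟨v, hv⟩ := exists_ne (1 : V)
  by_contra hne
  have h1 : g * g' ≠ 1 := by
    intro e
    apply hne
    have : g' = g⁻¹ := eq_inv_of_mul_eq_one_right e
    rw [this]
    exact (inv_eq_of_mul_eq_one_left hg2).symm
  apply hv
  apply hφ _ h1
  rw [map_mul, MulAut.mul_apply, key g' hg' hg'2, key g hg hg2, inv_inv]

theorem exists_perfect_core (hns : ¬ Group.IsSolvable G) :
    ∃ L : Subgroup G, L.Normal ∧ L ≠ ⊥ ∧ ⁅L, L⁆ = L := by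
  obtain ⟨L, ⟨n, rfl⟩, hmin⟩ := (wellFounded_lt (α := Subgroup G)).has_min (Set.range (derivedSeries G)) ⟨_, ⟨0, rfl⟩⟩
  refine ⟨derivedSeries G n, derivedSeries_normal G n, ?_, ?_⟩
  · intro h
    exact hns ⟨⟨n, h⟩⟩
  · have h1 : derivedSeries G (n + 1) ≤ derivedSeries G n := derivedSeries_antitone G (Nat.le_succ n)
    have h2 := hmin _ ⟨n + 1, rfl⟩
    rw [derivedSeries_succ] at h1 h2
    exact eq_of_le_of_not_lt h1 h2

omit [CommGroup V] [Finite V] [Nontrivial V] in
/-- The index of `L C_G(L)`. -/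
theorem index_sup_centralizer {L : Subgroup G} [hLn : L.Normal] (hcard : Nat.card L = 120)
    (hauto : Nat.card (MulAut L) ≤ 120) {z : G} (hzL : z ∈ L) (hz1 : z ≠ 1)
    (hzc : ∀ g : G, g * z = z * g) (hLC : ∀ x ∈ L, x ∈ centralizer (L : Set G) → x = 1 ∨ x = z) :
    (L ⊔ centralizer (L : Set G)).index = 1 ∨ (L ⊔ centralizer (L : Set G)).index = 2 := by
  classical
  let c : G →* MulAut L := MulAut.conjNormal
  have hc : ∀ (g : G) (l : L), ((c g l : L) : G) = g * l * g⁻¹ := fun g l => MulAut.conjNormal_apply g l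
  have hker : ∀ g : G, c g = 1 ↔ g ∈ centralizer (L : Set G) := by
    intro g
    rw [Subgroup.mem_centralizer_iff]
    constructor
    · intro h l hl
      have h1 := hc g ⟨l, hl⟩
      rw [h, MulAut.one_apply] at h1
      have h2 : l = g * l * g⁻¹ := h1
      rw [eq_mul_inv_iff_mul_eq] at h2
      exact h2
    · intro h
      ext l
      rw [hc, MulAut.one_apply, ← h l l.2]
      group
  let I : Subgroup (MulAut L) := L.map c
  have hG₀ : L ⊔ centralizer (L : Set G) = I.comap c := by
    ext g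
    constructor
    · intro hg
      have hg' : g ∈ ((L ⊔ centralizer (L : Set G) : Subgroup G) : Set G) := hg
      rw [Subgroup.normal_mul] at hg'
      obtain ⟨l, hl, k, hk, rfl⟩ := Set.mem_mul.mp hg'
      rw [Subgroup.mem_comap, map_mul, (hker k).mpr hk, mul_one]
      exact ⟨l, hl, rfl⟩
    · rintro ⟨l, hl, hlg⟩
      have h1 : c (l⁻¹ * g) = 1 := by
        rw [map_mul, map_inv, hlg, inv_mul_cancel]
      have h2 := (hker _).mp h1
      have h3 : g = l * (l⁻¹ * g) := by group
      rw [h3]
      exact mul_mem ((le_sup_left : L ≤ _) hl) ((le_sup_right : centralizer (L : Set G) ≤ _) h2)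
  let ψ : L →* MulAut L := c.comp L.subtype
  have hψr : ψ.range = I := by
    rw [MonoidHom.range_comp, Subgroup.range_subtype]
  have hψk : Nat.card ψ.ker = 2 := by
    rw [Nat.card_eq_two_iff]
    have hk1 : (⟨z, hzL⟩ : L) ∈ ψ.ker := by
      rw [MonoidHom.mem_ker]
      apply (hker _).mpr
      rw [Subgroup.mem_centralizer_iff]
      intro l _
      exact hzc l
    refine ⟨1, ⟨⟨z, hzL⟩, hk1⟩, ?_, ?_⟩
    · intro h
      have := congrArg (fun u : ψ.ker => ((u : L) : G)) h
      exact hz1 this.symm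
    · ext t
      simp only [Set.mem_insert_iff, Set.mem_singleton_iff, Set.mem_univ, iff_true]
      obtain ⟨⟨t, htL⟩, ht⟩ := t
      have h1 := (hker t).mp ht
      rcases hLC t htL h1 with h | h
      · left
        exact Subtype.ext (Subtype.ext h)
      · right
        exact Subtype.ext (Subtype.ext h)
  have hI : Nat.card I = 60 := by
    rw [← hψr, ← Subgroup.index_ker]
    have := Subgroup.card_mul_index ψ.ker
    rw [hψk, hcard] at this
    omega
  have hIR : I ≤ c.range := by
    rintro _ ⟨l, -, rfl⟩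
    exact ⟨l, rfl⟩
  have hR : Nat.card c.range ≤ 120 := (Nat.card_mono (Set.toFinite _) (Set.subset_univ _) |>.trans_eq Nat.card_univ).trans hauto
  have h2 : I.relIndex c.range * 60 = Nat.card c.range := by
    rw [← hI, ← Nat.card_congr (Subgroup.subgroupOfEquivOfLe hIR).toEquiv, Subgroup.relIndex, Subgroup.index_mul_card]
  rw [hG₀, Subgroup.index_comap]
  have h3 : I.relIndex c.range ≠ 0 := by
    intro h
    rw [h, zero_mul] at h2
    exact Nat.card_pos.ne h2
  have h4 : I.relIndex c.range ≤ 2 := by omega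
  omega

theorem nonsolv_struct (hns : ¬ Group.IsSolvable G) (hφ : IsFpf φ) :
    ∃ G₀ : Subgroup G, G₀.Normal ∧ (G₀.index = 1 ∨ G₀.index = 2) ∧
      ∃ S M : Subgroup G, S ⊔ M = G₀ ∧ S ⊓ M = ⊥ ∧ (∀ s ∈ S, ∀ x ∈ M, s * x = x * s) ∧
        Nonempty (S ≃* Γ) ∧
        (∀ (p : ℕ) [Fact p.Prime] (P : Sylow p M), IsCyclic P) ∧ (Nat.card M).Coprime 30 := by
  classical
  haveI : Fact (Nat.Prime 2) := ⟨Nat.prime_two⟩
  have hS : SylHyp G := fun q _ A hA =>
    Cfsg.Agent.Lib.FrobCompl.cyclic_or_quaternion_of_fpf hA (hφ.comp A.subtype A.subtype_injective)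
  obtain ⟨L, hLn, hLne, hLp⟩ := exists_perfect_core hns
  haveI := hLn
  haveI hLnt : Nontrivial L := (Subgroup.nontrivial_iff_ne_bot L).mpr hLne
  obtain ⟨e₀⟩ := Cfsg.Agent.Lib.ZPerfH.Z_main (commutator_eq_top_of hLp) (φ.comp L.subtype)
    (hφ.comp L.subtype L.subtype_injective)
  let f : Γ →* G := L.subtype.comp e₀.symm.toMonoidHom
  have hfinj : Function.Injective f := by
    intro u v h
    exact e₀.symm.injective (Subtype.ext h)
  have hfL : ∀ m, f m ∈ L := fun m => (e₀.symm m).2
  have hLf : ∀ l ∈ L, ∃ m, f m = l := by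
    intro g hg
    exact ⟨e₀ ⟨g, hg⟩, by simp [f]⟩
  obtain ⟨hZZ, hZ1⟩ := Z_facts
  obtain ⟨⟨hX3, hX1⟩, ⟨hY5, hY1⟩, -⟩ := xy_facts
  set z := f Z with hz
  have hzz : z * z = 1 := by rw [hz, ← map_mul, hZZ, map_one]
  have hz1 : z ≠ 1 := by
    intro h
    apply hZ1
    apply hfinj
    rw [map_one]; exact h
  have hzL : z ∈ L := hfL Z
  have huniq : ∀ g : G, g ≠ 1 → g * g = 1 → g = z := fun g hg hg2 => invol_unique hφ hg hg2 hz1 hzz
  have hzc : ∀ g : G, g * z = z * g := by
    intro g
    have h1 : g * z * g⁻¹ = z := by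
      apply huniq
      · intro h
        exact hz1 (conj_eq_one_iff.mp h)
      · calc g * z * g⁻¹ * (g * z * g⁻¹) = g * (z * z) * g⁻¹ := by group
          _ = 1 := by rw [hzz]; group
    rwa [mul_inv_eq_iff_eq_mul] at h1
  set C := centralizer (L : Set G) with hC
  have hCn : C.Normal := inferInstance
  have hzC : z ∈ C := by
    rw [hC, Subgroup.mem_centralizer_iff]
    intro l _
    exact hzc l
  have hLC : ∀ x ∈ L, x ∈ C → x = 1 ∨ x = z := by
    intro x hx hxC
    obtain ⟨m, rfl⟩ := hLf x hx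
    rw [hC, Subgroup.mem_centralizer_iff] at hxC
    have h1 : m * X = X * m := by
      apply hfinj
      rw [map_mul, map_mul]
      exact (hxC _ (hfL X)).symm
    have h2 : m * Y = Y * m := by
      apply hfinj
      rw [map_mul, map_mul]
      exact (hxC _ (hfL Y)).symm
    rcases center_facts m h1 h2 with h | h
    · left; rw [h, map_one]
    · right; rw [h]
  have hcardL : Nat.card L = 120 := by
    rw [Nat.card_congr e₀.toEquiv]
    exact SL5_card
  have hauto : Nat.card (MulAut L) ≤ 120 := by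
    rw [Nat.card_congr (MulAut.congr e₀).toEquiv]
    exact card_aut_le
  have hidx := index_sup_centralizer hcardL hauto hzL hz1 hzc hLC
  -- the elements of `2`-power order of `C`
  obtain ⟨hQ1, hQ2, hQ3, hQ4, hQ5⟩ := Q_facts
  set i := f Qi with hi
  set j := f Qj with hj
  have hii : i * i = z := by rw [hi, ← map_mul, hQ1]
  have hjj : j * j = z := by rw [hj, ← map_mul, hQ2]
  have hij : i * j ≠ j * i := by
    intro h
    apply hQ5
    apply hfinj
    rw [map_mul, map_mul]
    exact h
  have h4 : ∀ g : G, g * g = z → g ^ 2 ^ 2 = 1 := by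
    intro g hg
    have : g ^ 2 ^ 2 = (g * g) * (g * g) := by rw [show (2 : ℕ) ^ 2 = 2 + 2 from rfl, pow_add, pow_two]
    rw [this, hg, hzz]
  have hpB : IsPGroup 2 (zpowers j ⊔ zpowers i : Subgroup G) := by
    apply IsPGroup.to_sup_of_normal_right' (Cfsg.Agent.Lib.ZPerfE.zpowers_isP (h4 j hjj))
      (Cfsg.Agent.Lib.ZPerfE.zpowers_isP (h4 i hii))
    rw [zpowers_le]
    apply Cfsg.Agent.Lib.ZPerfE.mem_normalizer_of_inv
    · rw [hi, hj, ← map_inv, ← map_mul, ← map_mul, hQ3, map_inv]
    · rw [hi, hj, ← map_inv, ← map_mul, ← map_mul, hQ4, map_inv]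
  have hBL : (zpowers j ⊔ zpowers i : Subgroup G) ≤ L := by
    apply sup_le
    · rw [zpowers_le]; exact hfL _
    · rw [zpowers_le]; exact hfL _
  have two_elts : ∀ s ∈ C, ∀ k : ℕ, s ^ 2 ^ k = 1 → s = 1 ∨ s = z := by
    intro s hsC k hsk
    have hcB : ∀ b ∈ (zpowers j ⊔ zpowers i : Subgroup G), s * b = b * s := by
      intro b hb
      rw [hC, Subgroup.mem_centralizer_iff] at hsC
      exact (hsC b (hBL hb)).symm
    have hle : zpowers s ≤ normalizer ((zpowers j ⊔ zpowers i : Subgroup G) : Set G) := by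
      rw [zpowers_le, mem_normalizer_iff]
      intro h
      constructor
      · intro hh
        rw [hcB h hh, mul_inv_cancel_right]
        exact hh
      · intro hh
        have h1 := hcB _ hh
        have h2 : s * h * s⁻¹ * s = s * h := by group
        rw [← h1] at h2
        have h3 : s * h * s⁻¹ = h := by
          have h5 := mul_left_cancel (a := s) (b := s * h * s⁻¹) (c := h) (by rw [h1]; group)
          exact h5
        rwa [h3] at hh
    have hA := IsPGroup.to_sup_of_normal_right' (Cfsg.Agent.Lib.ZPerfE.zpowers_isP hsk) hpB hle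
    set A : Subgroup G := zpowers s ⊔ (zpowers j ⊔ zpowers i : Subgroup G) with hAdef
    have hsA : s ∈ A := (le_sup_left : zpowers s ≤ A) (mem_zpowers s)
    have hiA : i ∈ A := (le_sup_right : _ ≤ A) ((le_sup_right : zpowers i ≤ _) (mem_zpowers i))
    have hjA : j ∈ A := (le_sup_right : _ ≤ A) ((le_sup_left : zpowers j ≤ _) (mem_zpowers j))
    rcases hS 2 A hA with hc | ⟨-, n, ⟨e⟩⟩
    · exfalso
      letI : CommGroup A := IsCyclic.commGroup
      have := mul_comm (⟨i, hiA⟩ : A) ⟨j, hjA⟩
      exact hij (congrArg Subtype.val this)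
    · rw [hC, Subgroup.mem_centralizer_iff] at hsC
      have h1 : e ⟨s, hsA⟩ * e ⟨s, hsA⟩ = 1 := by
        apply qg_comm_noncomm (i := e ⟨i, hiA⟩) (j := e ⟨j, hjA⟩)
        · rw [← map_mul, ← map_mul]
          congr 1
          exact Subtype.ext (hsC i (hfL _)).symm
        · rw [← map_mul, ← map_mul]
          congr 1
          exact Subtype.ext (hsC j (hfL _)).symm
        · intro h
          rw [← map_mul, map_eq_one_iff e e.injective] at h
          have h2 : i * i = 1 := congrArg Subtype.val h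
          rw [hii] at h2
          exact hz1 h2
        · intro h
          rw [← map_mul, map_eq_one_iff e e.injective] at h
          have h2 : j * j = 1 := congrArg Subtype.val h
          rw [hjj] at h2
          exact hz1 h2
        · intro h
          rw [← map_mul, ← map_mul] at h
          exact hij (congrArg Subtype.val (e.injective h))
      rw [← map_mul, map_eq_one_iff e e.injective] at h1
      have h2 : s * s = 1 := congrArg Subtype.val h1
      by_cases h3 : s = 1
      · exact Or.inl h3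
      · exact Or.inr (huniq s h3 h2)
  -- the Sylow `2`-subgroup of `C` and its normal complement
  have h2C : 2 ∣ Nat.card C := by
    have h3 : orderOf (⟨z, hzC⟩ : C) = 2 := by
      apply orderOf_eq_prime
      · apply Subtype.ext
        show z ^ 2 = 1
        rw [pow_two, hzz]
      · exact fun e => hz1 (congrArg Subtype.val e)
    rw [← h3]
    exact orderOf_dvd_natCard _
  let P : Sylow 2 C := default
  have hPelts : ∀ w : (P : Subgroup C), ((w : C) : G) = 1 ∨ ((w : C) : G) = z := by
    intro w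
    obtain ⟨k, hk⟩ := P.2 w
    have h1 : ((w : C) : G) ^ 2 ^ k = 1 := by
      have := congrArg (fun u : (P : Subgroup C) => ((u : C) : G)) hk
      simpa using this
    exact two_elts _ (w : C).2 k h1
  have hcyc : IsCyclic (P : Subgroup C) := by
    by_cases hw : ∃ w₀ : (P : Subgroup C), w₀ ≠ 1
    · obtain ⟨w₀, hw₀⟩ := hw
      have hw₀z : ((w₀ : C) : G) = z := by
        rcases hPelts w₀ with h | h
        · exact absurd (Subtype.ext (Subtype.ext h)) hw₀
        · exact h
      refine ⟨⟨w₀, fun w => ?_⟩⟩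
      rcases hPelts w with h | h
      · have : w = 1 := Subtype.ext (Subtype.ext h)
        rw [this]
        exact ⟨0, zpow_zero w₀⟩
      · have : w = w₀ := Subtype.ext (Subtype.ext (h.trans hw₀z.symm))
        rw [this]
        exact ⟨1, zpow_one w₀⟩
    · push Not at hw
      haveI : Subsingleton (P : Subgroup C) := ⟨fun a b => by rw [hw a, hw b]⟩
      exact isCyclic_of_subsingleton
  have h2' : (Nat.card C).minFac = 2 := (Nat.minFac_eq_two_iff _).mpr h2C
  have hN := IsCyclic.normalizer_le_centralizer h2' hcyc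
  let M₀ : Subgroup C := (MonoidHom.transferSylow P hN).ker
  have hM₀odd : ¬ 2 ∣ Nat.card M₀ := MonoidHom.not_dvd_card_ker_transferSylow P hN
  have hcompl : M₀.IsComplement' (P : Subgroup C) := MonoidHom.ker_transferSylow_isComplement' P hN
  let M : Subgroup G := M₀.map C.subtype
  have hMC : M ≤ C := Subgroup.map_subtype_le _
  have hMcard : Nat.card M = Nat.card M₀ := Subgroup.card_map_of_injective C.subtype_injective
  have hModd : ¬ 2 ∣ Nat.card M := by rw [hMcard]; exact hM₀odd
  have hMz : z ∉ M := by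
    intro h
    apply hModd
    have h3 : orderOf (⟨z, h⟩ : M) = 2 := by
      apply orderOf_eq_prime
      · apply Subtype.ext
        show z ^ 2 = 1
        rw [pow_two, hzz]
      · exact fun e => hz1 (congrArg Subtype.val e)
    rw [← h3]
    exact orderOf_dvd_natCard _
  have hdec : ∀ c ∈ C, ∃ m ∈ M, c = m ∨ c = m * z := by
    intro c hc
    obtain ⟨⟨r, s⟩, hrs⟩ := hcompl.2 ⟨c, hc⟩
    have h1 : c = ((r : C) : G) * ((s : C) : G) := (congrArg Subtype.val hrs).symm
    refine ⟨_, ⟨r, r.2, rfl⟩, ?_⟩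
    rcases hPelts s with h | h
    · left
      rw [h1, h, mul_one]
      rfl
    · right
      rw [h1, h]
      rfl
  have hLM : L ⊓ M = ⊥ := by
    rw [eq_bot_iff]
    rintro x ⟨hx1, hx2⟩
    rcases hLC x hx1 (hMC hx2) with h | h
    · exact h
    · rw [h] at hx2
      exact absurd hx2 hMz
  have hcomm : ∀ s ∈ L, ∀ x ∈ M, s * x = x * s := by
    intro s hs x hx
    exact Subgroup.mem_centralizer_iff.mp (hMC hx) s hs
  have hodd_prime : ∀ q : ℕ, q.Prime → q ≠ 2 → (∃ y₂ ∈ L, y₂ ≠ 1 ∧ y₂ ^ q = 1) → ¬ q ∣ Nat.card M := by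
    intro q hq hq2 ⟨y₂, hy₂L, hy₂1, hy₂q⟩ hd
    haveI : Fact q.Prime := ⟨hq⟩
    obtain ⟨y₁', hy₁'⟩ := exists_prime_orderOf_dvd_card' (G := M) q hd
    set y₁ : G := (y₁' : G) with hy₁
    have hy₁o : orderOf y₁ = q := by rw [hy₁, Subgroup.orderOf_coe, hy₁']
    have hy₁1 : y₁ ≠ 1 := by
      intro e
      rw [e, orderOf_one] at hy₁o
      exact hq.one_lt.ne hy₁o
    have hy₁q : y₁ ^ q = 1 := by
      rw [← hy₁o]; exact pow_orderOf_eq_one y₁
    have hy₁M : y₁ ∈ M := y₁'.2
    have hpz : ∀ u : G, u ≠ 1 → u ^ q = 1 → IsPGroup q (zpowers u) := by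
      intro u hu1 huq
      apply IsPGroup.of_card (n := 1)
      rw [Nat.card_zpowers, pow_one]
      exact orderOf_eq_prime huq hu1
    have hle : zpowers y₁ ≤ normalizer (zpowers y₂ : Set G) := by
      rw [zpowers_le]
      exact mem_normalizer_of_comm (hcomm y₂ hy₂L y₁ hy₁M).symm
    have hp := IsPGroup.to_sup_of_normal_right' (hpz y₁ hy₁1 hy₁q) (hpz y₂ hy₂1 hy₂q) hle
    have hc := hS.odd hq2 _ hp
    have a1 : y₁ ∈ zpowers y₁ ⊔ zpowers y₂ := (le_sup_left : zpowers y₁ ≤ _) (mem_zpowers y₁)
    have a2 : y₂ ∈ zpowers y₁ ⊔ zpowers y₂ := (le_sup_right : zpowers y₂ ≤ _) (mem_zpowers y₂)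
    have a3 := mem_zpowers_of_cyclic (ℓ := q) hc a1 a2 hy₁1 hy₁q hy₂q
    have a4 : y₂ ∈ M := (zpowers_le.mpr hy₁M) a3
    have a5 : y₂ ∈ L ⊓ M := ⟨hy₂L, a4⟩
    rw [hLM] at a5
    exact hy₂1 (Subgroup.mem_bot.mp a5)
  refine ⟨L ⊔ C, inferInstance, hidx, L, M, ?_, hLM, hcomm, ⟨e₀⟩, ?_, ?_⟩
  · apply le_antisymm
    · exact sup_le le_sup_left (hMC.trans le_sup_right)
    · apply sup_le le_sup_left
      intro c hc
      obtain ⟨m, hm, h | h⟩ := hdec c hc
      · rw [h]
        exact (le_sup_right : M ≤ _) hm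
      · rw [h, (hzc m)]
        exact mul_mem ((le_sup_left : L ≤ _) hzL) ((le_sup_right : M ≤ _) hm)
  · intro p _ Q
    by_cases hp2 : p = 2
    · subst hp2
      have hbot : ∀ w : (Q : Subgroup M), w = 1 := by
        intro w
        obtain ⟨k, hk⟩ := Q.2 w
        have h1 : orderOf (w : M) ∣ 2 ^ k := by
          apply orderOf_dvd_of_pow_eq_one
          have := congrArg (fun u : (Q : Subgroup M) => (u : M)) hk
          simpa using this
        have h2 : orderOf (w : M) ∣ Nat.card M := orderOf_dvd_natCard _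
        have h3 : (2 ^ k).Coprime (Nat.card M) :=
          Nat.Coprime.pow_left k ((Nat.Prime.coprime_iff_not_dvd Nat.prime_two).mpr hModd)
        have h4 := Nat.eq_one_of_dvd_coprimes h3 h1 h2
        exact Subtype.ext (orderOf_eq_one_iff.mp h4)
      haveI : Subsingleton (Q : Subgroup M) := ⟨fun a b => by rw [hbot a, hbot b]⟩
      exact isCyclic_of_subsingleton
    · let A : Subgroup G := (Q : Subgroup M).map M.subtype
      have hA : IsPGroup p A := Q.2.map M.subtype
      have hc := hS.odd hp2 A hA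
      let g : (Q : Subgroup M) →* A :=
        { toFun := fun a => ⟨(a : M), ⟨a, a.2, rfl⟩⟩
          map_one' := rfl
          map_mul' := fun _ _ => rfl }
      refine isCyclic_of_injective g ?_
      intro a b hab
      exact Subtype.ext (Subtype.ext (congrArg (fun y : A => (y : G)) hab))
  · haveI : Fact (Nat.Prime 3) := ⟨Nat.prime_three⟩
    haveI : Fact (Nat.Prime 5) := ⟨by norm_num⟩
    have h3 : ¬ 3 ∣ Nat.card M := by
      apply hodd_prime 3 Nat.prime_three (by norm_num)
      refine ⟨f X, hfL X, ?_, ?_⟩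
      · intro h
        apply hX1
        apply hfinj
        rw [map_one]; exact h
      · rw [← map_pow, hX3, map_one]
    have h5 : ¬ 5 ∣ Nat.card M := by
      apply hodd_prime 5 (by norm_num) (by norm_num)
      refine ⟨f Y, hfL Y, ?_, ?_⟩
      · intro h
        apply hY1
        apply hfinj
        rw [map_one]; exact h
      · rw [← map_pow, hY5, map_one]
    have e30 : (30 : ℕ) = 2 * (3 * 5) := by norm_num
    rw [e30]
    apply Nat.Coprime.mul_right ((Nat.Prime.coprime_iff_not_dvd Nat.prime_two).mpr hModd).symm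
    apply Nat.Coprime.mul_right
    · exact ((Nat.Prime.coprime_iff_not_dvd Nat.prime_three).mpr h3).symm
    · exact ((Nat.Prime.coprime_iff_not_dvd (by norm_num)).mpr h5).symm

end main

end Cfsg.Agent.Lib.ZStruct
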