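import Mathlib
import Cfsg.Agent.Lib.ZStruct

/-!
# Structure of Frobenius complements: basic facts

* cyclic Sylow `2`-subgroups exclude pairs of commuting involutions;
* `A₄, S₄, A₅, S₅` have no nontrivial normal subgroup with cyclic Sylow `2`-subgroups;
* `SL(2,5)` has five Sylow `2`-subgroups, and the kernel of its action on them is the centre;
* homomorphisms to symmetric groups with kernel of index `n!` or `n!/2`;
* the predicate `Good` of the statement and its uniqueness.
-/

set_option autoImplicit false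
set_option linter.style.haveILetI false
set_option linter.unusedSectionVars false
set_option linter.unusedSimpArgs false
set_option linter.unusedVariables false

namespace Cfsg.Agent.Lib.FCBase

open Subgroup Cfsg.Agent.Lib.ZPerfD Cfsg.Agent.Lib.ZStruct
open Cfsg.Agent.S3378 (X Y Z SL5_gen SL5_card)
open QuaternionGroup

universe u v

/-- Cyclic Sylow `2`-subgroups exclude two distinct commuting involutions. -/
theorem no_two_invol {K : Type*} [Group K] [Finite K] [Fact (Nat.Prime 2)]
    (hK : ∀ P : Sylow 2 K, IsCyclic P) {a b : K}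
    (ha : a ≠ 1) (hb : b ≠ 1) (hab : a ≠ b) (haa : a * a = 1) (hbb : b * b = 1)
    (hc : a * b = b * a) : False := by
  classical
  have h4 : ∀ c : K, c * c = 1 → c ^ 2 ^ 1 = 1 := by
    intro c hc
    rw [pow_one, pow_two, hc]
  have hV : IsPGroup 2 (zpowers a ⊔ zpowers b : Subgroup K) := by
    apply IsPGroup.to_sup_of_normal_right' (Cfsg.Agent.Lib.ZPerfE.zpowers_isP (h4 a haa))
      (Cfsg.Agent.Lib.ZPerfE.zpowers_isP (h4 b hbb))
    rw [zpowers_le, mem_normalizer_iff]
    intro u
    constructor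
    · rintro ⟨k, rfl⟩
      have : Commute a b := hc
      refine ⟨k, ?_⟩
      show b ^ k = a * b ^ k * a⁻¹
      rw [(this.zpow_right k).eq, mul_inv_cancel_right]
    · rintro ⟨k, hk⟩
      have : Commute a b := hc
      refine ⟨k, ?_⟩
      have h1 : b ^ k = a * u * a⁻¹ := hk
      have h2 : a * u * a⁻¹ * a = b ^ k * a := by rw [h1]
      rw [inv_mul_cancel_right, ← (this.zpow_right k).eq] at h2
      exact mul_left_cancel h2.symm
  obtain ⟨P, hP⟩ := hV.exists_le_sylow
  have hcyc := hK P
  letI : Fintype (P : Subgroup K) := Fintype.ofFinite _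
  have haP : a ∈ (P : Subgroup K) := hP ((le_sup_left : zpowers a ≤ _) (mem_zpowers a))
  have hbP : b ∈ (P : Subgroup K) := hP ((le_sup_right : zpowers b ≤ _) (mem_zpowers b))
  have h2 : (Finset.univ.filter (fun u : (P : Subgroup K) => u ^ 2 = 1)).card ≤ 2 := by
    convert IsCyclic.card_pow_eq_one_le (α := (P : Subgroup K)) (n := 2) (by norm_num)
  let a' : (P : Subgroup K) := ⟨a, haP⟩
  let b' : (P : Subgroup K) := ⟨b, hbP⟩
  have ha' : a' ≠ 1 := fun h => ha (congrArg Subtype.val h)
  have hb' : b' ≠ 1 := fun h => hb (congrArg Subtype.val h)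
  have hab' : a' ≠ b' := fun h => hab (congrArg Subtype.val h)
  have hsub : ({1, a', b'} : Finset (P : Subgroup K)) ⊆ Finset.univ.filter (fun u : (P : Subgroup K) => u ^ 2 = 1) := by
    intro u hu
    simp only [Finset.mem_insert, Finset.mem_singleton] at hu
    simp only [Finset.mem_filter, Finset.mem_univ, true_and]
    rcases hu with rfl | rfl | rfl
    · simp
    · exact Subtype.ext (by simpa [pow_two] using haa)
    · exact Subtype.ext (by simpa [pow_two] using hbb)
  have h3 := Finset.card_le_card hsub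
  have h5 : ({1, a', b'} : Finset (P : Subgroup K)).card = 3 := by
    rw [Finset.card_insert_of_notMem, Finset.card_pair hab']
    simp only [Finset.mem_insert, Finset.mem_singleton, not_or]
    exact ⟨ha'.symm, hb'.symm⟩
  omega

/-- A criterion for having no nontrivial normal subgroup with cyclic Sylow `2`-subgroups. -/
theorem nocyc_of {Q : Type*} [Group Q] [Finite Q] [Fact (Nat.Prime 2)]
    (h : ∀ x : Q, x ≠ 1 → ∃ g g' : Q,
      let a := x * g * x⁻¹ * g⁻¹
      let b := g' * a * g'⁻¹
      a ≠ 1 ∧ a ≠ b ∧ a * a = 1 ∧ a * b = b * a)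
    (K : Subgroup Q) (hKn : K.Normal) (hK : ∀ P : Sylow 2 K, IsCyclic P) : K = ⊥ := by
  by_contra hne
  obtain ⟨x, hx, hx1⟩ : ∃ x ∈ K, x ≠ 1 := by
    obtain ⟨⟨x, hx⟩, hx1⟩ := Subgroup.ne_bot_iff_exists_ne_one.mp hne
    exact ⟨x, hx, fun h => hx1 (Subtype.ext h)⟩
  obtain ⟨g, g', h1, h2, h3, h4⟩ := h x hx1
  set a := x * g * x⁻¹ * g⁻¹ with ha
  set b := g' * a * g'⁻¹ with hb
  have haK : a ∈ K := by
    rw [ha]
    have h5 : x * g * x⁻¹ * g⁻¹ = x * (g * x⁻¹ * g⁻¹) := by group
    rw [h5]
    exact K.mul_mem hx (hKn.conj_mem _ (K.inv_mem hx) g)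
  have hbK : b ∈ K := hKn.conj_mem _ haK g'
  have hbb : b * b = 1 := by
    rw [hb]
    calc g' * a * g'⁻¹ * (g' * a * g'⁻¹) = g' * (a * a) * g'⁻¹ := by group
      _ = 1 := by rw [h3]; group
  have hb1 : b ≠ 1 := by
    intro e
    rw [hb, conj_eq_one_iff] at e
    exact h1 e
  refine no_two_invol hK (a := ⟨a, haK⟩) (b := ⟨b, hbK⟩) ?_ ?_ ?_ ?_ ?_ ?_
  · exact fun e => h1 (congrArg Subtype.val e)
  · exact fun e => hb1 (congrArg Subtype.val e)
  · exact fun e => h2 (congrArg Subtype.val e)
  · exact Subtype.ext h3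
  · exact Subtype.ext hbb
  · exact Subtype.ext h4

set_option maxRecDepth 100000 in
theorem w_S4 : ∀ x : Equiv.Perm (Fin 4), x ≠ 1 → ∃ g g' : Equiv.Perm (Fin 4),
    let a := x * g * x⁻¹ * g⁻¹
    let b := g' * a * g'⁻¹
    a ≠ 1 ∧ a ≠ b ∧ a * a = 1 ∧ a * b = b * a := by decide +kernel

set_option maxRecDepth 100000 in
theorem w_A4 : ∀ x : alternatingGroup (Fin 4), x ≠ 1 → ∃ g g' : alternatingGroup (Fin 4),
    let a := x * g * x⁻¹ * g⁻¹
    let b := g' * a * g'⁻¹
    a ≠ 1 ∧ a ≠ b ∧ a * a = 1 ∧ a * b = b * a := by decide +kernel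

/-- The alternating group of degree five. -/
theorem nocyc_A5 [Fact (Nat.Prime 2)] (K : Subgroup (alternatingGroup (Fin 5))) (hKn : K.Normal)
    (hK : ∀ P : Sylow 2 K, IsCyclic P) : K = ⊥ := by
  rcases IsSimpleGroup.eq_bot_or_eq_top_of_normal K hKn with h | h
  · exact h
  exfalso
  subst h
  let a : alternatingGroup (Fin 5) := ⟨Equiv.swap 0 1 * Equiv.swap 2 3, Equiv.Perm.mem_alternatingGroup.mpr (by decide)⟩
  let b : alternatingGroup (Fin 5) := ⟨Equiv.swap 0 2 * Equiv.swap 1 3, Equiv.Perm.mem_alternatingGroup.mpr (by decide)⟩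
  refine no_two_invol hK (a := ⟨a, trivial⟩) (b := ⟨b, trivial⟩) ?_ ?_ ?_ ?_ ?_ ?_
  · exact fun e => absurd (congrArg Subtype.val e) (by decide)
  · exact fun e => absurd (congrArg Subtype.val e) (by decide)
  · exact fun e => absurd (congrArg Subtype.val e) (by decide)
  · exact Subtype.ext (by decide)
  · exact Subtype.ext (by decide)
  · exact Subtype.ext (by decide)

set_option maxRecDepth 100000 in
theorem S5_center : ∀ x : Equiv.Perm (Fin 5), (∀ g : Equiv.Perm (Fin 5), x * g = g * x) → x = 1 := by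
  decide +kernel

/-- The symmetric group of degree five. -/
theorem nocyc_S5 [Fact (Nat.Prime 2)] (K : Subgroup (Equiv.Perm (Fin 5))) (hKn : K.Normal)
    (hK : ∀ P : Sylow 2 K, IsCyclic P) : K = ⊥ := by
  classical
  set L : Subgroup (alternatingGroup (Fin 5)) := K.comap (alternatingGroup (Fin 5)).subtype with hL
  have hLn : L.Normal := hKn.comap _
  -- the Sylow `2`-subgroups of `L` are cyclic
  have hLc : ∀ P : Sylow 2 L, IsCyclic P := by
    intro P
    let ι : L →* K := MonoidHom.codRestrict ((alternatingGroup (Fin 5)).subtype.comp L.subtype) K (fun x => x.2)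
    have hι : Function.Injective ι := by
      intro u v h
      exact Subtype.ext (Subtype.ext (congrArg (fun w : K => (w : Equiv.Perm (Fin 5))) h))
    have hA : IsPGroup 2 ((P : Subgroup L).map ι) := P.2.map ι
    obtain ⟨R, hR⟩ := hA.exists_le_sylow
    have hcyc := hK R
    let κ : (P : Subgroup L) →* (R : Subgroup K) :=
      (ι.comp (P : Subgroup L).subtype).codRestrict _ (fun x => hR ⟨x, x.2, rfl⟩)
    have hκ : Function.Injective κ := by
      intro u v h
      exact Subtype.ext (hι (congrArg (fun w : (R : Subgroup K) => (w : K)) h))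
    exact isCyclic_of_injective κ hκ
  have hLb := nocyc_A5 L hLn hLc
  -- every commutator with an element of `K` is trivial
  rw [eq_bot_iff]
  intro x hx
  rw [Subgroup.mem_bot]
  have hcen : ∀ g : Equiv.Perm (Fin 5), x * g * x⁻¹ * g⁻¹ = 1 := by
    intro g
    have h1 : x * g * x⁻¹ * g⁻¹ ∈ K := by
      have h5 : x * g * x⁻¹ * g⁻¹ = x * (g * x⁻¹ * g⁻¹) := by group
      rw [h5]
      exact K.mul_mem hx (hKn.conj_mem _ (K.inv_mem hx) g)
    have h2 : x * g * x⁻¹ * g⁻¹ ∈ alternatingGroup (Fin 5) := by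
      rw [Equiv.Perm.mem_alternatingGroup]
      simp only [map_mul, map_inv]
      have : Equiv.Perm.sign x * Equiv.Perm.sign g * (Equiv.Perm.sign x)⁻¹ * (Equiv.Perm.sign g)⁻¹ = 1 := by
        rw [mul_comm (Equiv.Perm.sign x)]
        group
      exact this
    have h3 : (⟨_, h2⟩ : alternatingGroup (Fin 5)) ∈ L := h1
    rw [hLb, Subgroup.mem_bot] at h3
    exact congrArg Subtype.val h3
  have hc : ∀ g : Equiv.Perm (Fin 5), x * g = g * x := by
    intro g
    have := hcen g
    have h2 : x * g * x⁻¹ = g := by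
      rw [mul_inv_eq_one] at this
      exact this
    rw [mul_inv_eq_iff_eq_mul] at h2
    exact h2
  exact S5_center x hc

end Cfsg.Agent.Lib.FCBase
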