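import Mathlib
import Cfsg.Agent.Lib.FCBase

/-!
# The Sylow `2`-subgroups of `SL(2,5)`
-/

set_option autoImplicit false
set_option linter.style.haveILetI false
set_option linter.unusedSectionVars false
set_option linter.unusedSimpArgs false
set_option linter.unusedVariables false

namespace Cfsg.Agent.Lib.FCGamma

open Subgroup Cfsg.Agent.Lib.ZStruct
open Cfsg.Agent.S3378 (X Y Z SL5_gen SL5_card)

/-- The quaternion subgroup of `SL(2,5)`, as a finite set. -/
def Q8set : Finset Γ := {1, Z, Qi, Qi⁻¹, Qj, Qj⁻¹, Qi * Qj, (Qi * Qj)⁻¹}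

theorem Q8set_mul : ∀ a ∈ Q8set, ∀ b ∈ Q8set, a * b ∈ Q8set := by decide +kernel
theorem Q8set_inv : ∀ a ∈ Q8set, a⁻¹ ∈ Q8set := by decide +kernel
theorem Q8set_one : (1 : Γ) ∈ Q8set := by decide +kernel
theorem Q8set_card : Q8set.card = 8 := by decide +kernel
theorem Q8set_pow : ∀ a ∈ Q8set, a ^ 2 ^ 3 = 1 := by decide +kernel

/-- The quaternion subgroup of `SL(2,5)`. -/
def P0 : Subgroup Γ where
  carrier := Q8set
  mul_mem' := fun ha hb => Q8set_mul _ ha _ hb
  one_mem' := Q8set_one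
  inv_mem' := fun ha => Q8set_inv _ ha

theorem mem_P0 {m : Γ} : m ∈ P0 ↔ m ∈ Q8set := Iff.rfl

theorem P0_isP : IsPGroup 2 P0 := by
  rintro ⟨g, hg⟩
  exact ⟨3, Subtype.ext (Q8set_pow g hg)⟩

theorem card_P0 : Nat.card P0 = 8 := by
  have : Nat.card P0 = Nat.card (Q8set : Set Γ) := rfl
  rw [this, Nat.card_coe_set_eq, Set.ncard_coe_finset, Q8set_card]

instance : Fact (Nat.Prime 2) := ⟨Nat.prime_two⟩

theorem index_P0 : P0.index = 15 := by
  have h := Subgroup.card_mul_index P0
  rw [card_P0, SL5_card] at h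
  omega

/-- The Sylow subgroup. -/
noncomputable def P1 : Sylow 2 Γ :=
  P0_isP.toSylow (by rw [index_P0]; decide)

theorem P1_coe : (P1 : Subgroup Γ) = P0 := rfl

/-- The normalizer of the quaternion subgroup, as a finite set. -/
def N0 : Finset Γ := Finset.univ.filter (fun m => ∀ q ∈ Q8set, m * q * m⁻¹ ∈ Q8set)

theorem N0_card : N0.card = 24 := by decide +kernel
theorem N0_inv : ∀ m ∈ N0, m⁻¹ ∈ N0 := by decide +kernel

theorem mem_normalizer_P0 {m : Γ} : m ∈ normalizer (P0 : Set Γ) ↔ m ∈ N0 := by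
  rw [Subgroup.mem_normalizer_iff]
  constructor
  · intro h
    simp only [N0, Finset.mem_filter, Finset.mem_univ, true_and]
    intro q hq
    exact (h q).mp hq
  · intro h q
    constructor
    · intro hq
      exact (Finset.mem_filter.mp h).2 q hq
    · intro hq
      have h1 := (Finset.mem_filter.mp (N0_inv m h)).2 _ hq
      have h2 : m⁻¹ * (m * q * m⁻¹) * m⁻¹⁻¹ = q := by group
      rw [h2] at h1
      exact h1

theorem card_normalizer_P0 : Nat.card (normalizer (P0 : Set Γ)) = 24 := by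
  have h : Nat.card (normalizer (P0 : Set Γ)) = Nat.card (N0 : Set Γ) := by
    apply Nat.card_congr
    exact Equiv.subtypeEquivRight (fun m => mem_normalizer_P0)
  rw [h, Nat.card_coe_set_eq, Set.ncard_coe_finset, N0_card]

/-- `SL(2,5)` has five Sylow `2`-subgroups. -/
theorem card_sylow : Nat.card (Sylow 2 Γ) = 5 := by
  rw [Sylow.card_eq_index_normalizer P1]
  have h := Subgroup.card_mul_index (normalizer (P0 : Set Γ))
  rw [card_normalizer_P0, SL5_card] at h
  show (normalizer (P0 : Set Γ)).index = 5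
  omega

theorem ker_aux : ∀ m : Γ, (∀ d : Γ, d * m * d⁻¹ ∈ N0) → m = 1 ∨ m = Z := by decide +kernel

/-- The kernel of the action of `SL(2,5)` on its Sylow `2`-subgroups is the centre. -/
theorem ker_sylow (m : Γ) (h : ∀ P : Sylow 2 Γ, m • P = P) : m = 1 ∨ m = Z := by
  apply ker_aux
  intro d
  rw [← mem_normalizer_P0]
  have h1 : (d * m * d⁻¹) • P1 = P1 := by
    rw [mul_smul, mul_smul, h (d⁻¹ • P1), smul_inv_smul]
  exact Sylow.smul_eq_iff_mem_normalizer.mp h1

end Cfsg.Agent.Lib.FCGamma
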