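import Mathlib
import Cfsg.Agent.Lib.FCBase

/-!
# The normal subgroup of a Frobenius complement: the predicate and its uniqueness
-/

set_option autoImplicit false
set_option linter.style.haveILetI false
set_option linter.unusedSectionVars false
set_option linter.unusedSimpArgs false
set_option linter.unusedVariables false

namespace Cfsg.Agent.Lib.FCGood

open Subgroup Cfsg.Agent.Lib.ZPerfD Cfsg.Agent.Lib.FCBase

universe u

/-- The predicate in the structure theorem. -/
def Good {G : Type*} [Group G] (N : Subgroup G) : Prop :=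
  N.Normal ∧ (∀ (p : ℕ) [Fact p.Prime] (P : Sylow p N), IsCyclic P) ∧
    (N = ⊤ ∨
      (∃ f : G →* DihedralGroup 2, Function.Surjective f ∧ f.ker = N) ∨
      (∃ f : G →* alternatingGroup (Fin 4), Function.Surjective f ∧ f.ker = N) ∨
      (∃ f : G →* Equiv.Perm (Fin 4), Function.Surjective f ∧ f.ker = N) ∨
      (∃ f : G →* alternatingGroup (Fin 5), Function.Surjective f ∧ f.ker = N) ∨
      (∃ f : G →* Equiv.Perm (Fin 5), Function.Surjective f ∧ f.ker = N))

variable {G : Type*} [Group G] [Finite G]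

/-- Sylow subgroups of a subgroup whose `2`-subgroups are cyclic. -/
theorem sylow_cyclic_of (hS : SylHyp G) (N : Subgroup G)
    (h2 : ∀ A : Subgroup G, A ≤ N → IsPGroup 2 A → IsCyclic A)
    (p : ℕ) [Fact p.Prime] (P : Sylow p N) : IsCyclic P := by
  let A : Subgroup G := (P : Subgroup N).map N.subtype
  have hA : IsPGroup p A := P.2.map N.subtype
  have hAN : A ≤ N := by
    rintro _ ⟨x, -, rfl⟩
    exact x.2
  have hcyc : IsCyclic A := by
    by_cases hp : p = 2
    · subst hp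
      exact h2 A hAN hA
    · exact hS.odd hp A hA
  let e : (P : Subgroup N) ≃* A := (P : Subgroup N).equivMapOfInjective N.subtype N.subtype_injective
  exact isCyclic_of_injective e.toMonoidHom e.injective

/-- The image of a subgroup with cyclic Sylow `2`-subgroups. -/
theorem map_sylow_cyclic [Fact (Nat.Prime 2)] {Q : Type*} [Group Q] (f : G →* Q) (N : Subgroup G)
    (hN : ∀ P : Sylow 2 N, IsCyclic P) (P : Sylow 2 (N.map f)) : IsCyclic P := by
  let ρ : N →* N.map f := f.subgroupMap N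
  have hρ : Function.Surjective ρ := f.subgroupMap_surjective N
  obtain ⟨P', rfl⟩ := Sylow.mapSurjective_surjective hρ 2 P
  have hc := hN P'
  have : Function.Surjective (ρ.subgroupMap (P' : Subgroup N)) := ρ.subgroupMap_surjective _
  exact isCyclic_of_surjective _ this

/-- Groups with no nontrivial normal subgroup with cyclic Sylow `2`-subgroups. -/
def NoCyc (Q : Type*) [Group Q] : Prop :=
  ∀ K : Subgroup Q, K.Normal → (∀ P : Sylow 2 K, IsCyclic P) → K = ⊥

instance : Fact (Nat.Prime 2) := ⟨Nat.prime_two⟩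

theorem noCyc_S4 : NoCyc (Equiv.Perm (Fin 4)) := nocyc_of w_S4
theorem noCyc_A4 : NoCyc (alternatingGroup (Fin 4)) := nocyc_of w_A4
theorem noCyc_A5 : NoCyc (alternatingGroup (Fin 5)) := nocyc_A5
theorem noCyc_S5 : NoCyc (Equiv.Perm (Fin 5)) := nocyc_S5

theorem le_of_noCyc {Q : Type*} [Group Q] (hQ : NoCyc Q) (f : G →* Q) (hf : Function.Surjective f)
    (N₁ N₂ : Subgroup G) (h₁ : f.ker = N₁) (hn : N₂.Normal) (hc : ∀ P : Sylow 2 N₂, IsCyclic P) :
    N₂ ≤ N₁ := by
  have h := hQ (N₂.map f) (hn.map f hf) (map_sylow_cyclic f N₂ hc)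
  rw [← h₁]
  intro x hx
  have : f x ∈ N₂.map f := ⟨x, hx, rfl⟩
  rw [h, Subgroup.mem_bot] at this
  exact this

theorem v4_exp : ∀ x : DihedralGroup 2, x * x = 1 := by decide

theorem v4_isP : IsPGroup 2 (DihedralGroup 2) :=
  IsPGroup.of_card (n := 2) (by rw [DihedralGroup.nat_card]; norm_num)

/-- A Sylow `2`-subgroup maps onto the Klein four-group. -/
theorem sylow_onto (f : G →* DihedralGroup 2) (hf : Function.Surjective f) (P : Sylow 2 G) :
    Function.Surjective (f.comp (P : Subgroup G).subtype) := by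
  have h1 : (P : Subgroup G).map f = ⊤ := by
    have h2 := (Sylow.mapSurjective hf P).is_maximal' (Q := ⊤) (v4_isP.of_equiv Subgroup.topEquiv.symm) le_top
    rw [Sylow.coe_mapSurjective] at h2
    exact h2.symm
  intro y
  have : y ∈ (P : Subgroup G).map f := by rw [h1]; trivial
  obtain ⟨x, hx, rfl⟩ := this
  exact ⟨⟨x, hx⟩, rfl⟩

open QuaternionGroup in
/-- The kernel of a surjection of a generalized quaternion group to the Klein four-group. -/
theorem quat_ker {m : ℕ} [NeZero m] (η : QuaternionGroup m →* DihedralGroup 2)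
    (hη : Function.Surjective η) : η.ker = zpowers (a 1 ^ 2 : QuaternionGroup m) := by
  symm
  apply Subgroup.eq_of_le_of_card_ge
  · rw [zpowers_le, MonoidHom.mem_ker, map_pow, pow_two]
    exact v4_exp _
  · rw [Nat.card_zpowers, orderOf_pow, orderOf_a_one]
    have h1 : Nat.card η.ker * η.ker.index = Nat.card (QuaternionGroup m) := Subgroup.card_mul_index _
    have h2 : η.ker.index = 4 := by
      rw [Subgroup.index_ker, MonoidHom.range_eq_top.mpr hη, Subgroup.card_top, DihedralGroup.nat_card]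
    rw [h2, Nat.card_eq_fintype_card (α := QuaternionGroup m), QuaternionGroup.card] at h1
    have h3 : Nat.gcd (2 * m) 2 = 2 := Nat.gcd_eq_right (dvd_mul_right 2 m)
    rw [h3, Nat.mul_div_cancel_left _ (by norm_num : 0 < 2)]
    nlinarith

/-- The two-elements of the kernels of two surjections to the Klein four-group. -/
theorem v4_key (hS : SylHyp G) (f₁ f₂ : G →* DihedralGroup 2) (h₁ : Function.Surjective f₁)
    (h₂ : Function.Surjective f₂) (P : Sylow 2 G) (u : G) (hu : u ∈ (P : Subgroup G)) (hu2 : f₂ u = 1) :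
    f₁ u = 1 := by
  rcases hS 2 (P : Subgroup G) P.2 with hc | ⟨-, n, ⟨e⟩⟩
  · exfalso
    have h := isCyclic_of_surjective _ (sylow_onto f₁ h₁ P)
    exact DihedralGroup.not_isCyclic (by norm_num) h
  · haveI : NeZero (2 ^ n) := ⟨by positivity⟩
    let η : ∀ f : G →* DihedralGroup 2, QuaternionGroup (2 ^ n) →* DihedralGroup 2 :=
      fun f => (f.comp (P : Subgroup G).subtype).comp e.symm.toMonoidHom
    have hη : ∀ f : G →* DihedralGroup 2, Function.Surjective f → Function.Surjective (η f) := by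
      intro f hf
      exact (sylow_onto f hf P).comp e.symm.surjective
    have h1 := quat_ker (η f₁) (hη f₁ h₁)
    have h2 := quat_ker (η f₂) (hη f₂ h₂)
    have h3 : e ⟨u, hu⟩ ∈ (η f₂).ker := by
      rw [MonoidHom.mem_ker]
      show f₂ ((e.symm (e ⟨u, hu⟩) : (P : Subgroup G)) : G) = 1
      rw [e.symm_apply_apply]
      exact hu2
    rw [h2, ← h1, MonoidHom.mem_ker] at h3
    have h4 : f₁ ((e.symm (e ⟨u, hu⟩) : (P : Subgroup G)) : G) = 1 := h3
    rw [e.symm_apply_apply] at h4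
    exact h4

/-- Two surjections to the Klein four-group with the same... kernels are nested. -/
theorem v4_le (hS : SylHyp G) (f₁ f₂ : G →* DihedralGroup 2) (h₁ : Function.Surjective f₁)
    (h₂ : Function.Surjective f₂) : f₂.ker ≤ f₁.ker := by
  intro y hy
  rw [MonoidHom.mem_ker] at hy ⊢
  set o := orderOf y with ho
  have ho0 : o ≠ 0 := (orderOf_pos y).ne'
  set b := ordCompl[2] o with hb
  set q := ordProj[2] o with hq
  have hbq : q * b = o := Nat.ordProj_mul_ordCompl_eq_self o 2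
  have hu : (y ^ b) ^ 2 ^ (o.factorization 2) = 1 := by
    rw [← pow_mul, mul_comm, ← hq, hbq, ho, pow_orderOf_eq_one]
  have hp : IsPGroup 2 (zpowers (y ^ b)) := Cfsg.Agent.Lib.ZPerfE.zpowers_isP hu
  obtain ⟨P, hP⟩ := hp.exists_le_sylow
  have h1 := v4_key hS f₁ f₂ h₁ h₂ P (y ^ b) (hP (mem_zpowers _)) (by rw [map_pow, hy, one_pow])
  rw [map_pow] at h1
  have hbodd : ¬ 2 ∣ b := Nat.not_dvd_ordCompl Nat.prime_two ho0
  obtain ⟨c, hc⟩ : ∃ c, b = 2 * c + 1 := ⟨b / 2, by omega⟩
  rw [hc, pow_succ, pow_mul, pow_two, v4_exp, one_pow, one_mul] at h1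
  exact h1

theorem v4_facts : (DihedralGroup.r 1 : DihedralGroup 2) ≠ 1 ∧ (DihedralGroup.sr 0 : DihedralGroup 2) ≠ 1 ∧
    (DihedralGroup.r 1 : DihedralGroup 2) ≠ DihedralGroup.sr 0 ∧
    (DihedralGroup.r 1 : DihedralGroup 2) * DihedralGroup.r 1 = 1 ∧
    (DihedralGroup.sr 0 : DihedralGroup 2) * DihedralGroup.sr 0 = 1 ∧
    (DihedralGroup.r 1 : DihedralGroup 2) * DihedralGroup.sr 0 = DihedralGroup.sr 0 * DihedralGroup.r 1 := by
  decide

theorem card_A4 : 4 < Nat.card (alternatingGroup (Fin 4)) := by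
  rw [Nat.card_eq_fintype_card]; decide
theorem card_S4 : 4 < Nat.card (Equiv.Perm (Fin 4)) := by
  rw [Nat.card_eq_fintype_card]; decide
theorem card_A5 : 4 < Nat.card (alternatingGroup (Fin 5)) := by
  rw [Nat.card_eq_fintype_card]; decide +kernel
theorem card_S5 : 4 < Nat.card (Equiv.Perm (Fin 5)) := by
  rw [Nat.card_eq_fintype_card]; decide +kernel

/-- **Uniqueness.** -/
theorem good_le (hS : SylHyp G) {N₁ N₂ : Subgroup G} (h₁ : Good N₁) (h₂ : Good N₂) : N₂ ≤ N₁ := by
  obtain ⟨hn₁, hc₁, h₁⟩ := h₁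
  obtain ⟨hn₂, hc₂, h₂⟩ := h₂
  rcases h₁ with rfl | ⟨f₁, hf₁, hk₁⟩ | ⟨f₁, hf₁, hk₁⟩ | ⟨f₁, hf₁, hk₁⟩ | ⟨f₁, hf₁, hk₁⟩ | ⟨f₁, hf₁, hk₁⟩
  · exact le_top
  · -- the Klein four-group
    have hidx : N₁.index = 4 := by
      rw [← hk₁, Subgroup.index_ker, MonoidHom.range_eq_top.mpr hf₁, Subgroup.card_top, DihedralGroup.nat_card]
    have key : ∀ {Q : Type} [Group Q] (hQ : NoCyc Q) (f : G →* Q), Function.Surjective f → f.ker = N₂ →
        4 < Nat.card Q → False := by
      intro Q _ hQ f hf hk hQc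
      have h3 : N₁ ≤ N₂ := le_of_noCyc hQ f hf N₂ N₁ hk hn₁ (fun P => hc₁ 2 P)
      have h4 : N₂.index ∣ N₁.index := Subgroup.index_dvd_of_le h3
      have h5 : N₂.index = Nat.card Q := by
        rw [← hk, Subgroup.index_ker, MonoidHom.range_eq_top.mpr hf, Subgroup.card_top]
      rw [h5, hidx] at h4
      have := Nat.le_of_dvd (by norm_num) h4
      omega
    rcases h₂ with rfl | ⟨f₂, hf₂, hk₂⟩ | ⟨f₂, hf₂, hk₂⟩ | ⟨f₂, hf₂, hk₂⟩ | ⟨f₂, hf₂, hk₂⟩ | ⟨f₂, hf₂, hk₂⟩
    · exfalso
      have h3 : ∀ P : Sylow 2 ((⊤ : Subgroup G).map f₁), IsCyclic P := map_sylow_cyclic f₁ ⊤ (fun P => hc₂ 2 P)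
      have h4 : (⊤ : Subgroup G).map f₁ = ⊤ := by
        rw [← MonoidHom.range_eq_map, MonoidHom.range_eq_top.mpr hf₁]
      let a : (⊤ : Subgroup G).map f₁ := ⟨DihedralGroup.r 1, by rw [h4]; trivial⟩
      let b : (⊤ : Subgroup G).map f₁ := ⟨DihedralGroup.sr 0, by rw [h4]; trivial⟩
      refine no_two_invol h3 (a := a) (b := b) ?_ ?_ ?_ ?_ ?_ ?_
      · exact fun e => v4_facts.1 (congrArg Subtype.val e)
      · exact fun e => v4_facts.2.1 (congrArg Subtype.val e)
      · exact fun e => v4_facts.2.2.1 (congrArg Subtype.val e)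
      · exact Subtype.ext v4_facts.2.2.2.1
      · exact Subtype.ext v4_facts.2.2.2.2.1
      · exact Subtype.ext v4_facts.2.2.2.2.2
    · rw [← hk₁, ← hk₂]
      exact v4_le hS f₁ f₂ hf₁ hf₂
    · exact (key noCyc_A4 f₂ hf₂ hk₂ card_A4).elim
    · exact (key noCyc_S4 f₂ hf₂ hk₂ card_S4).elim
    · exact (key noCyc_A5 f₂ hf₂ hk₂ card_A5).elim
    · exact (key noCyc_S5 f₂ hf₂ hk₂ card_S5).elim
  · exact le_of_noCyc noCyc_A4 f₁ hf₁ N₁ N₂ hk₁ hn₂ (fun P => hc₂ 2 P)
  · exact le_of_noCyc noCyc_S4 f₁ hf₁ N₁ N₂ hk₁ hn₂ (fun P => hc₂ 2 P)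
  · exact le_of_noCyc noCyc_A5 f₁ hf₁ N₁ N₂ hk₁ hn₂ (fun P => hc₂ 2 P)
  · exact le_of_noCyc noCyc_S5 f₁ hf₁ N₁ N₂ hk₁ hn₂ (fun P => hc₂ 2 P)

/-- Homomorphisms to a symmetric group with kernel of index `n!` or `n!/2`. -/
theorem perm_cases {n : ℕ} (hn : 2 ≤ n) (F : G →* Equiv.Perm (Fin n))
    (h : F.ker.index = n.factorial ∨ 2 * F.ker.index = n.factorial) :
    Function.Surjective F ∨
      ∃ F₁ : G →* alternatingGroup (Fin n), Function.Surjective F₁ ∧ F₁.ker = F.ker := by
  rw [Subgroup.index_ker] at h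
  have hcard : Nat.card (Equiv.Perm (Fin n)) = n.factorial := by
    rw [Nat.card_perm, Nat.card_eq_fintype_card, Fintype.card_fin]
  rcases h with h | h
  · left
    have : F.range = ⊤ := Subgroup.eq_top_of_card_eq _ (by rw [h, hcard])
    exact MonoidHom.range_eq_top.mp this
  · right
    haveI : Nontrivial (Fin n) := Fin.nontrivial_iff_two_le.mpr hn
    have h1 := Subgroup.card_mul_index F.range
    rw [hcard, ← h] at h1
    have hpos : 0 < Nat.card F.range := Nat.card_pos
    have h2 : F.range.index = 2 := by nlinarith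
    have h3 : F.range = alternatingGroup (Fin n) := Equiv.Perm.eq_alternatingGroup_of_index_eq_two h2
    refine ⟨F.codRestrict (alternatingGroup (Fin n)) (fun g => by rw [← h3]; exact ⟨g, rfl⟩), ?_, ?_⟩
    · rintro ⟨y, hy⟩
      rw [← h3] at hy
      obtain ⟨g, rfl⟩ := hy
      exact ⟨g, rfl⟩
    · ext g
      simp only [MonoidHom.mem_ker]
      constructor
      · intro h
        exact congrArg Subtype.val h
      · intro h
        exact Subtype.ext h

end Cfsg.Agent.Lib.FCGood
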