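import Mathlib
import Cfsg.Agent.Lib.FCGamma
import Cfsg.Agent.Lib.FCGood

/-!
# Non-solvable groups acting fixed point freely: the normal subgroup with quotient `A₅` or `S₅`
-/

set_option autoImplicit false
set_option linter.style.haveILetI false
set_option linter.unusedSectionVars false
set_option linter.unusedSimpArgs false
set_option linter.unusedVariables false

namespace Cfsg.Agent.Lib.FCNonsolv

open Subgroup Cfsg.Agent.Lib.FpfNorm Cfsg.Agent.Lib.ZPerfD Cfsg.Agent.Lib.ZStruct
open Cfsg.Agent.Lib.FCGood Cfsg.Agent.Lib.FCGamma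
open Cfsg.Agent.S3378 (X Y Z SL5_gen SL5_card)

universe u v

/-- A group all of whose elements are `1` or `z` is cyclic. -/
theorem cyclic_of_two {H : Type*} [Group H] (z : H) (h : ∀ w : H, w = 1 ∨ w = z) : IsCyclic H := by
  refine ⟨⟨z, fun w => ?_⟩⟩
  rcases h w with rfl | rfl
  · exact (zpowers z).one_mem
  · exact mem_zpowers _

variable {G : Type u} {V : Type v} [Group G] [Finite G] [CommGroup V] [Finite V] [Nontrivial V]
  {φ : G →* MulAut V}

theorem exists_good_nonsolv (hns : ¬ Group.IsSolvable G) (hφ : IsFpf φ) : ∃ N : Subgroup G, Good N := by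
  classical
  have hS : SylHyp G := fun q _ A hA =>
    Cfsg.Agent.Lib.FrobCompl.cyclic_or_quaternion_of_fpf hA (hφ.comp A.subtype A.subtype_injective)
  obtain ⟨G₀, hG₀n, hidx, S, M, hSM, hdis, hcomm, ⟨e⟩, hMs, hMc⟩ := nonsolv_struct hns hφ
  let σ : Γ →* G := S.subtype.comp e.symm.toMonoidHom
  have hσi : Function.Injective σ := by
    intro u v h
    exact e.symm.injective (Subtype.ext h)
  have hσS : ∀ m, σ m ∈ S := fun m => (e.symm m).2
  have hSσ : ∀ s ∈ S, ∃ m, σ m = s := by
    intro s hs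
    exact ⟨e ⟨s, hs⟩, by simp [σ]⟩
  obtain ⟨hZZ, hZ1⟩ := Z_facts
  obtain ⟨⟨hX3, hX1⟩, ⟨hY5, hY1⟩, -⟩ := xy_facts
  obtain ⟨hQ1, hQ2, hQ3, hQ4, hQ5⟩ := Q_facts
  set z := σ Z with hz
  have hzz : z * z = 1 := by rw [hz, ← map_mul, hZZ, map_one]
  have hz1 : z ≠ 1 := by
    intro h
    apply hZ1
    apply hσi
    rw [map_one]
    exact h
  have huniq : ∀ g : G, g ≠ 1 → g * g = 1 → g = z := fun g hg hg2 => invol_unique hφ hg hg2 hz1 hzz
  have hzc : ∀ g : G, g * z = z * g := by
    intro g
    have h1 : g * z * g⁻¹ = z := by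
      apply huniq
      · intro h
        exact hz1 (conj_eq_one_iff.mp h)
      · calc g * z * g⁻¹ * (g * z * g⁻¹) = g * (z * z) * g⁻¹ := by group
          _ = 1 := by rw [hzz]; group
    rwa [mul_inv_eq_iff_eq_mul] at h1
  have hSG₀ : S ≤ G₀ := hSM ▸ le_sup_left
  have hMG₀ : M ≤ G₀ := hSM ▸ le_sup_right
  -- decomposition of the elements of `G₀`
  have hdec : ∀ y ∈ G₀, ∃ s ∈ S, ∃ m ∈ M, y = s * m := by
    intro y hy
    have hcomm' : ∀ (a : S) (b : M), Commute (S.subtype a) (M.subtype b) :=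
      fun a b => hcomm a a.2 b b.2
    have h1 := MonoidHom.noncommCoprod_range (f := S.subtype) (g := M.subtype) hcomm'
    rw [Subgroup.range_subtype, Subgroup.range_subtype, hSM] at h1
    rw [← h1] at hy
    obtain ⟨⟨a, b⟩, rfl⟩ := hy
    exact ⟨a, a.2, b, b.2, rfl⟩
  -- exponents
  have hcop : (Nat.card M).Coprime 120 :=
    (hMc.pow_right 3).coprime_dvd_right (by norm_num)
  have hS120 : ∀ s ∈ S, s ^ 120 = 1 := by
    intro s hs
    have hc : Nat.card S = 120 := by
      rw [Nat.card_congr e.toEquiv]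
      exact SL5_card
    have h1 := pow_card_eq_one' (x := (⟨s, hs⟩ : S))
    rw [hc] at h1
    exact congrArg Subtype.val h1
  have hM120 : ∀ m ∈ M, m ^ 120 = 1 → m = 1 := by
    intro m hm h
    have h1 : orderOf m ∣ 120 := orderOf_dvd_of_pow_eq_one h
    have h2 : orderOf m ∣ Nat.card M := Subgroup.orderOf_dvd_natCard M hm
    have h3 : orderOf m ∣ Nat.gcd (Nat.card M) 120 := Nat.dvd_gcd h2 h1
    rw [hcop.gcd_eq_one, Nat.dvd_one] at h3
    exact orderOf_eq_one_iff.mp h3
  have hM2 : ∀ m ∈ M, ∀ k : ℕ, m ^ 2 ^ k = 1 → m = 1 := by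
    intro m hm k h
    have h1 : orderOf m ∣ 2 ^ k := orderOf_dvd_of_pow_eq_one h
    have h2 : orderOf m ∣ Nat.card M := Subgroup.orderOf_dvd_natCard M hm
    have hc2 : (Nat.card M).Coprime (2 ^ k) :=
      Nat.Coprime.pow_right k (hMc.coprime_dvd_right (by norm_num))
    have h3 : orderOf m ∣ Nat.gcd (Nat.card M) (2 ^ k) := Nat.dvd_gcd h2 h1
    rw [hc2.gcd_eq_one, Nat.dvd_one] at h3
    exact orderOf_eq_one_iff.mp h3
  -- `S` is normal
  have hSn : S.Normal := by
    constructor
    intro s hs g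
    obtain ⟨s₁, hs₁, m₁, hm₁, h1⟩ := hdec _ (hG₀n.conj_mem s (hSG₀ hs) g)
    have h2 : (g * s * g⁻¹) ^ 120 = 1 := by
      rw [conj_pow, hS120 s hs, mul_one, mul_inv_cancel]
    have hcm : Commute s₁ m₁ := hcomm s₁ hs₁ m₁ hm₁
    rw [h1, hcm.mul_pow, hS120 s₁ hs₁, one_mul] at h2
    have h3 := hM120 m₁ hm₁ h2
    rw [h1, h3, mul_one]
    exact hs₁
  -- the action on the Sylow subgroups
  let c : G →* MulAut S := MulAut.conjNormal
  let c' : G →* MulAut Γ := (MulAut.congr e).toMonoidHom.comp c
  have hc' : ∀ (g : G) (m : Γ), σ (c' g m) = g * σ m * g⁻¹ := by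
    intro g m
    show ((e.symm (e (c g (e.symm m))) : S) : G) = _
    rw [e.symm_apply_apply]
    exact MulAut.conjNormal_apply g (e.symm m)
  have hc'σ : ∀ m₀ : Γ, c' (σ m₀) = MulAut.conj m₀ := by
    intro m₀
    ext1 m
    apply hσi
    rw [hc', MulAut.conj_apply, map_mul, map_mul, map_inv]
  have hc'1 : ∀ g : G, (∀ m : Γ, g * σ m = σ m * g) → c' g = 1 := by
    intro g hg
    ext1 m
    apply hσi
    rw [hc', hg m, mul_inv_cancel_right, MulAut.one_apply]
  let τ : MulAut Γ →* Equiv.Perm (Sylow 2 Γ) := MulAction.toPermHom _ _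
  let f₀ : G →* Equiv.Perm (Sylow 2 Γ) := τ.comp c'
  have hf₀ : ∀ g : G, (∀ m : Γ, g * σ m = σ m * g) → f₀ g = 1 := by
    intro g hg
    show τ (c' g) = 1
    rw [hc'1 g hg, map_one]
  have hf₀z : f₀ z = 1 := hf₀ z (fun m => (hzc _).symm)
  have hf₀M : ∀ m ∈ M, f₀ m = 1 := by
    intro m hm
    apply hf₀
    intro γ
    exact (hcomm _ (hσS γ) m hm).symm
  have hB : ∀ γ : Γ, f₀ (σ γ) = 1 → γ = 1 ∨ γ = Z := by
    intro γ h
    apply ker_sylow
    intro P
    have h1 : τ (MulAut.conj γ) = 1 := by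
      rw [← hc'σ]
      exact h
    have h2 := congrArg (fun π : Equiv.Perm (Sylow 2 Γ) => π P) h1
    exact h2
  have hB' : ∀ s ∈ S, f₀ s = 1 → s = 1 ∨ s = z := by
    intro s hs h
    obtain ⟨γ, rfl⟩ := hSσ s hs
    rcases hB γ h with rfl | rfl
    · left; rw [map_one]
    · right; rfl
  -- no element of order four centralizes `S`
  have hC4 : ∀ w : G, (∀ m : Γ, w * σ m = σ m * w) → w ^ 4 = 1 → w * w = 1 := by
    intro w hw h4
    by_contra hne
    have h1 : w * w = z := by
      apply huniq _ hne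
      calc w * w * (w * w) = w ^ 4 := by rw [show (4 : ℕ) = 2 + 2 from rfl, pow_add, pow_two]
        _ = 1 := h4
    set x := σ Qi with hx
    set j := σ Qj with hj
    have hxx : x * x = z := by rw [hx, ← map_mul, hQ1]
    have hwx : w * x = x * w := hw Qi
    have hyy : (w * x) * (w * x) = 1 := by
      calc (w * x) * (w * x) = w * (x * w) * x := by simp only [mul_assoc]
        _ = w * (w * x) * x := by rw [hwx]
        _ = (w * w) * (x * x) := by simp only [mul_assoc]
        _ = 1 := by rw [h1, hxx, hzz]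
    have hnc : x * j ≠ j * x := by
      intro h
      apply hQ5
      apply hσi
      rw [map_mul, map_mul]
      exact h
    have hwj : w * j = j * w := hw Qj
    apply hnc
    have hxinv : Commute x⁻¹ j := by
      by_cases hy1 : w * x = 1
      · have h2 : w = x⁻¹ := eq_inv_of_mul_eq_one_left hy1
        rw [h2] at hwj
        exact hwj
      · have h2 : w * x = z := huniq _ hy1 hyy
        have h3 : w = z * x⁻¹ := eq_mul_inv_of_mul_eq h2
        rw [h3] at hwj
        show x⁻¹ * j = j * x⁻¹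
        have h4 : z * (x⁻¹ * j) = z * (j * x⁻¹) := by
          rw [← mul_assoc, hwj, ← mul_assoc, hzc j, mul_assoc]
        exact mul_left_cancel h4
    exact Commute.inv_left_iff.mp hxinv
  have hC2 : ∀ (k : ℕ) (w : G), (∀ m : Γ, w * σ m = σ m * w) → w ^ 2 ^ k = 1 → w * w = 1 := by
    intro k
    induction k with
    | zero =>
      intro w _ h
      rw [pow_zero, pow_one] at h
      rw [h, mul_one]
    | succ k ih =>
      intro w hw h
      have hw2 : ∀ m : Γ, (w * w) * σ m = σ m * (w * w) := by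
        intro m
        rw [mul_assoc, hw m, ← mul_assoc, hw m, mul_assoc]
      have h1 : (w * w) ^ 2 ^ k = 1 := by
        rw [← pow_two, ← pow_mul, ← pow_succ']
        exact h
      have h2 := ih (w * w) hw2 h1
      apply hC4 w hw
      calc w ^ 4 = (w * w) * (w * w) := by rw [show (4 : ℕ) = 2 + 2 from rfl, pow_add, pow_two]
        _ = 1 := h2
  -- the kernel lies in `G₀`
  have hzS : z ∈ S := hσS Z
  have hkerG₀ : f₀.ker ≤ G₀ := by
    intro g hg
    rw [MonoidHom.mem_ker] at hg
    have h1 : ∀ m : Γ, g * σ m * g⁻¹ = σ m ∨ g * σ m * g⁻¹ = z * σ m := by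
      intro m
      have hs : g * σ m * g⁻¹ * (σ m)⁻¹ ∈ S :=
        S.mul_mem (hSn.conj_mem _ (hσS m) g) (S.inv_mem (hσS m))
      have hk : f₀ (g * σ m * g⁻¹ * (σ m)⁻¹) = 1 := by
        simp only [map_mul, map_inv, hg, one_mul, inv_one, mul_one, mul_inv_cancel]
      rcases hB' _ hs hk with h | h
      · left
        exact mul_inv_eq_one.mp h
      · right
        exact mul_inv_eq_iff_eq_mul.mp h
    have hodd : ∀ (m : Γ) (r : ℕ), m ^ r = 1 → Odd r → g * σ m = σ m * g := by
      intro m r hr hro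
      rcases h1 m with h | h
      · exact mul_inv_eq_iff_eq_mul.mp h
      · exfalso
        have h3 : (g * σ m * g⁻¹) ^ r = 1 := by
          rw [conj_pow, ← map_pow, hr, map_one, mul_one, mul_inv_cancel]
        have hcz : Commute z (σ m) := (hzc (σ m)).symm
        rw [h, hcz.mul_pow, ← map_pow σ m r, hr, map_one, mul_one] at h3
        obtain ⟨c, rfl⟩ := hro
        rw [pow_succ, pow_mul, pow_two, hzz, one_pow, one_mul] at h3
        exact hz1 h3
    have hgX := hodd X 3 hX3 (by decide)
    have hgY := hodd Y 5 hY5 (by decide)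
    have hgC : ∀ m : Γ, g * σ m = σ m * g := by
      let I : Subgroup Γ := (Subgroup.centralizer {g}).comap σ
      have hmem : ∀ m : Γ, m ∈ I ↔ g * σ m = σ m * g := by
        intro m
        show σ m ∈ Subgroup.centralizer {g} ↔ _
        rw [Subgroup.mem_centralizer_singleton_iff]
        exact ⟨fun h => h.symm, fun h => h.symm⟩
      have hI := SL5_gen I ((hmem X).mpr hgX) ((hmem Y).mpr hgY)
      intro m
      exact (hmem m).mp (by rw [hI]; trivial)
    set o := orderOf g with ho
    have ho0 : o ≠ 0 := (orderOf_pos g).ne'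
    set b := ordCompl[2] o with hb
    have hbq : ordProj[2] o * b = o := Nat.ordProj_mul_ordCompl_eq_self o 2
    have hu : (g ^ b) ^ 2 ^ (o.factorization 2) = 1 := by
      rw [← pow_mul, mul_comm, hbq, ho, pow_orderOf_eq_one]
    have hw : ∀ m : Γ, g ^ b * σ m = σ m * g ^ b := fun m => (Commute.pow_left (hgC m) b).eq
    have hu2 := hC2 _ (g ^ b) hw hu
    have huG : g ^ b ∈ G₀ := by
      by_cases h : g ^ b = 1
      · rw [h]; exact G₀.one_mem
      · rw [huniq _ h hu2]
        exact hSG₀ hzS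
    rcases hidx with h | h
    · rw [Subgroup.index_eq_one.mp h]
      trivial
    · have hsq : g * g ∈ G₀ := Subgroup.mul_self_mem_of_index_two h g
      have hbodd : ¬ 2 ∣ b := Nat.not_dvd_ordCompl Nat.prime_two ho0
      obtain ⟨c, hc⟩ : ∃ c, b = 2 * c + 1 := ⟨b / 2, by omega⟩
      rw [hc, pow_succ, pow_mul, pow_two] at huG
      exact (G₀.mul_mem_cancel_left (G₀.pow_mem hsq c)).mp huG
  -- the index of the kernel
  have hKn : f₀.ker.Normal := MonoidHom.normal_ker f₀
  set K := f₀.ker with hK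
  have hKsup : K ⊔ S = G₀ := by
    apply le_antisymm
    · exact sup_le hkerG₀ hSG₀
    · intro y hy
      obtain ⟨s, hs, m, hm, rfl⟩ := hdec y hy
      exact mul_mem ((le_sup_right : S ≤ K ⊔ S) hs) ((le_sup_left : K ≤ K ⊔ S) (hf₀M m hm))
  have hcardS : Nat.card S = 120 := by
    rw [Nat.card_congr e.toEquiv]
    exact SL5_card
  have hrel : K.relIndex S = 60 := by
    have h1 : Nat.card (K.subgroupOf S) = 2 := by
      rw [Nat.card_eq_two_iff]
      refine ⟨1, ⟨⟨z, hzS⟩, hf₀z⟩, ?_, ?_⟩
      · intro h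
        exact hz1 (congrArg (fun u : K.subgroupOf S => ((u : S) : G)) h).symm
      · ext ⟨⟨t, htS⟩, ht⟩
        simp only [Set.mem_insert_iff, Set.mem_singleton_iff, Set.mem_univ, iff_true]
        rcases hB' t htS ht with h | h
        · left
          exact Subtype.ext (Subtype.ext h)
        · right
          exact Subtype.ext (Subtype.ext h)
    have h2 := Subgroup.card_mul_index (K.subgroupOf S)
    rw [h1, hcardS] at h2
    show (K.subgroupOf S).index = 60
    omega
  have hidxK : K.index = 60 * G₀.index := by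
    rw [← Subgroup.relIndex_mul_index hkerG₀, ← hrel, ← hKsup, Subgroup.relIndex_sup_left]
  -- the homomorphism
  let E : Sylow 2 Γ ≃ Fin 5 := Finite.equivFinOfCardEq card_sylow
  let f₅ : G →* Equiv.Perm (Fin 5) := E.permCongrHom.toMonoidHom.comp f₀
  have hk5 : f₅.ker = K := by
    ext g
    rw [hK, MonoidHom.mem_ker, MonoidHom.mem_ker]
    show E.permCongrHom (f₀ g) = 1 ↔ _
    rw [map_eq_one_iff _ E.permCongrHom.injective]
  have hcases := perm_cases (n := 5) (by norm_num) f₅ (by
    rw [hk5, hidxK]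
    rcases hidx with h | h
    · right
      rw [h]
      decide
    · left
      rw [h]
      decide)
  refine ⟨K, hKn, ?_, ?_⟩
  · -- the Sylow subgroups
    apply sylow_cyclic_of hS K
    intro A hAK hA
    have helts : ∀ w ∈ A, w = 1 ∨ w = z := by
      intro w hwA
      obtain ⟨y, hy⟩ := hA ⟨w, hwA⟩
      have hy' : w ^ 2 ^ y = 1 := congrArg Subtype.val hy
      have hwK : w ∈ K := hAK hwA
      obtain ⟨s, hs, m, hm, rfl⟩ := hdec w (hkerG₀ hwK)
      have hfs : f₀ s = 1 := by
        have h1 : f₀ (s * m) = 1 := hwK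
        rwa [map_mul, hf₀M m hm, mul_one] at h1
      have hs12 := hB' s hs hfs
      have hss : s * s = 1 := by
        rcases hs12 with rfl | rfl
        · rw [mul_one]
        · exact hzz
      have hcm : Commute s m := hcomm s hs m hm
      rcases y with _ | k
      · left
        rw [pow_zero, pow_one] at hy'
        exact hy'
      · rw [hcm.mul_pow, pow_succ' 2 k, pow_mul s, pow_two s, hss, one_pow, one_mul, ← pow_succ'] at hy'
        have hm1 := hM2 m hm _ hy'
        rw [hm1, mul_one]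
        exact hs12
    by_cases hzA : z ∈ A
    · apply cyclic_of_two (⟨z, hzA⟩ : A)
      intro w
      rcases helts w w.2 with h | h
      · left; exact Subtype.ext h
      · right; exact Subtype.ext h
    · haveI : Subsingleton A := by
        constructor
        intro u v
        have hu : (u : G) = 1 := by
          rcases helts u u.2 with h | h
          · exact h
          · exact absurd (h ▸ u.2) hzA
        have hv : (v : G) = 1 := by
          rcases helts v v.2 with h | h
          · exact h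
          · exact absurd (h ▸ v.2) hzA
        exact Subtype.ext (hu.trans hv.symm)
      exact isCyclic_of_subsingleton
  · rcases hcases with h | ⟨F₁, h₁, h₂⟩
    · exact Or.inr (Or.inr (Or.inr (Or.inr (Or.inr ⟨f₅, h, hk5⟩))))
    · exact Or.inr (Or.inr (Or.inr (Or.inr (Or.inl ⟨F₁, h₁, h₂.trans hk5⟩))))

end Cfsg.Agent.Lib.FCNonsolv
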