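import Mathlib

set_option autoImplicit false

/-! The automorphism group of the quaternion group of order eight. -/

namespace Cfsg.Agent.Lib.Q8Aut

/-- The quaternion group of order eight. -/
abbrev Q8 := QuaternionGroup 2

/-- The endomorphism determined by two images. -/
def fQ (u v : Q8) : Q8 → Q8
  | .a i => u ^ i.val
  | .xa i => v * u ^ i.val

/-- The relations of the generators. -/
def CondQ (p : Q8 × Q8) : Prop :=
  p.1 ^ 4 = 1 ∧ p.1 ^ 2 ≠ 1 ∧ p.2 ^ 2 = p.1 ^ 2 ∧ p.2 * p.1 * p.2⁻¹ = p.1⁻¹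

instance : DecidablePred CondQ := fun p => by unfold CondQ; infer_instance

theorem fQ_mul : ∀ p : Q8 × Q8, CondQ p → ∀ x y, fQ p.1 p.2 (x * y) = fQ p.1 p.2 x * fQ p.1 p.2 y := by
  decide +kernel

theorem fQ_inj : ∀ p : Q8 × Q8, CondQ p → Function.Injective (fQ p.1 p.2) := by
  intro p hp
  have : ∀ p : Q8 × Q8, CondQ p → ∀ x y, fQ p.1 p.2 x = fQ p.1 p.2 y → x = y := by decide +kernel
  exact fun x y h => this p hp x y h

theorem card_cond : Fintype.card {p : Q8 × Q8 // CondQ p} = 24 := by decide +kernel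

/-- The automorphism given by a good pair. -/
noncomputable def mkAut (p : Q8 × Q8) (hp : CondQ p) : MulAut Q8 :=
  MulEquiv.ofBijective
    ({ toFun := fQ p.1 p.2, map_mul' := fQ_mul p hp } : Q8 →ₙ* Q8)
    (Finite.injective_iff_bijective.mp (fQ_inj p hp))

theorem mkAut_apply (p : Q8 × Q8) (hp : CondQ p) (x : Q8) : mkAut p hp x = fQ p.1 p.2 x := rfl

theorem fQ_one : ∀ p : Q8 × Q8, CondQ p → fQ p.1 p.2 (QuaternionGroup.a 1) = p.1 ∧
    fQ p.1 p.2 (QuaternionGroup.xa 0) = p.2 := by decide +kernel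

theorem form_eq : ∀ (x : Q8) (u v : Q8), u = QuaternionGroup.a 1 → v = QuaternionGroup.xa 0 →
    fQ u v x = x := by decide +kernel

theorem cond_base : CondQ (QuaternionGroup.a 1, QuaternionGroup.xa 0) := by decide +kernel

/-- Every automorphism is of the given form. -/
theorem aut_apply (f : MulAut Q8) (x : Q8) :
    f x = fQ (f (QuaternionGroup.a 1)) (f (QuaternionGroup.xa 0)) x := by
  have h1 := form_eq x _ _ rfl rfl
  conv_lhs => rw [← h1]
  cases x with
  | a i =>
    show f ((QuaternionGroup.a 1 : Q8) ^ i.val) = _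
    rw [map_pow]
    rfl
  | xa i =>
    show f ((QuaternionGroup.xa 0 : Q8) * (QuaternionGroup.a 1 : Q8) ^ i.val) = _
    rw [map_mul, map_pow]
    rfl

theorem aut_cond (f : MulAut Q8) : CondQ (f (QuaternionGroup.a 1), f (QuaternionGroup.xa 0)) := by
  have h := cond_base
  obtain ⟨h1, h2, h3, h4⟩ := h
  refine ⟨?_, ?_, ?_, ?_⟩
  · show f _ ^ 4 = 1
    rw [← map_pow]
    have : (QuaternionGroup.a 1 : Q8) ^ 4 = 1 := h1
    rw [this, map_one]
  · show f _ ^ 2 ≠ 1
    rw [← map_pow]
    intro h5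
    apply h2
    exact f.injective (by rw [h5, map_one])
  · show f _ ^ 2 = f _ ^ 2
    rw [← map_pow, ← map_pow]
    exact congrArg f h3
  · show f _ * f _ * (f _)⁻¹ = (f _)⁻¹
    rw [← map_inv, ← map_mul, ← map_mul, ← map_inv]
    exact congrArg f h4

/-- Automorphisms of `Q8` are the good pairs. -/
noncomputable def autEquiv : MulAut Q8 ≃ {p : Q8 × Q8 // CondQ p} where
  toFun f := ⟨(f (QuaternionGroup.a 1), f (QuaternionGroup.xa 0)), aut_cond f⟩
  invFun p := mkAut p.1 p.2
  left_inv f := by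
    ext x
    rw [mkAut_apply]
    exact (aut_apply f x).symm
  right_inv p := by
    apply Subtype.ext
    have h1 := fQ_one p.1 p.2
    apply Prod.ext
    · exact h1.1
    · exact h1.2

theorem card_aut : Nat.card (MulAut Q8) = 24 := by
  rw [Nat.card_congr autEquiv, Nat.card_eq_fintype_card, card_cond]

theorem sq_eq_one : ∀ x : Q8, x ^ 2 = 1 ↔ x = 1 ∨ x = QuaternionGroup.a 2 := by decide +kernel

theorem center_eq : ∀ x : Q8, (∀ y : Q8, x * y = y * x) ↔ x = 1 ∨ x = QuaternionGroup.a 2 := by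
  decide +kernel

theorem orderOf_a2 : orderOf (QuaternionGroup.a 2 : Q8) = 2 := by
  apply orderOf_eq_prime
  · decide +kernel
  · decide +kernel

end Cfsg.Agent.Lib.Q8Aut
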