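import Mathlib
import Cfsg.Agent.Lib.FCGood
import Cfsg.Agent.Lib.PCore
import Cfsg.Agent.Lib.Q8Aut
import Cfsg.Agent.Lib.ExtraThreeAct

/-!
# Solvable groups with `O_{2'} = 1` and quaternion Sylow `2`-subgroups
-/

set_option autoImplicit false
set_option linter.style.haveILetI false
set_option linter.unusedSectionVars false
set_option linter.unusedSimpArgs false
set_option linter.unusedVariables false

namespace Cfsg.Agent.Lib.FCSolv

open Subgroup Cfsg Cfsg.Agent.Lib.PCore Cfsg.Agent.Lib.FCGood Cfsg.Agent.Lib.Q8Aut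
open QuaternionGroup

set_option synthInstance.maxHeartbeats 0 in
set_option synthInstance.maxSize 2048 in
theorem fix3_aux : ∀ p : Q8 × Q8, CondQ p → (∀ x, fQ p.1 p.2 (fQ p.1 p.2 (fQ p.1 p.2 x)) = x) →
    (∃ x, fQ p.1 p.2 x ≠ x) → ∀ x, fQ p.1 p.2 x = x → x = 1 ∨ x = a 2 := by
  decide +kernel

/-- An automorphism of order three of `Q₈` fixes only the centre. -/
theorem fix3 (f : MulAut Q8) (h3 : ∀ x, f (f (f x)) = x) (h1 : ∃ x, f x ≠ x) (x : Q8) (hx : f x = x) :
    x = 1 ∨ x = a 2 := by
  have hf : ∀ x, fQ (f (a 1)) (f (xa 0)) x = f x := fun x => (aut_apply f x).symm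
  apply fix3_aux (f (a 1), f (xa 0)) (aut_cond f)
  · intro y
    show fQ _ _ (fQ _ _ (fQ _ _ y)) = y
    rw [hf, hf, hf, h3]
  · obtain ⟨y, hy⟩ := h1
    refine ⟨y, ?_⟩
    show fQ _ _ y ≠ y
    rwa [hf]
  · show fQ _ _ x = x
    rw [hf, hx]

section Q8Case

variable {X : Type*} [Group X] [Finite X]

theorem q8_case (Q : Subgroup X) [hQn : Q.Normal]
    (hQ2 : IsPGroup 2 Q) (hle : ∀ N : Subgroup X, N.Normal → IsPGroup 2 N → N ≤ Q)
    (hC : centralizer (Q : Set X) ≤ Q) (e : Q ≃* QuaternionGroup 2)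
    (hu : ∀ x y : X, orderOf x = 2 → orderOf y = 2 → x = y)
    {t : X} {r : ℕ} (ht : orderOf t = r) (hr : r.Prime) (hr2 : r ≠ 2) :
    ∃ K : Subgroup X, K.Normal ∧ IsCyclic K ∧ IsPGroup 2 K ∧
      ((∃ f : X →* alternatingGroup (Fin 4), Function.Surjective f ∧ f.ker = K) ∨
       (∃ f : X →* Equiv.Perm (Fin 4), Function.Surjective f ∧ f.ker = K)) := by
  classical
  let θ : X →* MulAut Q := MulAut.conjNormal
  have hθ : ∀ (g : X) (q : Q), ((θ g q : Q) : X) = g * q * g⁻¹ := fun g q => MulAut.conjNormal_apply g q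
  set C := centralizer (Q : Set X) with hCdef
  have hθ1 : ∀ g, θ g = 1 ↔ g ∈ C := by
    intro g
    rw [hCdef, Subgroup.mem_centralizer_iff]
    constructor
    · intro h l hl
      have h1 := hθ g ⟨l, hl⟩
      rw [h, MulAut.one_apply] at h1
      have h2 : l = g * l * g⁻¹ := h1
      rw [eq_mul_inv_iff_mul_eq] at h2
      exact h2
    · intro h
      ext l
      rw [hθ, MulAut.one_apply, ← h l l.2]
      group
  -- the centre of `Q`
  set z' : Q := e.symm (a 2) with hz'
  set z : X := z'.1 with hz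
  have hz'o : orderOf z' = 2 := by
    rw [hz', MulEquiv.orderOf_eq, orderOf_a2]
  have hzo : orderOf z = 2 := by
    rw [hz, Subgroup.orderOf_coe, hz'o]
  have hz1 : z ≠ 1 := by
    intro h
    rw [h, orderOf_one] at hzo
    omega
  have hzcen : ∀ g : X, g * z = z * g := by
    intro g
    have h1 : orderOf (g * z * g⁻¹) = 2 := by
      rw [← hzo]
      have h0 := MulEquiv.orderOf_eq (MulAut.conj g) z
      rwa [MulAut.conj_apply] at h0
    have h2 := hu _ _ h1 hzo
    rwa [mul_inv_eq_iff_eq_mul] at h2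
  have hzC : z ∈ C := by
    rw [hCdef, Subgroup.mem_centralizer_iff]
    intro l _
    exact hzcen l
  have hCel : ∀ x ∈ C, x = 1 ∨ x = z := by
    intro x hx
    have hxQ := hC hx
    have h1 : ∀ y : Q8, e ⟨x, hxQ⟩ * y = y * e ⟨x, hxQ⟩ := by
      intro y
      have h2 := (Subgroup.mem_centralizer_iff.mp hx) ((e.symm y : Q) : X) (e.symm y).2
      have h3 : (⟨x, hxQ⟩ : Q) * e.symm y = e.symm y * ⟨x, hxQ⟩ := Subtype.ext h2.symm
      have h4 := congrArg e h3
      rwa [map_mul, map_mul, e.apply_symm_apply] at h4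
    rcases (center_eq _).mp h1 with h | h
    · left
      have h2 : (⟨x, hxQ⟩ : Q) = 1 := by
        apply e.injective
        rw [h, map_one]
      exact congrArg Subtype.val h2
    · right
      have h2 : (⟨x, hxQ⟩ : Q) = z' := by
        apply e.injective
        rw [h, hz', e.apply_symm_apply]
      exact congrArg Subtype.val h2
  have hCc : Nat.card C = 2 := by
    rw [Nat.card_eq_two_iff]
    refine ⟨1, ⟨z, hzC⟩, ?_, ?_⟩
    · intro h
      exact hz1 (congrArg Subtype.val h).symm
    · ext ⟨w, hw⟩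
      simp only [Set.mem_insert_iff, Set.mem_singleton_iff, Set.mem_univ, iff_true]
      rcases hCel w hw with h | h
      · left
        exact Subtype.ext h
      · right
        exact Subtype.ext h
  -- the order of `X`
  have hcardQ : Nat.card Q = 8 := by
    rw [Nat.card_congr e.toEquiv, Nat.card_eq_fintype_card, QuaternionGroup.card]
  have hAut : Nat.card (MulAut Q) = 24 := by
    rw [Nat.card_congr (MulAut.congr e).toEquiv]
    exact card_aut
  have hθk : θ.ker = C := by
    ext g
    rw [MonoidHom.mem_ker, hθ1]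
  have hXeq : Nat.card X = 2 * Nat.card θ.range := by
    have h1 := Subgroup.card_mul_index θ.ker
    rw [hθk, hCc, ← hθk, Subgroup.index_ker] at h1
    exact h1.symm
  have hX48 : Nat.card X ∣ 48 := by
    have h1 : Nat.card θ.range ∣ 24 := by
      rw [← hAut]
      exact Subgroup.card_subgroup_dvd_card _
    rw [hXeq]
    exact Nat.mul_dvd_mul_left 2 h1
  have h8 : 8 ∣ Nat.card X := by
    rw [← hcardQ]
    exact Subgroup.card_subgroup_dvd_card Q
  have hr3 : r = 3 := by
    have h1 : r ∣ 48 := (ht ▸ orderOf_dvd_natCard t).trans hX48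
    have h2 : r ∣ 2 ^ 4 * 3 := by simpa using h1
    rcases (Nat.Prime.dvd_mul hr).mp h2 with h | h
    · exact absurd ((Nat.prime_dvd_prime_iff_eq hr Nat.prime_two).mp (hr.dvd_of_dvd_pow h)) hr2
    · exact (Nat.prime_dvd_prime_iff_eq hr Nat.prime_three).mp h
  subst hr3
  haveI : Fact (Nat.Prime 3) := ⟨Nat.prime_three⟩
  have h3 : 3 ∣ Nat.card X := ht ▸ orderOf_dvd_natCard t
  have hXc : Nat.card X = 24 ∨ Nat.card X = 48 := by
    have h24 : 24 ∣ Nat.card X :=
      Nat.Coprime.mul_dvd_of_dvd_of_dvd (by norm_num : Nat.Coprime 8 3) h8 h3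
    obtain ⟨c, hc⟩ := h24
    obtain ⟨d, hd⟩ := hX48
    rw [hc] at hd ⊢
    have h1 : c * d = 2 := by nlinarith
    have h2 : c ∣ 2 := ⟨d, h1.symm⟩
    rcases (Nat.dvd_prime Nat.prime_two).mp h2 with rfl | rfl <;> omega
  -- the elements of `Q` of order dividing three
  have hQ3 : ∀ c ∈ Q, c ^ 3 = 1 → c = 1 := by
    intro c hc h
    obtain ⟨k, hk⟩ := hQ2 ⟨c, hc⟩
    have h1 : c ^ 2 ^ k = 1 := congrArg Subtype.val hk
    have h2 : orderOf c ∣ Nat.gcd (2 ^ k) 3 :=
      Nat.dvd_gcd (orderOf_dvd_of_pow_eq_one h1) (orderOf_dvd_of_pow_eq_one h)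
    have h3 : Nat.gcd (2 ^ k) 3 = 1 := Nat.Coprime.pow_left k (by norm_num)
    rw [h3, Nat.dvd_one] at h2
    exact orderOf_eq_one_iff.mp h2
  have hzt3 : ∀ x ∈ zpowers t, x ^ 3 = 1 := by
    rintro _ ⟨k, rfl⟩
    show (t ^ k) ^ 3 = 1
    rw [← zpow_natCast, ← zpow_mul, mul_comm, zpow_mul, zpow_natCast, ← ht, pow_orderOf_eq_one, one_zpow]
  have ht1 : t ≠ 1 := by
    intro h
    rw [h, orderOf_one] at ht
    omega
  have htQ : t ∉ Q := fun h => ht1 (hQ3 t h (by rw [← ht]; exact pow_orderOf_eq_one t))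
  -- a `2`-element normalizing `⟨t⟩` centralizes `t`
  have hcomm : ∀ k ∈ Q, k ∈ normalizer (zpowers t : Set X) → k * t = t * k := by
    intro k hk hkn
    have h1 : k * t * k⁻¹ ∈ zpowers t := (Subgroup.mem_normalizer_iff.mp hkn t).mp (mem_zpowers t)
    have h2 : k * t * k⁻¹ * t⁻¹ ∈ zpowers t := mul_mem h1 (inv_mem (mem_zpowers t))
    have h3 : k * t * k⁻¹ * t⁻¹ ∈ Q := by
      have h4 : k * t * k⁻¹ * t⁻¹ = k * (t * k⁻¹ * t⁻¹) := by group
      rw [h4]
      exact mul_mem hk (hQn.conj_mem _ (inv_mem hk) t)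
    have h5 := hQ3 _ h3 (hzt3 _ h2)
    have h6 : k * t * k⁻¹ = t := mul_inv_eq_one.mp h5
    rwa [mul_inv_eq_iff_eq_mul] at h6
  -- Sylow subgroups
  have hT : IsPGroup 3 (zpowers t) := by
    apply IsPGroup.of_card (n := 1)
    rw [Nat.card_zpowers, ht, pow_one]
  have hTidx : ¬ 3 ∣ (zpowers t).index := by
    have h1 := Subgroup.card_mul_index (zpowers t)
    rw [Nat.card_zpowers, ht] at h1
    rcases hXc with h | h <;> rw [h] at h1
    · have : (zpowers t).index = 8 := by omega
      rw [this]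
      norm_num
    · have : (zpowers t).index = 16 := by omega
      rw [this]
      norm_num
  let T₀ : Sylow 3 X := hT.toSylow hTidx
  have hT₀ : (T₀ : Subgroup X) = zpowers t := rfl
  have hcardS : ∀ P : Sylow 3 X, Nat.card P = 3 := by
    intro P
    rw [Sylow.card_eq_multiplicity, ← Sylow.card_eq_multiplicity T₀, hT₀, Nat.card_zpowers, ht]
  -- there is more than one Sylow subgroup
  have hn1 : ¬ ∀ P P' : Sylow 3 X, P = P' := by
    intro h
    apply htQ
    apply hC
    rw [hCdef, Subgroup.mem_centralizer_iff]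
    intro q hq
    apply hcomm q hq
    have := Sylow.smul_eq_iff_mem_normalizer.mp (h (q • T₀) T₀)
    exact this
  have hn4 : Nat.card (Sylow 3 X) = 4 := by
    have h1 : Nat.card (Sylow 3 X) = (normalizer (zpowers t : Set X)).index :=
      Sylow.card_eq_index_normalizer T₀
    set N := normalizer (zpowers t : Set X) with hN
    have hzN : z ∈ N := by
      rw [hN, Subgroup.mem_normalizer_iff]
      intro h
      have : z * h * z⁻¹ = h := by
        rw [← hzcen h, mul_inv_cancel_right]
      rw [this]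
    have htN : t ∈ N := Subgroup.le_normalizer (mem_zpowers t)
    have h2 : 2 ∣ Nat.card N := hzo ▸ Subgroup.orderOf_dvd_natCard N hzN
    have h3' : 3 ∣ Nat.card N := ht ▸ Subgroup.orderOf_dvd_natCard N htN
    have h6 : 6 ∣ Nat.card N :=
      Nat.Coprime.mul_dvd_of_dvd_of_dvd (by norm_num : Nat.Coprime 2 3) h2 h3'
    obtain ⟨c, hc⟩ := h6
    have h4 := Subgroup.card_mul_index N
    rw [hc, ← h1] at h4
    have hmod := card_sylow_modEq_one 3 X
    have h5 : Nat.card (Sylow 3 X) ∣ 8 := by
      rcases hXc with h | h <;> rw [h] at h4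
      · have : c * Nat.card (Sylow 3 X) = 4 := by nlinarith
        exact (Dvd.intro_left c this).trans (by norm_num)
      · have : c * Nat.card (Sylow 3 X) = 8 := by nlinarith
        exact Dvd.intro_left c this
    have hne1 : Nat.card (Sylow 3 X) ≠ 1 := by
      intro h
      apply hn1
      intro P P'
      exact (Nat.card_eq_one_iff_unique.mp h).1.elim P P'
    have hle8 := Nat.le_of_dvd (by norm_num) h5
    have hmod' : Nat.card (Sylow 3 X) % 3 = 1 := hmod
    interval_cases hn : Nat.card (Sylow 3 X) <;> omega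
  -- the action on the Sylow subgroups
  let F : X →* Equiv.Perm (Sylow 3 X) := MulAction.toPermHom X (Sylow 3 X)
  have hF : ∀ g, g ∈ F.ker ↔ ∀ P : Sylow 3 X, g • P = P := by
    intro g
    rw [MonoidHom.mem_ker]
    constructor
    · intro h P
      exact congrArg (fun π : Equiv.Perm (Sylow 3 X) => π P) h
    · intro h
      ext P : 1
      exact h P
  have hno3 : ∀ y ∈ F.ker, y ^ 3 = 1 → y = 1 := by
    intro y hy hy3
    by_contra hy1
    have hyo : orderOf y = 3 := orderOf_eq_prime hy3 hy1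
    have hyP : ∀ P : Sylow 3 X, (P : Subgroup X) = zpowers y := by
      intro P
      have hnorm : y ∈ normalizer (P : Set X) := Sylow.smul_eq_iff_mem_normalizer.mp ((hF y).mp hy P)
      have hpy : IsPGroup 3 (zpowers y) := by
        apply IsPGroup.of_card (n := 1)
        rw [Nat.card_zpowers, hyo, pow_one]
      have h1 := IsPGroup.to_sup_of_normal_right' hpy P.2 (by rwa [zpowers_le])
      have h2 := P.is_maximal' h1 le_sup_right
      have h3' : y ∈ (P : Subgroup X) := by
        rw [← h2]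
        exact (le_sup_left : zpowers y ≤ _) (mem_zpowers y)
      symm
      apply Subgroup.eq_of_le_of_card_ge
      · rwa [zpowers_le]
      · rw [hcardS, Nat.card_zpowers, hyo]
    apply hn1
    intro P P'
    apply Sylow.ext
    rw [hyP, hyP]
  have hkerQ : F.ker ≤ Q := by
    apply hle _ (MonoidHom.normal_ker F)
    have h1 : ¬ 3 ∣ Nat.card F.ker := by
      intro h
      obtain ⟨y, hy⟩ := exists_prime_orderOf_dvd_card' (G := F.ker) 3 h
      have h2 := hno3 y y.2 (by
        have h3' := pow_orderOf_eq_one y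
        rw [hy] at h3'
        exact congrArg Subtype.val h3')
      have h3' : y = 1 := Subtype.ext h2
      rw [h3', orderOf_one] at hy
      omega
    have h2 : Nat.card F.ker ∣ 48 := (Subgroup.card_subgroup_dvd_card _).trans hX48
    have h4 : Nat.card F.ker ∣ 2 ^ 4 := by
      have h5 : Nat.Coprime (Nat.card F.ker) 3 := (Nat.Prime.coprime_iff_not_dvd Nat.prime_three).mpr h1 |>.symm
      exact h5.dvd_of_dvd_mul_right (by simpa using h2)
    obtain ⟨j, -, hj⟩ := (Nat.dvd_prime_pow Nat.prime_two).mp h4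
    exact IsPGroup.of_card hj
  have hker : F.ker = C := by
    apply le_antisymm
    · intro k hk
      have hkQ := hkerQ hk
      have hkt : k * t = t * k := by
        apply hcomm k hkQ
        exact Sylow.smul_eq_iff_mem_normalizer.mp ((hF k).mp hk T₀)
      -- transport to `Q₈`
      let β : MulAut Q8 := MulAut.congr e (θ t)
      have hβ : ∀ x : Q8, β x = e (θ t (e.symm x)) := fun x => rfl
      have hβ3 : ∀ x, β (β (β x)) = x := by
        intro x
        apply e.symm.injective
        apply Subtype.ext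
        simp only [hβ, e.symm_apply_apply, hθ]
        have : t * (t * (t * ((e.symm x : Q) : X) * t⁻¹) * t⁻¹) * t⁻¹ =
            t ^ 3 * ((e.symm x : Q) : X) * (t ^ 3)⁻¹ := by
          simp only [pow_succ, pow_zero, one_mul, mul_inv_rev, mul_assoc]
        rw [this, show t ^ 3 = 1 from by rw [← ht]; exact pow_orderOf_eq_one t]
        simp
      have hβne : ∃ x, β x ≠ x := by
        by_contra hcon
        push Not at hcon
        apply htQ
        apply hC
        rw [← hθ1]
        ext q
        have h1 := hcon (e q)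
        rw [hβ, e.symm_apply_apply] at h1
        rw [MulAut.one_apply, e.injective h1]
      have hfix : β (e ⟨k, hkQ⟩) = e ⟨k, hkQ⟩ := by
        rw [hβ, e.symm_apply_apply]
        congr 1
        apply Subtype.ext
        rw [hθ]
        show t * k * t⁻¹ = k
        rw [← hkt, mul_inv_cancel_right]
      rcases fix3 β hβ3 hβne _ hfix with h | h
      · have h2 : (⟨k, hkQ⟩ : Q) = 1 := by
          apply e.injective
          rw [h, map_one]
        rw [show k = 1 from congrArg Subtype.val h2]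
        exact C.one_mem
      · have h2 : (⟨k, hkQ⟩ : Q) = z' := by
          apply e.injective
          rw [h, hz', e.apply_symm_apply]
        rw [show k = z from congrArg Subtype.val h2]
        exact hzC
    · intro g hg
      rw [hF]
      intro P
      apply Sylow.smul_eq_iff_mem_normalizer.mpr
      show g ∈ normalizer ((P : Subgroup X) : Set X)
      rw [Subgroup.mem_normalizer_iff]
      intro h
      have hgc : g * h * g⁻¹ = h := by
        rcases hCel g hg with rfl | rfl
        · simp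
        · rw [← hzcen h, mul_inv_cancel_right]
      rw [hgc]
  -- the homomorphism
  let E : Sylow 3 X ≃ Fin 4 := Finite.equivFinOfCardEq hn4
  let F₄ : X →* Equiv.Perm (Fin 4) := E.permCongrHom.toMonoidHom.comp F
  have hk4 : F₄.ker = C := by
    rw [← hker]
    ext g
    rw [MonoidHom.mem_ker, MonoidHom.mem_ker]
    show E.permCongrHom (F g) = 1 ↔ _
    rw [map_eq_one_iff _ E.permCongrHom.injective]
  have hidx : Nat.card C * C.index = Nat.card X := Subgroup.card_mul_index C
  rw [hCc] at hidx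
  have hcases := perm_cases (n := 4) (by norm_num) F₄ (by
    rw [hk4]
    rcases hXc with h | h <;> rw [h] at hidx
    · right
      rw [hidx]
      decide
    · left
      have : C.index = 24 := by omega
      rw [this]
      decide)
  have hCn : C.Normal := inferInstance
  refine ⟨C, hCn, isCyclic_of_prime_card hCc, IsPGroup.of_card (n := 1) (by rw [hCc, pow_one]), ?_⟩
  rcases hcases with h | ⟨F₁, h₁, h₂⟩
  · exact Or.inr ⟨F₄, h, hk4⟩
  · exact Or.inl ⟨F₁, h₁, h₂.trans hk4⟩

end Q8Case

section TwoGroup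

/-- The map from a generalized quaternion group to the Klein four-group. -/
def qvFun (m : ℕ) : QuaternionGroup m → DihedralGroup 2
  | .a i => .r (ZMod.castHom (dvd_mul_right 2 m) (ZMod 2) i)
  | .xa i => .sr (ZMod.castHom (dvd_mul_right 2 m) (ZMod 2) i)

/-- The homomorphism from a generalized quaternion group to the Klein four-group. -/
def qv (m : ℕ) (hm : Even m) : QuaternionGroup m →* DihedralGroup 2 :=
  MonoidHom.mk' (qvFun m) (by
    have hcm : ZMod.castHom (dvd_mul_right 2 m) (ZMod 2) (m : ZMod (2 * m)) = 0 := by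
      rw [map_natCast]
      exact (ZMod.natCast_eq_zero_iff _ _).mpr hm.two_dvd
    rintro (i | i) (j | j)
    · simp [qvFun, map_add]
    · simp [qvFun, map_sub]
    · simp [qvFun, map_add]
    · simp [qvFun, map_add, map_sub, hcm])

theorem qv_surj (m : ℕ) [NeZero m] (hm : Even m) : Function.Surjective (qv m hm) := by
  have hs := ZMod.castHom_surjective (dvd_mul_right 2 m)
  rintro (t | t)
  · obtain ⟨i, rfl⟩ := hs t
    exact ⟨a i, rfl⟩
  · obtain ⟨i, rfl⟩ := hs t
    exact ⟨xa i, rfl⟩

/-- A generalized quaternion group has a cyclic normal subgroup with quotient the four-group. -/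
theorem quat_case {X : Type*} [Group X] [Finite X] {m : ℕ} [NeZero m] (hm : Even m)
    (e : X ≃* QuaternionGroup m) :
    ∃ f : X →* DihedralGroup 2, Function.Surjective f ∧ IsCyclic f.ker := by
  let f : X →* DihedralGroup 2 := (qv m hm).comp e.toMonoidHom
  have hf : Function.Surjective f := (qv_surj m hm).comp e.surjective
  refine ⟨f, hf, ?_⟩
  have h1 : f.ker.map e.toMonoidHom = (qv m hm).ker := by
    ext x
    constructor
    · rintro ⟨y, hy, rfl⟩
      exact hy
    · intro hx
      refine ⟨e.symm x, ?_, by simp⟩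
      show qv m hm (e (e.symm x)) = 1
      rw [e.apply_symm_apply]
      exact hx
  have h2 := quat_ker (qv m hm) (qv_surj m hm)
  have h3 : IsCyclic (qv m hm).ker := by
    rw [h2]
    infer_instance
  rw [← h1] at h3
  let e' : f.ker ≃* f.ker.map e.toMonoidHom := f.ker.equivMapOfInjective _ e.injective
  exact isCyclic_of_surjective e'.symm.toMonoidHom e'.symm.surjective

end TwoGroup

section Core

variable {X : Type*} [Group X] [Finite X]

/-- The structure of a solvable group with `O_{2'} = 1` whose `2`-subgroups are cyclic or quaternion. -/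
theorem solv_core [Group.IsSolvable X] (hO : pPrimeCore 2 X = ⊥)
    (hS : ∀ A : Subgroup X, IsPGroup 2 A →
      IsCyclic A ∨ ∃ n : ℕ, Nonempty (A ≃* QuaternionGroup (2 ^ n)))
    (hu : ∀ x y : X, orderOf x = 2 → orderOf y = 2 → x = y)
    (hnc : ¬ ∀ P : Sylow 2 X, IsCyclic P) :
    ∃ K : Subgroup X, K.Normal ∧ IsCyclic K ∧ IsPGroup 2 K ∧
      ((∃ f : X →* DihedralGroup 2, Function.Surjective f ∧ f.ker = K) ∨
       (∃ f : X →* alternatingGroup (Fin 4), Function.Surjective f ∧ f.ker = K) ∨
       (∃ f : X →* Equiv.Perm (Fin 4), Function.Surjective f ∧ f.ker = K)) := by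
  classical
  by_cases h2 : IsPGroup 2 X
  · -- a `2`-group
    have htop : IsPGroup 2 (⊤ : Subgroup X) := h2.to_subgroup ⊤
    rcases hS ⊤ htop with hc | ⟨n, ⟨e₀⟩⟩
    · exfalso
      apply hnc
      intro P
      have hsub : Function.Injective (Subgroup.inclusion (le_top : (P : Subgroup X) ≤ ⊤)) :=
        Subgroup.inclusion_injective _
      exact isCyclic_of_injective _ hsub
    · let e : X ≃* QuaternionGroup (2 ^ n) := Subgroup.topEquiv.symm.trans e₀
      rcases n with _ | n
      · exfalso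
        apply hnc
        intro P
        haveI : IsCyclic (QuaternionGroup 1) := QuaternionGroup.quaternionGroup_one_isCyclic
        have e1 : X ≃* QuaternionGroup 1 := e
        have hcX : IsCyclic X := isCyclic_of_surjective e1.symm.toMonoidHom e1.symm.surjective
        exact inferInstance
      · haveI : NeZero (2 ^ (n + 1)) := ⟨by positivity⟩
        obtain ⟨f, hf, hc⟩ := quat_case (m := 2 ^ (n + 1)) ⟨2 ^ n, by rw [pow_succ]; ring⟩ e
        exact ⟨f.ker, MonoidHom.normal_ker f, hc, h2.to_subgroup _, Or.inl ⟨f, hf, rfl⟩⟩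
  · -- an odd prime divides the order
    obtain ⟨r, hr, hr2, hrX⟩ : ∃ r : ℕ, r.Prime ∧ r ≠ 2 ∧ r ∣ Nat.card X := by
      by_contra hcon
      push Not at hcon
      apply h2
      have h3 := Nat.eq_prime_pow_of_unique_prime_dvd (p := 2) (n := Nat.card X) Nat.card_pos.ne'
        (fun {d} hd hdX => by
          by_contra hd2
          exact hcon d hd hd2 hdX)
      exact IsPGroup.of_card h3
    haveI : Fact r.Prime := ⟨hr⟩
    obtain ⟨t, ht⟩ := exists_prime_orderOf_dvd_card' (G := X) r hrX
    set Q := pCore 2 X with hQ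
    have hQ2 : IsPGroup 2 Q := isPGroup_pCore 2
    have hC : centralizer (Q : Set X) ≤ Q := centralizer_pCore_le 2 hO
    let θ : X →* MulAut Q := MulAut.conjNormal
    have hθ : ∀ (g : X) (q : Q), ((θ g q : Q) : X) = g * q * g⁻¹ := fun g q => MulAut.conjNormal_apply g q
    have hne : θ t ≠ 1 := by
      intro h
      have h1 : t ∈ centralizer (Q : Set X) := by
        rw [Subgroup.mem_centralizer_iff]
        intro l hl
        have h3 := hθ t ⟨l, hl⟩
        rw [h, MulAut.one_apply] at h3
        have h4 : l = t * l * t⁻¹ := h3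
        rw [eq_mul_inv_iff_mul_eq] at h4
        exact h4
      obtain ⟨k, hk⟩ := hQ2 ⟨t, hC h1⟩
      have h5 : t ^ 2 ^ k = 1 := congrArg Subtype.val hk
      have h6 : r ∣ 2 ^ k := ht ▸ orderOf_dvd_of_pow_eq_one h5
      exact hr2 ((Nat.prime_dvd_prime_iff_eq hr Nat.prime_two).mp (hr.dvd_of_dvd_pow h6))
    have hpow : θ t ^ r ^ 1 = 1 := by
      rw [pow_one, ← map_pow, ← ht, pow_orderOf_eq_one, map_one]
    have huQ : ∀ x y : Q, orderOf x = 2 → orderOf y = 2 → x = y := by
      intro x y hx hy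
      apply Subtype.ext
      apply hu
      · rwa [Subgroup.orderOf_coe]
      · rwa [Subgroup.orderOf_coe]
    obtain ⟨e⟩ := Cfsg.Agent.Lib.ExtraThreeAct.quat_of_aut hQ2 huQ (θ t) hr2 hpow hne
    obtain ⟨K, h1, h2', h3, h4⟩ := q8_case Q hQ2 (fun N hN hp => le_pCore hN hp) hC e hu ht hr hr2
    exact ⟨K, h1, h2', h3, Or.inr h4⟩

end Core

section Lift

universe u v

variable {G : Type u} {V : Type v} [Group G] [Finite G] [CommGroup V] [Finite V] [Nontrivial V]
  {φ : G →* MulAut V}

open Cfsg.Agent.Lib.FpfNorm Cfsg.Agent.Lib.ZPerfD Cfsg.Agent.Lib.ZStruct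

/-- Lifting `2`-subgroups through a surjection with kernel of odd order. -/
theorem lift_two {X : Type*} [Group X] [Finite X] (π : G →* X) (hπ : Function.Surjective π)
    (hk : (Nat.card π.ker).Coprime 2) (A : Subgroup X) (hA : IsPGroup 2 A) :
    ∃ B : Subgroup G, IsPGroup 2 B ∧ ∃ e : B ≃* A, ∀ b : B, ((e b : A) : X) = π b := by
  obtain ⟨S, hS⟩ := hA.exists_le_sylow
  obtain ⟨P, rfl⟩ := Sylow.mapSurjective_surjective hπ 2 S
  have hS' : A ≤ (P : Subgroup G).map π := hS
  let B : Subgroup G := A.comap π ⊓ (P : Subgroup G)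
  have hB : IsPGroup 2 B := P.2.to_le inf_le_right
  have hinj : ∀ b ∈ (P : Subgroup G), π b = 1 → b = 1 := by
    intro b hb h1
    obtain ⟨k, hk'⟩ := P.2 ⟨b, hb⟩
    have h2 : b ^ 2 ^ k = 1 := congrArg Subtype.val hk'
    have h3 : orderOf b ∣ Nat.card π.ker := Subgroup.orderOf_dvd_natCard π.ker h1
    have h4 : orderOf b ∣ Nat.gcd (Nat.card π.ker) (2 ^ k) :=
      Nat.dvd_gcd h3 (orderOf_dvd_of_pow_eq_one h2)
    rw [(Nat.Coprime.pow_right k hk).gcd_eq_one, Nat.dvd_one] at h4
    exact orderOf_eq_one_iff.mp h4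
  let ρ : B →* A := (π.comp B.subtype).codRestrict A (fun b => b.2.1)
  have hρ : Function.Bijective ρ := by
    constructor
    · rw [injective_iff_map_eq_one]
      intro b hb
      exact Subtype.ext (hinj b b.2.2 (congrArg Subtype.val hb))
    · rintro ⟨x, hx⟩
      obtain ⟨p, hp, rfl⟩ := hS' hx
      exact ⟨⟨p, hx, hp⟩, rfl⟩
  exact ⟨B, hB, MulEquiv.ofBijective ρ hρ, fun b => rfl⟩

/-- Injectivity on `2`-subgroups of a surjection with kernel of odd order. -/
theorem inj_two (π : G →* G ⧸ pPrimeCore 2 G) (hπ : π = QuotientGroup.mk' _) (A : Subgroup G) (hA : IsPGroup 2 A) :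
    Function.Injective (π.comp A.subtype) := by
  rw [injective_iff_map_eq_one]
  intro b hb
  have h1 : (b : G) ∈ pPrimeCore 2 G := by
    rw [hπ] at hb
    exact (QuotientGroup.eq_one_iff _).mp hb
  obtain ⟨k, hk'⟩ := hA b
  have h2 : (b : G) ^ 2 ^ k = 1 := congrArg Subtype.val hk'
  have h3 : orderOf (b : G) ∣ Nat.card (pPrimeCore 2 G) := Subgroup.orderOf_dvd_natCard _ h1
  have h4 : orderOf (b : G) ∣ Nat.gcd (Nat.card (pPrimeCore 2 G)) (2 ^ k) :=
    Nat.dvd_gcd h3 (orderOf_dvd_of_pow_eq_one h2)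
  rw [(Nat.Coprime.pow_right k (card_pPrimeCore_coprime 2)).gcd_eq_one, Nat.dvd_one] at h4
  exact Subtype.ext (orderOf_eq_one_iff.mp h4)

/-- Solvable groups acting fixed point freely with non-cyclic Sylow `2`-subgroups. -/
theorem exists_good_solv [Group.IsSolvable G] (hφ : IsFpf φ) (hnc : ¬ ∀ P : Sylow 2 G, IsCyclic P) :
    ∃ N : Subgroup G, Good N := by
  classical
  have hS : SylHyp G := fun q _ A hA =>
    Cfsg.Agent.Lib.FrobCompl.cyclic_or_quaternion_of_fpf hA (hφ.comp A.subtype A.subtype_injective)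
  set O := pPrimeCore 2 G with hO
  let π : G →* G ⧸ O := QuotientGroup.mk' O
  have hπ : Function.Surjective π := QuotientGroup.mk'_surjective O
  have hπk : π.ker = O := QuotientGroup.ker_mk' O
  have hkc : (Nat.card π.ker).Coprime 2 := by
    rw [hπk]
    exact card_pPrimeCore_coprime 2
  have hO' : pPrimeCore 2 (G ⧸ O) = ⊥ := pPrimeCore_quotient_pPrimeCore 2
  -- the hypotheses for the quotient
  have hSX : ∀ A : Subgroup (G ⧸ O), IsPGroup 2 A →
      IsCyclic A ∨ ∃ n : ℕ, Nonempty (A ≃* QuaternionGroup (2 ^ n)) := by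
    intro A hA
    obtain ⟨B, hB, e, he⟩ := lift_two π hπ hkc A hA
    rcases hS 2 B hB with hc | ⟨-, n, ⟨e'⟩⟩
    · left
      exact isCyclic_of_surjective e.toMonoidHom e.surjective
    · right
      exact ⟨n, ⟨e.symm.trans e'⟩⟩
  have huX : ∀ x y : G ⧸ O, orderOf x = 2 → orderOf y = 2 → x = y := by
    have key : ∀ x : G ⧸ O, orderOf x = 2 → ∃ b : G, orderOf b = 2 ∧ π b = x := by
      intro x hx
      have hA : IsPGroup 2 (zpowers x) := by
        apply IsPGroup.of_card (n := 1)
        rw [Nat.card_zpowers, hx, pow_one]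
      obtain ⟨B, hB, e, he⟩ := lift_two π hπ hkc _ hA
      refine ⟨(e.symm ⟨x, mem_zpowers x⟩ : B), ?_, ?_⟩
      · rw [Subgroup.orderOf_coe, MulEquiv.orderOf_eq, Subgroup.orderOf_mk, hx]
      · rw [← he, e.apply_symm_apply]
    intro x y hx hy
    obtain ⟨b, hb, rfl⟩ := key x hx
    obtain ⟨b', hb', rfl⟩ := key y hy
    have h1 : b ≠ 1 := by
      intro h
      rw [h, orderOf_one] at hb
      omega
    have h2 : b' ≠ 1 := by
      intro h
      rw [h, orderOf_one] at hb'
      omega
    rw [invol_unique hφ h1 (by rw [← pow_two, ← hb, pow_orderOf_eq_one]) h2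
      (by rw [← pow_two, ← hb', pow_orderOf_eq_one])]
  have hncX : ¬ ∀ P : Sylow 2 (G ⧸ O), IsCyclic P := by
    intro h
    apply hnc
    intro P
    have hc := h (Sylow.mapSurjective hπ P)
    have hinj := inj_two π rfl (P : Subgroup G) P.2
    let κ : (P : Subgroup G) →* (Sylow.mapSurjective hπ P : Subgroup (G ⧸ O)) :=
      (π.comp (P : Subgroup G).subtype).codRestrict _ (fun x => ⟨x, x.2, rfl⟩)
    have hκ : Function.Injective κ := by
      intro u v huv
      exact hinj (congrArg Subtype.val huv)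
    exact isCyclic_of_injective κ hκ
  haveI : Group.IsSolvable (G ⧸ O) := inferInstance
  obtain ⟨K, hKn, hKc, hK2, hcases⟩ := solv_core hO' hSX huX hncX
  -- the pull-back
  have hN : ∀ {Q : Type} [Group Q] (f : (G ⧸ O) →* Q), f.ker = K → (f.comp π).ker = K.comap π := by
    intro Q _ f hf
    rw [← hf]
    rfl
  have hsurj : ∀ {Q : Type} [Group Q] (f : (G ⧸ O) →* Q), Function.Surjective f →
      Function.Surjective (f.comp π) := fun f hf => hf.comp hπ
  refine ⟨K.comap π, Subgroup.Normal.comap hKn π, ?_, ?_⟩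
  · apply Cfsg.Agent.Lib.FCGood.sylow_cyclic_of hS
    intro A hAN hA
    have hinj := inj_two π rfl A hA
    let κ : A →* K := (π.comp A.subtype).codRestrict K (fun x => hAN x.2)
    have hκ : Function.Injective κ := by
      intro u v huv
      exact hinj (congrArg Subtype.val huv)
    exact isCyclic_of_injective κ hκ
  · rcases hcases with ⟨f, hf, hfk⟩ | ⟨f, hf, hfk⟩ | ⟨f, hf, hfk⟩
    · exact Or.inr (Or.inl ⟨f.comp π, hsurj f hf, hN f hfk⟩)
    · exact Or.inr (Or.inr (Or.inl ⟨f.comp π, hsurj f hf, hN f hfk⟩))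
    · exact Or.inr (Or.inr (Or.inr (Or.inl ⟨f.comp π, hsurj f hf, hN f hfk⟩)))

/-- All Sylow `2`-subgroups cyclic. -/
theorem good_top (hS : SylHyp G) (h : ∀ P : Sylow 2 G, IsCyclic P) : Good (⊤ : Subgroup G) := by
  refine ⟨inferInstance, ?_, Or.inl rfl⟩
  apply Cfsg.Agent.Lib.FCGood.sylow_cyclic_of hS
  intro A _ hA
  obtain ⟨P, hP⟩ := hA.exists_le_sylow
  have := h P
  exact isCyclic_of_injective (Subgroup.inclusion hP) (Subgroup.inclusion_injective hP)

end Lift

end Cfsg.Agent.Lib.FCSolv
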