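import Mathlib

/-!
# Recognition of the symmetric group of degree four
-/

set_option autoImplicit false
set_option linter.unusedSectionVars false

namespace Cfsg.Agent.Lib.FFS4

variable {X : Type*} [Group X] [Finite X]

section Data

variable (W : Subgroup X) [W.Normal] (hW4 : Nat.card W = 4) {k : X} (hk3 : k ^ 3 = 1) (hk1 : k ≠ 1)
  (hkf : ∀ v ∈ W, k * v * k⁻¹ = v → v = 1)
include hW4 hk3 hk1 hkf

omit hW4 hk3 hk1 hkf in
/-- Elements in the action kernel. -/
theorem mem_ker_iff {x : X} : x ∈ (MulAction.toPermHom X (Sylow 3 X)).ker ↔ ∀ Q : Sylow 3 X, x • Q = Q := by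
  rw [MonoidHom.mem_ker]
  constructor
  · intro h Q
    exact congrArg (fun f : Equiv.Perm (Sylow 3 X) => f Q) h
  · intro h
    ext1 Q
    exact h Q

/-- `W` meets the normalizer of `⟨k⟩` trivially. -/
theorem normalizer_disjoint {v : X} (hv : v ∈ W) (hvn : v ∈ Subgroup.normalizer (Subgroup.zpowers k : Set X)) : v = 1 := by
  have hn : (W : Subgroup X).Normal := inferInstance
  set u := v * k * v⁻¹ * k⁻¹ with hu
  have hu1 : u ∈ Subgroup.zpowers k := by
    have h1 : v * k * v⁻¹ ∈ Subgroup.zpowers k := (Subgroup.mem_normalizer_iff.mp hvn k).mp (Subgroup.mem_zpowers k)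
    exact Subgroup.mul_mem _ h1 (Subgroup.inv_mem _ (Subgroup.mem_zpowers k))
  have hu2 : u ∈ W := by
    have h1 : k * v⁻¹ * k⁻¹ ∈ W := hn.conj_mem _ (W.inv_mem hv) k
    have e : u = v * (k * v⁻¹ * k⁻¹) := by rw [hu]; group
    rw [e]
    exact W.mul_mem hv h1
  have hu3 : u ^ 3 = 1 := by
    obtain ⟨m, hm⟩ := Subgroup.mem_zpowers_iff.mp hu1
    rw [← hm, ← zpow_natCast, ← zpow_mul, mul_comm, zpow_mul]
    norm_cast
    rw [hk3]
    simp
  have hu4 : u ^ 4 = 1 := by
    have h1 : (⟨u, hu2⟩ : W) ^ Nat.card W = 1 := pow_card_eq_one'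
    rw [hW4] at h1
    exact congrArg Subtype.val h1
  have hu5 : u = 1 := by
    have e : u = u ^ 4 * (u ^ 3)⁻¹ := by group
    rw [e, hu3, hu4]; simp
  apply hkf v hv
  have h1 : v * k * v⁻¹ = k := by
    have : v * k * v⁻¹ * k⁻¹ = 1 := hu5
    exact mul_inv_eq_one.mp this
  have h2 : v * k = k * v := mul_inv_eq_iff_eq_mul.mp h1
  rw [← h2]; group

theorem exists_v : ∃ v ∈ W, v ≠ 1 := by
  by_contra hcon
  push Not at hcon
  have h1 : W = ⊥ := (Subgroup.eq_bot_iff_forall W).mpr hcon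
  rw [h1] at hW4
  simp at hW4

/-- The Sylow `3`-subgroups. -/
theorem exists_sylow (hXc : Nat.card X = 24 ∨ Nat.card X = 48) : ∃ Q₀ : Sylow 3 X, (Q₀ : Subgroup X) = Subgroup.zpowers k := by
  haveI : Fact (Nat.Prime 3) := ⟨Nat.prime_three⟩
  have hord : orderOf k = 3 := orderOf_eq_prime hk3 hk1
  have hp : IsPGroup 3 (Subgroup.zpowers k) := by
    apply IsPGroup.of_card (n := 1)
    rw [Nat.card_zpowers, hord]; norm_num
  obtain ⟨Q, hQ⟩ := hp.exists_le_sylow
  refine ⟨Q, ?_⟩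
  symm
  apply Subgroup.eq_of_le_of_card_ge hQ
  rw [Nat.card_zpowers, hord]
  obtain ⟨n, hn⟩ := IsPGroup.iff_card.mp Q.isPGroup'
  have h1 : Nat.card (Q : Subgroup X) ∣ Nat.card X := Subgroup.card_subgroup_dvd_card _
  rw [hn] at h1 ⊢
  have hn2 : n ≤ 1 := by
    by_contra hlt
    push Not at hlt
    have h2 : 3 ^ 2 ∣ 3 ^ n := pow_dvd_pow 3 hlt
    have h3 := h2.trans h1
    rcases hXc with h | h <;> rw [h] at h3 <;> revert h3 <;> decide
  interval_cases n <;> norm_num

/-- The number of Sylow `3`-subgroups. -/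
theorem card_sylow (hXc : Nat.card X = 24 ∨ Nat.card X = 48) (hn16 : Nat.card (Sylow 3 X) ≠ 16) : Nat.card (Sylow 3 X) = 4 := by
  classical
  haveI : Fact (Nat.Prime 3) := ⟨Nat.prime_three⟩
  obtain ⟨Q₀, hQ₀⟩ := exists_sylow W hW4 hk3 hk1 hkf hXc
  have hord : orderOf k = 3 := orderOf_eq_prime hk3 hk1
  have hmod := card_sylow_modEq_one 3 X
  have hdvd := Q₀.card_dvd_index
  have hidx : (Q₀ : Subgroup X).index * 3 = Nat.card X := by
    have h1 := Subgroup.index_mul_card (Q₀ : Subgroup X)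
    rw [hQ₀, Nat.card_zpowers, hord] at h1
    rw [hQ₀]
    exact h1
  have hidx2 : (Q₀ : Subgroup X).index = 8 ∨ (Q₀ : Subgroup X).index = 16 := by
    rcases hXc with h | h
    · left; omega
    · right; omega
  have h16 : Nat.card (Sylow 3 X) ∣ 16 := by
    rcases hidx2 with h | h
    · rw [h] at hdvd
      exact hdvd.trans (by norm_num)
    · rwa [h] at hdvd
  have hle : Nat.card (Sylow 3 X) ≤ 16 := Nat.le_of_dvd (by norm_num) h16
  have hne1 : Nat.card (Sylow 3 X) ≠ 1 := by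
    intro h1
    haveI : Subsingleton (Sylow 3 X) := (Nat.card_eq_one_iff_unique.mp h1).1
    have hnorm := Sylow.normal_of_subsingleton Q₀
    obtain ⟨v, hv, hv1⟩ := exists_v W hW4 hk3 hk1 hkf
    apply hv1
    apply normalizer_disjoint W hW4 hk3 hk1 hkf hv
    rw [← hQ₀, Subgroup.mem_normalizer_iff]
    intro h
    constructor
    · intro hh
      exact hnorm.conj_mem h hh v
    · intro hh
      have h2 := hnorm.conj_mem _ hh v⁻¹
      simpa [mul_assoc] using h2
  have hmod' : Nat.card (Sylow 3 X) % 3 = 1 := hmod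
  interval_cases h : Nat.card (Sylow 3 X) <;> first | omega | (revert h16; decide)

/-- The kernel of the action on the Sylow subgroups centralizes `W`. -/
theorem ker_centralizes (hXc : Nat.card X = 24 ∨ Nat.card X = 48) {x : X} (hx : x ∈ (MulAction.toPermHom X (Sylow 3 X)).ker) {v : X} (hv : v ∈ W) :
    x * v = v * x := by
  have hn : (W : Subgroup X).Normal := inferInstance
  obtain ⟨Q₀, hQ₀⟩ := exists_sylow W hW4 hk3 hk1 hkf hXc
  set N := (MulAction.toPermHom X (Sylow 3 X)).ker with hN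
  have hNn : N.Normal := MonoidHom.normal_ker _
  set u := x * v * x⁻¹ * v⁻¹ with hu
  have hu1 : u ∈ W := W.mul_mem (hn.conj_mem v hv x) (W.inv_mem hv)
  have hu2 : u ∈ N := by
    have h1 : v * x⁻¹ * v⁻¹ ∈ N := hNn.conj_mem _ (N.inv_mem hx) v
    have e : u = x * (v * x⁻¹ * v⁻¹) := by rw [hu]; group
    rw [e]
    exact N.mul_mem hx h1
  have hu3 : u = 1 := by
    apply normalizer_disjoint W hW4 hk3 hk1 hkf hu1
    rw [← hQ₀]
    have := (mem_ker_iff.mp hu2) Q₀
    exact Sylow.smul_eq_iff_mem_normalizer.mp this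
  have h1 : x * v * x⁻¹ = v := mul_inv_eq_one.mp hu3
  exact mul_inv_eq_iff_eq_mul.mp h1

end Data

/-- Recognition of `S₄`. -/
theorem iso_S4 (W : Subgroup X) [W.Normal] (hW4 : Nat.card W = 4) {k : X} (hk3 : k ^ 3 = 1) (hk1 : k ≠ 1)
    (hkf : ∀ v ∈ W, k * v * k⁻¹ = v → v = 1) (hC : ∀ x, (∀ v ∈ W, x * v = v * x) → x ∈ W) (hX : Nat.card X = 24) :
    Nonempty (X ≃* Equiv.Perm (Fin 4)) := by
  classical
  haveI : Fact (Nat.Prime 3) := ⟨Nat.prime_three⟩
  have hXc : Nat.card X = 24 ∨ Nat.card X = 48 := Or.inl hX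
  obtain ⟨Q₀, hQ₀⟩ := exists_sylow W hW4 hk3 hk1 hkf hXc
  have hn3 : Nat.card (Sylow 3 X) = 4 := by
    apply card_sylow W hW4 hk3 hk1 hkf hXc
    intro h16
    have h1 := Q₀.card_dvd_index
    rw [h16] at h1
    have hord : orderOf k = 3 := orderOf_eq_prime hk3 hk1
    have h2 := Subgroup.index_mul_card (Q₀ : Subgroup X)
    rw [hQ₀, Nat.card_zpowers, hord, hX] at h2
    rw [hQ₀] at h1
    have h3 : (Subgroup.zpowers k).index = 8 := by omega
    rw [h3] at h1
    revert h1; decide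
  let e : Sylow 3 X ≃ Fin 4 := Finite.equivFinOfCardEq hn3
  let ρ : X →* Equiv.Perm (Fin 4) := e.permCongrHom.toMonoidHom.comp (MulAction.toPermHom X (Sylow 3 X))
  have hinj : Function.Injective ρ := by
    rw [injective_iff_map_eq_one]
    intro x hx
    have hx' : x ∈ (MulAction.toPermHom X (Sylow 3 X)).ker := by
      rw [MonoidHom.mem_ker]
      apply e.permCongrHom.injective
      rw [map_one]
      exact hx
    have hxW := hC x (fun v hv => ker_centralizes W hW4 hk3 hk1 hkf hXc hx' hv)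
    apply normalizer_disjoint W hW4 hk3 hk1 hkf hxW
    rw [← hQ₀]
    exact Sylow.smul_eq_iff_mem_normalizer.mp ((mem_ker_iff.mp hx') Q₀)
  have hcard : Nat.card X = Nat.card (Equiv.Perm (Fin 4)) := by
    rw [hX, Nat.card_perm]; simp [Nat.factorial]
  have hbij : Function.Bijective ρ := (Nat.bijective_iff_injective_and_card ρ).mpr ⟨hinj, hcard⟩
  exact ⟨MulEquiv.ofBijective ρ hbij⟩

/-- Recognition of `S₄ × Z₂`. -/
theorem iso_S4Z2 (W : Subgroup X) [W.Normal] (hW4 : Nat.card W = 4) {k c : X} (hk3 : k ^ 3 = 1) (hk1 : k ≠ 1)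
    (hkf : ∀ v ∈ W, k * v * k⁻¹ = v → v = 1) (hc : ∀ x, c * x = x * c) (hcc : c * c = 1) (hcW : c ∉ W)
    (hC : ∀ x, (∀ v ∈ W, x * v = v * x) → x ∈ W ∨ x * c ∈ W) (hX : Nat.card X = 48)
    (χ : X →* Multiplicative (ZMod 2)) (hχ : χ c ≠ 1) :
    Nonempty (X ≃* Equiv.Perm (Fin 4) × Multiplicative (ZMod 2)) := by
  classical
  haveI : Fact (Nat.Prime 3) := ⟨Nat.prime_three⟩
  have hn : (W : Subgroup X).Normal := inferInstance
  have hXc : Nat.card X = 24 ∨ Nat.card X = 48 := Or.inr hX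
  obtain ⟨Q₀, hQ₀⟩ := exists_sylow W hW4 hk3 hk1 hkf hXc
  have hord : orderOf k = 3 := orderOf_eq_prime hk3 hk1
  have hn3 : Nat.card (Sylow 3 X) = 4 := by
    apply card_sylow W hW4 hk3 hk1 hkf hXc
    intro h16
    have h1 : (16 : ℕ) = (Subgroup.normalizer ((Q₀ : Subgroup X) : Set X)).index := by
      rw [← h16]; exact Q₀.card_eq_index_normalizer
    have h2 := Subgroup.index_mul_card (Subgroup.normalizer ((Q₀ : Subgroup X) : Set X))
    rw [← h1, hX] at h2
    have h3 : Nat.card (Subgroup.normalizer ((Q₀ : Subgroup X) : Set X)) = 3 := by omega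
    have hle : (Q₀ : Subgroup X) ≤ Subgroup.normalizer ((Q₀ : Subgroup X) : Set X) := Subgroup.le_normalizer
    have h4 : Nat.card (Q₀ : Subgroup X) = 3 := by
      rw [hQ₀, Nat.card_zpowers, hord]
    have h5 : (Q₀ : Subgroup X) = Subgroup.normalizer ((Q₀ : Subgroup X) : Set X) := Subgroup.eq_of_le_of_card_ge hle (by omega)
    have h6 : c ∈ Subgroup.normalizer ((Q₀ : Subgroup X) : Set X) := by
      rw [Subgroup.mem_normalizer_iff]
      intro h
      rw [hc h]; simp
    rw [← h5, hQ₀] at h6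
    obtain ⟨m, hm⟩ := Subgroup.mem_zpowers_iff.mp h6
    have hc3 : c ^ 3 = 1 := by
      rw [← hm, ← zpow_natCast, ← zpow_mul, mul_comm, zpow_mul]
      norm_cast
      rw [hk3]
      simp
    have hc1 : c = 1 := by
      have e1 : c = c ^ 3 * (c * c)⁻¹ := by group
      rw [e1, hc3, hcc]; simp
    exact hcW (hc1 ▸ W.one_mem)
  let e : Sylow 3 X ≃ Fin 4 := Finite.equivFinOfCardEq hn3
  let ρ : X →* Equiv.Perm (Fin 4) := e.permCongrHom.toMonoidHom.comp (MulAction.toPermHom X (Sylow 3 X))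
  let f : X →* Equiv.Perm (Fin 4) × Multiplicative (ZMod 2) := ρ.prod χ
  have hinj : Function.Injective f := by
    rw [injective_iff_map_eq_one]
    intro x hx
    have hx1 : ρ x = 1 := congrArg Prod.fst hx
    have hx2 : χ x = 1 := congrArg Prod.snd hx
    have hx' : x ∈ (MulAction.toPermHom X (Sylow 3 X)).ker := by
      rw [MonoidHom.mem_ker]
      apply e.permCongrHom.injective
      rw [map_one]
      exact hx1
    have hzero : ∀ {y : X}, y ∈ W → y ∈ (MulAction.toPermHom X (Sylow 3 X)).ker → y = 1 := by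
      intro y hy hy'
      apply normalizer_disjoint W hW4 hk3 hk1 hkf hy
      rw [← hQ₀]
      exact Sylow.smul_eq_iff_mem_normalizer.mp ((mem_ker_iff.mp hy') Q₀)
    rcases hC x (fun v hv => ker_centralizes W hW4 hk3 hk1 hkf hXc hx' hv) with h | h
    · exact hzero h hx'
    · exfalso
      set y := x * c with hy
      have hNn : (MulAction.toPermHom X (Sylow 3 X)).ker.Normal := MonoidHom.normal_ker _
      have h1 : k * x * k⁻¹ ∈ (MulAction.toPermHom X (Sylow 3 X)).ker := hNn.conj_mem x hx' k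
      have h2 : k * y * k⁻¹ * y⁻¹ = k * x * k⁻¹ * x⁻¹ := by
        have hci : c⁻¹ = c := inv_eq_of_mul_eq_one_left hcc
        calc k * y * k⁻¹ * y⁻¹ = k * x * (c * k⁻¹) * (c⁻¹ * x⁻¹) := by rw [hy]; group
          _ = k * x * (k⁻¹ * c) * (c⁻¹ * x⁻¹) := by rw [hc k⁻¹]
          _ = k * x * k⁻¹ * x⁻¹ := by group
      have h4 : k * y * k⁻¹ * y⁻¹ ∈ (MulAction.toPermHom X (Sylow 3 X)).ker := by
        rw [h2]
        exact Subgroup.mul_mem _ h1 (Subgroup.inv_mem _ hx')
      have h5 : k * y * k⁻¹ * y⁻¹ ∈ W := W.mul_mem (hn.conj_mem y h k) (W.inv_mem h)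
      have h6 := hzero h5 h4
      have h7 : k * y * k⁻¹ = y := mul_inv_eq_one.mp h6
      have h8 := hkf y h h7
      have h9 : x = c⁻¹ := eq_inv_of_mul_eq_one_left h8
      rw [inv_eq_of_mul_eq_one_left hcc] at h9
      rw [h9] at hx2
      exact hχ hx2
  have hcard : Nat.card X = Nat.card (Equiv.Perm (Fin 4) × Multiplicative (ZMod 2)) := by
    rw [hX, Nat.card_prod, Nat.card_perm]
    simp [Nat.factorial, Nat.card_eq_fintype_card]
  have hbij : Function.Bijective f := (Nat.bijective_iff_injective_and_card f).mpr ⟨hinj, hcard⟩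
  exact ⟨MulEquiv.ofBijective f hbij⟩

end Cfsg.Agent.Lib.FFS4
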