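import Mathlib

/-!
# The arithmetic end-game of the Feit-Hall-Thompson count
-/

set_option autoImplicit false

namespace Cfsg.Agent.Lib.FHTArith

open Finset

variable {ι : Type*} [Fintype ι] [DecidableEq ι]

/-- The weight of a family. -/
noncomputable def wt (e h : ℕ) : ℝ := ((h : ℝ) - 1) / ((e : ℝ) * (h : ℝ))

theorem wt_nonneg {e h : ℕ} (hh : 1 ≤ h) : 0 ≤ wt e h := by
  unfold wt
  apply div_nonneg
  · have : (1 : ℝ) ≤ h := by exact_mod_cast hh
    linarith
  · positivity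

theorem wt_le {e h : ℕ} (he : 0 < e) (hh : 0 < h) : wt e h ≤ 1 / (e : ℝ) := by
  unfold wt
  have he' : (0 : ℝ) < e := by exact_mod_cast he
  have hh' : (0 : ℝ) < h := by exact_mod_cast hh
  rw [div_le_div_iff₀ (by positivity) he']
  nlinarith

theorem key_ineq {e h n : ℕ} {g : ℝ} {s : ℝ} (hh : h = e * n + 1) (he : 3 ≤ e) (hn : 0 < n)
    (hg : (e : ℝ) * h ≤ g)
    (h1 : s > 1 - 1 / g - wt e h - (e : ℝ) / h) : s > 1 - 1 / ((e : ℝ) * h) - wt e h - (e : ℝ) / h := by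
  have he' : (0 : ℝ) < e := by exact_mod_cast (by omega : 0 < e)
  have hh' : (0 : ℝ) < h := by rw [hh]; positivity
  have h2 : 1 / g ≤ 1 / ((e : ℝ) * h) := one_div_le_one_div_of_le (by positivity) hg
  linarith

/-- First step: the minimal `e` has `n = 2`. -/
theorem n_le_two {e h n b : ℕ} {g s : ℝ} (hh : h = e * n + 1) (he : 3 ≤ e) (hn : 0 < n)
    (hg : (e : ℝ) * h ≤ g) (h1 : s > 1 - 1 / g - wt e h - (e : ℝ) / h)
    (hb : 2 * b ≤ e - 1) (hs : s ≤ (b : ℝ) * (1 / (e : ℝ))) : n ≤ 2 := by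
  by_contra hn2
  have hn3 : 3 ≤ n := by omega
  have h2 := key_ineq hh he hn hg h1
  have he' : (3 : ℝ) ≤ e := by exact_mod_cast he
  have hn' : (3 : ℝ) ≤ n := by exact_mod_cast hn3
  have hh2 : (h : ℝ) = e * n + 1 := by rw [hh]; push_cast; ring
  have hb' : 2 * (b : ℝ) ≤ e - 1 := by
    have : 2 * b + 1 ≤ e := by omega
    have h3 : (2 * b + 1 : ℝ) ≤ e := by exact_mod_cast this
    linarith
  have h0e : (0 : ℝ) < e := by linarith
  have h0h : (0 : ℝ) < h := by rw [hh2]; positivity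
  have h3 : (b : ℝ) * (1 / (e : ℝ)) ≤ ((e : ℝ) - 1) / (2 * e) := by
    rw [mul_one_div, div_le_div_iff₀ h0e (by positivity)]
    nlinarith
  have h4 : ((e : ℝ) - 1) / (2 * e) > 1 - 1 / ((e : ℝ) * h) - wt e h - (e : ℝ) / h := by linarith
  unfold wt at h4
  have h5 : ((e : ℝ) - 1) / (2 * e) - (1 - 1 / ((e : ℝ) * h) - ((h : ℝ) - 1) / ((e : ℝ) * h) - (e : ℝ) / h)
      = (((e : ℝ) - 1) * h - 2 * e * h + 2 + 2 * (h - 1) + 2 * e * e) / (2 * e * h) := by
    field_simp
    ring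
  have h6 : 0 < (((e : ℝ) - 1) * h - 2 * e * h + 2 + 2 * (h - 1) + 2 * e * e) / (2 * e * h) := by
    rw [← h5]; linarith
  have h7 : 0 < ((e : ℝ) - 1) * h - 2 * e * h + 2 + 2 * (h - 1) + 2 * e * e := by
    by_contra hc
    push Not at hc
    have : (((e : ℝ) - 1) * h - 2 * e * h + 2 + 2 * (h - 1) + 2 * e * e) / (2 * e * h) ≤ 0 :=
      div_nonpos_of_nonpos_of_nonneg hc (by positivity)
    linarith
  rw [hh2] at h7
  have h8 : ((e : ℝ) - 3) * (n - 3) ≥ 0 := mul_nonneg (by linarith) (by linarith)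
  nlinarith [mul_nonneg (sub_nonneg.mpr he') (sub_nonneg.mpr hn'), mul_pos h0e h0e,
    mul_nonneg (mul_nonneg (sub_nonneg.mpr he') (sub_nonneg.mpr hn')) h0e.le]

/-- Second step: contradiction when `n = 2` and all the other indices are larger. -/
theorem final_two {e h b : ℕ} {g s : ℝ} (hh : h = e * 2 + 1) (he : 3 ≤ e)
    (hg : (e : ℝ) * h ≤ g) (h1 : s > 1 - 1 / g - wt e h - (e : ℝ) / h)
    (hb : 2 * b ≤ e - 1) (hs : s ≤ (b : ℝ) * (1 / ((e : ℝ) + 2))) : False := by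
  have h2 := key_ineq hh he (by norm_num) hg h1
  have he' : (3 : ℝ) ≤ e := by exact_mod_cast he
  have hh2 : (h : ℝ) = e * 2 + 1 := by rw [hh]; push_cast; ring
  have hb' : 2 * (b : ℝ) ≤ e - 1 := by
    have : 2 * b + 1 ≤ e := by omega
    have h3 : (2 * b + 1 : ℝ) ≤ e := by exact_mod_cast this
    linarith
  have h0e : (0 : ℝ) < e := by linarith
  have h0h : (0 : ℝ) < h := by rw [hh2]; positivity
  have h3 : (b : ℝ) * (1 / ((e : ℝ) + 2)) ≤ ((e : ℝ) - 1) / (2 * (e + 2)) := by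
    rw [mul_one_div, div_le_div_iff₀ (by positivity) (by positivity)]
    nlinarith
  have h4 : ((e : ℝ) - 1) / (2 * (e + 2)) > 1 - 1 / ((e : ℝ) * h) - wt e h - (e : ℝ) / h := by linarith
  unfold wt at h4
  rw [hh2] at h4
  have h5 : ((e : ℝ) - 1) / (2 * (e + 2)) - (1 - 1 / ((e : ℝ) * (e * 2 + 1)) -
      ((e : ℝ) * 2 + 1 - 1) / ((e : ℝ) * (e * 2 + 1)) - (e : ℝ) / (e * 2 + 1))
      = (2 * e + 4 - 3 * e * (e - 1)) / (2 * e * (e + 2) * (e * 2 + 1)) := by
    field_simp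
    ring
  have h6 : 0 < (2 * (e : ℝ) + 4 - 3 * e * (e - 1)) / (2 * e * (e + 2) * (e * 2 + 1)) := by
    rw [← h5]; linarith
  have h7 : (2 * (e : ℝ) + 4 - 3 * e * (e - 1)) / (2 * e * (e + 2) * (e * 2 + 1)) ≤ 0 := by
    apply div_nonpos_of_nonpos_of_nonneg
    · nlinarith
    · positivity
  linarith

/-- The arithmetic contradiction. -/
theorem arith [Nonempty ι] (e h n : ι → ℕ) (g : ℝ) (M : ι → ι → ℤ)
    (hh : ∀ i, h i = e i * n i + 1) (he3 : ∀ i, 3 ≤ e i) (heo : ∀ i, Odd (e i))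
    (hho : ∀ i, Odd (h i)) (hn : ∀ i, 0 < n i)
    (hcop : ∀ i j, i ≠ j → Nat.Coprime (h i) (h j))
    (hF1 : ∀ i j, i ≠ j → M i j ≠ 0 ∨ M j i ≠ 0)
    (hF2 : ∀ i, 2 * (univ.filter (fun j => j ≠ i ∧ M j i ≠ 0)).card ≤ e i - 1)
    (hF3 : ∀ i, ∑ j ∈ univ.filter (fun j => j ≠ i ∧ M i j ≠ 0), wt (e j) (h j) < (e i : ℝ) / h i)
    (hF4 : ∑ j, wt (e j) (h j) = 1 - 1 / g)
    (hF5 : ∀ i, (e i : ℝ) * h i ≤ g) : False := by
  classical
  have hh1 : ∀ i, 1 ≤ h i := fun i => by rw [hh i]; omega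
  have hw0 : ∀ j, 0 ≤ wt (e j) (h j) := fun j => wt_nonneg (hh1 j)
  have hlow : ∀ i, ∑ j ∈ univ.filter (fun j => j ≠ i ∧ M j i ≠ 0), wt (e j) (h j) >
      1 - 1 / g - wt (e i) (h i) - (e i : ℝ) / h i := by
    intro i
    have h1 : ∑ j, wt (e j) (h j) = wt (e i) (h i) + ∑ j ∈ univ.erase i, wt (e j) (h j) :=
      (Finset.add_sum_erase univ (fun j => wt (e j) (h j)) (mem_univ i)).symm
    have h2 : ∑ j ∈ univ.erase i, wt (e j) (h j) ≤
        ∑ j ∈ univ.filter (fun j => j ≠ i ∧ M i j ≠ 0) ∪ univ.filter (fun j => j ≠ i ∧ M j i ≠ 0),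
          wt (e j) (h j) := by
      apply Finset.sum_le_sum_of_subset_of_nonneg
      · intro j hj
        have hji := (mem_erase.mp hj).1
        simp only [mem_union, mem_filter, mem_univ, true_and]
        rcases hF1 i j (Ne.symm hji) with h3 | h3
        · exact Or.inl ⟨hji, h3⟩
        · exact Or.inr ⟨hji, h3⟩
      · intro j _ _
        exact hw0 j
    have h3 := Finset.sum_union_inter (s₁ := univ.filter (fun j => j ≠ i ∧ M i j ≠ 0))
      (s₂ := univ.filter (fun j => j ≠ i ∧ M j i ≠ 0)) (f := fun j => wt (e j) (h j))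
    have h3' : 0 ≤ ∑ j ∈ univ.filter (fun j => j ≠ i ∧ M i j ≠ 0) ∩
        univ.filter (fun j => j ≠ i ∧ M j i ≠ 0), wt (e j) (h j) :=
      Finset.sum_nonneg (fun j _ => hw0 j)
    have h4 := hF3 i
    linarith
  -- choose i with minimal e
  have hmin : ∀ i, (∀ j, e i ≤ e j) → n i = 2 := by
    intro i hi
    have h1 := hlow i
    have h2 : ∑ j ∈ univ.filter (fun j => j ≠ i ∧ M j i ≠ 0), wt (e j) (h j) ≤
        ((univ.filter (fun j => j ≠ i ∧ M j i ≠ 0)).card : ℝ) * (1 / (e i : ℝ)) := by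
      rw [← nsmul_eq_mul]
      apply Finset.sum_le_card_nsmul
      intro j _
      refine (wt_le (by have := he3 j; omega) (hh1 j)).trans ?_
      apply one_div_le_one_div_of_le
      · have : 0 < e i := by have := he3 i; omega
        exact_mod_cast this
      · exact_mod_cast hi j
    have h3 := n_le_two (hh i) (he3 i) (hn i) (hF5 i) h1 (hF2 i) h2
    have h4 : Even (n i) := by
      have h5 : Even (e i * n i) := by
        have h6 := hho i
        rw [hh i] at h6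
        by_contra hc
        rw [Nat.not_even_iff_odd] at hc
        exact (Nat.not_even_iff_odd.mpr h6) (Odd.add_odd hc odd_one)
      rcases Nat.even_mul.mp h5 with h6 | h6
      · exact absurd h6 (Nat.not_even_iff_odd.mpr (heo i))
      · exact h6
    have h5 := hn i
    obtain ⟨c, hc⟩ := h4
    omega
  obtain ⟨i, -, hi⟩ := Finset.exists_min_image (univ : Finset ι) e univ_nonempty
  have hi' : ∀ j, e i ≤ e j := fun j => hi j (mem_univ j)
  have hni := hmin i hi'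
  have hlarge : ∀ j, j ≠ i → e i + 2 ≤ e j := by
    intro j hj
    have h1 := hi' j
    have h2 : e j ≠ e i := by
      intro heq
      have h3 := hmin j (fun k => heq ▸ hi' k)
      have h4 : h j = h i := by rw [hh j, hh i, h3, hni, heq]
      have h5 := hcop i j (Ne.symm hj)
      rw [h4] at h5
      have h6 := (Nat.coprime_self _).mp h5
      have h7 := hh i
      have h8 := he3 i
      rw [hni] at h7
      omega
    obtain ⟨a, ha⟩ := heo i
    obtain ⟨b, hb⟩ := heo j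
    omega
  have h1 := hlow i
  have h2 : ∑ j ∈ univ.filter (fun j => j ≠ i ∧ M j i ≠ 0), wt (e j) (h j) ≤
      ((univ.filter (fun j => j ≠ i ∧ M j i ≠ 0)).card : ℝ) * (1 / ((e i : ℝ) + 2)) := by
    rw [← nsmul_eq_mul]
    apply Finset.sum_le_card_nsmul
    intro j hj
    have hji := (mem_filter.mp hj).2.1
    refine (wt_le (by have := he3 j; omega) (hh1 j)).trans ?_
    apply one_div_le_one_div_of_le
    · positivity
    · exact_mod_cast hlarge j hji
  have h3 := hh i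
  rw [hni] at h3
  exact final_two h3 (he3 i) (hF5 i) h1 (hF2 i) h2

end Cfsg.Agent.Lib.FHTArith
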