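import Mathlib
import Cfsg.Agent.S1529
import Cfsg.Agent.Lib.SibKernel9
import Cfsg.Agent.Lib.RealChars

/-!
# One family of the Feit-Hall-Thompson count
-/

set_option autoImplicit false
set_option linter.unusedSectionVars false
set_option linter.unusedVariables false
open Cfsg

namespace Cfsg.Agent.Lib.FHTFam

open Cfsg.Agent.Lib.CharBasic Cfsg.Agent.Lib.GenChar Cfsg.Agent.Lib.CharInd
  Cfsg.Agent.Lib.CharInduction Cfsg.Agent.Lib.CharKernel
  Cfsg.Agent.Lib.CoherenceBasic Cfsg.Agent.Lib.FrobIrr9 Cfsg.Agent.Lib.TIFrob9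
open scoped ComplexConjugate

section Gen

variable {G : Type*} [Group G] [Fintype G]

theorem inner_eq_zero_of_disj {A B : G → ℂ} (h : ∀ g, A g = 0 ∨ B g = 0) : classInner A B = 0 := by
  unfold classInner
  rw [Finset.sum_eq_zero, mul_zero]
  intro g _
  rcases h g with h1 | h1 <;> simp [h1]

/-- The rectangle argument. -/
theorem rect {a a' b b' : G → ℂ} (ha : IsIrrCharacter G a) (ha' : IsIrrCharacter G a')
    (hb : IsIrrCharacter G b) (hb' : IsIrrCharacter G b') (hne : a ≠ a') (hne' : b ≠ b')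
    (h : classInner (a - a') (b - b') = 0) : classInner a b = 0 := by
  apply classInner_irr_ne ha hb
  rintro rfl
  rw [classInner_sub_left, classInner_sub_right, classInner_sub_right, classInner_irr_self ha,
    classInner_irr_ne ha hb' hne', classInner_irr_ne ha' ha hne.symm] at h
  by_cases h2 : a' = b'
  · subst h2
    rw [classInner_irr_self ha'] at h
    norm_num at h
  · rw [classInner_irr_ne ha' hb' h2] at h
    norm_num at h

/-- The inner product of two real virtual characters in a group of odd order, one orthogonal to the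
principal character, is even. -/
theorem even_inner (hodd : Odd (Nat.card G)) {A B : G → ℂ} (hA : IsGeneralizedCharacter G A)
    (hB : IsGeneralizedCharacter G B) (rA : conjFun A = A) (rB : conjFun B = B)
    (h1 : classInner A (fun _ => 1) = 0) : ∃ k : ℤ, classInner A B = 2 * k := by
  classical
  obtain ⟨m, hm⟩ := exists_int_decomp hA
  obtain ⟨m', hm'⟩ := exists_int_decomp hB
  have hmv : ∀ i : IrrCharacter G, classInner A i = m i := by
    intro i
    have := classInner_int_decomp m i i.2
    rw [← hm] at this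
    simpa using this
  have hmv' : ∀ i : IrrCharacter G, classInner B i = m' i := by
    intro i
    have := classInner_int_decomp m' i i.2
    rw [← hm'] at this
    simpa using this
  have hconj : ∀ {C : G → ℂ} {n : IrrCharacter G → ℤ}, conjFun C = C →
      (∀ i : IrrCharacter G, classInner C i = n i) →
      ∀ i : IrrCharacter G, n (Cfsg.Agent.Lib.RealChars.conjIrr i) = n i := by
    intro C n hr hn i
    have h2 := hn (Cfsg.Agent.Lib.RealChars.conjIrr i)
    have h3 : ((Cfsg.Agent.Lib.RealChars.conjIrr i : IrrCharacter G) : G → ℂ) = conjFun (i : G → ℂ) := rfl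
    rw [h3] at h2
    nth_rewrite 1 [← hr] at h2
    rw [classInner_conjFun_conjFun, hn i] at h2
    simp only [map_intCast] at h2
    exact_mod_cast h2.symm
  have hval : classInner A B = ((∑ i, m i * m' i : ℤ) : ℂ) := by
    rw [hm', classInner_sum_right]
    push_cast
    refine Finset.sum_congr rfl fun i _ => ?_
    rw [classInner_zsmul_right, hmv i, mul_comm]
  have hzero : m ⟨fun _ => 1, isIrrCharacter_one⟩ = 0 := by
    have := hmv ⟨fun _ => 1, isIrrCharacter_one⟩
    rw [h1] at this
    exact_mod_cast this.symm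
  have hsum : ((∑ i, m i * m' i : ℤ) : ZMod 2) = 0 := by
    push_cast
    refine Finset.sum_involution (fun i _ => Cfsg.Agent.Lib.RealChars.conjIrr i) ?_ ?_ ?_ ?_
    · intro i _
      rw [hconj rA hmv i, hconj rB hmv' i]
      exact CharTwo.add_self_eq_zero _
    · intro i _ hne hfix
      apply hne
      have h2 : ∀ g, ((i : G → ℂ) g).im = 0 := (Cfsg.Agent.Lib.RealChars.conjIrr_eq_iff i).mp hfix
      have h3 := Cfsg.Agent.Lib.RealChars.eq_one_of_real hodd i h2
      have h4 : i = ⟨fun _ => 1, isIrrCharacter_one⟩ := Subtype.ext h3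
      rw [h4, hzero]
      simp
    · intro i _
      exact Finset.mem_univ _
    · intro i _
      exact Cfsg.Agent.Lib.RealChars.conjIrr_conjIrr i
  obtain ⟨k, hk⟩ := (ZMod.intCast_zmod_eq_zero_iff_dvd _ 2).mp hsum
  refine ⟨k, ?_⟩
  rw [hval, hk]
  push_cast
  ring

theorem classInner_self_real (f : G → ℂ) :
    classInner f f = (((Nat.card G : ℝ)⁻¹ * ∑ g, Complex.normSq (f g) : ℝ) : ℂ) := by
  unfold classInner
  push_cast
  congr 1
  refine Finset.sum_congr rfl fun g _ => ?_
  rw [Complex.mul_conj]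

/-- The conjugate of an induced function. -/
theorem conjFun_indFun (H : Subgroup G) (θ : H → ℂ) :
    conjFun (indFun H θ) = indFun H (conjFun θ) := by
  funext g
  unfold conjFun
  rw [indFun_apply, indFun_apply, map_mul, map_inv₀, map_natCast, map_sum]
  congr 1
  refine Finset.sum_congr rfl fun x _ => ?_
  by_cases h : x⁻¹ * g * x ∈ H
  · rw [extendByZero_of_mem H _ h, extendByZero_of_mem H _ h]
  · rw [extendByZero_of_not_mem H _ h, extendByZero_of_not_mem H _ h]
    simp

/-- The support of an induced function. -/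
theorem ind_supp {N : Subgroup G} [Fintype N] {H : Subgroup N} {α : N → ℂ}
    (hα : ∀ n, n ∉ H → α n = 0) (hα1 : α 1 = 0) {g : G} (hg : indFun N α g ≠ 0) :
    g ≠ 1 ∧ orderOf g ∣ Nat.card H := by
  have h1 : ∃ x : G, extendByZero N α (x⁻¹ * g * x) ≠ 0 := by
    by_contra hc
    push Not at hc
    apply hg
    rw [indFun_apply, Finset.sum_eq_zero (fun x _ => hc x), mul_zero]
  obtain ⟨x, hx⟩ := h1
  have hm : x⁻¹ * g * x ∈ N := by
    by_contra hm
    exact hx (extendByZero_of_not_mem N α hm)
  rw [extendByZero_of_mem N α hm] at hx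
  set u : N := ⟨x⁻¹ * g * x, hm⟩ with hu
  have huH : u ∈ H := by
    by_contra hc
    exact hx (hα u hc)
  have hu1 : u ≠ 1 := by
    intro hc
    rw [hc] at hx
    exact hx hα1
  have hord : orderOf u = orderOf g := by
    rw [hu, Subgroup.orderOf_mk]
    have : x⁻¹ * g * x = x⁻¹ * g * x⁻¹⁻¹ := by simp
    rw [this, ← MulAut.conj_apply]
    exact MulEquiv.orderOf_eq _ _
  constructor
  · rintro rfl
    apply hu1
    apply Subtype.ext
    simp [hu]
  · rw [← hord]
    exact Subgroup.orderOf_dvd_natCard H huH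

end Gen

section L

variable {L : Type*} [Group L] [Fintype L] {H : Subgroup L} [hN : H.Normal]

/-- The permutation character on the cosets of `H`. -/
noncomputable def rho (H : Subgroup L) : L → ℂ := indFun H (fun _ => 1)

theorem rho_of_mem {u : L} (hu : u ∈ H) : rho H u = (H.index : ℂ) := by
  have hc : indFun H (fun _ : H => (1 : ℂ)) ((⟨u, hu⟩ : H) : L) = (H.index : ℂ) := by
    rw [indFun_of_mem_normal H hN]
    simp only [conjBy_apply, Finset.sum_const, Finset.card_univ, nsmul_eq_mul, mul_one]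
    have hKne := Cfsg.Agent.Lib.CharInd.natCard_subgroup_ne_zero H
    rw [← Nat.card_eq_fintype_card, ← Subgroup.card_mul_index H]
    push_cast
    field_simp
  exact hc

theorem rho_of_not_mem {u : L} (hu : u ∉ H) : rho H u = 0 :=
  indFun_of_not_mem_normal H hN _ hu

theorem rho_isCharacter : IsCharacter L (rho H) :=
  indFun_isCharacter H isCharacter_one

theorem conjFun_rho : conjFun (rho H) = rho H := by
  funext u
  unfold conjFun
  by_cases hu : u ∈ H
  · rw [rho_of_mem hu]
    simp
  · rw [rho_of_not_mem hu]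
    simp

theorem inner_rho_one : classInner (rho H) (fun _ => 1) = 1 := by
  classical
  let _ : Fintype H := Fintype.ofFinite H
  unfold rho
  rw [Cfsg.Agent.Lib.CharInd.frobenius H _ (fun _ _ => rfl)]
  exact classInner_irr_self isIrrCharacter_one

/-- Inner product with a function vanishing off `H`. -/
theorem inner_rho_of_vanish {χ : L → ℂ} (hχ : ∀ x, x ∉ H → χ x = 0) :
    classInner (rho H) χ = (H.index : ℂ) * classInner (fun _ => 1) χ := by
  unfold classInner
  rw [mul_left_comm]
  congr 1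
  rw [Finset.mul_sum]
  refine Finset.sum_congr rfl fun x _ => ?_
  by_cases hx : x ∈ H
  · rw [rho_of_mem hx]
    ring
  · rw [rho_of_not_mem hx, hχ x hx]
    simp

theorem inner_rho_rho : classInner (rho H) (rho H) = (H.index : ℂ) := by
  have h1 := inner_rho_of_vanish (H := H) (χ := rho H) (fun x hx => rho_of_not_mem hx)
  rw [h1]
  have h2 : classInner (fun _ => (1 : ℂ)) (rho H) = 1 := by
    rw [← classInner_conj_symm, inner_rho_one]
    simp
  rw [h2, mul_one]

variable (hC : ∀ h ∈ H, h ≠ 1 → Subgroup.centralizer ({h} : Set L) ≤ H)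

include hC in
theorem inner_one_SS {χ : L → ℂ} (hχ : χ ∈ SS H) : classInner (fun _ => 1) χ = 0 := by
  apply classInner_irr_ne isIrrCharacter_one hχ.1
  rintro rfl
  obtain ⟨z, -, hz⟩ := hχ.2
  exact hz rfl

include hC in
theorem inner_rho_SS {χ : L → ℂ} (hχ : χ ∈ SS H) : classInner (rho H) χ = 0 := by
  rw [inner_rho_of_vanish (fun x hx => vanish_of_mem hC hχ hx), inner_one_SS hC hχ, mul_zero]

include hC in
theorem inner_SS_rho {χ : L → ℂ} (hχ : χ ∈ SS H) : classInner χ (rho H) = 0 := by
  rw [← classInner_conj_symm, inner_rho_SS hC hχ]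
  simp

include hC in
theorem inner_beta_self {χ : L → ℂ} (hχ : χ ∈ SS H) :
    classInner (rho H - χ) (rho H - χ) = (H.index : ℂ) + 1 := by
  rw [classInner_sub_left, classInner_sub_right, classInner_sub_right, inner_rho_rho,
    inner_rho_SS hC hχ, inner_SS_rho hC hχ, classInner_irr_self hχ.1]
  ring

include hC in
theorem inner_beta_one {χ : L → ℂ} (hχ : χ ∈ SS H) :
    classInner (rho H - χ) (fun _ => 1) = 1 := by
  have h1 : classInner χ (fun _ => 1) = 0 := by
    rw [← classInner_conj_symm, inner_one_SS hC hχ]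
    simp
  rw [classInner_sub_left, inner_rho_one, h1, sub_zero]

include hC in
theorem inner_chi_beta {χ : L → ℂ} (hχ : χ ∈ SS H) :
    classInner χ (rho H - χ) = -1 := by
  rw [classInner_sub_right, inner_SS_rho hC hχ, classInner_irr_self hχ.1]
  ring

/-- The constancy lemma. -/
theorem const_of_orth {χ : L → ℂ} {g : L → ℂ} (hg : IsClassFunction L g)
    (horth : ∀ θ' : H → ℂ, IsIrrCharacter H θ' → θ' ≠ (fun _ => 1) → ∀ d : ℕ, θ' 1 = d →
      classInner g ((d : ℤ) • χ - indFun H θ') = 0)
    {u : L} (hu : u ∈ H) (hu1 : u ≠ 1) : g u = classInner g (rho H - χ) := by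
  classical
  let _ : Fintype H := Fintype.ofFinite H
  set f : H → ℂ := fun x => g x with hf
  have hfc : IsClassFunction H f := by
    intro a b
    simp only [hf, Subgroup.coe_mul, InvMemClass.coe_inv]
    exact hg _ _
  set b := classInner g χ with hb
  let one' : IrrCharacter H := ⟨fun _ => 1, isIrrCharacter_one⟩
  have hind : ∀ θ' : H → ℂ, classInner g (indFun H θ') = classInner f θ' := by
    intro θ'
    rw [← classInner_conj_symm, Cfsg.Agent.Lib.CharInd.frobenius H θ' hg, classInner_conj_symm]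
  have hcoef : ∀ θ' : IrrCharacter H, θ' ≠ one' → classInner f θ' = (θ' : H → ℂ) 1 * b := by
    intro θ' hne
    obtain ⟨d, -, hd⟩ := isIrr_one_pos θ'.2
    have h1 := horth θ' θ'.2 (fun h => hne (Subtype.ext h)) d hd
    rw [classInner_sub_right, classInner_zsmul_right, hind, sub_eq_zero] at h1
    rw [← h1, hd]
    simp [hb]
  have hsum := congrFun (classFunction_eq_sum hfc) ⟨u, hu⟩
  simp only [Finset.sum_apply, Pi.smul_apply, smul_eq_mul] at hsum
  have hcol := sum_irr_deg_mul (G := H) ⟨u, hu⟩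
  have hne1 : (⟨u, hu⟩ : H) ≠ 1 := fun h => hu1 (congrArg Subtype.val h)
  rw [if_neg hne1] at hcol
  have h3 : f ⟨u, hu⟩ = (classInner f (one' : H → ℂ) - b) := by
    rw [hsum]
    have h4 : ∀ θ' : IrrCharacter H, classInner f (θ' : H → ℂ) * (θ' : H → ℂ) ⟨u, hu⟩ =
        (classInner f (θ' : H → ℂ) - (θ' : H → ℂ) 1 * b) * (θ' : H → ℂ) ⟨u, hu⟩ +
        b * ((θ' : H → ℂ) 1 * (θ' : H → ℂ) ⟨u, hu⟩) := fun θ' => by ring
    rw [Finset.sum_congr rfl (fun θ' _ => h4 θ'), Finset.sum_add_distrib, ← Finset.mul_sum, hcol,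
      mul_zero, add_zero, Finset.sum_eq_single one']
    · simp [one']
    · intro θ' _ hne
      rw [hcoef θ' hne, sub_self, zero_mul]
    · intro h
      exact absurd (Finset.mem_univ _) h
  have h5 : classInner g (rho H) = classInner f (one' : H → ℂ) := hind _
  rw [classInner_sub_right, h5]
  exact h3

end L

section Linear

variable {K : Type*} [Group K] [Finite K]

/-- A non-trivial nilpotent group has a non-principal linear character. -/
theorem exists_linear (hnil : Group.IsNilpotent K) [Nontrivial K] :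
    ∃ θ : K → ℂ, IsIrrCharacter K θ ∧ θ ≠ (fun _ => 1) ∧ θ 1 = 1 := by
  classical
  have h1 := Cfsg.Agent.Lib.FrobCohMain9.commutator_sup_ne_top hnil (⊥ : Subgroup K) bot_ne_top
  rw [sup_bot_eq] at h1
  have h2 := Cfsg.Agent.Lib.FrobCohMain9.index_commutator_le_Lam (K := K)
  have h3 : (⁅(⊤ : Subgroup K), (⊤ : Subgroup K)⁆).index ≠ 1 := fun h =>
    h1 (Subgroup.index_eq_one.mp h)
  have h4 : (⁅(⊤ : Subgroup K), (⊤ : Subgroup K)⁆).index ≠ 0 := Subgroup.index_ne_zero_of_finite
  by_contra hcon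
  push Not at hcon
  have h5 : Cfsg.Agent.Lib.FrobLam9.Lam K 2 = 1 := by
    unfold Cfsg.Agent.Lib.FrobLam9.Lam
    let one' : IrrCharacter K := ⟨fun _ => 1, isIrrCharacter_one⟩
    have hd1 : charDegree (one' : K → ℂ) = 1 := by
      have h0 := one_eq_charDegree (IsIrrCharacter.isCharacter one'.2)
      have h00 : (one' : K → ℂ) 1 = 1 := rfl
      rw [h00] at h0
      exact_mod_cast h0.symm
    rw [Finset.sum_eq_single one']
    · rw [hd1]
      simp
    · intro χ _ hne
      rw [if_neg]
      intro hlt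
      have h6 := charDegree_pos χ.2
      have h7 : charDegree (χ : K → ℂ) = 1 := by omega
      have h8 := one_eq_charDegree (IsIrrCharacter.isCharacter χ.2)
      rw [h7] at h8
      exact hcon χ χ.2 (fun h => hne (Subtype.ext h)) (by simpa using h8)
    · intro h
      exact absurd (Finset.mem_univ _) h
  omega

end Linear

section Pack

variable {G : Type*} [Group G] [Fintype G] {N : Subgroup G} [Fintype N] {H : Subgroup N}
  [hHN : H.Normal]

open Classical in
/-- The average of the squared modulus over the non-identity elements of `H`, divided by `|N|`. -/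
noncomputable def sharpW (H : Subgroup N) (f : G → ℂ) : ℝ :=
  (Nat.card N : ℝ)⁻¹ * ∑ u : N, if u ∈ H ∧ u ≠ 1 then Complex.normSq (f u) else 0

/-- Everything the count needs from one family. -/
structure Pack (H : Subgroup N) (X ψ : G → ℂ) (Fa : Set (G → ℂ)) (ε : ℂ) : Prop where
  genX : IsGeneralizedCharacter G X
  suppX : ∀ g, X g ≠ 0 → g ≠ 1 ∧ orderOf g ∣ Nat.card H
  normX : classInner X X = (H.index : ℂ) + 1
  innerX1 : classInner X (fun _ => 1) = 1
  hε : ε = 1 ∨ ε = -1
  irrF : ∀ ξ ∈ Fa, IsIrrCharacter G (ε • ξ)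
  partner : ∀ ξ ∈ Fa, ∃ ξ' ∈ Fa, ξ' ≠ ξ ∧ ∀ g, ξ g - ξ' g ≠ 0 → g ≠ 1 ∧ orderOf g ∣ Nat.card H
  memψ : ψ ∈ Fa
  memψc : conjFun ψ ∈ Fa
  neψ : conjFun ψ ≠ ψ
  realX : conjFun (X + ψ) = X + ψ
  inner1 : classInner ψ (fun _ => 1) = 0
  const : ∀ η : G → ℂ, IsClassFunction G η → (∀ ξ ∈ Fa, classInner η ξ = 0) →
    ∀ u : N, u ∈ H → u ≠ 1 → η u = classInner η X
  selfW : 1 - (H.index : ℝ) / (Nat.card H : ℝ) ≤ sharpW H ψ

theorem conjFun_conjFun {X : Type*} (f : X → ℂ) : conjFun (conjFun f) = f := by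
  funext x
  simp [conjFun]

theorem conjFun_add {X : Type*} (f g : X → ℂ) : conjFun (f + g) = conjFun f + conjFun g := by
  funext x
  simp [conjFun]

theorem conjFun_sub {X : Type*} (f g : X → ℂ) : conjFun (f - g) = conjFun f - conjFun g := by
  funext x
  simp [conjFun]

theorem conjFun_smul_real {X : Type*} {ε : ℂ} (h : conj ε = ε) (f : X → ℂ) :
    conjFun (ε • f) = ε • conjFun f := by
  funext x
  simp [conjFun, h]

/-- The bound for the family's own character. -/
theorem selfW_bound (hC : ∀ h ∈ H, h ≠ 1 → Subgroup.centralizer ({h} : Set N) ≤ H)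
    {χ : N → ℂ} (hχS : χ ∈ SS H) (hχ1 : χ 1 = H.index) {ψ : G → ℂ} {c : ℤ}
    (hval : ∀ u : N, u ∈ H → u ≠ 1 → ψ u = χ u + c) {n : ℕ}
    (hh : Nat.card H = H.index * n + 1) (hn : 2 ≤ n) :
    1 - (H.index : ℝ) / (Nat.card H : ℝ) ≤ sharpW H ψ := by
  classical
  have he0 : 0 < H.index := Nat.pos_of_ne_zero Subgroup.index_ne_zero_of_finite
  have heC : (H.index : ℂ) ≠ 0 := by exact_mod_cast he0.ne'
  set v : N → ℂ := χ + ((c : ℂ) / H.index) • rho H with hv
  have hv0 : ∀ x, x ∉ H → v x = 0 := by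
    intro x hx
    simp [hv, vanish_of_mem hC hχS hx, rho_of_not_mem hx]
  have hvu : ∀ x, x ∈ H → v x = χ x + c := by
    intro x hx
    simp only [hv, Pi.add_apply, Pi.smul_apply, smul_eq_mul, rho_of_mem hx]
    field_simp
  have hin : classInner v v = 1 + (c : ℂ) ^ 2 / H.index := by
    have hcr : conj ((c : ℂ) / H.index) = (c : ℂ) / H.index := by simp
    rw [hv, classInner_add_left, classInner_add_right, classInner_add_right,
      classInner_smul_left, classInner_smul_right, classInner_smul_right, classInner_smul_left,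
      classInner_irr_self hχS.1, inner_SS_rho hC hχS, inner_rho_SS hC hχS, inner_rho_rho, hcr]
    field_simp
    ring
  have hsplit : ∑ x : N, Complex.normSq (v x) = Complex.normSq (v 1) +
      ∑ u : N, if u ∈ H ∧ u ≠ 1 then Complex.normSq (ψ u) else 0 := by
    have h1 : ∀ x : N, Complex.normSq (v x) = (if x = 1 then Complex.normSq (v 1) else 0) +
        (if x ∈ H ∧ x ≠ 1 then Complex.normSq (ψ x) else 0) := by
      intro x
      by_cases hx1 : x = 1
      · subst hx1
        simp
      · rw [if_neg hx1, zero_add]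
        by_cases hxH : x ∈ H
        · rw [if_pos ⟨hxH, hx1⟩, hval x hxH hx1, hvu x hxH]
        · rw [if_neg (fun h => hxH h.1), hv0 x hxH]
          simp
    rw [Finset.sum_congr rfl (fun x _ => h1 x), Finset.sum_add_distrib]
    simp
  have hv1 : v 1 = ((H.index : ℝ) + (c : ℝ) : ℝ) := by
    rw [hvu 1 H.one_mem, hχ1]
    push_cast
    rfl
  have hreal := classInner_self_real v
  rw [hin, hsplit, hv1, Complex.normSq_ofReal] at hreal
  have hreal' : 1 + (c : ℝ) ^ 2 / H.index = (Nat.card N : ℝ)⁻¹ * (((H.index : ℝ) + c) * ((H.index : ℝ) + c) +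
      ∑ u : N, if u ∈ H ∧ u ≠ 1 then Complex.normSq (ψ u) else 0) := by
    apply Complex.ofReal_injective
    rw [← hreal]
    push_cast
    rfl
  have hNc : (Nat.card N : ℝ) = (Nat.card H : ℝ) * H.index := by
    rw [← Subgroup.card_mul_index H]
    push_cast
    rfl
  have hh' : (Nat.card H : ℝ) = (H.index : ℝ) * n + 1 := by
    rw [hh]
    push_cast
    ring
  have he' : (0 : ℝ) < H.index := by exact_mod_cast he0
  have hn' : (2 : ℝ) ≤ n := by exact_mod_cast hn
  have hh0 : (0 : ℝ) < Nat.card H := by rw [hh']; positivity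
  have hNpos : (0 : ℝ) < Nat.card N := by rw [hNc]; positivity
  have hW : sharpW H ψ = 1 + (c : ℝ) ^ 2 / H.index -
      (((H.index : ℝ) + c) * ((H.index : ℝ) + c)) / Nat.card N := by
    unfold sharpW
    rw [hreal']
    field_simp
    ring
  rw [hW, hNc]
  have hint : (0 : ℝ) ≤ (c : ℝ) * ((n : ℝ) * c - 2) := by
    have : (0 : ℤ) ≤ c * ((n : ℤ) * c - 2) := by
      have hn'' : (2 : ℤ) ≤ n := by exact_mod_cast hn
      rcases le_or_gt c 0 with h0 | h0
      · apply mul_nonneg_of_nonpos_of_nonpos h0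
        nlinarith
      · apply mul_nonneg h0.le
        nlinarith
    exact_mod_cast this
  have key : 1 + (c : ℝ) ^ 2 / H.index -
      (((H.index : ℝ) + c) * ((H.index : ℝ) + c)) / ((Nat.card H : ℝ) * H.index) -
      (1 - (H.index : ℝ) / (Nat.card H : ℝ)) = (c : ℝ) * ((n : ℝ) * c - 2) / (Nat.card H : ℝ) := by
    rw [hh']
    field_simp
    ring
  have hnn : 0 ≤ (c : ℝ) * ((n : ℝ) * c - 2) / (Nat.card H : ℝ) := div_nonneg hint hh0.le
  linarith


/-- The package for one family. -/
theorem exists_pack (hodd : Odd (Nat.card G))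
    (hC : ∀ h ∈ H, h ≠ 1 → Subgroup.centralizer ({h} : Set N) ≤ H) (hH1 : H ≠ ⊥) (hH2 : H ≠ ⊤)
    (hf : Fus H) (hcoh : IsCoherent (SS H) {1}ᶜ (indFun N)) :
    ∃ (X ψ : G → ℂ) (Fa : Set (G → ℂ)) (ε : ℂ), Pack H X ψ Fa ε := by
  classical
  have hoddN : Odd (Nat.card N) := Odd.of_dvd_nat hodd (Subgroup.card_subgroup_dvd_card N)
  obtain ⟨-, τ, hiso, hext⟩ := hcoh
  have hnil := Cfsg.Agent.Lib.FrobCohMain9.nilpotent_kernel hC hH2
  have : Nontrivial H := (Subgroup.nontrivial_iff_ne_bot H).mpr hH1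
  obtain ⟨θ, hθ, hθ1, hθd⟩ := exists_linear hnil
  set χ : N → ℂ := indFun H θ with hχdef
  have hχS : χ ∈ SS H := ind_mem hC hθ hθ1
  have hχ1 : χ 1 = H.index := by rw [hχdef, indFun_one, hθd, mul_one]
  have hχcS : conjFun χ ∈ SS H := Cfsg.Agent.Lib.Sibley9.conj_mem_SS hχS
  have hne : conjFun χ ≠ χ := Cfsg.Agent.Lib.Sibley9.conj_ne hoddN hχS
  have h0 : ∀ α ∈ zspan (SS H), α 1 = 0 → τ α 1 = 0 := by
    intro α hα h1
    have hα' : α ∈ zspanOn (SS H) {1}ᶜ := mem_zspanOn_compl_one.mpr ⟨hα, h1⟩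
    rw [hext α hα']
    exact ind_vanish _ α hα'
  obtain ⟨ε, hε, hirr, hinj⟩ := Cfsg.Agent.S1529.result N (SS H) (fun χ h => h.1)
    ⟨χ, hχS, conjFun χ, hχcS, hne.symm⟩ τ hiso h0
  have hεr : conj ε = ε := by
    rcases hε with rfl | rfl <;> simp
  have hε0 : ε ≠ 0 := by
    rcases hε with rfl | rfl <;> norm_num
  have hsmul_inj : ∀ a b : G → ℂ, ε • a = ε • b → a = b := fun a b h => smul_right_injective _ hε0 h
  -- differences
  have hsub : ∀ μ ∈ SS H, τ μ - τ (conjFun μ) = indFun N (μ - conjFun μ) := by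
    intro μ hμ
    have hμc := Cfsg.Agent.Lib.Sibley9.conj_mem_SS hμ
    have hα : μ - conjFun μ ∈ zspanOn (SS H) {1}ᶜ := by
      refine mem_zspanOn_compl_one.mpr ⟨zspan_sub (mem_zspan hμ) (mem_zspan hμc), ?_⟩
      obtain ⟨d, -, hd⟩ := isIrr_one_pos hμ.1
      simp [conjFun, hd]
    rw [← iso_sub_zspan hiso (mem_zspan hμ) (mem_zspan hμc), hext _ hα]
  have hsuppd : ∀ μ ∈ SS H, ∀ g, (τ μ) g - (τ (conjFun μ)) g ≠ 0 →
      g ≠ 1 ∧ orderOf g ∣ Nat.card H := by
    intro μ hμ g hg
    have hμc := Cfsg.Agent.Lib.Sibley9.conj_mem_SS hμ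
    have h1 : indFun N (μ - conjFun μ) g ≠ 0 := by
      rw [← hsub μ hμ]
      exact hg
    refine ind_supp (H := H) ?_ ?_ h1
    · intro n hn
      simp [vanish_of_mem hC hμ hn, vanish_of_mem hC hμc hn]
    · obtain ⟨d, -, hd⟩ := isIrr_one_pos hμ.1
      simp [conjFun, hd]
  -- the conjugation relation
  have hconjψ : conjFun (τ χ) = τ (conjFun χ) := by
    have h1 := hsub χ hχS
    have h2 : conjFun (indFun N (χ - conjFun χ)) = -indFun N (χ - conjFun χ) := by
      rw [conjFun_indFun, conjFun_sub, conjFun_conjFun]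
      have h3 : conjFun χ - χ = (-1 : ℂ) • (χ - conjFun χ) := by
        funext g
        simp
      rw [h3, indFun_smul]
      simp
    rw [← h1, conjFun_sub] at h2
    set a := ε • τ χ with ha
    set a' := ε • τ (conjFun χ) with ha'
    have hai : IsIrrCharacter G a := hirr χ hχS
    have hai' : IsIrrCharacter G a' := hirr _ hχcS
    have haa' : a' ≠ a := by
      intro h
      exact hne (hinj _ hχcS _ hχS (hsmul_inj _ _ h))
    have hcai : IsIrrCharacter G (conjFun a) := isIrrCharacter_conjFun hai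
    have hcai' : IsIrrCharacter G (conjFun a') := isIrrCharacter_conjFun hai'
    have hca : conjFun a = ε • conjFun (τ χ) := conjFun_smul_real hεr _
    have hca' : conjFun a' = ε • conjFun (τ (conjFun χ)) := conjFun_smul_real hεr _
    have h4 : a + conjFun a = a' + conjFun a' := by
      have h5 : conjFun (τ χ) - conjFun (τ (conjFun χ)) = -(τ χ - τ (conjFun χ)) := h2
      rw [hca, hca', ha, ha']
      have h6 := congrArg (fun f => ε • f) h5
      simp only [smul_sub, smul_neg] at h6
      rw [add_comm (ε • τ (conjFun χ))]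
      rw [sub_eq_iff_eq_add] at h6
      rw [h6]
      abel
    have h5 := congrArg (fun f => classInner f a) h4
    simp only [classInner_add_left] at h5
    rw [classInner_irr_self hai, classInner_irr_ne hai' hai haa', zero_add] at h5
    have h7 : conjFun a' = a := by
      by_contra hc
      rw [classInner_irr_ne hcai' hai hc] at h5
      by_cases h8 : conjFun a = a
      · rw [h8, classInner_irr_self hai] at h5
        norm_num at h5
      · rw [classInner_irr_ne hcai hai h8] at h5
        norm_num at h5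
    have h8 : a' = conjFun a := by rw [← h7, conjFun_conjFun]
    have h9 : τ (conjFun χ) = conjFun (τ χ) := hsmul_inj _ _ (by rw [← ha', h8, hca])
    exact h9.symm
  -- the character `X`
  set β : N → ℂ := rho H - χ with hβ
  have hβ0 : ∀ n, n ∉ H → β n = 0 := by
    intro n hn
    simp [hβ, rho_of_not_mem hn, vanish_of_mem hC hχS hn]
  have hβ1 : β 1 = 0 := by
    simp [hβ, rho_of_mem (H.one_mem), hχ1]
  have hβgen : IsGeneralizedCharacter N β :=
    isGen_sub (isGen_of_isChar rho_isCharacter) (isGen_of_isIrr hχS.1)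
  have hβc : IsClassFunction N β := isGen_isClassFunction hβgen
  have hinnerX : ∀ η : G → ℂ, IsClassFunction G η →
      classInner η (indFun N β) = classInner (fun u : N => η u) β := by
    intro η hη
    rw [← classInner_conj_symm, Cfsg.Agent.Lib.CharInd.frobenius N β hη, classInner_conj_symm]
  have hinnerInd : ∀ η : G → ℂ, IsClassFunction G η → ∀ α : N → ℂ,
      classInner (fun u : N => η u) α = classInner η (indFun N α) := by
    intro η hη α
    rw [← classInner_conj_symm, ← Cfsg.Agent.Lib.CharInd.frobenius N α hη, classInner_conj_symm]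
  -- the test functions
  have htest : ∀ θ' : H → ℂ, IsIrrCharacter H θ' → θ' ≠ (fun _ => 1) → ∀ d : ℕ, θ' 1 = d →
      ((d : ℤ) • χ - indFun H θ') ∈ zspanOn (SS H) {1}ᶜ ∧
      τ ((d : ℤ) • χ - indFun H θ') = (d : ℤ) • τ χ - τ (indFun H θ') := by
    intro θ' hθ' hne' d hd
    have hμ := ind_mem hC hθ' hne'
    have h1 : (d : ℤ) • χ ∈ zspan (SS H) := zspan_zsmul (mem_zspan hχS) _
    refine ⟨mem_zspanOn_compl_one.mpr ⟨zspan_sub h1 (mem_zspan hμ), ?_⟩, ?_⟩
    · simp [hχ1, indFun_one, hd, mul_comm]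
    · rw [iso_sub_zspan hiso h1 (mem_zspan hμ), iso_zsmul hiso (mem_zspan hχS)]
  have hψgen : IsGeneralizedCharacter G (τ χ) := iso_gen hiso (mem_zspan hχS)
  have hψc : IsClassFunction G (τ χ) := isGen_isClassFunction hψgen
  refine ⟨indFun N β, τ χ, τ '' SS H, ε, ?_⟩
  refine
    { genX := ind_gen9 hβgen
      suppX := fun g hg => ind_supp hβ0 hβ1 hg
      normX := ?_
      innerX1 := ?_
      hε := hε
      irrF := ?_
      partner := ?_
      memψ := ⟨χ, hχS, rfl⟩
      memψc := ⟨conjFun χ, hχcS, hconjψ.symm⟩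
      neψ := ?_
      realX := ?_
      inner1 := ?_
      const := ?_
      selfW := ?_ }
  · rw [inner_ind_ind hf hβ0 hβ1 hβc]
    exact inner_beta_self hC hχS
  · rw [Cfsg.Agent.Lib.CharInd.frobenius N β (fun _ _ => rfl)]
    exact inner_beta_one hC hχS
  · rintro _ ⟨μ, hμ, rfl⟩
    exact hirr μ hμ
  · rintro _ ⟨μ, hμ, rfl⟩
    have hμc := Cfsg.Agent.Lib.Sibley9.conj_mem_SS hμ
    refine ⟨τ (conjFun μ), ⟨_, hμc, rfl⟩, ?_, hsuppd μ hμ⟩
    intro h
    exact Cfsg.Agent.Lib.Sibley9.conj_ne hoddN hμ (hinj _ hμc _ hμ h)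
  · rw [hconjψ]
    intro h
    exact hne (hinj _ hχcS _ hχS h)
  · have hsb := hsub χ hχS
    rw [conjFun_add, conjFun_indFun, hconjψ, hβ, conjFun_sub, conjFun_rho, indFun_sub, indFun_sub]
    rw [indFun_sub] at hsb
    rw [sub_eq_iff_eq_add] at hsb
    rw [hsb]
    abel
  · have h1 : ε • τ χ ≠ fun _ => 1 := by
      intro h
      have h2 : conjFun (ε • τ χ) = ε • τ χ := by
        rw [h]
        funext g
        simp [conjFun]
      rw [conjFun_smul_real hεr, hconjψ] at h2
      exact hne (hinj _ hχcS _ hχS (hsmul_inj _ _ h2))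
    have h2 := classInner_irr_ne (hirr χ hχS) isIrrCharacter_one h1
    rw [classInner_smul_left] at h2
    exact (mul_eq_zero.mp h2).resolve_left hε0
  · intro η hη horth u hu hu1
    rw [hinnerX η hη]
    refine const_of_orth (g := fun u : N => η u) (χ := χ) ?_ ?_ hu hu1
    · intro a b
      exact hη _ _
    · intro θ' hθ' hne' d hd
      obtain ⟨h1, h2⟩ := htest θ' hθ' hne' d hd
      rw [hinnerInd η hη, ← hext _ h1, h2, classInner_sub_right, classInner_zsmul_right,
        horth _ ⟨χ, hχS, rfl⟩, horth _ ⟨_, ind_mem hC hθ' hne', rfl⟩]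
      simp
  · -- the bound
    obtain ⟨k, hk⟩ := Cfsg.Agent.Lib.FrobCohMain9.index_sub_modEq hC (⊥ : Subgroup H)
    rw [Subgroup.index_bot] at hk
    have hoH : Odd (Nat.card H) := by
      have := Subgroup.card_subgroup_dvd_card H
      exact Odd.of_dvd_nat hoddN this
    have hoe : Odd H.index := by
      have := Subgroup.index_dvd_card H
      exact Odd.of_dvd_nat hoddN this
    have hkeven : Even k := by
      have h5 : Even (H.index * k) := by
        by_contra hc
        rw [Nat.not_even_iff_odd] at hc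
        rw [hk] at hoH
        exact (Nat.not_even_iff_odd.mpr hoH) (Odd.add_odd hc odd_one)
      rcases Nat.even_mul.mp h5 with h6 | h6
      · exact absurd h6 (Nat.not_even_iff_odd.mpr hoe)
      · exact h6
    have hk0 : k ≠ 0 := by
      rintro rfl
      rw [mul_zero, zero_add] at hk
      exact hH1 ((Subgroup.eq_bot_iff_card _).mpr hk)
    have hk2 : 2 ≤ k := by
      obtain ⟨c, hc⟩ := hkeven
      omega
    -- the constant
    obtain ⟨m, hm⟩ := classInner_gen_gen hψgen (ind_gen9 hβgen)
    have hvalc : ∀ u : N, u ∈ H → u ≠ 1 → τ χ u = χ u + ((m + 1 : ℤ) : ℂ) := by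
      intro u hu hu1
      have hcg : IsClassFunction N (fun u : N => τ χ u - χ u) := by
        intro a b
        have h1 := isGen_isClassFunction (isGen_of_isIrr hχS.1) a b
        have h2 : ((b * a * b⁻¹ : N) : G) = (b : G) * a * (b : G)⁻¹ := rfl
        show τ χ ((b * a * b⁻¹ : N) : G) - χ (b * a * b⁻¹) = τ χ a - χ a
        rw [h2, hψc, h1]
      have h1 := const_of_orth (g := fun u : N => τ χ u - χ u) (χ := χ) hcg ?_ hu hu1
      · have h2 : (fun u : N => τ χ u - χ u) = (fun u : N => τ χ u) - χ := rfl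
        rw [h2, classInner_sub_left, ← hβ, inner_chi_beta hC hχS, ← hinnerX _ hψc, hm] at h1
        rw [sub_eq_iff_eq_add] at h1
        rw [h1]
        push_cast
        ring
      · intro θ' hθ' hne' d hd
        obtain ⟨h1, h2⟩ := htest θ' hθ' hne' d hd
        have h3 : (fun u : N => τ χ u - χ u) = (fun u : N => τ χ u) - χ := rfl
        rw [h3, classInner_sub_left, hinnerInd _ hψc, ← hext _ h1,
          iso_inner hiso (mem_zspan hχS) ((mem_zspanOn_compl_one.mp h1).1), sub_self]
    exact selfW_bound hC hχS hχ1 hvalc hk hk2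

end Pack

end Cfsg.Agent.Lib.FHTFam
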