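import Mathlib
import Cfsg.Agent.Lib.FHTFam
import Cfsg.Agent.Lib.FHTArith

/-!
# The Feit-Hall-Thompson count
-/

set_option autoImplicit false
set_option linter.unusedSectionVars false
set_option linter.unusedVariables false
open Cfsg

namespace Cfsg.Agent.Lib.FHTMain

open Cfsg.Agent.Lib.CharBasic Cfsg.Agent.Lib.GenChar Cfsg.Agent.Lib.CharInd
  Cfsg.Agent.Lib.CharInduction Cfsg.Agent.Lib.CharKernel
  Cfsg.Agent.Lib.CoherenceBasic Cfsg.Agent.Lib.FrobIrr9 Cfsg.Agent.Lib.TIFrob9
  Cfsg.Agent.Lib.FHTFam Cfsg.Agent.Lib.FHTArith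
open scoped ComplexConjugate

variable {G : Type*} [Group G] [Fintype G] {ι : Type*} [Fintype ι] [DecidableEq ι]
  {N : ι → Subgroup G} [∀ i, Fintype (N i)] {H : ∀ i, Subgroup (N i)} [∀ i, (H i).Normal]

open Classical in
/-- The indicator function of the non-identity elements of `H`. -/
noncomputable def oneSharp {M : Type*} [Group M] (K : Subgroup M) : M → ℂ :=
  fun x => if x ∈ K ∧ x ≠ 1 then 1 else 0

theorem oneSharp_class {M : Type*} [Group M] (K : Subgroup M) [hK : K.Normal] :
    IsClassFunction M (oneSharp K) := by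
  intro g h
  unfold oneSharp
  have h1 : (h * g * h⁻¹ ∈ K ∧ h * g * h⁻¹ ≠ 1) ↔ (g ∈ K ∧ g ≠ 1) := by
    constructor
    · rintro ⟨h2, h3⟩
      refine ⟨?_, ?_⟩
      · have := hK.conj_mem _ h2 h⁻¹
        simpa [mul_assoc] using this
      · rintro rfl
        simp at h3
    · rintro ⟨h2, h3⟩
      refine ⟨hK.conj_mem _ h2 h, ?_⟩
      intro h4
      apply h3
      have : g = h⁻¹ * (h * g * h⁻¹) * h := by group
      rw [this, h4]
      group
  by_cases h2 : g ∈ K ∧ g ≠ 1
  · rw [if_pos (h1.mpr h2), if_pos h2]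
  · rw [if_neg (fun h3 => h2 (h1.mp h3)), if_neg h2]

/-- The partition of the non-identity elements gives a partition of the norm. -/
theorem partition (hf : ∀ i, Fus (H i))
    (hcop : ∀ i j, i ≠ j → Nat.Coprime (Nat.card (H i)) (Nat.card (H j)))
    (hcover : ∀ g : G, g ≠ 1 → ∃ i, ∃ x : G, ∃ u : N i, u ∈ H i ∧ x * g * x⁻¹ = u)
    (f : G → ℂ) (hfc : IsClassFunction G f) :
    ∑ g, Complex.normSq (f g) = Complex.normSq (f 1) +
      (Nat.card G : ℝ) * ∑ j, sharpW (H j) f := by
  classical
  set F : ι → G → ℂ := fun j => indFun (N j) (oneSharp (H j)) with hF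
  have hsupp : ∀ j g, F j g ≠ 0 → g ≠ 1 ∧ orderOf g ∣ Nat.card (H j) := by
    intro j g hg
    refine ind_supp (H := H j) ?_ ?_ hg
    · intro n hn
      simp [oneSharp, hn]
    · simp [oneSharp]
  have hF1 : ∀ j, F j 1 = 0 := by
    intro j
    by_contra hc
    exact (hsupp j 1 hc).1 rfl
  have hval : ∀ j (u : N j), u ∈ H j → u ≠ 1 → F j u = 1 := by
    intro j u hu hu1
    have := ind_val (hf j) (oneSharp (H j)) (oneSharp_class _) hu hu1
    rw [show F j u = indFun (N j) (oneSharp (H j)) u from rfl, this]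
    simp [oneSharp, hu, hu1]
  have hsum : ∀ g, g ≠ 1 → ∑ j, F j g = 1 := by
    intro g hg
    obtain ⟨i, x, u, hu, hx⟩ := hcover g hg
    have hu1 : u ≠ 1 := by
      rintro rfl
      apply hg
      have h2 : x * g * x⁻¹ = 1 := by simpa using hx
      have : g = x⁻¹ * (x * g * x⁻¹) * x := by group
      rw [this, h2]
      group
    have h1 : F i g = 1 := by
      have h2 := indFun_isClassFunction (N i) (oneSharp (H i)) g x
      rw [hx] at h2
      rw [← hval i u hu hu1]
      exact h2.symm
    rw [Finset.sum_eq_single i, h1]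
    · intro j _ hj
      by_contra hc
      have h2 := (hsupp j g hc).2
      have h3 : F i g ≠ 0 := by rw [h1]; exact one_ne_zero
      have h4 := (hsupp i g h3).2
      have h5 := Nat.Coprime.eq_one_of_dvd (Nat.Coprime.coprime_dvd_left h2 (hcop j i hj)) h4
      exact hg (orderOf_eq_one_iff.mp h5)
    · intro h
      exact absurd (Finset.mem_univ _) h
  set r : G → ℝ := fun g => Complex.normSq (f g) with hr
  have hrc : IsClassFunction G (fun g => ((r g : ℝ) : ℂ)) := by
    intro g h
    simp only [hr, hfc g h]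
  have hone : ∀ g, ((r g : ℝ) : ℂ) = (if g = 1 then ((r 1 : ℝ) : ℂ) else 0) + ∑ j, F j g * (r g : ℝ) := by
    intro g
    by_cases hg : g = 1
    · subst hg
      simp [hF1]
    · rw [if_neg hg, zero_add, ← Finset.sum_mul, hsum g hg, one_mul]
  have hj : ∀ j, ∑ g, F j g * ((r g : ℝ) : ℂ) = (Nat.card G : ℂ) * ((sharpW (H j) f : ℝ) : ℂ) := by
    intro j
    have h1 := Cfsg.Agent.Lib.CharInd.frobenius (N j) (oneSharp (H j)) hrc
    unfold classInner at h1
    have hG : (Nat.card G : ℂ) ≠ 0 := by exact_mod_cast Nat.card_pos.ne'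
    have h2 : ∑ g, F j g * ((r g : ℝ) : ℂ) = (Nat.card G : ℂ) * ((Nat.card G : ℂ)⁻¹ *
        ∑ g, F j g * conj ((r g : ℝ) : ℂ)) := by
      rw [mul_inv_cancel_left₀ hG]
      refine Finset.sum_congr rfl fun g _ => ?_
      rw [Complex.conj_ofReal]
    rw [h2]
    congr 1
    refine h1.trans ?_
    unfold sharpW
    push_cast
    congr 1
    refine Finset.sum_congr rfl fun u _ => ?_
    by_cases h3 : u ∈ H j ∧ u ≠ 1
    · simp [oneSharp, h3, hr]
    · simp [oneSharp, h3]
  apply Complex.ofReal_injective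
  push_cast
  have h5 : ∑ g, ((r g : ℝ) : ℂ) = ((r 1 : ℝ) : ℂ) + (Nat.card G : ℂ) * ∑ j, ((sharpW (H j) f : ℝ) : ℂ) := by
    rw [Finset.sum_congr rfl (fun g _ => hone g), Finset.sum_add_distrib]
    congr 1
    · simp
    · rw [Finset.sum_comm, Finset.mul_sum]
      exact Finset.sum_congr rfl fun j _ => hj j
  exact h5

section Const

variable {N₀ : Subgroup G} [Fintype N₀] {K : Subgroup N₀}

/-- The value of `sharpW` on a function constant on the non-identity elements. -/
theorem sharpW_const {f : G → ℂ} {c : ℂ} (hf : ∀ u : N₀, u ∈ K → u ≠ 1 → f u = c) :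
    sharpW K f = wt K.index (Nat.card K) * Complex.normSq c := by
  classical
  have h1 : ∀ u : N₀, (if u ∈ K ∧ u ≠ 1 then Complex.normSq (f u) else 0) =
      ((if u ∈ K then (1 : ℝ) else 0) - (if u = 1 then (1 : ℝ) else 0)) * Complex.normSq c := by
    intro u
    by_cases hu1 : u = 1
    · subst hu1
      simp [K.one_mem]
    · by_cases huK : u ∈ K
      · simp [hu1, huK, hf u huK hu1]
      · simp [hu1, huK]
  have h2 : ∑ u : N₀, (if u ∈ K then (1 : ℝ) else 0) = Nat.card K := by
    rw [Finset.sum_boole, Nat.card_eq_fintype_card, Fintype.card_subtype]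
  unfold sharpW wt
  rw [Finset.sum_congr rfl (fun u _ => h1 u), ← Finset.sum_mul, Finset.sum_sub_distrib, h2]
  have hN : (Nat.card N₀ : ℝ) = (K.index : ℝ) * (Nat.card K : ℝ) := by
    rw [← Subgroup.card_mul_index K]
    push_cast
    ring
  rw [hN]
  simp only [Finset.sum_ite_eq', Finset.mem_univ, if_true]
  by_cases h0 : (K.index : ℝ) * (Nat.card K : ℝ) = 0
  · rw [h0]
    simp
  · field_simp

theorem sharpW_nonneg (f : G → ℂ) : 0 ≤ sharpW K f := by
  unfold sharpW
  apply mul_nonneg
  · positivity
  · apply Finset.sum_nonneg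
    intro u _
    split_ifs
    · exact Complex.normSq_nonneg _
    · exact le_rfl

end Const

/-- Virtual character from an irreducible up to sign. -/
theorem gen_of_smul_irr {ε : ℂ} (hε : ε = 1 ∨ ε = -1) {ξ : G → ℂ} (h : IsIrrCharacter G (ε • ξ)) :
    IsGeneralizedCharacter G ξ := by
  rcases hε with rfl | rfl
  · simpa using isGen_of_isIrr h
  · have := isGen_neg (isGen_of_isIrr h)
    simpa using this

/-- The Feit-Hall-Thompson contradiction in abstract form. -/
theorem main [Nonempty ι] (hodd : Odd (Nat.card G))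
    (hC : ∀ i, ∀ h ∈ H i, h ≠ 1 → Subgroup.centralizer ({h} : Set (N i)) ≤ H i)
    (hH1 : ∀ i, H i ≠ ⊥) (hH2 : ∀ i, H i ≠ ⊤) (hf : ∀ i, Fus (H i))
    (hcoh : ∀ i, IsCoherent (SS (H i)) {1}ᶜ (indFun (N i)))
    (hcop : ∀ i j, i ≠ j → Nat.Coprime (Nat.card (H i)) (Nat.card (H j)))
    (hcover : ∀ g : G, g ≠ 1 → ∃ i, ∃ x : G, ∃ u : N i, u ∈ H i ∧ x * g * x⁻¹ = u) : False := by
  classical
  choose X ψ Fa ε P using fun i => exists_pack hodd (hC i) (hH1 i) (hH2 i) (hf i) (hcoh i)
  have hεr : ∀ i, conj (ε i) = ε i := fun i => by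
    rcases (P i).hε with h | h <;> rw [h] <;> simp
  have hε0 : ∀ i, ε i ≠ 0 := fun i => by
    rcases (P i).hε with h | h <;> rw [h] <;> norm_num
  have hinj : ∀ i (a b : G → ℂ), ε i • a = ε i • b → a = b :=
    fun i a b h => smul_right_injective _ (hε0 i) h
  -- disjoint supports
  have hdisj : ∀ i j, i ≠ j → ∀ g : G, g ≠ 1 → orderOf g ∣ Nat.card (H i) →
      orderOf g ∣ Nat.card (H j) → False := by
    intro i j hij g hg h1 h2
    have h5 := Nat.Coprime.eq_one_of_dvd (Nat.Coprime.coprime_dvd_left h1 (hcop i j hij)) h2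
    exact hg (orderOf_eq_one_iff.mp h5)
  -- orthogonality of the families
  have horth : ∀ i j, i ≠ j → ∀ ξ ∈ Fa i, ∀ ζ ∈ Fa j, classInner ξ ζ = 0 := by
    intro i j hij ξ hξ ζ hζ
    obtain ⟨ξ', hξ', hne, hs⟩ := (P i).partner ξ hξ
    obtain ⟨ζ', hζ', hne', hs'⟩ := (P j).partner ζ hζ
    have h1 : classInner (ε i • ξ - ε i • ξ') (ε j • ζ - ε j • ζ') = 0 := by
      apply inner_eq_zero_of_disj
      intro g
      by_cases h2 : ξ g - ξ' g = 0
      · left
        simp only [Pi.sub_apply, Pi.smul_apply, smul_eq_mul]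
        rw [← mul_sub, h2, mul_zero]
      · right
        by_cases h3 : ζ g - ζ' g = 0
        · simp only [Pi.sub_apply, Pi.smul_apply, smul_eq_mul]
          rw [← mul_sub, h3, mul_zero]
        · exfalso
          obtain ⟨h4, h5⟩ := hs g h2
          obtain ⟨-, h6⟩ := hs' g h3
          exact hdisj i j hij g h4 h5 h6
    have h2 := rect ((P i).irrF ξ hξ) ((P i).irrF ξ' hξ') ((P j).irrF ζ hζ) ((P j).irrF ζ' hζ')
      (fun h => hne (hinj i _ _ h).symm) (fun h => hne' (hinj j _ _ h).symm) h1
    rw [classInner_smul_left, classInner_smul_right] at h2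
    have h3 : conj (ε j) ≠ 0 := by rw [hεr j]; exact hε0 j
    exact (mul_eq_zero.mp ((mul_eq_zero.mp h2).resolve_left (hε0 i))).resolve_left h3
  have hψgen : ∀ i, IsGeneralizedCharacter G (ψ i) :=
    fun i => gen_of_smul_irr (P i).hε ((P i).irrF _ (P i).memψ)
  have hψc : ∀ i, IsClassFunction G (ψ i) := fun i => isGen_isClassFunction (hψgen i)
  have hψψ : ∀ i, classInner (ψ i) (ψ i) = 1 := by
    intro i
    have h1 := classInner_irr_self ((P i).irrF _ (P i).memψ)
    rw [classInner_smul_left, classInner_smul_right, hεr i, ← mul_assoc] at h1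
    have h2 : ε i * ε i = 1 := by
      rcases (P i).hε with h | h <;> rw [h] <;> norm_num
    rwa [h2, one_mul] at h1
  -- integers
  choose M hM using fun i j => classInner_gen_gen (hψgen i) (P j).genX
  have hXψ : ∀ i j, classInner (X i) (ψ j) = M j i := by
    intro i j
    rw [← classInner_conj_symm, hM j i]
    simp
  set one' : G → ℂ := fun _ => 1 with hone'
  have h1X : ∀ i, classInner one' (X i) = 1 := by
    intro i
    rw [← classInner_conj_symm, (P i).innerX1]
    simp
  have h1ψ : ∀ i, classInner one' (ψ i) = 0 := by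
    intro i
    rw [← classInner_conj_symm, (P i).inner1]
    simp
  have h11 : classInner one' one' = 1 := classInner_irr_self isIrrCharacter_one
  -- the real parts
  set Δ : ι → G → ℂ := fun i => X i + ψ i - one' with hΔ
  have hΔgen : ∀ i, IsGeneralizedCharacter G (Δ i) := fun i =>
    isGen_sub (isGen_add (P i).genX (hψgen i)) (isGen_of_isIrr isIrrCharacter_one)
  have hΔreal : ∀ i, conjFun (Δ i) = Δ i := by
    intro i
    simp only [hΔ]
    rw [conjFun_sub, (P i).realX]
    congr 1
    funext g
    simp [conjFun, hone']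
  have hΔ1 : ∀ i, classInner (Δ i) one' = 0 := by
    intro i
    simp only [hΔ]
    rw [classInner_sub_left, classInner_add_left, (P i).innerX1, (P i).inner1, h11]
    ring
  -- the first relation
  have hF1 : ∀ i j, i ≠ j → M i j ≠ 0 ∨ M j i ≠ 0 := by
    intro i j hij
    have hXX : classInner (X i) (X j) = 0 := by
      apply inner_eq_zero_of_disj
      intro g
      by_contra hc
      push Not at hc
      obtain ⟨h1, h2⟩ := (P i).suppX g hc.1
      obtain ⟨-, h3⟩ := (P j).suppX g hc.2
      exact hdisj i j hij g h1 h2 h3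
    obtain ⟨k, hk⟩ := even_inner hodd (hΔgen i) (hΔgen j) (hΔreal i) (hΔreal j) (hΔ1 i)
    have hexp : classInner (Δ i) (Δ j) = (M i j : ℂ) + M j i - 1 := by
      simp only [hΔ]
      rw [classInner_sub_left, classInner_sub_right, classInner_sub_right, classInner_add_left,
        classInner_add_right, classInner_add_left, classInner_add_right, classInner_add_right,
        hXX, hXψ, hM, horth i j hij _ (P i).memψ _ (P j).memψ, (P i).innerX1, (P i).inner1,
        h1X, h1ψ, h11]
      ring
    rw [hexp] at hk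
    have h2 : M i j + M j i - 1 = 2 * k := by
      have : ((M i j + M j i - 1 : ℤ) : ℂ) = ((2 * k : ℤ) : ℂ) := by
        push_cast
        exact hk
      exact_mod_cast this
    by_contra hc
    push Not at hc
    rw [hc.1, hc.2] at h2
    omega
  -- the column bound
  have hF2 : ∀ i, 2 * (Finset.univ.filter (fun j => j ≠ i ∧ M j i ≠ 0)).card ≤ (H i).index - 1 := by
    intro i
    set B := Finset.univ.filter (fun j => j ≠ i ∧ M j i ≠ 0) with hB
    obtain ⟨m, hm⟩ := exists_int_decomp (hΔgen i)
    have hmv : ∀ η : IrrCharacter G, classInner (Δ i) η = m η := by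
      intro η
      have := classInner_int_decomp m η η.2
      rw [← hm] at this
      simpa using this
    have hD : classInner (Δ i) (Δ i) = ((∑ η, m η ^ 2 : ℤ) : ℂ) := by
      have := classInner_int_decomp_self m
      rw [← hm] at this
      exact this
    -- the relevant irreducible characters
    let el : ι → Bool → IrrCharacter G := fun j b =>
      cond b ⟨ε j • ψ j, (P j).irrF _ (P j).memψ⟩ ⟨ε j • conjFun (ψ j), (P j).irrF _ (P j).memψc⟩
    have hel : ∀ j b, ∃ ξ ∈ Fa j, ((el j b : IrrCharacter G) : G → ℂ) = ε j • ξ := by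
      intro j b
      cases b
      · exact ⟨_, (P j).memψc, rfl⟩
      · exact ⟨_, (P j).memψ, rfl⟩
    have helinj : ∀ j b k c, el j b = el k c → j = k ∧ b = c := by
      intro j b k c h
      by_cases hjk : j = k
      · subst hjk
        refine ⟨rfl, ?_⟩
        by_contra hbc
        have h2 := congrArg Subtype.val h
        cases b <;> cases c
        · exact hbc rfl
        · exact (P j).neψ (hinj j _ _ h2)
        · exact (P j).neψ (hinj j _ _ h2).symm
        · exact hbc rfl
      · exfalso
        obtain ⟨ξ, hξ, h1⟩ := hel j b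
        obtain ⟨ζ, hζ, h2⟩ := hel k c
        have h3 : classInner (ε j • ξ) (ε k • ζ) = 0 := by
          rw [classInner_smul_left, classInner_smul_right, horth j k hjk ξ hξ ζ hζ]
          ring
        rw [← h1, ← h2, h, classInner_irr_self (el k c).2] at h3
        exact one_ne_zero h3
    -- the values of the coefficient function
    set n : ι → ℤ := fun j => if j = i then M i i + 1 else M j i with hn
    have hinner : ∀ j, classInner (Δ i) (ψ j) = n j := by
      intro j
      simp only [hΔ, hn]
      rw [classInner_sub_left, classInner_add_left, hXψ, h1ψ]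
      by_cases hj : j = i
      · subst hj
        rw [hψψ, if_pos rfl]
        push_cast
        ring
      · rw [horth i j (Ne.symm hj) _ (P i).memψ _ (P j).memψ, if_neg hj]
        ring
    have hsq : ∀ j b, m (el j b) ^ 2 = n j ^ 2 := by
      intro j b
      have h1 : (m (el j b) : ℂ) = ε j * n j := by
        rw [← hmv]
        cases b
        · show classInner (Δ i) (ε j • conjFun (ψ j)) = _
          rw [classInner_smul_right, hεr j]
          congr 1
          nth_rewrite 1 [← hΔreal i]
          rw [classInner_conjFun_conjFun, hinner j]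
          simp
        · show classInner (Δ i) (ε j • ψ j) = _
          rw [classInner_smul_right, hεr j, hinner j]
      have h2 : ε j * ε j = 1 := by
        rcases (P j).hε with h | h <;> rw [h] <;> norm_num
      have h3 : ((m (el j b) ^ 2 : ℤ) : ℂ) = ((n j ^ 2 : ℤ) : ℂ) := by
        push_cast
        rw [h1]
        calc (ε j * n j) ^ 2 = (ε j * ε j) * (n j) ^ 2 := by ring
          _ = _ := by rw [h2, one_mul]
      exact_mod_cast h3
    -- the sum
    have hsum : ∑ x ∈ (insert i B) ×ˢ (Finset.univ : Finset Bool), m (el x.1 x.2) ^ 2 ≤ ∑ η, m η ^ 2 := by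
      have h1 : ∑ x ∈ (insert i B) ×ˢ (Finset.univ : Finset Bool), m (el x.1 x.2) ^ 2 =
          ∑ η ∈ ((insert i B) ×ˢ (Finset.univ : Finset Bool)).image (fun x => el x.1 x.2), m η ^ 2 := by
        rw [Finset.sum_image]
        intro x _ y _ hxy
        obtain ⟨h2, h3⟩ := helinj _ _ _ _ hxy
        exact Prod.ext h2 h3
      rw [h1]
      exact Finset.sum_le_univ_sum_of_nonneg (fun η => sq_nonneg _)
    have hsum2 : ∑ x ∈ (insert i B) ×ˢ (Finset.univ : Finset Bool), m (el x.1 x.2) ^ 2 =
        2 * (M i i + 1) ^ 2 + ∑ j ∈ B, 2 * (M j i) ^ 2 := by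
      rw [Finset.sum_product]
      have h1 : ∀ j ∈ insert i B, ∑ b : Bool, m (el j b) ^ 2 = 2 * n j ^ 2 := by
        intro j _
        rw [Fintype.sum_bool, hsq, hsq]
        ring
      rw [Finset.sum_congr rfl h1, Finset.sum_insert (by simp [hB])]
      congr 1
      · simp [hn]
      · refine Finset.sum_congr rfl fun j hj => ?_
        have hji : j ≠ i := (Finset.mem_filter.mp hj).2.1
        simp [hn, hji]
    have hcard : (B.card : ℤ) ≤ ∑ j ∈ B, (M j i) ^ 2 := by
      have h1 : ∀ j ∈ B, (1 : ℤ) ≤ (M j i) ^ 2 := by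
        intro j hj
        have h2 : M j i ≠ 0 := (Finset.mem_filter.mp hj).2.2
        have h3 : 0 < (M j i) ^ 2 := by positivity
        omega
      have h2 := Finset.card_nsmul_le_sum B (fun j => (M j i) ^ 2) 1 h1
      simpa using h2
    have hexp : classInner (Δ i) (Δ i) = ((H i).index : ℂ) + 1 + 2 * M i i := by
      simp only [hΔ]
      rw [classInner_sub_left, classInner_sub_right, classInner_sub_right, classInner_add_left,
        classInner_add_right, classInner_add_left, classInner_add_right, classInner_add_right,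
        (P i).normX, hXψ, hM, hψψ, (P i).innerX1, (P i).inner1, h1X, h1ψ, h11]
      ring
    rw [hexp] at hD
    have hD' : ((H i).index : ℤ) + 1 + 2 * M i i = ∑ η, m η ^ 2 := by
      have : (((H i).index + 1 + 2 * M i i : ℤ) : ℂ) = ((∑ η, m η ^ 2 : ℤ) : ℂ) := by
        rw [← hD]
        push_cast
        rfl
      exact_mod_cast this
    have hsum3 : ∑ j ∈ B, 2 * (M j i) ^ 2 = 2 * ∑ j ∈ B, (M j i) ^ 2 := by
      rw [Finset.mul_sum]
    have hfin : 2 * (B.card : ℤ) ≤ ((H i).index : ℤ) - 1 := by
      have h1 : 0 ≤ M i i * (M i i + 1) := by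
        rcases le_or_gt 0 (M i i) with h | h
        · positivity
        · have h2 : M i i + 1 ≤ 0 := by omega
          exact mul_nonneg_of_nonpos_of_nonpos h.le h2
      nlinarith
    omega
  -- numerical data
  have hindex : ∀ i, ∃ k, Nat.card (H i) = (H i).index * k + 1 := by
    intro i
    obtain ⟨k, hk⟩ := Cfsg.Agent.Lib.FrobCohMain9.index_sub_modEq (hC i) (⊥ : Subgroup (H i))
    rw [Subgroup.index_bot] at hk
    exact ⟨k, hk⟩
  choose nn hnn using hindex
  have hoddN : ∀ i, Odd (Nat.card (N i)) := fun i =>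
    Odd.of_dvd_nat hodd (Subgroup.card_subgroup_dvd_card (N i))
  have hoH : ∀ i, Odd (Nat.card (H i)) := fun i =>
    Odd.of_dvd_nat (hoddN i) (Subgroup.card_subgroup_dvd_card (H i))
  have hoe : ∀ i, Odd (H i).index := fun i =>
    Odd.of_dvd_nat (hoddN i) (Subgroup.index_dvd_card (H i))
  have he3 : ∀ i, 3 ≤ (H i).index := by
    intro i
    have h1 : (H i).index ≠ 1 := fun h => hH2 i (Subgroup.index_eq_one.mp h)
    obtain ⟨a, ha⟩ := hoe i
    omega
  have hnn0 : ∀ i, 0 < nn i := by
    intro i
    rw [Nat.pos_iff_ne_zero]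
    intro h0
    have h1 := hnn i
    rw [h0, mul_zero, zero_add] at h1
    exact hH1 i ((Subgroup.eq_bot_iff_card _).mpr h1)
  have hcardG : (0 : ℝ) < Nat.card G := by exact_mod_cast Nat.card_pos
  have hF5 : ∀ i, ((H i).index : ℝ) * (Nat.card (H i) : ℝ) ≤ (Nat.card G : ℝ) := by
    intro i
    have h1 : (H i).index * Nat.card (H i) = Nat.card (N i) := by
      rw [mul_comm, Subgroup.card_mul_index]
    have h2 : Nat.card (N i) ≤ Nat.card G := Nat.le_of_dvd Nat.card_pos (Subgroup.card_subgroup_dvd_card _)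
    rw [← Nat.cast_mul, h1]
    exact_mod_cast h2
  -- the partition for the principal character
  have hF4 : ∑ j, wt (H j).index (Nat.card (H j)) = 1 - 1 / (Nat.card G : ℝ) := by
    have h1 := partition (H := H) hf hcop hcover one' (fun _ _ => rfl)
    have h2 : ∀ j, sharpW (H j) one' = wt (H j).index (Nat.card (H j)) := by
      intro j
      rw [sharpW_const (c := 1) (fun _ _ _ => rfl)]
      simp
    rw [Finset.sum_congr rfl (fun j _ => h2 j)] at h1
    simp only [hone', Complex.normSq_one, Finset.sum_const, Finset.card_univ, nsmul_eq_mul,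
      mul_one] at h1
    have hc : (Fintype.card G : ℝ) = Nat.card G := by rw [Nat.card_eq_fintype_card]
    rw [hc] at h1
    have h3 : ∑ j, wt (H j).index (Nat.card (H j)) = ((Nat.card G : ℝ) - 1) / (Nat.card G : ℝ) := by
      rw [eq_div_iff hcardG.ne']
      linarith
    rw [h3]
    field_simp
  -- the row bound
  have hF3 : ∀ i, ∑ j ∈ Finset.univ.filter (fun j => j ≠ i ∧ M i j ≠ 0),
      wt (H j).index (Nat.card (H j)) < ((H i).index : ℝ) / (Nat.card (H i) : ℝ) := by
    intro i
    have h1 := partition (H := H) hf hcop hcover (ψ i) (hψc i)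
    have h2 := classInner_self_real (ψ i)
    rw [hψψ] at h2
    have h3 : (1 : ℝ) = (Nat.card G : ℝ)⁻¹ * ∑ g, Complex.normSq (ψ i g) := by
      apply Complex.ofReal_injective
      rw [← h2]
      simp
    have hpos : 0 < Complex.normSq (ψ i 1) := by
      rw [Complex.normSq_pos]
      intro h0
      have h4 := isIrr_one_ne_zero ((P i).irrF _ (P i).memψ)
      apply h4
      simp [h0]
    have hsum : ∑ j, sharpW (H j) (ψ i) < 1 := by
      rw [h1] at h3
      have h4 : (Nat.card G : ℝ)⁻¹ * (Complex.normSq (ψ i 1) + (Nat.card G : ℝ) * ∑ j, sharpW (H j) (ψ i)) =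
          (Nat.card G : ℝ)⁻¹ * Complex.normSq (ψ i 1) + ∑ j, sharpW (H j) (ψ i) := by
        field_simp
      rw [h4] at h3
      have h5 : 0 < (Nat.card G : ℝ)⁻¹ * Complex.normSq (ψ i 1) := by positivity
      linarith
    have hself := (P i).selfW
    have hle : ∑ j ∈ Finset.univ.filter (fun j => j ≠ i ∧ M i j ≠ 0),
        wt (H j).index (Nat.card (H j)) ≤ ∑ j ∈ Finset.univ.erase i, sharpW (H j) (ψ i) := by
      have h5 : ∑ j ∈ Finset.univ.filter (fun j => j ≠ i ∧ M i j ≠ 0),
          wt (H j).index (Nat.card (H j)) ≤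
          ∑ j ∈ Finset.univ.filter (fun j => j ≠ i ∧ M i j ≠ 0), sharpW (H j) (ψ i) := by
        apply Finset.sum_le_sum
        intro j hj
        obtain ⟨hji, hMij⟩ := (Finset.mem_filter.mp hj).2
        have hconst : ∀ u : N j, u ∈ H j → u ≠ 1 → ψ i u = (M i j : ℂ) := by
          intro u hu hu1
          rw [(P j).const (ψ i) (hψc i) (fun ζ hζ => horth i j (Ne.symm hji) _ (P i).memψ ζ hζ) u hu hu1,
            hM]
        rw [sharpW_const hconst]
        have h6 : (1 : ℝ) ≤ Complex.normSq (M i j : ℂ) := by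
          rw [Complex.normSq_intCast]
          have h7 : (1 : ℤ) ≤ (M i j) * (M i j) := by
            have : 0 < (M i j) * (M i j) := mul_self_pos.mpr hMij
            omega
          exact_mod_cast h7
        have h8 := wt_nonneg (e := (H j).index) (h := Nat.card (H j)) (Nat.card_pos)
        nlinarith
      refine h5.trans ?_
      apply Finset.sum_le_sum_of_subset_of_nonneg
      · intro j hj
        exact Finset.mem_erase.mpr ⟨(Finset.mem_filter.mp hj).2.1, Finset.mem_univ _⟩
      · intro j _ _
        exact sharpW_nonneg _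
    have hsplit := Finset.add_sum_erase Finset.univ (fun j => sharpW (H j) (ψ i)) (Finset.mem_univ i)
    linarith
  exact arith (fun i => (H i).index) (fun i => Nat.card (H i)) nn (Nat.card G : ℝ) M hnn he3 hoe hoH hnn0
    hcop hF1 hF2 hF3 hF4 hF5

end Cfsg.Agent.Lib.FHTMain
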