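import Mathlib
import Cfsg.Agent.Lib.FSInd

/-!
# Invariant symmetric forms and the Frobenius-Schur indicator
-/

set_option autoImplicit false
set_option linter.unusedSectionVars false
set_option linter.unusedVariables false
set_option linter.style.haveILetI false

namespace Cfsg.Agent.Lib.FSForm

open Cfsg Cfsg.Agent.Lib.CharBasic Cfsg.Agent.Lib.FrobeniusSchur
open scoped ComplexConjugate Matrix

universe u

section MatForm

variable {Γ : Type u} [Group Γ] [Fintype Γ] {n : Type*} [Fintype n] [DecidableEq n]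
  (A : Γ →* Matrix n n ℂ)

/-- The averaging operator. -/
noncomputable def avgA : Matrix n n ℂ →ₗ[ℂ] Matrix n n ℂ :=
  (Nat.card Γ : ℂ)⁻¹ • ∑ g : Γ, sand (A g)

theorem sand_hom (a b : Γ) : sand (A a) ∘ₗ sand (A b) = sand (A (a * b)) := by
  rw [map_mul, sand_mul]

theorem sand_comp_avgA (h : Γ) : sand (A h) ∘ₗ avgA A = avgA A := by
  unfold avgA
  rw [LinearMap.comp_smul, comp_sum']
  congr 1
  refine Fintype.sum_equiv (Equiv.mulLeft h) _ _ fun g => ?_
  simp only [Equiv.coe_mulLeft, sand_hom]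

theorem avgA_comp_sand (h : Γ) : avgA A ∘ₗ sand (A h) = avgA A := by
  unfold avgA
  rw [LinearMap.smul_comp, sum_comp']
  congr 1
  refine Fintype.sum_equiv (Equiv.mulRight h) _ _ fun g => ?_
  simp only [Equiv.coe_mulRight, sand_hom]

theorem avgA_idem : IsIdempotentElem (avgA A) := by
  have hG : (Nat.card Γ : ℂ) ≠ 0 := natCard_ne_zero'
  show avgA A ∘ₗ avgA A = avgA A
  nth_rewrite 2 [avgA]
  rw [LinearMap.comp_smul, comp_sum']
  simp_rw [avgA_comp_sand]
  rw [Finset.sum_const, Finset.card_univ, Fintype.card_eq_nat_card, ← Nat.cast_smul_eq_nsmul ℂ,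
    smul_smul, inv_mul_cancel₀ hG, one_smul]

theorem swapT_comp_avgA : swapT ∘ₗ avgA A = avgA A ∘ₗ swapT := by
  unfold avgA
  rw [LinearMap.comp_smul, LinearMap.smul_comp, comp_sum', sum_comp']
  congr 1
  exact Finset.sum_congr rfl fun g _ => swapT_comm _

theorem trace_avgA : LinearMap.trace ℂ _ (avgA A) =
    (Nat.card Γ : ℂ)⁻¹ * ∑ g : Γ, (A g).trace ^ 2 := by
  unfold avgA
  rw [map_smul, map_sum, smul_eq_mul]
  congr 1
  exact Finset.sum_congr rfl fun g _ => trace_sand _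

theorem trace_swapT_avgA : LinearMap.trace ℂ _ (swapT ∘ₗ avgA A) =
    (Nat.card Γ : ℂ)⁻¹ * ∑ g : Γ, (A (g * g)).trace := by
  unfold avgA
  rw [LinearMap.comp_smul, map_smul, comp_sum', map_sum, smul_eq_mul]
  congr 1
  refine Finset.sum_congr rfl fun g _ => ?_
  rw [trace_swapT_sand, map_mul]

/-- Existence of the symmetric form. -/
theorem exists_symm_form
    (h1 : (Nat.card Γ : ℂ)⁻¹ * ∑ g : Γ, (A g).trace ^ 2 = 1)
    (h2 : (Nat.card Γ : ℂ)⁻¹ * ∑ g : Γ, (A (g * g)).trace = 1) :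
    ∃ X : Matrix n n ℂ, X ≠ 0 ∧ Xᵀ = X ∧ ∀ g, A g * X * (A g)ᵀ = X := by
  classical
  set P := avgA A with hP
  have hid : IsIdempotentElem P := avgA_idem A
  have hproj := LinearMap.IsIdempotentElem.isProj_range P hid
  have htr : LinearMap.trace ℂ _ P = 1 := by rw [hP, trace_avgA, h1]
  have hrank : Module.finrank ℂ (LinearMap.range P) = 1 := by
    rw [hproj.trace] at htr
    exact_mod_cast htr
  obtain ⟨v, hv0, hv⟩ := finrank_eq_one_iff'.mp hrank
  have hv0' : (v : Matrix n n ℂ) ≠ 0 := fun h => hv0 (Subtype.ext h)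
  have hPv : P (v : Matrix n n ℂ) = v := by
    obtain ⟨u, hu⟩ := v.2
    have := LinearMap.congr_fun hid u
    simp only [Module.End.mul_apply] at this
    rw [hu] at this
    exact this
  have hTv : swapT (v : Matrix n n ℂ) ∈ LinearMap.range P := by
    refine ⟨swapT (v : Matrix n n ℂ), ?_⟩
    have h3 := LinearMap.congr_fun (swapT_comp_avgA A) (v : Matrix n n ℂ)
    simp only [LinearMap.comp_apply] at h3
    rw [← h3, hPv]
  obtain ⟨ε, hε⟩ := hv ⟨swapT (v : Matrix n n ℂ), hTv⟩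
  have hε' : ε • (v : Matrix n n ℂ) = swapT (v : Matrix n n ℂ) := congrArg Subtype.val hε
  have hcomp : swapT ∘ₗ P = ε • P := by
    apply LinearMap.ext
    intro x
    obtain ⟨c, hc⟩ := hv ⟨P x, ⟨x, rfl⟩⟩
    have hc' : c • (v : Matrix n n ℂ) = P x := congrArg Subtype.val hc
    simp only [LinearMap.comp_apply, LinearMap.smul_apply]
    rw [← hc', map_smul, ← hε', smul_comm]
  have hε1 : ε = 1 := by
    have h3 := congrArg (LinearMap.trace ℂ _) hcomp
    rw [map_smul, htr, smul_eq_mul, mul_one, hP, trace_swapT_avgA, h2] at h3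
    exact h3.symm
  refine ⟨v, hv0', ?_, ?_⟩
  · have : swapT (v : Matrix n n ℂ) = v := by rw [← hε', hε1, one_smul]
    exact this
  · intro g
    have h3 := LinearMap.congr_fun (sand_comp_avgA A g) (v : Matrix n n ℂ)
    simp only [LinearMap.comp_apply] at h3
    rw [hPv] at h3
    exact h3

/-- A nonzero invariant symmetric form forces indicator one. -/
theorem nu_eq_one_of_form
    (h1 : (Nat.card Γ : ℂ)⁻¹ * ∑ g : Γ, (A g).trace ^ 2 = 1)
    {X : Matrix n n ℂ} (hX0 : X ≠ 0) (hXs : Xᵀ = X) (hinv : ∀ g, A g * X * (A g)ᵀ = X) :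
    (Nat.card Γ : ℂ)⁻¹ * ∑ g : Γ, (A (g * g)).trace = 1 := by
  classical
  set P := avgA A with hP
  have hG : (Nat.card Γ : ℂ) ≠ 0 := natCard_ne_zero'
  have hid : IsIdempotentElem P := avgA_idem A
  have hproj := LinearMap.IsIdempotentElem.isProj_range P hid
  have htr : LinearMap.trace ℂ _ P = 1 := by rw [hP, trace_avgA, h1]
  have hrank : Module.finrank ℂ (LinearMap.range P) = 1 := by
    rw [hproj.trace] at htr
    exact_mod_cast htr
  have hPX : P X = X := by
    rw [hP]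
    unfold avgA
    rw [LinearMap.smul_apply, LinearMap.sum_apply]
    have h3 : ∀ g : Γ, sand (A g) X = X := fun g => hinv g
    simp only [h3, Finset.sum_const, Finset.card_univ]
    rw [Fintype.card_eq_nat_card, ← Nat.cast_smul_eq_nsmul ℂ, smul_smul, inv_mul_cancel₀ hG, one_smul]
  obtain ⟨v, hv0, hv⟩ := finrank_eq_one_iff'.mp hrank
  obtain ⟨c₀, hc₀⟩ := hv ⟨X, ⟨X, hPX⟩⟩
  have hc₀' : c₀ • (v : Matrix n n ℂ) = X := congrArg Subtype.val hc₀
  have hc₀0 : c₀ ≠ 0 := by
    rintro rfl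
    rw [zero_smul] at hc₀'
    exact hX0 hc₀'.symm
  have hcomp : swapT ∘ₗ P = P := by
    apply LinearMap.ext
    intro x
    obtain ⟨c, hc⟩ := hv ⟨P x, ⟨x, rfl⟩⟩
    have hc' : c • (v : Matrix n n ℂ) = P x := congrArg Subtype.val hc
    have hv' : (v : Matrix n n ℂ) = c₀⁻¹ • X := by
      rw [← hc₀', smul_smul, inv_mul_cancel₀ hc₀0, one_smul]
    have hTX : swapT X = X := hXs
    simp only [LinearMap.comp_apply]
    rw [← hc', hv', map_smul, map_smul, hTX]
  have h3 := trace_swapT_avgA A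
  rw [← hP, hcomp, htr] at h3
  exact h3.symm

end MatForm

section Coord

variable {Γ : Type u} [Group Γ] {k : ℕ}

/-- The matrix homomorphism of a coordinate representation. -/
noncomputable def matOfRep (ρ : Representation ℂ Γ (Fin k → ℂ)) : Γ →* Matrix (Fin k) (Fin k) ℂ where
  toFun x := LinearMap.toMatrix' (ρ x)
  map_one' := by simp
  map_mul' x y := by
    rw [map_mul]
    exact LinearMap.toMatrix'_mul _ _

theorem trace_matOfRep (ρ : Representation ℂ Γ (Fin k → ℂ)) (g : Γ) :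
    (matOfRep ρ g).trace = ρ.character g := by
  symm
  exact (LinearMap.trace_eq_matrix_trace ℂ (Pi.basisFun ℂ (Fin k)) (ρ g)).trans (by
      simp [matOfRep, LinearMap.toMatrix_eq_toMatrix'])

/-- The representation attached to a matrix homomorphism. -/
noncomputable def repOfMat (A : Γ →* Matrix (Fin k) (Fin k) ℂ) : Representation ℂ Γ (Fin k → ℂ) where
  toFun x := Matrix.toLin' (A x)
  map_one' := by simp; rfl
  map_mul' x y := by
    rw [map_mul]
    exact Matrix.toLin'_mul _ _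

theorem repOfMat_apply (A : Γ →* Matrix (Fin k) (Fin k) ℂ) (g : Γ) (v : Fin k → ℂ) :
    repOfMat A g v = A g *ᵥ v := rfl

theorem character_repOfMat (A : Γ →* Matrix (Fin k) (Fin k) ℂ) (g : Γ) :
    (repOfMat A).character g = (A g).trace := by
  show LinearMap.trace ℂ _ (Matrix.toLin' (A g)) = _
  rw [LinearMap.trace_eq_matrix_trace ℂ (Pi.basisFun ℂ (Fin k))]
  simp [LinearMap.toMatrix_eq_toMatrix']

theorem matOfRep_mulVec (ρ : Representation ℂ Γ (Fin k → ℂ)) (g : Γ) (v : Fin k → ℂ) :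
    matOfRep ρ g *ᵥ v = ρ g v := by
  show LinearMap.toMatrix' (ρ g) *ᵥ v = _
  rw [← Matrix.toLin'_apply, Matrix.toLin'_toMatrix']

/-- Matrix form of Schur's lemma. -/
theorem mat_schur {ρ : Representation ℂ Γ (Fin k → ℂ)} (hρ : ρ.IsIrreducible)
    (T : Matrix (Fin k) (Fin k) ℂ) (hT : ∀ g, T * matOfRep ρ g = matOfRep ρ g * T) :
    ∃ c : ℂ, T = c • 1 := by
  obtain ⟨c, hc⟩ := schur_scalar hρ (Matrix.toLin' T) (by
    intro g
    apply LinearMap.ext
    intro v
    simp only [LinearMap.comp_apply, Matrix.toLin'_apply]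
    rw [← matOfRep_mulVec, ← matOfRep_mulVec, Matrix.mulVec_mulVec, Matrix.mulVec_mulVec, hT])
  refine ⟨c, ?_⟩
  have : Matrix.toLin' T = Matrix.toLin' (c • (1 : Matrix (Fin k) (Fin k) ℂ)) := by
    rw [hc, map_smul, Matrix.toLin'_one]
  exact Matrix.toLin'.injective this

/-- An intertwiner out of an irreducible representation which is nonzero is invertible. -/
theorem isUnit_of_intertwine {ρ : Representation ℂ Γ (Fin k → ℂ)} (hρ : ρ.IsIrreducible)
    {U : Matrix (Fin k) (Fin k) ℂ} (hU0 : U ≠ 0) (B : Γ → Matrix (Fin k) (Fin k) ℂ)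
    (hU : ∀ g, U * matOfRep ρ g = B g * U) : IsUnit U := by
  rw [isIrreducible_iff] at hρ
  have hker : LinearMap.ker (Matrix.mulVecLin U) = ⊥ := by
    rcases hρ.2 (LinearMap.ker (Matrix.mulVecLin U)) (by
      intro g v hv
      rw [LinearMap.mem_ker, Matrix.mulVecLin_apply] at hv ⊢
      rw [← matOfRep_mulVec, Matrix.mulVec_mulVec, hU, ← Matrix.mulVec_mulVec, hv, Matrix.mulVec_zero]) with h | h
    · exact h
    · exfalso
      apply hU0
      rw [LinearMap.ker_eq_top] at h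
      have : Matrix.mulVecLin U = Matrix.mulVecLin (0 : Matrix (Fin k) (Fin k) ℂ) := by
        rw [h]
        simp
      exact Matrix.mulVec_injective (by
        funext v
        exact congrArg (fun f : (Fin k → ℂ) →ₗ[ℂ] (Fin k → ℂ) => f v) this)
  have hinj : Function.Injective U.mulVec := by
    rw [← Matrix.coe_mulVecLin, ← LinearMap.ker_eq_bot]
    exact hker
  exact (Matrix.mulVec_injective_iff_isUnit).mp hinj

/-- A nonzero invariant form is invertible. -/
theorem isUnit_of_form {ρ : Representation ℂ Γ (Fin k → ℂ)} (hρ : ρ.IsIrreducible)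
    {X : Matrix (Fin k) (Fin k) ℂ} (hX0 : X ≠ 0)
    (hinv : ∀ g, matOfRep ρ g * X * (matOfRep ρ g)ᵀ = X) : IsUnit X := by
  rw [isIrreducible_iff] at hρ
  have hone : ∀ g : Γ, (matOfRep ρ g)ᵀ * (matOfRep ρ g⁻¹)ᵀ = 1 := by
    intro g
    rw [← Matrix.transpose_mul, ← map_mul]
    simp
  have hrange : LinearMap.range (Matrix.mulVecLin X) = ⊤ := by
    rcases hρ.2 (LinearMap.range (Matrix.mulVecLin X)) (by
      rintro g _ ⟨v, rfl⟩
      refine ⟨(matOfRep ρ g⁻¹)ᵀ *ᵥ v, ?_⟩
      simp only [Matrix.mulVecLin_apply]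
      rw [← matOfRep_mulVec, Matrix.mulVec_mulVec]
      conv_lhs => rw [← hinv g]
      rw [Matrix.mulVec_mulVec]
      congr 1
      rw [Matrix.mul_assoc, Matrix.mul_assoc, hone, Matrix.mul_one]) with h | h
    · exfalso
      apply hX0
      rw [LinearMap.range_eq_bot] at h
      have : Matrix.mulVecLin X = Matrix.mulVecLin (0 : Matrix (Fin k) (Fin k) ℂ) := by
        rw [h]
        simp
      exact Matrix.mulVec_injective (by
        funext v
        exact congrArg (fun f : (Fin k → ℂ) →ₗ[ℂ] (Fin k → ℂ) => f v) this)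
    · exact h
  have hsurj : Function.Surjective X.mulVec := by
    rw [← Matrix.coe_mulVecLin]
    exact LinearMap.range_eq_top.mp hrange
  exact (Matrix.mulVec_surjective_iff_isUnit).mp hsurj

end Coord

section Ext

variable {T : Type u} [Group T] [Fintype T] (N : Subgroup T) [hN : N.Normal] [Fintype N] {k : ℕ}
  {ρ : Representation ℂ N (Fin k → ℂ)}

/-- Conjugate characters are realized by an invertible intertwiner. -/
theorem exists_intertwiner (hρ : ρ.IsIrreducible)
    (hinv : ∀ (t : T) (n : N), ρ.character (MulAut.conjNormal t n) = ρ.character n) (t : T) :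
    ∃ U : Matrix (Fin k) (Fin k) ℂ, IsUnit U ∧
      ∀ n : N, U * matOfRep ρ n = matOfRep ρ (MulAut.conjNormal t n) * U := by
  classical
  set A := matOfRep ρ with hA
  let L : Matrix (Fin k) (Fin k) ℂ →ₗ[ℂ] Matrix (Fin k) (Fin k) ℂ :=
    ∑ n : N, FSInd.sand2 (A (MulAut.conjNormal t n)) (A n⁻¹)ᵀ
  have hL : ∀ Y, L Y = ∑ n : N, A (MulAut.conjNormal t n) * Y * A n⁻¹ := by
    intro Y
    simp only [L, LinearMap.sum_apply, FSInd.sand2_apply, Matrix.transpose_transpose]
  have htrace : LinearMap.trace ℂ _ L = Nat.card N := by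
    simp only [L, map_sum, FSInd.trace_sand2, Matrix.trace_transpose]
    have h1 := classInner_irr_self (isIrrCharacter_of_rep ρ hρ)
    unfold classInner at h1
    have h2 : ∀ n : N, (A (MulAut.conjNormal t n)).trace * (A n⁻¹).trace =
        ρ.character n * conj (ρ.character n) := by
      intro n
      rw [hA, trace_matOfRep, trace_matOfRep, hinv, char_conj_eq_inv ⟨k, ρ, rfl⟩]
    simp only [h2]
    have hne : (Nat.card N : ℂ) ≠ 0 := natCard_ne_zero'
    field_simp at h1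
    exact h1
  have hLne : L ≠ 0 := by
    intro h
    rw [h, map_zero] at htrace
    have hne : (Nat.card N : ℂ) ≠ 0 := natCard_ne_zero'
    exact hne htrace.symm
  obtain ⟨Y, hY⟩ : ∃ Y, L Y ≠ 0 := by
    by_contra hc
    push Not at hc
    exact hLne (LinearMap.ext hc)
  have hint : ∀ m : N, L Y * A m = A (MulAut.conjNormal t m) * L Y := by
    intro m
    rw [hL, Finset.sum_mul, Finset.mul_sum]
    refine Fintype.sum_equiv (Equiv.mulLeft m⁻¹) _ _ fun n => ?_
    simp only [Equiv.coe_mulLeft]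
    have e1 : A (MulAut.conjNormal t m) * A (MulAut.conjNormal t (m⁻¹ * n)) = A (MulAut.conjNormal t n) := by
      rw [← map_mul, ← map_mul]
      simp
    have e2 : A (m⁻¹ * n)⁻¹ = A n⁻¹ * A m := by
      rw [← map_mul]
      simp
    calc A (MulAut.conjNormal t n) * Y * A n⁻¹ * A m = A (MulAut.conjNormal t n) * Y * (A n⁻¹ * A m) := by
          simp only [Matrix.mul_assoc]
      _ = (A (MulAut.conjNormal t m) * A (MulAut.conjNormal t (m⁻¹ * n))) * Y * A (m⁻¹ * n)⁻¹ := by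
          rw [e1, e2]
      _ = _ := by simp only [Matrix.mul_assoc]
  exact ⟨L Y, isUnit_of_intertwine hρ hY _ hint, hint⟩

/-- A square root of the scalar rescales the intertwiner so that it preserves the form. -/
theorem exists_form_intertwiner (hρ : ρ.IsIrreducible)
    (hinv : ∀ (t : T) (n : N), ρ.character (MulAut.conjNormal t n) = ρ.character n)
    {X : Matrix (Fin k) (Fin k) ℂ} (hX : IsUnit X) (hX0 : X ≠ 0)
    (hform : ∀ n : N, matOfRep ρ n * X * (matOfRep ρ n)ᵀ = X) (t : T) :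
    ∃ U : (Matrix (Fin k) (Fin k) ℂ)ˣ,
      (∀ n : N, (U : Matrix (Fin k) (Fin k) ℂ) * matOfRep ρ n = matOfRep ρ (MulAut.conjNormal t n) * U) ∧
      (U : Matrix (Fin k) (Fin k) ℂ) * X * (U : Matrix (Fin k) (Fin k) ℂ)ᵀ = X := by
  classical
  set A := matOfRep ρ with hA
  obtain ⟨U₀, hU₀, hint⟩ := exists_intertwiner N hρ hinv t
  obtain ⟨x, hx⟩ := hX
  obtain ⟨u₀, hu₀⟩ := hU₀
  set W : Matrix (Fin k) (Fin k) ℂ := ((x⁻¹ : (Matrix (Fin k) (Fin k) ℂ)ˣ) : Matrix (Fin k) (Fin k) ℂ) with hW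
  have hXW : X * W = 1 := by rw [← hx, hW, Units.mul_inv]
  have hWX : W * X = 1 := by rw [← hx, hW, Units.inv_mul]
  set X₁ : Matrix (Fin k) (Fin k) ℂ := U₀ * X * U₀ᵀ with hX₁
  have hAinv : ∀ m : N, (A m)ᵀ * (A m⁻¹)ᵀ = 1 := by
    intro m
    rw [← Matrix.transpose_mul, ← map_mul]
    simp
  have hAinv' : ∀ m : N, A m * A m⁻¹ = 1 := by
    intro m
    rw [← map_mul]
    simp
  have hAinv'' : ∀ m : N, A m⁻¹ * A m = 1 := by
    intro m
    rw [← map_mul]
    simp
  have hX₁inv : ∀ m : N, A m * X₁ * (A m)ᵀ = X₁ := by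
    intro m
    let n : N := MulAut.conjNormal t⁻¹ m
    have hn : MulAut.conjNormal t n = m := by
      apply Subtype.ext
      simp only [n, MulAut.conjNormal_apply]
      group
    have h1 : A m * U₀ = U₀ * A n := by
      rw [hint n, hn]
    have h2 : U₀ᵀ * (A m)ᵀ = (A n)ᵀ * U₀ᵀ := by
      rw [← Matrix.transpose_mul, ← Matrix.transpose_mul, h1]
    calc A m * X₁ * (A m)ᵀ = (A m * U₀) * X * (U₀ᵀ * (A m)ᵀ) := by
          simp only [hX₁, Matrix.mul_assoc]
      _ = U₀ * (A n * X * (A n)ᵀ) * U₀ᵀ := by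
          rw [h1, h2]
          simp only [Matrix.mul_assoc]
      _ = X₁ := by rw [hform n]
  have hcomm1 : ∀ m : N, A m * X₁ = X₁ * (A m⁻¹)ᵀ := by
    intro m
    conv_rhs => rw [← hX₁inv m]
    rw [Matrix.mul_assoc (A m * X₁), hAinv, Matrix.mul_one]
  have hcomm2 : ∀ m : N, W * A m = (A m⁻¹)ᵀ * W := by
    intro m
    have h1 : A m * X = X * (A m⁻¹)ᵀ := by
      conv_rhs => rw [← hform m]
      rw [Matrix.mul_assoc (A m * X), hAinv, Matrix.mul_one]
    calc W * A m = W * (A m * X) * W := by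
          rw [Matrix.mul_assoc, Matrix.mul_assoc, hXW, Matrix.mul_one]
      _ = W * (X * (A m⁻¹)ᵀ) * W := by rw [h1]
      _ = (A m⁻¹)ᵀ * W := by
          rw [← Matrix.mul_assoc W, hWX, Matrix.one_mul]
  obtain ⟨c, hc⟩ := mat_schur hρ (X₁ * W) (by
    intro g
    show X₁ * W * A g = A g * (X₁ * W)
    rw [Matrix.mul_assoc, hcomm2, ← Matrix.mul_assoc, ← Matrix.mul_assoc, hcomm1])
  have hX₁c : X₁ = c • X := by
    calc X₁ = X₁ * W * X := by rw [Matrix.mul_assoc, hWX, Matrix.mul_one]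
      _ = c • X := by rw [hc, Matrix.smul_mul, Matrix.one_mul]
  have hc0 : c ≠ 0 := by
    rintro rfl
    rw [zero_smul] at hX₁c
    apply hX0
    have h1 : U₀ * X * U₀ᵀ = 0 := hX₁c
    have h2 : (↑u₀⁻¹ : Matrix (Fin k) (Fin k) ℂ) * U₀ = 1 := by rw [← hu₀, Units.inv_mul]
    have h3 : U₀ᵀ * (↑u₀⁻¹ : Matrix (Fin k) (Fin k) ℂ)ᵀ = 1 := by
      rw [← Matrix.transpose_mul, h2, Matrix.transpose_one]
    calc X = (↑u₀⁻¹ : Matrix (Fin k) (Fin k) ℂ) * U₀ * X * (U₀ᵀ * (↑u₀⁻¹ : Matrix (Fin k) (Fin k) ℂ)ᵀ) := by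
          rw [h2, h3, Matrix.one_mul, Matrix.mul_one]
      _ = (↑u₀⁻¹ : Matrix (Fin k) (Fin k) ℂ) * (U₀ * X * U₀ᵀ) * (↑u₀⁻¹ : Matrix (Fin k) (Fin k) ℂ)ᵀ := by
          simp only [Matrix.mul_assoc]
      _ = 0 := by rw [h1]; simp
  obtain ⟨r, hr⟩ := IsAlgClosed.exists_pow_nat_eq c⁻¹ (n := 2) (by norm_num)
  have hr0 : r ≠ 0 := by
    rintro rfl
    rw [zero_pow (by norm_num)] at hr
    exact inv_ne_zero hc0 hr.symm
  let U : (Matrix (Fin k) (Fin k) ℂ)ˣ :=
    { val := r • U₀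
      inv := r⁻¹ • (↑u₀⁻¹ : Matrix (Fin k) (Fin k) ℂ)
      val_inv := by
        rw [Matrix.smul_mul, Matrix.mul_smul, smul_smul, mul_inv_cancel₀ hr0, one_smul, ← hu₀,
          Units.mul_inv]
      inv_val := by
        rw [Matrix.smul_mul, Matrix.mul_smul, smul_smul, inv_mul_cancel₀ hr0, one_smul, ← hu₀,
          Units.inv_mul] }
  refine ⟨U, ?_, ?_⟩
  · intro n
    show (r • U₀) * A n = A (MulAut.conjNormal t n) * (r • U₀)
    rw [Matrix.smul_mul, Matrix.mul_smul, hint n]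
  · show (r • U₀) * X * (r • U₀)ᵀ = X
    rw [Matrix.transpose_smul, Matrix.smul_mul, Matrix.smul_mul, Matrix.mul_smul, smul_smul]
    have h1 : U₀ * X * U₀ᵀ = c • X := hX₁c
    rw [h1, smul_smul, ← sq, hr, inv_mul_cancel₀ hc0, one_smul]

end Ext

end Cfsg.Agent.Lib.FSForm
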