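import Mathlib
import Cfsg.Agent.Lib.FSForm
import Cfsg.Prelude.Def_Blocks

/-!
# Irreducible characters of Frobenius-Schur indicator `-1` have even degree
-/

set_option autoImplicit false
set_option linter.unusedSectionVars false
set_option linter.unusedVariables false
set_option linter.style.haveILetI false

namespace Cfsg.Agent.Lib.FSSkew

open Cfsg Cfsg.Agent.Lib.CharBasic Cfsg.Agent.Lib.FrobeniusSchur Cfsg.Agent.Lib.FSForm
open scoped ComplexConjugate Matrix

universe u

section MatForm

variable {Γ : Type u} [Group Γ] [Fintype Γ] {n : Type*} [Fintype n] [DecidableEq n]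
  (A : Γ →* Matrix n n ℂ)

/-- Existence of the skew form. -/
theorem exists_skew_form
    (h1 : (Nat.card Γ : ℂ)⁻¹ * ∑ g : Γ, (A g).trace ^ 2 = 1)
    (h2 : (Nat.card Γ : ℂ)⁻¹ * ∑ g : Γ, (A (g * g)).trace = -1) :
    ∃ X : Matrix n n ℂ, X ≠ 0 ∧ Xᵀ = -X ∧ ∀ g, A g * X * (A g)ᵀ = X := by
  classical
  set P := avgA A with hP
  have hid : IsIdempotentElem P := avgA_idem A
  have hproj := LinearMap.IsIdempotentElem.isProj_range P hid
  have htr : LinearMap.trace ℂ _ P = 1 := by rw [hP, trace_avgA, h1]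
  have hrank : Module.finrank ℂ (LinearMap.range P) = 1 := by
    rw [hproj.trace] at htr
    exact_mod_cast htr
  obtain ⟨v, hv0, hv⟩ := finrank_eq_one_iff'.mp hrank
  have hv0' : (v : Matrix n n ℂ) ≠ 0 := fun h => hv0 (Subtype.ext h)
  have hPv : P (v : Matrix n n ℂ) = v := by
    obtain ⟨u, hu⟩ := v.2
    have := LinearMap.congr_fun hid u
    simp only [Module.End.mul_apply] at this
    rw [hu] at this
    exact this
  have hTv : swapT (v : Matrix n n ℂ) ∈ LinearMap.range P := by
    refine ⟨swapT (v : Matrix n n ℂ), ?_⟩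
    have h3 := LinearMap.congr_fun (swapT_comp_avgA A) (v : Matrix n n ℂ)
    simp only [LinearMap.comp_apply] at h3
    rw [← h3, hPv]
  obtain ⟨ε, hε⟩ := hv ⟨swapT (v : Matrix n n ℂ), hTv⟩
  have hε' : ε • (v : Matrix n n ℂ) = swapT (v : Matrix n n ℂ) := congrArg Subtype.val hε
  have hcomp : swapT ∘ₗ P = ε • P := by
    apply LinearMap.ext
    intro x
    obtain ⟨c, hc⟩ := hv ⟨P x, ⟨x, rfl⟩⟩
    have hc' : c • (v : Matrix n n ℂ) = P x := congrArg Subtype.val hc
    simp only [LinearMap.comp_apply, LinearMap.smul_apply]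
    rw [← hc', map_smul, ← hε', smul_comm]
  have hε1 : ε = -1 := by
    have h3 := congrArg (LinearMap.trace ℂ _) hcomp
    rw [map_smul, htr, smul_eq_mul, mul_one, hP, trace_swapT_avgA, h2] at h3
    exact h3.symm
  refine ⟨v, hv0', ?_, ?_⟩
  · have : swapT (v : Matrix n n ℂ) = -v := by rw [← hε', hε1, neg_one_smul]
    exact this
  · intro g
    have h3 := LinearMap.congr_fun (sand_comp_avgA A g) (v : Matrix n n ℂ)
    simp only [LinearMap.comp_apply] at h3
    rw [hPv] at h3
    exact h3

end MatForm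

variable {Γ : Type u} [Group Γ] [Fintype Γ]

/-- An irreducible representation of indicator `-1` has even dimension. -/
theorem two_dvd_of_rep {k : ℕ} (ρ : Representation ℂ Γ (Fin k → ℂ)) (hρ : ρ.IsIrreducible)
    (h : (Nat.card Γ : ℂ)⁻¹ * ∑ s : Γ, ρ.character (s * s) = -1) : 2 ∣ k := by
  classical
  have hreal : ∀ s : Γ, (ρ.character s).im = 0 := by
    intro s
    by_contra hs
    have h1 := (frobeniusSchur ρ hρ).2.2 ⟨s, hs⟩
    rw [h] at h1
    norm_num at h1
  have h1 := average_sq_eq ρ hρ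
  rw [if_pos hreal] at h1
  obtain ⟨X, hX0, hXs, hinv⟩ := exists_skew_form (matOfRep ρ) (by simpa only [trace_matOfRep] using h1)
    (by simpa only [trace_matOfRep] using h)
  have hU := isUnit_of_form hρ hX0 hinv
  have hdet : IsUnit X.det := (Matrix.isUnit_iff_isUnit_det X).1 hU
  have h2 : X.det = (-1 : ℂ) ^ k * X.det := by
    conv_lhs => rw [← Matrix.det_transpose, hXs, Matrix.det_neg]
    simp
  have h3 : (-1 : ℂ) ^ k = 1 := by
    have := hdet.ne_zero
    field_simp at h2
    exact h2.symm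
  by_contra hk
  have h4 : Odd k := Nat.odd_iff.mpr (by omega)
  rw [h4.neg_one_pow] at h3
  norm_num at h3

/-- An irreducible character of indicator `-1` has even degree. -/
theorem two_dvd_charDegree {χ : Γ → ℂ} (hχ : IsIrrCharacter Γ χ)
    (h : (Nat.card Γ : ℂ)⁻¹ * ∑ s : Γ, χ (s * s) = -1) : 2 ∣ charDegree χ := by
  classical
  obtain ⟨k, ρ, hρ, rfl⟩ := hχ
  have h1 := two_dvd_of_rep ρ hρ h
  have h2 : charDegree ρ.character = k := by
    unfold charDegree
    have h3 : ρ.character 1 = (k : ℂ) := by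
      rw [← trace_matOfRep, map_one, Matrix.trace_one]
      simp
    rw [h3]
    simp
  rw [h2]
  exact h1

end Cfsg.Agent.Lib.FSSkew
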