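import Mathlib
import Cfsg.Prelude.Def_Transfer
import Cfsg.Prelude.Def_Solvable
import Cfsg.Agent.Lib.PCore
import Cfsg.Agent.Lib.PResid
import Cfsg.Agent.Lib.LocalTools
import Cfsg.Agent.Lib.LocalTools2
import Cfsg.Agent.Lib.LocalCore
import Cfsg.Agent.Lib.ChainStab
import Cfsg.Agent.Lib.Glauberman
import Cfsg.Agent.Lib.Subnormal

/-!
# `p`-groups acting on subnormal subgroups of `F*(H)`, `O_p(H) = 1`
-/

set_option autoImplicit false
set_option linter.unusedSectionVars false
set_option linter.style.haveILetI false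

open Cfsg
open scoped commutatorElement

namespace Cfsg.Agent.Lib.FStarAct

open Cfsg.Agent.Lib.PCore Cfsg.Agent.Lib.PResid Cfsg.Agent.Lib.LocalTools
  Cfsg.Agent.Lib.LocalTools2 Cfsg.Agent.Lib.LocalCore Cfsg.Agent.Lib.ChainStab
  Cfsg.Agent.Lib.Glauberman

variable {G : Type*} [Group G]

/-- Commutation of a conjugate. -/
theorem commutator_conj_eq_bot {C Y : Subgroup G} {y : G} (hy : y ∈ Y)
    (h : ⁅C.map (MulAut.conj y).toMonoidHom, Y⁆ = ⊥) : ⁅C, Y⁆ = ⊥ := by
  rw [commutator_eq_bot_iff_elementwise] at h ⊢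
  intro c hc v hv
  have h1 := h _ (conj_mem_conj_map (g := y) hc) (y * v * y⁻¹) (Y.mul_mem (Y.mul_mem hy hv) (Y.inv_mem hy))
  have h2 : y * (c * v) * y⁻¹ = y * (v * c) * y⁻¹ := by
    calc y * (c * v) * y⁻¹ = y * c * y⁻¹ * (y * v * y⁻¹) := by group
      _ = y * v * y⁻¹ * (y * c * y⁻¹) := h1
      _ = _ := by group
  simpa using h2

/-- `Y` normalizes `sSup S` when it permutes `S`. -/
theorem mem_normalizer_sSup [Finite G] {S : Set (Subgroup G)} {y : G}
    (h : ∀ C ∈ S, C.map (MulAut.conj y).toMonoidHom ∈ S) :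
    y ∈ Subgroup.normalizer ((sSup S : Subgroup G) : Set G) := by
  apply mem_normalizer_of_conj_le
  have hle : sSup S ≤ (sSup S).comap (MulAut.conj y).toMonoidHom := by
    apply sSup_le
    intro C hC
    rw [← Subgroup.map_le_iff_le_comap]
    exact le_sSup (h C hC)
  intro x hx
  exact hle hx

/-- The join of two subgroups normalized by `X` is normalized by `X`. -/
theorem le_normalizer_sup {X U V : Subgroup G} (hU : X ≤ Subgroup.normalizer (U : Set G))
    (hV : X ≤ Subgroup.normalizer (V : Set G)) :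
    X ≤ Subgroup.normalizer ((U ⊔ V : Subgroup G) : Set G) := by
  intro x hx
  apply mem_normalizer_of_conj_map_eq
  rw [Subgroup.map_sup, conj_map_eq_of_mem_normalizer (hU hx), conj_map_eq_of_mem_normalizer (hV hx)]

/-- A quasisimple subgroup `C` of `L`, with `⁅C, Y⁆ ≠ 1`, each of whose `Y`-conjugates is `C` or commutes
with `C`, lies in `⁅L, Y⁆`. -/
theorem le_commutator_of_qs {L Y C : Subgroup G} (hC : IsQuasisimple C) (hCL : C ≤ L)
    (hne : ⁅C, Y⁆ ≠ ⊥)
    (hdich : ∀ y ∈ Y, C.map (MulAut.conj y).toMonoidHom = C ∨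
      ⁅C, C.map (MulAut.conj y).toMonoidHom⁆ = ⊥) :
    C ≤ ⁅L, Y⁆ := by
  set W : Subgroup G := ⁅L, Y⁆ with hW
  have hLW : L ≤ Subgroup.normalizer (W : Set G) := Subgroup.normalizer_commutator_ge_left _ _
  have hperf : ⁅C, C⁆ = C := Subgroup.isPerfect_iff.mp hC.1
  by_cases hcase : ∃ y ∈ Y, C.map (MulAut.conj y).toMonoidHom ≠ C
  · obtain ⟨y, hy, hyne⟩ := hcase
    have hcomm : ⁅C, C.map (MulAut.conj y).toMonoidHom⁆ = ⊥ := (hdich y hy).resolve_left hyne
    rw [commutator_eq_bot_iff_elementwise] at hcomm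
    rw [← hperf, Subgroup.commutator_le]
    intro c hc d hd
    set c' : G := y * c⁻¹ * y⁻¹ with hc'
    have hc'm : c' ∈ C.map (MulAut.conj y).toMonoidHom := conj_mem_conj_map (C.inv_mem hc)
    have hw : ⁅c, y⁆ ∈ W := Subgroup.commutator_mem_commutator (hCL hc) hy
    have hw2 : ⁅c, y⁆ = c * c' := by
      rw [commutatorElement_def, hc']; group
    have hdc' : d * c' = c' * d := hcomm d hd c' hc'm
    have e : ⁅c, d⁆ = ⁅c, y⁆ * (d * (⁅c, y⁆)⁻¹ * d⁻¹) := by
      rw [hw2, commutatorElement_def]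
      have h1 : c * c' * (d * (c * c')⁻¹ * d⁻¹) = c * (c' * d) * c'⁻¹ * c⁻¹ * d⁻¹ := by group
      rw [h1, ← hdc']
      group
    rw [e]
    apply W.mul_mem hw
    exact (Subgroup.mem_normalizer_iff.mp (hLW (hCL hd)) _).mp (W.inv_mem hw)
  · push Not at hcase
    have hYC : Y ≤ Subgroup.normalizer (C : Set G) := fun y hy =>
      mem_normalizer_of_conj_map_eq (hcase y hy)
    have hCYC : ⁅C, Y⁆ ≤ C := commutator_le_of_le_normalizer hYC
    have hCYW : ⁅C, Y⁆ ≤ W := Subgroup.commutator_mono hCL le_rfl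
    have hCN : C ≤ Subgroup.normalizer ((W ⊓ C : Subgroup G) : Set G) := by
      intro c hc
      apply mem_normalizer_of_conj_map_eq
      rw [Subgroup.map_inf _ _ _ (MulAut.conj c).injective, conj_map_eq_of_mem_normalizer (hLW (hCL hc)),
        conj_map_eq_of_mem_normalizer (Subgroup.le_normalizer hc)]
    rcases qs_subgroup_normalized hC (inf_le_right : W ⊓ C ≤ C) hCN with h | h
    · exact h.trans inf_le_left
    · exfalso
      apply hne
      have h1 : ⁅C, ⁅C, Y⁆⁆ = ⊥ := by
        rw [← le_bot_iff, ← h]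
        exact Subgroup.commutator_mono le_rfl (le_inf hCYW hCYC)
      have h2 : ⁅⁅C, Y⁆, C⁆ = ⊥ := by rw [Subgroup.commutator_comm, h1]
      have h3 : ⁅⁅Y, C⁆, C⁆ = ⊥ := by rw [Subgroup.commutator_comm Y C, h2]
      have h4 := Subgroup.commutator_commutator_eq_bot_of_rotate h2 h3
      rwa [hperf] at h4

variable [Finite G] {p : ℕ} [Fact p.Prime]

theorem coprime_card_of_isPGroup {Y A : Subgroup G} (hY : IsPGroup p Y) (hA : (Nat.card A).Coprime p) :
    (Nat.card Y).Coprime (Nat.card A) := by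
  obtain ⟨n, hn⟩ := IsPGroup.iff_card.mp hY
  rw [hn]
  exact Nat.Coprime.pow_left n hA.symm

theorem isSolvable_of_isPGroup {Y : Subgroup G} (hY : IsPGroup p Y) : Group.IsSolvable Y := by
  have := hY.isNilpotent
  infer_instance

/-- **Main lemma.**  `A` a `p'`-subgroup, `𝒞` a family of quasisimple subgroups, pairwise commuting and
commuting with `A`, permuted by the `p`-group `Y`, which also normalizes `A`.  Then for `L = A ⊔ sSup 𝒞`,
`⁅L, Y⁆` is `⁅A, Y⁆` joined with the members of `𝒞` not centralized by `Y`, `⁅L, Y, Y⁆ = ⁅L, Y⁆` and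
`L = ⁅L, Y⁆ C_L(Y)`. -/
theorem main {A Y : Subgroup G} {𝒞 : Set (Subgroup G)} (hY : IsPGroup p Y)
    (hA : (Nat.card A).Coprime p) (hYA : Y ≤ Subgroup.normalizer (A : Set G))
    (hqs : ∀ C ∈ 𝒞, IsQuasisimple C) (hcomm : ∀ C ∈ 𝒞, ∀ D ∈ 𝒞, C ≠ D → ⁅C, D⁆ = ⊥)
    (hperm : ∀ C ∈ 𝒞, ∀ y ∈ Y, C.map (MulAut.conj y).toMonoidHom ∈ 𝒞)
    (hAC : ∀ C ∈ 𝒞, ⁅A, C⁆ = ⊥) :
    ⁅A ⊔ sSup 𝒞, Y⁆ = ⁅A, Y⁆ ⊔ sSup {C ∈ 𝒞 | ⁅C, Y⁆ ≠ ⊥} ∧
      ⁅⁅A ⊔ sSup 𝒞, Y⁆, Y⁆ = ⁅A ⊔ sSup 𝒞, Y⁆ ∧
      ⁅A ⊔ sSup 𝒞, Y⁆ ⊔ ((A ⊔ sSup 𝒞) ⊓ Subgroup.centralizer (Y : Set G)) = A ⊔ sSup 𝒞 := by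
  have hcop := coprime_card_of_isPGroup hY hA
  have hsolv := isSolvable_of_isPGroup hY
  set L : Subgroup G := A ⊔ sSup 𝒞 with hL
  set 𝒞₀ : Set (Subgroup G) := {C ∈ 𝒞 | ⁅C, Y⁆ ≠ ⊥} with h𝒞₀
  set B₀ : Subgroup G := sSup 𝒞₀ with hB₀
  set A₁ : Subgroup G := ⁅A, Y⁆ with hA₁
  set W : Subgroup G := A₁ ⊔ B₀ with hW
  have hA₁A : A₁ ≤ A := commutator_le_of_le_normalizer hYA
  have hA₁2 : ⁅A₁, Y⁆ = A₁ := commutator_commutator_eq hYA hcop (Or.inl hsolv)
  have hperm₀ : ∀ C ∈ 𝒞₀, ∀ y ∈ Y, C.map (MulAut.conj y).toMonoidHom ∈ 𝒞₀ := by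
    intro C hC y hy
    exact ⟨hperm C hC.1 y hy, fun h => hC.2 (commutator_conj_eq_bot hy h)⟩
  have hYB₀ : Y ≤ Subgroup.normalizer (B₀ : Set G) := fun y hy =>
    mem_normalizer_sSup (fun C hC => hperm₀ C hC y hy)
  have hYA₁ : Y ≤ Subgroup.normalizer (A₁ : Set G) := Subgroup.normalizer_commutator_ge_right _ _
  have hYW : Y ≤ Subgroup.normalizer (W : Set G) := le_normalizer_sup hYA₁ hYB₀
  have hB₀L : sSup 𝒞₀ ≤ sSup 𝒞 := sSup_le_sSup (fun C hC => hC.1)
  have hWL : W ≤ L := sup_le (hA₁A.trans le_sup_left) (hB₀L.trans le_sup_right)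
  -- `W ≤ ⁅W, Y⁆`
  have hWW : W ≤ ⁅W, Y⁆ := by
    apply sup_le
    · conv_lhs => rw [← hA₁2]
      exact Subgroup.commutator_mono le_sup_left le_rfl
    · apply sSup_le
      intro C hC
      apply le_commutator_of_qs (hqs C hC.1) ((le_sSup hC).trans le_sup_right) hC.2
      intro y hy
      by_cases h : C.map (MulAut.conj y).toMonoidHom = C
      · exact Or.inl h
      · exact Or.inr (hcomm C hC.1 _ (hperm C hC.1 y hy) (Ne.symm h))
  have hWYle : ⁅W, Y⁆ ≤ W := commutator_le_of_le_normalizer hYW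
  have hWY : ⁅W, Y⁆ = W := le_antisymm hWYle hWW
  -- `L` normalizes `W`
  have hAW : A ≤ Subgroup.normalizer (W : Set G) := by
    apply le_normalizer_sup (Subgroup.normalizer_commutator_ge_left _ _)
    have h1 : A ≤ Subgroup.centralizer (B₀ : Set G) := by
      rw [Subgroup.le_centralizer_iff]
      apply sSup_le
      intro C hC
      rw [← Subgroup.le_centralizer_iff]
      exact Subgroup.commutator_eq_bot_iff_le_centralizer.mp (hAC C hC.1)
    exact h1.trans (Subgroup.centralizer_le_normalizer _)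
  have hCW : ∀ C ∈ 𝒞, C ≤ Subgroup.normalizer (W : Set G) := by
    intro C hC
    apply le_normalizer_sup
    · have h1 : C ≤ Subgroup.centralizer (A₁ : Set G) := by
        rw [Subgroup.le_centralizer_iff]
        refine hA₁A.trans ?_
        rw [← Subgroup.le_centralizer_iff]
        exact Subgroup.commutator_eq_bot_iff_le_centralizer.mp
          (by rw [Subgroup.commutator_comm]; exact hAC C hC)
      exact h1.trans (Subgroup.centralizer_le_normalizer _)
    · by_cases h : C ∈ 𝒞₀
      · exact (le_sSup h).trans Subgroup.le_normalizer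
      · have h1 : C ≤ Subgroup.centralizer (B₀ : Set G) := by
          rw [Subgroup.le_centralizer_iff]
          apply sSup_le
          intro D hD
          rw [← Subgroup.le_centralizer_iff]
          apply Subgroup.commutator_eq_bot_iff_le_centralizer.mp
          apply hcomm C hC D hD.1
          rintro rfl
          exact h hD
        exact h1.trans (Subgroup.centralizer_le_normalizer _)
  have hLW : L ≤ Subgroup.normalizer (W : Set G) := sup_le hAW (sSup_le hCW)
  -- `⁅L, Y⁆ ≤ W`
  have hLYW : ⁅L, Y⁆ ≤ W := by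
    have hT : L ≤ stabSub Y W := by
      apply sup_le
      · intro a ha
        refine ⟨hAW ha, fun v hv => ?_⟩
        rw [← commutatorElement_inv]
        exact W.inv_mem (Subgroup.mem_sup_left (Subgroup.commutator_mem_commutator ha hv))
      · apply sSup_le
        intro C hC c hc
        refine ⟨hCW C hC hc, fun v hv => ?_⟩
        by_cases h : ⁅C, Y⁆ = ⊥
        · have h1 := commutator_eq_bot_iff_elementwise.mp h c hc v hv
          have h2 : ⁅v, c⁆ = 1 := by
            rw [commutatorElement_eq_one_iff_mul_comm]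
            exact h1.symm
          rw [h2]
          exact W.one_mem
        · have hC0 : C ∈ 𝒞₀ := ⟨hC, h⟩
          have hcW : c ∈ W := Subgroup.mem_sup_right ((le_sSup hC0) hc)
          have e : ⁅v, c⁆ = (v * c * v⁻¹) * c⁻¹ := by rw [commutatorElement_def]
          rw [e]
          exact W.mul_mem ((Subgroup.mem_normalizer_iff.mp (hYW hv) _).mp hcW) (W.inv_mem hcW)
    rw [Subgroup.commutator_le]
    intro x hx y hy
    rw [← commutatorElement_inv]
    exact W.inv_mem ((hT hx).2 y hy)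
  have hLYeq : ⁅L, Y⁆ = W := by
    apply le_antisymm hLYW
    exact hWW.trans (Subgroup.commutator_mono hWL le_rfl)
  refine ⟨hLYeq, ?_, ?_⟩
  · rw [hLYeq, hWY]
  · rw [hLYeq]
    apply le_antisymm
    · exact sup_le hWL inf_le_left
    · apply sup_le
      · have h1 := commutator_sup_inf_centralizer hYA hcop (Or.inl hsolv)
        rw [← h1]
        apply sup_le
        · exact (le_sup_left : A₁ ≤ W).trans le_sup_left
        · apply le_sup_of_le_right
          exact inf_le_inf_right _ le_sup_left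
      · apply sSup_le
        intro C hC
        by_cases h : ⁅C, Y⁆ = ⊥
        · apply le_sup_of_le_right
          apply le_inf
          · exact (le_sSup hC).trans le_sup_right
          · exact Subgroup.commutator_eq_bot_iff_le_centralizer.mp h
        · apply le_sup_of_le_left
          have hC0 : C ∈ 𝒞₀ := ⟨hC, h⟩
          exact (le_sSup hC0).trans le_sup_right

/-- `F(H)` is a `p'`-group when `O_p(H) = 1`. -/
theorem coprime_card_fitting (hO : pCore p G = ⊥) : (Nat.card (fittingSubgroup G)).Coprime p := by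
  have h1 := fittingSubgroup_le_sup (G := G) p
  rw [hO, bot_sup_eq] at h1
  exact Nat.Coprime.coprime_dvd_left (Subgroup.card_dvd_of_le h1) (card_pPrimeCore_coprime p)

/-- An element of the layer centralizing the layer lies in `F(G)`. -/
theorem mem_fitting_of_layer {x : G} (hx : x ∈ layer G) (hc : x ∈ Subgroup.centralizer (layer G : Set G)) :
    x ∈ fittingSubgroup G := by
  set Z : Subgroup G := layer G ⊓ Subgroup.centralizer (layer G : Set G) with hZ
  have hZn : Z.Normal := by
    have h1 : (layer G).Normal := inferInstance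
    have h2 : (Subgroup.centralizer (layer G : Set G)).Normal := inferInstance
    exact Subgroup.normal_inf_normal _ _
  have hZnil : Group.IsNilpotent Z := by
    let _ : CommGroup Z :=
      { mul_comm := fun a b => Subtype.ext (by
          have h1 := Subgroup.mem_centralizer_iff.mp b.2.2 a a.2.1
          exact h1) }
    infer_instance
  exact le_fittingSubgroup hZn hZnil ⟨hx, hc⟩

/-- A subnormal subgroup `L` of `F*(G)` is generated by `L ∩ F(G)` and the components of `G` inside it. -/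
theorem subnormal_structure {L : Subgroup G} (hL : L.IsSubnormal)
    (hLF : L ≤ generalizedFittingSubgroup G) :
    L = (L ⊓ fittingSubgroup G) ⊔ sSup {C : Subgroup G | IsComponent C ∧ C ≤ L} := by
  apply le_antisymm
  · set E₁ : Subgroup G := sSup {C : Subgroup G | IsComponent C ∧ C ≤ L} with hE₁
    set E₂ : Subgroup G := sSup {C : Subgroup G | IsComponent C ∧ ¬ C ≤ L} with hE₂
    have hE₁L : E₁ ≤ L := sSup_le (fun C hC => hC.2)
    have hlayer : layer G = E₁ ⊔ E₂ := by
      apply le_antisymm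
      · apply sSup_le
        intro C hC
        by_cases h : C ≤ L
        · exact (le_sSup (show C ∈ {C : Subgroup G | IsComponent C ∧ C ≤ L} from ⟨hC, h⟩)).trans le_sup_left
        · exact (le_sSup (show C ∈ {C : Subgroup G | IsComponent C ∧ ¬ C ≤ L} from ⟨hC, h⟩)).trans le_sup_right
      · exact sup_le (sSup_le_sSup (fun C hC => hC.1)) (sSup_le_sSup (fun C hC => hC.1))
    have hE₁₂ : E₁ ≤ Subgroup.centralizer (E₂ : Set G) := by
      rw [Subgroup.le_centralizer_iff]
      apply sSup_le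
      intro D hD
      rw [← Subgroup.le_centralizer_iff]
      apply sSup_le
      intro C hC
      apply Subgroup.commutator_eq_bot_iff_le_centralizer.mp
      apply comp_commute_of_ne hC.1 hD.1
      rintro rfl
      exact hD.2 hC.2
    have hE₂L : E₂ ≤ Subgroup.centralizer (L : Set G) := by
      apply sSup_le
      intro D hD
      apply Subgroup.commutator_eq_bot_iff_le_centralizer.mp
      exact (comp_le_or_commute hD.1 hL).resolve_left hD.2
    have hlf := layer_commute_fitting (G := G)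
    intro x hx
    obtain ⟨e, he, f, hf, rfl⟩ := mem_sup_of_commute hlf (hLF hx)
    rw [hlayer] at he
    obtain ⟨e₁, he₁, e₂, he₂, rfl⟩ := mem_sup_of_commute
      (Subgroup.commutator_eq_bot_iff_le_centralizer.mpr hE₁₂) he
    have hx' : e₂ * f ∈ L := by
      have h1 : e₂ * f = e₁⁻¹ * (e₁ * e₂ * f) := by group
      rw [h1]
      exact L.mul_mem (L.inv_mem (hE₁L he₁)) hx
    have hfc : f ∈ Subgroup.centralizer (layer G : Set G) := by
      rw [Subgroup.mem_centralizer_iff]
      intro d hd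
      exact commutator_eq_bot_iff_elementwise.mp hlf d hd f hf
    have he₂layer : e₂ ∈ layer G := by
      rw [hlayer]
      exact Subgroup.mem_sup_right he₂
    have he₂c : e₂ ∈ Subgroup.centralizer (layer G : Set G) := by
      have h1 : layer G ≤ Subgroup.centralizer ({e₂} : Set G) := by
        rw [hlayer]
        apply sup_le
        · intro d hd
          rw [Subgroup.mem_centralizer_iff]
          intro z hz
          rw [Set.mem_singleton_iff] at hz
          rw [hz]
          exact (Subgroup.mem_centralizer_iff.mp (hE₁₂ hd) e₂ he₂)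
        · intro d hd
          rw [Subgroup.mem_centralizer_iff]
          intro z hz
          rw [Set.mem_singleton_iff] at hz
          rw [hz]
          have h2 : d * (e₂ * f) = (e₂ * f) * d :=
            (Subgroup.mem_centralizer_iff.mp (hE₂L hd) _ hx').symm
          have h3 : f * d = d * f :=
            (Subgroup.mem_centralizer_iff.mp hfc d (hlayer ▸ Subgroup.mem_sup_right hd)).symm
          have h4 : (e₂ * d) * f = (d * e₂) * f := by
            calc (e₂ * d) * f = e₂ * (d * f) := by group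
              _ = e₂ * (f * d) := by rw [h3]
              _ = (e₂ * f) * d := by group
              _ = d * (e₂ * f) := h2.symm
              _ = _ := by group
          exact mul_right_cancel h4
      rw [Subgroup.mem_centralizer_iff]
      intro d hd
      exact (Subgroup.mem_centralizer_iff.mp (h1 hd) e₂ (Set.mem_singleton _)).symm
    have he₂F := mem_fitting_of_layer he₂layer he₂c
    have h5 : e₁ * e₂ * f = e₁ * (e₂ * f) := by group
    rw [h5, sup_comm]
    apply Subgroup.mul_mem
    · exact Subgroup.mem_sup_left he₁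
    · apply Subgroup.mem_sup_right
      exact ⟨hx', (fittingSubgroup G).mul_mem he₂F hf⟩
  · exact sup_le inf_le_left (sSup_le (fun C hC => hC.2))

/-- The components of `H` inside `L`, viewed in the ambient group. -/
def compsIn (H L : Subgroup G) : Set (Subgroup G) :=
  Subgroup.map H.subtype '' {C : Subgroup H | IsComponent C ∧ C ≤ L.subgroupOf H}

theorem compsIn_conditions {H L Y : Subgroup G} (hYH : Y ≤ Subgroup.normalizer (H : Set G))
    (hYL : Y ≤ Subgroup.normalizer (L : Set G)) :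
    (∀ C ∈ compsIn H L, IsQuasisimple C) ∧ (∀ C ∈ compsIn H L, ∀ D ∈ compsIn H L, C ≠ D → ⁅C, D⁆ = ⊥) ∧
    (∀ C ∈ compsIn H L, ∀ y ∈ Y, C.map (MulAut.conj y).toMonoidHom ∈ compsIn H L) ∧
    (∀ C ∈ compsIn H L, ⁅(fittingSubgroup H).map H.subtype, C⁆ = ⊥) := by
  refine ⟨?_, ?_, ?_, ?_⟩
  · rintro _ ⟨C, hC, rfl⟩
    exact qs_of_mulEquiv (C.equivMapOfInjective H.subtype H.subtype_injective) hC.1.2
  · rintro _ ⟨C, hC, rfl⟩ _ ⟨D, hD, rfl⟩ hne
    have h1 : C ≠ D := by
      rintro rfl
      exact hne rfl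
    rw [← Subgroup.map_commutator, comp_commute_of_ne hC.1 hD.1 h1, Subgroup.map_bot]
  · rintro _ ⟨C, hC, rfl⟩ y hy
    let e : MulAut H := H.normalizerMonoidHom ⟨y, hYH hy⟩
    have he : ∀ x : H, ((e x : H) : G) = y * x * y⁻¹ := fun x => rfl
    refine ⟨C.map e.toMonoidHom, ⟨comp_map_equiv e hC.1, ?_⟩, ?_⟩
    · rintro _ ⟨x, hx, rfl⟩
      have h1 : (x : G) ∈ L := hC.2 hx
      show ((e x : H) : G) ∈ L
      rw [he]
      exact (Subgroup.mem_normalizer_iff.mp (hYL hy) _).mp h1
    · ext z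
      constructor
      · rintro ⟨_, ⟨x, hx, rfl⟩, rfl⟩
        exact ⟨_, ⟨x, hx, rfl⟩, rfl⟩
      · rintro ⟨_, ⟨x, hx, rfl⟩, rfl⟩
        exact ⟨_, ⟨x, hx, rfl⟩, rfl⟩
  · rintro _ ⟨C, hC, rfl⟩
    rw [← Subgroup.map_commutator, Subgroup.commutator_comm, comp_commute_fitting hC.1, Subgroup.map_bot]

/-- `F(H)` in the ambient group, `Y` a `p`-subgroup normalizing `H`. -/
theorem le_normalizer_fitting {H Y : Subgroup G} (hYH : Y ≤ Subgroup.normalizer (H : Set G)) :
    Y ≤ Subgroup.normalizer (((fittingSubgroup H).map H.subtype : Subgroup G) : Set G) :=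
  hYH.trans (normalizer_le_normalizer_of_characteristic inferInstance)

/-- **Main theorem in the subgroup form.** -/
theorem sub_main {H L Y : Subgroup G} (hO : pCore p H = ⊥) (hY : IsPGroup p Y)
    (hYH : Y ≤ Subgroup.normalizer (H : Set G))
    (hLF : L ≤ (generalizedFittingSubgroup H).map H.subtype)
    (hLsn : (L.subgroupOf H).IsSubnormal) (hYL : Y ≤ Subgroup.normalizer (L : Set G)) :
    L = (L ⊓ (fittingSubgroup H).map H.subtype) ⊔ sSup (compsIn H L) ∧
    ⁅L, Y⁆ = ⁅L ⊓ (fittingSubgroup H).map H.subtype, Y⁆ ⊔ sSup {C ∈ compsIn H L | ⁅C, Y⁆ ≠ ⊥} ∧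
    ⁅⁅L, Y⁆, Y⁆ = ⁅L, Y⁆ ∧ ⁅L, Y⁆ ⊔ (L ⊓ Subgroup.centralizer (Y : Set G)) = L := by
  have hLH : L ≤ H := by
    refine hLF.trans ?_
    rintro _ ⟨x, -, rfl⟩
    exact x.2
  set A : Subgroup G := L ⊓ (fittingSubgroup H).map H.subtype with hA
  have hdecomp : L = A ⊔ sSup (compsIn H L) := by
    have h1 := subnormal_structure hLsn (by
      intro x hx
      obtain ⟨y, hy, hyx⟩ := hLF hx
      have : y = x := Subtype.ext hyx
      rwa [← this])
    have h2 := congrArg (Subgroup.map H.subtype) h1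
    rw [Subgroup.map_sup, Subgroup.map_subgroupOf_eq_of_le hLH,
      Subgroup.map_inf _ _ _ H.subtype_injective, Subgroup.map_subgroupOf_eq_of_le hLH] at h2
    rw [Cfsg.Agent.Lib.Subnormal.map_sSup_eq] at h2
    exact h2
  have hAcop : (Nat.card A).Coprime p := by
    apply Nat.Coprime.coprime_dvd_left _ (coprime_card_fitting hO)
    have h1 : Nat.card A ∣ Nat.card ((fittingSubgroup H).map H.subtype) :=
      Subgroup.card_dvd_of_le inf_le_right
    rwa [Subgroup.card_map_of_injective H.subtype_injective] at h1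
  have hYA : Y ≤ Subgroup.normalizer (A : Set G) := by
    intro y hy
    apply mem_normalizer_of_conj_map_eq
    rw [hA, Subgroup.map_inf _ _ _ (MulAut.conj y).injective, conj_map_eq_of_mem_normalizer (hYL hy),
      conj_map_eq_of_mem_normalizer (le_normalizer_fitting hYH hy)]
  obtain ⟨h1, h2, h3, h4⟩ := compsIn_conditions hYH hYL
  have hAC : ∀ C ∈ compsIn H L, ⁅A, C⁆ = ⊥ := by
    intro C hC
    rw [← le_bot_iff, ← h4 C hC]
    exact Subgroup.commutator_mono inf_le_right le_rfl
  obtain ⟨m1, m2, m3⟩ := main hY hAcop hYA h1 h2 h3 hAC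
  rw [← hdecomp] at m1 m2 m3
  exact ⟨hdecomp, m1, m2.symm ▸ rfl, m3⟩

/-- **Main theorem for a subnormal subgroup of `F*(G)`.** -/
theorem top_main {L Y : Subgroup G} (hO : pCore p G = ⊥) (hY : IsPGroup p Y)
    (hLF : L ≤ generalizedFittingSubgroup G) (hLsn : L.IsSubnormal)
    (hYL : Y ≤ Subgroup.normalizer (L : Set G)) :
    L = (L ⊓ fittingSubgroup G) ⊔ sSup {C : Subgroup G | IsComponent C ∧ C ≤ L} ∧
    ⁅L, Y⁆ = ⁅L ⊓ fittingSubgroup G, Y⁆ ⊔
      sSup {C ∈ {C : Subgroup G | IsComponent C ∧ C ≤ L} | ⁅C, Y⁆ ≠ ⊥} ∧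
    ⁅⁅L, Y⁆, Y⁆ = ⁅L, Y⁆ ∧ ⁅L, Y⁆ ⊔ (L ⊓ Subgroup.centralizer (Y : Set G)) = L := by
  set A : Subgroup G := L ⊓ fittingSubgroup G with hA
  have hdecomp : L = A ⊔ sSup {C : Subgroup G | IsComponent C ∧ C ≤ L} := subnormal_structure hLsn hLF
  have hAcop : (Nat.card A).Coprime p :=
    Nat.Coprime.coprime_dvd_left (Subgroup.card_dvd_of_le inf_le_right) (coprime_card_fitting hO)
  have hYA : Y ≤ Subgroup.normalizer (A : Set G) := by
    intro y hy
    apply mem_normalizer_of_conj_map_eq
    rw [hA, Subgroup.map_inf _ _ _ (MulAut.conj y).injective, conj_map_eq_of_mem_normalizer (hYL hy)]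
    congr 1
    exact conj_map_eq_of_mem_normalizer (by
      have h1 : (fittingSubgroup G).Normal := inferInstance
      rw [Subgroup.normalizer_eq_top_iff.mpr h1]
      trivial)
  have h1 : ∀ C ∈ {C : Subgroup G | IsComponent C ∧ C ≤ L}, IsQuasisimple C := fun C hC => hC.1.2
  have h2 : ∀ C ∈ {C : Subgroup G | IsComponent C ∧ C ≤ L}, ∀ D ∈ {C : Subgroup G | IsComponent C ∧ C ≤ L},
      C ≠ D → ⁅C, D⁆ = ⊥ := fun C hC D hD hne => comp_commute_of_ne hC.1 hD.1 hne
  have h3 : ∀ C ∈ {C : Subgroup G | IsComponent C ∧ C ≤ L}, ∀ y ∈ Y,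
      C.map (MulAut.conj y).toMonoidHom ∈ {C : Subgroup G | IsComponent C ∧ C ≤ L} := by
    intro C hC y hy
    refine ⟨comp_conj hC.1 y, ?_⟩
    rw [← conj_map_eq_of_mem_normalizer (hYL hy)]
    exact Subgroup.map_mono hC.2
  have hAC : ∀ C ∈ {C : Subgroup G | IsComponent C ∧ C ≤ L}, ⁅A, C⁆ = ⊥ := by
    intro C hC
    rw [← le_bot_iff, ← comp_commute_fitting hC.1, Subgroup.commutator_comm C]
    exact Subgroup.commutator_mono inf_le_right le_rfl
  obtain ⟨m1, m2, m3⟩ := main hY hAcop hYA h1 h2 h3 hAC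
  rw [← hdecomp] at m1 m2 m3
  exact ⟨hdecomp, m1, m2, m3⟩

/-- `N` a normal `p'`-subgroup, `Y` a `p`-subgroup contained in the subnormal subgroup `K`: `⁅N, Y⁆ ≤ K`. -/
theorem commutator_le_of_subnormal {N Y K : Subgroup G} (hN : N.Normal)
    (hc : (Nat.card N).Coprime p) (hY : IsPGroup p Y) (hK : K.IsSubnormal) (hYK : Y ≤ K) :
    ⁅N, Y⁆ ≤ K := by
  have hYN : Y ≤ Subgroup.normalizer (N : Set G) := by
    rw [Subgroup.normalizer_eq_top_iff.mpr hN]
    exact le_top
  have h2 : ⁅⁅N, Y⁆, Y⁆ = ⁅N, Y⁆ :=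
    commutator_commutator_eq hYN (coprime_card_of_isPGroup hY hc) (Or.inl (isSolvable_of_isPGroup hY))
  induction hK with
  | top => exact le_top
  | step K₀ K₁ hle _ hn ih =>
    have h3 := ih (hYK.trans hle)
    rw [← h2]
    have h4 : K₁ ≤ Subgroup.normalizer (K₀ : Set G) :=
      (Subgroup.normal_subgroupOf_iff_le_normalizer hle).mp hn
    have h5 : ⁅K₁, K₀⁆ ≤ K₀ := by
      rw [Subgroup.commutator_le]
      intro a ha b hb
      rw [commutatorElement_def]
      exact K₀.mul_mem ((Subgroup.mem_normalizer_iff.mp (h4 ha) _).mp hb) (K₀.inv_mem hb)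
    exact (Subgroup.commutator_mono h3 hYK).trans h5

/-- The centre of `F*(G)` lies in `F(G)`. -/
theorem inf_centralizer_le_fitting :
    generalizedFittingSubgroup G ⊓ Subgroup.centralizer (generalizedFittingSubgroup G : Set G) ≤
      fittingSubgroup G := by
  intro x hx
  set Z : Subgroup G := generalizedFittingSubgroup G ⊓
    Subgroup.centralizer (generalizedFittingSubgroup G : Set G) with hZ
  have hZn : Z.Normal := by
    have h1 : (generalizedFittingSubgroup G).Normal := inferInstance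
    have h2 : (Subgroup.centralizer (generalizedFittingSubgroup G : Set G)).Normal := inferInstance
    exact Subgroup.normal_inf_normal _ _
  have hZnil : Group.IsNilpotent Z := by
    let _ : CommGroup Z :=
      { mul_comm := fun a b => Subtype.ext (by
          have h1 := Subgroup.mem_centralizer_iff.mp b.2.2 a a.2.1
          exact h1) }
    infer_instance
  exact le_fittingSubgroup hZn hZnil hx

/-- Components in a subnormal subgroup `K` containing `Y`: the comparison of `⁅F*(G), Y⁆` and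
`⁅F*(K), Y⁆`. -/
theorem commutator_fstar_eq {K Y : Subgroup G} (hO : pCore p G = ⊥) (hY : IsPGroup p Y)
    (hK : K.IsSubnormal) (hYK : Y ≤ K) :
    ⁅generalizedFittingSubgroup G, Y⁆ =
      ⁅(generalizedFittingSubgroup K).map K.subtype, Y⁆ ∧
    ⁅⁅(generalizedFittingSubgroup K).map K.subtype, Y⁆, Y⁆ =
      ⁅(generalizedFittingSubgroup K).map K.subtype, Y⁆ := by
  have hOK : pCore p K = ⊥ := by
    have h1 := map_pCore_eq_of_isSubnormal (p := p) hK
    rw [hO, inf_bot_eq] at h1
    exact (Subgroup.map_eq_bot_iff_of_injective _ K.subtype_injective).mp h1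
  set FK : Subgroup G := (generalizedFittingSubgroup K).map K.subtype with hFK
  have hFKK : FK ≤ K := Subgroup.map_subtype_le _
  have hKFK : K ≤ Subgroup.normalizer (FK : Set G) := by
    have h1 := Subgroup.le_normalizer_map (H := generalizedFittingSubgroup K) K.subtype
    have hn : (generalizedFittingSubgroup K).Normal := inferInstance
    rwa [Subgroup.normalizer_eq_top_iff.mpr hn, ← MonoidHom.range_eq_map,
      Subgroup.range_subtype] at h1
  have hYFK : Y ≤ Subgroup.normalizer (FK : Set G) := hYK.trans hKFK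
  have hFKsub : FK.subgroupOf K = generalizedFittingSubgroup K :=
    Subgroup.comap_map_eq_self_of_injective K.subtype_injective _
  obtain ⟨-, k1, k2, -⟩ := sub_main hOK hY (hYK.trans Subgroup.le_normalizer) le_rfl
    (by
      have h1 : (FK.subgroupOf K).Normal := by
        rw [hFKsub]
        infer_instance
      exact h1.isSubnormal)
    hYFK
  refine ⟨?_, k2⟩
  have hFn : (generalizedFittingSubgroup G).Normal := inferInstance
  obtain ⟨-, t1, -, -⟩ := top_main (L := generalizedFittingSubgroup G) hO hY le_rfl hFn.isSubnormal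
    (by rw [Subgroup.normalizer_eq_top_iff.mpr hFn]; exact le_top)
  have hA1 : generalizedFittingSubgroup G ⊓ fittingSubgroup G = fittingSubgroup G :=
    inf_eq_right.mpr fitting_le_generalizedFitting
  have hfK : (fittingSubgroup K).map K.subtype ≤ FK :=
    Subgroup.map_mono fitting_le_generalizedFitting
  have hA2 : FK ⊓ (fittingSubgroup K).map K.subtype = (fittingSubgroup K).map K.subtype :=
    inf_eq_right.mpr hfK
  rw [hA1] at t1
  rw [hA2] at k1
  have hS : {C ∈ {C : Subgroup G | IsComponent C ∧ C ≤ generalizedFittingSubgroup G} | ⁅C, Y⁆ ≠ ⊥} =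
      {C ∈ compsIn K FK | ⁅C, Y⁆ ≠ ⊥} := by
    ext C
    constructor
    · rintro ⟨⟨hC, -⟩, hne⟩
      refine ⟨?_, hne⟩
      have hCK : C ≤ K := by
        rcases comp_le_or_commute hC hK with h | h
        · exact h
        · exfalso
          apply hne
          rw [← le_bot_iff, ← h]
          exact Subgroup.commutator_mono le_rfl hYK
      refine ⟨C.subgroupOf K, ⟨comp_subgroupOf hC hCK, ?_⟩, Subgroup.map_subgroupOf_eq_of_le hCK⟩
      rw [hFKsub]
      exact comp_le_generalizedFitting (comp_subgroupOf hC hCK)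
    · rintro ⟨⟨C', hC', rfl⟩, hne⟩
      have h1 := comp_map_subtype hK hC'.1
      exact ⟨⟨h1, comp_le_generalizedFitting h1⟩, hne⟩
  have hFFK : ⁅fittingSubgroup G, Y⁆ = ⁅(fittingSubgroup K).map K.subtype, Y⁆ := by
    apply le_antisymm
    · have hc := coprime_card_fitting hO
      have hn : (fittingSubgroup G).Normal := inferInstance
      have hYF : Y ≤ Subgroup.normalizer (fittingSubgroup G : Set G) := by
        rw [Subgroup.normalizer_eq_top_iff.mpr hn]
        exact le_top
      have h1 : ⁅fittingSubgroup G, Y⁆ ≤ K := commutator_le_of_subnormal hn hc hY hK hYK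
      have h2 : ⁅fittingSubgroup G, Y⁆ ≤ fittingSubgroup G := commutator_le_of_le_normalizer hYF
      have h3 : ⁅⁅fittingSubgroup G, Y⁆, Y⁆ = ⁅fittingSubgroup G, Y⁆ :=
        commutator_commutator_eq hYF (coprime_card_of_isPGroup hY hc)
          (Or.inl (isSolvable_of_isPGroup hY))
      have h4 : fittingSubgroup G ⊓ K ≤ (fittingSubgroup K).map K.subtype := by
        have hA : Group.IsNilpotent ↥(fittingSubgroup G ⊓ K) := by
          have : Group.IsNilpotent (fittingSubgroup G) := isNilpotent_fittingSubgroup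
          exact (Group.isNilpotent_congr (Subgroup.subgroupOfEquivOfLe inf_le_left)).mp inferInstance
        have hB : Group.IsNilpotent ↥((fittingSubgroup G ⊓ K).subgroupOf K) :=
          (Group.isNilpotent_congr (Subgroup.subgroupOfEquivOfLe inf_le_right).symm).mp hA
        rw [Subgroup.inf_subgroupOf_right] at hB
        have hC : (fittingSubgroup G).subgroupOf K ≤ fittingSubgroup K :=
          le_fittingSubgroup (hn.subgroupOf K) hB
        intro x hx
        exact ⟨⟨x, hx.2⟩, hC hx.1, rfl⟩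
      rw [← h3]
      exact Subgroup.commutator_mono ((le_inf h2 h1).trans h4) le_rfl
    · apply Subgroup.commutator_mono _ le_rfl
      have hn : (fittingSubgroup K).Normal := inferInstance
      apply subnormal_nilpotent_le_fitting (hn.isSubnormal.trans' hK)
      have : Group.IsNilpotent (fittingSubgroup K) := isNilpotent_fittingSubgroup
      exact (Group.isNilpotent_congr
        (Subgroup.equivMapOfInjective _ K.subtype K.subtype_injective)).mp this
  rw [t1, k1, hS, hFFK]

/-- The meet of two subgroups normalized by `X` is normalized by `X`. -/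
theorem le_normalizer_inf {X U V : Subgroup G} (hU : X ≤ Subgroup.normalizer (U : Set G))
    (hV : X ≤ Subgroup.normalizer (V : Set G)) :
    X ≤ Subgroup.normalizer ((U ⊓ V : Subgroup G) : Set G) := by
  intro x hx
  apply mem_normalizer_of_conj_map_eq
  rw [Subgroup.map_inf _ _ _ (MulAut.conj x).injective, conj_map_eq_of_mem_normalizer (hU hx),
    conj_map_eq_of_mem_normalizer (hV hx)]

/-- `Z(L) ∩ L' ≤ Φ(L)`. -/
theorem le_frattini_of_central {L Z : Subgroup G} (hZ1 : Z ≤ L)
    (hZ2 : Z ≤ Subgroup.centralizer (L : Set G)) (hZ3 : Z ≤ ⁅L, L⁆) :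
    Z ≤ (frattini L).map L.subtype := by
  intro z hz
  refine ⟨⟨z, hZ1 hz⟩, ?_, rfl⟩
  show (⟨z, hZ1 hz⟩ : L) ∈ Order.radical (Subgroup L)
  unfold Order.radical
  rw [Subgroup.mem_iInf]
  intro M
  rw [Subgroup.mem_iInf]
  intro hM
  by_contra hzM
  set z' : L := ⟨z, hZ1 hz⟩ with hz'
  have hzc : z' ∈ Subgroup.center L := by
    rw [Subgroup.mem_center_iff]
    intro y
    apply Subtype.ext
    exact (Subgroup.mem_centralizer_iff.mp (hZ2 hz) y y.2)
  have h1 : M ⊔ Subgroup.center L = ⊤ := by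
    apply hM.2
    refine lt_of_le_of_ne le_sup_left ?_
    intro h
    apply hzM
    rw [h]
    exact Subgroup.mem_sup_right hzc
  have h2 : commutator L ≤ M := by
    unfold commutator
    rw [Subgroup.commutator_le]
    intro x _ y _
    have hx : x ∈ ((M ⊔ Subgroup.center L : Subgroup L) : Set L) := by rw [h1]; trivial
    have hy : y ∈ ((M ⊔ Subgroup.center L : Subgroup L) : Set L) := by rw [h1]; trivial
    rw [Subgroup.mul_normal, Set.mem_mul] at hx hy
    obtain ⟨a, ha, c, hc, rfl⟩ := hx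
    obtain ⟨b, hb, d, hd, rfl⟩ := hy
    have hc' : ∀ w : L, w * c = c * w := fun w => (Subgroup.mem_center_iff.mp hc w)
    have hd' : ∀ w : L, w * d = d * w := fun w => (Subgroup.mem_center_iff.mp hd w)
    have e : ⁅a * c, b * d⁆ = ⁅a, b⁆ := by
      rw [commutatorElement_def, commutatorElement_def]
      calc a * c * (b * d) * (a * c)⁻¹ * (b * d)⁻¹
          = a * (c * b) * d * c⁻¹ * a⁻¹ * d⁻¹ * b⁻¹ := by group
        _ = a * (b * c) * d * c⁻¹ * a⁻¹ * d⁻¹ * b⁻¹ := by rw [← hc' b]
        _ = a * b * (c * d * c⁻¹) * a⁻¹ * d⁻¹ * b⁻¹ := by group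
        _ = a * b * d * a⁻¹ * d⁻¹ * b⁻¹ := by
          rw [show c * d * c⁻¹ = d from by rw [← hc' d]; group]
        _ = a * b * (d * a⁻¹) * d⁻¹ * b⁻¹ := by group
        _ = a * b * (a⁻¹ * d) * d⁻¹ * b⁻¹ := by rw [← hd' a⁻¹]
        _ = a * b * a⁻¹ * b⁻¹ := by group
    rw [e]
    exact M.mul_mem (M.mul_mem (M.mul_mem ha hb) (M.inv_mem ha)) (M.inv_mem hb)
  have h3 : z ∈ (commutator L).map L.subtype := by
    rw [Subgroup.map_subtype_commutator]
    exact hZ3 hz
  obtain ⟨w, hw, hwz⟩ := h3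
  have : w = z' := Subtype.ext hwz
  rw [this] at hw
  exact hzM (h2 hw)

/-- Coprime averaging on the abelianization, relative form. -/
theorem inf_centralizer_le_commutator' (H K : Subgroup G)
    (hKH : K ≤ Subgroup.normalizer (H : Set G))
    (hcop : (Nat.card K).Coprime (Nat.card (Abelianization H))) (hH : H ≤ ⁅H, K⁆) :
    H ⊓ Subgroup.centralizer (K : Set G) ≤ ⁅H, H⁆ := by
  classical
  let _ : Fintype K := Fintype.ofFinite K
  let c : K →* MulAut H := H.normalizerMonoidHom.comp (Subgroup.inclusion hKH)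
  have hcm : ∀ (k : K) (h : H), ((c k h : H) : G) = k * h * (k : G)⁻¹ := fun k h => rfl
  let ψ : K → (Abelianization H →* Abelianization H) := fun k =>
    Abelianization.map (c k).toMonoidHom
  have hψ : ∀ (k : K) (h : H), ψ k (Abelianization.of h) = Abelianization.of (c k h) := by
    intro k h
    exact Abelianization.map_of _ _
  let ν : Abelianization H →* Abelianization H := ∏ k : K, ψ k
  have hν : ∀ h : H, ν (Abelianization.of h) = ∏ k : K, Abelianization.of (c k h) := by
    intro h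
    simp only [ν, MonoidHom.finsetProd_apply, hψ]
  have hνc : ∀ (k₀ : K) (h : H), ν (Abelianization.of (c k₀ h)) = ν (Abelianization.of h) := by
    intro k₀ h
    rw [hν, hν]
    refine Fintype.prod_equiv (Equiv.mulRight k₀) _ _ ?_
    intro k
    simp only [Equiv.coe_mulRight, map_mul, MulAut.mul_apply]
  let S : Subgroup G := (ν.comp Abelianization.of).ker.map H.subtype
  have hS : ⁅H, K⁆ ≤ S := by
    rw [Subgroup.commutator_le]
    intro h hh k hk
    refine ⟨⟨h, hh⟩ * (c ⟨k, hk⟩ ⟨h, hh⟩)⁻¹, ?_, ?_⟩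
    · show ⟨h, hh⟩ * ((c ⟨k, hk⟩) ⟨h, hh⟩)⁻¹ ∈ (ν.comp Abelianization.of).ker
      rw [MonoidHom.mem_ker, MonoidHom.comp_apply, map_mul, map_mul, map_inv, map_inv, hνc]
      simp
    · simp only [Subgroup.subtype_apply, Subgroup.coe_mul, Subgroup.coe_inv, hcm,
        commutatorElement_def]
      group
  intro x hx
  obtain ⟨hxH, hxc⟩ := Subgroup.mem_inf.mp hx
  rw [Subgroup.mem_centralizer_iff] at hxc
  obtain ⟨y, hy, hyx⟩ := hS (hH hxH)
  have hyxe : y = ⟨x, hxH⟩ := Subtype.ext (by simpa using hyx)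
  subst hyxe
  have hy' : (⟨x, hxH⟩ : H) ∈ (ν.comp Abelianization.of).ker := hy
  rw [MonoidHom.mem_ker, MonoidHom.comp_apply, hν] at hy'
  have hfix : ∀ k : K, c k ⟨x, hxH⟩ = ⟨x, hxH⟩ := by
    intro k
    apply Subtype.ext
    have h1 : (k : G) * x = x * k := hxc k k.2
    rw [hcm, h1]; simp
  simp only [hfix, Finset.prod_const, Finset.card_univ, ← Nat.card_eq_fintype_card] at hy'
  have h2 : (Abelianization.of (⟨x, hxH⟩ : H)) ^ Nat.card (Abelianization H) = 1 :=
    pow_card_eq_one'
  have h3 : Abelianization.of (⟨x, hxH⟩ : H) = 1 := by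
    have h4 := (pow_gcd_eq_one (a := Abelianization.of (⟨x, hxH⟩ : H))).mpr ⟨hy', h2⟩
    rw [hcop.gcd_eq_one, pow_one] at h4
    exact h4
  have h5 : (⟨x, hxH⟩ : H) ∈ commutator H := by
    rw [← Abelianization.ker_of]
    exact h3
  rw [← Subgroup.map_subtype_commutator]
  exact ⟨_, h5, rfl⟩

/-- If `L ≤ A ⊔ L'` for `A ≤ L`, `|L : L'|` divides `|A|`. -/
theorem card_abelianization_dvd {L A : Subgroup G} (hAL : A ≤ L) (hL : L ≤ A ⊔ ⁅L, L⁆) :
    Nat.card (Abelianization L) ∣ Nat.card A := by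
  have htop : A.subgroupOf L ⊔ commutator L = ⊤ := by
    apply Subgroup.map_injective L.subtype_injective
    rw [Subgroup.map_sup, Subgroup.map_subgroupOf_eq_of_le hAL, Subgroup.map_subtype_commutator,
      ← MonoidHom.range_eq_map, Subgroup.range_subtype]
    apply le_antisymm _ hL
    exact sup_le hAL (commutator_le_of_le_normalizer Subgroup.le_normalizer)
  let f : A.subgroupOf L →* Abelianization L := Abelianization.of.comp (A.subgroupOf L).subtype
  have hf : Function.Surjective f := by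
    intro y
    obtain ⟨x, rfl⟩ := QuotientGroup.mk_surjective y
    have hx : x ∈ ((A.subgroupOf L ⊔ commutator L : Subgroup L) : Set L) := by rw [htop]; trivial
    rw [Subgroup.mul_normal, Set.mem_mul] at hx
    obtain ⟨a, ha, c, hc, rfl⟩ := hx
    refine ⟨⟨a, ha⟩, ?_⟩
    show Abelianization.of a = Abelianization.of (a * c)
    rw [map_mul]
    have h1 : Abelianization.of c = 1 := by
      have : c ∈ (Abelianization.of (G := L)).ker := by rw [Abelianization.ker_of]; exact hc
      exact this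
    rw [h1, mul_one]
  have h1 := Subgroup.card_dvd_of_surjective f hf
  rwa [Nat.card_congr (Subgroup.subgroupOfEquivOfLe hAL).toEquiv] at h1

end Cfsg.Agent.Lib.FStarAct
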