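import Mathlib
import Cfsg.Agent.Lib.SelfCent
import Cfsg.Agent.Lib.PCore

/-!
# Self-centralizing elements of prime order: class counts, commutator subgroup.
-/

set_option autoImplicit false
set_option linter.style.haveILetI false

namespace Cfsg.Agent.Lib.SelfCent2

open Subgroup Cfsg.Agent.Lib.SelfCent
open scoped commutatorElement

universe u

variable {G : Type u} [Group G] [Finite G] {p : ℕ} {x : G}

/-- A surjection with fibres the cosets of `H`. -/
theorem card_eq_index {N Y : Type*} [Group N] (H : Subgroup N) (ψ : N → Y)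
    (hs : Function.Surjective ψ) (he : ∀ a b, ψ a = ψ b ↔ a⁻¹ * b ∈ H) : Nat.card Y = H.index := by
  have hq : ∀ a b : N, (QuotientGroup.leftRel H) a b → ψ a = ψ b := by
    intro a b hab
    rw [QuotientGroup.leftRel_apply] at hab
    exact (he a b).mpr hab
  let q : N ⧸ H → Y := Quotient.lift ψ (fun a b hab => hq a b hab)
  have hq2 : Function.Bijective q := by
    constructor
    · intro a b
      induction a using QuotientGroup.induction_on with | H a => ?_
      induction b using QuotientGroup.induction_on with | H b => ?_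
      intro hab
      apply QuotientGroup.eq.mpr
      exact (he a b).mp hab
    · intro y
      obtain ⟨a, rfl⟩ := hs y
      exact ⟨(a : N ⧸ H), rfl⟩
  rw [Subgroup.index]
  exact (Nat.card_congr (Equiv.ofBijective q hq2)).symm

/-- Commutators modulo a normal subgroup: if `H ⊔ S = ⊤`, `S ≤ T` and commutators of `H` lie in `T`,
then `G' ≤ T`. -/
theorem commutator_le_of_sup {H S T : Subgroup G} [hS : S.Normal] (hsup : H ⊔ S = ⊤) (hST : S ≤ T)
    (hc : ∀ a ∈ H, ∀ b ∈ H, a * b * a⁻¹ * b⁻¹ ∈ T) : commutator G ≤ T := by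
  have hall : ∀ g : G, ∃ n ∈ H, ∃ s ∈ S, g = n * s := by
    intro g
    have : g ∈ ((H ⊔ S : Subgroup G) : Set G) := by rw [hsup]; trivial
    rw [Subgroup.mul_normal] at this
    obtain ⟨n, hn, s, hs, e⟩ := Set.mem_mul.mp this
    exact ⟨n, hn, s, hs, e.symm⟩
  rw [_root_.commutator_def, Subgroup.commutator_le]
  intro g _ g' _
  obtain ⟨n, hn, s, hs, rfl⟩ := hall g
  obtain ⟨n', hn', s', hs', rfl⟩ := hall g'
  have h1 := hc n hn n' hn'
  have hmk : (QuotientGroup.mk (⁅n * s, n' * s'⁆ * (n * n' * n⁻¹ * n'⁻¹)⁻¹) : G ⧸ S) = 1 := by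
    have e1 : (QuotientGroup.mk s : G ⧸ S) = 1 := (QuotientGroup.eq_one_iff s).mpr hs
    have e2 : (QuotientGroup.mk s' : G ⧸ S) = 1 := (QuotientGroup.eq_one_iff s').mpr hs'
    simp only [commutatorElement_def, QuotientGroup.mk_mul, QuotientGroup.mk_inv, e1, e2, mul_one,
      inv_one]
    exact mul_inv_cancel _
  have h2 := (QuotientGroup.eq_one_iff _).mp hmk
  have h3 := T.mul_mem (hST h2) h1
  rwa [inv_mul_cancel_right] at h3

/-- The order of a join `H ⊔ S` with `S` normal and `H ⊓ S = ⊥`. -/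
theorem card_sup_eq (H S : Subgroup G) [S.Normal] (hd : H ⊓ S = ⊥) :
    Nat.card (H ⊔ S : Subgroup G) = Nat.card H * Nat.card S := by
  have h1 : S.relIndex (H ⊔ S) = S.relIndex H := Subgroup.relIndex_sup_right H S
  have h2 : S.relIndex (H ⊔ S) * Nat.card S = Nat.card (H ⊔ S : Subgroup G) := by
    have h3 : (S.subgroupOf (H ⊔ S)).index * Nat.card (S.subgroupOf (H ⊔ S)) =
        Nat.card (H ⊔ S : Subgroup G) := Subgroup.index_mul_card _
    have h4 : Nat.card (S.subgroupOf (H ⊔ S)) = Nat.card S :=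
      Nat.card_congr (Subgroup.subgroupOfEquivOfLe le_sup_right).toEquiv
    rw [h4] at h3
    exact h3
  have h5 : S.relIndex H = Nat.card H := by
    have h6 : S.subgroupOf H = ⊥ := by
      rw [Subgroup.subgroupOf_eq_bot, disjoint_iff, inf_comm]
      exact hd
    rw [Subgroup.relIndex, h6, Subgroup.index_bot]
  rw [← h2, h1, h5]


namespace Hyp'

open Cfsg.Agent.Lib.SelfCent.Hyp

/-- `N = N_G(⟨x⟩)`. -/
local notation "NN" x => normalizer (zpowers x : Set G)

/-- The number of conjugacy classes of elements of order `p`. -/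
noncomputable def tCount (G : Type u) [Group G] (p : ℕ) : ℕ :=
  Nat.card {C : ConjClasses G // ∃ g ∈ C.carrier, orderOf g = p}

/-- The index `e = |N_G(⟨x⟩) : ⟨x⟩|`. -/
noncomputable def eIdx (x : G) : ℕ :=
  ((zpowers x).subgroupOf (normalizer (zpowers x : Set G))).index

theorem zpowers_le_normalizer (x : G) : zpowers x ≤ normalizer (zpowers x : Set G) :=
  Subgroup.le_normalizer

theorem mem_normalizer_of_conj_eq (h : Hyp p x) {g a y : G} (hg : g ∈ zpowers x) (hg1 : g ≠ 1)
    (ha : a ∈ zpowers x) (ha1 : a ≠ 1) (e : y * g * y⁻¹ = a) : y ∈ normalizer (zpowers x : Set G) := by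
  rw [mem_normalizer_iff]
  have hzg := h.zpowers_eq_of_mem hg hg1
  have hza := h.zpowers_eq_of_mem ha ha1
  intro t
  constructor
  · intro ht
    have ht' : t ∈ zpowers g := by rw [hzg]; exact ht
    obtain ⟨k, rfl⟩ := mem_zpowers_iff.mp ht'
    have : y * g ^ k * y⁻¹ = a ^ k := by rw [← e, conj_zpow]
    change y * g ^ k * y⁻¹ ∈ zpowers x
    rw [this]
    exact (zpowers x).zpow_mem ha k
  · intro ht
    have ht' : y * t * y⁻¹ ∈ zpowers a := by rw [hza]; exact ht
    obtain ⟨k, hk⟩ := mem_zpowers_iff.mp ht'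
    have h1 : y * g ^ k * y⁻¹ = a ^ k := by rw [← e, conj_zpow]
    have h2 : y * t * y⁻¹ = y * g ^ k * y⁻¹ := by rw [← hk, h1]
    have h3 : t = g ^ k := by
      have := congrArg (fun w => y⁻¹ * w * y) h2
      simpa [mul_assoc] using this
    rw [h3]
    exact (zpowers x).zpow_mem hg k

/-- The class count formula `t * e = p - 1`. -/
theorem tCount_mul_eIdx (h : Hyp p x) : tCount G p * eIdx x = p - 1 := by
  classical
  -- `A` = the non-identity elements of `⟨x⟩`.
  let A : Set G := (zpowers x : Set G) \ {1}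
  have hA : Nat.card A = p - 1 := by
    rw [Nat.card_coe_set_eq, Set.ncard_diff_singleton_of_mem (by simp)]
    rw [← Nat.card_coe_set_eq]
    congr 1
    exact h.card_zpowers
  have hAne : ∀ a : A, (a : G) ∈ zpowers x ∧ (a : G) ≠ 1 := fun a => ⟨a.2.1, a.2.2⟩
  have hord : ∀ a : A, orderOf (a : G) = p := by
    intro a
    rw [← Nat.card_zpowers, h.zpowers_eq_of_mem (hAne a).1 (hAne a).2, h.card_zpowers]
  let Φ : A → {C : ConjClasses G // ∃ g ∈ C.carrier, orderOf g = p} := fun a =>
    ⟨ConjClasses.mk (a : G), (a : G), ConjClasses.mem_carrier_mk, hord a⟩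
  have hΦs : Function.Surjective Φ := by
    rintro ⟨C, g, hg, hgo⟩
    obtain ⟨y, hy⟩ := h.exists_conj_mem hgo
    have hne : y * g * y⁻¹ ≠ 1 := by
      intro e
      have h1 : g = 1 := by
        have := congrArg (fun t => y⁻¹ * t * y) e
        simpa [mul_assoc] using this
      rw [h1, orderOf_one] at hgo
      exact h.hp.one_lt.ne hgo
    refine ⟨⟨y * g * y⁻¹, hy, hne⟩, ?_⟩
    apply Subtype.ext
    change ConjClasses.mk (y * g * y⁻¹) = C
    rw [← ConjClasses.mem_carrier_iff_mk_eq.mp hg]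
    rw [ConjClasses.mk_eq_mk_iff_isConj]
    exact (isConj_iff.mpr ⟨y, rfl⟩).symm
  -- each fibre has size `e`
  have hfib : ∀ C : {C : ConjClasses G // ∃ g ∈ C.carrier, orderOf g = p},
      Nat.card {a : A // Φ a = C} = eIdx x := by
    intro C
    obtain ⟨g₀, hg₀⟩ := hΦs C
    have hg₀m := (hAne g₀).1
    have hg₀1 := (hAne g₀).2
    have hY : Hyp p (g₀ : G) := h.of_mem hg₀m hg₀1
    let ψ : (normalizer (zpowers x : Set G)) → {a : A // Φ a = C} := fun n =>
      ⟨⟨(n : G) * g₀ * (n : G)⁻¹, (mem_normalizer_iff.mp n.2 g₀).mp hg₀m, by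
        intro e
        apply hg₀1
        have := congrArg (fun t => (n : G)⁻¹ * t * n) e
        simpa [mul_assoc] using this⟩, by
        rw [← hg₀]
        apply Subtype.ext
        change ConjClasses.mk ((n : G) * g₀ * (n : G)⁻¹) = ConjClasses.mk (g₀ : G)
        rw [ConjClasses.mk_eq_mk_iff_isConj]
        exact (isConj_iff.mpr ⟨(n : G), rfl⟩).symm⟩
    apply card_eq_index _ ψ
    · rintro ⟨a, ha⟩
      have hc : ConjClasses.mk (g₀ : G) = ConjClasses.mk (a : G) := by
        have := hg₀.trans ha.symm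
        exact congrArg Subtype.val this
      rw [ConjClasses.mk_eq_mk_iff_isConj] at hc
      obtain ⟨y, hy⟩ := isConj_iff.mp hc
      have hyN := mem_normalizer_of_conj_eq h hg₀m hg₀1 (hAne a).1 (hAne a).2 hy
      refine ⟨⟨y, hyN⟩, ?_⟩
      apply Subtype.ext
      apply Subtype.ext
      exact hy
    · intro n n'
      rw [Subgroup.mem_subgroupOf]
      constructor
      · intro hn
        have e : (n : G) * g₀ * (n : G)⁻¹ = (n' : G) * g₀ * (n' : G)⁻¹ :=
          congrArg (fun z : {a : A // Φ a = C} => ((z.1 : A) : G)) hn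
        have hmem : (n : G)⁻¹ * n' ∈ zpowers (g₀ : G) := by
          apply hY.mem_zpowers_of_commute
          calc (n : G)⁻¹ * n' * g₀ = (n : G)⁻¹ * ((n' : G) * g₀ * (n' : G)⁻¹) * n' := by group
            _ = (n : G)⁻¹ * ((n : G) * g₀ * (n : G)⁻¹) * n' := by rw [e]
            _ = g₀ * ((n : G)⁻¹ * n') := by group
        exact (h.zpowers_eq_of_mem hg₀m hg₀1).le hmem
      · intro hn
        have hn0 : (n : G)⁻¹ * n' ∈ zpowers (g₀ : G) := by
          rw [h.zpowers_eq_of_mem hg₀m hg₀1]
          exact hn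
        have hn' : ((n : G)⁻¹ * n') * g₀ = g₀ * ((n : G)⁻¹ * n') := commute_of_mem hn0
        apply Subtype.ext
        apply Subtype.ext
        change (n : G) * g₀ * (n : G)⁻¹ = (n' : G) * g₀ * (n' : G)⁻¹
        have hn2 : (n : G)⁻¹ * n' * g₀ = g₀ * ((n : G)⁻¹ * n') := hn'
        calc (n : G) * g₀ * (n : G)⁻¹ = (n : G) * (g₀ * ((n : G)⁻¹ * n')) * (n' : G)⁻¹ := by group
          _ = (n : G) * ((n : G)⁻¹ * n' * g₀) * (n' : G)⁻¹ := by rw [hn2]
          _ = (n' : G) * g₀ * (n' : G)⁻¹ := by group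
  -- sum over the fibres
  haveI := Fintype.ofFinite {C : ConjClasses G // ∃ g ∈ C.carrier, orderOf g = p}
  have hsum : Nat.card A = ∑ C : {C : ConjClasses G // ∃ g ∈ C.carrier, orderOf g = p},
      Nat.card {a : A // Φ a = C} := by
    rw [← Nat.card_sigma]
    exact (Nat.card_congr (Equiv.sigmaFiberEquiv Φ)).symm
  rw [← hA, hsum, Finset.sum_congr rfl (fun C _ => hfib C), Finset.sum_const, smul_eq_mul]
  simp [tCount]

theorem eIdx_eq_one_iff (h : Hyp p x) : eIdx x = 1 ↔ tCount G p = p - 1 := by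
  have h1 := tCount_mul_eIdx h
  have hp := h.hp.two_le
  constructor
  · intro he
    rw [he, mul_one] at h1
    exact h1
  · intro ht
    rw [ht] at h1
    have hpos : 0 < p - 1 := by omega
    exact Nat.eq_of_mul_eq_mul_left hpos (by rw [h1, mul_one])

theorem normalizer_le_of_eIdx (he : eIdx x = 1) :
    normalizer (zpowers x : Set G) ≤ zpowers x := by
  have := Subgroup.index_eq_one.mp he
  intro n hn
  have h2 : (⟨n, hn⟩ : normalizer (zpowers x : Set G)) ∈ (zpowers x).subgroupOf (normalizer (zpowers x : Set G)) := by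
    rw [this]; trivial
  exact Subgroup.mem_subgroupOf.mp h2

/-- If `e = 1`, then `G'` is the normal complement of `⟨x⟩`. -/
theorem commutator_of_eIdx_one (h : Hyp p x) (he : eIdx x = 1) :
    ¬ p ∣ Nat.card (commutator G) ∧ (commutator G).index = p := by
  haveI : Fact p.Prime := ⟨h.hp⟩
  obtain ⟨Q, hQ⟩ := h.exists_sylow
  have hN : normalizer (Q : Set G) ≤ centralizer (Q : Set G) := by
    have hQ' : (Q : Set G) = (zpowers x : Set G) := by rw [← hQ]; rfl
    rw [hQ']
    intro n hn
    have hn2 := normalizer_le_of_eIdx he hn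
    rw [mem_centralizer_iff]
    intro y hy
    obtain ⟨k, rfl⟩ := mem_zpowers_iff.mp hy
    obtain ⟨k', rfl⟩ := mem_zpowers_iff.mp hn2
    exact ((Commute.refl x).zpow_zpow k k').eq
  have hcomp := MonoidHom.ker_transferSylow_isComplement' Q hN
  have hnd := MonoidHom.not_dvd_card_ker_transferSylow Q hN
  set K := (MonoidHom.transferSylow Q hN).ker with hK
  have hle1 : K ≤ commutator G := h.le_commutator_of_not_dvd hnd
  have hsup : (Q : Subgroup G) ⊔ K = ⊤ := by
    rw [sup_comm]
    exact hcomp.sup_eq_top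
  have hle2 : commutator G ≤ K := by
    apply commutator_le_of_sup hsup le_rfl
    intro a ha b hb
    rw [hQ] at ha hb
    obtain ⟨k, rfl⟩ := mem_zpowers_iff.mp ha
    obtain ⟨k', rfl⟩ := mem_zpowers_iff.mp hb
    have : x ^ k * x ^ k' * (x ^ k)⁻¹ * (x ^ k')⁻¹ = 1 := by
      rw [((Commute.refl x).zpow_zpow k k').eq]
      group
    rw [this]
    exact K.one_mem
  have heq : commutator G = K := le_antisymm hle2 hle1
  rw [heq]
  refine ⟨hnd, ?_⟩
  rw [hcomp.symm.index_eq_card, hQ, h.card_zpowers]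

/-- If `e ≠ 1` then `p ∣ |G'|`. -/
theorem dvd_card_commutator (h : Hyp p x) (he : eIdx x ≠ 1) : p ∣ Nat.card (commutator G) := by
  by_contra hd
  apply he
  have hc := h.centralizer_mk hd
  have htop : ∀ q : G ⧸ commutator G, q ∈ zpowers (QuotientGroup.mk x : G ⧸ commutator G) := by
    intro q
    rw [← hc, mem_centralizer_singleton_iff]
    obtain ⟨a, rfl⟩ := QuotientGroup.mk_surjective q
    obtain ⟨b, hb⟩ : ∃ b, b = x := ⟨x, rfl⟩
    have : a * x * a⁻¹ * x⁻¹ ∈ commutator G := by
      rw [_root_.commutator_def]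
      exact Subgroup.commutator_mem_commutator (Subgroup.mem_top a) (Subgroup.mem_top x)
    have h2 := (QuotientGroup.eq_one_iff _).mpr this
    simp only [QuotientGroup.mk_mul, QuotientGroup.mk_inv] at h2
    have h3 := mul_inv_eq_one.mp h2
    exact mul_inv_eq_iff_eq_mul.mp h3
  rw [eIdx, Subgroup.index_eq_one]
  rw [eq_top_iff]
  rintro ⟨n, hn⟩ -
  rw [Subgroup.mem_subgroupOf]
  obtain ⟨k, hk⟩ := mem_zpowers_iff.mp (htop (QuotientGroup.mk n))
  -- `s = n * x^(-k)` lies in `G'` and normalizes `⟨x⟩`.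
  let s := n * x ^ (-k)
  have hsL : s ∈ commutator G := by
    rw [← QuotientGroup.eq_one_iff]
    change (QuotientGroup.mk (n * x ^ (-k)) : G ⧸ commutator G) = 1
    rw [QuotientGroup.mk_mul, QuotientGroup.mk_zpow, ← hk]
    group
  have hxN : ∀ m : ℤ, x ^ m ∈ normalizer (zpowers x : Set G) := fun m =>
    zpowers_le_normalizer x ((zpowers x).zpow_mem (mem_zpowers x) m)
  have hsN : s ∈ normalizer (zpowers x : Set G) := mul_mem hn (hxN _)
  have hcomm : s * x * s⁻¹ * x⁻¹ ∈ zpowers x :=
    (zpowers x).mul_mem ((mem_normalizer_iff.mp hsN x).mp (mem_zpowers x)) (inv_mem (mem_zpowers x))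
  have hcomm2 : s * x * s⁻¹ * x⁻¹ ∈ commutator G := by
    rw [_root_.commutator_def]
    exact Subgroup.commutator_mem_commutator (Subgroup.mem_top s) (Subgroup.mem_top x)
  have h1 := h.eq_one_of_mem hd hcomm2 hcomm
  have h2 : s * x = x * s := by
    have h3 := mul_inv_eq_one.mp h1
    exact (eq_mul_inv_iff_mul_eq.mp h3.symm).symm
  have h4 : s ∈ zpowers x := h.mem_zpowers_of_commute h2
  have h5 : s = 1 := h.eq_one_of_mem hd hsL h4
  have h6 : n = x ^ k := by
    have h7 : n * x ^ (-k) = 1 := h5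
    rw [zpow_neg] at h7
    exact mul_inv_eq_one.mp h7
  change n ∈ zpowers x
  rw [h6]
  exact (zpowers x).zpow_mem (mem_zpowers x) k

/-- `|G : G'|` divides `e` when `e ≠ 1`. -/
theorem index_dvd_eIdx (h : Hyp p x) (he : eIdx x ≠ 1) : (commutator G).index ∣ eIdx x := by
  have hd := dvd_card_commutator h he
  have hle := h.zpowers_le_of_dvd hd
  have hsup := h.normalizer_sup hle
  have h1 : (commutator G).relIndex (normalizer (zpowers x : Set G)) = (commutator G).index := by
    rw [← Subgroup.relIndex_sup_right, hsup, Subgroup.relIndex_top_right]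
  rw [← h1]
  exact Subgroup.index_dvd_of_le (fun y hy => by
    rw [Subgroup.mem_subgroupOf] at hy ⊢
    exact hle hy)

/-- S4495 -/
theorem main_index (h : Hyp p x) :
    (tCount G p ≠ p - 1 → (commutator G).index * tCount G p ≤ p - 1) ∧
      (tCount G p = p - 1 → (commutator G).index = p) := by
  constructor
  · intro ht
    have he : eIdx x ≠ 1 := fun he => ht ((eIdx_eq_one_iff h).mp he)
    have h1 := tCount_mul_eIdx h
    have h2 := index_dvd_eIdx h he
    have h3 : (commutator G).index ≤ eIdx x := by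
      apply Nat.le_of_dvd _ h2
      rw [eIdx]
      exact Nat.pos_of_ne_zero (Subgroup.index_ne_zero_of_finite)
    calc (commutator G).index * tCount G p ≤ eIdx x * tCount G p := Nat.mul_le_mul_right _ h3
      _ = p - 1 := by rw [mul_comm, h1]
  · intro ht
    exact (commutator_of_eIdx_one h ((eIdx_eq_one_iff h).mpr ht)).2


theorem conj_zpowers (a z : G) :
    zpowers (a * z * a⁻¹) = (zpowers z).map (MulAut.conj a).toMonoidHom := by
  rw [MonoidHom.map_zpowers]
  rfl

/-- The number of subgroups of order `p` is the index of the normalizer. -/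
theorem card_subgroups (h : Hyp p x) :
    Nat.card {H : Subgroup G // Nat.card H = p} = (normalizer (zpowers x : Set G)).index := by
  let ψ : G → {H : Subgroup G // Nat.card H = p} := fun g =>
    ⟨zpowers (g * x * g⁻¹), (h.conj g).card_zpowers⟩
  apply card_eq_index _ ψ
  · rintro ⟨H, hH⟩
    obtain ⟨y, hy⟩ := h.exists_conj_eq hH
    exact ⟨y, Subtype.ext hy.symm⟩
  · intro a b
    have hz : zpowers (a * x * a⁻¹) = zpowers (b * x * b⁻¹) ↔ a⁻¹ * b ∈ normalizer (zpowers x : Set G) := by
      constructor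
      · intro e
        have h1 : b * x * b⁻¹ ∈ zpowers (a * x * a⁻¹) := by rw [e]; exact mem_zpowers _
        obtain ⟨k, hk⟩ := mem_zpowers_iff.mp h1
        rw [conj_zpow] at hk
        have hne : x ^ k ≠ 1 := by
          intro e1
          rw [e1, mul_one, mul_inv_cancel] at hk
          have h2 : x = 1 := by
            have := congrArg (fun t => b⁻¹ * t * b) hk
            simpa [mul_assoc] using this.symm
          exact h.x_ne_one h2
        apply mem_normalizer_of_conj_eq h (mem_zpowers x) h.x_ne_one (a := x ^ k) ((zpowers x).zpow_mem (mem_zpowers x) k) hne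
        have h3 : x ^ k = a⁻¹ * (b * x * b⁻¹) * a := by rw [← hk]; group
        rw [h3]
        group
      · intro hy
        set y := a⁻¹ * b with hyd
        have h1 : y * x * y⁻¹ ∈ zpowers x := (mem_normalizer_iff.mp hy x).mp (mem_zpowers x)
        have h2 : y * x * y⁻¹ ≠ 1 := by
          intro e
          apply h.x_ne_one
          have := congrArg (fun t => y⁻¹ * t * y) e
          simpa [mul_assoc] using this
        have h3 := h.zpowers_eq_of_mem h1 h2
        have h4 : b * x * b⁻¹ = a * (y * x * y⁻¹) * a⁻¹ := by rw [hyd]; group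
        rw [h4, conj_zpowers a (y * x * y⁻¹), h3, ← conj_zpowers]
    constructor
    · intro e
      exact hz.mp (congrArg Subtype.val e)
    · intro e
      exact Subtype.ext (hz.mpr e)

/-- A subgroup of order prime to `p` meets the normalizer trivially when normal. -/
theorem normalizer_inf_eq_bot (h : Hyp p x) {S : Subgroup G} [hS : S.Normal] (hd : ¬ p ∣ Nat.card S) :
    normalizer (zpowers x : Set G) ⊓ S = ⊥ := by
  rw [eq_bot_iff]
  rintro s ⟨hsN, hsS⟩
  have hsN' : s ∈ normalizer (zpowers x : Set G) := hsN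
  have hsS' : s ∈ S := hsS
  have hcomm : s * x * s⁻¹ * x⁻¹ ∈ zpowers x :=
    (zpowers x).mul_mem ((mem_normalizer_iff.mp hsN' x).mp (mem_zpowers x)) (inv_mem (mem_zpowers x))
  have hcomm2 : s * x * s⁻¹ * x⁻¹ ∈ S := by
    have : x * s⁻¹ * x⁻¹ ∈ S := hS.conj_mem _ (S.inv_mem hsS') x
    have e : s * x * s⁻¹ * x⁻¹ = s * (x * s⁻¹ * x⁻¹) := by group
    rw [e]
    exact S.mul_mem hsS' this
  have h1 := h.eq_one_of_mem hd hcomm2 hcomm
  have h2 : s * x = x * s := by
    have h3 := mul_inv_eq_one.mp h1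
    exact (eq_mul_inv_iff_mul_eq.mp h3.symm).symm
  have h4 : s ∈ zpowers x := h.mem_zpowers_of_commute h2
  exact (Subgroup.mem_bot.mpr (h.eq_one_of_mem hd hsS' h4))

theorem card_normalizer_mul (h : Hyp p x) :
    Nat.card {H : Subgroup G // Nat.card H = p} * Nat.card (normalizer (zpowers x : Set G)) = Nat.card G := by
  rw [card_subgroups h]
  exact Subgroup.index_mul_card _

/-- If `N S = G` with `S` normal of order prime to `p`, `S` has the order of the set of
subgroups of order `p`. -/
theorem card_eq_of_sup (h : Hyp p x) {S : Subgroup G} [hS : S.Normal] (hd : ¬ p ∣ Nat.card S)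
    (hsup : normalizer (zpowers x : Set G) ⊔ S = ⊤) :
    Nat.card S = Nat.card {H : Subgroup G // Nat.card H = p} := by
  have h1 := card_sup_eq _ S (normalizer_inf_eq_bot h hd)
  rw [hsup, Nat.card_congr Subgroup.topEquiv.toEquiv, ← card_normalizer_mul h] at h1
  have hpos : 0 < Nat.card (normalizer (zpowers x : Set G)) := Nat.card_pos
  rw [mul_comm] at h1
  exact (Nat.eq_of_mul_eq_mul_left hpos h1).symm

/-- Conversely. -/
theorem sup_of_card_eq (h : Hyp p x) {S : Subgroup G} [hS : S.Normal] (hd : ¬ p ∣ Nat.card S)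
    (hc : Nat.card S = Nat.card {H : Subgroup G // Nat.card H = p}) :
    normalizer (zpowers x : Set G) ⊔ S = ⊤ := by
  apply Subgroup.eq_top_of_card_eq
  rw [card_sup_eq _ S (normalizer_inf_eq_bot h hd), hc, mul_comm, card_normalizer_mul h]

/-- `[H ⊔ S, H ⊔ S] ≤ S` when commutators of `H` lie in `S`. -/
theorem commutator_sup_le {H S : Subgroup G} [hS : S.Normal]
    (hc : ∀ a ∈ H, ∀ b ∈ H, a * b * a⁻¹ * b⁻¹ ∈ S) : ⁅H ⊔ S, H ⊔ S⁆ ≤ S := by
  rw [Subgroup.commutator_le]
  intro g hg g' hg'
  have hg1 : g ∈ ((H ⊔ S : Subgroup G) : Set G) := hg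
  have hg2 : g' ∈ ((H ⊔ S : Subgroup G) : Set G) := hg'
  rw [Subgroup.mul_normal] at hg1 hg2
  obtain ⟨n, hn, s, hs, rfl⟩ := Set.mem_mul.mp hg1
  obtain ⟨n', hn', s', hs', rfl⟩ := Set.mem_mul.mp hg2
  have h1 := hc n hn n' hn'
  rw [← QuotientGroup.eq_one_iff] at h1 ⊢
  have e1 : (QuotientGroup.mk s : G ⧸ S) = 1 := (QuotientGroup.eq_one_iff s).mpr hs
  have e2 : (QuotientGroup.mk s' : G ⧸ S) = 1 := (QuotientGroup.eq_one_iff s').mpr hs'
  simp only [commutatorElement_def, QuotientGroup.mk_mul, QuotientGroup.mk_inv, e1, e2, mul_one,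
    inv_one] at h1 ⊢
  exact h1

/-- The case `e = 1`: `G'` has order the number of subgroups of order `p`, `G/G'` cyclic of order `p`. -/
theorem case_e_one (h : Hyp p x) (he : eIdx x = 1) :
    Nat.card (commutator G) = Nat.card {H : Subgroup G // Nat.card H = p} ∧
      IsCyclic (G ⧸ commutator G) ∧ (commutator G).index = p := by
  haveI : Fact p.Prime := ⟨h.hp⟩
  obtain ⟨hnd, hidx⟩ := commutator_of_eIdx_one h he
  refine ⟨?_, ?_, hidx⟩
  · apply card_eq_of_sup h hnd
    have hsup : zpowers x ⊔ commutator G = ⊤ := by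
      apply Subgroup.eq_top_of_card_eq
      rw [card_sup_eq _ _ (?_ : zpowers x ⊓ commutator G = ⊥), h.card_zpowers, ← hidx,
        Subgroup.index_mul_card]
      rw [eq_bot_iff]
      rintro g ⟨hg1, hg2⟩
      exact Subgroup.mem_bot.mpr (h.eq_one_of_mem hnd hg2 hg1)
    rw [eq_top_iff, ← hsup]
    exact sup_le_sup_right (zpowers_le_normalizer x) _
  · apply isCyclic_of_prime_card (p := p)
    rw [← hidx]
    rfl

/-- The case `e ≠ 1`, `G'' ≠ G'`. -/
theorem case_e_ne (h : Hyp p x) (he : eIdx x ≠ 1)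
    (hD : ⁅commutator G, commutator G⁆ ≠ commutator G) :
    Nat.card (⁅commutator G, commutator G⁆ : Subgroup G) = Nat.card {H : Subgroup G // Nat.card H = p} ∧
      Nat.card (commutator G) = p * Nat.card (⁅commutator G, commutator G⁆ : Subgroup G) := by
  haveI : Fact p.Prime := ⟨h.hp⟩
  set L := commutator G with hL
  set D : Subgroup G := ⁅L, L⁆ with hDdef
  haveI hDn : D.Normal := Subgroup.commutator_normal _ _
  have hDL : D ≤ L := Subgroup.commutator_le_left _ _
  have hdvd := dvd_card_commutator h he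
  have hPL : zpowers x ≤ L := h.zpowers_le_of_dvd hdvd
  have hxL : x ∈ L := hPL (mem_zpowers x)
  have hnd : ¬ p ∣ Nat.card D := by
    intro hd
    exact hD (le_antisymm hDL (h.commutator_le_of_dvd hd))
  have hcm := h.centralizer_mk hnd
  have hLsub : L ≤ zpowers x ⊔ D := by
    intro g hg
    have h1 : g * x * g⁻¹ * x⁻¹ ∈ D := Subgroup.commutator_mem_commutator hg hxL
    have h2 : (QuotientGroup.mk g : G ⧸ D) ∈ centralizer ({(QuotientGroup.mk x : G ⧸ D)} : Set (G ⧸ D)) := by
      rw [mem_centralizer_singleton_iff]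
      have h3 := (QuotientGroup.eq_one_iff _).mpr h1
      simp only [QuotientGroup.mk_mul, QuotientGroup.mk_inv] at h3
      exact mul_inv_eq_iff_eq_mul.mp (mul_inv_eq_one.mp h3)
    rw [hcm] at h2
    obtain ⟨k, hk⟩ := mem_zpowers_iff.mp h2
    have h4 : (x ^ k)⁻¹ * g ∈ D := by
      rw [← QuotientGroup.eq_one_iff, QuotientGroup.mk_mul, QuotientGroup.mk_inv,
        QuotientGroup.mk_zpow, hk]
      exact inv_mul_cancel _
    have h5 : g = x ^ k * ((x ^ k)⁻¹ * g) := by group
    rw [h5]
    exact mul_mem (Subgroup.mem_sup_left ((zpowers x).zpow_mem (mem_zpowers x) k))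
      (Subgroup.mem_sup_right h4)
  have hLeq : zpowers x ⊔ D = L := le_antisymm (sup_le hPL hDL) hLsub
  have hinf : zpowers x ⊓ D = ⊥ := by
    rw [eq_bot_iff]
    rintro g ⟨hg1, hg2⟩
    exact Subgroup.mem_bot.mpr (h.eq_one_of_mem hnd hg2 hg1)
  constructor
  · apply card_eq_of_sup h hnd
    rw [eq_top_iff, ← h.normalizer_sup hPL]
    apply sup_le le_sup_left
    rw [← hLeq]
    exact sup_le (le_trans (zpowers_le_normalizer x) le_sup_left) le_sup_right
  · have := card_sup_eq _ _ hinf
    rw [hLeq, h.card_zpowers] at this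
    exact this

/-- The forward direction of the normal-subgroup criterion. -/
theorem ne_of_normal (h : Hyp p x) (he : eIdx x ≠ 1) {S : Subgroup G} [hS : S.Normal]
    (hnd : ¬ p ∣ Nat.card S) (hc : Nat.card S = Nat.card {H : Subgroup G // Nat.card H = p}) :
    ⁅commutator G, commutator G⁆ ≠ commutator G := by
  intro hD
  have hsup := sup_of_card_eq h hnd hc
  have hL : commutator G ≤ zpowers x ⊔ S := by
    apply commutator_le_of_sup hsup le_sup_right
    intro a ha b hb
    exact Subgroup.mem_sup_left (h.comm_mem ha hb)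
  have hle : ⁅commutator G, commutator G⁆ ≤ S := by
    refine le_trans (Subgroup.commutator_mono hL hL) (commutator_sup_le ?_)
    intro a ha b hb
    obtain ⟨k, rfl⟩ := mem_zpowers_iff.mp ha
    obtain ⟨k', rfl⟩ := mem_zpowers_iff.mp hb
    have : x ^ k * x ^ k' * (x ^ k)⁻¹ * (x ^ k')⁻¹ = 1 := by
      rw [((Commute.refl x).zpow_zpow k k').eq]
      group
    rw [this]
    exact S.one_mem
  rw [hD] at hle
  apply hnd
  exact (dvd_card_commutator h he).trans (Subgroup.card_dvd_of_le hle)

/-- S4509 -/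
theorem main_normal (h : Hyp p x) (n : ℕ)
    (hn : Nat.card {H : Subgroup G // Nat.card H = p} = 1 + n * p) :
    ((∃ S : Subgroup G, S.Normal ∧ Nat.card S = 1 + n * p) ↔
        (tCount G p = p - 1 ∨ (tCount G p < p - 1 ∧ derivedSeries G 2 ≠ derivedSeries G 1))) ∧
      (tCount G p = p - 1 → Nat.card (commutator G) = 1 + n * p ∧ IsCyclic (G ⧸ commutator G) ∧
        (commutator G).index = p) ∧
      (tCount G p < p - 1 → derivedSeries G 2 ≠ derivedSeries G 1 →
        Nat.card (derivedSeries G 2) = 1 + n * p ∧ Nat.card (commutator G) = p * (1 + n * p)) := by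
  have hD1 : derivedSeries G 1 = commutator G := derivedSeries_one G
  have hD2 : derivedSeries G 2 = ⁅commutator G, commutator G⁆ := by
    rw [derivedSeries_succ, hD1]
  rw [hD1, hD2]
  have hone : ∀ (ht : tCount G p = p - 1), Nat.card (commutator G) = 1 + n * p ∧
      IsCyclic (G ⧸ commutator G) ∧ (commutator G).index = p := by
    intro ht
    have := case_e_one h ((eIdx_eq_one_iff h).mpr ht)
    rwa [hn] at this
  have htwo : tCount G p < p - 1 → ⁅commutator G, commutator G⁆ ≠ commutator G →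
      Nat.card (⁅commutator G, commutator G⁆ : Subgroup G) = 1 + n * p ∧
        Nat.card (commutator G) = p * (1 + n * p) := by
    intro ht hD
    have he : eIdx x ≠ 1 := fun he => ht.ne ((eIdx_eq_one_iff h).mp he)
    obtain ⟨h1, h2⟩ := case_e_ne h he hD
    rw [hn] at h1
    rw [h1] at h2
    exact ⟨h1, h2⟩
  refine ⟨⟨?_, ?_⟩, hone, htwo⟩
  · rintro ⟨S, hS, hc⟩
    by_cases he : eIdx x = 1
    · exact Or.inl ((eIdx_eq_one_iff h).mp he)
    · right
      have hle : tCount G p ≤ p - 1 := by
        rw [← tCount_mul_eIdx h]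
        exact Nat.le_mul_of_pos_right _ (Nat.pos_of_ne_zero Subgroup.index_ne_zero_of_finite)
      have hne : tCount G p ≠ p - 1 := fun ht => he ((eIdx_eq_one_iff h).mpr ht)
      refine ⟨lt_of_le_of_ne hle hne, ?_⟩
      haveI := hS
      have hnd : ¬ p ∣ Nat.card S := by
        rw [hc]
        intro hd
        have hd2 : p ∣ n * p := Dvd.intro_left n rfl
        have := (Nat.dvd_add_left hd2).mp hd
        exact h.hp.one_lt.ne' (Nat.dvd_one.mp this)
      exact ne_of_normal h he hnd (by rw [hc, hn])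
  · rintro (ht | ⟨ht, hD⟩)
    · exact ⟨commutator G, inferInstance, (hone ht).1⟩
    · exact ⟨⁅commutator G, commutator G⁆, Subgroup.commutator_normal _ _, (htwo ht hD).1⟩

/-- Restriction of the hypothesis to a subgroup containing `x`. -/
theorem restrict (h : Hyp p x) (L : Subgroup G) (hx : x ∈ L) : Hyp p (⟨x, hx⟩ : L) := by
  refine ⟨h.hp, ?_, ?_⟩
  · rw [Subgroup.orderOf_mk]; exact h.hx
  · ext g
    rw [mem_centralizer_singleton_iff, mem_zpowers_iff]
    constructor
    · intro hg
      have h1 : (g : G) * x = x * g := congrArg Subtype.val hg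
      obtain ⟨k, hk⟩ := mem_zpowers_iff.mp (h.mem_zpowers_of_commute h1)
      exact ⟨k, Subtype.ext (by simpa using hk)⟩
    · rintro ⟨k, rfl⟩
      exact (Commute.refl _).zpow_left k

/-- S4497, the simplicity part. -/
theorem main_simple (h : Hyp p x) (he : eIdx x ≠ 1)
    (hN : ((Cfsg.pPrimeCore p G).subgroupOf (commutator G)).Normal) :
    IsSimpleGroup (↥(commutator G) ⧸ (Cfsg.pPrimeCore p G).subgroupOf (commutator G)) := by
  haveI : Fact p.Prime := ⟨h.hp⟩
  set L := commutator G with hLdef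
  set O := Cfsg.pPrimeCore p G with hOdef
  haveI := hN
  have hOnd : ¬ p ∣ Nat.card O := Cfsg.Agent.Lib.PCore.not_dvd_card_pPrimeCore p
  haveI hOn : O.Normal := Cfsg.Agent.Lib.PCore.pPrimeCore_normal p
  have hOL : O ≤ L := h.le_commutator_of_not_dvd hOnd
  have hdvd := dvd_card_commutator h he
  have hPL : zpowers x ≤ L := h.zpowers_le_of_dvd hdvd
  have hxL : x ∈ L := hPL (mem_zpowers x)
  have h₁ : Hyp p (⟨x, hxL⟩ : L) := restrict h L hxL
  have hcardmap : ∀ C : Subgroup L, Nat.card (C.map L.subtype) = Nat.card C := fun C =>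
    (Nat.card_congr (C.equivMapOfInjective _ L.subtype_injective).toEquiv).symm
  have hO₁nd : ¬ p ∣ Nat.card (O.subgroupOf L) := by
    intro hd
    apply hOnd
    exact hd.trans (Subgroup.card_dvd_of_le (H := O.subgroupOf L |>.map L.subtype) (K := O)
      (by
        intro y hy
        obtain ⟨z, hz, rfl⟩ := hy
        exact Subgroup.mem_subgroupOf.mp hz) |> fun h2 => by
        rwa [hcardmap] at h2)
  -- characteristic subgroups of `L` of order prime to `p` lie in `O`
  have hchar : ∀ C : Subgroup L, C.Characteristic → ¬ p ∣ Nat.card C → C ≤ O.subgroupOf L := by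
    intro C hC hd
    haveI := hC
    have hmapN : (C.map L.subtype).Normal := inferInstance
    have hcop : (Nat.card (C.map L.subtype)).Coprime p := by
      rw [hcardmap]
      exact ((Nat.Prime.coprime_iff_not_dvd h.hp).mpr hd).symm
    have hle := Cfsg.Agent.Lib.PCore.le_pPrimeCore hmapN hcop
    intro y hy
    rw [Subgroup.mem_subgroupOf]
    exact hle ⟨y, hy, rfl⟩
  have hnt : Nontrivial (↥L ⧸ O.subgroupOf L) := by
    refine ⟨⟨(QuotientGroup.mk (⟨x, hxL⟩ : L) : ↥L ⧸ O.subgroupOf L), 1, ?_⟩⟩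
    intro e
    have := h₁.orderOf_mk hO₁nd
    rw [e, orderOf_one] at this
    exact h.hp.one_lt.ne this
  by_cases hcase : p ∣ Nat.card (commutator L)
  · -- `L` is perfect
    have hperf : commutator L = ⊤ := by
      have hW : (commutator L).map L.subtype ≥ L := by
        haveI : ((commutator L).map L.subtype).Normal := inferInstance
        apply h.commutator_le_of_dvd
        rw [hcardmap]
        exact hcase
      rw [eq_top_iff]
      rintro ⟨y, hy⟩ -
      obtain ⟨z, hz, hzy⟩ := hW hy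
      have : z = ⟨y, hy⟩ := Subtype.ext hzy
      rwa [← this]
    refine ⟨fun T hT => ?_⟩
    haveI := hT
    let T₁ := T.comap (QuotientGroup.mk' (O.subgroupOf L))
    haveI hT₁ : T₁.Normal := inferInstance
    by_cases htc : p ∣ Nat.card T₁
    · right
      have h2 : commutator L ≤ T₁ := h₁.commutator_le_of_dvd htc
      rw [hperf] at h2
      rw [eq_top_iff]
      intro q _
      obtain ⟨l, rfl⟩ := QuotientGroup.mk_surjective q
      exact h2 (Subgroup.mem_top l)
    · left
      have hcop : (Nat.card T₁).Coprime p := ((Nat.Prime.coprime_iff_not_dvd h.hp).mpr htc).symm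
      have hle1 := Cfsg.Agent.Lib.PCore.le_pPrimeCore hT₁ hcop
      have hle2 := hchar _ (Cfsg.Agent.Lib.PCore.instPPrimeCoreCharacteristic p) (Cfsg.Agent.Lib.PCore.not_dvd_card_pPrimeCore p)
      rw [eq_bot_iff]
      intro q hq
      obtain ⟨l, rfl⟩ := QuotientGroup.mk_surjective q
      have h3 : l ∈ T₁ := hq
      exact Subgroup.mem_bot.mpr ((QuotientGroup.eq_one_iff l).mpr (hle2 (hle1 h3)))
  · -- `L / O` has order `p`
    have hle := hchar _ inferInstance hcase
    have hcomm : ∀ a b : ↥L ⧸ O.subgroupOf L, a * b = b * a := by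
      intro a b
      obtain ⟨a, rfl⟩ := QuotientGroup.mk_surjective a
      obtain ⟨b, rfl⟩ := QuotientGroup.mk_surjective b
      have h1 : a * b * a⁻¹ * b⁻¹ ∈ commutator L := by
        rw [_root_.commutator_def]
        exact Subgroup.commutator_mem_commutator (Subgroup.mem_top a) (Subgroup.mem_top b)
      have h2 := (QuotientGroup.eq_one_iff _).mpr (hle h1)
      simp only [QuotientGroup.mk_mul, QuotientGroup.mk_inv] at h2
      exact mul_inv_eq_iff_eq_mul.mp (mul_inv_eq_one.mp h2)
    have hcm := h₁.centralizer_mk hO₁nd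
    have htop : ∀ q : ↥L ⧸ O.subgroupOf L, q ∈ zpowers (QuotientGroup.mk (⟨x, hxL⟩ : L) : ↥L ⧸ O.subgroupOf L) := by
      intro q
      rw [← hcm, mem_centralizer_singleton_iff]
      exact hcomm _ _
    have hcard : Nat.card (↥L ⧸ O.subgroupOf L) = p := by
      rw [← h₁.orderOf_mk hO₁nd, ← Nat.card_zpowers]
      exact (Nat.card_congr (Subgroup.topEquiv.toEquiv.symm.trans
        (Equiv.subtypeEquivRight (fun q => by simpa using htop q)).symm)).symm ▸ rfl
    exact isSimpleGroup_of_prime_card hcard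

/-- S4497 -/
theorem main_core (h : Hyp p x) :
    Cfsg.pPrimeCore p G ≤ commutator G ∧
      (tCount G p ≠ p - 1 → ∀ hN : ((Cfsg.pPrimeCore p G).subgroupOf (commutator G)).Normal,
        IsSimpleGroup (↥(commutator G) ⧸ (Cfsg.pPrimeCore p G).subgroupOf (commutator G))) ∧
      (tCount G p = p - 1 → commutator G = Cfsg.pPrimeCore p G) := by
  haveI : Fact p.Prime := ⟨h.hp⟩
  have hOnd : ¬ p ∣ Nat.card (Cfsg.pPrimeCore p G) := Cfsg.Agent.Lib.PCore.not_dvd_card_pPrimeCore p
  haveI hOn : (Cfsg.pPrimeCore p G).Normal := Cfsg.Agent.Lib.PCore.pPrimeCore_normal p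
  have hOL := h.le_commutator_of_not_dvd hOnd
  refine ⟨hOL, ?_, ?_⟩
  · intro ht hN
    exact main_simple h (fun he => ht ((eIdx_eq_one_iff h).mp he)) hN
  · intro ht
    obtain ⟨hnd, _⟩ := commutator_of_eIdx_one h ((eIdx_eq_one_iff h).mpr ht)
    apply le_antisymm _ hOL
    exact Cfsg.Agent.Lib.PCore.le_pPrimeCore inferInstance ((Nat.Prime.coprime_iff_not_dvd h.hp).mpr hnd).symm

end Hyp'

end Cfsg.Agent.Lib.SelfCent2
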