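import Mathlib
import Cfsg.Agent.Lib.Frat
import Cfsg.Agent.Lib.PGroupAct

/-!
# First reductions for `S3174`

`T` is a finite 2-group of order at least `2^14` with `|Z₄(T)| = 16`, `W = C_T(Z₃(T))`, and the
Frattini subgroup of `W` has order at most eight and is contained in all subgroups of index at most
sixteen of `W`.  We compute the orders and identify `Φ(W) = W' = Z₃(T)`.
-/

set_option autoImplicit false

namespace Cfsg.Agent.Lib.T14A

variable {T : Type*} [Group T] [Finite T]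

theorem card_double (hT : IsPGroup 2 T) {A B : Subgroup T} (h : A < B) :
    2 * Nat.card A ≤ Nat.card B := by
  obtain ⟨m, hm⟩ := IsPGroup.iff_card.mp (hT.to_subgroup A)
  obtain ⟨n, hn⟩ := IsPGroup.iff_card.mp (hT.to_subgroup B)
  have hd : Nat.card A ≤ Nat.card B := Nat.le_of_dvd Nat.card_pos (Subgroup.card_dvd_of_le h.le)
  rw [hm, hn] at hd ⊢
  have hmn : m ≠ n := by
    rintro rfl
    exact h.ne (Subgroup.eq_of_le_of_card_ge h.le (by rw [hm, hn]))
  have hle : m ≤ n := (Nat.pow_le_pow_iff_right (by norm_num)).mp hd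
  have hlt : m + 1 ≤ n := by omega
  calc 2 * 2 ^ m = 2 ^ (m + 1) := by ring
    _ ≤ 2 ^ n := Nat.pow_le_pow_right (by norm_num) hlt

/-- Index-two lemma. -/
theorem idx2 {A B : Subgroup T} (hBA : B ≤ A) (hc : Nat.card A = 2 * Nat.card B) {y z : T}
    (hy : y ∈ A) (hz : z ∈ A) (hyB : y ∉ B) (hzB : z ∉ B) : z⁻¹ * y ∈ B := by
  have hi : (B.subgroupOf A).index = 2 := by
    have h1 := (B.subgroupOf A).card_mul_index
    have h2 : Nat.card (B.subgroupOf A) = Nat.card B :=
      Nat.card_congr (Subgroup.subgroupOfEquivOfLe hBA).toEquiv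
    rw [h2, hc] at h1
    have h3 : 0 < Nat.card B := Nat.card_pos
    have h4 : Nat.card B * (B.subgroupOf A).index = Nat.card B * 2 := by rw [h1]; ring
    exact Nat.eq_of_mul_eq_mul_left h3 h4
  have h := Subgroup.mul_mem_iff_of_index_two hi (a := (⟨z, hz⟩ : A)⁻¹) (b := (⟨y, hy⟩ : A))
  have h1 : (⟨z, hz⟩ : A)⁻¹ ∈ B.subgroupOf A ↔ z ∉ B → False := by
    rw [Subgroup.inv_mem_iff, Subgroup.mem_subgroupOf]
    simp [hzB]
  have h2 : (⟨z, hz⟩ : A)⁻¹ * ⟨y, hy⟩ ∈ B.subgroupOf A := by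
    rw [h]
    constructor
    · intro h3
      exact absurd (by simpa using (Subgroup.mem_subgroupOf.mp ((Subgroup.inv_mem_iff _).mp h3))) hzB
    · intro h3
      exact absurd (Subgroup.mem_subgroupOf.mp h3) hyB
  exact Subgroup.mem_subgroupOf.mp h2

open commutatorElement

local notation "𝒵" => Subgroup.upperCentralSeries T

/-- Normal subgroups not contained in `Zᵢ` meet `Zᵢ₊₁ \ Zᵢ`. -/
theorem exists_next (hT : IsPGroup 2 T) (N : Subgroup T) [hN : N.Normal] (i : ℕ)
    (h : ¬ N ≤ 𝒵 i) : ∃ x ∈ N, x ∈ 𝒵 (i + 1) ∧ x ∉ 𝒵 i := by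
  have : Fact (Nat.Prime 2) := ⟨Nat.prime_two⟩
  let π := QuotientGroup.mk' (𝒵 i)
  have hQ : IsPGroup 2 (T ⧸ 𝒵 i) := hT.to_quotient _
  have hne : N.map π ≠ ⊥ := by
    intro hbot
    apply h
    intro x hx
    have h1 : π x ∈ N.map π := ⟨x, hx, rfl⟩
    rw [hbot, Subgroup.mem_bot] at h1
    exact (QuotientGroup.eq_one_iff x).1 h1
  have hP : IsPGroup 2 (⊤ : Subgroup (T ⧸ 𝒵 i)) := hQ.to_subgroup _
  have hNm : (N.map π).Normal := hN.map π (QuotientGroup.mk'_surjective _)
  obtain ⟨w, hw, hw1, hwc⟩ := Cfsg.Agent.Lib.PGroupAct.exists_central_elt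
    (⊤ : Subgroup (T ⧸ 𝒵 i)) (N.map π) hP le_top
    (fun a _ w hw => hNm.conj_mem w hw a) hne
  obtain ⟨x, hx, rfl⟩ := hw
  refine ⟨x, hx, ?_, ?_⟩
  · rw [Subgroup.mem_upperCentralSeries_succ_iff]
    intro y
    rw [← QuotientGroup.eq_one_iff]
    have h1 := hwc (π y) (Subgroup.mem_top _)
    change π ⁅x, y⁆ = 1
    rw [commutatorElement_def, map_mul, map_mul, map_mul, map_inv, map_inv, ← h1]
    group
  · intro hx2
    exact hw1 ((QuotientGroup.eq_one_iff x).2 hx2)

/-- A normal subgroup not contained in `Zᵢ` has large intersection with `Zᵢ₊₁`. -/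
theorem card_of_not_le (hT : IsPGroup 2 T) (N : Subgroup T) [N.Normal] :
    ∀ i, ¬ N ≤ 𝒵 i → 2 ^ (i + 1) ≤ Nat.card ↥(N ⊓ 𝒵 (i + 1)) := by
  intro i
  induction i with
  | zero =>
    intro h
    obtain ⟨x, hx, hx1, hx0⟩ := exists_next hT N 0 h
    have hlt : (⊥ : Subgroup T) < N ⊓ 𝒵 (0 + 1) := by
      rw [bot_lt_iff_ne_bot]
      intro hbot
      have : x ∈ N ⊓ 𝒵 (0 + 1) := ⟨hx, hx1⟩
      rw [hbot] at this
      exact hx0 (by simpa using this)
    have := card_double hT hlt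
    simpa using this
  | succ i ih =>
    intro h
    have h1 : ¬ N ≤ 𝒵 i := fun h2 => h (h2.trans (Subgroup.upperCentralSeries_mono _ (by omega)))
    have h2 := ih h1
    obtain ⟨x, hx, hx1, hx0⟩ := exists_next hT N (i + 1) h
    have hlt : N ⊓ 𝒵 (i + 1) < N ⊓ 𝒵 (i + 1 + 1) := by
      refine lt_of_le_of_ne (inf_le_inf_left _ (Subgroup.upperCentralSeries_mono _ (by omega))) ?_
      intro heq
      have : x ∈ N ⊓ 𝒵 (i + 1 + 1) := ⟨hx, hx1⟩
      rw [← heq] at this
      exact hx0 this.2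
    have := card_double hT hlt
    calc 2 ^ (i + 1 + 1) = 2 * 2 ^ (i + 1) := by ring
      _ ≤ _ := by omega
      _ ≤ _ := this

/-- A normal subgroup of order less than `2^(i+1)` lies in `Zᵢ`. -/
theorem le_of_card_lt (hT : IsPGroup 2 T) (N : Subgroup T) [N.Normal] (i : ℕ)
    (h : Nat.card N < 2 ^ (i + 1)) : N ≤ 𝒵 i := by
  by_contra hcon
  have h1 := card_of_not_le hT N i hcon
  have h2 : Nat.card ↥(N ⊓ 𝒵 (i + 1)) ≤ Nat.card N :=
    Nat.le_of_dvd Nat.card_pos (Subgroup.card_dvd_of_le inf_le_left)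
  omega

/-- The orders of the terms of the upper central series. -/
theorem card_series (hT : IsPGroup 2 T) (ha : 2 ^ 14 ≤ Nat.card T) (hb : Nat.card (𝒵 4) = 16) :
    Nat.card (𝒵 0) = 1 ∧ Nat.card (𝒵 1) = 2 ∧ Nat.card (𝒵 2) = 4 ∧ Nat.card (𝒵 3) = 8 := by
  have hnil : Group.IsNilpotent T := hT.isNilpotent
  have hstep : ∀ i, i ≤ 3 → 𝒵 i < 𝒵 (i + 1) := by
    intro i hi
    refine lt_of_le_of_ne (Subgroup.upperCentralSeries_mono _ (by omega)) ?_
    intro heq
    have h1 : 𝒵 i = ⊤ := Subgroup.upperCentralSeries.eq_top (by omega) heq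
    have h2 : 𝒵 4 = ⊤ := top_le_iff.mp (h1 ▸ Subgroup.upperCentralSeries_mono _ (by omega))
    rw [h2, Subgroup.card_top] at hb
    omega
  have h0 : Nat.card (𝒵 0) = 1 := by simp
  have h1 := card_double hT (hstep 0 (by omega))
  have h2 := card_double hT (hstep 1 (by omega))
  have h3 := card_double hT (hstep 2 (by omega))
  have h4 := card_double hT (hstep 3 (by omega))
  simp only [Nat.reduceAdd] at h1 h2 h3 h4
  omega

omit [Finite T] in
/-- An index bound from a separating function. -/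
theorem index_le_of_sep {H : Subgroup T} {S : Type*} [Finite S] (f : T → S)
    (hf : ∀ a a', f a = f a' → a⁻¹ * a' ∈ H) : H.index ≤ Nat.card S := by
  have hinj : Function.Injective (fun q : T ⧸ H => f q.out) := by
    intro q q' h
    have h1 := hf _ _ h
    rw [← q.out_eq', ← q'.out_eq']
    exact QuotientGroup.eq.mpr h1
  exact Nat.card_le_card_of_injective _ hinj

omit [Finite T] in
theorem conj_comm_mem {n : ℕ} {x : T} (hx : x ∈ 𝒵 (n + 1)) (t : T) : t * x * t⁻¹ * x⁻¹ ∈ 𝒵 n := by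
  have h1 := Subgroup.mem_upperCentralSeries_succ_iff.mp hx t
  rw [commutatorElement_def] at h1
  have h2 := Subgroup.inv_mem _ h1
  convert h2 using 1
  group

/-- Commuting with a generator modulo an index-two subgroup. -/
theorem comm_of_idx {A B : Subgroup T} (hBA : B ≤ A) (hc : Nat.card A = 2 * Nat.card B) {z t : T}
    (hz : z ∈ A) (hzB : z ∉ B) (htz : z * t = t * z) (htB : ∀ b ∈ B, b * t = t * b) :
    ∀ y ∈ A, y * t = t * y := by
  intro y hy
  by_cases hyB : y ∈ B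
  · exact htB y hyB
  · have h1 := htB _ (idx2 hBA hc hy hz hyB hzB)
    calc y * t = z * ((z⁻¹ * y) * t) := by group
      _ = z * (t * (z⁻¹ * y)) := by rw [h1]
      _ = (z * t) * (z⁻¹ * y) := by group
      _ = (t * z) * (z⁻¹ * y) := by rw [htz]
      _ = t * y := by group

/-- The basic facts on elements of `Z₁`, `Z₂`, `Z₃`. -/
theorem mem_centralizer_of_comm (hc1 : Nat.card (𝒵 1) = 2) (hc2 : Nat.card (𝒵 2) = 4)
    (hc3 : Nat.card (𝒵 3) = 8) {z₂ z₃ t : T} (hz2 : z₂ ∈ 𝒵 2) (hz2' : z₂ ∉ 𝒵 1) (hz3 : z₃ ∈ 𝒵 3)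
    (hz3' : z₃ ∉ 𝒵 2) (h2 : z₂ * t = t * z₂) (h3 : z₃ * t = t * z₃) :
    t ∈ Subgroup.centralizer ((𝒵 3 : Subgroup T) : Set T) := by
  rw [Subgroup.mem_centralizer_iff]
  have h1' : ∀ b ∈ 𝒵 1, b * t = t * b := by
    intro b hb
    rw [Subgroup.upperCentralSeries_one] at hb
    exact (Subgroup.mem_center_iff.mp hb t).symm
  have h2' := comm_of_idx (Subgroup.upperCentralSeries_mono _ (by omega : 1 ≤ 2))
    (by rw [hc1, hc2]) hz2 hz2' h2 h1'
  exact comm_of_idx (Subgroup.upperCentralSeries_mono _ (by omega : 2 ≤ 3))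
    (by rw [hc2, hc3]) hz3 hz3' h3 h2'

omit [Finite T] in
theorem exists_diff {A B : Subgroup T} (h : Nat.card A ≠ Nat.card B) (hle : B ≤ A) :
    ∃ z ∈ A, z ∉ B := by
  by_contra hcon
  push Not at hcon
  exact h (by rw [le_antisymm (fun z hz => hcon z hz) hle])

/-- The index of `W` is at most eight. -/
theorem index_le_eight (hc1 : Nat.card (𝒵 1) = 2) (hc2 : Nat.card (𝒵 2) = 4)
    (hc3 : Nat.card (𝒵 3) = 8) :
    (Subgroup.centralizer ((𝒵 3 : Subgroup T) : Set T)).index ≤ 8 := by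
  obtain ⟨z₂, hz2, hz2'⟩ := exists_diff (by rw [hc1, hc2]; norm_num)
    (Subgroup.upperCentralSeries_mono T (by omega : 1 ≤ 2))
  obtain ⟨z₃, hz3, hz3'⟩ := exists_diff (by rw [hc2, hc3]; norm_num)
    (Subgroup.upperCentralSeries_mono T (by omega : 2 ≤ 3))
  let f : T → ↥(𝒵 1) × ↥(𝒵 2) := fun t =>
    (⟨t * z₂ * t⁻¹ * z₂⁻¹, conj_comm_mem hz2 t⟩, ⟨t * z₃ * t⁻¹ * z₃⁻¹, conj_comm_mem hz3 t⟩)
  have hf : ∀ a a', f a = f a' → a⁻¹ * a' ∈ Subgroup.centralizer ((𝒵 3 : Subgroup T) : Set T) := by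
    intro a a' h
    have h1 : a * z₂ * a⁻¹ * z₂⁻¹ = a' * z₂ * a'⁻¹ * z₂⁻¹ :=
      congrArg (fun x : ↥(𝒵 1) × ↥(𝒵 2) => (x.1 : T)) h
    have h2 : a * z₃ * a⁻¹ * z₃⁻¹ = a' * z₃ * a'⁻¹ * z₃⁻¹ :=
      congrArg (fun x : ↥(𝒵 1) × ↥(𝒵 2) => (x.2 : T)) h
    have h1' : a * z₂ * a⁻¹ = a' * z₂ * a'⁻¹ := mul_right_cancel h1
    have h2' : a * z₃ * a⁻¹ = a' * z₃ * a'⁻¹ := mul_right_cancel h2
    apply mem_centralizer_of_comm hc1 hc2 hc3 hz2 hz2' hz3 hz3'
    · calc z₂ * (a⁻¹ * a') = a⁻¹ * (a * z₂ * a⁻¹) * a' := by group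
        _ = a⁻¹ * (a' * z₂ * a'⁻¹) * a' := by rw [h1']
        _ = _ := by group
    · calc z₃ * (a⁻¹ * a') = a⁻¹ * (a * z₃ * a⁻¹) * a' := by group
        _ = a⁻¹ * (a' * z₃ * a'⁻¹) * a' := by rw [h2']
        _ = _ := by group
  have := index_le_of_sep f hf
  rwa [Nat.card_prod, hc1, hc2] at this

section Abstract

variable {G : Type*} [Group G] [Finite G]

open Cfsg.Agent.Lib.Frat in
/-- If the Frattini subgroup has order at most eight and lies in all subgroups of index at most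
sixteen, then it is the derived subgroup. -/
theorem frattini_le_commutator (hG : IsPGroup 2 G) (hc : Nat.card (frattini G) ≤ 8)
    (hd : ∀ U : Subgroup G, U.index ≤ 16 → frattini G ≤ U) : frattini G ≤ commutator G := by
  have : Fact (Nat.Prime 2) := ⟨Nat.prime_two⟩
  intro z hz
  by_contra hz'
  let S : Set (Subgroup G) := {M | commutator G ≤ M ∧ z ∉ M}
  obtain ⟨U, hU⟩ := S.toFinite.exists_maximal ⟨commutator G, le_rfl, hz'⟩
  have hzU : z ∉ U := hU.1.2
  have hGU : commutator G ≤ U := hU.1.1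
  have hUn : U.Normal := normal_of_commutator_le hGU
  let π := QuotientGroup.mk' U
  have hcomm : ∀ x y : G ⧸ U, x * y = y * x := by
    intro x y
    obtain ⟨a, rfl⟩ := QuotientGroup.mk'_surjective U x
    obtain ⟨b, rfl⟩ := QuotientGroup.mk'_surjective U y
    have h1 : a * b * a⁻¹ * b⁻¹ ∈ U := by
      apply hGU
      rw [commutator_def]
      have := Subgroup.commutator_mem_commutator (Subgroup.mem_top a) (Subgroup.mem_top b)
      rwa [commutatorElement_def] at this
    have h2 : π (a * b * a⁻¹ * b⁻¹) = 1 := (QuotientGroup.eq_one_iff _).2 h1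
    simp only [map_mul, map_inv] at h2
    rw [mul_inv_eq_one, mul_inv_eq_iff_eq_mul] at h2
    exact h2
  -- the key claim
  have hkey : ∀ x : G, x ∉ U → x * x ∈ U → π x = π z := by
    intro x hx hxx
    have hUV : U ≤ Subgroup.zpowers x ⊔ U := le_sup_right
    have hxV : x ∈ Subgroup.zpowers x ⊔ U :=
      (le_sup_left : Subgroup.zpowers x ≤ _) (Subgroup.mem_zpowers x)
    have hzV : z ∈ Subgroup.zpowers x ⊔ U := by
      by_contra hzV
      have hVS : (Subgroup.zpowers x ⊔ U) ∈ S := ⟨hGU.trans hUV, hzV⟩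
      exact hx (hU.2 hVS hUV hxV)
    have h1 : z ∈ ((Subgroup.zpowers x ⊔ U : Subgroup G) : Set G) := hzV
    rw [Subgroup.mul_normal] at h1
    obtain ⟨g, hg, u, hu, hgu⟩ := Set.mem_mul.mp h1
    obtain ⟨m, rfl⟩ := Subgroup.mem_zpowers_iff.mp hg
    have hgu' : x ^ m * u = z := hgu
    have hπu : π u = 1 := (QuotientGroup.eq_one_iff _).2 hu
    have hπxx : π x * π x = 1 := by
      rw [← map_mul]
      exact (QuotientGroup.eq_one_iff _).2 hxx
    rcases Int.even_or_odd' m with ⟨c, rfl | rfl⟩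
    · exfalso
      apply hzU
      rw [← hgu']
      refine U.mul_mem ?_ hu
      rw [zpow_mul, zpow_two]
      exact U.zpow_mem hxx c
    · rw [← hgu', map_mul, hπu, mul_one, zpow_add, zpow_one, zpow_mul, zpow_two, map_mul, map_zpow,
        map_mul, hπxx, one_zpow, one_mul]
  -- the squaring map
  let σ : (G ⧸ U) →* (G ⧸ U) :=
    { toFun := fun x => x * x
      map_one' := mul_one 1
      map_mul' := by
        intro x y
        calc x * y * (x * y) = x * (y * x) * y := by group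
          _ = x * (x * y) * y := by rw [hcomm y x]
          _ = _ := by group }
  have hker : Nat.card σ.ker ≤ 2 := by
    classical
    have hinj : Function.Injective (fun x : σ.ker => decide ((x : G ⧸ U) = 1)) := by
      intro x y hxy
      have hxy' : ((x : G ⧸ U) = 1) ↔ ((y : G ⧸ U) = 1) := by simpa using hxy
      apply Subtype.ext
      by_cases hx1 : (x : G ⧸ U) = 1
      · rw [hx1, hxy'.mp hx1]
      · have hy1 : (y : G ⧸ U) ≠ 1 := fun h => hx1 (hxy'.mpr h)
        have aux : ∀ w : σ.ker, (w : G ⧸ U) ≠ 1 → (w : G ⧸ U) = π z := by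
          intro w hw
          obtain ⟨a, ha⟩ := QuotientGroup.mk'_surjective U (w : G ⧸ U)
          have ha' : π a = w := ha
          rw [← ha'] at hw ⊢
          apply hkey a
          · intro h
            exact hw ((QuotientGroup.eq_one_iff _).2 h)
          · have h2 : σ (w : G ⧸ U) = 1 := w.2
            have h3 : (w : G ⧸ U) * w = 1 := h2
            rw [← ha', ← map_mul] at h3
            exact (QuotientGroup.eq_one_iff _).1 h3
        rw [aux x hx1, aux y hy1]
    have := Nat.card_le_card_of_injective _ hinj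
    simpa using this
  have hrange : Nat.card σ.range ≤ 8 := by
    have hle : σ.range ≤ (frattini G).map π := by
      rintro _ ⟨x, rfl⟩
      obtain ⟨a, rfl⟩ := QuotientGroup.mk'_surjective U x
      refine ⟨a * a, ?_, map_mul _ _ _⟩
      have := pow_mem_frattini hG a
      rwa [pow_two] at this
    have h1 : Nat.card σ.range ≤ Nat.card ((frattini G).map π) :=
      Nat.le_of_dvd Nat.card_pos (Subgroup.card_dvd_of_le hle)
    have h2 : Nat.card ((frattini G).map π) ≤ Nat.card (frattini G) :=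
      Nat.card_le_card_of_surjective (π.subgroupMap (frattini G)) (π.subgroupMap_surjective _)
    omega
  have hcard : Nat.card (G ⧸ U) ≤ 16 := by
    have h1 := σ.ker.card_mul_index
    rw [Subgroup.index_ker] at h1
    rw [← h1]
    calc _ ≤ 2 * 8 := Nat.mul_le_mul hker hrange
      _ = 16 := by norm_num
  exact hzU (hd U hcard hz)

end Abstract

/-- Conjugation by `t⁻¹` on a normal subgroup. -/
noncomputable def cj {T : Type*} [Group T] (W : Subgroup T) [W.Normal] (t : T) : ↥W →* ↥W :=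
  (MulAut.conjNormal t⁻¹ : MulAut ↥W).toMonoidHom

omit [Finite T] in
@[simp] theorem cj_coe (W : Subgroup T) [W.Normal] (t : T) (u : ↥W) :
    ((cj W t u : ↥W) : T) = t⁻¹ * u * t := by
  simp [cj]

omit [Finite T] in
theorem cj_bijective (W : Subgroup T) [W.Normal] (t : T) : Function.Bijective (cj W t) :=
  (MulAut.conjNormal t⁻¹ : MulAut ↥W).bijective

omit [Finite T] in
theorem map_char_normal {H : Subgroup T} [H.Normal] {K : Subgroup ↥H} [hK : K.Characteristic] :
    (K.map H.subtype).Normal := by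
  constructor
  rintro n ⟨v, hv, rfl⟩ g
  have h := (Subgroup.characteristic_iff_le_comap.mp hK) (MulAut.conjNormal g) hv
  exact ⟨_, h, by simp⟩

/-- The output of the first stage. -/
structure S1 (W : Subgroup T) : Prop where
  hT : IsPGroup 2 T
  hn : W.Normal
  hW : W = Subgroup.centralizer ((𝒵 3 : Subgroup T) : Set T)
  card : Nat.card T = 2 ^ 14
  idx : W.index = 8
  c1 : Nat.card (𝒵 1) = 2
  c2 : Nat.card (𝒵 2) = 4
  c3 : Nat.card (𝒵 3) = 8
  c4 : Nat.card (𝒵 4) = 16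
  fr : (frattini ↥W).map W.subtype = 𝒵 3
  frIdx : (frattini ↥W).index = 2 ^ 8
  hd : ∀ U : Subgroup ↥W, U.index ≤ 16 → frattini ↥W ≤ U
  ex : ∃ (a₀ : ↥W) (M : Subgroup ↥W), IsCoatom M ∧ a₀ ∉ M ∧ (a₀ : T) ∈ 𝒵 4 ∧ (a₀ : T) ∉ 𝒵 3 ∧
    ∀ u : ↥W, (∀ t : T, t⁻¹ * u * t ∈ M.map W.subtype) → u ∈ frattini ↥W

open Cfsg.Agent.Lib.Frat in
theorem stage1 (hT : IsPGroup 2 T) (ha : 2 ^ 14 ≤ Nat.card T) (hb : Nat.card (𝒵 4) = 16)
    (W : Subgroup T) (hW : W = Subgroup.centralizer ((𝒵 3 : Subgroup T) : Set T))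
    (hc : Nat.card ↥(frattini ↥W) ≤ 8)
    (hd : ∀ U : Subgroup ↥W, U.index ≤ 16 → frattini ↥W ≤ U) : S1 W := by
  have : Fact (Nat.Prime 2) := ⟨Nat.prime_two⟩
  obtain ⟨hc0, hc1, hc2, hc3⟩ := card_series hT ha hb
  have hn : W.Normal := by rw [hW]; exact Subgroup.normal_centralizer
  have hidx : W.index ≤ 8 := by rw [hW]; exact index_le_eight hc1 hc2 hc3
  have hWp : IsPGroup 2 ↥W := hT.to_subgroup W
  -- `Y`
  let Y : Subgroup T := (frattini ↥W).map W.subtype
  have hYn : Y.Normal := map_char_normal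
  have hYc : Nat.card Y = Nat.card (frattini ↥W) := Subgroup.card_subtype _ _
  -- `Y = Z k`
  have hYk : ∃ k ≤ 3, Nat.card Y = 2 ^ k ∧ Y = 𝒵 k ∧ Nat.card (𝒵 (k + 1)) = 2 * 2 ^ k := by
    obtain ⟨k, hk⟩ := IsPGroup.iff_card.mp (hT.to_subgroup Y)
    have hk3 : k ≤ 3 := by
      by_contra hk3
      have h1 : 2 ^ 4 ≤ 2 ^ k := Nat.pow_le_pow_right (by norm_num) (by omega)
      omega
    refine ⟨k, hk3, hk, ?_, ?_⟩
    · have h1 : Y ≤ 𝒵 k := le_of_card_lt hT Y k (by
        rw [hk, pow_succ]; have : 0 < 2 ^ k := by positivity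
        omega)
      refine Subgroup.eq_of_le_of_card_ge h1 ?_
      rw [hk]
      interval_cases k
      · rw [hc0]; norm_num
      · rw [hc1]; norm_num
      · rw [hc2]; norm_num
      · rw [hc3]; norm_num
    · interval_cases k
      · rw [hc1]; norm_num
      · rw [hc2]; norm_num
      · rw [hc3]; norm_num
      · rw [hb]; norm_num
  obtain ⟨k, hk3, hYk, hYZ, hZk1⟩ := hYk
  have hZkc : Nat.card (𝒵 k) = 2 ^ k := by rw [← hYZ, hYk]
  have hcardW : Nat.card T = Nat.card W * W.index := (W.card_mul_index).symm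
  -- `a₀`
  have hWZ : ¬ W ≤ 𝒵 k := by
    intro hle
    have h1 : Nat.card W ≤ Nat.card (𝒵 k) := Nat.le_of_dvd Nat.card_pos (Subgroup.card_dvd_of_le hle)
    have h2 : 2 ^ k ≤ 8 := by
      calc 2 ^ k ≤ 2 ^ 3 := Nat.pow_le_pow_right (by norm_num) hk3
        _ = 8 := by norm_num
    have h3 : Nat.card T ≤ 8 * 8 := by
      rw [hcardW]
      exact Nat.mul_le_mul (by omega) hidx
    omega
  obtain ⟨a₀, ha₀W, ha₀1, ha₀0⟩ := exists_next hT W k hWZ
  let a₁ : ↥W := ⟨a₀, ha₀W⟩
  have ha₁F : a₁ ∉ frattini ↥W := by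
    intro h
    apply ha₀0
    rw [← hYZ]
    exact ⟨a₁, h, rfl⟩
  have hexM : ∃ M : Subgroup ↥W, IsCoatom M ∧ a₁ ∉ M := by
    by_contra hcon
    push Not at hcon
    apply ha₁F
    simpa [frattini, Order.radical, Subgroup.mem_iInf] using hcon
  obtain ⟨M, hM, ha₁M⟩ := hexM
  have hMi : M.index = 2 := index_eq_of_isCoatom hWp hM
  have hMn : M.Normal := normal_of_commutator_le (commutator_and_pow_mem_of_isCoatom hWp hM).1
  have hFM : frattini ↥W ≤ M := frattini_le_coatom hM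
  let MT : Subgroup T := M.map W.subtype
  have hmemMT : ∀ u : ↥W, (u : T) ∈ MT ↔ u ∈ M := by
    intro u
    constructor
    · rintro ⟨v, hv, hvu⟩
      have : v = u := Subtype.ext hvu
      rwa [← this]
    · intro h
      exact ⟨u, h, rfl⟩
  -- `D`
  let D : Subgroup T := ⨅ t : T, MT.comap (MulAut.conj t⁻¹).toMonoidHom
  have hmemD : ∀ u, u ∈ D ↔ ∀ t : T, t⁻¹ * u * t ∈ MT := by
    intro u
    simp only [D, Subgroup.mem_iInf, Subgroup.mem_comap]
    constructor
    · intro h t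
      have := h t
      simpa [MulAut.conj_apply] using this
    · intro h t
      simpa [MulAut.conj_apply] using h t
  have hDn : D.Normal := by
    constructor
    intro n hn g
    rw [hmemD] at hn ⊢
    intro t
    have := hn (g⁻¹ * t)
    convert this using 1
    group
  have hDM : D ≤ MT := by
    intro u hu
    have := (hmemD u).1 hu 1
    simpa using this
  have hYD : Y ≤ D := by
    intro y hy
    rw [hmemD]
    intro t
    have h1 : t⁻¹ * y * t ∈ Y := by
      have := hYn.conj_mem y hy t⁻¹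
      simpa using this
    obtain ⟨v, hv, hvu⟩ := h1
    rw [← hvu]
    exact (hmemMT v).2 (hFM hv)
  have hDZ : D ≤ 𝒵 k := by
    by_contra hcon
    obtain ⟨x, hxD, hx1, hx0⟩ := exists_next hT D k hcon
    have h1 : x⁻¹ * a₀ ∈ 𝒵 k := idx2 (Subgroup.upperCentralSeries_mono _ (by omega))
      (by rw [hZk1, hZkc]) ha₀1 hx1 ha₀0 hx0
    have h2 : a₀ ∈ D := by
      have h3 := D.mul_mem hxD (hYD (hYZ ▸ h1))
      simpa using h3
    exact ha₁M ((hmemMT a₁).1 (hDM h2))
  -- the index estimate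
  let Dp : Subgroup ↥W := ⨅ q : T ⧸ W, M.comap (cj W (Quotient.out q))
  have hDpF : Dp ≤ frattini ↥W := by
    intro u hu
    have h1 : (u : T) ∈ D := by
      rw [hmemD]
      intro t
      have hq : (Quotient.out (QuotientGroup.mk t : T ⧸ W))⁻¹ * t ∈ W :=
        QuotientGroup.eq.mp (Quotient.out_eq _)
      set r := Quotient.out (QuotientGroup.mk t : T ⧸ W) with hr
      have h2 : cj W r u ∈ M := by
        have := (Subgroup.mem_iInf.mp hu) (QuotientGroup.mk t)
        exact this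
      let w : ↥W := ⟨r⁻¹ * t, hq⟩
      have h3 : w⁻¹ * (cj W r u) * w ∈ M := by
        have := hMn.conj_mem _ h2 w⁻¹
        simpa using this
      have h4 : t⁻¹ * u * t = ((w⁻¹ * (cj W r u) * w : ↥W) : T) := by
        simp only [Subgroup.coe_mul, Subgroup.coe_inv, cj_coe, w]
        group
      rw [h4]
      exact (hmemMT _).2 h3
    have h2 : (u : T) ∈ 𝒵 k := hDZ h1
    rw [← hYZ] at h2
    obtain ⟨v, hv, hvu⟩ := h2
    have : v = u := Subtype.ext hvu
    rwa [← this]
  have hFi : (frattini ↥W).index ≤ 2 ^ W.index := by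
    have : Fintype (T ⧸ W) := Fintype.ofFinite _
    have h1 : Dp.index ≤ ∏ q : T ⧸ W, (M.comap (cj W (Quotient.out q))).index :=
      Subgroup.index_iInf_le _
    have h2 : ∀ q : T ⧸ W, (M.comap (cj W (Quotient.out q))).index = 2 := by
      intro q
      rw [Subgroup.index_comap_of_surjective _ (cj_bijective W _).2, hMi]
    have h3 : ∏ q : T ⧸ W, (M.comap (cj W (Quotient.out q))).index = 2 ^ W.index := by
      rw [Finset.prod_congr rfl (fun q _ => h2 q), Finset.prod_const, Finset.card_univ,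
        ← Nat.card_eq_fintype_card]
      rfl
    have h4 : (frattini ↥W).index ∣ Dp.index := Subgroup.index_dvd_of_le hDpF
    have h5 : 0 < Dp.index := Nat.pos_of_ne_zero (Subgroup.index_ne_zero_of_finite)
    have h6 := Nat.le_of_dvd h5 h4
    omega
  -- numerics
  have hWc : Nat.card W = Nat.card (frattini ↥W) * (frattini ↥W).index :=
    ((frattini ↥W).card_mul_index).symm
  have hnum : W.index = 8 ∧ (frattini ↥W).index = 2 ^ 8 ∧ Nat.card (frattini ↥W) = 8 := by
    generalize W.index = i at *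
    generalize (frattini ↥W).index = f at *
    generalize Nat.card (frattini ↥W) = y at *
    rw [hcardW, hWc] at ha
    have hi8 : i = 8 := by
      by_contra hne
      have hi7 : i ≤ 7 := by omega
      have h1 : 2 ^ i ≤ 2 ^ 7 := Nat.pow_le_pow_right (by norm_num) hi7
      have h2 : f ≤ 128 := by omega
      have h3 : y * f * i ≤ 8 * 128 * 7 :=
        Nat.mul_le_mul (Nat.mul_le_mul hc h2) hi7
      omega
    subst hi8
    have hf : f ≤ 256 := hFi
    have hy8 : y = 8 := by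
      by_contra hne
      have h3 : y * f * 8 ≤ 7 * 256 * 8 :=
        Nat.mul_le_mul (Nat.mul_le_mul (by omega) hf) le_rfl
      omega
    subst hy8
    have hf' : f = 256 := by
      by_contra hne
      have h3 : 8 * f * 8 ≤ 8 * 255 * 8 :=
        Nat.mul_le_mul (Nat.mul_le_mul le_rfl (by omega)) le_rfl
      omega
    subst hf'
    exact ⟨rfl, rfl, rfl⟩
  obtain ⟨hi8, hf8, hy8⟩ := hnum
  have hk3' : k = 3 := by
    rw [hYc, hy8] at hYk
    have h8 : (2 : ℕ) ^ k = 2 ^ 3 := by rw [← hYk]; norm_num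
    exact Nat.pow_right_injective (le_refl 2) h8
  subst hk3'
  refine
    { hT := hT, hn := hn, hW := hW, card := ?_, idx := hi8, c1 := hc1, c2 := hc2, c3 := hc3,
      c4 := hb, fr := hYZ, frIdx := hf8, hd := hd, ex := ?_ }
  · rw [hcardW, hWc, hy8, hf8, hi8]
    norm_num
  · refine ⟨a₁, M, hM, ha₁M, ha₀1, ha₀0, ?_⟩
    intro u hu
    have h1 : (u : T) ∈ 𝒵 3 := hDZ ((hmemD _).2 hu)
    rw [← hYZ] at h1
    obtain ⟨v, hv, hvu⟩ := h1
    have : v = u := Subtype.ext hvu
    rwa [← this]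

end Cfsg.Agent.Lib.T14A
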