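import Mathlib
import Cfsg.Agent.Lib.T14A

/-!
# Groups of order 64 with a fixed-point-free automorphism of order three
-/

set_option autoImplicit false
set_option linter.unusedSectionVars false
set_option linter.unusedSimpArgs false

namespace Cfsg.Agent.Lib.T64

open Cfsg.Agent.Lib.T14A

variable {T : Type*} [Group T] [Finite T]

/-- A fixed point free automorphism of order three. -/
structure Fpf (ρ : MulAut T) : Prop where
  r3 : ∀ t, ρ (ρ (ρ t)) = t
  fp : ∀ y, ρ y = y → y = 1

variable {ρ : MulAut T} (h : Fpf ρ)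
include h

theorem norm_one (g : T) : g * ρ g * ρ (ρ g) = 1 := by
  have hinj : Function.Injective (fun y : T => y⁻¹ * ρ y) := by
    intro y y' hy
    have h1 : y⁻¹ * ρ y = y'⁻¹ * ρ y' := hy
    have h2 : ρ (y' * y⁻¹) = y' * y⁻¹ := by
      rw [map_mul, map_inv]
      calc ρ y' * (ρ y)⁻¹ = y' * (y'⁻¹ * ρ y') * (ρ y)⁻¹ := by group
        _ = y' * (y⁻¹ * ρ y) * (ρ y)⁻¹ := by rw [h1]
        _ = _ := by group
    have h3 := h.fp _ h2
    rw [mul_inv_eq_one] at h3
    exact h3.symm
  obtain ⟨y, rfl⟩ := (Finite.injective_iff_surjective.mp hinj) g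
  simp only [map_mul, map_inv, h.r3]
  group

theorem comm_self (a : T) : a * ρ a = ρ a * a := by
  have h1 := norm_one h (a * ρ a)
  simp only [map_mul, h.r3] at h1
  have h2 : ρ (ρ a) = (a * ρ a)⁻¹ := eq_inv_of_mul_eq_one_right (norm_one h a)
  rw [h2] at h1
  have h3 : a * ρ a * (ρ a * (a * ρ a)⁻¹) * ((a * ρ a)⁻¹ * a) = a * ρ a * a⁻¹ * (ρ a)⁻¹ := by group
  rw [h3] at h1
  rw [mul_inv_eq_one, mul_inv_eq_iff_eq_mul] at h1
  exact h1

/-- `ρ` has no fixed coset of an invariant subgroup other than the subgroup. -/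
theorem mem_of_fix_coset {M : Subgroup T} (hM : ∀ m ∈ M, ρ m ∈ M) {a : T} (ha : a⁻¹ * ρ a ∈ M) :
    a ∈ M := by
  let f : ↥M → ↥M := fun w => w * ⟨(ρ w)⁻¹, M.inv_mem (hM w w.2)⟩
  have hinj : Function.Injective f := by
    intro v w hvw
    have h1 : (v : T) * (ρ v)⁻¹ = w * (ρ w)⁻¹ := congrArg Subtype.val hvw
    have h2 : ρ ((w : T)⁻¹ * v) = (w : T)⁻¹ * v := by
      rw [map_mul, map_inv]
      calc (ρ w)⁻¹ * ρ v = (w : T)⁻¹ * (w * (ρ w)⁻¹) * ρ v := by group
        _ = (w : T)⁻¹ * (v * (ρ v)⁻¹) * ρ v := by rw [h1]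
        _ = _ := by group
    have h3 := h.fp _ h2
    apply Subtype.ext
    rw [inv_mul_eq_one] at h3
    exact h3.symm
  obtain ⟨w, hw⟩ := (Finite.injective_iff_surjective.mp hinj) ⟨_, ha⟩
  have hw' : (w : T) * (ρ w)⁻¹ = a⁻¹ * ρ a := congrArg Subtype.val hw
  have h2 : ρ (a * w) = a * w := by
    rw [map_mul]
    calc ρ a * ρ w = a * (a⁻¹ * ρ a) * ρ w := by group
      _ = a * (w * (ρ w)⁻¹) * ρ w := by rw [hw']
      _ = _ := by group
  have h3 := h.fp _ h2
  have h4 : a = (w : T)⁻¹ := eq_inv_of_mul_eq_one_left h3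
  rw [h4]
  exact M.inv_mem w.2

/-- The order of an invariant subgroup is `1` modulo `3`. -/
theorem card_mod3 {M : Subgroup T} (hM : ∀ m ∈ M, ρ m ∈ M) : Nat.card M % 3 = 1 := by
  classical
  have : Fact (Nat.Prime 3) := ⟨Nat.prime_three⟩
  have : Fintype ↥M := Fintype.ofFinite _
  let f : Function.End ↥M := fun m => ⟨ρ m, hM m m.2⟩
  have hf : f ^ (3 ^ 1) = 1 := by
    funext m
    apply Subtype.ext
    exact h.r3 m
  have h1 := Equiv.Perm.card_fixedPoints_modEq (p := 3) (n := 1) hf
  have h3 : Fintype.card f.fixedPoints = 1 := by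
    rw [Fintype.card_eq_one_iff]
    refine ⟨⟨1, ?_⟩, ?_⟩
    · apply Subtype.ext
      exact map_one ρ
    · rintro ⟨m, hm⟩
      apply Subtype.ext
      apply Subtype.ext
      have h4 : ρ (m : T) = m := congrArg Subtype.val hm
      exact h.fp _ h4
  rw [h3] at h1
  have h5 : Fintype.card ↥M % 3 = 1 % 3 := h1
  rw [Nat.card_eq_fintype_card, h5]

/-- Invariant subgroups of a group of order 64 have order 1, 4, 16 or 64. -/
theorem card_cases (hT : Nat.card T = 64) {M : Subgroup T} (hM : ∀ m ∈ M, ρ m ∈ M) :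
    Nat.card M = 1 ∨ Nat.card M = 4 ∨ Nat.card M = 16 ∨ Nat.card M = 64 := by
  have h1 := card_mod3 h hM
  have h2 : Nat.card M ∣ 2 ^ 6 := by
    have := Subgroup.card_subgroup_dvd_card M
    rwa [hT] at this
  obtain ⟨k, hk, hk2⟩ := (Nat.dvd_prime_pow Nat.prime_two).mp h2
  rw [hk2] at h1 ⊢
  interval_cases k <;> simp_all

/-- A crucial reduction: if `M` is invariant of index four, central modulo `N`, then `T / N` is
abelian. -/
theorem comm_mod {M N : Subgroup T} [hMn : M.Normal] [hNn : N.Normal] (hM : ∀ m ∈ M, ρ m ∈ M)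
    (hidx : M.index = 4) (hc : ∀ t, ∀ m ∈ M, t * m * t⁻¹ * m⁻¹ ∈ N) (s t : T) :
    s * t * s⁻¹ * t⁻¹ ∈ N := by
  classical
  have hne : M ≠ ⊤ := by
    rintro rfl
    simp at hidx
  obtain ⟨a, ha⟩ : ∃ a, a ∉ M := by
    by_contra hcon
    push Not at hcon
    exact hne (Subgroup.eq_top_iff' _ |>.mpr hcon)
  have hρa : ρ a ∉ M := fun h1 => ha (by
    have := hM _ (hM _ h1)
    rwa [h.r3] at this)
  have hρρa : ρ (ρ a) ∉ M := fun h1 => ha (by
    have := hM _ h1
    rwa [h.r3] at this)
  let c : Fin 4 → T := ![1, a, ρ a, ρ (ρ a)]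
  have hinj : Function.Injective (fun i => (QuotientGroup.mk (c i) : T ⧸ M)) := by
    have key : ∀ i j : Fin 4, i < j → (c i)⁻¹ * c j ∉ M := by
      intro i j hij
      fin_cases i <;> fin_cases j <;> simp at hij <;> simp [c]
      · exact ha
      · exact hρa
      · exact hρρa
      · exact fun h1 => ha (mem_of_fix_coset h hM h1)
      · intro h1
        apply hρρa
        apply mem_of_fix_coset h hM
        have h2 := M.inv_mem h1
        simpa [h.r3] using h2
      · exact fun h1 => hρa (mem_of_fix_coset h hM h1)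
    intro i j hij
    have hij' : (c i)⁻¹ * c j ∈ M := QuotientGroup.eq.mp hij
    by_contra hne'
    rcases lt_or_gt_of_ne hne' with hlt | hlt
    · exact key i j hlt hij'
    · apply key j i hlt
      have := M.inv_mem hij'
      simpa using this
  have hbij : Function.Bijective (fun i => (QuotientGroup.mk (c i) : T ⧸ M)) := by
    rw [Nat.bijective_iff_injective_and_card]
    refine ⟨hinj, ?_⟩
    rw [Nat.card_eq_fintype_card, Fintype.card_fin]
    exact hidx.symm
  have hcov : ∀ g : T, ∃ i, (c i)⁻¹ * g ∈ M := by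
    intro g
    obtain ⟨i, hi⟩ := hbij.2 (QuotientGroup.mk g)
    exact ⟨i, QuotientGroup.eq.mp hi⟩
  have hcc : ∀ i j, c i * c j = c j * c i := by
    have h1 := comm_self h a
    have h2 := comm_self h (ρ a)
    have h3 := comm_self h (ρ (ρ a))
    rw [h.r3] at h3
    intro i j
    fin_cases i <;> fin_cases j <;> simp [c, h1, h2, h3]
  let π := QuotientGroup.mk' N
  have hcen : ∀ m ∈ M, ∀ g : T, π m * π g = π g * π m := by
    intro m hm g
    have h1 : π (g * m * g⁻¹ * m⁻¹) = 1 := (QuotientGroup.eq_one_iff _).2 (hc g m hm)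
    simp only [map_mul, map_inv] at h1
    rw [mul_inv_eq_one, mul_inv_eq_iff_eq_mul] at h1
    exact h1.symm
  obtain ⟨i, hi⟩ := hcov s
  obtain ⟨j, hj⟩ := hcov t
  have hs : s = c i * ((c i)⁻¹ * s) := by group
  have ht : t = c j * ((c j)⁻¹ * t) := by group
  have hgoal : π s * π t = π t * π s := by
    generalize (c i)⁻¹ * s = m at hs hi
    generalize (c j)⁻¹ * t = m' at ht hj
    rw [hs, ht]
    simp only [map_mul]
    have h1 : π (c i) * π (c j) = π (c j) * π (c i) := by
      rw [← map_mul, ← map_mul, hcc]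
    calc π (c i) * π m * (π (c j) * π m') = π (c i) * (π m * π (c j)) * π m' := by group
      _ = π (c i) * (π (c j) * π m) * π m' := by rw [hcen m hi]
      _ = (π (c i) * π (c j)) * (π m * π m') := by group
      _ = (π (c j) * π (c i)) * (π m' * π m) := by rw [h1, hcen m hi m']
      _ = π (c j) * (π (c i) * π m') * π m := by group
      _ = π (c j) * (π m' * π (c i)) * π m := by rw [hcen m' hj]
      _ = _ := by group
  apply (QuotientGroup.eq_one_iff _).1
  change π (s * t * s⁻¹ * t⁻¹) = 1
  simp only [map_mul, map_inv]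
  rw [hgoal]
  group

/-- The structure theorem: the centre has order four and contains all commutators. -/
theorem struct (hT : Nat.card T = 64) (hna : ¬ IsMulCommutative T) :
    Nat.card (Subgroup.center T) = 4 ∧ ∀ s t : T, s * t * s⁻¹ * t⁻¹ ∈ Subgroup.center T := by
  have hp : IsPGroup 2 T := by
    apply IsPGroup.of_card (n := 6)
    rw [hT]; norm_num
  have hchar : ∀ i, ∀ m ∈ Subgroup.upperCentralSeries T i, ρ m ∈ Subgroup.upperCentralSeries T i :=
    fun i m hm => (Subgroup.characteristic_iff_le_comap.mp inferInstance) ρ hm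
  have hnot : ∀ i, Nat.card (Subgroup.upperCentralSeries T i) = 64 →
      Subgroup.upperCentralSeries T i = ⊤ := by
    intro i hi
    apply Subgroup.eq_top_of_card_eq
    rw [hi, hT]
  have hnil : Group.IsNilpotent T := hp.isNilpotent
  have hcm : ¬ ∀ a b : T, a * b = b * a := fun hh => hna (isMulCommutative_iff.mpr hh)
  have hnc : Subgroup.upperCentralSeries T 1 ≠ ⊤ := by
    rw [Subgroup.upperCentralSeries_one]
    intro htop
    apply hcm
    intro a b
    have hb : b ∈ Subgroup.center T := htop ▸ Subgroup.mem_top b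
    exact (Subgroup.mem_center_iff.mp hb a)
  have hne0 : Nat.card (Subgroup.upperCentralSeries T 1) ≠ 1 := by
    intro h1
    have h2 : Subgroup.upperCentralSeries T 1 = ⊥ := Subgroup.card_eq_one.mp h1
    have h3 : Subgroup.upperCentralSeries T 0 = Subgroup.upperCentralSeries T 1 := by
      rw [h2]; rfl
    have h4 := Subgroup.upperCentralSeries.eq_top (by omega) h3
    have h5 : Subgroup.upperCentralSeries T 1 = ⊤ :=
      top_le_iff.mp (h4 ▸ Subgroup.upperCentralSeries_mono T (by omega))
    exact hnc h5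
  have hidx : ∀ i, Nat.card (Subgroup.upperCentralSeries T i) = 16 →
      (Subgroup.upperCentralSeries T i).index = 4 := by
    intro i hi
    have h1 := (Subgroup.upperCentralSeries T i).card_mul_index
    rw [hi, hT] at h1
    omega
  have h16 : Nat.card (Subgroup.upperCentralSeries T 1) ≠ 16 := by
    intro h1
    apply hcm
    intro a b
    have h2 := comm_mod h (M := Subgroup.upperCentralSeries T 1) (N := Subgroup.upperCentralSeries T 0)
      (hchar 1) (hidx 1 h1) (fun t m hm => conj_comm_mem hm t) a b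
    have h3 : a * b * a⁻¹ * b⁻¹ = 1 := by simpa using h2
    rw [mul_inv_eq_one, mul_inv_eq_iff_eq_mul] at h3
    exact h3
  have hc1 : Nat.card (Subgroup.upperCentralSeries T 1) = 4 := by
    rcases card_cases h hT (hchar 1) with h1 | h1 | h1 | h1
    · exact absurd h1 hne0
    · exact h1
    · exact absurd h1 h16
    · exact absurd (hnot 1 h1) hnc
  have hZ2 : Subgroup.upperCentralSeries T 2 = ⊤ := by
    rcases card_cases h hT (hchar 2) with h1 | h1 | h1 | h1
    · exfalso
      have h2 : Nat.card (Subgroup.upperCentralSeries T 1) ≤ Nat.card (Subgroup.upperCentralSeries T 2) :=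
        Nat.le_of_dvd Nat.card_pos (Subgroup.card_dvd_of_le (Subgroup.upperCentralSeries_mono T (by omega)))
      omega
    · exfalso
      have h2 : Subgroup.upperCentralSeries T 1 = Subgroup.upperCentralSeries T 2 :=
        Subgroup.eq_of_le_of_card_ge (Subgroup.upperCentralSeries_mono T (by omega)) (by rw [h1, hc1])
      exact hnc (Subgroup.upperCentralSeries.eq_top (by omega) h2)
    · have h2 := comm_mod h (M := Subgroup.upperCentralSeries T 2) (N := Subgroup.upperCentralSeries T 1)
        (hchar 2) (hidx 2 h1) (fun t m hm => conj_comm_mem hm t)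
      rw [eq_top_iff]
      intro x _
      rw [Subgroup.mem_upperCentralSeries_succ_iff]
      intro y
      rw [commutatorElement_def]
      exact h2 x y
    · exact hnot 2 h1
  constructor
  · rw [← Subgroup.upperCentralSeries_one]
    exact hc1
  · intro s t
    have h1 : s ∈ Subgroup.upperCentralSeries T (1 + 1) := by
      change s ∈ Subgroup.upperCentralSeries T 2
      rw [hZ2]
      exact Subgroup.mem_top s
    have h2 := Subgroup.mem_upperCentralSeries_succ_iff.mp h1 t
    rw [commutatorElement_def, Subgroup.upperCentralSeries_one] at h2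
    exact h2

omit h in
theorem center_map (ρ : MulAut T) {z : T} (hz : z ∈ Subgroup.center T) :
    ρ z ∈ Subgroup.center T := by
  rw [Subgroup.mem_center_iff] at hz ⊢
  intro g
  have h1 := hz (ρ⁻¹ g)
  have h2 := congrArg ρ h1
  simpa using h2

/-- Enumeration of the centre. -/
theorem enum_center (hc4 : Nat.card (Subgroup.center T) = 4) {c : T} (hc : c ∈ Subgroup.center T)
    (hc1 : c ≠ 1) {z : T} (hz : z ∈ Subgroup.center T) :
    z = 1 ∨ z = c ∨ z = ρ c ∨ z = ρ (ρ c) := by
  classical
  let e : Fin 4 → ↥(Subgroup.center T) := ![1, ⟨c, hc⟩, ⟨ρ c, center_map ρ hc⟩,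
    ⟨ρ (ρ c), center_map ρ (center_map ρ hc)⟩]
  have hρ1 : ρ c ≠ 1 := fun h1 => hc1 (by simpa using h1)
  have hρ2 : ρ (ρ c) ≠ 1 := fun h1 => hc1 (by simpa using h1)
  have h12 : ρ c ≠ c := fun h1 => hc1 (h.fp _ h1)
  have h13 : ρ (ρ c) ≠ c := fun h1 => hc1 (by
    apply h.fp
    have h2 := congrArg ρ h1
    rw [h.r3] at h2
    exact h2.symm)
  have h23 : ρ (ρ c) ≠ ρ c := fun h1 => h12 (ρ.injective h1)
  have hinj : Function.Injective e := by
    intro i j hij
    have hij' : ((e i : ↥(Subgroup.center T)) : T) = e j := congrArg Subtype.val hij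
    fin_cases i <;> fin_cases j <;> first | rfl | exfalso
    all_goals simp [e] at hij'
    all_goals first
      | exact hc1 hij'.symm
      | exact hρ1 hij'.symm
      | exact hρ2 hij'.symm
      | exact hc1 hij'
      | exact h12 hij'.symm
      | exact h13 hij'.symm
      | exact hρ1 hij'
      | exact h12 hij'
      | exact h23 hij'.symm
      | exact hρ2 hij'
      | exact h13 hij'
      | exact h23 hij'
  have hbij : Function.Bijective e := by
    rw [Nat.bijective_iff_injective_and_card]
    refine ⟨hinj, ?_⟩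
    rw [hc4]
    simp
  obtain ⟨i, hi⟩ := hbij.2 ⟨z, hz⟩
  have hi' : ((e i : ↥(Subgroup.center T)) : T) = z := congrArg Subtype.val hi
  fin_cases i
  · left; simpa [e] using hi'.symm
  · right; left; simpa [e] using hi'.symm
  · right; right; left; simpa [e] using hi'.symm
  · right; right; right; simpa [e] using hi'.symm

/-- Elements of the centre are involutions. -/
theorem sq_center (hc4 : Nat.card (Subgroup.center T) = 4) {z : T} (hz : z ∈ Subgroup.center T) :
    z * z = 1 := by
  by_contra hne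
  have hzz := (Subgroup.center T).mul_mem hz hz
  have h4 : (z * z) * (z * z) = 1 := by
    have h1 : z ^ Nat.card (Subgroup.center T) = 1 := by
      have := pow_card_eq_one' (x := (⟨z, hz⟩ : Subgroup.center T))
      exact congrArg Subtype.val this
    rw [hc4] at h1
    rw [← h1]
    simp only [pow_succ, pow_zero, one_mul, mul_assoc]
  have h5 : ρ (z * z) * ρ (z * z) = 1 := by
    rw [← map_mul, h4, map_one]
  have h6 : ρ (ρ (z * z)) * ρ (ρ (z * z)) = 1 := by
    rw [← map_mul, h5, map_one]
  rcases enum_center h hc4 hzz hne hz with h1 | h1 | h1 | h1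
  · rw [h1] at hne; simp at hne
  · rw [h1] at hne
    exact hne h4
  · rw [h1] at hne
    exact hne h5
  · rw [h1] at hne
    exact hne h6

end Cfsg.Agent.Lib.T64

namespace Cfsg.Agent.Lib.T64

variable {T : Type*} [Group T]

/-- Class at most two with elementary central commutators. -/
structure Cl (T : Type*) [Group T] : Prop where
  cen : ∀ s t : T, s * t * s⁻¹ * t⁻¹ ∈ Subgroup.center T
  sqz : ∀ z ∈ Subgroup.center T, z * z = 1

/-- The commutator. -/
def cm (a b : T) : T := a * b * a⁻¹ * b⁻¹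

theorem central {z : T} (hz : z ∈ Subgroup.center T) (g : T) : g * z = z * g :=
  Subgroup.mem_center_iff.mp hz g

section
variable (h : Cl T)
include h

theorem cm_mem (a b : T) : cm a b ∈ Subgroup.center T := h.cen a b

theorem cm_inv' (a b : T) : (cm a b)⁻¹ = cm a b :=
  inv_eq_of_mul_eq_one_left (h.sqz _ (cm_mem h a b))

theorem cm_symm (a b : T) : cm b a = cm a b := by
  rw [← cm_inv' h a b]
  simp only [cm]; group

theorem cm_mul_left (a b c : T) : cm (a * b) c = cm a c * cm b c := by
  have h1 : cm (a * b) c = a * cm b c * (c * a⁻¹ * c⁻¹) := by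
    simp only [cm]; group
  have h2 : c * a⁻¹ * c⁻¹ = a⁻¹ * (cm a c) := by simp only [cm]; group
  rw [h1, h2, ← mul_assoc, central (cm_mem h b c) a]
  have h3 : cm b c * a * a⁻¹ * cm a c = cm b c * cm a c := by group
  rw [h3]
  exact central (cm_mem h a c) _

theorem cm_mul_right (a b c : T) : cm a (b * c) = cm a b * cm a c := by
  rw [← cm_symm h, cm_mul_left h, cm_symm h b, cm_symm h c]

omit h in
theorem cm_one_left (b : T) : cm 1 b = (1 : T) := by simp [cm]

omit h in
theorem cm_one_right (b : T) : cm b 1 = (1 : T) := by simp [cm]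

omit h in
theorem cm_self (b : T) : cm b b = (1 : T) := by simp [cm]

theorem cm_inv_left (a b : T) : cm a⁻¹ b = cm a b := by
  have h1 := cm_mul_left h a⁻¹ a b
  rw [inv_mul_cancel, cm_one_left] at h1
  have h2 : cm a⁻¹ b = (cm a b)⁻¹ := eq_inv_of_mul_eq_one_left h1.symm
  rw [h2, cm_inv' h]

theorem cm_inv_right (a b : T) : cm a b⁻¹ = cm a b := by
  rw [← cm_symm h, cm_inv_left h, cm_symm h]

theorem sq_mem (a : T) : a * a ∈ Subgroup.center T := by
  rw [Subgroup.mem_center_iff]
  intro b
  have h1 := cm_mul_left h a a b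
  rw [h.sqz _ (cm_mem h a b)] at h1
  have h2 : a * a * b * (a * a)⁻¹ * b⁻¹ = 1 := h1
  rw [mul_inv_eq_one, mul_inv_eq_iff_eq_mul] at h2
  exact h2.symm

theorem cm_eq (a b : T) : cm a b = (a * b) * (a * b) * (a * a)⁻¹ * (b * b)⁻¹ := by
  have hc : b * (a * a)⁻¹ = (a * a)⁻¹ * b := central (Subgroup.inv_mem _ (sq_mem h a)) b
  calc cm a b = a * b * a * ((a * a)⁻¹ * b) * (b * b)⁻¹ := by
        simp only [cm]; group
    _ = a * b * a * (b * (a * a)⁻¹) * (b * b)⁻¹ := by rw [hc]
    _ = _ := by group

theorem sq_mul (a b : T) : (a * b) * (a * b) = a * a * (b * b) * cm a b := by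
  have h1 : (a * b) * (a * b) = cm a b * (b * b) * (a * a) := by
    rw [cm_eq h]; group
  rw [h1, central (sq_mem h a) (cm a b * (b * b)), mul_assoc (a * a) (b * b),
    central (cm_mem h a b) (b * b)]

end

section Rho

variable {ρ : MulAut T} [Finite T] (h : Cl T) (hρ : Fpf ρ)
include h hρ

omit [Finite T] h hρ in
theorem cm_map (f : MulAut T) (a b : T) : f (cm a b) = cm (f a) (f b) := by
  simp only [cm, map_mul, map_inv]

omit [Finite T] hρ in
theorem ac_aux {c d e f : T} (hc : c ∈ Subgroup.center T) (hd : d ∈ Subgroup.center T)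
    (he : e ∈ Subgroup.center T) (h1 : c * d * (c * e * (f * d)) = 1) : f = e := by
  have hcc := h.sqz c hc
  have hdd := h.sqz d hd
  have hee := h.sqz e he
  have h2 : c * d * (c * e * (f * d)) = e * f := by
    calc c * d * (c * e * (f * d)) = c * (d * c) * e * f * d := by group
      _ = c * (c * d) * e * f * d := by rw [central hc d]
      _ = (c * c) * d * (e * f * d) := by group
      _ = d * (d * (e * f)) := by rw [hcc, one_mul, central hd (e * f)]
      _ = (d * d) * (e * f) := by group
      _ = e * f := by rw [hdd, one_mul]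
  rw [h2] at h1
  have h3 : f = e⁻¹ := eq_inv_of_mul_eq_one_right h1
  rw [h3]
  exact inv_eq_of_mul_eq_one_left hee

/-- `ρ` can be moved across the commutator form. -/
theorem cm_rho_left (a b : T) : cm (ρ a) b = cm a (ρ b) := by
  have h1 := norm_one hρ (cm a b)
  rw [cm_map, cm_map] at h1
  have ha : ρ (ρ a) = (a * ρ a)⁻¹ := eq_inv_of_mul_eq_one_right (norm_one hρ a)
  have hb : ρ (ρ b) = (b * ρ b)⁻¹ := eq_inv_of_mul_eq_one_right (norm_one hρ b)
  rw [ha, hb, cm_inv_left h, cm_inv_right h, cm_mul_left h, cm_mul_right h, cm_mul_right h] at h1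
  exact ac_aux h (cm_mem h _ _) (cm_mem h _ _) (cm_mem h _ _) h1

theorem cm_rho_right (a b : T) : cm a (ρ b) = ρ (ρ (cm a b)) := by
  have h2 : ∀ x, ρ (cm a x) = cm a (ρ (ρ x)) := by
    intro x
    rw [cm_map]
    exact cm_rho_left h hρ a (ρ x)
  have h3 := h2 (ρ b)
  rw [hρ.r3] at h3
  rw [← h3, hρ.r3]

end Rho

/-- From the hypotheses of the theorem to the class two structure. -/
theorem cl_of_fpf [Finite T] {ρ : MulAut T} (hρ : Fpf ρ) (hT : Nat.card T = 64)
    (hna : ¬ IsMulCommutative T) : Cl T ∧ Nat.card (Subgroup.center T) = 4 := by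
  obtain ⟨h1, h2⟩ := struct hρ hT hna
  exact ⟨⟨h2, fun z hz => sq_center hρ h1 hz⟩, h1⟩

end Cfsg.Agent.Lib.T64
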