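import Mathlib
import Cfsg.Agent.Lib.SelfCent
import Cfsg.Agent.Lib.SelfCent2
import Cfsg.Agent.Lib.T64
import Cfsg.Agent.Lib.PCore
import Cfsg.Agent.S3779

/-!
# Self-centralizing elements of order three: invariant subgroups of order prime to `3`

`a : G` has order `3` and `C_G(a) = ⟨a⟩`.  A subgroup `N` normalized by `a`, of order prime to `3`,
admits a fixed-point-free automorphism of order three; it is nilpotent of class at most two.
-/

set_option autoImplicit false
set_option linter.style.haveILetI false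
set_option linter.unusedSectionVars false

namespace Cfsg.Agent.Lib.FT3Basic

open Subgroup Cfsg.Agent.Lib.SelfCent Cfsg.Agent.Lib.T64
open scoped commutatorElement

universe u

variable {G : Type u} [Group G]

/-- `N` is normalized by `a` and has order prime to `3`. -/
structure AInv (a : G) (N : Subgroup G) : Prop where
  inv : ∀ n ∈ N, a * n * a⁻¹ ∈ N
  nd : ¬ 3 ∣ Nat.card N

section Basic

variable [Finite G] {a : G} (h : Hyp 3 a)
include h

theorem a_cube : a ^ 3 = 1 := by
  rw [← h.hx]; exact pow_orderOf_eq_one a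

theorem a_mul3 : a * a * a = 1 := by
  have := a_cube h
  rwa [pow_succ, pow_two] at this

theorem a_inv_eq : a⁻¹ = a * a := by
  have := a_mul3 h
  rw [inv_eq_iff_mul_eq_one]
  rw [← this, mul_assoc]

theorem a_ne_one : a ≠ 1 := by
  intro h1
  have := h.hx
  rw [h1, orderOf_one] at this
  omega

theorem a_inv_ne : a⁻¹ ≠ a := by
  intro h1
  have h2 := a_inv_eq h
  rw [h1] at h2
  have h3 : a = 1 := by
    have : a * a = a * 1 := by rw [← h2, mul_one]
    exact mul_left_cancel this
  exact a_ne_one h h3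

theorem AInv.inv' {N : Subgroup G} (hN : AInv a N) {n : G} (hn : n ∈ N) : a⁻¹ * n * a ∈ N := by
  have h1 := hN.inv _ (hN.inv n hn)
  have h2 : a * (a * n * a⁻¹) * a⁻¹ = a⁻¹ * n * a := by
    rw [a_inv_eq h]
    have h4 : a * a * a = 1 := a_mul3 h
    have h5 : a * (a * n * (a * a)) * (a * a) = a * a * n * (a * a * a) * a := by
      simp only [mul_assoc]
    have h6 : (a * a) * n * a = a * a * n * (a * a * a) * a := by rw [h4, mul_one]
    rw [h5, ← h6]
  rwa [h2] at h1

theorem mem_zpowers_of_comm {g : G} (hg : a * g * a⁻¹ = g) : g ∈ zpowers a := by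
  apply h.mem_zpowers_of_commute
  calc g * a = a * g * a⁻¹ * a := by rw [hg]
    _ = a * g := by group

theorem orderOf_dvd_three_of_mem {g : G} (hg : g ∈ zpowers a) : orderOf g ∣ 3 := by
  have h1 : orderOf (⟨g, hg⟩ : zpowers a) ∣ Nat.card (zpowers a) := orderOf_dvd_natCard _
  rw [Subgroup.orderOf_mk, h.card_zpowers] at h1
  exact h1

theorem AInv.eq_one_of_fix {N : Subgroup G} (hN : AInv a N) {n : G} (hn : n ∈ N)
    (hf : a * n * a⁻¹ = n) : n = 1 := by
  have h1 := orderOf_dvd_three_of_mem h (mem_zpowers_of_comm h hf)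
  have h2 : orderOf (⟨n, hn⟩ : N) ∣ Nat.card N := orderOf_dvd_natCard _
  rw [Subgroup.orderOf_mk] at h2
  rcases (Nat.dvd_prime Nat.prime_three).1 h1 with h3 | h3
  · exact orderOf_eq_one_iff.1 h3
  · rw [h3] at h2
    exact absurd h2 hN.nd

/-- Conjugation by `a` on an invariant subgroup. -/
noncomputable def rho {N : Subgroup G} (hN : AInv a N) : MulAut N where
  toFun n := ⟨a * n * a⁻¹, hN.inv n n.2⟩
  invFun n := ⟨a⁻¹ * n * a, hN.inv' h n.2⟩
  left_inv n := by ext; simp [mul_assoc]
  right_inv n := by ext; simp [mul_assoc]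
  map_mul' x y := by ext; simp [mul_assoc]

theorem rho_coe {N : Subgroup G} (hN : AInv a N) (n : N) : ((rho h hN n : N) : G) = a * n * a⁻¹ := rfl

theorem rho_fpf {N : Subgroup G} (hN : AInv a N) : Fpf (rho h hN) := by
  constructor
  · intro t
    apply Subtype.ext
    simp only [rho_coe]
    have h4 : a * (a * (a * (t : G) * a⁻¹) * a⁻¹) * a⁻¹ = (a * a * a) * t * (a * a * a)⁻¹ := by
      simp only [mul_inv_rev, mul_assoc]
    rw [h4, a_mul3 h]
    simp
  · intro y hy
    apply Subtype.ext
    have h1 : a * (y : G) * a⁻¹ = y := by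
      have := congrArg Subtype.val hy
      rwa [rho_coe] at this
    exact hN.eq_one_of_fix h y.2 h1

theorem AInv.norm {N : Subgroup G} (hN : AInv a N) {n : G} (hn : n ∈ N) :
    n * (a * n * a⁻¹) * (a * (a * n * a⁻¹) * a⁻¹) = 1 := by
  have h1 := norm_one (rho_fpf h hN) (⟨n, hn⟩ : N)
  have h2 := congrArg Subtype.val h1
  simpa [rho_coe, mul_assoc] using h2

theorem AInv.comm {N : Subgroup G} (hN : AInv a N) {n : G} (hn : n ∈ N) :
    n * (a * n * a⁻¹) = (a * n * a⁻¹) * n := by
  have h1 := comm_self (rho_fpf h hN) (⟨n, hn⟩ : N)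
  have h2 := congrArg Subtype.val h1
  simpa [rho_coe, mul_assoc] using h2

theorem AInv.card_mod3 {N : Subgroup G} (hN : AInv a N) : Nat.card N % 3 = 1 := by
  have := T64.card_mod3 (rho_fpf h hN) (M := ⊤) (fun m _ => Subgroup.mem_top _)
  rwa [Subgroup.card_top] at this

theorem AInv.isNilpotent {N : Subgroup G} (hN : AInv a N) : Group.IsNilpotent N := by
  apply Cfsg.Agent.Lib.Kegel.nilpotent_of_fpf (rho h hN) (rho_fpf h hN).fp Nat.prime_three
  ext t
  have := (rho_fpf h hN).r3 t
  simpa [pow_succ, MulAut.mul_apply] using congrArg Subtype.val this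

/-- Nilpotency class at most two. -/
theorem AInv.lcs_two {N : Subgroup G} (hN : AInv a N) :
    (⊤ : Subgroup N).lowerCentralSeries 2 = ⊥ := by
  by_cases hn : Nontrivial N
  · have hpow : (rho h hN) ^ 3 = 1 := by
      ext t
      have := (rho_fpf h hN).r3 t
      simpa [pow_succ, MulAut.mul_apply] using congrArg Subtype.val this
    have hne : rho h hN ≠ 1 := by
      intro h1
      obtain ⟨y, hy⟩ := exists_ne (1 : N)
      apply hy
      apply (rho_fpf h hN).fp
      rw [h1]
      rfl
    haveI : Fact (Nat.Prime 3) := ⟨Nat.prime_three⟩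
    have hord : orderOf (rho h hN) = 3 := orderOf_eq_prime hpow hne
    exact (Cfsg.Agent.S3779.result Nat.prime_three (rho h hN) hord (rho_fpf h hN).fp).2.1 rfl
  · rw [not_nontrivial_iff_subsingleton] at hn
    apply Subsingleton.elim

/-- Commutators are central in `N`. -/
theorem AInv.comm_central {N : Subgroup G} (hN : AInv a N) (x y z : N) :
    ⁅x, y⁆ * z = z * ⁅x, y⁆ := by
  have h1 := hN.lcs_two h
  have h2 : ⁅⁅x, y⁆, z⁆ ∈ (⊤ : Subgroup N).lowerCentralSeries 2 := by
    rw [Subgroup.lowerCentralSeries_succ, Subgroup.lowerCentralSeries_succ]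
    apply Subgroup.commutator_mem_commutator
    · apply Subgroup.commutator_mem_commutator
      · exact Subgroup.mem_top _
      · exact Subgroup.mem_top _
    · exact Subgroup.mem_top _
  rw [h1, Subgroup.mem_bot] at h2
  rw [commutatorElement_eq_one_iff_mul_comm] at h2
  exact h2

end Basic

end Cfsg.Agent.Lib.FT3Basic
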