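import Mathlib

/-!
# A combinatorial lemma on sums of orders
-/

set_option autoImplicit false

namespace Cfsg.Agent.Lib.FT3Comb

theorem aux_mul {u v : ℕ} (hu : 0 < u) (hv : 0 < v) : (u - 1) + (v - 1) ≤ u * v - 1 := by
  obtain ⟨u', rfl⟩ : ∃ u', u = u' + 1 := ⟨u - 1, by omega⟩
  obtain ⟨v', rfl⟩ : ∃ v', v = v' + 1 := ⟨v - 1, by omega⟩
  have : (u' + 1) * (v' + 1) = u' * v' + u' + v' + 1 := by ring
  rw [this]
  simp only [Nat.add_sub_cancel]
  omega

theorem comb_one {α : Type*} [DecidableEq α] (F : Finset α) (w : α → ℕ) (X : ℕ) (hX : 0 < X)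
    (hw : ∀ x ∈ F, w x ∣ X) (hc : ∀ x ∈ F, ∀ y ∈ F, ¬ Nat.Coprime (w x) (w y) → y = x) :
    ∑ x ∈ F, (w x - 1) ≤ X - 1 := by
  induction F using Finset.strongInduction generalizing X with
  | H F ih =>
    by_cases hall : ∀ x ∈ F, w x ≤ 1
    · have : ∑ x ∈ F, (w x - 1) = 0 := by
        apply Finset.sum_eq_zero
        intro x hx
        have := hall x hx
        omega
      omega
    · push Not at hall
      obtain ⟨x, hx, hlt⟩ := hall
      obtain ⟨X', hX'⟩ := hw x hx
      have hX'pos : 0 < X' := by
        rcases Nat.eq_zero_or_pos X' with rfl | h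
        · simp at hX'
          omega
        · exact h
      have hsub : F.erase x ⊂ F := Finset.erase_ssubset hx
      have h1 := ih (F.erase x) hsub X' hX'pos (by
        intro y hy
        have hy' := Finset.mem_erase.1 hy
        have hcop : Nat.Coprime (w x) (w y) := by
          by_contra hn
          exact hy'.1 (hc x hx y hy'.2 hn)
        have := hw y hy'.2
        rw [hX'] at this
        exact hcop.symm.dvd_of_dvd_mul_left this) (by
        intro y hy z hz
        exact hc y (Finset.mem_of_mem_erase hy) z (Finset.mem_of_mem_erase hz))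
      rw [← Finset.add_sum_erase F _ hx, hX']
      have := aux_mul (show 0 < w x by omega) hX'pos
      omega

theorem comb_two {α : Type*} [DecidableEq α] (F : Finset α) (w : α → ℕ) (ι : α → α) (X : ℕ) (hX : 0 < X)
    (hw : ∀ x ∈ F, w x ∣ X) (hιw : ∀ x ∈ F, ι x ∈ F → w (ι x) = w x)
    (hc : ∀ x ∈ F, ∀ y ∈ F, ¬ Nat.Coprime (w x) (w y) → y = x ∨ y = ι x) :
    ∑ x ∈ F, (w x - 1) ≤ 2 * (X - 1) := by
  induction F using Finset.strongInduction generalizing X with
  | H F ih =>
    by_cases hall : ∀ x ∈ F, w x ≤ 1
    · have : ∑ x ∈ F, (w x - 1) = 0 := by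
        apply Finset.sum_eq_zero
        intro x hx
        have := hall x hx
        omega
      omega
    · push Not at hall
      obtain ⟨x, hx, hlt⟩ := hall
      obtain ⟨X', hX'⟩ := hw x hx
      have hX'pos : 0 < X' := by
        rcases Nat.eq_zero_or_pos X' with rfl | h
        · simp at hX'
          omega
        · exact h
      set F' := (F.erase x).erase (ι x) with hF'
      have hsub : F' ⊂ F := by
        refine lt_of_le_of_lt (Finset.erase_subset _ _) (Finset.erase_ssubset hx)
      have hmem : ∀ {y}, y ∈ F' → y ≠ ι x ∧ y ≠ x ∧ y ∈ F := by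
        intro y hy
        have h2 := Finset.mem_erase.1 hy
        have h3 := Finset.mem_erase.1 h2.2
        exact ⟨h2.1, h3.1, h3.2⟩
      have h1 := ih F' hsub X' hX'pos (by
        intro y hy
        obtain ⟨h2, h3, h4⟩ := hmem hy
        have hcop : Nat.Coprime (w x) (w y) := by
          by_contra hn
          rcases hc x hx y h4 hn with h5 | h5
          · exact h3 h5
          · exact h2 h5
        have := hw y h4
        rw [hX'] at this
        exact hcop.symm.dvd_of_dvd_mul_left this) (by
        intro y hy hy2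
        exact hιw y (hmem hy).2.2 (hmem hy2).2.2) (by
        intro y hy z hz
        exact hc y (hmem hy).2.2 z (hmem hz).2.2)
      have h2 : ∑ y ∈ F.erase x, (w y - 1) ≤ (w x - 1) + ∑ y ∈ F', (w y - 1) := by
        by_cases hιx : ι x ∈ F.erase x
        · rw [← Finset.add_sum_erase (F.erase x) _ hιx, hιw x hx (Finset.mem_of_mem_erase hιx)]
        · rw [hF', Finset.erase_eq_of_notMem hιx]
          omega
      rw [← Finset.add_sum_erase F _ hx, hX']
      have := aux_mul (show 0 < w x by omega) hX'pos
      omega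

end Cfsg.Agent.Lib.FT3Comb
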