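import Mathlib
import Cfsg.Agent.Lib.CharBasic
import Cfsg.Agent.Lib.CharInd
import Cfsg.Agent.Lib.CharAvg
import Cfsg.Agent.Lib.CharKernel

/-!
# Structure constants as counts of products of conjugates
-/

set_option autoImplicit false
set_option linter.style.haveILetI false
set_option linter.unusedSectionVars false

namespace Cfsg.Agent.Lib.FT3Count

open Subgroup Cfsg Cfsg.Agent.Lib.CharBasic Cfsg.Agent.Lib.CharInd
open scoped ComplexConjugate

universe u

variable {G : Type u} [Group G] [Fintype G]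

open scoped Classical in
/-- The structure constant formula, in the form of a double sum. -/
theorem struct_formula (u v x : G) :
    (Nat.card G : ℂ) * ((∑ g : G, ∑ k : G, (if x⁻¹ * (g * u * g⁻¹) * (k * v * k⁻¹) = 1 then 1 else 0) : ℕ) : ℂ)
      = (Nat.card G : ℂ) ^ 2 * ∑ χ : IrrCharacter G,
          (χ : G → ℂ) u * (χ : G → ℂ) v * (χ : G → ℂ) x⁻¹ / (χ : G → ℂ) 1 := by
  set N : ℂ := (Nat.card G : ℂ) with hN
  have hstep : ∀ a b : G, N * ((if x⁻¹ * (a * u * a⁻¹) * (b * v * b⁻¹) = 1 then 1 else 0 : ℕ) : ℂ) =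
      ∑ χ : IrrCharacter G, (χ : G → ℂ) 1 * (χ : G → ℂ) (x⁻¹ * (a * u * a⁻¹) * (b * v * b⁻¹)) := by
    intro a b
    rw [Cfsg.Agent.Lib.CharKernel.sum_irr_deg_mul]
    split_ifs <;> simp [hN]
  push_cast
  rw [Finset.mul_sum]
  simp only [Finset.mul_sum]
  have h1 : ∀ a b : G, N * (if x⁻¹ * (a * u * a⁻¹) * (b * v * b⁻¹) = 1 then (1 : ℂ) else 0) =
      ∑ χ : IrrCharacter G, (χ : G → ℂ) 1 * (χ : G → ℂ) (x⁻¹ * (a * u * a⁻¹) * (b * v * b⁻¹)) := by
    intro a b
    rw [← hstep a b]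
    split_ifs <;> simp
  simp only [h1]
  have h2 : ∑ a : G, ∑ b : G, ∑ χ : IrrCharacter G,
      (χ : G → ℂ) 1 * (χ : G → ℂ) (x⁻¹ * (a * u * a⁻¹) * (b * v * b⁻¹)) =
      ∑ χ : IrrCharacter G, ∑ a : G, ((χ : G → ℂ) 1 * ∑ b : G,
        (χ : G → ℂ) ((x⁻¹ * (a * u * a⁻¹)) * (b * v * b⁻¹))) := by
    simp only [Finset.mul_sum]
    symm
    rw [Finset.sum_comm]
    refine Finset.sum_congr rfl fun a _ => ?_
    rw [Finset.sum_comm]
  rw [h2]
  refine Finset.sum_congr rfl fun χ _ => ?_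
  have hχ := χ.2
  have h3 : ∀ a : G, (χ : G → ℂ) 1 * ∑ b : G, (χ : G → ℂ) ((x⁻¹ * (a * u * a⁻¹)) * (b * v * b⁻¹)) =
      N * (χ : G → ℂ) (x⁻¹ * (a * u * a⁻¹)) * (χ : G → ℂ) v := fun a =>
    Cfsg.Agent.Lib.CharAvg.irr_avg hχ _ v
  simp only [h3]
  have h4 := Cfsg.Agent.Lib.CharAvg.irr_avg hχ x⁻¹ u
  have h5 := Cfsg.Agent.Lib.CharAvg.irr_one_ne_zero hχ
  have h6 : ∑ a : G, (χ : G → ℂ) (x⁻¹ * (a * u * a⁻¹)) =
      N * (χ : G → ℂ) x⁻¹ * (χ : G → ℂ) u / (χ : G → ℂ) 1 := by
    rw [eq_div_iff h5, mul_comm, h4]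
  rw [← Finset.sum_mul, ← Finset.mul_sum, h6]
  field_simp

open scoped Classical in
/-- The fibres of the conjugation map have the size of the centralizer. -/
theorem card_filter_conj {u p : G} (hp : IsConj u p) :
    (Finset.univ.filter (fun g : G => g * u * g⁻¹ = p)).card = Nat.card (centralizer ({u} : Set G)) := by
  obtain ⟨g₀, rfl⟩ := isConj_iff.mp hp
  rw [Nat.card_eq_fintype_card, ← Fintype.card_coe]
  refine Fintype.card_congr ?_
  refine
    { toFun := fun g => ⟨g₀⁻¹ * g.1, ?_⟩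
      invFun := fun c => ⟨g₀ * c.1, ?_⟩
      left_inv := ?_
      right_inv := ?_ }
  · have hg := (Finset.mem_filter.mp g.2).2
    rw [mem_centralizer_singleton_iff]
    have h1 : g₀⁻¹ * (g.1 * u * g.1⁻¹) * g₀ = u := by rw [hg]; group
    calc g₀⁻¹ * g.1 * u = g₀⁻¹ * (g.1 * u * g.1⁻¹) * g₀ * (g₀⁻¹ * g.1) := by group
      _ = u * (g₀⁻¹ * g.1) := by rw [h1]
  · have hc := c.2
    rw [mem_centralizer_singleton_iff] at hc
    refine Finset.mem_filter.mpr ⟨Finset.mem_univ _, ?_⟩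
    have h1 : (c : G) * u * (c : G)⁻¹ = u := by rw [hc]; group
    calc g₀ * c * u * (g₀ * c)⁻¹ = g₀ * ((c : G) * u * (c : G)⁻¹) * g₀⁻¹ := by group
      _ = _ := by rw [h1]
  · intro g; ext; simp
  · intro c; ext; simp

open scoped Classical in
/-- Summing a function over the conjugates, through the group. -/
theorem sum_conj_fiber (u : G) (F : G → ℕ) :
    ∑ g : G, F (g * u * g⁻¹) =
      Nat.card (centralizer ({u} : Set G)) * ∑ p ∈ Finset.univ.filter (fun p : G => IsConj u p), F p := by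
  have h1 : ∀ g ∈ (Finset.univ : Finset G), g * u * g⁻¹ ∈ Finset.univ.filter (fun p : G => IsConj u p) := by
    intro g _
    exact Finset.mem_filter.mpr ⟨Finset.mem_univ _, isConj_iff.mpr ⟨g, rfl⟩⟩
  rw [← Finset.sum_fiberwise_of_maps_to h1, Finset.mul_sum]
  refine Finset.sum_congr rfl fun p hp => ?_
  have hp' := (Finset.mem_filter.mp hp).2
  rw [← card_filter_conj hp', ← smul_eq_mul, ← Finset.sum_const]
  refine Finset.sum_congr rfl fun g hg => ?_
  rw [(Finset.mem_filter.mp hg).2]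

open scoped Classical in
/-- The number of factorizations of `x` as a product of a conjugate of `u` and a conjugate of `v`. -/
noncomputable def countP (u v x : G) : ℕ :=
  (Finset.univ.filter (fun p : G => IsConj u p ∧ IsConj v (p⁻¹ * x))).card

open scoped Classical in
theorem double_sum_eq (u v x : G) :
    (∑ g : G, ∑ k : G, (if x⁻¹ * (g * u * g⁻¹) * (k * v * k⁻¹) = 1 then 1 else 0) : ℕ) =
      Nat.card (centralizer ({u} : Set G)) * Nat.card (centralizer ({v} : Set G)) * countP u v x := by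
  have h1 : ∀ P : G, (∑ k : G, (if x⁻¹ * P * (k * v * k⁻¹) = 1 then 1 else 0) : ℕ) =
      Nat.card (centralizer ({v} : Set G)) * (if IsConj v (P⁻¹ * x) then 1 else 0) := by
    intro P
    rw [sum_conj_fiber v (fun q => if x⁻¹ * P * q = 1 then 1 else 0)]
    congr 1
    by_cases hc : IsConj v (P⁻¹ * x)
    · rw [if_pos hc, Finset.sum_eq_single (P⁻¹ * x)]
      · rw [if_pos]
        group
      · intro q _ hq
        rw [if_neg]
        intro h2
        apply hq
        have : q = (x⁻¹ * P)⁻¹ := eq_inv_of_mul_eq_one_right h2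
        rw [this]
        group
      · intro h2
        exact absurd (Finset.mem_filter.mpr ⟨Finset.mem_univ _, hc⟩) h2
    · rw [if_neg hc]
      apply Finset.sum_eq_zero
      intro q hq
      rw [if_neg]
      intro h2
      apply hc
      have h3 : q = (x⁻¹ * P)⁻¹ := eq_inv_of_mul_eq_one_right h2
      have h4 : q = P⁻¹ * x := by rw [h3]; group
      rw [← h4]
      exact (Finset.mem_filter.mp hq).2
  simp only [h1]
  rw [sum_conj_fiber u (fun P => Nat.card (centralizer ({v} : Set G)) * (if IsConj v (P⁻¹ * x) then 1 else 0))]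
  rw [← Finset.mul_sum, ← mul_assoc, mul_comm (Nat.card (centralizer ({u} : Set G)))]
  rw [mul_assoc, mul_assoc]
  congr 2
  unfold countP
  rw [Finset.sum_boole]
  rw [Finset.filter_filter]
  simp

open scoped Classical in
/-- **Frobenius' class formula**, as a count. -/
theorem count_formula (u v x : G) :
    ((Nat.card (centralizer ({u} : Set G)) * Nat.card (centralizer ({v} : Set G)) * countP u v x : ℕ) : ℂ) =
      (Nat.card G : ℂ) * ∑ χ : IrrCharacter G,
          (χ : G → ℂ) u * (χ : G → ℂ) v * (χ : G → ℂ) x⁻¹ / (χ : G → ℂ) 1 := by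
  have h := struct_formula u v x
  rw [double_sum_eq] at h
  have hne : (Nat.card G : ℂ) ≠ 0 := by exact_mod_cast (Nat.card_pos (α := G)).ne'
  apply mul_left_cancel₀ hne
  rw [h]
  ring

end Cfsg.Agent.Lib.FT3Count
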