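import Mathlib
import Cfsg.Agent.Lib.CharAutP
import Cfsg.Agent.Lib.CharDecomp
import Cfsg.Agent.Lib.CharKernel
import Cfsg.Agent.Lib.CharNormal
import Cfsg.Agent.Lib.CharCentral
import Cfsg.Agent.Lib.CharInd
import Cfsg.Agent.Lib.CharIntegrality
import Cfsg.Agent.Lib.CharValues
import Cfsg.Agent.Lib.DetExt
import Cfsg.Agent.Lib.LinearExt

/-!
# Kernels of the irreducible characters of degree prime to `p`

The constituents of degree prime to `p` of characters of degree prime to `p`, fixed points of a
Sylow subgroup on the characters of a normal subgroup, and the intersection of the kernels of the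
characters of degree prime to `p`.
-/

set_option autoImplicit false
set_option linter.style.haveILetI false
set_option linter.unusedVariables false
set_option linter.unusedSectionVars false

namespace Cfsg.Agent.Lib.PDegKernel71

open Cfsg Cfsg.Agent.Lib.CharBasic Cfsg.Agent.Lib.CharInd Cfsg.Agent.Lib.CharKernel
open Cfsg.Agent.Lib.CharDecomp Cfsg.Agent.Lib.CharNormal Cfsg.Agent.Lib.CharAut
open Cfsg.Agent.Lib.CharAutP Cfsg.Agent.Lib.CharCentral Cfsg.Agent.Lib.CharTable
open scoped ComplexConjugate

universe u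

section Constituents

variable {G : Type u} [Group G] [Fintype G]

/-- The degree of a character is the sum of the degrees of its constituents. -/
theorem charDegree_nat_decomp (m : IrrCharacter G → ℕ) {τ : G → ℂ} (hτ : IsCharacter G τ)
    (hm : τ = ∑ i, m i • (i : G → ℂ)) :
    charDegree τ = ∑ i, m i * charDegree (i : G → ℂ) := by
  have h1 := one_eq_charDegree hτ
  have h2 : τ 1 = ∑ i, (m i : ℂ) * (i : G → ℂ) 1 := by
    rw [hm, Finset.sum_apply]
    refine Finset.sum_congr rfl fun i _ => ?_
    simp
  have h3 : ((charDegree τ : ℕ) : ℂ) = ((∑ i, m i * charDegree (i : G → ℂ) : ℕ) : ℂ) := by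
    rw [← h1, h2]
    push_cast
    refine Finset.sum_congr rfl fun i _ => ?_
    rw [one_eq_charDegree (IsIrrCharacter.isCharacter i.2)]
  exact_mod_cast h3

/-- A character of degree prime to `p` has an irreducible constituent of degree prime to `p`. -/
theorem exists_pprime_constituent (p : ℕ) {τ : G → ℂ} (hτ : IsCharacter G τ)
    (hd : ¬ p ∣ charDegree τ) :
    ∃ χ : IrrCharacter G, classInner τ (χ : G → ℂ) ≠ 0 ∧ ¬ p ∣ charDegree (χ : G → ℂ) := by
  classical
  by_contra hcon
  push Not at hcon
  obtain ⟨m, hm⟩ := exists_nat_decomp hτ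
  apply hd
  rw [charDegree_nat_decomp m hτ hm]
  refine Finset.dvd_sum fun i _ => ?_
  by_cases hi : m i = 0
  · simp [hi]
  · apply Dvd.dvd.mul_left
    apply hcon i
    rw [hm, classInner_nat_decomp m _ i.2]
    exact_mod_cast hi

/-- The kernel of a character lies in the kernel of each constituent. -/
theorem ker_of_constituent {ψ ξ : G → ℂ} (hψ : IsCharacter G ψ) (hξ : IsIrrCharacter G ξ)
    (h : classInner ψ ξ ≠ 0) {y : G} (hy : ψ y = ψ 1) : ξ y = ξ 1 := by
  obtain ⟨ψ', hψ', rfl⟩ := exists_char_add hψ hξ h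
  have hξc := IsIrrCharacter.isCharacter hξ
  obtain ⟨n₁, ρ₁, rfl⟩ := hξc
  obtain ⟨n₂, ρ₂, rfl⟩ := hψ'
  have hb1 := Cfsg.Agent.Lib.CharValues.norm_character_le ρ₁ y
  have hb2 := Cfsg.Agent.Lib.CharValues.norm_character_le ρ₂ y
  simp only [Module.finrank_fin_fun] at hb1 hb2
  have h1 : ρ₁.character 1 = n₁ := char_one_eq_rep ρ₁
  have h2 : ρ₂.character 1 = n₂ := char_one_eq_rep ρ₂
  simp only [Pi.add_apply, h1, h2] at hy
  rw [h1]
  have hre := congrArg Complex.re hy
  simp only [Complex.add_re, Complex.natCast_re] at hre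
  have hr1 := (Complex.re_le_norm (ρ₁.character y)).trans hb1
  have hr2 := (Complex.re_le_norm (ρ₂.character y)).trans hb2
  have hr3 : (ρ₁.character y).re = n₁ := by linarith
  have hn3 : ‖ρ₁.character y‖ = n₁ := le_antisymm hb1 (by rw [← hr3]; exact Complex.re_le_norm _)
  apply Complex.ext
  · simpa using hr3
  · have h5 := Complex.sq_norm_sub_sq_re (ρ₁.character y)
    rw [hn3, hr3] at h5
    have h6 : (ρ₁.character y).im = 0 := by
      have : (ρ₁.character y).im ^ 2 = 0 := by nlinarith
      exact pow_eq_zero_iff (two_ne_zero) |>.mp this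
    simp [h6]

end Constituents

section Invariant

variable {G : Type u} [Group G] [Finite G]

/-- The conjugation action of a subgroup on a normal subgroup. -/
noncomputable def conjHom (P N : Subgroup G) [N.Normal] : P →* MulAut N :=
  (MulAut.conjNormal (H := N)).comp P.subtype

theorem conjHom_apply_coe (P N : Subgroup G) [N.Normal] (a : P) (n : N) :
    ((conjHom P N a n : N) : G) = (a : G) * n * (a : G)⁻¹ := by
  simp [conjHom, MulAut.conjNormal_apply]

theorem conjHom_symm_apply_coe (P N : Subgroup G) [N.Normal] (a : P) (n : N) :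
    (((conjHom P N a).symm n : N) : G) = (a : G)⁻¹ * n * (a : G) := by
  have h : (conjHom P N a).symm n = conjHom P N a⁻¹ n := by
    rw [map_inv]; rfl
  rw [h, conjHom_apply_coe]
  simp

theorem eq_one_of_fixed {P N : Subgroup G} [N.Normal]
    (hN : N ⊓ Subgroup.centralizer (P : Set G) = ⊥) {z : N}
    (hz : ∀ a : P, conjHom P N a z = z) : z = 1 := by
  have hz' : (z : G) ∈ N ⊓ Subgroup.centralizer (P : Set G) := by
    refine Subgroup.mem_inf.mpr ⟨z.2, ?_⟩
    rw [Subgroup.mem_centralizer_iff]
    intro a ha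
    have h := congrArg Subtype.val (hz ⟨a, ha⟩)
    rw [conjHom_apply_coe] at h
    rw [mul_inv_eq_iff_eq_mul] at h
    exact h
  rw [hN, Subgroup.mem_bot] at hz'
  exact Subtype.ext hz'

theorem conjHom_fixed_one (P N : Subgroup G) [N.Normal] (a : P) :
    conjHom P N a 1 = 1 := map_one _

/-- A `p`-group without nontrivial fixed points forces order prime to `p`. -/
theorem not_dvd_card_normal (p : ℕ) [hp : Fact p.Prime] {P N : Subgroup G} [N.Normal]
    (hP : IsPGroup p P) (hN : N ⊓ Subgroup.centralizer (P : Set G) = ⊥) : ¬ p ∣ Nat.card N := by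
  classical
  letI : Fintype N := Fintype.ofFinite N
  letI : Fintype {z : N // ∀ g : P, conjHom P N g z = z} := Fintype.ofFinite _
  intro hdvd
  have h := sum_eq_sum_fixed (A := P) (S := ZMod p) p hP (ZMod.natCast_self p)
    (fun g z => conjHom P N g z) (fun z => by simp) (fun g h z => by simp)
    (fun _ => (1 : ZMod p)) (fun _ _ => rfl)
  have h1 : ∑ z : N, (1 : ZMod p) = (Nat.card N : ZMod p) := by
    simp [Nat.card_eq_fintype_card]
  have h2 : ∑ z : {z : N // ∀ g : P, conjHom P N g z = z}, (1 : ZMod p) = 1 := by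
    haveI : Unique {z : N // ∀ g : P, conjHom P N g z = z} :=
      { default := ⟨1, fun g => conjHom_fixed_one P N g⟩
        uniq := fun z => Subtype.ext (eq_one_of_fixed hN z.2) }
    simp
  rw [h1, h2] at h
  have h3 : (Nat.card N : ZMod p) = 0 := (ZMod.natCast_eq_zero_iff _ _).mpr hdvd
  rw [h3] at h
  exact zero_ne_one h

/-- Every invariant class contains a fixed element, when the order is prime to `p`. -/
theorem exists_fixed_mem_class (p : ℕ) [hp : Fact p.Prime] {P N : Subgroup G} [N.Normal]
    (hP : IsPGroup p P) (hN : ¬ p ∣ Nat.card N) (C : ConjClasses N)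
    (hC : ∀ a : P, classAut (conjHom P N a) C = C) :
    ∃ z : N, ConjClasses.mk z = C ∧ ∀ a : P, conjHom P N a z = z := by
  classical
  obtain ⟨z₀, rfl⟩ := ConjClasses.mk_surjective C
  letI : Fintype N := Fintype.ofFinite N
  let Z := {z : N // IsConj z₀ z}
  letI : Fintype Z := Fintype.ofFinite Z
  have hZ : ∀ (a : P) (z : Z), IsConj z₀ (conjHom P N a z.1) := by
    intro a z
    have h1 := hC a
    rw [classAut_mk, ConjClasses.mk_eq_mk_iff_isConj] at h1
    exact h1.symm.trans ((conjHom P N a).toMonoidHom.map_isConj z.2)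
  let act : P → Z → Z := fun a z => ⟨conjHom P N a z.1, hZ a z⟩
  letI : Fintype {z : Z // ∀ g : P, act g z = z} := Fintype.ofFinite _
  have h := sum_eq_sum_fixed (A := P) (S := ZMod p) p hP (ZMod.natCast_self p)
    act (fun z => Subtype.ext (by simp [act])) (fun g h z => Subtype.ext (by simp [act]))
    (fun _ => (1 : ZMod p)) (fun _ _ => rfl)
  by_contra hcon
  have h2 : ∑ z : {z : Z // ∀ g : P, act g z = z}, (1 : ZMod p) = 0 := by
    haveI : IsEmpty {z : Z // ∀ g : P, act g z = z} := by
      refine ⟨fun z => hcon ⟨z.1.1, ConjClasses.mk_eq_mk_iff_isConj.mpr z.1.2.symm, fun a => ?_⟩⟩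
      exact congrArg Subtype.val (z.2 a)
    simp
  rw [h2] at h
  have h1 : ∑ z : Z, (1 : ZMod p) = (Nat.card Z : ZMod p) := by
    simp [Nat.card_eq_fintype_card]
  rw [h1] at h
  have h3 : p ∣ Nat.card Z := (ZMod.natCast_eq_zero_iff _ _).mp h
  apply hN
  rw [← card_conj_mul_card_centralizer z₀]
  exact Dvd.dvd.mul_right h3 _

/-- The trivial character, as an irreducible character. -/
noncomputable def oneIrr71 (K : Type*) [Group K] [Finite K] : IrrCharacter K :=
  ⟨fun _ => 1, by
    letI : Fintype K := Fintype.ofFinite K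
    exact isIrrCharacter_one⟩

/-- With only the identity fixed, the only invariant character is the trivial one. -/
theorem fixIrr_eq_one (p : ℕ) [hp : Fact p.Prime] {P N : Subgroup G} [N.Normal]
    (hP : IsPGroup p P) (hN : N ⊓ Subgroup.centralizer (P : Set G) = ⊥)
    (θ : IrrCharacter N) (hθ : ∀ a : P, irrAut (conjHom P N a) θ = θ) : θ = oneIrr71 N := by
  classical
  have hcop := not_dvd_card_normal p hP hN
  haveI : Finite (ConjClasses N) := Quotient.finite _
  have hcard := card_fixIrr_eq (conjHom P N) p hP hcop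
  have hone : ∀ C : FixCl (conjHom P N), C.1 = ConjClasses.mk 1 := by
    intro C
    obtain ⟨z, hz, hz2⟩ := exists_fixed_mem_class p hP hcop C.1 C.2
    rw [← hz, eq_one_of_fixed hN hz2]
  have hsub : Subsingleton (FixCl (conjHom P N)) :=
    ⟨fun a b => Subtype.ext ((hone a).trans (hone b).symm)⟩
  have h1 : Nat.card (FixCl (conjHom P N)) ≤ 1 := Finite.card_le_one_iff_subsingleton.mpr hsub
  rw [← hcard] at h1
  have hsub2 : Subsingleton (FixIrr (conjHom P N)) := Finite.card_le_one_iff_subsingleton.mp h1
  have hfix1 : ∀ a : P, irrAut (conjHom P N a) (oneIrr71 N) = oneIrr71 N := by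
    intro a
    apply Subtype.ext
    funext k
    rfl
  have := hsub2.elim ⟨θ, hθ⟩ ⟨oneIrr71 N, hfix1⟩
  exact congrArg Subtype.val this

/-- **Normal subgroups with no fixed points of a Sylow subgroup lie in the kernels of the
characters of degree prime to `p`.** -/
theorem normal_le_ker (p : ℕ) [hp : Fact p.Prime] (P : Sylow p G) (N : Subgroup G) [N.Normal]
    (hN : N ⊓ Subgroup.centralizer ((P : Subgroup G) : Set G) = ⊥)
    (χ : IrrCharacter G) (hχ : ¬ p ∣ charDegree (χ : G → ℂ)) {x : G} (hx : x ∈ N) :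
    (χ : G → ℂ) x = (χ : G → ℂ) 1 := by
  classical
  letI : Fintype G := Fintype.ofFinite G
  letI : Fintype N := Fintype.ofFinite N
  have hχc := IsIrrCharacter.isCharacter χ.2
  have hP : IsPGroup p (P : Subgroup G) := P.isPGroup'
  let R : N → ℂ := fun n => (χ : G → ℂ) n
  have hR : IsCharacter N R := isCharacter_restrict N hχc
  obtain ⟨m, hm⟩ := exists_nat_decomp hR
  have hmc : ∀ θ : IrrCharacter N, classInner R (θ : N → ℂ) = m θ := by
    intro θ
    rw [hm, classInner_nat_decomp m _ θ.2]
  have hminv : ∀ (a : (P : Subgroup G)) (θ : IrrCharacter N),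
      m (irrAut (conjHom (P : Subgroup G) N a) θ) = m θ := by
    intro a θ
    have h1 : classInner R (irrAut (conjHom (P : Subgroup G) N a) θ : N → ℂ) =
        classInner R (θ : N → ℂ) := by
      unfold classInner
      congr 1
      rw [← Equiv.sum_comp (conjHom (P : Subgroup G) N a).toEquiv]
      refine Finset.sum_congr rfl fun n _ => ?_
      have h2 : (irrAut (conjHom (P : Subgroup G) N a) θ : N → ℂ)
          ((conjHom (P : Subgroup G) N a) n) = (θ : N → ℂ) n := by
        rw [irrAut_apply]
        simp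
      have h3 : R ((conjHom (P : Subgroup G) N a) n) = R n := by
        show (χ : G → ℂ) ((conjHom (P : Subgroup G) N a n : N) : G) = (χ : G → ℂ) n
        rw [conjHom_apply_coe]
        exact isClassFunction_of_isCharacter hχc _ _
      show R ((conjHom (P : Subgroup G) N a) n) * _ = _
      rw [h3]
      congr 2
    rw [hmc, hmc] at h1
    exact_mod_cast h1
  -- degrees
  have hdeg : charDegree (χ : G → ℂ) = ∑ i, m i * charDegree (i : N → ℂ) := by
    have h1 : charDegree (χ : G → ℂ) = charDegree R := by
      unfold charDegree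
      simp [R]
    rw [h1]
    exact charDegree_nat_decomp m hR hm
  have hdegAut : ∀ (a : (P : Subgroup G)) (θ : IrrCharacter N),
      charDegree (irrAut (conjHom (P : Subgroup G) N a) θ : N → ℂ) = charDegree (θ : N → ℂ) := by
    intro a θ
    unfold charDegree
    rw [irrAut_apply, map_one]
  letI : Fintype (IrrCharacter N) := Fintype.ofFinite _
  letI : Fintype {z : IrrCharacter N // ∀ g : (P : Subgroup G),
      irrAut (conjHom (P : Subgroup G) N g) z = z} := Fintype.ofFinite _
  have hsum := sum_eq_sum_fixed (A := (P : Subgroup G)) (S := ZMod p) p hP (ZMod.natCast_self p)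
    (fun g θ => irrAut (conjHom (P : Subgroup G) N g) θ)
    (fun z => by simp [irrAut_one]) (fun g h z => by simp [irrAut_mul])
    (fun θ => ((m θ * charDegree (θ : N → ℂ) : ℕ) : ZMod p))
    (fun g θ => by simp only [hminv, hdegAut])
  have hm1 : m (oneIrr71 N) ≠ 0 := by
    intro h0
    have h2 : ∑ z : {z : IrrCharacter N // ∀ g : (P : Subgroup G),
        irrAut (conjHom (P : Subgroup G) N g) z = z},
        ((m z.1 * charDegree (z.1 : N → ℂ) : ℕ) : ZMod p) = 0 := by
      refine Finset.sum_eq_zero fun z _ => ?_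
      rw [fixIrr_eq_one p hP hN z.1 z.2, h0]
      simp
    rw [h2] at hsum
    rw [← Nat.cast_sum, ← hdeg, ZMod.natCast_eq_zero_iff] at hsum
    exact hχ hsum
  have hinner : classInner R (oneIrr71 N : N → ℂ) ≠ 0 := by
    rw [hmc]
    exact_mod_cast hm1
  have hsum0 : ∑ n : N, (χ : G → ℂ) n ≠ 0 := by
    intro h0
    apply hinner
    unfold classInner
    have : ∑ g : N, R g * conj ((oneIrr71 N : N → ℂ) g) = ∑ n : N, (χ : G → ℂ) n := by
      refine Finset.sum_congr rfl fun n _ => ?_
      show (χ : G → ℂ) n * conj 1 = _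
      simp
    rw [this, h0, mul_zero]
  by_contra hne
  exact hsum0 (sum_normal_eq_zero' χ.2 N ⟨x, hx, hne⟩)

end Invariant

end Cfsg.Agent.Lib.PDegKernel71
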