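import Mathlib
import Cfsg.Agent.Lib.GlaubCount
import Cfsg.Agent.Lib.CharClifford
import Cfsg.Agent.Lib.CharKernel

/-!
# Invariant characters above invariant characters (solvable coprime operators)
-/

set_option autoImplicit false
set_option linter.style.haveILetI false
set_option linter.unusedVariables false
set_option linter.unusedSectionVars false

namespace Cfsg.Agent.Lib.GlaubAbove

open Cfsg Cfsg.Agent.Lib.CharBasic Cfsg.Agent.Lib.CharInd Cfsg.Agent.Lib.GlaubDual
open Cfsg.Agent.Lib.Clifford Cfsg.Agent.Lib.GlaubBase Cfsg.Agent.Lib.GlaubCorr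
open Cfsg.Agent.Lib.GlaubCount Cfsg.Agent.Lib.CharInduction
open scoped ComplexConjugate Classical

universe u

section Expand

variable {K L : Type u} [Group K] [Fintype K] [Group L] [Fintype L]

/-- Expansion of multiplicities along a homomorphism. -/
theorem classInner_comp_eq_sum (f : K → ℂ) (hf : IsClassFunction K f) (j : L →* K) (δ : L → ℂ) :
    classInner (fun c => f (j c)) δ =
      ∑ η : IrrCharacter K, classInner f (η : K → ℂ) *
        classInner (fun c => (η : K → ℂ) (j c)) δ := by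
  have h2 := classFunction_eq_sum hf
  have h3 : (fun c => f (j c)) = ∑ η : IrrCharacter K, classInner f (η : K → ℂ) •
      (fun c => (η : K → ℂ) (j c)) := by
    funext c
    have h4 := congrFun h2 (j c)
    simpa only [Finset.sum_apply, Pi.smul_apply, smul_eq_mul] using h4
  rw [h3, classInner_sum_left]
  refine Finset.sum_congr rfl fun η _ => ?_
  rw [classInner_smul_left]

/-- There is an irreducible character over any irreducible character of a subgroup. -/
theorem exists_irr_over (N : Subgroup K) [Fintype N] (θ : IrrCharacter N) :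
    ∃ χ : IrrCharacter K, classInner (fun n : N => (χ : K → ℂ) n) (θ : N → ℂ) ≠ 0 := by
  have hΦ := indFun_isCharacter N (IsIrrCharacter.isCharacter θ.2)
  obtain ⟨m, hm⟩ := exists_nat_decomp hΦ
  have hne : indFun N (θ : N → ℂ) 1 ≠ 0 := by
    rw [indFun_one]
    apply mul_ne_zero
    · exact_mod_cast (Subgroup.index_ne_zero_of_finite)
    · exact irr_degree_ne_zero θ.2
  obtain ⟨ψ, hψm⟩ : ∃ ψ : IrrCharacter K, m ψ ≠ 0 := by
    by_contra H
    push Not at H
    apply hne
    rw [hm]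
    simp [H]
  refine ⟨ψ, ?_⟩
  have h1 := classInner_nat_decomp m (ψ : K → ℂ) ψ.2
  rw [← hm, frobenius N _ (isClassFunction_of_isCharacter (IsIrrCharacter.isCharacter ψ.2))] at h1
  intro h0
  have h2 := classInner_conj_symm (fun n : N => (ψ : K → ℂ) n) (θ : N → ℂ)
  rw [h0, map_zero, h1] at h2
  exact hψm (by exact_mod_cast h2.symm)

/-- The multiplicity in the restriction to a normal subgroup divides the degree. -/
theorem mult_dvd_degree (N : Subgroup K) (hN : N.Normal) [Fintype N] (χ : IrrCharacter K)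
    (δ : IrrCharacter N) (e : ℕ)
    (he : classInner (fun n : N => (χ : K → ℂ) n) (δ : N → ℂ) = e) (he0 : e ≠ 0) :
    e ∣ Nat.card K := by
  have h1 := Cfsg.Agent.Lib.CharClifford.restrict_eq_smul_sum N hN χ.2 δ.2
    (by rw [he]; exact_mod_cast he0)
  have h2 := congrFun h1 (1 : N)
  rw [he] at h2
  simp only [Pi.smul_apply, Finset.sum_apply, smul_eq_mul, OneMemClass.coe_one] at h2
  obtain ⟨d, -, hd⟩ := irr_degree_pos δ.2
  have h3 : ∀ ψ ∈ Finset.univ.image (fun g : K => conjBy N hN g (δ : N → ℂ)), ψ (1 : N) = d := by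
    intro ψ hψ
    obtain ⟨g, -, rfl⟩ := Finset.mem_image.mp hψ
    rw [conjBy_apply, ← hd]
    exact congrArg _ (Subtype.ext (by simp))
  rw [Finset.sum_congr rfl h3, Finset.sum_const, nsmul_eq_mul] at h2
  have h4 := Cfsg.Agent.Lib.CharKernel.charDegree_dvd_card χ.2
  rw [Cfsg.Agent.Lib.CharKernel.one_eq_charDegree (IsIrrCharacter.isCharacter χ.2)] at h2
  have h5 : charDegree (χ : K → ℂ) = e * ((Finset.univ.image
      (fun g : K => conjBy N hN g (δ : N → ℂ))).card * d) := by
    exact_mod_cast h2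
  rw [h5] at h4
  exact (Dvd.intro _ rfl).trans h4

end Expand

section Generic

variable {G C₁ : Type u} [Group G] [Fintype G] [Group C₁] [Fintype C₁]
  (p : ℕ) [Fact p.Prime] {Q : Subgroup (MulAut G)} (ι₁ : C₁ →* G)

/-- Equivariance of the correspondence under any group acting. -/
theorem inv_iff' {B : Type*} [Group B] (a : B →* MulAut G) (r : B →* MulAut C₁)
    (hr : ∀ (b : B) c, ι₁ (r b c) = a b (ι₁ c)) {π : XA Q → IrrCharacter C₁}
    (hinj : Function.Injective π) (hπ : CorrSpec p Q ι₁ π)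
    (hnorm : ∀ b, ∀ q ∈ Q, a b * q * (a b)⁻¹ ∈ Q) (χ : XA Q) :
    (∀ b g, (χ.1 : G → ℂ) (a b g) = (χ.1 : G → ℂ) g) ↔
      ∀ (b : B) c, (π χ : C₁ → ℂ) (r b c) = (π χ : C₁ → ℂ) c := by
  have hp : p.Prime := Fact.out
  have htwist : ∀ (f : G → ℂ) (β : C₁ → ℂ) (b : B),
      classInner (fun c => f (a b (ι₁ c))) (fun c => β (r b c)) =
        classInner (fun c => f (ι₁ c)) β := by
    intro f β b
    have h1 := classInner_comp_mulEquiv (r b) (fun c => f (ι₁ c)) β
    rw [← h1]
    congr 1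
    funext c
    simp [hr]
  constructor
  · intro hχ b
    obtain ⟨m, hm, hpm⟩ := (hπ χ).1
    let β : IrrCharacter C₁ := ⟨fun c => (π χ : C₁ → ℂ) (r b c),
      isIrrCharacter_comp_of_surjective (r b).toMonoidHom (r b).surjective (π χ).2⟩
    have h1 : classInner (fun c => (χ.1 : G → ℂ) (ι₁ c)) (β : C₁ → ℂ) = m := by
      have h := htwist (χ.1 : G → ℂ) (π χ : C₁ → ℂ) b
      have h3 : (fun c => (χ.1 : G → ℂ) (a b (ι₁ c))) = fun c => (χ.1 : G → ℂ) (ι₁ c) :=
        funext fun c => hχ b _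
      rw [h3] at h
      exact h.trans hm
    have h2 := (hπ.not_dvd_iff hp χ β m h1).mp (not_dvd_of_modEq_pm hp hpm)
    intro c
    exact congrFun (congrArg Subtype.val h2) c
  · intro hβ b g
    obtain ⟨m, hm, hpm⟩ := (hπ χ).1
    let χ' : XA Q := ⟨⟨fun g => (χ.1 : G → ℂ) (a b g),
      isIrrCharacter_comp_of_surjective (a b).toMonoidHom (a b).surjective χ.1.2⟩, by
        intro q hq g
        have h1 := χ.2 _ (hnorm b q hq) (a b g)
        have h2 : (a b * q * (a b)⁻¹) (a b g) = a b (q g) := by simp [MulAut.mul_apply]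
        rw [h2] at h1
        exact h1⟩
    have h1 : classInner (fun c => (χ'.1 : G → ℂ) (ι₁ c)) (π χ : C₁ → ℂ) = m := by
      have h := htwist (χ.1 : G → ℂ) (π χ : C₁ → ℂ) b
      have h3 : (fun c => (π χ : C₁ → ℂ) (r b c)) = (π χ : C₁ → ℂ) :=
        funext fun c => hβ b c
      rw [h3] at h
      exact h.trans hm
    have h2 := (hπ.not_dvd_iff hp χ' (π χ) m h1).mp (not_dvd_of_modEq_pm hp hpm)
    have h3 : χ = χ' := hinj h2
    have h4 := congrFun (congrArg (fun z : XA Q => (z.1 : G → ℂ)) h3) g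
    exact h4.symm

/-- Congruence through the top. -/
theorem mult_modEq_top {L : Type u} [Group L] [Fintype L] {π : XA Q → IrrCharacter C₁}
    (hs : CorrSpec p Q ι₁ π) (χ : XA Q) (j : L →* C₁) (δ : IrrCharacter L) :
    ∃ M m e : ℕ, classInner (fun c => (χ.1 : G → ℂ) (ι₁ (j c))) (δ : L → ℂ) = M ∧
      classInner (fun c => (χ.1 : G → ℂ) (ι₁ c)) (π χ : C₁ → ℂ) = m ∧
      classInner (fun c => (π χ : C₁ → ℂ) (j c)) (δ : L → ℂ) = e ∧
      (M : ℤ) ≡ (m : ℤ) * (e : ℤ) [ZMOD p] := by
  have hf : IsClassFunction C₁ (fun c => (χ.1 : G → ℂ) (ι₁ c)) :=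
    isClassFunction_of_isCharacter (isCharacter_comp ι₁ (IsIrrCharacter.isCharacter χ.1.2))
  have hn₁ : ∀ β : IrrCharacter C₁, ∃ n : ℕ,
      classInner (fun c => (χ.1 : G → ℂ) (ι₁ c)) (β : C₁ → ℂ) = n := fun β =>
    natCast_classInner_irr ι₁ χ.1 β
  have hn₂ : ∀ β : IrrCharacter C₁, ∃ n : ℕ,
      classInner (fun c => (β : C₁ → ℂ) (j c)) (δ : L → ℂ) = n := fun β =>
    natCast_classInner_irr j β δ
  choose n₁ hn₁ using hn₁
  choose n₂ hn₂ using hn₂
  refine ⟨∑ β, n₁ β * n₂ β, n₁ (π χ), n₂ (π χ), ?_, hn₁ _, hn₂ _, ?_⟩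
  · have h1 := classInner_comp_eq_sum _ hf j (δ : L → ℂ)
    rw [h1]
    push_cast
    exact Finset.sum_congr rfl fun β _ => by rw [hn₁, hn₂]
  · rw [← Finset.add_sum_erase Finset.univ _ (Finset.mem_univ (π χ))]
    have hS : (p : ℤ) ∣ ((∑ β ∈ Finset.univ.erase (π χ), n₁ β * n₂ β : ℕ) : ℤ) := by
      have : p ∣ ∑ β ∈ Finset.univ.erase (π χ), n₁ β * n₂ β := by
        apply Finset.dvd_sum
        intro β hβ
        obtain ⟨b, hb⟩ := (hs χ).2 β (Finset.mem_erase.mp hβ).1
        rw [hn₁] at hb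
        have h2 : n₁ β = p * b := by exact_mod_cast hb
        rw [h2]
        exact Dvd.dvd.mul_right (dvd_mul_right p b) _
      exact_mod_cast this
    have h3 := (Int.modEq_zero_iff_dvd.mpr hS).add_left (((n₁ (π χ) * n₂ (π χ) : ℕ) : ℤ))
    rw [add_zero] at h3
    push_cast at h3 ⊢
    exact h3

/-- Congruence through the bottom. -/
theorem mult_modEq_bot (hQ : IsPGroup p Q) (hfix1 : ∀ c, ∀ b ∈ Q, b (ι₁ c) = ι₁ c)
    {π : XA Q → IrrCharacter C₁} (hinj : Function.Injective π)
    (hs : CorrSpec p Q ι₁ π) (f : G → ℂ) (hf : IsCharacter G f) (hfinv : InvA Q f) (θ : XA Q) :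
    ∃ M n m : ℕ, classInner (fun c => f (ι₁ c)) (π θ : C₁ → ℂ) = M ∧
      classInner f (θ.1 : G → ℂ) = n ∧
      classInner (fun c => (θ.1 : G → ℂ) (ι₁ c)) (π θ : C₁ → ℂ) = m ∧
      (M : ℤ) ≡ (n : ℤ) * (m : ℤ) [ZMOD p] := by
  letI : MulAction Q (IrrCharacter G) :=
    { smul := fun b β => ⟨fun c => (β : G → ℂ) ((b : MulAut G)⁻¹ c),
        isIrrCharacter_comp_of_surjective ((b : MulAut G)⁻¹).toMonoidHom
          ((b : MulAut G)⁻¹).surjective β.2⟩
      one_smul := fun β => by
        apply Subtype.ext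
        funext c
        show (β : G → ℂ) (((1 : Q) : MulAut G)⁻¹ c) = (β : G → ℂ) c
        simp
      mul_smul := fun b b' β => by
        apply Subtype.ext
        funext c
        show (β : G → ℂ) (((b * b' : Q) : MulAut G)⁻¹ c) =
          (β : G → ℂ) ((b' : MulAut G)⁻¹ ((b : MulAut G)⁻¹ c))
        rw [Subgroup.coe_mul, mul_inv_rev, MulAut.mul_apply] }
  have hsmul : ∀ (b : Q) (β : IrrCharacter G) c,
      ((b • β : IrrCharacter G) : G → ℂ) c = (β : G → ℂ) ((b : MulAut G)⁻¹ c) := fun b β c => rfl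
  have hn₁ : ∀ β : IrrCharacter G, ∃ n : ℕ, classInner f (β : G → ℂ) = n := fun β =>
    classInner_char_irr hf β.2
  have hn₂ : ∀ β : IrrCharacter G, ∃ n : ℕ,
      classInner (fun c => (β : G → ℂ) (ι₁ c)) (π θ : C₁ → ℂ) = n := fun β =>
    natCast_classInner_irr ι₁ β (π θ)
  choose n₁ hn₁ using hn₁
  choose n₂ hn₂ using hn₂
  refine ⟨∑ β, n₁ β * n₂ β, n₁ θ.1, n₂ θ.1, ?_, hn₁ _, hn₂ _, ?_⟩
  · have h1 := classInner_comp_eq_sum f (isClassFunction_of_isCharacter hf) ι₁ (π θ : C₁ → ℂ)
    rw [h1]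
    push_cast
    exact Finset.sum_congr rfl fun β _ => by rw [hn₁, hn₂]
  · have hinvf : ∀ (b : Q) (β : IrrCharacter G), n₁ (b • β) * n₂ (b • β) = n₁ β * n₂ β := by
      intro b β
      have h1 : n₁ (b • β) = n₁ β := by
        have h2 := classInner_comp_mulEquiv (b : MulAut G) f ((b • β : IrrCharacter G) : G → ℂ)
        have h3 : f ∘ (b : MulAut G) = f := funext fun g => hfinv _ b.2 g
        have h4 : ((b • β : IrrCharacter G) : G → ℂ) ∘ (b : MulAut G) = (β : G → ℂ) := by
          funext g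
          simp [hsmul]
        rw [h3, h4, hn₁, hn₁] at h2
        exact_mod_cast h2.symm
      have h2 : n₂ (b • β) = n₂ β := by
        have h3 := hn₂ (b • β)
        have h4 : (fun c => ((b • β : IrrCharacter G) : G → ℂ) (ι₁ c)) =
            fun c => (β : G → ℂ) (ι₁ c) := by
          funext c
          rw [hsmul, hfix1 c _ (Q.inv_mem b.2)]
        rw [h4, hn₂] at h3
        exact_mod_cast h3.symm
      rw [h1, h2]
    have hsum := sum_modEq_sum_fixed p hQ (fun β => n₁ β * n₂ β) hinvf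
    have hy₀ : θ.1 ∈ MulAction.fixedPoints Q (IrrCharacter G) := by
      intro b
      apply Subtype.ext
      funext c
      rw [hsmul]
      exact θ.2 _ (Q.inv_mem b.2) c
    let y₀ : MulAction.fixedPoints Q (IrrCharacter G) := ⟨θ.1, hy₀⟩
    have hfixsum : ∑ y : MulAction.fixedPoints Q (IrrCharacter G), n₁ y.1 * n₂ y.1 ≡
        n₁ θ.1 * n₂ θ.1 [MOD p] := by
      rw [← Finset.add_sum_erase Finset.univ _ (Finset.mem_univ y₀)]
      have hS : p ∣ ∑ y ∈ Finset.univ.erase y₀, n₁ y.1 * n₂ y.1 := by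
        apply Finset.dvd_sum
        intro y hy
        have hinvy : InvA Q ((y.1 : IrrCharacter G) : G → ℂ) := by
          intro q hq g
          have h1 := y.2 ⟨q⁻¹, Q.inv_mem hq⟩
          have h2 := congrFun (congrArg Subtype.val h1) g
          rw [hsmul] at h2
          simpa using h2
        have hne : π θ ≠ π ⟨y.1, hinvy⟩ := by
          intro h
          have h1 := hinj h
          apply (Finset.mem_erase.mp hy).1
          apply Subtype.ext
          exact (congrArg Subtype.val h1).symm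
        obtain ⟨b, hb⟩ := (hs ⟨y.1, hinvy⟩).2 (π θ) hne
        have h1 := hn₂ y.1
        simp only at hb
        rw [hb] at h1
        have h2 : n₂ y.1 = p * b := by exact_mod_cast h1.symm
        rw [h2]
        exact Dvd.dvd.mul_left (dvd_mul_right p b) _
      have := (Nat.modEq_zero_iff_dvd.mpr hS).add_left (n₁ θ.1 * n₂ θ.1)
      rw [add_zero] at this
      exact this
    have h5 := hsum.trans hfixsum
    have h6 := (Int.natCast_modEq_iff).mpr h5
    rw [Nat.cast_mul] at h6
    exact h6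

end Generic

section Main

/-- Restriction of automorphisms to a stable subgroup. -/
def resHom {G : Type u} [Group G] {B : Type*} [Group B] (a : B →* MulAut G) (N : Subgroup G)
    (h : ∀ b, ∀ x ∈ N, a b x ∈ N) : B →* MulAut N where
  toFun b :=
    { toFun := fun x => ⟨a b x, h b x x.2⟩
      invFun := fun x => ⟨a b⁻¹ x, h b⁻¹ x x.2⟩
      left_inv := fun x => Subtype.ext (by simp [map_inv])
      right_inv := fun x => Subtype.ext (by simp [map_inv])
      map_mul' := fun x y => Subtype.ext (by simp) }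
  map_one' := by
    ext x
    simp
  map_mul' := fun b b' => by
    ext x
    simp

theorem resHom_apply {G : Type u} [Group G] {B : Type*} [Group B] (a : B →* MulAut G)
    (N : Subgroup G) (h : ∀ b, ∀ x ∈ N, a b x ∈ N) (b : B) (x : N) :
    ((resHom a N h b x : N) : G) = a b x := rfl

/-- Existence of an invariant irreducible character over a given invariant irreducible character
of a normal subgroup, for a solvable group of operators of coprime order. -/
theorem exists_inv_over (n : ℕ) :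
    ∀ (G : Type u) [Group G] [Fintype G] (A : Subgroup (MulAut G)) (N : Subgroup G) [Fintype N],
      Nat.card A = n → Group.IsSolvable A → (Nat.card G).Coprime (Nat.card A) → N.Normal →
      (∀ b ∈ A, ∀ x ∈ N, b x ∈ N) → ∀ θ : IrrCharacter N,
      (∀ b ∈ A, ∀ x x' : N, (x' : G) = b x → (θ : N → ℂ) x' = (θ : N → ℂ) x) →
      ∃ χ : XA A, classInner (fun x : N => (χ.1 : G → ℂ) x) (θ : N → ℂ) ≠ 0 := by
  induction n using Nat.strong_induction_on with
  | _ n ih =>
    intro G _ _ A N _ hn hsolv hcop hNn hst θ hθ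
    by_cases htriv : Nat.card A = 1
    · have hA : ∀ b ∈ A, b = 1 := by
        intro b hb
        have := (Nat.card_eq_one_iff_unique.mp htriv).1
        have h2 : (⟨b, hb⟩ : A) = 1 := Subsingleton.elim _ _
        exact congrArg Subtype.val h2
      obtain ⟨χ, hχ⟩ := exists_irr_over N θ
      exact ⟨⟨χ, fun b hb g => by rw [hA b hb]; rfl⟩, hχ⟩
    haveI : Nontrivial A := by
      rw [← Finite.one_lt_card_iff_nontrivial]
      have : 0 < Nat.card A := Nat.card_pos
      omega
    obtain ⟨p, hp, hne⟩ := Cfsg.Agent.Lib.PCore.exists_pCore_ne_bot (G := A)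
    haveI : Fact p.Prime := ⟨hp⟩
    let Q₀ : Subgroup A := pCore p A
    let Q : Subgroup (MulAut G) := Q₀.map A.subtype
    have hQA : Q ≤ A := Subgroup.map_subtype_le _
    have hQ₀ : IsPGroup p Q₀ := Cfsg.Agent.Lib.PCore.isPGroup_pCore p
    have hQ : IsPGroup p Q := hQ₀.map A.subtype
    have hnorm : ∀ b ∈ A, ∀ q ∈ Q, b * q * b⁻¹ ∈ Q := by
      rintro b hb _ ⟨q, hq, rfl⟩
      refine ⟨⟨b, hb⟩ * q * ⟨b, hb⟩⁻¹, ?_, rfl⟩
      exact (inferInstance : Q₀.Normal).conj_mem q hq _
    have hpA : p ∣ Nat.card A := by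
      obtain ⟨k, hk⟩ := IsPGroup.iff_card.mp hQ₀
      have h1 : Nat.card Q₀ ≠ 1 := by
        intro h
        exact hne (Subgroup.card_eq_one.mp h)
      rw [hk] at h1
      have h2 : p ∣ Nat.card Q₀ := by
        rw [hk]
        cases k with
        | zero => simp at h1
        | succ k => exact dvd_pow_self p (by omega)
      exact h2.trans (Subgroup.card_subgroup_dvd_card _)
    have hcopp : (Nat.card G).Coprime p := Nat.Coprime.coprime_dvd_right hpA hcop
    have hcopQ : (Nat.card G).Coprime (Nat.card Q) := Nat.Coprime.coprime_dvd_right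
      (Subgroup.card_dvd_of_le hQA) hcop
    letI : Fintype (fixSub Q) := Fintype.ofFinite _
    obtain ⟨πG, hbG, hsG⟩ :=
      corr_pgroup p (Nat.card Q) G Q rfl hQ hcopQ (fixSub Q) _ (fixSub_model Q)
    let r := resAut Q A hnorm
    have hr : ∀ (b : A) c, (fixSub Q).subtype (r b c) = b.1 ((fixSub Q).subtype c) :=
      fun b c => rfl
    obtain ⟨e, he, hee⟩ := exists_restrict p (fixSub Q).subtype r hr hbG hsG hQA hnorm
    -- the action on `N`
    haveI := hNn
    let aN : A →* MulAut N := resHom A.subtype N (fun b x hx => hst b.1 b.2 x hx)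
    let Q₁ : Subgroup A := Q.subgroupOf A
    let QN : Subgroup (MulAut N) := Q₁.map aN
    have hQ₁ : IsPGroup p Q₁ := hQ.comap_of_injective A.subtype Subtype.val_injective
    have hQN : IsPGroup p QN := hQ₁.map aN
    let N₁ : Subgroup (fixSub Q) := N.subgroupOf (fixSub Q)
    haveI hN₁n : N₁.Normal := Subgroup.normal_subgroupOf
    letI : Fintype N₁ := Fintype.ofFinite _
    let ιN : N₁ →* N := ((fixSub Q).subtype.comp N₁.subtype).codRestrict N (fun c => c.2)
    have hmodel : IsFixModel QN ιN :=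
      { inj := fun c c' h => by
          have h1 : ((c : fixSub Q) : G) = ((c' : fixSub Q) : G) :=
            congrArg (fun z : N => (z : G)) h
          exact Subtype.ext (Subtype.ext h1)
        fix1 := by
          rintro c _ ⟨q, hq, rfl⟩
          apply Subtype.ext
          exact (c : fixSub Q).2 q.1 hq
        fix2 := by
          intro x hx
          have h1 : (x : G) ∈ fixSub Q := fun q hq =>
            congrArg Subtype.val (hx _ ⟨⟨q, hQA hq⟩, hq, rfl⟩)
          exact ⟨⟨⟨x, h1⟩, x.2⟩, rfl⟩ }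
    have hcopN : (Nat.card N).Coprime (Nat.card QN) := by
      obtain ⟨k, hk⟩ := IsPGroup.iff_card.mp hQN
      rw [hk]
      exact Nat.Coprime.pow_right k
        (Nat.Coprime.coprime_dvd_left (Subgroup.card_subgroup_dvd_card N) hcopp)
    obtain ⟨πN, hbN, hsN⟩ := corr_pgroup p (Nat.card QN) N QN rfl hQN hcopN N₁ _ hmodel
    have hθQ : InvA QN (θ : N → ℂ) := by
      rintro _ ⟨q, hq, rfl⟩ x
      exact hθ q.1 q.2 x _ rfl
    let θQ : XA QN := ⟨θ, hθQ⟩
    let δ : IrrCharacter N₁ := πN θQ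
    have hst₁ : ∀ (b : A), ∀ x ∈ N₁, r b x ∈ N₁ := fun b x hx => hst b.1 b.2 _ hx
    let rN₁ : A →* MulAut N₁ := resHom r N₁ hst₁
    have hrN : ∀ (b : A) c, ιN (rN₁ b c) = aN b (ιN c) := fun b c => rfl
    have hnormN : ∀ (b : A), ∀ q ∈ QN, aN b * q * (aN b)⁻¹ ∈ QN := by
      rintro b _ ⟨q, hq, rfl⟩
      refine ⟨b * q * b⁻¹, ?_, by simp⟩
      exact hnorm b.1 b.2 q.1 hq
    have hδinv := (inv_iff' p ιN aN rN₁ hrN hbN.1 hsN hnormN θQ).mp
      (fun b x => hθ b.1 b.2 x _ rfl)
    -- the induction hypothesis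
    have hlt : Nat.card r.range < Nat.card A := by
      by_contra hle
      push Not at hle
      have hbij := r.rangeRestrict_surjective.bijective_of_nat_card_le hle
      obtain ⟨q, hq, hq1⟩ : ∃ q ∈ Q₀, q ≠ 1 := by
        by_contra H
        push Not at H
        exact hne ((Subgroup.eq_bot_iff_forall _).mpr H)
      have hrq : r q = 1 := by
        ext g
        show (q : MulAut G) g = g
        exact g.2 _ ⟨q, hq, rfl⟩
      have h1 : r.rangeRestrict q = r.rangeRestrict 1 := by
        apply Subtype.ext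
        simpa using hrq
      exact hq1 (hbij.1 h1)
    have hsolv' : Group.IsSolvable r.range :=
      Group.isSolvable_of_surjective r.rangeRestrict_surjective
    have hcop' : (Nat.card (fixSub Q)).Coprime (Nat.card r.range) :=
      Nat.Coprime.coprime_dvd_left (Subgroup.card_subgroup_dvd_card _)
        (Nat.Coprime.coprime_dvd_right
          (Subgroup.card_dvd_of_surjective r.rangeRestrict r.rangeRestrict_surjective) hcop)
    have hst' : ∀ b₁ ∈ r.range, ∀ x ∈ N₁, b₁ x ∈ N₁ := by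
      rintro _ ⟨b, rfl⟩ x hx
      exact hst₁ b x hx
    have hδ' : ∀ b₁ ∈ r.range, ∀ x x' : N₁, ((x' : fixSub Q)) = b₁ x →
        (δ : N₁ → ℂ) x' = (δ : N₁ → ℂ) x := by
      rintro _ ⟨b, rfl⟩ x x' hx'
      have h1 : x' = rN₁ b x := Subtype.ext hx'
      rw [h1]
      exact hδinv b x
    obtain ⟨χ₁, hχ₁⟩ := ih (Nat.card r.range) (by omega) (fixSub Q) r.range N₁ rfl hsolv' hcop'
      hN₁n hst' δ hδ'
    -- lifting
    obtain ⟨χ, hχ⟩ := he.2 χ₁
    have hsub : InvA Q (χ.1 : G → ℂ) := fun q hq g => χ.2 q (hQA hq) g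
    let χQ : XA Q := ⟨χ.1, hsub⟩
    have hχ₁eq : χ₁.1 = πG χQ := by
      rw [← hχ]
      exact hee χ hsub
    refine ⟨χ, fun h0 => ?_⟩
    obtain ⟨M, m, e', hM, hm, he', hmod⟩ := mult_modEq_top p (fixSub Q).subtype hsG χQ N₁.subtype δ
    have hfinv : InvA QN (fun x : N => (χ.1 : G → ℂ) x) := by
      rintro _ ⟨q, hq, rfl⟩ x
      exact χ.2 q.1 q.2 x
    obtain ⟨M', n', m', hM', hn', hm', hmod'⟩ := mult_modEq_bot p ιN hQN hmodel.fix1 hbN.1 hsN
      (fun x : N => (χ.1 : G → ℂ) x) (isCharacter_restrict N (IsIrrCharacter.isCharacter χ.1.2))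
      hfinv θQ
    have hMM : M = M' := by
      have h1 := hM.symm.trans hM'
      exact_mod_cast h1
    have hn0 : n' = 0 := by
      have h1 := hn'.symm.trans h0
      exact_mod_cast h1
    rw [hn0, ← hMM] at hmod'
    have h2 : (p : ℤ) ∣ (m : ℤ) * (e' : ℤ) := by
      have h3 : (m : ℤ) * (e' : ℤ) ≡ 0 [ZMOD p] := by
        have := hmod.symm.trans hmod'
        simpa using this
      exact Int.modEq_zero_iff_dvd.mp h3
    have h3 : p ∣ m * e' := by exact_mod_cast h2
    have hmd : ¬ p ∣ m := by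
      obtain ⟨m₀, hm₀, hpm⟩ := (hsG χQ).1
      have h4 := hm.symm.trans hm₀
      have h5 : m = m₀ := by exact_mod_cast h4
      rw [h5]
      exact not_dvd_of_modEq_pm hp hpm
    have hed : p ∣ e' := (hp.dvd_mul.mp h3).resolve_left hmd
    have he0 : e' ≠ 0 := by
      rintro rfl
      apply hχ₁
      rw [hχ₁eq]
      simpa using he'
    have h6 := mult_dvd_degree N₁ hN₁n (πG χQ) δ e' he' he0
    have h7 : e' ∣ Nat.card G := h6.trans (Subgroup.card_subgroup_dvd_card _)
    exact not_dvd_of_dvd_card hp hcopp h7 hed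

end Main

end Cfsg.Agent.Lib.GlaubAbove
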