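import Mathlib
import Cfsg.Agent.S4456
import Cfsg.Agent.Lib.CharTwist
import Cfsg.Agent.Lib.CliffDvd
import Cfsg.Agent.Lib.Clifford
import Cfsg.Agent.Lib.DetChar
import Cfsg.Agent.Lib.GlaubAbove
import Cfsg.Agent.Lib.GlaubCyc
import Cfsg.Agent.Lib.CharCodegP
import Cfsg.Agent.Lib.LinTwist
import Cfsg.Agent.Lib.CharDecomp
import Cfsg.Agent.Lib.CoprimeDeg

/-!
# Groups with two character degrees

* `irr_ind_of_stab`: induction of a character with trivial stabilizer.
* `abelian_of_frob`: the kernel of a Frobenius quotient is abelian.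
* `solvable_of_two`: a group with two character degrees is solvable.
-/

set_option autoImplicit false
set_option linter.style.haveILetI false
set_option linter.unusedVariables false
set_option linter.unusedSectionVars false

namespace Cfsg.Agent.Lib.TwoDeg

open Cfsg Cfsg.Agent.Lib.CharBasic Cfsg.Agent.Lib.CharInd Cfsg.Agent.Lib.CharKernel
open Cfsg.Agent.Lib.Clifford Cfsg.Agent.Lib.CliffDvd
open scoped ComplexConjugate commutatorElement

universe u v

/-- Degrees are in `{1, m}`. -/
def Two (G : Type u) [Group G] (m : ℕ) : Prop :=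
  ∀ χ : IrrCharacter G, charDegree (χ : G → ℂ) = 1 ∨ charDegree (χ : G → ℂ) = m

theorem charDegree_of_one {G : Type u} [Group G] {χ : G → ℂ} {d : ℕ} (h : χ 1 = d) :
    charDegree χ = d := by
  unfold charDegree
  rw [h]
  simp

theorem Two.quotient {G : Type u} [Group G] {m : ℕ} (h : Two G m) (N : Subgroup G) [N.Normal] :
    Two (G ⧸ N) m := by
  intro χ
  have h1 := isIrrCharacter_comp_of_surjective (QuotientGroup.mk' N) (QuotientGroup.mk'_surjective N)
    χ.2
  have h2 : charDegree ((χ : G ⧸ N → ℂ) ∘ (QuotientGroup.mk' N)) = charDegree (χ : G ⧸ N → ℂ) := by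
    unfold charDegree
    simp
  rw [← h2]
  exact h ⟨_, h1⟩

/-- Two groups related by a surjection. -/
theorem Two.of_surjective {G K : Type u} [Group G] [Group K] {m : ℕ} (h : Two G m) (f : G →* K)
    (hf : Function.Surjective f) : Two K m := by
  intro χ
  have h1 := isIrrCharacter_comp_of_surjective f hf χ.2
  have h2 : charDegree ((χ : K → ℂ) ∘ f) = charDegree (χ : K → ℂ) := by
    unfold charDegree
    simp
  rw [← h2]
  exact h ⟨_, h1⟩

/-- Induction from a normal subgroup of a character with trivial stabilizer. -/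
theorem irr_ind_of_stab {G : Type u} [Group G] [Fintype G] (A : Subgroup G) [hA : A.Normal]
    [Fintype A] {ξ : A → ℂ} (hξ : IsIrrCharacter A ξ)
    (hstab : ∀ g : G, (∀ a : A, ξ ⟨g * a * g⁻¹, hA.conj_mem a a.2 g⟩ = ξ a) → g ∈ A) :
    IsIrrCharacter G (indFun A ξ) ∧ charDegree (indFun A ξ) = A.index * charDegree ξ := by
  have hT : ∀ g : G, g ∈ A ↔ ∀ n : A, ξ ⟨g * n * g⁻¹, hA.conj_mem (n : G) n.2 g⟩ = ξ n := by
    intro g
    refine ⟨fun hg n => ?_, hstab g⟩
    have h1 := isClassFunction_of_isCharacter (IsIrrCharacter.isCharacter hξ) n ⟨g, hg⟩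
    exact h1
  have hover : classInner (fun n : A => ξ ⟨(n : G), (le_refl A) n.2⟩) ξ ≠ 0 := by
    have h1 : (fun n : A => ξ ⟨(n : G), (le_refl A) n.2⟩) = ξ := rfl
    rw [h1, classInner_irr_self hξ]
    exact one_ne_zero
  refine ⟨(indFun_irr_of_over A A hξ hT (le_refl A) hξ hover).1, ?_⟩
  apply charDegree_of_one
  rw [indFun_one, one_eq_charDegree (IsIrrCharacter.isCharacter hξ)]
  push_cast
  rfl

section Frob

variable {G : Type u} [Group G] [Finite G]

/-- The kernel of a Frobenius quotient of a group with two character degrees is abelian. -/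
theorem abelian_of_frob {m : ℕ} (hm1 : m ≠ 1) (hcd : Two G m)
    (A : Subgroup G) [hA : A.Normal] (hidx : A.index = m)
    {Q : Type v} [Group Q] [Finite Q] (hQ : ∀ x y : Q, x * y = y * x) (π : A →* Q)
    (hπ : Function.Surjective π) (c : G → Q →* Q)
    (hc : ∀ (x : G) (a : A), π ⟨x * a * x⁻¹, hA.conj_mem a a.2 x⟩ = c x (π a))
    (hfree : ∀ x, x ∉ A → ∀ y : Q, ∃ z : Q, c x z * z⁻¹ = y)
    (hcop : (Nat.card Q).Coprime m) (hsize : m ≤ Nat.card Q) :
    ∀ a ∈ A, ∀ b ∈ A, a * b = b * a := by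
  classical
  haveI : Fintype G := Fintype.ofFinite G
  haveI : Fintype A := Fintype.ofFinite A
  have hm0 : m ≠ 0 := by
    rw [← hidx]
    exact Subgroup.index_ne_zero_of_finite
  have hall : ∀ θ : IrrCharacter A, (θ : A → ℂ) 1 = 1 := by
    rintro ⟨θ, hθ⟩
    show θ 1 = 1
    have hθc := IsIrrCharacter.isCharacter hθ
    set d := charDegree θ with hd
    have hθ1 : θ 1 = (d : ℂ) := one_eq_charDegree hθc
    obtain ⟨χ, hχ⟩ := Cfsg.Agent.Lib.GlaubAbove.exists_irr_over A ⟨θ, hθ⟩
    have hdχ := degree_dvd A hθ χ.2 hχ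
    have hdm : d ∣ m := by
      rcases hcd χ with h | h
      · rw [h] at hdχ
        exact hdχ.trans (one_dvd m)
      · rwa [h] at hdχ
    have hdQ : d.Coprime (Nat.card Q) := Nat.Coprime.coprime_dvd_left hdm hcop.symm
    -- twisting by `ρ` fixes `θ` only for `ρ = 1`
    have key1 : ∀ ρ : Q →* ℂˣ, (∀ a : A, θ a * ((ρ (π a) : ℂˣ) : ℂ) = θ a) → ρ = 1 := by
      intro ρ h
      ext y
      obtain ⟨a, rfl⟩ := hπ y
      have h1 : (fun g : A => (((ρ.comp π) g : ℂˣ) : ℂ)) * θ = θ := by
        funext g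
        simp only [Pi.mul_apply, MonoidHom.comp_apply]
        rw [mul_comm]
        exact h g
      have h2 := Cfsg.Agent.Lib.DetChar.detChar_mul_hom (ρ.comp π) hθc hθ1 a
      rw [h1] at h2
      obtain ⟨D, hD⟩ := Cfsg.Agent.Lib.DetChar.exists_detHom hθc
      rw [hD] at h2
      have h3 : ((ρ (π a) : ℂˣ) : ℂ) ^ d = 1 := by
        have h4 : ((D a : ℂˣ) : ℂ) ≠ 0 := Units.ne_zero _
        have h5 : 1 * ((D a : ℂˣ) : ℂ) = ((ρ (π a) : ℂˣ) : ℂ) ^ d * ((D a : ℂˣ) : ℂ) := by
          rw [one_mul]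
          exact h2
        exact (mul_right_cancel₀ h4 h5).symm
      have h4 : (ρ (π a)) ^ d = 1 := by
        apply Units.ext
        simpa using h3
      have h5 : (ρ (π a)) ^ (Nat.card Q) = 1 := by
        rw [← map_pow, pow_card_eq_one', map_one]
      have h6 := Cfsg.Agent.Lib.GlaubCyc.eq_one_of_pow_of_pow h4 h5 hdQ
      rw [h6]
      rfl
    -- the twists
    let tw : (Q →* ℂˣ) → A → ℂ := fun l => (fun g : A => (((l.comp π) g : ℂˣ) : ℂ)) * θ
    have htw : ∀ l a, tw l a = θ a * ((l (π a) : ℂˣ) : ℂ) := by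
      intro l a
      simp only [tw, Pi.mul_apply, MonoidHom.comp_apply]
      ring
    have htwirr : ∀ l, IsIrrCharacter A (tw l) := fun l =>
      Cfsg.Agent.Lib.DetChar.isIrr_mul_hom (l.comp π) hθ
    let Bad : G → (Q →* ℂˣ) → Prop := fun x l =>
      ∀ a : A, tw l ⟨x * a * x⁻¹, hA.conj_mem a a.2 x⟩ = tw l a
    have key2 : ∀ x, x ∉ A → ∀ l l', Bad x l → Bad x l' → l = l' := by
      intro x hx l l' h h'
      let τ : Q →* ℂˣ := l' * l⁻¹
      let ρ : Q →* ℂˣ := (τ.comp (c x)) * τ⁻¹
      have h1 : ρ = 1 := by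
        apply key1
        intro a
        have e1 := h a
        have e2 := h' a
        rw [htw, htw, hc] at e1 e2
        set y := π a with hy
        set t := θ ⟨x * a * x⁻¹, hA.conj_mem a a.2 x⟩ with ht
        have hρ : ((ρ y : ℂˣ) : ℂ) = ((l' (c x y) : ℂˣ) : ℂ) * ((l (c x y) : ℂˣ) : ℂ)⁻¹ *
            ((l' y : ℂˣ) : ℂ)⁻¹ * ((l y : ℂˣ) : ℂ) := by
          simp only [ρ, τ, MonoidHom.mul_apply, MonoidHom.comp_apply, MonoidHom.inv_apply]
          push_cast
          rw [mul_inv, inv_inv]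
          ring
        rw [hρ]
        have a1 : ((l (c x y) : ℂˣ) : ℂ) ≠ 0 := Units.ne_zero _
        have a2 : ((l' y : ℂˣ) : ℂ) ≠ 0 := Units.ne_zero _
        have e3 : θ a * ((l y : ℂˣ) : ℂ) = t * ((l (c x y) : ℂˣ) : ℂ) := e1.symm
        have e4 : θ a * ((l' y : ℂˣ) : ℂ) = t * ((l' (c x y) : ℂˣ) : ℂ) := e2.symm
        field_simp
        calc θ a * ((l' (c x y) : ℂˣ) : ℂ) * ((l y : ℂˣ) : ℂ)
            = (θ a * ((l y : ℂˣ) : ℂ)) * ((l' (c x y) : ℂˣ) : ℂ) := by ring
          _ = (t * ((l (c x y) : ℂˣ) : ℂ)) * ((l' (c x y) : ℂˣ) : ℂ) := by rw [e3]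
          _ = (t * ((l' (c x y) : ℂˣ) : ℂ)) * ((l (c x y) : ℂˣ) : ℂ) := by ring
          _ = (θ a * ((l' y : ℂˣ) : ℂ)) * ((l (c x y) : ℂˣ) : ℂ) := by rw [e4]
          _ = _ := by ring
      have h2 : τ = 1 := by
        ext y
        obtain ⟨z, rfl⟩ := hfree x hx y
        have h3 := congrArg (fun f : Q →* ℂˣ => f z) h1
        simp only [ρ, MonoidHom.mul_apply, MonoidHom.comp_apply, MonoidHom.inv_apply,
          MonoidHom.one_apply] at h3
        have h4 : τ (c x z) = τ z := by
          rw [mul_inv_eq_one] at h3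
          exact h3
        rw [map_mul, map_inv, h4, mul_inv_cancel]
        rfl
      have h3 : l' = l := by
        have h4 : l' * l⁻¹ = 1 := h2
        exact mul_inv_eq_one.mp h4
      exact h3.symm
    have key3 : ∀ x x' l, (x⁻¹ * x') ∈ A → Bad x l → Bad x' l := by
      intro x x' l hxx h a
      have hcl := isClassFunction_of_isCharacter (IsIrrCharacter.isCharacter (htwirr l))
      set a₀ : A := ⟨x⁻¹ * x', hxx⟩ with ha₀
      have h1 := h (a₀ * a * a₀⁻¹)
      have h2 : (⟨x' * a * x'⁻¹, hA.conj_mem a a.2 x'⟩ : A) =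
          ⟨x * ((a₀ * a * a₀⁻¹ : A) : G) * x⁻¹, hA.conj_mem _ (a₀ * a * a₀⁻¹ : A).2 x⟩ := by
        apply Subtype.ext
        simp [ha₀]
        group
      rw [h2, h1]
      exact hcl a a₀
    -- counting
    haveI : Fintype (G ⧸ A) := Fintype.ofFinite _
    haveI : Fintype (Q →* ℂˣ) := Fintype.ofFinite _
    let S : Finset (G ⧸ A) := Finset.univ.erase 1
    have hScard : S.card = m - 1 := by
      rw [Finset.card_erase_of_mem (Finset.mem_univ _), Finset.card_univ, ← Nat.card_eq_fintype_card]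
      show A.index - 1 = m - 1
      rw [hidx]
    let F : G ⧸ A → Finset (Q →* ℂˣ) := fun q => Finset.univ.filter fun l => Bad q.out l
    have hout : ∀ q ∈ S, q.out ∉ A := by
      intro q hq hmem
      apply (Finset.mem_erase.mp hq).1
      rw [← QuotientGroup.out_eq' q]
      exact (QuotientGroup.eq_one_iff _).mpr hmem
    have hF : ∀ q ∈ S, (F q).card ≤ 1 := by
      intro q hq
      apply Finset.card_le_one.mpr
      intro l hl l' hl'
      exact key2 _ (hout q hq) l l' (Finset.mem_filter.mp hl).2 (Finset.mem_filter.mp hl').2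
    have hU : (S.biUnion F).card ≤ (m - 1) * 1 := by
      rw [← hScard]
      exact Finset.card_biUnion_le_card_mul S F 1 hF
    have hcardhom : Fintype.card (Q →* ℂˣ) = Nat.card Q := by
      rw [← Nat.card_eq_fintype_card]
      letI : CommGroup Q := { ‹Group Q› with mul_comm := hQ }
      exact Cfsg.Agent.Lib.CharTwist.card_hom
    have hex : ∃ l, l ∉ S.biUnion F := by
      by_contra hne
      push Not at hne
      have h1 : (S.biUnion F) = Finset.univ := Finset.eq_univ_of_forall hne
      rw [h1, Finset.card_univ, hcardhom] at hU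
      omega
    obtain ⟨l, hl⟩ := hex
    have hstab : ∀ g : G, (∀ a : A, tw l ⟨g * a * g⁻¹, hA.conj_mem a a.2 g⟩ = tw l a) → g ∈ A := by
      intro g hg
      by_contra hgA
      apply hl
      have hq : (QuotientGroup.mk g : G ⧸ A) ∈ S := by
        refine Finset.mem_erase.mpr ⟨fun h => hgA ?_, Finset.mem_univ _⟩
        exact (QuotientGroup.eq_one_iff g).mp h
      refine Finset.mem_biUnion.mpr ⟨_, hq, Finset.mem_filter.mpr ⟨Finset.mem_univ _, ?_⟩⟩
      refine key3 g _ l ?_ hg
      rw [← QuotientGroup.eq]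
      exact (QuotientGroup.out_eq' _).symm
    obtain ⟨h1, h2⟩ := irr_ind_of_stab A (htwirr l) hstab
    have h3 : charDegree (tw l) = d := by
      apply charDegree_of_one
      rw [htw, hθ1]
      simp
    rw [h3, hidx] at h2
    rcases hcd ⟨_, h1⟩ with h4 | h4
    · change charDegree (indFun A (tw l)) = 1 at h4
      rw [h2] at h4
      exact absurd (Nat.eq_one_of_mul_eq_one_right h4) hm1
    · change charDegree (indFun A (tw l)) = m at h4
      rw [h2] at h4
      have h5 : d = 1 := by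
        apply Nat.eq_of_mul_eq_mul_left (Nat.pos_of_ne_zero hm0)
        rw [h4, mul_one]
      rw [hθ1, h5]
      simp
  intro a ha b hb
  have h1 := comm_of_all_linear hall ⟨a, ha⟩ ⟨b, hb⟩
  exact congrArg Subtype.val h1

end Frob

section Uniq

variable {H : Type u} [Group H]

theorem mem_commutator (g h : H) : g * h * g⁻¹ * h⁻¹ ∈ commutator H := by
  rw [commutator_def]
  exact Subgroup.commutator_mem_commutator (Subgroup.mem_top g) (Subgroup.mem_top h)

/-- A minimal normal derived subgroup of a solvable group is abelian. -/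
theorem commutator_abelian (hsol : Group.IsSolvable H)
    (hU : ∀ L : Subgroup H, L.Normal → L ≠ ⊥ → commutator H ≤ L) :
    ∀ a ∈ commutator H, ∀ b ∈ commutator H, a * b = b * a := by
  set M := commutator H with hM
  have hM' : ⁅M, M⁆ = ⊥ := by
    by_contra hne
    have hnormal : (⁅M, M⁆ : Subgroup H).Normal := Subgroup.commutator_normal M M
    have hle : M ≤ ⁅M, M⁆ := hU _ hnormal hne
    have hind : ∀ n, M ≤ derivedSeries H (n + 1) := by
      intro n
      induction n with
      | zero =>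
        rw [derivedSeries_succ, derivedSeries_zero, hM, commutator_def]
      | succ n ih =>
        rw [derivedSeries_succ]
        exact hle.trans (Subgroup.commutator_mono ih ih)
    obtain ⟨n, hn⟩ := (Group.isSolvable_def H).mp hsol
    have h1 : derivedSeries H (n + 1) = ⊥ := by
      rw [derivedSeries_succ, hn]
      simp
    have h2 : M = ⊥ := le_bot_iff.mp (h1 ▸ hind n)
    apply hne
    rw [h2]
    simp
  intro a ha b hb
  have h1 : ⁅a, b⁆ = 1 := by
    have h2 := Subgroup.commutator_mem_commutator ha hb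
    rw [hM'] at h2
    exact h2
  exact commutatorElement_eq_one_iff_mul_comm.mp h1

variable (M : Subgroup H) [hM : M.Normal]

/-- The commutator map. -/
def comHom (hab : ∀ a ∈ M, ∀ b ∈ M, a * b = b * a) (h : H) : M →* H where
  toFun y := h * y * h⁻¹ * (y : H)⁻¹
  map_one' := by simp
  map_mul' y z := by
    have hb : h * (z : H) * h⁻¹ * (z : H)⁻¹ ∈ M :=
      M.mul_mem (hM.conj_mem _ z.2 h) (M.inv_mem z.2)
    have h1 := hab _ hb _ (M.inv_mem y.2)
    push_cast
    calc h * ((y : H) * z) * h⁻¹ * ((y : H) * z)⁻¹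
        = (h * y * h⁻¹) * ((h * (z : H) * h⁻¹ * (z : H)⁻¹) * (y : H)⁻¹) := by group
      _ = (h * y * h⁻¹) * ((y : H)⁻¹ * (h * (z : H) * h⁻¹ * (z : H)⁻¹)) := by rw [h1]
      _ = _ := by group

theorem comHom_apply (hab : ∀ a ∈ M, ∀ b ∈ M, a * b = b * a) (h : H) (y : M) :
    comHom M hab h y = h * y * h⁻¹ * (y : H)⁻¹ := rfl

theorem comHom_mem (h : H) {y : H} (hy : y ∈ M) : h * y * h⁻¹ * y⁻¹ ∈ M :=
  M.mul_mem (hM.conj_mem _ hy h) (M.inv_mem hy)

end Uniq

section Uniq2

variable {H : Type u} [Group H] [Finite H]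
  (hab : ∀ a ∈ commutator H, ∀ b ∈ commutator H, a * b = b * a)
  (hU : ∀ L : Subgroup H, L.Normal → L ≠ ⊥ → commutator H ≤ L)

include hab hU

/-- A non-trivial commutator map is surjective. -/
theorem com_surj (h : H) (hne : ∃ y ∈ commutator H, h * y * h⁻¹ * y⁻¹ ≠ 1) :
    ∀ y ∈ commutator H, ∃ z ∈ commutator H, h * z * h⁻¹ * z⁻¹ = y := by
  set M := commutator H with hMdef
  have hMn : M.Normal := inferInstance
  let f := comHom M hab h
  have hRn : (f.range).Normal := by
    refine ⟨?_⟩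
    rintro r ⟨y, rfl⟩ g
    refine ⟨⟨g * y * g⁻¹, hMn.conj_mem y y.2 g⟩, ?_⟩
    rw [comHom_apply, comHom_apply]
    set u := g * (y : H) * g⁻¹ with hu
    have hu' : u ∈ M := hMn.conj_mem y y.2 g
    set c := g * h * g⁻¹ * h⁻¹ with hc
    have hc' : c ∈ M := mem_commutator g h
    set v := h * u * h⁻¹ with hv
    have hv' : v ∈ M := hMn.conj_mem u hu' h
    have h1 : g * (h * (y : H) * h⁻¹ * (y : H)⁻¹) * g⁻¹ = c * v * c⁻¹ * u⁻¹ := by
      simp only [hu, hc, hv]
      group
    rw [h1, hab c hc' v hv']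
    show h * u * h⁻¹ * u⁻¹ = v * c * c⁻¹ * u⁻¹
    rw [mul_inv_cancel_right]
  have hRne : f.range ≠ ⊥ := by
    intro h0
    obtain ⟨y, hy, hy1⟩ := hne
    apply hy1
    have h1 : f ⟨y, hy⟩ ∈ f.range := ⟨_, rfl⟩
    rw [h0] at h1
    exact h1
  intro y hy
  obtain ⟨z, hz⟩ := hU _ hRn hRne hy
  exact ⟨z, z.2, hz⟩

/-- A non-trivial commutator map is injective. -/
theorem com_inj (h : H) (hs : ∀ y ∈ commutator H, ∃ z ∈ commutator H, h * z * h⁻¹ * z⁻¹ = y)
    {z : H} (hz : z ∈ commutator H) (h1 : h * z * h⁻¹ * z⁻¹ = 1) : z = 1 := by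
  set M := commutator H with hMdef
  have hMn : M.Normal := inferInstance
  let φ : M → M := fun y => ⟨h * y * h⁻¹ * (y : H)⁻¹, comHom_mem M h y.2⟩
  have hsurj : Function.Surjective φ := by
    rintro ⟨y, hy⟩
    obtain ⟨w, hw, hw'⟩ := hs y hy
    exact ⟨⟨w, hw⟩, Subtype.ext hw'⟩
  have hinj := Finite.injective_iff_surjective.mpr hsurj
  have h2 : φ ⟨z, hz⟩ = φ 1 := by
    apply Subtype.ext
    show h * z * h⁻¹ * z⁻¹ = h * ((1 : M) : H) * h⁻¹ * ((1 : M) : H)⁻¹
    rw [h1]
    simp
  have h3 := hinj h2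
  exact congrArg Subtype.val h3

/-- If the derived subgroup is not central, it is self-centralizing. -/
theorem mem_of_centralizes (hne : commutator H ≠ ⊥) (g₀ : H)
    (hg₀ : ∃ y ∈ commutator H, g₀ * y * g₀⁻¹ * y⁻¹ ≠ 1) (c : H)
    (hc : ∀ y ∈ commutator H, c * y = y * c) : c ∈ commutator H := by
  set M := commutator H with hMdef
  have hMn : M.Normal := inferInstance
  have hs := com_surj hab hU g₀ hg₀
  -- the subgroup `D`
  let D : Subgroup H :=
    { carrier := {x | (∀ y ∈ M, x * y = y * x) ∧ x * g₀ = g₀ * x}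
      mul_mem' := by
        rintro a b ⟨ha1, ha2⟩ ⟨hb1, hb2⟩
        refine ⟨fun y hy => ?_, ?_⟩
        · rw [mul_assoc, hb1 y hy, ← mul_assoc, ha1 y hy, mul_assoc]
        · rw [mul_assoc, hb2, ← mul_assoc, ha2, mul_assoc]
      one_mem' := by simp
      inv_mem' := by
        rintro a ⟨ha1, ha2⟩
        refine ⟨fun y hy => ?_, ?_⟩
        · rw [inv_mul_eq_iff_eq_mul, ← mul_assoc, ha1 y hy, mul_inv_cancel_right]
        · rw [inv_mul_eq_iff_eq_mul, ← mul_assoc, ha2, mul_inv_cancel_right] }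
  have hDn : D.Normal := by
    refine ⟨?_⟩
    rintro x ⟨hx1, hx2⟩ s
    refine ⟨fun y hy => ?_, ?_⟩
    · have h1 := hx1 (s⁻¹ * y * s) (by
        have := hMn.conj_mem y hy s⁻¹
        simpa using this)
      calc s * x * s⁻¹ * y = s * (x * (s⁻¹ * y * s)) * s⁻¹ := by group
        _ = s * ((s⁻¹ * y * s) * x) * s⁻¹ := by rw [h1]
        _ = y * (s * x * s⁻¹) := by group
    · have hn : g₀⁻¹ * s⁻¹ * g₀ * s ∈ M := by
        have := mem_commutator g₀⁻¹ s⁻¹
        simpa using this
      have h1 := hx1 _ hn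
      have h2 : x * (s⁻¹ * g₀ * s) = (s⁻¹ * g₀ * s) * x := by
        have h3 : s⁻¹ * g₀ * s = g₀ * (g₀⁻¹ * s⁻¹ * g₀ * s) := by group
        rw [h3, ← mul_assoc, hx2, mul_assoc, h1]
        group
      calc s * x * s⁻¹ * g₀ = s * (x * (s⁻¹ * g₀ * s)) * s⁻¹ := by group
        _ = s * ((s⁻¹ * g₀ * s) * x) * s⁻¹ := by rw [h2]
        _ = g₀ * (s * x * s⁻¹) := by group
  have hDbot : D = ⊥ := by
    by_contra hD
    apply hne
    have hMD := hU D hDn hD
    rw [eq_bot_iff]
    intro y hy
    have h1 := (hMD hy).2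
    rw [Subgroup.mem_bot]
    apply com_inj hab hU g₀ hs hy
    rw [← h1]
    group
  have hcg : g₀ * c * g₀⁻¹ * c⁻¹ ∈ M := mem_commutator g₀ c
  obtain ⟨u, hu, hu'⟩ := hs _ hcg
  have h1 : u⁻¹ * c ∈ D := by
    refine ⟨fun y hy => ?_, ?_⟩
    · rw [mul_assoc, hc y hy, ← mul_assoc, ← mul_assoc]
      congr 1
      have := hab _ (M.inv_mem hu) _ hy
      exact this
    · have h2 : g₀ * u * g₀⁻¹ * u⁻¹ * u = g₀ * c * g₀⁻¹ * c⁻¹ * u := by rw [hu']
      have h3 : g₀ * u * g₀⁻¹ = g₀ * c * g₀⁻¹ * c⁻¹ * u := by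
        rw [← h2]
        group
      have h4 : c * u = u * c := hc u hu
      have h5 : c⁻¹ * u = u * c⁻¹ := by
        rw [inv_mul_eq_iff_eq_mul, ← mul_assoc, h4, mul_assoc, mul_inv_cancel, mul_one]
      -- `u⁻¹ c g₀ = g₀ u⁻¹ c`
      have h6 : g₀ * u⁻¹ * c = u⁻¹ * c * g₀ := by
        have h7 : g₀ * u⁻¹ * g₀⁻¹ = (g₀ * u * g₀⁻¹)⁻¹ := by group
        have h8 : g₀ * u⁻¹ * c = (g₀ * u⁻¹ * g₀⁻¹) * (g₀ * c * g₀⁻¹) * g₀ := by group
        rw [h8, h7, h3]
        have h9 : (g₀ * c * g₀⁻¹ * c⁻¹ * u)⁻¹ * (g₀ * c * g₀⁻¹) = u⁻¹ * c := by group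
        rw [h9]
      rw [← mul_assoc]
      exact h6.symm
  rw [hDbot, Subgroup.mem_bot] at h1
  have h2 : c = u := by
    rw [inv_mul_eq_one] at h1
    exact h1.symm
  rw [h2]
  exact hu

omit hab hU in
/-- A finite set with an equivalence relation all of whose classes have size `n`. -/
theorem dvd_card_of_classes {X : Type*} [Finite X] (r : Setoid X) (n : ℕ)
    (h : ∀ x, Nat.card {y // r.r x y} = n) : n ∣ Nat.card X := by
  classical
  haveI : Fintype X := Fintype.ofFinite X
  haveI : Fintype (Quotient r) := Fintype.ofFinite _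
  have e : X ≃ Σ q : Quotient r, {x : X // Quotient.mk r x = q} :=
    (Equiv.sigmaFiberEquiv _).symm
  rw [Nat.card_congr e, Nat.card_sigma]
  apply Finset.dvd_sum
  intro q _
  induction q using Quotient.inductionOn with
  | h x =>
    rw [← h x]
    apply dvd_of_eq
    apply Nat.card_congr
    apply Equiv.subtypeEquivRight
    intro y
    rw [Quotient.eq]
    exact ⟨fun h => r.symm' h, fun h => r.symm' h⟩

/-- The index of the derived subgroup of a Frobenius group divides `|M| - 1`. -/
theorem index_dvd (hfree : ∀ h, h ∉ commutator H → ∀ y ∈ commutator H,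
    ∃ z ∈ commutator H, h * z * h⁻¹ * z⁻¹ = y) :
    (commutator H).index ∣ Nat.card (commutator H) - 1 := by
  classical
  haveI : Fintype H := Fintype.ofFinite H
  set M := commutator H with hMdef
  have hMn : M.Normal := inferInstance
  have hcent : ∀ y : H, y ∈ M → y ≠ 1 → ∀ h, h * y = y * h → h ∈ M := by
    intro y hy hy1 h hh
    by_contra hhM
    apply hy1
    apply com_inj hab hU h (hfree h hhM) hy
    rw [hh]
    group
  let X := {y : M // y ≠ 1}
  let r : Setoid X := Setoid.comap (fun y : X => ((y.1 : M) : H)) (IsConj.setoid H)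
  have h1 := dvd_card_of_classes r M.index ?_
  · have h2 : Nat.card X = Nat.card M - 1 := by
      haveI : Fintype M := Fintype.ofFinite M
      simp only [X]
      rw [Nat.card_eq_fintype_card, Nat.card_eq_fintype_card, Fintype.card_subtype_compl]
      simp
    rwa [h2] at h1
  · rintro ⟨⟨y, hy⟩, hy1⟩
    have hy1' : y ≠ 1 := fun h => hy1 (Subtype.ext h)
    have h1 := Cfsg.Agent.Lib.CharInd.card_conj_mul_card_centralizer y
    have h2 : Nat.card (Subgroup.centralizer ({y} : Set H)) = Nat.card M := by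
      have h3 : Subgroup.centralizer ({y} : Set H) = M := by
        ext h
        rw [Subgroup.mem_centralizer_singleton_iff]
        constructor
        · intro hh
          exact hcent y hy hy1' h hh
        · intro hh
          exact hab h hh y hy
      rw [h3]
    rw [h2, ← Subgroup.card_mul_index M, mul_comm] at h1
    have h3 : Nat.card {x : H // IsConj y x} = M.index :=
      Nat.eq_of_mul_eq_mul_left Nat.card_pos h1
    rw [← h3]
    apply Nat.card_congr
    refine ⟨fun z => ⟨z.1.1.1, z.2⟩, fun z => ⟨⟨⟨z.1, ?_⟩, ?_⟩, z.2⟩, ?_, ?_⟩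
    · obtain ⟨c, hc⟩ := isConj_iff.mp z.2
      rw [← hc]
      exact hMn.conj_mem y hy c
    · intro h0
      apply hy1'
      have h4 := congrArg Subtype.val h0
      have h5 : z.1 = 1 := h4
      have h6 := z.2
      rw [h5] at h6
      exact isConj_one_left.mp h6
    · intro z
      rfl
    · intro z
      rfl

end Uniq2

section Uniq3

variable {H : Type u} [Group H] [Finite H]

/-- The index of the derived subgroup in the Frobenius case. -/
theorem frob_index {m : ℕ} (hcd : Two H m)
    (hab : ∀ a ∈ commutator H, ∀ b ∈ commutator H, a * b = b * a)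
    (hne : commutator H ≠ ⊥) (htop : commutator H ≠ ⊤)
    (hfree : ∀ h, h ∉ commutator H → ∀ y ∈ commutator H,
      ∃ z ∈ commutator H, h * z * h⁻¹ * z⁻¹ = y) :
    (commutator H).index = m := by
  classical
  haveI : Fintype H := Fintype.ofFinite H
  set M := commutator H with hMdef
  haveI : Fintype M := Fintype.ofFinite M
  have hMn : M.Normal := inferInstance
  have hM' : ∀ a b : M, a * b = b * a := fun a b => Subtype.ext (hab a a.2 b b.2)
  letI cg : CommGroup M := { (inferInstance : Group M) with mul_comm := hM' }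
  obtain ⟨y₀, hy₀, hy₁⟩ := (Subgroup.ne_bot_iff_exists_ne_one.mp hne |>.imp fun y hy => ⟨y.2, hy⟩ :
    ∃ y : M, (y : H) ∈ M ∧ y ≠ 1)
  obtain ⟨l, hl⟩ := Cfsg.Agent.Lib.CharTwist.exists_hom_ne_one hy₁
  have hl' : ∀ z : M, l z = 1 → True := fun _ _ => trivial
  let ξ : M → ℂ := fun y => ((l y : ℂˣ) : ℂ)
  have hξ : IsIrrCharacter M ξ := isIrrCharacter_of_hom l
  have hstab : ∀ g : H, (∀ a : M, ξ ⟨g * a * g⁻¹, hMn.conj_mem a a.2 g⟩ = ξ a) → g ∈ M := by
    intro g hg
    by_contra hgM
    apply hl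
    obtain ⟨z, hz, hz'⟩ := hfree g hgM y₀ y₀.2
    have h1 : y₀ = (⟨g * z * g⁻¹, hMn.conj_mem z hz g⟩ : M) * (⟨z, hz⟩ : M)⁻¹ := Subtype.ext hz'.symm
    rw [h1, map_mul, map_inv]
    have h2 := hg ⟨z, hz⟩
    have h3 : l ⟨g * z * g⁻¹, hMn.conj_mem z hz g⟩ = l ⟨z, hz⟩ := Units.ext h2
    rw [h3, mul_inv_cancel]
  obtain ⟨h1, h2⟩ := irr_ind_of_stab M hξ hstab
  have h3 : charDegree ξ = 1 := by
    apply charDegree_of_one
    simp [ξ]
  rw [h3, mul_one] at h2
  rcases hcd ⟨_, h1⟩ with h4 | h4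
  · change charDegree (indFun M ξ) = 1 at h4
    rw [h2] at h4
    exact absurd (Subgroup.index_eq_one.mp h4) htop
  · change charDegree (indFun M ξ) = m at h4
    rw [← h2]
    exact h4

/-- Degree at most the index of an abelian subgroup. -/
theorem degree_le_index {χ : H → ℂ} (hχ : IsIrrCharacter H χ) (W : Subgroup H)
    (hW : ∀ a ∈ W, ∀ b ∈ W, a * b = b * a) : charDegree χ ≤ W.index := by
  classical
  haveI : Fintype H := Fintype.ofFinite H
  haveI : Fintype W := Fintype.ofFinite W
  have hχc := IsIrrCharacter.isCharacter hχ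
  obtain ⟨τ, hτ⟩ := Cfsg.Agent.Lib.CoprimeDeg.exists_constituent W hχc (irr_degree_ne_zero hχ)
  have hτ1 : (τ : W → ℂ) 1 = 1 := Cfsg.Agent.Lib.CharCodegP.irr_one_of_comm
    (fun a b => Subtype.ext (hW a a.2 b b.2)) τ.2
  have hind : IsCharacter H (indFun W (τ : W → ℂ)) :=
    indFun_isCharacter W (IsIrrCharacter.isCharacter τ.2)
  have hfrob := frobenius W (τ : W → ℂ) (isClassFunction_of_isCharacter hχc)
  have h1 : classInner (indFun W (τ : W → ℂ)) χ ≠ 0 := by
    rw [hfrob, ← classInner_conj_symm]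
    exact (map_ne_zero _).mpr hτ
  obtain ⟨ψ', hψ', heq⟩ := Cfsg.Agent.Lib.CharDecomp.exists_char_add hind hχ h1
  have h2 := congrFun heq 1
  rw [indFun_one, hτ1, mul_one, Pi.add_apply, one_eq_charDegree hχc, one_eq_charDegree hψ'] at h2
  have h3 : W.index = charDegree χ + charDegree ψ' := by exact_mod_cast h2
  omega

end Uniq3

section Solvable

/-- A group with two character degrees is solvable. -/
theorem solvable_of_two : ∀ (n : ℕ) (G : Type u) [Group G] [Finite G] (m : ℕ), Nat.card G = n →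
    Two G m → Group.IsSolvable G := by
  intro n
  induction n using Nat.strong_induction_on with
  | _ n ih =>
  intro G _ _ m hn hcd
  classical
  haveI : Fintype G := Fintype.ofFinite G
  by_cases hab : ∀ a b : G, a * b = b * a
  · letI : CommGroup G := { (inferInstance : Group G) with mul_comm := hab }
    exact Group.isSolvable_of_comm hab
  -- a non-linear character
  obtain ⟨χ₀, hχ₀⟩ : ∃ χ : IrrCharacter G, charDegree (χ : G → ℂ) ≠ 1 := by
    by_contra hne
    push Not at hne
    apply hab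
    apply comm_of_all_linear
    intro θ
    rw [one_eq_charDegree (IsIrrCharacter.isCharacter θ.2), hne θ]
    simp
  have hm : charDegree (χ₀ : G → ℂ) = m := (hcd χ₀).resolve_left hχ₀
  have hm1 : m ≠ 1 := by rw [← hm]; exact hχ₀
  obtain ⟨p, hp, hpm⟩ := Nat.exists_prime_and_dvd hm1
  have hmG : m ∣ Nat.card G := by
    rw [← hm]
    exact charDegree_dvd_card χ₀.2
  have hdeg : ∀ χ : IrrCharacter G, charDegree (χ : G → ℂ) ≠ 1 → p ∣ charDegree (χ : G → ℂ) := by
    intro χ hχ
    rw [(hcd χ).resolve_left hχ]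
    exact hpm
  obtain ⟨K, hKn, hKc, k, hKi⟩ := Cfsg.Agent.S4456.result p hp hdeg
  haveI := hKn
  haveI : Fintype K := Fintype.ofFinite K
  have hKcG : ¬ p ∣ Nat.card K := fun h => by
    have := Nat.Coprime.eq_one_of_dvd hKc.symm h
    exact hp.one_lt.ne' this
  have hG0 : Nat.card G ≠ 0 := Nat.card_pos.ne'
  have hKlt : Nat.card K < Nat.card G := by
    have h1 := Subgroup.card_mul_index K
    have hk : k ≠ 0 := by
      rintro rfl
      rw [pow_zero] at hKi
      rw [hKi, mul_one] at h1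
      exact hKcG (h1 ▸ (hpm.trans hmG))
    rw [hKi] at h1
    have h2 : 1 < p ^ k := Nat.one_lt_pow hk hp.one_lt
    have h3 : 0 < Nat.card K := Nat.card_pos
    nlinarith
  set m' := m / p ^ m.factorization p with hm'
  have hm0 : m ≠ 0 := fun h => by
    rw [h] at hm
    exact charDegree_ne_zero χ₀.2 hm
  have hK2 : Two K m' := by
    intro θ
    obtain ⟨χ, hχ⟩ := Cfsg.Agent.Lib.GlaubAbove.exists_irr_over K θ
    have hcc := one_eq_charDegree (IsIrrCharacter.isCharacter χ.2)
    have hdd := one_eq_charDegree (IsIrrCharacter.isCharacter θ.2)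
    obtain ⟨h1, h2⟩ := Cfsg.Agent.Lib.DegreeDiv.degree_div K χ.2 θ.2 hχ hcc hdd
    set d := charDegree (θ : K → ℂ) with hd
    have hdK : ¬ p ∣ d := fun h => hKcG (h.trans (charDegree_dvd_card θ.2))
    rcases hcd χ with h3 | h3
    · left
      rw [h3] at h1
      exact Nat.dvd_one.mp h1
    · right
      rw [h3] at h1 h2
      rw [hKi] at h2
      obtain ⟨j, -, hj⟩ := (Nat.dvd_prime_pow hp).mp h2
      have h4 : m = d * p ^ j := by
        rw [← hj]
        exact (Nat.mul_div_cancel' h1).symm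
      have hd0 : d ≠ 0 := charDegree_ne_zero θ.2
      have h5 : m.factorization p = j := by
        rw [h4, Nat.factorization_mul hd0 (pow_ne_zero _ hp.ne_zero), Nat.Prime.factorization_pow hp]
        simp [Nat.factorization_eq_zero_of_not_dvd hdK]
      rw [hm', h5, h4]
      exact (Nat.mul_div_cancel _ (pow_pos hp.pos _)).symm
  have hKs := ih (Nat.card K) (hn ▸ hKlt) K m' rfl hK2
  have hQ : IsPGroup p (G ⧸ K) := IsPGroup.of_card (n := k) hKi
  haveI : Group.IsSolvable (G ⧸ K) := by
    haveI : Fact p.Prime := ⟨hp⟩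
    haveI := hQ.isNilpotent
    infer_instance
  exact Group.isSolvable_of_ker_le_range K.subtype (QuotientGroup.mk' K) (by
    intro x hx
    have h1 : x ∈ K := by
      rw [MonoidHom.mem_ker] at hx
      exact (QuotientGroup.eq_one_iff x).mp hx
    exact ⟨⟨x, h1⟩, rfl⟩)

end Solvable

section CaseFrob

/-- The Frobenius case: an abelian normal subgroup of index `m`. -/
theorem case_frob {G : Type u} [Group G] [Finite G] {m : ℕ} (hm1 : m ≠ 1) (hcd : Two G m)
    (N : Subgroup G) [hN : N.Normal]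
    (hab : ∀ a ∈ commutator (G ⧸ N), ∀ b ∈ commutator (G ⧸ N), a * b = b * a)
    (hU : ∀ L : Subgroup (G ⧸ N), L.Normal → L ≠ ⊥ → commutator (G ⧸ N) ≤ L)
    (hne : commutator (G ⧸ N) ≠ ⊥) (htop : commutator (G ⧸ N) ≠ ⊤)
    (hfree : ∀ h, h ∉ commutator (G ⧸ N) → ∀ y ∈ commutator (G ⧸ N),
      ∃ z ∈ commutator (G ⧸ N), h * z * h⁻¹ * z⁻¹ = y) :
    ∃ A : Subgroup G, A.Normal ∧ (∀ a ∈ A, ∀ b ∈ A, a * b = b * a) ∧ A.index = m := by
  set M := commutator (G ⧸ N) with hMdef
  have hMn : M.Normal := inferInstance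
  have hidxM : M.index = m := frob_index (hcd.quotient N) hab hne htop hfree
  let q : G →* G ⧸ N := QuotientGroup.mk' N
  have hq : Function.Surjective q := QuotientGroup.mk'_surjective N
  let A : Subgroup G := M.comap q
  haveI hAn : A.Normal := hMn.comap q
  have hidx : A.index = m := by
    rw [Subgroup.index_comap_of_surjective M hq, hidxM]
  refine ⟨A, hAn, ?_, hidx⟩
  let π : A →* M := q.subgroupComap M
  have hπ : Function.Surjective π := q.subgroupComap_surjective_of_surjective M hq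
  let c : G → M →* M := fun x => (MulAut.conjNormal (q x)).toMonoidHom
  have hc : ∀ (x : G) (a : A), π ⟨x * a * x⁻¹, hAn.conj_mem a a.2 x⟩ = c x (π a) := by
    intro x a
    apply Subtype.ext
    show q (x * a * x⁻¹) = q x * q a * (q x)⁻¹
    simp
  have hfree' : ∀ x, x ∉ A → ∀ y : M, ∃ z : M, c x z * z⁻¹ = y := by
    intro x hx y
    obtain ⟨z, hz, hz'⟩ := hfree (q x) hx y y.2
    refine ⟨⟨z, hz⟩, Subtype.ext ?_⟩
    exact hz'
  have hdvd := index_dvd hab hU hfree
  have hM1 : 1 < Nat.card M := by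
    haveI : Nontrivial M := (Subgroup.nontrivial_iff_ne_bot M).mpr hne
    exact Finite.one_lt_card
  rw [← hMdef, hidxM] at hdvd
  have hcop : (Nat.card M).Coprime m := by
    obtain ⟨t, ht⟩ := hdvd
    have h1 : Nat.card M = m * t + 1 := by omega
    rw [h1]
    simp
  have hsize : m ≤ Nat.card M := by
    have h1 : m ≤ Nat.card M - 1 := Nat.le_of_dvd (by omega) hdvd
    omega
  exact abelian_of_frob hm1 hcd A hidx (fun x y => Subtype.ext (hab x x.2 y y.2)) π hπ c hc hfree'
    hcop hsize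

end CaseFrob

section Complement

variable {G : Type u} [Group G] (K : Subgroup G) [hK : K.Normal]

/-- Conjugation on the normal subgroup `K`. -/
def cj (g : G) : K →* K := (MulAut.conjNormal g).toMonoidHom

theorem cj_apply (g : G) (k : K) : ((cj K g k : K) : G) = g * k * g⁻¹ :=
  MulAut.conjNormal_apply g k

theorem cj_mul (g h : G) : cj K (g * h) = (cj K g).comp (cj K h) := by
  ext k
  simp [cj_apply, mul_assoc]

theorem cj_one : cj K (1 : G) = MonoidHom.id K := by
  ext k
  simp [cj_apply]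

/-- The action on linear characters. -/
def act (g : G) (l : K →* ℂˣ) : K →* ℂˣ := l.comp (cj K g)

theorem act_apply (g : G) (l : K →* ℂˣ) (k : K) : act K g l k = l (cj K g k) := rfl

theorem act_mul (g h : G) (l : K →* ℂˣ) : act K (g * h) l = act K h (act K g l) := by
  ext k
  simp [act, cj_mul]

theorem act_one (l : K →* ℂˣ) : act K (1 : G) l = l := by
  ext k
  simp [act, cj_one]

theorem act_mul_hom (g : G) (l l' : K →* ℂˣ) : act K g (l * l') = act K g l * act K g l' := by
  ext k
  simp [act]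

theorem act_inv_hom (g : G) (l : K →* ℂˣ) : act K g l⁻¹ = (act K g l)⁻¹ := by
  ext k
  simp [act]

/-- Stabilizer of a linear character in a subgroup. -/
def stab (P : Subgroup G) (l : K →* ℂˣ) : Subgroup P where
  carrier := {x | act K (x : G) l = l}
  mul_mem' := by
    intro x y hx hy
    show act K ((x : G) * y) l = l
    rw [act_mul]
    have hx' : act K (x : G) l = l := hx
    have hy' : act K (y : G) l = l := hy
    rw [hx', hy']
  one_mem' := act_one K l
  inv_mem' := by
    intro x hx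
    have hx' : act K (x : G) l = l := hx
    show act K ((x : G)⁻¹) l = l
    have h1 := act_mul K (x : G) (x : G)⁻¹ l
    rw [mul_inv_cancel, act_one, hx'] at h1
    exact h1.symm

theorem mem_stab {P : Subgroup G} {l : K →* ℂˣ} {x : P} : x ∈ stab K P l ↔ act K (x : G) l = l :=
  Iff.rfl

end Complement

section Main

variable {G : Type u} [Group G] [Finite G] (K P : Subgroup G) [hK : K.Normal] (r : G →* P)
  (hr : ∀ x : P, r x = x) (hker : ∀ g, r g = 1 ↔ g ∈ K) (hab : ∀ a ∈ K, ∀ b ∈ K, a * b = b * a)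

include hr in
theorem r_surj : Function.Surjective r := fun x => ⟨x, hr x⟩

include hr hker in
theorem kpart_mem (g : G) : g * ((r g : P) : G)⁻¹ ∈ K := by
  rw [← hker, map_mul, map_inv, hr, mul_inv_cancel]

/-- The `K`-part of an element. -/
def kpart (g : G) : K := ⟨g * ((r g : P) : G)⁻¹, kpart_mem K P r hr hker g⟩

theorem kpart_coe (g : G) : ((kpart K P r hr hker g : K) : G) = g * ((r g : P) : G)⁻¹ := rfl

theorem kpart_mul (g h : G) :
    kpart K P r hr hker (g * h) = cj K g (kpart K P r hr hker h) * kpart K P r hr hker g := by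
  apply Subtype.ext
  push_cast
  rw [cj_apply, kpart_coe, kpart_coe, kpart_coe, map_mul]
  push_cast
  group

include hab in
theorem act_of_mem {k : G} (hk : k ∈ K) (g : G) (l : K →* ℂˣ) : act K (k * g) l = act K g l := by
  rw [act_mul]
  congr 1
  ext a
  rw [act_apply]
  congr 2
  apply Subtype.ext
  rw [cj_apply, hab k hk a a.2]
  simp

include hr hker hab in
theorem act_eq_act_r (g : G) (l : K →* ℂˣ) : act K g l = act K ((r g : P) : G) l := by
  conv_lhs => rw [show g = (g * ((r g : P) : G)⁻¹) * ((r g : P) : G) by group]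
  exact act_of_mem K hab (kpart_mem K P r hr hker g) _ l

/-- The subgroup above the stabilizer. -/
def Estab (l : K →* ℂˣ) : Subgroup G := (stab K P l).comap r

include hr hker hab in
theorem mem_Estab (l : K →* ℂˣ) (g : G) : g ∈ Estab K P r l ↔ act K g l = l := by
  show r g ∈ stab K P l ↔ _
  rw [mem_stab, ← act_eq_act_r K P r hr hker hab]

/-- The canonical extension. -/
def lhat (l : K →* ℂˣ) : Estab K P r l →* ℂˣ where
  toFun e := l (kpart K P r hr hker e)
  map_one' := by
    have h1 : kpart K P r hr hker ((1 : Estab K P r l) : G) = 1 := by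
      apply Subtype.ext
      simp [kpart_coe]
    rw [h1, map_one]
  map_mul' a b := by
    have h1 : act K (r a : G) l = l := a.2
    have h2 : act K (a : G) l = l := by
      rw [act_eq_act_r K P r hr hker hab, h1]
    push_cast
    rw [kpart_mul, map_mul, mul_comm]
    congr 1
    have h3 := congrArg (fun f : K →* ℂˣ => f (kpart K P r hr hker b)) h2
    exact h3

theorem lhat_apply (l : K →* ℂˣ) (e : Estab K P r l) :
    lhat K P r hr hker hab l e = l (kpart K P r hr hker e) := rfl

include hr hker hab in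
theorem le_Estab (l : K →* ℂˣ) : K ≤ Estab K P r l := by
  intro k hk
  rw [mem_Estab K P r hr hker hab]
  have h1 := act_of_mem K hab hk 1 l
  rw [mul_one, act_one] at h1
  exact h1

include hr hker hab in
/-- The degree formula for the stabilizer of a linear character. -/
theorem stab_index {m : ℕ} (hcd : Two G m) (l : K →* ℂˣ) (hl : stab K P l ≠ ⊤)
    (β : IrrCharacter (stab K P l)) : (stab K P l).index * charDegree (β : stab K P l → ℂ) = m := by
  classical
  haveI : Fintype G := Fintype.ofFinite G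
  haveI : Fintype K := Fintype.ofFinite K
  set E := Estab K P r l with hE
  haveI : Fintype E := Fintype.ofFinite E
  have hKE : K ≤ E := le_Estab K P r hr hker hab l
  let ρ : E →* stab K P l := r.subgroupComap (stab K P l)
  have hρ : Function.Surjective ρ :=
    r.subgroupComap_surjective_of_surjective _ (r_surj P r hr)
  let lh := lhat K P r hr hker hab l
  let β' : E → ℂ := (β : stab K P l → ℂ) ∘ ρ
  have hβ' : IsIrrCharacter E β' := isIrrCharacter_comp_of_surjective ρ hρ β.2
  let ξ : E → ℂ := (fun g => ((lh g : ℂˣ) : ℂ)) * β'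
  have hξ : IsIrrCharacter E ξ := Cfsg.Agent.Lib.DetChar.isIrr_mul_hom lh hβ'
  let θ : K → ℂ := fun k => ((l k : ℂˣ) : ℂ)
  have hθ : IsIrrCharacter K θ := isIrrCharacter_of_hom l
  have hT : ∀ g : G, g ∈ E ↔ ∀ n : K, θ ⟨g * n * g⁻¹, hK.conj_mem (n : G) n.2 g⟩ = θ n := by
    intro g
    rw [hE, mem_Estab K P r hr hker hab]
    constructor
    · intro h n
      have h1 := congrArg (fun f : K →* ℂˣ => f n) h
      simp only [act_apply] at h1
      show ((l _ : ℂˣ) : ℂ) = ((l n : ℂˣ) : ℂ)
      rw [← h1]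
      rfl
    · intro h
      ext n
      exact h n
  have hkp : ∀ k : K, kpart K P r hr hker (k : G) = k := by
    intro k
    apply Subtype.ext
    rw [kpart_coe, (hker _).mpr k.2]
    simp
  have hρk : ∀ k : K, ρ ⟨k, hKE k.2⟩ = 1 := by
    intro k
    apply Subtype.ext
    exact (hker _).mpr k.2
  have hres : (fun n : K => ξ ⟨(n : G), hKE n.2⟩) = (charDegree (β : stab K P l → ℂ) : ℂ) • θ := by
    funext n
    simp only [ξ, Pi.mul_apply, β', Function.comp_apply, hρk, Pi.smul_apply, smul_eq_mul]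
    rw [one_eq_charDegree (IsIrrCharacter.isCharacter β.2)]
    have h1 : lh ⟨n, hKE n.2⟩ = l n := by
      show l (kpart K P r hr hker (n : G)) = l n
      rw [hkp]
    rw [h1, mul_comm]
  have hover : classInner (fun n : K => ξ ⟨(n : G), hKE n.2⟩) θ ≠ 0 := by
    rw [hres, classInner_smul_left, classInner_irr_self hθ, mul_one]
    exact_mod_cast charDegree_ne_zero β.2
  have h1 := (indFun_irr_of_over K E hθ hT hKE hξ hover).1
  have hidx : E.index = (stab K P l).index :=
    Subgroup.index_comap_of_surjective _ (r_surj P r hr)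
  have hdeg : charDegree (indFun E ξ) = (stab K P l).index * charDegree (β : stab K P l → ℂ) := by
    apply charDegree_of_one
    rw [indFun_one, hidx]
    simp only [ξ, Pi.mul_apply, β', Function.comp_apply, map_one, Units.val_one, one_mul]
    rw [one_eq_charDegree (IsIrrCharacter.isCharacter β.2)]
    push_cast
    rfl
  rcases hcd ⟨_, h1⟩ with h2 | h2
  · change charDegree (indFun E ξ) = 1 at h2
    rw [hdeg] at h2
    exact absurd (Subgroup.index_eq_one.mp (Nat.eq_one_of_mul_eq_one_right h2)) hl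
  · change charDegree (indFun E ξ) = m at h2
    rw [← h2, hdeg]

include hr hker hab in
/-- The index of the stabilizer and its commutativity. -/
theorem stab_facts {m : ℕ} (hcd : Two G m) (l : K →* ℂˣ) (hl : stab K P l ≠ ⊤) :
    (stab K P l).index = m ∧ ∀ a b : stab K P l, a * b = b * a := by
  have h1 := stab_index K P r hr hker hab hcd l hl ⟨fun _ => 1, isIrrCharacter_one⟩
  have h2 : charDegree (fun _ : stab K P l => (1 : ℂ)) = 1 := charDegree_of_one (by simp)
  change (stab K P l).index * charDegree (fun _ : stab K P l => (1 : ℂ)) = m at h1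
  rw [h2, mul_one] at h1
  refine ⟨h1, ?_⟩
  apply comm_of_all_linear
  intro θ
  have h3 := stab_index K P r hr hker hab hcd l hl θ
  have hm0 : (stab K P l).index ≠ 0 := Subgroup.index_ne_zero_of_finite
  have h4 : charDegree (θ : stab K P l → ℂ) = 1 := by
    apply Nat.eq_of_mul_eq_mul_left (Nat.pos_of_ne_zero hm0)
    rw [h3, mul_one, h1]
  rw [one_eq_charDegree (IsIrrCharacter.isCharacter θ.2), h4]
  simp

include hr hker hab in
/-- The derived subgroup of `P` lies in the stabilizer. -/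
theorem comm_le_stab {m : ℕ} (hcd : Two G m) (N : Subgroup G) [hN : N.Normal] (hKN : K ≤ N)
    (hcent : commutator (G ⧸ N) ≤ Subgroup.center (G ⧸ N))
    (χ : IrrCharacter (G ⧸ N)) (hχ : charDegree (χ : G ⧸ N → ℂ) = m)
    (l : K →* ℂˣ) (hl : stab K P l ≠ ⊤) (a b : P) : a * b * a⁻¹ * b⁻¹ ∈ stab K P l := by
  classical
  obtain ⟨hidx, hcomm⟩ := stab_facts K P r hr hker hab hcd l hl
  set T := stab K P l with hT
  let φ : P →* G ⧸ N := (QuotientGroup.mk' N).comp P.subtype
  have hφ : Function.Surjective φ := by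
    intro x
    obtain ⟨g, rfl⟩ := QuotientGroup.mk'_surjective N x
    refine ⟨r g, ?_⟩
    show (QuotientGroup.mk' N) ((r g : P) : G) = QuotientGroup.mk' N g
    rw [eq_comm, QuotientGroup.mk'_apply, QuotientGroup.mk'_apply, QuotientGroup.eq]
    apply hKN
    rw [← hker, map_mul, map_inv, hr, inv_mul_cancel]
  let Tb : Subgroup (G ⧸ N) := T.map φ
  let W : Subgroup (G ⧸ N) := Tb ⊔ Subgroup.center (G ⧸ N)
  have hWab : ∀ x ∈ W, ∀ y ∈ W, x * y = y * x := by
    intro x hx y hy
    obtain ⟨x₁, hx₁, z₁, hz₁, rfl⟩ := Subgroup.mem_sup_of_normal_right.mp hx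
    obtain ⟨y₁, hy₁, z₂, hz₂, rfl⟩ := Subgroup.mem_sup_of_normal_right.mp hy
    obtain ⟨s, hs, rfl⟩ := hx₁
    obtain ⟨t, ht, rfl⟩ := hy₁
    have h1 : φ s * φ t = φ t * φ s := by
      rw [← map_mul, ← map_mul]
      congr 1
      have := hcomm ⟨s, hs⟩ ⟨t, ht⟩
      exact congrArg Subtype.val this
    have hz₁' := Subgroup.mem_center_iff.mp hz₁
    have hz₂' := Subgroup.mem_center_iff.mp hz₂
    calc φ s * z₁ * (φ t * z₂) = φ s * (z₁ * φ t) * z₂ := by group
      _ = φ s * (φ t * z₁) * z₂ := by rw [hz₁']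
      _ = (φ s * φ t) * (z₁ * z₂) := by group
      _ = (φ t * φ s) * (z₂ * z₁) := by rw [h1, hz₂' z₁]
      _ = φ t * (φ s * z₂) * z₁ := by group
      _ = φ t * (z₂ * φ s) * z₁ := by rw [hz₂']
      _ = _ := by group
  have h1 : m ≤ W.index := by
    rw [← hχ]
    exact degree_le_index χ.2 W hWab
  have hTbW : Tb ≤ W := le_sup_left
  have h2 : Tb.index ∣ T.index := Subgroup.index_map_dvd T hφ
  have hT0 : T.index ≠ 0 := Subgroup.index_ne_zero_of_finite
  have h3 : W.index ∣ Tb.index := Subgroup.index_dvd_of_le hTbW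
  have hTb0 : Tb.index ≠ 0 := Subgroup.index_ne_zero_of_finite
  have h4 : W.index ≤ Tb.index := Nat.le_of_dvd (Nat.pos_of_ne_zero hTb0) h3
  have h5 : Tb.index ≤ T.index := Nat.le_of_dvd (Nat.pos_of_ne_zero hT0) h2
  have h6 : W.index = m := by omega
  have h7 : Tb.index = m := by omega
  have h8 : W ≤ Tb := by
    have h := Subgroup.relIndex_mul_index hTbW
    rw [h6, h7] at h
    have hm0 : 0 < m := by omega
    exact Subgroup.relIndex_eq_one.mp (Nat.eq_of_mul_eq_mul_right hm0 (by rw [h, one_mul]))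
  have h9 : T ⊔ φ.ker ≤ T := by
    have h := Subgroup.index_map (H := T) φ
    rw [φ.range_eq_top_of_surjective hφ, Subgroup.index_top, mul_one] at h
    have h10 := Subgroup.relIndex_mul_index (le_sup_left : T ≤ T ⊔ φ.ker)
    have h11 : (T ⊔ φ.ker).index = m := by rw [← h]; exact h7
    rw [h11, hidx] at h10
    have hm0 : 0 < m := by omega
    exact Subgroup.relIndex_eq_one.mp (Nat.eq_of_mul_eq_mul_right hm0 (by rw [h10, one_mul]))
  have h10 : φ (a * b * a⁻¹ * b⁻¹) ∈ commutator (G ⧸ N) := by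
    have := mem_commutator (φ a) (φ b)
    simpa only [map_mul, map_inv] using this
  obtain ⟨t, ht, ht'⟩ := h8 (Subgroup.mem_sup_right (hcent h10))
  have h11 : t⁻¹ * (a * b * a⁻¹ * b⁻¹) ∈ φ.ker := by
    rw [MonoidHom.mem_ker, map_mul, map_inv, ← ht', inv_mul_cancel]
  have h12 := h9 (Subgroup.mem_sup_right h11)
  have h13 := T.mul_mem ht h12
  rwa [mul_inv_cancel_left] at h13

/-- Subgroups of the same index, one inside the other, coincide. -/
theorem eq_of_le_of_index {X : Type*} [Group X] [Finite X] {A B : Subgroup X} (h : A ≤ B)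
    (hi : A.index = B.index) : A = B := by
  apply le_antisymm h
  have h1 := Subgroup.relIndex_mul_index h
  have h0 : B.index ≠ 0 := Subgroup.index_ne_zero_of_finite
  rw [← hi] at h1
  have h2 : A.relIndex B = 1 := by
    apply Nat.eq_of_mul_eq_mul_right (Nat.pos_of_ne_zero (hi ▸ h0))
    rw [h1, one_mul]
  exact Subgroup.relIndex_eq_one.mp h2

theorem comm_aux1 {A : Type*} [CommGroup A] {a b c d : A} (h : a * b = c * d) :
    a * c⁻¹ = d * b⁻¹ := by
  rw [← div_eq_mul_inv, ← div_eq_mul_inv, div_eq_div_iff_mul_eq_mul, h, mul_comm]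

theorem comm_aux2 {A : Type*} [CommGroup A] (a c : A) : a = c * (a * c⁻¹) := by
  rw [mul_comm a, mul_inv_cancel_left]

theorem comm_aux3 {A : Type*} [CommGroup A] (a b : A) (n : ℕ) : a * b * b ^ n = a * b ^ (n + 1) := by
  rw [pow_succ', mul_assoc]

theorem comm_aux4 {A : Type*} [CommGroup A] {a b : A} (h : a = a * b) : b = 1 := left_eq_mul.mp h

theorem comm_aux5 {A : Type*} [CommGroup A] {a b : A} (h : 1 = a * b⁻¹) : b = a := by
  rw [eq_comm, mul_inv_eq_one] at h
  exact h.symm

theorem comm_aux6 {A : Type*} [CommGroup A] {d : A} {a b : ℕ} (h1 : d ^ a = 1) (h2 : d ^ b = 1)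
    (h : a.gcd b = 1) : d = 1 := by
  have h3 := pow_gcd_eq_one.mpr ⟨h1, h2⟩
  rwa [h, pow_one] at h3

theorem act_pow_hom (g : G) (l : K →* ℂˣ) (n : ℕ) : act K g (l ^ n) = (act K g l) ^ n := by
  ext k
  simp [act]

theorem act_pow_of_fixed (x : G) (l δ : K →* ℂˣ) (hx : act K x l = l * δ) (hδ : act K x δ = δ)
    (n : ℕ) : act K (x ^ n) l = l * δ ^ n := by
  induction n with
  | zero =>
    ext k
    simp [act_one]
  | succ n ih =>
    rw [pow_succ, act_mul, ih, act_mul_hom, act_pow_hom, hx, hδ]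
    exact comm_aux3 (A := K →* ℂˣ) _ _ _

include hr hker hab in
/-- The stabilizer of a non-fixed linear character does not depend on the character. -/
theorem stab_const {m p : ℕ} (hp : p.Prime) (hcd : Two G m) (hP : IsPGroup p P)
    (hco : (Nat.card K).Coprime p)
    (hT : ∀ l : K →* ℂˣ, stab K P l ≠ ⊤ → ∀ a b : P, a * b * a⁻¹ * b⁻¹ ∈ stab K P l)
    (l₁ l₂ : K →* ℂˣ) (h1 : stab K P l₁ ≠ ⊤) (h2 : stab K P l₂ ≠ ⊤) :
    stab K P l₁ = stab K P l₂ := by
  haveI : Fact p.Prime := ⟨hp⟩
  by_contra hne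
  have hi1 := (stab_facts K P r hr hker hab hcd l₁ h1).1
  have hi2 := (stab_facts K P r hr hker hab hcd l₂ h2).1
  -- an element of `T₁` outside `T₂`
  have hnle : ¬ stab K P l₁ ≤ stab K P l₂ := fun h =>
    hne (eq_of_le_of_index h (by rw [hi1, hi2]))
  obtain ⟨g, hg1, hg2⟩ := SetLike.not_le_iff_exists.mp hnle
  set y := l₁ * l₂ with hy
  have hystab : stab K P y ≠ ⊤ := by
    intro htop
    have h3 : g ∈ stab K P y := by rw [htop]; trivial
    apply hg2
    rw [mem_stab] at h3 hg1 ⊢
    rw [hy, act_mul_hom, hg1] at h3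
    exact mul_left_cancel h3
  have hiy := (stab_facts K P r hr hker hab hcd y hystab).1
  have key : ∀ (l : K →* ℂˣ), stab K P l ≠ ⊤ → ∀ (x t : P), t ∈ stab K P l →
      act K (t : G) (act K (x : G) l) = act K (x : G) l := by
    intro l hl x t ht
    have h3 : (x : G) * t = ((t * (t⁻¹ * x * t * x⁻¹) * x : P) : G) := by
      push_cast
      group
    rw [← act_mul, h3]
    have h4 : t⁻¹ * x * t * x⁻¹ ∈ stab K P l := by
      have := hT l hl t⁻¹ x
      simpa using this
    have h5 : t * (t⁻¹ * x * t * x⁻¹) ∈ stab K P l := (stab K P l).mul_mem ht h4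
    rw [Subgroup.coe_mul, act_mul]
    rw [show act K ((t * (t⁻¹ * x * t * x⁻¹) : P) : G) l = l from h5]
  have hle : stab K P y ≤ stab K P l₁ ⊓ stab K P l₂ := by
    intro x hx
    have hx' : act K (x : G) (l₁ * l₂) = l₁ * l₂ := hx
    rw [act_mul_hom] at hx'
    set δ := act K (x : G) l₁ * l₁⁻¹ with hδ
    have hδ2 : δ = l₂ * (act K (x : G) l₂)⁻¹ := comm_aux1 (A := K →* ℂˣ) hx'
    have hfix1 : stab K P l₁ ≤ stab K P δ := by
      intro t ht
      rw [mem_stab, hδ, act_mul_hom, act_inv_hom, key l₁ h1 x t ht,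
        show act K (t : G) l₁ = l₁ from ht]
    have hfix2 : stab K P l₂ ≤ stab K P δ := by
      intro t ht
      rw [mem_stab, hδ2, act_mul_hom, act_inv_hom, key l₂ h2 x t ht,
        show act K (t : G) l₂ = l₂ from ht]
    have hδtop : stab K P δ = ⊤ := by
      by_contra hδne
      have hid := (stab_facts K P r hr hker hab hcd δ hδne).1
      have e1 := eq_of_le_of_index hfix1 (by rw [hi1, hid])
      have e2 := eq_of_le_of_index hfix2 (by rw [hi2, hid])
      exact hne (e1.trans e2.symm)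
    have hδx : act K (x : G) δ = δ := by
      have : x ∈ stab K P δ := by rw [hδtop]; trivial
      exact this
    have hxl : act K (x : G) l₁ = l₁ * δ := comm_aux2 (A := K →* ℂˣ) _ _
    obtain ⟨k, hk⟩ := (IsPGroup.iff_orderOf.mp hP) x
    have h3 := act_pow_of_fixed K (x : G) l₁ δ hxl hδx (p ^ k)
    have hxk : (x : G) ^ (p ^ k) = 1 := by
      have := pow_orderOf_eq_one x
      rw [hk] at this
      exact_mod_cast congrArg Subtype.val this
    rw [hxk, act_one] at h3
    have h4 : δ ^ (p ^ k) = 1 := comm_aux4 (A := K →* ℂˣ) h3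
    have h5 : δ ^ (Nat.card K) = 1 := by
      apply MonoidHom.ext
      intro a
      have h6 : a ^ Nat.card K = 1 := pow_card_eq_one'
      show δ a ^ Nat.card K = 1
      rw [← map_pow, h6, map_one]
    have h6 : δ = 1 := by
      have h8 : (p ^ k).gcd (Nat.card K) = 1 := by
        have := Nat.Coprime.pow_right k hco
        exact Nat.Coprime.symm this
      exact comm_aux6 (A := K →* ℂˣ) h4 h5 h8
    constructor
    · show act K (x : G) l₁ = l₁
      rw [hxl, h6]
      exact mul_one (M := K →* ℂˣ) _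
    · show act K (x : G) l₂ = l₂
      have h7 := hδ2
      rw [h6] at h7
      exact comm_aux5 (A := K →* ℂˣ) h7
  have e1 : stab K P y = stab K P l₁ := eq_of_le_of_index (hle.trans inf_le_left) (by rw [hiy, hi1])
  have e2 : stab K P y = stab K P l₂ := eq_of_le_of_index (hle.trans inf_le_right) (by rw [hiy, hi2])
  exact hne (e1.symm.trans e2)

include hab in
/-- Linear characters separate the points of `K`. -/
theorem separate (x y : K) (h : ∀ l : K →* ℂˣ, l x = l y) : x = y := by
  letI : CommGroup K := { (inferInstance : Group K) with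
    mul_comm := fun a b => Subtype.ext (hab a a.2 b b.2) }
  by_contra hne
  have hx : x * y⁻¹ ≠ 1 := fun h1 => hne (mul_inv_eq_one.mp h1)
  obtain ⟨l, hl⟩ := Cfsg.Agent.Lib.CharTwist.exists_hom_ne_one hx
  apply hl
  have := h l
  rw [map_mul, map_inv]
  rw [this]
  simp

include hr hker hab in
/-- The conclusion once a complement is available. -/
theorem split_conclusion {m p : ℕ} (hp : p.Prime) (hcd : Two G m) (hP : IsPGroup p P)
    (hco : (Nat.card K).Coprime p) (N : Subgroup G) [hN : N.Normal] (hKN : K ≤ N)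
    (hcent : commutator (G ⧸ N) ≤ Subgroup.center (G ⧸ N))
    (χ : IrrCharacter (G ⧸ N)) (hχ : charDegree (χ : G ⧸ N → ℂ) = m) :
    (∃ A : Subgroup G, A.Normal ∧ (∀ a ∈ A, ∀ b ∈ A, a * b = b * a) ∧ A.index = m) ∨
      ∃ P' A : Subgroup G, P'.Normal ∧ A.Normal ∧ IsPGroup p P' ∧
        (∀ a ∈ A, ∀ b ∈ A, a * b = b * a) ∧ P' ⊓ A = ⊥ ∧ P' ⊔ A = ⊤ := by
  have hT := comm_le_stab K P r hr hker hab hcd N hKN hcent χ hχ
  have hcentral : ∀ (x : P), (∀ l : K →* ℂˣ, act K (x : G) l = l) →
      ∀ k ∈ K, (x : G) * k = k * x := by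
    intro x hx k hk
    have h1 : cj K (x : G) ⟨k, hk⟩ = ⟨k, hk⟩ :=
      separate K hab _ _ (fun l => by
        have := congrArg (fun f : K →* ℂˣ => f ⟨k, hk⟩) (hx l)
        exact this)
    have h2 := congrArg Subtype.val h1
    rw [cj_apply] at h2
    push_cast at h2
    calc (x : G) * k = ((x : G) * k * (x : G)⁻¹) * x := by group
      _ = k * x := by rw [h2]
  by_cases h : ∃ l₀ : K →* ℂˣ, stab K P l₀ ≠ ⊤
  · obtain ⟨l₀, hl₀⟩ := h
    left
    obtain ⟨hidx, hcomm⟩ := stab_facts K P r hr hker hab hcd l₀ hl₀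
    set T := stab K P l₀ with hTdef
    have hTn : T.Normal := by
      constructor
      intro a ha b
      have h1 := hT l₀ hl₀ b a
      have h2 := T.mul_mem h1 ha
      have h3 : b * a * b⁻¹ * a⁻¹ * a = b * a * b⁻¹ := by group
      rwa [h3] at h2
    have hall : ∀ t ∈ T, ∀ l : K →* ℂˣ, act K (t : P) l = l := by
      intro t ht l
      by_cases hl : stab K P l = ⊤
      · have : t ∈ stab K P l := by rw [hl]; trivial
        exact this
      · have h1 := stab_const K P r hr hker hab hp hcd hP hco hT l₀ l hl₀ hl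
        have : t ∈ stab K P l := by rw [← h1]; exact ht
        exact this
    have hc : ∀ t ∈ T, ∀ k ∈ K, ((t : P) : G) * k = k * t := fun t ht =>
      hcentral t (hall t ht)
    refine ⟨T.comap r, inferInstance, ?_, ?_⟩
    · intro a ha b hb
      set ra : G := ((r a : P) : G) with hra
      set rb : G := ((r b : P) : G) with hrb
      have hka : a * ra⁻¹ ∈ K := kpart_mem K P r hr hker a
      have hkb : b * rb⁻¹ ∈ K := kpart_mem K P r hr hker b
      set ka := a * ra⁻¹ with hkadef
      set kb := b * rb⁻¹ with hkbdef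
      have ea : a = ka * ra := by rw [hkadef]; group
      have eb : b = kb * rb := by rw [hkbdef]; group
      have c1 : ra * kb = kb * ra := hc _ ha _ hkb
      have c2 : rb * ka = ka * rb := hc _ hb _ hka
      have c3 : ka * kb = kb * ka := hab _ hka _ hkb
      have c4 : ra * rb = rb * ra := by
        have := hcomm ⟨r a, ha⟩ ⟨r b, hb⟩
        have h1 := congrArg Subtype.val this
        exact congrArg Subtype.val h1
      rw [ea, eb]
      calc ka * ra * (kb * rb) = ka * (ra * kb) * rb := by group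
        _ = ka * (kb * ra) * rb := by rw [c1]
        _ = (ka * kb) * (ra * rb) := by group
        _ = (kb * ka) * (rb * ra) := by rw [c3, c4]
        _ = kb * (ka * rb) * ra := by group
        _ = kb * (rb * ka) * ra := by rw [c2]
        _ = _ := by group
    · rw [Subgroup.index_comap_of_surjective T (r_surj P r hr), hidx]
  · push Not at h
    right
    have hall : ∀ (x : P) (l : K →* ℂˣ), act K (x : G) l = l := by
      intro x l
      have : x ∈ stab K P l := by rw [h l]; trivial
      exact this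
    have hc : ∀ (x : P), ∀ k ∈ K, (x : G) * k = k * x := fun x => hcentral x (hall x)
    refine ⟨P, K, ?_, hK, hP, hab, ?_, ?_⟩
    · constructor
      intro x hx g
      have hkg : g * ((r g : P) : G)⁻¹ ∈ K := kpart_mem K P r hr hker g
      have h1 : g * x * g⁻¹ = (g * ((r g : P) : G)⁻¹) * (((r g : P) : G) * x * ((r g : P) : G)⁻¹) *
          (g * ((r g : P) : G)⁻¹)⁻¹ := by group
      have hy : ((r g : P) : G) * x * ((r g : P) : G)⁻¹ ∈ P :=
        P.mul_mem (P.mul_mem (r g).2 hx) (P.inv_mem (r g).2)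
      have h2 := hc ⟨_, hy⟩ _ hkg
      simp only at h2
      rw [h1]
      set u := g * ((r g : P) : G)⁻¹ with hu
      set v := ((r g : P) : G) * x * ((r g : P) : G)⁻¹ with hv
      have h3 : u * v * u⁻¹ = v := by
        calc u * v * u⁻¹ = v * u * u⁻¹ := by rw [h2]
          _ = v := by group
      rw [h3]
      exact hy
    · rw [eq_bot_iff]
      intro x hx
      have h1 : r x = 1 := (hker x).mpr hx.2
      have h2 := hr ⟨x, hx.1⟩
      rw [h1] at h2
      have h3 := congrArg Subtype.val h2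
      exact Subgroup.mem_bot.mpr h3.symm
    · rw [eq_top_iff]
      intro g _
      rw [Subgroup.mem_sup_of_normal_right]
      refine ⟨((r g : P) : G), (r g).2, ((r g : P) : G)⁻¹ * g, ?_, by group⟩
      rw [← hker, map_mul, map_inv, hr, inv_mul_cancel]

end Main

section CaseP

/-- The `p`-group case. -/
theorem case_p {G : Type u} [Group G] [Finite G] {m p : ℕ} (hp : p.Prime) (hm1 : m ≠ 1)
    (hcd : Two G m) (N : Subgroup G) [hN : N.Normal] (hHp : IsPGroup p (G ⧸ N))
    (hcent : commutator (G ⧸ N) ≤ Subgroup.center (G ⧸ N))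
    (hne : commutator (G ⧸ N) ≠ ⊥) :
    (∃ A : Subgroup G, A.Normal ∧ (∀ a ∈ A, ∀ b ∈ A, a * b = b * a) ∧ A.index = m) ∨
      ∃ e : ℕ, m = p ^ e ∧ ∃ P' A : Subgroup G, P'.Normal ∧ A.Normal ∧ IsPGroup p P' ∧
        (∀ a ∈ A, ∀ b ∈ A, a * b = b * a) ∧ P' ⊓ A = ⊥ ∧ P' ⊔ A = ⊤ := by
  classical
  haveI : Fintype G := Fintype.ofFinite G
  haveI : Fact p.Prime := ⟨hp⟩
  -- a character of the quotient of degree `m`
  have hchar : ∃ χ : IrrCharacter (G ⧸ N), charDegree (χ : G ⧸ N → ℂ) = m := by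
    by_contra hno
    push Not at hno
    apply hne
    rw [commutator_def, Subgroup.commutator_eq_bot_iff_le_centralizer]
    intro x _ y _
    apply Cfsg.Agent.Lib.CliffDvd.comm_of_all_linear
    intro θ
    have h1 := hcd.quotient N θ
    have h2 : charDegree (θ : G ⧸ N → ℂ) = 1 := h1.resolve_right (hno θ)
    rw [one_eq_charDegree (IsIrrCharacter.isCharacter θ.2), h2]
    simp
  obtain ⟨χ, hχ⟩ := hchar
  obtain ⟨n, hn⟩ := (IsPGroup.iff_card.mp hHp)
  have hmdvd : m ∣ p ^ n := by
    rw [← hχ, ← hn]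
    exact charDegree_dvd_card χ.2
  obtain ⟨e, -, he⟩ := (Nat.dvd_prime_pow hp).mp hmdvd
  have hpm : p ∣ m := by
    rw [he]
    apply dvd_pow_self
    rintro rfl
    exact hm1 (by simpa using he)
  obtain ⟨K, hKn, hKco, k, hKk⟩ := Cfsg.Agent.S4456.result (G := G) p hp (fun χ' hχ' => by
    have := (hcd χ').resolve_left hχ'
    rw [this]
    exact hpm)
  haveI := hKn
  haveI : Fintype K := Fintype.ofFinite K
  have hab : ∀ a ∈ K, ∀ b ∈ K, a * b = b * a := by
    intro a ha b hb
    have h1 := Cfsg.Agent.Lib.CliffDvd.comm_of_all_linear (A := K) (fun θ => by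
      obtain ⟨χ', hχ'⟩ := Cfsg.Agent.Lib.GlaubAbove.exists_irr_over K θ
      have h2 := Cfsg.Agent.Lib.CliffDvd.degree_dvd K θ.2 χ'.2 hχ'
      have h3 : charDegree (θ : K → ℂ) ∣ Nat.card K := charDegree_dvd_card θ.2
      have h4 : (charDegree (θ : K → ℂ)).Coprime p := Nat.Coprime.coprime_dvd_left h3 hKco
      have h5 : charDegree (θ : K → ℂ) ∣ m := by
        rcases hcd χ' with h6 | h6
        · rw [h6] at h2
          exact h2.trans (one_dvd _)
        · rwa [h6] at h2
      have h6 : charDegree (θ : K → ℂ) = 1 := by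
        rw [he] at h5
        have h7 : (charDegree (θ : K → ℂ)).Coprime (p ^ e) := Nat.Coprime.pow_right e h4
        exact Nat.Coprime.eq_one_of_dvd h7 h5
      rw [one_eq_charDegree (IsIrrCharacter.isCharacter θ.2), h6]
      simp) ⟨a, ha⟩ ⟨b, hb⟩
    exact congrArg Subtype.val h1
  have hKN : K ≤ N := by
    intro x hx
    have h1 : (x : G ⧸ N) ^ Nat.card K = 1 := by
      have h2 : x ^ Nat.card K = 1 := by
        have h5 : (⟨x, hx⟩ : K) ^ Nat.card K = 1 := pow_card_eq_one'
        have h3 := congrArg Subtype.val h5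
        rw [Subgroup.coe_pow] at h3
        exact h3
      rw [← QuotientGroup.mk_pow, h2]
      rfl
    have h2 : (x : G ⧸ N) ^ p ^ n = 1 := by
      rw [← hn]
      exact pow_card_eq_one'
    have h3 : (p ^ n).gcd (Nat.card K) = 1 := (Nat.Coprime.pow_right n hKco).symm
    have h4 := pow_gcd_eq_one.mpr ⟨h2, h1⟩
    rw [h3, pow_one] at h4
    exact (QuotientGroup.eq_one_iff x).mp h4
  have hKco' : (Nat.card K).Coprime K.index := by
    rw [hKk]
    exact Nat.Coprime.pow_right k hKco
  obtain ⟨P, hP⟩ := Subgroup.exists_right_complement'_of_coprime hKco'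
  have hP' : P.IsComplement' K := hP.symm
  let e' := hP'.QuotientMulEquiv
  let r : G →* P := e'.toMonoidHom.comp (QuotientGroup.mk' K)
  have hr : ∀ x : P, r x = x := by
    intro x
    show e' ((x : G) : G ⧸ K) = x
    rw [← MulEquiv.eq_symm_apply]
    rfl
  have hker : ∀ g, r g = 1 ↔ g ∈ K := by
    intro g
    show e' (g : G ⧸ K) = 1 ↔ _
    rw [map_eq_one_iff e' e'.injective, QuotientGroup.eq_one_iff]
  have hPp : IsPGroup p P := by
    apply IsPGroup.of_card (n := k)
    rw [← hP'.index_eq_card, hKk]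
  rcases split_conclusion K P r hr hker hab hp hcd hPp hKco N hKN hcent χ hχ with h | h
  · exact Or.inl h
  · exact Or.inr ⟨e, he, h⟩

end CaseP

section Final

/-- The structure theorem for groups with two character degrees. -/
theorem two_structure {G : Type u} [Group G] [Finite G] {m : ℕ} (hcd : Two G m)
    (hm : ∃ χ : IrrCharacter G, charDegree (χ : G → ℂ) = m) (hm1 : m ≠ 1) :
    (∃ A : Subgroup G, A.Normal ∧ (∀ a ∈ A, ∀ b ∈ A, a * b = b * a) ∧ A.index = m) ∨
      ∃ p e : ℕ, p.Prime ∧ m = p ^ e ∧ ∃ P' A : Subgroup G, P'.Normal ∧ A.Normal ∧ IsPGroup p P' ∧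
        (∀ a ∈ A, ∀ b ∈ A, a * b = b * a) ∧ P' ⊓ A = ⊥ ∧ P' ⊔ A = ⊤ := by
  classical
  have hGne : commutator G ≠ ⊥ := by
    intro h
    obtain ⟨χ, hχ⟩ := hm
    have h1 : ∀ a b : G, a * b = b * a := by
      intro a b
      have h2 := mem_commutator a b
      rw [h, Subgroup.mem_bot] at h2
      calc a * b = a * b * a⁻¹ * b⁻¹ * (b * a) := by group
        _ = b * a := by rw [h2, one_mul]
    have h2 := Cfsg.Agent.Lib.CharCodegP.irr_one_of_comm h1 χ.2
    apply hm1
    rw [← hχ]
    exact charDegree_of_one (by simpa using h2)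
  let S : Set (Subgroup G) := {N | N.Normal ∧ ¬ commutator G ≤ N}
  have hS : S.Nonempty := ⟨⊥, ⟨inferInstance, fun h => hGne (le_bot_iff.mp h)⟩⟩
  obtain ⟨N, hNmax⟩ := S.toFinite.exists_maximal hS
  haveI hNn : N.Normal := hNmax.prop.1
  have hsol : Group.IsSolvable G := solvable_of_two _ G m rfl hcd
  let q : G →* G ⧸ N := QuotientGroup.mk' N
  have hq : Function.Surjective q := QuotientGroup.mk'_surjective N
  haveI hHsol : Group.IsSolvable (G ⧸ N) := Group.isSolvable_of_surjective hq
  have hne : commutator (G ⧸ N) ≠ ⊥ := by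
    intro h
    apply hNmax.prop.2
    rw [commutator_def, Subgroup.commutator_le]
    intro a _ b _
    have h1 := mem_commutator (q a) (q b)
    rw [h, Subgroup.mem_bot] at h1
    have h2 : q ⁅a, b⁆ = 1 := by
      rw [commutatorElement_def, map_mul, map_mul, map_mul, map_inv, map_inv]
      exact h1
    exact (QuotientGroup.eq_one_iff _).mp h2
  have hU : ∀ L : Subgroup (G ⧸ N), L.Normal → L ≠ ⊥ → commutator (G ⧸ N) ≤ L := by
    intro L hL hLne
    haveI := hL
    have h1 : commutator G ≤ L.comap q := by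
      by_contra h2
      have h3 : L.comap q ∈ S := ⟨inferInstance, h2⟩
      have h4 : N ≤ L.comap q := by
        intro x hx
        show q x ∈ L
        have : q x = 1 := (QuotientGroup.eq_one_iff x).mpr hx
        rw [this]
        exact L.one_mem
      have h5 := hNmax.le_of_ge h3 h4
      apply hLne
      rw [eq_bot_iff]
      intro y hy
      obtain ⟨x, rfl⟩ := hq y
      exact Subgroup.mem_bot.mpr ((QuotientGroup.eq_one_iff x).mpr (h5 hy))
    rw [commutator_def, Subgroup.commutator_le]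
    intro a _ b _
    obtain ⟨a', rfl⟩ := hq a
    obtain ⟨b', rfl⟩ := hq b
    have h2 := h1 (mem_commutator a' b')
    have h3 : q (a' * b' * a'⁻¹ * b'⁻¹) ∈ L := h2
    rw [commutatorElement_def]
    simpa only [map_mul, map_inv] using h3
  have hab := commutator_abelian hHsol hU
  have hHnt : Nontrivial (G ⧸ N) := by
    by_contra h
    rw [not_nontrivial_iff_subsingleton] at h
    exact hne (Subsingleton.elim _ _)
  have htop : commutator (G ⧸ N) ≠ ⊤ :=
    (Group.IsSolvable.commutator_lt_top_of_nontrivial (G ⧸ N)).ne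
  by_cases hcent : commutator (G ⧸ N) ≤ Subgroup.center (G ⧸ N)
  · -- the nilpotent case
    haveI hnil : Group.IsNilpotent (G ⧸ N) := by
      rw [Subgroup.nilpotent_iff_lowerCentralSeries]
      refine ⟨2, ?_⟩
      show ⁅commutator (G ⧸ N), (⊤ : Subgroup (G ⧸ N))⁆ = ⊥
      rw [Subgroup.commutator_eq_bot_iff_le_centralizer, Subgroup.coe_top,
        Subgroup.centralizer_univ]
      exact hcent
    obtain ⟨p, hp, hpd⟩ := Nat.exists_prime_and_dvd (Finite.one_lt_card (α := G ⧸ N)).ne'
    haveI : Fact p.Prime := ⟨hp⟩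
    have hHp : IsPGroup p (G ⧸ N) := by
      apply IsPGroup.of_card (n := (Nat.card (G ⧸ N)).primeFactorsList.length)
      apply Nat.eq_prime_pow_of_unique_prime_dvd Nat.card_pos.ne'
      intro q' hq' hq'd
      haveI : Fact q'.Prime := ⟨hq'⟩
      by_contra hqp
      obtain ⟨Sp⟩ : Nonempty (Sylow p (G ⧸ N)) := inferInstance
      obtain ⟨Sq⟩ : Nonempty (Sylow q' (G ⧸ N)) := inferInstance
      have hSp : (Sp : Subgroup (G ⧸ N)) ≠ ⊥ := Sp.ne_bot_of_dvd_card hpd
      have hSq : (Sq : Subgroup (G ⧸ N)) ≠ ⊥ := Sq.ne_bot_of_dvd_card hq'd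
      have h1 := hU _ inferInstance hSp
      have h2 := hU _ inferInstance hSq
      apply hne
      rw [eq_bot_iff]
      have h3 := IsPGroup.disjoint_of_ne q' p hqp _ _ Sq.isPGroup' Sp.isPGroup'
      exact (le_inf h2 h1).trans h3.le_bot
    rcases case_p hp hm1 hcd N hHp hcent hne with h | ⟨e, he, h⟩
    · exact Or.inl h
    · exact Or.inr ⟨p, e, hp, he, h⟩
  · left
    obtain ⟨y₀, hy₀, hy₀c⟩ := SetLike.not_le_iff_exists.mp hcent
    rw [Subgroup.mem_center_iff] at hy₀c
    push Not at hy₀c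
    obtain ⟨g₀, hg₀⟩ := hy₀c
    have hg₀' : ∃ y ∈ commutator (G ⧸ N), g₀ * y * g₀⁻¹ * y⁻¹ ≠ 1 := by
      refine ⟨y₀, hy₀, fun h => hg₀ ?_⟩
      calc g₀ * y₀ = g₀ * y₀ * g₀⁻¹ * y₀⁻¹ * (y₀ * g₀) := by group
        _ = y₀ * g₀ := by rw [h, one_mul]
    have hfree : ∀ h, h ∉ commutator (G ⧸ N) → ∀ y ∈ commutator (G ⧸ N),
        ∃ z ∈ commutator (G ⧸ N), h * z * h⁻¹ * z⁻¹ = y := by
      intro h hh
      apply com_surj hab hU
      by_contra hno
      push Not at hno
      apply hh
      apply mem_of_centralizes hab hU hne g₀ hg₀'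
      intro y hy
      have := hno y hy
      calc h * y = h * y * h⁻¹ * y⁻¹ * (y * h) := by group
        _ = y * h := by rw [this, one_mul]
    exact case_frob hm1 hcd N hab hU hne htop hfree

end Final

end Cfsg.Agent.Lib.TwoDeg
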