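import Mathlib
import Cfsg.Agent.Lib.TwoDeg

/-!
# Groups with two character degrees have abelian derived subgroup

* `exists_hom_extend`: a linear character of a subgroup containing the commutators, trivial on all
  the commutators, extends.
* `pgroup_comm`: the `p`-group case.
* `two_comm`: the general case.
-/

set_option autoImplicit false
set_option linter.style.haveILetI false
set_option linter.unusedVariables false
set_option linter.unusedSectionVars false

namespace Cfsg.Agent.Lib.TwoDeg2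

open Cfsg Cfsg.Agent.Lib.CharBasic Cfsg.Agent.Lib.CharInd Cfsg.Agent.Lib.CharKernel
open Cfsg.Agent.Lib.Clifford Cfsg.Agent.Lib.CliffDvd Cfsg.Agent.Lib.TwoDeg
open scoped ComplexConjugate commutatorElement

universe u v

section Ext

/-- Extension of a linear character trivial on all commutators. -/
theorem exists_hom_extend {I : Type u} [Group I] [Finite I] (J : Subgroup I)
    (f : J →* ℂˣ) (hJ : ∀ g h : I, g * h * g⁻¹ * h⁻¹ ∈ J)
    (hf : ∀ g h : I, f ⟨g * h * g⁻¹ * h⁻¹, hJ g h⟩ = 1) :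
    ∃ F : I →* ℂˣ, ∀ j : J, F j = f j := by
  classical
  haveI : Fintype I := Fintype.ofFinite I
  haveI : Fintype J := Fintype.ofFinite J
  haveI hJn : J.Normal := ⟨fun j hj g => by
    have h1 := J.mul_mem (hJ g j) hj
    have h2 : g * j * g⁻¹ * j⁻¹ * j = g * j * g⁻¹ := by group
    rwa [h2] at h1⟩
  let θ : IrrCharacter J := ⟨fun j => ((f j : ℂˣ) : ℂ), isIrrCharacter_of_hom f⟩
  obtain ⟨χ, hχ⟩ := Cfsg.Agent.Lib.GlaubAbove.exists_irr_over J θ
  have hinv : ∀ (g : I) (n : J), (θ : J → ℂ) ⟨g * n * g⁻¹, hJn.conj_mem (n : I) n.2 g⟩ =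
      (θ : J → ℂ) n := by
    intro g n
    show ((f _ : ℂˣ) : ℂ) = ((f n : ℂˣ) : ℂ)
    have h1 : (⟨g * n * g⁻¹, hJn.conj_mem (n : I) n.2 g⟩ : J) =
        ⟨g * n * g⁻¹ * (n : I)⁻¹, hJ g n⟩ * n := by
      apply Subtype.ext
      simp
    rw [h1, map_mul, hf, one_mul]
  obtain ⟨e, he0, hres, -⟩ := restrict_eq_smul_of_invariant J θ.2 hinv χ.2 hχ
  have hval : ∀ j : J, (χ : I → ℂ) j = e * ((f j : ℂˣ) : ℂ) := by
    intro j
    have := congrFun hres j
    simpa using this
  have hone : (χ : I → ℂ) 1 = e := by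
    have := hval 1
    simpa using this
  have hker : commutator I ≤ charKer (IsIrrCharacter.isCharacter χ.2) := by
    rw [commutator_def, Subgroup.commutator_le]
    intro a _ b _
    rw [mem_charKer, hone, commutatorElement_def]
    rw [hval ⟨_, hJ a b⟩, hf]
    simp
  have hcomm : ∀ x ∈ commutator I, (χ : I → ℂ) x = (χ : I → ℂ) 1 := fun x hx => hker hx
  obtain ⟨χ', hχ', hχ'2⟩ := exists_quotient_irr (commutator I) χ.2 hcomm
  have h1 : χ' 1 = 1 := Cfsg.Agent.Lib.CharCodegP.irr_one_of_comm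
    (fun x y => mul_comm (G := Abelianization I) x y) hχ'
  have h2 : (χ : I → ℂ) 1 = 1 := by
    rw [← hχ'2 1]
    exact h1
  obtain ⟨F, hF⟩ := exists_hom_of_degree_one (IsIrrCharacter.isCharacter χ.2) h2
  refine ⟨F, fun j => ?_⟩
  apply Units.ext
  rw [← hF, hval, ← hone, h2, one_mul]

/-- A constituent of a linear character induced from a subgroup. -/
theorem exists_constituent_of_induced {G : Type u} [Group G] [Finite G] (I : Subgroup G)
    (F : I →* ℂˣ) :
    ∃ β : IrrCharacter G, charDegree (β : G → ℂ) ≤ I.index ∧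
      ∀ B : G →* ℂˣ, (∀ g, (β : G → ℂ) g = B g) → ∀ i : I, F i = B i := by
  classical
  haveI : Fintype G := Fintype.ofFinite G
  haveI : Fintype I := Fintype.ofFinite I
  let θ : IrrCharacter I := ⟨fun j => ((F j : ℂˣ) : ℂ), isIrrCharacter_of_hom F⟩
  obtain ⟨β, hβ⟩ := Cfsg.Agent.Lib.GlaubAbove.exists_irr_over I θ
  have hβc := IsIrrCharacter.isCharacter β.2
  refine ⟨β, ?_, ?_⟩
  · have hind : IsCharacter G (indFun I (θ : I → ℂ)) :=
      indFun_isCharacter I (IsIrrCharacter.isCharacter θ.2)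
    have hfrob := frobenius I (θ : I → ℂ) (isClassFunction_of_isCharacter hβc)
    have h1 : classInner (indFun I (θ : I → ℂ)) (β : G → ℂ) ≠ 0 := by
      rw [hfrob, ← classInner_conj_symm]
      exact (map_ne_zero _).mpr hβ
    obtain ⟨ψ', hψ', heq⟩ := Cfsg.Agent.Lib.CharDecomp.exists_char_add hind β.2 h1
    have h2 := congrFun heq 1
    have h3 : (θ : I → ℂ) 1 = 1 := by
      show ((F 1 : ℂˣ) : ℂ) = 1
      simp
    rw [indFun_one, h3, mul_one, Pi.add_apply, one_eq_charDegree hβc, one_eq_charDegree hψ'] at h2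
    have h4 : I.index = charDegree (β : G → ℂ) + charDegree ψ' := by exact_mod_cast h2
    omega
  · intro B hB i
    apply Units.ext
    by_contra hne
    have h1 : (fun n : I => (β : G → ℂ) n) = fun n : I => ((B.comp I.subtype n : ℂˣ) : ℂ) := by
      funext n
      exact hB n
    have h2 : (θ : I → ℂ) ≠ fun n : I => ((B.comp I.subtype n : ℂˣ) : ℂ) := by
      intro h3
      exact hne (congrFun h3 i)
    apply hβ
    rw [h1, classInner_irr_ne (isIrrCharacter_of_hom _) θ.2 (Ne.symm h2)]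

end Ext

section Inertia

variable {G : Type u} [Group G] [Finite G] (E : Subgroup G) [hE : E.Normal]

/-- The inertia group of a linear character of a normal subgroup. -/
def inert (μ : E →* ℂˣ) : Subgroup G where
  carrier := {g | act E g μ = μ}
  mul_mem' := by
    intro x y hx hy
    show act E (x * y) μ = μ
    have hx' : act E x μ = μ := hx
    have hy' : act E y μ = μ := hy
    rw [act_mul, hx', hy']
  one_mem' := act_one E μ
  inv_mem' := by
    intro x hx
    have hx' : act E x μ = μ := hx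
    show act E x⁻¹ μ = μ
    have h1 := act_mul E x x⁻¹ μ
    rw [mul_inv_cancel, act_one, hx'] at h1
    exact h1.symm

theorem mem_inert {μ : E →* ℂˣ} {g : G} : g ∈ inert E μ ↔ act E g μ = μ := Iff.rfl

theorem inert_conj {μ : E →* ℂˣ} {g : G} (hg : g ∈ inert E μ) (e : E) :
    μ (cj E g e) = μ e := by
  have h1 : act E g μ = μ := hg
  exact congrArg (fun f : E →* ℂˣ => f e) h1

/-- A non-linear character over a linear character which is not trivial on commutators. -/
theorem stepA (μ : E →* ℂˣ) (hEI : E ≤ inert E μ) {a b : G} (ha : a ∈ inert E μ)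
    (hb : b ∈ inert E μ) (hz : a * b * a⁻¹ * b⁻¹ ∈ E) (hμ : μ ⟨_, hz⟩ ≠ 1) :
    ∃ χ : IrrCharacter G, 2 * (inert E μ).index ≤ charDegree (χ : G → ℂ) := by
  classical
  haveI : Fintype G := Fintype.ofFinite G
  haveI : Fintype E := Fintype.ofFinite E
  set I := inert E μ with hI
  haveI : Fintype I := Fintype.ofFinite I
  let θ : IrrCharacter E := ⟨fun j => ((μ j : ℂˣ) : ℂ), isIrrCharacter_of_hom μ⟩
  obtain ⟨χ, hχ⟩ := Cfsg.Agent.Lib.GlaubAbove.exists_irr_over E θ
  have hT : ∀ g : G, g ∈ I ↔ ∀ n : E, (θ : E → ℂ) ⟨g * n * g⁻¹, hE.conj_mem (n : G) n.2 g⟩ =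
      (θ : E → ℂ) n := by
    intro g
    constructor
    · intro h n
      have h1 := inert_conj E h n
      show ((μ _ : ℂˣ) : ℂ) = ((μ n : ℂˣ) : ℂ)
      rw [← h1]
      rfl
    · intro h
      show act E g μ = μ
      ext n
      exact h n
  obtain ⟨ψ, hψ, hind, hmul⟩ := exists_inertia_char E I θ.2 hT hEI χ.2 hχ
  have hψc := IsIrrCharacter.isCharacter hψ
  have hne : charDegree ψ ≠ 1 := by
    intro h1
    have h2 : ψ 1 = 1 := by
      rw [one_eq_charDegree hψc, h1]
      simp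
    obtain ⟨F, hF⟩ := exists_hom_of_degree_one hψc h2
    have h3 : ∀ e : E, F ⟨e, hEI e.2⟩ = μ e := by
      intro e
      apply Units.ext
      by_contra hne'
      have h4 : (fun n : E => ψ ⟨(n : G), hEI n.2⟩) =
          fun n : E => ((F.comp (Subgroup.inclusion hEI) n : ℂˣ) : ℂ) := by
        funext n
        exact hF _
      have h5 : (θ : E → ℂ) ≠ fun n : E => ((F.comp (Subgroup.inclusion hEI) n : ℂˣ) : ℂ) := by
        intro h6
        exact hne' (congrFun h6 e).symm
      apply hχ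
      rw [← hmul, h4, classInner_irr_ne (isIrrCharacter_of_hom _) θ.2 (Ne.symm h5)]
    apply hμ
    rw [← h3]
    have h4 : (⟨_, hEI hz⟩ : I) = (⟨a, ha⟩ : I) * ⟨b, hb⟩ * (⟨a, ha⟩ : I)⁻¹ * (⟨b, hb⟩ : I)⁻¹ := rfl
    rw [h4, map_mul, map_mul, map_mul, map_inv, map_inv]
    rw [mul_comm (F _) (F _), mul_inv_cancel_right, mul_inv_cancel]
  have h1 : charDegree (indFun I ψ) = I.index * charDegree ψ := by
    apply charDegree_of_one
    rw [indFun_one, one_eq_charDegree hψc]
    push_cast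
    rfl
  refine ⟨χ, ?_⟩
  rw [← hind, h1]
  have h2 := charDegree_pos hψ
  rw [mul_comm]
  apply Nat.mul_le_mul_left
  omega

end Inertia

section Core

variable {G : Type u} [Group G]

/-- The centre of a subgroup, as a subgroup of the group. -/
def cen (D : Subgroup G) : Subgroup G where
  carrier := {x | x ∈ D ∧ ∀ y ∈ D, x * y = y * x}
  mul_mem' := by
    rintro a b ⟨ha1, ha2⟩ ⟨hb1, hb2⟩
    refine ⟨D.mul_mem ha1 hb1, fun y hy => ?_⟩
    rw [mul_assoc, hb2 y hy, ← mul_assoc, ha2 y hy, mul_assoc]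
  one_mem' := ⟨D.one_mem, fun y _ => by simp⟩
  inv_mem' := by
    rintro a ⟨ha1, ha2⟩
    refine ⟨D.inv_mem ha1, fun y hy => ?_⟩
    rw [inv_mul_eq_iff_eq_mul, ← mul_assoc, ha2 y hy, mul_assoc, mul_inv_cancel, mul_one]

theorem mem_cen {D : Subgroup G} {x : G} : x ∈ cen D ↔ x ∈ D ∧ ∀ y ∈ D, x * y = y * x := Iff.rfl

instance cen_normal (D : Subgroup G) [hD : D.Normal] : (cen D).Normal := by
  constructor
  rintro x ⟨hx1, hx2⟩ g
  refine ⟨hD.conj_mem x hx1 g, fun y hy => ?_⟩
  have h1 := hx2 (g⁻¹ * y * g) (by simpa using hD.conj_mem y hy g⁻¹)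
  calc g * x * g⁻¹ * y = g * (x * (g⁻¹ * y * g)) * g⁻¹ := by group
    _ = g * ((g⁻¹ * y * g) * x) * g⁻¹ := by rw [h1]
    _ = _ := by group

theorem exists_hom_ne (K : Subgroup G) [Finite K] (hab : ∀ a ∈ K, ∀ b ∈ K, a * b = b * a)
    (x : K) (hx : x ≠ 1) : ∃ l : K →* ℂˣ, l x ≠ 1 := by
  letI : CommGroup K := { (inferInstance : Group K) with
    mul_comm := fun a b => Subtype.ext (hab a a.2 b b.2) }
  exact Cfsg.Agent.Lib.CharTwist.exists_hom_ne_one hx


variable [Finite G]

/-- The core of the `p`-group argument. -/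
theorem core {m p : ℕ} (hp : p.Prime) (hG : IsPGroup p G) (hcd : Two G m)
    (hZ : ∀ a ∈ commutator G, ∀ b ∈ commutator G, a * b * a⁻¹ * b⁻¹ ∈ Subgroup.center G)
    (hmin : ∀ L : Subgroup G, L.Normal → L ≠ ⊥ → ∀ a ∈ commutator G, ∀ b ∈ commutator G,
      a * b * a⁻¹ * b⁻¹ ∈ L)
    {a₀ b₀ : G} (ha₀ : a₀ ∈ commutator G) (hb₀ : b₀ ∈ commutator G)
    (hne : a₀ * b₀ * a₀⁻¹ * b₀⁻¹ ≠ 1) : False := by
  classical
  haveI : Fact p.Prime := ⟨hp⟩
  set D := commutator G with hDdef
  have hDn : D.Normal := inferInstance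
  set E := cen D with hEdef
  have hEab : ∀ a ∈ E, ∀ b ∈ E, a * b = b * a := fun a ha b hb => ha.2 b hb.1
  have hz : ∀ a ∈ D, ∀ b ∈ D, a * b * a⁻¹ * b⁻¹ ∈ E := by
    intro a ha b hb
    refine ⟨D.mul_mem (D.mul_mem (D.mul_mem ha hb) (D.inv_mem ha)) (D.inv_mem hb), fun y _ => ?_⟩
    exact (Subgroup.mem_center_iff.mp (hZ a ha b hb) y).symm
  -- a linear character not trivial on `z`
  obtain ⟨μ, hμ⟩ := exists_hom_ne E hEab ⟨_, hz a₀ ha₀ b₀ hb₀⟩ (fun h =>
    hne (congrArg Subtype.val h))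
  have hDI : D ≤ inert E μ := by
    intro d hd
    show act E d μ = μ
    ext e
    rw [act_apply]
    congr 2
    apply Subtype.ext
    rw [cj_apply, (e.2.2 d hd).symm]
    simp
  have hEI : E ≤ inert E μ := fun x hx => hDI hx.1
  set I := inert E μ with hIdef
  -- the faithfulness of `μ` on the second derived subgroup
  have hfaith : ∀ a (ha : a ∈ D) b (hb : b ∈ D), μ ⟨_, hz a ha b hb⟩ = 1 →
      a * b * a⁻¹ * b⁻¹ = 1 := by
    intro a ha b hb h1
    by_contra h2
    have hcZ : ⁅D, D⁆ ≤ Subgroup.center G := by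
      rw [Subgroup.commutator_le]
      intro x hx y hy
      rw [commutatorElement_def]
      exact hZ x hx y hy
    let L : Subgroup G := ((μ.ker).map E.subtype) ⊓ ⁅D, D⁆
    have hLn : L.Normal := by
      constructor
      intro y hy g
      have h3 := Subgroup.mem_center_iff.mp (hcZ hy.2) g
      rw [h3]
      simpa using hy
    have hxL : ∀ x (hx : x ∈ D) y (hy : y ∈ D), μ ⟨_, hz x hx y hy⟩ = 1 →
        x * y * x⁻¹ * y⁻¹ ∈ L := by
      intro x hx y hy h3
      refine ⟨⟨⟨_, hz x hx y hy⟩, h3, rfl⟩, ?_⟩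
      rw [← commutatorElement_def]
      exact Subgroup.commutator_mem_commutator hx hy
    have hL : L ≠ ⊥ := by
      intro h3
      have h4 := hxL a ha b hb h1
      rw [h3] at h4
      exact h2 (Subgroup.mem_bot.mp h4)
    obtain ⟨⟨u, hu, hu'⟩, -⟩ := hmin L hLn hL a₀ ha₀ b₀ hb₀
    apply hμ
    have h3 : u = ⟨_, hz a₀ ha₀ b₀ hb₀⟩ := Subtype.ext hu'
    rw [← h3]
    exact hu
  -- the character of large degree
  obtain ⟨χ, hχ⟩ := stepA E μ hEI (hDI ha₀) (hDI hb₀) (hz a₀ ha₀ b₀ hb₀) hμ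
  have hχ' : 2 * I.index ≤ charDegree (χ : G → ℂ) := hχ
  have hI0 : 0 < I.index := Nat.pos_of_ne_zero Subgroup.index_ne_zero_of_finite
  have hχm : charDegree (χ : G → ℂ) = m := by
    refine (hcd χ).resolve_left ?_
    omega
  -- the element `w`
  have hIp : IsPGroup p I := hG.to_subgroup I
  haveI hInil : Group.IsNilpotent I := hIp.isNilpotent
  obtain ⟨n, hn⟩ := (Subgroup.isNilpotent_iff_lowerCentralSeries (S := I)).mp hInil
  have hw : ∃ w ∈ D, w ∉ E ∧ ∀ g ∈ I, w * g * w⁻¹ * g⁻¹ ∈ E := by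
    by_contra hno
    push Not at hno
    have hall : ∀ k, ∃ x ∈ I.lowerCentralSeries k, x ∈ D ∧ x ∉ E := by
      intro k
      induction k with
      | zero =>
        refine ⟨a₀, hDI ha₀, ha₀, fun h => hne ?_⟩
        rw [h.2 b₀ hb₀]
        group
      | succ k ih =>
        obtain ⟨x, hx, hxD, hxE⟩ := ih
        obtain ⟨g, hg, hgE⟩ := hno x hxD hxE
        refine ⟨x * g * x⁻¹ * g⁻¹, ?_, ?_, hgE⟩
        · rw [← commutatorElement_def]
          exact Subgroup.commutator_mem_commutator hx hg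
        · have h1 : x * g * x⁻¹ * g⁻¹ = x * (g * x⁻¹ * g⁻¹) := by group
          rw [h1]
          exact D.mul_mem hxD (hDn.conj_mem _ (D.inv_mem hxD) g)
    obtain ⟨x, hx, -, hxE⟩ := hall n
    rw [hn, Subgroup.mem_bot] at hx
    rw [hx] at hxE
    exact hxE E.one_mem
  obtain ⟨w, hwD, hwE, hwI⟩ := hw
  -- the invariant linear character of `D`
  let ν : D →* ℂˣ :=
    { toFun := fun d => μ ⟨w * d * w⁻¹ * (d : G)⁻¹, hz w hwD d d.2⟩
      map_one' := by
        have h1 : (⟨w * ((1 : D) : G) * w⁻¹ * ((1 : D) : G)⁻¹, hz w hwD _ (1 : D).2⟩ : E) = 1 := by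
          apply Subtype.ext
          simp
        rw [h1, map_one]
      map_mul' := by
        intro x y
        rw [← map_mul]
        congr 1
        apply Subtype.ext
        have h1 := Subgroup.mem_center_iff.mp (hZ w hwD y y.2) (x : G)
        push_cast
        calc w * ((x : G) * y) * w⁻¹ * ((x : G) * y)⁻¹
            = (w * x * w⁻¹ * (x : G)⁻¹) * ((x : G) * (w * y * w⁻¹ * (y : G)⁻¹)) * (x : G)⁻¹ := by
              group
          _ = (w * x * w⁻¹ * (x : G)⁻¹) * ((w * y * w⁻¹ * (y : G)⁻¹) * (x : G)) * (x : G)⁻¹ := by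
              rw [h1]
          _ = _ := by group }
  have hνapp : ∀ d (hd : d ∈ D), ν ⟨d, hd⟩ = μ ⟨w * d * w⁻¹ * d⁻¹, hz w hwD d hd⟩ := fun d hd => rfl
  have hνne : ∃ d : D, ν d ≠ 1 := by
    by_contra hno
    push Not at hno
    apply hwE
    refine ⟨hwD, fun y hy => ?_⟩
    have h1 := hfaith w hwD y hy (hno ⟨y, hy⟩)
    calc w * y = w * y * w⁻¹ * y⁻¹ * (y * w) := by group
      _ = y * w := by rw [h1, one_mul]
  have hνc : ∀ g ∈ I, ∀ h ∈ I, ∀ hc : g * h * g⁻¹ * h⁻¹ ∈ D, ν ⟨_, hc⟩ = 1 := by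
    intro g hg h hh hc
    set c := g * h * g⁻¹ * h⁻¹ with hcdef
    have he : ∀ x ∈ I, x * w * x⁻¹ * w⁻¹ ∈ E := by
      intro x hx
      have h1 := E.inv_mem (hwI x hx)
      have h2 : (w * x * w⁻¹ * x⁻¹)⁻¹ = x * w * x⁻¹ * w⁻¹ := by group
      rwa [h2] at h1
    let e₁ : E := ⟨_, he g hg⟩
    let e₂ : E := ⟨_, he h hh⟩
    let X : E := cj E h e₁ * e₂
    let Y : E := cj E g e₂ * e₁
    have hX : ((X : E) : G) = h * (g * w * g⁻¹ * w⁻¹) * h⁻¹ * (h * w * h⁻¹ * w⁻¹) := by
      show ((cj E h e₁ : E) : G) * _ = _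
      rw [cj_apply]
    have hY : ((Y : E) : G) = g * (h * w * h⁻¹ * w⁻¹) * g⁻¹ * (g * w * g⁻¹ * w⁻¹) := by
      show ((cj E g e₂ : E) : G) * _ = _
      rw [cj_apply]
    have hXw : (h * g) * w * (h * g)⁻¹ = X * w := by
      rw [hX]
      group
    have hYw : (g * h) * w * (g * h)⁻¹ = Y * w := by
      rw [hY]
      group
    have hcX : c * (X : G) * c⁻¹ = X := by
      have h1 := X.2.2 c hc
      rw [← h1]
      group
    have hcw : c * w * c⁻¹ * w⁻¹ = (X : G)⁻¹ * Y := by
      have h1 : g * h = c * (h * g) := by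
        rw [hcdef]
        group
      have h2 : (Y : G) * w = X * (c * w * c⁻¹) := by
        rw [← hYw, h1]
        calc (c * (h * g)) * w * (c * (h * g))⁻¹ = c * ((h * g) * w * (h * g)⁻¹) * c⁻¹ := by group
          _ = c * ((X : G) * w) * c⁻¹ := by rw [hXw]
          _ = (c * (X : G) * c⁻¹) * (c * w * c⁻¹) := by group
          _ = _ := by rw [hcX]
      have h3 : c * w * c⁻¹ = (X : G)⁻¹ * ((Y : G) * w) := by
        rw [h2]
        group
      rw [h3]
      group
    have hmem : c * w * c⁻¹ * w⁻¹ ∈ E := by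
      rw [hcw]
      exact E.mul_mem (E.inv_mem X.2) Y.2
    have hval : μ ⟨_, hmem⟩ = 1 := by
      have h1 : (⟨_, hmem⟩ : E) = X⁻¹ * Y := Subtype.ext hcw
      rw [h1, map_mul, map_inv]
      show (μ (cj E h e₁ * e₂))⁻¹ * μ (cj E g e₂ * e₁) = 1
      rw [map_mul, map_mul, inert_conj E hh, inert_conj E hg, mul_comm (μ e₂) (μ e₁), inv_mul_cancel]
    rw [hνapp]
    have h1 : (⟨w * c * w⁻¹ * c⁻¹, hz w hwD c hc⟩ : E) = (⟨_, hmem⟩ : E)⁻¹ := by
      apply Subtype.ext
      push_cast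
      group
    rw [h1, map_inv, hval, inv_one]
  -- extension to the inertia group
  let J : Subgroup I := D.subgroupOf I
  let f : J →* ℂˣ := ν.comp (Subgroup.subgroupOfEquivOfLe hDI).toMonoidHom
  have hJ : ∀ g h : I, g * h * g⁻¹ * h⁻¹ ∈ J := by
    intro g h
    rw [Subgroup.mem_subgroupOf]
    exact mem_commutator (g : G) h
  have hf : ∀ g h : I, f ⟨g * h * g⁻¹ * h⁻¹, hJ g h⟩ = 1 := by
    intro g h
    exact hνc g g.2 h h.2 (mem_commutator (g : G) h)
  obtain ⟨F, hF⟩ := exists_hom_extend J f hJ hf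
  obtain ⟨β, hβ1, hβ2⟩ := exists_constituent_of_induced I F
  have hβ : charDegree (β : G → ℂ) ≠ 1 := by
    intro h1
    have hβc := IsIrrCharacter.isCharacter β.2
    have h2 : (β : G → ℂ) 1 = 1 := by
      rw [one_eq_charDegree hβc, h1]
      simp
    obtain ⟨B, hB⟩ := exists_hom_of_degree_one hβc h2
    have h3 := hβ2 B hB
    obtain ⟨d, hd⟩ := hνne
    apply hd
    have h4 : ν d = F ⟨d, hDI d.2⟩ := by
      have h5 := hF ⟨⟨d, hDI d.2⟩, d.2⟩
      exact h5.symm
    rw [h4, h3]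
    have h5 : commutator G ≤ B.ker := by
      rw [commutator_def, Subgroup.commutator_le]
      intro x _ y _
      rw [MonoidHom.mem_ker, commutatorElement_def, map_mul, map_mul, map_mul, map_inv, map_inv,
        mul_comm (B x) (B y), mul_inv_cancel_right, mul_inv_cancel]
    exact h5 d.2
  have hβm := (hcd β).resolve_left hβ
  omega

/-- A `p`-group with two character degrees has abelian derived subgroup. -/
theorem pgroup_comm_aux : ∀ (n : ℕ) (G : Type u) [Group G] [Finite G] (m p : ℕ), Nat.card G = n →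
    p.Prime → IsPGroup p G → Two G m →
    ∀ a ∈ commutator G, ∀ b ∈ commutator G, a * b = b * a := by
  intro n
  induction n using Nat.strong_induction_on with
  | _ n ih =>
    intro G _ _ m p hn hp hG hcd a ha b hb
    haveI : Fact p.Prime := ⟨hp⟩
    by_contra hne
    have hne' : a * b * a⁻¹ * b⁻¹ ≠ 1 := by
      intro h
      apply hne
      calc a * b = a * b * a⁻¹ * b⁻¹ * (b * a) := by group
        _ = b * a := by rw [h, one_mul]
    have hmin : ∀ L : Subgroup G, L.Normal → L ≠ ⊥ → ∀ a ∈ commutator G, ∀ b ∈ commutator G,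
        a * b * a⁻¹ * b⁻¹ ∈ L := by
      intro L hL hLne x hx y hy
      haveI := hL
      have hlt : Nat.card (G ⧸ L) < n := by
        have h1 := Subgroup.card_eq_card_quotient_mul_card_subgroup L
        haveI : Nontrivial L := (Subgroup.nontrivial_iff_ne_bot L).mpr hLne
        have h2 : 1 < Nat.card L := Finite.one_lt_card
        have h3 : 0 < Nat.card (G ⧸ L) := Nat.card_pos
        rw [← hn, h1]
        nlinarith
      have h1 := ih _ hlt (G ⧸ L) m p rfl hp (hG.to_quotient L) (hcd.quotient L)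
      have hcq : ∀ z ∈ commutator G, (z : G ⧸ L) ∈ commutator (G ⧸ L) := by
        have : commutator G ≤ (commutator (G ⧸ L)).comap (QuotientGroup.mk' L) := by
          rw [commutator_def, Subgroup.commutator_le]
          intro u _ v _
          rw [Subgroup.mem_comap, map_commutatorElement, commutatorElement_def]
          exact mem_commutator _ _
        exact fun z hz => this hz
      have h2 := h1 _ (hcq x hx) _ (hcq y hy)
      rw [← QuotientGroup.eq_one_iff]
      rw [QuotientGroup.mk_mul, QuotientGroup.mk_mul, QuotientGroup.mk_mul, QuotientGroup.mk_inv,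
        QuotientGroup.mk_inv, h2]
      group
    have hnt : Nontrivial G := by
      by_contra h
      rw [not_nontrivial_iff_subsingleton] at h
      exact hne (Subsingleton.elim _ _)
    have hZ : ∀ a ∈ commutator G, ∀ b ∈ commutator G, a * b * a⁻¹ * b⁻¹ ∈ Subgroup.center G := by
      apply hmin _ inferInstance
      exact (Subgroup.nontrivial_iff_ne_bot _).mp hG.center_nontrivial
    exact core hp hG hcd hZ hmin ha hb hne'

/-- Any group with two character degrees has abelian derived subgroup. -/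
theorem two_comm {G : Type u} [Group G] [Finite G] {m : ℕ} (hcd : Two G m)
    (hm : ∃ χ : IrrCharacter G, charDegree (χ : G → ℂ) = m) (hm1 : m ≠ 1) :
    ∀ a ∈ commutator G, ∀ b ∈ commutator G, a * b = b * a := by
  classical
  rcases two_structure hcd hm hm1 with ⟨A, hA, hab, hidx⟩ | ⟨p, e, hp, he, P, A, hPn, hAn, hP, hab, hinf, hsup⟩
  · -- an abelian normal subgroup of index `m`
    haveI := hA
    haveI : Fintype (G ⧸ A) := Fintype.ofFinite _
    obtain ⟨χ₀, hχ₀⟩ := hm
    have hm0 : m ≠ 0 := by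
      rw [← hχ₀]
      exact charDegree_ne_zero χ₀.2
    have hQ : ∀ θ : IrrCharacter (G ⧸ A), (θ : G ⧸ A → ℂ) 1 = 1 := by
      intro θ
      have hcard : Nat.card (G ⧸ A) = m := hidx
      have hθc := IsIrrCharacter.isCharacter θ.2
      have h1 : charDegree (θ : G ⧸ A → ℂ) = 1 := by
        refine (hcd.quotient A θ).resolve_right fun h2 => ?_
        have h3 := sum_charDegree_sq (G := G ⧸ A)
        have h4 := Finset.single_le_sum (f := fun χ : IrrCharacter (G ⧸ A) =>
          charDegree (χ : G ⧸ A → ℂ) ^ 2) (fun _ _ => Nat.zero_le _) (Finset.mem_univ θ)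
        rw [h3, h2, hcard] at h4
        have h5 : 2 ≤ m := by omega
        nlinarith
      rw [one_eq_charDegree hθc, h1]
      simp
    have hcomm := comm_of_all_linear hQ
    have hle : commutator G ≤ A := by
      rw [commutator_def, Subgroup.commutator_le]
      intro x _ y _
      rw [← QuotientGroup.eq_one_iff, commutatorElement_def, QuotientGroup.mk_mul,
        QuotientGroup.mk_mul, QuotientGroup.mk_mul, QuotientGroup.mk_inv, QuotientGroup.mk_inv,
        hcomm (x : G ⧸ A) (y : G ⧸ A)]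
      group
    exact fun a ha b hb => hab a (hle ha) b (hle hb)
  · haveI := hPn
    haveI := hAn
    have hdis : Disjoint P A := disjoint_iff.mpr hinf
    have hc : P.IsComplement' A := by
      apply Subgroup.isComplement'_of_disjoint_and_mul_eq_univ hdis
      rw [← Subgroup.mul_normal, hsup]
      rfl
    let r : G →* P := hc.QuotientMulEquiv.toMonoidHom.comp (QuotientGroup.mk' A)
    have hr : Function.Surjective r :=
      hc.QuotientMulEquiv.surjective.comp (QuotientGroup.mk'_surjective A)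
    have htw : Two P m := hcd.of_surjective r hr
    have hcP := pgroup_comm_aux _ P m p rfl hp hP htw
    have hcom : ∀ {x y : G}, x ∈ P → y ∈ A → x * y = y * x := fun hx hy =>
      Subgroup.commute_of_normal_of_disjoint P A hPn hAn hdis _ _ hx hy
    have hle : commutator G ≤ (commutator P).map P.subtype := by
      rw [commutator_def, Subgroup.commutator_le]
      intro x _ y _
      have hx : x ∈ P ⊔ A := by rw [hsup]; trivial
      have hy : y ∈ P ⊔ A := by rw [hsup]; trivial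
      obtain ⟨x₁, hx₁, x₂, hx₂, rfl⟩ := Subgroup.mem_sup_of_normal_right.mp hx
      obtain ⟨y₁, hy₁, y₂, hy₂, rfl⟩ := Subgroup.mem_sup_of_normal_right.mp hy
      refine ⟨_, mem_commutator (⟨x₁, hx₁⟩ : P) ⟨y₁, hy₁⟩, ?_⟩
      show x₁ * y₁ * x₁⁻¹ * y₁⁻¹ = _
      rw [commutatorElement_def]
      have c1 : y₁ * x₂ = x₂ * y₁ := hcom hy₁ hx₂
      have c2 : x₁⁻¹ * y₂ = y₂ * x₁⁻¹ := hcom (P.inv_mem hx₁) hy₂
      have c3 : x₂ * y₂ = y₂ * x₂ := hab _ hx₂ _ hy₂
      symm
      calc (x₁ * x₂) * (y₁ * y₂) * (x₁ * x₂)⁻¹ * (y₁ * y₂)⁻¹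
          = x₁ * (x₂ * y₁) * (y₂ * x₂⁻¹) * x₁⁻¹ * y₂⁻¹ * y₁⁻¹ := by group
        _ = x₁ * y₁ * (x₂ * y₂ * x₂⁻¹) * x₁⁻¹ * y₂⁻¹ * y₁⁻¹ := by
            rw [← c1]
            group
        _ = x₁ * y₁ * y₂ * x₁⁻¹ * y₂⁻¹ * y₁⁻¹ := by
            rw [c3]
            group
        _ = x₁ * y₁ * (y₂ * x₁⁻¹) * y₂⁻¹ * y₁⁻¹ := by group
        _ = x₁ * y₁ * (x₁⁻¹ * y₂) * y₂⁻¹ * y₁⁻¹ := by rw [c2]
        _ = _ := by group
    intro a ha b hb
    obtain ⟨a', ha', rfl⟩ := hle ha
    obtain ⟨b', hb', rfl⟩ := hle hb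
    exact congrArg Subtype.val (hcP a' ha' b' hb')

end Core

end Cfsg.Agent.Lib.TwoDeg2
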