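import Mathlib
import Cfsg.Agent.Lib.TwoDeg2
import Cfsg.Agent.Lib.RelMono
import Cfsg.Agent.S0175

/-!
# Tools for groups with three character degrees

* `index_eq_one_add`: if `J` is normal, `JH = G` and all the characters nontrivial on `J` have
  degree `D`, then `|G : H| ≡ 1 mod D`.
* `abelian_of_complement`: consequently a complemented such `J` is abelian.
* `exists_char_of_stab`: characters of `K ⋊ P` from a linear character of `K`.
* `comm_le_of_stabs`: the commutator subgroup of a nilpotent group with two degrees acting with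
  abelian stabilizers acts trivially.
* `taketa_three`: M-groups with three degrees have derived length at most three.
* `hchief_of_pgroup`: chief factors above `N` have prime order when `G / N` is a `p`-group.
-/

set_option autoImplicit false
set_option linter.style.haveILetI false
set_option linter.unusedVariables false
set_option linter.unusedSectionVars false

namespace Cfsg.Agent.Lib.ThreeDeg31

open Cfsg Cfsg.Agent.Lib.CharBasic Cfsg.Agent.Lib.CharInd Cfsg.Agent.Lib.CharKernel
open Cfsg.Agent.Lib.Clifford Cfsg.Agent.Lib.CliffDvd Cfsg.Agent.Lib.TwoDeg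
open scoped ComplexConjugate commutatorElement

universe u v

/-- Degrees are in `{1, a, b}`. -/
def Three (G : Type u) [Group G] (a b : ℕ) : Prop :=
  ∀ χ : IrrCharacter G, charDegree (χ : G → ℂ) = 1 ∨ charDegree (χ : G → ℂ) = a ∨
    charDegree (χ : G → ℂ) = b

theorem charDegree_comp {G K : Type u} [Group G] [Group K] (f : G →* K) (χ : K → ℂ) :
    charDegree (χ ∘ f) = charDegree χ := by
  unfold charDegree
  simp

theorem Three.of_surjective {G K : Type u} [Group G] [Group K] {a b : ℕ} (h : Three G a b)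
    (f : G →* K) (hf : Function.Surjective f) : Three K a b := by
  intro χ
  have h1 := isIrrCharacter_comp_of_surjective f hf χ.2
  rw [← charDegree_comp f]
  exact h ⟨_, h1⟩

/-- Three degrees: the other presentation. -/
theorem Three.of_mem {G : Type u} [Group G] {a b x y : ℕ} (h : Three G a b)
    (hx : ∃ χ : IrrCharacter G, charDegree (χ : G → ℂ) = x) (hy : ∃ χ : IrrCharacter G, charDegree (χ : G → ℂ) = y)
    (hx1 : x ≠ 1) (hy1 : y ≠ 1) (hxy : x ≠ y) : Three G x y := by
  obtain ⟨χ, hχ⟩ := hx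
  obtain ⟨ψ, hψ⟩ := hy
  have h1 := h χ
  have h2 := h ψ
  rw [hχ] at h1
  rw [hψ] at h2
  intro ξ
  have h3 := h ξ
  rcases h1 with h1 | h1 | h1
  · exact absurd h1 hx1
  · rcases h2 with h2 | h2 | h2
    · exact absurd h2 hy1
    · exact absurd (h1.trans h2.symm) hxy
    · subst h1 h2
      exact h3
  · rcases h2 with h2 | h2 | h2
    · exact absurd h2 hy1
    · subst h1 h2
      rcases h3 with h3 | h3 | h3
      · exact Or.inl h3
      · exact Or.inr (Or.inr h3)
      · exact Or.inr (Or.inl h3)
    · exact absurd (h1.trans h2.symm) hxy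

section Trick

variable {G : Type u} [Group G] [Finite G]

theorem exists_sup_decomp (J H : Subgroup G) [hJ : J.Normal] (hsup : J ⊔ H = ⊤) (g : G) :
    ∃ j ∈ J, ∃ h ∈ H, g = j * h := by
  have hg : g ∈ J ⊔ H := by
    rw [hsup]
    trivial
  obtain ⟨j, hj, h, hh, rfl⟩ := Subgroup.mem_sup_of_normal_left.mp hg
  exact ⟨j, hj, h, hh, rfl⟩

/-- A nonprincipal character trivial on `J` is not principal on `H` when `JH = G`. -/
theorem inner_restrict_eq_zero [Fintype G] (J H : Subgroup G) [hJ : J.Normal] [Fintype H]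
    (hsup : J ⊔ H = ⊤) {χ : G → ℂ} (hχ : IsIrrCharacter G χ) (hne : χ ≠ fun _ => 1)
    (htriv : ∀ x ∈ J, χ x = χ 1) :
    classInner (fun _ : H => (1 : ℂ)) (fun h : H => χ h) = 0 := by
  obtain ⟨χ', h1, h2⟩ := exists_quotient_irr J hχ htriv
  let f : H →* G ⧸ J := (QuotientGroup.mk' J).comp H.subtype
  have hf : Function.Surjective f := by
    intro y
    obtain ⟨g, rfl⟩ := QuotientGroup.mk'_surjective J y
    obtain ⟨j, hj, h, hh, rfl⟩ := exists_sup_decomp J H hsup g
    refine ⟨⟨h, hh⟩, ?_⟩
    show ((h : G) : G ⧸ J) = ((j * h : G) : G ⧸ J)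
    rw [QuotientGroup.eq]
    have : h⁻¹ * (j * h) = h⁻¹ * j * h⁻¹⁻¹ := by group
    rw [this]
    exact hJ.conj_mem j hj h⁻¹
  have h3 : IsIrrCharacter H (χ' ∘ f) := isIrrCharacter_comp_of_surjective f hf h1
  have h4 : (fun h : H => χ h) = χ' ∘ f := funext fun h => (h2 h).symm
  rw [h4]
  apply classInner_irr_ne isIrrCharacter_one h3
  intro h5
  apply hne
  funext g
  obtain ⟨h, hh⟩ := hf (g : G ⧸ J)
  rw [← h2 g, ← hh]
  exact (congrFun h5 h).symm

/-- **The congruence**: if `J` is normal, `JH = G` and all the irreducible characters nontrivial on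
`J` have degree `D`, then `|G : H| ≡ 1` modulo `D`. -/
theorem index_eq_one_add (J H : Subgroup G) [hJ : J.Normal] (hsup : J ⊔ H = ⊤) (D : ℕ)
    (hD : ∀ χ : IrrCharacter G, (¬ ∀ x ∈ J, (χ : G → ℂ) x = (χ : G → ℂ) 1) →
      charDegree (χ : G → ℂ) = D) : ∃ t : ℕ, H.index = 1 + D * t := by
  classical
  haveI : Fintype G := Fintype.ofFinite G
  haveI : Fintype H := Fintype.ofFinite H
  have hP : IsCharacter G (indFun H (fun _ => (1 : ℂ))) :=
    indFun_isCharacter H isCharacter_one
  obtain ⟨m, hm⟩ := exists_nat_decomp hP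
  set triv : IrrCharacter G := ⟨fun _ => (1 : ℂ), isIrrCharacter_one⟩ with htriv
  have hmi : ∀ i : IrrCharacter G, classInner (indFun H (fun _ => (1 : ℂ))) (i : G → ℂ) = m i := by
    intro i
    rw [hm, classInner_nat_decomp m _ i.2]
  have hmtriv : m triv = 1 := by
    have h1 : classInner (indFun H (fun _ => (1 : ℂ))) (fun _ : G => (1 : ℂ)) = 1 := by
      rw [frobenius H _ (isClassFunction_of_isCharacter isCharacter_one)]
      exact classInner_irr_self isIrrCharacter_one
    have h2 := hmi triv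
    rw [show (triv : G → ℂ) = fun _ => (1 : ℂ) from rfl, h1] at h2
    exact_mod_cast h2.symm
  have hdeg : ∑ i : IrrCharacter G, m i * charDegree (i : G → ℂ) = H.index := by
    have h1 : indFun H (fun _ => (1 : ℂ)) 1 = (H.index : ℂ) := by
      rw [indFun_one, mul_one]
    rw [hm] at h1
    have h3 : (∑ i : IrrCharacter G, m i • (i : G → ℂ)) 1
        = ∑ i : IrrCharacter G, (m i : ℂ) * (i : G → ℂ) 1 := by
      simp [Finset.sum_apply]
    rw [h3] at h1
    have h2 : ∀ i : IrrCharacter G, (m i : ℂ) * (i : G → ℂ) 1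
        = ((m i * charDegree (i : G → ℂ) : ℕ) : ℂ) := by
      intro i
      rw [one_eq_charDegree (IsIrrCharacter.isCharacter i.2)]
      push_cast
      ring
    simp only [h2] at h1
    exact_mod_cast h1
  have htrivdeg : charDegree (triv : G → ℂ) = 1 := charDegree_of_one (by simp [triv])
  have hkey : ∀ i ∈ Finset.univ.erase triv, m i * charDegree (i : G → ℂ) = D * m i := by
    intro i hi
    have hit : i ≠ triv := (Finset.mem_erase.mp hi).1
    by_cases hmi0 : m i = 0
    · simp [hmi0]
    have hNT : ¬ ∀ x ∈ J, (i : G → ℂ) x = (i : G → ℂ) 1 := by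
      intro htr
      apply hmi0
      have h1 := hmi i
      rw [frobenius H _ (isClassFunction_of_isCharacter (IsIrrCharacter.isCharacter i.2))] at h1
      rw [inner_restrict_eq_zero J H hsup i.2 (fun h => hit (Subtype.ext h)) htr] at h1
      exact_mod_cast h1.symm
    rw [hD i hNT, mul_comm]
  refine ⟨∑ i ∈ Finset.univ.erase triv, m i, ?_⟩
  rw [← hdeg, ← Finset.add_sum_erase _ _ (Finset.mem_univ triv), hmtriv, htrivdeg, Finset.mul_sum,
    Finset.sum_congr rfl hkey]

/-- A complemented normal subgroup with only one relative degree is abelian. -/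
theorem abelian_of_complement (J H : Subgroup G) [hJ : J.Normal] (hsup : J ⊔ H = ⊤)
    (hinf : J ⊓ H = ⊥) (D : ℕ)
    (hD : ∀ χ : IrrCharacter G, (¬ ∀ x ∈ J, (χ : G → ℂ) x = (χ : G → ℂ) 1) →
      charDegree (χ : G → ℂ) = D) : ∀ a ∈ J, ∀ b ∈ J, a * b = b * a := by
  classical
  haveI : Fintype G := Fintype.ofFinite G
  haveI : Fintype J := Fintype.ofFinite J
  obtain ⟨t, ht⟩ := index_eq_one_add J H hsup D hD
  have hdis : Disjoint J H := disjoint_iff.mpr hinf
  have hc : J.IsComplement' H := by
    apply Subgroup.isComplement'_of_disjoint_and_mul_eq_univ hdis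
    rw [← Subgroup.normal_mul, hsup]
    rfl
  have hcard : H.index = Nat.card J := hc.index_eq_card.symm ▸ rfl
  intro a ha b hb
  have h1 := comm_of_all_linear (A := J) (fun θ => by
    obtain ⟨χ, hχ⟩ := Cfsg.Agent.Lib.GlaubAbove.exists_irr_over J θ
    have h2 := degree_dvd J θ.2 χ.2 hχ
    have h3 : charDegree (θ : J → ℂ) ∣ Nat.card J := charDegree_dvd_card θ.2
    by_cases htr : ∀ x ∈ J, (χ : G → ℂ) x = (χ : G → ℂ) 1
    · -- `χ` is trivial on `J`
      have h4 : (fun n : J => (χ : G → ℂ) n) = ((χ : G → ℂ) 1) • (fun _ : J => (1 : ℂ)) := by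
        funext n
        simp [htr n n.2]
      rw [h4, classInner_smul_left] at hχ
      have h5 : classInner (fun _ : J => (1 : ℂ)) (θ : J → ℂ) ≠ 0 := right_ne_zero_of_mul hχ
      have h6 : (θ : J → ℂ) = fun _ => (1 : ℂ) := by
        by_contra hne
        exact h5 (classInner_irr_ne isIrrCharacter_one θ.2 (Ne.symm hne))
      rw [h6]
    · rw [hD χ htr] at h2
      have h4 : charDegree (θ : J → ℂ) ∣ 1 := by
        have h5 : charDegree (θ : J → ℂ) ∣ D * t := h2.mul_right t
        rw [hcard] at ht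
        rw [ht] at h3
        exact (Nat.dvd_add_left h5).mp h3
      rw [one_eq_charDegree (IsIrrCharacter.isCharacter θ.2), Nat.dvd_one.mp h4]
      simp) ⟨a, ha⟩ ⟨b, hb⟩
  exact congrArg Subtype.val h1

end Trick

section StabChar

variable {G : Type u} [Group G] [Finite G] (K P : Subgroup G) [hK : K.Normal] (r : G →* P)
  (hr : ∀ x : P, r x = x) (hker : ∀ g, r g = 1 ↔ g ∈ K)

/-- Conjugation by an element of `K` does nothing to a linear character of `K`. -/
theorem act_self {k : G} (hk : k ∈ K) (l : K →* ℂˣ) : act K k l = l := by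
  ext a
  rw [act_apply]
  have h1 : cj K k a = ⟨k, hk⟩ * a * (⟨k, hk⟩ : K)⁻¹ := by
    apply Subtype.ext
    rw [cj_apply]
    rfl
  rw [h1, map_mul, map_mul, map_inv, mul_comm (l ⟨k, hk⟩), mul_inv_cancel_right]

theorem act_of_mem' {k : G} (hk : k ∈ K) (g : G) (l : K →* ℂˣ) : act K (k * g) l = act K g l := by
  rw [act_mul, act_self K hk]

include hr hker in
theorem act_eq_act_r' (g : G) (l : K →* ℂˣ) : act K g l = act K ((r g : P) : G) l := by
  conv_lhs => rw [show g = (g * ((r g : P) : G)⁻¹) * ((r g : P) : G) by group]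
  exact act_of_mem' K (kpart_mem K P r hr hker g) _ l

include hr hker in
theorem mem_Estab' (l : K →* ℂˣ) (g : G) : g ∈ Estab K P r l ↔ act K g l = l := by
  show r g ∈ stab K P l ↔ _
  rw [mem_stab, ← act_eq_act_r' K P r hr hker]

/-- The canonical extension of a linear character of `K`. -/
def lhat' (l : K →* ℂˣ) : Estab K P r l →* ℂˣ where
  toFun e := l (kpart K P r hr hker e)
  map_one' := by
    have h1 : kpart K P r hr hker ((1 : Estab K P r l) : G) = 1 := by
      apply Subtype.ext
      simp [kpart_coe]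
    rw [h1, map_one]
  map_mul' a b := by
    have h1 : act K (r a : G) l = l := a.2
    have h2 : act K (a : G) l = l := by
      rw [act_eq_act_r' K P r hr hker, h1]
    push_cast
    rw [kpart_mul, map_mul, mul_comm]
    congr 1
    have h3 := congrArg (fun f : K →* ℂˣ => f (kpart K P r hr hker b)) h2
    exact h3

include hr hker in
theorem le_Estab' (l : K →* ℂˣ) : K ≤ Estab K P r l := by
  intro k hk
  rw [mem_Estab' K P r hr hker]
  exact act_self K hk l

include hr hker in
/-- The irreducible characters of `K ⋊ P` above a linear character `l` of `K`. -/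
theorem exists_char_of_stab (l : K →* ℂˣ) (β : IrrCharacter (stab K P l)) :
    ∃ χ : IrrCharacter G, charDegree (χ : G → ℂ) =
      (stab K P l).index * charDegree (β : stab K P l → ℂ) ∧
      ((∀ k ∈ K, (χ : G → ℂ) k = (χ : G → ℂ) 1) → l = 1) := by
  classical
  haveI : Fintype G := Fintype.ofFinite G
  haveI : Fintype K := Fintype.ofFinite K
  set E := Estab K P r l with hE
  haveI : Fintype E := Fintype.ofFinite E
  have hKE : K ≤ E := le_Estab' K P r hr hker l
  let ρ : E →* stab K P l := r.subgroupComap (stab K P l)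
  have hρ : Function.Surjective ρ :=
    r.subgroupComap_surjective_of_surjective _ (r_surj P r hr)
  let lh := lhat' K P r hr hker l
  let β' : E → ℂ := (β : stab K P l → ℂ) ∘ ρ
  have hβ' : IsIrrCharacter E β' := isIrrCharacter_comp_of_surjective ρ hρ β.2
  let ξ : E → ℂ := (fun g => ((lh g : ℂˣ) : ℂ)) * β'
  have hξ : IsIrrCharacter E ξ := Cfsg.Agent.Lib.DetChar.isIrr_mul_hom lh hβ'
  let θ : K → ℂ := fun k => ((l k : ℂˣ) : ℂ)
  have hθ : IsIrrCharacter K θ := isIrrCharacter_of_hom l
  have hT : ∀ g : G, g ∈ E ↔ ∀ n : K, θ ⟨g * n * g⁻¹, hK.conj_mem (n : G) n.2 g⟩ = θ n := by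
    intro g
    rw [hE, mem_Estab' K P r hr hker]
    constructor
    · intro h n
      have h1 := congrArg (fun f : K →* ℂˣ => f n) h
      simp only [act_apply] at h1
      show ((l _ : ℂˣ) : ℂ) = ((l n : ℂˣ) : ℂ)
      rw [← h1]
      rfl
    · intro h
      ext n
      exact h n
  have hkp : ∀ k : K, kpart K P r hr hker (k : G) = k := by
    intro k
    apply Subtype.ext
    rw [kpart_coe, (hker _).mpr k.2]
    simp
  have hρk : ∀ k : K, ρ ⟨k, hKE k.2⟩ = 1 := by
    intro k
    apply Subtype.ext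
    exact (hker _).mpr k.2
  have hres : (fun n : K => ξ ⟨(n : G), hKE n.2⟩) = (charDegree (β : stab K P l → ℂ) : ℂ) • θ := by
    funext n
    simp only [ξ, Pi.mul_apply, β', Function.comp_apply, hρk, Pi.smul_apply, smul_eq_mul]
    rw [one_eq_charDegree (IsIrrCharacter.isCharacter β.2)]
    have h1 : lh ⟨n, hKE n.2⟩ = l n := by
      show l (kpart K P r hr hker (n : G)) = l n
      rw [hkp]
    rw [h1, mul_comm]
  have hover : classInner (fun n : K => ξ ⟨(n : G), hKE n.2⟩) θ ≠ 0 := by
    rw [hres, classInner_smul_left, classInner_irr_self hθ, mul_one]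
    exact_mod_cast charDegree_ne_zero β.2
  obtain ⟨h1, h1'⟩ := indFun_irr_of_over K E hθ hT hKE hξ hover
  have hidx : E.index = (stab K P l).index :=
    Subgroup.index_comap_of_surjective _ (r_surj P r hr)
  have hdeg : charDegree (indFun E ξ) = (stab K P l).index * charDegree (β : stab K P l → ℂ) := by
    apply charDegree_of_one
    rw [indFun_one, hidx]
    simp only [ξ, Pi.mul_apply, β', Function.comp_apply, map_one, Units.val_one, one_mul]
    rw [one_eq_charDegree (IsIrrCharacter.isCharacter β.2)]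
    push_cast
    rfl
  refine ⟨⟨_, h1⟩, hdeg, fun htr => ?_⟩
  change ∀ k ∈ K, indFun E ξ k = indFun E ξ 1 at htr
  have h2 : (fun n : K => indFun E ξ n) = (indFun E ξ 1) • (fun _ : K => (1 : ℂ)) := by
    funext n
    simp [htr n n.2]
  rw [h2, classInner_smul_left] at h1'
  have h3 : classInner (fun _ : K => (1 : ℂ)) θ ≠ 0 := by
    intro h4
    rw [h4, mul_zero] at h1'
    exact hover h1'.symm
  have h4 : θ = fun _ => (1 : ℂ) := by
    by_contra hne
    exact h3 (classInner_irr_ne isIrrCharacter_one hθ (Ne.symm hne))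
  ext k
  have := congrFun h4 k
  simpa [θ] using this

end StabChar

section Cent

variable {X : Type u} [Group X] [Finite X]

/-- The commutator subgroup of a nilpotent group with two degrees lies in the intersection of a
family of subgroups each of which is everything or abelian of index at most the degree. -/
theorem comm_le_of_stabs [Group.IsNilpotent X] {f : ℕ} (hTwo : Two X f) {ι : Type*}
    (A : ι → Subgroup X)
    (hA : ∀ i, A i = ⊤ ∨ ((∀ a ∈ A i, ∀ b ∈ A i, a * b = b * a) ∧ (A i).index ≤ f))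
    (C : Subgroup X) [hC : C.Normal] (hCA : ∀ x, x ∈ C ↔ ∀ i, x ∈ A i) : commutator X ≤ C := by
  classical
  by_contra hle
  have hCne : ∃ g, g ∉ (C : Set X) := by
    by_contra hno
    push Not at hno
    apply hle
    intro x _
    exact hno x
  obtain ⟨z, hz, hzc⟩ := Cfsg.Agent.Lib.Monomial.exists_central_mod (C : Set X) C.one_mem hCne
  have hz' : z ∉ C := hz
  have hzi : ∃ i, z ∉ A i := by
    by_contra hno
    push Not at hno
    exact hz' ((hCA z).mpr hno)
  obtain ⟨i, hi⟩ := hzi
  have hAi : (∀ a ∈ A i, ∀ b ∈ A i, a * b = b * a) ∧ (A i).index ≤ f := by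
    rcases hA i with h | h
    · exact absurd (h ▸ Subgroup.mem_top z) hi
    · exact h
  have hCAi : C ≤ A i := fun x hx => (hCA x).mp hx i
  let q : X →* X ⧸ C := QuotientGroup.mk' C
  have hq : Function.Surjective q := QuotientGroup.mk'_surjective C
  have hker : q.ker = C := QuotientGroup.ker_mk' C
  -- a nonlinear character of the quotient
  have hnab : ¬ ∀ a b : X ⧸ C, a * b = b * a := by
    intro hab
    apply hle
    rw [commutator_def, Subgroup.commutator_le]
    intro a _ b _
    have h1 := hab (q a) (q b)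
    have h2 : q ⁅a, b⁆ = 1 := by
      rw [commutatorElement_def, map_mul, map_mul, map_mul, map_inv, map_inv, h1]
      group
    rw [← hker]
    exact h2
  obtain ⟨γ, hγ⟩ : ∃ γ : IrrCharacter (X ⧸ C), charDegree (γ : X ⧸ C → ℂ) ≠ 1 := by
    by_contra hno
    push Not at hno
    apply hnab
    apply comm_of_all_linear
    intro θ
    rw [one_eq_charDegree (IsIrrCharacter.isCharacter θ.2), hno θ]
    simp
  have hγf : charDegree (γ : X ⧸ C → ℂ) = f := by
    have h1 := hTwo ⟨_, isIrrCharacter_comp_of_surjective q hq γ.2⟩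
    change charDegree ((γ : X ⧸ C → ℂ) ∘ q) = 1 ∨ charDegree ((γ : X ⧸ C → ℂ) ∘ q) = f at h1
    rw [charDegree_comp] at h1
    exact h1.resolve_left hγ
  -- the abelian subgroup
  let Ab : Subgroup (X ⧸ C) := (A i).map q
  let zb : X ⧸ C := q z
  have hzb : ∀ g, g * zb = zb * g := by
    intro g
    obtain ⟨g', rfl⟩ := hq g
    have h1 := hzc g'
    have h2 : g' * z * g'⁻¹ * z⁻¹ ∈ C := h1
    have h3 : q (g' * z * g'⁻¹ * z⁻¹) = 1 := by
      rw [← MonoidHom.mem_ker, hker]
      exact h2
    simp only [map_mul, map_inv] at h3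
    have h4 : q g' * q z * (q g')⁻¹ = q z := by
      rw [mul_inv_eq_one] at h3
      exact h3
    show q g' * q z = q z * q g'
    calc q g' * q z = q g' * q z * (q g')⁻¹ * q g' := by group
      _ = q z * q g' := by rw [h4]
  haveI hzN : (Subgroup.zpowers zb).Normal := by
    constructor
    rintro y ⟨k, rfl⟩ g
    refine ⟨k, ?_⟩
    simp only
    have h1 : Commute g (zb ^ k) := (Commute.zpow_right (hzb g) k)
    rw [h1.eq]
    group
  let W : Subgroup (X ⧸ C) := Ab ⊔ Subgroup.zpowers zb
  have hAbcomm : ∀ a ∈ Ab, ∀ b ∈ Ab, a * b = b * a := by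
    rintro _ ⟨a, ha, rfl⟩ _ ⟨b, hb, rfl⟩
    rw [← map_mul, ← map_mul, hAi.1 a ha b hb]
  have hWcomm : ∀ a ∈ W, ∀ b ∈ W, a * b = b * a := by
    intro a ha b hb
    obtain ⟨a₁, ha₁, a₂, ⟨k, rfl⟩, rfl⟩ := Subgroup.mem_sup_of_normal_right.mp ha
    obtain ⟨b₁, hb₁, b₂, ⟨n, rfl⟩, rfl⟩ := Subgroup.mem_sup_of_normal_right.mp hb
    have c1 : ∀ g (k : ℤ), g * zb ^ k = zb ^ k * g := fun g k => (Commute.zpow_right (hzb g) k).eq
    simp only
    calc a₁ * zb ^ k * (b₁ * zb ^ n) = (a₁ * (zb ^ k * b₁)) * zb ^ n := by group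
      _ = (a₁ * (b₁ * zb ^ k)) * zb ^ n := by rw [← c1 b₁ k]
      _ = (a₁ * b₁) * (zb ^ k * zb ^ n) := by group
      _ = (b₁ * a₁) * (zb ^ n * zb ^ k) := by
          rw [hAbcomm a₁ ha₁ b₁ hb₁, ← zpow_add, ← zpow_add, add_comm]
      _ = b₁ * (a₁ * zb ^ n) * zb ^ k := by group
      _ = b₁ * (zb ^ n * a₁) * zb ^ k := by rw [c1 a₁ n]
      _ = _ := by group
  have hle1 := degree_le_index γ.2 W hWcomm
  rw [hγf] at hle1
  -- indices
  have hAbidx : Ab.index = (A i).index := by
    have h1 := Subgroup.index_map (A i) q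
    rw [hker, MonoidHom.range_eq_top.mpr hq, Subgroup.index_top, mul_one, sup_eq_left.mpr hCAi] at h1
    exact h1
  have hAbW : Ab ≤ W := le_sup_left
  have hne : Ab ≠ W := by
    intro h
    have h1 : zb ∈ W := Subgroup.mem_sup_right (Subgroup.mem_zpowers zb)
    rw [← h] at h1
    obtain ⟨y, hy, hyz⟩ := h1
    apply hi
    have h2 : y⁻¹ * z ∈ C := by
      rw [← hker, MonoidHom.mem_ker, map_mul, map_inv, hyz, inv_mul_cancel]
    have h3 := (A i).mul_mem hy (hCAi h2)
    simpa using h3
  have hlt : W.index < Ab.index := by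
    have h1 := Subgroup.relIndex_mul_index hAbW
    have h2 : Ab.relIndex W ≠ 1 := by
      intro h3
      rw [Subgroup.relIndex_eq_one] at h3
      exact hne (le_antisymm hAbW h3)
    have h3 : Ab.relIndex W ≠ 0 := by
      intro h4
      rw [h4, zero_mul] at h1
      exact Subgroup.index_ne_zero_of_finite h1.symm
    have h4 : W.index ≠ 0 := Subgroup.index_ne_zero_of_finite
    rw [← h1]
    have h5 : 2 ≤ Ab.relIndex W := by omega
    have h6 : 0 < W.index := Nat.pos_of_ne_zero h4
    nlinarith
  rw [hAbidx] at hlt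
  have := hAi.2
  omega

end Cent

section Taketa

variable {G : Type u} [Group G] [Fintype G]

/-- One step of Taketa's theorem. -/
theorem taketa_step {χ : G → ℂ} (hχ : IsIrrCharacter G χ) (H : Subgroup G) (lam : H →* ℂˣ)
    (hχH : χ = indFun H (fun h => ((lam h : ℂˣ) : ℂ))) (k : ℕ)
    (hk : ∀ ψ : G → ℂ, IsIrrCharacter G ψ → charDegree ψ < charDegree χ →
      ∀ x ∈ derivedSeries G k, ψ x = ψ 1) :
    ∀ x ∈ derivedSeries G (k + 1), χ x = χ 1 := by
  classical
  intro x hx
  set n := charDegree χ with hn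
  have hχone : χ 1 = (n : ℕ) := one_eq_charDegree (IsIrrCharacter.isCharacter hχ)
  have hindex : H.index = n := by
    have h1 := congrFun hχH 1
    rw [hχone, indFun_one] at h1
    simp only [map_one, Units.val_one, mul_one] at h1
    exact_mod_cast h1.symm
  have hP : IsCharacter G (indFun H (fun _ => (1 : ℂ))) :=
    indFun_isCharacter H isCharacter_one
  obtain ⟨m, hm⟩ := exists_nat_decomp hP
  set triv : IrrCharacter G := ⟨fun _ => (1 : ℂ), isIrrCharacter_one⟩ with htriv
  have hmtriv : m triv = 1 := by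
    have h1 : classInner (indFun H (fun _ => (1 : ℂ))) (fun _ : G => (1 : ℂ)) = 1 := by
      rw [frobenius H _ (isClassFunction_of_isCharacter isCharacter_one)]
      exact classInner_irr_self isIrrCharacter_one
    rw [hm, classInner_nat_decomp m _ isIrrCharacter_one] at h1
    exact_mod_cast h1
  have hdeg : ∑ i : IrrCharacter G, m i * charDegree (i : G → ℂ) = n := by
    have h1 : indFun H (fun _ => (1 : ℂ)) 1 = (H.index : ℂ) := by
      rw [indFun_one, mul_one]
    rw [hm, hindex] at h1
    have h3 : (∑ i : IrrCharacter G, m i • (i : G → ℂ)) 1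
        = ∑ i : IrrCharacter G, (m i : ℂ) * (i : G → ℂ) 1 := by
      simp [Finset.sum_apply]
    rw [h3] at h1
    have h2 : ∀ i : IrrCharacter G, (m i : ℂ) * (i : G → ℂ) 1
        = ((m i * charDegree (i : G → ℂ) : ℕ) : ℂ) := by
      intro i
      rw [one_eq_charDegree (IsIrrCharacter.isCharacter i.2)]
      push_cast
      ring
    simp only [h2] at h1
    exact_mod_cast h1
  have hle : ∀ i : IrrCharacter G, m i ≠ 0 → i ≠ triv → charDegree (i : G → ℂ) < n := by
    intro i hi hit
    have h1 : m triv * charDegree (triv : G → ℂ) + m i * charDegree (i : G → ℂ) ≤ n := by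
      rw [← hdeg]
      have := Finset.sum_le_sum_of_subset (f := fun i => m i * charDegree (i : G → ℂ))
        (Finset.subset_univ {triv, i})
      rw [Finset.sum_pair (Ne.symm hit)] at this
      exact this
    have h2 : charDegree (triv : G → ℂ) = 1 := charDegree_of_one (by simp [triv])
    rw [hmtriv, h2] at h1
    have h3 : 1 ≤ m i := Nat.one_le_iff_ne_zero.mpr hi
    have h4 : charDegree (i : G → ℂ) ≤ m i * charDegree (i : G → ℂ) := Nat.le_mul_of_pos_left _ h3
    omega
  have hsubH : ∀ y ∈ derivedSeries G k, y ∈ H := by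
    intro y hy
    apply Cfsg.Agent.S0175.mem_of_perm_char_eq
    rw [hm]
    simp only [Finset.sum_apply, Pi.smul_apply]
    refine Finset.sum_congr rfl fun i _ => ?_
    by_cases hi : m i = 0
    · simp [hi]
    by_cases hit : i = triv
    · subst hit
      rfl
    · rw [hk i i.2 (hle i hi hit) y hy]
  have hker : derivedSeries G (k + 1) ≤ (lam.ker).map H.subtype := by
    rw [derivedSeries_succ, Subgroup.commutator_le]
    intro a ha b hb
    let a' : H := ⟨a, hsubH a ha⟩
    let b' : H := ⟨b, hsubH b hb⟩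
    refine ⟨a' * b' * a'⁻¹ * b'⁻¹, ?_, rfl⟩
    show a' * b' * a'⁻¹ * b'⁻¹ ∈ lam.ker
    rw [MonoidHom.mem_ker, map_mul, map_mul, map_mul, map_inv, map_inv,
      mul_comm (lam a') (lam b'), mul_assoc (lam b'), mul_inv_cancel, mul_one, mul_inv_cancel]
  have hval : ∀ y : G, extendByZero H (fun h => ((lam h : ℂˣ) : ℂ)) (y⁻¹ * x * y) = 1 := by
    intro y
    have hy : y⁻¹ * x * y ∈ derivedSeries G (k + 1) := by
      have hnormal : (derivedSeries G (k + 1)).Normal := derivedSeries_normal G (k + 1)
      have := hnormal.conj_mem x hx y⁻¹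
      simpa using this
    obtain ⟨z, hz, hzx⟩ := hker hy
    have hzH : y⁻¹ * x * y ∈ H := by
      rw [← hzx]
      exact z.2
    rw [extendByZero_of_mem H _ hzH]
    have hz2 : (⟨y⁻¹ * x * y, hzH⟩ : H) = z := Subtype.ext hzx.symm
    rw [hz2]
    have : lam z = 1 := hz
    simp [this]
  have h1 : χ x = (Nat.card H : ℂ)⁻¹ * Fintype.card G := by
    rw [hχH, indFun_apply]
    simp only [hval]
    simp
  have h2 : χ 1 = (Nat.card H : ℂ)⁻¹ * Fintype.card G := by
    rw [hχone, ← hindex, Nat.card_eq_fintype_card (α := G) |>.symm, ← Subgroup.card_mul_index H]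
    have hHne := natCard_subgroup_ne_zero H
    push_cast
    field_simp
  rw [h1, h2]

/-- **Taketa**: an M-group with at most three degrees has derived length at most three. -/
theorem taketa_three {a b : ℕ} (hTh : Three G a b)
    (hM : ∀ χ : G → ℂ, IsIrrCharacter G χ → ∃ (H : Subgroup G) (lam : H →* ℂˣ),
      χ = indFun H (fun h => ((lam h : ℂˣ) : ℂ))) : derivedSeries G 3 = ⊥ := by
  classical
  wlog hab : a ≤ b generalizing a b
  · refine this (a := b) (b := a) ?_ (by omega)
    intro χ
    rcases hTh χ with h | h | h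
    · exact Or.inl h
    · exact Or.inr (Or.inr h)
    · exact Or.inr (Or.inl h)
  have s1 : ∀ χ : G → ℂ, IsIrrCharacter G χ → charDegree χ = 1 → ∀ x ∈ derivedSeries G 1,
      χ x = χ 1 := by
    intro χ hχ hd
    obtain ⟨H, lam, h⟩ := hM χ hχ
    refine taketa_step hχ H lam h 0 ?_
    intro ψ hψ hlt
    have := charDegree_pos hψ
    omega
  have s2 : ∀ χ : G → ℂ, IsIrrCharacter G χ → charDegree χ = 1 ∨ charDegree χ = a →
      ∀ x ∈ derivedSeries G 2, χ x = χ 1 := by
    intro χ hχ hd x hx
    rcases hd with hd | hd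
    · exact s1 χ hχ hd x (derivedSeries_antitone G (by omega) hx)
    obtain ⟨H, lam, h⟩ := hM χ hχ
    refine taketa_step hχ H lam h 1 ?_ x hx
    intro ψ hψ hlt
    apply s1 ψ hψ
    rcases hTh ⟨ψ, hψ⟩ with h1 | h1 | h1
    · exact h1
    · change charDegree ψ = a at h1
      omega
    · change charDegree ψ = b at h1
      omega
  have s3 : ∀ χ : G → ℂ, IsIrrCharacter G χ → ∀ x ∈ derivedSeries G 3, χ x = χ 1 := by
    intro χ hχ x hx
    rcases hTh ⟨χ, hχ⟩ with h1 | h1 | h1
    · exact s2 χ hχ (Or.inl h1) x (derivedSeries_antitone G (by omega) hx)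
    · exact s2 χ hχ (Or.inr h1) x (derivedSeries_antitone G (by omega) hx)
    obtain ⟨H, lam, h⟩ := hM χ hχ
    refine taketa_step hχ H lam h 2 ?_ x hx
    intro ψ hψ hlt
    apply s2 ψ hψ
    rcases hTh ⟨ψ, hψ⟩ with h2 | h2 | h2
    · exact Or.inl h2
    · exact Or.inr h2
    · change charDegree ψ = b at h2
      change charDegree χ = b at h1
      omega
  rw [eq_bot_iff]
  intro x hx
  have h1 : IsConj x 1 := by
    apply Cfsg.Agent.Lib.CharAvg.isConj_of_forall_irr
    intro χ
    exact s3 _ χ.2 x hx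
  exact (Subgroup.mem_bot).mpr (isConj_one_left.mp h1)

end Taketa

end Cfsg.Agent.Lib.ThreeDeg31
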