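import Mathlib
import Cfsg.Agent.Lib.ThreeDeg31Base

/-!
# Three character degrees: the case of a `p`-group quotient with central derived subgroup
-/

set_option autoImplicit false
set_option linter.style.haveILetI false
set_option linter.unusedVariables false
set_option linter.unusedSectionVars false

namespace Cfsg.Agent.Lib.ThreeDeg31

open Cfsg Cfsg.Agent.Lib.CharBasic Cfsg.Agent.Lib.CharInd Cfsg.Agent.Lib.CharKernel
open Cfsg.Agent.Lib.Clifford Cfsg.Agent.Lib.CliffDvd Cfsg.Agent.Lib.TwoDeg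
open scoped ComplexConjugate commutatorElement

universe u v

section HChief

variable {G : Type u} [Group G] [Finite G]

/-- In a `p`-group quotient, chief factors of subgroups have prime order. -/
theorem hchief_of_pgroup (N : Subgroup G) [hN : N.Normal] {p : ℕ} (hp : p.Prime)
    (hq : IsPGroup p (G ⧸ N)) : Cfsg.Agent.Lib.RelMono.HChief N := by
  classical
  haveI : Fact p.Prime := ⟨hp⟩
  intro H K L hNL hLK hKH hK hL hbetween
  let L' : Subgroup H := L.subgroupOf H
  let K' : Subgroup H := K.subgroupOf H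
  have hLH : L ≤ H := hLK.le.trans hKH
  haveI hL'n : L'.Normal := by
    constructor
    intro x hx g
    exact hL g g.2 x hx
  haveI hK'n : K'.Normal := by
    constructor
    intro x hx g
    exact hK g g.2 x hx
  -- the quotient is a `p`-group
  have hQp : IsPGroup p (H ⧸ L') := by
    rw [IsPGroup.iff_card]
    obtain ⟨n, hn⟩ := IsPGroup.iff_card.mp hq
    have h1 : Nat.card (H ⧸ L') ∣ p ^ n := by
      rw [← hn]
      have e1 : Nat.card (H ⧸ L') = L'.index := rfl
      have e2 : L'.index = L.relIndex H := rfl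
      have e3 : Nat.card (G ⧸ N) = N.index := rfl
      rw [e1, e2, e3]
      have h2 : N.relIndex L * L.index = N.index := Subgroup.relIndex_mul_index hNL
      have h3 : L.relIndex H * H.index = L.index := Subgroup.relIndex_mul_index hLH
      rw [← h2, ← h3]
      exact ⟨N.relIndex L * H.index, by ring⟩
    obtain ⟨j, -, hj⟩ := (Nat.dvd_prime_pow hp).mp h1
    exact ⟨j, hj⟩
  haveI hQnil : Group.IsNilpotent (H ⧸ L') := hQp.isNilpotent
  let π : H →* H ⧸ L' := QuotientGroup.mk' L'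
  have hπ : Function.Surjective π := QuotientGroup.mk'_surjective L'
  let Kb : Subgroup (H ⧸ L') := K'.map π
  haveI hKbn : Kb.Normal := Subgroup.Normal.map hK'n π hπ
  -- an element of `K` not in `L`
  obtain ⟨x, hxK, hxL⟩ := SetLike.exists_of_lt hLK
  have hxH : x ∈ H := hKH hxK
  have hKbne : π ⟨x, hxH⟩ ∈ Kb ∧ π ⟨x, hxH⟩ ≠ 1 := by
    refine ⟨⟨⟨x, hxH⟩, hxK, rfl⟩, ?_⟩
    intro h
    apply hxL
    have : (⟨x, hxH⟩ : H) ∈ L' := (QuotientGroup.eq_one_iff _).mp h
    exact this
  -- a central element inside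
  let Z : Set (H ⧸ L') := {y | y ∉ Kb ∨ y = 1}
  have hZ1 : (1 : H ⧸ L') ∈ Z := Or.inr rfl
  have hZne : ∃ g, g ∉ Z := by
    refine ⟨π ⟨x, hxH⟩, ?_⟩
    rintro (h | h)
    · exact h hKbne.1
    · exact hKbne.2 h
  obtain ⟨a, haZ, hac⟩ := Cfsg.Agent.Lib.Monomial.exists_central_mod Z hZ1 hZne
  have haK : a ∈ Kb := by
    by_contra h
    exact haZ (Or.inl h)
  have ha1 : a ≠ 1 := fun h => haZ (Or.inr h)
  have hacomm : ∀ g, g * a = a * g := by
    intro g
    have h1 := hac g
    have h2 : g * a * g⁻¹ * a⁻¹ ∈ Kb :=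
      Kb.mul_mem (hKbn.conj_mem a haK g) (Kb.inv_mem haK)
    rcases h1 with h1 | h1
    · exact absurd h2 h1
    · have h3 : g * a * g⁻¹ = a := by
        rw [mul_inv_eq_one] at h1
        exact h1
      calc g * a = g * a * g⁻¹ * g := by group
        _ = a * g := by rw [h3]
  -- an element of prime order
  obtain ⟨j, hj⟩ := (IsPGroup.iff_orderOf.mp hQp) a
  have hj0 : j ≠ 0 := by
    rintro rfl
    rw [pow_zero, orderOf_eq_one_iff] at hj
    exact ha1 hj
  obtain ⟨i, rfl⟩ := Nat.exists_eq_succ_of_ne_zero hj0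
  let a₁ := a ^ p ^ i
  have ha₁ord : orderOf a₁ = p := by
    have h1 := orderOf_pow' a (n := p ^ i) (pow_ne_zero _ hp.ne_zero)
    rw [hj, Nat.gcd_eq_right (pow_dvd_pow p (Nat.le_succ i))] at h1
    rw [h1, Nat.succ_eq_add_one, pow_succ]
    exact Nat.mul_div_cancel_left _ (pow_pos hp.pos _)
  have ha₁K : a₁ ∈ Kb := Kb.pow_mem haK _
  have ha₁c : ∀ g, g * a₁ = a₁ * g := fun g => (Commute.pow_right (hacomm g) _).eq
  have ha₁1 : a₁ ≠ 1 := by
    intro h
    rw [h, orderOf_one] at ha₁ord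
    exact hp.one_lt.ne ha₁ord
  -- the subgroup
  let Mb : Subgroup (H ⧸ L') := Subgroup.zpowers a₁
  let Mt : Subgroup H := Mb.comap π
  let M : Subgroup G := Mt.map H.subtype
  have hLM : L ≤ M := by
    intro l hl
    refine ⟨⟨l, hLH hl⟩, ?_, rfl⟩
    show π ⟨l, hLH hl⟩ ∈ Mb
    have : π ⟨l, hLH hl⟩ = 1 := (QuotientGroup.eq_one_iff _).mpr hl
    rw [this]
    exact Mb.one_mem
  have hMK : M ≤ K := by
    rintro _ ⟨y, hy, rfl⟩
    have h1 : π y ∈ Kb := Kb.zpowers_le.mpr ha₁K hy
    obtain ⟨w, hw, hwy⟩ := h1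
    have h2 : w⁻¹ * y ∈ L' := by
      rw [← QuotientGroup.eq_one_iff]
      show π (w⁻¹ * y) = 1
      rw [map_mul, map_inv, hwy, inv_mul_cancel]
    have h3 : ((w⁻¹ * y : H) : G) ∈ K := hLK.le h2
    have h4 : (w : G) ∈ K := hw
    have h5 := K.mul_mem h4 h3
    simpa using h5
  have hMinv : ∀ h ∈ H, ∀ m ∈ M, h * m * h⁻¹ ∈ M := by
    rintro h hh _ ⟨y, hy, rfl⟩
    refine ⟨⟨h, hh⟩ * y * (⟨h, hh⟩ : H)⁻¹, ?_, rfl⟩
    show π (⟨h, hh⟩ * y * (⟨h, hh⟩ : H)⁻¹) ∈ Mb
    have h1 : π y ∈ Mb := hy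
    obtain ⟨t, ht⟩ := h1
    rw [map_mul, map_mul, map_inv, ← ht]
    have h2 : Commute (π ⟨h, hh⟩) (a₁ ^ t) := Commute.zpow_right (ha₁c _) t
    simp only
    rw [h2.eq]
    simp [Mb]
  have hMne : M ≠ L := by
    intro h
    have h1 : ∃ y : H, π y = a₁ := hπ a₁
    obtain ⟨y, hy⟩ := h1
    have h2 : (y : G) ∈ M := ⟨y, by
      show π y ∈ Mb
      rw [hy]
      exact Subgroup.mem_zpowers a₁, rfl⟩
    rw [h] at h2
    apply ha₁1
    rw [← hy]
    exact (QuotientGroup.eq_one_iff _).mpr h2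
  have hMeq : M = K := (hbetween M hLM hMK hMinv).resolve_left hMne
  -- the index
  have hK'M : K' = Mt := by
    apply Subgroup.ext
    intro y
    constructor
    · intro hy
      have h1 : (y : G) ∈ M := by
        rw [hMeq]
        exact hy
      obtain ⟨w, hw, hwy⟩ := h1
      have : w = y := Subtype.ext hwy
      rw [← this]
      exact hw
    · intro hy
      show (y : G) ∈ K
      rw [← hMeq]
      exact ⟨y, hy, rfl⟩
  have hrel : L.relIndex K = p := by
    have h1 : L'.relIndex K' = L.relIndex K := Subgroup.relIndex_subgroupOf hKH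
    rw [← h1]
    have h2 : L' = (⊥ : Subgroup (H ⧸ L')).comap π := by
      apply Subgroup.ext
      intro y
      rw [Subgroup.mem_comap, Subgroup.mem_bot]
      exact (QuotientGroup.eq_one_iff y).symm
    rw [h2, Subgroup.relIndex_comap, Subgroup.relIndex_bot_left]
    have h3 : K'.map π = Mb := by
      rw [hK'M]
      exact Subgroup.map_comap_eq_self_of_surjective hπ Mb
    rw [h3, Nat.card_zpowers, ha₁ord]
  rw [hrel]
  exact hp.prime.irreducible.not_isSquare

/-- An abelian normal subgroup with `p`-group quotient: `G` is an M-group. -/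
theorem monomial_of_abelian [Fintype G] (K : Subgroup G) [hK : K.Normal] {p : ℕ} (hp : p.Prime)
    (hq : IsPGroup p (G ⧸ K)) (hab : ∀ a ∈ K, ∀ b ∈ K, a * b = b * a) (χ : G → ℂ)
    (hχ : IsIrrCharacter G χ) :
    ∃ (H : Subgroup G) (lam : H →* ℂˣ), χ = indFun H (fun h => ((lam h : ℂˣ) : ℂ)) := by
  classical
  haveI : Fact p.Prime := ⟨hp⟩
  haveI : Group.IsNilpotent (G ⧸ K) := hq.isNilpotent
  obtain ⟨H, hKH, ψ, hψ, hind, hres⟩ := Cfsg.Agent.Lib.RelMono.main _ G K rfl inferInstance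
    (hchief_of_pgroup K hp hq) χ hχ
  have h1 := Cfsg.Agent.Lib.CharCodegP.irr_one_of_comm
    (fun a b : K => Subtype.ext (hab a a.2 b b.2)) hres
  have h2 : ψ 1 = 1 := h1
  obtain ⟨lam, hlam⟩ := exists_hom_of_degree_one (IsIrrCharacter.isCharacter hψ) h2
  refine ⟨H, lam, ?_⟩
  rw [← hind]
  congr 1
  exact funext hlam

end HChief

section GroupLemmas

variable {G : Type u} [Group G]

/-- Commutation in a product with a central-like part. -/
theorem commute_mul_of {y x y' x' : G} (h1 : y * x = x * y) (h2 : y * x' = x' * y)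
    (h3 : y * y' = y' * y) (h4 : y' * x = x * y') (h5 : y' * x' = x' * y') (h6 : x * x' = x' * x) :
    (y * x) * (y' * x') = (y' * x') * (y * x) := by
  calc (y * x) * (y' * x') = y * (x * y') * x' := by group
    _ = y * (y' * x) * x' := by rw [h4]
    _ = (y * y') * (x * x') := by group
    _ = (y' * y) * (x' * x) := by rw [h3, h6]
    _ = y' * (y * x') * x := by group
    _ = y' * (x' * y) * x := by rw [h2]
    _ = _ := by group

/-- The commutator of two products modulo commuting parts. -/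
theorem commutator_mul_of {y x y' x' : G} (h1 : y * x = x * y) (h2 : y * x' = x' * y)
    (h3 : y * y' = y' * y) (h4 : y' * x = x * y') (h5 : y' * x' = x' * y') :
    (y * x) * (y' * x') * (y * x)⁻¹ * (y' * x')⁻¹ = x * x' * x⁻¹ * x'⁻¹ := by
  have e1 : (y * x) * (y' * x') = (y * y') * (x * x') := by
    calc (y * x) * (y' * x') = y * (x * y') * x' := by group
      _ = y * (y' * x) * x' := by rw [h4]
      _ = _ := by group
  have e2 : (y' * x') * (y * x) = (y * y') * (x' * x) := by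
    calc (y' * x') * (y * x) = y' * (x' * y) * x := by group
      _ = y' * (y * x') * x := by rw [h2]
      _ = (y' * y) * (x' * x) := by group
      _ = _ := by rw [h3]
  have e3 : (y * y') * (x * x') = (x * x') * (y * y') := by
    have h7 : (y * y') * x = x * (y * y') := by
      calc (y * y') * x = y * (y' * x) := by group
        _ = y * (x * y') := by rw [h4]
        _ = (y * x) * y' := by group
        _ = x * y * y' := by rw [h1]
        _ = _ := by group
    have h8 : (y * y') * x' = x' * (y * y') := by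
      calc (y * y') * x' = y * (y' * x') := by group
        _ = y * (x' * y') := by rw [h5]
        _ = (y * x') * y' := by group
        _ = x' * y * y' := by rw [h2]
        _ = _ := by group
    calc (y * y') * (x * x') = ((y * y') * x) * x' := by group
      _ = x * ((y * y') * x') := by rw [h7]; group
      _ = x * (x' * (y * y')) := by rw [h8]
      _ = _ := by group
  have e4 : (y * y') * (x' * x) = (x' * x) * (y * y') := by
    have h7 : (y * y') * x = x * (y * y') := by
      calc (y * y') * x = y * (y' * x) := by group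
        _ = y * (x * y') := by rw [h4]
        _ = (y * x) * y' := by group
        _ = x * y * y' := by rw [h1]
        _ = _ := by group
    have h8 : (y * y') * x' = x' * (y * y') := by
      calc (y * y') * x' = y * (y' * x') := by group
        _ = y * (x' * y') := by rw [h5]
        _ = (y * x') * y' := by group
        _ = x' * y * y' := by rw [h2]
        _ = _ := by group
    calc (y * y') * (x' * x) = ((y * y') * x') * x := by group
      _ = x' * ((y * y') * x) := by rw [h8]; group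
      _ = x' * (x * (y * y')) := by rw [h7]
      _ = _ := by group
  have e5 : (y * x)⁻¹ * (y' * x')⁻¹ = ((y' * x') * (y * x))⁻¹ := by group
  rw [mul_assoc ((y * x) * (y' * x')), e5, e1, e2, e3, e4]
  group

/-- A group element killed by all linear characters is in the derived subgroup. -/
theorem mem_commutator_of_hom {A : Type u} [Group A] [Finite A] (w : A)
    (h : ∀ l : A →* ℂˣ, l w = 1) : w ∈ commutator A := by
  by_contra hw
  have h1 : (Abelianization.of w) ≠ 1 := by
    intro h2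
    apply hw
    exact (QuotientGroup.eq_one_iff w).mp h2
  obtain ⟨l, hl⟩ := Cfsg.Agent.Lib.CharTwist.exists_hom_ne_one h1
  exact hl (h (l.comp Abelianization.of))

/-- Derived length at most three for a split group with controlled action. -/
theorem derived_of_split (K P : Subgroup G) [hK : K.Normal] (hsup : ∀ g : G, ∃ k ∈ K, ∃ x ∈ P, g = k * x)
    (hPab : ∀ a ∈ ⁅P, P⁆, ∀ b ∈ ⁅P, P⁆, a * b = b * a)
    (hKab : ∀ a ∈ ⁅K, K⁆, ∀ b ∈ ⁅K, K⁆, a * b = b * a)
    (hcen : ∀ v ∈ ⁅P, P⁆, ∀ k ∈ K, v * k * v⁻¹ * k⁻¹ ∈ ⁅K, K⁆) : derivedSeries G 3 = ⊥ := by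
  have hK1n : (⁅K, K⁆ : Subgroup G).Normal := Subgroup.commutator_normal K K
  set K₁ : Subgroup G := ⁅K, K⁆ with hK₁
  let N₁ : Subgroup G := K ⊔ ⁅P, P⁆
  have s1 : derivedSeries G 1 ≤ N₁ := by
    show ⁅(⊤ : Subgroup G), ⊤⁆ ≤ N₁
    rw [Subgroup.commutator_le]
    intro g _ h _
    obtain ⟨k, hk, x, hx, rfl⟩ := hsup g
    obtain ⟨k', hk', x', hx', rfl⟩ := hsup h
    have hc : ⁅x, x'⁆ ∈ (⁅P, P⁆ : Subgroup G) := Subgroup.commutator_mem_commutator hx hx'
    have h1 : (QuotientGroup.mk ⁅k * x, k' * x'⁆ : G ⧸ K) = QuotientGroup.mk ⁅x, x'⁆ := by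
      have e1 : (QuotientGroup.mk k : G ⧸ K) = 1 := (QuotientGroup.eq_one_iff k).mpr hk
      have e2 : (QuotientGroup.mk k' : G ⧸ K) = 1 := (QuotientGroup.eq_one_iff k').mpr hk'
      simp only [commutatorElement_def, QuotientGroup.mk_mul, QuotientGroup.mk_inv, e1, e2, one_mul]
    have h2 := QuotientGroup.eq.mp h1
    have h3 : ⁅k * x, k' * x'⁆ = ⁅x, x'⁆ * (⁅x, x'⁆⁻¹ * ⁅k * x, k' * x'⁆) := by group
    have h4 : (⁅k * x, k' * x'⁆)⁻¹ * ⁅x, x'⁆ ∈ K := h2
    have h5 := K.inv_mem h4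
    have h6 : ((⁅k * x, k' * x'⁆)⁻¹ * ⁅x, x'⁆)⁻¹ = ⁅x, x'⁆⁻¹ * ⁅k * x, k' * x'⁆ := by group
    rw [h6] at h5
    rw [h3]
    exact N₁.mul_mem (Subgroup.mem_sup_right hc) (Subgroup.mem_sup_left h5)
  let ρ : G →* G ⧸ K₁ := QuotientGroup.mk' K₁
  have hρ1 : ∀ z, ρ z = 1 ↔ z ∈ K₁ := fun z => QuotientGroup.eq_one_iff z
  have comm_of : ∀ a b : G, a * b * a⁻¹ * b⁻¹ ∈ K₁ → ρ a * ρ b = ρ b * ρ a := by
    intro a b h
    have h1 := (hρ1 _).mpr h
    simp only [map_mul, map_inv] at h1
    calc ρ a * ρ b = ρ a * ρ b * (ρ a)⁻¹ * (ρ b)⁻¹ * (ρ b * ρ a) := by group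
      _ = _ := by rw [h1, one_mul]
  have s2 : ⁅N₁, N₁⁆ ≤ K₁ := by
    rw [Subgroup.commutator_le]
    intro a ha b hb
    obtain ⟨k, hk, v, hv, rfl⟩ := Subgroup.mem_sup_of_normal_left.mp ha
    obtain ⟨k', hk', v', hv', rfl⟩ := Subgroup.mem_sup_of_normal_left.mp hb
    rw [← hρ1, commutatorElement_def]
    simp only [map_mul, map_inv]
    have c1 : ρ k * ρ v = ρ v * ρ k := by
      refine (comm_of v k (hcen v hv k hk)).symm
    have c2 : ρ k * ρ v' = ρ v' * ρ k := by
      refine (comm_of v' k (hcen v' hv' k hk)).symm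
    have c3 : ρ k * ρ k' = ρ k' * ρ k := by
      apply comm_of
      rw [← commutatorElement_def]
      exact Subgroup.commutator_mem_commutator hk hk'
    have c4 : ρ k' * ρ v = ρ v * ρ k' := by
      refine (comm_of v k' (hcen v hv k' hk')).symm
    have c5 : ρ k' * ρ v' = ρ v' * ρ k' := by
      refine (comm_of v' k' (hcen v' hv' k' hk')).symm
    have c6 : ρ v * ρ v' = ρ v' * ρ v := by
      rw [← map_mul, ← map_mul, hPab v hv v' hv']
    have h7 := commute_mul_of c1 c2 c3 c4 c5 c6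
    have h8 : ρ k * ρ v * (ρ k' * ρ v') * (ρ k * ρ v)⁻¹ * (ρ k' * ρ v')⁻¹ = 1 := by
      rw [h7]
      group
    exact h8
  have s3 : derivedSeries G 2 ≤ K₁ := by
    show ⁅derivedSeries G 1, derivedSeries G 1⁆ ≤ K₁
    exact (Subgroup.commutator_mono s1 s1).trans s2
  rw [eq_bot_iff]
  show ⁅derivedSeries G 2, derivedSeries G 2⁆ ≤ ⊥
  refine (Subgroup.commutator_mono s3 s3).trans ?_
  rw [Subgroup.commutator_le]
  intro a ha b hb
  rw [commutatorElement_def, hKab a ha b hb]
  simp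

end GroupLemmas

section Central

variable {G : Type u} [Group G] [Finite G]

theorem sum_ite_mem [Fintype G] (H : Subgroup G) [Fintype H] (f : G → ℂ) [DecidablePred (· ∈ H)] :
    ∑ g : G, (if g ∈ H then f g else 0) = ∑ h : H, f h := by
  classical
  have := sum_extendByZero H (fun h : H => f h)
  rw [← this]
  refine Finset.sum_congr rfl fun g _ => ?_
  split_ifs with hg
  · rw [extendByZero_of_mem H _ hg]
  · rw [extendByZero_of_not_mem H _ hg]

/-- The restriction of a `p'`-degree character to a normal subgroup of `p`-power index is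
irreducible. -/
theorem irr_restrict_of_not_dvd [Fintype G] {p e : ℕ} (hp : p.Prime) (Z : Subgroup G) [Z.Normal]
    [Fintype Z] (hidx : Z.index ∣ p ^ e) {ψ : G → ℂ} (hψ : IsIrrCharacter G ψ)
    (hnd : ¬ p ∣ charDegree ψ) : IsIrrCharacter Z (fun z : Z => ψ z) := by
  have hψc := IsIrrCharacter.isCharacter hψ
  obtain ⟨θ, hθ⟩ := Cfsg.Agent.Lib.CoprimeDeg.exists_constituent Z hψc (irr_degree_ne_zero hψ)
  have hc := one_eq_charDegree hψc
  have hd := one_eq_charDegree (IsIrrCharacter.isCharacter θ.2)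
  obtain ⟨h1, h2⟩ := Cfsg.Agent.Lib.DegreeDiv.degree_div Z hψ θ.2 hθ hc hd
  have h3 : charDegree ψ / charDegree (θ : Z → ℂ) ∣ p ^ e := h2.trans hidx
  have h4 : charDegree ψ / charDegree (θ : Z → ℂ) ∣ charDegree ψ := Nat.div_dvd_of_dvd h1
  have h5 : Nat.Coprime (charDegree ψ / charDegree (θ : Z → ℂ)) (p ^ e) :=
    Nat.Coprime.pow_right e
      (Nat.Coprime.coprime_dvd_left h4 ((Nat.Prime.coprime_iff_not_dvd hp).mpr hnd).symm)
  have h6 : charDegree ψ / charDegree (θ : Z → ℂ) = 1 := Nat.Coprime.eq_one_of_dvd h5 h3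
  have h7 : charDegree ψ = charDegree (θ : Z → ℂ) := by
    have := Nat.div_mul_cancel h1
    rw [h6, one_mul] at this
    exact this.symm
  have hres := isCharacter_restrict Z hψc
  have h8 : (fun z : Z => ψ z) = θ := Cfsg.Agent.Lib.CharDecomp.eq_of_inner_ne_zero_of_le hres θ.2 hθ (by
    have h9 : charDegree (fun z : Z => ψ z) = charDegree ψ := charDegree_of_one (by simpa using hc)
    rw [h9, h7])
  rw [h8]
  exact θ.2

/-- The nonlinear character of a `p`-group quotient with central minimal derived subgroup. -/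
theorem exists_mul_irr {p : ℕ} (hp : p.Prime) (N : Subgroup G) [hN : N.Normal]
    (hHp : IsPGroup p (G ⧸ N)) (hcent : commutator (G ⧸ N) ≤ Subgroup.center (G ⧸ N))
    (hne : commutator (G ⧸ N) ≠ ⊥)
    (hU : ∀ L : Subgroup (G ⧸ N), L.Normal → L ≠ ⊥ → commutator (G ⧸ N) ≤ L) :
    ∃ (β : IrrCharacter G) (e : ℕ), charDegree (β : G → ℂ) = p ^ e ∧ e ≠ 0 ∧
      ∀ ψ : IrrCharacter G, ¬ p ∣ charDegree (ψ : G → ℂ) →
        ∃ χ : IrrCharacter G, charDegree (χ : G → ℂ) = p ^ e * charDegree (ψ : G → ℂ) := by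
  classical
  haveI : Fintype G := Fintype.ofFinite G
  haveI : Fact p.Prime := ⟨hp⟩
  let q : G →* G ⧸ N := QuotientGroup.mk' N
  have hq : Function.Surjective q := QuotientGroup.mk'_surjective N
  obtain ⟨γ, hγ⟩ : ∃ γ : IrrCharacter (G ⧸ N), charDegree (γ : G ⧸ N → ℂ) ≠ 1 := by
    by_contra hno
    push Not at hno
    apply hne
    rw [commutator_def, Subgroup.commutator_eq_bot_iff_le_centralizer]
    intro x _ y _
    apply comm_of_all_linear
    intro θ
    rw [one_eq_charDegree (IsIrrCharacter.isCharacter θ.2), hno θ]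
    simp
  have hγc := IsIrrCharacter.isCharacter γ.2
  obtain ⟨n, hn⟩ := IsPGroup.iff_card.mp hHp
  have hmdvd : charDegree (γ : G ⧸ N → ℂ) ∣ p ^ n := by
    rw [← hn]
    exact charDegree_dvd_card γ.2
  obtain ⟨e, -, he⟩ := (Nat.dvd_prime_pow hp).mp hmdvd
  have he0 : e ≠ 0 := by
    rintro rfl
    exact hγ (by simpa using he)
  have hγ1 : (γ : G ⧸ N → ℂ) 1 = ((p ^ e : ℕ) : ℂ) := by
    rw [one_eq_charDegree hγc, he]
  have hm0 : ((p ^ e : ℕ) : ℂ) ≠ 0 := by
    exact_mod_cast pow_ne_zero e hp.ne_zero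
  -- `γ` is faithful
  have hfaith : ∀ x : G ⧸ N, (γ : G ⧸ N → ℂ) x = (γ : G ⧸ N → ℂ) 1 → x = 1 := by
    intro x hx
    by_contra hx1
    have hLne : charKer hγc ≠ ⊥ := by
      intro h
      have h1 : x ∈ charKer hγc := hx
      rw [h] at h1
      exact hx1 h1
    have h1 := hU _ inferInstance hLne
    obtain ⟨χ', h2, h3⟩ := exists_quotient_irr (commutator (G ⧸ N)) γ.2 (fun y hy => h1 hy)
    have h4 : χ' 1 = 1 := Cfsg.Agent.Lib.CharCodegP.irr_one_of_comm
      (fun a b => mul_comm (a : Abelianization (G ⧸ N)) b) h2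
    have h5 := h3 1
    have h6 : (γ : G ⧸ N → ℂ) 1 = 1 := by
      rw [← h5]
      exact h4
    apply hγ
    exact charDegree_of_one (by simpa using h6)
  -- vanishing off the centre
  have hvan : ∀ x : G ⧸ N, x ∉ Subgroup.center (G ⧸ N) → (γ : G ⧸ N → ℂ) x = 0 := by
    intro x hx
    rw [Subgroup.mem_center_iff] at hx
    push Not at hx
    obtain ⟨y, hy⟩ := hx
    set v := y * x * y⁻¹ * x⁻¹ with hv
    have hv1 : v ≠ 1 := by
      intro h
      apply hy
      calc y * x = y * x * y⁻¹ * x⁻¹ * (x * y) := by group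
        _ = x * y := by rw [← hv, h, one_mul]
    have hvc : v ∈ Subgroup.center (G ⧸ N) := hcent (mem_commutator y x)
    have hvc' : ∀ g, v * g = g * v := fun g => (Subgroup.mem_center_iff.mp hvc g).symm
    have h1 := Cfsg.Agent.Lib.CharCentral.central_mul γ.2 hvc' x
    have h2 : v * x = y * x * y⁻¹ := by
      rw [hv]
      group
    rw [h2, char_apply_conj hγc] at h1
    have h3 : ((γ : G ⧸ N → ℂ) 1 - (γ : G ⧸ N → ℂ) v) * (γ : G ⧸ N → ℂ) x = 0 := by
      linear_combination h1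
    rcases mul_eq_zero.mp h3 with h4 | h4
    · exact absurd (hfaith v (sub_eq_zero.mp h4).symm) hv1
    · exact h4
  have hnorm : ∀ x ∈ Subgroup.center (G ⧸ N), (γ : G ⧸ N → ℂ) x * conj ((γ : G ⧸ N → ℂ) x) =
      ((p ^ e : ℕ) : ℂ) * ((p ^ e : ℕ) : ℂ) := by
    intro x hx
    rw [Cfsg.Agent.Lib.CharCentral.central_norm γ.2
      (fun g => (Subgroup.mem_center_iff.mp hx g).symm), hγ1]
  -- in `G`
  let β₀ : G → ℂ := (γ : G ⧸ N → ℂ) ∘ q
  have hβ₀ : IsIrrCharacter G β₀ := isIrrCharacter_comp_of_surjective q hq γ.2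
  have hβ₀c := IsIrrCharacter.isCharacter hβ₀
  have hβ₀deg : charDegree β₀ = p ^ e := by
    rw [charDegree_comp, he]
  let Z : Subgroup G := (Subgroup.center (G ⧸ N)).comap q
  haveI hZn : Z.Normal := Subgroup.Normal.comap inferInstance q
  haveI : Fintype Z := Fintype.ofFinite Z
  have hZidx : Z.index ∣ p ^ n := by
    rw [Subgroup.index_comap_of_surjective _ hq, ← hn]
    exact Subgroup.index_dvd_card _
  have hbe : ∀ g : G, β₀ g * conj (β₀ g) =
      if g ∈ Z then ((p ^ e : ℕ) : ℂ) * ((p ^ e : ℕ) : ℂ) else 0 := by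
    intro g
    split_ifs with hg
    · exact hnorm _ hg
    · have : β₀ g = 0 := hvan _ hg
      rw [this]
      simp
  have hcard : (Nat.card Z : ℂ) * (((p ^ e : ℕ) : ℂ) * ((p ^ e : ℕ) : ℂ)) = Nat.card G := by
    have h1 := classInner_irr_self hβ₀
    unfold classInner at h1
    simp only [hbe] at h1
    rw [sum_ite_mem Z (fun _ => ((p ^ e : ℕ) : ℂ) * ((p ^ e : ℕ) : ℂ))] at h1
    simp only [Finset.sum_const, Finset.card_univ, nsmul_eq_mul, Fintype.card_eq_nat_card] at h1
    have h2 : (Nat.card G : ℂ) ≠ 0 := natCard_ne_zero'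
    field_simp at h1
    linear_combination h1
  refine ⟨⟨β₀, hβ₀⟩, e, hβ₀deg, he0, fun ψ hψ => ?_⟩
  have hψc := IsIrrCharacter.isCharacter ψ.2
  have hψZ := irr_restrict_of_not_dvd hp Z hZidx ψ.2 hψ
  have hsum : ∑ z : Z, (ψ : G → ℂ) z * conj ((ψ : G → ℂ) z) = Nat.card Z := by
    have h1 := classInner_irr_self hψZ
    unfold classInner at h1
    have h2 : (Nat.card Z : ℂ) ≠ 0 := natCard_subgroup_ne_zero Z
    field_simp at h1
    exact h1
  have hnorm1 : classInner (β₀ * (ψ : G → ℂ)) (β₀ * (ψ : G → ℂ)) = 1 := by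
    unfold classInner
    have h1 : ∀ g : G, (β₀ * (ψ : G → ℂ)) g * conj ((β₀ * (ψ : G → ℂ)) g) =
        if g ∈ Z then ((p ^ e : ℕ) : ℂ) * ((p ^ e : ℕ) : ℂ) * ((ψ : G → ℂ) g * conj ((ψ : G → ℂ) g))
        else 0 := by
      intro g
      simp only [Pi.mul_apply, map_mul]
      have h2 := hbe g
      split_ifs at h2 ⊢ with hg
      · rw [← h2]
        ring
      · calc β₀ g * (ψ : G → ℂ) g * (conj (β₀ g) * conj ((ψ : G → ℂ) g))
            = (β₀ g * conj (β₀ g)) * ((ψ : G → ℂ) g * conj ((ψ : G → ℂ) g)) := by ring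
          _ = 0 := by rw [h2, zero_mul]
    simp only [h1]
    rw [sum_ite_mem Z (fun g => ((p ^ e : ℕ) : ℂ) * ((p ^ e : ℕ) : ℂ) *
      ((ψ : G → ℂ) g * conj ((ψ : G → ℂ) g))), ← Finset.mul_sum, hsum, mul_comm, ← hcard]
    have h2 : (Nat.card Z : ℂ) * (((p ^ e : ℕ) : ℂ) * ((p ^ e : ℕ) : ℂ)) ≠ 0 := by
      rw [hcard]
      exact natCard_ne_zero'
    rw [mul_comm ((((p ^ e : ℕ) : ℂ) * ((p ^ e : ℕ) : ℂ))) (Nat.card Z : ℂ)]
    exact mul_inv_cancel₀ h2
  have hirr : IsIrrCharacter G (β₀ * (ψ : G → ℂ)) :=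
    isIrrCharacter_of_norm_one (isCharacter_mul hβ₀c hψc) hnorm1
  refine ⟨⟨_, hirr⟩, ?_⟩
  apply charDegree_of_one
  show β₀ 1 * (ψ : G → ℂ) 1 = _
  rw [one_eq_charDegree hβ₀c, hβ₀deg, one_eq_charDegree hψc]
  push_cast
  ring

/-- Degrees of a normal `p`-complement. -/
theorem degree_of_complement (K : Subgroup G) [hK : K.Normal] {p k : ℕ} (hp : p.Prime)
    (hKc : (Nat.card K).Coprime p) (hKi : K.index = p ^ k) (χ : IrrCharacter G) (θ : IrrCharacter K)
    [Fintype G] [Fintype K]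
    (hχ : classInner (fun n : K => (χ : G → ℂ) n) (θ : K → ℂ) ≠ 0) :
    charDegree (θ : K → ℂ) =
      charDegree (χ : G → ℂ) / p ^ (charDegree (χ : G → ℂ)).factorization p := by
  have hcc := one_eq_charDegree (IsIrrCharacter.isCharacter χ.2)
  have hdd := one_eq_charDegree (IsIrrCharacter.isCharacter θ.2)
  obtain ⟨h1, h2⟩ := Cfsg.Agent.Lib.DegreeDiv.degree_div K χ.2 θ.2 hχ hcc hdd
  have hdK : ¬ p ∣ charDegree (θ : K → ℂ) := fun h => by
    have h3 := h.trans (charDegree_dvd_card θ.2)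
    have := Nat.Coprime.eq_one_of_dvd hKc.symm h3
    exact hp.one_lt.ne' this
  rw [hKi] at h2
  obtain ⟨j, -, hj⟩ := (Nat.dvd_prime_pow hp).mp h2
  have h4 : charDegree (χ : G → ℂ) = charDegree (θ : K → ℂ) * p ^ j := by
    rw [← hj]
    exact (Nat.mul_div_cancel' h1).symm
  have hd0 : charDegree (θ : K → ℂ) ≠ 0 := charDegree_ne_zero θ.2
  have h5 : (charDegree (χ : G → ℂ)).factorization p = j := by
    rw [h4, Nat.factorization_mul hd0 (pow_ne_zero _ hp.ne_zero), Nat.Prime.factorization_pow hp]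
    simp [Nat.factorization_eq_zero_of_not_dvd hdK]
  rw [h5, h4]
  exact (Nat.mul_div_cancel _ (pow_pos hp.pos _)).symm

/-- The complement attached to a normal `p`-complement. -/
theorem exists_complement_data (K : Subgroup G) [hK : K.Normal] {p k : ℕ} (hp : p.Prime)
    (hKc : (Nat.card K).Coprime p) (hKi : K.index = p ^ k) :
    ∃ (P : Subgroup G) (r : G →* P), (∀ x : P, r x = x) ∧ (∀ g, r g = 1 ↔ g ∈ K) ∧
      IsPGroup p P ∧ (∀ g : G, ∃ c ∈ K, ∃ x ∈ P, g = c * x) ∧ Nat.card P = p ^ k := by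
  have hKco' : (Nat.card K).Coprime K.index := by
    rw [hKi]
    exact Nat.Coprime.pow_right k hKc
  obtain ⟨P, hP⟩ := Subgroup.exists_right_complement'_of_coprime hKco'
  have hP' : P.IsComplement' K := hP.symm
  let e' := hP'.QuotientMulEquiv
  let r : G →* P := e'.toMonoidHom.comp (QuotientGroup.mk' K)
  have hr : ∀ x : P, r x = x := by
    intro x
    show e' ((x : G) : G ⧸ K) = x
    rw [← MulEquiv.eq_symm_apply]
    rfl
  have hker : ∀ g, r g = 1 ↔ g ∈ K := by
    intro g
    show e' (g : G ⧸ K) = 1 ↔ _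
    rw [map_eq_one_iff e' e'.injective, QuotientGroup.eq_one_iff]
  have hcard : Nat.card P = p ^ k := by
    rw [← hP'.index_eq_card, hKi]
  have hPp : IsPGroup p P := IsPGroup.of_card hcard
  refine ⟨P, r, hr, hker, hPp, ?_, hcard⟩
  intro g
  refine ⟨g * ((r g : P) : G)⁻¹, ?_, r g, (r g).2, by group⟩
  rw [← hker, map_mul, map_inv, hr, mul_inv_cancel]

/-- A helper: two degrees imply a metabelian group. -/
theorem comm_comm_of_two {X : Type u} [Group X] [Finite X] {f : ℕ} (h : Two X f) :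
    ∀ a ∈ commutator X, ∀ b ∈ commutator X, a * b = b * a := by
  by_cases hex : ∃ χ : IrrCharacter X, charDegree (χ : X → ℂ) ≠ 1
  · obtain ⟨χ, hχ⟩ := hex
    have h1 := (h χ).resolve_left hχ
    exact Cfsg.Agent.Lib.TwoDeg2.two_comm h ⟨χ, h1⟩ (h1 ▸ hχ)
  · push Not at hex
    intro a _ b _
    apply comm_of_all_linear
    intro θ
    rw [one_eq_charDegree (IsIrrCharacter.isCharacter θ.2), hex θ]
    simp

theorem comm_map (K : Subgroup G) (h : ∀ a ∈ commutator K, ∀ b ∈ commutator K, a * b = b * a) :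
    ∀ a ∈ ⁅K, K⁆, ∀ b ∈ ⁅K, K⁆, a * b = b * a := by
  intro a ha b hb
  rw [← Subgroup.map_subtype_commutator] at ha hb
  obtain ⟨a', ha', rfl⟩ := ha
  obtain ⟨b', hb', rfl⟩ := hb
  exact congrArg Subtype.val (h a' ha' b' hb')

/-- **The case of a `p`-group quotient.** -/
theorem central_case {a b p : ℕ} (hTh : Three G a b) (hp : p.Prime) (N : Subgroup G)
    [hN : N.Normal] (hHp : IsPGroup p (G ⧸ N))
    (hcent : commutator (G ⧸ N) ≤ Subgroup.center (G ⧸ N)) (hne : commutator (G ⧸ N) ≠ ⊥)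
    (hU : ∀ L : Subgroup (G ⧸ N), L.Normal → L ≠ ⊥ → commutator (G ⧸ N) ≤ L) :
    derivedSeries G 3 = ⊥ := by
  classical
  haveI : Fintype G := Fintype.ofFinite G
  haveI : Fact p.Prime := ⟨hp⟩
  obtain ⟨β, e, hβ, he, hmul⟩ := exists_mul_irr hp N hHp hcent hne hU
  have hm1 : p ^ e ≠ 1 := by
    intro h
    have := (Nat.pow_eq_one.mp h)
    rcases this with h | h
    · exact hp.one_lt.ne' h
    · exact he h
  have hm0 : p ^ e ≠ 0 := pow_ne_zero e hp.ne_zero
  have hpm : p ∣ p ^ e := dvd_pow_self p he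
  have hdeg : ∀ χ : IrrCharacter G, charDegree (χ : G → ℂ) ≠ 1 → p ∣ charDegree (χ : G → ℂ) := by
    intro χ h1
    by_contra h2
    obtain ⟨χ', hχ'⟩ := hmul χ h2
    have hd0 : charDegree (χ : G → ℂ) ≠ 0 := charDegree_ne_zero χ.2
    have h3 : p ^ e ≠ charDegree (χ : G → ℂ) := fun h => h2 (h ▸ hpm)
    have h4 : p ^ e * charDegree (χ : G → ℂ) ≠ p ^ e := by
      intro h
      apply h1
      have h5 : p ^ e * charDegree (χ : G → ℂ) = p ^ e * 1 := by rw [h, mul_one]
      exact Nat.eq_of_mul_eq_mul_left (Nat.pos_of_ne_zero hm0) h5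
    have h5 : p ^ e * charDegree (χ : G → ℂ) ≠ charDegree (χ : G → ℂ) := by
      intro h
      apply hm1
      have h6 : p ^ e * charDegree (χ : G → ℂ) = 1 * charDegree (χ : G → ℂ) := by rw [h, one_mul]
      exact Nat.eq_of_mul_eq_mul_right (Nat.pos_of_ne_zero hd0) h6
    have h6 : p ^ e * charDegree (χ : G → ℂ) ≠ 1 := by
      intro h
      exact h1 (Nat.eq_one_of_mul_eq_one_left h)
    have h7 := hTh β
    have h8 := hTh χ
    have h9 := hTh χ'
    rw [hβ] at h7
    rw [hχ'] at h9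
    omega
  obtain ⟨K, hKn, hKc, k, hKi⟩ := Cfsg.Agent.S4456.result p hp hdeg
  haveI := hKn
  haveI : Fintype K := Fintype.ofFinite K
  have hKq : IsPGroup p (G ⧸ K) := IsPGroup.of_card (n := k) hKi
  by_cases hpp : ∀ χ : IrrCharacter G, ∃ j, charDegree (χ : G → ℂ) = p ^ j
  · -- all degrees are powers of `p`
    have hab : ∀ a ∈ K, ∀ b ∈ K, a * b = b * a := by
      intro a ha b hb
      have h1 := comm_of_all_linear (A := K) (fun θ => by
        obtain ⟨χ', hχ'⟩ := Cfsg.Agent.Lib.GlaubAbove.exists_irr_over K θ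
        have h2 := degree_dvd K θ.2 χ'.2 hχ'
        have h3 : charDegree (θ : K → ℂ) ∣ Nat.card K := charDegree_dvd_card θ.2
        have h4 : (charDegree (θ : K → ℂ)).Coprime p := Nat.Coprime.coprime_dvd_left h3 hKc
        obtain ⟨j, hj⟩ := hpp χ'
        rw [hj] at h2
        have h6 : charDegree (θ : K → ℂ) = 1 :=
          Nat.Coprime.eq_one_of_dvd (Nat.Coprime.pow_right j h4) h2
        rw [one_eq_charDegree (IsIrrCharacter.isCharacter θ.2), h6]
        simp) ⟨a, ha⟩ ⟨b, hb⟩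
      exact congrArg Subtype.val h1
    exact taketa_three hTh (monomial_of_abelian K hp hKq hab)
  · push Not at hpp
    obtain ⟨χ₁, hχ₁⟩ := hpp
    have hc1 : charDegree (χ₁ : G → ℂ) ≠ 1 := by
      intro h
      exact hχ₁ 0 (by simpa using h)
    have hmc : p ^ e ≠ charDegree (χ₁ : G → ℂ) := fun h => hχ₁ e h.symm
    have hTh' : Three G (p ^ e) (charDegree (χ₁ : G → ℂ)) :=
      hTh.of_mem ⟨β, hβ⟩ ⟨χ₁, rfl⟩ hm1 hc1 hmc
    set c := charDegree (χ₁ : G → ℂ) with hc
    obtain ⟨P, r, hr, hker, hPp, hdec, hPcard⟩ := exists_complement_data K hp hKc hKi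
    have hr_surj : Function.Surjective r := r_surj P r hr
    haveI hPnil : Group.IsNilpotent P := hPp.isNilpotent
    have hppow : ∀ χ : IrrCharacter G, (∃ j, charDegree (χ : G → ℂ) = p ^ j) →
        charDegree (χ : G → ℂ) = 1 ∨ charDegree (χ : G → ℂ) = p ^ e := by
      rintro χ ⟨j, hj⟩
      rcases hTh' χ with h | h | h
      · exact Or.inl h
      · exact Or.inr h
      · exact absurd (h.symm.trans hj) (hχ₁ j)
    -- two degrees for `P`
    have htwoP : Two P (p ^ e) := by
      intro γ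
      have h1 := hppow ⟨_, isIrrCharacter_comp_of_surjective r hr_surj γ.2⟩ (by
        have h2 : charDegree (γ : P → ℂ) ∣ p ^ k := by
          rw [← hPcard]
          exact charDegree_dvd_card γ.2
        obtain ⟨j, -, hj⟩ := (Nat.dvd_prime_pow hp).mp h2
        refine ⟨j, ?_⟩
        show charDegree ((γ : P → ℂ) ∘ r) = _
        rw [charDegree_comp, hj])
      change charDegree ((γ : P → ℂ) ∘ r) = 1 ∨ charDegree ((γ : P → ℂ) ∘ r) = p ^ e at h1
      rwa [charDegree_comp] at h1
    -- two degrees for `K`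
    have htwoK : Two K (c / p ^ c.factorization p) := by
      intro θ
      obtain ⟨χ, hχ⟩ := Cfsg.Agent.Lib.GlaubAbove.exists_irr_over K θ
      have h1 := degree_of_complement K hp hKc hKi χ θ hχ
      rcases hTh' χ with h | h | h
      · left
        rw [h1, h]
        simp
      · left
        rw [h1, h, Nat.Prime.factorization_pow hp]
        simp [Nat.div_self (pow_pos hp.pos e)]
      · right
        rw [h1, h]
    -- the stabilizers
    have hkey : ∀ l : K →* ℂˣ, stab K P l = ⊤ ∨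
        ((∀ a ∈ stab K P l, ∀ b ∈ stab K P l, a * b = b * a) ∧ (stab K P l).index ≤ p ^ e) := by
      intro l
      by_cases htop : stab K P l = ⊤
      · exact Or.inl htop
      right
      have hfor : ∀ γ : IrrCharacter (stab K P l), (stab K P l).index * charDegree (γ : stab K P l → ℂ) = p ^ e := by
        intro γ
        obtain ⟨χ, hχ1, -⟩ := exists_char_of_stab K P r hr hker l γ
        have h1 : (stab K P l).index * charDegree (γ : stab K P l → ℂ) ∣ p ^ k := by
          rw [← hPcard, ← Subgroup.index_mul_card (stab K P l)]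
          exact Nat.mul_dvd_mul_left _ (charDegree_dvd_card γ.2)
        obtain ⟨j, -, hj⟩ := (Nat.dvd_prime_pow hp).mp h1
        have h2 := hppow χ ⟨j, by rw [hχ1, hj]⟩
        rw [hχ1] at h2
        rcases h2 with h2 | h2
        · exfalso
          apply htop
          exact Subgroup.index_eq_one.mp (Nat.eq_one_of_mul_eq_one_right h2)
        · exact h2
      have hone : charDegree (fun _ : stab K P l => (1 : ℂ)) = 1 := charDegree_of_one (by simp)
      have hidx : (stab K P l).index = p ^ e := by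
        have := hfor ⟨fun _ => 1, isIrrCharacter_one⟩
        change (stab K P l).index * charDegree (fun _ : stab K P l => (1 : ℂ)) = p ^ e at this
        rwa [hone, mul_one] at this
      refine ⟨?_, hidx.le⟩
      intro a ha b hb
      have h1 := comm_of_all_linear (A := stab K P l) (fun γ => by
        have h2 := hfor γ
        rw [hidx] at h2
        have h3 : charDegree (γ : stab K P l → ℂ) = 1 :=
          Nat.eq_of_mul_eq_mul_left (Nat.pos_of_ne_zero hm0) (by rw [h2, mul_one])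
        rw [one_eq_charDegree (IsIrrCharacter.isCharacter γ.2), h3]
        simp) ⟨a, ha⟩ ⟨b, hb⟩
      exact congrArg Subtype.val h1
    -- the kernel of the action
    let C : Subgroup P := ⨅ l : K →* ℂˣ, stab K P l
    have hCmem : ∀ x, x ∈ C ↔ ∀ l : K →* ℂˣ, x ∈ stab K P l := fun x => Subgroup.mem_iInf
    haveI hCn : C.Normal := by
      constructor
      intro x hx g
      rw [hCmem] at hx ⊢
      intro l
      rw [mem_stab]
      push_cast
      rw [act_mul, act_mul]
      have h1 : act K (x : G) (act K (g : G) l) = act K (g : G) l := hx _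
      rw [h1, ← act_mul, mul_inv_cancel, act_one]
    have hcomC : commutator P ≤ C := comm_le_of_stabs htwoP (fun l => stab K P l) hkey C hCmem
    -- group theory
    refine derived_of_split K P hdec (comm_map P (comm_comm_of_two htwoP))
      (comm_map K (comm_comm_of_two htwoK)) ?_
    intro v hv k₀ hk₀
    rw [← Subgroup.map_subtype_commutator] at hv
    obtain ⟨v', hv', rfl⟩ := hv
    have hv'C := (hCmem v').mp (hcomC hv')
    let w : K := cj K (v' : G) ⟨k₀, hk₀⟩ * (⟨k₀, hk₀⟩ : K)⁻¹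
    have hw : w ∈ commutator K := by
      apply mem_commutator_of_hom
      intro l
      have h1 : act K (v' : G) l = l := hv'C l
      have h2 : l (cj K (v' : G) ⟨k₀, hk₀⟩) = l ⟨k₀, hk₀⟩ := by
        have := congrArg (fun f : K →* ℂˣ => f ⟨k₀, hk₀⟩) h1
        exact this
      show l (cj K (v' : G) ⟨k₀, hk₀⟩ * (⟨k₀, hk₀⟩ : K)⁻¹) = 1
      rw [map_mul, map_inv, h2, mul_inv_cancel]
    rw [← Subgroup.map_subtype_commutator]
    refine ⟨w, hw, ?_⟩
    show ((cj K (v' : G) ⟨k₀, hk₀⟩ : K) : G) * k₀⁻¹ = _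
    rw [cj_apply]
    rfl

end Central

end Cfsg.Agent.Lib.ThreeDeg31
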