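import Mathlib
import Cfsg.Agent.Lib.ThreeDeg31P
import Cfsg.Agent.Lib.CoprimeHyper
import Cfsg.Agent.Lib.PDegKernel71

/-!
# Three character degrees: the Frobenius case
-/

set_option autoImplicit false
set_option linter.style.haveILetI false
set_option linter.unusedVariables false
set_option linter.unusedSectionVars false

namespace Cfsg.Agent.Lib.ThreeDeg31

open Cfsg Cfsg.Agent.Lib.CharBasic Cfsg.Agent.Lib.CharInd Cfsg.Agent.Lib.CharKernel
open Cfsg.Agent.Lib.Clifford Cfsg.Agent.Lib.CliffDvd Cfsg.Agent.Lib.TwoDeg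
open Cfsg.Agent.Lib.CoprimeDeg Cfsg.Agent.Lib.GlaubCyc
open scoped ComplexConjugate commutatorElement

universe u v

section Twist

variable {G : Type u} [Group G] [Finite G]

/-- Twisting by the linear characters of a Frobenius quotient: a twist of `θ` has trivial inertia
group. -/
theorem exists_ind_twist {m : ℕ} (A : Subgroup G) [hA : A.Normal] (hidx : A.index = m)
    {Q : Type v} [Group Q] [Finite Q] (hQ : ∀ x y : Q, x * y = y * x) (π : A →* Q)
    (hπ : Function.Surjective π) (c : G → Q →* Q)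
    (hc : ∀ (x : G) (a : A), π ⟨x * a * x⁻¹, hA.conj_mem a a.2 x⟩ = c x (π a))
    (hfree : ∀ x, x ∉ A → ∀ y : Q, ∃ z : Q, c x z * z⁻¹ = y)
    (hsize : m ≤ Nat.card Q) {θ : A → ℂ} (hθ : IsIrrCharacter A θ)
    (hdQ : (charDegree θ).Coprime (Nat.card Q)) :
    ∃ χ : IrrCharacter G, charDegree (χ : G → ℂ) = m * charDegree θ := by
  classical
  haveI : Fintype G := Fintype.ofFinite G
  haveI : Fintype A := Fintype.ofFinite A
  have hm0 : m ≠ 0 := by
    rw [← hidx]
    exact Subgroup.index_ne_zero_of_finite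
  have hθc := IsIrrCharacter.isCharacter hθ
  set d := charDegree θ with hd
  have hθ1 : θ 1 = (d : ℂ) := one_eq_charDegree hθc
  -- twisting by `ρ` fixes `θ` only for `ρ = 1`
  have key1 : ∀ ρ : Q →* ℂˣ, (∀ a : A, θ a * ((ρ (π a) : ℂˣ) : ℂ) = θ a) → ρ = 1 := by
    intro ρ h
    ext y
    obtain ⟨a, rfl⟩ := hπ y
    have h1 : (fun g : A => (((ρ.comp π) g : ℂˣ) : ℂ)) * θ = θ := by
      funext g
      simp only [Pi.mul_apply, MonoidHom.comp_apply]
      rw [mul_comm]
      exact h g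
    have h2 := Cfsg.Agent.Lib.DetChar.detChar_mul_hom (ρ.comp π) hθc hθ1 a
    rw [h1] at h2
    obtain ⟨D, hD⟩ := Cfsg.Agent.Lib.DetChar.exists_detHom hθc
    rw [hD] at h2
    have h3 : ((ρ (π a) : ℂˣ) : ℂ) ^ d = 1 := by
      have h4 : ((D a : ℂˣ) : ℂ) ≠ 0 := Units.ne_zero _
      have h5 : 1 * ((D a : ℂˣ) : ℂ) = ((ρ (π a) : ℂˣ) : ℂ) ^ d * ((D a : ℂˣ) : ℂ) := by
        rw [one_mul]
        exact h2
      exact (mul_right_cancel₀ h4 h5).symm
    have h4 : (ρ (π a)) ^ d = 1 := by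
      apply Units.ext
      simpa using h3
    have h5 : (ρ (π a)) ^ (Nat.card Q) = 1 := by
      rw [← map_pow, pow_card_eq_one', map_one]
    have h6 := Cfsg.Agent.Lib.GlaubCyc.eq_one_of_pow_of_pow h4 h5 hdQ
    rw [h6]
    rfl
  -- the twists
  let tw : (Q →* ℂˣ) → A → ℂ := fun l => (fun g : A => (((l.comp π) g : ℂˣ) : ℂ)) * θ
  have htw : ∀ l a, tw l a = θ a * ((l (π a) : ℂˣ) : ℂ) := by
    intro l a
    simp only [tw, Pi.mul_apply, MonoidHom.comp_apply]
    ring
  have htwirr : ∀ l, IsIrrCharacter A (tw l) := fun l =>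
    Cfsg.Agent.Lib.DetChar.isIrr_mul_hom (l.comp π) hθ
  let Bad : G → (Q →* ℂˣ) → Prop := fun x l =>
    ∀ a : A, tw l ⟨x * a * x⁻¹, hA.conj_mem a a.2 x⟩ = tw l a
  have key2 : ∀ x, x ∉ A → ∀ l l', Bad x l → Bad x l' → l = l' := by
    intro x hx l l' h h'
    let τ : Q →* ℂˣ := l' * l⁻¹
    let ρ : Q →* ℂˣ := (τ.comp (c x)) * τ⁻¹
    have h1 : ρ = 1 := by
      apply key1
      intro a
      have e1 := h a
      have e2 := h' a
      rw [htw, htw, hc] at e1 e2
      set y := π a with hy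
      set t := θ ⟨x * a * x⁻¹, hA.conj_mem a a.2 x⟩ with ht
      have hρ : ((ρ y : ℂˣ) : ℂ) = ((l' (c x y) : ℂˣ) : ℂ) * ((l (c x y) : ℂˣ) : ℂ)⁻¹ *
          ((l' y : ℂˣ) : ℂ)⁻¹ * ((l y : ℂˣ) : ℂ) := by
        simp only [ρ, τ, MonoidHom.mul_apply, MonoidHom.comp_apply, MonoidHom.inv_apply]
        push_cast
        rw [mul_inv, inv_inv]
        ring
      rw [hρ]
      have a1 : ((l (c x y) : ℂˣ) : ℂ) ≠ 0 := Units.ne_zero _
      have a2 : ((l' y : ℂˣ) : ℂ) ≠ 0 := Units.ne_zero _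
      have e3 : θ a * ((l y : ℂˣ) : ℂ) = t * ((l (c x y) : ℂˣ) : ℂ) := e1.symm
      have e4 : θ a * ((l' y : ℂˣ) : ℂ) = t * ((l' (c x y) : ℂˣ) : ℂ) := e2.symm
      field_simp
      calc θ a * ((l' (c x y) : ℂˣ) : ℂ) * ((l y : ℂˣ) : ℂ)
          = (θ a * ((l y : ℂˣ) : ℂ)) * ((l' (c x y) : ℂˣ) : ℂ) := by ring
        _ = (t * ((l (c x y) : ℂˣ) : ℂ)) * ((l' (c x y) : ℂˣ) : ℂ) := by rw [e3]
        _ = (t * ((l' (c x y) : ℂˣ) : ℂ)) * ((l (c x y) : ℂˣ) : ℂ) := by ring
        _ = (θ a * ((l' y : ℂˣ) : ℂ)) * ((l (c x y) : ℂˣ) : ℂ) := by rw [e4]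
        _ = _ := by ring
    have h2 : τ = 1 := by
      ext y
      obtain ⟨z, rfl⟩ := hfree x hx y
      have h3 := congrArg (fun f : Q →* ℂˣ => f z) h1
      simp only [ρ, MonoidHom.mul_apply, MonoidHom.comp_apply, MonoidHom.inv_apply,
        MonoidHom.one_apply] at h3
      have h4 : τ (c x z) = τ z := by
        rw [mul_inv_eq_one] at h3
        exact h3
      rw [map_mul, map_inv, h4, mul_inv_cancel]
      rfl
    have h3 : l' = l := by
      have h4 : l' * l⁻¹ = 1 := h2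
      exact mul_inv_eq_one.mp h4
    exact h3.symm
  have key3 : ∀ x x' l, (x⁻¹ * x') ∈ A → Bad x l → Bad x' l := by
    intro x x' l hxx h a
    have hcl := isClassFunction_of_isCharacter (IsIrrCharacter.isCharacter (htwirr l))
    set a₀ : A := ⟨x⁻¹ * x', hxx⟩ with ha₀
    have h1 := h (a₀ * a * a₀⁻¹)
    have h2 : (⟨x' * a * x'⁻¹, hA.conj_mem a a.2 x'⟩ : A) =
        ⟨x * ((a₀ * a * a₀⁻¹ : A) : G) * x⁻¹, hA.conj_mem _ (a₀ * a * a₀⁻¹ : A).2 x⟩ := by
      apply Subtype.ext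
      simp [ha₀]
      group
    rw [h2, h1]
    exact hcl a a₀
  -- counting
  haveI : Fintype (G ⧸ A) := Fintype.ofFinite _
  haveI : Fintype (Q →* ℂˣ) := Fintype.ofFinite _
  let S : Finset (G ⧸ A) := Finset.univ.erase 1
  have hScard : S.card = m - 1 := by
    rw [Finset.card_erase_of_mem (Finset.mem_univ _), Finset.card_univ, ← Nat.card_eq_fintype_card]
    show A.index - 1 = m - 1
    rw [hidx]
  let F : G ⧸ A → Finset (Q →* ℂˣ) := fun q => Finset.univ.filter fun l => Bad q.out l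
  have hout : ∀ q ∈ S, q.out ∉ A := by
    intro q hq hmem
    apply (Finset.mem_erase.mp hq).1
    rw [← QuotientGroup.out_eq' q]
    exact (QuotientGroup.eq_one_iff _).mpr hmem
  have hF : ∀ q ∈ S, (F q).card ≤ 1 := by
    intro q hq
    apply Finset.card_le_one.mpr
    intro l hl l' hl'
    exact key2 _ (hout q hq) l l' (Finset.mem_filter.mp hl).2 (Finset.mem_filter.mp hl').2
  have hU : (S.biUnion F).card ≤ (m - 1) * 1 := by
    rw [← hScard]
    exact Finset.card_biUnion_le_card_mul S F 1 hF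
  have hcardhom : Fintype.card (Q →* ℂˣ) = Nat.card Q := by
    rw [← Nat.card_eq_fintype_card]
    letI : CommGroup Q := { ‹Group Q› with mul_comm := hQ }
    exact Cfsg.Agent.Lib.CharTwist.card_hom
  have hex : ∃ l, l ∉ S.biUnion F := by
    by_contra hne
    push Not at hne
    have h1 : (S.biUnion F) = Finset.univ := Finset.eq_univ_of_forall hne
    rw [h1, Finset.card_univ, hcardhom] at hU
    omega
  obtain ⟨l, hl⟩ := hex
  have hstab : ∀ g : G, (∀ a : A, tw l ⟨g * a * g⁻¹, hA.conj_mem a a.2 g⟩ = tw l a) → g ∈ A := by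
    intro g hg
    by_contra hgA
    apply hl
    have hq : (QuotientGroup.mk g : G ⧸ A) ∈ S := by
      refine Finset.mem_erase.mpr ⟨fun h => hgA ?_, Finset.mem_univ _⟩
      exact (QuotientGroup.eq_one_iff g).mp h
    refine Finset.mem_biUnion.mpr ⟨_, hq, Finset.mem_filter.mpr ⟨Finset.mem_univ _, ?_⟩⟩
    refine key3 g _ l ?_ hg
    rw [← QuotientGroup.eq]
    exact (QuotientGroup.out_eq' _).symm
  obtain ⟨h1, h2⟩ := irr_ind_of_stab A (htwirr l) hstab
  have h3 : charDegree (tw l) = d := by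
    apply charDegree_of_one
    rw [htw, hθ1]
    simp
  rw [h3, hidx] at h2
  exact ⟨⟨_, h1⟩, h2⟩

end Twist

section Normalized

variable {X : Type u} [Group X]

/-- The commutator `[Y, U]` with `Y` normal is normalized by `Y`. -/
theorem conj_mem_commutator_left (Y U : Subgroup X) [hY : Y.Normal] {y z : X} (hy : y ∈ Y)
    (hz : z ∈ ⁅Y, U⁆) : y * z * y⁻¹ ∈ ⁅Y, U⁆ := by
  rw [Subgroup.commutator_def] at hz ⊢
  induction hz using Subgroup.closure_induction with
  | mem x hx =>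
    obtain ⟨a, ha, b, hb, rfl⟩ := hx
    have h1 : y * ⁅a, b⁆ * y⁻¹ = ⁅y * a, b⁆ * ⁅y, b⁆⁻¹ := by
      simp only [commutatorElement_def]
      group
    rw [h1]
    refine Subgroup.mul_mem _ (Subgroup.subset_closure ⟨_, Y.mul_mem hy ha, b, hb, rfl⟩)
      (Subgroup.inv_mem _ (Subgroup.subset_closure ⟨y, hy, b, hb, rfl⟩))
  | one =>
    simp
  | mul a b _ _ ha hb =>
    have h1 : y * (a * b) * y⁻¹ = (y * a * y⁻¹) * (y * b * y⁻¹) := by group
    rw [h1]
    exact Subgroup.mul_mem _ ha hb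
  | inv a _ ha =>
    have h1 : y * a⁻¹ * y⁻¹ = (y * a * y⁻¹)⁻¹ := by group
    rw [h1]
    exact Subgroup.inv_mem _ ha

/-- The commutator `[Y, U]` with `Y` normal is normalized by the normalizer of `U`. -/
theorem conj_mem_commutator_right (Y U : Subgroup X) [hY : Y.Normal] {h z : X}
    (hh : h ∈ Subgroup.normalizer (U : Set X)) (hz : z ∈ ⁅Y, U⁆) : h * z * h⁻¹ ∈ ⁅Y, U⁆ := by
  rw [Subgroup.commutator_def] at hz ⊢
  induction hz using Subgroup.closure_induction with
  | mem x hx =>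
    obtain ⟨a, ha, b, hb, rfl⟩ := hx
    have h1 : h * ⁅a, b⁆ * h⁻¹ = ⁅h * a * h⁻¹, h * b * h⁻¹⁆ := by
      simp only [commutatorElement_def]
      group
    rw [h1]
    refine Subgroup.subset_closure ⟨_, hY.conj_mem a ha h, _, ?_, rfl⟩
    exact (Subgroup.mem_normalizer_iff.mp hh b).mp hb
  | one =>
    simp
  | mul a b _ _ ha hb =>
    have h1 : h * (a * b) * h⁻¹ = (h * a * h⁻¹) * (h * b * h⁻¹) := by group
    rw [h1]
    exact Subgroup.mul_mem _ ha hb
  | inv a _ ha =>
    have h1 : h * a⁻¹ * h⁻¹ = (h * a * h⁻¹)⁻¹ := by group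
    rw [h1]
    exact Subgroup.inv_mem _ ha

end Normalized

section Fix

variable {X : Type u} [Group X] [Fintype X]

/-- The facts about `[Y, U]` when all nonlinear degrees of `Y ⋊ U` are divisible by `u`. -/
theorem fix_facts (u : ℕ) [hu : Fact u.Prime] (Y U : Subgroup X) [hY : Y.Normal] [Fintype Y]
    [Fintype U] (hs : CS Y U) (hYu : (Nat.card Y).Coprime u) (hUp : IsPGroup u U)
    (hnl : ∀ θ : IrrCharacter X, charDegree (θ : X → ℂ) ≠ 1 → u ∣ charDegree (θ : X → ℂ)) :
    (∀ y ∈ Y, ∀ y' ∈ Y, y * y' * y⁻¹ * y'⁻¹ ∈ ⁅Y, U⁆) ∧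
    (∀ c ∈ ⁅Y, U⁆, (∀ x ∈ U, c * x = x * c) → c = 1) ∧
    (∀ y ∈ Y, ∃ c ∈ Y, (∀ x ∈ U, c * x = x * c) ∧ ∃ j ∈ ⁅Y, U⁆, y = c * j) := by
  classical
  have hup : u.Prime := hu.out
  set J : Subgroup X := ⁅Y, U⁆ with hJ
  have hJY : J ≤ Y := Subgroup.commutator_le_left Y U
  -- invariant characters are linear
  have hlin : ∀ φ : XS Y U, charDegree (φ.1 : Y → ℂ) = 1 := by
    intro φ
    obtain ⟨ψ, hψ⟩ := exists_ext_complement hs φ
    have h1 : charDegree (ψ : X → ℂ) = charDegree (φ.1 : Y → ℂ) := by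
      apply charDegree_of_one
      have h2 := hψ 1
      rw [one_eq_charDegree (IsIrrCharacter.isCharacter φ.1.2)] at h2
      simpa using h2
    by_contra hne
    have h3 := hnl ψ (by rw [h1]; exact hne)
    rw [h1] at h3
    have h4 := h3.trans (charDegree_dvd_card φ.1.2)
    exact hup.one_lt.ne' (Nat.Coprime.eq_one_of_dvd hYu.symm h4)
  -- invariant characters are trivial on `J`
  have hJtriv : ∀ φ : XS Y U, ∀ z : Y, (z : X) ∈ J → (φ.1 : Y → ℂ) z = 1 := by
    intro φ z hz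
    have hφ1 : (φ.1 : Y → ℂ) 1 = 1 := by
      rw [one_eq_charDegree (IsIrrCharacter.isCharacter φ.1.2), hlin φ]
      simp
    obtain ⟨f, hf⟩ := exists_hom_of_degree_one (IsIrrCharacter.isCharacter φ.1.2) hφ1
    have hle : J ≤ (f.ker).map Y.subtype := by
      rw [hJ, Subgroup.commutator_le]
      intro y hy x hx
      have hy' : x * y⁻¹ * x⁻¹ ∈ Y := hY.conj_mem _ (Y.inv_mem hy) x
      refine ⟨⟨y, hy⟩ * ⟨x * y⁻¹ * x⁻¹, hy'⟩, ?_, ?_⟩
      · show f (⟨y, hy⟩ * ⟨x * y⁻¹ * x⁻¹, hy'⟩) = 1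
        rw [map_mul]
        have h1 : (φ.1 : Y → ℂ) ⟨x * y⁻¹ * x⁻¹, hy'⟩ = (φ.1 : Y → ℂ) ⟨y⁻¹, Y.inv_mem hy⟩ :=
          φ.2 x hx _ _ rfl
        rw [hf, hf] at h1
        have h2 : f ⟨x * y⁻¹ * x⁻¹, hy'⟩ = f ⟨y⁻¹, Y.inv_mem hy⟩ := Units.ext h1
        rw [h2]
        have h3 : (⟨y⁻¹, Y.inv_mem hy⟩ : Y) = (⟨y, hy⟩ : Y)⁻¹ := rfl
        rw [h3, map_inv, mul_inv_cancel]
      · simp [commutatorElement_def, mul_assoc]
    obtain ⟨w, hw, hwz⟩ := hle hz
    have hwz' : w = z := Subtype.ext hwz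
    rw [← hwz', hf]
    have : f w = 1 := hw
    rw [this]
    rfl
  -- `J` is normal in `Y`
  let J' : Subgroup Y := J.subgroupOf Y
  haveI hJ'n : J'.Normal := by
    constructor
    intro n hn g
    exact conj_mem_commutator_left Y U g.2 hn
  -- `Y / J` is abelian
  have hYJ : ∀ a b : Y ⧸ J', a * b = b * a := by
    apply comm_of_all_linear
    intro θ
    let q : Y →* Y ⧸ J' := QuotientGroup.mk' J'
    have hq : Function.Surjective q := QuotientGroup.mk'_surjective J'
    have hφ : IsIrrCharacter Y ((θ : Y ⧸ J' → ℂ) ∘ q) := isIrrCharacter_comp_of_surjective q hq θ.2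
    have hinv : InvS Y U ((θ : Y ⧸ J' → ℂ) ∘ q) := by
      intro s hs' g g' hgg
      show (θ : Y ⧸ J' → ℂ) (q g') = (θ : Y ⧸ J' → ℂ) (q g)
      have h1 : g⁻¹ * g' ∈ J' := by
        show ((g⁻¹ * g' : Y) : X) ∈ J
        push_cast
        rw [hgg]
        have h2 : (g : X)⁻¹ * (s * g * s⁻¹) = ⁅(g : X)⁻¹, s⁆ := by
          simp only [commutatorElement_def]
          group
        rw [h2]
        exact Subgroup.commutator_mem_commutator (Y.inv_mem g.2) hs'
      rw [show q g' = q g from ((QuotientGroup.eq (s := J')).mpr h1).symm]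
    have h1 := hlin ⟨⟨_, hφ⟩, hinv⟩
    change charDegree ((θ : Y ⧸ J' → ℂ) ∘ q) = 1 at h1
    rw [charDegree_comp] at h1
    rw [one_eq_charDegree (IsIrrCharacter.isCharacter θ.2), h1]
    simp
  have part1 : ∀ y ∈ Y, ∀ y' ∈ Y, y * y' * y⁻¹ * y'⁻¹ ∈ J := by
    intro y hy y' hy'
    have h1 := hYJ ((⟨y, hy⟩ : Y) : Y ⧸ J') ((⟨y', hy'⟩ : Y) : Y ⧸ J')
    have h2 : ((⟨y, hy⟩ * ⟨y', hy'⟩ * (⟨y, hy⟩ : Y)⁻¹ * (⟨y', hy'⟩ : Y)⁻¹ : Y) : Y ⧸ J') = 1 := by
      rw [QuotientGroup.mk_mul, QuotientGroup.mk_mul, QuotientGroup.mk_mul, QuotientGroup.mk_inv,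
        QuotientGroup.mk_inv, h1]
      group
    have h3 := (QuotientGroup.eq_one_iff _).mp h2
    exact h3
  -- the decomposition
  have hUnJ : ∀ b ∈ U, ∀ k ∈ J, b * k * b⁻¹ ∈ J := by
    intro b hb k hk
    apply conj_mem_commutator_right Y U _ hk
    exact Subgroup.le_normalizer hb
  have hJcard : ¬ u ∣ Nat.card J := by
    intro h
    have h1 : Nat.card J ∣ Nat.card Y := Subgroup.card_dvd_of_le hJY
    have h2 := h.trans h1
    exact hup.one_lt.ne' (Nat.Coprime.eq_one_of_dvd hYu.symm h2)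
  have part3 : ∀ y ∈ Y, ∃ c ∈ Y, (∀ x ∈ U, c * x = x * c) ∧ ∃ j ∈ J, y = c * j := by
    intro y hy
    obtain ⟨v, hv, hfix⟩ := Cfsg.Agent.Lib.CoprimeHyper.exists_fixed_in_coset U J hUp hJcard hUnJ y
      (fun b hb => by
        have h1 : y⁻¹ * (b * y * b⁻¹) = ⁅y⁻¹, b⁆ := by
          simp only [commutatorElement_def]
          group
        rw [h1]
        exact Subgroup.commutator_mem_commutator (Y.inv_mem hy) hb)
    refine ⟨y * v, Y.mul_mem hy (hJY hv), ?_, v⁻¹, J.inv_mem hv, by group⟩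
    intro x hx
    have h1 := hfix x hx
    calc y * v * x = x * (y * v) * x⁻¹ * x := by rw [h1]
      _ = _ := by group
  -- fixed points
  have hUsolv : Group.IsSolvable U := by
    haveI := hUp.isNilpotent
    infer_instance
  haveI : Fintype (CC Y U) := Fintype.ofFinite _
  have hcount := card_XS_eq hs hUsolv
  -- the restriction map
  have hCY : ∀ c : CC Y U, (c : X) ∈ Y := fun c => c.2.1
  let res : CC Y U →* Y := Subgroup.inclusion (inf_le_left : CC Y U ≤ Y)
  have hφlin : ∀ φ : XS Y U, ∃ f : Y →* ℂˣ, ∀ g, (φ.1 : Y → ℂ) g = f g := by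
    intro φ
    apply exists_hom_of_degree_one (IsIrrCharacter.isCharacter φ.1.2)
    rw [one_eq_charDegree (IsIrrCharacter.isCharacter φ.1.2), hlin φ]
    simp
  have hresirr : ∀ φ : XS Y U, IsIrrCharacter (CC Y U) ((φ.1 : Y → ℂ) ∘ res) := by
    intro φ
    obtain ⟨f, hf⟩ := hφlin φ
    have h1 : (φ.1 : Y → ℂ) ∘ res = fun c => (((f.comp res) c : ℂˣ) : ℂ) := by
      funext c
      exact hf _
    rw [h1]
    exact isIrrCharacter_of_hom _
  let Φ : XS Y U → IrrCharacter (CC Y U) := fun φ => ⟨_, hresirr φ⟩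
  have hΦinj : Function.Injective Φ := by
    intro φ φ' h
    have h1 : (φ.1 : Y → ℂ) ∘ res = (φ'.1 : Y → ℂ) ∘ res := congrArg Subtype.val h
    apply Subtype.ext
    apply Subtype.ext
    funext y
    obtain ⟨c, hc, hcU, j, hj, hyj⟩ := part3 y y.2
    obtain ⟨f, hf⟩ := hφlin φ
    obtain ⟨f', hf'⟩ := hφlin φ'
    have hcC : c ∈ CC Y U := ⟨hc, Subgroup.mem_centralizer_iff.mpr fun x hx => (hcU x hx).symm⟩
    have hjY : j ∈ Y := hJY hj
    have hy : y = ⟨c, hc⟩ * ⟨j, hjY⟩ := Subtype.ext hyj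
    have e1 := hJtriv φ ⟨j, hjY⟩ hj
    have e2 := hJtriv φ' ⟨j, hjY⟩ hj
    have e3 := congrFun h1 ⟨c, hcC⟩
    have e4 : (φ.1 : Y → ℂ) ⟨c, hc⟩ = (φ'.1 : Y → ℂ) ⟨c, hc⟩ := e3
    rw [hy, hf, hf', map_mul, map_mul]
    push_cast
    rw [← hf, ← hf', ← hf, ← hf', e1, e2, e4]
  have hΦsurj : Function.Surjective Φ := by
    have h1 : Nat.card (IrrCharacter (CC Y U)) ≤ Nat.card (XS Y U) := hcount.ge
    haveI : Finite (XS Y U) := inferInstance
    exact (Function.Injective.bijective_of_nat_card_le hΦinj h1).2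
  have part2 : ∀ c ∈ J, (∀ x ∈ U, c * x = x * c) → c = 1 := by
    intro c hcJ hcU
    have hcY := hJY hcJ
    have hcC : c ∈ CC Y U := ⟨hcY, Subgroup.mem_centralizer_iff.mpr fun x hx => (hcU x hx).symm⟩
    have h1 : IsConj (⟨c, hcC⟩ : CC Y U) 1 := by
      apply Cfsg.Agent.Lib.CharAvg.isConj_of_forall_irr
      intro χ
      obtain ⟨φ, rfl⟩ := hΦsurj χ
      show (φ.1 : Y → ℂ) (res ⟨c, hcC⟩) = (φ.1 : Y → ℂ) (res 1)
      have e1 : (φ.1 : Y → ℂ) (res ⟨c, hcC⟩) = 1 := hJtriv φ _ hcJ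
      rw [e1, map_one, one_eq_charDegree (IsIrrCharacter.isCharacter φ.1.2), hlin φ]
      simp
    have h2 := isConj_one_left.mp h1
    -- from `CC`
    exact congrArg Subtype.val h2
  exact ⟨part1, part2, part3⟩

end Fix

section LMeta

variable {G : Type u} [Group G] [Finite G]

/-- The retraction onto a complement. -/
theorem exists_retraction (K P : Subgroup G) [hK : K.Normal] (hsup : K ⊔ P = ⊤)
    (hinf : K ⊓ P = ⊥) : ∃ r : G →* P, (∀ x : P, r x = x) ∧ ∀ g, r g = 1 ↔ g ∈ K := by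
  have hdis : Disjoint K P := disjoint_iff.mpr hinf
  have hP' : P.IsComplement' K := by
    apply Subgroup.isComplement'_of_disjoint_and_mul_eq_univ hdis.symm
    rw [← Subgroup.mul_normal, sup_comm, hsup]
    rfl
  let e' := hP'.QuotientMulEquiv
  let r : G →* P := e'.toMonoidHom.comp (QuotientGroup.mk' K)
  refine ⟨r, ?_, ?_⟩
  · intro x
    show e' ((x : G) : G ⧸ K) = x
    rw [← MulEquiv.eq_symm_apply]
    rfl
  · intro g
    show e' (g : G ⧸ K) = 1 ↔ _
    rw [map_eq_one_iff e' e'.injective, QuotientGroup.eq_one_iff]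

/-- The stabilizers form a family with normal intersection. -/
theorem iInf_stab_normal (K P : Subgroup G) [hK : K.Normal] :
    (⨅ l : K →* ℂˣ, stab K P l).Normal := by
  constructor
  intro x hx g
  rw [Subgroup.mem_iInf] at hx ⊢
  intro l
  rw [mem_stab]
  push_cast
  rw [act_mul, act_mul]
  have h1 : act K (x : G) (act K (g : G) l) = act K (g : G) l := hx _
  rw [h1, ← act_mul, mul_inv_cancel, act_one]

/-- **The metabelian lemma**: `L` normal in `G`, of index prime to `u`, with a normal `u`-complement,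
all nonlinear degrees of `L` divisible by `u` and only one degree on `Irr(G | L')`: then `L'` is
abelian. -/
theorem l_metabelian (L : Subgroup G) [hL : L.Normal] {u k : ℕ} (hu : u.Prime)
    (hidx : ¬ u ∣ L.index) (Y₀ : Subgroup L) [hY₀ : Y₀.Normal] (hYc : (Nat.card Y₀).Coprime u)
    (hYi : Y₀.index = u ^ k)
    (hnl : ∀ θ : IrrCharacter L, charDegree (θ : L → ℂ) ≠ 1 → u ∣ charDegree (θ : L → ℂ))
    (D : ℕ) (hD : ∀ χ : IrrCharacter G, (¬ ∀ x ∈ ⁅L, L⁆, (χ : G → ℂ) x = (χ : G → ℂ) 1) →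
      charDegree (χ : G → ℂ) = D) :
    ∀ a ∈ ⁅L, L⁆, ∀ b ∈ ⁅L, L⁆, a * b = b * a := by
  classical
  haveI : Fact u.Prime := ⟨hu⟩
  haveI : Fintype G := Fintype.ofFinite G
  haveI : Fintype L := Fintype.ofFinite L
  haveI : Fintype Y₀ := Fintype.ofFinite Y₀
  obtain ⟨U₁, r₁, hr₁, hker₁, hU₁p, hdec₁, hU₁card⟩ := exists_complement_data Y₀ hu hYc hYi
  haveI : Fintype U₁ := Fintype.ofFinite U₁
  have hs : CS Y₀ U₁ := by
    refine ⟨?_, ?_⟩
    · rw [eq_top_iff]
      intro g _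
      obtain ⟨c, hc, x, hx, rfl⟩ := hdec₁ g
      exact Subgroup.mul_mem_sup hc hx
    · rw [hU₁card]
      exact Nat.Coprime.pow_right k hYc
  obtain ⟨f1, f2, f3⟩ := fix_facts u Y₀ U₁ hs hYc hU₁p hnl
  -- in `G`
  let Y : Subgroup G := Y₀.map L.subtype
  let U : Subgroup G := U₁.map L.subtype
  let J : Subgroup G := ⁅Y, U⁆
  have hJmap : J = (⁅Y₀, U₁⁆ : Subgroup L).map L.subtype := (Subgroup.map_commutator _ _ _).symm
  have hYL : Y ≤ L := Subgroup.map_subtype_le Y₀
  have hUL : U ≤ L := Subgroup.map_subtype_le U₁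
  have hmemY : ∀ z : L, (z : G) ∈ Y ↔ z ∈ Y₀ := by
    intro z
    constructor
    · rintro ⟨w, hw, hwz⟩
      have : w = z := Subtype.ext hwz
      rwa [← this]
    · intro hz
      exact ⟨z, hz, rfl⟩
  have hmemU : ∀ z : L, (z : G) ∈ U ↔ z ∈ U₁ := by
    intro z
    constructor
    · rintro ⟨w, hw, hwz⟩
      have : w = z := Subtype.ext hwz
      rwa [← this]
    · intro hz
      exact ⟨z, hz, rfl⟩
  -- `Y` is normal in `G`
  have hYchar : ∀ z : L, z ∈ Y₀ ↔ z ^ Nat.card Y₀ = 1 := by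
    intro z
    constructor
    · intro hz
      have h1 : (⟨z, hz⟩ : Y₀) ^ Nat.card Y₀ = 1 := pow_card_eq_one'
      exact congrArg Subtype.val h1
    · intro hz
      have h1 : (z : L ⧸ Y₀) ^ Nat.card Y₀ = 1 := by
        rw [← QuotientGroup.mk_pow, hz]
        rfl
      have h2 : (z : L ⧸ Y₀) ^ u ^ k = 1 := by
        rw [← hYi]
        exact pow_card_eq_one'
      have h3 : (u ^ k).gcd (Nat.card Y₀) = 1 := (Nat.Coprime.pow_right k hYc).symm
      have h4 := pow_gcd_eq_one.mpr ⟨h2, h1⟩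
      rw [h3, pow_one] at h4
      exact (QuotientGroup.eq_one_iff z).mp h4
  haveI hYn : Y.Normal := by
    constructor
    rintro _ ⟨z, hz, rfl⟩ g
    have hm : g * (z : G) * g⁻¹ ∈ L := hL.conj_mem _ z.2 g
    refine ⟨⟨_, hm⟩, (hYchar _).mpr ?_, rfl⟩
    apply Subtype.ext
    have h1 := (hYchar z).mp hz
    have h2 : (z : G) ^ Nat.card Y₀ = 1 := congrArg Subtype.val h1
    show (g * (z : G) * g⁻¹) ^ Nat.card Y₀ = 1
    rw [conj_pow, h2]
    simp
  have hYU : Y ⊓ U = ⊥ := by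
    rw [eq_bot_iff]
    rintro z ⟨⟨w, hw, rfl⟩, hz⟩
    have h1 : w ∈ U₁ := (hmemU w).mp hz
    have h2 := eq_one_of_mem hs hw h1
    rw [h2]
    exact Subgroup.one_mem _
  -- the normalizer and the Frattini argument
  let H : Subgroup G := Subgroup.normalizer (U : Set G)
  have hUH : U ≤ H := Subgroup.le_normalizer
  have hU₁idx : U₁.index = Nat.card Y₀ := (isCompl hs).index_eq_card
  have hU₁ndvd : ¬ u ∣ U₁.index := by
    rw [hU₁idx]
    intro h
    exact hu.one_lt.ne' (Nat.Coprime.eq_one_of_dvd hYc.symm h)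
  let P₁ : Sylow u L := hU₁p.toSylow hU₁ndvd
  have hFr : H ⊔ L = ⊤ := by
    have h1 := Sylow.normalizer_sup_eq_top P₁
    have h2 : ((P₁ : Subgroup L).map L.subtype) = U := by
      rw [IsPGroup.toSylow_coe]
    rw [h2] at h1
    exact h1
  have hGdec : ∀ g : G, ∃ y ∈ Y, ∃ h ∈ H, g = y * h := by
    intro g
    have hg : g ∈ H ⊔ L := by
      rw [hFr]
      trivial
    obtain ⟨h, hh, l, hl, rfl⟩ := Subgroup.mem_sup_of_normal_right.mp hg
    obtain ⟨c, hc, x, hx, hcx⟩ := hdec₁ ⟨l, hl⟩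
    have hl' : l = (c : G) * x := congrArg Subtype.val hcx
    have hcY : (c : G) ∈ Y := ⟨c, hc, rfl⟩
    have hxU : (x : G) ∈ U := ⟨x, hx, rfl⟩
    refine ⟨h * c * h⁻¹, hYn.conj_mem _ hcY h, h * x, H.mul_mem hh (hUH hxU), ?_⟩
    rw [hl']
    group
  have hJn : J.Normal := by
    constructor
    intro z hz g
    obtain ⟨y, hy, h, hh, rfl⟩ := hGdec g
    have h1 : (y * h) * z * (y * h)⁻¹ = y * (h * z * h⁻¹) * y⁻¹ := by group
    rw [h1]
    exact conj_mem_commutator_left Y U hy (conj_mem_commutator_right Y U hh hz)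
  haveI := hJn
  have hJY : J ≤ Y := Subgroup.commutator_le_left Y U
  have hJH : J ⊔ H = ⊤ := by
    rw [eq_top_iff]
    intro g _
    obtain ⟨y, ⟨y₀, hy₀, rfl⟩, h, hh, rfl⟩ := hGdec g
    obtain ⟨c, hc, hcU, j, hj, hyj⟩ := f3 y₀ hy₀
    have hcz : ∀ z ∈ U, (c : G) * z * (c : G)⁻¹ = z := by
      rintro _ ⟨x', hx', rfl⟩
      have h1 := hcU x' hx'
      have h3 : (c : G) * x' = x' * c := congrArg Subtype.val h1
      show (c : G) * x' * (c : G)⁻¹ = x'
      rw [h3]
      group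
    have hcG : (c : G) ∈ H := by
      rw [Subgroup.mem_normalizer_iff]
      intro x
      constructor
      · intro hx
        rwa [hcz x hx]
      · intro hx
        have h1 := hcz _ hx
        have h2 : (c : G) * x * (c : G)⁻¹ = x := by
          have h3 : (c : G) * ((c : G) * x * (c : G)⁻¹) * (c : G)⁻¹ * c
              = ((c : G) * x * (c : G)⁻¹) * c := by rw [h1]
          have h4 : (c : G) * ((c : G) * x * (c : G)⁻¹) = (c : G) * x := by
            have h5 : (c : G) * ((c : G) * x * (c : G)⁻¹) * (c : G)⁻¹ * c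
                = (c : G) * ((c : G) * x * (c : G)⁻¹) := by group
            have h6 : ((c : G) * x * (c : G)⁻¹) * c = (c : G) * x := by group
            rw [← h5, h3, h6]
          exact mul_left_cancel h4
        rwa [h2] at hx
    have hcY : (c : G) ∈ Y := ⟨c, hc, rfl⟩
    have hjJ : (j : G) ∈ J := by
      rw [hJmap]
      exact ⟨j, hj, rfl⟩
    have hy : (y₀ : G) = c * j := congrArg Subtype.val hyj
    have h1 : (y₀ : G) * h = ((c : G) * j * (c : G)⁻¹) * ((c : G) * h) := by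
      rw [hy]
      group
    show Subgroup.subtype L y₀ * h ∈ J ⊔ H
    show (y₀ : G) * h ∈ J ⊔ H
    rw [h1]
    exact Subgroup.mul_mem_sup (conj_mem_commutator_left Y U hcY hjJ) (H.mul_mem hcG hh)
  have hcomm_U_of : ∀ z ∈ Y, z ∈ H → ∀ x ∈ U, z * x = x * z := by
    intro z hzY hzH x hx
    have h1 : z * x * z⁻¹ ∈ U := (Subgroup.mem_normalizer_iff.mp hzH x).mp hx
    have h2 : z * x * z⁻¹ * x⁻¹ ∈ U := U.mul_mem h1 (U.inv_mem hx)
    have h3 : z * x * z⁻¹ * x⁻¹ ∈ Y := by
      have h : z * x * z⁻¹ * x⁻¹ = z * (x * z⁻¹ * x⁻¹) := by group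
      rw [h]
      exact Y.mul_mem hzY (hYn.conj_mem _ (Y.inv_mem hzY) x)
    have h4 : z * x * z⁻¹ * x⁻¹ ∈ Y ⊓ U := ⟨h3, h2⟩
    rw [hYU] at h4
    have h5 : z * x * z⁻¹ * x⁻¹ = 1 := h4
    calc z * x = z * x * z⁻¹ * x⁻¹ * (x * z) := by group
      _ = x * z := by rw [h5, one_mul]
  have hinf : J ⊓ H = ⊥ := by
    rw [eq_bot_iff]
    rintro z ⟨hzJ, hzH⟩
    have hzJ' := hzJ
    rw [hJmap] at hzJ'
    obtain ⟨z', hz', rfl⟩ := hzJ'
    have h1 := hcomm_U_of _ (hJY hzJ) hzH
    have h2 : z' = 1 := f2 z' hz' (fun x hx => Subtype.ext (h1 x ⟨x, hx, rfl⟩))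
    rw [h2]
    exact Subgroup.one_mem _
  have hJL : J ≤ ⁅L, L⁆ := Subgroup.commutator_mono hYL hUL
  have hJD : ∀ χ : IrrCharacter G, (¬ ∀ x ∈ J, (χ : G → ℂ) x = (χ : G → ℂ) 1) →
      charDegree (χ : G → ℂ) = D := fun χ h => hD χ (fun h2 => h (fun x hx => h2 x (hJL hx)))
  have hJab : ∀ a ∈ J, ∀ b ∈ J, a * b = b * a := abelian_of_complement J H hJH hinf D hJD
  obtain ⟨r, hr, hker⟩ := exists_retraction J H hJH hinf
  have hr_surj : Function.Surjective r := r_surj H r hr
  have hkey0 : ∀ w : J →* ℂˣ, w ≠ 1 → ((stab J H w).index = D ∧ D ≠ 0 ∧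
      ∀ a ∈ stab J H w, ∀ b ∈ stab J H w, a * b = b * a) := by
    intro w hw
    have hfor : ∀ β : IrrCharacter (stab J H w),
        (stab J H w).index * charDegree (β : stab J H w → ℂ) = D := by
      intro β
      obtain ⟨χ, h1, h2⟩ := exists_char_of_stab J H r hr hker w β
      rw [← h1]
      exact hJD χ (fun h3 => hw (h2 h3))
    have hone : charDegree (fun _ : stab J H w => (1 : ℂ)) = 1 := charDegree_of_one (by simp)
    have hidx' : (stab J H w).index = D := by
      have := hfor ⟨fun _ => 1, isIrrCharacter_one⟩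
      change (stab J H w).index * charDegree (fun _ : stab J H w => (1 : ℂ)) = D at this
      rwa [hone, mul_one] at this
    have hD0 : D ≠ 0 := by
      rw [← hidx']
      exact Subgroup.index_ne_zero_of_finite
    refine ⟨hidx', hD0, ?_⟩
    intro a ha b hb
    have h1 := comm_of_all_linear (A := stab J H w) (fun γ => by
      have h2 := hfor γ
      rw [hidx'] at h2
      have h3 : charDegree (γ : stab J H w → ℂ) = 1 :=
        Nat.eq_of_mul_eq_mul_left (Nat.pos_of_ne_zero hD0) (by rw [h2, mul_one])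
      rw [one_eq_charDegree (IsIrrCharacter.isCharacter γ.2), h3]
      simp) ⟨a, ha⟩ ⟨b, hb⟩
    exact congrArg Subtype.val h1
  have hUp : IsPGroup u U := hU₁p.map L.subtype
  haveI hUnil : Group.IsNilpotent U := hUp.isNilpotent
  have hUcard : Nat.card U = u ^ k := by
    rw [← hU₁card]
    exact Subgroup.card_map_of_injective L.subtype_injective
  let Ub : Subgroup H := U.subgroupOf H
  haveI hUbn : Ub.Normal := Subgroup.normal_in_normalizer
  haveI : Fintype H := Fintype.ofFinite H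
  haveI : Fintype Ub := Fintype.ofFinite Ub
  haveI : Fintype U := Fintype.ofFinite U
  have hUbidx : ¬ u ∣ Ub.index := by
    have h1 : U.relIndex H * H.index = U.index := Subgroup.relIndex_mul_index hUH
    have h2 : U.index = U₁.index * L.index := Subgroup.index_map_subtype U₁
    intro h3
    have h4 : u ∣ U.index := by
      rw [← h1]
      exact Dvd.dvd.mul_right h3 _
    rw [h2] at h4
    exact (hu.dvd_mul.mp h4).elim hU₁ndvd hidx
  set f := u ^ D.factorization u with hf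
  have hTwoU : Two U f := by
    intro γ
    by_cases hγ1 : charDegree (γ : U → ℂ) = 1
    · exact Or.inl hγ1
    right
    let γ' : Ub → ℂ := (γ : U → ℂ) ∘ (Subgroup.subgroupOfEquivOfLe hUH).toMonoidHom
    have hγ' : IsIrrCharacter Ub γ' := isIrrCharacter_comp_of_surjective _
      (MulEquiv.surjective _) γ.2
    have hγ'deg : charDegree γ' = charDegree (γ : U → ℂ) := charDegree_comp _ _
    obtain ⟨ξ, hξ⟩ := Cfsg.Agent.Lib.GlaubAbove.exists_irr_over Ub ⟨γ', hγ'⟩
    have hdeg := Cfsg.Agent.Lib.DegreeDiv.degree_div Ub ξ.2 hγ' hξ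
      (one_eq_charDegree (IsIrrCharacter.isCharacter ξ.2))
      (one_eq_charDegree (IsIrrCharacter.isCharacter hγ'))
    have hNT : ¬ ∀ x ∈ ⁅L, L⁆, ((ξ : H → ℂ) ∘ r) x = ((ξ : H → ℂ) ∘ r) 1 := by
      intro hall
      apply hγ1
      have h1 : ∀ y ∈ commutator U, (γ : U → ℂ) y = (γ : U → ℂ) 1 := by
        intro y hy
        have hyG : (y : G) ∈ ⁅U, U⁆ := by
          rw [← Subgroup.map_subtype_commutator]
          exact ⟨y, hy, rfl⟩
        have hyL : (y : G) ∈ ⁅L, L⁆ := Subgroup.commutator_mono hUL hUL hyG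
        have h2 := hall _ hyL
        have hr' : r (y : G) = ⟨y, hUH y.2⟩ := hr ⟨y, hUH y.2⟩
        simp only [Function.comp_apply, hr', map_one] at h2
        have hmem : (⟨y, hUH y.2⟩ : H) ∈ Ub := y.2
        have h3 := Cfsg.Agent.Lib.PDegKernel71.ker_of_constituent
          (isCharacter_restrict Ub (IsIrrCharacter.isCharacter ξ.2)) hγ' hξ
          (y := ⟨⟨y, hUH y.2⟩, hmem⟩) h2
        exact h3
      obtain ⟨χ', h2, h3⟩ := exists_quotient_irr (commutator U) γ.2 h1
      have h4 : χ' 1 = 1 := Cfsg.Agent.Lib.CharCodegP.irr_one_of_comm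
        (fun a b => mul_comm (a : Abelianization U) b) h2
      have h5 := h3 1
      have h6 : (γ : U → ℂ) 1 = 1 := by
        rw [← h5]
        exact h4
      exact charDegree_of_one (by simpa using h6)
    have hξD : charDegree (ξ : H → ℂ) = D := by
      have h1 := hD ⟨_, isIrrCharacter_comp_of_surjective r hr_surj ξ.2⟩ hNT
      change charDegree ((ξ : H → ℂ) ∘ r) = D at h1
      rwa [charDegree_comp] at h1
    -- the `u`-part
    rw [hξD, hγ'deg] at hdeg
    have hγk : charDegree (γ : U → ℂ) ∣ u ^ k := by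
      rw [← hUcard]
      exact charDegree_dvd_card γ.2
    obtain ⟨j, -, hj⟩ := (Nat.dvd_prime_pow hu).mp hγk
    have hD0 : D ≠ 0 := by
      rw [← hξD]
      exact charDegree_ne_zero ξ.2
    obtain ⟨hd1, hd2⟩ := hdeg
    rw [hj] at hd1 hd2
    obtain ⟨t, ht⟩ := hd1
    have hupos : 0 < u ^ j := pow_pos hu.pos j
    have ht' : D / u ^ j = t := by
      rw [ht]
      exact Nat.mul_div_cancel_left _ hupos
    rw [ht'] at hd2
    have hut : ¬ u ∣ t := fun h => hUbidx (h.trans hd2)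
    have ht0 : t ≠ 0 := by
      rintro rfl
      exact hD0 (by simpa using ht)
    have hfac : D.factorization u = j := by
      rw [ht, Nat.factorization_mul (pow_ne_zero j hu.ne_zero) ht0, Nat.Prime.factorization_pow hu]
      simp [Nat.factorization_eq_zero_of_not_dvd hut]
    rw [hj, hf, hfac]
  have hfam : ∀ w : J →* ℂˣ, stab J U w = ⊤ ∨ ((∀ a ∈ stab J U w, ∀ b ∈ stab J U w,
      a * b = b * a) ∧ (stab J U w).index ≤ f) := by
    intro w
    by_cases hw : w = 1
    · left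
      rw [eq_top_iff]
      intro x _
      rw [mem_stab, hw]
      ext k
      simp [act]
    · right
      obtain ⟨hAi, hD0, hAab⟩ := hkey0 w hw
      let e : U →* H := Subgroup.inclusion hUH
      have hAe : stab J U w = (stab J H w).comap e := by
        ext x
        rfl
      refine ⟨?_, ?_⟩
      · intro a ha b hb
        have h1 : e a ∈ stab J H w := ha
        have h2 : e b ∈ stab J H w := hb
        have h3 := hAab _ h1 _ h2
        exact Subtype.ext (show ((e a * e b : H) : G) = ((e b * e a : H) : G) by rw [h3])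
      · have h1 : (stab J U w).index = (stab J H w).relIndex Ub := by
          rw [hAe, Subgroup.index_comap]
          congr 1
          exact Subgroup.inclusion_range hUH
        have h2 : (stab J H w).relIndex Ub * Ub.index = (stab J H w ⊓ Ub).index := by
          rw [← Subgroup.inf_relIndex_right, Subgroup.relIndex_mul_index inf_le_right]
        have h3 : Ub.relIndex (stab J H w) * (stab J H w).index = (stab J H w ⊓ Ub).index := by
          rw [← Subgroup.inf_relIndex_left, Subgroup.relIndex_mul_index inf_le_left]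
        have h4 : Ub.relIndex (stab J H w) ∣ Ub.index := Subgroup.relIndex_dvd_index_of_normal _ _
        set x := (stab J U w).index with hx
        have hxU : x ∣ u ^ k := by
          rw [← hUcard]
          exact Subgroup.index_dvd_card _
        obtain ⟨i, -, hi⟩ := (Nat.dvd_prime_pow hu).mp hxU
        have h5 : x * Ub.index = Ub.relIndex (stab J H w) * D := by
          rw [h1, h2, ← h3, hAi]
        have h6 : x ∣ Ub.relIndex (stab J H w) * D := ⟨_, h5.symm⟩
        have h7 : x.Coprime (Ub.relIndex (stab J H w)) := by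
          rw [hi]
          apply Nat.Coprime.pow_left
          rw [Nat.Prime.coprime_iff_not_dvd hu]
          exact fun h => hUbidx (h.trans h4)
        have h8 : x ∣ D := h7.dvd_of_dvd_mul_left h6
        rw [hi] at h8 ⊢
        have h9 : i ≤ D.factorization u := (hu.pow_dvd_iff_le_factorization hD0).mp h8
        exact Nat.pow_le_pow_right hu.pos h9
  haveI hCn := iInf_stab_normal J U
  have hcomC := comm_le_of_stabs hTwoU (fun w => stab J U w) hfam (⨅ w : J →* ℂˣ, stab J U w)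
    (fun x => Subgroup.mem_iInf)
  have hJcomm : commutator J = ⊥ := by
    rw [eq_bot_iff, commutator_def, Subgroup.commutator_le]
    intro a _ b _
    rw [Subgroup.mem_bot, commutatorElement_eq_one_iff_mul_comm]
    exact Subtype.ext (hJab a a.2 b b.2)
  have hcen : ∀ v ∈ ⁅U, U⁆, ∀ j ∈ J, v * j = j * v := by
    intro v hv k₀ hk₀
    rw [← Subgroup.map_subtype_commutator] at hv
    obtain ⟨v', hv', rfl⟩ := hv
    have hv'C := Subgroup.mem_iInf.mp (hcomC hv')
    let w : J := cj J (v' : G) ⟨k₀, hk₀⟩ * (⟨k₀, hk₀⟩ : J)⁻¹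
    have hw : w ∈ commutator J := by
      apply mem_commutator_of_hom
      intro l
      have h1 : act J (v' : G) l = l := hv'C l
      have h2 : l (cj J (v' : G) ⟨k₀, hk₀⟩) = l ⟨k₀, hk₀⟩ := by
        have := congrArg (fun f : J →* ℂˣ => f ⟨k₀, hk₀⟩) h1
        exact this
      show l (cj J (v' : G) ⟨k₀, hk₀⟩ * (⟨k₀, hk₀⟩ : J)⁻¹) = 1
      rw [map_mul, map_inv, h2, mul_inv_cancel]
    rw [hJcomm] at hw
    have h3 : w = 1 := hw
    have h4 : ((cj J (v' : G) ⟨k₀, hk₀⟩ : J) : G) * k₀⁻¹ = 1 := congrArg Subtype.val h3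
    rw [cj_apply] at h4
    have h5 : (v' : G) * k₀ * (v' : G)⁻¹ = k₀ := mul_inv_eq_one.mp h4
    show (v' : G) * k₀ = k₀ * (v' : G)
    exact mul_inv_eq_iff_eq_mul.mp h5
  have hUU := comm_map U (comm_comm_of_two hTwoU)
  have hTab : ∀ a ∈ J ⊔ ⁅U, U⁆, ∀ b ∈ J ⊔ ⁅U, U⁆, a * b = b * a := by
    intro a ha b hb
    obtain ⟨j, hj, v, hv, rfl⟩ := Subgroup.mem_sup_of_normal_left.mp ha
    obtain ⟨j', hj', v', hv', rfl⟩ := Subgroup.mem_sup_of_normal_left.mp hb
    exact commute_mul_of (hcen v hv j hj).symm (hcen v' hv' j hj).symm (hJab j hj j' hj')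
      (hcen v hv j' hj').symm (hcen v' hv' j' hj').symm (hUU v hv v' hv')
  have hLle : ⁅L, L⁆ ≤ J ⊔ ⁅U, U⁆ := by
    rw [Subgroup.commutator_le]
    intro a ha b hb
    obtain ⟨y, hy, x, hx, hax⟩ := hdec₁ ⟨a, ha⟩
    obtain ⟨y', hy', x', hx', hbx⟩ := hdec₁ ⟨b, hb⟩
    have ha' : a = (y : G) * x := congrArg Subtype.val hax
    have hb' : b = (y' : G) * x' := congrArg Subtype.val hbx
    let π := QuotientGroup.mk' J
    have hπ : ∀ s t : G, s * t * s⁻¹ * t⁻¹ ∈ J → π s * π t = π t * π s := by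
      intro s t h
      have h1 : π (s * t * s⁻¹ * t⁻¹) = 1 := (QuotientGroup.eq_one_iff _).mpr h
      simp only [map_mul, map_inv] at h1
      have h2 := mul_inv_eq_one.mp h1
      exact mul_inv_eq_iff_eq_mul.mp h2
    have hYUc : ∀ s ∈ Y, ∀ t ∈ U, s * t * s⁻¹ * t⁻¹ ∈ J := fun s hs t ht => by
      rw [← commutatorElement_def]
      exact Subgroup.commutator_mem_commutator hs ht
    have hYYc : ∀ s ∈ Y₀, ∀ t ∈ Y₀, (s : G) * t * (s : G)⁻¹ * (t : G)⁻¹ ∈ J := by
      intro s hs t ht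
      rw [hJmap]
      exact ⟨_, f1 s hs t ht, rfl⟩
    have hyG : (y : G) ∈ Y := ⟨y, hy, rfl⟩
    have hy'G : (y' : G) ∈ Y := ⟨y', hy', rfl⟩
    have hxG : (x : G) ∈ U := ⟨x, hx, rfl⟩
    have hx'G : (x' : G) ∈ U := ⟨x', hx', rfl⟩
    have h := commutator_mul_of (hπ _ _ (hYUc _ hyG _ hxG)) (hπ _ _ (hYUc _ hyG _ hx'G))
      (hπ _ _ (hYYc _ hy _ hy')) (hπ _ _ (hYUc _ hy'G _ hxG)) (hπ _ _ (hYUc _ hy'G _ hx'G))
    have h1 : π (((y : G) * x) * ((y' : G) * x') * ((y : G) * x)⁻¹ * ((y' : G) * x')⁻¹ *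
        ((x : G) * x' * (x : G)⁻¹ * (x' : G)⁻¹)⁻¹) = 1 := by
      rw [map_mul, map_inv]
      simp only [map_mul, map_inv]
      rw [h]
      exact mul_inv_cancel _
    have h2 := (QuotientGroup.eq_one_iff _).mp h1
    rw [commutatorElement_def, ha', hb']
    have h3 : (x : G) * x' * (x : G)⁻¹ * (x' : G)⁻¹ ∈ ⁅U, U⁆ := by
      rw [← commutatorElement_def]
      exact Subgroup.commutator_mem_commutator hxG hx'G
    have h4 := Subgroup.mul_mem_sup h2 h3
    rwa [inv_mul_cancel_right] at h4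
  intro a ha b hb
  exact hTab a (hLle ha) b (hLle hb)

end LMeta

section FrobCase

variable {G : Type u} [Group G] [Finite G]

/-- If all constituents of the restriction of a character to `A` are linear, then the commutator
subgroup of `A` lies in the kernel. -/
theorem trivial_of_constituents (A : Subgroup G) [Fintype A] {χ : G → ℂ} (hχ : IsCharacter G χ)
    (h : ∀ θ : IrrCharacter A, classInner (fun n : A => χ n) (θ : A → ℂ) ≠ 0 →
      charDegree (θ : A → ℂ) = 1) :
    ∀ x ∈ ⁅A, A⁆, χ x = χ 1 := by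
  classical
  haveI : Fintype G := Fintype.ofFinite G
  have hres := isCharacter_restrict A hχ
  obtain ⟨m, hm⟩ := exists_nat_decomp hres
  have hval : ∀ y : A, χ y = ∑ i, (m i : ℂ) * (i : A → ℂ) y := by
    intro y
    have := congrFun hm y
    simpa [Finset.sum_apply] using this
  have hlin : ∀ θ : IrrCharacter A, m θ ≠ 0 → (θ : A → ℂ) 1 = 1 := by
    intro θ hθ
    have h1 : classInner (fun n : A => χ n) (θ : A → ℂ) = m θ := by
      rw [hm]
      exact classInner_nat_decomp m _ θ.2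
    rw [one_eq_charDegree (IsIrrCharacter.isCharacter θ.2), h θ (by rw [h1]; exact_mod_cast hθ)]
    simp
  have hker : commutator A ≤ charKer hres := by
    rw [commutator_def, Subgroup.commutator_le]
    intro a _ b _
    show χ ((a * b * a⁻¹ * b⁻¹ : A) : G) = χ ((1 : A) : G)
    rw [hval, hval]
    refine Finset.sum_congr rfl fun i _ => ?_
    by_cases hi : m i = 0
    · simp [hi]
    · congr 1
      obtain ⟨f, hf⟩ := exists_hom_of_degree_one
        (IsIrrCharacter.isCharacter i.2) (hlin i hi)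
      rw [hf, hf]
      have h3 : f (a * b * a⁻¹ * b⁻¹) = 1 := by
        simp only [map_mul, map_inv]
        rw [mul_comm (f a) (f b)]
        group
      rw [h3, map_one]
  intro x hx
  rw [← Subgroup.map_subtype_commutator] at hx
  obtain ⟨x', hx', rfl⟩ := hx
  exact hker hx'

/-- Derived length from a metabelian normal subgroup containing the commutator subgroup. -/
theorem derived_three_of_abelian (L : Subgroup G) (h : commutator G ≤ L)
    (hab : ∀ a ∈ ⁅L, L⁆, ∀ b ∈ ⁅L, L⁆, a * b = b * a) : derivedSeries G 3 = ⊥ := by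
  have h1 : derivedSeries G 1 ≤ L := by
    rw [derivedSeries_one]
    exact h
  have h2 : derivedSeries G 2 ≤ ⁅L, L⁆ := by
    rw [derivedSeries_succ]
    exact Subgroup.commutator_mono h1 h1
  rw [derivedSeries_succ, eq_bot_iff, Subgroup.commutator_le]
  intro a ha b hb
  rw [Subgroup.mem_bot, commutatorElement_eq_one_iff_mul_comm]
  exact hab a (h2 ha) b (h2 hb)

/-- **The Frobenius case.** -/
theorem frob_case {a b : ℕ} (hTh : Three G a b) (N : Subgroup G) [hN : N.Normal]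
    (hab : ∀ a ∈ commutator (G ⧸ N), ∀ b ∈ commutator (G ⧸ N), a * b = b * a)
    (hU : ∀ L : Subgroup (G ⧸ N), L.Normal → L ≠ ⊥ → commutator (G ⧸ N) ≤ L)
    (hne : commutator (G ⧸ N) ≠ ⊥) (htop : commutator (G ⧸ N) ≠ ⊤)
    (hfree : ∀ h, h ∉ commutator (G ⧸ N) → ∀ y ∈ commutator (G ⧸ N),
      ∃ z ∈ commutator (G ⧸ N), h * z * h⁻¹ * z⁻¹ = y) :
    derivedSeries G 3 = ⊥ := by
  classical
  haveI : Fintype G := Fintype.ofFinite G
  set M := commutator (G ⧸ N) with hMdef
  have hMn : M.Normal := inferInstance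
  let q : G →* G ⧸ N := QuotientGroup.mk' N
  have hq : Function.Surjective q := QuotientGroup.mk'_surjective N
  let A : Subgroup G := M.comap q
  haveI hAn : A.Normal := hMn.comap q
  haveI : Fintype A := Fintype.ofFinite A
  set m := M.index with hm
  have hidx : A.index = m := by
    rw [Subgroup.index_comap_of_surjective M hq]
  have hm1 : m ≠ 1 := by
    intro h
    exact htop (Subgroup.index_eq_one.mp h)
  have hm0 : m ≠ 0 := Subgroup.index_ne_zero_of_finite
  let π : A →* M := q.subgroupComap M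
  have hπ : Function.Surjective π := q.subgroupComap_surjective_of_surjective M hq
  let c : G → M →* M := fun x => (MulAut.conjNormal (q x)).toMonoidHom
  have hc : ∀ (x : G) (a : A), π ⟨x * a * x⁻¹, hAn.conj_mem a a.2 x⟩ = c x (π a) := by
    intro x a
    apply Subtype.ext
    show q (x * a * x⁻¹) = q x * q a * (q x)⁻¹
    simp
  have hfree' : ∀ x, x ∉ A → ∀ y : M, ∃ z : M, c x z * z⁻¹ = y := by
    intro x hx y
    obtain ⟨z, hz, hz'⟩ := hfree (q x) hx y y.2
    refine ⟨⟨z, hz⟩, Subtype.ext ?_⟩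
    exact hz'
  have hdvd := index_dvd hab hU hfree
  have hM1 : 1 < Nat.card M := by
    haveI : Nontrivial M := (Subgroup.nontrivial_iff_ne_bot M).mpr hne
    exact Finite.one_lt_card
  rw [← hMdef, ← hm] at hdvd
  have hcop : (Nat.card M).Coprime m := by
    obtain ⟨t, ht⟩ := hdvd
    have h1 : Nat.card M = m * t + 1 := by omega
    rw [h1]
    simp
  have hsize : m ≤ Nat.card M := by
    have h1 : m ≤ Nat.card M - 1 := Nat.le_of_dvd (by omega) hdvd
    omega
  have hQ : ∀ x y : M, x * y = y * x := fun x y => Subtype.ext (hab x x.2 y y.2)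
  have htw : ∀ θ : IrrCharacter A, (charDegree (θ : A → ℂ)).Coprime (Nat.card M) →
      ∃ χ : IrrCharacter G, charDegree (χ : G → ℂ) = m * charDegree (θ : A → ℂ) :=
    fun θ hθ => exists_ind_twist A hidx hQ π hπ c hc hfree' hsize θ.2 hθ
  have hone : charDegree (fun _ : A => (1 : ℂ)) = 1 := charDegree_of_one (by simp)
  -- `m` is a degree
  obtain ⟨χm, hχm⟩ : ∃ χ : IrrCharacter G, charDegree (χ : G → ℂ) = m := by
    obtain ⟨χ, hχ⟩ := htw ⟨fun _ => 1, isIrrCharacter_one⟩ (by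
      change (charDegree (fun _ : A => (1 : ℂ))).Coprime _
      rw [hone]
      exact Nat.coprime_one_left _)
    refine ⟨χ, ?_⟩
    rw [hχ]
    change m * charDegree (fun _ : A => (1 : ℂ)) = m
    rw [hone, mul_one]
  -- `M` is a `u`-group
  obtain ⟨u, hu, hudvd⟩ := Nat.exists_prime_and_dvd hM1.ne'
  haveI : Fact u.Prime := ⟨hu⟩
  obtain ⟨x, hx⟩ := exists_prime_orderOf_dvd_card' u hudvd
  let S : Subgroup (G ⧸ N) :=
    { carrier := {y | y ∈ M ∧ y ^ u = 1}
      mul_mem' := by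
        rintro y z ⟨hy, hy'⟩ ⟨hz, hz'⟩
        refine ⟨M.mul_mem hy hz, ?_⟩
        have h1 : Commute y z := hab y hy z hz
        rw [h1.mul_pow, hy', hz', one_mul]
      one_mem' := ⟨M.one_mem, one_pow _⟩
      inv_mem' := by
        rintro y ⟨hy, hy'⟩
        exact ⟨M.inv_mem hy, by rw [inv_pow, hy', inv_one]⟩ }
  have hSn : S.Normal := ⟨by
    rintro y ⟨hy, hy'⟩ g
    exact ⟨hMn.conj_mem y hy g, by rw [conj_pow, hy']; simp⟩⟩
  have hSne : S ≠ ⊥ := by
    intro h
    have h1 : (x : G ⧸ N) ∈ S := by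
      refine ⟨x.2, ?_⟩
      have h2 : x ^ u = 1 := by
        rw [← hx]
        exact pow_orderOf_eq_one x
      exact congrArg Subtype.val h2
    rw [h] at h1
    have h2 : x = 1 := Subtype.ext h1
    rw [h2, orderOf_one] at hx
    exact hu.one_lt.ne hx
  have hMS := hU S hSn hSne
  have hMp : IsPGroup u M := by
    intro y
    refine ⟨1, ?_⟩
    apply Subtype.ext
    rw [pow_one]
    exact (hMS y.2).2
  obtain ⟨n, hn⟩ := IsPGroup.iff_card.mp hMp
  have hum : ¬ u ∣ m := by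
    intro h
    have h1 := Nat.dvd_gcd hudvd h
    rw [hcop] at h1
    exact hu.one_lt.ne' (Nat.dvd_one.mp h1)
  have hle : commutator G ≤ A := by
    rw [commutator_def, Subgroup.commutator_le]
    intro g₁ _ g₂ _
    show q ⁅g₁, g₂⁆ ∈ M
    rw [map_commutatorElement]
    exact Subgroup.commutator_mem_commutator (Subgroup.mem_top _) (Subgroup.mem_top _)
  have hcopu : ∀ θ : IrrCharacter A, ¬ u ∣ charDegree (θ : A → ℂ) →
      (charDegree (θ : A → ℂ)).Coprime (Nat.card M) := by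
    intro θ h
    rw [hn]
    exact Nat.Coprime.pow_right n ((Nat.Prime.coprime_iff_not_dvd hu).mpr h).symm
  by_cases hcase : ∃ θ₁ : IrrCharacter A, charDegree (θ₁ : A → ℂ) ≠ 1 ∧
      ¬ u ∣ charDegree (θ₁ : A → ℂ)
  · obtain ⟨θ₁, h1, h2⟩ := hcase
    set d₁ := charDegree (θ₁ : A → ℂ) with hd₁
    obtain ⟨χ₁, hχ₁⟩ := htw θ₁ (hcopu θ₁ h2)
    have hd0 : d₁ ≠ 0 := charDegree_ne_zero θ₁.2
    have hmpos : 0 < m := Nat.pos_of_ne_zero hm0
    have hmc : m ≠ m * d₁ := by
      intro h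
      apply h1
      exact (Nat.eq_of_mul_eq_mul_left hmpos (by rw [← h, mul_one] : m * 1 = m * d₁)).symm
    have hc1 : m * d₁ ≠ 1 := fun h => hm1 (Nat.eq_one_of_mul_eq_one_right h)
    have hTh' : Three G m (m * d₁) := hTh.of_mem ⟨χm, hχm⟩ ⟨χ₁, hχ₁⟩ hm1 hc1 hmc
    have hTwoA : Two A d₁ := by
      intro θ
      by_cases hθ1 : charDegree (θ : A → ℂ) = 1
      · exact Or.inl hθ1
      right
      obtain ⟨χ, hχ⟩ := Cfsg.Agent.Lib.GlaubAbove.exists_irr_over A θ
      have h3 := degree_dvd A θ.2 χ.2 hχ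
      have h4 : ¬ u ∣ charDegree (θ : A → ℂ) := by
        intro h5
        have h6 := h5.trans h3
        rcases hTh' χ with h7 | h7 | h7
        · rw [h7] at h6
          exact hu.one_lt.ne' (Nat.dvd_one.mp h6)
        · rw [h7] at h6
          exact hum h6
        · rw [h7] at h6
          rcases hu.dvd_mul.mp h6 with h | h
          · exact hum h
          · exact h2 h
      obtain ⟨χ', hχ'⟩ := htw θ (hcopu θ h4)
      rcases hTh' χ' with h7 | h7 | h7
      · rw [hχ'] at h7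
        exact absurd (Nat.eq_one_of_mul_eq_one_left h7) hθ1
      · rw [hχ'] at h7
        exact absurd (Nat.eq_of_mul_eq_mul_left hmpos (by rw [h7, mul_one] :
          m * charDegree (θ : A → ℂ) = m * 1)) hθ1
      · rw [hχ'] at h7
        exact Nat.eq_of_mul_eq_mul_left hmpos h7
    exact derived_three_of_abelian A hle (comm_map A (comm_comm_of_two hTwoA))
  · push Not at hcase
    have hnl : ∀ θ : IrrCharacter A, charDegree (θ : A → ℂ) ≠ 1 → u ∣ charDegree (θ : A → ℂ) :=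
      hcase
    obtain ⟨Y₀, hY₀, hYc, k, hYi⟩ := Cfsg.Agent.S4456.result u hu hnl
    haveI := hY₀
    obtain ⟨D, hD₀⟩ : ∃ D, ∀ χ : IrrCharacter G, charDegree (χ : G → ℂ) = 1 ∨
        charDegree (χ : G → ℂ) = m ∨ charDegree (χ : G → ℂ) = D := by
      have h1 := hTh χm
      rw [hχm] at h1
      rcases h1 with h1 | h1 | h1
      · exact absurd h1 hm1
      · refine ⟨b, fun χ => ?_⟩
        rw [h1]
        exact hTh χ
      · refine ⟨a, fun χ => ?_⟩
        rw [h1]
        rcases hTh χ with h | h | h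
        · exact Or.inl h
        · exact Or.inr (Or.inr h)
        · exact Or.inr (Or.inl h)
    have hlin : ∀ χ : IrrCharacter G, ¬ u ∣ charDegree (χ : G → ℂ) →
        ∀ x ∈ ⁅A, A⁆, (χ : G → ℂ) x = (χ : G → ℂ) 1 := by
      intro χ hχ
      apply trivial_of_constituents A (IsIrrCharacter.isCharacter χ.2)
      intro θ hθ
      by_contra h1
      exact hχ ((hnl θ h1).trans (degree_dvd A θ.2 χ.2 hθ))
    have hDeg : ∀ χ : IrrCharacter G, (¬ ∀ x ∈ ⁅A, A⁆, (χ : G → ℂ) x = (χ : G → ℂ) 1) →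
        charDegree (χ : G → ℂ) = D := by
      intro χ hNT
      rcases hD₀ χ with h | h | h
      · exfalso
        apply hNT
        apply hlin
        rw [h]
        intro h1
        exact hu.one_lt.ne' (Nat.dvd_one.mp h1)
      · exfalso
        apply hNT
        apply hlin
        rw [h]
        exact hum
      · exact h
    have hum' : ¬ u ∣ A.index := by
      rw [hidx]
      exact hum
    exact derived_three_of_abelian A hle (l_metabelian A hu hum' Y₀ hYc hYi hnl D hDeg)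

/-- **Solvable groups with at most three nontrivial degree values have derived length at most
three.** -/
theorem derived_three_of_solvable {a b : ℕ} (hsol : Group.IsSolvable G) (hTh : Three G a b) :
    derivedSeries G 3 = ⊥ := by
  classical
  by_cases hGne : commutator G = ⊥
  · refine derived_three_of_abelian ⊥ (le_bot_iff.mpr hGne) ?_
    intro a ha b hb
    rw [Subgroup.commutator_bot_left, Subgroup.mem_bot] at ha hb
    rw [ha, hb]
  let S : Set (Subgroup G) := {N | N.Normal ∧ ¬ commutator G ≤ N}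
  have hS : S.Nonempty := ⟨⊥, ⟨inferInstance, fun h => hGne (le_bot_iff.mp h)⟩⟩
  obtain ⟨N, hNmax⟩ := S.toFinite.exists_maximal hS
  haveI hNn : N.Normal := hNmax.prop.1
  let q : G →* G ⧸ N := QuotientGroup.mk' N
  have hq : Function.Surjective q := QuotientGroup.mk'_surjective N
  haveI hHsol : Group.IsSolvable (G ⧸ N) := Group.isSolvable_of_surjective hq
  have hne : commutator (G ⧸ N) ≠ ⊥ := by
    intro h
    apply hNmax.prop.2
    rw [commutator_def, Subgroup.commutator_le]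
    intro a _ b _
    have h1 := mem_commutator (q a) (q b)
    rw [h, Subgroup.mem_bot] at h1
    have h2 : q ⁅a, b⁆ = 1 := by
      rw [commutatorElement_def, map_mul, map_mul, map_mul, map_inv, map_inv]
      exact h1
    exact (QuotientGroup.eq_one_iff _).mp h2
  have hU : ∀ L : Subgroup (G ⧸ N), L.Normal → L ≠ ⊥ → commutator (G ⧸ N) ≤ L := by
    intro L hL hLne
    haveI := hL
    have h1 : commutator G ≤ L.comap q := by
      by_contra h2
      have h3 : L.comap q ∈ S := ⟨inferInstance, h2⟩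
      have h4 : N ≤ L.comap q := by
        intro x hx
        show q x ∈ L
        have : q x = 1 := (QuotientGroup.eq_one_iff x).mpr hx
        rw [this]
        exact L.one_mem
      have h5 := hNmax.le_of_ge h3 h4
      apply hLne
      rw [eq_bot_iff]
      intro y hy
      obtain ⟨x, rfl⟩ := hq y
      exact Subgroup.mem_bot.mpr ((QuotientGroup.eq_one_iff x).mpr (h5 hy))
    rw [commutator_def, Subgroup.commutator_le]
    intro a _ b _
    obtain ⟨a', rfl⟩ := hq a
    obtain ⟨b', rfl⟩ := hq b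
    have h2 := h1 (mem_commutator a' b')
    have h3 : q (a' * b' * a'⁻¹ * b'⁻¹) ∈ L := h2
    rw [commutatorElement_def]
    simpa only [map_mul, map_inv] using h3
  have hab := commutator_abelian hHsol hU
  have hHnt : Nontrivial (G ⧸ N) := by
    by_contra h
    rw [not_nontrivial_iff_subsingleton] at h
    exact hne (Subsingleton.elim _ _)
  have htop : commutator (G ⧸ N) ≠ ⊤ :=
    (Group.IsSolvable.commutator_lt_top_of_nontrivial (G ⧸ N)).ne
  by_cases hcent : commutator (G ⧸ N) ≤ Subgroup.center (G ⧸ N)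
  · -- the nilpotent case
    haveI hnil : Group.IsNilpotent (G ⧸ N) := by
      rw [Subgroup.nilpotent_iff_lowerCentralSeries]
      refine ⟨2, ?_⟩
      show ⁅commutator (G ⧸ N), (⊤ : Subgroup (G ⧸ N))⁆ = ⊥
      rw [Subgroup.commutator_eq_bot_iff_le_centralizer, Subgroup.coe_top,
        Subgroup.centralizer_univ]
      exact hcent
    obtain ⟨p, hp, hpd⟩ := Nat.exists_prime_and_dvd (Finite.one_lt_card (α := G ⧸ N)).ne'
    haveI : Fact p.Prime := ⟨hp⟩
    have hHp : IsPGroup p (G ⧸ N) := by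
      apply IsPGroup.of_card (n := (Nat.card (G ⧸ N)).primeFactorsList.length)
      apply Nat.eq_prime_pow_of_unique_prime_dvd Nat.card_pos.ne'
      intro q' hq' hq'd
      haveI : Fact q'.Prime := ⟨hq'⟩
      by_contra hqp
      obtain ⟨Sp⟩ : Nonempty (Sylow p (G ⧸ N)) := inferInstance
      obtain ⟨Sq⟩ : Nonempty (Sylow q' (G ⧸ N)) := inferInstance
      have hSp : (Sp : Subgroup (G ⧸ N)) ≠ ⊥ := Sp.ne_bot_of_dvd_card hpd
      have hSq : (Sq : Subgroup (G ⧸ N)) ≠ ⊥ := Sq.ne_bot_of_dvd_card hq'd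
      have h1 := hU _ inferInstance hSp
      have h2 := hU _ inferInstance hSq
      apply hne
      rw [eq_bot_iff]
      have h3 := IsPGroup.disjoint_of_ne q' p hqp _ _ Sq.isPGroup' Sp.isPGroup'
      exact (le_inf h2 h1).trans h3.le_bot
    exact central_case hTh hp N hHp hcent hne hU
  · obtain ⟨y₀, hy₀, hy₀c⟩ := SetLike.not_le_iff_exists.mp hcent
    rw [Subgroup.mem_center_iff] at hy₀c
    push Not at hy₀c
    obtain ⟨g₀, hg₀⟩ := hy₀c
    have hg₀' : ∃ y ∈ commutator (G ⧸ N), g₀ * y * g₀⁻¹ * y⁻¹ ≠ 1 := by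
      refine ⟨y₀, hy₀, fun h => hg₀ ?_⟩
      calc g₀ * y₀ = g₀ * y₀ * g₀⁻¹ * y₀⁻¹ * (y₀ * g₀) := by group
        _ = y₀ * g₀ := by rw [h, one_mul]
    have hfree : ∀ h, h ∉ commutator (G ⧸ N) → ∀ y ∈ commutator (G ⧸ N),
        ∃ z ∈ commutator (G ⧸ N), h * z * h⁻¹ * z⁻¹ = y := by
      intro h hh
      apply com_surj hab hU
      by_contra hno
      push Not at hno
      apply hh
      apply mem_of_centralizes hab hU hne g₀ hg₀'
      intro y hy
      have := hno y hy
      calc h * y = h * y * h⁻¹ * y⁻¹ * (y * h) := by group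
        _ = y * h := by rw [this, one_mul]
    exact frob_case hTh N hab hU hne htop hfree

end FrobCase

end Cfsg.Agent.Lib.ThreeDeg31
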