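import Mathlib
import Cfsg.Agent.Lib.ThreeDeg31F
import Cfsg.Agent.Lib.BrolineChar
import Cfsg.Agent.Lib.BurnsidePQ
import Cfsg.Agent.Lib.CharNormal

/-!
# Groups with three nonlinear character degree values are solvable
-/

set_option autoImplicit false
set_option linter.style.haveILetI false
set_option linter.unusedVariables false
set_option linter.unusedSectionVars false

namespace Cfsg.Agent.Lib.ThreeDeg31

open Cfsg Cfsg.Agent.Lib.CharBasic Cfsg.Agent.Lib.CharInd Cfsg.Agent.Lib.CharKernel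
open Cfsg.Agent.Lib.Clifford Cfsg.Agent.Lib.CliffDvd Cfsg.Agent.Lib.TwoDeg
open Cfsg.Agent.Lib.BrolineChar Cfsg.Agent.Lib.GenChar
open Module
open scoped ComplexConjugate commutatorElement

universe u

/-- **Burnside's vanishing** in a nonabelian simple group: some nonprincipal character has degree
not prime to a multiple of the class size of a nonidentity element. -/
theorem burnside_simple {T : Type u} [Group T] [Finite T] [IsSimpleGroup T]
    (hcomm : ¬ ∀ a b : T, a * b = b * a) {x : T} (hx : x ≠ 1) (e : ℕ)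
    (he : (Subgroup.centralizer ({x} : Set T)).index ∣ e) :
    ∃ θ : IrrCharacter T, (θ : T → ℂ) ≠ (fun _ => 1) ∧ ¬ (charDegree (θ : T → ℂ)).Coprime e := by
  classical
  haveI : Fintype T := Fintype.ofFinite T
  by_contra hno
  push Not at hno
  have hcenter : Subgroup.center T = ⊥ := by
    refine (inferInstance : (Subgroup.center T).Normal).eq_bot_or_eq_top.resolve_right fun h => ?_
    apply hcomm
    intro a b
    have : a ∈ Subgroup.center T := by rw [h]; trivial
    exact (Subgroup.mem_center_iff.mp this b).symm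
  have hzero : ∀ θ : IrrCharacter T, (θ : T → ℂ) ≠ (fun _ => 1) → (θ : T → ℂ) x = 0 := by
    intro θ hne
    have hc := hno θ hne
    obtain ⟨n, ρ, hρ, hχ⟩ := θ.2
    have hdeg : charDegree (θ : T → ℂ) = n := charDegree_of_one (by
      rw [← hχ, Representation.char_one]
      simp)
    have hcop : Nat.Coprime (finrank ℂ (Fin n → ℂ)) (Subgroup.centralizer ({x} : Set T)).index := by
      rw [finrank_fin_fun, ← hdeg]
      exact Nat.Coprime.coprime_dvd_right he hc
    have hB := Cfsg.Agent.Lib.CharIntegrality.character_eq_zero_or_norm_eq ρ hρ x hcop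
    rw [hχ] at hB
    rcases hB with h0 | hB'
    · exact h0
    exfalso
    rw [← hχ] at hB'
    obtain ⟨ω, hω⟩ := (Cfsg.Agent.Lib.CharValues.norm_character_eq_iff ρ x).mp hB'
    have hker := Cfsg.Agent.Lib.BurnsidePQ.ker_eq_bot_of_simple ρ hρ (by rw [hχ]; exact hne)
    have hinj : Function.Injective ρ := (MonoidHom.ker_eq_bot_iff ρ).mp hker
    apply hx
    have hgc : x ∈ Subgroup.center T := by
      rw [Subgroup.mem_center_iff]
      intro y
      apply hinj
      rw [map_mul, map_mul, hω]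
      ext v
      simp
    rw [hcenter] at hgc
    exact hgc
  have hsum := sum_irr_deg_mul (G := T) x
  rw [if_neg hx] at hsum
  let one : IrrCharacter T := ⟨fun _ => 1, isIrrCharacter_one⟩
  rw [Finset.sum_eq_single one] at hsum
  · simp [one] at hsum
  · intro θ _ hθ
    rw [hzero θ (fun h => hθ (Subtype.ext h))]
    simp
  · simp

section Product

variable {G : Type u} [Group G] [Fintype G]

/-- All the constituents of `χ ψ` have degree `d`. -/
def AllDeg (χ ψ : G → ℂ) (d : ℕ) : Prop :=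
  ∀ φ : IrrCharacter G, classInner (χ * ψ) (φ : G → ℂ) ≠ 0 → charDegree (φ : G → ℂ) = d

omit [Fintype G] in
theorem conj_degree (χ : G → ℂ) (hχ : IsCharacter G χ) : charDegree (conjFun χ) = charDegree χ := by
  apply charDegree_of_one
  show conj (χ 1) = _
  rw [one_eq_charDegree hχ]
  simp

/-- A product of characters of different degrees has no linear constituent. -/
theorem inner_mul_zero_of_linear {χ ψ lam : G → ℂ} (hχ : IsIrrCharacter G χ)
    (hψ : IsIrrCharacter G ψ) (hlam : IsIrrCharacter G lam) (hl : lam 1 = 1)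
    (hne : charDegree χ ≠ charDegree ψ) : classInner (χ * ψ) lam = 0 := by
  obtain ⟨f, hf⟩ := exists_hom_of_degree_one (IsIrrCharacter.isCharacter hlam) hl
  have hm : IsIrrCharacter G (lam * conjFun ψ) := by
    have h1 := Cfsg.Agent.Lib.DetChar.isIrr_mul_hom f (isIrrCharacter_conjFun hψ)
    have h2 : (fun g => ((f g : ℂˣ) : ℂ)) = lam := by
      funext g
      rw [hf]
    rwa [h2] at h1
  have h3 : classInner (lam * conjFun ψ) χ = 0 := by
    apply classInner_irr_ne hm hχ
    intro h
    apply hne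
    have h4 := congrFun h 1
    simp only [Pi.mul_apply, hl, one_mul] at h4
    rw [← conj_degree ψ (IsIrrCharacter.isCharacter hψ), charDegree, charDegree, ← h4]
  rw [inner_mul_conj] at h3
  exact (map_eq_zero _).mp h3

/-- The swap of factors in a multiplicity. -/
theorem inner_swap {χ ψ φ : G → ℂ} (hχ : IsCharacter G χ) (hψ : IsCharacter G ψ)
    (hφ : IsIrrCharacter G φ) :
    classInner (χ * ψ) φ = classInner (conjFun χ * φ) ψ := by
  obtain ⟨n, hn⟩ := classInner_char_irr (isCharacter_mul hχ hψ) hφ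
  rw [mul_comm (conjFun χ) φ, inner_mul_conj, mul_comm ψ χ, hn]
  simp

/-- The dichotomy for a product of two characters of coprime degrees. -/
theorem dichotomy {a b : ℕ} (hTh : Three G a b) (hcop : a.Coprime b) (hab : a ≠ b)
    {χ ψ : G → ℂ} (hχ : IsIrrCharacter G χ) (hψ : IsIrrCharacter G ψ) (hda : charDegree χ = a)
    (hdb : charDegree ψ = b) : AllDeg χ ψ b ∨ AllDeg χ ψ a := by
  classical
  have hχc := IsIrrCharacter.isCharacter hχ
  have hψc := IsIrrCharacter.isCharacter hψ
  obtain ⟨m, hm⟩ := exists_nat_decomp (isCharacter_mul hχc hψc)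
  have hinner : ∀ φ : IrrCharacter G, classInner (χ * ψ) (φ : G → ℂ) = m φ := by
    intro φ
    rw [hm]
    exact classInner_nat_decomp m _ φ.2
  have hdegs : ∀ φ : IrrCharacter G, m φ ≠ 0 →
      charDegree (φ : G → ℂ) = a ∨ charDegree (φ : G → ℂ) = b := by
    intro φ hφ
    rcases hTh φ with h | h | h
    · exfalso
      have h1 : (φ : G → ℂ) 1 = 1 := by
        rw [one_eq_charDegree (IsIrrCharacter.isCharacter φ.2), h]
        simp
      have h2 := inner_mul_zero_of_linear hχ hψ φ.2 h1 (by rw [hda, hdb]; exact hab)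
      rw [hinner] at h2
      exact hφ (by exact_mod_cast h2)
    · exact Or.inl h
    · exact Or.inr h
  have hsum : a * b = ∑ φ : IrrCharacter G, m φ * charDegree (φ : G → ℂ) := by
    have h1 := congrFun hm 1
    simp only [Pi.mul_apply, Finset.sum_apply, Pi.smul_apply] at h1
    simp only [nsmul_eq_mul] at h1
    rw [one_eq_charDegree hχc, one_eq_charDegree hψc, hda, hdb] at h1
    have h2 : ∀ φ : IrrCharacter G, (m φ : ℂ) * (φ : G → ℂ) 1 =
        ((m φ * charDegree (φ : G → ℂ) : ℕ) : ℂ) := by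
      intro φ
      rw [one_eq_charDegree (IsIrrCharacter.isCharacter φ.2)]
      push_cast
      rfl
    simp_rw [h2] at h1
    exact_mod_cast h1
  have hne0 : ∀ φ : IrrCharacter G, classInner (χ * ψ) (φ : G → ℂ) ≠ 0 → m φ ≠ 0 := by
    intro φ h h0
    rw [hinner, h0] at h
    simp at h
  by_cases hv : ∀ φ : IrrCharacter G, m φ ≠ 0 → charDegree (φ : G → ℂ) = a
  · exact Or.inr fun φ h => hv φ (hne0 φ h)
  by_cases hu : ∀ φ : IrrCharacter G, m φ ≠ 0 → charDegree (φ : G → ℂ) = b
  · exact Or.inl fun φ h => hu φ (hne0 φ h)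
  exfalso
  push Not at hv hu
  obtain ⟨φ₁, hφ₁, hd₁⟩ := hv
  obtain ⟨φ₂, hφ₂, hd₂⟩ := hu
  have hd₁b := (hdegs φ₁ hφ₁).resolve_left hd₁
  have hd₂a := (hdegs φ₂ hφ₂).resolve_right hd₂
  let A := Finset.univ.filter (fun φ : IrrCharacter G => charDegree (φ : G → ℂ) = a)
  let B := Finset.univ.filter (fun φ : IrrCharacter G => ¬ charDegree (φ : G → ℂ) = a)
  set u := ∑ φ ∈ A, m φ with hu'
  set v := ∑ φ ∈ B, m φ with hv'
  have hsplit : a * b = u * a + v * b := by
    rw [hsum, ← Finset.sum_filter_add_sum_filter_not Finset.univ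
      (fun φ : IrrCharacter G => charDegree (φ : G → ℂ) = a)]
    congr 1
    · rw [hu', Finset.sum_mul]
      refine Finset.sum_congr rfl fun φ hφ => ?_
      rw [(Finset.mem_filter.mp hφ).2]
    · rw [hv', Finset.sum_mul]
      refine Finset.sum_congr rfl fun φ hφ => ?_
      by_cases h0 : m φ = 0
      · simp [h0]
      · rw [(hdegs φ h0).resolve_left (Finset.mem_filter.mp hφ).2]
  have hu0 : 0 < u := by
    have h1 : m φ₂ ≤ u := Finset.single_le_sum (fun _ _ => Nat.zero_le _)
      (Finset.mem_filter.mpr ⟨Finset.mem_univ _, hd₂a⟩)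
    omega
  have hv0 : 0 < v := by
    have h1 : m φ₁ ≤ v := Finset.single_le_sum (fun _ _ => Nat.zero_le _)
      (Finset.mem_filter.mpr ⟨Finset.mem_univ _, hd₁⟩)
    omega
  have ha0 : 0 < a := by
    rw [← hda]
    exact charDegree_pos hχ
  have hb0 : 0 < b := by
    rw [← hdb]
    exact charDegree_pos hψ
  have h1 : a ∣ v * b := by
    have h2 : a ∣ u * a + v * b := hsplit ▸ Dvd.intro _ rfl
    exact (Nat.dvd_add_right (Dvd.intro_left _ rfl)).mp h2
  have h2 : b ∣ u * a := by
    have h3 : b ∣ u * a + v * b := hsplit ▸ Dvd.intro_left _ rfl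
    exact (Nat.dvd_add_left (Dvd.intro_left _ rfl)).mp h3
  have h3 : a ∣ v := hcop.dvd_of_dvd_mul_right h1
  have h4 : b ∣ u := hcop.symm.dvd_of_dvd_mul_right h2
  have h5 : a ≤ v := Nat.le_of_dvd hv0 h3
  have h6 : b ≤ u := Nat.le_of_dvd hu0 h4
  nlinarith [Nat.mul_le_mul_right a h6, Nat.mul_le_mul_right b h5, mul_pos ha0 hb0]

open Classical in
/-- The irreducible characters `ψ` of degree `b` such that all constituents of `χ ψ` have
degree `b`. -/
noncomputable def TypeB (b : ℕ) (χ : G → ℂ) : Finset (IrrCharacter G) :=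
  Finset.univ.filter (fun ψ => charDegree (ψ : G → ℂ) = b ∧ AllDeg χ (ψ : G → ℂ) b)

theorem mem_TypeB {b : ℕ} {χ : G → ℂ} {ψ : IrrCharacter G} :
    ψ ∈ TypeB b χ ↔ charDegree (ψ : G → ℂ) = b ∧ AllDeg χ (ψ : G → ℂ) b := by
  simp [TypeB]

/-- The sum of the characters of `TypeB`. -/
noncomputable def FS (b : ℕ) (χ : G → ℂ) : G → ℂ := ∑ ψ ∈ TypeB b χ, (ψ : G → ℂ)

theorem FS_apply (b : ℕ) (χ : G → ℂ) (g : G) : FS b χ g = ∑ ψ ∈ TypeB b χ, (ψ : G → ℂ) g := by
  simp [FS, Finset.sum_apply]

theorem isClass_FS (b : ℕ) (χ : G → ℂ) : IsClassFunction G (FS b χ) := by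
  intro g x
  rw [FS_apply, FS_apply]
  exact Finset.sum_congr rfl
    (fun ψ _ => isClassFunction_of_isCharacter (IsIrrCharacter.isCharacter ψ.2) g x)

theorem inner_mul_FS {a b : ℕ} (hTh : Three G a b) (hcop : a.Coprime b) (hab : a ≠ b)
    {χ : G → ℂ} (hχ : IsIrrCharacter G χ) (hda : charDegree χ = a) (hb0 : b ≠ 0)
    (φ : IrrCharacter G) :
    classInner (χ * FS b χ) (φ : G → ℂ) = if φ ∈ TypeB b (conjFun χ) then (a : ℂ) else 0 := by
  classical
  have hχc := IsIrrCharacter.isCharacter hχ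
  have hφc := IsIrrCharacter.isCharacter φ.2
  have hχb := isIrrCharacter_conjFun hχ
  have hχbc := IsIrrCharacter.isCharacter hχb
  have hdab : charDegree (conjFun χ) = a := by
    rw [conj_degree χ hχc, hda]
  have e1 : χ * FS b χ = ∑ ψ ∈ TypeB b χ, χ * (ψ : G → ℂ) := Finset.mul_sum _ _ _
  rw [e1, classInner_sum_left]
  split_ifs with hφ
  · obtain ⟨hdφ, hall⟩ := mem_TypeB.mp hφ
    obtain ⟨m, hm⟩ := exists_nat_decomp (isCharacter_mul hχbc hφc)
    have hm' : ∀ ψ : IrrCharacter G, classInner (conjFun χ * (φ : G → ℂ)) (ψ : G → ℂ) = m ψ := by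
      intro ψ
      rw [hm]
      exact classInner_nat_decomp m _ ψ.2
    have hin : ∀ ψ : IrrCharacter G, classInner (χ * (ψ : G → ℂ)) (φ : G → ℂ) = m ψ := by
      intro ψ
      rw [inner_swap hχc (IsIrrCharacter.isCharacter ψ.2) φ.2, hm']
    have hsupp : ∀ ψ : IrrCharacter G, m ψ ≠ 0 → ψ ∈ TypeB b χ := by
      intro ψ hψ
      have hne : (m ψ : ℂ) ≠ 0 := by exact_mod_cast hψ
      have hdψ : charDegree (ψ : G → ℂ) = b := hall ψ (by rw [hm']; exact hne)
      refine mem_TypeB.mpr ⟨hdψ, ?_⟩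
      rcases dichotomy hTh hcop hab hχ ψ.2 hda hdψ with h | h
      · exact h
      · exfalso
        have h1 := h φ (by rw [hin]; exact hne)
        exact hab (h1.symm.trans hdφ)
    have hsum : a * b = ∑ ψ : IrrCharacter G, m ψ * charDegree (ψ : G → ℂ) := by
      have h1 := congrFun hm 1
      simp only [Pi.mul_apply, Finset.sum_apply, Pi.smul_apply] at h1
      simp only [nsmul_eq_mul] at h1
      rw [one_eq_charDegree hχbc, one_eq_charDegree hφc, hdab, hdφ] at h1
      have h2 : ∀ ψ : IrrCharacter G, (m ψ : ℂ) * (ψ : G → ℂ) 1 =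
          ((m ψ * charDegree (ψ : G → ℂ) : ℕ) : ℂ) := by
        intro ψ
        rw [one_eq_charDegree (IsIrrCharacter.isCharacter ψ.2)]
        push_cast
        rfl
      simp_rw [h2] at h1
      exact_mod_cast h1
    have hsum2 : ∑ ψ : IrrCharacter G, m ψ * charDegree (ψ : G → ℂ) =
        (∑ ψ ∈ TypeB b χ, m ψ) * b := by
      rw [Finset.sum_mul]
      rw [← Finset.sum_subset (Finset.subset_univ (TypeB b χ))]
      · refine Finset.sum_congr rfl fun ψ hψ => ?_
        rw [(mem_TypeB.mp hψ).1]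
      · intro ψ _ hψ
        have h0 : m ψ = 0 := by
          by_contra h
          exact hψ (hsupp ψ h)
        simp [h0]
    have hsum3 : ∑ ψ ∈ TypeB b χ, m ψ = a := by
      rw [hsum2] at hsum
      exact (Nat.eq_of_mul_eq_mul_right (Nat.pos_of_ne_zero hb0) hsum).symm
    rw [← hsum3]
    push_cast
    exact Finset.sum_congr rfl fun ψ _ => hin ψ
  · refine Finset.sum_eq_zero fun ψ hψ => ?_
    by_contra h
    obtain ⟨hdψ, hall⟩ := mem_TypeB.mp hψ
    have hdφ := hall φ h
    rcases dichotomy hTh hcop hab hχb φ.2 hdab hdφ with h1 | h1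
    · exact hφ (mem_TypeB.mpr ⟨hdφ, h1⟩)
    · have h2 := h1 ψ (by
        rw [← inner_swap hχc (IsIrrCharacter.isCharacter ψ.2) φ.2]
        exact h)
      exact hab (h2.symm.trans hdψ)

/-- The basic identity `χ F(χ) = a F(χ̄)`. -/
theorem mul_FS {a b : ℕ} (hTh : Three G a b) (hcop : a.Coprime b) (hab : a ≠ b)
    {χ : G → ℂ} (hχ : IsIrrCharacter G χ) (hda : charDegree χ = a) (hb0 : b ≠ 0) :
    χ * FS b χ = (a : ℂ) • FS b (conjFun χ) := by
  classical
  have hχc := IsIrrCharacter.isCharacter hχ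
  have hcl : IsClassFunction G (χ * FS b χ - (a : ℂ) • FS b (conjFun χ)) := by
    intro g x
    simp only [Pi.sub_apply, Pi.mul_apply, Pi.smul_apply, smul_eq_mul]
    rw [isClassFunction_of_isCharacter hχc g x, isClass_FS b χ g x, isClass_FS b _ g x]
  have h0 := eq_zero_of_orthogonal hcl (fun φ => by
    rw [classInner_sub_left, classInner_smul_left, inner_mul_FS hTh hcop hab hχ hda hb0 φ]
    have h1 : classInner (FS b (conjFun χ)) (φ : G → ℂ) =
        if φ ∈ TypeB b (conjFun χ) then 1 else 0 := by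
      unfold FS
      rw [classInner_sum_left]
      split_ifs with hφ
      · rw [Finset.sum_eq_single φ]
        · exact classInner_irr_self φ.2
        · intro ψ _ hψ
          exact classInner_irr_ne ψ.2 φ.2 (fun h => hψ (Subtype.ext h))
        · intro h
          exact absurd hφ h
      · refine Finset.sum_eq_zero fun ψ hψ => ?_
        refine classInner_irr_ne ψ.2 φ.2 (fun h => hφ ?_)
        have h2 : ψ = φ := Subtype.ext h
        rwa [← h2]
    rw [h1]
    split_ifs <;> simp)
  exact sub_eq_zero.mp h0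

/-- The function `F(χ)` lives where `|χ| = χ(1)`. -/
theorem eigen_FS {a b : ℕ} (hTh : Three G a b) (hcop : a.Coprime b) (hab : a ≠ b)
    {χ : G → ℂ} (hχ : IsIrrCharacter G χ) (hda : charDegree χ = a) (hb0 : b ≠ 0) (g : G) :
    (χ g * conj (χ g) - (a : ℂ) ^ 2) * FS b χ g = 0 := by
  have hχc := IsIrrCharacter.isCharacter hχ
  have h1 := congrFun (mul_FS hTh hcop hab hχ hda hb0) g
  have h2 := congrFun (mul_FS hTh hcop hab (isIrrCharacter_conjFun hχ)
    (by rw [conj_degree χ hχc, hda]) hb0) g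
  have h3 : conjFun (conjFun χ) = χ := by
    funext x
    simp [conjFun]
  rw [h3] at h2
  simp only [Pi.mul_apply, Pi.smul_apply, smul_eq_mul] at h1 h2
  have h4 : conjFun χ g = conj (χ g) := rfl
  rw [h4] at h2
  linear_combination conj (χ g) * h1 + (a : ℂ) * h2

/-- An element of a minimal normal perfect subgroup which is scalar in a representation nontrivial
on it is trivial. -/
theorem eq_one_of_norm (S : Subgroup G) [hSn : S.Normal]
    (hSmin : ∀ N : Subgroup G, N.Normal → N ≤ S → N = ⊥ ∨ N = S) (hperf : ⁅S, S⁆ = S)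
    {χ : G → ℂ} (hχ : IsIrrCharacter G χ) (hNT : ¬ ∀ s ∈ S, χ s = χ 1) {g : G} (hg : g ∈ S)
    (hnorm : χ g * conj (χ g) = (charDegree χ : ℂ) ^ 2) : g = 1 := by
  have hχc := IsIrrCharacter.isCharacter hχ
  obtain ⟨n, ρ, hρ, hρχ⟩ := hχ
  have hdeg : charDegree χ = n := charDegree_of_one (by
    rw [← hρχ, Representation.char_one]
    simp)
  have hnorm2 : ‖χ g‖ = (n : ℝ) := by
    rw [hdeg, Complex.mul_conj, Complex.normSq_eq_norm_sq] at hnorm
    have h1 : ‖χ g‖ ^ 2 = (n : ℝ) ^ 2 := by exact_mod_cast hnorm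
    exact (sq_eq_sq₀ (norm_nonneg _) (Nat.cast_nonneg n)).mp h1
  have hnorm3 : ‖ρ.character g‖ = (finrank ℂ (Fin n → ℂ) : ℝ) := by
    rw [hρχ, finrank_fin_fun]
    exact hnorm2
  obtain ⟨ω, hω⟩ := (Cfsg.Agent.Lib.CharValues.norm_character_eq_iff ρ g).mp hnorm3
  have hcomm : ∀ x : G, ρ (g * x) = ρ (x * g) := by
    intro x
    rw [map_mul, map_mul, hω]
    ext v
    simp
  have hker : ∀ x : G, χ (g * x * g⁻¹ * x⁻¹) = χ 1 := by
    intro x
    have h1 : ρ (g * x * g⁻¹ * x⁻¹) = 1 := by
      have h2 : g * x * g⁻¹ * x⁻¹ = (g * x) * (g⁻¹ * x⁻¹) := by group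
      rw [h2, map_mul, hcomm, ← map_mul]
      have h3 : x * g * (g⁻¹ * x⁻¹) = 1 := by group
      rw [h3, map_one]
    rw [← hρχ]
    show LinearMap.trace ℂ _ (ρ _) = LinearMap.trace ℂ _ (ρ _)
    rw [h1, show ρ 1 = 1 from map_one ρ]
  let K : Subgroup G := charKer hχc ⊓ S
  haveI hKn : K.Normal := inferInstance
  have hKbot : K = ⊥ := by
    rcases hSmin K hKn inf_le_right with h | h
    · exact h
    · exfalso
      apply hNT
      intro s hs
      have h1 : s ∈ K := by
        rw [h]
        exact hs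
      exact h1.1
  have hcen : ∀ x : G, g * x = x * g := by
    intro x
    have h1 : g * x * g⁻¹ * x⁻¹ ∈ K := by
      refine ⟨hker x, ?_⟩
      have h2 : g * x * g⁻¹ * x⁻¹ = g * (x * g⁻¹ * x⁻¹) := by group
      rw [h2]
      exact S.mul_mem hg (hSn.conj_mem _ (S.inv_mem hg) x)
    rw [hKbot] at h1
    have h2 : g * x * g⁻¹ * x⁻¹ = 1 := h1
    calc g * x = g * x * g⁻¹ * x⁻¹ * (x * g) := by group
      _ = x * g := by rw [h2, one_mul]
  let Z : Subgroup G := Subgroup.center G ⊓ S
  haveI hZn : Z.Normal := inferInstance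
  rcases hSmin Z hZn inf_le_right with h | h
  · have h1 : g ∈ Z := ⟨Subgroup.mem_center_iff.mpr (fun x => (hcen x).symm), hg⟩
    rw [h] at h1
    exact h1
  · exfalso
    apply hNT
    have hb : S = ⊥ := by
      rw [← hperf, eq_bot_iff, Subgroup.commutator_le]
      intro s hs t ht
      have h1 : s ∈ Z := by
        rw [h]
        exact hs
      rw [Subgroup.mem_bot, commutatorElement_eq_one_iff_mul_comm]
      exact (Subgroup.mem_center_iff.mp h1.1 t).symm
    intro s hs
    rw [hb] at hs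
    rw [Subgroup.mem_bot.mp hs]

/-- The type `B` set is empty for a character nontrivial on a minimal normal perfect subgroup. -/
theorem typeB_empty {a b : ℕ} (hTh : Three G a b) (hcop : a.Coprime b) (hab : a ≠ b) (hb0 : b ≠ 0)
    (S : Subgroup G) [hSn : S.Normal] [Fintype S]
    (hSmin : ∀ N : Subgroup G, N.Normal → N ≤ S → N = ⊥ ∨ N = S) (hperf : ⁅S, S⁆ = S)
    {χ : G → ℂ} (hχ : IsIrrCharacter G χ) (hda : charDegree χ = a)
    (hNT : ¬ ∀ s ∈ S, χ s = χ 1) : TypeB b χ = ∅ := by
  classical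
  by_contra hne
  obtain ⟨ψ₀, hψ₀⟩ := Finset.nonempty_iff_ne_empty.mpr hne
  have hχc := IsIrrCharacter.isCharacter hχ
  have hvan : ∀ s ∈ S, s ≠ 1 → FS b χ s = 0 := by
    intro s hs hs1
    have h1 := eigen_FS hTh hcop hab hχ hda hb0 s
    rcases mul_eq_zero.mp h1 with h2 | h2
    · exfalso
      apply hs1
      refine eq_one_of_norm S hSmin hperf hχ hNT hs ?_
      rw [hda]
      exact sub_eq_zero.mp h2
    · exact h2
  have hsum1 : ∑ s : S, FS b χ s = FS b χ 1 := by
    rw [Finset.sum_eq_single (1 : S)]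
    · rfl
    · intro s _ hs
      exact hvan s s.2 (fun h => hs (Subtype.ext h))
    · simp
  have hF1 : FS b χ 1 ≠ 0 := by
    rw [FS_apply]
    have h1 : ∀ ψ ∈ TypeB b χ, (ψ : G → ℂ) 1 = (b : ℂ) := by
      intro ψ hψ
      rw [one_eq_charDegree (IsIrrCharacter.isCharacter ψ.2), (mem_TypeB.mp hψ).1]
    rw [Finset.sum_congr rfl h1, Finset.sum_const, nsmul_eq_mul]
    apply mul_ne_zero
    · exact_mod_cast (Finset.card_pos.mpr ⟨ψ₀, hψ₀⟩).ne'
    · exact_mod_cast hb0
  have hsum2 : ∑ s : S, FS b χ s = ∑ ψ ∈ TypeB b χ, ∑ s : S, (ψ : G → ℂ) s := by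
    simp only [FS_apply]
    exact Finset.sum_comm
  rw [hsum2] at hsum1
  rw [← hsum1] at hF1
  obtain ⟨ψ, hψ, hψne⟩ := Finset.exists_ne_zero_of_sum_ne_zero hF1
  have hψtriv : ∀ s ∈ S, (ψ : G → ℂ) s = (ψ : G → ℂ) 1 := by
    by_contra h
    push Not at h
    exact hψne (Cfsg.Agent.Lib.CharNormal.sum_normal_eq_zero' ψ.2 S h)
  obtain ⟨hdψ, hall⟩ := mem_TypeB.mp hψ
  -- a constituent of the restriction
  obtain ⟨ξ, hξ⟩ := Cfsg.Agent.Lib.CoprimeDeg.exists_constituent S hχc (irr_degree_ne_zero hχ)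
  -- a constituent of the product
  have hprod := isCharacter_mul hχc (IsIrrCharacter.isCharacter ψ.2)
  obtain ⟨φ, hφ, hφne⟩ := Cfsg.Agent.Lib.BrauerInd.exists_constituent hprod (by
    simp only [Pi.mul_apply]
    exact mul_ne_zero (irr_degree_ne_zero hχ) (irr_degree_ne_zero ψ.2))
  have hdφ := hall ⟨φ, hφ⟩ hφne
  have hξφ := inner_restrict_ne_of_mul S ψ.2 hχ hφ hψtriv (by rwa [mul_comm]) ξ.2 hξ
  have hd1 := degree_dvd S ξ.2 hχ hξ
  have hd2 := degree_dvd S ξ.2 hφ hξφ
  change charDegree φ = b at hdφ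
  rw [hda] at hd1
  rw [hdφ] at hd2
  have hd3 : charDegree (ξ : S → ℂ) = 1 := Nat.Coprime.eq_one_of_dvd
    (Nat.Coprime.coprime_dvd_left hd1 hcop) hd2
  -- `ξ` is trivial
  have hξ1 : (ξ : S → ℂ) = fun _ => 1 := by
    have h1 : (ξ : S → ℂ) 1 = 1 := by
      rw [one_eq_charDegree (IsIrrCharacter.isCharacter ξ.2), hd3]
      simp
    obtain ⟨f, hf⟩ := exists_hom_of_degree_one (IsIrrCharacter.isCharacter ξ.2) h1
    funext s
    rw [hf]
    have h2 : s ∈ commutator S := by
      have h3 : (s : G) ∈ ⁅S, S⁆ := by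
        rw [hperf]
        exact s.2
      rw [← Subgroup.map_subtype_commutator] at h3
      obtain ⟨s', hs', hs's⟩ := h3
      have h4 : s' = s := Subtype.ext hs's
      rwa [← h4]
    have h3 : commutator S ≤ f.ker := by
      rw [commutator_def, Subgroup.commutator_le]
      intro x _ y _
      show f ⁅x, y⁆ = 1
      rw [map_commutatorElement, commutatorElement_eq_one_iff_mul_comm]
      exact mul_comm _ _
    have h4 : f s = 1 := h3 h2
    rw [h4]
    simp
  rw [hξ1] at hξ
  exact hNT (le_ker_of_inner_one_ne S hχ hξ)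

theorem Three.swap {a b : ℕ} (h : Three G a b) : Three G b a := by
  intro χ
  rcases h χ with h1 | h1 | h1
  · exact Or.inl h1
  · exact Or.inr (Or.inr h1)
  · exact Or.inr (Or.inl h1)

theorem nt_all {a b : ℕ} (hTh : Three G a b) (hcop : a.Coprime b) (hab : a ≠ b) (hb0 : b ≠ 0)
    (S : Subgroup G) [hSn : S.Normal] [Fintype S]
    (hSmin : ∀ N : Subgroup G, N.Normal → N ≤ S → N = ⊥ ∨ N = S) (hperf : ⁅S, S⁆ = S)
    {χ ψ : G → ℂ} (hχ : IsIrrCharacter G χ) (hψ : IsIrrCharacter G ψ) (hda : charDegree χ = a)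
    (hdb : charDegree ψ = b) (hNT : ¬ ∀ s ∈ S, χ s = χ 1) : AllDeg χ ψ a := by
  rcases dichotomy hTh hcop hab hχ hψ hda hdb with h | h
  · exfalso
    have h1 : (⟨ψ, hψ⟩ : IrrCharacter G) ∈ TypeB b χ := mem_TypeB.mpr ⟨hdb, h⟩
    rw [typeB_empty hTh hcop hab hb0 S hSmin hperf hχ hda hNT] at h1
    simp at h1
  · exact h

/-- All the characters nontrivial on a minimal normal perfect subgroup have the same degree. -/
theorem exists_one_degree {a b : ℕ} (hTh : Three G a b) (hcop : a.Coprime b) (hab : a ≠ b)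
    (ha0 : a ≠ 0) (hb0 : b ≠ 0) (S : Subgroup G) [hSn : S.Normal] [Fintype S]
    (hSmin : ∀ N : Subgroup G, N.Normal → N ≤ S → N = ⊥ ∨ N = S) (hperf : ⁅S, S⁆ = S) :
    ∃ c, ∀ χ : IrrCharacter G, (¬ ∀ s ∈ S, (χ : G → ℂ) s = (χ : G → ℂ) 1) →
      charDegree (χ : G → ℂ) = c := by
  classical
  have hlin : ∀ χ : IrrCharacter G, charDegree (χ : G → ℂ) = 1 →
      ∀ s ∈ S, (χ : G → ℂ) s = (χ : G → ℂ) 1 := by
    intro χ h s hs
    rw [← hperf] at hs
    refine trivial_of_constituents S (IsIrrCharacter.isCharacter χ.2) ?_ s hs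
    intro θ hθ
    have h1 := degree_dvd S θ.2 χ.2 hθ
    rw [h] at h1
    exact Nat.dvd_one.mp h1
  by_cases hex : ∃ χ : IrrCharacter G, (¬ ∀ s ∈ S, (χ : G → ℂ) s = (χ : G → ℂ) 1) ∧
      charDegree (χ : G → ℂ) = a
  · obtain ⟨χ₀, h₀, h₀a⟩ := hex
    refine ⟨a, fun χ hχ => ?_⟩
    rcases hTh χ with h | h | h
    · exact absurd (hlin χ h) hχ
    · exact h
    · exfalso
      have h1 := nt_all hTh hcop hab hb0 S hSmin hperf χ₀.2 χ.2 h₀a h h₀
      have h2 := nt_all (Three.swap hTh) hcop.symm hab.symm ha0 S hSmin hperf χ.2 χ₀.2 h h₀a hχ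
      have hprod := isCharacter_mul (IsIrrCharacter.isCharacter χ₀.2)
        (IsIrrCharacter.isCharacter χ.2)
      obtain ⟨φ, hφ, hφne⟩ := Cfsg.Agent.Lib.BrauerInd.exists_constituent hprod (by
        simp only [Pi.mul_apply]
        exact mul_ne_zero (irr_degree_ne_zero χ₀.2) (irr_degree_ne_zero χ.2))
      have h3 := h1 ⟨φ, hφ⟩ hφne
      have h4 := h2 ⟨φ, hφ⟩ (by rwa [mul_comm])
      exact hab (h3.symm.trans h4)
  · refine ⟨b, fun χ hχ => ?_⟩
    rcases hTh χ with h | h | h
    · exact absurd (hlin χ h) hχ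
    · exact absurd ⟨χ, hχ, h⟩ hex
    · exact h

end Product

section Final

variable {G : Type u} [Group G] [Finite G]

theorem relIndex_eq_index (S H : Subgroup G) [hSn : S.Normal] (hsup : S ⊔ H = ⊤) :
    H.relIndex S = H.index := by
  have h1 : S.relIndex H = S.index := by
    rw [← Subgroup.relIndex_sup_left, hsup, Subgroup.relIndex_top_right]
  have h2 : S.relIndex H * H.index = (S ⊓ H).index := by
    rw [← Subgroup.inf_relIndex_right, Subgroup.relIndex_mul_index inf_le_right]
  have h3 : H.relIndex S * S.index = (S ⊓ H).index := by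
    rw [← Subgroup.inf_relIndex_left, Subgroup.relIndex_mul_index inf_le_left]
  rw [h1] at h2
  have h4 : S.index ≠ 0 := Subgroup.index_ne_zero_of_finite
  have h5 : H.relIndex S * S.index = H.index * S.index := by
    rw [h3, ← h2, mul_comm]
  exact Nat.eq_of_mul_eq_mul_right (Nat.pos_of_ne_zero h4) h5

/-- **The final contradiction**: a minimal normal perfect subgroup `S` cannot have all the
characters nontrivial on `S` of the same degree. -/
theorem no_one_degree (S : Subgroup G) [hSn : S.Normal] (hSne : S ≠ ⊥)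
    (hSmin : ∀ N : Subgroup G, N.Normal → N ≤ S → N = ⊥ ∨ N = S) (hperf : ⁅S, S⁆ = S) (c : ℕ)
    (hc : ∀ χ : IrrCharacter G, (¬ ∀ s ∈ S, (χ : G → ℂ) s = (χ : G → ℂ) 1) →
      charDegree (χ : G → ℂ) = c) : False := by
  classical
  haveI : Fintype G := Fintype.ofFinite G
  haveI : Fintype S := Fintype.ofFinite S
  -- degrees of `S`
  have hdegS : ∀ θ : IrrCharacter S, (θ : S → ℂ) ≠ (fun _ => 1) →
      charDegree (θ : S → ℂ) ∣ c := by
    intro θ hθ
    obtain ⟨χ, hχ⟩ := Cfsg.Agent.Lib.GlaubAbove.exists_irr_over S θ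
    have hd := degree_dvd S θ.2 χ.2 hχ
    have hNT : ¬ ∀ s ∈ S, (χ : G → ℂ) s = (χ : G → ℂ) 1 := by
      intro hall
      apply hχ
      have h1 : (fun n : S => (χ : G → ℂ) n) = ((χ : G → ℂ) 1) • (fun _ : S => (1 : ℂ)) := by
        funext n
        simp [hall n n.2]
      rw [h1, classInner_smul_left, classInner_irr_ne isIrrCharacter_one θ.2 (Ne.symm hθ),
        mul_zero]
    rwa [hc χ hNT] at hd
  have hSnt : Nontrivial S := (Subgroup.nontrivial_iff_ne_bot S).mpr hSne
  have hcommS : commutator S = ⊤ := by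
    rw [eq_top_iff]
    intro s _
    have h3 : (s : G) ∈ ⁅S, S⁆ := by
      rw [hperf]
      exact s.2
    rw [← Subgroup.map_subtype_commutator] at h3
    obtain ⟨s', hs', hs's⟩ := h3
    have h4 : s' = s := Subtype.ext hs's
    rwa [← h4]
  have hnonab : ¬ ∀ x y : S, x * y = y * x := by
    intro h
    apply hSne
    rw [← hperf, eq_bot_iff, Subgroup.commutator_le]
    intro s hs t ht
    rw [Subgroup.mem_bot, commutatorElement_eq_one_iff_mul_comm]
    exact congrArg Subtype.val (h ⟨s, hs⟩ ⟨t, ht⟩)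
  -- the coprimality
  have hkey : ∀ (H₁ : Subgroup G) (z : S), S ⊔ H₁ = ⊤ → (∀ x : S, (x : G) ∈ H₁ → x * z = z * x) →
      ∀ θ : IrrCharacter S, (θ : S → ℂ) ≠ (fun _ => 1) →
      (charDegree (θ : S → ℂ)).Coprime (Subgroup.centralizer ({z} : Set S)).index := by
    intro H₁ z hsup hz θ hθ
    obtain ⟨t, ht⟩ := index_eq_one_add S H₁ hsup c hc
    have h1 := relIndex_eq_index S H₁ hsup
    have h2 : H₁.subgroupOf S ≤ Subgroup.centralizer ({z} : Set S) := by
      intro x hx
      rw [Subgroup.mem_centralizer_singleton_iff]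
      exact hz x hx
    have h3 : (Subgroup.centralizer ({z} : Set S)).index ∣ H₁.relIndex S :=
      Subgroup.index_dvd_of_le h2
    rw [h1, ht] at h3
    apply Nat.Coprime.coprime_dvd_right h3
    apply Nat.Coprime.coprime_dvd_left (hdegS θ hθ)
    simp
  -- the minimal supplement
  let 𝒮 : Set (Subgroup G) := {H | S ⊔ H = ⊤}
  obtain ⟨H, hHmin⟩ := 𝒮.toFinite.exists_minimal ⟨⊤, by simp [𝒮]⟩
  have hsup : S ⊔ H = ⊤ := hHmin.prop
  let W : Subgroup H := S.subgroupOf H
  haveI hWn : W.Normal := Subgroup.normal_subgroupOf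
  have hWfr : W ≤ frattini H := by
    unfold frattini Order.radical
    refine le_iInf₂ fun M hM => ?_
    by_contra hnot
    have h1 : W ⊔ M = ⊤ := hM.2 _ (lt_of_le_of_ne le_sup_right (fun h => hnot (h ▸ le_sup_left)))
    let K : Subgroup G := M.map H.subtype
    have hKH : K ≤ H := Subgroup.map_subtype_le M
    have hKS : S ⊔ K = ⊤ := by
      rw [eq_top_iff]
      intro g _
      have hg : g ∈ S ⊔ H := by
        rw [hsup]
        trivial
      obtain ⟨s, hs, h, hh, rfl⟩ := Subgroup.mem_sup_of_normal_left.mp hg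
      have hh' : (⟨h, hh⟩ : H) ∈ W ⊔ M := by
        rw [h1]
        trivial
      obtain ⟨w, hw, m, hm, hwm⟩ := Subgroup.mem_sup_of_normal_left.mp hh'
      have hwS : (w : G) ∈ S := hw
      have hmK : (m : G) ∈ K := ⟨m, hm, rfl⟩
      have h2 : h = (w : G) * m := (congrArg Subtype.val hwm).symm
      rw [h2, ← mul_assoc]
      exact Subgroup.mul_mem_sup (S.mul_mem hs hwS) hmK
    have h2 : K = H := le_antisymm hKH (hHmin.le_of_le hKS hKH)
    apply hM.1
    rw [eq_top_iff]
    intro x _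
    have h3 : (x : G) ∈ K := by
      rw [h2]
      exact x.2
    obtain ⟨y, hy, hyx⟩ := h3
    have h4 : y = x := Subtype.ext hyx
    rwa [← h4]
  haveI hFnil : Group.IsNilpotent (frattini H) := frattini_nilpotent
  haveI hWnil : Group.IsNilpotent W :=
    isNilpotent_of_ker_le_center (Subgroup.inclusion hWfr) (by
      rw [(MonoidHom.ker_eq_bot_iff _).mpr (Subgroup.inclusion_injective hWfr)]
      exact bot_le)
  have hWne : W ≠ ⊥ := by
    intro hW
    obtain ⟨t, ht⟩ := index_eq_one_add S H hsup c hc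
    have h1 := relIndex_eq_index S H hsup
    have h2 : H.subgroupOf S = ⊥ := by
      rw [eq_bot_iff]
      intro x hx
      have hx' : (x : G) ∈ H := hx
      have h3 : (⟨x, hx'⟩ : H) ∈ W := x.2
      rw [hW] at h3
      have h4 : (⟨x, hx'⟩ : H) = 1 := h3
      have h5 : (x : G) = 1 := congrArg (fun y : H => (y : G)) h4
      exact Subgroup.mem_bot.mpr (Subtype.ext h5)
    have h3 : H.relIndex S = Nat.card S := by
      unfold Subgroup.relIndex
      rw [h2, Subgroup.index_bot]
    obtain ⟨θ, hθ⟩ : ∃ θ : IrrCharacter S, charDegree (θ : S → ℂ) ≠ 1 := by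
      by_contra hno
      push Not at hno
      exact hnonab (comm_of_all_linear (fun θ => by
        rw [one_eq_charDegree (IsIrrCharacter.isCharacter θ.2), hno θ]
        simp))
    have hθ1 : (θ : S → ℂ) ≠ fun _ => 1 := by
      intro h
      apply hθ
      rw [h]
      exact charDegree_of_one (by simp)
    have h4 := hdegS θ hθ1
    have h5 := charDegree_dvd_card θ.2
    rw [← h3, h1, ht] at h5
    have h6 : charDegree (θ : S → ℂ) ∣ 1 := (Nat.dvd_add_left (Dvd.dvd.mul_right h4 t)).mp h5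
    exact hθ (Nat.dvd_one.mp h6)
  haveI : Nontrivial W := (Subgroup.nontrivial_iff_ne_bot W).mpr hWne
  obtain ⟨z, hz, hz1⟩ := (Subgroup.bot_or_exists_ne_one _).resolve_left
    (Group.IsNilpotent.center_ne_bot (G := W))
  set z₀ : G := (((z : W) : H) : G) with hz₀
  have hz₀S : z₀ ∈ S := z.2
  have hz₀1 : z₀ ≠ 1 := by
    intro h
    apply hz1
    exact Subtype.ext (Subtype.ext h)
  have hzW : ∀ h : H, (h : G) ∈ S → (h : G) * z₀ = z₀ * h := by
    intro h hh
    have h1 := Subgroup.mem_center_iff.mp hz (⟨h, hh⟩ : W)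
    exact congrArg (fun y : W => ((y : H) : G)) h1
  -- a simple quotient
  let 𝒬 : Set (Subgroup S) := {Q | Q.Normal ∧ Q ≠ ⊤}
  have h𝒬 : 𝒬.Nonempty := ⟨⊥, inferInstance, bot_ne_top⟩
  obtain ⟨Q, hQmax⟩ := 𝒬.toFinite.exists_maximal h𝒬
  haveI hQn : Q.Normal := hQmax.prop.1
  have hQtop : Q ≠ ⊤ := hQmax.prop.2
  let p : S →* S ⧸ Q := QuotientGroup.mk' Q
  have hp : Function.Surjective p := QuotientGroup.mk'_surjective Q
  have hpker : ∀ x : S, p x = 1 ↔ x ∈ Q := fun x => QuotientGroup.eq_one_iff x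
  haveI hTnt : Nontrivial (S ⧸ Q) := by
    by_contra h
    rw [not_nontrivial_iff_subsingleton] at h
    apply hQtop
    rw [eq_top_iff]
    intro x _
    exact (hpker x).mp (Subsingleton.elim _ _)
  haveI hTsimple : IsSimpleGroup (S ⧸ Q) := by
    refine ⟨fun N hN => ?_⟩
    haveI := hN
    by_cases h : N.comap p = ⊤
    · right
      rw [eq_top_iff]
      intro y _
      obtain ⟨x, rfl⟩ := hp y
      have h1 : x ∈ N.comap p := by
        rw [h]
        trivial
      exact h1
    · left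
      have h1 : Q ≤ N.comap p := by
        intro x hx
        show p x ∈ N
        rw [(hpker x).mpr hx]
        exact N.one_mem
      have h2 : N.comap p ∈ 𝒬 := ⟨inferInstance, h⟩
      have h3 := hQmax.le_of_ge h2 h1
      rw [eq_bot_iff]
      intro y hy
      obtain ⟨x, rfl⟩ := hp y
      exact Subgroup.mem_bot.mpr ((hpker x).mpr (h3 hy))
  have hTnonab : ¬ ∀ a b : S ⧸ Q, a * b = b * a := by
    intro h
    apply hQtop
    rw [eq_top_iff, ← hcommS, commutator_def, Subgroup.commutator_le]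
    intro x _ y _
    rw [← hpker, map_commutatorElement, commutatorElement_eq_one_iff_mul_comm]
    exact h _ _
  -- a conjugate outside `Q`
  let Q₁ : Subgroup G := Q.map S.subtype
  obtain ⟨g, hg⟩ : ∃ g : G, g * z₀ * g⁻¹ ∉ Q₁ := by
    by_contra hno
    push Not at hno
    have hcl : Subgroup.normalClosure {z₀} ≤ Q₁ := by
      unfold Subgroup.normalClosure
      rw [Subgroup.closure_le]
      intro x hx
      obtain ⟨a, ha, hax⟩ := Group.mem_conjugatesOfSet_iff.mp hx
      rw [Set.mem_singleton_iff] at ha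
      rw [ha] at hax
      obtain ⟨c', hc'⟩ := isConj_iff.mp hax
      rw [← hc']
      exact hno c'
    have hclS : Subgroup.normalClosure {z₀} ≤ S := by
      apply Subgroup.normalClosure_le_normal
      rintro _ rfl
      exact hz₀S
    rcases hSmin _ inferInstance hclS with h | h
    · have h1 : z₀ ∈ Subgroup.normalClosure {z₀} := Subgroup.subset_normalClosure rfl
      rw [h] at h1
      exact hz₀1 h1
    · apply hQtop
      rw [eq_top_iff]
      intro x _
      have h0 : (x : G) ∈ Subgroup.normalClosure {z₀} := by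
        rw [h]
        exact x.2
      have h1 : (x : G) ∈ Q₁ := hcl h0
      obtain ⟨y, hy, hyx⟩ := h1
      have h2 : y = x := Subtype.ext hyx
      rwa [← h2]
  let z₁ : S := ⟨g * z₀ * g⁻¹, hSn.conj_mem z₀ hz₀S g⟩
  have hz₁Q : z₁ ∉ Q := fun h => hg ⟨z₁, h, rfl⟩
  let H₁ : Subgroup G := H.map (MulAut.conj g).toMonoidHom
  have hsup₁ : S ⊔ H₁ = ⊤ := by
    rw [eq_top_iff]
    intro y _
    have hg' : g⁻¹ * y * g ∈ S ⊔ H := by
      rw [hsup]
      trivial
    obtain ⟨s, hs, h, hh, hsh⟩ := Subgroup.mem_sup_of_normal_left.mp hg'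
    have h1 : y = (g * s * g⁻¹) * (g * h * g⁻¹) := by
      have h2 : (g * s * g⁻¹) * (g * h * g⁻¹) = g * (s * h) * g⁻¹ := by group
      rw [h2, hsh]
      group
    rw [h1]
    exact Subgroup.mul_mem_sup (hSn.conj_mem s hs g) ⟨h, hh, by simp [MulAut.conj_apply]⟩
  have hcomm₁ : ∀ x : S, (x : G) ∈ H₁ → x * z₁ = z₁ * x := by
    rintro x ⟨h, hh, hhx⟩
    have hhx' : g * h * g⁻¹ = x := by simpa [MulAut.conj_apply] using hhx
    have hhS : h ∈ S := by
      have h1 : h = g⁻¹ * x * g := by
        rw [← hhx']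
        group
      rw [h1]
      have h2 := hSn.conj_mem x x.2 g⁻¹
      simpa using h2
    have h1 := hzW ⟨h, hh⟩ hhS
    apply Subtype.ext
    show (x : G) * (g * z₀ * g⁻¹) = (g * z₀ * g⁻¹) * x
    rw [← hhx']
    have h2 : h * z₀ = z₀ * h := h1
    calc g * h * g⁻¹ * (g * z₀ * g⁻¹) = g * (h * z₀) * g⁻¹ := by group
      _ = g * (z₀ * h) * g⁻¹ := by rw [h2]
      _ = _ := by group
  -- the contradiction
  have hx1 : p z₁ ≠ 1 := fun h => hz₁Q ((hpker _).mp h)
  have hdiv : (Subgroup.centralizer ({p z₁} : Set (S ⧸ Q))).index ∣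
      (Subgroup.centralizer ({z₁} : Set S)).index := by
    rw [← Subgroup.index_comap_of_surjective _ hp]
    apply Subgroup.index_dvd_of_le
    intro x hx
    rw [Subgroup.mem_centralizer_singleton_iff] at hx
    rw [Subgroup.mem_comap, Subgroup.mem_centralizer_singleton_iff]
    rw [← map_mul, hx, map_mul]
  obtain ⟨θ, hθ1, hθc⟩ := burnside_simple hTnonab hx1 _ hdiv
  let θ' : S → ℂ := (θ : S ⧸ Q → ℂ) ∘ p
  have hθ' : IsIrrCharacter S θ' := isIrrCharacter_comp_of_surjective p hp θ.2
  have hθ'1 : θ' ≠ fun _ => 1 := by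
    intro h
    apply hθ1
    funext y
    obtain ⟨x, rfl⟩ := hp y
    exact congrFun h x
  have h1 := hkey H₁ z₁ hsup₁ hcomm₁ ⟨θ', hθ'⟩ hθ'1
  apply hθc
  change (charDegree θ').Coprime _ at h1
  rwa [charDegree_comp] at h1

/-- **Groups with at most three degree values are solvable.** -/
theorem solvable_of_three : ∀ (n : ℕ) (G : Type u) [Group G] [Finite G] (a b : ℕ), Nat.card G = n →
    Three G a b → Group.IsSolvable G := by
  intro n
  induction n using Nat.strong_induction_on with
  | _ n ih =>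
  intro G _ _ a b hn hTh
  classical
  haveI : Fintype G := Fintype.ofFinite G
  by_contra hns
  have htwo : ∀ c, Two G c → False := fun c h => hns (solvable_of_two _ G c rfl h)
  obtain ⟨χa, hχa⟩ : ∃ χ : IrrCharacter G, charDegree (χ : G → ℂ) = a := by
    by_contra h
    push Not at h
    apply htwo b
    intro χ
    rcases hTh χ with h1 | h1 | h1
    · exact Or.inl h1
    · exact absurd h1 (h χ)
    · exact Or.inr h1
  obtain ⟨χb, hχb⟩ : ∃ χ : IrrCharacter G, charDegree (χ : G → ℂ) = b := by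
    by_contra h
    push Not at h
    apply htwo a
    intro χ
    rcases hTh χ with h1 | h1 | h1
    · exact Or.inl h1
    · exact Or.inr h1
    · exact absurd h1 (h χ)
  have ha1 : a ≠ 1 := by
    rintro rfl
    apply htwo b
    intro χ
    rcases hTh χ with h1 | h1 | h1
    · exact Or.inl h1
    · exact Or.inl h1
    · exact Or.inr h1
  have hb1 : b ≠ 1 := by
    rintro rfl
    apply htwo a
    intro χ
    rcases hTh χ with h1 | h1 | h1
    · exact Or.inl h1
    · exact Or.inr h1
    · exact Or.inl h1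
  have hab : a ≠ b := by
    rintro rfl
    apply htwo a
    intro χ
    rcases hTh χ with h1 | h1 | h1
    · exact Or.inl h1
    · exact Or.inr h1
    · exact Or.inr h1
  have ha0 : a ≠ 0 := by
    rw [← hχa]
    exact charDegree_ne_zero χa.2
  have hb0 : b ≠ 0 := by
    rw [← hχb]
    exact charDegree_ne_zero χb.2
  haveI hnt : Nontrivial G := by
    by_contra h
    rw [not_nontrivial_iff_subsingleton] at h
    exact hns (Group.isSolvable_of_comm (fun x y => Subsingleton.elim _ _))
  let 𝒮 : Set (Subgroup G) := {N | N.Normal ∧ N ≠ ⊥}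
  obtain ⟨S, hSmin⟩ := 𝒮.toFinite.exists_minimal ⟨⊤, inferInstance, top_ne_bot⟩
  haveI hSn : S.Normal := hSmin.prop.1
  have hSne : S ≠ ⊥ := hSmin.prop.2
  haveI : Fintype S := Fintype.ofFinite S
  have hSnt : Nontrivial S := (Subgroup.nontrivial_iff_ne_bot S).mpr hSne
  have hlt : Nat.card (G ⧸ S) < n := by
    have h1 := Subgroup.card_mul_index S
    have h2 : 1 < Nat.card S := Finite.one_lt_card
    have h3 : 0 < S.index := Nat.pos_of_ne_zero Subgroup.index_ne_zero_of_finite
    have h4 : Nat.card (G ⧸ S) = S.index := rfl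
    rw [h4, ← hn, ← h1]
    nlinarith
  have hquot : Group.IsSolvable (G ⧸ S) := ih _ hlt (G ⧸ S) a b rfl
    (hTh.of_surjective (QuotientGroup.mk' S) (QuotientGroup.mk'_surjective S))
  have hSmin' : ∀ N : Subgroup G, N.Normal → N ≤ S → N = ⊥ ∨ N = S := by
    intro N hN hle
    by_cases h : N = ⊥
    · exact Or.inl h
    · exact Or.inr (le_antisymm hle (hSmin.le_of_le ⟨hN, h⟩ hle))
  have hext : ∀ (K : Subgroup G) [K.Normal], Group.IsSolvable K → Group.IsSolvable (G ⧸ K) →
      Group.IsSolvable G := by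
    intro K _ h1 h2
    exact Group.isSolvable_of_ker_le_range K.subtype (QuotientGroup.mk' K) (by
      intro x hx
      have h3 : x ∈ K := by
        rw [MonoidHom.mem_ker] at hx
        exact (QuotientGroup.eq_one_iff x).mp hx
      exact ⟨⟨x, h3⟩, rfl⟩)
  have hperf : ⁅S, S⁆ = S := by
    rcases hSmin' ⁅S, S⁆ inferInstance (Subgroup.commutator_le_left S S) with h | h
    · exfalso
      apply hns
      refine hext S (Group.isSolvable_of_comm (fun x y => ?_)) hquot
      apply Subtype.ext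
      have h1 := Subgroup.commutator_mem_commutator x.2 y.2
      rw [h, Subgroup.mem_bot, commutatorElement_eq_one_iff_mul_comm] at h1
      exact h1
    · exact h
  have hcop : a.Coprime b := by
    by_contra hnc
    obtain ⟨p, hp, hpa, hpb⟩ := Nat.Prime.not_coprime_iff_dvd.mp hnc
    apply hns
    have hdeg : ∀ χ : IrrCharacter G, charDegree (χ : G → ℂ) ≠ 1 → p ∣ charDegree (χ : G → ℂ) := by
      intro χ hχ
      rcases hTh χ with h | h | h
      · exact absurd h hχ
      · rw [h]
        exact hpa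
      · rw [h]
        exact hpb
    obtain ⟨K, hKn, hKc, k, hKi⟩ := Cfsg.Agent.S4456.result p hp hdeg
    haveI := hKn
    haveI : Fintype K := Fintype.ofFinite K
    have hKcG : ¬ p ∣ Nat.card K := fun h => by
      have := Nat.Coprime.eq_one_of_dvd hKc.symm h
      exact hp.one_lt.ne' this
    have hKlt : Nat.card K < Nat.card G := by
      have h1 := Subgroup.card_mul_index K
      have hk : k ≠ 0 := by
        rintro rfl
        rw [pow_zero] at hKi
        rw [hKi, mul_one] at h1
        apply hKcG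
        rw [h1]
        have h2 := charDegree_dvd_card χa.2
        rw [hχa] at h2
        exact hpa.trans h2
      rw [hKi] at h1
      have h2 : 1 < p ^ k := Nat.one_lt_pow hk hp.one_lt
      have h3 : 0 < Nat.card K := Nat.card_pos
      nlinarith
    have hK3 : Three K (a / p ^ a.factorization p) (b / p ^ b.factorization p) := by
      intro θ
      obtain ⟨χ, hχ⟩ := Cfsg.Agent.Lib.GlaubAbove.exists_irr_over K θ
      have h1 := degree_of_complement K hp hKc hKi χ θ hχ
      rcases hTh χ with h | h | h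
      · left
        rw [h1, h]
        simp
      · right
        left
        rw [h1, h]
      · right
        right
        rw [h1, h]
    have hKs := ih (Nat.card K) (hn ▸ hKlt) K _ _ rfl hK3
    have hQ : IsPGroup p (G ⧸ K) := IsPGroup.of_card (n := k) hKi
    refine hext K hKs ?_
    haveI : Fact p.Prime := ⟨hp⟩
    haveI := hQ.isNilpotent
    exact IsNilpotent.to_isSolvable
  obtain ⟨c, hc⟩ := exists_one_degree hTh hcop hab ha0 hb0 S hSmin' hperf
  exact no_one_degree S hSne hSmin' hperf c hc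

/-- **A finite group with at most three degree values besides one has derived length at most
three.** -/
theorem derived_three {G : Type u} [Group G] [Finite G] {a b : ℕ} (hTh : Three G a b) :
    derivedSeries G 3 = ⊥ :=
  derived_three_of_solvable (solvable_of_three _ G a b rfl hTh) hTh

end Final

end Cfsg.Agent.Lib.ThreeDeg31
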