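import Mathlib
import Cfsg.Agent.Lib.ThreeDeg31S
import Cfsg.Agent.Lib.DefectOne
import Cfsg.Agent.Lib.CharCentral

/-!
# Vanishing of irreducible characters in simple groups, and Sylow subgroups of small-degree characters
-/

set_option autoImplicit false
set_option linter.style.haveILetI false
set_option linter.unusedSectionVars false
set_option linter.unusedVariables false

namespace Cfsg.Agent.Lib.S4501Gen9

open Cfsg Cfsg.Agent.Lib.CharBasic Cfsg.Agent.Lib.CharKernel
open Module
open scoped ComplexConjugate commutatorElement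

universe u

variable {G : Type u} [Group G] [Finite G]

/-- The centre of a nonabelian simple group is trivial. -/
theorem center_eq_bot [IsSimpleGroup G] (hna : ∃ x y : G, x * y ≠ y * x) :
    Subgroup.center G = ⊥ := by
  refine (inferInstance : (Subgroup.center G).Normal).eq_bot_or_eq_top.resolve_right fun h => ?_
  obtain ⟨x, y, hxy⟩ := hna
  apply hxy
  have : x ∈ Subgroup.center G := by rw [h]; trivial
  exact (Subgroup.mem_center_iff.mp this y).symm

/-- **Burnside's vanishing lemma** in a nonabelian simple group. -/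
theorem irr_eq_zero [IsSimpleGroup G] (hna : ∃ x y : G, x * y ≠ y * x) {χ : G → ℂ}
    (hχ : IsIrrCharacter G χ) (hne : χ ≠ fun _ => 1) {x : G} (hx : x ≠ 1)
    (hcop : (charDegree χ).Coprime (Subgroup.centralizer ({x} : Set G)).index) : χ x = 0 := by
  classical
  haveI : Fintype G := Fintype.ofFinite G
  obtain ⟨n, ρ, hρ, hχρ⟩ := hχ
  subst hχρ
  have hdeg : charDegree (ρ.character) = n := Cfsg.Agent.Lib.TwoDeg.charDegree_of_one (by
    rw [Representation.char_one]
    simp)
  have hcop' : Nat.Coprime (finrank ℂ (Fin n → ℂ)) (Subgroup.centralizer ({x} : Set G)).index := by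
    rw [finrank_fin_fun, ← hdeg]
    exact hcop
  rcases Cfsg.Agent.Lib.CharIntegrality.character_eq_zero_or_norm_eq ρ hρ x hcop' with h0 | hB'
  · exact h0
  exfalso
  obtain ⟨ω, hω⟩ := (Cfsg.Agent.Lib.CharValues.norm_character_eq_iff ρ x).mp hB'
  have hker := Cfsg.Agent.Lib.BurnsidePQ.ker_eq_bot_of_simple ρ hρ hne
  have hinj : Function.Injective ρ := (MonoidHom.ker_eq_bot_iff ρ).mp hker
  apply hx
  have hgc : x ∈ Subgroup.center G := by
    rw [Subgroup.mem_center_iff]
    intro y
    apply hinj
    rw [map_mul, map_mul, hω]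
    ext v
    simp
  rw [center_eq_bot hna] at hgc
  exact hgc

/-- A function whose restriction to `H` vanishes off the identity: `|H|` divides the degree. -/
theorem card_dvd_of_vanish {χ : G → ℂ} (hχ : IsCharacter G χ) (H : Subgroup G)
    (hv : ∀ h ∈ H, h ≠ 1 → χ h = 0) : Nat.card H ∣ charDegree χ := by
  classical
  haveI : Fintype H := Fintype.ofFinite H
  obtain ⟨m, hm⟩ := classInner_char_char (G := H) (isCharacter_restrict H hχ) isCharacter_one
  have hcard : (Nat.card H : ℂ) ≠ 0 := natCard_ne_zero'
  have h1 : classInner (fun n : H => χ n) (fun _ : H => (1 : ℂ)) =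
      (Nat.card H : ℂ)⁻¹ * χ 1 := by
    unfold classInner
    congr 1
    rw [Finset.sum_eq_single (1 : H)]
    · simp
    · intro b _ hb
      have hb1 : (b : G) ≠ 1 := fun h => hb (Subtype.ext h)
      simp only [hv b b.2 hb1, zero_mul]
    · simp
  rw [h1, one_eq_charDegree hχ] at hm
  have h2 : ((charDegree χ : ℕ) : ℂ) = (Nat.card H : ℂ) * (m : ℂ) := by
    field_simp at hm
    linear_combination hm
  have h3 : charDegree χ = Nat.card H * m := by exact_mod_cast h2
  exact ⟨m, h3⟩

/-- The index of `C(h)` divides the index of any subgroup of `C(h)`. -/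
theorem index_centralizer_dvd {Q : Subgroup G} {h : G} (hQ : ∀ q ∈ Q, q * h = h * q) :
    (Subgroup.centralizer ({h} : Set G)).index ∣ Q.index := by
  apply Subgroup.index_dvd_of_le
  intro q hq
  rw [Subgroup.mem_centralizer_singleton_iff]
  exact hQ q hq

/-- If a nonprincipal irreducible character has degree the prime `l` and `Q` is a subgroup of index prime to `l`,
then the centralizer of `Q` has order dividing `l`. -/
theorem card_centralizer_dvd [IsSimpleGroup G] (hna : ∃ x y : G, x * y ≠ y * x) {χ : G → ℂ}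
    (hχ : IsIrrCharacter G χ) (hne : χ ≠ fun _ => 1) {l : ℕ} (hl : l.Prime)
    (hdeg : charDegree χ = l) (Q : Subgroup G) (hQ : ¬ l ∣ Q.index) :
    Nat.card (Subgroup.centralizer (Q : Set G)) ∣ l := by
  rw [← hdeg]
  apply card_dvd_of_vanish (IsIrrCharacter.isCharacter hχ)
  intro h hh h1
  apply irr_eq_zero hna hχ hne h1
  rw [hdeg]
  have hd : (Subgroup.centralizer ({h} : Set G)).index ∣ Q.index :=
    index_centralizer_dvd fun q hq => (Subgroup.mem_centralizer_iff.1 hh q hq)
  exact (Nat.Prime.coprime_iff_not_dvd hl).2 fun h2 => hQ (h2.trans hd)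

/-- A nonprincipal irreducible character of a simple group is faithful. -/
theorem eq_one_of_value [IsSimpleGroup G] {χ : G → ℂ} (hχ : IsIrrCharacter G χ)
    (hne : χ ≠ fun _ => 1) {x : G} (hx : χ x = χ 1) : x = 1 := by
  classical
  haveI : Fintype G := Fintype.ofFinite G
  have hic := IsIrrCharacter.isCharacter hχ
  rcases (inferInstance : (charKer hic).Normal).eq_bot_or_eq_top with h | h
  · have h1 : x ∈ charKer hic := (mem_charKer hic).2 hx
    rw [h] at h1
    exact h1
  · exfalso
    have hall : ∀ g, χ g = χ 1 := fun g => (mem_charKer hic).1 (by rw [h]; trivial)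
    apply hne
    have h0 := classInner_irr_ne hχ (isIrrCharacter_one (G := G)) hne
    unfold classInner at h0
    have h1 : ∀ g : G, χ g * conj ((fun _ : G => (1 : ℂ)) g) = χ 1 := by
      intro g
      rw [hall g]
      simp
    simp_rw [h1] at h0
    rw [Finset.sum_const, Finset.card_univ, ← Nat.card_eq_fintype_card, nsmul_eq_mul, ← mul_assoc,
      inv_mul_cancel₀ natCard_ne_zero', one_mul] at h0
    exact absurd h0 (Cfsg.Agent.Lib.GenChar.isIrr_one_ne_zero hχ)

/-- A constituent of a restriction has degree at most the degree. -/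
theorem degree_le_of_constituent {A : Type u} [Group A] [Fintype A] {χ : A → ℂ} (hχ : IsCharacter A χ)
    {θ : IrrCharacter A} (hθ : classInner χ (θ : A → ℂ) ≠ 0) :
    charDegree (θ : A → ℂ) ≤ charDegree χ ∧
      (charDegree (θ : A → ℂ) = charDegree χ → χ = (θ : A → ℂ)) := by
  classical
  obtain ⟨m, hm⟩ := exists_nat_decomp hχ
  have h1 : classInner χ (θ : A → ℂ) = m θ := by
    rw [hm]
    exact classInner_nat_decomp m _ θ.2
  have hm0 : m θ ≠ 0 := by
    intro h0
    rw [h1, h0] at hθ
    simp at hθ
  have hval : χ 1 = ∑ i, (m i : ℂ) * (i : A → ℂ) 1 := by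
    have := congrFun hm 1
    simpa [Finset.sum_apply] using this
  have hdeg : charDegree χ = ∑ i, m i * charDegree (i : A → ℂ) := by
    have h2 : ((charDegree χ : ℕ) : ℂ) = ((∑ i, m i * charDegree (i : A → ℂ) : ℕ) : ℂ) := by
      rw [← one_eq_charDegree hχ, hval]
      push_cast
      refine Finset.sum_congr rfl fun i _ => ?_
      rw [one_eq_charDegree (IsIrrCharacter.isCharacter i.2)]
    exact_mod_cast h2
  have hd : m θ * charDegree (θ : A → ℂ) ≤ charDegree χ := by
    rw [hdeg]
    exact Finset.single_le_sum (f := fun i => m i * charDegree (i : A → ℂ))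
      (fun i _ => Nat.zero_le _) (Finset.mem_univ θ)
  have hle : charDegree (θ : A → ℂ) ≤ charDegree χ := by
    calc charDegree (θ : A → ℂ) ≤ m θ * charDegree (θ : A → ℂ) :=
          Nat.le_mul_of_pos_left _ (Nat.pos_of_ne_zero hm0)
      _ ≤ _ := hd
  refine ⟨hle, fun heq => ?_⟩
  have hdpos : 0 < charDegree (θ : A → ℂ) := Nat.pos_of_ne_zero (charDegree_ne_zero θ.2)
  have hmθ : m θ = 1 := by
    have : m θ * charDegree (θ : A → ℂ) ≤ 1 * charDegree (θ : A → ℂ) := by
      rw [one_mul]
      exact hd.trans_eq heq.symm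
    have := Nat.le_of_mul_le_mul_right this hdpos
    omega
  have hrest : ∀ i ∈ Finset.univ.erase θ, m i = 0 := by
    intro i hi
    have hne : i ≠ θ := (Finset.mem_erase.1 hi).1
    have h3 : ∑ j, m j * charDegree (j : A → ℂ) =
        m θ * charDegree (θ : A → ℂ) + ∑ j ∈ Finset.univ.erase θ, m j * charDegree (j : A → ℂ) :=
      (Finset.add_sum_erase _ _ (Finset.mem_univ θ)).symm
    rw [← hdeg, hmθ, one_mul, heq] at h3
    have h4 : ∑ j ∈ Finset.univ.erase θ, m j * charDegree (j : A → ℂ) = 0 := by omega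
    have h5 := (Finset.sum_eq_zero_iff.1 h4) i hi
    have hipos : charDegree (i : A → ℂ) ≠ 0 := charDegree_ne_zero i.2
    exact (Nat.mul_eq_zero.1 h5).resolve_right hipos
  rw [hm, ← Finset.add_sum_erase _ _ (Finset.mem_univ θ), hmθ,
    Finset.sum_eq_zero (fun i hi => by rw [hrest i hi, zero_nsmul])]
  simp

/-- The `l`-subgroups in the kernel of the constituents: a faithful character of degree `d`, all of whose
constituents on `Q` are linear. -/
theorem comm_of_constituents [IsSimpleGroup G] {χ : G → ℂ} (hχ : IsIrrCharacter G χ)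
    (hne : χ ≠ fun _ => 1) (Q : Subgroup G) [Fintype Q]
    (h : ∀ θ : IrrCharacter Q, classInner (fun n : Q => χ n) (θ : Q → ℂ) ≠ 0 →
      charDegree (θ : Q → ℂ) = 1) : ∀ a ∈ Q, ∀ b ∈ Q, a * b = b * a := by
  classical
  have h1 := Cfsg.Agent.Lib.ThreeDeg31.trivial_of_constituents Q (IsIrrCharacter.isCharacter hχ) h
  intro a ha b hb
  have h2 : ⁅a, b⁆ = 1 := by
    apply eq_one_of_value hχ hne
    apply h1
    exact Subgroup.commutator_mem_commutator ha hb
  exact commutatorElement_eq_one_iff_mul_comm.1 h2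

end Cfsg.Agent.Lib.S4501Gen9
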