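import Mathlib
import Cfsg.Agent.Lib.DefectOne

/-!
# Sylow subgroups with all nontrivial elements having the same centralizer

`P` a `p`-subgroup, `C = C_G(P) = C_G(w)` for `1 ≠ w ∈ P`, and a retraction `r : C → P` given by a power map, with
`p'`-kernel.  The generalized characters `Θ_f = Ind_C^G ((f - 1) ∘ r)` for nontrivial linear characters `f` of `P`
satisfy `⟨Θ_f, Θ_g⟩ = t + δ(f ~ g)`, `t = |N(P) : C|`.
-/

set_option autoImplicit false
set_option linter.style.haveILetI false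
set_option linter.unusedSectionVars false

namespace Cfsg.Agent.Lib.TICent

open Cfsg Cfsg.Agent.Lib.CharBasic Subgroup Cfsg.Agent.Lib.DefectOne
open scoped ComplexConjugate

variable {G : Type*} [Group G]

/-- The hypotheses. -/
structure Hyp (p : ℕ) (P C : Subgroup G) (r : ↥C →* ↥P) (e : ℕ) : Prop where
  prime : p.Prime
  pgroup : IsPGroup p P
  le : P ≤ C
  cen : centralizer (P : Set G) = C
  star : ∀ w ∈ P, w ≠ 1 → centralizer ({w} : Set G) = C
  pow : ∀ c : ↥C, ((r c : ↥P) : G) = (c : G) ^ e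
  id : ∀ z : ↥P, r ⟨z, le z.2⟩ = z
  ker : ¬ p ∣ Nat.card r.ker

section Basic

variable {p : ℕ} {P C : Subgroup G} {r : ↥C →* ↥P} {e : ℕ} (H : Hyp p P C r e)
include H

/-- Elements of `C` commute with elements of `P`. -/
theorem Hyp.comm {u v : G} (hu : u ∈ P) (hv : v ∈ C) : v * u = u * v := by
  rw [← H.cen] at hv
  exact ((mem_centralizer_iff.1 hv) u hu).symm

theorem Hyp.comm_P {u v : G} (hu : u ∈ P) (hv : v ∈ P) : v * u = u * v := H.comm hu (H.le hv)

theorem Hyp.r_coe (z : ↥P) (hz : (z : G) ∈ C) : r ⟨z, hz⟩ = z := H.id z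

theorem Hyp.r_surj : Function.Surjective r := fun z => ⟨⟨z, H.le z.2⟩, H.id z⟩

/-- The `p`-elements of `C` are in `P`. -/
theorem Hyp.mem_of_pow [Finite G] {c : G} (hc : c ∈ C) {k : ℕ} (hk : c ^ p ^ k = 1) : c ∈ P := by
  haveI : Fact p.Prime := ⟨H.prime⟩
  set c' : ↥C := ⟨c, hc⟩ with hc'
  set z : ↥P := r c' with hz
  have hzC : (z : G) ∈ C := H.le z.2
  obtain ⟨j, hj⟩ := (IsPGroup.iff_orderOf.1 H.pgroup) z
  have hzp : (z : G) ^ p ^ j = 1 := by
    have := pow_orderOf_eq_one z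
    rw [hj] at this
    exact congrArg Subtype.val this
  set y : ↥C := c' * ⟨z, hzC⟩⁻¹ with hy
  have hyker : y ∈ r.ker := by
    rw [MonoidHom.mem_ker, hy, map_mul, map_inv, H.r_coe z hzC, ← hz, mul_inv_cancel]
  have hcomm : Commute c (z : G) := (H.comm z.2 hc)
  have hpow : (y : G) ^ p ^ (k + j) = 1 := by
    have h1 : (y : G) = c * (z : G)⁻¹ := rfl
    rw [h1, (hcomm.inv_right).mul_pow, inv_pow]
    have h2 : c ^ p ^ (k + j) = 1 := by rw [pow_add, pow_mul, hk, one_pow]
    have h3 : (z : G) ^ p ^ (k + j) = 1 := by rw [add_comm, pow_add, pow_mul, hzp, one_pow]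
    rw [h2, h3]
    simp
  have hy1 : y = 1 := by
    have h4 : (⟨y, hyker⟩ : r.ker) = 1 := by
      have h5 : (⟨y, hyker⟩ : r.ker) ^ p ^ (k + j) = 1 := by
        apply Subtype.ext
        apply Subtype.ext
        exact hpow
      have h6 := orderOf_dvd_natCard (⟨y, hyker⟩ : r.ker)
      have h7 : orderOf (⟨y, hyker⟩ : r.ker) ∣ p ^ (k + j) := orderOf_dvd_of_pow_eq_one h5
      obtain ⟨l, -, hl⟩ := (Nat.dvd_prime_pow H.prime).1 h7
      cases l with
      | zero =>
        rw [pow_zero] at hl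
        exact orderOf_eq_one_iff.1 hl
      | succ l =>
        exfalso
        apply H.ker
        rw [hl] at h6
        exact dvd_trans (dvd_pow_self p (Nat.succ_ne_zero l)) h6
    exact congrArg Subtype.val h4
  have h8 : c' = ⟨z, hzC⟩ := by
    rw [hy] at hy1
    exact mul_inv_eq_one.1 hy1
  have h9 : c = z := congrArg Subtype.val h8
  rw [h9]
  exact z.2

/-- The TI property. -/
theorem Hyp.mem_normalizer [Finite G] {c g : G} (hc : c ∈ C) (hgc : g⁻¹ * c * g ∈ C) (hne : c ^ e ≠ 1) :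
    g ∈ normalizer (P : Set G) := by
  haveI : Fact p.Prime := ⟨H.prime⟩
  have hw : c ^ e ∈ P := by
    have := (r ⟨c, hc⟩).2
    rwa [H.pow] at this
  have hw' : (g⁻¹ * c * g) ^ e ∈ P := by
    have := (r ⟨_, hgc⟩).2
    rwa [H.pow] at this
  have hconj : (g⁻¹ * c * g) ^ e = g⁻¹ * c ^ e * g := by
    have := conj_pow (a := g⁻¹) (b := c) (i := e)
    simpa using this
  have hne' : g⁻¹ * c ^ e * g ≠ 1 := by
    intro h
    apply hne
    have h2 : c ^ e = g * (g⁻¹ * c ^ e * g) * g⁻¹ := by group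
    rw [h2, h]
    group
  rw [hconj] at hw'
  have hC1 := H.star _ hw hne
  have hC2 := H.star _ hw' hne'
  have hg : ∀ d ∈ C, g⁻¹ * d * g ∈ C := by
    intro d hd
    rw [← hC2, mem_centralizer_singleton_iff]
    rw [← hC1, mem_centralizer_singleton_iff] at hd
    calc g⁻¹ * d * g * (g⁻¹ * c ^ e * g) = g⁻¹ * (d * c ^ e) * g := by group
      _ = g⁻¹ * (c ^ e * d) * g := by rw [hd]
      _ = g⁻¹ * c ^ e * g * (g⁻¹ * d * g) := by group
  have hPP : ∀ z ∈ P, g⁻¹ * z * g ∈ P := by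
    intro z hz
    obtain ⟨k, hk⟩ := (IsPGroup.iff_orderOf.1 H.pgroup) ⟨z, hz⟩
    apply H.mem_of_pow (hg z (H.le hz)) (k := k)
    have h3 : (g⁻¹ * z * g) ^ p ^ k = g⁻¹ * z ^ p ^ k * g := by
      have := conj_pow (a := g⁻¹) (b := z) (i := p ^ k)
      simpa using this
    rw [h3]
    have h4 := pow_orderOf_eq_one (⟨z, hz⟩ : ↥P)
    rw [hk] at h4
    have h5 : z ^ p ^ k = 1 := congrArg Subtype.val h4
    rw [h5]
    group
  -- finiteness
  have hinj : Function.Injective (fun z : ↥P => (⟨g⁻¹ * z * g, hPP z z.2⟩ : ↥P)) := by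
    intro a b hab
    have h6 : g⁻¹ * (a : G) * g = g⁻¹ * (b : G) * g := congrArg Subtype.val hab
    apply Subtype.ext
    simpa using h6
  have hsurj := (Finite.injective_iff_surjective.1 hinj)
  rw [mem_normalizer_iff]
  intro z
  constructor
  · intro hz
    obtain ⟨a, ha⟩ := hsurj ⟨z, hz⟩
    have h7 : g⁻¹ * (a : G) * g = z := congrArg Subtype.val ha
    rw [← h7]
    have : g * (g⁻¹ * (a : G) * g) * g⁻¹ = a := by group
    rw [this]
    exact a.2
  · intro hz
    have := hPP _ hz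
    have e1 : g⁻¹ * (g * z * g⁻¹) * g = z := by group
    rwa [e1] at this

/-- The normalizer of `P` normalizes `C`. -/
theorem Hyp.conj_mem (x : normalizer (P : Set G)) (c : ↥C) : (x : G)⁻¹ * c * x ∈ C := by
  have h0 : (x : G)⁻¹ * c * x ∈ centralizer (P : Set G) := by
    rw [mem_centralizer_iff]
    intro z hz
    have h1 : (x : G) * z * (x : G)⁻¹ ∈ P := (mem_normalizer_iff.1 x.2 z).1 hz
    have h2 := H.comm h1 c.2
    calc z * ((x : G)⁻¹ * c * x) = (x : G)⁻¹ * (x * z * (x : G)⁻¹ * c) * x := by group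
      _ = (x : G)⁻¹ * (c * (x * z * (x : G)⁻¹)) * x := by rw [← h2]
      _ = (x : G)⁻¹ * c * x * z := by group
  rwa [H.cen] at h0

/-- Conjugation on `C`. -/
def Hyp.cjC (x : normalizer (P : Set G)) (c : ↥C) : ↥C := ⟨(x : G)⁻¹ * c * x, H.conj_mem x c⟩

@[simp] theorem Hyp.cjC_coe (x : normalizer (P : Set G)) (c : ↥C) : ((H.cjC x c : ↥C) : G) = (x : G)⁻¹ * c * x := rfl

theorem Hyp.r_cjC (x : normalizer (P : Set G)) (c : ↥C) : r (H.cjC x c) = cj P x (r c) := by
  apply Subtype.ext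
  rw [H.pow, cj_coe, H.pow, H.cjC_coe]
  have := conj_pow (a := (x : G)⁻¹) (b := (c : G)) (i := e)
  simpa using this

/-- Bijectivity of conjugation on `C`. -/
theorem Hyp.cjC_bij (x : normalizer (P : Set G)) : Function.Bijective (H.cjC x) := by
  constructor
  · intro a b hab
    have h1 : (x : G)⁻¹ * a * x = (x : G)⁻¹ * b * x := congrArg Subtype.val hab
    apply Subtype.ext
    simpa using h1
  · intro b
    refine ⟨H.cjC x⁻¹ b, ?_⟩
    apply Subtype.ext
    simp only [Hyp.cjC_coe, Subgroup.coe_inv, inv_inv]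
    group

/-- The action of `N/C` on `P^#` is fixed point free, hence the stabilizer of a nontrivial `g` is `C`. -/
theorem Hyp.stabilizer_eq [Finite G] {g : ↥P →* ℂˣ} (hg : g ≠ 1) :
    MulAction.stabilizer ↥(normalizer (P : Set G)) g = C.subgroupOf (normalizer (P : Set G)) := by
  ext x
  rw [MulAction.mem_stabilizer_iff, Subgroup.mem_subgroupOf]
  constructor
  · intro hx
    by_contra hxC
    -- `y ↦ x⁻¹ y x y⁻¹` is injective, hence surjective
    let φ : ↥P → ↥P := fun w => cj P x w * w⁻¹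
    have hφmul : ∀ a b, φ (a * b) = φ a * φ b := by
      intro a b
      simp only [φ, map_mul, mul_inv_rev]
      apply Subtype.ext
      simp only [Subgroup.coe_mul, Subgroup.coe_inv]
      have hc1 := H.comm_P (cj P x b).2 (a⁻¹ : ↥P).2
      simp only [Subgroup.coe_inv] at hc1
      have hc2 := H.comm_P (b⁻¹ : ↥P).2 (a⁻¹ : ↥P).2
      simp only [Subgroup.coe_inv] at hc2
      calc ((cj P x a : ↥P) : G) * ((cj P x b : ↥P) : G) * ((b : G)⁻¹ * (a : G)⁻¹)
          = ((cj P x a : ↥P) : G) * (((cj P x b : ↥P) : G) * (b : G)⁻¹ * (a : G)⁻¹) := by group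
        _ = ((cj P x a : ↥P) : G) * ((a : G)⁻¹ * (((cj P x b : ↥P) : G) * (b : G)⁻¹)) := by
            congr 1
            have hc3 := H.comm_P (a⁻¹ : ↥P).2 (φ b).2
            simp only [Subgroup.coe_inv] at hc3
            exact hc3
        _ = _ := by group
    have hφinj : Function.Injective φ := by
      intro a b hab
      have h1 : φ (a * b⁻¹) = 1 := by
        have hφinv : φ b⁻¹ = (φ b)⁻¹ := by
          have h2 := hφmul b b⁻¹
          have h3 : φ 1 = 1 := by simp [φ]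
          rw [mul_inv_cancel, h3] at h2
          exact (inv_eq_of_mul_eq_one_right h2.symm).symm
        rw [hφmul, hab, hφinv, mul_inv_cancel]
      by_contra hne
      have hne' : a * b⁻¹ ≠ 1 := fun h => hne (mul_inv_eq_one.1 h)
      have hne2 : ((a * b⁻¹ : ↥P) : G) ≠ 1 := fun h => hne' (Subtype.ext h)
      have h4 : cj P x (a * b⁻¹) = a * b⁻¹ := mul_inv_eq_one.1 h1
      have h5 : (x : G)⁻¹ * ((a * b⁻¹ : ↥P) : G) * x = ((a * b⁻¹ : ↥P) : G) := congrArg Subtype.val h4
      apply hxC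
      rw [← H.star _ (a * b⁻¹ : ↥P).2 hne2, mem_centralizer_singleton_iff]
      calc (x : G) * ((a * b⁻¹ : ↥P) : G) = x * ((x : G)⁻¹ * ((a * b⁻¹ : ↥P) : G) * x) := by rw [h5]
        _ = ((a * b⁻¹ : ↥P) : G) * x := by group
    have hφsurj := Finite.injective_iff_surjective.1 hφinj
    apply hg
    ext w
    obtain ⟨y, rfl⟩ := hφsurj w
    have h6 : g (cj P x y) = g y := by
      rw [← DefectOne.smul_apply, hx]
    simp only [φ, map_mul, map_inv, h6, mul_inv_cancel, MonoidHom.one_apply]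
  · intro hx
    ext w
    rw [DefectOne.smul_apply]
    congr 2
    apply Subtype.ext
    rw [cj_coe]
    have h5 := H.comm w.2 hx
    calc (x : G)⁻¹ * w * x = (x : G)⁻¹ * (x * w) := by rw [mul_assoc, h5]
      _ = w := by group

theorem Hyp.le_normalizer : C ≤ normalizer (P : Set G) := by
  intro c hc
  rw [mem_normalizer_iff]
  intro z
  have h := H.comm (u := z) (v := c)
  constructor
  · intro hz
    rw [h hz hc]
    simpa using hz
  · intro hz
    have h1 := H.comm (u := z) (v := c)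
    by_contra hz'
    have h2 : c * z * c⁻¹ ∈ P := hz
    have h3 : ∀ z' ∈ P, c⁻¹ * z' * c ∈ P := by
      intro z' hz''
      have h4 := H.comm hz'' (C.inv_mem hc)
      rw [h4]
      simpa using hz''
    have := h3 _ h2
    apply hz'
    have e1 : c⁻¹ * (c * z * c⁻¹) * c = z := by group
    rwa [e1] at this

theorem Hyp.card_stabilizer [Finite G] {g : ↥P →* ℂˣ} (hg : g ≠ 1) :
    Nat.card (MulAction.stabilizer ↥(normalizer (P : Set G)) g) = Nat.card C := by
  rw [H.stabilizer_eq hg, Nat.card_congr (subgroupOfEquivOfLe H.le_normalizer).toEquiv]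

theorem Hyp.card_orbit [Finite G] {t : ℕ} (hN : Nat.card (normalizer (P : Set G)) = Nat.card C * t) (a : NT P) :
    Nat.card (MulAction.orbit ↥(normalizer (P : Set G)) a) = t := by
  have h1 := Nat.card_congr (MulAction.orbitProdStabilizerEquivGroup ↥(normalizer (P : Set G)) a)
  rw [Nat.card_prod, hN] at h1
  have h2 : Nat.card (MulAction.stabilizer ↥(normalizer (P : Set G)) a) = Nat.card C := by
    rw [← H.card_stabilizer a.2]
    apply Nat.card_congr
    apply Equiv.subtypeEquivRight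
    intro x
    rw [MulAction.mem_stabilizer_iff, MulAction.mem_stabilizer_iff]
    exact Subtype.ext_iff
  rw [h2, mul_comm] at h1
  exact Nat.eq_of_mul_eq_mul_left Nat.card_pos h1

/-- Counting the elements moving `g` to `f`. -/
theorem Hyp.card_transporter [Finite G] {g : ↥P →* ℂˣ} (hg : g ≠ 1) (f : ↥P →* ℂˣ)
    [Decidable (∃ x : normalizer (P : Set G), x • g = f)] :
    Nat.card {x : normalizer (P : Set G) // x • g = f} =
      if ∃ x : normalizer (P : Set G), x • g = f then Nat.card C else 0 := by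
  classical
  split_ifs with h
  · obtain ⟨x₀, rfl⟩ := h
    rw [← H.card_stabilizer hg]
    refine Nat.card_congr ⟨fun x => ⟨x₀⁻¹ * x.1, ?_⟩, fun y => ⟨x₀ * y.1, ?_⟩, ?_, ?_⟩
    · rw [MulAction.mem_stabilizer_iff, mul_smul, x.2, inv_smul_smul]
    · have := MulAction.mem_stabilizer_iff.1 y.2
      rw [mul_smul, this]
    · intro x
      apply Subtype.ext
      simp
    · intro y
      apply Subtype.ext
      simp
  · haveI : IsEmpty {x : normalizer (P : Set G) // x • g = f} := ⟨fun x => h ⟨x.1, x.2⟩⟩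
    simp

end Basic

section Theta

variable [Fintype G] {p : ℕ} {P C : Subgroup G} {r : ↥C →* ↥P} {e : ℕ} (H : Hyp p P C r e)

/-- `Θ_f = Ind_C^G ((f - 1) ∘ r)`. -/
noncomputable def tF (r : ↥C →* ↥P) (f : ↥P →* ℂˣ) : G → ℂ := theta C (f.comp r)

theorem tF_isGen (r : ↥C →* ↥P) (f : ↥P →* ℂˣ) : IsGeneralizedCharacter G (tF r f) := theta_isGen _

theorem tF_isClass (r : ↥C →* ↥P) (f : ↥P →* ℂˣ) : IsClassFunction G (tF r f) := theta_isClass _

include H

theorem Hyp.comp_inj {f g : ↥P →* ℂˣ} (h : f.comp r = g.comp r) : f = g := by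
  ext w
  obtain ⟨c, rfl⟩ := H.r_surj w
  exact congrArg Units.val (DFunLike.congr_fun h c)

theorem Hyp.comp_ne {f : ↥P →* ℂˣ} (hf : f ≠ 1) : f.comp r ≠ 1 := by
  intro h
  apply hf
  apply H.comp_inj
  rw [h, MonoidHom.one_comp]

omit H in
theorem alpha_comp_eq_zero (f : ↥P →* ℂˣ) {c : ↥C} (hc : r c = 1) : alpha (f.comp r) c = 0 := by
  simp [alpha, chi, hc]

theorem Hyp.alpha_smul (x : normalizer (P : Set G)) (g : ↥P →* ℂˣ) (c : ↥C) :
    alpha ((x • g).comp r) c = alpha (g.comp r) (H.cjC x c) := by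
  simp only [alpha, chi, Pi.sub_apply, MonoidHom.comp_apply, DefectOne.smul_apply, H.r_cjC]
  simp

/-- Values on `C` of a function induced from `C`, vanishing on `ker r`. -/
theorem Hyp.indFun_coe [Fintype (normalizer (P : Set G))] (β : ↥C → ℂ) (hβ : ∀ c, r c = 1 → β c = 0) (c : ↥C) :
    indFun C β (c : G) = (Nat.card C : ℂ)⁻¹ * ∑ x : normalizer (P : Set G), β (H.cjC x c) := by
  classical
  unfold indFun
  congr 1
  rw [← Fintype.sum_subtype_add_sum_subtype (fun x : G => x ∈ normalizer (P : Set G))]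
  have h2 : ∑ x : {x : G // ¬ x ∈ normalizer (P : Set G)}, extendByZero C β ((x : G)⁻¹ * (c : G) * x) = 0 := by
    apply Finset.sum_eq_zero
    intro x _
    by_cases h3 : (x : G)⁻¹ * c * x ∈ C
    · have h4 : (c : G) ^ e = 1 := by
        by_contra h5
        exact x.2 (H.mem_normalizer c.2 h3 h5)
      have h5 : r ⟨_, h3⟩ = 1 := by
        apply Subtype.ext
        rw [H.pow]
        have h6 := conj_pow (a := (x : G)⁻¹) (b := (c : G)) (i := e)
        simp only [inv_inv] at h6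
        simp only [h6, h4]
        simp
      have h7 : (x : G)⁻¹ * c * x = ((⟨_, h3⟩ : ↥C) : G) := rfl
      rw [h7, Cfsg.Agent.Lib.CharInd.extendByZero_coe, hβ _ h5]
    · exact Cfsg.Agent.Lib.CharInd.extendByZero_of_not_mem _ _ h3
  rw [h2, add_zero]
  refine Finset.sum_congr (by ext; simp) fun x _ => ?_
  have h3 : (x : G)⁻¹ * (c : G) * x = ((H.cjC x c : ↥C) : G) := rfl
  rw [h3, Cfsg.Agent.Lib.CharInd.extendByZero_coe]

/-- The Gram matrix of the `Θ_f`. -/
theorem Hyp.inner_tF {t : ℕ} (hN : Nat.card (normalizer (P : Set G)) = Nat.card C * t) {f g : ↥P →* ℂˣ}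
    (hf : f ≠ 1) (hg : g ≠ 1) [Decidable (∃ x : normalizer (P : Set G), x • g = f)] :
    classInner (tF r f) (tF r g) = (t : ℂ) + if ∃ x : normalizer (P : Set G), x • g = f then 1 else 0 := by
  classical
  haveI : Fintype ↥C := Fintype.ofFinite _
  haveI : Fintype (normalizer (P : Set G)) := Fintype.ofFinite _
  have hc0 : (Nat.card C : ℂ) ≠ 0 := by exact_mod_cast Nat.card_pos.ne'
  unfold tF theta
  rw [Cfsg.Agent.Lib.CharInd.frobenius C (alpha (f.comp r))
    (Cfsg.Agent.Lib.CharInd.indFun_isClassFunction C (alpha (g.comp r)))]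
  have h1 : (fun h : ↥C => indFun C (alpha (g.comp r)) (h : G)) =
      ∑ x : normalizer (P : Set G), ((Nat.card C : ℂ)⁻¹) • alpha ((x • g).comp r) := by
    funext h
    rw [H.indFun_coe _ (fun c hc => alpha_comp_eq_zero g hc), Finset.sum_apply]
    simp only [Pi.smul_apply, smul_eq_mul, H.alpha_smul]
    rw [Finset.mul_sum]
  rw [h1, classInner_sum_right]
  have h2 : ∀ x : normalizer (P : Set G), classInner (alpha (f.comp r))
      (((Nat.card C : ℂ)⁻¹) • alpha ((x • g).comp r)) =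
      (Nat.card C : ℂ)⁻¹ * ((if f = x • g then 1 else 0) + 1) := by
    intro x
    rw [classInner_smul_right, classInner_alpha (H.comp_ne hf) (H.comp_ne (smul_ne_one P x hg))]
    have h3 : (f.comp r = (x • g).comp r) ↔ f = x • g :=
      ⟨fun h => H.comp_inj h, fun h => by rw [h]⟩
    simp only [h3, map_inv₀, map_natCast]
  simp_rw [h2]
  rw [← Finset.mul_sum, Finset.sum_add_distrib, Finset.sum_const, Finset.card_univ,
    ← Nat.card_eq_fintype_card, hN]
  have h3 : ∑ x : normalizer (P : Set G), (if f = x • g then (1 : ℂ) else 0) =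
      (Nat.card {x : normalizer (P : Set G) // x • g = f} : ℂ) := by
    rw [Finset.sum_boole, Nat.card_eq_fintype_card, Fintype.card_subtype]
    congr 2
    ext x
    simp [eq_comm]
  rw [h3, H.card_transporter hg f]
  split_ifs with hex
  · simp only [nsmul_eq_mul, Nat.cast_mul, mul_one]
    field_simp
    ring
  · simp only [nsmul_eq_mul, Nat.cast_mul, mul_one, Nat.cast_zero, zero_add, add_zero]
    field_simp

theorem Hyp.tF_smul {t : ℕ} (hN : Nat.card (normalizer (P : Set G)) = Nat.card C * t)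
    (x : normalizer (P : Set G)) {g : ↥P →* ℂˣ} (hg : g ≠ 1) : tF r (x • g) = tF r g := by
  classical
  have hx : x • g ≠ 1 := smul_ne_one P x hg
  apply sub_eq_zero.1
  apply classInner_self_eq_zero
  rw [classInner_sub_left, classInner_sub_right, classInner_sub_right,
    H.inner_tF hN hx hx, H.inner_tF hN hx hg, H.inner_tF hN hg hx, H.inner_tF hN hg hg,
    if_pos ⟨1, one_smul _ _⟩, if_pos ⟨x, rfl⟩, if_pos ⟨x⁻¹, inv_smul_smul x g⟩, if_pos ⟨1, one_smul _ _⟩]
  ring

omit H in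
theorem tF_one (r : ↥C →* ↥P) (f : ↥P →* ℂˣ) : tF r f 1 = 0 := by
  unfold tF theta
  rw [Cfsg.Agent.Lib.CharInd.indFun_one]
  have : alpha (f.comp r) 1 = 0 := alpha_one _
  rw [this, mul_zero]

end Theta

section Combinatorics

/-- The combinatorial core: with at least `t + 1` members, a coordinate taking exactly the values `1 - A`, `-A`
takes the value `-A` at most once. -/
theorem zero_class_subsingleton {I J : Type*} [Fintype I] [DecidableEq I] [Fintype J] [DecidableEq J] (t : ℕ)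
    (u : J → I → ℤ) (x : I → ℤ) (hx : ∀ i, 0 < x i) (i₀ : I) (hi₀ : ∀ j, u j i₀ = -1)
    (hu : ∀ j k, ∑ i, u j i * u k i = (t : ℤ) + if j = k then 1 else 0)
    (hd : ∀ j, ∑ i, x i * u j i = 0)
    (hJ : t + 1 ≤ Fintype.card J)
    (ζ : I) (hζ : ζ ≠ i₀) (A : ℤ) (hA : 1 ≤ A)
    (hval : ∀ j, u j ζ = 1 - A ∨ u j ζ = -A)
    (g₀ : J) (hg₀ : u g₀ ζ = 1 - A) :
    ∀ h h', u h ζ = -A → u h' ζ = -A → h = h' := by
  classical
  have hpair : ∀ g h, u g ζ = 1 - A → u h ζ = -A → ∃ β, β ≠ ζ ∧ ∀ i, u g i - u h i =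
      (if i = ζ then 1 else 0) - (if i = β then 1 else 0) := by
    intro g h hg hh
    have hne : g ≠ h := by
      rintro rfl
      omega
    have hn : ∑ i, (u g i - u h i) * (u g i - u h i) = 2 := by
      have h1 : ∑ i, (u g i - u h i) * (u g i - u h i) = ∑ i, u g i * u g i - ∑ i, u g i * u h i - ∑ i, u h i * u g i +
          ∑ i, u h i * u h i := by
        rw [← Finset.sum_sub_distrib, ← Finset.sum_sub_distrib, ← Finset.sum_add_distrib]
        refine Finset.sum_congr rfl fun i _ => ?_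
        ring
      rw [h1, hu, hu, hu, hu, if_pos rfl, if_pos rfl, if_neg hne, if_neg hne.symm]
      ring
    have h0 : ∑ i, x i * (u g i - u h i) = 0 := by
      have h1 : ∑ i, x i * (u g i - u h i) = ∑ i, x i * u g i - ∑ i, x i * u h i := by
        rw [← Finset.sum_sub_distrib]
        refine Finset.sum_congr rfl fun i _ => ?_
        ring
      rw [h1, hd, hd, sub_zero]
    obtain ⟨a, b, hab, ha, hb, hz⟩ := exists_oriented_pair (fun i => u g i - u h i) x hx hn h0
    have haζ : a = ζ := by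
      by_contra hne2
      by_cases hbζ : ζ = b
      · rw [← hbζ] at hb
        omega
      · have := hz ζ (Ne.symm hne2) hbζ
        omega
    subst haζ
    refine ⟨b, hab.symm, fun i => ?_⟩
    by_cases h1 : i = a
    · subst h1
      rw [ha, if_pos rfl, if_neg hab]
      ring
    · by_cases h2 : i = b
      · subst h2
        rw [hb, if_neg h1, if_pos rfl]
        ring
      · have := hz i h1 h2
        rw [this, if_neg h1, if_neg h2]
        ring
  intro h h' hh hh'
  by_contra hne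
  -- `O` is a singleton
  have hO : ∀ g, u g ζ = 1 - A → g = g₀ := by
    intro g hg
    by_contra hg'
    obtain ⟨β, hβ, h1⟩ := hpair g h hg hh
    obtain ⟨β', hβ', h2⟩ := hpair g₀ h' hg₀ hh'
    have hgh : g ≠ h := by
      rintro rfl
      omega
    have hgh' : g ≠ h' := by
      rintro rfl
      omega
    have hgh2 : g₀ ≠ h := by
      rintro rfl
      omega
    have hgh3 : g₀ ≠ h' := by
      rintro rfl
      omega
    have h3 : ∑ i, (u g i - u h i) * (u g₀ i - u h' i) = 0 := by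
      have h4 : ∑ i, (u g i - u h i) * (u g₀ i - u h' i) = ∑ i, u g i * u g₀ i - ∑ i, u g i * u h' i -
          ∑ i, u h i * u g₀ i + ∑ i, u h i * u h' i := by
        rw [← Finset.sum_sub_distrib, ← Finset.sum_sub_distrib, ← Finset.sum_add_distrib]
        refine Finset.sum_congr rfl fun i _ => ?_
        ring
      rw [h4, hu, hu, hu, hu, if_neg hg', if_neg hgh', if_neg hgh2.symm, if_neg hne]
      ring
    have h4 : ∑ i, (u g i - u h i) * (u g₀ i - u h' i) = (u g₀ ζ - u h' ζ) - (u g₀ β - u h' β) := by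
      have h5 : ∀ i, (u g i - u h i) * (u g₀ i - u h' i) = (if i = ζ then (u g₀ i - u h' i) else 0) -
          (if i = β then (u g₀ i - u h' i) else 0) := by
        intro i
        rw [h1 i]
        split_ifs <;> ring
      simp_rw [h5]
      rw [Finset.sum_sub_distrib, Finset.sum_ite_eq', Finset.sum_ite_eq']
      simp
    rw [h4, h2 ζ, h2 β, if_pos rfl, if_neg hβ] at h3
    have h6 : (if ζ = β' then (1 : ℤ) else 0) = 0 := if_neg (Ne.symm hβ')
    rw [h6] at h3
    split_ifs at h3 <;> omega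
  -- `Z` is the rest
  have hZ : ∀ j, j ≠ g₀ → u j ζ = -A := by
    intro j hj
    rcases hval j with h1 | h1
    · exact absurd (hO j h1) hj
    · exact h1
  have hpair' : ∀ j, j ≠ g₀ → ∃ β, β ≠ ζ ∧ ∀ i, u g₀ i - u j i =
      (if i = ζ then 1 else 0) - (if i = β then 1 else 0) := fun j hj => hpair g₀ j hg₀ (hZ j hj)
  haveI : Nonempty I := ⟨i₀⟩
  choose! β hβ hβ' using hpair'
  let Λ : I → ℤ := fun i => u g₀ i - if i = ζ then 1 else 0
  have hΛ : ∀ j, j ≠ g₀ → ∀ i, u j i = Λ i + if i = β j then 1 else 0 := by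
    intro j hj i
    have := hβ' j hj i
    simp only [Λ]
    linarith
  have hΛζ : Λ ζ = -A := by
    have h0 : Λ ζ = u g₀ ζ - 1 := by simp [Λ]
    rw [h0, hg₀]
    ring
  have hnormΛ : ∑ i, Λ i * Λ i = t + 2 * A := by
    have h1 : ∑ i, u g₀ i * u g₀ i = ∑ i, Λ i * Λ i + 2 * Λ ζ + 1 := by
      have h2 : ∀ i, u g₀ i * u g₀ i = Λ i * Λ i + (if i = ζ then 2 * Λ i + 1 else 0) := by
        intro i
        simp only [Λ]
        split_ifs <;> ring
      simp_rw [h2]
      rw [Finset.sum_add_distrib, Finset.sum_ite_eq', if_pos (Finset.mem_univ _)]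
      ring
    rw [hu, if_pos rfl, hΛζ] at h1
    linarith
  have hΛβ : ∀ j, j ≠ g₀ → Λ (β j) = -A := by
    intro j hj
    have h1 : ∑ i, u j i * u j i = ∑ i, Λ i * Λ i + 2 * Λ (β j) + 1 := by
      have h2 : ∀ i, u j i * u j i = Λ i * Λ i + (if i = β j then 2 * Λ i + 1 else 0) := by
        intro i
        rw [hΛ j hj i]
        split_ifs <;> ring
      simp_rw [h2]
      rw [Finset.sum_add_distrib, Finset.sum_ite_eq', if_pos (Finset.mem_univ _)]
      ring
    rw [hu, if_pos rfl, hnormΛ] at h1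
    linarith
  have hinj : ∀ j k, j ≠ g₀ → k ≠ g₀ → j ≠ k → β j ≠ β k := by
    intro j k hj hk hjk hb
    have h1 : ∑ i, u j i * u k i = ∑ i, Λ i * Λ i + Λ (β j) + Λ (β k) + 1 := by
      have h2 : ∀ i, u j i * u k i = Λ i * Λ i + (if i = β j then Λ i else 0) + (if i = β k then Λ i else 0) +
          (if i = β j then 1 else 0) := by
        intro i
        rw [hΛ j hj i, hΛ k hk i, ← hb]
        split_ifs <;> ring
      simp_rw [h2]
      rw [Finset.sum_add_distrib, Finset.sum_add_distrib, Finset.sum_add_distrib, Finset.sum_ite_eq',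
        Finset.sum_ite_eq', Finset.sum_ite_eq', if_pos (Finset.mem_univ _), if_pos (Finset.mem_univ _),
        if_pos (Finset.mem_univ _)]
    rw [hu, if_neg hjk, hnormΛ, hΛβ j hj, hΛβ k hk] at h1
    linarith
  -- the positive coordinate
  have hi₀Λ : Λ i₀ = -1 := by
    simp only [Λ, if_neg hζ.symm, hi₀]
    ring
  obtain ⟨i₁, hi₁⟩ : ∃ i₁, 0 < u g₀ i₁ := by
    by_contra hall
    push Not at hall
    have h1 := hd g₀
    have h2 : ∑ i, x i * u g₀ i < 0 := by
      apply Finset.sum_neg'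
      · intro i _
        exact mul_nonpos_of_nonneg_of_nonpos (hx i).le (hall i)
      · refine ⟨i₀, Finset.mem_univ _, ?_⟩
        rw [hi₀]
        have := hx i₀
        omega
    omega
  have hi₁ne0 : i₁ ≠ i₀ := by
    rintro rfl
    rw [hi₀] at hi₁
    omega
  have hi₁neζ : i₁ ≠ ζ := by
    rintro rfl
    rw [hg₀] at hi₁
    omega
  have hi₁Λ : 1 ≤ Λ i₁ := by
    simp only [Λ, if_neg hi₁neζ]
    omega
  have hβi₀ : ∀ j, j ≠ g₀ → β j ≠ i₀ := by
    intro j hj hb
    have h1 := hΛ j hj i₀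
    rw [hi₀, hi₀Λ, if_pos hb.symm] at h1
    omega
  have hβi₁ : ∀ j, j ≠ g₀ → β j ≠ i₁ := by
    intro j hj hb
    have h1 := hΛβ j hj
    rw [hb] at h1
    omega
  have hβζ : ∀ j, j ≠ g₀ → β j ≠ ζ := hβ
  let S : Finset J := Finset.univ.filter (fun j => j ≠ g₀)
  have hScard : (S.card : ℤ) + 1 = Fintype.card J := by
    have h1 : S.card = Fintype.card J - 1 := by
      have : S = Finset.univ.erase g₀ := by
        ext j
        simp [S]
      rw [this, Finset.card_erase_of_mem (Finset.mem_univ _), Finset.card_univ]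
    have h2 : 0 < Fintype.card J := Fintype.card_pos_iff.2 ⟨g₀⟩
    omega
  let T : Finset I := S.image β
  have hTsum : ∑ i ∈ T, Λ i * Λ i = S.card * (A * A) := by
    rw [Finset.sum_image]
    · have : ∀ j ∈ S, Λ (β j) * Λ (β j) = A * A := by
        intro j hj
        rw [hΛβ j (Finset.mem_filter.1 hj).2]
        ring
      rw [Finset.sum_congr rfl this, Finset.sum_const]
      simp
    · intro j hj k hk hjk
      by_contra hne2
      exact hinj j k (Finset.mem_filter.1 hj).2 (Finset.mem_filter.1 hk).2 hne2 hjk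
  have hi₀T : i₀ ∉ T := by
    intro h1
    obtain ⟨j, hj, hb⟩ := Finset.mem_image.1 h1
    exact hβi₀ j (Finset.mem_filter.1 hj).2 hb
  have hi₁T : i₁ ∉ T := by
    intro h1
    obtain ⟨j, hj, hb⟩ := Finset.mem_image.1 h1
    exact hβi₁ j (Finset.mem_filter.1 hj).2 hb
  have hζT : ζ ∉ T := by
    intro h1
    obtain ⟨j, hj, hb⟩ := Finset.mem_image.1 h1
    exact hβζ j (Finset.mem_filter.1 hj).2 hb
  have hle : ∑ i ∈ insert i₀ (insert i₁ (insert ζ T)), Λ i * Λ i ≤ ∑ i, Λ i * Λ i :=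
    Finset.sum_le_univ_sum_of_nonneg (fun i => mul_self_nonneg _)
  have hi₁' : i₁ ∉ insert ζ T := by
    simp only [Finset.mem_insert, not_or]
    exact ⟨hi₁neζ, hi₁T⟩
  have hi₀' : i₀ ∉ insert i₁ (insert ζ T) := by
    simp only [Finset.mem_insert, not_or]
    exact ⟨hi₁ne0.symm, hζ.symm, hi₀T⟩
  rw [Finset.sum_insert hi₀', Finset.sum_insert hi₁', Finset.sum_insert hζT, hTsum, hΛζ, hi₀Λ, hnormΛ] at hle
  have hJ' : ((t : ℤ) + 1) ≤ Fintype.card J := by exact_mod_cast hJ
  have hA2 : A * A ≥ 1 := by nlinarith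
  have h1Λ : Λ i₁ * Λ i₁ ≥ 1 := by nlinarith
  have ht0 : (0 : ℤ) ≤ t := Int.natCast_nonneg t
  have hfinal : (t : ℤ) + 2 * A ≥ 2 + (A * A) * ((t : ℤ) + 1) := by
    have h5 : (S.card : ℤ) ≥ t := by linarith
    nlinarith [mul_le_mul_of_nonneg_right h5 (by positivity : (0 : ℤ) ≤ A * A)]
  nlinarith [mul_nonneg ht0 (by nlinarith : (0 : ℤ) ≤ A * A - 1), sq_nonneg (A - 1)]

end Combinatorics

section Dual

variable {P : Subgroup G}

theorem dual_finite [Finite P] (hc : ∀ u ∈ P, ∀ v ∈ P, u * v = v * u) : Finite (↥P →* ℂˣ) := by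
  letI : CommGroup ↥P := { (inferInstance : Group ↥P) with
    mul_comm := fun a b => Subtype.ext (hc a a.2 b b.2) }
  exact inferInstance

theorem card_dual [Finite P] (hc : ∀ u ∈ P, ∀ v ∈ P, u * v = v * u) : Nat.card (↥P →* ℂˣ) = Nat.card P := by
  letI : CommGroup ↥P := { (inferInstance : Group ↥P) with
    mul_comm := fun a b => Subtype.ext (hc a a.2 b b.2) }
  exact CommGroup.card_monoidHom_of_hasEnoughRootsOfUnity (↥P) ℂ

theorem dual_exists_ne [Finite P] (hc : ∀ u ∈ P, ∀ v ∈ P, u * v = v * u) {w : ↥P} (hw : w ≠ 1) :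
    ∃ f : ↥P →* ℂˣ, f w ≠ 1 := by
  letI : CommGroup ↥P := { (inferInstance : Group ↥P) with
    mul_comm := fun a b => Subtype.ext (hc a a.2 b b.2) }
  exact CommGroup.exists_apply_ne_one_of_hasEnoughRootsOfUnity (↥P) ℂ hw

theorem sum_dual [Finite P] [Fintype (↥P →* ℂˣ)] (hc : ∀ u ∈ P, ∀ v ∈ P, u * v = v * u) {w : ↥P} (hw : w ≠ 1) :
    ∑ f : ↥P →* ℂˣ, chi f w = 0 := by
  obtain ⟨φ, hφ⟩ := dual_exists_ne hc hw
  have h1 : ∑ f : ↥P →* ℂˣ, chi f w = ∑ f : ↥P →* ℂˣ, chi (φ * f) w :=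
    (Fintype.sum_equiv (Equiv.mulLeft φ) _ _ (fun f => rfl)).symm
  have h2 : ∀ f : ↥P →* ℂˣ, chi (φ * f) w = ((φ w : ℂˣ) : ℂ) * chi f w := by
    intro f
    simp [chi]
  simp_rw [h2, ← Finset.mul_sum] at h1
  have h3 : (1 - ((φ w : ℂˣ) : ℂ)) * ∑ f : ↥P →* ℂˣ, chi f w = 0 := by
    rw [sub_mul, one_mul, ← h1, sub_self]
  rcases mul_eq_zero.1 h3 with h4 | h4
  · exfalso
    apply hφ
    apply Units.ext
    simpa using (sub_eq_zero.1 h4).symm
  · exact h4

theorem sum_dual_one [Finite P] [Fintype (↥P →* ℂˣ)] (hc : ∀ u ∈ P, ∀ v ∈ P, u * v = v * u) :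
    ∑ f : ↥P →* ℂˣ, chi f 1 = Nat.card P := by
  have h1 : ∀ f : ↥P →* ℂˣ, chi f 1 = 1 := by intro f; simp [chi]
  simp_rw [h1]
  rw [Finset.sum_const, Finset.card_univ, ← Nat.card_eq_fintype_card, card_dual hc]
  simp

theorem chi_conj [Finite P] (f : ↥P →* ℂˣ) (z : ↥P) : conj (chi f z) = chi f z⁻¹ :=
  char_conj_eq_inv (IsIrrCharacter.isCharacter (isIrr_chi f)) z

/-- Fourier inversion. -/
theorem fourier [Fintype P] [Fintype (↥P →* ℂˣ)] (hc : ∀ u ∈ P, ∀ v ∈ P, u * v = v * u) (ψ : ↥P → ℂ) (z : ↥P) :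
    ∑ f : ↥P →* ℂˣ, classInner (chi f) ψ * conj (chi f z) = conj (ψ z) := by
  classical
  have hp0 : (Nat.card P : ℂ) ≠ 0 := by exact_mod_cast Nat.card_pos.ne'
  unfold classInner
  have h1 : ∀ f : ↥P →* ℂˣ, (Nat.card P : ℂ)⁻¹ * ∑ g : ↥P, chi f g * conj (ψ g) * conj (chi f z) =
      (Nat.card P : ℂ)⁻¹ * ∑ g : ↥P, chi f (g * z⁻¹) * conj (ψ g) := by
    intro f
    rw [Finset.mul_sum, Finset.mul_sum]
    refine Finset.sum_congr rfl fun g _ => ?_
    rw [chi_conj f z]
    simp only [chi, map_mul, Units.val_mul]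
    ring
  have h2 : ∀ f : ↥P →* ℂˣ, (Nat.card P : ℂ)⁻¹ * (∑ g : ↥P, chi f g * conj (ψ g)) * conj (chi f z) =
      (Nat.card P : ℂ)⁻¹ * ∑ g : ↥P, chi f (g * z⁻¹) * conj (ψ g) := by
    intro f
    rw [← h1, mul_assoc, Finset.sum_mul]
  simp_rw [h2]
  rw [← Finset.mul_sum]
  have h3 : ∑ f : ↥P →* ℂˣ, ∑ g : ↥P, chi f (g * z⁻¹) * conj (ψ g) =
      ∑ g : ↥P, (∑ f : ↥P →* ℂˣ, chi f (g * z⁻¹)) * conj (ψ g) := by
    rw [Finset.sum_comm]
    refine Finset.sum_congr rfl fun g _ => ?_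
    rw [Finset.sum_mul]
  rw [h3, Finset.sum_eq_single z]
  · rw [mul_inv_cancel, sum_dual_one hc]
    field_simp
  · intro g _ hg
    rw [sum_dual hc (fun h => hg (mul_inv_eq_one.1 h)), zero_mul]
  · intro h
    exact absurd (Finset.mem_univ _) h

theorem sum_classInner [Fintype P] [Fintype (↥P →* ℂˣ)] (hc : ∀ u ∈ P, ∀ v ∈ P, u * v = v * u) (ψ : ↥P → ℂ) :
    ∑ f : ↥P →* ℂˣ, classInner (chi f) ψ = conj (ψ 1) := by
  have h := fourier hc ψ 1
  simpa [chi] using h

/-- Parseval on `P`. -/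
theorem sum_classInner_mul_conj [Fintype P] [Fintype (↥P →* ℂˣ)] (hc : ∀ u ∈ P, ∀ v ∈ P, u * v = v * u) (ψ : ↥P → ℂ) :
    ∑ f : ↥P →* ℂˣ, classInner (chi f) ψ * conj (classInner (chi f) ψ) = classInner ψ ψ := by
  classical
  have h1 : ∀ f : ↥P →* ℂˣ, classInner (chi f) ψ * conj (classInner (chi f) ψ) =
      (Nat.card P : ℂ)⁻¹ * ∑ z : ↥P, ψ z * (classInner (chi f) ψ * conj (chi f z)) := by
    intro f
    conv_lhs => rw [show conj (classInner (chi f) ψ) = conj ((Nat.card P : ℂ)⁻¹ * ∑ g : ↥P, chi f g * conj (ψ g)) from rfl]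
    rw [map_mul, map_sum, map_inv₀, Complex.conj_natCast, Finset.mul_sum, Finset.mul_sum, Finset.mul_sum]
    refine Finset.sum_congr rfl fun z _ => ?_
    simp only [map_mul, Complex.conj_conj]
    ring
  simp_rw [h1]
  rw [← Finset.mul_sum, Finset.sum_comm]
  unfold classInner
  congr 1
  refine Finset.sum_congr rfl fun z _ => ?_
  rw [← Finset.mul_sum]
  have := fourier hc ψ z
  unfold classInner at this
  rw [this]

/-- A function on `P`, with all its coefficients at nontrivial `f` vanishing, is constant. -/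
theorem exists_coeff_ne [Fintype P] [Fintype (↥P →* ℂˣ)] (hc : ∀ u ∈ P, ∀ v ∈ P, u * v = v * u) (ψ : ↥P → ℂ)
    (h : ∀ f : ↥P →* ℂˣ, f ≠ 1 → classInner (chi f) ψ = 0) (z : ↥P) : ψ z = ψ 1 := by
  have h1 := fourier hc ψ z
  have h2 := fourier hc ψ 1
  rw [Finset.sum_eq_single (1 : ↥P →* ℂˣ) (fun f _ hf => by rw [h f hf, zero_mul])
    (fun hh => absurd (Finset.mem_univ _) hh)] at h1 h2
  have h3 : conj (chi (1 : ↥P →* ℂˣ) z) = 1 := by simp [chi]
  have h4 : conj (chi (1 : ↥P →* ℂˣ) 1) = 1 := by simp [chi]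
  rw [h3] at h1
  rw [h4] at h2
  have h5 : conj (ψ z) = conj (ψ 1) := by rw [← h1, ← h2]
  exact (starRingEnd ℂ).injective h5

end Dual

end Cfsg.Agent.Lib.TICent
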