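import Mathlib
import Cfsg.Agent.Lib.TICent
import Cfsg.Agent.Lib.BlockSection
import Cfsg.Agent.Lib.BlockNormal
import Cfsg.Agent.Lib.BlockVal
import Cfsg.Agent.Lib.CharCodegP
import Cfsg.Agent.Lib.CharKernel
import Cfsg.Agent.Lib.GenChar

/-!
# Block theory at a Sylow subgroup with `C(w) = C(P)`

The principal block of `C = P × K` consists of the `f ∘ r`, so its idempotent is `|K|⁻¹ ∑_K k`.  By the second and third
main theorems, `ζ(z y) = ζ̃(z)` for `ζ` in the principal block, and `ζ̃(z) = 0` for other `ζ`, where `z ≠ 1` in `P`, `y ∈ K`.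
A consequence: for `ζ` of degree `< |P|` with a `C`-fixed vector, `K` lies in the kernel of `ζ`.
-/

set_option autoImplicit false
set_option linter.style.haveILetI false
set_option linter.unusedSectionVars false
set_option linter.unusedVariables false

namespace Cfsg.Agent.Lib.TICent

open Cfsg Cfsg.Agent.Lib.CharBasic Subgroup Cfsg.Agent.Lib.DefectOne
open Cfsg.Agent.Lib.BlockLocal Cfsg.Agent.Lib.BlockIdem Cfsg.Agent.Lib.BlockNormal
open scoped ComplexConjugate

universe u

variable {G : Type u} [Group G] {p : ℕ} {P C : Subgroup G} {r : ↥C →* ↥P} {e : ℕ}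

/-- The inclusion of `P` in `C`. -/
def Hyp.inP (H : Hyp p P C r e) (z : ↥P) : ↥C := ⟨z, H.le z.2⟩

theorem Hyp.r_inP (H : Hyp p P C r e) (z : ↥P) : r (H.inP z) = z := H.id z

/-- `C = P × K` as sets. -/
def Hyp.prodEquiv (H : Hyp p P C r e) : ↥C ≃ ↥P × r.ker where
  toFun c := (r c, ⟨(H.inP (r c))⁻¹ * c, by
    rw [MonoidHom.mem_ker, map_mul, map_inv, H.r_inP, inv_mul_cancel]⟩)
  invFun x := H.inP x.1 * x.2
  left_inv c := by simp
  right_inv x := by
    obtain ⟨z, k, hk⟩ := x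
    have hk' : r k = 1 := hk
    have h1 : r (H.inP z * k) = z := by rw [map_mul, H.r_inP, hk', mul_one]
    refine Prod.ext h1 (Subtype.ext ?_)
    simp [h1]

theorem Hyp.card_eq (H : Hyp p P C r e) : Nat.card C = Nat.card P * Nat.card r.ker := by
  rw [Nat.card_congr H.prodEquiv, Nat.card_prod]

theorem Hyp.sum_C (H : Hyp p P C r e) [Fintype C] [Fintype P] [Fintype r.ker] (F : ↥C → ℂ) :
    ∑ c, F c = ∑ z : ↥P, ∑ k : r.ker, F (H.inP z * k) := by
  rw [← Fintype.sum_prod_type']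
  exact Fintype.sum_equiv H.prodEquiv _ _ (fun c => congrArg F (H.prodEquiv.left_inv c).symm)

section Block

variable [Fintype G] {M : Ideal AlgInt}

/-- The `f ∘ r` are in the principal block of `C`. -/
theorem Hyp.chi_mem (H : Hyp p P C r e) (hM : IsPModular p M) [Fintype C] (f : ↥P →* ℂˣ) :
    (⟨chi (f.comp r), isIrr_chi _⟩ : IrrCharacter ↥C) ∈ principalBlock M ↥C := by
  classical
  haveI := isPrime_of_isPModular hM
  haveI : Fact p.Prime := ⟨H.prime⟩
  let Q := ↥C ⧸ r.ker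
  letI : Fintype Q := Fintype.ofFinite _
  have hk : ∀ k ∈ r.ker, (f.comp r) k = 1 := by
    intro k hk
    have hk' : r k = 1 := hk
    simp [hk']
  let fQ : Q →* ℂˣ := QuotientGroup.lift r.ker (f.comp r) hk
  have hQp : IsPGroup p ↥(⊤ : Subgroup Q) := by
    intro q
    obtain ⟨c, hc⟩ := QuotientGroup.mk_surjective (q : Q)
    obtain ⟨k, hk⟩ := H.pgroup (r c)
    refine ⟨k, Subtype.ext ?_⟩
    simp only [Subgroup.coe_pow, Subgroup.coe_one]
    rw [← hc, ← QuotientGroup.mk_pow, QuotientGroup.eq_one_iff, MonoidHom.mem_ker, map_pow, hk]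
  have h1 := mem_principalBlock_of_centralizer_le hM (⊤ : Subgroup Q) hQp (by simp)
    (⟨fun q => ((fQ q : ℂˣ) : ℂ), isIrrCharacter_of_hom fQ⟩ : IrrCharacter Q)
  have h2 := comp_mem_principalBlock (G := ↥C) r.ker _ h1
  exact h2

/-- Members of the principal block of `C` are the `f ∘ r`. -/
theorem Hyp.exists_of_mem (H : Hyp p P C r e) (hM : IsPModular p M) [Fintype C] (i : IrrCharacter ↥C)
    (hi : i ∈ principalBlock M ↥C) : ∃ f : ↥P →* ℂˣ, i = ⟨chi (f.comp r), isIrr_chi _⟩ := by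
  classical
  haveI : Fact p.Prime := ⟨H.prime⟩
  haveI : (r.ker).Normal := inferInstance
  have hker := eq_of_mem_principalBlock hM r.ker H.ker i hi
  obtain ⟨χ', hχ', hval⟩ := Cfsg.Agent.Lib.CharKernel.exists_quotient_irr r.ker i.2 hker
  have hcomm : ∀ a b : ↥C ⧸ r.ker, a * b = b * a := by
    intro a b
    obtain ⟨a, rfl⟩ := QuotientGroup.mk_surjective a
    obtain ⟨b, rfl⟩ := QuotientGroup.mk_surjective b
    rw [← QuotientGroup.mk_mul, ← QuotientGroup.mk_mul, QuotientGroup.eq, MonoidHom.mem_ker]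
    simp only [mul_inv_rev, map_mul, map_inv]
    apply Subtype.ext
    simp only [Subgroup.coe_mul, Subgroup.coe_inv, Subgroup.coe_one]
    have h1 := H.comm_P (r a).2 (r b).2
    rw [h1]
    group
  have h1 := Cfsg.Agent.Lib.CharCodegP.irr_one_of_comm hcomm hχ'
  have h2 : (i : ↥C → ℂ) 1 = 1 := by
    have := hval 1
    rw [← this]
    exact h1
  obtain ⟨h, hh⟩ := exists_hom_of_degree_one (IsIrrCharacter.isCharacter i.2) h2
  refine ⟨h.comp (MonoidHom.mk' H.inP (fun a b => rfl)), Subtype.ext ?_⟩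
  funext c
  simp only [chi, MonoidHom.comp_apply]
  rw [hh]
  congr 1
  -- `c = inP (r c) * k`
  have h3 : c = H.inP (r c) * ((H.inP (r c))⁻¹ * c) := by group
  conv_lhs => rw [h3]
  rw [map_mul]
  have h4 : (H.inP (r c))⁻¹ * c ∈ r.ker := by
    rw [MonoidHom.mem_ker, map_mul, map_inv, H.r_inP, inv_mul_cancel]
  have h5 : h ((H.inP (r c))⁻¹ * c) = 1 := by
    apply Units.ext
    rw [← hh, hker _ h4, h2]
    simp
  rw [h5, mul_one]
  rfl

open scoped Classical in
/-- The idempotent of the principal block of `C`. -/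
theorem Hyp.blockCoeff_principal (H : Hyp p P C r e) (hM : IsPModular p M) [Fintype C] [Fintype P] (c : ↥C) :
    blockCoeff (principalBlock M ↥C) c = if r c = 1 then ((Nat.card r.ker : ℂ))⁻¹ else 0 := by
  classical
  have hc : ∀ u ∈ P, ∀ v ∈ P, u * v = v * u := fun u hu v hv => (H.comm_P hu hv).symm
  haveI : Finite (↥P →* ℂˣ) := dual_finite hc
  letI : Fintype (↥P →* ℂˣ) := Fintype.ofFinite _
  let ι : (↥P →* ℂˣ) → IrrCharacter ↥C := fun f => ⟨chi (f.comp r), isIrr_chi _⟩
  have hι : Function.Injective ι := by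
    intro f g hfg
    have h1 : chi (f.comp r) = chi (g.comp r) := congrArg Subtype.val hfg
    exact H.comp_inj (chi_injective h1)
  have hB : principalBlock M ↥C = Set.range ι := by
    ext i
    constructor
    · intro hi
      obtain ⟨f, hf⟩ := H.exists_of_mem hM i hi
      exact ⟨f, hf.symm⟩
    · rintro ⟨f, rfl⟩
      exact H.chi_mem hM f
  unfold blockCoeff
  rw [hB, finsum_mem_range hι, finsum_eq_sum_of_fintype]
  have h1 : ∀ f : ↥P →* ℂˣ, (ι f : ↥C → ℂ) 1 * conj ((ι f : ↥C → ℂ) c) = chi f (r c)⁻¹ := by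
    intro f
    have h2 : (ι f : ↥C → ℂ) 1 = 1 := by simp [ι, chi]
    have h3 : (ι f : ↥C → ℂ) c = chi f (r c) := rfl
    rw [h2, h3, one_mul, chi_conj]
  simp_rw [h1]
  have hCne : (Nat.card C : ℂ) ≠ 0 := by exact_mod_cast Nat.card_pos.ne'
  split_ifs with hrc
  · rw [hrc, inv_one, sum_dual_one hc, H.card_eq]
    have hPne : (Nat.card P : ℂ) ≠ 0 := by exact_mod_cast Nat.card_pos.ne'
    have hKne : (Nat.card r.ker : ℂ) ≠ 0 := by exact_mod_cast Nat.card_pos.ne'
    push_cast
    field_simp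
  · rw [sum_dual hc (by simpa using hrc), mul_zero]

/-- The average of a function over the cosets of `K`. -/
noncomputable def avg (r : ↥C →* ↥P) (H : Hyp p P C r e) [Fintype r.ker] (ζ : G → ℂ) : ↥P → ℂ :=
  fun z => (Nat.card r.ker : ℂ)⁻¹ * ∑ k : r.ker, ζ ((z : G) * ((k : ↥C) : G))

variable (H : Hyp p P C r e) [Fintype C] [Fintype P] [Fintype r.ker]
include H

/-- The `p`-regularity of elements of `K`. -/
theorem Hyp.not_dvd_order {y : ↥C} (hy : r y = 1) : ¬ p ∣ orderOf y := by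
  intro h
  apply H.ker
  have h1 : orderOf (⟨y, hy⟩ : r.ker) = orderOf y := Subgroup.orderOf_mk y hy
  rw [← h1] at h
  exact dvd_trans h (orderOf_dvd_natCard _)

/-- The second main theorem at `P`. -/
theorem Hyp.blkInd_mul (hM : IsPModular p M) {z : ↥P} (hz : z ≠ 1) {y : ↥C} (hy : r y = 1)
    (ζ : IrrCharacter G) :
    Cfsg.Agent.Lib.BlkBasic.blkInd (principalBlock M G) ζ * (ζ : G → ℂ) ((z : G) * (y : G)) =
      avg r H (ζ : G → ℂ) z := by
  classical
  haveI : Fact p.Prime := ⟨H.prime⟩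
  have hz' : (z : G) ≠ 1 := fun h => hz (Subtype.ext h)
  have hord : ∃ k : ℕ, orderOf (z : G) = p ^ k := by
    obtain ⟨k, hk⟩ := (IsPGroup.iff_orderOf.1 H.pgroup) z
    exact ⟨k, by rw [← hk]; exact (Subgroup.orderOf_coe z)⟩
  have h1 := Cfsg.Agent.Lib.BlockSection.blkInd_principal_mul hM hord (H := C) (H.star _ z.2 hz').symm
    (H.not_dvd_order hy) ζ
  rw [h1]
  simp_rw [H.blockCoeff_principal hM]
  unfold avg
  rw [Finset.mul_sum]
  have h2 : ∀ k : ↥C, (if r k = 1 then (Nat.card r.ker : ℂ)⁻¹ else 0) * (ζ : G → ℂ) ((z : G) * ((k : G) * (y : G))) =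
      if r k = 1 then (Nat.card r.ker : ℂ)⁻¹ * (ζ : G → ℂ) ((z : G) * ((k : G) * (y : G))) else 0 := by
    intro k
    split_ifs <;> simp
  simp_rw [h2]
  rw [← Finset.sum_filter]
  have h3 : ∑ k ∈ Finset.univ.filter (fun k : ↥C => r k = 1), (Nat.card r.ker : ℂ)⁻¹ * (ζ : G → ℂ) ((z : G) * ((k : G) * (y : G))) =
      ∑ k : r.ker, (Nat.card r.ker : ℂ)⁻¹ * (ζ : G → ℂ) ((z : G) * (((k : ↥C) : G) * (y : G))) := by
    exact Finset.sum_subtype _ (fun k => by simp [MonoidHom.mem_ker])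
      (fun k : ↥C => (Nat.card r.ker : ℂ)⁻¹ * (ζ : G → ℂ) ((z : G) * ((k : G) * (y : G))))
  rw [h3]
  let y' : r.ker := ⟨y, hy⟩
  exact Fintype.sum_equiv (Equiv.mulRight y') _ _ (fun k => rfl)

/-- Inner products on `C` through the average. -/
theorem Hyp.inner_eq (f : ↥P →* ℂˣ) (ζ : G → ℂ) :
    classInner (chi (f.comp r)) (fun c : ↥C => ζ c) = classInner (chi f) (avg r H ζ) := by
  classical
  unfold classInner avg
  rw [H.sum_C, H.card_eq]
  have hPne : (Nat.card P : ℂ) ≠ 0 := by exact_mod_cast Nat.card_pos.ne'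
  have hKne : (Nat.card r.ker : ℂ) ≠ 0 := by exact_mod_cast Nat.card_pos.ne'
  have h1 : ∀ z : ↥P, ∑ k : r.ker, chi (f.comp r) (H.inP z * k) * conj (ζ ((H.inP z * k : ↥C) : G)) =
      (Nat.card r.ker : ℂ) * (chi f z * conj ((Nat.card r.ker : ℂ)⁻¹ * ∑ k : r.ker, ζ ((z : G) * ((k : ↥C) : G)))) := by
    intro z
    rw [map_mul, map_sum, map_inv₀, Complex.conj_natCast]
    have h2 : ∀ k : r.ker, chi (f.comp r) (H.inP z * k) = chi f z := by
      intro k
      have hk : r k = 1 := k.2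
      simp [chi, H.r_inP, hk]
    simp_rw [h2]
    rw [← Finset.mul_sum]
    field_simp
    rfl
  simp_rw [h1]
  rw [← Finset.mul_sum]
  push_cast
  field_simp

end Block

section Projector

/-- A projector argument: if the `f`-multiplicity of `P` in a representation vanishes, then so do the
twisted traces. -/
theorem sum_eq_zero_of_trace {G : Type*} [Group G] {P : Subgroup G} [Fintype P] {n : ℕ}
    (ρ : Representation ℂ G (Fin n → ℂ)) (f : ↥P →* ℂˣ)
    (h0 : ∑ z : ↥P, conj (chi f z) * ρ.character (z : G) = 0) (y : G) :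
    ∑ z : ↥P, conj (chi f z) * ρ.character ((z : G) * y) = 0 := by
  classical
  have hPne : (Nat.card P : ℂ) ≠ 0 := by exact_mod_cast Nat.card_pos.ne'
  let A : Module.End ℂ (Fin n → ℂ) := ∑ z : ↥P, conj (chi f z) • ρ (z : G)
  let E : Module.End ℂ (Fin n → ℂ) := (Nat.card P : ℂ)⁻¹ • A
  have hchi : ∀ a b : ↥P, conj (chi f a) * conj (chi f b) = conj (chi f (a * b)) := by
    intro a b
    simp [chi, map_mul]
  have hA : A * A = (Nat.card P : ℂ) • A := by
    simp only [A]
    rw [Finset.sum_mul]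
    have h1 : ∀ a : ↥P, (conj (chi f a) • ρ (a : G)) * ∑ z : ↥P, conj (chi f z) • ρ (z : G) =
        ∑ z : ↥P, conj (chi f z) • ρ (z : G) := by
      intro a
      rw [Finset.mul_sum]
      refine Fintype.sum_equiv (Equiv.mulLeft a) _ _ fun b => ?_
      simp only [Equiv.coe_mulLeft, smul_mul_smul_comm, hchi, Subgroup.coe_mul, map_mul]
    rw [Finset.sum_congr rfl fun a _ => h1 a, Finset.sum_const, Finset.card_univ, ← Nat.card_eq_fintype_card]
    rw [Nat.cast_smul_eq_nsmul]
  have hE : IsIdempotentElem E := by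
    unfold IsIdempotentElem
    simp only [E]
    rw [smul_mul_smul_comm, hA, smul_smul]
    congr 1
    field_simp
  have htr : LinearMap.trace ℂ _ E = 0 := by
    simp only [E, A]
    rw [map_smul, map_sum]
    have : ∀ z : ↥P, LinearMap.trace ℂ (Fin n → ℂ) (conj (chi f z) • ρ (z : G)) =
        conj (chi f z) * ρ.character (z : G) := by
      intro z
      rw [map_smul]
      rfl
    simp_rw [this]
    rw [h0, smul_zero]
  have hE0 : E = 0 := LinearMap.IsIdempotentElem.eq_zero_of_trace_eq_zero hE htr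
  have hA0 : A = 0 := by
    have h2 : (Nat.card P : ℂ) • E = A := by
      simp only [E]
      rw [smul_smul, mul_inv_cancel₀ hPne, one_smul]
    rw [← h2, hE0, smul_zero]
  have h3 : LinearMap.trace ℂ _ (A * ρ y) = 0 := by
    rw [hA0, zero_mul, map_zero]
  simp only [A] at h3
  rw [Finset.sum_mul, map_sum] at h3
  rw [← h3]
  refine Finset.sum_congr rfl fun z _ => ?_
  rw [smul_mul_assoc, map_smul, ← map_mul]
  rfl

end Projector

section KF

variable [Fintype G] (H : Hyp p P C r e) [Fintype C] [Fintype P] [Fintype r.ker]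
include H

/-- If `ζ(zy) = ζ(z)` on `z ≠ 1` and `ζ` has degree `< |P|`, then `K` is in the kernel of `ζ`. -/
theorem Hyp.ker_of_section (ζ : IrrCharacter G) {d : ℕ} (hd : (ζ : G → ℂ) 1 = d) (hdP : d < Nat.card P)
    (hsec : ∀ z : ↥P, z ≠ 1 → ∀ y : ↥C, r y = 1 → (ζ : G → ℂ) ((z : G) * (y : G)) = (ζ : G → ℂ) z) :
    ∀ y : ↥C, r y = 1 → (ζ : G → ℂ) y = (ζ : G → ℂ) 1 := by
  classical
  have hc : ∀ u ∈ P, ∀ v ∈ P, u * v = v * u := fun u hu v hv => (H.comm_P hu hv).symm
  haveI : Finite (↥P →* ℂˣ) := dual_finite hc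
  letI : Fintype (↥P →* ℂˣ) := Fintype.ofFinite _
  have hζc := IsIrrCharacter.isCharacter ζ.2
  have hm : ∀ f : ↥P →* ℂˣ, ∃ n : ℕ, classInner (chi f) (fun z : ↥P => (ζ : G → ℂ) z) = n := fun f =>
    classInner_char_char (IsIrrCharacter.isCharacter (isIrr_chi f)) (isCharacter_restrict P hζc)
  choose m hm using hm
  have hsum := sum_classInner hc (fun z : ↥P => (ζ : G → ℂ) z)
  simp only [hm] at hsum
  have hsum' : ∑ f, m f = d := by
    have h1 : (∑ f, (m f : ℂ)) = d := by
      rw [hsum]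
      simp only [Subgroup.coe_one, hd, Complex.conj_natCast]
    exact_mod_cast h1
  obtain ⟨f₀, hf₀⟩ : ∃ f₀, m f₀ = 0 := by
    by_contra hall
    push Not at hall
    have h1 : ∑ _f : ↥P →* ℂˣ, 1 ≤ ∑ f, m f := Finset.sum_le_sum fun f _ => Nat.pos_of_ne_zero (hall f)
    rw [hsum', Finset.sum_const, Finset.card_univ, ← Nat.card_eq_fintype_card, card_dual hc] at h1
    simp only [smul_eq_mul, mul_one] at h1
    omega
  intro y hy
  obtain ⟨χ, n, ρ, hρ, rfl⟩ := ζ
  have h0 : ∑ z : ↥P, conj (chi f₀ z) * ρ.character (z : G) = 0 := by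
    have h1 : classInner (chi f₀) (fun z : ↥P => ρ.character (z : G)) = 0 := by
      rw [hm f₀, hf₀]
      simp
    unfold classInner at h1
    have hPne : (Nat.card P : ℂ) ≠ 0 := by exact_mod_cast Nat.card_pos.ne'
    have h2 := (mul_eq_zero.1 h1).resolve_left (inv_ne_zero hPne)
    have h3 := congrArg conj h2
    simpa [map_sum] using h3
  have h1 := sum_eq_zero_of_trace ρ f₀ h0 y
  have h2 : ∑ z : ↥P, conj (chi f₀ z) * (ρ.character (z : G) - ρ.character ((z : G) * y)) = 0 := by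
    simp_rw [mul_sub]
    rw [Finset.sum_sub_distrib, h0, h1, sub_zero]
  rw [Finset.sum_eq_single (1 : ↥P)] at h2
  · have h3 : conj (chi f₀ 1) = 1 := by simp [chi]
    rw [h3, one_mul] at h2
    simp only [Subgroup.coe_one, one_mul] at h2
    exact (sub_eq_zero.1 h2).symm
  · intro z _ hz
    have h5 : ρ.character ((z : G) * (y : G)) = ρ.character (z : G) := hsec z hz y hy
    rw [h5]
    simp
  · intro hh
    exact absurd (Finset.mem_univ _) hh

/-- **The key fact**: if `ζ` has degree `< |P|` and `ζ|_C` contains the trivial character then `K` is in the kernel of `ζ`. -/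
theorem Hyp.kF (ζ : IrrCharacter G) {d : ℕ} (hd : (ζ : G → ℂ) 1 = d) (hdP : d < Nat.card P)
    (hA : classInner (chi ((1 : ↥P →* ℂˣ).comp r)) (fun c : ↥C => (ζ : G → ℂ) c) ≠ 0) :
    ∀ y : ↥C, r y = 1 → (ζ : G → ℂ) y = (ζ : G → ℂ) 1 := by
  classical
  obtain ⟨M, hM⟩ := Cfsg.Agent.Lib.BlockVal.exists_isPModular H.prime
  by_cases hB : ζ ∈ principalBlock M G
  · apply H.ker_of_section ζ hd hdP
    intro z hz y hy
    have h1 := H.blkInd_mul hM hz hy ζ
    have h2 := H.blkInd_mul hM hz (map_one r) ζ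
    rw [Cfsg.Agent.Lib.BlkBasic.blkInd_of_mem hB, one_mul] at h1 h2
    rw [h1, ← h2]
    simp
  · exfalso
    have h0 : ∀ z : ↥P, z ≠ 1 → avg r H (ζ : G → ℂ) z = 0 := by
      intro z hz
      have h1 := H.blkInd_mul hM hz (map_one r) ζ
      rw [Cfsg.Agent.Lib.BlkBasic.blkInd_of_not_mem hB, zero_mul] at h1
      exact h1.symm
    have h1 : classInner (chi (1 : ↥P →* ℂˣ)) (avg r H (ζ : G → ℂ)) =
        (Nat.card P : ℂ)⁻¹ * conj (avg r H (ζ : G → ℂ) 1) := by
      unfold classInner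
      congr 1
      rw [Finset.sum_eq_single (1 : ↥P)]
      · simp [chi]
      · intro z _ hz
        rw [h0 z hz]
        simp
      · intro hh
        exact absurd (Finset.mem_univ _) hh
    rw [H.inner_eq] at hA
    obtain ⟨n, hn⟩ : ∃ n : ℕ, classInner (chi ((1 : ↥P →* ℂˣ).comp r)) (fun c : ↥C => (ζ : G → ℂ) c) = n :=
      classInner_char_char (IsIrrCharacter.isCharacter (isIrr_chi _))
        (isCharacter_restrict C (IsIrrCharacter.isCharacter ζ.2))
    rw [H.inner_eq] at hn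
    have hn0 : n ≠ 0 := by
      rintro rfl
      apply hA
      simpa using hn
    -- norm bound
    have hbd : ‖avg r H (ζ : G → ℂ) 1‖ ≤ d := by
      unfold avg
      have hKne : (Nat.card r.ker : ℝ) ≠ 0 := by exact_mod_cast Nat.card_pos.ne'
      rw [norm_mul, norm_inv, Complex.norm_natCast]
      have h2 : ‖∑ k : r.ker, (ζ : G → ℂ) (((1 : ↥P) : G) * ((k : ↥C) : G))‖ ≤ Nat.card r.ker * d := by
        calc _ ≤ ∑ k : r.ker, ‖(ζ : G → ℂ) (((1 : ↥P) : G) * ((k : ↥C) : G))‖ := norm_sum_le _ _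
          _ ≤ ∑ _k : r.ker, (d : ℝ) := by
              refine Finset.sum_le_sum fun k _ => ?_
              have := Cfsg.Agent.Lib.GenChar.char_norm_le (IsIrrCharacter.isCharacter ζ.2)
                (((1 : ↥P) : G) * ((k : ↥C) : G))
              rw [hd, Complex.norm_natCast] at this
              exact this
          _ = _ := by
              rw [Finset.sum_const, Finset.card_univ, ← Nat.card_eq_fintype_card, nsmul_eq_mul]
      calc _ ≤ (Nat.card r.ker : ℝ)⁻¹ * (Nat.card r.ker * d) :=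
            mul_le_mul_of_nonneg_left h2 (by positivity)
        _ = d := by field_simp
    have h3 : conj (avg r H (ζ : G → ℂ) 1) = (Nat.card P : ℂ) * n := by
      rw [h1] at hn
      have hPne : (Nat.card P : ℂ) ≠ 0 := by exact_mod_cast Nat.card_pos.ne'
      field_simp at hn
      linear_combination hn
    have h4 : ‖avg r H (ζ : G → ℂ) 1‖ = (Nat.card P : ℝ) * n := by
      have := congrArg norm h3
      rw [RCLike.norm_conj, norm_mul, Complex.norm_natCast, Complex.norm_natCast] at this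
      exact this
    rw [h4] at hbd
    have h5 : Nat.card P * n ≤ d := by exact_mod_cast hbd
    have h6 : 1 ≤ n := Nat.pos_of_ne_zero hn0
    have h7 : Nat.card P * 1 ≤ Nat.card P * n := Nat.mul_le_mul_left _ h6
    omega

/-- If `K` is in the kernel, then the average on `P` is `ζ`. -/
theorem Hyp.avg_eq (ζ : G → ℂ) (hζ : IsCharacter G ζ) (h : ∀ y : ↥C, r y = 1 → ζ y = ζ 1) (z : ↥P) :
    avg r H ζ z = ζ z := by
  unfold avg
  have hKne : (Nat.card r.ker : ℂ) ≠ 0 := by exact_mod_cast Nat.card_pos.ne'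
  have h1 : ∀ k : r.ker, ζ ((z : G) * ((k : ↥C) : G)) = ζ z := fun k =>
    Cfsg.Agent.Lib.CharKernel.char_mul_of_mem_ker hζ (by simpa using h k k.2)
  simp_rw [h1]
  rw [Finset.sum_const, Finset.card_univ, ← Nat.card_eq_fintype_card, nsmul_eq_mul]
  field_simp

end KF

end Cfsg.Agent.Lib.TICent
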