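import Mathlib
import Cfsg.Agent.Lib.TICentKF
import Cfsg.Agent.Lib.CharCentral
import Cfsg.Agent.Lib.CharKernel
import Cfsg.Agent.Lib.GenChar

/-!
# Small irreducible characters under the uniform centralizer hypothesis

`P` a Sylow `p`-subgroup with `C(w) = C(P)` for all `1 ≠ w ∈ P`.  If no proper normal subgroup contains `P` and
`χ ≠ 1` is irreducible of degree `x` with `x² + 1 < |P|`, then `x = 1` and `N(P) = C(P)`.
-/

set_option autoImplicit false
set_option linter.style.haveILetI false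
set_option linter.unusedSectionVars false
set_option linter.unusedVariables false

namespace Cfsg.Agent.Lib.TICent

open Cfsg Cfsg.Agent.Lib.CharBasic Subgroup Cfsg.Agent.Lib.DefectOne Cfsg.Agent.Lib.CharKernel
open scoped ComplexConjugate

universe u

variable {G : Type u} [Group G] {p : ℕ} {P C : Subgroup G} {r : ↥C →* ↥P} {e : ℕ}

section Main

variable [Fintype G] (H : Hyp p P C r e) [Fintype C] [Fintype P]

theorem cj_bij (P : Subgroup G) [Finite P] (x : normalizer (P : Set G)) : Function.Bijective (cj P x) := by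
  refine Finite.injective_iff_bijective.1 ?_
  intro a b hab
  have h1 : (x : G)⁻¹ * a * x = (x : G)⁻¹ * b * x := congrArg Subtype.val hab
  apply Subtype.ext
  simpa using h1

theorem inner_smul_P (x : normalizer (P : Set G)) (f : ↥P →* ℂˣ) {ψ : G → ℂ} (hψ : IsClassFunction G ψ) :
    classInner (chi (x • f)) (fun z : ↥P => ψ z) = classInner (chi f) (fun z : ↥P => ψ z) := by
  unfold classInner
  congr 1
  refine Fintype.sum_bijective (cj P x) (cj_bij P x) _ _ fun z => ?_
  have h1 : ψ ((cj P x z : ↥P) : G) = ψ z := by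
    rw [cj_coe]
    have := hψ z (x : G)⁻¹
    simpa using this
  beta_reduce
  rw [h1]
  rfl

include H

theorem Hyp.inner_smul_C (x : normalizer (P : Set G)) (f : ↥P →* ℂˣ) {ψ : G → ℂ} (hψ : IsClassFunction G ψ) :
    classInner (chi ((x • f).comp r)) (fun c : ↥C => ψ c) = classInner (chi (f.comp r)) (fun c : ↥C => ψ c) := by
  unfold classInner
  congr 1
  refine Fintype.sum_bijective (H.cjC x) (H.cjC_bij x) _ _ fun c => ?_
  have h1 : ψ ((H.cjC x c : ↥C) : G) = ψ c := by
    rw [H.cjC_coe]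
    have := hψ c (x : G)⁻¹
    simpa using this
  beta_reduce
  rw [h1]
  congr 1
  simp only [chi, MonoidHom.comp_apply, DefectOne.smul_apply, H.r_cjC]

omit H in
/-- An irreducible character with `P` in its kernel is trivial when no proper normal subgroup contains `P`. -/
theorem eq_one_of_le_ker (hnorm : ∀ K : Subgroup G, K.Normal → P ≤ K → K = ⊤) (i : IrrCharacter G)
    (h : ∀ z ∈ P, (i : G → ℂ) z = (i : G → ℂ) 1) : i = oneIrr G := by
  classical
  have hic := IsIrrCharacter.isCharacter i.2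
  have hK : charKer hic = ⊤ := hnorm _ inferInstance (fun z hz => (mem_charKer hic).2 (h z hz))
  have hall : ∀ g, (i : G → ℂ) g = (i : G → ℂ) 1 := fun g => (mem_charKer hic).1 (hK ▸ mem_top g)
  by_contra hne
  have h0 := classInner_irr_ne i.2 (oneIrr G).2 (fun e => hne (Subtype.ext e))
  unfold classInner at h0
  have h1 : ∀ g : G, (i : G → ℂ) g * conj (((oneIrr G : IrrCharacter G) : G → ℂ) g) = (i : G → ℂ) 1 := by
    intro g
    rw [hall g]
    simp [oneIrr]
  simp_rw [h1] at h0
  rw [Finset.sum_const, Finset.card_univ, ← Nat.card_eq_fintype_card, nsmul_eq_mul, ← mul_assoc,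
    inv_mul_cancel₀ natCard_ne_zero', one_mul] at h0
  exact Cfsg.Agent.Lib.BlockIdem.irr_one_ne_zero' i.2 h0

/-- Summing an invariant function over the dual of `P`. -/
theorem Hyp.sum_dual_eq {t : ℕ} (hN : Nat.card (normalizer (P : Set G)) = Nat.card C * t)
    [DecidableEq (↥P →* ℂˣ)] [Fintype (↥P →* ℂˣ)]
    [Fintype (MulAction.orbitRel.Quotient ↥(normalizer (P : Set G)) (NT P))] (F : (↥P →* ℂˣ) → ℤ)
    (hF : ∀ (x : normalizer (P : Set G)) f, f ≠ 1 → F (x • f) = F f) :
    ∑ f, F f = F 1 + t * ∑ j : MulAction.orbitRel.Quotient ↥(normalizer (P : Set G)) (NT P), F (Quotient.out j).1 := by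
  classical
  have h1 := Fintype.sum_eq_add_sum_subtype_ne F (1 : ↥P →* ℂˣ)
  rw [h1]
  congr 1
  exact sum_eq_card_mul_sum_out t (H.card_orbit hN) (fun a : NT P => F a.1) (fun x a => hF x a.1 a.2)

end Main

section Main2

variable [Fintype G] (H : Hyp p P C r e) [Fintype C] [Fintype P] [Fintype r.ker]

/-- The decomposition of `χ χ̄` on a subgroup. -/
theorem sum_inner_one_pi (S : Subgroup G) [Fintype S] (χ : G → ℂ) (c : IrrCharacter G → ℕ)
    (hdec : χ * conjFun χ = ∑ i, c i • (i : G → ℂ)) (θ : ↥S → ℂ) (hθ : ∀ s, θ s = 1) :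
    ∑ i, (c i : ℂ) * classInner θ (fun s : ↥S => (i : G → ℂ) s) =
      classInner (fun s : ↥S => χ s) (fun s : ↥S => χ s) := by
  have h1 : (fun s : ↥S => (χ * conjFun χ) (s : G)) = ∑ i, (c i : ℂ) • (fun s : ↥S => (i : G → ℂ) s) := by
    funext s
    rw [hdec]
    simp [Finset.sum_apply]
  have h2 : classInner θ (fun s : ↥S => (χ * conjFun χ) (s : G)) =
      classInner (fun s : ↥S => χ s) (fun s : ↥S => χ s) := by
    unfold classInner
    congr 1
    refine Finset.sum_congr rfl fun s _ => ?_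
    simp only [hθ, one_mul, Pi.mul_apply, conjFun, map_mul, Complex.conj_conj]
    ring
  rw [← h2, h1, classInner_sum_right]
  refine Finset.sum_congr rfl fun i _ => ?_
  rw [classInner_smul_right, Complex.conj_natCast]

include H

/-- **Main theorem.** -/
theorem Hyp.main (hnorm : ∀ K : Subgroup G, K.Normal → P ≤ K → K = ⊤) (χ : IrrCharacter G)
    (hχ1 : χ ≠ oneIrr G) (hx : charDegree (χ : G → ℂ) ^ 2 + 1 < Nat.card P) : charDegree (χ : G → ℂ) = 1 := by
  classical
  have hc : ∀ u ∈ P, ∀ v ∈ P, u * v = v * u := fun u hu v hv => (H.comm_P hu hv).symm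
  haveI : Finite (↥P →* ℂˣ) := dual_finite hc
  letI : Fintype (↥P →* ℂˣ) := Fintype.ofFinite _
  haveI : Fintype (normalizer (P : Set G)) := Fintype.ofFinite _
  letI : Fintype (MulAction.orbitRel.Quotient ↥(normalizer (P : Set G)) (NT P)) := Fintype.ofFinite _
  let J := MulAction.orbitRel.Quotient ↥(normalizer (P : Set G)) (NT P)
  let o : J → NT P := fun j => Quotient.out j
  obtain ⟨t, hN⟩ : ∃ t, Nat.card (normalizer (P : Set G)) = Nat.card C * t :=
    Subgroup.card_dvd_of_le H.le_normalizer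
  have htpos : 0 < t := by
    rcases Nat.eq_zero_or_pos t with h | h
    · rw [h, mul_zero] at hN
      exact absurd hN Nat.card_pos.ne'
    · exact h
  have hchar : ∀ i : IrrCharacter G, IsCharacter G (i : G → ℂ) := fun i => IsIrrCharacter.isCharacter i.2
  have hclass : ∀ i : IrrCharacter G, IsClassFunction G (i : G → ℂ) :=
    fun i => isClassFunction_of_isCharacter (hchar i)
  have hm0 : ∀ (f : ↥P →* ℂˣ) (i : IrrCharacter G), ∃ n : ℕ, classInner (chi f) (fun z : ↥P => (i : G → ℂ) z) = n :=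
    fun f i => classInner_char_char (IsIrrCharacter.isCharacter (isIrr_chi f)) (isCharacter_restrict P (hchar i))
  choose m hm using hm0
  have ha0 : ∀ (f : ↥P →* ℂˣ) (i : IrrCharacter G), ∃ n : ℕ,
      classInner (chi (f.comp r)) (fun c : ↥C => (i : G → ℂ) c) = n :=
    fun f i => classInner_char_char (IsIrrCharacter.isCharacter (isIrr_chi _)) (isCharacter_restrict C (hchar i))
  choose a ha using ha0
  have hdeg0 : ∀ i : IrrCharacter G, ∃ n : ℕ, 0 < n ∧ (i : G → ℂ) 1 = n :=
    fun i => Cfsg.Agent.Lib.CharLattice.exists_degree_pos i.2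
  choose d hdpos hd using hdeg0
  have hminv : ∀ (x : normalizer (P : Set G)) f i, m (x • f) i = m f i := by
    intro x f i
    have h1 := inner_smul_P x f (hclass i)
    rw [hm, hm] at h1
    exact_mod_cast h1
  have hainv : ∀ (x : normalizer (P : Set G)) f i, a (x • f) i = a f i := by
    intro x f i
    have h1 := H.inner_smul_C x f (hclass i)
    rw [ha, ha] at h1
    exact_mod_cast h1
  have hmsum : ∀ i, ∑ f, m f i = d i := by
    intro i
    have h1 := sum_classInner hc (fun z : ↥P => (i : G → ℂ) z)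
    simp only [hm] at h1
    have h2 : ((∑ f, m f i : ℕ) : ℂ) = d i := by
      push_cast
      rw [h1]
      simp [hd i]
    exact_mod_cast h2
  have horb : ∀ (F : (↥P →* ℂˣ) → ℤ), (∀ (x : normalizer (P : Set G)) f, f ≠ 1 → F (x • f) = F f) →
      ∑ f, F f = F 1 + t * ∑ j : J, F (o j).1 := fun F hF => H.sum_dual_eq hN F hF
  have hcard : (Nat.card P : ℤ) = 1 + t * Fintype.card J := by
    have h1 := horb (fun _ => 1) (fun _ _ _ => rfl)
    simp only [Finset.sum_const, Finset.card_univ, nsmul_eq_mul, mul_one] at h1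
    rw [← Nat.card_eq_fintype_card (α := ↥P →* ℂˣ), card_dual hc] at h1
    have h2 : ((Nat.card P : ℕ) : ℤ) = 1 + t * Fintype.card J := by
      simpa using h1
    exact h2
  -- nontrivial irreducibles
  have hout : ∀ b : NT P, ∃ x : normalizer (P : Set G), x • b = o (Quotient.mk _ b) := by
    intro b
    have h1 : (Quotient.out (Quotient.mk _ b : J)) ∈ MulAction.orbit (normalizer (P : Set G)) b :=
      Quotient.mk_out (s := MulAction.orbitRel (normalizer (P : Set G)) (NT P)) b
    obtain ⟨x, hx⟩ := h1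
    exact ⟨x, hx⟩
  have hnt : ∀ i : IrrCharacter G, i ≠ oneIrr G → ∃ j : J, m (o j).1 i ≠ 0 := by
    intro i hi
    by_contra hall
    push Not at hall
    apply hi
    apply eq_one_of_le_ker hnorm
    intro z hz
    have h1 := exists_coeff_ne hc (fun z : ↥P => (i : G → ℂ) z) (by
      intro f hf
      rw [hm]
      obtain ⟨x, hx⟩ := hout ⟨f, hf⟩
      have h2 := hall (Quotient.mk _ ⟨f, hf⟩)
      rw [← hx] at h2
      have h3 : m (x • f) i = 0 := h2
      rw [hminv] at h3
      simp [h3]) ⟨z, hz⟩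
    simpa using h1
  have hmsum2 : ∀ i, (d i : ℤ) = m 1 i + t * ∑ j : J, (m (o j).1 i : ℤ) := by
    intro i
    have h1 := horb (fun f => (m f i : ℤ)) (fun x f _ => by simp only [hminv])
    rw [← h1, ← hmsum i]
    push_cast
    rfl
  have hsumJ : ∀ i, i ≠ oneIrr G → (1 : ℤ) ≤ ∑ j : J, (m (o j).1 i : ℤ) := by
    intro i hi
    obtain ⟨j, hj⟩ := hnt i hi
    have h1 : (m (o j).1 i : ℤ) ≤ ∑ j : J, (m (o j).1 i : ℤ) :=
      Finset.single_le_sum (f := fun j : J => (m (o j).1 i : ℤ)) (fun _ _ => by positivity) (Finset.mem_univ j)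
    have h2 : (1 : ℤ) ≤ m (o j).1 i := by exact_mod_cast Nat.pos_of_ne_zero hj
    omega
  have hdχ : d χ = charDegree (χ : G → ℂ) := by
    have h1 := hd χ
    rw [one_eq_charDegree (hchar χ)] at h1
    exact_mod_cast h1.symm
  set x := charDegree (χ : G → ℂ) with hxdef
  have htx : t ≤ x := by
    have h1 := hmsum2 χ
    have h2 := hsumJ χ hχ1
    rw [hdχ] at h1
    have h3 : (0 : ℤ) ≤ m 1 χ := by positivity
    have h4 : (t : ℤ) * 1 ≤ t * ∑ j : J, (m (o j).1 χ : ℤ) := mul_le_mul_of_nonneg_left h2 (by positivity)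
    have h5 : (t : ℤ) ≤ x := by linarith
    exact_mod_cast h5
  have htJ : t + 1 ≤ Fintype.card J := by
    have h1 : t * t ≤ x ^ 2 := by nlinarith
    have h2 : (x ^ 2 + 1 : ℤ) < Nat.card P := by exact_mod_cast hx
    rw [hcard] at h2
    have h3 : (t : ℤ) * t < t * Fintype.card J := by
      have h4 : ((t * t : ℕ) : ℤ) ≤ ((x ^ 2 : ℕ) : ℤ) := by exact_mod_cast h1
      push_cast at h4
      linarith
    have h5 : t * t < t * Fintype.card J := by exact_mod_cast h3
    exact Nat.lt_of_mul_lt_mul_left h5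
  -- the Gram data
  let u : J → IrrCharacter G → ℤ := fun j i => (a (o j).1 i : ℤ) - a 1 i
  have hu : ∀ (j : J) (i : IrrCharacter G), classInner (tF r (o j).1) (i : G → ℂ) = u j i := by
    intro j i
    unfold tF
    rw [classInner_theta _ (hclass i)]
    have h1 : (1 : ↥C →* ℂˣ) = (1 : ↥P →* ℂˣ).comp r := (MonoidHom.one_comp r).symm
    rw [h1, ha, ha]
    simp [u]
  have hinner : ∀ j k, ∑ i, u j i * u k i = (t : ℤ) + if j = k then 1 else 0 := by
    intro j k
    have h1 := H.inner_tF hN (o j).2 (o k).2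
    rw [parseval (tF_isClass r _)] at h1
    have h2 : (∃ x : normalizer (P : Set G), x • (o k).1 = (o j).1) ↔ j = k := by
      constructor
      · rintro ⟨x, hx⟩
        have h3 : x • (o k) = o j := Subtype.ext hx
        have h4 : (Quotient.mk _ (o j) : J) = Quotient.mk _ (o k) := by
          apply Quotient.sound
          exact ⟨x, h3⟩
        have h5 : ∀ l : J, (Quotient.mk _ (o l) : J) = l := fun l => Quotient.out_eq l
        rw [h5, h5] at h4
        exact h4
      · rintro rfl
        exact ⟨1, one_smul _ _⟩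
    simp only [h2] at h1
    have h3 : ∀ i : IrrCharacter G, conj (classInner (tF r (o k).1) (i : G → ℂ)) *
        classInner (tF r (o j).1) (i : G → ℂ) = ((u j i * u k i : ℤ) : ℂ) := by
      intro i
      rw [hu, hu]
      simp only [Int.cast_mul, map_intCast]
      ring
    simp_rw [h3] at h1
    rw [← Int.cast_sum] at h1
    have h4 : ((∑ i, u j i * u k i : ℤ) : ℂ) = (((t : ℤ) + if j = k then 1 else 0 : ℤ) : ℂ) := by
      rw [h1]
      split_ifs <;> simp
    exact_mod_cast h4
  have ha1 : ∀ f : ↥P →* ℂˣ, (a f (oneIrr G) : ℂ) = if f = 1 then 1 else 0 := by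
    intro f
    rw [← ha]
    have h2 : (fun c : ↥C => ((oneIrr G : IrrCharacter G) : G → ℂ) (c : G)) = chi ((1 : ↥P →* ℂˣ).comp r) := by
      funext c
      simp [oneIrr, chi]
    rw [h2, classInner_chi]
    by_cases hf : f = 1
    · rw [hf, if_pos rfl, if_pos rfl]
    · rw [if_neg hf, if_neg (fun h => hf (H.comp_inj h))]
  have hi₀ : ∀ j, u j (oneIrr G) = -1 := by
    intro j
    have h1 := ha1 (o j).1
    have h2 := ha1 1
    rw [if_neg (o j).2] at h1
    rw [if_pos rfl] at h2
    have h3 : a (o j).1 (oneIrr G) = 0 := by exact_mod_cast h1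
    have h4 : a 1 (oneIrr G) = 1 := by exact_mod_cast h2
    simp only [u, h3, h4]
    simp
  have hzero : ∀ j, ∑ i, (d i : ℤ) * u j i = 0 := by
    intro j
    have h1 := eval_eq_sum (tF_isClass r (o j).1) 1
    rw [tF_one] at h1
    have h2 : ∀ i : IrrCharacter G, classInner (tF r (o j).1) (i : G → ℂ) * (i : G → ℂ) 1 =
        (((d i : ℤ) * u j i : ℤ) : ℂ) := by
      intro i
      rw [hu, hd]
      push_cast
      ring
    simp_rw [h2] at h1
    rw [← Int.cast_sum] at h1
    exact_mod_cast h1.symm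
  -- `π = χ χ̄`
  have hπ : IsCharacter G ((χ : G → ℂ) * conjFun (χ : G → ℂ)) :=
    isCharacter_mul (hchar χ) (Cfsg.Agent.Lib.GenChar.isCharacter_conjFun (hchar χ))
  obtain ⟨cc, hdec⟩ := exists_nat_decomp hπ
  have hcone : cc (oneIrr G) = 1 := by
    have h1 := classInner_nat_decomp cc _ (oneIrr G).2
    rw [← hdec] at h1
    have h2 : classInner ((χ : G → ℂ) * conjFun (χ : G → ℂ)) ((oneIrr G : IrrCharacter G) : G → ℂ) =
        classInner (χ : G → ℂ) (χ : G → ℂ) := by
      unfold classInner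
      congr 1
      refine Finset.sum_congr rfl fun g _ => ?_
      simp [oneIrr, conjFun]
    rw [h2, classInner_irr_self χ.2] at h1
    have h3 : ((cc (oneIrr G) : ℕ) : ℂ) = 1 := h1.symm
    exact_mod_cast h3
  have hdegsum : ∑ l, cc l * d l = x ^ 2 := by
    have h1 := congrFun hdec 1
    rw [Finset.sum_apply] at h1
    simp only [Pi.mul_apply, conjFun, Pi.smul_apply, hd, nsmul_eq_mul] at h1
    have h2 : (d χ : ℂ) * (starRingEnd ℂ) (d χ : ℂ) = ((x ^ 2 : ℕ) : ℂ) := by
      rw [Complex.conj_natCast, hdχ]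
      push_cast
      ring
    rw [h2] at h1
    have h3 : ((x ^ 2 : ℕ) : ℂ) = ((∑ l, cc l * d l : ℕ) : ℂ) := by
      rw [h1]
      push_cast
      rfl
    exact_mod_cast h3.symm
  have hBeq : ∑ l, cc l * m 1 l = ∑ f, m f χ ^ 2 := by
    have h1 := sum_inner_one_pi P (χ : G → ℂ) cc hdec (chi (1 : ↥P →* ℂˣ)) (by simp [chi])
    simp_rw [hm] at h1
    have h2 := sum_classInner_mul_conj hc (fun z : ↥P => (χ : G → ℂ) z)
    simp_rw [hm] at h2
    rw [← h2] at h1
    have h3 : ((∑ l, cc l * m 1 l : ℕ) : ℂ) = ((∑ f, m f χ ^ 2 : ℕ) : ℂ) := by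
      push_cast
      rw [h1]
      refine Finset.sum_congr rfl fun f _ => ?_
      rw [Complex.conj_natCast]
      ring
    exact_mod_cast h3
  have htB : t ≤ ∑ f, m f χ ^ 2 := by
    have h1 := horb (fun f => ((m f χ ^ 2 : ℕ) : ℤ)) (fun x f _ => by simp only [hminv])
    obtain ⟨j, hj⟩ := hnt χ hχ1
    have h2 : ((m (o j).1 χ ^ 2 : ℕ) : ℤ) ≤ ∑ j : J, ((m (o j).1 χ ^ 2 : ℕ) : ℤ) :=
      Finset.single_le_sum (f := fun j : J => ((m (o j).1 χ ^ 2 : ℕ) : ℤ)) (fun _ _ => by positivity) (Finset.mem_univ j)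
    have h3 : (1 : ℤ) ≤ ((m (o j).1 χ ^ 2 : ℕ) : ℤ) := by
      have : 1 ≤ m (o j).1 χ ^ 2 := Nat.pos_of_ne_zero (pow_ne_zero 2 hj)
      exact_mod_cast this
    have h4 : (1 : ℤ) ≤ ∑ j : J, ((m (o j).1 χ ^ 2 : ℕ) : ℤ) := le_trans h3 h2
    have h5 : ((∑ f, m f χ ^ 2 : ℕ) : ℤ) = ((m 1 χ ^ 2 : ℕ) : ℤ) + t * ∑ j : J, ((m (o j).1 χ ^ 2 : ℕ) : ℤ) := by
      rw [← h1]
      push_cast
      rfl
    have h6 : (t : ℤ) * 1 ≤ t * ∑ j : J, ((m (o j).1 χ ^ 2 : ℕ) : ℤ) := mul_le_mul_of_nonneg_left h4 (by positivity)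
    have h7 : (0 : ℤ) ≤ ((m 1 χ ^ 2 : ℕ) : ℤ) := by positivity
    have h8 : (t : ℤ) ≤ ((∑ f, m f χ ^ 2 : ℕ) : ℤ) := by linarith
    exact_mod_cast h8
  have hm1le : ∀ l, m 1 l ≤ d l := by
    intro l
    rw [← hmsum l]
    exact Finset.single_le_sum (f := fun f => m f l) (fun _ _ => Nat.zero_le _) (Finset.mem_univ _)
  -- **Claim**
  have hclaim : ∀ i, cc i ≠ 0 → i ≠ oneIrr G → a 1 i = 0 := by
    intro i hci hi
    by_contra hA0
    have hd1 : d (oneIrr G) = 1 := by
      have h1 := hd (oneIrr G)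
      have h2 : ((oneIrr G : IrrCharacter G) : G → ℂ) 1 = 1 := by simp [oneIrr]
      rw [h2] at h1
      exact_mod_cast h1.symm
    have hdi : d i + 1 ≤ x ^ 2 := by
      rw [← hdegsum]
      have h1 : ∑ l ∈ ({oneIrr G, i} : Finset (IrrCharacter G)), cc l * d l ≤ ∑ l, cc l * d l :=
        Finset.sum_le_sum_of_subset (Finset.subset_univ _)
      rw [Finset.sum_pair hi.symm, hcone, hd1] at h1
      have h2 : d i ≤ cc i * d i := Nat.le_mul_of_pos_left _ (Nat.pos_of_ne_zero hci)
      omega
    have hdP : d i < Nat.card P := by omega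
    have hAne : classInner (chi ((1 : ↥P →* ℂˣ).comp r)) (fun c : ↥C => (i : G → ℂ) c) ≠ 0 := by
      rw [ha]
      exact_mod_cast hA0
    have hker := H.kF i (hd i) hdP hAne
    have hav' : avg r H (i : G → ℂ) = fun z : ↥P => (i : G → ℂ) z :=
      funext (H.avg_eq _ (hchar i) hker)
    have ham : ∀ f, a f i = m f i := by
      intro f
      have h1 := H.inner_eq f (i : G → ℂ)
      rw [ha, hav', hm] at h1
      exact_mod_cast h1
    obtain ⟨f₀, hf₀⟩ : ∃ f₀, m f₀ i = 0 := by
      by_contra hall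
      push Not at hall
      have h1 : ∑ _f : ↥P →* ℂˣ, 1 ≤ ∑ f, m f i := Finset.sum_le_sum fun f _ => Nat.pos_of_ne_zero (hall f)
      rw [hmsum, Finset.sum_const, Finset.card_univ, ← Nat.card_eq_fintype_card, card_dual hc] at h1
      simp only [smul_eq_mul, mul_one] at h1
      omega
    have hf₀1 : f₀ ≠ 1 := by
      rintro rfl
      exact hA0 (by rw [ham]; exact hf₀)
    let j₀ : J := Quotient.mk _ ⟨f₀, hf₀1⟩
    obtain ⟨x₀, hx₀⟩ := hout ⟨f₀, hf₀1⟩
    have hj₀ : a (o j₀).1 i = 0 := by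
      have h1 : (o j₀).1 = x₀ • f₀ := (congrArg Subtype.val hx₀).symm
      rw [h1, hainv, ham, hf₀]
    have hle1 : ∀ j, a (o j).1 i ≤ 1 := by
      intro j
      by_cases hj : j = j₀
      · rw [hj, hj₀]
        omega
      · have h2 : ∑ l, (u j l - u j₀ l) * (u j l - u j₀ l) = 2 := by
          have h1 : ∑ l, (u j l - u j₀ l) * (u j l - u j₀ l) = ∑ l, u j l * u j l - ∑ l, u j l * u j₀ l -
              ∑ l, u j₀ l * u j l + ∑ l, u j₀ l * u j₀ l := by
            rw [← Finset.sum_sub_distrib, ← Finset.sum_sub_distrib, ← Finset.sum_add_distrib]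
            refine Finset.sum_congr rfl fun l _ => ?_
            ring
          rw [h1, hinner, hinner, hinner, hinner, if_pos rfl, if_pos rfl, if_neg hj, if_neg (Ne.symm hj)]
          ring
        have h3 : (u j i - u j₀ i) * (u j i - u j₀ i) ≤ ∑ l, (u j l - u j₀ l) * (u j l - u j₀ l) :=
          Finset.single_le_sum (f := fun l => (u j l - u j₀ l) * (u j l - u j₀ l))
            (fun l _ => mul_self_nonneg _) (Finset.mem_univ i)
        have h4 : u j i - u j₀ i = a (o j).1 i := by
          simp only [u, hj₀]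
          push_cast
          ring
        rw [h2, h4] at h3
        by_contra h5
        push Not at h5
        have h6 : (2 : ℤ) ≤ a (o j).1 i := by exact_mod_cast h5
        nlinarith
    obtain ⟨g₀, hg₀⟩ : ∃ g₀, a (o g₀).1 i ≠ 0 := by
      obtain ⟨j, hj⟩ := hnt i hi
      exact ⟨j, by rw [ham]; exact hj⟩
    have hg₀1 : a (o g₀).1 i = 1 := by
      have := hle1 g₀
      omega
    have hA1 : (1 : ℤ) ≤ (a 1 i : ℤ) := by exact_mod_cast Nat.pos_of_ne_zero hA0
    have hsub := zero_class_subsingleton t u (fun l => (d l : ℤ)) (fun l => by exact_mod_cast hdpos l)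
      (oneIrr G) hi₀ hinner hzero htJ i hi (a 1 i : ℤ) hA1 (fun j => by
        have h4 := hle1 j
        have h5 : a (o j).1 i = 0 ∨ a (o j).1 i = 1 := by omega
        rcases h5 with h5 | h5
        · right
          simp [u, h5]
        · left
          simp [u, h5]) g₀ (by simp [u, hg₀1])
    have hother : ∀ j, j ≠ j₀ → a (o j).1 i = 1 := by
      intro j hj
      have h4 := hle1 j
      by_contra h7
      have h8 : a (o j).1 i = 0 := by omega
      exact hj (hsub j j₀ (by simp [u, h8]) (by simp [u, hj₀]))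
    have hsumA : Fintype.card J ≤ (∑ j, a (o j).1 i) + 1 := by
      have h1 := Finset.add_sum_erase Finset.univ (fun j => a (o j).1 i) (Finset.mem_univ j₀)
      have h2 : ∑ j ∈ Finset.univ.erase j₀, a (o j).1 i = (Finset.univ.erase j₀).card := by
        rw [Finset.card_eq_sum_ones]
        refine Finset.sum_congr rfl fun j hj => hother j (Finset.ne_of_mem_erase hj)
      rw [Finset.card_erase_of_mem (Finset.mem_univ _), Finset.card_univ] at h2
      omega
    set W := t * (Fintype.card J - 1) with hW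
    have hmW : m 1 i + W ≤ d i := by
      have h1 := hmsum2 i
      have h2 : ∑ j : J, (m (o j).1 i : ℤ) = ((∑ j, a (o j).1 i : ℕ) : ℤ) := by
        push_cast
        refine Finset.sum_congr rfl fun j _ => ?_
        rw [ham]
      rw [h2] at h1
      have h3 : W ≤ t * ∑ j, a (o j).1 i := Nat.mul_le_mul_left _ (by omega)
      have h4 : ((m 1 i + t * ∑ j, a (o j).1 i : ℕ) : ℤ) = d i := by
        rw [h1]
        push_cast
        ring
      have h5 : m 1 i + t * ∑ j, a (o j).1 i = d i := by exact_mod_cast h4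
      omega
    have hfinal : (∑ l, cc l * m 1 l) + W ≤ ∑ l, cc l * d l := by
      have h1 := Finset.add_sum_erase Finset.univ (fun l => cc l * m 1 l) (Finset.mem_univ i)
      have h2 := Finset.add_sum_erase Finset.univ (fun l => cc l * d l) (Finset.mem_univ i)
      have h3 : ∑ l ∈ Finset.univ.erase i, cc l * m 1 l ≤ ∑ l ∈ Finset.univ.erase i, cc l * d l :=
        Finset.sum_le_sum fun l _ => Nat.mul_le_mul_left _ (hm1le l)
      have h4 : cc i * m 1 i + W ≤ cc i * d i := by
        have h5 : cc i * (m 1 i + W) ≤ cc i * d i := Nat.mul_le_mul_left _ hmW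
        have h6 : W ≤ cc i * W := Nat.le_mul_of_pos_left _ (Nat.pos_of_ne_zero hci)
        rw [mul_add] at h5
        omega
      omega
    rw [hBeq, hdegsum] at hfinal
    have hJpos : 1 ≤ Fintype.card J := by omega
    have h5 : t + W = t * Fintype.card J := by
      rw [hW]
      obtain ⟨q, hq⟩ : ∃ q, Fintype.card J = q + 1 := ⟨Fintype.card J - 1, by omega⟩
      rw [hq]
      simp only [Nat.add_sub_cancel]
      ring
    have h6 : t * Fintype.card J + 1 = Nat.card P := by
      have h7 : ((t * Fintype.card J + 1 : ℕ) : ℤ) = Nat.card P := by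
        rw [hcard]
        push_cast
        ring
      exact_mod_cast h7
    omega
  -- `χ|_C` is irreducible
  have hnormC : classInner (fun c : ↥C => (χ : G → ℂ) c) (fun c : ↥C => (χ : G → ℂ) c) = 1 := by
    have h1 := sum_inner_one_pi C (χ : G → ℂ) cc hdec (chi ((1 : ↥P →* ℂˣ).comp r)) (by simp [chi])
    simp_rw [ha] at h1
    rw [← h1, Finset.sum_eq_single (oneIrr G)]
    · rw [hcone, ha1 1, if_pos rfl]
      simp
    · intro l _ hl
      by_cases hcl : cc l = 0
      · simp [hcl]
      · rw [hclaim l hcl hl]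
        simp
    · intro hh
      exact absurd (Finset.mem_univ _) hh
  have hirrC := isIrrCharacter_of_norm_one (isCharacter_restrict C (hchar χ)) hnormC
  have hkerπ : charKer hπ = ⊤ := by
    apply hnorm _ inferInstance
    intro w hw
    rw [mem_charKer hπ]
    have h1 := Cfsg.Agent.Lib.CharCentral.central_norm hirrC (z := (⟨w, H.le hw⟩ : ↥C)) (fun g => by
      apply Subtype.ext
      exact (H.comm hw g.2).symm)
    simp only [Pi.mul_apply, conjFun]
    simp only [Subgroup.coe_one] at h1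
    rw [h1, hd χ, Complex.conj_natCast]
  have hallπ : ∀ g, ((χ : G → ℂ) * conjFun (χ : G → ℂ)) g = ((χ : G → ℂ) * conjFun (χ : G → ℂ)) 1 :=
    fun g => (mem_charKer hπ).1 (hkerπ ▸ mem_top g)
  have hfin := classInner_irr_self χ.2
  unfold classInner at hfin
  have h2 : ∀ g : G, (χ : G → ℂ) g * conj ((χ : G → ℂ) g) = ((χ : G → ℂ) * conjFun (χ : G → ℂ)) 1 :=
    fun g => hallπ g
  simp_rw [h2] at hfin
  rw [Finset.sum_const, Finset.card_univ, ← Nat.card_eq_fintype_card, nsmul_eq_mul, ← mul_assoc,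
    inv_mul_cancel₀ natCard_ne_zero', one_mul] at hfin
  simp only [Pi.mul_apply, conjFun] at hfin
  rw [hd χ, Complex.conj_natCast, hdχ] at hfin
  have h3 : x * x = 1 := by exact_mod_cast hfin
  exact Nat.eq_one_of_mul_eq_one_right h3

/-- The final consequence: `N(P) ≤ C`. -/
theorem Hyp.normalizer_le (hnorm : ∀ K : Subgroup G, K.Normal → P ≤ K → K = ⊤) (χ : IrrCharacter G)
    (hχ1 : χ ≠ oneIrr G) (hx : charDegree (χ : G → ℂ) = 1) : normalizer (P : Set G) ≤ C := by
  classical
  have hc := IsIrrCharacter.isCharacter χ.2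
  have h1 : (χ : G → ℂ) 1 = 1 := by
    rw [one_eq_charDegree hc, hx]
    simp
  obtain ⟨h, hh⟩ := exists_hom_of_degree_one hc h1
  let f : ↥P →* ℂˣ := h.comp P.subtype
  have hf : f ≠ 1 := by
    intro hf1
    apply hχ1
    apply eq_one_of_le_ker hnorm
    intro z hz
    rw [h1, hh]
    have := DFunLike.congr_fun hf1 ⟨z, hz⟩
    have h2 : h z = 1 := this
    rw [h2]
    simp
  intro x hx
  have hst : (⟨x, hx⟩ : normalizer (P : Set G)) ∈ MulAction.stabilizer ↥(normalizer (P : Set G)) f := by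
    rw [MulAction.mem_stabilizer_iff]
    ext w
    rw [DefectOne.smul_apply]
    simp only [f, MonoidHom.comp_apply, Subgroup.subtype_apply, cj_coe, map_mul, map_inv]
    rw [mul_comm (h x)⁻¹, mul_assoc, inv_mul_cancel, mul_one]
  rw [H.stabilizer_eq hf, Subgroup.mem_subgroupOf] at hst
  exact hst

end Main2

section Existence

open scoped IsMulCommutative

/-- The retraction exists. -/
theorem exists_hyp {G : Type*} [Group G] [Finite G] (p : ℕ) (hp : p.Prime) (P : Sylow p G)
    (hstar : ∀ x ∈ (P : Subgroup G), x ≠ 1 →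
      centralizer ({x} : Set G) = centralizer ((P : Subgroup G) : Set G))
    (hP1 : 1 < Nat.card (P : Subgroup G)) :
    ∃ (r : ↥(centralizer ((P : Subgroup G) : Set G)) →* ↥(P : Subgroup G)) (e : ℕ),
      Hyp p (P : Subgroup G) (centralizer ((P : Subgroup G) : Set G)) r e := by
  classical
  haveI : Fact p.Prime := ⟨hp⟩
  have hcomm : ∀ u ∈ (P : Subgroup G), ∀ v ∈ (P : Subgroup G), u * v = v * u := by
    intro u hu v hv
    by_cases hv1 : v = 1
    · rw [hv1]
      simp
    · have h1 : v ∈ centralizer ({v} : Set G) := by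
        rw [mem_centralizer_singleton_iff]
      rw [hstar v hv hv1, mem_centralizer_iff] at h1
      exact h1 u hu
  have hle : (P : Subgroup G) ≤ centralizer ((P : Subgroup G) : Set G) := by
    intro u hu
    rw [mem_centralizer_iff]
    intro v hv
    exact hcomm v hv u hu
  set C := centralizer ((P : Subgroup G) : Set G) with hC
  let Q : Subgroup ↥C := (P : Subgroup G).subgroupOf C
  have hQc : ∀ q ∈ Q, ∀ c : ↥C, c * q = q * c := by
    intro q hq c
    apply Subtype.ext
    have h1 := (mem_centralizer_iff.1 c.2) q (Subgroup.mem_subgroupOf.1 hq)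
    exact h1.symm
  haveI : IsMulCommutative Q := ⟨⟨fun a b => Subtype.ext (hQc a a.2 b).symm⟩⟩
  let m := Q.index
  have key : ∀ (c : ↥C) (k : ℕ) (g₀ : ↥C), g₀⁻¹ * c ^ k * g₀ ∈ Q → g₀⁻¹ * c ^ k * g₀ = c ^ k := by
    intro c k g₀ hq
    have h1 := hQc _ hq g₀
    calc g₀⁻¹ * c ^ k * g₀ = (g₀⁻¹ * c ^ k * g₀) * g₀ * g₀⁻¹ := by group
      _ = g₀ * (g₀⁻¹ * c ^ k * g₀) * g₀⁻¹ := by rw [h1]
      _ = c ^ k := by group
  let v : ↥C →* ↥Q := MonoidHom.transfer (MonoidHom.id ↥Q)
  have hv : ∀ c : ↥C, v c = ⟨c ^ m, MonoidHom.transfer_eq_pow_aux c (key c)⟩ := fun c =>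
    MonoidHom.transfer_eq_pow (MonoidHom.id ↥Q) c (key c)
  have hmul : ∀ a b : ↥C, (a * b) ^ m = a ^ m * b ^ m := by
    intro a b
    have h1 := map_mul v a b
    rw [hv, hv, hv] at h1
    exact congrArg Subtype.val h1
  have hpowQ : ∀ c : ↥C, ((c ^ m : ↥C) : G) ∈ (P : Subgroup G) := fun c =>
    Subgroup.mem_subgroupOf.1 (MonoidHom.transfer_eq_pow_aux c (key c))
  have hnd : ¬ p ∣ m := by
    have := (P.subtype hle).not_dvd_index
    rwa [Sylow.coe_subtype] at this
  obtain ⟨k, hk⟩ := IsPGroup.iff_card.1 P.isPGroup'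
  have hk' : Nat.card (P : Subgroup G) = p ^ k := hk
  have hcop : Nat.Coprime m (Nat.card (P : Subgroup G)) := by
    rw [hk']
    exact Nat.Coprime.pow_right _ ((Nat.Prime.coprime_iff_not_dvd hp).2 hnd).symm
  obtain ⟨i, -, hi⟩ := Nat.exists_mul_mod_eq_one_of_coprime hcop hP1
  have hpowmem : ∀ c : ↥C, (c : G) ^ (m * i) ∈ (P : Subgroup G) := by
    intro c
    rw [pow_mul]
    exact Subgroup.pow_mem _ (by simpa using hpowQ c) i
  have hid : ∀ z ∈ (P : Subgroup G), z ^ (m * i) = z := by
    intro z hz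
    have h1 : z ^ Nat.card (P : Subgroup G) = 1 := by
      have := pow_card_eq_one' (x := (⟨z, hz⟩ : ↥(P : Subgroup G)))
      exact congrArg Subtype.val this
    have h2 := Nat.div_add_mod (m * i) (Nat.card (P : Subgroup G))
    rw [hi] at h2
    rw [← h2, pow_add, pow_mul, h1]
    simp
  let r : ↥C →* ↥(P : Subgroup G) :=
    { toFun := fun c => ⟨(c : G) ^ (m * i), hpowmem c⟩
      map_one' := by
        apply Subtype.ext
        simp
      map_mul' := fun a b => by
        apply Subtype.ext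
        have h1 : ((a : G) * (b : G)) ^ m = (a : G) ^ m * (b : G) ^ m := by
          have := congrArg Subtype.val (hmul a b)
          simpa using this
        simp only [Subgroup.coe_mul]
        rw [pow_mul ((a : G) * (b : G)), pow_mul (a : G), pow_mul (b : G)]
        have h2 : (a : G) ^ m ∈ (P : Subgroup G) := by simpa using hpowQ a
        have h3 : (b : G) ^ m ∈ (P : Subgroup G) := by simpa using hpowQ b
        have h4 : Commute ((a : G) ^ m) ((b : G) ^ m) := hcomm _ h2 _ h3
        rw [← h4.mul_pow, h1] }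
  refine ⟨r, m * i, ⟨hp, P.isPGroup', hle, rfl, hstar, fun c => rfl, fun z => Subtype.ext (hid z z.2), ?_⟩⟩
  have hrsurj : Function.Surjective r := fun z => ⟨⟨z, hle z.2⟩, Subtype.ext (hid z z.2)⟩
  have h1 := Subgroup.card_mul_index r.ker
  rw [Subgroup.index_ker, MonoidHom.range_eq_top.2 hrsurj, Subgroup.card_top] at h1
  have h2 := Subgroup.card_mul_index Q
  have h3 : Nat.card Q = Nat.card (P : Subgroup G) :=
    Nat.card_congr (Subgroup.subgroupOfEquivOfLe hle).toEquiv
  rw [h3] at h2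
  have h4 : Nat.card r.ker = Q.index := by
    have h5 : Nat.card r.ker * Nat.card (P : Subgroup G) = Q.index * Nat.card (P : Subgroup G) := by
      rw [h1, mul_comm Q.index, h2]
    exact Nat.eq_of_mul_eq_mul_right (by omega) h5
  rw [h4]
  exact hnd

end Existence

end Cfsg.Agent.Lib.TICent
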