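import Mathlib
import Cfsg.Agent.Lib.TICentMain
import Cfsg.Agent.Lib.S4501Gen9
import Cfsg.Agent.Lib.InvolutionFusion2

/-!
# Sylow `3`-subgroups of order `3`: the generalized character `3 · 1_S`

If `X` is a Sylow `3`-subgroup of order `3` and `N(X) ≠ C(X)`, then the function equal to `3` on the elements of order
divisible by `3` and to `0` elsewhere is `1 + α - β` for irreducible `α`, `β`, `β(1) = α(1) + 1`.
-/

set_option autoImplicit false
set_option linter.style.haveILetI false
set_option linter.unusedSectionVars false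
set_option linter.unusedVariables false

namespace Cfsg.Agent.Lib.S4501Psi9

open Cfsg Cfsg.Agent.Lib.CharBasic Cfsg.Agent.Lib.CharKernel Subgroup
open Cfsg.Agent.Lib.DefectOne Cfsg.Agent.Lib.TICent
open scoped ComplexConjugate

universe u

variable {G : Type u} [Group G]

section Order3

variable {P : Subgroup G} [Finite P] (hP : Nat.card P = 3)
include hP

theorem zpowers_eq {x : G} (hx : x ∈ P) (h1 : x ≠ 1) : zpowers x = P := by
  have hle : zpowers x ≤ P := by
    rw [zpowers_le]
    exact hx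
  apply Subgroup.eq_of_le_of_card_ge hle
  rw [hP, Nat.card_zpowers]
  have h2 : orderOf x ∣ 3 := by
    have h3 : orderOf (⟨x, hx⟩ : P) ∣ Nat.card P := orderOf_dvd_natCard _
    rw [hP, Subgroup.orderOf_mk] at h3
    exact h3
  rcases (Nat.dvd_prime Nat.prime_three).1 h2 with h3 | h3
  · exact absurd (orderOf_eq_one_iff.1 h3) h1
  · omega

theorem centralizer_eq {x : G} (hx : x ∈ P) (h1 : x ≠ 1) :
    centralizer ({x} : Set G) = centralizer (P : Set G) := by
  apply le_antisymm
  · intro y hy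
    rw [mem_centralizer_singleton_iff] at hy
    rw [mem_centralizer_iff]
    intro w hw
    rw [← zpowers_eq hP hx h1] at hw
    obtain ⟨k, rfl⟩ := Subgroup.mem_zpowers_iff.1 hw
    exact ((Commute.zpow_right (show Commute y x from hy) k)).symm.eq
  · apply centralizer_le
    simpa using hx

/-- The non-identity elements are `z` and `z⁻¹`. -/
theorem eq_or_eq_inv {z w : G} (hz : z ∈ P) (hz1 : z ≠ 1) (hw : w ∈ P) (hw1 : w ≠ 1) :
    w = z ∨ w = z⁻¹ := by
  rw [← zpowers_eq hP hz hz1] at hw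
  obtain ⟨k, rfl⟩ := Subgroup.mem_zpowers_iff.1 hw
  have h3 : orderOf z = 3 := by
    have h4 : Nat.card (zpowers z) = 3 := by rw [zpowers_eq hP hz hz1, hP]
    rwa [Nat.card_zpowers] at h4
  have h5 : z ^ (3 : ℕ) = 1 := by rw [← h3]; exact pow_orderOf_eq_one z
  have h6 : z ^ k = z ^ (k % 3) := by
    have := zpow_mod_orderOf z k
    rw [h3] at this
    exact_mod_cast this.symm
  have h7 : k % 3 = 0 ∨ k % 3 = 1 ∨ k % 3 = 2 := by omega
  rw [h6] at hw1 ⊢
  rcases h7 with h7 | h7 | h7
  · rw [h7] at hw1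
    simp at hw1
  · left
    rw [h7]
    simp
  · right
    rw [h7]
    have : z ^ (2 : ℤ) * z = 1 := by
      rw [← h5]
      group
    exact eq_inv_of_mul_eq_one_left this

end Order3

/-- An order `3` element of the complex numbers. -/
theorem sum_of_cube {ω : ℂ} (h3 : ω ^ 3 = 1) (h1 : ω ≠ 1) : ω + ω⁻¹ = -1 := by
  have h0 : ω ≠ 0 := by
    rintro rfl
    norm_num at h3
  have h2 : (ω - 1) * (ω ^ 2 + ω + 1) = 0 := by
    linear_combination h3
  have h4 : ω ^ 2 + ω + 1 = 0 := (mul_eq_zero.1 h2).resolve_left (sub_ne_zero.2 h1)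
  field_simp
  linear_combination h4

section Main

variable [Fintype G] {P C : Subgroup G} {r : ↥C →* ↥P} {e : ℕ} (H : Hyp 3 P C r e)
  (hP : Nat.card P = 3) {f : ↥P →* ℂˣ} (hf : f ≠ 1)
  (hN : Nat.card (normalizer (P : Set G)) = Nat.card C * 2)
include H hP hf hN

/-- The value of `Θ_f` on the elements of `C` outside `ker r`. -/
theorem tF_value (c : ↥C) (hc : r c ≠ 1) : tF r f (c : G) = -3 := by
  classical
  haveI : Fintype ↥C := Fintype.ofFinite _
  haveI : Fintype (normalizer (P : Set G)) := Fintype.ofFinite _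
  have hc0 : (Nat.card C : ℂ) ≠ 0 := by exact_mod_cast Nat.card_pos.ne'
  unfold tF theta
  rw [H.indFun_coe _ (fun c hc => alpha_comp_eq_zero f hc)]
  set z := r c with hz
  have hz1 : (z : G) ≠ 1 := fun h => hc (Subtype.ext h)
  have hz3 : z ^ 3 = 1 := by
    have h1 : orderOf z ∣ Nat.card P := orderOf_dvd_natCard z
    rw [hP] at h1
    exact orderOf_dvd_iff_pow_eq_one.1 h1
  set ω : ℂ := ((f z : ℂˣ) : ℂ) with hω
  have hω3 : ω ^ 3 = 1 := by
    rw [hω, ← Units.val_pow_eq_pow_val, ← map_pow, hz3, map_one, Units.val_one]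
  have hω1 : ω ≠ 1 := by
    intro h
    apply hf
    have hfz : f z = 1 := Units.ext h
    ext w
    by_cases hw : (w : G) = 1
    · have : w = 1 := Subtype.ext hw
      rw [this]
      simp
    · have h1 := zpowers_eq hP z.2 hz1
      have h2 : (w : G) ∈ zpowers (z : G) := by rw [h1]; exact w.2
      obtain ⟨k, hk⟩ := Subgroup.mem_zpowers_iff.1 h2
      have h3 : w = z ^ k := Subtype.ext (by simpa using hk.symm)
      rw [h3, map_zpow, hfz]
      simp
  have hval : ∀ x : normalizer (P : Set G), alpha (f.comp r) (H.cjC x c) =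
      if (x : G) ∈ C then ω - 1 else ω⁻¹ - 1 := by
    intro x
    have h1 : alpha (f.comp r) (H.cjC x c) = ((f (cj P x z) : ℂˣ) : ℂ) - 1 := by
      simp only [alpha, chi, Pi.sub_apply, MonoidHom.comp_apply, H.r_cjC]
      simp [hz]
    rw [h1]
    split_ifs with hx
    · have h2 : cj P x z = z := by
        apply Subtype.ext
        rw [cj_coe]
        have h3 := H.comm z.2 hx
        calc (x : G)⁻¹ * z * x = (x : G)⁻¹ * (z * x) := by group
          _ = (x : G)⁻¹ * (x * z) := by rw [h3]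
          _ = z := by group
      rw [h2]
    · have hne1 : ((cj P x z : ↥P) : G) ≠ 1 := by
        rw [cj_coe]
        intro h
        apply hz1
        have : (z : G) = (x : G) * ((x : G)⁻¹ * z * x) * (x : G)⁻¹ := by group
        rw [this, h]
        group
      have hne2 : ((cj P x z : ↥P) : G) ≠ z := by
        rw [cj_coe]
        intro h
        apply hx
        rw [← H.star z z.2 hz1, mem_centralizer_singleton_iff]
        calc (x : G) * z = x * ((x : G)⁻¹ * z * x) := by rw [h]
          _ = z * x := by group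
      have h2 : cj P x z = z⁻¹ := by
        apply Subtype.ext
        rcases eq_or_eq_inv hP z.2 hz1 (cj P x z).2 hne1 with h3 | h3
        · exact absurd h3 hne2
        · simpa using h3
      rw [h2, map_inv, Units.val_inv_eq_inv_val]
  simp_rw [hval]
  rw [Finset.sum_ite, Finset.sum_const, Finset.sum_const, nsmul_eq_mul, nsmul_eq_mul]
  have hcard1 : (Finset.univ.filter (fun x : normalizer (P : Set G) => (x : G) ∈ C)).card = Nat.card C := by
    rw [← Fintype.card_subtype, ← Nat.card_eq_fintype_card]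
    refine Nat.card_congr ⟨fun x => ⟨x.1.1, x.2⟩, fun c => ⟨⟨c.1, H.le_normalizer c.2⟩, c.2⟩, ?_, ?_⟩
    · intro x
      rfl
    · intro c
      rfl
  have hcard2 : (Finset.univ.filter (fun x : normalizer (P : Set G) => (x : G) ∉ C)).card = Nat.card C := by
    have h1 := Finset.card_filter_add_card_filter_not (s := (Finset.univ : Finset (normalizer (P : Set G))))
      (fun x : normalizer (P : Set G) => (x : G) ∈ C)
    rw [hcard1, Finset.card_univ, ← Nat.card_eq_fintype_card, hN] at h1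
    omega
  rw [hcard1, hcard2]
  have h3 := sum_of_cube hω3 hω1
  have h4 : (Nat.card C : ℂ) * (ω - 1) + (Nat.card C : ℂ) * (ω⁻¹ - 1) = (Nat.card C : ℂ) * (-3) := by
    linear_combination (Nat.card C : ℂ) * h3
  rw [h4, inv_mul_cancel_left₀ hc0]

/-- The elements of order divisible by `3`. -/
theorem tF_value_of_dvd {g : G} (hg : 3 ∣ orderOf g) (hQ : ∀ y : G, orderOf y = 3 → ∃ h : G, h⁻¹ * y * h ∈ P) :
    tF r f g = -3 := by
  classical
  haveI : Fact (Nat.Prime 3) := ⟨Nat.prime_three⟩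
  obtain ⟨k, hk⟩ := hg
  have hord : orderOf g ≠ 0 := (orderOf_pos g).ne'
  have hy : orderOf (g ^ k) = 3 := by
    have hk0 : k ≠ 0 := by
      rintro rfl
      rw [mul_zero] at hk
      exact hord hk
    rw [orderOf_pow_of_dvd hk0 ⟨3, by rw [hk]; ring⟩, hk]
    exact Nat.mul_div_cancel _ (Nat.pos_of_ne_zero hk0)
  obtain ⟨h, hh⟩ := hQ _ hy
  have hcl := tF_isClass r f g h⁻¹
  rw [inv_inv] at hcl
  rw [← hcl]
  have hz1 : h⁻¹ * g ^ k * h ≠ 1 := by
    intro h1
    have : g ^ k = 1 := by
      have h2 : g ^ k = h * (h⁻¹ * g ^ k * h) * h⁻¹ := by group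
      rw [h2, h1]
      group
    rw [orderOf_eq_one_iff.2 this] at hy
    norm_num at hy
  have hgc : h⁻¹ * g * h ∈ C := by
    rw [← H.star _ hh hz1, mem_centralizer_singleton_iff]
    have h2 : (h⁻¹ * g ^ k * h) = (h⁻¹ * g * h) ^ k := by
      have := conj_pow (a := h⁻¹) (b := g) (i := k)
      simpa using this.symm
    rw [h2]
    exact ((Commute.refl _).pow_right k).eq
  have hrc : r ⟨_, hgc⟩ ≠ 1 := by
    intro h1
    apply H.ker
    have h2 : 3 ∣ orderOf (⟨_, h1⟩ : r.ker) := by
      have e1 : orderOf (⟨_, h1⟩ : r.ker) = orderOf (⟨_, hgc⟩ : ↥C) :=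
        (Subgroup.orderOf_coe (⟨_, h1⟩ : r.ker)).symm
      have e2 : orderOf (⟨_, hgc⟩ : ↥C) = orderOf (h⁻¹ * g * h) :=
        (Subgroup.orderOf_coe (⟨_, hgc⟩ : ↥C)).symm
      have h3 : orderOf (h⁻¹ * g * h) = orderOf g := by
        have := MulEquiv.orderOf_eq (MulAut.conj h⁻¹) g
        simpa [MulAut.conj_apply] using this
      rw [e1, e2, h3, hk]
      exact dvd_mul_right _ _
    exact h2.trans (orderOf_dvd_natCard _)
  exact tF_value H hP hf hN ⟨_, hgc⟩ hrc

omit hP hf hN in
/-- The elements of order prime to `3`. -/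
theorem tF_value_of_not_dvd (hP : Nat.card P = 3) {g : G} (hg : ¬ 3 ∣ orderOf g) : tF r f g = 0 := by
  classical
  unfold tF theta indFun
  rw [Finset.sum_eq_zero, mul_zero]
  intro x _
  by_cases hx : x⁻¹ * g * x ∈ C
  · have h1 : r ⟨_, hx⟩ = 1 := by
      have h2 : orderOf (r ⟨_, hx⟩) ∣ orderOf (⟨_, hx⟩ : ↥C) := orderOf_map_dvd r _
      have h3 : orderOf (⟨_, hx⟩ : ↥C) = orderOf g := by
        rw [Subgroup.orderOf_mk]
        have := MulEquiv.orderOf_eq (MulAut.conj x⁻¹) g
        simpa [MulAut.conj_apply] using this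
      rw [h3] at h2
      have h4 : orderOf (r ⟨_, hx⟩) ∣ 3 := by
        rw [← hP]
        exact orderOf_dvd_natCard _
      rcases (Nat.dvd_prime Nat.prime_three).1 h4 with h5 | h5
      · exact orderOf_eq_one_iff.1 h5
      · rw [h5] at h2
        exact absurd h2 hg
    have h2 : x⁻¹ * g * x = ((⟨_, hx⟩ : ↥C) : G) := rfl
    rw [h2, Cfsg.Agent.Lib.CharInd.extendByZero_coe]
    exact alpha_comp_eq_zero f h1
  · exact Cfsg.Agent.Lib.CharInd.extendByZero_of_not_mem _ _ hx

end Main

section Decomp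

variable [Fintype G]

open Classical in
/-- Integer coefficient functions of norm `3` with first coefficient `-1`, total `0`. -/
theorem exists_two_of_norm {I : Type*} [Fintype I] (m : I → ℤ) (d : I → ℤ) (o : I) (hd : ∀ i, 0 < d i)
    (hdo : d o = 1) (hmo : m o = -1) (hnorm : ∑ i, m i ^ 2 = 3) (hdeg : ∑ i, m i * d i = 0) :
    ∃ a b : I, a ≠ o ∧ b ≠ o ∧ a ≠ b ∧ m a = -1 ∧ m b = 1 ∧ d b = d a + 1 ∧
      ∀ i, i ≠ o → i ≠ a → i ≠ b → m i = 0 := by
  set T := Finset.univ.filter (fun i => i ≠ o ∧ m i ≠ 0) with hT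
  have hmemT : ∀ i, i ∈ T ↔ i ≠ o ∧ m i ≠ 0 := by
    intro i
    simp [hT]
  have hsplit : ∀ F : I → ℤ, (∀ i, i ≠ o → m i = 0 → F i = 0) → ∑ i, F i = F o + ∑ i ∈ T, F i := by
    intro F hF
    rw [← Finset.add_sum_erase Finset.univ F (Finset.mem_univ o)]
    congr 1
    apply (Finset.sum_subset (s₁ := T) (s₂ := Finset.univ.erase o) ?_ ?_).symm
    · intro i hi
      exact Finset.mem_erase.2 ⟨((hmemT i).1 hi).1, Finset.mem_univ _⟩
    · intro i hi hi2
      have hne := (Finset.mem_erase.1 hi).1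
      apply hF i hne
      by_contra h0
      exact hi2 ((hmemT i).2 ⟨hne, h0⟩)
  have h1 := hsplit (fun i => m i ^ 2) (fun i _ h => by simp [h])
  simp only [hnorm, hmo] at h1
  have h1' : ∑ i ∈ T, m i ^ 2 = 2 := by linarith
  have h2 := hsplit (fun i => m i * d i) (fun i _ h => by simp [h])
  simp only [hdeg, hmo, hdo] at h2
  have h2' : ∑ i ∈ T, m i * d i = 1 := by linarith
  have hge : ∀ i ∈ T, 1 ≤ m i ^ 2 := by
    intro i hi
    have := ((hmemT i).1 hi).2
    have h3 : 0 < m i ^ 2 := by positivity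
    omega
  have hcard : T.card ≤ 2 := by
    have h3 : ∑ i ∈ T, (1 : ℤ) ≤ ∑ i ∈ T, m i ^ 2 := Finset.sum_le_sum hge
    rw [h1'] at h3
    simp only [Finset.sum_const, nsmul_eq_mul, mul_one] at h3
    exact_mod_cast h3
  have hsq1 : ∀ x : ℤ, x ^ 2 ≤ 1 → x ≠ 0 → x = 1 ∨ x = -1 := by
    intro x hx hx0
    have h3 : -1 ≤ x := by nlinarith
    have h4 : x ≤ 1 := by nlinarith
    omega
  have hT2 : T.card = 2 := by
    have h0 : T.card ≠ 0 := by
      intro h0
      rw [Finset.card_eq_zero] at h0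
      rw [h0] at h1'
      simp at h1'
    have h3 : T.card ≠ 1 := by
      intro h3
      obtain ⟨a, ha⟩ := Finset.card_eq_one.1 h3
      rw [ha, Finset.sum_singleton] at h1'
      have h4 : m a ≠ 0 := by
        intro h4
        rw [h4] at h1'
        norm_num at h1'
      have h5 : 1 < |m a| := by
        have h6 : |m a| ^ 2 = 2 := by rw [sq_abs]; exact h1'
        by_contra h7
        have h8 : |m a| ≤ 1 := by omega
        have h9 : 0 ≤ |m a| := abs_nonneg _
        nlinarith
      have h6 : |m a| ^ 2 = 2 := by rw [sq_abs]; exact h1'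
      nlinarith
    omega
  obtain ⟨a, b, hab, hTab⟩ := Finset.card_eq_two.1 hT2
  have haT : a ∈ T := by rw [hTab]; simp
  have hbT : b ∈ T := by rw [hTab]; simp
  rw [hTab, Finset.sum_pair hab] at h1' h2'
  have hma := ((hmemT a).1 haT)
  have hmb := ((hmemT b).1 hbT)
  have hsa : m a ^ 2 ≤ 1 := by
    have : 1 ≤ m b ^ 2 := hge b hbT
    omega
  have hsb : m b ^ 2 ≤ 1 := by
    have : 1 ≤ m a ^ 2 := hge a haT
    omega
  have hda := hd a
  have hdb := hd b
  have hzero : ∀ i, i ≠ o → i ≠ a → i ≠ b → m i = 0 := by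
    intro i h3 h4 h5
    by_contra h0
    have : i ∈ T := (hmemT i).2 ⟨h3, h0⟩
    rw [hTab] at this
    simp at this
    tauto
  rcases hsq1 _ hsa hma.2 with h3 | h3 <;> rcases hsq1 _ hsb hmb.2 with h4 | h4 <;>
    rw [h3, h4] at h2'
  · exfalso
    omega
  · refine ⟨b, a, hmb.1, hma.1, hab.symm, h4, h3, by omega, fun i h5 h6 h7 => hzero i h5 h7 h6⟩
  · refine ⟨a, b, hma.1, hmb.1, hab, h3, h4, by omega, hzero⟩
  · exfalso
    omega

end Decomp

section Final

variable [Fintype G]

/-- The order of the normalizer. -/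
theorem card_normalizer {P C : Subgroup G} {r : ↥C →* ↥P} {e : ℕ} (H : Hyp 3 P C r e)
    (hX : Nat.card P = 3) {z₀ : G} (hz₀ : z₀ ∈ P) (hz1 : z₀ ≠ 1) {t : G}
    (ht : t ∈ normalizer (P : Set G)) (htc : t ∉ C) :
    Nat.card (normalizer (P : Set G)) = Nat.card C * 2 := by
  classical
  have hle : C ≤ normalizer (P : Set G) := H.le_normalizer
  have h1 := Subgroup.card_mul_index (C.subgroupOf (normalizer (P : Set G)))
  have h2 : Nat.card (C.subgroupOf (normalizer (P : Set G))) = Nat.card C := by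
    refine Nat.card_congr (Subgroup.subgroupOfEquivOfLe hle).toEquiv
  have h3 : (C.subgroupOf (normalizer (P : Set G))).index = 2 := by
    rw [Subgroup.index_eq_two_iff]
    refine ⟨⟨t, ht⟩, ?_⟩
    intro b
    rw [Subgroup.mem_subgroupOf, Subgroup.mem_subgroupOf]
    by_cases hb : (b : G) ∈ C
    · have h4 : (b : G) * t ∉ C := fun h => htc (by
        have := C.mul_mem (C.inv_mem hb) h
        simpa using this)
      exact Or.inr ⟨hb, h4⟩
    · have h4 : (b : G) * t ∈ C := by
        -- `b` and `t` invert `z₀`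
        rw [← H.star _ hz₀ hz1, mem_centralizer_singleton_iff]
        have hinv : ∀ n ∈ normalizer (P : Set G), n ∉ C → n⁻¹ * z₀ * n = z₀⁻¹ := by
          intro n hn hnC
          have hmem : n⁻¹ * z₀ * n ∈ P := by
            have := (Subgroup.mem_normalizer_iff.1 (inv_mem hn) z₀).1 hz₀
            simpa using this
          have hne1 : n⁻¹ * z₀ * n ≠ 1 := by
            intro h
            apply hz1
            have h5 : z₀ = n * (n⁻¹ * z₀ * n) * n⁻¹ := by group
            rw [h5, h]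
            group
          have hne2 : n⁻¹ * z₀ * n ≠ z₀ := by
            intro h
            apply hnC
            rw [← H.star _ hz₀ hz1, mem_centralizer_singleton_iff]
            calc n * z₀ = n * (n⁻¹ * z₀ * n) := by rw [h]
              _ = z₀ * n := by group
          rcases eq_or_eq_inv hX hz₀ hz1 hmem hne1 with h5 | h5
          · exact absurd h5 hne2
          · exact h5
        have h5 := hinv (b : G) b.2 hb
        have h6 := hinv t ht htc
        have h8 : t * z₀⁻¹ = z₀ * t := by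
          calc t * z₀⁻¹ = t * (t⁻¹ * z₀ * t) := by rw [h6]
            _ = z₀ * t := by group
        have h9 : (b : G) * z₀⁻¹ = z₀ * b := by
          calc (b : G) * z₀⁻¹ = b * ((b : G)⁻¹ * z₀ * b) := by rw [h5]
            _ = z₀ * b := by group
        have h10 : t * z₀ = z₀⁻¹ * t := by
          have h11 : z₀ * t * z₀ = t := by
            calc z₀ * t * z₀ = (t * z₀⁻¹) * z₀ := by rw [h8]
              _ = t := by group
          calc t * z₀ = z₀⁻¹ * (z₀ * t * z₀) := by group
            _ = z₀⁻¹ * t := by rw [h11]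
        calc (b : G) * t * z₀ = b * (t * z₀) := by group
          _ = b * (z₀⁻¹ * t) := by rw [h10]
          _ = ((b : G) * z₀⁻¹) * t := by group
          _ = (z₀ * b) * t := by rw [h9]
          _ = _ := by group
      exact Or.inl ⟨h4, hb⟩
  rw [h2, h3] at h1
  exact h1.symm

/-- The decomposition, from the hypotheses. -/
theorem decomp_aux {P C : Subgroup G} [Fintype P] [Fintype C] {r : ↥C →* ↥P} {e : ℕ} (H : Hyp 3 P C r e)
    (hX : Nat.card P = 3) {f : ↥P →* ℂˣ} (hf : f ≠ 1)
    (hN : Nat.card (normalizer (P : Set G)) = Nat.card C * 2)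
    (hQ : ∀ y : G, orderOf y = 3 → ∃ h : G, h⁻¹ * y * h ∈ P) :
    ∃ α β : IrrCharacter G, (α : G → ℂ) ≠ (fun _ => 1) ∧ (β : G → ℂ) ≠ (fun _ => 1) ∧ α ≠ β ∧
      charDegree (β : G → ℂ) = charDegree (α : G → ℂ) + 1 ∧
      ∀ g, (3 ∣ orderOf g → 1 + (α : G → ℂ) g - (β : G → ℂ) g = 3) ∧
           (¬ 3 ∣ orderOf g → 1 + (α : G → ℂ) g - (β : G → ℂ) g = 0) := by
  classical
  -- the integer coefficients
  have hθg : IsGeneralizedCharacter G (tF r f) := tF_isGen r f
  have hθc : IsClassFunction G (tF r f) := tF_isClass r f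
  have hnorm : classInner (tF r f) (tF r f) = 3 := by
    have := H.inner_tF hN hf hf
    rw [if_pos ⟨1, one_smul _ _⟩] at this
    rw [this]
    norm_num
  choose m hm using fun i : IrrCharacter G => Cfsg.Agent.Lib.GenChar.classInner_gen_irr hθg i.2
  have hsum2 : ∑ i, m i ^ 2 = 3 := by
    have h1 := parseval (θ := tF r f) hθc
    rw [hnorm] at h1
    have h2 : ∀ i : IrrCharacter G, conj (classInner (tF r f) (i : G → ℂ)) * classInner (tF r f) (i : G → ℂ) = ((m i ^ 2 : ℤ) : ℂ) := by
      intro i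
      rw [hm i]
      push_cast
      rw [map_intCast]
      ring
    rw [Finset.sum_congr rfl fun i _ => h2 i] at h1
    have h3 : ((∑ i, m i ^ 2 : ℤ) : ℂ) = ((3 : ℤ) : ℂ) := by
      push_cast at h1 ⊢
      exact h1.symm
    exact_mod_cast h3
  have hval : ∀ g, tF r f g = ∑ i : IrrCharacter G, (m i : ℂ) * (i : G → ℂ) g := by
    intro g
    rw [eval_eq_sum hθc g]
    exact Finset.sum_congr rfl fun i _ => by rw [hm i]
  have hdegi : ∀ i : IrrCharacter G, (i : G → ℂ) 1 = (charDegree (i : G → ℂ) : ℂ) := fun i =>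
    one_eq_charDegree (IsIrrCharacter.isCharacter i.2)
  have hsumd : ∑ i, m i * (charDegree (i : G → ℂ) : ℤ) = 0 := by
    have h1 := hval 1
    rw [tF_one] at h1
    simp_rw [hdegi] at h1
    have h3 : ((∑ i, m i * (charDegree (i : G → ℂ) : ℤ) : ℤ) : ℂ) = ((0 : ℤ) : ℂ) := by
      push_cast
      exact h1.symm
    exact_mod_cast h3
  have hmo : m (oneIrr G) = -1 := by
    have h1 := hm (oneIrr G)
    unfold tF at h1
    rw [classInner_theta _ (isClassFunction_of_isCharacter (IsIrrCharacter.isCharacter (oneIrr G).2))] at h1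
    have h2 : (fun w : C => ((oneIrr G : IrrCharacter G) : G → ℂ) w) = chi (1 : C →* ℂˣ) := by
      funext w
      simp [oneIrr, chi]
    rw [h2, classInner_chi, classInner_chi, if_neg (H.comp_ne hf), if_pos rfl] at h1
    have h3 : ((m (oneIrr G) : ℤ) : ℂ) = ((-1 : ℤ) : ℂ) := by
      rw [← h1]
      norm_num
    exact_mod_cast h3
  have hoedeg : (charDegree ((oneIrr G : IrrCharacter G) : G → ℂ) : ℤ) = 1 := by
    have h1 := hdegi (oneIrr G)
    have h2 : ((oneIrr G : IrrCharacter G) : G → ℂ) 1 = 1 := rfl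
    rw [h2] at h1
    have h3 : ((charDegree ((oneIrr G : IrrCharacter G) : G → ℂ) : ℤ) : ℂ) = ((1 : ℤ) : ℂ) := by
      push_cast
      exact h1.symm
    exact_mod_cast h3
  obtain ⟨a, b, hao, hbo, hab, hma, hmb, hdab, hrest⟩ := exists_two_of_norm m
    (fun i : IrrCharacter G => (charDegree (i : G → ℂ) : ℤ)) (oneIrr G)
    (fun i => by exact_mod_cast Nat.pos_of_ne_zero (charDegree_ne_zero i.2)) hoedeg hmo hsum2 hsumd
  -- the formula
  have hform : ∀ g, tF r f g = -1 - (a : G → ℂ) g + (b : G → ℂ) g := by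
    intro g
    rw [hval g]
    have hoa : oneIrr G ≠ a := fun h => hao h.symm
    have hob : oneIrr G ≠ b := fun h => hbo h.symm
    rw [← Finset.add_sum_erase Finset.univ _ (Finset.mem_univ (oneIrr G)),
      ← Finset.add_sum_erase (Finset.univ.erase (oneIrr G)) _
        (Finset.mem_erase.2 ⟨hao, Finset.mem_univ a⟩),
      ← Finset.add_sum_erase ((Finset.univ.erase (oneIrr G)).erase a) _
        (Finset.mem_erase.2 ⟨hab.symm, Finset.mem_erase.2 ⟨hbo, Finset.mem_univ b⟩⟩)]
    rw [Finset.sum_eq_zero]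
    · rw [hmo, hma, hmb]
      have h2 : ((oneIrr G : IrrCharacter G) : G → ℂ) g = 1 := rfl
      rw [h2]
      push_cast
      ring
    · intro i hi
      simp only [Finset.mem_erase, Finset.mem_univ, and_true] at hi
      rw [hrest i hi.2.2 hi.2.1 hi.1]
      simp
  have hne1 : ∀ i : IrrCharacter G, i ≠ oneIrr G → (i : G → ℂ) ≠ fun _ => 1 :=
    fun i hi h => hi (Subtype.ext h)
  refine ⟨a, b, hne1 a hao, hne1 b hbo, hab, ?_, ?_⟩
  · have : (charDegree (b : G → ℂ) : ℤ) = (charDegree (a : G → ℂ) : ℤ) + 1 := hdab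
    exact_mod_cast this
  · intro g
    constructor
    · intro hg
      have h1 := tF_value_of_dvd H hX hf hN hg hQ
      have h2 := hform g
      rw [h1] at h2
      linear_combination h2
    · intro hg
      have h1 := tF_value_of_not_dvd (f := f) H hX hg
      have h2 := hform g
      rw [h1] at h2
      linear_combination h2

/-- **The decomposition.** -/
theorem exists_alpha_beta (X : Sylow 3 G) (hX : Nat.card (X : Subgroup G) = 3) {t : G}
    (ht : t ∈ normalizer ((X : Subgroup G) : Set G)) (htc : t ∉ centralizer ((X : Subgroup G) : Set G)) :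
    ∃ α β : IrrCharacter G, (α : G → ℂ) ≠ (fun _ => 1) ∧ (β : G → ℂ) ≠ (fun _ => 1) ∧ α ≠ β ∧
      charDegree (β : G → ℂ) = charDegree (α : G → ℂ) + 1 ∧
      ∀ g, (3 ∣ orderOf g → 1 + (α : G → ℂ) g - (β : G → ℂ) g = 3) ∧
           (¬ 3 ∣ orderOf g → 1 + (α : G → ℂ) g - (β : G → ℂ) g = 0) := by
  classical
  haveI : Fact (Nat.Prime 3) := ⟨Nat.prime_three⟩
  haveI : Fintype (X : Subgroup G) := Fintype.ofFinite _
  haveI : Fintype (centralizer ((X : Subgroup G) : Set G)) := Fintype.ofFinite _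
  obtain ⟨r, e, H⟩ := exists_hyp 3 Nat.prime_three X
    (fun x hx h1 => centralizer_eq hX hx h1) (by rw [hX]; norm_num)
  -- a nontrivial element of `P` and a nontrivial linear character
  haveI : Nontrivial (X : Subgroup G) := by
    rw [← Finite.one_lt_card_iff_nontrivial, hX]
    norm_num
  obtain ⟨z₀, hz₀⟩ := exists_ne (1 : (X : Subgroup G))
  obtain ⟨f, hfz⟩ := dual_exists_ne (fun u hu v hv => H.comm_P hv hu) hz₀
  have hf : f ≠ 1 := by
    rintro rfl
    exact hfz rfl
  have hN := card_normalizer H hX z₀.2 (fun h => hz₀ (Subtype.ext h)) ht htc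
  have hQ : ∀ y : G, orderOf y = 3 → ∃ h : G, h⁻¹ * y * h ∈ (X : Subgroup G) := by
    intro y hy
    have hpg : IsPGroup 3 (zpowers y) := by
      apply IsPGroup.of_card (n := 1)
      rw [Nat.card_zpowers, hy, pow_one]
    obtain ⟨Q, hQ⟩ := hpg.exists_le_sylow
    obtain ⟨a, rfl⟩ := MulAction.exists_smul_eq G X Q
    have h1 : y ∈ a • X := hQ (Subgroup.mem_zpowers y)
    rw [Cfsg.Agent.Lib.InvolutionFusion2.mem_smul_sylow_iff] at h1
    exact ⟨a, h1⟩
  exact decomp_aux H hX hf hN hQ

end Final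

end Cfsg.Agent.Lib.S4501Psi9
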