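import Mathlib
import Cfsg.Agent.Lib.FT3Basic
import Cfsg.Agent.Lib.FT3Count
import Cfsg.Agent.Lib.S4501Psi9

/-!
# Self-centralizing elements of order three: the three characters which do not vanish
-/

set_option autoImplicit false
set_option linter.style.haveILetI false
set_option linter.unusedSectionVars false
set_option linter.unusedVariables false

namespace Cfsg.Agent.Lib.FT3Char

open Subgroup Cfsg Cfsg.Agent.Lib.SelfCent Cfsg.Agent.Lib.CharBasic Cfsg.Agent.Lib.CharInd
open Cfsg.Agent.Lib.FT3Basic Cfsg.Agent.Lib.FT3Count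
open scoped ComplexConjugate

universe u

variable {G : Type u} [Group G]

section Grp

variable [Finite G] {a : G}

theorem hyp_of_order3 (h : Hyp 3 a) {g : G} (hg : orderOf g = 3) : Hyp 3 g := by
  obtain ⟨y, hy⟩ := h.exists_conj_mem hg
  have h1 : y * g * y⁻¹ ≠ 1 := by
    intro h2
    have h3 : g = 1 := by
      have : y⁻¹ * (y * g * y⁻¹) * y = g := by group
      rw [← this, h2]
      group
    rw [h3, orderOf_one] at hg
    omega
  have h2 := h.of_mem hy h1
  have h3 := h2.conj y⁻¹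
  have h4 : y⁻¹ * (y * g * y⁻¹) * y⁻¹⁻¹ = g := by group
  rwa [h4] at h3

/-- An element whose order is divisible by `3` has order `3`. -/
theorem order3_of_dvd (h : Hyp 3 a) {g : G} (hg : 3 ∣ orderOf g) : orderOf g = 3 := by
  obtain ⟨m, hm⟩ := hg
  have hpos : 0 < orderOf g := orderOf_pos g
  have hm0 : 0 < m := by
    rcases Nat.eq_zero_or_pos m with h0 | h0
    · rw [h0] at hm; omega
    · exact h0
  have h1 : orderOf (g ^ m) = 3 := by
    rw [orderOf_pow' g hm0.ne', hm]
    rw [Nat.gcd_eq_right (Dvd.intro_left 3 rfl)]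
    exact Nat.mul_div_cancel _ hm0
  have h2 := hyp_of_order3 h h1
  have h3 : g ∈ zpowers (g ^ m) := by
    apply h2.mem_zpowers_of_commute
    exact ((Commute.refl g).pow_left m).symm.eq
  have h4 := orderOf_dvd_three_of_mem h2 h3
  rcases (Nat.dvd_prime Nat.prime_three).1 h4 with h5 | h5
  · rw [h5] at hm; omega
  · exact h5

end Grp

/-- An involution inverting `a`. -/
structure Setup (a t : G) : Prop where
  h : Hyp 3 a
  ht : orderOf t = 2
  hta : t * a * t⁻¹ = a⁻¹

section Setup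

variable [Finite G] {a t : G} (S : Setup a t)
include S

theorem Setup.sq : t * t = 1 := by
  have := pow_orderOf_eq_one t
  rw [S.ht, pow_two] at this
  exact this

theorem Setup.inv : t⁻¹ = t :=
  inv_eq_of_mul_eq_one_left S.sq

theorem Setup.hta' : t * a * t = a⁻¹ := by
  have := S.hta
  rwa [S.inv] at this

/-- All elements of order three are conjugate to `a`. -/
theorem Setup.isConj_a {g : G} : IsConj a g ↔ orderOf g = 3 := by
  constructor
  · intro hc
    rw [← S.h.hx]
    obtain ⟨y, rfl⟩ := isConj_iff.mp hc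
    have := (MulAut.conj y).orderOf_eq a
    rw [MulAut.conj_apply] at this
    exact this
  · intro hg
    obtain ⟨y, hy⟩ := S.h.exists_conj_mem hg
    have h1 : y * g * y⁻¹ ≠ 1 := by
      intro h2
      have h3 : g = 1 := by
        have : y⁻¹ * (y * g * y⁻¹) * y = g := by group
        rw [← this, h2]
        group
      rw [h3, orderOf_one] at hg
      omega
    have hP : Nat.card (zpowers a) = 3 := S.h.card_zpowers
    rcases Cfsg.Agent.Lib.S4501Psi9.eq_or_eq_inv hP (mem_zpowers a) (a_ne_one S.h) hy h1 with h2 | h2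
    · exact (isConj_iff.mpr ⟨y, h2⟩).symm
    · have h3 : IsConj a⁻¹ g := (isConj_iff.mpr ⟨y, h2⟩).symm
      exact (isConj_iff.mpr ⟨t, S.hta⟩).trans h3

end Setup

/-- The pair of characters. -/
structure CP (α β : IrrCharacter G) : Prop where
  hao : (α : G → ℂ) ≠ fun _ => 1
  hbo : (β : G → ℂ) ≠ fun _ => 1
  hab : α ≠ β
  hdeg : charDegree (β : G → ℂ) = charDegree (α : G → ℂ) + 1
  hform : ∀ g, (3 ∣ orderOf g → 1 + (α : G → ℂ) g - (β : G → ℂ) g = 3) ∧
      (¬ 3 ∣ orderOf g → 1 + (α : G → ℂ) g - (β : G → ℂ) g = 0)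

/-- The trivial character. -/
noncomputable def o1 (G : Type u) [Group G] : IrrCharacter G := ⟨fun _ => 1, isIrrCharacter_one⟩

theorem exists_CP [Finite G] {a t : G} (S : Setup a t) : ∃ α β : IrrCharacter G, CP α β := by
  haveI : Fintype G := Fintype.ofFinite G
  obtain ⟨Q, hQ⟩ := S.h.exists_sylow
  have hcard : Nat.card (Q : Subgroup G) = 3 := by rw [hQ]; exact S.h.card_zpowers
  have hn : t ∈ normalizer ((Q : Subgroup G) : Set G) := by
    rw [hQ, mem_normalizer_iff]
    intro g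
    constructor
    · intro hg
      obtain ⟨k, rfl⟩ := mem_zpowers_iff.mp hg
      have : t * a ^ k * t⁻¹ = (a⁻¹) ^ k := by rw [← S.hta, conj_zpow]
      rw [this]
      exact zpow_mem (inv_mem (mem_zpowers a)) k
    · intro hg
      obtain ⟨k, hk⟩ := mem_zpowers_iff.mp hg
      have h2 : t * a ^ (-k) * t⁻¹ = (a⁻¹) ^ (-k) := by rw [← S.hta, conj_zpow]
      have h3 : g = t⁻¹ * (a ^ k) * t := by rw [hk]; group
      rw [h3, S.inv]
      have : t * a ^ k * t = (a⁻¹) ^ k := by
        have h4 : t * a ^ k * t⁻¹ = (a⁻¹) ^ k := by rw [← S.hta, conj_zpow]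
        rwa [S.inv] at h4
      rw [this]
      exact zpow_mem (inv_mem (mem_zpowers a)) k
  have hc : t ∉ centralizer ((Q : Subgroup G) : Set G) := by
    intro hc
    rw [hQ, mem_centralizer_iff] at hc
    have h1 := hc a (mem_zpowers a)
    have h2 := S.hta
    apply a_inv_ne S.h
    rw [← h2]
    rw [← h1]
    group
  obtain ⟨α, β, h1, h2, h3, h4, h5⟩ := Cfsg.Agent.Lib.S4501Psi9.exists_alpha_beta Q hcard hn hc
  exact ⟨α, β, h1, h2, h3, h4, h5⟩

section Values

variable [Finite G] {a t : G} {α β : IrrCharacter G} (C : CP α β)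
include C

theorem CP.o_ne_a : o1 G ≠ α := fun h => C.hao (by rw [← h]; rfl)
theorem CP.o_ne_b : o1 G ≠ β := fun h => C.hbo (by rw [← h]; rfl)

theorem CP.three_sum (F : IrrCharacter G → ℂ)
    (hF : ∀ χ, χ ≠ o1 G → χ ≠ α → χ ≠ β → F χ = 0) : ∑ χ, F χ = F (o1 G) + F α + F β := by
  classical
  rw [← Finset.add_sum_erase Finset.univ _ (Finset.mem_univ (o1 G)),
      ← Finset.add_sum_erase (Finset.univ.erase (o1 G)) _
        (Finset.mem_erase.2 ⟨C.o_ne_a.symm, Finset.mem_univ α⟩),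
      ← Finset.add_sum_erase ((Finset.univ.erase (o1 G)).erase α) _
        (Finset.mem_erase.2 ⟨C.hab.symm, Finset.mem_erase.2 ⟨C.o_ne_b.symm, Finset.mem_univ β⟩⟩)]
  rw [Finset.sum_eq_zero]
  · ring
  · intro i hi
    simp only [Finset.mem_erase, Finset.mem_univ, and_true] at hi
    exact hF i hi.2.2 hi.2.1 hi.1

theorem CP.val_a (h : Hyp 3 a) : (α : G → ℂ) a = 1 ∧ (β : G → ℂ) a = -1 ∧
    ∀ χ : IrrCharacter G, χ ≠ o1 G → χ ≠ α → χ ≠ β → (χ : G → ℂ) a = 0 := by
  classical
  haveI : Fintype G := Fintype.ofFinite G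
  have h3 : 3 ∣ orderOf a := by rw [h.hx]
  have h1 := (C.hform a).1 h3
  have h2 : (β : G → ℂ) a = (α : G → ℂ) a - 2 := by linear_combination -h1
  have hsum := sum_irr_mul_conj a a
  rw [if_pos (IsConj.refl a), h.hC, h.card_zpowers] at hsum
  have hterm : ∀ χ : IrrCharacter G, (χ : G → ℂ) a * conj ((χ : G → ℂ) a) =
      ((Complex.normSq ((χ : G → ℂ) a) : ℝ) : ℂ) := fun χ => Complex.mul_conj _
  simp only [hterm] at hsum
  have hsum2 : ∑ χ : IrrCharacter G, Complex.normSq ((χ : G → ℂ) a) = 3 := by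
    have : ((∑ χ : IrrCharacter G, Complex.normSq ((χ : G → ℂ) a) : ℝ) : ℂ) = ((3 : ℝ) : ℂ) := by
      push_cast
      rw [hsum]
      norm_num
    exact_mod_cast this
  set s := ((Finset.univ.erase (o1 G)).erase α).erase β with hs
  have hsplit : ∑ χ : IrrCharacter G, Complex.normSq ((χ : G → ℂ) a) =
      Complex.normSq ((o1 G : G → ℂ) a) + Complex.normSq ((α : G → ℂ) a) + Complex.normSq ((β : G → ℂ) a)
        + ∑ χ ∈ s, Complex.normSq ((χ : G → ℂ) a) := by
    rw [← Finset.add_sum_erase Finset.univ _ (Finset.mem_univ (o1 G)),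
      ← Finset.add_sum_erase (Finset.univ.erase (o1 G)) _
        (Finset.mem_erase.2 ⟨C.o_ne_a.symm, Finset.mem_univ α⟩),
      ← Finset.add_sum_erase ((Finset.univ.erase (o1 G)).erase α) _
        (Finset.mem_erase.2 ⟨C.hab.symm, Finset.mem_erase.2 ⟨C.o_ne_b.symm, Finset.mem_univ β⟩⟩)]
    ring
  have hR : 0 ≤ ∑ χ ∈ s, Complex.normSq ((χ : G → ℂ) a) :=
    Finset.sum_nonneg fun χ _ => Complex.normSq_nonneg _
  have ho : Complex.normSq ((o1 G : G → ℂ) a) = 1 := by
    change Complex.normSq 1 = 1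
    simp
  rw [hsum2, ho, h2] at hsplit
  set p := (α : G → ℂ) a with hp
  have hq : Complex.normSq (p - 2) = (p.re - 2) ^ 2 + p.im ^ 2 := by
    rw [Complex.normSq_apply]
    simp
    ring
  have hq2 : Complex.normSq p = p.re ^ 2 + p.im ^ 2 := by
    rw [Complex.normSq_apply]
    ring
  rw [hq, hq2] at hsplit
  have hre : p.re = 1 := by nlinarith [sq_nonneg (p.re - 1), sq_nonneg p.im]
  have him : p.im = 0 := by nlinarith [sq_nonneg (p.re - 1), sq_nonneg p.im]
  have hp1 : p = 1 := by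
    apply Complex.ext
    · simpa using hre
    · simpa using him
  have hR0 : ∑ χ ∈ s, Complex.normSq ((χ : G → ℂ) a) = 0 := by
    rw [hre, him] at hsplit
    nlinarith
  refine ⟨hp1, ?_, ?_⟩
  · rw [h2, hp1]; norm_num
  · intro χ h1' h2' h3'
    have hmem : χ ∈ s := by
      simp only [hs, Finset.mem_erase, Finset.mem_univ, and_true]
      exact ⟨h3', h2', h1'⟩
    have := (Finset.sum_eq_zero_iff_of_nonneg (fun χ _ => Complex.normSq_nonneg _)).mp hR0 χ hmem
    exact Complex.normSq_eq_zero.mp this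

theorem CP.val_a_inv (h : Hyp 3 a) : (α : G → ℂ) a⁻¹ = 1 ∧ (β : G → ℂ) a⁻¹ = -1 ∧
    ∀ χ : IrrCharacter G, χ ≠ o1 G → χ ≠ α → χ ≠ β → (χ : G → ℂ) a⁻¹ = 0 := by
  obtain ⟨h1, h2, h3⟩ := C.val_a h
  refine ⟨?_, ?_, ?_⟩
  · rw [← char_conj_eq_inv (IsIrrCharacter.isCharacter α.2), h1]; simp
  · rw [← char_conj_eq_inv (IsIrrCharacter.isCharacter β.2), h2]; simp
  · intro χ h4 h5 h6
    rw [← char_conj_eq_inv (IsIrrCharacter.isCharacter χ.2), h3 χ h4 h5 h6]; simp

end Values

end Cfsg.Agent.Lib.FT3Char
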