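import Mathlib
import Cfsg.Agent.Lib.FT3Char

/-!
# Self-centralizing elements of order three: class formulas
-/

set_option autoImplicit false
set_option linter.style.haveILetI false
set_option linter.unusedSectionVars false
set_option linter.unusedVariables false

namespace Cfsg.Agent.Lib.FT3Char

open Subgroup Cfsg Cfsg.Agent.Lib.SelfCent Cfsg.Agent.Lib.CharBasic Cfsg.Agent.Lib.CharInd
open Cfsg.Agent.Lib.FT3Basic Cfsg.Agent.Lib.FT3Count Cfsg.Agent.Lib.CharKernel
open scoped ComplexConjugate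

universe u

variable {G : Type u} [Group G]

section Formulas

variable [Fintype G] {a t : G} {α β : IrrCharacter G} (S : Setup a t) (C : CP α β)
include S C

local notation "ff" => ((charDegree (α : G → ℂ) : ℕ) : ℂ)

theorem CP.val_one : (α : G → ℂ) 1 = ff ∧ (β : G → ℂ) 1 = ff + 1 := by
  refine ⟨one_eq_charDegree (IsIrrCharacter.isCharacter α.2), ?_⟩
  rw [one_eq_charDegree (IsIrrCharacter.isCharacter β.2), C.hdeg]
  push_cast
  rfl

theorem CP.f_ne : ff ≠ 0 := by
  have := charDegree_ne_zero α.2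
  exact_mod_cast this

theorem CP.f1_ne : ff + 1 ≠ 0 := by
  have : (charDegree (α : G → ℂ) + 1 : ℕ) ≠ 0 := by omega
  exact_mod_cast this

theorem CP.beta_reg {w : G} (hw : ¬ 3 ∣ orderOf w) : (β : G → ℂ) w = (α : G → ℂ) w + 1 := by
  have := (C.hform w).2 hw
  linear_combination -this

/-- `|G| (f - y)² = 3 c² f (f + 1)`, in the form of a count. -/
theorem formula1 :
    ((Nat.card (centralizer ({t} : Set G)) * Nat.card (centralizer ({t} : Set G)) * countP t t a : ℕ) : ℂ) * ff * (ff + 1) =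
      (Nat.card G : ℂ) * (ff - (α : G → ℂ) t) ^ 2 := by
  have hform := count_formula t t a
  obtain ⟨h1, h2, h3⟩ := C.val_a_inv S.h
  obtain ⟨h4, h5⟩ := C.val_one S
  have hsum := C.three_sum (fun χ => (χ : G → ℂ) t * (χ : G → ℂ) t * (χ : G → ℂ) a⁻¹ / (χ : G → ℂ) 1) (by
    intro χ h6 h7 h8
    simp only [h3 χ h6 h7 h8]
    simp)
  have hbt : (β : G → ℂ) t = (α : G → ℂ) t + 1 := C.beta_reg S (by rw [S.ht]; norm_num)
  rw [hsum] at hform
  simp only [h1, h2, h4, h5, hbt] at hform
  have ho : ∀ g, ((o1 G : IrrCharacter G) : G → ℂ) g = 1 := fun _ => rfl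
  simp only [ho] at hform
  have hf := C.f_ne S
  have hf1 := C.f1_ne S
  rw [hform]
  field_simp
  ring

/-- The count of involutions times elements of order `3` with product an involution `w`. -/
theorem formula2 {w : G} (hw : orderOf w = 2) :
    ((Nat.card (centralizer ({t} : Set G)) * Nat.card (centralizer ({a} : Set G)) * countP t a w : ℕ) : ℂ) * ff * (ff + 1) =
      (Nat.card G : ℂ) * (ff - (α : G → ℂ) t) * (ff - (α : G → ℂ) w) := by
  have hform := count_formula t a w
  obtain ⟨h1, h2, h3⟩ := C.val_a S.h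
  obtain ⟨h4, h5⟩ := C.val_one S
  have hsum := C.three_sum (fun χ => (χ : G → ℂ) t * (χ : G → ℂ) a * (χ : G → ℂ) w⁻¹ / (χ : G → ℂ) 1) (by
    intro χ h6 h7 h8
    simp only [h3 χ h6 h7 h8]
    simp)
  have hbt : (β : G → ℂ) t = (α : G → ℂ) t + 1 := C.beta_reg S (by rw [S.ht]; norm_num)
  have hww : w⁻¹ = w := by
    have := pow_orderOf_eq_one w
    rw [hw, pow_two] at this
    exact inv_eq_of_mul_eq_one_left this
  have hbw : (β : G → ℂ) w = (α : G → ℂ) w + 1 := C.beta_reg S (by rw [hw]; norm_num)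
  rw [hsum] at hform
  simp only [h1, h2, h4, h5, hbt, hww, hbw] at hform
  have ho : ∀ g, ((o1 G : IrrCharacter G) : G → ℂ) g = 1 := fun _ => rfl
  simp only [ho] at hform
  have hf := C.f_ne S
  have hf1 := C.f1_ne S
  rw [hform]
  field_simp
  ring

theorem formula3 :
    ((Nat.card (centralizer ({t} : Set G)) * Nat.card (centralizer ({a} : Set G)) * countP t a a : ℕ) : ℂ) * ff * (ff + 1) =
      (Nat.card G : ℂ) * (ff ^ 2 + 2 * ff + (α : G → ℂ) t * (2 * ff + 1)) := by
  have hform := count_formula t a a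
  obtain ⟨h1, h2, h3⟩ := C.val_a S.h
  obtain ⟨h1', h2', h3'⟩ := C.val_a_inv S.h
  obtain ⟨h4, h5⟩ := C.val_one S
  have hsum := C.three_sum (fun χ => (χ : G → ℂ) t * (χ : G → ℂ) a * (χ : G → ℂ) a⁻¹ / (χ : G → ℂ) 1) (by
    intro χ h6 h7 h8
    simp only [h3 χ h6 h7 h8]
    simp)
  have hbt : (β : G → ℂ) t = (α : G → ℂ) t + 1 := C.beta_reg S (by rw [S.ht]; norm_num)
  rw [hsum] at hform
  simp only [h1, h2, h1', h2', h4, h5, hbt] at hform
  have ho : ∀ g, ((o1 G : IrrCharacter G) : G → ℂ) g = 1 := fun _ => rfl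
  simp only [ho] at hform
  have hf := C.f_ne S
  have hf1 := C.f1_ne S
  rw [hform]
  field_simp
  ring

theorem formula4 :
    ((Nat.card (centralizer ({a} : Set G)) * Nat.card (centralizer ({a} : Set G)) * countP a a a : ℕ) : ℂ) * ff * (ff + 1) =
      (Nat.card G : ℂ) * (ff ^ 2 + ff + 1) := by
  have hform := count_formula a a a
  obtain ⟨h1, h2, h3⟩ := C.val_a S.h
  obtain ⟨h1', h2', h3'⟩ := C.val_a_inv S.h
  obtain ⟨h4, h5⟩ := C.val_one S
  have hsum := C.three_sum (fun χ => (χ : G → ℂ) a * (χ : G → ℂ) a * (χ : G → ℂ) a⁻¹ / (χ : G → ℂ) 1) (by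
    intro χ h6 h7 h8
    simp only [h3 χ h6 h7 h8]
    simp)
  rw [hsum] at hform
  simp only [h1, h2, h1', h2', h4, h5] at hform
  have ho : ∀ g, ((o1 G : IrrCharacter G) : G → ℂ) g = 1 := fun _ => rfl
  simp only [ho] at hform
  have hf := C.f_ne S
  have hf1 := C.f1_ne S
  rw [hform]
  field_simp
  ring

end Formulas

section Avg

variable [Finite G]

/-- The average of a character over a subgroup is a natural number. -/
theorem avg_nat {χ : G → ℂ} (hχ : IsCharacter G χ) (H : Subgroup G) [Fintype H] :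
    ∃ n : ℕ, ∑ h : H, χ h = (Nat.card H : ℂ) * n := by
  obtain ⟨n, hn⟩ := classInner_char_irr (isCharacter_restrict H hχ) (isIrrCharacter_one (G := H))
  refine ⟨n, ?_⟩
  unfold classInner at hn
  have hne : (Nat.card H : ℂ) ≠ 0 := by exact_mod_cast (Nat.card_pos (α := H)).ne'
  rw [← hn]
  simp only [map_one, mul_one]
  field_simp

/-- The value of a character at an involution is an integer. -/
theorem exists_int_of_involution {χ : G → ℂ} (hχ : IsCharacter G χ) {w : G} (hw : orderOf w = 2) :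
    ∃ y : ℤ, χ w = y := by
  classical
  haveI : Fintype (zpowers w) := Fintype.ofFinite _
  obtain ⟨n, hn⟩ := avg_nat hχ (zpowers w)
  have hmem : ∀ x : G, x ∈ ({1, w} : Finset G) ↔ x ∈ zpowers w := by
    intro x
    simp only [Finset.mem_insert, Finset.mem_singleton]
    constructor
    · rintro (rfl | rfl)
      · exact one_mem _
      · exact mem_zpowers _
    · intro hx
      obtain ⟨k, rfl⟩ := mem_zpowers_iff.mp hx
      have hww : w ^ 2 = 1 := by rw [← hw]; exact pow_orderOf_eq_one w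
      rcases Int.even_or_odd' k with ⟨m, rfl | rfl⟩
      · left
        rw [zpow_mul]
        have : w ^ (2 : ℤ) = 1 := by exact_mod_cast hww
        rw [this, one_zpow]
      · right
        rw [zpow_add, zpow_mul]
        have : w ^ (2 : ℤ) = 1 := by exact_mod_cast hww
        rw [this, one_zpow]
        simp
  have hne : w ≠ 1 := by
    intro h
    rw [h, orderOf_one] at hw
    omega
  have hsum : ∑ h : zpowers w, χ h = χ 1 + χ w := by
    have h1 : ∑ x ∈ ({1, w} : Finset G), χ x = ∑ h : zpowers w, χ h :=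
      Finset.sum_subtype ({1, w} : Finset G) hmem χ
    have h2 : ∑ x ∈ ({1, w} : Finset G), χ x = χ 1 + χ w := by
      rw [Finset.sum_insert (by simpa using hne.symm), Finset.sum_singleton]
    rw [← h2, h1]
  rw [hsum, Nat.card_zpowers, hw] at hn
  obtain ⟨d, hd⟩ := isCharacter_one_eq hχ
  refine ⟨2 * n - d, ?_⟩
  push_cast
  rw [hd] at hn
  linear_combination hn

end Avg

end Cfsg.Agent.Lib.FT3Char
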