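import Mathlib
import Cfsg.Agent.Lib.FT3Char

/-!
# The subgroup `N⟨a⟩`
-/

set_option autoImplicit false
set_option linter.style.haveILetI false
set_option linter.unusedSectionVars false
set_option linter.unusedVariables false

namespace Cfsg.Agent.Lib.FT3Coset

open Subgroup Cfsg Cfsg.Agent.Lib.SelfCent Cfsg.Agent.Lib.FT3Basic Cfsg.Agent.Lib.FT3Char

universe u

variable {G : Type u} [Group G]

section

variable [Finite G] {a : G} (h : Hyp 3 a)
include h

theorem AInv.zpow_conj {N : Subgroup G} (hN : AInv a N) (k : ℤ) {n : G} (hn : n ∈ N) :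
    a ^ k * n * a ^ (-k) ∈ N := by
  have hnorm : a ∈ normalizer (N : Set G) := by
    rw [mem_normalizer_iff]
    intro g
    refine ⟨hN.inv g, fun hg => ?_⟩
    have := hN.inv' h hg
    have h2 : a⁻¹ * (a * g * a⁻¹) * a = g := by group
    rwa [h2] at this
  have h1 : a ^ k ∈ normalizer (N : Set G) := zpow_mem hnorm k
  have h2 := (mem_normalizer_iff.mp h1 n).1 hn
  rw [zpow_neg]
  exact h2

end

/-- `N⟨a⟩`. -/
def cosetM {a : G} (N : Subgroup G) (hNa : ∀ k : ℤ, ∀ n ∈ N, a ^ k * n * a ^ (-k) ∈ N) : Subgroup G where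
  carrier := {x | ∃ m ∈ N, ∃ k : ℤ, x = m * a ^ k}
  mul_mem' := by
    rintro _ _ ⟨m, hm, k, rfl⟩ ⟨m', hm', k', rfl⟩
    refine ⟨m * (a ^ k * m' * a ^ (-k)), N.mul_mem hm (hNa k m' hm'), k + k', ?_⟩
    rw [zpow_add, zpow_neg]
    group
  one_mem' := ⟨1, N.one_mem, 0, by simp⟩
  inv_mem' := by
    rintro _ ⟨m, hm, k, rfl⟩
    refine ⟨a ^ (-k) * m⁻¹ * a ^ (- -k), hNa (-k) _ (N.inv_mem hm), -k, ?_⟩
    simp only [neg_neg]
    rw [zpow_neg]
    group

section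

variable [Finite G] {a : G} (h : Hyp 3 a)
include h

/-- `N⟨a⟩` for an invariant subgroup. -/
noncomputable def M {N : Subgroup G} (hN : AInv a N) : Subgroup G :=
  cosetM N (fun k _ hn => AInv.zpow_conj h hN k hn)

theorem mem_M {N : Subgroup G} (hN : AInv a N) {x : G} : x ∈ M h hN ↔ ∃ m ∈ N, ∃ k : ℤ, x = m * a ^ k :=
  Iff.rfl

theorem le_M {N : Subgroup G} (hN : AInv a N) : N ≤ M h hN := fun n hn =>
  (mem_M h hN).2 ⟨n, hn, 0, by simp⟩

theorem a_mem_M {N : Subgroup G} (hN : AInv a N) : a ∈ M h hN :=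
  (mem_M h hN).2 ⟨1, N.one_mem, 1, by simp⟩

/-- The powers of `a`. -/
theorem zpow_cases (k : ℤ) : a ^ k = 1 ∨ a ^ k = a ∨ a ^ k = a⁻¹ := by
  have h3 : a ^ (3 : ℤ) = 1 := by exact_mod_cast a_cube h
  have h4 : a ^ k = a ^ (k % 3) := by
    conv_lhs => rw [← Int.emod_add_mul_ediv k 3]
    rw [zpow_add, zpow_mul, h3, one_zpow, mul_one]
  have h5 : k % 3 = 0 ∨ k % 3 = 1 ∨ k % 3 = 2 := by omega
  rw [h4]
  rcases h5 with h5 | h5 | h5
  · left; rw [h5]; simp
  · right; left; rw [h5]; simp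
  · right; right
    rw [h5, a_inv_eq h]
    rw [show (2 : ℤ) = ((2 : ℕ) : ℤ) from rfl, zpow_natCast, pow_two]

/-- A coset of `N` contains only conjugates of the representative. -/
theorem coset_conj {N : Subgroup G} (hN : AInv a N) {m : G} (hm : m ∈ N) :
    ∃ n ∈ N, m * a = n * a * n⁻¹ := by
  let f : N → N := fun n => ⟨n * (a * n⁻¹ * a⁻¹), N.mul_mem n.2 (hN.inv _ (N.inv_mem n.2))⟩
  have hinj : Function.Injective f := by
    intro x y hxy
    have h1 : (x : G) * (a * (x : G)⁻¹ * a⁻¹) = y * (a * (y : G)⁻¹ * a⁻¹) := congrArg Subtype.val hxy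
    have h2 : a * ((y : G)⁻¹ * x) * a⁻¹ = (y : G)⁻¹ * x := by
      calc a * ((y : G)⁻¹ * x) * a⁻¹ = (y : G)⁻¹ * (y * (a * (y : G)⁻¹ * a⁻¹)) * (a * x * a⁻¹) := by group
        _ = (y : G)⁻¹ * (x * (a * (x : G)⁻¹ * a⁻¹)) * (a * x * a⁻¹) := by rw [h1]
        _ = _ := by group
    have h3 := hN.eq_one_of_fix h (N.mul_mem (N.inv_mem y.2) x.2) h2
    apply Subtype.ext
    rw [inv_mul_eq_one] at h3
    exact h3.symm
  obtain ⟨n, hn⟩ := (Finite.injective_iff_surjective.mp hinj) ⟨m, hm⟩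
  have h1 : (n : G) * (a * (n : G)⁻¹ * a⁻¹) = m := congrArg Subtype.val hn
  refine ⟨n, n.2, ?_⟩
  rw [← h1]
  group

theorem AInv.of_inv {N : Subgroup G} (hN : AInv a N) : AInv a⁻¹ N := by
  refine ⟨fun n hn => ?_, hN.nd⟩
  simpa using hN.inv' h hn

theorem hyp_inv : Hyp 3 a⁻¹ := h.of_mem (inv_mem (mem_zpowers a)) (by
  intro h1
  apply a_ne_one h
  rwa [inv_eq_one] at h1)

/-- Elements outside `N` in `N⟨a⟩` have order three. -/
theorem M_order3 {N : Subgroup G} (hN : AInv a N) {x : G} (hx : x ∈ M h hN) (hxN : x ∉ N) :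
    orderOf x = 3 := by
  obtain ⟨m, hm, k, rfl⟩ := (mem_M h hN).1 hx
  have hconj : ∀ (b : G) (n : G), orderOf (n * b * n⁻¹) = orderOf b := by
    intro b n
    have := (MulAut.conj n).orderOf_eq b
    rwa [MulAut.conj_apply] at this
  rcases zpow_cases h k with h1 | h1 | h1
  · rw [h1, mul_one] at hxN
    exact absurd hm hxN
  · rw [h1]
    obtain ⟨n, _, hn⟩ := coset_conj h hN hm
    rw [hn, hconj, h.hx]
  · rw [h1]
    obtain ⟨n, _, hn⟩ := coset_conj (hyp_inv h) (AInv.of_inv h hN) hm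
    rw [hn, hconj, orderOf_inv, h.hx]

/-- The cube of an element of `N⟨a⟩` lies in `N`. -/
theorem M_cube {N : Subgroup G} (hN : AInv a N) {x : G} (hx : x ∈ M h hN) : x * x * x ∈ N := by
  by_cases hxN : x ∈ N
  · exact N.mul_mem (N.mul_mem hxN hxN) hxN
  · have := M_order3 h hN hx hxN
    have h1 : x ^ 3 = 1 := by rw [← this]; exact pow_orderOf_eq_one x
    have h2 : x * x * x = 1 := by rwa [pow_succ, pow_two] at h1
    rw [h2]
    exact N.one_mem

theorem card_M {N : Subgroup G} (hN : AInv a N) : Nat.card (M h hN) = 3 * Nat.card N := by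
  classical
  have hne : a ≠ 1 := a_ne_one h
  have hpow : ∀ i : Fin 3, a ^ (i : ℕ) ∈ M h hN := fun i => pow_mem (a_mem_M h hN) _
  let φ : N × Fin 3 → M h hN := fun p => ⟨(p.1 : G) * a ^ (p.2 : ℕ), (M h hN).mul_mem (le_M h hN p.1.2) (hpow p.2)⟩
  have hinj : Function.Injective φ := by
    rintro ⟨n, i⟩ ⟨n', j⟩ hij
    have h1 : (n : G) * a ^ (i : ℕ) = n' * a ^ (j : ℕ) := congrArg Subtype.val hij
    have h2 : (n' : G)⁻¹ * n = a ^ (j : ℕ) * (a ^ (i : ℕ))⁻¹ := by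
      calc (n' : G)⁻¹ * n = (n' : G)⁻¹ * (n * a ^ (i : ℕ)) * (a ^ (i : ℕ))⁻¹ := by group
        _ = (n' : G)⁻¹ * (n' * a ^ (j : ℕ)) * (a ^ (i : ℕ))⁻¹ := by rw [h1]
        _ = _ := by group
    have h3 : (n' : G)⁻¹ * n ∈ N := N.mul_mem (N.inv_mem n'.2) n.2
    have h4 : (n' : G)⁻¹ * n ∈ zpowers a := by
      rw [h2]
      exact mul_mem (pow_mem (mem_zpowers a) _) (inv_mem (pow_mem (mem_zpowers a) _))
    have h5 : (n' : G)⁻¹ * n = 1 := by
      apply hN.eq_one_of_fix h h3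
      obtain ⟨k, hk⟩ := mem_zpowers_iff.mp h4
      rw [← hk]
      have : a ^ k * a = a * a ^ k := ((Commute.refl a).zpow_left k).eq
      rw [← this]
      group
    have h6 : (n : G) = n' := by
      rw [inv_mul_eq_one] at h5
      exact h5.symm
    have h7 : n = n' := Subtype.ext h6
    subst h7
    have h8 : a ^ (i : ℕ) = a ^ (j : ℕ) := mul_left_cancel h1
    have h9 : i = j := by
      have h10 : (i : ℕ) ∈ Set.Iio (orderOf a) := by
        rw [h.hx]; exact i.2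
      have h11 : (j : ℕ) ∈ Set.Iio (orderOf a) := by
        rw [h.hx]; exact j.2
      exact Fin.ext (pow_injOn_Iio_orderOf h10 h11 h8)
    rw [h9]
  have hsurj : Function.Surjective φ := by
    rintro ⟨x, hx⟩
    obtain ⟨m, hm, k, rfl⟩ := (mem_M h hN).1 hx
    rcases zpow_cases h k with h1 | h1 | h1
    · refine ⟨(⟨m, hm⟩, 0), Subtype.ext ?_⟩
      simp [φ, h1]
    · refine ⟨(⟨m, hm⟩, 1), Subtype.ext ?_⟩
      simp [φ, h1]
    · refine ⟨(⟨m, hm⟩, 2), Subtype.ext ?_⟩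
      simp only [φ, h1]
      rw [a_inv_eq h]
      simp [pow_two]
  have hc := Nat.card_congr (Equiv.ofBijective φ ⟨hinj, hsurj⟩)
  rw [← hc, Nat.card_prod, Nat.card_eq_fintype_card (α := Fin 3), Fintype.card_fin, mul_comm]

end

end Cfsg.Agent.Lib.FT3Coset
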