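import Mathlib
import Cfsg.Agent.Lib.FT3Char2
import Cfsg.Agent.Lib.FT3Coset

/-!
# Self-centralizing elements of order three: the numerical data
-/

set_option autoImplicit false
set_option linter.style.haveILetI false
set_option linter.unusedSectionVars false
set_option linter.unusedVariables false

namespace Cfsg.Agent.Lib.FT3Char

open Subgroup Cfsg Cfsg.Agent.Lib.SelfCent Cfsg.Agent.Lib.CharBasic Cfsg.Agent.Lib.CharInd
open Cfsg.Agent.Lib.FT3Basic Cfsg.Agent.Lib.FT3Count Cfsg.Agent.Lib.CharKernel Cfsg.Agent.Lib.FT3Coset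
open scoped ComplexConjugate

universe u

variable {G : Type u} [Group G]

section Identities

variable [Finite G] {a t : G} (S : Setup a t)
include S

theorem Setup.ta : t * a = a⁻¹ * t := by
  have h := S.hta'
  calc t * a = t * a * t * t := by rw [mul_assoc (t * a), S.sq, mul_one]
    _ = a⁻¹ * t := by rw [h]

theorem Setup.tai : t * a⁻¹ = a * t := by
  have h := S.ta
  have h2 : a * (t * a) * a⁻¹ * t⁻¹ * t * a⁻¹ = a * (a⁻¹ * t) * a⁻¹ * t⁻¹ * t * a⁻¹ := by rw [h]
  calc t * a⁻¹ = a * (a⁻¹ * t) * a⁻¹ := by group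
    _ = a * (t * a) * a⁻¹ := by rw [h]
    _ = a * t := by group

theorem Setup.ainv2 : a⁻¹ * a⁻¹ = a := by
  have h1 := a_inv_eq S.h
  have h2 := a_mul3 S.h
  rw [h1]
  calc a * a * (a * a) = (a * a * a) * a := by group
    _ = a := by rw [h2, one_mul]

theorem Setup.conj1 : a * t * a⁻¹ = t * a := by
  rw [← S.tai, mul_assoc, S.ainv2]

theorem Setup.conj2 : a⁻¹ * t * a = t * a⁻¹ := by
  rw [mul_assoc, S.ta, ← mul_assoc, S.ainv2, S.tai]

end Identities

section Counts

variable [Fintype G] {a t : G} (S : Setup a t)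
include S

theorem invol_of_conj {w : G} (hc : IsConj t w) : w * w = 1 := by
  obtain ⟨y, rfl⟩ := isConj_iff.mp hc
  have : y * t * y⁻¹ * (y * t * y⁻¹) = y * (t * t) * y⁻¹ := by group
  rw [this, S.sq]
  group

theorem order_of_conj {w : G} (hc : IsConj t w) : orderOf w = 2 := by
  obtain ⟨y, rfl⟩ := isConj_iff.mp hc
  have := (MulAut.conj y).orderOf_eq t
  rw [MulAut.conj_apply] at this
  rw [this, S.ht]

theorem card_cent_a : Nat.card (centralizer ({a} : Set G)) = 3 := by
  rw [S.h.hC, S.h.card_zpowers]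

open scoped Classical in
theorem countP_tta : countP t t a = 3 := by
  have hset : (Finset.univ.filter (fun p : G => IsConj t p ∧ IsConj t (p⁻¹ * a))) = {t, t * a, t * a⁻¹} := by
    ext p
    simp only [Finset.mem_filter, Finset.mem_univ, true_and, Finset.mem_insert, Finset.mem_singleton]
    constructor
    · rintro ⟨h1, h2⟩
      have hp := invol_of_conj S h1
      have hq := invol_of_conj S h2
      have hpi : p⁻¹ = p := inv_eq_of_mul_eq_one_left hp
      rw [hpi] at hq
      have h3 : p * a * p = a⁻¹ := by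
        rw [eq_inv_iff_mul_eq_one]
        calc p * a * p * a = p * a * (p * a) := by group
          _ = 1 := hq
      have h4 : a * (t * p) * a⁻¹ = t * p := by
        have h5 : a * t = t * a⁻¹ := S.tai.symm
        have h6 : p * a⁻¹ = a * p := by
          have h7 : a⁻¹ = p * a * p := h3.symm
          rw [h7]
          calc p * (p * a * p) = (p * p) * a * p := by group
            _ = a * p := by rw [hp, one_mul]
        calc a * (t * p) * a⁻¹ = (a * t) * (p * a⁻¹) := by group
          _ = t * a⁻¹ * (a * p) := by rw [h5, h6]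
          _ = t * p := by group
      have h5 := mem_zpowers_of_comm S.h h4
      obtain ⟨k, hk⟩ := mem_zpowers_iff.mp h5
      have h6 : p = t * a ^ k := by
        rw [hk, ← mul_assoc, S.sq, one_mul]
      rcases zpow_cases S.h k with h7 | h7 | h7
      · left; rw [h6, h7, mul_one]
      · right; left; rw [h6, h7]
      · right; right; rw [h6, h7]
    · rintro (hh | hh | hh)
      · rw [hh]
        refine ⟨IsConj.refl t, ?_⟩
        rw [S.inv]
        exact isConj_iff.mpr ⟨a, S.conj1⟩
      · rw [hh]
        refine ⟨isConj_iff.mpr ⟨a, S.conj1⟩, ?_⟩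
        have : (t * a)⁻¹ * a = a⁻¹ * t * a := by
          rw [mul_inv_rev, S.inv]
        rw [this]
        exact isConj_iff.mpr ⟨a⁻¹, by rw [inv_inv]⟩
      · rw [hh]
        refine ⟨isConj_iff.mpr ⟨a⁻¹, by rw [inv_inv, S.conj2]⟩, ?_⟩
        have : (t * a⁻¹)⁻¹ * a = t := by
          rw [mul_inv_rev, S.inv, inv_inv, ← S.tai]
          group
        rw [this]
  unfold countP
  rw [hset]
  have ha1 : a ≠ 1 := a_ne_one S.h
  have h1 : t ≠ t * a := fun h => ha1 (by simpa using h.symm)
  have h2 : t ≠ t * a⁻¹ := fun h => ha1 (by simpa using h.symm)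
  have h3 : t * a ≠ t * a⁻¹ := fun h => a_inv_ne S.h (mul_left_cancel h).symm
  rw [Finset.card_insert_of_notMem, Finset.card_insert_of_notMem, Finset.card_singleton]
  · simpa using h3
  · simp only [Finset.mem_insert, Finset.mem_singleton, not_or]
    exact ⟨h1, h2⟩

/-- A nonzero count gives conjugacy. -/
theorem isConj_of_count {w : G} (hw : orderOf w = 2) (hc : countP t a w ≠ 0) : IsConj t w := by
  classical
  unfold countP at hc
  obtain ⟨p, hp⟩ := Finset.card_pos.mp (Nat.pos_of_ne_zero hc)
  obtain ⟨h1, h2⟩ := (Finset.mem_filter.mp hp).2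
  refine h1.trans ?_
  have hpp := invol_of_conj S h1
  have hpi : p⁻¹ = p := inv_eq_of_mul_eq_one_left hpp
  rw [hpi] at h2
  have h3 : orderOf (p * w) = 3 := (S.isConj_a).1 h2
  have h4 : (p * w) ^ 3 = 1 := by rw [← h3]; exact pow_orderOf_eq_one _
  have hww : w * w = 1 := by
    have := pow_orderOf_eq_one w
    rwa [hw, pow_two] at this
  have hwi : w⁻¹ = w := inv_eq_of_mul_eq_one_left hww
  have h5 : p * w * p * w * p * w = 1 := by
    rw [← h4, pow_succ, pow_two]
    group
  have h6 : p * w * p * w * p = w := by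
    calc p * w * p * w * p = (p * w * p * w * p * w) * w⁻¹ := by group
      _ = w := by rw [h5, hwi, one_mul]
  refine isConj_iff.mpr ⟨p * w, ?_⟩
  rw [mul_inv_rev, hpi, hwi]
  calc p * w * p * (w * p) = p * w * p * w * p := by group
    _ = w := h6

open scoped Classical in
/-- The elements `p` of order two such that `p a` has order three. -/
noncomputable def Ia (a : G) : ℕ := (Finset.univ.filter (fun p : G => orderOf p = 2 ∧ orderOf (p * a) = 3)).card

open scoped Classical in
/-- The elements `n` such that `n a` and `n a⁻¹` have order three. -/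
noncomputable def Fs (a : G) : ℕ := (Finset.univ.filter (fun n : G => orderOf (n * a) = 3 ∧ orderOf (n * a⁻¹) = 3)).card

open scoped Classical in
theorem countP_taa (hI : ∀ w : G, orderOf w = 2 → IsConj t w) : countP t a a = Ia a := by
  unfold countP Ia
  congr 1
  ext p
  simp only [Finset.mem_filter, Finset.mem_univ, true_and]
  constructor
  · rintro ⟨h1, h2⟩
    have hpp := invol_of_conj S h1
    have hpi : p⁻¹ = p := inv_eq_of_mul_eq_one_left hpp
    rw [hpi] at h2
    exact ⟨order_of_conj S h1, (S.isConj_a).1 h2⟩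
  · rintro ⟨h1, h2⟩
    refine ⟨hI p h1, ?_⟩
    have hpp : p * p = 1 := by
      have := pow_orderOf_eq_one p
      rwa [h1, pow_two] at this
    have hpi : p⁻¹ = p := inv_eq_of_mul_eq_one_left hpp
    rw [hpi]
    exact (S.isConj_a).2 h2

open scoped Classical in
theorem countP_aaa : countP a a a = Fs a := by
  unfold countP Fs
  symm
  refine Finset.card_bij (fun n _ => n * a⁻¹) ?_ ?_ ?_
  · intro n hn
    obtain ⟨h1, h2⟩ := (Finset.mem_filter.mp hn).2
    refine Finset.mem_filter.mpr ⟨Finset.mem_univ _, (S.isConj_a).2 h2, (S.isConj_a).2 ?_⟩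
    have h3 : (n * a⁻¹)⁻¹ * a = a * (a * n)⁻¹ * a⁻¹ * (a * a * a) := by group
    rw [h3, a_mul3 S.h, mul_one]
    have h4 : orderOf (a * (a * n)⁻¹ * a⁻¹) = orderOf (a * n)⁻¹ := by
      have := (MulAut.conj a).orderOf_eq (a * n)⁻¹
      rwa [MulAut.conj_apply] at this
    rw [h4, orderOf_inv]
    have h5 : orderOf (a * n) = orderOf (n * a) := by
      have := (MulAut.conj a).orderOf_eq (n * a)
      rw [MulAut.conj_apply] at this
      rw [← this]
      congr 1
      group
    rw [h5, h1]
  · intro n _ n' _ hnn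
    exact mul_right_cancel hnn
  · intro p hp
    obtain ⟨h1, h2⟩ := (Finset.mem_filter.mp hp).2
    refine ⟨p * a, Finset.mem_filter.mpr ⟨Finset.mem_univ _, ?_, ?_⟩, by group⟩
    · have h3 : orderOf (p⁻¹ * a) = 3 := (S.isConj_a).1 h2
      have h5 : a * a = a⁻¹ := (a_inv_eq S.h).symm
      have h4 : p * a * a = (a * (p⁻¹ * a) * a⁻¹)⁻¹ := by
        rw [mul_assoc p, h5]
        group
      rw [h4, orderOf_inv]
      have h6 := (MulAut.conj a).orderOf_eq (p⁻¹ * a)
      rw [MulAut.conj_apply] at h6
      rw [h6, h3]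
    · have h3 : p * a * a⁻¹ = p := by group
      rw [h3]
      exact (S.isConj_a).1 h1

end Counts

end Cfsg.Agent.Lib.FT3Char
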