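import Mathlib
import Cfsg.Agent.Lib.FT3Char3

/-!
# Invariant four-groups
-/

set_option autoImplicit false
set_option linter.style.haveILetI false
set_option linter.unusedSectionVars false
set_option linter.unusedVariables false

namespace Cfsg.Agent.Lib.FT3Four

open Subgroup Cfsg Cfsg.Agent.Lib.SelfCent Cfsg.Agent.Lib.FT3Basic Cfsg.Agent.Lib.FT3Char

universe u

variable {G : Type u} [Group G]

/-- The subgroup `{1, p, q, r}` -/
def vSub (p q r : G) (hp : p * p = 1) (hq : q * q = 1) (hr : r * r = 1) (h1 : p * q = r) (h2 : q * p = r)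
    (h3 : p * r = q) (h4 : r * p = q) (h5 : q * r = p) (h6 : r * q = p) : Subgroup G where
  carrier := {1, p, q, r}
  one_mem' := by simp
  mul_mem' := by
    intro x y hx hy
    simp only [Set.mem_insert_iff, Set.mem_singleton_iff] at hx hy ⊢
    rcases hx with rfl | rfl | rfl | rfl <;> rcases hy with rfl | rfl | rfl | rfl <;> simp [*]
  inv_mem' := by
    intro x hx
    simp only [Set.mem_insert_iff, Set.mem_singleton_iff] at hx ⊢
    rcases hx with rfl | rfl | rfl | rfl
    · simp
    · right; left; exact inv_eq_of_mul_eq_one_left hp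
    · right; right; left; exact inv_eq_of_mul_eq_one_left hq
    · right; right; right; exact inv_eq_of_mul_eq_one_left hr

section

variable [Finite G] {a : G} (h : Hyp 3 a)
include h

/-- The `a`-invariant four-group containing an involution `p` with `p a` of order three. -/
theorem exists_four {p : G} (hp : orderOf p = 2) (hpa : orderOf (p * a) = 3) :
    ∃ V : Subgroup G, AInv a V ∧ Nat.card V = 4 ∧ p ∈ V ∧
      ∃ q r : G, q = a * p * a⁻¹ ∧ r = a * q * a⁻¹ ∧ p * q * r = 1 ∧
        orderOf q = 2 ∧ orderOf r = 2 ∧ p ≠ q ∧ p ≠ r ∧ q ≠ r ∧ ∀ x, x ∈ V ↔ x = 1 ∨ x = p ∨ x = q ∨ x = r := by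
  classical
  set q := a * p * a⁻¹ with hq
  set r := a * q * a⁻¹ with hr
  have h3 : a * a * a = 1 := a_mul3 h
  have hconj : ∀ b : G, orderOf (a * b * a⁻¹) = orderOf b := by
    intro b
    have := (MulAut.conj a).orderOf_eq b
    rwa [MulAut.conj_apply] at this
  have hq2 : orderOf q = 2 := by rw [hq, hconj, hp]
  have hr2 : orderOf r = 2 := by rw [hr, hconj, hq2]
  have hpp : p * p = 1 := by
    have := pow_orderOf_eq_one p
    rwa [hp, pow_two] at this
  have hqq : q * q = 1 := by
    have := pow_orderOf_eq_one q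
    rwa [hq2, pow_two] at this
  have hrr : r * r = 1 := by
    have := pow_orderOf_eq_one r
    rwa [hr2, pow_two] at this
  have hcube : (p * a) * (p * a) * (p * a) = 1 := by
    have := pow_orderOf_eq_one (p * a)
    rwa [hpa, pow_succ, pow_two] at this
  have hpqr : p * q * r = 1 := by
    have : p * q * r = (p * a) * (p * a) * (p * a) * (a * a * a)⁻¹ := by
      rw [hr, hq]
      group
    rw [this, hcube, h3]
    simp
  have harp : a * r * a⁻¹ = p := by
    rw [hr, hq]
    have : a * (a * (a * p * a⁻¹) * a⁻¹) * a⁻¹ = (a * a * a) * p * (a * a * a)⁻¹ := by group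
    rw [this, h3]
    simp
  have hqrp : q * r * p = 1 := by
    have : q * r * p = a * (p * q * r) * a⁻¹ := by
      calc q * r * p = (a * p * a⁻¹) * (a * q * a⁻¹) * (a * r * a⁻¹) := by rw [harp, ← hq, ← hr]
        _ = _ := by group
    rw [this, hpqr]
    simp
  have hrpq : r * p * q = 1 := by
    have : r * p * q = a * (q * r * p) * a⁻¹ := by
      calc r * p * q = (a * q * a⁻¹) * (a * r * a⁻¹) * (a * p * a⁻¹) := by rw [harp, ← hq, ← hr]
        _ = _ := by group
    rw [this, hqrp]
    simp
  have e1 : p * q = r := by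
    calc p * q = p * q * (r * r) := by rw [hrr, mul_one]
      _ = (p * q * r) * r := by group
      _ = r := by rw [hpqr, one_mul]
  have e3 : q * r = p := by
    calc q * r = q * r * (p * p) := by rw [hpp, mul_one]
      _ = (q * r * p) * p := by group
      _ = p := by rw [hqrp, one_mul]
  have e5 : r * p = q := by
    calc r * p = r * p * (q * q) := by rw [hqq, mul_one]
      _ = (r * p * q) * q := by group
      _ = q := by rw [hrpq, one_mul]
  have e2 : q * p = r := by
    calc q * p = q * (q * r) := by rw [e3]
      _ = (q * q) * r := by group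
      _ = r := by rw [hqq, one_mul]
  have e4 : p * r = q := by
    calc p * r = p * (p * q) := by rw [e1]
      _ = (p * p) * q := by group
      _ = q := by rw [hpp, one_mul]
  have e6 : r * q = p := by
    calc r * q = r * (r * p) := by rw [e5]
      _ = (r * r) * p := by group
      _ = p := by rw [hrr, one_mul]
  let V := vSub p q r hpp hqq hrr e1 e2 e4 e5 e3 e6
  have hmem : ∀ x, x ∈ V ↔ x = 1 ∨ x = p ∨ x = q ∨ x = r := by
    intro x
    simp [V, vSub, Subgroup.mem_mk]
  have hp1 : p ≠ 1 := by
    rintro rfl
    simp at hp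
  have hq1 : q ≠ 1 := by
    rw [ne_eq, ← orderOf_eq_one_iff, hq2]; norm_num
  have hr1 : r ≠ 1 := by
    rw [ne_eq, ← orderOf_eq_one_iff, hr2]; norm_num
  have hpq : p ≠ q := by
    intro he
    apply hr1
    rw [← e1, ← he, hpp]
  have hpr : p ≠ r := by
    intro he
    apply hq1
    rw [← e4, ← he, hpp]
  have hqr : q ≠ r := by
    intro he
    apply hp1
    rw [← e3, ← he, hqq]
  have hcard : Nat.card V = 4 := by
    have h1 : Nat.card V = ({1, p, q, r} : Finset G).card := by
      haveI : Fintype V := Fintype.ofFinite _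
      rw [Nat.card_eq_fintype_card]
      exact Fintype.card_of_subtype _ (fun x => by
        simp only [Finset.mem_insert, Finset.mem_singleton]
        exact (hmem x).symm)
    rw [h1, Finset.card_insert_of_notMem, Finset.card_insert_of_notMem, Finset.card_insert_of_notMem,
      Finset.card_singleton]
    · simpa using hqr
    · simp only [Finset.mem_insert, Finset.mem_singleton, not_or]
      exact ⟨hpq, hpr⟩
    · simp only [Finset.mem_insert, Finset.mem_singleton, not_or]
      exact ⟨hp1.symm, hq1.symm, hr1.symm⟩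
  refine ⟨V, ⟨?_, ?_⟩, hcard, (hmem p).2 (by simp), q, r, rfl, rfl, hpqr, hq2, hr2, hpq, hpr, hqr, hmem⟩
  · intro n hn
    rcases (hmem n).1 hn with rfl | rfl | rfl | rfl
    · exact (hmem _).2 (Or.inl (by group))
    · exact (hmem _).2 (by simp [← hq])
    · exact (hmem _).2 (by simp [← hr])
    · exact (hmem _).2 (by simp [harp])
  · rw [hcard]
    norm_num

end

end Cfsg.Agent.Lib.FT3Four
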