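import Mathlib
import Cfsg.Agent.Lib.FT3Four
import Cfsg.Agent.Lib.CharValues

/-!
# Self-centralizing elements of order three: the numerical data, continued
-/

set_option autoImplicit false
set_option linter.style.haveILetI false
set_option linter.unusedSectionVars false
set_option linter.unusedVariables false

namespace Cfsg.Agent.Lib.FT3Char

open Subgroup Cfsg Cfsg.Agent.Lib.SelfCent Cfsg.Agent.Lib.CharBasic Cfsg.Agent.Lib.CharInd
open Cfsg.Agent.Lib.FT3Basic Cfsg.Agent.Lib.FT3Count Cfsg.Agent.Lib.CharKernel Cfsg.Agent.Lib.FT3Coset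
open Cfsg.Agent.Lib.FT3Four
open scoped ComplexConjugate

universe u

variable {G : Type u} [Group G]

section Avg

variable [Fintype G] {a t : G} {α β : IrrCharacter G} (S : Setup a t) (C : CP α β)
include S C

theorem val_order3 {x : G} (hx : orderOf x = 3) : (α : G → ℂ) x = 1 := by
  obtain ⟨y, hy⟩ := isConj_iff.mp ((S.isConj_a).2 hx)
  rw [← hy, isClassFunction_of_isCharacter (IsIrrCharacter.isCharacter α.2)]
  exact (C.val_a S.h).1

open scoped Classical in
/-- The average of `α` over an invariant subgroup is `1` modulo `3`. -/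
theorem avg_AInv {N : Subgroup G} (hN : AInv a N) [Fintype N] :
    ∃ d : ℕ, ∑ n : N, (α : G → ℂ) n = (Nat.card N : ℂ) * d ∧ d % 3 = 1 := by
  have hχ := IsIrrCharacter.isCharacter α.2
  obtain ⟨d, hd⟩ := avg_nat hχ N
  haveI : Fintype (M S.h hN) := Fintype.ofFinite _
  obtain ⟨n₀, hn₀⟩ := avg_nat hχ (M S.h hN)
  refine ⟨d, hd, ?_⟩
  set s₂ := Finset.univ.filter (fun x : G => x ∈ M S.h hN) with hs₂
  set s₁ := Finset.univ.filter (fun x : G => x ∈ N) with hs₁
  have hsub : s₁ ⊆ s₂ := by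
    intro x hx
    exact Finset.mem_filter.mpr ⟨Finset.mem_univ _, le_M S.h hN (Finset.mem_filter.mp hx).2⟩
  have e2 : ∑ x ∈ s₂, (α : G → ℂ) x = ∑ x : M S.h hN, (α : G → ℂ) x :=
    Finset.sum_subtype s₂ (fun x => by simp [hs₂]) _
  have e1 : ∑ x ∈ s₁, (α : G → ℂ) x = ∑ x : N, (α : G → ℂ) x :=
    Finset.sum_subtype s₁ (fun x => by simp [hs₁]) _
  have c2 : s₂.card = Nat.card (M S.h hN) := by
    rw [Nat.card_eq_fintype_card]
    exact (Fintype.card_of_subtype s₂ (fun x => by simp [hs₂])).symm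
  have c1 : s₁.card = Nat.card N := by
    rw [Nat.card_eq_fintype_card]
    exact (Fintype.card_of_subtype s₁ (fun x => by simp [hs₁])).symm
  have hdiff : ∑ x ∈ s₂ \ s₁, (α : G → ℂ) x = ((s₂ \ s₁).card : ℂ) := by
    rw [Finset.card_eq_sum_ones]
    push_cast
    refine Finset.sum_congr rfl fun x hx => ?_
    obtain ⟨h1, h2⟩ := Finset.mem_sdiff.mp hx
    apply val_order3 S C
    apply M_order3 S.h hN (Finset.mem_filter.mp h1).2
    exact fun h3 => h2 (Finset.mem_filter.mpr ⟨Finset.mem_univ _, h3⟩)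
  have hcard : (s₂ \ s₁).card = 2 * Nat.card N := by
    rw [Finset.card_sdiff_of_subset hsub, c2, c1, card_M]
    omega
  have hsum := Finset.sum_sdiff (f := fun x => (α : G → ℂ) x) hsub
  rw [hdiff, hcard, e1, e2, hd, hn₀, card_M] at hsum
  have hne : (Nat.card N : ℂ) ≠ 0 := by exact_mod_cast (Nat.card_pos (α := N)).ne'
  have h3 : (2 : ℂ) + d = 3 * n₀ := by
    apply mul_left_cancel₀ hne
    push_cast at hsum
    linear_combination hsum
  have h4 : 2 + d = 3 * n₀ := by exact_mod_cast h3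
  omega

end Avg

section Main

variable [Fintype G] [IsSimpleGroup G] {a t : G} {α β : IrrCharacter G}

theorem two_le_degree (hna : ∃ x y : G, x * y ≠ y * x) (C : CP α β) :
    2 ≤ charDegree (α : G → ℂ) := by
  have h0 := charDegree_ne_zero α.2
  by_contra hlt
  have h1 : charDegree (α : G → ℂ) = 1 := by omega
  have hχ := IsIrrCharacter.isCharacter α.2
  have h2 : (α : G → ℂ) 1 = 1 := by
    rw [one_eq_charDegree hχ, h1]
    simp
  obtain ⟨φ, hφ⟩ := exists_hom_of_degree_one hχ h2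
  rcases (φ.normal_ker).eq_bot_or_eq_top with h3 | h3
  · have hinj := (MonoidHom.ker_eq_bot_iff φ).1 h3
    obtain ⟨x, y, hxy⟩ := hna
    apply hxy
    apply hinj
    rw [map_mul, map_mul, mul_comm]
  · apply C.hao
    funext g
    have hg : g ∈ φ.ker := by rw [h3]; trivial
    rw [hφ, MonoidHom.mem_ker.mp hg]
    simp

theorem faithful (C : CP α β) {w : G} (hw : (α : G → ℂ) w = (α : G → ℂ) 1) : w = 1 := by
  have hχ := IsIrrCharacter.isCharacter α.2
  rcases (charKer_normal hχ).eq_bot_or_eq_top with h3 | h3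
  · have : w ∈ charKer hχ := hw
    rwa [h3, Subgroup.mem_bot] at this
  · exfalso
    have h4 : ∀ g, (α : G → ℂ) g = (α : G → ℂ) 1 := by
      intro g
      have : g ∈ charKer hχ := by rw [h3]; trivial
      exact this
    have h5 := classInner_irr_ne α.2 (o1 G).2 (by
      intro h
      exact C.hao h)
    unfold classInner at h5
    have h7 : ∀ g, (α : G → ℂ) g * conj (((o1 G : IrrCharacter G) : G → ℂ) g) = (α : G → ℂ) 1 := by
      intro g
      rw [h4 g]
      have h6 : ((o1 G : IrrCharacter G) : G → ℂ) g = 1 := rfl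
      rw [h6, map_one, mul_one]
    simp only [h7] at h5
    have hne : (Nat.card G : ℂ) ≠ 0 := by exact_mod_cast (Nat.card_pos (α := G)).ne'
    rw [Finset.sum_const, Finset.card_univ, nsmul_eq_mul, ← Nat.card_eq_fintype_card] at h5
    have h8 := Cfsg.Agent.Lib.CharAvg.irr_one_ne_zero α.2
    rw [← mul_assoc, inv_mul_cancel₀ hne, one_mul] at h5
    exact h8 h5

/-- Integer values below the degree at involutions. -/
theorem val_invol (C : CP α β) {w : G} (hw : orderOf w = 2) :
    ∃ W : ℤ, (α : G → ℂ) w = W ∧ W < charDegree (α : G → ℂ) := by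
  have hχ := IsIrrCharacter.isCharacter α.2
  obtain ⟨W, hW⟩ := exists_int_of_involution hχ hw
  refine ⟨W, hW, ?_⟩
  have hne : W ≠ charDegree (α : G → ℂ) := by
    intro h
    have h1 : w = 1 := faithful C (by
      rw [hW, h, one_eq_charDegree hχ]
      simp)
    rw [h1, orderOf_one] at hw
    omega
  have hle : W ≤ charDegree (α : G → ℂ) := by
    obtain ⟨n, ρ, hρ, hρc⟩ := α.2
    have h1 := Cfsg.Agent.Lib.CharValues.norm_character_le ρ w
    have h2 : (α : G → ℂ) = ρ.character := hρc.symm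
    rw [← h2, hW] at h1
    have h3 : Module.finrank ℂ (Fin n → ℂ) = n := by simp
    rw [h3] at h1
    have h4 : (α : G → ℂ) 1 = n := by
      rw [h2, char_one_eq_rep]
    have h5 : (charDegree (α : G → ℂ) : ℂ) = n := by
      rw [← one_eq_charDegree hχ, h4]
    have h6 : charDegree (α : G → ℂ) = n := by exact_mod_cast h5
    rw [h6]
    have h7 : ‖(W : ℂ)‖ = |(W : ℝ)| := by
      rw [Complex.norm_intCast]
    rw [h7] at h1
    have h8 : (W : ℝ) ≤ n := (le_abs_self _).trans h1
    exact_mod_cast h8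
  omega

/-- **The numerical data** for a simple group. -/
theorem char_main (hna : ∃ x y : G, x * y ≠ y * x) (S : Setup a t) :
    ∃ (f : ℕ) (y : ℤ) (d : ℕ), 2 ≤ f ∧ y < f ∧ d % 3 = 1 ∧ (f : ℤ) + 3 * y = 4 * d ∧
      (Nat.card G : ℤ) * ((f : ℤ) - y) ^ 2 =
        3 * (Nat.card (centralizer ({t} : Set G)) : ℤ) ^ 2 * f * (f + 1) ∧
      (∀ w : G, orderOf w = 2 → IsConj t w) ∧
      3 * (Nat.card (centralizer ({t} : Set G)) : ℤ) * Ia a * f * (f + 1) =
        Nat.card G * ((f : ℤ) ^ 2 + 2 * f + y * (2 * f + 1)) ∧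
      9 * (Fs a : ℤ) * f * (f + 1) = Nat.card G * ((f : ℤ) ^ 2 + f + 1) ∧
      2 * f * (f + 1) + 2 ≤ Nat.card G ∧ 0 < Ia a := by
  classical
  obtain ⟨α, β, C⟩ := exists_CP S
  set f := charDegree (α : G → ℂ) with hf
  have hf2 : 2 ≤ f := two_le_degree hna C
  obtain ⟨y, hy, hyf⟩ := val_invol C S.ht
  set c := Nat.card (centralizer ({t} : Set G)) with hc
  have hcpos : 0 < c := Nat.card_pos
  have hGpos : (0 : ℤ) < Nat.card G := by exact_mod_cast Nat.card_pos (α := G)
  have hfz : (2 : ℤ) ≤ f := by exact_mod_cast hf2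
  -- formula 1
  have e1 : (Nat.card G : ℤ) * ((f : ℤ) - y) ^ 2 = 3 * (c : ℤ) ^ 2 * f * (f + 1) := by
    have h := formula1 S C
    rw [countP_tta S, hy] at h
    have h2 : (((Nat.card G : ℤ) * ((f : ℤ) - y) ^ 2 : ℤ) : ℂ) = ((3 * (c : ℤ) ^ 2 * f * (f + 1) : ℤ) : ℂ) := by
      push_cast at h ⊢
      linear_combination -h
    exact_mod_cast h2
  -- all involutions are conjugate
  have hI : ∀ w : G, orderOf w = 2 → IsConj t w := by
    intro w hw
    apply isConj_of_count S hw
    intro h0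
    obtain ⟨W, hW, hWf⟩ := val_invol C hw
    have h := formula2 S C hw
    rw [h0, hy, hW] at h
    have h2 : ((Nat.card G : ℤ) * ((f : ℤ) - y) * ((f : ℤ) - W) : ℤ) = 0 := by
      have h3 : (((Nat.card G : ℤ) * ((f : ℤ) - y) * ((f : ℤ) - W) : ℤ) : ℂ) = ((0 : ℤ) : ℂ) := by
        push_cast at h ⊢
        rw [← h]
        simp
      exact_mod_cast h3
    have h4 : (0 : ℤ) < (Nat.card G : ℤ) * ((f : ℤ) - y) * ((f : ℤ) - W) := by
      apply mul_pos (mul_pos hGpos (by omega)) (by omega)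
    omega
  -- formula 3
  have e3 : 3 * (c : ℤ) * Ia a * f * (f + 1) =
      Nat.card G * ((f : ℤ) ^ 2 + 2 * f + y * (2 * f + 1)) := by
    have h := formula3 S C
    rw [countP_taa S hI, card_cent_a S, hy] at h
    have h2 : ((3 * (c : ℤ) * Ia a * f * (f + 1) : ℤ) : ℂ) =
        ((Nat.card G * ((f : ℤ) ^ 2 + 2 * f + y * (2 * f + 1)) : ℤ) : ℂ) := by
      push_cast at h ⊢
      linear_combination h
    exact_mod_cast h2
  -- formula 4
  have e4 : 9 * (Fs a : ℤ) * f * (f + 1) = Nat.card G * ((f : ℤ) ^ 2 + f + 1) := by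
    have h := formula4 S C
    rw [countP_aaa S, card_cent_a S] at h
    have h2 : ((9 * (Fs a : ℤ) * f * (f + 1) : ℤ) : ℂ) =
        ((Nat.card G * ((f : ℤ) ^ 2 + f + 1) : ℤ) : ℂ) := by
      push_cast at h ⊢
      linear_combination h
    exact_mod_cast h2
  -- the degree sum
  have hsq : 2 * f * (f + 1) + 2 ≤ Nat.card G := by
    have h1 := sum_charDegree_sq (G := G)
    have hsub : ({o1 G, α, β} : Finset (IrrCharacter G)) ⊆ Finset.univ := Finset.subset_univ _
    have h2 := Finset.sum_le_sum_of_subset (f := fun χ : IrrCharacter G => (charDegree (χ : G → ℂ)) ^ 2) hsub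
    rw [Finset.sum_insert (by
      simp only [Finset.mem_insert, Finset.mem_singleton, not_or]
      exact ⟨C.o_ne_a, C.o_ne_b⟩), Finset.sum_insert (by
      simpa using C.hab), Finset.sum_singleton, h1, C.hdeg] at h2
    have h3 : charDegree ((o1 G : IrrCharacter G) : G → ℂ) = 1 := by
      simp [charDegree, o1]
    rw [h3, ← hf] at h2
    nlinarith
  -- positivity of `Ia`
  have hIa : 0 < Ia a := by
    apply Nat.pos_of_ne_zero
    intro h0
    rw [h0] at e3
    have h1 : (Nat.card G : ℤ) * ((f : ℤ) ^ 2 + 2 * f + y * (2 * f + 1)) = 0 := by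
      rw [← e3]; simp
    have h2 : (f : ℤ) ^ 2 + 2 * f + y * (2 * f + 1) = 0 := by
      rcases mul_eq_zero.mp h1 with h3 | h3
      · omega
      · exact h3
    have h3 : (2 * (f : ℤ) + 1) * (2 * f + 3 + 4 * y) = 3 := by
      linear_combination 4 * h2
    have h4 : (2 * (f : ℤ) + 1) ∣ 3 := ⟨_, h3.symm⟩
    have h5 := Int.le_of_dvd (by norm_num) h4
    omega
  -- the average over a four-group
  obtain ⟨p, hp⟩ := Finset.card_pos.mp hIa
  obtain ⟨hp2, hp3⟩ := (Finset.mem_filter.mp hp).2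
  obtain ⟨V, hV, hV4, hpV, q, r, _, _, _, hq2, hr2, hpq, hpr, hqr, hmem⟩ := exists_four S.h hp2 hp3
  haveI : Fintype V := Fintype.ofFinite _
  obtain ⟨d, hd, hd3⟩ := avg_AInv S C hV
  have hval : ∀ w : G, orderOf w = 2 → (α : G → ℂ) w = y := by
    intro w hw
    obtain ⟨g, hg⟩ := isConj_iff.mp (hI w hw)
    rw [← hg, isClassFunction_of_isCharacter (IsIrrCharacter.isCharacter α.2), hy]
  have hsumV : ∑ n : V, (α : G → ℂ) n = (f : ℂ) + 3 * y := by
    have hp1 : p ≠ 1 := by
      rintro rfl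
      simp at hp2
    have hq1 : q ≠ 1 := by
      rw [ne_eq, ← orderOf_eq_one_iff, hq2]; norm_num
    have hr1 : r ≠ 1 := by
      rw [ne_eq, ← orderOf_eq_one_iff, hr2]; norm_num
    have h1 : ∑ x ∈ ({1, p, q, r} : Finset G), (α : G → ℂ) x = ∑ n : V, (α : G → ℂ) n :=
      Finset.sum_subtype _ (fun x => by
        simp only [Finset.mem_insert, Finset.mem_singleton]
        exact (hmem x).symm) _
    rw [← h1, Finset.sum_insert, Finset.sum_insert, Finset.sum_insert, Finset.sum_singleton,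
      hval p hp2, hval q hq2, hval r hr2, one_eq_charDegree (IsIrrCharacter.isCharacter α.2)]
    · ring
    · simpa using hqr
    · simp only [Finset.mem_insert, Finset.mem_singleton, not_or]
      exact ⟨hpq, hpr⟩
    · simp only [Finset.mem_insert, Finset.mem_singleton, not_or]
      exact ⟨hp1.symm, hq1.symm, hr1.symm⟩
  rw [hsumV, hV4] at hd
  have hdz : (f : ℤ) + 3 * y = 4 * d := by
    have h2 : (((f : ℤ) + 3 * y : ℤ) : ℂ) = ((4 * d : ℤ) : ℂ) := by
      push_cast at hd ⊢
      exact hd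
    exact_mod_cast h2
  exact ⟨f, y, d, hf2, hyf, hd3, hdz, e1, hI, e3, e4, hsq, hIa⟩

end Main

end Cfsg.Agent.Lib.FT3Char
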