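import Mathlib
import Cfsg.Agent.Lib.FT3Char4

/-!
# The structure modulo `O_{3'}`

`H / O_{3'}(H)` has order `3`, or `6`, or is simple.
-/

set_option autoImplicit false
set_option linter.style.haveILetI false
set_option linter.unusedSectionVars false
set_option linter.unusedVariables false

namespace Cfsg.Agent.Lib.FT3Dich

open Subgroup Cfsg Cfsg.Agent.Lib.SelfCent Cfsg.Agent.Lib.SelfCent2 Cfsg.Agent.Lib.SelfCent2.Hyp'
open Cfsg.Agent.Lib.FT3Basic Cfsg.Agent.Lib.FT3Char Cfsg.Agent.Lib.FT3Coset Cfsg.Agent.Lib.PCore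
open scoped commutatorElement

universe u

variable {H : Type u} [Group H] [Finite H] {b : H}

instance O_normal : (pPrimeCore 3 H).Normal := pPrimeCore_normal 3 H

theorem O_nd : ¬ 3 ∣ Nat.card (pPrimeCore 3 H) := by
  haveI : Fact (Nat.Prime 3) := ⟨Nat.prime_three⟩
  exact not_dvd_card_pPrimeCore 3

theorem ainv_of_normal {S : Subgroup H} [hS : S.Normal] (hd : ¬ 3 ∣ Nat.card S) : AInv b S :=
  ⟨fun n hn => hS.conj_mem n hn b, hd⟩

theorem AInv_O : AInv b (pPrimeCore 3 H) := ainv_of_normal O_nd

/-- An element of the normalizer outside the cyclic group gives an involution inverting `b`. -/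
theorem setup_of_mem_normalizer (h : Hyp 3 b) {n : H} (hn : n ∈ normalizer (zpowers b : Set H))
    (hn2 : n ∉ zpowers b) : Setup b n := by
  have hP : Nat.card (zpowers b) = 3 := h.card_zpowers
  have h1 : n * b * n⁻¹ ∈ zpowers b := (mem_normalizer_iff.mp hn b).1 (mem_zpowers b)
  have h2 : n * b * n⁻¹ ≠ 1 := by
    intro h3
    apply a_ne_one h
    have : n⁻¹ * (n * b * n⁻¹) * n = b := by group
    rw [← this, h3]
    group
  have hb : n * b * n⁻¹ = b⁻¹ := by
    rcases Cfsg.Agent.Lib.S4501Psi9.eq_or_eq_inv hP (mem_zpowers b) (a_ne_one h) h1 h2 with h3 | h3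
    · exfalso
      apply hn2
      apply h.mem_zpowers_of_commute
      calc n * b = n * b * n⁻¹ * n := by group
        _ = b * n := by rw [h3]
    · exact h3
  have hsq : n ^ 2 ∈ zpowers b := by
    apply h.mem_zpowers_of_commute
    have h3 : n * b⁻¹ * n⁻¹ = b := by
      calc n * b⁻¹ * n⁻¹ = (n * b * n⁻¹)⁻¹ := by group
        _ = b := by rw [hb]; group
    calc n ^ 2 * b = n * (n * b * n⁻¹) * n⁻¹ * n ^ 2 := by rw [pow_two]; group
      _ = n * b⁻¹ * n⁻¹ * n ^ 2 := by rw [hb]
      _ = b * n ^ 2 := by rw [h3]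
  have hsq1 : n ^ 2 = 1 := by
    by_contra hne
    have h3 := h.of_mem hsq hne
    apply hn2
    have h4 : n ∈ zpowers (n ^ 2) := by
      apply h3.mem_zpowers_of_commute
      exact ((Commute.refl n).pow_left 2).symm.eq
    have h5 : zpowers (n ^ 2) ≤ zpowers b := by
      rw [zpowers_le]
      exact hsq
    exact h5 h4
  refine ⟨h, orderOf_eq_prime hsq1 ?_, hb⟩
  rintro rfl
  apply hn2
  exact one_mem _

theorem exists_setup (h : Hyp 3 b) (he : eIdx b ≠ 1) : ∃ t, Setup b t := by
  have h1 : (zpowers b).subgroupOf (normalizer (zpowers b : Set H)) ≠ ⊤ := by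
    intro h2
    apply he
    unfold eIdx
    rw [h2, Subgroup.index_top]
  obtain ⟨n, hn⟩ : ∃ n : normalizer (zpowers b : Set H), n ∉ (zpowers b).subgroupOf (normalizer (zpowers b : Set H)) := by
    by_contra h2
    push Not at h2
    apply h1
    rw [eq_top_iff]
    intro x _
    exact h2 x
  rw [Subgroup.mem_subgroupOf] at hn
  exact ⟨n, setup_of_mem_normalizer h n.2 hn⟩

/-- The normalizer of `⟨b⟩`. -/
theorem mem_norm_cases {t : H} (S : Setup b t) {n : H} (hn : n ∈ normalizer (zpowers b : Set H)) :
    n ∈ zpowers b ∨ n * t ∈ zpowers b := by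
  by_cases hn2 : n ∈ zpowers b
  · exact Or.inl hn2
  · right
    have h1 := (setup_of_mem_normalizer S.h hn hn2).hta
    apply S.h.mem_zpowers_of_commute
    have h2 := S.hta'
    have h3 : n * b⁻¹ * n⁻¹ = b := by
      calc n * b⁻¹ * n⁻¹ = (n * b * n⁻¹)⁻¹ := by group
        _ = b := by rw [h1]; group
    have h4 : n * t * b = n * (t * b * t) * n⁻¹ * (n * t) := by
      have h5 : (t * b * t) * t = t * b := by
        rw [mul_assoc, S.sq, mul_one]
      calc n * t * b = n * (t * b) := by group
        _ = n * ((t * b * t) * t) := by rw [h5]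
        _ = _ := by group
    rw [h4, h2, h3]

theorem t_not_mem {S : Subgroup H} (hS : AInv b S) {t : H} (St : Setup b t) : t ∉ S := by
  intro ht
  have h1 : b * t * b⁻¹ * t⁻¹ ∈ S := S.mul_mem (hS.inv t ht) (S.inv_mem ht)
  have h2 : b * t * b⁻¹ * t⁻¹ = b⁻¹ := by
    have h3 : t * b⁻¹ * t⁻¹ = b := by
      calc t * b⁻¹ * t⁻¹ = (t * b * t⁻¹)⁻¹ := by group
        _ = b := by rw [St.hta]; group
    calc b * t * b⁻¹ * t⁻¹ = b * (t * b⁻¹ * t⁻¹) := by group
      _ = b * b := by rw [h3]
      _ = b⁻¹ := (a_inv_eq St.h).symm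
  rw [h2] at h1
  have h3 := hS.eq_one_of_fix St.h h1 (by group)
  apply a_ne_one St.h
  rwa [inv_eq_one] at h3

theorem t_not_mem_M {S : Subgroup H} (hS : AInv b S) {t : H} (St : Setup b t) : t ∉ M St.h hS := by
  intro ht
  have := M_order3 St.h hS ht (t_not_mem hS St)
  have h2 := St.ht
  omega

theorem M_mono {S S' : Subgroup H} (hS : AInv b S) (hS' : AInv b S') (h : Hyp 3 b) (hle : S ≤ S') :
    M h hS ≤ M h hS' := by
  intro x hx
  obtain ⟨m, hm, k, rfl⟩ := (mem_M h hS).1 hx
  exact (mem_M h hS').2 ⟨m, hle hm, k, rfl⟩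

/-- The case `e = 1`. -/
theorem case_one (h : Hyp 3 b) (he : eIdx b = 1) : ∀ x : H, x ∈ M h (AInv_O (b := b)) := by
  obtain ⟨h1, h2⟩ := commutator_of_eIdx_one h he
  have hA : AInv b (commutator H) := ainv_of_normal h1
  have hcard : Nat.card (M h hA) = Nat.card H := by
    rw [card_M, ← h2, mul_comm]
    exact Subgroup.card_mul_index _
  have htop : M h hA = ⊤ := Subgroup.eq_top_of_card_eq _ hcard
  have hle : commutator H ≤ pPrimeCore 3 H :=
    le_pPrimeCore inferInstance ((Nat.Prime.coprime_iff_not_dvd Nat.prime_three).mpr h1).symm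
  intro x
  have hx : x ∈ M h hA := by rw [htop]; trivial
  exact M_mono hA AInv_O h hle hx

/-- **The trichotomy.** -/
theorem dichotomy (h : Hyp 3 b) :
    (∀ x : H, x ∈ M h (AInv_O (b := b))) ∨
    (∃ t, Setup b t ∧ ∀ x : H, x ∈ M h (AInv_O (b := b)) ∨ x * t ∈ M h (AInv_O (b := b))) ∨
    ((∃ t, Setup b t) ∧ IsSimpleGroup (H ⧸ pPrimeCore 3 H) ∧ ∃ x y : H ⧸ pPrimeCore 3 H, x * y ≠ y * x) := by
  classical
  haveI : Fact (Nat.Prime 3) := ⟨Nat.prime_three⟩
  by_cases he : eIdx b = 1
  · exact Or.inl (case_one h he)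
  right
  obtain ⟨t, St⟩ := exists_setup h he
  set L := commutator H with hL
  set O := pPrimeCore 3 H with hO
  have hOL : O ≤ L := h.le_commutator_of_not_dvd O_nd
  have hd3 := dvd_card_commutator h he
  have hbL : zpowers b ≤ L := h.zpowers_le_of_dvd hd3
  have hbL' : b ∈ L := hbL (mem_zpowers b)
  have hsimple : IsSimpleGroup (L ⧸ O.subgroupOf L) := main_simple h he inferInstance
  by_cases hcomm : ∀ x y : L ⧸ O.subgroupOf L, x * y = y * x
  · -- the quotient has order three
    left
    refine ⟨t, St, ?_⟩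
    have hLM : ∀ x ∈ L, x ∈ M h (AInv_O (b := b)) := by
      intro x hx
      let q : L ⧸ O.subgroupOf L := ((⟨b, hbL'⟩ : L) : L ⧸ O.subgroupOf L)
      have hq1 : q ≠ 1 := by
        intro h1
        have h2 : (⟨b, hbL'⟩ : L) ∈ O.subgroupOf L := (QuotientGroup.eq_one_iff _).mp h1
        rw [Subgroup.mem_subgroupOf] at h2
        have h3 := (AInv_O (b := b)).eq_one_of_fix h h2 (by group)
        exact a_ne_one h h3
      have hnorm : (zpowers q).Normal := by
        constructor
        intro n hn g
        have : g * n * g⁻¹ = n := by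
          rw [hcomm g n]
          group
        rwa [this]
      have htop : zpowers q = ⊤ := by
        rcases hnorm.eq_bot_or_eq_top with h1 | h1
        · exfalso
          apply hq1
          have : q ∈ zpowers q := mem_zpowers q
          rwa [h1, Subgroup.mem_bot] at this
        · exact h1
      have hmem : ((⟨x, hx⟩ : L) : L ⧸ O.subgroupOf L) ∈ zpowers q := by rw [htop]; trivial
      obtain ⟨k, hk⟩ := mem_zpowers_iff.mp hmem
      have hk' : ((⟨b, hbL'⟩ ^ k : L) : L ⧸ O.subgroupOf L) = ((⟨x, hx⟩ : L) : L ⧸ O.subgroupOf L) := by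
        rw [QuotientGroup.mk_zpow]
        exact hk
      rw [QuotientGroup.eq] at hk'
      have h4 : ((⟨b, hbL'⟩ ^ k : L)⁻¹ * ⟨x, hx⟩ : L) ∈ O.subgroupOf L := hk'
      rw [Subgroup.mem_subgroupOf] at h4
      have h5 : (b ^ k)⁻¹ * x ∈ O := by simpa using h4
      have h6 : x * (b ^ k)⁻¹ ∈ O := by
        have := Subgroup.Normal.conj_mem (inferInstance : O.Normal) _ h5 (b ^ k)
        have h7 : b ^ k * ((b ^ k)⁻¹ * x) * (b ^ k)⁻¹ = x * (b ^ k)⁻¹ := by group
        rwa [h7] at this
      refine (mem_M h AInv_O).2 ⟨x * (b ^ k)⁻¹, h6, k, by group⟩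
    have htL : t ∉ L := fun h1 => t_not_mem_M AInv_O St (hLM t h1)
    have hidx : L.index ∣ eIdx b := index_dvd_eIdx h he
    have hmul := tCount_mul_eIdx h
    have he2 : eIdx b = 2 := by
      have h1 : eIdx b ∣ 2 := ⟨tCount H 3, by rw [mul_comm]; exact hmul.symm⟩
      rcases (Nat.dvd_prime Nat.prime_two).1 h1 with h2 | h2
      · exact absurd h2 he
      · exact h2
    rw [he2] at hidx
    have hL2 : L.index = 2 := by
      rcases (Nat.dvd_prime Nat.prime_two).1 hidx with h2 | h2
      · exfalso
        apply htL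
        have := Subgroup.index_eq_one.mp h2
        rw [this]
        trivial
      · exact h2
    intro x
    by_cases hx : x ∈ L
    · exact Or.inl (hLM x hx)
    · right
      apply hLM
      rw [Subgroup.mul_mem_iff_of_index_two hL2]
      exact iff_of_false hx htL
  · -- the quotient is non-abelian simple
    right
    refine ⟨⟨t, St⟩, ?_⟩
    -- `t ∈ L`
    have htL : t ∈ L := by
      by_contra htL
      apply hcomm
      have h' := restrict h L hbL'
      have he' : eIdx (⟨b, hbL'⟩ : L) = 1 := by
        unfold eIdx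
        rw [Subgroup.index_eq_one]
        rw [eq_top_iff]
        rintro ⟨n, hn⟩ _
        rw [Subgroup.mem_subgroupOf]
        show n ∈ zpowers (⟨b, hbL'⟩ : L)
        have hn' : (n : H) ∈ normalizer (zpowers b : Set H) := by
          rw [mem_normalizer_iff] at hn ⊢
          intro g
          constructor
          · intro hg
            obtain ⟨k, rfl⟩ := mem_zpowers_iff.mp hg
            have h1 := (hn (⟨b, hbL'⟩ ^ k)).1 (zpow_mem (mem_zpowers _) k)
            obtain ⟨k', hk'⟩ := mem_zpowers_iff.mp h1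
            have h2 := congrArg Subtype.val hk'
            simp only [Subgroup.coe_mul, Subgroup.coe_zpow, Subgroup.coe_inv] at h2
            rw [mem_zpowers_iff]
            exact ⟨k', h2⟩
          · intro hg
            obtain ⟨k, hk⟩ := mem_zpowers_iff.mp hg
            have hgL : g ∈ L := by
              have h3 : g = (n : H)⁻¹ * (n * g * (n : H)⁻¹) * n := by group
              rw [h3, ← hk]
              exact L.mul_mem (L.mul_mem (L.inv_mem n.2) (zpow_mem hbL' k)) n.2
            have h1 := (hn ⟨g, hgL⟩).2 (by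
              rw [mem_zpowers_iff]
              refine ⟨k, Subtype.ext ?_⟩
              simp [hk])
            obtain ⟨k', hk'⟩ := mem_zpowers_iff.mp h1
            have h2 := congrArg Subtype.val hk'
            simp only [Subgroup.coe_zpow] at h2
            rw [mem_zpowers_iff]
            exact ⟨k', h2⟩
        rcases mem_norm_cases St hn' with h1 | h1
        · obtain ⟨k, hk⟩ := mem_zpowers_iff.mp h1
          rw [mem_zpowers_iff]
          exact ⟨k, Subtype.ext (by simp [hk])⟩
        · exfalso
          apply htL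
          have h3 : t = (n : H)⁻¹ * (n * t) := by group
          rw [h3]
          exact L.mul_mem (L.inv_mem n.2) (hbL h1)
      obtain ⟨h1, h2⟩ := commutator_of_eIdx_one h' he'
      -- the derived group of `L` lies in `O`
      let K : Subgroup H := (commutator L).map L.subtype
      have hKn : K.Normal := by
        constructor
        rintro _ ⟨k, hk, rfl⟩ g
        haveI hLn : L.Normal := commutator_normal _ _
        let φ : L ≃* L := MulAut.conjNormal g
        have hφ : ∀ x : L, ((φ x : L) : H) = g * x * g⁻¹ := fun x => by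
          simp [φ, MulAut.conjNormal_apply]
        have hc : φ k ∈ commutator L := by
          have h3 : (commutator L).Characteristic := inferInstance
          have h4 := (Subgroup.characteristic_iff_map_eq.mp h3 φ)
          rw [← h4]
          exact ⟨k, hk, rfl⟩
        refine ⟨φ k, hc, ?_⟩
        simp [hφ]
      have hKc : Nat.card K = Nat.card (commutator L) := by
        exact Nat.card_congr (Subgroup.equivMapOfInjective _ _ L.subtype_injective).symm.toEquiv
      have hKO : K ≤ O := by
        apply le_pPrimeCore hKn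
        rw [hKc]
        exact ((Nat.Prime.coprime_iff_not_dvd Nat.prime_three).mpr h1).symm
      intro x y
      obtain ⟨x, rfl⟩ := QuotientGroup.mk_surjective x
      obtain ⟨y, rfl⟩ := QuotientGroup.mk_surjective y
      rw [← QuotientGroup.mk_mul, ← QuotientGroup.mk_mul, QuotientGroup.eq, Subgroup.mem_subgroupOf]
      apply hKO
      refine ⟨(x * y)⁻¹ * (y * x), ?_, rfl⟩
      have h3 : ⁅y⁻¹, x⁻¹⁆ = (x * y)⁻¹ * (y * x) := by
        rw [commutatorElement_def]
        group
      rw [← h3]
      exact Subgroup.commutator_mem_commutator (mem_top _) (mem_top _)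
    -- Frattini
    have hnorm : normalizer (zpowers b : Set H) ≤ L := by
      intro n hn
      rcases mem_norm_cases St hn with h1 | h1
      · exact hbL h1
      · have h3 : n = (n * t) * t⁻¹ := by group
        rw [h3]
        exact L.mul_mem (hbL h1) (L.inv_mem htL)
    have hLtop : L = ⊤ := by
      have h1 := h.normalizer_sup hbL
      rwa [sup_eq_right.mpr hnorm] at h1
    have hb1 : (b : H ⧸ O) ≠ 1 := by
      intro h1
      have h2 : b ∈ O := (QuotientGroup.eq_one_iff _).mp h1
      have h3 := (AInv_O (b := b)).eq_one_of_fix h h2 (by group)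
      exact a_ne_one h h3
    haveI : Nontrivial (H ⧸ O) := ⟨⟨_, _, hb1⟩⟩
    let φ : L ⧸ O.subgroupOf L →* H ⧸ O :=
      QuotientGroup.lift (O.subgroupOf L) ((QuotientGroup.mk' O).comp L.subtype) (by
        intro x hx
        rw [Subgroup.mem_subgroupOf] at hx
        exact (QuotientGroup.eq_one_iff _).mpr hx)
    have hφ : Function.Surjective φ := by
      intro q
      obtain ⟨x, rfl⟩ := QuotientGroup.mk_surjective q
      have hx : x ∈ L := by rw [hLtop]; trivial
      exact ⟨((⟨x, hx⟩ : L) : L ⧸ O.subgroupOf L), rfl⟩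
    refine ⟨IsSimpleGroup.isSimpleGroup_of_surjective φ hφ, ?_⟩
    by_contra hc
    push Not at hc
    apply hcomm
    intro x y
    obtain ⟨x, rfl⟩ := QuotientGroup.mk_surjective x
    obtain ⟨y, rfl⟩ := QuotientGroup.mk_surjective y
    have h1 := hc ((x : H) : H ⧸ O) ((y : H) : H ⧸ O)
    rw [← QuotientGroup.mk_mul, ← QuotientGroup.mk_mul, QuotientGroup.eq] at h1 ⊢
    rw [Subgroup.mem_subgroupOf]
    simpa using h1

end Cfsg.Agent.Lib.FT3Dich
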