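import Mathlib
import Cfsg.Agent.Lib.FT3Dich
import Cfsg.Agent.Lib.BrolineGT

/-!
# The `r`-part of an invariant subgroup
-/

set_option autoImplicit false
set_option linter.style.haveILetI false
set_option linter.unusedSectionVars false
set_option linter.unusedVariables false

namespace Cfsg.Agent.Lib.FT3Part

open Subgroup Cfsg Cfsg.Agent.Lib.SelfCent Cfsg.Agent.Lib.PCore
open Cfsg.Agent.Lib.FT3Basic Cfsg.Agent.Lib.FT3Char Cfsg.Agent.Lib.FT3Coset Cfsg.Agent.Lib.FT3Dich

universe u

variable {G : Type u} [Group G]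

/-- The conjugate of a subgroup. -/
def cj (g : G) (N : Subgroup G) : Subgroup G := N.map (MulAut.conj g).toMonoidHom

theorem mem_cj {g x : G} {N : Subgroup G} : x ∈ cj g N ↔ g⁻¹ * x * g ∈ N := by
  constructor
  · rintro ⟨n, hn, rfl⟩
    simpa [MulAut.conj_apply, mul_assoc] using hn
  · intro h
    exact ⟨_, h, by simp [MulAut.conj_apply, mul_assoc]⟩

theorem conj_mem_cj {g x : G} {N : Subgroup G} (hx : x ∈ N) : g * x * g⁻¹ ∈ cj g N :=
  ⟨x, hx, by simp [MulAut.conj_apply]⟩

theorem card_cj (g : G) (N : Subgroup G) : Nat.card (cj g N) = Nat.card N :=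
  Nat.card_congr (N.equivMapOfInjective _ (MulAut.conj g).injective).symm.toEquiv

theorem cj_one (N : Subgroup G) : cj 1 N = N := by
  ext x
  simp [mem_cj]

theorem cj_mul (g h : G) (N : Subgroup G) : cj (g * h) N = cj g (cj h N) := by
  ext x
  simp only [mem_cj, mul_inv_rev]
  constructor <;> intro hx <;> convert hx using 1 <;> group

theorem cj_eq_self {g : G} {N : Subgroup G} (h1 : ∀ n ∈ N, g * n * g⁻¹ ∈ N) (h2 : ∀ n ∈ N, g⁻¹ * n * g ∈ N) :
    cj g N = N := by
  ext x
  rw [mem_cj]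
  constructor
  · intro hx
    have := h1 _ hx
    have h3 : g * (g⁻¹ * x * g) * g⁻¹ = x := by group
    rwa [h3] at this
  · exact h2 x

section Finite

variable [Finite G]

/-- A bijective self-map by conjugation: for finite groups one inclusion is enough. -/
theorem conj_inv_mem {g : G} {N : Subgroup G} (h1 : ∀ n ∈ N, g * n * g⁻¹ ∈ N) :
    ∀ n ∈ N, g⁻¹ * n * g ∈ N := by
  have hle : cj g N ≤ N := by
    intro x hx
    have := h1 _ (mem_cj.mp hx)
    have h3 : g * (g⁻¹ * x * g) * g⁻¹ = x := by group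
    rwa [h3] at this
  have heq : cj g N = N := Subgroup.eq_of_le_of_card_ge hle (by rw [card_cj])
  intro n hn
  rw [← heq] at hn
  exact mem_cj.mp hn

theorem cj_eq_self' {g : G} {N : Subgroup G} (h1 : ∀ n ∈ N, g * n * g⁻¹ ∈ N) : cj g N = N :=
  cj_eq_self h1 (conj_inv_mem h1)

/-- The `r`-part of a subgroup. -/
noncomputable def rP (r : ℕ) (N : Subgroup G) : Subgroup G := (pCore r ↥N).map N.subtype

theorem rP_le (r : ℕ) (N : Subgroup G) : rP r N ≤ N := by
  rintro _ ⟨x, _, rfl⟩
  exact x.2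

theorem rP_pgroup (r : ℕ) [Fact r.Prime] (N : Subgroup G) : IsPGroup r (rP r N) := by
  have h : IsPGroup r (pCore r ↥N) := isPGroup_pCore r
  exact h.map N.subtype

theorem card_rP_eq (r : ℕ) (N : Subgroup G) : Nat.card (rP r N) = Nat.card (pCore r ↥N) :=
  Nat.card_congr (Subgroup.equivMapOfInjective _ _ N.subtype_injective).symm.toEquiv

/-- In a nilpotent group the `r`-core is the Sylow `r`-subgroup. -/
theorem pCore_eq_sylow {X : Type*} [Group X] [Finite X] [Group.IsNilpotent X] (r : ℕ) [Fact r.Prime] (P : Sylow r X) :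
    pCore r X = P :=
  le_antisymm (pCore_le_sylow r P) (le_pCore inferInstance P.2)

theorem card_rP (r : ℕ) [hr : Fact r.Prime] {N : Subgroup G} (hN : Group.IsNilpotent N) :
    Nat.card (rP r N) = r ^ (Nat.card N).factorization r := by
  obtain ⟨P⟩ : Nonempty (Sylow r N) := inferInstance
  rw [card_rP_eq, pCore_eq_sylow r P, Sylow.card_eq_multiplicity]

/-- Every `r`-subgroup of a nilpotent subgroup lies in its `r`-part. -/
theorem le_rP (r : ℕ) [hr : Fact r.Prime] {N : Subgroup G} (hN : Group.IsNilpotent N) {P : Subgroup G}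
    (hP : IsPGroup r P) (hPN : P ≤ N) : P ≤ rP r N := by
  have h1 : IsPGroup r (P.subgroupOf N) := hP.comap_of_injective N.subtype N.subtype_injective
  obtain ⟨Q, hQ⟩ := h1.exists_le_sylow
  intro x hx
  have hx' : (⟨x, hPN hx⟩ : N) ∈ (Q : Subgroup N) := hQ (by
    rw [Subgroup.mem_subgroupOf]
    exact hx)
  rw [← pCore_eq_sylow r Q] at hx'
  exact ⟨_, hx', rfl⟩

/-- The `r`-part is invariant under the normalizer. -/
theorem rP_conj (r : ℕ) [hr : Fact r.Prime] {N : Subgroup G} (hN : Group.IsNilpotent N) {g : G}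
    (hg : ∀ n ∈ N, g * n * g⁻¹ ∈ N) : ∀ x ∈ rP r N, g * x * g⁻¹ ∈ rP r N := by
  have hP : IsPGroup r (cj g (rP r N)) := (rP_pgroup r N).map (MulAut.conj g).toMonoidHom
  have hle : cj g (rP r N) ≤ N := by
    intro x hx
    have h1 := rP_le r N (mem_cj.mp hx)
    have h2 := hg _ h1
    have h3 : g * (g⁻¹ * x * g) * g⁻¹ = x := by group
    rwa [h3] at h2
  have h2 := le_rP r hN hP hle
  intro x hx
  exact h2 (conj_mem_cj hx)

/-- An `r`-element of `N` lies in the `r`-part. -/
theorem mem_rP_of_pow (r : ℕ) [hr : Fact r.Prime] {N : Subgroup G} (hN : Group.IsNilpotent N) {x : G}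
    (hx : x ∈ N) {k : ℕ} (hk : x ^ r ^ k = 1) : x ∈ rP r N := by
  have h1 : IsPGroup r (zpowers x) := by
    rw [IsPGroup.iff_card]
    have h2 : orderOf x ∣ r ^ k := orderOf_dvd_of_pow_eq_one hk
    obtain ⟨m, _, hm⟩ := (Nat.dvd_prime_pow hr.out).1 h2
    exact ⟨m, by rw [Nat.card_zpowers, hm]⟩
  exact le_rP r hN h1 (zpowers_le.mpr hx) (mem_zpowers x)

end Finite

section AI

variable [Finite G] {a : G} (h : Hyp 3 a)
include h

theorem rP_ainv (r : ℕ) [hr : Fact r.Prime] {N : Subgroup G} (hN : AInv a N) : AInv a (rP r N) := by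
  refine ⟨rP_conj r (hN.isNilpotent h) hN.inv, fun hd => hN.nd ?_⟩
  exact hd.trans (Subgroup.card_dvd_of_le (rP_le r N))

/-- The `r`-part of the order of an invariant subgroup is `1` modulo `3`. -/
theorem part_mod3 (r : ℕ) [hr : Fact r.Prime] {N : Subgroup G} (hN : AInv a N) :
    r ^ (Nat.card N).factorization r % 3 = 1 := by
  rw [← card_rP r (hN.isNilpotent h)]
  exact (rP_ainv h r hN).card_mod3 h

/-- The `2`-free part of the order of an invariant subgroup is `1` modulo `3`. -/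
theorem odd_part_mod3 {N : Subgroup G} (hN : AInv a N) :
    ordCompl[2] (Nat.card N) % 3 = 1 := by
  have h1 := hN.card_mod3 h
  have h2 : 2 ^ (Nat.card N).factorization 2 % 3 = 1 := by
    haveI : Fact (Nat.Prime 2) := ⟨Nat.prime_two⟩
    exact part_mod3 h 2 hN
  have h3 := Nat.ordProj_mul_ordCompl_eq_self (Nat.card N) 2
  set e := 2 ^ (Nat.card N).factorization 2
  set o := ordCompl[2] (Nat.card N)
  have h4 : (e * o) % 3 = 1 := by rw [h3]; exact h1
  rw [Nat.mul_mod, h2, one_mul, Nat.mod_mod] at h4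
  exact h4

end AI

end Cfsg.Agent.Lib.FT3Part
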