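import Mathlib
import Cfsg.Agent.Lib.FT3Part

/-!
# Subgroups containing `a`: the largest normal `3'`-subgroup
-/

set_option autoImplicit false
set_option linter.style.haveILetI false
set_option linter.unusedSectionVars false
set_option linter.unusedVariables false

namespace Cfsg.Agent.Lib.FT3Local

open Subgroup Cfsg Cfsg.Agent.Lib.SelfCent Cfsg.Agent.Lib.PCore Cfsg.Agent.Lib.SelfCent2.Hyp'
open Cfsg.Agent.Lib.FT3Basic Cfsg.Agent.Lib.FT3Char Cfsg.Agent.Lib.FT3Coset Cfsg.Agent.Lib.FT3Dich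
open Cfsg.Agent.Lib.FT3Part Cfsg.Agent.Lib.FT3Four

universe u

variable {G : Type u} [Group G] [Finite G] {a t : G}

/-- The image in `G` of `O_{3'}(H)`. -/
noncomputable def Lc (H : Subgroup G) : Subgroup G := (pPrimeCore 3 ↥H).map H.subtype

theorem Lc_le (H : Subgroup G) : Lc H ≤ H := by
  rintro _ ⟨x, _, rfl⟩
  exact x.2

theorem Lc_conj {H : Subgroup G} {h l : G} (hh : h ∈ H) (hl : l ∈ Lc H) : h * l * h⁻¹ ∈ Lc H := by
  obtain ⟨x, hx, rfl⟩ := hl
  have := (O_normal (H := ↥H)).conj_mem x hx ⟨h, hh⟩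
  exact ⟨_, this, by simp⟩

theorem card_Lc (H : Subgroup G) : Nat.card (Lc H) = Nat.card (pPrimeCore 3 ↥H) :=
  Nat.card_congr (Subgroup.equivMapOfInjective _ _ H.subtype_injective).symm.toEquiv

theorem Lc_nd (H : Subgroup G) : ¬ 3 ∣ Nat.card (Lc H) := by
  rw [card_Lc]
  exact O_nd

theorem Lc_ainv {H : Subgroup G} (ha : a ∈ H) : AInv a (Lc H) :=
  ⟨fun _ hn => Lc_conj ha hn, Lc_nd H⟩

theorem le_Lc {H D : Subgroup G} (hDH : D ≤ H) (hn : ∀ h ∈ H, ∀ d ∈ D, h * d * h⁻¹ ∈ D)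
    (hd : ¬ 3 ∣ Nat.card D) : D ≤ Lc H := by
  have h1 : (D.subgroupOf H).Normal := by
    constructor
    intro x hx g
    rw [Subgroup.mem_subgroupOf] at hx ⊢
    simpa using hn g g.2 x hx
  have h2 : Nat.card (D.subgroupOf H) = Nat.card D :=
    Nat.card_congr (Subgroup.subgroupOfEquivOfLe hDH).toEquiv
  have h3 : D.subgroupOf H ≤ pPrimeCore 3 ↥H := by
    apply le_pPrimeCore h1
    rw [h2]
    exact ((Nat.Prime.coprime_iff_not_dvd Nat.prime_three).mpr hd).symm
  intro x hx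
  exact ⟨⟨x, hDH hx⟩, h3 (by rw [Subgroup.mem_subgroupOf]; exact hx), rfl⟩

theorem Setup.mem_norm (S : Setup a t) : t ∈ normalizer (zpowers a : Set G) := by
  rw [mem_normalizer_iff]
  intro g
  have hinv : ∀ k : ℤ, t * a ^ k * t⁻¹ = (a⁻¹) ^ k := fun k => by rw [← S.hta, conj_zpow]
  constructor
  · intro hg
    obtain ⟨k, rfl⟩ := mem_zpowers_iff.mp hg
    rw [hinv]
    exact zpow_mem (inv_mem (mem_zpowers a)) k
  · intro hg
    obtain ⟨k, hk⟩ := mem_zpowers_iff.mp hg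
    have h3 : g = t⁻¹ * (a ^ k) * t := by rw [hk]; group
    rw [h3, S.inv]
    have := hinv k
    rw [S.inv] at this
    rw [this]
    exact zpow_mem (inv_mem (mem_zpowers a)) k

/-- `H ≤ L ⟨a, t⟩`. -/
def Ty (S : Setup a t) (H L : Subgroup G) (hL : AInv a L) : Prop :=
  ∀ x ∈ H, x ∈ M S.h hL ∨ x * t ∈ M S.h hL

/-- The trichotomy in `G`. -/
theorem local_dich (S : Setup a t) (H : Subgroup G) (ha : a ∈ H) :
    Ty S H (Lc H) (Lc_ainv ha) ∨
      (IsSimpleGroup (↥H ⧸ pPrimeCore 3 ↥H) ∧ (∃ x y : ↥H ⧸ pPrimeCore 3 ↥H, x * y ≠ y * x) ∧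
        ∃ t' : ↥H, Setup (⟨a, ha⟩ : ↥H) t') := by
  have h' : Hyp 3 (⟨a, ha⟩ : ↥H) := restrict S.h H ha
  have hcoe : ∀ (x : ↥H), x ∈ M h' (AInv_O (b := (⟨a, ha⟩ : ↥H))) → (x : G) ∈ M S.h (Lc_ainv ha) := by
    intro x hx
    obtain ⟨m, hm, k, rfl⟩ := (mem_M h' _).1 hx
    refine (mem_M S.h _).2 ⟨(m : G), ⟨m, hm, rfl⟩, k, ?_⟩
    simp
  rcases dichotomy h' with h1 | ⟨t', St', h1⟩ | ⟨⟨t', St'⟩, h1, h2⟩
  · left
    intro x hx
    exact Or.inl (hcoe ⟨x, hx⟩ (h1 _))
  · left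
    have S' : Setup a (t' : G) := by
      refine ⟨S.h, ?_, ?_⟩
      · rw [← St'.ht, Subgroup.orderOf_coe]
      · have := congrArg Subtype.val St'.hta
        simpa using this
    have hnorm := Setup.mem_norm S'
    have hj : (t' : G) * t ∈ zpowers a := by
      rcases mem_norm_cases S hnorm with h2 | h2
      · exfalso
        have h3 := orderOf_dvd_three_of_mem S.h h2
        rw [S'.ht] at h3
        omega
      · exact h2
    intro x hx
    rcases h1 ⟨x, hx⟩ with h2 | h2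
    · exact Or.inl (hcoe _ h2)
    · right
      have h3 := hcoe _ h2
      have h4 : x * t = (x * t') * (t' * t) := by
        have h5 : (t' : G) * t' = 1 := S'.sq
        calc x * t = x * ((t' : G) * t') * t := by rw [h5, mul_one]
          _ = _ := by group
      rw [h4]
      refine (M S.h _).mul_mem (by simpa using h3) ?_
      obtain ⟨k, hk⟩ := mem_zpowers_iff.mp hj
      rw [← hk]
      exact zpow_mem (a_mem_M S.h _) k
  · right
    exact ⟨h1, h2, t', St'⟩

/-- `t` normalizes `M` if it normalizes `L`. -/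
theorem M_conj_t (S : Setup a t) {L : Subgroup G} (hL : AInv a L) (ht : ∀ l ∈ L, t * l * t⁻¹ ∈ L)
    {m : G} (hm : m ∈ M S.h hL) : t * m * t⁻¹ ∈ M S.h hL := by
  obtain ⟨l, hl, k, rfl⟩ := (mem_M S.h hL).1 hm
  have h1 : t * a ^ k * t⁻¹ = (a⁻¹) ^ k := by rw [← S.hta, conj_zpow]
  have h2 : t * (l * a ^ k) * t⁻¹ = (t * l * t⁻¹) * (t * a ^ k * t⁻¹) := by group
  rw [h2, h1]
  exact (M S.h hL).mul_mem (le_M S.h hL (ht l hl)) (zpow_mem (inv_mem (a_mem_M S.h hL)) k)

/-- Elements in the non-trivial coset: a product of three of them lies in this coset. -/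
theorem coset_three (S : Setup a t) {L : Subgroup G} (hL : AInv a L) (ht : ∀ l ∈ L, t * l * t⁻¹ ∈ L)
    {x y z : G} (hx : x * t ∈ M S.h hL) (hy : y * t ∈ M S.h hL) (hz : z * t ∈ M S.h hL) :
    x * y * z * t ∈ M S.h hL := by
  have h1 := M_conj_t S hL ht hy
  have hs := S.sq
  have hi := S.inv
  have h2 : x * y * z * t = (x * t) * (t * (y * t) * t⁻¹) * (z * t) := by
    rw [hi]
    have h3 : t * t = 1 := hs
    calc x * y * z * t = x * (t * t) * y * (t * t) * z * t := by rw [h3]; group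
      _ = _ := by group
  rw [h2]
  exact (M S.h hL).mul_mem ((M S.h hL).mul_mem hx h1) hz

/-- An invariant subgroup of `H` lies in `L`. -/
theorem le_of_Ty (S : Setup a t) {H L : Subgroup G} (hL : AInv a L) (hLH : L ≤ H) (ha : a ∈ H)
    (hn : ∀ h ∈ H, ∀ l ∈ L, h * l * h⁻¹ ∈ L) (hT : Ty S H L hL) {Y : Subgroup G} (hY : AInv a Y)
    (hYH : Y ≤ H) : Y ≤ L := by
  intro y hy
  rcases hT y (hYH hy) with h1 | h1
  · by_contra h2
    have h3 := M_order3 S.h hL h1 h2
    have h4 : orderOf (⟨y, hy⟩ : Y) ∣ Nat.card Y := orderOf_dvd_natCard _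
    rw [Subgroup.orderOf_mk, h3] at h4
    exact hY.nd h4
  · exfalso
    have hMH : M S.h hL ≤ H := by
      intro x hx
      obtain ⟨l, hl, k, rfl⟩ := (mem_M S.h hL).1 hx
      exact H.mul_mem (hLH hl) (zpow_mem ha k)
    have htH : t ∈ H := by
      have h3 : t = y⁻¹ * (y * t) := by group
      rw [h3]
      exact H.mul_mem (H.inv_mem (hYH hy)) (hMH h1)
    have hnt := hn t htH
    have hconj : ∀ w : G, w * t ∈ M S.h hL → (a * w * a⁻¹) * t ∈ M S.h hL := by
      intro w hw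
      have h3 : a * w * a⁻¹ * t = a * (w * t) * a := by
        have h4 : a⁻¹ * t = t * a := S.ta.symm
        calc a * w * a⁻¹ * t = a * w * (a⁻¹ * t) := by group
          _ = a * w * (t * a) := by rw [h4]
          _ = _ := by group
      rw [h3]
      exact (M S.h hL).mul_mem ((M S.h hL).mul_mem (a_mem_M S.h hL) hw) (a_mem_M S.h hL)
    have h3 := coset_three S hL hnt h1 (hconj y h1) (hconj _ (hconj y h1))
    rw [hY.norm S.h hy, one_mul] at h3
    exact t_not_mem_M hL S h3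

/-- An element of order three in `H` lies in `M`. -/
theorem order3_mem_M (S : Setup a t) {H L : Subgroup G} (hL : AInv a L) (hLH : L ≤ H) (ha : a ∈ H)
    (hn : ∀ h ∈ H, ∀ l ∈ L, h * l * h⁻¹ ∈ L) (hT : Ty S H L hL) {x : G} (hx : x ∈ H) (hx3 : orderOf x = 3) :
    x ∈ M S.h hL := by
  rcases hT x hx with h1 | h1
  · exact h1
  · exfalso
    have hMH : M S.h hL ≤ H := by
      intro y hy
      obtain ⟨l, hl, k, rfl⟩ := (mem_M S.h hL).1 hy
      exact H.mul_mem (hLH hl) (zpow_mem ha k)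
    have htH : t ∈ H := by
      have h3 : t = x⁻¹ * (x * t) := by group
      rw [h3]
      exact H.mul_mem (H.inv_mem hx) (hMH h1)
    have hnt := hn t htH
    have h3 := coset_three S hL hnt h1 h1 h1
    have h4 : x * x * x = 1 := by
      have := pow_orderOf_eq_one x
      rwa [hx3, pow_succ, pow_two] at this
    rw [h4, one_mul] at h3
    exact t_not_mem_M hL S h3

/-- Conjugate configurations: an involution relates them. -/
theorem cj_eq_of_Ty (S : Setup a t) {N N' H H' : Subgroup G} (hN : AInv a N) (hN' : AInv a N')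
    (hNH : N ≤ H) (hNH' : N' ≤ H') (ha : a ∈ H) (ha' : a ∈ H')
    (nH : ∀ h ∈ H, ∀ l ∈ N, h * l * h⁻¹ ∈ N) (nH' : ∀ h ∈ H', ∀ l ∈ N', h * l * h⁻¹ ∈ N')
    (tH : Ty S H N hN) (tH' : Ty S H' N' hN') {g : G} (hg : ∀ x, x ∈ H' ↔ g⁻¹ * x * g ∈ H) :
    N' = cj g N ∧ (N' = N ∨ N' = cj t N) := by
  have hg' : g⁻¹ * a * g ∈ H := (hg a).1 ha'
  have hg'' : g * a * g⁻¹ ∈ H' := by
    rw [hg]
    have : g⁻¹ * (g * a * g⁻¹) * g = a := by group
    rwa [this]
  have hA : AInv a (cj g N) := by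
    refine ⟨fun x hx => ?_, by rw [card_cj]; exact hN.nd⟩
    rw [mem_cj] at hx ⊢
    have h1 := nH _ hg' _ hx
    have h2 : g⁻¹ * a * g * (g⁻¹ * x * g) * (g⁻¹ * a * g)⁻¹ = g⁻¹ * (a * x * a⁻¹) * g := by group
    rwa [h2] at h1
  have hA' : AInv a (cj g⁻¹ N') := by
    refine ⟨fun x hx => ?_, by rw [card_cj]; exact hN'.nd⟩
    rw [mem_cj, inv_inv] at hx ⊢
    have h1 := nH' _ hg'' _ hx
    have h2 : g * a * g⁻¹ * (g * x * g⁻¹) * (g * a * g⁻¹)⁻¹ = g * (a * x * a⁻¹) * g⁻¹ := by group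
    rwa [h2] at h1
  have h1 : cj g N ≤ N' := by
    apply le_of_Ty S hN' hNH' ha' nH' tH' hA
    intro x hx
    rw [hg]
    exact hNH (mem_cj.mp hx)
  have h2 : cj g⁻¹ N' ≤ N := by
    apply le_of_Ty S hN hNH ha nH tH hA'
    intro x hx
    have h3 := hNH' (mem_cj.mp hx)
    rw [inv_inv] at h3
    have h4 := (hg _).1 h3
    have h5 : g⁻¹ * (g * x * g⁻¹) * g = x := by group
    rwa [h5] at h4
  have heq : N' = cj g N := by
    apply le_antisymm _ h1
    intro x hx
    rw [mem_cj]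
    apply h2
    rw [mem_cj, inv_inv]
    have : g * (g⁻¹ * x * g) * g⁻¹ = x := by group
    rwa [this]
  refine ⟨heq, ?_⟩
  -- the element `g⁻¹ a g` of order three
  have hord : orderOf (g⁻¹ * a * g) = 3 := by
    have := (MulAut.conj g⁻¹).orderOf_eq a
    rw [MulAut.conj_apply, inv_inv] at this
    rw [this, S.h.hx]
  have hmem := order3_mem_M S hN hNH ha nH tH hg' hord
  have hnotN : g⁻¹ * a * g ∉ N := by
    intro h3
    have h4 : orderOf (⟨_, h3⟩ : N) ∣ Nat.card N := orderOf_dvd_natCard _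
    rw [Subgroup.orderOf_mk, hord] at h4
    exact hN.nd h4
  -- it is conjugate under `N` to `a` or to its inverse
  have hex : ∃ n ∈ N, g⁻¹ * a * g = n * a * n⁻¹ ∨ g⁻¹ * a * g = n * a⁻¹ * n⁻¹ := by
    obtain ⟨m, hm, k, hk⟩ := (mem_M S.h hN).1 hmem
    rcases zpow_cases S.h k with h3 | h3 | h3
    · exfalso
      rw [h3, mul_one] at hk
      exact hnotN (hk ▸ hm)
    · rw [h3] at hk
      obtain ⟨n, hn, h4⟩ := coset_conj S.h hN hm
      exact ⟨n, hn, Or.inl (by rw [hk, h4])⟩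
    · rw [h3] at hk
      obtain ⟨n, hn, h4⟩ := coset_conj (hyp_inv S.h) (AInv.of_inv S.h hN) hm
      exact ⟨n, hn, Or.inr (by rw [hk, h4])⟩
  obtain ⟨n, hn, hcases⟩ := hex
  set u := g * n with hu
  have hun : u ∈ normalizer (zpowers a : Set G) := by
    have hua : u⁻¹ * a * u = a ∨ u⁻¹ * a * u = a⁻¹ := by
      rcases hcases with h3 | h3
      · left
        rw [hu]
        calc (g * n)⁻¹ * a * (g * n) = n⁻¹ * (g⁻¹ * a * g) * n := by group
          _ = a := by rw [h3]; group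
      · right
        rw [hu]
        calc (g * n)⁻¹ * a * (g * n) = n⁻¹ * (g⁻¹ * a * g) * n := by group
          _ = a⁻¹ := by rw [h3]; group
    have hinvS : ∀ k : ℤ, u⁻¹ * a ^ k * u = (u⁻¹ * a * u) ^ k := by
      intro k
      have := conj_zpow (a := u⁻¹) (b := a) (i := k)
      simpa using this.symm
    have hle : ∀ x ∈ zpowers a, u⁻¹ * x * u ∈ zpowers a := by
      intro x hx
      obtain ⟨k, rfl⟩ := mem_zpowers_iff.mp hx
      rw [hinvS]
      rcases hua with h3 | h3 <;> rw [h3]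
      · exact zpow_mem (mem_zpowers a) k
      · exact zpow_mem (inv_mem (mem_zpowers a)) k
    have h3 := conj_inv_mem (g := u⁻¹) (N := zpowers a) (by simpa using hle)
    rw [mem_normalizer_iff]
    intro x
    constructor
    · intro hx
      simpa using h3 x hx
    · intro hx
      have h4 := hle _ hx
      have h5 : u⁻¹ * (u * x * u⁻¹) * u = x := by group
      rwa [h5] at h4
  have hcju : cj g N = cj u N := by
    rw [hu, cj_mul, cj_eq_self' (g := n) (N := N) (fun x hx => N.mul_mem (N.mul_mem hn hx) (N.inv_mem hn))]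
  rw [heq, hcju]
  have hza : ∀ z ∈ zpowers a, cj z N = N := by
    intro z hz
    apply cj_eq_self'
    intro x hx
    obtain ⟨k, rfl⟩ := mem_zpowers_iff.mp hz
    have := AInv.zpow_conj S.h hN k hx
    rwa [zpow_neg] at this
  rcases mem_norm_cases S hun with h3 | h3
  · left
    exact hza u h3
  · right
    -- `u = z t`
    have hut : u = (u * t) * t := by
      rw [mul_assoc, S.sq, mul_one]
    rw [hut, cj_mul]
    obtain ⟨k, hk⟩ := mem_zpowers_iff.mp h3
    rw [← hk]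
    -- `a ^ k t = t a ^ (-k)`
    have h4 : a ^ k * t = t * a ^ (-k) := by
      have h5 : t * a ^ (-k) * t⁻¹ = (a⁻¹) ^ (-k) := by rw [← S.hta, conj_zpow]
      have h6 : (a⁻¹) ^ (-k) = a ^ k := by simp
      rw [h6] at h5
      rw [← h5]
      group
    rw [← cj_mul, h4, cj_mul, hza _ (zpow_mem (mem_zpowers a) _)]

end Cfsg.Agent.Lib.FT3Local
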