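import Mathlib
import Cfsg.Agent.Lib.FT3Local

/-!
# Maximal invariant subgroups of order prime to `3`
-/

set_option autoImplicit false
set_option linter.style.haveILetI false
set_option linter.unusedSectionVars false
set_option linter.unusedVariables false

namespace Cfsg.Agent.Lib.FT3Max

open Subgroup Cfsg Cfsg.Agent.Lib.SelfCent Cfsg.Agent.Lib.PCore Cfsg.Agent.Lib.SelfCent2.Hyp'
open Cfsg.Agent.Lib.FT3Basic Cfsg.Agent.Lib.FT3Char Cfsg.Agent.Lib.FT3Coset Cfsg.Agent.Lib.FT3Dich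
open Cfsg.Agent.Lib.FT3Part Cfsg.Agent.Lib.FT3Four Cfsg.Agent.Lib.FT3Local

universe u

/-- The conclusion for a group of the induction. -/
def Conc (X : Type u) [Group X] : Prop :=
  IsSimpleGroup (X ⧸ pPrimeCore 3 X) → (∃ x y : X ⧸ pPrimeCore 3 X, x * y ≠ y * x) →
    (Nat.card X = 60 * Nat.card (pPrimeCore 3 X) ∧ IsPGroup 2 (pPrimeCore 3 X) ∧
        (∀ x ∈ pPrimeCore 3 X, x * x = 1) ∧ ∀ x ∈ pPrimeCore 3 X, ∀ y ∈ pPrimeCore 3 X, x * y = y * x) ∨
      (pPrimeCore 3 X = ⊥ ∧ Nat.card X = 168)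

/-- A simple quotient gives a larger invariant subgroup. -/
theorem simple_four {X : Type u} [Group X] [Finite X] {b t : X} (St : Setup b t)
    (hs : IsSimpleGroup (X ⧸ pPrimeCore 3 X)) (hna : ∃ x y : X ⧸ pPrimeCore 3 X, x * y ≠ y * x) :
    ∃ Y : Subgroup X, AInv b Y ∧ pPrimeCore 3 X < Y := by
  classical
  set O := pPrimeCore 3 X with hO
  haveI : Fintype (X ⧸ O) := Fintype.ofFinite _
  haveI : Fact (Nat.Prime 3) := ⟨Nat.prime_three⟩
  have hnd : ¬ 3 ∣ Nat.card O := O_nd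
  have hb : Hyp 3 (b : X ⧸ O) := ⟨Nat.prime_three, St.h.orderOf_mk hnd, St.h.centralizer_mk hnd⟩
  have hsq : t * t = 1 := St.sq
  have hT : Setup (b : X ⧸ O) (t : X ⧸ O) := by
    refine ⟨hb, ?_, ?_⟩
    · haveI : Fact (Nat.Prime 2) := ⟨Nat.prime_two⟩
      apply orderOf_eq_prime
      · rw [pow_two, ← QuotientGroup.mk_mul, hsq]
        rfl
      · intro h1
        have h2 : t ∈ O := (QuotientGroup.eq_one_iff t).mp h1
        exact t_not_mem AInv_O St h2
    · have := congrArg (fun w : X => (w : X ⧸ O)) St.hta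
      simpa using this
  obtain ⟨f, y, d, -, -, -, -, -, -, -, -, -, hIa⟩ := char_main hna hT
  obtain ⟨p, hp⟩ := Finset.card_pos.mp hIa
  obtain ⟨hp2, hp3⟩ := (Finset.mem_filter.mp hp).2
  obtain ⟨V, hV, hV4, hpV, -⟩ := exists_four hb hp2 hp3
  refine ⟨V.comap (QuotientGroup.mk' O), ⟨?_, ?_⟩, ?_⟩
  · intro n hn
    rw [Subgroup.mem_comap] at hn ⊢
    have := hV.inv _ hn
    simpa using this
  · intro h3
    obtain ⟨y', hy'⟩ := exists_prime_orderOf_dvd_card' (p := 3) (G := V.comap (QuotientGroup.mk' O)) h3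
    have hy1 : (y' : X) ∈ V.comap (QuotientGroup.mk' O) := y'.2
    have hy2 : orderOf (y' : X) = 3 := by rw [← hy', Subgroup.orderOf_coe]
    rw [Subgroup.mem_comap] at hy1
    have h4 : orderOf (⟨_, hy1⟩ : V) ∣ Nat.card V := orderOf_dvd_natCard _
    rw [Subgroup.orderOf_mk, hV4] at h4
    have h5 : orderOf (QuotientGroup.mk' O (y' : X)) ∣ 3 := by
      rw [← hy2]
      exact orderOf_map_dvd _ _
    have h6 : orderOf (QuotientGroup.mk' O (y' : X)) = 1 := by
      have : orderOf (QuotientGroup.mk' O (y' : X)) ∣ Nat.gcd 4 3 := Nat.dvd_gcd h4 h5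
      exact Nat.dvd_one.mp (by simpa using this)
    rw [orderOf_eq_one_iff] at h6
    have h7 : (y' : X) ∈ O := (QuotientGroup.eq_one_iff _).mp h6
    have h8 : orderOf (⟨_, h7⟩ : O) ∣ Nat.card O := orderOf_dvd_natCard _
    rw [Subgroup.orderOf_mk, hy2] at h8
    exact hnd h8
  · refine lt_of_le_of_ne ?_ ?_
    · intro x hx
      rw [Subgroup.mem_comap]
      have : QuotientGroup.mk' O x = 1 := (QuotientGroup.eq_one_iff _).mpr hx
      rw [this]
      exact one_mem _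
    · intro h3
      obtain ⟨x, rfl⟩ := QuotientGroup.mk_surjective p
      have h4 : x ∈ V.comap (QuotientGroup.mk' O) := by
        rw [Subgroup.mem_comap]
        exact hpV
      rw [← h3] at h4
      have h5 : ((x : X ⧸ O)) = 1 := (QuotientGroup.eq_one_iff _).mpr h4
      rw [h5, orderOf_one] at hp2
      omega

section

variable {G : Type u} [Group G] [Finite G] {a t : G}

/-- `D3` gives a larger invariant subgroup. -/
theorem d3_four (S : Setup a t) {H : Subgroup G} (ha : a ∈ H) (hs : IsSimpleGroup (↥H ⧸ pPrimeCore 3 ↥H))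
    (hna : ∃ x y : ↥H ⧸ pPrimeCore 3 ↥H, x * y ≠ y * x) (t' : ↥H) (St' : Setup (⟨a, ha⟩ : ↥H) t') :
    ∃ Y : Subgroup G, AInv a Y ∧ Lc H < Y ∧ Y ≤ H := by
  obtain ⟨Y, hY, hlt⟩ := simple_four St' hs hna
  have hcard : Nat.card (Y.map H.subtype) = Nat.card Y :=
    Nat.card_congr (Subgroup.equivMapOfInjective _ _ H.subtype_injective).symm.toEquiv
  refine ⟨Y.map H.subtype, ⟨?_, by rw [hcard]; exact hY.nd⟩, ?_, ?_⟩
  · rintro _ ⟨y, hy, rfl⟩
    exact ⟨_, hY.inv y hy, by simp⟩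
  · rw [lt_iff_le_and_ne]
    refine ⟨Subgroup.map_mono hlt.le, fun h1 => ?_⟩
    have h2 := Subgroup.map_injective H.subtype_injective h1
    exact hlt.ne h2
  · rintro _ ⟨y, _, rfl⟩
    exact y.2

/-- The numbers in the case of a simple quotient. -/
theorem d3_num {H : Subgroup G} (ha : a ∈ H) (hC : Hyp 3 (⟨a, ha⟩ : ↥H) → Conc ↥H) (h : Hyp 3 a)
    (hs : IsSimpleGroup (↥H ⧸ pPrimeCore 3 ↥H)) (hna : ∃ x y : ↥H ⧸ pPrimeCore 3 ↥H, x * y ≠ y * x)
    (hL : Lc H ≠ ⊥) : Nat.card H = 60 * Nat.card (Lc H) ∧ IsPGroup 2 (Lc H) := by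
  rcases hC (restrict h H ha) hs hna with ⟨h1, h2, -⟩ | ⟨h1, -⟩
  · refine ⟨by rw [h1, card_Lc], ?_⟩
    exact h2.map H.subtype
  · exfalso
    apply hL
    rw [Lc, h1, Subgroup.map_bot]

/-- Maximal invariant subgroups. -/
structure IsMaxA (a : G) (N : Subgroup G) : Prop where
  ainv : AInv a N
  max : ∀ N', AInv a N' → N ≤ N' → N' ≤ N

theorem exists_maxA {D : Subgroup G} (hD : AInv a D) : ∃ N, IsMaxA a N ∧ D ≤ N := by
  classical
  haveI : Finite (Subgroup G) := inferInstance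
  have hfin : {N : Subgroup G | AInv a N}.Finite := Set.toFinite _
  obtain ⟨N, hDN, hmax⟩ := hfin.exists_le_maximal hD
  exact ⟨N, ⟨hmax.1, fun N' hN' hle => hmax.2 hN' hle⟩, hDN⟩

theorem IsMaxA.eq_of_le {N N' : Subgroup G} (hN : IsMaxA a N) (hN' : AInv a N') (hle : N ≤ N') : N' = N :=
  le_antisymm (hN.max N' hN' hle) hle

/-- The normalizer of a subgroup. -/
abbrev nz (D : Subgroup G) : Subgroup G := normalizer (D : Set G)

theorem mem_nz_of {D : Subgroup G} {g : G} (h1 : ∀ d ∈ D, g * d * g⁻¹ ∈ D) : g ∈ nz D := by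
  rw [mem_normalizer_iff]
  intro x
  refine ⟨h1 x, fun hx => ?_⟩
  have := conj_inv_mem h1 _ hx
  have h3 : g⁻¹ * (g * x * g⁻¹) * g = x := by group
  rwa [h3] at this

theorem nz_conj {D : Subgroup G} {g d : G} (hg : g ∈ nz D) (hd : d ∈ D) : g * d * g⁻¹ ∈ D :=
  (mem_normalizer_iff.mp hg d).1 hd

theorem mem_nz_cj {D : Subgroup G} {g x : G} : x ∈ nz (cj g D) ↔ g⁻¹ * x * g ∈ nz D := by
  constructor
  · intro hx
    apply mem_nz_of
    intro d hd
    have h1 := nz_conj hx (conj_mem_cj (g := g) hd)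
    rw [mem_cj] at h1
    have h2 : g⁻¹ * (x * (g * d * g⁻¹) * x⁻¹) * g = g⁻¹ * x * g * d * (g⁻¹ * x * g)⁻¹ := by group
    rwa [h2] at h1
  · intro hx
    apply mem_nz_of
    intro d hd
    rw [mem_cj] at hd ⊢
    have h1 := nz_conj hx hd
    have h2 : g⁻¹ * x * g * (g⁻¹ * d * g) * (g⁻¹ * x * g)⁻¹ = g⁻¹ * (x * d * x⁻¹) * g := by group
    rwa [h2] at h1

theorem Ty.of_eq (S : Setup a t) {H L L' : Subgroup G} (heq : L = L') (hL : AInv a L) (hL' : AInv a L') :
    Ty S H L hL → Ty S H L' hL' := by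
  subst heq
  exact id

/-- The type of a maximal invariant subgroup: no simple section. -/
theorem type_of_max (S : Setup a t) {N : Subgroup G} (hN : IsMaxA a N) : Ty S (nz N) N hN.ainv := by
  have ha : a ∈ nz N := mem_nz_of hN.ainv.inv
  have hle : N ≤ Lc (nz N) := le_Lc (le_normalizer) (fun h hh d hd => nz_conj hh hd) hN.ainv.nd
  have heq : Lc (nz N) = N := hN.eq_of_le (Lc_ainv ha) hle
  rcases local_dich S (nz N) ha with h1 | ⟨h1, h2, t', St'⟩
  · exact Ty.of_eq S heq _ _ h1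
  · exfalso
    obtain ⟨Y, hY, hlt, -⟩ := d3_four S ha h1 h2 t' St'
    rw [heq] at hlt
    exact absurd (hN.max Y hY hlt.le) (not_le_of_gt hlt)

/-- In the situation of the control of `nz D` by `N`. -/
structure Ctl (S : Setup a t) (D N : Subgroup G) (hN : AInv a N) : Prop where
  le : N ≤ nz D
  norm : ∀ h ∈ nz D, ∀ l ∈ N, h * l * h⁻¹ ∈ N
  ty : Ty S (nz D) N hN

theorem Ctl.of_eq (S : Setup a t) {D N : Subgroup G} (hN : IsMaxA a N) (hle : N ≤ nz D) (ha : a ∈ nz D)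
    (hT : Ty S (nz D) (Lc (nz D)) (Lc_ainv ha)) : Ctl S D N hN.ainv := by
  have h1 := le_of_Ty S (Lc_ainv ha) (Lc_le _) ha (fun h hh l hl => Lc_conj hh hl) hT hN.ainv hle
  have heq : Lc (nz D) = N := hN.eq_of_le (Lc_ainv ha) h1
  refine ⟨hle, ?_, Ty.of_eq S heq _ _ hT⟩
  intro h hh l hl
  rw [← heq] at hl ⊢
  exact Lc_conj hh hl

/-- A part of a maximal subgroup. -/
theorem ctl_self (S : Setup a t) {N : Subgroup G} (hN : IsMaxA a N) : Ctl S N N hN.ainv := by
  refine ⟨le_normalizer, fun h hh l hl => nz_conj hh hl, type_of_max S hN⟩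

end

section Simple

variable {G : Type u} [Group G] [Finite G] [IsSimpleGroup G] {a t : G}

/-- Normalizers of proper non-trivial subgroups are proper. -/
theorem nz_ne_top {D : Subgroup G} (hD : D ≠ ⊥) (hD2 : D ≠ ⊤) : nz D ≠ ⊤ := by
  intro h
  have hn : D.Normal := by
    constructor
    intro n hn g
    exact nz_conj (show g ∈ nz D by rw [h]; trivial) hn
  rcases hn.eq_bot_or_eq_top with h1 | h1
  · exact hD h1
  · exact hD2 h1

theorem ne_top_of_ainv {D : Subgroup G} (S : Setup a t) (hD : AInv a D) : D ≠ ⊤ := by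
  rintro rfl
  apply hD.nd
  rw [Subgroup.card_top, ← S.h.hx]
  exact orderOf_dvd_natCard a

/-- The inductive hypothesis. -/
def IHyp (G : Type u) [Group G] : Prop := ∀ H : Subgroup G, H ≠ ⊤ → ∀ b : ↥H, Hyp 3 b → Conc ↥H

variable (IH : IHyp G) (S : Setup a t)
include IH S

/-- Control by `N` of the normalizer of an odd part. -/
theorem ctl_odd {r : ℕ} [hr : Fact r.Prime] (hr2 : r ≠ 2) {N : Subgroup G} (hN : IsMaxA a N)
    (hne : rP r N ≠ ⊥) : Ctl S (rP r N) N hN.ainv := by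
  have hA := rP_ainv S.h r hN.ainv
  have ha : a ∈ nz (rP r N) := mem_nz_of hA.inv
  have hle : N ≤ nz (rP r N) := by
    intro n hn
    apply mem_nz_of
    apply rP_conj r (hN.ainv.isNilpotent S.h)
    intro x hx
    exact N.mul_mem (N.mul_mem hn hx) (N.inv_mem hn)
  have hD : rP r N ≤ Lc (nz (rP r N)) :=
    le_Lc le_normalizer (fun h hh d hd => nz_conj hh hd) hA.nd
  rcases local_dich S (nz (rP r N)) ha with h1 | ⟨h1, h2, t', St'⟩
  · exact Ctl.of_eq S hN hle ha h1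
  · exfalso
    have hL : Lc (nz (rP r N)) ≠ ⊥ := fun h3 => hne (le_bot_iff.mp (h3 ▸ hD))
    obtain ⟨-, h4⟩ := d3_num ha (fun hh => IH _ (nz_ne_top hne (ne_top_of_ainv S hA)) _ hh) S.h h1 h2 hL
    have h5 : IsPGroup 2 (rP r N) := h4.to_le hD
    have h6 := rP_pgroup r N
    apply hne
    rw [eq_bot_iff]
    intro x hx
    obtain ⟨k, hk⟩ := h5 ⟨x, hx⟩
    obtain ⟨l, hl⟩ := h6 ⟨x, hx⟩
    have hk' : x ^ 2 ^ k = 1 := by simpa using congrArg Subtype.val hk
    have hl' : x ^ r ^ l = 1 := by simpa using congrArg Subtype.val hl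
    have hcop : Nat.Coprime (2 ^ k) (r ^ l) := by
      apply Nat.Coprime.pow
      exact (Nat.coprime_primes Nat.prime_two hr.out).mpr (Ne.symm hr2)
    have h7 := orderOf_dvd_of_pow_eq_one hk'
    have h8 := orderOf_dvd_of_pow_eq_one hl'
    have h9 : orderOf x = 1 := Nat.eq_one_of_dvd_coprimes hcop h7 h8
    rw [Subgroup.mem_bot]
    exact orderOf_eq_one_iff.mp h9

end Simple

end Cfsg.Agent.Lib.FT3Max
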