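import Mathlib
import Cfsg.Agent.Lib.FT3Max

/-!
# Sylow subgroups of maximal invariant subgroups
-/

set_option autoImplicit false
set_option linter.style.haveILetI false
set_option linter.unusedSectionVars false
set_option linter.unusedVariables false

namespace Cfsg.Agent.Lib.FT3Syl

open Subgroup Cfsg Cfsg.Agent.Lib.SelfCent Cfsg.Agent.Lib.PCore Cfsg.Agent.Lib.SelfCent2.Hyp'
open Cfsg.Agent.Lib.FT3Basic Cfsg.Agent.Lib.FT3Char Cfsg.Agent.Lib.FT3Coset Cfsg.Agent.Lib.FT3Dich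
open Cfsg.Agent.Lib.FT3Part Cfsg.Agent.Lib.FT3Four Cfsg.Agent.Lib.FT3Local Cfsg.Agent.Lib.FT3Max

universe u

variable {G : Type u} [Group G] [Finite G] {a t : G}

theorem mem_of_pow_mem_coprime {N : Subgroup G} {x : G} {m n : ℕ} (hm : x ^ m ∈ N) (hn : x ^ n = 1)
    (hc : Nat.Coprime m n) : x ∈ N := by
  have h1 : (m.gcdA n : ℤ) * m + n.gcdB m * 0 = 0 ∨ True := Or.inr trivial
  have h2 := Nat.gcd_eq_gcd_ab m n
  rw [hc] at h2
  have h3 : x = (x ^ m) ^ (m.gcdA n) := by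
    have h4 : x ^ ((m : ℤ) * m.gcdA n + n * m.gcdB n) = x := by
      rw [← h2]
      simp
    rw [zpow_add, zpow_mul, zpow_mul, zpow_natCast, zpow_natCast, hn, one_zpow, mul_one] at h4
    exact h4.symm
  rw [h3]
  exact zpow_mem hm _

theorem card_sup_Lc {H Y : Subgroup G} (hYH : Y ≤ H) :
    ∃ m, Nat.card (Y ⊔ Lc H : Subgroup G) = Nat.card (Lc H) * m ∧ m ∣ Nat.card Y := by
  set Y' := Y.subgroupOf H with hY'
  set O := pPrimeCore 3 ↥H with hO
  have e : Y ⊔ Lc H = (Y' ⊔ O).map H.subtype := by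
    rw [Subgroup.map_sup, hY', Subgroup.map_subgroupOf_eq_of_le hYH]
    rfl
  have c1 : Nat.card (Y ⊔ Lc H : Subgroup G) = Nat.card (Y' ⊔ O : Subgroup H) := by
    rw [e]
    exact Nat.card_congr (Subgroup.equivMapOfInjective _ _ H.subtype_injective).symm.toEquiv
  have c2 : Nat.card (Y' : Subgroup H) = Nat.card Y :=
    Nat.card_congr (Subgroup.subgroupOfEquivOfLe hYH).toEquiv
  refine ⟨O.relIndex Y', ?_, ?_⟩
  · rw [c1, card_Lc, ← Subgroup.relIndex_sup_right Y' O, Subgroup.relIndex]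
    have h3 := Subgroup.card_mul_index (O.subgroupOf (Y' ⊔ O))
    have h4 : Nat.card (O.subgroupOf (Y' ⊔ O)) = Nat.card O :=
      Nat.card_congr (Subgroup.subgroupOfEquivOfLe le_sup_right).toEquiv
    rw [h4] at h3
    exact h3.symm
  · rw [← c2]
    exact Subgroup.relIndex_dvd_card _ _

theorem conj_sup {A B : Subgroup G} {g : G} (hA : ∀ x ∈ A, g * x * g⁻¹ ∈ A) (hB : ∀ x ∈ B, g * x * g⁻¹ ∈ B) :
    ∀ x ∈ A ⊔ B, g * x * g⁻¹ ∈ A ⊔ B := by
  intro x hx
  have h1 : (A ⊔ B).map (MulAut.conj g).toMonoidHom ≤ A ⊔ B := by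
    rw [Subgroup.map_sup]
    apply sup_le_sup
    · rintro _ ⟨y, hy, rfl⟩
      exact hA y hy
    · rintro _ ⟨y, hy, rfl⟩
      exact hB y hy
  exact h1 ⟨x, hx, rfl⟩

theorem sup_ainv {H Y : Subgroup G} (ha : a ∈ H) (hY : AInv a Y) (hYH : Y ≤ H) : AInv a (Y ⊔ Lc H) := by
  refine ⟨conj_sup hY.inv (Lc_ainv ha).inv, ?_⟩
  obtain ⟨m, hm, hd⟩ := card_sup_Lc hYH
  rw [hm]
  intro h3
  rcases (Nat.Prime.dvd_mul Nat.prime_three).1 h3 with h4 | h4
  · exact Lc_nd H h4
  · exact hY.nd (h4.trans hd)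

theorem sup_le_H {H Y : Subgroup G} (hYH : Y ≤ H) : Y ⊔ Lc H ≤ H := sup_le hYH (Lc_le H)

section Simple

variable [IsSimpleGroup G] (IH : IHyp G) (S : Setup a t)
include IH S

/-- Control by `N` of the normalizer of its `2`-part. -/
theorem ctl_two {N : Subgroup G} (hN : IsMaxA a N) (hne : rP 2 N ≠ ⊥) : Ctl S (rP 2 N) N hN.ainv := by
  haveI : Fact (Nat.Prime 2) := ⟨Nat.prime_two⟩
  have hA := rP_ainv S.h 2 hN.ainv
  have hnil := hN.ainv.isNilpotent S.h
  have ha : a ∈ nz (rP 2 N) := mem_nz_of hA.inv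
  have hle : N ≤ nz (rP 2 N) := by
    intro n hn
    apply mem_nz_of
    apply rP_conj 2 hnil
    intro x hx
    exact N.mul_mem (N.mul_mem hn hx) (N.inv_mem hn)
  have hD : rP 2 N ≤ Lc (nz (rP 2 N)) :=
    le_Lc le_normalizer (fun h hh d hd => nz_conj hh hd) hA.nd
  rcases local_dich S (nz (rP 2 N)) ha with h1 | ⟨h1, h2, t', St'⟩
  · exact Ctl.of_eq S hN hle ha h1
  · exfalso
    have hL : Lc (nz (rP 2 N)) ≠ ⊥ := fun h3 => hne (le_bot_iff.mp (h3 ▸ hD))
    obtain ⟨hc, h4⟩ := d3_num ha (fun hh => IH _ (nz_ne_top hne (ne_top_of_ainv S hA)) _ hh) S.h h1 h2 hL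
    obtain ⟨Y, hY', hlt, -⟩ := d3_four S ha h1 h2 t' St'
    set H := nz (rP 2 N) with hH
    have hY := sup_ainv ha hN.ainv hle
    have h5 : N ⊔ Lc H = N := hN.eq_of_le hY le_sup_left
    have h6 : Lc H ≤ N := by
      rw [← h5]
      exact le_sup_right
    have h7 : Lc H ≤ rP 2 N := le_rP 2 hnil h4 h6
    have h8 : Lc H = rP 2 N := le_antisymm h7 hD
    -- the index
    have h9 : Nat.card N ∣ Nat.card H := Subgroup.card_dvd_of_le hle
    have h10 : Nat.card (Lc H) * ordCompl[2] (Nat.card N) = Nat.card N := by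
      rw [h8, card_rP 2 hnil]
      exact Nat.ordProj_mul_ordCompl_eq_self (Nat.card N) 2
    have hLpos : 0 < Nat.card (Lc H) := Nat.card_pos
    have h11 : ordCompl[2] (Nat.card N) ∣ 60 := by
      have h9' : Nat.card (Lc H) * ordCompl[2] (Nat.card N) ∣ Nat.card (Lc H) * 60 := by
        rw [h10, mul_comm, ← hc]
        exact h9
      exact Nat.dvd_of_mul_dvd_mul_left hLpos h9'
    have h12 := odd_part_mod3 S.h hN.ainv
    have h13 : ¬ 2 ∣ ordCompl[2] (Nat.card N) := Nat.not_dvd_ordCompl Nat.prime_two Nat.card_pos.ne'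
    have haux : ∀ o : ℕ, o ∣ 60 → ¬ 2 ∣ o → o % 3 = 1 → o = 1 := by
      intro o h1 h2 h3
      have h15 : o ≤ 60 := Nat.le_of_dvd (by norm_num) h1
      interval_cases o <;> omega
    have h14 : ordCompl[2] (Nat.card N) = 1 := haux _ h11 h13 h12
    rw [h14, mul_one] at h10
    have h16 : N = Lc H := (Subgroup.eq_of_le_of_card_ge h6 (by rw [h10])).symm
    rw [← h16] at hlt
    exact absurd (hN.max Y hY' hlt.le) (not_le_of_gt hlt)

end Simple

section Max

/-- The part of a maximal subgroup is a maximal `r`-subgroup, provided its normalizer controls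
`r`-elements. -/
theorem pmax {N : Subgroup G} (S : Setup a t) (hN : AInv a N) {r : ℕ} [hr : Fact r.Prime]
    (hX : ∀ x : G, (∃ k, x ^ r ^ k = 1) → x ∈ nz (rP r N) → x ∈ N) {P : Subgroup G}
    (hP : IsPGroup r P) (hle : rP r N ≤ P) : P = rP r N := by
  by_contra hne
  have hlt : rP r N < P := lt_of_le_of_ne hle (Ne.symm hne)
  -- normalizer growth
  haveI : Group.IsNilpotent P := hP.isNilpotent
  set D := (rP r N).subgroupOf P with hD
  have hDtop : D ≠ ⊤ := by
    intro h1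
    apply hne
    apply le_antisymm _ hle
    intro x hx
    have : (⟨x, hx⟩ : P) ∈ D := by rw [h1]; trivial
    exact (Subgroup.mem_subgroupOf).1 this
  have hcond := Group.normalizerCondition_of_isNilpotent (G := P) (H := D) (lt_top_iff_ne_top.2 hDtop)
  obtain ⟨x, hx1, hx2⟩ := SetLike.exists_of_lt hcond
  have hx3 : (x : G) ∈ nz (rP r N) := by
    apply mem_nz_of
    intro d hd
    have hdP : d ∈ P := hle hd
    have h1 : (⟨d, hdP⟩ : P) ∈ D := (Subgroup.mem_subgroupOf).2 hd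
    have h2 := (Subgroup.mem_normalizer_iff.mp hx1 _).1 h1
    exact (Subgroup.mem_subgroupOf).1 h2
  obtain ⟨k, hk⟩ := hP x
  have hk' : (x : G) ^ r ^ k = 1 := by simpa using congrArg Subtype.val hk
  have h3 := hX x ⟨k, hk'⟩ hx3
  have h4 := mem_rP_of_pow r (hN.isNilpotent S.h) h3 hk'
  exact hx2 ((Subgroup.mem_subgroupOf).2 h4)

/-- Elements of the normalizer in the situation of control. -/
theorem cube_or_six (S : Setup a t) {D N : Subgroup G} (hN : AInv a N) (hC : Ctl S D N hN)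
    (ha : a ∈ nz D) {x : G} (hx : x ∈ nz D) : x ^ 6 ∈ N := by
  have hMle : M S.h hN ≤ nz D := by
    intro y hy
    obtain ⟨l, hl, k, rfl⟩ := (mem_M S.h hN).1 hy
    exact (nz D).mul_mem (hC.le hl) (zpow_mem ha k)
  have hcube : ∀ y ∈ M S.h hN, y ^ 3 ∈ N := by
    intro y hy
    have := M_cube S.h hN hy
    rwa [pow_succ, pow_two]
  rcases hC.ty x hx with h1 | h1
  · have := hcube x h1
    have h2 : x ^ 6 = (x ^ 3) ^ 2 := by group
    rw [h2]
    exact pow_mem this 2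
  · have htnz : t ∈ nz D := by
      have h3 : t = x⁻¹ * (x * t) := by group
      rw [h3]
      exact (nz D).mul_mem ((nz D).inv_mem hx) (hMle h1)
    have h2 := M_conj_t S hN (hC.norm t htnz) h1
    have h3 : (x * t) * (t * (x * t) * t⁻¹) = x ^ 2 := by
      have h4 := S.sq
      calc (x * t) * (t * (x * t) * t⁻¹) = x * (t * t) * x * (t * t⁻¹) := by group
        _ = x ^ 2 := by rw [h4, pow_two]; group
    have h5 : x ^ 2 ∈ M S.h hN := by
      rw [← h3]
      exact (M S.h hN).mul_mem h1 h2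
    have h6 := hcube _ h5
    have h7 : x ^ 6 = (x ^ 2) ^ 3 := by group
    rw [h7]
    exact h6

/-- Elements of the normalizer, when `t` does not normalize. -/
theorem cube_of_not (S : Setup a t) {D N : Subgroup G} (hN : AInv a N) (hC : Ctl S D N hN)
    (ha : a ∈ nz D) (ht : t ∉ nz N) {x : G} (hx : x ∈ nz D) : x ∈ M S.h hN := by
  have hMle : M S.h hN ≤ nz D := by
    intro y hy
    obtain ⟨l, hl, k, rfl⟩ := (mem_M S.h hN).1 hy
    exact (nz D).mul_mem (hC.le hl) (zpow_mem ha k)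
  rcases hC.ty x hx with h1 | h1
  · exact h1
  · exfalso
    have htnz : t ∈ nz D := by
      have h3 : t = x⁻¹ * (x * t) := by group
      rw [h3]
      exact (nz D).mul_mem ((nz D).inv_mem hx) (hMle h1)
    exact ht (mem_nz_of (hC.norm t htnz))

theorem IsMaxA.cj_t (S : Setup a t) {N : Subgroup G} (hN : IsMaxA a N) : IsMaxA a (cj t N) := by
  have hts := S.sq
  have hti : t⁻¹ = t := S.inv
  have haux : ∀ {L : Subgroup G}, AInv a L → AInv a (cj t L) := by
    intro L hL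
    refine ⟨?_, by rw [card_cj]; exact hL.nd⟩
    intro x hx
    rw [mem_cj] at hx ⊢
    have h1 := hL.inv' S.h hx
    have h2 : t⁻¹ * (a * x * a⁻¹) * t = a⁻¹ * (t⁻¹ * x * t) * a := by
      rw [hti]
      have e1 : t * a = a⁻¹ * t := S.ta
      have e2 : a⁻¹ * t = t * a := e1.symm
      have e3 : t * a⁻¹ = a * t := S.tai
      have e4 : a * t = t * a⁻¹ := e3.symm
      calc t * (a * x * a⁻¹) * t = (t * a) * x * (a⁻¹ * t) := by group
        _ = (a⁻¹ * t) * x * (t * a) := by rw [e1, e2]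
        _ = _ := by group
    rw [h2]
    exact h1
  have hinvol : ∀ L : Subgroup G, cj t (cj t L) = L := by
    intro L
    rw [← cj_mul, hts, cj_one]
  refine ⟨haux hN.ainv, fun N' hN' hle => ?_⟩
  have h1 : N ≤ cj t N' := by
    rw [← hinvol N]
    intro x hx
    rw [mem_cj] at hx ⊢
    exact hle hx
  have h2 := hN.max _ (haux hN') h1
  intro x hx
  rw [mem_cj]
  have h3 := h2 (conj_mem_cj (g := t) hx)
  rw [hti] at h3 ⊢
  exact h3

/-- Conjugate controlled subgroups. -/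
theorem eq_or_cj_of_conj (S : Setup a t) {N N' D D' : Subgroup G} (hN : AInv a N) (hN' : AInv a N')
    (hC : Ctl S D N hN) (hC' : Ctl S D' N' hN') (ha : a ∈ nz D) (ha' : a ∈ nz D') {g : G}
    (hg : D' = cj g D) : N' = N ∨ N' = cj t N := by
  have := cj_eq_of_Ty S hN hN' hC.le hC'.le ha ha' hC.norm hC'.norm hC.ty hC'.ty (g := g) (by
    intro x
    rw [hg]
    exact mem_nz_cj)
  exact this.2

end Max

section Syl

theorem dvd_card_of_ne_bot {r : ℕ} [hr : Fact r.Prime] {N : Subgroup G} (hne : rP r N ≠ ⊥) : r ∣ Nat.card N := by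
  have h1 : Nat.card (rP r N) ∣ Nat.card N := Subgroup.card_dvd_of_le (rP_le r N)
  obtain ⟨k, hk⟩ := IsPGroup.iff_card.1 (rP_pgroup r N)
  rcases Nat.eq_zero_or_pos k with rfl | h2
  · exfalso
    apply hne
    rw [pow_zero] at hk
    exact Subgroup.card_eq_one.mp hk
  · rw [hk] at h1
    exact (dvd_pow_self r h2.ne').trans h1

theorem ne_bot_of_dvd {r : ℕ} [hr : Fact r.Prime] {N : Subgroup G} (hnil : Group.IsNilpotent N)
    (hd : r ∣ Nat.card N) : rP r N ≠ ⊥ := by
  intro h1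
  have h2 := card_rP r hnil
  rw [h1, Subgroup.card_bot] at h2
  have h3 : (Nat.card N).factorization r ≠ 0 := by
    have := (hr.out.dvd_iff_one_le_factorization Nat.card_pos.ne').1 hd
    omega
  have h4 : r ^ (Nat.card N).factorization r ≠ 1 := by
    apply Nat.ne_of_gt
    exact Nat.one_lt_pow h3 hr.out.one_lt
  exact h4 h2.symm

/-- Maximal `r`-subgroups are conjugate. -/
theorem conj_of_max {r : ℕ} [hr : Fact r.Prime] {D D' : Subgroup G} (hD : IsPGroup r D) (hD' : IsPGroup r D')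
    (hm : ∀ {P : Subgroup G}, IsPGroup r P → D ≤ P → P = D)
    (hm' : ∀ {P : Subgroup G}, IsPGroup r P → D' ≤ P → P = D') : ∃ g : G, D' = cj g D := by
  let P : Sylow r G := ⟨D, hD, fun {Q} hQ hle => hm hQ hle⟩
  let P' : Sylow r G := ⟨D', hD', fun {Q} hQ hle => hm' hQ hle⟩
  obtain ⟨g, hg⟩ := MulAction.exists_smul_eq G P P'
  refine ⟨g, ?_⟩
  have h1 : (P' : Subgroup G) = D' := rfl
  rw [← h1, ← hg, Sylow.coe_subgroup_smul]
  ext x
  rw [Subgroup.mem_pointwise_smul_iff_inv_smul_mem, mem_cj]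
  simp [MulAut.smul_def, MulAut.conj_apply]
  rfl

theorem card_of_max {r : ℕ} [hr : Fact r.Prime] {D : Subgroup G} (hD : IsPGroup r D)
    (hm : ∀ {P : Subgroup G}, IsPGroup r P → D ≤ P → P = D) :
    Nat.card D = r ^ (Nat.card G).factorization r := by
  let P : Sylow r G := ⟨D, hD, fun {Q} hQ hle => hm hQ hle⟩
  exact P.card_eq_multiplicity

variable [IsSimpleGroup G] (IH : IHyp G) (S : Setup a t)
include IH S

/-- The odd part of a maximal subgroup is a maximal `r`-subgroup. -/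
theorem pmax_odd {N : Subgroup G} (hN : IsMaxA a N) {r : ℕ} [hr : Fact r.Prime] (hr2 : r ≠ 2)
    (hne : rP r N ≠ ⊥) {P : Subgroup G} (hP : IsPGroup r P) (hle : rP r N ≤ P) : P = rP r N := by
  have hA := rP_ainv S.h r hN.ainv
  have ha : a ∈ nz (rP r N) := mem_nz_of hA.inv
  have hC := ctl_odd IH S hr2 hN hne
  have hr3 : r ≠ 3 := by
    rintro rfl
    exact hN.ainv.nd (dvd_card_of_ne_bot hne)
  refine pmax S hN.ainv ?_ hP hle
  rintro x ⟨k, hk⟩ hx
  have h6 := cube_or_six S hN.ainv hC ha hx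
  refine mem_of_pow_mem_coprime h6 hk ?_
  apply Nat.Coprime.pow_right
  have : Nat.Coprime 2 r := (Nat.coprime_primes Nat.prime_two hr.out).2 (Ne.symm hr2)
  have h3 : Nat.Coprime 3 r := (Nat.coprime_primes Nat.prime_three hr.out).2 (Ne.symm hr3)
  have h6' : (6 : ℕ) = 2 * 3 := by norm_num
  rw [h6']
  exact Nat.Coprime.mul_left this h3

/-- The even part of a maximal subgroup which is not `t`-invariant is a maximal `2`-subgroup. -/
theorem pmax_two {N : Subgroup G} (hN : IsMaxA a N) (ht : t ∉ nz N)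
    (hne : rP 2 N ≠ ⊥) {P : Subgroup G} [Fact (Nat.Prime 2)] (hP : IsPGroup 2 P) (hle : rP 2 N ≤ P) : P = rP 2 N := by
  have hA := rP_ainv S.h 2 hN.ainv
  have ha : a ∈ nz (rP 2 N) := mem_nz_of hA.inv
  have hC := ctl_two IH S hN hne
  refine pmax S hN.ainv ?_ hP hle
  rintro x ⟨k, hk⟩ hx
  have h1 := cube_of_not S hN.ainv hC ha ht hx
  have h2 := M_cube S.h hN.ainv h1
  have h3 : x ^ 3 ∈ N := by
    rw [pow_succ, pow_two]
    exact h2
  refine mem_of_pow_mem_coprime h3 hk ?_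
  apply Nat.Coprime.pow_right
  norm_num

/-- A prime dividing two maximal subgroups: they agree up to `t`. -/
theorem eq_or_cj_odd {N N' : Subgroup G} (hN : IsMaxA a N) (hN' : IsMaxA a N') {r : ℕ} [hr : Fact r.Prime]
    (hr2 : r ≠ 2) (hd : r ∣ Nat.card N) (hd' : r ∣ Nat.card N') : N' = N ∨ N' = cj t N := by
  have hne := ne_bot_of_dvd (hN.ainv.isNilpotent S.h) hd
  have hne' := ne_bot_of_dvd (hN'.ainv.isNilpotent S.h) hd'
  obtain ⟨g, hg⟩ := conj_of_max (rP_pgroup r N) (rP_pgroup r N') (fun hP hle => pmax_odd IH S hN hr2 hne hP hle)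
    (fun hP hle => pmax_odd IH S hN' hr2 hne' hP hle)
  exact eq_or_cj_of_conj S hN.ainv hN'.ainv (ctl_odd IH S hr2 hN hne) (ctl_odd IH S hr2 hN' hne')
    (mem_nz_of (rP_ainv S.h r hN.ainv).inv) (mem_nz_of (rP_ainv S.h r hN'.ainv).inv) hg

/-- Two even maximal subgroups which are not `t`-invariant agree up to `t`. -/
theorem eq_or_cj_two {N N' : Subgroup G} (hN : IsMaxA a N) (hN' : IsMaxA a N') (ht : t ∉ nz N) (ht' : t ∉ nz N')
    (hd : 2 ∣ Nat.card N) (hd' : 2 ∣ Nat.card N') : N' = N ∨ N' = cj t N := by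
  haveI : Fact (Nat.Prime 2) := ⟨Nat.prime_two⟩
  have hne := ne_bot_of_dvd (hN.ainv.isNilpotent S.h) hd
  have hne' := ne_bot_of_dvd (hN'.ainv.isNilpotent S.h) hd'
  obtain ⟨g, hg⟩ := conj_of_max (rP_pgroup 2 N) (rP_pgroup 2 N') (fun hP hle => pmax_two IH S hN ht hne hP hle)
    (fun hP hle => pmax_two IH S hN' ht' hne' hP hle)
  exact eq_or_cj_of_conj S hN.ainv hN'.ainv (ctl_two IH S hN hne) (ctl_two IH S hN' hne')
    (mem_nz_of (rP_ainv S.h 2 hN.ainv).inv) (mem_nz_of (rP_ainv S.h 2 hN'.ainv).inv) hg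

/-- The `2`-part of a maximal subgroup which is not `t`-invariant is the full `2`-part. -/
theorem card_two_of_not {N : Subgroup G} (hN : IsMaxA a N) (ht : t ∉ nz N) (hd : 2 ∣ Nat.card N) :
    (Nat.card N).factorization 2 = (Nat.card G).factorization 2 := by
  haveI : Fact (Nat.Prime 2) := ⟨Nat.prime_two⟩
  have hne := ne_bot_of_dvd (hN.ainv.isNilpotent S.h) hd
  have h1 := card_of_max (rP_pgroup 2 N) (fun hP hle => pmax_two IH S hN ht hne hP hle)
  rw [card_rP 2 (hN.ainv.isNilpotent S.h)] at h1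
  exact Nat.pow_right_injective (le_refl 2) h1

end Syl

end Cfsg.Agent.Lib.FT3Syl
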