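import Mathlib
import Cfsg.Agent.Lib.FT3Syl

/-!
# Maximal invariant subgroups of even order
-/

set_option autoImplicit false
set_option linter.style.haveILetI false
set_option linter.unusedSectionVars false
set_option linter.unusedVariables false

namespace Cfsg.Agent.Lib.FT3Even

open Subgroup Cfsg Cfsg.Agent.Lib.SelfCent Cfsg.Agent.Lib.PCore Cfsg.Agent.Lib.SelfCent2.Hyp'
open Cfsg.Agent.Lib.FT3Basic Cfsg.Agent.Lib.FT3Char Cfsg.Agent.Lib.FT3Coset Cfsg.Agent.Lib.FT3Dich
open Cfsg.Agent.Lib.FT3Part Cfsg.Agent.Lib.FT3Four Cfsg.Agent.Lib.FT3Local Cfsg.Agent.Lib.FT3Max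
open Cfsg.Agent.Lib.FT3Syl

universe u

variable {G : Type u} [Group G] [Fintype G] {a t : G}

/-- The order of the centralizer of `t`. -/
noncomputable abbrev cc (t : G) : ℕ := Nat.card (centralizer ({t} : Set G))

theorem card_centralizer_conj {z : G} (hz : IsConj t z) : cc z = cc t := by
  obtain ⟨g, rfl⟩ := isConj_iff.mp hz
  have h1 : centralizer ({g * t * g⁻¹} : Set G) = cj g (centralizer ({t} : Set G)) := by
    ext x
    rw [mem_cj, mem_centralizer_singleton_iff, mem_centralizer_singleton_iff]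
    constructor
    · intro hx
      calc g⁻¹ * x * g * t = g⁻¹ * (x * (g * t * g⁻¹)) * g := by group
        _ = g⁻¹ * (g * t * g⁻¹ * x) * g := by rw [hx]
        _ = _ := by group
    · intro hx
      calc x * (g * t * g⁻¹) = g * ((g⁻¹ * x * g) * t) * g⁻¹ := by group
        _ = g * (t * (g⁻¹ * x * g)) * g⁻¹ := by rw [hx]
        _ = _ := by group
  unfold cc
  rw [h1, card_cj]

variable (S : Setup a t)
include S

theorem not_dvd_cc : ¬ 3 ∣ cc t := by
  intro h3
  obtain ⟨y, hy⟩ := exists_prime_orderOf_dvd_card' (p := 3) (G := centralizer ({t} : Set G)) h3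
  have hy1 : orderOf (y : G) = 3 := by rw [← hy, Subgroup.orderOf_coe]
  have hy2 : Hyp 3 (y : G) := hyp_of_order3 S.h hy1
  have h1 : (y : G) * t = t * y := mem_centralizer_singleton_iff.mp y.2
  have h2 : t ∈ zpowers (y : G) := hy2.mem_zpowers_of_commute h1.symm
  have h3' := orderOf_dvd_three_of_mem hy2 h2
  rw [S.ht] at h3'
  omega

theorem cc_eq {w : G} (hI : ∀ w : G, orderOf w = 2 → IsConj t w) (hw : orderOf w = 2) : cc w = cc t :=
  card_centralizer_conj (hI w hw)

/-- The central involutions. -/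
noncomputable def Tz (N : Subgroup G) : Finset G := by
  classical
  exact Finset.univ.filter (fun z : G => orderOf z = 2 ∧ z ∈ N ∧ ∀ n ∈ N, n * z = z * n)

omit S in
theorem mem_Tz {N : Subgroup G} {z : G} : z ∈ Tz N ↔ orderOf z = 2 ∧ z ∈ N ∧ ∀ n ∈ N, n * z = z * n := by
  classical
  simp [Tz]

theorem exists_Tz {N : Subgroup G} (hN : AInv a N) (hd : 2 ∣ Nat.card N) : ∃ z, z ∈ Tz N := by
  classical
  haveI : Fact (Nat.Prime 2) := ⟨Nat.prime_two⟩
  haveI hnil := hN.isNilpotent S.h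
  have hne := ne_bot_of_dvd hnil hd
  have hne2 : pCore 2 ↥N ≠ ⊥ := by
    intro h1
    apply hne
    rw [rP, h1, Subgroup.map_bot]
  haveI : (pCore 2 ↥N).Normal := pCore_normal 2 ↥N
  have h1 := Cfsg.Agent.Lib.BrolineGT.inf_center_ne_bot (pCore 2 ↥N) hne2
  have hp : IsPGroup 2 ((pCore 2 ↥N) ⊓ center ↥N : Subgroup N) :=
    (isPGroup_pCore 2 (G := ↥N)).to_le inf_le_left
  obtain ⟨k, hk⟩ := IsPGroup.iff_card.1 hp
  have hk0 : k ≠ 0 := by
    rintro rfl
    apply h1
    rw [pow_zero] at hk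
    exact Subgroup.card_eq_one.mp hk
  have hdvd : 2 ∣ Nat.card ((pCore 2 ↥N) ⊓ center ↥N : Subgroup N) := by
    rw [hk]
    exact dvd_pow_self 2 hk0
  obtain ⟨x, hx⟩ := exists_prime_orderOf_dvd_card' (p := 2) (G := ((pCore 2 ↥N) ⊓ center ↥N : Subgroup N)) hdvd
  refine ⟨((x : N) : G), mem_Tz.2 ⟨?_, (x : N).2, ?_⟩⟩
  · rw [Subgroup.orderOf_coe, Subgroup.orderOf_coe]
    exact hx
  · intro n hn
    have h2 := (Subgroup.mem_center_iff.mp (Subgroup.mem_inf.mp x.2).2) ⟨n, hn⟩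
    exact congrArg Subtype.val h2

theorem Tz_conj {N : Subgroup G} (hN : AInv a N) {z : G} (hz : z ∈ Tz N) : a * z * a⁻¹ ∈ Tz N := by
  obtain ⟨h1, h2, h3⟩ := mem_Tz.1 hz
  refine mem_Tz.2 ⟨?_, hN.inv z h2, ?_⟩
  · have := (MulAut.conj a).orderOf_eq z
    rw [MulAut.conj_apply] at this
    rw [this, h1]
  · intro n hn
    have h4 := h3 _ (hN.inv' S.h hn)
    calc n * (a * z * a⁻¹) = a * ((a⁻¹ * n * a) * z) * a⁻¹ := by group
      _ = a * (z * (a⁻¹ * n * a)) * a⁻¹ := by rw [h4]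
      _ = _ := by group

theorem three_le_Tz {N : Subgroup G} (hN : AInv a N) (hd : 2 ∣ Nat.card N) : 3 ≤ (Tz N).card := by
  classical
  obtain ⟨z, hz⟩ := exists_Tz S hN hd
  obtain ⟨h1, h2, h3⟩ := mem_Tz.1 hz
  have hz1 : z ≠ 1 := by
    rintro rfl
    simp at h1
  set z₁ := a * z * a⁻¹ with hz₁
  set z₂ := a * z₁ * a⁻¹ with hz₂
  have hm1 : z₁ ∈ Tz N := Tz_conj S hN hz
  have hm2 : z₂ ∈ Tz N := Tz_conj S hN hm1
  have h12 : z ≠ z₁ := by
    intro he
    exact hz1 (hN.eq_one_of_fix S.h h2 he.symm)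
  have hz₁1 : z₁ ≠ 1 := by
    intro he
    apply hz1
    have : a⁻¹ * z₁ * a = z := by rw [hz₁]; group
    rw [← this, he]
    group
  have h23 : z₁ ≠ z₂ := by
    intro he
    exact hz₁1 (hN.eq_one_of_fix S.h (hN.inv z h2) he.symm)
  have h13 : z ≠ z₂ := by
    intro he
    apply h12
    have h4 := a_mul3 S.h
    have h5 : a * z₂ * a⁻¹ = z := by
      rw [hz₂, hz₁]
      calc a * (a * (a * z * a⁻¹) * a⁻¹) * a⁻¹ = (a * a * a) * z * (a * a * a)⁻¹ := by group
        _ = z := by rw [h4]; group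
    rw [← he] at h5
    exact h5.symm
  have hsub : ({z, z₁, z₂} : Finset G) ⊆ Tz N := by
    intro x hx
    simp only [Finset.mem_insert, Finset.mem_singleton] at hx
    rcases hx with rfl | rfl | rfl
    · exact hz
    · exact hm1
    · exact hm2
  have hc : ({z, z₁, z₂} : Finset G).card = 3 := Finset.card_eq_three.2 ⟨z, z₁, z₂, h12, h13, h23, rfl⟩
  rw [← hc]
  exact Finset.card_le_card hsub

/-- An involution of an invariant subgroup is counted in `Ia`. -/
theorem order_mul_a {N : Subgroup G} (hN : AInv a N) {z : G} (hz : orderOf z = 2) (hzN : z ∈ N) :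
    orderOf (z * a) = 3 := by
  haveI : Fact (Nat.Prime 3) := ⟨Nat.prime_three⟩
  apply orderOf_eq_prime
  · have h1 := hN.norm S.h hzN
    have h4 := a_mul3 S.h
    have h5 : (z * a) ^ 3 = (z * (a * z * a⁻¹) * (a * (a * z * a⁻¹) * a⁻¹)) * (a * a * a) := by
      rw [pow_succ, pow_two]
      group
    rw [h5, h1, h4, one_mul]
  · intro h1
    have h2 : z = a⁻¹ := eq_inv_of_mul_eq_one_left h1
    have h3 : orderOf a⁻¹ = 3 := by rw [orderOf_inv, S.h.hx]
    rw [h2, h3] at hz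
    omega

theorem Tz_subset {N : Subgroup G} (hN : AInv a N) : (Tz N : Finset G) ⊆ (by
    classical
    exact Finset.univ.filter (fun p : G => orderOf p = 2 ∧ orderOf (p * a) = 3)) := by
  classical
  intro z hz
  obtain ⟨h1, h2, h3⟩ := mem_Tz.1 hz
  simp only [Finset.mem_filter, Finset.mem_univ, true_and]
  exact ⟨h1, order_mul_a S hN h1 h2⟩

/-- The order of an invariant subgroup of even order divides `c`. -/
theorem card_dvd_cc (hI : ∀ w : G, orderOf w = 2 → IsConj t w) {N : Subgroup G} (hN : AInv a N)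
    (hd : 2 ∣ Nat.card N) : Nat.card N ∣ cc t := by
  obtain ⟨z, hz⟩ := exists_Tz S hN hd
  obtain ⟨h1, h2, h3⟩ := mem_Tz.1 hz
  rw [← cc_eq S hI h1]
  apply Subgroup.card_dvd_of_le
  intro n hn
  exact mem_centralizer_singleton_iff.2 (h3 n hn)

/-- Central involutions of distinct maximal subgroups are distinct. -/
theorem Tz_disjoint (hI : ∀ w : G, orderOf w = 2 → IsConj t w) {N N' : Subgroup G} (hN : IsMaxA a N)
    (hN' : IsMaxA a N') (hne : N ≠ N') : Disjoint (Tz N) (Tz N') := by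
  classical
  rw [Finset.disjoint_left]
  intro z hz hz'
  obtain ⟨h1, h2, h3⟩ := mem_Tz.1 hz
  obtain ⟨h1', h2', h3'⟩ := mem_Tz.1 hz'
  apply hne
  set z₁ := a * z * a⁻¹ with hz₁
  set z₂ := a * z₁ * a⁻¹ with hz₂
  have hz3 : a * z₂ * a⁻¹ = z := by
    have h4 := a_mul3 S.h
    rw [hz₂, hz₁]
    calc a * (a * (a * z * a⁻¹) * a⁻¹) * a⁻¹ = (a * a * a) * z * (a * a * a)⁻¹ := by group
      _ = z := by rw [h4]; group
  let K : Subgroup G := centralizer ({z, z₁, z₂} : Set G)
  have hmemK : ∀ x, x ∈ K ↔ x * z = z * x ∧ x * z₁ = z₁ * x ∧ x * z₂ = z₂ * x := by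
    intro x
    simp only [K, mem_centralizer_iff, Set.mem_insert_iff, Set.mem_singleton_iff, forall_eq_or_imp, forall_eq]
    constructor
    · rintro ⟨h4, h5, h6⟩
      exact ⟨h4.symm, h5.symm, h6.symm⟩
    · rintro ⟨h4, h5, h6⟩
      exact ⟨h4.symm, h5.symm, h6.symm⟩
  have hKle : K ≤ centralizer ({z} : Set G) := by
    intro x hx
    exact mem_centralizer_singleton_iff.2 ((hmemK x).1 hx).1
  have hKA : AInv a K := by
    refine ⟨?_, ?_⟩
    · intro x hx
      obtain ⟨h4, h5, h6⟩ := (hmemK x).1 hx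
      refine (hmemK _).2 ⟨?_, ?_, ?_⟩
      · calc a * x * a⁻¹ * z = a * x * a⁻¹ * (a * z₂ * a⁻¹) := by rw [hz3]
          _ = a * (x * z₂) * a⁻¹ := by group
          _ = a * (z₂ * x) * a⁻¹ := by rw [h6]
          _ = (a * z₂ * a⁻¹) * (a * x * a⁻¹) := by group
          _ = _ := by rw [hz3]
      · calc a * x * a⁻¹ * z₁ = a * (x * z) * a⁻¹ := by rw [hz₁]; group
          _ = a * (z * x) * a⁻¹ := by rw [h4]
          _ = _ := by rw [hz₁]; group
      · calc a * x * a⁻¹ * z₂ = a * (x * z₁) * a⁻¹ := by rw [hz₂]; group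
          _ = a * (z₁ * x) * a⁻¹ := by rw [h5]
          _ = _ := by rw [hz₂]; group
    · intro h4
      apply not_dvd_cc S
      rw [← cc_eq S hI h1]
      exact h4.trans (Subgroup.card_dvd_of_le hKle)
  have hcomm : ∀ {M : Subgroup G}, AInv a M → z ∈ Tz M → M ≤ K := by
    intro M hM hzM
    intro n hn
    have hm1 := Tz_conj S hM hzM
    have hm2 := Tz_conj S hM hm1
    exact (hmemK n).2 ⟨(mem_Tz.1 hzM).2.2 n hn, (mem_Tz.1 hm1).2.2 n hn, (mem_Tz.1 hm2).2.2 n hn⟩
  have e1 := hN.eq_of_le hKA (hcomm hN.ainv hz)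
  have e2 := hN'.eq_of_le hKA (hcomm hN'.ainv hz')
  rw [← e1, e2]

/-- The number of even maximal subgroups. -/
theorem three_mul_le_Ia (hI : ∀ w : G, orderOf w = 2 → IsConj t w) {F : Finset (Subgroup G)}
    (hF : ∀ N ∈ F, IsMaxA a N ∧ 2 ∣ Nat.card N) : 3 * F.card ≤ Ia a := by
  classical
  have h1 : (F.biUnion Tz).card = ∑ N ∈ F, (Tz N).card := by
    apply Finset.card_biUnion
    intro N hN N' hN' hne
    exact Tz_disjoint S hI (hF N hN).1 (hF N' hN').1 hne
  have h2 : 3 * F.card ≤ ∑ N ∈ F, (Tz N).card := by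
    rw [mul_comm, ← smul_eq_mul]
    apply Finset.card_nsmul_le_sum
    intro N hN
    exact three_le_Tz S (hF N hN).1.ainv (hF N hN).2
  have h3 : (F.biUnion Tz).card ≤ Ia a := by
    unfold Ia
    apply Finset.card_le_card
    intro z hz
    obtain ⟨N, hN, hzN⟩ := Finset.mem_biUnion.1 hz
    have := Tz_subset S (hF N hN).1.ainv hzN
    convert this
  omega

/-- The order of a `t`-invariant invariant subgroup. -/
theorem two_mul_dvd {N : Subgroup G} (hN : AInv a N) (ht : t ∈ nz N) : 2 * Nat.card N ∣ Nat.card G := by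
  classical
  set H := nz N with hH
  set N' := N.subgroupOf H with hN'
  haveI hn : N'.Normal := by
    constructor
    intro x hx g
    rw [hN', Subgroup.mem_subgroupOf] at hx ⊢
    simpa using nz_conj g.2 hx
  have h1 : Nat.card N' = Nat.card N :=
    Nat.card_congr (Subgroup.subgroupOfEquivOfLe (le_normalizer)).toEquiv
  have h2 : Nat.card H = Nat.card (H ⧸ N') * Nat.card N' := Subgroup.card_eq_card_quotient_mul_card_subgroup N'
  haveI : Fact (Nat.Prime 2) := ⟨Nat.prime_two⟩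
  have h3 : orderOf ((⟨t, ht⟩ : H) : H ⧸ N') = 2 := by
    apply orderOf_eq_prime
    · rw [pow_two, ← QuotientGroup.mk_mul]
      have : (⟨t, ht⟩ : H) * ⟨t, ht⟩ = 1 := Subtype.ext S.sq
      rw [this]
      rfl
    · intro h4
      have h5 := (QuotientGroup.eq_one_iff _).mp h4
      rw [hN', Subgroup.mem_subgroupOf] at h5
      exact t_not_mem hN S h5
  have h4 : 2 ∣ Nat.card (H ⧸ N') := by
    rw [← h3]
    exact orderOf_dvd_natCard _
  have h5 : 2 * Nat.card N ∣ Nat.card H := by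
    rw [h2, h1]
    exact Nat.mul_dvd_mul_right h4 _
  exact h5.trans (Subgroup.card_subgroup_dvd_card H)

end Cfsg.Agent.Lib.FT3Even
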