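import Mathlib
import Cfsg.Agent.Lib.FT3Even

/-!
# The order of the fixed points of `t` on an invariant subgroup
-/

set_option autoImplicit false
set_option linter.style.haveILetI false
set_option linter.unusedSectionVars false
set_option linter.unusedVariables false

namespace Cfsg.Agent.Lib.FT3Sqrt

open Subgroup Cfsg Cfsg.Agent.Lib.SelfCent Cfsg.Agent.Lib.PCore Cfsg.Agent.Lib.SelfCent2.Hyp'
open Cfsg.Agent.Lib.FT3Basic Cfsg.Agent.Lib.FT3Char Cfsg.Agent.Lib.FT3Coset Cfsg.Agent.Lib.FT3Dich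
open Cfsg.Agent.Lib.FT3Part Cfsg.Agent.Lib.FT3Four Cfsg.Agent.Lib.FT3Local Cfsg.Agent.Lib.FT3Max
open Cfsg.Agent.Lib.FT3Syl Cfsg.Agent.Lib.FT3Even

universe u

variable {G : Type u} [Group G] [Finite G] {a t : G}

/-- The fixed points of `t` in `N`. -/
def Cn (t : G) (N : Subgroup G) : Subgroup G := N ⊓ centralizer ({t} : Set G)

theorem mem_Cn {N : Subgroup G} {x : G} : x ∈ Cn t N ↔ x ∈ N ∧ x * t = t * x := by
  rw [Cn, Subgroup.mem_inf, mem_centralizer_singleton_iff]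

variable (S : Setup a t) {N : Subgroup G} (hN : AInv a N)
include S hN

theorem Cn_inj {u : G} (hu : u ∈ Cn t N) (hv : a⁻¹ * u * a ∈ Cn t N) : u = 1 := by
  obtain ⟨h1, h2⟩ := mem_Cn.1 hu
  obtain ⟨h3, h4⟩ := mem_Cn.1 hv
  apply hN.eq_one_of_fix S.h h1
  -- `u` commutes with `t` and `a t a⁻¹ = t a`
  have h5 : u * (a * t * a⁻¹) = (a * t * a⁻¹) * u := by
    calc u * (a * t * a⁻¹) = a * ((a⁻¹ * u * a) * t) * a⁻¹ := by group
      _ = a * (t * (a⁻¹ * u * a)) * a⁻¹ := by rw [h4]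
      _ = _ := by group
  rw [S.conj1] at h5
  have h6 : u * a = a * u := by
    have h7 : t * (u * a) = t * (a * u) := by
      calc t * (u * a) = (t * u) * a := by group
        _ = (u * t) * a := by rw [h2]
        _ = u * (t * a) := by group
        _ = t * a * u := h5
        _ = t * (a * u) := by group
    exact mul_left_cancel h7
  calc a * u * a⁻¹ = u * a * a⁻¹ := by rw [h6]
    _ = u := by group

/-- `|C|² ≤ |N|`. -/
theorem card_sq_le : Nat.card (Cn t N) * Nat.card (Cn t N) ≤ Nat.card N := by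
  have hle : Cn t N ≤ N := inf_le_left
  let φ : (Cn t N) × (Cn t N) → N := fun p =>
    ⟨(p.1 : G) * (a * (p.2 : G) * a⁻¹), N.mul_mem (hle p.1.2) (hN.inv _ (hle p.2.2))⟩
  have hφ : Function.Injective φ := by
    rintro ⟨x₁, y₁⟩ ⟨x₂, y₂⟩ he
    have he' : (x₁ : G) * (a * (y₁ : G) * a⁻¹) = x₂ * (a * (y₂ : G) * a⁻¹) := congrArg Subtype.val he
    set u : G := (x₂ : G)⁻¹ * x₁ with hu
    set v : G := (y₂ : G) * (y₁ : G)⁻¹ with hv
    have hu1 : u ∈ Cn t N := (Cn t N).mul_mem ((Cn t N).inv_mem x₂.2) x₁.2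
    have hv1 : v ∈ Cn t N := (Cn t N).mul_mem y₂.2 ((Cn t N).inv_mem y₁.2)
    have huv : u = a * v * a⁻¹ := by
      rw [hu, hv]
      have h3 : (x₁ : G) = x₂ * (a * (y₂ : G) * a⁻¹) * (a * (y₁ : G) * a⁻¹)⁻¹ := by
        rw [← he']
        group
      rw [h3]
      group
    have hvu : a⁻¹ * u * a = v := by
      rw [huv]
      group
    have hu2 : u = 1 := Cn_inj S hN hu1 (by rw [hvu]; exact hv1)
    have hv2 : v = 1 := by
      rw [← hvu, hu2]
      group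
    have e1 : x₁ = x₂ := by
      apply Subtype.ext
      rw [hu, inv_mul_eq_one] at hu2
      exact hu2.symm
    have e2 : y₁ = y₂ := by
      apply Subtype.ext
      rw [hv, mul_inv_eq_one] at hv2
      exact hv2.symm
    rw [e1, e2]
  have := Nat.card_le_card_of_injective φ hφ
  rwa [Nat.card_prod] at this

variable (ht : ∀ n ∈ N, t * n * t⁻¹ ∈ N)
include ht

/-- The element attached to `k`. -/
theorem psi_mem {k : G} (hk : k ∈ N) (hkt : t * k * t⁻¹ = k⁻¹) :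
    (a * k * a⁻¹) * (a * (a * k * a⁻¹) * a⁻¹)⁻¹ ∈ Cn t N := by
  have h1 : a * k * a⁻¹ ∈ N := hN.inv k hk
  have h2 : a * (a * k * a⁻¹) * a⁻¹ ∈ N := hN.inv _ h1
  refine mem_Cn.2 ⟨N.mul_mem h1 (N.inv_mem h2), ?_⟩
  -- conjugating by `t`
  set v := a * k * a⁻¹ with hv
  set w := a * v * a⁻¹ with hw
  have hcomm : v * w = w * v := hN.comm S.h h1
  have hti : t⁻¹ = t := S.inv
  have e1 : t * a = a⁻¹ * t := S.ta
  have e2 : t * a⁻¹ = a * t := S.tai
  have hkt' : t * k = k⁻¹ * t := by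
    calc t * k = (t * k * t⁻¹) * t := by group
      _ = k⁻¹ * t := by rw [hkt]
  have ha3 : a * a * a = 1 := a_mul3 S.h
  have hainv2 := S.ainv2
  have hv2 : w = a⁻¹ * k * a := by
    rw [hw, hv]
    calc a * (a * k * a⁻¹) * a⁻¹ = (a * a) * k * (a⁻¹ * a⁻¹) := by group
      _ = a⁻¹ * k * a := by rw [hainv2, ← a_inv_eq S.h]
  have tv : t * v = w⁻¹ * t := by
    rw [hv, hv2]
    calc t * (a * k * a⁻¹) = (t * a) * k * a⁻¹ := by group
      _ = a⁻¹ * (t * k) * a⁻¹ := by rw [e1]; group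
      _ = a⁻¹ * k⁻¹ * (t * a⁻¹) := by rw [hkt']; group
      _ = a⁻¹ * k⁻¹ * (a * t) := by rw [e2]
      _ = _ := by group
  have tw : t * w = v⁻¹ * t := by
    rw [hv2, hv]
    calc t * (a⁻¹ * k * a) = (t * a⁻¹) * k * a := by group
      _ = a * (t * k) * a := by rw [e2]; group
      _ = a * k⁻¹ * (t * a) := by rw [hkt']; group
      _ = a * k⁻¹ * (a⁻¹ * t) := by rw [e1]
      _ = _ := by group
  have twi : t * w⁻¹ = v * t := by
    calc t * w⁻¹ = (t * w * t⁻¹)⁻¹ * t := by group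
      _ = (v⁻¹ * t * t⁻¹)⁻¹ * t := by rw [tw]
      _ = v * t := by group
  have hcomm' : w⁻¹ * v = v * w⁻¹ := by
    calc w⁻¹ * v = w⁻¹ * (v * w) * w⁻¹ := by group
      _ = w⁻¹ * (w * v) * w⁻¹ := by rw [hcomm]
      _ = v * w⁻¹ := by group
  calc v * w⁻¹ * t = (w⁻¹ * v) * t := by rw [hcomm']
    _ = w⁻¹ * (v * t) := by group
    _ = w⁻¹ * (t * w⁻¹) := by rw [twi]
    _ = (w⁻¹ * t) * w⁻¹ := by group
    _ = (t * v) * w⁻¹ := by rw [tv]
    _ = t * (v * w⁻¹) := by group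

omit ht in
theorem psi_inj {k k' : G} (hk : k ∈ N) (hk' : k' ∈ N)
    (he : (a * k * a⁻¹) * (a * (a * k * a⁻¹) * a⁻¹)⁻¹ = (a * k' * a⁻¹) * (a * (a * k' * a⁻¹) * a⁻¹)⁻¹) :
    k = k' := by
  have h1 : a * k * a⁻¹ ∈ N := hN.inv k hk
  have h1' : a * k' * a⁻¹ ∈ N := hN.inv k' hk'
  set v := a * k * a⁻¹ with hv
  set v' := a * k' * a⁻¹ with hv'
  set w := a * v * a⁻¹ with hw
  set w' := a * v' * a⁻¹ with hw'
  have hcomm : v * w = w * v := hN.comm S.h h1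
  have hcomm' : v' * w' = w' * v' := hN.comm S.h h1'
  have e1 : v * w⁻¹ = w⁻¹ * v := by
    calc v * w⁻¹ = w⁻¹ * (w * v) * w⁻¹ := by group
      _ = w⁻¹ * (v * w) * w⁻¹ := by rw [hcomm]
      _ = w⁻¹ * v := by group
  have e2 : w' * w⁻¹ = v' * v⁻¹ := by
    have h3 : w⁻¹ * v = v' * w'⁻¹ := by rw [← e1, he]
    have h4 : v' * w'⁻¹ = w'⁻¹ * v' := by
      calc v' * w'⁻¹ = w'⁻¹ * (w' * v') * w'⁻¹ := by group
        _ = w'⁻¹ * (v' * w') * w'⁻¹ := by rw [hcomm']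
        _ = w'⁻¹ * v' := by group
    rw [h4] at h3
    calc w' * w⁻¹ = w' * (w⁻¹ * v) * v⁻¹ := by group
      _ = w' * (w'⁻¹ * v') * v⁻¹ := by rw [h3]
      _ = v' * v⁻¹ := by group
  have e3 : a * (v' * v⁻¹) * a⁻¹ = v' * v⁻¹ := by
    have h5 : a * (v' * v⁻¹) * a⁻¹ = w' * w⁻¹ := by
      rw [hw, hw']
      group
    rw [h5, e2]
  have e4 := hN.eq_one_of_fix S.h (N.mul_mem h1' (N.inv_mem h1)) e3
  have e5 : v' = v := by
    rwa [mul_inv_eq_one] at e4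
  have e6 : k' = k := by
    have : a⁻¹ * v' * a = a⁻¹ * v * a := by rw [e5]
    rw [hv, hv'] at this
    simpa [mul_assoc] using this
  exact e6.symm

/-- `|N| ≤ |C|²`. -/
theorem le_card_sq : Nat.card N ≤ Nat.card (Cn t N) * Nat.card (Cn t N) := by
  have hti : t⁻¹ = t := S.inv
  have hsq : t * t = 1 := S.sq
  -- the twisted commutator
  have hkN : ∀ n : N, (n : G)⁻¹ * (t * n * t⁻¹) ∈ N := fun n => N.mul_mem (N.inv_mem n.2) (ht n n.2)
  have hkt : ∀ n : N, t * ((n : G)⁻¹ * (t * n * t⁻¹)) * t⁻¹ = ((n : G)⁻¹ * (t * n * t⁻¹))⁻¹ := by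
    intro n
    calc t * ((n : G)⁻¹ * (t * n * t⁻¹)) * t⁻¹ = t * (n : G)⁻¹ * t * n * (t⁻¹ * t⁻¹) := by group
      _ = t * (n : G)⁻¹ * t * n := by rw [hti, hsq, mul_one]
      _ = t * (n : G)⁻¹ * t⁻¹ * n := by rw [hti]
      _ = _ := by group
  let θ : N → Cn t N := fun n =>
    ⟨_, psi_mem S hN ht (hkN n) (hkt n)⟩
  have hfib : ∀ n m : N, θ n = θ m → (n : G) * (m : G)⁻¹ ∈ Cn t N := by
    intro n m he
    have h1 := congrArg Subtype.val he
    have h2 := psi_inj S hN (hkN n) (hkN m) h1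
    refine mem_Cn.2 ⟨N.mul_mem n.2 (N.inv_mem m.2), ?_⟩
    have h3 : (t * n * t⁻¹) * (t * m * t⁻¹)⁻¹ = (n : G) * (m : G)⁻¹ := by
      have h4 : (t * (n : G) * t⁻¹) = n * ((m : G)⁻¹ * (t * m * t⁻¹)) := by
        rw [← h2]
        group
      rw [h4]
      group
    calc (n : G) * (m : G)⁻¹ * t = (t * n * t⁻¹) * (t * m * t⁻¹)⁻¹ * t := by rw [h3]
      _ = t * ((n : G) * (m : G)⁻¹) := by group
  let rep : Cn t N → N := Function.invFun θ
  have hrep : ∀ n : N, θ (rep (θ n)) = θ n := fun n => Function.invFun_eq ⟨n, rfl⟩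
  let φ : N → (Cn t N) × (Cn t N) := fun n => (θ n, ⟨(n : G) * ((rep (θ n) : N) : G)⁻¹, hfib _ _ (hrep n).symm⟩)
  have hφ : Function.Injective φ := by
    intro n m he
    have h1 : θ n = θ m := congrArg Prod.fst he
    have h2 : (n : G) * ((rep (θ n) : N) : G)⁻¹ = (m : G) * ((rep (θ m) : N) : G)⁻¹ :=
      congrArg (fun p : (Cn t N) × (Cn t N) => (p.2 : G)) he
    rw [h1] at h2
    exact Subtype.ext (mul_right_cancel h2)
  have := Nat.card_le_card_of_injective φ hφ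
  rwa [Nat.card_prod] at this

/-- `|C|² = |N|`. -/
theorem card_sq_eq : Nat.card (Cn t N) * Nat.card (Cn t N) = Nat.card N :=
  le_antisymm (card_sq_le S hN) (le_card_sq S hN ht)

end Cfsg.Agent.Lib.FT3Sqrt
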