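import Mathlib
import Cfsg.Agent.Lib.FT3Sqrt

/-!
# Maximal `⟨a, t⟩`-invariant subgroups intersect trivially
-/

set_option autoImplicit false
set_option linter.style.haveILetI false
set_option linter.unusedSectionVars false
set_option linter.unusedVariables false

namespace Cfsg.Agent.Lib.FT3TI

open Subgroup Cfsg Cfsg.Agent.Lib.SelfCent Cfsg.Agent.Lib.PCore Cfsg.Agent.Lib.SelfCent2.Hyp'
open Cfsg.Agent.Lib.FT3Basic Cfsg.Agent.Lib.FT3Char Cfsg.Agent.Lib.FT3Coset Cfsg.Agent.Lib.FT3Dich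
open Cfsg.Agent.Lib.FT3Part Cfsg.Agent.Lib.FT3Four Cfsg.Agent.Lib.FT3Local Cfsg.Agent.Lib.FT3Max
open Cfsg.Agent.Lib.FT3Syl Cfsg.Agent.Lib.FT3Even Cfsg.Agent.Lib.FT3Sqrt

universe u

variable {G : Type u} [Group G] [Finite G] {a t : G}

/-- Subgroups normalized by `a` and `t`, of order prime to `3`. -/
structure SInv (a t : G) (N : Subgroup G) : Prop where
  ainv : AInv a N
  tinv : ∀ n ∈ N, t * n * t⁻¹ ∈ N

/-- Maximal such subgroups. -/
structure IsMaxT (a t : G) (N : Subgroup G) : Prop where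
  sinv : SInv a t N
  max : ∀ N', SInv a t N' → N ≤ N' → N' ≤ N

theorem exists_maxT {D : Subgroup G} (hD : SInv a t D) : ∃ N, IsMaxT a t N ∧ D ≤ N := by
  classical
  have hfin : {N : Subgroup G | SInv a t N}.Finite := Set.toFinite _
  obtain ⟨N, hDN, hmax⟩ := hfin.exists_le_maximal hD
  exact ⟨N, ⟨hmax.1, fun N' hN' hle => hmax.2 hN' hle⟩, hDN⟩

theorem isMaxT_of_max {N : Subgroup G} (hN : IsMaxA a N) (ht : t ∈ nz N) : IsMaxT a t N :=
  ⟨⟨hN.ainv, fun _ hn => nz_conj ht hn⟩, fun N' hN' hle => hN.max N' hN'.ainv hle⟩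

/-- A variant of the order computation. -/
theorem two_mul_dvd_of_le (S : Setup a t) {Y H : Subgroup G} (hY : AInv a Y) (hYH : Y ≤ H) (ht : t ∈ H)
    (hn : ∀ y ∈ Y, t * y * t⁻¹ ∈ Y) : 2 * Nat.card Y ∣ Nat.card H := by
  classical
  set K := nz Y ⊓ H with hK
  have hYK : Y ≤ K := le_inf le_normalizer hYH
  have htK : t ∈ K := by
    refine Subgroup.mem_inf.2 ⟨mem_nz_of hn, ht⟩
  set N' := Y.subgroupOf K with hN'
  haveI hnor : N'.Normal := by
    constructor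
    intro x hx g
    rw [hN', Subgroup.mem_subgroupOf] at hx ⊢
    simpa using nz_conj (Subgroup.mem_inf.1 g.2).1 hx
  have h1 : Nat.card N' = Nat.card Y :=
    Nat.card_congr (Subgroup.subgroupOfEquivOfLe hYK).toEquiv
  have h2 : Nat.card K = Nat.card (K ⧸ N') * Nat.card N' := Subgroup.card_eq_card_quotient_mul_card_subgroup N'
  haveI : Fact (Nat.Prime 2) := ⟨Nat.prime_two⟩
  have h3 : orderOf ((⟨t, htK⟩ : K) : K ⧸ N') = 2 := by
    apply orderOf_eq_prime
    · rw [pow_two, ← QuotientGroup.mk_mul]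
      have : (⟨t, htK⟩ : K) * ⟨t, htK⟩ = 1 := Subtype.ext S.sq
      rw [this]
      rfl
    · intro h4
      have h5 := (QuotientGroup.eq_one_iff _).mp h4
      rw [hN', Subgroup.mem_subgroupOf] at h5
      exact t_not_mem hY S h5
  have h4 : 2 ∣ Nat.card (K ⧸ N') := by
    rw [← h3]
    exact orderOf_dvd_natCard _
  have h5 : 2 * Nat.card Y ∣ Nat.card K := by
    rw [h2, h1]
    exact Nat.mul_dvd_mul_right h4 _
  exact h5.trans (Subgroup.card_dvd_of_le inf_le_right)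

theorem fact5 (l : ℕ) : (2 ^ l * 10).factorization 5 = 1 := by
  have h1 : 2 ^ l * 10 = 2 ^ (l + 1) * 5 := by ring
  have h5 : Nat.Prime 5 := by norm_num
  rw [h1, Nat.factorization_mul (by positivity) (by norm_num), Finsupp.add_apply,
    Nat.Prime.factorization_pow Nat.prime_two, h5.factorization_self]
  simp

section Simple

variable [IsSimpleGroup G] (IH : IHyp G) (S : Setup a t)
include IH S

/-- An invariant subgroup of the normalizer lies in the `3'`-core. -/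
theorem le_Lc_of_inv {D U : Subgroup G} (hD : D ≠ ⊥) (hDS : SInv a t D) (hU : SInv a t U) (hUH : U ≤ nz D) :
    U ≤ Lc (nz D) := by
  haveI : Fact (Nat.Prime 2) := ⟨Nat.prime_two⟩
  haveI : Fact (Nat.Prime 5) := ⟨by norm_num⟩
  have ha : a ∈ nz D := mem_nz_of hDS.ainv.inv
  have htH : t ∈ nz D := mem_nz_of hDS.tinv
  have hDL : D ≤ Lc (nz D) := le_Lc le_normalizer (fun h hh d hd => nz_conj hh hd) hDS.ainv.nd
  rcases local_dich S (nz D) ha with h1 | ⟨h1, h2, t', St'⟩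
  · exact le_of_Ty S (Lc_ainv ha) (Lc_le _) ha (fun h hh l hl => Lc_conj hh hl) h1 hU.ainv hUH
  · have hL : Lc (nz D) ≠ ⊥ := fun h3 => hD (le_bot_iff.mp (h3 ▸ hDL))
    obtain ⟨hc, h4⟩ := d3_num ha (fun hh => IH _ (nz_ne_top hD (ne_top_of_ainv S hDS.ainv)) _ hh) S.h h1 h2 hL
    set H := nz D with hH
    have hY := sup_ainv ha hU.ainv hUH
    have hYt : ∀ y ∈ U ⊔ Lc H, t * y * t⁻¹ ∈ U ⊔ Lc H :=
      conj_sup hU.tinv (fun _ hl => Lc_conj htH hl)
    obtain ⟨m, hm, hmd⟩ := card_sup_Lc hUH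
    have h5 := two_mul_dvd_of_le S hY (sup_le hUH (Lc_le H)) htH hYt
    have hLpos : 0 < Nat.card (Lc H) := Nat.card_pos
    have hm60 : 2 * m ∣ 60 := by
      rw [hm, hc] at h5
      have h6 : Nat.card (Lc H) * (2 * m) ∣ Nat.card (Lc H) * 60 := by
        have e1 : Nat.card (Lc H) * (2 * m) = 2 * (Nat.card (Lc H) * m) := by ring
        have e2 : Nat.card (Lc H) * 60 = 60 * Nat.card (Lc H) := by ring
        rw [e1, e2]
        exact h5
      exact Nat.dvd_of_mul_dvd_mul_left hLpos h6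
    have hm3 : ¬ 3 ∣ m := fun h3 => hU.ainv.nd (h3.trans hmd)
    have hmod1 := hY.card_mod3 S.h
    have hmod2 := (Lc_ainv ha).card_mod3 S.h
    rw [hm, Nat.mul_mod, hmod2, one_mul, Nat.mod_mod] at hmod1
    have hm' : m = 1 ∨ m = 10 := by
      have hle : 2 * m ≤ 60 := Nat.le_of_dvd (by norm_num) hm60
      have hle' : m ≤ 30 := by omega
      interval_cases m <;> omega
    rcases hm' with rfl | rfl
    · rw [mul_one] at hm
      have h6 : U ⊔ Lc H = Lc H := (Subgroup.eq_of_le_of_card_ge (le_sup_right) (by rw [hm])).symm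
      rw [← h6]
      exact le_sup_left
    · exfalso
      obtain ⟨l, hl⟩ := IsPGroup.iff_card.1 h4
      have h6 := part_mod3 S.h 5 hY
      rw [hm, hl, fact5] at h6
      norm_num at h6

/-- A proper part grows in its normalizer. -/
theorem growth {N D : Subgroup G} (hN : AInv a N) (hlt : D < N) : ∃ x ∈ N ⊓ nz D, x ∉ D := by
  haveI : Group.IsNilpotent N := hN.isNilpotent S.h
  set D' := D.subgroupOf N with hD'
  have hDtop : D' ≠ ⊤ := by
    intro h1
    apply hlt.ne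
    apply le_antisymm hlt.le
    intro x hx
    have : (⟨x, hx⟩ : N) ∈ D' := by rw [h1]; trivial
    exact (Subgroup.mem_subgroupOf).1 this
  have hcond := Group.normalizerCondition_of_isNilpotent (G := N) (H := D') (lt_top_iff_ne_top.2 hDtop)
  obtain ⟨x, hx1, hx2⟩ := SetLike.exists_of_lt hcond
  refine ⟨x, Subgroup.mem_inf.2 ⟨x.2, ?_⟩, fun h3 => hx2 ((Subgroup.mem_subgroupOf).2 h3)⟩
  apply mem_nz_of
  intro d hd
  have h1 : (⟨d, hlt.le hd⟩ : N) ∈ D' := (Subgroup.mem_subgroupOf).2 hd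
  have h2 := (Subgroup.mem_normalizer_iff.mp hx1 _).1 h1
  exact (Subgroup.mem_subgroupOf).1 h2

theorem inf_sinv {N K : Subgroup G} (hN : SInv a t N) (ha : a ∈ K) (ht : t ∈ K) : SInv a t (N ⊓ K) := by
  refine ⟨⟨?_, ?_⟩, ?_⟩
  · intro n hn
    exact Subgroup.mem_inf.2 ⟨hN.ainv.inv n (Subgroup.mem_inf.1 hn).1,
      K.mul_mem (K.mul_mem ha (Subgroup.mem_inf.1 hn).2) (K.inv_mem ha)⟩
  · intro h3
    exact hN.ainv.nd (h3.trans (Subgroup.card_dvd_of_le inf_le_left))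
  · intro n hn
    exact Subgroup.mem_inf.2 ⟨hN.tinv n (Subgroup.mem_inf.1 hn).1,
      K.mul_mem (K.mul_mem ht (Subgroup.mem_inf.1 hn).2) (K.inv_mem ht)⟩

/-- Trivial intersections. -/
theorem ti_aux : ∀ k : ℕ, ∀ N₁ N₂ : Subgroup G, IsMaxT a t N₁ → IsMaxT a t N₂ → N₁ ≠ N₂ →
    Nat.card G - Nat.card (N₁ ⊓ N₂ : Subgroup G) = k → N₁ ⊓ N₂ = ⊥ := by
  intro k
  induction k using Nat.strong_induction_on with
  | _ k ih =>
    intro N₁ N₂ h₁ h₂ hne hk
    by_contra hD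
    set D := N₁ ⊓ N₂ with hDdef
    have hDS : SInv a t D := by
      refine ⟨⟨?_, ?_⟩, ?_⟩
      · intro n hn
        exact Subgroup.mem_inf.2 ⟨h₁.sinv.ainv.inv n (Subgroup.mem_inf.1 hn).1,
          h₂.sinv.ainv.inv n (Subgroup.mem_inf.1 hn).2⟩
      · intro h3
        exact h₁.sinv.ainv.nd (h3.trans (Subgroup.card_dvd_of_le inf_le_left))
      · intro n hn
        exact Subgroup.mem_inf.2 ⟨h₁.sinv.tinv n (Subgroup.mem_inf.1 hn).1,
          h₂.sinv.tinv n (Subgroup.mem_inf.1 hn).2⟩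
    have ha : a ∈ nz D := mem_nz_of hDS.ainv.inv
    have htH : t ∈ nz D := mem_nz_of hDS.tinv
    have hlt : ∀ {N N' : Subgroup G}, IsMaxT a t N → IsMaxT a t N' → N ≠ N' → N ⊓ N' < N := by
      intro N N' hN hN' hne'
      refine lt_of_le_of_ne inf_le_left ?_
      intro he
      have h3 : N ≤ N' := inf_eq_left.mp he
      exact hne' (le_antisymm h3 (hN.max N' hN'.sinv h3))
    have hlt1 : D < N₁ := hlt h₁ h₂ hne
    have hlt2 : D < N₂ := by
      rw [hDdef, inf_comm]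
      exact hlt h₂ h₁ hne.symm
    have hLS : SInv a t (Lc (nz D)) := ⟨Lc_ainv ha, fun _ hl => Lc_conj htH hl⟩
    obtain ⟨N₃, h₃, hle₃⟩ := exists_maxT hLS
    have key : ∀ {N : Subgroup G}, IsMaxT a t N → D ≤ N → D < N → N₃ = N := by
      intro N hN hDN hDlt
      by_contra hne3
      obtain ⟨x, hx, hxD⟩ := growth IH S hN.sinv.ainv hDlt
      have hU := inf_sinv IH S hN.sinv ha htH
      have hUL := le_Lc_of_inv IH S hD hDS hU inf_le_right
      have hle : D ≤ N₃ ⊓ N := le_inf ((le_Lc le_normalizer (fun h hh d hd => nz_conj hh hd) hDS.ainv.nd).trans hle₃) hDN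
      have hxm : x ∈ N₃ ⊓ N := Subgroup.mem_inf.2 ⟨hle₃ (hUL hx), (Subgroup.mem_inf.1 hx).1⟩
      have hlt4 : D < N₃ ⊓ N := lt_of_le_of_ne hle (fun he => hxD (he ▸ hxm))
      have hcard : Nat.card D < Nat.card (N₃ ⊓ N : Subgroup G) := by
        by_contra hcon
        exact hlt4.ne (Subgroup.eq_of_le_of_card_ge hlt4.le (not_lt.1 hcon))
      have hcardG : Nat.card (N₃ ⊓ N : Subgroup G) ≤ Nat.card G := Subgroup.card_le_card_group _
      have hbot := ih (Nat.card G - Nat.card (N₃ ⊓ N : Subgroup G)) (by omega) N₃ N h₃ hN hne3 rfl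
      rw [hbot] at hlt4
      exact absurd hlt4 (not_lt_bot)
    have e1 := key h₁ inf_le_left hlt1
    have e2 := key h₂ inf_le_right hlt2
    exact hne (e1.symm.trans e2)

theorem ti {N₁ N₂ : Subgroup G} (h₁ : IsMaxT a t N₁) (h₂ : IsMaxT a t N₂) (hne : N₁ ≠ N₂) : N₁ ⊓ N₂ = ⊥ :=
  ti_aux IH S _ N₁ N₂ h₁ h₂ hne rfl

/-- In the form needed. -/
theorem ti_max {N₁ N₂ : Subgroup G} (h₁ : IsMaxA a N₁) (h₂ : IsMaxA a N₂) (ht₁ : t ∈ nz N₁) (ht₂ : t ∈ nz N₂)
    (hne : N₁ ≠ N₂) : N₁ ⊓ N₂ = ⊥ :=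
  ti IH S (isMaxT_of_max h₁ ht₁) (isMaxT_of_max h₂ ht₂) hne

end Simple

end Cfsg.Agent.Lib.FT3TI
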