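import Mathlib
import Cfsg.Agent.Lib.FT3TI

/-!
# The elements counted by `Fs` lie in maximal invariant subgroups
-/

set_option autoImplicit false
set_option linter.style.haveILetI false
set_option linter.unusedSectionVars false
set_option linter.unusedVariables false

namespace Cfsg.Agent.Lib.FT3Cover

open Subgroup Cfsg Cfsg.Agent.Lib.SelfCent Cfsg.Agent.Lib.PCore Cfsg.Agent.Lib.SelfCent2.Hyp'
open Cfsg.Agent.Lib.FT3Basic Cfsg.Agent.Lib.FT3Char Cfsg.Agent.Lib.FT3Coset Cfsg.Agent.Lib.FT3Dich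
open Cfsg.Agent.Lib.FT3Part Cfsg.Agent.Lib.FT3Four Cfsg.Agent.Lib.FT3Local Cfsg.Agent.Lib.FT3Max
open Cfsg.Agent.Lib.FT3Syl Cfsg.Agent.Lib.FT3Even Cfsg.Agent.Lib.FT3Sqrt Cfsg.Agent.Lib.FT3TI

universe u

variable {G : Type u} [Group G] [Fintype G] {a t : G}

/-- The set of maximal invariant subgroups. -/
noncomputable def Mx (a : G) : Finset (Subgroup G) := (Set.toFinite {N : Subgroup G | IsMaxA a N}).toFinset

theorem mem_Mx {N : Subgroup G} : N ∈ Mx a ↔ IsMaxA a N := by
  simp [Mx]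

/-- The non-identity elements of a subgroup. -/
noncomputable def elts (N : Subgroup G) : Finset G := by
  classical
  exact Finset.univ.filter (fun x : G => x ∈ N ∧ x ≠ 1)

theorem mem_elts {N : Subgroup G} {x : G} : x ∈ elts N ↔ x ∈ N ∧ x ≠ 1 := by
  classical
  simp [elts]

theorem card_elts (N : Subgroup G) : (elts N).card = Nat.card N - 1 := by
  classical
  have h1 : Nat.card N = (Finset.univ.filter (fun x : G => x ∈ N)).card := by
    rw [Nat.card_eq_fintype_card]
    exact Fintype.card_of_subtype _ (fun x => by simp)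
  have h2 : elts N = (Finset.univ.filter (fun x : G => x ∈ N)).erase 1 := by
    ext x
    simp [mem_elts, and_comm]
  rw [h2, Finset.card_erase_of_mem (by simp [N.one_mem]), ← h1]

variable (S : Setup a t)
include S

/-- An element counted by `Fs` lies in a maximal subgroup. -/
theorem mem_max_of_Fs {n : G} (h1 : orderOf (n * a) = 3) (h2 : orderOf (n * a⁻¹) = 3) (hn1 : n ≠ 1) :
    ∃ N, IsMaxA a N ∧ n ∈ N := by
  classical
  have hc3 : a * a * a = 1 := a_mul3 S.h
  set n₁ := a * n * a⁻¹ with hn₁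
  set n₂ := a * n₁ * a⁻¹ with hn₂
  have hn₃ : a * n₂ * a⁻¹ = n := by
    rw [hn₂, hn₁]
    calc a * (a * (a * n * a⁻¹) * a⁻¹) * a⁻¹ = (a * a * a) * n * (a * a * a)⁻¹ := by group
      _ = n := by rw [hc3]; group
  have hp1 : n * n₁ * n₂ = 1 := by
    have h3 := pow_orderOf_eq_one (n * a)
    rw [h1] at h3
    have h4 : (n * a) ^ 3 = n * n₁ * n₂ * (a * a * a) := by
      rw [hn₂, hn₁, pow_succ, pow_two]
      group
    rw [h4, hc3, mul_one] at h3
    exact h3
  have hinv2 : a⁻¹ = a * a := a_inv_eq S.h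
  have hp2 : n * n₂ * n₁ = 1 := by
    have h3 := pow_orderOf_eq_one (n * a⁻¹)
    rw [h2] at h3
    have h4 : (n * a⁻¹) ^ 3 = n * n₂ * n₁ * (a⁻¹ * a⁻¹ * a⁻¹) := by
      have e1 : a⁻¹ * n * a = n₂ := by
        rw [hn₂, hn₁]
        calc a⁻¹ * n * a = (a * a) * n * (a⁻¹ * a⁻¹) := by rw [S.ainv2, ← hinv2]
          _ = a * (a * n * a⁻¹) * a⁻¹ := by group
      have e3 : a⁻¹ * n₂ * a = n₁ := by
        rw [hn₂]
        group
      calc (n * a⁻¹) ^ 3 = n * (a⁻¹ * n * a) * (a⁻¹ * (a⁻¹ * n * a) * a) * (a⁻¹ * a⁻¹ * a⁻¹) := by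
            rw [pow_succ, pow_two]
            group
        _ = _ := by rw [e1, e3]
    have h5 : a⁻¹ * a⁻¹ * a⁻¹ = 1 := by
      have : a⁻¹ * a⁻¹ * a⁻¹ = (a * a * a)⁻¹ := by group
      rw [this, hc3]
      group
    rw [h4, h5, mul_one] at h3
    exact h3
  -- commuting
  have c12 : n₁ * n₂ = n₂ * n₁ := by
    have e1 : n₁ * n₂ = n⁻¹ := by
      rw [eq_inv_iff_mul_eq_one]
      calc n₁ * n₂ * n = n⁻¹ * (n * n₁ * n₂) * n := by group
        _ = 1 := by rw [hp1]; group
    have e2 : n₂ * n₁ = n⁻¹ := by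
      rw [eq_inv_iff_mul_eq_one]
      calc n₂ * n₁ * n = n⁻¹ * (n * n₂ * n₁) * n := by group
        _ = 1 := by rw [hp2]; group
    rw [e1, e2]
  have c20 : n₂ * n = n * n₂ := by
    have := congrArg (fun x => a * x * a⁻¹) c12
    have e1 : a * (n₁ * n₂) * a⁻¹ = n₂ * n := by
      calc a * (n₁ * n₂) * a⁻¹ = (a * n₁ * a⁻¹) * (a * n₂ * a⁻¹) := by group
        _ = n₂ * n := by rw [hn₃]
    have e2 : a * (n₂ * n₁) * a⁻¹ = n * n₂ := by
      calc a * (n₂ * n₁) * a⁻¹ = (a * n₂ * a⁻¹) * (a * n₁ * a⁻¹) := by group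
        _ = n * n₂ := by rw [hn₃]
    rwa [e1, e2] at this
  have c01 : n * n₁ = n₁ * n := by
    have := congrArg (fun x => a * x * a⁻¹) c20
    have e1 : a * (n₂ * n) * a⁻¹ = n * n₁ := by
      calc a * (n₂ * n) * a⁻¹ = (a * n₂ * a⁻¹) * (a * n * a⁻¹) := by group
        _ = n * n₁ := by rw [hn₃]
    have e2 : a * (n * n₂) * a⁻¹ = n₁ * n := by
      calc a * (n * n₂) * a⁻¹ = (a * n * a⁻¹) * (a * n₂ * a⁻¹) := by group
        _ = n₁ * n := by rw [hn₃]
    rwa [e1, e2] at this
  -- the subgroup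
  set T : Set G := {n, n₁, n₂} with hT
  set D := closure T with hD
  have hTc : T ⊆ centralizer T := by
    intro x hx y hy
    simp only [hT, Set.mem_insert_iff, Set.mem_singleton_iff] at hx hy
    rcases hx with rfl | rfl | rfl <;> rcases hy with rfl | rfl | rfl <;>
      first
        | rfl
        | exact c01
        | exact c12
        | exact c20
        | exact c01.symm
        | exact c12.symm
        | exact c20.symm
  have hDT : D ≤ centralizer T := by
    rw [hD, closure_le]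
    exact hTc
  have hDcomm : ∀ x ∈ D, ∀ y ∈ D, x * y = y * x := by
    intro x hx y hy
    have h3 : T ⊆ centralizer ({x} : Set G) := by
      intro z hz
      rw [SetLike.mem_coe, mem_centralizer_singleton_iff]
      have h4 := (mem_centralizer_iff.1 (hDT hx)) z hz
      exact h4
    have h5 : D ≤ centralizer ({x} : Set G) := by
      rw [hD, closure_le]
      exact h3
    have h6 := mem_centralizer_singleton_iff.1 (h5 hy)
    exact h6.symm
  have hDa : ∀ x ∈ D, a * x * a⁻¹ ∈ D := by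
    intro x hx
    have h3 : D.map (MulAut.conj a).toMonoidHom ≤ D := by
      rw [hD, MonoidHom.map_closure, closure_le]
      rintro _ ⟨z, hz, rfl⟩
      simp only [hT, Set.mem_insert_iff, Set.mem_singleton_iff] at hz
      have hsub : T ⊆ (closure T : Subgroup G) := subset_closure
      rcases hz with rfl | rfl | rfl
      · apply hsub
        simp [hT, hn₁]
      · apply hsub
        simp [hT, hn₂]
      · apply hsub
        simp only [hT, Set.mem_insert_iff, Set.mem_singleton_iff]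
        left
        exact hn₃
    exact h3 ⟨x, hx, rfl⟩
  have hnD : n ∈ D := subset_closure (by simp [hT])
  have hD3 : ¬ 3 ∣ Nat.card D := by
    intro h3
    obtain ⟨g, hg⟩ := exists_prime_orderOf_dvd_card' (p := 3) (G := D) h3
    have hg1 : orderOf (g : G) = 3 := by rw [← hg, Subgroup.orderOf_coe]
    have hgH : Hyp 3 (g : G) := hyp_of_order3 S.h hg1
    have hle : ∀ x ∈ D, x ∈ zpowers (g : G) := fun x hx => hgH.mem_zpowers_of_commute (hDcomm x hx g g.2)
    have hag := hle _ (hDa g g.2)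
    have hP : Nat.card (zpowers (g : G)) = 3 := hgH.card_zpowers
    have hg1' : (g : G) ≠ 1 := by
      intro he
      rw [he, orderOf_one] at hg1
      omega
    have hag1 : a * (g : G) * a⁻¹ ≠ 1 := by
      intro he
      apply hg1'
      have : a⁻¹ * (a * (g : G) * a⁻¹) * a = g := by group
      rw [← this, he]
      group
    have hfix : a * (g : G) * a⁻¹ = g := by
      rcases Cfsg.Agent.Lib.S4501Psi9.eq_or_eq_inv hP (mem_zpowers (g : G)) hg1' hag hag1 with h4 | h4
      · exact h4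
      · exfalso
        have h5 : a * (a * (a * (g : G) * a⁻¹) * a⁻¹) * a⁻¹ = (g : G)⁻¹ := by
          rw [h4]
          have e1 : a * (g : G)⁻¹ * a⁻¹ = (a * (g : G) * a⁻¹)⁻¹ := by group
          rw [e1, h4, inv_inv, h4]
        have h6 : a * (a * (a * (g : G) * a⁻¹) * a⁻¹) * a⁻¹ = g := by
          calc a * (a * (a * (g : G) * a⁻¹) * a⁻¹) * a⁻¹ = (a * a * a) * g * (a * a * a)⁻¹ := by group
            _ = g := by rw [hc3]; group
        rw [h6] at h5
        have h7 : (g : G) * g = 1 := by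
          nth_rw 1 [h5]
          group
        have h8 := orderOf_dvd_of_pow_eq_one (show (g : G) ^ 2 = 1 by rw [pow_two]; exact h7)
        rw [hg1] at h8
        omega
    have hga : (g : G) ∈ zpowers a := mem_zpowers_of_comm S.h hfix
    have hnz : n ∈ zpowers (g : G) := hle n hnD
    have hle2 : zpowers (g : G) ≤ zpowers a := zpowers_le.2 hga
    obtain ⟨k, hk⟩ := mem_zpowers_iff.1 (hle2 hnz)
    rcases zpow_cases S.h k with h3' | h3' | h3' <;> rw [h3'] at hk
    · exact hn1 hk.symm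
    · rw [← hk, mul_inv_cancel, orderOf_one] at h2
      omega
    · rw [← hk, inv_mul_cancel, orderOf_one] at h1
      omega
  obtain ⟨N, hN, hle⟩ := exists_maxA (⟨hDa, hD3⟩ : AInv a D)
  exact ⟨N, hN, hle hnD⟩

/-- The count of `Fs`. -/
theorem Fs_le : Fs a ≤ 1 + ∑ N ∈ Mx a, (Nat.card N - 1) := by
  classical
  have h1 : (Finset.univ.filter (fun n : G => orderOf (n * a) = 3 ∧ orderOf (n * a⁻¹) = 3)) ⊆
      insert 1 ((Mx a).biUnion elts) := by
    intro n hn
    obtain ⟨h2, h3⟩ := (Finset.mem_filter.1 hn).2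
    by_cases hn1 : n = 1
    · rw [hn1]
      exact Finset.mem_insert_self _ _
    · obtain ⟨N, hN, hnN⟩ := mem_max_of_Fs S h2 h3 hn1
      apply Finset.mem_insert_of_mem
      exact Finset.mem_biUnion.2 ⟨N, mem_Mx.2 hN, mem_elts.2 ⟨hnN, hn1⟩⟩
  have h2 := Finset.card_le_card h1
  have h3 := Finset.card_insert_le (1 : G) ((Mx a).biUnion elts)
  have h4 : ((Mx a).biUnion elts).card ≤ ∑ N ∈ Mx a, (elts N).card := Finset.card_biUnion_le
  simp only [card_elts] at h4
  have h6 : Fs a = (Finset.univ.filter (fun n : G => orderOf (n * a) = 3 ∧ orderOf (n * a⁻¹) = 3)).card := by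
    unfold Fs
    congr
  omega

omit S in
/-- Pairwise trivially intersecting subgroups. -/
theorem sum_ti_le {F : Finset (Subgroup G)} {K : Subgroup G} (g : Subgroup G → Subgroup G)
    (hg : ∀ N ∈ F, g N ≤ K)
    (hti : ∀ N ∈ F, ∀ N' ∈ F, N ≠ N' → g N ⊓ g N' = ⊥) :
    ∑ N ∈ F, (Nat.card (g N) - 1) ≤ Nat.card K - 1 := by
  classical
  have h1 : (F.biUnion (fun N => elts (g N))).card = ∑ N ∈ F, (elts (g N)).card := by
    apply Finset.card_biUnion
    intro N hN N' hN' hne
    rw [Function.onFun, Finset.disjoint_left]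
    intro x hx hx'
    obtain ⟨h2, h3⟩ := mem_elts.1 hx
    obtain ⟨h4, -⟩ := mem_elts.1 hx'
    have h5 : x ∈ g N ⊓ g N' := Subgroup.mem_inf.2 ⟨h2, h4⟩
    rw [hti N hN N' hN' hne, Subgroup.mem_bot] at h5
    exact h3 h5
  simp only [card_elts] at h1
  rw [← h1, ← card_elts K]
  apply Finset.card_le_card
  intro x hx
  obtain ⟨N, hN, hxN⟩ := Finset.mem_biUnion.1 hx
  obtain ⟨h2, h3⟩ := mem_elts.1 hxN
  exact mem_elts.2 ⟨hg N hN h2, h3⟩

end Cfsg.Agent.Lib.FT3Cover
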