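import Mathlib
import Cfsg.Agent.Lib.FT3Cover
import Cfsg.Agent.Lib.FT3Comb

/-!
# The bounds on the number of elements of maximal invariant subgroups
-/

set_option autoImplicit false
set_option linter.style.haveILetI false
set_option linter.unusedSectionVars false
set_option linter.unusedVariables false

namespace Cfsg.Agent.Lib.FT3Bound

open Subgroup Cfsg Cfsg.Agent.Lib.SelfCent Cfsg.Agent.Lib.PCore Cfsg.Agent.Lib.SelfCent2.Hyp'
open Cfsg.Agent.Lib.FT3Basic Cfsg.Agent.Lib.FT3Char Cfsg.Agent.Lib.FT3Coset Cfsg.Agent.Lib.FT3Dich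
open Cfsg.Agent.Lib.FT3Part Cfsg.Agent.Lib.FT3Four Cfsg.Agent.Lib.FT3Local Cfsg.Agent.Lib.FT3Max
open Cfsg.Agent.Lib.FT3Syl Cfsg.Agent.Lib.FT3Even Cfsg.Agent.Lib.FT3Sqrt Cfsg.Agent.Lib.FT3TI
open Cfsg.Agent.Lib.FT3Cover Cfsg.Agent.Lib.FT3Comb

universe u

variable {G : Type u} [Group G] [Fintype G] {a t : G}

/-- The odd part of the order. -/
noncomputable abbrev oo (N : Subgroup G) : ℕ := ordCompl[2] (Nat.card N)

/-- The exponent of the `2`-part of the order. -/
noncomputable abbrev vv (N : Subgroup G) : ℕ := (Nat.card N).factorization 2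

theorem card_eq (N : Subgroup G) : 2 ^ vv N * oo N = Nat.card N :=
  Nat.ordProj_mul_ordCompl_eq_self _ 2

theorem oo_odd (N : Subgroup G) : ¬ 2 ∣ oo N := Nat.not_dvd_ordCompl Nat.prime_two Nat.card_pos.ne'

theorem oo_pos (N : Subgroup G) : 0 < oo N := Nat.ordCompl_pos 2 Nat.card_pos.ne'

theorem oo_le (N : Subgroup G) : oo N ≤ Nat.card N := Nat.ordCompl_le _ 2

variable (S : Setup a t)
include S

/-- The shape of the order of `G`. -/
theorem exists_shape : ∃ X : ℕ, Nat.card G = 3 * (2 ^ (Nat.card G).factorization 2 * X) ∧ ¬ 2 ∣ X ∧ ¬ 3 ∣ X := by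
  have h1 : ¬ 3 ∣ (zpowers a).index := S.h.not_dvd_index
  have h2 : Nat.card G = 3 * (zpowers a).index := by
    rw [← Subgroup.card_mul_index (zpowers a), S.h.card_zpowers]
  have h3 := Nat.ordProj_mul_ordCompl_eq_self (Nat.card G) 2
  set k := (Nat.card G).factorization 2 with hk
  set O := ordCompl[2] (Nat.card G) with hO
  have h4 : ¬ 2 ∣ O := Nat.not_dvd_ordCompl Nat.prime_two Nat.card_pos.ne'
  have h5 : 3 ∣ O := by
    have h6 : 3 ∣ 2 ^ k * O := by
      rw [h3, h2]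
      exact dvd_mul_right _ _
    rcases (Nat.Prime.dvd_mul Nat.prime_three).1 h6 with h7 | h7
    · exfalso
      have := Nat.Prime.dvd_of_dvd_pow Nat.prime_three h7
      omega
    · exact h7
  obtain ⟨X, hX⟩ := h5
  refine ⟨X, ?_, ?_, ?_⟩
  · rw [← h3, hX]
    ring
  · intro h6
    apply h4
    rw [hX]
    exact h6.trans (dvd_mul_left _ _)
  · intro h6
    apply h1
    have h7 : (zpowers a).index = 2 ^ k * X := by
      have h8 : 3 * (zpowers a).index = 3 * (2 ^ k * X) := by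
        rw [← h2, ← h3, hX]
        ring
      exact Nat.eq_of_mul_eq_mul_left (by norm_num) h8
    rw [h7]
    exact h6.trans (dvd_mul_left _ _)

/-- The odd part of an invariant subgroup divides `X`. -/
theorem oo_dvd {X : ℕ} (hX : Nat.card G = 3 * (2 ^ (Nat.card G).factorization 2 * X)) {N : Subgroup G}
    (hN : AInv a N) : oo N ∣ X := by
  have h1 : Nat.card N ∣ Nat.card G := Subgroup.card_subgroup_dvd_card N
  have h2 : oo N ∣ Nat.card G := (Nat.ordCompl_dvd _ 2).trans h1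
  have h3 : oo N ∣ 3 * (2 ^ (Nat.card G).factorization 2 * X) := by
    rwa [← hX]
  have h4 : Nat.Coprime (oo N) 3 := by
    apply Nat.Coprime.symm
    rw [Nat.Prime.coprime_iff_not_dvd Nat.prime_three]
    intro h5
    exact hN.nd (h5.trans (Nat.ordCompl_dvd _ 2))
  have h5 : oo N ∣ 2 ^ (Nat.card G).factorization 2 * X := h4.dvd_of_dvd_mul_left h3
  have h6 : Nat.Coprime (oo N) (2 ^ (Nat.card G).factorization 2) := by
    apply Nat.Coprime.pow_right
    apply Nat.Coprime.symm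
    rw [Nat.Prime.coprime_iff_not_dvd Nat.prime_two]
    exact oo_odd N
  exact h6.dvd_of_dvd_mul_left h5

/-- `t` is central in a Sylow `2`-subgroup. -/
theorem two_pow_dvd_cc (hI : ∀ w : G, orderOf w = 2 → IsConj t w) :
    2 ^ (Nat.card G).factorization 2 ∣ cc t := by
  classical
  haveI : Fact (Nat.Prime 2) := ⟨Nat.prime_two⟩
  obtain ⟨P⟩ : Nonempty (Sylow 2 G) := inferInstance
  have hP : Nat.card P = 2 ^ (Nat.card G).factorization 2 := P.card_eq_multiplicity
  rw [← hP]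
  have h2G : 2 ∣ Nat.card G := by
    rw [← S.ht]
    exact orderOf_dvd_natCard t
  have hk : (Nat.card G).factorization 2 ≠ 0 := by
    have := (Nat.prime_two.dvd_iff_one_le_factorization Nat.card_pos.ne').1 h2G
    omega
  have hP2 : 2 ∣ Nat.card P := by
    rw [hP]
    exact dvd_pow_self 2 hk
  haveI : Nontrivial P := by
    apply (Finite.one_lt_card_iff_nontrivial).1
    have : 0 < Nat.card P := Nat.card_pos
    have h3 := Nat.le_of_dvd this hP2
    omega
  have hpg : IsPGroup 2 P := P.2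
  haveI hcn : Nontrivial (center P) := hpg.center_nontrivial
  have hcn2 : IsPGroup 2 (center P) := IsPGroup.to_subgroup hpg _
  have hcd : 2 ∣ Nat.card (center P) := by
    obtain ⟨m, hm⟩ := IsPGroup.iff_card.1 hcn2
    have hm0 : m ≠ 0 := by
      rintro rfl
      rw [pow_zero] at hm
      have := Finite.one_lt_card_iff_nontrivial.2 hcn
      omega
    rw [hm]
    exact dvd_pow_self 2 hm0
  obtain ⟨x, hx⟩ := exists_prime_orderOf_dvd_card' (p := 2) (G := center P) hcd
  have hx1 : orderOf (((x : P) : G)) = 2 := by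
    rw [Subgroup.orderOf_coe, Subgroup.orderOf_coe]
    exact hx
  rw [← cc_eq S hI hx1]
  apply Subgroup.card_dvd_of_le
  intro y hy
  rw [mem_centralizer_singleton_iff]
  have h3 := (Subgroup.mem_center_iff.mp x.2) ⟨y, hy⟩
  have h4 := congrArg Subtype.val h3
  exact h4

/-- The odd part of `c`. -/
theorem exists_co (hI : ∀ w : G, orderOf w = 2 → IsConj t w) {X : ℕ}
    (hX : Nat.card G = 3 * (2 ^ (Nat.card G).factorization 2 * X)) (hX2 : ¬ 2 ∣ X) :
    ∃ co : ℕ, cc t = 2 ^ (Nat.card G).factorization 2 * co ∧ ¬ 2 ∣ co ∧ ¬ 3 ∣ co ∧ 0 < co := by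
  obtain ⟨co, hco⟩ := two_pow_dvd_cc S hI
  have hcpos : 0 < cc t := Nat.card_pos
  have hcopos : 0 < co := by
    rcases Nat.eq_zero_or_pos co with rfl | h
    · simp at hco
      omega
    · exact h
  refine ⟨co, hco, ?_, ?_, hcopos⟩
  · intro h2
    have h3 : cc t ∣ Nat.card G := Subgroup.card_subgroup_dvd_card _
    rw [hco] at h3
    have h4 : 2 ^ (Nat.card G).factorization 2 * co ∣ 2 ^ (Nat.card G).factorization 2 * (3 * X) := by
      have e : 2 ^ (Nat.card G).factorization 2 * (3 * X) = Nat.card G := by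
        conv_rhs => rw [hX]
        ring
      rw [e]
      exact h3
    have h5 : co ∣ 3 * X := Nat.dvd_of_mul_dvd_mul_left (by positivity) h4
    have h6 : 2 ∣ 3 * X := h2.trans h5
    rcases (Nat.Prime.dvd_mul Nat.prime_two).1 h6 with h7 | h7
    · omega
    · exact hX2 h7
  · intro h3
    apply not_dvd_cc S
    rw [hco]
    exact h3.trans (dvd_mul_left _ _)

/-- The even maximal subgroups not normalized by `t`. -/
noncomputable def F₁ (a t : G) : Finset (Subgroup G) := by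
  classical
  exact (Mx a).filter (fun N => 2 ∣ Nat.card N ∧ t ∉ nz N)

/-- The even maximal subgroups normalized by `t`. -/
noncomputable def F₂ (a t : G) : Finset (Subgroup G) := by
  classical
  exact (Mx a).filter (fun N => 2 ∣ Nat.card N ∧ t ∈ nz N)

omit S in
theorem mem_F₁ {N : Subgroup G} : N ∈ F₁ a t ↔ IsMaxA a N ∧ 2 ∣ Nat.card N ∧ t ∉ nz N := by
  classical
  simp [F₁, mem_Mx]

omit S in
theorem mem_F₂ {N : Subgroup G} : N ∈ F₂ a t ↔ IsMaxA a N ∧ 2 ∣ Nat.card N ∧ t ∈ nz N := by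
  classical
  simp [F₂, mem_Mx]

/-- The even contribution. -/
noncomputable abbrev gg (N : Subgroup G) : ℕ := Nat.card N - oo N

omit S in
theorem sum_split : ∑ N ∈ Mx a, (Nat.card N - 1) ≤
    ∑ N ∈ Mx a, (oo N - 1) + (∑ N ∈ F₁ a t, gg N + ∑ N ∈ F₂ a t, gg N) := by
  classical
  have h1 : ∑ N ∈ F₁ a t, gg N = ∑ N ∈ Mx a, if (2 ∣ Nat.card N ∧ t ∉ nz N) then gg N else 0 := by
    unfold F₁
    rw [Finset.sum_filter]
  have h2 : ∑ N ∈ F₂ a t, gg N = ∑ N ∈ Mx a, if (2 ∣ Nat.card N ∧ t ∈ nz N) then gg N else 0 := by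
    unfold F₂
    rw [Finset.sum_filter]
  rw [h1, h2, ← Finset.sum_add_distrib, ← Finset.sum_add_distrib]
  apply Finset.sum_le_sum
  intro N _
  have h3 := oo_le N
  have h4 := oo_pos N
  have h8 : gg N = Nat.card N - oo N := rfl
  by_cases h5 : 2 ∣ Nat.card N
  · by_cases h6 : t ∈ nz N
    · simp only [h5, h6, not_true_eq_false, and_false, and_true, if_true, if_false]
      omega
    · simp only [h5, h6, not_false_eq_true, and_false, and_true, if_true, if_false]
      omega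
  · have h7 : oo N = Nat.card N := by
      unfold oo
      rw [Nat.factorization_eq_zero_of_not_dvd h5]
      simp
    simp only [h5, false_and, if_false]
    omega

variable [IsSimpleGroup G] (IH : IHyp G)
include IH

theorem sum_oo_le {X : ℕ} (hX : Nat.card G = 3 * (2 ^ (Nat.card G).factorization 2 * X)) (hXpos : 0 < X) :
    ∑ N ∈ Mx a, (oo N - 1) ≤ 2 * (X - 1) := by
  classical
  apply comb_two (Mx a) oo (cj t) X hXpos
  · intro N hN
    exact oo_dvd S hX (mem_Mx.1 hN).ainv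
  · intro N hN _
    unfold oo
    rw [card_cj]
  · intro N hN N' hN' hc
    obtain ⟨r, hr, h1, h2⟩ := Nat.Prime.not_coprime_iff_dvd.1 hc
    haveI : Fact r.Prime := ⟨hr⟩
    have hr2 : r ≠ 2 := by
      rintro rfl
      exact oo_odd N h1
    exact eq_or_cj_odd IH S (mem_Mx.1 hN) (mem_Mx.1 hN') hr2 (h1.trans (Nat.ordCompl_dvd _ 2))
      (h2.trans (Nat.ordCompl_dvd _ 2))

variable (hI : ∀ w : G, orderOf w = 2 → IsConj t w)
include hI

/-- The odd part of an even invariant subgroup divides that of `c`. -/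
theorem oo_dvd_co {co : ℕ} (hco : cc t = 2 ^ (Nat.card G).factorization 2 * co) {N : Subgroup G}
    (hN : AInv a N) (hd : 2 ∣ Nat.card N) : oo N ∣ co := by
  have h1 := card_dvd_cc S hI hN hd
  have h2 : oo N ∣ 2 ^ (Nat.card G).factorization 2 * co := by
    rw [← hco]
    exact (Nat.ordCompl_dvd _ 2).trans h1
  have h6 : Nat.Coprime (oo N) (2 ^ (Nat.card G).factorization 2) := by
    apply Nat.Coprime.pow_right
    apply Nat.Coprime.symm
    rw [Nat.Prime.coprime_iff_not_dvd Nat.prime_two]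
    exact oo_odd N
  exact h6.dvd_of_dvd_mul_left h2

omit hI in
theorem F₁_sub {N₀ : Subgroup G} (h₀ : N₀ ∈ F₁ a t) : (F₁ a t).card ≤ 2 := by
  classical
  obtain ⟨h1, h2, h3⟩ := mem_F₁.1 h₀
  have hsub : F₁ a t ⊆ {N₀, cj t N₀} := by
    intro N hN
    obtain ⟨h4, h5, h6⟩ := mem_F₁.1 hN
    simp only [Finset.mem_insert, Finset.mem_singleton]
    exact eq_or_cj_two IH S h1 h4 h3 h6 h2 h5
  exact (Finset.card_le_card hsub).trans Finset.card_le_two

omit hI in
theorem vv_F₁ {N : Subgroup G} (hN : N ∈ F₁ a t) : vv N = (Nat.card G).factorization 2 := by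
  obtain ⟨h1, h2, h3⟩ := mem_F₁.1 hN
  exact card_two_of_not IH S h1 h3 h2

theorem gg_F₁ {co : ℕ} (hco : cc t = 2 ^ (Nat.card G).factorization 2 * co) (hcopos : 0 < co)
    {N : Subgroup G} (hN : N ∈ F₁ a t) : gg N ≤ co * (2 ^ (Nat.card G).factorization 2 - 1) := by
  obtain ⟨h1, h2, h3⟩ := mem_F₁.1 hN
  have h4 := oo_dvd_co S IH hI hco h1.ainv h2
  have h5 : oo N ≤ co := Nat.le_of_dvd hcopos h4
  have h6 := card_eq N
  rw [vv_F₁ S IH hN] at h6
  unfold gg
  rw [← h6]
  have e : 2 ^ (Nat.card G).factorization 2 * oo N - oo N = oo N * (2 ^ (Nat.card G).factorization 2 - 1) := by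
    rw [Nat.mul_sub, mul_one, mul_comm]
  rw [e]
  exact Nat.mul_le_mul_right _ h5

theorem E₁_le {co : ℕ} (hco : cc t = 2 ^ (Nat.card G).factorization 2 * co) (hcopos : 0 < co) :
    ∑ N ∈ F₁ a t, gg N ≤ 2 * co * (2 ^ (Nat.card G).factorization 2 - 1) := by
  classical
  rcases (F₁ a t).eq_empty_or_nonempty with h1 | ⟨N₀, h₀⟩
  · rw [h1]
    simp
  · have h2 := Finset.sum_le_card_nsmul (F₁ a t) gg (co * (2 ^ (Nat.card G).factorization 2 - 1))
      (fun N hN => gg_F₁ S IH hI hco hcopos hN)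
    have h3 := F₁_sub S IH h₀
    rw [smul_eq_mul] at h2
    calc _ ≤ _ := h2
      _ ≤ 2 * (co * (2 ^ (Nat.card G).factorization 2 - 1)) := Nat.mul_le_mul_right _ h3
      _ = _ := by ring

omit hI in
theorem E₁_mod (h : ∑ N ∈ F₁ a t, gg N ≠ 0) : 2 ^ (Nat.card G).factorization 2 % 3 = 1 := by
  classical
  haveI : Fact (Nat.Prime 2) := ⟨Nat.prime_two⟩
  rcases (F₁ a t).eq_empty_or_nonempty with h1 | ⟨N₀, h₀⟩
  · rw [h1] at h
    simp at h
  · have h2 := part_mod3 S.h 2 (mem_F₁.1 h₀).1.ainv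
    have h3 := vv_F₁ S IH h₀
    unfold vv at h3
    rwa [h3] at h2

omit IH hI in
theorem vv_succ_le {N : Subgroup G} (hN : N ∈ F₂ a t) : vv N + 1 ≤ (Nat.card G).factorization 2 := by
  obtain ⟨h1, h2, h3⟩ := mem_F₂.1 hN
  have h4 := two_mul_dvd S h1.ainv h3
  have h5 := (Nat.factorization_le_iff_dvd (Nat.mul_ne_zero (by norm_num) Nat.card_pos.ne') Nat.card_pos.ne').2 h4 2
  rw [Nat.factorization_mul (by norm_num) Nat.card_pos.ne', Finsupp.add_apply,
    Nat.Prime.factorization_self Nat.prime_two] at h5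
  unfold vv
  omega

omit S IH hI in
theorem vv_pos_of {N : Subgroup G} (h2 : 2 ∣ Nat.card N) : 1 ≤ vv N :=
  (Nat.prime_two.dvd_iff_one_le_factorization Nat.card_pos.ne').1 h2

/-- The case of exponent `3` or `4`. -/
theorem vv_F₂_small (hk : (Nat.card G).factorization 2 = 3 ∨ (Nat.card G).factorization 2 = 4)
    {N : Subgroup G} (hN : N ∈ F₂ a t) : vv N = 2 := by
  haveI : Fact (Nat.Prime 2) := ⟨Nat.prime_two⟩
  obtain ⟨h1, h2, h3⟩ := mem_F₂.1 hN
  have h4 := vv_succ_le S hN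
  have h5 := vv_pos_of h2
  have h6 := part_mod3 S.h 2 h1.ainv
  have h7 : vv N ≤ 3 := by omega
  change 2 ^ vv N % 3 = 1 at h6
  interval_cases (vv N) <;> omega

theorem gg_F₂_small (hk : (Nat.card G).factorization 2 = 3 ∨ (Nat.card G).factorization 2 = 4)
    {N : Subgroup G} (hN : N ∈ F₂ a t) : gg N = 3 * (oo N - 1) + 3 := by
  have h1 := vv_F₂_small S IH hI hk hN
  have h2 := card_eq N
  have h3 := oo_pos N
  rw [h1] at h2
  unfold gg
  omega

/-- The first bound for the `t`-invariant subgroups. -/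
theorem E₂_a (hk : (Nat.card G).factorization 2 = 3 ∨ (Nat.card G).factorization 2 = 4) {co : ℕ}
    (hco : cc t = 2 ^ (Nat.card G).factorization 2 * co) (hcopos : 0 < co) :
    ∑ N ∈ F₂ a t, gg N ≤ 3 * (co - 1) + Ia a := by
  classical
  have h1 : ∑ N ∈ F₂ a t, gg N = 3 * ∑ N ∈ F₂ a t, (oo N - 1) + 3 * (F₂ a t).card := by
    rw [Finset.mul_sum, mul_comm 3 (F₂ a t).card, ← smul_eq_mul, ← Finset.sum_const, ← Finset.sum_add_distrib]
    apply Finset.sum_congr rfl
    intro N hN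
    exact gg_F₂_small S IH hI hk hN
  have h2 : ∑ N ∈ F₂ a t, (oo N - 1) ≤ co - 1 := by
    apply comb_one (F₂ a t) oo co hcopos
    · intro N hN
      obtain ⟨h3, h4, h5⟩ := mem_F₂.1 hN
      exact oo_dvd_co S IH hI hco h3.ainv h4
    · intro N hN N' hN' hc
      obtain ⟨h3, h4, h5⟩ := mem_F₂.1 hN
      obtain ⟨h3', h4', h5'⟩ := mem_F₂.1 hN'
      obtain ⟨r, hr, h6, h7⟩ := Nat.Prime.not_coprime_iff_dvd.1 hc
      haveI : Fact r.Prime := ⟨hr⟩
      have hr2 : r ≠ 2 := by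
        rintro rfl
        exact oo_odd N h6
      rcases eq_or_cj_odd IH S h3 h3' hr2 (h6.trans (Nat.ordCompl_dvd _ 2))
        (h7.trans (Nat.ordCompl_dvd _ 2)) with h8 | h8
      · exact h8
      · rw [h8]
        exact cj_eq_self' (fun n hn => nz_conj h5 hn)
  have h3 : 3 * (F₂ a t).card ≤ Ia a := three_mul_le_Ia S hI (fun N hN =>
    ⟨(mem_F₂.1 hN).1, (mem_F₂.1 hN).2.1⟩)
  omega

/-- The fixed points of `t`. -/
theorem Cn_facts {co : ℕ} (hco : cc t = 2 ^ (Nat.card G).factorization 2 * co) {N : Subgroup G}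
    (hN : N ∈ F₂ a t) : Nat.card (Cn t N) * Nat.card (Cn t N) = Nat.card N ∧ 2 * Nat.card N ≤ cc t ∧
      2 ≤ Nat.card (Cn t N) := by
  obtain ⟨h1, h2, h3⟩ := mem_F₂.1 hN
  have h4 := card_sq_eq S h1.ainv (fun n hn => nz_conj h3 hn)
  refine ⟨h4, ?_, ?_⟩
  · apply Nat.le_of_dvd Nat.card_pos
    have h5 := oo_dvd_co S IH hI hco h1.ainv h2
    have h6 := vv_succ_le S hN
    change 2 * Nat.card N ∣ cc t
    rw [hco, ← card_eq N]
    have h7 : 2 * 2 ^ vv N ∣ 2 ^ (Nat.card G).factorization 2 := by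
      rw [← pow_succ']
      exact pow_dvd_pow 2 (by omega)
    calc 2 * (2 ^ vv N * oo N) = (2 * 2 ^ vv N) * oo N := by ring
      _ ∣ _ := Nat.mul_dvd_mul h7 h5
  · by_contra h5
    have h6 : Nat.card (Cn t N) = 1 := by
      have : 0 < Nat.card (Cn t N) := Nat.card_pos
      omega
    rw [h6] at h4
    have h7 : Nat.card N = 1 := by omega
    rw [h7] at h2
    omega

theorem sum_Cn_le : ∑ N ∈ F₂ a t, (Nat.card (Cn t N) - 1) ≤ cc t - 1 := by
  apply sum_ti_le (K := centralizer ({t} : Set G)) (Cn t)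
  · intro N _
    exact inf_le_right
  · intro N hN N' hN' hne
    obtain ⟨h1, h2, h3⟩ := mem_F₂.1 hN
    obtain ⟨h1', h2', h3'⟩ := mem_F₂.1 hN'
    have h4 := ti_max IH S h1 h1' h3 h3' hne
    rw [eq_bot_iff, ← h4]
    exact le_inf (inf_le_left.trans inf_le_left) (inf_le_right.trans inf_le_left)

/-- The second bound for the `t`-invariant subgroups. -/
theorem E₂_b {co : ℕ} (hco : cc t = 2 ^ (Nat.card G).factorization 2 * co) :
    ∃ M : ℕ, 2 * (M * M) ≤ cc t ∧ ∑ N ∈ F₂ a t, gg N ≤ (M + 1) * (cc t - 1) := by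
  classical
  refine ⟨Nat.sqrt (cc t / 2), ?_, ?_⟩
  · have h1 := Nat.sqrt_le (cc t / 2)
    have h2 := Nat.div_mul_le_self (cc t) 2
    omega
  · set M := Nat.sqrt (cc t / 2) with hM
    have h1 : ∀ N ∈ F₂ a t, gg N ≤ (M + 1) * (Nat.card (Cn t N) - 1) := by
      intro N hN
      obtain ⟨h2, h3, h4⟩ := Cn_facts S IH hI hco hN
      set C := Nat.card (Cn t N) with hC
      have h5 : C ≤ M := by
        rw [hM, Nat.le_sqrt, Nat.le_div_iff_mul_le (by norm_num)]
        rw [← h2] at h3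
        linarith
      have h6 : gg N ≤ C * C - 1 := by
        have := oo_pos N
        unfold gg
        omega
      obtain ⟨C', hC'⟩ : ∃ C', C = C' + 1 := ⟨C - 1, by omega⟩
      rw [hC'] at h5 h6 ⊢
      simp only [Nat.add_sub_cancel] at h6 ⊢
      have h7 : (C' + 1) * (C' + 1) - 1 = (C' + 2) * C' := by
        have : (C' + 1) * (C' + 1) = (C' + 2) * C' + 1 := by ring
        omega
      rw [h7] at h6
      exact h6.trans (Nat.mul_le_mul_right _ (by omega))
    calc ∑ N ∈ F₂ a t, gg N ≤ ∑ N ∈ F₂ a t, (M + 1) * (Nat.card (Cn t N) - 1) := Finset.sum_le_sum h1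
      _ = (M + 1) * ∑ N ∈ F₂ a t, (Nat.card (Cn t N) - 1) := by rw [Finset.mul_sum]
      _ ≤ _ := Nat.mul_le_mul_left _ (sum_Cn_le S IH hI)

/-- The third bound for the `t`-invariant subgroups. -/
theorem E₂_c (hk : (Nat.card G).factorization 2 = 3 ∨ (Nat.card G).factorization 2 = 4)
    (hco : cc t = 2 ^ (Nat.card G).factorization 2 * 1) :
    ∑ N ∈ F₂ a t, gg N ≤ 3 * (cc t - 1) := by
  classical
  have h1 : ∀ N ∈ F₂ a t, gg N ≤ 3 * (Nat.card (Cn t N) - 1) := by
    intro N hN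
    obtain ⟨h2, h3, h4⟩ := mem_F₂.1 hN
    have h5 := gg_F₂_small S IH hI hk hN
    have h6 := oo_dvd_co S IH hI hco h2.ainv h3
    have h7 : oo N = 1 := Nat.dvd_one.1 h6
    have h8 := (Cn_facts S IH hI hco hN).2.2
    rw [h5, h7]
    omega
  calc ∑ N ∈ F₂ a t, gg N ≤ ∑ N ∈ F₂ a t, 3 * (Nat.card (Cn t N) - 1) := Finset.sum_le_sum h1
    _ = 3 * ∑ N ∈ F₂ a t, (Nat.card (Cn t N) - 1) := by rw [Finset.mul_sum]
    _ ≤ _ := Nat.mul_le_mul_left _ (sum_Cn_le S IH hI)

/-- In the case of exponent two. -/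
theorem Ia_le_six (hk : (Nat.card G).factorization 2 = 2) : Ia a ≤ 6 := by
  classical
  haveI : Fact (Nat.Prime 2) := ⟨Nat.prime_two⟩
  have hsub : (Finset.univ.filter (fun p : G => orderOf p = 2 ∧ orderOf (p * a) = 3)) ⊆
      (F₁ a t).biUnion (fun N => elts (rP 2 N)) := by
    intro p hp
    obtain ⟨hp2, hp3⟩ := (Finset.mem_filter.1 hp).2
    obtain ⟨V, hV, hV4, hpV, -⟩ := exists_four S.h hp2 hp3
    obtain ⟨N, hN, hle⟩ := exists_maxA hV
    have h4 : 4 ∣ Nat.card N := by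
      rw [← hV4]
      exact Subgroup.card_dvd_of_le hle
    have h2 : 2 ∣ Nat.card N := (by norm_num : 2 ∣ 4).trans h4
    have hnt : t ∉ nz N := by
      intro ht
      have h5 := vv_succ_le S (mem_F₂.2 ⟨hN, h2, ht⟩)
      have h6 : 2 ≤ vv N := by
        have h7 : (4 : ℕ) = 2 ^ 2 := by norm_num
        rw [h7] at h4
        exact (Nat.Prime.pow_dvd_iff_le_factorization Nat.prime_two Nat.card_pos.ne').1 h4
      omega
    have hmem : N ∈ F₁ a t := mem_F₁.2 ⟨hN, h2, hnt⟩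
    refine Finset.mem_biUnion.2 ⟨N, hmem, mem_elts.2 ⟨?_, ?_⟩⟩
    · apply mem_rP_of_pow 2 (hN.ainv.isNilpotent S.h) (hle hpV) (k := 1)
      rw [pow_one, ← hp2]
      exact pow_orderOf_eq_one p
    · rintro rfl
      simp at hp2
  have h1 : ((F₁ a t).biUnion (fun N => elts (rP 2 N))).card ≤ ∑ N ∈ F₁ a t, (elts (rP 2 N)).card :=
    Finset.card_biUnion_le
  have h2 : ∑ N ∈ F₁ a t, (elts (rP 2 N)).card ≤ 6 := by
    rcases (F₁ a t).eq_empty_or_nonempty with h3 | ⟨N₀, h₀⟩
    · rw [h3]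
      simp
    · have h4 := Finset.sum_le_card_nsmul (F₁ a t) (fun N => (elts (rP 2 N)).card) 3 (by
        intro N hN
        rw [card_elts, card_rP 2 ((mem_F₁.1 hN).1.ainv.isNilpotent S.h)]
        have := vv_F₁ S IH hN
        unfold vv at this
        rw [this, hk]
        norm_num)
      have h5 := F₁_sub S IH h₀
      rw [smul_eq_mul] at h4
      omega
  have h3 := Finset.card_le_card hsub
  have h4 : Ia a = (Finset.univ.filter (fun p : G => orderOf p = 2 ∧ orderOf (p * a) = 3)).card := by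
    unfold Ia
    congr
  omega

end Cfsg.Agent.Lib.FT3Bound
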