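import Mathlib

/-!
# The arithmetic of the final count
-/

set_option autoImplicit false

namespace Cfsg.Agent.Lib.FT3Num

/-- The common hypotheses. -/
structure NData (B X co f d μ Ia Fs E A : ℕ) : Prop where
  hX0 : 0 < X
  hX2 : ¬ 2 ∣ X
  hX3 : ¬ 3 ∣ X
  hco0 : 0 < co
  hco2 : ¬ 2 ∣ co
  hco3 : ¬ 3 ∣ co
  hd1 : 1 ≤ d
  hμ : 1 ≤ μ
  hf : f = d + 3 * μ
  hA : A = f * (f + 1)
  e1 : 16 * X * (μ * μ) = B * (co * co) * A
  e2 : co * Ia * A = X * (3 * (d * d) + 10 * (d * μ) + 3 * (μ * μ) + 3 * d + 5 * μ)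
  e3 : 3 * Fs * A = B * X * (A + 1)
  e4 : 2 * A + 2 ≤ 3 * (B * X)
  hFs : Fs + 1 ≤ 2 * X + E
  hB : 0 < B

section

variable {B X co f d μ Ia Fs E A : ℕ} (D : NData B X co f d μ Ia Fs E A)
include D

theorem A_gt : 9 * (μ * μ) < A := by
  rw [D.hA, D.hf]
  have := D.hd1
  nlinarith [D.hμ]

theorem A_pos : 0 < A := by
  have := A_gt D
  omega

/-- `16 X > 9 B co²`. -/
theorem bound_a : 9 * B * (co * co) < 16 * X := by
  have h1 := A_gt D
  have h2 := D.e1
  have hμ2 : 0 < μ * μ := Nat.mul_pos D.hμ D.hμ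
  have hb : 0 < B * (co * co) := Nat.mul_pos D.hB (Nat.mul_pos D.hco0 D.hco0)
  have h3 : 9 * B * (co * co) * (μ * μ) < 16 * X * (μ * μ) := by
    rw [h2]
    calc 9 * B * (co * co) * (μ * μ) = B * (co * co) * (9 * (μ * μ)) := by ring
      _ < B * (co * co) * A := Nat.mul_lt_mul_of_pos_left h1 hb
  exact Nat.lt_of_mul_lt_mul_right h3

/-- `2 co Ia + 3 B co² < 6 X`. -/
theorem bound_b : 2 * (co * Ia) + 3 * (B * (co * co)) < 6 * X := by
  have hA := A_pos D
  have h1 : (2 * (co * Ia) + 3 * (B * (co * co))) * A + 8 * X * (μ * (2 * d + 1)) = 6 * X * A := by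
    have e1 := D.e1
    have e2 := D.e2
    have hAeq := D.hA
    rw [D.hf] at hAeq
    zify at e1 e2 hAeq ⊢
    rw [hAeq] at e1 e2 ⊢
    linear_combination 2 * e2 - 3 * e1
  have h2 : 0 < 8 * X * (μ * (2 * d + 1)) := by
    have := D.hX0
    have := D.hμ
    positivity
  have h3 : (2 * (co * Ia) + 3 * (B * (co * co))) * A < 6 * X * A := by omega
  exact Nat.lt_of_mul_lt_mul_right h3

/-- The main inequality. -/
theorem bound_c : B * X + 3 < 6 * X + 3 * E := by
  have h1 := D.e3
  have hA := A_pos D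
  have hb : 0 < B * X := Nat.mul_pos D.hB D.hX0
  have h2 : B * X < 3 * Fs := by
    have h3 : (B * X) * A < (3 * Fs) * A := by
      rw [h1, Nat.mul_add, mul_one]
      omega
    exact Nat.lt_of_mul_lt_mul_right h3
  have := D.hFs
  omega

end

/-- The case `B = 4`. -/
theorem case_four {X co f d μ Ia Fs E A : ℕ} (D : NData 4 X co f d μ Ia Fs E A) (hIa : Ia ≤ 6) :
    3 * (4 * X) = 60 := by
  have hA := A_pos D
  have hco0 := D.hco0
  have hco2 := D.hco2
  have hco3 := D.hco3
  have hX0 := D.hX0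
  have hd1 := D.hd1
  have hμ := D.hμ
  -- `Ia * 4 μ² = co N₂`
  set N₂ := 3 * (d * d) + 10 * (d * μ) + 3 * (μ * μ) + 3 * d + 5 * μ with hN₂
  have h1 : Ia * (4 * (μ * μ)) = co * N₂ := by
    have e1 := D.e1
    have e2 := D.e2
    have h2 : co * A * (Ia * (4 * (μ * μ))) = co * A * (co * N₂) := by
      have h3 : co * A * (Ia * (4 * (μ * μ))) = (co * Ia * A) * (4 * (μ * μ)) := by ring
      rw [h3, e2]
      have h4 : X * N₂ * (4 * (μ * μ)) = (16 * X * (μ * μ)) * N₂ / 4 := by
        rw [Nat.eq_div_iff_mul_eq_left (by norm_num) (by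
          exact ⟨4 * X * (μ * μ) * N₂, by ring⟩)]
        ring
      have h5 : 16 * X * (μ * μ) = 4 * (co * co * A) := by
        rw [e1]
        ring
      have h6 : X * N₂ * (4 * (μ * μ)) = (co * co * A) * N₂ := by
        have h7 : 4 * (X * N₂ * (4 * (μ * μ))) = 4 * ((co * co * A) * N₂) := by
          calc 4 * (X * N₂ * (4 * (μ * μ))) = (16 * X * (μ * μ)) * N₂ := by ring
            _ = 4 * (co * co * A) * N₂ := by rw [h5]
            _ = _ := by ring
        omega
      rw [h6]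
      ring
    exact Nat.eq_of_mul_eq_mul_left (Nat.mul_pos hco0 hA) h2
  have hN₂ge : 3 * (μ * μ) + 15 * μ + 6 ≤ N₂ := by
    rw [hN₂]
    nlinarith
  have h8 : co * N₂ ≤ 24 * (μ * μ) := by
    rw [← h1]
    nlinarith
  -- `2 μ² < 3 co²`
  have h9 : 2 * (μ * μ) < 3 * (co * co) := by
    have e1 := D.e1
    have e4 := D.e4
    have h10 : (2 * (μ * μ)) * A < (3 * (co * co)) * A := by
      have h11 : 4 * ((2 * A + 2) * (μ * μ)) ≤ 4 * ((3 * (co * co)) * A) := by
        have h12 : (2 * A + 2) * (μ * μ) ≤ (3 * (4 * X)) * (μ * μ) := Nat.mul_le_mul_right _ e4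
        calc 4 * ((2 * A + 2) * (μ * μ)) ≤ 4 * ((3 * (4 * X)) * (μ * μ)) := Nat.mul_le_mul_left _ h12
          _ = 3 * (16 * X * (μ * μ)) := by ring
          _ = _ := by rw [e1]; ring
      have h13 : 0 < μ * μ := Nat.mul_pos hμ hμ
      nlinarith
    exact Nat.lt_of_mul_lt_mul_right h10
  have hco8 : co < 8 := by
    by_contra hcon
    push Not at hcon
    have : 8 * N₂ ≤ co * N₂ := Nat.mul_le_mul_right _ hcon
    nlinarith
  have hcases : co = 1 ∨ co = 5 ∨ co = 7 := by
    interval_cases co <;> omega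
  rcases hcases with rfl | rfl | rfl
  · have hμ1 : μ = 1 := by nlinarith
    subst hμ1
    have hd : d = 1 := by
      rw [hN₂] at h8
      nlinarith
    subst hd
    have hf := D.hf
    have hAe := D.hA
    rw [hf] at hAe
    have e1 := D.e1
    rw [hAe] at e1
    omega
  · exfalso
    have hμ6 : μ ≤ 6 := by nlinarith
    have : 5 * (3 * (μ * μ) + 15 * μ + 6) ≤ 24 * (μ * μ) := le_trans (Nat.mul_le_mul_left _ hN₂ge) h8
    have h14 : μ * μ ≤ 6 * μ := Nat.mul_le_mul_right μ hμ6
    clear_value N₂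
    clear hN₂ge h8 h1 hA hco0 hco2 hco3 hX0 hd1 hμ hN₂ h9 hμ6
    omega
  · exfalso
    have hμ8 : μ ≤ 8 := by nlinarith
    have : 7 * (3 * (μ * μ) + 15 * μ + 6) ≤ 24 * (μ * μ) := le_trans (Nat.mul_le_mul_left _ hN₂ge) h8
    have h14 : μ * μ ≤ 8 * μ := Nat.mul_le_mul_right μ hμ8
    clear_value N₂
    clear hN₂ge h8 h1 hA hco0 hco2 hco3 hX0 hd1 hμ hN₂ h9 hμ8
    omega

/-- The case `B = 8`. -/
theorem case_eight {X co f d μ Ia Fs E A : ℕ} (D : NData 8 X co f d μ Ia Fs E A)
    (hE : E ≤ 3 * (co - 1) + Ia) (hE' : co = 1 → E ≤ 21) :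
    3 * (8 * X) = 168 := by
  have hco0 := D.hco0
  have hco2 := D.hco2
  have hco3 := D.hco3
  have hX0 := D.hX0
  have hX2 := D.hX2
  have hX3 := D.hX3
  have hμ := D.hμ
  have ha := bound_a D
  have hb := bound_b D
  have hc := bound_c D
  have hco : co = 1 := by
    by_contra hne
    have hco5 : 5 ≤ co := by
      by_contra hlt
      push Not at hlt
      interval_cases co <;> omega
    obtain ⟨c', hc'⟩ : ∃ c', co = c' + 1 := ⟨co - 1, by omega⟩
    have h1 : 8 * X + 3 < 6 * X + 3 * (3 * c' + Ia) := by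
      have h2 : 3 * (co - 1) + Ia = 3 * c' + Ia := by omega
      rw [h2] at hE
      have := hc
      omega
    have h3 : 2 * X + 3 < 9 * c' + 3 * Ia := by omega
    subst hc'
    nlinarith
  subst hco
  have hE21 := hE' rfl
  have hX30 : X < 30 := by omega
  have hX5 : 5 ≤ X := by omega
  have e1 := D.e1
  have e4 := D.e4
  have hA := D.hA
  have hf := D.hf
  have hAX : A = 2 * X * (μ * μ) := by
    have : 16 * X * (μ * μ) = 8 * (1 * 1) * A := e1
    nlinarith
  have hμ2 : μ ≤ 2 := by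
    by_contra hcon
    push Not at hcon
    have h9 : 9 ≤ μ * μ := by nlinarith
    have h18 : 2 * X * 9 ≤ A := by
      rw [hAX]
      exact Nat.mul_le_mul_left _ h9
    omega
  have hf16 : f < 16 := by
    have h1 : A < 240 := by
      rw [hAX]
      have : μ * μ ≤ 4 := by nlinarith
      nlinarith
    rw [hA] at h1
    by_contra hcon
    push Not at hcon
    nlinarith
  interval_cases μ <;> interval_cases f <;> omega

/-- The case `B = 16`. -/
theorem case_sixteen {X co f d μ Ia Fs E A : ℕ} (D : NData 16 X co f d μ Ia Fs E A)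
    (hE : E ≤ 2 * co * 15 + (3 * (co - 1) + Ia)) : False := by
  have hco0 := D.hco0
  have hX0 := D.hX0
  have hX2 := D.hX2
  have hX3 := D.hX3
  have hμ := D.hμ
  have ha := bound_a D
  have hb := bound_b D
  have hc := bound_c D
  obtain ⟨c', hc'⟩ : ∃ c', co = c' + 1 := ⟨co - 1, by omega⟩
  have h2 : 3 * (co - 1) + Ia = 3 * c' + Ia := by omega
  rw [h2] at hE
  have h3 : 10 * X + 3 < 3 * (2 * co * 15 + (3 * c' + Ia)) := by omega
  have hco : co = 1 := by
    by_contra hne
    have hc'1 : 1 ≤ c' := by omega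
    subst hc'
    nlinarith
  subst hco
  have hc0 : c' = 0 := by omega
  subst hc0
  have hX15 : X < 15 := by omega
  have hX9 : 9 < X := by omega
  have e1 := D.e1
  have e4 := D.e4
  have hA := D.hA
  have hf := D.hf
  have hAX : A = X * (μ * μ) := by
    have : 16 * X * (μ * μ) = 16 * (1 * 1) * A := e1
    nlinarith
  have hμ4 : μ ≤ 4 := by
    by_contra hcon
    push Not at hcon
    have h9 : 25 ≤ μ * μ := by nlinarith
    have h18 : X * 25 ≤ A := by
      rw [hAX]
      exact Nat.mul_le_mul_left _ h9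
    omega
  have hf16 : f < 16 := by
    have h1 : A < 240 := by
      rw [hAX]
      have : μ * μ ≤ 16 := by nlinarith
      nlinarith
    rw [hA] at h1
    by_contra hcon
    push Not at hcon
    nlinarith
  interval_cases μ <;> interval_cases f <;> omega

/-- The case `B = 32`. -/
theorem case_32 {X co f d μ Ia Fs E A : ℕ} (D : NData 32 X co f d μ Ia Fs E A) {M : ℕ}
    (hM : 2 * (M * M) ≤ 32 * co) (hE : E ≤ (M + 1) * (32 * co - 1)) : False := by
  have hco0 := D.hco0
  have ha := bound_a D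
  have hc := bound_c D
  have hMco : M * M ≤ 16 * co := by omega
  by_cases hco : co = 1
  · subst hco
    have hM4 : M ≤ 4 := by nlinarith
    have hE' : E ≤ 155 := by
      have : (M + 1) * (32 * 1 - 1) ≤ 5 * 31 := Nat.mul_le_mul (by omega) (by omega)
      omega
    omega
  · have hco2 : 2 ≤ co := by omega
    have h1 : E ≤ (M + 1) * (32 * co) := hE.trans (Nat.mul_le_mul_left _ (by omega))
    have h2 : 26 * X + 3 < 3 * E := by omega
    have h3 : 18 * (co * co) < X := by nlinarith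
    have h4 : 39 * co < 8 * (M + 1) := by
      have h5 : 26 * (18 * (co * co)) < 3 * ((M + 1) * (32 * co)) := by omega
      have h6 : 39 * co * (12 * co) < 8 * (M + 1) * (12 * co) := by nlinarith
      exact Nat.lt_of_mul_lt_mul_right h6
    have h7 : 35 * co < 8 * M := by omega
    nlinarith

/-- The case `B ≥ 64`. -/
theorem case_large {B X co f d μ Ia Fs E A : ℕ} (D : NData B X co f d μ Ia Fs E A) (hB : 64 ≤ B) {M E₁ E₂ : ℕ}
    (hEE : E = E₁ + E₂) (hE₁ : E₁ ≤ 2 * co * (B - 1))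
    (hM : 2 * (M * M) ≤ B * co) (hE₂ : E₂ ≤ (M + 1) * (B * co - 1)) : False := by
  have hco0 := D.hco0
  have hX0 := D.hX0
  have ha := bound_a D
  have hc := bound_c D
  set W := B * co with hW
  have hW64 : 64 ≤ W := by nlinarith
  have h1 : E₁ ≤ 2 * W := by
    refine hE₁.trans ?_
    rw [hW]
    have : B - 1 ≤ B := by omega
    calc 2 * co * (B - 1) ≤ 2 * co * B := Nat.mul_le_mul_left _ this
      _ = 2 * (B * co) := by ring
  have h2 : E₂ ≤ (M + 1) * W := hE₂.trans (Nat.mul_le_mul_left _ (by omega))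
  have h3 : B * X < 6 * X + 3 * (M + 3) * W := by
    have : 3 * E ≤ 3 * (M + 3) * W := by
      rw [hEE]
      nlinarith
    omega
  obtain ⟨B', hB'⟩ : ∃ B', B = B' + 6 := ⟨B - 6, by omega⟩
  have h4 : B' * X < 3 * (M + 3) * W := by
    rw [hB'] at h3
    nlinarith
  have h5 : 9 * W * co < 16 * X := by
    rw [hW]
    calc 9 * (B * co) * co = 9 * B * (co * co) := by ring
      _ < 16 * X := ha
  have h6 : 9 * B' * (W * co) < 48 * (M + 3) * W := by
    have h7 : B' * (9 * W * co) ≤ B' * (16 * X) := Nat.mul_le_mul_left _ h5.le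
    nlinarith
  have h7 : 3 * B' * co < 16 * (M + 3) := by
    have hWpos : 0 < W := by omega
    have h8 : (3 * B' * co) * (3 * W) < (16 * (M + 3)) * (3 * W) := by nlinarith
    exact Nat.lt_of_mul_lt_mul_right h8
  -- numbers
  have h8 : 174 * W ≤ 64 * (3 * B' * co) := by
    rw [hW, hB']
    have : 58 * (B' + 6) ≤ 64 * B' := by omega
    nlinarith
  have h9 : 87 * W < 512 * (M + 3) := by omega
  have h10 : M ≤ 4 := by
    by_contra hcon
    push Not at hcon
    nlinarith
  have h11 : 87 * W < 512 * 7 := by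
    have : 512 * (M + 3) ≤ 512 * 7 := Nat.mul_le_mul_left _ (by omega)
    omega
  omega

end Cfsg.Agent.Lib.FT3Num
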