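import Mathlib
import Cfsg.Agent.Lib.FT3Bound
import Cfsg.Agent.Lib.FT3Num

/-!
# A minimal simple group with a self-centralizing element of order three has order `60` or `168`
-/

set_option autoImplicit false
set_option linter.style.haveILetI false
set_option linter.unusedSectionVars false
set_option linter.unusedVariables false

namespace Cfsg.Agent.Lib.FT3ThmB

open Subgroup Cfsg Cfsg.Agent.Lib.SelfCent Cfsg.Agent.Lib.PCore Cfsg.Agent.Lib.SelfCent2.Hyp'
open Cfsg.Agent.Lib.FT3Basic Cfsg.Agent.Lib.FT3Char Cfsg.Agent.Lib.FT3Coset Cfsg.Agent.Lib.FT3Dich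
open Cfsg.Agent.Lib.FT3Part Cfsg.Agent.Lib.FT3Four Cfsg.Agent.Lib.FT3Local Cfsg.Agent.Lib.FT3Max
open Cfsg.Agent.Lib.FT3Syl Cfsg.Agent.Lib.FT3Even Cfsg.Agent.Lib.FT3Sqrt Cfsg.Agent.Lib.FT3TI
open Cfsg.Agent.Lib.FT3Cover Cfsg.Agent.Lib.FT3Comb Cfsg.Agent.Lib.FT3Bound Cfsg.Agent.Lib.FT3Num

universe u

variable {G : Type u} [Group G] [Fintype G] {a t : G}

theorem two_le_k (S : Setup a t) (hIa : 0 < Ia a) : 2 ≤ (Nat.card G).factorization 2 := by
  classical
  obtain ⟨p, hp⟩ := Finset.card_pos.mp hIa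
  obtain ⟨hp2, hp3⟩ := (Finset.mem_filter.mp hp).2
  obtain ⟨V, hV, hV4, hpV, -⟩ := exists_four S.h hp2 hp3
  have h4 : 2 ^ 2 ∣ Nat.card G := by
    have : Nat.card V ∣ Nat.card G := Subgroup.card_subgroup_dvd_card V
    rw [hV4] at this
    simpa using this
  exact (Nat.Prime.pow_dvd_iff_le_factorization Nat.prime_two Nat.card_pos.ne').1 h4

/-- The result. -/
theorem thmB [IsSimpleGroup G] (hna : ∃ x y : G, x * y ≠ y * x) (IH : IHyp G) (S : Setup a t) :
    Nat.card G = 60 ∨ Nat.card G = 168 := by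
  classical
  obtain ⟨f, y, d, hf, hyf, hd, e0, e1, hI, e2, e3, e4, hIa⟩ := char_main hna S
  obtain ⟨X, hX, hX2, hX3⟩ := exists_shape S
  obtain ⟨co, hco, hco2, hco3, hcopos⟩ := exists_co S hI hX hX2
  have hk2 := two_le_k S hIa
  have hXpos : 0 < X := by
    rcases Nat.eq_zero_or_pos X with rfl | h
    · simp at hX2
    · exact h
  have hd1 : 1 ≤ d := by omega
  set E₁ := ∑ N ∈ F₁ a t, gg N with hE₁
  set E₂ := ∑ N ∈ F₂ a t, gg N with hE₂
  have hFs : Fs a + 1 ≤ 2 * X + (E₁ + E₂) := by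
    have h1 := Fs_le S
    have h2 := sum_split (a := a) (t := t)
    have h3 := sum_oo_le S IH hX hXpos
    omega
  have hE₁le := E₁_le S IH hI hco hcopos
  have hE₁mod := E₁_mod S IH (a := a) (t := t)
  have hEa := E₂_a S IH hI (co := co)
  have hEb := E₂_b S IH hI hco
  have hEc := E₂_c S IH hI (a := a)
  have hIa6 := Ia_le_six S IH hI
  generalize hk : (Nat.card G).factorization 2 = k at *
  rw [← hE₁] at hE₁le hE₁mod
  rw [← hE₂] at hEa hEb hEc
  -- the numbers
  obtain ⟨μ, hμ⟩ : ∃ μ : ℕ, (d : ℤ) - y = μ := ⟨((d : ℤ) - y).toNat, by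
    rw [Int.toNat_of_nonneg]
    omega⟩
  have hy : y = (d : ℤ) - μ := by omega
  have hμ1 : 1 ≤ μ := by omega
  have hfeq : f = d + 3 * μ := by omega
  have hc : ((cc t : ℕ) : ℤ) = (2 ^ k * co : ℕ) := by rw [hco]
  have hG : ((Nat.card G : ℕ) : ℤ) = (3 * (2 ^ k * X) : ℕ) := by rw [← hX]
  set c := Nat.card (centralizer ({t} : Set G)) with hcdef
  have hc' : ((c : ℕ) : ℤ) = (2 ^ k * co : ℕ) := hc
  rw [hc', hG] at e1 e2
  rw [hG] at e3
  set A := f * (f + 1) with hA
  have hAz : (A : ℤ) = f * (f + 1) := by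
    rw [hA]
    push_cast
    ring
  have hBpos : (0 : ℤ) < (2 ^ k : ℕ) := by positivity
  have D : ∀ B : ℕ, B = 2 ^ k → NData B X co f d μ (Ia a) (Fs a) (E₁ + E₂) A := by
    rintro B rfl
    refine ⟨hXpos, hX2, hX3, hcopos, hco2, hco3, hd1, hμ1, hfeq, rfl, ?_, ?_, ?_, ?_, hFs, by positivity⟩
    · -- `e1`
      have h1 : (f : ℤ) - y = 4 * μ := by omega
      rw [h1] at e1
      have h2 : (3 * (2 ^ k : ℕ) : ℤ) * ((16 * X * (μ * μ) : ℕ) : ℤ) =
          (3 * (2 ^ k : ℕ) : ℤ) * ((2 ^ k * (co * co) * A : ℕ) : ℤ) := by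
        push_cast at e1 hBpos ⊢
        rw [hAz]
        linear_combination e1
      have h3 : (3 * (2 ^ k : ℕ) : ℤ) ≠ 0 := by positivity
      exact_mod_cast mul_left_cancel₀ h3 h2
    · -- `e2`
      have h2 : (3 * (2 ^ k : ℕ) : ℤ) * ((co * Ia a * A : ℕ) : ℤ) =
          (3 * (2 ^ k : ℕ) : ℤ) * ((X * (3 * (d * d) + 10 * (d * μ) + 3 * (μ * μ) + 3 * d + 5 * μ) : ℕ) : ℤ) := by
        push_cast at e2 hBpos ⊢
        rw [hAz]
        rw [hy] at e2
        rw [hfeq] at e2 ⊢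
        push_cast at e2 ⊢
        linear_combination e2
      have h3 : (3 * (2 ^ k : ℕ) : ℤ) ≠ 0 := by positivity
      exact_mod_cast mul_left_cancel₀ h3 h2
    · -- `e3`
      have h2 : (3 : ℤ) * ((3 * Fs a * A : ℕ) : ℤ) = (3 : ℤ) * ((2 ^ k * X * (A + 1) : ℕ) : ℤ) := by
        push_cast at e3 hBpos ⊢
        rw [hAz]
        linear_combination e3
      have h3 : (3 : ℤ) ≠ 0 := by norm_num
      exact_mod_cast mul_left_cancel₀ h3 h2
    · -- `e4`
      have h1 : 2 * f * (f + 1) + 2 = 2 * A + 2 := by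
        rw [hA]
        ring
      rw [h1, hX] at e4
      exact e4
  have hcases : k = 2 ∨ k = 3 ∨ k = 4 ∨ k = 5 ∨ 6 ≤ k := by omega
  have hcc : cc t = c := rfl
  rw [hcc] at hco
  rw [hcc] at hEa hEb hEc
  rcases hcases with rfl | rfl | rfl | rfl | h6
  · left
    have h1 := case_four (D 4 (by norm_num)) (hIa6 rfl)
    rw [hX]
    simpa using h1
  · right
    have hE0 : E₁ = 0 := by
      by_contra h1
      have := hE₁mod h1
      omega
    have h1 := case_eight (D 8 (by norm_num)) (by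
      rw [hE0, zero_add]
      exact hEa (Or.inl rfl) hco hcopos) (by
      intro h2
      rw [hE0, zero_add]
      subst h2
      have h3 := hEc (Or.inl rfl) hco
      rw [hco] at h3
      norm_num at h3
      exact h3)
    rw [hX]
    simpa using h1
  · exfalso
    exact case_sixteen (D 16 (by norm_num)) (by
      have h1 := hEa (Or.inr rfl) hco hcopos
      have h2 : E₁ ≤ 2 * co * 15 := by
        refine hE₁le.trans (le_of_eq ?_)
        norm_num
      omega)
  · exfalso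
    have hE0 : E₁ = 0 := by
      by_contra h1
      have := hE₁mod h1
      omega
    obtain ⟨M, hM, hE⟩ := hEb
    rw [hco] at hM hE
    norm_num at hM hE
    exact case_32 (D 32 (by norm_num)) (M := M) (by
      norm_num
      exact hM) (by
      rw [hE0, zero_add]
      norm_num
      exact hE)
  · exfalso
    obtain ⟨M, hM, hE⟩ := hEb
    rw [hco] at hM hE
    have h64 : 64 ≤ 2 ^ k := by
      calc 64 = 2 ^ 6 := by norm_num
        _ ≤ 2 ^ k := Nat.pow_le_pow_right (by norm_num) h6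
    exact case_large (D _ rfl) h64 rfl hE₁le hM hE

end Cfsg.Agent.Lib.FT3ThmB
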