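import Mathlib
import Cfsg.Agent.Lib.FT3ThmB

/-!
# Extensions of the simple groups by `O_{3'}`
-/

set_option autoImplicit false
set_option linter.style.haveILetI false
set_option linter.unusedSectionVars false
set_option linter.unusedVariables false

namespace Cfsg.Agent.Lib.FT3Ext

open Subgroup Cfsg Cfsg.Agent.Lib.SelfCent Cfsg.Agent.Lib.PCore Cfsg.Agent.Lib.SelfCent2.Hyp'
open Cfsg.Agent.Lib.FT3Basic Cfsg.Agent.Lib.FT3Char Cfsg.Agent.Lib.FT3Coset Cfsg.Agent.Lib.FT3Dich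
open Cfsg.Agent.Lib.FT3Part Cfsg.Agent.Lib.FT3Four Cfsg.Agent.Lib.FT3Local Cfsg.Agent.Lib.FT3Max
open Cfsg.Agent.Lib.FT3Syl Cfsg.Agent.Lib.FT3Even Cfsg.Agent.Lib.FT3Sqrt Cfsg.Agent.Lib.FT3TI
open Cfsg.Agent.Lib.FT3Cover Cfsg.Agent.Lib.FT3Comb Cfsg.Agent.Lib.FT3Bound Cfsg.Agent.Lib.FT3Num
open Cfsg.Agent.Lib.FT3ThmB

universe u

variable {X : Type u} [Group X]

/-- The elements acting trivially on `O / K`. -/
def Act (O K : Subgroup X) [hO : O.Normal] [hK : K.Normal] : Subgroup X where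
  carrier := {g | ∀ o ∈ O, g * o * g⁻¹ * o⁻¹ ∈ K}
  one_mem' := by
    intro o _
    simp [K.one_mem]
  mul_mem' := by
    intro g₁ g₂ h₁ h₂ o ho
    have h3 := hK.conj_mem _ (h₂ o ho) g₁
    have h4 := K.mul_mem h3 (h₁ o ho)
    have h5 : g₁ * (g₂ * o * g₂⁻¹ * o⁻¹) * g₁⁻¹ * (g₁ * o * g₁⁻¹ * o⁻¹) = g₁ * g₂ * o * (g₁ * g₂)⁻¹ * o⁻¹ := by
      group
    rwa [h5] at h4
  inv_mem' := by
    intro g hg o ho
    have h1 : g⁻¹ * o * g ∈ O := by
      have := hO.conj_mem o ho g⁻¹
      simpa using this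
    have h2 := K.inv_mem (hg _ h1)
    have h3 : (g * (g⁻¹ * o * g) * g⁻¹ * (g⁻¹ * o * g)⁻¹)⁻¹ = g⁻¹ * o * g⁻¹⁻¹ * o⁻¹ := by
      group
    rwa [h3] at h2

theorem mem_Act {O K : Subgroup X} [hO : O.Normal] [hK : K.Normal] {g : X} :
    g ∈ Act O K ↔ ∀ o ∈ O, g * o * g⁻¹ * o⁻¹ ∈ K := Iff.rfl

instance Act_normal (O K : Subgroup X) [hO : O.Normal] [hK : K.Normal] : (Act O K).Normal := by
  constructor
  intro g hg x o ho
  have h1 : x⁻¹ * o * x ∈ O := by
    have := hO.conj_mem o ho x⁻¹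
    simpa using this
  have h2 := hK.conj_mem _ (hg _ h1) x
  have h3 : x * (g * (x⁻¹ * o * x) * g⁻¹ * (x⁻¹ * o * x)⁻¹) * x⁻¹ = x * g * x⁻¹ * o * (x * g * x⁻¹)⁻¹ * o⁻¹ := by
    group
  rwa [h3] at h2

/-- A normal subgroup properly containing `O` is everything. -/
theorem normal_top {O : Subgroup X} [hO : O.Normal] (hs : IsSimpleGroup (X ⧸ O)) {S : Subgroup X} (hS : S.Normal)
    (hOS : O ≤ S) {y : X} (hy : y ∈ S) (hyO : y ∉ O) : S = ⊤ := by
  have h1 : (S.map (QuotientGroup.mk' O)).Normal := hS.map _ (QuotientGroup.mk'_surjective O)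
  rcases h1.eq_bot_or_eq_top with h2 | h2
  · exfalso
    apply hyO
    have h3 : QuotientGroup.mk' O y ∈ S.map (QuotientGroup.mk' O) := ⟨y, hy, rfl⟩
    rw [h2, Subgroup.mem_bot] at h3
    exact (QuotientGroup.eq_one_iff y).mp h3
  · rw [eq_top_iff]
    intro x _
    have h3 : QuotientGroup.mk' O x ∈ S.map (QuotientGroup.mk' O) := by
      rw [h2]
      trivial
    obtain ⟨s, hs', he⟩ := h3
    have h4 : s⁻¹ * x ∈ O := QuotientGroup.eq.mp he
    have h5 : x = s * (s⁻¹ * x) := by group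
    rw [h5]
    exact S.mul_mem hs' (hOS h4)

variable [Finite X] {b t : X}

/-- Fixed cosets. -/
theorem mem_of_coset (h : Hyp 3 b) {N K : Subgroup X} (hN : AInv b N) (hKN : K ≤ N)
    (hK : ∀ k ∈ K, b * k * b⁻¹ ∈ K) {n : X} (hn : n ∈ N) (hc : n⁻¹ * (b * n * b⁻¹) ∈ K) : n ∈ K := by
  have h1 := Cfsg.Agent.Lib.T64.mem_of_fix_coset (rho_fpf h hN) (M := K.subgroupOf N) (a := ⟨n, hn⟩)
    (by
      intro m hm
      rw [Subgroup.mem_subgroupOf] at hm ⊢
      exact hK _ hm)
    (by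
      rw [Subgroup.mem_subgroupOf]
      simpa [rho_coe] using hc)
  exact (Subgroup.mem_subgroupOf).1 h1

/-- Elements of coprime prime power orders commute in a nilpotent subgroup. -/
theorem comm_of_coprime {N : Subgroup X} (hnil : Group.IsNilpotent N) {r s : ℕ} [hr : Fact r.Prime]
    [hs : Fact s.Prime] (hrs : r ≠ s) {x y : X} (hx : x ∈ N) (hy : y ∈ N) {k l : ℕ} (hk : x ^ r ^ k = 1)
    (hl : y ^ s ^ l = 1) : x * y = y * x := by
  have h1 := mem_rP_of_pow r hnil hx hk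
  have h2 := mem_rP_of_pow s hnil hy hl
  obtain ⟨x', hx', rfl⟩ := h1
  obtain ⟨y', hy', rfl⟩ := h2
  have hdis : Disjoint (pCore r ↥N) (pCore s ↥N) := by
    rw [Subgroup.disjoint_def]
    intro w hw hw'
    obtain ⟨m, hm⟩ := isPGroup_pCore r (G := ↥N) ⟨w, hw⟩
    obtain ⟨m', hm'⟩ := isPGroup_pCore s (G := ↥N) ⟨w, hw'⟩
    have hm1 : w ^ r ^ m = 1 := by simpa using congrArg Subtype.val hm
    have hm2 : w ^ s ^ m' = 1 := by simpa using congrArg Subtype.val hm'
    have hcop : Nat.Coprime (r ^ m) (s ^ m') :=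
      Nat.Coprime.pow _ _ ((Nat.coprime_primes hr.out hs.out).2 hrs)
    have h9 := Nat.eq_one_of_dvd_coprimes hcop (orderOf_dvd_of_pow_eq_one hm1) (orderOf_dvd_of_pow_eq_one hm2)
    exact orderOf_eq_one_iff.1 h9
  have := Subgroup.commute_of_normal_of_disjoint _ _ (pCore_normal r ↥N) (pCore_normal s ↥N) hdis x' y' hx' hy'
  exact congrArg Subtype.val this.eq

section Quot

variable (St : Setup b t)
include St

/-- The preimage of an invariant subgroup. -/
theorem ainv_comap {V : Subgroup (X ⧸ pPrimeCore 3 X)} (hV : AInv (b : X ⧸ pPrimeCore 3 X) V) :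
    AInv b (V.comap (QuotientGroup.mk' (pPrimeCore 3 X))) := by
  classical
  set O := pPrimeCore 3 X with hO
  haveI : Fact (Nat.Prime 3) := ⟨Nat.prime_three⟩
  have hnd : ¬ 3 ∣ Nat.card O := O_nd
  refine ⟨?_, ?_⟩
  · intro n hn
    rw [Subgroup.mem_comap] at hn ⊢
    have := hV.inv _ hn
    simpa using this
  · intro h3
    obtain ⟨y', hy'⟩ := exists_prime_orderOf_dvd_card' (p := 3) (G := V.comap (QuotientGroup.mk' O)) h3
    have hy1 : (y' : X) ∈ V.comap (QuotientGroup.mk' O) := y'.2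
    have hy2 : orderOf (y' : X) = 3 := by rw [← hy', Subgroup.orderOf_coe]
    rw [Subgroup.mem_comap] at hy1
    have h5 : orderOf (QuotientGroup.mk' O (y' : X)) ∣ 3 := by
      rw [← hy2]
      exact orderOf_map_dvd _ _
    rcases (Nat.dvd_prime Nat.prime_three).1 h5 with h6 | h6
    · rw [orderOf_eq_one_iff] at h6
      have h7 : (y' : X) ∈ O := (QuotientGroup.eq_one_iff _).mp h6
      have h8 : orderOf (⟨_, h7⟩ : O) ∣ Nat.card O := orderOf_dvd_natCard _
      rw [Subgroup.orderOf_mk, hy2] at h8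
      exact hnd h8
    · have h4 : orderOf (⟨_, hy1⟩ : V) ∣ Nat.card V := orderOf_dvd_natCard _
      rw [Subgroup.orderOf_mk, h6] at h4
      exact hV.nd h4

/-- `b`, `t` in the quotient. -/
theorem setup_quot : Setup (b : X ⧸ pPrimeCore 3 X) (t : X ⧸ pPrimeCore 3 X) := by
  classical
  set O := pPrimeCore 3 X with hO
  haveI : Fact (Nat.Prime 3) := ⟨Nat.prime_three⟩
  have hnd : ¬ 3 ∣ Nat.card O := O_nd
  have hb : Hyp 3 (b : X ⧸ O) := ⟨Nat.prime_three, St.h.orderOf_mk hnd, St.h.centralizer_mk hnd⟩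
  have hsq : t * t = 1 := St.sq
  refine ⟨hb, ?_, ?_⟩
  · haveI : Fact (Nat.Prime 2) := ⟨Nat.prime_two⟩
    apply orderOf_eq_prime
    · rw [pow_two, ← QuotientGroup.mk_mul, hsq]
      rfl
    · intro h1
      have h2 : t ∈ O := (QuotientGroup.eq_one_iff t).mp h1
      exact t_not_mem AInv_O St h2
  · have := congrArg (fun w : X => (w : X ⧸ O)) St.hta
    simpa using this

/-- The preimage of an invariant four-group. -/
theorem simple_four' (hs : IsSimpleGroup (X ⧸ pPrimeCore 3 X)) (hna : ∃ x y : X ⧸ pPrimeCore 3 X, x * y ≠ y * x) :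
    ∃ Y : Subgroup X, AInv b Y ∧ pPrimeCore 3 X ≤ Y ∧ (∃ y ∈ Y, y ∉ pPrimeCore 3 X) ∧
      ∀ y ∈ Y, y * y ∈ pPrimeCore 3 X := by
  classical
  set O := pPrimeCore 3 X with hO
  haveI : Fintype (X ⧸ O) := Fintype.ofFinite _
  have hT := setup_quot St
  obtain ⟨f, y, d, -, -, -, -, -, -, -, -, -, hIa⟩ := char_main hna hT
  obtain ⟨p, hp⟩ := Finset.card_pos.mp hIa
  obtain ⟨hp2, hp3⟩ := (Finset.mem_filter.mp hp).2
  obtain ⟨V, hV, hV4, hpV, q, r, -, -, -, hq, hr, -, -, -, hmem⟩ := exists_four hT.h hp2 hp3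
  have hsq : ∀ w ∈ V, w * w = 1 := by
    intro w hw
    have hinv : ∀ u : X ⧸ O, orderOf u = 2 → u * u = 1 := by
      intro u hu
      have := pow_orderOf_eq_one u
      rwa [hu, pow_two] at this
    rcases (hmem w).1 hw with rfl | rfl | rfl | rfl
    · simp
    · exact hinv _ hp2
    · exact hinv _ hq
    · exact hinv _ hr
  refine ⟨V.comap (QuotientGroup.mk' O), ainv_comap St hV, ?_, ?_, ?_⟩
  · intro x hx
    rw [Subgroup.mem_comap]
    have : QuotientGroup.mk' O x = 1 := (QuotientGroup.eq_one_iff _).mpr hx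
    rw [this]
    exact one_mem _
  · obtain ⟨x, rfl⟩ := QuotientGroup.mk_surjective p
    refine ⟨x, ?_, ?_⟩
    · rw [Subgroup.mem_comap]
      exact hpV
    · intro h3
      have h5 : ((x : X ⧸ O)) = 1 := (QuotientGroup.eq_one_iff _).mpr h3
      rw [h5, orderOf_one] at hp2
      omega
  · intro w hw
    rw [Subgroup.mem_comap] at hw
    have := hsq _ hw
    apply (QuotientGroup.eq_one_iff _).mp
    rw [QuotientGroup.mk_mul]
    exact this

/-- The structure of `O`. -/
theorem O_struct (hs : IsSimpleGroup (X ⧸ pPrimeCore 3 X)) (hna : ∃ x y : X ⧸ pPrimeCore 3 X, x * y ≠ y * x) :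
    (∀ x ∈ pPrimeCore 3 X, ∀ y ∈ pPrimeCore 3 X, x * y = y * x) ∧ ∀ x ∈ pPrimeCore 3 X, x * x = 1 := by
  classical
  have h := St.h
  obtain ⟨Y, hY, hOY, ⟨y₀, hy₀, hy₀O⟩, hsq⟩ := simple_four' St hs hna
  set O := pPrimeCore 3 X with hO
  have hnO : O.Normal := O_normal
  have hAO : AInv b O := AInv_O
  -- step A
  have habel : ∀ x ∈ O, ∀ y ∈ O, x * y = y * x := by
    let Zo : Subgroup X := O ⊓ centralizer (O : Set X)
    haveI hZo : Zo.Normal := Subgroup.normal_inf_normal _ _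
    have hYA : Y ≤ Act O Zo := by
      intro y hy o ho
      have h1 : y * o * y⁻¹ * o⁻¹ ∈ O := O.mul_mem (hnO.conj_mem o ho y) (O.inv_mem ho)
      refine Subgroup.mem_inf.2 ⟨h1, ?_⟩
      rw [mem_centralizer_iff]
      intro z hz
      have h2 := hY.comm_central h ⟨y, hy⟩ ⟨o, hOY ho⟩ ⟨z, hOY hz⟩
      have h3 := congrArg Subtype.val h2
      simp only [Subgroup.coe_mul, commutatorElement_def, Subgroup.coe_inv] at h3
      exact h3.symm
    have htop := normal_top hs (Act_normal O Zo) (hOY.trans hYA) (hYA hy₀) hy₀O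
    have hb : b ∈ Act O Zo := by
      rw [htop]
      trivial
    have hle : ∀ o ∈ O, o ∈ Zo := by
      intro o ho
      apply mem_of_coset h hAO inf_le_left (fun k hk => hZo.conj_mem k hk b) ho
      have h1 := hb o ho
      have h2 := hZo.conj_mem _ h1 o⁻¹
      have h3 : o⁻¹ * (b * o * b⁻¹ * o⁻¹) * o⁻¹⁻¹ = o⁻¹ * (b * o * b⁻¹) := by group
      rwa [h3] at h2
    intro x hx y hy
    have h1 := (Subgroup.mem_inf.1 (hle y hy)).2
    rw [mem_centralizer_iff] at h1
    exact h1 x hx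
  refine ⟨habel, ?_⟩
  -- step B
  let Om : Subgroup X :=
    { carrier := {o | o ∈ O ∧ o * o = 1}
      one_mem' := ⟨O.one_mem, by simp⟩
      mul_mem' := by
        rintro x y ⟨h1, h2⟩ ⟨h3, h4⟩
        refine ⟨O.mul_mem h1 h3, ?_⟩
        calc x * y * (x * y) = x * (y * x) * y := by group
          _ = x * (x * y) * y := by rw [habel y h3 x h1]
          _ = (x * x) * (y * y) := by group
          _ = 1 := by rw [h2, h4, one_mul]
      inv_mem' := by
        rintro x ⟨h1, h2⟩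
        refine ⟨O.inv_mem h1, ?_⟩
        rw [← mul_inv_rev, h2, inv_one] }
  have hOm : ∀ o, o ∈ Om ↔ o ∈ O ∧ o * o = 1 := fun o => Iff.rfl
  haveI hOmn : Om.Normal := by
    constructor
    intro n hn g
    obtain ⟨h1, h2⟩ := (hOm n).1 hn
    refine (hOm _).2 ⟨hnO.conj_mem n h1 g, ?_⟩
    calc g * n * g⁻¹ * (g * n * g⁻¹) = g * (n * n) * g⁻¹ := by group
      _ = 1 := by rw [h2]; group
  have hYB : Y ≤ Act O Om := by
    intro y hy o ho
    set w := y * o * y⁻¹ * o⁻¹ with hw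
    have h1 : w ∈ O := O.mul_mem (hnO.conj_mem o ho y) (O.inv_mem ho)
    refine (hOm w).2 ⟨h1, ?_⟩
    have h2 := hY.comm_central h ⟨y, hy⟩ ⟨o, hOY ho⟩ ⟨y, hy⟩
    have h3 := congrArg Subtype.val h2
    simp only [Subgroup.coe_mul, commutatorElement_def, Subgroup.coe_inv] at h3
    -- `w` commutes with `y`
    have h4 : w * y = y * w := h3
    have hyo : y * o * y⁻¹ = w * o := by
      rw [hw]
      group
    have h5 : y * (y * o * y⁻¹) * y⁻¹ = w * w * o := by
      rw [hyo]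
      have h6 : y * w * y⁻¹ = w := by
        rw [← h4]
        group
      calc y * (w * o) * y⁻¹ = (y * w * y⁻¹) * (y * o * y⁻¹) := by group
        _ = w * (w * o) := by rw [h6, hyo]
        _ = _ := by group
    have h6 : y * (y * o * y⁻¹) * y⁻¹ = o := by
      have h7 : (y * y) * o = o * (y * y) := habel _ (hsq y hy) _ ho
      calc y * (y * o * y⁻¹) * y⁻¹ = (y * y) * o * (y * y)⁻¹ := by group
        _ = o * (y * y) * (y * y)⁻¹ := by rw [h7]
        _ = o := by group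
    rw [h6] at h5
    have h8 : w * w * o = 1 * o := by rw [← h5, one_mul]
    exact mul_right_cancel h8
  have htop := normal_top hs (Act_normal O Om) (hOY.trans hYB) (hYB hy₀) hy₀O
  have hb : b ∈ Act O Om := by
    rw [htop]
    trivial
  intro o ho
  have h1 : o ∈ Om := by
    apply mem_of_coset h hAO (fun x hx => ((hOm x).1 hx).1) (fun k hk => hOmn.conj_mem k hk b) ho
    have h1 := hb o ho
    have h2 := hOmn.conj_mem _ h1 o⁻¹
    have h3 : o⁻¹ * (b * o * b⁻¹ * o⁻¹) * o⁻¹⁻¹ = o⁻¹ * (b * o * b⁻¹) := by group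
    rwa [h3] at h2
  exact ((hOm o).1 h1).2

/-- The group of order `168` has no normal `3'`-subgroup. -/
theorem O_bot_168 (hs : IsSimpleGroup (X ⧸ pPrimeCore 3 X)) (hna : ∃ x y : X ⧸ pPrimeCore 3 X, x * y ≠ y * x)
    (hc : Nat.card (X ⧸ pPrimeCore 3 X) = 168) : pPrimeCore 3 X = ⊥ := by
  classical
  have h := St.h
  obtain ⟨habel, hexp⟩ := O_struct St hs hna
  have hT := setup_quot St
  set O := pPrimeCore 3 X with hO
  have hnO : O.Normal := O_normal
  have hAO : AInv b O := AInv_O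
  haveI h7 : Fact (Nat.Prime 7) := ⟨by norm_num⟩
  haveI h3 : Fact (Nat.Prime 3) := ⟨Nat.prime_three⟩
  set bb : X ⧸ O := (b : X ⧸ O) with hbb
  have hZ : IsPGroup 3 (zpowers bb) := hT.h.isPGroup_zpowers
  letI hact : MulAction (zpowers bb) (Sylow 7 (X ⧸ O)) := MulAction.compHom _ (zpowers bb).subtype
  obtain ⟨P₀⟩ : Nonempty (Sylow 7 (X ⧸ O)) := inferInstance
  have hfac : (168 : ℕ).factorization 7 = 1 := by
    have e : (168 : ℕ) = 7 * 24 := by norm_num
    rw [e, Nat.factorization_mul (by norm_num) (by norm_num), Finsupp.add_apply,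
      Nat.Prime.factorization_self (by norm_num), Nat.factorization_eq_zero_of_not_dvd (by norm_num)]
  have hP₀ : ∀ P : Sylow 7 (X ⧸ O), Nat.card P = 7 := by
    intro P
    rw [P.card_eq_multiplicity, hc, hfac, pow_one]
  have hidx : (P₀ : Subgroup (X ⧸ O)).index = 24 := by
    have h1 := Subgroup.card_mul_index (P₀ : Subgroup (X ⧸ O))
    rw [hP₀, hc] at h1
    omega
  have hd : Nat.card (Sylow 7 (X ⧸ O)) ∣ 24 := by
    rw [← hidx]
    exact Sylow.card_dvd_index P₀
  have hm := card_sylow_modEq_one 7 (X ⧸ O)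
  have hn3 : ¬ 3 ∣ Nat.card (Sylow 7 (X ⧸ O)) := by
    have hle : Nat.card (Sylow 7 (X ⧸ O)) ≤ 24 := Nat.le_of_dvd (by norm_num) hd
    unfold Nat.ModEq at hm
    generalize Nat.card (Sylow 7 (X ⧸ O)) = n at *
    interval_cases n <;> omega
  obtain ⟨P, hP⟩ := hZ.nonempty_fixed_point_of_prime_not_dvd_card (Sylow 7 (X ⧸ O)) hn3
  have hPb : bb • P = P := by
    have := hP ⟨bb, mem_zpowers bb⟩
    exact this
  have hPinv : ∀ x ∈ (P : Subgroup (X ⧸ O)), bb * x * bb⁻¹ ∈ (P : Subgroup (X ⧸ O)) := by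
    intro x hx
    have h1 : ((bb • P : Sylow 7 (X ⧸ O)) : Subgroup (X ⧸ O)) = P := by rw [hPb]
    rw [← h1, Sylow.coe_subgroup_smul]
    exact ⟨x, hx, rfl⟩
  have hPA : AInv bb (P : Subgroup (X ⧸ O)) := ⟨hPinv, by
    rw [hP₀]
    norm_num⟩
  have hYA := ainv_comap St hPA
  have hOY : O ≤ (P : Subgroup (X ⧸ O)).comap (QuotientGroup.mk' O) := by
    intro x hx
    rw [Subgroup.mem_comap]
    have : QuotientGroup.mk' O x = 1 := (QuotientGroup.eq_one_iff _).mpr hx
    rw [this]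
    exact one_mem _
  have h7d : 7 ∣ Nat.card P := by rw [hP₀]
  obtain ⟨pp, hpp⟩ := exists_prime_orderOf_dvd_card' (p := 7) (G := P) h7d
  have hpp' : orderOf (pp : X ⧸ O) = 7 := by rw [Subgroup.orderOf_coe]; exact hpp
  obtain ⟨x, hx⟩ := QuotientGroup.mk_surjective (pp : X ⧸ O)
  have hxY : x ∈ (P : Subgroup (X ⧸ O)).comap (QuotientGroup.mk' O) := by
    rw [Subgroup.mem_comap]
    have : QuotientGroup.mk' O x = pp := hx
    rw [this]
    exact pp.2
  set y := x * x with hy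
  have hyY : y ∈ (P : Subgroup (X ⧸ O)).comap (QuotientGroup.mk' O) := Subgroup.mul_mem _ hxY hxY
  have hyO : y ∉ O := by
    intro h1
    have h2 : ((y : X) : X ⧸ O) = 1 := (QuotientGroup.eq_one_iff _).mpr h1
    rw [hy, QuotientGroup.mk_mul] at h2
    have hx' : ((x : X) : X ⧸ O) = pp := hx
    rw [hx'] at h2
    have h3 := orderOf_dvd_of_pow_eq_one (show (pp : X ⧸ O) ^ 2 = 1 by rw [pow_two]; exact h2)
    rw [hpp'] at h3
    omega
  have hy7 : y ^ 7 ^ 1 = 1 := by
    have h1 : x ^ 7 ∈ O := by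
      apply (QuotientGroup.eq_one_iff _).mp
      rw [QuotientGroup.mk_pow]
      have hx' : ((x : X) : X ⧸ O) = pp := hx
      have h9 := pow_orderOf_eq_one (pp : X ⧸ O)
      rw [hpp'] at h9
      rw [hx']
      exact h9
    have h2 := hexp _ h1
    have h3 : y ^ 7 ^ 1 = x ^ 7 * x ^ 7 := by
      rw [hy, pow_one, ← pow_two, ← pow_mul, ← pow_add]
    rw [h3]
    exact h2
  -- the centralizer of `O`
  have hnil := hYA.isNilpotent h
  haveI : Fact (Nat.Prime 2) := ⟨Nat.prime_two⟩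
  have hcy : y ∈ centralizer (O : Set X) := by
    rw [mem_centralizer_iff]
    intro o ho
    have ho2 : o ^ 2 ^ 1 = 1 := by
      rw [pow_one, pow_two]
      exact hexp o ho
    exact comm_of_coprime hnil (r := 2) (s := 7) (by norm_num) (hOY ho) hyY ho2 hy7
  have hOC : O ≤ centralizer (O : Set X) := by
    intro o ho
    rw [mem_centralizer_iff]
    intro o' ho'
    exact habel o' ho' o ho
  have htop := normal_top hs (S := centralizer (O : Set X)) inferInstance hOC hcy hyO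
  have hb : b ∈ centralizer (O : Set X) := by
    rw [htop]
    trivial
  rw [eq_bot_iff]
  intro o ho
  rw [Subgroup.mem_bot]
  apply hAO.eq_one_of_fix h ho
  have := (mem_centralizer_iff.1 hb) o ho
  rw [← this]
  group

end Quot

section Main

/-- **The main induction.** -/
theorem conc_all : ∀ (n : ℕ) (X : Type u) [Group X] [Finite X] (b : X), Nat.card X = n → Hyp 3 b → Conc X := by
  intro n
  induction n using Nat.strong_induction_on with
  | _ n ih =>
    intro X _ _ b hcard h hs hna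
    classical
    -- a setup
    obtain ⟨t, St⟩ : ∃ t, Setup b t := by
      rcases dichotomy h with h1 | ⟨t, St, -⟩ | ⟨⟨t, St⟩, -⟩
      · exfalso
        obtain ⟨x, y, hxy⟩ := hna
        apply hxy
        obtain ⟨x, rfl⟩ := QuotientGroup.mk_surjective x
        obtain ⟨y, rfl⟩ := QuotientGroup.mk_surjective y
        obtain ⟨m, hm, k, hk⟩ := (mem_M h _).1 (h1 x)
        obtain ⟨m', hm', l, hl⟩ := (mem_M h _).1 (h1 y)
        have e1 : ((m : X) : X ⧸ pPrimeCore 3 X) = 1 := (QuotientGroup.eq_one_iff _).mpr hm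
        have e2 : ((m' : X) : X ⧸ pPrimeCore 3 X) = 1 := (QuotientGroup.eq_one_iff _).mpr hm'
        rw [hk, hl, QuotientGroup.mk_mul, QuotientGroup.mk_mul, e1, e2, one_mul, one_mul,
          QuotientGroup.mk_zpow, QuotientGroup.mk_zpow]
        exact (Commute.refl (b : X ⧸ pPrimeCore 3 X)).zpow_zpow k l
      · exact ⟨t, St⟩
      · exact ⟨t, St⟩
    set O := pPrimeCore 3 X with hO
    have hnO : O.Normal := O_normal
    haveI : Fintype (X ⧸ O) := Fintype.ofFinite _
    have hT := setup_quot St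
    have hcardU : Nat.card (X ⧸ O) ≤ Nat.card X := by
      have h1 := Subgroup.card_eq_card_quotient_mul_card_subgroup O
      have h2 : 0 < Nat.card O := Nat.card_pos
      have h3 : 0 < Nat.card (X ⧸ O) := Nat.card_pos
      nlinarith
    have hIH : IHyp (X ⧸ O) := by
      intro H hH c hc
      refine ih (Nat.card H) ?_ H c rfl hc
      have h1 : Nat.card H < Nat.card (X ⧸ O) := by
        have h2 := Subgroup.card_le_card_group H
        refine lt_of_le_of_ne h2 ?_
        intro h3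
        exact hH (Subgroup.eq_top_of_card_eq H h3)
      omega
    have h60 := thmB hna hIH hT
    obtain ⟨habel, hexp⟩ := O_struct St hs hna
    have hXc : Nat.card X = Nat.card (X ⧸ O) * Nat.card O := Subgroup.card_eq_card_quotient_mul_card_subgroup O
    rcases h60 with h1 | h1
    · left
      refine ⟨by rw [hXc, h1], ?_, hexp, habel⟩
      intro x
      refine ⟨1, ?_⟩
      apply Subtype.ext
      simpa [pow_two] using hexp x x.2
    · right
      have h2 := O_bot_168 St hs hna h1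
      refine ⟨h2, ?_⟩
      have h3 : Nat.card O = 1 := by
        have e : O = ⊥ := h2
        rw [e, Subgroup.card_bot]
      rw [hXc, h1, h3]

end Main

end Cfsg.Agent.Lib.FT3Ext
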