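import Mathlib
import Cfsg.Agent.Lib.CharBasic
import Cfsg.Agent.Lib.CharNormal
import Cfsg.Agent.Lib.CharNormalProj
import Cfsg.Agent.Lib.CharCentral
import Cfsg.Agent.Lib.CharKernel
import Cfsg.Agent.Lib.CharCodegP
import Cfsg.Agent.Lib.RealChars

/-!
# Degree bounds of Feit and Thompson for a trivial-intersection abelian subgroup

`H` is abelian, meets the centre trivially and each non-central element has a centralizer meeting
at most one conjugate of `H`.  The constituents of `χ|_N` (`N = N_G(H)`) not trivial on `H`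
vanish on all elements of `N` commuting with no element of `H^#`.  A norm count gives
`|H| c^2 < χ(1)^2`, and the square `χ * conj χ` gives `|H| < (1 + χ(1))^2`.
-/

set_option autoImplicit false
set_option linter.unusedSectionVars false

namespace Cfsg.Agent.Lib.FTDegree

open Cfsg Cfsg.Agent.Lib.CharBasic
open scoped ComplexConjugate

universe u

section Norm

variable {N : Type u} [Group N] [Fintype N]

/-- Sum of squared moduli of a natural combination of irreducible characters. -/
theorem sum_normSq_decomp (m : IrrCharacter N → ℕ) :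
    ∑ x, Complex.normSq ((∑ i, m i • (i : N → ℂ)) x) = (Nat.card N : ℝ) * ((∑ i, m i ^ 2 : ℕ) : ℝ) := by
  classical
  have h := classInner_nat_decomp_self m
  have hne : (Nat.card N : ℂ) ≠ 0 := natCard_ne_zero'
  unfold classInner at h
  have h2 : ∑ x, (∑ i, m i • (i : N → ℂ)) x * conj ((∑ i, m i • (i : N → ℂ)) x) =
      (Nat.card N : ℂ) * ((∑ i, m i ^ 2 : ℕ) : ℂ) := by
    field_simp at h
    exact h
  have h3 : ((∑ x, Complex.normSq ((∑ i, m i • (i : N → ℂ)) x) : ℝ) : ℂ) =
      (((Nat.card N : ℝ) * ((∑ i, m i ^ 2 : ℕ) : ℝ) : ℝ) : ℂ) := by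
    push_cast at h2 ⊢
    rw [← h2]
    refine Finset.sum_congr rfl fun x _ => ?_
    rw [Complex.mul_conj]
  exact_mod_cast h3

/-- The projection of a character on the constituents trivial on a normal subgroup `A`
has squared norm smaller by at least one if `A` is not in the kernel. -/
theorem norm_proj_add_card_le {ζ : N → ℂ} (hζ : IsCharacter N ζ) (A : Subgroup N) [A.Normal]
    [Fintype A] (hA : ∃ x ∈ A, ζ x ≠ ζ 1) :
    ∑ x, Complex.normSq ((Nat.card A : ℂ)⁻¹ * ∑ n : A, ζ (n * x)) + (Nat.card N : ℝ) ≤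
      ∑ x, Complex.normSq (ζ x) := by
  classical
  obtain ⟨m, rfl⟩ := exists_nat_decomp hζ
  have hne : (Nat.card A : ℂ) ≠ 0 := natCard_ne_zero'
  let P : IrrCharacter N → Prop := fun i => ∀ x ∈ A, (i : N → ℂ) x = (i : N → ℂ) 1
  let e : IrrCharacter N → ℕ := fun i => if P i then 1 else 0
  have key : ∀ i : IrrCharacter N, ∀ x, (Nat.card A : ℂ)⁻¹ * ∑ n : A, (i : N → ℂ) (n * x) =
      e i * (i : N → ℂ) x := by
    intro i x
    by_cases hP : P i
    · have h1 : ∀ n : A, (i : N → ℂ) (n * x) = (i : N → ℂ) x := by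
        intro n
        exact Cfsg.Agent.Lib.CharKernel.char_mul_of_mem_ker'
          (IsIrrCharacter.isCharacter i.2) (hP n n.2)
      simp only [h1, e, if_pos hP]
      simp [Nat.card_eq_fintype_card]
    · have h2 : ∃ x ∈ A, (i : N → ℂ) x ≠ (i : N → ℂ) 1 := by
        by_contra hcon
        push Not at hcon
        exact hP hcon
      have h1 := Cfsg.Agent.Lib.CharNormal.sum_mul_normal_eq_zero i.2 A h2 x
      have h3 : ∑ n : A, (i : N → ℂ) (n * x) = 0 := by
        rw [← h1]
        exact Finset.sum_congr rfl fun n _ =>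
          char_mul_comm' (IsIrrCharacter.isCharacter i.2) _ _
      simp [h3, e, if_neg hP]
  have hproj : (fun x => (Nat.card A : ℂ)⁻¹ * ∑ n : A, (∑ i, m i • (i : N → ℂ)) (n * x)) =
      ∑ i : IrrCharacter N, (m i * e i) • (i : N → ℂ) := by
    funext x
    have hval : ∀ y, (∑ i, m i • (i : N → ℂ)) y = ∑ i, (m i : ℂ) * (i : N → ℂ) y := by
      intro y
      simp [Finset.sum_apply]
    have hval2 : (∑ i : IrrCharacter N, (m i * e i) • (i : N → ℂ)) x =
        ∑ i, ((m i * e i : ℕ) : ℂ) * (i : N → ℂ) x := by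
      simp [Finset.sum_apply]
    rw [hval2]
    simp only [hval]
    rw [Finset.sum_comm, Finset.mul_sum]
    refine Finset.sum_congr rfl fun i _ => ?_
    rw [← Finset.mul_sum, mul_left_comm, key i x]
    push_cast
    ring
  have h1 := congrFun hproj
  have h2 : ∑ x, Complex.normSq ((Nat.card A : ℂ)⁻¹ * ∑ n : A, (∑ i, m i • (i : N → ℂ)) (n * x)) =
      (Nat.card N : ℝ) * ((∑ i, (m i * e i) ^ 2 : ℕ) : ℝ) := by
    rw [← sum_normSq_decomp]
    refine Finset.sum_congr rfl fun x _ => ?_
    rw [h1 x]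
  rw [h2, sum_normSq_decomp]
  -- some constituent has `A` outside its kernel
  obtain ⟨x, hxA, hx⟩ := hA
  have hex : ∃ i, m i ≠ 0 ∧ ¬ P i := by
    by_contra hcon
    push Not at hcon
    apply hx
    have hval : ∀ y, (∑ i, m i • (i : N → ℂ)) y = ∑ i, (m i : ℂ) * (i : N → ℂ) y := by
      intro y
      simp [Finset.sum_apply]
    rw [hval, hval]
    refine Finset.sum_congr rfl fun i _ => ?_
    by_cases hmi : m i = 0
    · simp [hmi]
    · rw [hcon i hmi x hxA]
  obtain ⟨i₀, hi₀, hP₀⟩ := hex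
  have hcard : (0 : ℝ) ≤ (Nat.card N : ℝ) := Nat.cast_nonneg _
  have hsum : ∑ i, (m i * e i) ^ 2 + 1 ≤ ∑ i, m i ^ 2 := by
    have h3 : ∑ i, (m i * e i) ^ 2 + (m i₀) ^ 2 ≤ ∑ i, m i ^ 2 := by
      rw [← Finset.add_sum_erase _ (fun i => (m i * e i) ^ 2) (Finset.mem_univ i₀),
        ← Finset.add_sum_erase _ (fun i => m i ^ 2) (Finset.mem_univ i₀)]
      have h4 : (m i₀ * e i₀) ^ 2 = 0 := by simp [e, if_neg hP₀]
      rw [h4, zero_add, add_comm]
      apply Nat.add_le_add_left
      refine Finset.sum_le_sum fun i _ => ?_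
      apply Nat.pow_le_pow_left
      by_cases hP : P i <;> simp [e, hP]
    have h5 : 1 ≤ m i₀ ^ 2 := Nat.one_le_pow _ _ (Nat.pos_of_ne_zero hi₀)
    omega
  have hsum' : ((∑ i, (m i * e i) ^ 2 : ℕ) : ℝ) + 1 ≤ ((∑ i, m i ^ 2 : ℕ) : ℝ) := by
    exact_mod_cast hsum
  nlinarith

end Norm


section Main

variable {G : Type u} [Group G] [Fintype G]

/-- If `n` normalizes `H` and commutes with no nontrivial element of `H`, all elements of the coset
`H n` are conjugate to `n`. -/
theorem char_mul_eq_of_fpf (H : Subgroup G) {χ : G → ℂ} (hχ : IsCharacter G χ) {n : G}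
    (hn : n ∈ Subgroup.normalizer (H : Set G)) (hfree : ∀ h ∈ H, n * h = h * n → h = 1)
    (a : G) (ha : a ∈ H) : χ (a * n) = χ n := by
  classical
  have hmem : ∀ u : H, n * (u : G)⁻¹ * n⁻¹ ∈ H := fun u =>
    (Subgroup.mem_normalizer_iff.mp hn _).mp (H.inv_mem u.2)
  let φ : H → H := fun u => ⟨(u : G) * (n * (u : G)⁻¹ * n⁻¹), H.mul_mem u.2 (hmem u)⟩
  have hinj : Function.Injective φ := by
    intro u v huv
    have h1 : (u : G) * (n * (u : G)⁻¹ * n⁻¹) = (v : G) * (n * (v : G)⁻¹ * n⁻¹) :=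
      congrArg Subtype.val huv
    have h2 : n * ((v : G)⁻¹ * u) = ((v : G)⁻¹ * u) * n := by
      have h3 : (u : G) * n * (u : G)⁻¹ = (v : G) * n * (v : G)⁻¹ := by
        have h4 := congrArg (fun t => t * n) h1
        simpa [mul_assoc] using h4
      have h5 : (v : G)⁻¹ * ((u : G) * n * (u : G)⁻¹) * u = (v : G)⁻¹ * ((v : G) * n * (v : G)⁻¹) * u := by
        rw [h3]
      have h6 : (v : G)⁻¹ * ((u : G) * n * (u : G)⁻¹) * u = (v : G)⁻¹ * u * n := by group
      have h7 : (v : G)⁻¹ * ((v : G) * n * (v : G)⁻¹) * u = n * ((v : G)⁻¹ * u) := by group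
      rw [h6, h7] at h5
      exact h5.symm
    have h8 := hfree _ (H.mul_mem (H.inv_mem v.2) u.2) h2
    apply Subtype.ext
    have h9 : (u : G) = v := by
      rw [inv_mul_eq_iff_eq_mul, mul_one] at h8
      exact h8
    exact h9
  have hsurj : Function.Surjective φ := Finite.injective_iff_surjective.mp hinj
  obtain ⟨u, hu⟩ := hsurj ⟨a, ha⟩
  have h1 : (u : G) * (n * (u : G)⁻¹ * n⁻¹) = a := congrArg Subtype.val hu
  have h2 : a * n = (u : G) * n * (u : G)⁻¹ := by
    rw [← h1]
    group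
  rw [h2]
  exact isClassFunction_of_isCharacter hχ _ _

/-- Sum over the conjugates of a set with trivial intersection property. -/
theorem sum_ti_le (N : Subgroup G) [Fintype N] (X : Finset N) (f : G → ℝ) (hf : ∀ g, 0 ≤ f g)
    (hclass : ∀ a x : G, f (a * x * a⁻¹) = f x)
    (hti : ∀ x ∈ X, ∀ y ∈ X, ∀ a : G, a * (x : G) * a⁻¹ = y → a ∈ N)
    (S : Finset G) (hS : ∀ x ∈ X, ∀ a : G, a * (x : G) * a⁻¹ ∈ S) :
    (Nat.card G : ℝ) * ∑ x ∈ X, f x ≤ (Nat.card N : ℝ) * ∑ y ∈ S, f y := by
  classical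
  let s : Finset (G × N) := Finset.univ ×ˢ X
  let Φ : G × N → G := fun p => p.1 * (p.2 : G) * p.1⁻¹
  have hmaps : ∀ p ∈ s, Φ p ∈ S := by
    intro p hp
    exact hS _ (Finset.mem_product.mp hp).2 _
  have h1 : (Nat.card G : ℝ) * ∑ x ∈ X, f x = ∑ p ∈ s, f (Φ p) := by
    rw [Finset.sum_product]
    simp only [Φ, hclass]
    simp [Finset.mul_sum, Nat.card_eq_fintype_card]
  rw [h1, ← Finset.sum_fiberwise_of_maps_to hmaps, Finset.mul_sum]
  refine Finset.sum_le_sum fun y _ => ?_
  have h2 : ∑ p ∈ s with Φ p = y, f (Φ p) = ((s.filter (fun p => Φ p = y)).card : ℝ) * f y := by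
    rw [Finset.sum_congr rfl (fun p hp => by rw [(Finset.mem_filter.mp hp).2])]
    simp
  rw [h2]
  apply mul_le_mul_of_nonneg_right _ (hf y)
  have hcard : (s.filter (fun p => Φ p = y)).card ≤ Nat.card N := by
    by_cases hne : (s.filter (fun p => Φ p = y)).Nonempty
    · obtain ⟨p₀, hp₀⟩ := hne
      obtain ⟨hp₀s, hp₀y⟩ := Finset.mem_filter.mp hp₀
      have hp₀X := (Finset.mem_product.mp hp₀s).2
      let j : G × N → G := fun p => p₀.1⁻¹ * p.1
      have hmem : ∀ p ∈ s.filter (fun p => Φ p = y), j p ∈ (Finset.univ.filter (· ∈ N) : Finset G) := by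
        intro p hp
        obtain ⟨hps, hpy⟩ := Finset.mem_filter.mp hp
        have hpX := (Finset.mem_product.mp hps).2
        simp only [Finset.mem_filter, Finset.mem_univ, true_and]
        apply hti _ hpX _ hp₀X
        have h3 : p.1 * (p.2 : G) * p.1⁻¹ = p₀.1 * (p₀.2 : G) * p₀.1⁻¹ := hpy.trans hp₀y.symm
        show p₀.1⁻¹ * p.1 * (p.2 : G) * (p₀.1⁻¹ * p.1)⁻¹ = _
        calc p₀.1⁻¹ * p.1 * (p.2 : G) * (p₀.1⁻¹ * p.1)⁻¹ = p₀.1⁻¹ * (p.1 * (p.2 : G) * p.1⁻¹) * p₀.1 := by group
          _ = p₀.1⁻¹ * (p₀.1 * (p₀.2 : G) * p₀.1⁻¹) * p₀.1 := by rw [h3]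
          _ = _ := by group
      have hinj : Set.InjOn j (s.filter (fun p => Φ p = y)) := by
        intro p hp q hq hpq
        obtain ⟨-, hpy⟩ := Finset.mem_filter.mp hp
        obtain ⟨-, hqy⟩ := Finset.mem_filter.mp hq
        have h4 : p.1 = q.1 := mul_left_cancel hpq
        have h5 : p.1 * (p.2 : G) * p.1⁻¹ = q.1 * (q.2 : G) * q.1⁻¹ := hpy.trans hqy.symm
        rw [h4] at h5
        have h6 : (p.2 : G) = q.2 := by
          have h7 := mul_right_cancel h5
          exact mul_left_cancel h7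
        exact Prod.ext h4 (Subtype.ext h6)
      have h8 := Finset.card_le_card_of_injOn j hmem hinj
      have h9 : (Finset.univ.filter (· ∈ N) : Finset G).card = Nat.card N := by
        rw [Nat.card_eq_fintype_card, Fintype.card_subtype]
      omega
    · rw [Finset.not_nonempty_iff_eq_empty] at hne
      rw [hne]
      simp
  exact_mod_cast hcard

/-- Feit and Thompson's first bound. -/
theorem first_bound (H : Subgroup G) [Fintype H] (hZ : H ⊓ Subgroup.center G = ⊥)
    (hone : ∀ g : G, g ∉ Subgroup.center G → ∀ a b : G,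
      Subgroup.centralizer ({g} : Set G) ⊓ H.map (MulAut.conj a).toMonoidHom ≠ ⊥ →
      Subgroup.centralizer ({g} : Set G) ⊓ H.map (MulAut.conj b).toMonoidHom ≠ ⊥ →
      H.map (MulAut.conj a).toMonoidHom = H.map (MulAut.conj b).toMonoidHom)
    (χ : G → ℂ) (hχ : IsIrrCharacter G χ) (hker : ∃ h ∈ H, χ h ≠ χ 1) :
    (Nat.card H : ℝ) * (classInner (fun h : H => χ h) (fun _ => 1)).re ^ 2 < (χ 1).re ^ 2 := by
  classical
  have hχc := IsIrrCharacter.isCharacter hχ
  set c : ℂ := classInner (fun h : H => χ h) (fun _ => 1) with hc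
  let N : Subgroup G := Subgroup.normalizer (H : Set G)
  haveI : Fintype N := Fintype.ofFinite N
  let A : Subgroup N := H.subgroupOf N
  haveI hAn : A.Normal := Subgroup.normal_in_normalizer
  haveI : Fintype A := Fintype.ofFinite A
  -- degree
  have hHN : H ≤ N := Subgroup.le_normalizer
  have hdpos : 0 < (χ 1).re := by
    rw [Cfsg.Agent.Lib.CharKernel.one_eq_charDegree hχc]
    simpa using Cfsg.Agent.Lib.CharKernel.charDegree_pos hχ
  have hdim : (χ 1).im = 0 := by
    rw [Cfsg.Agent.Lib.CharKernel.one_eq_charDegree hχc]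
    simp
  set d : ℝ := (χ 1).re with hd
  have hχ1 : χ 1 = (d : ℂ) := by
    apply Complex.ext
    · simp [hd]
    · simp [hdim]
  let f : G → ℝ := fun g => Complex.normSq (χ g)
  have hfnn : ∀ g, 0 ≤ f g := fun g => Complex.normSq_nonneg _
  have hfclass : ∀ a x : G, f (a * x * a⁻¹) = f x := by
    intro a x
    show Complex.normSq _ = Complex.normSq _
    rw [isClassFunction_of_isCharacter hχc]
  -- norm one
  have hsumG : ∑ g, f g = (Nat.card G : ℝ) := by
    have h1 := classInner_irr_self hχ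
    have hne : (Nat.card G : ℂ) ≠ 0 := natCard_ne_zero'
    unfold classInner at h1
    have h2 : ∑ g, χ g * conj (χ g) = (Nat.card G : ℂ) := by
      field_simp at h1
      exact h1
    have h3 : ((∑ g, f g : ℝ) : ℂ) = ((Nat.card G : ℝ) : ℂ) := by
      push_cast
      rw [← h2]
      refine Finset.sum_congr rfl fun g _ => ?_
      rw [Complex.mul_conj]
    exact_mod_cast h3
  -- central elements
  have hfZ : ∀ z ∈ Subgroup.center G, f z = d ^ 2 := by
    intro z hz
    have h1 := Cfsg.Agent.Lib.CharCentral.central_norm hχ (z := z)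
      (fun g => (Subgroup.mem_center_iff.mp hz g).symm)
    rw [Complex.mul_conj, hχ1] at h1
    have h2 : ((f z : ℝ) : ℂ) = ((d ^ 2 : ℝ) : ℂ) := by
      push_cast
      rw [sq]
      exact h1
    exact_mod_cast h2
  -- the sets
  let comm : N → Prop := fun x => ∃ h ∈ H, h ≠ 1 ∧ (x : G) * h = h * x
  let Zs : Finset N := Finset.univ.filter (fun x : N => (x : G) ∈ Subgroup.center G)
  let X : Finset N := Finset.univ.filter (fun x : N => (x : G) ∉ Subgroup.center G ∧ comm x)
  let T : Finset N := Finset.univ.filter (fun x : N => (x : G) ∈ Subgroup.center G ∨ comm x)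
  have hTdecomp : ∑ x ∈ T, f x = ∑ x ∈ X, f x + ∑ x ∈ Zs, f x := by
    rw [← Finset.sum_union]
    · apply Finset.sum_congr _ fun _ _ => rfl
      ext x
      simp only [T, X, Zs, Finset.mem_filter, Finset.mem_univ, true_and, Finset.mem_union]
      constructor
      · rintro (h | h)
        · exact Or.inr h
        · by_cases h2 : (x : G) ∈ Subgroup.center G
          · exact Or.inr h2
          · exact Or.inl ⟨h2, h⟩
      · rintro (⟨_, h⟩ | h)
        · exact Or.inr h
        · exact Or.inl h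
    · rw [Finset.disjoint_left]
      intro x hx hx'
      simp only [X, Zs, Finset.mem_filter, Finset.mem_univ, true_and] at hx hx'
      exact hx.1 hx'
  have hZcard : Zs.card = Nat.card (Subgroup.center G) := by
    have h1 : (Finset.univ.filter (fun g : G => g ∈ Subgroup.center G)).card =
        Nat.card (Subgroup.center G) := by
      rw [Nat.card_eq_fintype_card, Fintype.card_subtype]
    rw [← h1]
    apply Finset.card_bij (fun (x : N) _ => (x : G))
    · intro x hx
      simpa [Zs] using hx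
    · intro x _ y _ hxy
      exact Subtype.ext hxy
    · intro g hg
      have hg' : g ∈ Subgroup.center G := by simpa using hg
      have hgN : g ∈ N := by
        rw [Subgroup.mem_normalizer_iff]
        intro u
        have h2 : g * u * g⁻¹ = u := by
          rw [(Subgroup.mem_center_iff.mp hg' u).symm]
          simp
        rw [h2]
      exact ⟨⟨g, hgN⟩, by simpa [Zs] using hg', rfl⟩
  set zc : ℝ := (Nat.card (Subgroup.center G) : ℝ) with hzc
  have hzcpos : 0 < zc := by
    have : 0 < Nat.card (Subgroup.center G) := Nat.card_pos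
    simp only [hzc]
    exact_mod_cast this
  have hZsum : ∑ x ∈ Zs, f x = zc * d ^ 2 := by
    have h0 : ∑ x ∈ Zs, f x = ∑ x ∈ Zs, d ^ 2 :=
      Finset.sum_congr rfl (fun x hx => hfZ x (by simpa [Zs] using hx))
    rw [h0]
    simp [hZcard, hzc]
  -- trivial intersection
  have hti : ∀ x ∈ X, ∀ y ∈ X, ∀ a : G, a * (x : G) * a⁻¹ = y → a ∈ N := by
    intro x hx y hy a hxy
    simp only [X, Finset.mem_filter, Finset.mem_univ, true_and] at hx hy
    obtain ⟨-, h₁, h₁H, h₁ne, h₁c⟩ := hx
    obtain ⟨hyZ, h₂, h₂H, h₂ne, h₂c⟩ := hy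
    have h1 : Subgroup.centralizer ({(y : G)} : Set G) ⊓ H.map (MulAut.conj a).toMonoidHom ≠ ⊥ := by
      intro hbot
      have hmem : a * h₁ * a⁻¹ ∈ Subgroup.centralizer ({(y : G)} : Set G) ⊓
          H.map (MulAut.conj a).toMonoidHom := by
        refine ⟨Subgroup.mem_centralizer_singleton_iff.mpr ?_, ⟨h₁, h₁H, rfl⟩⟩
        rw [← hxy]
        have h3 : (x : G) * h₁ = h₁ * x := h₁c
        calc a * h₁ * a⁻¹ * (a * (x : G) * a⁻¹) = a * (h₁ * x) * a⁻¹ := by group
          _ = a * ((x : G) * h₁) * a⁻¹ := by rw [h3]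
          _ = _ := by group
      rw [hbot, Subgroup.mem_bot] at hmem
      apply h₁ne
      have h4 : a * h₁ * a⁻¹ = a * 1 * a⁻¹ := by simpa using hmem
      exact mul_left_cancel (mul_right_cancel h4)
    have h2 : Subgroup.centralizer ({(y : G)} : Set G) ⊓ H.map (MulAut.conj (1 : G)).toMonoidHom ≠ ⊥ := by
      intro hbot
      have hmem : h₂ ∈ Subgroup.centralizer ({(y : G)} : Set G) ⊓
          H.map (MulAut.conj (1 : G)).toMonoidHom := by
        refine ⟨Subgroup.mem_centralizer_singleton_iff.mpr h₂c.symm, ⟨h₂, h₂H, by simp⟩⟩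
      rw [hbot, Subgroup.mem_bot] at hmem
      exact h₂ne hmem
    have h3 := hone y hyZ a 1 h1 h2
    have h4 : H.map (MulAut.conj (1 : G)).toMonoidHom = H := by
      ext u
      simp
    rw [h4] at h3
    rw [Subgroup.mem_normalizer_iff]
    intro u
    constructor
    · intro hu
      rw [← h3]
      exact ⟨u, hu, rfl⟩
    · intro hu
      rw [← h3] at hu
      obtain ⟨v, hv, hv2⟩ := hu
      have h5 : (MulAut.conj a).toMonoidHom v = a * v * a⁻¹ := rfl
      rw [h5] at hv2
      have h6 : v = u := mul_left_cancel (mul_right_cancel hv2)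
      rw [← h6]
      exact hv
  -- global sum
  let S : Finset G := Finset.univ.filter (fun g : G => g ∉ Subgroup.center G)
  have hS : ∀ x ∈ X, ∀ a : G, a * (x : G) * a⁻¹ ∈ S := by
    intro x hx a
    simp only [X, Finset.mem_filter, Finset.mem_univ, true_and] at hx
    simp only [S, Finset.mem_filter, Finset.mem_univ, true_and]
    intro hmem
    apply hx.1
    have h1 : (x : G) = a⁻¹ * (a * (x : G) * a⁻¹) * a := by group
    rw [h1]
    exact (Subgroup.Normal.conj_mem (Subgroup.normal_of_characteristic (Subgroup.center G)) _ hmem a⁻¹ |>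
      fun h => by simpa using h)
  have hglobal := sum_ti_le N X f hfnn hfclass hti S hS
  have hSsum : ∑ y ∈ S, f y = (Nat.card G : ℝ) - zc * d ^ 2 := by
    have h1 := Finset.sum_filter_add_sum_filter_not Finset.univ (fun g : G => g ∈ Subgroup.center G) f
    have h2 : ∑ g ∈ Finset.univ.filter (fun g : G => g ∈ Subgroup.center G), f g = zc * d ^ 2 := by
      rw [Finset.sum_congr rfl (fun x hx => hfZ x (by simpa using hx))]
      simp only [Finset.sum_const, nsmul_eq_mul]
      have h3 : (Finset.univ.filter (fun g : G => g ∈ Subgroup.center G)).card =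
          Nat.card (Subgroup.center G) := by
        rw [Nat.card_eq_fintype_card, Fintype.card_subtype]
      rw [h3]
    rw [h2, hsumG] at h1
    simp only [S]
    linarith
  -- projection
  let ζ : N → ℂ := fun x => χ x
  have hζ : IsCharacter N ζ := isCharacter_restrict N hχc
  have hA : ∃ x ∈ A, ζ x ≠ ζ 1 := by
    obtain ⟨h, hh, hne⟩ := hker
    exact ⟨⟨h, hHN hh⟩, hh, hne⟩
  have hnorm := norm_proj_add_card_le hζ A hA
  let p : N → ℝ := fun x => Complex.normSq ((Nat.card A : ℂ)⁻¹ * ∑ n : A, ζ (n * x))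
  have hpnn : ∀ x, 0 ≤ p x := fun x => Complex.normSq_nonneg _
  have hpY : ∀ x : N, x ∉ T → p x = f x := by
    intro x hx
    have hx' : ¬ comm x := by
      intro h
      apply hx
      simp only [T, Finset.mem_filter, Finset.mem_univ, true_and]
      exact Or.inr h
    have h1 : ∀ n : A, ζ (n * x) = ζ x := by
      intro n
      show χ (((n : N) : G) * (x : G)) = χ x
      apply char_mul_eq_of_fpf H hχc x.2 _ _ n.2
      intro h hh hcomm
      by_contra hne
      exact hx' ⟨h, hh, hne, hcomm⟩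
    have hne : (Nat.card A : ℂ) ≠ 0 := natCard_ne_zero'
    have h2 : (Nat.card A : ℂ)⁻¹ * ∑ n : A, ζ (n * x) = χ x := by
      simp only [h1]
      simp only [Finset.sum_const, Finset.card_univ, nsmul_eq_mul, ← Nat.card_eq_fintype_card]
      rw [← mul_assoc, inv_mul_cancel₀ hne, one_mul]
    show Complex.normSq _ = Complex.normSq _
    rw [h2]
  have hsplit : ∑ x ∈ T, p x + (Nat.card N : ℝ) ≤ ∑ x ∈ T, f x := by
    have h1 := Finset.sum_filter_add_sum_filter_not Finset.univ
      (fun x : N => (x : G) ∈ Subgroup.center G ∨ comm x) p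
    have h2 := Finset.sum_filter_add_sum_filter_not Finset.univ
      (fun x : N => (x : G) ∈ Subgroup.center G ∨ comm x) (fun x : N => f x)
    have h3 : ∑ x ∈ Finset.univ.filter (fun x : N => ¬ ((x : G) ∈ Subgroup.center G ∨ comm x)), p x =
        ∑ x ∈ Finset.univ.filter (fun x : N => ¬ ((x : G) ∈ Subgroup.center G ∨ comm x)), f x := by
      refine Finset.sum_congr rfl fun x hx => hpY x ?_
      simp only [Finset.mem_filter, Finset.mem_univ, true_and] at hx
      simpa [T] using hx
    have h4 : ∑ x, p x + (Nat.card N : ℝ) ≤ ∑ x : N, f x := hnorm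
    simp only [T]
    linarith
  -- the product set
  have hcval : ∀ h : H, ∀ z : Subgroup.center G, ∃ hmem : (h : G) * z ∈ N,
      p ⟨(h : G) * z, hmem⟩ = Complex.normSq c := by
    intro h z
    have hzN : (z : G) ∈ N := by
      rw [Subgroup.mem_normalizer_iff]
      intro u
      have h2 : (z : G) * u * (z : G)⁻¹ = u := by
        rw [(Subgroup.mem_center_iff.mp z.2 u).symm]
        simp
      rw [h2]
    have hmem : (h : G) * z ∈ N := N.mul_mem (hHN h.2) hzN
    refine ⟨hmem, ?_⟩
    have hne : (d : ℂ) ≠ 0 := by exact_mod_cast hdpos.ne'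
    have h1 : ∀ n : A, ζ (n * ⟨(h : G) * z, hmem⟩) = (χ z / d) * χ (((n : N) : G) * h) := by
      intro n
      have h2 := Cfsg.Agent.Lib.CharCentral.central_mul hχ (z := (z : G))
        (fun g => (Subgroup.mem_center_iff.mp z.2 g).symm) (((n : N) : G) * h)
      rw [hχ1] at h2
      have h3 : (((n : N) : G) * ((h : G) * z)) = (z : G) * (((n : N) : G) * h) := by
        rw [← mul_assoc, (Subgroup.mem_center_iff.mp z.2 _)]
      show χ (((n : N) : G) * ((h : G) * z)) = _
      rw [h3]
      field_simp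
      rw [mul_comm]
      exact h2
    show Complex.normSq ((Nat.card A : ℂ)⁻¹ * ∑ n : A, ζ (n * ⟨(h : G) * z, hmem⟩)) = _
    rw [Finset.sum_congr rfl (fun n _ => h1 n)]
    have h4 : ∑ n : A, χ (((n : N) : G) * h) = ∑ u : H, χ u := by
      let e : A ≃ H :=
        { toFun := fun n => ⟨((n : N) : G) * h, H.mul_mem n.2 h.2⟩
          invFun := fun u => ⟨⟨(u : G) * (h : G)⁻¹, hHN (H.mul_mem u.2 (H.inv_mem h.2))⟩,
            H.mul_mem u.2 (H.inv_mem h.2)⟩
          left_inv := fun n => by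
            apply Subtype.ext
            apply Subtype.ext
            simp
          right_inv := fun u => by
            apply Subtype.ext
            simp }
      exact Fintype.sum_equiv e _ _ fun n => rfl
    have h5 : (Nat.card A : ℂ) = (Nat.card H : ℂ) := by
      have : Nat.card A = Nat.card H := Nat.card_congr (Subgroup.subgroupOfEquivOfLe hHN).toEquiv
      rw [this]
    have h6 : c = (Nat.card H : ℂ)⁻¹ * ∑ u : H, χ u := by
      rw [hc]
      unfold classInner
      simp
    rw [← Finset.mul_sum, h4, h5]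
    have h7 : (Nat.card H : ℂ)⁻¹ * ((χ z / d) * ∑ u : H, χ u) = (χ z / d) * c := by
      rw [h6]
      ring
    rw [h7, Complex.normSq_mul, Complex.normSq_div]
    have h8 : Complex.normSq (χ z) = d ^ 2 := hfZ z z.2
    rw [h8]
    have h9 : Complex.normSq (d : ℂ) = d ^ 2 := by
      rw [Complex.normSq_ofReal, sq]
    rw [h9]
    have h10 : d ^ 2 ≠ 0 := by positivity
    field_simp
  choose hmem hpval using hcval
  let Φ : H × Subgroup.center G → N := fun q => ⟨(q.1 : G) * q.2, hmem q.1 q.2⟩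
  have hΦinj : Function.Injective Φ := by
    intro q q' hqq
    have h1 : (q.1 : G) * q.2 = (q'.1 : G) * q'.2 := congrArg Subtype.val hqq
    have h2 : (q'.1 : G)⁻¹ * q.1 = q'.2 * (q.2 : G)⁻¹ := by
      calc (q'.1 : G)⁻¹ * q.1 = (q'.1 : G)⁻¹ * ((q.1 : G) * q.2) * (q.2 : G)⁻¹ := by group
        _ = (q'.1 : G)⁻¹ * ((q'.1 : G) * q'.2) * (q.2 : G)⁻¹ := by rw [h1]
        _ = _ := by group
    have h3 : (q'.1 : G)⁻¹ * q.1 ∈ H ⊓ Subgroup.center G := by
      refine ⟨H.mul_mem (H.inv_mem q'.1.2) q.1.2, ?_⟩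
      rw [h2]
      exact (Subgroup.center G).mul_mem q'.2.2 ((Subgroup.center G).inv_mem q.2.2)
    rw [hZ, Subgroup.mem_bot] at h3
    have h4 : (q.1 : G) = q'.1 := by
      rw [inv_mul_eq_iff_eq_mul, mul_one] at h3
      exact h3
    have h5 : (q.2 : G) = q'.2 := by
      rw [h4] at h1
      exact mul_left_cancel h1
    exact Prod.ext (Subtype.ext h4) (Subtype.ext h5)
  have hΦT : ∀ q, Φ q ∈ T := by
    intro q
    simp only [T, Finset.mem_filter, Finset.mem_univ, true_and]
    by_cases h1 : (q.1 : G) = 1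
    · left
      show (q.1 : G) * q.2 ∈ _
      rw [h1, one_mul]
      exact q.2.2
    · right
      refine ⟨q.1, q.1.2, h1, ?_⟩
      show (q.1 : G) * q.2 * q.1 = q.1 * ((q.1 : G) * q.2)
      rw [mul_assoc, (Subgroup.mem_center_iff.mp q.2.2 _)]
  have hTlow : (Nat.card H : ℝ) * zc * Complex.normSq c ≤ ∑ x ∈ T, p x := by
    have h1 : ∑ x ∈ Finset.univ.image Φ, p x ≤ ∑ x ∈ T, p x := by
      apply Finset.sum_le_sum_of_subset_of_nonneg
      · intro x hx
        obtain ⟨q, -, rfl⟩ := Finset.mem_image.mp hx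
        exact hΦT q
      · intro x _ _
        exact hpnn x
    rw [Finset.sum_image (fun a _ b _ h => hΦinj h)] at h1
    have h2 : ∑ q : H × Subgroup.center G, p (Φ q) =
        (Nat.card H : ℝ) * zc * Complex.normSq c := by
      simp only [Φ, hpval]
      simp [Nat.card_eq_fintype_card, hzc]
    rw [h2] at h1
    exact h1
  -- conclusion
  have hre : c.re ^ 2 ≤ Complex.normSq c := by
    rw [Complex.normSq_apply]
    nlinarith [mul_self_nonneg c.im]
  have hGpos : (0 : ℝ) < Nat.card G := by exact_mod_cast Nat.card_pos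
  have hNpos : (0 : ℝ) < Nat.card N := by exact_mod_cast Nat.card_pos
  have hHnn : (0 : ℝ) ≤ Nat.card H := Nat.cast_nonneg _
  rw [hSsum] at hglobal
  have hXle : ∑ x ∈ X, f x < (Nat.card N : ℝ) := by
    by_contra hcon
    push Not at hcon
    have h1 : (Nat.card G : ℝ) * (Nat.card N : ℝ) ≤ (Nat.card G : ℝ) * ∑ x ∈ X, f x :=
      mul_le_mul_of_nonneg_left hcon hGpos.le
    have h2 : 0 < zc * d ^ 2 := by positivity
    nlinarith
  have hfinal : (Nat.card H : ℝ) * zc * Complex.normSq c < zc * d ^ 2 := by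
    rw [hTdecomp, hZsum] at hsplit
    linarith
  have hfinal2 : (Nat.card H : ℝ) * Complex.normSq c < d ^ 2 := by
    have h1 : zc * ((Nat.card H : ℝ) * Complex.normSq c) < zc * d ^ 2 := by
      calc zc * ((Nat.card H : ℝ) * Complex.normSq c) = (Nat.card H : ℝ) * zc * Complex.normSq c := by ring
        _ < _ := hfinal
    exact lt_of_mul_lt_mul_left h1 hzcpos.le
  calc (Nat.card H : ℝ) * c.re ^ 2 ≤ (Nat.card H : ℝ) * Complex.normSq c :=
        mul_le_mul_of_nonneg_left hre hHnn
    _ < _ := hfinal2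

/-- The norm of the restriction of a character to an abelian subgroup is at least its degree. -/
theorem degree_le_norm_restrict (H : Subgroup G) [Fintype H] (hab : ∀ a ∈ H, ∀ b ∈ H, a * b = b * a)
    {χ : G → ℂ} (hχ : IsCharacter G χ) :
    (χ 1).re * (Nat.card H : ℝ) ≤ ∑ h : H, Complex.normSq (χ h) := by
  classical
  have hcomm : ∀ a b : H, a * b = b * a := fun a b => Subtype.ext (hab a a.2 b b.2)
  obtain ⟨n, hn⟩ := exists_nat_decomp (isCharacter_restrict H hχ)
  have h1 : ∑ h : H, Complex.normSq (χ h) = (Nat.card H : ℝ) * ((∑ i, n i ^ 2 : ℕ) : ℝ) := by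
    rw [← sum_normSq_decomp, ← hn]
  have h2 : χ 1 = ((∑ i, n i : ℕ) : ℂ) := by
    have h3 := congrFun hn 1
    have h4 : χ ((1 : H) : G) = χ 1 := rfl
    simp only [Finset.sum_apply, Pi.smul_apply] at h3
    rw [h4] at h3
    rw [h3]
    push_cast
    refine Finset.sum_congr rfl fun i _ => ?_
    rw [Cfsg.Agent.Lib.CharCodegP.irr_one_of_comm hcomm i.2]
    simp
  rw [h1, h2]
  have h5 : ∑ i, n i ≤ ∑ i, n i ^ 2 := by
    refine Finset.sum_le_sum fun i _ => ?_
    exact Nat.le_self_pow (by norm_num) _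
  have h6 : ((∑ i, n i : ℕ) : ℝ) ≤ ((∑ i, n i ^ 2 : ℕ) : ℝ) := by exact_mod_cast h5
  have h7 : (((∑ i, n i : ℕ) : ℂ)).re = ((∑ i, n i : ℕ) : ℝ) := by
    rw [Complex.natCast_re]
  rw [h7, mul_comm]
  exact mul_le_mul_of_nonneg_left h6 (Nat.cast_nonneg _)

/-- Feit and Thompson's second bound. -/
theorem second_bound (H : Subgroup G) [Fintype H] (hab : ∀ a ∈ H, ∀ b ∈ H, a * b = b * a)
    (hZ : H ⊓ Subgroup.center G = ⊥)
    (hone : ∀ g : G, g ∉ Subgroup.center G → ∀ a b : G,
      Subgroup.centralizer ({g} : Set G) ⊓ H.map (MulAut.conj a).toMonoidHom ≠ ⊥ →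
      Subgroup.centralizer ({g} : Set G) ⊓ H.map (MulAut.conj b).toMonoidHom ≠ ⊥ →
      H.map (MulAut.conj a).toMonoidHom = H.map (MulAut.conj b).toMonoidHom)
    (χ : G → ℂ) (hχ : IsIrrCharacter G χ) (hne1 : χ 1 ≠ 1)
    (hmin : ∀ M : Subgroup G, M.Normal → H ≤ M → M = ⊤) :
    (Nat.card H : ℝ) < (1 + (χ 1).re) ^ 2 := by
  classical
  have hχc := IsIrrCharacter.isCharacter hχ
  let ξ : G → ℂ := fun g => χ g * conj (χ g)
  have hξ : IsCharacter G ξ := isCharacter_mul hχc (Cfsg.Agent.Lib.RealChars.isCharacter_conj hχc)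
  obtain ⟨m, hm⟩ := exists_nat_decomp hξ
  let η₀ : IrrCharacter G := ⟨fun _ => 1, isIrrCharacter_one⟩
  let cc : IrrCharacter G → ℝ := fun η => (classInner (fun h : H => (η : G → ℂ) h) (fun _ => 1)).re
  let dg : IrrCharacter G → ℝ := fun η => ((η : G → ℂ) 1).re
  let s : ℝ := Real.sqrt (Nat.card H)
  have hs0 : 0 ≤ s := Real.sqrt_nonneg _
  have hs2 : s ^ 2 = (Nat.card H : ℝ) := Real.sq_sqrt (Nat.cast_nonneg _)
  -- degrees are positive
  have hdgpos : ∀ η, 0 < dg η := by
    intro η
    show 0 < ((η : G → ℂ) 1).re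
    rw [Cfsg.Agent.Lib.CharKernel.one_eq_charDegree (IsIrrCharacter.isCharacter η.2)]
    simpa using Cfsg.Agent.Lib.CharKernel.charDegree_pos η.2
  have hccnn : ∀ η, 0 ≤ cc η := by
    intro η
    obtain ⟨n, hn⟩ := classInner_char_char (isCharacter_restrict H (IsIrrCharacter.isCharacter η.2))
      (isCharacter_one (G := H))
    show 0 ≤ (classInner (fun h : H => (η : G → ℂ) h) (fun _ => 1)).re
    rw [hn]
    simp
  -- the bound for nonprincipal constituents
  have hbound : ∀ η : IrrCharacter G, η ≠ η₀ → cc η * s < dg η := by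
    intro η hη
    have hker : ∃ h ∈ H, (η : G → ℂ) h ≠ (η : G → ℂ) 1 := by
      by_contra hcon
      push Not at hcon
      have hηc := IsIrrCharacter.isCharacter η.2
      have hM : H ≤ Cfsg.Agent.Lib.CharKernel.charKer hηc := fun h hh => hcon h hh
      have htop := hmin _ (Cfsg.Agent.Lib.CharKernel.charKer_normal hηc) hM
      have hall : ∀ g, (η : G → ℂ) g = (η : G → ℂ) 1 := by
        intro g
        have : g ∈ Cfsg.Agent.Lib.CharKernel.charKer hηc := by rw [htop]; exact Subgroup.mem_top g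
        exact this
      have hnorm := classInner_irr_self η.2
      have h1 : (η : G → ℂ) 1 = 1 := by
        unfold classInner at hnorm
        have h0 : ∀ g, (η : G → ℂ) g * conj ((η : G → ℂ) g) = (η : G → ℂ) 1 * conj ((η : G → ℂ) 1) :=
          fun g => by rw [hall g]
        rw [Finset.sum_congr rfl (fun g _ => h0 g)] at hnorm
        have hne : (Nat.card G : ℂ) ≠ 0 := natCard_ne_zero'
        simp only [Finset.sum_const, Finset.card_univ, nsmul_eq_mul, ← Nat.card_eq_fintype_card] at hnorm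
        have h2 : (η : G → ℂ) 1 * conj ((η : G → ℂ) 1) = 1 := by
          field_simp at hnorm
          exact hnorm
        rw [Cfsg.Agent.Lib.CharKernel.one_eq_charDegree hηc] at h2 ⊢
        simp only [map_natCast] at h2
        have h3 : (Cfsg.charDegree (η : G → ℂ)) *
            (Cfsg.charDegree (η : G → ℂ)) = 1 := by
          exact_mod_cast h2
        have h4 := Nat.eq_one_of_mul_eq_one_right h3
        rw [h4]
        simp
      apply hη
      apply Subtype.ext
      funext g
      rw [hall g, h1]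
    have h1 := first_bound H hZ hone (η : G → ℂ) η.2 hker
    have h2 : (cc η * s) ^ 2 < dg η ^ 2 := by
      rw [mul_pow, hs2, mul_comm]
      exact h1
    exact lt_of_pow_lt_pow_left₀ 2 (hdgpos η).le h2
  -- decomposition
  have hval : ∀ y, ξ y = ∑ i, (m i : ℂ) * (i : G → ℂ) y := by
    intro y
    rw [hm]
    simp [Finset.sum_apply]
  have hm0 : m η₀ = 1 := by
    have h1 := classInner_nat_decomp m (fun _ => 1) isIrrCharacter_one
    rw [← hm] at h1
    have h2 : classInner ξ (fun _ => 1) = classInner χ χ := by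
      unfold classInner
      simp [ξ]
    rw [h2, classInner_irr_self hχ] at h1
    exact_mod_cast h1.symm
  have hdeg : ((χ 1) * conj (χ 1)).re = ∑ i, (m i : ℝ) * dg i := by
    have h1 := hval 1
    have h2 : ξ 1 = χ 1 * conj (χ 1) := rfl
    rw [h2] at h1
    rw [h1, Complex.re_sum]
    refine Finset.sum_congr rfl fun i _ => ?_
    simp [Complex.mul_re, dg]
  have hA : ∑ i, (m i : ℝ) * cc i = (Nat.card H : ℝ)⁻¹ * ∑ h : H, Complex.normSq (χ h) := by
    have h1 : ((Nat.card H : ℂ)⁻¹ * ∑ h : H, ξ h) = ∑ i, (m i : ℂ) * classInner (fun h : H => (i : G → ℂ) h) (fun _ => 1) := by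
      simp only [hval]
      rw [Finset.sum_comm, Finset.mul_sum]
      refine Finset.sum_congr rfl fun i _ => ?_
      unfold classInner
      simp only [map_one, mul_one]
      rw [← Finset.mul_sum]
      ring
    have h2 := congrArg Complex.re h1
    rw [Complex.re_sum] at h2
    have h3 : ∀ i, ((m i : ℂ) * classInner (fun h : H => (i : G → ℂ) h) (fun _ => 1)).re = (m i : ℝ) * cc i := by
      intro i
      simp [Complex.mul_re, cc]
    simp only [h3] at h2
    rw [← h2]
    have h4 : ∑ h : H, ξ h = ((∑ h : H, Complex.normSq (χ h) : ℝ) : ℂ) := by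
      push_cast
      refine Finset.sum_congr rfl fun h _ => ?_
      exact Complex.mul_conj _
    rw [h4]
    have h5 : ((Nat.card H : ℂ)⁻¹ * ((∑ h : H, Complex.normSq (χ h) : ℝ) : ℂ)) =
        (((Nat.card H : ℝ)⁻¹ * ∑ h : H, Complex.normSq (χ h) : ℝ) : ℂ) := by
      push_cast
      rfl
    rw [h5, Complex.ofReal_re]
  -- values of the principal character
  have hcc0 : cc η₀ = 1 := by
    have hne : (Nat.card H : ℂ) ≠ 0 := natCard_ne_zero'
    show (classInner (fun _ : H => (1 : ℂ)) (fun _ => 1)).re = 1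
    unfold classInner
    simp
  have hdg0 : dg η₀ = 1 := by
    show ((1 : ℂ)).re = 1
    simp
  -- the degree of χ
  have hD : ∃ D : ℕ, χ 1 = D ∧ 2 ≤ D := by
    refine ⟨Cfsg.charDegree χ, Cfsg.Agent.Lib.CharKernel.one_eq_charDegree hχc, ?_⟩
    have h1 := Cfsg.Agent.Lib.CharKernel.charDegree_pos hχ
    have h2 : Cfsg.charDegree χ ≠ 1 := by
      intro h3
      apply hne1
      rw [Cfsg.Agent.Lib.CharKernel.one_eq_charDegree hχc, h3]
      simp
    omega
  obtain ⟨D, hD1, hD2⟩ := hD
  have hDre : (χ 1).re = (D : ℝ) := by rw [hD1]; simp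
  have hD2' : (2 : ℝ) ≤ D := by exact_mod_cast hD2
  have hdeg' : (D : ℝ) ^ 2 = ∑ i, (m i : ℝ) * dg i := by
    rw [← hdeg, hD1]
    simp [sq]
  -- lower bound for `A`
  have hAlow : (D : ℝ) ≤ ∑ i, (m i : ℝ) * cc i := by
    rw [hA]
    have h1 := degree_le_norm_restrict H hab hχc
    rw [hDre] at h1
    have hHpos : (0 : ℝ) < Nat.card H := by exact_mod_cast Nat.card_pos
    rw [inv_mul_eq_div, le_div_iff₀ hHpos]
    exact h1
  -- isolate the principal character
  have hsplitc : ∑ i, (m i : ℝ) * cc i = 1 + ∑ i ∈ Finset.univ.erase η₀, (m i : ℝ) * cc i := by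
    rw [← Finset.add_sum_erase _ _ (Finset.mem_univ η₀), hm0, hcc0]
    simp
  have hsplitd : ∑ i, (m i : ℝ) * dg i = 1 + ∑ i ∈ Finset.univ.erase η₀, (m i : ℝ) * dg i := by
    rw [← Finset.add_sum_erase _ _ (Finset.mem_univ η₀), hm0, hdg0]
    simp
  have hposd : 0 < ∑ i ∈ Finset.univ.erase η₀, (m i : ℝ) * dg i := by
    have : (D : ℝ) ^ 2 = 1 + ∑ i ∈ Finset.univ.erase η₀, (m i : ℝ) * dg i := by
      rw [hdeg', hsplitd]
    nlinarith
  have hstrict : (∑ i ∈ Finset.univ.erase η₀, (m i : ℝ) * cc i) * s <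
      ∑ i ∈ Finset.univ.erase η₀, (m i : ℝ) * dg i := by
    rw [Finset.sum_mul]
    apply Finset.sum_lt_sum
    · intro i hi
      have h1 := (hbound i (Finset.mem_erase.mp hi).1).le
      have h2 : (0 : ℝ) ≤ m i := Nat.cast_nonneg _
      rw [mul_assoc]
      exact mul_le_mul_of_nonneg_left h1 h2
    · by_contra hcon
      push Not at hcon
      have hall : ∀ i ∈ Finset.univ.erase η₀, (m i : ℝ) * dg i = 0 := by
        intro i hi
        have h1 := hcon i hi
        have h2 := hbound i (Finset.mem_erase.mp hi).1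
        have hm' : (0 : ℝ) ≤ m i := Nat.cast_nonneg _
        rcases hm'.eq_or_lt with h3 | h3
        · rw [← h3, zero_mul]
        · exfalso
          have h4 : (m i : ℝ) * (cc i * s) < (m i : ℝ) * dg i := mul_lt_mul_of_pos_left h2 h3
          rw [mul_assoc] at h1
          linarith
      rw [Finset.sum_eq_zero hall] at hposd
      exact lt_irrefl _ hposd
  -- conclusion
  have h1 : ((D : ℝ) - 1) * s ≤ (∑ i ∈ Finset.univ.erase η₀, (m i : ℝ) * cc i) * s := by
    apply mul_le_mul_of_nonneg_right _ hs0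
    linarith
  have h2 : (∑ i ∈ Finset.univ.erase η₀, (m i : ℝ) * dg i) = (D : ℝ) ^ 2 - 1 := by
    have : (D : ℝ) ^ 2 = 1 + ∑ i ∈ Finset.univ.erase η₀, (m i : ℝ) * dg i := by
      rw [hdeg', hsplitd]
    linarith
  have h3 : ((D : ℝ) - 1) * s < ((D : ℝ) - 1) * ((D : ℝ) + 1) := by
    have h4 : ((D : ℝ) - 1) * ((D : ℝ) + 1) = (D : ℝ) ^ 2 - 1 := by ring
    rw [h4, ← h2]
    exact lt_of_le_of_lt h1 hstrict
  have h5 : s < (D : ℝ) + 1 := lt_of_mul_lt_mul_left h3 (by linarith)
  rw [hDre, ← hs2]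
  have h6 : (D : ℝ) + 1 = 1 + D := by ring
  rw [← h6]
  exact pow_lt_pow_left₀ h5 hs0 (by norm_num)

end Main

end Cfsg.Agent.Lib.FTDegree
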