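import Mathlib
import Cfsg.Agent.Lib.FTDegree
import Cfsg.Agent.Lib.CliffDvd

/-!
# A `p`-element acting on a `q`-group in a representation of degree `n < p - 1` acts trivially

Let `α` be an automorphism of `p`-power order of a `q`-group `A` (`q ≠ p`) preserving a faithful
character of degree `n` with `n + 1 < p`.  Then `α = 1`.
-/

set_option autoImplicit false
set_option linter.unusedSectionVars false

namespace Cfsg.Agent.Lib.FTBlich

open Cfsg Cfsg.Agent.Lib.CharBasic Cfsg.Agent.Lib.CharKernel
open scoped ComplexConjugate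

universe u

section Orbit

variable {A : Type u} [Group A] [Fintype A]

/-- The character `θ ∘ α`. -/
noncomputable def twistIrr (α : A ≃* A) (θ : IrrCharacter A) : IrrCharacter A :=
  ⟨fun y => (θ : A → ℂ) (α y), isIrrCharacter_comp_of_surjective α.toMonoidHom α.surjective θ.2⟩

theorem twistIrr_iterate (α : A ≃* A) (θ : IrrCharacter A) (j : ℕ) (y : A) :
    (((twistIrr α)^[j] θ : IrrCharacter A) : A → ℂ) y = (θ : A → ℂ) ((⇑α)^[j] y) := by
  induction j generalizing θ with
  | zero => rfl
  | succ j ih =>
    rw [Function.iterate_succ, Function.comp_apply, ih, Function.iterate_succ', Function.comp_apply]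
    rfl

/-- Constituents of an `α`-invariant character of small degree are `α`-invariant. -/
theorem constituent_invariant (p k n : ℕ) (hp : p.Prime) (α : A ≃* A)
    (hα : ∀ y, (⇑α)^[p ^ k] y = y) (m : IrrCharacter A → ℕ)
    (hinv : ∀ y, (∑ i, m i • (i : A → ℂ)) (α y) = (∑ i, m i • (i : A → ℂ)) y)
    (hn : (∑ i, m i • (i : A → ℂ)) 1 = (n : ℂ)) (hlt : n < p) (θ : IrrCharacter A) (hθ : m θ ≠ 0) :
    ∀ y, (θ : A → ℂ) (α y) = (θ : A → ℂ) y := by
  classical
  by_contra hcon
  push Not at hcon
  obtain ⟨y₀, hy₀⟩ := hcon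
  let σ := twistIrr α
  have hσne : σ θ ≠ θ := by
    intro h
    apply hy₀
    have h1 := congrFun (congrArg Subtype.val h) y₀
    exact h1
  have hmσ : ∀ φ, m (σ φ) = m φ := by
    intro φ
    have h1 := classInner_nat_decomp m _ (σ φ).2
    have h2 := classInner_nat_decomp m _ φ.2
    have h3 : classInner (∑ i, m i • (i : A → ℂ)) ((σ φ : IrrCharacter A) : A → ℂ) =
        classInner (∑ i, m i • (i : A → ℂ)) (φ : A → ℂ) := by
      unfold classInner
      congr 1
      refine (Equiv.sum_comp α.toEquiv (fun y => (∑ i, m i • (i : A → ℂ)) y * conj ((φ : A → ℂ) y))).symm.trans ?_ |>.symm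
      refine Finset.sum_congr rfl fun y _ => ?_
      show _ = _ * conj ((φ : A → ℂ) (α y))
      rw [← hinv y]
      rfl
    have h4 : ((m (σ φ) : ℕ) : ℂ) = (m φ : ℂ) := by
      have h5 : (⟨((σ φ : IrrCharacter A) : A → ℂ), (σ φ).2⟩ : IrrCharacter A) = σ φ := rfl
      have h6 : (⟨(φ : A → ℂ), φ.2⟩ : IrrCharacter A) = φ := rfl
      rw [h5] at h1
      rw [h6] at h2
      rw [← h1, ← h2, h3]
    exact_mod_cast h4
  have hmit : ∀ j, m (σ^[j] θ) = m θ := by
    intro j
    induction j with
    | zero => rfl
    | succ j ih =>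
      rw [Function.iterate_succ', Function.comp_apply, hmσ, ih]
  have hper : σ^[p ^ k] θ = θ := by
    apply Subtype.ext
    funext y
    rw [twistIrr_iterate, hα]
  have hdvd : Function.minimalPeriod σ θ ∣ p ^ k :=
    Function.IsPeriodicPt.minimalPeriod_dvd hper
  obtain ⟨b, -, hb⟩ := (Nat.dvd_prime_pow hp).mp hdvd
  have hb0 : b ≠ 0 := by
    intro h
    rw [h, pow_zero] at hb
    exact hσne (Function.minimalPeriod_eq_one_iff_isFixedPt.mp hb)
  have hple : p ≤ Function.minimalPeriod σ θ := by
    rw [hb]
    exact Nat.le_self_pow hb0 p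
  -- count
  let S : Finset (IrrCharacter A) := (Finset.range p).image (fun j => σ^[j] θ)
  have hScard : S.card = p := by
    rw [Finset.card_image_of_injOn, Finset.card_range]
    intro i hi j hj hij
    have hi' : i < p := by simpa using hi
    have hj' : j < p := by simpa using hj
    exact Function.iterate_injOn_Iio_minimalPeriod (show i ∈ Set.Iio _ from lt_of_lt_of_le hi' hple)
      (show j ∈ Set.Iio _ from lt_of_lt_of_le hj' hple) hij
  have hsum : (n : ℕ) = ∑ i, m i * charDegree (i : A → ℂ) := by
    have h1 : (∑ i, m i • (i : A → ℂ)) 1 = ((∑ i, m i * charDegree (i : A → ℂ) : ℕ) : ℂ) := by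
      simp only [Finset.sum_apply, Pi.smul_apply]
      push_cast
      refine Finset.sum_congr rfl fun i _ => ?_
      rw [one_eq_charDegree (IsIrrCharacter.isCharacter i.2)]
      simp
    rw [hn] at h1
    exact_mod_cast h1
  have hle : p ≤ n := by
    rw [hsum, ← hScard]
    calc S.card = ∑ i ∈ S, 1 := by simp
      _ ≤ ∑ i ∈ S, m i * charDegree (i : A → ℂ) := by
        refine Finset.sum_le_sum fun i hi => ?_
        obtain ⟨j, -, rfl⟩ := Finset.mem_image.mp hi
        have h1 : 0 < m (σ^[j] θ) := by
          rw [hmit]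
          exact Nat.pos_of_ne_zero hθ
        have h2 := charDegree_pos (σ^[j] θ).2
        exact Nat.mul_pos h1 h2
      _ ≤ ∑ i, m i * charDegree (i : A → ℂ) :=
        Finset.sum_le_sum_of_subset_of_nonneg (Finset.subset_univ _) (fun _ _ _ => Nat.zero_le _)
  omega

end Orbit

section Main

/-- Restriction of an automorphism to an invariant subgroup of a finite group. -/
noncomputable def restrictAut {A : Type u} [Group A] [Finite A] (α : A ≃* A) (Y : Subgroup A)
    (hY : ∀ y ∈ Y, α y ∈ Y) : Y ≃* Y :=
  MulEquiv.ofBijective (((α : A →* A).comp Y.subtype).codRestrict Y (fun y => hY y y.2)) (by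
    apply Finite.injective_iff_bijective.mp
    intro a b h
    apply Subtype.ext
    have h1 : α (a : A) = α (b : A) := congrArg Subtype.val h
    exact α.injective h1)

theorem restrictAut_iterate {A : Type u} [Group A] [Finite A] (α : A ≃* A) (Y : Subgroup A)
    (hY : ∀ y ∈ Y, α y ∈ Y) (j : ℕ) (y : Y) :
    (((⇑(restrictAut α Y hY))^[j] y : Y) : A) = (⇑α)^[j] y := by
  induction j with
  | zero => rfl
  | succ j ih =>
    rw [Function.iterate_succ', Function.iterate_succ', Function.comp_apply, Function.comp_apply, ← ih]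
    rfl

/-- An automorphism of `p`-power order of a `q`-group preserving a faithful character of degree
`n`, `n + 1 < p`, is trivial. -/
theorem aut_trivial (p q n : ℕ) (hp : p.Prime) (hq : q.Prime) (hpq : p ≠ q) (hlt : n + 1 < p)
    (N : ℕ) : ∀ (A : Type u) [Group A] [Finite A], Nat.card A = N → IsPGroup q A →
      ∀ (α : A ≃* A) (k : ℕ), (∀ y, (⇑α)^[p ^ k] y = y) → ∀ χ : A → ℂ, IsCharacter A χ →
      (∀ y, χ (α y) = χ y) → (∀ y, χ y = χ 1 → y = 1) → χ 1 = n → ∀ y, α y = y := by
  induction N using Nat.strong_induction_on with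
  | _ N ih =>
    intro A _ _ hcard hA α k hα χ hχ hinv hf hn
    classical
    letI := Fintype.ofFinite A
    haveI := Fact.mk hp
    haveI := Fact.mk hq
    by_contra hne
    push Not at hne
    obtain ⟨y₀, hy₀⟩ := hne
    have hcop : Nat.Coprime p q := (Nat.coprime_primes hp hq).mpr hpq
    -- invariant proper subgroups are fixed
    have hinvsub : ∀ Y : Subgroup A, (∀ y ∈ Y, α y ∈ Y) → Y ≠ ⊤ → ∀ y ∈ Y, α y = y := by
      intro Y hY hne y hy
      have hlt' : Nat.card Y < N := by
        rw [← hcard, ← Subgroup.card_mul_index Y]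
        have h1 := Subgroup.one_lt_index_of_ne_top hne
        have h2 : 0 < Nat.card Y := Nat.card_pos
        nlinarith
      have h3 := ih _ hlt' Y rfl (hA.to_subgroup Y) (restrictAut α Y hY) k
        (fun t => Subtype.ext (by rw [restrictAut_iterate, hα])) (fun t : Y => χ t)
        (isCharacter_restrict Y hχ) (fun t => hinv t)
        (fun t ht => Subtype.ext (hf t ht)) hn ⟨y, hy⟩
      exact congrArg Subtype.val h3
    -- the subgroup generated by the displacements
    let w : A → A := fun y => y⁻¹ * α y
    let W : Subgroup A := Subgroup.closure (Set.range w)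
    have hWinv : ∀ y ∈ W, α y ∈ W := by
      intro y hy
      induction hy using Subgroup.closure_induction with
      | mem x hx =>
        obtain ⟨t, rfl⟩ := hx
        have h1 : α (w t) = w (α t) := by simp [w]
        rw [h1]
        exact Subgroup.subset_closure ⟨_, rfl⟩
      | one => simp [one_mem]
      | mul a b _ _ ha hb =>
        rw [map_mul]
        exact mul_mem ha hb
      | inv a _ ha =>
        rw [map_inv]
        exact inv_mem ha
    have hWtop : W = ⊤ := by
      by_contra hWne
      have hfix := hinvsub W hWinv hWne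
      apply hy₀
      have hw : α (w y₀) = w y₀ := hfix _ (Subgroup.subset_closure ⟨y₀, rfl⟩)
      have hstep : α y₀ = y₀ * w y₀ := by simp [w]
      have hit : ∀ j, (⇑α)^[j] y₀ = y₀ * (w y₀) ^ j := by
        intro j
        induction j with
        | zero => simp
        | succ j ih' =>
          rw [Function.iterate_succ', Function.comp_apply, ih', map_mul, map_pow, hw, hstep,
            pow_succ', mul_assoc]
      have h1 := hα y₀
      rw [hit] at h1
      have h2 : (w y₀) ^ (p ^ k) = 1 := mul_eq_left.mp h1
      obtain ⟨m, hm⟩ := hA (w y₀)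
      have h3 : orderOf (w y₀) ∣ p ^ k := orderOf_dvd_of_pow_eq_one h2
      have h4 : orderOf (w y₀) ∣ q ^ m := orderOf_dvd_of_pow_eq_one hm
      have h5 : Nat.Coprime (p ^ k) (q ^ m) := Nat.Coprime.pow k m hcop
      have h6 : orderOf (w y₀) = 1 := Nat.Coprime.eq_one_of_dvd (h5.coprime_dvd_left h3) h4
      rw [orderOf_eq_one_iff] at h6
      rw [hstep, h6, mul_one]
    -- the commutator subgroup is fixed
    have hy₀1 : y₀ ≠ 1 := by
      intro h
      apply hy₀
      rw [h, map_one]
    haveI : Nontrivial A := ⟨y₀, 1, hy₀1⟩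
    haveI : Group.IsNilpotent A := hA.isNilpotent
    have hcne : commutator A ≠ ⊤ := (Group.IsSolvable.commutator_lt_top_of_nontrivial A).ne
    have hcfix : ∀ y ∈ commutator A, α y = y := by
      apply hinvsub _ _ hcne
      intro y hy
      have h1 := (Subgroup.characteristic_iff_le_comap.mp
        (inferInstance : (commutator A).Characteristic)) α hy
      exact h1
    have hcommem : ∀ a b : A, a * b * a⁻¹ * b⁻¹ ∈ commutator A := by
      intro a b
      exact Subgroup.commutator_mem_commutator (Subgroup.mem_top a) (Subgroup.mem_top b)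
    -- fixed elements are central
    have hcentral : ∀ c, α c = c → ∀ y, y * c = c * y := by
      intro c hc y
      have hle : W ≤ Subgroup.centralizer ({c} : Set A) := by
        rw [Subgroup.closure_le]
        rintro _ ⟨t, rfl⟩
        have h1 := hcfix _ (hcommem t c)
        simp only [map_mul, map_inv, hc] at h1
        have h2 : α t * c * (α t)⁻¹ = t * c * t⁻¹ := mul_right_cancel h1
        show w t ∈ Subgroup.centralizer ({c} : Set A)
        rw [Subgroup.mem_centralizer_singleton_iff]
        show t⁻¹ * α t * c = c * (t⁻¹ * α t)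
        have h3 : α t * c = t * c * t⁻¹ * α t := by
          rw [← h2]
          group
        rw [mul_assoc, h3]
        group
      have hy : y ∈ W := by rw [hWtop]; exact Subgroup.mem_top y
      exact Subgroup.mem_centralizer_singleton_iff.mp (hle hy)
    -- decomposition
    obtain ⟨m, rfl⟩ := exists_nat_decomp hχ
    have hval : ∀ y, (∑ i, m i • (i : A → ℂ)) y = ∑ i, (m i : ℂ) * (i : A → ℂ) y := by
      intro y
      simp [Finset.sum_apply]
    have hconst := constituent_invariant p k n hp α hα m hinv hn (by omega)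
    -- a nonlinear constituent
    obtain ⟨θ, hθm, hθ1⟩ : ∃ θ : IrrCharacter A, m θ ≠ 0 ∧ (θ : A → ℂ) 1 ≠ 1 := by
      by_contra hcon
      push Not at hcon
      apply hy₀
      have h1 : (∑ i, m i • (i : A → ℂ)) (α y₀ * y₀⁻¹) = (∑ i, m i • (i : A → ℂ)) 1 := by
        rw [hval, hval]
        refine Finset.sum_congr rfl fun i _ => ?_
        by_cases hi : m i = 0
        · simp [hi]
        · congr 1
          obtain ⟨f, hf'⟩ := exists_hom_of_degree_one (IsIrrCharacter.isCharacter i.2) (hcon i hi)
          have h2 := hconst i hi y₀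
          rw [hf', hf'] at h2
          have h3 : f (α y₀) = f y₀ := Units.ext h2
          rw [hf', hf', map_mul, map_inv, h3, mul_inv_cancel, map_one]
      have h2 := hf _ h1
      exact mul_inv_eq_one.mp h2
    have hθc := IsIrrCharacter.isCharacter θ.2
    have hθinv := hconst θ hθm
    set d : ℕ := charDegree (θ : A → ℂ) with hd
    have hθd : (θ : A → ℂ) 1 = d := one_eq_charDegree hθc
    have hd2 : 2 ≤ d := by
      have h1 := charDegree_pos θ.2
      have h2 : d ≠ 1 := by
        intro h3
        apply hθ1
        rw [hθd, h3]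
        simp
      omega
    have hdn : d ≤ n := by
      have hsum : (n : ℕ) = ∑ i, m i * charDegree (i : A → ℂ) := by
        have h1 : (∑ i, m i • (i : A → ℂ)) 1 = ((∑ i, m i * charDegree (i : A → ℂ) : ℕ) : ℂ) := by
          simp only [Finset.sum_apply, Pi.smul_apply]
          push_cast
          refine Finset.sum_congr rfl fun i _ => ?_
          rw [one_eq_charDegree (IsIrrCharacter.isCharacter i.2)]
          simp
        rw [hn] at h1
        exact_mod_cast h1
      rw [hsum]
      calc d ≤ m θ * d := Nat.le_mul_of_pos_left d (Nat.pos_of_ne_zero hθm)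
        _ ≤ _ := Finset.single_le_sum (f := fun i : IrrCharacter A => m i * charDegree (i : A → ℂ))
          (fun _ _ => Nat.zero_le _) (Finset.mem_univ θ)
    -- the second centre modulo the kernel
    let K : Subgroup A := charKer hθc
    haveI hKn : K.Normal := charKer_normal hθc
    let Z₁ : Subgroup A :=
      { carrier := {y | ∀ u, u * y * u⁻¹ * y⁻¹ ∈ K}
        one_mem' := by
          intro u
          simp [one_mem]
        mul_mem' := by
          intro a b ha hb u
          have h1 : u * (a * b) * u⁻¹ * (a * b)⁻¹ =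
              (u * a * u⁻¹ * a⁻¹) * (a * (u * b * u⁻¹ * b⁻¹) * a⁻¹) := by group
          rw [h1]
          exact mul_mem (ha u) (hKn.conj_mem _ (hb u) a)
        inv_mem' := by
          intro a ha u
          have h1 : u * a⁻¹ * u⁻¹ * a⁻¹⁻¹ = a⁻¹ * (u * a * u⁻¹ * a⁻¹)⁻¹ * a⁻¹⁻¹ := by group
          rw [h1]
          exact hKn.conj_mem _ (inv_mem (ha u)) a⁻¹ }
    have hZ₁inv : ∀ y ∈ Z₁, α y ∈ Z₁ := by
      intro y hy u
      have h1 : u * α y * u⁻¹ * (α y)⁻¹ = α (α.symm u * y * (α.symm u)⁻¹ * y⁻¹) := by
        simp only [map_mul, map_inv, MulEquiv.apply_symm_apply]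
      rw [h1]
      show (θ : A → ℂ) (α _) = (θ : A → ℂ) 1
      rw [hθinv]
      exact hy (α.symm u)
    have hZ₁ne : Z₁ ≠ ⊤ := by
      intro htop
      apply hθ1
      have hmem : ∀ a b : A, a * b * a⁻¹ * b⁻¹ ∈ K := fun a b =>
        (show b ∈ Z₁ by rw [htop]; exact Subgroup.mem_top b) a
      obtain ⟨θ', hθ', hθθ'⟩ := exists_quotient_irr K θ.2 (fun x hx => hx)
      have hc : ∀ a b : A ⧸ K, a * b = b * a := by
        intro a b
        induction a using QuotientGroup.induction_on with
        | H a =>
          induction b using QuotientGroup.induction_on with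
          | H b =>
            rw [← QuotientGroup.mk_mul, ← QuotientGroup.mk_mul, QuotientGroup.eq]
            have h1 := hmem b⁻¹ a⁻¹
            have h2 : b⁻¹ * a⁻¹ * b⁻¹⁻¹ * a⁻¹⁻¹ = (a * b)⁻¹ * (b * a) := by group
            rw [h2] at h1
            exact h1
      have h1 := Cfsg.Agent.Lib.CharCodegP.irr_one_of_comm hc hθ'
      have h2 := hθθ' 1
      rw [QuotientGroup.mk_one, h1] at h2
      exact h2.symm
    have hZ₁fix := hinvsub Z₁ hZ₁inv hZ₁ne
    -- vanishing
    have hvanish : ∀ y, α y ≠ y → (θ : A → ℂ) y = 0 := by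
      intro y hy
      have hyZ : y ∉ Z₁ := fun h => hy (hZ₁fix y h)
      have h1 : ∃ u, u * y * u⁻¹ * y⁻¹ ∉ K := by
        by_contra hcon
        push Not at hcon
        exact hyZ hcon
      obtain ⟨u, hu⟩ := h1
      set z := u * y * u⁻¹ * y⁻¹ with hz
      have hzfix : α z = z := hcfix _ (hcommem u y)
      have hzc : ∀ g, z * g = g * z := fun g => (hcentral z hzfix g).symm
      have h2 := Cfsg.Agent.Lib.CharCentral.central_mul θ.2 hzc y
      have h3 : z * y = u * y * u⁻¹ := by
        rw [hz]
        group
      rw [h3, isClassFunction_of_isCharacter hθc] at h2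
      have h4 : ((θ : A → ℂ) 1 - (θ : A → ℂ) z) * (θ : A → ℂ) y = 0 := by
        rw [sub_mul, h2, sub_self]
      rcases mul_eq_zero.mp h4 with h5 | h5
      · exact absurd (sub_eq_zero.mp h5).symm hu
      · exact h5
    -- the count
    let Cs : Finset A := Finset.univ.filter (fun y => α y = y)
    have hnorm : Nat.card A = Cs.card * d ^ 2 := by
      have h1 := classInner_irr_self θ.2
      have hne : (Nat.card A : ℂ) ≠ 0 := natCard_ne_zero'
      unfold classInner at h1
      have h2 : ∑ y, (θ : A → ℂ) y * conj ((θ : A → ℂ) y) = (Nat.card A : ℂ) := by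
        field_simp at h1
        exact h1
      have h3 : ∑ y, (θ : A → ℂ) y * conj ((θ : A → ℂ) y) = ((Cs.card * d ^ 2 : ℕ) : ℂ) := by
        rw [← Finset.sum_filter_add_sum_filter_not Finset.univ (fun y => α y = y)]
        have h4 : ∑ y ∈ Finset.univ.filter (fun y => ¬ α y = y),
            (θ : A → ℂ) y * conj ((θ : A → ℂ) y) = 0 := by
          refine Finset.sum_eq_zero fun y hy => ?_
          rw [hvanish y (Finset.mem_filter.mp hy).2, zero_mul]
        have h5 : ∑ y ∈ Finset.univ.filter (fun y => α y = y),
            (θ : A → ℂ) y * conj ((θ : A → ℂ) y) = ∑ y ∈ Cs, (d : ℂ) * d := by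
          refine Finset.sum_congr rfl fun y hy => ?_
          have hy' : α y = y := (Finset.mem_filter.mp hy).2
          rw [Cfsg.Agent.Lib.CharCentral.central_norm θ.2 (fun g => (hcentral y hy' g).symm), hθd]
        rw [h4, h5, add_zero]
        simp [sq]
      rw [h3] at h2
      exact_mod_cast h2.symm
    -- fixed points modulo `p`
    let Γ : Subgroup (MulAut A) := Subgroup.zpowers (α : MulAut A)
    have hαpow : (α : MulAut A) ^ (p ^ k) = 1 := by
      ext y
      have h1 : ((α : MulAut A) ^ (p ^ k)) y = (⇑α)^[p ^ k] y := by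
        have h2 : ∀ j, ((α : MulAut A) ^ j) y = (⇑α)^[j] y := by
          intro j
          induction j with
          | zero => rfl
          | succ j ih' =>
            rw [Function.iterate_succ', Function.comp_apply, ← ih', pow_succ']
            rfl
        exact h2 _
      rw [h1, hα]
      rfl
    have hΓ : IsPGroup p Γ := by
      rintro ⟨γ, hγ⟩
      obtain ⟨i, rfl⟩ := Subgroup.mem_zpowers_iff.mp hγ
      refine ⟨k, Subtype.ext ?_⟩
      show ((α : MulAut A) ^ i) ^ (p ^ k) = 1
      rw [← zpow_natCast, ← zpow_mul, mul_comm, zpow_mul, zpow_natCast, hαpow, one_zpow]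
    have hmod := hΓ.card_modEq_card_fixedPoints A
    have hfixcard : Nat.card (MulAction.fixedPoints Γ A) = Cs.card := by
      have h1 : (Cs : Set A) = MulAction.fixedPoints Γ A := by
        ext y
        simp only [Cs, Finset.coe_filter, Finset.mem_univ, true_and, Set.mem_ofPred_eq,
          MulAction.mem_fixedPoints]
        constructor
        · intro hy γ
          have h2 : Γ ≤ MulAction.stabilizer (MulAut A) y := by
            apply Subgroup.zpowers_le.mpr
            exact hy
          exact h2 γ.2
        · intro hy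
          exact hy ⟨(α : MulAut A), Subgroup.mem_zpowers _⟩
      rw [← h1]
      simp
    rw [hfixcard] at hmod
    -- arithmetic
    have hCcop : Nat.Coprime Cs.card p := by
      let C : Subgroup A :=
        { carrier := {y | α y = y}
          one_mem' := map_one α
          mul_mem' := by
            intro a b ha hb
            show α (a * b) = a * b
            rw [map_mul, show α a = a from ha, show α b = b from hb]
          inv_mem' := by
            intro a ha
            show α a⁻¹ = a⁻¹
            rw [map_inv, show α a = a from ha] }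
      have h1 : Cs.card = Nat.card C := by
        rw [Nat.card_eq_fintype_card, Fintype.card_subtype]
        rfl
      have h2 := hA.to_subgroup C
      obtain ⟨s, hs⟩ := IsPGroup.iff_card.mp h2
      rw [h1, hs]
      exact (Nat.Coprime.pow_left s hcop.symm)
    rw [hnorm] at hmod
    have h1 : Cs.card * d ^ 2 ≡ Cs.card * 1 [MOD p] := by
      rw [mul_one]
      exact hmod
    have h2 : d ^ 2 ≡ 1 [MOD p] := Nat.ModEq.cancel_left_of_coprime hCcop.symm h1
    have h3 : p ∣ d ^ 2 - 1 := (Nat.modEq_iff_dvd' (Nat.one_le_pow _ _ (by omega))).mp h2.symm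
    have h4 : ∀ d' : ℕ, 2 ≤ d' → d' ^ 2 - 1 = (d' - 1) * (d' + 1) := by
      intro d' hd'
      obtain ⟨e, rfl⟩ : ∃ e, d' = e + 1 := ⟨d' - 1, by omega⟩
      simp only [Nat.add_sub_cancel]
      have : (e + 1) ^ 2 = e * (e + 1 + 1) + 1 := by ring
      rw [this, Nat.add_sub_cancel]
    rw [h4 d hd2] at h3
    rcases hp.dvd_mul.mp h3 with h5 | h5
    · have h6 := Nat.le_of_dvd (by omega) h5
      omega
    · have h6 := Nat.le_of_dvd (by omega) h5
      omega

end Main

end Cfsg.Agent.Lib.FTBlich
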