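import Mathlib
import Cfsg.Agent.Lib.FTBlich

/-!
# Sylow subgroups in groups with a faithful representation of small degree

Minimal counterexamples: transfer, Frattini argument and the bound of Feit and Thompson.
-/

set_option autoImplicit false
set_option linter.unusedSectionVars false

namespace Cfsg.Agent.Lib.FTBlichMain

open Cfsg Cfsg.Agent.Lib.CharBasic Cfsg.Agent.Lib.CharKernel Cfsg.Agent.Lib.FTBlich
open scoped ComplexConjugate Pointwise

universe u

section Decomp

variable {A : Type u} [Group A] [Fintype A]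

/-- A constituent has degree at most the degree. -/
theorem degree_le_of_constituent (m : IrrCharacter A → ℕ) {n : ℕ}
    (hn : (∑ i, m i • (i : A → ℂ)) 1 = (n : ℂ)) (θ : IrrCharacter A) (hθ : m θ ≠ 0) :
    charDegree (θ : A → ℂ) ≤ n := by
  have hsum : (n : ℕ) = ∑ i, m i * charDegree (i : A → ℂ) := by
    have h1 : (∑ i, m i • (i : A → ℂ)) 1 = ((∑ i, m i * charDegree (i : A → ℂ) : ℕ) : ℂ) := by
      simp only [Finset.sum_apply, Pi.smul_apply]
      push_cast
      refine Finset.sum_congr rfl fun i _ => ?_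
      rw [one_eq_charDegree (IsIrrCharacter.isCharacter i.2)]
      simp
    rw [hn] at h1
    exact_mod_cast h1
  rw [hsum]
  calc charDegree (θ : A → ℂ) ≤ m θ * charDegree (θ : A → ℂ) :=
        Nat.le_mul_of_pos_left _ (Nat.pos_of_ne_zero hθ)
    _ ≤ _ := Finset.single_le_sum (f := fun i : IrrCharacter A => m i * charDegree (i : A → ℂ))
      (fun _ _ => Nat.zero_le _) (Finset.mem_univ θ)

/-- If all constituents are linear, commutators are in the kernel. -/
theorem commutator_of_linear (m : IrrCharacter A → ℕ)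
    (hlin : ∀ θ : IrrCharacter A, m θ ≠ 0 → (θ : A → ℂ) 1 = 1) (a b : A) :
    (∑ i, m i • (i : A → ℂ)) (a * b * a⁻¹ * b⁻¹) = (∑ i, m i • (i : A → ℂ)) 1 := by
  have hval : ∀ y, (∑ i, m i • (i : A → ℂ)) y = ∑ i, (m i : ℂ) * (i : A → ℂ) y := by
    intro y
    simp [Finset.sum_apply]
  rw [hval, hval]
  refine Finset.sum_congr rfl fun i _ => ?_
  by_cases hi : m i = 0
  · simp [hi]
  · congr 1
    obtain ⟨f, hf⟩ := exists_hom_of_degree_one (IsIrrCharacter.isCharacter i.2) (hlin i hi)
    rw [hf, hf]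
    have h3 : f (a * b * a⁻¹ * b⁻¹) = 1 := by
      simp only [map_mul, map_inv]
      rw [mul_comm (f a) (f b)]
      group
    rw [h3, map_one]

end Decomp

section Group

variable {G : Type u} [Group G] [Finite G] {n : ℕ} (ρ : Representation ℂ G (Fin n → ℂ))

/-- A faithful character. -/
theorem eq_one_of_char_eq (hρ : Function.Injective ρ) (y : G) (h : ρ.character y = ρ.character 1) :
    y = 1 := by
  apply hρ
  rw [(charKer_iff_rep ρ).mp h, map_one]
  rfl

/-- A `p`-element normalizing a `q`-subgroup centralizes it. -/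
theorem centralize_of_normalize (hρ : Function.Injective ρ) (p q : ℕ) (hp : p.Prime) (hq : q.Prime)
    (hpq : p ≠ q) (hlt : n + 1 < p) (R : Subgroup G) (hR : IsPGroup q R) (x : G) (k : ℕ)
    (hx : x ^ (p ^ k) = 1) (hxR : ∀ r ∈ R, x * r * x⁻¹ ∈ R) : ∀ r ∈ R, x * r * x⁻¹ = r := by
  classical
  have hmem : ∀ y ∈ R, (MulAut.conj x) y ∈ R := fun y hy => hxR y hy
  let α : R ≃* R := restrictAut (MulAut.conj x) R hmem
  have hit : ∀ (j : ℕ) (y : G), (⇑(MulAut.conj x))^[j] y = x ^ j * y * (x ^ j)⁻¹ := by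
    intro j y
    induction j with
    | zero => simp
    | succ j ih =>
      rw [Function.iterate_succ', Function.comp_apply, ih, MulAut.conj_apply, pow_succ']
      group
  have h1 := aut_trivial.{u} p q n hp hq hpq hlt _ R rfl hR α k
    (fun y => Subtype.ext (by
      rw [restrictAut_iterate, hit, hx]
      simp))
    (fun y : R => ρ.character y) (isCharacter_restrict R ⟨n, ρ, rfl⟩)
    (fun y => isClassFunction_of_isCharacter ⟨n, ρ, rfl⟩ (y : G) x)
    (fun y hy => Subtype.ext (eq_one_of_char_eq ρ hρ _ hy))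
    (char_one_eq_rep ρ)
  intro r hr
  exact congrArg Subtype.val (h1 ⟨r, hr⟩)

/-- `p`-subgroups are abelian. -/
theorem pgroup_comm (hρ : Function.Injective ρ) (p : ℕ) (hp : p.Prime) (hlt : n < p) (S : Subgroup G)
    (hS : IsPGroup p S) : ∀ a ∈ S, ∀ b ∈ S, a * b = b * a := by
  classical
  letI : Fintype S := Fintype.ofFinite S
  intro a ha b hb
  have hχ : IsCharacter S (fun s : S => ρ.character s) := isCharacter_restrict S ⟨n, ρ, rfl⟩
  obtain ⟨m, hm⟩ := exists_nat_decomp hχ
  have hn : (∑ i, m i • (i : S → ℂ)) 1 = (n : ℂ) := by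
    rw [← hm]
    exact char_one_eq_rep ρ
  have hlin : ∀ θ : IrrCharacter S, m θ ≠ 0 → (θ : S → ℂ) 1 = 1 := by
    intro θ hθ
    have h1 := degree_le_of_constituent m hn θ hθ
    have h2 := charDegree_dvd_card θ.2
    haveI := Fact.mk hp
    obtain ⟨s, hs⟩ := IsPGroup.iff_card.mp hS
    rw [hs] at h2
    obtain ⟨j, -, hj⟩ := (Nat.dvd_prime_pow hp).mp h2
    have h3 : j = 0 := by
      by_contra h0
      have h4 : p ≤ p ^ j := Nat.le_self_pow h0 p
      omega
    rw [one_eq_charDegree (IsIrrCharacter.isCharacter θ.2), hj, h3]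
    simp
  have h1 := commutator_of_linear m hlin (⟨a, ha⟩ : S) ⟨b, hb⟩
  rw [← hm] at h1
  have h2 := eq_one_of_char_eq ρ hρ _ h1
  have h3 : a * b * a⁻¹ = b := eq_of_mul_inv_eq_one h2
  rw [mul_inv_eq_iff_eq_mul] at h3
  exact h3

variable (p : ℕ) [hp : Fact p.Prime]

/-- A `p`-element of a group with a normal Sylow `p`-subgroup lies in it. -/
theorem mem_of_normal_sylow {K : Type u} [Group K] [Finite K] (Q : Sylow p K)
    (hQ : (Q : Subgroup K).Normal) (y : K) (k : ℕ) (hy : y ^ (p ^ k) = 1) : y ∈ Q := by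
  have h1 : IsPGroup p (Subgroup.zpowers y) := by
    rintro ⟨g, hg⟩
    obtain ⟨i, rfl⟩ := Subgroup.mem_zpowers_iff.mp hg
    refine ⟨k, Subtype.ext ?_⟩
    show (y ^ i) ^ (p ^ k) = 1
    rw [← zpow_natCast, ← zpow_mul, mul_comm, zpow_mul, zpow_natCast, hy, one_zpow]
  obtain ⟨S, hS⟩ := h1.exists_le_sylow
  haveI := Sylow.unique_of_normal Q hQ
  have h2 : S = Q := Subsingleton.elim _ _
  rw [← h2]
  exact hS (Subgroup.mem_zpowers y)

/-- A `p`-element of a subgroup containing `S` with normal Sylow `p`-subgroups lies in `S`. -/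
theorem mem_of_le_pc (K : Subgroup G) (hK : ∀ Q : Sylow p K, (Q : Subgroup K).Normal) (S : Sylow p G)
    (hSK : (S : Subgroup G) ≤ K) (y : G) (hyK : y ∈ K) (k : ℕ) (hy : y ^ (p ^ k) = 1) : y ∈ S := by
  have h1 := mem_of_normal_sylow p (S.subtype hSK) (hK _) (⟨y, hyK⟩ : K) k (Subtype.ext hy)
  have h2 : (⟨y, hyK⟩ : K) ∈ ((S.subtype hSK : Sylow p K) : Subgroup K) := h1
  rw [Sylow.coe_subtype] at h2
  exact h2

/-- A normal Sylow subgroup of a normal subgroup is normal. -/
theorem map_normal_of_normal (M : Subgroup G) [hM : M.Normal] (Q : Sylow p M)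
    (hQ : (Q : Subgroup M).Normal) : (((Q : Subgroup M).map M.subtype : Subgroup G)).Normal := by
  have h1 := Sylow.normalizer_sup_eq_top Q
  have h2 : M ≤ Subgroup.normalizer (((Q : Subgroup M).map M.subtype : Subgroup G) : Set G) := by
    intro m hm
    rw [Subgroup.mem_normalizer_iff]
    intro u
    constructor
    · rintro ⟨v, hv, rfl⟩
      exact ⟨(⟨m, hm⟩ : M) * v * (⟨m, hm⟩ : M)⁻¹, hQ.conj_mem _ hv _, rfl⟩
    · rintro ⟨v, hv, hvu⟩
      have hvu' : (v : G) = m * u * m⁻¹ := hvu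
      have hu : (⟨m, hm⟩ : M)⁻¹ * v * (⟨m, hm⟩ : M) ∈ (Q : Subgroup M) := by
        have := hQ.conj_mem _ hv (⟨m, hm⟩ : M)⁻¹
        simpa using this
      refine ⟨_, hu, ?_⟩
      show m⁻¹ * (v : G) * m = u
      rw [hvu']
      group
  rw [sup_eq_left.mpr h2] at h1
  exact Subgroup.normalizer_eq_top_iff.mp h1

/-- A Sylow subgroup of `G`, normal in a normal subgroup containing it, is normal. -/
theorem normal_of_le_normal (M : Subgroup G) [hM : M.Normal]
    (hK : ∀ Q : Sylow p M, (Q : Subgroup M).Normal) (P : Sylow p G) (hPM : (P : Subgroup G) ≤ M) :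
    (P : Subgroup G).Normal := by
  have h1 := map_normal_of_normal p M (P.subtype hPM) (hK _)
  rw [Sylow.coe_subtype, Subgroup.subgroupOf_map_subtype, inf_of_le_left hPM] at h1
  exact h1

/-- A `p`-element: the `p`-part of a power outside a normal subgroup of index `p`. -/
theorem exists_pelement_power (M : Subgroup G) [hM : M.Normal] (hidx : M.index = p) (u : G) (hu : u ∉ M) :
    ∃ (b k : ℕ), (u ^ b) ^ (p ^ k) = 1 ∧ u ^ b ∉ M := by
  have hpp := hp.out
  have ho : orderOf u ≠ 0 := (orderOf_pos u).ne'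
  obtain ⟨a, b, hb, hab⟩ := Nat.exists_eq_pow_mul_and_not_dvd ho p hpp.ne_one
  refine ⟨b, a, ?_, ?_⟩
  · rw [← pow_mul, mul_comm, ← hab, pow_orderOf_eq_one]
  · intro hmem
    have hcard : Nat.card (G ⧸ M) = p := by rw [← hidx]; rfl
    have h1 : ((u : G ⧸ M)) ^ b = 1 := by
      rw [← QuotientGroup.mk_pow, QuotientGroup.eq_one_iff]
      exact hmem
    have h2 : ((u : G ⧸ M)) ≠ 1 := by
      rw [Ne, QuotientGroup.eq_one_iff]
      exact hu
    have h3 : ((u : G ⧸ M)) ^ p = 1 := by
      rw [← hcard]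
      exact pow_card_eq_one'
    have h4 : orderOf ((u : G ⧸ M)) = p := orderOf_eq_prime h3 h2
    have h5 : orderOf ((u : G ⧸ M)) ∣ b := orderOf_dvd_of_pow_eq_one h1
    rw [h4] at h5
    exact hb h5

/-- Any element is a power of a given element outside `M` modulo `M`, `M` of index `p`. -/
theorem exists_zpow_mem (M : Subgroup G) [hM : M.Normal] (hidx : M.index = p) (x : G) (hx : x ∉ M)
    (g : G) : ∃ j : ℤ, (x ^ j)⁻¹ * g ∈ M := by
  have hcard : Nat.card (G ⧸ M) = p := by rw [← hidx]; rfl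
  have h2 : ((x : G ⧸ M)) ≠ 1 := by
    rw [Ne, QuotientGroup.eq_one_iff]
    exact hx
  have h3 := zpowers_eq_top_of_prime_card hcard h2
  have h4 : ((g : G ⧸ M)) ∈ Subgroup.zpowers ((x : G ⧸ M)) := by
    rw [h3]
    exact Subgroup.mem_top _
  obtain ⟨j, hj⟩ := Subgroup.mem_zpowers_iff.mp h4
  refine ⟨j, ?_⟩
  rw [← QuotientGroup.eq]
  rw [← hj]
  rfl

/-- Normal subgroups of prime index `p` force normal Sylow `p`-subgroups. -/
theorem normal_of_index_eq
    (hL : ∀ q : ℕ, q.Prime → q ≠ p → ∀ R : Subgroup G, IsPGroup q R → ∀ (x : G) (k : ℕ),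
      x ^ (p ^ k) = 1 → (∀ r ∈ R, x * r * x⁻¹ ∈ R) → ∀ r ∈ R, x * r * x⁻¹ = r)
    (M : Subgroup G) [hM : M.Normal] (hK : ∀ Q : Sylow p M, (Q : Subgroup M).Normal)
    (hidx : M.index = p) (P : Sylow p G) : (P : Subgroup G).Normal := by
  classical
  have hpp := hp.out
  have hMtop : M ≠ ⊤ := by
    intro h
    rw [h, Subgroup.index_top] at hidx
    exact hpp.ne_one hidx.symm
  obtain ⟨Q₀⟩ : Nonempty (Sylow p M) := Sylow.nonempty
  let Q' : Subgroup G := (Q₀ : Subgroup M).map M.subtype
  haveI hQ'n : Q'.Normal := map_normal_of_normal p M Q₀ (hK Q₀)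
  have hQ'p : IsPGroup p Q' := (Q₀.isPGroup').map M.subtype
  have hQ'P : Q' ≤ P := hQ'p.le_sylow_of_normal P
  have hPM : ∀ w ∈ (P : Subgroup G), w ∈ M → w ∈ Q' := by
    intro w hwP hwM
    obtain ⟨k, hk⟩ := P.isPGroup' ⟨w, hwP⟩
    have hk' : w ^ (p ^ k) = 1 := congrArg Subtype.val hk
    have h1 := mem_of_normal_sylow p Q₀ (hK Q₀) (⟨w, hwM⟩ : M) k (Subtype.ext hk')
    exact ⟨_, h1, rfl⟩
  have hQM : Q' ≤ M := by
    rintro _ ⟨v, -, rfl⟩
    exact v.2
  let NP : Subgroup G := Subgroup.normalizer ((P : Subgroup G) : Set G)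
  -- elements commuting with an element of `P` outside `M`
  have hnorm_of : ∀ (x : G), x ∈ (P : Subgroup G) → x ∉ M → ∀ t : G, t ∈ M → x * t = t * x → t ∈ NP := by
    intro x hxP hxM t htM hcomm
    have hone : ∀ t' : G, t' ∈ M → x * t' = t' * x → ∀ w ∈ (P : Subgroup G), t' * w * t'⁻¹ ∈ (P : Subgroup G) := by
      intro t' ht'M hcomm' w hw
      obtain ⟨j, hj⟩ := exists_zpow_mem p M hidx x hxM w
      have hxj : x ^ j ∈ (P : Subgroup G) := Subgroup.zpow_mem _ hxP j
      have hw' : (x ^ j)⁻¹ * w ∈ (P : Subgroup G) := mul_mem (inv_mem hxj) hw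
      have h1 : (x ^ j)⁻¹ * w ∈ Q' := hPM _ hw' hj
      have h2 : t' * ((x ^ j)⁻¹ * w) * t'⁻¹ ∈ Q' := hQ'n.conj_mem _ h1 t'
      have h3 : Commute x t' := hcomm'
      have h4 : Commute (x ^ j) t' := h3.zpow_left j
      have h5 : t' * w * t'⁻¹ = x ^ j * (t' * ((x ^ j)⁻¹ * w) * t'⁻¹) := by
        have h6 : t' * (x ^ j)⁻¹ = (x ^ j)⁻¹ * t' := by
          have := (h4.inv_left).eq
          exact this.symm
        calc t' * w * t'⁻¹ = x ^ j * ((x ^ j)⁻¹ * t') * w * t'⁻¹ := by group
          _ = x ^ j * (t' * (x ^ j)⁻¹) * w * t'⁻¹ := by rw [h6]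
          _ = _ := by group
      rw [h5]
      exact mul_mem hxj (hQ'P h2)
    rw [Subgroup.mem_normalizer_iff]
    intro w
    constructor
    · exact hone t htM hcomm w
    · intro hw
      have h1 := hone t⁻¹ (inv_mem htM) (by
        have h3 : Commute x t := hcomm
        exact (h3.inv_right).eq) _ hw
      have h2 : t⁻¹ * (t * w * t⁻¹) * t⁻¹⁻¹ = w := by group
      rw [h2] at h1
      exact h1
  -- the subgroup of `M` normalizing `P`
  let T : Subgroup M := NP.subgroupOf M
  have hTone : T.index = 1 := by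
    by_contra hne
    obtain ⟨q, hq, hqd⟩ := Nat.exists_prime_and_dvd hne
    by_cases hqp : q = p
    · -- the prime `p`
      subst hqp
      have h1 : (Q₀ : Subgroup M) ≤ T := by
        intro v hv
        show ((v : M) : G) ∈ NP
        exact Subgroup.le_normalizer (hQ'P ⟨v, hv, rfl⟩)
      have h2 := Subgroup.index_dvd_of_le h1
      exact Q₀.not_dvd_index (hqd.trans h2)
    · -- another prime
      haveI := Fact.mk hq
      obtain ⟨R₀⟩ : Nonempty (Sylow q M) := Sylow.nonempty
      let R : Subgroup G := (R₀ : Subgroup M).map M.subtype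
      have hRq : IsPGroup q R := (R₀.isPGroup').map M.subtype
      have hF := Sylow.normalizer_sup_eq_top R₀
      obtain ⟨u, huN, huM⟩ : ∃ u ∈ Subgroup.normalizer (R : Set G), u ∉ M := by
        by_contra hcon
        push Not at hcon
        apply hMtop
        rw [← hF]
        exact (sup_eq_right.mpr hcon).symm
      obtain ⟨b, k, hbk, hbM⟩ := exists_pelement_power p M hidx u huM
      have hbN : u ^ b ∈ Subgroup.normalizer (R : Set G) := pow_mem huN b
      have hcent := hL q hq hqp R hRq (u ^ b) k hbk (fun r hr =>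
        (Subgroup.mem_normalizer_iff.mp hbN r).mp hr)
      -- move into `P`
      have hzp : IsPGroup p (Subgroup.zpowers (u ^ b)) := by
        rintro ⟨g, hg⟩
        obtain ⟨i, rfl⟩ := Subgroup.mem_zpowers_iff.mp hg
        refine ⟨k, Subtype.ext ?_⟩
        show ((u ^ b) ^ i) ^ (p ^ k) = 1
        rw [← zpow_natCast, ← zpow_mul, mul_comm, zpow_mul, zpow_natCast, hbk, one_zpow]
      obtain ⟨S, hS⟩ := hzp.exists_le_sylow
      obtain ⟨g, hg⟩ := MulAction.exists_smul_eq G S P
      have hgmem : ∀ y ∈ (S : Subgroup G), g * y * g⁻¹ ∈ (P : Subgroup G) := by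
        intro y hy
        rw [← hg, Sylow.coe_subgroup_smul]
        exact ⟨y, hy, rfl⟩
      let x := g * u ^ b * g⁻¹
      have hxP : x ∈ (P : Subgroup G) := hgmem _ (hS (Subgroup.mem_zpowers _))
      have hxM : x ∉ M := by
        intro h
        apply hbM
        have h1 := hM.conj_mem _ h g⁻¹
        have h2 : g⁻¹ * x * g⁻¹⁻¹ = u ^ b := by
          simp only [x]
          group
        rwa [h2] at h1
      -- the conjugate of `R`
      let R₁ : Sylow q M := (MulAut.conjNormal g : MulAut M) • R₀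
      have hR₁ : (R₁ : Subgroup M) ≤ T := by
        intro v hv
        have hv' : v ∈ (MulAut.conjNormal g : MulAut M) • (R₀ : Subgroup M) := by
          rw [← Sylow.pointwise_smul_def]
          exact hv
        obtain ⟨r, hr, rfl⟩ := Subgroup.mem_smul_pointwise_iff_exists _ _ _ |>.mp hv'
        show (((MulAut.conjNormal g : MulAut M) • r : M) : G) ∈ NP
        have hval : (((MulAut.conjNormal g : MulAut M) • r : M) : G) = g * (r : G) * g⁻¹ :=
          MulAut.conjNormal_apply g r
        apply hnorm_of x hxP hxM _ (((MulAut.conjNormal g : MulAut M) • r : M)).2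
        rw [hval]
        have h1 : u ^ b * (r : G) * (u ^ b)⁻¹ = r := hcent _ ⟨r, hr, rfl⟩
        have h2 : u ^ b * (r : G) = r * u ^ b := by
          rw [← mul_inv_eq_iff_eq_mul]
          exact h1
        simp only [x]
        calc g * u ^ b * g⁻¹ * (g * (r : G) * g⁻¹) = g * (u ^ b * (r : G)) * g⁻¹ := by group
          _ = g * ((r : G) * u ^ b) * g⁻¹ := by rw [h2]
          _ = _ := by group
      have h2 := Subgroup.index_dvd_of_le hR₁
      exact R₁.not_dvd_index (hqd.trans h2)
  have hMN : M ≤ NP := by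
    have h1 : T = ⊤ := Subgroup.index_eq_one.mp hTone
    intro m hm
    have h2 : (⟨m, hm⟩ : M) ∈ T := by
      rw [h1]
      exact Subgroup.mem_top _
    exact h2
  -- a element of `P` outside `M`
  obtain ⟨x, hxP, hxM⟩ : ∃ x ∈ (P : Subgroup G), x ∉ M := by
    by_contra hcon
    push Not at hcon
    have h1 := Subgroup.index_dvd_of_le hcon
    rw [hidx] at h1
    exact P.not_dvd_index h1
  have htop : NP = ⊤ := by
    rw [eq_top_iff]
    intro g _
    obtain ⟨j, hj⟩ := exists_zpow_mem p M hidx x hxM g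
    have h1 : x ^ j ∈ NP := Subgroup.zpow_mem _ (Subgroup.le_normalizer hxP) j
    have h2 := mul_mem h1 (hMN hj)
    rwa [mul_inv_cancel_left] at h2
  exact Subgroup.normalizer_eq_top_iff.mp htop

/-- A central element of order prime to the index gives a normal subgroup of index `p`. -/
theorem exists_index_of_central (P : Sylow p G) (hab : ∀ a ∈ (P : Subgroup G), ∀ b ∈ (P : Subgroup G), a * b = b * a)
    (z : G) (hzP : z ∈ (P : Subgroup G)) (hzZ : z ∈ Subgroup.center G) (hz1 : z ≠ 1) :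
    ∃ M : Subgroup G, M.Normal ∧ M.index = p := by
  classical
  letI : CommGroup (P : Subgroup G) :=
    { (inferInstance : Group (P : Subgroup G)) with
      mul_comm := fun a b => Subtype.ext (hab a a.2 b b.2) }
  haveI : (P : Subgroup G).FiniteIndex := inferInstance
  let V : G →* (P : Subgroup G) := MonoidHom.transfer (MonoidHom.id (P : Subgroup G))
  have hV : V z ≠ 1 := by
    have h1 : V z = ⟨z ^ (P : Subgroup G).index, _⟩ :=
      MonoidHom.transfer_eq_pow (MonoidHom.id (P : Subgroup G)) z (fun k g₀ hk => by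
        have h2 : z ^ k ∈ Subgroup.center G := pow_mem hzZ k
        rw [Subgroup.mem_center_iff] at h2
        rw [mul_assoc, ← h2 g₀]
        group)
    intro h2
    rw [h1] at h2
    have h3 : z ^ (P : Subgroup G).index = 1 := congrArg Subtype.val h2
    obtain ⟨k, hk⟩ := P.isPGroup' ⟨z, hzP⟩
    have hk' : z ^ (p ^ k) = 1 := congrArg Subtype.val hk
    have h4 : orderOf z ∣ p ^ k := orderOf_dvd_of_pow_eq_one hk'
    have h5 : orderOf z ∣ (P : Subgroup G).index := orderOf_dvd_of_pow_eq_one h3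
    have h6 : Nat.Coprime (p ^ k) (P : Subgroup G).index :=
      Nat.Coprime.pow_left k ((Nat.Prime.coprime_iff_not_dvd hp.out).mpr P.not_dvd_index)
    have h7 : orderOf z = 1 := Nat.Coprime.eq_one_of_dvd (h6.coprime_dvd_left h4) h5
    exact hz1 (orderOf_eq_one_iff.mp h7)
  -- the image is a nontrivial `p`-group
  let I : Subgroup (P : Subgroup G) := V.range
  have hIp : IsPGroup p I := P.isPGroup'.to_subgroup I
  obtain ⟨s, hs⟩ := IsPGroup.iff_card.mp hIp
  have hs0 : s ≠ 0 := by
    intro h0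
    rw [h0, pow_zero] at hs
    have h1 : (⟨V z, ⟨z, rfl⟩⟩ : I) = 1 := by
      have := Nat.card_eq_one_iff_unique.mp hs
      exact Subsingleton.elim (h := this.1) _ _
    exact hV (congrArg Subtype.val h1)
  obtain ⟨t, rfl⟩ : ∃ t, s = t + 1 := ⟨s - 1, by omega⟩
  obtain ⟨K, hK⟩ := Sylow.exists_subgroup_card_pow_prime (G := I) p (n := t)
    (by rw [hs]; exact pow_dvd_pow p (Nat.le_succ t))
  have hKidx : K.index = p := by
    have h1 := Subgroup.card_mul_index K
    rw [hK, hs, pow_succ] at h1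
    have hpos : 0 < p ^ t := pow_pos hp.out.pos t
    exact Nat.eq_of_mul_eq_mul_left hpos h1
  have hsurj : Function.Surjective (V.rangeRestrict) := MonoidHom.rangeRestrict_surjective V
  haveI hKn : K.Normal := by
    constructor
    intro n hn g
    have h1 : g * n * g⁻¹ = n := by
      have h2 : g * n = n * g := mul_comm g n
      rw [h2]
      group
    rw [h1]
    exact hn
  refine ⟨K.comap V.rangeRestrict, Subgroup.Normal.comap hKn _, ?_⟩
  rw [Subgroup.index_comap_of_surjective _ hsurj, hKidx]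

/-- The bound for a minimal counterexample. -/
theorem card_lt_of_min (hρ : Function.Injective ρ) (hlt : n + 1 < p)
    (hpc : ∀ K : Subgroup G, K ≠ ⊤ → ∀ Q : Sylow p K, (Q : Subgroup K).Normal) (P : Sylow p G)
    (hP : ¬ (P : Subgroup G).Normal) : Nat.card (P : Subgroup G) < (n + 1) ^ 2 := by
  classical
  letI := Fintype.ofFinite G
  letI : Fintype (P : Subgroup G) := Fintype.ofFinite _
  have hpp := hp.out
  have hcomm := pgroup_comm ρ hρ p hpp (by omega)
  have hSab : ∀ S : Sylow p G, ∀ a ∈ (S : Subgroup G), ∀ b ∈ (S : Subgroup G), a * b = b * a :=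
    fun S => hcomm S S.isPGroup'
  have hL : ∀ q : ℕ, q.Prime → q ≠ p → ∀ R : Subgroup G, IsPGroup q R → ∀ (x : G) (k : ℕ),
      x ^ (p ^ k) = 1 → (∀ r ∈ R, x * r * x⁻¹ ∈ R) → ∀ r ∈ R, x * r * x⁻¹ = r :=
    fun q hq hqp R hR x k hx hxR =>
      centralize_of_normalize ρ hρ p q hpp hq (Ne.symm hqp) hlt R hR x k hx hxR
  have hnoM : ∀ M : Subgroup G, M.Normal → M.index ≠ p := by
    intro M hM hidx
    haveI := hM
    apply hP
    refine normal_of_index_eq p hL M (hpc M ?_) hidx P
    intro h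
    rw [h, Subgroup.index_top] at hidx
    exact hpp.ne_one hidx.symm
  have hZS : ∀ S : Sylow p G, (S : Subgroup G) ⊓ Subgroup.center G = ⊥ := by
    intro S
    by_contra hne
    obtain ⟨z, hz, hz1⟩ := (Subgroup.bot_or_exists_ne_one _).resolve_left hne
    obtain ⟨M, hM, hidx⟩ := exists_index_of_central p S (hSab S) z hz.1 hz.2 hz1
    exact hnoM M hM hidx
  have hnc : ∀ S : Sylow p G, ∀ u ∈ (S : Subgroup G), u ≠ 1 → u ∉ Subgroup.center G := by
    intro S u hu hu1 huZ
    have h1 : u ∈ (S : Subgroup G) ⊓ Subgroup.center G := ⟨hu, huZ⟩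
    rw [hZS S, Subgroup.mem_bot] at h1
    exact hu1 h1
  have hcenttop : ∀ g : G, g ∉ Subgroup.center G → Subgroup.centralizer ({g} : Set G) ≠ ⊤ := by
    intro g hg h
    apply hg
    rw [Subgroup.mem_center_iff]
    intro y
    have h1 : y ∈ Subgroup.centralizer ({g} : Set G) := by
      rw [h]
      exact Subgroup.mem_top y
    exact Subgroup.mem_centralizer_singleton_iff.mp h1
  have hU : ∀ S : Sylow p G, ∀ u ∈ (S : Subgroup G), u ≠ 1 → ∀ y : G, y * u = u * y →
      ∀ j : ℕ, y ^ (p ^ j) = 1 → y ∈ (S : Subgroup G) := by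
    intro S u hu hu1 y hyu j hy
    have h1 := hpc _ (hcenttop u (hnc S u hu hu1))
    refine mem_of_le_pc p _ h1 S ?_ y (Subgroup.mem_centralizer_singleton_iff.mpr hyu) j hy
    intro w hw
    exact Subgroup.mem_centralizer_singleton_iff.mpr (hSab S w hw u hu)
  have hord : ∀ S : Sylow p G, ∀ y ∈ (S : Subgroup G), ∃ j : ℕ, y ^ (p ^ j) = 1 := by
    intro S y hy
    obtain ⟨k, hk⟩ := S.isPGroup' ⟨y, hy⟩
    exact ⟨k, congrArg Subtype.val hk⟩
  have hconj : ∀ c : G, (P : Subgroup G).map (MulAut.conj c).toMonoidHom = ((c • P : Sylow p G) : Subgroup G) := by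
    intro c
    rw [Sylow.coe_subgroup_smul]
    rfl
  have hone : ∀ g : G, g ∉ Subgroup.center G → ∀ a b : G,
      Subgroup.centralizer ({g} : Set G) ⊓ (P : Subgroup G).map (MulAut.conj a).toMonoidHom ≠ ⊥ →
      Subgroup.centralizer ({g} : Set G) ⊓ (P : Subgroup G).map (MulAut.conj b).toMonoidHom ≠ ⊥ →
      (P : Subgroup G).map (MulAut.conj a).toMonoidHom = (P : Subgroup G).map (MulAut.conj b).toMonoidHom := by
    intro g hg a b hA hB
    rw [hconj a, hconj b] at *
    set Sa : Sylow p G := a • P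
    set Sb : Sylow p G := b • P
    obtain ⟨u, ⟨huK, huS⟩, hu1⟩ := (Subgroup.bot_or_exists_ne_one _).resolve_left hA
    obtain ⟨v, ⟨hvK, hvS⟩, hv1⟩ := (Subgroup.bot_or_exists_ne_one _).resolve_left hB
    let K : Subgroup G := Subgroup.centralizer ({g} : Set G)
    have hKne : K ≠ ⊤ := hcenttop g hg
    obtain ⟨R⟩ : Nonempty (Sylow p K) := Sylow.nonempty
    have hRn := hpc K hKne R
    obtain ⟨j₁, hj₁⟩ := hord Sa u huS
    obtain ⟨j₂, hj₂⟩ := hord Sb v hvS
    have huR := mem_of_normal_sylow p R hRn (⟨u, huK⟩ : K) j₁ (Subtype.ext hj₁)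
    have hvR := mem_of_normal_sylow p R hRn (⟨v, hvK⟩ : K) j₂ (Subtype.ext hj₂)
    have hR₀ : IsPGroup p ((R : Subgroup K).map K.subtype : Subgroup G) := (R.isPGroup').map K.subtype
    have huv := hcomm _ hR₀ u ⟨_, huR, rfl⟩ v ⟨_, hvR, rfl⟩
    have hvSa : v ∈ (Sa : Subgroup G) := hU Sa u huS hu1 v huv.symm j₂ hj₂
    apply le_antisymm
    · intro w hw
      obtain ⟨j, hj⟩ := hord Sa w hw
      exact hU Sb v hvS hv1 w (hSab Sa w hw v hvSa) j hj
    · intro w hw
      obtain ⟨j, hj⟩ := hord Sb w hw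
      exact hU Sa v hvSa hv1 w (hSab Sb w hw v hvS) j hj
  have hmin : ∀ M : Subgroup G, M.Normal → (P : Subgroup G) ≤ M → M = ⊤ := by
    intro M hM hPM
    by_contra hne
    haveI := hM
    exact hP (normal_of_le_normal p M (hpc M hne) P hPM)
  -- a nonlinear constituent
  obtain ⟨m, hm⟩ := exists_nat_decomp (show IsCharacter G ρ.character from ⟨n, ρ, rfl⟩)
  have hn : (∑ i, m i • (i : G → ℂ)) 1 = (n : ℂ) := by
    rw [← hm]
    exact char_one_eq_rep ρ
  obtain ⟨θ, hθm, hθ1⟩ : ∃ θ : IrrCharacter G, m θ ≠ 0 ∧ (θ : G → ℂ) 1 ≠ 1 := by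
    by_contra hcon
    push Not at hcon
    apply hP
    constructor
    intro w hw g
    have h1 := commutator_of_linear m hcon g w
    rw [← hm] at h1
    have h2 := eq_one_of_char_eq ρ hρ _ h1
    have h3 : g * w * g⁻¹ = w := eq_of_mul_inv_eq_one h2
    rw [h3]
    exact hw
  have h1 := Cfsg.Agent.Lib.FTDegree.second_bound (P : Subgroup G) (hSab P) (hZS P) hone
    (θ : G → ℂ) θ.2 hθ1 hmin
  have h2 := degree_le_of_constituent m hn θ hθm
  rw [one_eq_charDegree (IsIrrCharacter.isCharacter θ.2)] at h1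
  simp only [Complex.natCast_re] at h1
  have h3 : (1 + (charDegree (θ : G → ℂ) : ℝ)) ^ 2 ≤ ((n + 1 : ℕ) : ℝ) ^ 2 := by
    apply pow_le_pow_left₀ (by positivity)
    have h4 : (charDegree (θ : G → ℂ) : ℝ) ≤ n := by exact_mod_cast h2
    push_cast
    linarith
  have h5 : (Nat.card (P : Subgroup G) : ℝ) < ((n + 1 : ℕ) : ℝ) ^ 2 := lt_of_lt_of_le h1 h3
  exact_mod_cast h5

end Group

section Top

variable (p : ℕ) [hp : Fact p.Prime]

/-- Normality of Sylow subgroups transfers along isomorphisms. -/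
theorem pc_of_mulEquiv {A B : Type u} [Group A] [Group B] [Finite A] [Finite B] (e : A ≃* B)
    (h : ∀ Q : Sylow p B, (Q : Subgroup B).Normal) (Q : Sylow p A) : (Q : Subgroup A).Normal := by
  have h1 : ((Q : Subgroup A).comap e.symm.toMonoidHom).Normal :=
    h (Q.comapOfInjective e.symm.toMonoidHom e.symm.injective (fun x _ => ⟨e x, by simp⟩))
  have h2 := Subgroup.Normal.comap h1 e.toMonoidHom
  convert h2 using 1
  ext x
  simp

/-- Main theorem. -/
theorem main (n : ℕ) (hlt : n + 1 < p) (N : ℕ) : ∀ (G : Type u) [Group G] [Finite G], Nat.card G = N →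
    ∀ ρ : Representation ℂ G (Fin n → ℂ), Function.Injective ρ →
    ((n + 1) ^ 2 ≤ p ∨ ∀ K : Subgroup G, ¬ p ^ 2 ∣ Nat.card K → ∀ Q : Sylow p K, (Q : Subgroup K).Normal) →
    ∀ P : Sylow p G, (P : Subgroup G).Normal := by
  induction N using Nat.strong_induction_on with
  | _ N ih =>
    intro G _ _ hcard ρ hρ h P
    classical
    by_contra hP
    have hpp := hp.out
    have hpc : ∀ K : Subgroup G, K ≠ ⊤ → ∀ Q : Sylow p K, (Q : Subgroup K).Normal := by
      intro K hK
      have hlt' : Nat.card K < N := by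
        rw [← hcard, ← Subgroup.card_mul_index K]
        have h1 := Subgroup.one_lt_index_of_ne_top hK
        have h2 : 0 < Nat.card K := Nat.card_pos
        nlinarith
      refine ih _ hlt' K rfl (ρ.comp K.subtype) (hρ.comp K.subtype_injective) ?_
      rcases h with h | h
      · exact Or.inl h
      · right
        intro K' hK'
        let K'' : Subgroup G := K'.map K.subtype
        have he : K' ≃* K'' := K'.equivMapOfInjective K.subtype K.subtype_injective
        have hcard' : Nat.card K'' = Nat.card K' := Nat.card_congr he.symm.toEquiv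
        exact pc_of_mulEquiv p he (h K'' (by rwa [hcard']))
    have hbound := card_lt_of_min ρ p hρ hlt hpc P hP
    have hPne : (P : Subgroup G) ≠ ⊥ := by
      intro h0
      apply hP
      rw [h0]
      infer_instance
    have hdvd : ∃ s, Nat.card (P : Subgroup G) = p ^ s := IsPGroup.iff_card.mp P.isPGroup'
    obtain ⟨s, hs⟩ := hdvd
    have hs0 : s ≠ 0 := by
      intro h0
      rw [h0, pow_zero] at hs
      exact hPne ((Subgroup.card_eq_one).mp hs)
    rcases h with h | h
    · have h1 : p ≤ Nat.card (P : Subgroup G) := by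
        rw [hs]
        exact Nat.le_self_pow hs0 p
      omega
    · by_cases hd : p ^ 2 ∣ Nat.card G
      · have h1 := P.pow_dvd_card_of_pow_dvd_card hd
        have h2 : p ^ 2 ≤ Nat.card (P : Subgroup G) := Nat.le_of_dvd Nat.card_pos h1
        have h3 : p ^ 2 < (n + 1) ^ 2 := lt_of_le_of_lt h2 hbound
        have h4 : p < n + 1 := lt_of_pow_lt_pow_left₀ 2 (Nat.zero_le _) h3
        omega
      · have h1 : Nat.card (⊤ : Subgroup G) = Nat.card G := Nat.card_congr Subgroup.topEquiv.toEquiv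
        have h2 := h ⊤ (by rwa [h1])
        exact hP (normal_of_le_normal p ⊤ h2 P le_top)

/-- Feit, Thompson and Blichfeldt. -/
theorem normal_sylow {G : Type u} [Group G] [Finite G] (n : ℕ) (ρ : Representation ℂ G (Fin n → ℂ))
    (hρ : Function.Injective ρ)
    (h : (n + 1) ^ 2 ≤ p ∨ (n + 1 < p ∧ ∀ K : Subgroup G, ¬ p ^ 2 ∣ Nat.card K → ∀ Q : Sylow p K, (Q : Subgroup K).Normal))
    (P : Sylow p G) : (P : Subgroup G).Normal := by
  have hpp := hp.out
  have hlt : n + 1 < p := by
    rcases h with h | h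
    · rcases Nat.eq_zero_or_pos n with hn | hn
      · subst hn
        exact hpp.one_lt
      · have : n + 1 < (n + 1) ^ 2 := by nlinarith
        omega
    · exact h.1
  refine main p n hlt _ G rfl ρ hρ ?_ P
  rcases h with h | h
  · exact Or.inl h
  · exact Or.inr h.2

end Top

end Cfsg.Agent.Lib.FTBlichMain
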