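import Mathlib
import Cfsg.Agent.Lib.CoXi2

set_option autoImplicit false
set_option linter.unusedVariables false
set_option linter.unusedSimpArgs false

/-!
# Inner products of coded vectors by one multiplication

The digits of a vector, spread out in base `2 ^ 32`, are multiplied by the digits of a second vector in reverse order:
the digit number 49 of the product is the inner product of the two vectors of digits. With a list of digits followed by
its reverse, a number is its own reverse. The rows of a table get an extra digit at the low end, which keeps the hash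
values of the numbers apart, as these are the values of the numbers modulo `2 ^ 64`.
-/

namespace Cfsg.Agent.Lib.FastDot

/-- The base. -/
def B : ℕ := 4294967296

/-- Digits in increasing order. -/
def evE : List ℕ → ℕ
  | [] => 0
  | x :: xs => x + B * evE xs

/-- Digits in decreasing order. -/
def evR : List ℕ → ℕ
  | [] => 0
  | y :: ys => y * B ^ ys.length + evR ys

/-- The inner product of two lists. -/
def dotL : List ℕ → List ℕ → ℕ
  | x :: xs, y :: ys => x * y + dotL xs ys
  | _, _ => 0

theorem evR_bound (ys : List ℕ) (hy : ∀ y ∈ ys, y ≤ 4095) : evR ys * B ≤ 8190 * B ^ ys.length := by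
  induction ys with
  | nil => simp [evR]
  | cons y ys ih =>
    have h1 := ih (fun a ha => hy a (by simp [ha]))
    have h2 := hy y (by simp)
    have h3 : y * B ^ ys.length ≤ 4095 * B ^ ys.length := Nat.mul_le_mul_right _ h2
    simp only [evR, List.length_cons]
    have e : B ^ (ys.length + 1) = B ^ ys.length * B := pow_succ _ _
    rw [e, add_mul]
    have hB : (2 : ℕ) ≤ B := by norm_num [B]
    have h4 : 8190 * B ^ ys.length ≤ 4095 * (B ^ ys.length * B) := by nlinarith [Nat.zero_le (B ^ ys.length)]
    have h5 : y * B ^ ys.length * B ≤ 4095 * B ^ ys.length * B := Nat.mul_le_mul_right _ h3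
    nlinarith

/-- The shape of the product. -/
theorem product_shape (xs ys : List ℕ) (n : ℕ) (hx : xs.length = n + 1) (hy : ys.length = n + 1)
    (h1 : ∀ a ∈ xs, a ≤ 4095) (h2 : ∀ a ∈ ys, a ≤ 4095) :
    ∃ L U : ℕ, evE xs * evR ys = L + dotL xs ys * B ^ n + U * B ^ (n + 1) ∧ L * B ≤ 33538050 * n * B ^ n := by
  induction n generalizing xs ys with
  | zero =>
    match xs, ys, hx, hy with
    | [x], [y], _, _ =>
      refine ⟨0, 0, ?_, by simp⟩
      simp [evE, evR, dotL]
  | succ n ih =>
    match xs, ys, hx, hy with
    | x :: xs', y :: ys', hx', hy' =>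
      have lx : xs'.length = n + 1 := by simpa using hx'
      have ly : ys'.length = n + 1 := by simpa using hy'
      obtain ⟨L, U, e, hL⟩ := ih xs' ys' lx ly (fun a ha => h1 a (by simp [ha])) (fun a ha => h2 a (by simp [ha]))
      have hxx := h1 x (by simp)
      have hr := evR_bound ys' (fun a ha => h2 a (by simp [ha]))
      rw [ly] at hr
      refine ⟨x * evR ys' + B * L, evE xs' * y + U, ?_, ?_⟩
      · simp only [evE, evR, dotL, ly]
        have e2 : (x + B * evE xs') * (y * B ^ (n + 1) + evR ys') =
            x * evR ys' + x * y * B ^ (n + 1) + evE xs' * y * B ^ (n + 1 + 1) + B * (evE xs' * evR ys') := by ring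
        rw [e2, e]
        ring
      · have h3 : x * evR ys' * B ≤ 4095 * (8190 * B ^ (n + 1)) := by
          calc x * evR ys' * B = x * (evR ys' * B) := by ring
            _ ≤ 4095 * (8190 * B ^ (n + 1)) := Nat.mul_le_mul hxx hr
        have h4 : B * L * B ≤ 33538050 * n * B ^ (n + 1) := by
          calc B * L * B = B * (L * B) := by ring
            _ ≤ B * (33538050 * n * B ^ n) := Nat.mul_le_mul_left _ hL
            _ = 33538050 * n * B ^ (n + 1) := by ring
        calc (x * evR ys' + B * L) * B = x * evR ys' * B + B * L * B := by ring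
          _ ≤ 4095 * (8190 * B ^ (n + 1)) + 33538050 * n * B ^ (n + 1) := Nat.add_le_add h3 h4
          _ = 33538050 * (n + 1) * B ^ (n + 1) := by ring

theorem dotL_le (xs ys : List ℕ) (h1 : ∀ a ∈ xs, a ≤ 4095) (h2 : ∀ a ∈ ys, a ≤ 4095) :
    dotL xs ys ≤ 16769025 * xs.length := by
  induction xs generalizing ys with
  | nil => simp [dotL]
  | cons x xs ih =>
    cases ys with
    | nil => simp [dotL]
    | cons y ys =>
      have h3 := ih ys (fun a ha => h1 a (by simp [ha])) (fun a ha => h2 a (by simp [ha]))
      have h4 : x * y ≤ 4095 * 4095 := Nat.mul_le_mul (h1 x (by simp)) (h2 y (by simp))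
      simp only [dotL, List.length_cons]
      omega

/-- The digit. -/
def digit (a b : ℕ) : ℕ := Nat.land (Nat.shiftRight (Nat.mul a b) 1568) 31

set_option exponentiation.threshold 2000 in
theorem digit_eq (xs ys : List ℕ) (hx : xs.length = 50) (hy : ys.length = 50)
    (h1 : ∀ a ∈ xs, a ≤ 4095) (h2 : ∀ a ∈ ys, a ≤ 4095) : digit (evE xs) (evR ys) = dotL xs ys % 32 := by
  obtain ⟨L, U, e, hL⟩ := product_shape xs ys 49 hx hy h1 h2
  have hBp : 0 < B ^ 49 := pow_pos (by norm_num [B]) 49
  have hL2 : L < B ^ 49 := by
    by_contra hn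
    have h3 : B ^ 49 ≤ L := by omega
    have h4 : B ^ 49 * B ≤ L * B := Nat.mul_le_mul_right _ h3
    have h5 : L * B ≤ 33538050 * 49 * B ^ 49 := hL
    have h6 : (33538050 * 49) * B ^ 49 < B ^ 49 * B := by
      rw [mul_comm (B ^ 49) B]
      exact Nat.mul_lt_mul_of_pos_right (by norm_num [B]) hBp
    omega
  unfold digit
  show ((evE xs * evR ys) >>> 1568) &&& 31 = _
  have e1 : (31 : ℕ) = 2 ^ 5 - 1 := by norm_num
  rw [e1, Nat.and_two_pow_sub_one_eq_mod, Nat.shiftRight_eq_div_pow, e]
  have e2 : (2 : ℕ) ^ 1568 = B ^ 49 := by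
    rw [show B = 2 ^ 32 by norm_num [B], ← pow_mul]
  rw [e2]
  have e4 : L + dotL xs ys * B ^ 49 + U * B ^ (49 + 1) = L + B ^ 49 * (dotL xs ys + U * B) := by ring
  rw [e4, Nat.add_mul_div_left _ _ hBp, Nat.div_eq_of_lt hL2, zero_add]
  have hB : B = 32 * 134217728 := by norm_num [B]
  rw [hB]
  have e5 : U * (32 * 134217728) = 32 * (U * 134217728) := by ring
  rw [e5, Nat.add_mul_mod_self_left]

/-! ### Reverses -/

theorem evE_append (l : List ℕ) (y : ℕ) : evE (l ++ [y]) = evE l + y * B ^ l.length := by
  induction l with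
  | nil => simp [evE]
  | cons x l ih =>
    simp only [List.cons_append, evE, List.length_cons, ih]
    ring

theorem evR_eq (l : List ℕ) : evR l = evE l.reverse := by
  induction l with
  | nil => rfl
  | cons y l ih =>
    simp only [evR, List.reverse_cons, evE_append, List.length_reverse, ih]
    ring

theorem dotL_append (xs ys xs' ys' : List ℕ) (h : xs.length = ys.length) :
    dotL (xs ++ xs') (ys ++ ys') = dotL xs ys + dotL xs' ys' := by
  induction xs generalizing ys with
  | nil =>
    cases ys with
    | nil => simp [dotL]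
    | cons y ys => simp at h
  | cons x xs ih =>
    cases ys with
    | nil => simp at h
    | cons y ys =>
      simp only [List.length_cons, Nat.add_right_cancel_iff] at h
      simp only [List.cons_append, dotL, ih _ h]
      ring

theorem dotL_reverse (xs ys : List ℕ) (h : xs.length = ys.length) : dotL xs.reverse ys.reverse = dotL xs ys := by
  induction xs generalizing ys with
  | nil =>
    cases ys with
    | nil => rfl
    | cons y ys => simp at h
  | cons x xs ih =>
    cases ys with
    | nil => simp at h
    | cons y ys =>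
      simp only [List.length_cons, Nat.add_right_cancel_iff] at h
      simp only [List.reverse_cons, dotL]
      rw [dotL_append _ _ _ _ (by simpa using h), ih _ h]
      simp only [dotL]
      ring

/-! ### Coded vectors -/

open Cfsg Cfsg.Agent.Lib.CoVec
open Cfsg.Agent.Lib.Golay (idxL)

/-- The digits of a coded vector, and their reverse. -/
def pal (c : ℕ) : List ℕ := idxL.map (byte c) ++ (idxL.map (byte c)).reverse

/-- The digits of a row. -/
def xsOf (i c : ℕ) : List ℕ := (i + 1) :: (pal c ++ [0])

/-- The reversed digits of a row. -/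
def ysOf (i c : ℕ) : List ℕ := 0 :: (pal c ++ [i + 1])

theorem pal_reverse (c : ℕ) : (pal c).reverse = pal c := by
  simp [pal]

theorem idxL_length : idxL.length = 24 := rfl

theorem pal_length (c : ℕ) : (pal c).length = 48 := by
  simp [pal, idxL_length]

theorem xsOf_length (i c : ℕ) : (xsOf i c).length = 50 := by
  simp [xsOf, pal_length]

theorem ysOf_length (i c : ℕ) : (ysOf i c).length = 50 := by
  simp [ysOf, pal_length]

/-- The row number `i` of a coded vector. -/
def mkRow (i c : ℕ) : ℕ := evE (xsOf i c)

theorem mkRow_eq (i c : ℕ) : mkRow i c = evR (ysOf i c) := by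
  rw [evR_eq]
  unfold mkRow xsOf ysOf
  congr 1

/-- The relation `inner product ≡ 8 modulo 16` on rows. -/
noncomputable def WW (r s : ℕ) : ℕ :=
  Bool.rec 0 1 (Nat.beq (Nat.land (Nat.shiftRight (Nat.mul r s) 1568) 31) 16)

theorem dotL_map (l : List ℕ) (f g : ℕ → ℕ) : dotL (l.map f) (l.map g) = (l.map fun i => f i * g i).sum := by
  induction l with
  | nil => rfl
  | cons a l ih =>
    simp only [List.map_cons, dotL, List.sum_cons, ih]

theorem WW_mk (i j a b : ℕ) (hi : i + 1 ≤ 4095) (hj : j + 1 ≤ 4095) :
    WW (mkRow i a) (mkRow j b) = if dotInt (dec a) (dec b) % 16 = 8 then 1 else 0 := by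
  have hb : ∀ c, ∀ x ∈ pal c, x ≤ 4095 := by
    intro c x hx
    have hx' : x ∈ idxL.map (byte c) := by
      simpa [pal] using hx
    obtain ⟨i, _, rfl⟩ := List.mem_map.1 hx'
    have := byte_lt c i
    omega
  have hx : ∀ x ∈ xsOf i a, x ≤ 4095 := by
    intro x hx
    simp only [xsOf, List.mem_cons, List.mem_append, List.not_mem_nil, or_false] at hx
    rcases hx with rfl | hx | rfl
    · exact hi
    · exact hb a x hx
    · omega
  have hy : ∀ x ∈ ysOf j b, x ≤ 4095 := by
    intro x hx
    simp only [ysOf, List.mem_cons, List.mem_append, List.not_mem_nil, or_false] at hx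
    rcases hx with rfl | hx | rfl
    · omega
    · exact hb b x hx
    · exact hj
  set S := (idxL.map fun k => byte a k * byte b k).sum with hS
  have h1 : Nat.land (Nat.shiftRight (Nat.mul (mkRow i a) (mkRow j b)) 1568) 31 = (2 * S) % 32 := by
    rw [mkRow_eq j b]
    show digit (evE (xsOf i a)) (evR (ysOf j b)) = _
    rw [digit_eq _ _ (xsOf_length i a) (ysOf_length j b) hx hy]
    have e0 : dotL (xsOf i a) (ysOf j b) = (i + 1) * 0 + dotL (pal a ++ [0]) (pal b ++ [j + 1]) := by
      simp only [xsOf, ysOf, dotL]
    have e1 : (pal a).length = (pal b).length := by rw [pal_length, pal_length]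
    have e2 : (idxL.map (byte a)).length = (idxL.map (byte b)).length := by simp
    have e3 : dotL (pal a) (pal b) = 2 * S := by
      unfold pal
      rw [dotL_append _ _ _ _ e2, dotL_reverse _ _ e2, dotL_map]
      simp only [hS]
      ring
    rw [e0, dotL_append _ _ _ _ e1, e3]
    simp only [dotL, mul_zero, zero_mul, zero_add, add_zero]
  have h2 : dotInt (dec a) (dec b) % 16 = 8 ↔ (2 * S) % 32 = 16 := by
    rw [dotInt_dec]
    have e1 : dotA a b = S + 393216 := rfl
    have e2 : dotB a b = 128 * (idxL.map fun i => byte a i + byte b i).sum := rfl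
    rw [e1, e2]
    push_cast
    omega
  unfold WW
  rw [h1]
  by_cases h : dotInt (dec a) (dec b) % 16 = 8
  · rw [if_pos h, h2.1 h]
    rfl
  · rw [if_neg h]
    have h3 : Nat.beq ((2 * S) % 32) 16 = false := by
      cases h4 : Nat.beq ((2 * S) % 32) 16
      · rfl
      · exact absurd (h2.2 (Nat.eq_of_beq_eq_true h4)) h
    rw [h3]

end Cfsg.Agent.Lib.FastDot
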