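import Mathlib
import Cfsg.Agent.Lib.Fi22K5a

/-!
# Fixed points of the outer involutions normalizing the Sylow 2-subgroup of `Fi₂₂`
-/

set_option autoImplicit false
set_option maxRecDepth 1000000
set_option linter.all false

namespace Cfsg.Agent.Lib.Fi22K

open Cfsg.Agent.Lib.OutTree36 Cfsg.Agent.Lib.TcBits Cfsg.Agent.Lib.TcPres Cfsg.Agent.Lib.PresChain36
open Cfsg.Agent.TcData.Fi22.I3510 Cfsg.Agent.TcData.Fi22 Cfsg.Agent.TcChain36.Fi22 Cfsg.Agent.TcChain36.Out.Fi22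

/-- The point permutation of the outer involution. -/
def s0T : ℕ := nat_lit 0x9b29a19af970978a638ae8acaa8ab8aa6a5ca94a788afaa719829529087528819629128b2891e628c30babca70a7989f1e0a3eb5e9b096e17c20699f32795fb35993209ba2bb6ba0b59b4b7b8d8226ed80b8d9a2d7d266b75201cb8b7626726bd753a6328b8f32c25e261ba19b3215146971203b0714120a802c7b25fc622079f9211204afe17fb089e29eb9db2128169fd7fcb77b7017ab36d4fc79d4d0d10f514a0f4d4800cc40ab9a6e12cd421e5d40d14bf72fba08c2ea97bf9a5dd37d36c19bf0a51d32a98d30d2fb89d2d1a01e8ba6135c76c3ec66aa9bd6c55194bf6305d1fd1e8fed1c8f91e9d19d18cf22fccd5d3fc561f4be83009168c8d0daca90d71b900c6829c1e28fccf01f0bda9fe1061021a1c8fa7119db8e1e3b88a0e1998f8719ba7d17ad8d04adf9078eb13219ebc68e3b848ea8dabfa936ac8ad6902cb476672f90f714c1a12fba3cd8cd7bfbd15cd41210c35b2124744cb100d1054ee385cc93804bb498b6d0f1af817ecc1c78cbfb06848c22cac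cbacb7d79cb9aadca6ce0b5ac28ccea90910b4ccadcbbcabcaaca9ca8affcb5ca5ca4b90c8b45aca0c9f5d8c9dc635dbc9a45d43e186c61c47acb53a539170437cfd144c27187ca2ae3262c21b109c8c85c8480581ac8181181dc7ec7dc48d64a14d4ecc0275d28af49c681e9d87d37d1c6f9c99e58039fb64881cd08183d26c44801c9cd62c96ae7c3aa8b0026783e34ef6712db147d13d232dfa96184b24a959d4a92b139da7fb6597ecc7cc959e9a2fc65a0280f9d3d46b1dd27acf8447e8c5f8457faac0b14a019c59d2aae804550bebd3b69c800818c2a653cb2c8db09ab4c24c23cbcc88c200e76706797cd82ccdbd35c184335930814200cd4684150974044073e6131beabb89f25b3b879bab3ebe1c03bf5bb1c00a0d515908521cd6ce5d39bf8d3ed21c02b65a04485bdbd3448647e3a3becc2fc0bb45d11be751a98fa0fbe3be2c04be0bdfbde512bdcbf1d0251fbd8bd7d24012bb551e520bd1bd0697bceb92b8c68cbca5223884e3ceab86274483bc1bc25ec5ed3834d2249b66b441f1c0ab43d87bd49df913b41c018ca8e7bae734731729733769ba8cf3d2a914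adbcd9d88d6ed869ef8c98c78db8d86f47058e98e571a8fbb94594bcd732ca3d72cfad7fbccb6a730d2ecf8c07bc5b82ce8b83b8560574c4973405ac5b46f1746248364d53d78d7b07736da2a992d52a29991cc58e88d6b8b8e2727764bbbbf4939938901a1c8d40a4d93a2d27ba20cb3d859cc7638c68d3b547269b9a038ff9a927249acaed84b4ab49728b47b46be9bbabb7a10bb2b409a8c056f074574e0b48c29230bfd50d8b3b44ce5250a30634d80a23bc4bd4c907535935c343aa0b25c51af7abeabb8f129b67ac3fa8e1f3aaa8b6b18ae853da46c36c4db12b0fc87b114545c881045e5d6c26d5bd68cbeb0553bb02b033cd53eca7d5d53f53c45fafaaf9cc3b23a4b025c75af3af2af15dc5c5a93aedaecaeb5ddae9b17c605e4ae5026c8a014ab7ac2cef5e35caadcba45d1a9acf15d0ce25d52e24244652dc1efc3da8d2fa52fc94d0c536ce35371cc41858b2ccae0a76c37a68b22a49d99b21a48d45dacae181b84ac257ed7ea65b69f7dfc32cb69d99d6b1ad25dadda6dab7d27e97e1aa263bb267eba9ea9d65aa9bad9299d31d3ac53c50da9aeec4ea67cb01f9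b1cacea8cc5ea8aa8954f5528343e5a312ac62c67267c0907cf82f2cb411098d97da805bac141b31592c892cfcd9892bd4484384980da6a7ddabfa9184791e080db076d93030d317924d38daaa5ba5a80ea588bf9048a83103e9a52d33a50a4fa4ea4da4caf62a2abdabaa47b158a70e17ce82e08e9c2096d9431646c58707f0464a961307e40640a49f059a842bec4599bb5d210a2bb72b6f9f19b59b1214326750a22185b5b98a2657cab619a5a1a83aa18a17a16a15c7a9e3516503b42be4cf7bff51750c52350dd3ca07a065ebbf3b51c43c354875eed01d555efc6b5f0d605249f79f69f503603dc09a28018b9f9be9ed9ecd599eac4668b5089e6c6d692a13d5a69102abb46e702b9bdd58c4caacc72690aab996c4fc41c332443704dc36525db585a039fc6ec86478c74c342394cca4036a96a0c89ee9dc97b975c06b5209209333aa27950d6ddb5a26d92db37688d77079ab6ffb4fb3f8d907da1b686332d7edb49a0d8e99e70699ca2e99a9999989979d521a335d8ab71b6e990be59697a027c98ba1f9895fd98798649949d93f34293c0b56f27470718c59bc369076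db177e03f9bb3b2393835d6adb296fd9196d76796b9c098e8296a482b06278684c3b6396960d8c95e95d95c8177853ba95895795695582495331a9519b494f7b40b38c43eb06f3f455c0743bd4c15580615695625c098335b5549818e489bb64b63937ce493593475391b667a6119f28792da73a6f8b028f3c99279261e4a5eb382ff9218a609fa6591d86293291a919918917d0f915ba5bb35c744ecafcdd5d3d0b5d474990a4a8bfdcee5350baa564acce1b62d09b50d1d532d05b954b6d1bcf50518f68f501c8bc030b2066a0318bb6b58eccedce7b98b6cbaf5cfb9793bce9b6961f66d0456258c157eb9cce69a7b9b9adb6b700b60b552c441e4dd4124da6692f54e6bb0b9ed0eb9db5697c94c2c7b398dd879a5709e0fc8f38ee0af87e0b0073b195c10bb0bc3d52ee92ada7daf8addae8ab7e08a9a55a4592073f6c80a06d53bf8a0d9689e89d89c93a6ba8998988976cd2a33c1893a7289187188e88f55931888b88a6af8888563e818e84f84d08f7d06b20578b96b074305a6bb8c04472f0876da287487387289075c6b686d86e86744b86a86986886c86673d864758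91c6d128185f85e34c4a208d49c4ad4a64fd8874096090794fb4fa4f98844fc88396384bab5a6ccbda66846c39c3ca6d84284177f83f83e83c83d5a7a1959e5a5205321972a8632b8138312cda7da42260c1b96682a9685680ca8267819546808223f378381fc73c7fc69ab6c8250bc2b95bd5641f3fb832561c80b0cc42a59a6b0dc3f64233ff0eb56f63cc83c31c6cd65c64c2c42e4304cfd54c4bc380357f85a40377c45a26ec04c6e87cc6376a0ab3c49a9fab2aa4c3b5a856a6ea6e97de62faa38aaaaf7e3a6941c5a33604255a14225a95aa652c71aa5c70881a7ea43c1c7f0793a1d0c90cb0ec13e08c7f54fe0dd0de66e60b0946170ed3942577b9d837b77b67b594e79f7b06117b261531d7ad7ac7ab78e7a960e7a67a761031c7a37a24cd98d7b360a79d77d1747731fb76e5f966f0706017cb6885fe78f7907aa39778c78b78a13b78778896495a78482068482517684097779c77c3f73f144344208344144043f79a5bf52809b43c798a6266b4e276aba99ae96ccdf735b67b5776276176075f75e75d87075b75a6b386373975623a1909334e4668a234e1b3b28a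b8037136690b23d97eb7ab3cccf87c7420fe4e58a55bc86534b36c3537574a51296fe765badbaab91bacb8acde3774d74b24d9595babb48b68b5336f3561164b137b4b94b84e0590709d0ab96cf45574b5379588cdc6f54df62905262a6ef62862162762671c5e29ac99db990fb6246236228d59aa7364de36e4e94ea1284e74e8620713b9a6f397fb7bb3d70e1170bd7f30fd7e57e47f19de6a35ab5550b155e1186cc6dd55a6df6d32f16da6d96d85926d48a26d66dc6d28616cf6d04148966e06c76ca5868a46cb1bb1da6a727f5c254c6bf6c01266bc6bd87a89a6b95e70f986f8ed1bd7598801db87d88908738b38a3895e60a73866c446b0c49676e65a656b7eeab069e69dc2d69b69a699698bcf65c6956946939e49e19d768d68e68fbcb9e868a63a7926879a46647821c32ce2c58231c513d1fca8059fb1ec1dc5c4192d22c81cd673a81c59c1e7967c08e042176c8f08cd7519312ca2b96853f01612d341a3fa431654696ab1a9cc4a61242856342965dc297d42d640240142d49e3fe56642a645c6a6083fd6495735725715700ea56e56d56c806aa16890c75677ef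1604264275656001775647e25f662da820df70f71170d70b70a8de70370270170c6f68e15e860d61a4a061c4d16167bd6187af614a376587b17a53637a861d4c87bf79e85464722f255b8115e6026037946320e879198852913a2307974c317562e0aa2e05260d237e9fa9fc9ffbbfbc0a0557d18f61e6b86aa4aaae6ade7085e15e05df5deaeaaf0c9b5ce5d9c9e5c9b0aad590c90e3c7adaad78e65da5cd28d2f8add5d7b0d9122fdaef4595816c28b594077223b23573e16436723e2371695b6191b7cc08cd102c36b24a2455adb7d6e57d57d67e783b6a28387f77db7f47d89cb67b83923f36835137d55b3724db37a72ab93c166d74b371d3ea3554ba374ac45534b4715a3b6c91154b04af4ae5c30b94ab8dc5ea0fa54e1be4a754b1271d054457464464364264180763f63e63d6a17e694282863864b63363065694181241755d6e255f9485996de88d9447184106e493d58aa872bcc30a8857b1136c157812541340c1bc40f1d25750d52d92d8314afdb00b16afcb04c93c92531ac7ac99063084578fd53830aacc2e44c732d32913c5fc7713395f3b329f8a0abc9bfc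bd2bd9bd351951c330be651d3a1a0ca12bfe3aa39dbdd50732a47f47ca09a0b8192633249e751120b3a43a7a1126847624c4c67c385784e8528518502c61c61c111c0272c91ce1ca4f0c5accb0472dd4eb6fa6fb6f76f88cb740752bc776b74f71e7126fd8d09cf5978ce72bb2f72d4a12cf41d2d5bbd61942b7fdb337a19c349b403b2b60c52d4ff0db3f55f80e994524049515fb2c24fcc758d72071f2088fa71758959172c72258458358285990357f5e5a3890957985873834f38c85c4d661ba3364d98485a4cbb4d985cc6b7f2514bf15d36236122e35f35e16e24324226f279338278a00befbf23a9bc332e4793ae50fbee3b150e39b3ab4819c726950137826d39838e40e2932962922a0a3c6a629e29fc123d03d2ad23d14563cf3c845bafbb0bc99304460ca15c428e533463452b0e2fe4553c53013cb9111ea3ce86b2d43063c28782e72bb3f8779778776775774c9819a76f03e23816a167c90040246434c1706465e7fe3c07ff64e2f24d064a6556576346357d9ad380a7d766cc148158d14d47dca75660677ac5560375c116ce5498cfa7b5565464712d0548114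a348552d7c0ea3501dc0f4ca65064f1e780964c64629481465f3ee44477b80b4c49498212b777a6632b53f92e515994b58fa53886224c0da8500ac5b1d62c32c23df2c03dd1c83d81eb1f63db1f529d8b23033cc46646446746244cb013d344f2f69284615d22f345130930744889442f8a1004946b2d33695920c217277962216b3421397447d32f3a548031e32547a51448439e504d743af505bed2645183229ca3a851331f47b37326c47378d96137c7bb9730111b61d834e47220d4a36ad6ac6abbc81806a8cca148bbe0581cbcc805c5f159a39572159671647572e35d41658c39a59874b9d07256fcb7373b5b09c197a59c5ba74a9ceb7860f4934927da49048f376b2893e007b2900b23c72458e26a73a34959b3464a438f11085d73c22c3521b222a35024d1b1b27982009b7e02033e23333c33b9b65274893333bb9941883379a327051b3b048252cd7183351052bd73d8da243ac50925b3a083625939c3ad7ae7a400595200388ca5fa3da7454031129a313a541a21f2a60297d9a5303c45343c3449d2045c3d42f9450d109224535c6d16d3dacd3025cb2853ca8cc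2833c642c6db8770068b100f10015a2251712b44461ec3ed52e1a3ad41c75f4c541334ecad1c580725425414086514d344a6616762ba40d4d5682830ac3a7c6664f36758c34f86818d23e13e02c13de01ea3001b5514452d16652b13f22af3ef2e81561b92b82b02b62ae023a830082aa2a91af1220e00ef2a4895a4a1a546d46946a3d6d07b1f312a991ed30c46fda43fc47046ed9fda39294585ccd9bd9e74dd9dda192e1de2f72842f40158600106c30be0b298cb5c14b48a4883b7273c77bc4276b4e20e33148bd81474399d76354477502d77d7ca1e3a250ac89d6f82dd63d709cd1ff32325a3200197ba0176060cc2532524961b74bc2413455001895afbbcb7916b4355ae9d148d48c24e4c059d5b97483575be7559c443a5b804d5bd23433d2320345fa60749122734a22b34722922822d2262ea3e702121f22115422217211a21c21b9952182193b83b5d6ca253b3d57d5fa2c18127138d3b9506d66d894b7d61d8f837d5ed69041d7a20025c1fe02467d799095a8f1361a63d93d7d12b1b30ebb9d03ad019b2982e63da44dd1ad2b400d9cd41925cf9d06048d951df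2861dd02f6b16c50a13900553e21d50d71d35451cf5761d14f2674ac63814f11c93dc2e14f767f06968306a4f60321bf57a6b45476c61ba2b21b82503911ab1b41123483441ac2a81ae10d1b01b51491a91a81391f72a11522e330fcfed2c92fcebcfb19c1ee43dcf6da505dda005ed220281925b57545e988514e18b18c10c24b334c8cc97a21c52c6718220f387d5ccc2065d90066d5102d1786317805f779b06e21e2e9c9106d48e10b0e42474395b70894381660885bb04e04f6626364be60449415c1582eb3ec15b0da2b31532201551a41340b814f18d0f809a27ad4a1aa384c57d6b07bc8e14307ad670420437c667e52a7895fb1a71090a61f8d291512dececc0c085cda12e084d4304904a7376f95776be54acd008b2a7cd311e11f1200ab4f506c21d06b6e16ee72358540b54d1b310f34d1110ae1ad18a16d0911380c6078d00ccc10409ccff0602ec05f7416eb8bd70457c6b714d0d4082d4bd490f30a8cc40682a50677bc7c78086404c25ffc1f0e60e516c0e308aa442a662b7c17c280c4c51570d80d91d40d65430f70d35f2d4c0d00cf07cc132547c88277c9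9bf6391080c56a5cd20c20c1086b3727e6ed8b38b49055801500b70b6980b3a94d27d6e38b88ba10e0ad0ac11d5f50a90f26a91370a5b5fb31b2e1d98a391f8be09d10377014c099a7ac10a3f1fa7be9b79b810aa7f882a4185b7c51230e21681656ae0c013012d7770f6c15a64a3aa369a60ce145142853107b74979b2a9478b72da97d79594a17316f11b1191c21c40f00ee17b17d432b309659431010ff19519737fa7787ba3238287f0561d70540537108f70501621632367f204b12a12b1e14eda398df04413f14020243697643b9f303c03b03a0390387f69f47f92310331c08ef8f21dc02e1795b19dd9e00291934f4ae4af51fd2ad02222333f01f2bf4058f42bd01a2589f0256016282ae2013bd53922802ed00eccdd473583e43412ab35a2ef31b3be319c5d001000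

/-- The point permutation of the outer involution. -/
def sZ (q : ℕ) : ℕ := tget 12 s0T q

/-- The fixed points. -/
def fxT : TF :=
  (.nd (.nd (.nd (.nd (.nd (.nd (.nd (.nd (.nd (.nd (.nd (.nd (.nd (.nd (.nd (.nd (.nd (.lf [0]) .nil) (.nd (.lf [22]) .nil)) (.nd (.nd (.lf [0]) .nil) (.nd (.lf [24]) .nil))) .nil) (.nd (.nd (.nd (.nd .nil (.lf [1])) (.nd .nil (.lf [393]))) .nil) (.nd (.nd (.nd .nil (.lf [11])) .nil) .nil))) (.nd (.nd .nil (.nd (.nd (.nd (.lf [0]) .nil) .nil) (.nd (.nd (.lf [0]) .nil) .nil))) (.nd .nil (.nd (.nd (.nd (.lf [19]) .nil) .nil) .nil)))) (.nd (.nd (.nd .nil (.nd (.nd .nil (.nd (.lf [22]) .nil)) (.nd .nil (.nd (.lf [34]) .nil)))) (.nd (.nd .nil (.nd .nil (.nd (.lf [0]) .nil))) (.nd (.nd .nil (.nd (.lf [0]) .nil)) .nil))) (.nd .nil (.nd (.nd (.nd (.nd (.lf [22]) .nil) (.nd (.lf [0]) .nil)) .nil) (.nd .nil (.nd .nil (.nd (.lf [0]) .nil))))))) (.nd (.nd (.nd (.nd (.nd (.nd (.nd (.lf [0]) .nil) .nil) (.nd (.nd (.lf [0]) .nil) .nil)) .nil) (.nd (.nd (.nd .nil (.nd (.lf [0]) .nil)) .nil) (.nd .nil (.nd .nil (.nd (.lf [0]) .nil))))) (.nd (.nd .nil (.nd (.nd (.nd (.lf [0]) .nil) (.nd (.lf [18]) .nil)) (.nd (.nd (.lf [0]) .nil) (.nd (.lf [34]) .nil)))) (.nd (.nd .nil (.nd .nil (.nd (.lf [0]) .nil))) (.nd (.nd (.nd (.lf [3]) .nil) (.nd (.lf [0]) .nil)) .nil)))) (.nd (.nd .nil (.nd (.nd (.nd (.nd .nil (.lf [1])) .nil) .nil) (.nd (.nd (.nd .nil (.lf [15])) (.nd .nil (.lf [92]))) .nil))) (.nd (.nd (.nd (.nd .nil (.nd (.lf [19]) .nil)) (.nd .nil (.nd (.lf [34]) .nil))) .nil) (.nd (.nd (.nd (.nd (.lf [22]) .nil) .nil) .nil) .nil))))) (.nd (.nd (.nd (.nd (.nd (.nd (.nd (.nd (.lf [0]) .nil) (.nd (.lf [80]) .nil)) .nil) .nil) (.nd (.nd (.nd (.nd .nil (.lf [1])) .nil) .nil) .nil)) (.nd .nil (.nd (.nd .nil (.nd .nil (.nd (.lf [0]) .nil))) (.nd (.nd (.nd (.lf [169]) .nil) .nil) .nil)))) .nil) (.nd (.nd (.nd (.nd (.nd (.nd (.nd (.lf [0]) .nil) .nil) .nil) .nil) .nil) (.nd .nil (.nd .nil (.nd (.nd (.nd (.lf [166]) .nil) (.nd (.lf [0]) .nil)) .nil)))) (.nd (.nd .nil (.nd .nil (.nd (.nd .nil (.nd .nil (.lf [46]))) .nil))) .nil)))) (.nd (.nd (.nd (.nd (.nd (.nd (.nd (.nd (.nd (.lf [0]) .nil) (.nd (.lf [4]) .nil)) .nil) .nil) (.nd (.nd (.nd (.nd .nil (.lf [59])) .nil) .nil) .nil)) .nil) (.nd .nil (.nd .nil (.nd (.nd (.nd (.nd (.lf [22]) .nil) (.nd (.lf [0]) .nil)) .nil) (.nd .nil (.nd .nil (.nd (.lf [0]) .nil))))))) (.nd (.nd (.nd (.nd (.nd (.nd (.nd (.lf [0]) .nil) .nil) .nil) .nil) (.nd (.nd (.nd .nil (.nd (.lf [0]) .nil)) .nil) (.nd .nil (.nd .nil (.nd (.lf [0]) .nil))))) .nil) (.nd (.nd .nil (.nd .nil (.nd (.nd .nil (.nd .nil (.lf [17]))) .nil))) (.nd (.nd (.nd (.nd .nil (.nd (.lf [19]) .nil)) .nil) .nil) (.nd (.nd (.nd (.nd (.lf [22]) .nil) .nil) .nil) .nil))))) (.nd (.nd (.nd (.nd (.nd (.nd (.nd (.nd (.lf [0]) .nil) (.nd (.lf [4]) .nil)) .nil) .nil) (.nd (.nd (.nd (.nd .nil (.lf [128])) .nil) (.nd .nil (.nd .nil (.lf [38])))) .nil)) (.nd (.nd .nil (.nd .nil (.nd (.nd (.lf [0]) .nil) .nil))) .nil)) .nil) (.nd (.nd (.nd (.nd (.nd (.nd (.nd (.lf [0]) .nil) .nil) .nil) .nil) .nil) (.nd (.nd .nil (.nd .nil (.nd (.nd (.lf [0]) .nil) (.nd (.lf [102]) .nil)))) .nil)) (.nd (.nd .nil (.nd .nil (.nd (.nd .nil (.nd .nil (.lf [17]))) (.nd (.nd .nil (.lf [42])) .nil)))) .nil))))) (.nd (.nd (.nd (.nd (.nd (.nd (.nd (.nd (.nd (.nd (.lf [0]) .nil) .nil) (.nd (.nd (.lf [0]) .nil) .nil)) .nil) (.nd (.nd (.nd .nil (.nd (.lf [0]) .nil)) .nil) (.nd .nil (.nd .nil (.nd (.lf [0]) .nil))))) (.nd (.nd .nil (.nd (.nd (.nd (.lf [0]) .nil) (.nd (.lf [19]) .nil)) (.nd (.nd (.lf [0]) .nil) (.nd (.lf [21]) .nil)))) (.nd (.nd .nil (.nd .nil (.nd (.lf [0]) .nil))) (.nd (.nd (.nd (.lf [19]) .nil) (.nd (.lf [0]) .nil)) .nil)))) (.nd (.nd .nil (.nd (.nd .nil (.nd (.nd .nil (.lf [3])) .nil)) (.nd .nil (.nd (.nd .nil (.lf [1])) (.nd .nil (.lf [486])))))) (.nd (.nd (.nd (.nd .nil (.nd (.lf [18]) .nil)) (.nd .nil (.nd (.lf [21]) .nil))) .nil) (.nd (.nd (.nd (.nd (.lf [22]) .nil) .nil) .nil) .nil)))) (.nd (.nd (.nd (.nd (.nd (.nd (.nd (.lf [0]) .nil) (.nd (.lf [22]) .nil)) (.nd (.nd (.lf [0]) .nil) (.nd (.lf [34]) .nil))) .nil) (.nd (.nd .nil (.nd (.nd .nil (.lf [23])) (.nd .nil (.lf [64])))) (.nd .nil (.nd (.nd .nil (.lf [1])) .nil)))) (.nd (.nd .nil (.nd (.nd (.nd (.lf [0]) .nil) .nil) (.nd (.nd (.lf [0]) .nil) .nil))) (.nd .nil (.nd (.nd (.nd (.lf [19]) .nil) .nil) .nil)))) (.nd (.nd (.nd .nil (.nd (.nd .nil (.nd (.lf [22]) .nil)) (.nd .nil (.nd (.lf [24]) .nil)))) (.nd (.nd .nil (.nd .nil (.nd (.lf [0]) .nil))) (.nd (.nd .nil (.nd (.lf [0]) .nil)) .nil))) (.nd .nil (.nd (.nd (.nd (.nd (.lf [8]) .nil) (.nd (.lf [0]) .nil)) .nil) (.nd .nil (.nd .nil (.nd (.lf [0]) .nil)))))))) (.nd (.nd (.nd (.nd (.nd (.nd (.nd (.nd (.lf [0]) .nil) .nil) .nil) .nil) .nil) (.nd .nil (.nd .nil (.nd (.nd (.nd (.lf [80]) .nil) (.nd (.lf [0]) .nil)) .nil)))) .nil) (.nd (.nd (.nd (.nd (.nd (.nd (.nd (.lf [0]) .nil) (.nd (.lf [83]) .nil)) .nil) .nil) .nil) (.nd .nil (.nd (.nd .nil (.nd .nil (.nd (.lf [0]) .nil))) (.nd (.nd (.nd (.lf [160]) .nil) .nil) .nil)))) .nil))) (.nd (.nd (.nd (.nd (.nd (.nd (.nd (.nd (.nd (.lf [0]) .nil) .nil) .nil) .nil) (.nd (.nd (.nd .nil (.nd (.lf [0]) .nil)) .nil) (.nd .nil (.nd .nil (.nd (.lf [0]) .nil))))) .nil) (.nd .nil (.nd (.nd (.nd (.nd .nil (.nd (.lf [19]) .nil)) .nil) .nil) (.nd (.nd (.nd (.nd (.lf [22]) .nil) .nil) .nil) .nil)))) (.nd (.nd (.nd (.nd (.nd (.nd (.nd (.lf [0]) .nil) (.nd (.lf [22]) .nil)) .nil) .nil) (.nd .nil (.nd .nil (.nd (.nd .nil (.lf [153])) .nil)))) .nil) (.nd .nil (.nd .nil (.nd (.nd (.nd (.nd (.lf [22]) .nil) (.nd (.lf [0]) .nil)) .nil) (.nd .nil (.nd .nil (.nd (.lf [0]) .nil)))))))) (.nd (.nd (.nd (.nd (.nd (.nd (.nd (.nd (.lf [0]) .nil) .nil) .nil) .nil) .nil) (.nd (.nd .nil (.nd .nil (.nd (.nd (.lf [0]) .nil) (.nd (.lf [5]) .nil)))) .nil)) (.nd (.nd .nil (.nd .nil (.nd (.nd (.nd .nil (.lf [115])) .nil) (.nd .nil (.nd .nil (.lf [42])))))) .nil)) (.nd (.nd (.nd (.nd (.nd (.nd (.nd (.lf [0]) .nil) (.nd (.lf [133]) .nil)) .nil) .nil) (.nd (.nd (.nd .nil (.nd .nil (.lf [6]))) (.nd (.nd .nil (.lf [38])) .nil)) .nil)) (.nd (.nd .nil (.nd .nil (.nd (.nd (.lf [0]) .nil) .nil))) .nil)) .nil))))) (.nd (.nd (.nd (.nd (.nd (.nd .nil (.nd (.nd .nil (.nd .nil (.nd (.nd (.lf [0]) .nil) .nil))) .nil)) (.nd (.nd (.nd .nil (.nd (.nd .nil (.nd (.lf [628]) .nil)) .nil)) .nil) (.nd .nil (.nd (.nd (.nd .nil (.nd (.lf [0]) .nil)) .nil) (.nd .nil (.nd .nil (.nd (.lf [0]) .nil))))))) (.nd (.nd (.nd .nil (.nd (.nd (.nd .nil (.nd (.lf [0]) .nil)) .nil) (.nd .nil (.nd .nil (.nd (.lf [0]) .nil))))) (.nd (.nd .nil (.nd (.nd .nil (.nd (.lf [100]) .nil)) (.nd (.nd (.lf [0]) .nil) .nil))) .nil)) (.nd (.nd .nil (.nd (.nd (.nd (.nd .nil (.lf [36])) .nil) .nil) (.nd (.nd .nil (.nd .nil (.lf [92]))) .nil))) .nil))) (.nd (.nd .nil (.nd (.nd .nil (.nd .nil (.nd .nil (.nd .nil (.nd .nil (.lf [26])))))) (.nd .nil (.nd .nil (.nd (.nd .nil (.nd .nil (.lf [78]))) .nil))))) (.nd .nil (.nd (.nd .nil (.nd .nil (.nd (.nd .nil (.nd .nil (.lf [84]))) .nil))) (.nd .nil (.nd .nil (.nd .nil (.nd .nil (.nd .nil (.lf [6])))))))))) (.nd (.nd (.nd .nil (.nd (.nd .nil (.nd .nil (.nd .nil (.nd .nil (.nd .nil (.lf [48])))))) (.nd .nil (.nd (.nd (.nd .nil (.nd (.lf [0]) .nil)) .nil) (.nd .nil (.nd .nil (.nd (.lf [0]) (.lf [173])))))))) (.nd (.nd (.nd .nil (.nd (.nd (.nd .nil (.nd (.lf [0]) .nil)) .nil) (.nd .nil (.nd .nil (.nd (.lf [0]) .nil))))) .nil) (.nd (.nd .nil (.nd .nil (.nd (.nd .nil (.nd .nil (.lf [17]))) .nil))) (.nd .nil (.nd .nil (.nd (.nd .nil (.nd .nil (.lf [102]))) .nil)))))) (.nd (.nd (.nd .nil (.nd (.nd .nil (.nd .nil (.nd (.nd (.lf [0]) .nil) .nil))) .nil)) (.nd (.nd .nil (.nd (.nd .nil (.nd .nil (.nd (.lf [0]) .nil))) (.nd .nil (.nd (.nd (.lf [93]) .nil) .nil)))) .nil)) (.nd (.nd .nil (.nd (.nd .nil (.nd .nil (.nd (.nd (.lf [0]) .nil) .nil))) .nil)) (.nd (.nd .nil (.nd .nil (.nd (.nd .nil (.nd (.lf [0]) (.lf [17]))) (.nd (.nd (.lf [32]) (.lf [27])) .nil)))) .nil))))) (.nd (.nd (.nd (.nd (.nd (.nd .nil (.nd (.nd (.nd .nil (.nd (.lf [0]) .nil)) .nil) (.nd .nil (.nd .nil (.nd (.lf [0]) .nil))))) (.nd (.nd .nil (.nd (.nd .nil (.nd (.lf [48]) .nil)) (.nd (.nd (.lf [0]) .nil) .nil))) .nil)) (.nd (.nd .nil (.nd .nil (.nd .nil (.nd (.nd .nil (.lf [4])) .nil)))) .nil)) (.nd (.nd .nil (.nd (.nd .nil (.nd .nil (.nd (.nd (.lf [0]) .nil) .nil))) .nil)) (.nd (.nd (.nd .nil (.nd (.nd .nil (.nd (.lf [628]) .nil)) .nil)) .nil) (.nd .nil (.nd (.nd (.nd .nil (.nd (.lf [0]) .nil)) .nil) (.nd .nil (.nd .nil (.nd (.lf [0]) .nil)))))))) .nil) (.nd (.nd (.nd (.nd (.nd .nil (.nd (.nd (.nd .nil (.nd (.lf [0]) .nil)) .nil) (.nd .nil (.nd .nil (.nd (.lf [0]) .nil))))) .nil) .nil) (.nd .nil (.nd .nil (.nd .nil (.nd (.nd (.nd .nil (.nd (.lf [0]) .nil)) .nil) (.nd .nil (.nd .nil (.nd (.lf [0]) .nil)))))))) (.nd (.nd (.nd .nil (.nd (.nd .nil (.nd .nil (.nd (.nd (.lf [0]) .nil) .nil))) .nil)) (.nd (.nd .nil (.nd .nil (.nd (.nd .nil (.nd (.lf [0]) .nil)) (.nd (.nd (.lf [62]) .nil) .nil)))) .nil)) (.nd (.nd .nil (.nd (.nd .nil (.nd .nil (.nd (.nd (.lf [0]) .nil) .nil))) .nil)) (.nd (.nd .nil (.nd (.nd .nil (.nd .nil (.nd (.lf [0]) .nil))) (.nd .nil (.nd (.nd (.lf [156]) .nil) .nil)))) .nil))))))) (.nd (.nd (.nd (.nd (.nd (.nd (.nd (.nd .nil (.nd (.nd .nil (.nd (.nd .nil (.lf [50])) (.nd .nil (.lf [5])))) (.nd .nil (.nd (.nd .nil (.lf [50])) .nil)))) (.nd .nil (.nd .nil (.nd (.nd (.nd (.lf [34]) .nil) .nil) .nil)))) (.nd (.nd .nil (.nd (.nd .nil (.nd .nil (.nd (.lf [0]) .nil))) (.nd (.nd .nil (.nd (.lf [0]) .nil)) .nil))) (.nd .nil (.nd (.nd (.nd (.nd (.lf [34]) .nil) (.nd (.lf [0]) .nil)) .nil) (.nd .nil (.nd .nil (.nd (.lf [0]) .nil))))))) (.nd (.nd (.nd .nil (.nd (.nd (.nd .nil (.nd (.lf [0]) .nil)) .nil) (.nd .nil (.nd .nil (.nd (.lf [0]) .nil))))) (.nd .nil (.nd (.nd .nil (.nd .nil (.nd (.lf [0]) .nil))) (.nd (.nd (.nd (.lf [34]) .nil) (.nd (.lf [0]) .nil)) .nil)))) (.nd (.nd .nil (.nd (.nd .nil (.nd (.nd .nil (.lf [30])) .nil)) (.nd .nil (.nd (.nd .nil (.lf [7])) (.nd .nil (.lf [194])))))) (.nd .nil (.nd (.nd (.nd (.nd (.lf [34]) .nil) .nil) .nil) .nil))))) (.nd (.nd (.nd .nil (.nd .nil (.nd (.nd .nil (.nd .nil (.nd (.lf [0]) .nil))) (.nd (.nd (.nd (.lf [148]) .nil) .nil) .nil)))) .nil) (.nd (.nd .nil (.nd .nil (.nd .nil (.nd (.nd (.nd (.lf [148]) .nil) (.nd (.lf [0]) .nil)) .nil)))) .nil))) (.nd (.nd (.nd (.nd (.nd .nil (.nd .nil (.nd .nil (.nd (.nd .nil (.lf [1076])) .nil)))) .nil) (.nd .nil (.nd .nil (.nd (.nd (.nd (.nd (.lf [208]) .nil) (.nd (.lf [0]) .nil)) .nil) (.nd .nil (.nd .nil (.nd (.lf [0]) .nil))))))) (.nd (.nd (.nd .nil (.nd (.nd (.nd .nil (.nd (.lf [0]) .nil)) .nil) (.nd .nil (.nd .nil (.nd (.lf [0]) .nil))))) .nil) (.nd .nil (.nd .nil (.nd (.nd (.nd (.nd (.lf [122]) .nil) .nil) .nil) .nil))))) (.nd (.nd (.nd (.nd (.nd (.nd .nil (.nd (.nd (.lf [0]) .nil) (.nd (.lf [71]) .nil))) .nil) (.nd (.nd (.nd .nil (.nd .nil (.lf [64]))) (.nd (.nd .nil (.lf [6])) .nil)) .nil)) (.nd (.nd .nil (.nd (.nd (.nd (.lf [0]) .nil) .nil) .nil)) .nil)) .nil) (.nd (.nd (.nd (.nd (.nd .nil (.nd (.nd (.lf [0]) .nil) .nil)) .nil) .nil) (.nd (.nd .nil (.nd (.nd (.nd (.lf [0]) .nil) (.nd (.lf [188]) .nil)) .nil)) .nil)) (.nd (.nd .nil (.nd .nil (.nd (.nd (.nd .nil (.lf [64])) .nil) (.nd .nil (.nd .nil (.lf [128])))))) .nil))))) (.nd (.nd (.nd (.nd (.nd (.nd .nil (.nd (.nd (.nd .nil (.nd (.lf [0]) .nil)) .nil) (.nd .nil (.nd .nil (.nd (.lf [0]) .nil))))) (.nd .nil (.nd (.nd .nil (.nd .nil (.nd (.lf [0]) .nil))) (.nd (.nd (.nd (.lf [34]) .nil) (.nd (.lf [0]) .nil)) .nil)))) (.nd (.nd .nil (.nd (.nd (.nd (.nd .nil (.lf [50])) .nil) .nil) (.nd (.nd (.nd .nil (.lf [50])) (.nd .nil (.lf [4]))) .nil))) (.nd .nil (.nd (.nd (.nd (.nd (.lf [34]) .nil) .nil) .nil) .nil)))) (.nd (.nd (.nd .nil (.nd (.nd (.nd (.nd .nil (.lf [29])) (.nd .nil (.lf [194]))) .nil) (.nd (.nd (.nd .nil (.lf [30])) .nil) .nil))) (.nd .nil (.nd .nil (.nd (.nd (.nd (.lf [34]) .nil) .nil) .nil)))) (.nd (.nd .nil (.nd (.nd .nil (.nd .nil (.nd (.lf [0]) .nil))) (.nd (.nd .nil (.nd (.lf [0]) .nil)) .nil))) (.nd .nil (.nd (.nd (.nd (.nd (.lf [34]) .nil) (.nd (.lf [0]) .nil)) .nil) (.nd .nil (.nd .nil (.nd (.lf [0]) .nil)))))))) (.nd (.nd (.nd .nil (.nd .nil (.nd .nil (.nd (.nd (.nd (.lf [100]) .nil) (.nd (.lf [0]) .nil)) .nil)))) (.nd (.nd .nil (.nd .nil (.nd (.nd .nil (.nd .nil (.lf [4]))) .nil))) .nil)) (.nd (.nd (.nd .nil (.nd (.nd (.nd (.nd .nil (.lf [29])) .nil) .nil) .nil)) (.nd .nil (.nd (.nd .nil (.nd .nil (.nd (.lf [0]) .nil))) (.nd (.nd (.nd (.lf [214]) .nil) .nil) .nil)))) .nil))) (.nd (.nd (.nd (.nd (.nd .nil (.nd (.nd (.nd .nil (.nd (.lf [0]) .nil)) .nil) (.nd .nil (.nd .nil (.nd (.lf [0]) .nil))))) .nil) (.nd (.nd .nil (.nd .nil (.nd (.nd .nil (.nd .nil (.lf [216]))) .nil))) (.nd .nil (.nd (.nd (.nd (.nd (.lf [214]) .nil) .nil) .nil) .nil)))) (.nd (.nd (.nd .nil (.nd (.nd (.nd (.nd .nil (.lf [577])) .nil) .nil) .nil)) .nil) (.nd .nil (.nd .nil (.nd (.nd (.nd (.nd (.lf [122]) .nil) (.nd (.lf [0]) .nil)) .nil) (.nd .nil (.nd .nil (.nd (.lf [0]) .nil)))))))) (.nd (.nd (.nd (.nd (.nd (.nd .nil (.nd (.nd (.lf [0]) .nil) .nil)) .nil) .nil) (.nd (.nd .nil (.nd (.nd (.nd (.lf [0]) .nil) (.nd (.lf [100]) .nil)) .nil)) .nil)) (.nd (.nd .nil (.nd .nil (.nd (.nd .nil (.nd .nil (.lf [92]))) (.nd (.nd .nil (.lf [17])) .nil)))) .nil)) (.nd (.nd (.nd (.nd (.nd .nil (.nd (.nd (.lf [0]) .nil) (.nd (.lf [194]) .nil))) .nil) (.nd (.nd (.nd (.nd .nil (.lf [92])) .nil) (.nd .nil (.nd .nil (.lf [164])))) .nil)) (.nd (.nd .nil (.nd (.nd (.nd (.lf [0]) .nil) .nil) .nil)) .nil)) .nil))))) (.nd (.nd (.nd (.nd (.nd .nil (.nd .nil (.nd .nil (.nd (.nd (.nd .nil (.nd (.lf [0]) .nil)) .nil) (.nd .nil (.nd .nil (.nd (.lf [0]) .nil))))))) (.nd (.nd (.nd .nil (.nd (.nd (.nd .nil (.nd (.lf [0]) .nil)) .nil) (.nd .nil (.nd .nil (.nd (.lf [0]) .nil))))) .nil) (.nd (.nd .nil (.nd .nil (.nd .nil (.nd (.nd .nil (.lf [7])) .nil)))) .nil))) .nil) (.nd (.nd (.nd .nil (.nd .nil (.nd .nil (.nd (.nd (.nd .nil (.nd (.lf [0]) .nil)) .nil) (.nd .nil (.nd .nil (.nd (.lf [0]) .nil))))))) (.nd (.nd (.nd .nil (.nd (.nd (.nd .nil (.nd (.lf [0]) .nil)) .nil) (.nd .nil (.nd .nil (.nd (.lf [0]) .nil))))) .nil) .nil)) (.nd (.nd .nil (.nd (.nd .nil (.nd (.nd .nil (.nd .nil (.nd (.lf [0]) .nil))) (.nd .nil (.nd (.nd (.lf [93]) .nil) .nil)))) .nil)) (.nd (.nd .nil (.nd (.nd .nil (.nd (.nd .nil (.nd (.lf [32]) .nil)) .nil)) .nil)) (.nd (.nd .nil (.nd .nil (.nd (.nd .nil (.nd (.lf [0]) .nil)) (.nd (.nd (.lf [187]) .nil) .nil)))) .nil))))) (.nd (.nd (.nd (.nd (.nd (.nd .nil (.nd (.nd (.nd .nil (.nd (.lf [0]) .nil)) .nil) (.nd .nil (.nd .nil (.nd (.lf [0]) .nil))))) .nil) (.nd (.nd .nil (.nd (.nd (.nd (.nd .nil (.lf [1243])) .nil) .nil) (.nd (.nd .nil (.nd .nil (.lf [4]))) .nil))) .nil)) (.nd .nil (.nd .nil (.nd .nil (.nd (.nd (.nd .nil (.nd (.lf [0]) .nil)) .nil) (.nd .nil (.nd .nil (.nd (.lf [0]) .nil)))))))) (.nd (.nd .nil (.nd (.nd .nil (.nd .nil (.nd (.nd .nil (.nd .nil (.lf [4]))) .nil))) (.nd .nil (.nd .nil (.nd .nil (.nd .nil (.nd .nil (.lf [84])))))))) (.nd .nil (.nd (.nd .nil (.nd .nil (.nd .nil (.nd .nil (.nd .nil (.lf [78])))))) (.nd .nil (.nd .nil (.nd (.nd .nil (.nd .nil (.lf [26]))) .nil))))))) (.nd (.nd (.nd (.nd (.nd .nil (.nd (.nd (.nd .nil (.nd (.lf [0]) .nil)) .nil) (.nd .nil (.nd .nil (.nd (.lf [0]) .nil))))) .nil) (.nd (.nd .nil (.nd .nil (.nd (.nd .nil (.nd .nil (.lf [173]))) .nil))) (.nd .nil (.nd .nil (.nd (.nd .nil (.nd .nil (.lf [78]))) .nil))))) (.nd .nil (.nd (.nd .nil (.nd .nil (.nd .nil (.nd .nil (.nd .nil (.lf [110])))))) (.nd .nil (.nd (.nd (.nd .nil (.nd (.lf [0]) .nil)) .nil) (.nd .nil (.nd .nil (.nd (.lf [0]) (.lf [26]))))))))) (.nd (.nd (.nd .nil (.nd (.nd .nil (.nd (.nd .nil (.nd (.lf [62]) .nil)) .nil)) .nil)) (.nd (.nd .nil (.nd .nil (.nd (.nd .nil (.nd (.lf [0]) (.lf [41]))) (.nd (.nd (.lf [17]) (.lf [17])) .nil)))) .nil)) (.nd .nil (.nd (.nd .nil (.nd (.nd .nil (.nd .nil (.nd (.lf [0]) .nil))) (.nd .nil (.nd (.nd (.lf [187]) .nil) .nil)))) .nil)))))))) (.nd (.nd (.nd (.nd (.nd (.nd (.nd (.nd (.nd (.nd (.nd .nil (.nd (.nd (.lf [0]) .nil) .nil)) .nil) (.nd (.nd (.nd (.nd .nil (.lf [57])) .nil) .nil) .nil)) (.nd .nil (.nd (.nd (.nd .nil (.nd .nil (.lf [103]))) (.nd .nil (.nd (.lf [0]) .nil))) .nil))) (.nd (.nd .nil (.nd .nil (.nd (.nd .nil (.nd (.lf [0]) .nil)) .nil))) .nil)) (.nd (.nd (.nd (.nd (.nd .nil (.nd (.nd (.lf [0]) .nil) .nil)) .nil) .nil) (.nd (.nd .nil (.nd (.nd .nil (.nd (.lf [100]) .nil)) .nil)) .nil)) .nil)) (.nd (.nd (.nd (.nd .nil (.nd (.nd (.nd (.nd .nil (.lf [57])) .nil) .nil) .nil)) .nil) (.nd (.nd .nil (.nd .nil (.nd .nil (.nd (.nd .nil (.lf [27])) .nil)))) .nil)) (.nd (.nd (.nd .nil (.nd (.nd (.nd .nil (.nd (.lf [0]) .nil)) .nil) .nil)) (.nd .nil (.nd (.nd .nil (.nd .nil (.nd (.lf [0]) .nil))) .nil))) (.nd (.nd .nil (.nd (.nd .nil (.nd .nil (.nd (.lf [0]) .nil))) .nil)) (.nd .nil (.nd (.nd (.nd .nil (.nd (.lf [0]) .nil)) .nil) .nil)))))) (.nd (.nd (.nd (.nd (.nd .nil (.nd (.nd (.nd (.nd .nil (.lf [47])) .nil) .nil) .nil)) .nil) .nil) (.nd .nil (.nd (.nd .nil (.nd (.nd (.nd (.nd .nil (.lf [47])) .nil) .nil) .nil)) .nil))) (.nd (.nd (.nd (.nd .nil (.nd (.nd (.nd (.nd .nil (.lf [577])) .nil) .nil) .nil)) .nil) .nil) (.nd (.nd (.nd .nil (.nd (.nd (.nd .nil (.nd (.lf [0]) .nil)) .nil) .nil)) .nil) (.nd .nil (.nd .nil (.nd (.nd (.nd .nil (.nd (.lf [0]) .nil)) .nil) .nil))))))) (.nd (.nd (.nd (.nd (.nd (.nd (.nd (.nd .nil (.nd (.nd (.lf [0]) .nil) .nil)) .nil) (.nd .nil (.nd .nil (.nd (.nd .nil (.lf [153])) .nil)))) (.nd (.nd .nil (.nd (.nd .nil (.nd (.lf [175]) .nil)) .nil)) .nil)) (.nd (.nd .nil (.nd .nil (.nd .nil (.nd .nil (.nd .nil (.lf [128])))))) .nil)) (.nd (.nd (.nd (.nd (.nd .nil (.nd (.nd (.lf [0]) .nil) .nil)) .nil) .nil) (.nd .nil (.nd (.nd .nil (.nd .nil (.nd (.lf [0]) .nil))) .nil))) (.nd (.nd .nil (.nd .nil (.nd (.nd .nil (.nd (.lf [0]) .nil)) .nil))) .nil))) (.nd (.nd (.nd (.nd .nil (.nd (.nd (.nd .nil (.nd (.lf [0]) .nil)) .nil) (.nd (.nd (.nd .nil (.lf [7])) .nil) .nil))) (.nd .nil (.nd (.nd .nil (.nd .nil (.nd (.lf [0]) .nil))) .nil))) (.nd (.nd .nil (.nd (.nd .nil (.nd (.nd .nil (.lf [53])) (.nd (.lf [0]) .nil))) .nil)) (.nd .nil (.nd (.nd (.nd .nil (.nd (.lf [0]) .nil)) .nil) .nil)))) .nil)) (.nd (.nd (.nd (.nd (.nd .nil (.nd .nil (.nd .nil (.nd (.nd .nil (.lf [47])) .nil)))) .nil) .nil) (.nd .nil (.nd (.nd .nil (.nd .nil (.nd .nil (.nd (.nd .nil (.lf [47])) .nil)))) .nil))) (.nd (.nd (.nd (.nd .nil (.nd (.nd (.nd .nil (.nd (.lf [0]) .nil)) .nil) .nil)) (.nd .nil (.nd (.nd (.nd .nil (.nd .nil (.lf [146]))) .nil) .nil))) (.nd (.nd .nil (.nd .nil (.nd .nil (.nd .nil (.nd .nil (.lf [103])))))) (.nd .nil (.nd (.nd (.nd .nil (.nd (.lf [0]) .nil)) .nil) .nil)))) .nil)))) (.nd (.nd (.nd (.nd (.nd (.nd .nil (.nd .nil (.nd .nil (.nd (.nd (.nd (.lf [139]) .nil) .nil) .nil)))) (.nd (.nd (.nd .nil (.nd .nil (.nd .nil (.nd (.lf [32]) .nil)))) (.nd .nil (.nd .nil (.nd (.nd (.lf [139]) .nil) .nil)))) .nil)) (.nd (.nd .nil (.nd (.nd .nil (.nd (.nd .nil (.nd (.lf [51]) .nil)) .nil)) (.nd .nil (.nd (.nd (.nd (.lf [8]) .nil) .nil) .nil)))) (.nd (.nd .nil (.nd .nil (.nd .nil (.nd (.nd (.lf [93]) .nil) .nil)))) .nil))) (.nd (.nd (.nd .nil (.nd .nil (.nd (.nd (.nd .nil (.nd .nil (.lf [95]))) .nil) (.nd (.nd (.nd (.lf [214]) .nil) .nil) .nil)))) (.nd (.nd .nil (.nd .nil (.nd .nil (.nd (.nd .nil (.lf [867])) (.nd .nil (.lf [146])))))) .nil)) (.nd (.nd (.nd .nil (.nd (.nd (.nd .nil (.nd (.lf [0]) .nil)) .nil) .nil)) (.nd .nil (.nd .nil (.nd (.nd (.nd (.lf [156]) .nil) .nil) .nil)))) (.nd .nil (.nd .nil (.nd (.nd (.nd .nil (.nd (.lf [0]) .nil)) .nil) .nil)))))) (.nd (.nd (.nd (.nd .nil (.nd (.nd .nil (.nd (.nd (.nd (.lf [0]) .nil) .nil) .nil)) .nil)) (.nd (.nd .nil (.nd .nil (.nd .nil (.nd .nil (.nd .nil (.lf [78])))))) .nil)) (.nd (.nd .nil (.nd (.nd .nil (.nd (.nd (.nd (.lf [0]) .nil) .nil) .nil)) (.nd .nil (.nd (.nd .nil (.nd (.lf [0]) .nil)) .nil)))) (.nd (.nd .nil (.nd (.nd (.nd (.nd .nil (.lf [47])) .nil) (.nd .nil (.nd (.lf [0]) .nil))) .nil)) .nil))) (.nd .nil (.nd (.nd (.nd .nil (.nd (.nd (.nd .nil (.nd (.lf [0]) .nil)) .nil) .nil)) (.nd .nil (.nd .nil (.nd (.nd .nil (.nd (.lf [0]) .nil)) .nil)))) (.nd (.nd .nil (.nd .nil (.nd (.nd .nil (.nd (.lf [0]) .nil)) .nil))) (.nd .nil (.nd (.nd (.nd .nil (.nd (.lf [0]) .nil)) .nil) .nil))))))) (.nd (.nd (.nd (.nd (.nd .nil (.nd (.nd .nil (.nd (.nd .nil (.nd (.lf [32]) .nil)) .nil)) (.nd .nil (.nd (.nd (.nd (.lf [139]) .nil) .nil) .nil)))) (.nd (.nd .nil (.nd .nil (.nd .nil (.nd (.nd (.lf [139]) .nil) .nil)))) .nil)) (.nd (.nd .nil (.nd .nil (.nd .nil (.nd (.nd (.nd (.lf [139]) .nil) .nil) .nil)))) (.nd (.nd (.nd .nil (.nd .nil (.nd .nil (.nd (.lf [51]) .nil)))) (.nd .nil (.nd .nil (.nd (.nd (.lf [4]) .nil) .nil)))) .nil))) (.nd (.nd (.nd (.nd .nil (.nd (.nd (.nd .nil (.nd (.lf [0]) .nil)) .nil) .nil)) (.nd .nil (.nd .nil (.nd (.nd (.nd (.lf [148]) .nil) .nil) .nil)))) (.nd .nil (.nd .nil (.nd (.nd (.nd .nil (.nd (.lf [0]) .nil)) .nil) .nil)))) (.nd (.nd .nil (.nd .nil (.nd .nil (.nd (.nd (.nd (.lf [148]) .nil) .nil) .nil)))) .nil))) (.nd (.nd (.nd (.nd .nil (.nd (.nd .nil (.nd (.nd (.nd (.lf [0]) .nil) .nil) .nil)) (.nd (.nd (.nd .nil (.nd .nil (.lf [158]))) .nil) (.nd (.nd .nil (.nd (.lf [0]) .nil)) .nil)))) (.nd (.nd .nil (.nd (.nd .nil (.nd .nil (.nd (.lf [0]) .nil))) .nil)) .nil)) (.nd (.nd .nil (.nd (.nd .nil (.nd (.nd (.nd (.lf [0]) .nil) .nil) .nil)) .nil)) (.nd (.nd .nil (.nd .nil (.nd .nil (.nd (.nd .nil (.lf [30])) .nil)))) .nil))) (.nd (.nd (.nd (.nd .nil (.nd (.nd (.nd .nil (.nd (.lf [0]) .nil)) .nil) .nil)) (.nd .nil (.nd .nil (.nd (.nd .nil (.nd (.lf [0]) .nil)) .nil)))) (.nd (.nd .nil (.nd .nil (.nd (.nd .nil (.nd (.lf [0]) .nil)) .nil))) (.nd .nil (.nd (.nd (.nd .nil (.nd (.lf [0]) .nil)) .nil) .nil)))) .nil))))) (.nd (.nd (.nd (.nd (.nd (.nd (.nd .nil (.nd .nil (.nd (.nd .nil (.nd .nil (.nd (.lf [0]) .nil))) .nil))) (.nd (.nd .nil (.nd .nil (.nd (.nd .nil (.nd (.lf [0]) .nil)) .nil))) .nil)) (.nd (.nd (.nd .nil (.nd .nil (.nd .nil (.nd (.nd .nil (.lf [1076])) .nil)))) .nil) (.nd (.nd .nil (.nd .nil (.nd .nil (.nd .nil (.nd .nil (.lf [42])))))) .nil))) (.nd .nil (.nd (.nd (.nd .nil (.nd (.nd (.nd .nil (.nd (.lf [0]) .nil)) .nil) (.nd (.nd (.nd .nil (.lf [31])) .nil) .nil))) (.nd .nil (.nd (.nd .nil (.nd .nil (.nd (.lf [0]) .nil))) .nil))) (.nd (.nd .nil (.nd (.nd .nil (.nd (.nd .nil (.lf [7])) (.nd (.lf [0]) .nil))) .nil)) (.nd .nil (.nd (.nd (.nd .nil (.nd (.lf [0]) .nil)) .nil) .nil)))))) (.nd (.nd (.nd .nil (.nd (.nd .nil (.nd .nil (.nd .nil (.nd (.nd .nil (.lf [1])) .nil)))) .nil)) (.nd (.nd (.nd .nil (.nd .nil (.nd .nil (.nd (.nd .nil (.lf [1])) .nil)))) .nil) .nil)) (.nd (.nd (.nd (.nd (.nd (.nd .nil (.nd (.nd (.lf [0]) .nil) .nil)) .nil) .nil) .nil) .nil) (.nd (.nd (.nd (.nd (.nd .nil (.nd (.nd (.lf [0]) .nil) .nil)) .nil) (.nd (.nd (.nd .nil (.nd (.lf [0]) .nil)) .nil) .nil)) (.nd (.nd .nil (.nd (.nd .nil (.nd (.lf [48]) .nil)) .nil)) (.nd (.nd (.nd .nil (.nd .nil (.lf [95]))) .nil) .nil))) (.nd (.nd (.nd .nil (.nd (.nd .nil (.nd (.lf [628]) .nil)) .nil)) (.nd .nil (.nd .nil (.nd .nil (.nd .nil (.lf [146])))))) (.nd .nil (.nd (.nd (.nd .nil (.nd (.lf [0]) .nil)) .nil) .nil))))))) (.nd (.nd (.nd .nil (.nd (.nd (.nd .nil (.nd (.nd (.nd (.nd .nil (.lf [29])) .nil) .nil) .nil)) (.nd .nil (.nd (.nd (.nd .nil (.nd .nil (.lf [158]))) (.nd .nil (.nd (.lf [0]) .nil))) .nil))) (.nd (.nd .nil (.nd .nil (.nd (.nd .nil (.nd (.lf [0]) .nil)) .nil))) .nil))) (.nd (.nd (.nd (.nd .nil (.nd (.nd (.nd .nil (.nd (.lf [0]) .nil)) .nil) .nil)) (.nd .nil (.nd (.nd .nil (.nd .nil (.nd (.lf [0]) .nil))) .nil))) (.nd (.nd .nil (.nd (.nd .nil (.nd .nil (.nd (.lf [0]) .nil))) .nil)) (.nd .nil (.nd (.nd (.nd .nil (.nd (.lf [0]) .nil)) .nil) .nil)))) (.nd (.nd (.nd .nil (.nd (.nd (.nd (.nd .nil (.lf [11])) .nil) .nil) .nil)) .nil) (.nd (.nd .nil (.nd .nil (.nd .nil (.nd (.nd .nil (.lf [31])) .nil)))) .nil)))) (.nd (.nd (.nd .nil (.nd (.nd .nil (.nd (.nd (.nd (.nd .nil (.lf [1])) .nil) .nil) .nil)) .nil)) (.nd (.nd (.nd .nil (.nd (.nd (.nd (.nd .nil (.lf [1])) .nil) .nil) .nil)) .nil) .nil)) (.nd (.nd (.nd (.nd (.nd (.nd .nil (.nd (.nd (.lf [0]) .nil) .nil)) .nil) (.nd (.nd (.nd .nil (.nd (.lf [0]) .nil)) .nil) .nil)) (.nd (.nd .nil (.nd (.nd .nil (.nd (.lf [100]) .nil)) .nil)) .nil)) (.nd (.nd (.nd .nil (.nd (.nd .nil (.nd (.lf [628]) .nil)) .nil)) .nil) (.nd .nil (.nd (.nd (.nd .nil (.nd (.lf [0]) .nil)) .nil) .nil)))) (.nd (.nd (.nd (.nd (.nd .nil (.nd (.nd (.lf [0]) .nil) .nil)) .nil) (.nd (.nd (.nd (.nd .nil (.lf [1])) .nil) .nil) .nil)) .nil) .nil))))) (.nd (.nd (.nd (.nd (.nd (.nd .nil (.nd .nil (.nd .nil (.nd (.nd (.nd (.lf [32]) .nil) .nil) .nil)))) (.nd (.nd .nil (.nd .nil (.nd .nil (.nd (.nd (.lf [139]) .nil) .nil)))) (.nd (.nd (.nd .nil (.nd .nil (.nd (.lf [80]) .nil))) .nil) .nil))) (.nd (.nd (.nd (.nd (.nd (.nd .nil (.nd (.lf [8]) .nil)) .nil) .nil) .nil) (.nd .nil (.nd .nil (.nd (.nd (.nd (.lf [139]) .nil) .nil) .nil)))) (.nd (.nd .nil (.nd .nil (.nd .nil (.nd (.nd (.lf [62]) .nil) .nil)))) .nil))) (.nd (.nd (.nd .nil (.nd (.nd .nil (.nd (.nd (.nd (.lf [0]) .nil) .nil) .nil)) (.nd .nil (.nd (.nd (.nd (.lf [22]) .nil) .nil) .nil)))) .nil) (.nd (.nd (.nd (.nd (.nd (.nd .nil (.nd (.lf [17]) .nil)) .nil) .nil) (.nd (.nd (.nd .nil (.nd (.lf [0]) .nil)) .nil) .nil)) (.nd (.nd .nil (.nd (.nd (.nd (.lf [0]) .nil) .nil) .nil)) (.nd .nil (.nd (.nd (.nd (.lf [22]) .nil) .nil) .nil)))) (.nd .nil (.nd (.nd (.nd (.nd .nil (.nd (.lf [22]) .nil)) .nil) .nil) (.nd (.nd (.nd .nil (.nd (.lf [0]) .nil)) .nil) .nil)))))) (.nd (.nd (.nd .nil (.nd (.nd .nil (.nd .nil (.nd .nil (.nd (.nd .nil (.lf [843])) .nil)))) .nil)) (.nd (.nd (.nd (.nd (.nd (.nd .nil (.nd (.lf [123]) .nil)) .nil) .nil) .nil) (.nd .nil (.nd (.nd (.nd .nil (.nd .nil (.lf [103]))) .nil) (.nd (.nd .nil (.nd (.lf [0]) .nil)) .nil)))) (.nd (.nd .nil (.nd (.nd .nil (.nd .nil (.nd (.lf [0]) .nil))) .nil)) .nil))) (.nd .nil (.nd (.nd (.nd (.nd (.nd (.nd .nil (.nd (.lf [19]) .nil)) .nil) .nil) (.nd (.nd (.nd .nil (.nd (.lf [0]) .nil)) .nil) .nil)) (.nd (.nd .nil (.nd (.nd .nil (.nd (.lf [22]) .nil)) .nil)) (.nd .nil (.nd (.nd .nil (.nd (.lf [0]) .nil)) .nil)))) (.nd (.nd (.nd .nil (.nd (.nd .nil (.nd (.lf [19]) .nil)) .nil)) (.nd .nil (.nd (.nd .nil (.nd (.lf [0]) .nil)) .nil))) (.nd (.nd (.nd (.nd .nil (.nd (.lf [22]) .nil)) .nil) .nil) (.nd (.nd (.nd .nil (.nd (.lf [0]) .nil)) .nil) .nil))))))) (.nd (.nd (.nd (.nd (.nd (.nd (.nd (.nd (.nd .nil (.nd (.lf [80]) .nil)) .nil) .nil) .nil) (.nd .nil (.nd .nil (.nd (.nd (.nd (.lf [139]) .nil) .nil) .nil)))) (.nd (.nd .nil (.nd .nil (.nd .nil (.nd (.nd (.lf [32]) .nil) .nil)))) .nil)) (.nd (.nd .nil (.nd .nil (.nd .nil (.nd (.nd (.nd (.lf [139]) .nil) .nil) .nil)))) (.nd (.nd .nil (.nd .nil (.nd .nil (.nd (.nd (.lf [93]) .nil) .nil)))) (.nd (.nd (.nd .nil (.nd .nil (.nd (.lf [8]) .nil))) .nil) .nil)))) (.nd (.nd (.nd (.nd (.nd (.nd (.nd .nil (.nd (.lf [19]) .nil)) .nil) .nil) (.nd (.nd (.nd .nil (.nd (.lf [0]) .nil)) .nil) .nil)) (.nd (.nd .nil (.nd (.nd (.nd (.lf [0]) .nil) .nil) .nil)) (.nd .nil (.nd (.nd (.nd (.lf [22]) .nil) .nil) .nil)))) (.nd .nil (.nd (.nd (.nd (.nd .nil (.nd (.lf [22]) .nil)) .nil) .nil) (.nd (.nd (.nd .nil (.nd (.lf [0]) .nil)) .nil) .nil)))) (.nd (.nd .nil (.nd (.nd .nil (.nd (.nd (.nd (.lf [0]) .nil) .nil) .nil)) (.nd (.nd (.nd .nil (.nd .nil (.lf [146]))) .nil) (.nd (.nd (.nd (.lf [22]) .nil) .nil) .nil)))) (.nd (.nd .nil (.nd .nil (.nd .nil (.nd (.nd .nil (.lf [45])) (.nd .nil (.lf [48])))))) .nil)))) (.nd (.nd (.nd (.nd (.nd (.nd (.nd (.nd .nil (.nd (.lf [118]) .nil)) .nil) .nil) .nil) (.nd .nil (.nd .nil (.nd (.nd .nil (.nd (.lf [0]) .nil)) .nil)))) (.nd (.nd .nil (.nd (.nd (.nd (.nd .nil (.lf [1057])) .nil) (.nd .nil (.nd (.lf [0]) .nil))) .nil)) .nil)) (.nd .nil (.nd (.nd .nil (.nd .nil (.nd .nil (.nd .nil (.nd .nil (.lf [158])))))) .nil))) (.nd (.nd (.nd (.nd (.nd (.nd (.nd .nil (.nd (.lf [19]) .nil)) .nil) .nil) (.nd (.nd (.nd .nil (.nd (.lf [0]) .nil)) .nil) .nil)) (.nd (.nd .nil (.nd (.nd .nil (.nd (.lf [22]) .nil)) .nil)) (.nd .nil (.nd (.nd .nil (.nd (.lf [0]) .nil)) .nil)))) (.nd (.nd (.nd .nil (.nd (.nd .nil (.nd (.lf [19]) .nil)) .nil)) (.nd .nil (.nd (.nd .nil (.nd (.lf [0]) .nil)) .nil))) (.nd (.nd (.nd (.nd .nil (.nd (.lf [22]) .nil)) .nil) .nil) (.nd (.nd (.nd .nil (.nd (.lf [0]) .nil)) .nil) .nil)))) .nil))))))) (.nd (.nd (.nd (.nd (.nd (.nd (.nd (.nd (.nd (.nd (.nd (.nd (.nd (.nd (.lf [0]) .nil) (.nd (.lf [22]) .nil)) .nil) .nil) (.nd (.nd (.nd (.nd .nil (.lf [1])) (.nd (.lf [0]) .nil)) .nil) .nil)) .nil) (.nd .nil (.nd (.nd (.nd (.nd .nil (.nd (.lf [19]) .nil)) .nil) .nil) (.nd (.nd (.nd (.nd (.lf [22]) .nil) (.nd (.lf [0]) .nil)) .nil) .nil)))) (.nd (.nd (.nd (.nd (.nd (.nd (.nd (.lf [0]) .nil) .nil) .nil) .nil) .nil) (.nd .nil (.nd (.nd .nil (.nd .nil (.nd .nil (.lf [186])))) .nil))) (.nd (.nd .nil (.nd .nil (.nd (.nd .nil (.nd .nil (.lf [75]))) .nil))) (.nd .nil (.nd (.nd (.nd (.nd (.lf [22]) .nil) .nil) .nil) .nil))))) (.nd (.nd (.nd (.nd (.nd (.nd (.nd (.nd (.lf [0]) .nil) (.nd (.lf [208]) .nil)) (.nd (.nd (.lf [0]) .nil) (.nd (.lf [208]) .nil))) .nil) (.nd (.nd (.nd (.nd .nil (.lf [1])) .nil) (.nd (.nd .nil (.lf [34])) .nil)) .nil)) .nil) (.nd (.nd .nil (.nd (.nd (.nd (.nd .nil (.lf [1])) .nil) (.nd (.nd .nil (.lf [31])) .nil)) .nil)) .nil)) (.nd (.nd (.nd (.nd (.nd (.nd (.nd (.lf [0]) .nil) .nil) (.nd (.nd (.lf [0]) .nil) .nil)) .nil) .nil) .nil) (.nd (.nd .nil (.nd .nil (.nd (.nd .nil (.nd .nil (.lf [34]))) (.nd .nil (.nd .nil (.lf [26])))))) (.nd .nil (.nd .nil (.nd (.nd .nil (.nd .nil (.lf [33]))) (.nd .nil (.nd .nil (.lf [34])))))))))) (.nd (.nd (.nd (.nd (.nd (.nd (.nd (.nd (.nd (.lf [0]) .nil) (.nd (.lf [2]) .nil)) .nil) .nil) (.nd (.nd (.nd (.nd .nil (.lf [92])) (.nd (.lf [0]) (.lf [15]))) (.nd (.nd (.lf [50]) (.lf [194])) (.nd .nil (.lf [50])))) .nil)) (.nd (.nd .nil (.nd (.nd (.nd (.lf [0]) .nil) .nil) .nil)) (.nd .nil (.nd (.nd (.nd (.lf [19]) .nil) .nil) .nil)))) (.nd (.nd .nil (.nd .nil (.nd .nil (.nd (.nd (.lf [50]) .nil) .nil)))) (.nd (.nd (.nd (.nd .nil (.nd (.lf [2]) .nil)) .nil) .nil) (.nd (.nd (.nd (.nd (.lf [2]) .nil) (.nd (.lf [0]) .nil)) .nil) (.nd (.nd .nil (.nd .nil (.lf [20]))) (.nd .nil (.nd .nil (.lf [20])))))))) (.nd (.nd (.nd (.nd (.nd (.nd (.nd (.lf [0]) .nil) .nil) .nil) .nil) (.nd (.nd .nil (.nd (.nd (.lf [50]) .nil) .nil)) .nil)) (.nd (.nd .nil (.nd (.nd (.nd (.lf [0]) .nil) (.nd (.lf [3]) .nil)) .nil)) (.nd (.nd (.nd .nil (.nd .nil (.lf [50]))) (.nd .nil (.nd .nil (.lf [50])))) (.nd (.nd (.nd (.lf [13]) .nil) (.nd (.lf [0]) .nil)) .nil)))) (.nd (.nd (.nd .nil (.nd (.nd .nil (.nd (.lf [13]) .nil)) .nil)) (.nd .nil (.nd (.nd (.nd .nil (.lf [61])) (.nd (.lf [0]) (.lf [17]))) (.nd (.nd (.lf [50]) (.lf [167])) (.nd .nil (.lf [3])))))) (.nd .nil (.nd (.nd (.nd (.nd (.lf [22]) .nil) .nil) .nil) .nil))))) (.nd (.nd (.nd (.nd (.nd (.nd (.nd (.nd (.lf [0]) .nil) (.nd (.lf [4]) .nil)) .nil) .nil) (.nd (.nd (.nd (.nd .nil (.lf [31])) .nil) .nil) .nil)) (.nd .nil (.nd .nil (.nd (.nd (.nd (.lf [157]) .nil) .nil) .nil)))) .nil) (.nd (.nd (.nd (.nd (.nd (.nd (.nd (.lf [0]) .nil) .nil) .nil) .nil) .nil) (.nd .nil (.nd .nil (.nd (.nd (.nd (.lf [80]) .nil) (.nd (.lf [0]) .nil)) .nil)))) (.nd (.nd .nil (.nd (.nd .nil (.nd .nil (.nd (.lf [0]) .nil))) (.nd (.nd .nil (.nd .nil (.lf [17]))) .nil))) .nil))))) (.nd (.nd (.nd (.nd (.nd (.nd (.nd (.nd (.nd (.nd (.lf [0]) .nil) .nil) .nil) .nil) .nil) .nil) (.nd .nil (.nd .nil (.nd (.nd (.nd (.nd (.lf [22]) .nil) .nil) .nil) .nil)))) (.nd (.nd (.nd (.nd (.nd (.nd (.nd (.lf [0]) .nil) (.nd (.lf [22]) .nil)) .nil) .nil) (.nd (.nd (.nd .nil (.nd (.lf [0]) .nil)) .nil) .nil)) .nil) (.nd .nil (.nd (.nd (.nd (.nd .nil (.nd (.lf [19]) .nil)) .nil) .nil) (.nd (.nd (.nd (.nd (.lf [22]) .nil) (.nd (.lf [0]) .nil)) .nil) .nil))))) (.nd (.nd (.nd (.nd (.nd (.nd (.nd (.nd (.lf [0]) .nil) .nil) (.nd (.nd (.lf [0]) .nil) .nil)) .nil) (.nd .nil (.nd (.nd (.nd .nil (.lf [34])) .nil) (.nd (.nd .nil (.lf [1])) .nil)))) .nil) (.nd (.nd .nil (.nd .nil (.nd (.nd (.nd .nil (.lf [34])) .nil) (.nd (.nd .nil (.lf [1])) .nil)))) .nil)) (.nd (.nd (.nd (.nd (.nd (.nd (.nd (.lf [0]) .nil) (.nd (.lf [128]) .nil)) (.nd (.nd (.lf [0]) .nil) (.nd (.lf [115]) .nil))) .nil) (.nd (.nd (.nd .nil (.nd .nil (.lf [34]))) (.nd .nil (.nd .nil (.lf [34])))) .nil)) (.nd .nil (.nd (.nd (.nd .nil (.nd .nil (.lf [34]))) (.nd .nil (.nd .nil (.lf [34])))) .nil))) .nil))) (.nd (.nd (.nd (.nd (.nd (.nd (.nd (.nd (.nd (.lf [0]) .nil) .nil) .nil) .nil) (.nd (.nd .nil (.nd (.nd (.lf [50]) .nil) .nil)) .nil)) (.nd (.nd .nil (.nd (.nd (.nd (.lf [0]) .nil) (.nd (.lf [16]) .nil)) .nil)) (.nd .nil (.nd (.nd (.nd (.lf [19]) .nil) (.nd (.lf [0]) .nil)) .nil)))) (.nd (.nd (.nd .nil (.nd (.nd .nil (.nd (.lf [3]) .nil)) .nil)) (.nd .nil (.nd (.nd .nil (.nd (.lf [0]) .nil)) (.nd (.nd (.lf [50]) .nil) .nil)))) (.nd .nil (.nd (.nd (.nd (.nd (.lf [22]) .nil) .nil) .nil) .nil)))) (.nd (.nd (.nd (.nd (.nd (.nd (.nd (.lf [0]) .nil) (.nd (.lf [8]) .nil)) .nil) .nil) (.nd (.nd (.nd .nil (.nd (.lf [0]) .nil)) (.nd (.nd (.lf [50]) .nil) .nil)) .nil)) (.nd (.nd .nil (.nd (.nd (.nd (.lf [0]) .nil) .nil) .nil)) (.nd .nil (.nd (.nd (.nd (.lf [19]) .nil) .nil) .nil)))) (.nd (.nd .nil (.nd .nil (.nd .nil (.nd (.nd (.lf [50]) .nil) .nil)))) (.nd (.nd (.nd (.nd .nil (.nd (.lf [19]) .nil)) .nil) .nil) (.nd (.nd (.nd (.nd (.lf [22]) .nil) (.nd (.lf [0]) .nil)) .nil) .nil))))) (.nd (.nd (.nd (.nd (.nd (.nd (.nd (.nd (.lf [0]) .nil) .nil) .nil) .nil) (.nd .nil (.nd .nil (.nd (.nd .nil (.lf [165])) .nil)))) (.nd .nil (.nd .nil (.nd (.nd (.nd (.lf [157]) .nil) (.nd (.lf [0]) .nil)) .nil)))) (.nd (.nd .nil (.nd (.nd .nil (.nd .nil (.nd (.lf [0]) .nil))) .nil)) .nil)) (.nd (.nd (.nd (.nd (.nd (.nd (.nd (.lf [0]) .nil) (.nd (.lf [80]) .nil)) .nil) .nil) .nil) (.nd .nil (.nd (.nd .nil (.nd .nil (.nd .nil (.lf [186])))) (.nd (.nd (.nd (.lf [155]) .nil) .nil) .nil)))) .nil))))) (.nd (.nd (.nd (.nd (.nd (.nd (.nd .nil (.nd (.nd (.nd .nil (.nd (.lf [0]) .nil)) .nil) .nil)) .nil) (.nd .nil (.nd .nil (.nd (.nd (.nd .nil (.nd (.lf [0]) .nil)) .nil) .nil)))) (.nd (.nd .nil (.nd .nil (.nd (.nd .nil (.nd .nil (.nd (.lf [0]) (.lf [38])))) .nil))) (.nd (.nd .nil (.nd (.nd .nil (.nd .nil (.nd (.lf [0]) .nil))) (.nd (.nd .nil (.nd .nil (.lf [75]))) .nil))) .nil))) (.nd (.nd (.nd .nil (.nd .nil (.nd (.nd .nil (.nd .nil (.nd (.lf [0]) .nil))) .nil))) (.nd (.nd .nil (.nd (.nd (.nd (.nd .nil (.lf [1243])) .nil) .nil) (.nd (.nd .nil (.nd (.lf [0]) .nil)) .nil))) .nil)) (.nd .nil (.nd (.nd .nil (.nd .nil (.nd (.nd .nil (.nd .nil (.lf [75]))) .nil))) .nil)))) (.nd (.nd (.nd (.nd (.nd .nil (.nd (.nd (.nd .nil (.nd (.lf [0]) .nil)) (.nd (.nd (.lf [122]) .nil) .nil)) .nil)) .nil) (.nd .nil (.nd .nil (.nd (.nd (.nd .nil (.nd (.lf [0]) .nil)) .nil) .nil)))) (.nd (.nd (.nd .nil (.nd (.nd .nil (.nd (.nd (.lf [214]) .nil) .nil)) .nil)) (.nd (.nd .nil (.nd (.nd .nil (.nd (.lf [8]) .nil)) .nil)) (.nd (.nd .nil (.nd .nil (.nd .nil (.lf [186])))) .nil))) (.nd (.nd (.nd .nil (.nd (.nd .nil (.nd (.lf [73]) .nil)) .nil)) (.nd .nil (.nd (.nd .nil (.nd .nil (.lf [17]))) (.nd (.nd .nil (.lf [843])) .nil)))) .nil))) (.nd .nil (.nd (.nd .nil (.nd .nil (.nd (.nd (.nd .nil (.nd .nil (.lf [46]))) .nil) .nil))) (.nd (.nd .nil (.nd .nil (.nd (.nd .nil (.nd .nil (.lf [17]))) .nil))) .nil))))) (.nd (.nd (.nd (.nd (.nd .nil (.nd .nil (.nd (.nd .nil (.nd .nil (.nd (.lf [0]) .nil))) .nil))) (.nd (.nd .nil (.nd (.nd .nil (.nd .nil (.nd (.lf [0]) .nil))) .nil)) .nil)) (.nd (.nd (.nd .nil (.nd (.nd (.nd .nil (.nd (.lf [0]) .nil)) .nil) .nil)) (.nd .nil (.nd (.nd (.nd .nil (.nd .nil (.lf [41]))) .nil) .nil))) (.nd (.nd .nil (.nd .nil (.nd .nil (.nd .nil (.nd .nil (.lf [48])))))) (.nd .nil (.nd (.nd (.nd .nil (.nd (.lf [0]) .nil)) .nil) .nil))))) (.nd (.nd .nil (.nd (.nd .nil (.nd .nil (.nd .nil (.nd (.nd .nil (.lf [4])) .nil)))) .nil)) (.nd (.nd .nil (.nd .nil (.nd (.nd .nil (.nd .nil (.nd (.lf [0]) (.lf [186])))) .nil))) (.nd (.nd .nil (.nd .nil (.nd (.nd .nil (.nd (.lf [0]) .nil)) .nil))) .nil)))) (.nd (.nd (.nd (.nd (.nd .nil (.nd (.nd .nil (.nd (.nd (.lf [122]) .nil) .nil)) .nil)) (.nd (.nd .nil (.nd (.nd .nil (.nd (.lf [66]) .nil)) .nil)) .nil)) (.nd (.nd (.nd .nil (.nd (.nd .nil (.nd (.lf [73]) .nil)) .nil)) .nil) .nil)) (.nd (.nd (.nd .nil (.nd (.nd (.nd .nil (.nd (.lf [0]) .nil)) (.nd (.nd (.lf [214]) .nil) .nil)) .nil)) .nil) (.nd .nil (.nd .nil (.nd (.nd (.nd .nil (.nd (.lf [0]) .nil)) .nil) .nil))))) (.nd .nil (.nd (.nd .nil (.nd .nil (.nd (.nd .nil (.nd .nil (.nd .nil (.lf [6])))) .nil))) (.nd (.nd .nil (.nd .nil (.nd .nil (.nd .nil (.nd .nil (.lf [75])))))) .nil))))))) (.nd (.nd (.nd (.nd (.nd (.nd (.nd (.nd .nil (.nd (.nd (.nd .nil (.nd (.lf [0]) .nil)) .nil) .nil)) .nil) (.nd .nil (.nd .nil (.nd (.nd (.nd (.nd (.lf [202]) .nil) (.nd (.lf [0]) .nil)) .nil) .nil)))) (.nd .nil (.nd .nil (.nd .nil (.nd (.nd (.nd (.nd (.lf [93]) .nil) .nil) .nil) .nil))))) (.nd (.nd (.nd (.nd .nil (.nd (.nd (.nd .nil (.nd .nil (.lf [34]))) (.nd .nil (.nd .nil (.lf [34])))) .nil)) (.nd (.nd .nil (.nd (.nd (.nd (.lf [0]) .nil) .nil) (.nd (.nd (.lf [0]) .nil) .nil))) (.nd (.nd (.nd .nil (.nd .nil (.lf [34]))) (.nd .nil (.nd .nil (.lf [34])))) .nil))) .nil) (.nd (.nd (.nd .nil (.nd .nil (.nd (.nd (.nd .nil (.lf [11])) .nil) (.nd (.nd .nil (.lf [34])) .nil)))) (.nd (.nd .nil (.nd (.nd (.nd (.lf [0]) .nil) (.nd (.lf [194]) .nil)) (.nd (.nd (.lf [0]) .nil) (.nd (.lf [194]) .nil)))) .nil)) (.nd (.nd .nil (.nd .nil (.nd (.nd (.nd .nil (.lf [34])) .nil) (.nd (.nd .nil (.lf [11])) .nil)))) .nil)))) (.nd (.nd (.nd (.nd (.nd (.nd (.nd .nil (.nd (.nd (.lf [0]) .nil) (.nd (.lf [13]) .nil))) .nil) (.nd (.nd (.nd .nil (.nd (.lf [0]) .nil)) (.nd (.nd (.lf [32]) .nil) .nil)) .nil)) (.nd (.nd .nil (.nd .nil (.nd (.nd (.lf [0]) .nil) .nil))) (.nd .nil (.nd (.nd (.nd (.lf [32]) .nil) .nil) .nil)))) (.nd (.nd .nil (.nd .nil (.nd .nil (.nd (.nd (.lf [50]) .nil) .nil)))) (.nd (.nd (.nd .nil (.nd .nil (.nd (.lf [13]) .nil))) .nil) (.nd (.nd (.nd (.nd (.lf [50]) .nil) (.nd (.lf [0]) .nil)) .nil) .nil)))) (.nd (.nd (.nd (.nd (.nd .nil (.nd (.nd (.lf [0]) .nil) .nil)) .nil) (.nd (.nd .nil (.nd (.nd (.lf [50]) .nil) .nil)) .nil)) (.nd (.nd .nil (.nd .nil (.nd (.nd (.lf [0]) .nil) (.nd (.lf [2]) .nil)))) (.nd .nil (.nd (.nd (.nd (.lf [50]) .nil) (.nd (.lf [0]) .nil)) .nil)))) (.nd (.nd (.nd .nil (.nd .nil (.nd .nil (.nd (.lf [2]) .nil)))) (.nd .nil (.nd (.nd .nil (.nd (.lf [0]) .nil)) (.nd (.nd (.lf [8]) .nil) .nil)))) (.nd .nil (.nd (.nd (.nd (.nd (.lf [8]) .nil) .nil) .nil) .nil))))) (.nd (.nd (.nd .nil (.nd .nil (.nd (.nd .nil (.nd .nil (.nd .nil (.lf [68])))) (.nd (.nd (.nd (.lf [168]) .nil) .nil) .nil)))) .nil) (.nd (.nd (.nd .nil (.nd .nil (.nd .nil (.nd (.nd .nil (.lf [1259])) .nil)))) (.nd .nil (.nd .nil (.nd (.nd (.nd (.lf [185]) .nil) (.nd (.lf [0]) .nil)) .nil)))) (.nd (.nd .nil (.nd (.nd .nil (.nd .nil (.nd (.lf [0]) .nil))) .nil)) .nil))))) (.nd (.nd (.nd (.nd (.nd .nil (.nd .nil (.nd (.nd .nil (.nd .nil (.nd .nil (.lf [68])))) .nil))) (.nd (.nd .nil (.nd .nil (.nd (.nd .nil (.nd .nil (.lf [4]))) .nil))) (.nd .nil (.nd (.nd (.nd (.nd (.lf [189]) .nil) .nil) .nil) .nil)))) (.nd (.nd (.nd .nil (.nd (.nd (.nd (.nd .nil (.lf [29])) (.nd (.lf [0]) .nil)) .nil) .nil)) .nil) (.nd .nil (.nd .nil (.nd (.nd (.nd (.nd (.lf [93]) .nil) (.nd (.lf [0]) .nil)) .nil) .nil))))) (.nd (.nd (.nd .nil (.nd (.nd .nil (.nd (.nd (.nd (.lf [0]) .nil) (.nd (.lf [100]) .nil)) (.nd (.nd (.lf [0]) .nil) (.nd (.lf [71]) .nil)))) .nil)) (.nd (.nd .nil (.nd .nil (.nd (.nd .nil (.nd .nil (.lf [4]))) (.nd .nil (.nd .nil (.lf [33])))))) (.nd .nil (.nd .nil (.nd (.nd .nil (.nd .nil (.lf [26]))) (.nd .nil (.nd .nil (.lf [34])))))))) (.nd (.nd (.nd .nil (.nd (.nd (.nd (.nd .nil (.lf [7])) .nil) (.nd (.nd .nil (.lf [34])) .nil)) .nil)) (.nd (.nd .nil (.nd (.nd (.nd (.lf [0]) .nil) .nil) (.nd (.nd (.lf [0]) .nil) .nil))) .nil)) (.nd (.nd .nil (.nd (.nd (.nd (.nd .nil (.lf [34])) .nil) (.nd (.nd .nil (.lf [34])) .nil)) .nil)) .nil)))) (.nd (.nd (.nd (.nd (.nd (.nd (.nd .nil (.nd (.nd (.lf [0]) .nil) .nil)) .nil) (.nd (.nd .nil (.nd (.nd (.lf [50]) .nil) .nil)) .nil)) (.nd (.nd .nil (.nd .nil (.nd (.nd (.lf [0]) .nil) (.nd (.lf [49]) .nil)))) (.nd (.nd (.nd .nil (.nd .nil (.lf [3]))) (.nd .nil (.nd .nil (.lf [37])))) (.nd (.nd (.nd (.lf [50]) .nil) (.nd (.lf [0]) .nil)) .nil)))) (.nd (.nd (.nd .nil (.nd .nil (.nd .nil (.nd (.lf [49]) .nil)))) (.nd .nil (.nd (.nd (.nd .nil (.lf [102])) (.nd (.lf [0]) (.lf [50]))) (.nd (.nd (.lf [13]) (.lf [17])) (.nd .nil (.lf [50])))))) (.nd .nil (.nd (.nd (.nd (.nd (.lf [32]) .nil) .nil) .nil) .nil)))) (.nd (.nd (.nd (.nd (.nd .nil (.nd (.nd (.lf [0]) .nil) (.nd (.lf [43]) .nil))) .nil) (.nd (.nd (.nd (.nd .nil (.lf [159])) (.nd (.lf [0]) (.lf [20]))) (.nd (.nd (.lf [2]) (.lf [152])) (.nd .nil (.lf [20])))) .nil)) (.nd (.nd .nil (.nd .nil (.nd (.nd (.lf [0]) .nil) .nil))) (.nd .nil (.nd (.nd (.nd (.lf [8]) .nil) .nil) .nil)))) (.nd (.nd .nil (.nd .nil (.nd .nil (.nd (.nd (.lf [50]) .nil) .nil)))) (.nd (.nd (.nd .nil (.nd .nil (.nd (.lf [43]) .nil))) .nil) (.nd (.nd (.nd (.nd (.lf [50]) .nil) (.nd (.lf [0]) .nil)) .nil) (.nd (.nd .nil (.nd .nil (.lf [33]))) (.nd .nil (.nd .nil (.lf [15]))))))))) (.nd (.nd (.nd .nil (.nd .nil (.nd .nil (.nd (.nd (.nd (.lf [100]) .nil) (.nd (.lf [0]) .nil)) .nil)))) (.nd (.nd .nil (.nd (.nd .nil (.nd .nil (.nd (.lf [0]) .nil))) (.nd (.nd .nil (.nd .nil (.lf [92]))) .nil))) .nil)) (.nd (.nd (.nd .nil (.nd (.nd (.nd (.nd .nil (.lf [53])) .nil) .nil) .nil)) (.nd .nil (.nd .nil (.nd (.nd (.nd (.lf [214]) .nil) .nil) .nil)))) .nil))))) (.nd (.nd (.nd (.nd (.nd (.nd (.nd .nil (.nd (.nd (.nd .nil (.nd (.lf [0]) .nil)) .nil) .nil)) (.nd .nil (.nd (.nd (.nd .nil (.nd .nil (.lf [6]))) .nil) .nil))) (.nd (.nd .nil (.nd .nil (.nd .nil (.nd .nil (.nd .nil (.lf [46])))))) (.nd .nil (.nd (.nd (.nd .nil (.nd (.lf [0]) .nil)) .nil) .nil)))) (.nd (.nd .nil (.nd .nil (.nd (.nd .nil (.nd .nil (.nd (.lf [0]) .nil))) .nil))) (.nd (.nd .nil (.nd (.nd .nil (.nd .nil (.nd (.lf [0]) .nil))) .nil)) .nil))) (.nd (.nd (.nd .nil (.nd (.nd .nil (.nd .nil (.nd (.nd (.lf [0]) .nil) .nil))) (.nd (.nd .nil (.nd .nil (.nd (.lf [0]) (.lf [68])))) .nil))) (.nd (.nd .nil (.nd .nil (.nd (.nd .nil (.nd (.lf [0]) .nil)) .nil))) .nil)) (.nd (.nd .nil (.nd (.nd .nil (.nd (.nd .nil (.nd (.lf [167]) .nil)) (.nd (.nd (.lf [0]) .nil) .nil))) .nil)) (.nd (.nd .nil (.nd .nil (.nd .nil (.nd (.nd .nil (.lf [11])) .nil)))) .nil)))) (.nd (.nd (.nd (.nd (.nd .nil (.nd (.nd (.nd .nil (.nd (.lf [0]) .nil)) (.nd (.nd (.lf [73]) .nil) .nil)) .nil)) (.nd (.nd .nil (.nd .nil (.nd (.nd (.lf [0]) .nil) .nil))) .nil)) (.nd .nil (.nd .nil (.nd (.nd (.nd .nil (.nd (.lf [0]) .nil)) .nil) .nil)))) (.nd (.nd (.nd .nil (.nd (.nd .nil (.nd (.nd (.lf [73]) .nil) .nil)) .nil)) (.nd (.nd .nil (.nd .nil (.nd (.nd (.lf [0]) .nil) .nil))) .nil)) .nil)) (.nd (.nd (.nd .nil (.nd .nil (.nd (.nd .nil (.nd .nil (.nd .nil (.lf [64])))) .nil))) (.nd (.nd .nil (.nd .nil (.nd .nil (.nd .nil (.nd .nil (.lf [41])))))) .nil)) .nil))) (.nd (.nd (.nd (.nd (.nd .nil (.nd .nil (.nd (.nd .nil (.nd .nil (.nd (.lf [0]) (.lf [68])))) .nil))) (.nd (.nd .nil (.nd (.nd .nil (.nd .nil (.nd (.lf [0]) .nil))) (.nd (.nd .nil (.nd .nil (.lf [4]))) .nil))) .nil)) (.nd (.nd (.nd .nil (.nd (.nd (.nd .nil (.nd (.lf [0]) .nil)) .nil) .nil)) .nil) (.nd .nil (.nd .nil (.nd (.nd (.nd .nil (.nd (.lf [0]) .nil)) .nil) .nil))))) (.nd (.nd (.nd .nil (.nd (.nd .nil (.nd (.nd .nil (.nd (.lf [100]) .nil)) (.nd (.nd (.lf [0]) .nil) .nil))) .nil)) (.nd (.nd .nil (.nd .nil (.nd (.nd .nil (.nd .nil (.lf [4]))) .nil))) .nil)) (.nd (.nd .nil (.nd (.nd .nil (.nd .nil (.nd (.nd (.lf [0]) .nil) .nil))) (.nd (.nd .nil (.nd .nil (.nd (.lf [0]) .nil))) .nil))) (.nd (.nd .nil (.nd (.nd (.nd (.nd .nil (.lf [36])) .nil) .nil) (.nd (.nd .nil (.nd (.lf [0]) .nil)) .nil))) .nil)))) (.nd (.nd (.nd (.nd (.nd .nil (.nd (.nd .nil (.nd (.nd (.lf [73]) .nil) .nil)) .nil)) (.nd (.nd .nil (.nd .nil (.nd (.nd (.lf [0]) .nil) .nil))) (.nd (.nd .nil (.nd .nil (.nd .nil (.lf [68])))) .nil))) (.nd (.nd .nil (.nd .nil (.nd (.nd .nil (.nd .nil (.lf [185]))) (.nd (.nd .nil (.lf [17])) .nil)))) .nil)) (.nd (.nd (.nd .nil (.nd (.nd (.nd .nil (.nd (.lf [0]) .nil)) (.nd (.nd (.lf [8]) .nil) .nil)) .nil)) (.nd (.nd .nil (.nd .nil (.nd (.nd (.lf [0]) .nil) .nil))) .nil)) (.nd .nil (.nd .nil (.nd (.nd (.nd .nil (.nd (.lf [0]) .nil)) .nil) .nil))))) (.nd (.nd (.nd .nil (.nd .nil (.nd (.nd (.nd .nil (.nd .nil (.lf [68]))) .nil) .nil))) (.nd (.nd .nil (.nd .nil (.nd (.nd .nil (.nd .nil (.lf [41]))) .nil))) .nil)) .nil)))))) (.nd (.nd (.nd (.nd (.nd (.nd (.nd (.nd (.nd .nil (.nd (.nd (.nd (.nd .nil (.lf [11])) .nil) .nil) (.nd (.nd (.nd .nil (.lf [30])) .nil) .nil))) .nil) (.nd (.nd .nil (.nd (.nd .nil (.nd (.nd .nil (.lf [7])) .nil)) (.nd .nil (.nd (.nd .nil (.lf [29])) .nil)))) .nil)) .nil) (.nd (.nd (.nd (.nd (.nd (.nd .nil (.nd (.nd (.lf [0]) .nil) .nil)) .nil) (.nd (.nd (.nd (.nd .nil (.lf [57])) (.nd (.lf [0]) .nil)) .nil) (.nd .nil (.nd .nil (.nd (.lf [0]) .nil))))) .nil) (.nd (.nd .nil (.nd .nil (.nd .nil (.nd (.nd (.lf [66]) .nil) .nil)))) .nil)) (.nd (.nd (.nd (.nd (.nd .nil (.nd (.nd (.lf [0]) .nil) .nil)) .nil) .nil) .nil) (.nd (.nd .nil (.nd .nil (.nd .nil (.nd (.nd (.lf [32]) .nil) (.nd .nil (.lf [221])))))) (.nd .nil (.nd (.nd (.nd .nil (.nd (.lf [0]) .nil)) .nil) (.nd .nil (.nd .nil (.nd (.lf [0]) .nil))))))))) (.nd (.nd (.nd (.nd (.nd .nil (.nd (.nd (.nd (.nd .nil (.lf [53])) .nil) (.nd (.nd (.lf [147]) .nil) .nil)) .nil)) .nil) (.nd (.nd .nil (.nd (.nd .nil (.nd .nil (.nd (.lf [0]) .nil))) .nil)) .nil)) (.nd (.nd (.nd .nil (.nd (.nd .nil (.nd (.nd (.lf [187]) .nil) .nil)) .nil)) (.nd (.nd .nil (.nd (.nd .nil (.nd (.lf [8]) .nil)) .nil)) .nil)) (.nd (.nd .nil (.nd .nil (.nd (.nd .nil (.nd (.lf [0]) .nil)) (.nd .nil (.nd .nil (.lf [33])))))) .nil))) (.nd (.nd (.nd (.nd .nil (.nd (.nd (.nd (.nd .nil (.lf [40])) (.nd (.lf [0]) .nil)) .nil) (.nd .nil (.nd .nil (.nd (.lf [0]) .nil))))) .nil) (.nd (.nd .nil (.nd (.nd (.nd (.nd .nil (.lf [40])) .nil) .nil) .nil)) .nil)) (.nd .nil (.nd .nil (.nd .nil (.nd (.nd (.nd .nil (.nd (.lf [0]) .nil)) .nil) (.nd .nil (.nd .nil (.nd (.lf [0]) .nil)))))))))) (.nd (.nd .nil (.nd (.nd (.nd (.nd (.nd (.nd .nil (.nd (.nd (.lf [0]) .nil) .nil)) .nil) .nil) .nil) (.nd (.nd .nil (.nd .nil (.nd .nil (.nd (.nd (.lf [62]) .nil) .nil)))) (.nd .nil (.nd (.nd (.nd .nil (.nd (.lf [0]) .nil)) .nil) (.nd .nil (.nd .nil (.nd (.lf [0]) .nil))))))) (.nd (.nd (.nd (.nd (.nd .nil (.nd (.nd (.lf [0]) .nil) .nil)) .nil) (.nd (.nd (.nd .nil (.nd (.lf [0]) .nil)) .nil) (.nd .nil (.nd (.nd .nil (.lf [165])) (.nd (.lf [0]) .nil))))) .nil) (.nd (.nd .nil (.nd .nil (.nd .nil (.nd (.nd (.lf [4]) .nil) .nil)))) .nil)))) (.nd (.nd (.nd (.nd (.nd .nil (.nd (.nd .nil (.nd (.nd (.lf [175]) .nil) .nil)) .nil)) (.nd (.nd .nil (.nd (.nd .nil (.nd (.lf [107]) .nil)) .nil)) .nil)) (.nd (.nd .nil (.nd .nil (.nd (.nd .nil (.nd (.lf [0]) .nil)) .nil))) .nil)) (.nd (.nd (.nd .nil (.nd (.nd .nil (.nd (.nd (.lf [128]) .nil) .nil)) .nil)) .nil) (.nd (.nd .nil (.nd (.nd .nil (.nd .nil (.nd (.lf [0]) .nil))) .nil)) .nil))) (.nd (.nd .nil (.nd .nil (.nd .nil (.nd (.nd (.nd .nil (.nd (.lf [0]) .nil)) .nil) (.nd .nil (.nd .nil (.nd (.lf [0]) .nil))))))) (.nd (.nd (.nd .nil (.nd (.nd (.nd .nil (.nd (.lf [0]) .nil)) .nil) (.nd .nil (.nd (.nd .nil (.lf [40])) (.nd (.lf [0]) .nil))))) .nil) (.nd (.nd .nil (.nd .nil (.nd .nil (.nd (.nd .nil (.lf [40])) .nil)))) .nil)))))) (.nd (.nd (.nd (.nd (.nd (.nd .nil (.nd (.nd .nil (.nd (.nd (.nd (.lf [0]) .nil) .nil) .nil)) (.nd (.nd .nil (.nd .nil (.nd (.lf [0]) .nil))) .nil))) (.nd (.nd .nil (.nd .nil (.nd .nil (.nd (.nd .nil (.lf [40])) .nil)))) .nil)) (.nd (.nd .nil (.nd (.nd .nil (.nd (.nd (.nd (.lf [0]) .nil) .nil) .nil)) (.nd .nil (.nd (.nd .nil (.nd (.lf [0]) .nil)) .nil)))) .nil)) (.nd (.nd (.nd (.nd .nil (.nd (.nd (.nd .nil (.nd (.lf [0]) .nil)) .nil) (.nd .nil (.nd .nil (.nd (.lf [0]) .nil))))) .nil) (.nd (.nd .nil (.nd (.nd .nil (.nd .nil (.nd (.lf [0]) .nil))) (.nd (.nd .nil (.nd (.lf [0]) .nil)) .nil))) .nil)) (.nd (.nd .nil (.nd .nil (.nd (.nd .nil (.nd .nil (.nd (.lf [0]) .nil))) (.nd (.nd .nil (.nd (.lf [0]) .nil)) .nil)))) (.nd .nil (.nd .nil (.nd (.nd (.nd .nil (.nd (.lf [0]) .nil)) .nil) (.nd .nil (.nd .nil (.nd (.lf [0]) .nil))))))))) (.nd (.nd (.nd (.nd (.nd .nil (.nd (.nd .nil (.nd (.nd (.lf [52]) .nil) .nil)) .nil)) (.nd .nil (.nd .nil (.nd (.nd (.nd (.lf [52]) .nil) .nil) .nil)))) .nil) (.nd (.nd (.nd .nil (.nd (.nd .nil (.nd (.nd (.lf [20]) .nil) .nil)) .nil)) (.nd (.nd .nil (.nd (.nd .nil (.nd (.lf [8]) .nil)) .nil)) (.nd .nil (.nd (.nd (.nd (.lf [6]) .nil) .nil) .nil)))) (.nd .nil (.nd (.nd (.nd .nil (.nd .nil (.nd (.lf [8]) .nil))) .nil) .nil)))) (.nd (.nd (.nd (.nd .nil (.nd (.nd (.nd .nil (.nd (.lf [0]) .nil)) .nil) (.nd .nil (.nd .nil (.nd (.lf [0]) .nil))))) (.nd .nil (.nd .nil (.nd (.nd (.nd (.lf [214]) .nil) .nil) .nil)))) (.nd (.nd .nil (.nd (.nd (.nd (.nd .nil (.lf [1057])) .nil) .nil) .nil)) .nil)) (.nd (.nd .nil (.nd .nil (.nd .nil (.nd (.nd (.nd (.lf [166]) .nil) .nil) .nil)))) (.nd .nil (.nd .nil (.nd (.nd (.nd .nil (.nd (.lf [0]) .nil)) .nil) (.nd .nil (.nd .nil (.nd (.lf [0]) .nil)))))))))) (.nd (.nd (.nd (.nd (.nd .nil (.nd (.nd .nil (.nd (.nd (.nd (.lf [0]) .nil) .nil) .nil)) (.nd .nil (.nd (.nd .nil (.nd (.lf [0]) .nil)) .nil)))) .nil) (.nd (.nd .nil (.nd (.nd .nil (.nd (.nd (.nd (.lf [0]) .nil) .nil) .nil)) (.nd (.nd .nil (.nd .nil (.nd (.lf [0]) .nil))) .nil))) (.nd (.nd .nil (.nd .nil (.nd .nil (.nd .nil (.nd .nil (.lf [124])))))) .nil))) (.nd (.nd (.nd .nil (.nd .nil (.nd (.nd .nil (.nd .nil (.nd (.lf [0]) .nil))) (.nd (.nd .nil (.nd (.lf [0]) .nil)) .nil)))) (.nd .nil (.nd .nil (.nd (.nd (.nd .nil (.nd (.lf [0]) .nil)) .nil) (.nd .nil (.nd .nil (.nd (.lf [0]) .nil))))))) (.nd (.nd (.nd .nil (.nd (.nd (.nd .nil (.nd (.lf [0]) .nil)) .nil) (.nd .nil (.nd .nil (.nd (.lf [0]) .nil))))) .nil) (.nd (.nd .nil (.nd (.nd .nil (.nd .nil (.nd (.lf [0]) .nil))) (.nd (.nd .nil (.nd (.lf [0]) .nil)) .nil))) .nil)))) (.nd (.nd (.nd (.nd (.nd .nil (.nd (.nd .nil (.nd (.nd (.lf [52]) .nil) .nil)) .nil)) (.nd (.nd .nil (.nd (.nd .nil (.nd (.lf [56]) .nil)) .nil)) (.nd .nil (.nd (.nd (.nd (.lf [52]) .nil) .nil) .nil)))) (.nd .nil (.nd (.nd (.nd .nil (.nd .nil (.nd (.lf [56]) .nil))) .nil) .nil))) (.nd (.nd (.nd .nil (.nd (.nd .nil (.nd (.nd (.lf [52]) .nil) .nil)) .nil)) (.nd .nil (.nd .nil (.nd (.nd (.nd (.lf [52]) .nil) .nil) .nil)))) .nil)) (.nd (.nd (.nd .nil (.nd .nil (.nd .nil (.nd (.nd (.nd (.lf [214]) .nil) .nil) .nil)))) (.nd .nil (.nd .nil (.nd (.nd (.nd .nil (.nd (.lf [0]) .nil)) .nil) (.nd .nil (.nd .nil (.nd (.lf [0]) .nil))))))) (.nd (.nd (.nd .nil (.nd (.nd (.nd .nil (.nd (.lf [0]) .nil)) .nil) (.nd .nil (.nd .nil (.nd (.lf [0]) .nil))))) (.nd .nil (.nd .nil (.nd (.nd (.nd (.lf [166]) .nil) .nil) .nil)))) (.nd (.nd .nil (.nd .nil (.nd .nil (.nd (.nd .nil (.lf [81])) (.nd .nil (.lf [128])))))) .nil))))))) (.nd (.nd (.nd (.nd .nil (.nd (.nd (.nd (.nd .nil (.nd (.nd (.nd .nil (.nd (.lf [0]) .nil)) .nil) (.nd .nil (.nd (.nd .nil (.lf [1259])) (.nd (.lf [0]) .nil))))) .nil) (.nd (.nd (.nd .nil (.nd (.nd .nil (.nd (.lf [73]) .nil)) .nil)) (.nd .nil (.nd .nil (.nd (.nd (.lf [168]) .nil) .nil)))) .nil)) (.nd (.nd .nil (.nd (.nd .nil (.nd (.nd .nil (.nd (.lf [32]) .nil)) .nil)) .nil)) (.nd (.nd .nil (.nd .nil (.nd .nil (.nd (.nd (.lf [214]) .nil) .nil)))) (.nd .nil (.nd (.nd (.nd .nil (.nd (.lf [0]) .nil)) .nil) (.nd .nil (.nd .nil (.nd (.lf [0]) .nil))))))))) (.nd (.nd (.nd (.nd (.nd (.nd (.nd .nil (.nd (.nd (.lf [0]) .nil) .nil)) .nil) (.nd (.nd .nil (.nd (.nd (.lf [214]) .nil) .nil)) .nil)) .nil) (.nd (.nd .nil (.nd (.nd .nil (.nd .nil (.nd (.lf [0]) .nil))) .nil)) .nil)) (.nd (.nd (.nd (.nd (.nd .nil (.nd (.nd (.lf [0]) .nil) .nil)) .nil) (.nd (.nd .nil (.nd (.nd (.lf [214]) .nil) .nil)) .nil)) .nil) (.nd (.nd .nil (.nd .nil (.nd (.nd .nil (.nd (.lf [0]) .nil)) .nil))) .nil))) (.nd (.nd (.nd (.nd .nil (.nd (.nd (.nd .nil (.nd (.lf [0]) .nil)) .nil) (.nd .nil (.nd (.nd .nil (.lf [1])) (.nd (.lf [0]) .nil))))) .nil) (.nd (.nd .nil (.nd .nil (.nd .nil (.nd (.nd .nil (.lf [1])) .nil)))) .nil)) (.nd .nil (.nd .nil (.nd .nil (.nd (.nd (.nd .nil (.nd (.lf [0]) .nil)) .nil) (.nd .nil (.nd .nil (.nd (.lf [0]) .nil)))))))))) (.nd (.nd (.nd .nil (.nd (.nd (.nd .nil (.nd (.nd (.nd (.nd .nil (.lf [27])) .nil) .nil) (.nd (.nd (.nd .nil (.lf [7])) .nil) .nil))) .nil) (.nd (.nd .nil (.nd (.nd .nil (.nd (.nd .nil (.lf [27])) .nil)) (.nd .nil (.nd (.nd .nil (.lf [30])) .nil)))) .nil))) (.nd (.nd (.nd .nil (.nd (.nd .nil (.nd (.nd .nil (.nd (.lf [48]) .nil)) .nil)) .nil)) (.nd (.nd .nil (.nd .nil (.nd .nil (.nd (.nd (.lf [168]) .nil) (.nd .nil (.lf [33])))))) (.nd .nil (.nd (.nd (.nd .nil (.nd (.lf [0]) .nil)) .nil) (.nd .nil (.nd .nil (.nd (.lf [0]) .nil))))))) (.nd (.nd (.nd .nil (.nd (.nd (.nd (.nd .nil (.lf [29])) (.nd (.lf [0]) .nil)) .nil) (.nd .nil (.nd .nil (.nd (.lf [0]) .nil))))) .nil) (.nd (.nd (.nd .nil (.nd (.nd .nil (.nd (.lf [73]) .nil)) .nil)) (.nd .nil (.nd .nil (.nd (.nd (.lf [203]) .nil) .nil)))) .nil)))) (.nd (.nd (.nd (.nd (.nd (.nd (.nd .nil (.nd (.nd (.lf [0]) .nil) .nil)) .nil) (.nd (.nd .nil (.nd (.nd (.lf [133]) .nil) .nil)) .nil)) .nil) (.nd (.nd .nil (.nd .nil (.nd (.nd .nil (.nd (.lf [0]) .nil)) (.nd .nil (.nd .nil (.lf [42])))))) .nil)) (.nd (.nd (.nd (.nd (.nd .nil (.nd (.nd (.lf [0]) .nil) .nil)) .nil) (.nd (.nd (.nd (.nd .nil (.lf [1])) .nil) (.nd (.nd (.lf [8]) .nil) .nil)) .nil)) .nil) (.nd (.nd .nil (.nd (.nd .nil (.nd .nil (.nd (.lf [0]) .nil))) .nil)) .nil))) (.nd (.nd .nil (.nd .nil (.nd .nil (.nd (.nd (.nd .nil (.nd (.lf [0]) .nil)) .nil) (.nd .nil (.nd .nil (.nd (.lf [0]) .nil))))))) (.nd (.nd (.nd .nil (.nd (.nd (.nd (.nd .nil (.lf [1])) (.nd (.lf [0]) .nil)) .nil) (.nd .nil (.nd .nil (.nd (.lf [0]) .nil))))) .nil) (.nd (.nd .nil (.nd (.nd (.nd (.nd .nil (.lf [1])) .nil) .nil) .nil)) .nil)))))) (.nd (.nd (.nd (.nd (.nd (.nd .nil (.nd .nil (.nd (.nd .nil (.nd .nil (.nd (.lf [0]) .nil))) .nil))) (.nd (.nd .nil (.nd .nil (.nd .nil (.nd .nil (.nd .nil (.lf [159])))))) .nil)) (.nd (.nd (.nd (.nd (.nd (.nd .nil (.nd (.lf [17]) .nil)) .nil) .nil) .nil) (.nd .nil (.nd .nil (.nd (.nd .nil (.nd (.lf [0]) .nil)) .nil)))) .nil)) (.nd (.nd (.nd (.nd .nil (.nd (.nd (.nd .nil (.nd (.lf [0]) .nil)) .nil) (.nd .nil (.nd .nil (.nd (.lf [0]) .nil))))) .nil) (.nd (.nd (.nd .nil (.nd (.nd .nil (.nd (.lf [19]) .nil)) .nil)) (.nd (.nd .nil (.nd .nil (.nd (.lf [0]) .nil))) (.nd (.nd .nil (.nd (.lf [0]) .nil)) .nil))) (.nd (.nd (.nd (.nd .nil (.nd (.lf [22]) .nil)) .nil) .nil) .nil))) (.nd (.nd (.nd (.nd (.nd (.nd .nil (.nd (.lf [17]) .nil)) .nil) .nil) .nil) (.nd (.nd .nil (.nd (.nd .nil (.nd (.lf [22]) .nil)) .nil)) (.nd (.nd .nil (.nd .nil (.nd (.lf [0]) .nil))) (.nd (.nd .nil (.nd (.lf [0]) .nil)) .nil)))) (.nd .nil (.nd .nil (.nd (.nd (.nd .nil (.nd (.lf [0]) .nil)) .nil) (.nd .nil (.nd .nil (.nd (.lf [0]) .nil))))))))) (.nd (.nd (.nd (.nd (.nd .nil (.nd (.nd .nil (.nd (.nd (.lf [52]) .nil) .nil)) .nil)) (.nd .nil (.nd .nil (.nd (.nd (.nd (.lf [52]) .nil) .nil) .nil)))) .nil) (.nd (.nd (.nd (.nd (.nd (.nd .nil (.nd (.lf [32]) .nil)) .nil) .nil) (.nd (.nd .nil (.nd (.nd (.lf [52]) .nil) .nil)) .nil)) (.nd .nil (.nd .nil (.nd (.nd (.nd (.lf [52]) .nil) .nil) .nil)))) (.nd (.nd (.nd .nil (.nd .nil (.nd .nil (.nd (.lf [5]) .nil)))) .nil) .nil))) (.nd (.nd (.nd (.nd .nil (.nd (.nd (.nd .nil (.nd (.lf [0]) .nil)) .nil) (.nd .nil (.nd .nil (.nd (.lf [0]) .nil))))) (.nd (.nd .nil (.nd (.nd (.nd (.lf [0]) .nil) .nil) .nil)) (.nd .nil (.nd (.nd (.nd (.lf [22]) .nil) .nil) .nil)))) (.nd (.nd .nil (.nd .nil (.nd .nil (.nd (.nd .nil (.lf [27])) (.nd .nil (.lf [48])))))) (.nd (.nd (.nd (.nd .nil (.nd (.lf [22]) .nil)) .nil) .nil) .nil))) (.nd (.nd (.nd (.nd (.nd (.nd .nil (.nd (.lf [19]) .nil)) .nil) .nil) .nil) (.nd (.nd .nil (.nd (.nd (.nd (.lf [0]) .nil) .nil) .nil)) (.nd .nil (.nd (.nd (.nd (.lf [22]) .nil) .nil) .nil)))) (.nd .nil (.nd .nil (.nd (.nd (.nd .nil (.nd (.lf [0]) .nil)) .nil) (.nd .nil (.nd .nil (.nd (.lf [0]) .nil)))))))))) (.nd (.nd (.nd (.nd (.nd (.nd (.nd (.nd (.nd .nil (.nd (.lf [325]) .nil)) .nil) .nil) .nil) (.nd .nil (.nd .nil (.nd (.nd .nil (.nd (.lf [0]) .nil)) .nil)))) .nil) (.nd (.nd .nil (.nd .nil (.nd (.nd .nil (.nd .nil (.nd (.lf [0]) .nil))) .nil))) (.nd (.nd .nil (.nd .nil (.nd .nil (.nd (.nd .nil (.lf [867])) .nil)))) .nil))) (.nd (.nd (.nd (.nd (.nd (.nd (.nd .nil (.nd (.lf [19]) .nil)) .nil) .nil) .nil) (.nd (.nd .nil (.nd (.nd .nil (.nd (.lf [22]) .nil)) .nil)) (.nd (.nd .nil (.nd .nil (.nd (.lf [0]) .nil))) (.nd (.nd .nil (.nd (.lf [0]) .nil)) .nil)))) (.nd .nil (.nd .nil (.nd (.nd (.nd .nil (.nd (.lf [0]) .nil)) .nil) (.nd .nil (.nd .nil (.nd (.lf [0]) .nil))))))) (.nd (.nd (.nd .nil (.nd (.nd (.nd .nil (.nd (.lf [0]) .nil)) .nil) (.nd .nil (.nd .nil (.nd (.lf [0]) .nil))))) .nil) (.nd (.nd (.nd .nil (.nd (.nd .nil (.nd (.lf [19]) .nil)) .nil)) (.nd (.nd .nil (.nd .nil (.nd (.lf [0]) .nil))) (.nd (.nd .nil (.nd (.lf [0]) .nil)) .nil))) (.nd (.nd (.nd (.nd .nil (.nd (.lf [5]) .nil)) .nil) .nil) .nil))))) (.nd (.nd (.nd (.nd (.nd (.nd (.nd (.nd .nil (.nd (.lf [83]) .nil)) .nil) .nil) (.nd (.nd .nil (.nd (.nd (.lf [52]) .nil) .nil)) .nil)) (.nd .nil (.nd .nil (.nd (.nd (.nd (.lf [52]) .nil) .nil) .nil)))) (.nd (.nd (.nd .nil (.nd .nil (.nd .nil (.nd (.lf [83]) .nil)))) .nil) .nil)) (.nd (.nd (.nd .nil (.nd (.nd .nil (.nd (.nd (.lf [8]) .nil) .nil)) .nil)) (.nd .nil (.nd .nil (.nd (.nd (.nd (.lf [8]) .nil) .nil) .nil)))) .nil)) (.nd (.nd (.nd (.nd (.nd (.nd (.nd .nil (.nd (.lf [19]) .nil)) .nil) .nil) .nil) (.nd (.nd .nil (.nd (.nd (.nd (.lf [0]) .nil) .nil) .nil)) (.nd .nil (.nd (.nd (.nd (.lf [22]) .nil) .nil) .nil)))) (.nd .nil (.nd .nil (.nd (.nd (.nd .nil (.nd (.lf [0]) .nil)) .nil) (.nd .nil (.nd .nil (.nd (.lf [0]) .nil))))))) (.nd (.nd (.nd .nil (.nd (.nd (.nd .nil (.nd (.lf [0]) .nil)) .nil) (.nd .nil (.nd .nil (.nd (.lf [0]) .nil))))) (.nd (.nd .nil (.nd (.nd (.nd (.lf [0]) .nil) .nil) .nil)) (.nd .nil (.nd (.nd (.nd (.lf [22]) .nil) .nil) .nil)))) (.nd (.nd .nil (.nd (.nd (.nd (.nd .nil (.lf [47])) .nil) .nil) .nil)) (.nd (.nd (.nd (.nd .nil (.nd (.lf [22]) .nil)) .nil) .nil) .nil))))))))))) (.nd (.nd (.nd (.nd (.nd (.nd (.nd (.nd (.nd (.nd (.nd (.nd (.nd (.nd .nil (.nd (.lf [51]) .nil)) .nil) .nil) .nil) (.nd (.nd .nil (.nd (.nd (.nd (.lf [0]) .nil) .nil) .nil)) (.nd (.nd .nil (.nd .nil (.nd (.lf [0]) .nil))) .nil))) (.nd .nil (.nd .nil (.nd (.nd (.nd (.nd (.lf [51]) .nil) .nil) .nil) .nil)))) (.nd (.nd .nil (.nd (.nd .nil (.nd (.nd (.nd (.lf [0]) .nil) .nil) .nil)) (.nd .nil (.nd (.nd .nil (.nd (.lf [0]) .nil)) .nil)))) (.nd .nil (.nd .nil (.nd (.nd (.nd (.nd (.lf [93]) .nil) .nil) .nil) .nil))))) (.nd (.nd (.nd (.nd (.nd (.nd (.nd .nil (.nd (.lf [169]) .nil)) .nil) .nil) (.nd (.nd (.nd .nil (.nd (.lf [0]) .nil)) .nil) (.nd .nil (.nd .nil (.nd (.lf [0]) .nil))))) (.nd (.nd .nil (.nd (.nd .nil (.nd (.lf [155]) .nil)) .nil)) .nil)) (.nd (.nd .nil (.nd (.nd .nil (.nd .nil (.nd (.lf [0]) .nil))) (.nd (.nd .nil (.nd (.lf [0]) .nil)) .nil))) .nil)) (.nd (.nd .nil (.nd .nil (.nd (.nd .nil (.nd .nil (.nd (.lf [0]) .nil))) (.nd (.nd .nil (.nd (.lf [0]) .nil)) .nil)))) (.nd (.nd (.nd .nil (.nd (.nd .nil (.nd (.lf [169]) .nil)) .nil)) .nil) (.nd (.nd (.nd (.nd .nil (.nd (.lf [102]) .nil)) .nil) .nil) (.nd (.nd (.nd .nil (.nd (.lf [0]) .nil)) .nil) (.nd .nil (.nd .nil (.nd (.lf [0]) .nil))))))))) (.nd (.nd (.nd (.nd (.nd (.nd (.nd (.nd .nil (.nd (.lf [4]) .nil)) .nil) .nil) .nil) .nil) (.nd (.nd (.nd .nil (.nd .nil (.nd .nil (.nd (.lf [8]) .nil)))) (.nd .nil (.nd .nil (.nd (.nd (.lf [32]) .nil) .nil)))) (.nd .nil (.nd (.nd (.nd (.nd (.lf [32]) .nil) .nil) .nil) .nil)))) (.nd .nil (.nd (.nd .nil (.nd .nil (.nd .nil (.nd (.nd (.lf [52]) .nil) .nil)))) (.nd .nil (.nd (.nd (.nd (.nd (.lf [52]) .nil) .nil) .nil) .nil))))) (.nd (.nd (.nd (.nd (.nd (.nd (.nd .nil (.nd (.lf [4]) .nil)) .nil) .nil) (.nd (.nd (.nd .nil (.nd (.lf [0]) .nil)) .nil) (.nd .nil (.nd .nil (.nd (.lf [0]) .nil))))) .nil) .nil) (.nd .nil (.nd (.nd .nil (.nd .nil (.nd .nil (.nd (.nd .nil (.lf [843])) .nil)))) (.nd (.nd (.nd (.nd .nil (.nd (.lf [512]) .nil)) .nil) .nil) (.nd (.nd (.nd .nil (.nd (.lf [0]) .nil)) .nil) (.nd .nil (.nd .nil (.nd (.lf [0]) .nil)))))))))) (.nd (.nd (.nd (.nd (.nd .nil (.nd (.nd .nil (.nd (.nd (.nd (.lf [0]) .nil) .nil) .nil)) (.nd .nil (.nd (.nd .nil (.nd (.lf [0]) .nil)) .nil)))) (.nd (.nd .nil (.nd .nil (.nd .nil (.nd (.nd .nil (.lf [4])) (.nd .nil (.lf [110])))))) (.nd .nil (.nd (.nd (.nd (.nd (.lf [122]) .nil) .nil) .nil) .nil)))) (.nd (.nd (.nd (.nd (.nd (.nd .nil (.nd (.lf [56]) .nil)) .nil) .nil) .nil) (.nd (.nd .nil (.nd (.nd (.nd (.lf [0]) .nil) .nil) .nil)) (.nd (.nd .nil (.nd .nil (.nd (.lf [0]) .nil))) .nil))) (.nd .nil (.nd .nil (.nd (.nd (.nd (.nd (.lf [93]) .nil) .nil) .nil) .nil))))) (.nd (.nd (.nd .nil (.nd .nil (.nd (.nd .nil (.nd .nil (.nd (.lf [0]) .nil))) (.nd (.nd .nil (.nd (.lf [0]) .nil)) .nil)))) (.nd (.nd (.nd .nil (.nd (.nd .nil (.nd (.lf [169]) .nil)) .nil)) .nil) (.nd (.nd (.nd (.nd .nil (.nd (.lf [157]) .nil)) .nil) .nil) (.nd (.nd (.nd .nil (.nd (.lf [0]) .nil)) .nil) (.nd .nil (.nd .nil (.nd (.lf [0]) .nil))))))) (.nd (.nd (.nd (.nd (.nd (.nd .nil (.nd (.lf [123]) .nil)) .nil) .nil) (.nd (.nd (.nd .nil (.nd (.lf [0]) .nil)) .nil) (.nd .nil (.nd .nil (.nd (.lf [0]) .nil))))) (.nd (.nd .nil (.nd (.nd .nil (.nd (.lf [157]) .nil)) .nil)) .nil)) (.nd (.nd .nil (.nd (.nd .nil (.nd .nil (.nd (.lf [0]) .nil))) (.nd (.nd .nil (.nd (.lf [0]) .nil)) .nil))) .nil)))) (.nd (.nd (.nd .nil (.nd (.nd .nil (.nd .nil (.nd .nil (.nd (.nd (.lf [52]) .nil) .nil)))) (.nd .nil (.nd (.nd (.nd (.nd (.lf [52]) .nil) .nil) .nil) .nil)))) (.nd (.nd (.nd (.nd (.nd (.nd .nil (.nd (.lf [56]) .nil)) .nil) .nil) .nil) .nil) (.nd (.nd (.nd .nil (.nd .nil (.nd .nil (.nd (.lf [56]) .nil)))) (.nd .nil (.nd .nil (.nd (.nd (.lf [52]) .nil) .nil)))) (.nd .nil (.nd (.nd (.nd (.nd (.lf [52]) .nil) .nil) .nil) .nil))))) (.nd (.nd .nil (.nd (.nd .nil (.nd (.nd (.nd (.nd .nil (.lf [1057])) .nil) .nil) (.nd .nil (.nd .nil (.nd .nil (.lf [174])))))) (.nd (.nd (.nd (.nd .nil (.nd (.lf [512]) .nil)) .nil) .nil) (.nd (.nd (.nd .nil (.nd (.lf [0]) .nil)) .nil) (.nd .nil (.nd .nil (.nd (.lf [0]) .nil))))))) (.nd (.nd (.nd (.nd (.nd (.nd .nil (.nd (.lf [118]) .nil)) .nil) .nil) (.nd (.nd (.nd .nil (.nd (.lf [0]) .nil)) .nil) (.nd .nil (.nd .nil (.nd (.lf [0]) .nil))))) .nil) .nil))))) (.nd (.nd (.nd .nil (.nd (.nd (.nd (.nd (.nd (.nd .nil (.nd (.nd (.lf [0]) .nil) .nil)) .nil) (.nd (.nd (.nd .nil (.nd (.lf [0]) .nil)) .nil) (.nd .nil (.nd .nil (.nd (.lf [0]) .nil))))) (.nd (.nd .nil (.nd (.nd .nil (.nd (.lf [187]) .nil)) .nil)) .nil)) (.nd (.nd .nil (.nd .nil (.nd .nil (.nd .nil (.nd .nil (.lf [241])))))) .nil)) (.nd (.nd (.nd (.nd (.nd .nil (.nd (.nd (.lf [0]) .nil) .nil)) .nil) (.nd .nil (.nd .nil (.nd (.nd .nil (.lf [165])) .nil)))) .nil) (.nd (.nd (.nd .nil (.nd (.nd .nil (.nd (.lf [667]) .nil)) .nil)) .nil) (.nd .nil (.nd (.nd (.nd .nil (.nd (.lf [0]) .nil)) .nil) (.nd .nil (.nd .nil (.nd (.lf [0]) .nil))))))))) (.nd (.nd (.nd .nil (.nd (.nd .nil (.nd (.nd .nil (.nd .nil (.nd (.lf [0]) .nil))) (.nd .nil (.nd .nil (.nd .nil (.lf [78])))))) .nil)) (.nd .nil (.nd (.nd .nil (.nd .nil (.nd (.nd .nil (.nd (.lf [0]) .nil)) .nil))) .nil))) (.nd (.nd (.nd (.nd .nil (.nd (.nd (.nd .nil (.nd (.lf [0]) .nil)) .nil) (.nd .nil (.nd .nil (.nd (.lf [0]) .nil))))) .nil) .nil) (.nd (.nd (.nd .nil (.nd .nil (.nd .nil (.nd (.nd .nil (.lf [40])) .nil)))) .nil) (.nd (.nd .nil (.nd .nil (.nd .nil (.nd (.nd .nil (.lf [40])) .nil)))) (.nd .nil (.nd (.nd (.nd .nil (.nd (.lf [0]) .nil)) .nil) (.nd .nil (.nd .nil (.nd (.lf [0]) .nil)))))))))) (.nd (.nd (.nd (.nd (.nd (.nd .nil (.nd (.nd (.nd (.nd .nil (.lf [7])) .nil) .nil) (.nd (.nd (.nd .nil (.lf [11])) .nil) .nil))) .nil) (.nd (.nd .nil (.nd (.nd .nil (.nd (.nd .nil (.lf [53])) .nil)) (.nd .nil (.nd (.nd .nil (.lf [4])) .nil)))) .nil)) .nil) (.nd (.nd (.nd (.nd (.nd (.nd .nil (.nd (.nd (.lf [0]) .nil) .nil)) .nil) (.nd (.nd (.nd (.nd .nil (.lf [109])) .nil) .nil) .nil)) .nil) (.nd (.nd (.nd .nil (.nd (.nd .nil (.nd (.lf [667]) .nil)) .nil)) .nil) (.nd .nil (.nd (.nd (.nd .nil (.nd (.lf [0]) .nil)) .nil) (.nd .nil (.nd .nil (.nd (.lf [0]) .nil))))))) (.nd (.nd (.nd (.nd (.nd .nil (.nd (.nd (.lf [0]) .nil) .nil)) .nil) (.nd (.nd (.nd .nil (.nd (.lf [0]) .nil)) .nil) (.nd .nil (.nd .nil (.nd (.lf [0]) .nil))))) (.nd (.nd .nil (.nd (.nd .nil (.nd (.lf [179]) .nil)) .nil)) .nil)) .nil))) (.nd (.nd (.nd (.nd (.nd .nil (.nd (.nd (.nd (.nd .nil (.lf [577])) .nil) .nil) .nil)) .nil) (.nd (.nd .nil (.nd .nil (.nd (.nd .nil (.nd (.lf [0]) .nil)) .nil))) .nil)) (.nd .nil (.nd (.nd .nil (.nd (.nd .nil (.nd .nil (.nd (.lf [0]) .nil))) .nil)) .nil))) (.nd (.nd (.nd (.nd .nil (.nd (.nd (.nd (.nd .nil (.lf [40])) .nil) .nil) .nil)) .nil) (.nd (.nd .nil (.nd (.nd (.nd (.nd .nil (.lf [40])) .nil) .nil) .nil)) (.nd .nil (.nd (.nd (.nd .nil (.nd (.lf [0]) .nil)) .nil) (.nd .nil (.nd .nil (.nd (.lf [0]) .nil))))))) (.nd (.nd (.nd .nil (.nd (.nd (.nd .nil (.nd (.lf [0]) .nil)) .nil) (.nd .nil (.nd .nil (.nd (.lf [0]) .nil))))) .nil) .nil)))))) (.nd (.nd (.nd (.nd (.nd (.nd (.nd .nil (.nd .nil (.nd (.nd .nil (.nd .nil (.nd (.lf [0]) .nil))) .nil))) (.nd .nil (.nd .nil (.nd (.nd (.nd (.nd (.lf [214]) .nil) .nil) .nil) .nil)))) (.nd (.nd .nil (.nd .nil (.nd .nil (.nd (.nd .nil (.nd (.lf [0]) .nil)) .nil)))) (.nd (.nd .nil (.nd .nil (.nd .nil (.nd (.nd .nil (.lf [7])) (.nd .nil (.lf [48])))))) (.nd .nil (.nd (.nd (.nd (.nd (.lf [93]) .nil) .nil) .nil) .nil))))) (.nd (.nd (.nd (.nd .nil (.nd (.nd (.nd .nil (.nd (.lf [0]) .nil)) .nil) (.nd .nil (.nd .nil (.nd (.lf [0]) .nil))))) .nil) (.nd (.nd .nil (.nd (.nd .nil (.nd .nil (.nd (.lf [0]) .nil))) (.nd (.nd .nil (.nd (.lf [0]) .nil)) .nil))) .nil)) (.nd (.nd .nil (.nd .nil (.nd (.nd .nil (.nd .nil (.nd (.lf [0]) .nil))) (.nd (.nd .nil (.nd (.lf [0]) .nil)) .nil)))) (.nd .nil (.nd .nil (.nd (.nd (.nd .nil (.nd (.lf [0]) .nil)) .nil) (.nd .nil (.nd .nil (.nd (.lf [0]) .nil))))))))) (.nd (.nd (.nd (.nd .nil (.nd (.nd .nil (.nd (.nd .nil (.nd (.lf [32]) .nil)) .nil)) .nil)) (.nd (.nd .nil (.nd .nil (.nd .nil (.nd (.nd (.lf [52]) .nil) .nil)))) (.nd (.nd (.nd .nil (.nd .nil (.nd (.lf [32]) .nil))) .nil) (.nd (.nd (.nd (.nd (.lf [52]) .nil) .nil) .nil) .nil)))) (.nd .nil (.nd (.nd .nil (.nd .nil (.nd .nil (.nd (.nd (.lf [52]) .nil) .nil)))) (.nd .nil (.nd (.nd (.nd (.nd (.lf [52]) .nil) .nil) .nil) .nil))))) (.nd (.nd (.nd (.nd .nil (.nd (.nd (.nd .nil (.nd (.lf [0]) .nil)) .nil) (.nd .nil (.nd .nil (.nd (.lf [0]) .nil))))) (.nd (.nd .nil (.nd (.nd (.nd (.lf [0]) .nil) .nil) .nil)) .nil)) .nil) (.nd (.nd .nil (.nd (.nd .nil (.nd (.nd (.nd (.lf [0]) .nil) .nil) .nil)) .nil)) (.nd (.nd .nil (.nd (.nd (.nd (.nd .nil (.lf [47])) .nil) .nil) (.nd .nil (.nd .nil (.nd .nil (.lf [124])))))) (.nd .nil (.nd (.nd (.nd .nil (.nd (.lf [0]) .nil)) .nil) (.nd .nil (.nd .nil (.nd (.lf [0]) .nil)))))))))) (.nd (.nd (.nd (.nd (.nd .nil (.nd .nil (.nd .nil (.nd (.nd .nil (.nd (.lf [0]) .nil)) .nil)))) (.nd .nil (.nd .nil (.nd (.nd (.nd (.nd (.lf [203]) .nil) .nil) .nil) .nil)))) (.nd (.nd .nil (.nd .nil (.nd (.nd .nil (.nd .nil (.nd (.lf [0]) .nil))) .nil))) (.nd .nil (.nd .nil (.nd (.nd (.nd (.nd (.lf [48]) .nil) .nil) .nil) .nil))))) (.nd (.nd (.nd .nil (.nd .nil (.nd (.nd .nil (.nd .nil (.nd (.lf [0]) .nil))) (.nd (.nd .nil (.nd (.lf [0]) .nil)) .nil)))) (.nd .nil (.nd .nil (.nd (.nd (.nd .nil (.nd (.lf [0]) .nil)) .nil) (.nd .nil (.nd .nil (.nd (.lf [0]) .nil))))))) (.nd (.nd (.nd .nil (.nd (.nd (.nd .nil (.nd (.lf [0]) .nil)) .nil) (.nd .nil (.nd .nil (.nd (.lf [0]) .nil))))) .nil) (.nd (.nd .nil (.nd (.nd .nil (.nd .nil (.nd (.lf [0]) .nil))) (.nd (.nd .nil (.nd (.lf [0]) .nil)) .nil))) .nil)))) (.nd (.nd (.nd .nil (.nd (.nd .nil (.nd .nil (.nd .nil (.nd (.nd (.lf [8]) .nil) .nil)))) (.nd .nil (.nd (.nd (.nd (.nd (.lf [8]) .nil) .nil) .nil) .nil)))) (.nd (.nd .nil (.nd (.nd .nil (.nd (.nd .nil (.nd (.lf [48]) .nil)) .nil)) .nil)) (.nd (.nd .nil (.nd .nil (.nd .nil (.nd (.nd (.lf [52]) .nil) .nil)))) (.nd (.nd (.nd .nil (.nd .nil (.nd (.lf [83]) .nil))) .nil) (.nd (.nd (.nd (.nd (.lf [52]) .nil) .nil) .nil) .nil))))) (.nd (.nd (.nd .nil (.nd (.nd .nil (.nd (.nd (.nd (.lf [0]) .nil) .nil) .nil)) .nil)) (.nd (.nd .nil (.nd .nil (.nd .nil (.nd (.nd .nil (.lf [17])) .nil)))) (.nd .nil (.nd (.nd (.nd .nil (.nd (.lf [0]) .nil)) .nil) (.nd .nil (.nd .nil (.nd (.lf [0]) .nil))))))) (.nd (.nd (.nd .nil (.nd (.nd (.nd .nil (.nd (.lf [0]) .nil)) .nil) (.nd .nil (.nd .nil (.nd (.lf [0]) .nil))))) (.nd (.nd .nil (.nd (.nd (.nd (.lf [0]) .nil) .nil) .nil)) .nil)) .nil))))) (.nd (.nd (.nd (.nd .nil (.nd (.nd (.nd .nil (.nd (.nd (.nd (.nd .nil (.lf [59])) .nil) .nil) (.nd (.nd (.nd .nil (.lf [6])) .nil) .nil))) .nil) (.nd (.nd .nil (.nd (.nd .nil (.nd (.nd .nil (.lf [29])) .nil)) (.nd .nil (.nd (.nd .nil (.lf [7])) .nil)))) .nil))) (.nd (.nd (.nd (.nd .nil (.nd (.nd (.nd .nil (.nd (.lf [0]) .nil)) .nil) (.nd .nil (.nd .nil (.nd (.lf [0]) .nil))))) .nil) .nil) (.nd (.nd (.nd .nil (.nd (.nd (.nd (.nd .nil (.lf [360])) .nil) .nil) .nil)) .nil) (.nd .nil (.nd .nil (.nd (.nd (.nd .nil (.nd (.lf [0]) .nil)) .nil) (.nd .nil (.nd .nil (.nd (.lf [0]) .nil))))))))) (.nd (.nd (.nd (.nd (.nd (.nd (.nd .nil (.nd (.nd (.lf [0]) .nil) .nil)) .nil) .nil) (.nd (.nd .nil (.nd (.nd .nil (.nd (.lf [202]) .nil)) .nil)) .nil)) (.nd (.nd .nil (.nd (.nd .nil (.nd .nil (.nd (.lf [0]) .nil))) .nil)) .nil)) (.nd (.nd (.nd (.nd (.nd .nil (.nd (.nd (.lf [0]) .nil) .nil)) .nil) (.nd (.nd (.nd (.nd .nil (.lf [1])) .nil) .nil) .nil)) .nil) (.nd (.nd .nil (.nd .nil (.nd (.nd .nil (.nd (.lf [0]) .nil)) .nil))) .nil))) (.nd (.nd (.nd (.nd .nil (.nd (.nd (.nd .nil (.nd (.lf [0]) .nil)) .nil) (.nd .nil (.nd .nil (.nd (.lf [0]) .nil))))) .nil) .nil) (.nd (.nd (.nd .nil (.nd (.nd (.nd (.nd .nil (.lf [1])) .nil) .nil) .nil)) .nil) (.nd (.nd .nil (.nd (.nd (.nd (.nd .nil (.lf [1])) .nil) .nil) .nil)) (.nd .nil (.nd (.nd (.nd .nil (.nd (.lf [0]) .nil)) .nil) (.nd .nil (.nd .nil (.nd (.lf [0]) .nil)))))))))) (.nd (.nd .nil (.nd (.nd (.nd (.nd .nil (.nd .nil (.nd .nil (.nd (.nd .nil (.lf [1259])) .nil)))) .nil) (.nd .nil (.nd .nil (.nd (.nd (.nd .nil (.nd (.lf [0]) .nil)) .nil) (.nd .nil (.nd .nil (.nd (.lf [0]) .nil))))))) (.nd (.nd (.nd .nil (.nd (.nd (.nd .nil (.nd (.lf [0]) .nil)) .nil) (.nd .nil (.nd .nil (.nd (.lf [0]) .nil))))) .nil) (.nd (.nd .nil (.nd .nil (.nd .nil (.nd .nil (.nd .nil (.lf [42])))))) .nil)))) (.nd (.nd (.nd (.nd (.nd (.nd (.nd .nil (.nd (.nd (.lf [0]) .nil) .nil)) .nil) .nil) .nil) (.nd (.nd .nil (.nd .nil (.nd (.nd .nil (.nd (.lf [0]) .nil)) .nil))) .nil)) (.nd (.nd (.nd (.nd (.nd .nil (.nd (.nd (.lf [0]) .nil) .nil)) .nil) .nil) (.nd (.nd .nil (.nd (.nd .nil (.nd (.lf [48]) .nil)) .nil)) .nil)) (.nd (.nd .nil (.nd (.nd .nil (.nd .nil (.nd (.lf [0]) .nil))) (.nd .nil (.nd .nil (.nd .nil (.lf [147])))))) .nil))) (.nd (.nd (.nd (.nd .nil (.nd .nil (.nd .nil (.nd (.nd .nil (.lf [1])) .nil)))) .nil) (.nd (.nd .nil (.nd .nil (.nd .nil (.nd (.nd .nil (.lf [1])) .nil)))) (.nd .nil (.nd (.nd (.nd .nil (.nd (.lf [0]) .nil)) .nil) (.nd .nil (.nd .nil (.nd (.lf [0]) .nil))))))) (.nd (.nd (.nd .nil (.nd (.nd (.nd .nil (.nd (.lf [0]) .nil)) .nil) (.nd .nil (.nd .nil (.nd (.lf [0]) .nil))))) .nil) .nil))))))) (.nd (.nd (.nd (.nd (.nd (.nd (.nd (.nd (.nd .nil (.nd (.nd (.nd .nil (.nd (.lf [0]) .nil)) .nil) .nil)) (.nd .nil (.nd (.nd .nil (.nd .nil (.nd .nil (.lf [41])))) .nil))) (.nd (.nd .nil (.nd .nil (.nd (.nd .nil (.nd .nil (.lf [75]))) .nil))) (.nd .nil (.nd (.nd (.nd .nil (.nd (.lf [0]) .nil)) .nil) .nil)))) (.nd (.nd .nil (.nd .nil (.nd (.nd .nil (.nd .nil (.nd (.lf [0]) .nil))) .nil))) (.nd (.nd .nil (.nd (.nd .nil (.nd .nil (.nd (.lf [0]) .nil))) .nil)) .nil))) (.nd (.nd (.nd .nil (.nd (.nd .nil (.nd (.nd .nil (.nd (.lf [48]) .nil)) .nil)) (.nd (.nd .nil (.nd .nil (.nd (.lf [0]) .nil))) .nil))) (.nd (.nd .nil (.nd .nil (.nd (.nd .nil (.nd (.lf [0]) (.lf [26]))) (.nd (.nd (.lf [201]) (.lf [867])) .nil)))) .nil)) (.nd .nil (.nd (.nd .nil (.nd .nil (.nd .nil (.nd (.nd (.lf [166]) .nil) .nil)))) .nil)))) (.nd (.nd (.nd (.nd (.nd .nil (.nd (.nd (.nd .nil (.nd (.lf [0]) .nil)) .nil) .nil)) (.nd .nil (.nd (.nd .nil (.nd .nil (.nd .nil (.lf [186])))) .nil))) (.nd (.nd .nil (.nd .nil (.nd (.nd .nil (.nd .nil (.lf [75]))) .nil))) (.nd .nil (.nd (.nd (.nd .nil (.nd (.lf [0]) .nil)) .nil) .nil)))) .nil) (.nd (.nd (.nd .nil (.nd .nil (.nd (.nd (.nd .nil (.nd .nil (.lf [46]))) .nil) .nil))) (.nd (.nd .nil (.nd .nil (.nd (.nd .nil (.nd .nil (.lf [75]))) .nil))) .nil)) .nil))) (.nd (.nd (.nd (.nd (.nd .nil (.nd .nil (.nd (.nd (.nd .nil (.nd .nil (.lf [41]))) (.nd .nil (.nd (.lf [0]) .nil))) .nil))) (.nd (.nd .nil (.nd (.nd .nil (.nd .nil (.nd (.lf [0]) .nil))) (.nd .nil (.nd .nil (.nd .nil (.lf [75])))))) .nil)) (.nd (.nd (.nd .nil (.nd (.nd (.nd .nil (.nd (.lf [0]) .nil)) .nil) .nil)) .nil) (.nd .nil (.nd .nil (.nd (.nd (.nd .nil (.nd (.lf [0]) .nil)) .nil) .nil))))) (.nd (.nd (.nd .nil (.nd .nil (.nd (.nd .nil (.nd .nil (.nd .nil (.lf [186])))) .nil))) (.nd (.nd .nil (.nd (.nd (.nd (.nd .nil (.lf [1243])) .nil) .nil) (.nd .nil (.nd (.nd (.lf [179]) .nil) .nil)))) .nil)) (.nd (.nd .nil (.nd (.nd .nil (.nd (.nd .nil (.nd (.lf [32]) .nil)) .nil)) (.nd (.nd .nil (.nd .nil (.nd (.lf [0]) .nil))) .nil))) (.nd (.nd .nil (.nd .nil (.nd (.nd .nil (.nd (.lf [0]) .nil)) (.nd (.nd (.lf [4]) .nil) .nil)))) .nil)))) (.nd (.nd .nil (.nd (.nd (.nd .nil (.nd (.nd (.nd .nil (.nd (.lf [0]) .nil)) .nil) .nil)) .nil) (.nd (.nd .nil (.nd .nil (.nd .nil (.nd (.nd .nil (.lf [42])) .nil)))) (.nd .nil (.nd (.nd (.nd .nil (.nd (.lf [0]) .nil)) .nil) .nil))))) (.nd (.nd (.nd .nil (.nd .nil (.nd (.nd .nil (.nd .nil (.nd .nil (.lf [46])))) .nil))) (.nd (.nd .nil (.nd .nil (.nd .nil (.nd .nil (.nd .nil (.lf [48])))))) .nil)) .nil)))) (.nd (.nd (.nd (.nd (.nd (.nd (.nd (.nd (.nd (.nd (.nd (.lf [0]) .nil) .nil) .nil) .nil) (.nd (.nd (.nd .nil (.nd (.lf [0]) .nil)) .nil) .nil)) (.nd .nil (.nd (.nd .nil (.nd .nil (.nd .nil (.lf [186])))) .nil))) (.nd (.nd .nil (.nd .nil (.nd (.nd .nil (.nd .nil (.lf [75]))) .nil))) (.nd .nil (.nd (.nd (.nd .nil (.nd (.lf [0]) .nil)) .nil) .nil)))) (.nd (.nd (.nd (.nd (.nd (.nd (.nd (.lf [0]) .nil) .nil) .nil) .nil) .nil) .nil) .nil)) (.nd (.nd (.nd (.nd (.nd (.nd (.nd (.nd (.lf [0]) .nil) .nil) (.nd (.nd (.lf [0]) .nil) .nil)) .nil) (.nd .nil (.nd (.nd (.nd .nil (.lf [7])) .nil) (.nd (.nd .nil (.lf [1])) .nil)))) (.nd (.nd .nil (.nd (.nd .nil (.nd (.lf [48]) .nil)) (.nd .nil (.nd (.lf [61]) .nil)))) .nil)) (.nd (.nd .nil (.nd .nil (.nd (.nd (.nd .nil (.lf [24])) (.nd .nil (.lf [26]))) (.nd (.nd .nil (.lf [1])) (.nd .nil (.lf [13])))))) (.nd .nil (.nd .nil (.nd (.nd .nil (.nd .nil (.lf [34]))) (.nd .nil (.nd .nil (.lf [2])))))))) (.nd (.nd (.nd (.nd (.nd (.nd (.nd (.lf [0]) .nil) .nil) (.nd (.nd (.lf [0]) .nil) .nil)) .nil) .nil) .nil) .nil))) (.nd (.nd (.nd (.nd (.nd (.nd (.nd (.nd (.nd (.lf [0]) .nil) .nil) .nil) .nil) (.nd (.nd (.nd .nil (.nd (.lf [0]) .nil)) .nil) .nil)) (.nd (.nd .nil (.nd (.nd (.nd (.lf [0]) .nil) .nil) (.nd .nil (.nd (.lf [15]) .nil)))) (.nd (.nd (.nd .nil (.nd .nil (.lf [50]))) (.nd .nil (.nd .nil (.lf [50])))) .nil))) (.nd (.nd (.nd .nil (.nd .nil (.nd .nil (.nd (.lf [8]) .nil)))) (.nd .nil (.nd (.nd .nil (.nd .nil (.lf [3]))) (.nd .nil (.nd .nil (.lf [5])))))) (.nd .nil (.nd (.nd (.nd .nil (.nd (.lf [0]) .nil)) .nil) .nil)))) (.nd (.nd (.nd (.nd (.nd (.nd (.nd (.lf [0]) .nil) .nil) (.nd .nil (.nd (.lf [16]) .nil))) .nil) (.nd (.nd (.nd .nil (.nd .nil (.lf [50]))) (.nd .nil (.nd .nil (.lf [15])))) .nil)) (.nd (.nd .nil (.nd (.nd (.nd (.lf [0]) .nil) .nil) .nil)) (.nd .nil (.nd (.nd .nil (.nd (.lf [0]) .nil)) .nil)))) (.nd (.nd .nil (.nd .nil (.nd (.nd .nil (.nd (.lf [0]) .nil)) .nil))) (.nd (.nd (.nd .nil (.nd .nil (.nd (.lf [3]) .nil))) .nil) (.nd .nil (.nd (.nd .nil (.nd .nil (.lf [37]))) (.nd .nil (.nd .nil (.lf [37]))))))))) (.nd (.nd (.nd (.nd (.nd (.nd (.nd (.nd (.lf [0]) .nil) .nil) .nil) .nil) (.nd .nil (.nd .nil (.nd (.nd .nil (.lf [165])) .nil)))) .nil) (.nd (.nd .nil (.nd .nil (.nd (.nd .nil (.nd .nil (.lf [75]))) .nil))) .nil)) (.nd (.nd (.nd (.nd (.nd (.nd (.nd (.lf [0]) .nil) .nil) .nil) .nil) .nil) (.nd .nil (.nd .nil (.nd (.nd .nil (.nd (.lf [0]) .nil)) .nil)))) (.nd (.nd .nil (.nd (.nd .nil (.nd .nil (.nd (.lf [0]) .nil))) .nil)) .nil))))) (.nd (.nd (.nd (.nd (.nd (.nd (.nd (.nd (.nd (.nd (.lf [0]) .nil) .nil) .nil) .nil) (.nd (.nd (.nd (.nd .nil (.lf [1])) .nil) .nil) .nil)) .nil) .nil) (.nd (.nd (.nd (.nd (.nd (.nd (.nd (.lf [0]) .nil) .nil) .nil) .nil) (.nd (.nd (.nd .nil (.nd (.lf [0]) .nil)) .nil) .nil)) .nil) (.nd .nil (.nd .nil (.nd (.nd (.nd .nil (.nd (.lf [0]) .nil)) .nil) .nil))))) (.nd (.nd (.nd (.nd (.nd (.nd (.nd (.nd (.lf [0]) .nil) .nil) (.nd (.nd (.lf [0]) .nil) .nil)) .nil) (.nd (.nd (.nd (.nd .nil (.lf [1])) (.nd .nil (.lf [21]))) (.nd (.nd .nil (.lf [13])) (.nd .nil (.lf [13])))) .nil)) (.nd .nil (.nd (.nd (.nd .nil (.nd .nil (.lf [21]))) (.nd .nil (.nd .nil (.lf [2])))) .nil))) (.nd (.nd .nil (.nd (.nd (.nd (.nd .nil (.lf [1])) .nil) (.nd (.nd .nil (.lf [30])) .nil)) .nil)) .nil)) (.nd (.nd (.nd (.nd (.nd (.nd (.nd (.lf [0]) .nil) .nil) (.nd (.nd (.lf [0]) .nil) .nil)) .nil) .nil) (.nd (.nd .nil (.nd (.nd .nil (.nd (.lf [518]) .nil)) (.nd .nil (.nd (.lf [419]) .nil)))) .nil)) .nil))) (.nd (.nd (.nd (.nd (.nd (.nd (.nd (.nd (.nd (.lf [0]) .nil) .nil) (.nd .nil (.nd (.lf [3]) .nil))) .nil) (.nd (.nd (.nd (.nd .nil (.lf [185])) .nil) (.nd (.nd .nil (.lf [71])) .nil)) .nil)) (.nd (.nd .nil (.nd (.nd (.nd (.lf [0]) .nil) .nil) .nil)) (.nd .nil (.nd (.nd .nil (.nd (.lf [0]) .nil)) .nil)))) (.nd (.nd .nil (.nd .nil (.nd (.nd .nil (.nd (.lf [0]) .nil)) .nil))) (.nd (.nd (.nd .nil (.nd .nil (.nd (.lf [8]) .nil))) .nil) .nil))) (.nd (.nd (.nd (.nd (.nd (.nd (.nd (.lf [0]) .nil) .nil) .nil) .nil) (.nd (.nd (.nd .nil (.nd (.lf [0]) .nil)) .nil) .nil)) (.nd (.nd .nil (.nd (.nd (.nd (.lf [0]) .nil) .nil) (.nd .nil (.nd (.lf [23]) .nil)))) .nil)) (.nd (.nd (.nd .nil (.nd .nil (.nd .nil (.nd (.lf [15]) .nil)))) (.nd .nil (.nd (.nd (.nd .nil (.lf [196])) .nil) (.nd (.nd .nil (.lf [42])) .nil)))) (.nd .nil (.nd (.nd (.nd .nil (.nd (.lf [0]) .nil)) .nil) .nil))))) (.nd (.nd (.nd (.nd (.nd (.nd (.nd (.nd (.lf [0]) .nil) .nil) .nil) .nil) (.nd (.nd (.nd (.nd .nil (.lf [59])) .nil) .nil) .nil)) (.nd .nil (.nd (.nd .nil (.nd .nil (.nd .nil (.lf [186])))) (.nd (.nd .nil (.nd (.lf [0]) .nil)) .nil)))) (.nd (.nd .nil (.nd (.nd .nil (.nd .nil (.nd (.lf [0]) .nil))) .nil)) .nil)) (.nd (.nd (.nd (.nd (.nd (.nd (.nd (.lf [0]) .nil) .nil) .nil) .nil) .nil) .nil) .nil)))))) (.nd (.nd (.nd (.nd (.nd (.nd (.nd (.nd .nil (.nd (.nd (.nd .nil (.nd (.lf [0]) .nil)) .nil) .nil)) .nil) (.nd .nil (.nd .nil (.nd (.nd (.nd .nil (.nd (.lf [0]) .nil)) .nil) .nil)))) (.nd (.nd .nil (.nd .nil (.nd (.nd (.nd .nil (.nd .nil (.lf [68]))) (.nd .nil (.nd (.lf [0]) .nil))) .nil))) (.nd (.nd .nil (.nd (.nd .nil (.nd .nil (.nd (.lf [0]) .nil))) (.nd .nil (.nd .nil (.nd .nil (.lf [46])))))) .nil))) (.nd (.nd (.nd .nil (.nd (.nd .nil (.nd .nil (.nd (.nd (.lf [0]) .nil) .nil))) (.nd (.nd .nil (.nd .nil (.nd (.lf [0]) .nil))) .nil))) (.nd (.nd .nil (.nd .nil (.nd (.nd .nil (.nd (.lf [0]) .nil)) (.nd (.nd (.lf [62]) .nil) .nil)))) .nil)) (.nd (.nd .nil (.nd (.nd .nil (.nd .nil (.nd (.nd (.lf [0]) .nil) .nil))) (.nd (.nd .nil (.nd .nil (.nd .nil (.lf [68])))) .nil))) (.nd (.nd .nil (.nd (.nd (.nd (.nd .nil (.lf [36])) .nil) .nil) (.nd .nil (.nd (.nd (.lf [214]) .nil) .nil)))) .nil)))) (.nd (.nd (.nd (.nd (.nd .nil (.nd (.nd (.nd .nil (.nd (.lf [0]) .nil)) .nil) .nil)) (.nd (.nd .nil (.nd (.nd .nil (.nd (.lf [187]) .nil)) (.nd (.nd (.lf [0]) .nil) .nil))) .nil)) (.nd (.nd (.nd .nil (.nd (.nd .nil (.nd (.lf [667]) .nil)) .nil)) (.nd .nil (.nd .nil (.nd (.nd .nil (.lf [27])) .nil)))) (.nd .nil (.nd (.nd (.nd .nil (.nd (.lf [0]) .nil)) .nil) .nil)))) (.nd (.nd .nil (.nd (.nd .nil (.nd .nil (.nd (.nd (.lf [0]) .nil) .nil))) .nil)) .nil)) (.nd .nil (.nd (.nd .nil (.nd .nil (.nd (.nd .nil (.nd .nil (.nd .nil (.lf [68])))) .nil))) (.nd (.nd .nil (.nd .nil (.nd .nil (.nd .nil (.nd .nil (.lf [41])))))) .nil))))) (.nd (.nd (.nd (.nd (.nd .nil (.nd .nil (.nd (.nd .nil (.nd .nil (.nd (.lf [0]) .nil))) .nil))) (.nd (.nd .nil (.nd (.nd .nil (.nd .nil (.nd (.lf [0]) .nil))) .nil)) .nil)) (.nd (.nd (.nd .nil (.nd (.nd (.nd .nil (.nd (.lf [0]) .nil)) .nil) .nil)) (.nd .nil (.nd (.nd .nil (.nd .nil (.nd .nil (.lf [68])))) .nil))) (.nd (.nd .nil (.nd .nil (.nd (.nd .nil (.nd .nil (.lf [46]))) .nil))) (.nd .nil (.nd (.nd (.nd .nil (.nd (.lf [0]) .nil)) .nil) .nil))))) (.nd (.nd (.nd .nil (.nd (.nd .nil (.nd .nil (.nd (.nd (.lf [0]) .nil) .nil))) .nil)) (.nd (.nd .nil (.nd .nil (.nd .nil (.nd (.nd (.lf [154]) .nil) .nil)))) .nil)) (.nd (.nd .nil (.nd (.nd .nil (.nd .nil (.nd (.nd (.lf [0]) .nil) .nil))) (.nd (.nd .nil (.nd .nil (.nd (.lf [0]) .nil))) .nil))) (.nd (.nd .nil (.nd .nil (.nd (.nd .nil (.nd (.lf [0]) (.lf [186]))) (.nd (.nd (.lf [32]) (.lf [36])) .nil)))) .nil)))) (.nd (.nd (.nd (.nd .nil (.nd (.nd .nil (.nd .nil (.nd (.nd (.lf [0]) .nil) .nil))) .nil)) .nil) (.nd (.nd (.nd .nil (.nd (.nd (.nd .nil (.nd (.lf [0]) .nil)) .nil) .nil)) (.nd (.nd .nil (.nd (.nd .nil (.nd (.lf [155]) .nil)) (.nd (.nd (.lf [0]) .nil) .nil))) (.nd (.nd .nil (.nd .nil (.nd .nil (.lf [68])))) .nil))) (.nd (.nd (.nd .nil (.nd (.nd .nil (.nd (.lf [667]) .nil)) .nil)) (.nd .nil (.nd (.nd .nil (.nd .nil (.lf [123]))) .nil))) (.nd .nil (.nd (.nd (.nd .nil (.nd (.lf [0]) .nil)) .nil) .nil))))) (.nd .nil (.nd (.nd .nil (.nd .nil (.nd (.nd (.nd .nil (.nd .nil (.lf [68]))) .nil) .nil))) (.nd (.nd .nil (.nd .nil (.nd (.nd .nil (.nd .nil (.lf [41]))) .nil))) .nil)))))) (.nd (.nd (.nd (.nd (.nd (.nd (.nd .nil (.nd (.nd (.nd .nil (.nd (.lf [0]) .nil)) .nil) .nil)) .nil) (.nd .nil (.nd .nil (.nd (.nd (.nd .nil (.nd (.lf [0]) .nil)) .nil) .nil)))) (.nd (.nd (.nd (.nd (.nd (.nd .nil (.nd (.lf [17]) .nil)) .nil) .nil) (.nd (.nd (.nd (.nd .nil (.lf [360])) .nil) .nil) .nil)) .nil) (.nd .nil (.nd (.nd (.nd (.nd .nil (.nd (.lf [479]) .nil)) .nil) .nil) .nil)))) (.nd (.nd (.nd .nil (.nd (.nd .nil (.nd (.nd (.nd (.lf [0]) .nil) .nil) (.nd (.nd (.lf [0]) .nil) .nil))) .nil)) .nil) (.nd (.nd (.nd (.nd (.nd (.nd .nil (.nd (.lf [17]) .nil)) (.nd .nil (.nd (.lf [6]) .nil))) .nil) (.nd (.nd (.nd (.nd .nil (.lf [11])) (.nd .nil (.lf [13]))) (.nd (.nd .nil (.lf [18])) (.nd .nil (.lf [25])))) .nil)) (.nd (.nd .nil (.nd (.nd (.nd (.lf [0]) .nil) .nil) (.nd (.nd (.lf [0]) .nil) .nil))) (.nd (.nd (.nd .nil (.nd .nil (.lf [2]))) (.nd .nil (.nd .nil (.lf [25])))) .nil))) (.nd (.nd .nil (.nd (.nd (.nd (.nd .nil (.lf [18])) .nil) (.nd (.nd .nil (.lf [7])) .nil)) .nil)) .nil)))) (.nd (.nd (.nd (.nd (.nd (.nd (.nd .nil (.nd (.nd (.lf [0]) .nil) .nil)) .nil) (.nd (.nd (.nd .nil (.nd (.lf [0]) .nil)) .nil) .nil)) (.nd (.nd .nil (.nd (.nd .nil (.nd (.lf [52]) .nil)) (.nd (.nd (.lf [0]) .nil) .nil))) .nil)) (.nd (.nd (.nd .nil (.nd (.nd .nil (.nd (.lf [52]) .nil)) .nil)) (.nd .nil (.nd (.nd (.nd .nil (.lf [5])) .nil) (.nd (.nd .nil (.lf [123])) .nil)))) (.nd .nil (.nd (.nd (.nd .nil (.nd (.lf [0]) .nil)) .nil) .nil)))) (.nd (.nd (.nd (.nd (.nd (.nd .nil (.nd (.lf [52]) .nil)) (.nd (.nd (.lf [0]) .nil) .nil)) .nil) (.nd (.nd (.nd (.nd .nil (.lf [128])) .nil) (.nd (.nd .nil (.lf [115])) .nil)) .nil)) (.nd (.nd .nil (.nd .nil (.nd (.nd (.lf [0]) .nil) .nil))) (.nd .nil (.nd (.nd .nil (.nd (.lf [0]) .nil)) .nil)))) (.nd (.nd .nil (.nd .nil (.nd (.nd .nil (.nd (.lf [0]) .nil)) .nil))) (.nd (.nd (.nd (.nd .nil (.nd (.lf [52]) .nil)) .nil) .nil) .nil)))) (.nd .nil (.nd (.nd (.nd (.nd (.nd (.nd .nil (.nd (.lf [118]) .nil)) .nil) .nil) (.nd (.nd (.nd (.nd .nil (.lf [577])) .nil) .nil) .nil)) (.nd .nil (.nd (.nd .nil (.nd .nil (.nd .nil (.lf [68])))) (.nd (.nd .nil (.nd (.lf [0]) .nil)) .nil)))) (.nd (.nd .nil (.nd (.nd .nil (.nd .nil (.nd (.lf [0]) .nil))) .nil)) .nil))))) (.nd (.nd (.nd (.nd (.nd (.nd (.nd (.nd (.nd .nil (.nd (.lf [128]) .nil)) .nil) .nil) .nil) .nil) (.nd .nil (.nd (.nd (.nd (.nd .nil (.nd (.lf [479]) .nil)) .nil) .nil) .nil))) (.nd (.nd (.nd .nil (.nd (.nd (.nd .nil (.nd (.lf [0]) .nil)) .nil) .nil)) (.nd .nil (.nd (.nd .nil (.nd .nil (.nd .nil (.lf [68])))) .nil))) (.nd (.nd .nil (.nd .nil (.nd (.nd .nil (.nd .nil (.lf [186]))) .nil))) (.nd .nil (.nd (.nd (.nd .nil (.nd (.lf [0]) .nil)) .nil) .nil))))) (.nd (.nd (.nd (.nd (.nd (.nd (.nd .nil (.nd (.lf [325]) .nil)) (.nd .nil (.nd (.lf [390]) .nil))) .nil) .nil) (.nd (.nd .nil (.nd (.nd (.nd (.lf [0]) .nil) .nil) (.nd (.nd (.lf [0]) .nil) .nil))) .nil)) .nil) (.nd (.nd (.nd .nil (.nd .nil (.nd (.nd (.nd .nil (.lf [34])) .nil) (.nd (.nd .nil (.lf [13])) .nil)))) (.nd (.nd .nil (.nd (.nd (.nd (.lf [0]) .nil) .nil) (.nd (.nd (.lf [0]) .nil) .nil))) .nil)) (.nd (.nd .nil (.nd .nil (.nd (.nd (.nd .nil (.lf [13])) (.nd .nil (.lf [13]))) (.nd (.nd .nil (.lf [30])) (.nd .nil (.lf [34])))))) (.nd .nil (.nd .nil (.nd (.nd .nil (.nd .nil (.lf [2]))) (.nd .nil (.nd .nil (.lf [26])))))))))) (.nd (.nd (.nd (.nd (.nd (.nd (.nd (.nd .nil (.nd (.lf [52]) .nil)) (.nd (.nd (.lf [0]) .nil) .nil)) .nil) (.nd (.nd (.nd .nil (.nd .nil (.lf [37]))) (.nd .nil (.nd .nil (.lf [37])))) .nil)) (.nd (.nd .nil (.nd .nil (.nd (.nd (.lf [0]) .nil) .nil))) (.nd .nil (.nd (.nd .nil (.nd (.lf [0]) .nil)) .nil)))) (.nd (.nd .nil (.nd .nil (.nd (.nd .nil (.nd (.lf [0]) .nil)) .nil))) (.nd (.nd (.nd (.nd .nil (.nd (.lf [52]) .nil)) .nil) .nil) (.nd .nil (.nd (.nd .nil (.nd .nil (.lf [15]))) (.nd .nil (.nd .nil (.lf [33])))))))) (.nd (.nd (.nd (.nd (.nd .nil (.nd (.nd (.lf [0]) .nil) .nil)) .nil) (.nd (.nd (.nd .nil (.nd (.lf [0]) .nil)) .nil) .nil)) (.nd (.nd .nil (.nd (.nd .nil (.nd (.lf [52]) .nil)) (.nd (.nd (.lf [0]) .nil) .nil))) (.nd (.nd (.nd .nil (.nd .nil (.lf [20]))) (.nd .nil (.nd .nil (.lf [3])))) .nil))) (.nd (.nd (.nd .nil (.nd (.nd .nil (.nd (.lf [52]) .nil)) .nil)) (.nd .nil (.nd (.nd .nil (.nd .nil (.lf [50]))) (.nd .nil (.nd .nil (.lf [50])))))) (.nd .nil (.nd (.nd (.nd .nil (.nd (.lf [0]) .nil)) .nil) .nil))))) (.nd (.nd (.nd (.nd (.nd (.nd (.nd .nil (.nd (.lf [220]) .nil)) .nil) .nil) .nil) (.nd .nil (.nd .nil (.nd (.nd .nil (.nd (.lf [0]) .nil)) .nil)))) (.nd (.nd .nil (.nd (.nd .nil (.nd .nil (.nd (.lf [0]) .nil))) .nil)) .nil)) (.nd (.nd (.nd .nil (.nd .nil (.nd .nil (.nd (.nd .nil (.lf [1259])) .nil)))) .nil) (.nd (.nd .nil (.nd .nil (.nd (.nd .nil (.nd .nil (.lf [185]))) .nil))) .nil))))))))) (.nd (.nd (.nd (.nd (.nd (.nd (.nd (.nd (.nd (.nd (.nd (.nd (.nd .nil (.nd (.lf [51]) .nil)) .nil) .nil) (.nd (.nd .nil (.nd (.nd (.lf [132]) .nil) .nil)) .nil)) .nil) (.nd .nil (.nd .nil (.nd (.nd (.nd (.nd (.lf [8]) .nil) .nil) .nil) .nil)))) (.nd (.nd (.nd .nil (.nd (.nd .nil (.nd (.nd (.lf [139]) .nil) .nil)) .nil)) .nil) (.nd .nil (.nd (.nd (.nd .nil (.nd .nil (.nd (.lf [6]) .nil))) .nil) (.nd (.nd (.nd (.nd (.lf [93]) .nil) .nil) .nil) .nil))))) (.nd (.nd (.nd (.nd (.nd (.nd (.nd .nil (.nd (.lf [236]) .nil)) .nil) .nil) .nil) .nil) (.nd .nil (.nd (.nd (.nd (.nd .nil (.nd (.lf [512]) .nil)) .nil) .nil) .nil))) (.nd (.nd (.nd .nil (.nd (.nd (.nd .nil (.nd (.lf [0]) .nil)) .nil) .nil)) (.nd .nil (.nd (.nd (.nd .nil (.nd .nil (.lf [95]))) .nil) .nil))) (.nd (.nd .nil (.nd .nil (.nd .nil (.nd .nil (.nd .nil (.lf [146])))))) (.nd .nil (.nd (.nd (.nd .nil (.nd (.lf [0]) .nil)) .nil) .nil)))))) (.nd (.nd (.nd (.nd (.nd (.nd (.nd (.nd .nil (.nd (.lf [4]) .nil)) .nil) .nil) .nil) (.nd (.nd .nil (.nd (.nd (.nd (.lf [0]) .nil) .nil) .nil)) .nil)) (.nd .nil (.nd .nil (.nd (.nd (.nd (.nd (.lf [51]) .nil) .nil) .nil) .nil)))) (.nd (.nd .nil (.nd (.nd .nil (.nd (.nd (.nd (.lf [0]) .nil) .nil) .nil)) (.nd .nil (.nd (.nd .nil (.nd (.lf [0]) .nil)) .nil)))) (.nd (.nd .nil (.nd (.nd .nil (.nd .nil (.nd (.lf [0]) .nil))) (.nd .nil (.nd (.nd .nil (.lf [27])) (.nd .nil (.lf [33])))))) (.nd .nil (.nd (.nd (.nd (.nd (.lf [169]) .nil) .nil) .nil) .nil))))) (.nd (.nd (.nd (.nd (.nd (.nd (.nd .nil (.nd (.lf [4]) .nil)) .nil) .nil) .nil) (.nd (.nd .nil (.nd (.nd .nil (.nd (.lf [73]) .nil)) .nil)) .nil)) (.nd (.nd (.nd .nil (.nd (.nd .nil (.nd (.lf [5]) .nil)) .nil)) .nil) (.nd (.nd (.nd (.nd .nil (.nd (.lf [73]) .nil)) .nil) .nil) .nil))) (.nd (.nd (.nd .nil (.nd (.nd (.nd .nil (.nd (.lf [0]) .nil)) .nil) .nil)) (.nd .nil (.nd .nil (.nd (.nd .nil (.nd (.lf [0]) .nil)) .nil)))) (.nd (.nd .nil (.nd .nil (.nd (.nd .nil (.nd (.lf [0]) .nil)) .nil))) (.nd .nil (.nd (.nd (.nd .nil (.nd (.lf [0]) .nil)) .nil) .nil))))))) (.nd (.nd (.nd (.nd (.nd (.nd .nil (.nd (.nd .nil (.nd (.nd (.lf [8]) .nil) .nil)) .nil)) .nil) (.nd .nil (.nd (.nd (.nd .nil (.nd .nil (.nd (.lf [51]) .nil))) .nil) (.nd (.nd (.nd (.nd (.lf [122]) .nil) .nil) .nil) .nil)))) (.nd (.nd (.nd (.nd (.nd (.nd .nil (.nd (.lf [32]) .nil)) .nil) .nil) (.nd (.nd .nil (.nd (.nd (.lf [139]) .nil) .nil)) .nil)) .nil) (.nd .nil (.nd .nil (.nd (.nd (.nd (.nd (.lf [62]) .nil) .nil) .nil) .nil))))) (.nd (.nd (.nd (.nd .nil (.nd (.nd (.nd .nil (.nd (.lf [0]) .nil)) .nil) .nil)) .nil) (.nd (.nd .nil (.nd .nil (.nd .nil (.nd (.nd .nil (.lf [4])) .nil)))) (.nd .nil (.nd (.nd (.nd .nil (.nd (.lf [0]) .nil)) .nil) .nil)))) (.nd (.nd (.nd (.nd (.nd (.nd .nil (.nd (.lf [123]) .nil)) .nil) .nil) .nil) .nil) (.nd .nil (.nd (.nd (.nd (.nd .nil (.nd (.lf [512]) .nil)) .nil) .nil) .nil))))) (.nd (.nd (.nd (.nd .nil (.nd (.nd .nil (.nd (.nd (.nd (.lf [0]) .nil) .nil) .nil)) (.nd .nil (.nd (.nd .nil (.nd (.lf [0]) .nil)) .nil)))) (.nd (.nd .nil (.nd (.nd .nil (.nd .nil (.nd (.lf [0]) .nil))) .nil)) (.nd .nil (.nd (.nd (.nd (.nd (.lf [169]) .nil) .nil) .nil) .nil)))) (.nd (.nd (.nd (.nd (.nd (.nd .nil (.nd (.lf [56]) .nil)) .nil) .nil) .nil) (.nd (.nd .nil (.nd (.nd (.nd (.lf [0]) .nil) .nil) .nil)) (.nd (.nd (.nd .nil (.nd .nil (.lf [158]))) .nil) .nil))) (.nd (.nd .nil (.nd (.nd (.nd (.nd .nil (.lf [47])) .nil) .nil) .nil)) (.nd .nil (.nd (.nd (.nd (.nd (.lf [112]) .nil) .nil) .nil) .nil))))) (.nd (.nd (.nd (.nd .nil (.nd (.nd (.nd .nil (.nd (.lf [0]) .nil)) .nil) .nil)) (.nd .nil (.nd .nil (.nd (.nd .nil (.nd (.lf [0]) .nil)) .nil)))) (.nd (.nd .nil (.nd .nil (.nd (.nd .nil (.nd (.lf [0]) .nil)) .nil))) (.nd .nil (.nd (.nd (.nd .nil (.nd (.lf [0]) .nil)) .nil) .nil)))) (.nd (.nd (.nd (.nd (.nd (.nd .nil (.nd (.lf [66]) .nil)) .nil) .nil) .nil) (.nd (.nd .nil (.nd (.nd .nil (.nd (.lf [73]) .nil)) .nil)) .nil)) (.nd (.nd (.nd .nil (.nd (.nd .nil (.nd (.lf [66]) .nil)) .nil)) .nil) (.nd (.nd (.nd (.nd .nil (.nd (.lf [73]) .nil)) .nil) .nil) .nil))))))) (.nd (.nd (.nd (.nd (.nd (.nd (.nd (.nd (.nd .nil (.nd (.nd (.lf [0]) .nil) .nil)) .nil) (.nd (.nd .nil (.nd (.nd (.lf [132]) .nil) .nil)) (.nd .nil (.nd (.nd .nil (.lf [153])) .nil)))) (.nd .nil (.nd (.nd .nil (.nd .nil (.nd (.lf [0]) .nil))) .nil))) (.nd (.nd .nil (.nd .nil (.nd (.nd .nil (.nd (.lf [0]) .nil)) .nil))) .nil)) (.nd (.nd (.nd (.nd (.nd .nil (.nd (.nd (.lf [0]) .nil) .nil)) .nil) (.nd (.nd .nil (.nd (.nd (.lf [214]) .nil) .nil)) .nil)) (.nd .nil (.nd (.nd (.nd .nil (.nd .nil (.lf [103]))) .nil) .nil))) .nil)) (.nd (.nd (.nd (.nd .nil (.nd .nil (.nd (.nd (.nd .nil (.lf [29])) .nil) .nil))) .nil) (.nd (.nd .nil (.nd (.nd .nil (.nd (.nd .nil (.lf [27])) .nil)) .nil)) .nil)) (.nd (.nd (.nd .nil (.nd (.nd (.nd .nil (.nd (.lf [0]) .nil)) .nil) .nil)) (.nd .nil (.nd (.nd .nil (.nd .nil (.nd (.lf [0]) .nil))) .nil))) (.nd (.nd .nil (.nd (.nd .nil (.nd .nil (.nd (.lf [0]) .nil))) .nil)) (.nd .nil (.nd (.nd (.nd .nil (.nd (.lf [0]) .nil)) .nil) .nil)))))) (.nd (.nd (.nd (.nd (.nd .nil (.nd .nil (.nd .nil (.nd (.nd .nil (.lf [47])) .nil)))) .nil) .nil) (.nd .nil (.nd (.nd .nil (.nd .nil (.nd .nil (.nd (.nd .nil (.lf [47])) .nil)))) .nil))) (.nd (.nd (.nd .nil (.nd (.nd .nil (.nd (.nd .nil (.nd (.lf [62]) .nil)) .nil)) .nil)) (.nd (.nd (.nd .nil (.nd (.nd .nil (.nd (.lf [66]) .nil)) .nil)) (.nd .nil (.nd .nil (.nd (.nd (.lf [93]) .nil) .nil)))) .nil)) (.nd (.nd (.nd .nil (.nd (.nd (.nd .nil (.nd (.lf [0]) .nil)) .nil) .nil)) .nil) (.nd (.nd .nil (.nd .nil (.nd .nil (.nd (.nd (.lf [166]) .nil) .nil)))) (.nd .nil (.nd (.nd (.nd .nil (.nd (.lf [0]) .nil)) .nil) .nil))))))) (.nd (.nd (.nd (.nd (.nd (.nd (.nd (.nd .nil (.nd (.nd (.lf [0]) .nil) .nil)) .nil) (.nd (.nd (.nd (.nd .nil (.lf [109])) .nil) (.nd (.nd (.lf [8]) .nil) .nil)) .nil)) .nil) .nil) (.nd (.nd (.nd (.nd (.nd .nil (.nd (.nd (.lf [0]) .nil) .nil)) .nil) (.nd (.nd .nil (.nd (.nd (.lf [160]) .nil) .nil)) .nil)) (.nd .nil (.nd (.nd .nil (.nd .nil (.nd (.lf [0]) .nil))) .nil))) (.nd (.nd .nil (.nd .nil (.nd (.nd .nil (.nd (.lf [0]) .nil)) (.nd .nil (.nd .nil (.lf [158])))))) .nil))) (.nd (.nd (.nd (.nd .nil (.nd (.nd (.nd (.nd .nil (.lf [27])) (.nd (.lf [0]) .nil)) .nil) .nil)) (.nd .nil (.nd (.nd .nil (.nd .nil (.nd (.lf [0]) .nil))) .nil))) (.nd (.nd .nil (.nd (.nd .nil (.nd .nil (.nd (.lf [0]) .nil))) (.nd .nil (.nd (.nd .nil (.lf [4])) .nil)))) (.nd .nil (.nd (.nd (.nd .nil (.nd (.lf [0]) .nil)) .nil) .nil)))) .nil)) (.nd (.nd (.nd (.nd (.nd .nil (.nd (.nd (.nd (.nd .nil (.lf [47])) .nil) .nil) .nil)) .nil) .nil) (.nd .nil (.nd (.nd .nil (.nd (.nd (.nd (.nd .nil (.lf [47])) .nil) .nil) .nil)) .nil))) (.nd (.nd (.nd (.nd .nil (.nd (.nd (.nd (.nd .nil (.lf [53])) (.nd (.lf [0]) .nil)) .nil) .nil)) .nil) (.nd (.nd .nil (.nd .nil (.nd .nil (.nd (.nd (.lf [93]) .nil) .nil)))) (.nd .nil (.nd (.nd (.nd .nil (.nd (.lf [0]) .nil)) .nil) .nil)))) (.nd (.nd .nil (.nd (.nd .nil (.nd (.nd .nil (.nd (.lf [32]) .nil)) .nil)) (.nd (.nd (.nd .nil (.nd .nil (.lf [146]))) .nil) .nil))) (.nd (.nd (.nd .nil (.nd (.nd .nil (.nd (.lf [66]) .nil)) .nil)) (.nd .nil (.nd .nil (.nd (.nd (.lf [166]) .nil) (.nd .nil (.lf [103])))))) .nil))))))) (.nd (.nd (.nd (.nd (.nd (.nd (.nd (.nd .nil (.nd (.nd .nil (.nd (.nd (.lf [139]) .nil) .nil)) .nil)) (.nd (.nd .nil (.nd (.nd .nil (.nd (.lf [8]) .nil)) .nil)) .nil)) (.nd .nil (.nd .nil (.nd (.nd (.nd (.nd (.lf [139]) .nil) .nil) .nil) .nil)))) (.nd (.nd (.nd .nil (.nd (.nd .nil (.nd (.nd (.lf [122]) .nil) .nil)) .nil)) .nil) (.nd (.nd (.nd .nil (.nd .nil (.nd .nil (.nd (.lf [62]) .nil)))) .nil) (.nd .nil (.nd (.nd (.nd (.nd (.lf [5]) .nil) .nil) .nil) .nil))))) (.nd (.nd (.nd .nil (.nd (.nd .nil (.nd (.nd (.nd (.lf [0]) .nil) .nil) .nil)) .nil)) .nil) (.nd (.nd (.nd .nil (.nd (.nd (.nd .nil (.nd (.lf [0]) .nil)) .nil) .nil)) (.nd (.nd .nil (.nd (.nd (.nd (.lf [0]) .nil) .nil) .nil)) .nil)) (.nd (.nd .nil (.nd .nil (.nd .nil (.nd (.nd .nil (.lf [11])) .nil)))) (.nd .nil (.nd (.nd (.nd .nil (.nd (.lf [0]) .nil)) .nil) .nil)))))) (.nd (.nd (.nd (.nd .nil (.nd .nil (.nd (.nd (.nd .nil (.nd .nil (.lf [103]))) .nil) .nil))) (.nd (.nd .nil (.nd (.nd (.nd (.nd .nil (.lf [1057])) .nil) .nil) .nil)) (.nd .nil (.nd (.nd (.nd (.nd (.lf [48]) .nil) .nil) .nil) .nil)))) (.nd (.nd .nil (.nd .nil (.nd .nil (.nd (.nd .nil (.nd (.lf [0]) .nil)) .nil)))) (.nd (.nd .nil (.nd (.nd .nil (.nd .nil (.nd (.lf [0]) .nil))) .nil)) (.nd .nil (.nd (.nd (.nd (.nd (.lf [214]) .nil) .nil) .nil) .nil))))) (.nd .nil (.nd (.nd (.nd .nil (.nd (.nd (.nd .nil (.nd (.lf [0]) .nil)) .nil) .nil)) (.nd .nil (.nd .nil (.nd (.nd .nil (.nd (.lf [0]) .nil)) .nil)))) (.nd (.nd .nil (.nd .nil (.nd (.nd .nil (.nd (.lf [0]) .nil)) .nil))) (.nd .nil (.nd (.nd (.nd .nil (.nd (.lf [0]) .nil)) .nil) .nil))))))) (.nd (.nd (.nd (.nd (.nd (.nd .nil (.nd (.nd .nil (.nd (.nd (.lf [139]) .nil) .nil)) .nil)) .nil) (.nd (.nd (.nd .nil (.nd .nil (.nd .nil (.nd (.lf [8]) .nil)))) .nil) (.nd .nil (.nd (.nd (.nd (.nd (.lf [139]) .nil) .nil) .nil) .nil)))) (.nd (.nd (.nd .nil (.nd (.nd .nil (.nd (.nd (.lf [21]) .nil) .nil)) .nil)) (.nd (.nd .nil (.nd (.nd .nil (.nd (.lf [80]) .nil)) .nil)) .nil)) (.nd .nil (.nd .nil (.nd (.nd (.nd (.nd (.lf [93]) .nil) .nil) .nil) .nil))))) (.nd (.nd (.nd (.nd .nil (.nd (.nd (.nd .nil (.nd (.lf [0]) .nil)) .nil) .nil)) (.nd (.nd .nil (.nd (.nd (.nd (.lf [0]) .nil) .nil) .nil)) (.nd (.nd (.nd .nil (.nd .nil (.lf [146]))) .nil) .nil))) (.nd (.nd .nil (.nd .nil (.nd .nil (.nd .nil (.nd .nil (.lf [33])))))) (.nd .nil (.nd (.nd (.nd .nil (.nd (.lf [0]) .nil)) .nil) .nil)))) (.nd (.nd .nil (.nd (.nd .nil (.nd (.nd (.nd (.lf [0]) .nil) .nil) .nil)) .nil)) .nil))) (.nd (.nd (.nd (.nd .nil (.nd .nil (.nd .nil (.nd (.nd .nil (.nd (.lf [0]) .nil)) .nil)))) (.nd (.nd .nil (.nd (.nd .nil (.nd .nil (.nd (.lf [0]) .nil))) (.nd .nil (.nd (.nd .nil (.lf [17])) (.nd .nil (.lf [48])))))) (.nd .nil (.nd (.nd (.nd (.nd (.lf [214]) .nil) .nil) .nil) .nil)))) (.nd .nil (.nd .nil (.nd .nil (.nd (.nd (.nd (.nd (.lf [214]) .nil) .nil) .nil) .nil))))) (.nd (.nd (.nd (.nd .nil (.nd (.nd (.nd .nil (.nd (.lf [0]) .nil)) .nil) .nil)) (.nd .nil (.nd .nil (.nd (.nd .nil (.nd (.lf [0]) .nil)) .nil)))) (.nd (.nd .nil (.nd .nil (.nd (.nd .nil (.nd (.lf [0]) .nil)) .nil))) (.nd .nil (.nd (.nd (.nd .nil (.nd (.lf [0]) .nil)) .nil) .nil)))) .nil)))) (.nd (.nd (.nd (.nd (.nd (.nd (.nd .nil (.nd (.nd .nil (.nd (.nd (.lf [148]) .nil) .nil)) .nil)) (.nd (.nd .nil (.nd (.nd .nil (.nd (.lf [8]) .nil)) .nil)) (.nd (.nd .nil (.nd .nil (.nd (.lf [0]) .nil))) .nil))) (.nd (.nd .nil (.nd .nil (.nd (.nd .nil (.nd (.lf [0]) .nil)) (.nd .nil (.nd .nil (.lf [95])))))) .nil)) (.nd (.nd (.nd .nil (.nd (.nd (.nd (.nd .nil (.lf [360])) .nil) (.nd (.nd (.lf [118]) .nil) .nil)) .nil)) .nil) .nil)) (.nd .nil (.nd (.nd (.nd .nil (.nd (.nd (.nd (.nd .nil (.lf [7])) (.nd (.lf [0]) .nil)) .nil) .nil)) (.nd .nil (.nd (.nd .nil (.nd .nil (.nd (.lf [0]) .nil))) .nil))) (.nd (.nd .nil (.nd (.nd .nil (.nd .nil (.nd (.lf [0]) .nil))) (.nd .nil (.nd (.nd .nil (.lf [11])) .nil)))) (.nd .nil (.nd (.nd (.nd .nil (.nd (.lf [0]) .nil)) .nil) .nil)))))) (.nd (.nd (.nd .nil (.nd (.nd .nil (.nd (.nd (.nd (.nd .nil (.lf [1])) .nil) .nil) .nil)) .nil)) (.nd (.nd (.nd .nil (.nd (.nd (.nd (.nd .nil (.lf [1])) .nil) .nil) .nil)) .nil) .nil)) (.nd (.nd (.nd (.nd (.nd (.nd .nil (.nd (.nd (.lf [0]) .nil) .nil)) .nil) .nil) (.nd .nil (.nd (.nd (.nd .nil (.nd .nil (.lf [95]))) .nil) .nil))) (.nd (.nd .nil (.nd .nil (.nd .nil (.nd (.nd (.lf [62]) .nil) (.nd .nil (.lf [42])))))) .nil)) (.nd (.nd (.nd (.nd (.nd .nil (.nd (.nd (.lf [0]) .nil) .nil)) .nil) (.nd (.nd (.nd (.nd .nil (.lf [1])) (.nd (.lf [0]) .nil)) .nil) .nil)) .nil) (.nd (.nd .nil (.nd .nil (.nd .nil (.nd (.nd (.lf [73]) .nil) .nil)))) (.nd .nil (.nd (.nd (.nd .nil (.nd (.lf [0]) .nil)) .nil) .nil))))))) (.nd (.nd (.nd (.nd (.nd (.nd .nil (.nd (.nd .nil (.nd (.nd (.lf [159]) .nil) .nil)) .nil)) (.nd .nil (.nd (.nd (.nd .nil (.nd .nil (.lf [158]))) .nil) .nil))) .nil) (.nd (.nd (.nd .nil (.nd (.nd .nil (.nd (.nd (.lf [122]) .nil) .nil)) (.nd .nil (.nd (.nd .nil (.lf [1076])) .nil)))) (.nd (.nd .nil (.nd (.nd .nil (.nd (.lf [107]) .nil)) .nil)) (.nd (.nd .nil (.nd .nil (.nd (.lf [0]) .nil))) .nil))) (.nd (.nd .nil (.nd .nil (.nd (.nd .nil (.nd (.lf [0]) .nil)) .nil))) .nil))) (.nd (.nd (.nd (.nd .nil (.nd (.nd (.nd .nil (.nd (.lf [0]) .nil)) .nil) .nil)) (.nd .nil (.nd (.nd .nil (.nd .nil (.nd (.lf [0]) .nil))) .nil))) (.nd (.nd .nil (.nd (.nd .nil (.nd .nil (.nd (.lf [0]) .nil))) .nil)) (.nd .nil (.nd (.nd (.nd .nil (.nd (.lf [0]) .nil)) .nil) .nil)))) (.nd (.nd (.nd .nil (.nd .nil (.nd (.nd (.nd .nil (.lf [11])) .nil) .nil))) .nil) (.nd (.nd .nil (.nd (.nd .nil (.nd (.nd .nil (.lf [5])) .nil)) .nil)) .nil)))) (.nd (.nd (.nd .nil (.nd (.nd .nil (.nd .nil (.nd .nil (.nd (.nd .nil (.lf [1])) .nil)))) .nil)) (.nd (.nd (.nd .nil (.nd .nil (.nd .nil (.nd (.nd .nil (.lf [1])) .nil)))) .nil) .nil)) (.nd (.nd (.nd (.nd (.nd (.nd .nil (.nd (.nd (.lf [0]) .nil) .nil)) .nil) (.nd (.nd (.nd .nil (.nd (.lf [0]) .nil)) .nil) .nil)) .nil) (.nd (.nd .nil (.nd .nil (.nd .nil (.nd (.nd (.lf [17]) .nil) .nil)))) (.nd .nil (.nd (.nd (.nd .nil (.nd (.lf [0]) .nil)) .nil) .nil)))) (.nd (.nd (.nd (.nd (.nd .nil (.nd (.nd (.lf [0]) .nil) .nil)) .nil) .nil) .nil) (.nd (.nd .nil (.nd .nil (.nd .nil (.nd (.nd (.lf [32]) .nil) .nil)))) .nil)))))))) (.nd (.nd (.nd (.nd (.nd (.nd (.nd (.nd (.nd .nil (.nd (.nd .nil (.nd (.nd (.lf [66]) .nil) .nil)) .nil)) (.nd (.nd .nil (.nd .nil (.nd (.nd (.lf [0]) .nil) .nil))) .nil)) (.nd (.nd .nil (.nd .nil (.nd (.nd .nil (.nd .nil (.lf [303]))) (.nd (.nd .nil (.lf [36])) .nil)))) (.nd .nil (.nd (.nd (.nd .nil (.nd (.lf [0]) .nil)) .nil) (.nd .nil (.nd .nil (.nd (.lf [0]) .nil))))))) (.nd (.nd (.nd .nil (.nd (.nd (.nd .nil (.nd (.lf [0]) .nil)) (.nd (.nd (.lf [66]) .nil) .nil)) (.nd .nil (.nd .nil (.nd (.lf [0]) .nil))))) (.nd (.nd .nil (.nd .nil (.nd (.nd (.lf [0]) .nil) .nil))) .nil)) .nil)) (.nd (.nd .nil (.nd (.nd .nil (.nd .nil (.nd (.nd .nil (.nd .nil (.lf [26]))) .nil))) (.nd .nil (.nd .nil (.nd .nil (.nd .nil (.nd .nil (.lf [78])))))))) (.nd .nil (.nd (.nd .nil (.nd .nil (.nd .nil (.nd .nil (.nd .nil (.lf [48])))))) (.nd .nil (.nd .nil (.nd (.nd .nil (.nd .nil (.lf [33]))) .nil))))))) (.nd (.nd (.nd .nil (.nd (.nd .nil (.nd .nil (.nd (.nd .nil (.nd .nil (.lf [78]))) .nil))) (.nd .nil (.nd (.nd (.nd .nil (.nd (.lf [0]) .nil)) .nil) (.nd (.nd .nil (.nd .nil (.lf [173]))) (.nd .nil (.nd (.lf [0]) .nil))))))) (.nd (.nd (.nd .nil (.nd (.nd (.nd .nil (.nd (.lf [0]) .nil)) .nil) (.nd .nil (.nd .nil (.nd (.lf [0]) .nil))))) .nil) (.nd (.nd .nil (.nd .nil (.nd .nil (.nd .nil (.nd .nil (.lf [26])))))) (.nd .nil (.nd .nil (.nd .nil (.nd .nil (.nd .nil (.lf [110]))))))))) (.nd (.nd (.nd .nil (.nd (.nd .nil (.nd (.nd .nil (.nd (.lf [218]) .nil)) (.nd (.nd (.lf [0]) .nil) .nil))) .nil)) (.nd (.nd .nil (.nd (.nd .nil (.nd .nil (.nd (.lf [0]) .nil))) (.nd (.nd .nil (.nd .nil (.lf [199]))) .nil))) .nil)) (.nd (.nd .nil (.nd (.nd .nil (.nd .nil (.nd (.nd (.lf [0]) .nil) .nil))) .nil)) (.nd (.nd .nil (.nd .nil (.nd (.nd .nil (.nd (.lf [0]) .nil)) .nil))) .nil))))) (.nd (.nd (.nd (.nd (.nd (.nd .nil (.nd (.nd (.nd .nil (.nd (.lf [0]) .nil)) (.nd (.nd (.lf [8]) .nil) .nil)) (.nd .nil (.nd .nil (.nd (.lf [0]) .nil))))) (.nd (.nd .nil (.nd .nil (.nd (.nd (.lf [0]) .nil) .nil))) .nil)) .nil) (.nd (.nd (.nd .nil (.nd (.nd .nil (.nd (.nd (.lf [66]) .nil) .nil)) .nil)) (.nd (.nd .nil (.nd .nil (.nd (.nd (.lf [0]) .nil) .nil))) .nil)) (.nd (.nd .nil (.nd (.nd (.nd (.nd .nil (.lf [36])) .nil) .nil) .nil)) (.nd .nil (.nd (.nd (.nd .nil (.nd (.lf [0]) .nil)) .nil) (.nd .nil (.nd .nil (.nd (.lf [0]) .nil)))))))) .nil) (.nd (.nd (.nd (.nd (.nd .nil (.nd (.nd (.nd .nil (.nd (.lf [0]) .nil)) .nil) (.nd .nil (.nd .nil (.nd (.lf [0]) .nil))))) .nil) .nil) (.nd .nil (.nd .nil (.nd .nil (.nd (.nd (.nd .nil (.nd (.lf [0]) .nil)) .nil) (.nd .nil (.nd .nil (.nd (.lf [0]) .nil)))))))) (.nd (.nd (.nd .nil (.nd (.nd .nil (.nd .nil (.nd (.nd (.lf [0]) .nil) .nil))) .nil)) (.nd (.nd .nil (.nd .nil (.nd (.nd .nil (.nd (.lf [0]) .nil)) .nil))) .nil)) (.nd (.nd .nil (.nd (.nd .nil (.nd (.nd .nil (.nd (.lf [48]) .nil)) (.nd (.nd (.lf [0]) .nil) .nil))) .nil)) (.nd (.nd .nil (.nd (.nd .nil (.nd .nil (.nd (.lf [0]) .nil))) (.nd .nil (.nd (.nd .nil (.lf [30])) .nil)))) .nil)))))) (.nd (.nd (.nd (.nd (.nd (.nd (.nd (.nd (.nd (.nd (.nd (.lf [0]) .nil) .nil) (.nd (.nd (.lf [0]) .nil) .nil)) .nil) (.nd (.nd .nil (.nd (.nd (.lf [34]) .nil) .nil)) .nil)) (.nd (.nd .nil (.nd (.nd (.nd (.lf [0]) .nil) .nil) (.nd (.nd (.lf [0]) .nil) .nil))) .nil)) (.nd (.nd .nil (.nd (.nd .nil (.nd (.nd .nil (.lf [7])) (.nd (.lf [0]) .nil))) (.nd (.nd .nil (.nd (.lf [0]) (.lf [208]))) (.nd (.nd (.lf [8]) (.lf [1])) .nil)))) (.nd .nil (.nd (.nd (.nd .nil (.nd (.lf [0]) .nil)) .nil) (.nd .nil (.nd .nil (.nd (.lf [0]) .nil))))))) (.nd (.nd (.nd (.nd (.nd (.nd (.nd (.lf [0]) .nil) .nil) (.nd (.nd (.lf [0]) .nil) .nil)) .nil) (.nd (.nd (.nd .nil (.nd (.lf [0]) (.lf [38]))) (.nd (.nd (.lf [3]) (.lf [15])) .nil)) (.nd .nil (.nd (.nd .nil (.lf [1])) (.nd (.lf [0]) .nil))))) (.nd (.nd .nil (.nd (.nd (.nd (.lf [0]) .nil) .nil) (.nd (.nd (.lf [0]) .nil) .nil))) (.nd (.nd .nil (.nd .nil (.nd (.lf [0]) .nil))) (.nd (.nd .nil (.nd (.lf [0]) .nil)) .nil)))) (.nd (.nd .nil (.nd .nil (.nd .nil (.nd (.nd (.lf [34]) .nil) .nil)))) .nil))) (.nd (.nd (.nd (.nd (.nd (.nd (.nd (.nd (.lf [0]) .nil) .nil) .nil) .nil) .nil) (.nd .nil (.nd (.nd .nil (.nd .nil (.nd (.lf [0]) .nil))) .nil))) (.nd (.nd .nil (.nd .nil (.nd (.nd .nil (.nd .nil (.lf [26]))) .nil))) .nil)) (.nd (.nd (.nd (.nd (.nd (.nd (.nd (.lf [0]) .nil) .nil) .nil) .nil) .nil) (.nd .nil (.nd .nil (.nd (.nd .nil (.nd (.lf [0]) .nil)) .nil)))) .nil))) (.nd (.nd (.nd (.nd (.nd (.nd (.nd (.nd (.nd (.lf [0]) .nil) .nil) .nil) .nil) .nil) .nil) (.nd (.nd .nil (.nd .nil (.nd (.nd .nil (.nd .nil (.lf [41]))) .nil))) (.nd .nil (.nd (.nd (.nd .nil (.nd (.lf [0]) .nil)) .nil) (.nd .nil (.nd .nil (.nd (.lf [0]) .nil))))))) (.nd (.nd (.nd (.nd (.nd (.nd (.nd (.lf [0]) .nil) .nil) .nil) .nil) (.nd (.nd (.nd .nil (.nd (.lf [0]) .nil)) .nil) (.nd .nil (.nd (.nd .nil (.lf [153])) (.nd (.lf [0]) .nil))))) .nil) .nil)) (.nd (.nd (.nd (.nd (.nd (.nd (.nd (.nd (.lf [0]) .nil) .nil) .nil) .nil) .nil) (.nd (.nd .nil (.nd (.nd .nil (.nd (.lf [155]) .nil)) (.nd (.nd (.lf [0]) .nil) .nil))) .nil)) (.nd (.nd .nil (.nd .nil (.nd (.nd (.nd .nil (.lf [208])) (.nd .nil (.lf [123]))) .nil))) .nil)) (.nd (.nd (.nd (.nd (.nd (.nd (.nd (.lf [0]) .nil) .nil) (.nd .nil (.nd (.lf [61]) .nil))) .nil) (.nd (.nd .nil (.nd (.nd .nil (.lf [210])) (.nd .nil (.lf [210])))) .nil)) (.nd (.nd .nil (.nd .nil (.nd (.nd (.lf [0]) .nil) .nil))) .nil)) .nil)))) (.nd (.nd (.nd (.nd (.nd (.nd (.nd (.nd (.nd (.nd (.lf [0]) .nil) .nil) (.nd (.nd (.lf [0]) .nil) .nil)) .nil) (.nd (.nd (.nd (.nd .nil (.lf [1])) (.nd (.lf [0]) .nil)) (.nd (.nd (.lf [8]) .nil) (.nd .nil (.lf [208])))) (.nd (.nd (.nd .nil (.lf [3])) .nil) (.nd .nil (.nd (.lf [0]) .nil))))) (.nd (.nd .nil (.nd (.nd (.nd (.lf [0]) .nil) .nil) (.nd (.nd (.lf [0]) .nil) .nil))) (.nd (.nd .nil (.nd .nil (.nd (.lf [0]) .nil))) (.nd (.nd .nil (.nd (.lf [0]) .nil)) .nil)))) (.nd (.nd .nil (.nd .nil (.nd .nil (.nd (.nd (.lf [34]) .nil) .nil)))) .nil)) (.nd (.nd (.nd (.nd (.nd (.nd (.nd (.lf [0]) .nil) .nil) (.nd (.nd (.lf [0]) .nil) .nil)) .nil) (.nd (.nd .nil (.nd (.nd (.lf [34]) .nil) .nil)) .nil)) (.nd (.nd .nil (.nd (.nd (.nd (.lf [0]) .nil) .nil) (.nd (.nd (.lf [0]) .nil) .nil))) .nil)) (.nd (.nd .nil (.nd (.nd (.nd (.nd .nil (.lf [1])) .nil) (.nd .nil (.nd (.lf [0]) .nil))) (.nd (.nd (.nd .nil (.lf [23])) (.nd (.lf [0]) .nil)) (.nd (.nd (.lf [4]) .nil) (.nd .nil (.lf [42])))))) (.nd .nil (.nd (.nd (.nd .nil (.nd (.lf [0]) .nil)) .nil) (.nd .nil (.nd .nil (.nd (.lf [0]) .nil)))))))) (.nd (.nd (.nd (.nd (.nd (.nd (.nd (.nd (.lf [0]) .nil) .nil) .nil) .nil) (.nd (.nd (.nd (.nd .nil (.lf [1])) .nil) .nil) .nil)) (.nd .nil (.nd .nil (.nd (.nd .nil (.nd (.lf [0]) .nil)) .nil)))) .nil) (.nd (.nd (.nd (.nd (.nd (.nd (.nd (.lf [0]) .nil) .nil) .nil) .nil) .nil) (.nd .nil (.nd (.nd .nil (.nd .nil (.nd (.lf [0]) .nil))) .nil))) .nil))) (.nd (.nd (.nd (.nd (.nd (.nd (.nd (.nd (.nd (.lf [0]) .nil) .nil) .nil) .nil) (.nd (.nd (.nd (.nd .nil (.lf [31])) (.nd (.lf [0]) .nil)) .nil) (.nd .nil (.nd .nil (.nd (.lf [0]) .nil))))) .nil) .nil) (.nd (.nd (.nd (.nd (.nd (.nd (.nd (.lf [0]) .nil) .nil) .nil) .nil) .nil) .nil) (.nd .nil (.nd .nil (.nd (.nd (.nd .nil (.nd (.lf [0]) .nil)) .nil) (.nd .nil (.nd .nil (.nd (.lf [0]) .nil)))))))) (.nd (.nd (.nd (.nd (.nd (.nd (.nd (.nd (.lf [0]) .nil) .nil) (.nd .nil (.nd (.lf [196]) .nil))) .nil) (.nd (.nd (.nd (.nd .nil (.lf [208])) (.nd .nil (.lf [94]))) .nil) .nil)) (.nd (.nd .nil (.nd .nil (.nd (.nd (.lf [0]) .nil) .nil))) .nil)) .nil) (.nd (.nd (.nd (.nd (.nd (.nd (.nd (.lf [0]) .nil) .nil) .nil) .nil) .nil) (.nd (.nd .nil (.nd (.nd .nil (.nd (.lf [48]) .nil)) (.nd (.nd (.lf [0]) .nil) .nil))) .nil)) (.nd (.nd .nil (.nd .nil (.nd .nil (.nd (.nd .nil (.lf [167])) (.nd .nil (.lf [167])))))) .nil))))))) (.nd (.nd (.nd (.nd (.nd (.nd (.nd (.nd .nil (.nd (.nd .nil (.nd (.nd (.lf [160]) .nil) .nil)) .nil)) (.nd (.nd .nil (.nd (.nd .nil (.nd (.lf [8]) .nil)) .nil)) .nil)) (.nd (.nd .nil (.nd (.nd (.nd (.nd .nil (.lf [1243])) .nil) .nil) .nil)) (.nd .nil (.nd (.nd (.nd .nil (.nd (.lf [0]) .nil)) .nil) (.nd .nil (.nd .nil (.nd (.lf [0]) .nil))))))) (.nd (.nd (.nd .nil (.nd (.nd (.nd .nil (.nd (.lf [0]) .nil)) (.nd (.nd (.lf [160]) .nil) .nil)) (.nd .nil (.nd .nil (.nd (.lf [0]) .nil))))) .nil) (.nd (.nd (.nd .nil (.nd (.nd .nil (.nd (.lf [66]) .nil)) .nil)) .nil) .nil))) .nil) (.nd (.nd (.nd .nil (.nd .nil (.nd .nil (.nd (.nd (.nd .nil (.nd (.lf [0]) .nil)) .nil) (.nd .nil (.nd .nil (.nd (.lf [0]) .nil))))))) (.nd (.nd (.nd .nil (.nd (.nd (.nd .nil (.nd (.lf [0]) .nil)) .nil) (.nd .nil (.nd .nil (.nd (.lf [0]) .nil))))) .nil) .nil)) (.nd (.nd .nil (.nd (.nd .nil (.nd (.nd .nil (.nd .nil (.nd (.lf [0]) .nil))) (.nd .nil (.nd (.nd .nil (.lf [843])) .nil)))) .nil)) (.nd .nil (.nd (.nd .nil (.nd .nil (.nd (.nd .nil (.nd (.lf [0]) .nil)) .nil))) .nil))))) (.nd (.nd (.nd (.nd (.nd (.nd .nil (.nd (.nd (.nd .nil (.nd (.lf [0]) .nil)) (.nd (.nd (.lf [123]) .nil) .nil)) (.nd .nil (.nd .nil (.nd (.lf [0]) .nil))))) .nil) (.nd (.nd (.nd .nil (.nd (.nd .nil (.nd (.lf [66]) .nil)) .nil)) .nil) .nil)) (.nd (.nd (.nd .nil (.nd (.nd .nil (.nd (.nd (.lf [175]) .nil) .nil)) .nil)) (.nd (.nd .nil (.nd (.nd .nil (.nd (.lf [73]) .nil)) .nil)) .nil)) (.nd (.nd .nil (.nd .nil (.nd (.nd .nil (.nd .nil (.lf [46]))) (.nd (.nd .nil (.lf [867])) .nil)))) (.nd .nil (.nd (.nd (.nd .nil (.nd (.lf [0]) .nil)) .nil) (.nd .nil (.nd .nil (.nd (.lf [0]) .nil)))))))) (.nd (.nd .nil (.nd (.nd .nil (.nd .nil (.nd .nil (.nd .nil (.nd .nil (.lf [33])))))) (.nd .nil (.nd .nil (.nd (.nd .nil (.nd .nil (.lf [38]))) .nil))))) (.nd .nil (.nd (.nd .nil (.nd .nil (.nd (.nd .nil (.nd .nil (.lf [78]))) .nil))) (.nd .nil (.nd .nil (.nd .nil (.nd .nil (.nd .nil (.lf [26])))))))))) (.nd (.nd (.nd (.nd (.nd .nil (.nd (.nd (.nd .nil (.nd (.lf [0]) .nil)) .nil) (.nd .nil (.nd .nil (.nd (.lf [0]) .nil))))) .nil) (.nd (.nd .nil (.nd .nil (.nd .nil (.nd .nil (.nd .nil (.lf [155])))))) (.nd .nil (.nd .nil (.nd .nil (.nd .nil (.nd .nil (.lf [38])))))))) (.nd .nil (.nd (.nd .nil (.nd .nil (.nd (.nd .nil (.nd .nil (.lf [110]))) .nil))) (.nd .nil (.nd (.nd (.nd .nil (.nd (.lf [0]) .nil)) .nil) (.nd (.nd .nil (.nd .nil (.lf [5]))) (.nd .nil (.nd (.lf [0]) .nil)))))))) (.nd (.nd .nil (.nd (.nd .nil (.nd .nil (.nd (.nd .nil (.nd (.lf [0]) .nil)) .nil))) .nil)) (.nd .nil (.nd (.nd .nil (.nd (.nd .nil (.nd .nil (.nd (.lf [0]) .nil))) (.nd (.nd .nil (.nd .nil (.lf [41]))) .nil))) .nil)))))) (.nd (.nd (.nd (.nd (.nd (.nd (.nd .nil (.nd (.nd .nil (.nd (.nd (.lf [34]) .nil) .nil)) .nil)) (.nd (.nd .nil (.nd (.nd .nil (.nd (.lf [8]) .nil)) (.nd .nil (.nd (.lf [34]) .nil)))) .nil)) (.nd (.nd .nil (.nd (.nd (.nd (.nd .nil (.lf [50])) .nil) (.nd .nil (.nd (.lf [0]) .nil))) (.nd (.nd (.nd .nil (.lf [21])) (.nd (.lf [0]) .nil)) (.nd (.nd (.lf [34]) .nil) (.nd .nil (.lf [118])))))) (.nd (.nd (.nd (.nd .nil (.nd (.lf [34]) .nil)) (.nd .nil (.nd (.lf [8]) .nil))) .nil) (.nd (.nd (.nd .nil (.nd (.lf [0]) .nil)) .nil) (.nd .nil (.nd .nil (.nd (.lf [0]) .nil))))))) (.nd (.nd (.nd (.nd (.nd (.nd .nil (.nd (.lf [6]) .nil)) (.nd .nil (.nd (.lf [34]) .nil))) .nil) (.nd (.nd (.nd (.nd .nil (.lf [50])) (.nd (.lf [0]) .nil)) (.nd (.nd (.lf [34]) .nil) (.nd .nil (.lf [305])))) (.nd (.nd (.nd .nil (.lf [7])) .nil) (.nd .nil (.nd (.lf [0]) .nil))))) (.nd .nil (.nd (.nd .nil (.nd .nil (.nd (.lf [0]) .nil))) (.nd (.nd .nil (.nd (.lf [0]) .nil)) .nil)))) (.nd (.nd (.nd .nil (.nd (.nd .nil (.nd (.lf [18]) .nil)) (.nd .nil (.nd (.lf [34]) .nil)))) (.nd .nil (.nd .nil (.nd (.nd (.lf [34]) .nil) .nil)))) .nil))) (.nd (.nd (.nd .nil (.nd .nil (.nd (.nd .nil (.nd .nil (.nd (.lf [0]) .nil))) .nil))) .nil) (.nd (.nd (.nd (.nd (.nd (.nd .nil (.nd (.lf [17]) .nil)) .nil) .nil) (.nd (.nd (.nd (.nd .nil (.lf [360])) .nil) .nil) .nil)) (.nd .nil (.nd .nil (.nd (.nd .nil (.nd (.lf [0]) .nil)) .nil)))) .nil))) (.nd (.nd (.nd .nil (.nd .nil (.nd (.nd (.nd (.nd .nil (.nd (.lf [479]) .nil)) .nil) .nil) (.nd (.nd (.nd .nil (.nd (.lf [0]) .nil)) .nil) (.nd .nil (.nd .nil (.nd (.lf [0]) .nil))))))) (.nd (.nd (.nd (.nd (.nd (.nd .nil (.nd (.lf [159]) .nil)) .nil) .nil) (.nd (.nd (.nd (.nd .nil (.lf [53])) (.nd (.lf [0]) .nil)) .nil) (.nd .nil (.nd .nil (.nd (.lf [0]) .nil))))) .nil) .nil)) (.nd (.nd (.nd (.nd (.nd (.nd .nil (.nd (.nd (.lf [0]) .nil) .nil)) .nil) .nil) (.nd (.nd .nil (.nd (.nd (.nd (.lf [0]) .nil) .nil) (.nd .nil (.nd (.lf [316]) .nil)))) .nil)) (.nd (.nd .nil (.nd .nil (.nd .nil (.nd (.nd .nil (.lf [123])) (.nd .nil (.lf [159])))))) .nil)) (.nd (.nd (.nd (.nd (.nd (.nd .nil (.nd (.lf [118]) .nil)) (.nd (.nd (.lf [0]) .nil) .nil)) .nil) (.nd (.nd (.nd (.nd .nil (.lf [202])) (.nd .nil (.lf [233]))) .nil) .nil)) (.nd (.nd .nil (.nd (.nd (.nd (.lf [0]) .nil) .nil) .nil)) .nil)) .nil)))) (.nd (.nd (.nd (.nd (.nd (.nd (.nd (.nd (.nd .nil (.nd (.lf [8]) .nil)) (.nd .nil (.nd (.lf [21]) .nil))) .nil) (.nd (.nd (.nd .nil (.nd (.lf [0]) (.lf [125]))) (.nd (.nd (.lf [34]) (.lf [21])) .nil)) (.nd .nil (.nd (.nd .nil (.lf [50])) (.nd (.lf [0]) .nil))))) (.nd .nil (.nd (.nd .nil (.nd .nil (.nd (.lf [0]) .nil))) (.nd (.nd .nil (.nd (.lf [0]) .nil)) .nil)))) (.nd (.nd (.nd .nil (.nd (.nd .nil (.nd (.lf [21]) .nil)) (.nd .nil (.nd (.lf [8]) .nil)))) (.nd .nil (.nd .nil (.nd (.nd (.lf [34]) .nil) .nil)))) .nil)) (.nd (.nd (.nd .nil (.nd (.nd .nil (.nd (.nd (.lf [34]) .nil) .nil)) .nil)) (.nd (.nd .nil (.nd (.nd .nil (.nd (.lf [34]) .nil)) (.nd .nil (.nd (.lf [24]) .nil)))) .nil)) (.nd (.nd .nil (.nd (.nd .nil (.nd (.nd .nil (.lf [25])) (.nd (.lf [0]) .nil))) (.nd (.nd .nil (.nd (.lf [0]) (.lf [304]))) (.nd (.nd (.lf [34]) (.lf [50])) .nil)))) (.nd (.nd (.nd (.nd .nil (.nd (.lf [34]) .nil)) (.nd .nil (.nd (.lf [34]) .nil))) .nil) (.nd (.nd (.nd .nil (.nd (.lf [0]) .nil)) .nil) (.nd .nil (.nd .nil (.nd (.lf [0]) .nil)))))))) (.nd (.nd (.nd (.nd (.nd (.nd (.nd .nil (.nd (.lf [325]) .nil)) .nil) .nil) .nil) (.nd .nil (.nd .nil (.nd (.nd .nil (.nd (.lf [0]) .nil)) .nil)))) .nil) (.nd (.nd .nil (.nd .nil (.nd (.nd .nil (.nd .nil (.nd (.lf [0]) .nil))) .nil))) (.nd (.nd .nil (.nd .nil (.nd (.nd .nil (.nd .nil (.lf [185]))) .nil))) .nil)))) (.nd (.nd (.nd (.nd (.nd (.nd (.nd (.nd .nil (.nd (.lf [253]) .nil)) .nil) .nil) (.nd (.nd (.nd .nil (.nd (.lf [0]) .nil)) .nil) (.nd .nil (.nd (.nd .nil (.lf [1076])) (.nd (.lf [0]) .nil))))) .nil) .nil) (.nd .nil (.nd (.nd .nil (.nd .nil (.nd (.nd .nil (.nd .nil (.lf [202]))) .nil))) (.nd (.nd (.nd (.nd .nil (.nd (.lf [479]) .nil)) .nil) .nil) (.nd (.nd (.nd .nil (.nd (.lf [0]) .nil)) .nil) (.nd .nil (.nd .nil (.nd (.lf [0]) .nil)))))))) (.nd (.nd (.nd (.nd (.nd (.nd (.nd .nil (.nd (.lf [307]) .nil)) (.nd (.nd (.lf [0]) .nil) .nil)) .nil) (.nd (.nd .nil (.nd (.nd .nil (.lf [94])) (.nd .nil (.lf [125])))) .nil)) (.nd (.nd .nil (.nd (.nd (.nd (.lf [0]) .nil) .nil) .nil)) .nil)) .nil) (.nd (.nd (.nd (.nd (.nd .nil (.nd (.nd (.lf [0]) .nil) .nil)) .nil) .nil) (.nd (.nd .nil (.nd (.nd (.nd (.lf [0]) .nil) .nil) (.nd .nil (.nd (.lf [125]) .nil)))) .nil)) (.nd (.nd .nil (.nd .nil (.nd (.nd (.nd .nil (.lf [254])) (.nd .nil (.lf [185]))) .nil))) .nil))))))))))) (.nd (.nd (.nd (.nd (.nd (.nd (.nd (.nd (.nd (.nd (.nd (.nd (.nd (.nd (.nd (.nd (.lf [0]) .nil) .nil) (.nd (.nd (.lf [0]) .nil) .nil)) .nil) (.nd (.nd .nil (.nd (.nd (.lf [34]) .nil) .nil)) .nil)) (.nd (.nd .nil (.nd (.nd (.nd (.lf [0]) .nil) .nil) (.nd (.nd (.lf [0]) .nil) .nil))) .nil)) (.nd (.nd .nil (.nd (.nd .nil (.nd (.nd .nil (.lf [15])) (.nd (.lf [0]) .nil))) (.nd (.nd .nil (.nd (.lf [0]) (.lf [100]))) (.nd (.nd (.lf [3]) (.lf [11])) .nil)))) (.nd .nil (.nd (.nd (.nd .nil (.nd (.lf [0]) .nil)) .nil) (.nd .nil (.nd .nil (.nd (.lf [0]) .nil))))))) (.nd (.nd (.nd (.nd (.nd (.nd (.nd (.lf [0]) .nil) .nil) (.nd (.nd (.lf [0]) .nil) .nil)) .nil) (.nd (.nd (.nd .nil (.nd (.lf [0]) (.lf [419]))) (.nd (.nd (.lf [8]) (.lf [16])) .nil)) (.nd .nil (.nd (.nd .nil (.lf [14])) (.nd (.lf [0]) .nil))))) (.nd (.nd .nil (.nd (.nd (.nd (.lf [0]) .nil) .nil) (.nd (.nd (.lf [0]) .nil) .nil))) (.nd (.nd .nil (.nd .nil (.nd (.lf [0]) .nil))) (.nd (.nd .nil (.nd (.lf [0]) .nil)) .nil)))) (.nd (.nd .nil (.nd .nil (.nd .nil (.nd (.nd (.lf [34]) .nil) .nil)))) .nil))) (.nd (.nd (.nd (.nd (.nd (.nd (.nd (.nd (.lf [0]) .nil) .nil) .nil) .nil) .nil) (.nd .nil (.nd (.nd .nil (.nd .nil (.nd (.lf [0]) .nil))) .nil))) (.nd (.nd .nil (.nd .nil (.nd (.nd .nil (.nd .nil (.lf [41]))) .nil))) .nil)) (.nd (.nd (.nd (.nd (.nd (.nd (.nd (.lf [0]) .nil) .nil) .nil) .nil) .nil) (.nd .nil (.nd .nil (.nd (.nd .nil (.nd (.lf [0]) .nil)) .nil)))) .nil))) (.nd (.nd (.nd (.nd (.nd (.nd (.nd (.nd (.nd (.lf [0]) .nil) .nil) .nil) .nil) .nil) .nil) (.nd (.nd .nil (.nd .nil (.nd (.nd .nil (.nd .nil (.lf [4]))) .nil))) (.nd .nil (.nd (.nd (.nd .nil (.nd (.lf [0]) .nil)) .nil) (.nd .nil (.nd .nil (.nd (.lf [0]) .nil))))))) (.nd (.nd (.nd (.nd (.nd (.nd (.nd (.lf [0]) .nil) .nil) .nil) .nil) (.nd (.nd (.nd .nil (.nd (.lf [0]) .nil)) .nil) (.nd .nil (.nd (.nd .nil (.lf [165])) (.nd (.lf [0]) .nil))))) .nil) .nil)) (.nd (.nd (.nd (.nd (.nd (.nd (.nd (.nd (.lf [0]) .nil) .nil) .nil) .nil) .nil) (.nd (.nd .nil (.nd (.nd .nil (.nd (.lf [42]) .nil)) (.nd (.nd (.lf [0]) .nil) .nil))) .nil)) (.nd (.nd .nil (.nd .nil (.nd (.nd (.nd .nil (.lf [125])) (.nd .nil (.lf [4]))) .nil))) .nil)) (.nd (.nd (.nd (.nd (.nd (.nd (.nd (.lf [0]) .nil) .nil) (.nd .nil (.nd (.lf [210]) .nil))) .nil) (.nd (.nd .nil (.nd (.nd .nil (.lf [61])) (.nd .nil (.lf [61])))) .nil)) (.nd (.nd .nil (.nd .nil (.nd (.nd (.lf [0]) .nil) .nil))) .nil)) .nil)))) (.nd (.nd (.nd (.nd (.nd (.nd (.nd (.nd (.nd (.nd (.lf [0]) .nil) .nil) (.nd (.nd (.lf [0]) .nil) .nil)) .nil) (.nd (.nd (.nd (.nd .nil (.lf [6])) (.nd (.lf [0]) .nil)) (.nd (.nd (.lf [15]) .nil) (.nd .nil (.lf [71])))) (.nd (.nd (.nd .nil (.lf [11])) .nil) (.nd .nil (.nd (.lf [0]) .nil))))) (.nd (.nd .nil (.nd (.nd (.nd (.lf [0]) .nil) .nil) (.nd (.nd (.lf [0]) .nil) .nil))) (.nd (.nd .nil (.nd .nil (.nd (.lf [0]) .nil))) (.nd (.nd .nil (.nd (.lf [0]) .nil)) .nil)))) (.nd (.nd .nil (.nd .nil (.nd .nil (.nd (.nd (.lf [34]) .nil) .nil)))) .nil)) (.nd (.nd (.nd (.nd (.nd (.nd (.nd (.lf [0]) .nil) .nil) (.nd (.nd (.lf [0]) .nil) .nil)) .nil) (.nd (.nd .nil (.nd (.nd (.lf [34]) .nil) .nil)) .nil)) (.nd (.nd .nil (.nd (.nd (.nd (.lf [0]) .nil) .nil) (.nd (.nd (.lf [0]) .nil) .nil))) .nil)) (.nd (.nd .nil (.nd (.nd (.nd (.nd .nil (.lf [3])) .nil) (.nd .nil (.nd (.lf [0]) .nil))) (.nd (.nd (.nd .nil (.lf [3])) (.nd (.lf [0]) .nil)) (.nd (.nd (.lf [8]) .nil) (.nd .nil (.lf [518])))))) (.nd .nil (.nd (.nd (.nd .nil (.nd (.lf [0]) .nil)) .nil) (.nd .nil (.nd .nil (.nd (.lf [0]) .nil)))))))) (.nd (.nd (.nd (.nd (.nd (.nd (.nd (.nd (.lf [0]) .nil) .nil) .nil) .nil) (.nd (.nd (.nd (.nd .nil (.lf [14])) .nil) .nil) .nil)) (.nd .nil (.nd .nil (.nd (.nd .nil (.nd (.lf [0]) .nil)) .nil)))) .nil) (.nd (.nd (.nd (.nd (.nd (.nd (.nd (.lf [0]) .nil) .nil) .nil) .nil) .nil) (.nd .nil (.nd (.nd .nil (.nd .nil (.nd (.lf [0]) .nil))) .nil))) .nil))) (.nd (.nd (.nd (.nd (.nd (.nd (.nd (.nd (.nd (.lf [0]) .nil) .nil) .nil) .nil) (.nd (.nd (.nd (.nd .nil (.lf [59])) (.nd (.lf [0]) .nil)) .nil) (.nd .nil (.nd .nil (.nd (.lf [0]) .nil))))) .nil) .nil) (.nd (.nd (.nd (.nd (.nd (.nd (.nd (.lf [0]) .nil) .nil) .nil) .nil) .nil) .nil) (.nd .nil (.nd .nil (.nd (.nd (.nd .nil (.nd (.lf [0]) .nil)) .nil) (.nd .nil (.nd .nil (.nd (.lf [0]) .nil)))))))) (.nd (.nd (.nd (.nd (.nd (.nd (.nd (.nd (.lf [0]) .nil) .nil) (.nd .nil (.nd (.lf [38]) .nil))) .nil) (.nd (.nd (.nd (.nd .nil (.lf [118])) (.nd .nil (.lf [5]))) .nil) .nil)) (.nd (.nd .nil (.nd .nil (.nd (.nd (.lf [0]) .nil) .nil))) .nil)) .nil) (.nd (.nd (.nd (.nd (.nd (.nd (.nd (.lf [0]) .nil) .nil) .nil) .nil) .nil) (.nd (.nd .nil (.nd (.nd .nil (.nd (.lf [167]) .nil)) (.nd (.nd (.lf [0]) .nil) .nil))) .nil)) (.nd (.nd .nil (.nd .nil (.nd .nil (.nd (.nd .nil (.lf [48])) (.nd .nil (.lf [48])))))) .nil)))))) (.nd (.nd (.nd (.nd (.nd (.nd (.nd .nil (.nd (.nd .nil (.nd (.nd (.lf [73]) .nil) .nil)) .nil)) (.nd (.nd .nil (.nd .nil (.nd (.nd (.lf [0]) .nil) .nil))) .nil)) (.nd (.nd .nil (.nd .nil (.nd (.nd .nil (.nd .nil (.lf [100]))) (.nd (.nd .nil (.lf [11])) .nil)))) (.nd .nil (.nd (.nd (.nd .nil (.nd (.lf [0]) .nil)) .nil) (.nd .nil (.nd .nil (.nd (.lf [0]) .nil))))))) (.nd (.nd (.nd .nil (.nd (.nd (.nd .nil (.nd (.lf [0]) .nil)) (.nd (.nd (.lf [8]) .nil) .nil)) (.nd .nil (.nd .nil (.nd (.lf [0]) .nil))))) (.nd (.nd .nil (.nd .nil (.nd (.nd (.lf [0]) .nil) .nil))) .nil)) .nil)) (.nd (.nd .nil (.nd (.nd .nil (.nd .nil (.nd (.nd .nil (.nd .nil (.lf [84]))) .nil))) (.nd .nil (.nd .nil (.nd .nil (.nd .nil (.nd .nil (.lf [5])))))))) (.nd .nil (.nd (.nd .nil (.nd .nil (.nd .nil (.nd .nil (.nd .nil (.lf [26])))))) (.nd .nil (.nd .nil (.nd (.nd .nil (.nd .nil (.lf [78]))) .nil))))))) (.nd (.nd (.nd .nil (.nd (.nd .nil (.nd .nil (.nd (.nd .nil (.nd .nil (.lf [4]))) .nil))) (.nd .nil (.nd (.nd (.nd .nil (.nd (.lf [0]) .nil)) .nil) (.nd (.nd .nil (.nd .nil (.lf [94]))) (.nd .nil (.nd (.lf [0]) .nil))))))) (.nd (.nd (.nd .nil (.nd (.nd (.nd .nil (.nd (.lf [0]) .nil)) .nil) (.nd .nil (.nd .nil (.nd (.lf [0]) .nil))))) .nil) (.nd (.nd .nil (.nd .nil (.nd .nil (.nd .nil (.nd .nil (.lf [42])))))) (.nd .nil (.nd .nil (.nd .nil (.nd .nil (.nd .nil (.lf [173]))))))))) (.nd (.nd (.nd .nil (.nd (.nd .nil (.nd (.nd .nil (.nd (.lf [42]) .nil)) (.nd (.nd (.lf [0]) .nil) .nil))) .nil)) (.nd (.nd .nil (.nd (.nd .nil (.nd .nil (.nd (.lf [0]) .nil))) (.nd (.nd .nil (.nd .nil (.lf [4]))) .nil))) .nil)) (.nd (.nd .nil (.nd (.nd .nil (.nd .nil (.nd (.nd (.lf [0]) .nil) .nil))) .nil)) (.nd (.nd .nil (.nd .nil (.nd (.nd .nil (.nd (.lf [0]) .nil)) .nil))) .nil))))) (.nd (.nd (.nd (.nd (.nd (.nd .nil (.nd (.nd (.nd .nil (.nd (.lf [0]) .nil)) (.nd (.nd (.lf [73]) .nil) .nil)) (.nd .nil (.nd .nil (.nd (.lf [0]) .nil))))) (.nd (.nd .nil (.nd .nil (.nd (.nd (.lf [0]) .nil) .nil))) .nil)) .nil) (.nd (.nd (.nd .nil (.nd (.nd .nil (.nd (.nd (.lf [73]) .nil) .nil)) .nil)) (.nd (.nd .nil (.nd .nil (.nd (.nd (.lf [0]) .nil) .nil))) .nil)) (.nd (.nd .nil (.nd (.nd (.nd (.nd .nil (.lf [47])) .nil) .nil) .nil)) (.nd .nil (.nd (.nd (.nd .nil (.nd (.lf [0]) .nil)) .nil) (.nd .nil (.nd .nil (.nd (.lf [0]) .nil)))))))) .nil) (.nd (.nd (.nd (.nd (.nd .nil (.nd (.nd (.nd .nil (.nd (.lf [0]) .nil)) .nil) (.nd .nil (.nd .nil (.nd (.lf [0]) .nil))))) .nil) .nil) (.nd .nil (.nd .nil (.nd .nil (.nd (.nd (.nd .nil (.nd (.lf [0]) .nil)) .nil) (.nd .nil (.nd .nil (.nd (.lf [0]) .nil)))))))) (.nd (.nd (.nd .nil (.nd (.nd .nil (.nd .nil (.nd (.nd (.lf [0]) .nil) .nil))) .nil)) (.nd (.nd .nil (.nd .nil (.nd (.nd .nil (.nd (.lf [0]) .nil)) .nil))) .nil)) (.nd (.nd .nil (.nd (.nd .nil (.nd (.nd .nil (.nd (.lf [218]) .nil)) (.nd (.nd (.lf [0]) .nil) .nil))) .nil)) (.nd (.nd .nil (.nd (.nd .nil (.nd .nil (.nd (.lf [0]) .nil))) (.nd .nil (.nd (.nd .nil (.lf [27])) .nil)))) .nil))))))) (.nd (.nd (.nd (.nd (.nd (.nd (.nd (.nd .nil (.nd (.nd .nil (.nd (.nd (.lf [34]) .nil) .nil)) .nil)) (.nd (.nd .nil (.nd (.nd .nil (.nd (.lf [34]) .nil)) (.nd .nil (.nd (.lf [18]) .nil)))) .nil)) (.nd (.nd .nil (.nd (.nd (.nd (.nd .nil (.lf [50])) .nil) (.nd .nil (.nd (.lf [0]) .nil))) (.nd (.nd (.nd .nil (.lf [50])) (.nd (.lf [0]) .nil)) (.nd (.nd (.lf [34]) .nil) (.nd .nil (.lf [208])))))) (.nd (.nd (.nd (.nd .nil (.nd (.lf [34]) .nil)) (.nd .nil (.nd (.lf [34]) .nil))) .nil) (.nd (.nd (.nd .nil (.nd (.lf [0]) .nil)) .nil) (.nd .nil (.nd .nil (.nd (.lf [0]) .nil))))))) (.nd (.nd (.nd (.nd (.nd (.nd .nil (.nd (.lf [8]) .nil)) (.nd .nil (.nd (.lf [25]) .nil))) .nil) (.nd (.nd (.nd (.nd .nil (.lf [29])) (.nd (.lf [0]) .nil)) (.nd (.nd (.lf [34]) .nil) (.nd .nil (.lf [6])))) (.nd (.nd (.nd .nil (.lf [30])) .nil) (.nd .nil (.nd (.lf [0]) .nil))))) (.nd .nil (.nd (.nd .nil (.nd .nil (.nd (.lf [0]) .nil))) (.nd (.nd .nil (.nd (.lf [0]) .nil)) .nil)))) (.nd (.nd (.nd .nil (.nd (.nd .nil (.nd (.lf [25]) .nil)) (.nd .nil (.nd (.lf [8]) .nil)))) (.nd .nil (.nd .nil (.nd (.nd (.lf [34]) .nil) .nil)))) .nil))) (.nd (.nd (.nd .nil (.nd .nil (.nd (.nd .nil (.nd .nil (.nd (.lf [0]) .nil))) .nil))) .nil) (.nd (.nd (.nd (.nd (.nd (.nd .nil (.nd (.lf [304]) .nil)) .nil) .nil) (.nd (.nd (.nd (.nd .nil (.lf [29])) .nil) .nil) .nil)) (.nd .nil (.nd .nil (.nd (.nd .nil (.nd (.lf [0]) .nil)) .nil)))) .nil))) (.nd (.nd (.nd .nil (.nd .nil (.nd (.nd (.nd (.nd .nil (.nd (.lf [512]) .nil)) .nil) .nil) (.nd (.nd (.nd .nil (.nd (.lf [0]) .nil)) .nil) (.nd .nil (.nd .nil (.nd (.lf [0]) .nil))))))) (.nd (.nd (.nd (.nd (.nd (.nd .nil (.nd (.lf [236]) .nil)) .nil) .nil) (.nd (.nd (.nd (.nd .nil (.lf [577])) (.nd (.lf [0]) .nil)) .nil) (.nd .nil (.nd .nil (.nd (.lf [0]) .nil))))) .nil) .nil)) (.nd (.nd (.nd (.nd (.nd (.nd .nil (.nd (.nd (.lf [0]) .nil) .nil)) .nil) .nil) (.nd (.nd .nil (.nd (.nd (.nd (.lf [0]) .nil) .nil) (.nd .nil (.nd (.lf [115]) .nil)))) .nil)) (.nd (.nd .nil (.nd .nil (.nd .nil (.nd (.nd .nil (.lf [4])) (.nd .nil (.lf [118])))))) .nil)) (.nd (.nd (.nd (.nd (.nd (.nd .nil (.nd (.lf [268]) .nil)) (.nd (.nd (.lf [0]) .nil) .nil)) .nil) (.nd (.nd (.nd (.nd .nil (.lf [100])) (.nd .nil (.lf [71]))) .nil) .nil)) (.nd (.nd .nil (.nd (.nd (.nd (.lf [0]) .nil) .nil) .nil)) .nil)) .nil)))) (.nd (.nd (.nd (.nd (.nd (.nd (.nd (.nd (.nd .nil (.nd (.lf [4]) .nil)) (.nd .nil (.nd (.lf [34]) .nil))) .nil) (.nd (.nd (.nd .nil (.nd (.lf [0]) (.lf [208]))) (.nd (.nd (.lf [34]) (.lf [50])) .nil)) (.nd .nil (.nd (.nd .nil (.lf [50])) (.nd (.lf [0]) .nil))))) (.nd .nil (.nd (.nd .nil (.nd .nil (.nd (.lf [0]) .nil))) (.nd (.nd .nil (.nd (.lf [0]) .nil)) .nil)))) (.nd (.nd (.nd .nil (.nd (.nd .nil (.nd (.lf [24]) .nil)) (.nd .nil (.nd (.lf [34]) .nil)))) (.nd .nil (.nd .nil (.nd (.nd (.lf [34]) .nil) .nil)))) .nil)) (.nd (.nd (.nd .nil (.nd (.nd .nil (.nd (.nd (.lf [34]) .nil) .nil)) .nil)) (.nd (.nd .nil (.nd (.nd .nil (.nd (.lf [8]) .nil)) (.nd .nil (.nd (.lf [34]) .nil)))) .nil)) (.nd (.nd .nil (.nd (.nd .nil (.nd (.nd .nil (.lf [30])) (.nd (.lf [0]) .nil))) (.nd (.nd .nil (.nd (.lf [0]) (.lf [17]))) (.nd (.nd (.lf [34]) (.lf [7])) .nil)))) (.nd (.nd (.nd (.nd .nil (.nd (.lf [34]) .nil)) (.nd .nil (.nd (.lf [8]) .nil))) .nil) (.nd (.nd (.nd .nil (.nd (.lf [0]) .nil)) .nil) (.nd .nil (.nd .nil (.nd (.lf [0]) .nil)))))))) (.nd (.nd (.nd (.nd (.nd (.nd (.nd .nil (.nd (.lf [4]) .nil)) .nil) .nil) .nil) (.nd .nil (.nd .nil (.nd (.nd .nil (.nd (.lf [0]) .nil)) .nil)))) .nil) (.nd (.nd .nil (.nd .nil (.nd (.nd .nil (.nd .nil (.nd (.lf [0]) .nil))) .nil))) (.nd (.nd .nil (.nd .nil (.nd (.nd .nil (.nd .nil (.lf [17]))) .nil))) .nil)))) (.nd (.nd (.nd (.nd (.nd (.nd (.nd (.nd .nil (.nd (.lf [147]) .nil)) .nil) .nil) (.nd (.nd (.nd .nil (.nd (.lf [0]) .nil)) .nil) (.nd .nil (.nd (.nd .nil (.lf [1259])) (.nd (.lf [0]) .nil))))) .nil) .nil) (.nd .nil (.nd (.nd .nil (.nd .nil (.nd (.nd .nil (.nd .nil (.lf [216]))) .nil))) (.nd (.nd (.nd (.nd .nil (.nd (.lf [512]) .nil)) .nil) .nil) (.nd (.nd (.nd .nil (.nd (.lf [0]) .nil)) .nil) (.nd .nil (.nd .nil (.nd (.lf [0]) .nil)))))))) (.nd (.nd (.nd (.nd (.nd (.nd (.nd .nil (.nd (.lf [128]) .nil)) (.nd (.nd (.lf [0]) .nil) .nil)) .nil) (.nd (.nd .nil (.nd (.nd .nil (.lf [5])) (.nd .nil (.lf [152])))) .nil)) (.nd (.nd .nil (.nd (.nd (.nd (.lf [0]) .nil) .nil) .nil)) .nil)) .nil) (.nd (.nd (.nd (.nd (.nd .nil (.nd (.nd (.lf [0]) .nil) .nil)) .nil) .nil) (.nd (.nd .nil (.nd (.nd (.nd (.lf [0]) .nil) .nil) (.nd .nil (.nd (.lf [268]) .nil)))) .nil)) (.nd (.nd .nil (.nd .nil (.nd (.nd (.nd .nil (.lf [71])) (.nd .nil (.lf [100]))) .nil))) .nil)))))) (.nd (.nd (.nd (.nd (.nd (.nd (.nd .nil (.nd (.nd .nil (.nd (.nd (.lf [175]) .nil) .nil)) .nil)) (.nd (.nd .nil (.nd (.nd .nil (.nd (.lf [66]) .nil)) .nil)) .nil)) (.nd (.nd .nil (.nd (.nd (.nd (.nd .nil (.lf [1057])) .nil) .nil) .nil)) (.nd .nil (.nd (.nd (.nd .nil (.nd (.lf [0]) .nil)) .nil) (.nd .nil (.nd .nil (.nd (.lf [0]) .nil))))))) (.nd (.nd (.nd .nil (.nd (.nd (.nd .nil (.nd (.lf [0]) .nil)) (.nd (.nd (.lf [133]) .nil) .nil)) (.nd .nil (.nd .nil (.nd (.lf [0]) .nil))))) .nil) (.nd (.nd (.nd .nil (.nd (.nd .nil (.nd (.lf [73]) .nil)) .nil)) .nil) .nil))) .nil) (.nd (.nd (.nd .nil (.nd .nil (.nd .nil (.nd (.nd (.nd .nil (.nd (.lf [0]) .nil)) .nil) (.nd .nil (.nd .nil (.nd (.lf [0]) .nil))))))) (.nd (.nd (.nd .nil (.nd (.nd (.nd .nil (.nd (.lf [0]) .nil)) .nil) (.nd .nil (.nd .nil (.nd (.lf [0]) .nil))))) .nil) .nil)) (.nd (.nd .nil (.nd (.nd .nil (.nd (.nd .nil (.nd .nil (.nd (.lf [0]) .nil))) (.nd .nil (.nd (.nd .nil (.lf [4])) .nil)))) .nil)) (.nd .nil (.nd (.nd .nil (.nd .nil (.nd (.nd .nil (.nd (.lf [0]) .nil)) .nil))) .nil))))) (.nd (.nd (.nd (.nd (.nd (.nd .nil (.nd (.nd (.nd .nil (.nd (.lf [0]) .nil)) (.nd (.nd (.lf [148]) .nil) .nil)) (.nd .nil (.nd .nil (.nd (.lf [0]) .nil))))) .nil) (.nd (.nd (.nd .nil (.nd (.nd .nil (.nd (.lf [73]) .nil)) .nil)) .nil) .nil)) (.nd (.nd (.nd .nil (.nd (.nd .nil (.nd (.nd (.lf [148]) .nil) .nil)) .nil)) (.nd (.nd .nil (.nd (.nd .nil (.nd (.lf [8]) .nil)) .nil)) .nil)) (.nd (.nd .nil (.nd .nil (.nd (.nd .nil (.nd .nil (.lf [17]))) (.nd (.nd .nil (.lf [7])) .nil)))) (.nd .nil (.nd (.nd (.nd .nil (.nd (.lf [0]) .nil)) .nil) (.nd .nil (.nd .nil (.nd (.lf [0]) .nil)))))))) (.nd (.nd .nil (.nd (.nd .nil (.nd .nil (.nd .nil (.nd .nil (.nd .nil (.lf [78])))))) (.nd .nil (.nd .nil (.nd (.nd .nil (.nd .nil (.lf [26]))) .nil))))) (.nd .nil (.nd (.nd .nil (.nd .nil (.nd (.nd .nil (.nd .nil (.lf [17]))) .nil))) (.nd .nil (.nd .nil (.nd .nil (.nd .nil (.nd .nil (.lf [84])))))))))) (.nd (.nd (.nd (.nd (.nd .nil (.nd (.nd (.nd .nil (.nd (.lf [0]) .nil)) .nil) (.nd .nil (.nd .nil (.nd (.lf [0]) .nil))))) .nil) (.nd (.nd .nil (.nd .nil (.nd .nil (.nd .nil (.nd .nil (.lf [110])))))) (.nd .nil (.nd .nil (.nd .nil (.nd .nil (.nd .nil (.lf [26])))))))) (.nd .nil (.nd (.nd .nil (.nd .nil (.nd (.nd .nil (.nd .nil (.lf [173]))) .nil))) (.nd .nil (.nd (.nd (.nd .nil (.nd (.lf [0]) .nil)) .nil) (.nd (.nd .nil (.nd .nil (.lf [78]))) (.nd .nil (.nd (.lf [0]) .nil)))))))) (.nd (.nd .nil (.nd (.nd .nil (.nd .nil (.nd (.nd .nil (.nd (.lf [0]) .nil)) .nil))) .nil)) (.nd .nil (.nd (.nd .nil (.nd (.nd .nil (.nd .nil (.nd (.lf [0]) .nil))) (.nd (.nd .nil (.nd .nil (.lf [46]))) .nil))) .nil)))))))) (.nd (.nd (.nd (.nd (.nd (.nd (.nd (.nd (.nd (.nd (.nd .nil (.nd (.nd (.lf [0]) .nil) .nil)) .nil) (.nd (.nd .nil (.nd (.nd (.lf [148]) .nil) .nil)) (.nd .nil (.nd (.nd .nil (.lf [165])) .nil)))) (.nd .nil (.nd (.nd .nil (.nd .nil (.nd (.lf [0]) .nil))) .nil))) (.nd (.nd .nil (.nd .nil (.nd (.nd .nil (.nd (.lf [0]) .nil)) .nil))) .nil)) (.nd (.nd (.nd (.nd (.nd .nil (.nd (.nd (.lf [0]) .nil) .nil)) .nil) (.nd (.nd .nil (.nd (.nd (.lf [8]) .nil) .nil)) .nil)) (.nd .nil (.nd (.nd (.nd .nil (.nd .nil (.lf [95]))) .nil) .nil))) .nil)) (.nd (.nd (.nd (.nd .nil (.nd .nil (.nd (.nd (.nd .nil (.lf [7])) .nil) .nil))) .nil) (.nd (.nd .nil (.nd (.nd .nil (.nd (.nd .nil (.lf [38])) .nil)) .nil)) .nil)) (.nd (.nd (.nd .nil (.nd (.nd (.nd .nil (.nd (.lf [0]) .nil)) .nil) .nil)) (.nd .nil (.nd (.nd .nil (.nd .nil (.nd (.lf [0]) .nil))) .nil))) (.nd (.nd .nil (.nd (.nd .nil (.nd .nil (.nd (.lf [0]) .nil))) .nil)) (.nd .nil (.nd (.nd (.nd .nil (.nd (.lf [0]) .nil)) .nil) .nil)))))) (.nd (.nd (.nd (.nd (.nd .nil (.nd .nil (.nd .nil (.nd (.nd .nil (.lf [36])) .nil)))) .nil) .nil) (.nd .nil (.nd (.nd .nil (.nd .nil (.nd .nil (.nd (.nd .nil (.lf [36])) .nil)))) .nil))) (.nd (.nd (.nd .nil (.nd (.nd .nil (.nd (.nd .nil (.nd (.lf [32]) .nil)) .nil)) .nil)) (.nd (.nd (.nd .nil (.nd (.nd .nil (.nd (.lf [73]) .nil)) .nil)) (.nd .nil (.nd .nil (.nd (.nd (.lf [154]) .nil) .nil)))) .nil)) (.nd (.nd (.nd .nil (.nd (.nd (.nd .nil (.nd (.lf [0]) .nil)) .nil) .nil)) .nil) (.nd (.nd .nil (.nd .nil (.nd .nil (.nd (.nd (.lf [101]) .nil) .nil)))) (.nd .nil (.nd (.nd (.nd .nil (.nd (.lf [0]) .nil)) .nil) .nil))))))) (.nd (.nd (.nd (.nd (.nd (.nd (.nd (.nd .nil (.nd (.nd (.lf [0]) .nil) .nil)) .nil) (.nd (.nd (.nd (.nd .nil (.lf [57])) .nil) (.nd (.nd (.lf [214]) .nil) .nil)) .nil)) .nil) .nil) (.nd (.nd (.nd (.nd (.nd .nil (.nd (.nd (.lf [0]) .nil) .nil)) .nil) (.nd (.nd .nil (.nd (.nd (.lf [122]) .nil) .nil)) .nil)) (.nd .nil (.nd (.nd .nil (.nd .nil (.nd (.lf [0]) .nil))) .nil))) (.nd (.nd .nil (.nd .nil (.nd (.nd .nil (.nd (.lf [0]) .nil)) (.nd .nil (.nd .nil (.lf [118])))))) .nil))) (.nd (.nd (.nd (.nd .nil (.nd (.nd (.nd (.nd .nil (.lf [57])) (.nd (.lf [0]) .nil)) .nil) .nil)) (.nd .nil (.nd (.nd .nil (.nd .nil (.nd (.lf [0]) .nil))) .nil))) (.nd (.nd .nil (.nd (.nd .nil (.nd .nil (.nd (.lf [0]) .nil))) (.nd .nil (.nd (.nd .nil (.lf [27])) .nil)))) (.nd .nil (.nd (.nd (.nd .nil (.nd (.lf [0]) .nil)) .nil) .nil)))) .nil)) (.nd (.nd (.nd (.nd (.nd .nil (.nd (.nd (.nd (.nd .nil (.lf [36])) .nil) .nil) .nil)) .nil) .nil) (.nd .nil (.nd (.nd .nil (.nd (.nd (.nd (.nd .nil (.lf [36])) .nil) .nil) .nil)) .nil))) (.nd (.nd (.nd (.nd .nil (.nd (.nd (.nd (.nd .nil (.lf [577])) (.nd (.lf [0]) .nil)) .nil) .nil)) .nil) (.nd (.nd .nil (.nd .nil (.nd .nil (.nd (.nd (.lf [154]) .nil) .nil)))) (.nd .nil (.nd (.nd (.nd .nil (.nd (.lf [0]) .nil)) .nil) .nil)))) (.nd (.nd .nil (.nd (.nd .nil (.nd (.nd .nil (.nd (.lf [62]) .nil)) .nil)) (.nd (.nd (.nd .nil (.nd .nil (.lf [158]))) .nil) .nil))) (.nd (.nd (.nd .nil (.nd (.nd .nil (.nd (.lf [73]) .nil)) .nil)) (.nd .nil (.nd .nil (.nd (.nd (.lf [101]) .nil) (.nd .nil (.lf [95])))))) .nil)))))) (.nd (.nd (.nd (.nd (.nd (.nd (.nd (.nd (.nd (.nd .nil (.nd (.lf [32]) .nil)) .nil) .nil) (.nd (.nd .nil (.nd (.nd (.lf [139]) .nil) .nil)) .nil)) .nil) (.nd .nil (.nd .nil (.nd (.nd (.nd (.nd (.lf [62]) .nil) .nil) .nil) .nil)))) (.nd (.nd (.nd .nil (.nd (.nd .nil (.nd (.nd (.lf [8]) .nil) .nil)) .nil)) .nil) (.nd .nil (.nd (.nd (.nd .nil (.nd .nil (.nd (.lf [51]) .nil))) .nil) (.nd (.nd (.nd (.nd (.lf [132]) .nil) .nil) .nil) .nil))))) (.nd (.nd (.nd (.nd (.nd (.nd (.nd .nil (.nd (.lf [133]) .nil)) .nil) .nil) .nil) .nil) (.nd .nil (.nd (.nd (.nd (.nd .nil (.nd (.lf [479]) .nil)) .nil) .nil) .nil))) (.nd (.nd (.nd .nil (.nd (.nd (.nd .nil (.nd (.lf [0]) .nil)) .nil) .nil)) (.nd .nil (.nd (.nd (.nd .nil (.nd .nil (.lf [103]))) .nil) .nil))) (.nd (.nd .nil (.nd .nil (.nd .nil (.nd .nil (.nd .nil (.lf [158])))))) (.nd .nil (.nd (.nd (.nd .nil (.nd (.lf [0]) .nil)) .nil) .nil)))))) (.nd (.nd (.nd (.nd (.nd (.nd (.nd (.nd .nil (.nd (.lf [56]) .nil)) .nil) .nil) .nil) (.nd (.nd .nil (.nd (.nd (.nd (.lf [0]) .nil) .nil) .nil)) .nil)) (.nd .nil (.nd .nil (.nd (.nd (.nd (.nd (.lf [112]) .nil) .nil) .nil) .nil)))) (.nd (.nd .nil (.nd (.nd .nil (.nd (.nd (.nd (.lf [0]) .nil) .nil) .nil)) (.nd .nil (.nd (.nd .nil (.nd (.lf [0]) .nil)) .nil)))) (.nd (.nd .nil (.nd (.nd .nil (.nd .nil (.nd (.lf [0]) .nil))) (.nd .nil (.nd (.nd .nil (.lf [30])) (.nd .nil (.lf [78])))))) (.nd .nil (.nd (.nd (.nd (.nd (.lf [157]) .nil) .nil) .nil) .nil))))) (.nd (.nd (.nd (.nd (.nd (.nd (.nd .nil (.nd (.lf [73]) .nil)) .nil) .nil) .nil) (.nd (.nd .nil (.nd (.nd .nil (.nd (.lf [66]) .nil)) .nil)) .nil)) (.nd (.nd (.nd .nil (.nd (.nd .nil (.nd (.lf [73]) .nil)) .nil)) .nil) (.nd (.nd (.nd (.nd .nil (.nd (.lf [66]) .nil)) .nil) .nil) .nil))) (.nd (.nd (.nd .nil (.nd (.nd (.nd .nil (.nd (.lf [0]) .nil)) .nil) .nil)) (.nd .nil (.nd .nil (.nd (.nd .nil (.nd (.lf [0]) .nil)) .nil)))) (.nd (.nd .nil (.nd .nil (.nd (.nd .nil (.nd (.lf [0]) .nil)) .nil))) (.nd .nil (.nd (.nd (.nd .nil (.nd (.lf [0]) .nil)) .nil) .nil))))))) (.nd (.nd (.nd (.nd (.nd (.nd .nil (.nd (.nd .nil (.nd (.nd (.lf [139]) .nil) .nil)) .nil)) .nil) (.nd .nil (.nd (.nd (.nd .nil (.nd .nil (.nd (.lf [5]) .nil))) .nil) (.nd (.nd (.nd (.nd (.lf [101]) .nil) .nil) .nil) .nil)))) (.nd (.nd (.nd (.nd (.nd (.nd .nil (.nd (.lf [51]) .nil)) .nil) .nil) (.nd (.nd .nil (.nd (.nd (.lf [122]) .nil) .nil)) .nil)) .nil) (.nd .nil (.nd .nil (.nd (.nd (.nd (.nd (.lf [8]) .nil) .nil) .nil) .nil))))) (.nd (.nd (.nd (.nd .nil (.nd (.nd (.nd .nil (.nd (.lf [0]) .nil)) .nil) .nil)) .nil) (.nd (.nd .nil (.nd .nil (.nd .nil (.nd (.nd .nil (.lf [867])) .nil)))) (.nd .nil (.nd (.nd (.nd .nil (.nd (.lf [0]) .nil)) .nil) .nil)))) (.nd (.nd (.nd (.nd (.nd (.nd .nil (.nd (.lf [253]) .nil)) .nil) .nil) .nil) .nil) (.nd .nil (.nd (.nd (.nd (.nd .nil (.nd (.lf [479]) .nil)) .nil) .nil) .nil))))) (.nd (.nd (.nd (.nd .nil (.nd (.nd .nil (.nd (.nd (.nd (.lf [0]) .nil) .nil) .nil)) (.nd .nil (.nd (.nd .nil (.nd (.lf [0]) .nil)) .nil)))) (.nd (.nd .nil (.nd (.nd .nil (.nd .nil (.nd (.lf [0]) .nil))) .nil)) (.nd .nil (.nd (.nd (.nd (.nd (.lf [157]) .nil) .nil) .nil) .nil)))) (.nd (.nd (.nd (.nd (.nd (.nd .nil (.nd (.lf [17]) .nil)) .nil) .nil) .nil) (.nd (.nd .nil (.nd (.nd (.nd (.lf [0]) .nil) .nil) .nil)) (.nd (.nd (.nd .nil (.nd .nil (.lf [146]))) .nil) .nil))) (.nd (.nd .nil (.nd (.nd (.nd (.nd .nil (.lf [36])) .nil) .nil) .nil)) (.nd .nil (.nd (.nd (.nd (.nd (.lf [51]) .nil) .nil) .nil) .nil))))) (.nd (.nd (.nd (.nd .nil (.nd (.nd (.nd .nil (.nd (.lf [0]) .nil)) .nil) .nil)) (.nd .nil (.nd .nil (.nd (.nd .nil (.nd (.lf [0]) .nil)) .nil)))) (.nd (.nd .nil (.nd .nil (.nd (.nd .nil (.nd (.lf [0]) .nil)) .nil))) (.nd .nil (.nd (.nd (.nd .nil (.nd (.lf [0]) .nil)) .nil) .nil)))) (.nd (.nd (.nd (.nd (.nd (.nd .nil (.nd (.lf [17]) .nil)) .nil) .nil) .nil) (.nd (.nd .nil (.nd (.nd .nil (.nd (.lf [66]) .nil)) .nil)) .nil)) (.nd (.nd (.nd .nil (.nd (.nd .nil (.nd (.lf [6]) .nil)) .nil)) .nil) (.nd (.nd (.nd (.nd .nil (.nd (.lf [66]) .nil)) .nil) .nil) .nil)))))))) (.nd (.nd (.nd (.nd (.nd (.nd (.nd (.nd .nil (.nd (.nd .nil (.nd (.nd (.lf [132]) .nil) .nil)) .nil)) (.nd (.nd .nil (.nd (.nd .nil (.nd (.lf [107]) .nil)) .nil)) (.nd (.nd .nil (.nd .nil (.nd (.lf [0]) .nil))) .nil))) (.nd (.nd .nil (.nd .nil (.nd (.nd .nil (.nd (.lf [0]) .nil)) (.nd .nil (.nd .nil (.lf [48])))))) .nil)) (.nd (.nd (.nd .nil (.nd (.nd (.nd (.nd .nil (.lf [29])) .nil) (.nd (.nd (.lf [147]) .nil) .nil)) .nil)) .nil) .nil)) (.nd .nil (.nd (.nd (.nd .nil (.nd (.nd (.nd (.nd .nil (.lf [11])) (.nd (.lf [0]) .nil)) .nil) .nil)) (.nd .nil (.nd (.nd .nil (.nd .nil (.nd (.lf [0]) .nil))) .nil))) (.nd (.nd .nil (.nd (.nd .nil (.nd .nil (.nd (.lf [0]) .nil))) (.nd .nil (.nd (.nd .nil (.lf [31])) .nil)))) (.nd .nil (.nd (.nd (.nd .nil (.nd (.lf [0]) .nil)) .nil) .nil)))))) (.nd (.nd (.nd .nil (.nd (.nd .nil (.nd (.nd (.nd (.nd .nil (.lf [14])) .nil) .nil) .nil)) .nil)) (.nd (.nd (.nd .nil (.nd (.nd (.nd (.nd .nil (.lf [14])) .nil) .nil) .nil)) .nil) .nil)) (.nd (.nd (.nd (.nd (.nd (.nd .nil (.nd (.nd (.lf [0]) .nil) .nil)) .nil) .nil) (.nd .nil (.nd (.nd (.nd .nil (.nd .nil (.lf [103]))) .nil) .nil))) (.nd (.nd .nil (.nd .nil (.nd .nil (.nd (.nd (.lf [32]) .nil) (.nd .nil (.lf [158])))))) .nil)) (.nd (.nd (.nd (.nd (.nd .nil (.nd (.nd (.lf [0]) .nil) .nil)) .nil) (.nd (.nd (.nd (.nd .nil (.lf [14])) (.nd (.lf [0]) .nil)) .nil) .nil)) .nil) (.nd (.nd .nil (.nd .nil (.nd .nil (.nd (.nd (.lf [4]) .nil) .nil)))) (.nd .nil (.nd (.nd (.nd .nil (.nd (.lf [0]) .nil)) .nil) .nil))))))) (.nd (.nd (.nd (.nd (.nd (.nd .nil (.nd (.nd .nil (.nd (.nd (.lf [128]) .nil) .nil)) .nil)) (.nd .nil (.nd (.nd (.nd .nil (.nd .nil (.lf [146]))) .nil) .nil))) .nil) (.nd (.nd (.nd .nil (.nd (.nd .nil (.nd (.nd (.lf [160]) .nil) .nil)) (.nd .nil (.nd (.nd .nil (.lf [1259])) .nil)))) (.nd (.nd .nil (.nd (.nd .nil (.nd (.lf [8]) .nil)) .nil)) (.nd (.nd .nil (.nd .nil (.nd (.lf [0]) .nil))) .nil))) (.nd (.nd .nil (.nd .nil (.nd (.nd .nil (.nd (.lf [0]) .nil)) .nil))) .nil))) (.nd (.nd (.nd (.nd .nil (.nd (.nd (.nd .nil (.nd (.lf [0]) .nil)) .nil) .nil)) (.nd .nil (.nd (.nd .nil (.nd .nil (.nd (.lf [0]) .nil))) .nil))) (.nd (.nd .nil (.nd (.nd .nil (.nd .nil (.nd (.lf [0]) .nil))) .nil)) (.nd .nil (.nd (.nd (.nd .nil (.nd (.lf [0]) .nil)) .nil) .nil)))) (.nd (.nd (.nd .nil (.nd .nil (.nd (.nd (.nd .nil (.lf [31])) .nil) .nil))) .nil) (.nd (.nd .nil (.nd (.nd .nil (.nd (.nd .nil (.lf [7])) .nil)) .nil)) .nil)))) (.nd (.nd (.nd .nil (.nd (.nd .nil (.nd .nil (.nd .nil (.nd (.nd .nil (.lf [14])) .nil)))) .nil)) (.nd (.nd (.nd .nil (.nd .nil (.nd .nil (.nd (.nd .nil (.lf [14])) .nil)))) .nil) .nil)) (.nd (.nd (.nd (.nd (.nd (.nd .nil (.nd (.nd (.lf [0]) .nil) .nil)) .nil) (.nd (.nd (.nd .nil (.nd (.lf [0]) .nil)) .nil) .nil)) .nil) (.nd (.nd .nil (.nd .nil (.nd .nil (.nd (.nd (.lf [66]) .nil) .nil)))) (.nd .nil (.nd (.nd (.nd .nil (.nd (.lf [0]) .nil)) .nil) .nil)))) (.nd (.nd (.nd (.nd (.nd .nil (.nd (.nd (.lf [0]) .nil) .nil)) .nil) .nil) .nil) (.nd (.nd .nil (.nd .nil (.nd .nil (.nd (.nd (.lf [62]) .nil) .nil)))) .nil)))))) (.nd (.nd (.nd (.nd (.nd (.nd (.nd .nil (.nd (.nd .nil (.nd (.nd (.lf [25]) .nil) .nil)) .nil)) (.nd (.nd .nil (.nd (.nd .nil (.nd (.lf [80]) .nil)) .nil)) .nil)) (.nd .nil (.nd .nil (.nd (.nd (.nd (.nd (.lf [101]) .nil) .nil) .nil) .nil)))) (.nd (.nd (.nd .nil (.nd (.nd .nil (.nd (.nd (.lf [139]) .nil) .nil)) .nil)) .nil) (.nd (.nd (.nd .nil (.nd .nil (.nd .nil (.nd (.lf [8]) .nil)))) .nil) (.nd .nil (.nd (.nd (.nd (.nd (.lf [139]) .nil) .nil) .nil) .nil))))) (.nd (.nd (.nd .nil (.nd (.nd .nil (.nd (.nd (.nd (.lf [0]) .nil) .nil) .nil)) .nil)) .nil) (.nd (.nd (.nd .nil (.nd (.nd (.nd .nil (.nd (.lf [0]) .nil)) .nil) .nil)) (.nd (.nd .nil (.nd (.nd (.nd (.lf [0]) .nil) .nil) .nil)) .nil)) (.nd (.nd .nil (.nd .nil (.nd .nil (.nd (.nd .nil (.lf [40])) .nil)))) (.nd .nil (.nd (.nd (.nd .nil (.nd (.lf [0]) .nil)) .nil) .nil)))))) (.nd (.nd (.nd (.nd .nil (.nd .nil (.nd (.nd (.nd .nil (.nd .nil (.lf [95]))) .nil) .nil))) (.nd (.nd .nil (.nd (.nd (.nd (.nd .nil (.lf [1243])) .nil) .nil) .nil)) (.nd .nil (.nd (.nd (.nd (.nd (.lf [214]) .nil) .nil) .nil) .nil)))) (.nd (.nd .nil (.nd .nil (.nd .nil (.nd (.nd .nil (.nd (.lf [0]) .nil)) .nil)))) (.nd (.nd .nil (.nd (.nd .nil (.nd .nil (.nd (.lf [0]) .nil))) .nil)) (.nd .nil (.nd (.nd (.nd (.nd (.lf [214]) .nil) .nil) .nil) .nil))))) (.nd .nil (.nd (.nd (.nd .nil (.nd (.nd (.nd .nil (.nd (.lf [0]) .nil)) .nil) .nil)) (.nd .nil (.nd .nil (.nd (.nd .nil (.nd (.lf [0]) .nil)) .nil)))) (.nd (.nd .nil (.nd .nil (.nd (.nd .nil (.nd (.lf [0]) .nil)) .nil))) (.nd .nil (.nd (.nd (.nd .nil (.nd (.lf [0]) .nil)) .nil) .nil))))))) (.nd (.nd (.nd (.nd (.nd (.nd .nil (.nd (.nd .nil (.nd (.nd (.lf [132]) .nil) .nil)) .nil)) .nil) (.nd (.nd (.nd .nil (.nd .nil (.nd .nil (.nd (.lf [62]) .nil)))) .nil) (.nd .nil (.nd (.nd (.nd (.nd (.lf [6]) .nil) .nil) .nil) .nil)))) (.nd (.nd (.nd .nil (.nd (.nd .nil (.nd (.nd (.lf [139]) .nil) .nil)) .nil)) (.nd (.nd .nil (.nd (.nd .nil (.nd (.lf [8]) .nil)) .nil)) .nil)) (.nd .nil (.nd .nil (.nd (.nd (.nd (.nd (.lf [139]) .nil) .nil) .nil) .nil))))) (.nd (.nd (.nd (.nd .nil (.nd (.nd (.nd .nil (.nd (.lf [0]) .nil)) .nil) .nil)) (.nd (.nd .nil (.nd (.nd (.nd (.lf [0]) .nil) .nil) .nil)) (.nd (.nd (.nd .nil (.nd .nil (.lf [158]))) .nil) .nil))) (.nd (.nd .nil (.nd .nil (.nd .nil (.nd .nil (.nd .nil (.lf [42])))))) (.nd .nil (.nd (.nd (.nd .nil (.nd (.lf [0]) .nil)) .nil) .nil)))) (.nd (.nd .nil (.nd (.nd .nil (.nd (.nd (.nd (.lf [0]) .nil) .nil) .nil)) .nil)) .nil))) (.nd (.nd (.nd (.nd .nil (.nd .nil (.nd .nil (.nd (.nd .nil (.nd (.lf [0]) .nil)) .nil)))) (.nd (.nd .nil (.nd (.nd .nil (.nd .nil (.nd (.lf [0]) .nil))) (.nd .nil (.nd (.nd .nil (.lf [843])) (.nd .nil (.lf [146])))))) (.nd .nil (.nd (.nd (.nd (.nd (.lf [214]) .nil) .nil) .nil) .nil)))) (.nd .nil (.nd .nil (.nd .nil (.nd (.nd (.nd (.nd (.lf [42]) .nil) .nil) .nil) .nil))))) (.nd (.nd (.nd (.nd .nil (.nd (.nd (.nd .nil (.nd (.lf [0]) .nil)) .nil) .nil)) (.nd .nil (.nd .nil (.nd (.nd .nil (.nd (.lf [0]) .nil)) .nil)))) (.nd (.nd .nil (.nd .nil (.nd (.nd .nil (.nd (.lf [0]) .nil)) .nil))) (.nd .nil (.nd (.nd (.nd .nil (.nd (.lf [0]) .nil)) .nil) .nil)))) .nil))))))) (.nd (.nd (.nd (.nd (.nd (.nd (.nd (.nd (.nd (.nd (.nd (.nd (.nd (.nd (.lf [0]) .nil) .nil) .nil) .nil) (.nd (.nd (.nd .nil (.nd (.lf [0]) .nil)) .nil) .nil)) (.nd .nil (.nd (.nd .nil (.nd .nil (.nd .nil (.lf [200])))) .nil))) (.nd (.nd .nil (.nd .nil (.nd (.nd .nil (.nd .nil (.lf [68]))) .nil))) (.nd .nil (.nd (.nd (.nd .nil (.nd (.lf [0]) .nil)) .nil) .nil)))) (.nd (.nd (.nd (.nd (.nd (.nd (.nd (.lf [0]) .nil) .nil) .nil) .nil) .nil) .nil) .nil)) (.nd (.nd (.nd (.nd (.nd (.nd (.nd (.nd (.lf [0]) .nil) .nil) (.nd (.nd (.lf [0]) .nil) .nil)) .nil) (.nd .nil (.nd (.nd (.nd .nil (.lf [34])) .nil) (.nd (.nd .nil (.lf [14])) .nil)))) (.nd (.nd .nil (.nd (.nd .nil (.nd (.lf [486]) .nil)) (.nd .nil (.nd (.lf [393]) .nil)))) .nil)) (.nd (.nd .nil (.nd .nil (.nd (.nd (.nd .nil (.lf [34])) (.nd .nil (.lf [34]))) (.nd (.nd .nil (.lf [6])) (.nd .nil (.lf [26])))))) (.nd .nil (.nd .nil (.nd (.nd .nil (.nd .nil (.lf [33]))) (.nd .nil (.nd .nil (.lf [34])))))))) (.nd (.nd (.nd (.nd (.nd (.nd (.nd (.lf [0]) .nil) .nil) (.nd (.nd (.lf [0]) .nil) .nil)) .nil) .nil) .nil) .nil))) (.nd (.nd (.nd (.nd (.nd (.nd (.nd (.nd (.nd (.lf [0]) .nil) .nil) .nil) .nil) (.nd (.nd (.nd .nil (.nd (.lf [0]) .nil)) .nil) .nil)) (.nd (.nd .nil (.nd (.nd (.nd (.lf [0]) .nil) .nil) (.nd .nil (.nd (.lf [16]) .nil)))) (.nd (.nd (.nd .nil (.nd .nil (.lf [50]))) (.nd .nil (.nd .nil (.lf [50])))) .nil))) (.nd (.nd (.nd .nil (.nd .nil (.nd .nil (.nd (.lf [3]) .nil)))) (.nd .nil (.nd (.nd .nil (.nd .nil (.lf [4]))) (.nd .nil (.nd .nil (.lf [15])))))) (.nd .nil (.nd (.nd (.nd .nil (.nd (.lf [0]) .nil)) .nil) .nil)))) (.nd (.nd (.nd (.nd (.nd (.nd (.nd (.lf [0]) .nil) .nil) (.nd .nil (.nd (.lf [15]) .nil))) .nil) (.nd (.nd (.nd .nil (.nd .nil (.lf [3]))) (.nd .nil (.nd .nil (.lf [50])))) .nil)) (.nd (.nd .nil (.nd (.nd (.nd (.lf [0]) .nil) .nil) .nil)) (.nd .nil (.nd (.nd .nil (.nd (.lf [0]) .nil)) .nil)))) (.nd (.nd .nil (.nd .nil (.nd (.nd .nil (.nd (.lf [0]) .nil)) .nil))) (.nd (.nd (.nd .nil (.nd .nil (.nd (.lf [8]) .nil))) .nil) (.nd .nil (.nd (.nd .nil (.nd .nil (.lf [24]))) (.nd .nil (.nd .nil (.lf [24]))))))))) (.nd (.nd (.nd (.nd (.nd (.nd (.nd (.nd (.lf [0]) .nil) .nil) .nil) .nil) (.nd .nil (.nd .nil (.nd (.nd .nil (.lf [153])) .nil)))) .nil) (.nd (.nd .nil (.nd .nil (.nd (.nd .nil (.nd .nil (.lf [4]))) .nil))) .nil)) (.nd (.nd (.nd (.nd (.nd (.nd (.nd (.lf [0]) .nil) .nil) .nil) .nil) .nil) (.nd .nil (.nd .nil (.nd (.nd .nil (.nd (.lf [0]) .nil)) .nil)))) (.nd (.nd .nil (.nd (.nd .nil (.nd .nil (.nd (.lf [0]) .nil))) .nil)) .nil))))) (.nd (.nd (.nd (.nd (.nd (.nd (.nd (.nd (.nd (.nd (.lf [0]) .nil) .nil) .nil) .nil) (.nd (.nd (.nd (.nd .nil (.lf [14])) .nil) .nil) .nil)) .nil) .nil) (.nd (.nd (.nd (.nd (.nd (.nd (.nd (.lf [0]) .nil) .nil) .nil) .nil) (.nd (.nd (.nd .nil (.nd (.lf [0]) .nil)) .nil) .nil)) .nil) (.nd .nil (.nd .nil (.nd (.nd (.nd .nil (.nd (.lf [0]) .nil)) .nil) .nil))))) (.nd (.nd (.nd (.nd (.nd (.nd (.nd (.nd (.lf [0]) .nil) .nil) (.nd (.nd (.lf [0]) .nil) .nil)) .nil) (.nd (.nd (.nd (.nd .nil (.lf [14])) (.nd .nil (.lf [34]))) (.nd (.nd .nil (.lf [34])) (.nd .nil (.lf [34])))) .nil)) (.nd .nil (.nd (.nd (.nd .nil (.nd .nil (.lf [34]))) (.nd .nil (.nd .nil (.lf [34])))) .nil))) (.nd (.nd .nil (.nd (.nd (.nd (.nd .nil (.lf [14])) .nil) (.nd (.nd .nil (.lf [31])) .nil)) .nil)) .nil)) (.nd (.nd (.nd (.nd (.nd (.nd (.nd (.lf [0]) .nil) .nil) (.nd (.nd (.lf [0]) .nil) .nil)) .nil) .nil) (.nd (.nd .nil (.nd (.nd .nil (.nd (.lf [42]) .nil)) (.nd .nil (.nd (.lf [38]) .nil)))) .nil)) .nil))) (.nd (.nd (.nd (.nd (.nd (.nd (.nd (.nd (.nd (.lf [0]) .nil) .nil) (.nd .nil (.nd (.lf [23]) .nil))) .nil) (.nd (.nd (.nd (.nd .nil (.lf [100])) .nil) (.nd (.nd .nil (.lf [208])) .nil)) .nil)) (.nd (.nd .nil (.nd (.nd (.nd (.lf [0]) .nil) .nil) .nil)) (.nd .nil (.nd (.nd .nil (.nd (.lf [0]) .nil)) .nil)))) (.nd (.nd .nil (.nd .nil (.nd (.nd .nil (.nd (.lf [0]) .nil)) .nil))) (.nd (.nd (.nd .nil (.nd .nil (.nd (.lf [15]) .nil))) .nil) .nil))) (.nd (.nd (.nd (.nd (.nd (.nd (.nd (.lf [0]) .nil) .nil) .nil) .nil) (.nd (.nd (.nd .nil (.nd (.lf [0]) .nil)) .nil) .nil)) (.nd (.nd .nil (.nd (.nd (.nd (.lf [0]) .nil) .nil) (.nd .nil (.nd (.lf [3]) .nil)))) .nil)) (.nd (.nd (.nd .nil (.nd .nil (.nd .nil (.nd (.lf [8]) .nil)))) (.nd .nil (.nd (.nd (.nd .nil (.lf [38])) .nil) (.nd (.nd .nil (.lf [155])) .nil)))) (.nd .nil (.nd (.nd (.nd .nil (.nd (.lf [0]) .nil)) .nil) .nil))))) (.nd (.nd (.nd (.nd (.nd (.nd (.nd (.nd (.lf [0]) .nil) .nil) .nil) .nil) (.nd (.nd (.nd (.nd .nil (.lf [31])) .nil) .nil) .nil)) (.nd .nil (.nd (.nd .nil (.nd .nil (.nd .nil (.lf [200])))) (.nd (.nd .nil (.nd (.lf [0]) .nil)) .nil)))) (.nd (.nd .nil (.nd (.nd .nil (.nd .nil (.nd (.lf [0]) .nil))) .nil)) .nil)) (.nd (.nd (.nd (.nd (.nd (.nd (.nd (.lf [0]) .nil) .nil) .nil) .nil) .nil) .nil) .nil))))) (.nd (.nd (.nd (.nd (.nd (.nd (.nd .nil (.nd (.nd (.nd .nil (.nd (.lf [0]) .nil)) .nil) .nil)) (.nd .nil (.nd (.nd .nil (.nd .nil (.nd .nil (.lf [46])))) .nil))) (.nd (.nd .nil (.nd .nil (.nd (.nd .nil (.nd .nil (.lf [68]))) .nil))) (.nd .nil (.nd (.nd (.nd .nil (.nd (.lf [0]) .nil)) .nil) .nil)))) (.nd (.nd .nil (.nd .nil (.nd (.nd .nil (.nd .nil (.nd (.lf [0]) .nil))) .nil))) (.nd (.nd .nil (.nd (.nd .nil (.nd .nil (.nd (.lf [0]) .nil))) .nil)) .nil))) (.nd (.nd (.nd .nil (.nd (.nd .nil (.nd (.nd .nil (.nd (.lf [32]) .nil)) .nil)) (.nd (.nd .nil (.nd .nil (.nd (.lf [0]) .nil))) .nil))) (.nd (.nd .nil (.nd .nil (.nd (.nd .nil (.nd (.lf [0]) (.lf [68]))) (.nd (.nd (.lf [17]) (.lf [7])) .nil)))) .nil)) (.nd .nil (.nd (.nd .nil (.nd .nil (.nd .nil (.nd (.nd (.lf [179]) .nil) .nil)))) .nil)))) (.nd (.nd (.nd (.nd (.nd .nil (.nd (.nd (.nd .nil (.nd (.lf [0]) .nil)) .nil) .nil)) (.nd .nil (.nd (.nd .nil (.nd .nil (.nd .nil (.lf [200])))) .nil))) (.nd (.nd .nil (.nd .nil (.nd (.nd .nil (.nd .nil (.lf [4]))) .nil))) (.nd .nil (.nd (.nd (.nd .nil (.nd (.lf [0]) .nil)) .nil) .nil)))) .nil) (.nd (.nd (.nd .nil (.nd .nil (.nd (.nd (.nd .nil (.nd .nil (.lf [41]))) .nil) .nil))) (.nd (.nd .nil (.nd .nil (.nd (.nd .nil (.nd .nil (.lf [4]))) .nil))) .nil)) .nil))) (.nd (.nd (.nd (.nd (.nd .nil (.nd .nil (.nd (.nd (.nd .nil (.nd .nil (.lf [46]))) (.nd .nil (.nd (.lf [0]) .nil))) .nil))) (.nd (.nd .nil (.nd (.nd .nil (.nd .nil (.nd (.lf [0]) .nil))) (.nd .nil (.nd .nil (.nd .nil (.lf [42])))))) .nil)) (.nd (.nd (.nd .nil (.nd (.nd (.nd .nil (.nd (.lf [0]) .nil)) .nil) .nil)) .nil) (.nd .nil (.nd .nil (.nd (.nd (.nd .nil (.nd (.lf [0]) .nil)) .nil) .nil))))) (.nd (.nd (.nd .nil (.nd .nil (.nd (.nd .nil (.nd .nil (.nd .nil (.lf [200])))) .nil))) (.nd (.nd .nil (.nd (.nd (.nd (.nd .nil (.lf [1057])) .nil) .nil) (.nd .nil (.nd (.nd (.lf [154]) .nil) .nil)))) .nil)) (.nd (.nd .nil (.nd (.nd .nil (.nd (.nd .nil (.nd (.lf [42]) .nil)) .nil)) (.nd (.nd .nil (.nd .nil (.nd (.lf [0]) .nil))) .nil))) (.nd (.nd .nil (.nd .nil (.nd (.nd .nil (.nd (.lf [0]) .nil)) (.nd (.nd (.lf [187]) .nil) .nil)))) .nil)))) (.nd (.nd .nil (.nd (.nd (.nd .nil (.nd (.nd (.nd .nil (.nd (.lf [0]) .nil)) .nil) .nil)) .nil) (.nd (.nd .nil (.nd .nil (.nd .nil (.nd (.nd .nil (.lf [843])) .nil)))) (.nd .nil (.nd (.nd (.nd .nil (.nd (.lf [0]) .nil)) .nil) .nil))))) (.nd (.nd (.nd .nil (.nd .nil (.nd (.nd .nil (.nd .nil (.nd .nil (.lf [5])))) .nil))) (.nd (.nd .nil (.nd .nil (.nd .nil (.nd .nil (.nd .nil (.lf [68])))))) .nil)) .nil))))) (.nd (.nd (.nd (.nd (.nd (.nd (.nd (.nd .nil (.nd (.nd (.nd .nil (.nd (.lf [0]) .nil)) .nil) .nil)) .nil) (.nd .nil (.nd .nil (.nd (.nd (.nd .nil (.nd (.lf [0]) .nil)) .nil) .nil)))) (.nd (.nd (.nd (.nd (.nd (.nd .nil (.nd (.lf [118]) .nil)) .nil) .nil) (.nd (.nd (.nd (.nd .nil (.lf [29])) .nil) .nil) .nil)) .nil) (.nd .nil (.nd (.nd (.nd (.nd .nil (.nd (.lf [512]) .nil)) .nil) .nil) .nil)))) (.nd (.nd (.nd .nil (.nd (.nd .nil (.nd (.nd (.nd (.lf [0]) .nil) .nil) (.nd (.nd (.lf [0]) .nil) .nil))) .nil)) .nil) (.nd (.nd (.nd (.nd (.nd (.nd .nil (.nd (.lf [304]) .nil)) (.nd .nil (.nd (.lf [305]) .nil))) .nil) (.nd (.nd (.nd (.nd .nil (.lf [7])) (.nd .nil (.lf [34]))) (.nd (.nd .nil (.lf [34])) (.nd .nil (.lf [34])))) .nil)) (.nd (.nd .nil (.nd (.nd (.nd (.lf [0]) .nil) .nil) (.nd (.nd (.lf [0]) .nil) .nil))) (.nd (.nd (.nd .nil (.nd .nil (.lf [34]))) (.nd .nil (.nd .nil (.lf [34])))) .nil))) (.nd (.nd .nil (.nd (.nd (.nd (.nd .nil (.lf [34])) .nil) (.nd (.nd .nil (.lf [34])) .nil)) .nil)) .nil)))) (.nd (.nd (.nd (.nd (.nd (.nd (.nd .nil (.nd (.nd (.lf [0]) .nil) .nil)) .nil) (.nd (.nd (.nd .nil (.nd (.lf [0]) .nil)) .nil) .nil)) (.nd (.nd .nil (.nd (.nd .nil (.nd (.lf [52]) .nil)) (.nd (.nd (.lf [0]) .nil) .nil))) .nil)) (.nd (.nd (.nd .nil (.nd (.nd .nil (.nd (.lf [52]) .nil)) .nil)) (.nd .nil (.nd (.nd (.nd .nil (.lf [94])) .nil) (.nd (.nd .nil (.lf [4])) .nil)))) (.nd .nil (.nd (.nd (.nd .nil (.nd (.lf [0]) .nil)) .nil) .nil)))) (.nd (.nd (.nd (.nd (.nd (.nd .nil (.nd (.lf [52]) .nil)) (.nd (.nd (.lf [0]) .nil) .nil)) .nil) (.nd (.nd (.nd (.nd .nil (.lf [147])) .nil) (.nd (.nd .nil (.lf [164])) .nil)) .nil)) (.nd (.nd .nil (.nd .nil (.nd (.nd (.lf [0]) .nil) .nil))) (.nd .nil (.nd (.nd .nil (.nd (.lf [0]) .nil)) .nil)))) (.nd (.nd .nil (.nd .nil (.nd (.nd .nil (.nd (.lf [0]) .nil)) .nil))) (.nd (.nd (.nd (.nd .nil (.nd (.lf [52]) .nil)) .nil) .nil) .nil)))) (.nd .nil (.nd (.nd (.nd (.nd (.nd (.nd .nil (.nd (.lf [220]) .nil)) .nil) .nil) (.nd (.nd (.nd (.nd .nil (.lf [53])) .nil) .nil) .nil)) (.nd .nil (.nd (.nd .nil (.nd .nil (.nd .nil (.lf [75])))) (.nd (.nd .nil (.nd (.lf [0]) .nil)) .nil)))) (.nd (.nd .nil (.nd (.nd .nil (.nd .nil (.nd (.lf [0]) .nil))) .nil)) .nil))))) (.nd (.nd (.nd (.nd (.nd (.nd (.nd (.nd (.nd .nil (.nd (.lf [4]) .nil)) .nil) .nil) .nil) .nil) (.nd .nil (.nd (.nd (.nd (.nd .nil (.nd (.lf [512]) .nil)) .nil) .nil) .nil))) (.nd (.nd (.nd .nil (.nd (.nd (.nd .nil (.nd (.lf [0]) .nil)) .nil) .nil)) (.nd .nil (.nd (.nd .nil (.nd .nil (.nd .nil (.lf [75])))) .nil))) (.nd (.nd .nil (.nd .nil (.nd (.nd .nil (.nd .nil (.lf [17]))) .nil))) (.nd .nil (.nd (.nd (.nd .nil (.nd (.lf [0]) .nil)) .nil) .nil))))) (.nd (.nd (.nd (.nd (.nd (.nd (.nd .nil (.nd (.lf [4]) .nil)) (.nd .nil (.nd (.lf [5]) .nil))) .nil) .nil) (.nd (.nd .nil (.nd (.nd (.nd (.lf [0]) .nil) .nil) (.nd (.nd (.lf [0]) .nil) .nil))) .nil)) .nil) (.nd (.nd (.nd .nil (.nd .nil (.nd (.nd (.nd .nil (.lf [11])) .nil) (.nd (.nd .nil (.lf [34])) .nil)))) (.nd (.nd .nil (.nd (.nd (.nd (.lf [0]) .nil) .nil) (.nd (.nd (.lf [0]) .nil) .nil))) .nil)) (.nd (.nd .nil (.nd .nil (.nd (.nd (.nd .nil (.lf [34])) (.nd .nil (.lf [6]))) (.nd (.nd .nil (.lf [11])) (.nd .nil (.lf [33])))))) (.nd .nil (.nd .nil (.nd (.nd .nil (.nd .nil (.lf [26]))) (.nd .nil (.nd .nil (.lf [34])))))))))) (.nd (.nd (.nd (.nd (.nd (.nd (.nd (.nd .nil (.nd (.lf [52]) .nil)) (.nd (.nd (.lf [0]) .nil) .nil)) .nil) (.nd (.nd (.nd .nil (.nd .nil (.lf [24]))) (.nd .nil (.nd .nil (.lf [24])))) .nil)) (.nd (.nd .nil (.nd .nil (.nd (.nd (.lf [0]) .nil) .nil))) (.nd .nil (.nd (.nd .nil (.nd (.lf [0]) .nil)) .nil)))) (.nd (.nd .nil (.nd .nil (.nd (.nd .nil (.nd (.lf [0]) .nil)) .nil))) (.nd (.nd (.nd (.nd .nil (.nd (.lf [52]) .nil)) .nil) .nil) (.nd .nil (.nd (.nd .nil (.nd .nil (.lf [33]))) (.nd .nil (.nd .nil (.lf [3])))))))) (.nd (.nd (.nd (.nd (.nd .nil (.nd (.nd (.lf [0]) .nil) .nil)) .nil) (.nd (.nd (.nd .nil (.nd (.lf [0]) .nil)) .nil) .nil)) (.nd (.nd .nil (.nd (.nd .nil (.nd (.lf [52]) .nil)) (.nd (.nd (.lf [0]) .nil) .nil))) (.nd (.nd (.nd .nil (.nd .nil (.lf [15]))) (.nd .nil (.nd .nil (.lf [18])))) .nil))) (.nd (.nd (.nd .nil (.nd (.nd .nil (.nd (.lf [52]) .nil)) .nil)) (.nd .nil (.nd (.nd .nil (.nd .nil (.lf [50]))) (.nd .nil (.nd .nil (.lf [50])))))) (.nd .nil (.nd (.nd (.nd .nil (.nd (.lf [0]) .nil)) .nil) .nil))))) (.nd (.nd (.nd (.nd (.nd (.nd (.nd .nil (.nd (.lf [128]) .nil)) .nil) .nil) .nil) (.nd .nil (.nd .nil (.nd (.nd .nil (.nd (.lf [0]) .nil)) .nil)))) (.nd (.nd .nil (.nd (.nd .nil (.nd .nil (.nd (.lf [0]) .nil))) .nil)) .nil)) (.nd (.nd (.nd .nil (.nd .nil (.nd .nil (.nd (.nd .nil (.lf [1076])) .nil)))) .nil) (.nd (.nd .nil (.nd .nil (.nd (.nd .nil (.nd .nil (.lf [100]))) .nil))) .nil)))))) (.nd (.nd (.nd (.nd (.nd (.nd (.nd .nil (.nd (.nd (.nd .nil (.nd (.lf [0]) .nil)) .nil) .nil)) .nil) (.nd .nil (.nd .nil (.nd (.nd (.nd .nil (.nd (.lf [0]) .nil)) .nil) .nil)))) (.nd (.nd .nil (.nd .nil (.nd (.nd (.nd .nil (.nd .nil (.lf [5]))) (.nd .nil (.nd (.lf [0]) .nil))) .nil))) (.nd (.nd .nil (.nd (.nd .nil (.nd .nil (.nd (.lf [0]) .nil))) (.nd .nil (.nd .nil (.nd .nil (.lf [41])))))) .nil))) (.nd (.nd (.nd .nil (.nd (.nd .nil (.nd .nil (.nd (.nd (.lf [0]) .nil) .nil))) (.nd (.nd .nil (.nd .nil (.nd (.lf [0]) .nil))) .nil))) (.nd (.nd .nil (.nd .nil (.nd (.nd .nil (.nd (.lf [0]) .nil)) (.nd (.nd (.lf [32]) .nil) .nil)))) .nil)) (.nd (.nd .nil (.nd (.nd .nil (.nd .nil (.nd (.nd (.lf [0]) .nil) .nil))) (.nd (.nd .nil (.nd .nil (.nd .nil (.lf [75])))) .nil))) (.nd (.nd .nil (.nd (.nd (.nd (.nd .nil (.lf [47])) .nil) .nil) (.nd .nil (.nd (.nd (.lf [166]) .nil) .nil)))) .nil)))) (.nd (.nd (.nd (.nd (.nd .nil (.nd (.nd (.nd .nil (.nd (.lf [0]) .nil)) .nil) .nil)) (.nd (.nd .nil (.nd (.nd .nil (.nd (.lf [167]) .nil)) (.nd (.nd (.lf [0]) .nil) .nil))) .nil)) (.nd (.nd (.nd .nil (.nd (.nd .nil (.nd (.lf [628]) .nil)) .nil)) (.nd .nil (.nd .nil (.nd (.nd .nil (.lf [4])) .nil)))) (.nd .nil (.nd (.nd (.nd .nil (.nd (.lf [0]) .nil)) .nil) .nil)))) (.nd (.nd .nil (.nd (.nd .nil (.nd .nil (.nd (.nd (.lf [0]) .nil) .nil))) .nil)) .nil)) (.nd .nil (.nd (.nd .nil (.nd .nil (.nd (.nd .nil (.nd .nil (.nd .nil (.lf [71])))) .nil))) (.nd (.nd .nil (.nd .nil (.nd .nil (.nd .nil (.nd .nil (.lf [46])))))) .nil))))) (.nd (.nd (.nd (.nd (.nd .nil (.nd .nil (.nd (.nd .nil (.nd .nil (.nd (.lf [0]) .nil))) .nil))) (.nd (.nd .nil (.nd (.nd .nil (.nd .nil (.nd (.lf [0]) .nil))) .nil)) .nil)) (.nd (.nd (.nd .nil (.nd (.nd (.nd .nil (.nd (.lf [0]) .nil)) .nil) .nil)) (.nd .nil (.nd (.nd .nil (.nd .nil (.nd .nil (.lf [75])))) .nil))) (.nd (.nd .nil (.nd .nil (.nd (.nd .nil (.nd .nil (.lf [17]))) .nil))) (.nd .nil (.nd (.nd (.nd .nil (.nd (.lf [0]) .nil)) .nil) .nil))))) (.nd (.nd (.nd .nil (.nd (.nd .nil (.nd .nil (.nd (.nd (.lf [0]) .nil) .nil))) .nil)) (.nd (.nd .nil (.nd .nil (.nd .nil (.nd (.nd (.lf [214]) .nil) .nil)))) .nil)) (.nd (.nd .nil (.nd (.nd .nil (.nd .nil (.nd (.nd (.lf [0]) .nil) .nil))) (.nd (.nd .nil (.nd .nil (.nd (.lf [0]) .nil))) .nil))) (.nd (.nd .nil (.nd .nil (.nd (.nd .nil (.nd (.lf [0]) (.lf [17]))) (.nd (.nd (.lf [62]) (.lf [11])) .nil)))) .nil)))) (.nd (.nd (.nd (.nd .nil (.nd (.nd .nil (.nd .nil (.nd (.nd (.lf [0]) .nil) .nil))) .nil)) .nil) (.nd (.nd (.nd .nil (.nd (.nd (.nd .nil (.nd (.lf [0]) .nil)) .nil) .nil)) (.nd (.nd .nil (.nd (.nd .nil (.nd (.lf [201]) .nil)) (.nd (.nd (.lf [0]) .nil) .nil))) (.nd (.nd .nil (.nd .nil (.nd .nil (.lf [75])))) .nil))) (.nd (.nd (.nd .nil (.nd (.nd .nil (.nd (.lf [628]) .nil)) .nil)) (.nd .nil (.nd (.nd .nil (.nd .nil (.lf [199]))) .nil))) (.nd .nil (.nd (.nd (.nd .nil (.nd (.lf [0]) .nil)) .nil) .nil))))) (.nd .nil (.nd (.nd .nil (.nd .nil (.nd (.nd (.nd .nil (.nd .nil (.lf [75]))) .nil) .nil))) (.nd (.nd .nil (.nd .nil (.nd (.nd .nil (.nd .nil (.lf [46]))) .nil))) .nil)))))))) (.nd (.nd (.nd (.nd (.nd .nil (.nd (.nd (.nd (.nd (.nd (.nd .nil (.nd (.nd (.lf [0]) .nil) .nil)) .nil) (.nd (.nd (.nd .nil (.nd (.lf [0]) .nil)) .nil) (.nd .nil (.nd .nil (.nd (.lf [0]) .nil))))) (.nd (.nd .nil (.nd (.nd .nil (.nd (.lf [179]) .nil)) .nil)) .nil)) (.nd (.nd .nil (.nd .nil (.nd .nil (.nd .nil (.nd .nil (.lf [221])))))) .nil)) (.nd (.nd (.nd (.nd (.nd .nil (.nd (.nd (.lf [0]) .nil) .nil)) .nil) (.nd .nil (.nd .nil (.nd (.nd .nil (.lf [153])) .nil)))) .nil) (.nd (.nd (.nd .nil (.nd (.nd .nil (.nd (.lf [628]) .nil)) .nil)) .nil) (.nd .nil (.nd (.nd (.nd .nil (.nd (.lf [0]) .nil)) .nil) (.nd .nil (.nd .nil (.nd (.lf [0]) .nil))))))))) (.nd (.nd (.nd .nil (.nd (.nd .nil (.nd (.nd .nil (.nd .nil (.nd (.lf [0]) .nil))) (.nd .nil (.nd .nil (.nd .nil (.lf [33])))))) .nil)) (.nd .nil (.nd (.nd .nil (.nd .nil (.nd (.nd .nil (.nd (.lf [0]) .nil)) .nil))) .nil))) (.nd (.nd (.nd (.nd .nil (.nd (.nd (.nd .nil (.nd (.lf [0]) .nil)) .nil) (.nd .nil (.nd .nil (.nd (.lf [0]) .nil))))) .nil) .nil) (.nd (.nd (.nd .nil (.nd .nil (.nd .nil (.nd (.nd .nil (.lf [45])) .nil)))) .nil) (.nd (.nd .nil (.nd .nil (.nd .nil (.nd (.nd .nil (.lf [45])) .nil)))) (.nd .nil (.nd (.nd (.nd .nil (.nd (.lf [0]) .nil)) .nil) (.nd .nil (.nd .nil (.nd (.lf [0]) .nil)))))))))) (.nd (.nd (.nd (.nd (.nd (.nd .nil (.nd (.nd (.nd (.nd .nil (.lf [11])) .nil) .nil) (.nd (.nd (.nd .nil (.lf [30])) .nil) .nil))) .nil) (.nd (.nd .nil (.nd (.nd .nil (.nd (.nd .nil (.lf [7])) .nil)) (.nd .nil (.nd (.nd .nil (.lf [29])) .nil)))) .nil)) .nil) (.nd (.nd (.nd (.nd (.nd (.nd .nil (.nd (.nd (.lf [0]) .nil) .nil)) .nil) (.nd (.nd (.nd (.nd .nil (.lf [57])) .nil) .nil) .nil)) .nil) (.nd (.nd (.nd .nil (.nd (.nd .nil (.nd (.lf [628]) .nil)) .nil)) .nil) (.nd .nil (.nd (.nd (.nd .nil (.nd (.lf [0]) .nil)) .nil) (.nd .nil (.nd .nil (.nd (.lf [0]) .nil))))))) (.nd (.nd (.nd (.nd (.nd .nil (.nd (.nd (.lf [0]) .nil) .nil)) .nil) (.nd (.nd (.nd .nil (.nd (.lf [0]) .nil)) .nil) (.nd .nil (.nd .nil (.nd (.lf [0]) .nil))))) (.nd (.nd .nil (.nd (.nd .nil (.nd (.lf [201]) .nil)) .nil)) .nil)) .nil))) (.nd (.nd (.nd (.nd (.nd .nil (.nd (.nd (.nd (.nd .nil (.lf [53])) .nil) .nil) .nil)) .nil) (.nd (.nd .nil (.nd .nil (.nd (.nd .nil (.nd (.lf [0]) .nil)) .nil))) .nil)) (.nd .nil (.nd (.nd .nil (.nd (.nd .nil (.nd .nil (.nd (.lf [0]) .nil))) .nil)) .nil))) (.nd (.nd (.nd (.nd .nil (.nd (.nd (.nd (.nd .nil (.lf [45])) .nil) .nil) .nil)) .nil) (.nd (.nd .nil (.nd (.nd (.nd (.nd .nil (.lf [45])) .nil) .nil) .nil)) (.nd .nil (.nd (.nd (.nd .nil (.nd (.lf [0]) .nil)) .nil) (.nd .nil (.nd .nil (.nd (.lf [0]) .nil))))))) (.nd (.nd (.nd .nil (.nd (.nd (.nd .nil (.nd (.lf [0]) .nil)) .nil) (.nd .nil (.nd .nil (.nd (.lf [0]) .nil))))) .nil) .nil))))) (.nd (.nd (.nd (.nd (.nd (.nd (.nd (.nd (.nd (.nd .nil (.nd (.lf [56]) .nil)) .nil) .nil) .nil) (.nd (.nd .nil (.nd (.nd (.nd (.lf [0]) .nil) .nil) .nil)) (.nd (.nd .nil (.nd .nil (.nd (.lf [0]) .nil))) .nil))) (.nd .nil (.nd .nil (.nd (.nd (.nd (.nd (.lf [101]) .nil) .nil) .nil) .nil)))) (.nd (.nd .nil (.nd (.nd .nil (.nd (.nd (.nd (.lf [0]) .nil) .nil) .nil)) (.nd .nil (.nd (.nd .nil (.nd (.lf [0]) .nil)) .nil)))) (.nd .nil (.nd .nil (.nd (.nd (.nd (.nd (.lf [132]) .nil) .nil) .nil) .nil))))) (.nd (.nd (.nd (.nd (.nd (.nd (.nd .nil (.nd (.lf [133]) .nil)) .nil) .nil) (.nd (.nd (.nd .nil (.nd (.lf [0]) .nil)) .nil) (.nd .nil (.nd .nil (.nd (.lf [0]) .nil))))) (.nd (.nd .nil (.nd (.nd .nil (.nd (.lf [169]) .nil)) .nil)) .nil)) (.nd (.nd .nil (.nd (.nd .nil (.nd .nil (.nd (.lf [0]) .nil))) (.nd (.nd .nil (.nd (.lf [0]) .nil)) .nil))) .nil)) (.nd (.nd .nil (.nd .nil (.nd (.nd .nil (.nd .nil (.nd (.lf [0]) .nil))) (.nd (.nd .nil (.nd (.lf [0]) .nil)) .nil)))) (.nd (.nd (.nd .nil (.nd (.nd .nil (.nd (.lf [157]) .nil)) .nil)) .nil) (.nd (.nd (.nd (.nd .nil (.nd (.lf [169]) .nil)) .nil) .nil) (.nd (.nd (.nd .nil (.nd (.lf [0]) .nil)) .nil) (.nd .nil (.nd .nil (.nd (.lf [0]) .nil))))))))) (.nd (.nd (.nd (.nd (.nd (.nd (.nd (.nd .nil (.nd (.lf [56]) .nil)) .nil) .nil) .nil) .nil) (.nd (.nd (.nd .nil (.nd .nil (.nd .nil (.nd (.lf [56]) .nil)))) (.nd .nil (.nd .nil (.nd (.nd (.lf [52]) .nil) .nil)))) (.nd .nil (.nd (.nd (.nd (.nd (.lf [52]) .nil) .nil) .nil) .nil)))) (.nd .nil (.nd (.nd .nil (.nd .nil (.nd .nil (.nd (.nd (.lf [52]) .nil) .nil)))) (.nd .nil (.nd (.nd (.nd (.nd (.lf [52]) .nil) .nil) .nil) .nil))))) (.nd (.nd (.nd (.nd (.nd (.nd (.nd .nil (.nd (.lf [128]) .nil)) .nil) .nil) (.nd (.nd (.nd .nil (.nd (.lf [0]) .nil)) .nil) (.nd .nil (.nd .nil (.nd (.lf [0]) .nil))))) .nil) .nil) (.nd .nil (.nd (.nd .nil (.nd .nil (.nd .nil (.nd (.nd .nil (.lf [81])) .nil)))) (.nd (.nd (.nd (.nd .nil (.nd (.lf [479]) .nil)) .nil) .nil) (.nd (.nd (.nd .nil (.nd (.lf [0]) .nil)) .nil) (.nd .nil (.nd .nil (.nd (.lf [0]) .nil)))))))))) (.nd (.nd (.nd (.nd (.nd .nil (.nd (.nd .nil (.nd (.nd (.nd (.lf [0]) .nil) .nil) .nil)) (.nd .nil (.nd (.nd .nil (.nd (.lf [0]) .nil)) .nil)))) (.nd (.nd .nil (.nd .nil (.nd .nil (.nd (.nd .nil (.lf [45])) (.nd .nil (.lf [134])))))) (.nd .nil (.nd (.nd (.nd (.nd (.lf [101]) .nil) .nil) .nil) .nil)))) (.nd (.nd (.nd (.nd (.nd (.nd .nil (.nd (.lf [51]) .nil)) .nil) .nil) .nil) (.nd (.nd .nil (.nd (.nd (.nd (.lf [0]) .nil) .nil) .nil)) (.nd (.nd .nil (.nd .nil (.nd (.lf [0]) .nil))) .nil))) (.nd .nil (.nd .nil (.nd (.nd (.nd (.nd (.lf [51]) .nil) .nil) .nil) .nil))))) (.nd (.nd (.nd .nil (.nd .nil (.nd (.nd .nil (.nd .nil (.nd (.lf [0]) .nil))) (.nd (.nd .nil (.nd (.lf [0]) .nil)) .nil)))) (.nd (.nd (.nd .nil (.nd (.nd .nil (.nd (.lf [157]) .nil)) .nil)) .nil) (.nd (.nd (.nd (.nd .nil (.nd (.lf [94]) .nil)) .nil) .nil) (.nd (.nd (.nd .nil (.nd (.lf [0]) .nil)) .nil) (.nd .nil (.nd .nil (.nd (.lf [0]) .nil))))))) (.nd (.nd (.nd (.nd (.nd (.nd .nil (.nd (.lf [157]) .nil)) .nil) .nil) (.nd (.nd (.nd .nil (.nd (.lf [0]) .nil)) .nil) (.nd .nil (.nd .nil (.nd (.lf [0]) .nil))))) (.nd (.nd .nil (.nd (.nd .nil (.nd (.lf [167]) .nil)) .nil)) .nil)) (.nd (.nd .nil (.nd (.nd .nil (.nd .nil (.nd (.lf [0]) .nil))) (.nd (.nd .nil (.nd (.lf [0]) .nil)) .nil))) .nil)))) (.nd (.nd (.nd .nil (.nd (.nd .nil (.nd .nil (.nd .nil (.nd (.nd (.lf [52]) .nil) .nil)))) (.nd .nil (.nd (.nd (.nd (.nd (.lf [52]) .nil) .nil) .nil) .nil)))) (.nd (.nd (.nd (.nd (.nd (.nd .nil (.nd (.lf [8]) .nil)) .nil) .nil) .nil) .nil) (.nd (.nd (.nd .nil (.nd .nil (.nd .nil (.nd (.lf [8]) .nil)))) (.nd .nil (.nd .nil (.nd (.nd (.lf [32]) .nil) .nil)))) (.nd .nil (.nd (.nd (.nd (.nd (.lf [32]) .nil) .nil) .nil) .nil))))) (.nd (.nd .nil (.nd (.nd .nil (.nd (.nd (.nd (.nd .nil (.lf [1243])) .nil) .nil) (.nd .nil (.nd .nil (.nd .nil (.lf [118])))))) (.nd (.nd (.nd (.nd .nil (.nd (.lf [479]) .nil)) .nil) .nil) (.nd (.nd (.nd .nil (.nd (.lf [0]) .nil)) .nil) (.nd .nil (.nd .nil (.nd (.lf [0]) .nil))))))) (.nd (.nd (.nd (.nd (.nd (.nd .nil (.nd (.lf [17]) .nil)) .nil) .nil) (.nd (.nd (.nd .nil (.nd (.lf [0]) .nil)) .nil) (.nd .nil (.nd .nil (.nd (.lf [0]) .nil))))) .nil) .nil)))))) (.nd (.nd (.nd (.nd (.nd .nil (.nd (.nd (.nd .nil (.nd (.nd (.nd (.nd .nil (.lf [27])) .nil) .nil) (.nd (.nd (.nd .nil (.lf [7])) .nil) .nil))) .nil) (.nd (.nd .nil (.nd (.nd .nil (.nd (.nd .nil (.lf [27])) .nil)) (.nd .nil (.nd (.nd .nil (.lf [30])) .nil)))) .nil))) (.nd (.nd (.nd (.nd .nil (.nd (.nd (.nd .nil (.nd (.lf [0]) .nil)) .nil) (.nd .nil (.nd .nil (.nd (.lf [0]) .nil))))) .nil) .nil) (.nd (.nd (.nd .nil (.nd (.nd (.nd (.nd .nil (.lf [29])) .nil) .nil) .nil)) .nil) (.nd .nil (.nd .nil (.nd (.nd (.nd .nil (.nd (.lf [0]) .nil)) .nil) (.nd .nil (.nd .nil (.nd (.lf [0]) .nil))))))))) (.nd (.nd (.nd (.nd (.nd (.nd (.nd .nil (.nd (.nd (.lf [0]) .nil) .nil)) .nil) .nil) (.nd (.nd .nil (.nd (.nd .nil (.nd (.lf [42]) .nil)) .nil)) .nil)) (.nd (.nd .nil (.nd (.nd .nil (.nd .nil (.nd (.lf [0]) .nil))) .nil)) .nil)) (.nd (.nd (.nd (.nd (.nd .nil (.nd (.nd (.lf [0]) .nil) .nil)) .nil) (.nd (.nd (.nd (.nd .nil (.lf [14])) .nil) .nil) .nil)) .nil) (.nd (.nd .nil (.nd .nil (.nd (.nd .nil (.nd (.lf [0]) .nil)) .nil))) .nil))) (.nd (.nd (.nd (.nd .nil (.nd (.nd (.nd .nil (.nd (.lf [0]) .nil)) .nil) (.nd .nil (.nd .nil (.nd (.lf [0]) .nil))))) .nil) .nil) (.nd (.nd (.nd .nil (.nd (.nd (.nd (.nd .nil (.lf [14])) .nil) .nil) .nil)) .nil) (.nd (.nd .nil (.nd (.nd (.nd (.nd .nil (.lf [14])) .nil) .nil) .nil)) (.nd .nil (.nd (.nd (.nd .nil (.nd (.lf [0]) .nil)) .nil) (.nd .nil (.nd .nil (.nd (.lf [0]) .nil)))))))))) (.nd (.nd .nil (.nd (.nd (.nd (.nd .nil (.nd .nil (.nd .nil (.nd (.nd .nil (.lf [1076])) .nil)))) .nil) (.nd .nil (.nd .nil (.nd (.nd (.nd .nil (.nd (.lf [0]) .nil)) .nil) (.nd .nil (.nd .nil (.nd (.lf [0]) .nil))))))) (.nd (.nd (.nd .nil (.nd (.nd (.nd .nil (.nd (.lf [0]) .nil)) .nil) (.nd .nil (.nd .nil (.nd (.lf [0]) .nil))))) .nil) (.nd (.nd .nil (.nd .nil (.nd .nil (.nd .nil (.nd .nil (.lf [33])))))) .nil)))) (.nd (.nd (.nd (.nd (.nd (.nd (.nd .nil (.nd (.nd (.lf [0]) .nil) .nil)) .nil) .nil) .nil) (.nd (.nd .nil (.nd .nil (.nd (.nd .nil (.nd (.lf [0]) .nil)) .nil))) .nil)) (.nd (.nd (.nd (.nd (.nd .nil (.nd (.nd (.lf [0]) .nil) .nil)) .nil) .nil) (.nd (.nd .nil (.nd (.nd .nil (.nd (.lf [188]) .nil)) .nil)) .nil)) (.nd (.nd .nil (.nd (.nd .nil (.nd .nil (.nd (.lf [0]) .nil))) (.nd .nil (.nd .nil (.nd .nil (.lf [48])))))) .nil))) (.nd (.nd (.nd (.nd .nil (.nd .nil (.nd .nil (.nd (.nd .nil (.lf [5])) .nil)))) .nil) (.nd (.nd .nil (.nd .nil (.nd .nil (.nd (.nd .nil (.lf [14])) .nil)))) (.nd .nil (.nd (.nd (.nd .nil (.nd (.lf [0]) .nil)) .nil) (.nd .nil (.nd .nil (.nd (.lf [0]) .nil))))))) (.nd (.nd (.nd .nil (.nd (.nd (.nd .nil (.nd (.lf [0]) .nil)) .nil) (.nd .nil (.nd .nil (.nd (.lf [0]) .nil))))) .nil) .nil))))) (.nd (.nd (.nd (.nd (.nd (.nd .nil (.nd .nil (.nd (.nd .nil (.nd .nil (.nd (.lf [0]) .nil))) .nil))) (.nd .nil (.nd .nil (.nd (.nd (.nd (.nd (.lf [42]) .nil) .nil) .nil) .nil)))) (.nd (.nd .nil (.nd .nil (.nd .nil (.nd (.nd .nil (.nd (.lf [0]) .nil)) .nil)))) (.nd (.nd .nil (.nd .nil (.nd .nil (.nd (.nd .nil (.lf [867])) (.nd .nil (.lf [147])))))) (.nd .nil (.nd (.nd (.nd (.nd (.lf [189]) .nil) .nil) .nil) .nil))))) (.nd (.nd (.nd (.nd .nil (.nd (.nd (.nd .nil (.nd (.lf [0]) .nil)) .nil) (.nd .nil (.nd .nil (.nd (.lf [0]) .nil))))) .nil) (.nd (.nd .nil (.nd (.nd .nil (.nd .nil (.nd (.lf [0]) .nil))) (.nd (.nd .nil (.nd (.lf [0]) .nil)) .nil))) .nil)) (.nd (.nd .nil (.nd .nil (.nd (.nd .nil (.nd .nil (.nd (.lf [0]) .nil))) (.nd (.nd .nil (.nd (.lf [0]) .nil)) .nil)))) (.nd .nil (.nd .nil (.nd (.nd (.nd .nil (.nd (.lf [0]) .nil)) .nil) (.nd .nil (.nd .nil (.nd (.lf [0]) .nil))))))))) (.nd (.nd (.nd (.nd .nil (.nd (.nd .nil (.nd (.nd .nil (.nd (.lf [42]) .nil)) .nil)) .nil)) (.nd (.nd .nil (.nd .nil (.nd .nil (.nd (.nd (.lf [52]) .nil) .nil)))) (.nd (.nd (.nd .nil (.nd .nil (.nd (.lf [83]) .nil))) .nil) (.nd (.nd (.nd (.nd (.lf [52]) .nil) .nil) .nil) .nil)))) (.nd .nil (.nd (.nd .nil (.nd .nil (.nd .nil (.nd (.nd (.lf [4]) .nil) .nil)))) (.nd .nil (.nd (.nd (.nd (.nd (.lf [8]) .nil) .nil) .nil) .nil))))) (.nd (.nd (.nd (.nd .nil (.nd (.nd (.nd .nil (.nd (.lf [0]) .nil)) .nil) (.nd .nil (.nd .nil (.nd (.lf [0]) .nil))))) (.nd (.nd .nil (.nd (.nd (.nd (.lf [0]) .nil) .nil) .nil)) .nil)) .nil) (.nd (.nd .nil (.nd (.nd .nil (.nd (.nd (.nd (.lf [0]) .nil) .nil) .nil)) .nil)) (.nd (.nd .nil (.nd (.nd (.nd (.nd .nil (.lf [36])) .nil) .nil) (.nd .nil (.nd .nil (.nd .nil (.lf [42])))))) (.nd .nil (.nd (.nd (.nd .nil (.nd (.lf [0]) .nil)) .nil) (.nd .nil (.nd .nil (.nd (.lf [0]) .nil)))))))))) (.nd (.nd (.nd (.nd (.nd .nil (.nd .nil (.nd .nil (.nd (.nd .nil (.nd (.lf [0]) .nil)) .nil)))) (.nd .nil (.nd .nil (.nd (.nd (.nd (.nd (.lf [101]) .nil) .nil) .nil) .nil)))) (.nd (.nd .nil (.nd .nil (.nd (.nd .nil (.nd .nil (.nd (.lf [0]) .nil))) .nil))) (.nd .nil (.nd .nil (.nd (.nd (.nd (.nd (.lf [214]) .nil) .nil) .nil) .nil))))) (.nd (.nd (.nd .nil (.nd .nil (.nd (.nd .nil (.nd .nil (.nd (.lf [0]) .nil))) (.nd (.nd .nil (.nd (.lf [0]) .nil)) .nil)))) (.nd .nil (.nd .nil (.nd (.nd (.nd .nil (.nd (.lf [0]) .nil)) .nil) (.nd .nil (.nd .nil (.nd (.lf [0]) .nil))))))) (.nd (.nd (.nd .nil (.nd (.nd (.nd .nil (.nd (.lf [0]) .nil)) .nil) (.nd .nil (.nd .nil (.nd (.lf [0]) .nil))))) .nil) (.nd (.nd .nil (.nd (.nd .nil (.nd .nil (.nd (.lf [0]) .nil))) (.nd (.nd .nil (.nd (.lf [0]) .nil)) .nil))) .nil)))) (.nd (.nd (.nd .nil (.nd (.nd .nil (.nd .nil (.nd .nil (.nd (.nd (.lf [52]) .nil) .nil)))) (.nd .nil (.nd (.nd (.nd (.nd (.lf [52]) .nil) .nil) .nil) .nil)))) (.nd (.nd .nil (.nd (.nd .nil (.nd (.nd .nil (.nd (.lf [32]) .nil)) .nil)) .nil)) (.nd (.nd .nil (.nd .nil (.nd .nil (.nd (.nd (.lf [52]) .nil) .nil)))) (.nd (.nd (.nd .nil (.nd .nil (.nd (.lf [32]) .nil))) .nil) (.nd (.nd (.nd (.nd (.lf [52]) .nil) .nil) .nil) .nil))))) (.nd (.nd (.nd .nil (.nd (.nd .nil (.nd (.nd (.nd (.lf [0]) .nil) .nil) .nil)) .nil)) (.nd (.nd .nil (.nd .nil (.nd .nil (.nd (.nd .nil (.lf [27])) .nil)))) (.nd .nil (.nd (.nd (.nd .nil (.nd (.lf [0]) .nil)) .nil) (.nd .nil (.nd .nil (.nd (.lf [0]) .nil))))))) (.nd (.nd (.nd .nil (.nd (.nd (.nd .nil (.nd (.lf [0]) .nil)) .nil) (.nd .nil (.nd .nil (.nd (.lf [0]) .nil))))) (.nd (.nd .nil (.nd (.nd (.nd (.lf [0]) .nil) .nil) .nil)) .nil)) .nil))))))))) (.nd (.nd (.nd (.nd (.nd (.nd (.nd (.nd (.nd (.nd .nil (.nd (.nd .nil (.nd (.nd (.nd (.lf [0]) .nil) .nil) .nil)) (.nd (.nd .nil (.nd .nil (.nd (.lf [0]) .nil))) .nil))) (.nd (.nd .nil (.nd .nil (.nd .nil (.nd (.nd .nil (.lf [11])) .nil)))) .nil)) (.nd (.nd .nil (.nd (.nd .nil (.nd (.nd (.nd (.lf [0]) .nil) .nil) .nil)) (.nd .nil (.nd (.nd .nil (.nd (.lf [0]) .nil)) .nil)))) .nil)) (.nd (.nd (.nd (.nd .nil (.nd (.nd (.nd .nil (.nd (.lf [0]) .nil)) .nil) (.nd .nil (.nd .nil (.nd (.lf [0]) .nil))))) .nil) (.nd (.nd .nil (.nd (.nd .nil (.nd .nil (.nd (.lf [0]) .nil))) (.nd (.nd .nil (.nd (.lf [0]) .nil)) .nil))) .nil)) (.nd (.nd .nil (.nd .nil (.nd (.nd .nil (.nd .nil (.nd (.lf [0]) .nil))) (.nd (.nd .nil (.nd (.lf [0]) .nil)) .nil)))) (.nd .nil (.nd .nil (.nd (.nd (.nd .nil (.nd (.lf [0]) .nil)) .nil) (.nd .nil (.nd .nil (.nd (.lf [0]) .nil))))))))) (.nd (.nd (.nd (.nd (.nd .nil (.nd (.nd .nil (.nd (.nd (.lf [52]) .nil) .nil)) .nil)) (.nd .nil (.nd .nil (.nd (.nd (.nd (.lf [52]) .nil) .nil) .nil)))) .nil) (.nd (.nd (.nd .nil (.nd (.nd .nil (.nd (.nd (.lf [52]) .nil) .nil)) .nil)) (.nd (.nd .nil (.nd (.nd .nil (.nd (.lf [56]) .nil)) .nil)) (.nd .nil (.nd (.nd (.nd (.lf [52]) .nil) .nil) .nil)))) (.nd .nil (.nd (.nd (.nd .nil (.nd .nil (.nd (.lf [38]) .nil))) .nil) .nil)))) (.nd (.nd (.nd (.nd .nil (.nd (.nd (.nd .nil (.nd (.lf [0]) .nil)) .nil) (.nd .nil (.nd .nil (.nd (.lf [0]) .nil))))) (.nd .nil (.nd .nil (.nd (.nd (.nd (.lf [154]) .nil) .nil) .nil)))) (.nd (.nd .nil (.nd (.nd (.nd (.nd .nil (.lf [1243])) .nil) .nil) .nil)) .nil)) (.nd (.nd .nil (.nd .nil (.nd .nil (.nd (.nd (.nd (.lf [214]) .nil) .nil) .nil)))) (.nd .nil (.nd .nil (.nd (.nd (.nd .nil (.nd (.lf [0]) .nil)) .nil) (.nd .nil (.nd .nil (.nd (.lf [0]) .nil)))))))))) (.nd (.nd (.nd (.nd (.nd .nil (.nd (.nd .nil (.nd (.nd (.nd (.lf [0]) .nil) .nil) .nil)) (.nd .nil (.nd (.nd .nil (.nd (.lf [0]) .nil)) .nil)))) .nil) (.nd (.nd .nil (.nd (.nd .nil (.nd (.nd (.nd (.lf [0]) .nil) .nil) .nil)) (.nd (.nd .nil (.nd .nil (.nd (.lf [0]) .nil))) .nil))) (.nd (.nd .nil (.nd .nil (.nd .nil (.nd .nil (.nd .nil (.lf [110])))))) .nil))) (.nd (.nd (.nd .nil (.nd .nil (.nd (.nd .nil (.nd .nil (.nd (.lf [0]) .nil))) (.nd (.nd .nil (.nd (.lf [0]) .nil)) .nil)))) (.nd .nil (.nd .nil (.nd (.nd (.nd .nil (.nd (.lf [0]) .nil)) .nil) (.nd .nil (.nd .nil (.nd (.lf [0]) .nil))))))) (.nd (.nd (.nd .nil (.nd (.nd (.nd .nil (.nd (.lf [0]) .nil)) .nil) (.nd .nil (.nd .nil (.nd (.lf [0]) .nil))))) .nil) (.nd (.nd .nil (.nd (.nd .nil (.nd .nil (.nd (.lf [0]) .nil))) (.nd (.nd .nil (.nd (.lf [0]) .nil)) .nil))) .nil)))) (.nd (.nd (.nd (.nd (.nd .nil (.nd (.nd .nil (.nd (.nd (.lf [18]) .nil) .nil)) .nil)) (.nd (.nd .nil (.nd (.nd .nil (.nd (.lf [8]) .nil)) .nil)) (.nd .nil (.nd (.nd (.nd (.lf [5]) .nil) .nil) .nil)))) (.nd .nil (.nd (.nd (.nd .nil (.nd .nil (.nd (.lf [8]) .nil))) .nil) .nil))) (.nd (.nd (.nd .nil (.nd (.nd .nil (.nd (.nd (.lf [52]) .nil) .nil)) .nil)) (.nd .nil (.nd .nil (.nd (.nd (.nd (.lf [52]) .nil) .nil) .nil)))) .nil)) (.nd (.nd (.nd .nil (.nd .nil (.nd .nil (.nd (.nd (.nd (.lf [154]) .nil) .nil) .nil)))) (.nd .nil (.nd .nil (.nd (.nd (.nd .nil (.nd (.lf [0]) .nil)) .nil) (.nd .nil (.nd .nil (.nd (.lf [0]) .nil))))))) (.nd (.nd (.nd .nil (.nd (.nd (.nd .nil (.nd (.lf [0]) .nil)) .nil) (.nd .nil (.nd .nil (.nd (.lf [0]) .nil))))) (.nd .nil (.nd .nil (.nd (.nd (.nd (.lf [214]) .nil) .nil) .nil)))) (.nd (.nd .nil (.nd .nil (.nd .nil (.nd (.nd .nil (.lf [843])) (.nd .nil (.lf [174])))))) .nil)))))) (.nd (.nd (.nd (.nd (.nd (.nd (.nd .nil (.nd (.nd (.nd (.nd .nil (.lf [7])) .nil) .nil) (.nd (.nd (.nd .nil (.lf [11])) .nil) .nil))) .nil) (.nd (.nd .nil (.nd (.nd .nil (.nd (.nd .nil (.lf [53])) .nil)) (.nd .nil (.nd (.nd .nil (.lf [11])) .nil)))) .nil)) .nil) (.nd (.nd (.nd (.nd (.nd (.nd .nil (.nd (.nd (.lf [0]) .nil) .nil)) .nil) (.nd (.nd (.nd (.nd .nil (.lf [109])) (.nd (.lf [0]) .nil)) .nil) (.nd .nil (.nd .nil (.nd (.lf [0]) .nil))))) .nil) (.nd (.nd .nil (.nd .nil (.nd .nil (.nd (.nd (.lf [17]) .nil) .nil)))) .nil)) (.nd (.nd (.nd (.nd (.nd .nil (.nd (.nd (.lf [0]) .nil) .nil)) .nil) .nil) .nil) (.nd (.nd .nil (.nd .nil (.nd .nil (.nd (.nd (.lf [62]) .nil) (.nd .nil (.lf [258])))))) (.nd .nil (.nd (.nd (.nd .nil (.nd (.lf [0]) .nil)) .nil) (.nd .nil (.nd .nil (.nd (.lf [0]) .nil))))))))) (.nd (.nd (.nd (.nd (.nd .nil (.nd (.nd (.nd (.nd .nil (.lf [577])) .nil) (.nd (.nd (.lf [118]) .nil) .nil)) .nil)) .nil) (.nd (.nd .nil (.nd (.nd .nil (.nd .nil (.nd (.lf [0]) .nil))) .nil)) .nil)) (.nd (.nd (.nd .nil (.nd (.nd .nil (.nd (.nd (.lf [175]) .nil) .nil)) .nil)) (.nd (.nd .nil (.nd (.nd .nil (.nd (.lf [107]) .nil)) .nil)) .nil)) (.nd (.nd .nil (.nd .nil (.nd (.nd .nil (.nd (.lf [0]) .nil)) (.nd .nil (.nd .nil (.lf [78])))))) .nil))) (.nd (.nd (.nd (.nd .nil (.nd (.nd (.nd (.nd .nil (.lf [45])) (.nd (.lf [0]) .nil)) .nil) (.nd .nil (.nd .nil (.nd (.lf [0]) .nil))))) .nil) (.nd (.nd .nil (.nd (.nd (.nd (.nd .nil (.lf [45])) .nil) .nil) .nil)) .nil)) (.nd .nil (.nd .nil (.nd .nil (.nd (.nd (.nd .nil (.nd (.lf [0]) .nil)) .nil) (.nd .nil (.nd .nil (.nd (.lf [0]) .nil)))))))))) (.nd (.nd .nil (.nd (.nd (.nd (.nd (.nd (.nd .nil (.nd (.nd (.lf [0]) .nil) .nil)) .nil) .nil) .nil) (.nd (.nd .nil (.nd .nil (.nd .nil (.nd (.nd (.lf [32]) .nil) .nil)))) (.nd .nil (.nd (.nd (.nd .nil (.nd (.lf [0]) .nil)) .nil) (.nd .nil (.nd .nil (.nd (.lf [0]) .nil))))))) (.nd (.nd (.nd (.nd (.nd .nil (.nd (.nd (.lf [0]) .nil) .nil)) .nil) (.nd (.nd (.nd .nil (.nd (.lf [0]) .nil)) .nil) (.nd .nil (.nd (.nd .nil (.lf [153])) (.nd (.lf [0]) .nil))))) .nil) (.nd (.nd .nil (.nd .nil (.nd .nil (.nd (.nd (.lf [73]) .nil) .nil)))) .nil)))) (.nd (.nd (.nd (.nd (.nd .nil (.nd (.nd .nil (.nd (.nd (.lf [201]) .nil) .nil)) .nil)) (.nd (.nd .nil (.nd (.nd .nil (.nd (.lf [8]) .nil)) .nil)) .nil)) (.nd (.nd .nil (.nd .nil (.nd (.nd .nil (.nd (.lf [0]) .nil)) .nil))) .nil)) (.nd (.nd (.nd .nil (.nd (.nd .nil (.nd (.nd (.lf [159]) .nil) .nil)) .nil)) .nil) (.nd (.nd .nil (.nd (.nd .nil (.nd .nil (.nd (.lf [0]) .nil))) .nil)) .nil))) (.nd (.nd .nil (.nd .nil (.nd .nil (.nd (.nd (.nd .nil (.nd (.lf [0]) .nil)) .nil) (.nd .nil (.nd .nil (.nd (.lf [0]) .nil))))))) (.nd (.nd (.nd .nil (.nd (.nd (.nd .nil (.nd (.lf [0]) .nil)) .nil) (.nd .nil (.nd (.nd .nil (.lf [45])) (.nd (.lf [0]) .nil))))) .nil) (.nd (.nd .nil (.nd .nil (.nd .nil (.nd (.nd .nil (.lf [45])) .nil)))) .nil))))))) (.nd (.nd (.nd (.nd (.nd (.nd (.nd .nil (.nd .nil (.nd (.nd .nil (.nd .nil (.nd (.lf [0]) .nil))) .nil))) (.nd (.nd .nil (.nd .nil (.nd .nil (.nd .nil (.nd .nil (.lf [42])))))) .nil)) (.nd (.nd (.nd (.nd (.nd (.nd .nil (.nd (.lf [304]) .nil)) .nil) .nil) .nil) (.nd .nil (.nd .nil (.nd (.nd .nil (.nd (.lf [0]) .nil)) .nil)))) .nil)) (.nd (.nd (.nd (.nd .nil (.nd (.nd (.nd .nil (.nd (.lf [0]) .nil)) .nil) (.nd .nil (.nd .nil (.nd (.lf [0]) .nil))))) .nil) (.nd (.nd (.nd .nil (.nd (.nd .nil (.nd (.lf [22]) .nil)) .nil)) (.nd (.nd .nil (.nd .nil (.nd (.lf [0]) .nil))) (.nd (.nd .nil (.nd (.lf [0]) .nil)) .nil))) (.nd (.nd (.nd (.nd .nil (.nd (.lf [6]) .nil)) .nil) .nil) .nil))) (.nd (.nd (.nd (.nd (.nd (.nd .nil (.nd (.lf [22]) .nil)) .nil) .nil) .nil) (.nd (.nd .nil (.nd (.nd .nil (.nd (.lf [19]) .nil)) .nil)) (.nd (.nd .nil (.nd .nil (.nd (.lf [0]) .nil))) (.nd (.nd .nil (.nd (.lf [0]) .nil)) .nil)))) (.nd .nil (.nd .nil (.nd (.nd (.nd .nil (.nd (.lf [0]) .nil)) .nil) (.nd .nil (.nd .nil (.nd (.lf [0]) .nil))))))))) (.nd (.nd (.nd (.nd (.nd .nil (.nd (.nd .nil (.nd (.nd (.lf [8]) .nil) .nil)) .nil)) (.nd .nil (.nd .nil (.nd (.nd (.nd (.lf [8]) .nil) .nil) .nil)))) .nil) (.nd (.nd (.nd (.nd (.nd (.nd .nil (.nd (.lf [83]) .nil)) .nil) .nil) (.nd (.nd .nil (.nd (.nd (.lf [52]) .nil) .nil)) .nil)) (.nd .nil (.nd .nil (.nd (.nd (.nd (.lf [52]) .nil) .nil) .nil)))) (.nd (.nd (.nd .nil (.nd .nil (.nd .nil (.nd (.lf [83]) .nil)))) .nil) .nil))) (.nd (.nd (.nd (.nd .nil (.nd (.nd (.nd .nil (.nd (.lf [0]) .nil)) .nil) (.nd .nil (.nd .nil (.nd (.lf [0]) .nil))))) (.nd (.nd .nil (.nd (.nd (.nd (.lf [0]) .nil) .nil) .nil)) (.nd .nil (.nd (.nd (.nd (.lf [19]) .nil) .nil) .nil)))) (.nd (.nd .nil (.nd .nil (.nd .nil (.nd (.nd .nil (.lf [4])) (.nd .nil (.lf [134])))))) (.nd (.nd (.nd (.nd .nil (.nd (.lf [19]) .nil)) .nil) .nil) .nil))) (.nd (.nd (.nd (.nd (.nd (.nd .nil (.nd (.lf [22]) .nil)) .nil) .nil) .nil) (.nd (.nd .nil (.nd (.nd (.nd (.lf [0]) .nil) .nil) .nil)) (.nd .nil (.nd (.nd (.nd (.lf [19]) .nil) .nil) .nil)))) (.nd .nil (.nd .nil (.nd (.nd (.nd .nil (.nd (.lf [0]) .nil)) .nil) (.nd .nil (.nd .nil (.nd (.lf [0]) .nil)))))))))) (.nd (.nd (.nd (.nd (.nd (.nd (.nd (.nd (.nd .nil (.nd (.lf [4]) .nil)) .nil) .nil) .nil) (.nd .nil (.nd .nil (.nd (.nd .nil (.nd (.lf [0]) .nil)) .nil)))) .nil) (.nd (.nd .nil (.nd .nil (.nd (.nd .nil (.nd .nil (.nd (.lf [0]) .nil))) .nil))) (.nd (.nd .nil (.nd .nil (.nd .nil (.nd (.nd .nil (.lf [7])) .nil)))) .nil))) (.nd (.nd (.nd (.nd (.nd (.nd (.nd .nil (.nd (.lf [4]) .nil)) .nil) .nil) .nil) (.nd (.nd .nil (.nd (.nd .nil (.nd (.lf [19]) .nil)) .nil)) (.nd (.nd .nil (.nd .nil (.nd (.lf [0]) .nil))) (.nd (.nd .nil (.nd (.lf [0]) .nil)) .nil)))) (.nd .nil (.nd .nil (.nd (.nd (.nd .nil (.nd (.lf [0]) .nil)) .nil) (.nd .nil (.nd .nil (.nd (.lf [0]) .nil))))))) (.nd (.nd (.nd .nil (.nd (.nd (.nd .nil (.nd (.lf [0]) .nil)) .nil) (.nd .nil (.nd .nil (.nd (.lf [0]) .nil))))) .nil) (.nd (.nd (.nd .nil (.nd (.nd .nil (.nd (.lf [22]) .nil)) .nil)) (.nd (.nd .nil (.nd .nil (.nd (.lf [0]) .nil))) (.nd (.nd .nil (.nd (.lf [0]) .nil)) .nil))) (.nd (.nd (.nd (.nd .nil (.nd (.lf [19]) .nil)) .nil) .nil) .nil))))) (.nd (.nd (.nd (.nd (.nd (.nd (.nd (.nd .nil (.nd (.lf [32]) .nil)) .nil) .nil) (.nd (.nd .nil (.nd (.nd (.lf [52]) .nil) .nil)) .nil)) (.nd .nil (.nd .nil (.nd (.nd (.nd (.lf [52]) .nil) .nil) .nil)))) (.nd (.nd (.nd .nil (.nd .nil (.nd .nil (.nd (.lf [6]) .nil)))) .nil) .nil)) (.nd (.nd (.nd .nil (.nd (.nd .nil (.nd (.nd (.lf [52]) .nil) .nil)) .nil)) (.nd .nil (.nd .nil (.nd (.nd (.nd (.lf [52]) .nil) .nil) .nil)))) .nil)) (.nd (.nd (.nd (.nd (.nd (.nd (.nd .nil (.nd (.lf [22]) .nil)) .nil) .nil) .nil) (.nd (.nd .nil (.nd (.nd (.nd (.lf [0]) .nil) .nil) .nil)) (.nd .nil (.nd (.nd (.nd (.lf [19]) .nil) .nil) .nil)))) (.nd .nil (.nd .nil (.nd (.nd (.nd .nil (.nd (.lf [0]) .nil)) .nil) (.nd .nil (.nd .nil (.nd (.lf [0]) .nil))))))) (.nd (.nd (.nd .nil (.nd (.nd (.nd .nil (.nd (.lf [0]) .nil)) .nil) (.nd .nil (.nd .nil (.nd (.lf [0]) .nil))))) (.nd (.nd .nil (.nd (.nd (.nd (.lf [0]) .nil) .nil) .nil)) (.nd .nil (.nd (.nd (.nd (.lf [19]) .nil) .nil) .nil)))) (.nd (.nd .nil (.nd (.nd (.nd (.nd .nil (.lf [36])) .nil) .nil) .nil)) (.nd (.nd (.nd (.nd .nil (.nd (.lf [19]) .nil)) .nil) .nil) .nil))))))) (.nd (.nd (.nd .nil (.nd (.nd (.nd (.nd .nil (.nd (.nd (.nd .nil (.nd (.lf [0]) .nil)) .nil) (.nd .nil (.nd (.nd .nil (.lf [1076])) (.nd (.lf [0]) .nil))))) .nil) (.nd (.nd (.nd .nil (.nd (.nd .nil (.nd (.lf [66]) .nil)) .nil)) (.nd .nil (.nd .nil (.nd (.nd (.lf [189]) .nil) .nil)))) .nil)) (.nd (.nd .nil (.nd (.nd .nil (.nd (.nd .nil (.nd (.lf [42]) .nil)) .nil)) .nil)) (.nd (.nd .nil (.nd .nil (.nd .nil (.nd (.nd (.lf [156]) .nil) .nil)))) (.nd .nil (.nd (.nd (.nd .nil (.nd (.lf [0]) .nil)) .nil) (.nd .nil (.nd .nil (.nd (.lf [0]) .nil))))))))) (.nd (.nd (.nd (.nd (.nd (.nd (.nd .nil (.nd (.nd (.lf [0]) .nil) .nil)) .nil) (.nd (.nd .nil (.nd (.nd (.lf [8]) .nil) .nil)) .nil)) .nil) (.nd (.nd .nil (.nd (.nd .nil (.nd .nil (.nd (.lf [0]) .nil))) .nil)) .nil)) (.nd (.nd (.nd (.nd (.nd .nil (.nd (.nd (.lf [0]) .nil) .nil)) .nil) (.nd (.nd .nil (.nd (.nd (.lf [123]) .nil) .nil)) .nil)) .nil) (.nd (.nd .nil (.nd .nil (.nd (.nd .nil (.nd (.lf [0]) .nil)) .nil))) .nil))) (.nd (.nd (.nd (.nd .nil (.nd (.nd (.nd .nil (.nd (.lf [0]) .nil)) .nil) (.nd .nil (.nd (.nd .nil (.lf [14])) (.nd (.lf [0]) .nil))))) .nil) (.nd (.nd .nil (.nd .nil (.nd .nil (.nd (.nd .nil (.lf [4])) .nil)))) .nil)) (.nd .nil (.nd .nil (.nd .nil (.nd (.nd (.nd .nil (.nd (.lf [0]) .nil)) .nil) (.nd .nil (.nd .nil (.nd (.lf [0]) .nil)))))))))) (.nd (.nd (.nd .nil (.nd (.nd (.nd .nil (.nd (.nd (.nd (.nd .nil (.lf [59])) .nil) .nil) (.nd (.nd (.nd .nil (.lf [5])) .nil) .nil))) .nil) (.nd (.nd .nil (.nd (.nd .nil (.nd (.nd .nil (.lf [29])) .nil)) (.nd .nil (.nd (.nd .nil (.lf [7])) .nil)))) .nil))) (.nd (.nd (.nd .nil (.nd (.nd .nil (.nd (.nd .nil (.nd (.lf [32]) .nil)) .nil)) .nil)) (.nd (.nd .nil (.nd .nil (.nd .nil (.nd (.nd (.lf [214]) .nil) (.nd .nil (.lf [48])))))) (.nd .nil (.nd (.nd (.nd .nil (.nd (.lf [0]) .nil)) .nil) (.nd .nil (.nd .nil (.nd (.lf [0]) .nil))))))) (.nd (.nd (.nd .nil (.nd (.nd (.nd (.nd .nil (.lf [360])) (.nd (.lf [0]) .nil)) .nil) (.nd .nil (.nd .nil (.nd (.lf [0]) .nil))))) .nil) (.nd (.nd (.nd .nil (.nd (.nd .nil (.nd (.lf [66]) .nil)) .nil)) (.nd .nil (.nd .nil (.nd (.nd (.lf [156]) .nil) .nil)))) .nil)))) (.nd (.nd (.nd (.nd (.nd (.nd (.nd .nil (.nd (.nd (.lf [0]) .nil) .nil)) .nil) (.nd (.nd .nil (.nd (.nd (.lf [214]) .nil) .nil)) .nil)) .nil) (.nd (.nd .nil (.nd .nil (.nd (.nd .nil (.nd (.lf [0]) .nil)) (.nd .nil (.nd .nil (.lf [159])))))) .nil)) (.nd (.nd (.nd (.nd (.nd .nil (.nd (.nd (.lf [0]) .nil) .nil)) .nil) (.nd (.nd (.nd (.nd .nil (.lf [14])) .nil) (.nd (.nd (.lf [214]) .nil) .nil)) .nil)) .nil) (.nd (.nd .nil (.nd (.nd .nil (.nd .nil (.nd (.lf [0]) .nil))) .nil)) .nil))) (.nd (.nd .nil (.nd .nil (.nd .nil (.nd (.nd (.nd .nil (.nd (.lf [0]) .nil)) .nil) (.nd .nil (.nd .nil (.nd (.lf [0]) .nil))))))) (.nd (.nd (.nd .nil (.nd (.nd (.nd (.nd .nil (.lf [14])) (.nd (.lf [0]) .nil)) .nil) (.nd .nil (.nd .nil (.nd (.lf [0]) .nil))))) .nil) (.nd (.nd .nil (.nd (.nd (.nd (.nd .nil (.lf [14])) .nil) .nil) .nil)) .nil)))))))) (.nd (.nd (.nd (.nd (.nd (.nd (.nd (.nd (.nd .nil (.nd (.nd (.nd .nil (.nd (.lf [0]) .nil)) .nil) .nil)) .nil) (.nd .nil (.nd .nil (.nd (.nd (.nd .nil (.nd (.lf [0]) .nil)) .nil) .nil)))) (.nd (.nd .nil (.nd .nil (.nd (.nd .nil (.nd .nil (.nd (.lf [0]) (.lf [46])))) .nil))) (.nd (.nd .nil (.nd (.nd .nil (.nd .nil (.nd (.lf [0]) .nil))) (.nd (.nd .nil (.nd .nil (.lf [68]))) .nil))) .nil))) (.nd (.nd (.nd .nil (.nd .nil (.nd (.nd .nil (.nd .nil (.nd (.lf [0]) .nil))) .nil))) (.nd (.nd .nil (.nd (.nd (.nd (.nd .nil (.lf [1057])) .nil) .nil) (.nd (.nd .nil (.nd (.lf [0]) .nil)) .nil))) .nil)) (.nd .nil (.nd (.nd .nil (.nd .nil (.nd (.nd .nil (.nd .nil (.lf [26]))) .nil))) .nil)))) (.nd (.nd (.nd (.nd (.nd .nil (.nd (.nd (.nd .nil (.nd (.lf [0]) .nil)) (.nd (.nd (.lf [214]) .nil) .nil)) .nil)) .nil) (.nd .nil (.nd .nil (.nd (.nd (.nd .nil (.nd (.lf [0]) .nil)) .nil) .nil)))) (.nd (.nd (.nd .nil (.nd (.nd .nil (.nd (.nd (.lf [132]) .nil) .nil)) .nil)) (.nd (.nd .nil (.nd (.nd .nil (.nd (.lf [73]) .nil)) .nil)) (.nd (.nd .nil (.nd .nil (.nd .nil (.lf [200])))) .nil))) (.nd (.nd (.nd .nil (.nd (.nd .nil (.nd (.lf [66]) .nil)) .nil)) (.nd .nil (.nd (.nd .nil (.nd .nil (.lf [68]))) (.nd (.nd .nil (.lf [48])) .nil)))) .nil))) (.nd .nil (.nd (.nd .nil (.nd .nil (.nd (.nd (.nd .nil (.nd .nil (.lf [38]))) .nil) .nil))) (.nd (.nd .nil (.nd .nil (.nd (.nd .nil (.nd .nil (.lf [68]))) .nil))) .nil))))) (.nd (.nd (.nd (.nd (.nd .nil (.nd .nil (.nd (.nd .nil (.nd .nil (.nd (.lf [0]) .nil))) .nil))) (.nd (.nd .nil (.nd (.nd .nil (.nd .nil (.nd (.lf [0]) .nil))) .nil)) .nil)) (.nd (.nd (.nd .nil (.nd (.nd (.nd .nil (.nd (.lf [0]) .nil)) .nil) .nil)) (.nd .nil (.nd (.nd (.nd .nil (.nd .nil (.lf [46]))) .nil) .nil))) (.nd (.nd .nil (.nd .nil (.nd .nil (.nd .nil (.nd .nil (.lf [68])))))) (.nd .nil (.nd (.nd (.nd .nil (.nd (.lf [0]) .nil)) .nil) .nil))))) (.nd (.nd .nil (.nd (.nd .nil (.nd .nil (.nd .nil (.nd (.nd .nil (.lf [867])) .nil)))) .nil)) (.nd (.nd .nil (.nd .nil (.nd (.nd .nil (.nd .nil (.nd (.lf [0]) (.lf [200])))) .nil))) (.nd (.nd .nil (.nd .nil (.nd (.nd .nil (.nd (.lf [0]) .nil)) .nil))) .nil)))) (.nd (.nd (.nd (.nd (.nd .nil (.nd (.nd .nil (.nd (.nd (.lf [214]) .nil) .nil)) .nil)) (.nd (.nd .nil (.nd (.nd .nil (.nd (.lf [8]) .nil)) .nil)) .nil)) (.nd (.nd (.nd .nil (.nd (.nd .nil (.nd (.lf [66]) .nil)) .nil)) .nil) .nil)) (.nd (.nd (.nd .nil (.nd (.nd (.nd .nil (.nd (.lf [0]) .nil)) (.nd (.nd (.lf [132]) .nil) .nil)) .nil)) .nil) (.nd .nil (.nd .nil (.nd (.nd (.nd .nil (.nd (.lf [0]) .nil)) .nil) .nil))))) (.nd .nil (.nd (.nd .nil (.nd .nil (.nd (.nd .nil (.nd .nil (.nd .nil (.lf [41])))) .nil))) (.nd (.nd .nil (.nd .nil (.nd .nil (.nd .nil (.nd .nil (.lf [42])))))) .nil)))))) (.nd (.nd (.nd (.nd (.nd (.nd (.nd (.nd (.nd (.nd (.nd (.lf [0]) .nil) (.nd (.lf [19]) .nil)) .nil) .nil) (.nd (.nd (.nd (.nd .nil (.lf [14])) (.nd (.lf [0]) .nil)) .nil) .nil)) .nil) (.nd .nil (.nd (.nd (.nd (.nd .nil (.nd (.lf [22]) .nil)) .nil) .nil) (.nd (.nd (.nd (.nd (.lf [19]) .nil) (.nd (.lf [0]) .nil)) .nil) .nil)))) (.nd (.nd (.nd (.nd (.nd (.nd (.nd (.lf [0]) .nil) .nil) .nil) .nil) .nil) (.nd .nil (.nd (.nd .nil (.nd .nil (.nd .nil (.lf [200])))) .nil))) (.nd (.nd .nil (.nd .nil (.nd (.nd .nil (.nd .nil (.lf [68]))) .nil))) (.nd .nil (.nd (.nd (.nd (.nd (.lf [19]) .nil) .nil) .nil) .nil))))) (.nd (.nd (.nd (.nd (.nd (.nd (.nd (.nd (.lf [0]) .nil) (.nd (.lf [118]) .nil)) (.nd (.nd (.lf [0]) .nil) (.nd (.lf [125]) .nil))) .nil) (.nd (.nd (.nd (.nd .nil (.lf [14])) .nil) (.nd (.nd .nil (.lf [2])) .nil)) .nil)) .nil) (.nd (.nd .nil (.nd (.nd (.nd (.nd .nil (.lf [2])) .nil) (.nd (.nd .nil (.lf [30])) .nil)) .nil)) .nil)) (.nd (.nd (.nd (.nd (.nd (.nd (.nd (.lf [0]) .nil) .nil) (.nd (.nd (.lf [0]) .nil) .nil)) .nil) .nil) .nil) (.nd (.nd .nil (.nd .nil (.nd (.nd .nil (.nd .nil (.lf [26]))) (.nd .nil (.nd .nil (.lf [2])))))) (.nd .nil (.nd .nil (.nd (.nd .nil (.nd .nil (.lf [34]))) (.nd .nil (.nd .nil (.lf [13])))))))))) (.nd (.nd (.nd (.nd (.nd (.nd (.nd (.nd (.nd (.lf [0]) .nil) (.nd (.lf [3]) .nil)) .nil) .nil) (.nd (.nd (.nd (.nd .nil (.lf [188])) (.nd (.lf [0]) (.lf [50]))) (.nd (.nd (.lf [50]) (.lf [64])) (.nd .nil (.lf [3])))) .nil)) (.nd (.nd .nil (.nd (.nd (.nd (.lf [0]) .nil) .nil) .nil)) (.nd .nil (.nd (.nd (.nd (.lf [22]) .nil) .nil) .nil)))) (.nd (.nd .nil (.nd .nil (.nd .nil (.nd (.nd (.lf [50]) .nil) .nil)))) (.nd (.nd (.nd (.nd .nil (.nd (.lf [16]) .nil)) .nil) .nil) (.nd (.nd (.nd (.nd (.lf [19]) .nil) (.nd (.lf [0]) .nil)) .nil) (.nd (.nd .nil (.nd .nil (.lf [18]))) (.nd .nil (.nd .nil (.lf [18])))))))) (.nd (.nd (.nd (.nd (.nd (.nd (.nd (.lf [0]) .nil) .nil) .nil) .nil) (.nd (.nd .nil (.nd (.nd (.lf [50]) .nil) .nil)) .nil)) (.nd (.nd .nil (.nd (.nd (.nd (.lf [0]) .nil) (.nd (.lf [22]) .nil)) .nil)) (.nd (.nd (.nd .nil (.nd .nil (.lf [50]))) (.nd .nil (.nd .nil (.lf [50])))) (.nd (.nd (.nd (.lf [22]) .nil) (.nd (.lf [0]) .nil)) .nil)))) (.nd (.nd (.nd .nil (.nd (.nd .nil (.nd (.lf [15]) .nil)) .nil)) (.nd .nil (.nd (.nd (.nd .nil (.lf [210])) (.nd (.lf [0]) (.lf [15]))) (.nd (.nd (.lf [50]) (.lf [48])) (.nd .nil (.lf [6])))))) (.nd .nil (.nd (.nd (.nd (.nd (.lf [19]) .nil) .nil) .nil) .nil))))) (.nd (.nd (.nd (.nd (.nd (.nd (.nd (.nd (.lf [0]) .nil) (.nd (.lf [80]) .nil)) .nil) .nil) (.nd (.nd (.nd (.nd .nil (.lf [59])) .nil) .nil) .nil)) (.nd .nil (.nd .nil (.nd (.nd (.nd (.lf [167]) .nil) .nil) .nil)))) .nil) (.nd (.nd (.nd (.nd (.nd (.nd (.nd (.lf [0]) .nil) .nil) .nil) .nil) .nil) (.nd .nil (.nd .nil (.nd (.nd (.nd (.lf [169]) .nil) (.nd (.lf [0]) .nil)) .nil)))) (.nd (.nd .nil (.nd (.nd .nil (.nd .nil (.nd (.lf [0]) .nil))) (.nd (.nd .nil (.nd .nil (.lf [68]))) .nil))) .nil))))) (.nd (.nd (.nd (.nd (.nd (.nd (.nd (.nd (.nd (.nd (.lf [0]) .nil) .nil) .nil) .nil) .nil) .nil) (.nd .nil (.nd .nil (.nd (.nd (.nd (.nd (.lf [19]) .nil) .nil) .nil) .nil)))) (.nd (.nd (.nd (.nd (.nd (.nd (.nd (.lf [0]) .nil) (.nd (.lf [19]) .nil)) .nil) .nil) (.nd (.nd (.nd .nil (.nd (.lf [0]) .nil)) .nil) .nil)) .nil) (.nd .nil (.nd (.nd (.nd (.nd .nil (.nd (.lf [22]) .nil)) .nil) .nil) (.nd (.nd (.nd (.nd (.lf [19]) .nil) (.nd (.lf [0]) .nil)) .nil) .nil))))) (.nd (.nd (.nd (.nd (.nd (.nd (.nd (.nd (.lf [0]) .nil) .nil) (.nd (.nd (.lf [0]) .nil) .nil)) .nil) (.nd .nil (.nd (.nd (.nd .nil (.lf [2])) .nil) (.nd (.nd .nil (.lf [14])) .nil)))) .nil) (.nd (.nd .nil (.nd .nil (.nd (.nd (.nd .nil (.lf [18])) .nil) (.nd (.nd .nil (.lf [2])) .nil)))) .nil)) (.nd (.nd (.nd (.nd (.nd (.nd (.nd (.lf [0]) .nil) (.nd (.lf [194]) .nil)) (.nd (.nd (.lf [0]) .nil) (.nd (.lf [194]) .nil))) .nil) (.nd (.nd (.nd .nil (.nd .nil (.lf [25]))) (.nd .nil (.nd .nil (.lf [2])))) .nil)) (.nd .nil (.nd (.nd (.nd .nil (.nd .nil (.lf [25]))) (.nd .nil (.nd .nil (.lf [13])))) .nil))) .nil))) (.nd (.nd (.nd (.nd (.nd (.nd (.nd (.nd (.nd (.lf [0]) .nil) .nil) .nil) .nil) (.nd (.nd .nil (.nd (.nd (.lf [50]) .nil) .nil)) .nil)) (.nd (.nd .nil (.nd (.nd (.nd (.lf [0]) .nil) (.nd (.lf [2]) .nil)) .nil)) (.nd .nil (.nd (.nd (.nd (.lf [2]) .nil) (.nd (.lf [0]) .nil)) .nil)))) (.nd (.nd (.nd .nil (.nd (.nd .nil (.nd (.lf [2]) .nil)) .nil)) (.nd .nil (.nd (.nd .nil (.nd (.lf [0]) .nil)) (.nd (.nd (.lf [50]) .nil) .nil)))) (.nd .nil (.nd (.nd (.nd (.nd (.lf [19]) .nil) .nil) .nil) .nil)))) (.nd (.nd (.nd (.nd (.nd (.nd (.nd (.lf [0]) .nil) (.nd (.lf [13]) .nil)) .nil) .nil) (.nd (.nd (.nd .nil (.nd (.lf [0]) .nil)) (.nd (.nd (.lf [50]) .nil) .nil)) .nil)) (.nd (.nd .nil (.nd (.nd (.nd (.lf [0]) .nil) .nil) .nil)) (.nd .nil (.nd (.nd (.nd (.lf [22]) .nil) .nil) .nil)))) (.nd (.nd .nil (.nd .nil (.nd .nil (.nd (.nd (.lf [50]) .nil) .nil)))) (.nd (.nd (.nd (.nd .nil (.nd (.lf [3]) .nil)) .nil) .nil) (.nd (.nd (.nd (.nd (.lf [13]) .nil) (.nd (.lf [0]) .nil)) .nil) .nil))))) (.nd (.nd (.nd (.nd (.nd (.nd (.nd (.nd (.lf [0]) .nil) .nil) .nil) .nil) (.nd .nil (.nd .nil (.nd (.nd .nil (.lf [153])) .nil)))) (.nd .nil (.nd .nil (.nd (.nd (.nd (.lf [80]) .nil) (.nd (.lf [0]) .nil)) .nil)))) (.nd (.nd .nil (.nd (.nd .nil (.nd .nil (.nd (.lf [0]) .nil))) .nil)) .nil)) (.nd (.nd (.nd (.nd (.nd (.nd (.nd (.lf [0]) .nil) (.nd (.lf [17]) .nil)) .nil) .nil) .nil) (.nd .nil (.nd (.nd .nil (.nd .nil (.nd .nil (.lf [200])))) (.nd (.nd (.nd (.lf [169]) .nil) .nil) .nil)))) .nil)))))) (.nd (.nd (.nd (.nd (.nd (.nd (.nd (.nd .nil (.nd (.nd (.nd .nil (.nd (.lf [0]) .nil)) .nil) .nil)) (.nd .nil (.nd (.nd (.nd .nil (.nd .nil (.lf [75]))) .nil) .nil))) (.nd (.nd .nil (.nd .nil (.nd .nil (.nd .nil (.nd .nil (.lf [41])))))) (.nd .nil (.nd (.nd (.nd .nil (.nd (.lf [0]) .nil)) .nil) .nil)))) (.nd (.nd .nil (.nd .nil (.nd (.nd .nil (.nd .nil (.nd (.lf [0]) .nil))) .nil))) (.nd (.nd .nil (.nd (.nd .nil (.nd .nil (.nd (.lf [0]) .nil))) .nil)) .nil))) (.nd (.nd (.nd .nil (.nd (.nd .nil (.nd .nil (.nd (.nd (.lf [0]) .nil) .nil))) (.nd (.nd .nil (.nd .nil (.nd (.lf [0]) (.lf [75])))) .nil))) (.nd (.nd .nil (.nd .nil (.nd (.nd .nil (.nd (.lf [0]) .nil)) .nil))) .nil)) (.nd (.nd .nil (.nd (.nd .nil (.nd (.nd .nil (.nd (.lf [92]) .nil)) (.nd (.nd (.lf [0]) .nil) .nil))) .nil)) (.nd (.nd .nil (.nd .nil (.nd .nil (.nd (.nd .nil (.lf [47])) .nil)))) .nil)))) (.nd (.nd (.nd (.nd (.nd .nil (.nd (.nd (.nd .nil (.nd (.lf [0]) .nil)) (.nd (.nd (.lf [8]) .nil) .nil)) .nil)) (.nd (.nd .nil (.nd .nil (.nd (.nd (.lf [0]) .nil) .nil))) .nil)) (.nd .nil (.nd .nil (.nd (.nd (.nd .nil (.nd (.lf [0]) .nil)) .nil) .nil)))) (.nd (.nd (.nd .nil (.nd (.nd .nil (.nd (.nd (.lf [66]) .nil) .nil)) .nil)) (.nd (.nd .nil (.nd .nil (.nd (.nd (.lf [0]) .nil) .nil))) .nil)) .nil)) (.nd (.nd (.nd .nil (.nd .nil (.nd (.nd .nil (.nd .nil (.nd .nil (.lf [75])))) .nil))) (.nd (.nd .nil (.nd .nil (.nd .nil (.nd .nil (.nd .nil (.lf [46])))))) .nil)) .nil))) (.nd (.nd (.nd (.nd (.nd .nil (.nd .nil (.nd (.nd .nil (.nd .nil (.nd (.lf [0]) (.lf [75])))) .nil))) (.nd (.nd .nil (.nd (.nd .nil (.nd .nil (.nd (.lf [0]) .nil))) (.nd (.nd .nil (.nd .nil (.lf [41]))) .nil))) .nil)) (.nd (.nd (.nd .nil (.nd (.nd (.nd .nil (.nd (.lf [0]) .nil)) .nil) .nil)) .nil) (.nd .nil (.nd .nil (.nd (.nd (.nd .nil (.nd (.lf [0]) .nil)) .nil) .nil))))) (.nd (.nd (.nd .nil (.nd (.nd .nil (.nd (.nd .nil (.nd (.lf [155]) .nil)) (.nd (.nd (.lf [0]) .nil) .nil))) .nil)) (.nd (.nd .nil (.nd .nil (.nd (.nd .nil (.nd .nil (.lf [200]))) .nil))) .nil)) (.nd (.nd .nil (.nd (.nd .nil (.nd .nil (.nd (.nd (.lf [0]) .nil) .nil))) (.nd (.nd .nil (.nd .nil (.nd (.lf [0]) .nil))) .nil))) (.nd (.nd .nil (.nd (.nd (.nd (.nd .nil (.lf [47])) .nil) .nil) (.nd (.nd .nil (.nd (.lf [0]) .nil)) .nil))) .nil)))) (.nd (.nd (.nd (.nd (.nd .nil (.nd (.nd .nil (.nd (.nd (.lf [66]) .nil) .nil)) .nil)) (.nd (.nd .nil (.nd .nil (.nd (.nd (.lf [0]) .nil) .nil))) (.nd (.nd .nil (.nd .nil (.nd .nil (.lf [75])))) .nil))) (.nd (.nd .nil (.nd .nil (.nd (.nd .nil (.nd .nil (.lf [133]))) (.nd (.nd .nil (.lf [27])) .nil)))) .nil)) (.nd (.nd (.nd .nil (.nd (.nd (.nd .nil (.nd (.lf [0]) .nil)) (.nd (.nd (.lf [66]) .nil) .nil)) .nil)) (.nd (.nd .nil (.nd .nil (.nd (.nd (.lf [0]) .nil) .nil))) .nil)) (.nd .nil (.nd .nil (.nd (.nd (.nd .nil (.nd (.lf [0]) .nil)) .nil) .nil))))) (.nd (.nd (.nd .nil (.nd .nil (.nd (.nd (.nd .nil (.nd .nil (.lf [75]))) .nil) .nil))) (.nd (.nd .nil (.nd .nil (.nd (.nd .nil (.nd .nil (.lf [46]))) .nil))) .nil)) .nil)))) (.nd (.nd (.nd (.nd (.nd (.nd (.nd .nil (.nd (.nd (.nd .nil (.nd (.lf [0]) .nil)) .nil) .nil)) .nil) (.nd .nil (.nd .nil (.nd (.nd (.nd (.nd (.lf [101]) .nil) (.nd (.lf [0]) .nil)) .nil) .nil)))) (.nd .nil (.nd .nil (.nd .nil (.nd (.nd (.nd (.nd (.lf [203]) .nil) .nil) .nil) .nil))))) (.nd (.nd (.nd (.nd .nil (.nd (.nd (.nd .nil (.nd .nil (.lf [2]))) (.nd .nil (.nd .nil (.lf [21])))) .nil)) (.nd (.nd .nil (.nd (.nd (.nd (.lf [0]) .nil) .nil) (.nd (.nd (.lf [0]) .nil) .nil))) (.nd (.nd (.nd .nil (.nd .nil (.lf [13]))) (.nd .nil (.nd .nil (.lf [21])))) .nil))) .nil) (.nd (.nd (.nd .nil (.nd .nil (.nd (.nd (.nd .nil (.lf [34])) .nil) (.nd (.nd .nil (.lf [2])) .nil)))) (.nd (.nd .nil (.nd (.nd (.nd (.lf [0]) .nil) (.nd (.lf [92]) .nil)) (.nd (.nd (.lf [0]) .nil) (.nd (.lf [64]) .nil)))) .nil)) (.nd (.nd .nil (.nd .nil (.nd (.nd (.nd .nil (.lf [2])) .nil) (.nd (.nd .nil (.lf [30])) .nil)))) .nil)))) (.nd (.nd (.nd (.nd (.nd (.nd (.nd .nil (.nd (.nd (.lf [0]) .nil) (.nd (.lf [49]) .nil))) .nil) (.nd (.nd (.nd .nil (.nd (.lf [0]) .nil)) (.nd (.nd (.lf [6]) .nil) .nil)) .nil)) (.nd (.nd .nil (.nd .nil (.nd (.nd (.lf [0]) .nil) .nil))) (.nd .nil (.nd (.nd (.nd (.lf [8]) .nil) .nil) .nil)))) (.nd (.nd .nil (.nd .nil (.nd .nil (.nd (.nd (.lf [50]) .nil) .nil)))) (.nd (.nd (.nd .nil (.nd .nil (.nd (.lf [49]) .nil))) .nil) (.nd (.nd (.nd (.nd (.lf [50]) .nil) (.nd (.lf [0]) .nil)) .nil) .nil)))) (.nd (.nd (.nd (.nd (.nd .nil (.nd (.nd (.lf [0]) .nil) .nil)) .nil) (.nd (.nd .nil (.nd (.nd (.lf [50]) .nil) .nil)) .nil)) (.nd (.nd .nil (.nd .nil (.nd (.nd (.lf [0]) .nil) (.nd (.lf [43]) .nil)))) (.nd .nil (.nd (.nd (.nd (.lf [50]) .nil) (.nd (.lf [0]) .nil)) .nil)))) (.nd (.nd (.nd .nil (.nd .nil (.nd .nil (.nd (.lf [43]) .nil)))) (.nd .nil (.nd (.nd .nil (.nd (.lf [0]) .nil)) (.nd (.nd (.lf [2]) .nil) .nil)))) (.nd .nil (.nd (.nd (.nd (.nd (.lf [32]) .nil) .nil) .nil) .nil))))) (.nd (.nd (.nd .nil (.nd .nil (.nd (.nd .nil (.nd .nil (.nd .nil (.lf [75])))) (.nd (.nd (.nd (.lf [214]) .nil) .nil) .nil)))) .nil) (.nd (.nd (.nd .nil (.nd .nil (.nd .nil (.nd (.nd .nil (.lf [1076])) .nil)))) (.nd .nil (.nd .nil (.nd (.nd (.nd (.lf [92]) .nil) (.nd (.lf [0]) .nil)) .nil)))) (.nd (.nd .nil (.nd (.nd .nil (.nd .nil (.nd (.lf [0]) .nil))) .nil)) .nil))))) (.nd (.nd (.nd (.nd (.nd .nil (.nd .nil (.nd (.nd .nil (.nd .nil (.nd .nil (.lf [75])))) .nil))) (.nd (.nd .nil (.nd .nil (.nd (.nd .nil (.nd .nil (.lf [200]))) .nil))) (.nd .nil (.nd (.nd (.nd (.nd (.lf [101]) .nil) .nil) .nil) .nil)))) (.nd (.nd (.nd .nil (.nd (.nd (.nd (.nd .nil (.lf [360])) (.nd (.lf [0]) .nil)) .nil) .nil)) .nil) (.nd .nil (.nd .nil (.nd (.nd (.nd (.nd (.lf [188]) .nil) (.nd (.lf [0]) .nil)) .nil) .nil))))) (.nd (.nd (.nd .nil (.nd (.nd .nil (.nd (.nd (.nd (.lf [0]) .nil) (.nd (.lf [208]) .nil)) (.nd (.nd (.lf [0]) .nil) (.nd (.lf [208]) .nil)))) .nil)) (.nd (.nd .nil (.nd .nil (.nd (.nd .nil (.nd .nil (.lf [2]))) (.nd .nil (.nd .nil (.lf [34])))))) (.nd .nil (.nd .nil (.nd (.nd .nil (.nd .nil (.lf [13]))) (.nd .nil (.nd .nil (.lf [26])))))))) (.nd (.nd (.nd .nil (.nd (.nd (.nd (.nd .nil (.lf [2])) .nil) (.nd (.nd .nil (.lf [24])) .nil)) .nil)) (.nd (.nd .nil (.nd (.nd (.nd (.lf [0]) .nil) .nil) (.nd (.nd (.lf [0]) .nil) .nil))) .nil)) (.nd (.nd .nil (.nd (.nd (.nd (.nd .nil (.lf [24])) .nil) (.nd (.nd .nil (.lf [2])) .nil)) .nil)) .nil)))) (.nd (.nd (.nd (.nd (.nd (.nd (.nd .nil (.nd (.nd (.lf [0]) .nil) .nil)) .nil) (.nd (.nd .nil (.nd (.nd (.lf [50]) .nil) .nil)) .nil)) (.nd (.nd .nil (.nd .nil (.nd (.nd (.lf [0]) .nil) (.nd (.lf [13]) .nil)))) (.nd (.nd (.nd .nil (.nd .nil (.lf [24]))) (.nd .nil (.nd .nil (.lf [15])))) (.nd (.nd (.nd (.lf [50]) .nil) (.nd (.lf [0]) .nil)) .nil)))) (.nd (.nd (.nd .nil (.nd .nil (.nd .nil (.nd (.lf [13]) .nil)))) (.nd .nil (.nd (.nd (.nd .nil (.lf [6])) (.nd (.lf [0]) (.lf [50]))) (.nd (.nd (.lf [8]) (.lf [133])) (.nd .nil (.lf [50])))))) (.nd .nil (.nd (.nd (.nd (.nd (.lf [8]) .nil) .nil) .nil) .nil)))) (.nd (.nd (.nd (.nd (.nd .nil (.nd (.nd (.lf [0]) .nil) (.nd (.lf [2]) .nil))) .nil) (.nd (.nd (.nd (.nd .nil (.lf [118])) (.nd (.lf [0]) (.lf [18]))) (.nd (.nd (.lf [32]) (.lf [125])) (.nd .nil (.lf [18])))) .nil)) (.nd (.nd .nil (.nd .nil (.nd (.nd (.lf [0]) .nil) .nil))) (.nd .nil (.nd (.nd (.nd (.lf [32]) .nil) .nil) .nil)))) (.nd (.nd .nil (.nd .nil (.nd .nil (.nd (.nd (.lf [50]) .nil) .nil)))) (.nd (.nd (.nd .nil (.nd .nil (.nd (.lf [2]) .nil))) .nil) (.nd (.nd (.nd (.nd (.lf [50]) .nil) (.nd (.lf [0]) .nil)) .nil) (.nd (.nd .nil (.nd .nil (.lf [3]))) (.nd .nil (.nd .nil (.lf [33]))))))))) (.nd (.nd (.nd .nil (.nd .nil (.nd .nil (.nd (.nd (.nd (.lf [199]) .nil) (.nd (.lf [0]) .nil)) .nil)))) (.nd (.nd .nil (.nd (.nd .nil (.nd .nil (.nd (.lf [0]) .nil))) (.nd (.nd .nil (.nd .nil (.lf [199]))) .nil))) .nil)) (.nd (.nd (.nd .nil (.nd (.nd (.nd (.nd .nil (.lf [577])) .nil) .nil) .nil)) (.nd .nil (.nd .nil (.nd (.nd (.nd (.lf [156]) .nil) .nil) .nil)))) .nil)))))))) (.nd (.nd (.nd (.nd (.nd (.nd (.nd (.nd (.nd .nil (.nd .nil (.nd .nil (.nd (.nd (.nd (.lf [139]) .nil) .nil) .nil)))) (.nd (.nd (.nd .nil (.nd .nil (.nd .nil (.nd (.lf [51]) .nil)))) (.nd .nil (.nd .nil (.nd (.nd (.lf [8]) .nil) .nil)))) .nil)) (.nd (.nd .nil (.nd (.nd .nil (.nd (.nd .nil (.nd (.lf [32]) .nil)) .nil)) (.nd .nil (.nd (.nd (.nd (.lf [139]) .nil) .nil) .nil)))) (.nd (.nd .nil (.nd .nil (.nd .nil (.nd (.nd (.lf [139]) .nil) .nil)))) .nil))) (.nd (.nd (.nd .nil (.nd .nil (.nd (.nd (.nd .nil (.nd .nil (.lf [103]))) .nil) (.nd (.nd (.nd (.lf [160]) .nil) .nil) .nil)))) (.nd (.nd .nil (.nd .nil (.nd .nil (.nd (.nd .nil (.lf [7])) (.nd .nil (.lf [158])))))) .nil)) (.nd (.nd (.nd .nil (.nd (.nd (.nd .nil (.nd (.lf [0]) .nil)) .nil) .nil)) (.nd .nil (.nd .nil (.nd (.nd (.nd (.lf [160]) .nil) .nil) .nil)))) (.nd .nil (.nd .nil (.nd (.nd (.nd .nil (.nd (.lf [0]) .nil)) .nil) .nil)))))) (.nd (.nd (.nd (.nd .nil (.nd (.nd .nil (.nd (.nd (.nd (.lf [0]) .nil) .nil) .nil)) .nil)) (.nd (.nd .nil (.nd .nil (.nd .nil (.nd .nil (.nd .nil (.lf [33])))))) .nil)) (.nd (.nd .nil (.nd (.nd .nil (.nd (.nd (.nd (.lf [0]) .nil) .nil) .nil)) (.nd .nil (.nd (.nd .nil (.nd (.lf [0]) .nil)) .nil)))) (.nd (.nd .nil (.nd (.nd (.nd (.nd .nil (.lf [36])) .nil) (.nd .nil (.nd (.lf [0]) .nil))) .nil)) .nil))) (.nd .nil (.nd (.nd (.nd .nil (.nd (.nd (.nd .nil (.nd (.lf [0]) .nil)) .nil) .nil)) (.nd .nil (.nd .nil (.nd (.nd .nil (.nd (.lf [0]) .nil)) .nil)))) (.nd (.nd .nil (.nd .nil (.nd (.nd .nil (.nd (.lf [0]) .nil)) .nil))) (.nd .nil (.nd (.nd (.nd .nil (.nd (.lf [0]) .nil)) .nil) .nil))))))) (.nd (.nd (.nd (.nd (.nd .nil (.nd (.nd .nil (.nd (.nd .nil (.nd (.lf [51]) .nil)) .nil)) (.nd .nil (.nd (.nd (.nd (.lf [8]) .nil) .nil) .nil)))) (.nd (.nd .nil (.nd .nil (.nd .nil (.nd (.nd (.lf [101]) .nil) .nil)))) .nil)) (.nd (.nd .nil (.nd .nil (.nd .nil (.nd (.nd (.nd (.lf [139]) .nil) .nil) .nil)))) (.nd (.nd (.nd .nil (.nd .nil (.nd .nil (.nd (.lf [32]) .nil)))) (.nd .nil (.nd .nil (.nd (.nd (.lf [139]) .nil) .nil)))) .nil))) (.nd (.nd (.nd (.nd .nil (.nd (.nd (.nd .nil (.nd (.lf [0]) .nil)) .nil) .nil)) (.nd .nil (.nd .nil (.nd (.nd (.nd (.lf [168]) .nil) .nil) .nil)))) (.nd .nil (.nd .nil (.nd (.nd (.nd .nil (.nd (.lf [0]) .nil)) .nil) .nil)))) (.nd (.nd .nil (.nd .nil (.nd .nil (.nd (.nd (.nd (.lf [214]) .nil) .nil) .nil)))) .nil))) (.nd (.nd (.nd (.nd .nil (.nd (.nd .nil (.nd (.nd (.nd (.lf [0]) .nil) .nil) .nil)) (.nd (.nd (.nd .nil (.nd .nil (.lf [146]))) .nil) (.nd (.nd .nil (.nd (.lf [0]) .nil)) .nil)))) (.nd (.nd .nil (.nd (.nd .nil (.nd .nil (.nd (.lf [0]) .nil))) .nil)) .nil)) (.nd (.nd .nil (.nd (.nd .nil (.nd (.nd (.nd (.lf [0]) .nil) .nil) .nil)) .nil)) (.nd (.nd .nil (.nd .nil (.nd .nil (.nd (.nd .nil (.lf [27])) .nil)))) .nil))) (.nd (.nd (.nd (.nd .nil (.nd (.nd (.nd .nil (.nd (.lf [0]) .nil)) .nil) .nil)) (.nd .nil (.nd .nil (.nd (.nd .nil (.nd (.lf [0]) .nil)) .nil)))) (.nd (.nd .nil (.nd .nil (.nd (.nd .nil (.nd (.lf [0]) .nil)) .nil))) (.nd .nil (.nd (.nd (.nd .nil (.nd (.lf [0]) .nil)) .nil) .nil)))) .nil)))) (.nd (.nd (.nd (.nd (.nd (.nd (.nd (.nd (.nd .nil (.nd (.nd (.lf [0]) .nil) .nil)) .nil) (.nd (.nd (.nd (.nd .nil (.lf [109])) .nil) .nil) .nil)) (.nd .nil (.nd (.nd (.nd .nil (.nd .nil (.lf [95]))) (.nd .nil (.nd (.lf [0]) .nil))) .nil))) (.nd (.nd .nil (.nd .nil (.nd (.nd .nil (.nd (.lf [0]) .nil)) .nil))) .nil)) (.nd (.nd (.nd (.nd (.nd .nil (.nd (.nd (.lf [0]) .nil) .nil)) .nil) .nil) (.nd (.nd .nil (.nd (.nd .nil (.nd (.lf [175]) .nil)) .nil)) .nil)) .nil)) (.nd (.nd (.nd (.nd .nil (.nd (.nd (.nd (.nd .nil (.lf [27])) .nil) .nil) .nil)) .nil) (.nd (.nd .nil (.nd .nil (.nd .nil (.nd (.nd .nil (.lf [7])) .nil)))) .nil)) (.nd (.nd (.nd .nil (.nd (.nd (.nd .nil (.nd (.lf [0]) .nil)) .nil) .nil)) (.nd .nil (.nd (.nd .nil (.nd .nil (.nd (.lf [0]) .nil))) .nil))) (.nd (.nd .nil (.nd (.nd .nil (.nd .nil (.nd (.lf [0]) .nil))) .nil)) (.nd .nil (.nd (.nd (.nd .nil (.nd (.lf [0]) .nil)) .nil) .nil)))))) (.nd (.nd (.nd (.nd (.nd .nil (.nd (.nd (.nd (.nd .nil (.lf [36])) .nil) .nil) .nil)) .nil) .nil) (.nd .nil (.nd (.nd .nil (.nd (.nd (.nd (.nd .nil (.lf [36])) .nil) .nil) .nil)) .nil))) (.nd (.nd (.nd (.nd .nil (.nd (.nd (.nd (.nd .nil (.lf [53])) .nil) .nil) .nil)) .nil) .nil) (.nd (.nd (.nd .nil (.nd (.nd (.nd .nil (.nd (.lf [0]) .nil)) .nil) .nil)) .nil) (.nd .nil (.nd .nil (.nd (.nd (.nd .nil (.nd (.lf [0]) .nil)) .nil) .nil))))))) (.nd (.nd (.nd (.nd (.nd (.nd (.nd (.nd .nil (.nd (.nd (.lf [0]) .nil) .nil)) .nil) (.nd .nil (.nd .nil (.nd (.nd .nil (.lf [165])) .nil)))) (.nd (.nd .nil (.nd (.nd .nil (.nd (.lf [92]) .nil)) .nil)) .nil)) (.nd (.nd .nil (.nd .nil (.nd .nil (.nd .nil (.nd .nil (.lf [146])))))) .nil)) (.nd (.nd (.nd (.nd (.nd .nil (.nd (.nd (.lf [0]) .nil) .nil)) .nil) .nil) (.nd .nil (.nd (.nd .nil (.nd .nil (.nd (.lf [0]) .nil))) .nil))) (.nd (.nd .nil (.nd .nil (.nd (.nd .nil (.nd (.lf [0]) .nil)) .nil))) .nil))) (.nd (.nd (.nd (.nd .nil (.nd (.nd (.nd .nil (.nd (.lf [0]) .nil)) .nil) (.nd (.nd (.nd .nil (.lf [29])) .nil) .nil))) (.nd .nil (.nd (.nd .nil (.nd .nil (.nd (.lf [0]) .nil))) .nil))) (.nd (.nd .nil (.nd (.nd .nil (.nd (.nd .nil (.lf [27])) (.nd (.lf [0]) .nil))) .nil)) (.nd .nil (.nd (.nd (.nd .nil (.nd (.lf [0]) .nil)) .nil) .nil)))) .nil)) (.nd (.nd (.nd (.nd (.nd .nil (.nd .nil (.nd .nil (.nd (.nd .nil (.lf [36])) .nil)))) .nil) .nil) (.nd .nil (.nd (.nd .nil (.nd .nil (.nd .nil (.nd (.nd .nil (.lf [36])) .nil)))) .nil))) (.nd (.nd (.nd (.nd .nil (.nd (.nd (.nd .nil (.nd (.lf [0]) .nil)) .nil) .nil)) (.nd .nil (.nd (.nd (.nd .nil (.nd .nil (.lf [158]))) .nil) .nil))) (.nd (.nd .nil (.nd .nil (.nd .nil (.nd .nil (.nd .nil (.lf [95])))))) (.nd .nil (.nd (.nd (.nd .nil (.nd (.lf [0]) .nil)) .nil) .nil)))) .nil))))) (.nd (.nd (.nd (.nd (.nd (.nd (.nd .nil (.nd .nil (.nd .nil (.nd (.nd (.nd (.lf [139]) .nil) .nil) .nil)))) (.nd (.nd .nil (.nd .nil (.nd .nil (.nd (.nd (.lf [101]) .nil) .nil)))) (.nd (.nd (.nd .nil (.nd .nil (.nd (.lf [8]) .nil))) .nil) .nil))) (.nd (.nd (.nd (.nd (.nd (.nd .nil (.nd (.lf [80]) .nil)) .nil) .nil) .nil) (.nd .nil (.nd .nil (.nd (.nd (.nd (.lf [139]) .nil) .nil) .nil)))) (.nd (.nd .nil (.nd .nil (.nd .nil (.nd (.nd (.lf [32]) .nil) .nil)))) .nil))) (.nd (.nd (.nd .nil (.nd (.nd .nil (.nd (.nd (.nd (.lf [0]) .nil) .nil) .nil)) (.nd .nil (.nd (.nd (.nd (.lf [19]) .nil) .nil) .nil)))) .nil) (.nd (.nd (.nd (.nd (.nd (.nd .nil (.nd (.lf [22]) .nil)) .nil) .nil) (.nd (.nd (.nd .nil (.nd (.lf [0]) .nil)) .nil) .nil)) (.nd (.nd .nil (.nd (.nd (.nd (.lf [0]) .nil) .nil) .nil)) (.nd .nil (.nd (.nd (.nd (.lf [19]) .nil) .nil) .nil)))) (.nd .nil (.nd (.nd (.nd (.nd .nil (.nd (.lf [19]) .nil)) .nil) .nil) (.nd (.nd (.nd .nil (.nd (.lf [0]) .nil)) .nil) .nil)))))) (.nd (.nd (.nd .nil (.nd (.nd .nil (.nd .nil (.nd .nil (.nd (.nd .nil (.lf [4])) .nil)))) .nil)) (.nd (.nd (.nd (.nd (.nd (.nd .nil (.nd (.lf [128]) .nil)) .nil) .nil) .nil) (.nd .nil (.nd (.nd (.nd .nil (.nd .nil (.lf [95]))) .nil) (.nd (.nd .nil (.nd (.lf [0]) .nil)) .nil)))) (.nd (.nd .nil (.nd (.nd .nil (.nd .nil (.nd (.lf [0]) .nil))) .nil)) .nil))) (.nd .nil (.nd (.nd (.nd (.nd (.nd (.nd .nil (.nd (.lf [22]) .nil)) .nil) .nil) (.nd (.nd (.nd .nil (.nd (.lf [0]) .nil)) .nil) .nil)) (.nd (.nd .nil (.nd (.nd .nil (.nd (.lf [19]) .nil)) .nil)) (.nd .nil (.nd (.nd .nil (.nd (.lf [0]) .nil)) .nil)))) (.nd (.nd (.nd .nil (.nd (.nd .nil (.nd (.lf [22]) .nil)) .nil)) (.nd .nil (.nd (.nd .nil (.nd (.lf [0]) .nil)) .nil))) (.nd (.nd (.nd (.nd .nil (.nd (.lf [19]) .nil)) .nil) .nil) (.nd (.nd (.nd .nil (.nd (.lf [0]) .nil)) .nil) .nil))))))) (.nd (.nd (.nd (.nd (.nd (.nd (.nd (.nd (.nd .nil (.nd (.lf [4]) .nil)) .nil) .nil) .nil) (.nd .nil (.nd .nil (.nd (.nd (.nd (.lf [139]) .nil) .nil) .nil)))) (.nd (.nd .nil (.nd .nil (.nd .nil (.nd (.nd (.lf [62]) .nil) .nil)))) .nil)) (.nd (.nd .nil (.nd .nil (.nd .nil (.nd (.nd (.nd (.lf [32]) .nil) .nil) .nil)))) (.nd (.nd .nil (.nd .nil (.nd .nil (.nd (.nd (.lf [139]) .nil) .nil)))) (.nd (.nd (.nd .nil (.nd .nil (.nd (.lf [80]) .nil))) .nil) .nil)))) (.nd (.nd (.nd (.nd (.nd (.nd (.nd .nil (.nd (.lf [4]) .nil)) .nil) .nil) (.nd (.nd (.nd .nil (.nd (.lf [0]) .nil)) .nil) .nil)) (.nd (.nd .nil (.nd (.nd (.nd (.lf [0]) .nil) .nil) .nil)) (.nd .nil (.nd (.nd (.nd (.lf [19]) .nil) .nil) .nil)))) (.nd .nil (.nd (.nd (.nd (.nd .nil (.nd (.lf [19]) .nil)) .nil) .nil) (.nd (.nd (.nd .nil (.nd (.lf [0]) .nil)) .nil) .nil)))) (.nd (.nd .nil (.nd (.nd .nil (.nd (.nd (.nd (.lf [0]) .nil) .nil) .nil)) (.nd (.nd (.nd .nil (.nd .nil (.lf [158]))) .nil) (.nd (.nd (.nd (.lf [19]) .nil) .nil) .nil)))) (.nd (.nd .nil (.nd .nil (.nd .nil (.nd (.nd .nil (.lf [11])) (.nd .nil (.lf [33])))))) .nil)))) (.nd (.nd (.nd (.nd (.nd (.nd (.nd (.nd .nil (.nd (.lf [133]) .nil)) .nil) .nil) .nil) (.nd .nil (.nd .nil (.nd (.nd .nil (.nd (.lf [0]) .nil)) .nil)))) (.nd (.nd .nil (.nd (.nd (.nd (.nd .nil (.lf [1243])) .nil) (.nd .nil (.nd (.lf [0]) .nil))) .nil)) .nil)) (.nd .nil (.nd (.nd .nil (.nd .nil (.nd .nil (.nd .nil (.nd .nil (.lf [42])))))) .nil))) (.nd (.nd (.nd (.nd (.nd (.nd (.nd .nil (.nd (.lf [22]) .nil)) .nil) .nil) (.nd (.nd (.nd .nil (.nd (.lf [0]) .nil)) .nil) .nil)) (.nd (.nd .nil (.nd (.nd .nil (.nd (.lf [19]) .nil)) .nil)) (.nd .nil (.nd (.nd .nil (.nd (.lf [0]) .nil)) .nil)))) (.nd (.nd (.nd .nil (.nd (.nd .nil (.nd (.lf [22]) .nil)) .nil)) (.nd .nil (.nd (.nd .nil (.nd (.lf [0]) .nil)) .nil))) (.nd (.nd (.nd (.nd .nil (.nd (.lf [19]) .nil)) .nil) .nil) (.nd (.nd (.nd .nil (.nd (.lf [0]) .nil)) .nil) .nil)))) .nil)))) (.nd (.nd (.nd (.nd (.nd (.nd .nil (.nd .nil (.nd (.nd .nil (.nd .nil (.nd (.lf [0]) .nil))) .nil))) (.nd (.nd .nil (.nd .nil (.nd (.nd .nil (.nd (.lf [0]) .nil)) .nil))) .nil)) (.nd (.nd (.nd .nil (.nd .nil (.nd .nil (.nd (.nd .nil (.lf [1259])) .nil)))) .nil) (.nd (.nd .nil (.nd .nil (.nd .nil (.nd .nil (.nd .nil (.lf [103])))))) .nil))) (.nd .nil (.nd (.nd (.nd .nil (.nd (.nd (.nd .nil (.nd (.lf [0]) .nil)) .nil) (.nd (.nd (.nd .nil (.lf [11])) .nil) .nil))) (.nd .nil (.nd (.nd .nil (.nd .nil (.nd (.lf [0]) .nil))) .nil))) (.nd (.nd .nil (.nd (.nd .nil (.nd (.nd .nil (.lf [6])) (.nd (.lf [0]) .nil))) .nil)) (.nd .nil (.nd (.nd (.nd .nil (.nd (.lf [0]) .nil)) .nil) .nil)))))) (.nd (.nd (.nd .nil (.nd (.nd .nil (.nd .nil (.nd .nil (.nd (.nd .nil (.lf [4])) .nil)))) .nil)) (.nd (.nd (.nd .nil (.nd .nil (.nd .nil (.nd (.nd .nil (.lf [14])) .nil)))) .nil) .nil)) (.nd (.nd (.nd (.nd (.nd (.nd .nil (.nd (.nd (.lf [0]) .nil) .nil)) .nil) .nil) .nil) .nil) (.nd (.nd (.nd (.nd (.nd .nil (.nd (.nd (.lf [0]) .nil) .nil)) .nil) (.nd (.nd (.nd .nil (.nd (.lf [0]) .nil)) .nil) .nil)) (.nd (.nd .nil (.nd (.nd .nil (.nd (.lf [92]) .nil)) .nil)) (.nd (.nd (.nd .nil (.nd .nil (.lf [103]))) .nil) .nil))) (.nd (.nd (.nd .nil (.nd (.nd .nil (.nd (.lf [667]) .nil)) .nil)) (.nd .nil (.nd .nil (.nd .nil (.nd .nil (.lf [48])))))) (.nd .nil (.nd (.nd (.nd .nil (.nd (.lf [0]) .nil)) .nil) .nil))))))) (.nd (.nd (.nd .nil (.nd (.nd (.nd .nil (.nd (.nd (.nd (.nd .nil (.lf [360])) .nil) .nil) .nil)) (.nd .nil (.nd (.nd (.nd .nil (.nd .nil (.lf [146]))) (.nd .nil (.nd (.lf [0]) .nil))) .nil))) (.nd (.nd .nil (.nd .nil (.nd (.nd .nil (.nd (.lf [0]) .nil)) .nil))) .nil))) (.nd (.nd (.nd (.nd .nil (.nd (.nd (.nd .nil (.nd (.lf [0]) .nil)) .nil) .nil)) (.nd .nil (.nd (.nd .nil (.nd .nil (.nd (.lf [0]) .nil))) .nil))) (.nd (.nd .nil (.nd (.nd .nil (.nd .nil (.nd (.lf [0]) .nil))) .nil)) (.nd .nil (.nd (.nd (.nd .nil (.nd (.lf [0]) .nil)) .nil) .nil)))) (.nd (.nd (.nd .nil (.nd (.nd (.nd (.nd .nil (.lf [7])) .nil) .nil) .nil)) .nil) (.nd (.nd .nil (.nd .nil (.nd .nil (.nd (.nd .nil (.lf [11])) .nil)))) .nil)))) (.nd (.nd (.nd .nil (.nd (.nd .nil (.nd (.nd (.nd (.nd .nil (.lf [5])) .nil) .nil) .nil)) .nil)) (.nd (.nd (.nd .nil (.nd (.nd (.nd (.nd .nil (.lf [14])) .nil) .nil) .nil)) .nil) .nil)) (.nd (.nd (.nd (.nd (.nd (.nd .nil (.nd (.nd (.lf [0]) .nil) .nil)) .nil) (.nd (.nd (.nd .nil (.nd (.lf [0]) .nil)) .nil) .nil)) (.nd (.nd .nil (.nd (.nd .nil (.nd (.lf [42]) .nil)) .nil)) .nil)) (.nd (.nd (.nd .nil (.nd (.nd .nil (.nd (.lf [667]) .nil)) .nil)) .nil) (.nd .nil (.nd (.nd (.nd .nil (.nd (.lf [0]) .nil)) .nil) .nil)))) (.nd (.nd (.nd (.nd (.nd .nil (.nd (.nd (.lf [0]) .nil) .nil)) .nil) (.nd (.nd (.nd (.nd .nil (.lf [14])) .nil) .nil) .nil)) .nil) .nil))))))) (.nd (.nd (.nd (.nd (.nd (.nd (.nd (.nd .nil (.nd (.nd .nil (.nd .nil (.nd (.nd (.lf [0]) .nil) .nil))) .nil)) (.nd (.nd (.nd .nil (.nd (.nd .nil (.nd (.lf [667]) .nil)) .nil)) .nil) (.nd .nil (.nd (.nd (.nd .nil (.nd (.lf [0]) .nil)) .nil) (.nd .nil (.nd .nil (.nd (.lf [0]) .nil))))))) (.nd (.nd (.nd .nil (.nd (.nd (.nd .nil (.nd (.lf [0]) .nil)) .nil) (.nd .nil (.nd .nil (.nd (.lf [0]) .nil))))) (.nd (.nd .nil (.nd (.nd .nil (.nd (.lf [42]) .nil)) (.nd (.nd (.lf [0]) .nil) .nil))) .nil)) (.nd (.nd .nil (.nd (.nd (.nd (.nd .nil (.lf [47])) .nil) .nil) (.nd (.nd .nil (.nd .nil (.lf [324]))) .nil))) .nil))) (.nd (.nd .nil (.nd (.nd .nil (.nd .nil (.nd .nil (.nd .nil (.nd .nil (.lf [42])))))) (.nd .nil (.nd .nil (.nd (.nd .nil (.nd .nil (.lf [33]))) .nil))))) (.nd .nil (.nd (.nd .nil (.nd .nil (.nd (.nd .nil (.nd .nil (.lf [26]))) .nil))) (.nd .nil (.nd .nil (.nd .nil (.nd .nil (.nd .nil (.lf [78])))))))))) (.nd (.nd (.nd .nil (.nd (.nd .nil (.nd .nil (.nd .nil (.nd .nil (.nd .nil (.lf [26])))))) (.nd .nil (.nd (.nd (.nd .nil (.nd (.lf [0]) .nil)) .nil) (.nd .nil (.nd .nil (.nd (.lf [0]) (.lf [110])))))))) (.nd (.nd (.nd .nil (.nd (.nd (.nd .nil (.nd (.lf [0]) .nil)) .nil) (.nd .nil (.nd .nil (.nd (.lf [0]) .nil))))) .nil) (.nd (.nd .nil (.nd .nil (.nd (.nd .nil (.nd .nil (.lf [78]))) .nil))) (.nd .nil (.nd .nil (.nd (.nd .nil (.nd .nil (.lf [173]))) .nil)))))) (.nd (.nd (.nd .nil (.nd (.nd .nil (.nd .nil (.nd (.nd (.lf [0]) .nil) .nil))) .nil)) (.nd (.nd .nil (.nd (.nd .nil (.nd .nil (.nd (.lf [0]) .nil))) (.nd .nil (.nd (.nd (.lf [168]) .nil) .nil)))) .nil)) (.nd (.nd .nil (.nd (.nd .nil (.nd .nil (.nd (.nd (.lf [0]) .nil) .nil))) .nil)) (.nd (.nd .nil (.nd .nil (.nd (.nd .nil (.nd (.lf [0]) (.lf [185]))) (.nd (.nd (.lf [62]) (.lf [30])) .nil)))) .nil))))) (.nd (.nd (.nd (.nd (.nd (.nd .nil (.nd (.nd (.nd .nil (.nd (.lf [0]) .nil)) .nil) (.nd .nil (.nd .nil (.nd (.lf [0]) .nil))))) (.nd (.nd .nil (.nd (.nd .nil (.nd (.lf [92]) .nil)) (.nd (.nd (.lf [0]) .nil) .nil))) .nil)) (.nd (.nd .nil (.nd .nil (.nd .nil (.nd (.nd .nil (.lf [47])) .nil)))) .nil)) (.nd (.nd .nil (.nd (.nd .nil (.nd .nil (.nd (.nd (.lf [0]) .nil) .nil))) .nil)) (.nd (.nd (.nd .nil (.nd (.nd .nil (.nd (.lf [667]) .nil)) .nil)) .nil) (.nd .nil (.nd (.nd (.nd .nil (.nd (.lf [0]) .nil)) .nil) (.nd .nil (.nd .nil (.nd (.lf [0]) .nil)))))))) .nil) (.nd (.nd (.nd (.nd (.nd .nil (.nd (.nd (.nd .nil (.nd (.lf [0]) .nil)) .nil) (.nd .nil (.nd .nil (.nd (.lf [0]) .nil))))) .nil) .nil) (.nd .nil (.nd .nil (.nd .nil (.nd (.nd (.nd .nil (.nd (.lf [0]) .nil)) .nil) (.nd .nil (.nd .nil (.nd (.lf [0]) .nil)))))))) (.nd (.nd (.nd .nil (.nd (.nd .nil (.nd .nil (.nd (.nd (.lf [0]) .nil) .nil))) .nil)) (.nd (.nd .nil (.nd .nil (.nd (.nd .nil (.nd (.lf [0]) .nil)) (.nd (.nd (.lf [32]) .nil) .nil)))) .nil)) (.nd (.nd .nil (.nd (.nd .nil (.nd .nil (.nd (.nd (.lf [0]) .nil) .nil))) .nil)) (.nd (.nd .nil (.nd (.nd .nil (.nd .nil (.nd (.lf [0]) .nil))) (.nd .nil (.nd (.nd (.lf [101]) .nil) .nil)))) .nil)))))) (.nd (.nd (.nd (.nd (.nd (.nd (.nd (.nd (.nd (.nd (.nd (.lf [0]) .nil) (.nd (.lf [19]) .nil)) (.nd (.nd (.lf [0]) .nil) (.nd (.lf [34]) .nil))) .nil) (.nd (.nd (.nd (.nd .nil (.lf [11])) (.nd .nil (.lf [61]))) .nil) (.nd (.nd (.nd .nil (.lf [15])) .nil) .nil))) (.nd (.nd .nil (.nd (.nd (.nd (.lf [0]) .nil) .nil) (.nd (.nd (.lf [0]) .nil) .nil))) (.nd .nil (.nd (.nd (.nd (.lf [22]) .nil) .nil) .nil)))) (.nd (.nd (.nd .nil (.nd (.nd .nil (.nd (.lf [19]) .nil)) (.nd .nil (.nd (.lf [18]) .nil)))) (.nd (.nd .nil (.nd .nil (.nd (.lf [0]) .nil))) (.nd (.nd .nil (.nd (.lf [0]) .nil)) .nil))) (.nd .nil (.nd (.nd (.nd (.nd (.lf [3]) .nil) (.nd (.lf [0]) .nil)) .nil) (.nd .nil (.nd .nil (.nd (.lf [0]) .nil))))))) (.nd (.nd (.nd (.nd (.nd (.nd (.nd (.lf [0]) .nil) .nil) (.nd (.nd (.lf [0]) .nil) .nil)) .nil) (.nd (.nd (.nd .nil (.nd (.lf [0]) .nil)) .nil) (.nd .nil (.nd .nil (.nd (.lf [0]) .nil))))) (.nd (.nd .nil (.nd (.nd (.nd (.lf [0]) .nil) (.nd (.lf [22]) .nil)) (.nd (.nd (.lf [0]) .nil) (.nd (.lf [25]) .nil)))) (.nd (.nd .nil (.nd .nil (.nd (.lf [0]) .nil))) (.nd (.nd (.nd (.lf [22]) .nil) (.nd (.lf [0]) .nil)) .nil)))) (.nd (.nd .nil (.nd (.nd (.nd (.nd .nil (.lf [14])) .nil) .nil) (.nd (.nd (.nd .nil (.lf [16])) (.nd .nil (.lf [194]))) .nil))) (.nd (.nd (.nd (.nd .nil (.nd (.lf [22]) .nil)) (.nd .nil (.nd (.lf [25]) .nil))) .nil) (.nd (.nd (.nd (.nd (.lf [19]) .nil) .nil) .nil) .nil))))) (.nd (.nd (.nd (.nd (.nd (.nd (.nd (.nd (.lf [0]) .nil) (.nd (.lf [83]) .nil)) .nil) .nil) (.nd (.nd (.nd (.nd .nil (.lf [14])) .nil) .nil) .nil)) (.nd .nil (.nd (.nd .nil (.nd .nil (.nd (.lf [0]) .nil))) (.nd (.nd (.nd (.lf [148]) .nil) .nil) .nil)))) .nil) (.nd (.nd (.nd (.nd (.nd (.nd (.nd (.lf [0]) .nil) .nil) .nil) .nil) .nil) (.nd .nil (.nd .nil (.nd (.nd (.nd (.lf [80]) .nil) (.nd (.lf [0]) .nil)) .nil)))) (.nd (.nd .nil (.nd .nil (.nd (.nd .nil (.nd .nil (.lf [26]))) .nil))) .nil)))) (.nd (.nd (.nd (.nd (.nd (.nd (.nd (.nd (.nd (.lf [0]) .nil) (.nd (.lf [19]) .nil)) .nil) .nil) (.nd (.nd (.nd (.nd .nil (.lf [31])) .nil) .nil) .nil)) .nil) (.nd .nil (.nd .nil (.nd (.nd (.nd (.nd (.lf [19]) .nil) (.nd (.lf [0]) .nil)) .nil) (.nd .nil (.nd .nil (.nd (.lf [0]) .nil))))))) (.nd (.nd (.nd (.nd (.nd (.nd (.nd (.lf [0]) .nil) .nil) .nil) .nil) (.nd (.nd (.nd .nil (.nd (.lf [0]) .nil)) .nil) (.nd .nil (.nd .nil (.nd (.lf [0]) .nil))))) .nil) (.nd (.nd .nil (.nd .nil (.nd (.nd .nil (.nd .nil (.lf [46]))) .nil))) (.nd (.nd (.nd (.nd .nil (.nd (.lf [22]) .nil)) .nil) .nil) (.nd (.nd (.nd (.nd (.lf [19]) .nil) .nil) .nil) .nil))))) (.nd (.nd (.nd (.nd (.nd (.nd (.nd (.nd (.lf [0]) .nil) (.nd (.lf [123]) .nil)) .nil) .nil) (.nd (.nd (.nd (.nd .nil (.lf [194])) .nil) (.nd .nil (.nd .nil (.lf [196])))) .nil)) (.nd (.nd .nil (.nd .nil (.nd (.nd (.lf [0]) .nil) .nil))) .nil)) .nil) (.nd (.nd (.nd (.nd (.nd (.nd (.nd (.lf [0]) .nil) .nil) .nil) .nil) .nil) (.nd (.nd .nil (.nd .nil (.nd (.nd (.lf [0]) .nil) (.nd (.lf [6]) .nil)))) .nil)) (.nd (.nd .nil (.nd .nil (.nd (.nd .nil (.nd .nil (.lf [133]))) (.nd (.nd .nil (.lf [155])) .nil)))) .nil))))) (.nd (.nd (.nd (.nd (.nd (.nd (.nd (.nd (.nd (.nd (.lf [0]) .nil) .nil) (.nd (.nd (.lf [0]) .nil) .nil)) .nil) (.nd (.nd (.nd .nil (.nd (.lf [0]) .nil)) .nil) (.nd .nil (.nd .nil (.nd (.lf [0]) .nil))))) (.nd (.nd .nil (.nd (.nd (.nd (.lf [0]) .nil) (.nd (.lf [22]) .nil)) (.nd (.nd (.lf [0]) .nil) (.nd (.lf [34]) .nil)))) (.nd (.nd .nil (.nd .nil (.nd (.lf [0]) .nil))) (.nd (.nd (.nd (.lf [8]) .nil) (.nd (.lf [0]) .nil)) .nil)))) (.nd (.nd .nil (.nd (.nd .nil (.nd (.nd .nil (.lf [7])) .nil)) (.nd .nil (.nd (.nd .nil (.lf [14])) (.nd .nil (.lf [48])))))) (.nd (.nd (.nd (.nd .nil (.nd (.lf [22]) .nil)) (.nd .nil (.nd (.lf [34]) .nil))) .nil) (.nd (.nd (.nd (.nd (.lf [19]) .nil) .nil) .nil) .nil)))) (.nd (.nd (.nd (.nd (.nd (.nd (.nd (.lf [0]) .nil) (.nd (.lf [19]) .nil)) (.nd (.nd (.lf [0]) .nil) (.nd (.lf [18]) .nil))) .nil) (.nd (.nd .nil (.nd (.nd .nil (.lf [3])) (.nd .nil (.lf [194])))) (.nd .nil (.nd (.nd .nil (.lf [3])) .nil)))) (.nd (.nd .nil (.nd (.nd (.nd (.lf [0]) .nil) .nil) (.nd (.nd (.lf [0]) .nil) .nil))) (.nd .nil (.nd (.nd (.nd (.lf [22]) .nil) .nil) .nil)))) (.nd (.nd (.nd .nil (.nd (.nd .nil (.nd (.lf [19]) .nil)) (.nd .nil (.nd (.lf [34]) .nil)))) (.nd (.nd .nil (.nd .nil (.nd (.lf [0]) .nil))) (.nd (.nd .nil (.nd (.lf [0]) .nil)) .nil))) (.nd .nil (.nd (.nd (.nd (.nd (.lf [19]) .nil) (.nd (.lf [0]) .nil)) .nil) (.nd .nil (.nd .nil (.nd (.lf [0]) .nil)))))))) (.nd (.nd (.nd (.nd (.nd (.nd (.nd (.nd (.lf [0]) .nil) .nil) .nil) .nil) .nil) (.nd .nil (.nd .nil (.nd (.nd (.nd (.lf [154]) .nil) (.nd (.lf [0]) .nil)) .nil)))) .nil) (.nd (.nd (.nd (.nd (.nd (.nd (.nd (.lf [0]) .nil) (.nd (.lf [80]) .nil)) .nil) .nil) .nil) (.nd .nil (.nd (.nd .nil (.nd .nil (.nd (.lf [0]) .nil))) (.nd (.nd (.nd (.lf [157]) .nil) .nil) .nil)))) .nil))) (.nd (.nd (.nd (.nd (.nd (.nd (.nd (.nd (.nd (.lf [0]) .nil) .nil) .nil) .nil) (.nd (.nd (.nd .nil (.nd (.lf [0]) .nil)) .nil) (.nd .nil (.nd .nil (.nd (.lf [0]) .nil))))) .nil) (.nd .nil (.nd (.nd (.nd (.nd .nil (.nd (.lf [22]) .nil)) .nil) .nil) (.nd (.nd (.nd (.nd (.lf [19]) .nil) .nil) .nil) .nil)))) (.nd (.nd (.nd (.nd (.nd (.nd (.nd (.lf [0]) .nil) (.nd (.lf [17]) .nil)) .nil) .nil) (.nd .nil (.nd .nil (.nd (.nd .nil (.lf [165])) .nil)))) .nil) (.nd .nil (.nd .nil (.nd (.nd (.nd (.nd (.lf [19]) .nil) (.nd (.lf [0]) .nil)) .nil) (.nd .nil (.nd .nil (.nd (.lf [0]) .nil)))))))) (.nd (.nd (.nd (.nd (.nd (.nd (.nd (.nd (.lf [0]) .nil) .nil) .nil) .nil) .nil) (.nd (.nd .nil (.nd .nil (.nd (.nd (.lf [0]) .nil) (.nd (.lf [94]) .nil)))) .nil)) (.nd (.nd .nil (.nd .nil (.nd (.nd (.nd .nil (.lf [194])) .nil) (.nd .nil (.nd .nil (.lf [155])))))) .nil)) (.nd (.nd (.nd (.nd (.nd (.nd (.nd (.lf [0]) .nil) (.nd (.lf [17]) .nil)) .nil) .nil) (.nd (.nd (.nd .nil (.nd .nil (.lf [102]))) (.nd (.nd .nil (.lf [196])) .nil)) .nil)) (.nd (.nd .nil (.nd .nil (.nd (.nd (.lf [0]) .nil) .nil))) .nil)) .nil)))))) (.nd (.nd (.nd (.nd (.nd (.nd .nil (.nd .nil (.nd .nil (.nd (.nd (.nd .nil (.nd (.lf [0]) .nil)) .nil) (.nd .nil (.nd .nil (.nd (.lf [0]) .nil))))))) (.nd (.nd (.nd .nil (.nd (.nd (.nd .nil (.nd (.lf [0]) .nil)) .nil) (.nd .nil (.nd .nil (.nd (.lf [0]) .nil))))) .nil) (.nd (.nd .nil (.nd .nil (.nd .nil (.nd (.nd .nil (.lf [867])) .nil)))) .nil))) .nil) (.nd (.nd (.nd .nil (.nd .nil (.nd .nil (.nd (.nd (.nd .nil (.nd (.lf [0]) .nil)) .nil) (.nd .nil (.nd .nil (.nd (.lf [0]) .nil))))))) (.nd (.nd (.nd .nil (.nd (.nd (.nd .nil (.nd (.lf [0]) .nil)) .nil) (.nd .nil (.nd .nil (.nd (.lf [0]) .nil))))) .nil) .nil)) (.nd (.nd .nil (.nd (.nd .nil (.nd (.nd .nil (.nd .nil (.nd (.lf [0]) .nil))) (.nd .nil (.nd (.nd (.lf [201]) .nil) .nil)))) .nil)) (.nd (.nd .nil (.nd (.nd .nil (.nd (.nd .nil (.nd (.lf [62]) .nil)) .nil)) .nil)) (.nd (.nd .nil (.nd .nil (.nd (.nd .nil (.nd (.lf [0]) .nil)) (.nd (.nd (.lf [4]) .nil) .nil)))) .nil))))) (.nd (.nd (.nd (.nd (.nd (.nd .nil (.nd (.nd (.nd .nil (.nd (.lf [0]) .nil)) .nil) (.nd .nil (.nd .nil (.nd (.lf [0]) .nil))))) .nil) (.nd (.nd .nil (.nd (.nd (.nd (.nd .nil (.lf [1057])) .nil) .nil) (.nd (.nd .nil (.nd .nil (.lf [41]))) .nil))) .nil)) (.nd .nil (.nd .nil (.nd .nil (.nd (.nd (.nd .nil (.nd (.lf [0]) .nil)) .nil) (.nd .nil (.nd .nil (.nd (.lf [0]) .nil)))))))) (.nd (.nd .nil (.nd (.nd .nil (.nd .nil (.nd (.nd .nil (.nd .nil (.lf [78]))) .nil))) (.nd .nil (.nd .nil (.nd .nil (.nd .nil (.nd .nil (.lf [26])))))))) (.nd .nil (.nd (.nd .nil (.nd .nil (.nd .nil (.nd .nil (.nd .nil (.lf [33])))))) (.nd .nil (.nd .nil (.nd (.nd .nil (.nd .nil (.lf [61]))) .nil))))))) (.nd (.nd (.nd (.nd (.nd .nil (.nd (.nd (.nd .nil (.nd (.lf [0]) .nil)) .nil) (.nd .nil (.nd .nil (.nd (.lf [0]) .nil))))) .nil) (.nd (.nd .nil (.nd .nil (.nd (.nd .nil (.nd .nil (.lf [110]))) .nil))) (.nd .nil (.nd .nil (.nd (.nd .nil (.nd .nil (.lf [6]))) .nil))))) (.nd .nil (.nd (.nd .nil (.nd .nil (.nd .nil (.nd .nil (.nd .nil (.lf [167])))))) (.nd .nil (.nd (.nd (.nd .nil (.nd (.lf [0]) .nil)) .nil) (.nd .nil (.nd .nil (.nd (.lf [0]) (.lf [61]))))))))) (.nd (.nd (.nd .nil (.nd (.nd .nil (.nd (.nd .nil (.nd (.lf [32]) .nil)) .nil)) .nil)) (.nd (.nd .nil (.nd .nil (.nd (.nd .nil (.nd (.lf [0]) (.lf [46]))) (.nd (.nd (.lf [201]) (.lf [843])) .nil)))) .nil)) (.nd .nil (.nd (.nd .nil (.nd (.nd .nil (.nd .nil (.nd (.lf [0]) .nil))) (.nd .nil (.nd (.nd (.lf [101]) .nil) .nil)))) .nil)))))) (.nd (.nd (.nd (.nd (.nd (.nd (.nd .nil (.nd (.nd .nil (.nd (.nd .nil (.lf [25])) (.nd .nil (.lf [390])))) (.nd .nil (.nd (.nd .nil (.lf [50])) .nil)))) (.nd .nil (.nd .nil (.nd (.nd (.nd (.lf [34]) .nil) .nil) .nil)))) (.nd (.nd .nil (.nd (.nd .nil (.nd .nil (.nd (.lf [0]) .nil))) (.nd (.nd .nil (.nd (.lf [0]) .nil)) .nil))) (.nd .nil (.nd (.nd (.nd (.nd (.lf [34]) .nil) (.nd (.lf [0]) .nil)) .nil) (.nd .nil (.nd .nil (.nd (.lf [0]) .nil))))))) (.nd (.nd (.nd .nil (.nd (.nd (.nd .nil (.nd (.lf [0]) .nil)) .nil) (.nd .nil (.nd .nil (.nd (.lf [0]) .nil))))) (.nd .nil (.nd (.nd .nil (.nd .nil (.nd (.lf [0]) .nil))) (.nd (.nd (.nd (.lf [34]) .nil) (.nd (.lf [0]) .nil)) .nil)))) (.nd (.nd .nil (.nd (.nd .nil (.nd (.nd .nil (.lf [21])) .nil)) (.nd .nil (.nd (.nd .nil (.lf [50])) (.nd .nil (.lf [128])))))) (.nd .nil (.nd (.nd (.nd (.nd (.lf [34]) .nil) .nil) .nil) .nil))))) (.nd (.nd (.nd .nil (.nd .nil (.nd (.nd .nil (.nd .nil (.nd (.lf [0]) .nil))) (.nd (.nd (.nd (.lf [214]) .nil) .nil) .nil)))) .nil) (.nd (.nd .nil (.nd .nil (.nd .nil (.nd (.nd (.nd (.lf [92]) .nil) (.nd (.lf [0]) .nil)) .nil)))) .nil))) (.nd (.nd (.nd (.nd (.nd .nil (.nd .nil (.nd .nil (.nd (.nd .nil (.lf [1259])) .nil)))) .nil) (.nd .nil (.nd .nil (.nd (.nd (.nd (.nd (.lf [132]) .nil) (.nd (.lf [0]) .nil)) .nil) (.nd .nil (.nd .nil (.nd (.lf [0]) .nil))))))) (.nd (.nd (.nd .nil (.nd (.nd (.nd .nil (.nd (.lf [0]) .nil)) .nil) (.nd .nil (.nd .nil (.nd (.lf [0]) .nil))))) .nil) (.nd .nil (.nd .nil (.nd (.nd (.nd (.nd (.lf [214]) .nil) .nil) .nil) .nil))))) (.nd (.nd (.nd (.nd (.nd (.nd .nil (.nd (.nd (.lf [0]) .nil) (.nd (.lf [208]) .nil))) .nil) (.nd (.nd (.nd .nil (.nd .nil (.lf [237]))) (.nd (.nd .nil (.lf [102])) .nil)) .nil)) (.nd (.nd .nil (.nd (.nd (.nd (.lf [0]) .nil) .nil) .nil)) .nil)) .nil) (.nd (.nd (.nd (.nd (.nd .nil (.nd (.nd (.lf [0]) .nil) .nil)) .nil) .nil) (.nd (.nd .nil (.nd (.nd (.nd (.lf [0]) .nil) (.nd (.lf [92]) .nil)) .nil)) .nil)) (.nd (.nd .nil (.nd .nil (.nd (.nd (.nd .nil (.lf [237])) .nil) (.nd .nil (.nd .nil (.lf [147])))))) .nil))))) (.nd (.nd (.nd (.nd (.nd (.nd .nil (.nd (.nd (.nd .nil (.nd (.lf [0]) .nil)) .nil) (.nd .nil (.nd .nil (.nd (.lf [0]) .nil))))) (.nd .nil (.nd (.nd .nil (.nd .nil (.nd (.lf [0]) .nil))) (.nd (.nd (.nd (.lf [34]) .nil) (.nd (.lf [0]) .nil)) .nil)))) (.nd (.nd .nil (.nd (.nd (.nd (.nd .nil (.lf [50])) .nil) .nil) (.nd (.nd (.nd .nil (.lf [25])) (.nd .nil (.lf [325]))) .nil))) (.nd .nil (.nd (.nd (.nd (.nd (.lf [34]) .nil) .nil) .nil) .nil)))) (.nd (.nd (.nd .nil (.nd (.nd (.nd (.nd .nil (.lf [50])) (.nd .nil (.lf [115]))) .nil) (.nd (.nd (.nd .nil (.lf [7])) .nil) .nil))) (.nd .nil (.nd .nil (.nd (.nd (.nd (.lf [34]) .nil) .nil) .nil)))) (.nd (.nd .nil (.nd (.nd .nil (.nd .nil (.nd (.lf [0]) .nil))) (.nd (.nd .nil (.nd (.lf [0]) .nil)) .nil))) (.nd .nil (.nd (.nd (.nd (.nd (.lf [34]) .nil) (.nd (.lf [0]) .nil)) .nil) (.nd .nil (.nd .nil (.nd (.lf [0]) .nil)))))))) (.nd (.nd (.nd .nil (.nd .nil (.nd .nil (.nd (.nd (.nd (.lf [160]) .nil) (.nd (.lf [0]) .nil)) .nil)))) (.nd (.nd .nil (.nd .nil (.nd (.nd .nil (.nd .nil (.lf [199]))) .nil))) .nil)) (.nd (.nd (.nd .nil (.nd (.nd (.nd (.nd .nil (.lf [360])) .nil) .nil) .nil)) (.nd .nil (.nd (.nd .nil (.nd .nil (.nd (.lf [0]) .nil))) (.nd (.nd (.nd (.lf [160]) .nil) .nil) .nil)))) .nil))) (.nd (.nd (.nd (.nd (.nd .nil (.nd (.nd (.nd .nil (.nd (.lf [0]) .nil)) .nil) (.nd .nil (.nd .nil (.nd (.lf [0]) .nil))))) .nil) (.nd (.nd .nil (.nd .nil (.nd (.nd .nil (.nd .nil (.lf [188]))) .nil))) (.nd .nil (.nd (.nd (.nd (.nd (.lf [132]) .nil) .nil) .nil) .nil)))) (.nd (.nd (.nd .nil (.nd (.nd (.nd (.nd .nil (.lf [53])) .nil) .nil) .nil)) .nil) (.nd .nil (.nd .nil (.nd (.nd (.nd (.nd (.lf [194]) .nil) (.nd (.lf [0]) .nil)) .nil) (.nd .nil (.nd .nil (.nd (.lf [0]) .nil)))))))) (.nd (.nd (.nd (.nd (.nd (.nd .nil (.nd (.nd (.lf [0]) .nil) .nil)) .nil) .nil) (.nd (.nd .nil (.nd (.nd (.nd (.lf [0]) .nil) (.nd (.lf [202]) .nil)) .nil)) .nil)) (.nd (.nd .nil (.nd .nil (.nd (.nd .nil (.nd .nil (.lf [188]))) (.nd (.nd .nil (.lf [133])) .nil)))) .nil)) (.nd (.nd (.nd (.nd (.nd .nil (.nd (.nd (.lf [0]) .nil) (.nd (.lf [64]) .nil))) .nil) (.nd (.nd (.nd (.nd .nil (.lf [188])) .nil) (.nd .nil (.nd .nil (.lf [115])))) .nil)) (.nd (.nd .nil (.nd (.nd (.nd (.lf [0]) .nil) .nil) .nil)) .nil)) .nil)))))))))))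

/-- The map on points. -/
noncomputable def piW (W : List ℕ) (q : ℕ) : ℕ := ev ap W (sZ q)

/-- The check at an element. -/
noncomputable def oChkW (W : List ℕ) (p : ℕ) : Bool :=
  !(Nat.beq (piW W (piW W 0)) 0) || !(Nat.beq (piW W (piW W 12)) 12) || (Nat.beq (piW W p) p && Nat.blt p 3510)

/-- The check on a coset. -/
noncomputable def oChkC (i : ℕ) : Bool :=
  allR (fun v => oChkW (DD.τW i ++ DD.nuW 10 v) ((fxT.get (i * 1024 + v)).headD 0)) 10 0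

set_option Elab.async false in
theorem oChk_all : allN 128 oChkC = true := by decide +kernel

end Cfsg.Agent.Lib.Fi22K
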