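import Mathlib
import Cfsg.Agent.Lib.Fi22KS

/-!
# The outer involutions of `Fi₂₂` in the Sylow coset: the conjugation table
-/

set_option autoImplicit false
set_option maxRecDepth 1000000
set_option linter.all false

namespace Cfsg.Agent.Lib.Fi22Ou

open Cfsg.Agent.Lib.OutTree36 Cfsg.Agent.Lib.TcBits Cfsg.Agent.Lib.TcPres Cfsg.Agent.Lib.PresChain36
open Cfsg.Agent.TcData.Fi22.I3510 Cfsg.Agent.TcData.Fi22 Cfsg.Agent.TcChain36.Fi22 Cfsg.Agent.TcChain36.Out.Fi22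
open Cfsg.Agent.Lib.Fi22K

/-- Conjugating words of the representatives of the Sylow classes. -/
def rpU : List (List ℕ) := [[],[],[9,3,4,7,3,8,7,33,8,3,33,4,3,4,1,0,4,5,2,0,4,33,3,8,33,7,8,3,7,4,3,11,3,0,2,5,4,0,1,4,9,3,4,7,3,8,7,33,8,3,33,4,3,4,1,0,4,5,2,0,4,33,3,8,33,7,8,3,7,4,3,11,3,0,2,5,4,0,1,4,9,3,4,7,3,8,7,33,8,3,33,4,3,4,1,0,4,5,2,0,4,33,3,8,33,7,8,3,7,4,3,11],[],[11,9,3,4,7,3,8,7,33,8,3,33,4,3,6,3,4,33,3,8,33,7,8,3,7,4,3,9,15,6,11,9,3,4,7,3,8,7,33,8,3,33,4,3,6,3,4,33,3,8,33,7,8,3,7,4,3,9,15],[11,9,3,4,7,3,8,7,33,8,3,33,4,1,4,33,3,8,33,7,8,3,7,4,3,11,16,3,1,3,11,9,3,4,7,3,8,7,33,8,3,33,4,1,4,33,3,8,33,7,8,3,7,4,3,11,16],[11,9,3,4,7,3,8,7,33,8,3,33,4,3,33,8,1,3,4,33,3,8,33,7,8,3,7,4,3,20,22,24,1,8,7,11,9,3,4,7,3,8,7,33,8,3,33,4,3,33,8,1,3,4,33,3,8,33,7,8,3,7,4,3,20,22,24],[9,3,4,7,3,8,7,33,8,3,33,4,3,1,5,3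,4,33,3,8,33,7,8,3,7,4,3,10,20,22,24,5,1,9,3,4,7,3,8,7,33,8,3,33,4,3,1,5,3,4,33,3,8,33,7,8,3,7,4,3,10,20,22,24,5,1,9,3,4,7,3,8,7,33,8,3,33,4,3,1,5,3,4,33,3,8,33,7,8,3,7,4,3,10,20,22,24],[11,9,3,4,7,3,8,7,33,8,3,33,4,2,0,4,33,3,8,33,7,8,3,7,4,3,10,11,20,22,24,3,0,2,3,11,9,3,4,7,3,8,7,33,8,3,33,4,2,0,4,33,3,8,33,7,8,3,7,4,3,10,11,20,22,24,3,0,2,3,11,9,3,4,7,3,8,7,33,8,3,33,4,2,0,4,33,3,8,33,7,8,3,7,4,3,10,11,20,22,24],[9,3,4,7,3,8,7,33,8,3,33,4,3,1,2,0,5,3,4,33,3,8,33,7,8,3,7,4,3,13,20,22,24,5,0,2,1,9,3,4,7,3,8,7,33,8,3,33,4,3,1,2,0,5,3,4,33,3,8,33,7,8,3,7,4,3,13,20,22,24,5,0,2,1,9,3,4,7,3,8,7,33,8,3,33,4,3,1,2,0,5,3,4,33,3,8,33,7,8,3,7,4,3,13,20,22,24],[11,9,3,4,7,3,8,7,33,8,3,33,4,3,6,5,6,4,3,4,33,3,8,33,7,8,3,7,4,3,10,13,20,22,24,4,6,5,6,11,9,3,4,7,3,8,7,33,8,3,33,4,3,6,5,6,4,3,4,33,3,8,33,7,8,3,7,4,3,10,13,20,22,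24],[9,3,4,7,3,8,7,33,8,3,33,4,3,5,1,4,33,3,8,33,7,8,3,7,4,3,10,11,13,20,22,24,3,1,5,9,3,4,7,3,8,7,33,8,3,33,4,3,5,1,4,33,3,8,33,7,8,3,7,4,3,10,11,13,20,22,24],[3,4,7,3,8,7,33,8,3,33,4,3,2,33,3,8,33,7,8,3,7,4,3,9,10,11,12,14,20,22,24,3,4,2,3,4,7,3,8,7,33,8,3,33,4,3,2,33,3,8,33,7,8,3,7,4,3,9,10,11,12,14,20,22,24],[11,9,3,4,7,3,8,7,33,8,3,33,4,3,1,0,4,3,4,33,3,8,33,7,8,3,7,4,3,30,4,0,1,11,9,3,4,7,3,8,7,33,8,3,33,4,3,1,0,4,3,4,33,3,8,33,7,8,3,7,4,3,30],[9,3,4,7,3,8,7,33,8,3,33,4,2,1,0,3,4,2,33,3,4,33,3,8,33,7,8,3,7,4,3,10,30,7,2,4,3,0,1,2,3,9,3,4,7,3,8,7,33,8,3,33,4,2,1,0,3,4,2,33,3,4,33,3,8,33,7,8,3,7,4,3,10,30],[11,9,3,4,7,3,8,7,33,8,3,33,4,3,1,4,33,3,8,33,7,8,3,7,4,3,10,11,30,3,1,11,9,3,4,7,3,8,7,33,8,3,33,4,3,1,4,33,3,8,33,7,8,3,7,4,3,10,11,30,3,1,11,9,3,4,7,3,8,7,33,8,3,33,4,3,1,4,33,3,8,33,7,8,3,7,4,3,10,11,30],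[3,4,7,3,8,7,33,8,3,33,2,4,33,3,8,33,7,8,3,7,4,3,9,13,15,30,3,2,7,3,8,7,33,8,3,33,2,4,33,3,8,33,7,8,3,7,4,3,9,13,15,30],[11,9,3,4,7,3,8,7,33,8,3,33,4,3,8,4,8,2,3,4,0,2,3,4,33,3,8,33,7,8,3,7,4,3,11,17,30,2,0,4,3,2,8,4,8,11,9,3,4,7,3,8,7,33,8,3,33,4,3,8,4,8,2,3,4,0,2,3,4,33,3,8,33,7,8,3,7,4,3,11,17,30],[11,9,3,4,7,3,8,7,33,8,3,33,4,33,8,3,5,33,3,4,33,3,8,33,7,8,3,7,4,3,9,13,20,22,30,7,5,3,8,7,3,11,9,3,4,7,3,8,7,33,8,3,33,4,33,8,3,5,33,3,4,33,3,8,33,7,8,3,7,4,3,9,13,20,22,30,7,5,3,8,7,3,11,9,3,4,7,3,8,7,33,8,3,33,4,33,8,3,5,33,3,4,33,3,8,33,7,8,3,7,4,3,9,13,20,22,30],[11,9,3,4,7,3,8,7,33,8,3,33,4,3,5,2,6,8,1,4,33,8,3,4,33,3,8,33,7,8,3,7,4,3,28,30,8,7,4,1,8,6,2,5,11,9,3,4,7,3,8,7,33,8,3,33,4,3,5,2,6,8,1,4,33,8,3,4,33,3,8,33,7,8,3,7,4,3,28,30],[3,4,7,3,8,7,33,8,3,6,2,3,4,33,3,8,33,7,8,3,7,4,3,24,32,2,6,3,8,7,33,8,3,6,2,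3,4,33,3,8,33,7,8,3,7,4,3,24,32],[9,3,4,7,3,8,7,33,8,3,33,4,3,1,2,33,3,5,3,4,33,3,8,33,7,8,3,7,4,3,11,24,32,5,3,7,2,1,9,3,4,7,3,8,7,33,8,3,33,4,3,1,2,33,3,5,3,4,33,3,8,33,7,8,3,7,4,3,11,24,32,5,3,7,2,1,9,3,4,7,3,8,7,33,8,3,33,4,3,1,2,33,3,5,3,4,33,3,8,33,7,8,3,7,4,3,11,24,32],[11,9,3,4,7,3,8,7,33,8,3,33,4,3,5,1,2,4,0,3,4,33,3,8,33,7,8,3,7,4,3,11,12,24,32,0,4,2,1,5,11,9,3,4,7,3,8,7,33,8,3,33,4,3,5,1,2,4,0,3,4,33,3,8,33,7,8,3,7,4,3,11,12,24,32],[11,9,3,4,7,3,8,7,33,8,3,33,4,1,33,3,4,33,3,8,33,7,8,3,7,4,3,11,16,24,32,7,1,3,11,9,3,4,7,3,8,7,33,8,3,33,4,1,33,3,4,33,3,8,33,7,8,3,7,4,3,11,16,24,32,7,1,3,11,9,3,4,7,3,8,7,33,8,3,33,4,1,33,3,4,33,3,8,33,7,8,3,7,4,3,11,16,24,32],[11,9,3,4,7,3,8,7,33,8,3,33,4,3,5,1,8,4,6,3,4,33,3,8,33,7,8,3,7,4,3,11,17,24,32,6,4,8,1,5,11,9,3,4,7,3,8,7,33,8,3,33,4,3,5,1,8,4,6,3,4,33,3,8,33,7,8,3,7,4,3,11,17,24,32],[11,9,3,4,7,3,8,7,33,8,3,33,4,3,1,2,33,0,8,3,2,3,4,33,3,8,33,7,8,3,7,4,3,9,13,20,24,32,2,3,8,0,7,2,1,11,9,3,4,7,3,8,7,33,8,3,33,4,3,1,2,33,0,8,3,2,3,4,33,3,8,33,7,8,3,7,4,3,9,13,20,24,32],[11,9,3,4,7,3,8,7,33,8,3,33,4,3,1,2,3,2,3,4,33,3,8,33,7,8,3,7,4,3,9,13,20,24,26,32,2,3,2,1,11,9,3,4,7,3,8,7,33,8,3,33,4,3,1,2,3,2,3,4,33,3,8,33,7,8,3,7,4,3,9,13,20,24,26,32]]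

/-- The class of a representative of a Sylow class. -/
def rpC : List ℕ := [0,1,1,2,2,2,2,1,2,1,2,1,0,2,1,2,0,2,2,2,0,1,2,2,2,2,2]

/-- The table: the index of the Sylow class, and a conjugating word. -/
def clT : TF :=
  (.nd (.nd (.nd (.nd (.nd (.nd (.nd (.nd (.nd (.nd (.nd (.nd (.nd (.nd (.nd (.nd (.lf [0]) (.lf [13])) (.nd (.lf [4,13,20]) (.lf [19]))) .nil) (.nd (.nd (.nd (.lf [20]) (.lf [26,17,26,24])) .nil) (.lf [25,26,30]))) (.nd (.nd .nil (.nd (.lf [1,13,32]) (.lf [1,22,30]))) (.lf [11,12,24]))) (.nd (.nd (.nd .nil (.nd (.lf [18,9,20]) (.lf [18,10,11,32]))) (.lf [8,20,32,16])) (.nd .nil (.nd (.nd (.nd (.lf [6]) (.lf [12,24,11,32])) .nil) .nil)))) (.nd (.nd (.nd (.nd (.nd (.lf [1,32,24]) (.lf [1,20,24])) .nil) (.lf [8,22,10,32])) (.nd (.nd .nil (.nd (.nd (.lf [0,13,24]) (.lf [16,9,22])) (.nd (.lf [4,22]) (.lf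 [19,24])))) (.nd .nil (.nd (.nd (.lf [12,24]) (.lf [12,17,32])) .nil)))) (.nd (.nd .nil (.nd (.lf [25,10,14]) (.nd (.nd (.lf [26,11,12]) (.lf [23,22,32,22])) .nil))) (.nd (.nd (.nd (.lf [18,10,16]) (.lf [18,32,22])) .nil) (.lf [11,14,30]))))) (.nd (.nd (.nd (.nd (.nd (.nd (.nd (.lf [2,28]) (.lf [14,9,32])) .nil) .nil) (.lf [21,28])) (.lf [10,14,28])) .nil) (.nd (.nd (.lf [3,12,30]) (.nd .nil (.nd .nil (.nd (.nd (.lf [7,20,22,11]) (.lf [7,9,30,32])) .nil)))) (.lf [21,32,20,22])))) (.nd (.nd (.nd (.nd (.nd (.nd (.nd (.nd (.lf [2,22,26]) (.lf [14,9,28,32])) .nil) .nil) (.lf [21,18,22,26])) .nil) (.nd .nil (.nd .nil (.nd (.nd (.nd (.lf [7,9,28,24]) (.lf [7,32,28])) .nil) .nil)))) (.nd (.lf [3,14,28]) (.nd (.lf [21,9,22,32,26]) (.lf [10,12,17])))) (.nd (.nd (.nd (.nd (.nd (.nd (.nd (.lf [4,12,20,26,24]) (.lf [17,20,17,22]))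 .nil) .nil) (.nd (.nd (.lf [23,20,14]) (.lf [26,14,24])) .nil)) (.lf [1,12,26,24])) .nil) (.nd (.nd (.lf [1,13,14]) (.nd (.nd .nil (.nd .nil (.nd (.lf [4,14,26]) (.lf [19,10,32])))) .nil)) (.nd (.nd .nil (.nd .nil (.nd (.lf [23,10,32,20]) (.lf [23,20,10,22])))) .nil))))) (.nd (.nd (.nd (.nd (.nd (.nd (.nd (.nd (.lf [1,24,32]) (.lf [1,13,20])) .nil) (.lf [8,22,16,32])) (.nd (.nd .nil (.nd (.nd (.lf [5,10,24]) (.lf [16,9,20])) (.nd (.lf [4,22,32]) (.lf [19,15,24])))) (.nd .nil (.nd (.nd (.lf [6,28]) (.lf [12,32,11])) .nil)))) (.nd (.nd .nil (.nd (.lf [25,18,30]) (.nd .nil (.nd (.lf [20,22]) (.lf [23,18,24]))))) (.nd (.nd (.nd (.lf [18,10,11]) (.lf [18,22,32])) .nil) (.lf [11,14])))) (.nd (.nd (.nd (.nd (.nd (.nd (.lf [5,10,13]) (.lf [13,15])) (.nd (.lf [4,20,24]) (.lf [19,15]))) .nil) (.nd (.nd .nil (.nd (.lf [26,10,26,11])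 (.lf [26,9,32,12]))) (.lf [25,10,14,22]))) (.nd (.nd .nil (.nd (.lf [1,13,30,32]) (.lf [1,22]))) (.lf [11,12,24,30]))) (.nd (.nd (.nd .nil (.nd (.lf [18,9,22]) (.lf [18,12,14,32]))) (.lf [8,20,17,32])) (.nd .nil (.nd (.nd (.nd (.lf [12,9]) (.lf [12,17,24,32])) .nil) .nil))))) (.nd (.nd (.nd (.lf [3,12]) (.nd .nil (.nd .nil (.nd (.nd (.lf [7,9,24]) (.lf [7,30,32])) .nil)))) .nil) (.nd (.nd (.nd (.nd (.nd (.nd (.lf [2,10,20,30,20]) (.lf [14,24])) .nil) .nil) .nil) (.lf [10,12,32,32])) .nil))) (.nd (.nd (.nd (.lf [3,14,28,30]) (.lf [10,30,12])) (.nd (.nd (.nd (.nd (.nd (.nd (.lf [2,10,13]) (.lf [14,28,24])) .nil) .nil) .nil) .nil) (.nd .nil (.nd .nil (.nd (.nd (.nd (.lf [7,24,11,28]) (.lf [7,9,32,28])) .nil) .nil))))) (.nd (.nd (.nd (.lf [1,30,14]) (.nd (.nd .nil (.nd .nil (.nd (.lf [4,12,22,32]) (.lf [19,12,22])))) .nil))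 (.nd (.nd .nil (.nd .nil (.nd (.lf [26,10,13]) (.lf [23,14,24])))) .nil)) (.nd (.nd (.nd (.nd (.nd (.nd (.lf [4,13,14]) (.lf [17,12,20,26])) .nil) .nil) (.nd (.nd (.lf [26,14,26,32]) (.lf [26,26,12])) .nil)) (.lf [1,14,26])) .nil))))) (.nd (.nd (.nd (.nd (.lf [3,26,12]) (.nd (.nd (.lf [7,26,16,32]) (.nd (.nd .nil (.nd (.lf [14,12,20,28]) (.lf [2,12,22,28]))) .nil)) (.lf [21,10,26,28,24]))) (.nd (.nd .nil (.nd (.lf [22,32,26]) (.lf [25,10,30,32]))) (.nd .nil (.nd (.lf [22,26,32]) (.lf [25,9,12,24]))))) (.nd (.nd (.nd .nil (.nd (.lf [22,9,30,24]) (.lf [25,9,24,11]))) (.nd .nil (.nd (.lf [22,22,12,32]) (.lf [25,17,32,30])))) (.nd (.nd (.lf [3,10,26,11]) (.lf [10,12,26,30])) (.nd (.lf [2,10,22,28]) (.nd (.nd .nil (.nd .nil (.nd (.nd .nil (.nd (.lf [10,32,22]) (.lf [21,22,12,32]))) (.nd (.nd (.lf [7,20]) (.lf [21,26,28]))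 .nil)))) .nil))))) (.nd (.nd (.nd (.nd (.nd (.lf [7,26,10,32]) (.nd (.nd .nil (.nd (.lf [14,20,28,10]) (.lf [2,12,32,20]))) .nil)) (.lf [21,22])) (.lf [3,22])) .nil) (.nd .nil (.nd (.nd (.lf [2,26,30]) (.nd (.nd .nil (.nd .nil (.nd (.lf [10,9,32,22]) (.lf [7,17,20,24])))) .nil)) (.nd (.lf [3,22,16]) (.lf [10,12,26,28]))))))) (.nd (.nd (.nd (.nd (.nd (.nd (.nd (.nd .nil (.nd (.nd .nil (.nd (.lf [26,9,22]) (.lf [26,11,24]))) (.lf [25,9,22]))) (.lf [8,14,28])) (.nd (.lf [11,20,17,32,24]) (.nd .nil (.nd (.nd (.nd (.lf [9]) (.lf [9,28,10,32])) .nil) .nil)))) (.nd (.nd (.lf [11,20,30,32,11]) (.nd .nil (.nd .nil (.nd (.nd (.lf [9,24]) (.lf [9,17,32])) .nil)))) (.nd (.nd .nil (.nd (.lf [25,11,16,30]) (.nd .nil (.nd (.lf [24,10,26]) (.lf [23,24,26]))))) (.lf [8,14,30])))) (.nd (.lf [7,14,28]) (.nd (.nd .nil (.nd .nil (.nd .nil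 (.nd (.nd (.lf [10,24]) (.lf [10,17,32])) .nil)))) .nil))) (.nd (.nd (.nd .nil (.nd .nil (.nd .nil (.nd (.nd (.nd (.lf [10,17,24,28]) (.lf [10,28,10,32])) .nil) .nil)))) (.lf [7,12,17])) (.nd (.nd (.nd (.nd (.nd (.nd .nil (.nd (.lf [0,20,10]) (.lf [19,9,12]))) .nil) (.nd (.nd (.lf [26,10,26,24]) (.lf [26,26,11])) .nil)) (.lf [1,12,30,32])) .nil) (.nd (.nd (.lf [1,12,20,32]) (.nd (.nd .nil (.nd (.nd (.lf [5,24,14]) (.lf [17,12,20])) .nil)) .nil)) (.nd (.nd .nil (.nd .nil (.nd (.lf [26,13,14]) (.lf [23,10,20,32])))) .nil))))) (.nd (.nd (.nd (.nd (.nd (.lf [11,20,17,30,32]) (.nd .nil (.nd .nil (.nd (.nd (.lf [9,28]) (.lf [9,32,11])) .nil)))) (.nd (.nd .nil (.nd (.lf [25,9]) (.nd (.nd (.lf [26,9]) (.lf [23,22,32])) .nil))) (.lf [8,14]))) (.nd (.nd (.nd .nil (.nd (.nd (.nd (.lf [24,10,18]) (.lf [26,12,22,32])) .nil) (.lf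 [25,9,32,24]))) (.lf [8,14,24])) (.nd (.lf [11,20,32,16,24]) (.nd .nil (.nd (.nd (.nd (.lf [9,24,28]) (.lf [9,17,28,32])) .nil) .nil))))) (.nd (.nd (.nd .nil (.nd .nil (.nd .nil (.nd (.nd (.lf [10,9,20,26]) (.lf [10,32,11])) .nil)))) (.lf [21,10,22,32,26])) (.nd (.nd (.lf [21,10,18]) (.lf [7,12,32,32])) .nil))) (.nd (.nd (.nd .nil (.nd (.lf [21,14,32,20,22]) (.lf [7,30,12]))) (.nd (.lf [21,10,22,26,28]) (.nd .nil (.nd .nil (.nd (.nd (.nd (.lf [10,28,24]) (.lf [10,17,28,32])) .nil) .nil))))) (.nd (.nd (.nd (.lf [1,12,20,32,30]) (.nd (.nd .nil (.nd (.nd (.lf [0,12,24]) (.lf [17,9,20,17])) .nil)) .nil)) (.nd (.nd .nil (.nd .nil (.nd (.lf [23,10,20,26,24]) (.lf [23,22,12])))) .nil)) (.nd (.nd (.nd (.nd (.nd .nil (.nd (.lf [5,12,20]) (.lf [19,12,13]))) .nil) (.nd (.nd (.lf [23,10,18]) (.lf [26,24,11])) .nil)) (.lf [1,32,12]))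 .nil))))) (.nd (.nd (.nd (.nd .nil (.nd (.lf [10,12,22,32]) (.lf [21,14,22,30]))) .nil) (.nd .nil (.nd (.lf [7,12,26,30]) (.nd (.lf [14,15,20]) (.nd (.nd .nil (.nd .nil (.nd (.lf [7,17,20,32]) (.lf [10,20])))) .nil))))) (.nd (.nd (.nd (.nd (.lf [10,14,22,32]) (.lf [21,22,32])) .nil) (.nd (.nd .nil (.nd (.lf [22,22,32]) (.lf [25,17,24]))) (.nd .nil (.nd (.lf [22,13,32]) (.lf [25,16,22,24]))))) (.nd (.nd (.nd .nil (.nd (.lf [22,10,26,32]) (.lf [25,16,32,30]))) (.nd .nil (.nd (.lf [22,10,32]) (.lf [25,9,14,24])))) (.nd (.nd (.lf [14,20]) (.nd (.nd .nil (.nd .nil (.nd (.nd .nil (.nd (.lf [7,32,11,26]) (.lf [21,26,32,28]))) (.nd (.nd (.lf [10,9,24,26]) (.lf [21,26,16])) .nil)))) .nil)) (.lf [7,12,26,28]))))))) (.nd (.nd (.nd (.nd (.nd (.nd (.nd (.nd (.nd (.lf [2,14,24,26]) (.lf [21,9,20,30])) .nil) (.lf [7,32,12,22])) (.nd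 (.nd (.lf [3,10,20,28]) (.lf [14,12,26])) .nil)) (.nd (.nd (.lf [22,14,20]) (.lf [22,10,22])) .nil)) (.nd (.nd (.lf [22,14,30]) (.lf [25,9,17])) (.nd (.lf [21,10,20,28]) (.lf [10,12,32,22,28])))) (.nd (.nd (.nd (.nd (.nd (.lf [3,20,24,30]) (.lf [14,26,11])) (.lf [21,24,14,26])) (.nd (.lf [2,20,10]) (.lf [7,32,22,11]))) (.nd (.nd (.lf [25,14,32,24]) (.lf [25,11,30])) .nil)) (.nd (.nd (.lf [25,11,26]) (.lf [22,10,26,30])) (.nd (.nd (.lf [10,12,20,28,32]) (.lf [21,24,26])) .nil)))) (.nd (.nd (.nd (.nd (.nd (.lf [11,9,28]) (.nd (.nd (.lf [18,9,14,32]) (.lf [6,14,20])) .nil)) (.nd (.nd .nil (.nd (.lf [15,20]) (.lf [12,14,28]))) (.lf [11,17,22,30]))) (.nd (.nd (.lf [10,9,28]) (.nd (.nd .nil (.nd .nil (.nd .nil (.nd (.lf [21,10,20,30,22]) (.lf [21,10,32]))))) .nil)) (.nd (.lf [7,20,17,22]) (.lf [10,20,26,32])))) (.nd (.nd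 (.nd (.lf [2,14,24]) (.lf [21,13,32])) (.nd (.nd .nil (.nd (.lf [3,24,28]) (.lf [10,12,32]))) .nil)) (.nd .nil (.nd (.nd (.lf [9,12,26,32]) (.lf [9,12,32])) (.nd (.lf [11,20,32]) (.lf [11,32,28])))))) (.nd (.nd (.nd (.nd (.nd .nil (.nd (.lf [15,15,20]) (.lf [6,12,28]))) (.lf [11,20])) (.nd (.lf [11,30,24]) (.nd (.nd (.lf [18,14,32]) (.lf [12,12,20])) .nil))) (.nd (.nd (.lf [7,12,24,11]) (.lf [10,22,32,22])) (.lf [10,17,32,32]))) (.nd (.nd (.nd (.nd .nil (.nd (.lf [3,28,10,24]) (.lf [10,14,32]))) .nil) (.nd (.lf [2,20,10,26]) (.lf [21,22,30,20]))) (.nd (.nd (.nd (.lf [9,12,22,32]) (.lf [9,14,32])) (.nd (.lf [11,32,20]) (.lf [11,28,32]))) .nil))))) (.nd (.nd (.nd (.nd (.nd (.lf [10,14,20,32]) (.lf [21,9,20,32])) (.nd .nil (.nd (.lf [25,16,30,26]) (.lf [25,12,30])))) (.nd (.nd (.lf [22,22,12,30]) (.lf [25,11,22])) (.nd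 (.lf [2,20,10,30]) (.nd (.nd (.nd (.lf [3,13,20]) (.lf [7,12,20,32,30])) (.lf [14,12,22,28])) (.lf [21,10,20,32]))))) (.nd (.nd (.nd .nil (.nd (.lf [21,10,20,32,32]) (.lf [10,12,20,32]))) (.nd .nil (.nd (.lf [22,10,18]) (.lf [22,9,26,16])))) (.nd (.nd (.lf [25,9,16]) (.lf [22,32,24])) (.nd (.nd (.nd (.nd (.lf [3,20,24]) (.lf [7,14,20,32,30])) (.lf [14,12,26,30])) .nil) (.nd (.nd (.nd (.lf [2,14,20,32]) (.lf [21,18,20])) .nil) .nil))))) (.nd (.nd (.nd (.nd (.nd (.lf [8,9,28]) (.nd (.lf [9,14,20]) (.lf [18,11,30,32]))) (.nd (.nd (.lf [15,13,28]) (.lf [9,12,17,24])) (.lf [8,17,20,24]))) (.nd (.nd (.nd .nil (.nd (.lf [2,20,26]) (.lf [7,9,28]))) .nil) (.nd (.nd (.lf [14,13,28]) (.nd (.lf [3,32,28]) (.lf [10,12,17,24]))) (.lf [7,17,26,32,22])))) (.nd (.nd (.lf [21,14,20,22]) (.nd (.nd (.lf [14,12,13]) (.lf [7,14,30,32]))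 .nil)) (.nd .nil (.nd (.nd (.nd (.lf [15,14,32]) (.lf [12,12,26,32])) (.nd (.lf [15,12,26,32]) (.lf [12,12,32]))) (.nd (.nd (.lf [18,10,30]) (.lf [8,17,22,32,30])) (.nd (.lf [18,13,14]) (.lf [8,17,24,32]))))))) (.nd (.nd (.nd (.nd (.nd (.lf [15,9,28]) (.lf [9,12,28])) (.lf [8,20])) (.nd (.lf [8,24,11]) (.nd (.lf [9,20,24,10]) (.lf [18,14,32,22])))) (.nd (.nd (.nd (.lf [14,9,28]) (.nd (.lf [3,10,28,32]) (.lf [10,14,20,26]))) (.lf [7,17,20,22,32])) (.nd (.nd .nil (.nd (.lf [2,24,11]) (.lf [7,17,32,32]))) (.nd (.nd .nil (.nd .nil (.nd .nil (.nd (.lf [21,13,20,26]) (.lf [21,9,24]))))) .nil)))) (.nd (.nd (.nd (.nd (.lf [14,14]) (.lf [7,12,30,32])) .nil) (.lf [21,24,14])) (.nd (.nd (.nd (.nd (.lf [15,12,32]) (.lf [12,12,22,32])) (.nd (.lf [15,14,26,32]) (.lf [12,14,32]))) (.nd (.nd (.lf [18,12,20]) (.lf [8,17,20,24,32]))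 (.nd (.lf [18,9,14]) (.lf [8,24,11,32])))) .nil))))))) (.nd (.nd (.nd (.nd (.nd (.nd (.nd (.nd (.nd (.nd (.nd (.nd (.nd (.lf [2]) (.lf [14,9,32,28])) .nil) .nil) (.lf [21])) .nil) (.nd .nil (.nd .nil (.nd (.nd (.nd (.lf [7,9,24,28]) (.lf [7,28,32])) .nil) .nil)))) (.nd (.lf [3,12,28,30]) (.nd (.lf [21,22,32,22]) (.lf [10,14,30])))) (.nd (.nd (.nd (.nd (.nd (.nd (.nd (.lf [4,12]) (.lf [17])) (.nd (.lf [4,12,20]) (.lf [19,11]))) .nil) (.nd (.nd (.lf [24]) (.lf [26,10,26,10])) .nil)) .nil) (.nd (.nd .nil (.nd (.nd (.lf [25,10,16]) (.lf [25,12,14,30])) .nil)) .nil)) (.nd (.nd (.nd (.nd (.nd (.lf [1,12,30]) (.lf [1,12,20,30])) .nil) .nil) .nil) (.nd (.nd .nil (.nd .nil (.nd (.lf [24,22,24]) (.lf [20,14,24])))) (.nd .nil (.nd .nil (.nd (.lf [25,10,11,22,24]) (.lf [25,11,24,16])))))))) (.nd (.nd (.nd (.nd (.nd (.nd (.nd (.nd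 (.lf [5]) (.lf [16,12,15])) .nil) .nil) (.nd (.nd (.nd (.lf [23]) (.nd (.lf [6,22,32]) (.lf [26,10,14,22,24]))) (.nd (.nd (.lf [9,22,12]) (.lf [26,11,22])) (.lf [26,10,14,32]))) .nil)) (.nd (.lf [1,10,32]) (.lf [11,28,12]))) (.nd (.lf [8,20,17,24]) (.nd (.lf [18,11,14]) (.nd (.nd (.nd (.lf [12,17]) (.lf [6,28,32])) .nil) (.nd (.lf [25,26,24]) (.lf [25,9,24])))))) (.nd (.nd (.nd (.lf [1,10,24,32]) (.lf [8,20,17,30])) (.nd (.nd .nil (.nd (.nd (.lf [0,10,24]) (.lf [16,14,26])) .nil)) (.nd (.nd (.lf [25,9,22,32]) (.lf [25,9,32])) (.nd (.nd (.lf [12,24,11]) (.lf [12,9,32])) .nil)))) (.nd (.nd (.lf [18,10,12,20]) (.nd .nil (.nd (.nd (.lf [26,12]) (.nd (.lf [12,20,32]) (.lf [20,9,22,24]))) (.nd (.nd (.lf [9,17,20]) (.lf [23,20,26])) (.lf [20,9,32]))))) (.lf [11,12,17])))) (.nd (.nd (.nd (.nd (.nd (.nd (.nd (.lf [2,20,30,20])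 (.lf [14,9,20,22])) .nil) .nil) (.lf [21,24,28,24])) (.lf [10,28,12])) .nil) (.nd (.nd (.lf [3,13,14]) (.nd .nil (.nd .nil (.nd (.nd (.lf [7,20,22]) (.lf [7,17,30,32])) .nil)))) (.lf [21,20,32,20]))))) (.nd (.nd (.nd (.nd (.lf [3,12,28]) (.lf [10,14])) (.nd (.nd (.nd (.nd (.nd (.nd (.lf [2,22,12,26]) (.lf [14,24,28])) .nil) .nil) .nil) .nil) (.nd .nil (.nd .nil (.nd (.nd (.nd (.lf [7,28,10,24]) (.lf [7,9,28,32])) .nil) .nil))))) (.nd (.nd (.nd (.nd (.nd (.nd (.lf [1,12]) (.lf [1,12,20])) .nil) (.nd .nil (.nd (.lf [25,10,12,26,30]) (.lf [25,10,17,22])))) .nil) (.nd (.nd .nil (.nd .nil (.nd (.lf [26,10,17]) (.lf [20,22,11])))) .nil)) (.nd (.nd (.nd (.nd (.nd (.nd (.lf [4,14,20,22,24]) (.lf [17,15])) (.nd (.lf [4,14,20,24]) (.lf [19,9,16]))) .nil) (.nd (.nd (.lf [26,10,11,22,32]) (.lf [26,11,14,24])) .nil)) (.nd .nil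 (.nd (.nd (.lf [25,10,11,24,30]) (.lf [25,11,14,32])) .nil))) .nil))) (.nd (.nd (.nd (.nd (.nd (.lf [1,32,11,24]) (.lf [8,22,10])) (.nd (.nd .nil (.nd (.nd (.lf [5,32]) (.lf [16,14,20])) .nil)) (.nd .nil (.nd (.nd (.lf [6,17,24]) (.lf [12,32])) .nil)))) (.nd (.nd (.lf [18,10,12,26]) (.nd .nil (.nd (.lf [12,32,20]) (.lf [9,24,11,22])))) (.lf [11,30,12]))) (.nd (.nd (.nd (.nd (.nd (.nd (.lf [0,10,13]) (.lf [16,12])) .nil) .nil) (.nd (.nd (.lf [6,9,22,32]) (.lf [9,17,22,24])) .nil)) (.nd (.lf [1,10,30,32]) (.lf [11,24,30,12]))) (.nd (.lf [8,9,20,17]) (.nd (.lf [18,14,16]) (.nd (.nd (.nd (.lf [6,9,17]) (.lf [6,24,32])) .nil) .nil))))) (.nd (.nd (.nd (.lf [3,30,14]) (.nd .nil (.nd .nil (.nd (.nd (.lf [7,17,24]) (.lf [7,30,32,11])) .nil)))) .nil) (.nd (.nd (.nd (.nd (.nd (.nd (.lf [2,10,28]) (.lf [14,13,20,22])) .nil) .nil)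 .nil) (.lf [10,28,12,30])) .nil))))) (.nd (.nd (.nd (.nd .nil (.nd (.lf [25,9,32,16]) (.lf [22,14,26,24]))) (.nd (.lf [10,12,32,20]) (.lf [21,32,20]))) (.nd (.nd (.nd (.nd (.nd .nil (.nd (.nd (.lf [7,32,22,28]) (.lf [10,20,28,24])) .nil)) .nil) .nil) (.nd (.nd (.lf [7,14,26]) (.lf [14,20,30])) (.nd (.nd .nil (.nd .nil (.nd (.lf [21,9,22,24]) (.lf [21,14,26,28])))) .nil))) (.nd .nil (.nd (.lf [25,11,32,20]) (.lf [22,9,22,24]))))) (.nd (.nd (.nd .nil (.nd (.lf [25,10,26,32]) (.lf [22,24,16]))) (.nd (.lf [21,22,11]) (.lf [10,14,32,20]))) (.nd (.nd (.nd (.nd (.lf [7,22,10]) (.lf [14,9,20,28])) .nil) (.nd (.nd (.nd .nil (.nd (.nd (.lf [7,20,28,32]) (.lf [10,9,20,28])) .nil)) .nil) .nil)) (.nd .nil (.nd (.lf [25,17,32]) (.lf [22,24]))))))) (.nd (.nd (.nd (.nd (.nd (.nd .nil (.nd .nil (.nd .nil (.nd (.nd (.nd (.lf [10,17,28,24])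 (.lf [10,32,11,28])) .nil) .nil)))) (.lf [7,14,30])) (.nd (.nd (.nd (.nd .nil (.nd (.nd (.lf [26,10,12,26,24]) (.lf [26,10,11,32])) .nil)) (.nd (.nd .nil (.nd (.lf [1,14,32,30]) (.lf [1,12,24,32,22]))) (.nd (.nd (.lf [25,10,12,26,32]) (.lf [25,12,14,32])) .nil))) .nil) (.nd (.nd (.nd .nil (.nd .nil (.nd (.lf [25,10,11,26,30]) (.lf [25,10,16,22])))) (.nd (.nd .nil (.nd (.nd (.lf [5,12,24]) (.lf [17,20])) (.nd (.lf [5,14,26]) (.lf [19,11,20])))) .nil)) (.nd (.nd .nil (.nd .nil (.nd (.lf [26,14,17]) (.lf [24,22])))) .nil)))) (.nd (.nd (.nd (.nd (.nd (.nd (.nd .nil (.nd (.lf [0,10,20]) (.lf [19,10,14]))) .nil) (.nd (.nd (.lf [9,22,24,32]) (.lf [6,22,12])) .nil)) (.nd (.lf [1,10,22,24,32]) (.lf [8,28,12]))) (.nd (.lf [11,22,16,30]) (.nd (.lf [18,10,14,20,32]) (.nd (.nd (.nd (.lf [9,17,24,28]) (.lf [9,9,24,32])) .nil) .nil))))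 (.nd (.nd (.nd (.lf [1,10,20,32]) (.lf [11,20,17,30])) (.nd (.nd .nil (.nd .nil (.nd (.lf [5,22]) (.lf [19,10,26,11])))) (.nd .nil (.nd (.nd (.lf [9,24,11]) (.lf [9,9,32])) .nil)))) (.nd (.nd (.lf [18,11,12,32]) (.nd .nil (.nd (.lf [9,20,32]) (.lf [6,17,20])))) (.lf [8,12,17])))) (.nd (.lf [7,28,12]) (.nd (.nd .nil (.nd .nil (.nd .nil (.nd (.nd (.lf [10,20,22]) (.lf [10,9,32])) .nil)))) .nil)))) (.nd (.nd (.nd (.nd .nil (.nd (.lf [21,10,32,20,26]) (.lf [7,14]))) (.nd (.lf [21,10,18,28]) (.nd .nil (.nd .nil (.nd (.nd (.nd (.lf [10,24,28]) (.lf [10,17,32,28])) .nil) .nil))))) (.nd (.nd (.nd .nil (.nd (.nd .nil (.nd (.nd (.lf [0,14,32]) (.lf [17,15,20])) (.nd (.lf [0,12,22]) (.lf [19,10,22])))) .nil)) (.nd (.nd .nil (.nd .nil (.nd (.lf [20,10,26,24]) (.lf [24,24])))) (.nd .nil (.nd .nil (.nd (.lf [25,10,16,26,24]) (.lf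 [25,10,11,24])))))) (.nd (.nd (.nd .nil (.nd (.nd (.lf [20,10,18]) (.lf [26,10,17,22])) .nil)) (.nd (.nd .nil (.nd (.lf [1,14,32]) (.lf [1,14,22,32]))) .nil)) (.nd (.nd .nil (.nd (.nd (.lf [25,10,17]) (.lf [25,11,14,30])) .nil)) .nil)))) (.nd (.nd (.nd (.nd (.nd (.lf [1,10,20,24,32]) (.lf [11,22,10])) (.nd (.nd .nil (.nd .nil (.nd (.lf [0,22,12]) (.lf [19,10,20,10])))) (.nd (.nd (.lf [25,9,24,30]) (.lf [25,10,14,32])) (.nd (.nd (.lf [9,17,28]) (.lf [9,32])) .nil)))) (.nd (.nd (.lf [18,10,14,32]) (.nd .nil (.nd (.nd (.lf [26,9,11]) (.nd (.lf [9,32,20]) (.lf [24,10,22,24]))) (.nd (.nd (.lf [12,9,17,20]) (.lf [23,9,22])) (.lf [24,24,16]))))) (.lf [8,30,12]))) (.nd (.nd (.nd (.nd (.nd .nil (.nd (.lf [5,13,20]) (.lf [19,12,16]))) .nil) (.nd (.nd (.nd (.lf [23,13,20]) (.nd (.lf [9,24,32,20]) (.lf [26,22,32]))) (.nd (.nd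 (.lf [12,17,22]) (.lf [26,26,10])) (.lf [26,24]))) .nil)) (.nd (.lf [1,10,22,32]) (.lf [8,12,17,24]))) (.nd (.lf [11,9,20,17]) (.nd (.lf [18,10,30,12,32]) (.nd (.nd (.nd (.lf [9,9,17]) (.lf [9,24,32])) .nil) (.nd (.lf [25,9,32,30]) (.lf [25,11,16,24]))))))) (.nd (.nd (.nd .nil (.nd .nil (.nd .nil (.nd (.nd (.lf [10,9,30,24]) (.lf [10,32])) .nil)))) (.lf [21,10,20,26,24])) (.nd (.nd (.lf [21,22,12,26]) (.lf [7,28,12,30])) .nil))))) (.nd (.nd (.nd (.nd (.nd (.lf [25,17,24,30]) (.lf [22,9,30,32])) .nil) (.nd (.nd (.lf [3,22,28]) (.lf [7,14,22,32,30])) (.nd (.nd .nil (.nd (.nd .nil (.nd (.lf [14,9,20,17]) (.lf [2,14,26]))) .nil)) (.lf [21,22,28])))) (.nd (.nd (.nd (.nd (.nd .nil (.nd (.nd (.lf [10,9,24,32,20]) (.lf [7,17,32,32,20])) .nil)) (.lf [3,22,32])) .nil) (.nd (.nd (.lf [10,14,26]) (.lf [2,26])) .nil)) (.nd (.nd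 (.lf [25,16,32]) (.lf [22,13,24,28])) .nil))) (.nd (.nd (.nd (.nd (.lf [25,32,11]) (.lf [22,14,22,24])) .nil) (.nd (.nd (.nd .nil (.nd (.nd .nil (.nd (.lf [14,12,20]) (.lf [2,12,22]))) .nil)) (.lf [21,14,22,24])) (.nd (.lf [3,22,30]) (.lf [7,12,22,32,30])))) (.nd (.nd (.nd (.nd (.lf [10,22,10]) (.lf [2,22,12])) (.nd (.nd .nil (.nd .nil (.nd (.lf [21,10,32,20]) (.lf [21,13,26])))) .nil)) (.nd (.nd (.nd .nil (.nd (.nd (.lf [10,24,32,20]) (.lf [7,9,20,28])) .nil)) (.lf [3,10,26,32])) .nil)) (.nd (.nd (.lf [25,12,32,20]) (.lf [22,18,26,24])) .nil)))))) (.nd (.nd (.nd (.nd (.nd (.nd (.nd (.nd (.nd .nil (.nd (.lf [22]) (.lf [25,10,22,30]))) .nil) (.nd (.nd .nil (.nd (.lf [25,10,13,30]) (.lf [22,18,22]))) .nil)) .nil) (.nd (.nd (.nd (.nd (.lf [2,13,24,26]) (.nd (.nd (.nd (.lf [21,20,32,32]) (.lf [10,17,26,32])) .nil) .nil))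 .nil) (.lf [10,9,20,17])) (.nd (.lf [3,12,20,30]) (.nd (.nd .nil (.nd .nil (.nd .nil (.nd (.lf [7,22,28]) (.lf [21,32,22,16]))))) .nil)))) (.nd (.nd (.nd (.nd (.nd .nil (.nd (.nd (.lf [21,20,10]) (.lf [10,22,12])) .nil)) .nil) .nil) (.nd (.nd (.lf [7,14,20,28]) (.lf [14,15,26])) (.nd (.nd .nil (.nd .nil (.nd (.lf [7,17,32,20]) (.lf [21,32,22])))) .nil))) (.nd (.nd (.lf [22,14,32,24]) (.lf [25,10])) .nil))) (.nd (.nd .nil (.nd (.nd (.lf [3,20,32,30]) (.lf [7,17,22,30])) (.nd (.nd (.nd (.lf [2,10,20]) (.lf [10,22,32,24])) .nil) (.lf [10,12,24,26])))) (.nd (.nd (.nd (.nd (.lf [7,12,20,24,28]) (.lf [14,26])) (.lf [7,32,11,20])) (.lf [10,9,26])) (.nd .nil (.nd (.lf [25,9,14,26]) (.lf [22,9,26,30])))))) (.nd (.nd (.nd (.nd (.nd (.lf [2,10,24,14]) (.lf [21,20,30,22])) (.nd (.nd .nil (.nd (.lf [3,10,24,28]) (.lf [10,9,32,12])))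 .nil)) (.nd (.nd (.lf [11,17,26,32]) (.lf [9,12,20,24,32])) (.nd (.lf [9,9,32,12]) (.lf [11,24,32,24])))) (.nd (.nd (.nd (.nd (.lf [11,17,26]) (.lf [11,9,24])) .nil) (.nd (.nd (.lf [12,22,16]) (.nd (.lf [15,12,20]) (.lf [12,14,24]))) (.lf [18,14,30,32]))) (.nd (.lf [10,28,10]) (.nd (.lf [7,12,30,24]) (.lf [10,17,24,32]))))) (.nd (.nd (.nd (.nd (.nd .nil (.nd (.lf [3,13,28,24]) (.lf [10,32,12]))) .nil) (.nd (.lf [2,12,20,26]) (.lf [21,32,30]))) (.nd (.nd (.lf [9,32,12]) (.lf [11,28,30,32])) (.nd (.lf [11,17,22,32]) (.lf [9,12,24,26,32])))) (.nd (.nd (.nd (.nd (.lf [6,22,10]) (.nd (.lf [15,9,20,17]) (.lf [6,12,24]))) (.lf [18,10,32,26])) (.nd (.nd (.lf [11,30,26]) (.lf [11,32,32])) .nil)) (.nd (.nd (.lf [7,12,24]) (.lf [10,20,22,32])) (.nd (.lf [10,32,32]) (.nd (.nd .nil (.nd .nil (.nd .nil (.nd (.lf [21,14,20,30,26])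 (.lf [21,24,16,28]))))) .nil))))))) (.nd (.nd (.nd (.nd .nil (.nd (.nd (.lf [7,9,22,32]) (.lf [7,9,20,17])) (.nd (.lf [14,26,30]) (.lf [10,22,28])))) (.nd (.nd (.nd (.nd (.nd (.lf [2,10,20,30]) (.lf [7,22,12])) .nil) .nil) (.nd (.nd (.nd (.lf [3,12,20]) (.lf [10,14,20,28])) .nil) (.lf [10,9,22,28,32]))) (.nd (.nd (.lf [25,10,26]) (.lf [22,30,22])) .nil))) (.nd (.nd (.nd .nil (.nd (.nd (.nd .nil (.nd (.lf [22,9,20]) (.lf [25,9,14,22,30]))) .nil) (.nd (.nd .nil (.nd (.lf [25,30,14]) (.lf [22,18,26]))) .nil))) (.nd (.nd (.lf [14,9,26,32]) (.nd (.nd .nil (.nd .nil (.nd .nil (.nd (.lf [10,17,22,30]) (.lf [21,20,24]))))) .nil)) (.nd (.nd (.nd .nil (.nd (.nd (.nd (.lf [21,14,20,30]) (.lf [7,22,32])) .nil) .nil)) .nil) (.lf [7,20,17,24])))) (.nd (.nd (.nd (.nd (.nd (.lf [3,20,32]) (.lf [10,12,32,32,20])) .nil) (.nd (.nd .nil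 (.nd .nil (.nd (.lf [10,22,28,32]) (.lf [21,14,20,24])))) .nil)) (.nd (.nd (.nd (.lf [2,20,28]) (.nd (.nd (.lf [21,20,28]) (.lf [7,9,26])) .nil)) .nil) .nil)) (.nd .nil (.nd (.lf [22,13,30]) (.lf [25,9,14])))))) (.nd (.nd (.nd (.nd (.lf [21,14,24,30]) (.nd (.nd (.lf [14,14,30]) (.lf [7,30,12,32])) .nil)) (.nd (.nd (.lf [8,20,30,32]) (.nd (.nd (.lf [18,14,30]) (.lf [6,20,32,16])) (.lf [18,9,10]))) (.nd (.nd (.lf [15,12,32,30]) (.nd (.lf [15,26,32]) (.lf [12,9,32,12]))) (.lf [8,17,28,32])))) (.nd (.nd (.nd (.nd (.lf [8,17,26]) (.lf [8,28,10])) .nil) (.nd (.nd (.nd (.lf [15,12,13]) (.lf [9,12,22,24])) (.lf [9,14,24])) (.lf [18,11,32]))) (.nd (.nd (.nd .nil (.nd (.lf [2,10,32,28]) (.lf [7,28,10]))) (.nd (.nd .nil (.nd .nil (.nd .nil (.nd (.lf [21,9,20,22]) (.lf [21,9,32,28]))))) .nil)) (.nd (.nd (.lf [14,9,24,32]) (.nd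 (.lf [3,10,32,28]) (.lf [10,14,24]))) (.lf [7,17,24,32]))))) (.nd (.nd (.nd (.nd (.nd (.lf [14,30,12]) (.lf [7,30,14,32])) .nil) (.lf [21,10,20,26])) (.nd (.nd (.nd (.lf [15,12,30,32]) (.nd (.lf [15,9,26,32]) (.lf [12,32,12]))) (.lf [8,17,32,28])) (.nd (.lf [8,20,32,30]) (.nd (.nd (.lf [18,30,12]) (.lf [6,20,17,32])) (.lf [18,9,17]))))) (.nd (.nd (.nd (.nd (.nd (.lf [15,14]) (.lf [9,22,10])) (.lf [9,9,28,12])) (.lf [18,9,11,32])) (.nd (.nd (.lf [8,26,24]) (.lf [8,24])) .nil)) (.nd (.nd (.nd (.lf [14,24,32]) (.nd (.lf [3,28,32]) (.lf [10,14,30,24]))) (.lf [7,24,11,32])) (.nd (.nd .nil (.nd (.lf [2,24]) (.lf [7,32,32]))) .nil))))))))) (.nd (.nd (.nd (.nd (.nd (.nd (.nd (.nd (.nd (.nd (.lf [14]) (.lf [3,13,32])) (.lf [7])) (.nd (.nd .nil (.nd (.lf [2,13,32]) (.lf [7,30,32,24]))) (.lf [10,24,28,14]))) (.nd (.nd (.nd (.nd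 (.lf [15,9,32]) (.lf [12,22,10,32])) (.lf [15,32,20])) (.lf [8,17,20,32])) (.nd (.lf [8,32,30]) (.nd (.lf [18,16,20]) (.nd (.lf [18,11]) (.lf [6,14,24,32])))))) (.nd (.nd (.nd (.lf [15,9,30]) (.nd (.nd (.lf [18,10,32]) (.lf [8,20,24])) (.lf [8,9,30]))) (.nd .nil (.nd (.lf [9,9,20,17]) (.lf [9,12,17])))) (.nd (.lf [14,28,12]) (.nd .nil (.nd (.lf [21,10,20,30,26]) (.lf [7,28,12,32])))))) (.nd (.nd (.nd (.nd (.nd .nil (.nd (.lf [2,10,24,28]) (.lf [7,24,32,28]))) (.nd (.nd .nil (.nd .nil (.nd .nil (.nd (.lf [21,20,26,28]) (.lf [21,9,32,30]))))) (.lf [10,12,28,24]))) (.nd (.nd (.lf [14,15]) (.lf [3,10,24,14])) (.lf [7,17,30]))) (.nd (.nd (.lf [8,30,32]) (.nd (.lf [18,11,20]) (.nd (.lf [18,16]) (.lf [6,12,24,32])))) (.nd (.nd (.nd (.lf [15,32]) (.lf [12,22,16,32])) (.lf [15,9,32,20])) (.lf [8,32,11,20])))) (.nd (.nd (.nd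 .nil (.nd (.lf [9,12,24,26]) (.lf [9,12,28,24]))) (.nd (.lf [15,13,30]) (.nd (.nd (.lf [18,9,10,32]) (.lf [8,17,20])) (.lf [8,9,17])))) (.nd (.nd .nil (.nd (.lf [21,24,14,28]) (.lf [7,9,28,12,32]))) (.lf [14,14,28]))))) (.nd (.nd (.nd .nil (.nd (.nd (.nd (.nd (.lf [3,10,20,24]) (.lf [7,12,28,32,22])) (.lf [14,14,22,32])) (.lf [21,10,32,22])) (.lf [2,12,20,32]))) (.nd (.nd (.lf [21,18,32,22]) (.lf [10,12,32,22])) (.nd .nil (.nd (.lf [25,9,10,22]) (.lf [22,26,30]))))) (.nd (.nd (.nd (.nd (.nd (.nd .nil (.nd (.lf [22,18]) (.lf [25,30,14,26]))) .nil) (.nd (.nd .nil (.nd (.lf [25,10,18,30]) (.lf [22,22]))) .nil)) .nil) (.nd (.nd (.nd (.nd (.lf [2,12,20,30]) (.lf [21,9,20,32,32])) .nil) .nil) (.nd (.nd (.nd (.lf [3,10,13,20]) (.lf [7,12,20,32,28])) (.lf [14,12,22,32])) .nil))) (.nd (.nd (.nd (.lf [21,10,20]) (.lf [10,14,32,22]))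 .nil) (.nd (.nd (.lf [22,10,32,24]) (.lf [25,10,18])) .nil))))) (.nd (.nd (.nd (.nd (.nd (.lf [10]) (.nd (.lf [10,30,32,24]) (.nd (.nd .nil (.nd .nil (.nd .nil (.nd (.lf [21,20,10,26]) (.lf [21,24,16,30]))))) (.lf [7,14,28,24])))) (.nd (.nd (.lf [9,22,10,32]) (.lf [11,22,30,32])) (.nd (.lf [11,17,32]) (.lf [9,14,24,32])))) (.nd (.nd (.nd (.lf [15,14,26]) (.nd (.lf [11,26,30]) (.nd (.lf [18,12,32,30]) (.lf [11,9,30])))) (.nd .nil (.nd (.lf [6,9,20,17]) (.lf [6,12,17])))) (.nd (.lf [3,24]) (.nd (.lf [2,14,24,28]) (.nd (.lf [21,24,30]) (.lf [10,14,32,28])))))) (.nd (.nd (.nd (.nd (.lf [10,24,32,28]) (.lf [7,24,28,12])) (.lf [10,17,30])) (.nd (.nd (.lf [11,32,11]) (.lf [9,12,24,32])) (.nd (.lf [9,22,16,32]) (.lf [11,22,32,30])))) (.nd (.nd (.nd .nil (.nd (.lf [12,20,17]) (.lf [12,14,17]))) (.nd (.lf [15,12,22]) (.nd (.lf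 [11,17,20]) (.nd (.lf [18,11,32,26]) (.lf [11,9,17]))))) (.nd (.nd (.lf [2,32,12]) (.nd (.lf [21,13,20,22]) (.lf [10,12,32,28]))) (.lf [3,32,12]))))) (.nd (.nd (.nd (.nd .nil (.nd (.nd (.nd .nil (.nd (.lf [22,13,20]) (.lf [25,14,22,30]))) .nil) (.nd (.nd .nil (.nd (.lf [25,9,30,14]) (.lf [22,26]))) .nil))) (.nd (.lf [10,12,20,30,32]) (.lf [21,10,20,30]))) (.nd (.nd (.nd (.nd (.lf [3,20,24,28]) (.lf [14,22,11])) .nil) (.nd (.nd (.nd (.lf [2,20,11]) (.lf [21,18,20,28])) .nil) (.lf [7,20,32,16]))) (.nd .nil (.nd (.lf [22,18,30]) (.lf [25,13,14]))))) (.nd (.nd .nil (.nd .nil (.nd (.lf [10,12,32,22,30]) (.lf [21,9,20,24])))) (.nd (.nd (.nd (.lf [2,12,24,26]) (.lf [7,20,17,32])) (.nd (.nd (.lf [3,10,20,30]) (.lf [14,12,22])) (.lf [21,10,20,24]))) (.nd (.nd (.lf [25,14,22]) (.lf [22,22,30])) .nil)))))) (.nd (.nd (.nd (.nd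 (.nd (.nd (.nd (.lf [25,9,14,32]) (.lf [22,10,26,24])) .nil) (.nd (.nd (.lf [14,20,24]) (.nd (.nd .nil (.nd .nil (.nd (.nd .nil (.nd (.lf [7,17,32,22]) (.lf [21,18,32,20]))) (.nd (.nd (.lf [10,17,20]) (.lf [21,10,22])) .nil)))) .nil)) (.lf [7,12,22,28]))) (.nd (.nd (.nd (.lf [10,22,16,32]) (.lf [21,22,24])) .nil) (.nd (.nd (.lf [25,17,32,20]) (.lf [22,22,24])) .nil))) (.nd (.nd (.nd (.nd (.lf [25,14,22,32]) (.lf [22,24,14])) .nil) (.nd (.lf [7,12,22,30]) (.nd (.lf [14,9,32,22]) (.nd (.nd .nil (.nd .nil (.nd (.lf [7,32,11,22]) (.lf [10,30,20])))) .nil)))) (.nd (.nd .nil (.nd (.lf [10,22,10,32]) (.lf [21,10,26,30]))) (.nd (.nd (.lf [25,11,32]) (.lf [22,9,24])) .nil)))) (.nd (.nd (.nd (.nd (.nd (.lf [3,13]) (.nd (.lf [21,20,26,24]) (.lf [10,9,24,32,12]))) (.lf [2,14,24,28,32])) (.nd (.nd (.nd (.nd (.nd (.nd (.lf [1,10,24,14,32])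 (.lf [1,12,24,26,32])) .nil) (.nd .nil (.nd (.lf [25,10,12,22,30]) (.lf [25,10,11,22])))) (.nd (.nd .nil (.nd (.lf [17,13,26]) (.lf [19,10,20]))) .nil)) (.nd (.nd .nil (.nd .nil (.nd (.nd (.lf [26,12,14]) (.lf [24,26,24])) (.nd (.lf [20,10,22]) (.lf [20,10,24]))))) (.nd .nil (.nd .nil (.nd (.lf [25,10,11,26,24]) (.lf [25,10,16,24])))))) (.nd (.nd (.nd (.nd (.nd (.lf [5,14]) (.lf [5,14,20])) .nil) .nil) .nil) .nil))) (.nd (.nd (.nd (.nd (.nd (.lf [1,10,13,30]) (.lf [11,12,22,32,24])) (.nd (.nd .nil (.nd (.lf [4,10,24]) (.lf [19,10,12,20]))) (.nd (.nd (.lf [25,32,20]) (.lf [25,13,32])) .nil))) (.nd (.nd (.lf [18,10,12,32]) (.nd .nil (.nd (.lf [20,22,24]) (.lf [20,13,24])))) (.lf [11,12,28,30,32]))) (.nd (.nd (.nd (.nd (.nd (.lf [4,10]) (.lf [19,11,14])) .nil) (.nd (.nd (.lf [26,10,14,26,32]) (.lf [26,11,32,12])) .nil))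 (.nd (.lf [1,20,22,11]) (.lf [11,12,32]))) (.nd (.lf [11,12,32,20]) (.nd (.lf [18,10,32,20,17]) (.nd .nil (.nd (.lf [25,9,26,24]) (.lf [25,24]))))))) (.nd (.nd (.lf [3,10,28,30]) (.lf [21,32,20,26])) (.nd (.nd (.lf [2,14]) (.lf [10,12,30,32,24])) .nil)))) (.nd (.nd (.nd (.nd (.nd (.nd (.lf [2,10,28,14]) (.lf [21,18])) .nil) .nil) (.nd (.lf [3,30]) (.lf [10,24,32,12]))) (.nd (.nd (.nd (.nd (.nd (.nd (.lf [0,12,13]) (.lf [0,20,11])) .nil) (.nd (.nd (.nd (.lf [24,18]) (.lf [26,10,17,26,24])) (.nd (.lf [26,10,12,22]) (.lf [26,10,12,24]))) .nil)) (.nd .nil (.nd (.nd (.lf [25,10,17,24,30]) (.lf [25,11,32,16])) .nil))) (.nd (.nd .nil (.nd (.nd (.lf [25,10,12]) (.lf [25,10,11,30])) .nil)) .nil)) (.nd (.nd (.nd (.nd (.nd (.lf [1,12,32,24]) (.lf [1,14,20,32])) .nil) .nil) (.nd (.nd .nil (.nd (.lf [17,22]) (.lf [19,11,22])))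 .nil)) .nil))) (.nd (.nd (.nd (.nd (.nd (.nd (.nd (.lf [4,10,20,32,20]) (.lf [19,9,14,16])) .nil) (.nd (.nd (.lf [23,18]) (.lf [26,11,26])) .nil)) (.nd (.lf [1,10,24]) (.lf [11,14,32]))) (.nd (.lf [11,12,20,32]) (.lf [18,10,12,20,32]))) (.nd (.nd (.nd (.lf [1,10]) (.lf [11,12,20,30,32])) (.nd (.nd .nil (.nd (.lf [4,20,22,11]) (.lf [19,10,12,24]))) .nil)) (.nd (.nd (.lf [18,11,14,32]) (.nd .nil (.nd (.lf [26,11,20]) (.lf [23,20,22])))) (.lf [11,12,24,30,32])))) (.nd (.nd (.nd (.nd (.lf [2,12,22,26]) (.lf [21,22,30,26])) (.lf [10,12,20,32,20])) .nil) (.lf [3,28,10])))))) (.nd (.nd (.nd (.nd (.nd .nil (.nd (.lf [25,11,24,30]) (.lf [22,30,32]))) (.nd (.nd (.lf [2,22,30]) (.nd (.nd .nil (.nd .nil (.nd (.lf [10,20,32]) (.lf [7,17,20])))) .nil)) (.nd (.lf [3,26,11]) (.lf [10,12,22,28])))) (.nd (.nd (.nd (.nd (.lf [7,14,26,32])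 (.nd (.nd .nil (.nd (.lf [14,12,32,22,28]) (.lf [2,22,16,28]))) .nil)) (.lf [21,9,26])) (.lf [3,13,26])) (.nd .nil (.nd (.lf [25,12,32]) (.lf [22,10,30,32]))))) (.nd (.nd (.nd .nil (.nd (.lf [25,10,32]) (.lf [22,10,22,24]))) (.nd (.nd (.lf [3,22,10]) (.lf [10,12,22,30])) (.nd (.lf [2,10,26,28]) (.nd (.nd .nil (.nd .nil (.nd (.nd .nil (.nd (.lf [10,9,20,32]) (.lf [21,10,22,24]))) (.nd (.nd (.lf [7,20,24]) (.lf [21,18,22,28])) .nil)))) .nil)))) (.nd (.nd (.lf [3,10,22]) (.nd (.nd (.lf [7,12,26,32]) (.nd (.nd .nil (.nd (.lf [14,12,24,32,20]) (.lf [2,14,32,20]))) .nil)) (.lf [21,32,20,10]))) (.nd .nil (.nd (.lf [25,10,30,24]) (.lf [22,13,26,24])))))) (.nd (.nd (.nd (.nd (.lf [7,9,24,32,12]) (.nd (.nd (.nd (.lf [14,28,14,24]) (.lf [21,10,28])) .nil) .nil)) (.nd (.nd (.nd .nil (.nd (.nd .nil (.nd (.lf [4,12,20,26]) (.lf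 [4,12,26]))) .nil)) .nil) (.nd (.nd (.nd (.nd (.nd (.lf [17,13,20,26]) (.lf [19,10])) .nil) (.nd (.nd (.nd (.lf [20,10]) (.lf [26,10,12,22,24])) (.nd (.lf [26,10,11,26]) (.lf [26,12,24,14]))) .nil)) (.nd (.nd .nil (.nd (.lf [1,24,14]) (.lf [1,12,22,30]))) (.nd (.nd (.lf [25,10,16,26,32]) (.lf [25,12,32,16])) .nil))) (.nd (.nd .nil (.nd (.nd (.lf [25,10,11]) (.lf [25,10,12,30])) .nil)) .nil)))) (.nd (.nd (.nd (.nd (.nd (.lf [1,10,13,20]) (.lf [8,14,22,32])) (.nd (.nd .nil (.nd (.lf [13,12,26]) (.lf [4,10,22]))) .nil)) (.nd (.nd (.lf [18,10,14,20]) (.nd .nil (.nd (.lf [26,17]) (.lf [23,9,26])))) (.lf [8,14,28,32]))) (.nd (.nd (.nd (.nd (.nd (.lf [13,12,13]) (.lf [4,10,20,24])) .nil) (.nd (.nd (.lf [23,9,20]) (.lf [26,22,10])) .nil)) (.nd (.lf [1,22,12,24]) (.lf [8,14,30,32]))) (.nd (.lf [8,12,30,20,32]) (.lf [18,11,12]))))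 (.nd .nil (.nd (.nd (.nd (.lf [14,14,24]) (.lf [21,14,22,26])) (.lf [7,12,30,32,24])) .nil)))) (.nd (.nd (.nd (.lf [14,12,28,24]) (.nd .nil (.nd (.lf [21,10,20,32,20]) (.lf [7,24,32,12])))) (.nd (.nd (.nd (.nd (.nd (.nd (.lf [17,20,22]) (.lf [19,10,15])) .nil) .nil) (.nd (.nd .nil (.nd (.lf [1,12,20,26]) (.lf [1,12,26]))) .nil)) .nil) (.nd (.nd (.nd .nil (.nd .nil (.nd (.lf [25,10,11,22,30]) (.lf [25,10,12,22])))) (.nd (.nd .nil (.nd (.lf [4,24,14]) (.lf [4,14,26,24]))) .nil)) (.nd (.nd .nil (.nd .nil (.nd (.nd (.lf [26,10,12]) (.lf [20,10,22,24])) (.nd (.lf [24,13,26]) (.lf [24,9,24]))))) (.nd .nil (.nd .nil (.nd (.lf [25,10,12,30,32]) (.lf [25,12,14,24])))))))) (.nd (.nd (.nd (.nd (.nd (.nd (.nd (.lf [13,14]) (.lf [4,10,13,20])) .nil) (.nd (.nd (.lf [26,26,24]) (.lf [26,9,24])) .nil)) (.nd (.lf [1,10,22]) (.lf [8,12,30,32])))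 (.nd (.lf [8,12,20,24,32]) (.nd (.lf [18,12,16]) (.nd .nil (.nd (.lf [25,32,30]) (.lf [25,10,24,16])))))) (.nd (.nd (.nd (.lf [1,10,20,24]) (.lf [8,12,22,32])) (.nd (.nd .nil (.nd (.lf [13,12,20]) (.lf [4,10,32,20]))) (.nd (.nd (.lf [25,30,24]) (.lf [25,10,32,16])) .nil))) (.nd (.nd (.lf [18,10,14,26]) (.nd .nil (.nd (.lf [24,14,22,24]) (.lf [24,14,32])))) (.lf [8,12,28,32])))) (.nd (.nd (.nd (.lf [14,12,32]) (.lf [7,12,24,32,28])) .nil) (.lf [21,10,22,32,22])))))))) (.nd (.nd (.nd (.nd (.nd (.nd (.nd (.nd (.nd (.nd (.lf [15]) (.lf [9,12,22])) .nil) (.lf [8])) (.nd (.lf [8,17,20,30]) (.nd .nil (.nd (.lf [18,12,32,22]) (.lf [9,24,28,14]))))) (.nd (.lf [14,14,24,32]) (.nd .nil (.nd (.lf [21,9,32,16]) (.lf [7,32,12,28]))))) (.nd (.nd (.nd (.nd (.lf [14,9,30]) (.lf [3,10,32])) (.lf [7,9,30])) (.nd (.nd .nil (.nd (.lf [2,10,32])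 (.lf [7,17,30,32,24]))) (.nd (.nd .nil (.nd .nil (.nd .nil (.nd (.lf [21,9,20,22,28]) (.lf [21,9,32]))))) (.lf [10,28,24,14])))) (.nd (.nd (.nd (.lf [15,12,28,32]) (.lf [15,12,20,32])) (.nd (.lf [18,14,22]) (.lf [18,12,13]))) (.nd (.nd (.lf [8,17,20,30,32]) (.lf [8,17,30,32])) (.nd (.lf [12,12,32,20]) (.lf [12,12,28,32])))))) (.nd (.nd (.nd (.nd (.lf [8,26]) (.nd .nil (.nd (.lf [18,10,32,30]) (.lf [9,14])))) (.nd (.nd (.nd (.lf [15,15]) (.lf [9,22,10,24])) .nil) (.lf [8,17,30]))) (.nd (.nd .nil (.nd (.lf [21,10,26,30,20]) (.lf [7,9,32,12,28]))) (.lf [14,12,24,32]))) (.nd (.nd (.nd (.nd .nil (.nd (.lf [2,24,28]) (.lf [7,17,24,32,28]))) (.lf [10,14,24,28])) (.nd (.nd (.lf [14,13,30]) (.lf [3,14,24])) (.lf [7,9,17]))) (.nd (.nd (.nd (.lf [8,17,20,32,30]) (.lf [8,17,32,30])) (.nd (.lf [12,12,20,32]) (.lf [12,12,32,28])))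 (.nd (.nd (.lf [15,12,32,28]) (.lf [15,14,20,32])) (.nd (.lf [18,11,30]) (.lf [18,9,12]))))))) (.nd (.nd (.nd (.nd (.nd (.nd (.nd (.lf [3,10,20,32]) (.lf [10,14,20,28,24])) .nil) (.lf [10,9,32,20])) (.nd (.nd (.nd (.lf [2,10,20,32]) (.lf [7,26,12])) .nil) .nil)) (.nd (.nd (.lf [25,12,30,22]) (.lf [25,9,11,30])) .nil)) (.nd (.nd (.lf [25,16,22]) (.lf [22,14,26,30])) (.nd (.nd (.lf [14,26,28]) (.lf [10,22,12,28])) (.nd (.lf [7,17,22,32]) (.lf [7,14,20]))))) (.nd (.nd (.nd (.nd (.nd (.nd (.lf [2,32,22]) (.nd (.nd (.lf [21,20,30]) (.lf [7,9,22])) .nil)) .nil) .nil) (.nd (.nd (.nd (.lf [3,14,20]) (.lf [10,14,20,30])) .nil) (.nd (.nd .nil (.nd .nil (.nd (.lf [10,32,20]) (.lf [21,24,16,26])))) .nil))) (.nd (.nd (.lf [22,20,14]) (.lf [22,22,11])) .nil)) (.nd (.nd (.lf [22,10,30]) (.lf [25,9,11])) (.nd (.nd (.nd (.nd .nil (.nd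 (.nd (.nd (.lf [21,20,10,28]) (.lf [7,22,12,32])) .nil) .nil)) .nil) (.lf [7,12,20,24])) (.nd (.lf [14,22,32]) (.nd (.nd .nil (.nd .nil (.nd .nil (.nd (.lf [10,9,22,30]) (.lf [21,9,24,26]))))) .nil))))))) (.nd (.nd (.nd (.nd (.nd (.nd (.nd (.lf [6,12,22]) (.lf [15,22])) (.lf [11])) (.nd (.lf [11,17,20,30]) (.nd (.lf [18,12,32]) (.lf [12,12])))) (.nd (.lf [3,24,11]) (.nd (.lf [2,12,24,28]) (.nd (.lf [21,9,20,26]) (.lf [10,12,28,32]))))) (.nd (.nd (.lf [10,9,30]) (.nd (.lf [10,20,32,20]) (.lf [7,12,24,28]))) (.nd .nil (.nd (.nd (.lf [11,22,32]) (.lf [11,9,32])) (.nd (.lf [9,12,32,20]) (.lf [9,12,28,32])))))) (.nd (.nd (.nd (.nd (.lf [11,26]) (.nd (.lf [18,9,12,32]) (.lf [6,14]))) (.nd (.nd (.lf [12,12,26]) (.lf [15,9,26])) (.lf [11,17,30]))) (.nd (.nd (.lf [2,14,32]) (.nd (.lf [21,24]) (.lf [10,14,28,32]))) (.lf [3,14,32])))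 (.nd (.nd (.nd (.lf [10,9,20,32,20]) (.nd (.nd .nil (.nd .nil (.nd .nil (.nd (.lf [21,20,14,22]) (.lf [21,24,16]))))) (.lf [7,28,12,24]))) (.lf [10,9,17])) (.nd (.nd (.nd (.lf [11,26,32]) (.lf [11,32])) (.nd (.lf [9,12,20,32]) (.lf [9,12,32,28]))) .nil)))) (.nd (.nd (.nd (.nd (.nd (.nd (.lf [7,12,20,24,30]) (.lf [14,22])) (.nd (.nd .nil (.nd .nil (.nd (.lf [7,17,22,28,32]) (.lf [21,9,32,26])))) .nil)) (.nd (.nd (.nd .nil (.nd (.nd (.lf [21,10,20,22,26]) (.lf [10,26,12])) .nil)) .nil) .nil)) (.nd .nil (.nd (.lf [22,10]) (.lf [22,14,26])))) (.nd (.nd (.lf [25,9,12]) (.lf [22,9,32,24])) (.nd (.nd (.lf [3,20,32,28]) (.nd (.nd .nil (.nd .nil (.nd .nil (.nd (.lf [7,22,12,28]) (.lf [21,10,32,26]))))) .nil)) (.nd (.nd (.nd (.lf [2,20]) (.nd (.nd (.nd (.lf [21,20]) (.lf [10,9,26,32])) .nil) .nil)) .nil) (.lf [10,14,20])))))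 (.nd (.nd (.nd (.lf [10,9,22]) (.nd (.nd (.lf [7,14,20,30]) (.lf [14,15,22])) (.lf [7,22,12,28,32]))) (.nd .nil (.nd (.lf [25,11,30,22]) (.lf [25,9,12,30])))) (.nd (.nd (.lf [22,22,11,30]) (.lf [25,16,26])) (.nd (.nd (.nd (.nd (.lf [2,24,11,26]) (.lf [10,26,32])) .nil) (.lf [10,14,30,20])) (.nd (.lf [3,12,20,28]) (.lf [7,9,22,30])))))))) (.nd (.nd (.nd (.nd (.nd (.nd (.nd (.nd (.lf [10,12,22]) (.lf [2,10,26])) (.nd (.nd .nil (.nd .nil (.nd (.lf [21,10,22,24,28]) (.lf [21,18,22])))) .nil)) (.nd (.nd (.nd .nil (.nd (.nd (.lf [10,20,32,28]) (.lf [7,17,20,28])) .nil)) (.lf [3,14,26,30])) .nil)) (.nd (.nd .nil (.nd (.lf [22,18,26,32]) (.lf [25,12,24]))) (.nd .nil (.nd (.lf [22,20,32]) (.lf [25,11,22,24]))))) (.nd (.nd (.nd .nil (.nd (.lf [22,14,22,32]) (.lf [25,14,26,24]))) (.nd .nil (.nd (.lf [22,13,30,24]) (.lf [25,24,11]))))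 (.nd (.nd (.nd .nil (.nd (.nd .nil (.nd (.lf [14,20,24,11]) (.lf [2,12,26]))) .nil)) (.lf [21,14,22,32])) (.nd (.lf [3,26,30]) (.lf [7,32,20,11]))))) (.nd (.nd (.nd (.nd (.nd (.nd .nil (.nd (.nd (.lf [10,28,32,22]) (.lf [7,20,24,28])) .nil)) (.lf [3,12,22,30])) .nil) (.nd (.nd (.lf [10,26,10]) (.lf [2,13,22])) .nil)) .nil) (.nd .nil (.nd (.nd (.lf [3,26,28]) (.lf [7,32,12,20])) (.nd (.nd .nil (.nd (.nd .nil (.nd (.lf [14,12,20,24]) (.lf [2,14,22]))) .nil)) (.lf [21,9,26,30])))))) (.nd (.nd (.nd (.nd (.nd (.nd (.nd (.nd (.nd (.lf [1,13]) (.lf [1,20,24,32])) .nil) (.lf [11,12,22])) (.nd (.nd .nil (.nd (.lf [4,32]) (.lf [5,10,22]))) .nil)) (.nd (.nd .nil (.nd (.lf [25,13,30]) (.nd (.nd .nil (.nd (.lf [9,17,20,24,32]) (.lf [23,20,26,24]))) (.nd (.nd (.lf [6,20]) (.lf [20,26])) .nil)))) (.lf [11,32,12,28]))) (.nd (.nd (.nd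 (.nd (.nd (.lf [4,20,22,24]) (.lf [5,10,13,20])) .nil) (.nd (.nd (.nd .nil (.nd (.lf [9,17,24,32,22]) (.lf [26,11,22,24]))) (.nd (.nd (.lf [12,22]) (.lf [26,10,22,16])) .nil)) (.lf [25,10,14,26]))) (.nd (.nd .nil (.nd (.lf [1,20,22]) (.lf [1,22,30,32]))) (.lf [11,9,32,12]))) (.lf [11,12,22,30]))) (.nd (.nd (.lf [3,13,28]) (.lf [21,18,32,20,22])) (.nd (.nd (.lf [2,22,16,26]) (.lf [10,20,32,16,20])) .nil))) (.nd (.nd (.nd (.lf [3,10,13,30]) (.nd (.lf [21,26,32,22]) (.lf [10,12,28,32,24]))) (.lf [2,28,14])) (.nd (.nd (.nd (.lf [1,32,24,14]) (.nd (.nd .nil (.nd (.lf [17,12,22]) (.lf [5,12,26]))) .nil)) (.nd (.nd .nil (.nd .nil (.nd (.nd (.lf [26,9,10]) (.lf [23,10,26,32])) .nil))) .nil)) (.nd (.nd (.nd (.nd (.nd (.lf [0,14]) (.lf [19,14])) .nil) (.nd (.nd .nil (.nd (.lf [26,10,22]) (.lf [26,9,14,24]))) .nil)) (.lf [1,12,22,32,30]))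 .nil)))) (.nd (.nd (.nd (.nd (.nd (.nd (.nd (.nd (.lf [4,13]) (.lf [0,20])) .nil) (.nd (.nd (.nd (.lf [20,18]) (.lf [9,17,22,24,32])) (.nd (.lf [6,9,22]) (.lf [26,12,32]))) (.lf [25,9,26,30]))) (.nd (.nd .nil (.nd (.lf [1,13,24]) (.lf [1,13,22,32]))) (.lf [11,32,12]))) (.lf [11,14,20])) (.nd (.nd (.nd (.nd (.nd (.lf [1,30]) (.lf [1,20,32])) .nil) (.lf [11,12,30,22])) (.nd (.nd .nil (.nd (.lf [4,20,22]) (.lf [0,13,22]))) .nil)) (.nd (.nd .nil (.nd (.lf [25,9,11,16]) (.nd (.nd (.lf [26,9,12,17]) (.lf [9,17,32,22,24])) (.nd (.lf [12,9,20]) (.lf [23,32]))))) (.lf [11,24,32,12])))) (.nd (.nd (.nd (.nd (.lf [2,12,13]) (.lf [21,18,28])) (.lf [10,20,17,32,20])) .nil) (.lf [3,28,30]))) (.nd (.nd (.nd (.nd (.nd (.lf [2,14,32,20,22]) (.lf [21,22,26])) .nil) .nil) (.nd (.lf [3,10]) (.lf [10,12,24,32,30]))) (.nd (.nd (.nd (.nd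 (.nd (.nd (.lf [5,12,13]) (.lf [19,14,15])) .nil) (.nd (.nd (.nd (.lf [23,14,20]) (.lf [26,14,32,20])) .nil) .nil)) (.lf [1,12,26,32])) .nil) (.nd (.nd (.lf [1,24,14,32]) (.nd (.nd .nil (.nd (.lf [17,22,11]) (.lf [0,14,22]))) .nil)) (.nd (.nd .nil (.nd .nil (.nd .nil (.nd (.lf [23,10,20,22]) (.lf [23,10,24]))))) .nil))))))) (.nd (.nd (.nd (.nd (.nd (.nd (.nd (.lf [7,12,22]) (.lf [14,28,24,26])) .nil) (.nd (.nd (.nd .nil (.nd (.nd (.lf [7,17,32,22,28]) (.lf [10,17,20,28])) .nil)) .nil) .nil)) .nil) (.nd .nil (.nd (.lf [21,10,26]) (.lf [10,14,22,28,32])))) (.nd (.nd (.nd (.nd (.nd (.nd .nil (.nd (.nd (.lf [7,17,20,28,32]) (.lf [10,28,30,20])) .nil)) .nil) .nil) (.nd (.nd (.lf [7,26,10]) (.lf [14,20,24,28])) (.nd (.nd .nil (.nd .nil (.nd (.lf [21,26,24]) (.lf [21,10,22,28])))) .nil))) (.nd (.nd .nil (.nd (.lf [22,9,32])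 (.lf [25,14,30,32]))) (.nd .nil (.nd (.lf [22,18,22,32]) (.lf [25,9,17,24]))))) (.nd (.nd (.nd .nil (.nd (.lf [22,9,24,30]) (.lf [25,14,24]))) (.nd .nil (.nd (.lf [22,22,24,30]) (.lf [25,14,22,24])))) (.nd (.lf [10,12,22,28,32]) (.lf [21,22,24,30]))))) (.nd (.nd (.nd (.nd (.nd (.nd (.lf [8,12,22]) (.nd (.nd .nil (.nd (.lf [13,22]) (.lf [19,22]))) .nil)) (.nd (.nd .nil (.nd (.lf [25,13]) (.nd (.nd (.lf [26,13]) (.lf [6,17,20,32])) (.nd (.lf [9,20]) (.lf [23,32,22]))))) (.nd (.nd (.nd (.lf [18,13]) (.lf [18,30,32])) .nil) (.lf [8,9,24,32,12])))) (.nd (.nd (.nd (.nd (.nd (.lf [16,9]) (.lf [19,10,11])) .nil) (.nd (.nd (.nd (.lf [24,10]) (.lf [6,22,12,32])) (.nd (.lf [9,22,24]) (.lf [26,9,11,24]))) (.lf [25,32,24]))) (.lf [8,30,12,32])) (.nd (.nd (.nd .nil (.nd (.lf [18,13,30]) (.lf [18,32]))) (.lf [8,12,20,24])) .nil)))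 (.nd .nil (.nd (.nd (.nd (.lf [14,12,20,22]) (.lf [21,10])) (.lf [7,12,32,20,22])) .nil))) (.nd (.nd (.lf [7,12,20,22,32]) (.nd (.nd (.nd (.lf [14,24,28,14]) (.lf [21,10,24,28,32])) .nil) .nil)) (.nd (.nd (.nd (.lf [1,14,20]) (.nd (.nd .nil (.nd (.lf [4,14,20,22]) (.lf [19,22,16]))) .nil)) (.nd (.nd .nil (.nd .nil (.nd .nil (.nd (.lf [23,10,26]) (.lf [23,10,32,26]))))) .nil)) (.nd (.nd (.nd (.nd (.nd (.lf [17,12,13]) (.lf [4,12,20,24])) .nil) (.nd (.nd (.nd (.lf [23,10]) (.lf [26,10,22,24])) .nil) .nil)) (.lf [1,12,24])) .nil)))) (.nd (.nd (.nd (.nd (.nd (.nd (.nd (.nd (.lf [16,13]) (.lf [19,22,24])) .nil) (.nd (.nd (.nd .nil (.nd (.lf [6,17,22,32]) (.lf [26,12,26,24]))) (.nd (.nd (.lf [9,9,22]) (.lf [26,9,26])) .nil)) (.lf [25,9,26]))) (.lf [8,30,14,32])) (.nd (.nd (.nd .nil (.nd (.lf [18,9,30]) (.lf [18,9,32])))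 (.lf [8,14,20])) .nil)) (.nd (.nd (.lf [8,12,30,22]) (.nd (.nd .nil (.nd (.lf [13,20]) (.lf [19,20]))) .nil)) (.nd (.nd .nil (.nd (.lf [25,10,30,14]) (.nd (.nd .nil (.nd (.lf [6,17,32,22]) (.lf [23,26,24]))) (.nd (.nd (.lf [9,9,20,24]) (.lf [24,10,22])) .nil)))) (.nd (.nd (.nd (.lf [18,9]) (.lf [18,32,24])) .nil) (.lf [8,24,32,12]))))) (.nd (.nd (.nd (.lf [14,12,30,32]) (.lf [7,14,32,20,22])) .nil) (.lf [21,10,20,22,24]))) (.nd (.nd (.lf [14,12,24,28]) (.nd .nil (.nd (.lf [21,32,16,20,22]) (.lf [7,12,24,32,30])))) (.nd (.nd (.nd (.nd (.nd (.nd (.lf [17,14]) (.lf [4,14,20])) .nil) (.nd (.nd .nil (.nd (.lf [26,14,22]) (.lf [26,9,10,32]))) .nil)) (.lf [1,12,30,24])) .nil) (.nd (.nd (.lf [1,12,20,24]) (.nd (.nd .nil (.nd (.lf [4,12,24]) (.lf [19,11,32]))) .nil)) (.nd (.nd .nil (.nd .nil (.nd (.nd (.lf [26,9,14]) (.lf [23,10,20,22,24]))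 .nil))) .nil))))))))))) (.nd (.nd (.nd (.nd (.nd (.nd (.nd (.nd (.nd (.nd (.nd (.nd (.nd (.nd (.lf [1]) (.lf [1,20,30,32])) .nil) (.lf [11,12,20,30])) (.nd (.nd .nil (.nd (.lf [4,24]) (.lf [5,22,12]))) .nil)) (.nd (.nd .nil (.nd (.lf [25,30]) (.nd (.nd .nil (.nd (.lf [9,17,20,32]) (.lf [23,20,26,32]))) (.nd (.nd (.lf [12,20]) (.lf [20,9,22])) .nil)))) (.lf [11,24,30,12,32]))) (.nd (.nd (.nd (.nd (.nd (.lf [4,20,22,32]) (.lf [5,10,20])) .nil) (.nd (.nd (.nd .nil (.nd (.lf [9,22,12,32]) (.lf [26,11,22,32]))) (.nd (.nd (.lf [6,22]) (.lf [26,10,14,22])) .nil)) (.lf [25,11,12,22]))) (.nd (.nd .nil (.nd (.lf [1,13,20,22]) (.lf [1,22,24,32]))) (.lf [11,30,12,32]))) (.lf [11,12,20]))) (.nd (.nd (.lf [3,28]) (.lf [21,9,32,20,22])) (.nd (.nd (.lf [2,14,22,26]) (.lf [10,9,32,12,24])) .nil))) (.nd (.nd (.nd (.lf [3,10,30]) (.nd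 (.lf [21,22,32,26]) (.lf [10,12,24,32]))) (.lf [2,14,28])) (.nd (.nd (.nd (.lf [1,14,32,24]) (.nd (.nd .nil (.nd (.lf [17,22,10]) (.lf [5,12,22]))) .nil)) (.nd (.nd .nil (.nd .nil (.nd (.nd (.lf [26,10,18]) (.lf [23,10,26,24])) .nil))) .nil)) (.nd (.nd (.nd (.nd (.nd (.lf [0,13,14]) (.lf [19,13,14])) .nil) (.nd (.nd .nil (.nd (.lf [26,9,26,12]) (.lf [26,9,24,14]))) .nil)) (.lf [1,12,22,30,32])) .nil)))) (.nd (.nd (.nd (.nd (.nd (.nd (.nd (.nd (.lf [4]) (.lf [0,13,20])) .nil) (.nd (.nd (.nd (.lf [20,9]) (.lf [9,17,22,32])) (.nd (.lf [12,9,22]) (.lf [26,12,24]))) (.lf [25,22,30]))) (.nd (.nd .nil (.nd (.lf [1,24]) (.lf [1,22,32]))) (.lf [11,30,14,32]))) (.lf [11,12,30,20])) (.nd (.nd (.nd (.nd (.nd (.lf [1,13,30]) (.lf [1,13,20,32])) .nil) (.lf [11,14,22])) (.nd (.nd .nil (.nd (.lf [4,13,20,22]) (.lf [0,22]))) .nil))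 (.nd (.nd .nil (.nd (.lf [25,11,12]) (.nd (.nd (.lf [26,10,14]) (.lf [9,17,32,22])) (.nd (.lf [6,9,20]) (.lf [23,24]))))) (.lf [11,24,32,12,24])))) (.nd (.nd (.nd (.nd (.lf [2,12]) (.lf [21,9,28])) (.lf [10,32,12,24])) .nil) (.lf [3,13,28,30]))) (.nd (.nd (.nd (.nd (.nd (.lf [2,12,20,30,20]) (.lf [21,13,22,26])) .nil) .nil) (.nd (.lf [3,10,13]) (.lf [10,14,24,32]))) (.nd (.nd (.nd (.nd (.nd (.nd (.lf [5,12]) (.lf [19,9,14])) .nil) (.nd (.nd (.nd (.lf [23,20,10]) (.lf [26,14,22,24])) .nil) .nil)) (.lf [1,12,22,32])) .nil) (.nd (.nd (.lf [1,14,24,32]) (.nd (.nd .nil (.nd (.lf [17,12,26]) (.lf [0,14,26]))) .nil)) (.nd (.nd .nil (.nd .nil (.nd .nil (.nd (.lf [23,20,10,26]) (.lf [23,10,32]))))) .nil)))))) (.nd (.nd (.nd (.nd (.nd (.nd (.lf [10,26,16]) (.lf [2,26,12])) (.nd (.nd .nil (.nd .nil (.nd (.lf [21,22,12,24,28])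 (.lf [21,9,22])))) .nil)) (.nd (.nd (.nd .nil (.nd (.nd (.lf [10,17,32,22,28]) (.lf [7,32,32,20])) .nil)) (.lf [3,10,22,32])) .nil)) (.nd (.nd .nil (.nd (.lf [22,9,26,32]) (.lf [25,9,16,24]))) (.nd .nil (.nd (.lf [22,9,32,26]) (.lf [25,30,32,16]))))) (.nd (.nd (.nd .nil (.nd (.lf [22,22,11,32]) (.lf [25,11,32,30]))) (.nd .nil (.nd (.lf [22,30,24]) (.lf [25,9,10,24])))) (.nd (.nd (.nd .nil (.nd (.nd .nil (.nd (.lf [14,12,30,20]) (.lf [2,10,26,11]))) .nil)) (.lf [21,10,26,24])) (.nd (.lf [3,10,22,28]) (.lf [7,12,32,20,24]))))) (.nd (.nd (.nd (.nd (.nd (.nd .nil (.nd (.nd (.lf [10,17,20,28,32]) (.lf [7,20,28,14])) .nil)) (.lf [3,26,32])) .nil) (.nd (.nd (.lf [10,14,22]) (.lf [2,22])) .nil)) .nil) (.nd .nil (.nd (.nd (.lf [3,10,22,30]) (.lf [7,12,22,28,32])) (.nd (.nd .nil (.nd (.nd .nil (.nd (.lf [14,12,32,22]) (.lf [2,22,16])))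 .nil)) (.lf [21,9,26,28]))))))) (.nd (.nd (.nd (.nd (.nd (.nd (.nd (.lf [8,12,20,30]) (.nd (.nd .nil (.nd (.lf [13,9,20]) (.lf [19,9,20]))) .nil)) (.nd (.nd .nil (.nd (.lf [25]) (.nd (.nd (.lf [26]) (.lf [12,17,20,32])) (.nd (.lf [9,20,24]) (.lf [23,20,24]))))) (.nd (.nd (.nd (.lf [18]) (.lf [18,13,30,32])) .nil) (.lf [8,32,12,28])))) (.nd (.nd (.nd (.nd (.nd (.lf [16,15]) (.lf [19,10,16])) .nil) (.nd (.nd (.nd (.lf [24,10,13]) (.lf [12,22,12,32])) (.nd (.lf [9,22]) (.lf [26,9,17,24]))) (.lf [25,13,32,24]))) (.lf [8,9,32,12])) (.nd (.nd (.nd .nil (.nd (.lf [18,30]) (.lf [18,13,32]))) (.lf [8,12,20])) .nil))) (.nd .nil (.nd (.nd (.nd (.lf [14,20,17,22]) (.lf [21,10,13])) (.lf [7,9,32,12,24])) .nil))) (.nd (.nd (.lf [7,12,24,32]) (.nd (.nd (.nd (.lf [14,14,24,28]) (.lf [21,10,20,30,20])) .nil) .nil)) (.nd (.nd (.nd (.lf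 [1,20,10]) (.nd (.nd .nil (.nd (.lf [4,14,20,26]) (.lf [19,14,22]))) .nil)) (.nd (.nd .nil (.nd .nil (.nd .nil (.nd (.lf [23,22,11]) (.lf [23,10,24,26]))))) .nil)) (.nd (.nd (.nd (.nd (.nd (.lf [17,12]) (.lf [4,12,20,32])) .nil) (.nd (.nd (.nd (.lf [23,10,13]) (.lf [26,10,22,32])) .nil) .nil)) (.lf [1,10,24,14])) .nil)))) (.nd (.nd (.nd (.nd (.nd (.nd (.nd (.nd (.lf [16]) (.lf [19,12,14])) .nil) (.nd (.nd (.nd .nil (.nd (.lf [12,17,22,32]) (.lf [26,26,10,24]))) (.nd (.nd (.lf [9,9,22,24]) (.lf [26,22])) .nil)) (.lf [25,22]))) (.lf [8,32,12])) (.nd (.nd (.nd .nil (.nd (.lf [18,15,30]) (.lf [18,15,32]))) (.lf [8,12,30,20])) .nil)) (.nd (.nd (.lf [8,14,22]) (.nd (.nd .nil (.nd (.lf [13,9,22]) (.lf [19,9,22]))) .nil)) (.nd (.nd .nil (.nd (.lf [25,9,32,32]) (.nd (.nd .nil (.nd (.lf [12,17,32,22]) (.lf [23,9,22,24]))) (.nd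 (.nd (.lf [9,9,20]) (.lf [24,14,26])) .nil)))) (.nd (.nd (.nd (.lf [18,15]) (.lf [18,13,32,24])) .nil) (.lf [8,28,12,32]))))) (.nd (.nd (.nd (.lf [14,12,30,24]) (.lf [7,32,12,24])) .nil) (.lf [21,14,22,32,26]))) (.nd (.nd (.lf [14,12,32,28]) (.nd .nil (.nd (.lf [21,10,32,20,22]) (.lf [7,14,24,32])))) (.nd (.nd (.nd (.nd (.nd (.nd (.lf [17,9,32]) (.lf [4,20,10])) .nil) (.nd (.nd .nil (.nd (.lf [26,22,16]) (.lf [26,9,10,24]))) .nil)) (.lf [1,12,24,30])) .nil) (.nd (.nd (.lf [1,12,24,26]) (.nd (.nd .nil (.nd (.lf [4,32,12]) (.lf [19,11,24]))) .nil)) (.nd (.nd .nil (.nd .nil (.nd (.nd (.lf [26,14,18]) (.lf [23,10,20,32,20])) .nil))) .nil)))))) (.nd (.nd (.nd (.nd (.nd (.nd (.lf [7,26,16]) (.lf [14,9,20,24,28])) .nil) (.nd (.nd (.nd .nil (.nd (.nd (.lf [7,20,32,28]) (.lf [10,32,32,20])) .nil)) .nil) .nil)) .nil) (.nd .nil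 (.nd (.lf [21,9,26,16]) (.lf [10,32,20,11])))) (.nd (.nd (.nd (.nd (.nd (.nd .nil (.nd (.nd (.lf [7,28,32,22]) (.lf [10,20,24,28])) .nil)) .nil) .nil) (.nd (.nd (.lf [7,14,22]) (.lf [14,20,24,30])) (.nd (.nd .nil (.nd .nil (.nd (.lf [21,9,22,32]) (.lf [21,22,12,28])))) .nil))) (.nd (.nd .nil (.nd (.lf [22,18,32]) (.lf [25,10,32,30]))) (.nd .nil (.nd (.lf [22,9,22,32]) (.lf [25,11,24]))))) (.nd (.nd (.nd .nil (.nd (.lf [22,14,32]) (.lf [25,9,24,16]))) (.nd .nil (.nd (.lf [22,14,26,32]) (.lf [25,12,32,30])))) (.nd (.lf [10,32,12,20]) (.lf [21,22,24,28]))))))) (.nd (.nd (.nd (.nd (.nd (.nd (.nd (.nd (.nd (.lf [3,20,11,24]) (.lf [10,12,20,30])) .nil) (.lf [10,32,24,26])) (.nd (.nd (.nd (.lf [2,10,20,28]) (.lf [7,22])) .nil) .nil)) (.nd (.nd (.lf [25,11,30,26]) (.lf [25,17,30])) .nil)) (.nd (.nd (.lf [25,9,11,26]) (.lf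 [22,10,30,26])) (.nd (.nd (.lf [14,13,26,28]) (.lf [10,22,30])) (.nd (.lf [7,9,26,32]) (.lf [7,12,30,20]))))) (.nd (.nd (.nd (.nd (.nd (.nd (.lf [2,20,30]) (.nd (.nd (.lf [21,13,20,30]) (.lf [7,17,26])) .nil)) .nil) .nil) (.nd (.nd (.nd (.lf [3,20,10]) (.lf [10,12,20,28,24])) .nil) (.nd (.nd .nil (.nd .nil (.nd (.lf [10,9,32,24,26]) (.lf [21,10,24,26])))) .nil))) (.nd (.nd (.lf [22,10,20]) (.lf [22,14,22])) .nil)) (.nd (.nd (.lf [22,30,10]) (.lf [25,17])) (.nd (.nd (.nd (.nd .nil (.nd (.nd (.nd (.lf [21,14,20,28]) (.lf [7,26,32])) .nil) .nil)) .nil) (.lf [7,12,20])) (.nd (.lf [14,22,30]) (.nd (.nd .nil (.nd .nil (.nd .nil (.nd (.lf [10,17,22,28]) (.lf [21,18,24,26]))))) .nil)))))) (.nd (.nd (.nd (.nd (.nd (.nd (.nd (.lf [15,13]) (.lf [9,22,16,24])) .nil) (.lf [8,9,17,30])) (.nd (.lf [8,22]) (.nd .nil (.nd (.lf [18,10,30,32])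 (.lf [9,12]))))) (.nd (.lf [14,14,28,30]) (.nd .nil (.nd (.lf [21,14,32]) (.lf [7,12,28,32]))))) (.nd (.nd (.nd (.nd (.lf [14,15,30]) (.lf [3,32,11])) (.lf [7,17])) (.nd (.nd .nil (.nd (.lf [2,32,11]) (.lf [7,9,32,24]))) (.nd (.nd .nil (.nd .nil (.nd .nil (.nd (.lf [21,20,30,26]) (.lf [21,18,32]))))) (.lf [10,12,24,28])))) (.nd (.nd (.nd (.lf [15,32,30]) (.lf [15,12,32,20])) (.nd (.lf [18,9,11,30]) (.lf [18,12]))) (.nd (.nd (.lf [8,22,32]) (.lf [8,9,32])) (.nd (.lf [6,12,32,20]) (.lf [6,12,28,32])))))) (.nd (.nd (.nd (.nd (.lf [8,17,22,24]) (.nd .nil (.nd (.lf [18,11,32,24]) (.lf [9,24,28,12])))) (.nd (.nd (.nd (.lf [15,9]) (.lf [9,12,26])) .nil) (.lf [8,9]))) (.nd (.nd .nil (.nd (.lf [21,10,20,26,28]) (.lf [7,14,28,32]))) (.lf [14,12,32,32]))) (.nd (.nd (.nd (.nd .nil (.nd (.lf [2,13,24,28]) (.lf [7,32,24]))) (.lf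 [10,28,12,24])) (.nd (.nd (.lf [14,30]) (.lf [3,24,14])) (.lf [7,30]))) (.nd (.nd (.nd (.lf [8,26,32]) (.lf [8,32])) (.nd (.lf [6,12,20,32]) (.lf [6,12,32,28]))) (.nd (.nd (.lf [15,30,32]) (.lf [15,12,32,22])) (.nd (.lf [18,9,14,22]) (.lf [18,12,15])))))))) (.nd (.nd (.nd (.nd (.nd (.nd (.nd (.lf [7,12,20,30]) (.lf [14,13,22])) (.nd (.nd .nil (.nd .nil (.nd (.lf [7,9,32,20]) (.lf [21,20,32])))) .nil)) (.nd (.nd (.nd .nil (.nd (.nd (.lf [21,10,32,26,32]) (.lf [10,22])) .nil)) .nil) .nil)) (.nd .nil (.nd (.lf [22,10,13]) (.lf [22,26,16])))) (.nd (.nd (.lf [25,16]) (.lf [22,10,20,30])) (.nd (.nd (.lf [3,10,20,32,30]) (.nd (.nd .nil (.nd .nil (.nd .nil (.nd (.lf [7,22,30]) (.lf [21,14,20,32]))))) .nil)) (.nd (.nd (.nd (.lf [2,13,20]) (.nd (.nd (.nd (.lf [21,13,20]) (.lf [10,17,22,32])) .nil) .nil)) .nil) (.lf [10,12,30,20])))))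 (.nd (.nd (.nd (.lf [10,17,26]) (.nd (.nd (.lf [7,12,30,20,30]) (.lf [14,9,22])) (.lf [7,32,20]))) (.nd .nil (.nd (.lf [25,10,32,24]) (.lf [25,16,30])))) (.nd (.nd (.lf [22,10,30,22]) (.lf [25,9,11,22])) (.nd (.nd (.nd (.nd (.lf [2,10,24,26]) (.lf [10,22,12,32])) .nil) (.lf [10,12,20])) (.nd (.lf [3,14,20,30]) (.lf [7,17,22,28])))))) (.nd (.nd (.nd (.nd (.nd (.nd (.lf [12,12,22]) (.lf [15,26])) (.lf [11,9,17,30])) (.nd (.lf [11,22]) (.nd (.lf [18,12,13,32]) (.lf [6,12])))) (.nd (.lf [3,10,24]) (.nd (.lf [2,24,28,12]) (.nd (.lf [21,18,20,26]) (.lf [10,32,12,28]))))) (.nd (.nd (.lf [10,17]) (.nd (.lf [10,9,32,24]) (.lf [7,28,24,14]))) (.nd .nil (.nd (.nd (.lf [11,22,32,24]) (.lf [11,9,32,24])) (.nd (.lf [9,12,32,20,24]) (.lf [9,24,32,12])))))) (.nd (.nd (.nd (.nd (.lf [11,17,30,22]) (.nd (.lf [18,12,15,32]) (.lf [12,14])))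 (.nd (.nd (.lf [6,12,26]) (.lf [15,9,22])) (.lf [11,9]))) (.nd (.nd (.lf [2,10,32,12]) (.nd (.lf [21,13,24]) (.lf [10,9,32,12,28]))) (.lf [3,10,32,12]))) (.nd (.nd (.nd (.lf [10,32,24]) (.nd (.nd .nil (.nd .nil (.nd .nil (.nd (.lf [21,10,20,22]) (.lf [21,10,24]))))) (.lf [7,14,24,28]))) (.lf [10,30])) (.nd (.nd (.nd (.lf [11,26,32,24]) (.lf [11,32,24])) (.nd (.lf [9,12,20,32,24]) (.lf [9,9,24,32,12]))) .nil))))))) (.nd (.nd (.nd (.nd (.nd (.nd (.nd (.nd (.lf [3]) (.nd (.lf [21,20,26,32]) (.lf [10,12,20,26,32]))) (.lf [2,12,32,20,22])) (.nd (.nd (.nd (.nd (.nd (.nd (.lf [1,12,24,32]) (.lf [1,12,20,24,32])) .nil) (.nd .nil (.nd (.lf [25,10,16,26,30]) (.lf [25,10,17,26])))) (.nd (.nd .nil (.nd (.lf [17,26]) (.lf [19,11,26]))) .nil)) (.nd (.nd .nil (.nd .nil (.nd (.nd (.lf [26,9,10,17]) (.lf [24,26,32])) (.nd (.lf [20,22,12])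 (.lf [20,24,16]))))) (.nd .nil (.nd .nil (.nd (.lf [25,10,17,22,24]) (.lf [25,11,14,24])))))) (.nd (.nd (.nd (.nd (.nd (.lf [5,13,14]) (.lf [5,20,10])) .nil) .nil) .nil) .nil))) (.nd (.nd (.nd (.nd (.nd (.lf [1,10,30]) (.lf [11,14,22,32])) (.nd (.nd .nil (.nd (.lf [4,10,32]) (.lf [19,10,20,11]))) (.nd (.nd (.lf [25,22,32]) (.lf [25,32])) .nil))) (.nd (.nd (.lf [18,11,32,12]) (.nd .nil (.nd (.lf [20,22,32]) (.lf [20,24])))) (.lf [11,12,24,32]))) (.nd (.nd (.nd (.nd (.nd (.lf [4,10,13]) (.lf [19,14,16])) .nil) (.nd (.nd (.lf [26,10,14,26,24]) (.lf [26,11,12,24])) .nil)) (.nd (.lf [1,10,20,22]) (.lf [11,14,30,32]))) (.nd (.lf [11,12,20,32,24]) (.nd (.lf [18,10,12,26,32]) (.nd .nil (.nd (.lf [25,22,24]) (.lf [25,13,24]))))))) (.nd (.nd (.lf [3,28,10,30]) (.lf [21,9,20,32,20])) (.nd (.nd (.lf [2,13,14]) (.lf [10,14,32,24]))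 .nil)))) (.nd (.nd (.nd (.nd (.nd (.nd (.lf [2,12,28]) (.lf [21,9])) .nil) .nil) (.nd (.lf [3,13,30]) (.lf [10,12,22,32,22]))) (.nd (.nd (.nd (.nd (.nd (.nd (.lf [0,12]) (.lf [0,12,20])) .nil) (.nd (.nd (.nd (.lf [24,9]) (.lf [26,10,11,26,24])) (.nd (.lf [26,10,22,10]) (.lf [26,10,12,32]))) .nil)) (.nd .nil (.nd (.nd (.lf [25,10,11,22,32]) (.lf [25,10,12,32])) .nil))) (.nd (.nd .nil (.nd (.nd (.lf [25,14,17]) (.lf [25,12,30,14])) .nil)) .nil)) (.nd (.nd (.nd (.nd (.nd (.lf [1,32,12,24]) (.lf [1,14,32,22])) .nil) .nil) (.nd (.nd .nil (.nd (.lf [17,13,22]) (.lf [19,12,24]))) .nil)) .nil))) (.nd (.nd (.nd (.nd (.nd (.nd (.nd (.lf [4,10,20,22,24]) (.lf [19,10,12])) .nil) (.nd (.nd (.lf [23,9]) (.lf [26,17,26])) .nil)) (.nd (.lf [1,24,11]) (.lf [11,12,30,32]))) (.nd (.lf [11,12,22,30,32]) (.lf [18,10,12,32,20]))) (.nd (.nd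 (.nd (.lf [1,10,13]) (.lf [11,12,22,32])) (.nd (.nd .nil (.nd (.lf [4,10,20,22]) (.lf [19,10,12,32]))) .nil)) (.nd (.nd (.lf [18,12,17,32]) (.nd .nil (.nd (.lf [26,9,12]) (.lf [23,9,20,26])))) (.lf [11,12,28,32])))) (.nd (.nd (.nd (.nd (.lf [2,22,10,26]) (.lf [21,22,26,28])) (.lf [10,12,32,24])) .nil) (.lf [3,10,28]))))) (.nd (.nd (.nd (.nd (.nd (.lf [25,32,16]) (.lf [22,26,30,32])) .nil) (.nd (.nd (.lf [14,13,20,24]) (.nd (.nd .nil (.nd .nil (.nd (.nd .nil (.nd (.lf [7,20,32]) (.lf [21,9,32,20]))) (.nd (.nd (.lf [10,9,30,20]) (.lf [21,22,12])) .nil)))) .nil)) (.lf [7,14,22,30]))) (.nd (.nd (.nd (.lf [10,14,26,32]) (.lf [21,13,22,24])) .nil) (.nd (.nd (.lf [25,16,22,32]) (.lf [22,13,22,24])) .nil))) (.nd (.nd (.nd (.nd (.lf [25,12,24,30]) (.lf [22,14,24])) .nil) (.nd (.lf [7,14,22,28]) (.nd (.lf [14,9,20,24]) (.nd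 (.nd .nil (.nd .nil (.nd (.lf [7,9,20,32]) (.lf [10,20,24])))) .nil)))) (.nd (.nd .nil (.nd (.lf [10,12,26,32]) (.lf [21,10,26,28]))) (.nd (.nd (.lf [25,9,17,32]) (.lf [22,18,24])) .nil))))) (.nd (.nd (.nd (.nd (.nd (.lf [7,20,17,22,32]) (.nd (.nd (.nd (.lf [14,14,28,24]) (.lf [21,10,13,28])) .nil) .nil)) (.nd (.nd (.nd .nil (.nd (.nd .nil (.nd (.lf [4,12,20,22]) (.lf [4,12,22]))) .nil)) .nil) (.nd (.nd (.nd (.nd (.nd (.lf [17,20,26]) (.lf [19,10,13])) .nil) (.nd (.nd (.nd (.lf [20,10,13]) (.lf [26,10,12,22,32])) (.nd (.lf [26,10,17,26]) (.lf [26,12,14,24]))) .nil)) (.nd (.nd .nil (.nd (.lf [1,14,24]) (.lf [1,12,26,30]))) (.nd (.nd (.lf [25,10,12,22,32]) (.lf [25,10,11,32])) .nil))) (.nd (.nd .nil (.nd (.nd (.lf [25,14,16]) (.lf [25,11,30,14])) .nil)) .nil)))) (.nd (.nd (.nd (.nd (.nd (.lf [1,10,20]) (.lf [8,12,24,32,20]))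 (.nd (.nd .nil (.nd (.lf [13,14,20]) (.lf [4,22,12]))) .nil)) (.nd (.nd (.lf [18,10,14,30]) (.nd .nil (.nd (.lf [26,11]) (.lf [23,22])))) (.lf [8,12,24,32]))) (.nd (.nd (.nd (.nd (.nd (.lf [13,12]) (.lf [4,10,20,32])) .nil) (.nd (.nd (.lf [23,18,20]) (.lf [26,12,22])) .nil)) (.nd (.lf [1,10,22,24]) (.lf [8,12,32]))) (.nd (.lf [8,12,32,20]) (.lf [18,14,17])))) (.nd .nil (.nd (.nd (.nd (.lf [14,9,32,12]) (.lf [21,22,11,26])) (.lf [7,14,32,24])) .nil)))) (.nd (.nd (.nd (.lf [14,12,28,32]) (.nd .nil (.nd (.lf [21,14,32,20,26]) (.lf [7,20,22,12,32])))) (.nd (.nd (.nd (.nd (.nd (.nd (.lf [17,13,20,22]) (.lf [19,9,10])) .nil) .nil) (.nd (.nd .nil (.nd (.lf [1,12,20,22]) (.lf [1,12,22]))) .nil)) .nil) (.nd (.nd (.nd .nil (.nd .nil (.nd (.lf [25,10,17,26,30]) (.lf [25,10,16,26])))) (.nd (.nd .nil (.nd (.lf [4,14,24]) (.lf [4,14,22,24])))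 .nil)) (.nd (.nd .nil (.nd .nil (.nd (.nd (.lf [26,9,14,17]) (.lf [20,22,12,24])) (.nd (.lf [24,26]) (.lf [24,9,32]))))) (.nd .nil (.nd .nil (.nd (.lf [25,10,12,26,24]) (.lf [25,10,17,24])))))))) (.nd (.nd (.nd (.nd (.nd (.nd (.nd (.lf [13,12,15]) (.lf [4,10,20])) .nil) (.nd (.nd (.lf [26,9,22,24]) (.lf [26,9,32])) .nil)) (.nd (.lf [1,22,12]) (.lf [8,14,32]))) (.nd (.lf [8,12,20,32]) (.nd (.lf [18,10,14]) (.nd .nil (.nd (.lf [25,30,32]) (.lf [25,11,12,24])))))) (.nd (.nd (.nd (.lf [1,20,30,14]) (.lf [8,12,20,30,32])) (.nd (.nd .nil (.nd (.lf [13,14,26]) (.lf [4,10,22,24]))) (.nd (.nd (.lf [25,24,30]) (.lf [25,11,12,32])) .nil))) (.nd (.nd (.lf [18,10,30,12]) (.nd .nil (.nd (.lf [24,10,26,24]) (.lf [24,14,24])))) (.lf [8,14,24,32])))) (.nd (.nd (.nd (.lf [14,12,24]) (.lf [7,12,32,24])) .nil) (.lf [21,10,26,32,26])))))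 (.nd (.nd (.nd (.nd .nil (.nd (.lf [25,14,26,32]) (.lf [22,13,30,32]))) (.nd (.nd (.lf [2,22,28]) (.nd (.nd .nil (.nd .nil (.nd (.lf [10,17,32,22]) (.lf [7,9,20,24])))) .nil)) (.nd (.lf [3,14,26]) (.lf [10,14,22,30])))) (.nd (.nd (.nd (.nd (.lf [7,22,16,32]) (.nd (.nd .nil (.nd (.lf [14,12,20,24,28]) (.lf [2,14,22,28]))) .nil)) (.lf [21,18,26])) (.lf [3,26])) (.nd .nil (.nd (.lf [25,9,16,32]) (.lf [22,20,24]))))) (.nd (.nd (.nd .nil (.nd (.lf [25,9,32,11]) (.lf [22,22,12,24]))) (.nd (.nd (.lf [3,12,22]) (.lf [10,14,22,28])) (.nd (.lf [2,10,26,30]) (.nd (.nd .nil (.nd .nil (.nd (.nd .nil (.nd (.lf [10,32,11,22]) (.lf [21,22,12,24]))) (.nd (.nd (.lf [7,9,17,20]) (.lf [21,9,22,28])) .nil)))) .nil)))) (.nd (.nd (.lf [3,22,12]) (.nd (.nd (.lf [7,22,10,32]) (.nd (.nd .nil (.nd (.lf [14,12,28,24,26]) (.lf [2,12,26,28])))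 .nil)) (.lf [21,14,32,20]))) (.nd .nil (.nd (.lf [25,14,24,30]) (.lf [22,26,24])))))))) (.nd (.nd (.nd (.nd (.nd .nil (.nd (.nd (.nd (.nd (.lf [3,20,11,32]) (.lf [7,12,20,30,32])) (.lf [14,12,22,30])) (.lf [21,32,16,22])) (.lf [2,20,10,28]))) (.nd (.nd (.lf [21,9,32,22]) (.lf [10,20,32,16])) (.nd .nil (.nd (.lf [25,14,26]) (.lf [22,9,30,26]))))) (.nd (.nd (.nd (.nd (.nd (.nd .nil (.nd (.lf [22,9]) (.lf [25,10,30,22]))) .nil) (.nd (.nd .nil (.nd (.lf [25,9,10,30]) (.lf [22,13,22]))) .nil)) .nil) (.nd (.nd (.nd (.nd (.lf [2,14,32,22]) (.lf [21,20,22,26])) .nil) .nil) (.nd (.nd (.nd (.lf [3,10,20]) (.lf [7,12,24,32,20])) (.lf [14,12,26,28])) .nil))) (.nd (.nd (.nd (.lf [21,20,14]) (.lf [10,20,17,32])) .nil) (.nd (.nd (.lf [22,20,30]) (.lf [25,9,10])) .nil)))) (.nd (.nd (.nd (.nd (.nd (.nd (.lf [14,13]) (.lf [3,32])) (.lf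 [7,9,17,30])) (.nd (.nd .nil (.nd (.lf [2,32]) (.lf [7,32,11,24]))) (.lf [10,14,28,24]))) (.nd (.nd (.nd (.nd (.lf [15,15,32]) (.lf [6,22,10,32])) (.lf [15,9,20,32])) (.lf [8,22,30,32])) (.nd (.lf [8,17,32]) (.nd (.lf [18,12,30]) (.nd (.lf [18,9,16]) (.lf [12,14,24,32])))))) (.nd (.nd (.nd (.lf [15,12,28]) (.nd (.nd (.lf [18,9,17,32]) (.lf [8,9,17,20])) (.lf [8,17]))) (.nd .nil (.nd (.lf [9,12,20,24]) (.lf [9,12,24,28])))) (.nd (.lf [14,12,28]) (.nd .nil (.nd (.lf [21,14,22,30,20]) (.lf [7,14,32,28])))))) (.nd (.nd (.nd (.nd (.nd .nil (.nd (.lf [2,10,32,30]) (.lf [7,17,32,24]))) (.nd (.nd .nil (.nd .nil (.nd .nil (.nd (.lf [21,13,20,26,28]) (.lf [21,9,24,28]))))) (.lf [10,24,28,12]))) (.nd (.nd (.lf [14,9]) (.lf [3,12,24])) (.lf [7,9]))) (.nd (.nd (.lf [8,32,11]) (.nd (.lf [18,9,16,20]) (.nd (.lf [18,9,11]) (.lf [12,12,24,32]))))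 (.nd (.nd (.nd (.lf [15,13,32]) (.lf [6,22,16,32])) (.lf [15,20,32])) (.lf [8,20,24,32])))) (.nd (.nd (.nd .nil (.nd (.lf [9,20,17]) (.lf [9,14,17]))) (.nd (.lf [15,30]) (.nd (.nd (.lf [18,17,32]) (.lf [8,22,30])) (.lf [8,30])))) (.nd (.nd .nil (.nd (.lf [21,14,24,28]) (.lf [7,12,32,28]))) (.lf [14,28,14])))))) (.nd (.nd (.nd (.nd (.nd .nil (.nd (.nd (.nd .nil (.nd (.lf [22,20]) (.lf [25,10,30,26]))) .nil) (.nd (.nd .nil (.nd (.lf [25,14,30]) (.lf [22,13,26]))) .nil))) (.nd (.lf [10,12,28,32,22]) (.lf [21,20,14,30]))) (.nd (.nd (.nd (.nd (.lf [3,10,20,24,30]) (.lf [14,14,22])) .nil) (.nd (.nd (.nd (.lf [2,12,20]) (.lf [21,9,20,28])) .nil) (.lf [7,12,32,22]))) (.nd .nil (.nd (.lf [22,9,30]) (.lf [25,14]))))) (.nd (.nd .nil (.nd .nil (.nd (.lf [10,12,20,32,28]) (.lf [21,18,20,24])))) (.nd (.nd (.nd (.lf [2,24,26,10])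 (.lf [7,14,32,22])) (.nd (.nd (.lf [3,20,28]) (.lf [14,22,10])) (.lf [21,20,14,24]))) (.nd (.nd (.lf [25,9,10,26]) (.lf [22,13,22,30])) .nil)))) (.nd (.nd (.nd (.nd (.lf [10,9,17,30]) (.nd (.lf [10,32,11,24]) (.nd (.nd .nil (.nd .nil (.nd .nil (.nd (.lf [21,14,20,26]) (.lf [21,10,24,30]))))) (.lf [7,24,28,14])))) (.nd (.nd (.lf [9,12,26,24,32]) (.lf [11,17,20,32])) (.nd (.lf [11,32,30]) (.lf [9,28,12,32])))) (.nd (.nd (.nd (.lf [15,14,22]) (.nd (.lf [11,20,24]) (.nd (.lf [18,10,32,20]) (.lf [11,17])))) (.nd .nil (.nd (.lf [12,9,20,17]) (.lf [12,12,17])))) (.nd (.lf [3,13,24]) (.nd (.lf [2,14,32,30]) (.nd (.lf [21,32,28]) (.lf [10,28,12,32])))))) (.nd (.nd (.nd (.nd (.lf [10,17,32,24]) (.lf [7,12,28,24])) (.lf [10,9])) (.nd (.nd (.lf [11,30,32]) (.lf [9,9,28,12,32])) (.nd (.lf [9,12,22,24,32]) (.lf [11,20,24,32]))))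 (.nd (.nd (.nd .nil (.nd (.lf [6,20,17]) (.lf [6,14,17]))) (.nd (.lf [15,12,26]) (.nd (.lf [11,22,30]) (.nd (.lf [18,11,32,22]) (.lf [11,30]))))) (.nd (.nd (.lf [2,12,32]) (.nd (.lf [21,20,22]) (.lf [10,9,28,12,32]))) (.lf [3,12,32]))))))))) (.nd (.nd (.nd (.nd (.nd (.nd (.nd (.nd (.nd (.lf [2,12,24]) (.lf [21,9,20,26,28])) (.nd (.nd .nil (.nd (.lf [3,24,11,28]) (.lf [10,30,12,32]))) .nil)) (.nd (.nd (.lf [11,20,30,32]) (.lf [9,20,32,16])) (.nd (.lf [9,9,32,12,24]) (.lf [11,24,32])))) (.nd (.nd (.nd (.nd (.lf [11,20,30]) (.lf [11,28,30])) .nil) (.nd (.nd (.lf [6,22,16]) (.nd (.lf [15,20,17]) (.lf [6,14,24]))) (.lf [18,10,20,32]))) (.nd (.lf [10,28,30]) (.nd (.lf [7,14,24]) (.lf [10,28,32,24]))))) (.nd (.nd (.nd (.nd (.nd .nil (.nd (.lf [3,28,24]) (.lf [10,30,14,32]))) .nil) (.nd (.lf [2,14,32,28]) (.lf [21,24,28])))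 (.nd (.nd (.lf [9,32,12,24]) (.lf [11,9,24,32])) (.nd (.lf [11,20,32,30]) (.lf [9,20,17,32])))) (.nd (.nd (.nd (.nd (.lf [12,22,10]) (.nd (.lf [15,14,20]) (.lf [12,12,24]))) (.lf [18,10,32,22])) (.nd (.nd (.lf [11,17,22]) (.lf [11,24])) .nil)) (.nd (.nd (.lf [7,12,20,22]) (.lf [10,24,32,30])) (.nd (.lf [10,17,28]) (.nd (.nd .nil (.nd .nil (.nd .nil (.nd (.lf [21,10,20,22,28]) (.lf [21,10,24,28]))))) .nil)))))) (.nd (.nd (.nd (.nd (.nd (.nd (.nd .nil (.nd (.lf [22,13]) (.lf [25,14,30,26]))) .nil) (.nd (.nd .nil (.nd (.lf [25,10,30]) (.lf [22,9,22]))) .nil)) .nil) (.nd (.nd (.nd (.nd (.lf [2,24,26]) (.nd (.nd (.nd (.lf [21,20,28,30]) (.lf [10,9,22,32])) .nil) .nil)) .nil) (.lf [10,14,24,26])) (.nd (.lf [3,14,20,28]) (.nd (.nd .nil (.nd .nil (.nd .nil (.nd (.lf [7,22,12,30]) (.lf [21,14,32,22]))))) .nil)))) (.nd (.nd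 (.nd (.nd (.nd .nil (.nd (.nd (.lf [21,14,20]) (.lf [10,26])) .nil)) .nil) .nil) (.nd (.nd (.lf [7,12,28,30,20]) (.lf [14,9,26])) (.nd (.nd .nil (.nd .nil (.nd (.lf [7,9,22,28,32]) (.lf [21,13,32,22])))) .nil))) (.nd (.nd (.lf [22,9,20,30]) (.lf [25,10,13])) .nil))) (.nd (.nd .nil (.nd (.nd (.lf [3,10,20,32,28]) (.lf [7,9,22,28])) (.nd (.nd (.nd (.lf [2,10,13,20]) (.lf [10,22,32])) .nil) (.lf [10,20,17])))) (.nd (.nd (.nd (.nd (.lf [7,12,20,28]) (.lf [14,13,26])) (.lf [7,22,28,32])) (.lf [10,17,22])) (.nd .nil (.nd (.lf [25,10,22]) (.lf [22,30,26]))))))) (.nd (.nd (.nd (.nd (.nd (.lf [21,24,14,30]) (.nd (.nd (.lf [14,30,14]) (.lf [7,9,32,12])) .nil)) (.nd (.nd (.lf [8,17,26,32]) (.nd (.nd (.lf [18,10,20]) (.lf [12,20,32,16])) (.lf [18,17]))) (.nd (.nd (.lf [15,28,32]) (.nd (.lf [15,22,32]) (.lf [6,9,32,12]))) (.lf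 [8,24,32])))) (.nd (.nd (.nd (.nd (.lf [8,20,30]) (.lf [8,9,24])) .nil) (.nd (.nd (.nd (.lf [15,12]) (.lf [9,22,16])) (.lf [9,28,12])) (.lf [18,9,16,32]))) (.nd (.nd (.nd .nil (.nd (.lf [2,10,20,26]) (.lf [7,28,30]))) (.nd (.nd .nil (.nd .nil (.nd .nil (.nd (.lf [21,18,20,22]) (.lf [21,9,24,30]))))) .nil)) (.nd (.nd (.lf [14,9,32,32]) (.nd (.lf [3,32,11,28]) (.lf [10,12,30,24]))) (.lf [7,26,32,22]))))) (.nd (.nd (.nd (.nd (.nd (.lf [14,12,30]) (.lf [7,32,12])) .nil) (.lf [21,20,14,26])) (.nd (.nd (.nd (.lf [15,32,28]) (.nd (.lf [15,9,22,32]) (.lf [6,32,12]))) (.lf [8,9,24,32])) (.nd (.lf [8,17,22,32]) (.nd (.nd (.lf [18,17,20]) (.lf [12,20,17,32])) (.lf [18,10]))))) (.nd (.nd (.nd (.nd (.nd (.lf [15,12,15]) (.lf [9,12,26,24])) (.lf [9,12,24])) (.lf [18,16,32])) (.nd (.nd (.lf [8,17,22]) (.lf [8,17,28])) .nil)) (.nd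 (.nd (.nd (.lf [14,28,30]) (.nd (.lf [3,13,28,32]) (.lf [10,12,24]))) (.lf [7,20,22,32])) (.nd (.nd .nil (.nd (.lf [2,13,24]) (.lf [7,17,28]))) .nil))))) (.nd (.nd (.nd .nil (.nd (.nd (.lf [7,17,26,32]) (.lf [7,20,24,10])) (.nd (.lf [14,13,26,30]) (.lf [10,22,12,30])))) (.nd (.nd (.nd (.nd (.nd (.lf [2,20,30,14]) (.lf [7,26])) .nil) .nil) (.nd (.nd (.nd (.lf [3,20,11]) (.lf [10,12,20,30,24])) .nil) (.lf [10,17,32,20]))) (.nd (.nd (.lf [25,9,14,22]) (.lf [22,13,30,22])) .nil))) (.nd (.nd (.nd .nil (.nd (.nd (.nd .nil (.nd (.lf [22,18,20]) (.lf [25,10,26,30]))) .nil) (.nd (.nd .nil (.nd (.lf [25,9,14,30]) (.lf [22,9,26]))) .nil))) (.nd (.nd (.lf [14,22,28]) (.nd (.nd .nil (.nd .nil (.nd .nil (.nd (.lf [10,9,22,28]) (.lf [21,13,20,24]))))) .nil)) (.nd (.nd (.nd .nil (.nd (.nd (.nd (.lf [21,20,10,30]) (.lf [7,26,12,32]))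 .nil) .nil)) .nil) (.lf [7,20,17])))) (.nd (.nd (.nd (.nd (.nd (.lf [3,13,20,32]) (.lf [10,12,20,28])) .nil) (.nd (.nd .nil (.nd .nil (.nd (.lf [10,32,11,20]) (.lf [21,20,10,24])))) .nil)) (.nd (.nd (.nd (.lf [2,13,20,28]) (.nd (.nd (.lf [21,13,20,28]) (.lf [7,17,22])) .nil)) .nil) .nil)) (.nd .nil (.nd (.lf [22,30]) (.lf [25,14,18])))))))) (.nd (.nd (.nd (.nd (.nd (.nd .nil (.nd (.lf [25,14,32]) (.lf [22,22,32,30]))) (.nd (.lf [10,12,32,24,26]) (.lf [21,13,32,20]))) (.nd (.nd (.nd (.nd (.nd .nil (.nd (.nd (.lf [7,17,20,32,28]) (.lf [10,20,28])) .nil)) .nil) .nil) (.nd (.nd (.lf [7,22,16]) (.lf [14,20,28])) (.nd (.nd .nil (.nd .nil (.nd (.lf [21,26,32]) (.lf [21,26,16,28])))) .nil))) (.nd .nil (.nd (.lf [25,10,24,30]) (.lf [22,18,22,24]))))) (.nd (.nd (.nd .nil (.nd (.lf [25,10,32,20]) (.lf [22,10,24]))) (.nd (.lf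 [21,14,22]) (.lf [10,12,22,32,30]))) (.nd (.nd (.nd (.nd (.lf [7,12,26]) (.lf [14,9,20,30])) .nil) (.nd (.nd (.nd .nil (.nd (.nd (.lf [7,17,28,32,22]) (.lf [10,9,20,28,24])) .nil)) .nil) .nil)) (.nd .nil (.nd (.lf [25,9,11,32]) (.lf [22,13,24])))))) (.nd (.nd (.nd (.nd (.nd (.nd (.nd (.nd (.nd (.nd (.lf [2,13]) (.lf [14,9,24,28])) .nil) .nil) (.lf [21,13])) .nil) (.nd .nil (.nd .nil (.nd (.nd (.nd (.lf [7,17,28,24]) (.lf [7,32,11,28])) .nil) .nil)))) (.nd (.lf [3,28,30,12]) (.nd (.lf [21,26,32,26]) (.lf [10,12])))) (.nd (.nd (.nd (.nd (.nd (.nd (.nd (.lf [4,12,13]) (.lf [17,13])) (.nd (.lf [4,20,11]) (.lf [19,16]))) .nil) (.nd (.nd (.lf [24,13]) (.lf [26,10,12,26])) .nil)) .nil) (.nd (.nd .nil (.nd (.nd (.lf [25,11,14]) (.lf [25,10,17,30])) .nil)) .nil)) (.nd (.nd (.nd (.nd (.nd (.lf [1,30,12]) (.lf [1,14,24,26]))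 .nil) .nil) .nil) (.nd (.nd .nil (.nd .nil (.nd (.lf [24,13,22,24]) (.lf [20,14,32])))) (.nd .nil (.nd .nil (.nd (.lf [25,10,17,26,24]) (.lf [25,10,12,24])))))))) (.nd (.nd (.nd (.nd (.nd (.nd (.nd (.nd (.lf [5,13]) (.lf [16,14])) .nil) .nil) (.nd (.nd (.nd (.lf [23,13]) (.nd (.lf [12,22,32]) (.lf [26,10,14,32,20]))) (.nd (.nd (.lf [9,22,12,24]) (.lf [26,17,22])) (.lf [26,10,14,24]))) .nil)) (.nd (.lf [1,32,11]) (.lf [11,30,12,24]))) (.nd (.lf [8,20,17]) (.nd (.lf [18,12,17]) (.nd (.nd (.nd (.lf [6,17]) (.lf [12,28,32])) .nil) (.nd (.lf [25,9,22,24]) (.lf [25,18,24])))))) (.nd (.nd (.nd (.lf [1,24,11,32]) (.lf [8,22,16])) (.nd (.nd .nil (.nd (.nd (.lf [0,24,11]) (.lf [16,12,20])) .nil)) (.nd (.nd (.lf [25,26,32]) (.lf [25,18,32])) (.nd (.nd (.lf [6,24,11]) (.lf [6,9,32])) .nil)))) (.nd (.nd (.lf [18,11,14,26]) (.nd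 .nil (.nd (.nd (.lf [26,12,13]) (.nd (.lf [6,20,32]) (.lf [20,26,24]))) (.nd (.nd (.lf [9,17,20,24]) (.lf [23,9,20,22])) (.lf [20,9,24]))))) (.lf [11,30,14])))) (.nd (.nd (.nd (.nd (.nd (.nd (.nd (.lf [2,22,26,28]) (.lf [14,9,30,32])) .nil) .nil) (.lf [21,20,30,20])) (.lf [10,30,12,28])) .nil) (.nd (.nd (.lf [3,14]) (.nd .nil (.nd .nil (.nd (.nd (.lf [7,24,11]) (.lf [7,9,32])) .nil)))) (.lf [21,9,32,20,26]))))) (.nd (.nd (.nd (.nd (.lf [3,10,28,14]) (.lf [10,12,30])) (.nd (.nd (.nd (.nd (.nd (.nd (.lf [2,10,22,26]) (.lf [14,13,24,28])) .nil) .nil) .nil) .nil) (.nd .nil (.nd .nil (.nd (.nd (.nd (.lf [7,24,28]) (.lf [7,17,32,28])) .nil) .nil))))) (.nd (.nd (.nd (.nd (.nd (.nd (.lf [1,12,13]) (.lf [1,20,11])) .nil) (.nd .nil (.nd (.lf [25,10,12,30,26]) (.lf [25,10,11,26])))) .nil) (.nd (.nd .nil (.nd .nil (.nd (.lf [26,10,11])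 (.lf [20,10,26])))) .nil)) (.nd (.nd (.nd (.nd (.nd (.nd (.lf [4,14,20,22,32]) (.lf [17,9])) (.nd (.lf [4,14,20,32]) (.lf [19,9,11]))) .nil) (.nd (.nd (.lf [26,10,11,22,24]) (.lf [26,11,24,14])) .nil)) (.nd .nil (.nd (.nd (.lf [25,10,17,22,32]) (.lf [25,10,16,32])) .nil))) .nil))) (.nd (.nd (.nd (.nd (.nd (.lf [1,10,32,24]) (.lf [8,22,10,24])) (.nd (.nd .nil (.nd (.nd (.lf [5,24]) (.lf [16,12,26])) .nil)) (.nd .nil (.nd (.nd (.lf [12,17,24]) (.lf [6,32])) .nil)))) (.nd (.nd (.lf [18,11,14,20]) (.nd .nil (.nd (.lf [6,32,20]) (.lf [9,9,17,20])))) (.lf [11,14,17]))) (.nd (.nd (.nd (.nd (.nd (.nd (.lf [0,10]) (.lf [16,12,13])) .nil) .nil) (.nd (.nd (.lf [12,9,22,32]) (.lf [9,17,22])) .nil)) (.nd (.lf [1,30,32,11]) (.lf [11,9,28,12]))) (.nd (.lf [8,20,24,10]) (.nd (.lf [18,10,12]) (.nd (.nd (.nd (.lf [12,9,17]) (.lf [12,24,32]))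 .nil) .nil))))) (.nd (.nd (.nd (.lf [3,14,30]) (.nd .nil (.nd .nil (.nd (.nd (.lf [7,9,20,22]) (.lf [7,32])) .nil)))) .nil) (.nd (.nd (.nd (.nd (.nd (.nd (.lf [2,28,10]) (.lf [14,20,22])) .nil) .nil) .nil) (.lf [10,9,28,12])) .nil)))))) (.nd (.nd (.nd (.nd (.nd (.nd (.lf [25,10,22,32]) (.lf [22,10,20,24])) .nil) (.nd (.nd (.lf [3,10,26,30]) (.lf [7,12,32,20])) (.nd (.nd .nil (.nd (.nd .nil (.nd (.lf [14,14,20]) (.lf [2,26,11]))) .nil)) (.lf [21,22,30])))) (.nd (.nd (.nd (.nd (.nd .nil (.nd (.nd (.lf [10,32,22,28]) (.lf [7,20,28])) .nil)) (.lf [3,12,26,30])) .nil) (.nd (.nd (.lf [10,22,16]) (.lf [2,13,26])) .nil)) (.nd (.nd (.lf [25,9,12,32]) (.lf [22,24,28])) .nil))) (.nd (.nd (.nd (.nd (.lf [25,9,10,32]) (.lf [22,22,11,24])) .nil) (.nd (.nd (.nd .nil (.nd (.nd .nil (.nd (.lf [14,20,17]) (.lf [2,22,10]))) .nil)) (.lf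 [21,10,26,32])) (.nd (.lf [3,10,26,28]) (.lf [7,14,32,20])))) (.nd (.nd (.nd (.nd (.lf [10,12,26]) (.lf [2,10,22])) (.nd (.nd .nil (.nd .nil (.nd (.lf [21,32,16,20]) (.lf [21,26])))) .nil)) (.nd (.nd (.nd .nil (.nd (.nd (.lf [10,20,28,32]) (.lf [7,17,20,24,28])) .nil)) (.lf [3,14,22,30])) .nil)) (.nd (.nd (.lf [25,11,22,32]) (.lf [22,9,26,24])) .nil)))) (.nd (.nd (.nd (.nd (.nd .nil (.nd .nil (.nd .nil (.nd (.nd (.nd (.lf [10,9,24,28]) (.lf [10,28,32])) .nil) .nil)))) (.lf [7,12])) (.nd (.nd (.nd (.nd .nil (.nd (.nd (.lf [26,10,26,10,24]) (.lf [26,10,11,24])) .nil)) (.nd (.nd .nil (.nd (.lf [1,14,30,32]) (.lf [1,12,22,24,32]))) (.nd (.nd (.lf [25,10,12,24,30]) (.lf [25,10,17,32])) .nil))) .nil) (.nd (.nd (.nd .nil (.nd .nil (.nd (.lf [25,10,11,30,26]) (.lf [25,10,12,26])))) (.nd (.nd .nil (.nd (.nd (.lf [5,32,12])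 (.lf [17,13,20])) (.nd (.lf [5,14,22]) (.lf [19,10,26])))) .nil)) (.nd (.nd .nil (.nd .nil (.nd (.lf [26,11,14]) (.lf [24,13,22])))) .nil)))) (.nd (.nd (.nd (.nd (.nd (.nd (.nd .nil (.nd (.lf [0,10,13,20]) (.lf [19,9,12,16]))) .nil) (.nd (.nd (.lf [9,22,32]) (.lf [12,22,12])) .nil)) (.nd (.lf [1,10,30,32,20]) (.lf [8,12,24,11]))) (.nd (.lf [11,20,17]) (.nd (.lf [18,10,14,30,32]) (.nd (.nd (.nd (.lf [9,17]) (.lf [9,28,32])) .nil) .nil)))) (.nd (.nd (.nd (.lf [1,32,11,22]) (.lf [11,22,16])) (.nd (.nd .nil (.nd .nil (.nd (.lf [5,13,22]) (.lf [19,10,14,26])))) (.nd .nil (.nd (.nd (.lf [9,28,10]) (.lf [9,9,32,24])) .nil)))) (.nd (.nd (.lf [18,10,32,12]) (.nd .nil (.nd (.lf [9,20,24,32]) (.lf [12,17,20])))) (.lf [8,30,14])))) (.nd (.lf [7,30,12,28]) (.nd (.nd .nil (.nd .nil (.nd .nil (.nd (.nd (.lf [10,30,24]) (.lf [10,17,30,32]))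 .nil)))) .nil)))) (.nd (.nd (.nd (.nd .nil (.nd (.lf [21,14,20,32,20]) (.lf [7,12,30]))) (.nd (.lf [21,14,28]) (.nd .nil (.nd .nil (.nd (.nd (.nd (.lf [10,20,26,28]) (.lf [10,9,28,32])) .nil) .nil))))) (.nd (.nd (.nd .nil (.nd (.nd .nil (.nd (.nd (.lf [0,14,24]) (.lf [17,9,20])) (.nd (.lf [0,12,26]) (.lf [19,22,12])))) .nil)) (.nd (.nd .nil (.nd .nil (.nd (.lf [20,10,26,32]) (.lf [24,13,24])))) (.nd .nil (.nd .nil (.nd (.lf [25,10,12,22,24]) (.lf [25,12,24,16])))))) (.nd (.nd (.nd .nil (.nd (.nd (.lf [20,14]) (.lf [26,10,11,22])) .nil)) (.nd (.nd .nil (.nd (.lf [1,10,32,12]) (.lf [1,14,26,32]))) .nil)) (.nd (.nd .nil (.nd (.nd (.lf [25,12,14]) (.lf [25,10,16,30])) .nil)) .nil)))) (.nd (.nd (.nd (.nd (.nd (.lf [1,10,24,32,20]) (.lf [11,30,14,22])) (.nd (.nd .nil (.nd .nil (.nd (.lf [0,10,22]) (.lf [19,10,14,20]))))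 (.nd (.nd (.lf [25,9,30,24]) (.lf [25,11,16,32])) (.nd (.nd (.lf [9,17,24]) (.lf [9,32,24])) .nil)))) (.nd (.nd (.lf [18,12,16,32]) (.nd .nil (.nd (.nd (.lf [26,9,17]) (.nd (.lf [9,32,20,24]) (.lf [24,10,22,32]))) (.nd (.nd (.lf [6,9,17,20]) (.lf [23,26])) (.lf [24,10,24]))))) (.lf [8,14,17]))) (.nd (.nd (.nd (.nd (.nd .nil (.nd (.lf [5,20]) (.lf [19,11,12]))) .nil) (.nd (.nd (.nd (.lf [23,20]) (.nd (.lf [9,9,22,32]) (.lf [26,22,24]))) (.nd (.nd (.lf [6,17,22]) (.lf [26,12,26])) (.lf [26,13,24]))) .nil)) (.nd (.lf [1,10,32,20]) (.lf [8,9,28,12]))) (.nd (.lf [11,22,10,30]) (.nd (.lf [18,10,14,26,32]) (.nd (.nd (.nd (.lf [9,24,11,28]) (.lf [9,9,28,32])) .nil) (.nd (.lf [25,9,30,32]) (.lf [25,10,14,24]))))))) (.nd (.nd (.nd .nil (.nd .nil (.nd .nil (.nd (.nd (.lf [10,17,24]) (.lf [10,30,32,11])) .nil)))) (.lf [21,10,20,26,32]))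 (.nd (.nd (.lf [21,10,22,26]) (.lf [7,9,28,12])) .nil)))))))) (.nd (.nd (.nd (.nd (.nd (.nd (.nd (.nd (.lf [11,24,30]) (.nd (.nd (.lf [18,32,12]) (.lf [12,14,20])) .nil)) (.nd (.nd .nil (.nd (.lf [15,13,20]) (.lf [6,14,28]))) (.lf [11,9,20]))) (.nd (.nd (.lf [10,17,28,30]) (.nd (.nd .nil (.nd .nil (.nd .nil (.nd (.lf [21,20,10,26,28]) (.lf [21,32,16]))))) .nil)) (.nd (.lf [7,12,17,24]) (.lf [10,24,32])))) (.nd (.nd (.nd (.lf [2,24,14]) (.lf [21,32])) (.nd (.nd .nil (.nd (.lf [3,13,24,28]) (.lf [10,14,30,32]))) .nil)) (.nd .nil (.nd (.nd (.lf [9,12,22,32,24]) (.lf [9,14,32,24])) (.nd (.lf [11,32,20,24]) (.lf [11,24,30,32])))))) (.nd (.nd (.nd (.nd (.nd .nil (.nd (.lf [15,9,20]) (.lf [12,12,28]))) (.lf [11,17,26,30])) (.nd (.lf [11,28]) (.nd (.nd (.lf [18,9,32,12]) (.lf [6,12,20])) .nil))) (.nd (.nd (.lf [7,20,22,12])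 (.lf [10,9,24,32])) (.lf [10,28]))) (.nd (.nd (.nd (.nd .nil (.nd (.lf [3,10,28,24]) (.lf [10,12,30,32]))) .nil) (.nd (.lf [2,12,24,30]) (.lf [21,20,22,28]))) (.nd (.nd (.nd (.lf [9,12,26,32,24]) (.lf [9,12,32,24])) (.nd (.lf [11,20,32,24]) (.lf [11,24,32,30]))) .nil)))) (.nd (.nd (.nd (.nd (.nd (.nd (.nd (.lf [2,24,14,26]) (.lf [21,18,20,30])) .nil) (.lf [7,14,20,32])) (.nd (.nd (.lf [3,20,30]) (.lf [14,26,10])) .nil)) (.nd (.nd (.lf [22,20,10]) (.lf [22,22,12])) .nil)) (.nd (.nd (.lf [22,9,30,10]) (.lf [25,11])) (.nd (.lf [21,20,14,28]) (.lf [10,12,20,32,30])))) (.nd (.nd (.nd (.nd (.nd (.lf [3,10,20,24,28]) (.lf [14,14,26])) (.lf [21,14,24,26])) (.nd (.lf [2,14,20]) (.lf [7,12,20,32]))) (.nd (.nd (.lf [25,11,26,30]) (.lf [25,9,17,30])) .nil)) (.nd (.nd (.lf [25,9,16,22]) (.lf [22,14,30,26])) (.nd (.nd (.lf [10,14,20,32,30])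 (.lf [21,13,24,26])) .nil))))) (.nd (.nd (.nd (.nd (.nd (.nd (.lf [8,17,24]) (.nd (.lf [9,20,17,24]) (.lf [18,10,32,24]))) (.nd (.nd (.lf [15,28]) (.lf [9,14,28])) (.lf [8,9,20]))) (.nd (.nd (.nd .nil (.nd (.lf [2,13,20,26]) (.lf [7,17,28,30]))) .nil) (.nd (.nd (.lf [14,28]) (.nd (.lf [3,13,32,28]) (.lf [10,12,20,26]))) (.lf [7,24,32])))) (.nd (.nd (.lf [21,20,10,22]) (.nd (.nd (.lf [14,12]) (.lf [7,12,32])) .nil)) (.nd .nil (.nd (.nd (.nd (.lf [15,9,32,12]) (.lf [6,12,26,32])) (.nd (.lf [15,12,22,32]) (.lf [6,12,32]))) (.nd (.nd (.lf [18,9,12,20]) (.lf [8,20,32])) (.nd (.lf [18,14]) (.lf [8,32,28]))))))) (.nd (.nd (.nd (.nd (.nd (.lf [15,12,30]) (.lf [9,12,24,11])) (.lf [8,17,24,26])) (.nd (.lf [8,28]) (.nd (.lf [9,12,20]) (.lf [18,11,32,30])))) (.nd (.nd (.nd (.lf [14,15,28]) (.nd (.lf [3,24,28,12]) (.lf [10,12,24,11])))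 (.lf [7,9,24,32])) (.nd (.nd .nil (.nd (.lf [2,10,24]) (.lf [7,28]))) (.nd (.nd .nil (.nd .nil (.nd .nil (.nd (.lf [21,20,26]) (.lf [21,18,24]))))) .nil)))) (.nd (.nd (.nd (.nd (.lf [14,12,15]) (.lf [7,14,32])) .nil) (.lf [21,14,24])) (.nd (.nd (.nd (.nd (.lf [15,32,12]) (.lf [6,12,22,32])) (.nd (.lf [15,14,22,32]) (.lf [6,14,32]))) (.nd (.nd (.lf [18,9,10,30]) (.lf [8,32,20])) (.nd (.lf [18,14,15]) (.lf [8,28,32])))) .nil)))) (.nd (.nd (.nd (.nd (.lf [10,32,12,22]) (.lf [21,32,26])) (.nd .nil (.nd (.lf [25,11,22,30]) (.lf [25,9,16,30])))) (.nd (.nd (.lf [22,10,22,30]) (.lf [25,9,16,26])) (.nd (.lf [2,12,32,22]) (.nd (.nd (.nd (.lf [3,20]) (.lf [7,12,32,22,28])) (.lf [14,14,26,30])) (.lf [21,14,32,26]))))) (.nd (.nd (.nd .nil (.nd (.lf [21,10,20,28,30]) (.lf [10,32,22,11]))) (.nd .nil (.nd (.lf [22,14]) (.lf [22,10,26]))))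 (.nd (.nd (.lf [25,12]) (.lf [22,13,32,24])) (.nd (.nd (.nd (.nd (.lf [3,13,20,24]) (.lf [7,12,20,28,32])) (.lf [14,14,22,28])) .nil) (.nd (.nd (.nd (.lf [2,12,20,28]) (.lf [21,9,20])) .nil) .nil))))))) (.nd (.nd (.nd (.nd (.nd (.nd (.lf [3,10,26]) (.nd (.nd (.lf [7,12,22,32]) (.nd (.nd .nil (.nd (.lf [14,20,17,28]) (.lf [2,22,10,28]))) .nil)) (.lf [21,10,26,30,24]))) (.nd (.nd .nil (.nd (.lf [22,32,28]) (.lf [25,14,32,30]))) (.nd .nil (.nd (.lf [22,13,26,32]) (.lf [25,16,24]))))) (.nd (.nd (.nd .nil (.nd (.lf [22,10,20,32]) (.lf [25,10,24]))) (.nd .nil (.nd (.lf [22,10,22,32]) (.lf [25,10,22,24])))) (.nd (.nd (.lf [3,12,26]) (.lf [10,14,26,28])) (.nd (.lf [2,10,22,30]) (.nd (.nd .nil (.nd .nil (.nd (.nd .nil (.nd (.lf [10,17,20,32]) (.lf [21,10,22,32]))) (.nd (.nd (.lf [7,24,11,22]) (.lf [21,13,26,28])) .nil)))) .nil)))))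 (.nd (.nd (.nd (.nd (.nd (.lf [7,14,22,32]) (.nd (.nd .nil (.nd (.lf [14,14,20,28]) (.lf [2,26,11,28]))) .nil)) (.lf [21,13,22])) (.lf [3,13,22])) .nil) (.nd .nil (.nd (.nd (.lf [2,26,28]) (.nd (.nd .nil (.nd .nil (.nd (.lf [10,20,24,32]) (.lf [7,9,20])))) .nil)) (.nd (.lf [3,14,22]) (.lf [10,14,26,30])))))) (.nd (.nd (.nd (.nd (.nd (.nd (.nd (.nd (.nd (.nd (.lf [0,13]) (.lf [13,13])) (.nd (.lf [4,20]) (.lf [19,13]))) .nil) (.nd (.nd (.nd (.lf [20,13]) (.lf [26,11,26,24])) .nil) (.lf [25,30,26]))) (.nd (.nd .nil (.nd (.lf [1,32]) (.lf [1,22,24]))) (.lf [11,12,28,30]))) (.nd (.nd (.nd .nil (.nd (.lf [18,22]) (.lf [18,12,32,12]))) (.lf [8,20,24,10,32])) (.nd .nil (.nd (.nd (.nd (.lf [12]) (.lf [6,24,11,32])) .nil) .nil)))) (.nd (.nd (.nd (.nd (.nd (.lf [1,13,32,24]) (.lf [1,20,30])) .nil) (.lf [8,20,30,32,11])) (.nd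 (.nd .nil (.nd (.nd (.lf [0,24]) (.lf [16,20])) (.nd (.lf [4,13,22]) (.lf [19,32])))) (.nd .nil (.nd (.nd (.lf [6,24]) (.lf [6,17,32])) .nil)))) (.nd (.nd .nil (.nd (.lf [25,11,16]) (.nd (.nd (.lf [26,12,17]) (.lf [23,20,22,24])) .nil))) (.nd (.nd (.nd (.lf [18,12,14]) (.lf [18,20,32])) .nil) (.lf [11,12]))))) (.nd (.nd (.nd (.nd (.nd (.nd (.nd (.lf [2,13,28]) (.lf [14,9,24])) .nil) .nil) (.lf [21,13,28])) (.lf [10,12,28,30])) .nil) (.nd (.nd (.lf [3,30,12]) (.nd .nil (.nd .nil (.nd (.nd (.lf [7,24]) (.lf [7,17,32])) .nil)))) (.lf [21,13,32,20,22])))) (.nd (.nd (.nd (.nd (.nd (.nd (.nd (.nd (.lf [2,13,22,26]) (.lf [14,9,28,24])) .nil) .nil) (.lf [21,9,22,26])) .nil) (.nd .nil (.nd .nil (.nd (.nd (.nd (.lf [7,17,24,28]) (.lf [7,28,10,32])) .nil) .nil)))) (.nd (.lf [3,28,14]) (.nd (.lf [21,20,22,24]) (.lf [10,30,14]))))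 (.nd (.nd (.nd (.nd (.nd (.nd (.nd (.lf [4,12,20,22,24]) (.lf [17,12,20,22])) .nil) .nil) (.nd (.nd (.lf [23,10,20]) (.lf [26,14,32])) .nil)) (.lf [1,12,22,24])) .nil) (.nd (.nd (.lf [1,14]) (.nd (.nd .nil (.nd .nil (.nd (.lf [4,14,22]) (.lf [19,10,24])))) .nil)) (.nd (.nd .nil (.nd .nil (.nd (.lf [23,10,22,24]) (.lf [23,10,20,26])))) .nil))))) (.nd (.nd (.nd (.nd (.nd (.nd (.nd (.nd (.lf [1,13,24,32]) (.lf [1,20])) .nil) (.lf [8,20,17,30,32])) (.nd (.nd .nil (.nd (.nd (.lf [5,10,32]) (.lf [16,22])) (.nd (.lf [4,22,24]) (.lf [19,9,24])))) (.nd .nil (.nd (.nd (.lf [12,28]) (.lf [6,32,11])) .nil)))) (.nd (.nd .nil (.nd (.lf [25,9,30]) (.nd .nil (.nd (.lf [20,9,26]) (.lf [23,9,24]))))) (.nd (.nd (.nd (.lf [18,30,20]) (.lf [18,9,20,32])) .nil) (.lf [11,12,30])))) (.nd (.nd (.nd (.nd (.nd (.nd (.lf [5,10]) (.lf [13,9]))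 (.nd (.lf [4,20,32]) (.lf [19,9]))) .nil) (.nd (.nd .nil (.nd (.lf [26,10,14,26]) (.lf [26,9,12,24]))) (.lf [25,11,12,26]))) (.nd (.nd .nil (.nd (.lf [1,30,32]) (.lf [1,13,22]))) (.lf [11,12,28]))) (.nd (.nd (.nd .nil (.nd (.lf [18,20]) (.lf [18,10,16,32]))) (.lf [8,20,17,24,32])) (.nd .nil (.nd (.nd (.nd (.lf [6,9]) (.lf [6,17,24,32])) .nil) .nil))))) (.nd (.nd (.nd (.lf [3,12,13]) (.nd .nil (.nd .nil (.nd (.nd (.lf [7,17,20,22]) (.lf [7,32,11])) .nil)))) .nil) (.nd (.nd (.nd (.nd (.nd (.nd (.lf [2,10,22,26,28]) (.lf [14,13,24])) .nil) .nil) .nil) (.lf [10,12,28])) .nil))) (.nd (.nd (.nd (.lf [3,28,14,30]) (.lf [10,14,17])) (.nd (.nd (.nd (.nd (.nd (.nd (.lf [2,10]) (.lf [14,13,28,24])) .nil) .nil) .nil) .nil) (.nd .nil (.nd .nil (.nd (.nd (.nd (.lf [7,28,24]) (.lf [7,17,28,32])) .nil) .nil))))) (.nd (.nd (.nd (.lf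 [1,14,30]) (.nd (.nd .nil (.nd .nil (.nd (.lf [4,12,22,24]) (.lf [19,9,20,10])))) .nil)) (.nd (.nd .nil (.nd .nil (.nd (.lf [26,10]) (.lf [23,24,14])))) .nil)) (.nd (.nd (.nd (.nd (.nd (.nd (.lf [4,14]) (.lf [17,20,17,26])) .nil) .nil) (.nd (.nd (.lf [26,14,26,24]) (.lf [26,10,26])) .nil)) (.lf [1,14,22])) .nil)))))) (.nd (.nd (.nd (.nd (.nd .nil (.nd (.lf [10,26,16,32]) (.lf [21,14,22,28]))) .nil) (.nd .nil (.nd (.lf [7,14,26,28]) (.nd (.lf [14,9,20]) (.nd (.nd .nil (.nd .nil (.nd (.lf [7,32,22]) (.lf [10,24,26])))) .nil))))) (.nd (.nd (.nd (.nd (.lf [10,26,10,32]) (.lf [21,13,22,32])) .nil) (.nd (.nd .nil (.nd (.lf [22,13,22,32]) (.lf [25,9,11,24]))) (.nd .nil (.nd (.lf [22,32]) (.lf [25,30,14,32]))))) (.nd (.nd (.nd .nil (.nd (.lf [22,24,30,20]) (.lf [25,10,26,24]))) (.nd .nil (.nd (.lf [22,24,30]) (.lf [25,24,16]))))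 (.nd (.nd (.lf [14,13,20]) (.nd (.nd .nil (.nd .nil (.nd (.nd .nil (.nd (.lf [7,9,32,22]) (.lf [21,26,28,24]))) (.nd (.nd (.lf [10,9,20]) (.lf [21,14,26])) .nil)))) .nil)) (.lf [7,14,26,30]))))) (.nd (.nd (.nd (.nd (.nd (.nd (.nd .nil (.nd (.nd .nil (.nd (.lf [26,26]) (.lf [26,11,32]))) (.lf [25,26]))) (.lf [8,12,24])) (.nd (.lf [11,20,32,16]) (.nd .nil (.nd (.nd (.nd (.lf [9,9,24,28]) (.lf [9,24,11,32])) .nil) .nil)))) (.nd (.nd (.lf [11,22,10,32]) (.nd .nil (.nd .nil (.nd (.nd (.lf [9,9,28]) (.lf [9,32,11,24])) .nil)))) (.nd (.nd .nil (.nd (.lf [25,32,32]) (.nd .nil (.nd (.lf [24,14,22]) (.lf [23,32,26]))))) (.lf [8,12])))) (.nd (.lf [7,12,28,30]) (.nd (.nd .nil (.nd .nil (.nd .nil (.nd (.nd (.lf [10,20,26]) (.lf [10,9,30,32])) .nil)))) .nil))) (.nd (.nd (.nd .nil (.nd .nil (.nd .nil (.nd (.nd (.nd (.lf [10,9,28,24])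 (.lf [10,32,28])) .nil) .nil)))) (.lf [7,30,14])) (.nd (.nd (.nd (.nd (.nd (.nd .nil (.nd (.lf [0,14,20]) (.lf [19,12,15]))) .nil) (.nd (.nd (.lf [26,26,12,24]) (.lf [26,14,26])) .nil)) (.lf [1,12,32,30])) .nil) (.nd (.nd (.lf [1,12,32,22]) (.nd (.nd .nil (.nd (.nd (.lf [5,14,24]) (.lf [17,20,17])) .nil)) .nil)) (.nd (.nd .nil (.nd .nil (.nd (.lf [26,14]) (.lf [23,10,20,24])))) .nil))))) (.nd (.nd (.nd (.nd (.nd (.lf [11,22,16,32]) (.nd .nil (.nd .nil (.nd (.nd (.lf [9,9,24]) (.lf [9,17,32,24])) .nil)))) (.nd (.nd .nil (.nd (.lf [25,18]) (.nd (.nd (.lf [26,18]) (.lf [23,22,24])) .nil))) (.lf [8,12,30]))) (.nd (.nd (.nd .nil (.nd (.nd (.nd (.lf [24,14]) (.lf [26,12,22,24])) .nil) (.lf [25,18,32,24]))) (.lf [8,12,28])) (.nd (.lf [11,20,17,32]) (.nd .nil (.nd (.nd (.nd (.lf [9,9]) (.lf [9,17,24,32])) .nil) .nil))))) (.nd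 (.nd (.nd .nil (.nd .nil (.nd .nil (.nd (.nd (.lf [10,9,24]) (.lf [10,30,32])) .nil)))) (.lf [21,10,26,32,22])) (.nd (.nd (.lf [21,14]) (.lf [7,12,28])) .nil))) (.nd (.nd (.nd .nil (.nd (.lf [21,32,20,10,22]) (.lf [7,14,17]))) (.nd (.lf [21,10,26,30,22]) (.nd .nil (.nd .nil (.nd (.nd (.nd (.lf [10,20,22,28]) (.lf [10,9,32,28])) .nil) .nil))))) (.nd (.nd (.nd (.lf [1,12,20,30,32]) (.nd (.nd .nil (.nd (.nd (.lf [0,12,32]) (.lf [17,14,20])) .nil)) .nil)) (.nd (.nd .nil (.nd .nil (.nd (.lf [23,10,20,26,32]) (.lf [23,10,22])))) .nil)) (.nd (.nd (.nd (.nd (.nd .nil (.nd (.lf [5,20,11]) (.lf [19,12]))) .nil) (.nd (.nd (.lf [23,14]) (.lf [26,10,24])) .nil)) (.lf [1,12,32])) .nil)))))))))))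

/-- The target words. -/
def rW (c : ℕ) : List ℕ := [[], [9], [9, 11]].getD c []

/-- The square test on base points. -/
noncomputable def sqF (W : List ℕ) : Bool := bsL.all (fun b => Nat.beq (piW W (piW W b)) b)

/-- The conjugation test for `W` with the word `U` and target `c`. -/
noncomputable def cjT (U W : List ℕ) (c : ℕ) : Bool :=
  bsL.all (fun b => Nat.beq (ev ap U (ev ap W (sZ (ev ap (invW iv U) (sZ b))))) (ev ap (rW c) b))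

/-- The full word of an entry. -/
def uOf (l : List ℕ) : List ℕ := rpU.getD (l.headD 0) [] ++ l.tail

/-- The class of an entry. -/
def cOf (l : List ℕ) : ℕ := rpC.getD (l.headD 0) 0

/-- The check at one element. -/
noncomputable def clW (W : List ℕ) (k : ℕ) : Bool :=
  !(sqF W) || (Nat.blt (cOf (clT.get k)) 3 && cjT (uOf (clT.get k)) W (cOf (clT.get k)))

/-- The check on a coset. -/
noncomputable def clC (i : ℕ) : Bool :=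
  allR (fun v => clW (DD.τW i ++ DD.nuW 10 v) (i * 1024 + v)) 10 0

end Cfsg.Agent.Lib.Fi22Ou
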