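import Mathlib
import Cfsg.Agent.Lib.Fi23Mx2

/-!
# A chain of iterated commutators in the stabilizer of `Um`, reaching the ninth derived subgroup.
-/

set_option Elab.async false
set_option autoImplicit false
set_option maxRecDepth 1000000
set_option linter.all false

namespace Cfsg.Agent.Lib.Fi23Mx

open Cfsg.Agent.Lib.OutTree36 Cfsg.Agent.Lib.TcBits Cfsg.Agent.Lib.TcPres Cfsg.Agent.Lib.PresChain36
open Cfsg.Agent.TcData.Fi23.I31671 Cfsg.Agent.TcData.Fi23 Cfsg.Agent.TcChain36.Fi23 Cfsg.Agent.TcChain36.Out.Fi23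
open Cfsg.Agent.Lib.Fi23K24 Cfsg.Agent.Lib.CentFix24

/-- An element. -/
def a0 : List ℕ := [7]

/-- An element. -/
def a1 : List ℕ := [7,4,2,1,4,0,1,2,2,0,3,1,2,0,3,4,3,0,4,3,2,1,3,4,2,2,2,3,7,0,4,0,2,7,0,3,5,1,1,0,6,0,1,2,2,6,2,1,0,2,1,3,4,3,1,0,4,3,0,1,4]

/-- An element. -/
def a2 : List ℕ := [4,3,1,4,3,2,0,1,6,4,3,3,4,0,3,4,2,0,7,4,1,5,6,3,1,7,0,7,4,3,0,4,3,4,2,1,0,3,2,1,4,7,5,3,1,1,0,6,0,1,2,2,6,2,1,0,2,1,3,4,3,1,0,4,3,0,1,4]

/-- An element. -/
def a3 : List ℕ := [2,1,4,1,2,4,1,2,0,1,4,1,4,1,3,2,4,3,0,3,4,7,4,0,2,6,0,3,4,1,0,4,1,1,7,4,1,0,4,6,6,0,1,0,6,1,4,0,1,4,2,7,2,3,7,1,0,3,1,0]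

/-- An element. -/
def a4 : List ℕ := [2,1,4,3,1,2,1,5,1,6,2,3,2,0,6,0,2,3,2,4,1,5,2,4,1,2,4,7,2,0,2,0,4,3,4,7,6,1,0,6,2,1,0,2,1,1,6,0,1,6,3,2,0,1,2,3,6,0,1,0,6,1,4,0,1,4,2,7,2,3,7,1,0,3,1,0]

/-- An element. -/
def a5 : List ℕ := [2,1,3,1,4,2,1,4,2,0,2,3,2,3,4,0,3,4,3,1,2,3,0,4,0,2,4,4,4,1,6,0,1,0,6,1,4,0,1,4,2,7,2,3,7,1,0,3,1,0]

/-- An element. -/
def a6 : List ℕ := [1,0,2,4,0,1,4,2,6,2,3,2,0,6,6,0,1,6,4,2,1,0,2,4,0,1,4,3,1,2,7,0,7,4,1,1,0,6,0,1,2,2,6,2,1,0,2,1,3,4,3,1,0,4,3,0,1,4]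

/-- An element. -/
def a7 : List ℕ := [1,1,0,2,4,0,1,4,2,4,3,0,4,3,1,2,1,0,7,1,5,2,4,3,1,5,3,2,4,1,3,2,1,4,2,1,4,3,4,1,3,1,7,0,0,0,2,4,6,1,0,6,2,1,0,2,1,1,6,0,1,6,3,2,0,1,2,3]

/-- An element. -/
def a8 : List ℕ := [1,2,0,1,2,2,0,3,1,2,0,3,6,1,0,6,2,1,0,2,1,1,6,0,1,6,3,2,0,1,2,3]

/-- An element. -/
def a9 : List ℕ := [6,1,0,6,2,1,0,2,1,1,6,0,1,6,3,2,0,1,2,3]

/-- A conjugator. -/
def c0 : List ℕ := [5]

/-- A conjugator. -/
def c1 : List ℕ := [0,7,6]

/-- A conjugator. -/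
def c2 : List ℕ := [7,3,6,7]

/-- A conjugator. -/
def c3 : List ℕ := [7,0,2]

/-- A conjugator. -/
def c4 : List ℕ := [3,4,7,5]

/-- A conjugator. -/
def c5 : List ℕ := [6,3,5]

/-- A conjugator. -/
def c6 : List ℕ := [1,4,2,7]

/-- A conjugator. -/
def c7 : List ℕ := [3,7,7,5,7]

/-- A conjugator. -/
def c8 : List ℕ := [0,7,2,1,1]

theorem d0 : IsD (Kn Um []) 0 (evL Lt0 (ex GW a0)) := isD_zero (ex_mem hT a0)

theorem hbT : ∀ b ∈ [1,647,941,326,743,0], b < 31671 := by decide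

theorem s0_1 : Nat.beq (evH GW (a1.reverse ++ cw a0 c0).reverse 1) 1 = true := by decide +kernel

theorem s0_647 : Nat.beq (evH GW (a1.reverse ++ cw a0 c0).reverse 647) 647 = true := by decide +kernel

theorem s0_941 : Nat.beq (evH GW (a1.reverse ++ cw a0 c0).reverse 941) 941 = true := by decide +kernel

theorem s0_326 : Nat.beq (evH GW (a1.reverse ++ cw a0 c0).reverse 326) 326 = true := by decide +kernel

theorem s0_743 : Nat.beq (evH GW (a1.reverse ++ cw a0 c0).reverse 743) 743 = true := by decide +kernel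

theorem s0_0 : Nat.beq (evH GW (a1.reverse ++ cw a0 c0).reverse 0) 0 = true := by decide +kernel

theorem d1 : IsD (Kn Um []) 1 (evL Lt0 (ex GW a1)) :=
  isD_stepB (one_of_chk end6) hbT GW_all hT hsq d0 (ex_mem hT c0) (by
    simp only [List.mem_cons, List.not_mem_nil, or_false, forall_eq_or_imp, forall_eq]
    exact ⟨s0_1, s0_647, s0_941, s0_326, s0_743, s0_0⟩)

theorem s1_1 : Nat.beq (evH GW (a2.reverse ++ cw a1 c1).reverse 1) 1 = true := by decide +kernel

theorem s1_647 : Nat.beq (evH GW (a2.reverse ++ cw a1 c1).reverse 647) 647 = true := by decide +kernel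

theorem s1_941 : Nat.beq (evH GW (a2.reverse ++ cw a1 c1).reverse 941) 941 = true := by decide +kernel

theorem s1_326 : Nat.beq (evH GW (a2.reverse ++ cw a1 c1).reverse 326) 326 = true := by decide +kernel

theorem s1_743 : Nat.beq (evH GW (a2.reverse ++ cw a1 c1).reverse 743) 743 = true := by decide +kernel

theorem s1_0 : Nat.beq (evH GW (a2.reverse ++ cw a1 c1).reverse 0) 0 = true := by decide +kernel

theorem d2 : IsD (Kn Um []) 2 (evL Lt0 (ex GW a2)) :=
  isD_stepB (one_of_chk end6) hbT GW_all hT hsq d1 (ex_mem hT c1) (by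
    simp only [List.mem_cons, List.not_mem_nil, or_false, forall_eq_or_imp, forall_eq]
    exact ⟨s1_1, s1_647, s1_941, s1_326, s1_743, s1_0⟩)

theorem s2_1 : Nat.beq (evH GW (a3.reverse ++ cw a2 c2).reverse 1) 1 = true := by decide +kernel

theorem s2_647 : Nat.beq (evH GW (a3.reverse ++ cw a2 c2).reverse 647) 647 = true := by decide +kernel

theorem s2_941 : Nat.beq (evH GW (a3.reverse ++ cw a2 c2).reverse 941) 941 = true := by decide +kernel

theorem s2_326 : Nat.beq (evH GW (a3.reverse ++ cw a2 c2).reverse 326) 326 = true := by decide +kernel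

theorem s2_743 : Nat.beq (evH GW (a3.reverse ++ cw a2 c2).reverse 743) 743 = true := by decide +kernel

theorem s2_0 : Nat.beq (evH GW (a3.reverse ++ cw a2 c2).reverse 0) 0 = true := by decide +kernel

theorem d3 : IsD (Kn Um []) 3 (evL Lt0 (ex GW a3)) :=
  isD_stepB (one_of_chk end6) hbT GW_all hT hsq d2 (ex_mem hT c2) (by
    simp only [List.mem_cons, List.not_mem_nil, or_false, forall_eq_or_imp, forall_eq]
    exact ⟨s2_1, s2_647, s2_941, s2_326, s2_743, s2_0⟩)

theorem s3_1 : Nat.beq (evH GW (a4.reverse ++ cw a3 c3).reverse 1) 1 = true := by decide +kernel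

theorem s3_647 : Nat.beq (evH GW (a4.reverse ++ cw a3 c3).reverse 647) 647 = true := by decide +kernel

theorem s3_941 : Nat.beq (evH GW (a4.reverse ++ cw a3 c3).reverse 941) 941 = true := by decide +kernel

theorem s3_326 : Nat.beq (evH GW (a4.reverse ++ cw a3 c3).reverse 326) 326 = true := by decide +kernel

theorem s3_743 : Nat.beq (evH GW (a4.reverse ++ cw a3 c3).reverse 743) 743 = true := by decide +kernel

theorem s3_0 : Nat.beq (evH GW (a4.reverse ++ cw a3 c3).reverse 0) 0 = true := by decide +kernel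

theorem d4 : IsD (Kn Um []) 4 (evL Lt0 (ex GW a4)) :=
  isD_stepB (one_of_chk end6) hbT GW_all hT hsq d3 (ex_mem hT c3) (by
    simp only [List.mem_cons, List.not_mem_nil, or_false, forall_eq_or_imp, forall_eq]
    exact ⟨s3_1, s3_647, s3_941, s3_326, s3_743, s3_0⟩)

theorem s4_1 : Nat.beq (evH GW (a5.reverse ++ cw a4 c4).reverse 1) 1 = true := by decide +kernel

theorem s4_647 : Nat.beq (evH GW (a5.reverse ++ cw a4 c4).reverse 647) 647 = true := by decide +kernel

theorem s4_941 : Nat.beq (evH GW (a5.reverse ++ cw a4 c4).reverse 941) 941 = true := by decide +kernel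

theorem s4_326 : Nat.beq (evH GW (a5.reverse ++ cw a4 c4).reverse 326) 326 = true := by decide +kernel

theorem s4_743 : Nat.beq (evH GW (a5.reverse ++ cw a4 c4).reverse 743) 743 = true := by decide +kernel

theorem s4_0 : Nat.beq (evH GW (a5.reverse ++ cw a4 c4).reverse 0) 0 = true := by decide +kernel

theorem d5 : IsD (Kn Um []) 5 (evL Lt0 (ex GW a5)) :=
  isD_stepB (one_of_chk end6) hbT GW_all hT hsq d4 (ex_mem hT c4) (by
    simp only [List.mem_cons, List.not_mem_nil, or_false, forall_eq_or_imp, forall_eq]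
    exact ⟨s4_1, s4_647, s4_941, s4_326, s4_743, s4_0⟩)

theorem s5_1 : Nat.beq (evH GW (a6.reverse ++ cw a5 c5).reverse 1) 1 = true := by decide +kernel

theorem s5_647 : Nat.beq (evH GW (a6.reverse ++ cw a5 c5).reverse 647) 647 = true := by decide +kernel

theorem s5_941 : Nat.beq (evH GW (a6.reverse ++ cw a5 c5).reverse 941) 941 = true := by decide +kernel

theorem s5_326 : Nat.beq (evH GW (a6.reverse ++ cw a5 c5).reverse 326) 326 = true := by decide +kernel

theorem s5_743 : Nat.beq (evH GW (a6.reverse ++ cw a5 c5).reverse 743) 743 = true := by decide +kernel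

theorem s5_0 : Nat.beq (evH GW (a6.reverse ++ cw a5 c5).reverse 0) 0 = true := by decide +kernel

theorem d6 : IsD (Kn Um []) 6 (evL Lt0 (ex GW a6)) :=
  isD_stepB (one_of_chk end6) hbT GW_all hT hsq d5 (ex_mem hT c5) (by
    simp only [List.mem_cons, List.not_mem_nil, or_false, forall_eq_or_imp, forall_eq]
    exact ⟨s5_1, s5_647, s5_941, s5_326, s5_743, s5_0⟩)

theorem s6_1 : Nat.beq (evH GW (a7.reverse ++ cw a6 c6).reverse 1) 1 = true := by decide +kernel

theorem s6_647 : Nat.beq (evH GW (a7.reverse ++ cw a6 c6).reverse 647) 647 = true := by decide +kernel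

theorem s6_941 : Nat.beq (evH GW (a7.reverse ++ cw a6 c6).reverse 941) 941 = true := by decide +kernel

theorem s6_326 : Nat.beq (evH GW (a7.reverse ++ cw a6 c6).reverse 326) 326 = true := by decide +kernel

theorem s6_743 : Nat.beq (evH GW (a7.reverse ++ cw a6 c6).reverse 743) 743 = true := by decide +kernel

theorem s6_0 : Nat.beq (evH GW (a7.reverse ++ cw a6 c6).reverse 0) 0 = true := by decide +kernel

theorem d7 : IsD (Kn Um []) 7 (evL Lt0 (ex GW a7)) :=
  isD_stepB (one_of_chk end6) hbT GW_all hT hsq d6 (ex_mem hT c6) (by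
    simp only [List.mem_cons, List.not_mem_nil, or_false, forall_eq_or_imp, forall_eq]
    exact ⟨s6_1, s6_647, s6_941, s6_326, s6_743, s6_0⟩)

theorem s7_1 : Nat.beq (evH GW (a8.reverse ++ cw a7 c7).reverse 1) 1 = true := by decide +kernel

theorem s7_647 : Nat.beq (evH GW (a8.reverse ++ cw a7 c7).reverse 647) 647 = true := by decide +kernel

theorem s7_941 : Nat.beq (evH GW (a8.reverse ++ cw a7 c7).reverse 941) 941 = true := by decide +kernel

theorem s7_326 : Nat.beq (evH GW (a8.reverse ++ cw a7 c7).reverse 326) 326 = true := by decide +kernel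

theorem s7_743 : Nat.beq (evH GW (a8.reverse ++ cw a7 c7).reverse 743) 743 = true := by decide +kernel

theorem s7_0 : Nat.beq (evH GW (a8.reverse ++ cw a7 c7).reverse 0) 0 = true := by decide +kernel

theorem d8 : IsD (Kn Um []) 8 (evL Lt0 (ex GW a8)) :=
  isD_stepB (one_of_chk end6) hbT GW_all hT hsq d7 (ex_mem hT c7) (by
    simp only [List.mem_cons, List.not_mem_nil, or_false, forall_eq_or_imp, forall_eq]
    exact ⟨s7_1, s7_647, s7_941, s7_326, s7_743, s7_0⟩)

theorem s8_1 : Nat.beq (evH GW (a9.reverse ++ cw a8 c8).reverse 1) 1 = true := by decide +kernel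

theorem s8_647 : Nat.beq (evH GW (a9.reverse ++ cw a8 c8).reverse 647) 647 = true := by decide +kernel

theorem s8_941 : Nat.beq (evH GW (a9.reverse ++ cw a8 c8).reverse 941) 941 = true := by decide +kernel

theorem s8_326 : Nat.beq (evH GW (a9.reverse ++ cw a8 c8).reverse 326) 326 = true := by decide +kernel

theorem s8_743 : Nat.beq (evH GW (a9.reverse ++ cw a8 c8).reverse 743) 743 = true := by decide +kernel

theorem s8_0 : Nat.beq (evH GW (a9.reverse ++ cw a8 c8).reverse 0) 0 = true := by decide +kernel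

theorem d9 : IsD (Kn Um []) 9 (evL Lt0 (ex GW a9)) :=
  isD_stepB (one_of_chk end6) hbT GW_all hT hsq d8 (ex_mem hT c8) (by
    simp only [List.mem_cons, List.not_mem_nil, or_false, forall_eq_or_imp, forall_eq]
    exact ⟨s8_1, s8_647, s8_941, s8_326, s8_743, s8_0⟩)

theorem a9_ne : evL Lt0 (ex GW a9) ≠ 1 := ne_one_of GW_all (b := 2) (by norm_num) (by decide +kernel)

end Cfsg.Agent.Lib.Fi23Mx
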