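import Mathlib
import Cfsg.Agent.TcChain36.Out.Fi23.Alpha

/-!
# In the presented `Fi₂₃`, an involution whose products with its conjugates have order at most 3 lies in the class
of the base transposition
-/

set_option autoImplicit false
set_option maxRecDepth 1000000
set_option linter.all false

namespace Cfsg.Agent.Lib.Fi23Uq44

open Cfsg.Agent.Lib.OutTree36 Cfsg.Agent.Lib.TcBits Cfsg.Agent.Lib.TcPres Cfsg.Agent.Lib.PresChain36
open Cfsg.Agent.TcData.Fi23.I31671 Cfsg.Agent.TcData.Fi23 Cfsg.Agent.TcChain36.Fi23 Cfsg.Agent.TcChain36.Out.Fi23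

abbrev Gq := Cfsg.Agent.TcChain36.Out.Fi23.Gp
noncomputable abbrev zz : Gq := Cfsg.Agent.TcChain36.Fi23.zz

/-- A conjugate of the base transposition is recognized by the products with its conjugates. -/
theorem conj_of_PrK {y : Gq} (hy : y * y = 1) (hy1 : y ≠ 1) (hPr0 : PrK [2, 3] y) : IsConj zz y := by
  haveI : Finite Gq := finG
  have SD' := sylData_of H hbs hbn hiv DD hS hI
  obtain ⟨g, i, v, hi, hv, hne, h3, h4, h5⟩ := exists_cand SD' (q := 15600091832325) (a := 7) rfl
    (by rw [Cfsg.Agent.TcChain36.Fi23.hcard]; rfl) (by decide) hy hy1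
  have h6 := hCd i hi
  rw [chkCand] at h6
  have h7 : Nat.beq (DD.sqi i) 0 = true := by rw [h3]; rfl
  simp only [h7, Bool.not_true, Bool.false_or] at h6
  have h8 := allR_spec _ 0 h6 v (Nat.zero_le _) (by omega)
  have h9 : Nat.blt v (2 ^ DD.m) = true := Nat.ble_eq_true_of_le hv
  have h10 : Nat.beq (Nat.xor (Nat.xor (DD.sqc i) (DD.linK i DD.m v)) v) 0 = true := by
    rw [DD.linK_eq]
    show Nat.beq (DD.sqc i ^^^ lin (DD.Br i) DD.m v ^^^ v) 0 = true
    rw [h4]; rfl
  have h11 : (Nat.beq i 0 && Nat.beq v 0) = false := by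
    rw [Bool.eq_false_iff]
    intro h
    simp only [Bool.and_eq_true] at h
    exact hne ⟨beq_true h.1, beq_true h.2⟩
  simp only [h9, h10, h11, Bool.not_true, Bool.false_or] at h8
  have invL := @evL_invW Gq _ Lt iv hiv
  have hXe : evL Lt (DD.τW i ++ DD.nuW DD.m v) = g * y * g⁻¹ := by
    rw [evL_append, evL_nuW, h5]
  cases hl : (cdF i).get v with
  | none => rw [hl] at h8; cases h8
  | some ck =>
    rw [hl] at h8
    simp only at h8
    cases ck with
    | inD w =>
      have h12 := isOne_sound H hbs hbn h8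
      rw [evL_append, evL_append, evL_append, invL, hXe, evL_cons, evL_nil, mul_one, hiv, hiz] at h12
      set u := evL Lt w with hu
      have h13 : u * (g * y * g⁻¹) * u⁻¹ = zz := by
        calc u * (g * y * g⁻¹) * u⁻¹ = (u * (g * y * g⁻¹) * u⁻¹ * zz⁻¹) * zz := by group
          _ = zz := by rw [h12, one_mul]
      refine IsConj.symm (isConj_iff.mpr ⟨u * g, ?_⟩)
      have e : (u * g) * y * (u * g)⁻¹ = u * (g * y * g⁻¹) * u⁻¹ := by group
      rw [e, h13]
    | wit u pts =>
      exfalso
      simp only [goodC, Bool.and_eq_true] at h8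
      obtain ⟨h12, h13⟩ := h8
      have hPr : PrK [2, 3] (g * y * g⁻¹) := hPr0.conj g
      obtain ⟨k, hk, hk2⟩ := hPr (evL Lt u)
      have hlen : pts.length = ([2, 3] : List ℕ).length := beq_true h12
      obtain ⟨i0, hi0, hie⟩ := List.mem_iff_getElem.mp hk
      have hi0' : i0 < 2 := by simpa using hi0
      have hlen' : pts.length = 2 := by simpa using hlen
      have hmem : (k, pts[i0]'(by omega)) ∈ ([2, 3] : List ℕ).zip pts := by
        rw [List.mem_iff_getElem]
        refine ⟨i0, by simp [List.length_zip]; omega, ?_⟩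
        simp [hie]
      rw [List.all_eq_true] at h13
      have h14 := h13 _ hmem
      simp only [Bool.and_eq_true] at h14
      set pa := pts[i0]'(by omega) with hpa
      have h15 : pa < 31671 := blt_true h14.1
      have h16 := beq_false h14.2
      apply h16
      rw [← H.ev_eq _ h15, evL_repW, evL_append, evL_append, evL_append, invL, hXe]
      have e : g * y * g⁻¹ * evL Lt u * (g * y * g⁻¹) * (evL Lt u)⁻¹ =
          g * y * g⁻¹ * (evL Lt u * (g * y * g⁻¹) * (evL Lt u)⁻¹) := by group
      rw [e, hk2]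
      simp

/-- A class of 3-transpositions of a copy of the presented group is the class of the base transposition. -/
theorem class_unique_of_iso {G : Type*} [Group G] {D D' : Set G} (e : Gq ≃* G)
    (he : ∀ x, x ∈ D ↔ IsConj (e zz) x) (hD' : Cfsg.IsThreeTranspositionClass D') : D' = D := by
  obtain ⟨⟨h1, h2⟩, ⟨d, hd, rfl⟩, _⟩ := hD'
  set y := e.symm d with hy
  have y2 : y * y = 1 := by
    rw [hy, ← map_mul, ← pow_two, ← h1 d hd, pow_orderOf_eq_one]
    simp
  have y1 : y ≠ 1 := by
    intro h
    have : d = 1 := e.symm.injective (by simpa [hy] using h)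
    have h3 := h1 d hd
    rw [this, orderOf_one] at h3
    omega
  have hPr : PrK [2, 3] y := by
    intro u
    have hm : e u * d * (e u)⁻¹ ∈ conjugatesOf d := isConj_iff.mpr ⟨e u, rfl⟩
    have hd' : d ∈ conjugatesOf d := IsConj.refl d
    have e1 : y * (u * y * u⁻¹) = e.symm (d * (e u * d * (e u)⁻¹)) := by
      simp [hy, map_mul, map_inv]
    rcases h2 d hd' _ hm with h | h
    · refine ⟨2, by simp, ?_⟩
      rw [e1, ← map_pow, h, map_one]
    · refine ⟨3, by simp, ?_⟩
      rw [e1, ← map_pow, h, map_one]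
  have hc := conj_of_PrK y2 y1 hPr
  have h3 : IsConj (e zz) d := by
    obtain ⟨g, hg⟩ := isConj_iff.mp hc
    have h5 : e y = d := by simp [hy]
    refine isConj_iff.mpr ⟨e g, ?_⟩
    rw [← h5, ← hg]
    simp
  ext x
  rw [he x]
  constructor
  · intro hx
    have h6 : IsConj d x := hx
    exact h3.trans h6
  · intro hx
    exact h3.symm.trans hx

end Cfsg.Agent.Lib.Fi23Uq44
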