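import Mathlib

/-!
# Data for the Sylow `3`-subgroup of the stabiliser of a commuting triple in `Fi₂₄`
-/

set_option autoImplicit false
set_option maxRecDepth 100000
set_option linter.all false

namespace Cfsg.Agent.Lib.Fi24Fd4

/-- The words of the polycyclic sequence. -/
def hW : List (List ℕ) := [
[2, 3, 4, 5, 1, 2, 3, 4],
  [8, 0, 6, 1, 0, 10, 11, 0, 6, 2, 1, 0, 10, 7, 6, 3, 2, 1, 0, 1, 2, 3, 6, 7, 10, 0, 1, 2, 6, 0, 11, 10, 0, 1, 6, 0],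
  [0, 6, 1, 0, 10, 11, 10, 0, 6, 2, 1, 0, 10, 9, 8, 7, 6, 3, 2, 1, 0, 1, 2, 3, 6, 7, 8, 9, 10, 0, 1, 2, 6, 0, 10, 11, 10, 0, 1, 6, 0, 0, 6, 1, 0, 10, 11, 7, 8, 6, 7, 0, 6, 2, 1, 0, 10, 9, 8, 7, 6, 3, 2, 1, 0, 1, 2, 3, 6, 7, 8, 9, 10, 0, 1, 2, 6, 0, 7, 6, 8, 7, 11, 10, 0, 1, 6, 0],
  [10, 11],
  [8, 0, 10, 11, 1, 0, 10, 6, 7, 0, 6, 1, 0, 10, 11, 0, 10, 6, 7, 0, 6, 2, 1, 0, 10, 8, 7, 6, 3, 2, 1, 0, 1, 2, 3, 6, 7, 8, 10, 0, 1, 2, 6, 0, 7, 6, 10, 0, 11, 10, 0, 1, 6, 0, 7, 6, 10, 0, 1, 11, 10, 0],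
  [9, 7, 6, 0, 10, 11, 1, 0, 10, 8, 6, 7, 0, 6, 1, 0, 10, 11, 8, 7, 6, 2, 1, 0, 10, 9, 8, 7, 6, 3, 2, 1, 0, 1, 2, 3, 6, 7, 8, 9, 10, 0, 1, 2, 6, 7, 8, 11, 10, 0, 1, 6, 0, 7, 6, 8, 10, 0, 1, 11, 10, 0, 6, 7],
  [0, 6, 1, 0, 10, 11, 0, 6, 2, 1, 0, 10, 7, 6, 3, 2, 1, 0, 1, 2, 3, 6, 7, 10, 0, 1, 2, 6, 0, 11, 10, 0, 1, 6, 0, 7, 0, 6, 1, 0, 10, 11, 1, 0, 6, 2, 1, 0, 10, 7, 6, 3, 2, 1, 0, 1, 2, 3, 6, 7, 10, 0, 1, 2, 6, 0, 1, 11, 10, 0, 1, 6, 0, 7]]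

/-- Conjugates, cubes and invariant sets. -/
def pcD : List (List (List ℕ) × List ℕ × ℕ × List ℕ) := [
([[1, 0, 0, 1, 0, 2], [0, 1, 2, 1, 1, 0], [0, 0, 1, 0, 0, 0], [0, 0, 0, 1, 0, 0], [0, 0, 0, 0, 1, 0], [0, 0, 0, 0, 0, 1]], [0, 0, 0, 0, 0, 0], 0, [0]),
  ([[1, 0, 0, 0, 0], [0, 1, 0, 0, 2], [0, 0, 2, 0, 1], [0, 0, 2, 1, 1], [0, 0, 2, 0, 0]], [0, 0, 0, 0, 0], 510, [510, 71277, 74162]),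
  ([[0, 2, 1, 1], [0, 1, 0, 0], [2, 0, 2, 2], [0, 0, 0, 1]], [0, 0, 0, 0], 116, [116, 174, 254]),
  ([[1, 0, 0], [0, 1, 0], [0, 0, 1]], [0, 0, 0], 13759, [13759]),
  ([[1, 0], [0, 1]], [0, 0], 1, [1, 704, 1566, 44226, 55951, 70053, 70064, 75093, 83693]),
  ([[1]], [0], 964, [964]),
  ([], [], 116, [116])]

/-- The certificates. -/
def certs : List (ℕ × List ℕ) := [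
(0, [113]),
  (0, [964]),
  (0, [964]),
  (0, [116]),
  (0, [707]),
  (0, [510]),
  (0, [116]),
  (0, [510]),
  (0, [707]),
  (0, [116]),
  (0, [510]),
  (0, [707]),
  (0, [116]),
  (0, [964]),
  (0, [964]),
  (0, [116]),
  (0, [707]),
  (0, [510]),
  (0, [116]),
  (0, [707]),
  (0, [510]),
  (0, [116]),
  (0, [510]),
  (0, [707]),
  (0, [116]),
  (0, [964]),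
  (0, [964]),
  (0, [113]),
  (0, [116]),
  (0, [964]),
  (0, [3536]),
  (0, [116]),
  (0, [510]),
  (0, [3465]),
  (0, [116]),
  (0, [707]),
  (0, [2599]),
  (0, [116]),
  (0, [707]),
  (0, [510]),
  (0, [116]),
  (0, [964]),
  (0, [2599]),
  (0, [116]),
  (0, [510]),
  (0, [3465]),
  (0, [116]),
  (0, [510]),
  (0, [4574]),
  (0, [116]),
  (0, [707]),
  (0, [510]),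
  (0, [116]),
  (0, [964]),
  (0, [113]),
  (0, [964]),
  (0, [116]),
  (0, [2599]),
  (0, [707]),
  (0, [116]),
  (0, [2599]),
  (0, [510]),
  (0, [116]),
  (0, [3536]),
  (0, [510]),
  (0, [116]),
  (0, [510]),
  (0, [964]),
  (0, [116]),
  (0, [3465]),
  (0, [707]),
  (0, [116]),
  (0, [4574]),
  (0, [707]),
  (0, [116]),
  (0, [3465]),
  (0, [510]),
  (0, [116]),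
  (0, [510]),
  (0, [964]),
  (0, [116]),
  (0, [510]),
  (0, [2599]),
  (0, [3465]),
  (0, [3465]),
  (0, [2531]),
  (0, [510]),
  (1, [1]),
  (0, [510]),
  (1, [1]),
  (0, [3465]),
  (0, [510]),
  (0, [2599]),
  (0, [510]),
  (0, [2531]),
  (0, [2599]),
  (1, [1]),
  (1, [1]),
  (0, [510]),
  (0, [2599]),
  (0, [3465]),
  (0, [510]),
  (0, [2599]),
  (0, [510]),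
  (0, [3465]),
  (0, [510]),
  (1, [1]),
  (1, [1]),
  (0, [510]),
  (0, [1869]),
  (0, [2599]),
  (1, [1]),
  (1, [1]),
  (0, [510]),
  (0, [3465]),
  (0, [510]),
  (0, [2599]),
  (0, [2599]),
  (0, [510]),
  (0, [3465]),
  (0, [510]),
  (1, [1]),
  (1, [1]),
  (0, [2599]),
  (0, [3465]),
  (0, [510]),
  (0, [3465]),
  (0, [1869]),
  (0, [510]),
  (1, [1]),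
  (0, [510]),
  (1, [1]),
  (0, [510]),
  (0, [2599]),
  (0, [3465]),
  (0, [510]),
  (1, [1]),
  (1, [1]),
  (0, [2599]),
  (0, [3465]),
  (0, [510]),
  (0, [2599]),
  (0, [510]),
  (0, [3465]),
  (1, [1]),
  (0, [510]),
  (1, [1]),
  (0, [510]),
  (0, [2599]),
  (0, [3465]),
  (0, [3465]),
  (0, [1865]),
  (0, [510]),
  (1, [1]),
  (1, [1]),
  (0, [510]),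
  (0, [3465]),
  (0, [510]),
  (0, [2599]),
  (0, [510]),
  (0, [1865]),
  (0, [2599]),
  (0, [510]),
  (0, [2599]),
  (0, [3465]),
  (0, [3465]),
  (0, [2599]),
  (0, [510]),
  (1, [1]),
  (0, [510]),
  (1, [1]),
  (0, [3465]),
  (0, [510]),
  (0, [2599]),
  (0, [510]),
  (0, [3465]),
  (0, [1865]),
  (1, [1]),
  (1, [1]),
  (0, [510]),
  (0, [2599]),
  (0, [3465]),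
  (0, [510]),
  (0, [2599]),
  (0, [510]),
  (0, [1865]),
  (0, [510]),
  (1, [1]),
  (1, [1]),
  (0, [510]),
  (0, [1869]),
  (0, [2599]),
  (1, [1]),
  (1, [1]),
  (0, [510]),
  (0, [3465]),
  (0, [510]),
  (0, [2599]),
  (0, [2599]),
  (0, [510]),
  (0, [3465]),
  (0, [510]),
  (1, [1]),
  (1, [1]),
  (0, [2599]),
  (0, [3465]),
  (0, [510]),
  (0, [3465]),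
  (0, [1869]),
  (0, [510]),
  (1, [1]),
  (0, [510]),
  (1, [1]),
  (0, [510]),
  (0, [2599]),
  (0, [3465]),
  (0, [510]),
  (1, [1]),
  (1, [1]),
  (0, [2599]),
  (0, [3465]),
  (0, [510]),
  (0, [2531]),
  (0, [510]),
  (0, [3465]),
  (1, [1]),
  (0, [510]),
  (1, [1]),
  (0, [510]),
  (0, [2599]),
  (0, [3465]),
  (0, [2531]),
  (0, [2599]),
  (0, [510]),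
  (1, [1]),
  (1, [1]),
  (0, [510]),
  (0, [3465]),
  (0, [510]),
  (0, [2599]),
  (0, [510]),
  (0, [3465]),
  (0, [2599]),
  (0, [30578]),
  (0, [30578]),
  (0, [30578]),
  (1, [1]),
  (1, [1]),
  (1, [1]),
  (0, [5638]),
  (0, [6142]),
  (0, [652]),
  (0, [30578]),
  (0, [30578]),
  (0, [30578]),
  (1, [1]),
  (1, [1]),
  (1, [1]),
  (0, [6142]),
  (0, [546]),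
  (0, [6142]),
  (0, [30578]),
  (0, [30578]),
  (0, [30578]),
  (1, [1]),
  (1, [1]),
  (1, [1]),
  (0, [515]),
  (0, [6142]),
  (0, [6142]),
  (0, [6142]),
  (0, [6142]),
  (0, [6142]),
  (0, [652]),
  (0, [5638]),
  (0, [10389]),
  (0, [13759]),
  (0, [13759]),
  (0, [13759]),
  (0, [6142]),
  (0, [6142]),
  (0, [6142]),
  (0, [10035]),
  (0, [6149]),
  (0, [546]),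
  (0, [13759]),
  (0, [13759]),
  (0, [13759]),
  (0, [6142]),
  (0, [6142]),
  (0, [6142]),
  (0, [6350]),
  (0, [515]),
  (0, [7577]),
  (0, [13759]),
  (0, [13759]),
  (0, [13759]),
  (0, [7259]),
  (0, [652]),
  (0, [5638]),
  (0, [6142]),
  (0, [6142]),
  (0, [6142]),
  (1, [1]),
  (1, [1]),
  (1, [1]),
  (0, [546]),
  (0, [10035]),
  (0, [6452]),
  (0, [6142]),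
  (0, [6142]),
  (0, [6142]),
  (1, [1]),
  (1, [1]),
  (1, [1]),
  (0, [6149]),
  (0, [6110]),
  (0, [515]),
  (0, [6142]),
  (0, [6142]),
  (0, [6142]),
  (1, [1]),
  (1, [1]),
  (1, [1]),
  (2, []),
  (2, [8, 10, 0, 6, 1, 0, 10, 11, 10, 0, 6, 2, 1, 0, 10, 7, 6, 3, 2, 1, 0, 1, 2, 3, 6, 7, 10, 0, 1, 2, 6, 0, 10, 11, 10, 0, 1, 6, 0, 10]),
  (2, [11, 10, 0, 6, 1, 0, 10, 11, 0, 6, 2, 1, 0, 10, 7, 6, 3, 2, 1, 0, 1, 2, 3, 6, 7, 10, 0, 1, 2, 6, 0, 11, 10, 0, 1, 6, 0, 8, 10, 11]),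
  (1, [1]),
  (1, [1]),
  (1, [1]),
  (1, [1]),
  (1, [1]),
  (1, [1]),
  (2, [10, 0, 6, 1, 0, 10, 11, 10, 0, 6, 2, 1, 0, 10, 7, 6, 3, 2, 1, 0, 1, 2, 3, 6, 7, 10, 0, 1, 2, 6, 0, 10, 11, 10, 0, 1, 6, 0, 10, 8]),
  (2, [10, 11, 0, 6, 1, 0, 10, 11, 0, 6, 2, 1, 0, 10, 7, 6, 3, 2, 1, 0, 1, 2, 3, 6, 7, 10, 0, 1, 2, 6, 0, 11, 10, 0, 1, 6, 0, 8, 2, 3, 4, 5, 1, 2, 3, 4]),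
  (2, [10, 11, 2, 3, 4, 5, 1, 2, 3, 4]),
  (1, [1]),
  (1, [1]),
  (1, [1]),
  (1, [1]),
  (1, [1]),
  (1, [1]),
  (2, [8, 0, 6, 1, 0, 10, 11, 0, 6, 2, 1, 0, 10, 7, 6, 3, 2, 1, 0, 1, 2, 3, 6, 7, 10, 0, 1, 2, 6, 0, 11, 10, 0, 1, 6, 0]),
  (2, [11, 10, 4, 3, 2, 1, 5, 4, 3, 2]),
  (2, [0, 6, 1, 0, 10, 11, 0, 6, 2, 1, 0, 10, 7, 6, 3, 2, 1, 0, 1, 2, 3, 6, 7, 10, 0, 1, 2, 6, 0, 11, 10, 0, 1, 6, 0, 10, 8, 11, 2, 3, 4, 5, 1, 2, 3, 4]),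
  (1, [1]),
  (1, [1]),
  (1, [1]),
  (1, [1]),
  (1, [1]),
  (1, [1]),
  (1, [1]),
  (1, [1]),
  (1, [1]),
  (1, [1]),
  (1, [1]),
  (1, [1]),
  (2, [8, 0, 6, 1, 0, 10, 11, 0, 6, 2, 1, 0, 10, 7, 6, 3, 2, 1, 0, 1, 2, 3, 6, 7, 10, 0, 1, 2, 6, 0, 11, 10, 0, 1, 6, 0, 11, 10]),
  (2, [10, 11, 0, 6, 1, 0, 10, 11, 0, 6, 2, 1, 0, 10, 7, 6, 3, 2, 1, 0, 1, 2, 3, 6, 7, 10, 0, 1, 2, 6, 0, 11, 10, 0, 1, 6, 0, 10, 11, 8]),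
  (2, [11, 10]),
  (1, [1]),
  (1, [1]),
  (1, [1]),
  (1, [1]),
  (1, [1]),
  (1, [1]),
  (2, [0, 6, 1, 0, 10, 11, 0, 6, 2, 1, 0, 10, 7, 6, 3, 2, 1, 0, 1, 2, 3, 6, 7, 10, 0, 1, 2, 6, 0, 11, 10, 0, 1, 6, 0, 8, 2, 3, 4, 5, 1, 2, 3, 4]),
  (2, [2, 3, 4, 5, 1, 2, 3, 4]),
  (2, [0, 6, 1, 0, 10, 11, 0, 6, 2, 1, 0, 10, 7, 6, 3, 2, 1, 0, 1, 2, 3, 6, 7, 10, 0, 1, 2, 6, 0, 11, 10, 0, 1, 6, 0, 8, 11, 10]),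
  (1, [1]),
  (1, [1]),
  (1, [1]),
  (1, [1]),
  (1, [1]),
  (1, [1]),
  (2, [10, 11, 4, 3, 2, 1, 5, 4, 3, 2]),
  (2, [8, 10, 11, 0, 6, 1, 0, 10, 11, 0, 6, 2, 1, 0, 10, 7, 6, 3, 2, 1, 0, 1, 2, 3, 6, 7, 10, 0, 1, 2, 6, 0, 11, 10, 0, 1, 6, 0, 4, 3, 2, 1, 5, 4, 3, 2]),
  (2, [8, 11, 10, 0, 6, 1, 0, 10, 11, 0, 6, 2, 1, 0, 10, 7, 6, 3, 2, 1, 0, 1, 2, 3, 6, 7, 10, 0, 1, 2, 6, 0, 11, 10, 0, 1, 6, 0]),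
  (1, [1]),
  (1, [1]),
  (1, [1]),
  (2, [0, 6, 1, 0, 10, 11, 0, 6, 2, 1, 0, 10, 7, 6, 3, 2, 1, 0, 1, 2, 3, 6, 7, 10, 0, 1, 2, 6, 0, 11, 10, 0, 1, 6, 0, 10, 8, 11]),
  (2, [10, 11]),
  (2, [8, 11, 10, 0, 6, 1, 0, 10, 11, 0, 6, 2, 1, 0, 10, 7, 6, 3, 2, 1, 0, 1, 2, 3, 6, 7, 10, 0, 1, 2, 6, 0, 11, 10, 0, 1, 6, 0, 11, 10]),
  (1, [1]),
  (1, [1]),
  (1, [1]),
  (1, [1]),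
  (1, [1]),
  (1, [1]),
  (2, [11, 10, 2, 3, 4, 5, 1, 2, 3, 4]),
  (2, [11, 10, 0, 6, 1, 0, 10, 11, 0, 6, 2, 1, 0, 10, 7, 6, 3, 2, 1, 0, 1, 2, 3, 6, 7, 10, 0, 1, 2, 6, 0, 11, 10, 0, 1, 6, 0, 11, 8, 10]),
  (2, [8, 4, 3, 2, 1, 5, 4, 3, 2, 0, 6, 1, 0, 10, 11, 0, 6, 2, 1, 0, 10, 7, 6, 3, 2, 1, 0, 1, 2, 3, 6, 7, 10, 0, 1, 2, 6, 0, 11, 10, 0, 1, 6, 0]),
  (1, [1]),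
  (1, [1]),
  (1, [1]),
  (1, [1]),
  (1, [1]),
  (1, [1]),
  (2, [8, 0, 6, 1, 0, 10, 11, 0, 6, 2, 1, 0, 10, 7, 6, 3, 2, 1, 0, 1, 2, 3, 6, 7, 10, 0, 1, 2, 6, 0, 11, 10, 0, 1, 6, 0, 4, 3, 2, 1, 5, 4, 3, 2]),
  (2, [8, 10, 11, 0, 6, 1, 0, 10, 11, 0, 6, 2, 1, 0, 10, 7, 6, 3, 2, 1, 0, 1, 2, 3, 6, 7, 10, 0, 1, 2, 6, 0, 11, 10, 0, 1, 6, 0]),
  (2, [4, 3, 2, 1, 5, 4, 3, 2]),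
  (1, [1]),
  (1, [1]),
  (1, [1]),
  (2, [10, 11, 4, 3, 2, 1, 5, 4, 3, 2, 10, 0, 6, 1, 0, 10, 11, 0, 6, 2, 1, 0, 10, 9, 8, 7, 6, 3, 2, 1, 0, 1, 2, 3, 6, 7, 8, 9, 10, 0, 1, 2, 6, 0, 11, 10, 0, 1, 6, 0, 10]),
  (2, [11, 10, 0, 6, 1, 0, 10, 11, 10, 0, 6, 2, 1, 0, 10, 9, 8, 7, 6, 3, 2, 1, 0, 1, 2, 3, 6, 7, 8, 9, 10, 0, 1, 2, 6, 0, 10, 11, 10, 0, 1, 6, 0]),
  (2, [0, 6, 1, 0, 10, 11, 7, 8, 6, 7, 0, 6, 2, 1, 0, 10, 9, 8, 7, 6, 3, 2, 1, 0, 1, 2, 3, 6, 7, 8, 9, 10, 0, 1, 2, 6, 0, 7, 6, 8, 7, 11, 10, 0, 1, 6, 0, 10, 11]),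
  (1, [1]),
  (1, [1]),
  (1, [1]),
  (1, [1]),
  (1, [1]),
  (1, [1]),
  (2, [2, 3, 4, 5, 1, 2, 3, 4, 0, 6, 1, 0, 10, 11, 10, 0, 6, 2, 1, 0, 10, 9, 8, 7, 6, 3, 2, 1, 0, 1, 2, 3, 6, 7, 8, 9, 10, 0, 1, 2, 6, 0, 10, 11, 10, 0, 1, 6, 0]),
  (2, [10, 0, 6, 1, 0, 10, 11, 0, 6, 2, 1, 0, 10, 9, 8, 7, 6, 3, 2, 1, 0, 1, 2, 3, 6, 7, 8, 9, 10, 0, 1, 2, 6, 0, 11, 10, 0, 1, 6, 0, 11, 4, 3, 2, 1, 5, 4, 3, 2]),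
  (2, [9, 8, 11, 0, 6, 1, 0, 10, 11, 0, 6, 2, 1, 0, 10, 7, 6, 3, 2, 1, 0, 1, 2, 3, 6, 7, 10, 0, 1, 2, 6, 0, 11, 10, 0, 1, 6, 0, 10, 8, 9]),
  (1, [1]),
  (1, [1]),
  (1, [1]),
  (1, [1]),
  (1, [1]),
  (1, [1]),
  (2, [10, 0, 6, 1, 0, 10, 11, 0, 6, 2, 1, 0, 10, 9, 8, 7, 6, 3, 2, 1, 0, 1, 2, 3, 6, 7, 8, 9, 10, 0, 1, 2, 6, 0, 11, 10, 0, 1, 6, 0, 11, 10, 11]),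
  (2, [10, 11, 0, 6, 1, 0, 10, 11, 7, 8, 6, 7, 0, 6, 2, 1, 0, 10, 9, 8, 7, 6, 3, 2, 1, 0, 1, 2, 3, 6, 7, 8, 9, 10, 0, 1, 2, 6, 0, 7, 6, 8, 7, 11, 10, 0, 1, 6, 0]),
  (2, [10, 4, 3, 2, 1, 5, 4, 3, 2, 0, 6, 1, 0, 10, 11, 0, 6, 2, 1, 0, 10, 9, 8, 7, 6, 3, 2, 1, 0, 1, 2, 3, 6, 7, 8, 9, 10, 0, 1, 2, 6, 0, 11, 10, 0, 1, 6, 0, 11]),
  (1, [1]),
  (1, [1]),
  (1, [1]),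
  (1, [1]),
  (1, [1]),
  (1, [1]),
  (1, [1]),
  (1, [1]),
  (1, [1]),
  (1, [1]),
  (1, [1]),
  (1, [1]),
  (2, [9, 8, 11, 4, 3, 2, 1, 5, 4, 3, 2, 0, 6, 1, 0, 10, 11, 0, 6, 2, 1, 0, 10, 7, 6, 3, 2, 1, 0, 1, 2, 3, 6, 7, 10, 0, 1, 2, 6, 0, 11, 10, 0, 1, 6, 0, 10, 8, 9]),
  (2, [0, 6, 1, 0, 10, 11, 10, 0, 6, 2, 1, 0, 10, 9, 8, 7, 6, 3, 2, 1, 0, 1, 2, 3, 6, 7, 8, 9, 10, 0, 1, 2, 6, 0, 10, 11, 10, 0, 1, 6, 0]),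
  (2, [10, 11, 0, 6, 1, 0, 10, 11, 7, 8, 6, 7, 0, 6, 2, 1, 0, 10, 9, 8, 7, 6, 3, 2, 1, 0, 1, 2, 3, 6, 7, 8, 9, 10, 0, 1, 2, 6, 0, 7, 6, 8, 7, 11, 10, 0, 1, 6, 0, 10, 11]),
  (1, [1]),
  (1, [1]),
  (1, [1]),
  (1, [1]),
  (1, [1]),
  (1, [1]),
  (2, [0, 6, 1, 0, 10, 11, 7, 8, 6, 7, 0, 6, 2, 1, 0, 10, 9, 8, 7, 6, 3, 2, 1, 0, 1, 2, 3, 6, 7, 8, 9, 10, 0, 1, 2, 6, 0, 7, 6, 8, 7, 11, 10, 0, 1, 6, 0, 11, 10]),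
  (2, [11, 10, 0, 6, 1, 0, 10, 11, 10, 0, 6, 2, 1, 0, 10, 9, 8, 7, 6, 3, 2, 1, 0, 1, 2, 3, 6, 7, 8, 9, 10, 0, 1, 2, 6, 0, 10, 11, 10, 0, 1, 6, 0, 4, 3, 2, 1, 5, 4, 3, 2]),
  (2, [10, 0, 6, 1, 0, 10, 11, 0, 6, 2, 1, 0, 10, 9, 8, 7, 6, 3, 2, 1, 0, 1, 2, 3, 6, 7, 8, 9, 10, 0, 1, 2, 6, 0, 11, 10, 0, 1, 6, 0, 10]),
  (1, [1]),
  (1, [1]),
  (1, [1]),
  (1, [1]),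
  (1, [1]),
  (1, [1]),
  (2, [11, 10, 0, 6, 1, 0, 10, 11, 10, 0, 6, 2, 1, 0, 10, 9, 8, 7, 6, 3, 2, 1, 0, 1, 2, 3, 6, 7, 8, 9, 10, 0, 1, 2, 6, 0, 10, 11, 10, 0, 1, 6, 0, 10, 11]),
  (2, [11, 10, 0, 6, 1, 0, 10, 11, 7, 8, 6, 7, 0, 6, 2, 1, 0, 10, 9, 8, 7, 6, 3, 2, 1, 0, 1, 2, 3, 6, 7, 8, 9, 10, 0, 1, 2, 6, 0, 7, 6, 8, 7, 11, 10, 0, 1, 6, 0]),
  (2, [9, 8, 11, 0, 6, 1, 0, 10, 11, 0, 6, 2, 1, 0, 10, 7, 6, 3, 2, 1, 0, 1, 2, 3, 6, 7, 10, 0, 1, 2, 6, 0, 11, 10, 0, 1, 6, 0, 10, 8, 9, 4, 3, 2, 1, 5, 4, 3, 2]),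
  (1, [1]),
  (1, [1]),
  (1, [1]),
  (2, [4, 3, 2, 1, 5, 4, 3, 2, 10, 0, 6, 1, 0, 10, 11, 0, 6, 2, 1, 0, 10, 9, 8, 7, 6, 3, 2, 1, 0, 1, 2, 3, 6, 7, 8, 9, 10, 0, 1, 2, 6, 0, 11, 10, 0, 1, 6, 0, 10]),
  (2, [10, 0, 6, 1, 0, 10, 11, 0, 6, 2, 1, 0, 10, 9, 8, 7, 6, 3, 2, 1, 0, 1, 2, 3, 6, 7, 8, 9, 10, 0, 1, 2, 6, 0, 11, 10, 0, 1, 6, 0, 11]),
  (2, [9, 8, 11, 0, 6, 1, 0, 10, 11, 0, 6, 2, 1, 0, 10, 7, 6, 3, 2, 1, 0, 1, 2, 3, 6, 7, 10, 0, 1, 2, 6, 0, 11, 10, 0, 1, 6, 0, 10, 8, 9, 2, 3, 4, 5, 1, 2, 3, 4]),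
  (1, [1]),
  (1, [1]),
  (1, [1]),
  (1, [1]),
  (1, [1]),
  (1, [1]),
  (2, [10, 0, 6, 1, 0, 10, 11, 10, 7, 8, 6, 7, 0, 6, 2, 1, 0, 10, 9, 8, 7, 6, 3, 2, 1, 0, 1, 2, 3, 6, 7, 8, 9, 10, 0, 1, 2, 6, 0, 7, 6, 8, 7, 10, 11, 10, 0, 1, 6, 0, 10]),
  (2, [0, 6, 1, 0, 10, 11, 10, 0, 6, 2, 1, 0, 10, 9, 8, 7, 6, 3, 2, 1, 0, 1, 2, 3, 6, 7, 8, 9, 10, 0, 1, 2, 6, 0, 10, 11, 10, 0, 1, 6, 0, 4, 3, 2, 1, 5, 4, 3, 2]),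
  (2, [10, 11, 10, 0, 6, 1, 0, 10, 11, 0, 6, 2, 1, 0, 10, 9, 8, 7, 6, 3, 2, 1, 0, 1, 2, 3, 6, 7, 8, 9, 10, 0, 1, 2, 6, 0, 11, 10, 0, 1, 6, 0, 10]),
  (1, [1]),
  (1, [1]),
  (1, [1]),
  (1, [1]),
  (1, [1]),
  (1, [1]),
  (2, [11, 0, 6, 1, 0, 10, 11, 0, 6, 2, 1, 0, 10, 9, 8, 7, 6, 3, 2, 1, 0, 1, 2, 3, 6, 7, 8, 9, 10, 0, 1, 2, 6, 0, 11, 10, 0, 1, 6, 0, 11, 10, 11]),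
  (2, [0, 6, 1, 0, 10, 11, 7, 8, 6, 7, 0, 6, 2, 1, 0, 10, 9, 8, 7, 6, 3, 2, 1, 0, 1, 2, 3, 6, 7, 8, 9, 10, 0, 1, 2, 6, 0, 7, 6, 8, 7, 11, 10, 0, 1, 6, 0]),
  (2, [4, 3, 2, 1, 5, 4, 3, 2, 0, 6, 1, 0, 10, 11, 10, 0, 6, 2, 1, 0, 10, 9, 8, 7, 6, 3, 2, 1, 0, 1, 2, 3, 6, 7, 8, 9, 10, 0, 1, 2, 6, 0, 10, 11, 10, 0, 1, 6, 0]),
  (1, [1]),
  (1, [1]),
  (1, [1]),
  (0, [30578]),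
  (0, [30578]),
  (0, [30578]),
  (1, [1]),
  (1, [1]),
  (1, [1]),
  (0, [6142]),
  (0, [6142]),
  (0, [5638]),
  (0, [30578]),
  (0, [30578]),
  (0, [30578]),
  (1, [1]),
  (1, [1]),
  (1, [1]),
  (0, [6110]),
  (0, [6142]),
  (0, [6142]),
  (0, [30578]),
  (0, [30578]),
  (0, [30578]),
  (1, [1]),
  (1, [1]),
  (1, [1]),
  (0, [515]),
  (0, [546]),
  (0, [652]),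
  (0, [6142]),
  (0, [6142]),
  (0, [6142]),
  (0, [5638]),
  (0, [7577]),
  (0, [10035]),
  (0, [13759]),
  (0, [13759]),
  (0, [13759]),
  (0, [6142]),
  (0, [6142]),
  (0, [6142]),
  (0, [10308]),
  (0, [6350]),
  (0, [6149]),
  (0, [13759]),
  (0, [13759]),
  (0, [13759]),
  (0, [6142]),
  (0, [6142]),
  (0, [6142]),
  (0, [652]),
  (0, [515]),
  (0, [546]),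
  (0, [13759]),
  (0, [13759]),
  (0, [13759]),
  (0, [7259]),
  (0, [5638]),
  (0, [6452]),
  (0, [6142]),
  (0, [6142]),
  (0, [6142]),
  (1, [1]),
  (1, [1]),
  (1, [1]),
  (0, [8171]),
  (0, [10308]),
  (0, [6350]),
  (0, [6142]),
  (0, [6142]),
  (0, [6142]),
  (1, [1]),
  (1, [1]),
  (1, [1]),
  (0, [546]),
  (0, [652]),
  (0, [515]),
  (0, [6142]),
  (0, [6142]),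
  (0, [6142]),
  (1, [1]),
  (1, [1]),
  (1, [1]),
  (2, [8]),
  (2, [8, 11, 10, 4, 3, 2, 1, 5, 4, 3, 2]),
  (2, [8, 10, 11, 2, 3, 4, 5, 1, 2, 3, 4]),
  (1, [1]),
  (1, [1]),
  (1, [1]),
  (1, [1]),
  (1, [1]),
  (1, [1]),
  (2, [0, 6, 1, 0, 10, 11, 0, 6, 2, 1, 0, 10, 7, 6, 3, 2, 1, 0, 1, 2, 3, 6, 7, 10, 0, 1, 2, 6, 0, 11, 10, 0, 1, 6, 0]),
  (2, [11, 10, 4, 3, 2, 1, 5, 4, 3, 2, 0, 6, 1, 0, 10, 11, 0, 6, 2, 1, 0, 10, 7, 6, 3, 2, 1, 0, 1, 2, 3, 6, 7, 10, 0, 1, 2, 6, 0, 11, 10, 0, 1, 6, 0]),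
  (2, [11, 10, 0, 6, 1, 0, 10, 11, 0, 6, 2, 1, 0, 10, 8, 7, 6, 3, 2, 1, 0, 1, 2, 3, 6, 7, 8, 10, 0, 1, 2, 6, 0, 11, 10, 0, 1, 6, 0, 10, 11]),
  (1, [1]),
  (1, [1]),
  (1, [1]),
  (1, [1]),
  (1, [1]),
  (1, [1]),
  (2, [10, 0, 6, 1, 0, 10, 11, 10, 0, 6, 2, 1, 0, 10, 8, 7, 6, 3, 2, 1, 0, 1, 2, 3, 6, 7, 8, 10, 0, 1, 2, 6, 0, 10, 11, 10, 0, 1, 6, 0, 10]),
  (2, [10, 0, 6, 1, 0, 10, 11, 10, 0, 6, 2, 1, 0, 10, 7, 6, 3, 2, 1, 0, 1, 2, 3, 6, 7, 10, 0, 1, 2, 6, 0, 10, 11, 10, 0, 1, 6, 0, 10]),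
  (2, [11, 10, 0, 6, 1, 0, 10, 11, 0, 6, 2, 1, 0, 10, 7, 6, 3, 2, 1, 0, 1, 2, 3, 6, 7, 10, 0, 1, 2, 6, 0, 11, 10, 0, 1, 6, 0, 4, 3, 2, 1, 5, 4, 3, 2]),
  (1, [1]),
  (1, [1]),
  (1, [1]),
  (1, [1]),
  (1, [1]),
  (1, [1]),
  (1, [1]),
  (1, [1]),
  (1, [1]),
  (1, [1]),
  (1, [1]),
  (1, [1]),
  (2, [0, 6, 1, 0, 10, 11, 0, 6, 2, 1, 0, 10, 8, 7, 6, 3, 2, 1, 0, 1, 2, 3, 6, 7, 8, 10, 0, 1, 2, 6, 0, 11, 10, 0, 1, 6, 0, 2, 3, 4, 5, 1, 2, 3, 4]),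
  (2, [8, 10, 11, 0, 6, 1, 0, 10, 11, 0, 6, 2, 1, 0, 10, 7, 6, 3, 2, 1, 0, 1, 2, 3, 6, 7, 10, 0, 1, 2, 6, 0, 11, 10, 0, 1, 6, 0, 10, 11, 8]),
  (2, [11, 10, 0, 6, 1, 0, 10, 11, 0, 6, 2, 1, 0, 10, 7, 6, 3, 2, 1, 0, 1, 2, 3, 6, 7, 10, 0, 1, 2, 6, 0, 11, 10, 0, 1, 6, 0]),
  (1, [1]),
  (1, [1]),
  (1, [1]),
  (1, [1]),
  (1, [1]),
  (1, [1]),
  (2, [0, 6, 1, 0, 10, 11, 0, 6, 2, 1, 0, 10, 7, 6, 3, 2, 1, 0, 1, 2, 3, 6, 7, 10, 0, 1, 2, 6, 0, 11, 10, 0, 1, 6, 0, 11, 10]),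
  (2, [10, 11, 0, 6, 1, 0, 10, 11, 0, 6, 2, 1, 0, 10, 7, 6, 3, 2, 1, 0, 1, 2, 3, 6, 7, 10, 0, 1, 2, 6, 0, 11, 10, 0, 1, 6, 0, 4, 3, 2, 1, 5, 4, 3, 2]),
  (2, [0, 6, 1, 0, 10, 11, 0, 6, 2, 1, 0, 10, 8, 7, 6, 3, 2, 1, 0, 1, 2, 3, 6, 7, 8, 10, 0, 1, 2, 6, 0, 11, 10, 0, 1, 6, 0, 11, 10]),
  (1, [1]),
  (1, [1]),
  (1, [1]),
  (1, [1]),
  (1, [1]),
  (1, [1]),
  (2, [8, 10, 11, 4, 3, 2, 1, 5, 4, 3, 2]),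
  (2, [8, 2, 3, 4, 5, 1, 2, 3, 4]),
  (2, [8, 11, 10]),
  (1, [1]),
  (1, [1]),
  (1, [1]),
  (2, [0, 6, 1, 0, 10, 11, 0, 6, 2, 1, 0, 10, 7, 6, 3, 2, 1, 0, 1, 2, 3, 6, 7, 10, 0, 1, 2, 6, 0, 11, 10, 0, 1, 6, 0, 4, 3, 2, 1, 5, 4, 3, 2]),
  (2, [8, 11, 10, 0, 6, 1, 0, 10, 11, 0, 6, 2, 1, 0, 10, 7, 6, 3, 2, 1, 0, 1, 2, 3, 6, 7, 10, 0, 1, 2, 6, 0, 11, 10, 0, 1, 6, 0, 11, 8, 10]),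
  (2, [11, 10, 0, 6, 1, 0, 10, 11, 0, 6, 2, 1, 0, 10, 7, 6, 3, 2, 1, 0, 1, 2, 3, 6, 7, 10, 0, 1, 2, 6, 0, 11, 10, 0, 1, 6, 0, 11, 10]),
  (1, [1]),
  (1, [1]),
  (1, [1]),
  (1, [1]),
  (1, [1]),
  (1, [1]),
  (2, [8, 11, 10, 2, 3, 4, 5, 1, 2, 3, 4]),
  (2, [8, 10, 11]),
  (2, [8, 4, 3, 2, 1, 5, 4, 3, 2]),
  (1, [1]),
  (1, [1]),
  (1, [1]),
  (1, [1]),
  (1, [1]),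
  (1, [1]),
  (2, [8, 0, 6, 1, 0, 10, 11, 0, 6, 2, 1, 0, 10, 7, 6, 3, 2, 1, 0, 1, 2, 3, 6, 7, 10, 0, 1, 2, 6, 0, 11, 10, 0, 1, 6, 0, 10, 8, 11]),
  (2, [10, 11, 0, 6, 1, 0, 10, 11, 0, 6, 2, 1, 0, 10, 7, 6, 3, 2, 1, 0, 1, 2, 3, 6, 7, 10, 0, 1, 2, 6, 0, 11, 10, 0, 1, 6, 0]),
  (2, [4, 3, 2, 1, 5, 4, 3, 2, 0, 6, 1, 0, 10, 11, 0, 6, 2, 1, 0, 10, 7, 6, 3, 2, 1, 0, 1, 2, 3, 6, 7, 10, 0, 1, 2, 6, 0, 11, 10, 0, 1, 6, 0]),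
  (1, [1]),
  (1, [1]),
  (1, [1]),
  (2, [8, 10, 11, 4, 3, 2, 1, 5, 4, 3, 2, 10, 0, 6, 1, 0, 10, 11, 0, 6, 2, 1, 0, 10, 9, 8, 7, 6, 3, 2, 1, 0, 1, 2, 3, 6, 7, 8, 9, 10, 0, 1, 2, 6, 0, 11, 10, 0, 1, 6, 0, 10]),
  (2, [8, 10, 11, 0, 6, 1, 0, 10, 11, 7, 8, 6, 7, 0, 6, 2, 1, 0, 10, 9, 8, 7, 6, 3, 2, 1, 0, 1, 2, 3, 6, 7, 8, 9, 10, 0, 1, 2, 6, 0, 7, 6, 8, 7, 11, 10, 0, 1, 6, 0]),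
  (2, [9, 8, 11, 0, 6, 1, 0, 10, 11, 0, 6, 2, 1, 0, 10, 7, 6, 3, 2, 1, 0, 1, 2, 3, 6, 7, 10, 0, 1, 2, 6, 0, 11, 10, 0, 1, 6, 0, 10, 9, 8, 9]),
  (1, [1]),
  (1, [1]),
  (1, [1]),
  (1, [1]),
  (1, [1]),
  (1, [1]),
  (2, [9, 8, 10, 0, 6, 1, 0, 10, 11, 0, 6, 2, 1, 0, 10, 7, 6, 3, 2, 1, 0, 1, 2, 3, 6, 7, 10, 0, 1, 2, 6, 0, 11, 10, 0, 1, 6, 0, 11, 10, 11, 9, 8, 9]),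
  (2, [9, 8, 10, 0, 6, 1, 0, 10, 11, 0, 6, 2, 1, 0, 10, 7, 6, 3, 2, 1, 0, 1, 2, 3, 6, 7, 10, 0, 1, 2, 6, 0, 11, 10, 0, 1, 6, 0, 11, 9, 8, 9, 4, 3, 2, 1, 5, 4, 3, 2]),
  (2, [0, 6, 1, 0, 10, 11, 7, 8, 6, 7, 0, 6, 2, 1, 0, 10, 9, 8, 7, 6, 3, 2, 1, 0, 1, 2, 3, 6, 7, 8, 9, 10, 0, 1, 2, 6, 0, 7, 6, 8, 7, 11, 10, 0, 1, 6, 0, 10, 8, 11]),
  (1, [1]),
  (1, [1]),
  (1, [1]),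
  (1, [1]),
  (1, [1]),
  (1, [1]),
  (2, [8, 2, 3, 4, 5, 1, 2, 3, 4, 0, 6, 1, 0, 10, 11, 10, 0, 6, 2, 1, 0, 10, 9, 8, 7, 6, 3, 2, 1, 0, 1, 2, 3, 6, 7, 8, 9, 10, 0, 1, 2, 6, 0, 10, 11, 10, 0, 1, 6, 0]),
  (2, [8, 11, 10, 0, 6, 1, 0, 10, 11, 10, 0, 6, 2, 1, 0, 10, 9, 8, 7, 6, 3, 2, 1, 0, 1, 2, 3, 6, 7, 8, 9, 10, 0, 1, 2, 6, 0, 10, 11, 10, 0, 1, 6, 0]),
  (2, [9, 8, 10, 4, 3, 2, 1, 5, 4, 3, 2, 0, 6, 1, 0, 10, 11, 0, 6, 2, 1, 0, 10, 7, 6, 3, 2, 1, 0, 1, 2, 3, 6, 7, 10, 0, 1, 2, 6, 0, 11, 10, 0, 1, 6, 0, 11, 9, 8, 9]),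
  (1, [1]),
  (1, [1]),
  (1, [1]),
  (1, [1]),
  (1, [1]),
  (1, [1]),
  (1, [1]),
  (1, [1]),
  (1, [1]),
  (1, [1]),
  (1, [1]),
  (1, [1]),
  (2, [8, 0, 6, 1, 0, 10, 11, 7, 8, 6, 7, 0, 6, 2, 1, 0, 10, 9, 8, 7, 6, 3, 2, 1, 0, 1, 2, 3, 6, 7, 8, 9, 10, 0, 1, 2, 6, 0, 7, 6, 8, 7, 11, 10, 0, 1, 6, 0, 11, 10]),
  (2, [8, 0, 6, 1, 0, 10, 11, 10, 0, 6, 2, 1, 0, 10, 9, 8, 7, 6, 3, 2, 1, 0, 1, 2, 3, 6, 7, 8, 9, 10, 0, 1, 2, 6, 0, 10, 11, 10, 0, 1, 6, 0]),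
  (2, [9, 8, 11, 0, 6, 1, 0, 10, 11, 0, 6, 2, 1, 0, 10, 7, 6, 3, 2, 1, 0, 1, 2, 3, 6, 7, 10, 0, 1, 2, 6, 0, 11, 10, 0, 1, 6, 0, 10, 9, 8, 9, 4, 3, 2, 1, 5, 4, 3, 2]),
  (1, [1]),
  (1, [1]),
  (1, [1]),
  (1, [1]),
  (1, [1]),
  (1, [1]),
  (2, [9, 8, 11, 4, 3, 2, 1, 5, 4, 3, 2, 0, 6, 1, 0, 10, 11, 0, 6, 2, 1, 0, 10, 7, 6, 3, 2, 1, 0, 1, 2, 3, 6, 7, 10, 0, 1, 2, 6, 0, 11, 10, 0, 1, 6, 0, 10, 9, 8, 9]),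
  (2, [8, 11, 10, 0, 6, 1, 0, 10, 11, 7, 8, 6, 7, 0, 6, 2, 1, 0, 10, 9, 8, 7, 6, 3, 2, 1, 0, 1, 2, 3, 6, 7, 8, 9, 10, 0, 1, 2, 6, 0, 7, 6, 8, 7, 11, 10, 0, 1, 6, 0]),
  (2, [8, 10, 0, 6, 1, 0, 10, 11, 0, 6, 2, 1, 0, 10, 9, 8, 7, 6, 3, 2, 1, 0, 1, 2, 3, 6, 7, 8, 9, 10, 0, 1, 2, 6, 0, 11, 10, 0, 1, 6, 0, 10]),
  (1, [1]),
  (1, [1]),
  (1, [1]),
  (1, [1]),
  (1, [1]),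
  (1, [1]),
  (2, [8, 11, 10, 0, 6, 1, 0, 10, 11, 10, 0, 6, 2, 1, 0, 10, 9, 8, 7, 6, 3, 2, 1, 0, 1, 2, 3, 6, 7, 8, 9, 10, 0, 1, 2, 6, 0, 10, 11, 10, 0, 1, 6, 0, 10, 11]),
  (2, [8, 11, 10, 0, 6, 1, 0, 10, 11, 10, 0, 6, 2, 1, 0, 10, 9, 8, 7, 6, 3, 2, 1, 0, 1, 2, 3, 6, 7, 8, 9, 10, 0, 1, 2, 6, 0, 10, 11, 10, 0, 1, 6, 0, 4, 3, 2, 1, 5, 4, 3, 2]),
  (2, [10, 11, 0, 6, 1, 0, 10, 11, 7, 8, 6, 7, 0, 6, 2, 1, 0, 10, 9, 8, 7, 6, 3, 2, 1, 0, 1, 2, 3, 6, 7, 8, 9, 10, 0, 1, 2, 6, 0, 7, 6, 8, 7, 11, 10, 0, 1, 6, 0, 10, 11, 8]),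
  (1, [1]),
  (1, [1]),
  (1, [1]),
  (2, [9, 8, 11, 0, 6, 1, 0, 10, 11, 0, 6, 2, 1, 0, 10, 7, 6, 3, 2, 1, 0, 1, 2, 3, 6, 7, 10, 0, 1, 2, 6, 0, 11, 10, 0, 1, 6, 0, 11, 10, 11, 9, 8, 9]),
  (2, [8, 0, 6, 1, 0, 10, 11, 10, 0, 6, 2, 1, 0, 10, 9, 8, 7, 6, 3, 2, 1, 0, 1, 2, 3, 6, 7, 8, 9, 10, 0, 1, 2, 6, 0, 10, 11, 10, 0, 1, 6, 0, 4, 3, 2, 1, 5, 4, 3, 2]),
  (2, [9, 8, 11, 0, 6, 1, 0, 10, 11, 0, 6, 2, 1, 0, 10, 7, 6, 3, 2, 1, 0, 1, 2, 3, 6, 7, 10, 0, 1, 2, 6, 0, 11, 10, 0, 1, 6, 0, 10, 9, 8, 9, 2, 3, 4, 5, 1, 2, 3, 4]),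
  (1, [1]),
  (1, [1]),
  (1, [1]),
  (1, [1]),
  (1, [1]),
  (1, [1]),
  (2, [8, 10, 0, 6, 1, 0, 10, 11, 10, 7, 8, 6, 7, 0, 6, 2, 1, 0, 10, 9, 8, 7, 6, 3, 2, 1, 0, 1, 2, 3, 6, 7, 8, 9, 10, 0, 1, 2, 6, 0, 7, 6, 8, 7, 10, 11, 10, 0, 1, 6, 0, 10]),
  (2, [9, 8, 10, 0, 6, 1, 0, 10, 11, 0, 6, 2, 1, 0, 10, 7, 6, 3, 2, 1, 0, 1, 2, 3, 6, 7, 10, 0, 1, 2, 6, 0, 11, 10, 0, 1, 6, 0, 11, 9, 8, 9]),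
  (2, [8, 4, 3, 2, 1, 5, 4, 3, 2, 0, 6, 1, 0, 10, 11, 10, 0, 6, 2, 1, 0, 10, 9, 8, 7, 6, 3, 2, 1, 0, 1, 2, 3, 6, 7, 8, 9, 10, 0, 1, 2, 6, 0, 10, 11, 10, 0, 1, 6, 0]),
  (1, [1]),
  (1, [1]),
  (1, [1]),
  (1, [1]),
  (1, [1]),
  (1, [1]),
  (2, [8, 4, 3, 2, 1, 5, 4, 3, 2, 10, 0, 6, 1, 0, 10, 11, 0, 6, 2, 1, 0, 10, 9, 8, 7, 6, 3, 2, 1, 0, 1, 2, 3, 6, 7, 8, 9, 10, 0, 1, 2, 6, 0, 11, 10, 0, 1, 6, 0, 10]),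
  (2, [8, 0, 6, 1, 0, 10, 11, 7, 8, 6, 7, 0, 6, 2, 1, 0, 10, 9, 8, 7, 6, 3, 2, 1, 0, 1, 2, 3, 6, 7, 8, 9, 10, 0, 1, 2, 6, 0, 7, 6, 8, 7, 11, 10, 0, 1, 6, 0]),
  (2, [8, 10, 11, 10, 0, 6, 1, 0, 10, 11, 0, 6, 2, 1, 0, 10, 9, 8, 7, 6, 3, 2, 1, 0, 1, 2, 3, 6, 7, 8, 9, 10, 0, 1, 2, 6, 0, 11, 10, 0, 1, 6, 0, 10]),
  (1, [1]),
  (1, [1]),
  (1, [1])]

end Cfsg.Agent.Lib.Fi24Fd4
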