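import Mathlib
import Cfsg.Agent.Lib.TcChain
import Cfsg.Agent.Lib.ChainCert

/-!
# Solving equations in a permutation group with a base, by stripping along Schreier vectors

A group of permutations of `ℕ` with a chain of stabilizers `H₀ ≥ H₁ ≥ … ≥ ⊥` and base points `b₀, b₁, …`. If the images
`z₀, z₁, …` of the base points under an unknown `y ∈ H₀` are known, then `y⁻¹` is computed as a product of tables of
elements, by walking along a Schreier vector at each level. Elements are only ever evaluated at the points needed.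

A table is a code `t : ℕ`, read by a function `lk : ℕ → ℕ → ℕ` (nothing is assumed about `lk`). All the recursive functions
here are written with the recursors, for the speed of reduction in the kernel.
-/

set_option autoImplicit false
set_option linter.unusedSectionVars false

namespace Cfsg.Agent.Lib.OutStrip

open Cfsg.Agent.Lib.ChainCert Cfsg.Agent.Lib.TcFacts Cfsg.Agent.Lib.TcBits Cfsg.Agent.Lib.TcChain

variable {lk : ℕ → ℕ → ℕ} {n : ℕ}

/-- evaluation of a product of tables, the head of the list is applied last -/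
noncomputable def ev (lk : ℕ → ℕ → ℕ) (L : List ℕ) : ℕ → ℕ :=
  List.rec (motive := fun _ => ℕ → ℕ) (fun p => p) (fun t _ ih p => lk t (ih p)) L

@[simp] theorem ev_nil (p : ℕ) : ev lk [] p = p := rfl
@[simp] theorem ev_cons (t : ℕ) (L : List ℕ) (p : ℕ) : ev lk (t :: L) p = lk t (ev lk L p) := rfl

/-- `t` is the table of `x` on the points below `n` -/
structure RepT (lk : ℕ → ℕ → ℕ) (n : ℕ) (x : Equiv.Perm ℕ) (t : ℕ) : Prop where
  lt : ∀ i, i < n → x i < n
  eq : ∀ i, i < n → x i = lk t i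

/-- `L` evaluates `x` on the points below `n` -/
structure RepL (lk : ℕ → ℕ → ℕ) (n : ℕ) (x : Equiv.Perm ℕ) (L : List ℕ) : Prop where
  lt : ∀ i, i < n → x i < n
  eq : ∀ i, i < n → x i = ev lk L i

theorem repL_one : RepL lk n 1 [] := ⟨fun _ h => h, fun _ _ => rfl⟩

theorem RepL.cons {x y : Equiv.Perm ℕ} {t : ℕ} {L : List ℕ} (hx : RepL lk n x L) (hy : RepT lk n y t) :
    RepL lk n (y * x) (t :: L) := by
  refine ⟨fun i hi => hy.lt _ (hx.lt i hi), fun i hi => ?_⟩
  rw [Equiv.Perm.mul_apply, hy.eq _ (hx.lt i hi), hx.eq i hi]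
  rfl

theorem RepT.toL {x : Equiv.Perm ℕ} {t : ℕ} (hx : RepT lk n x t) : RepL lk n x [t] := by
  simpa using repL_one.cons hx

theorem ev_append (L₁ L₂ : List ℕ) (p : ℕ) : ev lk (L₁ ++ L₂) p = ev lk L₁ (ev lk L₂ p) := by
  induction L₁ with
  | nil => rfl
  | cons t L ih => simp [ih]

theorem RepL.append {x y : Equiv.Perm ℕ} {L₁ L₂ : List ℕ} (hx : RepL lk n x L₁) (hy : RepL lk n y L₂) :
    RepL lk n (x * y) (L₁ ++ L₂) := by
  refine ⟨fun i hi => hx.lt _ (hy.lt i hi), fun i hi => ?_⟩
  rw [Equiv.Perm.mul_apply, hx.eq _ (hy.lt i hi), hy.eq i hi, ev_append]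

theorem RepT.pow {x : Equiv.Perm ℕ} {t : ℕ} (hx : RepT lk n x t) : ∀ k, RepL lk n (x ^ k) (List.replicate k t)
  | 0 => by simpa using repL_one
  | k + 1 => by
    rw [pow_succ', List.replicate_succ]
    exact (RepT.pow hx k).cons hx

/-- the fast loop over `P lo, …, P (lo + 2^k - 1)` -/
noncomputable def allN (P : ℕ → Bool) (k : ℕ) : ℕ → Bool :=
  Nat.rec (motive := fun _ => ℕ → Bool) (fun lo => P lo)
    (fun k ih lo => cond (ih lo) (letN (Nat.add lo (Nat.shiftLeft 1 k)) ih) false) k

theorem of_allN (P : ℕ → Bool) : ∀ (k lo : ℕ), allN P k lo = true → ∀ i, lo ≤ i → i < lo + 2 ^ k → P i = true := by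
  intro k
  induction k with
  | zero =>
    intro lo h i h1 h2
    have : i = lo := by omega
    subst this
    exact h
  | succ k ih =>
    intro lo h i h1 h2
    have h3 : allN P (k + 1) lo = cond (allN P k lo) (letN (Nat.add lo (Nat.shiftLeft 1 k)) (allN P k)) false := rfl
    rw [h3] at h
    cases h4 : allN P k lo with
    | false => rw [h4] at h; simp at h
    | true =>
      rw [h4] at h
      simp only [cond_true] at h
      rw [letN_eq] at h
      have e : Nat.add lo (Nat.shiftLeft 1 k) = lo + 2 ^ k := by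
        show lo + (1 <<< k) = _
        rw [Nat.shiftLeft_eq, one_mul]
      rw [e] at h
      by_cases h5 : i < lo + 2 ^ k
      · exact ih lo h4 i h1 h5
      · refine ih _ h i (by omega) ?_
        rw [pow_succ] at h2
        omega

/-- a level: base point, a mask containing the orbit, a Schreier vector, tables of the letters -/
structure Lev where
  b : ℕ
  O : ℕ
  sv : ℕ
  ts : List ℕ

/-- continuation with the element of a list -/
noncomputable def nthK (ts : List ℕ) : ℕ → (ℕ → Bool) → Bool :=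
  List.rec (motive := fun _ => ℕ → (ℕ → Bool) → Bool) (fun _ _ => false)
    (fun t _ ih i k => Nat.rec (motive := fun _ => Bool) (k t) (fun j _ => ih j k) i) ts

theorem nthK_spec {ts : List ℕ} {i : ℕ} {k : ℕ → Bool} (h : nthK ts i k = true) : ∃ t ∈ ts, k t = true := by
  induction ts generalizing i with
  | nil => exact absurd h (by simp [nthK])
  | cons a ts ih =>
    cases i with
    | zero => exact ⟨a, List.mem_cons_self, h⟩
    | succ i =>
      obtain ⟨t, ht, h2⟩ := ih (i := i) h
      exact ⟨t, List.mem_cons_of_mem _ ht, h2⟩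

/-- the walk along a Schreier vector -/
noncomputable def walk (lk lkS : ℕ → ℕ → ℕ) (b sv : ℕ) (ts : List ℕ) (fuel : ℕ) : ℕ → List ℕ → (List ℕ → Bool) → Bool :=
  Nat.rec (motive := fun _ => ℕ → List ℕ → (List ℕ → Bool) → Bool)
    (fun p L k => cond (Nat.beq p b) (k L) false)
    (fun _ ih p L k => cond (Nat.beq p b) (k L)
      (nthK ts (lkS sv p) fun t => letN (lk t p) fun p' => ih p' (t :: L) k)) fuel

theorem walk_spec {lkS : ℕ → ℕ → ℕ} {b sv : ℕ} {ts : List ℕ} {H : Subgroup (Equiv.Perm ℕ)}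
    (hts : ∀ t ∈ ts, ∃ s ∈ H, RepT lk n s t) (f p : ℕ) (L : List ℕ) (k : List ℕ → Bool)
    (x : Equiv.Perm ℕ) (hx : RepL lk n x L) (hp : p < n) (h : walk lk lkS b sv ts f p L k = true) :
    ∃ g ∈ H, ∃ L', RepL lk n (g * x) L' ∧ g p = b ∧ k L' = true := by
  induction f generalizing p L x with
  | zero =>
    change cond (Nat.beq p b) (k L) false = true at h
    cases hb : Nat.beq p b with
    | false => simp [hb] at h
    | true =>
      rw [hb] at h
      exact ⟨1, H.one_mem, L, by simpa using hx, by simpa using Nat.eq_of_beq_eq_true hb, h⟩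
  | succ f ih =>
    change cond (Nat.beq p b) (k L) (nthK ts (lkS sv p) fun t => letN (lk t p) fun p' => walk lk lkS b sv ts f p' (t :: L) k)
      = true at h
    cases hb : Nat.beq p b with
    | true =>
      rw [hb] at h
      exact ⟨1, H.one_mem, L, by simpa using hx, by simpa using Nat.eq_of_beq_eq_true hb, h⟩
    | false =>
      rw [hb] at h
      obtain ⟨t, ht, h2⟩ := nthK_spec h
      rw [letN_eq] at h2
      obtain ⟨s, hs, hrep⟩ := hts t ht
      have hp' : lk t p < n := by
        rw [← hrep.eq p hp]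
        exact hrep.lt p hp
      obtain ⟨g, hg, L', h3, h4, h5⟩ := ih _ _ _ (hx.cons hrep) hp' h2
      refine ⟨g * s, H.mul_mem hg hs, L', ?_, ?_, h5⟩
      · rw [mul_assoc]
        exact h3
      · rw [Equiv.Perm.mul_apply, hrep.eq p hp, h4]

/-- the bit of a mask -/
def bitB (O p : ℕ) : Bool := Nat.beq (Nat.land (Nat.shiftRight O p) 1) 1

theorem bitB_eq (O p : ℕ) : bitB O p = O.testBit p := by
  have h0 : Nat.land (Nat.shiftRight O p) 1 = (O >>> p) &&& 1 := rfl
  have h1 : (O >>> p) &&& 1 = (O >>> p) % 2 := Nat.and_one_is_mod _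
  have h2 : O.testBit p = decide ((O >>> p) % 2 = 1) := by
    rw [Nat.testBit, Nat.and_comm, h1]
    rcases Nat.mod_two_eq_zero_or_one (O >>> p) with h | h <;> simp [h, bne]
  rw [bitB, h0, h1, h2]
  rcases Nat.mod_two_eq_zero_or_one (O >>> p) with h | h <;> rw [h] <;> rfl

/-- the strip along the levels -/
noncomputable def go (lk lkS : ℕ → ℕ → ℕ) (fuel : ℕ) (Ls : List Lev) : List ℕ → List ℕ → (List ℕ → Bool) → Bool :=
  List.rec (motive := fun _ => List ℕ → List ℕ → (List ℕ → Bool) → Bool) (fun _ L k => k L)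
    (fun lv _ ih zs L k =>
      List.rec (motive := fun _ => Bool) false
        (fun z zs' _ => letN (ev lk L z) fun p =>
          cond (bitB lv.O p) (walk lk lkS lv.b lv.sv lv.ts fuel p L fun L' => ih zs' L' k) true) zs) Ls

/-- A chain of stabilizers with base points, masks and tables of letters. -/
inductive Ch (lk : ℕ → ℕ → ℕ) (n : ℕ) : Subgroup (Equiv.Perm ℕ) → List Lev → Prop
  | nil : Ch lk n ⊥ []
  | cons {H H' : Subgroup (Equiv.Perm ℕ)} {lv : Lev} {Ls : List Lev}
      (hO : ∀ z ∈ H, lv.O.testBit (z lv.b) = true)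
      (hst : ∀ z ∈ H, z lv.b = lv.b → z ∈ H')
      (hts : ∀ t ∈ lv.ts, ∃ s ∈ H, RepT lk n s t)
      (rest : Ch lk n H' Ls) : Ch lk n H (lv :: Ls)

theorem go_spec {lkS : ℕ → ℕ → ℕ} {fuel : ℕ} {H : Subgroup (Equiv.Perm ℕ)} {Ls : List Lev} (hC : Ch lk n H Ls)
    (y : Equiv.Perm ℕ) :
    ∀ (zs L : List ℕ) (k : List ℕ → Bool) (x : Equiv.Perm ℕ), x * y ∈ H → RepL lk n x L →
      zs = Ls.map (fun lv => y lv.b) → (∀ z ∈ zs, z < n) → go lk lkS fuel Ls zs L k = true →
      ∃ L', RepL lk n y⁻¹ L' ∧ k L' = true := by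
  induction hC with
  | nil =>
    intro zs L k x hxy hx _ _ h
    have h1 : x = y⁻¹ := eq_inv_of_mul_eq_one_left (Subgroup.mem_bot.mp hxy)
    subst h1
    exact ⟨L, hx, h⟩
  | @cons H H' lv Ls hO hst hts rest ih =>
    intro zs L k x hxy hx hzs hlt h
    rw [List.map_cons] at hzs
    subst hzs
    change letN (ev lk L (y lv.b)) (fun p =>
      cond (bitB lv.O p) (walk lk lkS lv.b lv.sv lv.ts fuel p L fun L' => go lk lkS fuel Ls (Ls.map fun lv => y lv.b) L' k) true) = true at h
    rw [letN_eq] at h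
    have hz : y lv.b < n := hlt _ List.mem_cons_self
    have hp : ev lk L (y lv.b) = (x * y) lv.b := by
      rw [Equiv.Perm.mul_apply, hx.eq _ hz]
    have hO' := hO _ hxy
    rw [← hp] at hO'
    rw [bitB_eq, hO'] at h
    simp only [cond_true] at h
    obtain ⟨g, hg, L', h1, h2, h3⟩ := walk_spec hts fuel _ L _ x hx (by
      rw [hp, Equiv.Perm.mul_apply]
      exact hx.lt _ hz) h
    have h4 : (g * x) * y ∈ H' := by
      apply hst _ (by rw [mul_assoc]; exact H.mul_mem hg hxy)
      rw [hp] at h2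
      rw [mul_assoc, Equiv.Perm.mul_apply, h2]
    exact ih _ _ k _ h4 h1 rfl (fun z hz2 => hlt z (List.mem_cons_of_mem _ hz2)) h3

/-- An element fixing the base is trivial. -/
theorem eq_one_of_base {H : Subgroup (Equiv.Perm ℕ)} {Ls : List Lev} (hC : Ch lk n H Ls) :
    ∀ z ∈ H, (∀ lv ∈ Ls, z lv.b = lv.b) → z = 1 := by
  induction hC with
  | nil =>
    intro z hz _
    exact Subgroup.mem_bot.mp hz
  | @cons H H' lv Ls hO hst hts rest ih =>
    intro z hz hf
    exact ih z (hst z hz (hf lv List.mem_cons_self)) fun l hl => hf l (List.mem_cons_of_mem _ hl)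

/-- the base points -/
def baseOf (Ls : List Lev) : List ℕ := Ls.map Lev.b

/-- Two elements agreeing on the base are equal. -/
theorem eq_of_base {H : Subgroup (Equiv.Perm ℕ)} {Ls : List Lev} (hC : Ch lk n H Ls) {x y : Equiv.Perm ℕ}
    (hx : x ∈ H) (hy : y ∈ H) (h : ∀ b ∈ baseOf Ls, x b = y b) : x = y := by
  have h1 := eq_one_of_base hC (y⁻¹ * x) (H.mul_mem (H.inv_mem hy) hx) (by
    intro lv hlv
    rw [Equiv.Perm.mul_apply, h lv.b (List.mem_map_of_mem hlv)]
    simp)
  exact (inv_mul_eq_one.mp h1).symm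

/-- the agreement of two products on the base -/
noncomputable def agreeB (lk : ℕ → ℕ → ℕ) (base : List ℕ) (L A : List ℕ) : Bool :=
  base.all fun b => Nat.beq (ev lk L b) (ev lk A b)

theorem eq_of_agree {H : Subgroup (Equiv.Perm ℕ)} {Ls : List Lev} (hC : Ch lk n H Ls) {x y : Equiv.Perm ℕ}
    (hx : x ∈ H) (hy : y ∈ H) {L A : List ℕ} (hL : RepL lk n x L) (hA : RepL lk n y A)
    (hbase : ∀ b ∈ baseOf Ls, b < n) (h : agreeB lk (baseOf Ls) L A = true) : x = y := by
  apply eq_of_base hC hx hy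
  intro b hb
  simp only [agreeB, List.all_eq_true] at h
  rw [hL.eq b (hbase b hb), hA.eq b (hbase b hb)]
  exact Nat.eq_of_beq_eq_true (h b hb)

/-- the equation `w A = B w` on the base -/
noncomputable def commB (lk : ℕ → ℕ → ℕ) (base : List ℕ) (L A B : List ℕ) : Bool :=
  base.all fun b => Nat.beq (ev lk L (ev lk A b)) (ev lk B (ev lk L b))

theorem commB_of {base : List ℕ} {w a b' : Equiv.Perm ℕ} {L A B : List ℕ} (hbase : ∀ b ∈ base, b < n)
    (hL : RepL lk n w L) (hA : RepL lk n a A) (hB : RepL lk n b' B) (hc : w * a = b' * w) :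
    commB lk base L A B = true := by
  rw [commB, List.all_eq_true]
  intro b hb
  have hbn := hbase b hb
  have h1 := congrArg (fun z : Equiv.Perm ℕ => z b) hc
  simp only [Equiv.Perm.mul_apply] at h1
  have h2 : w (a b) = ev lk L (ev lk A b) := by
    rw [hL.eq _ (hA.lt b hbn), hA.eq b hbn]
  have h3 : b' (w b) = ev lk B (ev lk L b) := by
    rw [hB.eq _ (hL.lt b hbn), hL.eq b hbn]
  rw [← h2, ← h3, h1]
  exact Nat.beq_refl _

theorem eq_of_commB {H : Subgroup (Equiv.Perm ℕ)} {Ls : List Lev} (hC : Ch lk n H Ls) {w a b' : Equiv.Perm ℕ}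
    {L A B : List ℕ} (hbase : ∀ b ∈ baseOf Ls, b < n) (hw : w ∈ H) (ha : a ∈ H) (hb' : b' ∈ H)
    (hL : RepL lk n w L) (hA : RepL lk n a A) (hB : RepL lk n b' B)
    (h : commB lk (baseOf Ls) L A B = true) : w * a = b' * w := by
  apply eq_of_base hC (H.mul_mem hw ha) (H.mul_mem hb' hw)
  intro b hb
  have hbn := hbase b hb
  simp only [commB, List.all_eq_true] at h
  have h1 := Nat.eq_of_beq_eq_true (h b hb)
  rw [Equiv.Perm.mul_apply, Equiv.Perm.mul_apply, hL.eq _ (hA.lt b hbn), hA.eq b hbn,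
    hB.eq _ (hL.lt b hbn), hL.eq b hbn]
  exact h1

/-! ### words in letters -/

/-- a product of letters in a group -/
def prodG {Γ : Type*} [Monoid Γ] (s : ℕ → Γ) (R : List ℕ) : Γ := (R.map s).prod

theorem prodG_nil {Γ : Type*} [Monoid Γ] (s : ℕ → Γ) : prodG s [] = 1 := rfl

theorem prodG_cons {Γ : Type*} [Monoid Γ] (s : ℕ → Γ) (e : ℕ) (R : List ℕ) :
    prodG s (e :: R) = s e * prodG s R := by simp [prodG]

theorem prodG_append {Γ : Type*} [Monoid Γ] (s : ℕ → Γ) (R R' : List ℕ) :
    prodG s (R ++ R') = prodG s R * prodG s R' := by simp [prodG]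

theorem map_prodG {Γ Δ : Type*} [Monoid Γ] [Monoid Δ] (φ : Γ →* Δ) (s : ℕ → Γ) (R : List ℕ) :
    φ (prodG s R) = prodG (fun e => φ (s e)) R := by
  unfold prodG
  rw [map_list_prod, List.map_map]
  rfl

theorem prodG_conj {Γ : Type*} [Group Γ] (c : Γ) (s : ℕ → Γ) (R : List ℕ) :
    prodG (fun e => c * s e * c⁻¹) R = c * prodG s R * c⁻¹ := by
  have h := map_prodG (MulAut.conj c).toMonoidHom s R
  simpa [MulAut.conj_apply] using h.symm

theorem prodG_mem {Γ : Type*} [Group Γ] {K : Subgroup Γ} {s : ℕ → Γ} (hs : ∀ e, s e ∈ K) (R : List ℕ) :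
    prodG s R ∈ K := by
  induction R with
  | nil => exact K.one_mem
  | cons e R ih =>
    rw [prodG_cons]
    exact K.mul_mem (hs e) ih

/-- evaluation of a word in given letters, the head of the word is applied last -/
noncomputable def evw (lk : ℕ → ℕ → ℕ) (S : ℕ → List ℕ) (R : List ℕ) : ℕ → ℕ :=
  List.rec (motive := fun _ => ℕ → ℕ) (fun p => p) (fun e _ ih p => ev lk (S e) (ih p)) R

@[simp] theorem evw_nil (S : ℕ → List ℕ) (p : ℕ) : evw lk S [] p = p := rfl
@[simp] theorem evw_cons (S : ℕ → List ℕ) (e : ℕ) (R : List ℕ) (p : ℕ) :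
    evw lk S (e :: R) p = ev lk (S e) (evw lk S R p) := rfl

theorem evw_spec {s : ℕ → Equiv.Perm ℕ} {S : ℕ → List ℕ} (h : ∀ e, RepL lk n (s e) (S e)) (R : List ℕ) :
    ∀ i, i < n → prodG s R i < n ∧ prodG s R i = evw lk S R i := by
  induction R with
  | nil => intro i hi; exact ⟨hi, rfl⟩
  | cons e R ih =>
    intro i hi
    obtain ⟨h1, h2⟩ := ih i hi
    rw [prodG_cons, Equiv.Perm.mul_apply, evw_cons, ← h2]
    exact ⟨(h e).lt _ h1, (h e).eq _ h1⟩

/-- the check that a word in given letters acts trivially on the base -/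
noncomputable def relB (lk : ℕ → ℕ → ℕ) (S : ℕ → List ℕ) (base : List ℕ) (R : List ℕ) : Bool :=
  base.all fun b => Nat.beq (evw lk S R b) b

theorem relB_of {s : ℕ → Equiv.Perm ℕ} {S : ℕ → List ℕ} (h : ∀ e, RepL lk n (s e) (S e)) {base : List ℕ}
    (hbase : ∀ b ∈ base, b < n) {R : List ℕ} (hR : prodG s R = 1) : relB lk S base R = true := by
  rw [relB, List.all_eq_true]
  intro b hb
  have h1 := (evw_spec h R b (hbase b hb)).2
  rw [hR] at h1
  rw [← h1]
  exact Nat.beq_refl _

theorem one_of_relB {H : Subgroup (Equiv.Perm ℕ)} {Ls : List Lev} (hC : Ch lk n H Ls) {s : ℕ → Equiv.Perm ℕ}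
    {S : ℕ → List ℕ} (h : ∀ e, RepL lk n (s e) (S e)) (hs : ∀ e, s e ∈ H) (hbase : ∀ b ∈ baseOf Ls, b < n)
    {R : List ℕ} (hr : relB lk S (baseOf Ls) R = true) : prodG s R = 1 := by
  apply eq_one_of_base hC _ (prodG_mem hs R)
  intro lv hlv
  have hb := List.mem_map_of_mem (f := Lev.b) hlv
  have h1 := (evw_spec h R lv.b (hbase _ hb)).2
  simp only [relB, List.all_eq_true] at hr
  rw [h1]
  exact Nat.eq_of_beq_eq_true (hr _ hb)

/-! ### the search over the image of the first base point -/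

/-- the images of a point under the powers of a table -/
noncomputable def zsOf (lk : ℕ → ℕ → ℕ) (t m : ℕ) : ℕ → List ℕ :=
  Nat.rec (motive := fun _ => ℕ → List ℕ) (fun _ => []) (fun _ ih c => c :: ih (lk t c)) m

@[simp] theorem zsOf_zero (t c : ℕ) : zsOf lk t 0 c = [] := rfl
@[simp] theorem zsOf_succ (t m c : ℕ) : zsOf lk t (m + 1) c = c :: zsOf lk t m (lk t c) := rfl

/-- the test of one value of the image of the first base point -/
noncomputable def srchC (lk lkS : ℕ → ℕ → ℕ) (fuel n m : ℕ) (Ls : List Lev) (t : ℕ) (test : List ℕ → Bool) (c : ℕ) : Bool :=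
  cond (Nat.blt c n) (go lk lkS fuel Ls (zsOf lk t m c) [] test) true

theorem zsOf_map {y X : Equiv.Perm ℕ} {t : ℕ} (hX : RepT lk n X t) (hc : y * X = X * y) (hy : ∀ i, i < n → y i < n) :
    ∀ (m b : ℕ), b < n → (zsOf lk t m b).map y = zsOf lk t m (y b) := by
  intro m
  induction m with
  | zero => intro b _; rfl
  | succ m ih =>
    intro b hb
    simp only [zsOf_succ, List.map_cons]
    have h1 : y (lk t b) = lk t (y b) := by
      rw [← hX.eq b hb, ← hX.eq _ (hy b hb)]
      have := congrArg (fun z : Equiv.Perm ℕ => z b) hc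
      simpa [Equiv.Perm.mul_apply] using this
    rw [ih _ (by rw [← hX.eq b hb]; exact hX.lt b hb), h1]

theorem zsOf_lt {X : Equiv.Perm ℕ} {t : ℕ} (hX : RepT lk n X t) :
    ∀ (m b : ℕ), b < n → ∀ z ∈ zsOf lk t m b, z < n := by
  intro m
  induction m with
  | zero => intro b _ z hz; simp at hz
  | succ m ih =>
    intro b hb z hz
    simp only [zsOf_succ, List.mem_cons] at hz
    rcases hz with rfl | hz
    · exact hb
    · exact ih _ (by rw [← hX.eq b hb]; exact hX.lt b hb) z hz

/-- The search along a chain whose base is an orbit segment of `X`. -/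
theorem srch_spec {lkS : ℕ → ℕ → ℕ} {fuel b₀ t : ℕ} {H : Subgroup (Equiv.Perm ℕ)} {Ls : List Lev} (hC : Ch lk n H Ls)
    {X : Equiv.Perm ℕ} (hX : RepT lk n X t) (hb₀ : b₀ < n)
    (hpath : baseOf Ls = zsOf lk t Ls.length b₀) {test : List ℕ → Bool}
    (hs : ∀ c, c < n → srchC lk lkS fuel n Ls.length Ls t test c = true) {y : Equiv.Perm ℕ} (hy : y ∈ H)
    (hlt : ∀ i, i < n → y i < n) (hc : y * X = X * y) :
    ∃ L, RepL lk n y⁻¹ L ∧ test L = true := by
  have hyb := hlt b₀ hb₀
  have h1 := hs (y b₀) hyb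
  have h2 : Nat.blt (y b₀) n = true := by
    rw [Nat.blt_eq]
    exact hyb
  rw [srchC, h2] at h1
  simp only [cond_true] at h1
  have hz : zsOf lk t Ls.length (y b₀) = Ls.map fun lv => y lv.b := by
    rw [← zsOf_map hX hc hlt _ _ hb₀, ← hpath, baseOf, List.map_map]
    rfl
  exact go_spec hC y _ [] test 1 (by simpa using hy) repL_one hz (zsOf_lt hX _ _ hyb) h1

/-! ### packed tables -/

/-- the read of a field of width `W` in a table cut into chunks of `CS` fields -/
noncomputable def lkF (W CS A CM M T i : ℕ) : ℕ :=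
  letN (Nat.div i CS) fun h =>
    Nat.land (Nat.shiftRight (Nat.land (Nat.shiftRight T (Nat.mul A h)) CM) (Nat.mul W (Nat.mod i CS))) M

theorem land_eq_and (a b : ℕ) : Nat.land a b = a &&& b := rfl
theorem shr_eq (a b : ℕ) : Nat.shiftRight a b = a >>> b := rfl
theorem mul_eq (a b : ℕ) : Nat.mul a b = a * b := rfl
theorem add_eq (a b : ℕ) : Nat.add a b = a + b := rfl
theorem div_eq (a b : ℕ) : Nat.div a b = a / b := rfl
theorem mod_eq (a b : ℕ) : Nat.mod a b = a % b := rfl

theorem lkF_testBit {W CS T i j : ℕ} (hCS : 0 < CS) :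
    (lkF W CS (W * CS) (2 ^ (W * CS) - 1) (2 ^ W - 1) T i).testBit j =
      (decide (j < W) && T.testBit (W * i + j)) := by
  rw [lkF, letN_eq]
  simp only [land_eq_and, shr_eq, mul_eq, div_eq, mod_eq]
  rw [Nat.testBit_and, Nat.testBit_two_pow_sub_one, Nat.testBit_shiftRight, Nat.testBit_and,
    Nat.testBit_two_pow_sub_one, Nat.testBit_shiftRight]
  by_cases hj : j < W
  · have h1 : i % CS < CS := Nat.mod_lt _ hCS
    have h2 : W * (i % CS) + j < W * CS := by
      have : W * (i % CS + 1) ≤ W * CS := Nat.mul_le_mul_left _ h1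
      rw [Nat.mul_succ] at this
      omega
    have h3 : W * CS * (i / CS) + (W * (i % CS) + j) = W * i + j := by
      have h4 : CS * (i / CS) + i % CS = i := Nat.div_add_mod i CS
      calc W * CS * (i / CS) + (W * (i % CS) + j) = W * (CS * (i / CS) + i % CS) + j := by ring
        _ = _ := by rw [h4]
    simp [hj, h2, h3]
  · simp [hj]

/-- the number `1 + 2^E + 2^(2E) + … ` with `K` terms -/
def repU (E : ℕ) : ℕ → ℕ
  | 0 => 0
  | K + 1 => 2 ^ E * repU E K + 1

/-- The copies of a number in a product with `repU`. -/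
theorem testBit_mul_repU {E x : ℕ} (hx : x < 2 ^ E) (K k r : ℕ) (hr : r < E) :
    (x * repU E K).testBit (E * k + r) = (decide (k < K) && x.testBit r) := by
  induction K generalizing k with
  | zero => simp [repU]
  | succ K ih =>
    have e : x * repU E (K + 1) = 2 ^ E * (x * repU E K) + x := by
      simp only [repU]
      ring
    rw [e, Nat.testBit_two_pow_mul_add _ hx]
    cases k with
    | zero =>
      simp [hr]
    | succ k =>
      have h1 : ¬ (E * (k + 1) + r < E) := by
        have : E * (k + 1) = E * k + E := by ring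
        omega
      rw [if_neg h1]
      have h2 : E * (k + 1) + r - E = E * k + r := by
        have : E * (k + 1) = E * k + E := by ring
        omega
      rw [h2, ih k]
      simp

/-- one plane of a table against a number: block by block -/
noncomputable def chkPl (W B CS NB KB NH KH MUL MSK BM CT CS' T S j : ℕ) : Bool :=
  allN (fun h => cond (Nat.blt h NH)
    (letN (Nat.land (Nat.shiftRight T (Nat.mul (Nat.mul W CS) h)) CT) fun C =>
      letN (Nat.land (Nat.shiftRight S (Nat.mul CS h)) CS') fun D =>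
        allN (fun b => cond (Nat.blt b NB)
          (Nat.beq (Nat.land (Nat.shiftRight C (Nat.add (Nat.mul (Nat.mul W B) b) j)) MSK)
            (Nat.land (Nat.mul (Nat.land (Nat.shiftRight D (Nat.mul B b)) BM) MUL) MSK)) true) KB 0) true) KH 0

/-- A plane of a table. -/
theorem testBit_of_chkPl {W B CS NB KB NH KH T S j : ℕ} (hW : W = B + 1) (hCS : CS = B * NB) (hNB : NB ≤ 2 ^ KB)
    (hNH : NH ≤ 2 ^ KH) (hj : j < W)
    (h : chkPl W B CS NB KB NH KH (repU B B) (repU W B) (2 ^ B - 1) (2 ^ (W * CS) - 1) (2 ^ CS - 1) T S j = true)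
    {p : ℕ} (hp : p < NH * CS) : T.testBit (W * p + j) = S.testBit p := by
  have hB0 : 0 < CS := by
    by_contra h0
    have : CS = 0 := by omega
    subst this
    simp at hp
  have hB : 0 < B := by
    rcases Nat.eq_zero_or_pos B with h0 | h0
    · subst h0; simp at hCS; omega
    · exact h0
  set h0 := p / CS with hh0
  set q := p % CS with hq
  have hq1 : q < CS := Nat.mod_lt _ hB0
  have hh1 : h0 < NH := by
    rw [hh0]
    exact Nat.div_lt_of_lt_mul (by rwa [mul_comm] at hp)
  set b := q / B with hb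
  set r := q % B with hr
  have hr1 : r < B := Nat.mod_lt _ hB
  have hb1 : b < NB := by
    rw [hb]
    apply Nat.div_lt_of_lt_mul
    rw [← hCS]
    exact hq1
  have hpe : p = CS * h0 + (B * b + r) := by
    rw [hb, hr, Nat.div_add_mod, hq, hh0, Nat.div_add_mod]
  have h1 := of_allN _ KH 0 h h0 (Nat.zero_le _) (by omega)
  have hbl : Nat.blt h0 NH = true := by rw [Nat.blt_eq]; exact hh1
  rw [hbl] at h1
  simp only [cond_true] at h1
  rw [letN_eq, letN_eq] at h1
  have h2 := of_allN _ KB 0 h1 b (Nat.zero_le _) (by omega)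
  have hbl2 : Nat.blt b NB = true := by rw [Nat.blt_eq]; exact hb1
  rw [hbl2] at h2
  simp only [cond_true] at h2
  have h3 := Nat.eq_of_beq_eq_true h2
  simp only [land_eq_and, shr_eq, mul_eq, add_eq] at h3
  have h4 := congrArg (fun z => z.testBit (W * r)) h3
  simp only [Nat.testBit_and] at h4
  -- the mask at the positions of the fields
  have hM : (repU W B).testBit (W * r) = true := by
    have h5 := testBit_mul_repU (E := W) (x := 1) (by
      have : 0 < W := by omega
      exact Nat.one_lt_two_pow (by omega)) B r 0 (by omega)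
    rw [one_mul, add_zero] at h5
    rw [h5]
    simp [hr1]
  rw [hM, Bool.and_true, Bool.and_true] at h4
  -- the multiplication
  have hW2 : W * r = B * r + r := by rw [hW]; ring
  have hx : ((S >>> (CS * h0)) &&& (2 ^ CS - 1)) >>> (B * b) &&& (2 ^ B - 1) < 2 ^ B := by
    apply Nat.and_lt_two_pow
    have : 0 < 2 ^ B := by positivity
    omega
  rw [hW2, testBit_mul_repU hx B r r hr1] at h4
  have h6 : B * b + r < CS := by
    have : B * (b + 1) ≤ B * NB := Nat.mul_le_mul_left _ hb1
    rw [Nat.mul_succ, ← hCS] at this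
    omega
  have h7 : W * (B * b + r) + j < W * CS := by
    have : W * (B * b + r + 1) ≤ W * CS := Nat.mul_le_mul_left _ h6
    rw [Nat.mul_succ] at this
    omega
  have h8 : W * B * b + j + (B * r + r) = W * (B * b + r) + j := by
    rw [← hW2]
    ring
  simp only [Nat.testBit_and, Nat.testBit_shiftRight, Nat.testBit_two_pow_sub_one, h8] at h4
  simp only [hr1, h6, h7, decide_true, Bool.and_true] at h4
  have e1 : W * CS * h0 + (W * (B * b + r) + j) = W * p + j := by
    rw [hpe]
    ring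
  have e2 : CS * h0 + (B * b + r) = p := hpe.symm
  rw [e1, e2] at h4
  exact h4

/-! ### a table of a word -/

/-- a read of a table -/
def ReadsT (lk : ℕ → ℕ → ℕ) (W : ℕ) : Prop :=
  ∀ T i j, (lk T i).testBit j = (decide (j < W) && T.testBit (W * i + j))

theorem readsT_lkF {W CS : ℕ} (hCS : 0 < CS) : ReadsT (lkF W CS (W * CS) (2 ^ (W * CS) - 1) (2 ^ W - 1)) W :=
  fun _ _ _ => lkF_testBit hCS

/-- the read of a field of width `W` in a table cut into chunks of `CS` fields, in groups of `S1` chunks -/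
noncomputable def lkF2 (W CS A CM S1 A1 CM1 M T i : ℕ) : ℕ :=
  letN (Nat.div i CS) fun h =>
    letN (Nat.div h S1) fun h1 =>
      Nat.land (Nat.shiftRight (Nat.land (Nat.shiftRight (Nat.land (Nat.shiftRight T (Nat.mul A1 h1)) CM1)
        (Nat.mul A (Nat.mod h S1))) CM) (Nat.mul W (Nat.mod i CS))) M

theorem lkF2_testBit {W CS S1 T i j : ℕ} (hCS : 0 < CS) (hS1 : 0 < S1) :
    (lkF2 W CS (W * CS) (2 ^ (W * CS) - 1) S1 (W * CS * S1) (2 ^ (W * CS * S1) - 1) (2 ^ W - 1) T i).testBit j =
      (decide (j < W) && T.testBit (W * i + j)) := by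
  rw [lkF2, letN_eq, letN_eq]
  simp only [land_eq_and, shr_eq, mul_eq, div_eq, mod_eq]
  simp only [Nat.testBit_and, Nat.testBit_two_pow_sub_one, Nat.testBit_shiftRight]
  by_cases hj : j < W
  · have h1 : i % CS < CS := Nat.mod_lt _ hCS
    have h2 : W * (i % CS) + j < W * CS := by
      have : W * (i % CS + 1) ≤ W * CS := Nat.mul_le_mul_left _ h1
      rw [Nat.mul_succ] at this
      omega
    have h3 : i / CS % S1 < S1 := Nat.mod_lt _ hS1
    have h4 : W * CS * (i / CS % S1) + (W * (i % CS) + j) < W * CS * S1 := by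
      have : W * CS * (i / CS % S1 + 1) ≤ W * CS * S1 := Nat.mul_le_mul_left _ h3
      rw [Nat.mul_succ] at this
      omega
    have h5 : W * CS * S1 * (i / CS / S1) + (W * CS * (i / CS % S1) + (W * (i % CS) + j)) = W * i + j := by
      have h6 : S1 * (i / CS / S1) + i / CS % S1 = i / CS := Nat.div_add_mod _ _
      have h7 : CS * (i / CS) + i % CS = i := Nat.div_add_mod _ _
      calc W * CS * S1 * (i / CS / S1) + (W * CS * (i / CS % S1) + (W * (i % CS) + j))
          = W * (CS * (S1 * (i / CS / S1) + i / CS % S1) + i % CS) + j := by ring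
        _ = W * i + j := by rw [h6, h7]
    simp [hj, h2, h4, h5]
  · simp [hj]

theorem readsT_lkF2 {W CS S1 : ℕ} (hCS : 0 < CS) (hS1 : 0 < S1) :
    ReadsT (lkF2 W CS (W * CS) (2 ^ (W * CS) - 1) S1 (W * CS * S1) (2 ^ (W * CS * S1) - 1) (2 ^ W - 1)) W :=
  fun _ _ _ => lkF2_testBit hCS hS1

/-- the planes of the table of a permutation -/
theorem repT_of_planes {W B CS NB KB NH KH n T : ℕ} {x : Equiv.Perm ℕ} (hlk : ReadsT lk W) (S : ℕ → ℕ) (hW : W = B + 1)
    (hCS : CS = B * NB) (hNB : NB ≤ 2 ^ KB) (hNH : NH ≤ 2 ^ KH) (hn : n ≤ NH * CS) (hn2 : n ≤ 2 ^ W)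
    (hx : ∀ i, i < n → x i < n) (hS : ∀ j, j < W → ∀ p, p < n → (S j).testBit p = (x p).testBit j)
    (h : ∀ j, j < W → chkPl W B CS NB KB NH KH (repU B B) (repU W B) (2 ^ B - 1) (2 ^ (W * CS) - 1) (2 ^ CS - 1)
      T (S j) j = true) :
    RepT lk n x T := by
  refine ⟨hx, fun i hi => ?_⟩
  apply Nat.eq_of_testBit_eq
  intro j
  rw [hlk]
  by_cases hj : j < W
  · have h1 := testBit_of_chkPl hW hCS hNB hNH hj (h j hj) (p := i) (by omega)
    simp only [hj, decide_true, Bool.true_and]
    rw [h1, hS j hj i hi]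
  · simp only [hj, decide_false, Bool.false_and]
    apply Nat.testBit_lt_two_pow
    have h2 := hx i hi
    have h3 : 2 ^ W ≤ 2 ^ j := Nat.pow_le_pow_right (by norm_num) (by omega)
    omega

/-- the planes of a word -/
theorem planes_of_word {N : ℕ} {β : Type*} (pr : β → List (ℕ × ℕ)) (w : List β)
    (hv : ∀ a ∈ w, validProg N (pr a) = true) {K n : ℕ} (hn : n ≤ 2 ^ K)
    (hx : ∀ i, i < n → wordPerm pr w i < n) (j p : ℕ) (hp : p < n) :
    (wordApply pr w (slice K j)).testBit p = (wordPerm pr w p).testBit j := by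
  rw [testBit_wordApply N pr w hv, testBit_slice]
  have := hx p hp
  have h2 : wordPerm pr w p < 2 ^ K := by omega
  simp [h2]

/-! ### chains of programs -/

/-- An element of a group fixing a point lies in a subgroup of the stabilizer of the right order. -/
theorem mem_of_stab {G G' : Subgroup (Equiv.Perm ℕ)} (hfin : Nat.card G ≠ 0) (hle : G' ≤ G) {p : ℕ}
    (hfix : ∀ g ∈ G', g p = p) {S : Finset ℕ} (hS : ∀ i ∈ S, ∃ g ∈ G, g p = i)
    (hcard : Nat.card G ≤ S.card * Nat.card G') {z : Equiv.Perm ℕ} (hz : z ∈ G) (hzp : z p = p) : z ∈ G' := by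
  classical
  have : Finite G := Nat.finite_of_card_ne_zero hfin
  let St : Subgroup G := MulAction.stabilizer G p
  have h1 : Nat.card St * St.index = Nat.card G := Subgroup.card_mul_index St
  have h2 : St.index = (MulAction.orbit G p).ncard := MulAction.index_stabilizer G p
  have h3 : S.card ≤ (MulAction.orbit G p).ncard := by
    have hsub : (S : Set ℕ) ⊆ MulAction.orbit G p := by
      intro i hi
      obtain ⟨g, hg, rfl⟩ := hS i hi
      exact ⟨⟨g, hg⟩, rfl⟩
    have hfino : (MulAction.orbit G p).Finite := Set.finite_range _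
    have := Set.ncard_le_ncard hsub hfino
    rwa [Set.ncard_coe_finset] at this
  have hpos : 0 < S.card := by
    rcases Nat.eq_zero_or_pos S.card with h0 | h0
    · rw [h0, zero_mul] at hcard
      have : 0 < Nat.card G := Nat.card_pos
      omega
    · exact h0
  have h5 : G'.subgroupOf G ≤ St := by
    intro g hg
    show g • p = p
    exact hfix g.1 hg
  have h6 : Nat.card St ≤ Nat.card (G'.subgroupOf G) := by
    have e : Nat.card (G'.subgroupOf G) = Nat.card G' := by
      rw [Nat.card_congr (Subgroup.subgroupOfEquivOfLe hle).toEquiv]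
    rw [e]
    have h7 : Nat.card St * S.card ≤ Nat.card G := by
      rw [← h1, h2]
      exact Nat.mul_le_mul_left _ h3
    have h8 : Nat.card St * S.card ≤ Nat.card G' * S.card := by
      rw [mul_comm (Nat.card G')]
      exact h7.trans hcard
    exact Nat.le_of_mul_le_mul_right h8 hpos
  have h9 : G'.subgroupOf G = St := Subgroup.eq_of_le_of_card_ge h5 h6
  have h10 : (⟨z, hz⟩ : G) ∈ St := hzp
  rw [← h9] at h10
  exact h10

section levels

variable {pL : ℕ → List (ℕ × ℕ)} {N : ℕ}

/-- a subgroup of words -/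
theorem Gp_le (hv : ∀ i, validProg (2 ^ N) (pL i) = true) (S S' : List ℕ) (W : ℕ → List (ℕ × Bool))
    (hW : ∀ t ∈ S', ∀ a ∈ W t, a.1 ∈ S)
    (heq : ∀ t ∈ S', ∀ j, j < N → wordApply (sgnProg pL) ((t, false) :: W t) (slice N j) = slice N j) :
    Gp pL S' ≤ Gp pL S := by
  have hval : ∀ a : ℕ × Bool, validProg (2 ^ N) (sgnProg pL a) = true := valid_sgnProg hv
  apply (Subgroup.closure_le _).mpr
  rintro _ ⟨t, ht, rfl⟩
  have h1 : wordPerm (sgnProg pL) ((t, false) :: W t) = 1 :=
    wordPerm_eq_one N _ _ (fun a _ => hval a) (heq t ht)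
  have h2 : wordPerm (sgnProg pL) ((t, false) :: W t) =
      (progPerm (pL t))⁻¹ * wordPerm (sgnProg pL) (W t) := by
    have : progPerm (sgnProg pL (t, false)) = (progPerm (pL t))⁻¹ :=
      progPerm_reverse_mul _ _ (hv t)
    simp [wordPerm, this]
  rw [h2, inv_mul_eq_one] at h1
  show progPerm (pL t) ∈ _
  rw [h1]
  exact word_mem_Gp hv (hW t ht)

/-- the generators fixing a point fix it -/
theorem fix_of_gens (hv : ∀ i, validProg (2 ^ N) (pL i) = true) {S' : List ℕ} {p : ℕ}
    (hfix : ∀ t ∈ S', progApply (pL t) (2 ^ p) = 2 ^ p) : ∀ g ∈ Gp pL S', g p = p := by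
  intro g hg
  induction hg using Subgroup.closure_induction with
  | mem x hx =>
    obtain ⟨t, ht, rfl⟩ := hx
    have h1 := testBit_progApply _ _ (hv t) (2 ^ p) p
    rw [hfix t ht, Nat.testBit_two_pow_self] at h1
    have h2 := h1.symm
    rw [Nat.testBit_two_pow] at h2
    exact (of_decide_eq_true h2).symm
  | one => rfl
  | mul x y _ _ hx hy => rw [Equiv.Perm.mul_apply, hy, hx]
  | inv x _ hx =>
    rw [Equiv.Perm.inv_eq_iff_eq]
    exact hx.symm

/-- The stabilizer of a level. -/
theorem stab_step (hv : ∀ i, validProg (2 ^ N) (pL i) = true) (S S' : List ℕ) (W : ℕ → List (ℕ × Bool))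
    (hW : ∀ t ∈ S', ∀ a ∈ W t, a.1 ∈ S)
    (heq : ∀ t ∈ S', ∀ j, j < N → wordApply (sgnProg pL) ((t, false) :: W t) (slice N j) = slice N j)
    {p : ℕ} (hfix : ∀ t ∈ S', progApply (pL t) (2 ^ p) = 2 ^ p)
    {t0 O o : ℕ} (hgrow : growLN pL S t0 (2 ^ p) = O)
    (hc : sumRange O.testBit N 0 = o) (hfin : Nat.card (Gp pL S) ≠ 0)
    (hcard : Nat.card (Gp pL S) ≤ o * Nat.card (Gp pL S')) :
    ∀ z ∈ Gp pL S, z p = p → z ∈ Gp pL S' := by
  classical
  intro z hz hzp
  have hS := sound_growLN hv S t0 (2 ^ p) (sound_single _ p)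
  rw [hgrow] at hS
  have hF : (((Finset.Ico 0 (0 + 2 ^ N)).filter fun i => O.testBit i = true).card) = o := by
    rw [← sumRange_spec, hc]
  refine mem_of_stab hfin (Gp_le hv S S' W hW heq) (fix_of_gens hv hfix)
    (S := (Finset.Ico 0 (0 + 2 ^ N)).filter fun i => O.testBit i = true) ?_ (by rw [hF]; exact hcard) hz hzp
  intro i hi
  rw [Finset.mem_filter] at hi
  obtain ⟨g, hg, h3⟩ := hS i hi.2
  exact ⟨g, hg, h3⟩

/-- A mask stable under the generators. -/
theorem mask_of_gens (hv : ∀ i, validProg (2 ^ N) (pL i) = true) (S : List ℕ) {O b : ℕ} (hb : O.testBit b = true)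
    (hO : ∀ i ∈ S, progApply (pL i) O = O) : ∀ z ∈ Gp pL S, O.testBit (z b) = true := by
  have key : ∀ z ∈ Gp pL S, ∀ q, O.testBit (z q) = O.testBit q := by
    intro z hz
    induction hz using Subgroup.closure_induction with
    | mem x hx =>
      obtain ⟨t, ht, rfl⟩ := hx
      intro q
      have h1 := testBit_progApply _ _ (hv t) O q
      rw [hO t ht] at h1
      exact h1.symm
    | one => intro q; rfl
    | mul x y _ _ hx hy =>
      intro q
      rw [Equiv.Perm.mul_apply, hx, hy]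
    | inv x _ hx =>
      intro q
      have h1 := hx (x⁻¹ q)
      rw [show x (x⁻¹ q) = q by simp] at h1
      exact h1.symm
  intro z hz
  rw [key z hz, hb]

end levels

/-- A permutation fixing all the large points preserves the small points. -/
theorem lt_of_fix {z : Equiv.Perm ℕ} {n : ℕ} (h : ∀ i, n ≤ i → z i = i) (i : ℕ) (hi : i < n) : z i < n := by
  by_contra h1
  have h2 := h (z i) (by omega)
  have h3 := z.injective h2
  omega

/-- `lo, lo + 2^k, …`: the pieces of a search -/
theorem of_pieces (P : ℕ → Bool) (k m : ℕ) (h : ∀ i, i < m → allN P k (i * 2 ^ k) = true) :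
    ∀ c, c < m * 2 ^ k → P c = true := by
  intro c hc
  have h2 : 0 < 2 ^ k := by positivity
  have h3 : c / 2 ^ k < m := Nat.div_lt_of_lt_mul (by rwa [mul_comm] at hc)
  refine of_allN P k _ (h _ h3) c (Nat.div_mul_le_self c _) ?_
  have h4 := Nat.div_add_mod c (2 ^ k)
  have h5 := Nat.mod_lt c h2
  rw [mul_comm] at h4
  omega

/-- A good representation. -/
def Good (lk : ℕ → ℕ → ℕ) (n : ℕ) (H : Subgroup (Equiv.Perm ℕ)) (L : List ℕ) : Prop :=
  ∃ t ∈ H, RepL lk n t L

theorem good_nil (H : Subgroup (Equiv.Perm ℕ)) : Good lk n H [] := ⟨1, H.one_mem, repL_one⟩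

theorem good_of {H : Subgroup (Equiv.Perm ℕ)} {A L : List ℕ} (hA : ∀ t ∈ A, ∃ s ∈ H, RepT lk n s t)
    (hL : ∀ t ∈ L, t ∈ A) : Good lk n H L := by
  induction L with
  | nil => exact good_nil H
  | cons a L ih =>
    obtain ⟨x, hx, h⟩ := ih fun t ht => hL t (List.mem_cons_of_mem _ ht)
    obtain ⟨s, hs, hr⟩ := hA a (hL a List.mem_cons_self)
    exact ⟨s * x, H.mul_mem hs hx, h.cons hr⟩

/-- An element with a long representation has also a short one. -/
theorem repL_of_agree {H : Subgroup (Equiv.Perm ℕ)} {Ls : List Lev} (hC : Ch lk n H Ls) {z : Equiv.Perm ℕ} {L₁ L₂ : List ℕ}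
    (hz : z ∈ H) (hL₁ : RepL lk n z L₁) (hg : Good lk n H L₂) (hbase : ∀ b ∈ baseOf Ls, b < n)
    (h : agreeB lk (baseOf Ls) L₂ L₁ = true) : RepL lk n z L₂ := by
  obtain ⟨t, ht, hr⟩ := hg
  have := eq_of_agree hC ht hz hr hL₁ hbase h
  rwa [← this]

/-! ### checks of tables -/

/-- the check of all planes of a table against a word -/
noncomputable def chkT {β : Type*} (W B CS NB KB NH KH MUL MSK BM CT CSm KW K : ℕ) (pr : β → List (ℕ × ℕ)) (w : List β)
    (T : ℕ) : Bool :=
  allN (fun j => cond (Nat.blt j W)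
    (chkPl W B CS NB KB NH KH MUL MSK BM CT CSm T (wordApply pr w (slice K j)) j) true) KW 0

theorem planes_of_chkT {β : Type*} {W B CS NB KB NH KH MUL MSK BM CT CSm KW K : ℕ} {pr : β → List (ℕ × ℕ)} {w : List β} {T : ℕ}
    (hKW : W ≤ 2 ^ KW) (h : chkT W B CS NB KB NH KH MUL MSK BM CT CSm KW K pr w T = true) :
    ∀ j, j < W → chkPl W B CS NB KB NH KH MUL MSK BM CT CSm T (wordApply pr w (slice K j)) j = true := by
  intro j hj
  have h1 := of_allN _ KW 0 h j (Nat.zero_le _) (by omega)
  have h2 : Nat.blt j W = true := by rw [Nat.blt_eq]; exact hj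
  rw [h2] at h1
  exact h1

/-- The table of a word. -/
theorem repT_of_word {N K W B CS NB KB NH KH n T : ℕ} {β : Type*} (hlk : ReadsT lk W) (pr : β → List (ℕ × ℕ)) (w : List β)
    (hv : ∀ a ∈ w, validProg N (pr a) = true) (hW : W = B + 1)
    (hCS : CS = B * NB) (hNB : NB ≤ 2 ^ KB) (hNH : NH ≤ 2 ^ KH) (hn : n ≤ NH * CS) (hn2 : n ≤ 2 ^ W) (hn3 : n ≤ 2 ^ K)
    (hx : ∀ i, i < n → wordPerm pr w i < n)
    (h : ∀ j, j < W → chkPl W B CS NB KB NH KH (repU B B) (repU W B) (2 ^ B - 1) (2 ^ (W * CS) - 1) (2 ^ CS - 1)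
      T (wordApply pr w (slice K j)) j = true) :
    RepT lk n (wordPerm pr w) T :=
  repT_of_planes hlk (fun j => wordApply pr w (slice K j)) hW hCS hNB hNH hn hn2 hx
    (fun j _ p hp => planes_of_word pr w hv hn3 hx j p hp) h

/-! ### tests -/

/-- some power of a table agrees with a product on the base -/
noncomputable def anyPow (lk : ℕ → ℕ → ℕ) (base L : List ℕ) (t K : ℕ) : Bool :=
  (List.range K).any fun k => agreeB lk base L (List.replicate k t)

/-- the test for the centralizer of an element -/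
noncomputable def testCent (lk : ℕ → ℕ → ℕ) (base : List ℕ) (t K : ℕ) (L : List ℕ) : Bool :=
  cond (commB lk base L [t] [t]) (anyPow lk base L t K) true

/-- The centralizer of an element whose powers are given by a search over the image of a base point. -/
theorem cent_of_search {lkS : ℕ → ℕ → ℕ} {fuel b₀ t K : ℕ} {H : Subgroup (Equiv.Perm ℕ)} {Ls : List Lev} (hC : Ch lk n H Ls)
    {X : Equiv.Perm ℕ} (hX : RepT lk n X t) (hXH : X ∈ H) (hb₀ : b₀ < n)
    (hpath : baseOf Ls = zsOf lk t Ls.length b₀) (hbase : ∀ b ∈ baseOf Ls, b < n)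
    (hs : ∀ c, c < n → srchC lk lkS fuel n Ls.length Ls t (testCent lk (baseOf Ls) t K) c = true) {y : Equiv.Perm ℕ} (hy : y ∈ H)
    (hlt : ∀ i, i < n → y i < n) (hc : y * X = X * y) :
    ∃ k, y⁻¹ = X ^ k := by
  obtain ⟨L, hL, ht⟩ := srch_spec hC hX hb₀ hpath hs hy hlt hc
  have hc' : y⁻¹ * X = X * y⁻¹ := by
    rw [eq_mul_inv_iff_mul_eq, mul_assoc, ← hc, ← mul_assoc, inv_mul_cancel, one_mul]
  have h1 := commB_of hbase hL hX.toL hX.toL hc'
  rw [testCent, h1] at ht
  simp only [cond_true, anyPow, List.any_eq_true] at ht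
  obtain ⟨k, -, hk⟩ := ht
  exact ⟨k, eq_of_agree hC (H.inv_mem hy) (H.pow_mem hXH k) hL (hX.pow k) hbase hk⟩

/-- the selection among three things -/
noncomputable def sel3 {α : Type*} (A B C : α) (e : ℕ) : α :=
  Nat.rec (motive := fun _ => α) A (fun e' _ => Nat.rec (motive := fun _ => α) B (fun _ _ => C) e') e

@[simp] theorem sel3_zero {α : Type*} (A B C : α) : sel3 A B C 0 = A := rfl
@[simp] theorem sel3_one {α : Type*} (A B C : α) : sel3 A B C 1 = B := rfl
theorem sel3_add {α : Type*} (A B C : α) (e : ℕ) : sel3 A B C (e + 2) = C := rfl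

theorem sel3_map {α β : Type*} (f : α → β) (A B C : α) (e : ℕ) : f (sel3 A B C e) = sel3 (f A) (f B) (f C) e := by
  rcases e with _ | _ | e <;> rfl

theorem sel3_all {α : Type*} (P : α → Prop) {A B C : α} (h1 : P A) (h2 : P B) (h3 : P C) (e : ℕ) : P (sel3 A B C e) := by
  rcases e with _ | _ | e
  · exact h1
  · exact h2
  · exact h3

/-- the test for the frame of the centralizer of `u`: the product `L` is the element `YL` if it satisfies the relators, and
it does not realize the twist. -/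
noncomputable def testFrame (lk : ℕ → ℕ → ℕ) (base : List ℕ) (u : ℕ) (XL FL YL X3L : List ℕ) (Rs : List (List ℕ)) (L : List ℕ) : Bool :=
  cond (commB lk base L [u] [u])
    (cond (Rs.all fun R => relB lk (sel3 XL FL L) base R) (agreeB lk base L YL) true &&
      !(commB lk base L FL FL && commB lk base L X3L XL)) true

/-- The elements of a centralizer given by a search over the image of a base point, and the test of the frame. -/
theorem frame_of_search {lkS : ℕ → ℕ → ℕ} {fuel b₀ u : ℕ} {H : Subgroup (Equiv.Perm ℕ)} {Ls : List Lev} (hC : Ch lk n H Ls)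
    {U : Equiv.Perm ℕ} (hU : RepT lk n U u) (hb₀ : b₀ < n)
    (hpath : baseOf Ls = zsOf lk u Ls.length b₀) (hbase : ∀ b ∈ baseOf Ls, b < n)
    {XL FL YL X3L : List ℕ} {Rs : List (List ℕ)}
    (hs : ∀ c, c < n → srchC lk lkS fuel n Ls.length Ls u (testFrame lk (baseOf Ls) u XL FL YL X3L Rs) c = true)
    {y : Equiv.Perm ℕ} (hy : y ∈ H) (hlt : ∀ i, i < n → y i < n) (hc : y * U = U * y) :
    ∃ L, RepL lk n y⁻¹ L ∧ (Rs.all (fun R => relB lk (sel3 XL FL L) (baseOf Ls) R) = true → agreeB lk (baseOf Ls) L YL = true) ∧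
      ¬ (commB lk (baseOf Ls) L FL FL = true ∧ commB lk (baseOf Ls) L X3L XL = true) := by
  obtain ⟨L, hL, ht⟩ := srch_spec hC hU hb₀ hpath hs hy hlt hc
  have hc' : y⁻¹ * U = U * y⁻¹ := by
    rw [eq_mul_inv_iff_mul_eq, mul_assoc, ← hc, ← mul_assoc, inv_mul_cancel, one_mul]
  have h1 := commB_of hbase hL hU.toL hU.toL hc'
  rw [testFrame, h1] at ht
  simp only [cond_true, Bool.and_eq_true, Bool.not_eq_true'] at ht
  refine ⟨L, hL, ?_, ?_⟩
  · intro h2
    rw [h2] at ht
    exact ht.1
  · rintro ⟨h2, h3⟩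
    rw [h2, h3] at ht
    simp at ht

/-! ### orbits of a commuting element: labels -/

/-- The search with labels: the points with label `0` are searched, and the label decreases along the table `tT`. -/
noncomputable def srchL (lk lkS lkL : ℕ → ℕ → ℕ) (fuel n m : ℕ) (Ls : List Lev) (t lab tT K : ℕ) (test : List ℕ → Bool)
    (c : ℕ) : Bool :=
  cond (Nat.blt c n)
    (letN (lkL lab c) fun l =>
      cond (Nat.beq l 0) (go lk lkS fuel Ls (zsOf lk t m c) [] test)
        (cond (Nat.blt l K) (Nat.beq (Nat.add (lkL lab (lk tT c)) 1) l) false))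
    true

theorem lab_reach {lkS lkL : ℕ → ℕ → ℕ} {fuel m t lab tT K : ℕ} {Ls : List Lev} {test : List ℕ → Bool} {Tp : Equiv.Perm ℕ}
    (hT : RepT lk n Tp tT) (hs : ∀ c, c < n → srchL lk lkS lkL fuel n m Ls t lab tT K test c = true) :
    ∀ l c, c < n → lkL lab c = l → ∃ i, i ≤ l ∧ (l = 0 ∨ l < K) ∧ lkL lab ((Tp ^ i) c) = 0 := by
  intro l
  induction l with
  | zero =>
    intro c _ h
    exact ⟨0, le_rfl, Or.inl rfl, by simpa using h⟩
  | succ l ih =>
    intro c hc h
    have h1 := hs c hc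
    have h2 : Nat.blt c n = true := by
      rw [Nat.blt_eq]
      exact hc
    rw [srchL, h2] at h1
    simp only [cond_true] at h1
    rw [letN_eq, h] at h1
    have h3 : Nat.beq (l + 1) 0 = false := rfl
    rw [h3] at h1
    simp only [cond_false] at h1
    cases h4 : Nat.blt (l + 1) K with
    | false =>
      rw [h4] at h1
      simp at h1
    | true =>
      rw [h4] at h1
      simp only [cond_true] at h1
      have h5 := Nat.eq_of_beq_eq_true h1
      have h6 : l + 1 < K := by
        rw [Nat.blt_eq] at h4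
        exact h4
      have h7 : lkL lab (lk tT c) = l := by
        have : lkL lab (lk tT c) + 1 = l + 1 := h5
        omega
      have h8 : lk tT c < n := by
        rw [← hT.eq c hc]
        exact hT.lt c hc
      obtain ⟨i, hi, -, h9⟩ := ih _ h8 h7
      refine ⟨i + 1, by omega, Or.inr h6, ?_⟩
      rw [pow_succ, Equiv.Perm.mul_apply, hT.eq c hc]
      exact h9

/-- The search along a chain, up to an element commuting with the given element. -/
theorem srchL_spec {lkS lkL : ℕ → ℕ → ℕ} {fuel b₀ t lab tT K : ℕ} {H : Subgroup (Equiv.Perm ℕ)} {Ls : List Lev} (hC : Ch lk n H Ls)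
    {X Tp : Equiv.Perm ℕ} (hX : RepT lk n X t) (hT : RepT lk n Tp tT) (hTH : Tp ∈ H) (hTX : Tp * X = X * Tp) (hK : 0 < K)
    (hb₀ : b₀ < n) (hpath : baseOf Ls = zsOf lk t Ls.length b₀) {test : List ℕ → Bool}
    (hs : ∀ c, c < n → srchL lk lkS lkL fuel n Ls.length Ls t lab tT K test c = true) {y : Equiv.Perm ℕ} (hy : y ∈ H)
    (hlt : ∀ i, i < n → y i < n) (hc : y * X = X * y) :
    ∃ i, i < K ∧ ∃ L, RepL lk n (Tp ^ i * y)⁻¹ L ∧ test L = true := by
  have hyb := hlt b₀ hb₀
  obtain ⟨i, hi, hl, h0⟩ := lab_reach hT hs _ _ hyb rfl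
  have hiK : i < K := by
    rcases hl with h | h
    · omega
    · omega
  refine ⟨i, hiK, ?_⟩
  set y' := Tp ^ i * y with hy'
  have hy'H : y' ∈ H := H.mul_mem (H.pow_mem hTH i) hy
  have hlt' : ∀ j, j < n → y' j < n := fun j hj => (hT.pow i).lt _ (hlt j hj)
  have hc' : y' * X = X * y' := by
    have h1 : Commute (Tp ^ i) X := (show Commute Tp X from hTX).pow_left i
    rw [hy', mul_assoc, hc, ← mul_assoc, h1.eq, mul_assoc]
  have hyb' := hlt' b₀ hb₀
  have h1 := hs (y' b₀) hyb'
  have h2 : Nat.blt (y' b₀) n = true := by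
    rw [Nat.blt_eq]
    exact hyb'
  rw [srchL, h2] at h1
  simp only [cond_true] at h1
  rw [letN_eq] at h1
  have h3 : lkL lab (y' b₀) = 0 := by
    rw [hy', Equiv.Perm.mul_apply]
    exact h0
  rw [h3] at h1
  change go lk lkS fuel Ls (zsOf lk t Ls.length (y' b₀)) [] test = true at h1
  have hz : zsOf lk t Ls.length (y' b₀) = Ls.map fun lv => y' lv.b := by
    rw [← zsOf_map hX hc' hlt' _ _ hb₀, ← hpath, baseOf, List.map_map]
    rfl
  exact go_spec hC y' _ [] test 1 (by simpa using hy'H) repL_one hz (zsOf_lt hX _ _ hyb') h1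

/-- The centralizer of an element, by a search with labels. -/
theorem cent_of_searchL {lkS lkL : ℕ → ℕ → ℕ} {fuel b₀ t lab K K' : ℕ} {H : Subgroup (Equiv.Perm ℕ)} {Ls : List Lev}
    (hC : Ch lk n H Ls) {X : Equiv.Perm ℕ} (hX : RepT lk n X t) (hXH : X ∈ H) (hK : 0 < K) (hb₀ : b₀ < n)
    (hpath : baseOf Ls = zsOf lk t Ls.length b₀) (hbase : ∀ b ∈ baseOf Ls, b < n)
    (hs : ∀ c, c < n → srchL lk lkS lkL fuel n Ls.length Ls t lab t K (testCent lk (baseOf Ls) t K') c = true)
    {y : Equiv.Perm ℕ} (hy : y ∈ H) (hlt : ∀ i, i < n → y i < n) (hc : y * X = X * y) :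
    ∃ k, y⁻¹ = X ^ k := by
  obtain ⟨i, -, L, hL, ht⟩ := srchL_spec hC hX hX hXH rfl hK hb₀ hpath hs hy hlt hc
  have hcomm : (X ^ i * y)⁻¹ * X = X * (X ^ i * y)⁻¹ := by
    have h1 : Commute (X ^ i * y) X := ((Commute.refl X).pow_left i).mul_left hc
    exact (h1.inv_left).eq
  have h1 := commB_of hbase hL hX.toL hX.toL hcomm
  rw [testCent, h1] at ht
  simp only [cond_true, anyPow, List.any_eq_true] at ht
  obtain ⟨k, -, hk⟩ := ht
  have h2 := eq_of_agree hC (H.inv_mem (H.mul_mem (H.pow_mem hXH i) hy)) (H.pow_mem hXH k) hL (hX.pow k) hbase hk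
  refine ⟨k + i, ?_⟩
  rw [mul_inv_rev] at h2
  rw [pow_add, ← h2]
  group

/-- The test for the frame of a centralizer, for all the products with the powers of a commuting element: if such a product
satisfies the relators, then it is the given element. -/
noncomputable def testFrameT (lk : ℕ → ℕ → ℕ) (base : List ℕ) (u : ℕ) (XL FL YL : List ℕ) (Rs : List (List ℕ)) (tT K : ℕ)
    (L : List ℕ) : Bool :=
  cond (commB lk base L [u] [u])
    ((List.range K).all fun i =>
      cond (Rs.all fun R => relB lk (sel3 XL FL (L ++ List.replicate i tT)) base R)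
        (agreeB lk base (L ++ List.replicate i tT) YL) true)
    true

/-- The element of a centralizer satisfying the relators. -/
theorem frame_of_searchL {lkS lkL : ℕ → ℕ → ℕ} {fuel b₀ u lab tT K : ℕ} {H : Subgroup (Equiv.Perm ℕ)} {Ls : List Lev}
    (hC : Ch lk n H Ls) {U Tp : Equiv.Perm ℕ} (hU : RepT lk n U u) (hT : RepT lk n Tp tT) (hTH : Tp ∈ H) (hTU : Tp * U = U * Tp)
    (hK : 0 < K) (hb₀ : b₀ < n) (hpath : baseOf Ls = zsOf lk u Ls.length b₀) (hbase : ∀ b ∈ baseOf Ls, b < n)
    {XL FL YL : List ℕ} {Rs : List (List ℕ)}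
    (hs : ∀ c, c < n → srchL lk lkS lkL fuel n Ls.length Ls u lab tT K (testFrameT lk (baseOf Ls) u XL FL YL Rs tT K) c = true)
    {y : Equiv.Perm ℕ} (hy : y ∈ H) (hlt : ∀ i, i < n → y i < n) (hc : y * U = U * y) :
    ∃ L, RepL lk n y⁻¹ L ∧ (Rs.all (fun R => relB lk (sel3 XL FL L) (baseOf Ls) R) = true → agreeB lk (baseOf Ls) L YL = true) := by
  obtain ⟨i, hi, L, hL, ht⟩ := srchL_spec hC hU hT hTH hTU hK hb₀ hpath hs hy hlt hc
  have hcomm : (Tp ^ i * y)⁻¹ * U = U * (Tp ^ i * y)⁻¹ := by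
    have h1 : Commute (Tp ^ i * y) U := ((show Commute Tp U from hTU).pow_left i).mul_left hc
    exact (h1.inv_left).eq
  have h1 := commB_of hbase hL hU.toL hU.toL hcomm
  rw [testFrameT, h1] at ht
  simp only [cond_true, List.all_eq_true] at ht
  have h2 := ht i (List.mem_range.mpr hi)
  refine ⟨L ++ List.replicate i tT, ?_, ?_⟩
  · have h3 := hL.append (hT.pow i)
    have h4 : (Tp ^ i * y)⁻¹ * Tp ^ i = y⁻¹ := by group
    rwa [h4] at h3
  · intro h3
    have h4 : Rs.all (fun R => relB lk (sel3 XL FL (L ++ List.replicate i tT)) (baseOf Ls) R) = true := h3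
    rw [h4] at h2
    simpa using h2

/-! ### straight-line products -/

/-- The check of a node: its representation agrees with a product of earlier nodes, and the representation of its inverse is
right. -/
noncomputable def stepN (lk : ℕ → ℕ → ℕ) (base : List ℕ) (tr tri : ℕ → List ℕ) (w : List (ℕ × Bool)) (i : ℕ) : Bool :=
  w.all (fun a => Nat.blt a.1 i) && agreeB lk base (tr i) (w.flatMap fun a => cond a.2 (tr a.1) (tri a.1)) &&
    agreeB lk base (tr i ++ tri i) []

/-- A product of nodes lies in the group generated by the first nodes. -/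
theorem nodes_prod {K : Subgroup (Equiv.Perm ℕ)} {tr tri : ℕ → List ℕ} {i : ℕ}
    (h : ∀ j, j < i → ∃ v ∈ K, RepL lk n v (tr j) ∧ RepL lk n v⁻¹ (tri j)) (w : List (ℕ × Bool))
    (hw : w.all (fun a => Nat.blt a.1 i) = true) :
    ∃ P ∈ K, RepL lk n P (w.flatMap fun a => cond a.2 (tr a.1) (tri a.1)) := by
  induction w with
  | nil => exact ⟨1, K.one_mem, repL_one⟩
  | cons a w ih =>
    rw [List.all_cons, Bool.and_eq_true] at hw
    obtain ⟨P, hP, hr⟩ := ih hw.2
    have h1 : a.1 < i := by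
      have := hw.1
      rw [Nat.blt_eq] at this
      exact this
    obtain ⟨v, hv, h2, h3⟩ := h a.1 h1
    rw [List.flatMap_cons]
    cases ha : a.2 with
    | true => exact ⟨v * P, K.mul_mem hv hP, by simpa using h2.append hr⟩
    | false => exact ⟨v⁻¹ * P, K.mul_mem (K.inv_mem hv) hP, by simpa using h3.append hr⟩

/-- The nodes lie in the group generated by the first nodes. -/
theorem nodes_ok {H : Subgroup (Equiv.Perm ℕ)} {Ls : List Lev} (hC : Ch lk n H Ls) (hbase : ∀ b ∈ baseOf Ls, b < n)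
    {K : Subgroup (Equiv.Perm ℕ)} (hKH : K ≤ H) {tr tri : ℕ → List ℕ} (hG : ∀ i, Good lk n H (tr i)) (hGi : ∀ i, Good lk n H (tri i))
    {N₀ N : ℕ} {wd : ℕ → List (ℕ × Bool)}
    (h0 : ∀ i, i < N₀ → ∃ v ∈ K, RepL lk n v (tr i) ∧ RepL lk n v⁻¹ (tri i))
    (hstep : ∀ i, N₀ ≤ i → i < N → stepN lk (baseOf Ls) tr tri (wd i) i = true) :
    ∀ i, i < N → ∃ v ∈ K, RepL lk n v (tr i) ∧ RepL lk n v⁻¹ (tri i) := by
  intro i
  induction i using Nat.strong_induction_on with
  | _ i ih =>
    intro hi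
    by_cases h1 : i < N₀
    · exact h0 i h1
    · have h2 := hstep i (by omega) hi
      rw [stepN, Bool.and_eq_true, Bool.and_eq_true] at h2
      obtain ⟨⟨h3, h4⟩, h5⟩ := h2
      obtain ⟨P, hP, hr⟩ := nodes_prod (fun j hj => ih j hj (by omega)) _ h3
      obtain ⟨t, ht, hrt⟩ := hG i
      obtain ⟨t', ht', hrt'⟩ := hGi i
      have e1 : t = P := eq_of_agree hC ht (hKH hP) hrt hr hbase h4
      subst e1
      have e2 : t * t' = 1 := eq_of_agree hC (H.mul_mem ht ht') H.one_mem (hrt.append hrt') repL_one hbase h5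
      have e3 : t' = t⁻¹ := eq_inv_of_mul_eq_one_right e2
      subst e3
      exact ⟨t, hP, hrt, hrt'⟩

/-- An element which agrees with a product of nodes lies in the group generated by the first nodes. -/
theorem mem_of_nodes {H : Subgroup (Equiv.Perm ℕ)} {Ls : List Lev} (hC : Ch lk n H Ls) (hbase : ∀ b ∈ baseOf Ls, b < n)
    {K : Subgroup (Equiv.Perm ℕ)} (hKH : K ≤ H) {tr tri : ℕ → List ℕ} {N : ℕ}
    (h : ∀ i, i < N → ∃ v ∈ K, RepL lk n v (tr i) ∧ RepL lk n v⁻¹ (tri i)) {g : Equiv.Perm ℕ} (hg : g ∈ H) {Lg : List ℕ}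
    (hL : RepL lk n g Lg) (w : List (ℕ × Bool)) (hw : w.all (fun a => Nat.blt a.1 N) = true)
    (hag : agreeB lk (baseOf Ls) Lg (w.flatMap fun a => cond a.2 (tr a.1) (tri a.1)) = true) : g ∈ K := by
  obtain ⟨P, hP, hr⟩ := nodes_prod h w hw
  have := eq_of_agree hC hg (hKH hP) hL hr hbase hag
  rwa [this]

/-- The product of indexed tables is good. -/
theorem good_of_idx {H : Subgroup (Equiv.Perm ℕ)} {tab : ℕ → ℕ} {NT : ℕ} (hA : ∀ j, j < NT → ∃ s ∈ H, RepT lk n s (tab j))
    (L : List ℕ) (hL : L.all (fun j => Nat.blt j NT) = true) : Good lk n H (L.map tab) := by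
  induction L with
  | nil => exact good_nil H
  | cons a L ih =>
    rw [List.all_cons, Bool.and_eq_true] at hL
    obtain ⟨x, hx, h⟩ := ih hL.2
    have h1 : a < NT := by
      have := hL.1
      rw [Nat.blt_eq] at this
      exact this
    obtain ⟨s, hs, hr⟩ := hA a h1
    exact ⟨s * x, H.mul_mem hs hx, h.cons hr⟩

end Cfsg.Agent.Lib.OutStrip
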