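import Mathlib
import Cfsg.Agent.Lib.TcAbs

/-!
# Presentations in levels

Presentations on a part of the relators: the order of a subgroup on some generators from an upper
bound and a permutation representation; words that vanish in the representation vanish in the
subgroup; comparison of two representations by a map of points.
-/

set_option autoImplicit false
set_option linter.unusedSimpArgs false
set_option linter.unusedSectionVars false

namespace Cfsg.Agent.Lib.TcLevels

open Cfsg.Agent.Lib.TcFacts Cfsg.Agent.Lib.TcBits Cfsg.Agent.Lib.TcPres Cfsg.Agent.Lib.TcRel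
  Cfsg.Agent.Lib.TcChain Cfsg.Agent.Lib.TcAbs

/-- All relators of a list without a graph hold if the relators of the list do. -/
theorem relAll_nil_spec {α : Type} [DecidableEq α] {edges : List (α × ℕ × α)} {E : List (FreeGroup α)} {G : Type*}
    [Group G] (f : FreeGroup α →* G) (h : ∀ r ∈ E, f r = 1) :
    ∀ r ∈ relAll edges [] E, f r = 1 := by
  intro r hr
  unfold relAll at hr
  simp only [List.flatMap_nil, List.nil_append, List.mem_append, List.mem_map] at hr
  rcases hr with hr | ⟨r', hr', rfl⟩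
  · exact h r hr
  · rw [map_inv, h r' hr', inv_one]

/-- Order and injectivity on a subgroup from an upper bound and a large subgroup of the image. -/
theorem card_eq_of_bounds_sub {Γ : Type*} [Group Γ] (Φ : Γ →* Equiv.Perm ℕ) (A : Subgroup Γ) {N : ℕ}
    (hup : Nat.card A ≠ 0 ∧ Nat.card A ≤ N) {K : Subgroup (Equiv.Perm ℕ)} (hK : K ≤ A.map Φ)
    (hlow : Nat.card K ≠ 0 → N ≤ Nat.card K) : Nat.card A = N ∧ Set.InjOn Φ A := by
  have hr : (Φ.comp A.subtype).range = A.map Φ := by
    rw [MonoidHom.range_comp, Subgroup.range_subtype]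
  have h := card_eq_of_bounds (Φ.comp A.subtype) hup (K := K) (by rw [hr]; exact hK) hlow
  refine ⟨h.1, ?_⟩
  intro a ha b hb hab
  have := @h.2 ⟨a, ha⟩ ⟨b, hb⟩ hab
  exact congrArg Subtype.val this

variable {α : Type} [DecidableEq α] {R : Set (FreeGroup α)}

theorem Gp_le_map {pr : α → List (ℕ × ℕ)} (h : ∀ r ∈ R, FreeGroup.lift (genPerm pr) r = 1)
    (pL : ℕ → List (ℕ × ℕ)) (S : List ℕ) (f : ℕ → α) (T : List α)
    (hf : ∀ i ∈ S, pL i = pr (f i)) (hT : ∀ i ∈ S, f i ∈ T) :
    Gp pL S ≤ (subOf R T).map (repOf R pr h) := by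
  apply (Subgroup.closure_le _).mpr
  rintro _ ⟨i, hi, rfl⟩
  refine ⟨PresentedGroup.of (f i), Subgroup.subset_closure ⟨f i, hT i hi, rfl⟩, ?_⟩
  rw [repOf_of]
  show _ = progPerm (pL i)
  rw [hf i hi]

/-- A word in some generators vanishing in a representation injective on their subgroup. -/
theorem mk_eq_one_of_slices {pr : α → List (ℕ × ℕ)} (h : ∀ r ∈ R, FreeGroup.lift (genPerm pr) r = 1)
    {k : ℕ} (hv : ∀ x, validProg (2 ^ k) (pr x) = true) {T : List α}
    (hinj : Set.InjOn (repOf R pr h) (subOf R T)) {w : FreeGroup α} (hw : ∀ p ∈ w.toWord, p.1 ∈ T)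
    (hs : ∀ j, j < k → wordApply (sgnProg pr) w.toWord (slice k j) = slice k j) :
    PresentedGroup.mk R w = 1 := by
  have hmem : PresentedGroup.mk R w ∈ subOf R T := by
    have := mk_mem_subOf (R := R) hw
    rwa [FreeGroup.mk_toWord] at this
  apply hinj hmem (subOf R T).one_mem
  rw [map_one, repOf_mk h hv, ← lift_eq_wordPerm hv]
  exact lift_eq_one_of_slices hv hs

/-- A word does not vanish if it moves a point under a representation. -/
theorem mk_ne_one_of_apply {pr : α → List (ℕ × ℕ)} (h : ∀ r ∈ R, FreeGroup.lift (genPerm pr) r = 1)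
    {k : ℕ} (hv : ∀ x, validProg (2 ^ k) (pr x) = true) {w : FreeGroup α} {X : ℕ}
    (hs : wordApply (sgnProg pr) w.toWord X ≠ X) : PresentedGroup.mk R w ≠ 1 := by
  intro h1
  have h2 := repOf_mk h hv w
  rw [h1, map_one] at h2
  apply hs
  apply Nat.eq_of_testBit_eq
  intro i
  rw [testBit_wordApply _ _ _ (fun a _ => valid_sgnProg hv a), ← h2]
  rfl

/-- The order of a quotient by a group containing an element of order three. -/
theorem card_le_of_ker {A B : Type*} [Group A] [Group B] (f : A →* B) (hf : Function.Surjective f)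
    {c : A} (h1 : c ≠ 1) (h3 : c ^ 3 = 1) (hc : f c = 1) {m : ℕ} (hA : Nat.card A = 3 * m) (hm : m ≠ 0) :
    Nat.card B ≠ 0 ∧ Nat.card B ≤ m := by
  have hfinA : Finite A := Nat.finite_of_card_ne_zero (by rw [hA]; omega)
  have hfinB : Finite B := Finite.of_surjective f hf
  have hord : orderOf c = 3 := orderOf_eq_prime h3 h1
  have hle : Subgroup.zpowers c ≤ f.ker := by
    rw [Subgroup.zpowers_le]
    exact hc
  have hd : 3 ∣ Nat.card f.ker := by
    have := Subgroup.card_dvd_of_le hle
    rwa [Nat.card_zpowers, hord] at this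
  have h2 : Nat.card f.ker * f.ker.index = Nat.card A := Subgroup.card_mul_index f.ker
  have h4 : f.ker.index = Nat.card B := by
    rw [Subgroup.index_ker, MonoidHom.range_eq_top.mpr hf, Subgroup.card_top]
  refine ⟨Nat.card_pos.ne', ?_⟩
  rw [h4] at h2
  obtain ⟨d, hd⟩ := hd
  have hB : 0 < Nat.card B := Nat.card_pos
  have hdpos : 0 < d := by
    rcases Nat.eq_zero_or_pos d with h | h
    · subst h
      simp only [mul_zero] at hd
      have := Nat.card_pos (α := f.ker)
      omega
    · exact h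
  rw [hd, hA, mul_assoc] at h2
  have h5 : d * Nat.card B = m := Nat.eq_of_mul_eq_mul_left (by norm_num) h2
  rw [← h5]
  exact Nat.le_mul_of_pos_left _ hdpos

/-- The image of a subgroup on generators under the map of presented groups. -/
theorem card_subOf_le_of_ker {R' : Set (FreeGroup α)} (h : ∀ r ∈ R, PresentedGroup.mk R' r = 1)
    (S : List α) {c : PresentedGroup R} (hcS : c ∈ subOf R S) (h1 : c ≠ 1) (h3 : c ^ 3 = 1)
    (hc : piOf h c = 1) {m : ℕ} (hA : Nat.card (subOf R S) = 3 * m) (hm : m ≠ 0) :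
    Nat.card (subOf R' S) ≠ 0 ∧ Nat.card (subOf R' S) ≤ m := by
  have hmem : ∀ k : subOf R S, piOf h k.1 ∈ subOf R' S := fun k => by
    rw [← map_subOf h S]
    exact Subgroup.mem_map_of_mem _ k.2
  let f : subOf R S →* subOf R' S :=
    ((piOf h).comp (subOf R S).subtype).codRestrict (subOf R' S) hmem
  have hf : Function.Surjective f := by
    rintro ⟨y, hy⟩
    rw [← map_subOf h S] at hy
    obtain ⟨k, hk, rfl⟩ := hy
    exact ⟨⟨k, hk⟩, rfl⟩
  refine card_le_of_ker f hf (c := ⟨c, hcS⟩) ?_ ?_ ?_ hA hm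
  · intro he
    exact h1 (congrArg Subtype.val he)
  · apply Subtype.ext
    simpa using h3
  · apply Subtype.ext
    exact hc


/-- A relation between relators of two lists. -/
theorem mk_sub {edges : List (α × ℕ × α)} {E E' : List (FreeGroup α)} (h : ∀ r ∈ E, r ∈ E') :
    ∀ r ∈ Cfsg.Spor.coxRelators edges ∪ {r | r ∈ E},
      PresentedGroup.mk (Cfsg.Spor.coxRelators edges ∪ {r | r ∈ E'}) r = 1 := by
  rintro r (hr | hr)
  · exact (QuotientGroup.eq_one_iff _).mpr (Subgroup.subset_normalClosure (Or.inl hr))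
  · exact (QuotientGroup.eq_one_iff _).mpr (Subgroup.subset_normalClosure (Or.inr (h r hr)))

/-- The points below `n` are preserved if the points above are fixed. -/
theorem lt_of_fix_above {n : ℕ} (p : Equiv.Perm ℕ) (h : ∀ i, n ≤ i → p i = i) (i : ℕ) (hi : i < n) :
    p i < n := by
  by_contra hc
  have h1 := h (p i) (by omega)
  have h2 := p.injective h1
  omega

/-! ## Comparison of two representations -/

section compare

variable {R' : Set (FreeGroup α)}

/-- A map of points compatible with generators transports the action of a subgroup. -/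
theorem transport {pH pG : α → List (ℕ × ℕ)} (hRR : ∀ r ∈ R, PresentedGroup.mk R' r = 1)
    (hRH : ∀ r ∈ R, FreeGroup.lift (genPerm pH) r = 1)
    (hRG : ∀ r ∈ R', FreeGroup.lift (genPerm pG) r = 1) {n : ℕ} (S : List α)
    (hn : ∀ x, ∀ i, i < n → progPerm (pH x) i < n) (β : ℕ → ℕ)
    (hEq : ∀ x ∈ S, ∀ i, i < n → progPerm (pG x) (β i) = β (progPerm (pH x) i))
    (h : PresentedGroup R) (hh : h ∈ subOf R S) :
    ∀ i, i < n → repOf R pH hRH h i < n ∧
      repOf R' pG hRG (piOf hRR h) (β i) = β (repOf R pH hRH h i) := by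
  -- the whole group preserves the points below `n`
  have hall : ∀ g : PresentedGroup R, ∀ i, i < n → repOf R pH hRH g i < n ∧
      ∃ j, j < n ∧ repOf R pH hRH g j = i := by
    intro g
    have hg : g ∈ Subgroup.closure (Set.range (PresentedGroup.of : α → PresentedGroup R)) := by
      rw [PresentedGroup.closure_range_of]
      trivial
    have step : ∀ (p : Equiv.Perm ℕ), (∀ i, i < n → p i < n) → ∀ i, i < n → ∃ j, j < n ∧ p j = i := by
      intro p hp i hi
      have hs : Set.SurjOn p (Set.Iio n) (Set.Iio n) := by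
        have hfin : (Finset.range n : Set ℕ) = Set.Iio n := by
          ext j
          simp
        rw [← hfin]
        exact Finset.surjOn_of_injOn_of_card_le (t := Finset.range n) p
          (fun j hj => by simpa using hp j (by simpa using hj))
          (p.injective.injOn) le_rfl
      obtain ⟨j, hj, hj2⟩ := hs (by simpa using hi)
      exact ⟨j, by simpa using hj, hj2⟩
    have key : ∀ i, i < n → repOf R pH hRH g i < n := by
      induction hg using Subgroup.closure_induction with
      | mem y hy =>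
        obtain ⟨x, rfl⟩ := hy
        intro i hi
        rw [repOf_of]
        exact hn x i hi
      | one => intro i hi; simpa using hi
      | mul a b _ _ ha hb =>
        intro i hi
        rw [map_mul, Equiv.Perm.mul_apply]
        exact ha _ (hb i hi)
      | inv a _ ha =>
        intro i hi
        obtain ⟨j, hj, hj2⟩ := step _ ha i hi
        rw [map_inv, ← hj2]
        simpa using hj
    intro i hi
    exact ⟨key i hi, step _ key i hi⟩
  intro i hi
  refine ⟨(hall h i hi).1, ?_⟩
  induction hh using Subgroup.closure_induction generalizing i with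
  | mem y hy =>
    obtain ⟨x, hx, rfl⟩ := hy
    rw [repOf_of, piOf_of, repOf_of]
    exact hEq x hx i hi
  | one => simp
  | mul a b _ _ ha hb =>
    rw [map_mul, map_mul, map_mul, Equiv.Perm.mul_apply, Equiv.Perm.mul_apply, hb i hi,
      ha _ (hall b i hi).1]
  | inv a _ ha =>
    obtain ⟨j, hj, hj2⟩ := (hall a i hi).2
    have h1 := ha j hj
    rw [hj2] at h1
    have e1 : repOf R pH hRH a⁻¹ i = j := by
      rw [map_inv, Equiv.Perm.inv_eq_iff_eq]
      exact hj2.symm
    rw [e1, map_inv, map_inv, Equiv.Perm.inv_eq_iff_eq, h1]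

/-- A map of points compatible with generators transports injectivity. -/
theorem injOn_of_transport {pH pG : α → List (ℕ × ℕ)} (hRR : ∀ r ∈ R, PresentedGroup.mk R' r = 1)
    (hRH : ∀ r ∈ R, FreeGroup.lift (genPerm pH) r = 1)
    (hRG : ∀ r ∈ R', FreeGroup.lift (genPerm pG) r = 1) {n : ℕ} (S : List α)
    (hn : ∀ x, ∀ i, i < n → progPerm (pH x) i < n)
    (hab : ∀ x, ∀ i, n ≤ i → progPerm (pH x) i = i) (β : ℕ → ℕ)
    (hEq : ∀ x ∈ S, ∀ i, i < n → progPerm (pG x) (β i) = β (progPerm (pH x) i))
    (hβ : ∀ i j, i < n → j < n → β i = β j → i = j)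
    (hinj : Set.InjOn (repOf R pH hRH) (subOf R S)) :
    Set.InjOn (fun g => repOf R' pG hRG (piOf hRR g)) (subOf R S) := by
  have key : ∀ h ∈ subOf R S, repOf R' pG hRG (piOf hRR h) = 1 → h = 1 := by
    intro h hh h1
    apply hinj hh (subOf R S).one_mem
    rw [map_one]
    ext i
    simp only [Equiv.Perm.coe_one, id_eq]
    by_cases hi : i < n
    · obtain ⟨h2, h3⟩ := transport hRR hRH hRG S hn β hEq h hh i hi
      rw [h1] at h3
      simp only [Equiv.Perm.coe_one, id_eq] at h3
      exact (hβ _ _ hi h2 h3).symm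
    · exact fix_above_all hRH (fun x => hab x i (by omega)) h
  intro a ha b hb hab'
  have h1 : a⁻¹ * b = 1 := by
    apply key _ ((subOf R S).mul_mem ((subOf R S).inv_mem ha) hb)
    simp only at hab'
    rw [map_mul, map_mul, map_inv, map_inv, hab', inv_mul_cancel]
  exact (inv_mul_eq_one.mp h1)

/-- A check of compatibility with a generator by masks. -/
theorem equivariant_of_masks {pH pG : List (ℕ × ℕ)} {kH k n : ℕ} (hvH : validProg (2 ^ kH) pH = true)
    (hvG : validProg (2 ^ k) pG = true) (hnk : n ≤ 2 ^ kH) (β : ℕ → ℕ) (M : ℕ → ℕ) (O : ℕ)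
    (hO : ∀ q, O.testBit q = true → ∃ i, i < n ∧ β i = q)
    (hOb : ∀ i, i < n → O.testBit (β i) = true)
    (hM : ∀ j, j < kH → ∀ i, i < n → (M j).testBit (β i) = i.testBit j)
    (hclosed : progApply pG O = O)
    (hE : ∀ j, j < kH → ∀ i, i < n →
      (progApply pG (M j)).testBit (β i) = (progApply pH (slice kH j)).testBit i) :
    ∀ i, i < n → progPerm pG (β i) = β (progPerm pH i) := by
  intro i hi
  have h1 : O.testBit (progPerm pG (β i)) = true := by
    rw [← testBit_progApply _ _ hvG, hclosed]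
    exact hOb i hi
  obtain ⟨i2, hi2, h2⟩ := hO _ h1
  have hlt : progPerm pH i < 2 ^ kH := by
    by_contra hc
    have h3 := progPerm_fix_high _ _ hvH (progPerm pH i) (by omega)
    have h4 := (progPerm pH).injective h3
    omega
  have h5 : i2 = progPerm pH i := by
    apply Nat.eq_of_testBit_eq
    intro j
    by_cases hj : j < kH
    · have h6 := hE j hj i hi
      rw [testBit_progApply _ _ hvG, testBit_progApply _ _ hvH, ← h2, hM j hj i2 hi2, testBit_slice] at h6
      rw [h6]
      simp [hlt]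
    · have hk : 2 ^ kH ≤ 2 ^ j := Nat.pow_le_pow_right (by norm_num) (by omega)
      rw [Nat.testBit_lt_two_pow (lt_of_lt_of_le hlt hk),
        Nat.testBit_lt_two_pow (lt_of_lt_of_le (lt_of_lt_of_le hi2 hnk) hk)]
  rw [← h2, h5]

end compare

/-! ## Counting bits of large numbers -/

/-- The number of set bits among the `2 ^ k` lowest ones. -/
noncomputable def popC (k : ℕ) : ℕ → ℕ :=
  Nat.rec (motive := fun _ => ℕ → ℕ) (fun O => Nat.land O 1)
    (fun k ih O =>
      Nat.rec (motive := fun _ => ℕ) 0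
        (fun _ _ =>
          Nat.add (ih (Nat.land O (Nat.sub (Nat.pow 2 (Nat.pow 2 k)) 1)))
            (ih (Nat.shiftRight O (Nat.pow 2 k))))
        O)
    k

theorem popC_spec (k O : ℕ) : popC k O = Nat.count (fun i => O.testBit i = true) (2 ^ k) := by
  induction k generalizing O with
  | zero =>
    have e : popC 0 O = O &&& 1 := rfl
    rw [e]
    simp only [pow_zero, Nat.count_one]
    rw [Nat.testBit_zero]
    have h2 : O &&& 1 = O % 2 := Nat.and_one_is_mod O
    rw [h2]
    rcases Nat.mod_two_eq_zero_or_one O with h | h <;> simp [h]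
  | succ k ih =>
    have hO : popC (k + 1) O = Nat.rec (motive := fun _ => ℕ) 0
        (fun _ _ => popC k (O &&& (2 ^ 2 ^ k - 1)) + popC k (O >>> 2 ^ k)) O := rfl
    have hsplit : Nat.count (fun i => O.testBit i = true) (2 ^ (k + 1)) =
        popC k (O &&& (2 ^ 2 ^ k - 1)) + popC k (O >>> 2 ^ k) := by
      rw [pow_succ, mul_two, Nat.count_add, ih, ih]
      congr 1
      · rw [Nat.count_eq_card_filter_range, Nat.count_eq_card_filter_range]
        congr 1
        apply Finset.filter_congr
        intro i hi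
        rw [Finset.mem_range] at hi
        rw [Nat.testBit_and, Nat.testBit_two_pow_sub_one]
        simp [hi]
      · rw [Nat.count_eq_card_filter_range, Nat.count_eq_card_filter_range]
        congr 1
        apply Finset.filter_congr
        intro i _
        rw [Nat.testBit_shiftRight]
    cases O with
    | zero =>
      rw [hO]
      simp only [Nat.zero_testBit, Bool.false_eq_true]
      show 0 = _
      simp [Nat.count_false]
    | succ n =>
      rw [hO, hsplit]

theorem sumRange_eq_popC (k O : ℕ) : sumRange O.testBit k 0 = popC k O := by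
  rw [popC_spec, sumRange_spec, Nat.count_eq_card_filter_range]
  congr 1
  ext i
  simp

/-- A run over masks, as `primFold`, with a fast count. -/
noncomputable def primFoldC (k : ℕ) : List ℕ → ℕ → ℕ → Option (ℕ × ℕ)
  | [], U, R => some (U, R)
  | O :: l, U, R =>
    if Nat.land U O = 0 then
      primFoldC k l (Nat.lor U O) (Nat.lor R (Nat.shiftLeft R (popC k O)))
    else none

theorem primFold_eq_C (k : ℕ) (l : List ℕ) (U R : ℕ) : primFold k l U R = primFoldC k l U R := by
  induction l generalizing U R with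
  | nil => rfl
  | cons O l ih =>
    simp only [primFold, primFoldC, sumRange_eq_popC]
    split_ifs
    · exact ih _ _
    · rfl

/-- Divisors of a small number and the possible sizes of a block, by pairs of divisors. -/
def divOK2 (n R e : ℕ) : Bool :=
  Nat.beq e 0 || !(Nat.beq (n % e) 0) || Nat.beq e 1 || (!(R.testBit e) && !(R.testBit (n / e)))

theorem hdiv_of_check2 {n R K : ℕ} (hn : n < 2 ^ K * 2 ^ K) (hn0 : 0 < n)
    (h : allRange (divOK2 n R) K 0 = true) :
    ∀ d, d ∣ n → d = 1 ∨ d = n ∨ R.testBit d = false := by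
  intro d hd
  obtain ⟨e, rfl⟩ := hd
  have hd0 : 0 < d := Nat.pos_of_ne_zero (by rintro rfl; simp at hn0)
  have he0 : 0 < e := Nat.pos_of_ne_zero (by rintro rfl; simp at hn0)
  have hch : ∀ a, a < 2 ^ K → divOK2 (d * e) R a = true := fun a ha =>
    allRange_spec K 0 h a (Nat.zero_le _) (by simpa using ha)
  by_cases hdK : d < 2 ^ K
  · have h1 := hch d hdK
    simp only [divOK2, Bool.or_eq_true, Bool.and_eq_true, Bool.not_eq_true'] at h1
    rcases h1 with ((h1 | h1) | h1) | h1
    · have := Nat.eq_of_beq_eq_true h1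
      omega
    · simp [Nat.mul_mod_right] at h1
    · exact Or.inl (Nat.eq_of_beq_eq_true h1)
    · exact Or.inr (Or.inr h1.1)
  · have heK : e < 2 ^ K := by
      by_contra hc
      have h2 : 2 ^ K * 2 ^ K ≤ d * e := Nat.mul_le_mul (by omega) (by omega)
      omega
    have h1 := hch e heK
    simp only [divOK2, Bool.or_eq_true, Bool.and_eq_true, Bool.not_eq_true'] at h1
    rcases h1 with ((h1 | h1) | h1) | h1
    · have := Nat.eq_of_beq_eq_true h1
      omega
    · simp [Nat.mul_mod_left] at h1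
    · have := Nat.eq_of_beq_eq_true h1
      subst this
      exact Or.inr (Or.inl (by simp))
    · have h3 : d * e / e = d := Nat.mul_div_cancel _ he0
      rw [h3] at h1
      exact Or.inr (Or.inr h1.2)

/-! ## A normal subgroup of order three inverted by an element of a commutator quotient -/

section kill

variable {G : Type*} [Group G]

private theorem conj_c_c {a b c : G} (ha : a * c * a⁻¹ = c) (hb : b * c * b⁻¹ = c) :
    (a * b) * c * (a * b)⁻¹ = c := by
  rw [mul_inv_rev]
  calc a * b * c * (b⁻¹ * a⁻¹) = a * (b * c * b⁻¹) * a⁻¹ := by group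
    _ = c := by rw [hb, ha]

private theorem conj_c_i {a b c : G} (ha : a * c * a⁻¹ = c) (hb : b * c * b⁻¹ = c⁻¹) :
    (a * b) * c * (a * b)⁻¹ = c⁻¹ := by
  rw [mul_inv_rev]
  have h2 : a * c⁻¹ * a⁻¹ = c⁻¹ := by
    have : (a * c * a⁻¹)⁻¹ = c⁻¹ := by rw [ha]
    simpa [mul_assoc] using this
  calc a * b * c * (b⁻¹ * a⁻¹) = a * (b * c * b⁻¹) * a⁻¹ := by group
    _ = c⁻¹ := by rw [hb, h2]

private theorem conj_i_c {a b c : G} (ha : a * c * a⁻¹ = c⁻¹) (hb : b * c * b⁻¹ = c) :
    (a * b) * c * (a * b)⁻¹ = c⁻¹ := by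
  rw [mul_inv_rev]
  calc a * b * c * (b⁻¹ * a⁻¹) = a * (b * c * b⁻¹) * a⁻¹ := by group
    _ = c⁻¹ := by rw [hb, ha]

private theorem conj_i_i {a b c : G} (ha : a * c * a⁻¹ = c⁻¹) (hb : b * c * b⁻¹ = c⁻¹) :
    (a * b) * c * (a * b)⁻¹ = c := by
  rw [mul_inv_rev]
  have h2 : a * c⁻¹ * a⁻¹ = c := by
    have : (a * c * a⁻¹)⁻¹ = (c⁻¹)⁻¹ := by rw [ha]
    simpa [mul_assoc] using this
  calc a * b * c * (b⁻¹ * a⁻¹) = a * (b * c * b⁻¹) * a⁻¹ := by group
    _ = c := by rw [hb, h2]

private theorem conj_inv_c {a c : G} (ha : a * c * a⁻¹ = c) : a⁻¹ * c * a⁻¹⁻¹ = c := by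
  rw [inv_inv]
  calc a⁻¹ * c * a = a⁻¹ * (a * c * a⁻¹) * a := by rw [ha]
    _ = c := by group

/-- An element of order three inverted by `x`, centralised by `y` and `z`, is trivial under the
relation `z (z ^ v x) ^ 3 = 1` with `v` a word with an even number of `x`. -/
theorem kill_three {x y z c : G} (h3 : c ^ 3 = 1) (hx : x * c * x⁻¹ = c⁻¹) (hy : y * c * y⁻¹ = c)
    (hz : z * c * z⁻¹ = c)
    (hrel : z * ((y ^ 3 * x * y * x * y)⁻¹ * z * (y ^ 3 * x * y * x * y) * x) ^ 3 = 1) : c = 1 := by
  have hy3 : y ^ 3 * c * (y ^ 3)⁻¹ = c := by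
    have h2 : y ^ 2 * c * (y ^ 2)⁻¹ = c := by
      rw [pow_two]; exact conj_c_c hy hy
    rw [pow_succ]
    exact conj_c_c h2 hy
  set v := y ^ 3 * x * y * x * y with hv
  have hvc : v * c * v⁻¹ = c := by
    have h1 := conj_c_i hy3 hx
    have h2 := conj_i_c h1 hy
    have h4 := conj_i_i h2 hx
    exact conj_c_c h4 hy
  have hvi := conj_inv_c hvc
  have h5 : (v⁻¹ * z * v) * c * (v⁻¹ * z * v)⁻¹ = c := conj_c_c (conj_c_c hvi hz) hvc
  set e := v⁻¹ * z * v * x with he
  have h6 : e * c * e⁻¹ = c⁻¹ := conj_c_i h5 hx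
  have h7 : (e ^ 3) * c * (e ^ 3)⁻¹ = c⁻¹ := by
    have h8 : (e ^ 2) * c * (e ^ 2)⁻¹ = c := by
      rw [pow_two]; exact conj_i_i h6 h6
    rw [pow_succ]
    exact conj_c_i h8 h6
  have h9 := conj_c_i hz h7
  rw [hrel] at h9
  simp only [one_mul, inv_one, mul_one] at h9
  have h10 : c ^ 2 = 1 := by
    rw [pow_two]
    nth_rewrite 1 [h9]
    simp
  have h11 : c ^ 3 = c ^ 2 * c := pow_succ c 2
  rw [h3, h10, one_mul] at h11
  exact h11.symm


/-- The element `w x` is centralised by `z`, from the relations of `z`. -/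
theorem conj_wx {x z w : G} (hz : z ^ 2 = 1) (hzx : (z * x) ^ 2 = 1)
    (h9 : z⁻¹ * w⁻¹ * z * w * (x ^ 2)⁻¹ = 1) (hx4 : x ^ 4 = 1) : z * (w * x) * z⁻¹ = w * x := by
  have hzi : z⁻¹ = z := inv_eq_of_mul_eq_one_left (by rw [← pow_two]; exact hz)
  have h1 : z * x * z⁻¹ = x⁻¹ := by
    rw [hzi]
    have h0 : z * x * (z * x) = 1 := by rw [← pow_two]; exact hzx
    have : z * x * z * x = 1 := by rw [mul_assoc (z * x) z x]; exact h0
    exact eq_inv_of_mul_eq_one_left this
  have h2 : z * w * z⁻¹ = w * (x ^ 2)⁻¹ := by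
    have h3 : z⁻¹ * w⁻¹ * z * w = x ^ 2 := mul_inv_eq_one.mp h9
    have h4 : z⁻¹ * w⁻¹ * z = x ^ 2 * w⁻¹ := eq_mul_inv_of_mul_eq h3
    have h5 := congrArg (·⁻¹) h4
    simp only [mul_inv_rev, inv_inv] at h5
    rw [hzi] at h5 ⊢
    calc z * w * z = z * (w * z) := by group
      _ = w * (x ^ 2)⁻¹ := h5
  have hx3 : (x ^ 2)⁻¹ * x⁻¹ = x := by
    have : x * x ^ 3 = 1 := by rw [← pow_succ']; exact hx4
    have h6 : (x ^ 3)⁻¹ = x := inv_eq_of_mul_eq_one_left this
    have e : (x ^ 2)⁻¹ * x⁻¹ = (x ^ 3)⁻¹ := by group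
    rw [e, h6]
  calc z * (w * x) * z⁻¹ = (z * w * z⁻¹) * (z * x * z⁻¹) := by group
    _ = w * ((x ^ 2)⁻¹ * x⁻¹) := by rw [h1, h2, mul_assoc]
    _ = w * x := by rw [hx3]

end kill

end Cfsg.Agent.Lib.TcLevels
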