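import Cfsg.Agent.Lib.ProgChain
import Cfsg.Prelude.Def_SporCoxeter

/-!
# Homomorphisms from a group presented on involutions to a group of programs
-/

set_option autoImplicit false
set_option linter.unusedSectionVars false

namespace Cfsg.Agent.Lib.PresBridge

open Cfsg.Spor Cfsg.Agent.Lib.PermChain Cfsg.Agent.Lib.ProgBits Cfsg.Agent.Lib.ProgChain

variable {α : Type*} [DecidableEq α] {n : ℕ}

/-- the letters of a word on involutions -/
def expand (w : α → List ℕ) (L : List (α × Bool)) : List ℕ := L.flatMap fun p => w p.1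

theorem prodW_append (g : ℕ → Equiv.Perm (Fin n)) (a b : List ℕ) :
    prodW g (a ++ b) = prodW g a * prodW g b := by
  simp [prodW]

theorem lift_eq (g : ℕ → Equiv.Perm (Fin n)) (w : α → List ℕ)
    (hinv : ∀ x, prodW g (w x) * prodW g (w x) = 1) (r : FreeGroup α) :
    FreeGroup.lift (fun x => prodW g (w x)) r = prodW g (expand w r.toWord) := by
  have key : ∀ L : List (α × Bool), (L.map fun x => cond x.2 (prodW g (w x.1)) (prodW g (w x.1))⁻¹).prod =
      prodW g (expand w L) := by
    intro L
    induction L with
    | nil => simp [expand, prodW]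
    | cons a L ih =>
      have h1 : expand w (a :: L) = w a.1 ++ expand w L := by simp [expand]
      rw [h1, prodW_append, List.map_cons, List.prod_cons, ih]
      obtain ⟨x, b⟩ := a
      cases b with
      | true => rfl
      | false =>
        have h2 : (prodW g (w x))⁻¹ = prodW g (w x) := inv_eq_of_mul_eq_one_left (hinv x)
        simp only [cond_false]
        rw [h2]
  conv_lhs => rw [← FreeGroup.mk_toWord (x := r)]
  rw [FreeGroup.lift_mk]
  exact key _

variable {edges : List (α × ℕ × α)} {extra : List (FreeGroup α)}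

/-- A map of generators satisfying the relators. -/
theorem exists_hom (g : ℕ → Equiv.Perm (Fin n)) (w : α → List ℕ) (nodes : List α)
    (hn : ∀ x ∈ coxNodes edges, x ∈ nodes)
    (hinv : ∀ x, prodW g (w x ++ w x) = 1)
    (hc : ∀ x ∈ nodes, ∀ y ∈ nodes,
      prodW g (expand w ((FreeGroup.of x * FreeGroup.of y) ^ coxLabel edges x y).toWord) = 1)
    (he : ∀ r ∈ extra, prodW g (expand w r.toWord) = 1) :
    ∃ φ : CoxPresented α edges extra →* Equiv.Perm (Fin n),
      ∀ x, φ (PresentedGroup.of x) = prodW g (w x) := by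
  have hinv' : ∀ x, prodW g (w x) * prodW g (w x) = 1 := by
    intro x
    have h := hinv x
    rwa [prodW_append] at h
  have hrel : ∀ r ∈ coxRelators edges ∪ {r | r ∈ extra},
      FreeGroup.lift (fun x => prodW g (w x)) r = 1 := by
    rintro r (⟨x, hx, y, hy, rfl⟩ | hr)
    · rw [lift_eq _ _ hinv', hc x (hn x hx) y (hn y hy)]
    · rw [lift_eq _ _ hinv', he r hr]
  refine ⟨PresentedGroup.toGroup hrel, fun x => ?_⟩
  simp

/-- The image of such a map lies in a subgroup containing the images of the generators. -/
theorem map_mem {Γ : Type*} [Group Γ] {rels : Set (FreeGroup α)} (φ : PresentedGroup rels →* Γ) (G : Subgroup Γ)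
    (h : ∀ x, φ (PresentedGroup.of x) ∈ G) (z : PresentedGroup rels) : φ z ∈ G := by
  have h1 : (⊤ : Subgroup (PresentedGroup rels)).map φ ≤ G := by
    rw [← PresentedGroup.closure_range_of, MonoidHom.map_closure, Subgroup.closure_le]
    rintro _ ⟨_, ⟨x, rfl⟩, rfl⟩
    exact h x
  exact h1 ⟨z, trivial, rfl⟩

/-- An injective map of the same cardinality from a simple group. -/
theorem bijective_of_simple {Γ Δ : Type*} [Group Γ] [Group Δ] [Finite Δ] (hs : IsSimpleGroup Γ)
    (hc : Nat.card Δ ≤ Nat.card Γ) (φ : Γ →* Δ) {z : Γ} (hz : φ z ≠ 1) : Function.Bijective φ := by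
  have hinj : Function.Injective φ := by
    rcases hs.eq_bot_or_eq_top_of_normal φ.ker φ.normal_ker with h | h
    · exact (MonoidHom.ker_eq_bot_iff _).mp h
    · exfalso
      apply hz
      have : z ∈ φ.ker := by rw [h]; trivial
      exact this
  exact hinj.bijective_of_nat_card_le hc

end Cfsg.Agent.Lib.PresBridge
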