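import Cfsg.Agent.Lib.OutNorm

/-!
# A criterion for `Out(G)` of order 2, when a power map of `x` is realized only by an outer automorphism
-/

set_option autoImplicit false

namespace Cfsg.Agent.Lib.OutNorm2

open Cfsg Cfsg.Agent.Lib.OutNorm

universe u

/-- The normal form of an automorphism, with a list of representatives of the exponents. -/
theorem normal_form2 {Γ : Type*} [Group Γ] [Finite Γ] {p a b : ℕ} [hp : Fact p.Prime] (E : List ℕ)
    (hE : ∀ e ∈ E, ¬ p ∣ e)
    (hp2 : ¬ p ^ 2 ∣ Nat.card Γ) {x f : Γ} (hx : orderOf x = p) (hfx : f * x * f⁻¹ = x ^ a)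
    (hroot : ∀ k, ¬ p ∣ k → ∃ j, ∃ e ∈ E, k * a ^ j ≡ e [MOD p])
    (hb : b * a ≡ b + 1 [MOD p])
    (hC : ∀ y : Γ, y * x = x * y → ∃ k : ℕ, y = x ^ k)
    (α : MulAut Γ) : ∃ (c : Γ) (e : ℕ), e ∈ E ∧ (MulAut.conj c * α) x = x ^ e ∧ (MulAut.conj c * α) f = f := by
  have hα : orderOf (α x) = p := by rw [MulEquiv.orderOf_eq, hx]
  obtain ⟨c₀, k, hck, hk⟩ := exists_conj_pow hp2 hx hα
  obtain ⟨j, e, heE, hj⟩ := hroot k hk
  have hxk : x ^ (k * a ^ j) = x ^ e := by
    rw [pow_eq_pow_iff_modEq, hx]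
    exact hj
  set c₁ : Γ := f ^ j * c₀ with hc₁
  have hβx : (MulAut.conj c₁ * α) x = x ^ e := by
    have h1 := conj_pow_pow hfx j k
    rw [hxk] at h1
    rw [← hck] at h1
    calc (MulAut.conj c₁ * α) x = f ^ j * (c₀ * α x * c₀⁻¹) * (f ^ j)⁻¹ := by
          simp only [MulAut.mul_apply, MulAut.conj_apply]
          rw [hc₁]
          group
      _ = x ^ e := h1
  set β := MulAut.conj c₁ * α with hβ
  have h2 : β f * x ^ e * (β f)⁻¹ = (x ^ e) ^ a := by
    have h1 := congrArg β hfx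
    simp only [map_mul, map_inv, map_pow, hβx] at h1
    exact h1
  have hfe : f * x ^ e * f⁻¹ = (x ^ e) ^ a := by
    rw [← conj_pow, hfx, ← pow_mul, ← pow_mul, mul_comm]
  have h3e : (f⁻¹ * β f) * x ^ e = x ^ e * (f⁻¹ * β f) := by
    have h4 : β f * x ^ e = (x ^ e) ^ a * β f := by rw [← h2]; group
    have h6 : f⁻¹ * (x ^ e) ^ a = x ^ e * f⁻¹ := by
      rw [← hfe]; group
    calc (f⁻¹ * β f) * x ^ e = f⁻¹ * (β f * x ^ e) := by group
      _ = f⁻¹ * ((x ^ e) ^ a * β f) := by rw [h4]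
      _ = (f⁻¹ * (x ^ e) ^ a) * β f := by group
      _ = x ^ e * (f⁻¹ * β f) := by rw [h6]; group
  have hcop : Nat.Coprime e (orderOf x) := by
    rw [hx, Nat.coprime_comm]
    exact (Nat.Prime.coprime_iff_not_dvd hp.out).mpr (hE e heE)
  obtain ⟨m, hm⟩ := exists_pow_eq_self_of_coprime hcop
  have h3 : (f⁻¹ * β f) * x = x * (f⁻¹ * β f) := by
    have hcomm : Commute (f⁻¹ * β f) (x ^ e) := h3e
    have := hcomm.pow_right m
    rw [hm] at this
    exact this
  obtain ⟨e', he⟩ := hC _ h3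
  have h4 : β f = f * x ^ e' := by rw [← he]; group
  set i := b * e' with hi
  have h5 : x ^ (i + e') = x ^ (i * a) := by
    rw [pow_eq_pow_iff_modEq, hx]
    have : i * a = (b * a) * e' := by rw [hi]; ring
    rw [this]
    have h6 : (b * a) * e' ≡ (b + 1) * e' [MOD p] := hb.mul_right e'
    have h7 : (b + 1) * e' = i + e' := by rw [hi]; ring
    rw [h7] at h6
    exact h6.symm
  have h6 : f * x ^ i * f⁻¹ = x ^ (i * a) := by
    rw [← conj_pow, hfx, ← pow_mul, mul_comm]
  set d : Γ := x ^ (i * a) with hd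
  have h7 : d * β f * d⁻¹ = f := by
    rw [h4]
    have h8 : d * f = f * x ^ i := by rw [← h6]; group
    have h9 : x ^ i * x ^ e' = d := by rw [← pow_add, h5]
    calc d * (f * x ^ e') * d⁻¹ = (d * f) * x ^ e' * d⁻¹ := by group
      _ = f * (x ^ i * x ^ e') * d⁻¹ := by rw [h8]; group
      _ = f := by rw [h9]; group
  refine ⟨d * c₁, e, heE, ?_, ?_⟩
  · have h8 : MulAut.conj (d * c₁) * α = MulAut.conj d * β := by
      rw [hβ, map_mul, mul_assoc]
    rw [h8]
    simp only [MulAut.mul_apply, MulAut.conj_apply]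
    rw [hβx, hd]
    have : Commute (x ^ (i * a)) (x ^ e) := (Commute.refl x).pow_pow _ _
    rw [this.eq]
    group
  · have h8 : MulAut.conj (d * c₁) * α = MulAut.conj d * β := by
      rw [hβ, map_mul, mul_assoc]
    rw [h8]
    simp only [MulAut.mul_apply, MulAut.conj_apply]
    exact h7

/-- The criterion for `Out` to have order two: rigidity of `x` and `f`, and an outer automorphism realizing the
other class of powers. -/
theorem card_out_eq_two' {Γ : Type u} [Group Γ] {x f : Γ} {e : ℕ}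
    (hnf : ∀ α : MulAut Γ, ∃ c : Γ, ((MulAut.conj c * α) x = x ∨ (MulAut.conj c * α) x = x ^ e) ∧
      (MulAut.conj c * α) f = f)
    (hrig : ∀ β : MulAut Γ, β x = x → β f = f → β = 1)
    (σ : MulAut Γ) (hσx : σ x = x ^ e) (hσf : σ f = f) (hσ : σ ∉ Inn Γ) : Nat.card (Out Γ) = 2 := by
  show (Inn Γ).index = 2
  rw [Subgroup.index_eq_two_iff_exists_notMem_and]
  refine ⟨σ⁻¹, fun h => hσ (by simpa using (Inn Γ).inv_mem h), fun α => ?_⟩
  obtain ⟨c, h1, h2⟩ := hnf α
  have hinv : ∀ z, σ z = z → σ⁻¹ z = z := fun z hz => by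
    have := MulAut.inv_apply_self Γ σ z
    rwa [hz] at this
  rcases h1 with h1 | h1
  · right
    have h3 := hrig _ h1 h2
    refine ⟨c⁻¹, ?_⟩
    have h4 : α = (MulAut.conj c)⁻¹ := eq_inv_of_mul_eq_one_right h3
    rw [h4, map_inv]
  · left
    have h3 : σ⁻¹ * (MulAut.conj c * α) = 1 := by
      apply hrig
      · show σ⁻¹ ((MulAut.conj c * α) x) = x
        rw [h1, ← hσx]
        exact MulAut.inv_apply_self Γ σ x
      · show σ⁻¹ ((MulAut.conj c * α) f) = f
        rw [h2]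
        exact hinv f hσf
    have h4 : MulAut.conj c * α = σ := by
      have := inv_mul_eq_one.mp h3
      exact this.symm
    refine ⟨c⁻¹, ?_⟩
    have h5 : α = (MulAut.conj c)⁻¹ * σ := by rw [← h4]; group
    rw [h5, map_inv]
    group

end Cfsg.Agent.Lib.OutNorm2
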