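import Mathlib

/-!
# `p`-rationality of sums of roots of unity

Galois criterion: a sum of `n`-th roots of unity lies in the cyclotomic field `ℚ(ζ_{m})` iff it is
invariant under the substitutions `μ ↦ μ ^ t` fixing `m`-th roots of unity.
-/

set_option autoImplicit false
set_option linter.style.haveILetI false

namespace Cfsg.Agent.Lib.PRational

open Polynomial

/-- The field generated by `exp(2πi/N)`. -/
noncomputable abbrev cycL (N : ℕ) : IntermediateField ℚ ℂ :=
  IntermediateField.adjoin ℚ {Complex.exp (2 * Real.pi * Complex.I / N)}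

theorem isPrimitiveRoot_exp' {N : ℕ} (hN : N ≠ 0) :
    IsPrimitiveRoot (Complex.exp (2 * Real.pi * Complex.I / N)) N :=
  Complex.isPrimitiveRoot_exp N hN

instance isCyc_cycL (N : ℕ) [NeZero N] : IsCyclotomicExtension {N} ℚ (cycL N) := by
  have hζ := isPrimitiveRoot_exp' (NeZero.ne N)
  have halg : IsAlgebraic ℚ (Complex.exp (2 * Real.pi * Complex.I / N)) := by
    refine ⟨X ^ N - 1, (monic_X_pow_sub_C (1 : ℚ) (NeZero.ne N)).ne_zero, ?_⟩
    simp [hζ.pow_eq_one]
  change IsCyclotomicExtension {N} ℚ (cycL N).toSubalgebra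
  rw [IntermediateField.adjoin_simple_toSubalgebra_of_isAlgebraic halg]
  exact hζ.adjoin_isCyclotomicExtension ℚ

theorem mem_cycL_of_pow {N : ℕ} (hN : N ≠ 0) {y : ℂ} (hy : y ^ N = 1) : y ∈ cycL N := by
  haveI : NeZero N := ⟨hN⟩
  obtain ⟨j, -, rfl⟩ := (isPrimitiveRoot_exp' hN).eq_pow_of_pow_eq_one hy
  exact pow_mem (IntermediateField.mem_adjoin_simple_self ℚ _) j

/-- Every element of the Galois group is a power substitution. -/
theorem exists_pow_of_aut {N : ℕ} [NeZero N] (σ : Gal(cycL N/ℚ)) :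
    ∃ t : ℕ, t.Coprime N ∧ ∀ y : cycL N, y ^ N = 1 → σ y = y ^ t := by
  have hpos : 0 < N := NeZero.pos N
  have hirr : Irreducible (cyclotomic N ℚ) := cyclotomic.irreducible_rat hpos
  let z : cycL N := IsCyclotomicExtension.zeta N ℚ (cycL N)
  have hz : IsPrimitiveRoot z N := IsCyclotomicExtension.zeta_spec N ℚ (cycL N)
  let u : (ZMod N)ˣ := IsCyclotomicExtension.autEquivPow (cycL N) hirr σ
  refine ⟨(u : ZMod N).val, (ZMod.val_coe_unit_coprime u), fun y hy => ?_⟩
  have hspec : σ z = z ^ (u : ZMod N).val := (IsPrimitiveRoot.autToPow_spec ℚ hz σ).symm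
  obtain ⟨j, -, rfl⟩ := hz.eq_pow_of_pow_eq_one hy
  rw [map_pow, hspec]
  ring

/-- Every power substitution is in the Galois group. -/
theorem exists_aut_of_pow {N : ℕ} [NeZero N] {t : ℕ} (ht : t.Coprime N) :
    ∃ σ : Gal(cycL N/ℚ), ∀ y : cycL N, y ^ N = 1 → σ y = y ^ t := by
  have hpos : 0 < N := NeZero.pos N
  have hirr : Irreducible (cyclotomic N ℚ) := cyclotomic.irreducible_rat hpos
  let z : cycL N := IsCyclotomicExtension.zeta N ℚ (cycL N)
  have hz : IsPrimitiveRoot z N := IsCyclotomicExtension.zeta_spec N ℚ (cycL N)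
  have hμ : IsPrimitiveRoot (z ^ t) N := hz.pow_of_coprime t ht
  refine ⟨IsCyclotomicExtension.fromZetaAut hμ hirr, fun y hy => ?_⟩
  have hspec := IsCyclotomicExtension.fromZetaAut_spec hμ hirr
  obtain ⟨j, -, rfl⟩ := hz.eq_pow_of_pow_eq_one hy
  rw [map_pow]
  show (IsCyclotomicExtension.fromZetaAut hμ hirr) (IsCyclotomicExtension.zeta N ℚ (cycL N)) ^ j = _
  rw [hspec]
  ring

variable {ι : Type*} [Fintype ι]

/-- A sum of `n`-th roots of unity in `ℚ(ζ_m)` is fixed by the substitutions `μ ↦ μ ^ k` with `k`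
prime to `n` and `k ≡ 1` modulo `gcd(n, m)`. -/
theorem sum_pow_eq_of_mem_adjoin (μ : ι → ℂ) {n m k : ℕ} (hn : n ≠ 0) (hm : m ≠ 0)
    (hμ : ∀ i, μ i ^ n = 1) (hk : k.Coprime n) (hkm : k ≡ 1 [MOD Nat.gcd n m])
    (hx : ∑ i, μ i ∈ IntermediateField.adjoin ℚ
      ({Complex.exp (2 * Real.pi * Complex.I / m)} : Set ℂ)) :
    ∑ i, μ i ^ k = ∑ i, μ i := by
  classical
  obtain ⟨t, ht1, ht2⟩ := Nat.chineseRemainder' hkm
  have hN : n * m ≠ 0 := mul_ne_zero hn hm
  haveI : NeZero (n * m) := ⟨hN⟩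
  have htn : t.Coprime n := by
    have := (Nat.ModEq.gcd_eq ht1)
    rw [Nat.Coprime, this]
    exact hk
  have htm : t.Coprime m := by
    have := (Nat.ModEq.gcd_eq ht2)
    rw [Nat.Coprime, this]
    simp
  have ht : t.Coprime (n * m) := Nat.Coprime.mul_right htn htm
  obtain ⟨σ, hσ⟩ := exists_aut_of_pow ht
  -- the roots
  have hmem : ∀ i, μ i ∈ cycL (n * m) := fun i => by
    refine mem_cycL_of_pow hN ?_
    rw [pow_mul, hμ, one_pow]
  let μ' : ι → cycL (n * m) := fun i => ⟨μ i, hmem i⟩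
  have hμ' : ∀ i, (μ' i) ^ (n * m) = 1 := fun i => by
    apply Subtype.ext
    show μ i ^ (n * m) = 1
    rw [pow_mul, hμ, one_pow]
  -- the value
  have hxmem : ∑ i, μ i ∈ cycL (n * m) := sum_mem fun i _ => hmem i
  have hxeq : ((∑ i, μ' i : cycL (n * m)) : ℂ) = ∑ i, μ i := by
    push_cast
    rfl
  -- the fixed field
  have hη : Complex.exp (2 * Real.pi * Complex.I / m) ^ (n * m) = 1 := by
    rw [pow_mul', (isPrimitiveRoot_exp' hm).pow_eq_one, one_pow]
  let η' : cycL (n * m) := ⟨_, mem_cycL_of_pow hN hη⟩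
  have hη'm : η' ^ m = 1 := by
    apply Subtype.ext
    show Complex.exp (2 * Real.pi * Complex.I / m) ^ m = 1
    exact (isPrimitiveRoot_exp' hm).pow_eq_one
  have hη'N : η' ^ (n * m) = 1 := by
    rw [pow_mul', hη'm, one_pow]
  have hfix : σ η' = η' := by
    rw [hσ η' hη'N]
    have h2 : t % m = 1 % m := ht2
    have h3 : η' ^ t = η' ^ (t % m) := by
      conv_lhs => rw [← Nat.mod_add_div t m, pow_add, pow_mul, hη'm, one_pow, mul_one]
    have h4 : η' ^ (1 % m) = η' := by
      conv_rhs => rw [← pow_one η', ← Nat.mod_add_div 1 m, pow_add, pow_mul, hη'm, one_pow, mul_one]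
    rw [h3, h2, h4]
  have hind : ∀ y ∈ IntermediateField.adjoin ℚ
      ({Complex.exp (2 * Real.pi * Complex.I / m)} : Set ℂ),
      ∃ h : y ∈ cycL (n * m), σ ⟨y, h⟩ = ⟨y, h⟩ := by
    intro y hy
    induction hy using IntermediateField.adjoin_induction with
    | mem x hx =>
      rw [Set.mem_singleton_iff] at hx
      subst hx
      exact ⟨η'.2, hfix⟩
    | algebraMap x =>
      refine ⟨IntermediateField.algebraMap_mem _ x, ?_⟩
      have := σ.commutes x
      exact this
    | add x y _ _ hx hy =>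
      obtain ⟨h1, h2⟩ := hx
      obtain ⟨h3, h4⟩ := hy
      refine ⟨add_mem h1 h3, ?_⟩
      have := map_add σ (⟨x, h1⟩ : cycL (n * m)) ⟨y, h3⟩
      rw [h2, h4] at this
      exact this
    | inv x _ hx =>
      obtain ⟨h1, h2⟩ := hx
      refine ⟨inv_mem h1, ?_⟩
      have := map_inv₀ σ (⟨x, h1⟩ : cycL (n * m))
      rw [h2] at this
      exact this
    | mul x y _ _ hx hy =>
      obtain ⟨h1, h2⟩ := hx
      obtain ⟨h3, h4⟩ := hy
      refine ⟨mul_mem h1 h3, ?_⟩
      have := map_mul σ (⟨x, h1⟩ : cycL (n * m)) ⟨y, h3⟩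
      rw [h2, h4] at this
      exact this
  obtain ⟨hh, hfixw⟩ := hind _ hx
  have hwx' : (⟨∑ i, μ i, hxmem⟩ : cycL (n * m)) = ∑ i, μ' i := by
    apply Subtype.ext
    rw [hxeq]
  rw [hwx', map_sum] at hfixw
  have h1 : ∑ i, μ i ^ t = ∑ i, μ i := by
    have h2 := congrArg (Subtype.val) hfixw
    rw [← hxeq]
    have h3 : ((∑ i, σ (μ' i) : cycL (n * m)) : ℂ) = ∑ i, μ i ^ t := by
      push_cast
      refine Finset.sum_congr rfl fun i _ => ?_
      rw [hσ _ (hμ' i)]
      rfl
    rw [← h3]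
    exact h2
  rw [← h1]
  refine Finset.sum_congr rfl fun i _ => ?_
  have h2 : k % n = t % n := ht1.symm
  rw [← Nat.mod_add_div k n, ← Nat.mod_add_div t n, pow_add, pow_add, pow_mul, pow_mul, hμ, one_pow,
    one_pow, mul_one, mul_one, h2]

/-- A sum of `q * m`-th roots of unity fixed by the substitutions `μ ↦ μ ^ t` with `t` prime to
`q * m` and `t ≡ 1` modulo `m` lies in `ℚ(ζ_m)`. -/
theorem mem_adjoin_of_sum_pow_eq (μ : ι → ℂ) {q m : ℕ} (hq : q ≠ 0) (hm : m ≠ 0)
    (hμ : ∀ i, μ i ^ (q * m) = 1)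
    (h : ∀ t : ℕ, t.Coprime (q * m) → t ≡ 1 [MOD m] → ∑ i, μ i ^ t = ∑ i, μ i) :
    ∑ i, μ i ∈ IntermediateField.adjoin ℚ
      ({Complex.exp (2 * Real.pi * Complex.I / m)} : Set ℂ) := by
  classical
  have hN : q * m ≠ 0 := mul_ne_zero hq hm
  haveI : NeZero (q * m) := ⟨hN⟩
  haveI : IsGalois ℚ (cycL (q * m)) := IsCyclotomicExtension.isGalois {q * m} ℚ (cycL (q * m))
  haveI : FiniteDimensional ℚ (cycL (q * m)) :=
    IsCyclotomicExtension.finiteDimensional {q * m} ℚ (cycL (q * m))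
  have hmem : ∀ i, μ i ∈ cycL (q * m) := fun i => mem_cycL_of_pow hN (hμ i)
  let μ' : ι → cycL (q * m) := fun i => ⟨μ i, hmem i⟩
  have hμ' : ∀ i, (μ' i) ^ (q * m) = 1 := fun i => by
    apply Subtype.ext
    exact hμ i
  have hη : Complex.exp (2 * Real.pi * Complex.I / m) ^ (q * m) = 1 := by
    rw [pow_mul', (isPrimitiveRoot_exp' hm).pow_eq_one, one_pow]
  let η' : cycL (q * m) := ⟨_, mem_cycL_of_pow hN hη⟩
  let K : IntermediateField ℚ (cycL (q * m)) := IntermediateField.adjoin ℚ {η'}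
  have hfixed : ∑ i, μ' i ∈ K := by
    rw [← IsGalois.fixedField_fixingSubgroup K, IntermediateField.mem_fixedField_iff]
    intro σ hσ
    obtain ⟨t, ht, hσt⟩ := exists_pow_of_aut σ
    have hσK : σ η' = η' := by
      have hmemK : η' ∈ K := IntermediateField.mem_adjoin_simple_self ℚ η'
      exact hσ ⟨η', hmemK⟩
    have hη'm : η' ^ m = 1 := by
      apply Subtype.ext
      exact (isPrimitiveRoot_exp' hm).pow_eq_one
    have hη'prim : IsPrimitiveRoot η' m := by
      rw [← IsPrimitiveRoot.coe_submonoidClass_iff]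
      exact isPrimitiveRoot_exp' hm
    have hη'N : η' ^ (q * m) = 1 := by
      rw [pow_mul', hη'm, one_pow]
    have hmod : t ≡ 1 [MOD m] := by
      have h1 : η' ^ t = η' := by
        rw [← hσt η' hη'N, hσK]
      rcases Nat.eq_zero_or_pos t with ht0 | ht0
      · subst ht0
        have h2 : q * m = 1 := by simpa using ht
        have h3 : m = 1 := Nat.eq_one_of_mul_eq_one_left h2
        subst h3
        exact Nat.modEq_one
      · have hη0 : η' ≠ 0 := hη'prim.ne_zero hm
        have h2 : η' ^ (t - 1) = 1 := by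
          have h3 : η' ^ (t - 1) * η' = 1 * η' := by
            rw [← pow_succ, Nat.sub_add_cancel ht0, h1, one_mul]
          exact mul_right_cancel₀ hη0 h3
        have h4 : m ∣ t - 1 := hη'prim.dvd_of_pow_eq_one _ h2
        exact ((Nat.modEq_iff_dvd' ht0).mpr h4).symm
    have h1 := h t ht hmod
    rw [map_sum]
    apply Subtype.ext
    push_cast
    have h2 : ∀ i, ((σ (μ' i) : cycL (q * m)) : ℂ) = μ i ^ t := fun i => by
      rw [hσt _ (hμ' i)]
      rfl
    simp only [h2]
    exact h1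
  have hsum : ((∑ i, μ' i : cycL (q * m)) : ℂ) = ∑ i, μ i := by
    push_cast
    rfl
  rw [← hsum]
  have hind : ∀ y ∈ K, (y : ℂ) ∈ IntermediateField.adjoin ℚ
      ({Complex.exp (2 * Real.pi * Complex.I / m)} : Set ℂ) := by
    intro y hy
    induction hy using IntermediateField.adjoin_induction with
    | mem x hx =>
      rw [Set.mem_singleton_iff] at hx
      subst hx
      exact IntermediateField.mem_adjoin_simple_self ℚ _
    | algebraMap x =>
      have h1 : ((algebraMap ℚ (cycL (q * m)) x : cycL (q * m)) : ℂ) = algebraMap ℚ ℂ x := by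
        simp
      rw [h1]
      exact IntermediateField.algebraMap_mem _ x
    | add x y _ _ hx hy => exact add_mem hx hy
    | inv x _ hx =>
      rw [IntermediateField.coe_inv]
      exact inv_mem hx
    | mul x y _ _ hx hy => exact mul_mem hx hy
  exact hind _ hfixed

end Cfsg.Agent.Lib.PRational
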