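import Mathlib
import Cfsg.Agent.Lib.CharKernel
import Cfsg.Agent.Lib.CharDecomp
import Cfsg.Agent.Lib.CharInduction
import Cfsg.Agent.Lib.CharPow
import Cfsg.Agent.Lib.CharGalois
import Cfsg.Agent.Lib.PRational
import Cfsg.Agent.Lib.Monomial

/-!
# Fields of values of characters of `p`-groups

Degree of the field of values as an index in the Galois group of a cyclotomic field; behaviour under
induction from a normal subgroup of prime index; the order of a `p`-group with a faithful irreducible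
character is bounded by its degree and its field of values.
-/

set_option autoImplicit false
set_option linter.unusedVariables false
set_option linter.unusedSectionVars false
set_option linter.style.haveILetI false
set_option linter.unusedSimpArgs false

namespace Cfsg.Agent.Lib.FieldDegP

open Cfsg Cfsg.Agent.Lib.CharBasic Cfsg.Agent.Lib.CharInd Cfsg.Agent.Lib.PRational
open Cfsg.Agent.Lib.CharInduction Cfsg.Agent.Lib.CharKernel
open scoped ComplexConjugate

universe u

/-- Degree of the field generated by the values of a function. -/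
noncomputable abbrev fieldDeg {X : Type*} (φ : X → ℂ) : ℕ :=
  Module.finrank ℚ (IntermediateField.adjoin ℚ (Set.range φ))

section Galois

variable (N : ℕ) [NeZero N]

instance instGal : IsGalois ℚ (cycL N) := IsCyclotomicExtension.isGalois {N} ℚ (cycL N)

instance instFD : FiniteDimensional ℚ (cycL N) := IsCyclotomicExtension.finiteDimensional {N} ℚ (cycL N)

/-- The subgroup of the Galois group fixing a set of complex numbers. -/
def fixS (S : Set ℂ) : Subgroup Gal(cycL N/ℚ) where
  carrier := {σ | ∀ y : cycL N, (y : ℂ) ∈ S → σ y = y}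
  mul_mem' := by
    intro a b ha hb y hy
    change a (b y) = y
    rw [hb y hy, ha y hy]
  one_mem' := fun y _ => rfl
  inv_mem' := by
    intro a ha y hy
    change a.symm y = y
    rw [AlgEquiv.symm_apply_eq, ha y hy]

theorem mem_fixS {S : Set ℂ} {σ : Gal(cycL N/ℚ)} :
    σ ∈ fixS N S ↔ ∀ y : cycL N, (y : ℂ) ∈ S → σ y = y := Iff.rfl

theorem finrank_adjoin_eq_index (S : Set ℂ) (hS : S ⊆ cycL N) :
    Module.finrank ℚ (IntermediateField.adjoin ℚ S) = (fixS N S).index := by
  let S' : Set (cycL N) := Subtype.val ⁻¹' S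
  let E' : IntermediateField ℚ (cycL N) := IntermediateField.adjoin ℚ S'
  let f : cycL N →ₐ[ℚ] ℂ := ((algebraMap (cycL N) ℂ : cycL N →+* ℂ)).toRatAlgHom
  have hf : ∀ y : cycL N, f y = (y : ℂ) := fun y => rfl
  have h1 : E'.map f = IntermediateField.adjoin ℚ S := by
    rw [IntermediateField.adjoin_map]
    congr 1
    ext y
    constructor
    · rintro ⟨z, hz, rfl⟩
      exact hz
    · intro hy
      exact ⟨⟨y, hS hy⟩, hy, rfl⟩
  have h2 : Module.finrank ℚ E' = Module.finrank ℚ (E'.map f) :=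
    (E'.equivMap f).toLinearEquiv.finrank_eq
  have h3 : E'.fixingSubgroup = fixS N S := by
    ext σ
    rw [IntermediateField.mem_fixingSubgroup_iff]
    constructor
    · intro h y hy
      exact h y (IntermediateField.subset_adjoin ℚ S' hy)
    · intro h y hy
      induction hy using IntermediateField.adjoin_induction with
      | mem x hx => exact h x hx
      | algebraMap x => exact σ.commutes x
      | add x y _ _ hx hy => rw [map_add, hx, hy]
      | inv x _ hx => rw [map_inv₀, hx]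
      | mul x y _ _ hx hy => rw [map_mul, hx, hy]
  rw [← h1, ← h2, ← h3]
  exact IntermediateField.finrank_eq_fixingSubgroup_index _ E'

end Galois

section Char

variable {X : Type*} [Group X] [Finite X] (N : ℕ) [NeZero N]

theorem char_mem (hN : Nat.card X ∣ N) {φ : X → ℂ} (hφ : IsCharacter X φ) (g : X) : φ g ∈ cycL N := by
  obtain ⟨m, μ, h1, h2⟩ := Cfsg.Agent.Lib.CharGalois.exists_roots hφ g
  have h3 := h2 1
  rw [pow_one] at h3
  rw [h3]
  refine sum_mem fun i _ => mem_cycL_of_pow (NeZero.ne N) ?_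
  obtain ⟨c, hc⟩ := hN
  rw [pow_one, hc, pow_mul, h1, one_pow]

theorem range_subset (hN : Nat.card X ∣ N) {φ : X → ℂ} (hφ : IsCharacter X φ) :
    Set.range φ ⊆ cycL N := by
  rintro _ ⟨g, rfl⟩
  exact char_mem N hN hφ g

theorem gal_char (hN : Nat.card X ∣ N) {φ : X → ℂ} (hφ : IsCharacter X φ) (σ : Gal(cycL N/ℚ)) {k : ℕ}
    (hσ : ∀ y : cycL N, y ^ N = 1 → σ y = y ^ k) (g : X) :
    ((σ ⟨φ g, char_mem N hN hφ g⟩ : cycL N) : ℂ) = φ (g ^ k) := by
  obtain ⟨m, μ, h1, h2⟩ := Cfsg.Agent.Lib.CharGalois.exists_roots hφ g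
  have hμ : ∀ i, μ i ^ N = 1 := by
    intro i
    obtain ⟨c, hc⟩ := hN
    rw [hc, pow_mul, h1, one_pow]
  have hμL : ∀ i, μ i ∈ cycL N := fun i => mem_cycL_of_pow (NeZero.ne N) (hμ i)
  have h3 : (⟨φ g, char_mem N hN hφ g⟩ : cycL N) = ∑ i, ⟨μ i, hμL i⟩ := by
    apply Subtype.ext
    have h4 := h2 1
    rw [pow_one] at h4
    change φ g = ((∑ i, ⟨μ i, hμL i⟩ : cycL N) : ℂ)
    rw [h4]
    simp
  rw [h3, map_sum, h2 k]
  push_cast
  refine Finset.sum_congr rfl fun i _ => ?_
  rw [hσ]
  · simp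
  · apply Subtype.ext
    simp [hμ i]

theorem mem_fixS_char (hN : Nat.card X ∣ N) {φ : X → ℂ} (hφ : IsCharacter X φ) (σ : Gal(cycL N/ℚ)) {k : ℕ}
    (hσ : ∀ y : cycL N, y ^ N = 1 → σ y = y ^ k) :
    σ ∈ fixS N (Set.range φ) ↔ ∀ g, φ (g ^ k) = φ g := by
  rw [mem_fixS]
  constructor
  · intro h g
    rw [← gal_char N hN hφ σ hσ g]
    rw [h ⟨φ g, char_mem N hN hφ g⟩ ⟨g, rfl⟩]
  · rintro h ⟨y, hy⟩ ⟨g, hg⟩
    simp only at hg
    subst hg
    apply Subtype.ext
    rw [gal_char N hN hφ σ hσ g, h]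

theorem fieldDeg_eq_index (hN : Nat.card X ∣ N) {φ : X → ℂ} (hφ : IsCharacter X φ) :
    fieldDeg φ = (fixS N (Set.range φ)).index :=
  finrank_adjoin_eq_index N _ (range_subset N hN hφ)

theorem finiteDimensional_adjoin {φ : X → ℂ} (hφ : IsCharacter X φ) :
    FiniteDimensional ℚ (IntermediateField.adjoin ℚ (Set.range φ)) := by
  haveI : NeZero (Nat.card X) := ⟨Nat.card_pos.ne'⟩
  have h1 : IntermediateField.adjoin ℚ (Set.range φ) ≤ cycL (Nat.card X) :=
    IntermediateField.adjoin_le_iff.mpr (range_subset _ dvd_rfl hφ)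
  exact Module.Finite.of_injective (IntermediateField.inclusion h1).toLinearMap (RingHom.injective _)

end Char


section Ind

variable {G : Type u} [Group G] [Fintype G] (H : Subgroup G)

theorem ind_pow_eq (ψ : H → ℂ) {k : ℕ} (hk : (Nat.card G).Coprime k) (g : G) :
    indFun H (fun h => ψ (h ^ k)) g = indFun H ψ (g ^ k) := by
  rw [indFun_apply, indFun_apply]
  congr 1
  refine Finset.sum_congr rfl fun x _ => ?_
  have h1 : x⁻¹ * g ^ k * x = (x⁻¹ * g * x) ^ k := by
    have := conj_pow (i := k) (a := x⁻¹) (b := g)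
    simpa using this.symm
  rw [h1]
  by_cases hy : x⁻¹ * g * x ∈ H
  · have hy' : (x⁻¹ * g * x) ^ k ∈ H := H.pow_mem hy k
    rw [extendByZero_of_mem H _ hy', extendByZero_of_mem H _ hy]
    rfl
  · have hy' : (x⁻¹ * g * x) ^ k ∉ H := fun h => hy ((CharPow.pow_mem_iff hk H _).mp h)
    rw [extendByZero_of_not_mem H _ hy', extendByZero_of_not_mem H _ hy]

theorem card_dvd_aux : Nat.card H ∣ Nat.card G := Subgroup.card_subgroup_dvd_card H

variable {H}

theorem fix_le {N : ℕ} [NeZero N] (hN : Nat.card G = N) {ψ : H → ℂ} (hψ : IsCharacter H ψ) :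
    fixS N (Set.range ψ) ≤ fixS N (Set.range (indFun H ψ)) := by
  intro σ hσ
  obtain ⟨k, hk, hσk⟩ := exists_pow_of_aut σ
  have hd : Nat.card H ∣ N := hN ▸ Subgroup.card_subgroup_dvd_card H
  have hχ : IsCharacter G (indFun H ψ) := indFun_isCharacter H hψ
  rw [mem_fixS_char N hd hψ σ hσk] at hσ
  rw [mem_fixS_char N (by rw [hN]) hχ σ hσk]
  intro g
  rw [← ind_pow_eq H ψ (by rw [hN]; exact hk.symm) g]
  congr 2
  funext h
  exact hσ h

theorem conjBy_eq_of_mem (hN : H.Normal) {ψ : H → ℂ} (hψ : IsCharacter H ψ) {x : G} (hx : x ∈ H) :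
    conjBy H hN x ψ = ψ := by
  funext n
  rw [conjBy_apply]
  have h1 := isClassFunction_of_isCharacter hψ n ⟨x, hx⟩
  rw [← h1]
  rfl

theorem exists_conj_of_ind_eq (hN : H.Normal) {φ ψ : H → ℂ} (hφ : IsIrrCharacter H φ)
    (hψ : IsIrrCharacter H ψ) (h : indFun H φ = indFun H ψ)
    (hirr : IsIrrCharacter G (indFun H ψ)) : ∃ x, φ = conjBy H hN x ψ := by
  classical
  haveI : Fintype H := Fintype.ofFinite H
  by_contra hcon
  push Not at hcon
  have h1 : classInner (indFun H φ) (indFun H ψ) = 1 := by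
    rw [h]
    exact classInner_irr_self hirr
  rw [frobenius H φ (isClassFunction_of_isCharacter (IsIrrCharacter.isCharacter hirr))] at h1
  have h2 : (fun n : H => indFun H ψ n) = (Nat.card H : ℂ)⁻¹ • ∑ x : G, conjBy H hN x ψ :=
    indFun_restrict_normal H hN ψ
  rw [h2, classInner_smul_right, classInner_sum_right] at h1
  have h3 : ∑ x : G, classInner φ (conjBy H hN x ψ) = 0 := by
    refine Finset.sum_eq_zero fun x _ => ?_
    exact classInner_irr_ne hφ (isIrrCharacter_conjBy H hN x hψ) (hcon x)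
  rw [h3, mul_zero] at h1
  exact zero_ne_one h1

/-- A proper subgroup of prime index is maximal. -/
theorem eq_top_of_index_prime {p : ℕ} (hp : p.Prime) (hidx : H.index = p) {M : Subgroup G} (hM : H ≤ M)
    {x : G} (hx : x ∈ M) (hxH : x ∉ H) : M = ⊤ := by
  have h1 := Subgroup.relIndex_mul_index hM
  rw [hidx] at h1
  have h2 : M.index ∣ p := ⟨_, by rw [← h1, mul_comm]⟩
  rcases (Nat.dvd_prime hp).mp h2 with h3 | h3
  · exact Subgroup.index_eq_one.mp h3
  · exfalso
    rw [h3] at h1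
    have h4 : H.relIndex M = 1 := by
      have hp0 := hp.pos
      nlinarith
    exact hxH (Subgroup.relIndex_eq_one.mp h4 hx)

/-- The kernel of a character of `H`, seen in `G`. -/
def kerIn {ψ : H → ℂ} (hψ : IsCharacter H ψ) : Subgroup G := (charKer hψ).map H.subtype

theorem mem_kerIn {ψ : H → ℂ} (hψ : IsCharacter H ψ) {g : G} :
    g ∈ kerIn hψ ↔ ∃ hg : g ∈ H, ψ ⟨g, hg⟩ = ψ 1 := by
  constructor
  · rintro ⟨n, hn, rfl⟩
    exact ⟨n.2, (mem_charKer hψ).mp hn⟩
  · rintro ⟨hg, h⟩
    exact ⟨⟨g, hg⟩, (mem_charKer hψ).mpr h, rfl⟩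

theorem normal_of_not_fixed {N : ℕ} [NeZero N] (hNc : Nat.card G = N) (hN : H.Normal) {p : ℕ}
    (hp : p.Prime) (hidx : H.index = p) {ψ : H → ℂ} (hψ : IsIrrCharacter H ψ)
    (hχ : IsIrrCharacter G (indFun H ψ)) {σ : Gal(cycL N/ℚ)}
    (hT : σ ∈ fixS N (Set.range (indFun H ψ))) (hU : σ ∉ fixS N (Set.range ψ)) :
    (kerIn (IsIrrCharacter.isCharacter hψ)).Normal := by
  classical
  obtain ⟨k, hk, hσk⟩ := exists_pow_of_aut σ
  have hd : Nat.card H ∣ N := hNc ▸ Subgroup.card_subgroup_dvd_card H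
  have hψc := IsIrrCharacter.isCharacter hψ
  rw [mem_fixS_char N (by rw [hNc]) (IsIrrCharacter.isCharacter hχ) σ hσk] at hT
  rw [mem_fixS_char N hd hψc σ hσk] at hU
  have hkH : (Nat.card H).Coprime k := Nat.Coprime.coprime_dvd_left hd hk.symm
  have hφ : IsIrrCharacter H (fun h => ψ (h ^ k)) := CharPow.isIrr_pow hψ hkH
  have hind : indFun H (fun h => ψ (h ^ k)) = indFun H ψ := by
    funext g
    rw [ind_pow_eq H ψ (by rw [hNc]; exact hk.symm) g, hT]
  obtain ⟨x, hx⟩ := exists_conj_of_ind_eq hN hφ hψ hind hχ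
  have hxH : x ∉ H := by
    intro hxH
    apply hU
    intro g
    rw [conjBy_eq_of_mem hN hψc hxH] at hx
    exact congrFun hx g
  have hkerpow : ∀ n : H, ψ (n ^ k) = ψ 1 ↔ ψ n = ψ 1 := by
    intro n
    rw [← mem_charKer hψc, ← mem_charKer hψc]
    exact CharPow.pow_mem_iff hkH (charKer hψc) n
  have hM : H ≤ Subgroup.normalizer (kerIn hψc : Set G) := by
    intro y hy
    rw [Subgroup.mem_normalizer_iff]
    intro g
    rw [mem_kerIn, mem_kerIn]
    constructor
    · rintro ⟨hg, h⟩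
      refine ⟨H.mul_mem (H.mul_mem hy hg) (H.inv_mem hy), ?_⟩
      rw [← h]
      exact isClassFunction_of_isCharacter hψc ⟨g, hg⟩ ⟨y, hy⟩
    · rintro ⟨hg, h⟩
      have hg' : g ∈ H := by
        have h1 : g = y⁻¹ * (y * g * y⁻¹) * y := by group
        rw [h1]
        exact H.mul_mem (H.mul_mem (H.inv_mem hy) hg) hy
      refine ⟨hg', ?_⟩
      rw [← h]
      exact (isClassFunction_of_isCharacter hψc ⟨g, hg'⟩ ⟨y, hy⟩).symm
  have hxM : x ∈ Subgroup.normalizer (kerIn hψc : Set G) := by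
    rw [Subgroup.mem_normalizer_iff]
    intro g
    rw [mem_kerIn, mem_kerIn]
    have hval : ∀ hg : g ∈ H, ψ ⟨x * g * x⁻¹, hN.conj_mem g hg x⟩ = ψ (⟨g, hg⟩ ^ k) := by
      intro hg
      have h1 := congrFun hx ⟨g, hg⟩
      rw [conjBy_apply] at h1
      exact h1.symm
    constructor
    · rintro ⟨hg, h⟩
      refine ⟨hN.conj_mem g hg x, ?_⟩
      rw [hval hg, hkerpow]
      exact h
    · rintro ⟨hg, h⟩
      have hg' : g ∈ H := by
        have h1 : g = x⁻¹ * (x * g * x⁻¹) * x := by group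
        rw [h1]
        have := hN.conj_mem _ hg x⁻¹
        simpa using this
      refine ⟨hg', ?_⟩
      rw [hval hg', hkerpow] at h
      exact h
  have htop := eq_top_of_index_prime hp hidx hM hxM hxH
  exact Subgroup.normalizer_eq_top_iff.mp htop

theorem relIndex_le {N : ℕ} [NeZero N] (hNc : Nat.card G = N) (hN : H.Normal) {ψ : H → ℂ}
    (hψ : IsIrrCharacter H ψ) (hχ : IsIrrCharacter G (indFun H ψ)) :
    (fixS N (Set.range ψ)).relIndex (fixS N (Set.range (indFun H ψ))) ≤ H.index := by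
  classical
  have hd : Nat.card H ∣ N := hNc ▸ Subgroup.card_subgroup_dvd_card H
  have hψc := IsIrrCharacter.isCharacter hψ
  set T := fixS N (Set.range (indFun H ψ)) with hT
  set U := fixS N (Set.range ψ) with hU
  let ψL : H → cycL N := fun h => ⟨ψ h, char_mem N hd hψc h⟩
  have hconjm : ∀ x : G, IsCharacter H (conjBy H hN x ψ) := fun x => isCharacter_conjBy H hN x hψc
  let cL : G → H → cycL N := fun x n => ⟨conjBy H hN x ψ n, char_mem N hd (hconjm x) n⟩
  have hstab : MulAction.stabilizer T ψL = U.subgroupOf T := by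
    ext σ
    rw [MulAction.mem_stabilizer_iff, Subgroup.mem_subgroupOf, hU, mem_fixS]
    constructor
    · rintro h y ⟨n, hn⟩
      have h1 := congrFun h n
      have h2 : y = ψL n := Subtype.ext hn.symm
      rw [h2]
      exact h1
    · intro h
      funext n
      exact h (ψL n) ⟨n, rfl⟩
  have horb : MulAction.orbit T ψL ⊆ Set.range cL := by
    rintro _ ⟨σ, rfl⟩
    obtain ⟨k, hk, hσk⟩ := exists_pow_of_aut σ.1
    have hT' : σ.1 ∈ fixS N (Set.range (indFun H ψ)) := σ.2
    rw [mem_fixS_char N (by rw [hNc]) (IsIrrCharacter.isCharacter hχ) σ.1 hσk] at hT'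
    have hkH : (Nat.card H).Coprime k := Nat.Coprime.coprime_dvd_left hd hk.symm
    have hφ : IsIrrCharacter H (fun h => ψ (h ^ k)) := CharPow.isIrr_pow hψ hkH
    have hind : indFun H (fun h => ψ (h ^ k)) = indFun H ψ := by
      funext g
      rw [ind_pow_eq H ψ (by rw [hNc]; exact hk.symm) g, hT']
    obtain ⟨x, hx⟩ := exists_conj_of_ind_eq hN hφ hψ hind hχ
    refine ⟨x, ?_⟩
    funext n
    apply Subtype.ext
    have h1 := gal_char N hd hψc σ.1 hσk n
    change conjBy H hN x ψ n = ((σ.1 (ψL n) : cycL N) : ℂ)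
    rw [← hx]
    exact h1.symm
  have hrange : Set.range cL = Set.range (fun q : G ⧸ H => cL (Quotient.out q)) := by
    ext f
    constructor
    · rintro ⟨x, rfl⟩
      refine ⟨(x : G ⧸ H), ?_⟩
      obtain ⟨h, hh⟩ := QuotientGroup.mk_out_eq_mul H x
      funext n
      apply Subtype.ext
      change conjBy H hN (Quotient.out (x : G ⧸ H)) ψ n = conjBy H hN x ψ n
      have h1 : Quotient.out (x : G ⧸ H) = (x * h * x⁻¹) * x := by
        rw [hh]
        group
      rw [h1, ← conjBy_conjBy, conjBy_eq_of_mem hN hψc (hN.conj_mem _ h.2 x)]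
    · rintro ⟨q, rfl⟩
      exact ⟨_, rfl⟩
  have h1 : (U.subgroupOf T).index = (MulAction.orbit T ψL).ncard := by
    rw [← hstab, MulAction.index_stabilizer]
  have hfin : (Set.range cL).Finite := by
    rw [hrange]
    exact Set.finite_range _
  calc U.relIndex T = (U.subgroupOf T).index := rfl
    _ = (MulAction.orbit T ψL).ncard := h1
    _ ≤ (Set.range cL).ncard := Set.ncard_le_ncard horb hfin
    _ = (Set.range (fun q : G ⧸ H => cL (Quotient.out q))).ncard := by rw [hrange]
    _ ≤ Nat.card (G ⧸ H) := by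
        rw [← Nat.card_coe_set_eq]
        exact Finite.card_range_le _
    _ = H.index := rfl

/-- The field of values of an inducing character of a subgroup of prime index. -/
theorem fieldDeg_cases (hN : H.Normal) {p : ℕ} (hp : p.Prime) (hidx : H.index = p) {ψ : H → ℂ}
    (hψ : IsIrrCharacter H ψ) (hχ : IsIrrCharacter G (indFun H ψ)) :
    fieldDeg ψ = fieldDeg (indFun H ψ) ∨
      ((kerIn (IsIrrCharacter.isCharacter hψ)).Normal ∧ fieldDeg ψ ≤ p * fieldDeg (indFun H ψ)) := by
  classical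
  set N := Nat.card G with hNdef
  haveI : NeZero N := ⟨Nat.card_pos.ne'⟩
  have hd : Nat.card H ∣ N := Subgroup.card_subgroup_dvd_card H
  have hψc := IsIrrCharacter.isCharacter hψ
  have h1 := fieldDeg_eq_index N hd hψc
  have h2 := fieldDeg_eq_index N dvd_rfl (IsIrrCharacter.isCharacter hχ)
  have hle := fix_le (N := N) rfl hψc
  by_cases hTU : fixS N (Set.range (indFun H ψ)) ≤ fixS N (Set.range ψ)
  · left
    rw [h1, h2, le_antisymm hTU hle]
  · right
    obtain ⟨σ, hσT, hσU⟩ := SetLike.not_le_iff_exists.mp hTU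
    refine ⟨normal_of_not_fixed rfl hN hp hidx hψ hχ hσT hσU, ?_⟩
    rw [h1, h2, ← Subgroup.relIndex_mul_index hle]
    exact Nat.mul_le_mul_right _ (hidx ▸ relIndex_le rfl hN hψ hχ)

end Ind


section PGroup

/-- A proper subgroup of a finite `p`-group lies in a normal subgroup of index `p`. -/
theorem exists_index_prime {P : Type*} [Group P] [Finite P] {p : ℕ} [hp : Fact p.Prime]
    (hP : IsPGroup p P) {T : Subgroup P} (hT : T ≠ ⊤) :
    ∃ H : Subgroup P, T ≤ H ∧ H.Normal ∧ H.index = p := by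
  classical
  haveI : Group.IsNilpotent P := hP.isNilpotent
  obtain ⟨M, hM, hTM⟩ := (eq_top_or_exists_le_coatom T).resolve_left hT
  have key : Group.IsNilpotent P ↔ ∀ H : Subgroup P, IsCoatom H → H.Normal :=
    (Group.isNilpotent_of_finite_tfae (G := P)).out 0 2
  have hnorm : M.Normal := key.mp inferInstance M hM
  refine ⟨M, hTM, hnorm, ?_⟩
  have hQ : IsPGroup p (P ⧸ M) := hP.to_quotient M
  obtain ⟨m, hm⟩ := hQ.exists_card_eq
  have hm0 : m ≠ 0 := by
    rintro rfl
    rw [pow_zero] at hm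
    have h1 : M.index = 1 := by rw [Subgroup.index_eq_card, hm]
    exact hM.1 (Subgroup.index_eq_one.mp h1)
  obtain ⟨L, hL⟩ := Sylow.exists_subgroup_card_pow_prime (G := P ⧸ M) p (n := 1) (by
    rw [hm, pow_one]
    exact dvd_pow_self p hm0)
  rw [pow_one] at hL
  have hLM : M ≤ L.comap (QuotientGroup.mk' M) := by
    intro x hx
    rw [Subgroup.mem_comap]
    have : QuotientGroup.mk' M x = 1 := (QuotientGroup.eq_one_iff x).mpr hx
    rw [this]
    exact L.one_mem
  by_cases hc : L.comap (QuotientGroup.mk' M) = M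
  · exfalso
    have hbot : L = ⊥ := by
      rw [eq_bot_iff]
      intro q hq
      obtain ⟨x, rfl⟩ := QuotientGroup.mk'_surjective M q
      have : x ∈ L.comap (QuotientGroup.mk' M) := hq
      rw [hc] at this
      exact (Subgroup.mem_bot).mpr ((QuotientGroup.eq_one_iff x).mpr this)
    rw [hbot, Subgroup.card_bot] at hL
    exact hp.out.one_lt.ne hL
  · have htop := hM.2 _ (lt_of_le_of_ne hLM (Ne.symm hc))
    have hLtop : L = ⊤ := by
      rw [eq_top_iff]
      intro q _
      obtain ⟨x, rfl⟩ := QuotientGroup.mk'_surjective M q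
      have : x ∈ L.comap (QuotientGroup.mk' M) := by rw [htop]; trivial
      exact this
    rw [hLtop, Subgroup.card_top] at hL
    rw [Subgroup.index_eq_card, hL]

/-- Nonlinear irreducible characters of `p`-groups are induced from a normal subgroup of index `p`. -/
theorem exists_induced_index_prime {P : Type u} [Group P] [Fintype P] {p : ℕ} [hp : Fact p.Prime]
    (hP : IsPGroup p P) {χ : P → ℂ} (hχ : IsIrrCharacter P χ) (h1 : χ 1 ≠ 1) :
    ∃ H : Subgroup P, H.Normal ∧ H.index = p ∧ ∃ ψ : H → ℂ, IsIrrCharacter H ψ ∧ χ = indFun H ψ := by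
  classical
  haveI : Group.IsNilpotent P := hP.isNilpotent
  obtain ⟨F, μ, hμ⟩ := Monomial.exists_monomial _ P χ rfl hχ
  have hF : F ≠ ⊤ := by
    rintro rfl
    apply h1
    rw [hμ, indFun_one]
    simp
  obtain ⟨H, hFH, hHn, hHi⟩ := exists_index_prime hP hF
  refine ⟨H, hHn, hHi, ?_⟩
  haveI : Fintype H := Fintype.ofFinite _
  obtain ⟨F', rfl⟩ : ∃ F' : Subgroup H, F'.map H.subtype = F :=
    ⟨F.subgroupOf H, Subgroup.map_subgroupOf_eq_of_le hFH⟩
  let e := F'.equivMapOfInjective H.subtype H.subtype_injective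
  let μ' : F' →* ℂˣ := μ.comp e.toMonoidHom
  let φ : F' → ℂ := fun x => ((μ' x : ℂˣ) : ℂ)
  have hφ : IsCharacter F' φ := IsIrrCharacter.isCharacter (isIrrCharacter_of_hom μ')
  haveI : Fintype F' := Fintype.ofFinite _
  have hind : indFun H (indFun F' φ) = χ := by
    rw [BrauerInd.indFun_indFun_map, hμ]
    congr 1
    funext x
    simp [φ, μ', e]
  have hψ : IsCharacter H (indFun F' φ) := indFun_isCharacter F' hφ
  refine ⟨indFun F' φ, ?_, hind.symm⟩
  apply CharDecomp.irr_of_indFun_irr H hψ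
  rw [hind]
  exact hχ

variable {G : Type u} [Group G] [Fintype G] {H : Subgroup G}

theorem ind_eq_of_core {ψ : H → ℂ} {g : G} (h : ∀ x : G, ∃ hx : x⁻¹ * g * x ∈ H, ψ ⟨_, hx⟩ = ψ 1) :
    indFun H ψ g = indFun H ψ 1 := by
  rw [indFun_apply, indFun_apply]
  congr 1
  refine Finset.sum_congr rfl fun x _ => ?_
  obtain ⟨hx, hx'⟩ := h x
  rw [extendByZero_of_mem H _ hx, hx']
  have h1 : x⁻¹ * 1 * x = 1 := by group
  rw [h1]
  exact (extendByZero_of_mem H _ H.one_mem).symm

/-- The order of `H` is bounded by the `|G : H|`-th power of the order of `H / ker ψ`. -/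
theorem card_le_of_core (hN : H.Normal) {ψ : H → ℂ} (hψ : IsCharacter H ψ)
    (hfaith : ∀ g, indFun H ψ g = indFun H ψ 1 → g = 1) :
    Nat.card H ≤ (charKer hψ).index ^ H.index := by
  classical
  letI : Fintype (G ⧸ H) := Fintype.ofFinite _
  let K := charKer hψ
  let f : G ⧸ H → Subgroup H := fun q =>
    K.comap (MulAut.conjNormal (Quotient.out q)⁻¹ : H ≃* H).toMonoidHom
  have hidx : ∀ q, (f q).index = K.index := by
    intro q
    exact Subgroup.index_comap_of_surjective _ (MulEquiv.surjective _)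
  have hbot : (⨅ q, f q) = ⊥ := by
    rw [eq_bot_iff]
    intro h hh
    rw [Subgroup.mem_iInf] at hh
    have hall : ∀ x : G, ∃ hx : x⁻¹ * (h : G) * x ∈ H, ψ ⟨_, hx⟩ = ψ 1 := by
      intro x
      have hmem : x⁻¹ * (h : G) * x ∈ H := by
        have := hN.conj_mem h h.2 x⁻¹
        simpa using this
      refine ⟨hmem, ?_⟩
      obtain ⟨h₀, hh₀⟩ := QuotientGroup.mk_out_eq_mul H x
      have h1 := hh (x : G ⧸ H)
      have h2 : (MulAut.conjNormal (Quotient.out (x : G ⧸ H))⁻¹ : H ≃* H) h ∈ K := h1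
      have h3 : ψ ((MulAut.conjNormal (Quotient.out (x : G ⧸ H))⁻¹ : H ≃* H) h) = ψ 1 := h2
      have h4 := isClassFunction_of_isCharacter hψ
        ((MulAut.conjNormal (Quotient.out (x : G ⧸ H))⁻¹ : H ≃* H) h) h₀
      rw [h3] at h4
      rw [← h4]
      congr 1
      apply Subtype.ext
      simp only [Subgroup.coe_mul, MulAut.conjNormal_apply, Subgroup.coe_inv]
      rw [hh₀]
      group
    have h5 := hfaith (h : G) (ind_eq_of_core hall)
    exact Subgroup.mem_bot.mpr (Subtype.ext h5)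
  have h1 := Subgroup.index_iInf_le f
  rw [hbot, Subgroup.index_bot] at h1
  refine h1.trans (le_of_eq ?_)
  simp only [hidx]
  rw [Finset.prod_const, Finset.card_univ]
  congr 1
  rw [Subgroup.index, Nat.card_eq_fintype_card]

end PGroup

section Main

/-- Numerics of the first case. -/
theorem numerics1 {p a' b g t : ℕ} (hp : 2 ≤ p) (hg : 1 ≤ g) (hb : b ≤ p * a')
    (hIH : (p - 1) * a' ≤ (g - 1) + (p - 1) * (t + 1) * g) :
    (p - 1) * (b + 1) ≤ (p * g - 1) + (p - 1) * (t + 1) * (p * g) := by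
  obtain ⟨q, rfl⟩ : ∃ q, p = q + 1 := ⟨p - 1, by omega⟩
  obtain ⟨g', rfl⟩ : ∃ g', g = g' + 1 := ⟨g - 1, by omega⟩
  simp only [Nat.add_sub_cancel] at hIH ⊢
  have h0 : (q + 1) * (g' + 1) - 1 = (q + 1) * g' + q := by
    have : (q + 1) * (g' + 1) = (q + 1) * g' + q + 1 := by ring
    omega
  rw [h0]
  have h1 : q * b ≤ q * ((q + 1) * a') := Nat.mul_le_mul_left _ hb
  have h2 : (q + 1) * (q * a') ≤ (q + 1) * (g' + q * (t + 1) * (g' + 1)) :=
    Nat.mul_le_mul_left _ hIH
  calc q * (b + 1) = q * b + q := by ring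
    _ ≤ (q + 1) * (q * a') + q := by
        have : q * ((q + 1) * a') = (q + 1) * (q * a') := by ring
        omega
    _ ≤ (q + 1) * (g' + q * (t + 1) * (g' + 1)) + q := by omega
    _ = (q + 1) * g' + q + q * (t + 1) * ((q + 1) * (g' + 1)) := by ring

/-- Numerics of the second case. -/
theorem numerics2 {p b g t : ℕ} (hp : 2 ≤ p) (hg : 1 ≤ g)
    (hIH : (p - 1) * b ≤ (g - 1) + (p - 1) * (t + 1 + 1) * g) :
    (p - 1) * (b + 1) ≤ (p * g - 1) + (p - 1) * (t + 1) * (p * g) := by
  obtain ⟨q, rfl⟩ : ∃ q, p = q + 2 := ⟨p - 2, by omega⟩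
  obtain ⟨g', rfl⟩ : ∃ g', g = g' + 1 := ⟨g - 1, by omega⟩
  have h1 : q + 2 - 1 = q + 1 := by omega
  simp only [h1, Nat.add_sub_cancel] at hIH ⊢
  have h0 : (q + 2) * (g' + 1) - 1 = (q + 2) * g' + q + 1 := by
    have : (q + 2) * (g' + 1) = (q + 2) * g' + q + 1 + 1 := by ring
    omega
  rw [h0]
  calc (q + 1) * (b + 1) = (q + 1) * b + (q + 1) := by ring
    _ ≤ (g' + (q + 1) * (t + 1 + 1) * (g' + 1)) + (q + 1) := by omega
    _ ≤ (q + 2) * g' + q + 1 + (q + 1) * (t + 1) * ((q + 2) * (g' + 1)) := by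
        have : (q + 2) * g' + q + 1 + (q + 1) * (t + 1) * ((q + 2) * (g' + 1)) =
            (g' + (q + 1) * (t + 1 + 1) * (g' + 1)) + (q + 1) +
              ((q + 1) * g' + (q + 1) * (g' + 1) * ((t + 1) * q + t)) := by ring
        omega

/-- The base case: linear faithful characters. -/
theorem base_case {P : Type u} [Group P] [Finite P] {p a t : ℕ} (hp : p.Prime) (hP : Nat.card P = p ^ a)
    {χ : P → ℂ} (hχ : IsCharacter P χ) (h1 : χ 1 = 1) (hfaith : ∀ g, χ g = χ 1 → g = 1)
    (hfield : fieldDeg χ ≤ (p - 1) * p ^ t) : (p - 1) * a ≤ (p - 1) * (t + 1) := by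
  rcases Nat.eq_zero_or_pos a with rfl | ha
  · simp
  obtain ⟨f, hf⟩ := exists_hom_of_degree_one hχ h1
  have hinj : Function.Injective f := by
    rw [injective_iff_map_eq_one]
    intro g hg
    apply hfaith
    rw [hf, hg, h1]
    simp
  let f' : P →* ℂ := (Units.coeHom ℂ).comp f
  have hinj' : Function.Injective f' := Units.val_injective.comp hinj
  haveI : IsCyclic P := isCyclic_of_injective_ringHom f' hinj'
  obtain ⟨x, hx⟩ := IsCyclic.exists_ofOrder_eq_natCard (α := P)
  have hprim : IsPrimitiveRoot (χ x) (p ^ a) := by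
    have h2 : orderOf (χ x) = p ^ a := by
      have h3 : χ x = f' x := hf x
      rw [h3, orderOf_injective f' hinj', hx, hP]
    rw [← h2]
    exact IsPrimitiveRoot.orderOf _
  have hpos : 0 < p ^ a := pow_pos hp.pos a
  have hint : IsIntegral ℚ (χ x) := by
    apply IsIntegral.of_pow hpos
    rw [hprim.pow_eq_one]
    exact isIntegral_one
  have h4 : Module.finrank ℚ (IntermediateField.adjoin ℚ {χ x}) = (p ^ a).totient := by
    rw [IntermediateField.adjoin.finrank hint, ← Polynomial.cyclotomic_eq_minpoly_rat hprim hpos,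
      Polynomial.natDegree_cyclotomic]
  haveI := finiteDimensional_adjoin hχ
  have h5 : IntermediateField.adjoin ℚ {χ x} ≤ IntermediateField.adjoin ℚ (Set.range χ) :=
    IntermediateField.adjoin_simple_le_iff.mpr (IntermediateField.subset_adjoin ℚ _ ⟨x, rfl⟩)
  have h6 := IntermediateField.finrank_le_of_le_right h5
  rw [h4, Nat.totient_prime_pow hp ha] at h6
  have hp1 : 0 < p - 1 := by
    have := hp.two_le
    omega
  have h7 : p ^ (a - 1) ≤ p ^ t := by
    have h8 := h6.trans hfield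
    rw [mul_comm] at h8
    exact Nat.le_of_mul_le_mul_left h8 hp1
  have h9 : a - 1 ≤ t := (Nat.pow_le_pow_iff_right hp.one_lt).mp h7
  exact Nat.mul_le_mul_left _ (by omega)

theorem main_bound {p : ℕ} (hp : p.Prime) : ∀ (n : ℕ) (P : Type u) [Group P] [Finite P] (a : ℕ),
    Nat.card P = n → Nat.card P = p ^ a → ∀ χ : P → ℂ, IsIrrCharacter P χ →
    (∀ g, χ g = χ 1 → g = 1) → ∀ t : ℕ, fieldDeg χ ≤ (p - 1) * p ^ t →
    (p - 1) * a ≤ (charDegree χ - 1) + (p - 1) * (t + 1) * charDegree χ := by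
  intro n
  induction n using Nat.strong_induction_on with
  | _ n ih =>
  intro P _ _ a hn hP χ hχ hfaith t hfield
  classical
  letI : Fintype P := Fintype.ofFinite _
  haveI : Fact p.Prime := ⟨hp⟩
  have hχc := IsIrrCharacter.isCharacter hχ
  have hdeg := one_eq_charDegree hχc
  by_cases hf1 : charDegree χ = 1
  · rw [hf1]
    have h1 : χ 1 = 1 := by
      rw [hdeg, hf1]
      simp
    have := base_case hp hP hχc h1 hfaith hfield
    simpa using this
  have hPp : IsPGroup p P := IsPGroup.of_card hP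
  obtain ⟨H, hHn, hHi, ψ, hψ, rfl⟩ := exists_induced_index_prime hPp hχ (by
    rw [hdeg]
    intro h
    apply hf1
    exact_mod_cast h)
  haveI : Fintype H := Fintype.ofFinite _
  have hψc := IsIrrCharacter.isCharacter hψ
  set g := charDegree ψ with hg
  have hgpos : 1 ≤ g := charDegree_pos hψ
  have hdegf : charDegree (indFun H ψ) = p * g := by
    have h1 := hdeg
    rw [indFun_one, hHi, one_eq_charDegree hψc] at h1
    have h2 : ((p * g : ℕ) : ℂ) = (charDegree (indFun H ψ) : ℕ) := by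
      push_cast
      exact h1
    exact_mod_cast h2.symm
  rw [hdegf]
  have hcard : Nat.card H * p = p ^ a := by
    rw [← hP]
    conv_lhs => rw [← hHi]
    exact Subgroup.card_mul_index H
  obtain ⟨b, -, hb⟩ := (Nat.dvd_prime_pow hp).mp (⟨p, hcard.symm⟩ : Nat.card H ∣ p ^ a)
  have ha : a = b + 1 := by
    rw [hb, ← pow_succ] at hcard
    exact (Nat.pow_right_injective hp.two_le hcard).symm
  have hHlt : Nat.card H < n := by
    rw [← hn, hP, ha, pow_succ, ← hb]
    have := hp.two_le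
    have hpos : 0 < Nat.card H := Nat.card_pos
    nlinarith
  subst ha
  rcases fieldDeg_cases hHn hp hHi hψ hχ with hcase | ⟨hnorm, hle⟩
  · -- same field: pass to the quotient by the kernel
    let K := charKer hψc
    obtain ⟨ψ', hψ', hlift⟩ := exists_quotient_irr K hψ (fun x hx => hx)
    have hQdvd : Nat.card (H ⧸ K) ∣ p ^ b := by
      rw [← hb, ← Subgroup.index_eq_card]
      exact Subgroup.index_dvd_card K
    obtain ⟨a', -, ha'⟩ := (Nat.dvd_prime_pow hp).mp hQdvd
    have hQlt : Nat.card (H ⧸ K) < n := by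
      refine lt_of_le_of_lt ?_ hHlt
      rw [← Subgroup.index_eq_card]
      exact Nat.le_of_dvd Nat.card_pos (Subgroup.index_dvd_card K)
    have hψ'faith : ∀ z, ψ' z = ψ' 1 → z = 1 := by
      intro z hz
      obtain ⟨y, rfl⟩ := QuotientGroup.mk_surjective z
      rw [← QuotientGroup.mk_one, hlift, hlift] at hz
      exact (QuotientGroup.eq_one_iff y).mpr hz
    have hrange : Set.range ψ' = Set.range ψ := by
      ext w
      constructor
      · rintro ⟨z, rfl⟩
        obtain ⟨y, rfl⟩ := QuotientGroup.mk_surjective z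
        exact ⟨y, (hlift y).symm⟩
      · rintro ⟨y, rfl⟩
        exact ⟨y, hlift y⟩
    have hfd : fieldDeg ψ' = fieldDeg ψ := by
      simp only [fieldDeg]
      rw [hrange]
    have hdeg' : charDegree ψ' = g := by
      simp only [charDegree, hg]
      have := hlift 1
      rw [QuotientGroup.mk_one] at this
      rw [this]
    have hIH := ih _ hQlt (H ⧸ K) a' rfl ha' ψ' hψ' hψ'faith t (by
      rw [hfd, hcase]
      exact hfield)
    rw [hdeg'] at hIH
    have hcore := card_le_of_core hHn hψc hfaith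
    rw [hHi, hb, Subgroup.index_eq_card, ha', ← pow_mul] at hcore
    have hbb : b ≤ a' * p := (Nat.pow_le_pow_iff_right hp.one_lt).mp hcore
    exact numerics1 hp.two_le hgpos (by rwa [mul_comm]) hIH
  · -- the kernel is normal, hence trivial
    have hψfaith : ∀ z, ψ z = ψ 1 → z = 1 := by
      intro z hz
      have h1 : (z : P) ∈ kerIn hψc := (mem_kerIn hψc).mpr ⟨z.2, hz⟩
      have hall : ∀ x : P, ∃ hx : x⁻¹ * (z : P) * x ∈ H, ψ ⟨_, hx⟩ = ψ 1 := by
        intro x
        have h2 := hnorm.conj_mem _ h1 x⁻¹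
        rw [inv_inv] at h2
        exact (mem_kerIn hψc).mp h2
      exact Subtype.ext (hfaith _ (ind_eq_of_core hall))
    have hIH := ih _ hHlt H b rfl hb ψ hψ hψfaith (t + 1) (by
      refine hle.trans ?_
      calc p * fieldDeg (indFun H ψ) ≤ p * ((p - 1) * p ^ t) := Nat.mul_le_mul_left _ hfield
        _ = (p - 1) * p ^ (t + 1) := by ring)
    exact numerics2 hp.two_le hgpos hIH

end Main

end Cfsg.Agent.Lib.FieldDegP
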