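import Mathlib

/-!
# Fixed cosets and centralisers

Counting the fixed points of an element on the cosets of a subgroup: the classical formula
`|fix(x)| · |B| = |C(x)| · |x^H ∩ B|`, and the bound of a centraliser by the fixed points and the centraliser in a
point stabiliser.
-/

set_option autoImplicit false
set_option linter.all false

namespace Cfsg.Agent.Lib.FixCount

section fibers

/-- A map with fibres of constant size. -/
theorem card_of_fibers {X Y : Type*} [Finite X] (f : X → Y) (hs : Function.Surjective f) {m : ℕ}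
    (hf : ∀ y, Nat.card {x // f x = y} = m) : Nat.card X = Nat.card Y * m := by
  classical
  have hY : Finite Y := Finite.of_surjective f hs
  letI := Fintype.ofFinite Y
  have e : X ≃ Σ y, {x // f x = y} := (Equiv.sigmaFiberEquiv f).symm
  rw [Nat.card_congr e, Nat.card_sigma, Finset.sum_congr rfl (fun y _ => hf y), Finset.sum_const, Finset.card_univ,
    smul_eq_mul, Nat.card_eq_fintype_card]

/-- A map with fibres of bounded size. -/
theorem card_le_of_fibers {X Y : Type*} [Finite X] [Finite Y] (f : X → Y) {m : ℕ}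
    (hf : ∀ y, Nat.card {x // f x = y} ≤ m) : Nat.card X ≤ Nat.card Y * m := by
  classical
  letI := Fintype.ofFinite Y
  have e : X ≃ Σ y, {x // f x = y} := (Equiv.sigmaFiberEquiv f).symm
  rw [Nat.card_congr e, Nat.card_sigma, Nat.card_eq_fintype_card, ← Finset.card_univ, ← smul_eq_mul]
  exact Finset.sum_le_card_nsmul _ _ _ fun y _ => hf y

end fibers

variable {H : Type*} [Group H] [Finite H]

/-- The elements moving `x` into `B`. -/
def Trans (B : Subgroup H) (x : H) : Type _ := {h : H // h⁻¹ * x * h ∈ B}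

instance (B : Subgroup H) (x : H) : Finite (Trans B x) := by
  unfold Trans
  infer_instance

/-- The fixed cosets of `x`. -/
abbrev FixQ (B : Subgroup H) (x : H) : Type _ := {q : H ⧸ B // x • q = q}

/-- The conjugates of `x` in `B`. -/
abbrev ConjIn (B : Subgroup H) (x : H) : Type _ := {y : B // IsConj x (y : H)}

theorem fix_iff (B : Subgroup H) (x h : H) : x • ((h : H) : H ⧸ B) = (h : H ⧸ B) ↔ h⁻¹ * x * h ∈ B := by
  rw [MulAction.Quotient.smul_coe, eq_comm]
  rw [QuotientGroup.eq]
  simp [mul_assoc]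

/-- The classical count. -/
theorem double_count (B : Subgroup H) (x : H) :
    Nat.card (FixQ B x) * Nat.card B = Nat.card (Subgroup.centralizer ({x} : Set H)) * Nat.card (ConjIn B x) := by
  classical
  -- first the map to the fixed cosets
  let f1 : Trans B x → FixQ B x := fun h => ⟨((h.1 : H) : H ⧸ B), (fix_iff B x h.1).mpr h.2⟩
  have hf1s : Function.Surjective f1 := by
    rintro ⟨q, hq⟩
    obtain ⟨h, rfl⟩ := QuotientGroup.mk_surjective q
    exact ⟨⟨h, (fix_iff B x h).mp hq⟩, rfl⟩
  have hf1 : ∀ y, Nat.card {z // f1 z = y} = Nat.card B := by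
    rintro ⟨q, hq⟩
    obtain ⟨h, rfl⟩ := QuotientGroup.mk_surjective q
    have hh := (fix_iff B x h).mp hq
    refine Nat.card_congr ⟨fun z => ⟨h⁻¹ * z.1.1, ?_⟩, fun b => ⟨⟨h * b.1, ?_⟩, ?_⟩, ?_, ?_⟩
    · have h1 : ((z.1.1 : H) : H ⧸ B) = (h : H ⧸ B) := congrArg Subtype.val z.2
      have := QuotientGroup.eq.mp h1.symm
      exact this
    · have e : (h * b.1)⁻¹ * x * (h * b.1) = (b.1)⁻¹ * (h⁻¹ * x * h) * b.1 := by group
      show (h * b.1)⁻¹ * x * (h * b.1) ∈ B
      rw [e]
      exact B.mul_mem (B.mul_mem (B.inv_mem b.2) hh) b.2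
    · apply Subtype.ext
      show ((h * b.1 : H) : H ⧸ B) = (h : H ⧸ B)
      rw [QuotientGroup.eq]
      simpa using B.inv_mem b.2
    · rintro ⟨z, hz⟩
      apply Subtype.ext
      apply Subtype.ext
      show h * (h⁻¹ * z.1) = z.1
      group
    · rintro ⟨b, hb⟩
      apply Subtype.ext
      show h⁻¹ * (h * b) = b
      group
  have e1 := card_of_fibers f1 hf1s hf1
  -- then the map to the conjugates
  by_cases hne : Nonempty (Trans B x)
  · let f2 : Trans B x → ConjIn B x := fun h => ⟨⟨h.1⁻¹ * x * h.1, h.2⟩, by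
      refine isConj_iff.mpr ⟨h.1⁻¹, ?_⟩
      simp⟩
    have hf2s : Function.Surjective f2 := by
      rintro ⟨⟨y, hy⟩, hc⟩
      obtain ⟨g, hg⟩ := isConj_iff.mp hc
      refine ⟨⟨g⁻¹, ?_⟩, ?_⟩
      · have : (g⁻¹)⁻¹ * x * g⁻¹ = y := by simpa using hg
        rw [this]
        exact hy
      · apply Subtype.ext
        apply Subtype.ext
        show (g⁻¹)⁻¹ * x * g⁻¹ = y
        simpa using hg
    have hf2 : ∀ y, Nat.card {z // f2 z = y} = Nat.card (Subgroup.centralizer ({x} : Set H)) := by
      rintro ⟨⟨y, hy⟩, hc⟩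
      obtain ⟨g, hg⟩ := isConj_iff.mp hc
      have hg' : (g⁻¹)⁻¹ * x * g⁻¹ = y := by simpa using hg
      refine Nat.card_congr ⟨fun z => ⟨z.1.1 * g, ?_⟩, fun c => ⟨⟨c.1 * g⁻¹, ?_⟩, ?_⟩, ?_, ?_⟩
      · have h1 : z.1.1⁻¹ * x * z.1.1 = y := congrArg (fun w : ConjIn B x => ((w.1 : B) : H)) z.2
        rw [Subgroup.mem_centralizer_singleton_iff]
        have h2 : z.1.1 * ((g⁻¹)⁻¹ * x * g⁻¹) * z.1.1⁻¹ = x := by
          have h7 : (g⁻¹)⁻¹ * x * g⁻¹ = z.1.1⁻¹ * x * z.1.1 := hg'.trans h1.symm
          rw [h7]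
          group
        have h3 : (z.1.1 * g) * x * (z.1.1 * g)⁻¹ = x := by
          have : (z.1.1 * g) * x * (z.1.1 * g)⁻¹ = z.1.1 * (g * x * g⁻¹) * z.1.1⁻¹ := by group
          rw [this]
          have h4 : g * x * g⁻¹ = (g⁻¹)⁻¹ * x * g⁻¹ := by group
          rw [h4]
          exact h2
        calc (z.1.1 * g) * x = ((z.1.1 * g) * x * (z.1.1 * g)⁻¹) * (z.1.1 * g) := by group
          _ = x * (z.1.1 * g) := by rw [h3]
      · have hc2 : c.1 * x * (c.1)⁻¹ = x := by
          have := Subgroup.mem_centralizer_singleton_iff.mp c.2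
          rw [this]
          group
        have e : (c.1 * g⁻¹)⁻¹ * x * (c.1 * g⁻¹) = y := by
          have : (c.1 * g⁻¹)⁻¹ * x * (c.1 * g⁻¹) = g * ((c.1)⁻¹ * x * c.1) * g⁻¹ := by group
          rw [this]
          have h5 : (c.1)⁻¹ * x * c.1 = x := by
            have h6 := Subgroup.mem_centralizer_singleton_iff.mp c.2
            rw [mul_assoc, ← h6]
            group
          rw [h5, ← hg']
          group
        rw [e]
        exact hy
      · apply Subtype.ext
        apply Subtype.ext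
        have hc2 : (c.1)⁻¹ * x * c.1 = x := by
          have h6 := Subgroup.mem_centralizer_singleton_iff.mp c.2
          rw [mul_assoc, ← h6]
          group
        show (c.1 * g⁻¹)⁻¹ * x * (c.1 * g⁻¹) = y
        have : (c.1 * g⁻¹)⁻¹ * x * (c.1 * g⁻¹) = g * ((c.1)⁻¹ * x * c.1) * g⁻¹ := by group
        rw [this, hc2, ← hg']
        group
      · rintro ⟨z, hz⟩
        apply Subtype.ext
        apply Subtype.ext
        show z.1 * g * g⁻¹ = z.1
        group
      · rintro ⟨c, hc3⟩
        apply Subtype.ext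
        show c * g⁻¹ * g = c
        group
    have e2 := card_of_fibers f2 hf2s hf2
    rw [← e1, e2, mul_comm]
  · -- no element moves `x` into the subgroup: both sides vanish
    have h1 : IsEmpty (Trans B x) := not_nonempty_iff.mp hne
    have h2 : IsEmpty (FixQ B x) := ⟨fun q => by
      obtain ⟨z, -⟩ := hf1s q
      exact h1.false z⟩
    have h3 : IsEmpty (ConjIn B x) := ⟨fun y => by
      obtain ⟨⟨y, hy⟩, hc⟩ := y
      obtain ⟨g, hg⟩ := isConj_iff.mp hc
      refine h1.false ⟨g⁻¹, ?_⟩
      have : (g⁻¹)⁻¹ * x * g⁻¹ = y := by simpa using hg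
      rw [this]
      exact hy⟩
    have h4 : Nat.card (FixQ B x) = 0 := Nat.card_of_isEmpty
    have h5 : Nat.card (ConjIn B x) = 0 := Nat.card_of_isEmpty
    rw [h4, h5]
    simp

end Cfsg.Agent.Lib.FixCount
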