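import Mathlib

set_option autoImplicit false
set_option linter.unusedSectionVars false
set_option linter.unusedVariables false

namespace Cfsg.Agent.Lib.HHCore

open Module

universe u

variable {𝔽 : Type u} [Field 𝔽]

section Eigen

variable {W : Type*} [AddCommGroup W] [Module 𝔽 W] [FiniteDimensional 𝔽 W]

theorem iSup_eigenspace_eq_top [IsAlgClosed 𝔽] (f : End 𝔽 W) {N : ℕ} (hN' : (N : 𝔽) ≠ 0)
    (hf : f ^ N = 1) : ⨆ a : 𝔽, End.eigenspace f a = ⊤ := by
  have hsq : Squarefree (Polynomial.X ^ N - Polynomial.C (1:𝔽)) :=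
    (Polynomial.separable_X_pow_sub_C (1:𝔽) hN' one_ne_zero).squarefree
  have hs : f.IsSemisimple :=
    Module.End.isSemisimple_of_squarefree_aeval_eq_zero hsq (by simp [hf])
  have h := Module.End.iSup_maxGenEigenspace_eq_top f
  rw [← h]
  exact iSup_congr fun a => (hs.isFinitelySemisimple.maxGenEigenspace_eq_eigenspace a).symm

/-- A basis of eigenvectors for an operator of finite order prime to the characteristic. -/
theorem exists_eigenbasis [IsAlgClosed 𝔽] (f : End 𝔽 W) {N : ℕ} (hN' : (N : 𝔽) ≠ 0)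
    (hf : f ^ N = 1) : ∃ (I : Type u) (_ : Fintype I) (b : Basis I 𝔽 W) (d : I → 𝔽),
      ∀ i, f (b i) = d i • b i := by
  classical
  have hsup := iSup_eigenspace_eq_top f hN' hf
  have hint : DirectSum.IsInternal (fun a : 𝔽 => End.eigenspace f a) :=
    DirectSum.isInternal_submodule_of_iSupIndep_of_iSup_eq_top (End.eigenspaces_iSupIndep f) hsup
  let bs := fun a : 𝔽 => Module.finBasis 𝔽 (End.eigenspace f a)
  let b := hint.collectedBasis bs
  have : Finite (Σ a : 𝔽, Fin (finrank 𝔽 (End.eigenspace f a))) := Module.Finite.finite_basis b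
  refine ⟨(Σ a : 𝔽, Fin (finrank 𝔽 (End.eigenspace f a))), Fintype.ofFinite _, b, fun i => i.1, ?_⟩
  rintro ⟨a, i⟩
  have hmem : b ⟨a, i⟩ ∈ End.eigenspace f a := by
    exact hint.collectedBasis_mem bs ⟨a, i⟩
  exact End.mem_eigenspace_iff.mp hmem

theorem centralizer_bound [IsAlgClosed 𝔽] (f : End 𝔽 W) {N : ℕ} (hN : 0 < N) (hN' : (N : 𝔽) ≠ 0)
    (hf : f ^ N = 1) (hnorm : ∑ j ∈ Finset.range N, f ^ j = 0)
    (C : Submodule 𝔽 (End 𝔽 W)) (hC : ∀ m, m * f = f * m → m ∈ C) :
    (finrank 𝔽 W) ^ 2 ≤ (N - 1) * finrank 𝔽 C := by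
  classical
  obtain ⟨I, _, b, d, hd⟩ := exists_eigenbasis f hN' hf
  -- powers act diagonally
  have hpow : ∀ (j : ℕ) (i : I), (f ^ j) (b i) = d i ^ j • b i := by
    intro j i
    induction j with
    | zero => simp
    | succ j ih =>
      rw [pow_succ, Module.End.mul_apply, hd, map_smul, ih, smul_smul, pow_succ, mul_comm]
  have hbne : ∀ i, b i ≠ 0 := fun i => b.ne_zero i
  have hd1 : ∀ i, d i ^ N = 1 := by
    intro i
    have h := hpow N i
    rw [hf, Module.End.one_apply] at h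
    have h2 : (d i ^ N - 1) • b i = 0 := by
      rw [sub_smul, one_smul, ← h, sub_self]
    rcases smul_eq_zero.mp h2 with h3 | h3
    · exact sub_eq_zero.mp h3
    · exact absurd h3 (hbne i)
  have hdne : ∀ i, d i ≠ 1 := by
    intro i hi
    have h := congrArg (fun m : End 𝔽 W => m (b i)) hnorm
    simp only [LinearMap.sum_apply, hpow, hi, one_pow, one_smul, LinearMap.zero_apply,
      Finset.sum_const, Finset.card_range] at h
    have h2 : (N : 𝔽) • b i = 0 := by
      rw [Nat.cast_smul_eq_nsmul]; exact h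
    rcases smul_eq_zero.mp h2 with h3 | h3
    · exact hN' h3
    · exact hbne i h3
  -- the set of roots
  let V : Finset 𝔽 := (Polynomial.nthRootsFinset N (1:𝔽)).erase 1
  have hVcard : V.card ≤ N - 1 := by
    have h1 : (1:𝔽) ∈ Polynomial.nthRootsFinset N (1:𝔽) := by
      rw [Polynomial.mem_nthRootsFinset hN]; simp
    have h2 : (Polynomial.nthRootsFinset N (1:𝔽)).card ≤ N := by
      rw [Polynomial.nthRootsFinset_def]
      refine (Multiset.toFinset_card_le _).trans ?_
      exact Polynomial.card_nthRoots N 1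
    rw [Finset.card_erase_of_mem h1]
    omega
  have hdV : ∀ i, d i ∈ V := by
    intro i
    refine Finset.mem_erase.mpr ⟨hdne i, ?_⟩
    rw [Polynomial.mem_nthRootsFinset hN]
    exact hd1 i
  -- fibres
  let n : 𝔽 → ℕ := fun a => (Finset.univ.filter fun i => d i = a).card
  have hsum : ∑ a ∈ V, n a = Fintype.card I := by
    have := Finset.card_eq_sum_card_fiberwise (s := (Finset.univ : Finset I)) (t := V) (f := d)
      (fun i _ => hdV i)
    simpa using this.symm
  let S := {p : I × I // d p.1 = d p.2}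
  have hScard : ∑ a ∈ V, n a ^ 2 = Fintype.card S := by
    have h1 : Fintype.card S = (Finset.univ.filter fun p : I × I => d p.1 = d p.2).card :=
      Fintype.card_subtype _
    rw [h1]
    have h2 := Finset.card_eq_sum_card_fiberwise (s := (Finset.univ.filter fun p : I × I => d p.1 = d p.2))
      (t := V) (f := fun p => d p.1) (fun p _ => hdV p.1)
    rw [h2]
    refine Finset.sum_congr rfl fun a _ => ?_
    have h3 : ((Finset.univ.filter fun p : I × I => d p.1 = d p.2).filter fun p => d p.1 = a)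
        = (Finset.univ.filter fun i => d i = a) ×ˢ (Finset.univ.filter fun i => d i = a) := by
      ext ⟨x, y⟩
      simp only [Finset.mem_filter, Finset.mem_univ, true_and, Finset.mem_product]
      constructor
      · rintro ⟨h, h'⟩; exact ⟨h', h ▸ h'⟩
      · rintro ⟨h, h'⟩; exact ⟨h.trans h'.symm, h⟩
    rw [h3, Finset.card_product, sq]
  have hCS : (Fintype.card I) ^ 2 ≤ (N - 1) * Fintype.card S := by
    have h := sq_sum_le_card_mul_sum_sq (s := V) (f := fun a => n a)
    rw [hsum, hScard] at h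
    exact h.trans (Nat.mul_le_mul_right _ hVcard)
  -- the map
  let A := LinearMap.toMatrixAlgEquiv b
  have hAf : A f = Matrix.diagonal d := by
    ext i j
    rw [LinearMap.toMatrixAlgEquiv_apply, hd]
    by_cases h : i = j
    · subst h; simp [b.repr_self]
    · simp [Matrix.diagonal_apply_ne _ h, b.repr_self, Ne.symm h]
  let mat : (S → 𝔽) →ₗ[𝔽] Matrix I I 𝔽 :=
    { toFun := fun X => Matrix.of fun i j => if h : d i = d j then X ⟨(i, j), h⟩ else 0
      map_add' := by
        intro X Y; ext i j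
        by_cases h : d i = d j <;> simp [h]
      map_smul' := by
        intro c X; ext i j
        by_cases h : d i = d j <;> simp [h] }
  have hmatinj : Function.Injective mat := by
    intro X Y hXY
    ext ⟨⟨i, j⟩, h⟩
    have := congrFun (congrFun hXY i) j
    simpa [mat, show d i = d j from h] using this
  have hcomm : ∀ X : S → 𝔽, mat X * Matrix.diagonal d = Matrix.diagonal d * mat X := by
    intro X; ext i j
    rw [Matrix.mul_diagonal, Matrix.diagonal_mul]
    by_cases h : d i = d j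
    · rw [h, mul_comm]
    · simp [mat, h]
  have hmem : ∀ X : S → 𝔽, A.symm (mat X) ∈ C := by
    intro X
    apply hC
    apply A.injective
    rw [map_mul, map_mul, AlgEquiv.apply_symm_apply, hAf, hcomm]
  let Ψ : (S → 𝔽) →ₗ[𝔽] C :=
    { toFun := fun X => ⟨A.symm (mat X), hmem X⟩
      map_add' := by intro X Y; ext1; simp
      map_smul' := by intro c X; ext1; simp }
  have hΨ : Function.Injective Ψ := by
    intro X Y h
    have h1 : A.symm (mat X) = A.symm (mat Y) := congrArg Subtype.val h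
    exact hmatinj (A.symm.injective h1)
  have hfr := LinearMap.finrank_le_finrank_of_injective hΨ
  rw [Module.finrank_fintype_fun_eq_card] at hfr
  have hW : finrank 𝔽 W = Fintype.card I := Module.finrank_eq_card_basis b
  rw [hW]
  exact hCS.trans (Nat.mul_le_mul_left _ hfr)

end Eigen

section SN

variable {W : Type*} [AddCommGroup W] [Module 𝔽 W] [FiniteDimensional 𝔽 W] [Nontrivial W]

theorem exists_dual_one {v : W} (hv : v ≠ 0) : ∃ φ : Module.Dual 𝔽 W, φ v = 1 := by
  have h : ¬ ∀ f : Module.Dual 𝔽 W, f v = 0 := by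
    intro h
    exact hv ((Module.forall_dual_apply_eq_zero_iff 𝔽 v).mp h)
  push Not at h
  obtain ⟨f, hf⟩ := h
  exact ⟨(f v)⁻¹ • f, by simp [hf]⟩

/-- Skolem--Noether for the full endomorphism algebra. -/
theorem skolem_noether (α : End 𝔽 W →ₐ[𝔽] End 𝔽 W) (hα : Function.Injective α) :
    ∃ P : End 𝔽 W, IsUnit P ∧ ∀ m, α m * P = P * m := by
  obtain ⟨v₀, hv₀⟩ := exists_ne (0 : W)
  obtain ⟨φ₀, hφ₀⟩ := exists_dual_one (𝔽 := 𝔽) hv₀
  have hE : φ₀.smulRight v₀ ≠ 0 := by
    intro h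
    have := congrArg (fun m : End 𝔽 W => m v₀) h
    simp [hφ₀, hv₀] at this
  have hαE : α (φ₀.smulRight v₀) ≠ 0 := by
    intro h
    exact hE (hα (by rw [h, map_zero]))
  obtain ⟨w₀, hw₀⟩ : ∃ w₀, α (φ₀.smulRight v₀) w₀ ≠ 0 := by
    by_contra hcon
    push Not at hcon
    exact hαE (LinearMap.ext hcon)
  let P : End 𝔽 W :=
    { toFun := fun x => α (φ₀.smulRight x) w₀
      map_add' := by
        intro x y
        have : φ₀.smulRight (x + y) = φ₀.smulRight x + φ₀.smulRight y := by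
          ext z; simp [smul_add]
        rw [this, map_add, LinearMap.add_apply]
      map_smul' := by
        intro c x
        have : φ₀.smulRight (c • x) = c • φ₀.smulRight x := by
          ext z; simp only [LinearMap.smulRight_apply, LinearMap.smul_apply]; rw [smul_comm]
        rw [this, map_smul, LinearMap.smul_apply]; rfl }
  have hPm : ∀ m, α m * P = P * m := by
    intro m
    ext x
    show α m (α (φ₀.smulRight x) w₀) = α (φ₀.smulRight (m x)) w₀
    have : φ₀.smulRight (m x) = m * φ₀.smulRight x := by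
      ext z; simp
    rw [this, map_mul, Module.End.mul_apply]
  have hinj : Function.Injective P := by
    rw [injective_iff_map_eq_zero]
    intro v hv
    by_contra hv0
    obtain ⟨φ, hφ⟩ := exists_dual_one (𝔽 := 𝔽) hv0
    have : P v₀ = 0 := by
      have h1 : (φ.smulRight v₀) v = v₀ := by simp [hφ]
      have h2 := congrArg (fun m : End 𝔽 W => m v) (hPm (φ.smulRight v₀))
      simp only [Module.End.mul_apply, h1, hv, map_zero] at h2
      exact h2.symm
    exact hw₀ this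
  refine ⟨P, ?_, hPm⟩
  rw [Module.End.isUnit_iff]
  exact ⟨hinj, LinearMap.injective_iff_surjective.mp hinj⟩

/-- Operators commuting with everything are scalars. -/
theorem central_scalar (Q : End 𝔽 W) (hQ : ∀ m : End 𝔽 W, m * Q = Q * m) : ∃ κ : 𝔽, Q = κ • 1 := by
  obtain ⟨v₀, hv₀⟩ := exists_ne (0 : W)
  obtain ⟨φ₀, hφ₀⟩ := exists_dual_one (𝔽 := 𝔽) hv₀
  refine ⟨φ₀ (Q v₀), ?_⟩
  ext x
  have h := congrArg (fun m : End 𝔽 W => m v₀) (hQ (φ₀.smulRight x))
  simp only [Module.End.mul_apply, LinearMap.smulRight_apply, hφ₀, one_smul] at h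
  simp only [LinearMap.smul_apply, Module.End.one_apply]
  rw [← h]

end SN


section Simple

variable {U : Type*} [AddCommGroup U] [Module 𝔽 U] [FiniteDimensional 𝔽 U] [Nontrivial U]

/-- The central inequality: a simple subalgebra normalized by an operator `g` with
`g ^ N = 1`, `1 + g + ⋯ + g ^ (N-1) = 0` has a large centralizer of `g`. -/
theorem simple_subalgebra_bound [IsAlgClosed 𝔽] (B : Subalgebra 𝔽 (End 𝔽 U)) [IsSimpleRing B]
    (g h : End 𝔽 U) (hgh : g * h = 1) (hhg : h * g = 1)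
    (hB : ∀ x ∈ B, g * x * h ∈ B) {N : ℕ} (hN : 0 < N) (hN' : (N : 𝔽) ≠ 0) (hgN : g ^ N = 1)
    (hnorm : ∑ j ∈ Finset.range N, g ^ j = 0)
    (C : Submodule 𝔽 B) (hC : ∀ x : B, g * (x : End 𝔽 U) = x * g → x ∈ C) :
    ∃ D : ℕ, finrank 𝔽 B = D ^ 2 ∧ D ^ 2 ≤ (N - 1) * finrank 𝔽 C := by
  classical
  obtain ⟨D, hD, ⟨Φ⟩⟩ := IsSimpleRing.exists_algEquiv_matrix_of_isAlgClosed 𝔽 B
  let W := Fin D → 𝔽
  let Ψ : B ≃ₐ[𝔽] End 𝔽 W := Φ.trans Matrix.toLinAlgEquiv'
  have hfinB : finrank 𝔽 B = D ^ 2 := by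
    rw [Φ.toLinearEquiv.finrank_eq, Module.finrank_matrix]; simp [sq]
  have hfinW : finrank 𝔽 W = D := by simp [W]
  have : Nontrivial W := inferInstance
  have hhN : h ^ N = 1 := by
    have h1 : Commute g h := by
      show g * h = h * g
      rw [hgh, hhg]
    have h2 := h1.mul_pow N
    rw [hgh, one_pow, hgN, one_mul] at h2
    exact h2.symm
  -- conjugation
  let αL : B →ₗ[𝔽] B :=
    { toFun := fun x => ⟨g * x * h, hB _ x.2⟩
      map_add' := by intro x y; ext1; simp [mul_add, add_mul]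
      map_smul' := by intro c x; ext1; simp }
  have hαLc : ∀ x : B, (αL x : End 𝔽 U) = g * x * h := fun x => rfl
  let αB : B →ₐ[𝔽] B := AlgHom.ofLinearMap αL
    (by ext1; rw [hαLc]; simp [hgh])
    (by
      intro x y; ext1
      rw [hαLc, Subalgebra.coe_mul, Subalgebra.coe_mul, hαLc, hαLc]
      calc g * (↑x * ↑y) * h = g * ↑x * (1 : End 𝔽 U) * ↑y * h := by simp [mul_assoc]
        _ = g * ↑x * (h * g) * ↑y * h := by rw [hhg]
        _ = _ := by simp only [mul_assoc])
  have hαBc : ∀ x : B, (αB x : End 𝔽 U) = g * x * h := fun x => rfl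
  have hαBinj : Function.Injective αB := by
    intro x y hxy
    have h1 : g * (x : End 𝔽 U) * h = g * y * h := by
      rw [← hαBc, ← hαBc, hxy]
    have h2 : (x : End 𝔽 U) = y := by
      have h3 := congrArg (fun z => h * z * g) h1
      have h4 : ∀ z : End 𝔽 U, h * (g * z * h) * g = z := by
        intro z
        calc h * (g * z * h) * g = (h * g) * z * (h * g) := by simp only [mul_assoc]
          _ = z := by rw [hhg]; simp
      rwa [h4, h4] at h3
    exact Subtype.ext h2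
  let α : End 𝔽 W →ₐ[𝔽] End 𝔽 W := (Ψ : B →ₐ[𝔽] End 𝔽 W).comp (αB.comp (Ψ.symm : End 𝔽 W →ₐ[𝔽] B))
  have hα : ∀ x : B, α (Ψ x) = Ψ (αB x) := by
    intro x
    show Ψ (αB (Ψ.symm (Ψ x))) = _
    rw [AlgEquiv.symm_apply_apply]
  have hαinj : Function.Injective α := by
    intro m m' hm
    have h1 : Ψ (αB (Ψ.symm m)) = Ψ (αB (Ψ.symm m')) := hm
    exact Ψ.symm.injective (hαBinj (Ψ.injective h1))
  obtain ⟨P, hPu, hP⟩ := skolem_noether α hαinj
  -- the `N`-th power is central
  have hPB : ∀ x : B, αB x * Ψ.symm P = Ψ.symm P * x := by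
    intro x
    apply Ψ.injective
    rw [map_mul, map_mul, AlgEquiv.apply_symm_apply, ← hα, hP]
  have hit : ∀ (j : ℕ) (x : B), ∃ y : B, (y : End 𝔽 U) = g ^ j * x * h ^ j ∧
      y * (Ψ.symm P) ^ j = (Ψ.symm P) ^ j * x := by
    intro j
    induction j with
    | zero => intro x; exact ⟨x, by simp, by simp⟩
    | succ j ih =>
      intro x
      obtain ⟨y, hy1, hy2⟩ := ih x
      refine ⟨αB y, ?_, ?_⟩
      · rw [hαBc, hy1, pow_succ' g, pow_succ h]
        simp only [mul_assoc]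
      · rw [pow_succ', ← mul_assoc, hPB, mul_assoc, hy2, mul_assoc]
  have hcent : ∀ m : End 𝔽 W, m * P ^ N = P ^ N * m := by
    intro m
    obtain ⟨y, hy1, hy2⟩ := hit N (Ψ.symm m)
    have hy3 : y = Ψ.symm m := by
      apply Subtype.ext
      rw [hy1, hgN, hhN]; simp
    rw [hy3] at hy2
    have := congrArg Ψ hy2
    simpa [map_mul, map_pow] using this
  obtain ⟨κ, hκ⟩ := central_scalar _ hcent
  have hκ0 : κ ≠ 0 := by
    rintro rfl
    rw [zero_smul] at hκ
    have : IsUnit (P ^ N) := hPu.pow N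
    rw [hκ] at this
    exact not_isUnit_zero this
  obtain ⟨κ', hκ'⟩ := IsAlgClosed.exists_pow_nat_eq κ hN
  have hκ'0 : κ' ≠ 0 := by
    rintro rfl
    rw [zero_pow hN.ne'] at hκ'
    exact hκ0 hκ'.symm
  let P₁ : End 𝔽 W := κ'⁻¹ • P
  have hP₁N : P₁ ^ N = 1 := by
    show (κ'⁻¹ • P) ^ N = 1
    rw [smul_pow, hκ, smul_smul, inv_pow, hκ', inv_mul_cancel₀ hκ0, one_smul]
  have hP₁ : ∀ m, α m * P₁ = P₁ * m := by
    intro m
    show α m * (κ'⁻¹ • P) = (κ'⁻¹ • P) * m
    rw [mul_smul_comm, smul_mul_assoc, hP]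
  let θ : B := Ψ.symm P₁
  have hθN : θ ^ N = 1 := by
    apply Ψ.injective
    rw [map_pow, map_one, AlgEquiv.apply_symm_apply, hP₁N]
  have hθ : ∀ x : B, αB x * θ = θ * x := by
    intro x
    apply Ψ.injective
    rw [map_mul, map_mul, AlgEquiv.apply_symm_apply, ← hα, hP₁]
  -- the operator `ψ`
  let θ' : B := θ ^ (N - 1)
  have hθθ' : θ * θ' = 1 := by
    show θ * θ ^ (N - 1) = 1
    rw [← pow_succ', Nat.sub_add_cancel hN, hθN]
  have hθ'θ : θ' * θ = 1 := by
    show θ ^ (N - 1) * θ = 1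
    rw [← pow_succ, Nat.sub_add_cancel hN, hθN]
  let th : End 𝔽 U := (θ : End 𝔽 U)
  let th' : End 𝔽 U := (θ' : End 𝔽 U)
  have hthth' : th * th' = 1 := congrArg (fun z : B => (z : End 𝔽 U)) hθθ'
  have hth'th : th' * th = 1 := congrArg (fun z : B => (z : End 𝔽 U)) hθ'θ
  have hthN : th ^ N = 1 := by
    show ((θ : B) : End 𝔽 U) ^ N = 1
    rw [← Subalgebra.coe_pow, hθN]; rfl
  have hconj : ∀ x : B, g * (x : End 𝔽 U) * h = th * x * th' := by
    intro x
    have h1 : (g * (x : End 𝔽 U) * h) * th = th * x :=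
      congrArg (fun z : B => (z : End 𝔽 U)) (hθ x)
    calc g * (x : End 𝔽 U) * h = (g * (x : End 𝔽 U) * h) * (th * th') := by rw [hthth', mul_one]
      _ = ((g * (x : End 𝔽 U) * h) * th) * th' := by simp only [mul_assoc]
      _ = _ := by rw [h1]
  let ψ : End 𝔽 U := th' * g
  have hψ : ∀ x : B, ψ * x = x * ψ := by
    intro x
    calc ψ * x = th' * (g * (x : End 𝔽 U) * (h * g)) := by
          rw [hhg, mul_one]; simp only [ψ, mul_assoc]
      _ = th' * ((g * (x : End 𝔽 U) * h) * g) := by simp only [mul_assoc]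
      _ = th' * ((th * x * th') * g) := by rw [hconj]
      _ = (th' * th) * x * (th' * g) := by simp only [mul_assoc]
      _ = x * ψ := by rw [hth'th, one_mul]
  have hgeq : g = th * ψ := by
    show g = th * (th' * g)
    rw [← mul_assoc, hthth', one_mul]
  have hcomm : Commute th ψ := (hψ θ).symm
  have hgpow : ∀ j, g ^ j = th ^ j * ψ ^ j := by
    intro j
    rw [hgeq]
    exact hcomm.mul_pow j
  have hψN : ψ ^ N = 1 := by
    have := hgpow N
    rw [hgN, hthN, one_mul] at this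
    exact this.symm
  obtain ⟨c, hc⟩ := Module.End.exists_eigenvalue ψ
  obtain ⟨u₀, hu₀⟩ := hc.exists_hasEigenvector
  have hcN : c ^ N = 1 := by
    have h1 := hu₀.pow_apply N
    rw [hψN, Module.End.one_apply] at h1
    have h2 : (c ^ N - 1) • u₀ = 0 := by
      rw [sub_smul, one_smul, ← h1, sub_self]
    rcases smul_eq_zero.mp h2 with h3 | h3
    · exact sub_eq_zero.mp h3
    · exact absurd h3 hu₀.2
  have hc0 : c ≠ 0 := by
    rintro rfl
    rw [zero_pow hN.ne'] at hcN
    exact zero_ne_one hcN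
  let E := Module.End.eigenspace ψ c
  have hEinv : ∀ (x : B) (u : U), u ∈ E → (x : End 𝔽 U) u ∈ E := by
    intro x u hu
    rw [Module.End.mem_eigenspace_iff] at hu ⊢
    have h1 := congrArg (fun z : End 𝔽 U => z u) (hψ x)
    simp only [Module.End.mul_apply, hu, map_smul] at h1
    exact h1
  let I : TwoSidedIdeal B := TwoSidedIdeal.mk' {x : B | ∀ u ∈ E, (x : End 𝔽 U) u = 0}
    (by intro u _; rfl)
    (by
      intro x y hx hy u hu
      show (x : End 𝔽 U) u + (y : End 𝔽 U) u = 0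
      rw [hx u hu, hy u hu, add_zero])
    (by
      intro x hx u hu
      show -((x : End 𝔽 U) u) = 0
      rw [hx u hu, neg_zero])
    (by
      intro x y hy u hu
      show (x : End 𝔽 U) ((y : End 𝔽 U) u) = 0
      rw [hy u hu, map_zero])
    (by
      intro x y hx u hu
      show (x : End 𝔽 U) ((y : End 𝔽 U) u) = 0
      exact hx _ (hEinv y u hu))
  have hIbot : I = ⊥ := by
    refine (eq_bot_or_eq_top I).resolve_right ?_
    intro hI
    have h1 : (1 : B) ∈ I := by rw [hI]; trivial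
    have h2 : ∀ u ∈ E, ((1 : B) : End 𝔽 U) u = 0 := (TwoSidedIdeal.mem_mk' _ _ _ _ _ _ _).mp h1
    have h3 := h2 u₀ (Module.End.mem_eigenspace_iff.mpr hu₀.apply_eq_smul)
    exact hu₀.2 h3
  let β : B := ∑ j ∈ Finset.range N, c ^ j • θ ^ j
  have hβI : β ∈ I := by
    refine (TwoSidedIdeal.mem_mk' _ _ _ _ _ _ _).mpr ?_
    intro u hu
    have hu' : ψ u = c • u := Module.End.mem_eigenspace_iff.mp hu
    have hψj : ∀ j, (ψ ^ j) u = c ^ j • u := by
      intro j
      induction j with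
      | zero => simp
      | succ j ih =>
        rw [pow_succ, Module.End.mul_apply, hu', map_smul, ih, smul_smul, pow_succ, mul_comm]
    have h1 := congrArg (fun z : End 𝔽 U => z u) hnorm
    simp only [LinearMap.sum_apply, LinearMap.zero_apply] at h1
    have h2 : ((β : B) : End 𝔽 U) u = ∑ j ∈ Finset.range N, (g ^ j) u := by
      show ((∑ j ∈ Finset.range N, c ^ j • θ ^ j : B) : End 𝔽 U) u = _
      rw [AddSubmonoidClass.coe_finsetSum, LinearMap.sum_apply]
      refine Finset.sum_congr rfl fun j _ => ?_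
      rw [hgpow, Module.End.mul_apply, hψj, map_smul]
      rfl
    rw [h2, h1]
  have hβ0 : β = 0 := by
    rw [hIbot] at hβI
    exact (TwoSidedIdeal.mem_bot _).mp hβI
  let f : End 𝔽 W := c • P₁
  have hfN : f ^ N = 1 := by
    show (c • P₁) ^ N = 1
    rw [smul_pow, hcN, hP₁N, one_smul]
  have hfnorm : ∑ j ∈ Finset.range N, f ^ j = 0 := by
    have h1 := congrArg Ψ hβ0
    rw [map_zero, map_sum] at h1
    rw [← h1]
    refine Finset.sum_congr rfl fun j _ => ?_
    show (c • P₁) ^ j = _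
    rw [smul_pow, map_smul, map_pow, AlgEquiv.apply_symm_apply]
  let C' : Submodule 𝔽 (End 𝔽 W) := C.map (Ψ.toLinearEquiv : B →ₗ[𝔽] End 𝔽 W)
  have hC' : ∀ m, m * f = f * m → m ∈ C' := by
    intro m hm
    have hm1 : m * P₁ = P₁ * m := by
      have h1 : c • (m * P₁) = c • (P₁ * m) := by
        rw [← mul_smul_comm, ← smul_mul_assoc]
        exact hm
      exact smul_right_injective _ hc0 h1
    let x : B := Ψ.symm m
    have hxθ : x * θ = θ * x := by
      apply Ψ.injective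
      simp only [x, θ, map_mul, AlgEquiv.apply_symm_apply]
      exact hm1
    have hαx : αB x = x := by
      have h1 : αB x * θ = x * θ := by rw [hθ, hxθ]
      calc αB x = αB x * (θ * θ') := by rw [hθθ', mul_one]
        _ = (αB x * θ) * θ' := by rw [mul_assoc]
        _ = (x * θ) * θ' := by rw [h1]
        _ = x := by rw [mul_assoc, hθθ', mul_one]
    have hgx : g * (x : End 𝔽 U) = x * g := by
      have h1 : g * (x : End 𝔽 U) * h = x := congrArg (fun z : B => (z : End 𝔽 U)) hαx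
      calc g * (x : End 𝔽 U) = g * (x : End 𝔽 U) * (h * g) := by rw [hhg, mul_one]
        _ = (g * (x : End 𝔽 U) * h) * g := by rw [mul_assoc, mul_assoc, mul_assoc]
        _ = x * g := by rw [h1]
    refine ⟨x, hC x hgx, ?_⟩
    show Ψ (Ψ.symm m) = m
    rw [AlgEquiv.apply_symm_apply]
  have hbound := centralizer_bound f hN hN' hfN hfnorm C' hC'
  have hfinC' : finrank 𝔽 C' = finrank 𝔽 C := LinearEquiv.finrank_map_eq _ _
  rw [hfinW, hfinC'] at hbound
  exact ⟨D, hfinB, hbound⟩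

end Simple

section Rep

/-- A representation whose commutators act as scalars. -/
structure CommRep (𝔽 U R : Type*) [Field 𝔽] [AddCommGroup U] [Module 𝔽 U] [Group R] where
  ρ : R →* End 𝔽 U
  ω : R → R → 𝔽
  hω : ∀ s t, ρ s * ρ t = ω s t • (ρ t * ρ s)

namespace CommRep

variable {U R : Type*} [AddCommGroup U] [Module 𝔽 U] [Group R]
variable (X : CommRep 𝔽 U R)

theorem rho_mul_inv (s : R) : X.ρ s * X.ρ s⁻¹ = 1 := by
  rw [← map_mul, mul_inv_cancel, map_one]

theorem rho_inv_mul (s : R) : X.ρ s⁻¹ * X.ρ s = 1 := by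
  rw [← map_mul, inv_mul_cancel, map_one]

theorem conj_rho (s t : R) : X.ρ s * X.ρ t * X.ρ s⁻¹ = X.ω s t • X.ρ t := by
  rw [X.hω, smul_mul_assoc, mul_assoc, rho_mul_inv, mul_one]

variable [Nontrivial U]

theorem rho_ne_zero (s : R) : X.ρ s ≠ 0 := by
  intro h
  have := X.rho_mul_inv s
  rw [h, zero_mul] at this
  exact zero_ne_one this

theorem smul_inj {y : End 𝔽 U} (hy : y ≠ 0) {c d : 𝔽} (h : c • y = d • y) : c = d :=
  smul_left_injective 𝔽 hy h

theorem omega_eq {s t : R} {c : 𝔽} (h : X.ρ s * X.ρ t = c • (X.ρ t * X.ρ s)) : X.ω s t = c := by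
  rw [X.hω] at h
  refine smul_inj ?_ h
  rw [← map_mul]
  exact X.rho_ne_zero _

theorem omega_ne_zero (s t : R) : X.ω s t ≠ 0 := by
  intro h
  have := X.hω s t
  rw [h, zero_smul, ← map_mul] at this
  exact X.rho_ne_zero _ this

theorem omega_mul_left (s s' t : R) : X.ω (s * s') t = X.ω s t * X.ω s' t := by
  apply X.omega_eq
  simp only [map_mul]
  calc X.ρ s * X.ρ s' * X.ρ t = X.ρ s * (X.ρ s' * X.ρ t) := by rw [mul_assoc]
    _ = X.ρ s * (X.ω s' t • (X.ρ t * X.ρ s')) := by rw [X.hω s' t]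
    _ = X.ω s' t • ((X.ρ s * X.ρ t) * X.ρ s') := by
        rw [mul_smul_comm, mul_assoc]
    _ = X.ω s' t • ((X.ω s t • (X.ρ t * X.ρ s)) * X.ρ s') := by rw [X.hω s t]
    _ = (X.ω s t * X.ω s' t) • (X.ρ t * (X.ρ s * X.ρ s')) := by
        rw [smul_mul_assoc, smul_smul, mul_comm, mul_assoc]

theorem omega_mul_right (s t t' : R) : X.ω s (t * t') = X.ω s t * X.ω s t' := by
  apply X.omega_eq
  simp only [map_mul]
  calc X.ρ s * (X.ρ t * X.ρ t') = (X.ρ s * X.ρ t) * X.ρ t' := by rw [mul_assoc]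
    _ = X.ω s t • (X.ρ t * (X.ρ s * X.ρ t')) := by
        rw [X.hω s t, smul_mul_assoc, mul_assoc]
    _ = X.ω s t • (X.ρ t * (X.ω s t' • (X.ρ t' * X.ρ s))) := by rw [X.hω s t']
    _ = (X.ω s t * X.ω s t') • (X.ρ t * X.ρ t' * X.ρ s) := by
        rw [mul_smul_comm, smul_smul, mul_assoc]

theorem omega_one_right (s : R) : X.ω s 1 = 1 := by
  apply X.omega_eq
  simp

theorem omega_one_left (s : R) : X.ω 1 s = 1 := by
  apply X.omega_eq
  simp

theorem omega_inv_right (s t : R) : X.ω s t⁻¹ = (X.ω s t)⁻¹ := by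
  have h := X.omega_mul_right s t t⁻¹
  rw [mul_inv_cancel, omega_one_right] at h
  exact eq_inv_of_mul_eq_one_right h.symm

theorem omega_inv_left (s t : R) : X.ω s⁻¹ t = (X.ω s t)⁻¹ := by
  have h := X.omega_mul_left s s⁻¹ t
  rw [mul_inv_cancel, omega_one_left] at h
  exact eq_inv_of_mul_eq_one_right h.symm

theorem omega_swap (s t : R) : X.ω t s = (X.ω s t)⁻¹ := by
  apply X.omega_eq
  rw [X.hω s t, smul_smul, inv_mul_cancel₀ (X.omega_ne_zero s t), one_smul]

/-- The radical of the commutator pairing. -/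
def radical : Subgroup R where
  carrier := {s | ∀ t, X.ω s t = 1}
  mul_mem' := by
    intro a b ha hb t
    rw [X.omega_mul_left, ha t, hb t, one_mul]
  one_mem' := X.omega_one_left
  inv_mem' := by
    intro a ha t
    rw [X.omega_inv_left, ha t, inv_one]

theorem mem_radical {s : R} : s ∈ X.radical ↔ ∀ t, X.ω s t = 1 := Iff.rfl

theorem omega_radical_right (s : R) {a : R} (ha : a ∈ X.radical) : X.ω s a = 1 := by
  rw [X.omega_swap a s, ha s, inv_one]

theorem radical_normal : X.radical.Normal := by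
  refine ⟨fun a ha s t => ?_⟩
  rw [X.omega_mul_left, X.omega_mul_left, ha t, X.omega_inv_left, mul_one,
    mul_inv_cancel₀ (X.omega_ne_zero s t)]

theorem omega_congr_right (s : R) {t t' : R} (h : t⁻¹ * t' ∈ X.radical) : X.ω s t = X.ω s t' := by
  have h1 : t' = t * (t⁻¹ * t') := by group
  rw [h1, X.omega_mul_right, X.omega_radical_right s h, mul_one]

variable [Fintype R]

theorem sum_char {t : R} (ht : t ∉ X.radical) : ∑ s, X.ω s t = 0 := by
  classical
  have h : ∃ s₁, X.ω s₁ t ≠ 1 := by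
    by_contra hcon
    push Not at hcon
    exact ht fun s => by rw [X.omega_swap s t, hcon s, inv_one]
  obtain ⟨s₁, hs₁⟩ := h
  have h1 : ∑ s, X.ω s t = X.ω s₁ t * ∑ s, X.ω s t := by
    rw [Finset.mul_sum]
    conv_lhs => rw [← Equiv.sum_comp (Equiv.mulLeft s₁)]
    exact Finset.sum_congr rfl fun s _ => by
      simp [X.omega_mul_left]
  have h2 : (X.ω s₁ t - 1) * ∑ s, X.ω s t = 0 := by
    rw [sub_mul, one_mul, ← h1, sub_self]
  rcases mul_eq_zero.mp h2 with h3 | h3
  · exact absurd (sub_eq_zero.mp h3) hs₁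
  · exact h3

/-- Projection to the span of `ρ t₀`. -/
noncomputable def prL (t₀ : R) : End 𝔽 U →ₗ[𝔽] End 𝔽 U where
  toFun x := (Fintype.card R : 𝔽)⁻¹ • ∑ s, (X.ω s t₀)⁻¹ • (X.ρ s * x * X.ρ s⁻¹)
  map_add' x y := by
    simp only [mul_add, add_mul, smul_add, Finset.sum_add_distrib]
  map_smul' c x := by
    simp only [RingHom.id_apply, Finset.smul_sum, mul_smul_comm, smul_mul_assoc, smul_comm c]

theorem prL_apply (t₀ : R) (x : End 𝔽 U) : X.prL t₀ x =
    (Fintype.card R : 𝔽)⁻¹ • ∑ s, (X.ω s t₀)⁻¹ • (X.ρ s * x * X.ρ s⁻¹) := rfl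

theorem prL_congr {t₀ t₁ : R} (h : t₀⁻¹ * t₁ ∈ X.radical) (x : End 𝔽 U) : X.prL t₀ x = X.prL t₁ x := by
  simp only [prL_apply, X.omega_congr_right _ h]

theorem prL_rho (hR : (Fintype.card R : 𝔽) ≠ 0) (t₀ t : R) [Decidable (t₀⁻¹ * t ∈ X.radical)] :
    X.prL t₀ (X.ρ t) = if t₀⁻¹ * t ∈ X.radical then X.ρ t else 0 := by
  have h0 : ∀ s, (X.ω s t₀)⁻¹ • (X.ρ s * X.ρ t * X.ρ s⁻¹) = X.ω s (t₀⁻¹ * t) • X.ρ t := by
    intro s
    rw [X.conj_rho, smul_smul, X.omega_mul_right, X.omega_inv_right]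
  rw [prL_apply]
  simp only [h0, ← Finset.sum_smul]
  split_ifs with h
  · have : ∀ s, X.ω s (t₀⁻¹ * t) = 1 := fun s => X.omega_radical_right s h
    simp only [this, Finset.sum_const, Finset.card_univ, nsmul_eq_mul, mul_one]
    rw [smul_smul, inv_mul_cancel₀ hR, one_smul]
  · rw [X.sum_char h, zero_smul, smul_zero]

end CommRep

/-- A representation whose commutators act as scalars, and whose radical acts as scalars. -/
structure HHRep (𝔽 U R : Type*) [Field 𝔽] [AddCommGroup U] [Module 𝔽 U] [Group R]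
    extends CommRep 𝔽 U R where
  hscal : ∀ s, (∀ t, ω s t = 1) → ∃ c : 𝔽, ρ s = c • 1

namespace HHRep

variable {U R : Type*} [AddCommGroup U] [Module 𝔽 U] [Group R]
variable (X : HHRep 𝔽 U R)

variable [Nontrivial U]

variable [Fintype R]

/-! ### The algebra spanned by the representation -/

/-- The quotient indexing a basis. -/
abbrev T : Type _ := R ⧸ X.radical

noncomputable instance : Fintype X.T := Fintype.ofFinite _

/-- Chosen representatives. -/
noncomputable def e (t : X.T) : End 𝔽 U := X.ρ (Quotient.out t)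

theorem mk_out (t : X.T) : ((Quotient.out t : R) : X.T) = t := QuotientGroup.out_eq' t

theorem e_ne_zero (t : X.T) : X.e t ≠ 0 := X.rho_ne_zero _

theorem rho_eq_smul_e (s : R) : ∃ κ : 𝔽, κ ≠ 0 ∧ X.ρ s = κ • X.e (s : X.T) := by
  have h : ((Quotient.out (s : X.T) : R) : X.T) = s := X.mk_out _
  rw [QuotientGroup.eq] at h
  obtain ⟨c, hc⟩ := X.hscal _ h
  have hc0 : c ≠ 0 := by
    rintro rfl
    rw [zero_smul] at hc
    exact X.rho_ne_zero _ hc
  refine ⟨c, hc0, ?_⟩
  rw [map_mul] at hc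
  have h2 : X.ρ s = X.ρ (Quotient.out (s : X.T)) * (c • 1) := by
    rw [← hc, ← mul_assoc, X.rho_mul_inv, one_mul]
  rw [mul_smul_comm, mul_one] at h2
  rw [h2, e]

theorem prL_e (hR : (Fintype.card R : 𝔽) ≠ 0) (t₀ t : X.T) [Decidable (t₀ = t)] :
    X.prL (Quotient.out t₀) (X.e t) = if t₀ = t then X.e t else 0 := by
  classical
  rw [e, X.prL_rho hR]
  have : (Quotient.out t₀)⁻¹ * (Quotient.out t) ∈ X.radical ↔ t₀ = t := by
    rw [← QuotientGroup.eq, X.mk_out, X.mk_out]
  by_cases h : t₀ = t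
  · rw [if_pos h, if_pos (this.mpr h)]
  · rw [if_neg h, if_neg (fun h' => h (this.mp h'))]

/-- The algebra spanned by the representation. -/
noncomputable def B : Subalgebra 𝔽 (End 𝔽 U) := Algebra.adjoin 𝔽 (MonoidHom.mrange X.ρ : Set (End 𝔽 U))

theorem rho_mem_B (s : R) : X.ρ s ∈ X.B := Algebra.subset_adjoin ⟨s, rfl⟩

theorem e_mem_B (t : X.T) : X.e t ∈ X.B := X.rho_mem_B _

theorem exists_coords {x : End 𝔽 U} (hx : x ∈ X.B) : ∃ c : X.T → 𝔽, ∑ t, c t • X.e t = x := by
  have h1 : x ∈ Submodule.span 𝔽 (Set.range X.e) := by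
    have h2 : x ∈ Subalgebra.toSubmodule X.B := hx
    rw [B, Algebra.adjoin_eq_span] at h2
    have h3 : (Submonoid.closure (MonoidHom.mrange X.ρ : Set (End 𝔽 U)) : Set (End 𝔽 U)) = MonoidHom.mrange X.ρ := by
      rw [Submonoid.closure_eq]
    rw [h3] at h2
    refine (Submodule.span_le.mpr ?_) h2
    rintro _ ⟨s, rfl⟩
    obtain ⟨κ, -, hκ⟩ := X.rho_eq_smul_e s
    show X.ρ s ∈ _
    rw [hκ]
    exact Submodule.smul_mem _ _ (Submodule.subset_span ⟨_, rfl⟩)
  exact (Submodule.mem_span_range_iff_exists_fun 𝔽).mp h1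

/-- Basis elements in the algebra. -/
noncomputable def bB (t : X.T) : X.B := ⟨X.e t, X.e_mem_B t⟩

theorem bB_coe_sum (c : X.T → 𝔽) : ((∑ t, c t • X.bB t : X.B) : End 𝔽 U) = ∑ t, c t • X.e t := by
  simp [bB]

theorem prL_sum (hR : (Fintype.card R : 𝔽) ≠ 0) (c : X.T → 𝔽) (t₀ : X.T) :
    X.prL (Quotient.out t₀) (∑ t, c t • X.e t) = c t₀ • X.e t₀ := by
  classical
  rw [map_sum]
  simp only [map_smul, X.prL_e hR]
  rw [Finset.sum_eq_single t₀]
  · simp
  · intro t _ ht
    rw [if_neg (Ne.symm ht), smul_zero]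
  · simp

theorem bB_li (hR : (Fintype.card R : 𝔽) ≠ 0) : LinearIndependent 𝔽 X.bB := by
  rw [Fintype.linearIndependent_iff]
  intro c hc t₀
  have h1 := congrArg (fun x : X.B => (x : End 𝔽 U)) hc
  simp only [X.bB_coe_sum, ZeroMemClass.coe_zero] at h1
  have h2 := X.prL_sum hR c t₀
  rw [h1, map_zero] at h2
  rcases smul_eq_zero.mp h2.symm with h3 | h3
  · exact h3
  · exact absurd h3 (X.e_ne_zero t₀)

theorem bB_span : ⊤ ≤ Submodule.span 𝔽 (Set.range X.bB) := by
  rintro ⟨x, hx⟩ -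
  obtain ⟨c, hc⟩ := X.exists_coords hx
  have : (⟨x, hx⟩ : X.B) = ∑ t, c t • X.bB t := by
    ext1
    rw [X.bB_coe_sum, hc]
  rw [this]
  exact Submodule.sum_mem _ fun t _ => Submodule.smul_mem _ _ (Submodule.subset_span ⟨t, rfl⟩)

/-- A basis of the algebra. -/
noncomputable def basisB (hR : (Fintype.card R : 𝔽) ≠ 0) : Basis X.T 𝔽 X.B :=
  Basis.mk (X.bB_li hR) X.bB_span

theorem finrank_B (hR : (Fintype.card R : 𝔽) ≠ 0) : finrank 𝔽 X.B = X.radical.index := by
  rw [Module.finrank_eq_card_basis (X.basisB hR), Subgroup.index, Nat.card_eq_fintype_card]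

theorem prL_coord (hR : (Fintype.card R : 𝔽) ≠ 0) (x : X.B) (t₀ : X.T) :
    X.prL (Quotient.out t₀) x = ((X.basisB hR).repr x t₀) • X.e t₀ := by
  have h1 := (X.basisB hR).sum_repr x
  have h2 : (x : End 𝔽 U) = ∑ t, ((X.basisB hR).repr x t) • X.e t := by
    conv_lhs => rw [← h1]
    simp [basisB, bB]
  rw [h2]
  have := X.prL_sum hR (fun t => (X.basisB hR).repr (⟨∑ t, ((X.basisB hR).repr x t) • X.e t, by
    rw [← h2]; exact x.2⟩ : X.B) t) t₀
  have h3 : (⟨∑ t, ((X.basisB hR).repr x t) • X.e t, by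
    rw [← h2]; exact x.2⟩ : X.B) = x := by
    ext1; exact h2.symm
  simp only [h3] at this
  exact this

theorem eq_zero_of_prL (hR : (Fintype.card R : 𝔽) ≠ 0) (x : X.B)
    (h : ∀ t₀ : R, X.prL t₀ x = 0) : x = 0 := by
  have h1 : ∀ t, (X.basisB hR).repr x t = 0 := by
    intro t
    have h2 := X.prL_coord hR x t
    rw [h] at h2
    rcases smul_eq_zero.mp h2.symm with h3 | h3
    · exact h3
    · exact absurd h3 (X.e_ne_zero t)
  have h2 := (X.basisB hR).sum_repr x
  rw [← h2]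
  simp [h1]

instance instNontrivialB : Nontrivial X.B := by
  refine ⟨⟨0, 1, ?_⟩⟩
  intro h
  have h2 : ((0 : X.B) : End 𝔽 U) = ((1 : X.B) : End 𝔽 U) := congrArg _ h
  simp at h2

theorem isSimpleRing_B (hR : (Fintype.card R : 𝔽) ≠ 0) : IsSimpleRing X.B := by
  refine IsSimpleRing.of_eq_bot_or_eq_top fun I => ?_
  by_cases hI : I = ⊥
  · exact Or.inl hI
  right
  rw [← I.one_mem_iff]
  obtain ⟨x, hxI, hx0⟩ : ∃ x ∈ I, x ≠ 0 := by
    by_contra hcon
    push Not at hcon
    apply hI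
    ext y
    constructor
    · intro hy; rw [hcon y hy]; exact (TwoSidedIdeal.mem_bot _).mpr rfl
    · intro hy
      rw [(TwoSidedIdeal.mem_bot _).mp hy]; exact I.zero_mem
  obtain ⟨t₀, ht₀⟩ : ∃ t₀, (X.basisB hR).repr x t₀ ≠ 0 := by
    by_contra hcon
    push Not at hcon
    apply hx0
    rw [← (X.basisB hR).sum_repr x]
    simp [hcon]
  set c := (X.basisB hR).repr x t₀ with hc
  -- elements of `B` for the group
  let bs : R → X.B := fun s => ⟨X.ρ s, X.rho_mem_B s⟩
  have hsmul : ∀ (a : 𝔽) {y : X.B}, y ∈ I → a • y ∈ I := by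
    intro a y hy
    rw [Algebra.smul_def]
    exact I.mul_mem_left _ _ hy
  let y : X.B := ∑ s, (X.ω s (Quotient.out t₀))⁻¹ • (bs s * x * bs s⁻¹)
  have hyI : y ∈ I := by
    refine sum_mem fun s _ => hsmul _ ?_
    exact I.mul_mem_right _ _ (I.mul_mem_left _ _ hxI)
  have hy : (y : End 𝔽 U) = (Fintype.card R : 𝔽) • (c • X.e t₀) := by
    have h1 := X.prL_coord hR x t₀
    rw [X.prL_apply] at h1
    rw [← h1, smul_smul, mul_inv_cancel₀ hR, one_smul]
    simp [y, bs]
  have hb : X.bB t₀ = ((Fintype.card R : 𝔽) * c)⁻¹ • y := by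
    ext1
    rw [Subalgebra.coe_smul, hy, smul_smul, smul_smul, mul_assoc, inv_mul_cancel₀ (mul_ne_zero hR ht₀), one_smul]
    rfl
  have hbI : X.bB t₀ ∈ I := by
    rw [hb]; exact hsmul _ hyI
  have h1 : (1 : X.B) = bs (Quotient.out t₀)⁻¹ * X.bB t₀ := by
    ext1
    show (1 : End 𝔽 U) = X.ρ (Quotient.out t₀)⁻¹ * X.ρ (Quotient.out t₀)
    rw [X.rho_inv_mul]
  rw [h1]
  exact I.mul_mem_left _ _ hbI


/-! ### Conjugation by `g` -/

section Conj

variable (g h : End 𝔽 U) (γ : MulAut R) (hg : ∀ s, g * X.ρ s = X.ρ (γ s) * g)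
  (hgh : g * h = 1) (hhg : h * g = 1)

include hg hgh in
theorem conj_rho_g (s : R) : g * X.ρ s * h = X.ρ (γ s) := by
  rw [hg, mul_assoc, hgh, mul_one]

include hg hgh hhg in
theorem omega_gamma (s t : R) : X.ω (γ s) (γ t) = X.ω s t := by
  apply X.omega_eq
  rw [← X.conj_rho_g g h γ hg hgh s, ← X.conj_rho_g g h γ hg hgh t]
  have h1 : g * X.ρ s * h * (g * X.ρ t * h) = g * (X.ρ s * X.ρ t) * h := by
    calc g * X.ρ s * h * (g * X.ρ t * h) = g * X.ρ s * (h * g) * X.ρ t * h := by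
          simp only [mul_assoc]
      _ = g * (X.ρ s * X.ρ t) * h := by rw [hhg, mul_one]; simp only [mul_assoc]
  have h2 : g * X.ρ t * h * (g * X.ρ s * h) = g * (X.ρ t * X.ρ s) * h := by
    calc g * X.ρ t * h * (g * X.ρ s * h) = g * X.ρ t * (h * g) * X.ρ s * h := by
          simp only [mul_assoc]
      _ = g * (X.ρ t * X.ρ s) * h := by rw [hhg, mul_one]; simp only [mul_assoc]
  rw [h1, h2, X.hω, mul_smul_comm, smul_mul_assoc]

include hg hgh in
theorem conj_mem_B {x : End 𝔽 U} (hx : x ∈ X.B) : g * x * h ∈ X.B := by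
  obtain ⟨c, rfl⟩ := X.exists_coords hx
  rw [Finset.mul_sum, Finset.sum_mul]
  refine sum_mem fun t _ => ?_
  rw [mul_smul_comm, smul_mul_assoc]
  refine Subalgebra.smul_mem _ ?_ _
  rw [e, X.conj_rho_g g h γ hg hgh]
  exact X.rho_mem_B _

include hg hgh hhg in
theorem prL_conj (t₀ : R) (x : End 𝔽 U) :
    g * X.prL t₀ x * h = X.prL (γ t₀) (g * x * h) := by
  simp only [CommRep.prL_apply]
  rw [mul_smul_comm, smul_mul_assoc, Finset.mul_sum, Finset.sum_mul]
  congr 1
  conv_rhs => rw [← Equiv.sum_comp γ.toEquiv]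
  refine Finset.sum_congr rfl fun s _ => ?_
  rw [mul_smul_comm, smul_mul_assoc]
  simp only [MulEquiv.toEquiv_eq_coe, EquivLike.coe_coe]
  rw [X.omega_gamma g h γ hg hgh hhg]
  congr 1
  have h1 : X.ρ (γ s) = g * X.ρ s * h := (X.conj_rho_g g h γ hg hgh s).symm
  have h2 : X.ρ (γ s)⁻¹ = g * X.ρ s⁻¹ * h := by
    rw [X.conj_rho_g g h γ hg hgh, map_inv γ s]
  rw [h1, h2]
  calc g * (X.ρ s * x * X.ρ s⁻¹) * h
      = g * X.ρ s * (1 : End 𝔽 U) * x * (1 : End 𝔽 U) * X.ρ s⁻¹ * h := by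
        simp only [mul_one, mul_assoc]
    _ = g * X.ρ s * (h * g) * x * (h * g) * X.ρ s⁻¹ * h := by rw [hhg]
    _ = _ := by simp only [mul_assoc]

end Conj


/-- **The Hall--Higman inequality.** -/
theorem hh_lemma [IsAlgClosed 𝔽] [FiniteDimensional 𝔽 U]
    (hR : (Fintype.card R : 𝔽) ≠ 0)
    (g : End 𝔽 U) (γ : MulAut R) (hg : ∀ s, g * X.ρ s = X.ρ (γ s) * g)
    {N : ℕ} (hN : 0 < N) (hN' : (N : 𝔽) ≠ 0) (hgN : g ^ N = 1)
    (hnorm : ∑ j ∈ Finset.range N, g ^ j = 0)
    (Ξ : Finset R) (hΞ : ∀ s : R, ∃ ξ ∈ Ξ, ∃ j : ℕ, ((γ ^ j) ξ)⁻¹ * s ∈ X.radical) :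
    ∃ D : ℕ, X.radical.index = D ^ 2 ∧ D ^ 2 ≤ (N - 1) * Ξ.card := by
  classical
  set h := g ^ (N - 1) with hh
  have hgh : g * h = 1 := by rw [hh, ← pow_succ', Nat.sub_add_cancel hN, hgN]
  have hhg : h * g = 1 := by rw [hh, ← pow_succ, Nat.sub_add_cancel hN, hgN]
  have := X.isSimpleRing_B hR
  let C : Submodule 𝔽 X.B :=
    { carrier := {x | g * (x : End 𝔽 U) = x * g}
      add_mem' := by
        intro x y hx hy
        simp only [Set.mem_ofPred_eq] at hx hy ⊢
        rw [Subalgebra.coe_add, mul_add, add_mul, hx, hy]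
      zero_mem' := by simp
      smul_mem' := by
        intro c x hx
        simp only [Set.mem_ofPred_eq] at hx ⊢
        rw [Subalgebra.coe_smul, mul_smul_comm, smul_mul_assoc, hx] }
  obtain ⟨D, hD1, hD2⟩ := simple_subalgebra_bound X.B g h hgh hhg
    (fun x hx => X.conj_mem_B g h γ hg hgh hx) hN hN' hgN hnorm C (fun x hx => hx)
  refine ⟨D, by rw [← X.finrank_B hR, hD1], hD2.trans (Nat.mul_le_mul_left _ ?_)⟩
  let L : C →ₗ[𝔽] (Ξ → 𝔽) :=
    { toFun := fun x ξ => (X.basisB hR).repr x.1 ((ξ.1 : R) : X.T)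
      map_add' := by intro x y; ext ξ; simp
      map_smul' := by intro c x; ext ξ; simp }
  have hLinj : Function.Injective L := by
    rw [injective_iff_map_eq_zero]
    intro x hx
    have hxg : g * ((x.1 : X.B) : End 𝔽 U) * h = x.1 := by
      have h1 : g * ((x.1 : X.B) : End 𝔽 U) = x.1 * g := x.2
      rw [h1, mul_assoc, hgh, mul_one]
    have hξ : ∀ ξ ∈ Ξ, X.prL ξ x.1 = 0 := by
      intro ξ hξ
      have h1 : ξ⁻¹ * Quotient.out (ξ : X.T) ∈ X.radical := by
        rw [← QuotientGroup.eq, X.mk_out]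
      rw [X.prL_congr h1, X.prL_coord hR]
      have h2 : (X.basisB hR).repr x.1 (ξ : X.T) = 0 := congrFun hx ⟨ξ, hξ⟩
      rw [h2, zero_smul]
    have hj : ∀ (j : ℕ), ∀ ξ ∈ Ξ, X.prL ((γ ^ j) ξ) x.1 = 0 := by
      intro j
      induction j with
      | zero => intro ξ h; simpa using hξ ξ h
      | succ j ih =>
        intro ξ h'
        have h1 : (γ ^ (j + 1)) ξ = γ ((γ ^ j) ξ) := by rw [pow_succ']; rfl
        rw [h1, ← hxg, ← X.prL_conj g h γ hg hgh hhg, ih ξ h']
        simp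
    have h0 : x.1 = 0 := by
      apply X.eq_zero_of_prL hR
      intro t₀
      obtain ⟨ξ, hξ', j, hj'⟩ := hΞ t₀
      rw [← X.prL_congr hj', hj j ξ hξ']
    exact Subtype.ext h0
  have := LinearMap.finrank_le_finrank_of_injective hLinj
  simpa using this

end HHRep





end Rep

end Cfsg.Agent.Lib.HHCore
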