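import Mathlib
import Cfsg.Agent.Lib.HHCore

set_option autoImplicit false
set_option linter.unusedSectionVars false
set_option linter.unusedVariables false

namespace Cfsg.Agent.Lib.HHChar

open Module

universe u

variable {𝔽 : Type u} [Field 𝔽]

section Weight

variable {U L : Type*} [AddCommGroup U] [Module 𝔽 U] [Group L]
variable (ρ : L →* End 𝔽 U)

/-- Joint eigenspace for a character. -/
def wt (lam : L →* 𝔽) : Submodule 𝔽 U where
  carrier := {u | ∀ a, ρ a u = lam a • u}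
  add_mem' := by intro u v hu hv a; rw [map_add, hu a, hv a, smul_add]
  zero_mem' := by intro a; simp
  smul_mem' := by intro c u hu a; rw [map_smul, hu a, smul_comm]

theorem mem_wt {lam : L →* 𝔽} {u : U} : u ∈ wt ρ lam ↔ ∀ a, ρ a u = lam a • u := Iff.rfl

theorem lam_ne_zero (lam : L →* 𝔽) (a : L) : lam a ≠ 0 := by
  intro h
  have := map_mul lam a a⁻¹
  rw [mul_inv_cancel, map_one, h, zero_mul] at this
  exact one_ne_zero this

theorem sum_ratio [Fintype L] (lam lam' : L →* 𝔽) (h : ∃ a, lam a ≠ lam' a) :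
    ∑ a, lam a * (lam' a)⁻¹ = 0 := by
  obtain ⟨a₁, ha₁⟩ := h
  set χ₁ := lam a₁ * (lam' a₁)⁻¹ with hχ₁
  have hne : χ₁ ≠ 1 := by
    intro h1
    apply ha₁
    exact (mul_inv_eq_one₀ (lam_ne_zero lam' a₁)).mp h1
  have h1 : ∑ a, lam a * (lam' a)⁻¹ = χ₁ * ∑ a, lam a * (lam' a)⁻¹ := by
    rw [Finset.mul_sum]
    conv_lhs => rw [← Equiv.sum_comp (Equiv.mulLeft a₁)]
    refine Finset.sum_congr rfl fun a _ => ?_
    simp only [Equiv.coe_mulLeft, map_mul, mul_inv, hχ₁]
    ring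
  have h2 : (χ₁ - 1) * ∑ a, lam a * (lam' a)⁻¹ = 0 := by
    rw [sub_mul, one_mul, ← h1, sub_self]
  rcases mul_eq_zero.mp h2 with h3 | h3
  · exact absurd (sub_eq_zero.mp h3) hne
  · exact h3

variable {ρ}
variable {g : End 𝔽 U} {γ : MulAut L}

theorem g_pow_mul (hg : ∀ a, g * ρ a = ρ (γ a) * g) (j : ℕ) (a : L) :
    g ^ j * ρ a = ρ ((γ ^ j) a) * g ^ j := by
  induction j generalizing a with
  | zero => simp
  | succ j ih =>
    rw [pow_succ, mul_assoc, hg, ← mul_assoc, ih, mul_assoc, pow_succ γ]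
    rfl

theorem g_pow_wt (hg : ∀ a, g * ρ a = ρ (γ a) * g) (j : ℕ) {lam : L →* 𝔽} {u : U}
    (hu : u ∈ wt ρ lam) (a : L) : ρ ((γ ^ j) a) ((g ^ j) u) = lam a • (g ^ j) u := by
  have h1 := congrArg (fun z : End 𝔽 U => z u) (g_pow_mul hg j a)
  simp only [Module.End.mul_apply, hu a, map_smul] at h1
  exact h1.symm

theorem pow_mem_wt (hg : ∀ a, g * ρ a = ρ (γ a) * g) {t : ℕ} {lam : L →* 𝔽}
    (ht : ∀ a, lam ((γ ^ t) a) = lam a) {u : U} (hu : u ∈ wt ρ lam) : (g ^ t) u ∈ wt ρ lam := by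
  intro b
  have h1 := g_pow_wt hg t hu ((γ ^ t)⁻¹ b)
  have h2 : (γ ^ t) ((γ ^ t)⁻¹ b) = b := by
    show ((γ ^ t) * (γ ^ t)⁻¹) b = b
    rw [mul_inv_cancel]; rfl
  rw [h2] at h1
  rw [h1]
  congr 1
  have h3 := ht ((γ ^ t)⁻¹ b)
  rw [h2] at h3
  exact h3.symm

theorem sum_filter_dvd {M : Type*} [AddCommMonoid M] (F : ℕ → M) {t K : ℕ} (ht : 0 < t) :
    ∑ j ∈ (Finset.range (t * K)).filter (fun j => t ∣ j), F j = ∑ i ∈ Finset.range K, F (t * i) := by
  classical
  have h1 : (Finset.range (t * K)).filter (fun j => t ∣ j) = (Finset.range K).image (fun i => t * i) := by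
    ext j
    simp only [Finset.mem_filter, Finset.mem_range, Finset.mem_image]
    constructor
    · rintro ⟨h1, i, rfl⟩
      exact ⟨i, Nat.lt_of_mul_lt_mul_left h1, rfl⟩
    · rintro ⟨i, hi, rfl⟩
      exact ⟨Nat.mul_lt_mul_of_pos_left hi ht, Dvd.intro _ rfl⟩
  rw [h1, Finset.sum_image]
  intro a _ b _ h
  exact Nat.eq_of_mul_eq_mul_left ht h

/-- The descent along a character. -/
theorem descent [Fintype L] (hL : (Fintype.card L : 𝔽) ≠ 0)
    (hg : ∀ a, g * ρ a = ρ (γ a) * g) {t K : ℕ} (ht : 0 < t)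
    {lam : L →* 𝔽} (hper : ∀ j : ℕ, (∀ a, lam ((γ ^ j) a) = lam a) ↔ t ∣ j)
    {u : U} (hu : u ∈ wt ρ lam) (hS : ∑ j ∈ Finset.range (t * K), (g ^ j) u = 0) :
    ∑ i ∈ Finset.range K, ((g ^ t) ^ i) u = 0 := by
  classical
  let P : End 𝔽 U := ∑ a, (lam a)⁻¹ • ρ a
  have hP : ∀ j, P ((g ^ j) u) = if t ∣ j then (Fintype.card L : 𝔽) • (g ^ j) u else 0 := by
    intro j
    have h1 : P ((g ^ j) u) = (∑ a, lam a * (lam ((γ ^ j) a))⁻¹) • (g ^ j) u := by
      show (∑ a, (lam a)⁻¹ • ρ a) ((g ^ j) u) = _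
      rw [LinearMap.sum_apply, Finset.sum_smul]
      rw [← Equiv.sum_comp (γ ^ j : MulAut L).toEquiv]
      refine Finset.sum_congr rfl fun a _ => ?_
      simp only [MulEquiv.toEquiv_eq_coe, EquivLike.coe_coe, LinearMap.smul_apply]
      rw [g_pow_wt hg j hu a, smul_smul, mul_comm]
    rw [h1]
    by_cases hj : t ∣ j
    · rw [if_pos hj]
      have h2 := (hper j).mpr hj
      have h3 : ∀ a, lam a * (lam ((γ ^ j) a))⁻¹ = 1 := by
        intro a
        rw [h2 a, mul_inv_cancel₀ (lam_ne_zero lam a)]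
      simp [h3]
    · rw [if_neg hj]
      have h2 : ∃ a, lam a ≠ lam ((γ ^ j) a) := by
        by_contra hcon
        push Not at hcon
        exact hj ((hper j).mp fun a => (hcon a).symm)
      have h3 := sum_ratio lam (lam.comp ((γ ^ j : MulAut L) : L →* L)) h2
      simp only [MonoidHom.coe_comp, Function.comp_apply] at h3
      have h4 : ∑ a, lam a * (lam ((γ ^ j) a))⁻¹ = 0 := h3
      rw [h4, zero_smul]
  have h1 := congrArg P hS
  rw [map_sum, map_zero] at h1
  simp only [hP] at h1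
  rw [← Finset.sum_filter, sum_filter_dvd _ ht, ← Finset.smul_sum] at h1
  rcases smul_eq_zero.mp h1 with h2 | h2
  · exact absurd h2 hL
  · simpa only [pow_mul] using h2

theorem exists_period [Finite L] (γ : MulAut L) {N : ℕ} (hN : 0 < N) (hγ : γ ^ N = 1) (lam : L →* 𝔽) :
    ∃ t, 0 < t ∧ t ∣ N ∧ ∀ j : ℕ, (∀ a, lam ((γ ^ j) a) = lam a) ↔ t ∣ j := by
  let φ : (L →* 𝔽) → (L →* 𝔽) := fun m => m.comp (γ : L →* L)
  have hφ : ∀ (j : ℕ) (m : L →* 𝔽) (a : L), (φ^[j] m) a = m ((γ ^ j) a) := by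
    intro j
    induction j with
    | zero => intro m a; simp
    | succ j ih =>
      intro m a
      rw [Function.iterate_succ_apply, ih, pow_succ']
      rfl
  have hiff : ∀ j : ℕ, (∀ a, lam ((γ ^ j) a) = lam a) ↔ Function.IsPeriodicPt φ j lam := by
    intro j
    constructor
    · intro h
      show φ^[j] lam = lam
      ext a
      rw [hφ, h]
    · intro h a
      rw [← hφ, show φ^[j] lam = lam from h]
  have hNper : Function.IsPeriodicPt φ N lam := by
    rw [← hiff, hγ]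
    intro a; rfl
  refine ⟨Function.minimalPeriod φ lam, hNper.minimalPeriod_pos hN, hNper.minimalPeriod_dvd, ?_⟩
  intro j
  rw [hiff]
  exact Function.isPeriodicPt_iff_minimalPeriod_dvd

end Weight

section Eigen

variable {U L : Type*} [AddCommGroup U] [Module 𝔽 U] [FiniteDimensional 𝔽 U] [Group L]
variable (ρ : L →* End 𝔽 U)

/-- Commuting operators on an invariant subspace have a common eigenvector. -/
theorem exists_common_eigen [IsAlgClosed 𝔽] [Finite L] (E : Submodule 𝔽 U) (hE : E ≠ ⊥)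
    (hinv : ∀ a, ∀ u ∈ E, ρ a u ∈ E)
    (hcomm : ∀ a b, ∀ u ∈ E, ρ a (ρ b u) = ρ b (ρ a u)) :
    ∃ lam : L →* 𝔽, ∃ u ∈ E, u ≠ 0 ∧ u ∈ wt ρ lam := by
  classical
  have := Fintype.ofFinite L
  have key : ∀ S : Finset L, ∃ E' : Submodule 𝔽 U, E' ≤ E ∧ E' ≠ ⊥ ∧ (∀ a, ∀ u ∈ E', ρ a u ∈ E') ∧
      ∀ a ∈ S, ∃ c : 𝔽, ∀ u ∈ E', ρ a u = c • u := by
    intro S
    induction S using Finset.induction_on with
    | empty => exact ⟨E, le_rfl, hE, hinv, by simp⟩
    | insert a S ha ih =>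
      obtain ⟨E', hE'1, hE'2, hE'3, hE'4⟩ := ih
      have : Nontrivial E' := Submodule.nontrivial_iff_ne_bot.mpr hE'2
      obtain ⟨c, hc⟩ := Module.End.exists_eigenvalue ((ρ a).restrict (hE'3 a))
      obtain ⟨v, hv⟩ := hc.exists_hasEigenvector
      have hv1 : ρ a (v : U) = c • (v : U) := by
        have := congrArg (fun z : E' => (z : U)) hv.apply_eq_smul
        simpa using this
      have hv2 : (v : U) ≠ 0 := fun h => hv.2 (Subtype.ext h)
      refine ⟨E' ⊓ End.eigenspace (ρ a) c, inf_le_left.trans hE'1, ?_, ?_, ?_⟩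
      · intro hbot
        have : (v : U) ∈ E' ⊓ End.eigenspace (ρ a) c :=
          ⟨v.2, End.mem_eigenspace_iff.mpr hv1⟩
        rw [hbot] at this
        exact hv2 ((Submodule.mem_bot _).mp this)
      · rintro b u ⟨hu1, hu2⟩
        refine ⟨hE'3 b u hu1, End.mem_eigenspace_iff.mpr ?_⟩
        rw [hcomm a b u (hE'1 hu1), End.mem_eigenspace_iff.mp hu2, map_smul]
      · intro a' ha'
        rcases Finset.mem_insert.mp ha' with rfl | h
        · exact ⟨c, fun u hu => End.mem_eigenspace_iff.mp hu.2⟩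
        · obtain ⟨c', hc'⟩ := hE'4 a' h
          exact ⟨c', fun u hu => hc' u hu.1⟩
  obtain ⟨E', hE'1, hE'2, hE'3, hE'4⟩ := key Finset.univ
  obtain ⟨u, hu, hu0⟩ := Submodule.exists_mem_ne_zero_of_ne_bot hE'2
  have h1 : ∀ a, ∃ c : 𝔽, ρ a u = c • u := by
    intro a
    obtain ⟨c, hc⟩ := hE'4 a (Finset.mem_univ a)
    exact ⟨c, hc u hu⟩
  choose l hl using h1
  have hinj : ∀ c d : 𝔽, c • u = d • u → c = d := fun c d h => smul_left_injective 𝔽 hu0 h
  let lam : L →* 𝔽 :=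
    { toFun := l
      map_one' := by
        apply hinj
        rw [← hl, map_one, one_smul]
        rfl
      map_mul' := by
        intro a b
        apply hinj
        rw [← hl, map_mul, Module.End.mul_apply, hl b, map_smul, hl a, smul_smul, mul_comm] }
  exact ⟨lam, u, hE'1 hu, hu0, hl⟩

/-- An operator of finite order prime to the characteristic other than `1` has an eigenvalue
other than `1`. -/
theorem exists_eigenvalue_ne_one [IsAlgClosed 𝔽] (x : End 𝔽 U) {M : ℕ} (hM : (M : 𝔽) ≠ 0)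
    (hx : x ^ M = 1) (hx1 : x ≠ 1) : ∃ a : 𝔽, a ≠ 1 ∧ End.eigenspace x a ≠ ⊥ := by
  by_contra hcon
  push Not at hcon
  apply hx1
  have h1 := HHCore.iSup_eigenspace_eq_top x hM hx
  have h2 : ⨆ a : 𝔽, End.eigenspace x a ≤ End.eigenspace x 1 := by
    refine iSup_le fun a => ?_
    by_cases ha : a = 1
    · rw [ha]
    · rw [hcon a ha]; exact bot_le
  rw [h1] at h2
  ext u
  have h3 : u ∈ End.eigenspace x 1 := h2 Submodule.mem_top
  have h4 := End.mem_eigenspace_iff.mp h3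
  simpa using h4

end Eigen

section Restrict

variable {U L : Type*} [AddCommGroup U] [Module 𝔽 U] [Group L]

/-- Restriction of a representation to an invariant subspace. -/
def restrictRep (ρ : L →* End 𝔽 U) (S : Submodule 𝔽 U) (hS : ∀ a, ∀ u ∈ S, ρ a u ∈ S) :
    L →* End 𝔽 S where
  toFun a := (ρ a).restrict (hS a)
  map_one' := by ext v; simp
  map_mul' := by intro a b; ext v; simp

theorem restrictRep_coe (ρ : L →* End 𝔽 U) (S : Submodule 𝔽 U) (hS : ∀ a, ∀ u ∈ S, ρ a u ∈ S)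
    (a : L) (v : S) : ((restrictRep ρ S hS a v : S) : U) = ρ a v := rfl

theorem restrict_pow_coe (g : End 𝔽 U) (S : Submodule 𝔽 U) (hS : ∀ u ∈ S, g u ∈ S) (j : ℕ) (v : S) :
    (((g.restrict hS) ^ j) v : U) = (g ^ j) v := by
  induction j generalizing v with
  | zero => simp
  | succ j ih =>
    rw [pow_succ, pow_succ, Module.End.mul_apply, Module.End.mul_apply, ih]
    rfl

end Restrict

section Orbit

theorem orbit_count {X : Type*} [Fintype X] (π : Equiv.Perm X) (x₀ : X) (hx₀ : π x₀ = x₀) {p b : ℕ}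
    (hp : p.Prime) (hb : 1 ≤ b) (hπ : π ^ (p ^ b) = 1)
    (hfix : ∀ x, (π ^ (p ^ (b - 1))) x = x → x = x₀) :
    ∃ Ξ : Finset X, (∀ x, ∃ ξ ∈ Ξ, ∃ j : ℕ, (π ^ j) ξ = x) ∧
      p ^ b * (Ξ.card - 1) + 1 = Fintype.card X := by
  classical
  set N := p ^ b with hN
  have hNpos : 0 < N := pow_pos hp.pos b
  -- no short periods
  have hper : ∀ x, x ≠ x₀ → ∀ d, 0 < d → d < N → (π ^ d) x ≠ x := by
    intro x hx d hd0 hdN h
    have h1 : Function.IsPeriodicPt π d x := by
      show π^[d] x = x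
      rw [Equiv.Perm.iterate_eq_pow]; exact h
    have h2 : Function.IsPeriodicPt π N x := by
      show π^[N] x = x
      rw [Equiv.Perm.iterate_eq_pow, hπ]; rfl
    obtain ⟨c, hc, hm⟩ := (Nat.dvd_prime_pow hp).mp h2.minimalPeriod_dvd
    have hcb : c ≠ b := by
      rintro rfl
      have := h1.minimalPeriod_dvd
      rw [hm] at this
      exact absurd (Nat.le_of_dvd hd0 this) (by omega)
    have h3 : Function.minimalPeriod π x ∣ p ^ (b - 1) := by
      rw [hm]; exact pow_dvd_pow _ (by omega)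
    have h4 : Function.IsPeriodicPt π (p ^ (b - 1)) x :=
      Function.isPeriodicPt_iff_minimalPeriod_dvd.mpr h3
    have h5 : (π ^ (p ^ (b - 1))) x = x := by
      have : π^[p ^ (b - 1)] x = x := h4
      rwa [Equiv.Perm.iterate_eq_pow] at this
    exact hx (hfix x h5)
  have hinj : ∀ x, x ≠ x₀ → Set.InjOn (fun j : ℕ => (π ^ j) x) (Finset.range N : Set ℕ) := by
    have key : ∀ x, x ≠ x₀ → ∀ i j, i < j → j < N → (π ^ i) x ≠ (π ^ j) x := by
      intro x hx i j hij hj h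
      apply hper x hx (j - i) (by omega) (by omega)
      have h2 : π ^ j = π ^ i * π ^ (j - i) := by
        rw [← pow_add]; congr 1; omega
      rw [h2, Equiv.Perm.mul_apply] at h
      exact ((π ^ i).injective h).symm
    intro x hx i hi j hj h
    simp only [Finset.coe_range, Set.mem_Iio] at hi hj
    rcases lt_trichotomy i j with h1 | h1 | h1
    · exact absurd h (key x hx i j h1 hj)
    · exact h1
    · exact absurd h.symm (key x hx j i h1 hi)
  let s := Equiv.Perm.SameCycle.setoid π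
  let Ω := Quotient s
  letI : Fintype Ω := Fintype.ofFinite _
  -- natural exponents
  have hnat : ∀ x y, Equiv.Perm.SameCycle π x y → ∃ j, j < N ∧ (π ^ j) x = y := by
    rintro x y ⟨i, hi⟩
    have h0 : (0 : ℤ) ≤ i % (N : ℤ) := Int.emod_nonneg _ (by exact_mod_cast hNpos.ne')
    have h1 : i % (N : ℤ) < N := Int.emod_lt_of_pos _ (by exact_mod_cast hNpos)
    refine ⟨(i % (N : ℤ)).toNat, by omega, ?_⟩
    have h2 : π ^ i = π ^ (i % (N : ℤ)) := by
      conv_lhs => rw [← Int.emod_add_mul_ediv i N, zpow_add, zpow_mul, zpow_natCast, hπ, one_zpow, mul_one]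
    rw [← hi, h2, ← zpow_natCast, Int.toNat_of_nonneg h0]
  let mk : X → Ω := fun x => Quotient.mk s x
  have hmk_out : ∀ x, Equiv.Perm.SameCycle π (Quotient.out (mk x)) x := by
    intro x
    exact Quotient.mk_out (s := s) x
  let ω₀ : Ω := mk x₀
  have hfiber0 : (Finset.univ.filter fun x => mk x = ω₀) = {x₀} := by
    ext x
    simp only [Finset.mem_filter, Finset.mem_univ, true_and, Finset.mem_singleton]
    constructor
    · intro h
      have h1 : Equiv.Perm.SameCycle π x x₀ := Quotient.exact h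
      obtain ⟨j, -, hj⟩ := hnat x x₀ h1
      have h2 : ∀ j, (π ^ j) x₀ = x₀ := by
        intro j
        induction j with
        | zero => rfl
        | succ j ih => rw [pow_succ, Equiv.Perm.mul_apply, hx₀, ih]
      have h3 : (π ^ j) x = (π ^ j) x₀ := by rw [hj, h2]
      exact (π ^ j).injective h3
    · rintro rfl; rfl
  have hfiber : ∀ ω : Ω, ω ≠ ω₀ → (Finset.univ.filter fun x => mk x = ω).card = N := by
    intro ω hω
    have hout : Quotient.out ω ≠ x₀ := by
      intro h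
      apply hω
      have : mk (Quotient.out ω) = ω := Quotient.out_eq ω
      rw [← this, h]
    have h1 : (Finset.univ.filter fun x => mk x = ω) =
        (Finset.range N).image (fun j : ℕ => (π ^ j) (Quotient.out ω)) := by
      ext x
      simp only [Finset.mem_filter, Finset.mem_univ, true_and, Finset.mem_image, Finset.mem_range]
      constructor
      · intro h
        have h2 : Equiv.Perm.SameCycle π (Quotient.out ω) x := by
          have := hmk_out x
          rwa [h] at this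
        exact hnat _ _ h2
      · rintro ⟨j, -, rfl⟩
        have h2 : mk (Quotient.out ω) = ω := Quotient.out_eq ω
        rw [← h2]
        apply Quotient.sound
        rw [h2]
        show Equiv.Perm.SameCycle π _ _
        exact (Equiv.Perm.SameCycle.refl π _).symm.trans ⟨-(j : ℤ), by simp⟩
    rw [h1, Finset.card_image_of_injOn (hinj _ hout), Finset.card_range]
  refine ⟨Finset.univ.image (Quotient.out : Ω → X), ?_, ?_⟩
  · intro x
    refine ⟨Quotient.out (mk x), Finset.mem_image_of_mem _ (Finset.mem_univ _), ?_⟩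
    obtain ⟨j, -, hj⟩ := hnat _ _ (hmk_out x)
    exact ⟨j, hj⟩
  · rw [Finset.card_image_of_injective _ Quotient.out_injective, Finset.card_univ]
    have h1 := Finset.card_eq_sum_card_fiberwise (s := (Finset.univ : Finset X)) (t := (Finset.univ : Finset Ω))
      (f := mk) (fun _ _ => Finset.mem_coe.mpr (Finset.mem_univ _))
    rw [Finset.card_univ] at h1
    rw [h1, ← Finset.add_sum_erase _ _ (Finset.mem_univ ω₀), hfiber0, Finset.card_singleton]
    rw [Finset.sum_congr rfl (fun ω hω => hfiber ω (Finset.ne_of_mem_erase hω))]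
    rw [Finset.sum_const, Finset.card_erase_of_mem (Finset.mem_univ _), Finset.card_univ, smul_eq_mul]
    ring

end Orbit

section Numbers

theorem D_eq {p b D k : ℕ} (hp : p.Prime) (hp2 : p ≠ 2) (hb : 1 ≤ b) (hD2 : 2 ≤ D)
    (h1 : D ^ 2 ≤ (p ^ b - 1) * k) (h2 : p ^ b * (k - 1) + 1 = D ^ 2) : D = p ^ b - 1 := by
  set N := p ^ b with hN
  have hNge : 3 ≤ N := by
    have h3 : p ^ 1 ≤ p ^ b := Nat.pow_le_pow_right hp.pos hb
    have h4 : 3 ≤ p := by
      have := hp.two_le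
      omega
    rw [pow_one] at h3
    omega
  have hk : 1 ≤ k := by
    by_contra hk
    have hk0 : k = 0 := by omega
    rw [hk0] at h2
    simp at h2
    nlinarith
  obtain ⟨K, rfl⟩ : ∃ K, k = K + 1 := ⟨k - 1, by omega⟩
  obtain ⟨M, hM⟩ : ∃ M, N = M + 1 := ⟨N - 1, by omega⟩
  rw [hM, Nat.add_sub_cancel] at h1 ⊢
  simp only [Nat.add_sub_cancel] at h2
  rw [hM] at h2
  -- `K + 1 ≤ M`
  have hKM : K + 1 ≤ M := by
    by_contra hcon
    have h3 : M ≤ K := by omega
    nlinarith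
  have hDle : D ≤ M := by
    by_contra hcon
    have h3 : M + 1 ≤ D := by omega
    have h4 : (M + 1) ^ 2 ≤ D ^ 2 := Nat.pow_le_pow_left h3 2
    have h5 : M * (K + 1) ≤ M * M := Nat.mul_le_mul_left _ hKM
    nlinarith
  -- divisibility
  have hdvd : N ∣ (D - 1) * (D + 1) := by
    have h3 : (D - 1) * (D + 1) = D ^ 2 - 1 := by
      obtain ⟨E, rfl⟩ : ∃ E, D = E + 1 := ⟨D - 1, by omega⟩
      simp only [Nat.add_sub_cancel]
      have : (E + 1) ^ 2 = E * (E + 1 + 1) + 1 := by ring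
      omega
    rw [h3, ← h2, Nat.add_sub_cancel, hM]
    exact Dvd.intro _ rfl
  have hcases : Nat.Coprime N (D - 1) ∨ Nat.Coprime N (D + 1) := by
    by_cases h3 : p ∣ D - 1
    · right
      rw [hN]
      refine Nat.Coprime.pow_left _ ((Nat.Prime.coprime_iff_not_dvd hp).mpr ?_)
      intro h4
      have h5 : p ∣ (D + 1) - (D - 1) := Nat.dvd_sub h4 h3
      have h6 : (D + 1) - (D - 1) = 2 := by omega
      rw [h6] at h5
      exact hp2 ((Nat.prime_dvd_prime_iff_eq hp Nat.prime_two).mp h5)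
    · left
      rw [hN]
      exact Nat.Coprime.pow_left _ ((Nat.Prime.coprime_iff_not_dvd hp).mpr h3)
  rcases hcases with h3 | h3
  · have h4 : N ∣ D + 1 := h3.dvd_of_dvd_mul_left hdvd
    have h5 := Nat.le_of_dvd (by omega) h4
    omega
  · have h4 : N ∣ D - 1 := h3.dvd_of_dvd_mul_right hdvd
    have h5 := Nat.le_of_dvd (by omega) h4
    omega

theorem fermat_contra {p b m a s : ℕ} (hp : p.Prime) (hp2 : p ≠ 2) (hb : 1 ≤ b) (hm : 1 ≤ m)
    (hN : p ^ b = 2 ^ m + 1) (hs : 0 < s) (hdvd : p ^ (a + b) ∣ 2 ^ s - 1) : 2 * m * p ^ a ≤ s := by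
  have : Fact p.Prime := ⟨hp⟩
  have hP : p ^ b ∣ 2 ^ s - 1 := (pow_dvd_pow _ (by omega)).trans hdvd
  have hpow_m : (1 : ℕ) ≤ 2 ^ m := Nat.one_le_two_pow
  have hmpos : 2 ≤ 2 ^ m := by
    calc 2 = 2 ^ 1 := by norm_num
      _ ≤ 2 ^ m := Nat.pow_le_pow_right (by norm_num) hm
  -- work modulo P in the integers
  set P : ℤ := ((2 : ℤ) ^ m + 1) with hPdef
  have hPpos : 0 < P := by positivity
  have h2m : (2 : ℤ) ^ m ≡ -1 [ZMOD P] := by
    apply Int.ModEq.symm
    rw [Int.modEq_iff_dvd]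
    show P ∣ (2 : ℤ) ^ m - -1
    rw [hPdef]; exact ⟨1, by ring⟩
  have h4m : (2 : ℤ) ^ (2 * m) ≡ 1 [ZMOD P] := by
    have : (2 : ℤ) ^ (2 * m) = ((2 : ℤ) ^ m) ^ 2 := by rw [← pow_mul, mul_comm]
    rw [this]
    have h3 := h2m.pow 2
    simpa using h3
  have hsmod : (2 : ℤ) ^ s ≡ 1 [ZMOD P] := by
    apply Int.ModEq.symm
    rw [Int.modEq_iff_dvd]
    have h3 : ((2 ^ m + 1 : ℕ) : ℤ) ∣ ((2 ^ s - 1 : ℕ) : ℤ) := by
      rw [← hN]; exact_mod_cast hP
    have h4 : ((2 ^ s - 1 : ℕ) : ℤ) = 2 ^ s - 1 := by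
      rw [Nat.cast_sub Nat.one_le_two_pow]; simp
    rw [h4] at h3
    simpa [hPdef] using h3
  -- `2 m ∣ s`
  have h2mdvd : 2 * m ∣ s := by
    set e := s % (2 * m) with he
    set k := s / (2 * m) with hk
    have hs' : s = 2 * m * k + e := (Nat.div_add_mod s (2 * m)).symm
    have helt : e < 2 * m := Nat.mod_lt _ (by omega)
    have h1 : (2 : ℤ) ^ e ≡ 1 [ZMOD P] := by
      have h3 : (2 : ℤ) ^ s = ((2 : ℤ) ^ (2 * m)) ^ k * 2 ^ e := by
        rw [hs', pow_add, pow_mul]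
      rw [h3] at hsmod
      have h4 := (h4m.pow k).mul_right ((2 : ℤ) ^ e)
      simp only [one_pow, one_mul] at h4
      exact h4.symm.trans hsmod
    have he0 : e = 0 := by
      by_contra he0
      have hepos : 0 < e := Nat.pos_of_ne_zero he0
      by_cases hem : e ≤ m
      · -- `0 < 2 ^ e - 1 < P`
        have h3 : P ∣ (2 : ℤ) ^ e - 1 := (Int.modEq_iff_dvd.mp h1.symm)
        have h4 : (2 : ℤ) ^ e ≤ 2 ^ m := pow_le_pow_right₀ (by norm_num) hem
        have h5 : (2 : ℤ) ≤ 2 ^ e := by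
          calc (2 : ℤ) = 2 ^ 1 := by norm_num
            _ ≤ 2 ^ e := pow_le_pow_right₀ (by norm_num) hepos
        have h6 := Int.le_of_dvd (by linarith) h3
        rw [hPdef] at h6
        linarith
      · -- reduce by `m`
        have hem' : m < e := by omega
        obtain ⟨f, hf⟩ : ∃ f, e = m + f := ⟨e - m, by omega⟩
        have hflt : f < m := by omega
        have h3 : (2 : ℤ) ^ e = 2 ^ m * 2 ^ f := by rw [hf, pow_add]
        rw [h3] at h1
        have h4 := h2m.mul_right ((2 : ℤ) ^ f)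
        have h5 := h4.symm.trans h1
        have h6 : P ∣ 1 - (-1 * (2 : ℤ) ^ f) := Int.modEq_iff_dvd.mp h5
        have h7 : (2 : ℤ) ^ f < 2 ^ m := pow_lt_pow_right₀ (by norm_num) hflt
        have h8 : (0 : ℤ) < 2 ^ f := by positivity
        have h9 := Int.le_of_dvd (by linarith) h6
        rw [hPdef] at h9
        linarith
    rw [hs', he0, add_zero]
    exact Dvd.intro _ rfl
  obtain ⟨k, hk⟩ := h2mdvd
  have hk0 : k ≠ 0 := by
    rintro rfl
    rw [mul_zero] at hk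
    omega
  set x := 2 ^ (2 * m) with hx
  have hxk : 2 ^ s = x ^ k := by rw [hk, pow_mul]
  have hx1 : 1 < x := by
    rw [hx]
    exact Nat.one_lt_two_pow (by omega)
  have hpodd : ¬ p ∣ 2 := fun h => hp2 ((Nat.prime_dvd_prime_iff_eq hp Nat.prime_two).mp h)
  have hpx : ¬ p ∣ x := by
    intro h
    exact hpodd (hp.dvd_of_dvd_pow h)
  have hfac : x - 1 = (2 ^ m - 1) * (2 ^ m + 1) := by
    obtain ⟨y, hy⟩ : ∃ y, 2 ^ m = y + 1 := ⟨2 ^ m - 1, by omega⟩
    have h3 : x = (2 ^ m) ^ 2 := by rw [hx, ← pow_mul, mul_comm]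
    rw [h3, hy]
    simp only [Nat.add_sub_cancel]
    have : (y + 1) ^ 2 = y * (y + 1 + 1) + 1 := by ring
    omega
  have hdvdx : p ∣ x - 1 := by
    rw [hfac, ← hN]
    exact Dvd.dvd.mul_left (dvd_pow_self p (by omega)) _
  have hnot : ¬ p ∣ 2 ^ m - 1 := by
    intro h
    have h1 : p ∣ 2 ^ m + 1 := by
      rw [← hN]; exact dvd_pow_self p (by omega)
    have h2 := Nat.dvd_sub h1 h
    have h3 : 2 ^ m + 1 - (2 ^ m - 1) = 2 := by omega
    rw [h3] at h2
    exact hpodd h2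
  have hval1 : padicValNat p (x - 1) = b := by
    rw [hfac, padicValNat.mul (by omega) (by omega), padicValNat.eq_zero_of_not_dvd hnot, zero_add, ← hN,
      padicValNat.prime_pow]
  have hval : padicValNat p (x ^ k - 1 ^ k) = b + padicValNat p k := by
    rw [padicValNat.pow_sub_pow (hp.odd_of_ne_two hp2) hx1 hdvdx hpx hk0, hval1]
  rw [one_pow, ← hxk] at hval
  have h2s : 2 ^ s - 1 ≠ 0 := by
    have : 1 < 2 ^ s := Nat.one_lt_two_pow (by omega)
    omega
  have hle := (padicValNat_dvd_iff_le h2s).mp hdvd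
  rw [hval] at hle
  have hak : a ≤ padicValNat p k := by omega
  have hdk : p ^ a ∣ k := (padicValNat_dvd_iff_le hk0).mpr hak
  have hle2 := Nat.le_of_dvd (Nat.pos_of_ne_zero hk0) hdk
  rw [hk]
  exact Nat.mul_le_mul_left _ hle2

end Numbers

section FPF

theorem fpf_quot_generic {G : Type*} [Group G] [Finite G] (σ : MulAut G) (hfpf : ∀ g, σ g = g → g = 1)
    (N : Subgroup G) (hN : ∀ n ∈ N, σ n ∈ N) {g : G} (hg : σ g * g⁻¹ ∈ N) : g ∈ N := by
  let f : N → N := fun n => ⟨σ n * (n : G)⁻¹, N.mul_mem (hN _ n.2) (N.inv_mem n.2)⟩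
  have hfinj : Function.Injective f := by
    intro m n h
    have h1 : σ (m : G) * (m : G)⁻¹ = σ (n : G) * (n : G)⁻¹ := congrArg Subtype.val h
    have h2 : σ ((n : G)⁻¹ * m) = (n : G)⁻¹ * m := by
      rw [map_mul, map_inv]
      have h3 : σ (m : G) = σ (n : G) * (n : G)⁻¹ * m := by
        rw [← h1]; group
      rw [h3]; group
    have h4 := hfpf _ h2
    apply Subtype.ext
    have h5 : (n : G)⁻¹ * (m : G) = 1 := h4
    exact (inv_mul_eq_one.mp h5).symm
  have hfsurj : Function.Surjective f := Finite.surjective_of_injective hfinj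
  obtain ⟨n, hn⟩ := hfsurj ⟨_, hg⟩
  have h1 : σ (n : G) * (n : G)⁻¹ = σ g * g⁻¹ := congrArg Subtype.val hn
  have h2 : σ ((n : G)⁻¹ * g) = (n : G)⁻¹ * g := by
    rw [map_mul, map_inv]
    have h3 : σ g = σ (n : G) * (n : G)⁻¹ * g := by
      rw [h1]; group
    rw [h3]; group
  have h4 := hfpf _ h2
  have h5 : (n : G) = g := inv_mul_eq_one.mp h4
  rw [← h5]; exact n.2

/-- The automorphism induced on a quotient. -/
def autQuot {R : Type*} [Group R] (γ : MulAut R) (Z : Subgroup R) [Z.Normal]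
    (hZ : ∀ z, z ∈ Z ↔ γ z ∈ Z) : MulAut (R ⧸ Z) :=
  QuotientGroup.congr Z Z γ (by
    ext z
    constructor
    · rintro ⟨y, hy, rfl⟩
      exact (hZ y).mp hy
    · intro hz
      refine ⟨γ⁻¹ z, (hZ _).mpr ?_, ?_⟩
      · have : γ (γ⁻¹ z) = z := by
          show (γ * γ⁻¹) z = z
          rw [mul_inv_cancel]; rfl
        rwa [this]
      · show (γ * γ⁻¹) z = z
        rw [mul_inv_cancel]; rfl)

theorem autQuot_mk {R : Type*} [Group R] (γ : MulAut R) (Z : Subgroup R) [Z.Normal]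
    (hZ : ∀ z, z ∈ Z ↔ γ z ∈ Z) (s : R) : autQuot γ Z hZ (s : R ⧸ Z) = ((γ s : R) : R ⧸ Z) := rfl

theorem autQuot_pow_mk {R : Type*} [Group R] (γ : MulAut R) (Z : Subgroup R) [Z.Normal]
    (hZ : ∀ z, z ∈ Z ↔ γ z ∈ Z) (j : ℕ) (s : R) :
    ((autQuot γ Z hZ) ^ j) (s : R ⧸ Z) = (((γ ^ j) s : R) : R ⧸ Z) := by
  induction j with
  | zero => rfl
  | succ j ih =>
    rw [pow_succ', pow_succ' γ]
    show autQuot γ Z hZ (((autQuot γ Z hZ) ^ j) (s : R ⧸ Z)) = _
    rw [ih, autQuot_mk]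
    rfl

/-- Fixed-point-freeness on a quotient passes to quotients by larger invariant subgroups. -/
theorem fpf_rel {R : Type*} [Group R] [Finite R] (σ₀ : MulAut R) (Z Y : Subgroup R) [Z.Normal]
    (hZY : Z ≤ Y) (hZσ : ∀ z, z ∈ Z ↔ σ₀ z ∈ Z) (hYσ : ∀ y ∈ Y, σ₀ y ∈ Y)
    (hfpf : ∀ s, σ₀ s * s⁻¹ ∈ Z → s ∈ Z) {s : R} (hs : σ₀ s * s⁻¹ ∈ Y) : s ∈ Y := by
  let q := QuotientGroup.mk' Z
  let σ' := autQuot σ₀ Z hZσ
  have hfix : ∀ x : R ⧸ Z, σ' x = x → x = 1 := by
    intro x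
    induction x using QuotientGroup.induction_on with
    | H s =>
      intro h
      have h1 : ((σ₀ s : R) : R ⧸ Z) = (s : R ⧸ Z) := h
      rw [QuotientGroup.eq_iff_div_mem, div_eq_mul_inv] at h1
      exact (QuotientGroup.eq_one_iff s).mpr (hfpf s h1)
  have hinv : ∀ n ∈ Y.map q, σ' n ∈ Y.map q := by
    rintro _ ⟨y, hy, rfl⟩
    exact ⟨σ₀ y, hYσ y hy, rfl⟩
  have h1 : σ' (q s) * (q s)⁻¹ ∈ Y.map q := ⟨σ₀ s * s⁻¹, hs, by
    rw [map_mul, map_inv]; rfl⟩
  obtain ⟨y, hy, hys⟩ := fpf_quot_generic σ' hfix (Y.map q) hinv h1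
  have h2 : y⁻¹ * s ∈ Z := QuotientGroup.eq.mp hys
  have h3 : s = y * (y⁻¹ * s) := by group
  rw [h3]
  exact Y.mul_mem hy (hZY h2)

/-- A transversal for the orbits on a quotient. -/
theorem exists_transversal {R : Type*} [Group R] [Finite R] (A : Subgroup R) [A.Normal] (γ : MulAut R)
    (hA : ∀ a, a ∈ A ↔ γ a ∈ A) {p b : ℕ} (hp : p.Prime) (hb : 1 ≤ b) (hγ : γ ^ (p ^ b) = 1)
    (hfix : ∀ s, (γ ^ (p ^ (b - 1))) s * s⁻¹ ∈ A → s ∈ A) :
    ∃ Ξ : Finset R, (∀ s, ∃ ξ ∈ Ξ, ∃ j : ℕ, ((γ ^ j) ξ)⁻¹ * s ∈ A) ∧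
      p ^ b * (Ξ.card - 1) + 1 = A.index := by
  classical
  letI : Fintype (R ⧸ A) := Fintype.ofFinite _
  let γ' := autQuot γ A hA
  let π : Equiv.Perm (R ⧸ A) := γ'.toEquiv
  have hπ : ∀ (j : ℕ) (s : R), (π ^ j) (s : R ⧸ A) = (((γ ^ j) s : R) : R ⧸ A) := by
    intro j s
    induction j with
    | zero => rfl
    | succ j ih =>
      rw [pow_succ', Equiv.Perm.mul_apply, ih, pow_succ' γ]
      rfl
  obtain ⟨Ξ', h1, h2⟩ := orbit_count π (1 : R ⧸ A) (map_one γ') hp hb
    (by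
      ext x
      induction x using QuotientGroup.induction_on with
      | H s =>
        rw [hπ, hγ]
        rfl)
    (by
      intro x
      induction x using QuotientGroup.induction_on with
      | H s =>
        intro h
        rw [hπ] at h
        rw [QuotientGroup.eq_iff_div_mem, div_eq_mul_inv] at h
        exact (QuotientGroup.eq_one_iff s).mpr (hfix s h))
  refine ⟨Ξ'.image Quotient.out, ?_, ?_⟩
  · intro s
    obtain ⟨ξ, hξ, j, hj⟩ := h1 (s : R ⧸ A)
    refine ⟨Quotient.out ξ, Finset.mem_image_of_mem _ hξ, j, ?_⟩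
    rw [← QuotientGroup.eq, ← hj, ← hπ]
    congr 1
    exact QuotientGroup.out_eq' ξ
  · rw [Finset.card_image_of_injective _ Quotient.out_injective, h2, Subgroup.index,
      Nat.card_eq_fintype_card]

end FPF

end Cfsg.Agent.Lib.HHChar
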