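import Mathlib
import Cfsg.Agent.Lib.HHCore
import Cfsg.Agent.Lib.HHChar

set_option autoImplicit false
set_option linter.unusedSectionVars false
set_option linter.unusedVariables false

/-!
Critical case of the Hall--Higman theorem, at the level of operators.
-/

namespace Cfsg.Agent.Lib.HHCrit

open Module Polynomial
open scoped BigOperators

variable {K : Type*} [Field K]

section Poly

variable {A : Type*} [Ring A] [Algebra K A]

theorem sub_one_pow_char_pow (p : ℕ) [Fact p.Prime] [CharP K p] (n : ℕ) (y : A) :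
    (y - 1) ^ (p ^ n) = y ^ (p ^ n) - 1 := by
  have h : ((X : K[X]) - 1) ^ (p ^ n) = X ^ (p ^ n) - 1 := by
    rw [sub_pow_char_pow, one_pow]
  have := congrArg (aeval (R := K) y) h
  simpa using this

theorem geom_sum_char_pow (p : ℕ) [Fact p.Prime] [CharP K p] (n : ℕ) (y : A) :
    ∑ i ∈ Finset.range (p ^ n), y ^ i = (y - 1) ^ (p ^ n - 1) := by
  have key : (∑ i ∈ Finset.range (p ^ n), (X : K[X]) ^ i) = (X - 1) ^ (p ^ n - 1) := by
    have hne : (X - 1 : K[X]) ≠ 0 := by
      simpa using X_sub_C_ne_zero (1 : K)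
    apply mul_left_cancel₀ hne
    have hp : 1 ≤ p ^ n := Nat.one_le_pow _ _ (Fact.out : p.Prime).pos
    rw [mul_geom_sum, ← pow_succ', Nat.sub_add_cancel hp, sub_pow_char_pow, one_pow]
  have := congrArg (aeval (R := K) y) key
  simpa using this

end Poly

section Schur

variable {V : Type*} [AddCommGroup V] [Module K V]
variable {Γ : Type*} [Group Γ]

/-- Irreducibility of an action. -/
def Irr (ρ : Γ →* End K V) : Prop :=
  ∀ W : Submodule K V, (∀ g, ∀ w ∈ W, ρ g w ∈ W) → W = ⊥ ∨ W = ⊤

theorem schur [IsAlgClosed K] [FiniteDimensional K V] [Nontrivial V]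
    {ρ : Γ →* End K V} (hρ : Irr ρ) (A : End K V) (hA : ∀ g, A * ρ g = ρ g * A) :
    ∃ c : K, A = c • 1 := by
  obtain ⟨c, hc⟩ := Module.End.exists_eigenvalue A
  refine ⟨c, ?_⟩
  have hW := hρ (End.eigenspace A c) (by
    intro g w hw
    rw [End.mem_eigenspace_iff] at hw ⊢
    have := congrArg (fun m : End K V => m w) (hA g)
    simp only [Module.End.mul_apply] at this
    rw [this, hw, map_smul])
  rcases hW with hW | hW
  · exact absurd hW hc.bot_lt.ne'
  · ext v
    have hv : v ∈ End.eigenspace A c := by rw [hW]; trivial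
    rw [End.mem_eigenspace_iff] at hv
    simpa using hv

theorem trace_smulRight [FiniteDimensional K V] (ψ : Dual K V) (w : V) :
    LinearMap.trace K V (ψ.smulRight w) = ψ w := by
  have h := LinearMap.trace_eq_contract_apply K V (ψ ⊗ₜ[K] w)
  have h2 : dualTensorHom K V V (ψ ⊗ₜ[K] w) = ψ.smulRight w := by
    ext v; simp [dualTensorHom_apply]
  rw [h2] at h
  rw [h]
  simp

theorem phi_scalar [IsAlgClosed K] [FiniteDimensional K V] [Nontrivial V] [Fintype Γ]
    {ρ : Γ →* End K V} (hρ : Irr ρ) (B : End K V) :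
    ∃ c : K, ∑ g, ρ g * B * ρ g⁻¹ = c • 1 ∧
      c * (finrank K V : K) = (Fintype.card Γ : K) * LinearMap.trace K V B := by
  obtain ⟨c, hc⟩ := schur hρ (∑ g, ρ g * B * ρ g⁻¹) (by
    intro h
    rw [Finset.sum_mul, Finset.mul_sum]
    refine (Equiv.sum_comp (Equiv.mulLeft h) (fun g => ρ g * B * ρ g⁻¹ * ρ h)).symm.trans ?_
    refine Finset.sum_congr rfl fun g _ => ?_
    have h1 : ρ (h * g)⁻¹ * ρ h = ρ g⁻¹ := by
      rw [← map_mul]; congr 1; group
    simp only [Equiv.coe_mulLeft]
    rw [mul_assoc, h1, map_mul]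
    simp only [mul_assoc])
  refine ⟨c, hc, ?_⟩
  have h := congrArg (LinearMap.trace K V) hc
  rw [map_sum, map_smul, LinearMap.trace_one, smul_eq_mul] at h
  rw [← h]
  have : ∀ g, LinearMap.trace K V (ρ g * B * ρ g⁻¹) = LinearMap.trace K V B := by
    intro g
    rw [LinearMap.trace_mul_comm, ← mul_assoc, ← map_mul]
    simp
  simp [this]

theorem fourier_rank_one [IsAlgClosed K] [FiniteDimensional K V] [Nontrivial V] [Fintype Γ]
    {ρ : Γ →* End K V} (hρ : Irr ρ) (ψ : Dual K V) (w : V) :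
    (Fintype.card Γ : K) • (ψ.smulRight w : End K V) =
      (finrank K V : K) • ∑ g, LinearMap.trace K V ((ψ.smulRight w : End K V) * ρ g⁻¹) • ρ g := by
  ext v
  obtain ⟨c, hc, hc'⟩ := phi_scalar hρ (ψ.smulRight v : End K V)
  have h1 := congrArg (fun m : End K V => m w) hc
  simp only [LinearMap.sum_apply, Module.End.mul_apply, LinearMap.smul_apply, Module.End.one_apply,
    LinearMap.smulRight_apply, map_smul] at h1
  have htr : ∀ g, LinearMap.trace K V ((ψ.smulRight w : End K V) * ρ g⁻¹) = ψ (ρ g⁻¹ w) := by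
    intro g
    have : (ψ.smulRight w : End K V) * ρ g⁻¹ = (ψ.comp (ρ g⁻¹)).smulRight w := by
      ext y; simp
    rw [this, trace_smulRight]
    rfl
  simp only [LinearMap.smul_apply, LinearMap.sum_apply, htr, LinearMap.smulRight_apply]
  rw [trace_smulRight] at hc'
  rw [h1, smul_smul, smul_smul, mul_comm (finrank K V : K) c, hc']

theorem finrank_ne_zero_K [IsAlgClosed K] [FiniteDimensional K V] [Nontrivial V] [Fintype Γ]
    {ρ : Γ →* End K V} (hρ : Irr ρ) (hcard : (Fintype.card Γ : K) ≠ 0) :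
    (finrank K V : K) ≠ 0 := by
  intro h0
  obtain ⟨v, hv⟩ := exists_ne (0 : V)
  obtain ⟨ψ, hψ⟩ := HHCore.exists_dual_one (𝔽 := K) hv
  obtain ⟨c, hc, hc'⟩ := phi_scalar hρ (ψ.smulRight v : End K V)
  rw [trace_smulRight, hψ, h0, mul_zero, mul_one] at hc'
  exact hcard hc'.symm

/-- Fourier inversion. -/
theorem fourier [IsAlgClosed K] [FiniteDimensional K V] [Nontrivial V] [Fintype Γ]
    {ρ : Γ →* End K V} (hρ : Irr ρ) (a : End K V) :
    (Fintype.card Γ : K) • a =
      (finrank K V : K) • ∑ g, LinearMap.trace K V (a * ρ g⁻¹) • ρ g := by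
  classical
  let b := Module.finBasis K V
  have ha : a = ∑ i, ((b.coord i).smulRight (a (b i)) : End K V) := by
    apply b.ext
    intro j
    simp [LinearMap.sum_apply, Module.Basis.coord_apply, Finsupp.single_apply]
  let L : End K V →ₗ[K] End K V :=
    { toFun := fun a => ∑ g, LinearMap.trace K V (a * ρ g⁻¹) • ρ g
      map_add' := by
        intro x y
        simp [add_mul, add_smul, Finset.sum_add_distrib]
      map_smul' := by
        intro r x
        simp [Finset.smul_sum, smul_smul] }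
  change (Fintype.card Γ : K) • a = (finrank K V : K) • L a
  rw [ha, map_sum, Finset.smul_sum, Finset.smul_sum]
  refine Finset.sum_congr rfl fun i _ => ?_
  exact fourier_rank_one hρ _ _

end Schur

section Core

variable {V : Type*} [AddCommGroup V] [Module K V]

/-- The trace-type map. -/
def Tmap (X Y : End K V) (N : ℕ) : End K V →ₗ[K] End K V where
  toFun b := ∑ i ∈ Finset.range N, X ^ i * b * Y ^ i
  map_add' := by
    intro a b
    simp [mul_add, add_mul, Finset.sum_add_distrib]
  map_smul' := by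
    intro r a
    simp [Finset.smul_sum]

theorem Tmap_apply (X Y : End K V) (N : ℕ) (b : End K V) :
    Tmap X Y N b = ∑ i ∈ Finset.range N, X ^ i * b * Y ^ i := rfl

variable {Γ : Type*} [Group Γ]

theorem rho_sigma_pow {ρ : Γ →* End K V} {X Y : End K V} {σ : MulAut Γ}
    (hσ : ∀ g, X * ρ g * Y = ρ (σ g)) (i : ℕ) (g : Γ) :
    ρ ((σ ^ i) g) = X ^ i * ρ g * Y ^ i := by
  induction i with
  | zero => simp
  | succ i ih =>
    rw [pow_succ', MulAut.mul_apply, ← hσ, ih, pow_succ', pow_succ]
    simp only [mul_assoc]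

section Sum

variable [FiniteDimensional K V] {ρ : Γ →* End K V} {X Y : End K V} {σ : MulAut Γ} {N : ℕ}

theorem sum_mem_range [DecidableEq Γ] (hN : 0 < N)
    (hσ : ∀ g, X * ρ g * Y = ρ (σ g)) (hσN : σ ^ N = 1)
    (hfree : ∀ g, (¬ ∃ c : K, ρ g = c • 1) → ∀ i, 0 < i → i < N → (σ ^ i) g ≠ g)
    (c : Γ → K) (hc : ∀ g, c (σ g) = c g) (S : Finset Γ) :
    (∀ g ∈ S, σ g ∈ S) → (∀ g ∈ S, ¬ ∃ c : K, ρ g = c • 1) →
      ∑ g ∈ S, c g • ρ g ∈ LinearMap.range (Tmap X Y N) := by
  induction S using Finset.strongInduction with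
  | H S ih =>
    intro hS hns
    rcases S.eq_empty_or_nonempty with rfl | ⟨g₀, hg₀⟩
    · simp
    have hiter : ∀ i : ℕ, (σ ^ i) g₀ ∈ S := by
      intro i
      induction i with
      | zero => simpa using hg₀
      | succ i ih =>
        rw [pow_succ', MulAut.mul_apply]
        exact hS _ ih
    have hciter : ∀ i : ℕ, c ((σ ^ i) g₀) = c g₀ := by
      intro i
      induction i with
      | zero => simp
      | succ i ih =>
        rw [pow_succ', MulAut.mul_apply, hc, ih]
    have hinj0 : ∀ i j : ℕ, i < j → j < N → (σ ^ i) g₀ ≠ (σ ^ j) g₀ := by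
      intro i j hij hj he
      refine hfree g₀ (hns g₀ hg₀) (j - i) (by omega) (by omega) ?_
      have h2 : (σ ^ j) g₀ = (σ ^ i) ((σ ^ (j - i)) g₀) := by
        rw [← MulAut.mul_apply, ← pow_add]
        congr 2
        omega
      rw [h2] at he
      exact ((σ ^ i).injective he).symm
    have hinj : Set.InjOn (fun i : ℕ => (σ ^ i) g₀) (Finset.range N : Set ℕ) := by
      intro i hi j hj hij
      simp only [Finset.coe_range, Set.mem_Iio] at hi hj
      rcases lt_trichotomy i j with h | h | h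
      · exact absurd hij (hinj0 i j h hj)
      · exact h
      · exact absurd hij.symm (hinj0 j i h hi)
    let O := (Finset.range N).image (fun i : ℕ => (σ ^ i) g₀)
    have hOS : O ⊆ S := by
      intro g hg
      obtain ⟨i, -, rfl⟩ := Finset.mem_image.mp hg
      exact hiter i
    have hO : ∑ g ∈ O, c g • ρ g = Tmap X Y N (c g₀ • ρ g₀) := by
      rw [Finset.sum_image hinj, map_smul, Tmap_apply, Finset.smul_sum]
      refine Finset.sum_congr rfl fun i _ => ?_
      rw [hciter, rho_sigma_pow hσ]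
    have hg₀O : g₀ ∈ O := Finset.mem_image.mpr ⟨0, Finset.mem_range.mpr hN, by simp⟩
    have hlt : S \ O ⊂ S := by
      refine Finset.ssubset_iff_subset_ne.mpr ⟨Finset.sdiff_subset, ?_⟩
      intro he
      have : g₀ ∈ S \ O := by rw [he]; exact hg₀
      exact (Finset.mem_sdiff.mp this).2 hg₀O
    have hrec := ih (S \ O) hlt (by
      intro g hg
      obtain ⟨hgS, hgO⟩ := Finset.mem_sdiff.mp hg
      refine Finset.mem_sdiff.mpr ⟨hS g hgS, ?_⟩
      intro hσg
      obtain ⟨i, hi, hie⟩ := Finset.mem_image.mp hσg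
      apply hgO
      rcases Nat.eq_zero_or_pos i with rfl | hipos
      · -- σ g = g₀
        refine Finset.mem_image.mpr ⟨N - 1, Finset.mem_range.mpr (by omega), ?_⟩
        have h3 : σ g = g₀ := by simpa using hie.symm
        rw [← h3, ← MulAut.mul_apply, ← pow_succ, Nat.sub_add_cancel hN, hσN]
        rfl
      · refine Finset.mem_image.mpr ⟨i - 1, Finset.mem_range.mpr (by
          have := Finset.mem_range.mp hi; omega), ?_⟩
        apply σ.injective
        rw [← hie]
        rw [← MulAut.mul_apply, ← pow_succ', Nat.sub_add_cancel hipos]) (fun g hg => hns g (Finset.mem_sdiff.mp hg).1)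
    rw [← Finset.sum_sdiff hOS]
    exact add_mem hrec ⟨_, hO.symm⟩

theorem exists_scalar_sub_mem [IsAlgClosed K] [Nontrivial V] [Fintype Γ]
    (hρ : Irr ρ) (hcard : (Fintype.card Γ : K) ≠ 0) (hN : 0 < N)
    (hXY : X * Y = 1) (hYX : Y * X = 1)
    (hσ : ∀ g, X * ρ g * Y = ρ (σ g)) (hσN : σ ^ N = 1)
    (hfree : ∀ g, (¬ ∃ c : K, ρ g = c • 1) → ∀ i, 0 < i → i < N → (σ ^ i) g ≠ g)
    (a : End K V) (ha : a * X = X * a) :
    ∃ α : K, a - α • 1 ∈ LinearMap.range (Tmap X Y N) := by
  classical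
  let c : Γ → K := fun g => LinearMap.trace K V (a * ρ g⁻¹)
  have hc : ∀ g, c (σ g) = c g := by
    intro g
    simp only [c]
    rw [← map_inv, ← hσ g⁻¹, ← mul_assoc, ← mul_assoc, ha, LinearMap.trace_mul_comm]
    rw [show Y * (X * a * ρ g⁻¹) = (Y * X) * a * ρ g⁻¹ by simp only [mul_assoc], hYX, one_mul]
  have hF := fourier hρ a
  let S₁ := Finset.univ.filter (fun g : Γ => ¬ ∃ c : K, ρ g = c • 1)
  let S₀ := Finset.univ.filter (fun g : Γ => ∃ c : K, ρ g = c • 1)
  have hsplit : ∑ g, c g • ρ g = ∑ g ∈ S₀, c g • ρ g + ∑ g ∈ S₁, c g • ρ g := by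
    rw [← Finset.sum_filter_add_sum_filter_not Finset.univ (fun g : Γ => ∃ c : K, ρ g = c • 1)]
  have hS₀ : ∑ g ∈ S₀, c g • ρ g ∈ Submodule.span K {(1 : End K V)} := by
    refine Submodule.sum_mem _ fun g hg => ?_
    obtain ⟨e, he⟩ := (Finset.mem_filter.mp hg).2
    rw [he, smul_smul]
    exact Submodule.smul_mem _ _ (Submodule.mem_span_singleton_self _)
  obtain ⟨β, hβ⟩ := Submodule.mem_span_singleton.mp hS₀
  have hS₁ : ∑ g ∈ S₁, c g • ρ g ∈ LinearMap.range (Tmap X Y N) := by
    refine sum_mem_range hN hσ hσN hfree c hc S₁ ?_ ?_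
    · intro g hg
      refine Finset.mem_filter.mpr ⟨Finset.mem_univ _, ?_⟩
      have hg' := (Finset.mem_filter.mp hg).2
      intro hne
      apply hg'
      obtain ⟨e, he⟩ := hne
      refine ⟨e, ?_⟩
      have h1 : ρ g = Y * ρ (σ g) * X := by
        rw [← hσ]
        simp only [mul_assoc, hYX, mul_one]
        rw [← mul_assoc, hYX, one_mul]
      rw [h1, he]
      simp only [mul_smul_comm, smul_mul_assoc, mul_one, hYX]
    · intro g hg
      exact (Finset.mem_filter.mp hg).2
  set d : K := (finrank K V : K)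
  set q : K := (Fintype.card Γ : K)
  refine ⟨q⁻¹ * d * β, ?_⟩
  have h2 : a - (q⁻¹ * d * β) • (1 : End K V) = (q⁻¹ * d) • ∑ g ∈ S₁, c g • ρ g := by
    have h3 : a = q⁻¹ • (q • a) := by
      rw [smul_smul, inv_mul_cancel₀ hcard, one_smul]
    have h4 : q • a = d • (β • (1 : End K V) + ∑ g ∈ S₁, c g • ρ g) := by
      rw [hF, hβ, ← hsplit]
    rw [h3, h4, smul_add, smul_add, smul_smul, smul_smul, smul_smul, add_sub_cancel_left]
  rw [h2]
  exact Submodule.smul_mem _ _ hS₁

end Sum

section Expand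

variable (p : ℕ) [Fact p.Prime] [CharP K p]

theorem Tmap_eq (n : ℕ) {X Y : End K V} (hXY : X * Y = 1) (hYX : Y * X = 1) (b : End K V) :
    Tmap X Y (p ^ n) b =
      ((LinearMap.mulLeft K (X - 1) - LinearMap.mulRight K (X - 1)) ^ (p ^ n - 1))
        (b * Y ^ (p ^ n - 1)) := by
  let L : End K (End K V) := LinearMap.mulLeft K X
  let R : End K (End K V) := LinearMap.mulRight K Y
  let D : End K (End K V) := LinearMap.mulLeft K (X - 1) - LinearMap.mulRight K (X - 1)
  let ad : End K (End K V) := L * R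
  have hYu : Y * (X - 1) = (X - 1) * Y := by
    rw [mul_sub, sub_mul, hYX, hXY]; simp
  have had : ∀ (i : ℕ) (c : End K V), (ad ^ i) c = X ^ i * c * Y ^ i := by
    intro i c
    induction i with
    | zero => simp
    | succ i ih =>
      rw [pow_succ', Module.End.mul_apply, ih]
      simp only [ad, L, R, Module.End.mul_apply, LinearMap.mulLeft_apply, LinearMap.mulRight_apply]
      rw [pow_succ', pow_succ]
      simp only [mul_assoc]
  have hRp : ∀ (i : ℕ) (c : End K V), (R ^ i) c = c * Y ^ i := by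
    intro i c
    induction i with
    | zero => simp
    | succ i ih =>
      rw [pow_succ', Module.End.mul_apply, ih]
      simp only [R, LinearMap.mulRight_apply]
      rw [pow_succ, mul_assoc]
  have hsub : ad - 1 = D * R := by
    ext c : 1
    simp only [ad, D, L, R, LinearMap.sub_apply, Module.End.mul_apply, Module.End.one_apply,
      LinearMap.mulLeft_apply, LinearMap.mulRight_apply]
    rw [show c * Y * (X - 1) = c - c * Y by rw [mul_sub, mul_assoc, hYX]; simp, sub_mul, one_mul]
    abel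
  have hcomm : Commute D R := by
    ext c : 1
    simp only [D, R, Module.End.mul_apply, LinearMap.sub_apply, LinearMap.mulLeft_apply,
      LinearMap.mulRight_apply]
    rw [mul_assoc c Y (X - 1), hYu]
    noncomm_ring
  have hgeom := geom_sum_char_pow (K := K) p n ad
  rw [hsub, hcomm.mul_pow] at hgeom
  have h := congrArg (fun m : End K (End K V) => m b) hgeom
  simp only [LinearMap.sum_apply, Module.End.mul_apply, had, hRp] at h
  rw [Tmap_apply]
  exact h

variable {u : End K V} {s : ℕ}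

theorem range_pow_antitone (u : End K V) {a b : ℕ} (h : a ≤ b) :
    LinearMap.range (u ^ b) ≤ LinearMap.range (u ^ a) := by
  obtain ⟨c, rfl⟩ := Nat.exists_eq_add_of_le h
  rw [pow_add]
  exact LinearMap.range_comp_le_range _ _

theorem D_pow_range (hs : u ^ s = 0) (M : ℕ) (c : End K V) (k : ℕ) (v : V)
    (hv : v ∈ LinearMap.range (u ^ k)) :
    ((LinearMap.mulLeft K u - LinearMap.mulRight K u) ^ M) c v ∈
      LinearMap.range (u ^ (M + k + 1 - s)) := by
  induction M generalizing k v with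
  | zero =>
    by_cases hk : k + 1 ≤ s
    · have : 0 + k + 1 - s = 0 := by omega
      rw [this]
      simp
    · have hsk : s ≤ k := by omega
      have huk : u ^ k = 0 := by
        obtain ⟨e, rfl⟩ := Nat.exists_eq_add_of_le hsk
        rw [pow_add, hs, zero_mul]
      rw [huk] at hv
      have hv0 : v = 0 := by simpa using hv.choose_spec.symm
      simp [hv0]
  | succ M ih =>
    rw [pow_succ']
    simp only [Module.End.mul_apply, LinearMap.sub_apply, LinearMap.mulLeft_apply,
      LinearMap.mulRight_apply]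
    set c' := ((LinearMap.mulLeft K u - LinearMap.mulRight K u) ^ M) c with hc'
    refine sub_mem ?_ ?_
    · have h1 := ih k v hv
      obtain ⟨z, hz⟩ := h1
      have h2 : u (c' v) ∈ LinearMap.range (u ^ (M + k + 1 - s + 1)) := by
        refine ⟨z, ?_⟩
        rw [pow_succ', Module.End.mul_apply, hz]
      exact range_pow_antitone u (by omega) h2
    · have h3 : u v ∈ LinearMap.range (u ^ (k + 1)) := by
        obtain ⟨z, hz⟩ := hv
        refine ⟨z, ?_⟩
        rw [pow_succ', Module.End.mul_apply, hz]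
      have h4 := ih (k + 1) (u v) h3
      have h5 : M + (k + 1) + 1 - s = M + 1 + k + 1 - s := by omega
      rw [h5] at h4
      exact h4

theorem Tmap_range (n : ℕ) {X Y : End K V} (hXY : X * Y = 1) (hYX : Y * X = 1)
    (hs : (X - 1) ^ s = 0) (b : End K V) (v : V) :
    Tmap X Y (p ^ n) b v ∈ LinearMap.range ((X - 1) ^ (p ^ n - s)) := by
  rw [Tmap_eq p n hXY hYX]
  have h := D_pow_range (K := K) hs (p ^ n - 1) (b * Y ^ (p ^ n - 1)) 0 v (by simp)
  have hp : 1 ≤ p ^ n := Nat.one_le_pow _ _ (Fact.out : p.Prime).pos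
  have h5 : p ^ n - 1 + 0 + 1 - s = p ^ n - s := by omega
  rwa [h5] at h

end Expand

section Crit

variable (p : ℕ) [Fact p.Prime] [CharP K p]

/-- An endomorphism commuting with `u`, congruent to `w` at `v₁` modulo the range of `u`. -/
noncomputable def cyc (u : End K V) (s : ℕ) (ψ : Dual K V) (w : V) : End K V :=
  ∑ i ∈ Finset.range s, ((ψ.comp (u ^ (s - 1 - i))).smulRight ((u ^ i) w) : End K V)

theorem cyc_apply (u : End K V) (s : ℕ) (ψ : Dual K V) (w v : V) :
    cyc u s ψ w v = ∑ i ∈ Finset.range s, ψ ((u ^ (s - 1 - i)) v) • (u ^ i) w := by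
  simp [cyc, LinearMap.sum_apply]

theorem cyc_comm {u : End K V} {s : ℕ} (hs : u ^ s = 0) (ψ : Dual K V) (w : V) :
    cyc u s ψ w * u = u * cyc u s ψ w := by
  ext v
  simp only [Module.End.mul_apply, cyc_apply, map_sum, map_smul]
  let F : ℕ → V := fun i => ψ ((u ^ (s - i)) v) • (u ^ i) w
  have h1 : ∑ i ∈ Finset.range s, ψ ((u ^ (s - 1 - i)) (u v)) • (u ^ i) w =
      ∑ i ∈ Finset.range (s + 1), F i := by
    rw [Finset.sum_range_succ]
    have : F s = 0 := by simp [F, hs]
    rw [this, add_zero]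
    refine Finset.sum_congr rfl fun i hi => ?_
    have hi' := Finset.mem_range.mp hi
    simp only [F]
    have he : s - i = s - 1 - i + 1 := by omega
    rw [he, pow_succ, Module.End.mul_apply]
  have h2 : ∑ i ∈ Finset.range s, ψ ((u ^ (s - 1 - i)) v) • u ((u ^ i) w) =
      ∑ i ∈ Finset.range (s + 1), F i := by
    rw [Finset.sum_range_succ']
    have : F 0 = 0 := by simp [F, hs]
    rw [this, add_zero]
    refine Finset.sum_congr rfl fun i hi => ?_
    have hi' := Finset.mem_range.mp hi
    simp only [F]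
    have he : s - (i + 1) = s - 1 - i := by omega
    rw [he, pow_succ', Module.End.mul_apply]
  rw [h1, h2]

theorem cyc_sub_mem {u : End K V} {s : ℕ} (ψ : Dual K V) (w v : V) (hs : 1 ≤ s)
    (hψ : ψ ((u ^ (s - 1)) v) = 1) : cyc u s ψ w v - w ∈ LinearMap.range u := by
  obtain ⟨s, rfl⟩ : ∃ t, s = t + 1 := ⟨s - 1, by omega⟩
  rw [cyc_apply, Finset.sum_range_succ']
  simp only [Nat.add_sub_cancel, Nat.sub_zero, pow_zero, Module.End.one_apply] at hψ ⊢
  rw [hψ, one_smul, add_sub_cancel_right]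
  refine Submodule.sum_mem _ fun i _ => Submodule.smul_mem _ _ ⟨(u ^ i) w, ?_⟩
  rw [← Module.End.mul_apply, ← pow_succ']

theorem core [IsAlgClosed K] [FiniteDimensional K V] [Nontrivial V] [Fintype Γ]
    {ρ : Γ →* End K V} (hρ : Irr ρ) (hcard : (Fintype.card Γ : K) ≠ 0)
    {X Y : End K V} (hXY : X * Y = 1) (hYX : Y * X = 1) {σ : MulAut Γ} (n : ℕ)
    (hσ : ∀ g, X * ρ g * Y = ρ (σ g)) (hσN : σ ^ (p ^ n) = 1)
    (hfree : ∀ g, (¬ ∃ c : K, ρ g = c • 1) → ∀ i, 0 < i → i < p ^ n → (σ ^ i) g ≠ g)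
    (hX1 : X ≠ 1) (s : ℕ) (hs : (X - 1) ^ s = 0) (hmin : ∀ k < s, (X - 1) ^ k ≠ 0) :
    p ^ n - 1 ≤ s ∧ (s = p ^ n - 1 → finrank K V = p ^ n - 1) := by
  classical
  set N := p ^ n with hNdef
  have hN : 0 < N := Nat.pow_pos (Fact.out : p.Prime).pos
  set u := X - 1 with hu
  by_cases hsN : N - 1 < s
  · exact ⟨hsN.le, fun h => by omega⟩
  have hsN' : s ≤ N - 1 := by omega
  have hs1 : 1 ≤ s := by
    by_contra h
    have hs0 : s = 0 := by omega
    rw [hs0, pow_zero] at hs
    exact one_ne_zero hs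
  have hne : u ^ (s - 1) ≠ 0 := hmin _ (by omega)
  obtain ⟨v₁, hv₁⟩ : ∃ v, (u ^ (s - 1)) v ≠ 0 := by
    by_contra h
    push Not at h
    exact hne (LinearMap.ext h)
  obtain ⟨ψ, hψ⟩ := HHCore.exists_dual_one (𝔽 := K) hv₁
  -- the structure of the commutant
  have hA : ∀ a : End K V, a * X = X * a → ∃ α : K, ∀ v, a v - α • v ∈ LinearMap.range (u ^ (N - s)) := by
    intro a ha
    obtain ⟨α, b, hb⟩ := exists_scalar_sub_mem hρ hcard hN hXY hYX hσ hσN hfree a ha
    refine ⟨α, fun v => ?_⟩
    have h1 := Tmap_range p n hXY hYX hs b v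
    rw [hb] at h1
    simpa using h1
  have hcomm : ∀ a : End K V, a * u = u * a → a * X = X * a := by
    intro a ha
    have hX : X = u + 1 := by rw [hu]; abel
    rw [hX, mul_add, add_mul, ha]
    simp
  have hR1 : LinearMap.range (u ^ (N - s)) ≤ LinearMap.range u := by
    have := range_pow_antitone u (a := 1) (b := N - s) (by omega)
    simpa using this
  -- `V = K v₁ + u V`
  have hB : ∀ w : V, ∃ α : K, w - α • v₁ ∈ LinearMap.range u := by
    intro w
    obtain ⟨α, hα⟩ := hA (cyc u s ψ w) (hcomm _ (cyc_comm hs ψ w))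
    refine ⟨α, ?_⟩
    have h1 := hR1 (hα v₁)
    have h2 := cyc_sub_mem (u := u) ψ w v₁ hs1 hψ
    have h3 := sub_mem h1 h2
    have h4 : cyc u s ψ w v₁ - α • v₁ - (cyc u s ψ w v₁ - w) = w - α • v₁ := by abel
    rwa [h4] at h3
  -- Nakayama
  have hspan : ∀ k : ℕ, ∀ w : V, ∃ y ∈ Submodule.span K (Set.range fun i : Fin k => (u ^ (i : ℕ)) v₁),
      w - y ∈ LinearMap.range (u ^ k) := by
    intro k
    induction k with
    | zero =>
      intro w
      exact ⟨0, Submodule.zero_mem _, by simp⟩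
    | succ k ih =>
      intro w
      obtain ⟨y, hy, z, hz⟩ := ih w
      obtain ⟨α, z', hz'⟩ := hB z
      refine ⟨y + α • (u ^ k) v₁, ?_, z', ?_⟩
      · refine add_mem ?_ ?_
        · refine Submodule.span_mono ?_ hy
          rintro _ ⟨i, rfl⟩
          exact ⟨⟨i, by omega⟩, rfl⟩
        · exact Submodule.smul_mem _ _ (Submodule.subset_span ⟨⟨k, by omega⟩, rfl⟩)
      · have hz2 : z = α • v₁ + u z' := by rw [hz']; abel
        have : w = y + (u ^ k) z := by rw [hz]; abel
        rw [this, hz2, map_add, map_smul, ← Module.End.mul_apply (u ^ k) u, ← pow_succ]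
        abel
  have hfin : finrank K V ≤ s := by
    have htop : Submodule.span K (Set.range fun i : Fin s => (u ^ (i : ℕ)) v₁) = ⊤ := by
      rw [eq_top_iff]
      intro w _
      obtain ⟨y, hy, z, hz⟩ := hspan s w
      rw [hs] at hz
      have : w = y := by
        have h0 : w - y = 0 := by rw [← hz]; simp
        exact sub_eq_zero.mp h0
      rwa [this]
    have h := finrank_range_le_card (R := K) (fun i : Fin s => (u ^ (i : ℕ)) v₁)
    change finrank K (Submodule.span K _) ≤ _ at h
    rw [htop, finrank_top] at h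
    simpa using h
  have hfin2 : s ≤ finrank K V := by
    by_contra hlt
    push Not at hlt
    have hnil : IsNilpotent u := ⟨s, hs⟩
    have hchar := (LinearMap.isNilpotent_iff_charpoly u).mp hnil
    have h := LinearMap.aeval_self_charpoly u
    rw [hchar] at h
    simp only [map_pow, aeval_X] at h
    exact hmin _ hlt h
  have hfinrank : finrank K V = s := le_antisymm hfin hfin2
  -- the lower bound
  have hlower : N - 1 ≤ s := by
    by_contra hlt
    push Not at hlt
    have hN2 : 2 ≤ N - s := by omega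
    have hR2 : LinearMap.range (u ^ (N - s)) ≤ LinearMap.range (u ^ 2) :=
      range_pow_antitone u hN2
    obtain ⟨α, hα⟩ := hA u (by rw [hu]; simp [mul_sub, sub_mul])
    have hu2 : LinearMap.range (u ^ 2) ≤ LinearMap.range u := by
      have := range_pow_antitone u (a := 1) (b := 2) (by omega)
      simpa using this
    by_cases hα0 : α = 0
    · -- `u V ≤ u² V`, hence `u = 0`
      have hstep : ∀ v, u v ∈ LinearMap.range (u ^ 2) := by
        intro v
        have := hR2 (hα v)
        simpa [hα0] using this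
      have hall : ∀ k, ∀ v, u v ∈ LinearMap.range (u ^ (k + 1)) := by
        intro k
        induction k with
        | zero => intro v; simpa using ⟨v, rfl⟩
        | succ k ih =>
          intro v
          obtain ⟨z, hz⟩ := hstep v
          rw [pow_two, Module.End.mul_apply] at hz
          obtain ⟨z', hz'⟩ := ih z
          refine ⟨z', ?_⟩
          rw [pow_succ', Module.End.mul_apply, hz', hz]
      have hu0 : u = 0 := by
        ext v
        obtain ⟨z, hz⟩ := hall (s - 1) v
        rw [Nat.sub_add_cancel hs1, hs] at hz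
        simpa using hz.symm
      apply hX1
      rw [hu] at hu0
      exact sub_eq_zero.mp hu0
    · -- `v₁ ∈ u V`, so `u` is surjective, contradiction
      have h1 : α • v₁ ∈ LinearMap.range u := by
        have h2 := hu2 (hR2 (hα v₁))
        have h3 : u v₁ ∈ LinearMap.range u := ⟨v₁, rfl⟩
        have h4 := sub_mem h3 h2
        simpa using h4
      have h5 : v₁ ∈ LinearMap.range u := by
        have := Submodule.smul_mem _ α⁻¹ h1
        rwa [smul_smul, inv_mul_cancel₀ hα0, one_smul] at this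
      have hsurj : ∀ w, w ∈ LinearMap.range u := by
        intro w
        obtain ⟨β, hβ⟩ := hB w
        have := add_mem hβ (Submodule.smul_mem _ β h5)
        simpa using this
      have hsurjk : ∀ k, ∀ w, w ∈ LinearMap.range (u ^ k) := by
        intro k
        induction k with
        | zero => intro w; simp
        | succ k ih =>
          intro w
          obtain ⟨z, hz⟩ := hsurj w
          obtain ⟨z', hz'⟩ := ih z
          refine ⟨z', ?_⟩
          rw [pow_succ', Module.End.mul_apply, hz', hz]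
      obtain ⟨w, hw⟩ := exists_ne (0 : V)
      obtain ⟨z, hz⟩ := hsurjk s w
      rw [hs] at hz
      exact hw (by simpa using hz.symm)
  exact ⟨hlower, fun h => by omega⟩

end Crit

end Core

section QPow

universe v w


/-- Scalars in an action form a subgroup. -/
def scal {V : Type v} [AddCommGroup V] [Module K V] {Γ : Type w} [Group Γ] (ρ : Γ →* End K V) : Subgroup Γ where
  carrier := {g | ∃ c : K, ρ g = c • 1}
  one_mem' := ⟨1, by simp⟩
  mul_mem' := by
    rintro a b ⟨c, hc⟩ ⟨d, hd⟩
    exact ⟨c * d, by rw [map_mul, hc, hd, smul_mul_smul_comm, mul_one]⟩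
  inv_mem' := by
    rintro a ⟨c, hc⟩
    by_cases hc0 : c = 0
    · refine ⟨0, ?_⟩
      have h1 : ρ a * ρ a⁻¹ = 1 := by rw [← map_mul]; simp
      rw [hc, hc0, zero_smul, zero_mul] at h1
      have h2 : ρ a⁻¹ = 1 * ρ a⁻¹ := by simp
      rw [h2, ← h1]; simp
    · refine ⟨c⁻¹, ?_⟩
      have h1 : ρ a * ρ a⁻¹ = 1 := by rw [← map_mul]; simp
      rw [hc, smul_mul_assoc, one_mul] at h1
      have := congrArg (fun m => c⁻¹ • m) h1
      simpa [smul_smul, inv_mul_cancel₀ hc0] using this

theorem mem_scal {V : Type v} [AddCommGroup V] [Module K V] {Γ : Type w} [Group Γ] {ρ : Γ →* End K V} {g : Γ} :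
    g ∈ scal ρ ↔ ∃ c : K, ρ g = c • 1 := Iff.rfl

instance scal_normal {V : Type v} [AddCommGroup V] [Module K V] {Γ : Type w} [Group Γ] (ρ : Γ →* End K V) :
    (scal ρ).Normal := by
  constructor
  rintro a ⟨c, hc⟩ g
  refine ⟨c, ?_⟩
  rw [map_mul, map_mul, hc, mul_smul_comm, smul_mul_assoc, mul_one, ← map_mul]
  simp

theorem finrank_one_of_scal {V : Type v} [AddCommGroup V] [Module K V] [FiniteDimensional K V] [Nontrivial V]
    {Γ : Type w} [Group Γ] {ρ : Γ →* End K V} (hρ : Irr ρ) (h : ∀ g, ∃ c : K, ρ g = c • 1) :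
    finrank K V = 1 := by
  obtain ⟨v, hv⟩ := exists_ne (0 : V)
  have h1 := hρ (Submodule.span K {v}) (by
    intro g w hw
    obtain ⟨c, hc⟩ := h g
    rw [hc]
    simp only [LinearMap.smul_apply, Module.End.one_apply]
    exact Submodule.smul_mem _ _ hw)
  rcases h1 with h1 | h1
  · exfalso
    rw [Submodule.span_singleton_eq_bot] at h1
    exact hv h1
  · rw [← finrank_top K V, ← h1]
    exact finrank_span_singleton hv

theorem finrank_irr_prime_pow [IsAlgClosed K] (q : ℕ) [Fact q.Prime] (d : ℕ) :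
    ∀ (V : Type v) [AddCommGroup V] [Module K V] [FiniteDimensional K V] [Nontrivial V]
      (Γ : Type w) [Group Γ] [Finite Γ] (_ : IsPGroup q Γ) (ρ : Γ →* End K V), Irr ρ →
      finrank K V = d → ∃ b, d = q ^ b := by
  induction d using Nat.strong_induction_on with
  | _ d ih =>
  intro V _ _ _ _ Γ _ _ hΓ ρ hρ hd
  classical
  by_cases hall : ∀ g, ∃ c : K, ρ g = c • 1
  · have := finrank_one_of_scal hρ hall
    exact ⟨0, by simp; omega⟩
  push Not at hall
  -- a central element modulo scalars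
  have hntq : Nontrivial (Γ ⧸ scal ρ) := by
    obtain ⟨g, hg⟩ := hall
    refine ⟨(g : Γ ⧸ scal ρ), 1, ?_⟩
    intro he
    have : g ∈ scal ρ := (QuotientGroup.eq_one_iff g).mp he
    obtain ⟨c, hc⟩ := this
    exact hg c hc
  have hcen := (hΓ.to_quotient (scal ρ)).center_nontrivial
  obtain ⟨⟨yb, hyb⟩, hyb1⟩ := exists_ne (1 : Subgroup.center (Γ ⧸ scal ρ))
  obtain ⟨y, rfl⟩ := QuotientGroup.mk_surjective yb
  have hy : y ∉ scal ρ := fun h => hyb1 (Subtype.ext ((QuotientGroup.eq_one_iff y).mpr h))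
  have hcomm : ∀ g : Γ, y * g * y⁻¹ * g⁻¹ ∈ scal ρ := by
    intro g
    have h1 : ((y * g * y⁻¹ * g⁻¹ : Γ) : Γ ⧸ scal ρ) = 1 := by
      have h2 : ((y : Γ ⧸ scal ρ) * (g : Γ ⧸ scal ρ)) = g * y := (Subgroup.mem_center_iff.mp hyb g).symm
      simp only [QuotientGroup.mk_mul, QuotientGroup.mk_inv]
      rw [h2]
      group
    exact (QuotientGroup.eq_one_iff _).mp h1
  choose κ hκ using hcomm
  set A : End K V := ρ y with hA
  have hone : (1 : End K V) ≠ 0 := one_ne_zero
  have hrne : ∀ g, ρ g ≠ 0 := by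
    intro g h0
    apply hone
    have h1 : ρ g * ρ g⁻¹ = 1 := by rw [← map_mul]; simp
    rw [← h1, h0, zero_mul]
  have hrel : ∀ g, A * ρ g = κ g • (ρ g * A) := by
    intro g
    have e : y * g = (y * g * y⁻¹ * g⁻¹) * (g * y) := by group
    rw [hA, ← map_mul, e, map_mul, hκ g, smul_mul_assoc, one_mul, ← map_mul]
  have hκ0 : ∀ g, κ g ≠ 0 := by
    intro g h0
    have := hrel g
    rw [h0, zero_smul, hA, ← map_mul] at this
    exact hrne _ this
  have hκmul : ∀ g h, κ (g * h) = κ g * κ h := by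
    intro g h
    have h1 := hrel (g * h)
    have h2 : A * ρ (g * h) = (κ g * κ h) • (ρ (g * h) * A) := by
      rw [map_mul, ← mul_assoc, hrel g, smul_mul_assoc, mul_assoc, hrel h, mul_smul_comm, smul_smul]
      simp only [mul_assoc]
    rw [h1] at h2
    have hne : ρ (g * h) * A ≠ 0 := by
      rw [hA, ← map_mul]; exact hrne _
    exact smul_left_injective K hne h2
  have hκone : κ 1 = 1 := by
    have := hκmul 1 1
    rw [one_mul] at this
    exact (mul_eq_left₀ (hκ0 1)).mp this.symm
  let κh : Γ →* K := { toFun := κ, map_one' := hκone, map_mul' := hκmul }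
  let κu : Γ →* Kˣ := κh.toHomUnits
  have hκu : ∀ g, ((κu g : Kˣ) : K) = κ g := fun g => rfl
  obtain ⟨μ, hμ⟩ := Module.End.exists_eigenvalue A
  obtain ⟨v₀, hv₀⟩ := hμ.exists_hasEigenvector
  have hv₀mem : v₀ ∈ End.eigenspace A μ := hv₀.1
  have hv₀ne : v₀ ≠ 0 := hv₀.2
  have hμ0 : μ ≠ 0 := by
    intro h0
    rw [End.mem_eigenspace_iff, h0, zero_smul] at hv₀mem
    apply hv₀ne
    have h1 : ρ y⁻¹ * ρ y = 1 := by rw [← map_mul]; simp
    have h2 := congrArg (fun m : End K V => m v₀) h1
    simp only [Module.End.mul_apply, Module.End.one_apply] at h2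
    rw [← h2, ← hA, hv₀mem, map_zero]
  have hmap : ∀ (g : Γ) (ν : K) (v : V), v ∈ End.eigenspace A ν → ρ g v ∈ End.eigenspace A (κ g * ν) := by
    intro g ν v hv
    rw [End.mem_eigenspace_iff] at hv ⊢
    have h1 := congrArg (fun m : End K V => m v) (hrel g)
    simp only [Module.End.mul_apply, LinearMap.smul_apply] at h1
    rw [h1, hv, map_smul, smul_smul]
  set W : Submodule K V := End.eigenspace A μ with hW
  have : Nontrivial W := ⟨⟨⟨v₀, hv₀mem⟩, 0, fun h => hv₀ne (congrArg Subtype.val h)⟩⟩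
  let ι := ↥κu.range
  have : Finite ι := Finite.of_surjective κu.rangeRestrict κu.rangeRestrict_surjective
  let _ : Fintype ι := Fintype.ofFinite ι
  let Ac : ι → Submodule K V := fun c => End.eigenspace A (((c : Kˣ) : K) * μ)
  have hW1 : W ≤ Ac 1 := by
    intro x hx
    have h : (((1 : ι) : Kˣ) : K) * μ = μ := by simp
    change x ∈ End.eigenspace A _
    rw [h]
    exact hx
  have hle : ∀ {S T : Submodule K V} (f : End K V), Function.Injective f → (∀ v ∈ S, f v ∈ T) →
      finrank K S ≤ finrank K T := by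
    intro S T f hf hST
    refine LinearMap.finrank_le_finrank_of_injective (f := f.restrict hST) ?_
    intro a b hab
    apply Subtype.ext
    apply hf
    exact congrArg Subtype.val hab
  have hrinj : ∀ g, Function.Injective (ρ g) := by
    intro g a b hab
    have h1 : ρ g⁻¹ * ρ g = 1 := by rw [← map_mul]; simp
    have h2 := congrArg (ρ g⁻¹) hab
    rw [← Module.End.mul_apply, ← Module.End.mul_apply, h1] at h2
    simpa using h2
  have hfr : ∀ c : ι, finrank K (Ac c) = finrank K W := by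
    rintro ⟨_, g, rfl⟩
    apply le_antisymm
    · refine hle (ρ g⁻¹) (hrinj _) ?_
      intro v hv
      have h1 := hmap g⁻¹ _ v hv
      have h2 : κ g⁻¹ * (((κu g : Kˣ) : K) * μ) = μ := by
        rw [hκu, ← mul_assoc, ← hκmul]
        simp [hκone]
      rwa [h2] at h1
    · refine hle (ρ g) (hrinj _) ?_
      intro v hv
      exact hmap g μ v hv
  have hindep : iSupIndep Ac := by
    have h1 := (End.eigenspaces_iSupIndep A).comp (f := fun c : ι => ((c : Kˣ) : K) * μ) (by
      intro a b hab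
      have h2 : ((a : Kˣ) : K) = ((b : Kˣ) : K) := mul_right_cancel₀ hμ0 hab
      exact Subtype.ext (Units.ext h2))
    exact h1
  have htop : (⨆ c, Ac c) = ⊤ := by
    have h1 := hρ (⨆ c, Ac c) (by
      intro g w hw
      refine Submodule.iSup_induction (motive := fun w => ρ g w ∈ ⨆ c, Ac c) Ac hw ?_ (by simp) ?_
      · intro c x hx
        have h2 := hmap g _ x hx
        have h3 : κ g * (((c : Kˣ) : K) * μ) = (((⟨κu g, g, rfl⟩ * c : ι) : Kˣ) : K) * μ := by
          change κ g * (((c : Kˣ) : K) * μ) = (((κu g * (c : Kˣ)) : Kˣ) : K) * μ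
          rw [Units.val_mul, hκu, mul_assoc]
        rw [h3] at h2
        exact Submodule.mem_iSup_of_mem _ h2
      · intro a b ha hb
        rw [map_add]
        exact add_mem ha hb)
    rcases h1 with h1 | h1
    · exfalso
      have h2 : v₀ ∈ ⨆ c, Ac c := Submodule.mem_iSup_of_mem 1 (hW1 hv₀mem)
      rw [h1] at h2
      exact hv₀ne (by simpa using h2)
    · exact h1
  have hint : DirectSum.IsInternal Ac :=
    DirectSum.isInternal_submodule_of_iSupIndep_of_iSup_eq_top hindep htop
  have hdsum : d = Fintype.card ι * finrank K W := by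
    let bs := fun c : ι => Module.finBasis K (Ac c)
    have h1 := finrank_eq_card_basis (hint.collectedBasis bs)
    rw [← hd, h1, Fintype.card_sigma]
    simp only [Fintype.card_fin, hfr, Finset.sum_const, Finset.card_univ, smul_eq_mul]
  -- the size of the range
  have hιp : IsPGroup q ι := IsPGroup.of_surjective hΓ κu.rangeRestrict κu.rangeRestrict_surjective
  obtain ⟨k, hk⟩ := IsPGroup.iff_card.mp hιp
  have hιcard : Fintype.card ι = q ^ k := by rw [← Nat.card_eq_fintype_card, hk]
  have hWpos : 0 < finrank K W := finrank_pos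
  have hι2 : 2 ≤ Fintype.card ι := by
    by_contra hlt
    have h1 : Fintype.card ι = 1 := by
      have : 0 < Fintype.card ι := Fintype.card_pos
      omega
    have h2 : finrank K W = finrank K V := by rw [hd, hdsum, h1, one_mul]
    have h3 : W = ⊤ := Submodule.eq_top_of_finrank_eq h2
    apply hy
    refine ⟨μ, ?_⟩
    ext v
    have : v ∈ W := by rw [h3]; trivial
    simpa using (End.mem_eigenspace_iff.mp this)
  have hlt : finrank K W < d := by
    rw [hdsum]
    nlinarith
  -- the stabiliser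
  let Γ₁ : Subgroup Γ := κu.ker
  have hΓ₁ : ∀ g : Γ₁, κ (g : Γ) = 1 := by
    intro g
    have : κu (g : Γ) = 1 := g.2
    rw [← hκu, this]
    rfl
  have hstab : ∀ (a : Γ₁) (u : V), u ∈ W → (ρ.comp Γ₁.subtype) a u ∈ W := by
    intro a u hu
    have := hmap (a : Γ) μ u hu
    rwa [hΓ₁ a, one_mul] at this
  let ρ₁ : Γ₁ →* End K W := HHChar.restrictRep (ρ.comp Γ₁.subtype) W hstab
  have hirr₁ : Irr ρ₁ := by
    intro W' hW'
    by_cases hbot : W' = ⊥
    · exact Or.inl hbot
    right
    let Wt : Submodule K V := W'.map W.subtype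
    have hWtinv : ∀ (g : Γ), κ g = 1 → ∀ x ∈ Wt, ρ g x ∈ Wt := by
      rintro g hg _ ⟨x, hx, rfl⟩
      have hgm : g ∈ Γ₁ := by
        change κu g = 1
        exact Units.ext hg
      refine ⟨ρ₁ ⟨g, hgm⟩ x, hW' ⟨g, hgm⟩ x hx, ?_⟩
      rfl
    have hWtle : Wt ≤ W := by
      rintro _ ⟨x, hx, rfl⟩
      exact x.2
    let S : Submodule K V := ⨆ g : Γ, Wt.map (ρ g)
    have hS : S = ⊤ := by
      have h1 := hρ S (by
        intro g w hw
        refine Submodule.iSup_induction (motive := fun w => ρ g w ∈ S) (fun g : Γ => Wt.map (ρ g)) hw ?_ (by simp) ?_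
        · rintro c _ ⟨x, hx, rfl⟩
          have : ρ g (ρ c x) ∈ Wt.map (ρ (g * c)) := ⟨x, hx, by rw [map_mul]; rfl⟩
          exact Submodule.mem_iSup_of_mem _ this
        · intro a b ha hb
          rw [map_add]
          exact add_mem ha hb)
      rcases h1 with h1 | h1
      · exfalso
        obtain ⟨x, hx, hx0⟩ := Submodule.exists_mem_ne_zero_of_ne_bot hbot
        have h2 : (x : V) ∈ Wt := ⟨x, hx, rfl⟩
        have h3 : ((x : V)) ∈ Wt.map (ρ 1) := ⟨x, h2, by simp⟩
        have h4 : (x : V) ∈ S := Submodule.mem_iSup_of_mem _ h3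
        rw [h1] at h4
        apply hx0
        exact Subtype.ext (by simpa using h4)
      · exact h1
    have hsplit : ∀ x ∈ S, ∃ x₀ ∈ Wt, x - x₀ ∈ ⨆ (j : K) (_ : j ≠ μ), End.eigenspace A j := by
      intro x hx
      refine Submodule.iSup_induction (motive := fun x => ∃ x₀ ∈ Wt, x - x₀ ∈ ⨆ (j : K) (_ : j ≠ μ), End.eigenspace A j)
        (fun g : Γ => Wt.map (ρ g)) hx ?_ ⟨0, Submodule.zero_mem _, by simp⟩ ?_
      · rintro g _ ⟨w, hw, rfl⟩
        by_cases hg : κ g = 1
        · exact ⟨ρ g w, hWtinv g hg w hw, by simp⟩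
        · refine ⟨0, Submodule.zero_mem _, ?_⟩
          rw [sub_zero]
          have h1 := hmap g μ w (hWtle hw)
          refine Submodule.mem_iSup_of_mem (κ g * μ) (Submodule.mem_iSup_of_mem ?_ h1)
          intro he
          exact hg (mul_right_cancel₀ hμ0 (by rw [he, one_mul]))
      · rintro a b ⟨a₀, ha₀, ha⟩ ⟨b₀, hb₀, hb⟩
        refine ⟨a₀ + b₀, add_mem ha₀ hb₀, ?_⟩
        have : a + b - (a₀ + b₀) = (a - a₀) + (b - b₀) := by abel
        rw [this]
        exact add_mem ha hb
    have hdisj := End.eigenspaces_iSupIndep A μ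
    rw [eq_top_iff]
    rintro ⟨w, hw⟩ -
    have hwS : w ∈ S := by rw [hS]; trivial
    obtain ⟨x₀, hx₀, hx⟩ := hsplit w hwS
    have h0 : w - x₀ ∈ End.eigenspace A μ := sub_mem hw (hWtle hx₀)
    have h1 : w - x₀ = 0 := (Submodule.disjoint_def.mp hdisj) _ h0 hx
    have h2 : w = x₀ := sub_eq_zero.mp h1
    obtain ⟨x, hx', hxe⟩ := hx₀
    have h3 : (⟨w, hw⟩ : W) = x := Subtype.ext (h2.trans hxe.symm)
    rw [h3]
    exact hx'
  obtain ⟨c, hc⟩ := ih (finrank K W) hlt W Γ₁ (hΓ.to_subgroup Γ₁) ρ₁ hirr₁ rfl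
  exact ⟨k + c, by rw [hdsum, hιcard, hc, pow_add]⟩


end QPow

end Cfsg.Agent.Lib.HHCrit
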