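import Mathlib
import Cfsg.Agent.Lib.HHFermat
import Cfsg.Agent.Lib.DedekindOps
import Cfsg.Agent.Lib.Frat
import Cfsg.Agent.Lib.PCore
import Cfsg.Agent.Lib.MaxExp

set_option autoImplicit false
set_option linter.unusedSectionVars false
set_option linter.unusedVariables false
set_option linter.style.haveILetI false

namespace Cfsg.Agent.Lib.HHMain

open Module Cfsg Cfsg.Agent.Lib.HHCore Cfsg.Agent.Lib.HHChar Cfsg.Agent.Lib.HHFermat Cfsg.Agent.Lib.PCore
open scoped commutatorElement TensorProduct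

universe u v

/-- The algebraic closure of the prime field. -/
abbrev FF (q : ℕ) [Fact q.Prime] : Type := AlgebraicClosure (ZMod q)

/-- Additive endomorphisms of an elementary abelian group as linear maps. -/
noncomputable def toKHom (q : ℕ) (M : Type*) [AddCommGroup M] [Module (ZMod q) M] :
    End ℤ M →* End (ZMod q) M :=
  { toFun := fun f => f.toAddMonoidHom.toZModLinearMap q
    map_one' := LinearMap.ext fun v => rfl
    map_mul' := fun f g => LinearMap.ext fun v => rfl }

/-- Base change of `core_contradiction`. -/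
theorem core_module_aux {R M : Type*} [Group R] [Finite R] [AddCommGroup M] [Finite M]
    {p r q n : ℕ} [Fact q.Prime] [Module (ZMod q) M] (hp : p.Prime) (hp2 : p ≠ 2) (hr : r.Prime) (hq : q.Prime) (hn : 1 ≤ n)
    (hpq : p ≠ q) (hrq : r ≠ q)
    (hRr : IsPGroup r R) (hM : ∀ v : M, q • v = 0)
    (ρ : R →* End ℤ M) (hρ : Function.Injective ρ)
    (σ : MulAut R) (hσ : σ ^ (p ^ n) = 1) (hfpf : ∀ s, σ s = s → s = 1)
    (τ : End ℤ M) (hτρ : ∀ s, τ * ρ s = ρ (σ s) * τ) (hτ : τ ^ (p ^ n) = 1)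
    (hnorm : ∀ v, ∑ i ∈ Finset.range (p ^ n), (τ ^ i) v = 0)
    (Z : Subgroup R) (hZc : ∀ z ∈ Z, ∀ s, z * s = s * z) (hZσ : ∀ z, z ∈ Z ↔ σ z ∈ Z)
    (hcomm : ∀ s t : R, ⁅s, t⁆ ∈ Z)
    (hT : ∀ s, (σ ^ (p ^ (n - 1))) s * s⁻¹ ∈ Z → s ∈ Z)
    (hirr : ∀ S : Subgroup R, Z ≤ S → (∀ s, s ∈ S ↔ σ s ∈ S) → S = Z ∨ S = ⊤)
    (hna : ∃ s t : R, ⁅s, t⁆ ≠ 1) : False := by
  classical
  letI := Fintype.ofFinite R
  haveI : Module.Finite (ZMod q) M := Module.Finite.of_finite
  let toK : End ℤ M →* End (ZMod q) M := toKHom q M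
  have htoK : ∀ (f : End ℤ M) (v : M), toK f v = f v := fun f v => rfl
  have htoKinj : Function.Injective toK := by
    intro f g h
    ext v
    have := congrArg (fun y : End (ZMod q) M => y v) h
    exact this
  let bc : End (ZMod q) M →ₐ[ZMod q] End (FF q) (FF q ⊗[ZMod q] M) := Module.End.baseChangeHom (ZMod q) (FF q) M
  have hbcinj : Function.Injective bc := LinearMap.baseChangeHom_injective (ZMod q) M (FF q)
  let ρ' : R →* End (FF q) (FF q ⊗[ZMod q] M) := (bc : End (ZMod q) M →* End (FF q) (FF q ⊗[ZMod q] M)).comp (toK.comp ρ)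
  let τ' : End (FF q) (FF q ⊗[ZMod q] M) := bc (toK τ)
  have hchar : ∀ m : ℕ, ((m : ℕ) : FF q) = 0 ↔ q ∣ m := by
    intro m
    haveI : CharP (FF q) q := charP_of_injective_algebraMap (algebraMap (ZMod q) (FF q)).injective q
    exact CharP.cast_eq_zero_iff (FF q) q m
  have hpF : (p : FF q) ≠ 0 := by
    rw [Ne, hchar]
    intro h
    exact hpq ((Nat.prime_dvd_prime_iff_eq hq hp).mp h).symm
  have hRF : (Fintype.card R : FF q) ≠ 0 := by
    rw [Ne, hchar]
    intro h
    haveI : Fact r.Prime := ⟨hr⟩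
    obtain ⟨k, hk⟩ := (IsPGroup.iff_card (p := r) (G := R)).mp hRr
    rw [← Nat.card_eq_fintype_card, hk] at h
    exact hrq ((Nat.prime_dvd_prime_iff_eq hq hr).mp (hq.dvd_of_dvd_pow h)).symm
  refine core_contradiction (𝔽 := FF q) (U := FF q ⊗[ZMod q] M) hp hp2 hr hn hRr hpF hRF ρ' ?_ σ hσ hfpf τ' ?_ ?_ ?_
    Z hZc hZσ hcomm hT hirr hna
  · intro s t h
    exact hρ (htoKinj (hbcinj h))
  · intro s
    show bc (toK τ) * bc (toK (ρ s)) = bc (toK (ρ (σ s))) * bc (toK τ)
    rw [← map_mul, ← map_mul, ← map_mul, ← map_mul, hτρ]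
  · show (bc (toK τ)) ^ (p ^ n) = 1
    rw [← map_pow, ← map_pow, hτ, map_one, map_one]
  · have h1 : ∑ i ∈ Finset.range (p ^ n), τ' ^ i = bc (∑ i ∈ Finset.range (p ^ n), (toK τ) ^ i) := by
      rw [map_sum]
      refine Finset.sum_congr rfl fun i _ => ?_
      rw [map_pow]
    rw [h1]
    have h2 : ∑ i ∈ Finset.range (p ^ n), (toK τ) ^ i = 0 := by
      ext v
      rw [LinearMap.sum_apply]
      have h3 := hnorm v
      have h4 : ∀ i, ((toK τ) ^ i) v = (τ ^ i) v := by
        intro i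
        rw [← map_pow]
        exact htoK _ _
      simp only [h4]
      exact h3
    rw [h2, map_zero]

theorem core_module {R M : Type*} [Group R] [Finite R] [AddCommGroup M] [Finite M]
    {p r q n : ℕ} (hp : p.Prime) (hp2 : p ≠ 2) (hr : r.Prime) (hq : q.Prime) (hn : 1 ≤ n)
    (hpq : p ≠ q) (hrq : r ≠ q)
    (hRr : IsPGroup r R) (hM : ∀ v : M, q • v = 0)
    (ρ : R →* End ℤ M) (hρ : Function.Injective ρ)
    (σ : MulAut R) (hσ : σ ^ (p ^ n) = 1) (hfpf : ∀ s, σ s = s → s = 1)
    (τ : End ℤ M) (hτρ : ∀ s, τ * ρ s = ρ (σ s) * τ) (hτ : τ ^ (p ^ n) = 1)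
    (hnorm : ∀ v, ∑ i ∈ Finset.range (p ^ n), (τ ^ i) v = 0)
    (Z : Subgroup R) (hZc : ∀ z ∈ Z, ∀ s, z * s = s * z) (hZσ : ∀ z, z ∈ Z ↔ σ z ∈ Z)
    (hcomm : ∀ s t : R, ⁅s, t⁆ ∈ Z)
    (hT : ∀ s, (σ ^ (p ^ (n - 1))) s * s⁻¹ ∈ Z → s ∈ Z)
    (hirr : ∀ S : Subgroup R, Z ≤ S → (∀ s, s ∈ S ↔ σ s ∈ S) → S = Z ∨ S = ⊤)
    (hna : ∃ s t : R, ⁅s, t⁆ ≠ 1) : False := by
  haveI : Fact q.Prime := ⟨hq⟩
  letI : Module (ZMod q) M := AddCommGroup.zmodModule hM
  exact core_module_aux hp hp2 hr hq hn hpq hrq hRr hM ρ hρ σ hσ hfpf τ hτρ hτ hnorm Z hZc hZσ hcomm hT hirr hna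

/-- A twisted element fixed by an automorphism of coprime order is trivial. -/
theorem twist_trivial {G : Type*} [Group G] (τ : MulAut G) {p : ℕ} (hτ : τ ^ p = 1)
    (hcop : ∀ c : G, c ^ p = 1 → c = 1) {s : G} (h : τ (τ s * s⁻¹) = τ s * s⁻¹) : τ s = s := by
  obtain ⟨c, hc⟩ : ∃ c, c = τ s * s⁻¹ := ⟨_, rfl⟩
  rw [← hc] at h
  have h1 : τ s = c * s := by rw [hc]; group
  have h2 : ∀ j : ℕ, (τ ^ j) s = c ^ j * s := by
    intro j
    induction j with
    | zero => simp
    | succ j ih =>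
      rw [pow_succ']
      show τ ((τ ^ j) s) = _
      rw [ih, map_mul, map_pow, h, h1, pow_succ, mul_assoc]
  have h3 := h2 p
  rw [hτ] at h3
  have h4 : c ^ p = 1 := by
    have h5 : s = c ^ p * s := h3
    exact (mul_eq_right.mp h5.symm)
  have h5 := hcop c h4
  rw [h1, h5, one_mul]

theorem main_lemma {M : Type*} [AddCommGroup M] [Finite M] {p r q n : ℕ}
    (hp : p.Prime) (hp2 : p ≠ 2) (hr : r.Prime) (hq : q.Prime) (hn : 1 ≤ n)
    (hpq : p ≠ q) (hrq : r ≠ q) (hpr : p ≠ r) (hM : ∀ v : M, q • v = 0)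
    (τ : End ℤ M) (hτ : τ ^ (p ^ n) = 1)
    (hnorm : ∀ v, ∑ i ∈ Finset.range (p ^ n), (τ ^ i) v = 0) :
    ∀ (N : ℕ) (R : Type v) [Group R] [Finite R], Nat.card R = N → IsPGroup r R →
      ∀ (ρ : R →* End ℤ M), Function.Injective ρ → ∀ σ : MulAut R, σ ^ (p ^ n) = 1 →
      (∀ s, σ s = s → s = 1) → (∀ s, τ * ρ s = ρ (σ s) * τ) → σ ^ (p ^ (n - 1)) = 1 := by
  intro N
  induction N using Nat.strong_induction_on with
  | _ N IH =>
    intro R _ _ hcard hRr ρ hρ σ hσ hfpf hτρ
    by_contra hne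
    haveI : Fact r.Prime := ⟨hr⟩
    have hpnpos : 0 < p ^ n := pow_pos hp.pos n
    set σ₀ : MulAut R := σ ^ (p ^ (n - 1)) with hσ₀
    have hσ₀p : σ₀ ^ p = 1 := by
      rw [hσ₀, ← pow_mul, ← pow_succ]
      have : n - 1 + 1 = n := by omega
      rw [this, hσ]
    have hcommσ : ∀ s, σ (σ₀ s) = σ₀ (σ s) := by
      intro s
      show (σ * σ₀) s = (σ₀ * σ) s
      rw [hσ₀, ← pow_succ', pow_succ]
    -- proper invariant subgroups are centralized
    have hsub : ∀ S : Subgroup R, S ≠ ⊤ → (∀ s, s ∈ S ↔ σ s ∈ S) → ∀ s ∈ S, σ₀ s = s := by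
      intro S hS hinv s hs
      have hlt : Nat.card S < N := by
        rw [← hcard]
        have h1 := S.card_mul_index
        have h2 : 2 ≤ S.index := by
          have h3 : S.index ≠ 0 := Subgroup.index_ne_zero_of_finite
          have h4 : S.index ≠ 1 := fun h => hS (Subgroup.index_eq_one.mp h)
          omega
        have h3 : 0 < Nat.card S := Nat.card_pos
        nlinarith
      have h := IH _ hlt S rfl (hRr.to_subgroup S) (ρ.comp S.subtype)
        (hρ.comp S.subtype_injective) (restrictAut σ S hinv)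
        (by
          ext x
          rw [restrictAut_pow_coe, hσ]; rfl)
        (by
          intro x hx
          apply Subtype.ext
          exact hfpf _ (congrArg Subtype.val hx))
        (fun x => hτρ x)
      have h2 : ((restrictAut σ S hinv) ^ (p ^ (n - 1))) ⟨s, hs⟩ = ⟨s, hs⟩ := by rw [h]; rfl
      have h3 := congrArg Subtype.val h2
      rw [restrictAut_pow_coe] at h3
      exact h3
    -- coprimality
    have hcop : ∀ c : R, c ^ p = 1 → c = 1 := by
      intro c hc
      obtain ⟨k, hk⟩ := hRr c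
      have hk' : c ^ r ^ k = 1 := hk
      have h1 := orderOf_dvd_of_pow_eq_one hc
      have h2 := orderOf_dvd_of_pow_eq_one hk'
      have h3 : Nat.Coprime p (r ^ k) := Nat.Coprime.pow_right _ ((Nat.coprime_primes hp hr).mpr hpr)
      have h4 := Nat.eq_one_of_dvd_coprimes h3 h1 h2
      exact orderOf_eq_one_iff.mp h4
    -- the commutator with `σ₀`
    let K : Subgroup R := Subgroup.closure (Set.range fun s => σ₀ s * s⁻¹)
    have hKinv : ∀ x ∈ K, σ x ∈ K := by
      intro x hx
      induction hx using Subgroup.closure_induction with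
      | mem x hx =>
        obtain ⟨s, rfl⟩ := hx
        apply Subgroup.subset_closure
        refine ⟨σ s, ?_⟩
        simp only [map_mul, map_inv, hcommσ]
      | one => rw [map_one]; exact K.one_mem
      | mul x y _ _ hx hy => rw [map_mul]; exact K.mul_mem hx hy
      | inv x _ hx => rw [map_inv]; exact K.inv_mem hx
    have hσ₀ne : ∃ s, σ₀ s ≠ s := by
      by_contra hcon
      push Not at hcon
      exact hne (MulEquiv.ext hcon)
    have hKtop : K = ⊤ := by
      by_contra hK
      have h1 := hsub K hK (inv_iff_of_pow_eq_one σ K hKinv hpnpos hσ)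
      obtain ⟨s, hs⟩ := hσ₀ne
      exact hs (twist_trivial σ₀ hσ₀p hcop (h1 _ (Subgroup.subset_closure ⟨s, rfl⟩)))
    -- a maximal invariant subgroup
    have hbotne : (⊥ : Subgroup R) ≠ ⊤ := by
      intro h
      obtain ⟨s, hs⟩ := hσ₀ne
      have h1 : s ∈ (⊥ : Subgroup R) := h ▸ Subgroup.mem_top s
      have h2 : s = 1 := Subgroup.mem_bot.mp h1
      rw [h2, map_one] at hs
      exact hs rfl
    let 𝒮 : Set (Subgroup R) := {S | S ≠ ⊤ ∧ ∀ s, s ∈ S ↔ σ s ∈ S}
    have hbotS : (⊥ : Subgroup R) ∈ 𝒮 := by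
      refine ⟨hbotne, fun s => ?_⟩
      rw [Subgroup.mem_bot, Subgroup.mem_bot]
      exact (map_eq_one_iff σ σ.injective).symm
    obtain ⟨Z, hZmax⟩ := (Set.toFinite 𝒮).exists_maximal ⟨⊥, hbotS⟩
    obtain ⟨hZ1, hZ2⟩ := hZmax.1
    have hmax : ∀ S : Subgroup R, S ≠ ⊤ → (∀ s, s ∈ S ↔ σ s ∈ S) → Z ≤ S → S ≤ Z :=
      fun S h1 h2 h3 => hZmax.2 ⟨h1, h2⟩ h3
    -- the Frattini subgroup lies in `Z`
    have hΦ : frattini R ≤ Z := by
      let S := Z ⊔ frattini R
      have hSinv : ∀ s ∈ S, σ s ∈ S := by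
        have h1 : S ≤ S.comap σ.toMonoidHom := by
          refine sup_le ?_ ?_
          · intro z hz
            exact (le_sup_left : Z ≤ S) ((hZ2 z).mp hz)
          · intro z hz
            have h2 := (Subgroup.characteristic_iff_le_comap.mp (frattini_characteristic (G := R))) σ hz
            exact (le_sup_right : frattini R ≤ S) h2
        exact fun s hs => h1 hs
      have hStop : S ≠ ⊤ := fun h => hZ1 (frattini_nongenerating h)
      exact (le_sup_right.trans (hmax S hStop (inv_iff_of_pow_eq_one σ S hSinv hpnpos hσ) le_sup_left))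
    have hcommZ : ∀ s t : R, ⁅s, t⁆ ∈ Z := by
      intro s t
      apply hΦ
      apply Cfsg.Agent.Lib.Frat.commutator_le_frattini hRr
      rw [commutator_def]
      exact Subgroup.commutator_mem_commutator (Subgroup.mem_top s) (Subgroup.mem_top t)
    haveI hZnorm : Z.Normal := by
      refine ⟨fun z hz g => ?_⟩
      have h1 : g * z * g⁻¹ = ⁅g, z⁆ * z := by simp [commutatorElement_def]
      rw [h1]
      exact Z.mul_mem (hcommZ g z) hz
    have hσ₀Z : ∀ z ∈ Z, σ₀ z = z := hsub Z hZ1 hZ2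
    have hZc : ∀ z ∈ Z, ∀ s, z * s = s * z := by
      intro z hz s
      have hK1 : K ≤ Subgroup.centralizer {z} := by
        refine (Subgroup.closure_le _).mpr ?_
        rintro _ ⟨t, rfl⟩
        rw [SetLike.mem_coe, Subgroup.mem_centralizer_singleton_iff]
        have hw : t⁻¹ * z * t ∈ Z := by
          have := hZnorm.conj_mem z hz t⁻¹
          simpa using this
        have h1 := hσ₀Z _ hw
        simp only [map_mul, map_inv, hσ₀Z z hz] at h1
        show σ₀ t * t⁻¹ * z = z * (σ₀ t * t⁻¹)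
        have h2 : z * σ₀ t = σ₀ t * (t⁻¹ * z * t) := by
          rw [← h1]; group
        calc σ₀ t * t⁻¹ * z = σ₀ t * (t⁻¹ * z * t) * t⁻¹ := by group
          _ = z * σ₀ t * t⁻¹ := by rw [h2]
          _ = z * (σ₀ t * t⁻¹) := by group
      have h2 : s ∈ Subgroup.centralizer {z} := hK1 (hKtop ▸ Subgroup.mem_top s)
      rw [Subgroup.mem_centralizer_singleton_iff] at h2
      exact h2.symm
    -- fixed points on the quotient
    have hT : ∀ s, σ₀ s * s⁻¹ ∈ Z → s ∈ Z := by
      let S : Subgroup R :=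
        { carrier := {s | σ₀ s * s⁻¹ ∈ Z}
          mul_mem' := by
            intro a b ha hb
            show σ₀ (a * b) * (a * b)⁻¹ ∈ Z
            have h1 : σ₀ (a * b) * (a * b)⁻¹ = (σ₀ a * a⁻¹) * (a * (σ₀ b * b⁻¹) * a⁻¹) := by
              rw [map_mul]; group
            rw [h1]
            exact Z.mul_mem ha (hZnorm.conj_mem _ hb a)
          one_mem' := by
            show σ₀ 1 * 1⁻¹ ∈ Z
            simp [Z.one_mem]
          inv_mem' := by
            intro a ha
            show σ₀ a⁻¹ * a⁻¹⁻¹ ∈ Z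
            have h1 : σ₀ a⁻¹ * a⁻¹⁻¹ = (a⁻¹ * (σ₀ a * a⁻¹) * a⁻¹⁻¹)⁻¹ := by
              rw [map_inv]; group
            rw [h1]
            exact Z.inv_mem (hZnorm.conj_mem _ ha a⁻¹) }
      have hZS : Z ≤ S := by
        intro z hz
        show σ₀ z * z⁻¹ ∈ Z
        rw [hσ₀Z z hz, mul_inv_cancel]
        exact Z.one_mem
      have hSinv : ∀ s ∈ S, σ s ∈ S := by
        intro s hs
        show σ₀ (σ s) * (σ s)⁻¹ ∈ Z
        rw [← hcommσ, ← map_inv, ← map_mul]
        exact (hZ2 _).mp hs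
      have hStop : S ≠ ⊤ := by
        intro h
        apply hZ1
        rw [eq_top_iff, ← hKtop]
        refine (Subgroup.closure_le _).mpr ?_
        rintro _ ⟨t, rfl⟩
        have : t ∈ S := h ▸ Subgroup.mem_top t
        exact this
      exact fun s hs => hmax S hStop (inv_iff_of_pow_eq_one σ S hSinv hpnpos hσ) hZS hs
    have hirr : ∀ S : Subgroup R, Z ≤ S → (∀ s, s ∈ S ↔ σ s ∈ S) → S = Z ∨ S = ⊤ := by
      intro S h1 h2
      by_cases h3 : S = ⊤
      · exact Or.inr h3
      · exact Or.inl (le_antisymm (hmax S h3 h2 h1) h1)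
    by_cases hab : ∀ s t : R, s * t = t * s
    · letI : CommGroup R := { (inferInstance : Group R) with mul_comm := hab }
      have hcard' : Nat.Coprime (Nat.card R) q := by
        obtain ⟨k, hk⟩ := (IsPGroup.iff_card (p := r) (G := R)).mp hRr
        rw [hk]
        exact Nat.Coprime.pow_left _ ((Nat.coprime_primes hr hq).mpr hrq)
      exact hne (Cfsg.Agent.Lib.DedekindOps.dedekind_core hM hcard' ρ hρ τ σ hτρ hp hn hσ hnorm)
    · exfalso
      push Not at hab
      obtain ⟨s, t, hst⟩ := hab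
      refine core_module hp hp2 hr hq hn hpq hrq hRr hM ρ hρ σ hσ hfpf τ hτρ hτ hnorm Z hZc hZ2 hcommZ hT hirr
        ⟨s, t, ?_⟩
      intro h
      exact hst (commutatorElement_eq_one_iff_mul_comm.mp h)

/-- An automorphism of `p`-power order without nontrivial fixed points has order prime to the
group order. -/
theorem coprime_of_fpf_pow {G : Type*} [Group G] [Finite G] {p n : ℕ} (hp : p.Prime) (σ : MulAut G)
    (hσ : σ ^ (p ^ n) = 1) (hfpf : ∀ g, σ g = g → g = 1) : Nat.Coprime p (Nat.card G) := by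
  classical
  haveI : Fact p.Prime := ⟨hp⟩
  let P : Subgroup (MulAut G) := Subgroup.zpowers σ
  have hP : IsPGroup p P := by
    rintro ⟨x, i, rfl⟩
    refine ⟨n, ?_⟩
    apply Subtype.ext
    show ((σ ^ i) ^ (p ^ n) : MulAut G) = 1
    rw [← zpow_natCast, ← zpow_mul, mul_comm, zpow_mul, zpow_natCast, hσ, one_zpow]
  have h1 := hP.card_modEq_card_fixedPoints G
  have h2 : MulAction.fixedPoints P G = {1} := by
    ext g
    simp only [MulAction.mem_fixedPoints, Set.mem_singleton_iff]
    constructor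
    · intro h
      exact hfpf g (h ⟨σ, Subgroup.mem_zpowers σ⟩)
    · rintro rfl x
      exact map_one (x : MulAut G)
  rw [h2] at h1
  have h3 : Nat.card ({1} : Set G) = 1 := by simp
  rw [h3] at h1
  rw [Nat.Prime.coprime_iff_not_dvd hp]
  intro h
  have h4 : 1 ≡ 0 [MOD p] := h1.symm.trans (Nat.modEq_zero_iff_dvd.mpr h)
  have h5 : p ∣ 1 := Nat.modEq_zero_iff_dvd.mp h4
  exact hp.one_lt.ne' (Nat.dvd_one.mp h5)

/-- Theorem C: the faithful case. -/
theorem sigma_trivial_of_faithful {H : Type v} {M : Type*} [Group H] [Finite H] [AddCommGroup M] [Finite M]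
    (hsolv : Group.IsSolvable H) {p q n : ℕ}
    (hp : p.Prime) (hp2 : p ≠ 2) (hq : q.Prime) (hn : 1 ≤ n) (hpq : p ≠ q) (hM : ∀ v : M, q • v = 0)
    (ρ : H →* End ℤ M) (hρ : Function.Injective ρ) (σ : MulAut H) (hσ : σ ^ (p ^ n) = 1)
    (hfpf : ∀ s, σ s = s → s = 1) (τ : End ℤ M) (hτρ : ∀ s, τ * ρ s = ρ (σ s) * τ)
    (hτ : τ ^ (p ^ n) = 1) (hnorm : ∀ v, ∑ i ∈ Finset.range (p ^ n), (τ ^ i) v = 0)
    (hOq : pCore q H = ⊥) : σ ^ (p ^ (n - 1)) = 1 := by
  classical
  haveI := hsolv
  have hpnpos : 0 < p ^ n := pow_pos hp.pos n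
  set σ₀ : MulAut H := σ ^ (p ^ (n - 1)) with hσ₀
  have hσ₀p : σ₀ ^ p = 1 := by
    rw [hσ₀, ← pow_mul, ← pow_succ]
    have : n - 1 + 1 = n := by omega
    rw [this, hσ]
  have hcop := coprime_of_fpf_pow hp σ hσ hfpf
  have hnop : ∀ c : H, c ^ p = 1 → c = 1 := by
    intro c hc
    have h1 := orderOf_dvd_of_pow_eq_one hc
    have h2 := orderOf_dvd_natCard c
    exact orderOf_eq_one_iff.mp (Nat.eq_one_of_dvd_coprimes hcop h1 h2)
  -- the cores
  have hcore : ∀ (r : ℕ) [Fact r.Prime], ∀ x ∈ pCore r H, σ₀ x = x := by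
    intro r _ x hx
    have hr : r.Prime := Fact.out
    by_cases hrq : r = q
    · subst hrq
      rw [hOq] at hx
      rw [Subgroup.mem_bot.mp hx, map_one]
    by_cases hrp : r = p
    · subst hrp
      obtain ⟨k, hk⟩ := isPGroup_pCore (G := H) r ⟨x, hx⟩
      have hk' : x ^ r ^ k = 1 := congrArg Subtype.val hk
      have h1 := orderOf_dvd_of_pow_eq_one hk'
      have h2 := orderOf_dvd_natCard x
      have h3 : Nat.Coprime (r ^ k) (Nat.card H) := Nat.Coprime.pow_left _ hcop
      have h4 := orderOf_eq_one_iff.mp (Nat.eq_one_of_dvd_coprimes h3 h1 h2)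
      rw [h4, map_one]
    have hinv : ∀ s, s ∈ pCore r H ↔ σ s ∈ pCore r H := by
      refine inv_iff_of_pow_eq_one σ _ ?_ hpnpos hσ
      intro s hs
      exact (Subgroup.characteristic_iff_le_comap.mp (instPCoreCharacteristic r)) σ hs
    have h := main_lemma hp hp2 hr hq hn hpq hrq (Ne.symm hrp) hM τ hτ hnorm _ (pCore r H) rfl
      (isPGroup_pCore r) (ρ.comp (pCore r H).subtype) (hρ.comp (pCore r H).subtype_injective)
      (restrictAut σ (pCore r H) hinv)
      (by
        ext y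
        rw [restrictAut_pow_coe, hσ]; rfl)
      (by
        intro y hy
        apply Subtype.ext
        exact hfpf _ (congrArg Subtype.val hy))
      (fun y => hτρ y)
    have h2 : ((restrictAut σ (pCore r H) hinv) ^ (p ^ (n - 1))) ⟨x, hx⟩ = ⟨x, hx⟩ := by rw [h]; rfl
    have h3 := congrArg Subtype.val h2
    rw [restrictAut_pow_coe] at h3
    exact h3
  -- the Fitting subgroup
  have hF : ∀ x ∈ fittingSubgroup H, σ₀ x = x := by
    let Fx : Subgroup H :=
      { carrier := {x | σ₀ x = x}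
        mul_mem' := by
          intro a b ha hb
          show σ₀ (a * b) = a * b
          rw [map_mul, show σ₀ a = a from ha, show σ₀ b = b from hb]
        one_mem' := map_one σ₀
        inv_mem' := by
          intro a ha
          show σ₀ a⁻¹ = a⁻¹
          rw [map_inv, show σ₀ a = a from ha] }
    have h1 : fittingSubgroup H ≤ Fx := by
      rw [fittingSubgroup_eq_iSup_pCore]
      refine iSup_le fun r => ?_
      haveI : Fact (r : ℕ).Prime := ⟨r.2⟩
      exact fun x hx => hcore r x hx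
    exact fun x hx => h1 hx
  apply MulEquiv.ext
  intro g
  refine twist_trivial σ₀ hσ₀p hnop (hF _ ?_)
  apply centralizer_fittingSubgroup_le
  rw [Subgroup.mem_centralizer_iff]
  intro x hx
  have hw : g⁻¹ * x * g ∈ fittingSubgroup H := by
    have := (fittingSubgroup_normal (G := H)).conj_mem x hx g⁻¹
    simpa using this
  have h1 := hF _ hw
  simp only [map_mul, map_inv, hF x hx] at h1
  have h2 : x * σ₀ g = σ₀ g * (g⁻¹ * x * g) := by
    rw [← h1]; group
  calc x * (σ₀ g * g⁻¹) = x * σ₀ g * g⁻¹ := by group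
    _ = σ₀ g * (g⁻¹ * x * g) * g⁻¹ := by rw [h2]
    _ = σ₀ g * g⁻¹ * x := by group

/-- A module structure on an abelian normal invariant subgroup. -/
theorem exists_module_aut {G : Type u} [Group G] (V : Subgroup G) [hn : V.Normal]
    (hc : ∀ u ∈ V, ∀ v ∈ V, u * v = v * u) (σ : MulAut G) (hσV : ∀ v ∈ V, σ v ∈ V) :
    ∃ (M : Type u) (_ : AddCommGroup M) (ι' : M → G) (ρ : G →* End ℤ M) (τ : End ℤ M),
      (∀ v w, ι' (v + w) = ι' v * ι' w) ∧ (∀ v, ι' v ∈ V) ∧ (∀ u ∈ V, ∃ v, ι' v = u) ∧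
        (∀ v w, ι' v = ι' w → v = w) ∧ (∀ g v, ι' (ρ g v) = g * ι' v * g⁻¹) ∧
        (∀ v, ι' (τ v) = σ (ι' v)) := by
  obtain ⟨M, _, ι', ρ₀, h1, h2, h3, h4, h5⟩ := Cfsg.Agent.Lib.MaxExp.exists_module V hc
  let ρ : G →* End ℤ M :=
    { toFun := ρ₀
      map_one' := by
        ext v
        apply h4
        rw [h5]; simp
      map_mul' := by
        intro a b
        ext v
        apply h4
        rw [h5, Module.End.mul_apply, h5, h5]; group }
  have hτ : ∀ v, ∃ w, ι' w = σ (ι' v) := fun v => h3 _ (hσV _ (h2 v))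
  choose τf hτf using hτ
  let τ : End ℤ M := AddMonoidHom.toIntLinearMap (AddMonoidHom.mk' τf (by
    intro a b
    apply h4
    rw [hτf, h1, h1, map_mul, hτf, hτf]))
  exact ⟨M, inferInstance, ι', ρ, τ, h1, h2, h3, h4, h5, hτf⟩

theorem exists_fixed_vector {Q M : Type*} [Group Q] [AddCommGroup M] [Finite M] {q : ℕ} [Fact q.Prime]
    (hQ : IsPGroup q Q) (op : Q →* End ℤ M) (hqM : q ∣ Nat.card M) : ∃ v : M, v ≠ 0 ∧ ∀ x, op x v = v := by
  letI : MulAction Q M :=
    { smul := fun x v => op x v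
      one_smul := fun v => by
        show op 1 v = v
        rw [map_one]; rfl
      mul_smul := fun x y v => by
        show op (x * y) v = op x (op y v)
        rw [map_mul]; rfl }
  have h0 : (0 : M) ∈ MulAction.fixedPoints Q M := by
    intro x
    show op x 0 = 0
    exact map_zero _
  obtain ⟨b, hb1, hb2⟩ := hQ.exists_fixed_point_of_prime_dvd_card_of_fixed_point M hqM h0
  exact ⟨b, hb2.symm, fun x => hb1 x⟩

/-- **Theorem A**: `σ₀` acts trivially modulo the Fitting subgroup. -/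
theorem theorem_A {p n : ℕ} (hp : p.Prime) (hp2 : p ≠ 2) (hn : 1 ≤ n) :
    ∀ (N : ℕ) (G : Type u) [Group G] [Finite G], Nat.card G = N → Group.IsSolvable G →
      ∀ σ : MulAut G, σ ^ (p ^ n) = 1 → (∀ g, σ g = g → g = 1) →
      ∀ g, (σ ^ (p ^ (n - 1))) g * g⁻¹ ∈ fittingSubgroup G := by
  intro N
  induction N using Nat.strong_induction_on with
  | _ N IH =>
    intro G _ _ hcard hsolv σ hσ hfpf g
    classical
    haveI := hsolv
    have hpnpos : 0 < p ^ n := pow_pos hp.pos n
    by_cases hbot : (⊥ : Subgroup G) = ⊤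
    · have h1 : ((σ ^ (p ^ (n - 1))) g * g⁻¹) ∈ (⊥ : Subgroup G) := hbot ▸ Subgroup.mem_top _
      rw [Subgroup.mem_bot.mp h1]
      exact Subgroup.one_mem _
    let 𝒱 : Set (Subgroup G) := {V | V ≠ ⊥ ∧ V.Normal ∧ ∀ s ∈ V, σ s ∈ V}
    have htop : (⊤ : Subgroup G) ∈ 𝒱 := ⟨Ne.symm hbot, inferInstance, fun _ _ => trivial⟩
    obtain ⟨V, hVmin⟩ := (Set.toFinite 𝒱).exists_minimal ⟨⊤, htop⟩
    obtain ⟨hV0, hVn, hVσ⟩ := hVmin.1
    have hmin : ∀ S : Subgroup G, S ≠ ⊥ → S.Normal → (∀ s ∈ S, σ s ∈ S) → S ≤ V → S = V :=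
      fun S h1 h2 h3 h4 => le_antisymm h4 (hVmin.2 ⟨h1, h2, h3⟩ h4)
    haveI := hVn
    have hVinv : ∀ s, s ∈ V ↔ σ s ∈ V := inv_iff_of_pow_eq_one σ V hVσ hpnpos hσ
    -- `V` is abelian
    have hVab : ∀ u ∈ V, ∀ v ∈ V, u * v = v * u := by
      have h0 : ⁅V, V⁆ = ⊥ := by
        by_contra hne
        have hVmap : V.map σ.toMonoidHom ≤ V := by
          rintro _ ⟨v, hv, rfl⟩
          exact hVσ v hv
        have h2 : (⁅V, V⁆).map σ.toMonoidHom ≤ ⁅V, V⁆ := by
          rw [Subgroup.map_commutator]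
          exact Subgroup.commutator_mono hVmap hVmap
        have h1 : ⁅V, V⁆ = V := hmin _ hne inferInstance
          (fun s hs => h2 ⟨s, hs, rfl⟩) (Subgroup.commutator_le_left V V)
        haveI : Nontrivial V := (Subgroup.nontrivial_iff_ne_bot V).mpr hV0
        have h3 := Group.IsSolvable.commutator_lt_top_of_nontrivial (G := V)
        apply h3.ne
        have h4 : (commutator V).map V.subtype = ⁅V, V⁆ := by
          rw [commutator_def, Subgroup.map_commutator, ← MonoidHom.range_eq_map, Subgroup.range_subtype]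
        rw [h1] at h4
        apply Subgroup.map_injective V.subtype_injective
        rw [h4, ← MonoidHom.range_eq_map, Subgroup.range_subtype]
      have h1 := Subgroup.commutator_eq_bot_iff_le_centralizer.mp h0
      intro u hu v hv
      exact ((Subgroup.mem_centralizer_iff.mp (h1 hu)) v hv).symm
    -- `V` is elementary abelian
    have hVnt : Nontrivial V := (Subgroup.nontrivial_iff_ne_bot V).mpr hV0
    obtain ⟨q, hq, hqV⟩ := Nat.exists_prime_and_dvd (Finite.one_lt_card (α := V)).ne'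
    haveI : Fact q.Prime := ⟨hq⟩
    obtain ⟨x, hx⟩ := exists_prime_orderOf_dvd_card' q hqV
    let W : Subgroup G :=
      { carrier := {v | v ∈ V ∧ v ^ q = 1}
        mul_mem' := by
          rintro a b ⟨ha, ha'⟩ ⟨hb, hb'⟩
          refine ⟨V.mul_mem ha hb, ?_⟩
          have : Commute a b := hVab a ha b hb
          rw [this.mul_pow, ha', hb', one_mul]
        one_mem' := ⟨V.one_mem, one_pow _⟩
        inv_mem' := by
          rintro a ⟨ha, ha'⟩
          exact ⟨V.inv_mem ha, by rw [inv_pow, ha', inv_one]⟩ }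
    have hW : W = V := by
      refine hmin W ?_ ?_ ?_ (fun v hv => hv.1)
      · intro hb
        have h1 : (x : G) ∈ W := ⟨x.2, by
          have := pow_orderOf_eq_one x
          rw [hx] at this
          exact congrArg Subtype.val this⟩
        rw [hb] at h1
        have h2 : (x : G) = 1 := Subgroup.mem_bot.mp h1
        have h3 : x = 1 := Subtype.ext h2
        rw [h3, orderOf_one] at hx
        exact hq.one_lt.ne hx
      · refine ⟨fun v hv g => ⟨hVn.conj_mem v hv.1 g, ?_⟩⟩
        rw [conj_pow, hv.2, mul_one, mul_inv_cancel]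
      · intro s hs
        exact ⟨hVσ s hs.1, by rw [← map_pow, hs.2, map_one]⟩
    have hVq : ∀ v ∈ V, v ^ q = 1 := by
      intro v hv
      have : v ∈ W := hW ▸ hv
      exact this.2
    -- the module
    obtain ⟨M, _, ι', ρ, τ, h1, h2, h3, h4, h5, h6⟩ := exists_module_aut V hVab σ hVσ
    have hι0 : ι' 0 = 1 := by
      have := h1 0 0
      rw [add_zero] at this
      exact (mul_eq_left.mp this.symm)
    have hιn : ∀ (k : ℕ) (v : M), ι' (k • v) = ι' v ^ k := by
      intro k v
      induction k with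
      | zero => simp [hι0]
      | succ k ih => rw [succ_nsmul, h1, ih, pow_succ]
    have hM : ∀ v : M, q • v = 0 := by
      intro v
      apply h4
      rw [hιn, hVq _ (h2 v), hι0]
    haveI : Finite M := Finite.of_injective (fun v => (⟨ι' v, h2 v⟩ : V)) (by
      intro v w h
      exact h4 v w (congrArg Subtype.val h))
    have hτj : ∀ (j : ℕ) (v : M), ι' ((τ ^ j) v) = (σ ^ j) (ι' v) := by
      intro j v
      induction j with
      | zero => rfl
      | succ j ih =>
        rw [pow_succ', pow_succ', Module.End.mul_apply, h6, ih]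
        rfl
    have hτ : τ ^ (p ^ n) = 1 := by
      ext v
      apply h4
      rw [hτj, hσ]
      rfl
    have hτρ : ∀ g, τ * ρ g = ρ (σ g) * τ := by
      intro g
      ext v
      apply h4
      rw [Module.End.mul_apply, Module.End.mul_apply, h6, h5, h5, h6, map_mul, map_mul, map_inv]
    have hnorm : ∀ v, ∑ i ∈ Finset.range (p ^ n), (τ ^ i) v = 0 := by
      intro v
      set w := ∑ i ∈ Finset.range (p ^ n), (τ ^ i) v with hw
      have hτw : τ w = w := by
        rw [hw, map_sum]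
        have h7 : ∀ i, τ ((τ ^ i) v) = (τ ^ (i + 1)) v := by
          intro i
          rw [pow_succ']; rfl
        simp only [h7]
        have h8 := Finset.sum_range_succ (fun i => (τ ^ i) v) (p ^ n)
        have h9 := Finset.sum_range_succ' (fun i => (τ ^ i) v) (p ^ n)
        rw [h8] at h9
        simp only [hτ, pow_zero, Module.End.one_apply] at h9
        exact (add_right_cancel h9).symm
      have h7 : σ (ι' w) = ι' w := by rw [← h6, hτw]
      have h8 := hfpf _ h7
      exact h4 _ _ (h8.trans hι0.symm)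
    have hVdvd : q ∣ Nat.card G := hqV.trans (Subgroup.card_subgroup_dvd_card V)
    have hcop := coprime_of_fpf_pow hp σ hσ hfpf
    have hpq : p ≠ q := by
      rintro rfl
      exact hp.one_lt.ne' (Nat.Coprime.eq_one_of_dvd hcop hVdvd)
    -- the faithful quotient
    have hτsurj : ∀ w, ∃ v, τ v = w := by
      intro w
      refine ⟨(τ ^ (p ^ n - 1)) w, ?_⟩
      rw [← Module.End.mul_apply, ← pow_succ', Nat.sub_add_cancel hpnpos, hτ]
      rfl
    have hker : ∀ g, g ∈ ρ.ker ↔ σ g ∈ ρ.ker := by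
      refine inv_iff_of_pow_eq_one σ _ ?_ hpnpos hσ
      intro g hg
      rw [MonoidHom.mem_ker] at hg ⊢
      ext w
      obtain ⟨v, rfl⟩ := hτsurj w
      have h7 := congrArg (fun y : End ℤ M => y v) (hτρ g)
      simp only [Module.End.mul_apply, hg, Module.End.one_apply] at h7
      exact h7.symm
    let ρH : (G ⧸ ρ.ker) →* End ℤ M := QuotientGroup.lift ρ.ker ρ le_rfl
    have hρHmk : ∀ y : G, ρH (y : G ⧸ ρ.ker) = ρ y := fun y => rfl
    have hρH : Function.Injective ρH := by
      intro a b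
      induction a using QuotientGroup.induction_on with
      | H a =>
        induction b using QuotientGroup.induction_on with
        | H b =>
          intro h
          rw [hρHmk, hρHmk] at h
          rw [QuotientGroup.eq, MonoidHom.mem_ker, map_mul, ← h, ← map_mul, inv_mul_cancel, map_one]
    let σH : MulAut (G ⧸ ρ.ker) := autQuot σ ρ.ker hker
    have hσH : σH ^ (p ^ n) = 1 := by
      ext x
      induction x using QuotientGroup.induction_on with
      | H y =>
        rw [autQuot_pow_mk, hσ]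
        rfl
    have hfpfH : ∀ x : G ⧸ ρ.ker, σH x = x → x = 1 := by
      intro x
      induction x using QuotientGroup.induction_on with
      | H y =>
        intro h
        have h7 : ((σ y : G) : G ⧸ ρ.ker) = (y : G ⧸ ρ.ker) := h
        rw [QuotientGroup.eq_iff_div_mem, div_eq_mul_inv] at h7
        exact (QuotientGroup.eq_one_iff y).mpr
          (fpf_quot_generic σ hfpf ρ.ker (fun m hm => (hker m).mp hm) h7)
    have hτρH : ∀ x, τ * ρH x = ρH (σH x) * τ := by
      intro x
      induction x using QuotientGroup.induction_on with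
      | H y => exact hτρ y
    have hOq : pCore q (G ⧸ ρ.ker) = ⊥ := by
      let Q : Subgroup (G ⧸ ρ.ker) := pCore q (G ⧸ ρ.ker)
      have hQq : IsPGroup q Q := isPGroup_pCore q
      have hvne : ∃ v₁ : M, v₁ ≠ 0 := by
        obtain ⟨v₁, hv₁⟩ := h3 _ x.2
        refine ⟨v₁, ?_⟩
        rintro rfl
        rw [hι0] at hv₁
        have : x = 1 := Subtype.ext hv₁.symm
        rw [this, orderOf_one] at hx
        exact hq.one_lt.ne hx
      have hqM : q ∣ Nat.card M := by
        obtain ⟨v₁, hv₁⟩ := hvne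
        have h7 : addOrderOf v₁ = q := addOrderOf_eq_prime (hM v₁) hv₁
        rw [← h7]
        exact addOrderOf_dvd_natCard v₁
      obtain ⟨v₀, hv₀, hv₀fix⟩ := exists_fixed_vector hQq (ρH.comp Q.subtype) hqM
      let Ŵ : Subgroup G :=
        { carrier := {g | ∃ v, ι' v = g ∧ ∀ y ∈ Q, ρH y v = v}
          mul_mem' := by
            rintro a b ⟨v, rfl, hv⟩ ⟨w, rfl, hw⟩
            refine ⟨v + w, h1 v w, fun y hy => ?_⟩
            rw [map_add, hv y hy, hw y hy]
          one_mem' := ⟨0, hι0, fun y _ => map_zero _⟩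
          inv_mem' := by
            rintro a ⟨v, rfl, hv⟩
            refine ⟨-v, ?_, fun y hy => ?_⟩
            · have h7 := h1 v (-v)
              rw [add_neg_cancel, hι0] at h7
              exact eq_inv_of_mul_eq_one_right h7.symm
            · rw [map_neg, hv y hy] }
      have hŴV : Ŵ = V := by
        refine hmin Ŵ ?_ ?_ ?_ ?_
        · intro hb
          have h7 : ι' v₀ ∈ Ŵ := ⟨v₀, rfl, fun y hy => hv₀fix ⟨y, hy⟩⟩
          rw [hb] at h7
          exact hv₀ (h4 _ _ ((Subgroup.mem_bot.mp h7).trans hι0.symm))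
        · refine ⟨?_⟩
          rintro _ ⟨v, rfl, hv⟩ g
          refine ⟨ρ g v, h5 g v, fun y hy => ?_⟩
          set gb : G ⧸ ρ.ker := (g : G ⧸ ρ.ker) with hgb
          have hy' : gb⁻¹ * y * gb⁻¹⁻¹ ∈ Q := (pCore_normal (G := G ⧸ ρ.ker) q).conj_mem y hy gb⁻¹
          have e : y * gb = gb * (gb⁻¹ * y * gb⁻¹⁻¹) := by group
          calc ρH y (ρ g v) = ρH (y * gb) v := by rw [map_mul]; rfl
            _ = ρH (gb * (gb⁻¹ * y * gb⁻¹⁻¹)) v := by rw [e]
            _ = ρ g (ρH (gb⁻¹ * y * gb⁻¹⁻¹) v) := by rw [map_mul]; rfl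
            _ = ρ g v := by rw [hv _ hy']
        · rintro _ ⟨v, rfl, hv⟩
          refine ⟨τ v, h6 v, fun y hy => ?_⟩
          have hy' : σH⁻¹ y ∈ Q :=
            (Subgroup.characteristic_iff_le_comap.mp (instPCoreCharacteristic q)) σH⁻¹ hy
          have h7 : σH (σH⁻¹ y) = y := by
            show (σH * σH⁻¹) y = y
            rw [mul_inv_cancel]; rfl
          have h8 := congrArg (fun z : End ℤ M => z v) (hτρH (σH⁻¹ y))
          simp only [Module.End.mul_apply, h7, hv _ hy'] at h8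
          exact h8.symm
        · rintro _ ⟨v, rfl, -⟩
          exact h2 v
      have hfix : ∀ v : M, ∀ y ∈ Q, ρH y v = v := by
        intro v y hy
        have h7 : ι' v ∈ Ŵ := hŴV ▸ h2 v
        obtain ⟨v', h8, h9⟩ := h7
        rw [← h4 _ _ h8]
        exact h9 y hy
      rw [eq_bot_iff]
      intro y hy
      rw [Subgroup.mem_bot]
      apply hρH
      rw [map_one]
      ext v
      exact hfix v y hy
    have hσHtriv := sigma_trivial_of_faithful (H := G ⧸ ρ.ker) inferInstance hp hp2 hq hn hpq hM ρH hρH σH hσH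
      hfpfH τ hτρH hτ hnorm hOq
    have hkerg : ∀ y, (σ ^ (p ^ (n - 1))) y * y⁻¹ ∈ ρ.ker := by
      intro y
      have h7 := autQuot_pow_mk σ ρ.ker hker (p ^ (n - 1)) y
      have h8 : (σH ^ (p ^ (n - 1))) (y : G ⧸ ρ.ker) = (y : G ⧸ ρ.ker) := by
        rw [hσHtriv]; rfl
      have h9 : (((σ ^ (p ^ (n - 1))) y : G) : G ⧸ ρ.ker) = (y : G ⧸ ρ.ker) := h7.symm.trans h8
      rw [QuotientGroup.eq_iff_div_mem, div_eq_mul_inv] at h9
      exact h9
    -- the quotient by `V`
    let σV : MulAut (G ⧸ V) := autQuot σ V hVinv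
    have hσV : σV ^ (p ^ n) = 1 := by
      ext x
      induction x using QuotientGroup.induction_on with
      | H y =>
        rw [autQuot_pow_mk, hσ]
        rfl
    have hfpfV : ∀ x : G ⧸ V, σV x = x → x = 1 := by
      intro x
      induction x using QuotientGroup.induction_on with
      | H y =>
        intro h
        have h7 : ((σ y : G) : G ⧸ V) = (y : G ⧸ V) := h
        rw [QuotientGroup.eq_iff_div_mem, div_eq_mul_inv] at h7
        exact (QuotientGroup.eq_one_iff y).mpr (fpf_quot_generic σ hfpf V hVσ h7)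
    have hlt : Nat.card (G ⧸ V) < N := by
      rw [← hcard]
      have h7 := V.card_mul_index
      have h8 : 2 ≤ Nat.card V := Finite.one_lt_card
      have h9 : 0 < V.index := Nat.pos_of_ne_zero Subgroup.index_ne_zero_of_finite
      rw [Subgroup.index] at h7 h9
      nlinarith
    have hIH := IH _ hlt (G ⧸ V) rfl inferInstance σV hσV hfpfV
    let K' : Subgroup G := (fittingSubgroup (G ⧸ V)).comap (QuotientGroup.mk' V) ⊓ ρ.ker
    have hK'n : K'.Normal := Subgroup.normal_inf_normal _ _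
    let ψ : K' →* fittingSubgroup (G ⧸ V) :=
      ((QuotientGroup.mk' V).comp K'.subtype).codRestrict _ (fun k => k.2.1)
    have hψker : ψ.ker ≤ Subgroup.center K' := by
      intro k hk
      have h7 : ((k : G) : G ⧸ V) = 1 := congrArg Subtype.val (MonoidHom.mem_ker.mp hk)
      have hkV : (k : G) ∈ V := (QuotientGroup.eq_one_iff _).mp h7
      rw [Subgroup.mem_center_iff]
      intro y
      apply Subtype.ext
      show (y : G) * k = k * y
      obtain ⟨v, hv⟩ := h3 k hkV
      have hy : ρ (y : G) = 1 := MonoidHom.mem_ker.mp y.2.2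
      have h8 := h5 (y : G) v
      rw [hy, Module.End.one_apply, hv] at h8
      calc (y : G) * k = (y : G) * k * (y : G)⁻¹ * y := by group
        _ = k * y := by rw [← h8]
    haveI : Group.IsNilpotent (fittingSubgroup (G ⧸ V)) := isNilpotent_fittingSubgroup
    have hnil : Group.IsNilpotent K' := Subgroup.isNilpotent_of_ker_le_center ψ hψker
    apply le_fittingSubgroup hK'n hnil
    refine ⟨?_, hkerg g⟩
    have h7 := hIH (g : G ⧸ V)
    rw [autQuot_pow_mk] at h7
    exact h7

end Cfsg.Agent.Lib.HHMain
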