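import Mathlib
import Cfsg.Agent.Lib.WardCore
import Cfsg.Agent.Lib.HHMain

/-!
# The nonabelian step of Ward's theorem
-/

set_option autoImplicit false
set_option linter.unusedSectionVars false
set_option linter.unusedVariables false
set_option linter.style.haveILetI false

namespace Cfsg.Agent.Lib.WardNonab

open Module Cfsg.Agent.Lib.HHCore Cfsg.Agent.Lib.HHChar Cfsg.Agent.Lib.HHFermat
  Cfsg.Agent.Lib.WardSym Cfsg.Agent.Lib.WardCore
open scoped commutatorElement

universe u v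

/-- Restriction of an action to an invariant subgroup. -/
def restrictHom {A R : Type*} [Group A] [Group R] (α : A →* MulAut R) (S : Subgroup R)
    (hS : ∀ x s, s ∈ S → α x s ∈ S) : A →* MulAut S where
  toFun x := restrictAut (α x) S (fun s => ⟨hS x s, fun h => by
    have h1 := hS x⁻¹ _ h
    rwa [← MulAut.mul_apply, ← map_mul, inv_mul_cancel, map_one, MulAut.one_apply] at h1⟩)
  map_one' := by
    apply MulEquiv.ext
    intro s
    apply Subtype.ext
    show α 1 (s : R) = s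
    rw [map_one]; rfl
  map_mul' := by
    intro x y
    apply MulEquiv.ext
    intro s
    apply Subtype.ext
    show α (x * y) (s : R) = α x (α y s)
    rw [map_mul]; rfl

theorem restrictHom_coe {A R : Type*} [Group A] [Group R] (α : A →* MulAut R) (S : Subgroup R)
    (hS : ∀ x s, s ∈ S → α x s ∈ S) (x : A) (s : S) : ((restrictHom α S hS x s : S) : R) = α x s := rfl

/-- The elementary abelian quotient as a module over the prime field. -/
theorem exists_quot_module {R : Type u} [Group R] [Finite R] {r : ℕ} [Fact r.Prime] (N : Subgroup R)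
    (hc : ∀ s t : R, ⁅s, t⁆ ∈ N) (hpow : ∀ s : R, s ^ r ∈ N) :
    ∃ (T : Type u) (_ : AddCommGroup T) (_ : Module (ZMod r) T) (_ : Finite T) (π : R → T),
      (∀ s t, π (s * t) = π s + π t) ∧ (∀ s, π s = 0 ↔ s ∈ N) ∧ Function.Surjective π ∧
        Nat.card T = N.index := by
  haveI hN : N.Normal := by
    refine ⟨fun z hz g => ?_⟩
    have h1 : g * z * g⁻¹ = ⁅g, z⁆ * z := by simp [commutatorElement_def]
    rw [h1]
    exact N.mul_mem (hc g z) hz
  letI inst : CommGroup (R ⧸ N) :=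
    { (QuotientGroup.Quotient.group N) with
      mul_comm := by
        intro a b
        induction a using QuotientGroup.induction_on with
        | H a =>
          induction b using QuotientGroup.induction_on with
          | H b =>
            rw [← QuotientGroup.mk_mul, ← QuotientGroup.mk_mul, QuotientGroup.eq]
            have h := N.inv_mem (hc b a)
            have h1 : (a * b)⁻¹ * (b * a) = ⁅b⁻¹, a⁻¹⁆ := by
              simp [commutatorElement_def, mul_assoc]
            rw [h1]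
            exact hc _ _ }
  let T := Additive (R ⧸ N)
  have hT : ∀ x : T, r • x = 0 := by
    intro x
    induction x using Additive.rec with
    | _ a =>
      induction a using QuotientGroup.induction_on with
      | H a =>
        show Additive.ofMul (((a : R ⧸ N)) ^ r) = 0
        rw [← QuotientGroup.mk_pow]
        have h : ((a ^ r : R) : R ⧸ N) = 1 := (QuotientGroup.eq_one_iff _).mpr (hpow a)
        rw [h]
        rfl
  refine ⟨T, inferInstance, AddCommGroup.zmodModule hT, inferInstanceAs (Finite (Additive (R ⧸ N))),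
    fun s => Additive.ofMul (s : R ⧸ N), ?_, ?_, ?_, ?_⟩
  · intro s t
    rfl
  · intro s
    show Additive.ofMul (s : R ⧸ N) = 0 ↔ s ∈ N
    rw [← QuotientGroup.eq_one_iff]
    rfl
  · intro x
    induction x using Additive.rec with
    | _ a =>
      induction a using QuotientGroup.induction_on with
      | H a => exact ⟨a, rfl⟩
  · show Nat.card (Additive (R ⧸ N)) = N.index
    rw [Subgroup.index]
    exact Nat.card_congr (Additive.toMul)

section Op

variable {R : Type*} [Group R] {T : Type*} [AddCommGroup T] {r : ℕ} [Fact r.Prime] [Module (ZMod r) T]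
  {π : R → T}

/-- An endomorphism on the quotient. -/
theorem exists_op (hπ : ∀ s t, π (s * t) = π s + π t) (hs : Function.Surjective π) (σ : R →* R)
    (hσ : ∀ s, π s = 0 → π (σ s) = 0) : ∃ f : End (ZMod r) T, ∀ s, f (π s) = π (σ s) := by
  classical
  have h1 : π 1 = 0 := by
    have h2 := hπ 1 1
    rw [mul_one] at h2
    exact left_eq_add.mp h2
  have hinv : ∀ s, π s⁻¹ = - π s := by
    intro s
    have h2 := hπ s⁻¹ s
    rw [inv_mul_cancel, h1] at h2
    exact eq_neg_of_add_eq_zero_left h2.symm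
  have hwd : ∀ s t, π s = π t → π (σ s) = π (σ t) := by
    intro s t h
    have h2 : π (s⁻¹ * t) = 0 := by
      rw [hπ, hinv, h, neg_add_cancel]
    have h3 := hσ _ h2
    rw [map_mul, map_inv, hπ, hinv] at h3
    exact (neg_add_eq_zero.mp h3)
  choose sec hsec using hs
  let f0 : T →+ T := AddMonoidHom.mk' (fun t => π (σ (sec t))) (by
    intro a b
    show π (σ (sec (a + b))) = π (σ (sec a)) + π (σ (sec b))
    rw [← hπ, ← map_mul]
    apply hwd
    rw [hsec, hπ, hsec, hsec])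
  refine ⟨f0.toZModLinearMap r, fun s => ?_⟩
  show π (σ (sec (π s))) = π (σ s)
  exact hwd _ _ (hsec _)

/-- A representation on the quotient. -/
theorem exists_op_hom {Y : Type*} [Group Y] (hπ : ∀ s t, π (s * t) = π s + π t) (hs : Function.Surjective π)
    (β : Y →* MulAut R) (hβ : ∀ y s, π s = 0 → π (β y s) = 0) :
    ∃ f : Y →* End (ZMod r) T, ∀ y s, f y (π s) = π (β y s) := by
  classical
  have h0 := fun y => exists_op (r := r) hπ hs (β y).toMonoidHom (hβ y)
  choose f hf using h0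
  refine ⟨{ toFun := f, map_one' := ?_, map_mul' := ?_ }, hf⟩
  · ext t
    obtain ⟨s, rfl⟩ := hs t
    rw [hf]
    simp
  · intro a c
    ext t
    obtain ⟨s, rfl⟩ := hs t
    rw [Module.End.mul_apply, hf, hf, hf]
    simp

end Op

/-- The index of the radical of a representation is a square. -/
theorem HHRep_index_sq {𝔽 : Type u} [Field 𝔽] [IsAlgClosed 𝔽] {U R : Type*} [AddCommGroup U] [Module 𝔽 U]
    [FiniteDimensional 𝔽 U] [Nontrivial U] [Group R] [Fintype R] (X : HHRep 𝔽 U R)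
    (hR : (Fintype.card R : 𝔽) ≠ 0) : ∃ n : ℕ, X.radical.index = n ^ 2 := by
  have := X.isSimpleRing_B hR
  obtain ⟨D, hD, ⟨Φ⟩⟩ := IsSimpleRing.exists_algEquiv_matrix_of_isAlgClosed 𝔽 X.B
  refine ⟨D, ?_⟩
  rw [← X.finrank_B hR, Φ.toLinearEquiv.finrank_eq, Module.finrank_matrix]
  simp [sq]

theorem card_ker_mul_range {F M : Type*} [Field F] [AddCommGroup M] [Module F M] [Finite M] (h : End F M) :
    Nat.card M = Nat.card (LinearMap.ker h) * Nat.card (LinearMap.range h) := by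
  have h1 := AddSubgroup.card_eq_card_quotient_mul_card_addSubgroup (LinearMap.ker h).toAddSubgroup
  have h2 : Nat.card (M ⧸ (LinearMap.ker h).toAddSubgroup) = Nat.card (LinearMap.range h) :=
    Nat.card_congr (LinearMap.quotKerEquivRange h).toEquiv
  rw [h1, h2, mul_comm]
  rfl

section Claim

variable {K : Type u} [Field K] [IsAlgClosed K] {U : Type*} [AddCommGroup U] [Module K U] [FiniteDimensional K U]
  {R : Type v} [Group R] [Fintype R] {A : Type*} [CommGroup A] [Fintype A]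
  {Y : Type*} [Group Y] [Fintype Y]

/-- The central character of a commutator vanishes on the twisted elements. -/
theorem claim_mu {p r s : ℕ} (hp : p.Prime) (hr : r.Prime) (hs : s.Prime) (hpr : p ≠ r) (hsr : s ≠ r)
    (hA : ∀ x : A, x ^ p = 1) (hcard : Nat.card A = p ^ 2)
    (hYs : IsPGroup s Y) (hpY : ¬ p ∣ Nat.card Y) (hpR : ¬ p ∣ Nat.card R)
    (hpK : (p : K) ≠ 0) (hRK : (Fintype.card R : K) ≠ 0)
    (ρ : R →* End K U) (α : A →* MulAut R) (τ : A →* End K U)
    (hτρ : ∀ x s, τ x * ρ s = ρ (α x s) * τ x) (hsum : ∑ x, τ x = 0)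
    (hfixR : ∀ s, (∀ x, α x s = s) → s = 1)
    (β : Y →* MulAut R) (α' : A →* MulAut Y)
    (hcompat : ∀ x y s, β (α' x y) (α x s) = α x (β y s))
    (hcomm : ∀ b : A, b ≠ 1 → ∀ s, α b s = s → ∀ y, α' b y = y → β y s = s)
    (Z : Subgroup R) (hZc : ∀ z ∈ Z, ∀ s, z * s = s * z) (hZα : ∀ x z, z ∈ Z → α x z ∈ Z)
    (hcommZ : ∀ s t : R, ⁅s, t⁆ ∈ Z) (hpowZ : ∀ s : R, s ^ r ∈ Z)
    (hβZ : ∀ y, ∀ z ∈ Z, β y z = z)
    (μ : Z →* K) (hμ : wt (ρ.comp Z.subtype) μ ≠ ⊥) (hμ1 : μ ≠ 1) (y : Y) (s₀ t₀ : R) :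
    μ ⟨⁅β y s₀ * s₀⁻¹, t₀⁆, hcommZ _ _⟩ = 1 := by
  classical
  haveI : Fact r.Prime := ⟨hr⟩
  haveI : Fact p.Prime := ⟨hp⟩
  haveI : Fact s.Prime := ⟨hs⟩
  have hcardsub : ∀ (S : Subgroup R) [Fintype S], (Fintype.card S : K) ≠ 0 := by
    intro S _ h0
    apply hRK
    have h1 := S.card_mul_index
    rw [Nat.card_eq_fintype_card, Nat.card_eq_fintype_card] at h1
    rw [← h1, Nat.cast_mul, h0, zero_mul]
  let _ : ∀ S : Subgroup R, Fintype S := fun S => Fintype.ofFinite _
  let ρZ : Z →* End K U := ρ.comp Z.subtype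
  let αZ : A →* MulAut Z := restrictHom α Z hZα
  have hτρZ : ∀ x (z : Z), τ x * ρZ z = ρZ (αZ x z) * τ x := fun x z => hτρ x z
  have hZK : (Fintype.card Z : K) ≠ 0 := hcardsub Z
  have hpZ : ¬ p ∣ Nat.card Z := fun h => hpR (h.trans (Subgroup.card_subgroup_dvd_card _))
  have hne : stab αZ μ ≠ ⊤ := by
    intro h
    apply hμ1
    ext z
    exact trivial_of_stab_top hp hA hpZ
      (fun z hz => Subtype.ext (hfixR z fun x => congrArg Subtype.val (hz x))) h z
  obtain ⟨b, hb1, hbs⟩ := exists_stab hZK hτρZ hsum hμ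
  have hnormZ : ∀ u ∈ wt ρZ μ, ∑ j ∈ Finset.range p, (τ b ^ j) u = 0 :=
    fun u hu => norm_on_wt hp hA hcard hZK hτρZ hsum hne hb1 hbs hu
  set g := τ b with hg
  set γ : MulAut R := α b with hγ
  have hgρ : ∀ s, g * ρ s = ρ (γ s) * g := hτρ b
  have hgp : g ^ p = 1 := by rw [hg, ← map_pow, hA, map_one]
  have hγp : γ ^ p = 1 := by rw [hγ, ← map_pow, hA, map_one]
  have hμγ : ∀ z (hz : z ∈ Z), μ ⟨γ z, hZα b z hz⟩ = μ ⟨z, hz⟩ := fun z hz => hbs ⟨z, hz⟩
  -- the subspace `U₁`
  let U₁ : Submodule K U := wt ρZ μ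
  have hU₁inv : ∀ s, ∀ u ∈ U₁, ρ s u ∈ U₁ := by
    intro s u hu z
    show ρ (z : R) (ρ s u) = μ z • ρ s u
    have h1 : ρ (z : R) * ρ s = ρ s * ρ (z : R) := by rw [← map_mul, ← map_mul, hZc z z.2 s]
    have h2 := congrArg (fun y : End K U => y u) h1
    simp only [Module.End.mul_apply] at h2
    rw [h2]
    have h3 : ρ (z : R) u = μ z • u := hu z
    rw [h3, map_smul]
  have hU₁bot : U₁ ≠ ⊥ := hμ
  have hU₁nt : Nontrivial U₁ := Submodule.nontrivial_iff_ne_bot.mpr hU₁bot
  let ω : R → R → K := fun s t => μ ⟨⁅s, t⁆, hcommZ s t⟩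
  have hωrel : ∀ s t, ∀ w ∈ U₁, ρ s (ρ t w) = ω s t • ρ t (ρ s w) := by
    intro s t w hw
    have h1 : s * t = ⁅s, t⁆ * (t * s) := by simp [commutatorElement_def]
    have h2 : ρ s (ρ t w) = ρ (s * t) w := by rw [map_mul]; rfl
    have h3 : ρ t (ρ s w) = ρ (t * s) w := by rw [map_mul]; rfl
    rw [h2, h3, h1, map_mul, Module.End.mul_apply]
    exact hU₁inv (t * s) w hw ⟨⁅s, t⁆, hcommZ s t⟩
  let X₁ : CommRep K U₁ R :=
    { ρ := restrictRep ρ U₁ hU₁inv
      ω := ω
      hω := by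
        intro s t
        ext v
        exact hωrel s t v v.2 }
  let Â : Subgroup R := X₁.radical
  have hmemÂ : ∀ s, s ∈ Â ↔ ∀ t, ω s t = 1 := fun s => Iff.rfl
  haveI hÂnormal : Â.Normal := X₁.radical_normal
  have hZÂ : Z ≤ Â := by
    intro z hz
    rw [hmemÂ]
    intro t
    show μ ⟨⁅z, t⁆, _⟩ = 1
    have h1 : ⁅z, t⁆ = 1 := commutatorElement_eq_one_iff_mul_comm.mpr (hZc z hz t)
    have h2 : (⟨⁅z, t⁆, hcommZ z t⟩ : Z) = 1 := Subtype.ext h1
    rw [h2, map_one]
  have hωγ : ∀ s t, ω (γ s) (γ t) = ω s t := by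
    intro s t
    show μ ⟨⁅γ s, γ t⁆, _⟩ = μ ⟨⁅s, t⁆, _⟩
    rw [← hμγ ⁅s, t⁆ (hcommZ s t)]
    congr 1
    apply Subtype.ext
    exact (map_commutatorElement γ s t).symm
  have hÂγ : ∀ s, s ∈ Â ↔ γ s ∈ Â := by
    intro s
    rw [hmemÂ, hmemÂ]
    constructor
    · intro h t
      obtain ⟨t', rfl⟩ := γ.surjective t
      rw [hωγ]; exact h t'
    · intro h t
      rw [← hωγ]; exact h _
  have hωβ : ∀ (y : Y) s t, ω (β y s) (β y t) = ω s t := by
    intro y s t
    show μ ⟨⁅β y s, β y t⁆, _⟩ = μ ⟨⁅s, t⁆, _⟩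
    congr 1
    apply Subtype.ext
    show ⁅β y s, β y t⁆ = ⁅s, t⁆
    rw [← map_commutatorElement, hβZ y _ (hcommZ s t)]
  have hÂβ : ∀ (y : Y) s, s ∈ Â → β y s ∈ Â := by
    intro y s hs
    rw [hmemÂ] at hs ⊢
    intro t
    obtain ⟨t', rfl⟩ := (β y).surjective t
    rw [hωβ]; exact hs t'
  -- the character of `Â`
  let ρL : Â →* End K U := ρ.comp Â.subtype
  have hcommL : ∀ a b : Â, ∀ u ∈ U₁, ρL a (ρL b u) = ρL b (ρL a u) := by
    intro a b u hu
    show ρ a (ρ b u) = ρ b (ρ a u)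
    rw [hωrel a b u hu, (hmemÂ a).mp a.2 b, one_smul]
  obtain ⟨lam, u₂, hu₂U₁, hu₂0, hu₂⟩ :=
    exists_common_eigen ρL U₁ hU₁bot (fun a u hu => hU₁inv a u hu) hcommL
  let γL : MulAut Â := restrictAut γ Â hÂγ
  have hγLp : γL ^ p = 1 := by
    ext a
    rw [restrictAut_pow_coe, hγp]; rfl
  obtain ⟨t₂, ht₂0, ht₂K, hper₂⟩ := exists_period γL hp.pos hγLp lam
  have hgL : ∀ a : Â, g * ρL a = ρL (γL a) * g := fun a => hgρ a
  let U₂ : Submodule K U := wt ρL lam
  have hlamμ : ∀ z (hz : z ∈ Z), lam ⟨z, hZÂ hz⟩ = μ ⟨z, hz⟩ := by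
    intro z hz
    have h1 : ρ z u₂ = lam ⟨z, hZÂ hz⟩ • u₂ := hu₂ ⟨z, hZÂ hz⟩
    have h2 : ρ z u₂ = μ ⟨z, hz⟩ • u₂ := hu₂U₁ ⟨z, hz⟩
    exact smul_left_injective K hu₂0 (h1.symm.trans h2)
  have hU₂U₁ : U₂ ≤ U₁ := by
    intro w hw z
    show ρ (z : R) w = μ z • w
    have h1 : ρ (z : R) w = lam ⟨z, hZÂ z.2⟩ • w := hw ⟨z, hZÂ z.2⟩
    rw [h1, hlamμ z z.2]
  have ht₂1 : t₂ = 1 := by
    rcases (Nat.dvd_prime hp).mp ht₂K with h | h
    · exact h
    · exfalso
      have h1 : ∑ i ∈ Finset.range 1, ((g ^ t₂) ^ i) u₂ = 0 := by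
        apply descent (hcardsub Â) hgL ht₂0 hper₂ hu₂
        rw [h, mul_one]
        exact hnormZ u₂ hu₂U₁
      simp at h1
      exact hu₂0 h1
  have hlamγ : ∀ a : Â, lam (γL a) = lam a := by
    intro a
    have h1 := (hper₂ 1).mpr (by rw [ht₂1])
    simpa using h1 a
  have hU₂inv : ∀ s, ∀ u ∈ U₂, ρ s u ∈ U₂ := by
    intro s u hu a
    show ρ (a : R) (ρ s u) = lam a • ρ s u
    have h1 := hωrel a s u (hU₂U₁ hu)
    rw [h1, (hmemÂ a).mp a.2 s, one_smul]
    have h2 : ρ (a : R) u = lam a • u := hu a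
    rw [h2, map_smul]
  have hgU₂ : ∀ u ∈ U₂, g u ∈ U₂ := by
    intro u hu
    have h1 := pow_mem_wt (t := 1) hgL (fun a => by simpa using hlamγ a) hu
    simpa using h1
  have hU₂bot : U₂ ≠ ⊥ := by
    intro h
    have : u₂ ∈ U₂ := hu₂
    rw [h] at this
    exact hu₂0 ((Submodule.mem_bot _).mp this)
  have hU₂nt : Nontrivial U₂ := Submodule.nontrivial_iff_ne_bot.mpr hU₂bot
  let X₂ : HHRep K U₂ R :=
    { ρ := restrictRep ρ U₂ hU₂inv
      ω := ω
      hω := by
        intro s t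
        ext v
        exact hωrel s t v (hU₂U₁ v.2)
      hscal := by
        intro s hs
        refine ⟨lam ⟨s, hs⟩, ?_⟩
        ext v
        exact v.2 ⟨s, hs⟩ }
  have hX₂rad : X₂.radical = Â := by
    ext s
    exact Iff.rfl
  let g₂' : End K U₂ := g.restrict hgU₂
  have hg₂' : ∀ s, g₂' * X₂.ρ s = X₂.ρ (γ s) * g₂' := by
    intro s
    ext v
    have h1 := congrArg (fun y : End K U => y (v : U)) (hgρ s)
    exact h1
  have hg₂'p : g₂' ^ p = 1 := by
    ext v
    rw [restrict_pow_coe, hgp]; rfl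
  have hg₂'norm : ∑ j ∈ Finset.range p, g₂' ^ j = 0 := by
    ext v
    have h1 := hnormZ v (hU₂U₁ v.2)
    rw [LinearMap.sum_apply, AddSubmonoidClass.coe_finsetSum]
    refine Eq.trans (Finset.sum_congr rfl fun j _ => ?_) h1
    exact restrict_pow_coe g U₂ hgU₂ j v
  -- the module
  have hcÂ : ∀ s t : R, ⁅s, t⁆ ∈ Â := fun s t => hZÂ (hcommZ s t)
  have hpÂ : ∀ s : R, s ^ r ∈ Â := fun s => hZÂ (hpowZ s)
  obtain ⟨T, _, _, _, π, hπ1, hπ2, hπ3, hπ4⟩ := exists_quot_module (r := r) Â hcÂ hpÂ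
  have hπ1' : π 1 = 0 := (hπ2 1).mpr Â.one_mem
  have hπinv : ∀ s, π s⁻¹ = - π s := by
    intro s
    have h2 := hπ1 s⁻¹ s
    rw [inv_mul_cancel, hπ1'] at h2
    exact eq_neg_of_add_eq_zero_left h2.symm
  have hπeq : ∀ s t, π s = π t ↔ s⁻¹ * t ∈ Â := by
    intro s t
    rw [← hπ2, hπ1, hπinv]
    constructor
    · intro h
      rw [h, neg_add_cancel]
    · intro h
      exact (neg_add_eq_zero.mp h)
  have hωπ : ∀ s s' t t', π s = π s' → π t = π t' → ω s t = ω s' t' := by
    intro s s' t t' h1 h2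
    have h3 := X₂.toCommRep.omega_congr_right s (t := t) (t' := t') (by
      rw [hX₂rad]; exact (hπeq _ _).mp h2)
    have h4 := X₂.toCommRep.omega_swap s t'
    have h5 := X₂.toCommRep.omega_swap s' t'
    have h6 := X₂.toCommRep.omega_congr_right t' (t := s) (t' := s') (by
      rw [hX₂rad]; exact (hπeq _ _).mp h1)
    have h7 : X₂.ω s t = X₂.ω s' t' := by
      rw [h3]
      have h8 : X₂.ω s t' = (X₂.ω t' s)⁻¹ := by rw [h4, inv_inv]
      have h9 : X₂.ω s' t' = (X₂.ω t' s')⁻¹ := by rw [h5, inv_inv]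
      rw [h8, h9, h6]
    exact h7
  choose sec hsec using hπ3
  let P : SymP T K :=
    { f := fun a c => ω (sec a) (sec c)
      ne := fun a c => X₂.toCommRep.omega_ne_zero _ _
      addl := by
        intro a a' c
        have h1 : π (sec a * sec a') = π (sec (a + a')) := by rw [hπ1, hsec, hsec, hsec]
        have h2 := hωπ _ _ (sec c) (sec c) h1 rfl
        show ω (sec (a + a')) (sec c) = ω (sec a) (sec c) * ω (sec a') (sec c)
        rw [← h2]
        exact X₂.toCommRep.omega_mul_left _ _ _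
      addr := by
        intro a c c'
        have h1 : π (sec c * sec c') = π (sec (c + c')) := by rw [hπ1, hsec, hsec, hsec]
        have h2 := hωπ (sec a) (sec a) _ _ rfl h1
        show ω (sec a) (sec (c + c')) = ω (sec a) (sec c) * ω (sec a) (sec c')
        rw [← h2]
        exact X₂.toCommRep.omega_mul_right _ _ _ }
  have hPπ : ∀ s t, P.f (π s) (π t) = ω s t := fun s t => hωπ _ _ _ _ (hsec _) (hsec _)
  have hnd : ∀ a, (∀ t, P.f a t = 1) → a = 0 := by
    intro a ha
    rw [← hsec a, hπ2, hmemÂ]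
    intro t
    have h1 := ha (π t)
    show ω (sec a) t = 1
    rw [← h1]
    exact (hωπ _ _ _ _ rfl (hsec _)).symm
  have hanti : ∀ a c, P.f c a = (P.f a c)⁻¹ := fun a c => X₂.toCommRep.omega_swap _ _
  have hSq : ∀ S : Submodule (ZMod r) T, (∀ a ∈ S, (∀ c ∈ S, P.f a c = 1) → a = 0) →
      ∃ n, Nat.card S = n ^ 2 := by
    intro S hS
    let Ŝ : Subgroup R :=
      { carrier := {s | π s ∈ S}
        mul_mem' := by
          intro a c ha hc
          show π (a * c) ∈ S
          rw [hπ1]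
          exact S.add_mem ha hc
        one_mem' := by
          show π 1 ∈ S
          rw [hπ1']
          exact S.zero_mem
        inv_mem' := by
          intro a ha
          show π a⁻¹ ∈ S
          rw [hπinv]
          exact S.neg_mem ha }
    let X₃ : HHRep K U₂ Ŝ :=
      { ρ := X₂.ρ.comp Ŝ.subtype
        ω := fun a c => ω a c
        hω := fun a c => X₂.hω a c
        hscal := by
          intro a ha
          apply X₂.hscal
          have h1 : (a : R) ∈ Â := by
            rw [← hπ2]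
            apply hS _ a.2
            intro c hc
            have h2 : sec c ∈ Ŝ := by
              show π (sec c) ∈ S
              rw [hsec]; exact hc
            have h3 := ha ⟨sec c, h2⟩
            rw [← hsec c, hPπ]
            exact h3
          exact h1 }
    obtain ⟨n, hn⟩ := HHRep_index_sq X₃ (hcardsub Ŝ)
    refine ⟨n, ?_⟩
    rw [← hn]
    -- the index of the radical
    let ψ : Ŝ →* Multiplicative S :=
      { toFun := fun a => Multiplicative.ofAdd ⟨π a, a.2⟩
        map_one' := by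
          show Multiplicative.ofAdd (⟨π 1, _⟩ : S) = Multiplicative.ofAdd 0
          congr 1
          exact Subtype.ext hπ1'
        map_mul' := by
          intro a c
          show Multiplicative.ofAdd (⟨π ((a : R) * c), _⟩ : S) = Multiplicative.ofAdd ((⟨π a, a.2⟩ : S) + ⟨π c, c.2⟩)
          congr 1
          exact Subtype.ext (hπ1 _ _) }
    have hψs : Function.Surjective ψ := by
      intro c
      have h2 : sec (Multiplicative.toAdd c).1 ∈ Ŝ := by
        show π (sec _) ∈ S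
        rw [hsec]; exact (Multiplicative.toAdd c).2
      refine ⟨⟨_, h2⟩, ?_⟩
      apply Multiplicative.toAdd.injective
      apply Subtype.ext
      exact hsec _
    have hψk : ψ.ker = X₃.radical := by
      ext a
      rw [MonoidHom.mem_ker]
      constructor
      · intro h
        have h1 : π (a : R) = 0 := by
          have h2 := congrArg (fun c => ((Multiplicative.toAdd c : S) : T)) h
          exact h2
        have h2 : (a : R) ∈ Â := (hπ2 _).mp h1
        intro c
        exact (hmemÂ _).mp h2 _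
      · intro h
        have h1 : (a : R) ∈ Â := by
          rw [← hπ2]
          apply hS _ a.2
          intro c hc
          have h2 : sec c ∈ Ŝ := by
            show π (sec c) ∈ S
            rw [hsec]; exact hc
          have h3 := h ⟨sec c, h2⟩
          rw [← hsec c, hPπ]
          exact h3
        apply Multiplicative.toAdd.injective
        apply Subtype.ext
        exact (hπ2 _).mpr h1
    rw [← hψk, Subgroup.index_ker, MonoidHom.range_eq_top.mpr hψs, Subgroup.card_top]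
    rfl
  -- operators on the module
  obtain ⟨gT, hgT⟩ := exists_op (r := r) hπ1 (fun a => ⟨sec a, hsec a⟩) γ.toMonoidHom
    (by
      intro s hs
      rw [hπ2] at hs ⊢
      exact (hÂγ s).mp hs)
  have hgT' : ∀ s, gT (π s) = π (γ s) := hgT
  obtain ⟨βT, hβT⟩ := exists_op_hom (r := r) hπ1 (fun a => ⟨sec a, hsec a⟩) β
    (by
      intro y s hs
      rw [hπ2] at hs ⊢
      exact hÂβ y s hs)
  have hgTj : ∀ (j : ℕ) s, (gT ^ j) (π s) = π ((γ ^ j) s) := by
    intro j s
    induction j with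
    | zero => rfl
    | succ j ih =>
      rw [pow_succ', pow_succ', Module.End.mul_apply, ih, hgT']
      rfl
  have hgTp : gT ^ p = 1 := by
    ext a
    obtain ⟨s, rfl⟩ : ∃ s, π s = a := ⟨sec a, hsec a⟩
    rw [hgTj, hγp]
    rfl
  have hgP : ∀ a c, P.f (gT a) (gT c) = P.f a c := by
    intro a c
    rw [← hsec a, ← hsec c, hgT', hgT', hPπ, hPπ, hωγ]
  have hβP : ∀ (y : Y) a c, P.f (βT y a) (βT y c) = P.f a c := by
    intro y a c
    rw [← hsec a, ← hsec c, hβT, hβT, hPπ, hPπ, hωβ]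
  -- the count
  let π₀ : Equiv.Perm T :=
    { toFun := gT
      invFun := fun a => (gT ^ (p - 1)) a
      left_inv := by
        intro a
        show (gT ^ (p - 1)) (gT a) = a
        rw [← Module.End.mul_apply, ← pow_succ, Nat.sub_add_cancel hp.pos, hgTp]
        rfl
      right_inv := by
        intro a
        show gT ((gT ^ (p - 1)) a) = a
        rw [← Module.End.mul_apply, ← pow_succ', Nat.sub_add_cancel hp.pos, hgTp]
        rfl }
  have hπ₀j : ∀ (j : ℕ) a, (π₀ ^ j) a = (gT ^ j) a := by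
    intro j a
    induction j with
    | zero => rfl
    | succ j ih =>
      rw [pow_succ', pow_succ', Equiv.Perm.mul_apply, ih]
      rfl
  have hπ₀p : π₀ ^ p = 1 := by
    ext a
    rw [hπ₀j, hgTp]
    rfl
  obtain ⟨Ξ, hΞ1, hΞ2⟩ := exists_orbit_reps π₀ hp hπ₀p
  let Ξ' : Finset R := Ξ.image sec
  have hΞ'card : Ξ'.card ≤ Ξ.card := Finset.card_image_le
  have hΞ' : ∀ s : R, ∃ ξ ∈ Ξ', ∃ j : ℕ, ((γ ^ j) ξ)⁻¹ * s ∈ X₂.radical := by
    intro s
    obtain ⟨ξ, hξ, j, hj⟩ := hΞ1 (π s)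
    refine ⟨sec ξ, Finset.mem_image_of_mem _ hξ, j, ?_⟩
    rw [hX₂rad, ← hπeq, ← hgTj, hsec, ← hπ₀j, hj]
  have hpK' : ((p : ℕ) : K) ≠ 0 := hpK
  obtain ⟨D, hD1, hD2⟩ := X₂.hh_lemma hRK g₂' γ hg₂' hp.pos hpK' hg₂'p hg₂'norm Ξ' hΞ'
  rw [hX₂rad] at hD1
  have hE : Nat.card (LinearMap.range (gT - 1)) ≤ (p - 1) ^ 2 := by
    have h1 := card_ker_mul_range (gT - 1)
    set m := Nat.card (LinearMap.range (gT - 1)) with hm
    set f := Nat.card (LinearMap.ker (gT - 1)) with hf
    have h2 : Nat.card {x // π₀ x = x} = f := by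
      rw [hf]
      refine Nat.card_congr (Equiv.subtypeEquivRight ?_)
      intro x
      rw [LinearMap.mem_ker, LinearMap.sub_apply, sub_eq_zero]
      rfl
    rw [h2] at hΞ2
    have h3 : Nat.card T = D ^ 2 := hπ4.trans hD1
    have hfpos : 0 < f := Nat.card_pos
    have h4 : D ^ 2 ≤ (p - 1) * Ξ.card := hD2.trans (Nat.mul_le_mul_left _ hΞ'card)
    -- numbers
    have hp1 : 1 ≤ p := hp.pos
    obtain ⟨e, he⟩ : ∃ e, p = e + 1 := ⟨p - 1, by omega⟩
    rw [he] at hΞ2 h4 ⊢
    simp only [Nat.add_sub_cancel] at hΞ2 h4 ⊢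
    have h5 : (e + 1) * D ^ 2 ≤ e * ((e + 1) * Ξ.card) := by
      calc (e + 1) * D ^ 2 ≤ (e + 1) * (e * Ξ.card) := Nat.mul_le_mul_left _ h4
        _ = e * ((e + 1) * Ξ.card) := by ring
    rw [hΞ2, h3] at h5
    have h6 : D ^ 2 ≤ e ^ 2 * f := by nlinarith
    rw [← h3, h1] at h6
    have h7 : f * m ≤ f * e ^ 2 := by
      calc f * m ≤ e ^ 2 * f := h6
        _ = f * e ^ 2 := by ring
    exact Nat.le_of_mul_le_mul_left h7 hfpos
  -- the conclusion
  have hαb : (α' b) ^ p = 1 := by rw [← map_pow, hA, map_one]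
  have hσ : ∀ y, gT * βT y = βT (α' b y) * gT := by
    intro y
    ext a
    obtain ⟨s, rfl⟩ : ∃ s, π s = a := ⟨sec a, hsec a⟩
    rw [Module.End.mul_apply, Module.End.mul_apply, hβT, hgT', hgT', hβT, hγ, hcompat]
  have hyC : ∀ y, α' b y = y → ∀ t, gT t = t → βT y t = t := by
    intro y hy a ha
    obtain ⟨s, rfl⟩ : ∃ s, π s = a := ⟨sec a, hsec a⟩
    rw [hgT'] at ha
    -- the cyclic group
    let Pa : Subgroup A := Subgroup.zpowers b
    have hPa : IsPGroup p Pa := by
      rintro ⟨x, hx⟩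
      refine ⟨1, ?_⟩
      apply Subtype.ext
      show (x : A) ^ p ^ 1 = 1
      rw [pow_one]
      exact hA x
    have hÂpow : ∀ (i : ℕ), ∀ n, n ∈ Â → (γ ^ i) n ∈ Â := by
      intro i n hn
      exact (pow_mem_iff γ Â hÂγ i n).mp hn
    have hγpow : ∀ (x : Pa), ∃ i : ℕ, α x = γ ^ i := by
      rintro ⟨x, hx⟩
      obtain ⟨i, rfl⟩ := mem_powers_iff_mem_zpowers.mpr hx
      exact ⟨i, by rw [map_pow]⟩
    have hspow : ∀ (i : ℕ), s⁻¹ * (γ ^ i) s ∈ Â := by
      intro i
      rw [← hπeq]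
      induction i with
      | zero => rfl
      | succ i ih =>
        rw [pow_succ', MulAut.mul_apply, ← hgT', ← ih, hgT']
        exact ha.symm
    obtain ⟨n, hn, hfx⟩ := exists_fixed_mul hPa (α.comp Pa.subtype) Â
      (fun h => hpR (h.trans (Subgroup.card_subgroup_dvd_card _)))
      (by
        intro x n hn
        obtain ⟨i, hi⟩ := hγpow x
        show α x n ∈ Â
        rw [hi]
        exact hÂpow i n hn)
      s (by
        intro x
        obtain ⟨i, hi⟩ := hγpow x
        show s⁻¹ * α x s ∈ Â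
        rw [hi]
        exact hspow i)
    have h5 : α b (s * n) = s * n := hfx ⟨b, Subgroup.mem_zpowers b⟩
    have h6 := hcomm b hb1 _ h5 y hy
    have h7 : π (s * n) = π s := by
      rw [hπ1, (hπ2 n).mpr hn, add_zero]
    rw [← h7, hβT, h6]
  have hfinal := sym_conclusion (s := s) hp hpr hs hsr P hnd hanti hSq gT hgTp hgP hE hYs hpY βT hβP (α' b) hαb hσ hyC
  -- translate back
  have h1 : β y s₀ * s₀⁻¹ ∈ Â := by
    rw [← hπ2, hπ1, hπinv, ← hβT, hfinal y]
    simp
  exact (hmemÂ _).mp h1 t₀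


/-- **The minimal counterexample step** -/
theorem core_step {p r s : ℕ} (hp : p.Prime) (hr : r.Prime) (hs : s.Prime) (hpr : p ≠ r) (hsr : s ≠ r)
    (hA : ∀ x : A, x ^ p = 1) (hcard : Nat.card A = p ^ 2)
    (hRr : IsPGroup r R) (hYs : IsPGroup s Y) (hpY : ¬ p ∣ Nat.card Y) (hpR : ¬ p ∣ Nat.card R)
    (hpK : (p : K) ≠ 0) (hRK : (Fintype.card R : K) ≠ 0)
    (ρ : R →* End K U) (hρ : Function.Injective ρ) (α : A →* MulAut R) (τ : A →* End K U)
    (hτρ : ∀ x s, τ x * ρ s = ρ (α x s) * τ x) (hsum : ∑ x, τ x = 0)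
    (hfixR : ∀ s, (∀ x, α x s = s) → s = 1)
    (β : Y →* MulAut R) (θ : Y →* End K U) (hθρ : ∀ y s, θ y * ρ s = ρ (β y s) * θ y)
    (α' : A →* MulAut Y)
    (hcompat : ∀ x y s, β (α' x y) (α x s) = α x (β y s))
    (hfixY : ∀ y, (∀ x, α' x y = y) → y = 1)
    (hcomm : ∀ b : A, b ≠ 1 → ∀ s, α b s = s → ∀ y, α' b y = y → β y s = s)
    (hgen : Subgroup.closure {y : Y | ∃ b : A, b ≠ 1 ∧ α' b y = y} = ⊤)
    (hsub : ∀ S : Subgroup R, S ≠ ⊤ → (∀ x s, s ∈ S → α x s ∈ S) → (∀ y s, s ∈ S → β y s ∈ S) →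
      ∀ y, ∀ s ∈ S, β y s = s) (y : Y) (s₀ : R) : β y s₀ = s₀ := by
  classical
  haveI : Fact r.Prime := ⟨hr⟩
  haveI : Fact s.Prime := ⟨hs⟩
  -- coprimality
  have hcop : ∀ c : R, c ^ (Fintype.card Y) = 1 → c = 1 := by
    intro c hc
    obtain ⟨k, hk⟩ := hRr c
    have hk' : c ^ r ^ k = 1 := hk
    obtain ⟨l, hl⟩ := IsPGroup.iff_card.mp hYs
    rw [← Nat.card_eq_fintype_card, hl] at hc
    have h1 := orderOf_dvd_of_pow_eq_one hc
    have h2 := orderOf_dvd_of_pow_eq_one hk'
    have h3 : Nat.Coprime (s ^ l) (r ^ k) := Nat.Coprime.pow _ _ ((Nat.coprime_primes hs hr).mpr hsr)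
    exact orderOf_eq_one_iff.mp (Nat.eq_one_of_dvd_coprimes h3 h1 h2)
  have hβpow : ∀ y, (β y) ^ (Fintype.card Y) = 1 := by
    intro y
    rw [← map_pow, pow_card_eq_one, map_one]
  by_contra hne
  -- the twisted subgroup
  let C : Subgroup R := Subgroup.closure {c | ∃ (y : Y) (s : R), c = β y s * s⁻¹}
  have hCα : ∀ x c, c ∈ C → α x c ∈ C := by
    intro x c hc
    induction hc using Subgroup.closure_induction with
    | mem c hc =>
      obtain ⟨y, s, rfl⟩ := hc
      apply Subgroup.subset_closure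
      refine ⟨α' x y, α x s, ?_⟩
      rw [map_mul, map_inv, hcompat]
    | one => rw [map_one]; exact C.one_mem
    | mul a c _ _ ha hc => rw [map_mul]; exact C.mul_mem ha hc
    | inv a _ ha => rw [map_inv]; exact C.inv_mem ha
  have hCβ : ∀ y c, c ∈ C → β y c ∈ C := by
    intro y c hc
    induction hc using Subgroup.closure_induction with
    | mem c hc =>
      obtain ⟨y', s, rfl⟩ := hc
      have h1 : β y (β y' s * s⁻¹) = (β (y * y') s * s⁻¹) * (β y s * s⁻¹)⁻¹ := by
        rw [map_mul, map_inv, map_mul]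
        simp [MulAut.mul_apply]
      rw [h1]
      exact C.mul_mem (Subgroup.subset_closure ⟨_, _, rfl⟩) (C.inv_mem (Subgroup.subset_closure ⟨_, _, rfl⟩))
    | one => rw [map_one]; exact C.one_mem
    | mul a c _ _ ha hc => rw [map_mul]; exact C.mul_mem ha hc
    | inv a _ ha => rw [map_inv]; exact C.inv_mem ha
  have hCtop : C = ⊤ := by
    by_contra hC
    have h1 := hsub C hC hCα hCβ
    apply hne
    exact HHMain.twist_trivial (β y) (hβpow y) hcop (h1 y _ (Subgroup.subset_closure ⟨y, s₀, rfl⟩))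
  -- the Frattini subgroup
  have hRnt : Nontrivial R := by
    by_contra hnt
    rw [not_nontrivial_iff_subsingleton] at hnt
    exact hne (Subsingleton.elim _ _)
  let Z : Subgroup R := frattini R
  have hZtop : Z ≠ ⊤ := by
    intro h
    have h1 := frattini_nilpotent (G := R)
    obtain ⟨M, hM⟩ : ∃ M : Subgroup R, IsCoatom M := by
      obtain h2 | h2 := eq_top_or_exists_le_coatom (⊥ : Subgroup R)
      · exact absurd h2 bot_ne_top
      · obtain ⟨M, hM, -⟩ := h2
        exact ⟨M, hM⟩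
    apply hM.1
    rw [eq_top_iff, ← h]
    exact frattini_le_coatom hM
  have hZchar : ∀ (f : MulAut R) z, z ∈ Z → f z ∈ Z := by
    intro f z hz
    exact (Subgroup.characteristic_iff_le_comap.mp (frattini_characteristic (G := R))) f hz
  have hZα : ∀ x z, z ∈ Z → α x z ∈ Z := fun x z hz => hZchar _ z hz
  have hβZ : ∀ y, ∀ z ∈ Z, β y z = z := hsub Z hZtop hZα (fun y z hz => hZchar _ z hz)
  have hcommZ : ∀ s t : R, ⁅s, t⁆ ∈ Z := by
    intro s t
    apply Cfsg.Agent.Lib.Frat.commutator_le_frattini hRr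
    rw [commutator_def]
    exact Subgroup.commutator_mem_commutator (Subgroup.mem_top s) (Subgroup.mem_top t)
  have hpowZ : ∀ s : R, s ^ r ∈ Z := fun s => Cfsg.Agent.Lib.Frat.pow_mem_frattini hRr s
  haveI hZnorm : Z.Normal := by
    refine ⟨fun z hz g => ?_⟩
    have h1 : g * z * g⁻¹ = ⁅g, z⁆ * z := by simp [commutatorElement_def]
    rw [h1]
    exact Z.mul_mem (hcommZ g z) hz
  -- `Z` is central
  have hZc : ∀ z ∈ Z, ∀ s, z * s = s * z := by
    intro z hz s
    have hK1 : C ≤ Subgroup.centralizer {z} := by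
      refine (Subgroup.closure_le _).mpr ?_
      rintro _ ⟨y, t, rfl⟩
      rw [SetLike.mem_coe, Subgroup.mem_centralizer_singleton_iff]
      have hw : t⁻¹ * z * t ∈ Z := by
        have := hZnorm.conj_mem z hz t⁻¹
        simpa using this
      have h1 := hβZ y _ hw
      simp only [map_mul, map_inv, hβZ y z hz] at h1
      show β y t * t⁻¹ * z = z * (β y t * t⁻¹)
      have h2 : z * β y t = β y t * (t⁻¹ * z * t) := by
        rw [← h1]; group
      calc β y t * t⁻¹ * z = β y t * (t⁻¹ * z * t) * t⁻¹ := by group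
        _ = z * β y t * t⁻¹ := by rw [h2]
        _ = z * (β y t * t⁻¹) := by group
    have h2 : s ∈ Subgroup.centralizer {z} := hK1 (hCtop ▸ Subgroup.mem_top s)
    rw [Subgroup.mem_centralizer_singleton_iff] at h2
    exact h2.symm
  -- the twisted elements are central
  have hwc : ∀ (y : Y) (s t : R), ⁅β y s * s⁻¹, t⁆ = 1 := by
    intro y s t
    by_contra hc
    set c := ⁅β y s * s⁻¹, t⁆ with hcdef
    have hcZ : c ∈ Z := hcommZ _ _
    let ρZ : Z →* End K U := ρ.comp Z.subtype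
    have hx : (ρ c) ^ (Fintype.card R) = 1 := by
      rw [← map_pow, pow_card_eq_one, map_one]
    have hx1 : ρ c ≠ 1 := by
      intro h
      apply hc
      apply hρ
      rw [h, map_one]
    obtain ⟨a, ha1, hE⟩ := exists_eigenvalue_ne_one (ρ c) hRK hx hx1
    have hcomm_c : ∀ z : Z, ρ (z : R) * ρ c = ρ c * ρ (z : R) := by
      intro z
      rw [← map_mul, ← map_mul, hZc z z.2 c]
    obtain ⟨μ, u₀, hu₀E, hu₀0, hu₀⟩ := exists_common_eigen ρZ (End.eigenspace (ρ c) a) hE
      (by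
        intro z u hu
        rw [End.mem_eigenspace_iff] at hu ⊢
        have h1 := congrArg (fun y : End K U => y u) (hcomm_c z)
        simp only [Module.End.mul_apply, hu, map_smul] at h1
        exact h1.symm)
      (by
        intro z z' u _
        show ρ (z : R) (ρ (z' : R) u) = ρ (z' : R) (ρ (z : R) u)
        rw [← Module.End.mul_apply, ← Module.End.mul_apply, ← map_mul, ← map_mul, hZc z z.2 z'])
    have hμc : μ ⟨c, hcZ⟩ = a := by
      have h1 : ρ c u₀ = μ ⟨c, hcZ⟩ • u₀ := hu₀ ⟨c, hcZ⟩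
      have h2 : ρ c u₀ = a • u₀ := End.mem_eigenspace_iff.mp hu₀E
      exact smul_left_injective K hu₀0 (h1.symm.trans h2)
    have hμwt : wt (ρ.comp Z.subtype) μ ≠ ⊥ := by
      intro h
      have h1 : u₀ ∈ wt ρZ μ := hu₀
      rw [show wt ρZ μ = ⊥ from h] at h1
      exact hu₀0 ((Submodule.mem_bot _).mp h1)
    have hμ1 : μ ≠ 1 := by
      rintro rfl
      exact ha1 hμc.symm
    have h1 := claim_mu hp hr hs hpr hsr hA hcard hYs hpY hpR hpK hRK ρ α τ hτρ hsum hfixR β α'
      hcompat hcomm Z hZc hZα hcommZ hpowZ hβZ μ hμwt hμ1 y s t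
    exact ha1 (hμc.symm.trans h1)
  -- so `R` is abelian
  have hab : ∀ s t : R, s * t = t * s := by
    intro s t
    have h1 : C ≤ Subgroup.centralizer {t} := by
      refine (Subgroup.closure_le _).mpr ?_
      rintro _ ⟨y, s', rfl⟩
      rw [SetLike.mem_coe, Subgroup.mem_centralizer_singleton_iff]
      exact commutatorElement_eq_one_iff_mul_comm.mp (hwc y s' t)
    have h2 : s ∈ Subgroup.centralizer {t} := h1 (hCtop ▸ Subgroup.mem_top s)
    rw [Subgroup.mem_centralizer_singleton_iff] at h2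
    exact h2
  exact hne (abelian_trivial hp hA hcard hRK hpR hpY hρ hab hτρ hsum hθρ hcompat hfixY hcomm hgen y s₀)

end Claim

end Cfsg.Agent.Lib.WardNonab
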