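import Mathlib
import Cfsg.Agent.Lib.HHChar
import Cfsg.Agent.Lib.HHCrit
import Cfsg.Agent.Lib.WardSym
import Cfsg.Agent.Lib.WardNonab
import Cfsg.Agent.Lib.FlavMTLin
import Cfsg.Agent.Lib.FlavMTGrp

/-!
The primitive case: a non-central normal subgroup of prime power order with scalar commutators.
-/

set_option autoImplicit false
set_option linter.unusedSectionVars false
set_option linter.unusedVariables false
set_option linter.style.haveILetI false

namespace Cfsg.Agent.Lib.FlavMTExtra

open Module Cfsg.Agent.Lib.HHCore Cfsg.Agent.Lib.WardSym Cfsg.Agent.Lib.WardNonab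
open Cfsg.Agent.Lib.FlavMTLin Cfsg.Agent.Lib.FlavMTGrp
open Cfsg.Agent.Lib.HHCrit (Irr schur)
open scoped commutatorElement

universe u

/-- The induction hypothesis: the bound over prime fields for all smaller groups. -/
def MTZ (n : ℕ) : Prop :=
  ∀ (G : Type u) [Group G] [Finite G] [Group.IsSolvable G], Nat.card G < n →
  ∀ (p : ℕ), p.Prime → 5 ≤ p → ∀ x : G, x ^ p = 1 → Subgroup.normalClosure {x} = ⊤ →
  ∀ (q : ℕ) [Fact q.Prime] (T : Type u) [AddCommGroup T] [Module (ZMod q) T] [Finite T]
    (ρ : G →* End (ZMod q) T), Irr ρ → ρ x ≠ 1 →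
    2 * finrank (ZMod q) (LinearMap.ker (ρ x - 1)) < finrank (ZMod q) T

section Desc

variable {K : Type*} [Field K] {V : Type*} [AddCommGroup V] [Module K V]
variable {G : Type*} [Group G]

/-- The representation of the quotient by the kernel. -/
def liftQ (ρ : G →* End K V) : G ⧸ ρ.ker →* End K V :=
  QuotientGroup.lift ρ.ker ρ (fun g hg => (MonoidHom.mem_ker).mp hg)

@[simp] theorem liftQ_mk (ρ : G →* End K V) (g : G) : liftQ ρ (g : G ⧸ ρ.ker) = ρ g := rfl

theorem liftQ_injective (ρ : G →* End K V) : Function.Injective (liftQ ρ) := by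
  rw [injective_iff_map_eq_one]
  intro g hg
  induction g using QuotientGroup.induction_on with
  | H g =>
    rw [QuotientGroup.eq_one_iff]
    exact hg

theorem irr_liftQ (ρ : G →* End K V) (h : Irr ρ) : Irr (liftQ ρ) := by
  intro W hW
  refine h W fun g w hw => ?_
  exact hW (g : G ⧸ ρ.ker) w hw

theorem normalClosure_mk (N : Subgroup G) [N.Normal] (x : G) (hgen : Subgroup.normalClosure {x} = ⊤) :
    Subgroup.normalClosure {(x : G ⧸ N)} = ⊤ := by
  have h1 := Subgroup.map_normalClosure {x} (QuotientGroup.mk' N) (QuotientGroup.mk'_surjective N)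
  rw [hgen, Set.image_singleton] at h1
  rw [eq_top_iff]
  intro y _
  obtain ⟨g, rfl⟩ := QuotientGroup.mk'_surjective N y
  have h2 : (QuotientGroup.mk' N) g ∈ (⊤ : Subgroup G).map (QuotientGroup.mk' N) :=
    Subgroup.mem_map_of_mem _ trivial
  rw [h1] at h2
  exact h2

end Desc

/-- The hypothesis applies to representations which are not faithful. -/
theorem MTZ.apply {G : Type u} [Group G] [Finite G] [Group.IsSolvable G] (IH : MTZ.{u} (Nat.card G))
    {p : ℕ} (hp : p.Prime) (hp5 : 5 ≤ p) (x : G) (hx : x ^ p = 1)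
    (hgen : Subgroup.normalClosure {x} = ⊤)
    {q : ℕ} [Fact q.Prime] {T : Type u} [AddCommGroup T] [Module (ZMod q) T] [Finite T]
    (ρ : G →* End (ZMod q) T) (hirr : Irr ρ) (hx1 : ρ x ≠ 1) (hninj : ¬ Function.Injective ρ) :
    2 * finrank (ZMod q) (LinearMap.ker (ρ x - 1)) < finrank (ZMod q) T := by
  have hcard : Nat.card (G ⧸ ρ.ker) < Nat.card G := by
    have h1 := Subgroup.card_eq_card_quotient_mul_card_subgroup ρ.ker
    have h2 : 1 < Nat.card ρ.ker := by
      have h3 : ρ.ker ≠ ⊥ := fun h => hninj ((MonoidHom.ker_eq_bot_iff ρ).mp h)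
      have h4 : Nontrivial ρ.ker := (Subgroup.nontrivial_iff_ne_bot _).mpr h3
      exact Finite.one_lt_card
    have h3 : 0 < Nat.card (G ⧸ ρ.ker) := Nat.card_pos
    rw [h1]
    exact lt_mul_of_one_lt_right h3 h2
  have h := IH (G ⧸ ρ.ker) hcard p hp hp5 (x : G ⧸ ρ.ker)
    (by rw [← QuotientGroup.mk_pow, hx]; rfl) (normalClosure_mk _ x hgen) q T
    (liftQ ρ) (irr_liftQ ρ hirr) hx1
  exact h

/-- The numerical estimate. -/
theorem numeric {p q a d k : ℕ} (hp : p.Prime) (hp5 : 5 ≤ p) (hq : q.Prime) (ha : 2 * a < d)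
    (hd : 2 ≤ d) (hk : p * k = q ^ d + (p - 1) * q ^ a) : 4 * k ≤ q ^ d := by
  obtain ⟨e, rfl⟩ : ∃ e, d = a + e := ⟨d - a, by omega⟩
  have he : 2 ≤ e := by omega
  obtain ⟨u, hu⟩ : ∃ u, u = q ^ e := ⟨_, rfl⟩
  obtain ⟨f, hf⟩ : ∃ f, f = q ^ a := ⟨_, rfl⟩
  obtain ⟨r, rfl⟩ : ∃ r, p = r + 1 := ⟨p - 1, by omega⟩
  rw [pow_add, ← hu, ← hf] at hk ⊢
  rw [Nat.add_sub_cancel] at hk
  have hfpos : 0 < f := by rw [hf]; exact pow_pos hq.pos _
  have hupos : 0 < u := by rw [hu]; exact pow_pos hq.pos _
  have hmain : 4 * (u + r) ≤ (r + 1) * u := by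
    by_cases hqp : q = r + 1
    · have h1 : (r + 1) ^ 2 ≤ u := by
        rw [hu, hqp]
        exact Nat.pow_le_pow_right (by omega) he
      nlinarith
    · have hcop : Nat.Coprime (r + 1) f := by
        rw [hf]
        refine Nat.Coprime.pow_right _ ?_
        exact (Nat.coprime_primes hp hq).mpr (Ne.symm hqp)
      have hdvd : (r + 1) ∣ u + r := by
        have h1 : (r + 1) ∣ f * (u + r) := ⟨k, by rw [hk]; ring⟩
        exact hcop.dvd_of_dvd_mul_left h1
      obtain ⟨m, hm⟩ := hdvd
      have hm1 : 2 ≤ m := by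
        by_contra hcon
        have hm2 : m ≤ 1 := by omega
        have hu4 : 4 ≤ u := by
          rw [hu]
          calc 4 = 2 ^ 2 := by norm_num
            _ ≤ q ^ 2 := Nat.pow_le_pow_left hq.two_le 2
            _ ≤ q ^ e := Nat.pow_le_pow_right hq.pos he
        have : u + r ≤ r + 1 := by
          calc u + r = (r + 1) * m := hm
            _ ≤ (r + 1) * 1 := Nat.mul_le_mul_left _ hm2
            _ = r + 1 := by ring
        omega
      by_cases hr : r = 4
      · subst hr
        -- `p = 5`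
        have hu16 : 16 ≤ u := by
          by_contra hcon
          have hu2 : u < 16 := by omega
          have hu6 : u = 1 ∨ u = 6 ∨ u = 11 := by
            have h1 : u % 5 = 1 := by omega
            omega
          have hsq : q ^ 2 ∣ u := by
            rw [hu]
            exact pow_dvd_pow q he
          have hq2 : 2 ≤ q := hq.two_le
          rcases hu6 with h | h | h
          · have := Nat.le_of_dvd (by omega) hsq
            nlinarith
          · rw [h] at hsq
            have hle := Nat.le_of_dvd (by omega) hsq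
            have hq3 : q ≤ 2 := by nlinarith
            have hq4 : q = 2 := by omega
            rw [hq4] at hsq
            omega
          · rw [h] at hsq
            have hle := Nat.le_of_dvd (by omega) hsq
            have hq3 : q ≤ 3 := by nlinarith
            have hq4 : q = 2 ∨ q = 3 := by omega
            rcases hq4 with h4 | h4 <;> rw [h4] at hsq <;> omega
        omega
      · have hr6 : 6 ≤ r := by
          by_contra hcon
          have hr5 : r = 5 := by omega
          subst hr5
          exact absurd hp (by norm_num)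
        have h1 : r + 2 ≤ u := by
          have h2 : (r + 1) * 2 ≤ u + r := by rw [hm]; exact Nat.mul_le_mul_left _ hm1
          omega
        nlinarith
  have h2 : (r + 1) * (4 * k) ≤ (r + 1) * (f * u) := by
    calc (r + 1) * (4 * k) = 4 * ((r + 1) * k) := by ring
      _ = f * (4 * (u + r)) := by rw [hk]; ring
      _ ≤ f * ((r + 1) * u) := Nat.mul_le_mul_left _ hmain
      _ = (r + 1) * (f * u) := by ring
  exact Nat.le_of_mul_le_mul_left h2 (by omega)

section Main

variable {G : Type u} [Group G] [Finite G] [Group.IsSolvable G]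
  {K : Type*} [Field K] [IsAlgClosed K]
  {V : Type*} [AddCommGroup V] [Module K V] [FiniteDimensional K V] [Nontrivial V]

/-- The primitive case. -/
theorem extra_case (ρ : G →* End K V) (hirr : Irr ρ) (hfaith : Function.Injective ρ)
    (hscal : ∀ A : Subgroup G, A.Normal → (∀ a ∈ A, ∀ b ∈ A, a * b = b * a) →
      ∀ a ∈ A, ∃ c : K, ρ a = c • 1)
    (hnormal : ∀ (q : ℕ) (_ : Fact q.Prime) (N : Subgroup G), N.Normal → N ≠ ⊥ → IsPGroup q N →
      ((Nat.card N : ℕ) : K) ≠ 0)
    {p : ℕ} (hp : p.Prime) (hp5 : 5 ≤ p) (x : G) (hx : x ^ p = 1)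
    (hgen : Subgroup.normalClosure {x} = ⊤) (hx1 : x ≠ 1)
    (IH : MTZ.{u} (Nat.card G)) :
    2 * finrank K (LinearMap.ker (ρ x - 1)) < finrank K V := by
  classical
  have hρx1 : ρ x ≠ 1 := fun h => hx1 (hfaith (by rw [h, map_one]))
  by_cases hcommG : ∀ a b : G, a * b = b * a
  · -- abelian
    obtain ⟨c, hc⟩ := hscal ⊤ inferInstance (fun a _ b _ => hcommG a b) x trivial
    have hc1 : c ≠ 1 := by
      rintro rfl
      exact hρx1 (by rw [hc, one_smul])
    have hker : LinearMap.ker (ρ x - 1) = ⊥ := by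
      rw [LinearMap.ker_eq_bot']
      intro v hv
      rw [LinearMap.sub_apply, hc, Module.End.one_apply, LinearMap.smul_apply, Module.End.one_apply,
        ← one_smul K v, smul_smul, mul_one, ← sub_smul] at hv
      exact (smul_eq_zero.mp hv).resolve_left (sub_ne_zero.mpr hc1)
    rw [hker, finrank_bot, mul_zero]
    exact Module.finrank_pos
  push Not at hcommG
  -- scalars are central
  have hscalcent : ∀ a : G, ∀ c : K, ρ a = c • 1 → a ∈ Subgroup.center G := by
    intro a c hc
    refine Subgroup.mem_center_iff.mpr fun g => ?_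
    apply hfaith
    rw [map_mul, map_mul, hc, smul_mul_assoc, one_mul, mul_smul_comm, mul_one]
  have hcentscal : ∀ a ∈ Subgroup.center G, ∃ c : K, ρ a = c • 1 := by
    intro a ha
    refine schur hirr (ρ a) fun g => ?_
    rw [← map_mul, ← map_mul, (Subgroup.mem_center_iff.mp ha g)]
  have habel : ∀ A : Subgroup G, A.Normal → (∀ a ∈ A, ∀ b ∈ A, a * b = b * a) →
      A ≤ Subgroup.center G := by
    intro A hA hc a ha
    obtain ⟨c, hc'⟩ := hscal A hA hc a ha
    exact hscalcent a c hc'
  obtain ⟨q, hq, N, hD⟩ := exists_secData hcommG habel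
  have hNn := hD.normal
  letI : Fintype N := Fintype.ofFinite N
  have hNbot : N ≠ ⊥ := by
    rintro rfl
    exact hD.nc bot_le
  have hR : (Fintype.card N : K) ≠ 0 := by
    rw [← Nat.card_eq_fintype_card]
    exact hnormal q hq N hNn hNbot hD.pgroup
  -- the scalars
  have hcs : ∀ s t : N, ∃ c : K, ρ ⁅(s : G), (t : G)⁆ = c • 1 := fun s t =>
    hcentscal _ (hD.comm_central s s.2 t t.2)
  choose ω hω using hcs
  have hcommrel : ∀ s t : G, s * t = ⁅s, t⁆ * (t * s) := by
    intro s t
    rw [commutatorElement_def]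
    group
  let ψ : N →* End K V := ρ.comp N.subtype
  have hψ : ∀ s : N, ψ s = ρ s := fun s => rfl
  have hcommX : ∀ s t : N, ψ s * ψ t = ω s t • (ψ t * ψ s) := by
    intro s t
    rw [hψ, hψ, ← map_mul, hcommrel, map_mul, hω, smul_mul_assoc, one_mul, map_mul]
  have hom1 : ∀ s t : N, ω s t = 1 ↔ (s : G) * t = t * s := by
    intro s t
    constructor
    · intro h
      have h1 := hcommX s t
      rw [h, one_smul, hψ, hψ, ← map_mul, ← map_mul] at h1
      exact hfaith h1
    · intro h
      have h1 := hω s t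
      have h2 : ⁅(s : G), (t : G)⁆ = 1 := by
        rw [commutatorElement_eq_one_iff_mul_comm]
        exact h
      rw [h2, map_one] at h1
      have h3 : (1 : K) • (1 : End K V) = ω s t • 1 := by rw [one_smul]; exact h1
      exact (smul_left_injective K (one_ne_zero (α := End K V)) h3).symm
  let X : HHRep K V N :=
    { ρ := ψ
      ω := ω
      hω := hcommX
      hscal := by
        intro s hs
        refine hcentscal _ (hD.centr s s.2 ?_)
        intro t ht
        exact (hom1 s ⟨t, ht⟩).mp (hs ⟨t, ht⟩) }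
  have hrad : ∀ s : N, s ∈ X.radical ↔ ∀ t ∈ N, (s : G) * t = t * s := by
    intro s
    constructor
    · intro h t ht
      exact (hom1 s ⟨t, ht⟩).mp (h ⟨t, ht⟩)
    · intro h t
      exact (hom1 s t).mpr (h t t.2)
  have hrad2 : ∀ s : N, s ∈ X.radical ↔ (s : G) ∈ Subgroup.center G := by
    intro s
    rw [hrad]
    constructor
    · exact hD.centr s s.2
    · intro h t _
      exact (Subgroup.mem_center_iff.mp h t).symm
  obtain ⟨T, _, _, _, π, hπ1, hπ2, hπ3, hπ4⟩ := exists_quot_module (r := q) X.radical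
    (fun s t => (hrad2 _).mpr (by
      have := hD.comm_central s s.2 t t.2
      exact this))
    (fun s => (hrad2 _).mpr (by
      have := hD.pow_central s s.2
      exact this))
  have hπone : π 1 = 0 := (hπ2 1).mpr (Subgroup.one_mem _)
  have hπinv : ∀ s, π s⁻¹ = - π s := by
    intro s
    have h2 := hπ1 s⁻¹ s
    rw [inv_mul_cancel, hπone] at h2
    exact eq_neg_of_add_eq_zero_left h2.symm
  have hπeq : ∀ s t, π s = π t ↔ s⁻¹ * t ∈ X.radical := by
    intro s t
    rw [← hπ2, hπ1, hπinv]
    constructor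
    · intro h
      rw [h, neg_add_cancel]
    · intro h
      exact (neg_add_eq_zero.mp h)
  obtain ⟨f, hf⟩ := exists_op_hom (r := q) hπ1 hπ3 (MulAut.conjNormal : G →* MulAut N) (by
    intro y s hs
    rw [hπ2] at hs ⊢
    rw [hrad2] at hs ⊢
    rw [MulAut.conjNormal_apply]
    have h1 : y * (s : G) * y⁻¹ = s := by
      rw [(Subgroup.mem_center_iff.mp hs y)]
      group
    rw [h1]
    exact hs)
  have hπpow : ∀ (s : N) (n : ℕ), π (s ^ n) = n • π s := by
    intro s n
    induction n with
    | zero => simp [hπone]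
    | succ n ih => rw [pow_succ, hπ1, ih, succ_nsmul]
  have hfn : ∀ n : N, f n = 1 := by
    intro n
    ext t
    obtain ⟨s, rfl⟩ := hπ3 t
    rw [hf, Module.End.one_apply]
    have h1 : MulAut.conjNormal (n : G) s = ⟨⁅(n : G), (s : G)⁆, by
        have := hNn.conj_mem s s.2 n
        rw [commutatorElement_def]
        exact N.mul_mem (N.mul_mem (N.mul_mem n.2 s.2) (N.inv_mem n.2)) (N.inv_mem s.2)⟩ * s := by
      apply Subtype.ext
      rw [MulAut.conjNormal_apply]
      show (n : G) * s * (n : G)⁻¹ = ⁅(n : G), (s : G)⁆ * s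
      rw [commutatorElement_def]
      group
    rw [h1, hπ1, (hπ2 _).mpr, zero_add]
    rw [hrad2]
    exact hD.comm_central n n.2 s s.2
  have hninj : ¬ Function.Injective f := by
    intro hinj
    apply hNbot
    rw [eq_bot_iff]
    intro n hn
    have h1 : f n = f 1 := by
      rw [map_one]
      exact hfn ⟨n, hn⟩
    exact hinj h1
  have hirrT : Irr f := by
    intro W hW
    let M₀ : Subgroup N :=
      { carrier := {s | π s ∈ W}
        mul_mem' := by
          intro a b ha hb
          show π (a * b) ∈ W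
          rw [hπ1]
          exact W.add_mem ha hb
        one_mem' := by
          show π 1 ∈ W
          rw [hπone]
          exact W.zero_mem
        inv_mem' := by
          intro a ha
          show π a⁻¹ ∈ W
          rw [hπinv]
          exact W.neg_mem ha }
    let M : Subgroup G := M₀.map N.subtype
    have hMn : M.Normal := by
      refine ⟨?_⟩
      rintro _ ⟨s, hs, rfl⟩ g
      refine ⟨MulAut.conjNormal g s, ?_, ?_⟩
      · show π (MulAut.conjNormal g s) ∈ W
        rw [← hf]
        exact hW g _ hs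
      · exact MulAut.conjNormal_apply g s
    have hMle : M ≤ N := by
      rintro _ ⟨s, -, rfl⟩
      exact s.2
    by_cases hMN : M = N
    · right
      rw [eq_top_iff]
      intro t _
      obtain ⟨s, rfl⟩ := hπ3 t
      have h1 : (s : G) ∈ M := by rw [hMN]; exact s.2
      obtain ⟨s', hs', h2⟩ := h1
      have h3 : s' = s := Subtype.ext h2
      rw [← h3]
      exact hs'
    · left
      rw [eq_bot_iff]
      intro t ht
      obtain ⟨s, rfl⟩ := hπ3 t
      have h1 : (s : G) ∈ Subgroup.center G :=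
        hD.min M hMn hMle hMN ⟨s, ht, rfl⟩
      exact (Submodule.mem_bot _).mpr ((hπ2 s).mpr ((hrad2 s).mpr h1))
  have hfinT : Module.Finite (ZMod q) T := Module.Finite.of_finite
  have hd2 : 2 ≤ finrank (ZMod q) T := by
    by_contra hcon
    have hle : finrank (ZMod q) T ≤ 1 := by omega
    obtain ⟨v, hv⟩ := finrank_le_one_iff.mp hle
    obtain ⟨s₀, rfl⟩ := hπ3 v
    have hdec : ∀ s : N, ∃ n : ℕ, (s₀ ^ n)⁻¹ * s ∈ X.radical := by
      intro s
      obtain ⟨c, hc⟩ := hv (π s)
      refine ⟨c.val, ?_⟩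
      rw [← hπeq, hπpow, ← hc]
      rw [← Nat.cast_smul_eq_nsmul (ZMod q), ZMod.natCast_zmod_val]
    obtain ⟨s, hs, t, ht, hne⟩ := hD.noncomm
    apply hne
    obtain ⟨n, hn⟩ := hdec ⟨s, hs⟩
    obtain ⟨m, hm⟩ := hdec ⟨t, ht⟩
    rw [hrad] at hn hm
    obtain ⟨z, hz⟩ : ∃ z : N, z = (s₀ ^ n)⁻¹ * ⟨s, hs⟩ := ⟨_, rfl⟩
    obtain ⟨z', hz'⟩ : ∃ z' : N, z' = (s₀ ^ m)⁻¹ * ⟨t, ht⟩ := ⟨_, rfl⟩
    rw [← hz] at hn
    rw [← hz'] at hm
    have hs1 : s = ((s₀ ^ n : N) : G) * z := by
      rw [hz]
      simp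
    have ht1 : t = ((s₀ ^ m : N) : G) * z' := by
      rw [hz']
      simp
    have hc1 : Commute ((s₀ ^ n : N) : G) ((s₀ ^ m : N) : G) := by
      have : Commute (s₀ ^ n) (s₀ ^ m) := (Commute.refl s₀).pow_pow n m
      show ((s₀ ^ n * s₀ ^ m : N) : G) = ((s₀ ^ m * s₀ ^ n : N) : G)
      rw [this.eq]
    have hz1 : ∀ y ∈ N, (z : G) * y = y * z := hn
    have hz2 : ∀ y ∈ N, (z' : G) * y = y * z' := hm
    rw [hs1, ht1]
    calc ((s₀ ^ n : N) : G) * z * (((s₀ ^ m : N) : G) * z')
        = ((s₀ ^ n : N) : G) * (z * ((s₀ ^ m : N) : G)) * z' := by group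
      _ = ((s₀ ^ n : N) : G) * (((s₀ ^ m : N) : G) * z) * z' := by
          rw [hz1 _ (s₀ ^ m).2]
      _ = (((s₀ ^ n : N) : G) * ((s₀ ^ m : N) : G)) * (z * z') := by group
      _ = (((s₀ ^ m : N) : G) * ((s₀ ^ n : N) : G)) * (z' * z) := by
          rw [hc1.eq, hz1 _ z'.2]
      _ = ((s₀ ^ m : N) : G) * (((s₀ ^ n : N) : G) * z') * z := by group
      _ = ((s₀ ^ m : N) : G) * (z' * ((s₀ ^ n : N) : G)) * z := by
          rw [hz2 _ (s₀ ^ n).2]
      _ = ((s₀ ^ m : N) : G) * z' * (((s₀ ^ n : N) : G) * z) := by group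
  have hfx1 : f x ≠ 1 := by
    intro h
    have hle : Subgroup.normalClosure {x} ≤ f.ker := by
      refine Subgroup.normalClosure_le_normal ?_
      intro y hy
      have hyx : y = x := hy
      rw [hyx]
      exact (MonoidHom.mem_ker).mpr h
    rw [hgen] at hle
    have hnt : Nontrivial T := by
      refine Module.nontrivial_of_finrank_pos (R := ZMod q) (by omega)
    obtain ⟨t, ht⟩ := exists_ne (0 : T)
    have h1 := hirrT (Submodule.span (ZMod q) {t}) (by
      intro g w hw
      have h2 : f g = 1 := (MonoidHom.mem_ker).mp (hle trivial)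
      rw [h2]
      exact hw)
    rcases h1 with h1 | h1
    · rw [Submodule.span_singleton_eq_bot] at h1
      exact ht h1
    · have h2 := finrank_span_singleton (K := ZMod q) ht
      rw [h1, finrank_top] at h2
      omega
  have hab := IH.apply hp hp5 x hx hgen f hirrT hfx1 hninj
  -- orbits
  let perm : Equiv.Perm T :=
    { toFun := f x
      invFun := f x⁻¹
      left_inv := by
        intro t
        rw [← Module.End.mul_apply, ← map_mul, inv_mul_cancel, map_one]
        rfl
      right_inv := by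
        intro t
        rw [← Module.End.mul_apply, ← map_mul, mul_inv_cancel, map_one]
        rfl }
  have hperm : ∀ t, perm t = f x t := fun t => rfl
  have hpermj : ∀ (j : ℕ) (t : T), (perm ^ j) t = (f x ^ j) t := by
    intro j
    induction j with
    | zero => intro t; rfl
    | succ j ih =>
      intro t
      rw [pow_succ', Equiv.Perm.mul_apply, ih, hperm, pow_succ']
      rfl
  have hpermp : perm ^ p = 1 := by
    ext t
    rw [hpermj, ← map_pow, hx, map_one]
    rfl
  obtain ⟨Ξ_T, hΞ1, hΞ2⟩ := exists_orbit_reps perm hp hpermp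
  have hcardmod : ∀ (W : Type u) [AddCommGroup W] [Module (ZMod q) W] [Finite W],
      Nat.card W = q ^ finrank (ZMod q) W := by
    intro W _ _ _
    haveI := Fintype.ofFinite W
    rw [Nat.card_eq_fintype_card, Module.card_eq_pow_finrank (K := ZMod q), ZMod.card]
  have hfix : Nat.card {t : T // perm t = t} = q ^ finrank (ZMod q) (LinearMap.ker (f x - 1)) := by
    rw [← hcardmod]
    refine Nat.card_congr (Equiv.subtypeEquivRight ?_)
    intro t
    rw [LinearMap.mem_ker, LinearMap.sub_apply, Module.End.one_apply, sub_eq_zero]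
    rfl
  rw [hfix, hcardmod T] at hΞ2
  have hnum := numeric hp hp5 hq.out hab hd2 hΞ2
  choose sec hsec using hπ3
  let Ξ : Finset N := Ξ_T.image sec
  have hΞcard : Ξ.card ≤ Ξ_T.card := Finset.card_image_le
  let γ : MulAut N := MulAut.conjNormal x
  have hγj : ∀ (j : ℕ) (s : N), π ((γ ^ j) s) = (f x ^ j) (π s) := by
    intro j
    induction j with
    | zero => intro s; rfl
    | succ j ih =>
      intro s
      have h1 : (γ ^ (j + 1)) s = γ ((γ ^ j) s) := by rw [pow_succ']; rfl
      rw [h1, ← hf, ih, pow_succ']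
      rfl
  have hΞ : ∀ s : N, ∃ ξ ∈ Ξ, ∃ j : ℕ, ((γ ^ j) ξ)⁻¹ * s ∈ X.radical := by
    intro s
    obtain ⟨ξ_T, hξ, j, hj⟩ := hΞ1 (π s)
    refine ⟨sec ξ_T, Finset.mem_image_of_mem _ hξ, j, ?_⟩
    rw [← hπeq, hγj, hsec, ← hpermj, hj]
  have h4 : 4 * Ξ.card ≤ X.radical.index := by
    rw [← hπ4, hcardmod T]
    exact (Nat.mul_le_mul_left _ hΞcard).trans hnum
  refine HHRepX.two_mul_lt X hR (ρ x) (ρ x⁻¹) γ ?_ ?_ ?_ hρx1 Ξ hΞ h4
  · intro s
    show ρ x * ρ s = ρ ((γ s : N) : G) * ρ x
    have h1 : ((γ s : N) : G) = x * s * x⁻¹ := MulAut.conjNormal_apply x s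
    rw [h1, ← map_mul, ← map_mul]
    congr 1
    group
  · rw [← map_mul, mul_inv_cancel, map_one]
  · rw [← map_mul, inv_mul_cancel, map_one]

end Main

end Cfsg.Agent.Lib.FlavMTExtra
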