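import Mathlib
import Cfsg.Agent.Lib.HHCrit
import Cfsg.Agent.Lib.HHChar
import Cfsg.Agent.Lib.HHCore

set_option autoImplicit false
set_option linter.unusedSectionVars false
set_option linter.unusedVariables false

/-!
Hall--Higman Theorem B: representation-theoretic part of the reduction.
-/

namespace Cfsg.Agent.Lib.HHB2

open Module Cfsg.Agent.Lib.HHCrit

variable {K : Type*} [Field K] {V : Type*} [AddCommGroup V] [Module K V] {Γ : Type*} [Group Γ]

/-- Invariant subspace. -/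
def Inv (ρ : Γ →* End K V) (W : Submodule K V) : Prop := ∀ g, ∀ w ∈ W, ρ g w ∈ W

theorem exists_inv_compl [Fintype Γ] (ρ : Γ →* End K V) (hcard : (Fintype.card Γ : K) ≠ 0)
    (F : Submodule K V) (hF : Inv ρ F) : ∃ C, Inv ρ C ∧ IsCompl F C := by
  classical
  obtain ⟨π₀, hπ₀⟩ := F.subtype.exists_leftInverse_of_injective (by simp)
  have hπ₀' : ∀ v (hv : v ∈ F), ((π₀ v : F) : V) = v := by
    intro v hv
    have := LinearMap.congr_fun hπ₀ ⟨v, hv⟩
    simp only [LinearMap.comp_apply, Submodule.subtype_apply, LinearMap.id_apply] at this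
    rw [this]
  let E : End K V := F.subtype.comp π₀
  have hEapp : ∀ v, E v = (π₀ v : V) := fun v => rfl
  let P : End K V := (Fintype.card Γ : K)⁻¹ • ∑ g, ρ g * E * ρ g⁻¹
  have hPapp : ∀ v, P v = (Fintype.card Γ : K)⁻¹ • ∑ g, ρ g (E (ρ g⁻¹ v)) := by
    intro v
    simp [P, LinearMap.sum_apply]
  have hPmem : ∀ v, P v ∈ F := by
    intro v
    rw [hPapp]
    refine Submodule.smul_mem _ _ (Submodule.sum_mem _ fun g _ => hF g _ ?_)
    rw [hEapp]
    exact (π₀ _).2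
  have hρinv : ∀ (g : Γ) v, ρ g (ρ g⁻¹ v) = v := by
    intro g v
    rw [← Module.End.mul_apply, ← map_mul]
    simp
  have hPid : ∀ v ∈ F, P v = v := by
    intro v hv
    rw [hPapp]
    have h1 : ∀ g : Γ, ρ g (E (ρ g⁻¹ v)) = v := by
      intro g
      rw [hEapp, hπ₀' _ (hF _ _ hv), hρinv]
    simp only [h1, Finset.sum_const, Finset.card_univ]
    rw [← Nat.cast_smul_eq_nsmul K, smul_smul, inv_mul_cancel₀ hcard, one_smul]
  have hPcomm : ∀ (h : Γ) v, P (ρ h v) = ρ h (P v) := by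
    intro h v
    rw [hPapp, hPapp, map_smul, map_sum]
    congr 1
    refine (Equiv.sum_comp (Equiv.mulLeft h) (fun g => ρ g (E (ρ g⁻¹ (ρ h v))))).symm.trans ?_
    refine Finset.sum_congr rfl fun g _ => ?_
    simp only [Equiv.coe_mulLeft]
    have h2 : ρ (h * g)⁻¹ (ρ h v) = ρ g⁻¹ v := by
      rw [← Module.End.mul_apply, ← map_mul]
      congr 2
      group
    rw [h2, map_mul, Module.End.mul_apply]
  refine ⟨LinearMap.ker P, ?_, ?_⟩
  · intro g w hw
    rw [LinearMap.mem_ker] at hw ⊢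
    rw [hPcomm, hw, map_zero]
  · constructor
    · rw [Submodule.disjoint_def]
      intro v hv hv'
      rw [LinearMap.mem_ker] at hv'
      rw [← hPid v hv, hv']
    · rw [codisjoint_iff, eq_top_iff]
      intro v _
      have h1 : v = P v + (v - P v) := by abel
      rw [h1]
      refine Submodule.add_mem_sup (hPmem v) ?_
      rw [LinearMap.mem_ker, map_sub, hPid _ (hPmem v), sub_self]

theorem exists_irr [FiniteDimensional K V] (ρ : Γ →* End K V) (C : Submodule K V) (hC : Inv ρ C)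
    (hne : C ≠ ⊥) : ∃ W ≤ C, Inv ρ W ∧ W ≠ ⊥ ∧ ∀ W' ≤ W, Inv ρ W' → W' = ⊥ ∨ W' = W := by
  obtain ⟨W, hW, hmin⟩ := (wellFounded_lt (α := Submodule K V)).has_min
    {W | Inv ρ W ∧ W ≠ ⊥ ∧ W ≤ C} ⟨C, hC, hne, le_rfl⟩
  refine ⟨W, hW.2.2, hW.1, hW.2.1, ?_⟩
  intro W' hle hinv
  by_contra hcon
  push Not at hcon
  exact hmin W' ⟨hinv, hcon.1, hle.trans hW.2.2⟩ (lt_of_le_of_ne hle hcon.2)

theorem irr_restrict (ρ : Γ →* End K V) (W : Submodule K V) (hS : Inv ρ W)
    (hmin : ∀ W' ≤ W, Inv ρ W' → W' = ⊥ ∨ W' = W) :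
    Irr (HHChar.restrictRep ρ W hS) := by
  intro W'' hW''
  have h1 := hmin (W''.map W.subtype) (by
    rintro _ ⟨x, _, rfl⟩
    exact x.2) (by
    rintro g _ ⟨x, hx, rfl⟩
    exact ⟨_, hW'' g x hx, rfl⟩)
  rcases h1 with h1 | h1
  · left
    rw [eq_bot_iff]
    intro x hx
    have h2 : (x : V) ∈ W''.map W.subtype := ⟨x, hx, rfl⟩
    rw [h1] at h2
    have h3 : (x : V) = 0 := by simpa using h2
    simpa using Subtype.ext h3
  · right
    rw [eq_top_iff]
    rintro ⟨x, hx⟩ -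
    have : x ∈ W''.map W.subtype := by rw [h1]; exact hx
    obtain ⟨y, hy, rfl⟩ := this
    exact hy

section Twist

variable {W : Type*} [AddCommGroup W] [Module K W]

/-- Twisted intertwiners. -/
def Tw (ρ₀ : Γ →* End K W) (τ : MulAut Γ) : Prop :=
  ∃ c : End K W, c ≠ 0 ∧ ∀ g, c * ρ₀ g = ρ₀ (τ g) * c

theorem tw_bij [FiniteDimensional K W] {ρ₀ : Γ →* End K W} (hρ : Irr ρ₀) {c : End K W} {τ : MulAut Γ}
    (hc0 : c ≠ 0) (hc : ∀ g, c * ρ₀ g = ρ₀ (τ g) * c) : Function.Bijective c := by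
  have h1 := hρ (LinearMap.ker c) (by
    intro g w hw
    rw [LinearMap.mem_ker] at hw ⊢
    rw [← Module.End.mul_apply, hc, Module.End.mul_apply, hw, map_zero])
  have hinj : Function.Injective c := by
    rcases h1 with h1 | h1
    · exact LinearMap.ker_eq_bot.mp h1
    · exfalso
      apply hc0
      ext v
      have : v ∈ LinearMap.ker c := by rw [h1]; trivial
      simpa using this
  exact ⟨hinj, LinearMap.injective_iff_surjective.mp hinj⟩

theorem tw_one [Nontrivial W] (ρ₀ : Γ →* End K W) : Tw ρ₀ 1 :=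
  ⟨1, one_ne_zero, fun g => by simp⟩

theorem tw_mul [FiniteDimensional K W] [Nontrivial W] {ρ₀ : Γ →* End K W} (hρ : Irr ρ₀) {τ₁ τ₂ : MulAut Γ}
    (h₁ : Tw ρ₀ τ₁) (h₂ : Tw ρ₀ τ₂) : Tw ρ₀ (τ₁ * τ₂) := by
  obtain ⟨c₁, h₁0, h₁c⟩ := h₁
  obtain ⟨c₂, h₂0, h₂c⟩ := h₂
  refine ⟨c₁ * c₂, ?_, ?_⟩
  · intro h0
    obtain ⟨v, hv⟩ := exists_ne (0 : W)
    have h1 := LinearMap.congr_fun h0 v
    simp only [Module.End.mul_apply, LinearMap.zero_apply] at h1
    have h2 := (tw_bij hρ h₁0 h₁c).1 (h1.trans (map_zero c₁).symm)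
    have h3 := (tw_bij hρ h₂0 h₂c).1 (h2.trans (map_zero c₂).symm)
    exact hv h3
  · intro g
    rw [mul_assoc, h₂c, ← mul_assoc, h₁c, mul_assoc, MulAut.mul_apply]

theorem tw_inv [FiniteDimensional K W] [Nontrivial W] {ρ₀ : Γ →* End K W} (hρ : Irr ρ₀) {τ : MulAut Γ}
    (h : Tw ρ₀ τ) : Tw ρ₀ τ⁻¹ := by
  obtain ⟨c, h0, hc⟩ := h
  have hb := tw_bij hρ h0 hc
  let e : W ≃ₗ[K] W := LinearEquiv.ofBijective c hb
  let c' : End K W := e.symm.toLinearMap
  have h1 : ∀ v, c (c' v) = v := fun v => e.apply_symm_apply v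
  have h2 : ∀ v, c' (c v) = v := fun v => e.symm_apply_apply v
  refine ⟨c', ?_, ?_⟩
  · intro h00
    obtain ⟨v, hv⟩ := exists_ne (0 : W)
    have := h1 v
    rw [h00] at this
    simp only [LinearMap.zero_apply, map_zero] at this
    exact hv this.symm
  · intro g
    ext v
    simp only [Module.End.mul_apply]
    apply hb.1
    rw [h1]
    have h3 := LinearMap.congr_fun (hc (τ⁻¹ g)) (c' v)
    simp only [Module.End.mul_apply] at h3
    rw [h3, h1]
    simp

theorem tw_pow [FiniteDimensional K W] [Nontrivial W] {ρ₀ : Γ →* End K W} (hρ : Irr ρ₀) {τ : MulAut Γ}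
    (h : Tw ρ₀ τ) (i : ℕ) : Tw ρ₀ (τ ^ i) := by
  induction i with
  | zero => simpa using tw_one ρ₀
  | succ i ih =>
    rw [pow_succ]
    exact tw_mul hρ ih h

/-- The minimal twist. -/
theorem exists_min_twist [FiniteDimensional K W] [Nontrivial W] {ρ₀ : Γ →* End K W} (hρ : Irr ρ₀)
    (σ : MulAut Γ) (p k : ℕ) (hp : p.Prime) (hσN : σ ^ (p ^ k) = 1) :
    ∃ a ≤ k, Tw ρ₀ (σ ^ (p ^ a)) ∧ ∀ i, 0 < i → i < p ^ a → ¬ Tw ρ₀ (σ ^ i) := by
  classical
  have hex : ∃ i, 0 < i ∧ Tw ρ₀ (σ ^ i) := ⟨p ^ k, Nat.pow_pos hp.pos, by rw [hσN]; exact tw_one ρ₀⟩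
  let t := Nat.find hex
  have ht : 0 < t ∧ Tw ρ₀ (σ ^ t) := Nat.find_spec hex
  have htmin : ∀ i, i < t → ¬ (0 < i ∧ Tw ρ₀ (σ ^ i)) := fun i hi => Nat.find_min hex hi
  have hdvd : t ∣ p ^ k := by
    by_contra hnd
    have hr : 0 < p ^ k % t := Nat.pos_of_ne_zero (fun h => hnd (Nat.dvd_of_mod_eq_zero h))
    have hrlt : p ^ k % t < t := Nat.mod_lt _ ht.1
    apply htmin _ hrlt ⟨hr, ?_⟩
    have h1 : σ ^ (p ^ k % t) = ((σ ^ t) ^ (p ^ k / t))⁻¹ := by
      rw [eq_inv_iff_mul_eq_one, ← pow_mul, ← pow_add, mul_comm t, add_comm, Nat.div_add_mod', hσN]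
    rw [h1]
    exact tw_inv hρ (tw_pow hρ ht.2 _)
  obtain ⟨a, ha, hta⟩ := (Nat.dvd_prime_pow hp).mp hdvd
  refine ⟨a, ha, ?_, ?_⟩
  · rw [← hta]; exact ht.2
  · intro i hi hit hTw
    rw [← hta] at hit
    exact htmin i hit ⟨hi, hTw⟩

theorem tw_of_equiv {W' : Type*} [AddCommGroup W'] [Module K W'] {ρ₀ : Γ →* End K W} {ρ' : Γ →* End K W'}
    (e : W ≃ₗ[K] W') (he : ∀ g v, e (ρ₀ g v) = ρ' g (e v)) {τ : MulAut Γ} (h : Tw ρ' τ) : Tw ρ₀ τ := by
  obtain ⟨c, h0, hc⟩ := h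
  refine ⟨e.symm.toLinearMap.comp (c.comp e.toLinearMap), ?_, ?_⟩
  · intro h00
    apply h0
    ext v
    have := LinearMap.congr_fun h00 (e.symm v)
    simpa using this
  · intro g
    ext v
    simp only [Module.End.mul_apply, LinearMap.comp_apply, LinearEquiv.coe_coe]
    rw [he]
    have h3 := LinearMap.congr_fun (hc g) (e v)
    simp only [Module.End.mul_apply] at h3
    rw [h3]
    apply e.injective
    rw [he]
    simp

theorem irr_of_equiv {W' : Type*} [AddCommGroup W'] [Module K W'] {ρ₀ : Γ →* End K W} {ρ' : Γ →* End K W'}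
    (e : W ≃ₗ[K] W') (he : ∀ g v, e (ρ₀ g v) = ρ' g (e v)) (h : Irr ρ₀) : Irr ρ' := by
  intro S hS
  have h1 := h (S.comap e.toLinearMap) (by
    intro g w hw
    simp only [Submodule.mem_comap, LinearEquiv.coe_coe] at hw ⊢
    rw [he]
    exact hS g _ hw)
  rcases h1 with h1 | h1
  · left
    rw [eq_bot_iff]
    intro x hx
    have : e.symm x ∈ S.comap e.toLinearMap := by simpa using hx
    rw [h1] at this
    have h2 : e.symm x = 0 := by simpa using this
    simpa using h2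
  · right
    rw [eq_top_iff]
    intro x _
    have : e.symm x ∈ S.comap e.toLinearMap := by rw [h1]; trivial
    simpa using this

/-- An eigenvector argument produces a stable copy of an irreducible constituent. -/
theorem exists_stable_copy [IsAlgClosed K] [FiniteDimensional K W] [Nontrivial W] [FiniteDimensional K V]
    (ρ : Γ →* End K V) (ρ₀ : Γ →* End K W) (hirr : Irr ρ₀) (A : End K V) (τ : MulAut Γ)
    (hA : ∀ g, A * ρ g = ρ (τ g) * A) (hTw : Tw ρ₀ τ⁻¹) (φ : W →ₗ[K] V) (hφ : φ ≠ 0)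
    (hφρ : ∀ g v, φ (ρ₀ g v) = ρ g (φ v)) :
    ∃ φ₀ : W →ₗ[K] V, (∀ g v, φ₀ (ρ₀ g v) = ρ g (φ₀ v)) ∧ Function.Injective φ₀ ∧
      ∀ w, A (φ₀ w) ∈ LinearMap.range φ₀ := by
  classical
  obtain ⟨c₀, hc0, hc⟩ := hTw
  have hb := tw_bij hirr hc0 hc
  let M : Submodule K (W →ₗ[K] V) :=
    { carrier := {f | ∀ g v, f (ρ₀ g v) = ρ g (f v)}
      add_mem' := by
        intro a b ha hb g v
        simp [ha g v, hb g v]
      zero_mem' := by
        intro g v
        simp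
      smul_mem' := by
        intro r a ha g v
        simp [ha g v] }
  have hT : ∀ f ∈ M, A.comp (f.comp c₀) ∈ M := by
    intro f hf g v
    simp only [LinearMap.comp_apply]
    have h1 := LinearMap.congr_fun (hc g) v
    simp only [Module.End.mul_apply] at h1
    rw [h1, hf]
    have h2 := LinearMap.congr_fun (hA (τ⁻¹ g)) (f (c₀ v))
    simp only [Module.End.mul_apply, MulAut.apply_inv_self] at h2
    exact h2
  let T : End K M :=
    { toFun := fun f => ⟨A.comp ((f : W →ₗ[K] V).comp c₀), hT f f.2⟩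
      map_add' := by
        intro a b
        apply Subtype.ext
        ext v
        simp
      map_smul' := by
        intro r a
        apply Subtype.ext
        ext v
        simp }
  have hM : Nontrivial M := ⟨⟨⟨φ, hφρ⟩, 0, fun h => hφ (congrArg Subtype.val h)⟩⟩
  obtain ⟨lam, hlam⟩ := Module.End.exists_eigenvalue T
  obtain ⟨f, hf⟩ := hlam.exists_hasEigenvector
  have hf1 : T f = lam • f := hf.apply_eq_smul
  have hf0 : (f : W →ₗ[K] V) ≠ 0 := fun h => hf.2 (Subtype.ext h)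
  have hfinj : Function.Injective (f : W →ₗ[K] V) := by
    have h1 := hirr (LinearMap.ker (f : W →ₗ[K] V)) (by
      intro g w hw
      rw [LinearMap.mem_ker] at hw ⊢
      rw [f.2 g w, hw, map_zero])
    rcases h1 with h1 | h1
    · exact LinearMap.ker_eq_bot.mp h1
    · exfalso
      apply hf0
      ext v
      have : v ∈ LinearMap.ker (f : W →ₗ[K] V) := by rw [h1]; trivial
      simpa using this
  refine ⟨f, f.2, hfinj, ?_⟩
  intro w
  obtain ⟨w', rfl⟩ := hb.2 w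
  have h2 := LinearMap.congr_fun (congrArg Subtype.val hf1) w'
  have h3 : A ((f : W →ₗ[K] V) (c₀ w')) = lam • (f : W →ₗ[K] V) w' := h2
  rw [h3]
  exact Submodule.smul_mem _ _ ⟨w', rfl⟩

end Twist

section Sum

variable {X : End K V} {σ : MulAut Γ}

theorem pow_mul_rho {ρ : Γ →* End K V} (hXρ : ∀ g, X * ρ g = ρ (σ g) * X) (i : ℕ) (g : Γ) :
    X ^ i * ρ g = ρ ((σ ^ i) g) * X ^ i := by
  induction i generalizing g with
  | zero => simp
  | succ i ih =>
    rw [pow_succ, mul_assoc, hXρ, ← mul_assoc, ih, mul_assoc, ← pow_succ, pow_succ σ, MulAut.mul_apply]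

theorem rho_mul_pow {ρ : Γ →* End K V} (hXρ : ∀ g, X * ρ g = ρ (σ g) * X) (i : ℕ) (g : Γ) :
    ρ g * X ^ i = X ^ i * ρ (((σ ^ i)⁻¹ : MulAut Γ) g) := by
  have := pow_mul_rho hXρ i (((σ ^ i)⁻¹ : MulAut Γ) g)
  rw [MulAut.apply_inv_self] at this
  exact this.symm

theorem sum_pow_ne_zero [IsAlgClosed K] [FiniteDimensional K V] [Fintype Γ]
    {ρ : Γ →* End K V} (hXρ : ∀ g, X * ρ g = ρ (σ g) * X) (W' : Submodule K V) (hS : Inv ρ W')
    [Nontrivial W'] (hirr : Irr (HHChar.restrictRep ρ W' hS))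
    (hcard : (Fintype.card Γ : K) ≠ 0) (t : ℕ) (ht : 0 < t)
    (hnt : ∀ i, 0 < i → i < t → ¬ Tw (HHChar.restrictRep ρ W' hS) ((σ ^ i)⁻¹))
    (v' : W') (hv' : v' ≠ 0) :
    ∑ i ∈ Finset.range t, (X ^ i) (v' : V) ≠ 0 := by
  classical
  intro h0
  set ρ' := HHChar.restrictRep ρ W' hS with hρ'
  obtain ⟨ψ, hψ⟩ := HHCore.exists_dual_one (𝔽 := K) hv'
  let f : End K W' := ψ.smulRight v'
  let M : ℕ → End K W' := fun i => ∑ g, ρ' (((σ ^ i)⁻¹ : MulAut Γ) g) * f * ρ' g⁻¹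
  have hMzero : ∀ i, 0 < i → i < t → M i = 0 := by
    intro i hi hit
    by_contra hne
    refine hnt i hi hit ⟨M i, hne, ?_⟩
    intro h
    simp only [M]
    rw [Finset.sum_mul, Finset.mul_sum]
    refine (Equiv.sum_comp (Equiv.mulLeft h)
      (fun g => ρ' (((σ ^ i)⁻¹ : MulAut Γ) g) * f * ρ' g⁻¹ * ρ' h)).symm.trans ?_
    refine Finset.sum_congr rfl fun g _ => ?_
    have h1 : ρ' (h * g)⁻¹ * ρ' h = ρ' g⁻¹ := by
      rw [← map_mul]; congr 1; group
    simp only [Equiv.coe_mulLeft]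
    rw [mul_assoc, h1, map_mul, map_mul]
    simp only [mul_assoc]
  obtain ⟨c, hc, hc'⟩ := phi_scalar hirr f
  have htr : LinearMap.trace K W' f = 1 := by
    rw [trace_smulRight, hψ]
  have hc0 : c ≠ 0 := by
    intro h00
    rw [h00, zero_mul, htr, mul_one] at hc'
    exact hcard hc'.symm
  have hM0 : M 0 = c • 1 := by
    simp only [M, pow_zero, inv_one, MulAut.one_apply]
    exact hc
  have hMapp : ∀ i, ((M i v' : W') : V) =
      ∑ g, ψ (ρ' g⁻¹ v') • ρ (((σ ^ i)⁻¹ : MulAut Γ) g) (v' : V) := by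
    intro i
    simp only [M, LinearMap.sum_apply, Module.End.mul_apply, f, LinearMap.smulRight_apply, map_smul]
    push_cast
    rfl
  have key : ∑ g, ψ (ρ' g⁻¹ v') • ρ g (∑ i ∈ Finset.range t, (X ^ i) (v' : V)) =
      ∑ i ∈ Finset.range t, (X ^ i) ((M i v' : W') : V) := by
    simp only [hMapp, map_sum, map_smul, Finset.smul_sum]
    rw [Finset.sum_comm]
    refine Finset.sum_congr rfl fun i _ => ?_
    refine Finset.sum_congr rfl fun g _ => ?_
    have h1 := LinearMap.congr_fun (rho_mul_pow (ρ := ρ) hXρ i g) (v' : V)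
    simp only [Module.End.mul_apply] at h1
    rw [h1]
  rw [h0] at key
  simp only [map_zero, smul_zero, Finset.sum_const_zero] at key
  rw [Finset.sum_eq_single_of_mem 0 (Finset.mem_range.mpr ht)] at key
  · rw [hM0] at key
    simp only [pow_zero, Module.End.one_apply, LinearMap.smul_apply, Submodule.coe_smul] at key
    have h1 := (smul_eq_zero.mp key.symm)
    rcases h1 with h1 | h1
    · exact hc0 h1
    · exact hv' (Subtype.ext h1)
  · intro i hi hi0
    have := hMzero i (Nat.pos_of_ne_zero hi0) (Finset.mem_range.mp hi)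
    rw [this]
    simp

end Sum

section Idx

/-- Lower bound on the nilpotency index of `X - 1`. -/
def IdxGE (X : End K V) (b : ℕ) : Prop := ∀ s, (X - 1) ^ s = 0 → b ≤ s

theorem restrict_pow_sub_one (A : End K V) (W : Submodule K V) (hW : ∀ u ∈ W, A u ∈ W) (k : ℕ) (w : W) :
    (((A.restrict hW - 1) ^ k) w : V) = ((A - 1) ^ k) (w : V) := by
  induction k generalizing w with
  | zero => simp
  | succ k ih =>
    rw [pow_succ', Module.End.mul_apply, pow_succ', Module.End.mul_apply, ← ih]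
    simp

theorem idx_mul (p : ℕ) [Fact p.Prime] [CharP K p] (a : ℕ) {X : End K V} (W' : Submodule K V)
    (hW' : ∀ u ∈ W', (X ^ (p ^ a)) u ∈ W')
    (hsum : ∀ v' : W', v' ≠ 0 → ∑ i ∈ Finset.range (p ^ a), (X ^ i) (v' : V) ≠ 0)
    (b : ℕ) (hb : 1 ≤ b) (hidx : IdxGE ((X ^ (p ^ a)).restrict hW') b) : IdxGE X (p ^ a * b) := by
  intro s hs
  by_contra hlt
  push Not at hlt
  set t := p ^ a with ht
  have htpos : 0 < t := Nat.pow_pos (Fact.out : p.Prime).pos
  have hne : ((X ^ t).restrict hW' - 1) ^ (b - 1) ≠ 0 := by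
    intro h0
    have := hidx _ h0
    omega
  obtain ⟨w, hw⟩ : ∃ w, (((X ^ t).restrict hW' - 1) ^ (b - 1)) w ≠ 0 := by
    by_contra hcon
    push Not at hcon
    exact hne (LinearMap.ext hcon)
  have hexp : t * b - 1 = (t - 1) + t * (b - 1) := by
    obtain ⟨c, rfl⟩ : ∃ c, b = c + 1 := ⟨b - 1, by omega⟩
    simp only [Nat.add_sub_cancel]
    rw [mul_add, mul_one]
    omega
  have hzero : (X - 1) ^ (t * b - 1) = 0 :=
    pow_eq_zero_of_le (by omega) hs
  have h1 : (X - 1) ^ (t * b - 1) = (∑ i ∈ Finset.range t, X ^ i) * (X ^ t - 1) ^ (b - 1) := by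
    rw [hexp, pow_add, pow_mul, ht, geom_sum_char_pow (K := K) p a, sub_one_pow_char_pow (K := K) p a]
  have h2 := LinearMap.congr_fun (h1.symm.trans hzero) (w : V)
  rw [Module.End.mul_apply, ← restrict_pow_sub_one (X ^ t) W' hW', LinearMap.sum_apply] at h2
  exact hsum _ hw h2

end Idx

end Cfsg.Agent.Lib.HHB2
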