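import Mathlib
import Cfsg.Agent.Lib.HHB2
import Cfsg.Agent.Lib.MinNorm
import Cfsg.Agent.Lib.PermModule
import Cfsg.Agent.Lib.FlavMTWt
import Cfsg.Agent.Lib.FlavMTExtra

/-!
Fixed spaces of elements of prime order at least five whose conjugates generate a solvable group:
the fixed space has dimension less than half the dimension of an irreducible module.
-/

set_option autoImplicit false
set_option linter.unusedSectionVars false
set_option linter.unusedVariables false
set_option linter.style.haveILetI false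

namespace Cfsg.Agent.Lib.FlavMTMain

open Module TensorProduct Cfsg.Agent.Lib.HHCore Cfsg.Agent.Lib.HHChar
open Cfsg.Agent.Lib.FlavMTExtra Cfsg.Agent.Lib.FlavMTWt
open Cfsg.Agent.Lib.HHCrit (Irr)
open Cfsg.Agent.Lib.HHB2 (Inv exists_irr irr_restrict)

universe u v w

section Basic

variable {K : Type*} [Field K] {V : Type*} [AddCommGroup V] [Module K V]
  {G : Type*} [Group G] [Finite G]

/-- A normal subgroup of `ℓ`-power order in a faithful irreducible group in characteristic `ℓ`. -/
theorem normal_pgroup_eq_bot {ℓ : ℕ} [Fact ℓ.Prime] [CharP K ℓ] [Nontrivial V]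
    (ρ : G →* End K V) (hirr : Irr ρ) (hfaith : Function.Injective ρ)
    (N : Subgroup G) (hN : N.Normal) (hp : IsPGroup ℓ N) : N = ⊥ := by
  classical
  let F : Submodule K V :=
    { carrier := {v | ∀ n ∈ N, ρ n v = v}
      add_mem' := by
        intro a b ha hb n hn
        rw [map_add, ha n hn, hb n hn]
      zero_mem' := by intro n _; simp
      smul_mem' := by
        intro c a ha n hn
        rw [map_smul, ha n hn] }
  obtain ⟨v₀, hv₀⟩ := exists_ne (0 : V)
  obtain ⟨v, -, hv0, hv⟩ := Cfsg.Agent.Lib.PermModule.exists_fixed_vector hp (ρ.comp N.subtype) ⊤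
    (fun _ _ _ => Submodule.mem_top) (Submodule.mem_top (x := v₀)) hv₀
  have hF : F = ⊤ := by
    refine (hirr F ?_).resolve_left ?_
    · intro g w hw n hn
      have h1 := hw (g⁻¹ * n * g) (by
        have := hN.conj_mem n hn g⁻¹
        simpa using this)
      have h2 : ρ n (ρ g w) = ρ g (ρ (g⁻¹ * n * g) w) := by
        rw [← Module.End.mul_apply, ← Module.End.mul_apply, ← map_mul, ← map_mul]
        congr 2
        group
      rw [h2, h1]
    · intro hb
      have : v ∈ F := fun n hn => hv ⟨n, hn⟩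
      rw [hb] at this
      exact hv0 ((Submodule.mem_bot _).mp this)
  rw [eq_bot_iff]
  intro n hn
  have h1 : ρ n = 1 := by
    ext w
    have : w ∈ F := by rw [hF]; trivial
    exact this n hn
  have h2 : n = 1 := hfaith (by rw [h1, map_one])
  exact (Subgroup.mem_bot).mpr h2

/-- Normal `q`-subgroups have order prime to the characteristic. -/
theorem card_ne_zero_of_pgroup {ℓ : ℕ} [Fact ℓ.Prime] [CharP K ℓ] [Nontrivial V]
    (ρ : G →* End K V) (hirr : Irr ρ) (hfaith : Function.Injective ρ)
    (q : ℕ) (hq : Fact q.Prime) (N : Subgroup G) (hN : N.Normal) (hbot : N ≠ ⊥) (hp : IsPGroup q N) :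
    ((Nat.card N : ℕ) : K) ≠ 0 := by
  have hne : q ≠ ℓ := by
    rintro rfl
    exact hbot (normal_pgroup_eq_bot ρ hirr hfaith N hN hp)
  intro h0
  rw [CharP.cast_eq_zero_iff K ℓ] at h0
  obtain ⟨k, hk⟩ := IsPGroup.iff_card.mp hp
  rw [hk] at h0
  have h1 := (Fact.out : ℓ.Prime).dvd_of_dvd_pow h0
  exact hne ((Nat.prime_dvd_prime_iff_eq Fact.out Fact.out).mp h1).symm

/-- Normal abelian subgroups have order prime to the characteristic. -/
theorem card_ne_zero_of_abelian {ℓ : ℕ} [Fact ℓ.Prime] [CharP K ℓ] [Nontrivial V]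
    (ρ : G →* End K V) (hirr : Irr ρ) (hfaith : Function.Injective ρ)
    (A : Subgroup G) (hA : A.Normal) (hc : ∀ a ∈ A, ∀ b ∈ A, a * b = b * a) :
    ((Nat.card A : ℕ) : K) ≠ 0 := by
  intro h0
  rw [CharP.cast_eq_zero_iff K ℓ] at h0
  obtain ⟨a, ha⟩ := exists_prime_orderOf_dvd_card' ℓ h0
  let Q : Subgroup G :=
    { carrier := {g | g ∈ A ∧ g ^ ℓ = 1}
      mul_mem' := by
        rintro s t ⟨hs, hs'⟩ ⟨ht, ht'⟩
        refine ⟨A.mul_mem hs ht, ?_⟩
        rw [(show Commute s t from hc s hs t ht).mul_pow, hs', ht', one_mul]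
      one_mem' := ⟨A.one_mem, one_pow _⟩
      inv_mem' := by
        rintro s ⟨hs, hs'⟩
        exact ⟨A.inv_mem hs, by rw [inv_pow, hs', inv_one]⟩ }
  have hQn : Q.Normal := by
    refine ⟨fun s hs g => ⟨hA.conj_mem s hs.1 g, ?_⟩⟩
    rw [conj_pow, hs.2]
    simp
  have hQp : IsPGroup ℓ Q := by
    intro s
    refine ⟨1, Subtype.ext ?_⟩
    simpa using s.2.2
  have hQ := normal_pgroup_eq_bot ρ hirr hfaith Q hQn hQp
  have h1 : (a : G) ∈ Q := by
    refine ⟨a.2, ?_⟩
    have h2 : a ^ ℓ = 1 := by rw [← ha]; exact pow_orderOf_eq_one a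
    exact congrArg Subtype.val h2
  rw [hQ] at h1
  have h2 : a = 1 := Subtype.ext ((Subgroup.mem_bot).mp h1)
  rw [h2, orderOf_one] at ha
  exact (Fact.out : ℓ.Prime).ne_one ha.symm

end Basic

section Core

variable {G : Type u} [Group G] [Finite G] [Group.IsSolvable G]
  {K : Type v} [Field K] [IsAlgClosed K]
  {V : Type w} [AddCommGroup V] [Module K V] [FiniteDimensional K V] [Nontrivial V]

/-- The faithful case over an algebraically closed field. -/
theorem alg_core (ℓ : ℕ) [Fact ℓ.Prime] [CharP K ℓ] (ρ : G →* End K V) (hirr : Irr ρ) (hfaith : Function.Injective ρ)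
    {p : ℕ} (hp : p.Prime) (hp5 : 5 ≤ p) (x : G) (hx : x ^ p = 1)
    (hgen : Subgroup.normalClosure {x} = ⊤) (hx1 : x ≠ 1) (IH : MTZ.{u} (Nat.card G)) :
    2 * finrank K (LinearMap.ker (ρ x - 1)) < finrank K V := by
  by_cases hB1 : ∃ A : Subgroup G, A.Normal ∧ (∀ a ∈ A, ∀ b ∈ A, a * b = b * a) ∧
      ∃ a ∈ A, ∀ c : K, ρ a ≠ c • 1
  · obtain ⟨A, hA, hc, hns⟩ := hB1
    have := hA
    exact imprimitive ρ hirr A hc (card_ne_zero_of_abelian (ℓ := ℓ) ρ hirr hfaith A hA hc) hns hp hp5 x hx hgen
  · push Not at hB1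
    refine extra_case ρ hirr hfaith ?_ ?_ hp hp5 x hx hgen hx1 IH
    · intro A hA hc a ha
      exact hB1 A hA hc a ha
    · intro q hq N hN hbot hpg
      exact card_ne_zero_of_pgroup (ℓ := ℓ) ρ hirr hfaith q hq N hN hbot hpg

/-- The irreducible case over an algebraically closed field. -/
theorem alg_general (ℓ : ℕ) [Fact ℓ.Prime] [CharP K ℓ] (ρ : G →* End K V) (hirr : Irr ρ)
    {p : ℕ} (hp : p.Prime) (hp5 : 5 ≤ p) (x : G) (hx : x ^ p = 1)
    (hgen : Subgroup.normalClosure {x} = ⊤) (hx1 : ρ x ≠ 1) (IH : MTZ.{u} (Nat.card G)) :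
    2 * finrank K (LinearMap.ker (ρ x - 1)) < finrank K V := by
  have hcard : Nat.card (G ⧸ ρ.ker) ≤ Nat.card G := by
    have h1 := Subgroup.card_eq_card_quotient_mul_card_subgroup ρ.ker
    rw [h1]
    exact Nat.le_mul_of_pos_right _ Nat.card_pos
  have IH' : MTZ.{u} (Nat.card (G ⧸ ρ.ker)) := fun G' _ _ _ hG' => IH G' (lt_of_lt_of_le hG' hcard)
  have hne : (x : G ⧸ ρ.ker) ≠ 1 := by
    intro h
    exact hx1 ((QuotientGroup.eq_one_iff x).mp h)
  exact alg_core ℓ (liftQ ρ) (irr_liftQ ρ hirr) (liftQ_injective ρ) hp hp5 (x : G ⧸ ρ.ker)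
    (by rw [← QuotientGroup.mk_pow, hx]; rfl) (normalClosure_mk _ x hgen) hne IH'

end Core

section Sub

variable {K : Type*} [Field K] {M : Type*} [AddCommGroup M] [Module K M]
  {G : Type*} [Group G]

/-- The representation on a quotient by an invariant subspace. -/
def quotRep (ρ : G →* End K M) (S : Submodule K M) (hS : Inv ρ S) : G →* End K (M ⧸ S) where
  toFun g := S.mapQ S (ρ g) (fun v hv => hS g v hv)
  map_one' := by
    ext v
    simp
  map_mul' := by
    intro a b
    ext v
    simp

theorem quotRep_mk (ρ : G →* End K M) (S : Submodule K M) (hS : Inv ρ S) (g : G) (v : M) :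
    quotRep ρ S hS g (S.mkQ v) = S.mkQ (ρ g v) := rfl

/-- The dimension of the fixed space is subadditive along an invariant subspace. -/
theorem finrank_ker_le_add [FiniteDimensional K M] (f : End K M) (S : Submodule K M)
    (hS : ∀ v ∈ S, f v ∈ S) :
    finrank K (LinearMap.ker (f - 1)) ≤
      finrank K (LinearMap.ker ((f.restrict hS) - 1)) +
        finrank K (LinearMap.ker (S.mapQ S f (fun v hv => hS v hv) - 1)) := by
  let L : LinearMap.ker (f - 1) →ₗ[K] LinearMap.ker (S.mapQ S f (fun v hv => hS v hv) - 1) :=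
    LinearMap.codRestrict _ (S.mkQ ∘ₗ (LinearMap.ker (f - 1)).subtype) (by
      intro v
      have h := LinearMap.mem_ker.mp v.2
      rw [LinearMap.sub_apply, Module.End.one_apply, sub_eq_zero] at h
      rw [LinearMap.mem_ker, LinearMap.sub_apply, Module.End.one_apply, sub_eq_zero]
      show S.mapQ S f _ (S.mkQ (v : M)) = S.mkQ (v : M)
      show S.mkQ (f v) = S.mkQ (v : M)
      rw [h])
  have h1 := LinearMap.finrank_range_add_finrank_ker L
  have h2 : finrank K (LinearMap.range L) ≤
      finrank K (LinearMap.ker (S.mapQ S f (fun v hv => hS v hv) - 1)) :=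
    Submodule.finrank_le _
  let L' : LinearMap.ker L →ₗ[K] LinearMap.ker ((f.restrict hS) - 1) :=
    { toFun := fun v => ⟨⟨((v : LinearMap.ker (f - 1)) : M), by
          have h3 : L v = 0 := v.2
          have h4 : S.mkQ ((v : LinearMap.ker (f - 1)) : M) = 0 := congrArg Subtype.val h3
          rwa [Submodule.mkQ_apply, Submodule.Quotient.mk_eq_zero] at h4⟩, by
          have h := LinearMap.mem_ker.mp (v : LinearMap.ker (f - 1)).2
          rw [LinearMap.sub_apply, Module.End.one_apply, sub_eq_zero] at h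
          rw [LinearMap.mem_ker, LinearMap.sub_apply, Module.End.one_apply, sub_eq_zero]
          apply Subtype.ext
          exact h⟩
      map_add' := by intro a b; rfl
      map_smul' := by intro c a; rfl }
  have hL' : Function.Injective L' := by
    intro a b h
    have h3 : ((a : LinearMap.ker (f - 1)) : M) = ((b : LinearMap.ker (f - 1)) : M) :=
      congrArg (fun z : LinearMap.ker ((f.restrict hS) - 1) => ((z : S) : M)) h
    exact Subtype.ext (Subtype.ext h3)
  have h3 := LinearMap.finrank_le_finrank_of_injective hL'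
  omega

end Sub

section Modules

variable {G : Type u} [Group G] [Finite G] [Group.IsSolvable G]
  {K : Type v} [Field K] [IsAlgClosed K]

/-- The bound for all modules without trivial composition factors, detected by a norm. -/
theorem modules_bound (ℓ : ℕ) [Fact ℓ.Prime] [CharP K ℓ] (X : Subgroup G) [Fintype X] (hX : (Fintype.card X : K) ≠ 0)
    {p : ℕ} (hp : p.Prime) (hp5 : 5 ≤ p) (x : G) (hx : x ^ p = 1)
    (hgen : Subgroup.normalClosure {x} = ⊤) (IH : MTZ.{u} (Nat.card G)) (d : ℕ) :
    ∀ (M : Type w) [AddCommGroup M] [Module K M] [FiniteDimensional K M] (ρ : G →* End K M),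
      finrank K M = d → 0 < d → (∑ t : X, ρ t = 0) →
      2 * finrank K (LinearMap.ker (ρ x - 1)) < d := by
  induction d using Nat.strong_induction_on with
  | _ d ih =>
  intro M _ _ _ ρ hd hd0 hsum
  have hnt : Nontrivial M := Module.nontrivial_of_finrank_pos (R := K) (by omega)
  obtain ⟨S, -, hSinv, hSne, hSmin⟩ := exists_irr ρ ⊤ (fun _ _ _ => Submodule.mem_top) top_ne_bot
  have hSnt : Nontrivial S := Submodule.nontrivial_iff_ne_bot.mpr hSne
  let ρS : G →* End K S := restrictRep ρ S hSinv
  have hirr : Irr ρS := irr_restrict ρ S hSinv hSmin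
  have hρSc : ∀ g (v : S), ((ρS g v : S) : M) = ρ g v := fun g v => rfl
  -- no trivial composition factor
  have hρSx : ρS x ≠ 1 := by
    intro h
    have hle : Subgroup.normalClosure {x} ≤ ρS.ker := by
      refine Subgroup.normalClosure_le_normal ?_
      intro y hy
      have hyx : y = x := hy
      rw [hyx]
      exact (MonoidHom.mem_ker).mpr h
    rw [hgen] at hle
    obtain ⟨v, hv⟩ := exists_ne (0 : S)
    apply hv
    have h1 : (∑ t : X, ρ t) (v : M) = 0 := by rw [hsum]; rfl
    rw [LinearMap.sum_apply] at h1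
    have h2 : ∀ t : X, ρ t (v : M) = v := by
      intro t
      have h3 : ρS t = 1 := (MonoidHom.mem_ker).mp (hle trivial)
      have h4 := hρSc t v
      rw [h3] at h4
      exact h4.symm
    simp only [h2, Finset.sum_const, Finset.card_univ] at h1
    rw [← Nat.cast_smul_eq_nsmul K] at h1
    have h5 := (smul_eq_zero.mp h1).resolve_left hX
    exact Subtype.ext h5
  have hS := alg_general ℓ ρS hirr hp hp5 x hx hgen hρSx IH
  -- the quotient
  let ρQ : G →* End K (M ⧸ S) := quotRep ρ S hSinv
  have hQsum : (∑ t : X, ρQ t) = 0 := by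
    ext v
    show (∑ t : X, ρQ t) (S.mkQ v) = S.mkQ ((0 : End K M) v)
    rw [← hsum, LinearMap.sum_apply, LinearMap.sum_apply, map_sum]
    rfl
  have hsub := finrank_ker_le_add (ρ x) S (hSinv x)
  have hQ1 : finrank K (M ⧸ S) + finrank K S = d := by
    rw [Submodule.finrank_quotient_add_finrank, hd]
  have hSpos : 0 < finrank K S := Module.finrank_pos
  have hker1 : finrank K (LinearMap.ker (((ρ x).restrict (hSinv x)) - 1)) =
      finrank K (LinearMap.ker (ρS x - 1)) := rfl
  have hker2 : finrank K (LinearMap.ker (S.mapQ S (ρ x) (fun v hv => hSinv x v hv) - 1)) =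
      finrank K (LinearMap.ker (ρQ x - 1)) := rfl
  rw [hker1, hker2] at hsub
  by_cases hQ0 : finrank K (M ⧸ S) = 0
  · have hQst : Subsingleton (M ⧸ S) := Module.finrank_zero_iff.mp hQ0
    have h2 : finrank K (LinearMap.ker (ρQ x - 1)) = 0 := by
      have : Subsingleton (LinearMap.ker (ρQ x - 1)) := inferInstance
      exact Module.finrank_zero_of_subsingleton
    omega
  · have hQ2 := ih (finrank K (M ⧸ S)) (by omega) (M ⧸ S) ρQ rfl (by omega) hQsum
    omega

end Modules

section Final

open Cfsg.Agent.Lib.MinNorm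

variable {G : Type u} [Group G] [Finite G] [Group.IsSolvable G]

/-- Base change does not lower the dimension of a kernel. -/
theorem finrank_ker_le_baseChange {F E M : Type*} [Field F] [Field E] [Algebra F E] [AddCommGroup M]
    [Module F M] [FiniteDimensional F M] (A : M →ₗ[F] M) :
    finrank F (LinearMap.ker A) ≤ finrank E (LinearMap.ker (A.baseChange E)) := by
  let ι : E ⊗[F] (LinearMap.ker A) →ₗ[E] E ⊗[F] M := (LinearMap.ker A).subtype.baseChange E
  have hι : Function.Injective ι := by
    have h := Module.Flat.lTensor_preserves_injective_linearMap (M := E) (LinearMap.ker A).subtype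
      (Submodule.injective_subtype _)
    simp only [ι, LinearMap.baseChange_eq_ltensor]
    exact h
  let ι' : E ⊗[F] (LinearMap.ker A) →ₗ[E] LinearMap.ker (A.baseChange E) :=
    ι.codRestrict _ (by
      intro y
      rw [LinearMap.mem_ker]
      show (A.baseChange E) (((LinearMap.ker A).subtype.baseChange E) y) = 0
      rw [← LinearMap.comp_apply, ← LinearMap.baseChange_comp]
      have : A ∘ₗ (LinearMap.ker A).subtype = 0 := LinearMap.ext fun v => LinearMap.mem_ker.mp v.2
      rw [this, LinearMap.baseChange_zero]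
      rfl)
  have hι' : Function.Injective ι' := by
    intro a b h
    exact hι (congrArg Subtype.val h)
  have h1 := LinearMap.finrank_le_finrank_of_injective hι'
  rwa [Module.finrank_baseChange] at h1

/-- The faithful case. -/
theorem mt_faithful_aux {K : Type v} [Field K] (ℓ : ℕ) [Fact ℓ.Prime] [CharP K ℓ]
    (E : Type v) [Field E] [IsAlgClosed E] [Algebra K E]
    {V : Type w} [AddCommGroup V] [Module K V] [FiniteDimensional K V] [Nontrivial V]
    (ρ : G →* End K V) (hirr : Irr ρ) (hfaith : Function.Injective ρ)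
    {p : ℕ} (hp : p.Prime) (hp5 : 5 ≤ p) (x : G) (hx : x ^ p = 1)
    (hgen : Subgroup.normalClosure {x} = ⊤) (hx1 : x ≠ 1) (IH : MTZ.{u} (Nat.card G)) :
    2 * finrank K (LinearMap.ker (ρ x - 1)) < finrank K V := by
  classical
  -- a minimal normal subgroup
  have htop : (⊤ : Subgroup G) ≠ ⊥ := by
    intro h
    have : x ∈ (⊥ : Subgroup G) := by rw [← h]; trivial
    exact hx1 (Subgroup.mem_bot.mp this)
  obtain ⟨X, hXn, hXbot, -, hXmin⟩ := exists_minimal_normal_le (⊤ : Subgroup G) inferInstance htop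
  obtain ⟨r, hr, hXc, hXe⟩ := minimal_normal_abelian X hXbot hXmin
  letI : Fintype X := Fintype.ofFinite X
  haveI : Fact r.Prime := ⟨hr⟩
  have hXp : IsPGroup r X := isPGroup_of_exponent hXe
  have hXcard : (Fintype.card X : K) ≠ 0 := by
    rw [← Nat.card_eq_fintype_card]
    exact card_ne_zero_of_pgroup (ℓ := ℓ) ρ hirr hfaith r ⟨hr⟩ X hXn hXbot hXp
  -- the norm vanishes
  have hsum : ∑ t : X, ρ t = 0 := by
    let F : Submodule K V :=
      { carrier := {v | ∀ n ∈ X, ρ n v = v}
        add_mem' := by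
          intro a b ha hb n hn
          rw [map_add, ha n hn, hb n hn]
        zero_mem' := by intro n _; simp
        smul_mem' := by
          intro c a ha n hn
          rw [map_smul, ha n hn] }
    have hF : F = ⊥ := by
      refine (hirr F ?_).resolve_right ?_
      · intro g w hw n hn
        have h1 := hw (g⁻¹ * n * g) (by
          have := hXn.conj_mem n hn g⁻¹
          simpa using this)
        have h2 : ρ n (ρ g w) = ρ g (ρ (g⁻¹ * n * g) w) := by
          rw [← Module.End.mul_apply, ← Module.End.mul_apply, ← map_mul, ← map_mul]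
          congr 2
          group
        rw [h2, h1]
      · intro hb
        apply hXbot
        rw [eq_bot_iff]
        intro n hn
        have h1 : ρ n = 1 := by
          ext w
          have : w ∈ F := by rw [hb]; trivial
          exact this n hn
        exact (Subgroup.mem_bot).mpr (hfaith (by rw [h1, map_one]))
    ext v
    have h1 : (∑ t : X, ρ t) v ∈ F := by
      intro n hn
      rw [LinearMap.sum_apply, map_sum]
      rw [← Equiv.sum_comp (Equiv.mulLeft (⟨n, hn⟩ : X)) (fun t : X => ρ t v)]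
      refine Finset.sum_congr rfl fun t _ => ?_
      simp only [Equiv.coe_mulLeft, Subgroup.coe_mul, map_mul, Module.End.mul_apply]
    rw [hF] at h1
    exact (Submodule.mem_bot _).mp h1
  -- base change
  have hcharE : CharP E ℓ := charP_of_injective_algebraMap (algebraMap K E).injective ℓ
  let bc := Module.End.baseChangeHom K E V
  have hbc : ∀ f, bc f = f.baseChange E := fun f => rfl
  let ρE : G →* End E (E ⊗[K] V) := (bc : End K V →* End E (E ⊗[K] V)).comp ρ
  have hρE : ∀ g, ρE g = bc (ρ g) := fun g => rfl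
  have hsumE : ∑ t : X, ρE t = 0 := by
    have h1 : ∑ t : X, ρE t = bc (∑ t : X, ρ t) := by
      rw [map_sum]
      rfl
    rw [h1, hsum, map_zero]
  have hXcardE : (Fintype.card X : E) ≠ 0 := by
    intro h
    apply hXcard
    have h2 : algebraMap K E (Fintype.card X : K) = 0 := by
      rw [map_natCast]
      exact h
    exact (map_eq_zero_iff _ (algebraMap K E).injective).mp h2
  have hdimE : finrank E (E ⊗[K] V) = finrank K V := Module.finrank_baseChange
  have hpos : 0 < finrank K V := Module.finrank_pos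
  have hmain := modules_bound ℓ X hXcardE hp hp5 x hx hgen IH (finrank K V) (E ⊗[K] V) ρE hdimE hpos hsumE
  have hle := finrank_ker_le_baseChange (E := E) (ρ x - 1)
  have he : LinearMap.baseChange E (ρ x - 1) = ρE x - 1 := by
    rw [LinearMap.baseChange_sub, hρE, hbc]
    congr 1
    exact LinearMap.baseChange_id
  rw [he] at hle
  omega

/-- The faithful case. -/
theorem mt_faithful {K : Type v} [Field K] (ℓ : ℕ) [Fact ℓ.Prime] [CharP K ℓ]
    {V : Type w} [AddCommGroup V] [Module K V] [FiniteDimensional K V] [Nontrivial V]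
    (ρ : G →* End K V) (hirr : Irr ρ) (hfaith : Function.Injective ρ)
    {p : ℕ} (hp : p.Prime) (hp5 : 5 ≤ p) (x : G) (hx : x ^ p = 1)
    (hgen : Subgroup.normalClosure {x} = ⊤) (hx1 : x ≠ 1) (IH : MTZ.{u} (Nat.card G)) :
    2 * finrank K (LinearMap.ker (ρ x - 1)) < finrank K V :=
  mt_faithful_aux ℓ (AlgebraicClosure K) ρ hirr hfaith hp hp5 x hx hgen hx1 IH

/-- The general case. -/
theorem mt_general {K : Type v} [Field K] (ℓ : ℕ) [Fact ℓ.Prime] [CharP K ℓ]
    {V : Type w} [AddCommGroup V] [Module K V] [FiniteDimensional K V]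
    (ρ : G →* End K V) (hirr : Irr ρ)
    {p : ℕ} (hp : p.Prime) (hp5 : 5 ≤ p) (x : G) (hx : x ^ p = 1)
    (hgen : Subgroup.normalClosure {x} = ⊤) (hx1 : ρ x ≠ 1) (IH : MTZ.{u} (Nat.card G)) :
    2 * finrank K (LinearMap.ker (ρ x - 1)) < finrank K V := by
  have hnt : Nontrivial V := by
    by_contra hcon
    rw [not_nontrivial_iff_subsingleton] at hcon
    apply hx1
    ext v
    exact Subsingleton.elim _ _
  have hcard : Nat.card (G ⧸ ρ.ker) ≤ Nat.card G := by
    have h1 := Subgroup.card_eq_card_quotient_mul_card_subgroup ρ.ker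
    rw [h1]
    exact Nat.le_mul_of_pos_right _ Nat.card_pos
  have IH' : MTZ.{u} (Nat.card (G ⧸ ρ.ker)) := fun G' _ _ _ hG' => IH G' (lt_of_lt_of_le hG' hcard)
  have hne : (x : G ⧸ ρ.ker) ≠ 1 := by
    intro h
    exact hx1 ((QuotientGroup.eq_one_iff x).mp h)
  exact mt_faithful ℓ (liftQ ρ) (irr_liftQ ρ hirr) (liftQ_injective ρ) hp hp5 (x : G ⧸ ρ.ker)
    (by rw [← QuotientGroup.mk_pow, hx]; rfl) (normalClosure_mk _ x hgen) hne IH'

/-- The prime field case, by induction on the order of the group. -/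
theorem mtz_all : ∀ n, MTZ.{u} n := by
  intro n
  induction n with
  | zero =>
    intro G _ _ _ hG
    exact absurd hG (Nat.not_lt_zero _)
  | succ n ih =>
    intro G _ _ _ hG p hp hp5 x hx hgen q _ T _ _ _ ρ hirr hx1
    have : Fact q.Prime := inferInstance
    have hfd : Module.Finite (ZMod q) T := Module.Finite.of_finite
    have hIH : MTZ.{u} (Nat.card G) := fun G' _ _ _ hG' => ih G' (by omega)
    exact mt_general q ρ hirr hp hp5 x hx hgen hx1 hIH

/-- **The main theorem.** -/
theorem main {K : Type v} [Field K] (ℓ : ℕ) [Fact ℓ.Prime] [CharP K ℓ]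
    {V : Type w} [AddCommGroup V] [Module K V] [FiniteDimensional K V]
    (ρ : G →* End K V) (hirr : Irr ρ)
    {p : ℕ} (hp : p.Prime) (hp5 : 5 ≤ p) (x : G) (hx : x ^ p = 1)
    (hgen : Subgroup.normalClosure {x} = ⊤) (hx1 : ρ x ≠ 1) :
    2 * finrank K (LinearMap.ker (ρ x - 1)) < finrank K V :=
  mt_general ℓ ρ hirr hp hp5 x hx hgen hx1 (mtz_all _)

end Final

end Cfsg.Agent.Lib.FlavMTMain
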