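import Mathlib
import Cfsg.Agent.Lib.Glauberman
import Cfsg.Agent.Lib.WardNonab
import Cfsg.Agent.Lib.FlavMTMain

/-!
The module section used in the statement on maximal solvable subgroups generated by two conjugates
of a subgroup of prime order.
-/

set_option autoImplicit false
set_option linter.unusedSectionVars false
set_option linter.unusedVariables false
set_option linter.style.haveILetI false

namespace Cfsg.Agent.Lib.FlavS22

open Module Cfsg.Agent.Lib.WardNonab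
open Cfsg.Agent.Lib.HHCrit (Irr)
open scoped commutatorElement Pointwise

universe u

variable {G : Type u} [Group G]

theorem le_normalizer_of_conj {A S : Subgroup G} (h : ∀ a ∈ A, ∀ z ∈ S, a * z * a⁻¹ ∈ S) :
    A ≤ Subgroup.normalizer (S : Set G) := by
  intro a ha
  refine Subgroup.mem_normalizer_iff.mpr fun z => ⟨fun hz => h a ha z hz, fun hz => ?_⟩
  have h1 := h a⁻¹ (A.inv_mem ha) _ hz
  simpa [mul_assoc] using h1

theorem normalizer_commutator {H₁ H₂ : Subgroup G} {a : G}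
    (h1 : a ∈ Subgroup.normalizer (H₁ : Set G)) (h2 : a ∈ Subgroup.normalizer (H₂ : Set G)) :
    a ∈ Subgroup.normalizer ((⁅H₁, H₂⁆ : Subgroup G) : Set G) := by
  rw [Subgroup.mem_normalizer_iff_map_conj_eq] at *
  rw [Subgroup.map_commutator, h1, h2]

/-- The standing assumptions on a section. -/
structure Setup (A R R₁ E : Subgroup G) (r : ℕ) : Prop where
  hRr : IsPGroup r R
  hEA : E ≤ A
  hAR : A ≤ Subgroup.normalizer (R : Set G)
  hAE : A ≤ Subgroup.normalizer (E : Set G)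
  hR₁ : R₁ = R ⊓ Subgroup.centralizer (E : Set G)
  hcop : (Nat.card E).Coprime r
  hcomm : ⁅R, E⁆ = R
  hnc : ¬ R ≤ R₁
  hmin : ∀ S : Subgroup G, S ≤ R → A ≤ Subgroup.normalizer (S : Set G) → S = R ∨ S ≤ R₁
  hAR₁ : A ⊓ R ≤ R₁

namespace Setup

variable {A R R₁ E : Subgroup G} {r : ℕ} [Fact r.Prime] (h : Setup A R R₁ E r)

include h

theorem le_R : R₁ ≤ R := by
  rw [h.hR₁]
  exact inf_le_left

theorem mem_R₁ {z : G} : z ∈ R₁ ↔ z ∈ R ∧ ∀ e ∈ E, e * z = z * e := by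
  rw [h.hR₁]
  constructor
  · rintro ⟨h1, h2⟩
    exact ⟨h1, fun e he => Subgroup.mem_centralizer_iff.mp h2 e he⟩
  · rintro ⟨h1, h2⟩
    exact ⟨h1, Subgroup.mem_centralizer_iff.mpr h2⟩

theorem conj_R {a z : G} (ha : a ∈ A) (hz : z ∈ R) : a * z * a⁻¹ ∈ R :=
  (Subgroup.mem_normalizer_iff.mp (h.hAR ha) z).mp hz

theorem conj_E {a z : G} (ha : a ∈ A) (hz : z ∈ E) : a * z * a⁻¹ ∈ E :=
  (Subgroup.mem_normalizer_iff.mp (h.hAE ha) z).mp hz

/-- `A` acts on `R₁`. -/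
theorem conj_R₁ {a z : G} (ha : a ∈ A) (hz : z ∈ R₁) : a * z * a⁻¹ ∈ R₁ := by
  rw [h.mem_R₁] at hz ⊢
  refine ⟨h.conj_R ha hz.1, fun e he => ?_⟩
  have h1 : a⁻¹ * e * a ∈ E := by
    have := h.conj_E (A.inv_mem ha) he
    simpa using this
  have h2 := hz.2 _ h1
  calc e * (a * z * a⁻¹) = a * ((a⁻¹ * e * a) * z) * a⁻¹ := by group
    _ = a * (z * (a⁻¹ * e * a)) * a⁻¹ := by rw [h2]
    _ = _ := by group

theorem hAR₁n : A ≤ Subgroup.normalizer (R₁ : Set G) :=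
  le_normalizer_of_conj fun _ ha _ hz => h.conj_R₁ ha hz

theorem ne_bot_R : ∃ z ∈ R, z ∉ R₁ := by
  by_contra hcon
  push Not at hcon
  exact h.hnc hcon

theorem comm_mem [Finite G] {u v : G} (hu : u ∈ R) (hv : v ∈ R) : ⁅u, v⁆ ∈ R₁ := by
  have hle : ⁅R, R⁆ ≤ R := by
    rw [Subgroup.commutator_le]
    intro a ha b hb
    rw [commutatorElement_def]
    exact R.mul_mem (R.mul_mem (R.mul_mem ha hb) (R.inv_mem ha)) (R.inv_mem hb)
  have hA : A ≤ Subgroup.normalizer ((⁅R, R⁆ : Subgroup G) : Set G) :=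
    fun a ha => normalizer_commutator (h.hAR ha) (h.hAR ha)
  have hne : ⁅R, R⁆ ≠ R := by
    intro heq
    obtain ⟨z, hz, -⟩ := h.ne_bot_R
    have hnt : Nontrivial R := by
      obtain ⟨z', hz', hz''⟩ := h.ne_bot_R
      refine ⟨⟨⟨z', hz'⟩, 1, ?_⟩⟩
      intro h1
      have h2 : z' = 1 := congrArg Subtype.val h1
      apply hz''
      rw [h2]
      exact Subgroup.one_mem _
    have : Group.IsSolvable R := by
      have := (h.hRr.isNilpotent)
      infer_instance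
    have h1 := Group.IsSolvable.commutator_lt_top_of_nontrivial R
    have h2 : (commutator R).map R.subtype = ⁅R, R⁆ := Subgroup.map_subtype_commutator R
    apply ne_of_lt h1
    apply Subgroup.map_injective R.subtype_injective
    rw [h2, heq, ← MonoidHom.range_eq_map, Subgroup.range_subtype]
  have := (h.hmin _ hle hA).resolve_left hne
  exact this (Subgroup.commutator_mem_commutator hu hv)

theorem conj_R₁' [Finite G] {v z : G} (hv : v ∈ R) (hz : z ∈ R₁) : v * z * v⁻¹ ∈ R₁ := by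
  have h1 := h.comm_mem hv (h.le_R hz)
  rw [commutatorElement_def] at h1
  have h2 : v * z * v⁻¹ = (v * z * v⁻¹ * z⁻¹) * z := by group
  rw [h2]
  exact R₁.mul_mem h1 hz

theorem pow_mem [Finite G] {u : G} (hu : u ∈ R) : u ^ r ∈ R₁ := by
  classical
  let N : Subgroup R := R₁.subgroupOf R
  have hNn : N.Normal := by
    refine ⟨fun n hn g => ?_⟩
    exact h.conj_R₁' g.2 hn
  let π : R →* R ⧸ N := QuotientGroup.mk' N
  have hπ1 : ∀ t : R, π t = 1 ↔ (t : G) ∈ R₁ := fun t => QuotientGroup.eq_one_iff t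
  have hπc : ∀ s t : R, Commute (π s) (π t) := by
    intro s t
    have h1 := (hπ1 ⁅s, t⁆).mpr (h.comm_mem s.2 t.2)
    rw [commutatorElement_def] at h1
    simp only [map_mul, map_inv] at h1
    show π s * π t = π t * π s
    calc π s * π t = (π s * π t * (π s)⁻¹ * (π t)⁻¹) * (π t * π s) := by group
      _ = π t * π s := by rw [h1, one_mul]
  let M₀ : Subgroup R :=
    { carrier := {s | π s ^ r = 1}
      mul_mem' := by
        intro a b ha hb
        show π (a * b) ^ r = 1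
        rw [map_mul, (hπc a b).mul_pow, ha, hb, one_mul]
      one_mem' := by
        show π 1 ^ r = 1
        simp
      inv_mem' := by
        intro a ha
        show π a⁻¹ ^ r = 1
        rw [map_inv, inv_pow, ha, inv_one] }
  let M : Subgroup G := M₀.map R.subtype
  have hMle : M ≤ R := Subgroup.map_subtype_le _
  have hMA : A ≤ Subgroup.normalizer (M : Set G) := by
    refine le_normalizer_of_conj ?_
    rintro a ha _ ⟨s, hs, rfl⟩
    refine ⟨⟨a * s * a⁻¹, h.conj_R ha s.2⟩, ?_, rfl⟩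
    show π ⟨a * s * a⁻¹, h.conj_R ha s.2⟩ ^ r = 1
    rw [← map_pow, hπ1]
    have h1 : π (s ^ r) = 1 := by rw [map_pow]; exact hs
    rw [hπ1] at h1
    have h2 := h.conj_R₁ ha h1
    have h3 : ((⟨a * s * a⁻¹, h.conj_R ha s.2⟩ ^ r : R) : G) = a * ((s ^ r : R) : G) * a⁻¹ := by
      simp only [SubmonoidClass.coe_pow]
      rw [conj_pow]
    rw [h3]
    exact h2
  have hMne : ¬ M ≤ R₁ := by
    obtain ⟨s, hs, hsc⟩ := h.ne_bot_R
    obtain ⟨k, hk⟩ := h.hRr ⟨s, hs⟩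
    have hk' : s ^ (r ^ k) = 1 := congrArg Subtype.val hk
    have hex : ∃ i, s ^ (r ^ i) ∈ R₁ := ⟨k, by rw [hk']; exact Subgroup.one_mem _⟩
    have hi0 : Nat.find hex ≠ 0 := by
      intro h0
      have h1 := Nat.find_spec hex
      rw [h0, pow_zero, pow_one] at h1
      exact hsc h1
    obtain ⟨i, hi⟩ := Nat.exists_eq_succ_of_ne_zero hi0
    have h2 : ¬ s ^ (r ^ i) ∈ R₁ := Nat.find_min hex (by omega)
    have h3 : (s ^ (r ^ i)) ^ r ∈ R₁ := by
      have h1 := Nat.find_spec hex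
      rw [hi, Nat.succ_eq_add_one, pow_succ, pow_mul] at h1
      exact h1
    intro hle
    apply h2
    apply hle
    have hmem : s ^ (r ^ i) ∈ R := R.pow_mem hs _
    refine ⟨⟨s ^ (r ^ i), hmem⟩, ?_, rfl⟩
    show π ⟨s ^ (r ^ i), hmem⟩ ^ r = 1
    rw [← map_pow, hπ1]
    exact h3
  have hMR : M = R := (h.hmin M hMle hMA).resolve_right hMne
  have h1 : u ∈ M := by rw [hMR]; exact hu
  obtain ⟨s, hs, rfl⟩ := h1
  have h2 : π s ^ r = 1 := hs
  rw [← map_pow, hπ1] at h2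
  exact h2

/-- A version of "no fixed points on the section". -/
theorem mem_of_forall_comm [Finite G] {u : G} (hu : u ∈ R) (hue : ∀ e ∈ E, ⁅u, e⁆ ∈ R₁) : u ∈ R₁ := by
  let S : Subgroup G :=
    { carrier := {u | u ∈ R ∧ ∀ e ∈ E, ⁅u, e⁆ ∈ R₁}
      mul_mem' := by
        rintro a b ⟨ha, ha'⟩ ⟨hb, hb'⟩
        refine ⟨R.mul_mem ha hb, fun e he => ?_⟩
        have h1 : ⁅a * b, e⁆ = (a * ⁅b, e⁆ * a⁻¹) * ⁅a, e⁆ := by
          simp only [commutatorElement_def]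
          group
        rw [h1]
        exact R₁.mul_mem (h.conj_R₁' ha (hb' e he)) (ha' e he)
      one_mem' := ⟨R.one_mem, fun e _ => by simp⟩
      inv_mem' := by
        rintro a ⟨ha, ha'⟩
        refine ⟨R.inv_mem ha, fun e he => ?_⟩
        have h1 : ⁅a⁻¹, e⁆ = a⁻¹ * ⁅a, e⁆⁻¹ * a := by
          simp only [commutatorElement_def]
          group
        rw [h1]
        have h2 := h.conj_R₁' (R.inv_mem ha) (R₁.inv_mem (ha' e he))
        simpa using h2 }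
  have hSle : S ≤ R := fun a ha => ha.1
  have hSA : A ≤ Subgroup.normalizer (S : Set G) := by
    refine le_normalizer_of_conj ?_
    rintro a ha z ⟨hz, hz'⟩
    refine ⟨h.conj_R ha hz, fun e he => ?_⟩
    have h1 : a⁻¹ * e * a ∈ E := by
      have := h.conj_E (A.inv_mem ha) he
      simpa using this
    have h2 := h.conj_R₁ ha (hz' _ h1)
    have h3 : ⁅a * z * a⁻¹, e⁆ = a * ⁅z, a⁻¹ * e * a⁆ * a⁻¹ := by
      simp only [commutatorElement_def]
      group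
    rw [h3]
    exact h2
  have hSne : S ≠ R := by
    intro heq
    apply h.hnc
    rw [← h.hcomm, Subgroup.commutator_le]
    intro g₁ hg₁ g₂ hg₂
    have : g₁ ∈ S := by rw [heq]; exact hg₁
    exact this.2 g₂ hg₂
  exact (h.hmin S hSle hSA).resolve_left hSne ⟨hu, hue⟩

end Setup

section Case1

variable {A R R₁ E : Subgroup G} {r : ℕ} [Fact r.Prime] [Finite G]

/-- An element is a power of its product with a commuting element of coprime order. -/
theorem mem_of_mul_mem {B : Subgroup G} {e w b : G} {n k : ℕ} (hn : e ^ n = 1) (hk : w ^ k = 1)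
    (hc : Nat.Coprime n k) (hew : e * w = w * e) (hb : b = e * w⁻¹) (hbB : b ∈ B) : e ∈ B := by
  have hgcd := Nat.gcd_eq_gcd_ab k n
  rw [Nat.gcd_comm, hc] at hgcd
  have hcomm : Commute e w⁻¹ := (show Commute e w from hew).inv_right
  have h1 : b ^ ((k : ℤ) * Nat.gcdA k n) = e := by
    rw [hb, hcomm.mul_zpow]
    have h2 : (w⁻¹) ^ ((k : ℤ) * Nat.gcdA k n) = 1 := by
      rw [zpow_mul, zpow_natCast, inv_pow, hk, inv_one, one_zpow]
    have h3 : e ^ ((k : ℤ) * Nat.gcdA k n) = e := by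
      have h4 : ((k : ℤ) * Nat.gcdA k n) = 1 - n * Nat.gcdB k n := by
        have : ((1 : ℕ) : ℤ) = k * Nat.gcdA k n + n * Nat.gcdB k n := by
          rw [← hgcd]
        push_cast at this
        linarith
      rw [h4, zpow_sub, zpow_one, zpow_mul, zpow_natCast, hn, one_zpow, inv_one, mul_one]
    rw [h2, h3, mul_one]
  rw [← h1]
  exact B.zpow_mem hbB _

/-- If `R` lies in `B R₁`, then it lies in `B`. -/
theorem le_of_le_sup (h : Setup A R R₁ E r) {B : Subgroup G}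
    (hBn : B ≤ Subgroup.normalizer (R₁ : Set G)) (hle : R ≤ B ⊔ R₁)
    (hAB : ∀ c ∈ A, ∃ b ∈ B, ∃ v ∈ R, c = b * v) : R ≤ B := by
  have hsup : ((B ⊔ R₁ : Subgroup G) : Set G) = (B : Set G) * (R₁ : Set G) :=
    Subgroup.coe_mul_of_left_le_normalizer_right B R₁ hBn
  have hdec : ∀ z ∈ R, ∃ b ∈ B, ∃ w ∈ R₁, z = b * w := by
    intro z hz
    have h1 : z ∈ ((B ⊔ R₁ : Subgroup G) : Set G) := hle hz
    rw [hsup] at h1
    obtain ⟨b, hb, w, hw, rfl⟩ := Set.mem_mul.mp h1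
    exact ⟨b, hb, w, hw, rfl⟩
  have hEB : E ≤ B := by
    intro e he
    obtain ⟨b, hb, v, hv, hbv⟩ := hAB e (h.hEA he)
    obtain ⟨b', hb', w, hw, hbw⟩ := hdec v hv
    rw [hbw, ← mul_assoc] at hbv
    have hew : e * w = w * e := (h.mem_R₁.mp hw).2 e he
    have he1 : e ^ Nat.card E = 1 := by
      have : (⟨e, he⟩ : E) ^ Nat.card E = 1 := pow_card_eq_one'
      exact congrArg Subtype.val this
    obtain ⟨k, hk⟩ := h.hRr ⟨w, h.le_R hw⟩
    have hk' : w ^ (r ^ k) = 1 := congrArg Subtype.val hk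
    refine mem_of_mul_mem he1 hk' (Nat.Coprime.pow_right k h.hcop) hew ?_ (B.mul_mem hb hb')
    rw [hbv]
    group
  intro z hz
  rw [← h.hcomm] at hz
  have hz' : ⁅R, E⁆ ≤ B := by
    rw [Subgroup.commutator_le]
    intro v hv e he
    obtain ⟨b, hb, w, hw, rfl⟩ := hdec v hv
    have hew : e * w = w * e := (h.mem_R₁.mp hw).2 e he
    have h1 : ⁅b * w, e⁆ = ⁅b, e⁆ := by
      simp only [commutatorElement_def]
      have h2 : b * w * e * (b * w)⁻¹ * e⁻¹ = b * (w * e) * w⁻¹ * b⁻¹ * e⁻¹ := by group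
      rw [h2, ← hew]
      group
    rw [h1, commutatorElement_def]
    exact B.mul_mem (B.mul_mem (B.mul_mem hb (hEB he)) (B.inv_mem hb)) (B.inv_mem (hEB he))
  exact hz' hz

end Case1

section Section

variable {A R R₁ E : Subgroup G} {r : ℕ} [hr : Fact r.Prime] [Finite G]
  {T : Type*} [AddCommGroup T] [Module (ZMod r) T]
  {π : R → T} {ρ : A →* Module.End (ZMod r) T}

/-- Fixed vectors in the section. -/
theorem fixed_of_conj (h : Setup A R R₁ E r) (hπ1 : ∀ s t, π (s * t) = π s + π t)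
    (hπ2 : ∀ s : R, π s = 0 ↔ (s : G) ∈ R₁)
    (hρ : ∀ (a : A) (z w : R), (w : G) = a * z * (a : G)⁻¹ → ρ a (π z) = π w)
    (s : R) (c : A) (a' v₁ : G) (ha' : a' ∈ A) (hv₁ : v₁ ∈ R₁)
    (heq : (s : G) * c * (s : G)⁻¹ = a' * v₁) : ρ c (π s) = π s := by
  have hπone : π 1 = 0 := (hπ2 1).mpr (Subgroup.one_mem _)
  have hπinv : ∀ s, π s⁻¹ = - π s := by
    intro s
    have h2 := hπ1 s⁻¹ s
    rw [inv_mul_cancel, hπone] at h2
    exact eq_neg_of_add_eq_zero_left h2.symm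
  have hcR : (c : G) * (s : G)⁻¹ * (c : G)⁻¹ ∈ R := h.conj_R c.2 (R.inv_mem s.2)
  let w : R := ⟨(c : G) * (s : G)⁻¹ * (c : G)⁻¹, hcR⟩
  have hw : ρ c (π s⁻¹) = π w := hρ c s⁻¹ w rfl
  have hz : ((s * w : R) : G) ∈ R₁ := by
    have h1 : ((s * w : R) : G) = (a' * (c : G)⁻¹) * ((c : G) * v₁ * (c : G)⁻¹) := by
      show (s : G) * ((c : G) * (s : G)⁻¹ * (c : G)⁻¹) = _
      calc (s : G) * ((c : G) * (s : G)⁻¹ * (c : G)⁻¹) = ((s : G) * c * (s : G)⁻¹) * (c : G)⁻¹ := by group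
        _ = (a' * v₁) * (c : G)⁻¹ := by rw [heq]
        _ = _ := by group
    have h2 := h.conj_R₁ c.2 hv₁
    have h3 : a' * (c : G)⁻¹ ∈ A ⊓ R := by
      refine ⟨A.mul_mem ha' (A.inv_mem c.2), ?_⟩
      have h4 : a' * (c : G)⁻¹ = ((s * w : R) : G) * ((c : G) * v₁ * (c : G)⁻¹)⁻¹ := by
        rw [h1]; group
      rw [h4]
      exact R.mul_mem (s * w).2 (R.inv_mem (h.le_R h2))
    rw [h1]
    exact R₁.mul_mem (h.hAR₁ h3) h2
  have h5 := (hπ2 _).mpr hz
  rw [hπ1, ← hw, hπinv, map_neg] at h5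
  exact (add_neg_eq_zero.mp h5).symm

/-- The averaging argument. -/
theorem exists_conj_mem (h : Setup A R R₁ E r) (hπ1 : ∀ s t, π (s * t) = π s + π t)
    (hπ2 : ∀ s : R, π s = 0 ↔ (s : G) ∈ R₁) (hπ3 : Function.Surjective π)
    (hρ : ∀ (a : A) (z w : R), (w : G) = a * z * (a : G)⁻¹ → ρ a (π z) = π w)
    {B : Subgroup G} (hBn : B ≤ Subgroup.normalizer (R : Set G))
    (hAB : ∀ c ∈ A, ∃ b ∈ B, ∃ v ∈ R, c = b * v)
    (hS : ∀ z ∈ R, z ∈ B ⊔ R₁ → z ∈ R₁) :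
    ∃ u : R, ∀ f ∈ E, (u : G) * f * (u : G)⁻¹ ∈ B ⊔ R₁ := by
  classical
  have hπone : π 1 = 0 := (hπ2 1).mpr (Subgroup.one_mem _)
  have hπinv : ∀ s, π s⁻¹ = - π s := by
    intro s
    have h2 := hπ1 s⁻¹ s
    rw [inv_mul_cancel, hπone] at h2
    exact eq_neg_of_add_eq_zero_left h2.symm
  letI : Fintype E := Fintype.ofFinite E
  have hch : ∀ f : E, ∃ b : G, ∃ v : R, b ∈ B ∧ (f : G) = b * v := by
    intro f
    obtain ⟨b, hb, v, hv, hf⟩ := hAB f (h.hEA f.2)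
    exact ⟨b, ⟨v, hv⟩, hb, hf⟩
  choose b v hb hf using hch
  let F : E → T := fun f => π (v f)
  let f' : E → A := fun f => ⟨f, h.hEA f.2⟩
  have hconjπ : ∀ s z w : R, (w : G) = s * z * (s : G)⁻¹ → π w = π z := by
    intro s z w hw
    have h1 : w = s * z * s⁻¹ := Subtype.ext hw
    rw [h1, hπ1, hπ1, hπinv]
    abel
  -- conjugation by `b f`
  have hbconj : ∀ (f : E) (s w : R), (w : G) = (b f)⁻¹ * s * b f → π w = ρ (f' f)⁻¹ (π s) := by
    intro f s w hw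
    have hmem : (f : G)⁻¹ * s * f ∈ R := by
      have := h.conj_R (A.inv_mem (f' f).2) s.2
      simpa [f'] using this
    have h1 := hρ (f' f)⁻¹ s ⟨(f : G)⁻¹ * s * f, hmem⟩ (by simp [f'])
    rw [h1]
    refine hconjπ (v f) _ w ?_
    rw [hw]
    have h2 : b f = (f : G) * ((v f : R) : G)⁻¹ := by
      rw [hf f]; group
    rw [h2]
    show _ = ((v f : R) : G) * ((f : G)⁻¹ * s * f) * ((v f : R) : G)⁻¹
    group
  have hbR : ∀ (f : E) (s : R), (b f)⁻¹ * s * b f ∈ R := by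
    intro f s
    have h1 := (Subgroup.mem_normalizer_iff.mp (hBn (B.inv_mem (hb f))) s).mp s.2
    simpa using h1
  -- the cocycle identity
  have hcoc : ∀ e f : E, F (e * f) = ρ (f' f)⁻¹ (F e) + F f := by
    intro e f
    let w₁ : R := ⟨(b f)⁻¹ * v e * b f, hbR f (v e)⟩
    have h1 : π w₁ = ρ (f' f)⁻¹ (F e) := hbconj f (v e) w₁ rfl
    let z : R := v (e * f) * (v f)⁻¹ * w₁⁻¹
    have hzval : (z : G) = (b (e * f))⁻¹ * (b e * b f) := by
      have h2 : (e * f : E) = (e : G) * f := rfl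
      have h3 := hf (e * f)
      rw [Subgroup.coe_mul, hf e, hf f] at h3
      have h4 : ((v (e * f) : R) : G) = (b (e * f))⁻¹ * (b e * (v e : G) * (b f * (v f : G))) := by
        rw [h3]; group
      show ((v (e * f) : R) : G) * ((v f : R) : G)⁻¹ * ((b f)⁻¹ * (v e : G) * b f)⁻¹ = _
      rw [h4]
      group
    have hzB : (z : G) ∈ B ⊔ R₁ := by
      rw [hzval]
      exact Subgroup.mem_sup_left (B.mul_mem (B.inv_mem (hb _)) (B.mul_mem (hb e) (hb f)))
    have hz0 := (hπ2 z).mpr (hS z z.2 hzB)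
    have hz1 : π z = F (e * f) - F f - π w₁ := by
      show π (v (e * f) * (v f)⁻¹ * w₁⁻¹) = _
      rw [hπ1, hπ1, hπinv, hπinv]
      show π (v (e * f)) + -π (v f) + -π w₁ = _
      abel
    rw [hz1, h1] at hz0
    rw [sub_eq_zero, sub_eq_iff_eq_add] at hz0
    rw [hz0]
  -- averaging
  set t : T := ∑ e, F e with ht
  have hsum : ∀ f : E, t = ρ (f' f)⁻¹ t + Fintype.card E • F f := by
    intro f
    have h1 : t = ∑ e, F (e * f) := by
      rw [ht]
      exact (Equiv.sum_comp (Equiv.mulRight f) F).symm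
    have h2 : ∑ e, F (e * f) = ρ (f' f)⁻¹ t + Fintype.card E • F f := by
      simp only [hcoc, Finset.sum_add_distrib, Finset.sum_const, Finset.card_univ]
      rw [ht, map_sum]
    exact h1.trans h2
  have hcard1 : Nat.Coprime (Fintype.card E) r := by
    rw [← Nat.card_eq_fintype_card]
    exact h.hcop
  obtain ⟨m, -, hm⟩ := Nat.exists_mul_mod_eq_one_of_coprime hcard1 hr.out.one_lt
  have hmτ : ∀ τ : T, m • (Fintype.card E • τ) = τ := by
    intro τ
    rw [← mul_nsmul']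
    rw [← Nat.cast_smul_eq_nsmul (ZMod r)]
    have h1 : ((m * Fintype.card E : ℕ) : ZMod r) = 1 := by
      rw [mul_comm, ← ZMod.natCast_mod, hm, Nat.cast_one]
    rw [h1, one_smul]
  set w₀ : T := m • t with hw₀
  have hF : ∀ f : E, F f = w₀ - ρ (f' f)⁻¹ w₀ := by
    intro f
    have h1 := hsum f
    have h2 : Fintype.card E • F f = t - ρ (f' f)⁻¹ t := by
      rw [eq_sub_iff_add_eq, add_comm]
      exact h1.symm
    rw [← hmτ (F f), h2, hw₀, map_nsmul, nsmul_sub]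
  obtain ⟨u, hu⟩ := hπ3 w₀
  refine ⟨u, fun f hf' => ?_⟩
  let f₀ : E := ⟨f, hf'⟩
  let w₂ : R := ⟨(b f₀)⁻¹ * u * b f₀, hbR f₀ u⟩
  have hw₂ : π w₂ = ρ (f' f₀)⁻¹ (π u) := hbconj f₀ u w₂ rfl
  let z₂ : R := w₂ * v f₀ * u⁻¹
  have hz₂ : π z₂ = 0 := by
    show π (w₂ * v f₀ * u⁻¹) = 0
    rw [hπ1, hπ1, hπinv, hw₂, hu]
    have : π (v f₀) = w₀ - ρ (f' f₀)⁻¹ w₀ := hF f₀
    rw [this]
    abel
  have hz₂R := (hπ2 z₂).mp hz₂
  have h1 : (u : G) * f * (u : G)⁻¹ = b f₀ * z₂ := by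
    show _ = b f₀ * ((b f₀)⁻¹ * u * b f₀ * ((v f₀ : R) : G) * (u : G)⁻¹)
    have h2 : f = b f₀ * ((v f₀ : R) : G) := hf f₀
    calc (u : G) * f * (u : G)⁻¹ = (u : G) * (b f₀ * ((v f₀ : R) : G)) * (u : G)⁻¹ := by rw [← h2]
      _ = _ := by group
  rw [h1]
  exact Subgroup.mul_mem _ (Subgroup.mem_sup_left (hb f₀)) (Subgroup.mem_sup_right hz₂R)

/-- The conjugate of `B R₁` lies in `A R₁`. -/
theorem conj_mem_mul (h : Setup A R R₁ E r) {Bh : Subgroup G} (hBhL : Bh ≤ A ⊔ R)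
    (hS : ∀ z ∈ R, z ∈ Bh → z ∈ R₁) {u : G} (hu : u ∈ R) (huE : ∀ f ∈ E, u * f * u⁻¹ ∈ Bh)
    {c : G} (hc : c ∈ Bh) : ∃ a' ∈ A, ∃ v₁ ∈ R₁, u⁻¹ * c * u = a' * v₁ := by
  have hsup : ((A ⊔ R : Subgroup G) : Set G) = (A : Set G) * (R : Set G) :=
    Subgroup.coe_mul_of_left_le_normalizer_right A R h.hAR
  have h1 : u⁻¹ * c * u ∈ A ⊔ R := by
    have h2 : u ∈ A ⊔ R := Subgroup.mem_sup_right hu
    exact Subgroup.mul_mem _ (Subgroup.mul_mem _ (Subgroup.inv_mem _ h2) (hBhL hc)) h2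
  have h3 : u⁻¹ * c * u ∈ ((A ⊔ R : Subgroup G) : Set G) := h1
  rw [hsup] at h3
  obtain ⟨a', ha', v', hv', hav⟩ := Set.mem_mul.mp h3
  refine ⟨a', ha', v', ?_, hav.symm⟩
  refine h.mem_of_forall_comm hv' fun e he => ?_
  have hcdef : c = u * (a' * v') * u⁻¹ := by
    have h4 : a' * v' = u⁻¹ * c * u := hav
    rw [h4]; group
  have he'' : a' * e * a'⁻¹ ∈ E := h.conj_E ha' he
  let κ : G := a' * ⁅v', e⁆ * a'⁻¹
  have hcomm : ⁅v', e⁆ ∈ R := by
    rw [commutatorElement_def]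
    have := h.conj_R (h.hEA he) hv'
    have h5 : v' * e * v'⁻¹ * e⁻¹ = v' * (e * v' * e⁻¹)⁻¹ := by group
    rw [h5]
    exact R.mul_mem hv' (R.inv_mem this)
  have hκR : κ ∈ R := h.conj_R ha' hcomm
  have hκB : u * κ * u⁻¹ ∈ Bh := by
    have h5 : u * κ * u⁻¹ = c * (u * e * u⁻¹) * c⁻¹ * (u * (a' * e * a'⁻¹) * u⁻¹)⁻¹ := by
      rw [hcdef]
      show u * (a' * ⁅v', e⁆ * a'⁻¹) * u⁻¹ = _
      rw [commutatorElement_def]
      group
    rw [h5]
    exact Bh.mul_mem (Bh.mul_mem (Bh.mul_mem hc (huE e he)) (Bh.inv_mem hc)) (Bh.inv_mem (huE _ he''))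
  have h6 := hS _ (R.mul_mem (R.mul_mem hu hκR) (R.inv_mem hu)) hκB
  have h7 : κ ∈ R₁ := by
    have := h.conj_R₁' (R.inv_mem hu) h6
    simpa [mul_assoc] using this
  have h8 := h.conj_R₁ (A.inv_mem ha') h7
  have h9 : a'⁻¹ * κ * a'⁻¹⁻¹ = ⁅v', e⁆ := by
    show a'⁻¹ * (a' * ⁅v', e⁆ * a'⁻¹) * a'⁻¹⁻¹ = _
    group
  rwa [h9] at h8

end Section

section Final

variable {A R R₁ E : Subgroup G} {r : ℕ} [hr : Fact r.Prime] [Finite G]
  {T : Type*} [AddCommGroup T] [Module (ZMod r) T]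
  {π : R → T} {ρ : A →* Module.End (ZMod r) T}

/-- The decomposition of the section. -/
theorem key (h : Setup A R R₁ E r) (hπ1 : ∀ s t, π (s * t) = π s + π t)
    (hπ2 : ∀ s : R, π s = 0 ↔ (s : G) ∈ R₁) (hπ3 : Function.Surjective π)
    (hρ : ∀ (a : A) (z w : R), (w : G) = a * z * (a : G)⁻¹ → ρ a (π z) = π w)
    {P : Subgroup G} {a : G} (ha : a ∈ A) (hPA : A = P ⊔ P.map (MulAut.conj a).toMonoidHom)
    (hmax : ∀ B : Subgroup G, A ≤ B → Group.IsSolvable ↥B →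
      (∃ b ∈ B, B = P ⊔ P.map (MulAut.conj b).toMonoidHom) → B = A)
    (hLs : Group.IsSolvable (A ⊔ R : Subgroup G))
    {x : G} (hxP : x ∈ P) (hxA : x ∈ A) (hyA : a * x * a⁻¹ ∈ A) (g : R) :
    ∃ u v : R, g = u * v ∧ ρ ⟨x, hxA⟩ (π u) = π u ∧ ρ ⟨a * x * a⁻¹, hyA⟩ (π v) = π v := by
  have hπone : π 1 = 0 := (hπ2 1).mpr (Subgroup.one_mem _)
  have hπinv : ∀ s, π s⁻¹ = - π s := by
    intro s
    have h2 := hπ1 s⁻¹ s
    rw [inv_mul_cancel, hπone] at h2
    exact eq_neg_of_add_eq_zero_left h2.symm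
  have hPle : P ≤ A := by rw [hPA]; exact le_sup_left
  have hmapP : ∀ p ∈ P, a * p * a⁻¹ ∈ A := fun p hp => A.mul_mem (A.mul_mem ha (hPle hp)) (A.inv_mem ha)
  obtain ⟨b₀, hb₀⟩ : ∃ b₀ : G, b₀ = (g : G) * a := ⟨_, rfl⟩
  obtain ⟨B, hB⟩ : ∃ B : Subgroup G, B = P ⊔ P.map (MulAut.conj b₀).toMonoidHom := ⟨_, rfl⟩
  have hconjb : ∀ p, MulAut.conj b₀ p = (g : G) * (a * p * a⁻¹) * (g : G)⁻¹ := by
    intro p
    rw [MulAut.conj_apply, hb₀]
    group
  have hgL : (g : G) ∈ A ⊔ R := Subgroup.mem_sup_right g.2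
  have hPB : P ≤ B := by rw [hB]; exact le_sup_left
  have hmapB : ∀ p ∈ P, MulAut.conj b₀ p ∈ B := by
    intro p hp
    rw [hB]
    exact Subgroup.mem_sup_right ⟨p, hp, rfl⟩
  have hBL : B ≤ A ⊔ R := by
    rw [hB]
    refine sup_le (hPle.trans le_sup_left) ?_
    rintro _ ⟨p, hp, rfl⟩
    show MulAut.conj b₀ p ∈ A ⊔ R
    rw [hconjb]
    exact Subgroup.mul_mem _ (Subgroup.mul_mem _ hgL (Subgroup.mem_sup_left (hmapP p hp)))
      (Subgroup.inv_mem _ hgL)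
  have hLn : A ⊔ R ≤ Subgroup.normalizer (R : Set G) :=
    sup_le h.hAR Subgroup.le_normalizer
  have hLn₁ : A ⊔ R ≤ Subgroup.normalizer (R₁ : Set G) :=
    sup_le h.hAR₁n (le_normalizer_of_conj fun _ hv _ hz => h.conj_R₁' hv hz)
  have hBn := hBL.trans hLn
  have hBn₁ := hBL.trans hLn₁
  have hABR : A ≤ B ⊔ R := by
    rw [hPA]
    refine sup_le (hPB.trans le_sup_left) ?_
    rintro _ ⟨p, hp, rfl⟩
    show MulAut.conj a p ∈ B ⊔ R
    have h1 : MulAut.conj a p = (g : G)⁻¹ * (MulAut.conj b₀ p) * g := by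
      rw [hconjb, MulAut.conj_apply]
      group
    rw [h1]
    have hg' : (g : G) ∈ B ⊔ R := Subgroup.mem_sup_right g.2
    exact Subgroup.mul_mem _ (Subgroup.mul_mem _ (Subgroup.inv_mem _ hg')
      (Subgroup.mem_sup_left (hmapB p hp))) hg'
  have hsupBR : ((B ⊔ R : Subgroup G) : Set G) = (B : Set G) * (R : Set G) :=
    Subgroup.coe_mul_of_left_le_normalizer_right B R hBn
  have hAB : ∀ c ∈ A, ∃ b ∈ B, ∃ v ∈ R, c = b * v := by
    intro c hc
    have h1 : c ∈ ((B ⊔ R : Subgroup G) : Set G) := hABR hc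
    rw [hsupBR] at h1
    obtain ⟨b, hb, v, hv, rfl⟩ := Set.mem_mul.mp h1
    exact ⟨b, hb, v, hv, rfl⟩
  obtain ⟨Bh, hBh⟩ : ∃ Bh : Subgroup G, Bh = B ⊔ R₁ := ⟨_, rfl⟩
  have hBBh : B ≤ Bh := by rw [hBh]; exact le_sup_left
  have hR₁Bh : R₁ ≤ Bh := by rw [hBh]; exact le_sup_right
  have hS₀A : A ≤ Subgroup.normalizer ((Bh ⊓ R : Subgroup G) : Set G) := by
    refine le_normalizer_of_conj ?_
    rintro c hc z ⟨hz1, hz2⟩
    refine ⟨?_, h.conj_R hc hz2⟩
    obtain ⟨b, hb, v, hv, rfl⟩ := hAB c hc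
    have h1 : b * v * z * (b * v)⁻¹ = b * (⁅v, z⁆ * z) * b⁻¹ := by
      rw [commutatorElement_def]
      group
    rw [h1]
    exact Bh.mul_mem (Bh.mul_mem (hBBh hb) (Bh.mul_mem (hR₁Bh (h.comm_mem hv hz2)) hz1))
      (Bh.inv_mem (hBBh hb))
  rcases h.hmin (Bh ⊓ R) inf_le_right hS₀A with hcase | hcase
  · -- `R` lies in `B R₁`
    exfalso
    have hRBh : R ≤ B ⊔ R₁ := by
      rw [← hBh]
      intro z hz
      rw [← hcase] at hz
      exact hz.1
    have hRB := le_of_le_sup h hBn₁ hRBh hAB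
    have hAB' : A ≤ B := hABR.trans (sup_le le_rfl hRB)
    have hBeq : B = A ⊔ R := le_antisymm hBL (sup_le hAB' hRB)
    have hBs : Group.IsSolvable ↥B := by rw [hBeq]; exact hLs
    have hb₀B : b₀ ∈ B := by
      rw [hb₀]
      exact B.mul_mem (hRB g.2) (hAB' ha)
    have hfin := hmax B hAB' hBs ⟨b₀, hb₀B, hB⟩
    apply h.hnc
    intro z hz
    exact h.hAR₁ ⟨hfin ▸ hRB hz, hz⟩
  · have hS : ∀ z ∈ R, z ∈ B ⊔ R₁ → z ∈ R₁ := by
      intro z hz hz'
      exact hcase ⟨by rw [hBh]; exact hz', hz⟩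
    have hS' : ∀ z ∈ R, z ∈ Bh → z ∈ R₁ := by
      intro z hz hz'
      exact hcase ⟨hz', hz⟩
    obtain ⟨u, hu⟩ := exists_conj_mem h hπ1 hπ2 hπ3 hρ hBn hAB hS
    have hu' : ∀ f ∈ E, (u : G) * f * (u : G)⁻¹ ∈ Bh := by
      intro f hf
      rw [hBh]
      exact hu f hf
    have hBhL : Bh ≤ A ⊔ R := by
      rw [hBh]
      exact sup_le hBL (h.le_R.trans le_sup_right)
    refine ⟨u, u⁻¹ * g, by group, ?_, ?_⟩
    · obtain ⟨a', ha', v₁, hv₁, heq⟩ := conj_mem_mul h hBhL hS' u.2 hu' (hBBh (hPB hxP))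
      have h1 := fixed_of_conj h hπ1 hπ2 hρ u⁻¹ ⟨x, hxA⟩ a' v₁ ha' hv₁ (by
        show (u : G)⁻¹ * x * (u : G)⁻¹⁻¹ = _
        rw [inv_inv]
        exact heq)
      rw [hπinv, map_neg] at h1
      exact neg_injective h1
    · obtain ⟨a', ha', v₁, hv₁, heq⟩ := conj_mem_mul h hBhL hS' u.2 hu' (hBBh (hmapB x hxP))
      refine fixed_of_conj h hπ1 hπ2 hρ (u⁻¹ * g) ⟨a * x * a⁻¹, hyA⟩ a' v₁ ha' hv₁ ?_
      rw [hconjb] at heq
      rw [← heq]
      show (u : G)⁻¹ * g * (a * x * a⁻¹) * ((u : G)⁻¹ * g)⁻¹ = _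
      group

end Final

section False

variable {A R R₁ E : Subgroup G} {r : ℕ} [hr : Fact r.Prime] [Finite G]

/-- A section as in the standing assumptions does not exist. -/
theorem section_false (h : Setup A R R₁ E r) {p : ℕ} (hp : p.Prime) (hp5 : 5 ≤ p)
    {P : Subgroup G} (hP : Nat.card P = p) {a : G} (ha : a ∈ A)
    (hPA : A = P ⊔ P.map (MulAut.conj a).toMonoidHom) (hAs : Group.IsSolvable ↥A)
    (hmax : ∀ B : Subgroup G, A ≤ B → Group.IsSolvable ↥B →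
      (∃ b ∈ B, B = P ⊔ P.map (MulAut.conj b).toMonoidHom) → B = A)
    (hLs : Group.IsSolvable (A ⊔ R : Subgroup G)) : False := by
  classical
  -- the module
  obtain ⟨T, _, _, _, π, hπ1, hπ2', hπ3, -⟩ := exists_quot_module (r := r) (R := R) (R₁.subgroupOf R)
    (fun s t => by
      rw [Subgroup.mem_subgroupOf]
      exact h.comm_mem s.2 t.2)
    (fun s => by
      rw [Subgroup.mem_subgroupOf]
      exact h.pow_mem s.2)
  have hπ2 : ∀ s : R, π s = 0 ↔ (s : G) ∈ R₁ := fun s => by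
    rw [hπ2', Subgroup.mem_subgroupOf]
  have hπone : π 1 = 0 := (hπ2 1).mpr (Subgroup.one_mem _)
  have hπinv : ∀ s, π s⁻¹ = - π s := by
    intro s
    have h2 := hπ1 s⁻¹ s
    rw [inv_mul_cancel, hπone] at h2
    exact eq_neg_of_add_eq_zero_left h2.symm
  let β : A →* MulAut R := (R.normalizerMonoidHom).comp (Subgroup.inclusion h.hAR)
  have hβ : ∀ (c : A) (z : R), ((β c z : R) : G) = c * z * (c : G)⁻¹ := fun c z => rfl
  obtain ⟨ρ, hρ₀⟩ := exists_op_hom (r := r) hπ1 hπ3 β (by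
    intro c s hs
    rw [hπ2] at hs ⊢
    rw [hβ]
    exact h.conj_R₁ c.2 hs)
  have hρ : ∀ (c : A) (z w : R), (w : G) = c * z * (c : G)⁻¹ → ρ c (π z) = π w := by
    intro c z w hw
    rw [hρ₀]
    congr 1
    exact Subtype.ext (by rw [hβ, hw])
  -- a generator
  have hPle : P ≤ A := by rw [hPA]; exact le_sup_left
  have hf : Fact p.Prime := ⟨hp⟩
  have : Fact (Nat.card P).Prime := by rw [hP]; exact ⟨hp⟩
  have : IsCyclic P := isCyclic_of_prime_card rfl
  obtain ⟨g, hg⟩ := IsCyclic.exists_generator (α := P)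
  have hx : (g : G) ^ p = 1 := by
    have h1 : g ^ Nat.card P = 1 := pow_card_eq_one'
    rw [hP] at h1
    exact congrArg Subtype.val h1
  obtain ⟨x, hxdef⟩ : ∃ x : G, x = g := ⟨_, rfl⟩
  rw [← hxdef] at hx
  have hxP : x ∈ P := by rw [hxdef]; exact g.2
  have hxA : x ∈ A := hPle hxP
  have hyA : a * x * a⁻¹ ∈ A := A.mul_mem (A.mul_mem ha hxA) (A.inv_mem ha)
  have hPzp : ∀ z ∈ P, ∃ i : ℤ, z = x ^ i := by
    intro z hz
    obtain ⟨i, hi⟩ := Subgroup.mem_zpowers_iff.mp (hg ⟨z, hz⟩)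
    exact ⟨i, by rw [hxdef]; exact (congrArg Subtype.val hi).symm⟩
  let xt : A := ⟨x, hxA⟩
  let aa : A := ⟨a, ha⟩
  let yt : A := ⟨a * x * a⁻¹, hyA⟩
  have hyt : yt = aa * xt * aa⁻¹ := rfl
  -- the normal closure
  have hgen : Subgroup.normalClosure {xt} = ⊤ := by
    let N : Subgroup A := Subgroup.normalClosure {xt}
    have hNn : N.Normal := inferInstance
    have hxt : xt ∈ N := Subgroup.subset_normalClosure (Set.mem_singleton _)
    have hPN : ∀ z ∈ P, ∃ hz : z ∈ A, (⟨z, hz⟩ : A) ∈ N := by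
      intro z hz
      obtain ⟨i, rfl⟩ := hPzp z hz
      refine ⟨hPle hz, ?_⟩
      have h1 : (⟨x ^ i, hPle hz⟩ : A) = xt ^ i := rfl
      rw [h1]
      exact N.zpow_mem hxt i
    have hle : A ≤ N.map A.subtype := by
      conv_lhs => rw [hPA]
      refine sup_le ?_ ?_
      · intro z hz
        obtain ⟨hz', hz''⟩ := hPN z hz
        exact ⟨⟨z, hz'⟩, hz'', rfl⟩
      · rintro _ ⟨z, hz, rfl⟩
        obtain ⟨hz', hz''⟩ := hPN z hz
        exact ⟨aa * ⟨z, hz'⟩ * aa⁻¹, hNn.conj_mem _ hz'' aa, rfl⟩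
    rw [eq_top_iff]
    rintro ⟨z, hz⟩ -
    obtain ⟨w, hw, hwz⟩ := hle hz
    have : w = ⟨z, hz⟩ := Subtype.ext hwz
    rwa [← this]
  have hxtp : xt ^ p = 1 := Subtype.ext hx
  -- irreducibility
  have hirr : Irr ρ := by
    intro W hW
    let M₀ : Subgroup R :=
      { carrier := {s | π s ∈ W}
        mul_mem' := by
          intro c d hc hd
          show π (c * d) ∈ W
          rw [hπ1]
          exact W.add_mem hc hd
        one_mem' := by
          show π 1 ∈ W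
          rw [hπone]
          exact W.zero_mem
        inv_mem' := by
          intro c hc
          show π c⁻¹ ∈ W
          rw [hπinv]
          exact W.neg_mem hc }
    let M : Subgroup G := M₀.map R.subtype
    have hMA : A ≤ Subgroup.normalizer (M : Set G) := by
      refine le_normalizer_of_conj ?_
      rintro c hc _ ⟨s, hs, rfl⟩
      refine ⟨⟨c * s * c⁻¹, h.conj_R hc s.2⟩, ?_, rfl⟩
      show π ⟨c * s * c⁻¹, h.conj_R hc s.2⟩ ∈ W
      rw [← hρ ⟨c, hc⟩ s _ rfl]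
      exact hW ⟨c, hc⟩ _ hs
    rcases h.hmin M (Subgroup.map_subtype_le _) hMA with hcase | hcase
    · right
      rw [eq_top_iff]
      intro t _
      obtain ⟨s, rfl⟩ := hπ3 t
      have h1 : (s : G) ∈ M := by rw [hcase]; exact s.2
      obtain ⟨s', hs', h2⟩ := h1
      have h3 : s' = s := Subtype.ext h2
      rw [← h3]
      exact hs'
    · left
      rw [eq_bot_iff]
      intro t ht
      obtain ⟨s, rfl⟩ := hπ3 t
      exact (Submodule.mem_bot _).mpr ((hπ2 s).mpr (hcase ⟨s, ht, rfl⟩))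
  -- nontrivial action
  have hρx : ρ xt ≠ 1 := by
    intro hρ1
    have hle : Subgroup.normalClosure {xt} ≤ ρ.ker := by
      refine Subgroup.normalClosure_le_normal ?_
      intro y hy
      have hyx : y = xt := hy
      rw [hyx]
      exact (MonoidHom.mem_ker).mpr hρ1
    rw [hgen] at hle
    obtain ⟨z, hz, hz'⟩ := h.ne_bot_R
    apply hz'
    refine h.mem_of_forall_comm hz fun e he => ?_
    have h1 : ρ ⟨e, h.hEA he⟩ = 1 := (MonoidHom.mem_ker).mp (hle trivial)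
    let zz : R := ⟨z, hz⟩
    let w : R := ⟨e * z * e⁻¹, h.conj_R (h.hEA he) hz⟩
    have h2 := hρ ⟨e, h.hEA he⟩ zz w rfl
    rw [h1, Module.End.one_apply] at h2
    have h3 : π (zz * w⁻¹) = 0 := by
      rw [hπ1, hπinv, ← h2, add_neg_cancel]
    have h4 := (hπ2 _).mp h3
    have h5 : ⁅z, e⁆ = ((zz * w⁻¹ : R) : G) := by
      show z * e * z⁻¹ * e⁻¹ = z * (e * z * e⁻¹)⁻¹
      group
    rw [h5]
    exact h4
  -- the final count
  have hfd : Module.Finite (ZMod r) T := Module.Finite.of_finite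
  have hmt := Cfsg.Agent.Lib.FlavMTMain.main r ρ hirr hp hp5 xt hxtp hgen hρx
  have hdec : LinearMap.ker (ρ xt - 1) ⊔ LinearMap.ker (ρ yt - 1) = ⊤ := by
    rw [eq_top_iff]
    intro t _
    obtain ⟨g', rfl⟩ := hπ3 t
    obtain ⟨u, v, huv, hu, hv⟩ := key h hπ1 hπ2 hπ3 hρ ha hPA hmax hLs hxP hxA hyA g'
    rw [huv, hπ1]
    refine Submodule.add_mem_sup ?_ ?_
    · rw [LinearMap.mem_ker, LinearMap.sub_apply, Module.End.one_apply, sub_eq_zero]
      exact hu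
    · rw [LinearMap.mem_ker, LinearMap.sub_apply, Module.End.one_apply, sub_eq_zero]
      exact hv
  have hle := Submodule.finrank_add_le_finrank_add_finrank (LinearMap.ker (ρ xt - 1)) (LinearMap.ker (ρ yt - 1))
  rw [hdec, finrank_top] at hle
  let L : LinearMap.ker (ρ yt - 1) →ₗ[ZMod r] LinearMap.ker (ρ xt - 1) :=
    LinearMap.codRestrict _ ((ρ aa⁻¹).comp (LinearMap.ker (ρ yt - 1)).subtype) (by
      intro v
      have hv := LinearMap.mem_ker.mp v.2
      rw [LinearMap.sub_apply, Module.End.one_apply, sub_eq_zero] at hv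
      rw [LinearMap.mem_ker, LinearMap.sub_apply, Module.End.one_apply, sub_eq_zero]
      show ρ xt (ρ aa⁻¹ (v : T)) = ρ aa⁻¹ (v : T)
      conv_rhs => rw [← hv]
      rw [← Module.End.mul_apply, ← Module.End.mul_apply, ← map_mul, ← map_mul]
      congr 2
      apply Subtype.ext
      show x * a⁻¹ = a⁻¹ * (a * x * a⁻¹)
      group)
  have hL : Function.Injective L := by
    intro v v' hvv
    have h1 : ρ aa⁻¹ (v : T) = ρ aa⁻¹ (v' : T) := congrArg Subtype.val hvv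
    have h2 := congrArg (ρ aa) h1
    rw [← Module.End.mul_apply, ← Module.End.mul_apply, ← map_mul, mul_inv_cancel, map_one] at h2
    exact Subtype.ext h2
  have hle2 := LinearMap.finrank_le_finrank_of_injective hL
  omega

end False

end Cfsg.Agent.Lib.FlavS22
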