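import Mathlib
import Cfsg.Agent.Lib.PSolv
import Cfsg.Agent.Lib.PCore
import Cfsg.Agent.Lib.Frat
import Cfsg.Agent.Lib.BurnsideAut
import Cfsg.Agent.Lib.Kegel
import Cfsg.Agent.Lib.DedekindOps

/-!
# The action on the Frattini quotient of `O_p(G)`

For `G` with `O_{p'}(G) = 1`, `p`-solvable:

* `psi p G : G →* MulAut (O_p(G) / Φ(O_p(G)))`, with kernel `O_p(G)` (`ker_psi_le`, `le_ker_psi`);
* `psiBar`: the induced faithful action of `G / O_p(G)`;
* `centralizer_pPrimeCore_le`: if `O_p(H) = 1` then `C_H(O_{p'}(H)) ≤ O_{p'}(H)`;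
* `dedekind_mul`: the multiplicative form of `dedekind_core`;
* `exists_fixed_sylow`: an automorphism of `p`-power order of a group of order prime to `p` fixes a Sylow `r`-subgroup.
-/

set_option autoImplicit false
set_option linter.unusedSectionVars false
set_option linter.unusedVariables false
set_option linter.style.haveILetI false

namespace Cfsg.Agent.Lib.FrattAct

open Cfsg Cfsg.Agent.Lib.Kegel Cfsg.Agent.Lib.PCore Cfsg.Agent.Lib.PSolv Cfsg.Agent.Lib.DedekindOps
open scoped commutatorElement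

/-- Characteristic subgroups are invariant. -/
theorem char_mem {X : Type*} [Group X] (H : Subgroup X) [h : H.Characteristic] (τ : MulAut X) {y : X} (hy : y ∈ H) :
    τ y ∈ H := by
  have h1 := h.fixed (MulEquiv.symm τ)
  have h3 : τ y ∈ H.comap (MulEquiv.symm τ).toMonoidHom := by
    show (MulEquiv.symm τ) (τ y) ∈ H
    simpa using hy
  rwa [h1] at h3

section Psi

variable (p : ℕ) (G : Type*) [Group G] [Finite G]

/-- The action on the Frattini quotient of `O_p(G)`. -/
noncomputable def psi : G →* MulAut (pCore p G ⧸ frattini (pCore p G)) :=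
  MonoidHom.mk' (fun x => quot (MulAut.conjNormal x) (frattini (pCore p G))
      (fun _ hy => char_mem _ _ hy)) (by
    intro x y
    ext v
    obtain ⟨u, rfl⟩ := QuotientGroup.mk_surjective v
    rw [MulAut.mul_apply, quot_mk, quot_mk, quot_mk, map_mul, MulAut.mul_apply])

variable {p G}

theorem psi_mk (x : G) (u : pCore p G) :
    psi p G x (u : pCore p G ⧸ frattini (pCore p G)) = ((MulAut.conjNormal x u : pCore p G) : pCore p G ⧸ frattini (pCore p G)) :=
  rfl

variable [hp : Fact p.Prime]

theorem V_comm (a b : pCore p G ⧸ frattini (pCore p G)) : a * b = b * a := by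
  obtain ⟨a, rfl⟩ := QuotientGroup.mk_surjective a
  obtain ⟨b, rfl⟩ := QuotientGroup.mk_surjective b
  rw [← QuotientGroup.mk_mul, ← QuotientGroup.mk_mul, QuotientGroup.eq]
  have h1 : ⁅b⁻¹, a⁻¹⁆ ∈ commutator (pCore p G) :=
    Subgroup.commutator_mem_commutator (Subgroup.mem_top _) (Subgroup.mem_top _)
  have h2 := Cfsg.Agent.Lib.Frat.commutator_le_frattini (isPGroup_pCore p (G := G)) h1
  have e : (a * b)⁻¹ * (b * a) = ⁅b⁻¹, a⁻¹⁆ := by
    simp [commutatorElement_def, mul_assoc]
  rw [e]
  exact h2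

theorem V_exp (a : pCore p G ⧸ frattini (pCore p G)) : a ^ p = 1 := by
  obtain ⟨a, rfl⟩ := QuotientGroup.mk_surjective a
  rw [← QuotientGroup.mk_pow, QuotientGroup.eq_one_iff]
  exact Cfsg.Agent.Lib.Frat.pow_mem_frattini (isPGroup_pCore p (G := G)) a

theorem le_ker_psi : pCore p G ≤ (psi p G).ker := by
  intro x hx
  rw [MonoidHom.mem_ker]
  ext v
  obtain ⟨u, rfl⟩ := QuotientGroup.mk_surjective v
  rw [psi_mk]
  show _ = ((u : pCore p G) : pCore p G ⧸ frattini (pCore p G))
  rw [QuotientGroup.eq]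
  have h1 : ⁅(⟨x, hx⟩ : pCore p G), u⁻¹⁆ ∈ commutator (pCore p G) :=
    Subgroup.commutator_mem_commutator (Subgroup.mem_top _) (Subgroup.mem_top _)
  have h2 := Cfsg.Agent.Lib.Frat.commutator_le_frattini (isPGroup_pCore p (G := G)) h1
  have e : (MulAut.conjNormal x u)⁻¹ * u = ⁅(⟨x, hx⟩ : pCore p G), u⁻¹⁆ := by
    apply Subtype.ext
    simp [commutatorElement_def, mul_assoc]
  rw [e]
  exact h2

theorem ker_psi_le (hsol : IsPSolvable p G) (hcore : pPrimeCore p G = ⊥) : (psi p G).ker ≤ pCore p G := by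
  have hRP : IsPGroup p (pCore p G) := isPGroup_pCore p
  have hKP : IsPGroup p (psi p G).ker := by
    refine IsPGroup.iff_card.2 ?_
    refine ⟨_, Nat.eq_prime_pow_of_unique_prime_dvd (Nat.card_pos.ne') ?_⟩
    intro r hr hrd
    by_contra hrp
    haveI : Fact r.Prime := ⟨hr⟩
    obtain ⟨y, hy⟩ := exists_prime_orderOf_dvd_card' r hrd
    have hyo : orderOf (y : G) = r := by
      rw [← hy]
      exact Subgroup.orderOf_coe y
    have hΨ : psi p G y = 1 := y.2
    set τ : MulAut (pCore p G) := MulAut.conjNormal (y : G) with hτ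
    have hτr : τ ^ r = 1 := by
      rw [hτ, ← map_pow, ← hyo, pow_orderOf_eq_one, map_one]
    have hτ1 : τ = 1 := by
      refine Cfsg.Agent.Lib.BurnsideAut.aut_eq_one_of_trivial_on_frattini hRP hr hrp τ hτr ?_
      intro q
      have h1 : psi p G y (q : pCore p G ⧸ frattini (pCore p G)) = (q : pCore p G ⧸ frattini (pCore p G)) := by
        rw [hΨ]; rfl
      have h2 : ((τ q : pCore p G) : pCore p G ⧸ frattini (pCore p G)) = (q : pCore p G ⧸ frattini (pCore p G)) := h1
      rw [← QuotientGroup.eq_one_iff, QuotientGroup.mk_mul, h2, QuotientGroup.mk_inv, mul_inv_cancel]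
    have hyc : (y : G) ∈ Subgroup.centralizer (pCore p G : Set G) := by
      rw [Subgroup.mem_centralizer_iff]
      intro q hq
      have h1 : τ ⟨q, hq⟩ = ⟨q, hq⟩ := by rw [hτ1]; rfl
      have h2 : (y : G) * q * (y : G)⁻¹ = q := congrArg Subtype.val h1
      calc q * (y : G) = ((y : G) * q * (y : G)⁻¹) * (y : G) := by rw [h2]
        _ = (y : G) * q := by group
    have hyR : (y : G) ∈ pCore p G := centralizer_pCore_le_of_pSolvable hsol hcore hyc
    obtain ⟨k, hk⟩ := (IsPGroup.iff_orderOf).1 hRP ⟨y, hyR⟩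
    have h3 : orderOf (y : G) = p ^ k := by
      rw [← hk]
      exact (Subgroup.orderOf_mk (y : G) hyR).symm
    rw [hyo] at h3
    exact hrp ((Nat.prime_dvd_prime_iff_eq hr hp.out).1 (hr.dvd_of_dvd_pow (dvd_of_eq h3)))
  exact le_pCore (MonoidHom.normal_ker _) hKP

/-- The faithful action of `G / O_p(G)`. -/
noncomputable def psiBar : G ⧸ pCore p G →* MulAut (pCore p G ⧸ frattini (pCore p G)) :=
  QuotientGroup.lift _ (psi p G) le_ker_psi

theorem psiBar_mk (x : G) : psiBar (x : G ⧸ pCore p G) = psi p G x := rfl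

theorem psiBar_injective (hsol : IsPSolvable p G) (hcore : pPrimeCore p G = ⊥) :
    Function.Injective (psiBar (p := p) (G := G)) := by
  refine (injective_iff_map_eq_one _).2 ?_
  intro a ha
  obtain ⟨x, rfl⟩ := QuotientGroup.mk_surjective a
  rw [psiBar_mk] at ha
  exact (QuotientGroup.eq_one_iff x).2 (ker_psi_le hsol hcore ha)

end Psi

section Cent

variable {H : Type*} [Group H] [Finite H] {p : ℕ} [hp : Fact p.Prime]

/-- If `O_p(H) = 1` and `H` is `p`-solvable, then `O_{p'}(H)` contains its centralizer. -/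
theorem centralizer_pPrimeCore_le (hsol : IsPSolvable p H) (h : pCore p H = ⊥) :
    Subgroup.centralizer (pPrimeCore p H : Set H) ≤ pPrimeCore p H := by
  set Q := pPrimeCore p H with hQ
  set C := Subgroup.centralizer (Q : Set H) with hC
  let π := QuotientGroup.mk' Q
  have hπ : Function.Surjective π := QuotientGroup.mk'_surjective Q
  have hcore1 : pPrimeCore p (H ⧸ Q) = ⊥ := pPrimeCore_quotient_pPrimeCore p
  have hsol1 : IsPSolvable p (H ⧸ Q) := isPSolvable_quotient hsol Q
  set P₁ := pCore p (H ⧸ Q) with hP₁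
  have hcen := centralizer_pCore_le_of_pSolvable hsol1 hcore1
  haveI hCn : C.Normal := inferInstance
  set D := C.map π with hD
  haveI hDn : D.Normal := Subgroup.Normal.map hCn π hπ
  by_contra hnot
  have hDne : D ≠ ⊥ := by
    intro h0
    apply hnot
    have h1 := (Subgroup.map_eq_bot_iff _).1 h0
    rwa [QuotientGroup.ker_mk'] at h1
  have hDP : D ⊓ P₁ ≠ ⊥ := by
    intro h0
    apply hDne
    have h1 : ⁅D, P₁⁆ ≤ ⊥ := by
      rw [← h0]
      exact Subgroup.commutator_le_inf D P₁
    have h2 : D ≤ Subgroup.centralizer (P₁ : Set (H ⧸ Q)) := by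
      rw [le_bot_iff, Subgroup.commutator_eq_bot_iff_le_centralizer] at h1
      exact h1
    have h3 : D ≤ D ⊓ P₁ := le_inf le_rfl (h2.trans hcen)
    rw [h0] at h3
    exact le_bot_iff.1 h3
  set L := (D ⊓ P₁).comap π with hL
  haveI hLn : L.Normal := Subgroup.Normal.comap inferInstance π
  set M := C ⊓ L with hM
  haveI hMn : M.Normal := Subgroup.normal_inf_normal _ _
  -- `M` is nilpotent
  have hMnil : Group.IsNilpotent M := by
    let f : M →* P₁ := (π.comp M.subtype).codRestrict P₁ (fun x => (x.2.2 : π x ∈ D ⊓ P₁).2)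
    have hP₁nil : Group.IsNilpotent P₁ := (isPGroup_pCore p).isNilpotent
    refine Subgroup.isNilpotent_of_ker_le_center f ?_
    intro z hz
    rw [Subgroup.mem_center_iff]
    intro m
    have hz1 : π z = 1 := congrArg Subtype.val (MonoidHom.mem_ker.1 hz)
    have hz2 : (z : H) ∈ Q := (QuotientGroup.eq_one_iff _).1 hz1
    have hm : (m : H) ∈ C := m.2.1
    have h3 := Subgroup.mem_centralizer_iff.1 hm z hz2
    exact Subtype.ext h3.symm
  have hMQ : M ≤ Q := by
    have h1 := le_fittingSubgroup hMn hMnil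
    have h2 := fittingSubgroup_le_sup (G := H) p
    rw [h, bot_sup_eq] at h2
    exact h1.trans h2
  apply hDP
  refine le_bot_iff.1 ?_
  rintro _ ⟨⟨c, hc, rfl⟩, hc2⟩
  have hcM : c ∈ M := by
    refine ⟨hc, ?_⟩
    exact ⟨⟨c, hc, rfl⟩, hc2⟩
  exact (QuotientGroup.eq_one_iff c).2 (hMQ hcM)

end Cent

section Sylow

variable {Q : Type*} [Group Q] [Finite Q]

/-- An automorphism of `p`-power order of a group of order prime to `p` fixes a Sylow `r`-subgroup. -/
theorem exists_fixed_sylow {p : ℕ} [hp : Fact p.Prime] (hcop : (Nat.card Q).Coprime p) (β : MulAut Q) {n : ℕ} (hβ : β ^ p ^ n = 1)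
    (r : ℕ) [hr : Fact r.Prime] : ∃ S : Sylow r Q, (S : Subgroup Q).map (β : Q →* Q) = S := by
  classical
  haveI : Fintype (Sylow r Q) := Fintype.ofFinite _
  let f : Function.End (Sylow r Q) := fun S => β • S
  have hf : f ^ p ^ n = 1 := by
    have h1 : ∀ i : ℕ, (f ^ i : Function.End (Sylow r Q)) = fun S => β ^ i • S := by
      intro i
      induction i with
      | zero =>
        funext S
        exact (one_smul _ S).symm
      | succ i ih =>
        rw [pow_succ', ih]
        funext S
        show β • (β ^ i • S) = _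
        rw [smul_smul, ← pow_succ']
    rw [h1, hβ]
    funext S
    exact one_smul _ S
  have h1 := Equiv.Perm.card_fixedPoints_modEq hf
  have hne : (Function.fixedPoints f).Nonempty := by
    by_contra hemp
    have h2 : Fintype.card (Function.fixedPoints f) = 0 := by
      rw [Fintype.card_eq_zero_iff]
      exact ⟨fun x => hemp ⟨x.1, x.2⟩⟩
    rw [h2] at h1
    have h3 : p ∣ Fintype.card (Sylow r Q) := (Nat.modEq_zero_iff_dvd).1 h1
    rw [← Nat.card_eq_fintype_card] at h3
    obtain ⟨P⟩ : Nonempty (Sylow r Q) := inferInstance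
    have h4 := P.card_dvd_index
    have h5 : (P : Subgroup Q).index ∣ Nat.card Q := Subgroup.index_dvd_card _
    have h6 : p ∣ Nat.gcd (Nat.card Q) p := Nat.dvd_gcd (h3.trans (h4.trans h5)) dvd_rfl
    rw [hcop] at h6
    exact hp.out.one_lt.ne' (Nat.dvd_one.1 h6)
  obtain ⟨S, hS⟩ := hne
  refine ⟨S, ?_⟩
  have h2 : β • S = S := hS
  have h3 := congrArg (fun T : Sylow r Q => (T : Subgroup Q)) h2
  simp only [Sylow.pointwise_smul_def] at h3
  exact h3

end Sylow

section DedekindMul

/-- Multiplicative form of the Dedekind core. -/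
theorem dedekind_mul {V : Type*} [hV : Group V] (hcomm : ∀ a b : V, a * b = b * a) {q : ℕ} (hexp : ∀ v : V, v ^ q = 1)
    {S : Type*} [hSg : Group S] [Finite S] (hSc : ∀ a b : S, a * b = b * a) (hS : Nat.Coprime (Nat.card S) q)
    (ρ : S →* MulAut V) (hρ : Function.Injective ρ) (τ : MulAut V) (σ : MulAut S) (hT : ∀ s, τ * ρ s = ρ (σ s) * τ)
    {p n : ℕ} (hp : p.Prime) (hn : 1 ≤ n) (hσ : σ ^ (p ^ n) = 1) (hN : ∀ v, nm τ (p ^ n) v = 1) :
    σ ^ (p ^ (n - 1)) = 1 := by
  letI iV : CommGroup V := { hV with mul_comm := hcomm }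
  letI iS : CommGroup S := { hSg with mul_comm := hSc }
  let toE : MulAut V →* Module.End ℤ (Additive V) :=
    { toFun := fun a => (MonoidHom.toAdditive (a : V →* V)).toIntLinearMap
      map_one' := by
        ext v
        rfl
      map_mul' := by
        intro a b
        ext v
        rfl }
  have htoE : ∀ (a : MulAut V) (v : V), toE a (Additive.ofMul v) = Additive.ofMul (a v) := fun _ _ => rfl
  have hinj : Function.Injective toE := by
    intro a b hab
    ext v
    have h1 := congrArg (fun F : Module.End ℤ (Additive V) => F (Additive.ofMul v)) hab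
    simp only [htoE] at h1
    exact Additive.ofMul.injective h1
  have hpow : ∀ (i : ℕ) (v : V), (toE τ ^ i) (Additive.ofMul v) = Additive.ofMul ((τ ^ i) v) := by
    intro i v
    rw [← map_pow, htoE]
  have hsum : ∀ (m : ℕ) (v : V), ∑ i ∈ Finset.range m, (toE τ ^ i) (Additive.ofMul v) = Additive.ofMul (nm τ m v) := by
    intro m v
    induction m with
    | zero => simp [nm_zero]
    | succ m ih =>
      rw [Finset.sum_range_succ, ih, nm_succ, hpow, ofMul_mul]
  refine dedekind_core (M := Additive V) (S := S) (q := q) ?_ hS (toE.comp ρ) (hinj.comp hρ) (toE τ) σ ?_ hp hn hσ ?_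
  · intro v
    have h1 : q • v = Additive.ofMul ((Additive.toMul v) ^ q) := rfl
    rw [h1, hexp]
    rfl
  · intro s
    simp only [MonoidHom.comp_apply]
    rw [← map_mul, ← map_mul, hT]
  · intro v
    have h1 := hsum (p ^ n) (Additive.toMul v)
    rw [hN] at h1
    exact h1

end DedekindMul

end Cfsg.Agent.Lib.FrattAct
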