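import Mathlib
import Cfsg.Agent.Lib.FlavS22
import Cfsg.Agent.Lib.PCore
import Cfsg.Agent.Lib.FrattAct
import Cfsg.Agent.Lib.CoprimeInv
import Cfsg.Agent.Lib.ThreePrimes

/-!
Maximal solvable subgroups generated by two conjugates of a subgroup of prime order: the Fitting
subgroup and an invariant nilpotent subgroup generate a nilpotent subgroup.
-/

set_option autoImplicit false
set_option linter.unusedSectionVars false
set_option linter.unusedVariables false
set_option linter.style.haveILetI false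

namespace Cfsg.Agent.Lib.FlavS22B

open Cfsg Cfsg.Agent.Lib.PCore Cfsg.Agent.Lib.FlavS22
open scoped commutatorElement

universe u

variable {G : Type u} [Group G] [Finite G]

/-- The `q`-part of a normal subgroup of `A` in `G`. -/
abbrev core (q : ℕ) (A : Subgroup G) : Subgroup G := (pCore q ↥A).map A.subtype

theorem isPGroup_core (q : ℕ) [Fact q.Prime] (A : Subgroup G) : IsPGroup q (core q A) :=
  (isPGroup_pCore q).map _

theorem core_le (q : ℕ) (A : Subgroup G) : core q A ≤ A := Subgroup.map_subtype_le _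

theorem normalizer_core (q : ℕ) {A V : Subgroup G} (hAV : A ≤ Subgroup.normalizer (V : Set G)) :
    A ≤ Subgroup.normalizer ((core q V : Subgroup G) : Set G) := by
  refine le_normalizer_of_conj ?_
  rintro a ha _ ⟨t, ht, rfl⟩
  let τ : MulAut V := V.normalizerMonoidHom ⟨a, hAV ha⟩
  have h1 : τ t ∈ pCore q ↥V := Cfsg.Agent.Lib.FrattAct.char_mem _ τ ht
  exact ⟨τ t, h1, rfl⟩

theorem commute_core {r s : ℕ} [Fact r.Prime] [Fact s.Prime] (hrs : r ≠ s) (V : Subgroup G) {x y : G}
    (hx : x ∈ core r V) (hy : y ∈ core s V) : x * y = y * x := by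
  obtain ⟨x', hx', rfl⟩ := hx
  obtain ⟨y', hy', rfl⟩ := hy
  have hd : Disjoint (pCore r ↥V) (pCore s ↥V) :=
    IsPGroup.disjoint_of_ne r s hrs _ _ (isPGroup_pCore r) (isPGroup_pCore s)
  have h1 := Subgroup.commute_of_normal_of_disjoint _ _ inferInstance inferInstance hd x' y' hx' hy'
  exact congrArg Subtype.val h1

/-- Primes apart, the cores of the two subgroups commute. -/
theorem claimK {p : ℕ} (hp : p.Prime) (hp5 : 5 ≤ p) {P A V : Subgroup G} (hP : Nat.card P = p)
    (hAs : Group.IsSolvable ↥A) {a : G} (ha : a ∈ A) (hPA : A = P ⊔ P.map (MulAut.conj a).toMonoidHom)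
    (hmax : ∀ B : Subgroup G, A ≤ B → Group.IsSolvable ↥B →
      (∃ b ∈ B, B = P ⊔ P.map (MulAut.conj b).toMonoidHom) → B = A)
    (hAV : A ≤ Subgroup.normalizer (V : Set G))
    {r s : ℕ} [Fact r.Prime] [Fact s.Prime] (hrs : r ≠ s) :
    core r V ≤ Subgroup.centralizer ((core s A : Subgroup G) : Set G) := by
  classical
  by_contra hcon
  obtain ⟨E, hE⟩ : ∃ E, E = core s A := ⟨_, rfl⟩
  rw [← hE] at hcon
  have hEp : IsPGroup s E := hE ▸ isPGroup_core s A
  have hEA : E ≤ A := hE ▸ core_le s A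
  have hAE : A ≤ Subgroup.normalizer (E : Set G) := hE ▸ normalizer_core s Subgroup.le_normalizer
  have hT₀ := normalizer_core r hAV
  let F : Set (Subgroup G) :=
    {S | S ≤ core r V ∧ A ≤ Subgroup.normalizer (S : Set G) ∧ ¬ S ≤ Subgroup.centralizer (E : Set G)}
  have hne : F.Nonempty := ⟨core r V, le_rfl, hT₀, hcon⟩
  obtain ⟨R, hR⟩ := F.toFinite.exists_minimal hne
  obtain ⟨⟨hRT, hRA, hRc⟩, hRmin⟩ := hR
  have hRp : IsPGroup r R := (isPGroup_core r V).to_le hRT
  have hcop : (Nat.card E).Coprime r := by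
    obtain ⟨k, hk⟩ := IsPGroup.iff_card.mp hEp
    rw [hk]
    exact Nat.Coprime.pow_left k ((Nat.coprime_primes Fact.out Fact.out).mpr hrs.symm)
  have hcop2 : (Nat.card E).Coprime (Nat.card R) := by
    obtain ⟨k, hk⟩ := IsPGroup.iff_card.mp hRp
    rw [hk]
    exact Nat.Coprime.pow_right k hcop
  have hEs : Group.IsSolvable E := by
    have := hEp.isNilpotent
    infer_instance
  have hRs : Group.IsSolvable R := by
    have := hRp.isNilpotent
    infer_instance
  have hEnR : E ≤ Subgroup.normalizer (R : Set G) := hEA.trans hRA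
  have hcc := Cfsg.Agent.Lib.Glauberman.commutator_commutator_eq hEnR hcop2 (Or.inl hEs)
  have hle : ⁅R, E⁆ ≤ R := Cfsg.Agent.Lib.Glauberman.commutator_le_of_le_normalizer hEnR
  have hcomm : ⁅R, E⁆ = R := by
    by_contra hne'
    have hS : ⁅R, E⁆ ∈ F := by
      refine ⟨hle.trans hRT, fun c hc => normalizer_commutator (hRA hc) (hAE hc), ?_⟩
      intro hc
      have h1 : ⁅⁅R, E⁆, E⁆ = ⊥ := Subgroup.commutator_eq_bot_iff_le_centralizer.mpr hc
      rw [hcc] at h1
      exact hRc (Subgroup.commutator_eq_bot_iff_le_centralizer.mp h1)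
    exact hne' (le_antisymm hle (hRmin hS hle))
  have hSetup : Setup A R (R ⊓ Subgroup.centralizer (E : Set G)) E r :=
    { hRr := hRp
      hEA := hEA
      hAR := hRA
      hAE := hAE
      hR₁ := rfl
      hcop := hcop
      hcomm := hcomm
      hnc := fun hc => hRc (hc.trans inf_le_right)
      hmin := by
        intro S hS hSA
        by_cases hc : S ≤ Subgroup.centralizer (E : Set G)
        · exact Or.inr (le_inf hS hc)
        · exact Or.inl (le_antisymm hS (hRmin ⟨hS.trans hRT, hSA, hc⟩ hS))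
      hAR₁ := by
        rintro z ⟨hzA, hzR⟩
        refine ⟨hzR, Subgroup.mem_centralizer_iff.mpr fun e he => ?_⟩
        let Q : Subgroup A := (A ⊓ R).subgroupOf A
        have hQn : Q.Normal := by
          refine ⟨fun w hw g => ?_⟩
          rw [Subgroup.mem_subgroupOf] at hw ⊢
          refine ⟨(A.mul_mem (A.mul_mem g.2 hw.1) (A.inv_mem g.2)), ?_⟩
          exact (Subgroup.mem_normalizer_iff.mp (hRA g.2) _).mp hw.2
        have hQp : IsPGroup r Q := by
          rintro ⟨w, hw⟩
          rw [Subgroup.mem_subgroupOf] at hw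
          obtain ⟨k, hk⟩ := hRp ⟨w, hw.2⟩
          refine ⟨k, Subtype.ext (Subtype.ext ?_)⟩
          have h1 : ((w : G)) ^ (r ^ k) = 1 := congrArg Subtype.val hk
          exact h1
        have hzQ : (⟨z, hzA⟩ : A) ∈ pCore r ↥A :=
          le_pCore hQn hQp ((Subgroup.mem_subgroupOf).mpr ⟨hzA, hzR⟩)
        have hz1 : z ∈ core r A := ⟨⟨z, hzA⟩, hzQ, rfl⟩
        rw [hE] at he
        exact (commute_core hrs A hz1 he).symm }
  have hLs := Cfsg.Agent.Lib.ThreePrimes.isSolvable_sup_of_le_normalizer R A hRA hRs hAs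
  exact section_false hSetup hp hp5 hP ha hPA hAs hmax hLs

/-- **The main statement.** -/
theorem main {p : ℕ} (hp : p.Prime) (hp5 : 5 ≤ p) {P A V : Subgroup G} (hP : Nat.card P = p)
    (hAs : Group.IsSolvable ↥A) {a : G} (ha : a ∈ A) (hPA : A = P ⊔ P.map (MulAut.conj a).toMonoidHom)
    (hmax : ∀ B : Subgroup G, A ≤ B → Group.IsSolvable ↥B →
      (∃ b ∈ B, B = P ⊔ P.map (MulAut.conj b).toMonoidHom) → B = A)
    (hV : Group.IsNilpotent ↥V) (hAV : A ≤ Subgroup.normalizer (V : Set G)) :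
    Group.IsNilpotent ↥((Cfsg.fittingSubgroup ↥A).map A.subtype ⊔ V) := by
  classical
  obtain ⟨D, hD⟩ : ∃ D, D = (Cfsg.fittingSubgroup ↥A).map A.subtype := ⟨_, rfl⟩
  rw [← hD]
  have hDsup : D = ⨆ q : Nat.Primes, core (q : ℕ) A := by
    rw [hD, fittingSubgroup_eq_iSup_pCore, Subgroup.map_iSup]
  have hVsup : V = ⨆ q : Nat.Primes, core (q : ℕ) V := by
    have h1 : Cfsg.fittingSubgroup ↥V = ⊤ := fittingSubgroup_eq_top_of_nilpotent
    rw [fittingSubgroup_eq_iSup_pCore] at h1
    have h2 := congrArg (fun X : Subgroup V => X.map V.subtype) h1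
    simp only [Subgroup.map_iSup] at h2
    rw [h2]
    rw [← MonoidHom.range_eq_map, Subgroup.range_subtype]
  -- the parts
  let N : Nat.Primes → Subgroup G := fun q => core (q : ℕ) A ⊔ core (q : ℕ) V
  have hNp : ∀ q : Nat.Primes, IsPGroup (q : ℕ) (N q) := by
    intro q
    have : Fact (q : ℕ).Prime := ⟨q.2⟩
    exact Cfsg.Agent.Lib.CoprimeInv.isPGroup_sup_of_le_normalizer (isPGroup_core _ A) (isPGroup_core _ V)
      ((core_le _ A).trans (normalizer_core _ hAV))
  have hKK : ∀ r s : Nat.Primes, r ≠ s → core (r : ℕ) V ≤ Subgroup.centralizer ((core (s : ℕ) A : Subgroup G) : Set G) := by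
    intro r s hrs
    have : Fact (r : ℕ).Prime := ⟨r.2⟩
    have : Fact (s : ℕ).Prime := ⟨s.2⟩
    exact claimK hp hp5 hP hAs ha hPA hmax hAV (fun h => hrs (Subtype.ext h))
  have hcentN : ∀ {X Y : Subgroup G}, X ≤ Subgroup.centralizer (Y : Set G) →
      Y ≤ Subgroup.normalizer (X : Set G) := by
    intro X Y hXY
    refine le_normalizer_of_conj ?_
    intro y hy z hz
    have h1 := Subgroup.mem_centralizer_iff.mp (hXY hz) y hy
    rw [h1]
    simpa using hz
  have hAn : ∀ q q' : Nat.Primes, core (q' : ℕ) A ≤ Subgroup.normalizer ((N q : Subgroup G) : Set G) := by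
    intro q q'
    by_cases hqq : q' = q
    · rw [hqq]
      exact (le_sup_left : core (q : ℕ) A ≤ N q).trans Subgroup.le_normalizer
    · apply hcentN
      have : Fact (q : ℕ).Prime := ⟨q.2⟩
      have : Fact (q' : ℕ).Prime := ⟨q'.2⟩
      refine sup_le ?_ (hKK q q' (Ne.symm hqq))
      intro z hz
      refine Subgroup.mem_centralizer_iff.mpr fun y hy => ?_
      exact commute_core (fun h => hqq (Subtype.ext h)) A hy hz
  have hVn : ∀ q q' : Nat.Primes, core (q' : ℕ) V ≤ Subgroup.normalizer ((N q : Subgroup G) : Set G) := by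
    intro q q'
    by_cases hqq : q' = q
    · rw [hqq]
      exact (le_sup_right : core (q : ℕ) V ≤ N q).trans Subgroup.le_normalizer
    · apply hcentN
      have : Fact (q : ℕ).Prime := ⟨q.2⟩
      have : Fact (q' : ℕ).Prime := ⟨q'.2⟩
      refine sup_le ?_ ?_
      · exact Subgroup.le_centralizer_iff.mp (hKK q' q hqq)
      · intro z hz
        refine Subgroup.mem_centralizer_iff.mpr fun y hy => ?_
        exact commute_core (fun h => hqq (Subtype.ext h)) V hy hz
  have hVeq : (⨆ q : Nat.Primes, core (q : ℕ) V) = V := hVsup.symm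
  have hHn : ∀ q : Nat.Primes, D ⊔ V ≤ Subgroup.normalizer ((N q : Subgroup G) : Set G) := by
    intro q
    refine sup_le ?_ ?_
    · rw [hDsup]
      exact iSup_le (hAn q)
    · rw [← hVeq]
      exact iSup_le (hVn q)
  have hNH : ∀ q : Nat.Primes, N q ≤ D ⊔ V := by
    intro q
    refine sup_le ?_ ?_
    · refine le_trans ?_ le_sup_left
      rw [hDsup]
      exact le_iSup (fun q : Nat.Primes => core (q : ℕ) A) q
    · refine le_trans ?_ le_sup_right
      exact (core_le _ V)
  let F : Subgroup ↥(D ⊔ V) := Cfsg.fittingSubgroup ↥(D ⊔ V)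
  have hNF : ∀ q : Nat.Primes, N q ≤ F.map (D ⊔ V).subtype := by
    intro q z hz
    have : Fact (q : ℕ).Prime := ⟨q.2⟩
    have hn : ((N q).subgroupOf (D ⊔ V)).Normal := Subgroup.normal_subgroupOf_of_le_normalizer (hHn q)
    have hpg : IsPGroup (q : ℕ) ((N q).subgroupOf (D ⊔ V)) := by
      rintro ⟨w, hw⟩
      rw [Subgroup.mem_subgroupOf] at hw
      obtain ⟨k, hk⟩ := hNp q ⟨w, hw⟩
      refine ⟨k, Subtype.ext (Subtype.ext ?_)⟩
      have h1 : ((w : G)) ^ ((q : ℕ) ^ k) = 1 := congrArg Subtype.val hk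
      exact h1
    have hle : (N q).subgroupOf (D ⊔ V) ≤ F := le_fittingSubgroup hn hpg.isNilpotent
    exact ⟨⟨z, hNH q hz⟩, hle ((Subgroup.mem_subgroupOf).mpr hz), rfl⟩
  have hle : D ⊔ V ≤ F.map (D ⊔ V).subtype := by
    refine sup_le ?_ ?_
    · conv_lhs => rw [hDsup]
      exact iSup_le fun q => (le_sup_left : core (q : ℕ) A ≤ N q).trans (hNF q)
    · conv_lhs => rw [← hVeq]
      exact iSup_le fun q => (le_sup_right : core (q : ℕ) V ≤ N q).trans (hNF q)
  have hFtop : F = ⊤ := by
    rw [eq_top_iff]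
    rintro ⟨w, hw⟩ -
    obtain ⟨f, hf, hfw⟩ := hle hw
    have : f = ⟨w, hw⟩ := Subtype.ext hfw
    rwa [← this]
  have hnil : Group.IsNilpotent F := isNilpotent_fittingSubgroup
  rw [hFtop] at hnil
  exact Group.nilpotent_of_mulEquiv Subgroup.topEquiv

end Cfsg.Agent.Lib.FlavS22B
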