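import Mathlib
import Cfsg.Agent.Lib.DegreeDiv
import Cfsg.Agent.Lib.BlockNormal
import Cfsg.Agent.Lib.PCore
import Cfsg.Agent.Lib.PSolv

/-!
# Fong's theorem: a finite central extension of `p'`-order in which an invariant character extends

`(det X) ^ |N| = 1` cuts out a finite central extension of `G` from the implementers of `ρ`.
The kernel has exponent dividing `k * |N|`.
-/

set_option autoImplicit false
set_option linter.style.haveILetI false
set_option linter.unusedVariables false
set_option linter.unusedSectionVars false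

namespace Cfsg.Agent.Lib.FongExt

open Cfsg Cfsg.Agent.Lib.CharBasic Cfsg.Agent.Lib.CharInd Cfsg.Agent.Lib.CharInduction
open Cfsg.Agent.Lib.CentralExt Cfsg.Agent.Lib.ImplGroup Cfsg.Agent.Lib.CosetAvg
open Cfsg.Agent.Lib.Clifford
open Module
open scoped ComplexConjugate

universe u

section Concrete

variable {G : Type u} [Group G] [Finite G] (N : Subgroup G) [hN : N.Normal] {k : ℕ}
  (ρ : Representation ℂ N (Fin k → ℂ))

/-- The power of the determinant on the implementers, with exponent `|N|`. -/
noncomputable def detN : implGroup N ρ →* ℂˣ :=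
  (powMonoidHom (Nat.card N)).comp
    ((Units.map (LinearMap.det : Module.End ℂ (Fin k → ℂ) →* ℂ)).comp (implRep N ρ))

theorem detN_val (x : implGroup N ρ) :
    ((detN N ρ x : ℂˣ) : ℂ) =
      LinearMap.det (((x : G × (Module.End ℂ (Fin k → ℂ))ˣ).2 : Module.End ℂ (Fin k → ℂ))) ^
        Nat.card N := by
  simp [detN, implRep]

theorem detN_ι (c : ℂˣ) : detN N ρ (implι N ρ c) = c ^ (k * Nat.card N) := by
  apply Units.ext
  rw [detN_val]
  have h1 : (((implι N ρ c : implGroup N ρ) : G × (Module.End ℂ (Fin k → ℂ))ˣ).2 :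
      Module.End ℂ (Fin k → ℂ)) = (c : ℂ) • (1 : Module.End ℂ (Fin k → ℂ)) := scalarUnit_val c
  rw [h1, LinearMap.det_smul]
  simp [pow_mul]

theorem detN_hat (n : N) : detN N ρ (implHat N ρ n) = 1 := by
  apply Units.ext
  rw [detN_val]
  have h1 : (((implHat N ρ n : implGroup N ρ) : G × (Module.End ℂ (Fin k → ℂ))ˣ).2 :
      Module.End ℂ (Fin k → ℂ)) = ρ n := rfl
  rw [h1, ← map_pow, ← map_pow]
  have h2 : n ^ Nat.card N = 1 := pow_card_eq_one'
  rw [h2, map_one, map_one]
  simp

variable (hρ : ρ.IsIrreducible)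
  (hsurj : ∀ g : G, ∃ X : (Module.End ℂ (Fin k → ℂ))ˣ, (g, X) ∈ implGroup N ρ)

include hρ hsurj in
theorem exists_liftN (hk : 0 < k) (g : G) : ∃ y : (detN N ρ).ker, implπ N ρ y = g := by
  obtain ⟨x, hx⟩ := (implExt N ρ hρ hsurj).surj g
  have hM : 0 < k * Nat.card N := Nat.mul_pos hk Nat.card_pos
  obtain ⟨b, hb⟩ := units_exists_pow (detN N ρ x)⁻¹ (k * Nat.card N) hM
  refine ⟨⟨implι N ρ b * x, ?_⟩, ?_⟩
  · rw [MonoidHom.mem_ker, map_mul, detN_ι, hb, inv_mul_cancel]
  · show implπ N ρ (implι N ρ b * x) = g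
    rw [map_mul]
    have h1 : implπ N ρ (implι N ρ b) = 1 := rfl
    rw [h1, one_mul]
    exact hx

include hρ hsurj in
theorem finite_kerN (hk : 0 < k) : Finite (detN N ρ).ker := by
  classical
  choose y hy using exists_liftN N ρ hρ hsurj hk
  have hne : NeZero (k * Nat.card N) := ⟨(Nat.mul_pos hk Nat.card_pos).ne'⟩
  let f : G × rootsOfUnity (k * Nat.card N) ℂ → (detN N ρ).ker := fun p =>
    ⟨implι N ρ (p.2 : ℂˣ) * y p.1, by
      rw [MonoidHom.mem_ker, map_mul, detN_ι, (mem_rootsOfUnity _ _).mp p.2.2, one_mul]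
      exact (y p.1).2⟩
  apply Finite.of_surjective f
  intro x
  obtain ⟨c, hc⟩ := (implExt N ρ hρ hsurj).exists_of_same (y (implπ N ρ x) : implGroup N ρ)
    (x : implGroup N ρ) (hy _)
  have hc' : (x : implGroup N ρ) = implι N ρ c * (y (implπ N ρ x) : implGroup N ρ) := hc
  have hcpow : c ^ (k * Nat.card N) = 1 := by
    have h1 := congrArg (detN N ρ) hc'
    rw [map_mul, detN_ι, (MonoidHom.mem_ker.mp x.2), (MonoidHom.mem_ker.mp (y _).2), mul_one] at h1
    exact h1.symm
  refine ⟨(implπ N ρ x, ⟨c, (mem_rootsOfUnity _ _).mpr hcpow⟩), ?_⟩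
  apply Subtype.ext
  exact hc'.symm

/-- The lift of `N` to the kernel of the determinant power. -/
noncomputable def hatN : N →* (detN N ρ).ker :=
  (implHat N ρ).codRestrict _ (fun n => MonoidHom.mem_ker.mpr (detN_hat N ρ n))

theorem hatN_coe (n : N) : ((hatN N ρ n : (detN N ρ).ker) : implGroup N ρ) = implHat N ρ n :=
  rfl

/-- The projection of the kernel of the determinant power to `G`. -/
noncomputable def piN : (detN N ρ).ker →* G := (implπ N ρ).comp (detN N ρ).ker.subtype

theorem piN_hatN (n : N) : piN N ρ (hatN N ρ n) = n := rfl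

/-- The tautological representation of the kernel of the determinant power. -/
noncomputable def repN : Representation ℂ (detN N ρ).ker (Fin k → ℂ) :=
  (Units.coeHom (Module.End ℂ (Fin k → ℂ))).comp ((implRep N ρ).comp (detN N ρ).ker.subtype)

theorem repN_hatN (n : N) : repN N ρ (hatN N ρ n) = ρ n := rfl

/-- The range of the lift of `N` is normal. -/
theorem range_hatN_normal : (hatN N ρ).range.Normal := by
  constructor
  rintro _ ⟨n, rfl⟩ x
  have hex : (x : implGroup N ρ) * implHat N ρ n * (x : implGroup N ρ)⁻¹ =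
      implHat N ρ (conjAut N hN (implπ N ρ x) n) := by
    apply Subtype.ext
    apply Prod.ext
    · rfl
    · apply Units.ext
      have hmem := (x : implGroup N ρ).2 n
      show ((x : implGroup N ρ) : G × (Module.End ℂ (Fin k → ℂ))ˣ).2.val * ρ n *
        (((x : implGroup N ρ) : G × (Module.End ℂ (Fin k → ℂ))ˣ).2⁻¹).val =
          ρ (conjAut N hN (implπ N ρ x) n)
      have h1 : (((x : implGroup N ρ) : G × (Module.End ℂ (Fin k → ℂ))ˣ).2 :
          Module.End ℂ (Fin k → ℂ)) * ρ n =
          ρ (conjAut N hN (implπ N ρ x) n) *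
            (((x : implGroup N ρ) : G × (Module.End ℂ (Fin k → ℂ))ˣ).2 :
              Module.End ℂ (Fin k → ℂ)) := hmem
      rw [h1, mul_assoc, Units.mul_inv, mul_one]
  refine ⟨conjAut N hN (implπ N ρ x) n, ?_⟩
  apply Subtype.ext
  rw [hatN_coe]
  exact hex.symm

include hρ hsurj in
/-- The kernel of the projection is central of exponent dividing `k * |N|`. -/
theorem ker_piN (y : (detN N ρ).ker) (h : piN N ρ y = 1) :
    (∀ w, y * w = w * y) ∧ y ^ (k * Nat.card N) = 1 := by
  obtain ⟨c, hc⟩ := (implExt N ρ hρ hsurj).ker (y : implGroup N ρ) h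
  have hc' : (y : implGroup N ρ) = implι N ρ c := hc.symm
  constructor
  · intro w
    apply Subtype.ext
    push_cast
    rw [hc']
    exact (implExt N ρ hρ hsurj).central c (w : implGroup N ρ)
  · apply Subtype.ext
    push_cast
    rw [hc', ← map_pow]
    have h1 := (MonoidHom.mem_ker.mp y.2)
    rw [hc', detN_ι] at h1
    rw [h1, map_one]

end Concrete

/-- **The abstract central extension.** -/
theorem exists_ext {G : Type u} [Group G] [Finite G] (N : Subgroup G) [hN : N.Normal] {k : ℕ}
    (ρ : Representation ℂ N (Fin k → ℂ)) (hρ : ρ.IsIrreducible) (hk : 0 < k)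
    (hinv : ∀ (g : G) (n : N), ρ.character ⟨g * n * g⁻¹, hN.conj_mem (n : G) n.2 g⟩ = ρ.character n) :
    ∃ (Γ : Type u) (_ : Group Γ) (_ : Finite Γ) (π : Γ →* G) (hat : N →* Γ)
      (R : Representation ℂ Γ (Fin k → ℂ)), Function.Surjective π ∧ (∀ n, π (hat n) = n) ∧
      (∀ n, R (hat n) = ρ n) ∧ hat.range.Normal ∧
      (∀ y, π y = 1 → (∀ w, y * w = w * y) ∧ y ^ (k * Nat.card N) = 1) := by
  have hsurj := exists_impl N ρ hinv
  haveI := finite_kerN N ρ hρ hsurj hk
  exact ⟨(detN N ρ).ker, inferInstance, inferInstance, piN N ρ, hatN N ρ, repN N ρ,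
    exists_liftN N ρ hρ hsurj hk, piN_hatN N ρ, repN_hatN N ρ, range_hatN_normal N ρ,
    ker_piN N ρ hρ hsurj⟩

/-- `ψ = cosetAvg ψ χ * χ` when `χ|_N` is irreducible and lies under `ψ`. -/
theorem eq_cosetAvg_mul {G : Type u} [Group G] [Fintype G] (N : Subgroup G) [Fintype N] [N.Normal]
    {χ ψ : G → ℂ} (hχ : IsCharacter G χ)
    (hχN : IsIrrCharacter N (fun n : N => χ n)) (hψ : IsIrrCharacter G ψ)
    (h0 : classInner (fun n : N => ψ n) (fun n : N => χ n) ≠ 0) :
    ψ = cosetAvg N ψ χ * χ := by
  set η := cosetAvg N ψ χ with hη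
  have hirr : IsIrrCharacter G η := isIrr_cosetAvg N hχ hχN hψ h0
  have hηc : IsCharacter G η := IsIrrCharacter.isCharacter hirr
  have hηinv : ∀ (n : N) (g : G), η (n * g) = η g := cosetAvg_mul_left N ψ χ
  have hprod : IsCharacter G (η * χ) := isCharacter_mul hηc hχ
  have h1 : classInner (η * χ) (η * χ) = 1 := by
    rw [classInner_mul_mul_of_invariant N hχ hχN hηinv hηinv, classInner_irr_self hirr]
  have hprodirr := isIrrCharacter_of_norm_one hprod h1
  by_contra hne
  have h2 := classInner_irr_ne hψ hprodirr hne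
  rw [classInner_cosetAvg N hηinv, ← hη, classInner_irr_self hirr] at h2
  exact one_ne_zero h2

section Grp

variable {E H : Type u} [Group E] [Group H] [Finite E] [Finite H] {p : ℕ} [hp : Fact p.Prime]

/-- The image of `O_p` under a surjection with central kernel is `O_p`. -/
theorem pCore_le_map_of_central (τ : E →* H) (hτ : Function.Surjective τ)
    (hc : ∀ y, τ y = 1 → ∀ w, y * w = w * y) : pCore p H ≤ (pCore p E).map τ := by
  classical
  let Q : Subgroup E := (pCore p H).comap τ
  haveI hQn : Q.Normal := inferInstance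
  have hHp : IsPGroup p (pCore p H) := PCore.isPGroup_pCore p
  -- `Q` is nilpotent
  let f : Q →* pCore p H := (τ.comp Q.subtype).codRestrict (pCore p H) (fun y => y.2)
  haveI : Group.IsNilpotent (pCore p H) := hHp.isNilpotent
  have hker : f.ker ≤ Subgroup.center Q := by
    intro y hy
    rw [Subgroup.mem_center_iff]
    intro w
    have h1 : τ (y : E) = 1 := by
      have h2 : f y = 1 := hy
      exact congrArg Subtype.val h2
    exact Subtype.ext ((hc _ h1 _).symm)
  haveI hQnil : Group.IsNilpotent Q := Subgroup.isNilpotent_of_ker_le_center f hker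
  obtain ⟨S⟩ : Nonempty (Sylow p Q) := inferInstance
  have hSn : (S : Subgroup Q).Normal :=
    (Group.isNilpotent_of_finite_tfae (G := Q)).out 0 3 rfl rfl |>.mp hQnil p hp S
  haveI hSc : (S : Subgroup Q).Characteristic := S.characteristic_of_normal hSn
  have hS'n : ((S : Subgroup Q).map Q.subtype).Normal := inferInstance
  have hS'p : IsPGroup p ((S : Subgroup Q).map Q.subtype) :=
    S.isPGroup'.map Q.subtype
  have hle : (S : Subgroup Q).map Q.subtype ≤ pCore p E := PCore.le_pCore hS'n hS'p
  intro q hq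
  obtain ⟨y, rfl⟩ := hτ q
  have hyQ : y ∈ Q := hq
  have h1 : (⟨y, hyQ⟩ : Q) ^ (S : Subgroup Q).index ∈ (S : Subgroup Q) :=
    Subgroup.pow_index_mem _ _
  have hcop : Nat.Coprime (S : Subgroup Q).index (orderOf (τ y)) := by
    obtain ⟨j, hj⟩ := (IsPGroup.iff_orderOf.mp hHp) ⟨τ y, hq⟩
    have hj' : orderOf (τ y) = p ^ j := by
      rw [← hj]
      exact (Subgroup.orderOf_mk _ _).symm
    rw [hj']
    apply Nat.Coprime.pow_right
    exact ((Nat.Prime.coprime_iff_not_dvd hp.out).mpr S.not_dvd_index).symm
  obtain ⟨j, hj⟩ := exists_pow_eq_self_of_coprime hcop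
  have h2 : y ^ (S : Subgroup Q).index ∈ pCore p E := hle ⟨_, h1, rfl⟩
  refine ⟨(y ^ (S : Subgroup Q).index) ^ j, (pCore p E).pow_mem h2 j, ?_⟩
  rw [map_pow, map_pow]
  exact hj

/-- Central characters under a surjection. -/
theorem centralChar_comp_surj (κ : E →* H) (hκ : Function.Surjective κ) (β : H → ℂ) (y : E) :
    ∃ c : ℕ, centralChar (β ∘ κ) y = (c : ℂ) * centralChar β (κ y) := by
  have h1 : Subgroup.centralizer ({y} : Set E) ≤
      (Subgroup.centralizer ({κ y} : Set H)).comap κ := by
    intro w hw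
    rw [Subgroup.mem_comap, Subgroup.mem_centralizer_singleton_iff]
    rw [Subgroup.mem_centralizer_singleton_iff] at hw
    rw [← map_mul, hw, map_mul]
  have h2 := Subgroup.index_dvd_of_le h1
  rw [Subgroup.index_comap_of_surjective _ hκ] at h2
  obtain ⟨c, hc⟩ := h2
  refine ⟨c, ?_⟩
  unfold centralChar
  rw [hc]
  simp only [Function.comp_apply, map_one]
  push_cast
  ring

/-- Central characters under a central extension with kernel of exponent prime to `p`. -/
theorem centralChar_comp_ext (π : E →* H) (hπ : Function.Surjective π) {m : ℕ}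
    (hc : ∀ y, π y = 1 → (∀ w, y * w = w * y) ∧ y ^ m = 1) (hm : ¬ p ∣ m) (χ : H → ℂ) (y : E) :
    ∃ c : ℕ, ¬ p ∣ c ∧ centralChar (χ ∘ π) y = (c : ℂ) * centralChar χ (π y) := by
  classical
  let C : Subgroup E := Subgroup.centralizer ({y} : Set E)
  let D : Subgroup E := (Subgroup.centralizer ({π y} : Set H)).comap π
  have hCD : C ≤ D := by
    intro w hw
    change π w ∈ Subgroup.centralizer ({π y} : Set H)
    have hw' : w ∈ Subgroup.centralizer ({y} : Set E) := hw
    rw [Subgroup.mem_centralizer_singleton_iff] at hw' ⊢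
    rw [← map_mul, hw', map_mul]
  have hidx : C.relIndex D * D.index = C.index := Subgroup.relIndex_mul_index hCD
  have hD : D.index = (Subgroup.centralizer ({π y} : Set H)).index :=
    Subgroup.index_comap_of_surjective _ hπ
  refine ⟨C.relIndex D, ?_, ?_⟩
  · obtain ⟨T⟩ : Nonempty (Sylow p D) := inferInstance
    let T' : Subgroup E := (T : Subgroup D).map D.subtype
    have hT'C : T' ≤ C := by
      rintro _ ⟨⟨w, hwD⟩, hwT, rfl⟩
      change w ∈ Subgroup.centralizer ({y} : Set E)
      rw [Subgroup.mem_centralizer_singleton_iff]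
      have hwD' : π w ∈ Subgroup.centralizer ({π y} : Set H) := hwD
      rw [Subgroup.mem_centralizer_singleton_iff] at hwD'
      set z := w * y * w⁻¹ * y⁻¹ with hz
      have hz1 : π z = 1 := by
        simp only [hz, map_mul, map_inv]
        rw [hwD']
        group
      obtain ⟨hzc, hzm⟩ := hc z hz1
      have hconj : ∀ j : ℕ, w ^ j * y * (w ^ j)⁻¹ = z ^ j * y := by
        intro j
        induction j with
        | zero => simp
        | succ j ih =>
          have h3 : w * y * w⁻¹ = z * y := by
            rw [hz]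
            group
          calc w ^ (j + 1) * y * (w ^ (j + 1))⁻¹
              = w * (w ^ j * y * (w ^ j)⁻¹) * w⁻¹ := by
                rw [pow_succ']
                group
            _ = w * (z ^ j * y) * w⁻¹ := by rw [ih]
            _ = z ^ j * (w * y * w⁻¹) := by
                have h4 : ∀ j : ℕ, w * z ^ j = z ^ j * w := by
                  intro j
                  induction j with
                  | zero => simp
                  | succ j ih2 =>
                    rw [pow_succ, ← mul_assoc, ih2, mul_assoc, ← hzc w, ← mul_assoc]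
                rw [← mul_assoc w, h4]
                simp only [mul_assoc]
            _ = z ^ (j + 1) * y := by
                rw [h3, pow_succ]
                exact (mul_assoc _ _ _).symm
      obtain ⟨a, ha⟩ := (IsPGroup.iff_orderOf.mp T.isPGroup') ⟨⟨w, hwD⟩, hwT⟩
      have hwp : w ^ (p ^ a) = 1 := by
        have h5 : (⟨⟨w, hwD⟩, hwT⟩ : (T : Subgroup D)) ^ (p ^ a) = 1 := by
          rw [← ha]
          exact pow_orderOf_eq_one _
        have h6 := congrArg (fun u : (T : Subgroup D) => ((u : D) : E)) h5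
        simpa using h6
      have hzp : z ^ (p ^ a) = 1 := by
        have h7 := hconj (p ^ a)
        rw [hwp] at h7
        simp only [one_mul, inv_one, mul_one] at h7
        exact mul_eq_right.mp h7.symm
      have hzone : z = 1 := by
        have h8 : Nat.Coprime (p ^ a) m :=
          Nat.Coprime.pow_left _ ((Nat.Prime.coprime_iff_not_dvd hp.out).mpr hm)
        have h9 := Nat.dvd_gcd (orderOf_dvd_of_pow_eq_one hzp) (orderOf_dvd_of_pow_eq_one hzm)
        rw [h8] at h9
        exact orderOf_eq_one_iff.mp (Nat.dvd_one.mp h9)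
      have h10 : w * y * w⁻¹ * y⁻¹ = 1 := hzone
      have h11 : w * y * w⁻¹ = y := by
        rwa [mul_inv_eq_one] at h10
      rw [mul_inv_eq_iff_eq_mul] at h11
      exact h11
    have h1 : C.relIndex D ∣ T'.relIndex D := Subgroup.relIndex_dvd_of_le_left D hT'C
    have h2 : T'.relIndex D = (T : Subgroup D).index := by
      unfold Subgroup.relIndex
      congr 1
      exact Subgroup.comap_map_eq_self_of_injective D.subtype_injective _
    rw [h2] at h1
    exact fun h3 => T.not_dvd_index (h3.trans h1)
  · unfold centralChar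
    change (C.index : ℂ) * _ / _ = _
    rw [← hidx, hD]
    simp only [Function.comp_apply, map_one]
    push_cast
    ring

end Grp


end Cfsg.Agent.Lib.FongExt
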