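import Mathlib
import Cfsg.Agent.Lib.FpfNorm
import Cfsg.Agent.Lib.FrobCompl

/-!
# Semiregular actions on an abelian group modulo a fixed subgroup

`D` is a finite abelian group, `Z₀ ≤ D` is fixed pointwise by `F` and every nontrivial element of `F`
has all its fixed points in `Z₀`.  A nontrivial subgroup `K` of order prime to `r` produces a
complement `V` of `Z₀` in the `r`-part of `D`, invariant under the normalizer of `K`.  Consequently:
* an `r`-element of `F` normalizes no nontrivial subgroup of order prime to `r` (`no_normalize`);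
* Sylow subgroups act fixed-point-freely on some nontrivial abelian group (`exists_fpf`);
* `F` can not have two primes `r₁ ≠ r₂` with nontrivial `rᵢ`-elements and noncentral `rᵢ`-parts
  (`false_of_two_primes`), as soon as a Sylow `2`-subgroup is abelian in the case `2 ∈ {r₁, r₂}`.
-/

set_option autoImplicit false
set_option linter.unusedSectionVars false
set_option linter.unusedVariables false
set_option linter.style.haveILetI false
set_option linter.unusedSimpArgs false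

namespace Cfsg.Agent.Lib.TwoRegA

open Cfsg.Agent.Lib.FpfNorm
open scoped commutatorElement

variable {D : Type*} [CommGroup D] [Finite D] {F : Type*} [Group F] [Finite F]

/-- `Z₀` is fixed pointwise and contains all the fixed points of nontrivial elements. -/
structure Semi (φ : F →* MulAut D) (Z₀ : Subgroup D) : Prop where
  fix : ∀ f, ∀ z ∈ Z₀, φ f z = z
  semi : ∀ f, f ≠ 1 → ∀ v, φ f v = v → v ∈ Z₀

variable {φ : F →* MulAut D} {Z₀ : Subgroup D}

/-- The elements of `r`-power order. -/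
def part (D : Type*) [CommGroup D] (r : ℕ) : Subgroup D where
  carrier := {v | ∃ k : ℕ, v ^ (r ^ k) = 1}
  mul_mem' := by
    rintro a b ⟨k, hk⟩ ⟨l, hl⟩
    refine ⟨k + l, ?_⟩
    rw [mul_pow, pow_add, pow_mul, hk, one_pow, one_mul, mul_comm (r ^ k), pow_mul, hl, one_pow]
  one_mem' := ⟨0, by simp⟩
  inv_mem' := by
    rintro a ⟨k, hk⟩
    exact ⟨k, by rw [inv_pow, hk, inv_one]⟩

theorem mem_part {r : ℕ} {v : D} : v ∈ part D r ↔ ∃ k : ℕ, v ^ (r ^ k) = 1 := Iff.rfl

theorem eq_one_of_pow_of_coprime {r c k : ℕ} {w : D} (hc : c.Coprime r) (h1 : w ^ c = 1)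
    (h2 : w ^ (r ^ k) = 1) : w = 1 := by
  have h3 := Nat.dvd_gcd (orderOf_dvd_of_pow_eq_one h1) (orderOf_dvd_of_pow_eq_one h2)
  have h4 : Nat.gcd c (r ^ k) = 1 := hc.pow_right k
  rw [h4, Nat.dvd_one, orderOf_eq_one_iff] at h3
  exact h3

theorem exists_complement (hs : Semi φ Z₀) {r : ℕ} [Fact r.Prime] (K : Subgroup F) (hK : K ≠ ⊥)
    (hco : (Nat.card K).Coprime r) {v : D} {j : ℕ} (hv : v ^ (r ^ j) = 1) (hvZ : v ∉ Z₀) :
    ∃ V : Subgroup D, V ≠ ⊥ ∧ V ≤ part D r ∧ (∀ w ∈ V, w ∈ Z₀ → w = 1) ∧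
      ∀ x : F, (∀ k ∈ K, x * k * x⁻¹ ∈ K) → ∀ w ∈ V, φ x w ∈ V := by
  classical
  haveI := Fintype.ofFinite K
  let T : D →* D := ∏ k : K, ((φ k : MulAut D).toMonoidHom)
  have hT : ∀ u, T u = ∏ k : K, φ k u := fun u => by
    simp [T]
  -- values of `T` are fixed by `K`
  have hfix : ∀ k₀ : K, ∀ u, φ k₀ (T u) = T u := by
    intro k₀ u
    rw [hT, map_prod]
    have : ∀ k : K, φ k₀ (φ k u) = φ ((k₀ * k : K) : F) u := by
      intro k
      simp [map_mul, MulAut.mul_apply]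
    simp_rw [this]
    exact Fintype.prod_equiv (Equiv.mulLeft k₀) _ _ (fun _ => rfl)
  obtain ⟨k₀, hk₀⟩ := Subgroup.ne_bot_iff_exists_ne_one.1 hK
  have hTZ : ∀ u, T u ∈ Z₀ := fun u =>
    hs.semi (k₀ : F) (by simpa using hk₀) _ (hfix k₀ u)
  have hTz : ∀ z ∈ Z₀, T z = z ^ Nat.card K := by
    intro z hz
    rw [hT]
    have : ∀ k : K, φ k z = z := fun k => hs.fix _ z hz
    simp_rw [this]
    rw [Finset.prod_const, Finset.card_univ, Nat.card_eq_fintype_card]
  refine ⟨T.ker ⊓ part D r, ?_, inf_le_right, ?_, ?_⟩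
  · -- nontrivial
    obtain ⟨z, hz⟩ : ∃ z, z = T v := ⟨_, rfl⟩
    have hzZ : z ∈ Z₀ := hz ▸ hTZ v
    have hzr : z ^ (r ^ j) = 1 := by rw [hz, ← map_pow, hv, map_one]
    have hcop : (Nat.card K).Coprime (orderOf z) :=
      Nat.Coprime.coprime_dvd_right (orderOf_dvd_of_pow_eq_one hzr) (hco.pow_right j)
    obtain ⟨n, hn⟩ := exists_pow_eq_self_of_coprime hcop
    have hyZ : z ^ n ∈ Z₀ := Z₀.pow_mem hzZ n
    have hTy : T (z ^ n) = z := by
      rw [hTz _ hyZ, ← pow_mul, mul_comm, pow_mul, hn]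
    intro hbot
    have hmem : v * (z ^ n)⁻¹ ∈ T.ker ⊓ part D r := by
      refine Subgroup.mem_inf.2 ⟨?_, ?_⟩
      · rw [MonoidHom.mem_ker, map_mul, map_inv, hTy, hz, mul_inv_cancel]
      · refine ⟨j, ?_⟩
        rw [mul_pow, inv_pow, hv, ← pow_mul, mul_comm n, pow_mul, hzr, one_pow, inv_one, one_mul]
    rw [hbot, Subgroup.mem_bot] at hmem
    have : v = z ^ n := by
      have := mul_inv_eq_one.1 hmem
      exact this
    exact hvZ (this ▸ hyZ)
  · intro w hw hwZ
    obtain ⟨hw1, k, hk⟩ := Subgroup.mem_inf.1 hw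
    rw [MonoidHom.mem_ker, hTz w hwZ] at hw1
    exact eq_one_of_pow_of_coprime hco hw1 hk
  · intro x hx w hw
    obtain ⟨hw1, k, hk⟩ := Subgroup.mem_inf.1 hw
    refine Subgroup.mem_inf.2 ⟨?_, k, ?_⟩
    · rw [MonoidHom.mem_ker] at hw1 ⊢
      let e : K → K := fun a => ⟨x * a * x⁻¹, hx a a.2⟩
      have he : Function.Bijective e := by
        apply Finite.injective_iff_bijective.1
        intro a b hab
        have : x * (a : F) * x⁻¹ = x * (b : F) * x⁻¹ := congrArg Subtype.val hab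
        exact Subtype.ext (by simpa using this)
      have h1 : T (φ x w) = ∏ a : K, φ (e a : F) (φ x w) := by
        rw [hT]
        exact (he.prod_comp (fun a : K => φ (a : F) (φ x w))).symm
      have h2 : ∀ a : K, φ (e a : F) (φ x w) = φ x (φ (a : F) w) := by
        intro a
        have : ((e a : K) : F) * x = x * a := by
          show x * (a : F) * x⁻¹ * x = x * a
          group
        rw [← MulAut.mul_apply, ← MulAut.mul_apply, ← map_mul, ← map_mul, this]
      rw [h1]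
      simp_rw [h2]
      rw [← map_prod, ← hT, hw1, map_one]
    · rw [← map_pow, hk, map_one]

/-- The restriction of an action to an invariant subgroup. -/
def restr (φ : F →* MulAut D) (X : Subgroup F) (V : Subgroup D) (h : ∀ a ∈ X, ∀ w ∈ V, φ a w ∈ V) :
    X →* MulAut V where
  toFun a :=
    { toFun := fun w => ⟨φ a w, h a a.2 w w.2⟩
      invFun := fun w => ⟨φ (a : F)⁻¹ w, h _ (X.inv_mem a.2) w w.2⟩
      left_inv := fun w => Subtype.ext (by simp)
      right_inv := fun w => Subtype.ext (by simp)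
      map_mul' := fun u w => Subtype.ext (by simp) }
  map_one' := by
    ext w
    simp
  map_mul' := by
    intro a b
    ext w
    simp [MulAut.mul_apply]

theorem restr_apply (X : Subgroup F) (V : Subgroup D) (h : ∀ a ∈ X, ∀ w ∈ V, φ a w ∈ V) (a : X)
    (w : V) : ((restr φ X V h a w : V) : D) = φ a w := rfl

/-- A subgroup of order prime to `r` acts fixed-point-freely on a nontrivial abelian group, when
the `r`-part of `D` is not in `Z₀`. -/
theorem exists_fpf (hs : Semi φ Z₀) {r : ℕ} [Fact r.Prime] (K : Subgroup F) (hK : K ≠ ⊥)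
    (hco : (Nat.card K).Coprime r) {v : D} {j : ℕ} (hv : v ^ (r ^ j) = 1) (hvZ : v ∉ Z₀) :
    ∃ (V : Subgroup D) (ψ : K →* MulAut V), Nontrivial V ∧ IsFpf ψ := by
  obtain ⟨V, hV, hVr, hVZ, hVinv⟩ := exists_complement hs K hK hco hv hvZ
  have hinv : ∀ a ∈ K, ∀ w ∈ V, φ a w ∈ V := fun a ha =>
    hVinv a (fun k hk => K.mul_mem (K.mul_mem ha hk) (K.inv_mem ha))
  refine ⟨V, restr φ K V hinv, (Subgroup.nontrivial_iff_ne_bot V).2 hV, ?_⟩
  intro a ha w hw
  have h1 : φ (a : F) (w : D) = w := by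
    have := congrArg Subtype.val hw
    rwa [restr_apply] at this
  have h2 := hs.semi (a : F) (by simpa using ha) _ h1
  exact Subtype.ext (hVZ _ w.2 h2)

/-- An `r`-element normalizes no nontrivial subgroup of order prime to `r`, when the `r`-part of
`D` is not in `Z₀`. -/
theorem no_normalize (hs : Semi φ Z₀) {r : ℕ} [Fact r.Prime] (K : Subgroup F) (hK : K ≠ ⊥)
    (hco : (Nat.card K).Coprime r) {x : F} (hx1 : x ≠ 1) {e : ℕ} (hxe : x ^ (r ^ e) = 1)
    (hxK : ∀ k ∈ K, x * k * x⁻¹ ∈ K) {v : D} {j : ℕ} (hv : v ^ (r ^ j) = 1) (hvZ : v ∉ Z₀) :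
    False := by
  classical
  obtain ⟨V, hV, hVr, hVZ, hVinv⟩ := exists_complement hs K hK hco hv hvZ
  have hinv := hVinv x hxK
  haveI := Fintype.ofFinite V
  let f : Function.End V := fun w => ⟨φ x w, hinv w w.2⟩
  have hpow : ∀ (n : ℕ) (w : V), (((f ^ n : Function.End V) w : V) : D) = φ (x ^ n) w := by
    intro n w
    induction n with
    | zero =>
      rw [pow_zero, pow_zero, map_one]
      rfl
    | succ n ih =>
      rw [pow_succ', pow_succ', map_mul, MulAut.mul_apply, ← ih]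
      rfl
  have hf : f ^ r ^ e = 1 := by
    funext w
    apply Subtype.ext
    rw [hpow, hxe, map_one]
    rfl
  have hmod := Equiv.Perm.card_fixedPoints_modEq (f := f) (p := r) (n := e) hf
  have hVp : IsPGroup r V := by
    rintro ⟨w, hw⟩
    obtain ⟨k, hk⟩ := hVr hw
    exact ⟨k, Subtype.ext hk⟩
  obtain ⟨k, hk⟩ := IsPGroup.iff_card.1 hVp
  have hk0 : k ≠ 0 := by
    rintro rfl
    rw [pow_zero] at hk
    exact hV ((Subgroup.card_eq_one).1 hk)
  have hrd : r ∣ Fintype.card V := by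
    rw [← Nat.card_eq_fintype_card, hk]
    exact dvd_pow_self r hk0
  have hrd2 : r ∣ Fintype.card f.fixedPoints := by
    have := (Nat.modEq_zero_iff_dvd.2 hrd).symm.trans hmod
    exact Nat.modEq_zero_iff_dvd.1 this.symm
  have hone : (1 : V) ∈ f.fixedPoints := by
    show f 1 = 1
    apply Subtype.ext
    show φ x 1 = 1
    simp
  obtain ⟨w, hw, hw1⟩ : ∃ w ∈ f.fixedPoints, w ≠ (1 : V) := by
    by_contra hcon
    push Not at hcon
    have h1 : Fintype.card f.fixedPoints = 1 := by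
      rw [Fintype.card_eq_one_iff]
      exact ⟨⟨1, hone⟩, fun y => Subtype.ext (hcon _ y.2)⟩
    rw [h1, Nat.dvd_one] at hrd2
    exact (Fact.out : r.Prime).one_lt.ne' hrd2
  have h1 : φ x (w : D) = w := congrArg Subtype.val (show f w = w from hw)
  have h2 := hs.semi x hx1 _ h1
  exact hw1 (Subtype.ext (hVZ _ w.2 h2))

/-- The fixed point property gives conjugacy invariance for involutions. -/
theorem central_of_involution (hs : Semi φ Z₀) {r₁ r₂ : ℕ} [Fact r₁.Prime] [Fact r₂.Prime]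
    (hne : r₁ ≠ r₂) {v₁ v₂ : D} {j₁ j₂ : ℕ} (hv₁ : v₁ ^ (r₁ ^ j₁) = 1) (hv₁Z : v₁ ∉ Z₀)
    (hv₂ : v₂ ^ (r₂ ^ j₂) = 1) (hv₂Z : v₂ ∉ Z₀) {ι : F} (hι : ι * ι = 1) (f : F) :
    f * ι * f⁻¹ = ι := by
  classical
  by_cases hι1 : ι = 1
  · subst hι1; group
  obtain ⟨ι', hι'⟩ : ∃ ι', ι' = f * ι * f⁻¹ := ⟨_, rfl⟩
  rw [← hι']
  have hι'2 : ι' * ι' = 1 := by
    rw [hι']
    calc f * ι * f⁻¹ * (f * ι * f⁻¹) = f * (ι * ι) * f⁻¹ := by group
      _ = 1 := by rw [hι]; group
  have hι'1 : ι' ≠ 1 := by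
    rw [hι']
    intro h
    apply hι1
    have : f⁻¹ * (f * ι * f⁻¹) * f = f⁻¹ * 1 * f := by rw [h]
    simpa [mul_assoc] using this
  -- `v * ι v` is fixed by `ι`
  have hinv : ∀ (y : F), y * y = 1 → y ≠ 1 → ∀ v : D, v * φ y v ∈ Z₀ := by
    intro y hy hy1 v
    apply hs.semi y hy1
    rw [map_mul, ← MulAut.mul_apply, ← map_mul, hy, map_one]
    simp [mul_comm]
  -- `g = ι ι'` multiplies by an element of `Z₀`
  have hg : ∀ v : D, v⁻¹ * φ (ι * ι') v ∈ Z₀ := by
    intro v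
    have h1 := hinv ι hι hι1 v
    have h2 := hinv ι' hι'2 hι'1 v
    have h3 : φ (ι * ι') v = φ ι (φ ι' v) := by rw [map_mul, MulAut.mul_apply]
    have h4 : φ ι (v * φ ι' v) = v * φ ι' v := hs.fix _ _ h2
    rw [map_mul] at h4
    have h5 : φ ι (φ ι' v) = v * φ ι' v * (φ ι v)⁻¹ := by
      rw [← h4]; simp [mul_comm]
    rw [h3, h5]
    have : v⁻¹ * (v * φ ι' v * (φ ι v)⁻¹) = (v * φ ι' v) * (v * φ ι v)⁻¹ := by
      rw [mul_inv]
      simp only [mul_comm, mul_left_comm, mul_assoc, inv_mul_cancel_left, mul_inv_cancel_left,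
        mul_inv_cancel, mul_one]
    rw [this]
    exact Z₀.mul_mem h2 (Z₀.inv_mem h1)
  -- conclude
  by_contra hcon
  have hgne : ι * ι' ≠ 1 := by
    intro h
    apply hcon
    have : ι' = ι⁻¹ := (eq_inv_of_mul_eq_one_right h)
    rw [this, eq_comm, eq_inv_iff_mul_eq_one]
    exact hι
  obtain ⟨g, hg₀⟩ : ∃ g, g = ι * ι' := ⟨_, rfl⟩
  rw [← hg₀] at hgne hg
  -- a power of prime order
  have ho1 : orderOf g ≠ 1 := by
    rw [Ne, orderOf_eq_one_iff]; exact hgne
  obtain ⟨ℓ, hℓ, hℓd⟩ := Nat.exists_prime_and_dvd ho1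
  obtain ⟨n, hn⟩ := hℓd
  have hopos : 0 < orderOf g := orderOf_pos g
  have hg' : (g ^ n) ≠ 1 := by
    intro h
    have h1 := orderOf_dvd_of_pow_eq_one h
    have hnpos : 0 < n := by
      rcases Nat.eq_zero_or_pos n with h0 | h0
      · rw [h0, mul_zero] at hn; omega
      · exact h0
    have := Nat.le_of_dvd hnpos h1
    have h2 := hℓ.two_le
    rw [hn] at this
    nlinarith
  have hg'ℓ : (g ^ n) ^ ℓ = 1 := by
    rw [← pow_mul, mul_comm, ← hn, pow_orderOf_eq_one]
  -- action of powers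
  have hpow : ∀ (k : ℕ) (v : D), ∃ c ∈ Z₀, φ (g ^ k) v = v * c ∧ c = (v⁻¹ * φ g v) ^ k := by
    intro k v
    induction k with
    | zero => exact ⟨1, Z₀.one_mem, by simp, by simp⟩
    | succ k ih =>
      obtain ⟨c, hc, h1, h2⟩ := ih
      refine ⟨c * (v⁻¹ * φ g v), Z₀.mul_mem hc (hg v), ?_, ?_⟩
      · rw [pow_succ, map_mul, MulAut.mul_apply]
        have h3 : φ g v = v * (v⁻¹ * φ g v) := by simp
        rw [h3, map_mul, h1, hs.fix _ _ (hg v)]
        simp only [mul_comm, mul_left_comm, mul_assoc, inv_mul_cancel_left, mul_inv_cancel_left]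
      · rw [h2, pow_succ]
  -- the coprimality argument
  have key : ∀ {u : ℕ} [Fact u.Prime] (v : D) (j : ℕ), v ^ (u ^ j) = 1 → v ∉ Z₀ → u ≠ ℓ → False := by
    intro u _ v j hv hvZ hne
    obtain ⟨c, hc, h1, h2⟩ := hpow n v
    have hcu : c ^ (u ^ j) = 1 := by
      rw [h2, ← pow_mul, mul_comm n, pow_mul, mul_pow, inv_pow, hv, ← map_pow, hv]
      simp
    have h3 : ∀ k : ℕ, φ ((g ^ n) ^ k) v = v * c ^ k := by
      intro k
      induction k with
      | zero => simp
      | succ k ih =>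
        rw [pow_succ', map_mul, MulAut.mul_apply, ih, map_mul, h1, map_pow, hs.fix _ _ hc, pow_succ]
        simp only [mul_comm, mul_left_comm, mul_assoc]
    have h4 := h3 ℓ
    rw [hg'ℓ, map_one] at h4
    have h5 : c ^ ℓ = 1 := by
      have : v * 1 = v * c ^ ℓ := by simpa using h4
      exact (mul_left_cancel this).symm
    have hcop : ℓ.Coprime u := (Nat.coprime_primes hℓ Fact.out).2 (Ne.symm hne)
    have hc1 : c = 1 := eq_one_of_pow_of_coprime hcop h5 hcu
    apply hvZ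
    apply hs.semi (g ^ n) hg'
    rw [h1, hc1, mul_one]
  by_cases h1 : r₁ = ℓ
  · exact key v₂ j₂ hv₂ hv₂Z (fun h => hne (h1.trans h.symm))
  · exact key v₁ j₁ hv₁ hv₁Z h1

/-- A nontrivial finite Z-group has a normal subgroup of prime order. -/
theorem exists_normal_prime [IsZGroup F] [Nontrivial F] :
    ∃ g : F, (orderOf g).Prime ∧ (Subgroup.zpowers g).Normal := by
  classical
  by_cases hc : commutator F = ⊥
  · -- abelian
    have hab : ∀ a b : F, a * b = b * a := by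
      intro a b
      have h1 : ⁅a, b⁆ ∈ commutator F :=
        Subgroup.commutator_mem_commutator (Subgroup.mem_top a) (Subgroup.mem_top b)
      rw [hc, Subgroup.mem_bot] at h1
      exact commutatorElement_eq_one_iff_mul_comm.1 h1
    obtain ⟨q, hq, hqd⟩ := Nat.exists_prime_and_dvd (Finite.one_lt_card (α := F)).ne'
    haveI : Fact q.Prime := ⟨hq⟩
    obtain ⟨g, hg⟩ := exists_prime_orderOf_dvd_card' (G := F) q hqd
    refine ⟨g, hg ▸ hq, ⟨fun x hx f => ?_⟩⟩
    rw [hab f x]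
    simpa using hx
  · haveI hcyc : IsCyclic (commutator F) := IsZGroup.isCyclic_commutator F
    haveI : Nontrivial (commutator F) := (Subgroup.nontrivial_iff_ne_bot _).2 hc
    obtain ⟨q, hq, hqd⟩ := Nat.exists_prime_and_dvd (Finite.one_lt_card (α := commutator F)).ne'
    haveI : Fact q.Prime := ⟨hq⟩
    obtain ⟨g, hg⟩ := exists_prime_orderOf_dvd_card' (G := commutator F) q hqd
    have hg' : orderOf (g : F) = q := by rw [Subgroup.orderOf_coe, hg]
    refine ⟨g, hg' ▸ hq, ⟨fun x hx f => ?_⟩⟩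
    -- conjugates of `g`
    have hgn : f * (g : F) * f⁻¹ ∈ commutator F :=
      (inferInstance : (commutator F).Normal).conj_mem _ g.2 f
    have hord : orderOf (⟨f * (g : F) * f⁻¹, hgn⟩ : commutator F) = orderOf g := by
      rw [Subgroup.orderOf_mk, hg]
      have hsc : SemiconjBy f (g : F) (f * (g : F) * f⁻¹) := by
        unfold SemiconjBy; group
      rw [← hsc.orderOf_eq f, hg']
    have h1 := Cfsg.Agent.Lib.FrobCompl.zpowers_eq_of_orderOf_eq hord
    have h2 : (⟨f * (g : F) * f⁻¹, hgn⟩ : commutator F) ∈ Subgroup.zpowers g := by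
      rw [← h1]; exact Subgroup.mem_zpowers _
    obtain ⟨k, hk⟩ := Subgroup.mem_zpowers_iff.1 h2
    have h3 : (g : F) ^ k = f * (g : F) * f⁻¹ := by
      have := congrArg Subtype.val hk
      simpa using this
    obtain ⟨i, rfl⟩ := Subgroup.mem_zpowers_iff.1 hx
    have h4 : f * (g : F) ^ i * f⁻¹ = (f * (g : F) * f⁻¹) ^ i := by
      rw [conj_zpow]
    rw [h4, ← h3, ← zpow_mul]
    exact Subgroup.zpow_mem_zpowers _ _

theorem false_of_two_primes (hs : Semi φ Z₀) {r₁ r₂ : ℕ} [Fact r₁.Prime] [Fact r₂.Prime]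
    (hne : r₁ ≠ r₂) {v₁ v₂ : D} {j₁ j₂ : ℕ} (hv₁ : v₁ ^ (r₁ ^ j₁) = 1) (hv₁Z : v₁ ∉ Z₀)
    (hv₂ : v₂ ^ (r₂ ^ j₂) = 1) (hv₂Z : v₂ ∉ Z₀) {x₁ x₂ : F} {e₁ e₂ : ℕ} (hx₁ : x₁ ≠ 1)
    (hx₁e : x₁ ^ (r₁ ^ e₁) = 1) (hx₂ : x₂ ≠ 1) (hx₂e : x₂ ^ (r₂ ^ e₂) = 1)
    (h2 : r₁ = 2 ∨ r₂ = 2 → ∀ X : Sylow 2 F, ∀ a ∈ (X : Subgroup F), ∀ b ∈ (X : Subgroup F),
      a * b = b * a) : False := by
  classical
  -- involutions
  have hinvol : ¬ (r₁ = 2 ∨ r₂ = 2) → ∀ ι : F, ι * ι = 1 → ι = 1 := by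
    intro hodd ι hι
    by_contra hι1
    push Not at hodd
    have hcen := fun f => central_of_involution hs hne hv₁ hv₁Z hv₂ hv₂Z hι f
    have hord : orderOf ι = 2 := by
      apply orderOf_eq_prime _ hι1
      rw [pow_two, hι]
    refine no_normalize hs (Subgroup.zpowers ι) ?_ ?_ hx₁ hx₁e ?_ hv₁ hv₁Z
    · intro h
      rw [Subgroup.zpowers_eq_bot] at h
      exact hι1 h
    · rw [Nat.card_zpowers, hord]
      exact (Nat.coprime_primes Nat.prime_two Fact.out).2 (Ne.symm hodd.1)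
    · intro k hk
      obtain ⟨i, rfl⟩ := Subgroup.mem_zpowers_iff.1 hk
      rw [← conj_zpow, hcen x₁]
      exact Subgroup.zpow_mem_zpowers _ _
  haveI hZ : IsZGroup F := by
    constructor
    intro ℓ hℓ X
    haveI : Fact ℓ.Prime := ⟨hℓ⟩
    by_cases hX : (X : Subgroup F) = ⊥
    · have : Subsingleton (X : Subgroup F) := by
        rw [hX]; infer_instance
      exact isCyclic_of_subsingleton
    have hcard : ∀ u : ℕ, u.Prime → u ≠ ℓ → (Nat.card (X : Subgroup F)).Coprime u := by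
      intro u hu hne'
      obtain ⟨k, hk⟩ := IsPGroup.iff_card.1 X.2
      rw [hk]
      exact Nat.Coprime.pow_left _ ((Nat.coprime_primes hℓ hu).2 (Ne.symm hne'))
    obtain ⟨V, ψ, hVn, hf⟩ : ∃ (V : Subgroup D) (ψ : (X : Subgroup F) →* MulAut V),
        Nontrivial V ∧ IsFpf ψ := by
      by_cases h1 : r₁ = ℓ
      · exact exists_fpf hs _ hX (hcard r₂ Fact.out (fun h => hne (h1.trans h.symm))) hv₂ hv₂Z
      · exact exists_fpf hs _ hX (hcard r₁ Fact.out h1) hv₁ hv₁Z
    by_cases hℓ2 : ℓ = 2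
    · subst hℓ2
      by_cases h22 : r₁ = 2 ∨ r₂ = 2
      · exact isCyclic_of_comm hf (fun a b => Subtype.ext (h2 h22 X a a.2 b b.2))
      · exfalso
        -- a nontrivial `2`-group has an involution
        obtain ⟨k, hk⟩ := IsPGroup.iff_card.1 X.2
        have hk0 : k ≠ 0 := by
          rintro rfl
          rw [pow_zero] at hk
          exact hX ((Subgroup.card_eq_one).1 hk)
        obtain ⟨ι, hι⟩ := exists_prime_orderOf_dvd_card' (G := (X : Subgroup F)) 2
          (by rw [hk]; exact dvd_pow_self 2 hk0)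
        have h3 : ((ι : F)) * ι = 1 := by
          have := pow_orderOf_eq_one ι
          rw [hι, pow_two] at this
          exact congrArg Subtype.val this
        have h4 := hinvol h22 ι h3
        have h5 : ι = 1 := Subtype.ext h4
        rw [h5, orderOf_one] at hι
        omega
    · rcases Cfsg.Agent.Lib.FrobCompl.cyclic_or_quaternion_of_fpf X.2 hf with h | ⟨h, -⟩
      · exact h
      · exact absurd h hℓ2
  haveI : Nontrivial F := ⟨⟨x₁, 1, hx₁⟩⟩
  obtain ⟨g, hgp, hgn⟩ := exists_normal_prime (F := F)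
  have hcard : Nat.card (Subgroup.zpowers g) = orderOf g := Nat.card_zpowers g
  have hg1 : Subgroup.zpowers g ≠ ⊥ := by
    intro h
    rw [Subgroup.zpowers_eq_bot] at h
    rw [h, orderOf_one] at hgp
    exact Nat.not_prime_one hgp
  by_cases h1 : r₁ = orderOf g
  · refine no_normalize hs (Subgroup.zpowers g) hg1 ?_ hx₂ hx₂e (fun k hk => hgn.conj_mem k hk x₂)
      hv₂ hv₂Z
    rw [hcard]
    exact (Nat.coprime_primes hgp Fact.out).2 (fun h => hne (h1.trans h))
  · refine no_normalize hs (Subgroup.zpowers g) hg1 ?_ hx₁ hx₁e (fun k hk => hgn.conj_mem k hk x₁)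
      hv₁ hv₁Z
    rw [hcard]
    exact (Nat.coprime_primes hgp Fact.out).2 (Ne.symm h1)

end Cfsg.Agent.Lib.TwoRegA
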