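import Mathlib
import Cfsg.Agent.Lib.CentTools

/-!
# Two sizes of `p`-regular classes: the centralizer of an element

Hypothesis: every `p`-regular element has class size `1` or `m`.  Let `r ≠ p` be a prime dividing `m`
with a non-central Sylow `r`-subgroup.  For a non-central `p`-regular element `t` of order prime to
`r`, the `p`-regular elements of `C(t)` form an abelian subgroup `D` and all its non-central elements
have centralizer `C(t)` (`cent_of_mem`).
-/

set_option autoImplicit false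
set_option linter.unusedSectionVars false
set_option linter.unusedVariables false
set_option linter.style.haveILetI false

namespace Cfsg.Agent.Lib.TwoRegB

open Subgroup
open Cfsg.Agent.Lib.CoprimeClass (cs mem_cent cs_eq_one_iff exists_conj_mem_of_not_dvd
  eq_top_of_conj_cover exists_primary_pow_not_mem)
open Cfsg.Agent.Lib.CentTools

variable {G : Type*} [Group G] [Finite G] {p m : ℕ}

/-- `p`-regular elements. -/
abbrev Reg (p : ℕ) (x : G) : Prop := (orderOf x).Coprime p

theorem Reg.pow {x : G} (h : Reg p x) (k : ℕ) : Reg p (x ^ k) :=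
  Nat.Coprime.coprime_dvd_left (orderOf_pow_dvd k) h

theorem Reg.of_mem_zpowers {x y : G} (h : Reg p x) (hy : y ∈ zpowers x) : Reg p y :=
  Nat.Coprime.coprime_dvd_left (orderOf_dvd_of_mem_zpowers hy) h

theorem Reg.mul {x y : G} (hc : Commute x y) (hx : Reg p x) (hy : Reg p y) : Reg p (x * y) :=
  Nat.Coprime.coprime_dvd_left hc.orderOf_mul_dvd_mul_orderOf (Nat.Coprime.mul_left hx hy)

theorem Reg.conj {x : G} (h : Reg p x) (g : G) : Reg p (g * x * g⁻¹) := by
  unfold Reg
  rw [orderOf_conj']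
  exact h

theorem Reg.inv {x : G} (h : Reg p x) : Reg p x⁻¹ := by
  unfold Reg
  rw [orderOf_inv]
  exact h

theorem Reg.one : Reg p (1 : G) := by
  unfold Reg
  rw [orderOf_one]
  exact Nat.coprime_one_left p

theorem reg_of_pow {r : ℕ} (hr : r.Prime) (hp : p.Prime) (hrp : r ≠ p) {x : G} {k : ℕ}
    (hx : x ^ (r ^ k) = 1) : Reg p x :=
  Nat.Coprime.coprime_dvd_left (orderOf_dvd_of_pow_eq_one hx)
    (Nat.Coprime.pow_left k ((Nat.coprime_primes hr hp).2 hrp))

section Basic

variable (h : ∀ x : G, Reg p x → cs x = 1 ∨ cs x = m)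
include h

theorem cs_eq {x : G} (hx : Reg p x) (hz : x ∉ center G) : cs x = m := by
  rcases h x hx with h1 | h1
  · exact absurd (cs_eq_one_iff.1 h1) hz
  · exact h1

theorem cent_eq_of_le {x y : G} (hx : Reg p x)
    (hxz : x ∉ center G) (hy : Reg p y) (hyz : y ∉ center G) (hle : Cn x ≤ Cn y) : Cn x = Cn y := by
  have h1 : (Cn x).index = (Cn y).index := by
    have h3 := cs_eq h hx hxz
    have h4 := cs_eq h hy hyz
    exact h3.trans h4.symm
  apply le_antisymm hle
  have h2 := relIndex_mul_index hle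
  rw [h1] at h2
  have hne : (Cn y).index ≠ 0 := index_ne_zero_of_finite
  have h3 : (Cn x).relIndex (Cn y) = 1 := by
    have : (Cn x).relIndex (Cn y) * (Cn y).index = 1 * (Cn y).index := by rw [h2, one_mul]
    exact Nat.eq_of_mul_eq_mul_right (Nat.pos_of_ne_zero hne) this
  exact relIndex_eq_one.1 h3

theorem cent_eq {x y : G} (hx : Reg p x)
    (hxz : x ∉ center G) (hy : Reg p y) (hyz : y ∉ center G) (hc : Commute x y)
    (hco : (orderOf x).Coprime (orderOf y)) : Cn x = Cn y := by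
  have hxyN : Reg p (x * y) := Reg.mul hc hx hy
  have hxyz : x * y ∉ center G := by
    intro hz
    obtain ⟨k, hk⟩ := exists_pow_eq_left hc hco
    exact hxz (hk ▸ (center G).pow_mem hz k)
  have h1 := cent_eq_of_le h hxyN hxyz hx hxz (Cn_mul_le_left hc hco)
  have h2 := cent_eq_of_le h hxyN hxyz hy hyz (Cn_mul_le_right hc hco)
  exact h1.symm.trans h2

variable (hp : p.Prime) {r : ℕ} [Fact r.Prime] (hrp : r ≠ p)
include hp hrp

/-- For `r ∣ m`: the centre of a Sylow `r`-subgroup is central. -/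
theorem center_of_sylow (hm : r ∣ m) (Q : Sylow r G) {z : G} (hz : z ∈ (Q : Subgroup G))
    (hzc : ∀ y ∈ (Q : Subgroup G), y * z = z * y) : z ∈ center G := by
  by_contra hnc
  obtain ⟨k, hk⟩ := exists_pow_of_isPGroup Q.2 hz
  have hzN : Reg p z := reg_of_pow Fact.out hp hrp hk
  have h1 : (Cn z).index = m := cs_eq h hzN hnc
  have h2 : (Q : Subgroup G) ≤ Cn z := fun y hy => mem_Cn.2 (hzc y hy)
  have h3 : (Cn z).index ∣ (Q : Subgroup G).index := index_dvd_of_le h2
  exact Q.not_dvd_index (hm.trans (h1 ▸ h3))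

end Basic

/-- All Sylow `r`-subgroups are non-central. -/
theorem exists_noncentral_of_sylow {r : ℕ} [Fact r.Prime] (R : Sylow r G)
    (hR : ¬ (R : Subgroup G) ≤ center G) (Q : Sylow r G) :
    ∃ a ∈ (Q : Subgroup G), a ∉ center G := by
  obtain ⟨a, ha, haz⟩ := Set.not_subset.1 hR
  obtain ⟨k, hk⟩ := exists_pow_of_isPGroup R.2 ha
  obtain ⟨g, hg⟩ := exists_conj_mem_of_not_dvd (Q : Subgroup G) Q.not_dvd_index hk
  refine ⟨_, hg, ?_⟩
  have := (conj_mem_center_iff (x := a) (g := g⁻¹))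
  rw [inv_inv] at this
  rw [this]
  exact haz

/-- A central `r`-element lies in every Sylow `r`-subgroup. -/
theorem central_relt_mem {r : ℕ} [Fact r.Prime] (Q : Sylow r G) {x : G} (hxz : x ∈ center G) {k : ℕ}
    (hk : x ^ (r ^ k) = 1) : x ∈ (Q : Subgroup G) := by
  have hnorm : (zpowers x).Normal := by
    constructor
    intro y hy g
    obtain ⟨i, rfl⟩ := mem_zpowers_iff.1 hy
    have : g * x ^ i * g⁻¹ = x ^ i := by
      have hc : x ^ i ∈ center G := (center G).zpow_mem hxz i
      rw [mem_center_iff.1 hc g]; group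
    rw [this]; exact zpow_mem (mem_zpowers x) i
  have hp : IsPGroup r (zpowers x) := by
    rintro ⟨y, hy⟩
    obtain ⟨i, rfl⟩ := mem_zpowers_iff.1 hy
    refine ⟨k, Subtype.ext ?_⟩
    show (x ^ i) ^ (r ^ k) = 1
    rw [← zpow_natCast, ← zpow_mul, mul_comm, zpow_mul, zpow_natCast, hk, one_zpow]
  exact hp.le_sylow_of_normal Q (mem_zpowers x)

section Block

variable (h : ∀ x : G, Reg p x → cs x = 1 ∨ cs x = m) (hp : p.Prime) {r : ℕ} [Fact r.Prime]
  (hrp : r ≠ p)
include h hp hrp

/-- Step: a non-central `p`-regular element commutes with a non-central `r`-element. -/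
theorem exists_commuting (R : Sylow r G)
    (hR : ¬ (R : Subgroup G) ≤ center G) (hm : r ∣ m)
    {t : G} (htN : Reg p t) (htz : t ∉ center G) :
    ∃ c : G, c ∈ Cn t ∧ c ∉ center G ∧ ∃ k : ℕ, c ^ (r ^ k) = 1 := by
  classical
  obtain ⟨a, ha, haz⟩ := Set.not_subset.1 hR
  obtain ⟨ka, hka⟩ := exists_pow_of_isPGroup R.2 ha
  have haN : Reg p a := reg_of_pow Fact.out hp hrp hka
  -- `K = C_R(a)`
  let K : Subgroup G := (R : Subgroup G) ⊓ Cn a
  have hKp : IsPGroup r K := R.2.to_le inf_le_left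
  obtain ⟨j, hj⟩ := (IsPGroup.iff_card).1 hKp
  have hcard : Nat.card (Cn a) = Nat.card (Cn t) := by
    have h1 : (Cn a).index = (Cn t).index :=
      (cs_eq h haN haz).trans (cs_eq h htN htz).symm
    have h2 := (Cn a).index_mul_card
    have h3 := (Cn t).index_mul_card
    rw [h1, ← h3] at h2
    exact Nat.eq_of_mul_eq_mul_left (Nat.pos_of_ne_zero index_ne_zero_of_finite) h2
  have hdvd : r ^ j ∣ Nat.card (Cn t) := by
    rw [← hcard, ← hj]
    exact card_dvd_of_le inf_le_right
  obtain ⟨V₀, hV₀⟩ := Sylow.exists_subgroup_card_pow_prime (G := Cn t) r hdvd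
  let V : Subgroup G := V₀.map (Cn t).subtype
  have hVcard : Nat.card V = r ^ j := by
    rw [← hV₀]
    exact card_map_of_injective (Cn t).subtype_injective
  by_contra hcon
  push Not at hcon
  have hVp : IsPGroup r V := (IsPGroup.iff_card).2 ⟨j, hVcard⟩
  have hVt : V ≤ Cn t := by
    rintro x ⟨y, _, rfl⟩
    exact y.2
  have hVz : V ≤ center G := by
    intro x hx
    by_contra hxz
    obtain ⟨k, hk⟩ := exists_pow_of_isPGroup hVp hx
    exact hcon x (hVt hx) hxz k hk
  -- `V` central ⇒ `V ≤ R ⊓ center` so smaller than `K`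
  have hVR : V ≤ (R : Subgroup G) := by
    intro x hx
    obtain ⟨k, hk⟩ := exists_pow_of_isPGroup hVp hx
    exact central_relt_mem R (hVz hx) hk
  have hle1 : (R : Subgroup G) ⊓ center G ≤ K := by
    intro x hx
    refine ⟨hx.1, mem_Cn.2 ?_⟩
    exact ((mem_center_iff.1 hx.2) a).symm
  have hle2 : V ≤ (R : Subgroup G) ⊓ center G := le_inf hVR hVz
  have hc1 : Nat.card K ≤ Nat.card ((R : Subgroup G) ⊓ center G : Subgroup G) := by
    rw [hj, ← hVcard]
    exact card_le_of_le hle2
  have heq := eq_of_le_of_card_ge hle1 hc1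
  have haK : a ∈ K := ⟨ha, mem_Cn.2 rfl⟩
  rw [← heq] at haK
  exact haz haK.2

/-- Step: the structure of the centralizer of a non-central `p`-regular element of order prime
to `r`. -/
theorem cent_of_mem (R : Sylow r G)
    (hR : ¬ (R : Subgroup G) ≤ center G) (hm : r ∣ m)
    {t : G} (htN : Reg p t) (htz : t ∉ center G) (htc : (orderOf t).Coprime r)
    {u : G} (hu : u ∈ Cn t) (huN : Reg p u) (huz : u ∉ center G) : Cn u = Cn t := by
  obtain ⟨c, hct, hcz, k, hk⟩ := exists_commuting h hp hrp R hR hm htN htz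
  have hcN : Reg p c := reg_of_pow Fact.out hp hrp hk
  have hCc : Cn c = Cn t :=
    cent_eq h hcN hcz htN htz (mem_Cn.1 hct) (coprime_orderOf hk htc)
  obtain ⟨u₁, u₂, rfl, hcu, ⟨k₁, hk₁⟩, hu₂, hu₁z, hu₂z⟩ :=
    Cfsg.Agent.Lib.PResid.exists_decomp (p := r) u
  have hu₁H : u₁ ∈ Cn t := (zpowers_le.2 hu) hu₁z
  have hu₂H : u₂ ∈ Cn t := (zpowers_le.2 hu) hu₂z
  have hu₁N : Reg p u₁ := huN.of_mem_zpowers hu₁z
  have hu₂N : Reg p u₂ := huN.of_mem_zpowers hu₂z
  have hle : Cn t ≤ Cn (u₁ * u₂) := by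
    intro w hw
    have h1 : w * u₁ = u₁ * w := by
      by_cases hz : u₁ ∈ center G
      · exact (mem_center_iff.1 hz) w
      · have : Cn u₁ = Cn t :=
          cent_eq h hu₁N hz htN htz (mem_Cn.1 hu₁H) (coprime_orderOf hk₁ htc)
        exact mem_Cn.1 (this ▸ hw)
    have h2 : w * u₂ = u₂ * w := by
      by_cases hz : u₂ ∈ center G
      · exact (mem_center_iff.1 hz) w
      · have hcc : Commute u₂ c := by
          have : u₂ ∈ Cn c := by rw [hCc]; exact hu₂H
          exact mem_Cn.1 this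
        have : Cn u₂ = Cn c :=
          cent_eq h hu₂N hz hcN hcz hcc (coprime_orderOf hk hu₂).symm
        rw [hCc] at this
        exact mem_Cn.1 (this ▸ hw)
    have h1' : Commute w u₁ := h1
    have h2' : Commute w u₂ := h2
    exact mem_Cn.2 (h1'.mul_right h2')
  exact (cent_eq_of_le h htN htz huN huz hle).symm

end Block

/-- The `p`-regular elements of a subgroup in which they commute. -/
def regPart (H : Subgroup G) (p : ℕ) (hc : ∀ u ∈ H, Reg p u → ∀ v ∈ H, Reg p v → u * v = v * u) :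
    Subgroup G where
  carrier := {x | x ∈ H ∧ Reg p x}
  mul_mem' := by
    rintro a b ⟨ha, ha'⟩ ⟨hb, hb'⟩
    exact ⟨H.mul_mem ha hb, Reg.mul (hc a ha ha' b hb hb') ha' hb'⟩
  one_mem' := ⟨H.one_mem, Reg.one⟩
  inv_mem' := by
    rintro a ⟨ha, ha'⟩
    exact ⟨H.inv_mem ha, ha'.inv⟩

theorem mem_regPart {H : Subgroup G} {hc : ∀ u ∈ H, Reg p u → ∀ v ∈ H, Reg p v → u * v = v * u}
    {x : G} : x ∈ regPart H p hc ↔ x ∈ H ∧ Reg p x := Iff.rfl

end Cfsg.Agent.Lib.TwoRegB
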