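import Mathlib
import Cfsg.Agent.Lib.TwoRegB

/-!
# Two sizes of `p`-regular classes: every `p`-regular element is conjugate into `D`

The double counting argument, with `t` a special `s`-element.
-/

set_option autoImplicit false
set_option linter.unusedSectionVars false
set_option linter.unusedVariables false
set_option linter.style.haveILetI false

namespace Cfsg.Agent.Lib.TwoRegC

open Subgroup
open Cfsg.Agent.Lib.CoprimeClass (cs mem_cent cs_eq_one_iff exists_conj_mem_of_not_dvd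
  eq_top_of_conj_cover exists_primary_pow_not_mem)
open Cfsg.Agent.Lib.CentTools
open Cfsg.Agent.Lib.TwoRegB

variable {G : Type*} [Group G] [Finite G] {p m : ℕ}

theorem all_conj_into (h : ∀ x : G, Reg p x → cs x = 1 ∨ cs x = m) (hp : p.Prime) {r : ℕ}
    [Fact r.Prime] (hrp : r ≠ p) (R : Sylow r G) (hR : ¬ (R : Subgroup G) ≤ center G) (hm : r ∣ m)
    {s : ℕ} [Fact s.Prime] (hsr : s ≠ r) (hsp : s ≠ p) (Sh : Sylow s G) {t : G}
    (htS : t ∈ (Sh : Subgroup G)) (htz : t ∉ center G)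
    (htspec : ∀ g ∈ (Sh : Subgroup G), g * t * g⁻¹ * t⁻¹ ∈ center G) :
    ∀ y : G, Reg p y → ∃ n : G, n * y * n⁻¹ ∈ Cn t := by
  classical
  intro y hyN
  by_contra hyD
  push Not at hyD
  have hs : s.Prime := Fact.out
  have hrel : ∀ {x : G} {k : ℕ}, x ^ (r ^ k) = 1 → Reg p x :=
    fun hx => reg_of_pow Fact.out hp hrp hx
  obtain ⟨kt, hkt⟩ := exists_pow_of_isPGroup Sh.2 htS
  have htN : Reg p t := reg_of_pow hs hp hsp hkt
  have htc : (orderOf t).Coprime r := by
    have h1 : orderOf t ∣ s ^ kt := orderOf_dvd_of_pow_eq_one hkt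
    have h2 : (s ^ kt).Coprime r := Nat.Coprime.pow_left _ ((Nat.coprime_primes hs Fact.out).2 hsr)
    exact Nat.Coprime.coprime_dvd_left h1 h2
  -- structure of `C(t)`
  have hCu : ∀ u ∈ Cn t, Reg p u → u ∉ center G → Cn u = Cn t :=
    fun u hu huN huz => cent_of_mem h hp hrp R hR hm htN htz htc hu huN huz
  have hDcomm' : ∀ u ∈ Cn t, Reg p u → ∀ v ∈ Cn t, Reg p v → u * v = v * u := by
    intro u hu huN v hv _
    by_cases huz : u ∈ center G
    · exact (mem_center_iff.1 huz v).symm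
    · have h1 : v ∈ Cn u := by rw [hCu u hu huN huz]; exact hv
      exact (mem_Cn.1 h1).symm
  let D : Subgroup G := regPart (Cn t) p hDcomm'
  have hDcomm : ∀ u ∈ D, ∀ v ∈ D, u * v = v * u :=
    fun u hu v hv => hDcomm' u hu.1 hu.2 v hv.1 hv.2
  let Dr : Subgroup G := pPartOf _ hDcomm r
  let T : Subgroup G := pPartOf _ hDcomm s
  have hDrp : IsPGroup r Dr := isPGroup_pPartOf _ _ _
  have hTp : IsPGroup s T := isPGroup_pPartOf _ _ _
  obtain ⟨c, hct, hcz, kc, hkc⟩ := exists_commuting h hp hrp R hR hm htN htz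
  have hcN := hrel hkc
  have hcDr : c ∈ Dr := ⟨⟨hct, hcN⟩, kc, hkc⟩
  have htD : t ∈ D := ⟨mem_Cn.2 rfl, htN⟩
  have htT : t ∈ T := ⟨htD, kt, hkt⟩
  -- normalization
  have hnH : ∀ g x, x ∈ D → x ∉ center G → g * x * g⁻¹ ∈ D →
      ∀ v ∈ Cn t, g * v * g⁻¹ ∈ Cn t := by
    intro g x hx hxz hgx v hv
    have h1 : Cn x = Cn t := hCu x hx.1 hx.2 hxz
    have h2 : Cn (g * x * g⁻¹) = Cn t := hCu _ hgx.1 hgx.2 (by rwa [conj_mem_center_iff])
    have h3 := conj_mem_Cn (g := g) (h1 ▸ hv : v ∈ Cn x)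
    rwa [h2] at h3
  have hconjD : ∀ g, (∀ v ∈ Cn t, g * v * g⁻¹ ∈ Cn t) → ∀ u ∈ D, g * u * g⁻¹ ∈ D :=
    fun g hg u hu => ⟨hg u hu.1, Reg.conj hu.2 g⟩
  have hShH : ∀ g ∈ (Sh : Subgroup G), ∀ v ∈ Cn t, g * v * g⁻¹ ∈ Cn t := by
    intro g hg
    refine hnH g t htD htz ⟨mem_Cn.2 ?_, Reg.conj htN g⟩
    have hz := htspec g hg
    have h2 := mem_center_iff.1 hz t
    calc g * t * g⁻¹ * t = (g * t * g⁻¹ * t⁻¹) * t * t := by group
      _ = t * (g * t * g⁻¹ * t⁻¹) * t := by rw [h2]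
      _ = t * (g * t * g⁻¹) := by group
  -- the first count
  have hrelD : ∀ x, x ∈ Cn t → (∃ k : ℕ, x ^ (r ^ k) = 1) → x ∈ Dr := by
    rintro x hx ⟨k, hk⟩
    exact ⟨⟨hx, hrel hk⟩, k, hk⟩
  have hX₁ := relIndex_dvd_ncard (Sh : Subgroup G) (Cn t) {x | x ∈ Dr ∧ x ∉ center G}
    (by
      rintro w hw x ⟨⟨hxD, k, hk⟩, hxz⟩
      refine ⟨⟨hconjD w (hShH w hw) x hxD, k, ?_⟩, by rwa [conj_mem_center_iff]⟩
      rw [conj_pow, hk]; group)
    (by
      rintro x ⟨hxDr, hxz⟩ w hw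
      have h1 : Cn x = Cn t := hCu x hxDr.1.1 hxDr.1.2 hxz
      rw [← h1, mem_Cn])
  rw [ncard_diff] at hX₁
  obtain ⟨A, hAdef⟩ : ∃ A, A = ((center G).subgroupOf Dr).index := ⟨_, rfl⟩
  rw [← hAdef] at hX₁
  have hA2 : 2 ≤ A := by
    have h0 : A ≠ 0 := by rw [hAdef]; exact index_ne_zero_of_finite
    have h1 : A ≠ 1 := by
      rw [hAdef]
      intro h1
      rw [index_eq_one] at h1
      have : (⟨c, hcDr⟩ : Dr) ∈ (center G).subgroupOf Dr := by rw [h1]; trivial
      exact hcz (mem_subgroupOf.1 this)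
    omega
  have hDrcard : Nat.card Dr = A * Nat.card (Dr ⊓ center G : Subgroup G) := by
    rw [hAdef]
    have := ((center G).subgroupOf Dr).index_mul_card
    rw [← this]
    congr 1
    apply Nat.card_congr
    exact (⟨fun x => ⟨⟨x.1, x.2.1⟩, x.2.2⟩, fun x => ⟨x.1.1, x.1.2, x.2⟩, fun x => rfl, fun x => rfl⟩ :
      (Dr ⊓ center G : Subgroup G) ≃ (center G).subgroupOf Dr).symm
  have hms1 : (Cn t).relIndex (Sh : Subgroup G) ∣ A - 1 := by
    have hco : ((Cn t).relIndex (Sh : Subgroup G)).Coprime (Nat.card (Dr ⊓ center G : Subgroup G)) := by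
      have h1 := IsPGroup.coprime_card_of_ne s r hsr (Sh : Subgroup G) (Dr ⊓ center G : Subgroup G) Sh.2
        (hDrp.to_le inf_le_left)
      exact Nat.Coprime.coprime_dvd_left (relIndex_dvd_card _ _) h1
    exact hco.dvd_of_dvd_mul_left hX₁
  have hms2 : (Cn t).relIndex (Sh : Subgroup G) ≤ A - 1 := Nat.le_of_dvd (by omega) hms1
  have hyz : y ∉ center G := by
    intro hz
    have h1 := hyD 1
    apply h1
    have h2 : (1 : G) * y * (1 : G)⁻¹ = y := by group
    rw [h2]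
    exact mem_Cn.2 (mem_center_iff.1 hz t).symm
  -- the `s`-part bound
  obtain ⟨f, hf1, hf2⟩ := exists_pow_bound (⊤ : Subgroup G) T (center G) hTp (fun x _ => mem_top x) y
    (mem_top y) (by
    intro n _ u hu hcomm
    by_contra huz
    have h1 : Cn u = Cn t := hCu u hu.1.1 hu.1.2 huz
    have h2 : n * y * n⁻¹ ∈ Cn u := mem_Cn.2 hcomm.symm
    rw [h1] at h2
    exact hyD n h2)
  rw [relIndex_top_right] at hf1
  have hf3 : s ^ f ∣ (Cn t).index := by
    have h2 : (Cn y).index = m := cs_eq h hyN hyz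
    have h3 : (Cn t).index = m := cs_eq h htN htz
    rw [h3, ← h2]
    exact hf1
  have hf4 := pow_dvd_relIndex Sh (Cn t) hf3
  obtain ⟨τ, hτdef⟩ : ∃ τ, τ = ((center G).subgroupOf T).index := ⟨_, rfl⟩
  have hTcard : Nat.card T = τ * Nat.card (T ⊓ center G : Subgroup G) := by
    rw [hτdef]
    have := ((center G).subgroupOf T).index_mul_card
    rw [← this]
    congr 1
    apply Nat.card_congr
    exact (⟨fun x => ⟨⟨x.1, x.2.1⟩, x.2.2⟩, fun x => ⟨x.1.1, x.1.2, x.2⟩, fun x => rfl, fun x => rfl⟩ :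
      (T ⊓ center G : Subgroup G) ≃ (center G).subgroupOf T).symm
  have hτ2 : 2 ≤ τ := by
    have h0 : τ ≠ 0 := by rw [hτdef]; exact index_ne_zero_of_finite
    have h1 : τ ≠ 1 := by
      rw [hτdef]
      intro h1
      rw [index_eq_one] at h1
      have : (⟨t, htT⟩ : T) ∈ (center G).subgroupOf T := by rw [h1]; trivial
      exact htz (mem_subgroupOf.1 this)
    omega
  have hτle : τ ≤ (Cn t).relIndex (Sh : Subgroup G) := by
    have h1 : τ ≤ s ^ f := by
      rw [hTcard] at hf2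
      exact Nat.le_of_mul_le_mul_right hf2 Nat.card_pos
    exact h1.trans (Nat.le_of_dvd (Nat.pos_of_dvd_of_pos hms1 (by omega)) hf4)
  -- the subgroup `W`
  have hW : ∃ W : Subgroup G, IsPGroup r W ∧ (∀ w ∈ W, ∀ v ∈ Cn t, w * v * w⁻¹ ∈ Cn t) ∧
      (∀ w ∈ W, w ∈ Cn t → w ∈ center G) ∧ Nat.card Dr ≤ Nat.card W := by
    obtain ⟨Q, hQ⟩ := hDrp.exists_le_sylow
    haveI : Group.IsNilpotent (Q : Subgroup G) := Q.2.isNilpotent
    let Dr' : Subgroup (Q : Subgroup G) := Dr.subgroupOf (Q : Subgroup G)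
    let P₁ : Subgroup (Q : Subgroup G) := normalizer (Dr' : Set (Q : Subgroup G))
    have hnc := Group.normalizerCondition_of_isNilpotent (G := (Q : Subgroup G))
    have hc' : (⟨c, hQ hcDr⟩ : (Q : Subgroup G)) ∈ Dr' := mem_subgroupOf.2 hcDr
    by_cases hP : P₁ = ⊤
    · -- every element of `Q` normalizes `Dr`
      have hNormQ : ∀ g ∈ (Q : Subgroup G), ∀ x ∈ Dr, g * x * g⁻¹ ∈ Dr := by
        intro g hg x hx
        have h1 : (⟨g, hg⟩ : (Q : Subgroup G)) ∈ P₁ := by rw [hP]; trivial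
        have h2 := (mem_normalizer_iff.1 h1 ⟨x, hQ hx⟩).1 (mem_subgroupOf.2 hx)
        exact mem_subgroupOf.1 h2
      have hQH : ∀ g ∈ (Q : Subgroup G), ∀ v ∈ Cn t, g * v * g⁻¹ ∈ Cn t :=
        fun g hg => hnH g c hcDr.1 hcz (hNormQ g hg c hcDr).1
      -- a non-central `r`-element with no conjugate in `D`
      obtain ⟨c₁, hc₁z, k₁, hk₁, hc₁D⟩ : ∃ c₁ : G, c₁ ∉ center G ∧ ∃ k : ℕ, c₁ ^ (r ^ k) = 1 ∧
          ∀ n : G, n * c₁ * n⁻¹ ∉ Cn t := by
        obtain ⟨y₁, y₂, hy, hcy, ⟨k, hk⟩, hy₂, hy₁z, hy₂z⟩ :=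
          Cfsg.Agent.Lib.PResid.exists_decomp (p := r) y
        have hy₁N : Reg p y₁ := hyN.of_mem_zpowers hy₁z
        have hy₂N : Reg p y₂ := hyN.of_mem_zpowers hy₂z
        by_cases hz : y₂ ∈ center G
        · refine ⟨y₁, ?_, k, hk, ?_⟩
          · intro hy₁c
            exact hyz (hy ▸ (center G).mul_mem hy₁c hz)
          · intro n hmem
            apply hyD n
            have h1 : n * y * n⁻¹ = (n * y₁ * n⁻¹) * (n * y₂ * n⁻¹) := by rw [hy]; group
            rw [h1]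
            refine (Cn t).mul_mem hmem ?_
            have h2 : n * y₂ * n⁻¹ ∈ center G := conj_mem_center_iff.2 hz
            exact mem_Cn.2 (mem_center_iff.1 h2 t).symm
        · obtain ⟨c₁, hc₁, hc₁z, k₁, hk₁⟩ := exists_commuting h hp hrp R hR hm hy₂N hz
          have hC : Cn c₁ = Cn y₂ :=
            cent_eq h (hrel hk₁) hc₁z hy₂N hz (mem_Cn.1 hc₁) (coprime_orderOf hk₁ hy₂)
          refine ⟨c₁, hc₁z, k₁, hk₁, ?_⟩
          intro n hmem
          have h1 : Cn (n * c₁ * n⁻¹) = Cn t := hCu _ hmem (Reg.conj (hrel hk₁) n)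
            (by rwa [conj_mem_center_iff])
          have hyC : y ∈ Cn c₁ := by
            rw [hC, mem_Cn, hy]
            calc y₁ * y₂ * y₂ = (y₂ * y₁) * y₂ := by rw [hcy.eq]
              _ = y₂ * (y₁ * y₂) := by group
          have h2 := conj_mem_Cn (g := n) hyC
          rw [h1] at h2
          exact hyD n h2
      have hc₁N := hrel hk₁
      -- a Sylow subgroup of `C(c₁)` containing `c₁`
      have hzc : IsPGroup r (zpowers (⟨c₁, mem_Cn.2 rfl⟩ : Cn c₁)) := by
        rintro ⟨x, hx⟩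
        obtain ⟨i, rfl⟩ := mem_zpowers_iff.1 hx
        refine ⟨k₁, Subtype.ext (Subtype.ext ?_)⟩
        show (c₁ ^ i) ^ (r ^ k₁) = 1
        rw [← zpow_natCast, ← zpow_mul, mul_comm, zpow_mul, zpow_natCast, hk₁, one_zpow]
      obtain ⟨V₀, hV₀⟩ := hzc.exists_le_sylow
      let V₁ : Subgroup G := (V₀ : Subgroup (Cn c₁)).map (Cn c₁).subtype
      have hV₁p : IsPGroup r V₁ := V₀.2.map _
      have hV₁C : V₁ ≤ Cn c₁ := by
        rintro x ⟨z, _, rfl⟩
        exact z.2
      have hV₁card : Nat.card Dr ≤ Nat.card V₁ := by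
        obtain ⟨j, hj⟩ := (IsPGroup.iff_card).1 hDrp
        have h1 : Nat.card V₁ = Nat.card V₀ := card_map_of_injective (Cn c₁).subtype_injective
        have hcardC : Nat.card (Cn t) = Nat.card (Cn c₁) := by
          have h2 : (Cn t).index = (Cn c₁).index :=
            (cs_eq h htN htz).trans (cs_eq h hc₁N hc₁z).symm
          have h3 := (Cn t).index_mul_card
          have h4 := (Cn c₁).index_mul_card
          rw [h2, ← h4] at h3
          exact Nat.eq_of_mul_eq_mul_left (Nat.pos_of_ne_zero index_ne_zero_of_finite) h3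
        have h5 : r ^ j ∣ Nat.card (Cn c₁) := by
          rw [← hcardC, ← hj]
          exact card_dvd_of_le (fun x hx => hx.1.1)
        have h6 := V₀.pow_dvd_card_of_pow_dvd_card h5
        rw [h1, hj]
        exact Nat.le_of_dvd Nat.card_pos h6
      obtain ⟨n, hn, hnV⟩ := exists_conj_le_sylow Q (N := ⊤) le_top V₁ hV₁p
      refine ⟨V₁.map (MulAut.conj n).toMonoidHom, hV₁p.map _, ?_, ?_, ?_⟩
      · rintro w ⟨v, hv, rfl⟩
        exact hQH _ (hnV v hv)
      · rintro w ⟨v, hv, rfl⟩ hwH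
        by_contra hwz
        have hw' : (MulAut.conj n).toMonoidHom v = n * v * n⁻¹ := rfl
        rw [hw'] at hwH hwz
        obtain ⟨kv, hkv⟩ := exists_pow_of_isPGroup hV₁p hv
        have hwr : (n * v * n⁻¹) ^ (r ^ kv) = 1 := by rw [conj_pow, hkv]; group
        have h1 : Cn (n * v * n⁻¹) = Cn t := hCu _ hwH (hrel hwr) hwz
        have h2 := conj_mem_Cn (g := n) (hV₁C hv)
        have h3 : n * c₁ * n⁻¹ ∈ Cn (n * v * n⁻¹) := mem_Cn.2 (mem_Cn.1 h2).symm
        rw [h1] at h3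
        exact hc₁D n h3
      · have : Nat.card (V₁.map (MulAut.conj n).toMonoidHom) = Nat.card V₁ :=
          card_map_of_injective (MulAut.conj n).injective
        rw [this]
        exact hV₁card
    · -- some element of `Q` moves `Dr` to a subgroup normalizing it
      have hlt : P₁ < ⊤ := lt_top_iff_ne_top.2 hP
      have hlt2 := hnc P₁ hlt
      obtain ⟨g, hg, hgP⟩ := SetLike.exists_of_lt hlt2
      have hg1 : ∀ x ∈ Dr, ∀ d ∈ Dr, ((g : G) * x * (g : G)⁻¹) * d * ((g : G) * x * (g : G)⁻¹)⁻¹ ∈ Dr := by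
        intro x hx d hd
        have hx1 : (⟨x, hQ hx⟩ : (Q : Subgroup G)) ∈ P₁ :=
          (le_normalizer (H := Dr')) (mem_subgroupOf.2 hx)
        have hx2 := (mem_normalizer_iff.1 hg ⟨x, hQ hx⟩).1 hx1
        have hx3 := (mem_normalizer_iff.1 hx2 ⟨d, hQ hd⟩).1 (mem_subgroupOf.2 hd)
        exact mem_subgroupOf.1 hx3
      have hgr : ∀ x ∈ Dr, ∃ k : ℕ, ((g : G) * x * (g : G)⁻¹) ^ (r ^ k) = 1 := by
        rintro x ⟨-, k, hk⟩
        exact ⟨k, by rw [conj_pow, hk]; group⟩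
      refine ⟨Dr.map (MulAut.conj (g : G)).toMonoidHom, hDrp.map _, ?_, ?_, ?_⟩
      · rintro w ⟨x, hx, rfl⟩
        exact hnH _ c hcDr.1 hcz (hg1 x hx c hcDr).1
      · rintro w ⟨x, hx, rfl⟩ hwH
        by_contra hwz
        have hw' : (MulAut.conj (g : G)).toMonoidHom x = (g : G) * x * (g : G)⁻¹ := rfl
        rw [hw'] at hwH hwz
        have hwDr : (g : G) * x * (g : G)⁻¹ ∈ Dr := hrelD _ hwH (hgr x hx)
        have hxz : x ∉ center G := by
          rwa [conj_mem_center_iff] at hwz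
        have hgH : ∀ v ∈ Cn t, (g : G) * v * (g : G)⁻¹ ∈ Cn t :=
          hnH (g : G) x hx.1 hxz hwDr.1
        have hgH' : ∀ v ∈ Cn t, (g : G)⁻¹ * v * (g : G) ∈ Cn t := by
          have h1 := hnH (g : G)⁻¹ _ hwDr.1 hwz (by
            have : (g : G)⁻¹ * ((g : G) * x * (g : G)⁻¹) * (g : G)⁻¹⁻¹ = x := by group
            rw [this]; exact hx.1)
          intro v hv
          have h2 := h1 v hv
          rwa [inv_inv] at h2
        apply hgP
        refine mem_normalizer_iff.2 (fun d => ?_)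
        constructor
        · intro hd
          have hd1 : (d : G) ∈ Dr := mem_subgroupOf.1 hd
          refine mem_subgroupOf.2 (hrelD _ (hgH _ hd1.1.1) ?_)
          obtain ⟨k, hk⟩ := hd1.2
          exact ⟨k, by
            show ((g : G) * (d : G) * (g : G)⁻¹) ^ (r ^ k) = 1
            rw [conj_pow, hk]; group⟩
        · intro hd
          have hd1 : ((g * d * g⁻¹ : (Q : Subgroup G)) : G) ∈ Dr := mem_subgroupOf.1 hd
          have hd2 : (g : G) * (d : G) * (g : G)⁻¹ ∈ Cn t := hd1.1.1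
          have hd3 := hgH' _ hd2
          have hd4 : (g : G)⁻¹ * ((g : G) * (d : G) * (g : G)⁻¹) * (g : G) = d := by group
          rw [hd4] at hd3
          exact mem_subgroupOf.2 (hrelD _ hd3 (exists_pow_of_isPGroup Q.2 d.2))
      · have : Nat.card (Dr.map (MulAut.conj (g : G)).toMonoidHom) = Nat.card Dr :=
          card_map_of_injective (MulAut.conj (g : G)).injective
        rw [this]
  obtain ⟨W, hWp, hW1, hW2, hW3⟩ := hW
  have hX₂ := relIndex_dvd_ncard W (Cn t) {x | x ∈ T ∧ x ∉ center G}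
    (by
      rintro w hw x ⟨⟨hxD, k, hk⟩, hxz⟩
      refine ⟨⟨hconjD w (hW1 w hw) x hxD, k, ?_⟩, by rwa [conj_mem_center_iff]⟩
      rw [conj_pow, hk]; group)
    (by
      rintro x ⟨hxT, hxz⟩ w hw
      have h1 : Cn x = Cn t := hCu x hxT.1.1 hxT.1.2 hxz
      rw [← h1, mem_Cn])
  rw [ncard_diff, ← hτdef] at hX₂
  have he1 : (Cn t).relIndex W ∣ τ - 1 := by
    have hco : ((Cn t).relIndex W).Coprime (Nat.card (T ⊓ center G : Subgroup G)) := by
      have h1 := IsPGroup.coprime_card_of_ne r s hsr.symm W (T ⊓ center G : Subgroup G) hWp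
        (hTp.to_le inf_le_left)
      exact Nat.Coprime.coprime_dvd_left (relIndex_dvd_card _ _) h1
    exact hco.dvd_of_dvd_mul_left hX₂
  have he2 : (Cn t).relIndex W ≤ τ - 1 := Nat.le_of_dvd (by omega) he1
  have hcardW : (Cn t).relIndex W * Nat.card (Cn t ⊓ W : Subgroup G) = Nat.card W := by
    have := ((Cn t).subgroupOf W).index_mul_card
    rw [← this]
    congr 1
    apply Nat.card_congr
    exact ⟨fun x => ⟨⟨x.1, x.2.2⟩, x.2.1⟩, fun x => ⟨x.1.1, x.2, x.1.2⟩, fun x => rfl, fun x => rfl⟩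
  have hinfle : Nat.card (Cn t ⊓ W : Subgroup G) ≤ Nat.card (Dr ⊓ center G : Subgroup G) :=
    card_le_of_le (by
      intro w hw
      have hwc := hW2 w hw.2 hw.1
      exact ⟨hrelD w hw.1 (exists_pow_of_isPGroup hWp hw.2), hwc⟩)
  have hAe : A ≤ (Cn t).relIndex W := by
    by_contra hlt
    push Not at hlt
    have zrpos : 0 < Nat.card (Dr ⊓ center G : Subgroup G) := Nat.card_pos
    have h1 : Nat.card W < Nat.card Dr := by
      rw [← hcardW, hDrcard]
      calc (Cn t).relIndex W * Nat.card (Cn t ⊓ W : Subgroup G)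
          ≤ (Cn t).relIndex W * Nat.card (Dr ⊓ center G : Subgroup G) := by gcongr
        _ < A * Nat.card (Dr ⊓ center G : Subgroup G) := by gcongr
    omega
  omega

end Cfsg.Agent.Lib.TwoRegC
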