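import Mathlib
import Cfsg.Agent.Lib.TwoRegA
import Cfsg.Agent.Lib.TwoRegC

/-!
# Two sizes of `p`-regular classes: at most one prime `≠ p` divides `m`

Assume that every `p`-regular element is conjugate into `D`, the group of `p`-regular elements of
`C(t)`.  The normalizer of `D` acts on `D`, semiregularly modulo the centre.
-/

set_option autoImplicit false
set_option linter.unusedSectionVars false
set_option linter.unusedVariables false
set_option linter.style.haveILetI false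

namespace Cfsg.Agent.Lib.TwoRegD

open Subgroup
open Cfsg.Agent.Lib.CoprimeClass (cs mem_cent cs_eq_one_iff exists_conj_mem_of_not_dvd
  eq_top_of_conj_cover exists_primary_pow_not_mem)
open Cfsg.Agent.Lib.CentTools
open Cfsg.Agent.Lib.TwoRegB
open Cfsg.Agent.Lib.FpfNorm (conjHom conjHom_apply)

variable {G : Type*} [Group G] [Finite G] {p m : ℕ}

theorem D_comm {t : G} (hCu : ∀ u ∈ Cn t, Reg p u → u ∉ center G → Cn u = Cn t) :
    ∀ u ∈ Cn t, Reg p u → ∀ v ∈ Cn t, Reg p v → u * v = v * u := by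
  intro u hu huN v hv _
  by_cases huz : u ∈ center G
  · exact (mem_center_iff.1 huz v).symm
  · have h1 : v ∈ Cn u := by rw [hCu u hu huN huz]; exact hv
    exact (mem_Cn.1 h1).symm

/-- A Sylow subgroup for a prime dividing `m` is not central. -/
theorem sylow_not_central {t : G} (ht : (Cn t).index = m) {ℓ : ℕ} [Fact ℓ.Prime] (hℓ : ℓ ∣ m)
    (L : Sylow ℓ G) : ¬ (L : Subgroup G) ≤ center G := by
  intro hle
  have h1 : (L : Subgroup G) ≤ Cn t := fun g hg => mem_Cn.2 (mem_center_iff.1 (hle hg) t).symm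
  have h2 : (Cn t).index ∣ (L : Subgroup G).index := index_dvd_of_le h1
  exact L.not_dvd_index (hℓ.trans (ht ▸ h2))

/-- A special Sylow pair. -/
theorem exists_special_sylow {t : G} (hconj : ∀ y : G, Reg p y → ∃ n : G, n * y * n⁻¹ ∈ Cn t)
    (hp : p.Prime) {ℓ : ℕ} [Fact ℓ.Prime] (hℓp : ℓ ≠ p) (L₀ : Sylow ℓ G)
    (hL : ¬ (L₀ : Subgroup G) ≤ center G) :
    ∃ (L : Sylow ℓ G) (a : G), a ∈ Cn t ∧ a ∉ center G ∧ a ∈ (L : Subgroup G) ∧
      ∀ g ∈ (L : Subgroup G), g * a * g⁻¹ * a⁻¹ ∈ center G := by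
  obtain ⟨a₀, ha₀, ha₀z⟩ := Set.not_subset.1 hL
  obtain ⟨a₁, ha₁L, -, ha₁z, ha₁s⟩ :=
    exists_special (L₀ : Subgroup G) (⊤ : Subgroup G) (center G) L₀.2 a₀ ha₀ (mem_top a₀) ha₀z
  obtain ⟨k, hk⟩ := exists_pow_of_isPGroup L₀.2 ha₁L
  obtain ⟨n, hn⟩ := hconj a₁ (reg_of_pow Fact.out hp hℓp hk)
  have hmem : ∀ x : G, x ∈ ((n • L₀ : Sylow ℓ G) : Subgroup G) ↔ n⁻¹ * x * n ∈ (L₀ : Subgroup G) := by
    intro x
    rw [Sylow.smul_def, Sylow.pointwise_smul_def]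
    exact Cfsg.Agent.Lib.PCore.mem_conj_smul_iff
  refine ⟨n • L₀, n * a₁ * n⁻¹, hn, by rwa [conj_mem_center_iff], ?_, ?_⟩
  · rw [hmem]
    have : n⁻¹ * (n * a₁ * n⁻¹) * n = a₁ := by group
    rwa [this]
  · intro g hg
    rw [hmem] at hg
    have h1 := ha₁s _ hg
    have h2 := (conj_mem_center_iff (g := n)).2 h1
    have h3 : n * ((n⁻¹ * g * n) * a₁ * (n⁻¹ * g * n)⁻¹ * a₁⁻¹) * n⁻¹
        = g * (n * a₁ * n⁻¹) * g⁻¹ * (n * a₁ * n⁻¹)⁻¹ := by group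
    rwa [h3] at h2

section Main

variable (h : ∀ x : G, Reg p x → cs x = 1 ∨ cs x = m) (hp : p.Prime) {t : G} (htN : Reg p t)
  (htz : t ∉ center G) (hCu : ∀ u ∈ Cn t, Reg p u → u ∉ center G → Cn u = Cn t)
  (hconj : ∀ y : G, Reg p y → ∃ n : G, n * y * n⁻¹ ∈ Cn t)
include h hp htN htz hCu hconj

/-- Data attached to a prime `ℓ ≠ p` dividing `m`. -/
theorem prime_data {ℓ : ℕ} [Fact ℓ.Prime] (hℓp : ℓ ≠ p) (hℓm : ℓ ∣ m) (D : Subgroup G)
    (hD : ∀ x, x ∈ D ↔ x ∈ Cn t ∧ Reg p x) :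
    ∃ (L : Sylow ℓ G) (c : G), c ∈ D ∧ c ∉ center G ∧ (∃ k : ℕ, c ^ (ℓ ^ k) = 1) ∧
      (L : Subgroup G) ≤ normalizer (D : Set G) ∧
      (∃ x ∈ (L : Subgroup G), x ∉ Cn t) ∧
      ∀ g ∈ (L : Subgroup G), ∀ g' ∈ (L : Subgroup G), ∀ d ∈ D,
        (g * g') * d * (g * g')⁻¹ = (g' * g) * d * (g' * g)⁻¹ := by
  have hmt : (Cn t).index = m := cs_eq h htN htz
  have hRnc := sylow_not_central hmt hℓm (default : Sylow ℓ G)
  obtain ⟨c, hct, hcz, k, hk⟩ := exists_commuting h hp hℓp (default : Sylow ℓ G) hRnc hℓm htN htz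
  obtain ⟨L, a, hat, haz, haL, has⟩ := exists_special_sylow hconj hp hℓp (default : Sylow ℓ G) hRnc
  obtain ⟨ka, hka⟩ := exists_pow_of_isPGroup L.2 haL
  have haN : Reg p a := reg_of_pow Fact.out hp hℓp hka
  have hCa : Cn a = Cn t := hCu a hat haN haz
  -- elements of `L` normalize `C`
  have hnorm : ∀ g ∈ (L : Subgroup G), ∀ v ∈ Cn t, g * v * g⁻¹ ∈ Cn t := by
    intro g hg v hv
    have h1 := has g hg
    have h2 : g * a * g⁻¹ = a * (g * a * g⁻¹ * a⁻¹) := by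
      have := mem_center_iff.1 h1 a
      calc g * a * g⁻¹ = (g * a * g⁻¹ * a⁻¹) * a := by group
        _ = a * (g * a * g⁻¹ * a⁻¹) := (this).symm
    have h3 : Cn (g * a * g⁻¹) = Cn a := by rw [h2, Cn_mul_central h1]
    have h4 := conj_mem_Cn (g := g) (hCa ▸ hv : v ∈ Cn a)
    rwa [h3, hCa] at h4
  refine ⟨L, c, (hD c).2 ⟨hct, reg_of_pow Fact.out hp hℓp hk⟩, hcz, ⟨k, hk⟩, ?_, ?_, ?_⟩
  · intro g hg
    refine mem_normalizer_iff.2 (fun x => ?_)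
    constructor
    · intro hx
      have hx' := (hD x).1 hx
      exact (hD _).2 ⟨hnorm g hg x hx'.1, hx'.2.conj g⟩
    · intro hx
      have hx' := (hD _).1 hx
      refine (hD x).2 ⟨?_, ?_⟩
      · have h1 := hnorm g⁻¹ (inv_mem hg) _ hx'.1
        have h2 : g⁻¹ * (g * x * g⁻¹) * g⁻¹⁻¹ = x := by group
        rwa [h2] at h1
      · have h1 := hx'.2.conj g⁻¹
        have h2 : g⁻¹ * (g * x * g⁻¹) * g⁻¹⁻¹ = x := by group
        rwa [h2] at h1
  · by_contra hcon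
    push Not at hcon
    have h2 : (Cn t).index ∣ (L : Subgroup G).index := index_dvd_of_le hcon
    exact L.not_dvd_index (hℓm.trans (hmt ▸ h2))
  · intro g hg g' hg' d hd
    have hd' := (hD d).1 hd
    -- the commutator centralizes `a`
    have hact : ∀ y ∈ (L : Subgroup G), ∃ z ∈ center G, y * a * y⁻¹ = z * a := by
      intro y hy
      exact ⟨_, has y hy, by group⟩
    obtain ⟨z, hz, hze⟩ := hact g hg
    obtain ⟨z', hz', hze'⟩ := hact g' hg'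
    have h1 : (g * g') * a * (g * g')⁻¹ = z' * z * a := by
      calc (g * g') * a * (g * g')⁻¹ = g * (g' * a * g'⁻¹) * g⁻¹ := by group
        _ = g * (z' * a) * g⁻¹ := by rw [hze']
        _ = z' * (g * a * g⁻¹) := by
          have := mem_center_iff.1 hz' g
          calc g * (z' * a) * g⁻¹ = (g * z') * a * g⁻¹ := by group
            _ = (z' * g) * a * g⁻¹ := by rw [this]
            _ = _ := by group
        _ = z' * z * a := by rw [hze]; group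
    have h2 : (g' * g) * a * (g' * g)⁻¹ = z * z' * a := by
      calc (g' * g) * a * (g' * g)⁻¹ = g' * (g * a * g⁻¹) * g'⁻¹ := by group
        _ = g' * (z * a) * g'⁻¹ := by rw [hze]
        _ = z * (g' * a * g'⁻¹) := by
          have := mem_center_iff.1 hz g'
          calc g' * (z * a) * g'⁻¹ = (g' * z) * a * g'⁻¹ := by group
            _ = (z * g') * a * g'⁻¹ := by rw [this]
            _ = _ := by group
        _ = z * z' * a := by rw [hze']; group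
    have h3 : z' * z = z * z' := mem_center_iff.1 hz z'
    have h4 : (g' * g)⁻¹ * (g * g') ∈ Cn a := by
      rw [mem_Cn]
      have h5 : (g * g') * a = (z' * z * a) * (g * g') := by rw [← h1]; group
      have h6 : (g' * g) * a = (z * z' * a) * (g' * g) := by rw [← h2]; group
      calc (g' * g)⁻¹ * (g * g') * a = (g' * g)⁻¹ * ((g * g') * a) := by group
        _ = (g' * g)⁻¹ * ((z' * z * a) * (g * g')) := by rw [h5]
        _ = (g' * g)⁻¹ * ((z * z' * a) * (g' * g)) * ((g' * g)⁻¹ * (g * g')) := by rw [h3]; group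
        _ = (g' * g)⁻¹ * ((g' * g) * a) * ((g' * g)⁻¹ * (g * g')) := by rw [h6]
        _ = a * ((g' * g)⁻¹ * (g * g')) := by group
    rw [hCa] at h4
    -- so it centralizes `d`
    have h5 : (g' * g)⁻¹ * (g * g') ∈ Cn d := by
      by_cases hdz : d ∈ center G
      · exact mem_Cn.2 (mem_center_iff.1 hdz _)
      · rw [hCu d hd'.1 hd'.2 hdz]; exact h4
    rw [mem_Cn] at h5
    have h6 : (g * g') * d = (g' * g) * (d * ((g' * g)⁻¹ * (g * g'))) := by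
      rw [← h5]; group
    calc (g * g') * d * (g * g')⁻¹ = ((g * g') * d) * (g * g')⁻¹ := rfl
      _ = (g' * g) * (d * ((g' * g)⁻¹ * (g * g'))) * (g * g')⁻¹ := by rw [h6]
      _ = _ := by group

theorem two_primes_false {r₁ r₂ : ℕ} [Fact r₁.Prime] [Fact r₂.Prime] (hr₁p : r₁ ≠ p) (hr₂p : r₂ ≠ p)
    (hne : r₁ ≠ r₂) (hm₁ : r₁ ∣ m) (hm₂ : r₂ ∣ m) : False := by
  classical
  let D : Subgroup G := regPart (Cn t) p (D_comm hCu)
  have hD : ∀ x, x ∈ D ↔ x ∈ Cn t ∧ Reg p x := fun x => Iff.rfl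
  have hDcomm : ∀ u ∈ D, ∀ v ∈ D, u * v = v * u :=
    fun u hu v hv => D_comm hCu u hu.1 hu.2 v hv.1 hv.2
  obtain ⟨L₁, c₁, hc₁D, hc₁z, ⟨k₁, hk₁⟩, hL₁N, ⟨x₁, hx₁L, hx₁C⟩, hL₁c⟩ :=
    prime_data h hp htN htz hCu hconj hr₁p hm₁ D hD
  obtain ⟨L₂, c₂, hc₂D, hc₂z, ⟨k₂, hk₂⟩, hL₂N, ⟨x₂, hx₂L, hx₂C⟩, hL₂c⟩ :=
    prime_data h hp htN htz hCu hconj hr₂p hm₂ D hD
  letI : CommGroup D :=
    { (inferInstance : Group D) with
      mul_comm := fun a b => Subtype.ext (hDcomm a a.2 b b.2) }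
  let N : Subgroup G := normalizer (D : Set G)
  let Φ : N →* MulAut D := conjHom N D le_rfl
  have hΦ : ∀ (n : N) (d : D), ((Φ n d : D) : G) = (n : G) * (d : G) * (n : G)⁻¹ :=
    fun n d => conjHom_apply N D le_rfl n d
  -- the kernel
  have hker : ∀ n : N, (n : G) ∈ Cn t → Φ n = 1 := by
    intro n hn
    ext d
    rw [hΦ]
    have hd := d.2
    have hd' : (n : G) ∈ Cn (d : G) := by
      by_cases hdz : (d : G) ∈ center G
      · exact mem_Cn.2 (mem_center_iff.1 hdz _)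
      · rw [hCu d hd.1 hd.2 hdz]; exact hn
    rw [mem_Cn] at hd'
    show (n : G) * (d : G) * (n : G)⁻¹ = d
    rw [hd']; group
  let Z₀ : Subgroup D := (center G).subgroupOf D
  have hs : Cfsg.Agent.Lib.TwoRegA.Semi (Φ.range.subtype) Z₀ := by
    constructor
    · rintro ⟨f, n, rfl⟩ z hz
      apply Subtype.ext
      show ((Φ n z : D) : G) = z
      rw [hΦ]
      have hz' : (z : G) ∈ center G := mem_subgroupOf.1 hz
      rw [mem_center_iff.1 hz' (n : G)]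
      group
    · rintro ⟨f, n, rfl⟩ hf v hv
      rw [mem_subgroupOf]
      by_contra hvz
      have h1 : ((Φ n v : D) : G) = v := congrArg Subtype.val hv
      rw [hΦ] at h1
      have h2 : (n : G) ∈ Cn (v : G) := by
        rw [mem_Cn]
        calc (n : G) * v = (n : G) * v * (n : G)⁻¹ * n := by group
          _ = v * n := by rw [h1]
      have hvD := v.2
      rw [hCu v hvD.1 hvD.2 hvz] at h2
      apply hf
      apply Subtype.ext
      exact hker n h2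
  -- nontrivial elements
  have hne1 : ∀ x : N, (x : G) ∉ Cn t → Φ x ≠ 1 := by
    intro x hx h1
    have h2 : ((Φ x ⟨c₁, hc₁D⟩ : D) : G) = c₁ := by rw [h1]; rfl
    rw [hΦ] at h2
    apply hx
    rw [← hCu c₁ hc₁D.1 hc₁D.2 hc₁z, mem_Cn]
    calc (x : G) * c₁ = (x : G) * c₁ * (x : G)⁻¹ * x := by group
      _ = c₁ * x := by
        have h3 : (x : G) * c₁ * (x : G)⁻¹ = c₁ := h2
        rw [h3]
  have hvZ : ∀ c : G, ∀ hc : c ∈ D, c ∉ center G → (⟨c, hc⟩ : D) ∉ Z₀ := by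
    intro c hc hcz hmem
    exact hcz (mem_subgroupOf.1 hmem)
  have hpowL : ∀ {ℓ : ℕ} [Fact ℓ.Prime] (L : Sylow ℓ G) {x : G}, x ∈ (L : Subgroup G) →
      ∀ hxN : x ∈ N, ∃ e : ℕ, (⟨Φ ⟨x, hxN⟩, ⟨_, rfl⟩⟩ : Φ.range) ^ (ℓ ^ e) = 1 := by
    intro ℓ _ L x hx hxN
    obtain ⟨e, he⟩ := exists_pow_of_isPGroup L.2 hx
    refine ⟨e, Subtype.ext ?_⟩
    have h1 : (⟨x, hxN⟩ : N) ^ (ℓ ^ e) = 1 := Subtype.ext he
    show (Φ ⟨x, hxN⟩) ^ (ℓ ^ e) = 1
    rw [← map_pow, h1, map_one]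
  obtain ⟨e₁, he₁⟩ := hpowL L₁ hx₁L (hL₁N hx₁L)
  obtain ⟨e₂, he₂⟩ := hpowL L₂ hx₂L (hL₂N hx₂L)
  refine Cfsg.Agent.Lib.TwoRegA.false_of_two_primes hs hne
    (v₁ := ⟨c₁, hc₁D⟩) (j₁ := k₁) (Subtype.ext hk₁) (hvZ c₁ hc₁D hc₁z)
    (v₂ := ⟨c₂, hc₂D⟩) (j₂ := k₂) (Subtype.ext hk₂) (hvZ c₂ hc₂D hc₂z)
    (x₁ := ⟨Φ ⟨x₁, hL₁N hx₁L⟩, ⟨_, rfl⟩⟩) (e₁ := e₁)
    (fun h => hne1 _ hx₁C (congrArg Subtype.val h)) he₁
    (x₂ := ⟨Φ ⟨x₂, hL₂N hx₂L⟩, ⟨_, rfl⟩⟩) (e₂ := e₂)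
    (fun h => hne1 _ hx₂C (congrArg Subtype.val h)) he₂ ?_
  -- commutativity of Sylow `2`-subgroups
  intro h22
  -- a Sylow `2`-subgroup `L` of `G` inside `N`, with commutativity modulo `C`
  haveI : Fact (2 : ℕ).Prime := ⟨Nat.prime_two⟩
  obtain ⟨L, hLN, hLc⟩ : ∃ L : Sylow 2 G, (L : Subgroup G) ≤ N ∧
      ∀ g ∈ (L : Subgroup G), ∀ g' ∈ (L : Subgroup G), ∀ d ∈ D,
        (g * g') * d * (g * g')⁻¹ = (g' * g) * d * (g' * g)⁻¹ := by
    rcases h22 with h22 | h22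
    · subst h22
      exact ⟨L₁, hL₁N, hL₁c⟩
    · subst h22
      exact ⟨L₂, hL₂N, hL₂c⟩
  let ρ : N →* Φ.range := Φ.rangeRestrict
  have hρ : Function.Surjective ρ := Φ.rangeRestrict_surjective
  let S₀ : Sylow 2 Φ.range := Sylow.mapSurjective hρ (L.subtype hLN)
  have hS₀ : ∀ a ∈ (S₀ : Subgroup Φ.range), ∀ b ∈ (S₀ : Subgroup Φ.range), a * b = b * a := by
    intro a ha b hb
    have ha' : a ∈ ((L.subtype hLN : Sylow 2 N) : Subgroup N).map ρ := by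
      have := Sylow.coe_mapSurjective hρ (L.subtype hLN)
      rw [← this]; exact ha
    have hb' : b ∈ ((L.subtype hLN : Sylow 2 N) : Subgroup N).map ρ := by
      have := Sylow.coe_mapSurjective hρ (L.subtype hLN)
      rw [← this]; exact hb
    obtain ⟨g, hg, rfl⟩ := ha'
    obtain ⟨g', hg', rfl⟩ := hb'
    have hg₁ : (g : G) ∈ (L : Subgroup G) := by
      have h5 : g ∈ ((L.subtype hLN : Sylow 2 N) : Subgroup N) := hg
      rw [Sylow.coe_subtype] at h5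
      exact mem_subgroupOf.1 h5
    have hg₂ : (g' : G) ∈ (L : Subgroup G) := by
      have h5 : g' ∈ ((L.subtype hLN : Sylow 2 N) : Subgroup N) := hg'
      rw [Sylow.coe_subtype] at h5
      exact mem_subgroupOf.1 h5
    apply Subtype.ext
    show Φ g * Φ g' = Φ g' * Φ g
    rw [← map_mul, ← map_mul]
    ext d
    rw [hΦ, hΦ]
    exact hLc g hg₁ g' hg₂ d d.2
  intro X a ha b hb
  obtain ⟨f, hf⟩ := MulAction.exists_smul_eq Φ.range S₀ X
  have hmem : ∀ x : Φ.range, x ∈ (X : Subgroup Φ.range) → f⁻¹ * x * f ∈ (S₀ : Subgroup Φ.range) := by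
    intro x hx
    rw [← hf, Sylow.smul_def, Sylow.pointwise_smul_def] at hx
    exact Cfsg.Agent.Lib.PCore.mem_conj_smul_iff.1 hx
  have h1 := hS₀ _ (hmem a ha) _ (hmem b hb)
  have h2 : f * ((f⁻¹ * a * f) * (f⁻¹ * b * f)) * f⁻¹ = f * ((f⁻¹ * b * f) * (f⁻¹ * a * f)) * f⁻¹ := by
    rw [h1]
  have e1 : f * ((f⁻¹ * a * f) * (f⁻¹ * b * f)) * f⁻¹ = a * b := by group
  have e2 : f * ((f⁻¹ * b * f) * (f⁻¹ * a * f)) * f⁻¹ = b * a := by group
  rwa [e1, e2] at h2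

end Main

end Cfsg.Agent.Lib.TwoRegD
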