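import Mathlib
import Cfsg.Agent.Lib.TwoRegD
import Cfsg.Agent.Lib.ClassPPow
import Cfsg.Agent.Lib.CosetConjCyc
import Cfsg.Agent.Lib.PCore

/-!
# Two sizes of `p`-regular classes: the case of one prime `r ≠ p` dividing `m`

`m = r^e p^c`.  A special `r`-element has `p`-power class size modulo the centre, so its conjugates
commute modulo `Z(G) O_p(G)`.  This gives `G = O_p(G) N_G(C(t))`, so that a Sylow `r`-subgroup is
abelian modulo `O_p(G)`, a contradiction.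
-/

set_option autoImplicit false
set_option linter.unusedSectionVars false
set_option linter.unusedVariables false
set_option linter.style.haveILetI false

namespace Cfsg.Agent.Lib.TwoRegE

open Subgroup
open Cfsg (pCore)
open Cfsg.Agent.Lib.CoprimeClass (cs mem_cent cs_eq_one_iff exists_conj_mem_of_not_dvd
  eq_top_of_conj_cover exists_primary_pow_not_mem)
open Cfsg.Agent.Lib.CentTools
open Cfsg.Agent.Lib.TwoRegB
open Cfsg.Agent.Lib.TwoRegD (D_comm sylow_not_central)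
open Cfsg.Agent.Lib.PCore (le_pCore isPGroup_pCore map_pCore_of_normal)

variable {G : Type*} [Group G] [Finite G] {p : ℕ} [hpf : Fact p.Prime]

theorem reg_mem_pCore_eq_one {x : G} (hx : x ∈ pCore p G) (hr : Reg p x) : x = 1 := by
  obtain ⟨k, hk⟩ := exists_pow_of_isPGroup (isPGroup_pCore (G := G) p) hx
  have h1 : orderOf x ∣ p ^ k := orderOf_dvd_of_pow_eq_one hk
  have h2 : orderOf x = 1 := Nat.Coprime.eq_one_of_dvd (hr.pow_right k) h1
  exact orderOf_eq_one_iff.1 h2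

theorem conj_of_coset_reg {d y : G} (hd : Reg p d) (hy : Reg p y) (hyd : y * d⁻¹ ∈ pCore p G) :
    ∃ x ∈ pCore p G, x * d * x⁻¹ = y := by
  haveI hO : (pCore p G).Normal := inferInstance
  apply Cfsg.Agent.Lib.CosetConjCyc.exists_conj_of_coset
  · rw [normalizer_eq_top (pCore p G)]; trivial
  · obtain ⟨k, hk⟩ := (IsPGroup.iff_card).1 (isPGroup_pCore (G := G) p)
    rw [hk]
    exact hd.pow_right k
  · exact hyd
  · apply reg_mem_pCore_eq_one (p := p) _ (hy.pow _)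
    have h1 : (QuotientGroup.mk' (pCore p G)) y = (QuotientGroup.mk' (pCore p G)) d := by
      rw [← QuotientGroup.eq_one_iff] at hyd
      have h2 : (QuotientGroup.mk' (pCore p G)) (y * d⁻¹) = 1 := hyd
      rw [map_mul, map_inv, mul_inv_eq_one] at h2
      exact h2
    rw [← QuotientGroup.eq_one_iff]
    show (QuotientGroup.mk' (pCore p G)) (y ^ orderOf d) = 1
    rw [map_pow, h1, ← map_pow, pow_orderOf_eq_one, map_one]

theorem central_mem_pCore {z : G} (hz : z ∈ center G) {k : ℕ} (hk : z ^ (p ^ k) = 1) :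
    z ∈ pCore p G := by
  have hnorm : (zpowers z).Normal := by
    constructor
    intro y hy g
    obtain ⟨i, rfl⟩ := mem_zpowers_iff.1 hy
    have : g * z ^ i * g⁻¹ = z ^ i := by
      have hc : z ^ i ∈ center G := (center G).zpow_mem hz i
      rw [mem_center_iff.1 hc g]; group
    rw [this]; exact zpow_mem (mem_zpowers z) i
  have hP : IsPGroup p (zpowers z) := by
    rintro ⟨y, hy⟩
    obtain ⟨i, rfl⟩ := mem_zpowers_iff.1 hy
    refine ⟨k, Subtype.ext ?_⟩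
    show (z ^ i) ^ (p ^ k) = 1
    rw [← zpow_natCast, ← zpow_mul, mul_comm, zpow_mul, zpow_natCast, hk, one_zpow]
  exact le_pCore hnorm hP (mem_zpowers z)

/-- Elements of `Z(G) O_p(G)`. -/
theorem exists_of_mem_W {y : G} (hy : y ∈ center G ⊔ pCore p G) :
    ∃ z ∈ center G, Reg p z ∧ ∃ o ∈ pCore p G, y = z * o := by
  rw [mem_sup_of_normal_left] at hy
  obtain ⟨z', hz', o', ho', rfl⟩ := hy
  obtain ⟨a, b, rfl, hc, ⟨k, hk⟩, hb, ha, hbz⟩ := Cfsg.Agent.Lib.PResid.exists_decomp (p := p) z'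
  have haz : a ∈ center G := (zpowers_le.2 hz') ha
  have hbz' : b ∈ center G := (zpowers_le.2 hz') hbz
  refine ⟨b, hbz', hb, a * o', (pCore p G).mul_mem (central_mem_pCore haz hk) ho', ?_⟩
  rw [← mul_assoc, hc.eq]

/-- `p`-regular elements of `Z(G) O_p(G)` are central. -/
theorem reg_of_mem_W {y : G} (hy : y ∈ center G ⊔ pCore p G) (hr : Reg p y) : y ∈ center G := by
  obtain ⟨z, hz, -, o, ho, rfl⟩ := exists_of_mem_W hy
  obtain ⟨k, hk⟩ := exists_pow_of_isPGroup (isPGroup_pCore (G := G) p) ho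
  have hc : Commute z o := (mem_center_iff.1 hz o).symm
  have h1 : (z * o) ^ (p ^ k) = z ^ (p ^ k) := by rw [hc.mul_pow, hk, mul_one]
  have h2 : (p ^ k).Coprime (orderOf (z * o)) := (hr.pow_right k).symm
  obtain ⟨l, hl⟩ := exists_pow_eq_self_of_coprime h2
  rw [← hl, h1]
  exact (center G).pow_mem ((center G).pow_mem hz _) _

/-- The preimage of `O_p(G/Z(G))`. -/
theorem mem_W_of_mk {y : G}
    (hy : (QuotientGroup.mk' (center G)) y ∈ pCore p (G ⧸ center G)) :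
    y ∈ center G ⊔ pCore p G := by
  classical
  let π := QuotientGroup.mk' (center G)
  let Y : Subgroup G := (pCore p (G ⧸ center G)).comap π
  haveI hYn : Y.Normal := inferInstance
  let f : Y →* pCore p (G ⧸ center G) :=
    (π.comp Y.subtype).codRestrict _ (fun x => x.2)
  have hker : f.ker ≤ center Y := by
    intro x hx
    have h1 : π (x : G) = 1 := congrArg Subtype.val (MonoidHom.mem_ker.1 hx)
    have h2 : (x : G) ∈ center G := (QuotientGroup.eq_one_iff _).1 h1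
    rw [mem_center_iff]
    intro g
    exact Subtype.ext (mem_center_iff.1 h2 g)
  haveI : Group.IsNilpotent (pCore p (G ⧸ center G)) := (isPGroup_pCore (G := G ⧸ center G) p).isNilpotent
  haveI hYnil : Group.IsNilpotent Y := Subgroup.isNilpotent_of_ker_le_center f hker
  obtain ⟨a, b, rfl, hc, ⟨k, hk⟩, hb, ha, hbz⟩ := Cfsg.Agent.Lib.PResid.exists_decomp (p := p) y
  have hyY : a * b ∈ Y := hy
  have haY : a ∈ Y := (zpowers_le.2 hyY) ha
  have hbY : b ∈ Y := (zpowers_le.2 hyY) hbz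
  -- `b` is central
  have hbc : b ∈ center G := by
    have h1 : π b ∈ pCore p (G ⧸ center G) := hbY
    obtain ⟨j, hj⟩ := exists_pow_of_isPGroup (isPGroup_pCore (G := G ⧸ center G) p) h1
    have h2 : orderOf (π b) ∣ orderOf b := orderOf_map_dvd π b
    have h3 : (orderOf (π b)).Coprime p := Nat.Coprime.coprime_dvd_left h2 hb
    have h4 : orderOf (π b) = 1 :=
      Nat.Coprime.eq_one_of_dvd (h3.pow_right j) (orderOf_dvd_of_pow_eq_one hj)
    rw [orderOf_eq_one_iff] at h4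
    exact (QuotientGroup.eq_one_iff _).1 h4
  -- `a` lies in `O_p(Y)`
  have haO : a ∈ pCore p G := by
    let a' : Y := ⟨a, haY⟩
    have hzp : IsPGroup p (zpowers a') := by
      rintro ⟨x, hx⟩
      obtain ⟨i, rfl⟩ := mem_zpowers_iff.1 hx
      refine ⟨k, Subtype.ext (Subtype.ext ?_)⟩
      show (a ^ i) ^ (p ^ k) = 1
      rw [← zpow_natCast, ← zpow_mul, mul_comm, zpow_mul, zpow_natCast, hk, one_zpow]
    obtain ⟨Q, hQ⟩ := hzp.exists_le_sylow
    have hQn : (Q : Subgroup Y).Normal := inferInstance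
    have h1 : a' ∈ pCore p Y := le_pCore hQn Q.2 (hQ (mem_zpowers a'))
    have h2 : a ∈ (pCore p Y).map Y.subtype := ⟨a', h1, rfl⟩
    rw [map_pCore_of_normal] at h2
    exact h2.2
  exact (center G ⊔ pCore p G).mul_mem (mem_sup_right haO) (mem_sup_left hbc)

/-- The class size modulo the centre. -/
theorem class_pow_of_special {m r : ℕ} [Fact r.Prime] (hrp : r ≠ p)
    (hτ : ∀ q : ℕ, q.Prime → q ∣ m → q = p ∨ q = r) (hm0 : m ≠ 0) (R : Sylow r G) {a : G}
    (ha : (Cn a).index = m)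
    (has : ∀ g ∈ (R : Subgroup G), g * a * g⁻¹ * a⁻¹ ∈ center G) :
    ∃ i : ℕ, (centralizer ({(QuotientGroup.mk' (center G)) a} : Set (G ⧸ center G))).index = p ^ i := by
  let π := QuotientGroup.mk' (center G)
  let C₂ : Subgroup G := (centralizer ({π a} : Set (G ⧸ center G))).comap π
  have hidx : (centralizer ({π a} : Set (G ⧸ center G))).index = C₂.index :=
    (index_comap_of_surjective _ (QuotientGroup.mk'_surjective _)).symm
  have hle1 : Cn a ≤ C₂ := by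
    intro g hg
    show π g ∈ centralizer ({π a} : Set (G ⧸ center G))
    rw [mem_Cn] at hg
    rw [mem_cent, ← map_mul, ← map_mul, hg]
  have hle2 : (R : Subgroup G) ≤ C₂ := by
    intro g hg
    show π g ∈ centralizer ({π a} : Set (G ⧸ center G))
    rw [mem_cent, ← map_mul, ← map_mul]
    have h1 := has g hg
    have h2 : π (g * a * g⁻¹ * a⁻¹) = 1 := (QuotientGroup.eq_one_iff _).2 h1
    rw [map_mul, map_mul, map_mul, map_inv, map_inv, mul_inv_eq_one] at h2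
    have h3 : π g * π a = π a * π g := by
      calc π g * π a = (π g * π a * (π g)⁻¹) * π g := by group
        _ = π a * π g := by rw [h2]
    rw [map_mul, map_mul, h3]
  have hd1 : C₂.index ∣ m := ha ▸ index_dvd_of_le hle1
  have hd2 : C₂.index ∣ (R : Subgroup G).index := index_dvd_of_le hle2
  refine ⟨C₂.index.primeFactorsList.length, ?_⟩
  rw [hidx]
  apply Nat.eq_prime_pow_of_unique_prime_dvd (index_ne_zero_of_finite)
  intro d hd hdd
  rcases hτ d hd (hdd.trans hd1) with h | h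
  · exact h
  · subst h
    exact absurd (hdd.trans hd2) R.not_dvd_index

theorem single_prime_false {m : ℕ} (h : ∀ x : G, Reg p x → cs x = 1 ∨ cs x = m) {r : ℕ} [Fact r.Prime]
    (hrp : r ≠ p) (hrm : r ∣ m) (hτ : ∀ q : ℕ, q.Prime → q ∣ m → q = p ∨ q = r)
    {s : ℕ} [Fact s.Prime] (hsr : s ≠ r) (hsp : s ≠ p) {t : G} {kt : ℕ} (hts : t ^ (s ^ kt) = 1)
    (htz : t ∉ center G) (hCu : ∀ u ∈ Cn t, Reg p u → u ∉ center G → Cn u = Cn t)
    (hconj : ∀ y : G, Reg p y → ∃ n : G, n * y * n⁻¹ ∈ Cn t) : False := by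
  classical
  have hpp : p.Prime := Fact.out
  have hrr : r.Prime := Fact.out
  have hss : s.Prime := Fact.out
  have htN : Reg p t := reg_of_pow hss hpp hsp hts
  have hmt : (Cn t).index = m := cs_eq h htN htz
  have hm0 : m ≠ 0 := by rw [← hmt]; exact index_ne_zero_of_finite
  have hO : (pCore p G).Normal := inferInstance
  let πO := QuotientGroup.mk' (pCore p G)
  have hπO : ∀ x, πO x = 1 ↔ x ∈ pCore p G := fun x => QuotientGroup.eq_one_iff x
  let W : Subgroup G := center G ⊔ pCore p G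
  have hWn : W.Normal := inferInstance
  let πW := QuotientGroup.mk' W
  have hπW : ∀ x, πW x = 1 ↔ x ∈ W := fun x => QuotientGroup.eq_one_iff x
  have hOW : pCore p G ≤ W := le_sup_right
  have hDcomm := D_comm hCu
  -- the special element
  let R : Sylow r G := default
  have hRnc := sylow_not_central hmt hrm R
  obtain ⟨a₁, ha₁R, ha₁z⟩ := Set.not_subset.1 hRnc
  obtain ⟨a₀, ha₀R, -, ha₀z, has⟩ :=
    exists_special (R : Subgroup G) (⊤ : Subgroup G) (center G) R.2 a₁ ha₁R (mem_top a₁) ha₁z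
  obtain ⟨k, hk⟩ := exists_pow_of_isPGroup R.2 ha₀R
  have ha₀N : Reg p a₀ := reg_of_pow hrr hpp hrp hk
  have hcs := class_pow_of_special (m := m) hrp hτ hm0 R (cs_eq h ha₀N ha₀z) has
  have hcomm₀ : ∀ g g' : G, (g * a₀ * g⁻¹) * (g' * a₀ * g'⁻¹) * (g * a₀ * g⁻¹)⁻¹ * (g' * a₀ * g'⁻¹)⁻¹ ∈ W := by
    intro g g'
    apply mem_W_of_mk
    have := Cfsg.Agent.Lib.ClassPPow.commutator_conj_mem_pCore (p := p)
      ((QuotientGroup.mk' (center G)) a₀) hcs ((QuotientGroup.mk' (center G)) g)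
      ((QuotientGroup.mk' (center G)) g')
    simpa only [map_mul, map_inv] using this
  obtain ⟨n₀, hn₀⟩ := hconj a₀ ha₀N
  obtain ⟨a, haa⟩ : ∃ a, a = n₀ * a₀ * n₀⁻¹ := ⟨_, rfl⟩
  rw [← haa] at hn₀
  have haN : Reg p a := haa ▸ ha₀N.conj n₀
  have haz : a ∉ center G := by rw [haa, conj_mem_center_iff]; exact ha₀z
  have hak : a ^ (r ^ k) = 1 := by rw [haa, conj_pow, hk]; group
  have hCa : Cn a = Cn t := hCu a hn₀ haN haz
  have hcomm : ∀ g g' : G, (g * a * g⁻¹) * (g' * a * g'⁻¹) * (g * a * g⁻¹)⁻¹ * (g' * a * g'⁻¹)⁻¹ ∈ W := by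
    intro g g'
    have := hcomm₀ (g * n₀) (g' * n₀)
    have e1 : g * n₀ * a₀ * (g * n₀)⁻¹ = g * a * g⁻¹ := by rw [haa]; group
    have e2 : g' * n₀ * a₀ * (g' * n₀)⁻¹ = g' * a * g'⁻¹ := by rw [haa]; group
    rwa [e1, e2] at this
  have hCW : ∀ x y : G, x * y * x⁻¹ * y⁻¹ ∈ W → Commute (πW x) (πW y) := by
    intro x y hxy
    have h1 := (hπW _).2 hxy
    rw [map_mul, map_mul, map_mul, map_inv, map_inv, mul_inv_eq_one] at h1
    show πW x * πW y = πW y * πW x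
    calc πW x * πW y = (πW x * πW y * (πW x)⁻¹) * πW x := by group
      _ = πW y * πW x := by rw [h1]
  -- Claim A
  have claimA : ∀ g : G, ∃ x ∈ pCore p G, ∃ n ∈ Cn t, g * a * g⁻¹ = x * n := by
    intro g
    obtain ⟨b, hb⟩ : ∃ b, b = g * a * g⁻¹ := ⟨_, rfl⟩
    rw [← hb]
    have hbN : Reg p b := hb ▸ haN.conj g
    have hbk : b ^ (r ^ k) = 1 := by rw [hb, conj_pow, hak]; group
    have h1 : b * a * b⁻¹ * a⁻¹ ∈ W := by
      have := hcomm g 1
      have e : (1 : G) * a * (1 : G)⁻¹ = a := by group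
      rw [e, ← hb] at this
      exact this
    obtain ⟨z, hz, hzN, o, ho, hzo⟩ := exists_of_mem_W h1
    have hcza : Commute z a := (mem_center_iff.1 hz a).symm
    have haz' : Reg p (z * a) := Reg.mul hcza hzN haN
    have hy : b * a * b⁻¹ = o * (z * a) := by
      have h2 : b * a * b⁻¹ = (b * a * b⁻¹ * a⁻¹) * a := by group
      rw [h2, hzo]
      have h3 := (mem_center_iff.1 hz o)
      calc z * o * a = (z * o) * a := rfl
        _ = (o * z) * a := by rw [← h3]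
        _ = _ := by group
    obtain ⟨x, hx, hxe⟩ := conj_of_coset_reg (p := p) haz' (haN.conj b)
      (by
        rw [hy]
        have e : o * (z * a) * (z * a)⁻¹ = o := by group
        rw [e]
        exact ho)
    have hxa : x * (z * a) * x⁻¹ = (x * a * x⁻¹) * z := by
      have h3 := (mem_center_iff.1 hz x)
      calc x * (z * a) * x⁻¹ = (x * z) * a * x⁻¹ := by group
        _ = (z * x) * a * x⁻¹ := by rw [h3]
        _ = z * (x * a * x⁻¹) := by group
        _ = _ := (mem_center_iff.1 hz _).symm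
    have hCb : Cn (b * a * b⁻¹) = Cn (x * a * x⁻¹) := by
      rw [← hxe, hxa, Cn_mul_central hz]
    -- `n` normalizes `C`
    obtain ⟨n, hn⟩ : ∃ n, n = x⁻¹ * b := ⟨_, rfl⟩
    have hnC : ∀ v ∈ Cn t, n * v * n⁻¹ ∈ Cn t := by
      intro v hv
      have h2 := conj_mem_Cn (g := b) (hCa ▸ hv : v ∈ Cn a)
      rw [hCb] at h2
      have h3 := conj_mem_Cn (g := x⁻¹) h2
      have e1 : x⁻¹ * (x * a * x⁻¹) * x⁻¹⁻¹ = a := by group
      rw [e1, hCa] at h3
      have e2 : x⁻¹ * (b * v * b⁻¹) * x⁻¹⁻¹ = n * v * n⁻¹ := by rw [hn]; group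
      rwa [e2] at h3
    refine ⟨x, hx, n, ?_, by rw [hn]; group⟩
    -- the commutator
    obtain ⟨y₀, hy₀⟩ : ∃ y₀, y₀ = t * (n * t⁻¹ * n⁻¹) := ⟨_, rfl⟩
    have ht₁C : n * t⁻¹ * n⁻¹ ∈ Cn t := hnC _ (inv_mem (mem_Cn.2 rfl))
    have ht₁N : Reg p (n * t⁻¹ * n⁻¹) := (htN.inv).conj n
    have htC : t ∈ Cn t := mem_Cn.2 rfl
    have hcom : Commute t (n * t⁻¹ * n⁻¹) := hDcomm t htC htN _ ht₁C ht₁N
    have hy₀C : y₀ ∈ Cn t := hy₀ ▸ (Cn t).mul_mem htC ht₁C
    have hy₀N : Reg p y₀ := hy₀ ▸ Reg.mul hcom htN ht₁N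
    have hy₀s : y₀ ^ (s ^ kt) = 1 := by
      rw [hy₀, hcom.mul_pow, hts, conj_pow, inv_pow, hts]
      group
    have hy₀co : (orderOf y₀).Coprime r :=
      Nat.Coprime.coprime_dvd_left (orderOf_dvd_of_pow_eq_one hy₀s)
        (Nat.Coprime.pow_left _ ((Nat.coprime_primes hss hrr).2 hsr))
    -- modulo `W`
    have hW1 : πW x = 1 := (hπW x).2 (hOW hx)
    have hW2 : πW n = πW b := by
      rw [hn, map_mul, map_inv, hW1]; group
    have hb₁ : Commute (πW (t * b * t⁻¹)) (πW b) := by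
      apply hCW
      have := hcomm (t * g) g
      have e1 : t * g * a * (t * g)⁻¹ = t * b * t⁻¹ := by rw [hb]; group
      rw [e1, ← hb] at this
      exact this
    have hb₁k : (t * b * t⁻¹) ^ (r ^ k) = 1 := by rw [conj_pow, hbk]; group
    have hWy : πW y₀ = πW (t * b * t⁻¹) * (πW b)⁻¹ := by
      rw [hy₀]
      simp only [map_mul, map_inv]
      rw [hW2]
      group
    have hWk : πW (y₀ ^ (r ^ k)) = 1 := by
      rw [map_pow, hWy, (hb₁.inv_right).mul_pow, ← map_pow, hb₁k, inv_pow, ← map_pow, hbk]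
      simp
    have hy₀kz : y₀ ^ (r ^ k) ∈ center G := reg_of_mem_W ((hπW _).1 hWk) (hy₀N.pow _)
    have hy₀z : y₀ ∈ center G := by
      obtain ⟨l, hl⟩ := exists_pow_eq_self_of_coprime ((hy₀co.pow_right k).symm)
      rw [← hl]
      exact (center G).pow_mem hy₀kz _
    -- action of `n` on `t`
    have hnt : n * t * n⁻¹ = y₀⁻¹ * t := by
      rw [hy₀]; group
    have hnpow : ∀ j : ℕ, n ^ j * t * (n ^ j)⁻¹ = (y₀⁻¹) ^ j * t := by
      intro j
      induction j with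
      | zero => simp
      | succ j ih =>
        calc n ^ (j + 1) * t * (n ^ (j + 1))⁻¹ = n ^ j * (n * t * n⁻¹) * (n ^ j)⁻¹ := by
              rw [pow_succ]; group
          _ = n ^ j * (y₀⁻¹ * t) * (n ^ j)⁻¹ := by rw [hnt]
          _ = (n ^ j * y₀⁻¹) * t * (n ^ j)⁻¹ := by group
          _ = (y₀⁻¹ * n ^ j) * t * (n ^ j)⁻¹ := by
                rw [mem_center_iff.1 ((center G).inv_mem hy₀z) (n ^ j)]
          _ = y₀⁻¹ * (n ^ j * t * (n ^ j)⁻¹) := by group
          _ = y₀⁻¹ * ((y₀⁻¹) ^ j * t) := by rw [ih]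
          _ = _ := by rw [pow_succ']; group
    have hnO : n ^ (r ^ k) ∈ pCore p G := by
      rw [← hπO, map_pow]
      have h2 : πO n = πO b := by
        rw [hn, map_mul, map_inv, (hπO x).2 hx]; group
      rw [h2, ← map_pow, hbk, map_one]
    have hy₀1 : y₀ = 1 := by
      have h2 := hnpow (r ^ k)
      have h3 : (y₀⁻¹) ^ (r ^ k) ∈ pCore p G := by
        have e : (y₀⁻¹) ^ (r ^ k) = n ^ (r ^ k) * (t * (n ^ (r ^ k))⁻¹ * t⁻¹) := by
          have : (y₀⁻¹) ^ (r ^ k) = ((y₀⁻¹) ^ (r ^ k) * t) * t⁻¹ := by group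
          rw [this, ← h2]; group
        rw [e]
        exact (pCore p G).mul_mem hnO (hO.conj_mem _ (inv_mem hnO) t)
      have h4 : (y₀⁻¹) ^ (r ^ k) = 1 := reg_mem_pCore_eq_one h3 (hy₀N.inv.pow _)
      have h5 : y₀ ^ (r ^ k) = 1 := by
        rw [inv_pow, inv_eq_one] at h4
        exact h4
      have h6 : orderOf y₀ = 1 :=
        Nat.Coprime.eq_one_of_dvd (hy₀co.pow_right k) (orderOf_dvd_of_pow_eq_one h5)
      exact orderOf_eq_one_iff.1 h6
    rw [mem_Cn]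
    rw [hy₀1, inv_one, one_mul] at hnt
    calc n * t = n * t * n⁻¹ * n := by group
      _ = t * n := by rw [hnt]
  -- Claim B
  have claimB : ∀ g : G, ∃ x ∈ pCore p G, ∃ d ∈ Cn t, Reg p d ∧ g * a * g⁻¹ = x * d * x⁻¹ := by
    intro g
    obtain ⟨x, hx, n, hnC, hbe⟩ := claimA g
    obtain ⟨n₁, n₂, hnn, hc, ⟨j, hj⟩, hn₂, hn₁z, hn₂z⟩ := Cfsg.Agent.Lib.PResid.exists_decomp (p := p) n
    have hn₁C : n₁ ∈ Cn t := (zpowers_le.2 hnC) hn₁z
    have hn₂C : n₂ ∈ Cn t := (zpowers_le.2 hnC) hn₂z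
    have hbk : (g * a * g⁻¹) ^ (r ^ k) = 1 := by rw [conj_pow, hak]; group
    have hbN : Reg p (g * a * g⁻¹) := haN.conj g
    -- `n₁` lies in `O_p`
    have hπb : πO (g * a * g⁻¹) = πO n₁ * πO n₂ := by
      rw [hbe, hnn, map_mul, map_mul, (hπO x).2 hx, one_mul]
    have hc' : Commute (πO n₁) (πO n₂) := hc.map πO
    have h1 : (πO n₁) ^ (r ^ k) * (πO n₂) ^ (r ^ k) = 1 := by
      rw [← hc'.mul_pow, ← hπb, ← map_pow, hbk, map_one]
    have h2 : ((πO n₁) ^ (r ^ k)) ^ (orderOf n₂) = 1 := by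
      have h3 : (πO n₁) ^ (r ^ k) = ((πO n₂) ^ (r ^ k))⁻¹ := eq_inv_of_mul_eq_one_left h1
      rw [h3, inv_pow, ← pow_mul, mul_comm, pow_mul, ← map_pow, pow_orderOf_eq_one, map_one, one_pow,
        inv_one]
    have h4 : ((πO n₁) ^ (r ^ k)) ^ (p ^ j) = 1 := by
      rw [← pow_mul, mul_comm, pow_mul, ← map_pow, hj, map_one, one_pow]
    have h5 : (πO n₁) ^ (r ^ k) = 1 := by
      have h6 := Nat.dvd_gcd (orderOf_dvd_of_pow_eq_one h2) (orderOf_dvd_of_pow_eq_one h4)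
      have h7 : Nat.gcd (orderOf n₂) (p ^ j) = 1 := hn₂.pow_right j
      rw [h7, Nat.dvd_one, orderOf_eq_one_iff] at h6
      exact h6
    have h6 : πO n₁ = 1 := by
      have h7 : (πO n₁) ^ (p ^ j) = 1 := by rw [← map_pow, hj, map_one]
      have h8 := Nat.dvd_gcd (orderOf_dvd_of_pow_eq_one h5) (orderOf_dvd_of_pow_eq_one h7)
      have h9 : Nat.gcd (r ^ k) (p ^ j) = 1 :=
        Nat.Coprime.pow _ _ ((Nat.coprime_primes hrr hpp).2 hrp)
      rw [h9, Nat.dvd_one, orderOf_eq_one_iff] at h8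
      exact h8
    have hn₁O : n₁ ∈ pCore p G := (hπO n₁).1 h6
    obtain ⟨x₂, hx₂, hx₂e⟩ := conj_of_coset_reg (p := p) (d := n₂) (y := g * a * g⁻¹) hn₂ hbN (by
      rw [hbe, hnn]
      have e : x * (n₁ * n₂) * n₂⁻¹ = x * n₁ := by group
      rw [e]
      exact (pCore p G).mul_mem hx hn₁O)
    exact ⟨x₂, hx₂, n₂, hn₂C, hn₂, hx₂e.symm⟩
  -- Claim C
  have claimC : ∀ g : G, ∃ x ∈ pCore p G, ∀ v ∈ Cn t, (x⁻¹ * g) * v * (x⁻¹ * g)⁻¹ ∈ Cn t := by
    intro g
    obtain ⟨x, hx, d, hdC, hdN, hde⟩ := claimB g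
    refine ⟨x, hx, fun v hv => ?_⟩
    have hdz : d ∉ center G := by
      intro hz
      apply haz
      have h1 : x * d * x⁻¹ ∈ center G := (conj_mem_center_iff (g := x)).2 hz
      rw [← hde] at h1
      exact (conj_mem_center_iff (g := g)).1 h1
    have h1 := conj_mem_Cn (g := g) (hCa ▸ hv : v ∈ Cn a)
    rw [hde] at h1
    have h2 := conj_mem_Cn (g := x⁻¹) h1
    have e1 : x⁻¹ * (x * d * x⁻¹) * x⁻¹⁻¹ = d := by group
    rw [e1, hCu d hdC hdN hdz] at h2
    have e2 : x⁻¹ * (g * v * g⁻¹) * x⁻¹⁻¹ = (x⁻¹ * g) * v * (x⁻¹ * g)⁻¹ := by group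
    rwa [e2] at h2
  -- Claim D
  have claimD : ∀ u : G, Reg p u → ∃ d ∈ Cn t, Reg p d ∧ πO u = πO d := by
    intro u hu
    obtain ⟨g₁, hg₁⟩ := hconj u hu
    obtain ⟨x, hx, hxN⟩ := claimC g₁⁻¹
    refine ⟨_, hxN _ hg₁, ((hu.conj g₁).conj _), ?_⟩
    have e : (x⁻¹ * g₁⁻¹) * (g₁ * u * g₁⁻¹) * (x⁻¹ * g₁⁻¹)⁻¹ = x⁻¹ * (u) * x := by group
    rw [e, map_mul, map_mul, map_inv, (hπO x).2 hx]
    group
  -- conclusion
  apply ha₀z
  apply center_of_sylow h hpp hrp hrm R ha₀R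
  intro y hy
  obtain ⟨ky, hky⟩ := exists_pow_of_isPGroup R.2 hy
  have hyN : Reg p y := reg_of_pow hrr hpp hrp hky
  obtain ⟨d₁, hd₁C, hd₁N, hd₁e⟩ := claimD y hyN
  obtain ⟨d₂, hd₂C, hd₂N, hd₂e⟩ := claimD a₀ ha₀N
  have hd : d₁ * d₂ = d₂ * d₁ := hDcomm d₁ hd₁C hd₁N d₂ hd₂C hd₂N
  have hcomO : y * a₀ * y⁻¹ * a₀⁻¹ ∈ pCore p G := by
    rw [← hπO, map_mul, map_mul, map_mul, map_inv, map_inv, hd₁e, hd₂e]
    have hd' : πO d₁ * πO d₂ = πO d₂ * πO d₁ := by rw [← map_mul, ← map_mul, hd]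
    rw [hd']
    group
  have hcomR : y * a₀ * y⁻¹ * a₀⁻¹ ∈ (R : Subgroup G) :=
    R.1.mul_mem (R.1.mul_mem (R.1.mul_mem hy ha₀R) (R.1.inv_mem hy)) (R.1.inv_mem ha₀R)
  obtain ⟨kc, hkc⟩ := exists_pow_of_isPGroup R.2 hcomR
  have h1 := reg_mem_pCore_eq_one hcomO (reg_of_pow hrr hpp hrp hkc)
  calc y * a₀ = y * a₀ * y⁻¹ * a₀⁻¹ * (a₀ * y) := by group
    _ = a₀ * y := by rw [h1, one_mul]

end Cfsg.Agent.Lib.TwoRegE
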