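import Mathlib
import Cfsg.Agent.Lib.TwoRegB
import Cfsg.Agent.Lib.PCore

/-!
# Groups whose primary elements for primes other than `p`, `r` are central

Then `G = PQ × A` with `A` central.
-/

set_option autoImplicit false
set_option linter.unusedSectionVars false
set_option linter.unusedVariables false
set_option linter.style.haveILetI false

namespace Cfsg.Agent.Lib.TwoRegF

open Subgroup
open Cfsg.Agent.Lib.CoprimeClass (exists_primary_pow_not_mem)
open Cfsg.Agent.Lib.CentTools
open Cfsg.Agent.Lib.TwoRegB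

variable {G : Type*} [Group G] [Finite G]

theorem central_case {p r : ℕ} [Fact p.Prime] [Fact r.Prime] (hrp : r ≠ p)
    (hcen : ∀ s : ℕ, s.Prime → s ≠ p → s ≠ r → ∀ y : G, (∃ k : ℕ, y ^ (s ^ k) = 1) → y ∈ center G) :
    ∃ (P : Sylow p G) (Q : Sylow r G) (A : Subgroup G),
        A ≤ center G ∧ Nat.card ↥((P : Subgroup G) ⊔ (Q : Subgroup G)) = Nat.card P * Nat.card Q ∧
        ((P : Subgroup G) ⊔ (Q : Subgroup G)).Normal ∧
        ((P : Subgroup G) ⊔ (Q : Subgroup G)) ⊓ A = ⊥ ∧ ((P : Subgroup G) ⊔ (Q : Subgroup G)) ⊔ A = ⊤ := by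
  classical
  have hpp : p.Prime := Fact.out
  have hrr : r.Prime := Fact.out
  -- the central part
  let A : Subgroup G :=
    { carrier := {y | y ∈ center G ∧ Reg p y ∧ Reg r y}
      mul_mem' := by
        rintro a b ⟨ha, ha1, ha2⟩ ⟨hb, hb1, hb2⟩
        have hc : Commute a b := (mem_center_iff.1 ha b).symm
        exact ⟨(center G).mul_mem ha hb, Reg.mul hc ha1 hb1, Reg.mul hc ha2 hb2⟩
      one_mem' := ⟨(center G).one_mem, Reg.one, Reg.one⟩
      inv_mem' := by
        rintro a ⟨ha, ha1, ha2⟩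
        exact ⟨(center G).inv_mem ha, ha1.inv, ha2.inv⟩ }
  have hAc : A ≤ center G := fun y hy => hy.1
  have hAall : ∀ y : G, Reg p y → Reg r y → y ∈ A := by
    intro y hy1 hy2
    refine ⟨?_, hy1, hy2⟩
    by_contra hz
    obtain ⟨e, s, i, hs, hsi, hnot⟩ := exists_primary_pow_not_mem (center G) y hz
    have hne : ∀ q : ℕ, Reg q y → s ≠ q := by
      rintro q hq rfl
      have h1 : orderOf (y ^ e) ∣ s ^ i := orderOf_dvd_of_pow_eq_one hsi
      have h3 : orderOf (y ^ e) = 1 := Nat.Coprime.eq_one_of_dvd ((hq.pow e).pow_right i) h1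
      rw [orderOf_eq_one_iff] at h3
      exact hnot (h3 ▸ (center G).one_mem)
    exact hnot (hcen s hs (hne p hy1) (hne r hy2) _ ⟨i, hsi⟩)
  haveI hAn : A.Normal := by
    constructor
    intro a ha g
    have : g * a * g⁻¹ = a := by rw [mem_center_iff.1 (hAc ha) g]; group
    rwa [this]
  -- primes dividing the order of `A`
  have hAprime : ∀ q : ℕ, q.Prime → q ∣ Nat.card A → q ≠ p ∧ q ≠ r := by
    intro q hq hd
    haveI : Fact q.Prime := ⟨hq⟩
    obtain ⟨x, hx⟩ := exists_prime_orderOf_dvd_card' (G := A) q hd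
    have hx' : orderOf (x : G) = q := by rw [Subgroup.orderOf_coe, hx]
    have h2 := x.2
    constructor
    · rintro rfl
      have := h2.2.1
      unfold Reg at this
      rw [hx'] at this
      exact hq.one_lt.ne' (by simpa using this)
    · rintro rfl
      have := h2.2.2
      unfold Reg at this
      rw [hx'] at this
      exact hq.one_lt.ne' (by simpa using this)
  have hSyl : ∀ q : ℕ, [Fact q.Prime] → q ≠ p → q ≠ r → ∀ S : Sylow q G, (S : Subgroup G) ≤ A := by
    intro q _ hqp hqr S x hx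
    obtain ⟨k, hk⟩ := exists_pow_of_isPGroup S.2 hx
    exact hAall x (reg_of_pow Fact.out hpp hqp hk) (reg_of_pow Fact.out hrr hqr hk)
  have hco : Nat.Coprime (Nat.card A) A.index := by
    by_contra hn
    obtain ⟨q, hq, hd1, hd2⟩ := Nat.Prime.not_coprime_iff_dvd.1 hn
    haveI : Fact q.Prime := ⟨hq⟩
    obtain ⟨hqp, hqr⟩ := hAprime q hq hd1
    let S : Sylow q G := default
    exact S.not_dvd_index (hd2.trans (index_dvd_of_le (hSyl q hqp hqr S)))
  obtain ⟨K, hK⟩ := exists_right_complement'_of_coprime hco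
  have hKtop : A ⊔ K = ⊤ := hK.sup_eq_top
  have hKbot : A ⊓ K = ⊥ := hK.disjoint.eq_bot
  have hKidx : K.index = Nat.card A := hK.index_eq_card
  -- `K` is normal
  haveI hKn : K.Normal := by
    constructor
    intro k hk g
    have hg : g ∈ A ⊔ K := by rw [hKtop]; trivial
    rw [mem_sup_of_normal_left] at hg
    obtain ⟨a, ha, k', hk', rfl⟩ := hg
    have h1 : a * k' * k * (a * k')⁻¹ = k' * k * k'⁻¹ := by
      have h2 := mem_center_iff.1 (hAc ha) (k' * k * k'⁻¹)
      calc a * k' * k * (a * k')⁻¹ = a * (k' * k * k'⁻¹) * a⁻¹ := by group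
        _ = (k' * k * k'⁻¹) * a * a⁻¹ := by rw [← h2]
        _ = _ := by group
    rw [h1]
    exact K.mul_mem (K.mul_mem hk' hk) (K.inv_mem hk')
  have hKprime : ∀ q : ℕ, q.Prime → q ∣ K.index → q ≠ p ∧ q ≠ r := by
    intro q hq hd
    rw [hKidx] at hd
    exact hAprime q hq hd
  have hnotp : (K.index).Coprime p := by
    rw [Nat.coprime_comm, Nat.Prime.coprime_iff_not_dvd hpp]
    intro hd
    exact (hKprime p hpp hd).1 rfl
  have hnotr : (K.index).Coprime r := by
    rw [Nat.coprime_comm, Nat.Prime.coprime_iff_not_dvd hrr]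
    intro hd
    exact (hKprime r hrr hd).2 rfl
  have hsylK : ∀ {q : ℕ} [Fact q.Prime], (K.index).Coprime q → ∀ S : Sylow q G, (S : Subgroup G) ≤ K := by
    intro q _ hq S y hy
    obtain ⟨k, hk⟩ := exists_pow_of_isPGroup S.2 hy
    have h1 : (K.index).Coprime (orderOf y) :=
      Nat.Coprime.coprime_dvd_right (orderOf_dvd_of_pow_eq_one hk) (hq.pow_right k)
    obtain ⟨l, hl⟩ := exists_pow_eq_self_of_coprime h1
    rw [← hl]
    exact K.pow_mem (pow_index_mem K y) l
  let P : Sylow p G := default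
  let Q : Sylow r G := default
  have hPK := hsylK hnotp P
  have hQK := hsylK hnotr Q
  have hXK : (P : Subgroup G) ⊔ (Q : Subgroup G) ≤ K := sup_le hPK hQK
  -- `X ⊔ A = ⊤`
  have hXA : ((P : Subgroup G) ⊔ (Q : Subgroup G)) ⊔ A = ⊤ := by
    apply Cfsg.Agent.Lib.PCore.eq_top_of_forall_sylow_le
    intro q _
    by_cases hqp : q = p
    · subst hqp
      exact ⟨P, le_sup_left.trans le_sup_left⟩
    by_cases hqr : q = r
    · subst hqr
      exact ⟨Q, le_sup_right.trans le_sup_left⟩
    exact ⟨default, (hSyl q hqp hqr default).trans le_sup_right⟩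
  have hXeq : (P : Subgroup G) ⊔ (Q : Subgroup G) = K := by
    apply le_antisymm hXK
    intro k hk
    have h1 : k ∈ ((P : Subgroup G) ⊔ (Q : Subgroup G)) ⊔ A := by rw [hXA]; trivial
    rw [mem_sup_of_normal_right] at h1
    obtain ⟨x, hx, a, ha, rfl⟩ := h1
    have h2 : a ∈ A ⊓ K := by
      refine ⟨ha, ?_⟩
      have h3 := K.mul_mem (K.inv_mem (hXK hx)) hk
      simpa using h3
    rw [hKbot, mem_bot] at h2
    rw [h2, mul_one]
    exact hx
  refine ⟨P, Q, A, hAc, ?_, ?_, ?_, hXA⟩
  · -- the order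
    rw [hXeq]
    apply Nat.dvd_antisymm
    · obtain ⟨i, c, hc, hci⟩ := Nat.exists_eq_pow_mul_and_not_dvd (Nat.card_pos (α := K)).ne' p hpp.ne_one
      have hc0 : c ≠ 0 := by
        rintro rfl
        simp at hc
      obtain ⟨j, d, hd, hdj⟩ := Nat.exists_eq_pow_mul_and_not_dvd hc0 r hrr.ne_one
      have hd1 : d = 1 := by
        by_contra hne
        obtain ⟨q, hq, hqd⟩ := Nat.exists_prime_and_dvd hne
        have hqc : q ∣ c := hdj ▸ Dvd.dvd.mul_left hqd _
        have hqK : q ∣ Nat.card K := hci ▸ Dvd.dvd.mul_left hqc _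
        have hqp : q ≠ p := by
          rintro rfl
          exact hc hqc
        have hqr : q ≠ r := by
          rintro rfl
          exact hd hqd
        haveI : Fact q.Prime := ⟨hq⟩
        obtain ⟨x, hx⟩ := exists_prime_orderOf_dvd_card' (G := K) q hqK
        have hx' : (x : G) ^ (q ^ 1) = 1 := by
          rw [pow_one, ← Subgroup.orderOf_coe] at *
          rw [← hx, pow_orderOf_eq_one]
        have hxA : (x : G) ∈ A := hAall _ (reg_of_pow hq hpp hqp hx') (reg_of_pow hq hrr hqr hx')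
        have h1 : (x : G) ∈ A ⊓ K := ⟨hxA, x.2⟩
        rw [hKbot, mem_bot] at h1
        have h2 : x = 1 := Subtype.ext h1
        rw [h2, orderOf_one] at hx
        exact hq.one_lt.ne hx
      have hKc : Nat.card K = p ^ i * r ^ j := by
        rw [hci, hdj, hd1, mul_one]
      rw [hKc]
      apply mul_dvd_mul
      · apply P.pow_dvd_card_of_pow_dvd_card
        refine Dvd.dvd.trans ?_ (card_subgroup_dvd_card K)
        rw [hKc]
        exact Dvd.intro _ rfl
      · apply Q.pow_dvd_card_of_pow_dvd_card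
        refine Dvd.dvd.trans ?_ (card_subgroup_dvd_card K)
        rw [hKc]
        exact Dvd.intro_left _ rfl
    · apply Nat.Coprime.mul_dvd_of_dvd_of_dvd
      · exact IsPGroup.coprime_card_of_ne p r hrp.symm (P : Subgroup G) (Q : Subgroup G) P.2 Q.2
      · exact card_dvd_of_le hPK
      · exact card_dvd_of_le hQK
  · rw [hXeq]; exact hKn
  · rw [hXeq, inf_comm]; exact hKbot

end Cfsg.Agent.Lib.TwoRegF
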