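import Mathlib
import Cfsg.Agent.Lib.FourB
import Cfsg.Agent.Lib.TwoRegD
import Cfsg.Agent.S4033
import Cfsg.Agent.S4034

/-!
# Class sizes `1, n, m, nm`: `n` and `m` are prime powers

Let `y` be an `s`-element of class size `m`.  The `s`-regular classes of `C(y)` have sizes `1` and `n`.
-/

set_option autoImplicit false
set_option linter.unusedSectionVars false
set_option linter.unusedVariables false
set_option linter.style.haveILetI false

namespace Cfsg.Agent.Lib.FourC

open Subgroup
open Cfsg (pCore)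
open Cfsg.Agent.Lib.CoprimeClass
open Cfsg.Agent.Lib.CentTools
open Cfsg.Agent.Lib.PCore (le_pCore isPGroup_pCore pCore_le_sylow)
open Cfsg.Agent.Lib.FourA
open Cfsg.Agent.Lib.FourB

variable {G : Type*} [Group G] [Finite G]

/-- The class size in the centralizer. -/
theorem relIdx_eq (y : G) (g : Cn y) :
    (centralizer ({g} : Set (Cn y))).index = (Cn (g : G)).relIndex (Cn y) := by
  have : centralizer ({g} : Set (Cn y)) = (Cn (g : G)).subgroupOf (Cn y) := by
    ext a
    rw [mem_subgroupOf, mem_cent, mem_cent]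
    constructor
    · intro h
      exact congrArg Subtype.val h
    · intro h
      exact Subtype.ext h
  rw [this]
  rfl

theorem relIdx_mul (y g : G) : (Cn g).relIndex (Cn y) * cs y = (Cn g ⊓ Cn y).index := by
  have h1 := relIndex_mul_index (inf_le_right : Cn g ⊓ Cn y ≤ Cn y)
  rw [inf_relIndex_right] at h1
  exact h1

theorem index_inf_of_coprime {A B : Subgroup G} (h : A.index.Coprime B.index) :
    (A ⊓ B).index = A.index * B.index := by
  apply Nat.dvd_antisymm
  · have h1 := index_inf_le (H := A) (K := B)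
    have h2 : A.index ∣ (A ⊓ B).index := index_dvd_of_le inf_le_left
    have h3 : B.index ∣ (A ⊓ B).index := index_dvd_of_le inf_le_right
    have h4 := Nat.Coprime.mul_dvd_of_dvd_of_dvd h h2 h3
    have h5 := Nat.le_of_dvd (Nat.pos_of_ne_zero index_ne_zero_of_finite) h4
    have h6 : (A ⊓ B).index = A.index * B.index := le_antisymm h1 h5
    rw [h6]
  · exact Nat.Coprime.mul_dvd_of_dvd_of_dvd h (index_dvd_of_le inf_le_left)
      (index_dvd_of_le inf_le_right)

section Main

variable {n m : ℕ} (h : Hyp n m G)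
include h

/-- In `C(y)`, an element of class size `n` has class size `n`. -/
theorem relIdx_of_cs_n {y x : G} (hy : cs y = m) (hx : cs x = n) : (Cn x).relIndex (Cn y) = n := by
  have h1 := relIdx_mul y x
  have hco : (Cn x).index.Coprime (Cn y).index := by
    rw [show (Cn x).index = n from hx, show (Cn y).index = m from hy]
    exact h.cop
  rw [index_inf_of_coprime hco, show (Cn x).index = n from hx, show (Cn y).index = m from hy, hy] at h1
  have hm : 0 < m := by have := h.hm; omega
  exact Nat.eq_of_mul_eq_mul_right hm h1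

/-- In `C(y)`, class sizes of elements of order prime to `y`. -/
theorem relIdx_of_coprime {y g : G} (hy : cs y = m) (hg : Commute g y)
    (hco : (orderOf g).Coprime (orderOf y)) :
    (Cn g).relIndex (Cn y) = 1 ∨ (Cn g).relIndex (Cn y) = n := by
  have h1 := relIdx_mul y g
  rw [← Cn_mul hg hco, hy] at h1
  have h2 : m ∣ cs (g * y) := by
    have : m ∣ (Cn (g * y)).index := Dvd.intro_left _ h1
    exact this
  have hm : 0 < m := by have := h.hm; omega
  rcases cs_of_m_dvd h h2 with h3 | h3
  · left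
    rw [show (Cn (g * y)).index = m from h3] at h1
    exact Nat.eq_of_mul_eq_mul_right hm (by rw [h1, one_mul])
  · right
    rw [show (Cn (g * y)).index = n * m from h3] at h1
    exact Nat.eq_of_mul_eq_mul_right hm h1

theorem factor_lemma {s : ℕ} [hs : Fact s.Prime] {y : G} {j : ℕ} (hy : y ^ (s ^ j) = 1)
    (hcsy : cs y = m) :
    (∃ a, n = s ^ a) ∨ ∃ t : ℕ, t.Prime ∧ t ≠ s ∧ (∀ ℓ : ℕ, ℓ.Prime → ℓ ∣ n → ℓ = s ∨ ℓ = t) ∧
      ∀ q : ℕ, q.Prime → q ≠ s → q ≠ t → ∀ (e : Cn y) (l : ℕ), e ^ (q ^ l) = 1 → e ∈ center (Cn y) := by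
  classical
  have hss : s.Prime := hs.out
  let E := Cn y
  have hvals : ∀ g : E, (orderOf g).Coprime s →
      (Cn (g : G)).relIndex (Cn y) = 1 ∨ (Cn (g : G)).relIndex (Cn y) = n := by
    intro g hg
    apply relIdx_of_coprime h hcsy (mem_Cn.1 g.2)
    rw [Subgroup.orderOf_coe] at *
    exact Nat.Coprime.coprime_dvd_right (orderOf_dvd_of_pow_eq_one hy) (hg.pow_right j)
  have hcard : ∀ g : E, (ConjClasses.mk g).carrier.ncard = (Cn (g : G)).relIndex (Cn y) := by
    intro g
    rw [Cfsg.Agent.S4034.class_card_eq, relIdx_eq]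
  obtain ⟨x, hx⟩ := h.exn
  have hxE : x ∈ Cn y := mem_Cn.2 (comm_XY h hx hcsy)
  have hxn : (Cn x).relIndex (Cn y) = n := relIdx_of_cs_n h hcsy hx
  have hn1 : n ≠ 1 := ne_one_n h
  by_cases hreg : ∃ g : E, (orderOf g).Coprime s ∧ (Cn (g : G)).relIndex (Cn y) = n
  · obtain ⟨g₀, hg₀, hg₀n⟩ := hreg
    have hrange : (Set.range fun x : {x : E // (orderOf x).Coprime s} =>
        (ConjClasses.mk (x : E)).carrier.ncard) = {1, n} := by
      ext c
      simp only [Set.mem_range, Set.mem_insert_iff, Set.mem_singleton_iff]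
      constructor
      · rintro ⟨⟨g, hg⟩, rfl⟩
        rw [hcard]
        exact hvals g hg
      · rintro (rfl | rfl)
        · refine ⟨⟨1, by rw [orderOf_one]; exact Nat.coprime_one_left s⟩, ?_⟩
          rw [hcard]
          have : (Cn ((1 : E) : G)) = ⊤ := by
            rw [eq_top_iff]
            intro a _
            rw [mem_Cn]
            simp
          rw [this]
          exact relIndex_top_left _
        · exact ⟨⟨g₀, hg₀⟩, by rw [hcard]; exact hg₀n⟩
    have h2 : Set.ncard (Set.range fun x : {x : E // (orderOf x).Coprime s} =>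
        (ConjClasses.mk (x : E)).carrier.ncard) = 2 := by
      rw [hrange]
      exact Set.ncard_pair (Ne.symm hn1)
    rcases Cfsg.Agent.S4033.result hss h2 with hab | ⟨t, ht, P, Q, A, htne, hAc, hcardK, hKn, hbot, htop⟩
    · left
      obtain ⟨k, hk⟩ := (Cfsg.Agent.S4034.result hss).2 hab g₀ hg₀
      rw [hcard, hg₀n] at hk
      exact ⟨k, hk⟩
    · right
      obtain ⟨K, hK⟩ : ∃ K, K = (P : Subgroup E) ⊔ (Q : Subgroup E) := ⟨_, rfl⟩
      rw [← hK] at hcardK hKn hbot htop
      haveI hKn' : K.Normal := hKn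
      obtain ⟨i, hi⟩ := IsPGroup.iff_card.1 P.2
      obtain ⟨i', hi'⟩ := IsPGroup.iff_card.1 Q.2
      have hKcard : Nat.card K = s ^ i * t ^ i' := by rw [hcardK, hi, hi']
      have htt : t.Prime := ht.out
      refine ⟨t, htt, htne, ?_, ?_⟩
      · intro ℓ hℓ hℓn
        -- the class size divides `|K|`
        let H : Subgroup E := centralizer ({g₀} : Set E)
        have hAH : A ≤ H := by
          intro c hc
          exact mem_cent.2 (mem_center_iff.1 (hAc hc) g₀).symm
        have hsup : H ⊔ K = ⊤ := by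
          rw [eq_top_iff, ← htop]
          exact sup_le le_sup_right (hAH.trans le_sup_left)
        have hidx := index_eq_relIndex_mul H K
        rw [hsup, index_top, mul_one] at hidx
        have h3 : H.index = n := by
          show (centralizer ({g₀} : Set E)).index = n
          rw [relIdx_eq, hg₀n]
        have h4 : n ∣ s ^ i * t ^ i' := by
          rw [← hKcard, ← h3, hidx]
          exact relIndex_dvd_card _ _
        rcases (Nat.Prime.dvd_mul hℓ).1 (hℓn.trans h4) with h5 | h5
        · exact Or.inl ((Nat.prime_dvd_prime_iff_eq hℓ hss).1 (hℓ.dvd_of_dvd_pow h5))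
        · exact Or.inr ((Nat.prime_dvd_prime_iff_eq hℓ htt).1 (hℓ.dvd_of_dvd_pow h5))
      · intro q hq hqs hqt e l he
        have hmem : e ∈ K ⊔ A := by rw [htop]; trivial
        rw [mem_sup_of_normal_left] at hmem
        obtain ⟨k, hk, c, hc, rfl⟩ := hmem
        have hcc : Commute k c := mem_center_iff.1 (hAc hc) k
        have h3 : k ^ (q ^ l) = (c ^ (q ^ l))⁻¹ := by
          rw [hcc.mul_pow] at he
          exact eq_inv_of_mul_eq_one_left he
        have h4 : k ^ (q ^ l) ∈ K ⊓ A :=
          ⟨K.pow_mem hk _, by rw [h3]; exact A.inv_mem (A.pow_mem hc _)⟩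
        rw [hbot, mem_bot] at h4
        have h5 : k ^ (Nat.card K) = 1 := by
          have := pow_card_eq_one' (G := K) (x := ⟨k, hk⟩)
          exact congrArg Subtype.val this
        have h6 := Nat.dvd_gcd (orderOf_dvd_of_pow_eq_one h4) (orderOf_dvd_of_pow_eq_one h5)
        have h7 : Nat.gcd (q ^ l) (Nat.card K) = 1 := by
          rw [hKcard]
          apply Nat.Coprime.mul_right
          · exact Nat.Coprime.pow _ _ ((Nat.coprime_primes hq hss).2 hqs)
          · exact Nat.Coprime.pow _ _ ((Nat.coprime_primes hq htt).2 hqt)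
        rw [h7, Nat.dvd_one, orderOf_eq_one_iff] at h6
        rw [h6, one_mul]
        exact hAc hc
  · left
    push Not at hreg
    -- all `s`-regular elements are central in `E`
    have hcen : ∀ g : E, (orderOf g).Coprime s → g ∈ center E := by
      intro g hg
      rcases hvals g hg with h1 | h1
      · have h2 := relIndex_eq_one.1 h1
        rw [mem_center_iff]
        intro a
        exact Subtype.ext (mem_Cn.1 (h2 a.2))
      · exact absurd h1 (hreg g hg)
    have hp : IsPGroup s (E ⧸ center E) := by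
      intro z
      induction z using QuotientGroup.induction_on with | _ u => ?_
      obtain ⟨a, b, hab, -, ⟨k, hk⟩, hb, -, -⟩ := Cfsg.Agent.Lib.PResid.exists_decomp (p := s) u
      refine ⟨k, ?_⟩
      rw [hab, QuotientGroup.mk_mul_of_mem _ (hcen b hb), ← QuotientGroup.mk_pow, hk]
      rfl
    obtain ⟨k, hk⟩ := IsPGroup.iff_card.1 hp
    have hidx : (center E).index = s ^ k := by
      rw [index_eq_card]
      exact hk
    have hle : center E ≤ centralizer ({(⟨x, hxE⟩ : E)} : Set E) := by
      intro c hc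
      exact mem_cent.2 (mem_center_iff.1 hc _).symm
    have h1 : (centralizer ({(⟨x, hxE⟩ : E)} : Set E)).index ∣ s ^ k := hidx ▸ index_dvd_of_le hle
    rw [relIdx_eq] at h1
    have h2 : n ∣ s ^ k := hxn ▸ h1
    obtain ⟨a, -, ha⟩ := (Nat.dvd_prime_pow hss).1 h2
    exact ⟨a, ha⟩

/-- The case `s ∤ n`. -/
theorem good_case {s : ℕ} [hs : Fact s.Prime] {y : G} {j : ℕ} (hy : y ^ (s ^ j) = 1)
    (hcsy : cs y = m) (hsn : ¬ s ∣ n) : ∃ t a : ℕ, t.Prime ∧ n = t ^ a := by
  have hn1 : n ≠ 1 := ne_one_n h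
  rcases factor_lemma h hy hcsy with ⟨a, ha⟩ | ⟨t, ht, -, hfac, -⟩
  · exfalso
    apply hsn
    rcases Nat.eq_zero_or_pos a with rfl | ha0
    · rw [pow_zero] at ha
      exact absurd ha hn1
    · rw [ha]
      exact dvd_pow_self s ha0.ne'
  · refine ⟨t, n.primeFactorsList.length, ht, ?_⟩
    have hn0 : n ≠ 0 := by have := h.hn; omega
    apply Nat.eq_prime_pow_of_unique_prime_dvd hn0
    intro d hd hdn
    rcases hfac d hd hdn with rfl | h1
    · exact absurd hdn hsn
    · exact h1

/-- The case `s ∣ n`. -/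
theorem bad_case {s : ℕ} [hs : Fact s.Prime] {y : G} {j : ℕ} (hy : y ^ (s ^ j) = 1)
    (hcsy : cs y = m) (hsn : s ∣ n) : ∃ a : ℕ, n = s ^ a := by
  classical
  have hn0 : n ≠ 0 := by have := h.hn; omega
  have hnpos : 0 < n := Nat.pos_of_ne_zero hn0
  have hmpos : 0 < m := by have := h.hm; omega
  rcases factor_lemma h hy hcsy with ha | ⟨t, ht, hts, hfac, hcent⟩
  · exact ha
  by_cases htn : t ∣ n
  · exfalso
    obtain ⟨q, hq, hqm⟩ := Nat.exists_prime_and_dvd (ne_one_m h)
    haveI : Fact q.Prime := ⟨hq⟩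
    have hcop : ∀ ℓ : ℕ, ℓ.Prime → ℓ ∣ n → q ≠ ℓ := by
      rintro ℓ hℓ hℓn rfl
      have h1 := Nat.dvd_gcd hℓn hqm
      rw [h.cop] at h1
      exact hℓ.one_lt.ne' (Nat.dvd_one.1 h1)
    have hqs : q ≠ s := hcop s Fact.out hsn
    have hqt : q ≠ t := hcop t ht htn
    have hqn : ¬ q ∣ n := by
      intro hd
      exact hcop q hq hd rfl
    -- all `q`-elements of `C(y)` are central in `G`
    have hc : ∀ (v : G) (k : ℕ), v ^ (q ^ k) = 1 → Commute v y → v ∈ center G := by
      intro v k hv hvy
      by_contra hvz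
      have h1 : (⟨v, mem_Cn.2 hvy⟩ : Cn y) ∈ center (Cn y) :=
        hcent q hq hqs hqt _ k (Subtype.ext hv)
      have hle : Cn y ≤ Cn v := by
        intro g hg
        have h2 := mem_center_iff.1 h1 ⟨g, hg⟩
        exact mem_Cn.2 (congrArg Subtype.val h2)
      have h3 : cs v ∣ m := hcsy ▸ cs_dvd_of_Cn_le hle
      have h4 := cs_of_dvd_m_noncentral h h3 hvz
      obtain ⟨r, a, hr, hra⟩ := good_case h hv h4 hqn
      have h5 : s ∣ r ^ a := hra ▸ hsn
      have h6 : t ∣ r ^ a := hra ▸ htn
      have h7 := (Nat.prime_dvd_prime_iff_eq Fact.out hr).1 ((Fact.out : s.Prime).dvd_of_dvd_pow h5)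
      have h8 := (Nat.prime_dvd_prime_iff_eq ht hr).1 (ht.dvd_of_dvd_pow h6)
      exact hts (h8.trans h7.symm)
    obtain ⟨T₀, hT₀p, hT₀c, hT₀⟩ := exists_T0 (s := q) y hc
    have hT₀n : T₀.Normal := by
      constructor
      intro x hx g
      have : g * x * g⁻¹ = x := by rw [mem_center_iff.1 (hT₀c hx) g]; group
      rwa [this]
    have hLnc := Cfsg.Agent.Lib.TwoRegD.sylow_not_central (t := y) hcsy hqm (default : Sylow q G)
    obtain ⟨g, hgL, hgz⟩ := Set.not_subset.1 hLnc
    obtain ⟨k, hk⟩ := exists_pow_of_isPGroup (default : Sylow q G).2 hgL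
    have hcsg : cs g = n := by
      by_contra hne
      have hcs : cs g = m ∨ cs g = m * n := by
        rcases h.vals g with h1 | h1 | h1 | h1
        · exact absurd (cs_eq_one_iff.1 h1) hgz
        · exact absurd h1 hne
        · exact Or.inl h1
        · exact Or.inr (by rw [h1, mul_comm])
      let T : Subgroup G := zpowers g ⊔ T₀
      have hTp : IsPGroup q T := IsPGroup.to_sup_of_normal_right (isPGroup_zpowers hk) hT₀p
      have hTC : T ≤ Cn g := by
        apply sup_le
        · exact zpowers_le.2 (mem_Cn_self g)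
        · intro x hx
          exact mem_Cn.2 (mem_center_iff.1 (hT₀c hx) g).symm
      have hT := hT₀ T hTp ((card_dvd_of_le hTC).trans (card_Cn_dvd hcsy hmpos hcs))
      have heq : T₀ = T := eq_of_le_of_card_ge le_sup_right hT
      have hgT : g ∈ T := mem_sup_left (mem_zpowers g)
      rw [← heq] at hgT
      exact hgz (hT₀c hgT)
    exact hgz (hc g k hk (comm_XY h hcsg hcsy))
  · refine ⟨n.primeFactorsList.length, ?_⟩
    apply Nat.eq_prime_pow_of_unique_prime_dvd hn0
    intro d hd hdn
    rcases hfac d hd hdn with h1 | rfl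
    · exact h1
    · exact absurd hdn htn

/-- `n` is a prime power. -/
theorem exists_prime_pow : ∃ p a : ℕ, p.Prime ∧ n = p ^ a := by
  obtain ⟨y, hy⟩ := h.exm
  obtain ⟨e, s, i, hs, hi, hcs⟩ := exists_primary_of_cs h.symm hy
  haveI : Fact s.Prime := ⟨hs⟩
  by_cases hsn : s ∣ n
  · obtain ⟨a, ha⟩ := bad_case h hi hcs hsn
    exact ⟨s, a, hs, ha⟩
  · exact good_case h hi hcs hsn

end Main

end Cfsg.Agent.Lib.FourC
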