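import Mathlib
import Cfsg.Agent.Lib.FourC
import Cfsg.Agent.Lib.Glauberman

/-!
# Class sizes `1, p^a, q^b, p^a q^b`: the centralizer of a `p`-element of size `p^a`

The centralizer of a `p`-element `x` of class size `n = p^a` has a normal Sylow `q`-subgroup, and
it commutes with the `p`-elements of `C(x)` (`key_lemma`).

If there are `p`-elements of class size `n` and no `q`-element of class size `n`, then all the
`q`-elements lie in `O_q(G)` (`q_normal`).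
-/

set_option autoImplicit false
set_option linter.unusedSectionVars false
set_option linter.unusedVariables false
set_option linter.style.haveILetI false

namespace Cfsg.Agent.Lib.FourD

open Subgroup
open Cfsg (pCore)
open Cfsg.Agent.Lib.CoprimeClass
open Cfsg.Agent.Lib.CentTools
open Cfsg.Agent.Lib.PCore (le_pCore isPGroup_pCore pCore_le_sylow)
open Cfsg.Agent.Lib.FourA
open Cfsg.Agent.Lib.FourB
open Cfsg.Agent.Lib.FourC

variable {G : Type*} [Group G] [Finite G]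

/-- Elements of order a power of another prime are central. -/
theorem other_central {n m p q a b : ℕ} (h : Hyp n m G) (hn : n = p ^ a) (hm : m = q ^ b)
    {ℓ : ℕ} [Fact ℓ.Prime] (hp : p.Prime) (hq : q.Prime) (hℓp : ℓ ≠ p) (hℓq : ℓ ≠ q) (x : G) {k : ℕ}
    (hx : x ^ (ℓ ^ k) = 1) : x ∈ center G := by
  have hℓ : ℓ.Prime := Fact.out
  have hnd : ¬ ℓ ∣ n := by
    rw [hn]
    intro hd
    exact hℓp ((Nat.prime_dvd_prime_iff_eq hℓ hp).1 (hℓ.dvd_of_dvd_pow hd))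
  have hmd : ¬ ℓ ∣ m := by
    rw [hm]
    intro hd
    exact hℓq ((Nat.prime_dvd_prime_iff_eq hℓ hq).1 (hℓ.dvd_of_dvd_pow hd))
  have hcs : ∀ g : G, ¬ ℓ ∣ cs g := by
    intro g hd
    rcases h.vals g with h1 | h1 | h1 | h1 <;> rw [h1] at hd
    · exact hℓ.one_lt.ne' (Nat.dvd_one.1 hd)
    · exact hnd hd
    · exact hmd hd
    · rcases (Nat.Prime.dvd_mul hℓ).1 hd with h2 | h2
      · exact hnd h2
      · exact hmd h2
  let L : Sylow ℓ G := default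
  let M : Subgroup G := centralizer ((L : Subgroup G) : Set G)
  have hM : M = ⊤ := by
    apply eq_top_of_conj_cover
    intro g
    obtain ⟨P₁, hP₁⟩ := Cfsg.Agent.Lib.QBaerA.exists_sylow_le (q := ℓ) (Cn g) (hcs g)
    obtain ⟨t, ht⟩ := MulAction.exists_smul_eq G P₁ L
    refine ⟨t, ?_⟩
    rw [mem_centralizer_iff]
    intro u hu
    have hu' : u ∈ ((t • P₁ : Sylow ℓ G) : Subgroup G) := by rw [ht]; exact hu
    rw [Sylow.smul_def, Sylow.pointwise_smul_def] at hu'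
    have h1 : t⁻¹ * u * t ∈ (P₁ : Subgroup G) := Cfsg.Agent.Lib.PCore.mem_conj_smul_iff.1 hu'
    have h2 : (t⁻¹ * u * t) * g = g * (t⁻¹ * u * t) := mem_Cn.1 (hP₁ h1)
    calc u * (t * g * t⁻¹) = t * ((t⁻¹ * u * t) * g) * t⁻¹ := by group
      _ = t * (g * (t⁻¹ * u * t)) * t⁻¹ := by rw [h2]
      _ = _ := by group
  obtain ⟨c, hc⟩ := exists_conj_mem_of_not_dvd (L : Subgroup G) L.not_dvd_index hx
  have h3 : ∀ g : G, g ∈ M := fun g => by rw [hM]; trivial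
  have h4 : c⁻¹ * x * c ∈ center G := by
    rw [mem_center_iff]
    intro g
    have := (mem_centralizer_iff.1 (h3 g)) _ hc
    exact this.symm
  have h5 := (conj_mem_center_iff (x := x) (g := c⁻¹))
  rw [inv_inv] at h5
  exact h5.1 h4

/-- A decomposition of elements of a group. -/
theorem decomp_of_sylow {F : Type*} [Group F] [Finite F] {p q : ℕ} [Fact p.Prime] [Fact q.Prime]
    (Q₁ : Subgroup F) [Q₁.Normal] (hQ : ∀ (t : F) (k : ℕ), t ^ (q ^ k) = 1 → t ∈ Q₁)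
    (hℓ : ∀ (ℓ : ℕ) [Fact ℓ.Prime], ℓ ≠ p → ℓ ≠ q → ∀ (t : F) (k : ℕ), t ^ (ℓ ^ k) = 1 → t ∈ center F)
    (S : Sylow p F) (f : F) : ∃ τ ∈ Q₁, ∃ s ∈ (S : Subgroup F), ∃ c ∈ center F, f = τ * s * c := by
  have hM : (Q₁ ⊔ (S : Subgroup F)) ⊔ center F = ⊤ := by
    apply Cfsg.Agent.Lib.PCore.eq_top_of_forall_sylow_le
    intro ℓ _
    by_cases hp : ℓ = p
    · subst hp
      exact ⟨S, le_sup_right.trans le_sup_left⟩
    by_cases hq : ℓ = q
    · subst hq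
      refine ⟨default, ?_⟩
      intro x hx
      obtain ⟨k, hk⟩ := exists_pow_of_isPGroup (default : Sylow ℓ F).2 hx
      exact mem_sup_left (mem_sup_left (hQ x k hk))
    · refine ⟨default, ?_⟩
      intro x hx
      obtain ⟨k, hk⟩ := exists_pow_of_isPGroup (default : Sylow ℓ F).2 hx
      exact mem_sup_right (hℓ ℓ hp hq x k hk)
  have hf : f ∈ (Q₁ ⊔ (S : Subgroup F)) ⊔ center F := by rw [hM]; trivial
  rw [mem_sup_of_normal_right] at hf
  obtain ⟨k, hk, c, hc, rfl⟩ := hf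
  rw [mem_sup_of_normal_left] at hk
  obtain ⟨τ, hτ, s, hs, rfl⟩ := hk
  exact ⟨τ, hτ, s, hs, c, hc, rfl⟩

/-- If a normal `q`-subgroup contains all `q`-elements and each of its elements commutes with a Sylow
`p`-subgroup, then it commutes with all `p`-elements. -/
theorem comm_of_union {F : Type*} [Group F] [Finite F] {p q : ℕ} [Fact p.Prime] [Fact q.Prime]
    (Q₁ : Subgroup F) [hQ₁ : Q₁.Normal] (hQ : ∀ (t : F) (k : ℕ), t ^ (q ^ k) = 1 → t ∈ Q₁)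
    (hℓ : ∀ (ℓ : ℕ) [Fact ℓ.Prime], ℓ ≠ p → ℓ ≠ q → ∀ (t : F) (k : ℕ), t ^ (ℓ ^ k) = 1 → t ∈ center F)
    (hC : ∀ t ∈ Q₁, ∃ P₁ : Sylow p F, ∀ u ∈ (P₁ : Subgroup F), Commute u t)
    {u v : F} {k l : ℕ} (hu : u ^ (p ^ k) = 1) (hv : v ∈ Q₁) : Commute u v := by
  classical
  let S : Sylow p F := default
  let X : Subgroup F := centralizer ((S : Subgroup F) : Set F)
  have hX : X.subgroupOf Q₁ = ⊤ := by
    apply eq_top_of_conj_cover
    rintro ⟨t, ht⟩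
    obtain ⟨P₁, hP₁⟩ := hC t ht
    obtain ⟨f, hf⟩ := MulAction.exists_smul_eq F S P₁
    obtain ⟨τ, hτ, s, hs, c, hc, hfe⟩ := decomp_of_sylow Q₁ hQ hℓ S f
    refine ⟨⟨τ⁻¹, Q₁.inv_mem hτ⟩, ?_⟩
    rw [mem_subgroupOf, mem_centralizer_iff]
    intro w hw
    -- `τ w τ⁻¹ ∈ P₁`
    have hmem : τ * w * τ⁻¹ ∈ (P₁ : Subgroup F) := by
      rw [← hf, Sylow.smul_def, Sylow.pointwise_smul_def, Cfsg.Agent.Lib.PCore.mem_conj_smul_iff]
      have hcc := mem_center_iff.1 hc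
      have e : f⁻¹ * (τ * w * τ⁻¹) * f = s⁻¹ * w * s := by
        rw [hfe]
        calc (τ * s * c)⁻¹ * (τ * w * τ⁻¹) * (τ * s * c) = c⁻¹ * (s⁻¹ * w * s) * c := by group
          _ = (s⁻¹ * w * s) := by
            have := hcc (s⁻¹ * w * s)
            calc c⁻¹ * (s⁻¹ * w * s) * c = c⁻¹ * ((s⁻¹ * w * s) * c) := by group
              _ = c⁻¹ * (c * (s⁻¹ * w * s)) := by rw [this]
              _ = _ := by group
      rw [e]
      exact (S : Subgroup F).mul_mem ((S : Subgroup F).mul_mem ((S : Subgroup F).inv_mem hs) hw) hs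
    have h1 : (τ * w * τ⁻¹) * t = t * (τ * w * τ⁻¹) := hP₁ _ hmem
    show w * (((⟨τ⁻¹, Q₁.inv_mem hτ⟩ : Q₁) * ⟨t, ht⟩ * (⟨τ⁻¹, Q₁.inv_mem hτ⟩ : Q₁)⁻¹ : Q₁) : F)
      = (((⟨τ⁻¹, Q₁.inv_mem hτ⟩ : Q₁) * ⟨t, ht⟩ * (⟨τ⁻¹, Q₁.inv_mem hτ⟩ : Q₁)⁻¹ : Q₁) : F) * w
    simp only [Subgroup.coe_mul, InvMemClass.coe_inv]
    calc w * (τ⁻¹ * t * τ⁻¹⁻¹) = τ⁻¹ * ((τ * w * τ⁻¹) * t) * τ := by group
      _ = τ⁻¹ * (t * (τ * w * τ⁻¹)) * τ := by rw [h1]
      _ = _ := by group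
  have hQX : ∀ t ∈ Q₁, t ∈ X := by
    intro t ht
    have : (⟨t, ht⟩ : Q₁) ∈ X.subgroupOf Q₁ := by rw [hX]; trivial
    exact mem_subgroupOf.1 this
  -- move `u` into `S`
  obtain ⟨f, hf⟩ := exists_conj_mem_of_not_dvd (S : Subgroup F) S.not_dvd_index hu
  have h2 : f⁻¹ * v * f ∈ Q₁ := by
    have := hQ₁.conj_mem v hv f⁻¹
    rwa [inv_inv] at this
  have h3 := mem_centralizer_iff.1 (hQX _ h2) _ hf
  show u * v = v * u
  have h4 : (f⁻¹ * u * f) * (f⁻¹ * v * f) = (f⁻¹ * v * f) * (f⁻¹ * u * f) := h3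
  calc u * v = f * ((f⁻¹ * u * f) * (f⁻¹ * v * f)) * f⁻¹ := by group
    _ = f * ((f⁻¹ * v * f) * (f⁻¹ * u * f)) * f⁻¹ := by rw [h4]
    _ = _ := by group

section Main

variable {n m p q a b : ℕ} [hpf : Fact p.Prime] [hqf : Fact q.Prime] (h : Hyp n m G) (hn : n = p ^ a)
  (hm : m = q ^ b) (hpq : p ≠ q)
include h hn hm hpq

theorem m_not_dvd_p : ¬ p ∣ m := by
  rw [hm]
  intro hd
  exact hpq ((Nat.prime_dvd_prime_iff_eq hpf.out hqf.out).1 (hpf.out.dvd_of_dvd_pow hd))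

theorem n_not_dvd_q : ¬ q ∣ n := by
  rw [hn]
  intro hd
  exact hpq.symm ((Nat.prime_dvd_prime_iff_eq hqf.out hpf.out).1 (hqf.out.dvd_of_dvd_pow hd))

/-- The structure of the centralizer of a `p`-element of class size `n`. -/
theorem key_lemma {x : G} {i : ℕ} (hx : x ^ (p ^ i) = 1) (hcs : cs x = n) :
    (∀ (t : Cn x) (k : ℕ), t ^ (q ^ k) = 1 → t ∈ pCore q (Cn x)) ∧
    ∀ u ∈ Cn x, ∀ v ∈ Cn x, ∀ k l : ℕ, u ^ (p ^ k) = 1 → v ^ (q ^ l) = 1 → Commute u v := by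
  classical
  have hpp : p.Prime := hpf.out
  have hqq : q.Prime := hqf.out
  -- class sizes of `q`-elements
  have hsize : ∀ (t : Cn x) (k : ℕ), t ^ (q ^ k) = 1 →
      (centralizer ({t} : Set (Cn x))).index = 1 ∨ (centralizer ({t} : Set (Cn x))).index = m := by
    intro t k ht
    rw [relIdx_eq]
    apply relIdx_of_coprime h.symm hcs (mem_Cn.1 t.2)
    have ht' : (t : G) ^ (q ^ k) = 1 := by exact_mod_cast congrArg Subtype.val ht
    exact coprime_orders hqq hpp hpq.symm ht' hx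
  have h1 : ∀ (t : Cn x) (k : ℕ), t ^ (q ^ k) = 1 → t ∈ pCore q (Cn x) := by
    intro t k ht
    apply Cfsg.Agent.Lib.QBaerA.mem_pCore_of_pow
    · obtain ⟨j, -, hj⟩ := (Nat.dvd_prime_pow hqq).1 (orderOf_dvd_of_pow_eq_one ht)
      exact ⟨j, hj⟩
    · rcases hsize t k ht with h2 | h2
      · exact ⟨0, by rw [pow_zero]; exact h2⟩
      · exact ⟨b, by rw [← hm]; exact h2⟩
  refine ⟨h1, ?_⟩
  intro u hu v hv k l huk hvl
  have hu' : (⟨u, hu⟩ : Cn x) ^ (p ^ k) = 1 := Subtype.ext huk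
  have hv' : (⟨v, hv⟩ : Cn x) ^ (q ^ l) = 1 := Subtype.ext hvl
  have hc : Commute (⟨u, hu⟩ : Cn x) ⟨v, hv⟩ := by
    apply comm_of_union (p := p) (q := q) (pCore q (Cn x)) h1 (k := k) (l := l) ?_ ?_ hu' (h1 _ l hv')
    · intro ℓ _ hℓp hℓq t k' ht
      have h2 : (t : G) ∈ center G :=
        other_central h hn hm hpp hqq hℓp hℓq (t : G) (k := k') (by exact_mod_cast congrArg Subtype.val ht)
      rw [mem_center_iff]
      intro g
      exact Subtype.ext (mem_center_iff.1 h2 g)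
    · intro t ht
      obtain ⟨k', hk'⟩ := exists_pow_of_isPGroup (isPGroup_pCore (G := Cn x) q) ht
      have hnd : ¬ p ∣ (centralizer ({t} : Set (Cn x))).index := by
        rcases hsize t k' hk' with h2 | h2 <;> rw [h2]
        · intro hd
          exact hpp.one_lt.ne' (Nat.dvd_one.1 hd)
        · exact m_not_dvd_p h hn hm hpq
      obtain ⟨P₁, hP₁⟩ := Cfsg.Agent.Lib.QBaerA.exists_sylow_le (q := p) _ hnd
      refine ⟨P₁, fun w hw => ?_⟩
      exact mem_cent.1 (hP₁ hw)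
  exact congrArg Subtype.val hc

/-- `p`-elements of `C(x)`, `x` of size `n`, and Sylow `q`-subgroups: existence in `C(x)`. -/
theorem exists_sylow_of_cs_n {x : G} (hcs : cs x = n) : ∃ Q₁ : Sylow q G, (Q₁ : Subgroup G) ≤ Cn x :=
  Cfsg.Agent.Lib.QBaerA.exists_sylow_le (q := q) (Cn x)
    (by rw [show (Cn x).index = n from hcs]; exact n_not_dvd_q h hn hm hpq)

/-- If `x` of class size `n` is a `p`-element, no `p`-element has class size `m`. -/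
theorem mixed {x y : G} {i j : ℕ} (hx : x ^ (p ^ i) = 1) (hcsx : cs x = n) (hy : y ^ (p ^ j) = 1)
    (hcsy : cs y = m) : False := by
  obtain ⟨-, h2⟩ := key_lemma h hn hm hpq hx hcsx
  have hyC : y ∈ Cn x := mem_Cn.2 (comm_XY h hcsx hcsy).symm
  obtain ⟨Q₁, hQ₁⟩ := exists_sylow_of_cs_n h hn hm hpq hcsx
  have hle : (Q₁ : Subgroup G) ≤ Cn y := by
    intro v hv
    obtain ⟨l, hl⟩ := exists_pow_of_isPGroup Q₁.2 hv
    exact mem_Cn.2 (h2 y hyC v (hQ₁ hv) j l hy hl).symm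
  have h3 : cs y ∣ (Q₁ : Subgroup G).index := index_dvd_of_le hle
  rw [hcsy] at h3
  obtain ⟨r, hr, hrm⟩ := Nat.exists_prime_and_dvd (ne_one_m h)
  have hrq : r = q := by
    rw [hm] at hrm
    exact (Nat.prime_dvd_prime_iff_eq hr hqf.out).1 (hr.dvd_of_dvd_pow hrm)
  subst hrq
  exact Q₁.not_dvd_index (hrm.trans h3)

/-- If all `q`-elements commute with a `p`-element of size `n`, they lie in `O_q(G)`. -/
theorem all_in_core {x : G} {i : ℕ} (hx : x ^ (p ^ i) = 1) (hcs : cs x = n)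
    (hall : ∀ (t : G) (k : ℕ), t ^ (q ^ k) = 1 → Commute t x) (t : G) {k : ℕ} (ht : t ^ (q ^ k) = 1) :
    t ∈ pCore q G := by
  obtain ⟨h1, -⟩ := key_lemma h hn hm hpq hx hcs
  let R : Subgroup G := (pCore q (Cn x)).map (Cn x).subtype
  have hRp : IsPGroup q R := (isPGroup_pCore (G := Cn x) q).map _
  have hmem : ∀ (w : G) (l : ℕ), w ^ (q ^ l) = 1 → w ∈ R := by
    intro w l hw
    have hwC : w ∈ Cn x := mem_Cn.2 (hall w l hw)
    exact ⟨⟨w, hwC⟩, h1 ⟨w, hwC⟩ l (Subtype.ext hw), rfl⟩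
  have hRn : R.Normal := by
    constructor
    intro r hr g
    obtain ⟨l, hl⟩ := exists_pow_of_isPGroup hRp hr
    apply hmem _ l
    rw [conj_pow, hl]
    group
  exact le_pCore hRn hRp (hmem t k ht)

/-- **The Sylow `q`-subgroup is normal**, if `x` is a `p`-element of size `n` and no `q`-element has
size `n`. -/
theorem q_normal {x₀ : G} {i₀ : ℕ} (hx₀ : x₀ ^ (p ^ i₀) = 1) (hcsx₀ : cs x₀ = n)
    (hno : ∀ (t : G) (k : ℕ), t ^ (q ^ k) = 1 → cs t ≠ n) (t : G) {k : ℕ} (ht : t ^ (q ^ k) = 1) :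
    t ∈ pCore q G := by
  classical
  have hpp : p.Prime := hpf.out
  have hqq : q.Prime := hqf.out
  by_contra hnot
  -- an element of size `nm`
  obtain ⟨h₀, k₀, hh₀, hcsh₀⟩ : ∃ (h₀ : G) (k₀ : ℕ), h₀ ^ (q ^ k₀) = 1 ∧ cs h₀ = n * m := by
    by_contra hcon
    push Not at hcon
    apply hnot
    apply Cfsg.Agent.Lib.QBaerA.mem_pCore_of_pow
    · obtain ⟨j, -, hj⟩ := (Nat.dvd_prime_pow hqq).1 (orderOf_dvd_of_pow_eq_one ht)
      exact ⟨j, hj⟩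
    · rcases h.vals t with h1 | h1 | h1 | h1
      · exact ⟨0, by rw [pow_zero]; exact h1⟩
      · exact absurd h1 (hno t k ht)
      · exact ⟨b, by rw [← hm]; exact h1⟩
      · exact absurd h1 (hcon t k ht)
  obtain ⟨Q₁, hQ₁⟩ := (isPGroup_zpowers hh₀).exists_le_sylow
  have hh₀Q : h₀ ∈ (Q₁ : Subgroup G) := hQ₁ (mem_zpowers h₀)
  -- a conjugate of `x₀`
  obtain ⟨Q₂, hQ₂⟩ := exists_sylow_of_cs_n h hn hm hpq hcsx₀
  obtain ⟨g₁, hg₁⟩ := MulAction.exists_smul_eq G Q₂ Q₁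
  have hmemQ₁ : ∀ u ∈ (Q₁ : Subgroup G), g₁⁻¹ * u * g₁ ∈ (Q₂ : Subgroup G) := by
    intro u hu
    rw [← hg₁, Sylow.smul_def, Sylow.pointwise_smul_def] at hu
    exact Cfsg.Agent.Lib.PCore.mem_conj_smul_iff.1 hu
  obtain ⟨x₁, hx₁def⟩ : ∃ x₁, x₁ = g₁ * x₀ * g₁⁻¹ := ⟨_, rfl⟩
  have hx₁ : x₁ ^ (p ^ i₀) = 1 := by rw [hx₁def, conj_pow, hx₀]; group
  have hcsx₁ : cs x₁ = n := by rw [hx₁def, cs_conj]; exact hcsx₀
  have hx₁Q : ∀ u ∈ (Q₁ : Subgroup G), Commute u x₁ := by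
    intro u hu
    have h1 : (g₁⁻¹ * u * g₁) * x₀ = x₀ * (g₁⁻¹ * u * g₁) := mem_Cn.1 (hQ₂ (hmemQ₁ u hu))
    show u * x₁ = x₁ * u
    rw [hx₁def]
    calc u * (g₁ * x₀ * g₁⁻¹) = g₁ * ((g₁⁻¹ * u * g₁) * x₀) * g₁⁻¹ := by group
      _ = g₁ * (x₀ * (g₁⁻¹ * u * g₁)) * g₁⁻¹ := by rw [h1]
      _ = _ := by group
  have hcsn : ∀ (u : G) (k : ℕ), u ^ (p ^ k) = 1 → cs u = n → u ∈ pCore p G := by
    intro u k hu hcs
    apply Cfsg.Agent.Lib.QBaerA.mem_pCore_of_pow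
    · obtain ⟨j, -, hj⟩ := (Nat.dvd_prime_pow hpp).1 (orderOf_dvd_of_pow_eq_one hu)
      exact ⟨j, hj⟩
    · exact ⟨a, by rw [← hn]; exact hcs⟩
  haveI hVn : (pCore p G).Normal := inferInstance
  let V : Subgroup G := pCore p G
  have hVp : IsPGroup p V := isPGroup_pCore (G := G) p
  have hx₁V : x₁ ∈ V := hcsn x₁ _ hx₁ hcsx₁
  let Vt : Subgroup G := V ⊓ centralizer ((Q₁ : Subgroup G) : Set G)
  have hmemVt : ∀ u, u ∈ Vt ↔ u ∈ V ∧ ∀ w ∈ (Q₁ : Subgroup G), Commute w u := by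
    intro u
    constructor
    · rintro ⟨h1, h2⟩
      exact ⟨h1, fun w hw => (mem_centralizer_iff.1 h2 w hw)⟩
    · rintro ⟨h1, h2⟩
      exact ⟨h1, mem_centralizer_iff.2 (fun w hw => h2 w hw)⟩
  have hx₁Vt : x₁ ∈ Vt := (hmemVt x₁).2 ⟨hx₁V, hx₁Q⟩
  have hmpos : 0 < m := by have := h.hm; omega
  have hnpos : 0 < n := by have := h.hn; omega
  -- (A1) `p`-elements of `C(h₀)` are central in `C(h₀)`
  have hA1 : ∀ (g : G) (l : ℕ), g ^ (p ^ l) = 1 → g ∈ Cn h₀ → Cn h₀ ≤ Cn g := by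
    intro g l hg hgC
    have hco := coprime_orders hpp hqq hpq hg hh₀
    have hC := Cn_mul (mem_Cn.1 hgC) hco
    have h1 : n * m ∣ cs (g * h₀) := by
      rw [← hcsh₀]
      exact cs_dvd_of_Cn_le (by rw [hC]; exact inf_le_right)
    have h2 : cs (g * h₀) = n * m := by
      rcases h.vals (g * h₀) with h3 | h3 | h3 | h3 <;> rw [h3] at h1 ⊢
      · exact absurd (Nat.le_of_dvd one_pos h1) (by have := lt_nm_n h; have := h.hn; omega)
      · exact absurd (Nat.le_of_dvd hnpos h1) (by have := lt_nm_n h; omega)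
      · exact absurd (Nat.le_of_dvd hmpos h1) (by have := lt_nm_m h; omega)
    have h3 : Cn (g * h₀) = Cn h₀ := Cn_eq_of_le (by rw [hC]; exact inf_le_right) (h2.trans hcsh₀.symm)
    rw [← h3, hC]
    exact inf_le_left
  -- (A2) `Vt` is abelian
  have hVtC : ∀ u ∈ Vt, u ∈ Cn h₀ := by
    intro u hu
    exact mem_Cn.2 (((hmemVt u).1 hu).2 h₀ hh₀Q).symm
  have hA2 : ∀ u ∈ Vt, ∀ v ∈ Vt, Commute u v := by
    intro u hu v hv
    obtain ⟨l, hl⟩ := exists_pow_of_isPGroup hVp hv.1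
    exact mem_Cn.1 (hA1 v l hl (hVtC v hv) (hVtC u hu))
  -- (A3)
  have hA3 : ∀ u ∈ Vt, u ∉ center G → ∀ τ ∈ V, Commute τ u → τ ∈ Vt := by
    intro u hu huz τ hτ hc
    obtain ⟨l, hl⟩ := exists_pow_of_isPGroup hVp hu.1
    obtain ⟨l', hl'⟩ := exists_pow_of_isPGroup hVp hτ
    have hcsu : cs u = n := by
      have h1 : (Q₁ : Subgroup G) ≤ Cn u := fun w hw => mem_Cn.2 (((hmemVt u).1 hu).2 w hw)
      have h2 : cs u ∣ (Q₁ : Subgroup G).index := index_dvd_of_le h1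
      rcases h.vals u with h3 | h3 | h3 | h3
      · exact absurd (cs_eq_one_iff.1 h3) huz
      · exact h3
      · exfalso
        rw [h3] at h2
        obtain ⟨r, hr, hrm⟩ := Nat.exists_prime_and_dvd (ne_one_m h)
        have hrq : r = q := by
          rw [hm] at hrm
          exact (Nat.prime_dvd_prime_iff_eq hr hqq).1 (hr.dvd_of_dvd_pow hrm)
        subst hrq
        exact Q₁.not_dvd_index (hrm.trans h2)
      · exfalso
        rw [h3] at h2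
        obtain ⟨r, hr, hrm⟩ := Nat.exists_prime_and_dvd (ne_one_m h)
        have hrq : r = q := by
          rw [hm] at hrm
          exact (Nat.prime_dvd_prime_iff_eq hr hqq).1 (hr.dvd_of_dvd_pow hrm)
        subst hrq
        exact Q₁.not_dvd_index ((hrm.trans (Dvd.intro_left n rfl)).trans h2)
    obtain ⟨-, h2⟩ := key_lemma h hn hm hpq hl hcsu
    refine (hmemVt τ).2 ⟨hτ, fun w hw => ?_⟩
    obtain ⟨l₂, hl₂⟩ := exists_pow_of_isPGroup Q₁.2 hw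
    exact (h2 τ (mem_Cn.2 hc) w (mem_Cn.2 (((hmemVt u).1 hu).2 w hw)) l' l₂ hl' hl₂).symm
  have hx₁z : x₁ ∉ center G := by
    intro hz
    have := cs_eq_one_iff.2 hz
    rw [hcsx₁] at this
    exact ne_one_n h this
  -- conjugates of `x₁` all lie in `V`; all conjugates of `Q₁` commute with them
  have hZV : ∀ z ∈ V, (∀ τ ∈ V, Commute z τ) → z ∈ center G := by
    intro z hz hzc
    by_contra hzz
    obtain ⟨l, hl⟩ := exists_pow_of_isPGroup hVp hz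
    -- `z` commutes with all `q`-elements
    have hq : ∀ (w : G) (l₂ : ℕ), w ^ (q ^ l₂) = 1 → Commute w z := by
      intro w l₂ hw
      obtain ⟨g, hg⟩ := exists_conj_mem_of_not_dvd (Q₁ : Subgroup G) Q₁.not_dvd_index hw
      -- conjugate by `g`
      have h1 : g * x₁ * g⁻¹ ∈ V := hVn.conj_mem x₁ hx₁V g
      have hcs1 : cs (g * x₁ * g⁻¹) = n := by rw [cs_conj]; exact hcsx₁
      have hk1 : (g * x₁ * g⁻¹) ^ (p ^ i₀) = 1 := by rw [conj_pow, hx₁]; group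
      obtain ⟨-, h2⟩ := key_lemma h hn hm hpq hk1 hcs1
      have hw1 : Commute (g⁻¹ * w * g) x₁ := hx₁Q _ hg
      have hwC : w ∈ Cn (g * x₁ * g⁻¹) := by
        rw [mem_Cn]
        have h5 : (g⁻¹ * w * g) * x₁ = x₁ * (g⁻¹ * w * g) := hw1
        calc w * (g * x₁ * g⁻¹) = g * ((g⁻¹ * w * g) * x₁) * g⁻¹ := by group
          _ = g * (x₁ * (g⁻¹ * w * g)) * g⁻¹ := by rw [h5]
          _ = _ := by group
      exact (h2 z (mem_Cn.2 (hzc _ h1)) w hwC l l₂ hl hw).symm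
    -- so it has size `n`
    have hcsz : cs z = n := by
      have h1 : (Q₁ : Subgroup G) ≤ Cn z := fun w hw => by
        obtain ⟨l₂, hl₂⟩ := exists_pow_of_isPGroup Q₁.2 hw
        exact mem_Cn.2 (hq w l₂ hl₂)
      have h2 : cs z ∣ (Q₁ : Subgroup G).index := index_dvd_of_le h1
      obtain ⟨r, hr, hrm⟩ := Nat.exists_prime_and_dvd (ne_one_m h)
      have hrq : r = q := by
        rw [hm] at hrm
        exact (Nat.prime_dvd_prime_iff_eq hr hqq).1 (hr.dvd_of_dvd_pow hrm)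
      subst hrq
      rcases h.vals z with h3 | h3 | h3 | h3
      · exact absurd (cs_eq_one_iff.1 h3) hzz
      · exact h3
      · rw [h3] at h2
        exact absurd (hrm.trans h2) Q₁.not_dvd_index
      · rw [h3] at h2
        exact absurd ((hrm.trans (Dvd.intro_left n rfl)).trans h2) Q₁.not_dvd_index
    exact hnot (all_in_core h hn hm hpq hl hcsz hq t ht)
  -- the second centre
  obtain ⟨w₁, hw₁V, -, hw₁z, hw₁s⟩ := exists_special V (⊤ : Subgroup G) (center G) hVp x₁ hx₁V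
    (mem_top _) hx₁z
  let π := QuotientGroup.mk' (center G)
  let Z₂ : Subgroup G := V ⊓ (centralizer ((V.map π : Subgroup (G ⧸ center G)) : Set (G ⧸ center G))).comap π
  have hmemZ₂ : ∀ w, w ∈ Z₂ ↔ w ∈ V ∧ ∀ τ ∈ V, τ * w * τ⁻¹ * w⁻¹ ∈ center G := by
    intro w
    constructor
    · rintro ⟨h1, h2⟩
      refine ⟨h1, fun τ hτ => ?_⟩
      have h3 := mem_centralizer_iff.1 (Subgroup.mem_comap.1 h2) (π τ) ⟨τ, hτ, rfl⟩
      rw [← QuotientGroup.eq_one_iff]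
      show π (τ * w * τ⁻¹ * w⁻¹) = 1
      simp only [map_mul, map_inv]
      rw [h3]
      group
    · rintro ⟨h1, h2⟩
      refine ⟨h1, Subgroup.mem_comap.2 ?_⟩
      rw [mem_centralizer_iff]
      rintro _ ⟨τ, hτ, rfl⟩
      have h3 := (QuotientGroup.eq_one_iff _).2 (h2 τ hτ)
      have h4 : π (τ * w * τ⁻¹ * w⁻¹) = 1 := h3
      simp only [map_mul, map_inv] at h4
      have h5 : π τ * π w * (π τ)⁻¹ = π w := mul_inv_eq_one.1 h4
      show π τ * π w = π w * π τ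
      calc π τ * π w = (π τ * π w * (π τ)⁻¹) * π τ := by group
        _ = π w * π τ := by rw [h5]
  have hw₁Z₂ : w₁ ∈ Z₂ := (hmemZ₂ w₁).2 ⟨hw₁V, hw₁s⟩
  haveI hZ₂n : Z₂.Normal := Subgroup.normal_inf_normal _ _ |> fun h => by
    exact h
  have hZ₂V : Z₂ ≤ V := inf_le_left
  -- (A7) `Vt` centralizes `Z₂`
  have hA7 : ∀ g ∈ Vt, ∀ w ∈ Z₂, Commute w g := by
    intro g hg
    have hgV : g ∈ V := hg.1
    -- the commutator map
    have hc : ∀ w ∈ Z₂, w * g * w⁻¹ * g⁻¹ ∈ center G := by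
      intro w hw
      have h1 := ((hmemZ₂ w).1 hw).2 g hgV
      have h2 := (center G).inv_mem h1
      have e : (g * w * g⁻¹ * w⁻¹)⁻¹ = w * g * w⁻¹ * g⁻¹ := by group
      rwa [e] at h2
    have hcop : (Nat.card (Q₁ : Subgroup G)).Coprime (Nat.card Z₂) :=
      IsPGroup.coprime_card_of_ne q p hpq.symm _ _ Q₁.2 (hVp.to_le hZ₂V)
    have hsolv : Group.IsSolvable Z₂ := by
      haveI : Group.IsNilpotent Z₂ := (hVp.to_le hZ₂V).isNilpotent
      infer_instance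
    have hAK : (Q₁ : Subgroup G) ≤ normalizer (Z₂ : Set G) := by
      rw [normalizer_eq_top Z₂]; exact le_top
    have hdec := Cfsg.Agent.Lib.Glauberman.commutator_sup_inf_centralizer hAK hcop (Or.inr hsolv)
    have hle1 : ⁅Z₂, (Q₁ : Subgroup G)⁆ ≤ Cn g := by
      rw [commutator_le]
      intro k hk v hv
      -- `c (k v k⁻¹ v⁻¹) = 1`
      have hgv : v * g = g * v := ((hmemVt g).1 hg).2 v hv
      have hk' : v * k⁻¹ * v⁻¹ ∈ Z₂ := hZ₂n.conj_mem _ (Z₂.inv_mem hk) v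
      have hc1 := hc k hk
      have hc2 := hc k⁻¹ (Z₂.inv_mem hk)
      obtain ⟨ζ, hζ⟩ : ∃ ζ, ζ = k * g * k⁻¹ * g⁻¹ := ⟨_, rfl⟩
      rw [← hζ] at hc1
      have e1 : k * g * k⁻¹ = ζ * g := by rw [hζ]; group
      have hkinv : k⁻¹ * g * k = ζ⁻¹ * g := by
        have e2 : g = k⁻¹ * (ζ * g) * k := by
          rw [← e1]; group
        have hcz := mem_center_iff.1 hc1
        calc k⁻¹ * g * k = k⁻¹ * (ζ⁻¹ * ζ * g) * k := by group
          _ = k⁻¹ * (ζ⁻¹ * (ζ * g)) * k := by group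
          _ = ζ⁻¹ * (k⁻¹ * (ζ * g) * k) := by
            have h3 := mem_center_iff.1 ((center G).inv_mem hc1) k⁻¹
            calc k⁻¹ * (ζ⁻¹ * (ζ * g)) * k = (k⁻¹ * ζ⁻¹) * (ζ * g) * k := by group
              _ = (ζ⁻¹ * k⁻¹) * (ζ * g) * k := by rw [h3]
              _ = _ := by group
          _ = ζ⁻¹ * g := by rw [← e2]
      rw [mem_Cn, commutatorElement_def]
      -- compute
      have hvinv : v⁻¹ * g = g * v⁻¹ := by
        calc v⁻¹ * g = v⁻¹ * (g * v) * v⁻¹ := by group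
          _ = v⁻¹ * (v * g) * v⁻¹ := by rw [hgv]
          _ = _ := by group
      have e3 : (v * k⁻¹ * v⁻¹) * g * (v * k⁻¹ * v⁻¹)⁻¹ = v * (k⁻¹ * g * k) * v⁻¹ := by
        calc (v * k⁻¹ * v⁻¹) * g * (v * k⁻¹ * v⁻¹)⁻¹ = v * k⁻¹ * (v⁻¹ * g) * v * k * v⁻¹ := by group
          _ = v * k⁻¹ * (g * v⁻¹) * v * k * v⁻¹ := by rw [hvinv]
          _ = _ := by group
      have e4 : v * (k⁻¹ * g * k) * v⁻¹ = ζ⁻¹ * g := by
        rw [hkinv]
        have h3 := mem_center_iff.1 ((center G).inv_mem hc1) v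
        calc v * (ζ⁻¹ * g) * v⁻¹ = (v * ζ⁻¹) * g * v⁻¹ := by group
          _ = (ζ⁻¹ * v) * g * v⁻¹ := by rw [h3]
          _ = ζ⁻¹ * (v * g) * v⁻¹ := by group
          _ = ζ⁻¹ * (g * v) * v⁻¹ := by rw [hgv]
          _ = _ := by group
      have e5 : (k * (v * k⁻¹ * v⁻¹)) * g * (k * (v * k⁻¹ * v⁻¹))⁻¹ = g := by
        calc (k * (v * k⁻¹ * v⁻¹)) * g * (k * (v * k⁻¹ * v⁻¹))⁻¹
            = k * ((v * k⁻¹ * v⁻¹) * g * (v * k⁻¹ * v⁻¹)⁻¹) * k⁻¹ := by group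
          _ = k * (ζ⁻¹ * g) * k⁻¹ := by rw [e3, e4]
          _ = (k * ζ⁻¹) * g * k⁻¹ := by group
          _ = (ζ⁻¹ * k) * g * k⁻¹ := by rw [mem_center_iff.1 ((center G).inv_mem hc1) k]
          _ = ζ⁻¹ * (k * g * k⁻¹) := by group
          _ = ζ⁻¹ * (ζ * g) := by rw [e1]
          _ = g := by group
      have e6 : k * v * k⁻¹ * v⁻¹ = k * (v * k⁻¹ * v⁻¹) := by group
      rw [e6]
      calc (k * (v * k⁻¹ * v⁻¹)) * g
          = ((k * (v * k⁻¹ * v⁻¹)) * g * (k * (v * k⁻¹ * v⁻¹))⁻¹) * (k * (v * k⁻¹ * v⁻¹)) := by group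
        _ = g * (k * (v * k⁻¹ * v⁻¹)) := by rw [e5]
    have hle2 : Z₂ ⊓ centralizer ((Q₁ : Subgroup G) : Set G) ≤ Cn g := by
      rintro u ⟨hu1, hu2⟩
      have huVt : u ∈ Vt := ⟨hZ₂V hu1, hu2⟩
      exact mem_Cn.2 (hA2 u huVt g hg)
    intro w hw
    have hw' : w ∈ ⁅Z₂, (Q₁ : Subgroup G)⁆ ⊔ (Z₂ ⊓ centralizer ((Q₁ : Subgroup G) : Set G)) := by
      rw [hdec]; exact hw
    exact mem_Cn.1 ((sup_le hle1 hle2) hw')
  -- (A8)
  have hw₁Vt : w₁ ∈ Vt := hA3 x₁ hx₁Vt hx₁z w₁ hw₁V (hA7 x₁ hx₁Vt w₁ hw₁Z₂)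
  -- (A9) `V` commutes with `Q₁`
  have hA9 : ∀ τ ∈ V, ∀ v ∈ (Q₁ : Subgroup G), Commute τ v := by
    intro τ hτ v hv
    obtain ⟨ζ, hζ⟩ : ∃ ζ, ζ = τ * w₁ * τ⁻¹ * w₁⁻¹ := ⟨_, rfl⟩
    have hζc : ζ ∈ center G := hζ ▸ hw₁s τ hτ
    have hw₁v : v * w₁ = w₁ * v := ((hmemVt w₁).1 hw₁Vt).2 v hv
    obtain ⟨c, hc⟩ : ∃ c, c = τ * v * τ⁻¹ * v⁻¹ := ⟨_, rfl⟩
    have hcV : c ∈ V := by
      rw [hc]
      have e : τ * v * τ⁻¹ * v⁻¹ = τ * (v * τ⁻¹ * v⁻¹) := by group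
      rw [e]
      exact V.mul_mem hτ (hVn.conj_mem _ (V.inv_mem hτ) v)
    -- `w₁` commutes with `c`
    have hw₁τ : w₁ * τ * w₁⁻¹ = ζ⁻¹ * τ := by
      rw [hζ]; group
    have hcw : Commute c w₁ := by
      have h1 : w₁ * c * w₁⁻¹ = c := by
        have hv' : w₁ * v * w₁⁻¹ = v := by
          calc w₁ * v * w₁⁻¹ = (v * w₁) * w₁⁻¹ := by rw [hw₁v]
            _ = v := by group
        have e1 : w₁ * c * w₁⁻¹ = (w₁ * τ * w₁⁻¹) * (w₁ * v * w₁⁻¹) * (w₁ * τ * w₁⁻¹)⁻¹ * (w₁ * v * w₁⁻¹)⁻¹ := by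
          rw [hc]; group
        rw [e1, hw₁τ, hv', hc]
        have hζ1 := mem_center_iff.1 ((center G).inv_mem hζc) v
        calc ζ⁻¹ * τ * v * (ζ⁻¹ * τ)⁻¹ * v⁻¹ = ζ⁻¹ * τ * v * τ⁻¹ * ζ * v⁻¹ := by group
          _ = ζ⁻¹ * (τ * v * τ⁻¹) * ζ * v⁻¹ := by group
          _ = (τ * v * τ⁻¹) * ζ⁻¹ * ζ * v⁻¹ := by
            rw [← mem_center_iff.1 ((center G).inv_mem hζc) (τ * v * τ⁻¹)]
          _ = _ := by group
      show c * w₁ = w₁ * c
      calc c * w₁ = (w₁ * c * w₁⁻¹) * w₁ := by rw [h1]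
        _ = w₁ * c := by group
    have hcVt : c ∈ Vt := hA3 w₁ hw₁Vt hw₁z c hcV hcw
    have hcv : v * c = c * v := ((hmemVt c).1 hcVt).2 v hv
    -- `c` is trivial
    have hvτ : v * τ * v⁻¹ = c⁻¹ * τ := by
      rw [hc]; group
    have hpow : ∀ j : ℕ, v ^ j * τ * (v ^ j)⁻¹ = (c⁻¹) ^ j * τ := by
      intro j
      induction j with
      | zero => simp
      | succ j ih =>
        have hcomm : v ^ j * c⁻¹ = c⁻¹ * v ^ j := by
          have h1 : Commute v c := hcv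
          exact (h1.inv_right).pow_left j
        calc v ^ (j + 1) * τ * (v ^ (j + 1))⁻¹ = v ^ j * (v * τ * v⁻¹) * (v ^ j)⁻¹ := by
              rw [pow_succ]; group
          _ = v ^ j * (c⁻¹ * τ) * (v ^ j)⁻¹ := by rw [hvτ]
          _ = (v ^ j * c⁻¹) * τ * (v ^ j)⁻¹ := by group
          _ = (c⁻¹ * v ^ j) * τ * (v ^ j)⁻¹ := by rw [hcomm]
          _ = c⁻¹ * (v ^ j * τ * (v ^ j)⁻¹) := by group
          _ = c⁻¹ * ((c⁻¹) ^ j * τ) := by rw [ih]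
          _ = _ := by rw [pow_succ']; group
    obtain ⟨l, hl⟩ := exists_pow_of_isPGroup Q₁.2 hv
    obtain ⟨l', hl'⟩ := exists_pow_of_isPGroup hVp hcV
    have h1 := hpow (q ^ l)
    rw [hl] at h1
    have h2 : (c⁻¹) ^ (q ^ l) = 1 := by
      have : (1 : G) * τ * (1 : G)⁻¹ = (c⁻¹) ^ (q ^ l) * τ := h1
      have h3 : τ = (c⁻¹) ^ (q ^ l) * τ := by simpa using this
      have h4 : (1 : G) * τ = (c⁻¹) ^ (q ^ l) * τ := by rw [one_mul]; exact h3
      exact (mul_right_cancel h4).symm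
    have h3 : c ^ (q ^ l) = 1 := by
      rw [inv_pow, inv_eq_one] at h2
      exact h2
    have h4 := Nat.dvd_gcd (orderOf_dvd_of_pow_eq_one h3) (orderOf_dvd_of_pow_eq_one hl')
    have h5 : Nat.gcd (q ^ l) (p ^ l') = 1 :=
      Nat.Coprime.pow _ _ ((Nat.coprime_primes hqq hpp).2 hpq.symm)
    rw [h5, Nat.dvd_one, orderOf_eq_one_iff] at h4
    rw [h4] at hc
    show τ * v = v * τ
    calc τ * v = (τ * v * τ⁻¹ * v⁻¹) * (v * τ) := by group
      _ = v * τ := by rw [← hc, one_mul]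
  -- (A10)
  apply hnot
  apply all_in_core h hn hm hpq hx₁ hcsx₁ _ t ht
  intro w l hw
  obtain ⟨g, hg⟩ := exists_conj_mem_of_not_dvd (Q₁ : Subgroup G) Q₁.not_dvd_index hw
  have h1 : g * x₁ * g⁻¹ ∈ V := hVn.conj_mem x₁ hx₁V g
  -- `g⁻¹ w g` commutes with all of `V`
  have h2 : Commute (g⁻¹ * w * g) (g⁻¹ * x₁ * g) := by
    have h3 : g⁻¹ * x₁ * g ∈ V := by
      have := hVn.conj_mem x₁ hx₁V g⁻¹
      rwa [inv_inv] at this
    exact (hA9 _ h3 _ hg).symm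
  have h4 : (g⁻¹ * w * g) * (g⁻¹ * x₁ * g) = (g⁻¹ * x₁ * g) * (g⁻¹ * w * g) := h2
  show w * x₁ = x₁ * w
  calc w * x₁ = g * ((g⁻¹ * w * g) * (g⁻¹ * x₁ * g)) * g⁻¹ := by group
    _ = g * ((g⁻¹ * x₁ * g) * (g⁻¹ * w * g)) * g⁻¹ := by rw [h4]
    _ = _ := by group

end Main

end Cfsg.Agent.Lib.FourD
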