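import Mathlib
import Cfsg.Agent.Lib.FourD
import Cfsg.Agent.Lib.ClassPPow
import Cfsg.Agent.Lib.Hall

/-!
# Class sizes `1, p^a, q^b, p^a q^b`: the case where no `p`-element has size `p^a` and no `q`-element
has size `q^b`

This case does not arise (`both_bad`).
-/

set_option autoImplicit false
set_option linter.unusedSectionVars false
set_option linter.unusedVariables false
set_option linter.style.haveILetI false

namespace Cfsg.Agent.Lib.FourE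

open Subgroup
open Cfsg (pCore)
open Cfsg.Agent.Lib.CoprimeClass
open Cfsg.Agent.Lib.CentTools
open Cfsg.Agent.Lib.PCore (le_pCore isPGroup_pCore pCore_le_sylow)
open Cfsg.Agent.Lib.FourA
open Cfsg.Agent.Lib.FourB
open Cfsg.Agent.Lib.FourC
open Cfsg.Agent.Lib.FourD

variable {G : Type*} [Group G] [Finite G]

/-- Elements of coprime order in the centralizer of an element of size `nm` are central in it. -/
theorem central_of_nm {n m : ℕ} (h : Hyp n m G) {h₀ g : G} (hcsh₀ : cs h₀ = n * m)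
    (hco : (orderOf g).Coprime (orderOf h₀)) (hgC : g ∈ Cn h₀) : Cn h₀ ≤ Cn g := by
  have hmpos : 0 < m := by have := h.hm; omega
  have hnpos : 0 < n := by have := h.hn; omega
  have hC := Cn_mul (mem_Cn.1 hgC) hco
  have h1 : n * m ∣ cs (g * h₀) := by
    rw [← hcsh₀]
    exact cs_dvd_of_Cn_le (by rw [hC]; exact inf_le_right)
  have h2 : cs (g * h₀) = n * m := by
    rcases h.vals (g * h₀) with h3 | h3 | h3 | h3 <;> rw [h3] at h1 ⊢
    · exact absurd (Nat.le_of_dvd one_pos h1) (by have := lt_nm_n h; have := h.hn; omega)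
    · exact absurd (Nat.le_of_dvd hnpos h1) (by have := lt_nm_n h; omega)
    · exact absurd (Nat.le_of_dvd hmpos h1) (by have := lt_nm_m h; omega)
  have h3 : Cn (g * h₀) = Cn h₀ := Cn_eq_of_le (by rw [hC]; exact inf_le_right) (h2.trans hcsh₀.symm)
  rw [← h3, hC]
  exact inf_le_left

/-- A conjugate of `x` commutes with any given Sylow `r`-subgroup, if `r` does not divide its class
size. -/
theorem exists_conj_comm_sylow {r : ℕ} [Fact r.Prime] {x : G} (hx : ¬ r ∣ cs x) (P : Sylow r G) :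
    ∃ g : G, ∀ u ∈ (P : Subgroup G), Commute u (g * x * g⁻¹) := by
  obtain ⟨P₂, hP₂⟩ := Cfsg.Agent.Lib.QBaerA.exists_sylow_le (q := r) (Cn x) hx
  obtain ⟨g, hg⟩ := MulAction.exists_smul_eq G P₂ P
  refine ⟨g, fun u hu => ?_⟩
  rw [← hg, Sylow.smul_def, Sylow.pointwise_smul_def] at hu
  have h1 : g⁻¹ * u * g ∈ (P₂ : Subgroup G) := Cfsg.Agent.Lib.PCore.mem_conj_smul_iff.1 hu
  have h2 : (g⁻¹ * u * g) * x = x * (g⁻¹ * u * g) := mem_Cn.1 (hP₂ h1)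
  show u * (g * x * g⁻¹) = (g * x * g⁻¹) * u
  calc u * (g * x * g⁻¹) = g * ((g⁻¹ * u * g) * x) * g⁻¹ := by group
    _ = g * (x * (g⁻¹ * u * g)) * g⁻¹ := by rw [h2]
    _ = _ := by group

/-- An `r`-element commuting with a Sylow `r`-subgroup lies in it. -/
theorem mem_sylow_of_comm {r : ℕ} [Fact r.Prime] (P : Sylow r G) {x : G} {k : ℕ} (hk : x ^ (r ^ k) = 1)
    (hc : ∀ u ∈ (P : Subgroup G), Commute u x) : x ∈ (P : Subgroup G) := by
  have hle : (P : Subgroup G) ≤ Cn x := fun u hu => mem_Cn.2 (hc u hu)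
  have hz : (⟨x, mem_Cn.2 rfl⟩ : Cn x) ∈ center (Cn x) := by
    rw [mem_center_iff]
    intro g
    exact Subtype.ext (mem_Cn.1 g.2)
  have hmem := Cfsg.Agent.Lib.TwoRegB.central_relt_mem (P.subtype hle) hz (k := k) (Subtype.ext hk)
  rw [Sylow.coe_subtype, mem_subgroupOf] at hmem
  exact hmem

/-- A subgroup of `r`-power order whose centralizer contains it is abelian, if `r ≠ p` and the
`p`-regular classes of `C(a₁)` are of `p`-power size. -/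
theorem qsub_comm {n m p q a : ℕ} [hpf : Fact p.Prime] [hqf : Fact q.Prime] (h : Hyp n m G) (hn : n = p ^ a)
    (hpq : p ≠ q) {a₁ : G} {i : ℕ} (ha₁ : a₁ ^ (p ^ i) = 1) (hcsa₁ : cs a₁ = m) (T : Subgroup G)
    (hT : IsPGroup q T) (hle : T ≤ Cn a₁) : ∀ u ∈ T, ∀ v ∈ T, Commute u v := by
  classical
  have hpp : p.Prime := hpf.out
  have hqq : q.Prime := hqf.out
  have hE : ∀ x : Cn a₁, (orderOf x).Coprime p → ∃ k : ℕ, (ConjClasses.mk x).carrier.ncard = p ^ k := by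
    intro x hx
    rw [Cfsg.Agent.S4034.class_card_eq, relIdx_eq]
    have hx' : (orderOf (x : G)).Coprime p := by
      rw [Subgroup.orderOf_coe]; exact hx
    have hco : (orderOf (x : G)).Coprime (orderOf a₁) := by
      have h1 : (orderOf (x : G)).Coprime (p ^ i) := Nat.Coprime.pow_right _ hx'
      exact Nat.Coprime.coprime_dvd_right (orderOf_dvd_of_pow_eq_one ha₁) h1
    have hcomm : Commute (x : G) a₁ := mem_Cn.1 x.2
    rcases relIdx_of_coprime h hcsa₁ hcomm hco with h1 | h1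
    · exact ⟨0, by rw [h1, pow_zero]⟩
    · exact ⟨a, by rw [h1, hn]⟩
  obtain ⟨H, hHab, hHcard, k, hHk⟩ := (Cfsg.Agent.S4034.result (G := Cn a₁) hpp).1 hE
  let T' : Subgroup (Cn a₁) := T.subgroupOf (Cn a₁)
  have hT' : IsPGroup q T' := by
    rintro ⟨⟨u, hu⟩, hu'⟩
    have huT : u ∈ T := mem_subgroupOf.1 hu'
    obtain ⟨l, hl⟩ := exists_pow_of_isPGroup hT huT
    exact ⟨l, Subtype.ext (Subtype.ext hl)⟩
  have hd : ¬ q ∣ H.index := by
    rw [hHk]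
    intro hd
    exact hpq ((Nat.prime_dvd_prime_iff_eq hqq hpp).1 (hqq.dvd_of_dvd_pow hd)).symm
  obtain ⟨c, hc⟩ := Cfsg.Agent.Lib.Hall.exists_conj_le_of_not_dvd_index hT' hd
  intro u hu v hv
  have huE : u ∈ Cn a₁ := hle hu
  have hvE : v ∈ Cn a₁ := hle hv
  have hu' : (⟨u, huE⟩ : Cn a₁) ∈ T' := mem_subgroupOf.2 hu
  have hv' : (⟨v, hvE⟩ : Cn a₁) ∈ T' := mem_subgroupOf.2 hv
  have h1 := Cfsg.Agent.Lib.PCore.mem_conj_smul_iff.1 (hc hu')
  have h2 := Cfsg.Agent.Lib.PCore.mem_conj_smul_iff.1 (hc hv')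
  have h3 : (⟨_, h1⟩ : H) * ⟨_, h2⟩ = ⟨_, h2⟩ * ⟨_, h1⟩ := by
    haveI := hHab
    exact mul_comm' _ _
  have h4 : (c⁻¹ * ⟨u, huE⟩ * c) * (c⁻¹ * ⟨v, hvE⟩ * c) = (c⁻¹ * ⟨v, hvE⟩ * c) * (c⁻¹ * ⟨u, huE⟩ * c) :=
    congrArg Subtype.val h3
  have h5 : (⟨u, huE⟩ : Cn a₁) * ⟨v, hvE⟩ = ⟨v, hvE⟩ * ⟨u, huE⟩ := by
    calc (⟨u, huE⟩ : Cn a₁) * ⟨v, hvE⟩ = c * ((c⁻¹ * ⟨u, huE⟩ * c) * (c⁻¹ * ⟨v, hvE⟩ * c)) * c⁻¹ := by group
      _ = c * ((c⁻¹ * ⟨v, hvE⟩ * c) * (c⁻¹ * ⟨u, huE⟩ * c)) * c⁻¹ := by rw [h4]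
      _ = _ := by group
  exact congrArg Subtype.val h5

section Main

variable {n m p q a b : ℕ} [hpf : Fact p.Prime] [hqf : Fact q.Prime] (h : Hyp n m G) (hn : n = p ^ a)
  (hm : m = q ^ b) (hpq : p ≠ q)
include h hn hm hpq

/-- The centralizer of a `q`-element of class size `nm` is abelian and an intersection. -/
theorem nm_elt (hnoP : ∀ (t : G) (k : ℕ), t ^ (p ^ k) = 1 → cs t ≠ n)
    {a₀ b₀ : G} {i j : ℕ} (ha₀ : a₀ ^ (p ^ i) = 1) (hcsa₀ : cs a₀ = m) (hb₀ : b₀ ^ (q ^ j) = 1)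
    (hcsb₀ : cs b₀ = n) {h₀ : G} {k₀ : ℕ} (hh₀ : h₀ ^ (q ^ k₀) = 1) (hcsh₀ : cs h₀ = n * m) :
    (∀ u ∈ Cn h₀, ∀ v ∈ Cn h₀, Commute u v) ∧
      ∃ g g' : G, Cn h₀ = Cn (g * a₀ * g⁻¹) ⊓ Cn (g' * b₀ * g'⁻¹) := by
  classical
  have hpp : p.Prime := hpf.out
  have hqq : q.Prime := hqf.out
  have hmpos : 0 < m := by have := h.hm; omega
  have hnpos : 0 < n := by have := h.hn; omega
  -- `p`-elements of `C(h₀)` are central in it
  have hA1 : ∀ (g : G) (l : ℕ), g ^ (p ^ l) = 1 → g ∈ Cn h₀ → Cn h₀ ≤ Cn g := fun g l hg hgC =>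
    central_of_nm h hcsh₀ (coprime_orders hpp hqq hpq hg hh₀) hgC
  -- the Sylow `p`-subgroup of `C(h₀)`
  let S : Sylow p (Cn h₀) := default
  let Sh : Subgroup G := (S : Subgroup (Cn h₀)).map (Cn h₀).subtype
  have hShp : IsPGroup p Sh := S.2.map _
  have hShC : Sh ≤ Cn h₀ := map_subtype_le _
  have hmemSh : ∀ (u : G) (l : ℕ), u ^ (p ^ l) = 1 → u ∈ Cn h₀ → u ∈ Sh := by
    intro u l hu huC
    have hu' : (⟨u, huC⟩ : Cn h₀) ^ (p ^ l) = 1 := Subtype.ext hu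
    obtain ⟨c, hc⟩ := exists_conj_mem_of_not_dvd (S : Subgroup (Cn h₀)) S.not_dvd_index hu'
    have hcom : (c : G) * u = u * (c : G) := mem_Cn.1 (hA1 u l hu huC c.2)
    have he : c⁻¹ * ⟨u, huC⟩ * c = (⟨u, huC⟩ : Cn h₀) := by
      apply Subtype.ext
      show (c : G)⁻¹ * u * (c : G) = u
      calc (c : G)⁻¹ * u * (c : G) = (c : G)⁻¹ * ((c : G) * u) := by rw [hcom]; group
        _ = u := by group
    rw [he] at hc
    exact ⟨⟨u, huC⟩, hc, rfl⟩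
  obtain ⟨P₁, hP₁⟩ := hShp.exists_le_sylow
  obtain ⟨g₁, hg₁⟩ := exists_conj_comm_sylow (x := a₀) (by rw [hcsa₀]; exact m_not_dvd_p h hn hm hpq) P₁
  obtain ⟨a₁, ha₁def⟩ : ∃ a₁, a₁ = g₁ * a₀ * g₁⁻¹ := ⟨_, rfl⟩
  rw [← ha₁def] at hg₁
  have ha₁ : a₁ ^ (p ^ i) = 1 := by rw [ha₁def, conj_pow, ha₀]; group
  have hcsa₁ : cs a₁ = m := by rw [ha₁def, cs_conj]; exact hcsa₀
  have ha₁P : a₁ ∈ (P₁ : Subgroup G) := mem_sylow_of_comm P₁ ha₁ hg₁
  -- the claim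
  have hclaim : a₁ ∈ Cn h₀ := by
    by_cases hcase : ∃ g ∈ Sh, cs g = n * m
    · obtain ⟨g, hgSh, hcsg⟩ := hcase
      obtain ⟨l, hl⟩ := exists_pow_of_isPGroup hShp hgSh
      have h1 : Cn h₀ ≤ Cn g := hA1 g l hl (hShC hgSh)
      have h2 : Cn h₀ = Cn g := Cn_eq_of_le h1 (hcsh₀.trans hcsg.symm)
      rw [h2]
      exact mem_Cn.2 (hg₁ g (hP₁ hgSh)).symm
    · push Not at hcase
      have hShb : ∀ g ∈ Sh, g ∈ Cn b₀ := by
        intro g hg
        obtain ⟨l, hl⟩ := exists_pow_of_isPGroup hShp hg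
        rcases h.vals g with h1 | h1 | h1 | h1
        · exact mem_Cn.2 (mem_center_iff.1 (cs_eq_one_iff.1 h1) b₀).symm
        · exact absurd h1 (hnoP g l hl)
        · exact mem_Cn.2 (comm_XY h hcsb₀ h1).symm
        · exact absurd h1 (hcase g hg)
      have ha₁b : a₁ ∈ Cn b₀ := mem_Cn.2 (comm_XY h hcsb₀ hcsa₁).symm
      let T : Subgroup G := (P₁ : Subgroup G) ⊓ Cn b₀
      have hTp : IsPGroup p T := P₁.2.to_le inf_le_left
      have hShT : Sh ≤ T := le_inf hP₁ hShb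
      obtain ⟨t, ht⟩ := IsPGroup.iff_card.1 hTp
      have h1 : Nat.card T ∣ Nat.card (Cn b₀) := card_dvd_of_le inf_le_right
      have h2 : Nat.card (Cn b₀) = m * Nat.card (Cn h₀) := by
        have e1 := card_mul_index (Cn b₀)
        have e2 := card_mul_index (Cn h₀)
        rw [show (Cn b₀).index = n from hcsb₀] at e1
        rw [show (Cn h₀).index = n * m from hcsh₀] at e2
        apply Nat.eq_of_mul_eq_mul_right hnpos
        rw [e1, ← e2]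
        ring
      rw [ht, h2] at h1
      have h3 : p ^ t ∣ Nat.card (Cn h₀) := by
        apply Nat.Coprime.dvd_of_dvd_mul_left _ h1
        apply Nat.Coprime.pow_left
        exact (Nat.Prime.coprime_iff_not_dvd hpp).2 (m_not_dvd_p h hn hm hpq)
      have h4 : p ^ t ∣ Nat.card S := S.pow_dvd_card_of_pow_dvd_card h3
      have h5 : Nat.card Sh = Nat.card S := Subgroup.card_map_of_injective (Subgroup.subtype_injective _)
      have heq : Sh = T := by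
        apply Subgroup.eq_of_le_of_card_ge hShT
        rw [ht, h5]
        exact Nat.le_of_dvd Nat.card_pos h4
      have hmem : a₁ ∈ Sh := by
        rw [heq]
        exact ⟨ha₁P, ha₁b⟩
      exact hShC hmem
  have hCa₁ : Cn h₀ ≤ Cn a₁ := hA1 a₁ i ha₁ hclaim
  -- `C(h₀)` is a product of a Sylow `q`-subgroup and the centre
  let R : Sylow q (Cn h₀) := default
  have hF : (R : Subgroup (Cn h₀)) ⊔ center (Cn h₀) = ⊤ := by
    apply Cfsg.Agent.Lib.PCore.eq_top_of_forall_sylow_le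
    intro ℓ _
    by_cases hℓq : ℓ = q
    · subst hℓq
      exact ⟨R, le_sup_left⟩
    refine ⟨default, ?_⟩
    intro x hx
    obtain ⟨k, hk⟩ := exists_pow_of_isPGroup (default : Sylow ℓ (Cn h₀)).2 hx
    have hk' : (x : G) ^ (ℓ ^ k) = 1 := by exact_mod_cast congrArg Subtype.val hk
    apply mem_sup_right
    rw [mem_center_iff]
    intro y
    apply Subtype.ext
    by_cases hℓp : ℓ = p
    · subst hℓp
      exact (mem_Cn.1 (hA1 x k hk' x.2 y.2))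
    · have hz := other_central h hn hm hpp hqq hℓp hℓq (x : G) hk'
      exact mem_center_iff.1 hz y
  -- commutativity
  have hT1 : ∀ u ∈ (R : Subgroup (Cn h₀)), ∀ v ∈ (R : Subgroup (Cn h₀)), Commute (u : G) (v : G) := by
    intro u hu v hv
    have hRp : IsPGroup q ((R : Subgroup (Cn h₀)).map (Cn h₀).subtype) := R.2.map _
    refine qsub_comm h hn hpq ha₁ hcsa₁ _ hRp ?_ _ ⟨u, hu, rfl⟩ _ ⟨v, hv, rfl⟩
    exact (map_subtype_le _).trans hCa₁
  have habel : ∀ u ∈ Cn h₀, ∀ v ∈ Cn h₀, Commute u v := by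
    intro u hu v hv
    have hu' : (⟨u, hu⟩ : Cn h₀) ∈ (R : Subgroup (Cn h₀)) ⊔ center (Cn h₀) := by rw [hF]; trivial
    have hv' : (⟨v, hv⟩ : Cn h₀) ∈ (R : Subgroup (Cn h₀)) ⊔ center (Cn h₀) := by rw [hF]; trivial
    rw [mem_sup_of_normal_right] at hu' hv'
    obtain ⟨s₁, hs₁, z₁, hz₁, he₁⟩ := hu'
    obtain ⟨s₂, hs₂, z₂, hz₂, he₂⟩ := hv'
    have h1 : Commute (⟨u, hu⟩ : Cn h₀) ⟨v, hv⟩ := by
      rw [← he₁, ← he₂]
      have h2 : Commute s₁ s₂ := Subtype.ext (hT1 s₁ hs₁ s₂ hs₂)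
      have hz₁c : ∀ y : Cn h₀, Commute y z₁ := fun y => mem_center_iff.1 hz₁ y
      have hz₂c : ∀ y : Cn h₀, Commute y z₂ := fun y => mem_center_iff.1 hz₂ y
      exact Commute.mul_left (Commute.mul_right h2 (hz₂c _)) (Commute.mul_right (hz₁c _).symm (hz₂c _))
    exact congrArg Subtype.val h1
  refine ⟨habel, ?_⟩
  -- `b₂`
  obtain ⟨Q₁, hQ₁⟩ := (isPGroup_zpowers hh₀).exists_le_sylow
  have hh₀Q : h₀ ∈ (Q₁ : Subgroup G) := hQ₁ (mem_zpowers h₀)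
  obtain ⟨g₂, hg₂⟩ := exists_conj_comm_sylow (x := b₀) (by rw [hcsb₀]; exact n_not_dvd_q h hn hm hpq) Q₁
  obtain ⟨b₂, hb₂def⟩ : ∃ b₂, b₂ = g₂ * b₀ * g₂⁻¹ := ⟨_, rfl⟩
  rw [← hb₂def] at hg₂
  have hcsb₂ : cs b₂ = n := by rw [hb₂def, cs_conj]; exact hcsb₀
  have hb₂C : b₂ ∈ Cn h₀ := mem_Cn.2 (hg₂ h₀ hh₀Q).symm
  have hCb₂ : Cn h₀ ≤ Cn b₂ := fun u hu => mem_Cn.2 (habel u hu b₂ hb₂C)
  refine ⟨g₁, g₂, ?_⟩
  rw [← ha₁def, ← hb₂def]
  apply eq_of_le_of_index_eq (le_inf hCa₁ hCb₂)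
  rw [index_inf_of_coprime]
  · rw [show (Cn a₁).index = m from hcsa₁, show (Cn b₂).index = n from hcsb₂,
      show (Cn h₀).index = n * m from hcsh₀, mul_comm]
  · rw [show (Cn a₁).index = m from hcsa₁, show (Cn b₂).index = n from hcsb₂]
    exact h.cop.symm

/-- The conjugates of `a₀` do not all commute. -/
theorem classes_comm_false (hnoP : ∀ (t : G) (k : ℕ), t ^ (p ^ k) = 1 → cs t ≠ n)
    (hnoQ : ∀ (t : G) (k : ℕ), t ^ (q ^ k) = 1 → cs t ≠ m)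
    {a₀ b₀ : G} {i j : ℕ} (ha₀ : a₀ ^ (p ^ i) = 1) (hcsa₀ : cs a₀ = m) (hb₀ : b₀ ^ (q ^ j) = 1)
    (hcsb₀ : cs b₀ = n) (hcomm : ∀ g g' : G, Commute (g * a₀ * g⁻¹) (g' * a₀ * g'⁻¹)) : False := by
  have hall : ∀ (t : G) (k : ℕ), t ^ (q ^ k) = 1 → Commute t a₀ := by
    intro t k ht
    rcases h.vals t with h1 | h1 | h1 | h1
    · exact (mem_center_iff.1 (cs_eq_one_iff.1 h1) a₀).symm
    · exact comm_XY h h1 hcsa₀
    · exact absurd h1 (hnoQ t k ht)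
    · obtain ⟨-, g, g', he⟩ := nm_elt h hn hm hpq hnoP ha₀ hcsa₀ hb₀ hcsb₀ ht h1
      have hmem : a₀ ∈ Cn t := by
        rw [he]
        refine ⟨mem_Cn.2 ?_, mem_Cn.2 ?_⟩
        · have h5 : Commute a₀ (g * a₀ * g⁻¹) := by
            have := hcomm 1 g
            simpa using this
          exact h5
        · have h2 : cs (g' * b₀ * g'⁻¹) = n := by rw [cs_conj]; exact hcsb₀
          exact (comm_XY h h2 hcsa₀).symm
      exact (mem_Cn.1 hmem).symm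
  let Q : Sylow q G := default
  have hle : (Q : Subgroup G) ≤ Cn a₀ := fun w hw => by
    obtain ⟨l, hl⟩ := exists_pow_of_isPGroup Q.2 hw
    exact mem_Cn.2 (hall w l hl)
  have h3 : cs a₀ ∣ (Q : Subgroup G).index := index_dvd_of_le hle
  rw [hcsa₀] at h3
  obtain ⟨r, hr, hrm⟩ := Nat.exists_prime_and_dvd (ne_one_m h)
  have hrq : r = q := by
    rw [hm] at hrm
    exact (Nat.prime_dvd_prime_iff_eq hr hqf.out).1 (hr.dvd_of_dvd_pow hrm)
  subst hrq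
  exact Q.not_dvd_index (hrm.trans h3)

/-- **The case where no `p`-element has size `n` and no `q`-element has size `m` is impossible.** -/
theorem both_bad (hnoP : ∀ (t : G) (k : ℕ), t ^ (p ^ k) = 1 → cs t ≠ n)
    (hnoQ : ∀ (t : G) (k : ℕ), t ^ (q ^ k) = 1 → cs t ≠ m)
    {a₀ b₀ : G} {i j : ℕ} (ha₀ : a₀ ^ (p ^ i) = 1) (hcsa₀ : cs a₀ = m) (hb₀ : b₀ ^ (q ^ j) = 1)
    (hcsb₀ : cs b₀ = n) : False := by
  have hpp : p.Prime := hpf.out
  have hqq : q.Prime := hqf.out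
  by_cases hcomm : ∀ g g' : G, Commute (g * a₀ * g⁻¹) (g' * a₀ * g'⁻¹)
  · exact classes_comm_false h hn hm hpq hnoP hnoQ ha₀ hcsa₀ hb₀ hcsb₀ hcomm
  push Not at hcomm
  obtain ⟨g, g', hnc⟩ := hcomm
  have hcmem := Cfsg.Agent.Lib.ClassPPow.commutator_conj_mem_pCore (p := q) a₀
    ⟨b, by rw [← hm]; exact hcsa₀⟩ g g'
  obtain ⟨a', ha'def⟩ : ∃ a', a' = g * a₀ * g⁻¹ := ⟨_, rfl⟩
  obtain ⟨a'', ha''def⟩ : ∃ a'', a'' = g' * a₀ * g'⁻¹ := ⟨_, rfl⟩
  rw [← ha'def, ← ha''def] at hcmem hnc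
  obtain ⟨c, hcdef⟩ : ∃ c, c = a' * a'' * a'⁻¹ * a''⁻¹ := ⟨_, rfl⟩
  rw [← hcdef] at hcmem
  have ha' : a' ^ (p ^ i) = 1 := by rw [ha'def, conj_pow, ha₀]; group
  have hcsa' : cs a' = m := by rw [ha'def, cs_conj]; exact hcsa₀
  have hc1 : c ≠ 1 := by
    intro hc
    apply hnc
    rw [hc] at hcdef
    show a' * a'' = a'' * a'
    calc a' * a'' = (a' * a'' * a'⁻¹ * a''⁻¹) * (a'' * a') := by group
      _ = a'' * a' := by rw [← hcdef, one_mul]
  obtain ⟨l, hl⟩ := exists_pow_of_isPGroup (isPGroup_pCore (G := G) q) hcmem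
  have hcnc : ¬ Commute a' c := by
    intro hcm
    have hconj : IsConj a' (a' * c⁻¹) := by
      rw [isConj_iff]
      refine ⟨a'', ?_⟩
      have hcm' : c⁻¹ * a' = a' * c⁻¹ := (hcm.inv_right).symm
      rw [← hcm', hcdef]
      group
    have hl' : (c⁻¹) ^ (q ^ l) = 1 := by rw [inv_pow, hl, inv_one]
    have := eq_one_of_isConj_mul hpp hqq hpq ha' hl' hcm.inv_right hconj
    exact hc1 (inv_eq_one.1 this)
  have hcsc : cs c = n * m := by
    rcases h.vals c with h1 | h1 | h1 | h1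
    · exact absurd (mem_center_iff.1 (cs_eq_one_iff.1 h1) a') hcnc
    · exact absurd (comm_XY h h1 hcsa').symm hcnc
    · exact absurd h1 (hnoQ c l hl)
    · exact h1
  obtain ⟨habel, -⟩ := nm_elt h hn hm hpq hnoP ha₀ hcsa₀ hb₀ hcsb₀ hl hcsc
  have hb : ∀ g g' : G, Commute (g * b₀ * g⁻¹) (g' * b₀ * g'⁻¹) := by
    have hbc : ∀ g : G, g * b₀ * g⁻¹ ∈ Cn c := by
      intro g
      obtain ⟨Q₂, hQ₂⟩ := exists_sylow_of_cs_n h hn hm hpq (x := g * b₀ * g⁻¹)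
        (by rw [cs_conj]; exact hcsb₀)
      have h1 : c ∈ (Q₂ : Subgroup G) := pCore_le_sylow q Q₂ hcmem
      exact mem_Cn.2 (mem_Cn.1 (hQ₂ h1)).symm
    intro g g'
    exact habel _ (hbc g) _ (hbc g')
  exact classes_comm_false h.symm hm hn hpq.symm hnoQ hnoP hb₀ hcsb₀ ha₀ hcsa₀ hb

end Main

end Cfsg.Agent.Lib.FourE
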