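import Mathlib

/-!
# Fast kernel arithmetic for matrices over `ZMod p` acting on packed vectors

A vector of `F_p^n` is a natural number, with one digit in base `B` for each coordinate; a matrix is the list of
its columns.  `mv B p n cols u` is the image of `u`.  `wordV` applies a word; the lemmas below turn a kernel
computation (`wordV … (B ^ i) = B ^ i`) into an identity of matrices, and so a relator into an identity in `GL`.
-/

set_option autoImplicit false
set_option linter.unusedVariables false
set_option linter.unusedSectionVars false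

open scoped Matrix

namespace Cfsg.Agent.Lib.FpVec

/-- The combination of the columns with the digits of `u` (a bare recursor: fast in the kernel). -/
def combo (B : ℕ) (cs : List ℕ) : ℕ → ℕ :=
  List.rec (motive := fun _ => ℕ → ℕ) (fun _ => 0) (fun c _ ih u => (u % B) * c + ih (u / B)) cs

theorem combo_nil (B u : ℕ) : combo B [] u = 0 := rfl

theorem combo_cons (B c : ℕ) (cs : List ℕ) (u : ℕ) : combo B (c :: cs) u = (u % B) * c + combo B cs (u / B) := rfl

/-- Reduction of the first `n` digits modulo `p` (a bare recursor: fast in the kernel). -/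
def redu (B p n : ℕ) : ℕ → ℕ :=
  Nat.rec (motive := fun _ => ℕ → ℕ) (fun _ => 0) (fun _ ih x => (x % B) % p + B * ih (x / B)) n

theorem redu_zero (B p x : ℕ) : redu B p 0 x = 0 := rfl

theorem redu_succ (B p n x : ℕ) : redu B p (n + 1) x = (x % B) % p + B * redu B p n (x / B) := rfl

/-- The image of a vector under a matrix given by columns. -/
def mv (B p n : ℕ) (cols : List ℕ) (u : ℕ) : ℕ := redu B p n (combo B cols u)

/-- A digit. -/
def dg (B x i : ℕ) : ℕ := x / B ^ i % B

/-- The digits are reduced. -/
def Rd (B p x : ℕ) : Prop := ∀ j, dg B x j < p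

section digits

variable {B : ℕ}

theorem dg_zero (x : ℕ) : dg B x 0 = x % B := by simp [dg]

theorem dg_succ (x i : ℕ) : dg B x (i + 1) = dg B (x / B) i := by
  simp only [dg]
  rw [Nat.div_div_eq_div_mul, pow_succ']

theorem dg_cons (hB : 0 < B) {a : ℕ} (ha : a < B) (y : ℕ) : dg B (a + B * y) 0 = a := by
  rw [dg_zero, Nat.add_mul_mod_self_left, Nat.mod_eq_of_lt ha]

theorem dg_cons_succ (hB : 0 < B) {a : ℕ} (ha : a < B) (y i : ℕ) : dg B (a + B * y) (i + 1) = dg B y i := by
  rw [dg_succ, Nat.add_mul_div_left _ _ hB, Nat.div_eq_of_lt ha, zero_add]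

theorem dg_lt (hB : 0 < B) (x i : ℕ) : dg B x i < B := Nat.mod_lt _ hB

/-- The number with given digits. -/
def val (B n : ℕ) (f : ℕ → ℕ) : ℕ := ∑ i ∈ Finset.range n, f i * B ^ i

theorem val_succ (n : ℕ) (f : ℕ → ℕ) : val B (n + 1) f = f 0 + B * val B n (fun i => f (i + 1)) := by
  simp only [val]
  rw [Finset.sum_range_succ', Finset.mul_sum, add_comm]
  congr 1
  · simp
  · refine Finset.sum_congr rfl fun i _ => ?_
    rw [pow_succ]
    ring

theorem dg_val (hB : 0 < B) (n : ℕ) (f : ℕ → ℕ) (hf : ∀ i, f i < B) (k : ℕ) (hk : k < n) :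
    dg B (val B n f) k = f k := by
  induction n generalizing f k with
  | zero => omega
  | succ n ih =>
    rw [val_succ]
    cases k with
    | zero => exact dg_cons hB (hf 0) _
    | succ k =>
      rw [dg_cons_succ hB (hf 0)]
      exact ih _ (fun i => hf _) k (by omega)

theorem val_add (n : ℕ) (f g : ℕ → ℕ) : val B n (fun i => f i + g i) = val B n f + val B n g := by
  simp only [val, add_mul, Finset.sum_add_distrib]

theorem val_mul (n a : ℕ) (f : ℕ → ℕ) : val B n (fun i => a * f i) = a * val B n f := by
  simp only [val, Finset.mul_sum, mul_assoc]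

theorem eq_val (hB : 0 < B) (n x : ℕ) (hx : x < B ^ n) : x = val B n (dg B x) := by
  induction n generalizing x with
  | zero =>
    simp only [pow_zero, Nat.lt_one_iff] at hx
    simp [val, hx]
  | succ n ih =>
    rw [val_succ]
    have h1 : x / B < B ^ n := by
      rw [Nat.div_lt_iff_lt_mul hB, ← pow_succ]
      exact hx
    have h2 := ih (x / B) h1
    have h3 : (fun i => dg B x (i + 1)) = dg B (x / B) := by
      funext i
      exact dg_succ x i
    rw [h3, ← h2, dg_zero]
    exact (Nat.mod_add_div x B).symm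

theorem dg_of_lt_pow (hB : 1 < B) {x n i : ℕ} (hx : x < B ^ n) (hi : n ≤ i) : dg B x i = 0 := by
  unfold dg
  rw [Nat.div_eq_of_lt (lt_of_lt_of_le hx (Nat.pow_le_pow_right (by omega) hi))]
  simp

end digits

section redu

variable {B p : ℕ}

theorem redu_lt (hB : 0 < B) (hp : 0 < p) (hpB : p ≤ B) (n x : ℕ) : redu B p n x < B ^ n := by
  induction n generalizing x with
  | zero => simp [redu_zero]
  | succ n ih =>
    simp only [redu_succ]
    have h1 : x % B % p < p := Nat.mod_lt _ hp
    have h2 := ih (x / B)
    rw [pow_succ']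
    nlinarith

theorem dg_redu (hB : 0 < B) (hp : 0 < p) (hpB : p ≤ B) (n x i : ℕ) (hi : i < n) :
    dg B (redu B p n x) i = dg B x i % p := by
  induction n generalizing x i with
  | zero => omega
  | succ n ih =>
    simp only [redu_succ]
    have h1 : x % B % p < B := lt_of_lt_of_le (Nat.mod_lt _ hp) hpB
    cases i with
    | zero => rw [dg_cons hB h1, dg_zero]
    | succ i =>
      rw [dg_cons_succ hB h1, ih _ _ (by omega), dg_succ]

theorem rd_redu (hB : 1 < B) (hp : 0 < p) (hpB : p ≤ B) (n x : ℕ) : Rd B p (redu B p n x) := by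
  intro j
  by_cases hj : j < n
  · rw [dg_redu (by omega) hp hpB n x j hj]
    exact Nat.mod_lt _ hp
  · rw [dg_of_lt_pow hB (redu_lt (by omega) hp hpB n x) (by omega)]
    exact hp

/-- The digits of a combination. -/
def sumD (B : ℕ) : List ℕ → ℕ → ℕ → ℕ
  | [], _, _ => 0
  | c :: cs, u, i => (u % B) * dg B c i + sumD B cs (u / B) i

theorem combo_eq (hB : 0 < B) (n : ℕ) (cols : List ℕ) (hc : ∀ c ∈ cols, c < B ^ n) (u : ℕ) :
    combo B cols u = val B n (sumD B cols u) := by
  induction cols generalizing u with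
  | nil => simp [combo_nil, val, sumD]
  | cons c cs ih =>
    simp only [combo_cons, sumD]
    have h1 : (fun i => (u % B) * dg B c i + sumD B cs (u / B) i) =
        (fun i => (fun i => (u % B) * dg B c i) i + (sumD B cs (u / B)) i) := rfl
    rw [h1, val_add, val_mul, ← eq_val hB n c (hc c List.mem_cons_self),
      ← ih (fun c' hc' => hc c' (List.mem_cons_of_mem _ hc')) (u / B)]

theorem rd_div {u : ℕ} (hu : Rd B p u) : Rd B p (u / B) := by
  intro j
  rw [← dg_succ]
  exact hu _

theorem sumD_le (hB : 0 < B) (cols : List ℕ) (hc : ∀ c ∈ cols, Rd B p c) (u : ℕ) (hu : Rd B p u) (i : ℕ) :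
    sumD B cols u i ≤ cols.length * ((p - 1) * (p - 1)) := by
  induction cols generalizing u with
  | nil => simp [sumD]
  | cons c cs ih =>
    simp only [sumD, List.length_cons]
    have h1 : u % B ≤ p - 1 := by
      have := hu 0
      rw [dg_zero] at this
      omega
    have h2 : dg B c i ≤ p - 1 := by
      have := hc c List.mem_cons_self i
      omega
    have h3 := ih (fun c' hc' => hc c' (List.mem_cons_of_mem _ hc')) (u / B) (rd_div hu)
    have h4 : (u % B) * dg B c i ≤ (p - 1) * (p - 1) := Nat.mul_le_mul h1 h2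
    rw [add_mul]
    omega

theorem sumD_eq (cols : List ℕ) (u i : ℕ) :
    sumD B cols u i = ∑ j ∈ Finset.range cols.length, dg B u j * dg B (cols.getD j 0) i := by
  induction cols generalizing u with
  | nil => simp [sumD]
  | cons c cs ih =>
    simp only [sumD, List.length_cons]
    rw [Finset.sum_range_succ', ih, add_comm]
    congr 1
    · refine Finset.sum_congr rfl fun j _ => ?_
      rw [dg_succ]
      simp
    · simp [dg_zero]

end redu

section matrix

variable (B p n : ℕ)

/-- The vector of a code. -/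
def decV (x : ℕ) : Fin n → ZMod p := fun i => ((dg B x i : ℕ) : ZMod p)

/-- The matrix of a list of columns. -/
def mat (cols : List ℕ) : Matrix (Fin n) (Fin n) (ZMod p) := fun i j => decV B p n (cols.getD j 0) i

/-- A valid list of columns. -/
def validC (cols : List ℕ) : Bool :=
  Nat.beq cols.length n && cols.all (fun c => Nat.beq (redu B p n c) c)

/-- The parameters. -/
structure Par : Prop where
  one_lt : 1 < B
  p_pos : 0 < p
  p_le : p ≤ B
  bound : n * ((p - 1) * (p - 1)) < B

variable {B p n}

theorem of_validC (hP : Par B p n) {cols : List ℕ} (h : validC B p n cols = true) :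
    cols.length = n ∧ ∀ c ∈ cols, c < B ^ n ∧ Rd B p c := by
  simp only [validC, Bool.and_eq_true, List.all_eq_true] at h
  refine ⟨Nat.eq_of_beq_eq_true h.1, fun c hc => ?_⟩
  have h1 := Nat.eq_of_beq_eq_true (h.2 c hc)
  have h0 : 0 < B := by have := hP.one_lt; omega
  rw [← h1]
  exact ⟨redu_lt h0 hP.p_pos hP.p_le n c, rd_redu hP.one_lt hP.p_pos hP.p_le n c⟩

theorem rd_mv (hP : Par B p n) (cols : List ℕ) (u : ℕ) : Rd B p (mv B p n cols u) :=
  rd_redu hP.one_lt hP.p_pos hP.p_le n _

theorem decV_mv (hP : Par B p n) {cols : List ℕ} (h : validC B p n cols = true) {u : ℕ} (hu : Rd B p u) :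
    decV B p n (mv B p n cols u) = mat B p n cols *ᵥ decV B p n u := by
  obtain ⟨hl, hc⟩ := of_validC hP h
  have h0 : 0 < B := by have := hP.one_lt; omega
  ext i
  have hb : ∀ k, sumD B cols u k < B := by
    intro k
    have := sumD_le h0 cols (fun c hc' => (hc c hc').2) u hu k
    rw [hl] at this
    exact lt_of_le_of_lt this hP.bound
  show ((dg B (mv B p n cols u) i : ℕ) : ZMod p) = _
  rw [mv, dg_redu h0 hP.p_pos hP.p_le n _ i i.2, ZMod.natCast_mod,
    combo_eq h0 n cols (fun c hc' => (hc c hc').1) u, dg_val h0 n _ hb i i.2, sumD_eq, hl]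
  rw [Matrix.mulVec, dotProduct, Finset.sum_range, Nat.cast_sum]
  refine Finset.sum_congr rfl fun j _ => ?_
  rw [Nat.cast_mul, mul_comm]
  rfl

/-- The action of a word of letters. -/
def wordV {β : Type*} (B p n : ℕ) (cs : β → List ℕ) : List β → ℕ → ℕ
  | [], u => u
  | a :: w, u => mv B p n (cs a) (wordV B p n cs w u)

theorem wordV_spec {β : Type*} (hP : Par B p n) {cs : β → List ℕ} (h : ∀ a, validC B p n (cs a) = true)
    (w : List β) {u : ℕ} (hu : Rd B p u) :
    Rd B p (wordV B p n cs w u) ∧
      decV B p n (wordV B p n cs w u) = (w.map fun a => mat B p n (cs a)).prod *ᵥ decV B p n u := by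
  induction w with
  | nil => simpa [wordV] using hu
  | cons a w ih =>
    refine ⟨rd_mv hP _ _, ?_⟩
    simp only [wordV, List.map_cons, List.prod_cons]
    rw [decV_mv hP (h a) ih.1, ih.2, Matrix.mulVec_mulVec]

theorem rd_pow (hP : Par B p n) (hp : 1 < p) (i : ℕ) : Rd B p (B ^ i) := by
  intro j
  have hB := hP.one_lt
  by_cases hj : j = i
  · subst hj
    unfold dg
    rw [Nat.div_self (by positivity), Nat.mod_eq_of_lt hB]
    exact hp
  · unfold dg
    rcases lt_or_gt_of_ne hj with h | h
    · rw [show i = j + (i - j) by omega, pow_add, Nat.mul_div_cancel_left _ (by positivity),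
        show i - j = (i - j - 1) + 1 by omega, pow_succ, Nat.mul_mod_left]
      omega
    · rw [Nat.div_eq_of_lt (Nat.pow_lt_pow_right hB h)]
      simp
      omega

theorem decV_pow (hP : Par B p n) [Fact (1 < p)] (i : Fin n) : decV B p n (B ^ (i : ℕ)) = Pi.single i 1 := by
  have hB := hP.one_lt
  have hp : 1 < p := Fact.out
  ext j
  unfold decV
  by_cases hj : j = i
  · subst hj
    unfold dg
    rw [Nat.div_self (by positivity), Nat.mod_eq_of_lt hB]
    simp
  · have h1 : (j : ℕ) ≠ i := fun h => hj (Fin.ext h)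
    have h2 := hj
    rw [Pi.single_apply, if_neg hj]
    have h3 : dg B (B ^ (i : ℕ)) j = 0 := by
      unfold dg
      rcases lt_or_gt_of_ne h1 with h | h
      · rw [show (i : ℕ) = j + ((i : ℕ) - j) by omega, pow_add, Nat.mul_div_cancel_left _ (by positivity),
          show (i : ℕ) - j = ((i : ℕ) - j - 1) + 1 by omega, pow_succ, Nat.mul_mod_left]
      · rw [Nat.div_eq_of_lt (Nat.pow_lt_pow_right hB h)]
        simp
    rw [h3]
    simp

/-- A matrix fixing the codes of the basis is the identity. -/
theorem prod_eq_one {β : Type*} (hP : Par B p n) [Fact (1 < p)] {cs : β → List ℕ} (h : ∀ a, validC B p n (cs a) = true)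
    (w : List β) (hw : ∀ i, i < n → wordV B p n cs w (B ^ i) = B ^ i) :
    (w.map fun a => mat B p n (cs a)).prod = 1 := by
  have hp : 1 < p := Fact.out
  ext i j
  have h1 := (wordV_spec hP h w (rd_pow hP hp (j : ℕ))).2
  rw [hw j j.2, decV_pow hP, Matrix.mulVec_single_one] at h1
  have h2 := congrFun h1 i
  rw [Matrix.col_apply] at h2
  rw [← h2, Matrix.one_apply, Pi.single_apply]

end matrix


/-! ### Products of matrices -/

section prod

variable {B p n : ℕ}

/-- Good lists of columns. -/
def Good (B p n : ℕ) (cols : List ℕ) : Prop := cols.length = n ∧ ∀ c ∈ cols, c < B ^ n ∧ Rd B p c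

theorem good_of_valid (hP : Par B p n) {cols : List ℕ} (h : validC B p n cols = true) : Good B p n cols :=
  of_validC hP h

/-- The product of two matrices given by columns. -/
def mulL (B p n : ℕ) (A C : List ℕ) : List ℕ := C.map (mv B p n A)

theorem good_mulL (hP : Par B p n) {A C : List ℕ} (hC : Good B p n C) : Good B p n (mulL B p n A C) := by
  refine ⟨by simpa [mulL] using hC.1, fun c hc => ?_⟩
  obtain ⟨u, -, rfl⟩ := List.mem_map.1 hc
  have h0 : 0 < B := by have := hP.one_lt; omega
  exact ⟨redu_lt h0 hP.p_pos hP.p_le n _, rd_mv hP _ _⟩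

theorem decV_mv_good (hP : Par B p n) {cols : List ℕ} (h : Good B p n cols) {u : ℕ} (hu : Rd B p u) :
    decV B p n (mv B p n cols u) = mat B p n cols *ᵥ decV B p n u := by
  obtain ⟨hl, hc⟩ := h
  have h0 : 0 < B := by have := hP.one_lt; omega
  ext i
  have hb : ∀ k, sumD B cols u k < B := by
    intro k
    have := sumD_le h0 cols (fun c hc' => (hc c hc').2) u hu k
    rw [hl] at this
    exact lt_of_le_of_lt this hP.bound
  show ((dg B (mv B p n cols u) i : ℕ) : ZMod p) = _
  rw [mv, dg_redu h0 hP.p_pos hP.p_le n _ i i.2, ZMod.natCast_mod,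
    combo_eq h0 n cols (fun c hc' => (hc c hc').1) u, dg_val h0 n _ hb i i.2, sumD_eq, hl]
  rw [Matrix.mulVec, dotProduct, Finset.sum_range, Nat.cast_sum]
  refine Finset.sum_congr rfl fun j _ => ?_
  rw [Nat.cast_mul, mul_comm]
  rfl

theorem mat_mulL (hP : Par B p n) {A C : List ℕ} (hA : Good B p n A) (hC : Good B p n C) :
    mat B p n (mulL B p n A C) = mat B p n A * mat B p n C := by
  ext i j
  have hj : (j : ℕ) < C.length := by rw [hC.1]; exact j.2
  have h1 : (mulL B p n A C).getD j 0 = mv B p n A (C.getD j 0) := by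
    simp [mulL, List.getD_eq_getElem?_getD, List.getElem?_map, List.getElem?_eq_getElem hj]
  have hRd : Rd B p (C.getD j 0) := by
    rw [List.getD_eq_getElem?_getD, List.getElem?_eq_getElem hj]
    exact (hC.2 _ (List.getElem_mem hj)).2
  show decV B p n ((mulL B p n A C).getD j 0) i = _
  rw [h1, decV_mv_good hP hA hRd, Matrix.mul_apply, Matrix.mulVec, dotProduct]
  rfl

/-- The columns of the identity. -/
def idL (B n : ℕ) : List ℕ := (List.range n).map fun i => B ^ i

theorem good_idL (hP : Par B p n) (hp : 1 < p) : Good B p n (idL B n) := by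
  refine ⟨by simp [idL], fun c hc => ?_⟩
  obtain ⟨i, hi, rfl⟩ := List.mem_map.1 hc
  exact ⟨Nat.pow_lt_pow_right hP.one_lt (List.mem_range.1 hi), rd_pow hP hp i⟩

theorem mat_idL (hP : Par B p n) [Fact (1 < p)] : mat B p n (idL B n) = 1 := by
  ext i j
  have h1 : (idL B n).getD j 0 = B ^ (j : ℕ) := by
    simp [idL, List.getD_eq_getElem?_getD, List.getElem?_map]
  show decV B p n ((idL B n).getD j 0) i = _
  rw [h1, decV_pow hP, Pi.single_apply, Matrix.one_apply]

end prod

/-! ### Homomorphisms from presented groups -/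

section hom

variable {α : Type*} [DecidableEq α] {B p n : ℕ}

/-- The columns of a signed letter. -/
def csOf (M I : α → List ℕ) (a : α × Bool) : List ℕ := cond a.2 (M a.1) (I a.1)

theorem valid_csOf {M I : α → List ℕ} (hM : ∀ x, validC B p n (M x) = true) (hI : ∀ x, validC B p n (I x) = true)
    (a : α × Bool) : validC B p n (csOf M I a) = true := by
  obtain ⟨x, b⟩ := a
  cases b
  · exact hI x
  · exact hM x

/-- The matrices of a pair of a matrix and its inverse. -/
theorem mat_mul_inv (hP : Par B p n) [Fact (1 < p)] {A C : List ℕ} (hA : validC B p n A = true) (hC : validC B p n C = true)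
    (h : ∀ i, i < n → mv B p n A (mv B p n C (B ^ i)) = B ^ i) : mat B p n A * mat B p n C = 1 := by
  have := prod_eq_one (β := Bool) (cs := fun b => cond b A C) hP (by intro b; cases b <;> assumption)
    [true, false] h
  simpa using this

/-- The generators as invertible matrices. -/
noncomputable def glOf (M I : α → List ℕ) (h : ∀ x, mat B p n (M x) * mat B p n (I x) = 1) (x : α) :
    Matrix.GeneralLinearGroup (Fin n) (ZMod p) :=
  ⟨mat B p n (M x), mat B p n (I x), h x, mul_eq_one_comm.mp (h x)⟩

theorem lift_coe (M I : α → List ℕ) (h : ∀ x, mat B p n (M x) * mat B p n (I x) = 1) (r : FreeGroup α) :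
    ((FreeGroup.lift (glOf (B := B) (p := p) (n := n) M I h) r : Matrix.GeneralLinearGroup (Fin n) (ZMod p)) :
        Matrix (Fin n) (Fin n) (ZMod p)) =
      (r.toWord.map fun a => mat B p n (csOf M I a)).prod := by
  conv_lhs => rw [← FreeGroup.mk_toWord (x := r)]
  rw [FreeGroup.lift_mk]
  generalize r.toWord = L
  induction L with
  | nil => rfl
  | cons a L ih =>
    rw [List.map_cons, List.prod_cons, Units.val_mul, ih, List.map_cons, List.prod_cons]
    congr 1
    obtain ⟨x, b⟩ := a
    cases b <;> rfl

/-- A relator checked on the codes of the basis holds in `GL`. -/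
theorem lift_eq_one (hP : Par B p n) [Fact (1 < p)] {M I : α → List ℕ} (hM : ∀ x, validC B p n (M x) = true)
    (hI : ∀ x, validC B p n (I x) = true) (h : ∀ x, mat B p n (M x) * mat B p n (I x) = 1) (r : FreeGroup α)
    (hr : ∀ i, i < n → wordV B p n (csOf M I) r.toWord (B ^ i) = B ^ i) :
    FreeGroup.lift (glOf (B := B) (p := p) (n := n) M I h) r = 1 := by
  apply Units.ext
  rw [lift_coe, Units.val_one]
  exact prod_eq_one hP (valid_csOf hM hI) _ hr

end hom

end Cfsg.Agent.Lib.FpVec
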