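import Mathlib
import Cfsg.Agent.Lib.T64

/-!
# Fixed-point-free automorphisms of order three of finite `2`-groups

Such a group has nilpotency class at most two.
-/

set_option autoImplicit false
set_option linter.unusedSectionVars false
set_option linter.unusedSimpArgs false

namespace Cfsg.Agent.Lib.Fpf3

open Cfsg.Agent.Lib.T64

section Identities

variable {T : Type*} [Group T]

theorem cm_mul_left_id (u v w : T) : cm (u * v) w = u * cm v w * u⁻¹ * cm u w := by
  simp only [cm]; group

theorem cm_mul_right_id (u w w' : T) : cm u (w * w') = cm u w * (w * cm u w' * w⁻¹) := by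
  simp only [cm]; group

theorem cm_inv_swap (x y : T) : (cm x y)⁻¹ = cm y x := by
  simp only [cm]; group

theorem cm_eq_one_iff {x y : T} : cm x y = 1 ↔ x * y = y * x := by
  simp only [cm]
  rw [mul_inv_eq_one, mul_inv_eq_iff_eq_mul]

theorem cm_central_left {z : T} (hz : z ∈ Subgroup.center T) (w : T) : cm z w = 1 := by
  rw [cm_eq_one_iff]
  exact (central hz w).symm

theorem cm_central_right {z : T} (hz : z ∈ Subgroup.center T) (w : T) : cm w z = 1 := by
  rw [cm_eq_one_iff]
  exact central hz w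

theorem conj_central {z : T} (hz : z ∈ Subgroup.center T) (w : T) : w * z * w⁻¹ = z := by
  rw [central hz w]; group

theorem conj_central' {z : T} (hz : z ∈ Subgroup.center T) (w : T) : z * w * z⁻¹ = w := by
  rw [← central hz w]; group

theorem cm_conj_left (a u w : T) (hu : ∀ w, cm u w ∈ Subgroup.center T) :
    cm (a * u * a⁻¹) w = cm u w := by
  have h1 : a * u * a⁻¹ = cm a u * u := by simp only [cm]; group
  have h2 : cm a u ∈ Subgroup.center T := by
    rw [← cm_inv_swap]
    exact Subgroup.inv_mem _ (hu a)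
  rw [h1, cm_mul_left_id, cm_central_left h2, mul_one]
  exact conj_central' h2 _

theorem cm_mul_left_z (u v w : T) (hu : cm u w ∈ Subgroup.center T)
    (hv : cm v w ∈ Subgroup.center T) : cm (u * v) w = cm u w * cm v w := by
  rw [cm_mul_left_id, conj_central hv]
  exact central hu _

theorem cm_mul_right_z (u w w' : T) (hu' : cm u w' ∈ Subgroup.center T) :
    cm u (w * w') = cm u w * cm u w' := by
  rw [cm_mul_right_id, conj_central hu']

end Identities

section Engel

variable {T : Type*} [Group T] [Finite T] {ρ : MulAut T} (h : Fpf ρ)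
include h

/-- Every element commutes with the conjugates of its image. -/
theorem comm_conj_rho (x a : T) : x * (a * ρ x * a⁻¹) = (a * ρ x * a⁻¹) * x := by
  have hinj : Function.Injective (fun g : T => g * (ρ g)⁻¹) := by
    intro g g' hg
    have h1 : g * (ρ g)⁻¹ = g' * (ρ g')⁻¹ := hg
    have h2 : ρ (g'⁻¹ * g) = g'⁻¹ * g := by
      rw [map_mul, map_inv]
      calc (ρ g')⁻¹ * ρ g = g'⁻¹ * (g' * (ρ g')⁻¹) * ρ g := by group
        _ = g'⁻¹ * (g * (ρ g)⁻¹) * ρ g := by rw [h1]
        _ = _ := by group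
    have h3 := h.fp _ h2
    rw [inv_mul_eq_one] at h3
    exact h3.symm
  obtain ⟨b, hb⟩ := (Finite.injective_iff_surjective.mp hinj) a
  have hb' : b * (ρ b)⁻¹ = a := hb
  have h1 := comm_self h (b⁻¹ * x * b)
  simp only [map_mul, map_inv] at h1
  subst hb'
  have h2 : b * ((b⁻¹ * x * b) * ((ρ b)⁻¹ * ρ x * ρ b)) * b⁻¹ =
      b * (((ρ b)⁻¹ * ρ x * ρ b) * (b⁻¹ * x * b)) * b⁻¹ := by rw [h1]
  calc x * (b * (ρ b)⁻¹ * ρ x * (b * (ρ b)⁻¹)⁻¹)
      = b * ((b⁻¹ * x * b) * ((ρ b)⁻¹ * ρ x * ρ b)) * b⁻¹ := by group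
    _ = b * (((ρ b)⁻¹ * ρ x * ρ b) * (b⁻¹ * x * b)) * b⁻¹ := h2
    _ = _ := by group

/-- Second Engel condition: every element commutes with its conjugates. -/
theorem engel (x a : T) : x * (a * x * a⁻¹) = (a * x * a⁻¹) * x := by
  have h1 := comm_conj_rho h x a
  have h2 := comm_conj_rho h (ρ (ρ x)) a⁻¹
  rw [h.r3] at h2
  have h3 : x * (a * ρ (ρ x) * a⁻¹) = (a * ρ (ρ x) * a⁻¹) * x := by
    have h4 : a * (ρ (ρ x) * (a⁻¹ * x * a⁻¹⁻¹)) * a⁻¹ = a * ((a⁻¹ * x * a⁻¹⁻¹) * ρ (ρ x)) * a⁻¹ := by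
      rw [h2]
    calc x * (a * ρ (ρ x) * a⁻¹) = a * ((a⁻¹ * x * a⁻¹⁻¹) * ρ (ρ x)) * a⁻¹ := by group
      _ = a * (ρ (ρ x) * (a⁻¹ * x * a⁻¹⁻¹)) * a⁻¹ := h4.symm
      _ = _ := by group
  have h5 : ρ x * ρ (ρ x) = x⁻¹ := by
    have := norm_one h x
    apply eq_inv_of_mul_eq_one_right
    rw [← mul_assoc]
    exact this
  have h6 : a * x⁻¹ * a⁻¹ = (a * ρ x * a⁻¹) * (a * ρ (ρ x) * a⁻¹) := by
    rw [← h5]; group
  have h7 : x * (a * x⁻¹ * a⁻¹) = (a * x⁻¹ * a⁻¹) * x := by
    rw [h6]
    calc x * ((a * ρ x * a⁻¹) * (a * ρ (ρ x) * a⁻¹))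
        = (x * (a * ρ x * a⁻¹)) * (a * ρ (ρ x) * a⁻¹) := by group
      _ = (a * ρ x * a⁻¹) * (x * (a * ρ (ρ x) * a⁻¹)) := by rw [h1]; group
      _ = (a * ρ x * a⁻¹) * ((a * ρ (ρ x) * a⁻¹) * x) := by rw [h3]
      _ = _ := by group
  have h8 : a * x⁻¹ * a⁻¹ = (a * x * a⁻¹)⁻¹ := by group
  rw [h8] at h7
  generalize a * x * a⁻¹ = g at h7 ⊢
  calc x * g = g * (g⁻¹ * x) * g := by group
    _ = g * (x * g⁻¹) * g := by rw [h7]
    _ = g * x := by group

theorem cm_comm_right (x y : T) : cm x y * y = y * cm x y := by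
  have h1 := engel h y x
  calc cm x y * y = x * y * x⁻¹ := by simp only [cm]; group
    _ = y * (x * y * x⁻¹) * y⁻¹ := by rw [h1]; group
    _ = y * cm x y := by simp only [cm]; group

/-- The triple commutator. -/
abbrev tc (x y z : T) : T := cm (cm x y) z

section Three

variable (hc : ∀ x y z : T, tc x y z ∈ Subgroup.center T)
include hc

omit h in
theorem tc_slot3 (x y z z' : T) : tc x y (z * z') = tc x y z * tc x y z' :=
  cm_mul_right_z _ _ _ (hc _ _ _)

omit h in
theorem tc_slot1 (x x' y z : T) : tc (x * x') y z = tc x y z * tc x' y z := by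
  have h1 : cm (x * x') y = (x * cm x' y * x⁻¹) * cm x y := cm_mul_left_id _ _ _
  simp only [tc]
  rw [h1, cm_mul_left_z _ _ _ _ (hc _ _ _), cm_conj_left x _ z (hc _ _)]
  · exact central (hc _ _ _) _
  · rw [cm_conj_left x _ z (hc _ _)]
    exact hc _ _ _

omit h in
theorem tc_slot2 (x y y' z : T) : tc x (y * y') z = tc x y z * tc x y' z := by
  have h1 : cm x (y * y') = cm x y * (y * cm x y' * y⁻¹) := cm_mul_right_id _ _ _
  simp only [tc]
  rw [h1, cm_mul_left_z _ _ _ (hc _ _ _), cm_conj_left y _ z (hc _ _)]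
  rw [cm_conj_left y _ z (hc _ _)]
  exact hc _ _ _

omit h in
theorem tc_swap12 (x y z : T) : tc y x z = (tc x y z)⁻¹ := by
  have h1 : tc x y z * tc y x z = 1 := by
    simp only [tc]
    rw [← cm_mul_left_z _ _ _ (hc _ _ _) (hc _ _ _), ← cm_inv_swap x y, mul_inv_cancel]
    simp [cm]
  exact eq_inv_of_mul_eq_one_right h1

theorem tc_self (x y : T) : tc x y y = 1 := by
  simp only [tc]
  rw [cm_eq_one_iff]
  exact cm_comm_right h x y

theorem tc_swap23 (x y z : T) : tc x z y = (tc x y z)⁻¹ := by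
  have h1 := tc_self h hc x (y * z)
  rw [tc_slot2 hc, tc_slot3 hc, tc_slot3 hc, tc_self h hc, tc_self h hc, one_mul, mul_one] at h1
  exact eq_inv_of_mul_eq_one_right h1

theorem tc_rho_self (a z : T) : tc a (ρ a) z = 1 := by
  simp only [tc]
  have h1 : cm a (ρ a) = 1 := cm_eq_one_iff.mpr (comm_self h a)
  rw [h1]
  simp [cm]

theorem tc_move (a b z : T) : tc (ρ a) b z = tc a (ρ b) z := by
  have h1 := tc_rho_self h hc (a * b) z
  rw [map_mul, tc_slot1 hc, tc_slot2 hc, tc_slot2 hc, tc_rho_self h hc, tc_rho_self h hc, one_mul,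
    mul_one] at h1
  have h2 : tc b (ρ a) z = (tc a (ρ b) z)⁻¹ := eq_inv_of_mul_eq_one_right h1
  rw [tc_swap12 hc b (ρ a) z, h2, inv_inv] 

theorem tc_move3 (x y z : T) : tc x y (ρ z) = tc (ρ x) y z := by
  rw [tc_swap23 h hc x (ρ z) y]
  have h1 := tc_move h hc x z y
  rw [← h1, tc_swap23 h hc (ρ x) y z, inv_inv]

theorem tc_eq_one (x y z : T) : tc x y z = 1 := by
  apply h.fp
  simp only [tc]
  rw [cm_map, cm_map]
  change tc (ρ x) (ρ y) (ρ z) = tc x y z
  have h1 := tc_move h hc (ρ x) y (ρ z)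
  rw [← h1, tc_move3 h hc, h.r3]

end Three

end Engel

section Quot

variable {T : Type*} [Group T] [Finite T]

/-- The automorphism induced on the quotient by the centre. -/
noncomputable def qaut (f : MulAut T) : MulAut (T ⧸ Subgroup.center T) :=
  QuotientGroup.congr _ _ f (by
    ext z
    constructor
    · rintro ⟨w, hw, rfl⟩
      exact center_map f hw
    · intro hz
      refine ⟨f⁻¹ z, center_map f⁻¹ hz, ?_⟩
      simp)

theorem qaut_mk (f : MulAut T) (t : T) :
    qaut f (t : T ⧸ Subgroup.center T) = ((f t : T) : T ⧸ Subgroup.center T) := rfl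

theorem fpf_qaut {ρ : MulAut T} (h : Fpf ρ) : Fpf (qaut ρ) := by
  constructor
  · intro t
    induction t using QuotientGroup.induction_on with
    | H t => rw [qaut_mk, qaut_mk, qaut_mk, h.r3]
  · intro y hy
    induction y using QuotientGroup.induction_on with
    | H t =>
      rw [qaut_mk] at hy
      have h1 : t⁻¹ * ρ t ∈ Subgroup.center T := QuotientGroup.eq.mp hy.symm
      have h2 := mem_of_fix_coset h (M := Subgroup.center T) (fun m hm => center_map ρ hm) h1
      exact (QuotientGroup.eq_one_iff _).mpr h2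

end Quot

universe u

/-- Neumann's theorem for `2`-groups: a fixed-point-free automorphism of order three forces
nilpotency class at most two. -/
theorem tc_one_aux : ∀ (n : ℕ) (T : Type u) [Group T] [Finite T], Nat.card T = n → IsPGroup 2 T →
    ∀ ρ : MulAut T, Fpf ρ → ∀ x y z : T, tc x y z = 1 := by
  intro n
  induction n using Nat.strong_induction_on with
  | _ n ih =>
    intro T _ _ hn hp ρ h x y z
    by_cases hN : Nontrivial T
    · have : Fact (Nat.Prime 2) := ⟨Nat.prime_two⟩
      have hZ : Nontrivial (Subgroup.center T) := hp.center_nontrivial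
      have hcard : Nat.card (T ⧸ Subgroup.center T) < n := by
        have h1 := Subgroup.card_mul_index (Subgroup.center T)
        have h2 : 1 < Nat.card (Subgroup.center T) := Finite.one_lt_card
        rw [Subgroup.index_eq_card] at h1
        have h3 : 0 < Nat.card (T ⧸ Subgroup.center T) := Nat.card_pos
        rw [← hn, ← h1]
        nlinarith
      have hc : ∀ x y z : T, tc x y z ∈ Subgroup.center T := by
        intro x y z
        have h1 := ih _ hcard (T ⧸ Subgroup.center T) rfl (hp.to_quotient _) (qaut ρ) (fpf_qaut h)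
          (x : T ⧸ Subgroup.center T) y z
        have h2 : ((tc x y z : T) : T ⧸ Subgroup.center T) = 1 := by
          simpa [tc, cm] using h1
        exact (QuotientGroup.eq_one_iff _).mp h2
      exact tc_eq_one h hc x y z
    · rw [not_nontrivial_iff_subsingleton] at hN
      exact Subsingleton.elim _ _

theorem cm_mem_center {T : Type u} [Group T] [Finite T] (hp : IsPGroup 2 T) {ρ : MulAut T}
    (h : Fpf ρ) (x y : T) : cm x y ∈ Subgroup.center T := by
  rw [Subgroup.mem_center_iff]
  intro z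
  have h1 := tc_one_aux _ T rfl hp ρ h x y z
  exact (cm_eq_one_iff.mp h1).symm

end Cfsg.Agent.Lib.Fpf3
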