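import Mathlib
import Cfsg.Agent.Lib.Fpf3

/-!
# Abelian `2`-groups with a fixed-point-free automorphism of order three
-/

set_option autoImplicit false
set_option linter.unusedSectionVars false
set_option linter.unusedSimpArgs false

namespace Cfsg.Agent.Lib.Fpf3B

open Cfsg.Agent.Lib.T64 Cfsg.Agent.Lib.Fpf3

section Basic

variable {T : Type*} [Group T] [Finite T] {ρ : MulAut T} (h : Fpf ρ)
include h

/-- Enumeration of an invariant subgroup of order four. -/
theorem enum_four {L : Subgroup T} (hρL : ∀ m ∈ L, ρ m ∈ L) (hL4 : Nat.card L = 4) {c : T}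
    (hc : c ∈ L) (hc1 : c ≠ 1) {z : T} (hz : z ∈ L) :
    z = 1 ∨ z = c ∨ z = ρ c ∨ z = ρ (ρ c) := by
  classical
  let e : Fin 4 → ↥L := ![1, ⟨c, hc⟩, ⟨ρ c, hρL _ hc⟩, ⟨ρ (ρ c), hρL _ (hρL _ hc)⟩]
  have hρ1 : ρ c ≠ 1 := fun h1 => hc1 (by simpa using h1)
  have hρ2 : ρ (ρ c) ≠ 1 := fun h1 => hc1 (by simpa using h1)
  have h12 : ρ c ≠ c := fun h1 => hc1 (h.fp _ h1)
  have h13 : ρ (ρ c) ≠ c := fun h1 => hc1 (by
    apply h.fp
    have h2 := congrArg ρ h1
    rw [h.r3] at h2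
    exact h2.symm)
  have h23 : ρ (ρ c) ≠ ρ c := fun h1 => h12 (ρ.injective h1)
  have hinj : Function.Injective e := by
    intro i j hij
    have hij' : ((e i : ↥L) : T) = e j := congrArg Subtype.val hij
    fin_cases i <;> fin_cases j <;> first | rfl | exfalso
    all_goals simp [e] at hij'
    all_goals first
      | exact hc1 hij'.symm
      | exact hρ1 hij'.symm
      | exact hρ2 hij'.symm
      | exact hc1 hij'
      | exact h12 hij'.symm
      | exact h13 hij'.symm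
      | exact hρ1 hij'
      | exact h12 hij'
      | exact h23 hij'.symm
      | exact hρ2 hij'
      | exact h13 hij'
  have hbij : Function.Bijective e := by
    rw [Nat.bijective_iff_injective_and_card]
    refine ⟨hinj, ?_⟩
    rw [hL4]
    simp
  obtain ⟨i, hi⟩ := hbij.2 ⟨z, hz⟩
  have hi' : ((e i : ↥L) : T) = z := congrArg Subtype.val hi
  fin_cases i
  · left; simpa [e] using hi'.symm
  · right; left; simpa [e] using hi'.symm
  · right; right; left; simpa [e] using hi'.symm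
  · right; right; right; simpa [e] using hi'.symm

/-- An invariant subgroup of order four is elementary abelian. -/
theorem sq_of_four {L : Subgroup T} (hρL : ∀ m ∈ L, ρ m ∈ L) (hL4 : Nat.card L = 4) {v : T}
    (hv : v ∈ L) : v ^ 2 = 1 := by
  by_contra hne
  have hu : v ^ 2 ∈ L := L.pow_mem hv 2
  have h4 : (v ^ 2) ^ 2 = 1 := by
    have h1 : (⟨v, hv⟩ : L) ^ Nat.card L = 1 := pow_card_eq_one'
    rw [hL4] at h1
    have h2 : v ^ 4 = 1 := by simpa using congrArg Subtype.val h1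
    rw [← pow_mul]
    exact h2
  have h5 : (ρ (v ^ 2)) ^ 2 = 1 := by rw [← map_pow, h4, map_one]
  have h6 : (ρ (ρ (v ^ 2))) ^ 2 = 1 := by rw [← map_pow, h5, map_one]
  rcases enum_four h hρL hL4 hu hne hv with h1 | h1 | h1 | h1
  · rw [h1] at hne; simp at hne
  · apply hne
    have h2 : v = v * v := by rw [← pow_two]; exact h1
    have h3 : v = 1 := by simpa using h2
    rw [h3, one_pow]
  · apply hne; rw [h1]; exact h5
  · apply hne; rw [h1]; exact h6

end Basic

section Parity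

variable {A : Type*} [Group A] [Finite A]

/-- An involution of a nontrivial finite `2`-group fixing `1` has another fixed point. -/
theorem exists_fix_invol (hp : IsPGroup 2 A) [Nontrivial A] (f : A → A) (hf : ∀ a, f (f a) = a)
    (h1 : f 1 = 1) : ∃ a, a ≠ 1 ∧ f a = a := by
  classical
  have : Fact (Nat.Prime 2) := ⟨Nat.prime_two⟩
  have : Fintype A := Fintype.ofFinite _
  let g : Function.End A := f
  have hg : g ^ (2 ^ 1) = 1 := by
    funext a
    exact hf a
  have h2 := Equiv.Perm.card_fixedPoints_modEq (p := 2) (n := 1) hg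
  have h3 : 2 ∣ Fintype.card A := by
    obtain ⟨n, hn⟩ := IsPGroup.iff_card.mp hp
    have h4 : 1 < Nat.card A := Finite.one_lt_card
    rw [Nat.card_eq_fintype_card] at hn h4
    rw [hn]
    refine dvd_pow_self 2 ?_
    rintro rfl
    simp [hn] at h4
  have h5 : 2 ∣ Fintype.card g.fixedPoints := by
    have h6 : Fintype.card g.fixedPoints ≡ 0 [MOD 2] :=
      h2.symm.trans ((Nat.modEq_zero_iff_dvd).mpr h3)
    exact (Nat.modEq_zero_iff_dvd).mp h6
  have h7 : 0 < Fintype.card g.fixedPoints :=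
    Fintype.card_pos_iff.mpr ⟨⟨1, h1⟩⟩
  have h8 : 1 < Fintype.card g.fixedPoints := by
    have := Nat.le_of_dvd h7 h5
    omega
  obtain ⟨⟨a, ha⟩, ⟨b, hb⟩, hab⟩ := Fintype.one_lt_card_iff.mp h8
  by_cases ha1 : a = 1
  · refine ⟨b, ?_, hb⟩
    rintro rfl
    exact hab (Subtype.ext ha1)
  · exact ⟨a, ha1, ha⟩

end Parity

section Abel

variable {Y : Type*} [Group Y] [Finite Y]

/-- Order `4` element below an element whose square is nontrivial. -/
theorem exists_order_four (hp : IsPGroup 2 Y) {y : Y} (hy : y ^ 2 ≠ 1) :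
    ∃ u : Y, u ^ 2 ≠ 1 ∧ u ^ 4 = 1 := by
  obtain ⟨k, hk⟩ := hp y
  have hk' : orderOf y ∣ 2 ^ k := orderOf_dvd_of_pow_eq_one hk
  obtain ⟨m, hm, hm2⟩ := (Nat.dvd_prime_pow Nat.prime_two).mp hk'
  have hm3 : 2 ≤ m := by
    by_contra hlt
    apply hy
    have h1 : orderOf y ∣ 2 := by
      rw [hm2]
      interval_cases m <;> simp at *
    exact orderOf_dvd_iff_pow_eq_one.mp h1
  refine ⟨y ^ (2 ^ (m - 2)), ?_, ?_⟩
  · rw [← pow_mul]
    intro h1
    have h2 := orderOf_dvd_of_pow_eq_one h1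
    rw [hm2, show 2 ^ (m - 2) * 2 = 2 ^ (m - 1) by rw [← pow_succ]; congr 1; omega] at h2
    have h3 := (Nat.pow_dvd_pow_iff_le_right (by norm_num)).mp h2
    omega
  · rw [← pow_mul]
    have h2 : 2 ^ (m - 2) * 4 = orderOf y := by
      rw [hm2, show (4 : ℕ) = 2 ^ 2 by norm_num, ← pow_add]
      congr 1; omega
    rw [h2]
    exact pow_orderOf_eq_one y

/-- If the fixed points of an involutory automorphism have order four and are not everything
of exponent two, the group is elementary of order `16`. -/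
theorem rank_four (hcomm : ∀ a b : Y, a * b = b * a) (hp : IsPGroup 2 Y) {ρ : MulAut Y}
    (h : Fpf ρ) (α : MulAut Y) (hα : ∀ y, α (α y) = y) (hαρ : ∀ y, α (ρ y) = ρ (α y))
    (L : Subgroup Y) (hL : ∀ y, α y = y ↔ y ∈ L) (hL4 : Nat.card L = 4) (w : Y) (hw : w ^ 2 = 1)
    (hwL : w ∉ L) : (∀ y : Y, y ^ 2 = 1) ∧ Nat.card Y = 16 := by
  let _ : CommGroup Y := { ‹Group Y› with mul_comm := hcomm }
  have hρL : ∀ m ∈ L, ρ m ∈ L := by
    intro m hm
    rw [← hL] at hm ⊢
    rw [hαρ, hm]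
  have hLsq : ∀ v ∈ L, v ^ 2 = 1 := fun v hv => sq_of_four h hρL hL4 hv
  let e : Y →* Y :=
    { toFun := fun y => α y * y⁻¹
      map_one' := by simp
      map_mul' := by
        intro a b
        simp only [map_mul, mul_inv]
        exact mul_mul_mul_comm _ _ _ _ }
  have he : ∀ y, e y = α y * y⁻¹ := fun y => rfl
  have he1 : ∀ y, e y = 1 ↔ y ∈ L := by
    intro y
    rw [he, ← hL, mul_inv_eq_one]
  have heα : ∀ y, α (e y) = (e y)⁻¹ := by
    intro y
    rw [he, map_mul, map_inv, hα, mul_inv, inv_inv, mul_comm]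
  have heL : ∀ y, (e y) ^ 2 = 1 → e y ∈ L := by
    intro y hy
    rw [← hL, heα]
    exact inv_eq_of_mul_eq_one_left (by rw [← pow_two]; exact hy)
  have heρ : ∀ y, e (ρ y) = ρ (e y) := by
    intro y
    simp only [he, map_mul, map_inv, hαρ]
  have hv0 : e w ≠ 1 := fun h1 => hwL ((he1 w).mp h1)
  have hv0L : e w ∈ L := heL w (by rw [← map_pow, hw, map_one])
  have hcov : ∀ v ∈ L, ∃ w', w' ^ 2 = 1 ∧ e w' = v := by
    intro v hv
    rcases enum_four h hρL hL4 hv0L hv0 hv with h1 | h1 | h1 | h1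
    · exact ⟨1, by simp, by rw [h1, map_one]⟩
    · exact ⟨w, hw, h1.symm⟩
    · refine ⟨ρ w, by rw [← map_pow, hw, map_one], ?_⟩
      rw [h1, heρ]
    · refine ⟨ρ (ρ w), by rw [← map_pow, ← map_pow, hw, map_one, map_one], ?_⟩
      rw [h1, heρ, heρ]
  have hall : ∀ y : Y, y ^ 2 = 1 := by
    by_contra hcon
    push Not at hcon
    obtain ⟨y, hy⟩ := hcon
    obtain ⟨y₁, hy₁, hy₁4⟩ := exists_order_four hp hy
    obtain ⟨y₂, hy₂, hy₂L⟩ : ∃ y₂ : Y, y₂ ^ 2 ≠ 1 ∧ y₂ ^ 2 ∈ L := by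
      by_cases hm : y₁ ^ 2 ∈ L
      · exact ⟨y₁, hy₁, hm⟩
      · refine ⟨e y₁, ?_, ?_⟩
        · rw [← map_pow]
          exact fun h1 => hm ((he1 _).mp h1)
        · rw [← map_pow]
          apply heL
          rw [← map_pow, ← pow_mul]
          rw [show 2 * 2 = 4 by norm_num, hy₁4, map_one]
    have h1 : e y₂ ∈ L := by
      apply heL
      rw [← map_pow]
      exact (he1 _).mpr hy₂L
    obtain ⟨w', hw', hw'e⟩ := hcov _ h1
    have h2 : y₂ * w'⁻¹ ∈ L := by
      rw [← he1, map_mul, map_inv, hw'e, mul_inv_cancel]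
    have h3 := hLsq _ h2
    apply hy₂
    rw [mul_pow, inv_pow, hw', inv_one, mul_one] at h3
    exact h3
  refine ⟨hall, ?_⟩
  have hker : e.ker = L := by
    ext y
    rw [MonoidHom.mem_ker, he1]
  have hrange : e.range = L := by
    apply le_antisymm
    · rintro _ ⟨y, rfl⟩
      exact heL y (hall _)
    · intro v hv
      obtain ⟨w', -, hw'⟩ := hcov v hv
      exact ⟨w', hw'⟩
  have h1 := Subgroup.card_mul_index e.ker
  rw [Subgroup.index_ker, hrange, hker, hL4] at h1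
  omega

end Abel

section Gen

variable {Y : Type*} [Group Y] [Finite Y]

/-- Cosets of an invariant subgroup of index four. -/
theorem coset_reps {ρ : MulAut Y} (h : Fpf ρ) {M : Subgroup Y} [M.Normal]
    (hM : ∀ m ∈ M, ρ m ∈ M) (hidx : M.index = 4) {a : Y} (ha : a ∉ M) (g : Y) :
    g ∈ M ∨ a⁻¹ * g ∈ M ∨ (ρ a)⁻¹ * g ∈ M ∨ (ρ (ρ a))⁻¹ * g ∈ M := by
  classical
  have hρa : ρ a ∉ M := fun h1 => ha (by
    have := hM _ (hM _ h1)
    rwa [h.r3] at this)
  have hρρa : ρ (ρ a) ∉ M := fun h1 => ha (by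
    have := hM _ h1
    rwa [h.r3] at this)
  let c : Fin 4 → Y := ![1, a, ρ a, ρ (ρ a)]
  have hinj : Function.Injective (fun i => (QuotientGroup.mk (c i) : Y ⧸ M)) := by
    have key : ∀ i j : Fin 4, i < j → (c i)⁻¹ * c j ∉ M := by
      intro i j hij
      fin_cases i <;> fin_cases j <;> simp at hij <;> simp [c]
      · exact ha
      · exact hρa
      · exact hρρa
      · exact fun h1 => ha (mem_of_fix_coset h hM h1)
      · intro h1
        apply hρρa
        apply mem_of_fix_coset h hM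
        have h2 := M.inv_mem h1
        simpa [h.r3] using h2
      · exact fun h1 => hρa (mem_of_fix_coset h hM h1)
    intro i j hij
    have hij' : (c i)⁻¹ * c j ∈ M := QuotientGroup.eq.mp hij
    by_contra hne'
    rcases lt_or_gt_of_ne hne' with hlt | hlt
    · exact key i j hlt hij'
    · apply key j i hlt
      have := M.inv_mem hij'
      simpa using this
  have hbij : Function.Bijective (fun i => (QuotientGroup.mk (c i) : Y ⧸ M)) := by
    rw [Nat.bijective_iff_injective_and_card]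
    refine ⟨hinj, ?_⟩
    rw [Nat.card_eq_fintype_card, Fintype.card_fin]
    exact hidx.symm
  obtain ⟨i, hi⟩ := hbij.2 (QuotientGroup.mk g)
  have hi' : (c i)⁻¹ * g ∈ M := QuotientGroup.eq.mp hi
  fin_cases i
  · left; simpa [c] using hi'
  · right; left; simpa [c] using hi'
  · right; right; left; simpa [c] using hi'
  · right; right; right; simpa [c] using hi'

/-- Generation by a non-square and its image. -/
theorem gen_of_omega (hcomm : ∀ a b : Y, a * b = b * a) (hp : IsPGroup 2 Y) {ρ : MulAut Y}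
    (h : Fpf ρ) (Ω : Subgroup Y) (hΩ : ∀ y, y ^ 2 = 1 ↔ y ∈ Ω) (hΩ4 : Nat.card Ω = 4) (e : Y)
    (he : ∀ g, g ^ 2 ≠ e) (g : Y) : ∃ i j : ℤ, e ^ i * (ρ e) ^ j = g := by
  let _ : CommGroup Y := { ‹Group Y› with mul_comm := hcomm }
  let sq : Y →* Y := powMonoidHom 2
  have hsq : ∀ y, sq y = y ^ 2 := fun y => rfl
  have hker : sq.ker = Ω := by
    ext y
    rw [MonoidHom.mem_ker, hsq, hΩ]
  let R := sq.range
  have hR : ∀ y, y ∈ R ↔ ∃ s, s ^ 2 = y := fun y => Iff.rfl
  have hidx : R.index = 4 := by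
    have h1 := Subgroup.card_mul_index sq.ker
    rw [Subgroup.index_ker, hker, hΩ4] at h1
    have h2 := Subgroup.card_mul_index R
    have h3 : 0 < Nat.card R := Nat.card_pos
    have h4 : Nat.card R * R.index = Nat.card R * 4 := by
      rw [h2, ← h1]; ring
    exact Nat.eq_of_mul_eq_mul_left h3 h4
  have hRρ : ∀ m ∈ R, ρ m ∈ R := by
    rintro m ⟨s, rfl⟩
    exact ⟨ρ s, by rw [hsq, hsq, map_pow]⟩
  have heR : e ∉ R := by
    rintro ⟨s, hs⟩
    exact he s hs
  have hnR : R.Normal := inferInstance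
  let H : Subgroup Y := Subgroup.closure {e, ρ e}
  have he1 : e ∈ H := Subgroup.subset_closure (by simp)
  have he2 : ρ e ∈ H := Subgroup.subset_closure (by simp)
  have he3 : ρ (ρ e) ∈ H := by
    have h1 : ρ (ρ e) = (e * ρ e)⁻¹ := eq_inv_of_mul_eq_one_right (norm_one h e)
    rw [h1]
    exact H.inv_mem (H.mul_mem he1 he2)
  have hdec : ∀ s : Y, ∃ c ∈ H, ∃ r : Y, s = c * r ^ 2 := by
    intro s
    rcases coset_reps h hRρ hidx heR s with h1 | h1 | h1 | h1
    · obtain ⟨r, hr⟩ := (hR _).mp h1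
      exact ⟨1, H.one_mem, r, by rw [hr, one_mul]⟩
    · obtain ⟨r, hr⟩ := (hR _).mp h1
      exact ⟨e, he1, r, by rw [hr]; group⟩
    · obtain ⟨r, hr⟩ := (hR _).mp h1
      exact ⟨ρ e, he2, r, by rw [hr]; group⟩
    · obtain ⟨r, hr⟩ := (hR _).mp h1
      exact ⟨ρ (ρ e), he3, r, by rw [hr]; group⟩
  have key : ∀ (k : ℕ) (g : Y), ∃ c ∈ H, ∃ s : Y, g = c * s ^ (2 ^ k) := by
    intro k
    induction k with
    | zero =>
      intro g
      exact ⟨1, H.one_mem, g, by simp⟩
    | succ k ih =>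
      intro g
      obtain ⟨c, hc, s, hs⟩ := ih g
      obtain ⟨c', hc', r, hr⟩ := hdec s
      refine ⟨c * c' ^ (2 ^ k), H.mul_mem hc (H.pow_mem hc' _), r, ?_⟩
      rw [hs, hr, mul_pow, ← pow_mul, mul_assoc, pow_succ']
  obtain ⟨m, hm⟩ := IsPGroup.iff_card.mp hp
  obtain ⟨c, hc, s, hs⟩ := key m g
  have h1 : s ^ (2 ^ m) = 1 := by
    rw [← hm]
    exact pow_card_eq_one'
  rw [h1, mul_one] at hs
  rw [hs]
  exact Subgroup.mem_closure_pair.mp hc

/-- The unique involution of a cyclic `2`-group. -/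
theorem uniq_invol {e b : Y} {n : ℕ} (he : orderOf e = 2 ^ (n + 1)) (hb : b ∈ Subgroup.zpowers e)
    (hb2 : b ^ 2 = 1) (hb1 : b ≠ 1) : b = e ^ (2 ^ n) := by
  obtain ⟨k, rfl⟩ := (mem_powers_iff_mem_zpowers).mpr hb
  have h1 : orderOf e ∣ k * 2 := by
    apply orderOf_dvd_of_pow_eq_one
    rw [pow_mul]
    exact hb2
  rw [he, pow_succ] at h1
  have h2 : 2 ^ n ∣ k := Nat.dvd_of_mul_dvd_mul_right (by norm_num) h1
  obtain ⟨l, rfl⟩ := h2
  have hu : (e ^ 2 ^ n) ^ 2 = 1 := by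
    rw [← pow_mul, ← pow_succ, ← he]
    exact pow_orderOf_eq_one e
  rcases Nat.even_or_odd' l with ⟨t, rfl | rfl⟩
  · exfalso
    apply hb1
    show (e ^ (2 ^ n * (2 * t))) = 1
    rw [pow_mul, pow_mul, hu, one_pow]
  · show (e ^ (2 ^ n * (2 * t + 1))) = e ^ 2 ^ n
    rw [pow_mul, pow_succ, pow_mul, hu, one_pow, one_mul]

/-- The homocyclic conclusion. -/
theorem homocyclic (hcomm : ∀ a b : Y, a * b = b * a) (hp : IsPGroup 2 Y) {ρ : MulAut Y}
    (h : Fpf ρ) (Ω : Subgroup Y) (hΩ : ∀ y, y ^ 2 = 1 ↔ y ∈ Ω) (hΩ4 : Nat.card Ω = 4) :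
    ∃ n : ℕ, 1 ≤ n ∧ Nonempty (Y ≃* Multiplicative (ZMod (2 ^ n)) × Multiplicative (ZMod (2 ^ n))) := by
  let _ : CommGroup Y := { ‹Group Y› with mul_comm := hcomm }
  obtain ⟨e, he⟩ := Finite.exists_max (orderOf : Y → ℕ)
  have hord : ∀ x : Y, ∃ k, orderOf x = 2 ^ k := by
    intro x
    obtain ⟨k, hk⟩ := hp x
    obtain ⟨m, -, hm⟩ := (Nat.dvd_prime_pow Nat.prime_two).mp (orderOf_dvd_of_pow_eq_one hk)
    exact ⟨m, hm⟩
  obtain ⟨n, hn⟩ := hord e
  have hnt : ∃ x : Y, x ≠ 1 := by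
    by_contra hcon
    push Not at hcon
    have h1 : Nat.card Ω = 1 := by
      rw [Nat.card_eq_one_iff_unique]
      refine ⟨⟨fun a b => Subtype.ext ((hcon _).trans (hcon _).symm)⟩, ⟨⟨1, Ω.one_mem⟩⟩⟩
    omega
  obtain ⟨x, hx⟩ := hnt
  have hn1 : n ≠ 0 := by
    rintro rfl
    rw [pow_zero] at hn
    apply hx
    have h1 := he x
    rw [hn] at h1
    have h2 : 0 < orderOf x := orderOf_pos x
    have h3 : orderOf x = 1 := by omega
    exact orderOf_eq_one_iff.mp h3
  obtain ⟨n, rfl⟩ : ∃ m, n = m + 1 := ⟨n - 1, by omega⟩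
  have hsq : ∀ g, g ^ 2 ≠ e := by
    intro g hg
    obtain ⟨k, hk⟩ := hord g
    have hk0 : k ≠ 0 := by
      rintro rfl
      rw [pow_zero, orderOf_eq_one_iff] at hk
      rw [hk, one_pow] at hg
      rw [← hg, orderOf_one] at hn
      have : 2 ≤ 2 ^ (n + 1) := by
        rw [pow_succ]
        have : 1 ≤ 2 ^ n := Nat.one_le_two_pow
        omega
      omega
    obtain ⟨k, rfl⟩ : ∃ m, k = m + 1 := ⟨k - 1, by omega⟩
    have h1 : orderOf (g ^ 2) = orderOf g / 2 :=
      orderOf_pow_of_dvd (by norm_num) (by rw [hk, pow_succ]; exact Nat.dvd_mul_left _ _)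
    have h2 := he g
    rw [← hg, h1, hk, pow_succ, Nat.mul_div_cancel _ (by norm_num : 0 < 2)] at h2
    have h3 : 0 < 2 ^ k := by positivity
    omega
  have hgen := gen_of_omega hcomm hp h Ω hΩ hΩ4 e hsq
  have hn' : orderOf (ρ e) = 2 ^ (n + 1) := by
    rw [← hn]
    exact MulEquiv.orderOf_eq ρ e
  have hdisj : ∀ a, a ∈ Subgroup.zpowers e → a ∈ Subgroup.zpowers (ρ e) → a = 1 := by
    intro a ha ha'
    by_contra ha1
    obtain ⟨t, ht⟩ := hord a
    have ht0 : t ≠ 0 := by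
      rintro rfl
      rw [pow_zero, orderOf_eq_one_iff] at ht
      exact ha1 ht
    obtain ⟨t, rfl⟩ : ∃ m, t = m + 1 := ⟨t - 1, by omega⟩
    have hb2 : (a ^ (2 ^ t)) ^ 2 = 1 := by
      rw [← pow_mul, ← pow_succ, ← ht]
      exact pow_orderOf_eq_one a
    have hb1 : a ^ (2 ^ t) ≠ 1 := by
      intro hb
      have h1 := orderOf_dvd_of_pow_eq_one hb
      rw [ht, pow_succ] at h1
      have h2 : 0 < 2 ^ t := by positivity
      have h3 := Nat.le_of_dvd h2 h1
      omega
    have h1 := uniq_invol hn (Subgroup.pow_mem _ ha _) hb2 hb1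
    have h2 := uniq_invol hn' (Subgroup.pow_mem _ ha' _) hb2 hb1
    rw [h1, ← map_pow] at h2
    have h3 := h.fp _ h2.symm
    apply hb1
    rw [h1, h3]
  let F : Subgroup.zpowers e × Subgroup.zpowers (ρ e) →* Y :=
    { toFun := fun p => (p.1 : Y) * p.2
      map_one' := by simp
      map_mul' := by
        intro p q
        simp only [Prod.fst_mul, Prod.snd_mul, Subgroup.coe_mul]
        exact mul_mul_mul_comm _ _ _ _ }
  have hF : Function.Bijective F := by
    constructor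
    · rw [injective_iff_map_eq_one]
      rintro ⟨a, b⟩ hab
      have h1 : (a : Y) * b = 1 := hab
      have h2 : (a : Y) = (b : Y)⁻¹ := eq_inv_of_mul_eq_one_left h1
      have h3 : (a : Y) = 1 := hdisj _ a.2 (by rw [h2]; exact Subgroup.inv_mem _ b.2)
      have h4 : (b : Y) = 1 := by
        rw [h3, one_mul] at h1
        exact h1
      exact Prod.ext (Subtype.ext h3) (Subtype.ext h4)
    · intro g
      obtain ⟨i, j, hij⟩ := hgen g
      exact ⟨(⟨e ^ i, zpow_mem (Subgroup.mem_zpowers e) i⟩,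
        ⟨(ρ e) ^ j, zpow_mem (Subgroup.mem_zpowers (ρ e)) j⟩), hij⟩
  have hc1 : Nat.card (Subgroup.zpowers e) = Nat.card (Multiplicative (ZMod (2 ^ (n + 1)))) := by
    rw [Nat.card_zpowers, hn, Nat.card_congr Multiplicative.toAdd, Nat.card_zmod]
  have hc2 : Nat.card (Subgroup.zpowers (ρ e)) = Nat.card (Multiplicative (ZMod (2 ^ (n + 1)))) := by
    rw [Nat.card_zpowers, hn', Nat.card_congr Multiplicative.toAdd, Nat.card_zmod]
  refine ⟨n + 1, by omega, ⟨(MulEquiv.ofBijective F hF).symm.trans ?_⟩⟩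
  exact MulEquiv.prodCongr (mulEquivOfCyclicCardEq hc1) (mulEquivOfCyclicCardEq hc2)

end Gen

end Cfsg.Agent.Lib.Fpf3B
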