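import Mathlib
import Cfsg.Agent.Lib.Fpf3B

/-!
# `2`-groups with commuting automorphisms of order two and three

The fixed points of the involution form a central four-group, the element of order three acts
without fixed points.
-/

set_option autoImplicit false
set_option linter.unusedSectionVars false
set_option linter.unusedSimpArgs false

namespace Cfsg.Agent.Lib.Fpf3C

open Cfsg.Agent.Lib.T64 Cfsg.Agent.Lib.Fpf3 Cfsg.Agent.Lib.Fpf3B

universe u

section Dich

variable {Y : Type*} [Group Y] [Finite Y]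

/-- Either the involution inverts, or its first cohomology vanishes. -/
theorem inv_or_cobound (hcomm : ∀ a b : Y, a * b = b * a) {ρ : MulAut Y} (h : Fpf ρ)
    (α : MulAut Y) (hα : ∀ y, α (α y) = y) (hαρ : ∀ y, α (ρ y) = ρ (α y)) (L : Subgroup Y)
    (hL : ∀ y, α y = y ↔ y ∈ L) (hL4 : Nat.card L = 4) :
    (∀ y, α y = y⁻¹) ∨ (∀ y, y * α y = 1 → ∃ z, y = α z * z⁻¹) := by
  let _ : CommGroup Y := { ‹Group Y› with mul_comm := hcomm }
  by_cases hn : ∃ y, y * α y ≠ 1
  · right
    obtain ⟨y₀, hy₀⟩ := hn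
    let n : Y →* Y :=
      { toFun := fun y => y * α y
        map_one' := by simp
        map_mul' := by
          intro a b
          simp only [map_mul]
          exact mul_mul_mul_comm _ _ _ _ }
    let e : Y →* Y :=
      { toFun := fun y => α y * y⁻¹
        map_one' := by simp
        map_mul' := by
          intro a b
          simp only [map_mul, mul_inv]
          exact mul_mul_mul_comm _ _ _ _ }
    have hn' : ∀ y, n y = y * α y := fun y => rfl
    have he' : ∀ y, e y = α y * y⁻¹ := fun y => rfl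
    have hρL : ∀ m ∈ L, ρ m ∈ L := by
      intro m hm
      rw [← hL] at hm ⊢
      rw [hαρ, hm]
    have hnL : ∀ y, n y ∈ L := by
      intro y
      rw [← hL, hn', map_mul, hα, mul_comm]
    have hnρ : ∀ y, n (ρ y) = ρ (n y) := by
      intro y
      simp only [hn', map_mul, hαρ]
    have hrn : n.range = L := by
      apply le_antisymm
      · rintro _ ⟨y, rfl⟩
        exact hnL y
      · intro v hv
        rcases enum_four h hρL hL4 (hnL y₀) hy₀ hv with h1 | h1 | h1 | h1
        · exact ⟨1, by rw [h1, map_one]⟩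
        · exact ⟨y₀, h1.symm⟩
        · exact ⟨ρ y₀, by rw [h1, hnρ]⟩
        · exact ⟨ρ (ρ y₀), by rw [h1, hnρ, hnρ]⟩
    have hke : e.ker = L := by
      ext y
      rw [MonoidHom.mem_ker, he', mul_inv_eq_one, hL]
    have hle : e.range ≤ n.ker := by
      rintro _ ⟨y, rfl⟩
      rw [MonoidHom.mem_ker, hn', he', map_mul, map_inv, hα]
      group
    have h1 := Subgroup.card_mul_index e.ker
    have h2 := Subgroup.card_mul_index n.ker
    rw [Subgroup.index_ker, hke, hL4] at h1
    rw [Subgroup.index_ker, hrn, hL4] at h2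
    have h3 : Nat.card e.range = Nat.card n.ker := by omega
    have h4 : e.range = n.ker := Subgroup.eq_of_le_of_card_ge hle (by rw [h3])
    intro y hy
    have h5 : y ∈ n.ker := hy
    rw [← h4] at h5
    obtain ⟨z, hz⟩ := h5
    exact ⟨z, hz.symm⟩
  · left
    push Not at hn
    intro y
    exact eq_inv_of_mul_eq_one_right (hn y)

/-- The squares of a commutative group form a subgroup of index four if four elements have square
one. -/
theorem index_squares (_hcomm : ∀ a b : Y, a * b = b * a) (sq : Y →* Y) (hsq : ∀ y, sq y = y ^ 2)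
    (Ω : Subgroup Y) (hΩ : ∀ y, y ^ 2 = 1 ↔ y ∈ Ω) (hΩ4 : Nat.card Ω = 4) : sq.range.index = 4 := by
  have hker : sq.ker = Ω := by
    ext y
    rw [MonoidHom.mem_ker, hsq, hΩ]
  have h1 := Subgroup.card_mul_index sq.ker
  rw [Subgroup.index_ker, hker, hΩ4] at h1
  have h2 := Subgroup.card_mul_index sq.range
  have h3 : 0 < Nat.card sq.range := Nat.card_pos
  have h4 : Nat.card sq.range * sq.range.index = Nat.card sq.range * 4 := by
    rw [h2, ← h1]; ring
  exact Nat.eq_of_mul_eq_mul_left h3 h4

end Dich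

section Main

variable {T : Type u} [Group T] [Finite T]

local notation "Z'" => Subgroup.center T

/-- The abelian case. -/
theorem finish_abelian (hp : IsPGroup 2 T) {ρ : MulAut T} (h : Fpf ρ) (α : MulAut T)
    (hα : ∀ x, α (α x) = x) (hαρ : ∀ x, α (ρ x) = ρ (α x)) (V : Subgroup T)
    (hV : ∀ x, α x = x ↔ x ∈ V) (hV4 : Nat.card V = 4) (hcomm : ∀ a b : T, a * b = b * a) :
    (Nat.card T = 16 ∧ ∀ x : T, x ^ 2 = 1) ∨
      (∃ n : ℕ, 1 ≤ n ∧ Nonempty (T ≃* Multiplicative (ZMod (2 ^ n)) × Multiplicative (ZMod (2 ^ n)))) := by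
  by_cases hΩ : ∀ w : T, w ^ 2 = 1 → w ∈ V
  · right
    have hVρ : ∀ m ∈ V, ρ m ∈ V := by
      intro m hm
      rw [← hV] at hm ⊢
      rw [hαρ, hm]
    exact homocyclic hcomm hp h V (fun y => ⟨hΩ y, fun hy => sq_of_four h hVρ hV4 hy⟩) hV4
  · left
    push Not at hΩ
    obtain ⟨w, hw, hwV⟩ := hΩ
    obtain ⟨h1, h2⟩ := rank_four hcomm hp h α hα hαρ V hV hV4 w hw hwV
    exact ⟨h2, h1⟩

theorem sq_mul_cl {a b : T} (hc : cm b a ∈ Subgroup.center T) :
    (a * b) ^ 2 = cm b a * a ^ 2 * b ^ 2 := by
  have h1 : b * a = cm b a * (a * b) := by simp only [cm]; group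
  calc (a * b) ^ 2 = a * (b * a) * b := by simp only [pow_two]; group
    _ = a * (cm b a * (a * b)) * b := by rw [h1]
    _ = (a * cm b a) * (a * b) * b := by group
    _ = (cm b a * a) * (a * b) * b := by rw [central hc a]
    _ = _ := by simp only [pow_two]; group

/-- Restriction of an automorphism to the centre. -/
theorem centerCongr_coe (f : MulAut T) (z : Subgroup.center T) :
    ((Subgroup.centerCongr f z : Subgroup.center T) : T) = f z := rfl

/-- The nonabelian case. -/
theorem main_nonabelian (hp : IsPGroup 2 T) {ρ : MulAut T} (h : Fpf ρ) (α : MulAut T)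
    (hα : ∀ x, α (α x) = x) (hαρ : ∀ x, α (ρ x) = ρ (α x)) (V : Subgroup T)
    (hV : ∀ x, α x = x ↔ x ∈ V) (hVZ : V ≤ Subgroup.center T) (hV4 : Nat.card V = 4)
    (x₀ : T) (hx₀ : x₀ ∉ Subgroup.center T) : Nat.card T = 64 := by
  classical
  have : Fact (Nat.Prime 2) := ⟨Nat.prime_two⟩
  have hcl := cm_mem_center hp h
  have hVρ : ∀ m ∈ V, ρ m ∈ V := by
    intro m hm
    rw [← hV] at hm ⊢
    rw [hαρ, hm]
  have hVsq : ∀ v ∈ V, v ^ 2 = 1 := fun v hv => sq_of_four h hVρ hV4 hv
  -- objects on the quotient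
  have hnt : Nontrivial (T ⧸ Subgroup.center T) := by
    refine ⟨(x₀ : T ⧸ Subgroup.center T), 1, ?_⟩
    intro h1
    exact hx₀ ((QuotientGroup.eq_one_iff _).mp h1)
  have hcommA : ∀ a b : T ⧸ Subgroup.center T, a * b = b * a := by
    intro a b
    induction a using QuotientGroup.induction_on with
    | H a =>
      induction b using QuotientGroup.induction_on with
      | H b =>
        rw [← QuotientGroup.mk_mul, ← QuotientGroup.mk_mul, QuotientGroup.eq]
        have h1 := hcl b⁻¹ a⁻¹
        have h2 : (a * b)⁻¹ * (b * a) = cm b⁻¹ a⁻¹ := by simp only [cm]; group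
        rw [h2]
        exact h1
  have hpA : IsPGroup 2 (T ⧸ Subgroup.center T) := hp.to_quotient _
  have hFA := fpf_qaut h
  have hαA : ∀ a, qaut α (qaut α a) = a := by
    intro a
    induction a using QuotientGroup.induction_on with
    | H a => rw [qaut_mk, qaut_mk, hα]
  have hαρA : ∀ a, qaut α (qaut ρ a) = qaut ρ (qaut α a) := by
    intro a
    induction a using QuotientGroup.induction_on with
    | H a => rw [qaut_mk, qaut_mk, qaut_mk, qaut_mk, hαρ]
  have hy : ∀ x : T, qaut α (x : T ⧸ Subgroup.center T) = x ↔ α x * x⁻¹ ∈ Subgroup.center T := by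
    intro x
    rw [qaut_mk, ← QuotientGroup.eq_one_iff, QuotientGroup.mk_mul, QuotientGroup.mk_inv,
      mul_inv_eq_one]
  -- a fixed point on the quotient
  obtain ⟨a₁, ha₁, ha₁f⟩ := exists_fix_invol hpA (qaut α) hαA (map_one _)
  -- the structure on the centre
  let αZ : MulAut (Subgroup.center T) := Subgroup.centerCongr α
  let ρZ : MulAut (Subgroup.center T) := Subgroup.centerCongr ρ
  have hαZ : ∀ z : Subgroup.center T, ((αZ z : Subgroup.center T) : T) = α z := fun z => rfl
  have hρZ : ∀ z : Subgroup.center T, ((ρZ z : Subgroup.center T) : T) = ρ z := fun z => rfl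
  have hFZ : Fpf ρZ :=
    ⟨fun t => Subtype.ext (h.r3 _), fun y hy => Subtype.ext (h.fp _ (congrArg Subtype.val hy))⟩
  have hZcomm : ∀ a b : Subgroup.center T, a * b = b * a := fun a b =>
    Subtype.ext (central b.2 a)
  have hLZ : ∀ y : Subgroup.center T, αZ y = y ↔ y ∈ V.subgroupOf (Subgroup.center T) := by
    intro y
    rw [Subgroup.mem_subgroupOf, ← hV, Subtype.ext_iff]
    rfl
  have hLZ4 : Nat.card (V.subgroupOf (Subgroup.center T)) = 4 := by
    rw [Nat.card_congr (Subgroup.subgroupOfEquivOfLe hVZ).toEquiv, hV4]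
  rcases inv_or_cobound hZcomm hFZ αZ (fun y => Subtype.ext (hα _))
    (fun y => Subtype.ext (hαρ _)) _ hLZ hLZ4 with hinv | hcob
  swap
  · -- first cohomology vanishes
    exfalso
    induction a₁ using QuotientGroup.induction_on with
    | H x =>
      have hxZ : α x * x⁻¹ ∈ Subgroup.center T := (hy x).mp ha₁f
      apply ha₁
      rw [QuotientGroup.eq_one_iff]
      have hc := central hxZ
      have h1 : (⟨_, hxZ⟩ : Subgroup.center T) * αZ ⟨_, hxZ⟩ = 1 := by
        apply Subtype.ext
        show α x * x⁻¹ * α (α x * x⁻¹) = 1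
        rw [map_mul, map_inv, hα]
        group
      obtain ⟨z, hz⟩ := hcob _ h1
      have hz' : α x * x⁻¹ = α z * (z : T)⁻¹ := congrArg Subtype.val hz
      have h2 : x * (z : T)⁻¹ ∈ V := by
        rw [← hV, map_mul, map_inv]
        obtain ⟨y, hyy⟩ : ∃ y, y = α x * x⁻¹ := ⟨_, rfl⟩
        rw [← hyy] at hc hz'
        have h3 : α x = y * x := by rw [hyy]; group
        have h4 : α (z : T) = y * z := by rw [hz', inv_mul_cancel_right]
        rw [h3, h4, ← hc x, ← hc (z : T)]
        group
      have h5 := hVZ h2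
      have h6 : x = (x * (z : T)⁻¹) * z := by group
      rw [h6]
      exact Subgroup.mul_mem _ h5 z.2
  -- the involution inverts the centre
  have hinv' : ∀ z ∈ Subgroup.center T, α z = z⁻¹ := fun z hz => congrArg Subtype.val (hinv ⟨z, hz⟩)
  have hΩZ : ∀ z ∈ Subgroup.center T, z ^ 2 = 1 ↔ z ∈ V := by
    intro z hz
    constructor
    · intro h1
      rw [← hV, hinv' z hz]
      exact inv_eq_of_mul_eq_one_left (by rw [← pow_two]; exact h1)
    · exact hVsq z
  have hnonsq : ∀ x z : T, z ∈ Subgroup.center T → α x * x⁻¹ = z ^ 2 → x ∈ Subgroup.center T := by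
    intro x z hz hxz
    have h1 : x * z ∈ V := by
      rw [← hV, map_mul, hinv' z hz]
      have h2 : α x = z ^ 2 * x := by rw [← hxz]; group
      rw [h2, pow_two]
      calc z * z * x * z⁻¹ = z * (z * x) * z⁻¹ := by group
        _ = z * (x * z) * z⁻¹ := by rw [central hz x]
        _ = (z * x) * (z * z⁻¹) := by group
        _ = x * z := by rw [mul_inv_cancel, mul_one, central hz x]
    have h3 := hVZ h1
    have h4 : x = (x * z) * z⁻¹ := by group
    rw [h4]
    exact Subgroup.mul_mem _ h3 (Subgroup.inv_mem _ hz)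
  -- the squares of the centre
  let sqZ : Subgroup.center T →* Subgroup.center T :=
    { toFun := fun y => y ^ 2
      map_one' := one_pow 2
      map_mul' := fun a b => (show Commute a b from hZcomm a b).mul_pow 2 }
  have hsqZ : ∀ y, sqZ y = y ^ 2 := fun y => rfl
  have hSidx : sqZ.range.index = 4 := by
    refine index_squares hZcomm sqZ hsqZ _ ?_ hLZ4
    intro y
    rw [Subgroup.mem_subgroupOf, ← hΩZ _ y.2]
    constructor
    · intro h1
      exact congrArg Subtype.val h1
    · intro h1
      exact Subtype.ext h1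
  have hcardQ : Nat.card (Subgroup.center T ⧸ sqZ.range) = 4 := hSidx
  -- the fixed points in the quotient
  let L : Subgroup (T ⧸ Subgroup.center T) := (qaut α).toMonoidHom.eqLocus (MonoidHom.id _)
  have hL : ∀ a, qaut α a = a ↔ a ∈ L := fun a => Iff.rfl
  have hρL : ∀ m ∈ L, qaut ρ m ∈ L := by
    intro m hm
    rw [← hL] at hm ⊢
    rw [hαρA, hm]
  have hcardL : Nat.card L = 4 := by
    have hle : Nat.card L ≤ 4 := by
      rw [← hcardQ]
      let out' : L → T := fun a => Quotient.out (a : T ⧸ Subgroup.center T)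
      have hout : ∀ a : L, ((out' a : T) : T ⧸ Subgroup.center T) = a := fun a =>
        QuotientGroup.out_eq' _
      have hmem : ∀ a : L, α (out' a) * (out' a)⁻¹ ∈ Subgroup.center T := by
        intro a
        rw [← hy, hout]
        exact a.2
      let φ : L → Subgroup.center T ⧸ sqZ.range := fun a => QuotientGroup.mk ⟨_, hmem a⟩
      apply Nat.card_le_card_of_injective φ
      intro a b hab
      have h1 := QuotientGroup.eq.mp hab
      obtain ⟨s, hs⟩ := h1
      have hs' : (s : T) ^ 2 = (α (out' a) * (out' a)⁻¹)⁻¹ * (α (out' b) * (out' b)⁻¹) :=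
        congrArg Subtype.val hs
      have h2 : out' b * (out' a)⁻¹ ∈ Subgroup.center T := by
        apply hnonsq _ (s : T) s.2
        rw [hs', map_mul, map_inv]
        have hya' := hmem a
        have hyb' := hmem b
        obtain ⟨ya, hya⟩ : ∃ ya, ya = α (out' a) * (out' a)⁻¹ := ⟨_, rfl⟩
        obtain ⟨yb, hyb⟩ : ∃ yb, yb = α (out' b) * (out' b)⁻¹ := ⟨_, rfl⟩
        rw [← hya] at hya' ⊢
        rw [← hyb] at hyb' ⊢
        have e1 : α (out' a) = ya * out' a := by rw [hya]; group
        have e2 : α (out' b) = yb * out' b := by rw [hyb]; group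
        rw [e1, e2]
        have h3 : (out' b * (out' a)⁻¹) * ya⁻¹ = ya⁻¹ * (out' b * (out' a)⁻¹) :=
          central (Subgroup.inv_mem _ hya') _
        calc yb * out' b * (ya * out' a)⁻¹ * (out' b * (out' a)⁻¹)⁻¹
            = yb * ((out' b * (out' a)⁻¹) * ya⁻¹) * (out' b * (out' a)⁻¹)⁻¹ := by group
          _ = yb * ya⁻¹ := by rw [h3]; group
          _ = ya⁻¹ * yb := central (Subgroup.inv_mem _ hya') _
      have h3 : ((out' b : T) : T ⧸ Subgroup.center T) = out' a := by
        have h4 := (QuotientGroup.eq_one_iff _).mpr h2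
        rw [QuotientGroup.mk_mul, QuotientGroup.mk_inv, mul_inv_eq_one] at h4
        exact h4
      rw [hout, hout] at h3
      exact (Subtype.ext h3).symm
    have h3 := card_mod3 hFA (M := L) hρL
    have h4 : Nat.card L ≠ 1 := by
      intro h5
      have h6 : L = ⊥ := Subgroup.card_eq_one.mp h5
      have h7 : a₁ ∈ L := ha₁f
      rw [h6] at h7
      exact ha₁ (by simpa using h7)
    have h5 : 0 < Nat.card L := Nat.card_pos
    omega
  have hLsq : ∀ a ∈ L, a ^ 2 = 1 := fun a ha => sq_of_four hFA hρL hcardL ha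
  by_cases hΩA : ∀ a : T ⧸ Subgroup.center T, a ^ 2 = 1 → a ∈ L
  · -- generation by two commuting elements: contradiction
    exfalso
    have hΩ' : ∀ a, a ^ 2 = 1 ↔ a ∈ L := fun a => ⟨hΩA a, hLsq a⟩
    obtain ⟨e, he⟩ : ∃ e : T ⧸ Subgroup.center T, ∀ g, g ^ 2 ≠ e := by
      by_contra hcon
      push Not at hcon
      have hsurj : Function.Surjective (fun g : T ⧸ Subgroup.center T => g ^ 2) := fun e => hcon e
      have hinj := Finite.injective_iff_surjective.mpr hsurj
      have h1 : a₁ ^ 2 = 1 := hLsq a₁ ha₁f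
      exact ha₁ (hinj (by simpa using h1))
    induction e using QuotientGroup.induction_on with
    | H x =>
      have hgen := gen_of_omega hcommA hpA hFA L hΩ' hcardL _ he
      have hdec : ∀ s : T, ∃ (i j : ℤ) (z : T), z ∈ Subgroup.center T ∧
          s = x ^ i * (ρ x) ^ j * z := by
        intro s
        obtain ⟨i, j, hij⟩ := hgen (s : T ⧸ Subgroup.center T)
        rw [qaut_mk, ← QuotientGroup.mk_zpow, ← QuotientGroup.mk_zpow, ← QuotientGroup.mk_mul,
          QuotientGroup.eq] at hij
        exact ⟨i, j, _, hij, by group⟩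
      have hc0 : Commute x (ρ x) := comm_self h x
      have hcom : ∀ i j i' j' : ℤ, Commute (x ^ i * (ρ x) ^ j) (x ^ i' * (ρ x) ^ j') := by
        intro i j i' j'
        apply Commute.mul_left
        · apply Commute.mul_right
          · exact Commute.zpow_zpow_self x i i'
          · exact hc0.zpow_zpow i j'
        · apply Commute.mul_right
          · exact hc0.symm.zpow_zpow j i'
          · exact Commute.zpow_zpow_self _ j j'
      apply hx₀
      rw [Subgroup.mem_center_iff]
      intro g
      obtain ⟨i, j, z, hz, hs⟩ := hdec g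
      obtain ⟨i', j', z', hz', hs'⟩ := hdec x₀
      rw [hs, hs']
      have h1 := (hcom i j i' j').eq
      generalize x ^ i * (ρ x) ^ j = C at *
      generalize x ^ i' * (ρ x) ^ j' = C' at *
      calc C * z * (C' * z') = C * (z * C') * z' := by group
        _ = C * (C' * z) * z' := by rw [central hz C']
        _ = (C * C') * (z * z') := by group
        _ = (C' * C) * (z' * z) := by rw [h1, central hz z']
        _ = C' * (C * z') * z := by group
        _ = C' * (z' * C) * z := by rw [central hz' C]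
        _ = _ := by group
  · push Not at hΩA
    obtain ⟨w₀, hw₀, hw₀L⟩ := hΩA
    obtain ⟨hAsq, hAcard⟩ := rank_four hcommA hpA hFA (qaut α) hαA hαρA L hL hcardL w₀ hw₀ hw₀L
    have hsqT : ∀ x : T, x ^ 2 ∈ Subgroup.center T := by
      intro x
      rw [← QuotientGroup.eq_one_iff, QuotientGroup.mk_pow]
      exact hAsq _
    have hcmV : ∀ a b : T, cm a b ∈ V := by
      intro a b
      rw [← hΩZ _ (hcl a b), pow_two, ← cm_mul_left_z a a b (hcl _ _) (hcl _ _)]
      apply cm_central_left
      rw [← pow_two]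
      exact hsqT a
    have hZV : ∀ z ∈ Subgroup.center T, z ∈ V := by
      by_contra hcon
      push Not at hcon
      obtain ⟨z, hz, hzV⟩ := hcon
      have hz2 : z ^ 2 ≠ 1 := fun h1 => hzV ((hΩZ z hz).mp h1)
      obtain ⟨u, hu, hu4⟩ := exists_order_four (hp.to_subgroup (Subgroup.center T))
        (y := ⟨z, hz⟩) (by
          intro h1
          exact hz2 (congrArg Subtype.val h1))
      have hu' : (u : T) ^ 2 ≠ 1 := fun h1 => hu (Subtype.ext h1)
      have hu4' : (u : T) ^ 4 = 1 := congrArg Subtype.val hu4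
      have hv0 : (u : T) ^ 2 ∈ V := by
        rw [← hΩZ _ (Subgroup.pow_mem _ u.2 2), ← pow_mul]
        exact hu4'
      have hVS : ∀ v ∈ V, ∃ s : Subgroup.center T, (s : T) ^ 2 = v := by
        intro v hv
        rcases enum_four h hVρ hV4 hv0 hu' hv with h1 | h1 | h1 | h1
        · exact ⟨1, by simp [h1]⟩
        · exact ⟨u, h1.symm⟩
        · exact ⟨ρZ u, by rw [h1, hρZ, map_pow]⟩
        · exact ⟨ρZ (ρZ u), by rw [h1, hρZ, hρZ, map_pow, map_pow]⟩
      have hnS : sqZ.range.Normal :=
        ⟨fun n hn g => by rw [hZcomm g n, mul_inv_cancel_right]; exact hn⟩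
      let sm : T →* Subgroup.center T ⧸ sqZ.range :=
        MonoidHom.mk' (fun x => QuotientGroup.mk ⟨x ^ 2, hsqT x⟩) (by
          intro a b
          rw [← QuotientGroup.mk_mul, QuotientGroup.eq]
          obtain ⟨s, hs⟩ := hVS _ (hcmV a b)
          refine ⟨s, ?_⟩
          apply Subtype.ext
          show (s : T) ^ 2 = ((a * b) ^ 2)⁻¹ * (a ^ 2 * b ^ 2)
          rw [hs, sq_mul_cl (hcl b a), mul_assoc (cm b a)]
          have hc' : (cm b a)⁻¹ ∈ Subgroup.center T := Subgroup.inv_mem _ (hcl b a)
          have h1 : cm a b = (cm b a)⁻¹ := (cm_inv_swap a b ▸ (inv_inv (cm a b)).symm)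
          rw [h1]
          generalize a ^ 2 * b ^ 2 = w
          generalize cm b a = c at *
          calc c⁻¹ = w⁻¹ * (w * c⁻¹) := by group
            _ = w⁻¹ * (c⁻¹ * w) := by rw [central hc' w]
            _ = _ := by group)
      have hsm : ∀ x, sm x = QuotientGroup.mk ⟨x ^ 2, hsqT x⟩ := fun x => rfl
      have hsm1 : ∀ w, sm w = 1 ↔ ∃ t : Subgroup.center T, (t : T) ^ 2 = w ^ 2 := by
        intro w
        rw [hsm, QuotientGroup.eq_one_iff]
        constructor
        · rintro ⟨t, ht⟩
          exact ⟨t, congrArg Subtype.val ht⟩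
        · rintro ⟨t, ht⟩
          exact ⟨t, Subtype.ext ht⟩
      have hkeyL : ∀ w, sm w = 1 → α w * w⁻¹ ∈ Subgroup.center T → w ∈ Subgroup.center T := by
        intro w hw1 hwy
        obtain ⟨t, ht⟩ := (hsm1 w).mp hw1
        obtain ⟨y, hy'⟩ : ∃ y, y = α w * w⁻¹ := ⟨_, rfl⟩
        rw [← hy'] at hwy
        have e1 : α w = y * w := by rw [hy']; group
        have h1 : α (w ^ 2) = y ^ 2 * w ^ 2 := by
          rw [map_pow, e1]
          exact (show Commute y w from (central hwy w).symm).mul_pow 2
        rw [hinv' _ (hsqT w)] at h1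
        have h2 : (y * w ^ 2) ^ 2 = 1 := by
          have hcw : Commute y (w ^ 2) := (central hwy _).symm
          rw [hcw.mul_pow 2]
          calc y ^ 2 * (w ^ 2) ^ 2 = (y ^ 2 * w ^ 2) * w ^ 2 := by simp only [pow_two]; group
            _ = 1 := by rw [← h1]; group
        have h3 : y * w ^ 2 ∈ V :=
          (hΩZ _ (Subgroup.mul_mem _ hwy (hsqT w))).mp h2
        obtain ⟨s, hs⟩ := hVS _ h3
        refine hnonsq w ((s : T) * (t : T)⁻¹) (Subgroup.mul_mem _ s.2 (Subgroup.inv_mem _ t.2)) ?_
        rw [← hy']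
        have hcst : Commute (s : T) (t : T)⁻¹ := (central (Subgroup.inv_mem _ t.2) _)
        rw [hcst.mul_pow 2, hs, inv_pow, ht]
        group
      have h1 := Subgroup.card_mul_index sm.ker
      rw [Subgroup.index_ker] at h1
      have h2 : Nat.card sm.range ≤ 4 := by
        rw [← hcardQ]
        exact Subgroup.card_le_card_group _
      have h3 := Subgroup.card_mul_index (Subgroup.center T)
      have h4 : (Subgroup.center T).index = 16 := hAcard
      rw [h4] at h3
      have h5 : 0 < Nat.card (Subgroup.center T) := Nat.card_pos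
      obtain ⟨w, hw1, hwZ⟩ : ∃ w, w ∈ sm.ker ∧ w ∉ Subgroup.center T := by
        by_contra hcon
        push Not at hcon
        have h6 : Nat.card sm.ker ≤ Nat.card (Subgroup.center T) :=
          Subgroup.card_le_of_le hcon
        have h7 : Nat.card sm.ker * Nat.card sm.range ≤ Nat.card (Subgroup.center T) * 4 :=
          Nat.mul_le_mul h6 h2
        omega
      have hw1' : sm w = 1 := hw1
      have hwnot : (w : T ⧸ Subgroup.center T) ∉ L := by
        intro hwL
        exact hwZ (hkeyL w hw1' ((hy w).mp hwL))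
      obtain ⟨t, ht⟩ := (hsm1 w).mp hw1'
      obtain ⟨w', hw'⟩ : ∃ w', w' = w * (t : T)⁻¹ := ⟨_, rfl⟩
      have hw'2 : w' ^ 2 = 1 := by
        have hct : Commute w (t : T)⁻¹ := (central (Subgroup.inv_mem _ t.2) w)
        rw [hw', hct.mul_pow 2, inv_pow, ht]
        group
      have hw'mk : (w' : T ⧸ Subgroup.center T) = w := by
        rw [hw', QuotientGroup.mk_mul, QuotientGroup.mk_inv]
        have ht1 : ((t : T) : T ⧸ Subgroup.center T) = 1 := (QuotientGroup.eq_one_iff _).mpr t.2
        rw [ht1, inv_one, mul_one]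
      have hw'L : (w' : T ⧸ Subgroup.center T) ∉ L := by
        rw [hw'mk]
        exact hwnot
      obtain ⟨x, hx⟩ : ∃ x, x = w' * α w' := ⟨_, rfl⟩
      have hxmk : (x : T ⧸ Subgroup.center T) = w' * qaut α (w' : T ⧸ Subgroup.center T) := by
        rw [hx, QuotientGroup.mk_mul, qaut_mk]
      have hxL : α x * x⁻¹ ∈ Subgroup.center T := by
        rw [← hy, hxmk, map_mul, hαA]
        exact hcommA _ _
      have hx1 : sm x = 1 := by
        rw [hsm1]
        have hx2 : x ^ 2 = cm (α w') w' := by
          rw [hx, sq_mul_cl (hcl _ _), hw'2, ← map_pow, hw'2, map_one]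
          group
        obtain ⟨s, hs⟩ := hVS _ (hcmV (α w') w')
        exact ⟨s, by rw [hs, hx2]⟩
      have hxZ := hkeyL x hx1 hxL
      have hx3 : (x : T ⧸ Subgroup.center T) = 1 := (QuotientGroup.eq_one_iff _).mpr hxZ
      rw [hxmk] at hx3
      apply hw'L
      rw [← hL]
      have h6 : qaut α (w' : T ⧸ Subgroup.center T) = (w' : T ⧸ Subgroup.center T)⁻¹ :=
        eq_inv_of_mul_eq_one_right hx3
      rw [h6]
      exact inv_eq_of_mul_eq_one_left (by rw [← pow_two]; exact hAsq _)
    have hZeq : Subgroup.center T = V := le_antisymm hZV hVZ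
    have h3 := Subgroup.card_mul_index (Subgroup.center T)
    have h4 : (Subgroup.center T).index = 16 := hAcard
    rw [h4, hZeq, hV4] at h3
    omega

/-- The main dichotomy. -/
theorem main_abs (hp : IsPGroup 2 T) {ρ : MulAut T} (h : Fpf ρ) (α : MulAut T)
    (hα : ∀ x, α (α x) = x) (hαρ : ∀ x, α (ρ x) = ρ (α x)) (V : Subgroup T)
    (hV : ∀ x, α x = x ↔ x ∈ V) (hVZ : V ≤ Subgroup.center T) (hV4 : Nat.card V = 4) :
    (Nat.card T = 16 ∧ ∀ x : T, x ^ 2 = 1) ∨
      (∃ n : ℕ, 1 ≤ n ∧ Nonempty (T ≃* Multiplicative (ZMod (2 ^ n)) × Multiplicative (ZMod (2 ^ n)))) ∨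
      (Nat.card T = 64 ∧ ¬ IsMulCommutative T) := by
  by_cases htop : ∀ x : T, x ∈ Subgroup.center T
  · have hcomm : ∀ a b : T, a * b = b * a := fun a b => central (htop b) a
    rcases finish_abelian hp h α hα hαρ V hV hV4 hcomm with h1 | h1
    · exact Or.inl h1
    · exact Or.inr (Or.inl h1)
  · push Not at htop
    obtain ⟨x₀, hx₀⟩ := htop
    refine Or.inr (Or.inr ⟨main_nonabelian hp h α hα hαρ V hV hVZ hV4 x₀ hx₀, ?_⟩)
    intro hc
    apply hx₀
    rw [Subgroup.mem_center_iff]
    intro g
    exact (isMulCommutative_iff.mp hc) g x₀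

end Main

end Cfsg.Agent.Lib.Fpf3C
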