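import Mathlib
import Cfsg.Agent.H28.FrG
import Cfsg.Agent.Lib.OmTwoCore

/-!
# Frames in dimension at least seven: the small support machinery
-/

set_option autoImplicit false
set_option linter.unusedVariables false
set_option linter.unusedSectionVars false
set_option linter.unusedSimpArgs false
set_option linter.style.longLine false

namespace Cfsg.Agent.Lib.Fr7A

open Matrix QuadraticMap Cfsg Cfsg.Geo Module
open Cfsg.Agent.Lib.OrthoBasic Cfsg.Agent.Lib.OrthoSiegel Cfsg.Agent.Lib.OmCalc Cfsg.Agent.Lib.OmPair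
  Cfsg.Agent.Lib.OrthGroup Cfsg.Agent.Lib.OrthOmega
open Cfsg.Agent.H28.KlD Cfsg.Agent.H28.FrA Cfsg.Agent.H28.FrB Cfsg.Agent.H28.FrC Cfsg.Agent.H28.FrD Cfsg.Agent.H28.FrE
open Cfsg.Agent.Lib.SympT (GL_ext mulVec_mul_GL mulVec_inv_GL inv_mulVec_GL)

local notation:70 g:71 " ⋆ " x:70 => Matrix.mulVec (Units.val g) x

variable {ι : Type} [Fintype ι] [DecidableEq ι] {F : Type*} [Field F] [Fintype F]
  {Q : QuadraticForm F (ι → F)} {K : Type} [Fintype K] [DecidableEq K] {e : K → ι → F} {c : F}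
  {M : Subgroup (GL ι F)}

/-- Stage 2: a single good Siegel element with small centre gives all of `Ω`. -/
theorem stage2_7 (hQ : Nondeg Q) (C : MC Q M e c) (hn : Odd (Fintype.card K)) (h7 : 7 ≤ Fintype.card ι) (fr : Nonempty (Frame Q))
    (hpf : ∀ a : F, ∃ n : ℕ, (n : F) = a) {e₀ : ι → F} {k : K} {A : Finset K}
    (hA : ∀ j, co Q e c j e₀ ≠ 0 → j ∈ A) (hA5 : A.card ≤ 3) (h13 : 7 ≤ Fintype.card K)
    (he₀ : Q e₀ = 0) (hne : e₀ ≠ 0) (hk : k ∉ A) (hR : R hQ M e₀ (e k)) : omegaGL ⇑Q ≤ M := by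
  have hfr := C.fr
  have hc2 := hfr.c2
  have step1 : ∀ j, j ∉ A → R hQ M e₀ (e j) := by
    intro j hj
    by_cases hjk : j = k
    · rw [hjk]; exact hR
    obtain ⟨l, hl⟩ := exists_out (insert k (insert j A)) (by
      have := Finset.card_insert_le k (insert j A)
      have := Finset.card_insert_le j A
      omega)
    obtain ⟨l', hl'⟩ := exists_out (insert l (insert k (insert j A))) (by
      have := Finset.card_insert_le l (insert k (insert j A))
      have := Finset.card_insert_le k (insert j A)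
      have := Finset.card_insert_le j A
      omega)
    simp only [Finset.mem_insert, not_or] at hl hl'
    obtain ⟨hl1, hl2, hl3⟩ := hl
    obtain ⟨hl'0, hl'1, hl'2, hl'3⟩ := hl'
    obtain ⟨g, hg, hgx⟩ := C.perm_lift (Equiv.swap k j * Equiv.swap l l') (by
      rw [Equiv.Perm.sign_mul, Equiv.Perm.sign_swap (Ne.symm hjk), Equiv.Perm.sign_swap (Ne.symm hl'0)]
      simp)
    have e1 : g ⋆ e₀ = e₀ := by
      refine hfr.fix_of g (fun i hi => ?_)
      have hiA := hA i hi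
      have i1 : i ≠ l := by rintro rfl; exact hl3 hiA
      have i2 : i ≠ l' := by rintro rfl; exact hl'3 hiA
      have i3 : i ≠ k := by rintro rfl; exact hk hiA
      have i4 : i ≠ j := by rintro rfl; exact hj hiA
      rw [hgx, Equiv.Perm.mul_apply, Equiv.swap_apply_of_ne_of_ne i1 i2, Equiv.swap_apply_of_ne_of_ne i3 i4]
    have e2 : g ⋆ e k = e j := by
      rw [hgx, Equiv.Perm.mul_apply, Equiv.swap_apply_of_ne_of_ne (Ne.symm hl1) (Ne.symm hl'1), Equiv.swap_apply_left]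
    have := R_conj (C.iso hg) hg hR
    rwa [e1, e2] at this
  have step2 : ∀ z, (∀ i ∈ A, co Q e c i z = 0) → R hQ M e₀ z := by
    intro z hz
    rw [← hfr.sum_co z]
    refine R_sum he₀ _ _ (fun j _ => ?_)
    by_cases hj : j ∈ A
    · rw [hz j hj, zero_smul]
      exact R_zero he₀
    · exact R_smul' hpf (step1 j hj) _
  -- an even permutation moving `A` off itself
  obtain ⟨π, hπs, hπA⟩ : ∃ π : Equiv.Perm K, Equiv.Perm.sign π = 1 ∧ ∀ j ∈ A, π j ∉ A := by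
    have hcompl : A.card ≤ (Aᶜ).card := by
      rw [Finset.card_compl]
      omega
    obtain ⟨B, hB, hBc⟩ := Finset.exists_subset_card_eq hcompl
    obtain ⟨π₀, hπ₀⟩ : ∃ π₀ : Equiv.Perm K, ∀ j ∈ A, π₀ j ∉ A := by
      refine ⟨(Finset.equivOfCardEq hBc.symm).extendSubtype, fun j hj => ?_⟩
      rw [Equiv.extendSubtype_apply_of_mem _ j hj]
      have := hB ((Finset.equivOfCardEq hBc.symm) ⟨j, hj⟩).2
      simpa using this
    by_cases hs : Equiv.Perm.sign π₀ = 1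
    · exact ⟨π₀, hs, hπ₀⟩
    · obtain ⟨l, hl⟩ := exists_out A (by omega)
      obtain ⟨l', hl'⟩ := exists_out (insert l A) (by
        have := Finset.card_insert_le l A
        omega)
      simp only [Finset.mem_insert, not_or] at hl'
      refine ⟨π₀ * Equiv.swap l l', ?_, fun j hj => ?_⟩
      · rw [Equiv.Perm.sign_mul, Equiv.Perm.sign_swap (Ne.symm hl'.1)]
        rcases Int.units_eq_one_or (Equiv.Perm.sign π₀) with h | h
        · exact absurd h hs
        · rw [h]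
          simp
      · rw [Equiv.Perm.mul_apply, Equiv.swap_apply_of_ne_of_ne (by rintro rfl; exact hl hj) (by rintro rfl; exact hl'.2 hj)]
        exact hπ₀ j hj
  obtain ⟨g, hg, hgx⟩ := C.perm_lift π hπs
  have hiso := C.iso hg
  have co_act : ∀ i v, co Q e c (π i) (g ⋆ v) = co Q e c i v := by
    intro i v
    simp only [co]
    rw [← hgx, polar_iso hiso]
  obtain ⟨x, hxd⟩ : ∃ x, x = g ⋆ e₀ := ⟨_, rfl⟩
  have hxco : ∀ i ∈ A, co Q e c i x = 0 := by
    intro i hi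
    have h1 := co_act (π.symm i) e₀
    rw [Equiv.apply_symm_apply, ← hxd] at h1
    rw [h1]
    by_contra h3
    have := hπA _ (hA _ h3)
    rw [Equiv.apply_symm_apply] at this
    exact this hi
  have hxe : polar Q e₀ x = 0 := by
    rw [hfr.polar_eq]
    rw [Finset.sum_eq_zero, mul_zero]
    intro j _
    by_cases h0 : co Q e c j e₀ = 0
    · rw [h0, zero_mul]
    · rw [hxco j (hA j h0), mul_zero]
  obtain ⟨i₀, hi₀⟩ : ∃ i, co Q e c i e₀ ≠ 0 := by
    by_contra hcon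
    push Not at hcon
    exact hne (hfr.zero_of_co hcon)
  have hi₀A := hA i₀ hi₀
  obtain ⟨j₀, hj₀⟩ : ∃ j, j = π i₀ := ⟨_, rfl⟩
  have hj₀A : j₀ ∉ A := by rw [hj₀]; exact hπA _ hi₀A
  have hj₀x : co Q e c j₀ x ≠ 0 := by
    rw [hj₀, hxd, co_act]
    exact hi₀
  have step3 : ∀ y', (∀ j, j ∉ A → co Q e c j y' = 0) → polar Q e₀ y' = 0 → R hQ M e₀ y' := by
    intro y' hy' hpy
    have hz : R hQ M e₀ (g⁻¹ ⋆ y') := by
      refine step2 _ (fun i hi => ?_)
      rw [← co_act i, mulVec_inv_GL]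
      exact hy' _ (hπA i hi)
    have hxy : R hQ M x y' := by
      have := R_conj hiso hg hz
      rwa [mulVec_inv_GL, ← hxd] at this
    obtain ⟨hxs, hxyp, hT⟩ := hxy
    have h1 := R_conj (sE_iso hQ hxs hxyp) hT (step1 j₀ hj₀A)
    have e1 : sE hQ hxs hxyp ⋆ e₀ = e₀ := by
      rw [sE_apply', hxe, hpy]
      simp
    have hj0y : polar Q (e j₀) y' = 0 := by
      rw [polar_comm, hfr.polar_e, hy' j₀ hj₀A, mul_zero]
    rw [e1, sE_apply', hj0y] at h1
    obtain ⟨κ, hκ⟩ : ∃ κ, κ = polar Q (e j₀) x := ⟨_, rfl⟩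
    have hκ0 : κ ≠ 0 := by
      rw [hκ, polar_comm, hfr.polar_e]
      exact mul_ne_zero hc2 hj₀x
    rw [← hκ] at h1
    have h2 := R_add (R_sub h1 (step1 j₀ hj₀A)) (R_smul' hpf (step2 x hxco) (0 + Q y' * κ))
    have h3 := R_smul' hpf h2 κ⁻¹
    convert h3 using 1
    have : e j₀ + κ • y' - (0 + Q y' * κ) • x - e j₀ + (0 + Q y' * κ) • x = κ • y' := by abel
    rw [this, smul_smul, inv_mul_cancel₀ hκ0, one_smul]
  have step4 : T hQ M e₀ := by
    refine ⟨he₀, fun y hy => ?_⟩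
    obtain ⟨yA, hyA⟩ : ∃ yA, yA = ∑ i ∈ A, co Q e c i y • e i := ⟨_, rfl⟩
    have hco : ∀ j, co Q e c j yA = if j ∈ A then co Q e c j y else 0 := by
      intro j
      rw [hyA, co_sum]
      by_cases hj : j ∈ A
      · rw [if_pos hj, Finset.sum_eq_single j]
        · rw [co_smul, hfr.co_e_self, mul_one]
        · intro b _ hb
          rw [co_smul, hfr.co_e_ne hb, mul_zero]
        · exact fun h => absurd hj h
      · rw [if_neg hj]
        refine Finset.sum_eq_zero (fun i hi => ?_)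
        rw [co_smul, hfr.co_e_ne (by rintro rfl; exact hj hi), mul_zero]
    have h1 : R hQ M e₀ (y - yA) := by
      refine step2 _ (fun i hi => ?_)
      rw [co_sub, hco, if_pos hi, sub_self]
    have h2 : polar Q e₀ yA = 0 := by
      have h3 := h1.perp
      rw [polar_sub_right, hy, zero_sub, neg_eq_zero] at h3
      exact h3
    have h4 := R_add h1 (step3 yA (fun j hj => by rw [hco, if_neg hj]) h2)
    rwa [sub_add_cancel] at h4
  obtain ⟨t, ht, htx⟩ := C.exists_tau hn i₀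
  have h5 := T_conj (C.iso ht) ht step4
  obtain ⟨fr₀⟩ := fr
  refine Cfsg.Agent.Lib.OmTwoCore.omega_le_of_opp' hQ h7 fr₀ step4 h5 ?_
  rw [htx, polar_sub_left, polar_smul_l, polar_self', he₀, polar_comm Q (e i₀) e₀, hfr.polar_e]
  have hc := hfr.hc
  have : c⁻¹ * (2 * c * co Q e c i₀ e₀) * (2 * c * co Q e c i₀ e₀) - 2 * 0 = 4 * c * co Q e c i₀ e₀ ^ 2 := by
    field_simp
    ring
  rw [this]
  have h4 : (4 : F) ≠ 0 := by
    have : (4 : F) = 2 * 2 := by norm_num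
    rw [this]
    exact mul_ne_zero hfr.h2 hfr.h2
  exact mul_ne_zero (mul_ne_zero h4 hc) (pow_ne_zero _ hi₀)

/-- A zero-sum small set finishes the proof. -/
theorem zs7 (hQ : Nondeg Q) (C : MC Q M e c) (hn : Odd (Fintype.card K)) (h7 : 7 ≤ Fintype.card ι) (fr : Nonempty (Frame Q)) (h13 : 7 ≤ Fintype.card K)
    (hpf : ∀ a : F, ∃ n : ℕ, (n : F) = a) {w : ι → F} (hw : UU Q M c w) {S : Finset K} (hS : ∀ j ∈ S, co Q e c j w ≠ 0)
    (hne : S.Nonempty) (h5 : S.card ≤ 3) (h0 : ∑ i ∈ S, co Q e c i w ^ 2 = 0) : omegaGL ⇑Q ≤ M := by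
  have hfr := C.fr
  obtain ⟨k, hkS, hk⟩ : ∃ k, k ∉ S ∧ co Q e c k w ≠ 0 := by
    by_contra hcon
    push Not at hcon
    have h1 := Fr.sum_sq hfr hw.1
    rw [← Finset.sum_subset (Finset.subset_univ S) (fun j _ hj => by rw [hcon j hj]; ring), h0] at h1
    exact zero_ne_one h1
  have hR := MC.direct C (hQ := hQ) hn hpf hw h0 hkS hk
  obtain ⟨i, hi⟩ := hne
  refine stage2_7 hQ C hn h7 fr hpf (A := S) (k := k) ?_ h5 h13 (by rw [Fr.Q_res hfr, h0, mul_zero]) ?_ hkS hR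
  · intro j hj
    rw [Fr.co_res hfr] at hj
    by_contra hjS
    exact hj (if_neg hjS)
  · intro h3
    have h4 := Fr.co_res hfr S w i
    rw [h3, co_zero, if_pos hi] at h4
    exact hS i hi h4.symm

section stepA

variable {p : ℕ} [hp : Fact p.Prime] [CharP F p]

include hp in
/-- Step A with a free point on the circle. -/
theorem stepA0 (C : MC Q M e c) (hn : Odd (Fintype.card K)) (hF : Fintype.card F = p) (hodd : Odd p)
    {w : ι → F} (hw : UU Q M c w) {k k' l l' : K}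
    (n1 : k ≠ k') (n2 : k ≠ l) (n3 : k ≠ l') (n4 : k' ≠ l) (n5 : k' ≠ l') (n6 : l ≠ l')
    (hβ0 : co Q e c k w ^ 2 + co Q e c k' w ^ 2 + (co Q e c l w ^ 2 + co Q e c l' w ^ 2) ≠ 0)
    (hβ1 : co Q e c k w ^ 2 + co Q e c k' w ^ 2 + (co Q e c l w ^ 2 + co Q e c l' w ^ 2) ≠ 1)
    (hβ2 : 2 * (co Q e c k w ^ 2 + co Q e c k' w ^ 2 + (co Q e c l w ^ 2 + co Q e c l' w ^ 2)) ≠ 1)
    {η ζ : F} (hηζ : (co Q e c k w ^ 2 + co Q e c k' w ^ 2 + (co Q e c l w ^ 2 + co Q e c l' w ^ 2)) * η ^ 2 +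
      (co Q e c k w ^ 2 + co Q e c k' w ^ 2 + (co Q e c l w ^ 2 + co Q e c l' w ^ 2)) * ζ ^ 2 = 1) :
    ∃ w₁, UU Q M c w₁ ∧ (∀ j, co Q e c j w₁ ≠ 0 → j = k ∨ j = k' ∨ j = l ∨ j = l') ∧
      co Q e c k w₁ = η * co Q e c k w - ζ * co Q e c k' w ∧ co Q e c k' w₁ = η * co Q e c k' w + ζ * co Q e c k w ∧
      co Q e c l w₁ = η * co Q e c l w - ζ * co Q e c l' w ∧ co Q e c l' w₁ = η * co Q e c l' w + ζ * co Q e c l w := by
  have hfr := C.fr
  have hc := hfr.hc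
  have h2 := hfr.h2
  obtain ⟨x₁, hd₁⟩ : ∃ x, x = co Q e c k w := ⟨_, rfl⟩
  obtain ⟨x₂, hd₂⟩ : ∃ x, x = co Q e c k' w := ⟨_, rfl⟩
  obtain ⟨x₃, hd₃⟩ : ∃ x, x = co Q e c l w := ⟨_, rfl⟩
  obtain ⟨x₄, hd₄⟩ : ∃ x, x = co Q e c l' w := ⟨_, rfl⟩
  rw [← hd₁, ← hd₂, ← hd₃, ← hd₄] at hβ0 hβ1 hβ2 hηζ
  obtain ⟨S, hS⟩ : ∃ S : Finset K, S = {k, k', l, l'} := ⟨_, rfl⟩
  have hmem : ∀ j, j ∈ S ↔ j = k ∨ j = k' ∨ j = l ∨ j = l' := by
    intro j
    rw [hS]
    simp
  obtain ⟨v, hv⟩ : ∃ v, v = res Q e c S w := ⟨_, rfl⟩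
  have hvexp : v = x₁ • e k + x₂ • e k' + x₃ • e l + x₄ • e l' := by
    rw [hv, res, hS, Finset.sum_insert (by simp [n1, n2, n3]), Finset.sum_insert (by simp [n4, n5]),
      Finset.sum_insert (by simp [n6]), Finset.sum_singleton, hd₁, hd₂, hd₃, hd₄]
    abel
  obtain ⟨f, hf⟩ : ∃ f, f = w - v := ⟨_, rfl⟩
  have hcof : ∀ j, co Q e c j f = if j ∈ S then 0 else co Q e c j w := by
    intro j
    rw [hf, co_sub, hv, Fr.co_res hfr]
    by_cases hj : j ∈ S <;> simp [hj]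
  have hcov : ∀ j, co Q e c j v = if j ∈ S then co Q e c j w else 0 := by
    intro j
    rw [hv, Fr.co_res hfr]
  have hfS : ∀ j, j ∈ S → polar Q f (e j) = 0 := by
    intro j hj
    rw [hfr.polar_e, hcof, if_pos hj, mul_zero]
  have hfv : polar Q f v = 0 := by
    refine Fr.polar_disj hfr (fun j => ?_)
    rw [hcof, hcov]
    by_cases hj : j ∈ S <;> simp [hj]
  obtain ⟨J, hJ, j1, j2, j3, j4, j5⟩ := C.exists_J n1 n2 n3 n4 n5 n6
  have hJf : J ⋆ f = f := by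
    refine hfr.fix_of J (fun j hj => ?_)
    have hjS : j ∉ S := by
      intro h4
      apply hj
      rw [hcof, if_pos h4]
    rw [hmem] at hjS
    push Not at hjS
    exact j5 j hjS.1 hjS.2.1 hjS.2.2.1 hjS.2.2.2
  obtain ⟨v', hv'⟩ : ∃ v', v' = x₁ • e k' - x₂ • e k + x₃ • e l' - x₄ • e l := ⟨_, rfl⟩
  have hJv : J ⋆ v = v' := by
    rw [hvexp, hv', Matrix.mulVec_add, Matrix.mulVec_add, Matrix.mulVec_add, Matrix.mulVec_smul, Matrix.mulVec_smul,
      Matrix.mulVec_smul, Matrix.mulVec_smul, j1, j2, j3, j4, smul_neg, smul_neg]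
    abel
  have hwfv : w = f + v := by rw [hf]; abel
  have hQw := hw.1
  have hβeq : ∑ i ∈ S, co Q e c i w ^ 2 = x₁ ^ 2 + x₂ ^ 2 + (x₃ ^ 2 + x₄ ^ 2) := by
    rw [hS, Finset.sum_insert (by simp [n1, n2, n3]), Finset.sum_insert (by simp [n4, n5]),
      Finset.sum_insert (by simp [n6]), Finset.sum_singleton, hd₁, hd₂, hd₃, hd₄]
    ring
  obtain ⟨β, hβd⟩ : ∃ β, β = x₁ ^ 2 + x₂ ^ 2 + (x₃ ^ 2 + x₄ ^ 2) := ⟨_, rfl⟩
  rw [← hβd] at hβ0 hβ1 hβ2 hβeq hηζ
  have hQv : Q v = c * β := by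
    rw [hv, Fr.Q_res hfr, hβeq]
  have hQf : Q f = c * (1 - β) := by
    have h4 : Q (f + v) = Q f + Q v + polar Q f v := Cfsg.Agent.Lib.OrthoBasic.Q_add Q f v
    rw [← hwfv, hQw, hfv, hQv] at h4
    linear_combination -h4
  have hQv' : Q v' = c * β := by
    rw [← hJv, C.iso hJ, hQv]
  have hcov' : ∀ j, co Q e c j v' = x₁ * (if k' = j then 1 else 0) - x₂ * (if k = j then 1 else 0) +
      x₃ * (if l' = j then 1 else 0) - x₄ * (if l = j then 1 else 0) := by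
    intro j
    rw [hv', co_sub, co_add, co_sub, co_smul, co_smul, co_smul, co_smul, hfr.co_e, hfr.co_e, hfr.co_e, hfr.co_e]
  have m1 : k ∈ S := (hmem k).2 (Or.inl rfl)
  have m2 : k' ∈ S := (hmem k').2 (Or.inr (Or.inl rfl))
  have m3 : l ∈ S := (hmem l).2 (Or.inr (Or.inr (Or.inl rfl)))
  have m4 : l' ∈ S := (hmem l').2 (Or.inr (Or.inr (Or.inr rfl)))
  have h01 : polar Q f v = 0 := hfv
  have h02 : polar Q f v' = 0 := by
    rw [hv', polar_sub_right, polar_add_right, polar_sub_right, polar_smul_r, polar_smul_r, polar_smul_r, polar_smul_r,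
      hfS _ m1, hfS _ m2, hfS _ m3, hfS _ m4]
    ring
  have hvco : ∀ j ∈ S, polar Q v (e j) = 2 * c * co Q e c j w := by
    intro j hj
    rw [hfr.polar_e, hcov, if_pos hj]
  have h12 : polar Q v v' = 0 := by
    rw [hv', polar_sub_right, polar_add_right, polar_sub_right, polar_smul_r, polar_smul_r, polar_smul_r, polar_smul_r,
      hvco _ m1, hvco _ m2, hvco _ m3, hvco _ m4, ← hd₁, ← hd₂, ← hd₃, ← hd₄]
    ring
  have u₁ : UU Q M c (f + v) := by rwa [← hwfv]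
  have u₂ : UU Q M c (f - v) := by
    have h4 := C.U_flipS hn S hw
    convert h4 using 1
    rw [← res, ← hv, hf, two_smul]
    abel
  have u₃ : UU Q M c (f + v') := by
    have h4 := C.U_conj hJ u₁
    rwa [Matrix.mulVec_add, hJf, hJv] at h4
  have u₄ : UU Q M c (f - v') := by
    have h4 := C.U_conj hJ u₂
    rwa [Matrix.mulVec_sub, hJf, hJv] at h4
  have hne1 : 1 - β ≠ 0 := fun h4 => hβ1 (by linear_combination -h4)
  have hK := klein_trans hF hodd h2 hc h01 h02 h12 (by rw [hQv, hQv'])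
    (by
      rw [hQf, hQv]
      intro h4
      have h6 := mul_left_cancel₀ hc h4
      exact hβ2 (by linear_combination -h6))
    (by rw [hQf]; exact mul_ne_zero hc hne1)
    (by rw [hQv]; exact mul_ne_zero hc hβ0)
    (by rw [hQf, hQv]; ring) u₁ u₂ u₃ u₄
  have hbw : bb f v v' ![1, 1, 0] = f + v := by
    simp [bb]
  have hb1 : bb f v v' ![0, η, ζ] = η • v + ζ • v' := by
    simp [bb]
  obtain ⟨g, hg, -, -, -, hgx⟩ := hK ![1, 1, 0] ![0, η, ζ]
    (by
      rw [hbw, ← hwfv, hQw, hb1, Q_bb' h2 h12, hQv, hQv']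
      linear_combination (-c) * hηζ)
    (by rw [hbw, ← hwfv, hQw]; exact hc)
  have hU : UU Q M c (η • v + ζ • v') := by
    have := C.U_conj hg u₁
    rw [← hbw, hgx, hb1] at this
    exact this
  have hcoz : ∀ j, co Q e c j (η • v + ζ • v') = η * co Q e c j v + ζ * co Q e c j v' := by
    intro j
    rw [co_add, co_smul, co_smul]
  refine ⟨_, hU, ?_, ?_, ?_, ?_, ?_⟩
  · intro j hj
    rw [← hmem]
    by_contra hjS
    apply hj
    have hjS' := hjS
    rw [hmem] at hjS'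
    push Not at hjS'
    obtain ⟨a, b, c', d⟩ := hjS'
    rw [hcoz, hcov, if_neg hjS, hcov', if_neg (Ne.symm a), if_neg (Ne.symm b), if_neg (Ne.symm c'), if_neg (Ne.symm d)]
    ring
  · rw [hcoz, hcov, if_pos m1, hcov', if_neg n1.symm, if_pos rfl, if_neg n3.symm, if_neg n2.symm, ← hd₁, ← hd₂]
    ring
  · rw [hcoz, hcov, if_pos m2, hcov', if_pos rfl, if_neg n1, if_neg n5.symm, if_neg n4.symm, ← hd₁, ← hd₂]
    ring
  · rw [hcoz, hcov, if_pos m3, hcov', if_neg n4, if_neg n2, if_neg n6.symm, if_pos rfl, ← hd₃, ← hd₄]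
    ring
  · rw [hcoz, hcov, if_pos m4, hcov', if_neg n5, if_neg n3, if_pos rfl, if_neg n6, ← hd₃, ← hd₄]
    ring

end stepA

section stepB

variable {p : ℕ} [hp : Fact p.Prime] [CharP F p]

include hp in
/-- Step B: a coordinate whose square is not in `{0, 1/2, 1}`: the Siegel element. -/
theorem stepB_core (hQ : Nondeg Q) (C : MC Q M e c) (hn : Odd (Fintype.card K))
    (hF : Fintype.card F = p) (hodd : Odd p) {w : ι → F} (hw : UU Q M c w) {T : Finset K}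
    (hT : ∀ j, co Q e c j w ≠ 0 → j ∈ T) {k : K} (hk : k ∈ T) {x : F} (hx : x = co Q e c k w)
    (hx0 : x ≠ 0) (hx1 : x ^ 2 ≠ 1) (hx2 : 2 * x ^ 2 ≠ 1) {ζ ω : F} (hzw : ζ ^ 2 + ω ^ 2 = x ^ 2 - 1) (hω : ω ^ 2 ≠ 1)
    {k' k'' l l' : K} (hk' : k' ∉ T) (hk''1 : ¬ k'' = k') (hk''2 : k'' ∉ T)
    (hl1 : ¬ l = k'') (hl2 : ¬ l = k') (hl3 : l ∉ T)
    (hl'1 : ¬ l' = l) (hl'2 : ¬ l' = k'') (hl'3 : ¬ l' = k') (hl'4 : l' ∉ T) :
    ∃ z, R hQ M z (e k) ∧ z ≠ 0 ∧ (∀ j, co Q e c j z ≠ 0 → j = k' ∨ (j = k'' ∧ ω ≠ 0) ∨ (j ∈ T ∧ j ≠ k)) := by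
  have hfr := C.fr
  have hc := hfr.hc
  have h2 := hfr.h2
  have hc2 := hfr.c2
  have hpf := hpf_of hF
  have hkk' : k ≠ k' := by rintro rfl; exact hk' hk
  have hkk'' : k ≠ k'' := by rintro rfl; exact hk''2 hk
  have hkl : k ≠ l := by rintro rfl; exact hl3 hk
  have hkl' : k ≠ l' := by rintro rfl; exact hl'4 hk
  obtain ⟨f, hf⟩ : ∃ f, f = w - x • e k := ⟨_, rfl⟩
  have hcof : ∀ j, co Q e c j f = co Q e c j w - x * (if k = j then 1 else 0) := by
    intro j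
    rw [hf, co_sub, co_smul, hfr.co_e]
  have hfk : co Q e c k f = 0 := by
    rw [hcof, if_pos rfl, mul_one, hx, sub_self]
  have hfT : ∀ j, co Q e c j f ≠ 0 → j ∈ T ∧ j ≠ k := by
    intro j hj
    have hjk : j ≠ k := by rintro rfl; exact hj hfk
    refine ⟨hT j ?_, hjk⟩
    rw [hcof, if_neg (Ne.symm hjk), mul_zero, sub_zero] at hj
    exact hj
  have hf0 : ∀ j, j ∉ T → co Q e c j f = 0 := by
    intro j hj
    by_contra h0
    exact hj (hfT j h0).1
  have hpf_e : ∀ j, j ∉ T → polar Q f (e j) = 0 := by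
    intro j hj
    rw [hfr.polar_e, hf0 j hj, mul_zero]
  have hpfk : polar Q f (e k) = 0 := by rw [hfr.polar_e, hfk, mul_zero]
  have hwf : w = f + x • e k := by rw [hf]; abel
  have hQf : Q f = c * (1 - x ^ 2) := by
    have h3 : Q (f + x • e k) = Q f + x ^ 2 * c + x * polar Q f (e k) := by
      rw [Cfsg.Agent.Lib.OrthoBasic.Q_add, Cfsg.Agent.Lib.OrthoBasic.Q_smul, hfr.he, polar_smul_r]
    rw [← hwf, hw.1, hpfk] at h3
    linear_combination -h3
  -- the monomial elements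
  obtain ⟨J₁, hJ₁, hJ₁x⟩ := C.perm_lift (Equiv.swap k k' * Equiv.swap l l') (by
    rw [Equiv.Perm.sign_mul, Equiv.Perm.sign_swap hkk', Equiv.Perm.sign_swap (Ne.symm hl'1)]
    simp)
  obtain ⟨J₂, hJ₂, hJ₂x⟩ := C.perm_lift (Equiv.swap k' k'' * Equiv.swap l l') (by
    rw [Equiv.Perm.sign_mul, Equiv.Perm.sign_swap (Ne.symm hk''1), Equiv.Perm.sign_swap (Ne.symm hl'1)]
    simp)
  have hJ₁f : J₁ ⋆ f = f := by
    refine hfr.fix_of J₁ (fun j hj => ?_)
    obtain ⟨j1, j2⟩ := hfT j hj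
    have j3 : j ≠ l := by rintro rfl; exact hl3 j1
    have j4 : j ≠ l' := by rintro rfl; exact hl'4 j1
    have j5 : j ≠ k' := by rintro rfl; exact hk' j1
    rw [hJ₁x, Equiv.Perm.mul_apply, Equiv.swap_apply_of_ne_of_ne j3 j4, Equiv.swap_apply_of_ne_of_ne j2 j5]
  have hJ₁k : J₁ ⋆ e k = e k' := by
    rw [hJ₁x, Equiv.Perm.mul_apply, Equiv.swap_apply_of_ne_of_ne hkl hkl', Equiv.swap_apply_left]
  have hJ₂f : J₂ ⋆ f = f := by
    refine hfr.fix_of J₂ (fun j hj => ?_)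
    obtain ⟨j1, j2⟩ := hfT j hj
    have j3 : j ≠ l := by rintro rfl; exact hl3 j1
    have j4 : j ≠ l' := by rintro rfl; exact hl'4 j1
    have j5 : j ≠ k' := by rintro rfl; exact hk' j1
    have j6 : j ≠ k'' := by rintro rfl; exact hk''2 j1
    rw [hJ₂x, Equiv.Perm.mul_apply, Equiv.swap_apply_of_ne_of_ne j3 j4, Equiv.swap_apply_of_ne_of_ne j5 j6]
  have hJ₂k : J₂ ⋆ e k = e k := by
    rw [hJ₂x, Equiv.Perm.mul_apply, Equiv.swap_apply_of_ne_of_ne hkl hkl', Equiv.swap_apply_of_ne_of_ne hkk' hkk'']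
  have hJ₂k' : J₂ ⋆ e k' = e k'' := by
    rw [hJ₂x, Equiv.Perm.mul_apply, Equiv.swap_apply_of_ne_of_ne (Ne.symm hl2) (Ne.symm hl'3), Equiv.swap_apply_left]
  -- the Klein subspace
  have h01 : polar Q f (x • e k) = 0 := by rw [polar_smul_r, hpfk, mul_zero]
  have h02 : polar Q f (x • e k') = 0 := by rw [polar_smul_r, hpf_e k' hk', mul_zero]
  have h12 : polar Q (x • e k) (x • e k') = 0 := by
    rw [polar_smul_r, polar_smul_l, hfr.ho k k' hkk', mul_zero, mul_zero]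
  have hq1 : Q (x • e k) = c * x ^ 2 := by
    rw [Cfsg.Agent.Lib.OrthoBasic.Q_smul, hfr.he, mul_comm]
  have hq2 : Q (x • e k') = c * x ^ 2 := by
    rw [Cfsg.Agent.Lib.OrthoBasic.Q_smul, hfr.he, mul_comm]
  have hne1 : 1 - x ^ 2 ≠ 0 := fun h3 => hx1 (by linear_combination -h3)
  have u₁ : UU Q M c (f + x • e k) := by rwa [← hwf]
  have hflip : f - x • e k = w - (2 * co Q e c k w) • e k := by
    rw [← hx, hf, mul_smul, two_smul]
    abel
  have u₂ : UU Q M c (f - x • e k) := by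
    rw [hflip]
    exact C.U_flip hn k hw
  have u₃ : UU Q M c (f + x • e k') := by
    have h3 := C.U_conj hJ₁ u₁
    rwa [Matrix.mulVec_add, Matrix.mulVec_smul, hJ₁f, hJ₁k] at h3
  have u₄ : UU Q M c (f - x • e k') := by
    have h3 := C.U_conj hJ₁ u₂
    rwa [Matrix.mulVec_sub, Matrix.mulVec_smul, hJ₁f, hJ₁k] at h3
  have hK := klein_trans hF hodd h2 hc h01 h02 h12 (by rw [hq1, hq2])
    (by
      rw [hQf, hq1]
      intro h3
      have h4 := mul_left_cancel₀ hc h3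
      exact hx2 (by linear_combination -h4))
    (by rw [hQf]; exact mul_ne_zero hc hne1)
    (by rw [hq1]; exact mul_ne_zero hc (pow_ne_zero _ hx0))
    (by rw [hQf, hq1]; ring) u₁ u₂ u₃ u₄
  have hQbb : ∀ v : Fin 3 → F, Q (bb f (x • e k) (x • e k') v) = c * ((1 - x ^ 2) * v 0 ^ 2 + x ^ 2 * v 1 ^ 2 + x ^ 2 * v 2 ^ 2) := by
    intro v
    rw [Q_bb h2 h01 h02 h12, hQf, hq1, hq2]
    ring
  have hSY : ∀ v : Fin 3 → F, Q (bb f (x • e k) (x • e k') v) = c → UU Q M c (bb f (x • e k) (x • e k') v) := by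
    intro v hv
    have hbw : bb f (x • e k) (x • e k') ![1, 1, 0] = f + x • e k := by
      simp [bb]
    obtain ⟨g, hg, -, -, -, hgx⟩ := hK ![1, 1, 0] v (by rw [hv, hbw, ← hwf, hw.1]) (by rw [hbw, ← hwf, hw.1]; exact hc)
    have := C.U_conj hg u₁
    rw [← hbw, hgx] at this
    exact this
  -- the singular vector
  obtain ⟨z, hz⟩ : ∃ z, z = f + ζ • e k' + ω • e k'' := ⟨_, rfl⟩
  have hd : c * (1 - x ^ 2) ≠ 0 := mul_ne_zero hc hne1
  obtain ⟨α, β, hαβ⟩ := exists_diag h2 hd hc (c * (1 - ω ^ 2))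
  have hω1 : 1 - ω ^ 2 ≠ 0 := fun h3 => hω (by linear_combination -h3)
  have hxi : x * x⁻¹ = 1 := mul_inv_cancel₀ hx0
  have hb1 : bb f (x • e k) (x • e k') ![α, β * x⁻¹, 0] = α • f + β • e k := by
    simp only [bb, Matrix.cons_val_zero, Matrix.cons_val_one, Matrix.cons_val, smul_smul, zero_mul, zero_smul, add_zero]
    rw [mul_assoc, inv_mul_cancel₀ hx0, mul_one]
  have hb2 : bb f (x • e k) (x • e k') ![1, x⁻¹, ζ * x⁻¹] = f + e k + ζ • e k' := by
    simp only [bb, Matrix.cons_val_zero, Matrix.cons_val_one, Matrix.cons_val, smul_smul, one_smul]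
    rw [inv_mul_cancel₀ hx0, mul_assoc, inv_mul_cancel₀ hx0, mul_one, one_smul]
  have hq3 : Q (bb f (x • e k) (x • e k') ![α, β * x⁻¹, 0]) = c * (1 - ω ^ 2) := by
    rw [hQbb]
    simp only [Matrix.cons_val_zero, Matrix.cons_val_one, Matrix.cons_val]
    rw [← hαβ]
    field_simp
    ring
  have hq4 : Q (bb f (x • e k) (x • e k') ![1, x⁻¹, ζ * x⁻¹]) = c * (1 - ω ^ 2) := by
    rw [hQbb]
    simp only [Matrix.cons_val_zero, Matrix.cons_val_one, Matrix.cons_val]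
    field_simp
    linear_combination hzw
  obtain ⟨g, hg, δ, hδ, hgz, hgx⟩ := hK ![α, β * x⁻¹, 0] ![1, x⁻¹, ζ * x⁻¹] (by rw [hq3, hq4]) (by rw [hq3]; exact mul_ne_zero hc hω1)
  rw [hb1, hb2] at hgx
  have hk''c : k'' ≠ k := Ne.symm hkk''
  have hgk'' : g ⋆ e k'' = δ • e k'' := by
    refine hgz _ ?_ ?_ ?_
    · rw [polar_comm]; exact hpf_e k'' hk''2
    · rw [polar_smul_r, hfr.ho k'' k hk''c, mul_zero]
    · rw [polar_smul_r, hfr.ho k'' k' hk''1, mul_zero]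
  -- the vector `α f + β e_k + δ ω e_k'` of norm `c`
  have hu3 : UU Q M c (α • f + β • e k + (δ * ω) • e k') := by
    have h3 := hSY ![α, β * x⁻¹, δ * ω * x⁻¹] (by
      rw [hQbb]
      simp only [Matrix.cons_val_zero, Matrix.cons_val_one, Matrix.cons_val]
      have e3 : c * ((1 - x ^ 2) * α ^ 2 + x ^ 2 * (β * x⁻¹) ^ 2 + x ^ 2 * (δ * ω * x⁻¹) ^ 2) =
          c * (1 - x ^ 2) * α ^ 2 + c * β ^ 2 + c * δ ^ 2 * ω ^ 2 := by
        field_simp
      rw [e3, hαβ, hδ]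
      ring)
    convert h3 using 1
    simp only [bb, Matrix.cons_val_zero, Matrix.cons_val_one, Matrix.cons_val, smul_smul]
    rw [mul_assoc, inv_mul_cancel₀ hx0, mul_one, mul_assoc, inv_mul_cancel₀ hx0, mul_one]
  have hu4 : UU Q M c (α • f + β • e k + (δ * ω) • e k'') := by
    have h3 := C.U_conj hJ₂ hu3
    rwa [Matrix.mulVec_add, Matrix.mulVec_add, Matrix.mulVec_smul, Matrix.mulVec_smul, Matrix.mulVec_smul, hJ₂f, hJ₂k, hJ₂k'] at h3
  have hu5 : UU Q M c (e k + z) := by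
    have h3 := C.U_conj hg hu4
    rw [Matrix.mulVec_add, hgx, Matrix.mulVec_smul, hgk'', smul_smul] at h3
    have e4 : δ * ω * δ = ω := by
      linear_combination ω * hδ
    rw [e4] at h3
    convert h3 using 1
    rw [hz]
    abel
  have hcoz : co Q e c k z = 0 := by
    rw [hz, co_add, co_add, hfk, co_smul, co_smul, hfr.co_e_ne (Ne.symm hkk'), hfr.co_e_ne (Ne.symm hkk'')]
    ring
  have hu6 : UU Q M c (e k - z) := by
    have h3 := MC.U_neg (C.U_flip hn k hu5)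
    rw [co_add, hcoz, hfr.co_e_self] at h3
    convert h3 using 1
    have : (2 * (1 + 0) : F) = 2 := by ring
    rw [this, two_smul]
    abel
  have hpz : polar Q (e k) z = 0 := by
    rw [polar_comm, hfr.polar_e, hcoz, mul_zero]
  have h0k' : polar Q f (e k'') = 0 := hpf_e k'' hk''2
  have hQz : Q z = 0 := by
    have h3 : Q (f + ζ • e k' + ω • e k'') = Q (bb f (e k') (e k'') ![1, ζ, ω]) := by
      simp [bb]
    rw [hz, h3, Q_bb h2 (hpf_e k' hk') h0k' (hfr.ho k' k'' (Ne.symm hk''1)), hQf, hfr.he, hfr.he]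
    simp only [Matrix.cons_val_zero, Matrix.cons_val_one, Matrix.cons_val]
    linear_combination c * hzw
  have hR : R hQ M z (e k) := R_of_unit h2 hc hpf hQz hpz (hfr.he k) hu5 hu6
  have hz0 : z ≠ 0 := by
    intro h0
    have h3 : polar Q z f = 2 * Q f := by
      rw [hz, polar_add_left, polar_add_left, polar_self', polar_smul_l, polar_smul_l, polar_comm Q (e k') f,
        polar_comm Q (e k'') f, hpf_e k' hk', h0k']
      ring
    rw [h0, polar_zero_left, hQf] at h3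
    exact mul_ne_zero h2 hd h3.symm
  refine ⟨z, hR, hz0, fun j hj => ?_⟩
  by_contra hcon
  push Not at hcon
  obtain ⟨j1, j2, j3⟩ := hcon
  apply hj
  have j4 : co Q e c j f = 0 := by
    by_contra h0
    obtain ⟨a, b⟩ := hfT j h0
    exact b (j3 a)
  rw [hz, co_add, co_add, co_smul, co_smul, j4, hfr.co_e_ne (Ne.symm j1)]
  by_cases hj'' : j = k''
  · have := j2 hj''
    rw [this]
    ring
  · rw [hfr.co_e_ne (Ne.symm hj'')]
    ring

end stepB

end Cfsg.Agent.Lib.Fr7A
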