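import Mathlib
import Cfsg.Agent.Lib.FastMat

set_option autoImplicit false

namespace Cfsg.Agent.Lib.Frob9

open Cfsg.Agent.Lib.FrobMat Cfsg.Agent.Lib.FastMat

/-- The elements of a Frobenius complement `5 : 8` in `GL₄(3)`, with the inverses of `m - 1`. -/
def LD9 : List (List ℕ × List ℕ) := [
  ([1, 0, 0, 0, 0, 1, 0, 0, 0, 0, 1, 0, 0, 0, 0, 1], [1, 0, 0, 0, 0, 1, 0, 0, 0, 0, 1, 0, 0, 0, 0, 1]),
  ([0, 1, 2, 1, 1, 0, 1, 0, 0, 0, 2, 2, 0, 2, 2, 1], [1, 2, 1, 2, 2, 2, 2, 2, 1, 1, 1, 0, 1, 1, 0, 0]),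
  ([1, 2, 1, 2, 0, 1, 1, 0, 0, 1, 2, 0, 2, 2, 2, 2], [2, 2, 1, 2, 0, 2, 1, 0, 0, 1, 0, 0, 2, 2, 2, 0]),
  ([2, 2, 1, 2, 1, 0, 0, 2, 1, 0, 2, 1, 2, 0, 2, 2], [2, 1, 2, 1, 2, 0, 0, 2, 1, 2, 0, 0, 0, 0, 2, 2]),
  ([2, 0, 0, 0, 0, 2, 0, 0, 0, 0, 2, 0, 0, 0, 0, 2], [1, 0, 0, 0, 0, 1, 0, 0, 0, 0, 1, 0, 0, 0, 0, 1]),
  ([0, 2, 1, 2, 2, 0, 2, 0, 0, 0, 1, 1, 0, 1, 1, 2], [0, 2, 1, 2, 1, 2, 0, 1, 2, 1, 2, 0, 0, 0, 1, 0]),
  ([2, 1, 2, 1, 0, 2, 2, 0, 0, 2, 1, 0, 1, 1, 1, 1], [0, 1, 2, 1, 0, 0, 2, 0, 0, 2, 2, 0, 1, 1, 1, 2]),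
  ([1, 1, 2, 1, 2, 0, 0, 1, 2, 0, 1, 2, 1, 0, 1, 1], [1, 1, 2, 1, 1, 0, 1, 1, 2, 2, 1, 0, 2, 2, 0, 2]),
  ([2, 0, 2, 0, 2, 2, 0, 2, 2, 2, 2, 0, 0, 2, 0, 2], [0, 2, 0, 2, 2, 0, 2, 0, 2, 2, 0, 2, 2, 0, 2, 1]),
  ([0, 2, 2, 0, 2, 0, 1, 1, 2, 2, 1, 0, 2, 1, 0, 2], [2, 2, 0, 1, 1, 1, 2, 2, 2, 0, 1, 0, 1, 1, 1, 0]),
  ([2, 0, 0, 1, 0, 1, 2, 2, 2, 2, 2, 1, 1, 0, 0, 1], [0, 0, 0, 1, 0, 2, 2, 2, 2, 2, 0, 1, 1, 0, 0, 2]),
  ([0, 1, 0, 0, 1, 1, 0, 0, 2, 1, 0, 1, 0, 0, 1, 2], [0, 1, 0, 0, 1, 1, 0, 0, 2, 0, 1, 2, 1, 0, 2, 2]),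
  ([1, 0, 1, 0, 1, 1, 0, 1, 1, 1, 1, 0, 0, 1, 0, 1], [0, 0, 1, 2, 0, 0, 0, 1, 1, 0, 0, 0, 0, 1, 2, 1]),
  ([0, 1, 1, 0, 1, 0, 2, 2, 1, 1, 2, 0, 1, 2, 0, 1], [1, 0, 2, 0, 1, 0, 2, 2, 1, 0, 0, 1, 2, 2, 0, 0]),
  ([1, 0, 0, 2, 0, 2, 1, 1, 1, 1, 1, 2, 2, 0, 0, 2], [2, 0, 0, 2, 0, 0, 1, 1, 1, 1, 2, 2, 2, 0, 0, 0]),
  ([0, 2, 0, 0, 2, 2, 0, 0, 1, 2, 0, 2, 0, 0, 2, 1], [1, 1, 0, 0, 1, 2, 0, 0, 0, 0, 0, 2, 0, 2, 2, 1]),
  ([2, 1, 2, 0, 2, 2, 1, 2, 0, 2, 2, 1, 1, 2, 0, 2], [0, 1, 2, 2, 1, 0, 1, 2, 0, 1, 0, 1, 1, 2, 2, 1]),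
  ([1, 2, 0, 0, 2, 0, 0, 0, 2, 2, 2, 2, 2, 2, 2, 0], [1, 2, 0, 0, 2, 0, 0, 0, 0, 0, 2, 1, 0, 1, 1, 1]),
  ([2, 1, 1, 1, 0, 2, 1, 2, 2, 0, 2, 2, 2, 2, 1, 0], [0, 1, 1, 1, 0, 0, 1, 2, 2, 0, 0, 2, 2, 2, 1, 1]),
  ([1, 1, 0, 2, 2, 1, 2, 1, 0, 0, 0, 2, 2, 2, 2, 1], [2, 0, 1, 2, 2, 2, 0, 1, 2, 1, 2, 2, 1, 2, 0, 1]),
  ([1, 2, 1, 0, 1, 1, 2, 1, 0, 1, 1, 2, 2, 1, 0, 1], [1, 1, 1, 0, 1, 1, 1, 1, 2, 1, 1, 1, 1, 1, 0, 1]),
  ([2, 1, 0, 0, 1, 0, 0, 0, 1, 1, 1, 1, 1, 1, 1, 0], [2, 2, 0, 0, 2, 1, 0, 0, 1, 0, 1, 1, 2, 0, 1, 0]),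
  ([1, 2, 2, 2, 0, 1, 2, 1, 1, 0, 1, 1, 1, 1, 2, 0], [2, 2, 2, 2, 0, 2, 2, 1, 1, 0, 2, 1, 1, 1, 2, 1]),
  ([2, 2, 0, 1, 1, 2, 1, 2, 0, 0, 0, 1, 1, 1, 1, 2], [2, 0, 2, 2, 1, 1, 2, 1, 0, 1, 2, 2, 0, 1, 0, 2]),
  ([1, 0, 2, 2, 1, 1, 0, 2, 2, 1, 1, 0, 0, 2, 2, 2], [2, 2, 1, 1, 2, 2, 2, 1, 0, 2, 2, 2, 2, 1, 1, 1]),
  ([0, 2, 1, 1, 1, 2, 1, 0, 1, 2, 1, 1, 2, 1, 1, 0], [1, 0, 1, 2, 2, 1, 1, 0, 0, 0, 1, 1, 1, 1, 1, 1]),
  ([2, 2, 0, 0, 2, 1, 0, 0, 2, 0, 2, 1, 1, 2, 1, 1], [0, 2, 0, 0, 2, 2, 0, 0, 2, 0, 0, 1, 1, 2, 1, 2]),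
  ([2, 2, 0, 2, 1, 2, 2, 2, 0, 1, 1, 1, 2, 0, 2, 1], [1, 0, 1, 0, 2, 2, 1, 1, 2, 0, 2, 2, 1, 1, 0, 2]),
  ([2, 0, 1, 1, 2, 2, 0, 1, 1, 2, 2, 0, 0, 1, 1, 1], [1, 2, 2, 0, 2, 1, 2, 2, 1, 2, 1, 2, 2, 2, 0, 1]),
  ([0, 1, 2, 2, 2, 1, 2, 0, 2, 1, 2, 2, 1, 2, 2, 0], [2, 2, 1, 0, 1, 2, 1, 1, 1, 0, 2, 0, 0, 0, 1, 1]),
  ([1, 1, 0, 0, 1, 2, 0, 0, 1, 0, 1, 2, 2, 1, 2, 2], [2, 1, 0, 0, 1, 0, 0, 0, 1, 0, 2, 2, 2, 1, 2, 0]),
  ([1, 1, 0, 1, 2, 1, 1, 1, 0, 2, 2, 2, 1, 0, 1, 2], [0, 1, 0, 2, 2, 1, 1, 1, 1, 0, 1, 0, 2, 2, 2, 2]),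
  ([0, 2, 0, 1, 1, 0, 2, 0, 2, 1, 0, 2, 2, 0, 1, 2], [2, 1, 0, 1, 1, 2, 1, 0, 1, 1, 2, 1, 1, 0, 1, 1]),
  ([2, 2, 1, 1, 0, 1, 0, 2, 1, 0, 0, 1, 0, 0, 1, 0], [0, 0, 1, 1, 2, 1, 1, 2, 0, 2, 0, 1, 0, 2, 0, 0]),
  ([2, 1, 1, 2, 1, 1, 2, 2, 0, 0, 1, 2, 0, 0, 2, 2], [0, 1, 1, 2, 1, 2, 2, 2, 0, 0, 2, 2, 0, 0, 2, 0]),
  ([1, 0, 2, 0, 1, 2, 2, 1, 0, 1, 0, 1, 0, 1, 2, 0], [0, 1, 2, 0, 2, 0, 2, 2, 2, 0, 0, 0, 0, 0, 2, 1]),
  ([0, 1, 0, 2, 2, 0, 1, 0, 1, 2, 0, 1, 1, 0, 2, 1], [2, 0, 2, 1, 0, 2, 0, 2, 2, 0, 2, 0, 0, 2, 1, 1]),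
  ([1, 1, 2, 2, 0, 2, 0, 1, 2, 0, 0, 2, 0, 0, 2, 0], [0, 0, 2, 1, 1, 0, 0, 2, 1, 2, 0, 1, 2, 1, 0, 1]),
  ([1, 2, 2, 1, 2, 2, 1, 1, 0, 0, 2, 1, 0, 0, 1, 1], [2, 2, 2, 1, 2, 0, 1, 1, 0, 0, 0, 1, 0, 0, 1, 2]),
  ([2, 0, 1, 0, 2, 1, 1, 2, 0, 2, 0, 2, 0, 2, 1, 0], [1, 0, 2, 1, 1, 1, 2, 0, 0, 0, 1, 2, 2, 2, 2, 1])]

/-- The elements of the complement. -/
def L9 : List (List ℕ) := LD9.map Prod.fst

set_option maxRecDepth 100000 in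
lemma L9_good : Good 3 L9 := by
  constructor <;> decide +kernel

set_option maxRecDepth 100000 in
lemma LD9_fix : ∀ p ∈ LD9, p.1 = one4 ∨ mulL 3 p.2 (subOne 3 p.1) = one4 := by decide +kernel

set_option maxRecDepth 100000 in
lemma L9_pow : ∀ m ∈ L9, powL 3 m 8 = one4 ∨ powL 3 m 10 = one4 := by decide +kernel

/-- The element orders of the complement. -/
lemma spec_L9 : {k | ∃ m ∈ L9, orderOf (toMat 3 m) = k} = {n | n ∣ 8 ∨ n ∣ 10} := by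
  ext n
  constructor
  · rintro ⟨m, hm, rfl⟩
    rcases L9_pow m hm with h | h
    · exact Or.inl (order_dvd_of_coded _ _ _ h)
    · exact Or.inr (order_dvd_of_coded _ _ _ h)
  · have h8 : ∀ n, n ∣ 8 → ∃ m ∈ L9, orderOf (toMat 3 m) = n := by
      intro n hn
      have hmem : n ∈ Nat.divisors 8 := Nat.mem_divisors.mpr ⟨hn, by norm_num⟩
      have h3 : Nat.divisors 8 = {1, 2, 4, 8} := by decide +kernel
      rw [h3] at hmem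
      simp only [Finset.mem_insert, Finset.mem_singleton] at hmem
      rcases hmem with rfl | rfl | rfl | rfl
      · exact ⟨one4, by decide +kernel, order_of_coded _ _ _ (by norm_num) (by decide +kernel) (by
          rw [Nat.primeFactors_one]; simp)⟩
      · refine ⟨[2, 0, 0, 0, 0, 2, 0, 0, 0, 0, 2, 0, 0, 0, 0, 2], by decide +kernel,
          order_of_coded _ _ _ (by norm_num) (by decide +kernel) ?_⟩
        rw [Nat.prime_two.primeFactors]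
        intro p hp
        rw [Finset.mem_singleton] at hp
        subst hp
        decide +kernel
      · refine ⟨[1, 2, 1, 2, 0, 1, 1, 0, 0, 1, 2, 0, 2, 2, 2, 2], by decide +kernel,
          order_of_coded _ _ _ (by norm_num) (by decide +kernel) ?_⟩
        have : Nat.primeFactors 4 = {2} := by decide +kernel
        rw [this]
        intro p hp
        rw [Finset.mem_singleton] at hp
        subst hp
        decide +kernel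
      · refine ⟨[0, 1, 2, 1, 1, 0, 1, 0, 0, 0, 2, 2, 0, 2, 2, 1], by decide +kernel,
          order_of_coded _ _ _ (by norm_num) (by decide +kernel) ?_⟩
        have : Nat.primeFactors 8 = {2} := by decide +kernel
        rw [this]
        intro p hp
        rw [Finset.mem_singleton] at hp
        subst hp
        decide +kernel
    have h10 : ∀ n, n ∣ 10 → ∃ m ∈ L9, orderOf (toMat 3 m) = n := by
      intro n hn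
      have hmem : n ∈ Nat.divisors 10 := Nat.mem_divisors.mpr ⟨hn, by norm_num⟩
      have h3 : Nat.divisors 10 = {1, 2, 5, 10} := by decide +kernel
      rw [h3] at hmem
      simp only [Finset.mem_insert, Finset.mem_singleton] at hmem
      rcases hmem with rfl | rfl | rfl | rfl
      · exact h8 1 (by norm_num)
      · exact h8 2 (by norm_num)
      · refine ⟨[2, 0, 2, 0, 2, 2, 0, 2, 2, 2, 2, 0, 0, 2, 0, 2], by decide +kernel,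
          order_of_coded _ _ _ (by norm_num) (by decide +kernel) ?_⟩
        have : Nat.primeFactors 5 = {5} := by decide +kernel
        rw [this]
        intro p hp
        rw [Finset.mem_singleton] at hp
        subst hp
        decide +kernel
      · refine ⟨[1, 0, 1, 0, 1, 1, 0, 1, 1, 1, 1, 0, 0, 1, 0, 1], by decide +kernel,
          order_of_coded _ _ _ (by norm_num) (by decide +kernel) ?_⟩
        have : Nat.primeFactors 10 = {2, 5} := by decide +kernel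
        rw [this]
        intro p hp
        rw [Finset.mem_insert, Finset.mem_singleton] at hp
        rcases hp with rfl | rfl <;> decide +kernel
    rintro (h | h)
    · exact h8 n h
    · exact h10 n h

/-- Large groups for the field with nine elements. -/
theorem large9 (N : ℕ) :
    ∃ (H : Type) (_ : Group H) (_ : Fintype H), N < Fintype.card H ∧
      Set.range (orderOf : H → ℕ) = {n | n = 3 ∨ n ∣ 8 ∨ n ∣ 10} := by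
  obtain ⟨H, i1, i2, h1, h2⟩ := large_of_good 3 Nat.prime_three L9 L9_good LD9
    (fun m hm => by
      obtain ⟨p, hp, rfl⟩ := List.mem_map.mp hm
      exact ⟨p, hp, rfl⟩) LD9_fix N
  refine ⟨H, i1, i2, h1, ?_⟩
  rw [h2, spec_L9]
  ext n
  simp only [Set.mem_union, Set.mem_insert_iff, Set.mem_singleton_iff, Set.mem_ofPred_eq]
  constructor
  · rintro ((rfl | rfl) | h)
    · exact Or.inr (Or.inl (one_dvd _))
    · exact Or.inl rfl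
    · exact Or.inr h
  · rintro (rfl | h)
    · exact Or.inl (Or.inr rfl)
    · exact Or.inr h

/-- The complement of order 2. -/
def LD2 : List (List ℕ × List ℕ) :=
  [(one4, one4), ([2, 0, 0, 0, 0, 2, 0, 0, 0, 0, 2, 0, 0, 0, 0, 2], [1, 0, 0, 0, 0, 1, 0, 0, 0, 0, 1, 0, 0, 0, 0, 1])]

/-- The complement of order 4. -/
def LD3 : List (List ℕ × List ℕ) :=
  [(one4, one4),
   ([0, 2, 0, 0, 1, 0, 0, 0, 0, 0, 0, 2, 0, 0, 1, 0], [1, 2, 0, 0, 1, 1, 0, 0, 0, 0, 1, 2, 0, 0, 1, 1]),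
   ([2, 0, 0, 0, 0, 2, 0, 0, 0, 0, 2, 0, 0, 0, 0, 2], [1, 0, 0, 0, 0, 1, 0, 0, 0, 0, 1, 0, 0, 0, 0, 1]),
   ([0, 1, 0, 0, 2, 0, 0, 0, 0, 0, 0, 1, 0, 0, 2, 0], [1, 1, 0, 0, 2, 1, 0, 0, 0, 0, 1, 1, 0, 0, 2, 1])]

lemma LD2_good : Good 3 (LD2.map Prod.fst) := by
  constructor <;> decide +kernel

lemma LD3_good : Good 3 (LD3.map Prod.fst) := by
  constructor <;> decide +kernel

lemma LD2_fix : ∀ p ∈ LD2, p.1 = one4 ∨ mulL 3 p.2 (subOne 3 p.1) = one4 := by decide +kernel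

lemma LD3_fix : ∀ p ∈ LD3, p.1 = one4 ∨ mulL 3 p.2 (subOne 3 p.1) = one4 := by decide +kernel

lemma order_one : orderOf (toMat 3 one4) = 1 :=
  order_of_coded _ _ _ (by norm_num) (by decide +kernel) (by
    rw [Nat.primeFactors_one]; simp)

lemma order_two : orderOf (toMat 3 [2, 0, 0, 0, 0, 2, 0, 0, 0, 0, 2, 0, 0, 0, 0, 2]) = 2 := by
  refine order_of_coded _ _ _ (by norm_num) (by decide +kernel) ?_
  rw [Nat.prime_two.primeFactors]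
  intro p hp
  rw [Finset.mem_singleton] at hp
  subst hp
  decide +kernel

lemma order_four : orderOf (toMat 3 [0, 2, 0, 0, 1, 0, 0, 0, 0, 0, 0, 2, 0, 0, 1, 0]) = 4 := by
  refine order_of_coded _ _ _ (by norm_num) (by decide +kernel) ?_
  have : Nat.primeFactors 4 = {2} := by decide +kernel
  rw [this]
  intro p hp
  rw [Finset.mem_singleton] at hp
  subst hp
  decide +kernel

lemma order_four' : orderOf (toMat 3 [0, 1, 0, 0, 2, 0, 0, 0, 0, 0, 0, 1, 0, 0, 2, 0]) = 4 := by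
  refine order_of_coded _ _ _ (by norm_num) (by decide +kernel) ?_
  have : Nat.primeFactors 4 = {2} := by decide +kernel
  rw [this]
  intro p hp
  rw [Finset.mem_singleton] at hp
  subst hp
  decide +kernel

/-- Large groups for the field with two elements. -/
theorem large2 (N : ℕ) :
    ∃ (H : Type) (_ : Group H) (_ : Fintype H), N < Fintype.card H ∧
      Set.range (orderOf : H → ℕ) = {n | n = 2 ∨ n ∣ 1 ∨ n ∣ 3} := by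
  obtain ⟨H, i1, i2, h1, h2⟩ := large_of_good 3 Nat.prime_three _ LD2_good LD2
    (fun m hm => by
      obtain ⟨p, hp, rfl⟩ := List.mem_map.mp hm
      exact ⟨p, hp, rfl⟩) LD2_fix N
  refine ⟨H, i1, i2, h1, ?_⟩
  rw [h2]
  ext n
  simp only [Set.mem_union, Set.mem_insert_iff, Set.mem_singleton_iff, Set.mem_ofPred_eq]
  constructor
  · rintro ((rfl | rfl) | ⟨m, hm, rfl⟩)
    · exact Or.inr (Or.inl (one_dvd _))
    · exact Or.inr (Or.inr dvd_rfl)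
    · have hm' : m = one4 ∨ m = [2, 0, 0, 0, 0, 2, 0, 0, 0, 0, 2, 0, 0, 0, 0, 2] := by
        simpa [LD2] using hm
      rcases hm' with rfl | rfl
      · rw [order_one]; exact Or.inr (Or.inl dvd_rfl)
      · rw [order_two]; exact Or.inl rfl
  · rintro (rfl | h | h)
    · exact Or.inr ⟨_, by decide +kernel, order_two⟩
    · left; left; exact Nat.dvd_one.mp h
    · rcases (Nat.dvd_prime Nat.prime_three).mp h with rfl | rfl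
      · left; left; rfl
      · left; right; rfl

/-- Large groups for the field with three elements. -/
theorem large3 (N : ℕ) :
    ∃ (H : Type) (_ : Group H) (_ : Fintype H), N < Fintype.card H ∧
      Set.range (orderOf : H → ℕ) = {n | n = 3 ∨ n ∣ 2 ∨ n ∣ 4} := by
  obtain ⟨H, i1, i2, h1, h2⟩ := large_of_good 3 Nat.prime_three _ LD3_good LD3
    (fun m hm => by
      obtain ⟨p, hp, rfl⟩ := List.mem_map.mp hm
      exact ⟨p, hp, rfl⟩) LD3_fix N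
  refine ⟨H, i1, i2, h1, ?_⟩
  rw [h2]
  ext n
  simp only [Set.mem_union, Set.mem_insert_iff, Set.mem_singleton_iff, Set.mem_ofPred_eq]
  have h4 : ∀ n, n ∣ 4 → n = 1 ∨ n = 2 ∨ n = 4 := by
    intro n hn
    have hmem : n ∈ Nat.divisors 4 := Nat.mem_divisors.mpr ⟨hn, by norm_num⟩
    have h3 : Nat.divisors 4 = {1, 2, 4} := by decide +kernel
    rw [h3] at hmem
    simpa using hmem
  constructor
  · rintro ((rfl | rfl) | ⟨m, hm, rfl⟩)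
    · exact Or.inr (Or.inl (one_dvd _))
    · exact Or.inl rfl
    · have hm' : m = one4 ∨ m = [0, 2, 0, 0, 1, 0, 0, 0, 0, 0, 0, 2, 0, 0, 1, 0] ∨
          m = [2, 0, 0, 0, 0, 2, 0, 0, 0, 0, 2, 0, 0, 0, 0, 2] ∨
          m = [0, 1, 0, 0, 2, 0, 0, 0, 0, 0, 0, 1, 0, 0, 2, 0] := by
        simpa [LD3] using hm
      rcases hm' with rfl | rfl | rfl | rfl
      · rw [order_one]; exact Or.inr (Or.inl (one_dvd _))
      · rw [order_four]; exact Or.inr (Or.inr dvd_rfl)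
      · rw [order_two]; exact Or.inr (Or.inl dvd_rfl)
      · rw [order_four']; exact Or.inr (Or.inr dvd_rfl)
  · have hb : ∀ n, n ∣ 4 → ((n = 1 ∨ n = 3) ∨ ∃ m ∈ List.map Prod.fst LD3, orderOf (toMat 3 m) = n) := by
      intro n hn
      rcases h4 n hn with rfl | rfl | rfl
      · left; left; rfl
      · exact Or.inr ⟨_, by decide +kernel, order_two⟩
      · exact Or.inr ⟨_, by decide +kernel, order_four⟩
    rintro (rfl | h | h)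
    · left; right; rfl
    · exact hb n (h.trans (by norm_num))
    · exact hb n h

end Cfsg.Agent.Lib.Frob9
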