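import Mathlib
import Cfsg.Agent.Lib.FrobAutD
import Cfsg.Agent.Lib.ThompsonJ
import Cfsg.Agent.Lib.ZJe
import Cfsg.Agent.Lib.NPCBasic
import Cfsg.Agent.Lib.CoprimeInv
import Cfsg.Agent.S0117

/-!
# Frobenius groups of automorphisms: the main theorem.
-/

set_option autoImplicit false

open Cfsg Cfsg.Agent.Lib.PCore

namespace Cfsg.Agent.Lib.FrobAut

universe u

variable {A : Type*} [Group A] [Finite A] {F H : Subgroup A}

section

variable {G : Type u} [Group G] [Finite G]

/-- The abelian-normal case. -/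
theorem prop_V (hF : Frob F H) (φ : A →* MulAut G) (hyp : Hyp φ F H)
    (hIH : ∀ (G' : Type u) [Group G'] [Finite G'] (φ' : A →* MulAut G'),
      Nat.card G' < Nat.card G → Hyp φ' F H → Group.IsNilpotent G')
    (V : Subgroup G) [hVn : V.Normal] (hV : Inv φ V) (hVne : V ≠ ⊥) (hVtop : V ≠ ⊤)
    (hmin : ∀ W : Subgroup G, W.Normal → Inv φ W → W ≠ ⊥ → W ≤ V → W = V) :
    Group.IsNilpotent G := by
  classical
  have hnilP : ∀ M : Subgroup G, Inv φ M → M ≠ ⊤ → Group.IsNilpotent M := fun M hM hne =>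
    hIH M (res φ M hM) (card_lt_of_ne_top' M hne) (hyp_res hyp M hM)
  haveI hVnil : Group.IsNilpotent V := hnilP V hV hVtop
  haveI hVnt : Nontrivial V := (Subgroup.nontrivial_iff_ne_bot V).mpr hVne
  -- `V` is abelian
  have hVc : ∀ x ∈ V, ∀ y ∈ V, x * y = y * x := by
    have hZ : (Subgroup.center V).map V.subtype = V := by
      apply hmin _ (normal_char_map _ inferInstance) (inv_char_map hV _ inferInstance)
      · intro h0
        rw [Subgroup.map_eq_bot_iff_of_injective _ V.subtype_injective] at h0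
        exact (Group.IsNilpotent.center_ne_bot V) h0
      · exact Subgroup.map_subtype_le _
    intro x hx y hy
    rw [← hZ] at hx
    obtain ⟨x', hx', rfl⟩ := hx
    exact (congrArg Subtype.val ((Subgroup.mem_center_iff.mp hx') ⟨y, hy⟩)).symm
  -- `V` is a `p`-group
  obtain ⟨p, hp, hpV⟩ := Nat.exists_prime_and_dvd (Finite.one_lt_card (α := V)).ne'
  haveI : Fact p.Prime := ⟨hp⟩
  have hVp : IsPGroup p V := by
    have hY : (pCore p V).map V.subtype = V := by
      apply hmin _ (normal_char_map _ (pCore_characteristic p))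
        (inv_char_map hV _ (pCore_characteristic p))
      · intro h0
        rw [Subgroup.map_eq_bot_iff_of_injective _ V.subtype_injective] at h0
        let S : Sylow p V := default
        have h1 : (S : Subgroup V) ≤ pCore p V := le_pCore inferInstance S.2
        rw [h0, le_bot_iff] at h1
        exact S.ne_bot_of_dvd_card hpV h1
      · exact Subgroup.map_subtype_le _
    rw [← hY]
    exact (isPGroup_pCore p).map _
  have hyp' : Hyp (quo φ V hV) F H := hyp_quo hF hyp V hV hVp hVc
  haveI hnilQ : Group.IsNilpotent (G ⧸ V) :=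
    hIH _ _ (Cfsg.Agent.Lib.Coprime.card_quotient_lt hVne) hyp'
  apply (Group.isNilpotent_of_finite_tfae (G := G)).out 3 0 |>.mp
  intro q hqf T
  haveI := hqf
  let O : Subgroup (G ⧸ V) := pCore q (G ⧸ V)
  let L : Subgroup G := O.comap (QuotientGroup.mk' V)
  haveI hLn : L.Normal := Subgroup.Normal.comap inferInstance _
  have hLinv : Inv φ L := by
    intro a x hx
    have h1 : (x : G ⧸ V) ∈ O := hx
    have h2 := Subgroup.characteristic_iff_map_eq.mp (pCore_characteristic q (G := G ⧸ V)) (quo φ V hV a)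
    have h3 : quo φ V hV a (x : G ⧸ V) ∈ O := by
      change _ ∈ pCore q (G ⧸ V)
      rw [← h2]
      exact ⟨_, h1, rfl⟩
    exact h3
  have hTL : (T : Subgroup G) ≤ L := by
    rw [← Subgroup.map_le_iff_le_comap]
    exact le_pCore_of_nilpotent hnilQ (T.2.map _)
  by_cases hqp : q = p
  · subst hqp
    have hLp : IsPGroup q L := by
      rintro ⟨x, hx⟩
      obtain ⟨k, hk⟩ := (isPGroup_pCore q (G := G ⧸ V)) ⟨(x : G ⧸ V), hx⟩
      have hk' : (x : G ⧸ V) ^ q ^ k = 1 := congrArg Subtype.val hk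
      have hxk : x ^ q ^ k ∈ V := by
        have : ((x ^ q ^ k : G) : G ⧸ V) = 1 := by
          rw [QuotientGroup.mk_pow, hk']
        exact (QuotientGroup.eq_one_iff _).mp this
      obtain ⟨m, hm⟩ := hVp ⟨_, hxk⟩
      refine ⟨k + m, Subtype.ext ?_⟩
      have hm' : (x ^ q ^ k) ^ q ^ m = 1 := congrArg Subtype.val hm
      change x ^ q ^ (k + m) = 1
      rw [pow_add, pow_mul, hm']
    have hTeq : L = T := T.is_maximal' hLp hTL
    rw [← hTeq]
    exact hLn
  · by_cases hLtop : L = ⊤
    · have hQ : IsPGroup q (G ⧸ V) := by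
        intro x
        induction x using QuotientGroup.induction_on with
        | H g =>
          have hg : g ∈ L := by rw [hLtop]; trivial
          obtain ⟨k, hk⟩ := (isPGroup_pCore q (G := G ⧸ V)) ⟨(g : G ⧸ V), hg⟩
          exact ⟨k, congrArg Subtype.val hk⟩
      have hnil := final_group hF φ hyp hIH V hV hVne hVtop hmin hVc hVp hqp hQ
      exact Sylow.normal_of_normalizerCondition Group.normalizerCondition_of_isNilpotent T
    · haveI hLnil : Group.IsNilpotent L := hnilP L hLinv hLtop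
      let Y : Subgroup G := (pCore q L).map L.subtype
      have hYn : Y.Normal := normal_char_map _ (pCore_characteristic q)
      have hYq : IsPGroup q Y := (isPGroup_pCore q).map _
      have hTY : (T : Subgroup G) ≤ Y := by
        intro t ht
        have h1 : IsPGroup q ((T : Subgroup G).subgroupOf L) :=
          T.2.of_injective (Subgroup.subgroupOfEquivOfLe hTL).toMonoidHom
            (Subgroup.subgroupOfEquivOfLe hTL).injective
        have h2 := le_pCore_of_nilpotent hLnil h1 (show (⟨t, hTL ht⟩ : L) ∈ _ from ht)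
        exact ⟨_, h2, rfl⟩
      have hTeq : Y = T := T.is_maximal' hYq hTY
      rw [← hTeq]
      exact hYn

/-- `Z(J(Q)) ≠ 1`. -/
theorem ZJ_ne_bot {q : ℕ} [Fact q.Prime] (Q : Subgroup G) (hQ : IsPGroup q Q) (hne : Q ≠ ⊥) :
    centerThompsonOf q Q ≠ ⊥ := by
  classical
  haveI : Nontrivial Q := (Subgroup.nontrivial_iff_ne_bot Q).mpr hne
  have hcn := hQ.center_nontrivial
  have hZq : IsPGroup q (Subgroup.center Q) := hQ.to_subgroup _
  have hdvd : q ∣ Nat.card (Subgroup.center Q) := by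
    obtain ⟨n, hn⟩ := IsPGroup.iff_card.mp hZq
    have h1 : Nat.card (Subgroup.center Q) ≠ 1 := Finite.one_lt_card.ne'
    rw [hn] at h1 ⊢
    have : n ≠ 0 := by
      rintro rfl
      simp at h1
    exact dvd_pow_self q this
  obtain ⟨z, hz⟩ := exists_prime_orderOf_dvd_card' q hdvd
  have hz1 : z ≠ 1 := by
    rintro rfl
    rw [orderOf_one] at hz
    exact (Fact.out : q.Prime).one_lt.ne hz
  have hzq : (z : Q) ^ q = 1 := by
    have := pow_orderOf_eq_one z
    rw [hz] at this
    exact congrArg Subtype.val this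
  obtain ⟨B, hB⟩ := Cfsg.Agent.Lib.ThompsonJ.exists_mem_max q Q
  have hzB : (z : Q) ∈ B := Cfsg.Agent.Lib.ThompsonJ.mem_of_mem_max hB hzq
    (Subgroup.mem_centralizer_iff.mpr (fun a _ => (Subgroup.mem_center_iff.mp z.2 a)))
  have hzJ : (z : Q) ∈ thompsonSubgroup q Q := Cfsg.Agent.Lib.ThompsonJ.le_thompson hB hzB
  intro h0
  have h1 : ((z : Q) : G) ∈ centerThompsonOf q Q := by
    refine Subgroup.mem_inf.mpr ⟨⟨_, hzJ, rfl⟩, ?_⟩
    rw [Subgroup.mem_centralizer_iff]
    rintro _ ⟨j, _, rfl⟩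
    exact congrArg Subtype.val (Subgroup.mem_center_iff.mp z.2 j)
  rw [h0, Subgroup.mem_bot] at h1
  apply hz1
  apply Subtype.ext
  exact Subtype.ext h1

/-- Nilpotent groups have normal `q`-complements. -/
theorem hasNPC_of_nil {X : Type u} [Group X] [Finite X] (hX : Group.IsNilpotent X) (q : ℕ)
    [Fact q.Prime] : HasNormalPComplement q X := by
  rw [Cfsg.Agent.Lib.NPCBasic.hasNPC_iff]
  refine ⟨pPrimeCore q X, inferInstance, card_pPrimeCore_coprime q, ?_⟩
  have htop : pPrimeCore q X ⊔ pCore q X = ⊤ := by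
    apply eq_top_of_forall_sylow_le
    intro r _
    refine ⟨default, ?_⟩
    generalize (default : Sylow r X) = S
    have hS : (S : Subgroup X).Normal :=
      Sylow.normal_of_normalizerCondition Group.normalizerCondition_of_isNilpotent S
    by_cases hr : r = q
    · subst hr
      exact le_trans (le_pCore hS S.2) le_sup_right
    · refine le_trans (le_pPrimeCore hS ?_) le_sup_left
      obtain ⟨n, hn⟩ := IsPGroup.iff_card.mp S.2
      rw [hn]
      apply Nat.Coprime.pow_left
      exact (Nat.coprime_primes (Fact.out) (Fact.out)).mpr hr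
  have hq : IsPGroup q (X ⧸ pPrimeCore q X) := by
    intro x
    induction x using QuotientGroup.induction_on with
    | H g =>
      have hg : g ∈ pPrimeCore q X ⊔ pCore q X := by rw [htop]; trivial
      rw [← SetLike.mem_coe, Subgroup.mul_normal, Set.mem_mul] at hg
      obtain ⟨e, he, y, hy, rfl⟩ := hg
      obtain ⟨k, hk⟩ := (isPGroup_pCore q (G := X)) ⟨y, hy⟩
      refine ⟨k, ?_⟩
      have h1 : ((e * y : X) : X ⧸ pPrimeCore q X) = (y : X ⧸ pPrimeCore q X) := by
        rw [QuotientGroup.mk_mul, (QuotientGroup.eq_one_iff e).mpr he, one_mul]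
      rw [h1, ← QuotientGroup.mk_pow]
      have h2 : y ^ q ^ k = 1 := congrArg Subtype.val hk
      rw [h2]
      rfl
  obtain ⟨k, hk⟩ := IsPGroup.iff_card.mp hq
  exact ⟨k, hk⟩

/-- An invariant Sylow subgroup for an odd prime forces nilpotency (Glauberman–Thompson). -/
theorem odd_sylow_finish {q : ℕ} [Fact q.Prime] (hq2 : q ≠ 2) (φ : A →* MulAut G)
    (hprop : ∀ M : Subgroup G, Inv φ M → M ≠ ⊤ → Group.IsNilpotent M)
    (hsimple : ∀ M : Subgroup G, M.Normal → Inv φ M → M = ⊥ ∨ M = ⊤)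
    (Q : Sylow q G) (hQ : Inv φ (Q : Subgroup G)) (hqG : q ∣ Nat.card G) : Group.IsNilpotent G := by
  classical
  have hQne : (Q : Subgroup G) ≠ ⊥ := Q.ne_bot_of_dvd_card hqG
  set Z := centerThompsonOf q (Q : Subgroup G) with hZ
  have hQmap : ∀ a : A, (Q : Subgroup G).map (φ a : G →* G) = Q := by
    intro a
    ext x
    constructor
    · rintro ⟨y, hy, rfl⟩
      exact hQ a y hy
    · intro hx
      exact ⟨φ a⁻¹ x, hQ a⁻¹ x hx, act_inv_act φ a x⟩
  have hZinv : Inv φ Z := by
    intro a x hx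
    have h1 := Cfsg.Agent.Lib.ZJe.map_centerThompsonOf (p := q) (φ a : G →* G) (Q : Subgroup G)
      (fun y _ hy => by
        have : φ a y = 1 := hy
        exact (map_eq_one_iff (φ a) (φ a).injective).mp this)
    rw [hQmap a] at h1
    have h2 : φ a x ∈ (Z).map (φ a : G →* G) := ⟨x, hx, rfl⟩
    rw [h1] at h2
    exact h2
  have hG_q : IsPGroup q G → Group.IsNilpotent G := fun h => h.isNilpotent
  have hZle : Z ≤ Q := by
    intro x hx
    obtain ⟨y, _, rfl⟩ := (Subgroup.mem_inf.mp hx).1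
    exact y.2
  have hZne : Z ≠ ⊥ := ZJ_ne_bot _ Q.2 hQne
  let M : Subgroup G := Subgroup.normalizer (Z : Set G)
  have hMinv : Inv φ M := by
    intro a x hx
    rw [Subgroup.mem_normalizer_iff] at hx ⊢
    intro y
    have h1 := hx (φ a⁻¹ y)
    have h2 : φ a x * y * (φ a x)⁻¹ = φ a (x * φ a⁻¹ y * x⁻¹) := by
      rw [map_mul (φ a), map_mul (φ a), map_inv (φ a), act_inv_act]
    rw [h2, hZinv.map_mem_iff, ← h1, hZinv.map_mem_iff]
  by_cases hMtop : M = ⊤
  · have hZn : Z.Normal := by
      constructor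
      intro x hx g
      have hg : g ∈ M := by rw [hMtop]; trivial
      exact (Subgroup.mem_normalizer_iff.mp hg x).mp hx
    rcases hsimple Z hZn hZinv with h | h
    · exact absurd h hZne
    · apply hG_q
      have hQtop : (Q : Subgroup G) = ⊤ := by
        rw [eq_top_iff, ← h]
        exact hZle
      have h3 : IsPGroup q (⊤ : Subgroup G) := by
        rw [← hQtop]
        exact Q.2
      exact h3.of_equiv Subgroup.topEquiv
  have hMnil : Group.IsNilpotent M := hprop M hMinv hMtop
  have hM : HasNormalPComplement q M := hasNPC_of_nil hMnil q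
  have hG : HasNormalPComplement q G := (Cfsg.Agent.S0117.result hq2 Q).mpr hM
  rw [Cfsg.Agent.Lib.NPCBasic.hasNPC_iff] at hG
  obtain ⟨N, hNn, hNc, k, hk⟩ := hG
  have hKinv : Inv φ (pPrimeCore q G) := by
    intro a x hx
    have h2 := Subgroup.characteristic_iff_map_eq.mp (instPPrimeCoreCharacteristic q (G := G)) (φ a)
    rw [← h2]
    exact ⟨x, hx, rfl⟩
  rcases hsimple (pPrimeCore q G) inferInstance hKinv with h | h
  · have hNbot : N = ⊥ := by
      rw [eq_bot_iff, ← h]
      exact le_pPrimeCore hNn hNc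
    rw [hNbot] at hk
    apply hG_q
    rw [Subgroup.index_bot] at hk
    exact IsPGroup.of_card hk
  · exfalso
    have h1 := card_pPrimeCore_coprime (G := G) q
    rw [h] at h1
    rw [Subgroup.card_top] at h1
    have := Nat.Coprime.eq_one_of_dvd h1.symm hqG
    exact (Fact.out : q.Prime).one_lt.ne' this

/-- A proper invariant nilpotent subgroup of order divisible by `q` produces an invariant Sylow
`q`-subgroup. -/
theorem exists_inv_sylow {q : ℕ} [Fact q.Prime] (φ : A →* MulAut G)
    (hprop : ∀ M : Subgroup G, Inv φ M → M ≠ ⊤ → Group.IsNilpotent M)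
    (hsimple : ∀ M : Subgroup G, M.Normal → Inv φ M → M = ⊥ ∨ M = ⊤)
    (hnot : ¬ Group.IsNilpotent G)
    (T : Subgroup G) (hTinv : Inv φ T) (hTtop : T ≠ ⊤) (hqT : q ∣ Nat.card T) :
    ∃ Q : Sylow q G, Inv φ (Q : Subgroup G) := by
  classical
  haveI hTnil : Group.IsNilpotent T := hprop T hTinv hTtop
  let Y : Subgroup G := (pCore q T).map T.subtype
  have hYinv : Inv φ Y := inv_char_map hTinv _ (pCore_characteristic q)
  have hYq : IsPGroup q Y := (isPGroup_pCore q).map _
  have hYne : Y ≠ ⊥ := by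
    intro h0
    rw [Subgroup.map_eq_bot_iff_of_injective _ T.subtype_injective] at h0
    let S : Sylow q T := default
    have h1 : (S : Subgroup T) ≤ pCore q T := le_pCore inferInstance S.2
    rw [h0, le_bot_iff] at h1
    exact S.ne_bot_of_dvd_card hqT h1
  let fam : Set (Subgroup G) := {R | IsPGroup q R ∧ Inv φ R}
  obtain ⟨R, hYR, hR⟩ := (Set.toFinite fam).exists_le_maximal (a := Y) ⟨hYq, hYinv⟩
  have hRq : IsPGroup q R := hR.prop.1
  have hRinv : Inv φ R := hR.prop.2
  have hRne : R ≠ ⊥ := by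
    intro h0
    rw [h0, le_bot_iff] at hYR
    exact hYne hYR
  have hRtop : R ≠ ⊤ := by
    intro h0
    apply hnot
    have h3 : IsPGroup q (⊤ : Subgroup G) := by
      rw [← h0]
      exact hRq
    exact (h3.of_equiv Subgroup.topEquiv).isNilpotent
  let N : Subgroup G := Subgroup.normalizer (R : Set G)
  have hNinv : Inv φ N := by
    intro a x hx
    rw [Subgroup.mem_normalizer_iff] at hx ⊢
    intro y
    have h1 := hx (φ a⁻¹ y)
    have h2 : φ a x * y * (φ a x)⁻¹ = φ a (x * φ a⁻¹ y * x⁻¹) := by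
      rw [map_mul (φ a), map_mul (φ a), map_inv (φ a), act_inv_act]
    rw [h2, hRinv.map_mem_iff, ← h1, hRinv.map_mem_iff]
  have hNtop : N ≠ ⊤ := by
    intro hN
    have hRn : R.Normal := by
      constructor
      intro x hx g
      have hg : g ∈ N := by rw [hN]; trivial
      exact (Subgroup.mem_normalizer_iff.mp hg x).mp hx
    rcases hsimple R hRn hRinv with h | h
    · exact hRne h
    · exact hRtop h
  haveI hNnil : Group.IsNilpotent N := hprop N hNinv hNtop
  let R' : Subgroup G := (pCore q N).map N.subtype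
  have hR'inv : Inv φ R' := inv_char_map hNinv _ (pCore_characteristic q)
  have hR'q : IsPGroup q R' := (isPGroup_pCore q).map _
  have hRN : R ≤ N := Subgroup.le_normalizer
  have hRR' : R ≤ R' := by
    intro x hx
    have h1 : IsPGroup q (R.subgroupOf N) :=
      hRq.of_injective (Subgroup.subgroupOfEquivOfLe hRN).toMonoidHom
        (Subgroup.subgroupOfEquivOfLe hRN).injective
    have h2 := le_pCore_of_nilpotent hNnil h1 (show (⟨x, hRN hx⟩ : N) ∈ _ from hx)
    exact ⟨_, h2, rfl⟩
  have hReq : R = R' := (hR.eq_of_ge ⟨hR'q, hR'inv⟩ hRR').symm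
  obtain ⟨S, hS⟩ := hRq.exists_le_sylow
  by_cases hRS : R = S
  · refine ⟨S, ?_⟩
    rw [← hRS]
    exact hRinv
  · exfalso
    have hlt : R < S := lt_of_le_of_ne hS hRS
    obtain ⟨t, htS, htR, htN⟩ := Cfsg.Agent.Lib.CoprimeInv.exists_mem_normalizer_of_lt S.2 hlt
    obtain ⟨k, hk⟩ := S.2 ⟨t, htS⟩
    have hk' : t ^ q ^ k = 1 := congrArg Subtype.val hk
    have h3 : (⟨t, htN⟩ : N) ^ q ^ k = 1 := Subtype.ext hk'
    have h4 := le_pCore_of_nilpotent hNnil (isPGroup_zpowers' _ k h3) (Subgroup.mem_zpowers _)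
    apply htR
    rw [hReq]
    exact ⟨_, h4, rfl⟩

/-- A `p`-group of automorphisms has a nontrivial fixed `p`-element whenever `p` divides `|G|`. -/
theorem exists_fixed_elt {r : ℕ} [Fact r.Prime] (φ : A →* MulAut G) (R : Subgroup A)
    (hR : IsPGroup r R) (hr : r ∣ Nat.card G) :
    ∃ x : G, x ≠ 1 ∧ (∀ d ∈ R, φ d x = x) ∧ ∃ k : ℕ, x ^ r ^ k = 1 := by
  classical
  letI actA : MulAction A (Sylow r G) := MulAction.compHom _ φ
  have hcard : ¬ r ∣ Nat.card (Sylow r G) := by
    intro h1
    have h2 := card_sylow_modEq_one r G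
    have h3 := (Nat.modEq_zero_iff_dvd.mpr h1).symm.trans h2
    have h4 : r ∣ 1 := (Nat.modEq_zero_iff_dvd.mp h3.symm)
    exact (Fact.out : r.Prime).one_lt.ne' (Nat.dvd_one.mp h4)
  obtain ⟨S, hS⟩ := hR.nonempty_fixed_point_of_prime_not_dvd_card (Sylow r G) hcard
  have hinv : ∀ d ∈ R, ∀ x ∈ (S : Subgroup G), φ d x ∈ (S : Subgroup G) := by
    intro d hd x hx
    have h1 : (⟨d, hd⟩ : R) • S = S := hS ⟨d, hd⟩
    have h2 : ((⟨d, hd⟩ : R) • S : Sylow r G) = (φ d) • S := rfl
    rw [h2] at h1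
    have h3 : φ d x ∈ (((φ d) • S : Sylow r G) : Subgroup G) := by
      rw [Sylow.pointwise_smul_def]
      exact Subgroup.smul_mem_pointwise_smul x (φ d) (S : Subgroup G) hx
    rwa [h1] at h3
  obtain ⟨x, hx, hx1, hxr⟩ := exists_fixed_of_pGroup φ R hR S S.2 (S.ne_bot_of_dvd_card hr) hinv
  obtain ⟨k, hk⟩ := S.2 ⟨x, hx⟩
  exact ⟨x, hx1, hxr, k, congrArg Subtype.val hk⟩

/-- If all odd parts of `F` act trivially, so does the odd part of `F`. -/
theorem act_trivial_of_parts (hF : Frob F H) (φ : A →* MulAut G)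
    (hall : ∀ l : ℕ, l.Prime → l ≠ 2 → ∀ x ∈ partP F l, ∀ g : G, φ x g = g) :
    ∀ b ∈ partE F 2, ∀ g : G, φ b g = g := by
  classical
  set B := partE F 2 with hB
  have hH : (φ.ker).subgroupOf B = ⊤ := by
    apply eq_top_of_forall_sylow_le
    intro l hlf
    refine ⟨default, ?_⟩
    generalize (default : Sylow l B) = P
    haveI := hlf
    have hl : l.Prime := Fact.out
    intro x hx
    rw [Subgroup.mem_subgroupOf]
    obtain ⟨k, hk⟩ := P.2 ⟨x, hx⟩
    have hk1 : x ^ l ^ k = 1 := congrArg Subtype.val hk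
    have hk' : ((x : B) : A) ^ l ^ k = 1 := congrArg Subtype.val hk1
    by_cases hl2 : l = 2
    · subst hl2
      have h1 : orderOf (x : A) ∣ 2 ^ k := orderOf_dvd_of_pow_eq_one hk'
      have h2 : orderOf (x : A) ∣ Nat.card B := by
        have : orderOf (x : A) = orderOf x := Subgroup.orderOf_coe x
        rw [this]
        exact orderOf_dvd_natCard x
      have h3 : Nat.Coprime (Nat.card B) (2 ^ k) :=
        Nat.Coprime.pow_right _ (coprime_partE F 2)
      have h4 : orderOf (x : A) = 1 := Nat.eq_one_of_dvd_coprimes h3 h2 h1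
      rw [orderOf_eq_one_iff.mp h4]
      exact one_mem _
    · have hxF : (x : A) ∈ F := partE_le F 2 x.2
      have h5 : (⟨(x : A), hxF⟩ : F) ^ l ^ k = 1 := Subtype.ext hk'
      have h6 := le_pCore_of_nilpotent hF.nil (isPGroup_zpowers' _ k h5) (Subgroup.mem_zpowers _)
      have h7 : (x : A) ∈ partP F l := ⟨_, h6, rfl⟩
      rw [MonoidHom.mem_ker]
      ext g
      simpa using hall l hl hl2 _ h7 g
  intro b hb g
  have h1 : (⟨b, hb⟩ : B) ∈ (φ.ker).subgroupOf B := by rw [hH]; trivial
  rw [Subgroup.mem_subgroupOf] at h1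
  have h2 : φ b = 1 := h1
  rw [h2]
  rfl

/-- The simple case. -/
theorem prop_S (hF : Frob F H) (φ : A →* MulAut G) (hyp : Hyp φ F H)
    (hprop : ∀ M : Subgroup G, Inv φ M → M ≠ ⊤ → Group.IsNilpotent M)
    (hsimple : ∀ M : Subgroup G, M.Normal → Inv φ M → M = ⊥ ∨ M = ⊤) :
    Group.IsNilpotent G := by
  classical
  by_contra hnot
  haveI hFn := hF.normal
  have hnot2 : ¬ IsPGroup 2 G := fun h => hnot h.isNilpotent
  obtain ⟨q, hq, hqG, hq2⟩ : ∃ q, q.Prime ∧ q ∣ Nat.card G ∧ q ≠ 2 := by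
    by_contra hcon
    push Not at hcon
    apply hnot2
    exact IsPGroup.of_card (Nat.eq_prime_pow_of_unique_prime_dvd Nat.card_pos.ne'
      (fun hd hdv => hcon _ hd hdv))
  haveI : Fact q.Prime := ⟨hq⟩
  suffices hex : ∃ (q' : ℕ) (_ : Fact q'.Prime), q' ≠ 2 ∧ q' ∣ Nat.card G ∧
      ∃ Q : Sylow q' G, Inv φ (Q : Subgroup G) by
    obtain ⟨q', hf, hq'2, hq'G, Q, hQ⟩ := hex
    exact hnot (odd_sylow_finish hq'2 φ hprop hsimple Q hQ hq'G)
  letI actA : MulAction A (Sylow q G) := MulAction.compHom _ φ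
  have hsmul : ∀ (a : A) (w : Sylow q G), a • w = (φ a) • w := fun _ _ => rfl
  have hmem : ∀ (a : A) (w : Sylow q G) (x : G), x ∈ w → φ a x ∈ ((a • w : Sylow q G) : Subgroup G) := by
    intro a w x hx
    rw [hsmul, Sylow.pointwise_smul_def]
    exact Subgroup.smul_mem_pointwise_smul x (φ a) (w : Subgroup G) hx
  have hcomp : ∀ (a : A) (t : G) (w : Sylow q G), a • (t • w) = (φ a t) • (a • w) := by
    intro a t w
    have h1 : (φ a) * MulAut.conj t = MulAut.conj (φ a t) * (φ a) := by
      ext x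
      simp [map_mul, map_inv]
    rw [Sylow.smul_def, hsmul, smul_smul, h1, ← smul_smul, Sylow.smul_def, hsmul]
  have hinvOf : ∀ w : Sylow q G, (∀ a : A, a • w = w) → Inv φ (w : Subgroup G) := by
    intro w h a x hx
    have := hmem a w x hx
    rwa [h a] at this
  have hE2nil : Group.IsNilpotent (partE F 2) :=
    nil_of_inj (Subgroup.inclusion (partE_le F 2)) (Subgroup.inclusion_injective _) hF.nil
  by_cases hB : ∀ b ∈ partE F 2, ∀ g : G, φ b g = g
  · -- the odd part acts trivially
    have hRp : IsPGroup 2 (partP F 2) := isPGroup_partP F 2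
    have hcR : ∀ g : G, (∀ d ∈ partP F 2, φ d g = g) → g = 1 := fun g hg =>
      hyp.cF g (fixed_of_parts hF φ 2 (fun e he => hB e he g) hg)
    have h2G : ¬ 2 ∣ Nat.card G := by
      intro h
      obtain ⟨x, hx1, hxf, _⟩ := exists_fixed_elt φ (partP F 2) hRp h
      exact hx1 (hcR x hxf)
    have hcop : Nat.Coprime (Nat.card (partP F 2)) (Nat.card (⊤ : Subgroup G)) := by
      rw [Subgroup.card_top]
      obtain ⟨n, hn⟩ := IsPGroup.iff_card.mp hRp
      rw [hn]
      exact Nat.Coprime.pow_left _ ((Nat.Prime.coprime_iff_not_dvd Nat.prime_two).mpr h2G)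
    obtain ⟨⟨w, _, hw⟩, huniq⟩ := fixG φ hcomp ⊤ Set.univ (fun _ _ _ _ => trivial)
      (fun w₁ _ w₂ _ => by
        obtain ⟨t, ht⟩ := MulAction.exists_smul_eq G w₁ w₂
        exact ⟨t, trivial, ht⟩) ⟨default, trivial⟩ _ (partP F 2) rfl hRp.isNilpotent
      (fun _ _ _ _ => trivial) (fun _ _ _ _ => trivial) hcop
    refine ⟨q, inferInstance, hq2, hqG, w, hinvOf w (fun a => ?_)⟩
    have hfx : ∀ d ∈ partP F 2, d • (a • w) = a • w := by
      intro d hd
      have h1 : a⁻¹ * d * a ∈ partP F 2 := by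
        have := conj_mem_partP (conj_iff_of_normal (D := F) a⁻¹) 2 hd
        simpa using this
      have h2 : d • a • w = a • (a⁻¹ * d * a) • w := by
        simp only [smul_smul]
        congr 1
        group
      rw [h2, hw _ h1]
    obtain ⟨c, _, hc, hcw⟩ := huniq w trivial (a • w) trivial hw hfx
    have h3 := hcR c hc
    rw [h3, one_smul] at hcw
    exact hcw.symm
  · -- a part of odd order acts nontrivially
    have hex : ∃ r : ℕ, r.Prime ∧ r ≠ 2 ∧ ∃ x ∈ partP F r, ∃ g : G, φ x g ≠ g := by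
      by_contra hcon
      push Not at hcon
      exact hB (act_trivial_of_parts hF φ hcon)
    obtain ⟨r, hr, hr2, x, hx, g, hg⟩ := hex
    haveI : Fact r.Prime := ⟨hr⟩
    set R := partP F r with hRdef
    have hRp : IsPGroup r R := isPGroup_partP F r
    have hRn : ∀ (a d : A), d ∈ R → a * d * a⁻¹ ∈ R := fun a d hd =>
      conj_mem_partP (conj_iff_of_normal (D := F) a) r hd
    have hRn' : ∀ (a d : A), d ∈ R → a⁻¹ * d * a ∈ R := fun a d hd => by
      have := hRn a⁻¹ d hd
      simpa using this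
    set T := fixS φ R with hTdef
    have hTinv : Inv φ T := by
      intro a t ht d hd
      have h1 : φ d (φ a t) = φ a (φ (a⁻¹ * d * a) t) := by
        rw [act_mul, act_mul]
        congr 2
        group
      rw [h1, ht _ (hRn' a d hd)]
    have hTtop : T ≠ ⊤ := by
      intro h0
      have hgT : g ∈ T := by rw [h0]; trivial
      exact hg (hgT x hx)
    by_cases hodd : ∃ q' : ℕ, q'.Prime ∧ q' ≠ 2 ∧ q' ∣ Nat.card T
    · obtain ⟨q', hq', hq'2, hq'T⟩ := hodd
      haveI : Fact q'.Prime := ⟨hq'⟩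
      obtain ⟨Q, hQ⟩ := exists_inv_sylow φ hprop hsimple hnot T hTinv hTtop hq'T
      exact ⟨q', inferInstance, hq'2, hq'T.trans (Subgroup.card_subgroup_dvd_card T), Q, hQ⟩
    · have hT2 : IsPGroup 2 T := by
        apply IsPGroup.of_card (n := (Nat.card T).primeFactorsList.length)
        apply Nat.eq_prime_pow_of_unique_prime_dvd Nat.card_pos.ne'
        intro d hd hdv
        by_contra hd2
        exact hodd ⟨d, hd, hd2, hdv⟩
      have hrG : ¬ r ∣ Nat.card G := by
        intro h
        obtain ⟨y, hy1, hyf, k, hk⟩ := exists_fixed_elt φ R hRp h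
        obtain ⟨m, hm⟩ := hT2 ⟨y, hyf⟩
        have hm' : y ^ 2 ^ m = 1 := congrArg Subtype.val hm
        exact hy1 (eq_one_of_pow_pow Nat.prime_two hr hr2 hm' hk)
      have hcop : Nat.Coprime (Nat.card R) (Nat.card (⊤ : Subgroup G)) := by
        rw [Subgroup.card_top]
        obtain ⟨n, hn⟩ := IsPGroup.iff_card.mp hRp
        rw [hn]
        exact Nat.Coprime.pow_left _ ((Nat.Prime.coprime_iff_not_dvd hr).mpr hrG)
      have hRnil : Group.IsNilpotent R := hRp.isNilpotent
      obtain ⟨⟨w₀, _, hw₀⟩, huniq₁⟩ := fixG φ hcomp ⊤ Set.univ (fun _ _ _ _ => trivial)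
        (fun w₁ _ w₂ _ => by
          obtain ⟨t, ht⟩ := MulAction.exists_smul_eq G w₁ w₂
          exact ⟨t, trivial, ht⟩) ⟨default, trivial⟩ _ R rfl hRnil
        (fun _ _ _ _ => trivial) (fun _ _ _ _ => trivial) hcop
      let W₁ : Set (Sylow q G) := {w | ∀ d ∈ R, d • w = w}
      have hW₁a : ∀ (a : A), ∀ w ∈ W₁, a • w ∈ W₁ := by
        intro a w hw d hd
        have h2 : d • a • w = a • (a⁻¹ * d * a) • w := by
          simp only [smul_smul]
          congr 1
          group
        rw [h2, hw _ (hRn' a d hd)]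
      have hcop2 : Nat.Coprime (Nat.card (partE F 2)) (Nat.card T) := by
        obtain ⟨n, hn⟩ := IsPGroup.iff_card.mp hT2
        rw [hn]
        exact Nat.Coprime.pow_right _ (coprime_partE F 2)
      obtain ⟨⟨w, hwW, hwE⟩, huniq₂⟩ := fixG φ hcomp T W₁
        (fun t ht w hw d hd => by rw [hcomp, ht d hd, hw d hd])
        (fun w₁ h₁ w₂ h₂ => by
          obtain ⟨c, _, hc, hcw⟩ := huniq₁ w₁ trivial w₂ trivial h₁ h₂
          exact ⟨c, hc, hcw⟩)
        ⟨w₀, hw₀⟩ _ (partE F 2) rfl hE2nil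
        (fun e _ t ht => hTinv e t ht) (fun e _ w hw => hW₁a e w hw) hcop2
      refine ⟨q, inferInstance, hq2, hqG, w, hinvOf w (fun a => ?_)⟩
      have hfx : ∀ e ∈ partE F 2, e • (a • w) = a • w := by
        intro e he
        have h1 : a⁻¹ * e * a ∈ partE F 2 := by
          have := conj_mem_partE (conj_iff_of_normal (D := F) a⁻¹) 2 he
          simpa using this
        have h2 : e • a • w = a • (a⁻¹ * e * a) • w := by
          simp only [smul_smul]
          congr 1
          group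
        rw [h2, hwE _ h1]
      obtain ⟨c, hcT, hcE, hcw⟩ := huniq₂ w hwW (a • w) (hW₁a a w hwW) hwE hfx
      have h3 : c = 1 := no_fix_E hF φ hyp.cF T hTinv hT2 c hcT hcE
      rw [h3, one_smul] at hcw
      exact hcw.symm

end

/-- **Main theorem.** -/
theorem main_nil (hF : Frob F H) : ∀ (n : ℕ) (G : Type u) [Group G] [Finite G] (φ : A →* MulAut G),
    Nat.card G = n → Hyp φ F H → Group.IsNilpotent G := by
  intro n
  induction n using Nat.strong_induction_on with
  | _ n ih =>
    intro G _ _ φ hn hyp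
    classical
    have hIH : ∀ (G' : Type u) [Group G'] [Finite G'] (φ' : A →* MulAut G'),
        Nat.card G' < Nat.card G → Hyp φ' F H → Group.IsNilpotent G' := by
      intro G' _ _ φ' hlt hyp'
      exact ih _ (hn ▸ hlt) G' φ' rfl hyp'
    by_cases hG : Subsingleton G
    · infer_instance
    rw [not_subsingleton_iff_nontrivial] at hG
    have hnilP : ∀ M : Subgroup G, Inv φ M → M ≠ ⊤ → Group.IsNilpotent M := fun M hM hne =>
      hIH M (res φ M hM) (card_lt_of_ne_top' M hne) (hyp_res hyp M hM)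
    let fam : Set (Subgroup G) := {V | V.Normal ∧ Inv φ V ∧ V ≠ ⊥}
    have hne : fam.Nonempty := ⟨⊤, inferInstance, fun _ _ _ => trivial, top_ne_bot⟩
    obtain ⟨V, hV⟩ := (Set.toFinite fam).exists_minimal hne
    obtain ⟨hVn, hVinv, hVne⟩ := hV.prop
    by_cases hVtop : V = ⊤
    · refine prop_S hF φ hyp hnilP ?_
      intro M hMn hMinv
      by_cases hM : M = ⊥
      · exact Or.inl hM
      · right
        have h1 : M ≤ V := by rw [hVtop]; exact le_top
        have h2 := hV.le_of_le ⟨hMn, hMinv, hM⟩ h1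
        rw [hVtop] at h2
        exact eq_top_iff.mpr h2
    · haveI := hVn
      refine prop_V hF φ hyp hIH V hVinv hVne hVtop ?_
      intro W hWn hWinv hWne hWV
      exact le_antisymm hWV (hV.le_of_le ⟨hWn, hWinv, hWne⟩ hWV)

end Cfsg.Agent.Lib.FrobAut
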