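import Mathlib

/-!
# A `p`-group with an abelian subgroup of index `p`

`S` a finite nonabelian `p`-group, `A` abelian of index `p`.  For `c ∈ S` outside `A`, the map `a ↦ [a, c]` is an
endomorphism `dd` of `A` with kernel `Z(S)`, image `S'`; its preimage of `Z(S)` is `Z₂(S) ∩ A`.
-/

set_option autoImplicit false

open scoped commutatorElement

namespace Cfsg.Agent.Lib.FusionAbIdx

variable {Ω : Type*} [Group Ω]

/-- The centre of `S`, as a subgroup of the ambient group. -/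
abbrev Zc (S : Subgroup Ω) : Subgroup Ω := S ⊓ Subgroup.centralizer (S : Set Ω)

/-- The second centre of `S`, as a subgroup of the ambient group. -/
abbrev Z2c (S : Subgroup Ω) : Subgroup Ω := (Subgroup.upperCentralSeries ↥S 2).map S.subtype

/-- The commutator subgroup of `S`, as a subgroup of the ambient group. -/
abbrev Sd (S : Subgroup Ω) : Subgroup Ω := (commutator ↥S).map S.subtype

/-- `Z₂(S) ∩ A`. -/
abbrev Dc (S A : Subgroup Ω) : Subgroup Ω := Z2c S ⊓ A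

lemma mem_Zc {S : Subgroup Ω} {z : Ω} : z ∈ Zc S ↔ z ∈ S ∧ ∀ g ∈ S, g * z = z * g := by
  constructor
  · rintro ⟨h1, h2⟩
    exact ⟨h1, fun g hg => Subgroup.mem_centralizer_iff.1 h2 g hg⟩
  · rintro ⟨h1, h2⟩
    exact ⟨h1, Subgroup.mem_centralizer_iff.2 h2⟩

lemma mem_Z2c {S : Subgroup Ω} {y : Ω} :
    y ∈ Z2c S ↔ y ∈ S ∧ ∀ g ∈ S, y * g * y⁻¹ * g⁻¹ ∈ Zc S := by
  constructor
  · rintro ⟨⟨y', hy'⟩, hy, rfl⟩
    refine ⟨hy', fun g hg => ?_⟩
    have h1 := (Subgroup.mem_upperCentralSeries_succ_iff (G := S) (n := 1) (x := ⟨y', hy'⟩)).1 hy ⟨g, hg⟩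
    rw [Subgroup.upperCentralSeries_one] at h1
    refine mem_Zc.2 ⟨?_, fun k hk => ?_⟩
    · exact S.mul_mem (S.mul_mem (S.mul_mem hy' hg) (S.inv_mem hy')) (S.inv_mem hg)
    · have h2 := Subgroup.mem_center_iff.1 h1 ⟨k, hk⟩
      have h3 : k * (y' * g * y'⁻¹ * g⁻¹) = (y' * g * y'⁻¹ * g⁻¹) * k := congrArg Subtype.val h2
      exact h3
  · rintro ⟨hyS, h⟩
    refine ⟨⟨y, hyS⟩, ?_, rfl⟩
    refine (Subgroup.mem_upperCentralSeries_succ_iff (G := S) (n := 1) (x := ⟨y, hyS⟩)).2 ?_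
    rintro ⟨g, hg⟩
    rw [Subgroup.upperCentralSeries_one]
    refine Subgroup.mem_center_iff.2 ?_
    rintro ⟨k, hk⟩
    apply Subtype.ext
    exact (mem_Zc.1 (h g hg)).2 k hk

/-- A subgroup of index `p` in a finite `p`-group: powers of an outside element fill the cosets. -/
theorem gen_of_index {p : ℕ} [Fact p.Prime] {L K : Subgroup Ω} [Finite L] (hL : IsPGroup p L)
    (hi : (K.subgroupOf L).index = p) {c : Ω} (hc : c ∈ L) (hcK : c ∉ K) (s : Ω) (hs : s ∈ L) :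
    ∃ k ∈ K, ∃ i : ℕ, s = k * c ^ i := by
  have hN : (K.subgroupOf L).Normal := by
    have := Subgroup.normal_of_index_eq_minFac_card (G := L) (H := K.subgroupOf L) (by
      obtain ⟨k, hk⟩ := IsPGroup.iff_card.1 hL
      have hk0 : k ≠ 0 := by
        rintro rfl
        have h1 : (K.subgroupOf L).index ∣ Nat.card L := Subgroup.index_dvd_card _
        rw [hk, hi] at h1
        simp at h1
        exact (Fact.out : p.Prime).one_lt.ne' h1
      rw [hk, hi, Nat.Prime.pow_minFac Fact.out hk0])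
    exact this
  haveI := hN
  let π := QuotientGroup.mk' (K.subgroupOf L)
  have hne : π ⟨c, hc⟩ ≠ 1 := by
    intro h
    exact hcK (Subgroup.mem_subgroupOf.1 ((QuotientGroup.eq_one_iff _).1 h))
  have hz : π ⟨s, hs⟩ ∈ Subgroup.zpowers (π ⟨c, hc⟩) := mem_zpowers_of_prime_card (p := p) (show (K.subgroupOf L).index = p from hi) hne
  obtain ⟨n, hn⟩ := (Subgroup.mem_zpowers_iff).1 hz
  have hfin : Finite (↥L ⧸ K.subgroupOf L) := inferInstance
  obtain ⟨i, hi'⟩ : ∃ i : ℕ, π ⟨c, hc⟩ ^ i = π ⟨s, hs⟩ := by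
    have h1 : π ⟨c, hc⟩ ^ (n % (orderOf (π ⟨c, hc⟩) : ℤ)) = π ⟨s, hs⟩ := by
      rw [zpow_mod_orderOf, hn]
    have hpos : (0 : ℤ) < orderOf (π ⟨c, hc⟩) := by
      exact_mod_cast orderOf_pos _
    have h2 := Int.emod_nonneg n hpos.ne'
    refine ⟨(n % (orderOf (π ⟨c, hc⟩) : ℤ)).toNat, ?_⟩
    rw [← zpow_natCast, Int.toNat_of_nonneg h2, h1]
  refine ⟨s * (c ^ i)⁻¹, ?_, i, by group⟩
  have h3 : π (⟨s, hs⟩ * (⟨c, hc⟩ ^ i)⁻¹) = 1 := by
    rw [_root_.map_mul, _root_.map_inv, _root_.map_pow, hi', mul_inv_cancel]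
  have h4 := Subgroup.mem_subgroupOf.1 ((QuotientGroup.eq_one_iff _).1 h3)
  simpa using h4

/-- Data of an abelian subgroup of index `p` in a nonabelian finite `p`-group. -/
structure AbIdx (S A : Subgroup Ω) (p : ℕ) : Prop where
  le : A ≤ S
  comm : ∀ a ∈ A, ∀ b ∈ A, a * b = b * a
  nor : ∀ g ∈ S, ∀ a ∈ A, g * a * g⁻¹ ∈ A
  gen : ∀ c ∈ S, c ∉ A → ∀ s ∈ S, ∃ a ∈ A, ∃ i : ℕ, s = a * c ^ i
  cmt : ∀ g ∈ S, ∀ h ∈ S, g * h * g⁻¹ * h⁻¹ ∈ A
  ne : ∃ c ∈ S, c ∉ A
  idx : (A.subgroupOf S).index = p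
  nab : ∃ x ∈ S, ∃ y ∈ S, x * y ≠ y * x
  pg : IsPGroup p S

theorem AbIdx.of {p : ℕ} [Fact p.Prime] {S A : Subgroup Ω} [Finite S] (hS : IsPGroup p S)
    (hna : ¬ IsMulCommutative ↥S) (hA : A ≤ S ∧ IsMulCommutative ↥A ∧ (A.subgroupOf S).index = p) :
    AbIdx S A p := by
  obtain ⟨hAS, hAc, hAi⟩ := hA
  have hN : (A.subgroupOf S).Normal := by
    have := Subgroup.normal_of_index_eq_minFac_card (G := S) (H := A.subgroupOf S) (by
      obtain ⟨k, hk⟩ := IsPGroup.iff_card.1 hS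
      have hk0 : k ≠ 0 := by
        rintro rfl
        have h1 : (A.subgroupOf S).index ∣ Nat.card S := Subgroup.index_dvd_card _
        rw [hk, hAi] at h1
        simp at h1
        exact (Fact.out : p.Prime).one_lt.ne' h1
      rw [hk, hAi, Nat.Prime.pow_minFac Fact.out hk0])
    exact this
  have hne : ∃ c ∈ S, c ∉ A := by
    by_contra h
    have h1 : A.subgroupOf S = ⊤ := by
      rw [eq_top_iff]
      rintro ⟨x, hx⟩ -
      by_contra h2
      exact h ⟨x, hx, fun h3 => h2 (Subgroup.mem_subgroupOf.2 h3)⟩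
    rw [h1, Subgroup.index_top] at hAi
    exact (Fact.out : p.Prime).one_lt.ne hAi
  refine ⟨hAS, fun a ha b hb => ?_, fun g hg a ha => ?_, fun c hc hcA s hs => ?_, fun g hg h hh => ?_, hne, hAi, ?_, hS⟩
  · have := hAc.is_comm.comm ⟨a, ha⟩ ⟨b, hb⟩
    exact congrArg Subtype.val this
  · have := hN.conj_mem ⟨a, hAS ha⟩ (Subgroup.mem_subgroupOf.2 ha) ⟨g, hg⟩
    exact Subgroup.mem_subgroupOf.1 this
  · exact gen_of_index hS hAi hc hcA s hs
  · haveI : Fact (Nat.card (↥S ⧸ A.subgroupOf S)).Prime := ⟨by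
      show (A.subgroupOf S).index.Prime
      rw [hAi]; exact Fact.out⟩
    haveI := isCyclic_of_prime_card (α := ↥S ⧸ A.subgroupOf S) rfl
    let π := QuotientGroup.mk' (A.subgroupOf S)
    have h1 : π ⁅(⟨g, hg⟩ : S), (⟨h, hh⟩ : S)⁆ = 1 := by
      rw [map_commutatorElement, commutatorElement_eq_one_iff_mul_comm]
      obtain ⟨q, hq⟩ := IsCyclic.exists_generator (α := ↥S ⧸ A.subgroupOf S)
      obtain ⟨m, hm⟩ := Subgroup.mem_zpowers_iff.1 (hq (π ⟨g, hg⟩))
      obtain ⟨n, hn⟩ := Subgroup.mem_zpowers_iff.1 (hq (π ⟨h, hh⟩))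
      rw [← hm, ← hn]
      exact ((Commute.refl q).zpow_zpow m n).eq
    have h2 := Subgroup.mem_subgroupOf.1 ((QuotientGroup.eq_one_iff _).1 h1)
    simpa [commutatorElement_def] using h2
  · by_contra h
    push Not at h
    apply hna
    exact ⟨⟨fun x y => Subtype.ext (h x x.2 y y.2)⟩⟩

variable {S A : Subgroup Ω} {p : ℕ}

theorem AbIdx.Z_le (h : AbIdx S A p) : Zc S ≤ A := by
  intro z hz
  by_contra hzA
  obtain ⟨hzS, hzc⟩ := mem_Zc.1 hz
  obtain ⟨x, hx, y, hy, hxy⟩ := h.nab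
  apply hxy
  obtain ⟨a, ha, i, rfl⟩ := h.gen z hzS hzA x hx
  obtain ⟨b, hb, j, rfl⟩ := h.gen z hzS hzA y hy
  have c1 : Commute a b := h.comm a ha b hb
  have c2 : ∀ g ∈ S, Commute g z := hzc
  have h1 : Commute a (z ^ j) := (c2 a (h.le ha)).pow_right j
  have h2 : Commute (z ^ i) b := ((c2 b (h.le hb)).pow_right i).symm
  have h3 : Commute (z ^ i) (z ^ j) := (Commute.refl z).pow_pow i j
  exact ((c1.mul_right h1).mul_left (h2.mul_right h3)).eq

theorem AbIdx.mem_Z_of_comm (h : AbIdx S A p) {a c : Ω} (ha : a ∈ A) (hc : c ∈ S) (hcA : c ∉ A)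
    (hac : a * c = c * a) : a ∈ Zc S := by
  refine mem_Zc.2 ⟨h.le ha, fun g hg => ?_⟩
  obtain ⟨b, hb, i, rfl⟩ := h.gen c hc hcA g hg
  have c1 : Commute b a := h.comm b hb a ha
  have c2 : Commute c a := (Commute.symm hac)
  exact (c1.mul_left (c2.pow_left i)).eq

/-- `a ∈ Z₂(S) ∩ A` iff `[a, c] ∈ Z(S)`, for one `c ∈ S` outside `A`. -/
theorem AbIdx.mem_D (h : AbIdx S A p) {a c : Ω} (hc : c ∈ S) (hcA : c ∉ A) :
    a ∈ Dc S A ↔ a ∈ A ∧ a * c * a⁻¹ * c⁻¹ ∈ Zc S := by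
  constructor
  · rintro ⟨h1, h2⟩
    exact ⟨h2, (mem_Z2c.1 h1).2 c hc⟩
  · rintro ⟨ha, hw⟩
    refine ⟨mem_Z2c.2 ⟨h.le ha, fun g hg => ?_⟩, ha⟩
    obtain ⟨b, hb, i, rfl⟩ := h.gen c hc hcA g hg
    set w := a * c * a⁻¹ * c⁻¹ with hwdef
    obtain ⟨hwS, hwc⟩ := mem_Zc.1 hw
    have e1 : a * c * a⁻¹ = w * c := by rw [hwdef]; group
    have e2 : a * c ^ i * a⁻¹ = w ^ i * c ^ i := by
      have : a * c ^ i * a⁻¹ = (a * c * a⁻¹) ^ i := by
        rw [conj_pow]
      rw [this, e1]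
      exact (show Commute w c from (hwc c hc).symm).mul_pow i
    have e3 : a * (b * c ^ i) * a⁻¹ * (b * c ^ i)⁻¹ = w ^ i := by
      have c1 : a * b = b * a := h.comm a ha b hb
      have c2 : w ^ i * b = b * w ^ i := ((show Commute w b from (hwc b (h.le hb)).symm).pow_left i).eq
      calc a * (b * c ^ i) * a⁻¹ * (b * c ^ i)⁻¹ = (a * b) * c ^ i * a⁻¹ * (c ^ i)⁻¹ * b⁻¹ := by group
        _ = b * (a * c ^ i * a⁻¹) * (c ^ i)⁻¹ * b⁻¹ := by rw [c1]; group
        _ = b * (w ^ i * c ^ i) * (c ^ i)⁻¹ * b⁻¹ := by rw [e2]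
        _ = (b * w ^ i) * b⁻¹ := by group
        _ = w ^ i := by rw [← c2]; group
    rw [e3]
    exact Subgroup.pow_mem _ hw i

/-- The commutator map. -/
def AbIdx.dd (h : AbIdx S A p) {c : Ω} (hc : c ∈ S) : ↥A →* ↥A where
  toFun a := ⟨(a : Ω) * c * (a : Ω)⁻¹ * c⁻¹, h.cmt _ (h.le a.2) _ hc⟩
  map_one' := by
    apply Subtype.ext
    simp
  map_mul' := by
    rintro ⟨a, ha⟩ ⟨b, hb⟩
    apply Subtype.ext
    have hu : a * c * a⁻¹ * c⁻¹ ∈ A := h.cmt _ (h.le ha) _ hc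
    have hv : b * c * b⁻¹ * c⁻¹ ∈ A := h.cmt _ (h.le hb) _ hc
    have hw : c * a⁻¹ * c⁻¹ ∈ A := h.nor c hc _ (A.inv_mem ha)
    have c1 : (b * c * b⁻¹ * c⁻¹) * (c * a⁻¹ * c⁻¹) = (c * a⁻¹ * c⁻¹) * (b * c * b⁻¹ * c⁻¹) :=
      h.comm _ hv _ hw
    show (a * b) * c * (a * b)⁻¹ * c⁻¹ = (a * c * a⁻¹ * c⁻¹) * (b * c * b⁻¹ * c⁻¹)
    calc (a * b) * c * (a * b)⁻¹ * c⁻¹ = a * ((b * c * b⁻¹ * c⁻¹) * (c * a⁻¹ * c⁻¹)) := by group
      _ = a * ((c * a⁻¹ * c⁻¹) * (b * c * b⁻¹ * c⁻¹)) := by rw [c1]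
      _ = _ := by group

@[simp] lemma AbIdx.dd_coe (h : AbIdx S A p) {c : Ω} (hc : c ∈ S) (a : ↥A) :
    ((h.dd hc a : ↥A) : Ω) = (a : Ω) * c * (a : Ω)⁻¹ * c⁻¹ := rfl

theorem AbIdx.dd_ker (h : AbIdx S A p) {c : Ω} (hc : c ∈ S) (hcA : c ∉ A) (a : ↥A) :
    h.dd hc a = 1 ↔ (a : Ω) ∈ Zc S := by
  constructor
  · intro e
    have e1 : (a : Ω) * c * (a : Ω)⁻¹ * c⁻¹ = 1 := congrArg Subtype.val e
    refine h.mem_Z_of_comm a.2 hc hcA ?_
    have := mul_inv_eq_one.1 e1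
    exact mul_inv_eq_iff_eq_mul.1 this
  · intro hz
    apply Subtype.ext
    have := (mem_Zc.1 hz).2 c hc
    show (a : Ω) * c * (a : Ω)⁻¹ * c⁻¹ = 1
    rw [← this]
    group

/-- The derived subgroup of `S` is the image of the commutator map. -/
theorem AbIdx.Sd_eq (h : AbIdx S A p) {c : Ω} (hc : c ∈ S) (hcA : c ∉ A) :
    Sd S = (h.dd hc).range.map A.subtype := by
  apply le_antisymm
  · -- the image is normal in `S` with abelian quotient
    set R : Subgroup Ω := (h.dd hc).range.map A.subtype with hR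
    have hRmem : ∀ a ∈ A, a * c * a⁻¹ * c⁻¹ ∈ R := fun a ha => ⟨h.dd hc ⟨a, ha⟩, ⟨_, rfl⟩, rfl⟩
    have hRA : R ≤ A := by
      rintro _ ⟨x, -, rfl⟩
      exact x.2
    have hRc : ∀ x ∈ R, c * x * c⁻¹ ∈ R := by
      rintro _ ⟨_, ⟨a, rfl⟩, rfl⟩
      have ha' : c * (a : Ω) * c⁻¹ ∈ A := h.nor c hc _ a.2
      have := hRmem _ ha'
      convert this using 1
      simp only [Subgroup.subtype_apply, AbIdx.dd_coe]
      group
    have hRn : (R.subgroupOf S).Normal := by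
      constructor
      rintro ⟨x, hxS⟩ hx ⟨g, hg⟩
      apply Subgroup.mem_subgroupOf.2
      have hxR : x ∈ R := Subgroup.mem_subgroupOf.1 hx
      show g * x * g⁻¹ ∈ R
      obtain ⟨b, hb, i, rfl⟩ := h.gen c hc hcA g hg
      have e1 : ∀ i : ℕ, ∀ y ∈ R, c ^ i * y * (c ^ i)⁻¹ ∈ R := by
        intro i
        induction i with
        | zero => intro y hy; simpa using hy
        | succ i ih =>
          intro y hy
          have := hRc _ (ih y hy)
          convert this using 1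
          rw [pow_succ']
          group
      have e2 := e1 i x hxR
      have e3 : b * (c ^ i * x * (c ^ i)⁻¹) * b⁻¹ = c ^ i * x * (c ^ i)⁻¹ := by
        rw [h.comm b hb _ (hRA e2)]
        group
      have e4 : b * c ^ i * x * (b * c ^ i)⁻¹ = b * (c ^ i * x * (c ^ i)⁻¹) * b⁻¹ := by group
      rw [e4, e3]
      exact e2
    haveI := hRn
    let π := QuotientGroup.mk' (R.subgroupOf S)
    have hcomm : ∀ g₁ g₂ : S, π g₁ * π g₂ = π g₂ * π g₁ := by
      rintro ⟨g₁, hg₁⟩ ⟨g₂, hg₂⟩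
      obtain ⟨a, ha, i, rfl⟩ := h.gen c hc hcA g₁ hg₁
      obtain ⟨b, hb, j, rfl⟩ := h.gen c hc hcA g₂ hg₂
      have h1 : ∀ a (ha : a ∈ A), Commute (π ⟨a, h.le ha⟩) (π ⟨c, hc⟩) := by
        intro a ha
        have : π ⁅(⟨a, h.le ha⟩ : S), (⟨c, hc⟩ : S)⁆ = 1 := by
          apply (QuotientGroup.eq_one_iff _).2
          apply Subgroup.mem_subgroupOf.2
          exact hRmem a ha
        rw [map_commutatorElement, commutatorElement_eq_one_iff_commute] at this
        exact this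
      have h2 : Commute (π ⟨a, h.le ha⟩) (π ⟨b, h.le hb⟩) := by
        show _ = _
        rw [← _root_.map_mul, ← _root_.map_mul]
        congr 1
        exact Subtype.ext (h.comm a ha b hb)
      have ea : (⟨a * c ^ i, hg₁⟩ : S) = ⟨a, h.le ha⟩ * ⟨c, hc⟩ ^ i := rfl
      have eb : (⟨b * c ^ j, hg₂⟩ : S) = ⟨b, h.le hb⟩ * ⟨c, hc⟩ ^ j := rfl
      rw [ea, eb]
      simp only [_root_.map_mul, _root_.map_pow]
      have c1 := (h1 a ha).pow_right j
      have c2 := ((h1 b hb).pow_right i).symm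
      have c3 : Commute (π ⟨c, hc⟩ ^ i) (π ⟨c, hc⟩ ^ j) := (Commute.refl _).pow_pow i j
      exact ((h2.mul_right c1).mul_left (c2.mul_right c3)).eq
    rintro _ ⟨x, hx, rfl⟩
    have hxle : commutator ↥S ≤ R.subgroupOf S := by
      show ⁅(⊤ : Subgroup S), (⊤ : Subgroup S)⁆ ≤ _
      rw [Subgroup.commutator_le]
      intro g₁ _ g₂ _
      apply (QuotientGroup.eq_one_iff _).1
      show π ⁅g₁, g₂⁆ = 1
      rw [map_commutatorElement, commutatorElement_eq_one_iff_mul_comm]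
      exact hcomm g₁ g₂
    exact Subgroup.mem_subgroupOf.1 (hxle hx)
  · rintro _ ⟨_, ⟨a, rfl⟩, rfl⟩
    refine ⟨⁅(⟨a, h.le a.2⟩ : S), (⟨c, hc⟩ : S)⁆, ?_, ?_⟩
    · exact Subgroup.commutator_mem_commutator (Subgroup.mem_top _) (Subgroup.mem_top _)
    · simp [commutatorElement_def]

theorem AbIdx.normal_sub (h : AbIdx S A p) (K : Subgroup ↥A) : K.Normal := by
  constructor
  intro n hn g
  have : g * n * g⁻¹ = n := by
    apply Subtype.ext
    show (g : Ω) * n * (g : Ω)⁻¹ = n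
    rw [h.comm g g.2 n n.2]
    group
  rw [this]
  exact hn

theorem AbIdx.card_inf (h : AbIdx S A p) {c : Ω} (hc : c ∈ S) (hcA : c ∉ A) :
    Nat.card ↥(Zc S ⊓ Sd S) = ((Zc S).subgroupOf (Dc S A)).index := by
  let f : ↥(Dc S A) →* Ω := A.subtype.comp ((h.dd hc).comp (Subgroup.inclusion inf_le_right))
  have hker : f.ker = (Zc S).subgroupOf (Dc S A) := by
    ext ⟨x, hx⟩
    rw [MonoidHom.mem_ker, Subgroup.mem_subgroupOf]
    have hxA : x ∈ A := hx.2
    have := h.dd_ker hc hcA ⟨x, hxA⟩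
    constructor
    · intro e
      exact this.1 (Subtype.ext e)
    · intro hz
      exact congrArg Subtype.val (this.2 hz)
  have hrange : f.range = Zc S ⊓ Sd S := by
    apply le_antisymm
    · rintro _ ⟨⟨x, hx⟩, rfl⟩
      refine ⟨((h.mem_D hc hcA).1 hx).2, ?_⟩
      rw [h.Sd_eq hc hcA]
      exact ⟨h.dd hc ⟨x, hx.2⟩, ⟨_, rfl⟩, rfl⟩
    · rintro w ⟨hw1, hw2⟩
      rw [h.Sd_eq hc hcA] at hw2
      obtain ⟨_, ⟨a, rfl⟩, rfl⟩ := hw2
      exact ⟨⟨a, (h.mem_D hc hcA).2 ⟨a.2, hw1⟩⟩, rfl⟩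
  rw [← hker, Subgroup.index_ker, hrange]

theorem AbIdx.index_sup [Finite S] (h : AbIdx S A p) {c : Ω} (hc : c ∈ S) (hcA : c ∉ A) :
    ((Zc S ⊔ Sd S).subgroupOf A).index = ((Zc S).subgroupOf (Dc S A)).index := by
  haveI : Finite A := Finite.of_injective (Subgroup.inclusion h.le) (Subgroup.inclusion_injective h.le)
  rw [← h.card_inf hc hcA]
  set Z' : Subgroup ↥A := (Zc S).subgroupOf A with hZ'
  set R' : Subgroup ↥A := (h.dd hc).range with hR'
  haveI hZn : Z'.Normal := h.normal_sub Z'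
  have hZle : Zc S ≤ A := h.Z_le
  have hSdle : Sd S ≤ A := by
    rw [h.Sd_eq hc hcA]
    rintro _ ⟨x, -, rfl⟩
    exact x.2
  have hSd : R'.map A.subtype = Sd S := (h.Sd_eq hc hcA).symm
  have hE : (Zc S ⊔ Sd S).subgroupOf A = R' ⊔ Z' := by
    apply le_antisymm
    · intro x hx
      have hx' : (x : Ω) ∈ Zc S ⊔ Sd S := Subgroup.mem_subgroupOf.1 hx
      have : (R' ⊔ Z').map A.subtype = Zc S ⊔ Sd S := by
        rw [Subgroup.map_sup, hSd, hZ', Subgroup.map_subgroupOf_eq_of_le hZle, sup_comm]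
      rw [← this] at hx'
      obtain ⟨y, hy, e⟩ := hx'
      have : y = x := Subtype.ext e
      rwa [← this]
    · apply sup_le
      · intro x hx
        apply Subgroup.mem_subgroupOf.2
        apply Subgroup.mem_sup_right
        rw [← hSd]
        exact ⟨x, hx, rfl⟩
      · intro x hx
        exact Subgroup.mem_subgroupOf.2 (Subgroup.mem_sup_left (Subgroup.mem_subgroupOf.1 hx))
  have hker : (h.dd hc).ker = Z' := by
    ext x
    rw [MonoidHom.mem_ker, h.dd_ker hc hcA, hZ', Subgroup.mem_subgroupOf]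
  have hRcard : Nat.card R' = Z'.index := by
    rw [← hker, Subgroup.index_ker]
  have hinf : Nat.card ↥(Zc S ⊓ Sd S) = Nat.card ↥(Z' ⊓ R') := by
    have e : (Z' ⊓ R').map A.subtype = Zc S ⊓ Sd S := by
      apply le_antisymm
      · rintro _ ⟨x, ⟨hx1, hx2⟩, rfl⟩
        refine ⟨Subgroup.mem_subgroupOf.1 hx1, ?_⟩
        rw [← hSd]
        exact ⟨x, hx2, rfl⟩
      · rintro w ⟨h1, h2⟩
        rw [← hSd] at h2
        obtain ⟨x, hx, rfl⟩ := h2
        exact ⟨x, ⟨Subgroup.mem_subgroupOf.2 h1, hx⟩, rfl⟩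
    rw [← e]
    exact (Nat.card_congr (Subgroup.equivMapOfInjective _ _ A.subtype_injective).toEquiv).symm
  rw [hE, hinf]
  have e1 : Z'.relIndex (R' ⊔ Z') = Z'.relIndex R' := Subgroup.relIndex_sup_right R' Z'
  have e2 : Z'.relIndex (R' ⊔ Z') * (R' ⊔ Z').index = Z'.index := Subgroup.relIndex_mul_index le_sup_right
  have e3 : (Z' ⊓ R').relIndex R' = Z'.relIndex R' := Subgroup.inf_relIndex_right Z' R'
  have e4 : (⊥ : Subgroup ↥A).relIndex (Z' ⊓ R') * (Z' ⊓ R').relIndex R' = (⊥ : Subgroup ↥A).relIndex R' :=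
    Subgroup.relIndex_mul_relIndex _ _ _ bot_le inf_le_right
  rw [Subgroup.relIndex_bot_left, Subgroup.relIndex_bot_left, e3, hRcard] at e4
  rw [e1] at e2
  have hpos : 0 < Z'.relIndex R' := by
    have : Z'.index ≠ 0 := Subgroup.index_ne_zero_of_finite
    rcases Nat.eq_zero_or_pos (Z'.relIndex R') with h0 | h0
    · rw [h0] at e2
      simp at e2
      exact absurd e2.symm this
    · exact h0
  have : Z'.relIndex R' * (R' ⊔ Z').index = Z'.relIndex R' * Nat.card ↥(Z' ⊓ R') := by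
    rw [e2, ← e4, mul_comm]
  exact Nat.eq_of_mul_eq_mul_left hpos this

/-- The iterates of the commutator map lie in the lower central series. -/
theorem AbIdx.iter_mem_lcs (h : AbIdx S A p) {c : Ω} (hc : c ∈ S) (k : ℕ) (a : ↥A) :
    (((h.dd hc)^[k] a : ↥A) : Ω) ∈ S.lowerCentralSeries k := by
  induction k with
  | zero => exact h.le a.2
  | succ k ih =>
    rw [Function.iterate_succ_apply']
    show _ ∈ S.lowerCentralSeries (k + 1)
    rw [Subgroup.lowerCentralSeries_succ, h.dd_coe]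
    have := Subgroup.commutator_mem_commutator ih hc
    rwa [commutatorElement_def] at this

/-- The chain of preimages of `Z(S)` under the commutator map. -/
def AbIdx.NN (h : AbIdx S A p) {c : Ω} (hc : c ∈ S) : ℕ → Subgroup ↥A
  | 0 => (Zc S).subgroupOf A
  | k + 1 => (AbIdx.NN h hc k).comap (h.dd hc)

theorem AbIdx.mem_NN (h : AbIdx S A p) {c : Ω} (hc : c ∈ S) (k : ℕ) (a : ↥A) :
    a ∈ h.NN hc k ↔ (((h.dd hc)^[k] a : ↥A) : Ω) ∈ Zc S := by
  induction k generalizing a with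
  | zero => exact Subgroup.mem_subgroupOf
  | succ k ih =>
    rw [Function.iterate_succ_apply, ← ih]
    exact Iff.rfl

theorem AbIdx.NN_mono (h : AbIdx S A p) {c : Ω} (hc : c ∈ S) (hcA : c ∉ A) (k : ℕ) :
    h.NN hc k ≤ h.NN hc (k + 1) := by
  induction k with
  | zero =>
    intro x hx
    have h1 : (x : Ω) ∈ Zc S := Subgroup.mem_subgroupOf.1 hx
    have h2 := (h.dd_ker hc hcA x).2 h1
    show h.dd hc x ∈ h.NN hc 0
    rw [h2]
    exact Subgroup.one_mem _
  | succ k ih => exact Subgroup.comap_mono ih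

theorem AbIdx.NN_rel_le [Finite S] (h : AbIdx S A p) {c : Ω} (hc : c ∈ S) (hcA : c ∉ A)
    (hD : ((Zc S).subgroupOf (Dc S A)).index = p) (k : ℕ) :
    (h.NN hc k).relIndex (h.NN hc (k + 1)) ≤ p := by
  haveI : Finite A := Finite.of_injective (Subgroup.inclusion h.le) (Subgroup.inclusion_injective h.le)
  induction k with
  | zero =>
    -- `N₁ = D` as subgroups of `A`
    have hN1 : h.NN hc 1 = (Dc S A).subgroupOf A := by
      ext x
      rw [Subgroup.mem_subgroupOf, h.mem_D hc hcA]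
      show h.dd hc x ∈ h.NN hc 0 ↔ _
      show (h.dd hc x : Ω) ∈ Zc S ↔ _
      simp [x.2]
    rw [hN1]
    show ((Zc S).subgroupOf A).relIndex ((Dc S A).subgroupOf A) ≤ p
    rw [Subgroup.relIndex_subgroupOf inf_le_right]
    exact hD.le
  | succ k ih =>
    show ((h.NN hc k).comap (h.dd hc)).relIndex ((h.NN hc (k + 1)).comap (h.dd hc)) ≤ p
    rw [Subgroup.relIndex_comap]
    refine le_trans (Subgroup.relIndex_le_of_le_right (Subgroup.map_comap_le _ _) ?_) ih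
    exact Subgroup.FiniteIndex.index_ne_zero

theorem AbIdx.card_NN_le [Finite S] [Fact p.Prime] (h : AbIdx S A p) {c : Ω} (hc : c ∈ S) (hcA : c ∉ A)
    (hD : ((Zc S).subgroupOf (Dc S A)).index = p) (k : ℕ) :
    Nat.card (h.NN hc k) ≤ p ^ k * Nat.card (Zc S) := by
  haveI : Finite A := Finite.of_injective (Subgroup.inclusion h.le) (Subgroup.inclusion_injective h.le)
  induction k with
  | zero =>
    rw [pow_zero, one_mul]
    show Nat.card ((Zc S).subgroupOf A) ≤ _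
    exact le_of_eq (Nat.card_congr (Subgroup.subgroupOfEquivOfLe h.Z_le).toEquiv)
  | succ k ih =>
    have e := Subgroup.relIndex_mul_relIndex (⊥ : Subgroup ↥A) _ _ (bot_le (a := h.NN hc k)) (h.NN_mono hc hcA k)
    rw [Subgroup.relIndex_bot_left, Subgroup.relIndex_bot_left] at e
    rw [← e, pow_succ]
    calc Nat.card (h.NN hc k) * (h.NN hc k).relIndex (h.NN hc (k + 1))
        ≤ (p ^ k * Nat.card (Zc S)) * p := Nat.mul_le_mul ih (h.NN_rel_le hc hcA hD k)
      _ = _ := by ring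

/-- The group-theoretic part of the structure theorem. -/
theorem AbIdx.Z2_le [Fact p.Prime] [Finite S] (h : AbIdx S A p)
    (huniq : ∀ B : Subgroup Ω, B ≤ S → IsMulCommutative ↥B → (B.subgroupOf S).index = p → B = A)
    (hD : ((Zc S).subgroupOf (Dc S A)).index = p) : Z2c S ≤ A := by
  intro y hy
  by_contra hyA
  obtain ⟨hyS, hy2⟩ := mem_Z2c.1 hy
  have hAD : ∀ a ∈ A, a ∈ Dc S A := by
    intro a ha
    refine (h.mem_D hyS hyA).2 ⟨ha, ?_⟩
    have := (Zc S).inv_mem (hy2 a (h.le ha))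
    convert this using 1
    group
  have hDA : Dc S A = A := le_antisymm inf_le_right hAD
  rw [hDA] at hD
  have hZA : Zc S ≤ A := h.Z_le
  set B : Subgroup Ω := Zc S ⊔ Subgroup.zpowers y with hB
  have hBS : B ≤ S := sup_le inf_le_left (Subgroup.zpowers_le.2 hyS)
  have hCy : B ≤ Subgroup.centralizer ({y} : Set Ω) := by
    apply sup_le
    · intro z hz
      refine Subgroup.mem_centralizer_iff.2 ?_
      intro g hg
      rw [Set.mem_singleton_iff.1 hg]
      exact (mem_Zc.1 hz).2 y hyS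
    · apply Subgroup.zpowers_le.2
      refine Subgroup.mem_centralizer_iff.2 ?_
      intro g hg
      rw [Set.mem_singleton_iff.1 hg]
  have hBB : B ≤ Subgroup.centralizer (B : Set Ω) := by
    apply sup_le
    · intro z hz
      refine Subgroup.mem_centralizer_iff.2 ?_
      intro g hg
      exact (mem_Zc.1 hz).2 g (hBS hg)
    · apply Subgroup.zpowers_le.2
      refine Subgroup.mem_centralizer_iff.2 ?_
      intro g hg
      exact (Subgroup.mem_centralizer_iff.1 (hCy hg) y (Set.mem_singleton y)).symm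
  have hBc : IsMulCommutative ↥B :=
    ⟨⟨fun u v => Subtype.ext (Subgroup.mem_centralizer_iff.1 (hBB v.2) u u.2)⟩⟩
  have hZB : Zc S ≤ B := le_sup_left
  -- indices
  have e1 : (Zc S).relIndex A * A.relIndex S = (Zc S).relIndex S :=
    Subgroup.relIndex_mul_relIndex _ _ _ hZA h.le
  have e2 : (Zc S).relIndex B * B.relIndex S = (Zc S).relIndex S :=
    Subgroup.relIndex_mul_relIndex _ _ _ hZB hBS
  have hd : (Zc S).relIndex A = p := hD
  have hs : A.relIndex S = p := h.idx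
  rw [hd, hs] at e1
  have hbdvd : B.relIndex S ∣ p ^ 2 := by
    rw [pow_two, e1, ← e2]
    exact Dvd.intro_left _ rfl
  obtain ⟨m, hm, hbm⟩ := (Nat.dvd_prime_pow Fact.out).1 hbdvd
  have hne1 : B.relIndex S ≠ 1 := by
    intro e
    have hSB : S ≤ B := Subgroup.relIndex_eq_one.1 e
    obtain ⟨u, hu, v, hv, huv⟩ := h.nab
    exact huv (Subgroup.mem_centralizer_iff.1 (hBB (hSB hu)) v (hSB hv)).symm
  have hne2 : (Zc S).relIndex B ≠ 1 := by
    intro e
    have hBZ : B ≤ Zc S := Subgroup.relIndex_eq_one.1 e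
    exact hyA (hZA (hBZ (Subgroup.mem_sup_right (Subgroup.mem_zpowers y))))
  have hp := (Fact.out : p.Prime)
  have hm1 : m = 1 := by
    have hm0 : m ≠ 0 := by
      rintro rfl
      exact hne1 (by simpa using hbm)
    have hm2 : m ≠ 2 := by
      rintro rfl
      rw [hbm, ← e1, pow_two] at e2
      have : (Zc S).relIndex B = 1 := by
        have hp0 : 0 < p * p := Nat.mul_pos hp.pos hp.pos
        exact Nat.eq_of_mul_eq_mul_right hp0 (by rw [e2, one_mul])
      exact hne2 this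
    omega
  rw [hm1, pow_one] at hbm
  have := huniq B hBS hBc hbm
  exact hyA (this ▸ Subgroup.mem_sup_right (Subgroup.mem_zpowers y))

/-- In the setting above, `Z₂ = D`. -/
theorem AbIdx.D_eq_of_le (hZ : Z2c S ≤ A) : Dc S A = Z2c S := inf_eq_left.2 hZ

/-- The maximal class property of `S / Z(S)`. -/
theorem AbIdx.not_lcs_le [Fact p.Prime] [Finite S] (h : AbIdx S A p)
    (hD : ((Zc S).subgroupOf (Dc S A)).index = p) (m : ℕ) (hm : ((Zc S).subgroupOf S).index = p ^ m)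
    (h3 : 3 ≤ m) : ¬ S.lowerCentralSeries (m - 2) ≤ Zc S := by
  intro hle
  obtain ⟨c, hc, hcA⟩ := h.ne
  haveI : Finite A := Finite.of_injective (Subgroup.inclusion h.le) (Subgroup.inclusion_injective h.le)
  have htop : h.NN hc (m - 2) = ⊤ := by
    rw [eq_top_iff]
    intro a _
    exact (h.mem_NN hc _ a).2 (hle (h.iter_mem_lcs hc _ a))
  have hcard := h.card_NN_le hc hcA hD (m - 2)
  rw [htop] at hcard
  have h1 : Nat.card (⊤ : Subgroup ↥A) = Nat.card A := Nat.card_congr Subgroup.topEquiv.toEquiv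
  rw [h1] at hcard
  -- `|A| = p^(m-1) |Z|`
  have e1 : (Zc S).relIndex A * A.relIndex S = (Zc S).relIndex S :=
    Subgroup.relIndex_mul_relIndex _ _ _ h.Z_le h.le
  have hs : A.relIndex S = p := h.idx
  have hm' : (Zc S).relIndex S = p ^ m := hm
  rw [hs, hm'] at e1
  have hp := (Fact.out : p.Prime)
  have e2 : (Zc S).relIndex A = p ^ (m - 1) := by
    obtain ⟨k, rfl⟩ : ∃ k, m = k + 1 := ⟨m - 1, by omega⟩
    rw [pow_succ] at e1
    exact Nat.eq_of_mul_eq_mul_right hp.pos e1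
  have e3 := Subgroup.relIndex_mul_relIndex (⊥ : Subgroup Ω) _ _ (bot_le (a := Zc S)) h.Z_le
  rw [Subgroup.relIndex_bot_left, Subgroup.relIndex_bot_left, e2] at e3
  rw [← e3] at hcard
  haveI : Finite (Zc S) :=
    Finite.of_injective (Subgroup.inclusion (inf_le_left : Zc S ≤ S)) (Subgroup.inclusion_injective _)
  have hZpos : 0 < Nat.card (Zc S) := Nat.card_pos
  have h4 : p ^ (m - 1) ≤ p ^ (m - 2) := by
    have : Nat.card (Zc S) * p ^ (m - 1) ≤ Nat.card (Zc S) * p ^ (m - 2) := by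
      calc _ ≤ p ^ (m - 2) * Nat.card (Zc S) := hcard
        _ = _ := by ring
    exact Nat.le_of_mul_le_mul_left this hZpos
  have h5 := (Nat.pow_le_pow_iff_right hp.one_lt).1 h4
  omega

end Cfsg.Agent.Lib.FusionAbIdx
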