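import Mathlib
import Cfsg.Agent.Lib.FusionCore3
import Cfsg.Agent.Lib.FusionEssential
import Cfsg.Agent.Lib.FusionAbIdx

/-!
# Essential subgroups when `S` has an abelian subgroup of index `p`: general tools

`stabR`: the automorphisms in the system trivial on `Z` and on `P / Z`; when it contains `Aut_S(P)`, it equals it, and any
`p`-element stabilizing `Z` lies in it.
-/

set_option autoImplicit false

namespace Cfsg.Agent.Lib.FusionAbEss

open Cfsg Cfsg.FusionSystem Cfsg.Agent.Lib.FusionCore Cfsg.Agent.Lib.FusionCore2 Cfsg.Agent.Lib.FusionCore3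
open Cfsg.Agent.Lib.FusionAbIdx

variable {Ω : Type*} [Group Ω] {S : Subgroup Ω} [Finite S] {F : FusionSystem S} {P A B Z : Subgroup Ω}
variable {p : ℕ} [Fact p.Prime]

/-- The index of a subgroup is at most the size of a target that separates cosets. -/
theorem index_le_of_fun {G X : Type*} [Group G] [Finite X] {K : Subgroup G} (f : G → X)
    (h : ∀ a b, f a = f b → a⁻¹ * b ∈ K) : K.index ≤ Nat.card X := by
  have hinj : Function.Injective (fun q : G ⧸ K => f q.out) := by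
    intro q r e
    have h1 := h _ _ e
    have h2 := QuotientGroup.eq.2 h1
    simpa using h2
  haveI : Finite (G ⧸ K) := Finite.of_injective _ hinj
  exact Nat.card_le_card_of_injective _ hinj

/-- A nontrivial index at most `p` in a `p`-group is `p`. -/
theorem index_eq_of_le {G : Type*} [Group G] [Finite G] (hG : IsPGroup p G) {K : Subgroup G} (h1 : K.index ≠ 1)
    (h2 : K.index ≤ p) : K.index = p := by
  obtain ⟨k, hk⟩ := IsPGroup.iff_card.1 hG
  have hd : K.index ∣ p ^ k := hk ▸ Subgroup.index_dvd_card K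
  obtain ⟨m, -, hm⟩ := (Nat.dvd_prime_pow Fact.out).1 hd
  have hp := (Fact.out : p.Prime)
  rcases Nat.eq_zero_or_pos m with rfl | hpos
  · exact absurd (by simpa using hm) h1
  · have : p ^ 1 ≤ p ^ m := Nat.pow_le_pow_right hp.pos hpos
    rw [hm] at h2 ⊢
    rw [pow_one] at this
    exact le_antisymm h2 this

theorem isPGroup_zpowers_of_pow {G : Type*} [Group G] {σ : G} {k : ℕ} (h : σ ^ (p ^ k) = 1) :
    IsPGroup p (Subgroup.zpowers σ) := by
  rintro ⟨y, m, rfl⟩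
  refine ⟨k, ?_⟩
  apply Subtype.ext
  show (σ ^ m) ^ (p ^ k) = 1
  rw [← zpow_natCast, ← zpow_mul, mul_comm, zpow_mul, zpow_natCast, h, one_zpow]

/-- An essential subgroup is properly contained in its normalizer. -/
theorem exists_outside (hS : IsPGroup p S) (hF : F.IsSaturated p) (hP : F.IsEssential p P) :
    ∃ g ∈ normalizerIn S P, g ∉ P := by
  obtain ⟨-, -, -, -, ⟨g, hg⟩⟩ := Cfsg.Agent.Lib.FusionEssential.exists_M hS hF hP hP.1.1
  exact ⟨g, g.2, hg⟩

/-- An element of `N_S(P)` outside `P` cannot stabilize an invariant subgroup chain. -/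
theorem exists_move (hS : IsPGroup p S) (hP : F.IsEssential p P) (hBP : B ≤ P) {a : Ω}
    (haN : a ∈ normalizerIn S P) (haP : a ∉ P) (h1 : ∀ z ∈ B, a * z * a⁻¹ = z) (h2 : ∀ u ∈ P, u⁻¹ * (a * u * a⁻¹) ∈ B) :
    ∃ α ∈ F.autGroup P, ∃ z ∈ B, afn α z ∉ B := by
  by_contra hcon
  push Not at hcon
  apply haP
  let C : ℕ → Subgroup Ω := fun i => match i with
    | 0 => P
    | 1 => B
    | _ + 2 => ⊥
  refine mem_of_chain hS hP.1 (radical_of_essential hS hP) C rfl (m := 2) rfl ?_ ?_ haN ?_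
  · intro i
    match i with
    | 0 => exact hBP
    | 1 => exact bot_le
    | _ + 2 => exact le_rfl
  · intro α hα i x hx
    match i, hx with
    | 0, hx => exact afn_mem α hx
    | 1, hx => exact hcon α hα x hx
    | _ + 2, hx =>
      have hx1 : x = 1 := Subgroup.mem_bot.1 hx
      subst hx1
      have hm := (Maps_of_mem_autGroup hP.1.1 hα).map_one
      show afn α 1 ∈ (⊥ : Subgroup Ω)
      rw [hm]
      exact Subgroup.one_mem _
  · intro i x hx
    match i, hx with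
    | 0, hx => exact h2 x hx
    | 1, hx =>
      show x⁻¹ * (a * x * a⁻¹) ∈ (⊥ : Subgroup Ω)
      rw [h1 x hx]
      simp
    | _ + 2, hx =>
      have hx1 : x = 1 := Subgroup.mem_bot.1 hx
      subst hx1
      show _ ∈ (⊥ : Subgroup Ω)
      simp

/-- Automorphisms in the system that are trivial on `Z` and on `P / Z`. -/
def stabR (F : FusionSystem S) {P Z : Subgroup Ω} (hZP : Z ≤ P) : Subgroup (MulAut P) where
  carrier := {γ | γ ∈ F.autGroup P ∧ (∀ z ∈ Z, afn γ z = z) ∧ ∀ u ∈ P, u⁻¹ * afn γ u ∈ Z}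
  mul_mem' := by
    rintro γ δ ⟨h1, h2, h3⟩ ⟨h1', h2', h3'⟩
    refine ⟨Subgroup.mul_mem _ h1 h1', fun z hz => ?_, fun u hu => ?_⟩
    · rw [afn_mul _ _ (hZP hz), h2' z hz, h2 z hz]
    · rw [afn_mul _ _ hu]
      have h4 := h3 _ (afn_mem δ hu)
      have h5 := h3' u hu
      have := Z.mul_mem h5 h4
      convert this using 1
      group
  one_mem' := by
    refine ⟨Subgroup.one_mem _, fun z hz => afn_one (hZP hz), fun u hu => ?_⟩
    rw [afn_one hu]
    simp [Z.one_mem]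
  inv_mem' := by
    rintro γ ⟨h1, h2, h3⟩
    refine ⟨Subgroup.inv_mem _ h1, fun z hz => ?_, fun u hu => ?_⟩
    · have := afn_inv_afn γ (hZP hz)
      rwa [h2 z hz] at this
    · have hv := afn_mem γ⁻¹ hu
      have h4 := h3 _ hv
      rw [afn_afn_inv γ hu] at h4
      have := Z.inv_mem h4
      convert this using 1
      group

lemma mem_stabR {hZP : Z ≤ P} {γ : MulAut P} :
    γ ∈ stabR F hZP ↔ γ ∈ F.autGroup P ∧ (∀ z ∈ Z, afn γ z = z) ∧ ∀ u ∈ P, u⁻¹ * afn γ u ∈ Z := Iff.rfl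

lemma isPGroup_stabR (hS : IsPGroup p S) (hPS : P ≤ S) (hZP : Z ≤ P) : IsPGroup p (stabR F hZP) := by
  rintro ⟨γ, hγ⟩
  obtain ⟨k, hk⟩ := isPGroup_zpowers_of_stab hS hPS hZP hγ.2.1 hγ.2.2 ⟨γ, Subgroup.mem_zpowers γ⟩
  have hk' : γ ^ (p ^ k) = 1 := congrArg Subtype.val hk
  exact ⟨k, Subtype.ext hk'⟩

/-- A `p`-subgroup of the automizer containing `Aut_S(P)` equals it. -/
theorem eq_autS_of_pgroup (hfa : F.IsFullyAutomized p P) {K : Subgroup (MulAut P)} (hK : IsPGroup p K)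
    (hKX : K ≤ F.autGroup P) (hTK : autInducedBy S P ≤ K) : K = autInducedBy S P := by
  haveI := finite_mulAut hfa.1
  obtain ⟨γ, -, hγ⟩ := IsFullyAutomized.exists_conj hfa hK hKX
  symm
  apply Subgroup.eq_of_le_of_card_ge hTK
  refine Nat.card_le_card_of_injective (fun β : K => (⟨γ * β * γ⁻¹, hγ β β.2⟩ : autInducedBy S P)) ?_
  intro a b e
  have e1 : γ * (a : MulAut P) * γ⁻¹ = γ * (b : MulAut P) * γ⁻¹ := congrArg Subtype.val e
  apply Subtype.ext
  simpa using e1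

/-- Action on `Z` of a `p`-element: surjectivity. -/
theorem exists_pre_of_stab (hZP : Z ≤ P) (hPS : P ≤ S) {σ : MulAut P} (hσ : ∀ z ∈ Z, afn σ z ∈ Z) {z : Ω} (hz : z ∈ Z) :
    ∃ z' ∈ Z, afn σ z' = z := by
  haveI := finite_of_le (hZP.trans hPS)
  let f : Z → Z := fun w => ⟨afn σ w, hσ w w.2⟩
  have hinj : Function.Injective f := by
    intro a b e
    have e1 : afn σ a = afn σ b := congrArg Subtype.val e
    apply Subtype.ext
    have := congrArg (afn σ⁻¹) e1
    rwa [afn_inv_afn σ (hZP a.2), afn_inv_afn σ (hZP b.2)] at this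
  obtain ⟨w, hw⟩ := (Finite.injective_iff_surjective.1 hinj) ⟨z, hz⟩
  exact ⟨w, w.2, congrArg Subtype.val hw⟩

/-- Hypotheses: `Aut_S(P)` is trivial on `Z` and on `P / Z`. -/
structure Triv (S P Z : Subgroup Ω) : Prop where
  one : ∀ g ∈ normalizerIn S P, ∀ z ∈ Z, g * z * g⁻¹ = z
  two : ∀ g ∈ normalizerIn S P, ∀ u ∈ P, u⁻¹ * (g * u * g⁻¹) ∈ Z

lemma autS_le_stabR (hPS : P ≤ S) (hZP : Z ≤ P) (hT : Triv S P Z) : autInducedBy S P ≤ stabR F hZP := by
  intro γ hγ
  refine ⟨autInducedBy_le_autGroup hPS hγ, fun z hz => ?_, fun u hu => ?_⟩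
  · obtain ⟨g, hg, hgγ⟩ := mem_autInducedBy.1 hγ
    rw [hgγ z (hZP hz)]
    exact hT.one g ⟨hg, mem_normalizer_of_afn hgγ⟩ z hz
  · obtain ⟨g, hg, hgγ⟩ := mem_autInducedBy.1 hγ
    rw [hgγ u hu]
    exact hT.two g ⟨hg, mem_normalizer_of_afn hgγ⟩ u hu

theorem stabR_eq (hS : IsPGroup p S) (hfa : F.IsFullyAutomized p P) (hZP : Z ≤ P) (hT : Triv S P Z) :
    stabR F hZP = autInducedBy S P :=
  eq_autS_of_pgroup hfa (isPGroup_stabR hS hfa.1 hZP) (fun _ h => h.1) (autS_le_stabR hfa.1 hZP hT)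

/-- A `p`-element of the automizer stabilizing `Z` is trivial on `Z` and `P / Z`. -/
theorem mem_stabR_of_stab (hS : IsPGroup p S) (hfa : F.IsFullyAutomized p P) (hZP : Z ≤ P) (hT : Triv S P Z)
    {σ : MulAut P} (hσX : σ ∈ F.autGroup P) (hσp : IsPGroup p (Subgroup.zpowers σ)) (hσ : ∀ z ∈ Z, afn σ z ∈ Z) :
    σ ∈ stabR F hZP := by
  have hPS := hfa.1
  have hN : Subgroup.zpowers σ ≤ Subgroup.normalizer (stabR F hZP : Set (MulAut P)) := by
    apply Subgroup.zpowers_le.2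
    rw [Subgroup.mem_normalizer_iff]
    have hsur := fun z hz => exists_pre_of_stab hZP hPS hσ (z := z) hz
    intro γ
    constructor
    · rintro ⟨h1, h2, h3⟩
      refine ⟨Subgroup.mul_mem _ (Subgroup.mul_mem _ hσX h1) (Subgroup.inv_mem _ hσX), fun z hz => ?_, fun u hu => ?_⟩
      · obtain ⟨z', hz', rfl⟩ := hsur z hz
        rw [afn_mul _ _ (afn_mem σ (hZP hz')), afn_mul _ _ (afn_mem _ (afn_mem σ (hZP hz'))),
          afn_inv_afn σ (hZP hz'), h2 z' hz']
      · obtain ⟨v, hv, rfl⟩ : ∃ v ∈ P, afn σ v = u := ⟨afn σ⁻¹ u, afn_mem _ hu, afn_afn_inv σ hu⟩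
        rw [afn_mul _ _ (afn_mem σ hv), afn_mul _ _ (afn_mem _ (afn_mem σ hv)), afn_inv_afn σ hv]
        have hm := Maps_of_mem_autGroup hPS hσX
        rw [← hm.map_inv hv, ← hm.map_mul (P.inv_mem hv) (afn_mem γ hv)]
        exact hσ _ (h3 v hv)
    · rintro ⟨h1, h2, h3⟩
      refine ⟨?_, fun z hz => ?_, fun u hu => ?_⟩
      · have := Subgroup.mul_mem _ (Subgroup.mul_mem _ (Subgroup.inv_mem _ hσX) h1) hσX
        convert this using 1
        group
      · have h4 := h2 _ (hσ z hz)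
        rw [afn_mul _ _ (afn_mem σ (hZP hz)), afn_mul _ _ (afn_mem _ (afn_mem σ (hZP hz))),
          afn_inv_afn σ (hZP hz)] at h4
        have hm := Maps_of_mem_autGroup hPS hσX
        exact hm.inj (afn_mem γ (hZP hz)) (hZP hz) h4
      · have h4 := h3 _ (afn_mem σ hu)
        rw [afn_mul _ _ (afn_mem σ hu), afn_mul _ _ (afn_mem _ (afn_mem σ hu)), afn_inv_afn σ hu] at h4
        have hm := Maps_of_mem_autGroup hPS hσX
        rw [← hm.map_inv hu, ← hm.map_mul (P.inv_mem hu) (afn_mem γ hu)] at h4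
        obtain ⟨z', hz', e⟩ := hsur _ h4
        have := hm.inj (hZP hz') (P.mul_mem (P.inv_mem hu) (afn_mem γ hu)) e
        rwa [← this]
  have hKp : IsPGroup p (Subgroup.zpowers σ ⊔ stabR F hZP : Subgroup (MulAut P)) :=
    hσp.to_sup_of_normal_right' (isPGroup_stabR hS hPS hZP) hN
  have hKX : (Subgroup.zpowers σ ⊔ stabR F hZP : Subgroup (MulAut P)) ≤ F.autGroup P :=
    sup_le (Subgroup.zpowers_le.2 hσX) (fun _ h => h.1)
  have hTK : autInducedBy S P ≤ (Subgroup.zpowers σ ⊔ stabR F hZP : Subgroup (MulAut P)) :=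
    (autS_le_stabR hPS hZP hT).trans le_sup_right
  have he := eq_autS_of_pgroup hfa hKp hKX hTK
  rw [stabR_eq hS hfa hZP hT]
  apply (he ▸ Subgroup.mem_sup_left (Subgroup.mem_zpowers σ) :
    σ ∈ autInducedBy S P)

/-- If `a ∈ N_S(P)` stabilizes `α(Z)`, then it centralizes `α(Z)`. -/
theorem fix_of_stab (hS : IsPGroup p S) (hfa : F.IsFullyAutomized p P) (hZP : Z ≤ P) (hT : Triv S P Z)
    {α : MulAut P} (hα : α ∈ F.autGroup P) {a : Ω} (ha : a ∈ normalizerIn S P)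
    (h : ∀ z ∈ Z, ∃ z' ∈ Z, a * afn α z * a⁻¹ = afn α z') : ∀ z ∈ Z, a * afn α z * a⁻¹ = afn α z := by
  have hPS := hfa.1
  let c : MulAut P := conjN S P ⟨a, ha⟩
  have hc : ∀ x ∈ P, afn c x = a * x * a⁻¹ := fun x hx => afn_conjN ⟨a, ha⟩ hx
  have hcX : c ∈ F.autGroup P := autInducedBy_le_autGroup hPS (by rw [← conjN_range]; exact ⟨_, rfl⟩)
  let σ : MulAut P := α⁻¹ * c * α
  have hσ : ∀ x ∈ P, afn σ x = afn α⁻¹ (a * afn α x * a⁻¹) := by
    intro x hx
    show afn (α⁻¹ * c * α) x = _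
    rw [afn_mul _ _ hx, afn_mul _ _ (afn_mem α hx), hc _ (afn_mem α hx)]
  have hσX : σ ∈ F.autGroup P := Subgroup.mul_mem _ (Subgroup.mul_mem _ (Subgroup.inv_mem _ hα) hcX) hα
  have hcp : IsPGroup p (autInducedBy S P) := isPGroup_autInducedBy hS
  obtain ⟨k, hk⟩ := hcp ⟨c, by rw [← conjN_range]; exact ⟨_, rfl⟩⟩
  have hk' : c ^ (p ^ k) = 1 := congrArg Subtype.val hk
  have hσk : σ ^ (p ^ k) = 1 := by
    have e : σ = α⁻¹ * c * α⁻¹⁻¹ := by simp [σ]
    rw [e, conj_pow, hk']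
    simp
  have hσp := isPGroup_zpowers_of_pow (p := p) hσk
  have hσZ : ∀ z ∈ Z, afn σ z ∈ Z := by
    intro z hz
    obtain ⟨z', hz', e⟩ := h z hz
    rw [hσ z (hZP hz), e, afn_inv_afn α (hZP hz')]
    exact hz'
  have hmem := mem_stabR_of_stab hS hfa hZP hT hσX hσp hσZ
  intro z hz
  have h1 := hmem.2.1 z hz
  rw [hσ z (hZP hz)] at h1
  obtain ⟨z', hz', e⟩ := h z hz
  rw [e, afn_inv_afn α (hZP hz')] at h1
  rw [e, h1]

end Cfsg.Agent.Lib.FusionAbEss
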