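import Mathlib
import Cfsg.Agent.Lib.FusionAbEss

/-!
# Essential subgroups when `S` has an abelian subgroup of index `p`: index of the normalizer
-/

set_option autoImplicit false

namespace Cfsg.Agent.Lib.FusionAbEss2

open Cfsg Cfsg.FusionSystem Cfsg.Agent.Lib.FusionCore Cfsg.Agent.Lib.FusionCore2 Cfsg.Agent.Lib.FusionCore3
open Cfsg.Agent.Lib.FusionAbIdx Cfsg.Agent.Lib.FusionAbEss

variable {Ω : Type*} [Group Ω] {S : Subgroup Ω} [Finite S] {F : FusionSystem S} {P A B Z : Subgroup Ω}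
variable {p : ℕ} [Fact p.Prime]

/-- Subgroups of the same order have the same relative index. -/
theorem relIndex_eq_of_card {H K L : Subgroup Ω} [Finite L] (hHL : H ≤ L) (hKL : K ≤ L)
    (hc : Nat.card H = Nat.card K) : H.relIndex L = K.relIndex L := by
  haveI : Finite H := Finite.of_injective (Subgroup.inclusion hHL) (Subgroup.inclusion_injective _)
  have e1 := Subgroup.relIndex_mul_relIndex (⊥ : Subgroup Ω) H L bot_le hHL
  have e2 := Subgroup.relIndex_mul_relIndex (⊥ : Subgroup Ω) K L bot_le hKL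
  rw [Subgroup.relIndex_bot_left, Subgroup.relIndex_bot_left] at e1 e2
  rw [← e2, hc] at e1
  have hpos : 0 < Nat.card K := by
    rw [← hc]; exact Nat.card_pos
  exact Nat.eq_of_mul_eq_mul_left hpos e1

/-- The index theorem for abelian `P`. -/
theorem abelian_index (hS : IsPGroup p S) (hF : F.IsSaturated p) (hP : F.IsEssential p P)
    (hPc : ∀ u ∈ P, ∀ v ∈ P, u * v = v * u) (hZP : Z ≤ P) (hZi : (Z.subgroupOf P).index = p) (hT : Triv S P Z) :
    (P.subgroupOf (normalizerIn S P)).index = p := by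
  have hPS : P ≤ S := hP.1.1
  haveI := finite_of_le hPS
  have hNS : normalizerIn S P ≤ S := inf_le_left
  haveI := finite_of_le hNS
  haveI := finite_of_le (hZP.trans hPS)
  obtain ⟨-, hfa⟩ := of_fullyNormalized hS hF hP.2.1
  obtain ⟨g₀, hg₀, hg₀P⟩ := exists_outside hS hF hP
  obtain ⟨α, hα, z₀, hz₀, hy⟩ := exists_move hS hP hZP hg₀ hg₀P (hT.one g₀ hg₀) (hT.two g₀ hg₀)
  set y := afn α z₀ with hydef
  have hm := Maps_of_mem_autGroup hPS hα
  have hyP : y ∈ P := afn_mem α (hZP hz₀)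
  set H : Subgroup Ω := img (afn α) Z with hH
  have hHmem : ∀ h, h ∈ H ↔ ∃ z ∈ Z, afn α z = h := fun h => (hm.restrict hZP).mem_img
  have hHP : H ≤ P := by
    intro h hh
    obtain ⟨z, hz, rfl⟩ := (hHmem h).1 hh
    exact afn_mem α (hZP hz)
  have hyH : y ∈ H := (hHmem y).2 ⟨z₀, hz₀, rfl⟩
  set W : Subgroup Ω := H ⊓ Z with hW
  have hgenP : ∀ u ∈ P, ∃ z ∈ Z, ∃ i : ℕ, u = z * y ^ i := fun u hu =>
    gen_of_index (hS.to_le hPS) hZi hyP hy u hu
  have hNconj : ∀ g ∈ normalizerIn S P, ∀ u ∈ P, g * u * g⁻¹ ∈ P := fun g hg u hu =>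
    (Subgroup.mem_normalizer_iff.1 hg.2 u).1 hu
  have hδZ : ∀ g ∈ normalizerIn S P, g * y * g⁻¹ * y⁻¹ ∈ Z := by
    intro g hg
    have h1 := hT.two g hg y hyP
    have h2 : y⁻¹ * (g * y * g⁻¹) = (g * y * g⁻¹) * y⁻¹ := hPc _ (P.inv_mem hyP) _ (hNconj g hg y hyP)
    rwa [h2] at h1
  -- the key property
  have key : ∀ g ∈ normalizerIn S P, g * y * g⁻¹ * y⁻¹ ∈ W → g ∈ P := by
    intro g hg hδ
    set δ := g * y * g⁻¹ * y⁻¹ with hδdef
    have hδP : δ ∈ P := hZP hδ.2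
    have hgy : g * y * g⁻¹ = δ * y := by rw [hδdef]; group
    have hgyi : ∀ i : ℕ, g * y ^ i * g⁻¹ = δ ^ i * y ^ i := by
      intro i
      have : g * y ^ i * g⁻¹ = (g * y * g⁻¹) ^ i := by rw [conj_pow]
      rw [this, hgy]
      exact (show Commute δ y from hPc δ hδP y hyP).mul_pow i
    have hst : ∀ z ∈ Z, ∃ z' ∈ Z, g * afn α z * g⁻¹ = afn α z' := by
      intro z hz
      have hh : afn α z ∈ H := (hHmem _).2 ⟨z, hz, rfl⟩
      obtain ⟨z₁, hz₁, i, e⟩ := hgenP _ (hHP hh)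
      have hz₁H : z₁ ∈ H := by
        have : z₁ = afn α z * (y ^ i)⁻¹ := by rw [e]; group
        rw [this]
        exact H.mul_mem hh (H.inv_mem (H.pow_mem hyH i))
      have e2 : g * afn α z * g⁻¹ = z₁ * (δ ^ i * y ^ i) := by
        rw [e, ← hgyi i]
        have := hT.one g hg z₁ hz₁
        calc g * (z₁ * y ^ i) * g⁻¹ = (g * z₁ * g⁻¹) * (g * y ^ i * g⁻¹) := by group
          _ = _ := by rw [this]
      have hmemH : g * afn α z * g⁻¹ ∈ H := by
        rw [e2]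
        exact H.mul_mem hz₁H (H.mul_mem (H.pow_mem hδ.1 i) (H.pow_mem hyH i))
      obtain ⟨z', hz', e'⟩ := (hHmem _).1 hmemH
      exact ⟨z', hz', e'.symm⟩
    have hfix := fix_of_stab hS hfa hZP hT hα hg hst z₀ hz₀
    have hcent : g ∈ centralizerIn S P := by
      refine mem_centralizerIn.2 ⟨hg.1, fun u hu => ?_⟩
      obtain ⟨z, hz, i, rfl⟩ := hgenP u hu
      have h1 := hT.one g hg z hz
      have h2 : g * y * g⁻¹ = y := hfix
      have h3 : g * y ^ i * g⁻¹ = y ^ i := by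
        have : g * y ^ i * g⁻¹ = (g * y * g⁻¹) ^ i := by rw [conj_pow]
        rw [this, h2]
      have h4 : g * (z * y ^ i) * g⁻¹ = z * y ^ i := by
        calc g * (z * y ^ i) * g⁻¹ = (g * z * g⁻¹) * (g * y ^ i * g⁻¹) := by group
          _ = _ := by rw [h1, h3]
      calc z * y ^ i * g = (g * (z * y ^ i) * g⁻¹) * g := by rw [h4]
        _ = g * (z * y ^ i) := by group
    exact IsCentric_self hP.1 hcent
  -- index estimate
  haveI hWn : (W.subgroupOf Z).Normal := by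
    constructor
    intro n hn g
    have : g * n * g⁻¹ = n := by
      apply Subtype.ext
      show (g : Ω) * n * (g : Ω)⁻¹ = n
      rw [hPc g (hZP g.2) n (hZP n.2)]
      group
    rw [this]
    exact hn
  let f : ↥(normalizerIn S P) → ↥Z ⧸ W.subgroupOf Z :=
    fun g => QuotientGroup.mk ⟨(g : Ω) * y * (g : Ω)⁻¹ * y⁻¹, hδZ g g.2⟩
  have hle : (P.subgroupOf (normalizerIn S P)).index ≤ Nat.card (↥Z ⧸ W.subgroupOf Z) := by
    apply index_le_of_fun f
    rintro ⟨a, ha⟩ ⟨b, hb⟩ e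
    have e1 := QuotientGroup.eq.1 e
    have e2 : (a * y * a⁻¹ * y⁻¹)⁻¹ * (b * y * b⁻¹ * y⁻¹) ∈ W := Subgroup.mem_subgroupOf.1 e1
    apply Subgroup.mem_subgroupOf.2
    show a⁻¹ * b ∈ P
    have hk : a⁻¹ * b ∈ normalizerIn S P := (normalizerIn S P).mul_mem ((normalizerIn S P).inv_mem ha) hb
    apply key _ hk
    -- the commutator of the quotient
    set k := a⁻¹ * b with hkdef
    have hb' : b = a * k := by rw [hkdef]; group
    have e3 : b * y * b⁻¹ * y⁻¹ = (k * y * k⁻¹ * y⁻¹) * (a * y * a⁻¹ * y⁻¹) := by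
      have h1 := hT.one a ha _ (hδZ k hk)
      calc b * y * b⁻¹ * y⁻¹ = a * (k * y * k⁻¹ * y⁻¹) * a⁻¹ * (a * y * a⁻¹ * y⁻¹) := by rw [hb']; group
        _ = _ := by rw [h1]
    rw [e3] at e2
    have hc1 : (a * y * a⁻¹ * y⁻¹)⁻¹ * (k * y * k⁻¹ * y⁻¹) = (k * y * k⁻¹ * y⁻¹) * (a * y * a⁻¹ * y⁻¹)⁻¹ :=
      hPc _ (P.inv_mem (hZP (hδZ a ha))) _ (hZP (hδZ k hk))
    have e4 : (a * y * a⁻¹ * y⁻¹)⁻¹ * ((k * y * k⁻¹ * y⁻¹) * (a * y * a⁻¹ * y⁻¹)) = k * y * k⁻¹ * y⁻¹ := by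
      rw [← mul_assoc, hc1]
      group
    rwa [e4] at e2
  have hZW : Nat.card (↥Z ⧸ W.subgroupOf Z) ≤ p := by
    show W.relIndex Z ≤ p
    rw [hW, Subgroup.inf_relIndex_right]
    have h1 : H.relIndex Z ≤ H.relIndex P :=
      Subgroup.relIndex_le_of_le_right hZP Subgroup.index_ne_zero_of_finite
    have h2 : H.relIndex P = Z.relIndex P := relIndex_eq_of_card hHP hZP (hm.restrict hZP).card_img
    have h3 : Z.relIndex P = p := hZi
    omega
  apply index_eq_of_le (hS.to_le hNS)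
  · intro e
    rw [Subgroup.index_eq_one] at e
    apply hg₀P
    have : (⟨g₀, hg₀⟩ : normalizerIn S P) ∈ P.subgroupOf (normalizerIn S P) := by rw [e]; trivial
    exact Subgroup.mem_subgroupOf.1 this
  · exact hle.trans hZW

/-- The index of `P ∩ A` in `P`. -/
theorem inf_index (h : AbIdx S A p) (hPS : P ≤ S) {x : Ω} (hx : x ∈ P) (hxA : x ∉ A) :
    ((P ⊓ A).subgroupOf P).index = p := by
  haveI := finite_of_le hPS
  apply index_eq_of_le (h.pg.to_le hPS)
  · intro e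
    rw [Subgroup.index_eq_one] at e
    have : (⟨x, hx⟩ : P) ∈ (P ⊓ A).subgroupOf P := by rw [e]; trivial
    exact hxA (Subgroup.mem_subgroupOf.1 this).2
  · show (P ⊓ A).relIndex P ≤ p
    rw [Subgroup.inf_relIndex_left]
    have := Subgroup.relIndex_le_of_le_right (H := A) hPS Subgroup.index_ne_zero_of_finite
    have h2 : A.relIndex S = p := h.idx
    omega

/-- A subgroup is generated by an index `p` subgroup and an outside element. -/
theorem eq_sup_zpowers (hL : IsPGroup p P) [Finite P] {K : Subgroup Ω} (hKP : K ≤ P)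
    (hi : (K.subgroupOf P).index = p) {c : Ω} (hc : c ∈ P) (hcK : c ∉ K) : P = K ⊔ Subgroup.zpowers c := by
  apply le_antisymm
  · intro u hu
    obtain ⟨k, hk, i, rfl⟩ := gen_of_index hL hi hc hcK u hu
    exact Subgroup.mul_mem _ (Subgroup.mem_sup_left hk)
      (Subgroup.mem_sup_right (Subgroup.pow_mem _ (Subgroup.mem_zpowers c) i))
  · exact sup_le hKP (Subgroup.zpowers_le.2 hc)

theorem Zc_le_of_centric (hc : F.IsCentric P) : Zc S ≤ P := by
  intro z hz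
  apply IsCentric_self hc
  refine mem_centralizerIn.2 ⟨hz.1, fun u hu => ?_⟩
  exact ((mem_Zc.1 hz).2 u (hc.1 hu))

theorem mem_norm_of_D (h : AbIdx S A p) (hc : F.IsCentric P) {a : Ω} (ha : a ∈ Dc S A) :
    a ∈ normalizerIn S P := by
  have hPS := hc.1
  haveI := finite_of_le hPS
  have haS : a ∈ S := h.le ha.2
  refine ⟨haS, mem_normalizer_of_conj_mem (fun u hu => ?_)⟩
  have h1 := (mem_Z2c.1 ha.1).2 u (hPS hu)
  have h2 := Zc_le_of_centric hc h1
  have := P.mul_mem h2 hu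
  convert this using 1
  group

/-- The abelian case. -/
theorem abelian_case (h : AbIdx S A p) (hF : F.IsSaturated p) (hP : F.IsEssential p P) {x : Ω} (hx : x ∈ P)
    (hxA : x ∉ A) (hPc : ∀ u ∈ P, ∀ v ∈ P, u * v = v * u) :
    P ⊓ A = Zc S ∧ (P.subgroupOf (normalizerIn S P)).index = p ∧ ((Zc S).subgroupOf (Dc S A)).index = p ∧
      Triv S P (Zc S) := by
  have hS := h.pg
  have hPS : P ≤ S := hP.1.1
  haveI := finite_of_le hPS
  have hxS := hPS hx
  have hZP := Zc_le_of_centric hP.1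
  have hBZ : P ⊓ A = Zc S := by
    apply le_antisymm
    · rintro u ⟨hu1, hu2⟩
      exact h.mem_Z_of_comm hu2 hxS hxA (hPc u hu1 x hx)
    · exact le_inf hZP h.Z_le
  have hcmtP : ∀ g ∈ normalizerIn S P, ∀ u ∈ P, u⁻¹ * (g * u * g⁻¹) ∈ P ⊓ A := by
    intro g hg u hu
    refine ⟨P.mul_mem (P.inv_mem hu) ((Subgroup.mem_normalizer_iff.1 hg.2 u).1 hu), ?_⟩
    have := h.cmt _ (S.inv_mem (hPS hu)) g hg.1
    have e : u⁻¹ * (g * u * g⁻¹) = u⁻¹ * g * u⁻¹⁻¹ * g⁻¹ := by group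
    rw [e]
    exact this
  have hT : Triv S P (Zc S) := by
    refine ⟨fun g hg z hz => ?_, fun g hg u hu => ?_⟩
    · rw [(mem_Zc.1 hz).2 g hg.1]
      group
    · rw [← hBZ]
      exact hcmtP g hg u hu
  have hZi : ((Zc S).subgroupOf P).index = p := by
    rw [← hBZ]
    exact inf_index h hPS hx hxA
  have hidx := abelian_index hS hF hP hPc hZP hZi hT
  refine ⟨hBZ, hidx, ?_, hT⟩
  -- `D / Z`
  have hDS : Dc S A ≤ S := inf_le_right.trans h.le
  haveI := finite_of_le hDS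
  haveI : Finite (normalizerIn S P) := finite_of_le (inf_le_left : normalizerIn S P ≤ S)
  have hDN : Dc S A ≤ normalizerIn S P := fun a ha => mem_norm_of_D h hP.1 ha
  have hZD : Zc S = P ⊓ Dc S A := by
    apply le_antisymm
    · refine le_inf hZP (le_inf ?_ h.Z_le)
      intro z hz
      refine mem_Z2c.2 ⟨hz.1, fun g hg => ?_⟩
      have : z * g * z⁻¹ * g⁻¹ = 1 := by
        rw [← (mem_Zc.1 hz).2 g hg]
        group
      rw [this]
      exact Subgroup.one_mem _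
    · rintro u ⟨hu1, hu2⟩
      rw [← hBZ]
      exact ⟨hu1, hu2.2⟩
  apply index_eq_of_le (hS.to_le hDS)
  · intro e
    rw [Subgroup.index_eq_one] at e
    obtain ⟨g₀, hg₀, hg₀P⟩ := exists_outside hS hF hP
    obtain ⟨a, ha, i, rfl⟩ := h.gen x hxS hxA g₀ hg₀.1
    have hxi : x ^ i ∈ P := P.pow_mem hx i
    have haN : a ∈ normalizerIn S P := by
      have := (normalizerIn S P).mul_mem hg₀ ((normalizerIn S P).inv_mem (le_normalizerIn hPS hxi))
      simpa using this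
    have haP : a ∉ P := fun h1 => hg₀P (P.mul_mem h1 hxi)
    have haD : a ∈ Dc S A := by
      refine (h.mem_D hxS hxA).2 ⟨ha, ?_⟩
      rw [← hBZ]
      refine ⟨?_, h.cmt a (h.le ha) x hxS⟩
      have h1 := (Subgroup.mem_normalizer_iff.1 haN.2 x).1 hx
      exact P.mul_mem h1 (P.inv_mem hx)
    have : (⟨a, haD⟩ : Dc S A) ∈ (Zc S).subgroupOf (Dc S A) := by rw [e]; trivial
    exact haP (hZP (Subgroup.mem_subgroupOf.1 this))
  · show (Zc S).relIndex (Dc S A) ≤ p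
    calc (Zc S).relIndex (Dc S A) = (P ⊓ Dc S A).relIndex (Dc S A) := by rw [← hZD]
      _ = P.relIndex (Dc S A) := Subgroup.inf_relIndex_right _ _
      _ ≤ P.relIndex (normalizerIn S P) :=
        Subgroup.relIndex_le_of_le_right hDN Subgroup.index_ne_zero_of_finite
      _ = p := hidx

/-- The nonabelian case. -/
theorem nonabelian_case (h : AbIdx S A p) (hF : F.IsSaturated p) (hP : F.IsEssential p P) {x : Ω} (hx : x ∈ P)
    (hxA : x ∉ A) (hnab : ∃ u ∈ P, ∃ v ∈ P, u * v ≠ v * u) :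
    P ⊓ A = Dc S A ∧ (P.subgroupOf (normalizerIn S P)).index = p ∧ ((Zc S).subgroupOf (Dc S A)).index = p ∧
      (∀ u ∈ P, (∀ v ∈ P, u * v = v * u) → u ∈ Zc S) := by
  have hS := h.pg
  have hPS : P ≤ S := hP.1.1
  haveI := finite_of_le hPS
  haveI : Finite (normalizerIn S P) := finite_of_le (inf_le_left : normalizerIn S P ≤ S)
  have hxS := hPS hx
  have hZP := Zc_le_of_centric hP.1
  set B : Subgroup Ω := P ⊓ A with hB
  have hBP : B ≤ P := inf_le_left
  have hBA : B ≤ A := inf_le_right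
  have hBS : B ≤ S := hBP.trans hPS
  haveI := finite_of_le hBS
  have hPnorm : ∀ g ∈ normalizerIn S P, ∀ u ∈ P, g * u * g⁻¹ ∈ P := fun g hg u hu =>
    (Subgroup.mem_normalizer_iff.1 hg.2 u).1 hu
  have hcmt : ∀ g ∈ normalizerIn S P, ∀ u ∈ P, g * u * g⁻¹ * u⁻¹ ∈ B := fun g hg u hu =>
    ⟨P.mul_mem (hPnorm g hg u hu) (P.inv_mem hu), h.cmt g hg.1 u (hPS hu)⟩
  have hcmt' : ∀ g ∈ normalizerIn S P, ∀ u ∈ P, u⁻¹ * (g * u * g⁻¹) ∈ B := by
    intro g hg u hu
    refine ⟨P.mul_mem (P.inv_mem hu) (hPnorm g hg u hu), ?_⟩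
    have := h.cmt _ (S.inv_mem (hPS hu)) g hg.1
    have e : u⁻¹ * (g * u * g⁻¹) = u⁻¹ * g * u⁻¹⁻¹ * g⁻¹ := by group
    rw [e]
    exact this
  have hBi : (B.subgroupOf P).index = p := inf_index h hPS hx hxA
  -- an element of `A` normalizing and not in `P`
  obtain ⟨g₀, hg₀, hg₀P⟩ := exists_outside hS hF hP
  obtain ⟨a₀, ha₀, i₀, rfl⟩ := h.gen x hxS hxA g₀ hg₀.1
  have hxi₀ : x ^ i₀ ∈ P := P.pow_mem hx i₀
  have ha₀N : a₀ ∈ normalizerIn S P := by
    have := (normalizerIn S P).mul_mem hg₀ ((normalizerIn S P).inv_mem (le_normalizerIn hPS hxi₀))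
    simpa using this
  have ha₀P : a₀ ∉ P := fun h1 => hg₀P (P.mul_mem h1 hxi₀)
  obtain ⟨α, hα, b₀, hb₀, hcB⟩ := exists_move hS hP hBP ha₀N ha₀P
    (fun z hz => by rw [h.comm a₀ ha₀ z hz.2]; group) (hcmt' a₀ ha₀N)
  set c := afn α b₀ with hc
  have hm := Maps_of_mem_autGroup hPS hα
  have hcP : c ∈ P := afn_mem α (hBP hb₀)
  have hcS : c ∈ S := hPS hcP
  have hcA : c ∉ A := fun h1 => hcB ⟨hcP, h1⟩
  set B' : Subgroup Ω := img (afn α) B with hB'
  have hB'mem : ∀ w, w ∈ B' ↔ ∃ b ∈ B, afn α b = w := fun w => (hm.restrict hBP).mem_img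
  have hB'P : B' ≤ P := by
    intro w hw
    obtain ⟨b, hb, rfl⟩ := (hB'mem w).1 hw
    exact afn_mem α (hBP hb)
  have hcB' : c ∈ B' := (hB'mem c).2 ⟨b₀, hb₀, rfl⟩
  have hB'c : ∀ u ∈ B', ∀ v ∈ B', u * v = v * u := by
    intro u hu v hv
    obtain ⟨b, hb, rfl⟩ := (hB'mem u).1 hu
    obtain ⟨b', hb', rfl⟩ := (hB'mem v).1 hv
    rw [← hm.map_mul (hBP hb) (hBP hb'), ← hm.map_mul (hBP hb') (hBP hb), h.comm b hb.2 b' hb'.2]
  have hBnorm : ∀ v ∈ P, ∀ b ∈ B, v * b * v⁻¹ ∈ B := fun v hv b hb =>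
    ⟨P.mul_mem (P.mul_mem hv (hBP hb)) (P.inv_mem hv), h.nor v (hPS hv) b hb.2⟩
  have hB'norm : ∀ v ∈ P, ∀ w ∈ B', v * w * v⁻¹ ∈ B' := by
    intro v hv w hw
    obtain ⟨b, hb, rfl⟩ := (hB'mem w).1 hw
    have hv' := afn_afn_inv α hv
    refine (hB'mem _).2 ⟨afn α⁻¹ v * b * (afn α⁻¹ v)⁻¹, hBnorm _ (afn_mem _ hv) b hb, ?_⟩
    have hv2 : afn α⁻¹ v ∈ P := afn_mem _ hv
    rw [hm.map_conj hv2 (hBP hb), hv']
  have hgenB : ∀ u ∈ P, ∃ b ∈ B, ∃ i : ℕ, u = b * c ^ i := fun u hu =>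
    gen_of_index (hS.to_le hPS) hBi hcP hcB u hu
  -- the centre of `P`
  have hZ1 : ∀ u ∈ P, (∀ v ∈ P, u * v = v * u) → u ∈ B := by
    intro u hu hcent
    by_contra huB
    obtain ⟨v, hv, w, hw, hvw⟩ := hnab
    apply hvw
    obtain ⟨b, hb, i, rfl⟩ := gen_of_index (hS.to_le hPS) hBi hu huB v hv
    obtain ⟨b', hb', j, rfl⟩ := gen_of_index (hS.to_le hPS) hBi hu huB w hw
    have c1 : Commute b b' := h.comm b hb.2 b' hb'.2
    have c2 : Commute b (u ^ j) := ((show Commute u b from hcent b (hBP hb)).pow_left j).symm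
    have c3 : Commute (u ^ i) b' := (show Commute u b' from hcent b' (hBP hb')).pow_left i
    have c4 : Commute (u ^ i) (u ^ j) := (Commute.refl u).pow_pow i j
    exact ((c1.mul_right c2).mul_left (c3.mul_right c4)).eq
  have hZ2 : ∀ u ∈ P, (∀ v ∈ P, u * v = v * u) → u ∈ Zc S := by
    intro u hu hcent
    exact h.mem_Z_of_comm (hZ1 u hu hcent).2 hxS hxA (hcent x hx)
  have hZ3 : ∀ u ∈ P, (∀ v ∈ P, u * v = v * u) → u ∈ B' := by
    intro u hu hcent
    have hu' := afn_afn_inv α hu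
    refine (hB'mem _).2 ⟨afn α⁻¹ u, hZ1 _ (afn_mem _ hu) (fun v hv => ?_), hu'⟩
    apply hm.inj (P.mul_mem (afn_mem _ hu) hv) (P.mul_mem hv (afn_mem _ hu))
    rw [hm.map_mul (afn_mem _ hu) hv, hm.map_mul hv (afn_mem _ hu), hu']
    exact hcent _ (afn_mem α hv)
  have hZcen : ∀ z ∈ Zc S, ∀ v ∈ P, z * v = v * z := fun z hz v hv => ((mem_Zc.1 hz).2 v (hPS hv)).symm
  have hBB' : ∀ w ∈ B, w ∈ B' → w ∈ Zc S := by
    intro w hw hw'
    apply hZ2 w (hBP hw)
    intro v hv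
    obtain ⟨b, hb, i, rfl⟩ := hgenB v hv
    have c1 : Commute w b := h.comm w hw.2 b hb.2
    have c2 : Commute w c := hB'c w hw' c hcB'
    exact (c1.mul_right (c2.pow_right i)).eq
  have hZeq : Zc S = B ⊓ B' := by
    apply le_antisymm
    · intro z hz
      exact ⟨⟨hZP hz, h.Z_le hz⟩, hZ3 z (hZP hz) (hZcen z hz)⟩
    · rintro w ⟨h1, h2⟩
      exact hBB' w h1 h2
  -- `B ≤ D`
  have hBD : B ≤ Dc S A := by
    intro b hb
    refine (h.mem_D hcS hcA).2 ⟨hb.2, ?_⟩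
    apply hBB'
    · have h1 := hBnorm c hcP _ (B.inv_mem hb)
      have := B.mul_mem hb h1
      convert this using 1
      group
    · have h1 := hB'norm b (hBP hb) c hcB'
      exact B'.mul_mem h1 (B'.inv_mem hcB')
  -- `D ≤ B`
  have hDB : Dc S A ≤ B := by
    intro a ha
    refine ⟨?_, ha.2⟩
    by_contra haP
    have haN := mem_norm_of_D h hP.1 ha
    obtain ⟨β, hβ, z, hz, hβz⟩ := exists_move hS hP hZP haN haP
      (fun z hz => by rw [(mem_Zc.1 hz).2 a haN.1]; group)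
      (fun u hu => by
        have h1 := (mem_Z2c.1 ha.1).2 u (hPS hu)
        have e : u⁻¹ * (a * u * a⁻¹) = a * u * a⁻¹ * u⁻¹ := by
          calc u⁻¹ * (a * u * a⁻¹) = u⁻¹ * ((a * u * a⁻¹ * u⁻¹) * u) := by group
            _ = u⁻¹ * (u * (a * u * a⁻¹ * u⁻¹)) := by rw [hZcen _ h1 u hu]
            _ = _ := by group
        rw [e]
        exact h1)
    apply hβz
    have hmβ := Maps_of_mem_autGroup hPS hβ
    apply hZ2 _ (afn_mem β (hZP hz))
    intro v hv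
    have hv' := afn_afn_inv β hv
    rw [← hv', ← hmβ.map_mul (hZP hz) (afn_mem _ hv), ← hmβ.map_mul (afn_mem _ hv) (hZP hz),
      hZcen z hz _ (afn_mem _ hv)]
  have hBeq : B = Dc S A := le_antisymm hBD hDB
  have hcardB' : Nat.card B' = Nat.card B := (hm.restrict hBP).card_img
  have hBZ : (Zc S).relIndex B = p := by
    apply index_eq_of_le (hS.to_le hBS)
    · intro e
      have hle : B ≤ Zc S := Subgroup.relIndex_eq_one.1 e
      have hle2 : B ≤ B' := fun b hb => (hZeq ▸ hle hb : b ∈ B ⊓ B').2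
      haveI := finite_of_le (hB'P.trans hPS)
      have : B = B' := Subgroup.eq_of_le_of_card_ge hle2 hcardB'.le
      exact hcB (this ▸ hcB')
    · show (Zc S).relIndex B ≤ p
      rw [hZeq, Subgroup.inf_relIndex_left]
      have h1 : B'.relIndex B ≤ B'.relIndex P :=
        Subgroup.relIndex_le_of_le_right hBP Subgroup.index_ne_zero_of_finite
      have h2 : B'.relIndex P = B.relIndex P := relIndex_eq_of_card hB'P hBP hcardB'
      have h3 : B.relIndex P = p := hBi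
      omega
  have key2 : ∀ k ∈ normalizerIn S P, k * c * k⁻¹ * c⁻¹ ∈ Zc S → k ∈ P := by
    intro k hk hkc
    obtain ⟨e, he, i, rfl⟩ := h.gen c hcS hcA k hk.1
    have hc1 : c ^ i * c = c * c ^ i := ((Commute.refl c).pow_left i).eq
    have e1 : e * c ^ i * c * (e * c ^ i)⁻¹ * c⁻¹ = e * c * e⁻¹ * c⁻¹ := by
      calc e * c ^ i * c * (e * c ^ i)⁻¹ * c⁻¹ = e * (c ^ i * c) * (c ^ i)⁻¹ * e⁻¹ * c⁻¹ := by group
        _ = e * (c * c ^ i) * (c ^ i)⁻¹ * e⁻¹ * c⁻¹ := by rw [hc1]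
        _ = _ := by group
    rw [e1] at hkc
    have heD : e ∈ Dc S A := (h.mem_D hcS hcA).2 ⟨he, hkc⟩
    exact P.mul_mem (hBP (hDB heD)) (P.pow_mem hcP i)
  haveI hZn : ((Zc S).subgroupOf B).Normal := by
    constructor
    intro n hn g
    have : g * n * g⁻¹ = n := by
      apply Subtype.ext
      show (g : Ω) * n * (g : Ω)⁻¹ = n
      rw [h.comm g g.2.2 n n.2.2]
      group
    rw [this]
    exact hn
  let f : ↥(normalizerIn S P) → ↥B ⧸ (Zc S).subgroupOf B :=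
    fun g => QuotientGroup.mk ⟨(g : Ω) * c * (g : Ω)⁻¹ * c⁻¹, hcmt g g.2 c hcP⟩
  have hle : (P.subgroupOf (normalizerIn S P)).index ≤ Nat.card (↥B ⧸ (Zc S).subgroupOf B) := by
    apply index_le_of_fun f
    rintro ⟨a, ha⟩ ⟨b, hb⟩ e
    have e1 := QuotientGroup.eq.1 e
    have e2 : (a * c * a⁻¹ * c⁻¹)⁻¹ * (b * c * b⁻¹ * c⁻¹) ∈ Zc S := Subgroup.mem_subgroupOf.1 e1
    apply Subgroup.mem_subgroupOf.2
    show a⁻¹ * b ∈ P
    have hk : a⁻¹ * b ∈ normalizerIn S P := (normalizerIn S P).mul_mem ((normalizerIn S P).inv_mem ha) hb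
    apply key2 _ hk
    set k := a⁻¹ * b with hkdef
    have hb' : b = a * k := by rw [hkdef]; group
    set y := k * c * k⁻¹ * c⁻¹ with hy
    have hyB : y ∈ B := hcmt k hk c hcP
    set δ := a * c * a⁻¹ * c⁻¹ with hδ
    have hδB : δ ∈ B := hcmt a ha c hcP
    have hw : a * y * a⁻¹ * y⁻¹ ∈ Zc S := by
      have h1 := (Zc S).inv_mem ((mem_Z2c.1 (hBD hyB).1).2 a ha.1)
      convert h1 using 1
      group
    set w := a * y * a⁻¹ * y⁻¹ with hwdef
    have e3 : b * c * b⁻¹ * c⁻¹ = w * y * δ := by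
      rw [hb', hwdef, hδ, hy]
      group
    rw [e3] at e2
    have hc1 : δ⁻¹ * y = y * δ⁻¹ := h.comm _ (A.inv_mem hδB.2) _ hyB.2
    have e4 : δ⁻¹ * (w * y * δ) = w * y := by
      have hwδ : δ⁻¹ * w = w * δ⁻¹ := (mem_Zc.1 hw).2 _ (S.inv_mem (hPS (hBP hδB)))
      calc δ⁻¹ * (w * y * δ) = (δ⁻¹ * w) * y * δ := by group
        _ = w * (δ⁻¹ * y) * δ := by rw [hwδ]; group
        _ = w * (y * δ⁻¹) * δ := by rw [hc1]
        _ = w * y := by group
    rw [e4] at e2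
    have := (Zc S).mul_mem ((Zc S).inv_mem hw) e2
    simpa using this
  refine ⟨hBeq, ?_, ?_, hZ2⟩
  · have hNS : normalizerIn S P ≤ S := inf_le_left
    apply index_eq_of_le (hS.to_le hNS)
    · intro e
      rw [Subgroup.index_eq_one] at e
      apply ha₀P
      have : (⟨a₀, ha₀N⟩ : normalizerIn S P) ∈ P.subgroupOf (normalizerIn S P) := by rw [e]; trivial
      exact Subgroup.mem_subgroupOf.1 this
    · exact hle.trans (le_of_eq hBZ)
  · rw [← hBeq]
    exact hBZ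

theorem exists_out (h : AbIdx S A p) (hP : F.IsCentric P) (hPA : P ≠ A) : ∃ x ∈ P, x ∉ A := by
  by_contra hcon
  push Not at hcon
  apply hPA
  apply le_antisymm hcon
  intro a ha
  apply IsCentric_self hP
  refine mem_centralizerIn.2 ⟨h.le ha, fun u hu => ?_⟩
  exact h.comm u (hcon u hu) a ha

/-- Essential subgroups other than `A`: common conclusion. -/
theorem D_index (h : AbIdx S A p) (hF : F.IsSaturated p) (hP : F.IsEssential p P) (hPA : P ≠ A) :
    ((Zc S).subgroupOf (Dc S A)).index = p := by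
  obtain ⟨x, hx, hxA⟩ := exists_out h hP.1 hPA
  by_cases hPc : ∀ u ∈ P, ∀ v ∈ P, u * v = v * u
  · exact (abelian_case h hF hP hx hxA hPc).2.2.1
  · push Not at hPc
    exact (nonabelian_case h hF hP hx hxA hPc).2.2.1

end Cfsg.Agent.Lib.FusionAbEss2
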