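import Mathlib
import Cfsg.Agent.Lib.FusionSat
import Cfsg.Agent.Lib.SylowConjLemmas

/-!
# Fully automized subgroups in the `Aut_F(B)`-orbit of a subgroup of a fully automized `B`.

If `B` is fully automized in `F` and the automorphisms in `F` of subgroups in the `Aut_F(B)`-orbit of `P ≤ B` extend to
`B`, then some member of the orbit of `P` is fully automized.
-/

set_option autoImplicit false

namespace Cfsg.Agent.Lib.FusionOrbitAut

open Cfsg Cfsg.FusionSystem Cfsg.Agent.Lib.FusionSatBasic Cfsg.Agent.Lib.FusionSat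
open Cfsg.Agent.Lib.SylowConjLemmas

section Group

variable {B : Type*} [Group B]

/-- The stabilizer in `Γ ≤ Aut(B)` of a subgroup `H ≤ B`. -/
def stabIn (Γ : Subgroup (MulAut B)) (H : Subgroup B) : Subgroup Γ where
  carrier := {γ | ∀ y, (γ : MulAut B) y ∈ H ↔ y ∈ H}
  mul_mem' := by
    intro a b ha hb y
    show (a : MulAut B) ((b : MulAut B) y) ∈ H ↔ y ∈ H
    rw [ha, hb]
  one_mem' := fun y => Iff.rfl
  inv_mem' := by
    intro a ha y
    have h1 := ha ((a : MulAut B)⁻¹ y)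
    have h2 : (a : MulAut B) ((a : MulAut B)⁻¹ y) = y := by simp
    rw [h2] at h1
    exact h1.symm

theorem mem_stabIn {Γ : Subgroup (MulAut B)} {H : Subgroup B} {γ : Γ} :
    γ ∈ stabIn Γ H ↔ ∀ y, (γ : MulAut B) y ∈ H ↔ y ∈ H := Iff.rfl

theorem mem_map_aut {H : Subgroup B} {g : MulAut B} {y : B} :
    y ∈ H.map g.toMonoidHom ↔ g⁻¹ y ∈ H := by
  constructor
  · rintro ⟨x, hx, rfl⟩
    have : g⁻¹ (g.toMonoidHom x) = x := by
      show g⁻¹ (g x) = x
      simp
    rwa [this]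
  · intro h
    refine ⟨_, h, ?_⟩
    show g (g⁻¹ y) = y
    simp

variable {p : ℕ} [Fact p.Prime]

/-- Some member of the orbit of `H` under `Γ` has a Sylow subgroup of its stabilizer inside `A`. -/
theorem exists_orbit_sylow (Γ : Subgroup (MulAut B)) [Finite Γ] (A : Sylow p Γ) (H : Subgroup B) :
    ∃ g : Γ, ∃ R : Sylow p (stabIn Γ (H.map (g : MulAut B).toMonoidHom)),
      ∀ r, r ∈ (R : Subgroup (stabIn Γ (H.map (g : MulAut B).toMonoidHom))) → ((r : stabIn Γ _) : Γ) ∈ (A : Subgroup Γ) := by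
  obtain ⟨D₀⟩ : Nonempty (Sylow p (stabIn Γ H)) := Sylow.nonempty
  have hT : IsPGroup p ((D₀ : Subgroup (stabIn Γ H)).map (stabIn Γ H).subtype) := D₀.isPGroup'.map _
  obtain ⟨g, hg⟩ := exists_conj_mem A _ hT
  have hmem : ∀ d : stabIn Γ H, g * d * g⁻¹ ∈ stabIn Γ (H.map (g : MulAut B).toMonoidHom) := by
    intro d y
    rw [mem_map_aut, mem_map_aut]
    have h1 : ((g : MulAut B))⁻¹ (((g * d * g⁻¹ : Γ) : MulAut B) y) =
        ((d : Γ) : MulAut B) ((g : MulAut B)⁻¹ y) := by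
      show ((g : MulAut B))⁻¹ ((g : MulAut B) (((d : Γ) : MulAut B) ((g : MulAut B)⁻¹ y))) = _
      simp
    rw [h1]
    exact d.2 _
  let κ : stabIn Γ H →* stabIn Γ (H.map (g : MulAut B).toMonoidHom) :=
    { toFun := fun d => ⟨g * d * g⁻¹, hmem d⟩
      map_one' := by
        apply Subtype.ext
        simp
      map_mul' := by
        intro a b
        apply Subtype.ext
        show g * ((a : Γ) * (b : Γ)) * g⁻¹ = (g * a * g⁻¹) * (g * b * g⁻¹)
        group }
  have hκ : Function.Surjective κ := by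
    rintro ⟨d', hd'⟩
    have hm : g⁻¹ * d' * g ∈ stabIn Γ H := by
      intro y
      have h1 := hd' ((g : MulAut B) y)
      rw [mem_map_aut, mem_map_aut] at h1
      have h2 : (g : MulAut B)⁻¹ ((g : MulAut B) y) = y := by simp
      rw [h2] at h1
      rw [← h1]
      rfl
    refine ⟨⟨_, hm⟩, Subtype.ext ?_⟩
    show g * (g⁻¹ * d' * g) * g⁻¹ = d'
    group
  refine ⟨g, D₀.mapSurjective hκ, ?_⟩
  intro r hr
  rw [Sylow.coe_mapSurjective] at hr
  obtain ⟨d, hd, rfl⟩ := hr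
  exact hg _ ⟨d, hd, rfl⟩

end Group

variable {Ω : Type*} [Group Ω] {S : Subgroup Ω} {F : FusionSystem S}

/-- Restricting automorphisms of `B` to an invariant subgroup. -/
def restrictHom {G : Type*} [Group G] {B Q : Subgroup Ω} (hQB : Q ≤ B) (f : G →* MulAut B)
    (h : ∀ (g : G) (y : Q), ((f g ⟨y, hQB y.2⟩ : B) : Ω) ∈ Q) : G →* MulAut Q where
  toFun g :=
    { toFun := fun y => ⟨_, h g y⟩
      invFun := fun y => ⟨_, h g⁻¹ y⟩
      left_inv := by
        intro y
        apply Subtype.ext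
        show ((f g⁻¹ (f g ⟨y, hQB y.2⟩) : B) : Ω) = y
        rw [← MulAut.mul_apply, ← map_mul]
        simp
      right_inv := by
        intro y
        apply Subtype.ext
        show ((f g (f g⁻¹ ⟨y, hQB y.2⟩) : B) : Ω) = y
        rw [← MulAut.mul_apply, ← map_mul]
        simp
      map_mul' := by
        intro a b
        apply Subtype.ext
        show ((f g ⟨(a : Ω) * b, _⟩ : B) : Ω) = ((f g ⟨a, hQB a.2⟩ : B) : Ω) * ((f g ⟨b, hQB b.2⟩ : B) : Ω)
        have e : (⟨(a : Ω) * b, hQB (a * b).2⟩ : B) = ⟨a, hQB a.2⟩ * ⟨b, hQB b.2⟩ := rfl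
        rw [e, map_mul]
        rfl }
  map_one' := by
    ext y
    show ((f 1 ⟨y, hQB y.2⟩ : B) : Ω) = y
    simp
  map_mul' := by
    intro a b
    ext y
    show ((f (a * b) ⟨y, hQB y.2⟩ : B) : Ω) = ((f a ⟨((f b ⟨y, hQB y.2⟩ : B) : Ω), hQB (h b y)⟩ : B) : Ω)
    rw [map_mul, MulAut.mul_apply]

theorem restrictHom_apply {G : Type*} [Group G] {B Q : Subgroup Ω} (hQB : Q ≤ B) (f : G →* MulAut B)
    (h : ∀ (g : G) (y : Q), ((f g ⟨y, hQB y.2⟩ : B) : Ω) ∈ Q) (g : G) (y : Q) :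
    ((restrictHom hQB f h g y : Q) : Ω) = ((f g ⟨y, hQB y.2⟩ : B) : Ω) := rfl

/-- The image of `P ≤ B` under an automorphism of `B`, as a subgroup of the ambient group. -/
def imageAut (B : Subgroup Ω) (g : MulAut B) (P : Subgroup Ω) : Subgroup Ω :=
  ((P.subgroupOf B).map g.toMonoidHom).map B.subtype

theorem imageAut_le (B : Subgroup Ω) (g : MulAut B) (P : Subgroup Ω) : imageAut B g P ≤ B := by
  rintro _ ⟨y, -, rfl⟩
  exact y.2

theorem mem_imageAut {B : Subgroup Ω} {g : MulAut B} {P : Subgroup Ω} (y : B) :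
    (y : Ω) ∈ imageAut B g P ↔ y ∈ (P.subgroupOf B).map g.toMonoidHom := by
  constructor
  · rintro ⟨z, hz, hzy⟩
    have : z = y := Subtype.ext hzy
    rwa [← this]
  · intro h
    exact ⟨y, h, rfl⟩

theorem apply_mem_imageAut {B : Subgroup Ω} {g : MulAut B} {P : Subgroup Ω} (x : B) (hx : (x : Ω) ∈ P) :
    ((g x : B) : Ω) ∈ imageAut B g P :=
  ⟨g x, ⟨x, Subgroup.mem_subgroupOf.mpr hx, rfl⟩, rfl⟩

/-- The image is conjugate to the subgroup, when `g` is a map of the system. -/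
theorem isConj_imageAut {B : Subgroup Ω} {g : MulAut B} (hg : g ∈ F.autGroup B) (hBS : B ≤ S)
    {P : Subgroup Ω} (hPB : P ≤ B) : F.IsConj P (imageAut B g P) := by
  have h1 : B.subtype.comp g.toMonoidHom ∈ F.Hom B := (mem_autGroup F hBS g).mp hg
  refine ⟨_, restrict_mem F hPB h1, ?_⟩
  apply le_antisymm
  · rintro _ ⟨x, rfl⟩
    exact apply_mem_imageAut (Subgroup.inclusion hPB x) x.2
  · rintro _ ⟨y, ⟨x, hx, rfl⟩, rfl⟩
    exact ⟨⟨x, Subgroup.mem_subgroupOf.mp hx⟩, rfl⟩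

variable {p : ℕ} [Fact p.Prime]

/-- **Orbit lemma**. -/
theorem exists_fullyAutomized_imageAut [Finite S] (hS : IsPGroup p S) {B : Subgroup Ω}
    (hB : F.IsFullyAutomized p B) (P : Subgroup Ω)
    (hext : ∀ g ∈ F.autGroup B, ∀ β ∈ F.autGroup (imageAut B g P), ∃ δ ∈ F.autGroup B,
      ∀ (y : B) (hy : (y : Ω) ∈ imageAut B g P), ((δ y : B) : Ω) = β ⟨y, hy⟩) :
    ∃ g ∈ F.autGroup B, F.IsFullyAutomized p (imageAut B g P) := by
  obtain ⟨hBS, A, hA⟩ := hB
  have : Finite B := finite_of_le hBS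
  have : Finite (MulAut B) := finite_mulAut
  obtain ⟨g, R, hR⟩ := exists_orbit_sylow (F.autGroup B) A (P.subgroupOf B)
  refine ⟨g, g.2, ?_⟩
  have hmemQ₀ : ∀ y : B, (y : Ω) ∈ imageAut B (g : MulAut B) P ↔
      y ∈ (P.subgroupOf B).map (g : MulAut B).toMonoidHom := fun y => mem_imageAut y
  have hQB : imageAut B (g : MulAut B) P ≤ B := imageAut_le _ _ _
  have hext' := hext g g.2
  generalize imageAut B (g : MulAut B) P = Q at hmemQ₀ hQB hext' ⊢
  generalize (P.subgroupOf B).map (g : MulAut B).toMonoidHom = H' at R hR hmemQ₀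
  have hQS : Q ≤ S := hQB.trans hBS
  refine ⟨hQS, ?_⟩
  have hmemQ : ∀ y : B, (y : Ω) ∈ Q ↔ y ∈ H' := hmemQ₀
  -- restriction
  have hval : ∀ (d : stabIn (F.autGroup B) H') (y : Q),
      ((((d : F.autGroup B) : MulAut B) ⟨y, hQB y.2⟩ : B) : Ω) ∈ Q := by
    intro d y
    rw [hmemQ]
    exact (d.2 _).mpr ((hmemQ ⟨y, hQB y.2⟩).mp y.2)
  let f : stabIn (F.autGroup B) H' →* MulAut B := (F.autGroup B).subtype.comp (stabIn (F.autGroup B) H').subtype
  let ρ : stabIn (F.autGroup B) H' →* MulAut Q := restrictHom hQB f hval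
  have hρmem : ∀ d, ρ d ∈ F.autGroup Q := by
    intro d
    rw [mem_autGroup F hQS]
    have h1 : B.subtype.comp ((d : F.autGroup B) : MulAut B).toMonoidHom ∈ F.Hom B :=
      (mem_autGroup F hBS _).mp (d : F.autGroup B).2
    exact hom_congr F (restrict_mem F hQB h1) (fun y => rfl)
  let ρ' : stabIn (F.autGroup B) H' →* F.autGroup Q := ρ.codRestrict _ hρmem
  have hρ' : Function.Surjective ρ' := by
    rintro ⟨β, hβ⟩
    obtain ⟨δ, hδ, hδe⟩ := hext' β hβ
    have hδst : (⟨δ, hδ⟩ : F.autGroup B) ∈ stabIn (F.autGroup B) H' := by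
      have hfw : ∀ y : B, y ∈ H' → δ y ∈ H' := by
        intro y hy
        have hyQ : (y : Ω) ∈ Q := (hmemQ y).mpr hy
        rw [← hmemQ, hδe y hyQ]
        exact (β _).2
      have hQfin : Finite H' := Finite.of_injective (fun x : H' => (x : B)) Subtype.val_injective
      intro y
      refine ⟨fun hy => ?_, fun hy => hfw y hy⟩
      let k : H' → H' := fun x => ⟨δ x, hfw x x.2⟩
      have hk : Function.Injective k := fun a b hab =>
        Subtype.ext (δ.injective (congrArg Subtype.val hab))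
      obtain ⟨a, ha⟩ := Finite.surjective_of_injective hk ⟨_, hy⟩
      have : δ a = δ y := congrArg Subtype.val ha
      rw [← δ.injective this]
      exact a.2
    refine ⟨⟨⟨δ, hδ⟩, hδst⟩, Subtype.ext ?_⟩
    ext y
    exact hδe ⟨y, hQB y.2⟩ y.2
  have hfinD : Finite (stabIn (F.autGroup B) H') := inferInstance
  refine ⟨R.mapSurjective hρ', ?_⟩
  have hle : (R.mapSurjective hρ' : Subgroup (F.autGroup Q)) ≤ (autInducedBy S Q).subgroupOf (F.autGroup Q) := by
    rw [Sylow.coe_mapSurjective]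
    rintro _ ⟨r, hr, rfl⟩
    have h1 := hR r hr
    rw [hA] at h1
    obtain ⟨g₀, hg₀, hg₀e⟩ := (mem_autInducedBy S B _).mp (Subgroup.mem_subgroupOf.mp h1)
    refine Subgroup.mem_subgroupOf.mpr ((mem_autInducedBy S Q _).mpr ⟨g₀, hg₀, fun y => ?_⟩)
    exact hg₀e ⟨y, hQB y.2⟩
  have hp : IsPGroup p ((autInducedBy S Q).subgroupOf (F.autGroup Q)) :=
    (isPGroup_autInducedBy hS Q).comap_of_injective _ (Subgroup.subtype_injective _)
  exact ((R.mapSurjective hρ').is_maximal' hp hle).symm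

end Cfsg.Agent.Lib.FusionOrbitAut
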