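import Mathlib
import Cfsg.Agent.Lib.FusionOrbitAut
import Cfsg.Agent.Lib.FusionQuotSat

/-!
# The direct product of two saturated fusion systems is saturated.
-/

set_option autoImplicit false

namespace Cfsg.Agent.Lib.FusionProdSat

open Cfsg Cfsg.FusionSystem Cfsg.Agent.Lib.FusionSatBasic Cfsg.Agent.Lib.FusionSat
open Cfsg.Agent.Lib.FusionOrbitAut Cfsg.Agent.Lib.FusionQuotSat

variable {Ω₁ Ω₂ : Type*} [Group Ω₁] [Group Ω₂] {S₁ : Subgroup Ω₁} {S₂ : Subgroup Ω₂}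
  {F₁ : FusionSystem S₁} {F₂ : FusionSystem S₂} {E : FusionSystem (S₁.prod S₂)}

/-- The projections of a subgroup `P`. -/
abbrev fstS (P : Subgroup (Ω₁ × Ω₂)) : Subgroup Ω₁ := P.map (MonoidHom.fst Ω₁ Ω₂)
/-- The projections of a subgroup `P`. -/
abbrev sndS (P : Subgroup (Ω₁ × Ω₂)) : Subgroup Ω₂ := P.map (MonoidHom.snd Ω₁ Ω₂)

theorem fst_mem {P : Subgroup (Ω₁ × Ω₂)} (x : P) : (x : Ω₁ × Ω₂).1 ∈ fstS P := ⟨x, x.2, rfl⟩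
theorem snd_mem {P : Subgroup (Ω₁ × Ω₂)} (x : P) : (x : Ω₁ × Ω₂).2 ∈ sndS P := ⟨x, x.2, rfl⟩

/-- The homomorphism `x ↦ (φ₁ x.1, φ₂ x.2)` on a subgroup `P`, with `P`'s projections inside the sources. -/
def prodMapHom {Q₁ : Subgroup Ω₁} {Q₂ : Subgroup Ω₂} (φ₁ : Q₁ →* Ω₁) (φ₂ : Q₂ →* Ω₂) (P : Subgroup (Ω₁ × Ω₂))
    (h₁ : ∀ x : P, (x : Ω₁ × Ω₂).1 ∈ Q₁) (h₂ : ∀ x : P, (x : Ω₁ × Ω₂).2 ∈ Q₂) : P →* Ω₁ × Ω₂ :=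
  MonoidHom.prod
    (φ₁.comp (((MonoidHom.fst Ω₁ Ω₂).comp P.subtype).codRestrict Q₁ h₁))
    (φ₂.comp (((MonoidHom.snd Ω₁ Ω₂).comp P.subtype).codRestrict Q₂ h₂))

theorem prodMapHom_apply {Q₁ : Subgroup Ω₁} {Q₂ : Subgroup Ω₂} (φ₁ : Q₁ →* Ω₁) (φ₂ : Q₂ →* Ω₂)
    (P : Subgroup (Ω₁ × Ω₂)) (h₁ : ∀ x : P, (x : Ω₁ × Ω₂).1 ∈ Q₁) (h₂ : ∀ x : P, (x : Ω₁ × Ω₂).2 ∈ Q₂) (x : P) :
    prodMapHom φ₁ φ₂ P h₁ h₂ x = (φ₁ ⟨_, h₁ x⟩, φ₂ ⟨_, h₂ x⟩) := rfl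

/-- Maps of the product with a source having given projections: forward direction. -/
theorem hom_spec (hE : IsProductSystem F₁ F₂ E) {P : Subgroup (Ω₁ × Ω₂)} {Q₁ : Subgroup Ω₁} {Q₂ : Subgroup Ω₂}
    (h₁ : fstS P = Q₁) (h₂ : sndS P = Q₂) {φ : P →* Ω₁ × Ω₂} (hφ : φ ∈ E.Hom P) :
    ∃ φ₁ ∈ F₁.Hom Q₁, ∃ φ₂ ∈ F₂.Hom Q₂, ∀ (x : P) (a : (x : Ω₁ × Ω₂).1 ∈ Q₁) (b : (x : Ω₁ × Ω₂).2 ∈ Q₂),
      φ x = (φ₁ ⟨_, a⟩, φ₂ ⟨_, b⟩) := by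
  subst h₁ h₂
  obtain ⟨-, φ₁, hφ₁, φ₂, hφ₂, h⟩ := (hE P φ).mp hφ
  exact ⟨φ₁, hφ₁, φ₂, hφ₂, h⟩

/-- Maps of the product with a source having given projections: backward direction. -/
theorem hom_mem (hE : IsProductSystem F₁ F₂ E) {P : Subgroup (Ω₁ × Ω₂)} {Q₁ : Subgroup Ω₁} {Q₂ : Subgroup Ω₂}
    (hP : P ≤ S₁.prod S₂) (h₁ : fstS P = Q₁) (h₂ : sndS P = Q₂) {φ : P →* Ω₁ × Ω₂}
    {φ₁ : Q₁ →* Ω₁} {φ₂ : Q₂ →* Ω₂} (hφ₁ : φ₁ ∈ F₁.Hom Q₁) (hφ₂ : φ₂ ∈ F₂.Hom Q₂)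
    (h : ∀ (x : P) (a : (x : Ω₁ × Ω₂).1 ∈ Q₁) (b : (x : Ω₁ × Ω₂).2 ∈ Q₂), φ x = (φ₁ ⟨_, a⟩, φ₂ ⟨_, b⟩)) :
    φ ∈ E.Hom P := by
  subst h₁ h₂
  exact (hE P φ).mpr ⟨hP, φ₁, hφ₁, φ₂, hφ₂, h⟩

/-- Maps of the product with a source whose projections lie in subgroups. -/
theorem hom_mem_of_le (hE : IsProductSystem F₁ F₂ E) {P : Subgroup (Ω₁ × Ω₂)} {Q₁ : Subgroup Ω₁} {Q₂ : Subgroup Ω₂}
    (hP : P ≤ S₁.prod S₂) {φ₁ : Q₁ →* Ω₁} {φ₂ : Q₂ →* Ω₂} (hφ₁ : φ₁ ∈ F₁.Hom Q₁) (hφ₂ : φ₂ ∈ F₂.Hom Q₂)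
    (h₁ : ∀ x : P, (x : Ω₁ × Ω₂).1 ∈ Q₁) (h₂ : ∀ x : P, (x : Ω₁ × Ω₂).2 ∈ Q₂) :
    prodMapHom φ₁ φ₂ P h₁ h₂ ∈ E.Hom P := by
  have hle₁ : fstS P ≤ Q₁ := by
    rintro _ ⟨x, hx, rfl⟩
    exact h₁ ⟨x, hx⟩
  have hle₂ : sndS P ≤ Q₂ := by
    rintro _ ⟨x, hx, rfl⟩
    exact h₂ ⟨x, hx⟩
  exact hom_mem hE hP rfl rfl (restrict_mem F₁ hle₁ hφ₁) (restrict_mem F₂ hle₂ hφ₂) (fun x a b => rfl)

/-- The range of a map of the product has projections the ranges of its components. -/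
theorem fst_range_of_spec {P : Subgroup (Ω₁ × Ω₂)} {Q₁ : Subgroup Ω₁} {φ : P →* Ω₁ × Ω₂} {φ₁ : Q₁ →* Ω₁}
    (h₁ : fstS P = Q₁) (h : ∀ (x : P) (a : (x : Ω₁ × Ω₂).1 ∈ Q₁), (φ x).1 = φ₁ ⟨_, a⟩) :
    fstS φ.range = φ₁.range := by
  subst h₁
  ext y
  constructor
  · rintro ⟨_, ⟨x, rfl⟩, rfl⟩
    exact ⟨_, (h x (fst_mem x)).symm⟩
  · rintro ⟨⟨_, x, hx, rfl⟩, rfl⟩
    exact ⟨φ ⟨x, hx⟩, ⟨_, rfl⟩, h ⟨x, hx⟩ _⟩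

theorem snd_range_of_spec {P : Subgroup (Ω₁ × Ω₂)} {Q₂ : Subgroup Ω₂} {φ : P →* Ω₁ × Ω₂} {φ₂ : Q₂ →* Ω₂}
    (h₂ : sndS P = Q₂) (h : ∀ (x : P) (a : (x : Ω₁ × Ω₂).2 ∈ Q₂), (φ x).2 = φ₂ ⟨_, a⟩) :
    sndS φ.range = φ₂.range := by
  subst h₂
  ext y
  constructor
  · rintro ⟨_, ⟨x, rfl⟩, rfl⟩
    exact ⟨_, (h x (snd_mem x)).symm⟩
  · rintro ⟨⟨_, x, hx, rfl⟩, rfl⟩
    exact ⟨φ ⟨x, hx⟩, ⟨_, rfl⟩, h ⟨x, hx⟩ _⟩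

section Box

variable {Q₁ : Subgroup Ω₁} {Q₂ : Subgroup Ω₂}

theorem fstS_prod (Q₁ : Subgroup Ω₁) (Q₂ : Subgroup Ω₂) : fstS (Q₁.prod Q₂) = Q₁ := by
  ext y
  constructor
  · rintro ⟨x, hx, rfl⟩
    exact hx.1
  · intro hy
    exact ⟨(y, 1), ⟨hy, Q₂.one_mem⟩, rfl⟩

theorem sndS_prod (Q₁ : Subgroup Ω₁) (Q₂ : Subgroup Ω₂) : sndS (Q₁.prod Q₂) = Q₂ := by
  ext y
  constructor
  · rintro ⟨x, hx, rfl⟩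
    exact hx.2
  · intro hy
    exact ⟨(1, y), ⟨Q₁.one_mem, hy⟩, rfl⟩

/-- The automorphism of `Q₁ × Q₂` given by a pair of automorphisms. -/
def boxAut (Q₁ : Subgroup Ω₁) (Q₂ : Subgroup Ω₂) : MulAut Q₁ × MulAut Q₂ →* MulAut (Q₁.prod Q₂) where
  toFun g :=
    { toFun := fun y => ⟨((g.1 ⟨_, y.2.1⟩ : Q₁), (g.2 ⟨_, y.2.2⟩ : Q₂)), ⟨(g.1 ⟨_, y.2.1⟩).2, (g.2 ⟨_, y.2.2⟩).2⟩⟩
      invFun := fun y => ⟨((g.1⁻¹ ⟨_, y.2.1⟩ : Q₁), (g.2⁻¹ ⟨_, y.2.2⟩ : Q₂)), ⟨(g.1⁻¹ ⟨_, y.2.1⟩).2, (g.2⁻¹ ⟨_, y.2.2⟩).2⟩⟩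
      left_inv := by
        intro y
        apply Subtype.ext
        apply Prod.ext
        · show ((g.1⁻¹ (g.1 ⟨_, y.2.1⟩) : Q₁) : Ω₁) = _
          simp
        · show ((g.2⁻¹ (g.2 ⟨_, y.2.2⟩) : Q₂) : Ω₂) = _
          simp
      right_inv := by
        intro y
        apply Subtype.ext
        apply Prod.ext
        · show ((g.1 (g.1⁻¹ ⟨_, y.2.1⟩) : Q₁) : Ω₁) = _
          simp
        · show ((g.2 (g.2⁻¹ ⟨_, y.2.2⟩) : Q₂) : Ω₂) = _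
          simp
      map_mul' := by
        intro a b
        apply Subtype.ext
        apply Prod.ext
        · show ((g.1 (⟨_, a.2.1⟩ * ⟨_, b.2.1⟩) : Q₁) : Ω₁) = _
          rw [map_mul]
          rfl
        · show ((g.2 (⟨_, a.2.2⟩ * ⟨_, b.2.2⟩) : Q₂) : Ω₂) = _
          rw [map_mul]
          rfl }
  map_one' := by
    ext y <;> rfl
  map_mul' := by
    intro a b
    ext y <;> rfl

theorem boxAut_apply (g : MulAut Q₁ × MulAut Q₂) (y : Q₁.prod Q₂) :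
    ((boxAut Q₁ Q₂ g y : Q₁.prod Q₂) : Ω₁ × Ω₂) =
      (((g.1 ⟨_, y.2.1⟩ : Q₁) : Ω₁), ((g.2 ⟨_, y.2.2⟩ : Q₂) : Ω₂)) := rfl

/-- From a pair of maps to an automorphism in `F`: a map with values in `Q` on a finite `Q` is an automorphism. -/
theorem exists_aut_of_maps_into {Ω : Type*} [Group Ω] {S : Subgroup Ω} [Finite S] {F : FusionSystem S}
    {Q : Subgroup Ω} {φ : Q →* Ω} (hφ : φ ∈ F.Hom Q) (h : ∀ x, φ x ∈ Q) :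
    ∃ e ∈ F.autGroup Q, ∀ x : Q, ((e x : Q) : Ω) = φ x := by
  have hQS : Q ≤ S := le_of_hom F hφ
  have : Finite Q := finite_of_le hQS
  have hr := range_eq_of_maps_into (F.injective_of_mem hφ) h
  obtain ⟨e, he, hee⟩ := exists_iso_of_mem hφ hr
  exact ⟨e, (mem_autGroup_iff_isFIso hQS e).mpr he, hee⟩

/-- The pair-to-automorphism homomorphism on `Aut_{F₁}(Q₁) × Aut_{F₂}(Q₂)`. -/
def boxHom (F₁ : FusionSystem S₁) (F₂ : FusionSystem S₂) (Q₁ : Subgroup Ω₁) (Q₂ : Subgroup Ω₂) :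
    F₁.autGroup Q₁ × F₂.autGroup Q₂ →* MulAut (Q₁.prod Q₂) :=
  (boxAut Q₁ Q₂).comp (MonoidHom.prodMap (F₁.autGroup Q₁).subtype (F₂.autGroup Q₂).subtype)

theorem boxHom_apply (g : F₁.autGroup Q₁ × F₂.autGroup Q₂) (y : Q₁.prod Q₂) :
    ((boxHom F₁ F₂ Q₁ Q₂ g y : Q₁.prod Q₂) : Ω₁ × Ω₂) =
      ((((g.1 : MulAut Q₁) ⟨_, y.2.1⟩ : Q₁) : Ω₁), (((g.2 : MulAut Q₂) ⟨_, y.2.2⟩ : Q₂) : Ω₂)) := rfl

theorem prod_le_prod (hQ₁ : Q₁ ≤ S₁) (hQ₂ : Q₂ ≤ S₂) : Q₁.prod Q₂ ≤ S₁.prod S₂ :=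
  fun _ hx => ⟨hQ₁ hx.1, hQ₂ hx.2⟩

theorem boxHom_mem (hE : IsProductSystem F₁ F₂ E) (hQ₁ : Q₁ ≤ S₁) (hQ₂ : Q₂ ≤ S₂)
    (g : F₁.autGroup Q₁ × F₂.autGroup Q₂) : boxHom F₁ F₂ Q₁ Q₂ g ∈ E.autGroup (Q₁.prod Q₂) := by
  have hB := prod_le_prod hQ₁ hQ₂
  rw [mem_autGroup E hB]
  exact hom_mem hE hB (fstS_prod Q₁ Q₂) (sndS_prod Q₁ Q₂)
    ((mem_autGroup F₁ hQ₁ _).mp g.1.2) ((mem_autGroup F₂ hQ₂ _).mp g.2.2) (fun x a b => rfl)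

theorem boxHom_surj [Finite S₁] [Finite S₂] (hE : IsProductSystem F₁ F₂ E) (hQ₁ : Q₁ ≤ S₁) (hQ₂ : Q₂ ≤ S₂)
    (β : MulAut (Q₁.prod Q₂)) (hβ : β ∈ E.autGroup (Q₁.prod Q₂)) :
    ∃ g, boxHom F₁ F₂ Q₁ Q₂ g = β := by
  have hB := prod_le_prod hQ₁ hQ₂
  have h1 := (mem_autGroup E hB β).mp hβ
  obtain ⟨φ₁, hφ₁, φ₂, hφ₂, h⟩ := hom_spec hE (fstS_prod Q₁ Q₂) (sndS_prod Q₁ Q₂) h1
  have hv₁ : ∀ x, φ₁ x ∈ Q₁ := by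
    intro x
    have hy : ((x : Ω₁), (1 : Ω₂)) ∈ Q₁.prod Q₂ := ⟨x.2, Q₂.one_mem⟩
    have h2 := h ⟨_, hy⟩ x.2 Q₂.one_mem
    have h3 : φ₁ x = ((β ⟨_, hy⟩ : Q₁.prod Q₂) : Ω₁ × Ω₂).1 := (congrArg Prod.fst h2).symm
    rw [h3]
    exact (β ⟨_, hy⟩).2.1
  have hv₂ : ∀ x, φ₂ x ∈ Q₂ := by
    intro x
    have hy : ((1 : Ω₁), (x : Ω₂)) ∈ Q₁.prod Q₂ := ⟨Q₁.one_mem, x.2⟩
    have h2 := h ⟨_, hy⟩ Q₁.one_mem x.2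
    have h3 : φ₂ x = ((β ⟨_, hy⟩ : Q₁.prod Q₂) : Ω₁ × Ω₂).2 := (congrArg Prod.snd h2).symm
    rw [h3]
    exact (β ⟨_, hy⟩).2.2
  obtain ⟨e₁, he₁, he₁'⟩ := exists_aut_of_maps_into hφ₁ hv₁
  obtain ⟨e₂, he₂, he₂'⟩ := exists_aut_of_maps_into hφ₂ hv₂
  refine ⟨(⟨e₁, he₁⟩, ⟨e₂, he₂⟩), ?_⟩
  ext y
  · show ((e₁ ⟨_, y.2.1⟩ : Q₁) : Ω₁) = _
    rw [he₁']
    exact (congrArg Prod.fst (h y y.2.1 y.2.2)).symm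
  · show ((e₂ ⟨_, y.2.2⟩ : Q₂) : Ω₂) = _
    rw [he₂']
    exact (congrArg Prod.snd (h y y.2.1 y.2.2)).symm

variable {p : ℕ} [Fact p.Prime]

/-- A product of fully automized subgroups is fully automized. -/
theorem isFullyAutomized_box [Finite S₁] [Finite S₂] (h₁ : IsPGroup p S₁) (h₂ : IsPGroup p S₂)
    (hE : IsProductSystem F₁ F₂ E) (hFA₁ : F₁.IsFullyAutomized p Q₁) (hFA₂ : F₂.IsFullyAutomized p Q₂) :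
    E.IsFullyAutomized p (Q₁.prod Q₂) := by
  obtain ⟨hQ₁, A₁, hA₁⟩ := hFA₁
  obtain ⟨hQ₂, A₂, hA₂⟩ := hFA₂
  have hB := prod_le_prod hQ₁ hQ₂
  refine ⟨hB, ?_⟩
  have : Finite Q₁ := finite_of_le hQ₁
  have : Finite Q₂ := finite_of_le hQ₂
  have : Finite (MulAut Q₁) := finite_mulAut
  have : Finite (MulAut Q₂) := finite_mulAut
  have hp : IsPGroup p ((A₁ : Subgroup (F₁.autGroup Q₁)).prod (A₂ : Subgroup (F₂.autGroup Q₂))) := by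
    rintro ⟨⟨a, b⟩, ha, hb⟩
    obtain ⟨i, hi⟩ := A₁.isPGroup' ⟨a, ha⟩
    obtain ⟨j, hj⟩ := A₂.isPGroup' ⟨b, hb⟩
    refine ⟨i + j, Subtype.ext (Prod.ext ?_ ?_)⟩
    · have hi' : a ^ p ^ i = 1 := congrArg Subtype.val hi
      show a ^ p ^ (i + j) = 1
      rw [pow_add, pow_mul, hi', one_pow]
    · have hj' : b ^ p ^ j = 1 := congrArg Subtype.val hj
      show b ^ p ^ (i + j) = 1
      rw [pow_add, mul_comm, pow_mul, hj', one_pow]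
  have hidx : ¬ p ∣ ((A₁ : Subgroup (F₁.autGroup Q₁)).prod (A₂ : Subgroup (F₂.autGroup Q₂))).index := by
    rw [Subgroup.index_prod]
    intro h
    rcases (Fact.out : p.Prime).dvd_mul.mp h with h | h
    · exact A₁.not_dvd_index h
    · exact A₂.not_dvd_index h
  let T : Sylow p (F₁.autGroup Q₁ × F₂.autGroup Q₂) := hp.toSylow hidx
  let Θ : F₁.autGroup Q₁ × F₂.autGroup Q₂ →* E.autGroup (Q₁.prod Q₂) :=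
    (boxHom F₁ F₂ Q₁ Q₂).codRestrict _ (boxHom_mem hE hQ₁ hQ₂)
  have hΘ : Function.Surjective Θ := by
    rintro ⟨β, hβ⟩
    obtain ⟨g, hg⟩ := boxHom_surj hE hQ₁ hQ₂ β hβ
    exact ⟨g, Subtype.ext hg⟩
  refine ⟨T.mapSurjective hΘ, ?_⟩
  have hle : ((T.mapSurjective hΘ : Sylow p _) : Subgroup (E.autGroup (Q₁.prod Q₂))) ≤
      (autInducedBy (S₁.prod S₂) (Q₁.prod Q₂)).subgroupOf (E.autGroup (Q₁.prod Q₂)) := by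
    rw [Sylow.coe_mapSurjective]
    rintro _ ⟨g, ⟨hg₁, hg₂⟩, rfl⟩
    have hg₁' : g.1 ∈ (A₁ : Subgroup (F₁.autGroup Q₁)) := hg₁
    have hg₂' : g.2 ∈ (A₂ : Subgroup (F₂.autGroup Q₂)) := hg₂
    rw [hA₁] at hg₁'
    rw [hA₂] at hg₂'
    obtain ⟨a, ha, hae⟩ := (mem_autInducedBy S₁ Q₁ _).mp (Subgroup.mem_subgroupOf.mp hg₁')
    obtain ⟨b, hb, hbe⟩ := (mem_autInducedBy S₂ Q₂ _).mp (Subgroup.mem_subgroupOf.mp hg₂')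
    refine Subgroup.mem_subgroupOf.mpr ((mem_autInducedBy _ _ _).mpr ⟨(a, b), ⟨ha, hb⟩, fun y => ?_⟩)
    apply Prod.ext
    · exact hae ⟨_, y.2.1⟩
    · exact hbe ⟨_, y.2.2⟩
  have hp2 : IsPGroup p ((autInducedBy (S₁.prod S₂) (Q₁.prod Q₂)).subgroupOf (E.autGroup (Q₁.prod Q₂))) := by
    have hpS : IsPGroup p (S₁.prod S₂) := by
      rintro ⟨⟨a, b⟩, ha, hb⟩
      obtain ⟨i, hi⟩ := h₁ ⟨a, ha⟩
      obtain ⟨j, hj⟩ := h₂ ⟨b, hb⟩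
      refine ⟨i + j, Subtype.ext (Prod.ext ?_ ?_)⟩
      · have hi' : a ^ p ^ i = 1 := congrArg Subtype.val hi
        show a ^ p ^ (i + j) = 1
        rw [pow_add, pow_mul, hi', one_pow]
      · have hj' : b ^ p ^ j = 1 := congrArg Subtype.val hj
        show b ^ p ^ (i + j) = 1
        rw [pow_add, mul_comm, pow_mul, hj', one_pow]
    exact (isPGroup_autInducedBy hpS _).comap_of_injective _ (Subgroup.subtype_injective _)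
  exact ((T.mapSurjective hΘ).is_maximal' hp2 hle).symm

/-- Automorphisms of subdirect subgroups of `Q₁ × Q₂` extend to `Q₁ × Q₂`. -/
theorem exists_ext_box [Finite S₁] [Finite S₂] (hE : IsProductSystem F₁ F₂ E) (hQ₁ : Q₁ ≤ S₁) (hQ₂ : Q₂ ≤ S₂)
    {Q : Subgroup (Ω₁ × Ω₂)} (hf : fstS Q = Q₁) (hs : sndS Q = Q₂) (β : MulAut Q) (hβ : β ∈ E.autGroup Q) :
    ∃ δ ∈ E.autGroup (Q₁.prod Q₂), ∀ (y : Q₁.prod Q₂) (hy : (y : Ω₁ × Ω₂) ∈ Q),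
      ((δ y : Q₁.prod Q₂) : Ω₁ × Ω₂) = β ⟨y, hy⟩ := by
  have hQS : Q ≤ S₁.prod S₂ := by
    intro x hx
    refine ⟨hQ₁ ?_, hQ₂ ?_⟩
    · rw [← hf]; exact ⟨x, hx, rfl⟩
    · rw [← hs]; exact ⟨x, hx, rfl⟩
  have h1 := (mem_autGroup E hQS β).mp hβ
  obtain ⟨φ₁, hφ₁, φ₂, hφ₂, h⟩ := hom_spec hE hf hs h1
  have hm₁ : ∀ x : Q, (x : Ω₁ × Ω₂).1 ∈ Q₁ := fun x => hf ▸ fst_mem x
  have hm₂ : ∀ x : Q, (x : Ω₁ × Ω₂).2 ∈ Q₂ := fun x => hs ▸ snd_mem x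
  have hv₁ : ∀ x, φ₁ x ∈ Q₁ := by
    rintro ⟨x, hx⟩
    rw [← hf] at hx
    obtain ⟨y, hy, rfl⟩ := hx
    have h2 := h ⟨y, hy⟩ (hm₁ ⟨y, hy⟩) (hm₂ ⟨y, hy⟩)
    have h3 := congrArg Prod.fst h2
    exact (show φ₁ _ = _ from h3.symm) ▸ hm₁ (β ⟨y, hy⟩)
  have hv₂ : ∀ x, φ₂ x ∈ Q₂ := by
    rintro ⟨x, hx⟩
    rw [← hs] at hx
    obtain ⟨y, hy, rfl⟩ := hx
    have h2 := h ⟨y, hy⟩ (hm₁ ⟨y, hy⟩) (hm₂ ⟨y, hy⟩)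
    have h3 := congrArg Prod.snd h2
    exact (show φ₂ _ = _ from h3.symm) ▸ hm₂ (β ⟨y, hy⟩)
  obtain ⟨e₁, he₁, he₁'⟩ := exists_aut_of_maps_into hφ₁ hv₁
  obtain ⟨e₂, he₂, he₂'⟩ := exists_aut_of_maps_into hφ₂ hv₂
  refine ⟨boxHom F₁ F₂ Q₁ Q₂ (⟨e₁, he₁⟩, ⟨e₂, he₂⟩), boxHom_mem hE hQ₁ hQ₂ _, fun y hy => ?_⟩
  rw [boxHom_apply]
  apply Prod.ext
  · show ((e₁ ⟨_, y.2.1⟩ : Q₁) : Ω₁) = _
    rw [he₁']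
    exact (congrArg Prod.fst (h ⟨y, hy⟩ y.2.1 y.2.2)).symm
  · show ((e₂ ⟨_, y.2.2⟩ : Q₂) : Ω₂) = _
    rw [he₂']
    exact (congrArg Prod.snd (h ⟨y, hy⟩ y.2.1 y.2.2)).symm

/-- The image of a subdirect subgroup of `Q₁ × Q₂` under an automorphism in `E` is subdirect. -/
theorem fstS_imageAut [Finite S₁] [Finite S₂] (hE : IsProductSystem F₁ F₂ E) (hQ₁ : Q₁ ≤ S₁) (hQ₂ : Q₂ ≤ S₂)
    {P : Subgroup (Ω₁ × Ω₂)} (hPB : P ≤ Q₁.prod Q₂) (hf : fstS P = Q₁) (hs : sndS P = Q₂)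
    (g : MulAut (Q₁.prod Q₂)) (hg : g ∈ E.autGroup (Q₁.prod Q₂)) :
    fstS (imageAut (Q₁.prod Q₂) g P) = Q₁ ∧ sndS (imageAut (Q₁.prod Q₂) g P) = Q₂ := by
  obtain ⟨⟨e₁, e₂⟩, rfl⟩ := boxHom_surj hE hQ₁ hQ₂ g hg
  constructor
  · ext y
    constructor
    · rintro ⟨_, ⟨z, -, rfl⟩, rfl⟩
      exact z.2.1
    · intro hy
      have hu : (((e₁ : MulAut Q₁)⁻¹ ⟨y, hy⟩ : Q₁) : Ω₁) ∈ fstS P := by
        rw [hf]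
        exact ((e₁ : MulAut Q₁)⁻¹ ⟨y, hy⟩).2
      obtain ⟨x, hx, hxu⟩ := hu
      refine ⟨_, apply_mem_imageAut ⟨x, hPB hx⟩ hx, ?_⟩
      show ((((e₁ : MulAut Q₁)) ⟨x.1, (hPB hx).1⟩ : Q₁) : Ω₁) = y
      have e : (⟨x.1, (hPB hx).1⟩ : Q₁) = (e₁ : MulAut Q₁)⁻¹ ⟨y, hy⟩ := Subtype.ext hxu
      rw [e]
      simp
  · ext y
    constructor
    · rintro ⟨_, ⟨z, -, rfl⟩, rfl⟩
      exact z.2.2
    · intro hy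
      have hu : (((e₂ : MulAut Q₂)⁻¹ ⟨y, hy⟩ : Q₂) : Ω₂) ∈ sndS P := by
        rw [hs]
        exact ((e₂ : MulAut Q₂)⁻¹ ⟨y, hy⟩).2
      obtain ⟨x, hx, hxu⟩ := hu
      refine ⟨_, apply_mem_imageAut ⟨x, hPB hx⟩ hx, ?_⟩
      show ((((e₂ : MulAut Q₂)) ⟨x.2, (hPB hx).2⟩ : Q₂) : Ω₂) = y
      have e : (⟨x.2, (hPB hx).2⟩ : Q₂) = (e₂ : MulAut Q₂)⁻¹ ⟨y, hy⟩ := Subtype.ext hxu
      rw [e]
      simp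

/-- A subdirect subgroup of a product of receptive subgroups is receptive. -/
theorem isReceptive_of_subdirect (hE : IsProductSystem F₁ F₂ E) (hrec₁ : F₁.IsReceptive Q₁)
    (hrec₂ : F₂.IsReceptive Q₂) {Q : Subgroup (Ω₁ × Ω₂)} (hf : fstS Q = Q₁) (hs : sndS Q = Q₂) :
    E.IsReceptive Q := by
  have hQS : Q ≤ S₁.prod S₂ := by
    intro x hx
    refine ⟨hrec₁.1 ?_, hrec₂.1 ?_⟩
    · rw [← hf]; exact ⟨x, hx, rfl⟩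
    · rw [← hs]; exact ⟨x, hx, rfl⟩
  refine ⟨hQS, fun R φ hφ hr => ?_⟩
  obtain ⟨hRS, φ₁, hφ₁, φ₂, hφ₂, h⟩ := (hE R φ).mp hφ
  have h₁ : ∀ (x : R) (a : (x : Ω₁ × Ω₂).1 ∈ fstS R), (φ x).1 = φ₁ ⟨_, a⟩ :=
    fun x a => by rw [h x a (snd_mem x)]
  have h₂ : ∀ (x : R) (a : (x : Ω₁ × Ω₂).2 ∈ sndS R), (φ x).2 = φ₂ ⟨_, a⟩ :=
    fun x a => by rw [h x (fst_mem x) a]
  have hr₁ : φ₁.range = Q₁ := by
    rw [← fst_range_of_spec rfl h₁, hr, hf]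
  have hr₂ : φ₂.range = Q₂ := by
    rw [← snd_range_of_spec rfl h₂, hr, hs]
  obtain ⟨ψ₁, hψ₁, hψ₁e⟩ := hrec₁.2 _ φ₁ hφ₁ hr₁
  obtain ⟨ψ₂, hψ₂, hψ₂e⟩ := hrec₂.2 _ φ₂ hφ₂ hr₂
  -- the components of elements of the extender
  have hconj : ∀ g ∈ extender (S₁.prod S₂) R φ, ∀ x ∈ R, g * x * g⁻¹ ∈ R := by
    intro g hg x hx
    exact ((mem_extender _ _ _ _).mp hg).2.1 x |>.mp hx
  have hc₁ : ∀ g ∈ extender (S₁.prod S₂) R φ, g.1 ∈ extender S₁ (fstS R) φ₁ := by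
    intro g hg
    have hg' := hg
    obtain ⟨hgS, hgN, k, hk, hke⟩ := (mem_extender _ _ _ _).mp hg
    rw [mem_extender]
    refine ⟨hgS.1, ?_, k.1, hk.1, ?_⟩
    · refine mem_normalizer_of_conj ?_ ?_
      · rintro _ ⟨x, hx, rfl⟩
        exact ⟨_, hconj g hg x hx, rfl⟩
      · rintro _ ⟨x, hx, rfl⟩
        have := hconj g⁻¹ (Subgroup.inv_mem _ hg) x hx
        exact ⟨_, this, by simp⟩
    · rintro ⟨_, x, hx, rfl⟩ hy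
      have hm := hconj g hg x hx
      have h3 := hke ⟨x, hx⟩ hm
      have h7 := (h₁ ⟨_, hm⟩ hy).symm
      have h8 := (h₁ ⟨x, hx⟩ ⟨x, hx, rfl⟩).symm
      exact h7.trans ((congrArg Prod.fst h3).trans (congrArg (fun z => k.1 * z * k.1⁻¹) h8.symm))
  have hc₂ : ∀ g ∈ extender (S₁.prod S₂) R φ, g.2 ∈ extender S₂ (sndS R) φ₂ := by
    intro g hg
    have hg' := hg
    obtain ⟨hgS, hgN, k, hk, hke⟩ := (mem_extender _ _ _ _).mp hg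
    rw [mem_extender]
    refine ⟨hgS.2, ?_, k.2, hk.2, ?_⟩
    · refine mem_normalizer_of_conj ?_ ?_
      · rintro _ ⟨x, hx, rfl⟩
        exact ⟨_, hconj g hg x hx, rfl⟩
      · rintro _ ⟨x, hx, rfl⟩
        have := hconj g⁻¹ (Subgroup.inv_mem _ hg) x hx
        exact ⟨_, this, by simp⟩
    · rintro ⟨_, x, hx, rfl⟩ hy
      have hm := hconj g hg x hx
      have h3 := hke ⟨x, hx⟩ hm
      have h7 := (h₂ ⟨_, hm⟩ hy).symm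
      have h8 := (h₂ ⟨x, hx⟩ ⟨x, hx, rfl⟩).symm
      exact h7.trans ((congrArg Prod.snd h3).trans (congrArg (fun z => k.2 * z * k.2⁻¹) h8.symm))
  have hNS : extender (S₁.prod S₂) R φ ≤ S₁.prod S₂ := fun g hg => ((mem_extender _ _ _ _).mp hg).1
  refine ⟨prodMapHom ψ₁ ψ₂ _ (fun x => hc₁ x x.2) (fun x => hc₂ x x.2),
    hom_mem_of_le hE hNS hψ₁ hψ₂ _ _, fun x hxR hxN => ?_⟩
  show (ψ₁ _, ψ₂ _) = φ ⟨x, hxR⟩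
  rw [h ⟨x, hxR⟩ (fst_mem _) (snd_mem _)]
  apply Prod.ext
  · exact hψ₁e _ (fst_mem ⟨x, hxR⟩) _
  · exact hψ₂e _ (snd_mem ⟨x, hxR⟩) _

/-- **The direct product of two saturated fusion systems is saturated.** -/
theorem isSaturated_prod [Finite S₁] [Finite S₂] (h₁ : IsPGroup p S₁) (h₂ : IsPGroup p S₂)
    (hF₁ : F₁.IsSaturated p) (hF₂ : F₂.IsSaturated p) (hE : IsProductSystem F₁ F₂ E) : E.IsSaturated p := by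
  intro P hP
  have hP₁ : fstS P ≤ S₁ := by
    rintro _ ⟨x, hx, rfl⟩
    exact (hP hx).1
  have hP₂ : sndS P ≤ S₂ := by
    rintro _ ⟨x, hx, rfl⟩
    exact (hP hx).2
  obtain ⟨Q₁, ⟨α₁, hα₁, hr₁⟩, hFA₁, hrec₁⟩ := hF₁ _ hP₁
  obtain ⟨Q₂, ⟨α₂, hα₂, hr₂⟩, hFA₂, hrec₂⟩ := hF₂ _ hP₂
  have hQ₁ : Q₁ ≤ S₁ := hFA₁.1
  have hQ₂ : Q₂ ≤ S₂ := hFA₂.1
  have hB := prod_le_prod hQ₁ hQ₂
  have hBFA := isFullyAutomized_box h₁ h₂ hE hFA₁ hFA₂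
  have hφ : prodMapHom α₁ α₂ P fst_mem snd_mem ∈ E.Hom P := hom_mem_of_le hE hP hα₁ hα₂ _ _
  -- the image
  obtain ⟨P', hP'⟩ : ∃ P', P' = (prodMapHom α₁ α₂ P fst_mem snd_mem).range := ⟨_, rfl⟩
  have hPP' : E.IsConj P P' := ⟨_, hφ, hP'.symm⟩
  have hf' : fstS P' = Q₁ := by
    rw [hP', ← hr₁]
    exact fst_range_of_spec rfl (fun x a => rfl)
  have hs' : sndS P' = Q₂ := by
    rw [hP', ← hr₂]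
    exact snd_range_of_spec rfl (fun x a => rfl)
  have hP'B : P' ≤ Q₁.prod Q₂ := by
    intro x hx
    refine ⟨?_, ?_⟩
    · rw [← hf']; exact ⟨x, hx, rfl⟩
    · rw [← hs']; exact ⟨x, hx, rfl⟩
  have hextb : ∀ g ∈ E.autGroup (Q₁.prod Q₂), ∀ β ∈ E.autGroup (imageAut (Q₁.prod Q₂) g P'), ∃ δ ∈ E.autGroup (Q₁.prod Q₂),
      ∀ (y : Q₁.prod Q₂) (hy : (y : Ω₁ × Ω₂) ∈ imageAut (Q₁.prod Q₂) g P'), ((δ y : Q₁.prod Q₂) : Ω₁ × Ω₂) = β ⟨y, hy⟩ := by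
    intro g hg β hβ
    obtain ⟨h3, h4⟩ := fstS_imageAut hE hQ₁ hQ₂ hP'B hf' hs' g hg
    exact exists_ext_box hE hQ₁ hQ₂ h3 h4 β hβ
  have hpS : IsPGroup p (S₁.prod S₂) := by
    rintro ⟨⟨a, b⟩, ha, hb⟩
    obtain ⟨i, hi⟩ := h₁ ⟨a, ha⟩
    obtain ⟨j, hj⟩ := h₂ ⟨b, hb⟩
    refine ⟨i + j, Subtype.ext (Prod.ext ?_ ?_)⟩
    · have hi' : a ^ p ^ i = 1 := congrArg Subtype.val hi
      show a ^ p ^ (i + j) = 1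
      rw [pow_add, pow_mul, hi', one_pow]
    · have hj' : b ^ p ^ j = 1 := congrArg Subtype.val hj
      show b ^ p ^ (i + j) = 1
      rw [pow_add, mul_comm, pow_mul, hj', one_pow]
  have : Finite ↥(S₁.prod S₂) :=
    Finite.of_equiv _ (Subgroup.prodEquiv S₁ S₂).symm.toEquiv
  obtain ⟨g, hg, hgFA⟩ := exists_fullyAutomized_imageAut hpS hBFA P' hextb
  obtain ⟨h3, h4⟩ := fstS_imageAut hE hQ₁ hQ₂ hP'B hf' hs' g hg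
  exact ⟨_, Cfsg.Agent.Lib.FusionSat.IsConj.trans hPP' (isConj_imageAut hg hB hP'B), hgFA, isReceptive_of_subdirect hE hrec₁ hrec₂ h3 h4⟩

end Box

end Cfsg.Agent.Lib.FusionProdSat
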