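import Mathlib
import Cfsg.Agent.Lib.FusionProdSat
import Cfsg.Agent.Lib.FusionNormalCrit

/-!
# Saturated fusion systems over abelian groups.

* `exists_aut_of_abelian`: every map of a saturated fusion system over an abelian group is the restriction of an
  automorphism of the group (Burnside).
* `inner_isNormalIn_of_abelian`: the inner system is normal.
-/

set_option autoImplicit false

namespace Cfsg.Agent.Lib.FusionAbelian

open Cfsg Cfsg.FusionSystem Cfsg.Agent.Lib.FusionSatBasic Cfsg.Agent.Lib.FusionSat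

variable {Ω : Type*} [Group Ω] {S : Subgroup Ω} {F : FusionSystem S} {p : ℕ} [Fact p.Prime]

/-- Over an abelian group, maps onto a receptive subgroup extend to automorphisms of `S`. -/
theorem exists_aut_of_receptive [Finite S] (hab : ∀ x ∈ S, ∀ y ∈ S, x * y = y * x) {Q : Subgroup Ω}
    (hrec : F.IsReceptive Q) {R : Subgroup Ω} {χ : R →* Ω} (hχ : χ ∈ F.Hom R) (hr : χ.range = Q) :
    ∃ α ∈ F.autGroup S, ∀ x : R, ((α ⟨x, le_of_hom F hχ x.2⟩ : S) : Ω) = χ x := by
  have hRS : R ≤ S := le_of_hom F hχ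
  obtain ⟨ψ, hψ, hψe⟩ := hrec.2 R χ hχ hr
  have hconj : ∀ g ∈ S, ∀ x ∈ S, g * x * g⁻¹ = x := by
    intro g hg x hx
    rw [hab g hg x hx]
    group
  have hext : extender S R χ = S := by
    apply le_antisymm
    · intro g hg
      exact ((mem_extender _ _ _ _).mp hg).1
    · intro g hg
      rw [mem_extender]
      refine ⟨hg, ?_, 1, S.one_mem, fun x hx => ?_⟩
      · intro x
        constructor
        · intro hx
          rw [hconj g hg x (hRS hx)]
          exact hx
        · intro hx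
          have hxS : x ∈ S := by
            have h1 := hRS hx
            have h2 : x = g⁻¹ * (g * x * g⁻¹) * g := by group
            rw [h2]
            exact S.mul_mem (S.mul_mem (S.inv_mem hg) h1) hg
          rwa [hconj g hg x hxS] at hx
      · have : (⟨g * (x : Ω) * g⁻¹, hx⟩ : R) = x := Subtype.ext (hconj g hg x (hRS x.2))
        rw [this]
        simp
  obtain ⟨χ', hχ', hχ'e⟩ := exists_cast F hext hψ
  obtain ⟨α, hα, hαe⟩ := Cfsg.Agent.Lib.FusionProdSat.exists_aut_of_maps_into hχ' (fun x => val_mem F hχ' x)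
  refine ⟨α, hα, fun x => ?_⟩
  rw [hαe, hχ'e]
  exact hψe x x.2 _

/-- **Burnside**: every map of a saturated fusion system over a finite abelian group is the restriction of an automorphism. -/
theorem exists_aut_of_abelian [Finite S] (hF : F.IsSaturated p) (hab : ∀ x ∈ S, ∀ y ∈ S, x * y = y * x)
    {P : Subgroup Ω} {φ : P →* Ω} (hφ : φ ∈ F.Hom P) :
    ∃ α ∈ F.autGroup S, ∀ x : P, ((α ⟨x, le_of_hom F hφ x.2⟩ : S) : Ω) = φ x := by
  have hrS : φ.range ≤ S := by
    rintro _ ⟨x, rfl⟩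
    exact val_mem F hφ x
  obtain ⟨Q, hconj, hFA, hrec⟩ := hF φ.range hrS
  obtain ⟨e, he⟩ := exists_iso_of_isConj hconj
  have hr₂ : (Q.subtype.comp e.toMonoidHom).range = Q := by
    ext y
    constructor
    · rintro ⟨x, rfl⟩
      exact (e x).2
    · intro hy
      exact ⟨e.symm ⟨y, hy⟩, by simp⟩
  obtain ⟨α₂, hα₂, hα₂e⟩ := exists_aut_of_receptive hab hrec he hr₂
  obtain ⟨χ, hχ, hχe⟩ := exists_comp F hφ he (fun x => ⟨x, rfl⟩)
  have hr₁ : χ.range = Q := by
    ext y
    constructor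
    · rintro ⟨x, rfl⟩
      rw [hχe]
      exact (e _).2
    · intro hy
      obtain ⟨⟨_, x, rfl⟩, hz⟩ : ∃ z, e z = ⟨y, hy⟩ := ⟨e.symm ⟨y, hy⟩, by simp⟩
      refine ⟨x, ?_⟩
      rw [hχe]
      exact congrArg Subtype.val hz
  obtain ⟨α₁, hα₁, hα₁e⟩ := exists_aut_of_receptive hab hrec hχ hr₁
  refine ⟨α₂⁻¹ * α₁, (F.autGroup S).mul_mem ((F.autGroup S).inv_mem hα₂) hα₁, fun x => ?_⟩
  have h1 := hα₁e x
  have h2 := hα₂e ⟨φ x, ⟨x, rfl⟩⟩
  rw [hχe] at h1
  have h3 : α₁ ⟨x, le_of_hom F hφ x.2⟩ = α₂ ⟨φ x, hrS ⟨x, rfl⟩⟩ := Subtype.ext (h1.trans h2.symm)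
  show ((α₂⁻¹ (α₁ ⟨x, le_of_hom F hφ x.2⟩) : S) : Ω) = φ x
  rw [h3]
  simp

/-- Over an abelian group, the inner system consists of inclusions. -/
theorem inner_hom_eq {T : Subgroup Ω} (hab : ∀ x ∈ T, ∀ y ∈ T, x * y = y * x) {P : Subgroup Ω} {φ : P →* Ω}
    (hφ : φ ∈ (innerFusionSystem T).Hom P) (x : P) : φ x = x := by
  obtain ⟨hP, g, hg, h⟩ := hφ
  rw [h, hab g hg x (hP x.2)]
  group

/-- Over an abelian group, the inner system is normal in every saturated fusion system. -/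
theorem inner_isNormalIn_of_abelian [Finite S] (hS : IsPGroup p S) (hF : F.IsSaturated p)
    (hab : ∀ x ∈ S, ∀ y ∈ S, x * y = y * x) : (innerFusionSystem S).IsNormalIn F p := by
  refine ⟨⟨Cfsg.Agent.Lib.FusionNormalCrit.inner_isSaturated hS, hF, ?_, ?_, ?_, ?_⟩, ?_⟩
  · -- subsystem
    exact fun P φ hφ => Cfsg.Agent.Lib.FusionAlperin.inner_le F P hφ
  · exact Cfsg.Agent.Lib.FusionNormalSys.stronglyClosed_top F
  · intro P hPS φ hφ α hα
    have hle : (P.subgroupOf S).map (S.subtype.comp α.toMonoidHom) ≤ S := by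
      rintro _ ⟨x, -, rfl⟩
      exact (α x).2
    refine ⟨conjHom _ 1, (innerFusionSystem S).conj_mem hle S.one_mem, fun x hφx hαx => ?_⟩
    have h1 := inner_hom_eq hab hφ x
    have h2 : (⟨φ x, hφx⟩ : S) = ⟨x, hPS x.2⟩ := Subtype.ext h1
    rw [h2]
    show (1 : Ω) * ((α ⟨x, hPS x.2⟩ : S) : Ω) * 1⁻¹ = _
    simp
  · intro P hPS φ hφ
    obtain ⟨α, hα, hαe⟩ := exists_aut_of_abelian hF hab hφ
    refine ⟨α, hα, _, (innerFusionSystem S).conj_mem hPS S.one_mem, fun x hx => ?_⟩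
    rw [← hαe]
    congr 2
    apply Subtype.ext
    simp [conjHom]
  · intro α hα
    have hle : S ⊔ centralizerIn S S ≤ S := sup_le le_rfl inf_le_left
    have hid : ∀ x : S, α x = x := by
      intro x
      have h1 := (mem_autGroup _ le_rfl α).mp hα
      apply Subtype.ext
      exact inner_hom_eq hab h1 x
    refine ⟨1, Subgroup.one_mem _, fun x => ?_, fun c hc => ?_⟩
    · rw [hid]
      rfl
    · show (c : Ω)⁻¹ * (c : Ω) ∈ _
      rw [inv_mul_cancel]
      exact Subgroup.one_mem _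

end Cfsg.Agent.Lib.FusionAbelian
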