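/-
FusionAgemo: if the nilpotence class of `S` is at most `n (p - 1) + 1`, the subgroup of `Z(S)` generated by the `pⁿ`-th powers
is normal in every saturated fusion system over `S`.
-/
import Mathlib
import Cfsg.Agent.Lib.AgemoZ
import Cfsg.Agent.Lib.FusionCentralElt

set_option autoImplicit false

namespace Cfsg.Agent.Lib.FusionAgemo

open Cfsg Cfsg.FusionSystem Cfsg.Agent.Lib.FusionCore Cfsg.Agent.Lib.FusionCore2 Cfsg.Agent.Lib.FusionCentralElt
open scoped commutatorElement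

universe u

variable {Ω : Type u} [Group Ω] {S : Subgroup Ω} {F : FusionSystem S} {p : ℕ} [hp : Fact p.Prime]

/-- The subsystem of maps that respect `V` on high levels. -/
def LevV (F : FusionSystem S) (V : Set Ω) (k : ℕ) (P : Subgroup Ω) (f : Ω → Ω) : Prop :=
  Maps F P f ∧ (k < Nat.card P → ∀ x ∈ P, f x ∈ V ↔ x ∈ V)

/-- All maps with source of order above `k` respect a set `V` of central elements, as soon as automorphism groups of
fully normalized centric subgroups of order above `k` do. -/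
theorem levelledV [Finite S] (hS : IsPGroup p S) (hF : F.IsSaturated p) {V : Set Ω} (hV : ∀ y ∈ V, IsZ S y) (k : ℕ)
    (hA : ∀ Q : Subgroup Ω, F.IsFullyNormalized Q → F.IsCentric Q → k < Nat.card Q →
      ∀ α ∈ F.autGroup Q, ∀ y ∈ V, afn α y ∈ V) :
    ∀ (R : Subgroup Ω) (f : Ω → Ω), Maps F R f → k < Nat.card R → ∀ x ∈ R, (f x ∈ V ↔ x ∈ V) := by
  have hcongr : ∀ {P : Subgroup Ω} {f g : Ω → Ω}, LevV F V k P f → (∀ x ∈ P, f x = g x) → LevV F V k P g := by
    intro P f g h hfg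
    exact ⟨h.1.congr hfg, fun hk x hx => by rw [← hfg x hx]; exact h.2 hk x hx⟩
  have hconj : ∀ {P : Subgroup Ω} {g : Ω}, P ≤ S → g ∈ S → LevV F V k P (fun x => g * x * g⁻¹) := by
    intro P g hP hg
    refine ⟨Maps.conj hP hg, fun _ x _ => ?_⟩
    constructor
    · intro h
      have h' : g * x * g⁻¹ ∈ V := h
      have e := (hV _ h').2 g hg
      have h2 : x = g * x * g⁻¹ := by
        calc x = g⁻¹ * (g * x * g⁻¹ * g) := by group
          _ = g⁻¹ * (g * (g * x * g⁻¹)) := by rw [e]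
          _ = _ := by group
      rw [h2]
      exact h'
    · intro h
      have e := (hV _ h).2 g hg
      show g * x * g⁻¹ ∈ V
      rw [e]
      simpa using h
  have hcomp : ∀ {P Q : Subgroup Ω} {f g : Ω → Ω}, LevV F V k P f → LevV F V k Q g → (∀ x ∈ P, f x ∈ Q) →
      LevV F V k P (g ∘ f) := by
    intro P Q f g hf hg h
    refine ⟨hf.1.comp hg.1 h, fun hk x hx => ?_⟩
    have hk' : k < Nat.card Q := lt_of_lt_of_le hk (card_le_of_maps hf.1 le_rfl hg.1.le h)
    exact (hg.2 hk' (f x) (h x hx)).trans (hf.2 hk x hx)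
  have hinv : ∀ {P : Subgroup Ω} {f : Ω → Ω}, LevV F V k P f → ∃ g, LevV F V k (img f P) g ∧ ∀ x ∈ P, g (f x) = x := by
    intro P f hf
    obtain ⟨g, hg, h1, h2⟩ := hf.1.inv
    refine ⟨g, ⟨hg, fun hk z hz => ?_⟩, h1⟩
    have hk' : k < Nat.card P := by rwa [hf.1.card_img] at hk
    have := hf.2 hk' (g z) (h2 z hz).1
    rw [(h2 z hz).2] at this
    exact this.symm
  let E : FusionSystem S := Cfsg.Agent.Lib.FusionIndexPrime.ofMaps F (LevV F V k) (fun h => h.1) hcongr hconj hcomp hinv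
  have hE : ∀ {P : Subgroup Ω} {f : Ω → Ω}, Maps E P f ↔ LevV F V k P f :=
    Cfsg.Agent.Lib.FusionIndexPrime.maps_ofMaps
  have hle : F ≤ E := by
    refine Cfsg.Agent.Lib.FusionIndexPrime.alperin_goldschmidt' hS hF E (fun P hP _ => ?_)
    have hPc : F.IsFullyNormalized P ∧ F.IsCentric P := by
      rcases hP with rfl | hP
      · exact ⟨isFullyNormalized_self, isCentric_self⟩
      · exact ⟨hP.2.1, hP.1⟩
    have hPS : P ≤ S := hPc.1.1
    intro α hα
    rw [mem_autGroup_iff hPS, hE]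
    refine ⟨Maps_of_mem_autGroup hPS hα, fun hk x hx => ?_⟩
    constructor
    · intro h
      have := hA P hPc.1 hPc.2 hk α⁻¹ (Subgroup.inv_mem _ hα) _ h
      rwa [afn_inv_afn α hx] at this
    · intro h
      exact hA P hPc.1 hPc.2 hk α hα x h
  intro R f hf hk x hx
  have : Maps E R f := Cfsg.Agent.Lib.FusionIndexPrime.le_maps hle hf
  exact (hE.1 this).2 hk x hx

/-- The lower central series of the image. -/
theorem lcs_range {L : Type*} [Group L] {T : Subgroup Ω} (hTS : T ≤ S) (ι : T →* L) (k : ℕ) :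
    ∀ x ∈ ι.range.lowerCentralSeries k, ∃ t : T, ι t = x ∧ (t : Ω) ∈ S.lowerCentralSeries k := by
  induction k with
  | zero =>
    rintro _ ⟨t, rfl⟩
    exact ⟨t, rfl, hTS t.2⟩
  | succ k ih =>
    have hle : ι.range.lowerCentralSeries (k + 1) ≤ ((S.lowerCentralSeries (k + 1)).subgroupOf T).map ι := by
      rw [Subgroup.lowerCentralSeries_succ, Subgroup.commutator_le]
      intro a ha b hb
      obtain ⟨t, rfl, ht⟩ := ih a ha
      obtain ⟨t', rfl⟩ := hb
      refine ⟨⁅t, t'⁆, ?_, map_commutatorElement ι t t'⟩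
      rw [SetLike.mem_coe, Subgroup.mem_subgroupOf]
      have h1 : ((⁅t, t'⁆ : T) : Ω) = ⁅(t : Ω), (t' : Ω)⁆ := rfl
      rw [h1, Subgroup.lowerCentralSeries_succ]
      exact Subgroup.commutator_mem_commutator ht (hTS t'.2)
    intro x hx
    obtain ⟨t, ht, rfl⟩ := hle hx
    exact ⟨t, rfl, Subgroup.mem_subgroupOf.1 ht⟩

theorem isZ_of_mem_powerClosure (n : ℕ) {y : Ω}
    (hy : y ∈ powerClosure p n (S ⊓ Subgroup.centralizer (S : Set Ω))) : IsZ S y := by
  induction hy using Subgroup.closure_induction with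
  | mem x hx =>
    obtain ⟨z, hz, rfl⟩ := hx
    have hz' : IsZ S z := ⟨hz.1, fun g hg => by
      have := Subgroup.mem_centralizer_iff.1 hz.2 g hg
      exact this⟩
    exact hz'.pow _
  | one => exact ⟨S.one_mem, fun g _ => by simp⟩
  | mul a b _ _ ha hb =>
    refine ⟨S.mul_mem ha.1 hb.1, fun g hg => ?_⟩
    rw [← mul_assoc, ha.2 g hg, mul_assoc, hb.2 g hg, mul_assoc]
  | inv a _ ha =>
    refine ⟨S.inv_mem ha.1, fun g hg => ?_⟩
    have := ha.2 g hg
    calc g * a⁻¹ = a⁻¹ * (a * g) * a⁻¹ := by group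
      _ = a⁻¹ * (g * a) * a⁻¹ := by rw [this]
      _ = _ := by group

/-- Maps send `V` to `V` as soon as they do so on generators. -/
theorem V_induction {Q : Subgroup Ω} {f : Ω → Ω} (hm : Maps F Q f) (n : ℕ)
    (hVQ : powerClosure p n (S ⊓ Subgroup.centralizer (S : Set Ω)) ≤ Q)
    (hgen : ∀ z ∈ S ⊓ Subgroup.centralizer (S : Set Ω), f (z ^ (p ^ n)) ∈ powerClosure p n (S ⊓ Subgroup.centralizer (S : Set Ω))) :
    ∀ y ∈ powerClosure p n (S ⊓ Subgroup.centralizer (S : Set Ω)),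
      f y ∈ powerClosure p n (S ⊓ Subgroup.centralizer (S : Set Ω)) := by
  intro y hy
  have hy' := hy
  induction hy' using Subgroup.closure_induction with
  | mem x hx =>
    obtain ⟨z, hz, rfl⟩ := hx
    exact hgen z hz
  | one =>
    rw [hm.map_one]
    exact Subgroup.one_mem _
  | mul a b ha' hb' ha hb =>
    rw [hm.map_mul (hVQ ha') (hVQ hb')]
    exact Subgroup.mul_mem _ (ha ha') (hb hb')
  | inv a ha' ha =>
    rw [hm.map_inv (hVQ ha')]
    exact Subgroup.inv_mem _ (ha ha')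

/-- The main step: a fully normalized centric subgroup, assuming the statement for larger subgroups. -/
theorem step [Finite S] (hS : IsPGroup p S) (hF : F.IsSaturated p) (n : ℕ)
    (hcl : S.lowerCentralSeries (n * (p - 1) + 1) = ⊥)
    {Q : Subgroup Ω} (hQn : F.IsFullyNormalized Q) (hQc : F.IsCentric Q)
    (IH : ∀ Q' : Subgroup Ω, F.IsFullyNormalized Q' → F.IsCentric Q' → Nat.card Q < Nat.card Q' →
      ∀ α ∈ F.autGroup Q', ∀ y ∈ powerClosure p n (S ⊓ Subgroup.centralizer (S : Set Ω)),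
        afn α y ∈ powerClosure p n (S ⊓ Subgroup.centralizer (S : Set Ω))) :
    ∀ α ∈ F.autGroup Q, ∀ y ∈ powerClosure p n (S ⊓ Subgroup.centralizer (S : Set Ω)),
      afn α y ∈ powerClosure p n (S ⊓ Subgroup.centralizer (S : Set Ω)) := by
  intro α hα
  set V : Subgroup Ω := powerClosure p n (S ⊓ Subgroup.centralizer (S : Set Ω)) with hVdef
  have hVZ : ∀ y ∈ (V : Set Ω), IsZ S y := fun y hy => isZ_of_mem_powerClosure n hy
  have hQS := hQn.1
  have hVQ : V ≤ Q := fun y hy => (hVZ y hy).mem_of_centric hQc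
  have hmα := Maps_of_mem_autGroup hQS hα
  -- the case of `S`
  by_cases hQeq : Q = S
  · subst hQeq
    refine V_induction hmα n hVQ (fun z hz => ?_)
    rw [hmα.map_pow hz.1]
    apply Subgroup.subset_closure
    refine ⟨afn α z, ⟨afn_mem α hz.1, ?_⟩, rfl⟩
    show afn α z ∈ Subgroup.centralizer _
    rw [Subgroup.mem_centralizer_iff]
    intro g hg
    have h1 : afn α (afn α⁻¹ g) = g := afn_afn_inv α hg
    have h2 : afn α⁻¹ g ∈ Q := afn_mem α⁻¹ hg
    have h3 := Subgroup.mem_centralizer_iff.1 hz.2 _ h2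
    rw [← h1, ← hmα.map_mul h2 hz.1, ← hmα.map_mul hz.1 h2, h3]
  have hlt : Q < S := lt_of_le_of_ne hQS hQeq
  have hlt2 := Cfsg.Agent.Lib.FusionAlperin.lt_normalizerIn hS hlt
  have hTS : normalizerIn S Q ≤ S := inf_le_left
  haveI hfT : Finite (normalizerIn S Q) := finite_of_le hTS
  have hT : IsPGroup p (normalizerIn S Q) := hS.to_le hTS
  obtain ⟨E, hE⟩ := exists_normalizerSystem (F := F) hQS
  have hEs := Cfsg.Agent.Lib.FusionSatNorm.saturated_normalizer hS hF hQn hE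
  have hQN : E.IsNormal Q := Cfsg.Agent.Lib.FusionGT.isNormal_normalizerSystem hQS hE
  have hQT := le_normalizerIn hQS
  have hCT : centralizerIn S Q ≤ Q := IsCentric_self hQc
  have hQC : E.IsCentric Q := by
    refine ⟨hQT, fun Q' hQ' => ?_⟩
    rw [Cfsg.Agent.Lib.FusionGT.conj_eq_of_isNormal hQN hQ']
    intro c hc
    exact hCT (mem_centralizerIn.2 ⟨hTS (mem_centralizerIn.1 hc).1, (mem_centralizerIn.1 hc).2⟩)
  obtain ⟨L, instL, ι, hM⟩ := Cfsg.Agent.Lib.FusionModel.exists_model hT hEs hQN hQC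
  have hLf : Finite L := hM.1
  have hι := hM.2.1
  obtain ⟨P₀, hP₀⟩ := hM.2.2.1
  have hCL := hM.2.2.2
  have hclL : (P₀ : Subgroup L).lowerCentralSeries (n * (p - 1) + 1) = ⊥ := by
    rw [hP₀, eq_bot_iff]
    intro x hx
    obtain ⟨t, rfl, ht⟩ := lcs_range hTS ι _ x hx
    rw [hcl, Subgroup.mem_bot] at ht
    have ht' : t = 1 := Subtype.ext ht
    rw [ht', map_one]
    exact Subgroup.one_mem _
  have hαE : Maps E Q (afn α) := by
    refine (Cfsg.Agent.Lib.FusionGT.maps_norm_iff hE).2 ⟨hmα, hQT, fun x hx => hQT (afn_mem α hx), ?_⟩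
    have hm2 : Maps F (Q ⊔ Q) (afn α) := by
      rw [sup_idem]
      exact hmα
    exact ⟨afn α, hm2, fun _ _ => rfl, afn_img α⟩
  obtain ⟨g, hg⟩ := Cfsg.Agent.Lib.FusionMono.real_of_maps hι hαE
  obtain ⟨h, hh, hkey⟩ := Cfsg.Agent.Lib.AgemoZ.key2 P₀ hCL n hclL g
  have hrg : ∀ x (hx : x ∈ normalizerIn S Q), h * ι ⟨x, hx⟩ * h⁻¹ ∈ ι.range := by
    intro x hx
    have h1 : ι ⟨x, hx⟩ ∈ (P₀ : Subgroup L) := by
      rw [hP₀]
      exact ⟨_, rfl⟩
    have h2 := (Subgroup.mem_normalizer_iff.1 hh _).1 h1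
    rw [← hP₀]
    exact h2
  have hmc : Maps E (normalizerIn S Q) (Cfsg.Agent.Lib.FusionMono.cf ι h) :=
    Cfsg.Agent.Lib.FusionMono.maps_cf hι le_rfl h hrg
  have hmcF : Maps F (normalizerIn S Q) (Cfsg.Agent.Lib.FusionMono.cf ι h) :=
    ((Cfsg.Agent.Lib.FusionGT.maps_norm_iff hE).1 hmc).1
  have hlev := levelledV hS hF hVZ (Nat.card Q) IH (normalizerIn S Q) _ hmcF
    (Cfsg.Agent.Lib.FusionAlperin.card_lt_of_lt hlt2)
  refine V_induction hmα n hVQ (fun z hz => ?_)
  have hzZ : IsZ S z := ⟨hz.1, fun a ha => Subgroup.mem_centralizer_iff.1 hz.2 a ha⟩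
  have hzQ : z ∈ Q := hzZ.mem_of_centric hQc
  have hzT := hQT hzQ
  have hv : ι ⟨z, hzT⟩ ∈ Cfsg.Agent.Lib.AgemoZ.Zc (P₀ : Subgroup L) := by
    rw [hP₀]
    refine ⟨⟨_, rfl⟩, ?_⟩
    rintro _ ⟨t, rfl⟩
    rw [← map_mul, ← map_mul]
    congr 1
    exact Subtype.ext (hzZ.2 t (hTS t.2))
  have h1 := hkey _ hv
  have hzq : z ^ (p ^ n) ∈ Q := Q.pow_mem hzQ _
  have hzqT := hQT hzq
  have h2 := hg _ hzq
  have h3 := Cfsg.Agent.Lib.FusionMono.ι_cf h hzqT (hrg _ hzqT)
  have h4 : (ι ⟨z, hzT⟩) ^ (p ^ n) = ι ⟨z ^ (p ^ n), hzqT⟩ := by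
    rw [← map_pow]
    rfl
  rw [h4] at h1
  have h5 : ι ⟨afn α (z ^ (p ^ n)), hαE.mem hzq⟩ =
      ι ⟨Cfsg.Agent.Lib.FusionMono.cf ι h (z ^ (p ^ n)), Cfsg.Agent.Lib.FusionMono.cf_mem h hzqT⟩ := by
    rw [h3, h2]
    exact h1
  have h6 := congrArg Subtype.val (hι.1 h5)
  simp only at h6
  rw [h6]
  exact (hlev _ hzqT).2 (Subgroup.subset_closure ⟨z, hz, rfl⟩)

/-- **`℧ⁿ(Z(S))` is normal.** -/
theorem main [Finite S] (hS : IsPGroup p S) (hF : F.IsSaturated p) (n : ℕ)
    (hcl : S.lowerCentralSeries (n * (p - 1) + 1) = ⊥) :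
    F.IsNormal (powerClosure p n (S ⊓ Subgroup.centralizer (S : Set Ω))) := by
  have all : ∀ (m : ℕ) (Q : Subgroup Ω), Nat.card S - Nat.card Q = m →
      F.IsFullyNormalized Q → F.IsCentric Q → ∀ α ∈ F.autGroup Q,
        ∀ y ∈ powerClosure p n (S ⊓ Subgroup.centralizer (S : Set Ω)),
          afn α y ∈ powerClosure p n (S ⊓ Subgroup.centralizer (S : Set Ω)) := by
    intro m
    induction m using Nat.strong_induction_on with
    | _ m ih =>
      intro Q hm h1 h2
      refine step hS hF n hcl h1 h2 (fun Q' h3 h4 hlt => ?_)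
      have h5 : Nat.card Q' ≤ Nat.card S := Subgroup.card_le_of_le h3.1
      exact ih _ (by omega) Q' rfl h3 h4
  refine Cfsg.Agent.Lib.FusionCore3.isNormal_of_AG hS hF (fun P hP => ?_)
  have hPc : F.IsFullyNormalized P ∧ F.IsCentric P := by
    rcases hP with rfl | hP
    · exact ⟨isFullyNormalized_self, isCentric_self⟩
    · exact ⟨hP.2.1, hP.1⟩
  have hVP : powerClosure p n (S ⊓ Subgroup.centralizer (S : Set Ω)) ≤ P :=
    fun y hy => (isZ_of_mem_powerClosure n hy).mem_of_centric hPc.2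
  refine ⟨hVP, fun α hα => ?_⟩
  have hPS := hPc.1.1
  have hm := (Maps_of_mem_autGroup hPS hα).restrict hVP
  exact img_eq_of_card hm (hVP.trans hPS) (hVP.trans hPS) (all _ P rfl hPc.1 hPc.2 α hα) le_rfl

section Exponent

variable {G : Type*} [Group G]

theorem pow_conj_of_central {Q : Type*} [Group Q] (x g : Q) (hc : ∀ h : Q, (x * g * x⁻¹ * g⁻¹) * h = h * (x * g * x⁻¹ * g⁻¹))
    (k : ℕ) : x ^ k * g * (x ^ k)⁻¹ * g⁻¹ = (x * g * x⁻¹ * g⁻¹) ^ k := by
  induction k with
  | zero => simp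
  | succ k ih =>
    set c := x * g * x⁻¹ * g⁻¹ with hcdef
    have h1 : x ^ (k + 1) * g * (x ^ (k + 1))⁻¹ * g⁻¹ = x * (x ^ k * g * (x ^ k)⁻¹ * g⁻¹) * g * x⁻¹ * g⁻¹ := by
      rw [pow_succ']
      group
    rw [h1, ih, pow_succ]
    have h2 : x * c ^ k = c ^ k * x := ((Commute.pow_left (hc x) k).eq).symm
    rw [h2]
    rw [hcdef]
    group

theorem pow_mem_upper (m : ℕ) (h1 : ∀ z ∈ Subgroup.center G, z ^ m = 1) (i : ℕ) :
    ∀ x ∈ Subgroup.upperCentralSeries G (i + 1), x ^ m ∈ Subgroup.upperCentralSeries G i := by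
  induction i with
  | zero =>
    intro x hx
    rw [Subgroup.upperCentralSeries_one] at hx
    rw [h1 x hx]
    exact Subgroup.one_mem _
  | succ i ih =>
    intro x hx
    rw [Subgroup.mem_upperCentralSeries_succ_iff]
    intro g
    haveI : (Subgroup.upperCentralSeries G i).Normal := inferInstance
    let π := QuotientGroup.mk' (Subgroup.upperCentralSeries G i)
    have hmem : ∀ y ∈ Subgroup.upperCentralSeries G (i + 1), ∀ h : G, π y * π h = π h * π y := by
      intro y hy h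
      have h2 := Subgroup.mem_upperCentralSeries_succ_iff.1 hy h
      have h3 : π ⁅y, h⁆ = 1 := by
        exact (QuotientGroup.eq_one_iff _).2 h2
      rw [commutatorElement_def, map_mul, map_mul, map_mul, map_inv, map_inv] at h3
      have h4 : π y * π h * (π y)⁻¹ * (π h)⁻¹ = 1 := h3
      rw [mul_inv_eq_one, mul_inv_eq_iff_eq_mul] at h4
      exact h4
    have ha := Subgroup.mem_upperCentralSeries_succ_iff.1 hx g
    have hsurj : ∀ h : G ⧸ Subgroup.upperCentralSeries G i, ∃ h' : G, π h' = h := QuotientGroup.mk'_surjective _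
    have h5 := pow_conj_of_central (π x) (π g) (fun h => by
      obtain ⟨h', rfl⟩ := hsurj h
      have := hmem _ ha h'
      rw [commutatorElement_def, map_mul, map_mul, map_mul, map_inv, map_inv] at this
      exact this) m
    have h6 := ih _ ha
    have h7 : π (⁅x, g⁆ ^ m) = 1 := (QuotientGroup.eq_one_iff _).2 h6
    rw [map_pow, commutatorElement_def, map_mul, map_mul, map_mul, map_inv, map_inv, ← h5] at h7
    apply (QuotientGroup.eq_one_iff _).1
    show π ⁅x ^ m, g⁆ = 1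
    rw [commutatorElement_def, map_mul, map_mul, map_mul, map_inv, map_inv, map_pow]
    exact h7

theorem pow_pow_eq_one_of_upper (m : ℕ) (h1 : ∀ z ∈ Subgroup.center G, z ^ m = 1) (i : ℕ) :
    ∀ x ∈ Subgroup.upperCentralSeries G i, x ^ (m ^ i) = 1 := by
  induction i with
  | zero =>
    intro x hx
    rw [Subgroup.upperCentralSeries_zero, Subgroup.mem_bot] at hx
    rw [hx, one_pow]
  | succ i ih =>
    intro x hx
    rw [pow_succ', pow_mul]
    exact ih _ (pow_mem_upper m h1 i x hx)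

end Exponent

/-- The lower central series and the upper central series. -/
theorem mem_upper_of_lcs (c : ℕ) (hcl : S.lowerCentralSeries c = ⊥) (i : ℕ) (hi : i ≤ c) :
    ∀ x : S, (x : Ω) ∈ S.lowerCentralSeries (c - i) → x ∈ Subgroup.upperCentralSeries S i := by
  induction i with
  | zero =>
    intro x hx
    rw [Nat.sub_zero, hcl, Subgroup.mem_bot] at hx
    rw [Subgroup.upperCentralSeries_zero, Subgroup.mem_bot]
    exact Subtype.ext hx
  | succ i ih =>
    intro x hx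
    rw [Subgroup.mem_upperCentralSeries_succ_iff]
    intro g
    apply ih (by omega)
    have e : c - i = (c - (i + 1)) + 1 := by omega
    rw [e, Subgroup.lowerCentralSeries_succ]
    exact Subgroup.commutator_mem_commutator hx g.2

/-- The exponent of `S` from the exponent of `Z(S)` and the class. -/
theorem pow_eq_one_of_center (c m : ℕ) (hcl : S.lowerCentralSeries c = ⊥)
    (h1 : ∀ z ∈ S ⊓ Subgroup.centralizer (S : Set Ω), z ^ m = 1) (x : S) : x ^ (m ^ c) = 1 := by
  have hx : x ∈ Subgroup.upperCentralSeries S c := mem_upper_of_lcs c hcl c le_rfl x (by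
    rw [Nat.sub_self]
    exact x.2)
  refine pow_pow_eq_one_of_upper m (fun z hz => ?_) c x hx
  have hz' : (z : Ω) ∈ S ⊓ Subgroup.centralizer (S : Set Ω) := by
    refine ⟨z.2, ?_⟩
    show (z : Ω) ∈ Subgroup.centralizer _
    rw [Subgroup.mem_centralizer_iff]
    intro g hg
    have := Subgroup.mem_center_iff.1 hz ⟨g, hg⟩
    exact congrArg Subtype.val this
  exact Subtype.ext (h1 _ hz')

/-- **S5219**. -/
theorem exponent_dvd [Finite S] (hS : IsPGroup p S) (hF : F.IsSaturated p) (n : ℕ)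
    (hcl : S.lowerCentralSeries (n * (p - 1) + 1) = ⊥) (hcore : F.core = ⊥) :
    Monoid.exponent S ∣ p ^ (n ^ 2 * (p - 1) + n) := by
  have h1 := main hS hF n hcl
  have h2 : powerClosure p n (S ⊓ Subgroup.centralizer (S : Set Ω)) ≤ F.core := le_sSup h1
  rw [hcore] at h2
  have h3 : ∀ z ∈ S ⊓ Subgroup.centralizer (S : Set Ω), z ^ (p ^ n) = 1 := fun z hz =>
    Subgroup.mem_bot.1 (h2 (Subgroup.subset_closure ⟨z, hz, rfl⟩))
  apply Monoid.exponent_dvd_of_forall_pow_eq_one
  intro x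
  have h4 := pow_eq_one_of_center _ _ hcl h3 x
  have h5 : n ^ 2 * (p - 1) + n = n * (n * (p - 1) + 1) := by ring
  rw [h5, pow_mul]
  exact h4

end Cfsg.Agent.Lib.FusionAgemo
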