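import Mathlib
import Cfsg.Agent.Lib.FusionAlperin
import Cfsg.Agent.Lib.FusionSat

/-!
# The fusion system over `Q` given by a group `D` of automorphisms of `Q` containing `Inn(Q)`.

Its maps are the restrictions of the elements of `D`. If every element of `D` has a power with exponent prime to `p`
lying in `Inn(Q)`, the system is saturated: each subgroup of `Q` is fully automized and receptive.
-/

set_option autoImplicit false

namespace Cfsg.Agent.Lib.FusionAutSys

open Cfsg Cfsg.FusionSystem Cfsg.Agent.Lib.FusionAlperin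

variable {Ω : Type*} [Group Ω]

/-- The fusion system over `Q` of the restrictions of the elements of `D`. -/
def autSystem (Q : Subgroup Ω) (D : Subgroup (MulAut Q)) (hD : Inn Q ≤ D) : FusionSystem Q where
  Hom P := {φ | ∃ h : P ≤ Q, ∃ b ∈ D, ∀ x : P, φ x = ((b ⟨x, h x.2⟩ : Q) : Ω)}
  le_of_mem := by
    rintro P φ ⟨h, b, -, hb⟩
    exact ⟨h, fun x => by rw [hb]; exact (b _).2⟩
  injective_of_mem := by
    rintro P φ ⟨h, b, -, hb⟩ x y hxy
    rw [hb, hb] at hxy
    have h1 := b.injective (Subtype.ext hxy)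
    exact Subtype.ext (congrArg (fun z : Q => (z : Ω)) h1)
  conj_mem := by
    intro P g hP hg
    refine ⟨hP, MulAut.conj ⟨g, hg⟩, hD ⟨⟨g, hg⟩, rfl⟩, fun x => rfl⟩
  comp_mem := by
    rintro P R φ ψ ⟨h, b, hb, hφ⟩ ⟨h', b', hb', hψ⟩ hr
    refine ⟨h, b' * b, D.mul_mem hb' hb, fun x => ?_⟩
    show ψ (φ.codRestrict R hr x) = _
    rw [hψ]
    show ((b' ⟨φ x, _⟩ : Q) : Ω) = ((b' (b ⟨x, h x.2⟩) : Q) : Ω)
    congr 2
    exact Subtype.ext (hφ x)
  inv_mem := by
    rintro P φ ⟨h, b, hb, hφ⟩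
    have hr : φ.range ≤ Q := by
      rintro _ ⟨x, rfl⟩
      rw [hφ]
      exact (b _).2
    refine ⟨Q.subtype.comp ((b⁻¹ : MulAut Q).toMonoidHom.comp (Subgroup.inclusion hr)),
      ⟨hr, b⁻¹, D.inv_mem hb, fun x => rfl⟩, fun x => ?_⟩
    show (((b⁻¹ : MulAut Q) ⟨φ x, _⟩ : Q) : Ω) = x
    have h1 : (⟨φ x, hr ⟨x, rfl⟩⟩ : Q) = b ⟨x, h x.2⟩ := Subtype.ext (hφ x)
    rw [h1]
    simp

variable {Q : Subgroup Ω} {D : Subgroup (MulAut Q)} {hD : Inn Q ≤ D}

theorem mem_autSystem {P : Subgroup Ω} {φ : P →* Ω} :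
    φ ∈ (autSystem Q D hD).Hom P ↔ ∃ h : P ≤ Q, ∃ b ∈ D, ∀ x : P, φ x = ((b ⟨x, h x.2⟩ : Q) : Ω) := Iff.rfl

/-- Every element of `Aut_E(Q)`, for `E` the system, lies in `D`. -/
theorem autGroup_top (α : MulAut Q) : α ∈ (autSystem Q D hD).autGroup Q ↔ α ∈ D := by
  rw [mem_autGroup_iff le_rfl, mem_autSystem]
  constructor
  · rintro ⟨_, b, hb, h⟩
    have : α = b := by
      ext x
      exact h x
    rwa [this]
  · intro h
    exact ⟨le_rfl, α, h, fun x => rfl⟩

/-- The system is saturated; each subgroup is fully automized and receptive. -/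
theorem autSystem_isSaturated {p : ℕ} [Fact p.Prime] [Finite Q] (hQ : IsPGroup p Q) {m : ℕ}
    (hm : m.Coprime p) (hpow : ∀ b ∈ D, b ^ m ∈ Inn Q) : (autSystem Q D hD).IsSaturated p := by
  classical
  intro P hP
  refine ⟨P, ⟨P.subtype, ⟨hP, 1, D.one_mem, fun x => rfl⟩, P.range_subtype⟩, ⟨hP, ?_⟩, hP, ?_⟩
  · -- fully automized
    set E := autSystem Q D hD with hE
    have hp1 : IsPGroup p ((autInducedBy Q P).subgroupOf (E.autGroup P)) := by
      intro x
      obtain ⟨k, hk⟩ := Cfsg.Agent.Lib.FusionSat.isPGroup_autInducedBy hQ P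
        ⟨((x : E.autGroup P) : MulAut P), Subgroup.mem_subgroupOf.mp x.2⟩
      refine ⟨k, Subtype.ext (Subtype.ext ?_)⟩
      have := congrArg Subtype.val hk
      simpa using this
    refine ⟨⟨(autInducedBy Q P).subgroupOf (E.autGroup P), hp1, ?_⟩, rfl⟩
    intro T hT hle
    refine le_antisymm ?_ hle
    intro a ha
    -- `a` has `p`-power order and its `m`-th power is induced from `Q`
    obtain ⟨k, hk⟩ := hT ⟨a, ha⟩
    have hk' : a ^ p ^ k = 1 := by
      have := congrArg Subtype.val hk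
      simpa using this
    have hamem := a.2
    rw [mem_autGroup_iff hP] at hamem
    obtain ⟨_, b, hb, hab⟩ := hamem
    have hab' : ∀ x : P, (((a : MulAut P) x : P) : Ω) = ((b ⟨x, hP x.2⟩ : Q) : Ω) := hab
    have habpow : ∀ n : ℕ, ∀ x : P, (((a : MulAut P) ^ n) x : Ω) = (((b ^ n) ⟨x, hP x.2⟩ : Q) : Ω) := by
      intro n
      induction n with
      | zero => intro x; simp
      | succ n ih =>
        intro x
        rw [pow_succ, pow_succ]
        show ((((a : MulAut P) ^ n) ((a : MulAut P) x) : P) : Ω) = (((b ^ n) (b ⟨x, hP x.2⟩) : Q) : Ω)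
        rw [ih]
        congr 2
        exact Subtype.ext (hab' x)
    obtain ⟨g, hg⟩ := hpow b hb
    have hconj : ∀ x : P, (((a : MulAut P) ^ m) x : Ω) = (g : Ω) * x * (g : Ω)⁻¹ := by
      intro x
      rw [habpow, ← hg]
      rfl
    have ham : ((a : MulAut P) ^ m) ∈ autInducedBy Q P :=
      mem_autInducedBy_iff.mpr ⟨g, g.2, hconj⟩
    have ham' : a ^ m ∈ (autInducedBy Q P).subgroupOf (E.autGroup P) :=
      Subgroup.mem_subgroupOf.mpr (by simpa using ham)
    -- Bezout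
    have hc : Nat.gcd m (p ^ k) = 1 := Nat.Coprime.pow_right k hm
    have hbez := Nat.gcd_eq_gcd_ab m (p ^ k)
    rw [hc] at hbez
    have h1 : a = (a ^ m) ^ (Nat.gcdA m (p ^ k)) := by
      have h2 : a ^ ((1 : ℕ) : ℤ) = a ^ ((m : ℤ) * Nat.gcdA m (p ^ k) + ((p ^ k : ℕ) : ℤ) * Nat.gcdB m (p ^ k)) := by
        rw [hbez]
      rw [zpow_add, zpow_mul, zpow_mul, zpow_natCast, zpow_natCast, zpow_natCast, hk', one_zpow, mul_one] at h2
      simpa using h2
    rw [h1]
    exact Subgroup.zpow_mem _ ham' _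
  · -- receptive
    rintro R φ ⟨h, b, hb, hφ⟩ -
    have hle : extender Q R φ ≤ Q := extender_le R φ
    refine ⟨Q.subtype.comp (b.toMonoidHom.comp (Subgroup.inclusion hle)), ⟨hle, b, hb, fun x => rfl⟩, ?_⟩
    intro x hxR hxN
    rw [hφ]
    rfl

/-- The `m`-th powers of elements of `Inn(Q) ⊔ ⟨β⟩` lie in `Inn(Q)` when `β ^ m = 1`. -/
theorem pow_mem_inn_of_sup {β : MulAut Q} {m : ℕ} (hβ : β ^ m = 1) :
    ∀ b ∈ Inn Q ⊔ Subgroup.zpowers β, b ^ m ∈ Inn Q := by
  intro b hb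
  have : (Inn Q).Normal := innNormal Q
  let π := QuotientGroup.mk' (Inn Q)
  have hU : Inn Q ⊔ Subgroup.zpowers β ≤ (Subgroup.zpowers (π β)).comap π := by
    refine sup_le ?_ ?_
    · intro c hc
      rw [Subgroup.mem_comap]
      have : π c = 1 := (QuotientGroup.eq_one_iff c).mpr hc
      rw [this]
      exact Subgroup.one_mem _
    · rw [Subgroup.zpowers_le]
      exact Subgroup.mem_zpowers _
  have h1 := hU hb
  rw [Subgroup.mem_comap] at h1
  obtain ⟨k, hk⟩ := h1
  have h2 : π (b ^ m) = 1 := by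
    rw [map_pow, ← hk, ← zpow_natCast, ← zpow_mul, mul_comm, zpow_mul, zpow_natCast, ← map_pow, hβ, map_one, one_zpow]
  exact (QuotientGroup.eq_one_iff _).mp h2

end Cfsg.Agent.Lib.FusionAutSys
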