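import Mathlib
import Cfsg.Agent.Lib.FusionSL2

/-!
# Torus elements in a group acting on a plane over `ZMod p` with a non-normal Sylow `p`-subgroup

Let `D` act on a plane `V` over `ZMod p` with kernel a `p`-group. If a Sylow `p`-subgroup `T` of `D` is not normal,
then in a suitable basis `v₁, v₂` the group `T` fixes `v₁`, some `t ∈ T` sends `v₂` to `v₂ + v₁`, every element
fixing `v₁` and acting trivially modulo `v₁` lies in `T`, there are elements acting as `diag(c, c⁻¹)` which normalize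
`T`, and there is an element sending `v₁` to `v₂`.
-/

set_option autoImplicit false

namespace Cfsg.Agent.Lib.FusionCartan

open Cfsg.Agent.Lib.FusionSL2

variable {p : ℕ} [hp : Fact p.Prime] {V : Type*} [AddCommGroup V] [Module (ZMod p) V]

/-- The main structure theorem. -/
theorem exists_cartan {D : Type*} [Group D] (hfin : Module.finrank (ZMod p) V = 2)
    (Φ : D →* (V ≃ₗ[ZMod p] V)) (hK : ∀ d : D, Φ d = 1 → ∃ n : ℕ, d ^ (p ^ n) = 1) (T : Sylow p D)
    (hT : ¬ (T : Subgroup D).Normal) :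
    ∃ v₁ v₂ : V, LinearIndependent (ZMod p) ![v₁, v₂] ∧
      (∀ s ∈ (T : Subgroup D), Φ s v₁ = v₁) ∧
      (∀ s ∈ (T : Subgroup D), ∃ κ : ZMod p, Φ s v₂ = v₂ + κ • v₁) ∧
      (∀ s : D, Φ s v₁ = v₁ → (∃ κ : ZMod p, Φ s v₂ = v₂ + κ • v₁) → s ∈ (T : Subgroup D)) ∧
      (∃ t ∈ (T : Subgroup D), Φ t v₂ = v₂ + v₁) ∧
      (∃ g : D, Φ g v₁ = v₂ ∧ Φ g v₂ = -v₁) ∧
      ∀ c : ZMod p, c ≠ 0 → ∃ d : D, Φ d v₁ = c • v₁ ∧ Φ d v₂ = c⁻¹ • v₂ ∧
        ∀ s ∈ (T : Subgroup D), d * s * d⁻¹ ∈ (T : Subgroup D) := by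
  classical
  have hpp : p.Prime := hp.out
  have hfd : Module.Finite (ZMod p) V := Module.finite_of_finrank_pos (by omega)
  have hfV : Finite V := Module.finite_of_finite (ZMod p)
  have hcardV : Nat.card V = p ^ 2 := by
    rw [Module.natCard_eq_pow_finrank (K := ZMod p), hfin, Nat.card_zmod]
  -- a fixed vector of `T`
  letI act : MulAction (T : Subgroup D) V :=
    { smul := fun s x => Φ (s : D) x
      one_smul := fun x => by
        show Φ ((1 : (T : Subgroup D)) : D) x = x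
        simp
      mul_smul := fun a b x => by
        show Φ ((a * b : (T : Subgroup D)) : D) x = Φ (a : D) (Φ (b : D) x)
        simp }
  have hact : ∀ (s : (T : Subgroup D)) (x : V), s • x = Φ (s : D) x := fun _ _ => rfl
  have h0fix : (0 : V) ∈ MulAction.fixedPoints (T : Subgroup D) V := by
    intro s
    rw [hact, map_zero]
  obtain ⟨v₀, hv₀, hv₀0⟩ := T.isPGroup'.exists_fixed_point_of_prime_dvd_card_of_fixed_point V
    (by rw [hcardV]; exact dvd_pow_self p two_ne_zero) h0fix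
  have hv₀ne : v₀ ≠ 0 := fun h => hv₀0 h.symm
  have hfixT : ∀ s ∈ (T : Subgroup D), Φ s v₀ = v₀ := fun s hs => hv₀ ⟨s, hs⟩
  -- not normal
  obtain ⟨t, ht, g, hg⟩ : ∃ t ∈ (T : Subgroup D), ∃ g : D, g * t * g⁻¹ ∉ (T : Subgroup D) := by
    by_contra hcon
    push Not at hcon
    exact hT ⟨fun t ht g => hcon t ht g⟩
  set L := Submodule.span (ZMod p) {v₀} with hL
  have hEnd : ∀ (d : D) (n : ℕ), d ^ n = 1 → ((Φ d : V ≃ₗ[ZMod p] V) : V →ₗ[ZMod p] V) ^ n = 1 := by
    intro d n hd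
    have h1 : ∀ m : ℕ, ((Φ d : V ≃ₗ[ZMod p] V) : V →ₗ[ZMod p] V) ^ m = ((Φ (d ^ m) : V ≃ₗ[ZMod p] V) : V →ₗ[ZMod p] V) := by
      intro m
      induction m with
      | zero => simp; rfl
      | succ m ih =>
        rw [pow_succ, ih, pow_succ, map_mul]
        rfl
    rw [h1, hd, map_one]
    rfl
  -- the stabilizer of `v₀`
  let A : Subgroup D :=
    { carrier := {u | Φ u v₀ = v₀ ∧ ∀ w, Φ u w - w ∈ L}
      mul_mem' := by
        rintro a b ⟨ha1, ha2⟩ ⟨hb1, hb2⟩
        refine ⟨?_, fun w => ?_⟩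
        · rw [map_mul, LinearEquiv.mul_apply, hb1, ha1]
        · rw [map_mul, LinearEquiv.mul_apply]
          have := L.add_mem (ha2 (Φ b w)) (hb2 w)
          simpa using this
      one_mem' := by
        refine ⟨by simp, fun w => ?_⟩
        simp
      inv_mem' := by
        rintro a ⟨ha1, ha2⟩
        have hinv : ∀ w, Φ a (Φ a⁻¹ w) = w := by
          intro w
          rw [← LinearEquiv.mul_apply, ← map_mul]
          simp
        refine ⟨?_, fun w => ?_⟩
        · have h1 := hinv v₀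
          conv_lhs => rw [← ha1]
          have h2 : Φ a⁻¹ (Φ a v₀) = v₀ := by
            rw [← LinearEquiv.mul_apply, ← map_mul]
            simp
          exact h2
        · have h1 := ha2 (Φ a⁻¹ w)
          rw [hinv] at h1
          have h2 := L.neg_mem h1
          simpa using h2 }
  have hAmem : ∀ u, u ∈ A ↔ Φ u v₀ = v₀ ∧ ∀ w, Φ u w - w ∈ L := fun _ => Iff.rfl
  have hAp : IsPGroup p A := by
    intro u
    have hΦu : Φ ((u : D) ^ p) = 1 := by
      ext w
      obtain ⟨hu1, hu2⟩ := (hAmem _).mp u.2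
      set x := Φ (u : D) w - w with hx
      have hxL : x ∈ L := hu2 w
      have hxfix : Φ (u : D) x = x := by
        obtain ⟨s, hs⟩ := Submodule.mem_span_singleton.mp hxL
        rw [← hs, map_smul, hu1]
      have hw : Φ (u : D) w = w + x := by rw [hx]; abel
      have hpow : ∀ n : ℕ, Φ ((u : D) ^ n) w = w + n • x := by
        intro n
        induction n with
        | zero => simp
        | succ n ih =>
          rw [pow_succ', map_mul, LinearEquiv.mul_apply, ih, map_add, hw, map_nsmul, hxfix, succ_nsmul]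
          abel
      have h1 := hpow p
      have h2 : p • x = 0 := by
        have : (p : ZMod p) • x = p • x := Nat.cast_smul_eq_nsmul (ZMod p) p x
        rw [← this, ZMod.natCast_self, zero_smul]
      rw [h2, add_zero] at h1
      rw [h1]
      simp
    obtain ⟨n, hn⟩ := hK _ hΦu
    refine ⟨n + 1, Subtype.ext ?_⟩
    have h3 : ((u ^ p ^ (n + 1) : A) : D) = ((u : D) ^ p) ^ p ^ n := by
      simp only [SubmonoidClass.coe_pow]
      rw [← pow_mul, pow_succ']
    rw [h3, hn]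
    rfl
  have hPunip : ∀ (d : D) (n : ℕ), d ^ (p ^ n) = 1 → ∀ (v : V), v ≠ 0 → Φ d v = v → ∀ w,
      Φ d w - w ∈ Submodule.span (ZMod p) {v} := by
    intro d n hd v hv hdv w
    exact sub_mem_span_of_unipotent hfin _ (hEnd d _ hd) hv hdv w
  have hTA : (T : Subgroup D) ≤ A := by
    intro s hs
    obtain ⟨n, hn⟩ := T.isPGroup' ⟨s, hs⟩
    have hn' : s ^ p ^ n = 1 := by
      have := congrArg Subtype.val hn
      simpa using this
    exact ⟨hfixT s hs, hPunip s n hn' v₀ hv₀ne (hfixT s hs)⟩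
  have hAT : A = T := T.is_maximal' hAp hTA
  -- the second vector
  set u := g * t * g⁻¹ with hu
  obtain ⟨n, hn⟩ := T.isPGroup' ⟨t, ht⟩
  have htn : t ^ p ^ n = 1 := by
    have := congrArg Subtype.val hn
    simpa using this
  have hun : u ^ p ^ n = 1 := by
    rw [hu, conj_pow, htn]
    group
  set v₂ := Φ g v₀ with hv₂
  have hv₂ne : v₂ ≠ 0 := by
    intro h
    apply hv₀ne
    exact (Φ g).injective (by rw [map_zero]; exact h)
  have huv₂ : Φ u v₂ = v₂ := by
    rw [hu, hv₂, map_mul, map_mul]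
    show Φ g (Φ t (Φ g⁻¹ (Φ g v₀))) = Φ g v₀
    have h1 : Φ g⁻¹ (Φ g v₀) = v₀ := by
      rw [← LinearEquiv.mul_apply, ← map_mul]
      simp
    rw [h1, hfixT t ht]
  have hv₂L : v₂ ∉ L := by
    intro hmem
    obtain ⟨c, hc⟩ := Submodule.mem_span_singleton.mp hmem
    have hc0 : c ≠ 0 := by
      rintro rfl
      rw [zero_smul] at hc
      exact hv₂ne hc.symm
    have h1 : Φ u v₀ = v₀ := by
      have h2 : v₀ = c⁻¹ • v₂ := by
        rw [← hc, smul_smul, inv_mul_cancel₀ hc0, one_smul]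
      rw [h2, map_smul, huv₂]
    apply hg
    rw [← hAT]
    exact ⟨h1, hPunip u n hun v₀ hv₀ne h1⟩
  -- the basis
  have hli : LinearIndependent (ZMod p) ![v₀, v₂] := by
    rw [LinearIndependent.pair_iff]
    intro s r hsr
    by_cases hr : r = 0
    · subst hr
      rw [zero_smul, add_zero] at hsr
      exact ⟨(smul_eq_zero.mp hsr).resolve_right hv₀ne, rfl⟩
    · exfalso
      apply hv₂L
      refine Submodule.mem_span_singleton.mpr ⟨-(r⁻¹ * s), ?_⟩
      have h1 : r • v₂ = -(s • v₀) := by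
        rw [eq_neg_iff_add_eq_zero, add_comm]
        exact hsr
      have h2 : v₂ = r⁻¹ • (r • v₂) := by
        rw [smul_smul, inv_mul_cancel₀ hr, one_smul]
      rw [h2, h1, smul_neg, smul_smul, neg_smul]
  let b : Module.Basis (Fin 2) (ZMod p) V :=
    basisOfLinearIndependentOfCardEqFinrank hli (by simp [hfin])
  have hb0 : b 0 = v₀ := by
    show (basisOfLinearIndependentOfCardEqFinrank hli _) 0 = v₀
    rw [coe_basisOfLinearIndependentOfCardEqFinrank]
    rfl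
  have hb1 : b 1 = v₂ := by
    show (basisOfLinearIndependentOfCardEqFinrank hli _) 1 = v₂
    rw [coe_basisOfLinearIndependentOfCardEqFinrank]
    rfl
  have hspan : ∀ w : V, ∃ x y : ZMod p, w = x • v₀ + y • v₂ := by
    intro w
    refine ⟨b.repr w 0, b.repr w 1, ?_⟩
    conv_lhs => rw [← b.sum_repr w]
    rw [Fin.sum_univ_two, hb0, hb1]
  -- the action of `t` and `u`
  have hext : ∀ d : D, Φ d v₀ = v₀ → Φ d v₂ = v₂ → Φ d = 1 := by
    intro d h1 h2
    ext w
    obtain ⟨x, y, rfl⟩ := hspan w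
    simp [h1, h2]
  obtain ⟨a, ha⟩ := Submodule.mem_span_singleton.mp (hPunip t n htn v₀ hv₀ne (hfixT t ht) v₂)
  have hmemT : ∀ s : D, Φ s = 1 → s ∈ (T : Subgroup D) := by
    intro s hs
    rw [← hAT]
    refine ⟨by rw [hs]; rfl, fun w => ?_⟩
    rw [hs]
    simp
  have ha0 : a ≠ 0 := by
    rintro rfl
    rw [zero_smul] at ha
    have h1 : Φ t = 1 := hext t (hfixT t ht) (sub_eq_zero.mp ha.symm)
    apply hg
    apply hmemT
    rw [map_mul, map_mul, h1, map_inv]
    simp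
  obtain ⟨e, he⟩ := Submodule.mem_span_singleton.mp (hPunip u n hun v₂ hv₂ne huv₂ v₀)
  have he0 : e ≠ 0 := by
    rintro rfl
    rw [zero_smul] at he
    apply hg
    rw [← hAT]
    exact ⟨sub_eq_zero.mp he.symm, hPunip u n hun v₀ hv₀ne (sub_eq_zero.mp he.symm)⟩
  -- the new first vector
  set v₁ := a • v₀ with hv₁
  have hfixT₁ : ∀ s ∈ (T : Subgroup D), Φ s v₁ = v₁ := by
    intro s hs
    rw [hv₁, map_smul, hfixT s hs]
  have hLv₁ : ∀ c : ZMod p, c • v₀ = (c * a⁻¹) • v₁ := by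
    intro c
    rw [hv₁, smul_smul, mul_assoc, inv_mul_cancel₀ ha0, mul_one]
  have hfixt : ∀ m : ℕ, Φ (t ^ m) v₁ = v₁ := fun m => hfixT₁ _ (Subgroup.pow_mem _ ht _)
  have hpowt : ∀ m : ℕ, Φ (t ^ m) v₂ = v₂ + (m : ZMod p) • v₁ := by
    intro m
    induction m with
    | zero => simp
    | succ m ih =>
      rw [pow_succ, map_mul, LinearEquiv.mul_apply]
      have h1 : Φ t v₂ = v₂ + v₁ := by rw [ha]; abel
      rw [h1, map_add, ih, hfixt, Nat.cast_succ, add_smul, one_smul, add_assoc]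
  have hfixu : ∀ m : ℕ, Φ (u ^ m) v₂ = v₂ := by
    intro m
    induction m with
    | zero => simp
    | succ m ih => rw [pow_succ, map_mul, LinearEquiv.mul_apply, huv₂, ih]
  have hpowu : ∀ m : ℕ, Φ (u ^ m) v₁ = v₁ + (m : ZMod p) • ((a * e) • v₂) := by
    intro m
    induction m with
    | zero => simp
    | succ m ih =>
      rw [pow_succ, map_mul, LinearEquiv.mul_apply]
      have h1 : Φ u v₁ = v₁ + (a * e) • v₂ := by
        rw [hv₁, map_smul]
        have h2 : Φ u v₀ = v₀ + e • v₂ := by rw [he]; abel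
        rw [h2, smul_add, smul_smul]
      rw [h1, map_add, ih, map_smul, hfixu, Nat.cast_succ, add_smul, one_smul, add_assoc]
  have hnatc : ∀ c : ZMod p, ((c.val : ℕ) : ZMod p) = c := fun c => by
    rw [ZMod.natCast_val, ZMod.cast_id', id]
  -- elementary operations
  let x : ZMod p → D := fun c => t ^ c.val
  let y : ZMod p → D := fun c => u ^ (c * (a * e)⁻¹).val
  have hae0 : a * e ≠ 0 := mul_ne_zero ha0 he0
  have hx1 : ∀ c, Φ (x c) v₁ = v₁ := fun c => hfixt _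
  have hx2 : ∀ c, Φ (x c) v₂ = v₂ + c • v₁ := fun c => by
    show Φ (t ^ c.val) v₂ = _
    rw [hpowt, hnatc]
  have hy2 : ∀ c, Φ (y c) v₂ = v₂ := fun c => hfixu _
  have hy1 : ∀ c, Φ (y c) v₁ = v₁ + c • v₂ := fun c => by
    show Φ (u ^ (c * (a * e)⁻¹).val) v₁ = _
    rw [hpowu, hnatc, smul_smul, mul_assoc, inv_mul_cancel₀ hae0, mul_one]
  let w : ZMod p → D := fun c => x c * y (-c⁻¹) * x c
  have hw1 : ∀ c, c ≠ 0 → Φ (w c) v₁ = (-c⁻¹) • v₂ := by
    intro c hc
    show Φ (x c * y (-c⁻¹) * x c) v₁ = _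
    have hd : 1 - c⁻¹ * c = 0 := by rw [inv_mul_cancel₀ hc, sub_self]
    generalize c⁻¹ = d at hd
    rw [map_mul, map_mul, LinearEquiv.mul_apply, LinearEquiv.mul_apply, hx1, hy1, map_add, hx1, map_smul, hx2]
    calc v₁ + (-d) • (v₂ + c • v₁) = (-d) • v₂ + (1 - d * c) • v₁ := by module
      _ = _ := by rw [hd, zero_smul, add_zero]
  have hw2 : ∀ c, c ≠ 0 → Φ (w c) v₂ = c • v₁ := by
    intro c hc
    show Φ (x c * y (-c⁻¹) * x c) v₂ = _
    have hd : 1 - c⁻¹ * c = 0 := by rw [inv_mul_cancel₀ hc, sub_self]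
    generalize c⁻¹ = d at hd
    simp only [map_mul, LinearEquiv.mul_apply, hx2, hx1, hy2, hy1, map_add, map_smul]
    calc v₂ + c • v₁ + c • (v₁ + (-d) • (v₂ + c • v₁)) = c • v₁ + (1 - d * c) • (v₂ + c • v₁) := by module
      _ = _ := by rw [hd, zero_smul, add_zero]
  have hw1one : Φ (w 1) v₁ = -v₂ := by
    have := hw1 1 one_ne_zero
    simpa using this
  have hw1two : Φ (w 1) v₂ = v₁ := by
    have := hw2 1 one_ne_zero
    simpa using this
  have hwi1 : Φ (w 1)⁻¹ v₁ = v₂ := by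
    rw [← hw1two]
    rw [← LinearEquiv.mul_apply, ← map_mul]
    simp
  have hwi2 : Φ (w 1)⁻¹ v₂ = -v₁ := by
    have h1 : Φ (w 1)⁻¹ (Φ (w 1) v₁) = v₁ := by
      rw [← LinearEquiv.mul_apply, ← map_mul]
      simp
    rw [hw1one, map_neg] at h1
    rw [← h1, neg_neg]
  -- reduction to `T`
  have hL₁ : ∀ z ∈ L, ∃ κ : ZMod p, z = κ • v₁ := by
    intro z hz
    obtain ⟨κ, rfl⟩ := Submodule.mem_span_singleton.mp hz
    exact ⟨κ * a⁻¹, hLv₁ κ⟩
  have hv₁L : ∀ κ : ZMod p, κ • v₁ ∈ L := by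
    intro κ
    rw [hv₁, smul_smul]
    exact L.smul_mem _ (Submodule.mem_span_singleton_self v₀)
  have hmem : ∀ s : D, Φ s v₁ = v₁ → (∃ κ : ZMod p, Φ s v₂ = v₂ + κ • v₁) → s ∈ (T : Subgroup D) := by
    rintro s hs1 ⟨κ, hκ⟩
    rw [← hAT]
    have hs0 : Φ s v₀ = v₀ := by
      have e : v₀ = a⁻¹ • v₁ := by rw [hv₁, smul_smul, inv_mul_cancel₀ ha0, one_smul]
      rw [e, map_smul, hs1]
    refine ⟨hs0, fun z => ?_⟩
    obtain ⟨α, β, rfl⟩ := hspan z
    rw [map_add, map_smul, map_smul, hs0, hκ]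
    have : α • v₀ + β • (v₂ + κ • v₁) - (α • v₀ + β • v₂) = (β * κ) • v₁ := by module
    rw [this]
    exact hv₁L _
  have hT₂ : ∀ s ∈ (T : Subgroup D), ∃ κ : ZMod p, Φ s v₂ = v₂ + κ • v₁ := by
    intro s hs
    have h1 : s ∈ A := hAT ▸ hs
    obtain ⟨κ, hκ⟩ := hL₁ _ (h1.2 v₂)
    exact ⟨κ, by rw [← hκ]; abel⟩
  have hli₁ : LinearIndependent (ZMod p) ![v₁, v₂] := by
    rw [LinearIndependent.pair_iff]
    intro α β hαβ
    rw [LinearIndependent.pair_iff] at hli
    have h1 := hli (α * a) β (by rw [← hαβ, hv₁, smul_smul])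
    exact ⟨(mul_eq_zero.mp h1.1).resolve_right ha0, h1.2⟩
  refine ⟨v₁, v₂, hli₁, hfixT₁, hT₂, hmem, ⟨t, ht, ?_⟩, ⟨(w 1)⁻¹, hwi1, hwi2⟩, ?_⟩
  · rw [ha]; abel
  · intro c hc
    have hd1 : Φ (w c * (w 1)⁻¹) v₁ = c • v₁ := by
      rw [map_mul, LinearEquiv.mul_apply, hwi1, hw2 c hc]
    have hd2 : Φ (w c * (w 1)⁻¹) v₂ = c⁻¹ • v₂ := by
      rw [map_mul, LinearEquiv.mul_apply, hwi2, map_neg, hw1 c hc, neg_smul, neg_neg]
    refine ⟨w c * (w 1)⁻¹, hd1, hd2, ?_⟩
    intro s hs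
    set d := w c * (w 1)⁻¹ with hd
    have hdi1 : Φ d⁻¹ v₁ = c⁻¹ • v₁ := by
      have h1 : Φ d⁻¹ (Φ d v₁) = v₁ := by
        rw [← LinearEquiv.mul_apply, ← map_mul]
        simp
      rw [hd1, map_smul] at h1
      calc Φ d⁻¹ v₁ = c⁻¹ • (c • Φ d⁻¹ v₁) := by rw [smul_smul, inv_mul_cancel₀ hc, one_smul]
        _ = c⁻¹ • v₁ := by rw [h1]
    have hdi2 : Φ d⁻¹ v₂ = c • v₂ := by
      have h1 : Φ d⁻¹ (Φ d v₂) = v₂ := by
        rw [← LinearEquiv.mul_apply, ← map_mul]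
        simp
      rw [hd2, map_smul] at h1
      calc Φ d⁻¹ v₂ = c • (c⁻¹ • Φ d⁻¹ v₂) := by rw [smul_smul, mul_inv_cancel₀ hc, one_smul]
        _ = c • v₂ := by rw [h1]
    obtain ⟨κ, hκ⟩ := hT₂ s hs
    apply hmem
    · rw [map_mul, map_mul, LinearEquiv.mul_apply, LinearEquiv.mul_apply, hdi1, map_smul, hfixT₁ s hs, map_smul, hd1,
        smul_smul, inv_mul_cancel₀ hc, one_smul]
    · refine ⟨c * κ * c, ?_⟩
      rw [map_mul, map_mul, LinearEquiv.mul_apply, LinearEquiv.mul_apply, hdi2, map_smul, hκ, map_smul, map_add,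
        map_smul, hd1, hd2]
      have e : c • (c⁻¹ • v₂ + κ • c • v₁) = (c * c⁻¹) • v₂ + (c * κ * c) • v₁ := by module
      rw [e, mul_inv_cancel₀ hc, one_smul]

end Cfsg.Agent.Lib.FusionCartan
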