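/-
FusionCentSec: local models of the centralizer system of a normal subgroup are sections of local models of the whole
system.  Let `W` be normal in `F`, `D` its centralizer system, `U` fully normalized and centric in `D`.  Then `U ⊔ W` is
centric in `F`, and a model of the normalizer of `U` in `D` is a section of a model of the normalizer system of a fully
normalized conjugate of `U ⊔ W`.
-/
import Mathlib
import Cfsg.Agent.Lib.FusionSparse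
import Cfsg.Agent.Lib.FusionNormSec

set_option autoImplicit false

namespace Cfsg.Agent.Lib.FusionCentSec

open Cfsg Cfsg.FusionSystem Cfsg.Agent.Lib.FusionCore Cfsg.Agent.Lib.FusionCore2 Cfsg.Agent.Lib.FusionCore3
open Cfsg.Agent.Lib.FusionGT Cfsg.Agent.Lib.FusionMono Cfsg.Agent.Lib.FusionNormSec
open Cfsg.Agent.Lib.FusionSparse

universe u v

variable {Ω : Type u} [Group Ω] {S : Subgroup Ω} [Finite S] {F : FusionSystem S} {p : ℕ} [hp : Fact p.Prime]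

section Back

variable {W U : Subgroup Ω} {D : FusionSystem (centralizerIn S W)}

/-- Going back from an image of `U ⊔ W`: any map of `F` on `U ⊔ W` is, up to a map on `C_S(W) ⊔ W`, a map of `D`. -/
lemma exists_back (hS : IsPGroup p S) (hF : F.IsSaturated p) (hW : F.IsNormal W)
    (hD : F.IsCentralizerSystem W D) (hUC : U ≤ centralizerIn S W) {τ : Ω → Ω} (hτ : Maps F (U ⊔ W) τ) :
    ∃ ζ, Maps F (centralizerIn S W ⊔ W) ζ ∧ (∀ x ∈ centralizerIn S W, ζ x ∈ centralizerIn S W) ∧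
      img τ W = W ∧ img τ U ≤ centralizerIn S W ∧ D.IsConj U (img ζ (img τ U)) := by
  have hWS : W ≤ S := hW.1
  have hsc := stronglyClosed_of_isNormal hW
  have hCsc := stronglyClosed_cent hW
  have hn : F.IsFullyNormalized W := ⟨hWS, fun Q' hQ' => by rw [conj_eq_of_isNormal hW hQ']⟩
  obtain ⟨hfc, hfa⟩ := of_fullyNormalized hS hF hn
  have hrec := receptive_of_fullyCentralized hS hF hfc
  have hτW : Maps F W τ := hτ.restrict le_sup_right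
  have hτi : img τ W = W := StronglyClosed.img_eq hsc le_sup_right hτ
  obtain ⟨τ', hτ', hi1, hi2⟩ := hτW.inv
  rw [hτi] at hτ'
  have hτ'i : img τ' W = W := StronglyClosed.img_eq hsc le_rfl hτ'
  obtain ⟨g, hg, hgv⟩ := IsReceptive.ext hrec hτ' hτ'i
  have hle : centralizerIn S W ⊔ W ≤ Nf S W τ' := sup_le (centralizerIn_le_Nf hτ') (le_Nf hτ')
  have hζ : Maps F (centralizerIn S W ⊔ W) g := hg.restrict hle
  have hζv : ∀ x ∈ centralizerIn S W, g x ∈ centralizerIn S W := fun x hx =>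
    StronglyClosed.maps hCsc le_rfl (hζ.restrict le_sup_left) hx
  have hτU : Maps F U τ := hτ.restrict le_sup_left
  have hUimg : img τ U ≤ centralizerIn S W := by
    intro y hy
    obtain ⟨u, hu, rfl⟩ := hτU.mem_img.1 hy
    exact StronglyClosed.maps hCsc hUC hτU hu
  have hτv : ∀ x ∈ U ⊔ W, τ x ∈ centralizerIn S W ⊔ W := hτ.sup_mem
    (fun u hu => Subgroup.mem_sup_left (hUimg (hτU.mem_img_of_mem hu)))
    (fun w hw => Subgroup.mem_sup_right (StronglyClosed.maps hsc le_rfl hτW hw))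
  have hcomp : Maps F (U ⊔ W) (g ∘ τ) := hτ.comp hζ hτv
  refine ⟨g, hζ, hζv, hτi, hUimg, isConj_iff.2 ⟨g ∘ τ, ?_, ?_⟩⟩
  · refine (maps_cent_iff hD).2 ⟨hcomp.restrict le_sup_left, hUC, fun x hx => ?_, g ∘ τ, hcomp, fun _ _ => rfl,
      fun x hx => ?_⟩
    · exact hζv _ (hUimg (hτU.mem_img_of_mem hx))
    · show g (τ x) = x
      rw [hgv _ (StronglyClosed.maps hsc le_rfl hτW hx), hi1 x hx]
  · exact img_comp hτU (hζ.restrict (hUimg.trans le_sup_left))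

/-- `U ⊔ W` is centric in the whole system. -/
theorem centric_sup (hS : IsPGroup p S) (hF : F.IsSaturated p) (hW : F.IsNormal W)
    (hD : F.IsCentralizerSystem W D) (hUc : D.IsCentric U) : F.IsCentric (U ⊔ W) := by
  have hUC := hUc.1
  have hUS : U ⊔ W ≤ S := sup_le (hUC.trans inf_le_left) hW.1
  refine ⟨hUS, fun U₂ h => ?_⟩
  obtain ⟨τ, hτ, rfl⟩ := isConj_iff.1 h
  obtain ⟨ζ, hζ, hζv, hτW, hUimg, hconj⟩ := exists_back hS hF hW hD hUC hτ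
  intro c hc
  obtain ⟨hcS, hcc⟩ := mem_centralizerIn.1 hc
  have hcC : c ∈ centralizerIn S W := by
    refine mem_centralizerIn.2 ⟨hcS, fun w hw => ?_⟩
    rw [← hτW] at hw
    exact hcc w (hτ.img_mono le_sup_right hw)
  have hA : img τ U ≤ centralizerIn S W ⊔ W := hUimg.trans le_sup_left
  have hcA : c ∈ centralizerIn S W ⊔ W := Subgroup.mem_sup_left hcC
  have hcen : ζ c ∈ centralizerIn (centralizerIn S W) (img ζ (img τ U)) := by
    refine mem_centralizerIn.2 ⟨hζv c hcC, fun y hy => ?_⟩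
    obtain ⟨z, hz, rfl⟩ := (hζ.restrict hA).mem_img.1 hy
    rw [← hζ.map_mul (hA hz) hcA, ← hζ.map_mul hcA (hA hz), hcc z (hτ.img_mono le_sup_left hz)]
  have h2 := hUc.2 _ hconj hcen
  obtain ⟨y, hy, hye⟩ := (hζ.restrict hA).mem_img.1 h2
  have h3 : y = c := hζ.inj (hA hy) hcA hye
  rw [← h3]
  exact hτ.img_mono le_sup_left hy

/-- The size of a subgroup normalizing an image of `U` and centralizing `W`. -/
lemma card_le_of_normalizes (hS : IsPGroup p S) (hF : F.IsSaturated p) (hW : F.IsNormal W)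
    (hD : F.IsCentralizerSystem W D) (hUn : D.IsFullyNormalized U) {τ : Ω → Ω} (hτ : Maps F (U ⊔ W) τ)
    {X : Subgroup Ω} (hXS : X ≤ S) (h1 : X ≤ Subgroup.normalizer (img τ U : Set Ω))
    (h2 : ∀ x ∈ X, ∀ w ∈ W, w * x = x * w) :
    Nat.card X ≤ Nat.card (normalizerIn (centralizerIn S W) U) := by
  obtain ⟨ζ, hζ, hζv, hτW, hUimg, hconj⟩ := exists_back hS hF hW hD hUn.1 hτ
  have hXC : X ≤ centralizerIn S W := fun x hx => mem_centralizerIn.2 ⟨hXS hx, h2 x hx⟩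
  have hXA : X ≤ centralizerIn S W ⊔ W := hXC.trans le_sup_left
  have h3 := hUn.2 _ hconj
  refine le_trans ?_ h3
  rw [← (hζ.restrict hXA).card_img]
  haveI : Finite ↥(normalizerIn (centralizerIn S W) (img ζ (img τ U))) :=
    finite_of_le ((inf_le_left : _ ≤ centralizerIn S W).trans inf_le_left)
  refine Subgroup.card_le_of_le ?_
  intro y hy
  obtain ⟨x, hx, rfl⟩ := (hζ.restrict hXA).mem_img.1 hy
  exact mem_normalizerIn.2 ⟨hζv x (hXC hx), norm_img hζ (hUimg.trans le_sup_left) (hXA hx) (h1 hx)⟩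

end Back

section Setup

variable {L : Type v} [Group L]

/-- The hypotheses of the section. -/
structure Ctx (p : ℕ) [Fact p.Prime] (F : FusionSystem S) (W U U₁ : Subgroup Ω) (D : FusionSystem (centralizerIn S W))
    (N' : FusionSystem (normalizerIn (centralizerIn S W) U)) (E : FusionSystem (normalizerIn S U₁))
    (ξ : Ω → Ω) (ι : ↥(normalizerIn S U₁) →* L) : Prop where
  hS : IsPGroup p S
  hF : F.IsSaturated p
  hW : F.IsNormal W
  hD : F.IsCentralizerSystem W D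
  hUn : D.IsFullyNormalized U
  hUc : D.IsCentric U
  hN' : D.IsNormalizerSystem U N'
  hξ : Maps F (normalizerIn S (U ⊔ W)) ξ
  hξv : ∀ x ∈ normalizerIn S (U ⊔ W), ξ x ∈ normalizerIn S U₁
  hξi : img ξ (U ⊔ W) = U₁
  hE : F.IsNormalizerSystem U₁ E
  hM : E.IsModel p L ι
  hU : E.IsNormal U₁

namespace Ctx

variable {W U U₁ : Subgroup Ω} {D : FusionSystem (centralizerIn S W)}
  {N' : FusionSystem (normalizerIn (centralizerIn S W) U)} {E : FusionSystem (normalizerIn S U₁)}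
  {ξ : Ω → Ω} {ι : ↥(normalizerIn S U₁) →* L}

lemma WS (h : Ctx p F W U U₁ D N' E ξ ι) : W ≤ S := h.hW.1
lemma UC (h : Ctx p F W U U₁ D N' E ξ ι) : U ≤ centralizerIn S W := h.hUc.1
lemma RS (h : Ctx p F W U U₁ D N' E ξ ι) : U ≤ S := h.UC.trans inf_le_left
lemma US (h : Ctx p F W U U₁ D N' E ξ ι) : U ⊔ W ≤ S := sup_le h.RS h.WS
lemma UD (h : Ctx p F W U U₁ D N' E ξ ι) : U ⊔ W ≤ normalizerIn S (U ⊔ W) := le_normalizerIn h.US
lemma T₁T : normalizerIn (centralizerIn S W) U ≤ centralizerIn S W := inf_le_left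

/-- The normalizer of `U` in `C_S(W)` normalizes `U ⊔ W`. -/
lemma T₁D (h : Ctx p F W U U₁ D N' E ξ ι) : normalizerIn (centralizerIn S W) U ≤ normalizerIn S (U ⊔ W) := by
  intro x hx
  obtain ⟨hx1, hx2⟩ := mem_normalizerIn.1 hx
  obtain ⟨hx3, hx4⟩ := mem_centralizerIn.1 hx1
  haveI : Finite ↥(U ⊔ W) := finite_of_le h.US
  have hx5 : x ∈ Subgroup.normalizer (W : Set Ω) := mem_normalizer_of_conj_eq (fun y hy => by
    rw [← hx4 y hy]
    group)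
  exact mem_normalizerIn.2 ⟨hx3, mem_normalizer_of_conj_mem (mem_normalizer_sup_aux hx2 hx5)⟩

lemma U₁S (h : Ctx p F W U U₁ D N' E ξ ι) : U₁ ≤ S := by
  rw [← h.hξi]
  exact (h.hξ.restrict h.UD).img_le

lemma U₁TU (h : Ctx p F W U U₁ D N' E ξ ι) : U₁ ≤ normalizerIn S U₁ := le_normalizerIn h.U₁S

lemma mem_U₁ (h : Ctx p F W U U₁ D N' E ξ ι) {x : Ω} (hx : x ∈ U ⊔ W) : ξ x ∈ U₁ := by
  rw [← h.hξi]
  exact (h.hξ.restrict h.UD).mem_img_of_mem hx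

lemma inj (h : Ctx p F W U U₁ D N' E ξ ι) : Function.Injective ι := h.hM.2.1.1

lemma inj' (h : Ctx p F W U U₁ D N' E ξ ι) {x y : Ω} {hx : x ∈ normalizerIn S U₁} {hy : y ∈ normalizerIn S U₁}
    (hxy : ι ⟨x, hx⟩ = ι ⟨y, hy⟩) : x = y := congrArg Subtype.val (h.inj hxy)

/-- The subgroup `Y` of `L`. -/
def YY (ξ : Ω → Ω) (ι : ↥(normalizerIn S U₁) →* L) (W U : Subgroup Ω) : Subgroup L :=
  Subgroup.normalizer (AA ι (img ξ U) : Set L) ⊓ Subgroup.centralizer (AA ι (img ξ W) : Set L)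

lemma img_le (h : Ctx p F W U U₁ D N' E ξ ι) {V : Subgroup Ω} (hV : V ≤ U ⊔ W) : img ξ V ≤ normalizerIn S U₁ := by
  intro y hy
  obtain ⟨x, hx, rfl⟩ := (h.hξ.restrict (hV.trans h.UD)).mem_img.1 hy
  exact h.hξv x (h.UD (hV hx))

/-- Membership in the normalizer through `ξ`. -/
lemma norm_iff (h : Ctx p F W U U₁ D N' E ξ ι) {V : Subgroup Ω} (hV : V ≤ U ⊔ W) {g : L} :
    g ∈ Subgroup.normalizer (AA ι (img ξ V) : Set L) ↔
      ∀ x (hx : x ∈ V), ∃ x', ∃ (hx' : x' ∈ V), ι ⟨ξ x', h.hξv _ (h.UD (hV hx'))⟩ = g * ι ⟨ξ x, h.hξv _ (h.UD (hV hx))⟩ * g⁻¹ := by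
  haveI := h.hM.1
  have hm := h.hξ.restrict (hV.trans h.UD)
  rw [mem_norm_AA (h.img_le hV)]
  constructor
  · intro hg x hx
    obtain ⟨x', hx', he⟩ := hg (ξ x) (hm.mem_img_of_mem hx)
    obtain ⟨z, hz, rfl⟩ := hm.mem_img.1 hx'
    exact ⟨z, hz, he⟩
  · intro hg y hy
    obtain ⟨x, hx, rfl⟩ := hm.mem_img.1 hy
    obtain ⟨x', hx', he⟩ := hg x hx
    exact ⟨ξ x', hm.mem_img_of_mem hx', he⟩

/-- Membership in the centralizer through `ξ`. -/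
lemma cent_iff (h : Ctx p F W U U₁ D N' E ξ ι) {g : L} :
    g ∈ Subgroup.centralizer (AA ι (img ξ W) : Set L) ↔
      ∀ x (hx : x ∈ W), ι ⟨ξ x, h.hξv _ (h.UD (Subgroup.mem_sup_right hx))⟩ =
        g * ι ⟨ξ x, h.hξv _ (h.UD (Subgroup.mem_sup_right hx))⟩ * g⁻¹ := by
  have hm := h.hξ.restrict ((le_sup_right : W ≤ U ⊔ W).trans h.UD)
  constructor
  · intro hg x hx
    have h1 : ι ⟨ξ x, h.hξv _ (h.UD (Subgroup.mem_sup_right hx))⟩ ∈ AA ι (img ξ W) :=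
      mem_AA.2 ⟨ξ x, _, hm.mem_img_of_mem hx, rfl⟩
    have h2 := Subgroup.mem_centralizer_iff.1 hg _ h1
    rw [← h2]
    group
  · intro hg
    refine Subgroup.mem_centralizer_iff.2 fun y hy => ?_
    obtain ⟨z, hzT, hzW, rfl⟩ := mem_AA.1 hy
    obtain ⟨x, hx, rfl⟩ := hm.mem_img.1 hzW
    have h3 := hg x hx
    rw [eq_mul_inv_iff_mul_eq] at h3
    exact h3

/-- The values of `ξ` on the normalizer of `U` in `C_S(W)`. -/
noncomputable def ι₁ (h : Ctx p F W U U₁ D N' E ξ ι) : ↥(normalizerIn (centralizerIn S W) U) →* L :=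
  MonoidHom.mk' (fun t => ι ⟨ξ t, h.hξv _ (h.T₁D t.2)⟩) (fun a b => by
    rw [← _root_.map_mul]
    congr 1
    exact Subtype.ext (h.hξ.map_mul (h.T₁D a.2) (h.T₁D b.2)))

@[simp] lemma ι₁_apply (h : Ctx p F W U U₁ D N' E ξ ι) (t : ↥(normalizerIn (centralizerIn S W) U)) :
    h.ι₁ t = ι ⟨ξ t, h.hξv _ (h.T₁D t.2)⟩ := rfl

lemma ι₁_mem (h : Ctx p F W U U₁ D N' E ξ ι) (t : ↥(normalizerIn (centralizerIn S W) U)) :
    h.ι₁ t ∈ YY ξ ι W U := by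
  obtain ⟨t, ht⟩ := t
  obtain ⟨hx1, hx2⟩ := mem_normalizerIn.1 ht
  obtain ⟨hx3, hx4⟩ := mem_centralizerIn.1 hx1
  have htD := h.T₁D ht
  refine ⟨(h.norm_iff le_sup_left).2 fun x hx => ?_, h.cent_iff.2 fun x hx => ?_⟩
  · have hxD := h.UD ((le_sup_left : U ≤ U ⊔ W) hx)
    have hc : t * x * t⁻¹ ∈ U := (Subgroup.mem_normalizer_iff.1 hx2 x).1 hx
    refine ⟨t * x * t⁻¹, hc, ?_⟩
    rw [ι₁_apply, ← _root_.map_inv, ← _root_.map_mul, ← _root_.map_mul]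
    congr 1
    exact Subtype.ext (h.hξ.map_conj htD hxD)
  · have hxD := h.UD (Subgroup.mem_sup_right hx)
    rw [ι₁_apply, ← _root_.map_inv, ← _root_.map_mul, ← _root_.map_mul]
    congr 1
    apply Subtype.ext
    show ξ x = ξ t * ξ x * (ξ t)⁻¹
    rw [← h.hξ.map_conj htD hxD]
    congr 1
    rw [← hx4 x hx]
    group

/-- The map into `Y`. -/
noncomputable def ι₀ (h : Ctx p F W U U₁ D N' E ξ ι) : ↥(normalizerIn (centralizerIn S W) U) →* YY ξ ι W U :=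
  h.ι₁.codRestrict _ h.ι₁_mem

lemma ι₀_coe (h : Ctx p F W U U₁ D N' E ξ ι) (t : ↥(normalizerIn (centralizerIn S W) U)) :
    ((h.ι₀ t : YY ξ ι W U) : L) = ι ⟨ξ t, h.hξv _ (h.T₁D t.2)⟩ := rfl

lemma ι₀_inj (h : Ctx p F W U U₁ D N' E ξ ι) : Function.Injective h.ι₀ := by
  intro a b hab
  have h1 : ι ⟨ξ a, h.hξv _ (h.T₁D a.2)⟩ = ι ⟨ξ b, h.hξv _ (h.T₁D b.2)⟩ := congrArg Subtype.val hab
  exact Subtype.ext (h.hξ.inj (h.T₁D a.2) (h.T₁D b.2) (h.inj' h1))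

/-- The forward direction of the realization. -/
lemma real_forward (h : Ctx p F W U U₁ D N' E ξ ι) {P : Subgroup Ω} {f : Ω → Ω} (hm : Maps N' P f) :
    ∃ g : YY ξ ι W U, ∀ x (hx : x ∈ P), ∃ (hfx : f x ∈ normalizerIn (centralizerIn S W) U) (hxT : x ∈ normalizerIn (centralizerIn S W) U),
      ι ⟨ξ (f x), h.hξv _ (h.T₁D hfx)⟩ = (g : L) * ι ⟨ξ x, h.hξv _ (h.T₁D hxT)⟩ * (g : L)⁻¹ := by
  haveI := h.hM.1
  obtain ⟨hmN, hPT₁, hval, g₁, hg₁, h1, h2⟩ := (maps_norm_iff h.hN').1 hm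
  obtain ⟨hg₁F, hP₁T, hval₁, g₂, hg₂, h3, h4⟩ := (maps_cent_iff h.hD).1 hg₁
  have hgR : ∀ r ∈ U, g₂ r ∈ U := by
    intro r hr
    have hr' : r ∈ P ⊔ U := Subgroup.mem_sup_right hr
    rw [h3 r hr', ← h2]
    exact (hg₁.restrict le_sup_right).mem_img_of_mem hr
  have hgQ : ∀ q ∈ W, g₂ q ∈ W := by
    intro q hq
    rw [h4 q hq]
    exact hq
  have hgP : ∀ x ∈ P, g₂ x = f x := fun x hx => by
    rw [h3 x (Subgroup.mem_sup_left hx), h1 x hx]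
  have hPD : P ≤ normalizerIn S (U ⊔ W) := hPT₁.trans h.T₁D
  have hRD : U ≤ normalizerIn S (U ⊔ W) := (le_sup_left : U ≤ U ⊔ W).trans h.UD
  have hQD : W ≤ normalizerIn S (U ⊔ W) := (le_sup_right : W ≤ U ⊔ W).trans h.UD
  have hAD : (P ⊔ U) ⊔ W ≤ normalizerIn S (U ⊔ W) := sup_le (sup_le hPD hRD) hQD
  have hg₂D : ∀ a ∈ (P ⊔ U) ⊔ W, g₂ a ∈ normalizerIn S (U ⊔ W) := by
    refine hg₂.sup_mem ?_ (fun q hq => hQD (hgQ q hq))
    refine (hg₂.restrict le_sup_left).sup_mem (fun x hx => ?_) (fun r hr => hRD (hgR r hr))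
    rw [hgP x hx]
    exact h.T₁D (hval x hx)
  have hξA : Maps F ((P ⊔ U) ⊔ W) ξ := h.hξ.restrict hAD
  have hcomp : Maps F ((P ⊔ U) ⊔ W) (ξ ∘ g₂) := hg₂.comp h.hξ hg₂D
  obtain ⟨ξ', hξ', hi1, hi2⟩ := hξA.inv
  have hB : ∀ y ∈ img ξ ((P ⊔ U) ⊔ W), ξ' y ∈ (P ⊔ U) ⊔ W := fun y hy => (hi2 y hy).1
  obtain ⟨ψ, hψ⟩ : ∃ ψ, ψ = (ξ ∘ g₂) ∘ ξ' := ⟨_, rfl⟩
  have hψm : Maps F (img ξ ((P ⊔ U) ⊔ W)) ψ := by
    rw [hψ]
    exact hξ'.comp hcomp hB
  have hψa : ∀ a ∈ (P ⊔ U) ⊔ W, ψ (ξ a) = ξ (g₂ a) := fun a ha => by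
    rw [hψ]
    show ξ (g₂ (ξ' (ξ a))) = _
    rw [hi1 a ha]
  have hBT : img ξ ((P ⊔ U) ⊔ W) ≤ normalizerIn S U₁ := by
    intro y hy
    obtain ⟨a, ha, rfl⟩ := hξA.mem_img.1 hy
    exact h.hξv a (hAD ha)
  have hψT : ∀ y ∈ img ξ ((P ⊔ U) ⊔ W), ψ y ∈ normalizerIn S U₁ := by
    intro y hy
    obtain ⟨a, ha, rfl⟩ := hξA.mem_img.1 hy
    rw [hψa a ha]
    exact h.hξv _ (hg₂D a ha)
  have hRQA : U ⊔ W ≤ (P ⊔ U) ⊔ W := sup_le_sup_right le_sup_right W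
  have hU₁B : U₁ ≤ img ξ ((P ⊔ U) ⊔ W) := by
    rw [← h.hξi]
    exact hξA.img_mono hRQA
  have hg₂U : ∀ w ∈ U ⊔ W, g₂ w ∈ U ⊔ W := (hg₂.restrict hRQA).sup_mem
    (fun r hr => Subgroup.mem_sup_left (hgR r hr)) (fun q hq => Subgroup.mem_sup_right (hgQ q hq))
  have hψU : ∀ u ∈ U₁, ψ u ∈ U₁ := by
    intro u hu
    rw [← h.hξi] at hu
    obtain ⟨w, hw, rfl⟩ := (hξA.restrict hRQA).mem_img.1 hu
    rw [hψa w (hRQA hw)]
    exact h.mem_U₁ (hg₂U w hw)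
  have himg : img ψ U₁ = U₁ := img_eq_of_card (hψm.restrict hU₁B) h.U₁S h.U₁S hψU le_rfl
  have hψE : Maps E (img ξ ((P ⊔ U) ⊔ W)) ψ := (maps_norm_iff h.hE).2 ⟨hψm, hBT, hψT, ψ, by
    rw [sup_eq_left.2 hU₁B]
    exact hψm, fun _ _ => rfl, himg⟩
  obtain ⟨g, hg⟩ := real_of_maps h.hM.2.1 hψE
  have hgN : g ∈ Subgroup.normalizer (AA ι (img ξ U) : Set L) := by
    refine (h.norm_iff le_sup_left).2 fun x hx => ?_
    refine ⟨g₂ x, hgR x hx, ?_⟩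
    have hxA : x ∈ (P ⊔ U) ⊔ W := hRQA (Subgroup.mem_sup_left hx)
    have h5 := hg (ξ x) (hξA.mem_img_of_mem hxA)
    rw [← h5]
    congr 1
    exact Subtype.ext (hψa x hxA).symm
  have hgC : g ∈ Subgroup.centralizer (AA ι (img ξ W) : Set L) := by
    refine h.cent_iff.2 fun x hx => ?_
    have hxA : x ∈ (P ⊔ U) ⊔ W := hRQA (Subgroup.mem_sup_right hx)
    have h5 := hg (ξ x) (hξA.mem_img_of_mem hxA)
    rw [← h5]
    congr 1
    apply Subtype.ext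
    show ξ x = ψ (ξ x)
    rw [hψa x hxA, h4 x hx]
  refine ⟨⟨g, hgN, hgC⟩, fun x hx => ⟨hval x hx, hPT₁ hx, ?_⟩⟩
  have hxA : x ∈ (P ⊔ U) ⊔ W := Subgroup.mem_sup_left (Subgroup.mem_sup_left hx)
  have h5 := hg (ξ x) (hξA.mem_img_of_mem hxA)
  show _ = g * _ * g⁻¹
  rw [← h5]
  congr 1
  apply Subtype.ext
  show ξ (f x) = ψ (ξ x)
  rw [hψa x hxA, hgP x hx]

/-- The backward direction of the realization. -/
lemma real_backward (h : Ctx p F W U U₁ D N' E ξ ι) {P : Subgroup Ω} (hPT₁ : P ≤ normalizerIn (centralizerIn S W) U)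
    {f : Ω → Ω} (hfv : ∀ x ∈ P, f x ∈ normalizerIn (centralizerIn S W) U) (y : YY ξ ι W U)
    (hy : ∀ x (hx : x ∈ P), ι ⟨ξ (f x), h.hξv _ (h.T₁D (hfv x hx))⟩ = (y : L) * ι ⟨ξ x, h.hξv _ (h.T₁D (hPT₁ hx))⟩ * (y : L)⁻¹) :
    Maps N' P f := by
  haveI := h.hM.1
  have hPD : P ≤ normalizerIn S (U ⊔ W) := hPT₁.trans h.T₁D
  have hRD : U ≤ normalizerIn S (U ⊔ W) := (le_sup_left : U ≤ U ⊔ W).trans h.UD
  have hQD : W ≤ normalizerIn S (U ⊔ W) := (le_sup_right : W ≤ U ⊔ W).trans h.UD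
  have hAD : (P ⊔ U) ⊔ W ≤ normalizerIn S (U ⊔ W) := sup_le (sup_le hPD hRD) hQD
  have hξA : Maps F ((P ⊔ U) ⊔ W) ξ := h.hξ.restrict hAD
  have hRA : U ≤ (P ⊔ U) ⊔ W := le_sup_right.trans le_sup_left
  have hQA : W ≤ (P ⊔ U) ⊔ W := le_sup_right
  have hPA : P ≤ (P ⊔ U) ⊔ W := le_sup_left.trans le_sup_left
  have hBT : img ξ ((P ⊔ U) ⊔ W) ≤ normalizerIn S U₁ := by
    intro z hz
    obtain ⟨a, ha, rfl⟩ := hξA.mem_img.1 hz
    exact h.hξv a (hAD ha)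
  -- the conjugate values on generators
  have hyQ := h.cent_iff.1 y.2.2
  have hyR := (h.norm_iff le_sup_left).1 y.2.1
  let W' : Subgroup Ω := ((ι.range).comap ((MulAut.conj (y : L)).toMonoidHom.comp ι)).map (normalizerIn S U₁).subtype
  have hWmem : ∀ x (hx : x ∈ normalizerIn S U₁), (y : L) * ι ⟨x, hx⟩ * (y : L)⁻¹ ∈ ι.range → x ∈ W' := by
    intro x hx hr
    exact ⟨⟨x, hx⟩, hr, rfl⟩
  have hWmem' : ∀ x (hx : x ∈ normalizerIn S U₁), x ∈ W' → (y : L) * ι ⟨x, hx⟩ * (y : L)⁻¹ ∈ ι.range := by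
    rintro x hx ⟨t, ht, rfl⟩
    exact ht
  have hAW : ∀ a ∈ (P ⊔ U) ⊔ W, ξ a ∈ W' := by
    refine hξA.sup_mem ?_ ?_
    · refine (hξA.restrict le_sup_left).sup_mem (fun x hx => ?_) (fun r hr => ?_)
      · refine hWmem _ (h.hξv _ (hPD hx)) ?_
        rw [← hy x hx]
        exact ⟨_, rfl⟩
      · obtain ⟨r', hr', he⟩ := hyR r hr
        refine hWmem _ (h.hξv _ (hRD hr)) ?_
        rw [← he]
        exact ⟨_, rfl⟩
    · intro q hq
      have he := hyQ q hq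
      refine hWmem _ (h.hξv _ (hQD hq)) ?_
      rw [← he]
      exact ⟨_, rfl⟩
  have hran : ∀ b (hb : b ∈ img ξ ((P ⊔ U) ⊔ W)), (y : L) * ι ⟨b, hBT hb⟩ * (y : L)⁻¹ ∈ ι.range := by
    intro b hb
    obtain ⟨a, ha, rfl⟩ := hξA.mem_img.1 hb
    exact hWmem' _ _ (hAW a ha)
  have hψE : Maps E (img ξ ((P ⊔ U) ⊔ W)) (cf ι (y : L)) := maps_cf h.hM.2.1 hBT _ hran
  have hψF : Maps F (img ξ ((P ⊔ U) ⊔ W)) (cf ι (y : L)) := ((maps_norm_iff h.hE).1 hψE).1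
  obtain ⟨κ, hκdef⟩ : ∃ κ, κ = cf ι (y : L) ∘ ξ := ⟨_, rfl⟩
  have hκ : Maps F ((P ⊔ U) ⊔ W) κ := by
    rw [hκdef]
    exact hξA.comp hψF (fun a ha => hξA.mem_img_of_mem ha)
  have hκv : ∀ a (ha : a ∈ (P ⊔ U) ⊔ W) (hκa : κ a ∈ normalizerIn S U₁),
      ι ⟨κ a, hκa⟩ = (y : L) * ι ⟨ξ a, hBT (hξA.mem_img_of_mem ha)⟩ * (y : L)⁻¹ := by
    intro a ha hκa
    have hb := hξA.mem_img_of_mem ha
    have h1 := ι_cf (ι := ι) (y : L) (hBT hb) (hran _ hb)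
    rw [← h1]
    congr 1
    apply Subtype.ext
    show κ a = _
    rw [hκdef]
    rfl
  have hκT : ∀ a ∈ (P ⊔ U) ⊔ W, κ a ∈ normalizerIn S U₁ := fun a ha => by
    rw [hκdef]
    exact cf_mem _ (hBT (hξA.mem_img_of_mem ha))
  -- the values of `κ`
  have hκP : ∀ x ∈ P, κ x = ξ (f x) := by
    intro x hx
    apply h.inj' (hx := hκT x (hPA hx)) (hy := h.hξv _ (h.T₁D (hfv x hx)))
    rw [hκv x (hPA hx), hy x hx]
  have hκR : ∀ r ∈ U, ∃ r' ∈ U, κ r = ξ r' := by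
    intro r hr
    obtain ⟨r', hr', he⟩ := hyR r hr
    refine ⟨r', hr', ?_⟩
    apply h.inj' (hx := hκT r (hRA hr)) (hy := h.hξv _ (hRD hr'))
    rw [hκv r (hRA hr), he]
  have hκQ : ∀ q ∈ W, κ q = ξ q := by
    intro q hq
    have he := hyQ q hq
    apply h.inj' (hx := hκT q (hQA hq)) (hy := h.hξv _ (hQD hq))
    rw [hκv q (hQA hq)]
    exact he.symm
  -- the inverse of `ξ`
  obtain ⟨ξ', hξ', hi1, hi2⟩ := h.hξ.inv
  have hξD : ∀ x ∈ normalizerIn S (U ⊔ W), ξ x ∈ img ξ (normalizerIn S (U ⊔ W)) := fun x hx => h.hξ.mem_img_of_mem hx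
  have hκD : ∀ a ∈ (P ⊔ U) ⊔ W, κ a ∈ img ξ (normalizerIn S (U ⊔ W)) := by
    refine hκ.sup_mem ?_ ?_
    · refine (hκ.restrict le_sup_left).sup_mem (fun x hx => ?_) (fun r hr => ?_)
      · rw [hκP x hx]
        exact hξD _ (h.T₁D (hfv x hx))
      · obtain ⟨r', hr', he⟩ := hκR r hr
        rw [he]
        exact hξD _ (hRD hr')
    · intro q hq
      rw [hκQ q hq]
      exact hξD _ (hQD hq)
  obtain ⟨g₂, hg₂def⟩ : ∃ g₂, g₂ = ξ' ∘ κ := ⟨_, rfl⟩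
  have hg₂ : Maps F ((P ⊔ U) ⊔ W) g₂ := by
    rw [hg₂def]
    exact hκ.comp hξ' hκD
  have hg₂P : ∀ x ∈ P, g₂ x = f x := fun x hx => by
    rw [hg₂def]
    show ξ' (κ x) = _
    rw [hκP x hx, hi1 _ (h.T₁D (hfv x hx))]
  have hg₂R : ∀ r ∈ U, g₂ r ∈ U := fun r hr => by
    obtain ⟨r', hr', he⟩ := hκR r hr
    rw [hg₂def]
    show ξ' (κ r) ∈ U
    rw [he, hi1 _ (hRD hr')]
    exact hr'
  have hg₂Q : ∀ q ∈ W, g₂ q = q := fun q hq => by
    rw [hg₂def]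
    show ξ' (κ q) = q
    rw [hκQ q hq, hi1 _ (hQD hq)]
  have himgR : img g₂ U = U := img_eq_of_card (hg₂.restrict hRA) h.RS h.RS hg₂R le_rfl
  have hg₁F : Maps F (P ⊔ U) g₂ := hg₂.restrict le_sup_left
  have hvalT : ∀ x ∈ P ⊔ U, g₂ x ∈ centralizerIn S W := hg₁F.sup_mem
    (fun x hx => by
      rw [hg₂P x hx]
      exact T₁T (hfv x hx))
    (fun r hr => h.UC (hg₂R r hr))
  have hg₁N : Maps D (P ⊔ U) g₂ := (maps_cent_iff h.hD).2
    ⟨hg₁F, sup_le (hPT₁.trans T₁T) h.UC, hvalT, g₂, hg₂, fun _ _ => rfl, hg₂Q⟩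
  exact (maps_norm_iff h.hN').2 ⟨(hg₁N.restrict le_sup_left).congr hg₂P, hPT₁, hfv, g₂, hg₁N, hg₂P, himgR⟩

/-- The realization. -/
theorem isRealized (h : Ctx p F W U U₁ D N' E ξ ι) : N'.IsRealizedBy h.ι₀ := by
  refine ⟨h.ι₀_inj, fun P hP φ hφ => ?_⟩
  constructor
  · intro hm
    obtain ⟨g, hg⟩ := h.real_forward (Maps.of_mem hm)
    refine ⟨g, fun x => Subtype.ext ?_⟩
    obtain ⟨h1, h2, h3⟩ := hg x x.2
    have e2 : (⟨ξ (φ x), h.hξv _ (h.T₁D (hφ x))⟩ : ↥(normalizerIn S U₁)) = ⟨ξ (fn φ x), h.hξv _ (h.T₁D h1)⟩ :=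
      Subtype.ext (congrArg ξ (fn_coe φ x).symm)
    show ι ⟨ξ (φ x), _⟩ = (g : L) * ι _ * (g : L)⁻¹
    rw [e2]
    exact h3
  · rintro ⟨y, hy⟩
    have hm : Maps N' P (fn φ) := by
      refine h.real_backward hP (fun x hx => ?_) y (fun x hx => ?_)
      · rw [fn_of_mem φ hx]
        exact hφ ⟨x, hx⟩
      · have h1 := congrArg Subtype.val (hy ⟨x, hx⟩)
        have e : fn φ x = φ ⟨x, hx⟩ := fn_of_mem φ hx
        have h2 : ι ⟨ξ (φ ⟨x, hx⟩), h.hξv _ (h.T₁D (hφ ⟨x, hx⟩))⟩ =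
            (y : L) * ι ⟨ξ x, h.hξv _ (h.T₁D (hP hx))⟩ * (y : L)⁻¹ := h1
        rw [← h2]
        exact congrArg ι (Subtype.ext (congrArg ξ e))
    exact hm.mem_hom (fun x => (fn_of_mem φ x.2).symm)

/-- The image of `U` is normal in `Y`. -/
theorem normal_R (h : Ctx p F W U U₁ D N' E ξ ι) :
    ((U.subgroupOf (normalizerIn (centralizerIn S W) U)).map h.ι₀).Normal := by
  refine ⟨?_⟩
  rintro _ ⟨t, ht, rfl⟩ y
  have htR : (t : Ω) ∈ U := Subgroup.mem_subgroupOf.1 ht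
  obtain ⟨r', hr', he⟩ := (h.norm_iff le_sup_left).1 y.2.1 t htR
  have hRT₁ : U ≤ normalizerIn (centralizerIn S W) U := le_normalizerIn h.UC
  refine ⟨⟨r', hRT₁ hr'⟩, Subgroup.mem_subgroupOf.2 hr', Subtype.ext ?_⟩
  exact he

/-- The image of the normalizer of `U` is Sylow in `Y`. -/
theorem isSylow (h : Ctx p F W U U₁ D N' E ξ ι) :
    ∃ T₀ : Sylow p (YY ξ ι W U), (T₀ : Subgroup (YY ξ ι W U)) = h.ι₀.range := by
  haveI := h.hM.1
  haveI : Finite ↥(normalizerIn S U₁) := finite_of_le inf_le_left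
  have hT₁S : normalizerIn (centralizerIn S W) U ≤ S := T₁T.trans inf_le_left
  haveI hT₁f : Finite ↥(normalizerIn (centralizerIn S W) U) := finite_of_le hT₁S
  have hT₁p : IsPGroup p ↥(normalizerIn (centralizerIn S W) U) := h.hS.to_le hT₁S
  have hrp : IsPGroup p h.ι₀.range := by
    rintro ⟨_, t, rfl⟩
    obtain ⟨k, hk⟩ := hT₁p t
    refine ⟨k, Subtype.ext ?_⟩
    show h.ι₀ t ^ p ^ k = 1
    rw [← _root_.map_pow, hk, _root_.map_one]
  obtain ⟨PY, hPY⟩ := hrp.exists_le_sylow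
  refine ⟨PY, ?_⟩
  let P' : Subgroup L := (PY : Subgroup _).map (YY ξ ι W U).subtype
  have hP'p : IsPGroup p P' := PY.isPGroup'.map _
  obtain ⟨T₀L, hT₀L⟩ := h.hM.2.2.1
  obtain ⟨g, -, hg⟩ := (Cfsg.Agent.Lib.AlperinControl.isSyl_of_sylow T₀L).conj P' le_top hP'p
  rw [hT₀L] at hg
  let C : Subgroup L := P'.map (MulAut.conj g).toMonoidHom
  let K : Subgroup ↥(normalizerIn S U₁) := C.comap ι
  let X' : Subgroup Ω := K.map (normalizerIn S U₁).subtype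
  have hCr : C ≤ ι.range := by
    rintro _ ⟨u, hu, rfl⟩
    exact hg u hu
  have hcardX : Nat.card X' = Nat.card (PY : Subgroup (YY ξ ι W U)) := by
    have e1 : Nat.card X' = Nat.card K := Subgroup.card_map_of_injective (normalizerIn S U₁).subtype_injective
    have e2 : Nat.card K = Nat.card (K.map ι) := (Subgroup.card_map_of_injective h.inj).symm
    have e3 : K.map ι = C := Subgroup.map_comap_eq_self hCr
    have e4 : Nat.card C = Nat.card P' := Subgroup.card_map_of_injective (MulAut.conj g).injective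
    have e5 : Nat.card P' = Nat.card (PY : Subgroup (YY ξ ι W U)) :=
      Subgroup.card_map_of_injective (YY ξ ι W U).subtype_injective
    rw [e1, e2, e3, e4, e5]
  have hcfF : Maps F U₁ (cf ι g) := ((maps_norm_iff h.hE).1 (maps_Q h.hM h.hU g)).1
  have hξU : Maps F (U ⊔ W) ξ := h.hξ.restrict h.UD
  have hτ : Maps F (U ⊔ W) (cf ι g ∘ ξ) := hξU.comp hcfF (fun x hx => h.mem_U₁ hx)
  have hX'T : X' ≤ normalizerIn S U₁ := Subgroup.map_subtype_le _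
  have hX'S : X' ≤ S := hX'T.trans inf_le_left
  have hτval : ∀ w (hw : w ∈ U ⊔ W), ι ⟨cf ι g (ξ w), cf_mem g (h.U₁TU (h.mem_U₁ hw))⟩ =
      g * ι ⟨ξ w, h.U₁TU (h.mem_U₁ hw)⟩ * g⁻¹ := fun w hw =>
    ι_cf g (h.U₁TU (h.mem_U₁ hw)) (range_of_Q h.hM h.hU g (h.mem_U₁ hw))
  -- the key conjugation identity
  have hclaim : ∀ (t : ↥(normalizerIn S U₁)) (u : L), (MulAut.conj g).toMonoidHom u = ι t →
      ∀ w (hw : w ∈ U ⊔ W) w' (hw' : w' ∈ U ⊔ W),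
        ι ⟨ξ w', h.hξv _ (h.UD hw')⟩ = u * ι ⟨ξ w, h.hξv _ (h.UD hw)⟩ * u⁻¹ →
        (t : Ω) * (cf ι g ∘ ξ) w * (t : Ω)⁻¹ = (cf ι g ∘ ξ) w' := by
    intro t u hue' w hwU w' hw'U he
    have hm1 : (cf ι g ∘ ξ) w ∈ normalizerIn S U₁ := cf_mem g (h.U₁TU (h.mem_U₁ hwU))
    have hm2 : (cf ι g ∘ ξ) w' ∈ normalizerIn S U₁ := cf_mem g (h.U₁TU (h.mem_U₁ hw'U))
    have hm3 : (t : Ω) * (cf ι g ∘ ξ) w * (t : Ω)⁻¹ ∈ normalizerIn S U₁ :=
      Subgroup.mul_mem _ (Subgroup.mul_mem _ t.2 hm1) (Subgroup.inv_mem _ t.2)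
    apply h.inj' (hx := hm3) (hy := hm2)
    have e1 : (⟨(t : Ω) * (cf ι g ∘ ξ) w * (t : Ω)⁻¹, hm3⟩ : ↥(normalizerIn S U₁)) =
        t * ⟨(cf ι g ∘ ξ) w, hm1⟩ * t⁻¹ := rfl
    rw [e1, _root_.map_mul, _root_.map_mul, _root_.map_inv, ← hue']
    have e2 := hτval w hwU
    have e3 := hτval w' hw'U
    have e4 : ι ⟨(cf ι g ∘ ξ) w, hm1⟩ = g * ι ⟨ξ w, h.U₁TU (h.mem_U₁ hwU)⟩ * g⁻¹ := e2
    have e5 : ι ⟨(cf ι g ∘ ξ) w', hm2⟩ = g * ι ⟨ξ w', h.U₁TU (h.mem_U₁ hw'U)⟩ * g⁻¹ := e3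
    rw [e4, e5]
    have e6 : (MulAut.conj g).toMonoidHom u = g * u * g⁻¹ := rfl
    rw [e6]
    have he' : ι ⟨ξ w', h.U₁TU (h.mem_U₁ hw'U)⟩ = u * ι ⟨ξ w, h.U₁TU (h.mem_U₁ hwU)⟩ * u⁻¹ := he
    rw [he']
    group
  have hnorm : X' ≤ Subgroup.normalizer (img (cf ι g ∘ ξ) U : Set Ω) := by
    have hτW : Maps F U (cf ι g ∘ ξ) := hτ.restrict le_sup_left
    haveI : Finite ↥(img (cf ι g ∘ ξ) U) := finite_of_le hτW.img_le
    rintro _ ⟨t, ht, rfl⟩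
    obtain ⟨u, hu₀, hue⟩ := id ht
    have hue' : (MulAut.conj g).toMonoidHom u = ι t := hue
    refine mem_normalizer_of_conj_mem (fun z hz => ?_)
    obtain ⟨w, hw, rfl⟩ := hτW.mem_img.1 hz
    obtain ⟨y, -, rfl⟩ := hu₀
    obtain ⟨w', hw', he⟩ := (h.norm_iff le_sup_left).1 y.2.1 w hw
    show (t : Ω) * (cf ι g ∘ ξ) w * (t : Ω)⁻¹ ∈ _
    rw [hclaim t _ hue' w (Subgroup.mem_sup_left hw) w' (Subgroup.mem_sup_left hw') he]
    exact hτW.mem_img_of_mem hw'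
  have hcent : ∀ x ∈ X', ∀ w ∈ W, w * x = x * w := by
    rintro _ ⟨t, ht, rfl⟩ w hw
    obtain ⟨u, hu₀, hue⟩ := id ht
    have hue' : (MulAut.conj g).toMonoidHom u = ι t := hue
    have hτW : Maps F W (cf ι g ∘ ξ) := hτ.restrict le_sup_right
    have himgW : img (cf ι g ∘ ξ) W = W := StronglyClosed.img_eq (stronglyClosed_of_isNormal h.hW) le_sup_right hτ
    rw [← himgW] at hw
    obtain ⟨w₀, hw₀, rfl⟩ := hτW.mem_img.1 hw
    obtain ⟨y, -, rfl⟩ := hu₀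
    have he := h.cent_iff.1 y.2.2 w₀ hw₀
    have h7 := hclaim t _ hue' w₀ (Subgroup.mem_sup_right hw₀) w₀ (Subgroup.mem_sup_right hw₀) he
    rw [mul_inv_eq_iff_eq_mul] at h7
    exact h7.symm
  have hcardle := card_le_of_normalizes h.hS h.hF h.hW h.hD h.hUn hτ hX'S hnorm hcent
  have hcardr : Nat.card h.ι₀.range = Nat.card ↥(normalizerIn (centralizerIn S W) U) :=
    Nat.card_congr (MonoidHom.ofInjective h.ι₀_inj).toEquiv.symm
  have hfinY : Finite ↥(YY ξ ι W U) := inferInstance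
  exact (Subgroup.eq_of_le_of_card_ge hPY (by rw [hcardr, ← hcardX]; exact hcardle)).symm

end Ctx

/-- **The core lemma**: a model of a local normalizer system of `C_F(W)` is a section of a model of a fully normalized
conjugate of `U ⊔ W`. -/
theorem not_involves_of_local (hS : IsPGroup p S) (hF : F.IsSaturated p) {W U : Subgroup Ω}
    (hW : F.IsNormal W) {D : FusionSystem (centralizerIn S W)} (hD : F.IsCentralizerSystem W D)
    (hDs : D.IsSaturated p)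
    (hUn : D.IsFullyNormalized U) (hUc : D.IsCentric U) {N' : FusionSystem (normalizerIn (centralizerIn S W) U)}
    (hN' : D.IsNormalizerSystem U N') {X : Type v} [Group X] {ιX : ↥(normalizerIn (centralizerIn S W) U) →* X}
    (hX : N'.IsModel p X ιX) {H : Type*} [Group H]
    (hfree : ∀ U₁, F.IsConj (U ⊔ W) U₁ → F.IsFullyNormalized U₁ → F.IsCentric U₁ →
      ∀ E : FusionSystem (normalizerIn S U₁), F.IsNormalizerSystem U₁ E →
        ∀ (L : Type u) [Group L] (ι : ↥(normalizerIn S U₁) →* L), E.IsModel p L ι → ¬ Involves H L) :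
    ¬ Involves H X := by
  have hRT : U ≤ centralizerIn S W := hUc.1
  have hUS : U ⊔ W ≤ S := sup_le (hRT.trans inf_le_left) hW.1
  have hUcF : F.IsCentric (U ⊔ W) := centric_sup hS hF hW hD hUc
  obtain ⟨U₁, hU₁, hU₁n⟩ := exists_fullyNormalized_conj (F := F) hUS
  obtain ⟨hfc, hfa⟩ := of_fullyNormalized hS hF hU₁n
  have hrec := receptive_of_fullyCentralized hS hF hfc
  obtain ⟨ξ, hξ, hξv, hξi⟩ := exists_normalizer_map hS hfa hrec hU₁
  have hU₁c : F.IsCentric U₁ := IsCentric_conj hUcF hU₁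
  have hU₁S := hU₁n.1
  obtain ⟨E, hE⟩ := exists_normalizerSystem (F := F) hU₁S
  have hEs := Cfsg.Agent.Lib.FusionSatNorm.saturated_normalizer hS hF hU₁n hE
  have hUN : E.IsNormal U₁ := isNormal_normalizerSystem hU₁S hE
  have hTS : normalizerIn S U₁ ≤ S := inf_le_left
  haveI : Finite ↥(normalizerIn S U₁) := finite_of_le hTS
  have hT : IsPGroup p (normalizerIn S U₁) := hS.to_le hTS
  have hUC : E.IsCentric U₁ := by
    refine ⟨le_normalizerIn hU₁S, fun Q₁ hQ₁ => ?_⟩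
    rw [conj_eq_of_isNormal hUN hQ₁]
    intro c hc
    exact IsCentric_self hU₁c (mem_centralizerIn.2 ⟨hTS (mem_centralizerIn.1 hc).1, (mem_centralizerIn.1 hc).2⟩)
  obtain ⟨L, instL, ι, hM⟩ := Cfsg.Agent.Lib.FusionModel.exists_model hT hEs hUN hUC
  have hnot := hfree U₁ hU₁ hU₁n hU₁c E hE L ι hM
  have hctx : Ctx p F W U U₁ D N' E ξ ι :=
    ⟨hS, hF, hW, hD, hUn, hUc, hN', hξ, hξv, hξi, hE, hM, hUN⟩
  -- the model
  have hT₁S : normalizerIn (centralizerIn S W) U ≤ S := inf_le_left.trans inf_le_left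
  haveI : Finite ↥(normalizerIn (centralizerIn S W) U) := finite_of_le hT₁S
  have hT₁ : IsPGroup p ↥(normalizerIn (centralizerIn S W) U) := hS.to_le hT₁S
  haveI hLf : Finite L := hM.1
  have hRT₁ : U ≤ normalizerIn (centralizerIn S W) U := le_normalizerIn hRT
  have hCT₁ : centralizerIn (normalizerIn (centralizerIn S W) U) U ≤ U := fun c hc =>
    IsCentric_self hUc (mem_centralizerIn.2 ⟨(mem_normalizerIn.1 (mem_centralizerIn.1 hc).1).1, (mem_centralizerIn.1 hc).2⟩)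
  obtain ⟨K, hK, ιc, hMc⟩ := Cfsg.Agent.Lib.FusionRecog.exists_model_quot hT₁ N' hctx.ι₀ hctx.isRealized hctx.isSylow
    U hRT₁ hctx.normal_R hCT₁
  -- uniqueness
  have hTQS : centralizerIn S W ≤ S := inf_le_left
  haveI : Finite ↥(centralizerIn S W) := finite_of_le hTQS
  have hTQ : IsPGroup p ↥(centralizerIn S W) := hS.to_le hTQS
  have hN's := Cfsg.Agent.Lib.FusionSatNorm.saturated_normalizer hTQ hDs hUn hN'
  have hRN' : N'.IsNormal U := isNormal_normalizerSystem hRT hN'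
  have hRC' : N'.IsCentric U := by
    refine ⟨hRT₁, fun Q₁ hQ₁ => ?_⟩
    rw [conj_eq_of_isNormal hRN' hQ₁]
    exact hCT₁
  obtain ⟨e, -⟩ := Cfsg.Agent.S5091.result p hT₁ N' ⟨hN's, U, hRN', hRC'⟩ ιc ιX hMc hX
  intro hinv
  apply hnot
  refine Cfsg.Agent.Lib.InvolvesAPI.Involves.trans hinv ?_
  exact Cfsg.Agent.Lib.InvolvesAPI.involves_of_surj (Ctx.YY ξ ι W U) (e.toMonoidHom.comp (QuotientGroup.mk' K))
    (e.surjective.comp (QuotientGroup.mk'_surjective K))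

/-- Section freeness passes to the centralizer system of a normal subgroup. -/
theorem isSectionFree_cent (hS : IsPGroup p S) (hF : F.IsSaturated p) {W : Subgroup Ω}
    (hW : F.IsNormal W) {D : FusionSystem (centralizerIn S W)} (hD : F.IsCentralizerSystem W D)
    (hDs : D.IsSaturated p) {H : Type*} [Group H] (hfree : F.IsSectionFree p H) : D.IsSectionFree p H := by
  intro U hUn hUc N' hN' L _ ι hM
  exact not_involves_of_local hS hF hW hD hDs hUn hUc hN' hM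
    (fun U₁ _ h1 h2 E hE L' _ ι' hM' => hfree U₁ h1 h2 E hE L' ι' hM')

end Setup

end Cfsg.Agent.Lib.FusionCentSec
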