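/-
FusionChi: `p'`-quotients of `Aut_F(T)` killing `Aut_E(T)`, for `E` invariant in `F` (for S5243):
membership in the kernel can be detected on `T`-centric subgroups.
-/
import Mathlib
import Cfsg.Agent.Lib.FusionPPrimeNormal4

set_option autoImplicit false

namespace Cfsg.Agent.Lib.FusionChi

open Cfsg Cfsg.FusionSystem Cfsg.Agent.Lib.FusionCore Cfsg.Agent.Lib.FusionCore2
open Cfsg.Agent.Lib.FusionIndexPrime Cfsg.Agent.Lib.FusionPPrimeRes Cfsg.Agent.Lib.FusionInvariant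
open Cfsg.Agent.Lib.FusionPPrimeMin Cfsg.Agent.Lib.FusionSatCrit Cfsg.Agent.Lib.FusionPPrimeNormal

variable {Ω : Type*} [Group Ω] {S T : Subgroup Ω} {F : FusionSystem S} {E : FusionSystem T}
  {L : Subgroup (MulAut T)} {P Q R X Y : Subgroup Ω} {f g : Ω → Ω} {p : ℕ}

/-- The data: `E` invariant in `F` over `T`, and `L` the kernel of a `p'`-quotient of `Aut_F(T)`
containing `Aut_E(T)`. -/
structure Dat (F : FusionSystem S) (E : FusionSystem T) (p : ℕ) (L : Subgroup (MulAut T)) : Prop where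
  hS : IsPGroup p S
  hF : F.IsSaturated p
  hE : E.IsSaturated p
  hT : F.StronglyClosed T
  hEF : E.IsSubsystemOf F
  hinv : Inv F E
  hfr : Frat F E
  hLF : L ≤ F.autGroup T
  hLn : ∀ a ∈ F.autGroup T, ∀ l ∈ L, a * l * a⁻¹ ∈ L
  hEL : E.autGroup T ≤ L
  hLp : ∀ a ∈ F.autGroup T, ∀ n : ℕ, a ^ p ^ n ∈ L → a ∈ L

lemma normBy_aut (hinv : Inv F E) : NormBy E (F.autGroup T) := by
  intro l hl P f hf
  have := conjM hinv (Subgroup.inv_mem _ hl) hf
  rwa [inv_inv] at this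

/-- The core of the lifting argument: `a` on `N_T(X)` is a composite of maps of `E` and a `p`-automorphism. -/
theorem lift_core [Finite S] [Fact p.Prime] (hT : IsPGroup p T) (hTS : T ≤ S)
    (hEF : E.IsSubsystemOf F) (hD : E.IsSaturated p) {a : MulAut T} (ha : a ∈ F.autGroup T) {X : Subgroup Ω}
    (hX : TC F T X) (hm : Maps E X (afn a)) :
    ∃ (k ci : Ω → Ω) (Y' W : Subgroup Ω) (γ : MulAut Y') (m : ℕ), Maps E (normalizerIn T X) k ∧
      img k (normalizerIn T X) = Y' ∧ Maps E W ci ∧ γ ∈ F.autGroup Y' ∧ γ ^ p ^ m = 1 ∧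
      (∀ y ∈ Y', afn γ y ∈ W) ∧ ∀ n ∈ normalizerIn T X, ci (afn γ (k n)) = afn a n := by
  haveI : Finite T := finite_of_le hTS
  have hdf : ∀ {P : Subgroup Ω} {f : Ω → Ω}, Maps E P f → Maps F P f := fun h =>
    ⟨h.hom, hEF _ h.hom_mem, h.hom_apply⟩
  have hs : Maps F T (afn a) := (mem_autGroup_iff hTS).1 ha
  have hXS := hX.1
  set X' := img (afn a) X with hX'
  have hX'S : X' ≤ T := hm.img_le
  obtain ⟨Q', hQ', hQa, hQr⟩ := hD X' hX'S
  have hQ'S := IsConj_le' hQ'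
  obtain ⟨χ, hχ, hχN, hχimg⟩ := exists_normalizer_map hT hQa hQr hQ'
  have hXX' : ∀ x ∈ X, afn a x ∈ X' := fun x hx => hm.mem_img_of_mem hx
  have hX'N : X' ≤ normalizerIn T X' := le_normalizerIn hX'S
  have hNS : normalizerIn T X ≤ T := inf_le_left
  haveI := finite_of_le hXS
  haveI := finite_of_le hX'S
  have hAN : ∀ n ∈ normalizerIn T X, afn a n ∈ normalizerIn T X' := by
    intro n hn
    obtain ⟨hnS, hnN⟩ := mem_normalizerIn.1 hn
    refine mem_normalizerIn.2 ⟨afn_mem a hnS, mem_normalizer_of_conj_mem (fun y hy => ?_)⟩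
    obtain ⟨x, hx, rfl⟩ := hm.mem_img.1 hy
    rw [← afn_map_conj' a hnS (hXS hx)]
    exact hXX' _ ((Subgroup.mem_normalizer_iff.1 hnN x).1 hx)
  -- the map `κ`
  have hκ : Maps E X (χ ∘ afn a) :=
    hm.comp hχ (fun x hx => hX'N (hXX' x hx))
  have hκimg : img (χ ∘ afn a) X = Q' := by
    rw [← hχimg]
    ext y
    rw [hκ.mem_img, (hχ.restrict hX'N).mem_img]
    constructor
    · rintro ⟨x, hx, rfl⟩
      exact ⟨_, hXX' x hx, rfl⟩
    · rintro ⟨z, hz, rfl⟩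
      obtain ⟨x, hx, rfl⟩ := hm.mem_img.1 hz
      exact ⟨x, hx, rfl⟩
  have hχmap : ∀ {z w}, z ∈ normalizerIn T X' → w ∈ normalizerIn T X' →
      χ (z * w * z⁻¹) = χ z * χ w * (χ z)⁻¹ := fun hz hw => hχ.map_conj hz hw
  have hNNf : normalizerIn T X ≤ Nf T X (χ ∘ afn a) := by
    intro n hn
    obtain ⟨hnS, hnN⟩ := mem_normalizerIn.1 hn
    refine mem_Nf.2 ⟨hnS, hnN, χ (afn a n), hχ.mem (hAN n hn), fun x hx => ?_⟩
    show χ (afn a (n * x * n⁻¹)) = _ * χ (afn a x) * _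
    rw [afn_map_conj' a hnS (hXS hx), hχmap (hAN n hn) (hX'N (hXX' x hx))]
  obtain ⟨k₀, hk₀, hk₀κ⟩ := IsReceptive.ext hQr hκ hκimg
  have hk := hk₀.restrict hNNf
  have hXN : X ≤ normalizerIn T X := le_normalizerIn hXS
  set Y := img k₀ (normalizerIn T X) with hY
  have hYT : Y ≤ T := hk.img_le
  have hYS : Y ≤ S := hYT.trans hTS
  have hQ'Y : Q' ≤ Y := by
    intro y hy
    rw [← hκimg] at hy
    obtain ⟨x, hx, rfl⟩ := hκ.mem_img.1 hy
    rw [hk.mem_img]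
    exact ⟨x, hXN hx, hk₀κ x hx⟩
  -- centrality
  have hQc : centralizerIn T Q' ≤ Q' :=
    hX.2 Q' (Cfsg.Agent.Lib.FusionCore.isConj_iff.2 ⟨_, hdf hκ, hκimg⟩)
  have hz : ∀ n ∈ normalizerIn T X, (k₀ n)⁻¹ * χ (afn a n) ∈ Q' := by
    intro n hn
    obtain ⟨hnS, hnN⟩ := mem_normalizerIn.1 hn
    have hkS : k₀ n ∈ T := hk.mem hn
    have hχS : χ (afn a n) ∈ T := hχ.mem (hAN n hn)
    refine hQc (mem_centralizerIn.2 ⟨T.mul_mem (T.inv_mem hkS) hχS, fun y hy => ?_⟩)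
    rw [← hκimg] at hy
    obtain ⟨x, hx, rfl⟩ := hκ.mem_img.1 hy
    have hnx : n * x * n⁻¹ ∈ X := (Subgroup.mem_normalizer_iff.1 hnN x).1 hx
    have h1 : k₀ n * k₀ x * (k₀ n)⁻¹ = χ (afn a n) * χ (afn a x) * (χ (afn a n))⁻¹ := by
      rw [← hk.map_conj hn (hXN hx), hk₀κ _ hnx]
      show χ (afn a (n * x * n⁻¹)) = _
      rw [afn_map_conj' a hnS (hXS hx), hχmap (hAN n hn) (hX'N (hXX' x hx))]
    rw [hk₀κ x hx] at h1
    change k₀ n * χ (afn a x) * (k₀ n)⁻¹ = _ at h1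
    show χ (afn a x) * ((k₀ n)⁻¹ * χ (afn a n)) = ((k₀ n)⁻¹ * χ (afn a n)) * χ (afn a x)
    have h2 : χ (afn a x) * (k₀ n)⁻¹ * χ (afn a n) = (k₀ n)⁻¹ * χ (afn a n) * χ (afn a x) := by
      have h3 : k₀ n * χ (afn a x) * (k₀ n)⁻¹ * χ (afn a n)
          = χ (afn a n) * χ (afn a x) := by
        rw [h1]; group
      calc χ (afn a x) * (k₀ n)⁻¹ * χ (afn a n)
          = (k₀ n)⁻¹ * (k₀ n * χ (afn a x) * (k₀ n)⁻¹ * χ (afn a n)) := by group
        _ = _ := by rw [h3]; group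
    rw [← mul_assoc, h2]
  -- `γ`
  obtain ⟨ki, hki, hki1, hki2⟩ := hk.inv
  rw [← hY] at hki hki2
  have hkiN : ∀ y ∈ Y, ki y ∈ normalizerIn T X := fun y hy => (hki2 y hy).1
  have hγ : Maps F Y (χ ∘ afn a ∘ ki) :=
    (hdf hki).comp ((hs.restrict hNS).comp (hdf hχ) hAN) hkiN
  have hγv : ∀ n ∈ normalizerIn T X, (χ ∘ afn a ∘ ki) (k₀ n) = χ (afn a n) := by
    intro n hn
    show χ (afn a (ki (k₀ n))) = _
    rw [hki1 n hn]
  have hγY : ∀ y ∈ Y, (χ ∘ afn a ∘ ki) y ∈ Y := by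
    intro y hy
    obtain ⟨n, hn, rfl⟩ := hk.mem_img.1 hy
    rw [hγv n hn]
    have h1 := hz n hn
    have h2 := Y.mul_mem hy (hQ'Y h1)
    rwa [mul_inv_cancel_left] at h2
  have hγimg : img (χ ∘ afn a ∘ ki) Y = Y := img_eq_of_card hγ hYS hYS hγY le_rfl
  have hγfix : ∀ y ∈ Q', afn (hγ.toAut hγimg) y = y := by
    intro y hy
    rw [hγ.afn_toAut hγimg (hQ'Y hy)]
    have hy' := hy
    rw [← hκimg] at hy'
    obtain ⟨x, hx, rfl⟩ := hκ.mem_img.1 hy'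
    have e : (χ ∘ afn a) x = k₀ x := (hk₀κ x hx).symm
    rw [e, hγv x (hXN hx)]
    exact (hk₀κ x hx).symm
  have hγz : ∀ y ∈ Y, y⁻¹ * afn (hγ.toAut hγimg) y ∈ Q' := by
    intro y hy
    rw [hγ.afn_toAut hγimg hy]
    obtain ⟨n, hn, rfl⟩ := hk.mem_img.1 hy
    rw [hγv n hn]
    exact hz n hn
  haveI := finite_of_le hQ'S
  have hγpow := pow_card_eq_one_of_fix (hγ.toAut hγimg) hQ'Y hγfix hγz
  obtain ⟨m, hm'⟩ := (IsPGroup.iff_card.1 (hT.to_le hQ'S) : ∃ m, Nat.card Q' = p ^ m)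
  rw [hm'] at hγpow
  obtain ⟨χi, hχi, hχi1, -⟩ := hχ.inv
  refine ⟨k₀, χi, Y, _, hγ.toAut hγimg, m, hk, rfl, hχi, hγ.toAut_mem hγimg, hγpow, fun y hy => ?_,
    fun n hn => ?_⟩
  · rw [hγ.afn_toAut hγimg hy]
    exact hχ.mem_img_of_mem (hAN _ (hkiN y hy))
  · rw [hγ.afn_toAut hγimg (hk.mem_img_of_mem hn), hγv n hn, hχi1 _ (hAN n hn)]

/-- Powers of a composite `b ∘ ω`. -/
lemma pow_key (hn : NormBy E (F.autGroup T)) {U : Subgroup Ω} (hU : U ≤ T) {γ : MulAut U} {b : MulAut T}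
    (hb : b ∈ F.autGroup T) {ω : Ω → Ω} (hω : Maps E U ω) (he : ∀ y ∈ U, afn γ y = afn b (ω y)) (j : ℕ) :
    ∃ ωj, Maps E U ωj ∧ ∀ y ∈ U, afn (γ ^ j) y = afn (b ^ j) (ωj y) := by
  have hpowL : ∀ j : ℕ, b ^ j ∈ F.autGroup T := fun j => Subgroup.pow_mem _ hb j
  induction j with
  | zero =>
    refine ⟨_root_.id, Maps.id hU, fun y hy => ?_⟩
    rw [pow_zero, pow_zero, afn_one hy]
    show y = afn 1 y
    rw [afn_one (hU hy)]
  | succ j ih =>
    obtain ⟨ωj, hωj, hj⟩ := ih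
    have hω' := hn (b ^ j) (hpowL j) hω
    have hmem : ∀ y ∈ U, ωj y ∈ img (afn (b ^ j)⁻¹) U := by
      intro y hy
      refine (mem_img_afn' hU _).2 ⟨afn (γ ^ j) y, afn_mem _ hy, ?_⟩
      rw [hj y hy, afn_inv_afn _ (hωj.mem hy)]
    refine ⟨_, hωj.comp hω' hmem, fun y hy => ?_⟩
    have hy2 : afn (γ ^ j) y ∈ U := afn_mem _ hy
    have hy3 : ω (afn (γ ^ j) y) ∈ T := hω.mem hy2
    show _ = afn (b ^ (j + 1)) (afn (b ^ j)⁻¹ (ω (afn (b ^ j) (ωj y))))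
    have hy4 : ω (afn (b ^ j) (ωj y)) ∈ T := by
      rw [← hj y hy]
      exact hy3
    rw [pow_succ' γ, afn_mul _ _ hy, he _ hy2, pow_succ' b, afn_mul _ _ (afn_mem _ hy4),
      afn_afn_inv _ hy4, hj y hy]

/-- A `p`-element of `Aut_F(U)` has trivial image in the quotient, if detection holds on `U`. -/
lemma pelt_mem' (D : Dat F E p L) {U : Subgroup Ω} (hU : U ≤ T)
    (hW : ∀ c ∈ F.autGroup T, Maps E U (afn c) → c ∈ L) {γ : MulAut U} {m : ℕ} (hγ : γ ^ p ^ m = 1)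
    {b : MulAut T} (hb : b ∈ F.autGroup T) {ω : Ω → Ω} (hω : Maps E U ω)
    (he : ∀ y ∈ U, afn γ y = afn b (ω y)) : b ∈ L := by
  obtain ⟨ωq, hωq, hq⟩ := pow_key (normBy_aut D.hinv) hU hb hω he (p ^ m)
  have hbp : b ^ p ^ m ∈ F.autGroup T := Subgroup.pow_mem _ hb _
  have h1 : (b ^ p ^ m)⁻¹ ∈ L := by
    refine hW _ (Subgroup.inv_mem _ hbp) (hωq.congr (fun y hy => ?_))
    have h2 := hq y hy
    rw [hγ, afn_one hy] at h2
    conv_rhs => rw [h2]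
    rw [afn_inv_afn _ (hωq.mem hy)]
  have h2 : b ^ p ^ m ∈ L := by
    have := L.inv_mem h1
    rwa [inv_inv] at this
  exact D.hLp b hb m h2

/-- **Detection**: an element of `Aut_F(T)` whose restriction to a `T`-centric subgroup is in `E` lies in `L`. -/
theorem detect [Finite S] [Fact p.Prime] (D : Dat F E p L) {Y : Subgroup Ω} (hY : TC F T Y) {a : MulAut T}
    (ha : a ∈ F.autGroup T) (hm : Maps E Y (afn a)) : a ∈ L := by
  have hTS := D.hT.1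
  haveI : Finite T := finite_of_le hTS
  have hTp : IsPGroup p T := D.hS.to_le hTS
  have main : ∀ (n : ℕ) (Y : Subgroup Ω), Nat.card T - Nat.card Y = n → TC F T Y →
      ∀ a ∈ F.autGroup T, Maps E Y (afn a) → a ∈ L := by
    intro n
    induction' n using Nat.strong_induction_on with n ih
    intro Y hn' hY a ha hm
    by_cases he : Y = T
    · subst he
      exact D.hEL ((mem_autGroup_iff le_rfl).2 hm)
    have hlt : Y < T := lt_of_le_of_ne hY.1 he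
    have hN := Cfsg.Agent.Lib.FusionAlperin.lt_normalizerIn hTp hlt
    have hcN : Nat.card Y < Nat.card (normalizerIn T Y) := by
      haveI : Finite (normalizerIn T Y) := finite_of_le inf_le_left
      exact Cfsg.Agent.Lib.FusionAlperin.card_lt_of_lt hN
    have hNT : normalizerIn T Y ≤ T := inf_le_left
    have hc2 : Nat.card (normalizerIn T Y) ≤ Nat.card T := Subgroup.card_le_of_le hNT
    have hNc : TC F T (normalizerIn T Y) := TC.mono hY hN.le hNT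
    have IH : ∀ Y' : Subgroup Ω, Y' ≤ T → Nat.card Y' = Nat.card (normalizerIn T Y) → TC F T Y' →
        ∀ c ∈ F.autGroup T, Maps E Y' (afn c) → c ∈ L := by
      intro Y' _ hc hY'
      exact ih (Nat.card T - Nat.card Y') (by omega) Y' rfl hY'
    obtain ⟨k, ci, U, W, γ, m, hk, hkimg, hci, hγ, hγp, hγW, hγe⟩ := lift_core hTp hTS D.hEF D.hE ha hY hm
    have hUT : U ≤ T := hkimg ▸ hk.img_le
    have hUS : U ≤ S := hUT.trans hTS
    have hUc : Nat.card U = Nat.card (normalizerIn T Y) := by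
      rw [← hkimg]
      exact hk.card_img
    have hUtc : TC F T U := by
      refine ⟨hUT, fun Q' hQ' => hNc.2 Q' (IsConj_trans ?_ hQ')⟩
      exact Cfsg.Agent.Lib.FusionCore.isConj_iff.2 ⟨k, maps_sub D.hEF hk, hkimg⟩
    obtain ⟨b, hb, γ₀, hγ₀, hγe0⟩ := D.hfr hUT ((mem_autGroup_iff hUS).1 hγ)
    have hbL : b ∈ L := pelt_mem' D hUT (IH U hUT hUc hUtc) hγp hb hγ₀ hγe0
    -- `a` on the normalizer
    have hn := normBy_aut D.hinv b hb hci
    have hkU : ∀ n ∈ normalizerIn T Y, k n ∈ U := fun n hn => hkimg ▸ hk.mem_img_of_mem hn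
    have hmem : ∀ y ∈ U, γ₀ y ∈ img (afn b⁻¹) W := by
      intro y hy
      refine (mem_img_afn' hci.le _).2 ⟨afn γ y, hγW y hy, ?_⟩
      rw [hγe0 y hy, afn_inv_afn _ (hγ₀.mem hy)]
    have hω : Maps E (normalizerIn T Y) ((afn b⁻¹ ∘ ci ∘ afn b) ∘ γ₀ ∘ k) :=
      hk.comp (hγ₀.comp hn hmem) hkU
    have h1 : b⁻¹ * a ∈ L := by
      refine IH (normalizerIn T Y) hNT rfl hNc _ (Subgroup.mul_mem _ (Subgroup.inv_mem _ hb) ha)
        (hω.congr (fun x hx => ?_))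
      show afn b⁻¹ (ci (afn b (γ₀ (k x)))) = _
      rw [← hγe0 _ (hkU x hx), hγe x hx, afn_mul _ _ (hNT hx)]
    have h2 := L.mul_mem hbL h1
    rwa [mul_inv_cancel_left] at h2
  exact main _ Y rfl hY a ha hm

/-- Uniqueness of the class. -/
theorem triv_unique [Finite S] [Fact p.Prime] (D : Dat F E p L) {Y : Subgroup Ω} (hY : TC F T Y) {a l : MulAut T}
    (ha : a ∈ F.autGroup T) (hl : l ∈ L) {ω ω' : Ω → Ω} (hω : Maps E Y ω) (hω' : Maps E Y ω')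
    (he : ∀ x ∈ Y, afn a (ω x) = afn l (ω' x)) : a ∈ L := by
  obtain ⟨e, hei, he1, he2⟩ := hω.inv
  have hlF := D.hLF hl
  have hV : TC F T (img ω Y) := by
    refine ⟨hω.img_le, fun Q' hQ' => hY.2 Q' (IsConj_trans ?_ hQ')⟩
    exact Cfsg.Agent.Lib.FusionCore.isConj_iff.2 ⟨ω, maps_sub D.hEF hω, rfl⟩
  have hc : Maps E (img ω Y) (ω' ∘ e) := hei.comp hω' (fun y hy => (he2 y hy).1)
  have h1 : l⁻¹ * a ∈ L := by
    refine detect D hV (Subgroup.mul_mem _ (Subgroup.inv_mem _ hlF) ha) (hc.congr (fun y hy => ?_))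
    obtain ⟨x, hx, rfl⟩ := hω.mem_img.1 hy
    show ω' (e (ω x)) = _
    rw [he1 x hx, afn_mul _ _ (hω.mem hx), he x hx, afn_inv_afn _ (hω'.mem hx)]
  have h2 := L.mul_mem hl h1
  rwa [mul_inv_cancel_left] at h2

end Cfsg.Agent.Lib.FusionChi
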