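/-
FusionChi2: the maps of the system `F₀` attached to a `p'`-quotient of `Aut_F(T)` (for S5243).
-/
import Mathlib
import Cfsg.Agent.Lib.FusionChi

set_option autoImplicit false

namespace Cfsg.Agent.Lib.FusionChi

open Cfsg Cfsg.FusionSystem Cfsg.Agent.Lib.FusionCore Cfsg.Agent.Lib.FusionCore2
open Cfsg.Agent.Lib.FusionIndexPrime Cfsg.Agent.Lib.FusionPPrimeRes Cfsg.Agent.Lib.FusionInvariant
open Cfsg.Agent.Lib.FusionPPrimeMin Cfsg.Agent.Lib.FusionSatCrit Cfsg.Agent.Lib.FusionPPrimeNormal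

variable {Ω : Type*} [Group Ω] {S T : Subgroup Ω} {F : FusionSystem S} {E : FusionSystem T}
  {L : Subgroup (MulAut T)} {P Q R X Y : Subgroup Ω} {f g : Ω → Ω} {p : ℕ}

lemma mem_T_iff (hT : F.StronglyClosed T) (hf : Maps F P f) {x : Ω} (hx : x ∈ P) : f x ∈ T ↔ x ∈ T := by
  constructor
  · intro h
    obtain ⟨gi, hgi, hgi1, hgi2⟩ := hf.inv
    have h2 : f x ∈ img f P ⊓ T := ⟨hf.mem_img_of_mem hx, h⟩
    have h3 := StrongMem hT inf_le_right (hgi.restrict inf_le_left) h2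
    rwa [hgi1 x hx] at h3
  · intro h
    exact StrongMem hT inf_le_right (hf.restrict inf_le_left) (⟨hx, h⟩ : x ∈ P ⊓ T)

lemma img_inf (hT : F.StronglyClosed T) (hf : Maps F P f) : img f (P ⊓ T) = img f P ⊓ T := by
  ext y
  have hf' := hf.restrict (inf_le_left : P ⊓ T ≤ P)
  rw [hf'.mem_img, Subgroup.mem_inf, hf.mem_img]
  constructor
  · rintro ⟨x, hx, rfl⟩
    exact ⟨⟨x, hx.1, rfl⟩, (mem_T_iff hT hf hx.1).2 hx.2⟩
  · rintro ⟨⟨x, hx, rfl⟩, h⟩
    exact ⟨x, ⟨hx, (mem_T_iff hT hf hx).1 h⟩, rfl⟩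

lemma TC.conj (hT : F.StronglyClosed T) (hX : TC F T X) (hf : Maps F X f) : TC F T (img f X) :=
  ⟨strong_img_le hT hX.1 hf, fun Q' hQ' =>
    hX.2 Q' (IsConj_trans (Cfsg.Agent.Lib.FusionCore.isConj_iff.2 ⟨f, hf, rfl⟩) hQ')⟩

/-- Centric subgroups meeting `T` in a subgroup all of whose conjugates are `T`-centric. -/
def Good (F : FusionSystem S) (T R : Subgroup Ω) : Prop := F.IsCentric R ∧ TC F T (R ⊓ T)

lemma Good.conj (hT : F.StronglyClosed T) (hR : Good F T R) (hf : Maps F R f) : Good F T (img f R) := by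
  refine ⟨IsCentric_conj hR.1 (Cfsg.Agent.Lib.FusionCore.isConj_iff.2 ⟨f, hf, rfl⟩), ?_⟩
  rw [← img_inf hT hf]
  exact TC.conj hT hR.2 (hf.restrict inf_le_left)

lemma Good.mono (hR : Good F T R) (hRQ : R ≤ Q) (hQ : Q ≤ S) : Good F T Q :=
  ⟨IsCentric.mono hR.1 hRQ hQ, TC.mono hR.2 (inf_le_inf_right _ hRQ) inf_le_right⟩

lemma tc_self [Finite S] (hT : F.StronglyClosed T) : TC F T T := by
  refine ⟨le_rfl, fun Q' hQ' c hc => ?_⟩
  obtain ⟨f₀, hf₀, rfl⟩ := Cfsg.Agent.Lib.FusionCore.isConj_iff.1 hQ'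
  have h1 : img f₀ T ≤ T := strong_img_le hT le_rfl hf₀
  haveI := finite_of_le hT.1
  have h2 : img f₀ T = T := Subgroup.eq_of_le_of_card_ge h1 (le_of_eq hf₀.card_img.symm)
  rw [h2] at hc ⊢
  exact (mem_centralizerIn.1 hc).1

lemma good_top [Finite S] (hT : F.StronglyClosed T) : Good F T S := by
  refine ⟨isCentric_top, ?_⟩
  rw [inf_eq_right.2 hT.1]
  exact tc_self hT

/-- Maps of the system: generated by maps of good subgroups, of trivial class on the intersection with `T`. -/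
inductive Mz (F : FusionSystem S) (E : FusionSystem T) (L : Subgroup (MulAut T)) : Subgroup Ω → (Ω → Ω) → Prop
  | gen {R P : Subgroup Ω} {ψ : Ω → Ω} : Good F T R → Maps F R ψ → KM E L (R ⊓ T) ψ → P ≤ R → Mz F E L P ψ
  | comp {P Q : Subgroup Ω} {f g : Ω → Ω} : Mz F E L P f → Mz F E L Q g → (∀ x ∈ P, f x ∈ Q) → Mz F E L P (g ∘ f)
  | inv {P : Subgroup Ω} {f g : Ω → Ω} : Mz F E L P f → Maps F (img f P) g → (∀ x ∈ P, g (f x) = x) →
      Mz F E L (img f P) g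
  | congr {P : Subgroup Ω} {f g : Ω → Ω} : Mz F E L P f → (∀ x ∈ P, f x = g x) → Mz F E L P g

lemma Mz.maps (h : Mz F E L P f) : Maps F P f := by
  induction h with
  | gen _ hψ _ hP => exact hψ.restrict hP
  | comp _ _ h hf hg => exact hf.comp hg h
  | inv _ hg _ _ => exact hg
  | congr _ h hf => exact hf.congr h

lemma Mz.exists_inv (h : Mz F E L P f) : ∃ g, Mz F E L (img f P) g ∧ ∀ x ∈ P, g (f x) = x := by
  obtain ⟨g, hg, h1, h2⟩ := h.maps.inv
  exact ⟨g, Mz.inv h hg h1, h1⟩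

lemma autInduced_le_L [Finite S] [Fact p.Prime] (D : Dat F E p L) : autInducedBy S T ≤ L := by
  intro a ha
  have hTS := D.hT.1
  haveI : Finite T := finite_of_le hTS
  have hap : IsPGroup p (autInducedBy S T) := isPGroup_autInducedBy D.hS
  obtain ⟨n, hn⟩ := hap ⟨a, ha⟩
  have h1 : a ^ p ^ n = 1 := congrArg Subtype.val hn
  exact D.hLp a (autInducedBy_le_autGroup hTS ha) n (by rw [h1]; exact L.one_mem)

/-- Conjugation by an element of `S`, as an element of `L`. -/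
lemma exists_conj_L [Finite S] [Fact p.Prime] (D : Dat F E p L) {g : Ω} (hg : g ∈ S) :
    ∃ l ∈ L, ∀ t ∈ T, afn l t = g * t * g⁻¹ := by
  haveI : Finite T := finite_of_le D.hT.1
  have hn : g ∈ normalizerIn S T :=
    mem_normalizerIn.2 ⟨hg, mem_normalizer_of_conj_mem (fun y hy => conj_mem_T D.hT hg hy)⟩
  refine ⟨conjN S T ⟨g, hn⟩, autInduced_le_L D ?_, fun t ht => afn_conjN _ ht⟩
  rw [← conjN_range]
  exact ⟨_, rfl⟩

lemma Mz.conj [Finite S] [Fact p.Prime] (D : Dat F E p L) (hP : P ≤ S) {g : Ω} (hg : g ∈ S) :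
    Mz F E L P (fun x => g * x * g⁻¹) := by
  obtain ⟨l, hl, hle⟩ := exists_conj_L D hg
  refine Mz.gen (R := S) (good_top D.hT) (Maps.conj le_rfl hg) ⟨l, hl, _root_.id, Maps.id inf_le_right,
    fun x hx => ?_⟩ hP
  exact (hle x hx.2).symm

lemma Mz.restrict [Finite S] [Fact p.Prime] (D : Dat F E p L) (h : Mz F E L P f) (hX : X ≤ P) : Mz F E L X f :=
  (Mz.comp (Mz.conj D (hX.trans h.maps.le) S.one_mem) h (fun x hx => by simpa using hX hx)).congr
    (fun x _ => by simp)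

lemma Mz.id [Finite S] [Fact p.Prime] (D : Dat F E p L) (hP : P ≤ S) : Mz F E L P _root_.id :=
  (Mz.conj D hP S.one_mem).congr (fun x _ => by simp)

lemma normBy_L (D : Dat F E p L) : NormBy E L := fun l hl _ _ hf => normBy_aut D.hinv l (D.hLF hl) hf

/-- Inverses of `KM` maps. -/
lemma KM.inv' (hnL : NormBy E L) {V₀ X₀ : Subgroup Ω} (h : KM E L V₀ f)
    (hg : ∀ x ∈ X₀, g x ∈ V₀ ∧ f (g x) = x) : KM E L X₀ g := by
  obtain ⟨l, hl, ω, hω, he⟩ := h
  obtain ⟨ωi, hωi, h1, h2⟩ := hω.inv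
  have hc := hnL l⁻¹ (L.inv_mem hl) hωi
  rw [inv_inv] at hc
  have hle : X₀ ≤ img (afn l) (img ω V₀) := by
    intro x hx
    obtain ⟨h3, h4⟩ := hg x hx
    refine (mem_img_afn' hω.img_le l).2 ⟨ω (g x), hω.mem_img_of_mem h3, ?_⟩
    rw [← he _ h3, h4]
  refine ⟨l⁻¹, L.inv_mem hl, _, hc.restrict hle, fun x hx => ?_⟩
  obtain ⟨h3, h4⟩ := hg x hx
  have hxT : afn l⁻¹ x = ω (g x) := by
    conv_lhs => rw [← h4, he _ h3]
    exact afn_inv_afn _ (hω.mem h3)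
  have hωm : ωi (ω (g x)) ∈ T := hωi.mem (hω.mem_img_of_mem h3)
  show g x = afn l⁻¹ (afn l (ωi (afn l⁻¹ x)))
  rw [hxT, afn_inv_afn _ hωm, h1 _ h3]

/-- Maps of the system have trivial class on good subgroups. -/
theorem Mz.triv (D : Dat F E p L) (h : Mz F E L P f) : ∀ X, X ≤ P → Good F T X → KM E L (X ⊓ T) f := by
  have hT := D.hT
  induction h with
  | @gen R P₀ ψ hR hψ hK hP =>
    intro X hX _
    obtain ⟨l, hl, ω, hω, he⟩ := hK
    have hle : X ⊓ T ≤ R ⊓ T := inf_le_inf_right _ (hX.trans hP)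
    exact ⟨l, hl, ω, hω.restrict hle, fun x hx => he x (hle hx)⟩
  | @comp P₀ Q₀ f₀ g₀ hf hg h ihf ihg =>
    intro X hX hXg
    have hfX := hf.maps.restrict hX
    have hg' : Good F T (img f₀ X) := hXg.conj hT hfX
    have hle : img f₀ X ≤ Q₀ := by
      intro y hy
      obtain ⟨x, hx, rfl⟩ := hfX.mem_img.1 hy
      exact h x (hX hx)
    have h1 := ihf X hX hXg
    have h2 := ihg _ hle hg'
    exact KM.comp (normBy_L D) h1 h2 (fun x hx =>
      ⟨hfX.mem_img_of_mem hx.1, (mem_T_iff hT hfX hx.1).2 hx.2⟩)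
  | @inv P₀ f₀ g₀ hf hg h ih =>
    intro X hX hXg
    have hgX := hg.restrict hX
    have hle : img g₀ X ≤ P₀ := by
      intro y hy
      obtain ⟨x, hx, rfl⟩ := hgX.mem_img.1 hy
      obtain ⟨w, hw, rfl⟩ := hf.maps.mem_img.1 (hX hx)
      rw [h w hw]
      exact hw
    have hg' : Good F T (img g₀ X) := hXg.conj hT hgX
    have h1 := ih _ hle hg'
    refine KM.inv' (normBy_L D) h1 (fun x hx => ⟨⟨hgX.mem_img_of_mem hx.1,
      (mem_T_iff hT hgX hx.1).2 hx.2⟩, ?_⟩)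
    obtain ⟨w, hw, hwe⟩ := hf.maps.mem_img.1 (hX hx.1)
    rw [← hwe, h w hw]
  | @congr P₀ f₀ g₀ hf h ih =>
    intro X hX hXg
    obtain ⟨l, hl, ω, hω, he⟩ := ih X hX hXg
    exact ⟨l, hl, ω, hω, fun x hx => by rw [← h x (hX hx.1), he x hx]⟩

/-- The system. -/
def sys [Finite S] [Fact p.Prime] (D : Dat F E p L) : FusionSystem S :=
  ofMaps F (Mz F E L) Mz.maps Mz.congr (fun hP hg => Mz.conj D hP hg) Mz.comp Mz.exists_inv

lemma maps_sys [Finite S] [Fact p.Prime] {D : Dat F E p L} : Maps (sys D) P f ↔ Mz F E L P f :=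
  maps_ofMaps

lemma sys_le [Finite S] [Fact p.Prime] {D : Dat F E p L} : (sys D).IsSubsystemOf F := by
  intro P φ hφ
  have hm : Maps (sys D) P (fn φ) := Maps.of_mem hφ
  exact (maps_sys.1 hm).maps.mem_hom (fun x => (fn_coe φ x).symm)

end Cfsg.Agent.Lib.FusionChi
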