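/-
FusionChi3: extension of `Aut_F(T)`-classes to `Aut_F(S)`, and `F = Aut_F(S) F₀` (for S5243).
-/
import Mathlib
import Cfsg.Agent.Lib.FusionChi2

set_option autoImplicit false

namespace Cfsg.Agent.Lib.FusionChi

open Cfsg Cfsg.FusionSystem Cfsg.Agent.Lib.FusionCore Cfsg.Agent.Lib.FusionCore2
open Cfsg.Agent.Lib.FusionIndexPrime Cfsg.Agent.Lib.FusionPPrimeRes Cfsg.Agent.Lib.FusionInvariant
open Cfsg.Agent.Lib.FusionPPrimeMin Cfsg.Agent.Lib.FusionSatCrit Cfsg.Agent.Lib.FusionPPrimeNormal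

variable {Ω : Type*} [Group Ω] {S T : Subgroup Ω} {F : FusionSystem S} {E : FusionSystem T}
  {L : Subgroup (MulAut T)} {P Q R X Y : Subgroup Ω} {f g : Ω → Ω} {p : ℕ}

/-- Restriction to `T` of a map of `S`, as an automorphism of `T`. -/
lemma exists_resT [Finite S] (hT : F.StronglyClosed T) {B : Ω → Ω} (hB : Maps F S B) :
    ∃ b : MulAut T, b ∈ F.autGroup T ∧ ∀ t ∈ T, afn b t = B t := by
  have hTS := hT.1
  have hm := hB.restrict hTS
  have himg : img B T = T := img_eq_of_card hm hTS hTS (fun x hx => StrongMem hT le_rfl hm hx) le_rfl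
  exact ⟨hm.toAut himg, hm.toAut_mem himg, fun t ht => hm.afn_toAut himg ht⟩

/-- **Frattini**: every class of `Aut_F(T)` modulo `L` contains the restriction of an element of `Aut_F(S)`. -/
theorem exists_ext [Finite S] [Fact p.Prime] (D : Dat F E p L) {b : MulAut T} (hb : b ∈ F.autGroup T) :
    ∃ a ∈ F.autGroup S, ∃ c ∈ F.autGroup T, ∃ l ∈ L, (∀ t ∈ T, afn c t = afn a t) ∧ b = c * l := by
  have hT := D.hT
  have hTS := hT.1
  haveI : Finite T := finite_of_le hTS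
  haveI : Finite (MulAut T) := finite_mulAut hTS
  obtain ⟨-, hTa⟩ := of_fullyNormalized D.hS D.hF (fullyNormalized_T hT)
  obtain ⟨-, V, hV⟩ := hTa
  haveI hNn : (L.subgroupOf (F.autGroup T)).Normal := by
    refine ⟨fun x hx g => ?_⟩
    rw [Subgroup.mem_subgroupOf] at hx ⊢
    exact D.hLn _ g.2 _ hx
  have hVN : (V : Subgroup (F.autGroup T)) ≤ L.subgroupOf (F.autGroup T) := by
    intro x hx
    rw [hV] at hx
    exact Subgroup.mem_subgroupOf.2 (autInduced_le_L D (Subgroup.mem_subgroupOf.1 hx))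
  have htop := Sylow.normalizer_sup_eq_top' V hVN
  have hb' : (⟨b, hb⟩ : F.autGroup T) ∈ (Subgroup.normalizer (V : Set (F.autGroup T)) ⊔
      L.subgroupOf (F.autGroup T) : Subgroup (F.autGroup T)) := by
    rw [htop]
    exact Subgroup.mem_top _
  obtain ⟨h, hh, n, hn, hhn⟩ := Subgroup.mem_sup_of_normal_right.1 hb'
  have hhm : Maps F T (afn (h : MulAut T)) := (mem_autGroup_iff hTS).1 h.2
  have hSN : S ≤ Nf S T (afn (h : MulAut T)) := by
    intro s hs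
    have hsN : s ∈ normalizerIn S T :=
      mem_normalizerIn.2 ⟨hs, mem_normalizer_of_conj_mem (fun y hy => conj_mem_T hT hs hy)⟩
    let c : MulAut T := conjN S T ⟨s, hsN⟩
    have hc : c ∈ autInducedBy S T := by
      rw [← conjN_range]
      exact ⟨_, rfl⟩
    have hcF : c ∈ F.autGroup T := autInducedBy_le_autGroup hTS hc
    have hcV : (⟨c, hcF⟩ : F.autGroup T) ∈ (V : Subgroup (F.autGroup T)) := by
      rw [hV]
      exact Subgroup.mem_subgroupOf.2 hc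
    have h1 := (Subgroup.mem_normalizer_iff.1 hh _).1 hcV
    rw [hV] at h1
    have h2 := Subgroup.mem_subgroupOf.1 h1
    obtain ⟨y, hy, hye⟩ := mem_autInducedBy.1 h2
    refine mem_Nf.2 ⟨hs, (mem_normalizerIn.1 hsN).2, y, hy, fun x hx => ?_⟩
    have h3 := hye _ (afn_mem (h : MulAut T) hx)
    have e : ((h * ⟨c, hcF⟩ * h⁻¹ : F.autGroup T) : MulAut T) = (h : MulAut T) * c * (h : MulAut T)⁻¹ := rfl
    rw [e, afn_mul _ _ (afn_mem _ hx), afn_mul _ _ (afn_mem _ (afn_mem _ hx)), afn_inv_afn _ hx,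
      afn_conjN _ hx] at h3
    exact h3
  obtain ⟨ψ₀, hψ₀, hψ₀e⟩ := IsReceptive.ext (receptive_T D.hS D.hF hT) hhm (afn_img (h : MulAut T))
  have hψ := hψ₀.restrict hSN
  have himg : img ψ₀ S = S := img_eq_of_card hψ le_rfl le_rfl (fun x hx => hψ.mem hx) le_rfl
  refine ⟨hψ.toAut himg, hψ.toAut_mem himg, (h : MulAut T), h.2, (n : MulAut T), Subgroup.mem_subgroupOf.1 hn,
    fun t ht => ?_, ?_⟩
  · rw [hψ.afn_toAut himg (hTS ht), hψ₀e t ht]
  · exact (congrArg Subtype.val hhn).symm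

/-- Transport of the class by an automorphism of `S`. -/
lemma KM_transport [Finite S] (D : Dat F E p L) {A B ψ : Ω → Ω} (hAB : SAut F A B) (hRS : R ≤ S)
    (h : KM E L (R ⊓ T) ψ) : KM E L (img B R ⊓ T) (B ∘ ψ ∘ A) := by
  have hT := D.hT
  have hTS := hT.1
  obtain ⟨b, hb, hbe⟩ := exists_resT hT hAB.mB
  obtain ⟨l, hl, ω, hω, he⟩ := h
  have hVT : R ⊓ T ≤ T := inf_le_right
  have hω' := conjM D.hinv hb hω
  have hBR := hAB.mB.restrict hRS
  have hle : img B R ⊓ T ≤ img (afn b) (R ⊓ T) := by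
    rintro y ⟨hy1, hy2⟩
    obtain ⟨x, hx, rfl⟩ := hBR.mem_img.1 hy1
    exact (mem_img_afn' hVT b).2 ⟨x, ⟨hx, (mem_T_iff hT hBR hx).1 hy2⟩, hbe x ((mem_T_iff hT hBR hx).1 hy2)⟩
  refine ⟨b * l * b⁻¹, D.hLn b hb l hl, _, hω'.restrict hle, ?_⟩
  rintro y ⟨hy1, hy2⟩
  obtain ⟨x, hx, rfl⟩ := hBR.mem_img.1 hy1
  have hxT : x ∈ T := (mem_T_iff hT hBR hx).1 hy2
  have hxV : x ∈ R ⊓ T := ⟨hx, hxT⟩
  have h1 : afn b⁻¹ (B x) = x := by
    rw [← hbe x hxT]
    exact afn_inv_afn b hxT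
  have hωT := hω.mem hxV
  have h2 : afn l (ω x) ∈ T := afn_mem l hωT
  show B (ψ (A (B x))) = afn (b * l * b⁻¹) (afn b (ω (afn b⁻¹ (B x))))
  rw [hAB.ab x (hRS hx), h1, he x hxV, ← hbe _ h2, afn_mul _ _ (afn_mem _ hωT),
    afn_mul _ _ (afn_mem _ (afn_mem _ hωT)), afn_inv_afn b hωT]

/-- Invariance under `Aut_F(S)`. -/
lemma Mz.conj_aut [Finite S] (D : Dat F E p L) {A B : Ω → Ω} (hAB : SAut F A B) (h : Mz F E L P f) :
    Mz F E L (img B P) (B ∘ f ∘ A) := by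
  have hT := D.hT
  induction h with
  | @gen R P₀ ψ hR hψ hK hP =>
    have hRS := hR.1.1
    have hBR := hAB.mB.restrict hRS
    have hm : Maps F (img B R) (B ∘ ψ ∘ A) :=
      (hAB.mA.restrict (hAB.img_le hRS)).comp (hψ.comp hAB.mB (fun y hy => hψ.mem hy))
        (fun y hy => hAB.A_mem hRS hy)
    exact Mz.gen (hR.conj hT hBR) hm (KM_transport D hAB hRS hK) (hBR.img_mono hP)
  | @comp P Q f g hf hg h ihf ihg =>
    have hPS := hf.maps.le
    have hQS := hg.maps.le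
    have hfS := hf.maps
    refine (ihf.comp ihg (fun y hy => ?_)).congr (fun y hy => ?_)
    · obtain ⟨x, hx, rfl⟩ := (hAB.mem_img hPS).1 hy
      show B (f (A (B x))) ∈ _
      rw [hAB.ab x (hPS hx)]
      exact hAB.mem_of_mem hQS (h x hx)
    · obtain ⟨x, hx, rfl⟩ := (hAB.mem_img hPS).1 hy
      show B (g (A (B (f (A (B x)))))) = B (g (f (A (B x))))
      rw [hAB.ab x (hPS hx), hAB.ab _ (hfS.mem hx)]
  | @inv P f g hf hg h ih =>
    have hPS := hf.maps.le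
    have hfS := hf.maps
    have hiS : img f P ≤ S := hfS.img_le
    have e : img (B ∘ f ∘ A) (img B P) = img B (img f P) := by
      ext y
      rw [ih.maps.mem_img, hAB.mem_img hiS]
      constructor
      · rintro ⟨z, hz, rfl⟩
        obtain ⟨x, hx, rfl⟩ := (hAB.mem_img hPS).1 hz
        refine ⟨f x, hfS.mem_img_of_mem hx, ?_⟩
        show _ = B (f (A (B x)))
        rw [hAB.ab x (hPS hx)]
      · rintro ⟨z, hz, rfl⟩
        obtain ⟨x, hx, rfl⟩ := hfS.mem_img.1 hz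
        refine ⟨B x, hAB.mem_of_mem hPS hx, ?_⟩
        show B (f (A (B x))) = _
        rw [hAB.ab x (hPS hx)]
    have hU : Maps F (img B (img f P)) (B ∘ g ∘ A) := by
      have h1 : Maps F (img B (img f P)) A := hAB.mA.restrict (hAB.img_le hiS)
      exact h1.comp (hg.comp hAB.mB (fun y hy => hg.mem hy)) (fun y hy => hAB.A_mem hiS hy)
    have := Mz.inv ih (e ▸ hU) (fun y hy => ?_)
    · rwa [e] at this
    · obtain ⟨x, hx, rfl⟩ := (hAB.mem_img hPS).1 hy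
      show B (g (A (B (f (A (B x)))))) = B x
      rw [hAB.ab x (hPS hx), hAB.ab _ (hfS.mem hx), h x hx]
  | @congr P f g hf h ih =>
    have hPS := hf.maps.le
    refine ih.congr (fun y hy => ?_)
    obtain ⟨x, hx, rfl⟩ := (hAB.mem_img hPS).1 hy
    show B (f (A (B x))) = B (g (A (B x)))
    rw [hAB.ab x (hPS hx), h x hx]

/-- Predicate of the maps `a ∘ f₀`. -/
def BigZ (F : FusionSystem S) (E : FusionSystem T) (L : Subgroup (MulAut T)) (P : Subgroup Ω) (φ : Ω → Ω) : Prop :=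
  ∃ a ∈ F.autGroup S, ∃ f₀, Mz F E L P f₀ ∧ ∀ x ∈ P, φ x = afn a (f₀ x)

lemma BigZ.maps (h : BigZ F E L P f) : Maps F P f := by
  obtain ⟨a, ha, f₀, h0, hf⟩ := h
  have hm := h0.maps
  exact (hm.comp (sAut_of_mem ha).mA (fun x hx => hm.mem hx)).congr (fun x hx => (hf x hx).symm)

lemma BigZ.congr (h : BigZ F E L P f) (hfg : ∀ x ∈ P, f x = g x) : BigZ F E L P g := by
  obtain ⟨a, ha, f₀, h0, hf⟩ := h
  exact ⟨a, ha, f₀, h0, fun x hx => by rw [← hfg x hx, hf x hx]⟩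

lemma BigZ.conj [Finite S] [Fact p.Prime] (D : Dat F E p L) {g : Ω} (hP : P ≤ S) (hg : g ∈ S) :
    BigZ F E L P (fun x => g * x * g⁻¹) :=
  ⟨1, Subgroup.one_mem _, _, Mz.conj D hP hg, fun x hx => by
    rw [afn_one (S.mul_mem (S.mul_mem hg (hP hx)) (S.inv_mem hg))]⟩

lemma BigZ.comp [Finite S] (D : Dat F E p L) {P Q : Subgroup Ω} (hf : BigZ F E L P f) (hg : BigZ F E L Q g)
    (h : ∀ x ∈ P, f x ∈ Q) : BigZ F E L P (g ∘ f) := by
  obtain ⟨a, ha, f₀, h0, hf⟩ := hf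
  obtain ⟨b, hb, g₀, h1, hg⟩ := hg
  have hQS := h1.maps.le
  have hs := sAut_of_mem ha
  have hsi := Mz.conj_aut D hs h1
  have hf0 := h0.maps
  refine ⟨b * a, Subgroup.mul_mem _ hb ha, _, Mz.comp h0 hsi (fun x hx => ?_), fun x hx => ?_⟩
  · have h2 := hs.mem_of_mem hQS (h x hx)
    rwa [hf x hx, hs.ba _ (hf0.mem hx)] at h2
  · have hfx : afn a (f₀ x) ∈ Q := hf x hx ▸ h x hx
    show g (f x) = afn (b * a) (afn a⁻¹ (g₀ (afn a (f₀ x))))
    rw [hf x hx, hg _ hfx, afn_mul _ _ (hs.mB.mem (h1.maps.mem hfx)), hs.ab _ (h1.maps.mem hfx)]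

lemma BigZ.inv [Finite S] (D : Dat F E p L) (hf : BigZ F E L P f) :
    ∃ g, BigZ F E L (img f P) g ∧ ∀ x ∈ P, g (f x) = x := by
  have hfm := hf.maps
  obtain ⟨g, hg, h1, h2⟩ := hfm.inv
  refine ⟨g, ?_, h1⟩
  obtain ⟨a, ha, f₀, h0, hff⟩ := hf
  have hf0 := h0.maps
  obtain ⟨k, hk, hk1, hk2⟩ := hf0.inv
  have hgk := Mz.inv h0 hk hk1
  have hs := sAut_of_mem ha
  have hPS := hf0.le
  have hgk2 := Mz.conj_aut D hs.symm hgk
  have e : img (afn a) (img f₀ P) = img f P := by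
    ext y
    rw [hs.symm.mem_img hf0.img_le, hfm.mem_img]
    constructor
    · rintro ⟨z, hz, rfl⟩
      obtain ⟨x, hx, rfl⟩ := hf0.mem_img.1 hz
      exact ⟨x, hx, hff x hx⟩
    · rintro ⟨x, hx, rfl⟩
      exact ⟨f₀ x, hf0.mem_img_of_mem hx, (hff x hx).symm⟩
  rw [e] at hgk2
  refine ⟨a⁻¹, Subgroup.inv_mem _ ha, _, hgk2, fun y hy => ?_⟩
  obtain ⟨x, hx, rfl⟩ := hfm.mem_img.1 hy
  rw [h1 x hx, hff x hx]
  show x = afn a⁻¹ (afn a (k (afn a⁻¹ (afn a (f₀ x)))))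
  rw [hs.ba _ (hf0.mem hx), hk1 x hx, hs.ba _ (hPS hx)]

/-- The system `Aut_F(S) F₀`. -/
def bigZ [Finite S] [Fact p.Prime] (D : Dat F E p L) : FusionSystem S :=
  ofMaps F (BigZ F E L) BigZ.maps BigZ.congr (fun hP hg => BigZ.conj D hP hg) (fun hf hg h => BigZ.comp D hf hg h)
    (fun hf => BigZ.inv D hf)

/-- An element of `T` outside `R` normalizing `R` and centralizing `R ∩ T`. -/
structure Extra (T R : Subgroup Ω) (u : Ω) : Prop where
  hT : u ∈ T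
  hn : u ∉ R
  hN : u ∈ Subgroup.normalizer (R : Set Ω)
  hc : ∀ v ∈ R ⊓ T, v * u = u * v

lemma Extra.map [Finite S] {N : Subgroup Ω} {ρ : Ω → Ω} {u : Ω} (hT : F.StronglyClosed T) (hρ : Maps F N ρ)
    (hRN : R ≤ N) (huN : u ∈ N) (h : Extra T R u) : Extra T (img ρ R) (ρ u) := by
  have hρR := hρ.restrict hRN
  haveI : Finite (img ρ R) := finite_of_le hρR.img_le
  refine ⟨(mem_T_iff hT hρ huN).2 h.hT, fun hu => ?_, mem_normalizer_of_conj_mem (fun y hy => ?_), fun v hv => ?_⟩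
  · obtain ⟨x, hx, hxe⟩ := hρR.mem_img.1 hu
    have := hρ.inj (hRN hx) huN hxe
    exact h.hn (this ▸ hx)
  · obtain ⟨x, hx, rfl⟩ := hρR.mem_img.1 hy
    rw [← hρ.map_conj huN (hRN hx)]
    refine hρR.mem_img_of_mem ((Subgroup.mem_normalizer_iff.1 h.hN x).1 hx)
  · rw [← img_inf hT hρR] at hv
    obtain ⟨w, hw, rfl⟩ := (hρR.restrict inf_le_left).mem_img.1 hv
    rw [← hρ.map_mul (hRN hw.1) huN, ← hρ.map_mul huN (hRN hw.1), h.hc w hw]

/-- The conjugation by an extra element. -/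
lemma extra_conj (hT : F.StronglyClosed T) (hRS : R ≤ S) (G : FusionSystem S) {u : Ω} (h : Extra T R u) :
    ∃ c : MulAut R, c ∈ autInducedBy S R ∧ c ∈ ZG G T R ∧ ∀ r ∈ R, afn c r = u * r * u⁻¹ := by
  have huS := hT.1 h.hT
  have huN : u ∈ normalizerIn S R := mem_normalizerIn.2 ⟨huS, h.hN⟩
  have hc : conjN S R ⟨u, huN⟩ ∈ autInducedBy S R := by
    rw [← conjN_range]
    exact ⟨_, rfl⟩
  refine ⟨conjN S R ⟨u, huN⟩, hc, ⟨autInducedBy_le_autGroup hRS hc, fun x hx => ?_, fun r hr => ?_⟩,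
    fun r hr => afn_conjN _ hr⟩
  · rw [afn_conjN _ hx.1]
    show u * x * u⁻¹ = x
    rw [← h.hc x hx]
    group
  · rw [afn_conjN _ hr]
    show r⁻¹ * (u * r * u⁻¹) ∈ T
    have h1 := T.mul_mem (inv_conj_mem_T hT (hRS hr) h.hT) (T.inv_mem h.hT)
    convert h1 using 1
    group

lemma not_inn (hc : F.IsCentric R) {u : Ω} (hT : T ≤ S) (h : Extra T R u) {c : MulAut R}
    (hc3 : ∀ r ∈ R, afn c r = u * r * u⁻¹) : c ∉ Inn R := by
  rintro ⟨⟨x, hx⟩, hxe⟩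
  have hcc := hc.2 R (isConj_refl hc.1)
  have hxu : x⁻¹ * u ∈ centralizerIn S R := by
    refine mem_centralizerIn.2 ⟨S.mul_mem (S.inv_mem (hc.1 hx)) (hT h.hT), fun y hy => ?_⟩
    have h1 := hc3 y hy
    rw [← hxe, afn_of_mem _ hy] at h1
    change x * y * x⁻¹ = u * y * u⁻¹ at h1
    calc y * (x⁻¹ * u) = x⁻¹ * (x * y * x⁻¹) * u := by group
      _ = x⁻¹ * (u * y * u⁻¹) * u := by rw [h1]
      _ = _ := by group
  have h2 := R.mul_mem hx (hcc hxu)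
  rw [mul_inv_cancel_left] at h2
  exact h.hn h2

/-- Subgroups with non-`T`-centric conjugate of the intersection have a conjugate with extra elements. -/
theorem nongood_elt [Finite S] [Fact p.Prime] (hS : IsPGroup p S) (hF : F.IsSaturated p)
    (hT : F.StronglyClosed T) (hPS : P ≤ S) (h : ¬ TC F T (P ⊓ T)) :
    ∃ ψ, Maps F P ψ ∧ ∃ u, Extra T (img ψ P) u := by
  have hTS := hT.1
  have hVT : P ⊓ T ≤ T := inf_le_right
  have hVS := hVT.trans hTS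
  have h1 : ∃ Q'', F.IsConj (P ⊓ T) Q'' ∧ ∃ c ∈ centralizerIn T Q'', c ∉ Q'' := by
    by_contra hn
    push Not at hn
    exact h ⟨hVT, fun Q' hQ' c hc => hn Q' hQ' c hc⟩
  obtain ⟨Q'', hQ'', c, hc, hcn⟩ := h1
  obtain ⟨Q₀, hVQ, hQn⟩ := exists_fullyNormalized_conj (F := F) hVS
  obtain ⟨hQc, hQa⟩ := of_fullyNormalized hS hF hQn
  have hQr := receptive_of_fullyCentralized hS hF hQc
  obtain ⟨ψ₁, hψ₁, -, hψ₁i⟩ := exists_normalizer_map hS hQa hQr hVQ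
  have hQ''Q : F.IsConj Q'' Q₀ := IsConj_trans (IsConj_symm hQ'') hVQ
  obtain ⟨ψ₂, hψ₂, -, hψ₂i⟩ := exists_normalizer_map hS hQa hQr hQ''Q
  have hQ''S : Q'' ≤ S := IsConj_le' hQ''
  have hQT : Q₀ ≤ T := by
    rw [← hψ₁i]
    exact strong_img_le hT hVT (hψ₁.restrict (le_normalizerIn hVS))
  obtain ⟨hcT, hcC⟩ := mem_centralizerIn.1 hc
  have hcN : c ∈ normalizerIn S Q'' := by
    haveI := finite_of_le hQ''S
    refine mem_normalizerIn.2 ⟨hTS hcT, mem_normalizer_of_conj_mem (fun y hy => ?_)⟩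
    rw [← hcC y hy, mul_inv_cancel_right]
    exact hy
  have hQ''N : Q'' ≤ normalizerIn S Q'' := le_normalizerIn hQ''S
  -- the element `c' = ψ₂ c`
  have hc'T : ψ₂ c ∈ T := (mem_T_iff hT hψ₂ hcN).2 hcT
  have hc'n : ψ₂ c ∉ Q₀ := by
    intro hm
    rw [← hψ₂i] at hm
    obtain ⟨q, hq, hqe⟩ := (hψ₂.restrict hQ''N).mem_img.1 hm
    have := hψ₂.inj (hQ''N hq) hcN hqe
    exact hcn (this ▸ hq)
  have hc'c : ∀ v ∈ Q₀, v * ψ₂ c = ψ₂ c * v := by
    intro v hv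
    rw [← hψ₂i] at hv
    obtain ⟨q, hq, rfl⟩ := (hψ₂.restrict hQ''N).mem_img.1 hv
    rw [← hψ₂.map_mul (hQ''N hq) hcN, ← hψ₂.map_mul hcN (hQ''N hq), hcC q hq]
  -- `P` normalizes `P ∩ T`
  have hPN : P ≤ normalizerIn S (P ⊓ T) := by
    intro x hx
    haveI := finite_of_le hVS
    refine mem_normalizerIn.2 ⟨hPS hx, mem_normalizer_of_conj_mem (fun y hy => ?_)⟩
    exact ⟨P.mul_mem (P.mul_mem hx hy.1) (P.inv_mem hx), conj_mem_T hT (hPS hx) hy.2⟩
  have hψ := hψ₁.restrict hPN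
  have hinf : img ψ₁ P ⊓ T = Q₀ := by
    rw [← img_inf hT hψ, ← hψ₁i]
  have hP'S : img ψ₁ P ≤ S := hψ.img_le
  haveI := finite_of_le hP'S
  have hc'P : ψ₂ c ∉ img ψ₁ P := fun hm => hc'n (hinf ▸ (⟨hm, hc'T⟩ : ψ₂ c ∈ img ψ₁ P ⊓ T))
  -- `K = C_T(Q₀)`
  have hKnorm : ∀ x ∈ img ψ₁ P, ∀ k ∈ centralizerIn T Q₀, x * k * x⁻¹ ∈ centralizerIn T Q₀ := by
    intro x hx k hk
    obtain ⟨hkT, hkC⟩ := mem_centralizerIn.1 hk
    refine mem_centralizerIn.2 ⟨conj_mem_T hT (hP'S hx) hkT, fun v hv => ?_⟩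
    have hv' : x⁻¹ * v * x ∈ Q₀ := by
      rw [← hinf] at hv ⊢
      have h2 := Subgroup.mul_mem _ (Subgroup.mul_mem _ (Subgroup.inv_mem _ hx) hv.1) hx
      exact ⟨h2, inv_conj_mem_T hT (hP'S hx) hv.2⟩
    have h3 := hkC _ hv'
    calc v * (x * k * x⁻¹) = x * ((x⁻¹ * v * x) * k) * x⁻¹ := by group
      _ = x * (k * (x⁻¹ * v * x)) * x⁻¹ := by rw [h3]
      _ = _ := by group
  have hMS : img ψ₁ P ⊔ centralizerIn T Q₀ ≤ S := sup_le hP'S (inf_le_left.trans hTS)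
  haveI : Finite ↥(img ψ₁ P ⊔ centralizerIn T Q₀) := finite_of_le hMS
  have hlt : img ψ₁ P < img ψ₁ P ⊔ centralizerIn T Q₀ := by
    refine lt_of_le_of_ne le_sup_left (fun he => hc'P ?_)
    rw [he]
    exact (le_sup_right : centralizerIn T Q₀ ≤ _) (mem_centralizerIn.2 ⟨hc'T, hc'c⟩)
  have hN := Cfsg.Agent.Lib.FusionAlperin.lt_normalizerIn (hS.to_le hMS) hlt
  obtain ⟨g₀, hg₀, hg₀n⟩ := SetLike.exists_of_lt hN
  obtain ⟨hg₀M, hg₀N⟩ := mem_normalizerIn.1 hg₀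
  obtain ⟨x, hx, t, ht, rfl⟩ := mem_sup_of_normalizes hKnorm hg₀M
  have hxN : x ∈ Subgroup.normalizer (img ψ₁ P : Set Ω) := by
    refine mem_normalizer_of_conj_mem (fun y hy => ?_)
    exact Subgroup.mul_mem _ (Subgroup.mul_mem _ hx hy) (Subgroup.inv_mem _ hx)
  obtain ⟨htT, htC⟩ := mem_centralizerIn.1 ht
  refine ⟨ψ₁, hψ, t, htT, fun htP => hg₀n (Subgroup.mul_mem _ hx htP), ?_, fun v hv => ?_⟩
  · have := Subgroup.mul_mem _ (Subgroup.inv_mem _ hxN) hg₀N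
    rwa [inv_mul_cancel_left] at this
  · rw [hinf] at hv
    exact htC v hv

/-- A fully normalized subgroup with non-`T`-centric conjugate of the intersection has extra elements. -/
theorem extra_of_fn [Finite S] [Fact p.Prime] (hS : IsPGroup p S) (hF : F.IsSaturated p)
    (hT : F.StronglyClosed T) (hn : F.IsFullyNormalized P) (h : ¬ TC F T (P ⊓ T)) : ∃ u, Extra T P u := by
  obtain ⟨ψ, hψ, u, hu⟩ := nongood_elt hS hF hT hn.1 h
  obtain ⟨hPc, hPa⟩ := of_fullyNormalized hS hF hn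
  have hPr := receptive_of_fullyCentralized hS hF hPc
  have hc : F.IsConj (img ψ P) P := IsConj_symm (Cfsg.Agent.Lib.FusionCore.isConj_iff.2 ⟨ψ, hψ, rfl⟩)
  obtain ⟨ρ, hρ, -, hρi⟩ := exists_normalizer_map hS hPa hPr hc
  have huN : u ∈ normalizerIn S (img ψ P) := mem_normalizerIn.2 ⟨hT.1 hu.hT, hu.hN⟩
  have := Extra.map hT hρ (le_normalizerIn hψ.img_le) huN hu
  rw [hρi] at this
  exact ⟨_, this⟩

/-- Essential subgroups are good. -/
theorem good_of_essential [Finite S] [Fact p.Prime] (hS : IsPGroup p S) (hF : F.IsSaturated p)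
    (hT : F.StronglyClosed T) (hP : F.IsEssential p P) : Good F T P := by
  refine ⟨hP.1, ?_⟩
  by_contra h
  obtain ⟨u, hu⟩ := extra_of_fn hS hF hT hP.2.1 h
  obtain ⟨c, -, hc2, hc3⟩ := extra_conj hT hP.1.1 F hu
  have hKK : ZG F T P ≤ KK F p P :=
    le_KK (fun _ h => h.1) (fun α hα β hβ => ZG_conj hT hP.1.1 hα hβ) (ZG_pGroup hS hP.1.1)
  have hr := radical_of_essential hS hP
  have he : KK F p P = Inn P := hr.2
  exact not_inn hP.1 hT.1 hu hc3 (he ▸ hKK hc2)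

/-- Every map of `F` is an automorphism of `S` composed with a map of `F₀`. -/
theorem le_bigZ [Finite S] [Fact p.Prime] (D : Dat F E p L) : F ≤ bigZ D := by
  refine alperin_goldschmidt' D.hS D.hF _ (fun P hP _ α hα => ?_)
  have hT := D.hT
  have hPS : P ≤ S := by
    rcases hP with rfl | hP
    · exact le_rfl
    · exact hP.1.1
  rw [mem_autGroup_iff hPS]
  refine maps_ofMaps.2 ?_
  rcases hP with rfl | hP
  · exact ⟨α, hα, _root_.id, Mz.id D le_rfl, fun x _ => rfl⟩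
  · have hm : Maps F P (afn α) := (mem_autGroup_iff hPS).1 hα
    have hg := good_of_essential D.hS D.hF hT hP
    obtain ⟨b, hb, ω, hω, he⟩ := D.hfr inf_le_right (hm.restrict (inf_le_left : P ⊓ T ≤ P))
    obtain ⟨a, ha, c, hc, l, hl, hce, hbe⟩ := exists_ext D hb
    have hs := sAut_of_mem ha
    have hf₀ : Maps F P (afn a⁻¹ ∘ afn α) := hm.comp hs.mB (fun x hx => hm.mem hx)
    have hK : KM E L (P ⊓ T) (afn a⁻¹ ∘ afn α) := by
      refine ⟨l, hl, ω, hω, fun x hx => ?_⟩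
      have hωT := hω.mem hx
      show afn a⁻¹ (afn α x) = _
      rw [he x hx, hbe, afn_mul _ _ hωT, hce _ (afn_mem _ hωT)]
      exact afn_inv_afn a (hT.1 (afn_mem _ hωT))
    exact ⟨a, ha, _, Mz.gen hg hf₀ hK le_rfl, fun x hx => (afn_afn_inv a (hm.mem hx)).symm⟩

lemma exists_big [Finite S] [Fact p.Prime] (D : Dat F E p L) (hf : Maps F P f) : BigZ F E L P f :=
  maps_ofMaps.1 (le_maps (le_bigZ D) hf)

end Cfsg.Agent.Lib.FusionChi
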