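/-
FusionChi4: saturation of the system `F₀` attached to a `p'`-quotient of `Aut_F(T)` (for S5243).
-/
import Mathlib
import Cfsg.Agent.Lib.FusionChi3

set_option autoImplicit false

namespace Cfsg.Agent.Lib.FusionChi

open Cfsg Cfsg.FusionSystem Cfsg.Agent.Lib.FusionCore Cfsg.Agent.Lib.FusionCore2
open Cfsg.Agent.Lib.FusionIndexPrime Cfsg.Agent.Lib.FusionPPrimeRes Cfsg.Agent.Lib.FusionInvariant
open Cfsg.Agent.Lib.FusionPPrimeMin Cfsg.Agent.Lib.FusionSatCrit Cfsg.Agent.Lib.FusionPPrimeNormal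

variable {Ω : Type*} [Group Ω] {S T : Subgroup Ω} {F : FusionSystem S} {E : FusionSystem T}
  {L : Subgroup (MulAut T)} {P Q R X Y : Subgroup Ω} {f g : Ω → Ω} {p : ℕ}

/-- A fully normalized conjugate under the small system. -/
lemma exists_fn_conj [Finite S] [Fact p.Prime] (D : Dat F E p L) (hPS : P ≤ S) :
    ∃ f₀, Mz F E L P f₀ ∧ F.IsFullyNormalized (img f₀ P) := by
  obtain ⟨Q₁, hPQ₁, hQ₁n⟩ := exists_fullyNormalized_conj (F := F) hPS
  obtain ⟨f, hf, rfl⟩ := Cfsg.Agent.Lib.FusionCore.isConj_iff.1 hPQ₁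
  obtain ⟨a, ha, f₀, h00, hff⟩ := exists_big D hf
  have hf0 := h00.maps
  have hs := sAut_of_mem ha
  have hQS : img f₀ P ≤ S := hf0.img_le
  haveI := finite_of_le hQS
  have hFPQ : F.IsConj P (img f₀ P) := Cfsg.Agent.Lib.FusionCore.isConj_iff.2 ⟨f₀, hf0, rfl⟩
  refine ⟨f₀, h00, hQS, fun Q'' hQ'' => ?_⟩
  have h1 : F.IsConj (img f P) Q'' := IsConj_trans (IsConj_symm hPQ₁) (IsConj_trans hFPQ hQ'')
  refine (hQ₁n.2 Q'' h1).trans ?_
  refine card_le_of_maps (hs.mB) inf_le_left inf_le_left (fun x hx => ?_)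
  obtain ⟨hxS, hxN⟩ := mem_normalizerIn.1 hx
  refine mem_normalizerIn.2 ⟨hs.mB.mem hxS, mem_normalizer_of_conj_mem (fun y hy => ?_)⟩
  obtain ⟨z, hz, rfl⟩ := hf0.mem_img.1 hy
  have hzS := hf0.mem hz
  have h2 : x * f z * x⁻¹ ∈ img f P :=
    (Subgroup.mem_normalizer_iff.1 hxN _).1 (hf.mem_img_of_mem hz)
  obtain ⟨w, hw, hwe⟩ := hf.mem_img.1 h2
  have h3 : afn a⁻¹ x * f₀ z * (afn a⁻¹ x)⁻¹ = f₀ w := by
    have h4 : f₀ z = afn a⁻¹ (f z) := by
      rw [hff z hz, hs.ba _ hzS]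
    rw [h4, ← hs.mB.map_conj hxS (hf.mem hz), ← hwe, hff w hw, hs.ba _ (hf0.mem hw)]
  rw [h3]
  exact hf0.mem_img_of_mem hw

lemma Mz.subsys [Finite S] [Fact p.Prime] {D : Dat F E p L} {E' : FusionSystem S}
    (hE' : ∀ P ∈ {P | Good F T P}, (sys D).Hom P ⊆ E'.Hom P) (h : Mz F E L P f) : Maps E' P f := by
  induction h with
  | @gen R P₀ ψ hR hψ hK hP =>
    have hm : Maps (sys D) R ψ := maps_sys.2 (Mz.gen hR hψ hK le_rfl)
    have hm' : Maps E' R ψ := ⟨hm.hom, hE' R hR hm.hom_mem, hm.hom_apply⟩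
    exact hm'.restrict hP
  | comp _ _ h hf hg => exact hf.comp hg h
  | @inv P f g _ hg h1 hf =>
    obtain ⟨g', hg', h1', -⟩ := hf.inv
    refine hg'.congr (fun y hy => ?_)
    obtain ⟨x, hx, rfl⟩ := hf.mem_img.1 hy
    rw [h1' x hx, h1 x hx]
  | congr _ h hf => exact hf.congr h

/-- Centric in the small system implies centric. -/
lemma centric_of_sys [Finite S] [Fact p.Prime] (D : Dat F E p L) (hc : (sys D).IsCentric P) : F.IsCentric P := by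
  refine ⟨hc.1, fun Q' hQ' c hc' => ?_⟩
  obtain ⟨f, hf, rfl⟩ := Cfsg.Agent.Lib.FusionCore.isConj_iff.1 hQ'
  obtain ⟨a, ha, f₀, h0, hff⟩ := exists_big D hf
  have hf0 := h0.maps
  have hs := sAut_of_mem ha
  obtain ⟨hcS, hcC⟩ := mem_centralizerIn.1 hc'
  have h1 : afn a⁻¹ c ∈ centralizerIn S (img f₀ P) := by
    refine mem_centralizerIn.2 ⟨hs.mB.mem hcS, fun y hy => ?_⟩
    obtain ⟨x, hx, rfl⟩ := hf0.mem_img.1 hy
    have h2 := hcC (f x) (hf.mem_img_of_mem hx)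
    have h3 := congrArg (afn a⁻¹) h2
    rw [hs.mB.map_mul (hf.mem hx) hcS, hs.mB.map_mul hcS (hf.mem hx), hff x hx,
      hs.ba _ (hf0.mem hx)] at h3
    exact h3
  have h2 := hc.2 _ (Cfsg.Agent.Lib.FusionCore.isConj_iff.2 ⟨f₀, maps_sys.2 h0, rfl⟩) h1
  obtain ⟨x, hx, hxe⟩ := hf0.mem_img.1 h2
  have h3 : c = f x := by
    rw [hff x hx, hxe]
    exact (hs.ab c hcS).symm
  rw [h3]
  exact hf.mem_img_of_mem hx

/-- **Saturation**. -/
theorem sys_saturated [Finite S] [Fact p.Prime] (D : Dat F E p L) : (sys D).IsSaturated p := by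
  have hT := D.hT
  have hS := D.hS
  have hF := D.hF
  have hEF : ∀ {P : Subgroup Ω} {f : Ω → Ω}, Maps (sys D) P f → Maps F P f := fun h => (maps_sys.1 h).maps
  refine saturated_of_crit hS (sys D) {P | Good F T P} ?_ ?_ ?_ ?_
  · intro P hP Q hQ
    obtain ⟨f, hf, rfl⟩ := Cfsg.Agent.Lib.FusionCore.isConj_iff.1 hQ
    exact Good.conj hT hP (hEF hf)
  · intro P hP
    have hP' : Good F T P := hP
    obtain ⟨f₀, h0, hn⟩ := exists_fn_conj D hP'.1.1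
    have hf0 := h0.maps
    have hQS := hn.1
    obtain ⟨hFc, hFa⟩ := of_fullyNormalized hS hF hn
    have hFr := receptive_of_fullyCentralized hS hF hFc
    have hQg : Good F T (img f₀ P) := hP'.conj hT hf0
    refine ⟨img f₀ P, Cfsg.Agent.Lib.FusionCore.isConj_iff.2 ⟨f₀, maps_sys.2 h0, rfl⟩,
      isFullyAutomized_of_le hS sys_le hQS hFa, isReceptive_of hQS (fun R φ hφ himg => ?_)⟩
    have hφF := hEF hφ
    obtain ⟨ψ, hψ, hψφ⟩ := IsReceptive.ext hFr hφF himg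
    obtain ⟨φi, hφi, h1, -⟩ := hφF.inv
    have hRg : Good F T R := by
      have h2 : Good F T (img φ R) := himg ▸ hQg
      have h3 := h2.conj hT hφi
      rwa [img_of_inv hφF rfl hφi h1] at h3
    have hK : KM E L (Nf S R φ ⊓ T) ψ := by
      obtain ⟨b, hb, ω, hω, he⟩ := D.hfr inf_le_right (hψ.restrict (inf_le_left : Nf S R φ ⊓ T ≤ _))
      obtain ⟨l, hl, ω', hω', he'⟩ := Mz.triv D (maps_sys.1 hφ) R le_rfl hRg
      have hle : R ⊓ T ≤ Nf S R φ ⊓ T := inf_le_inf_right _ (le_Nf hφF)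
      have hbL : b ∈ L := triv_unique D hRg.2 hb hl (hω.restrict hle) hω' (fun x hx => by
        rw [← he x (hle hx), hψφ x hx.1, he' x hx])
      exact ⟨b, hbL, ω, hω, he⟩
    exact ⟨ψ, maps_sys.2 (Mz.gen (hRg.mono (le_Nf hφF) hψ.le) hψ hK le_rfl), hψφ⟩
  · intro E' h P φ hφ
    have hm : Maps (sys D) P (fn φ) := Maps.of_mem hφ
    exact (Mz.subsys h (maps_sys.1 hm)).mem_hom (fun x => (fn_coe φ x).symm)
  · intro P hc hP
    have hcF := centric_of_sys D hc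
    have ht : ¬ TC F T (P ⊓ T) := fun h => hP ⟨hcF, h⟩
    obtain ⟨ψ, hψ, u, hu⟩ := nongood_elt hS hF hT hc.1 ht
    obtain ⟨a, ha, f₀, h0, he⟩ := exists_big D hψ
    have hf0 := h0.maps
    have hs := sAut_of_mem ha
    have hu₁ := Extra.map hT hs.mB hψ.img_le (hT.1 hu.hT) hu
    have e : img (afn a⁻¹) (img ψ P) = img f₀ P := by
      ext y
      rw [hs.mem_img hψ.img_le, hf0.mem_img]
      constructor
      · rintro ⟨z, hz, rfl⟩
        obtain ⟨x, hx, rfl⟩ := hψ.mem_img.1 hz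
        exact ⟨x, hx, by rw [he x hx, hs.ba _ (hf0.mem hx)]⟩
      · rintro ⟨x, hx, rfl⟩
        exact ⟨ψ x, hψ.mem_img_of_mem hx, by rw [he x hx, hs.ba _ (hf0.mem hx)]⟩
    rw [e] at hu₁
    have hQS : img f₀ P ≤ S := hf0.img_le
    have hQc : F.IsCentric (img f₀ P) := IsCentric_conj hcF (Cfsg.Agent.Lib.FusionCore.isConj_iff.2 ⟨f₀, hf0, rfl⟩)
    obtain ⟨c, hc1, hc2, hc3⟩ := extra_conj hT hQS (sys D) hu₁
    have hT' : (sys D).StronglyClosed T :=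
      ⟨hT.1, fun P hP φ hφ x => hT.2 P hP φ (sys_le P hφ) x⟩
    have hKK : ZG (sys D) T (img f₀ P) ≤ KK (sys D) p (img f₀ P) :=
      le_KK (fun _ h => h.1) (fun α hα β hβ => ZG_conj hT' hQS hα hβ) (ZG_pGroup hS hQS)
    exact ⟨img f₀ P, Cfsg.Agent.Lib.FusionCore.isConj_iff.2 ⟨f₀, maps_sys.2 h0, rfl⟩,
      fun hle => not_inn hQc hT.1 hu₁ hc3 (hle ⟨hc1, hKK hc2⟩)⟩

end Cfsg.Agent.Lib.FusionChi
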