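/-
FusionChi5: `F₀` has index prime to `p`, is normal in `F` and contains `E` (S5243).
-/
import Mathlib
import Cfsg.Agent.Lib.FusionChi4

set_option autoImplicit false

namespace Cfsg.Agent.Lib.FusionChi

open Cfsg Cfsg.FusionSystem Cfsg.Agent.Lib.FusionCore Cfsg.Agent.Lib.FusionCore2
open Cfsg.Agent.Lib.FusionIndexPrime Cfsg.Agent.Lib.FusionPPrimeRes Cfsg.Agent.Lib.FusionInvariant
open Cfsg.Agent.Lib.FusionPPrimeMin Cfsg.Agent.Lib.FusionSatCrit Cfsg.Agent.Lib.FusionPPrimeNormal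

variable {Ω : Type*} [Group Ω] {S T : Subgroup Ω} {F : FusionSystem S} {E : FusionSystem T}
  {L : Subgroup (MulAut T)} {P Q R X Y : Subgroup Ω} {f g : Ω → Ω} {p : ℕ}

/-- Powers agree on an invariant subgroup. -/
lemma afn_pow_congr {A B : Subgroup Ω} (hAB : A ≤ B) {σ : MulAut B} {τ : MulAut A}
    (h : ∀ x ∈ A, afn σ x = afn τ x) (j : ℕ) : ∀ x ∈ A, afn (σ ^ j) x = afn (τ ^ j) x := by
  induction j with
  | zero =>
    intro x hx
    rw [pow_zero, pow_zero, afn_one hx, afn_one (hAB hx)]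
  | succ j ih =>
    intro x hx
    rw [pow_succ', pow_succ', afn_mul _ _ (hAB hx), afn_mul _ _ hx, ih x hx, h _ (afn_mem _ hx)]

/-- The subgroup `tl` lies in `N_τ` for an automorphism `τ` of a fully automized subgroup. -/
lemma tl_le_Nf [Finite S] [Fact p.Prime] (hA : F.IsFullyAutomized p Q) {τ : MulAut Q} (hτ : τ ∈ F.autGroup Q) :
    tl F p Q ≤ Nf S Q (afn τ) := by
  intro g hg
  obtain ⟨hgN, α, hα, hαe⟩ := hg
  obtain ⟨hgS, hgN'⟩ := mem_normalizerIn.1 hgN
  have h1 := KK_conj hτ hα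
  obtain ⟨b, hb, hbe⟩ := mem_KK.1 h1
  have hQS := hA.1
  haveI := finite_mulAut hQS
  obtain ⟨-, V, hV⟩ := hA
  have h2 := Cfsg.Agent.Lib.PCore.pCore_le_sylow p V hb
  rw [hV] at h2
  have h3 := Subgroup.mem_subgroupOf.1 h2
  rw [hbe] at h3
  obtain ⟨y, hy, hye⟩ := mem_autInducedBy.1 h3
  refine mem_Nf.2 ⟨hgS, hgN', y, hy, fun x hx => ?_⟩
  have h4 := hye _ (afn_mem τ hx)
  rw [afn_mul _ _ (afn_mem _ hx), afn_mul _ _ (afn_mem _ (afn_mem _ hx)), afn_inv_afn _ hx, hαe x hx] at h4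
  exact h4

/-- The key step for fully normalized subgroups. -/
lemma p_mem_fn [Finite S] [Fact p.Prime] (D : Dat F E p L) {Q : Subgroup Ω} (hc : F.IsCentric Q)
    (hn : F.IsFullyNormalized Q)
    (IH : ∀ R : Subgroup Ω, R ≤ S → Nat.card Q < Nat.card R → F.IsCentric R → ∀ σ : MulAut R,
      σ ∈ F.autGroup R → ∀ e : ℕ, σ ^ p ^ e = 1 → Mz F E L R (afn σ))
    {τ : MulAut Q} (hτ : τ ∈ F.autGroup Q) {n : ℕ} (hτn : τ ^ p ^ n = 1) : Mz F E L Q (afn τ) := by
  have hT := D.hT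
  have hTS := hT.1
  have hS := D.hS
  have hF := D.hF
  have hQS := hn.1
  have hm : Maps F Q (afn τ) := (mem_autGroup_iff hQS).1 hτ
  obtain ⟨hQc, hQa⟩ := of_fullyNormalized hS hF hn
  have hQr := receptive_of_fullyCentralized hS hF hQc
  by_cases hg : TC F T (Q ⊓ T)
  · refine Mz.gen ⟨hc, hg⟩ hm ?_ le_rfl
    have hVS : Q ⊓ T ≤ S := inf_le_right.trans hTS
    have hmV : Maps F (Q ⊓ T) (afn τ) := hm.restrict inf_le_left
    have himg : img (afn τ) (Q ⊓ T) = Q ⊓ T :=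
      img_eq_of_card hmV hVS hVS (fun x hx => afn_mem_inf hT hQS hτ hx) le_rfl
    have he₃ : ∀ x ∈ Q ⊓ T, afn (hmV.toAut himg) x = afn τ x := fun x hx => hmV.afn_toAut himg hx
    have hτ₃ : hmV.toAut himg ^ p ^ n = 1 := by
      apply afn_ext
      intro x hx
      rw [afn_pow_congr (inf_le_left : Q ⊓ T ≤ Q) (σ := τ) (τ := hmV.toAut himg)
        (fun x hx => (he₃ x hx).symm) (p ^ n) x hx |>.symm, hτn, afn_one hx.1, afn_one hx]
    obtain ⟨b, hb, ω, hω, he⟩ := D.hfr inf_le_right hmV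
    have hbL := pelt_mem' D inf_le_right (fun c hc h => detect D hg hc h) hτ₃ hb hω
      (fun y hy => by rw [he₃ y hy, he y hy])
    exact ⟨b, hbL, ω, hω, he⟩
  · obtain ⟨u, hu⟩ := extra_of_fn hS hF hT hn hg
    obtain ⟨c, -, hc2, hc3⟩ := extra_conj hT hQS F hu
    have hKK : ZG F T Q ≤ KK F p Q :=
      le_KK (fun _ h => h.1) (fun α hα β hβ => ZG_conj hT hQS hα hβ) (ZG_pGroup hS hQS)
    have hut : u ∈ tl F p Q :=
      ⟨mem_normalizerIn.2 ⟨hTS hu.hT, hu.hN⟩, c, hKK hc2, hc3⟩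
    have hQR : Q ≤ tl F p Q := le_tl hS hQS
    have hRS : tl F p Q ≤ S := tl_le_S
    haveI : Finite (tl F p Q) := finite_of_le hRS
    have hlt : Q < tl F p Q := lt_of_le_of_ne hQR (fun he => hu.hn (he ▸ hut))
    have hcard : Nat.card Q < Nat.card (tl F p Q) := Cfsg.Agent.Lib.FusionAlperin.card_lt_of_lt hlt
    obtain ⟨ψ₀, hψ₀, hψ₀e⟩ := IsReceptive.ext hQr hm (afn_img τ)
    have hψ := hψ₀.restrict (tl_le_Nf hQa hτ)
    have e₀ : img ψ₀ Q = Q := by
      rw [img_congr hψ₀e]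
      exact afn_img τ
    have hmem : ∀ x ∈ tl F p Q, ψ₀ x ∈ tl F p Q := by
      intro x hx
      have := tl_map hψ hQR hx hx
      rwa [e₀] at this
    have himg : img ψ₀ (tl F p Q) = tl F p Q := img_eq_of_card hψ hRS hRS hmem le_rfl
    obtain ⟨σ, hσd⟩ : ∃ σ, σ = hψ.toAut himg := ⟨_, rfl⟩
    have hσ : σ ∈ F.autGroup (tl F p Q) := hσd ▸ hψ.toAut_mem himg
    have hσe : ∀ x ∈ Q, afn σ x = afn τ x := by
      intro x hx
      rw [hσd, hψ.afn_toAut himg (hQR hx), hψ₀e x hx]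
    haveI : Finite (MulAut (tl F p Q)) := finite_mulAut hRS
    have hp : p.Prime := Fact.out
    obtain ⟨e, n', hn', hfac⟩ := Nat.exists_eq_pow_mul_and_not_dvd (orderOf_pos σ).ne' p hp.ne_one
    have hcop : n'.Coprime (p ^ n) :=
      Nat.Coprime.pow_right _ ((Nat.Prime.coprime_iff_not_dvd hp).2 hn').symm
    obtain ⟨s, hs1, hs2⟩ := exists_mul_crt hcop
    have hord : σ ^ (p ^ e * n') = 1 := by rw [← hfac]; exact pow_orderOf_eq_one σ
    have hσs : (σ ^ s) ^ p ^ e = 1 := by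
      obtain ⟨w, rfl⟩ := hs1
      rw [← pow_mul]
      have : n' * w * p ^ e = p ^ e * n' * w := by ring
      rw [this, pow_mul, hord, one_pow]
    have hIH := IH _ hRS hcard (IsCentric.mono hc hQR hRS) (σ ^ s) (Subgroup.pow_mem _ hσ s) e hσs
    refine (Mz.restrict D hIH hQR).congr (fun x hx => ?_)
    rw [afn_pow_congr hQR hσe s x hx, pow_eq_self_of_mod hτn hs2]

/-- `p`-automorphisms of centric subgroups are in the small system. -/
theorem p_mem [Finite S] [Fact p.Prime] (D : Dat F E p L) {Q : Subgroup Ω} (hc : F.IsCentric Q) {τ : MulAut Q}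
    (hτ : τ ∈ F.autGroup Q) {n : ℕ} (hτn : τ ^ p ^ n = 1) : Mz F E L Q (afn τ) := by
  have main : ∀ (k : ℕ) (Q : Subgroup Ω), Nat.card S - Nat.card Q = k → F.IsCentric Q →
      ∀ τ : MulAut Q, τ ∈ F.autGroup Q → ∀ n : ℕ, τ ^ p ^ n = 1 → Mz F E L Q (afn τ) := by
    intro k
    induction' k using Nat.strong_induction_on with k ih
    intro Q hk hc τ hτ n hτn
    have hQS := hc.1
    have IH : ∀ R : Subgroup Ω, R ≤ S → Nat.card Q < Nat.card R → F.IsCentric R → ∀ σ : MulAut R,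
        σ ∈ F.autGroup R → ∀ e : ℕ, σ ^ p ^ e = 1 → Mz F E L R (afn σ) := by
      intro R hRS hcard
      have : Nat.card R ≤ Nat.card S := Subgroup.card_le_of_le hRS
      exact ih (Nat.card S - Nat.card R) (by omega) R rfl
    obtain ⟨f₀, h0, hn⟩ := exists_fn_conj D hQS
    have hf0 := h0.maps
    let τ₂ := MulAut.congr (hf0.equiv rfl) τ
    have hτ₂ : τ₂ ∈ F.autGroup (img f₀ Q) := by
      rw [← hf0.map_autGroup rfl]
      exact Subgroup.mem_map_of_mem _ hτ
    have hτ₂n : τ₂ ^ p ^ n = 1 := by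
      show (MulAut.congr (hf0.equiv rfl) τ) ^ p ^ n = 1
      rw [← map_pow, hτn, map_one]
    have hA := p_mem_fn D (IsCentric_conj hc (Cfsg.Agent.Lib.FusionCore.isConj_iff.2 ⟨f₀, hf0, rfl⟩)) hn
      (fun R hR hcard => IH R hR (by rwa [hf0.card_img] at hcard)) hτ₂ hτ₂n
    obtain ⟨k₀, hk₀, hk₀1⟩ := h0.exists_inv
    refine (Mz.comp h0 (Mz.comp hA hk₀ (fun y hy => afn_mem τ₂ hy))
      (fun x hx => hf0.mem_img_of_mem hx)).congr (fun x hx => ?_)
    show k₀ (afn τ₂ (f₀ x)) = _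
    rw [hf0.afn_congr rfl τ hx, hk₀1 _ (afn_mem τ hx)]
  exact main _ Q rfl hc τ hτ n hτn

lemma Gen.toMz [Finite S] [Fact p.Prime] (D : Dat F E p L) (h : Gen F p P f) : Mz F E L P f := by
  induction h with
  | gen hc hα hn hR =>
    obtain ⟨n, hn⟩ := hn
    exact Mz.restrict D (p_mem D hc hα hn) hR
  | conj hP hg => exact Mz.conj D hP hg
  | comp _ _ h hf hg => exact Mz.comp hf hg h
  | inv _ hg h hf => exact Mz.inv hf hg h
  | congr _ h hf => exact hf.congr h

/-- The small system has index prime to `p`. -/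
theorem sys_index [Finite S] [Fact p.Prime] (D : Dat F E p L) : (sys D).HasPrimeToPIndexIn F p := by
  refine ⟨sys_le, fun P hP => ?_⟩
  rw [Subgroup.map_le_iff_le_comap, Subgroup.closure_le]
  rintro ⟨α, hα⟩ ⟨k, hk⟩
  have h1 : α ^ p ^ k = 1 := by
    rw [← hk]
    exact congrArg Subtype.val (pow_orderOf_eq_one (⟨α, hα⟩ : F.autGroup P))
  exact (mem_autGroup_iff hP).2 (maps_sys.2 (Gen.toMz D (gen_of_pow D.hS D.hF hP hα h1)))

/-- Automorphisms of `S` in the small system. -/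
theorem mem_autGroup_sys [Finite S] [Fact p.Prime] (D : Dat F E p L) {α : MulAut S} :
    α ∈ (sys D).autGroup S ↔ α ∈ F.autGroup S ∧ ∃ c ∈ L, ∀ t ∈ T, afn c t = afn α t := by
  have hT := D.hT
  have hTS := hT.1
  constructor
  · intro h
    have hm := maps_sys.1 ((mem_autGroup_iff le_rfl).1 h)
    have hF' := (mem_autGroup_iff le_rfl).2 hm.maps
    refine ⟨hF', ?_⟩
    obtain ⟨c, hc, hce⟩ := exists_resT hT hm.maps
    refine ⟨c, ?_, hce⟩
    obtain ⟨l, hl, ω, hω, he⟩ := Mz.triv D hm S le_rfl (good_top hT)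
    have hinf : S ⊓ T = T := inf_eq_right.2 hTS
    rw [hinf] at hω he
    refine triv_unique D (tc_self hT) hc hl (ω := _root_.id) (Maps.id le_rfl) hω (fun x hx => ?_)
    show afn c x = _
    rw [hce x hx, he x hx]
  · rintro ⟨h, c, hc, hce⟩
    have hm := (mem_autGroup_iff le_rfl).1 h
    refine (mem_autGroup_iff le_rfl).2 (maps_sys.2 (Mz.gen (good_top hT) hm ?_ le_rfl))
    exact ⟨c, hc, _root_.id, Maps.id inf_le_right, fun x hx => (hce x hx.2).symm⟩

/-- `T C_S(T)` is good. -/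
lemma good_TC [Finite S] (hT : F.StronglyClosed T) : Good F T (T ⊔ centralizerIn S T) := by
  have hTS := hT.1
  have hRS : T ⊔ centralizerIn S T ≤ S := sup_le hTS inf_le_left
  have hTR : T ≤ T ⊔ centralizerIn S T := le_sup_left
  have hCR : centralizerIn S T ≤ T ⊔ centralizerIn S T := le_sup_right
  haveI : Finite T := finite_of_le hTS
  refine ⟨⟨hRS, fun Q' hQ' c hc => ?_⟩, ?_⟩
  · obtain ⟨g, hg, rfl⟩ := Cfsg.Agent.Lib.FusionCore.isConj_iff.1 hQ'
    have hgT : img g T = T := by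
      have h1 : img g T ≤ T := strong_img_le hT le_rfl (hg.restrict hTR)
      exact Subgroup.eq_of_le_of_card_ge h1 (le_of_eq (hg.restrict hTR).card_img.symm)
    have hTi : T ≤ img g (T ⊔ centralizerIn S T) := by
      intro t ht
      rw [← hgT] at ht
      exact hg.img_mono hTR ht
    have hcC : c ∈ centralizerIn S T := by
      obtain ⟨hcS, hcc⟩ := mem_centralizerIn.1 hc
      exact mem_centralizerIn.2 ⟨hcS, fun t ht => hcc t (hTi ht)⟩
    -- the image of the centralizer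
    have hle : img g (T ⊔ centralizerIn S T) ≤ T ⊔ centralizerIn S T := by
      intro y hy
      obtain ⟨u, hu, rfl⟩ := hg.mem_img.1 hy
      obtain ⟨x, hx, d, hd, rfl⟩ := mem_sup_cent le_rfl hu
      rw [hg.map_mul (hTR hx) (hCR hd)]
      refine Subgroup.mul_mem _ (hTR (StrongMem hT le_rfl (hg.restrict hTR) hx)) (hCR ?_)
      refine mem_centralizerIn.2 ⟨hg.mem (hCR hd), fun t ht => ?_⟩
      have ht' : t ∈ img g T := by rw [hgT]; exact ht
      obtain ⟨w, hw, rfl⟩ := (hg.restrict hTR).mem_img.1 ht'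
      rw [← hg.map_mul (hTR hw) (hCR hd), ← hg.map_mul (hCR hd) (hTR hw), comm_cent hd hw]
    haveI : Finite ↥(T ⊔ centralizerIn S T) := finite_of_le hRS
    have he : img g (T ⊔ centralizerIn S T) = T ⊔ centralizerIn S T :=
      Subgroup.eq_of_le_of_card_ge hle (le_of_eq hg.card_img.symm)
    rw [he]
    exact hCR hcC
  · rw [inf_eq_right.2 hTR]
    exact tc_self hT

/-- `Gen` passes to bigger systems. -/
lemma Gen.sub [Finite S] [Fact p.Prime] (hS : IsPGroup p S) (hF : F.IsSaturated p) (hTS : T ≤ S)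
    (hEF : E.IsSubsystemOf F) (h : Gen E p P f) : Gen F p P f := by
  induction h with
  | @gen P₀ R τ hc hτ hn hR =>
    obtain ⟨n, hn⟩ := hn
    have hP₀S := hc.1.trans hTS
    have h1 : τ ∈ F.autGroup P₀ :=
      (mem_autGroup_iff hP₀S).2 (maps_sub hEF ((mem_autGroup_iff hc.1).1 hτ))
    exact Gen.restrict (gen_of_pow hS hF hP₀S h1 hn) hR
  | conj hP hg => exact Gen.conj (hP.trans hTS) (hTS hg)
  | comp _ _ h hf hg => exact Gen.comp hf hg h
  | inv _ hg h hf => exact Gen.inv hf (maps_sub hEF hg) h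
  | congr _ h hf => exact hf.congr h

/-- `E` lies in the small system, if automorphisms of `T` in `E` extend to `T C_S(T)`. -/
theorem E_le_sys [Finite S] [Fact p.Prime] (D : Dat F E p L)
    (hext : ∀ α ∈ E.autGroup T, ∃ β ∈ F.autGroup (T ⊔ centralizerIn S T), ∀ t ∈ T, afn β t = afn α t) :
    E.IsSubsystemOf (sys D) := by
  have hT := D.hT
  have hTS := hT.1
  haveI : Finite T := finite_of_le hTS
  have hTp : IsPGroup p T := D.hS.to_le hTS
  intro P φ hφ
  have hm : Maps E P (fn φ) := Maps.of_mem hφ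
  obtain ⟨c, hc, f₀, h0, hff⟩ : BigM E p P (fn φ) := maps_ofMaps.1 (le_maps (le_bigSys hTp D.hE) hm)
  obtain ⟨β, hβ, hβe⟩ := hext c hc
  have hRS : T ⊔ centralizerIn S T ≤ S := sup_le hTS inf_le_left
  have hTR : T ≤ T ⊔ centralizerIn S T := le_sup_left
  have hcL : Mz F E L T (afn c) := by
    have h1 : Mz F E L (T ⊔ centralizerIn S T) (afn β) :=
      Mz.gen (good_TC hT) ((mem_autGroup_iff hRS).1 hβ) ⟨c, D.hEL hc, _root_.id, Maps.id inf_le_right,
        fun x hx => hβe x hx.2⟩ le_rfl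
    exact (Mz.restrict D h1 hTR).congr hβe
  have h1 : Mz F E L P f₀ := Gen.toMz D (Gen.sub D.hS D.hF hTS D.hEF h0)
  have h2 := Mz.comp h1 hcL (fun x hx => h0.maps.mem hx)
  exact (maps_sys.2 (h2.congr (fun x hx => (hff x hx).symm))).mem_hom (fun x => (fn_coe φ x).symm)

/-- The small system is normal. -/
theorem sys_normal [Finite S] [Fact p.Prime] (D : Dat F E p L) : (sys D).IsNormalIn F p := by
  have hF := D.hF
  refine ⟨⟨sys_saturated D, hF, isInvariantIn_iff.2 ⟨sys_le, ⟨le_rfl, fun P hP φ hφ x => ?_⟩, ?_, ?_⟩⟩, fun α hα => ?_⟩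
  · have hm := Maps.of_mem hφ
    have := hm.mem x.2
    rwa [fn_coe] at this
  · intro P f h a ha
    have hs := (sAut_of_mem ha).symm
    refine ⟨_, maps_sys.2 (Mz.conj_aut D hs (maps_sys.1 h)), fun x hx => ?_⟩
    have hm := h.le
    show afn a (f (afn a⁻¹ (afn a x))) = _
    rw [afn_inv_afn a (hm hx)]
  · intro P f _ hf
    obtain ⟨a, ha, f₀, h0, he⟩ := exists_big D hf
    exact ⟨a, ha, f₀, maps_sys.2 h0, he⟩
  · have hαF : α ∈ F.autGroup S := by
      have hm := (mem_autGroup_iff le_rfl).1 hα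
      exact (mem_autGroup_iff le_rfl).2 (maps_sys.1 hm).maps
    have hm := (mem_autGroup_iff le_rfl).1 hαF
    have hle : S ⊔ centralizerIn S S ≤ S := sup_le le_rfl inf_le_left
    have hSR : S ≤ S ⊔ centralizerIn S S := le_sup_left
    have he : S ⊔ centralizerIn S S = S := le_antisymm hle hSR
    have hm' := hm.restrict hle
    have himg : img (afn α) (S ⊔ centralizerIn S S) = S ⊔ centralizerIn S S :=
      img_eq_of_card hm' hle hle (fun x hx => hSR (afn_mem α (hle hx))) le_rfl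
    refine ⟨hm'.toAut himg, hm'.toAut_mem himg, fun x => ?_, fun c hc => ?_⟩
    · have h1 := hm'.afn_toAut himg (hSR x.2)
      rw [afn_of_mem _ (hSR x.2), afn_of_mem _ x.2] at h1
      exact h1
    · have h1 := hm'.afn_toAut himg c.2
      rw [afn_of_mem _ c.2] at h1
      rw [h1]
      have hcS : (c : Ω) ∈ S := hle c.2
      refine ⟨S.mul_mem (S.inv_mem hcS) (afn_mem α hcS), Subgroup.mem_centralizer_iff.2 (fun s hs => ?_)⟩
      have hs' : s ∈ S := hs
      have e3 : s * (c : Ω)⁻¹ = (c : Ω)⁻¹ * s := comm_cent (Subgroup.inv_mem _ hc) hs'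
      have hs₀ : afn α⁻¹ s ∈ S := afn_mem _ hs'
      have e1 : afn α (afn α⁻¹ s) = s := afn_afn_inv α hs'
      have e2 : s * afn α (c : Ω) = afn α (c : Ω) * s := by
        conv_lhs => rw [← e1]
        conv_rhs => rw [← e1]
        rw [← hm.map_mul hs₀ hcS, ← hm.map_mul hcS hs₀, comm_cent hc hs₀]
      calc s * ((c : Ω)⁻¹ * afn α (c : Ω)) = (s * (c : Ω)⁻¹) * afn α (c : Ω) := by group
        _ = (c : Ω)⁻¹ * (s * afn α (c : Ω)) := by rw [e3]; group
        _ = (c : Ω)⁻¹ * (afn α (c : Ω) * s) := by rw [e2]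
        _ = _ := by group

end Cfsg.Agent.Lib.FusionChi
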