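/-
FusionChi6: conclusion of S5243.
-/
import Mathlib
import Cfsg.Agent.Lib.FusionChi5

set_option autoImplicit false

namespace Cfsg.Agent.Lib.FusionChi

open Cfsg Cfsg.FusionSystem Cfsg.Agent.Lib.FusionCore Cfsg.Agent.Lib.FusionCore2
open Cfsg.Agent.Lib.FusionIndexPrime Cfsg.Agent.Lib.FusionPPrimeRes Cfsg.Agent.Lib.FusionInvariant
open Cfsg.Agent.Lib.FusionPPrimeMin Cfsg.Agent.Lib.FusionSatCrit Cfsg.Agent.Lib.FusionPPrimeNormal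

variable {Ω : Type*} [Group Ω] {S T : Subgroup Ω} {F : FusionSystem S} {E : FusionSystem T}
  {P Q R X Y : Subgroup Ω} {f g : Ω → Ω} {p : ℕ}

/-- S5243. -/
theorem main [Finite S] [Fact p.Prime] (hS : IsPGroup p S) (hF : F.IsSaturated p) (hTS : T ≤ S)
    (hE : E.IsNormalIn F p) {Δ : Type*} [Group Δ] [Finite Δ] [Nontrivial Δ] (hΔ : (Nat.card Δ).Coprime p)
    (χ : ↥(F.autGroup T) →* Δ) (hχ : Function.Surjective χ)
    (hker : (E.autGroup T).subgroupOf (F.autGroup T) ≤ χ.ker) :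
    ∃ F₀ : FusionSystem S, F₀.IsNormalIn F p ∧ ¬ (∀ P : Subgroup Ω, F₀.Hom P = F.Hom P) ∧ E.IsSubsystemOf F₀ ∧
      (∀ α : MulAut ↥S, α ∈ F₀.autGroup S ↔ α ∈ F.autGroup S ∧ ∃ β : ↥(F.autGroup T), χ β = 1 ∧
        ∀ t : ↥T, (((β : MulAut ↥T) t : ↥T) : Ω) = ((α ⟨(t : Ω), hTS t.2⟩ : ↥S) : Ω)) ∧
      ∀ R : FusionSystem S, F.IsPPrimeResidual p R → R.IsSubsystemOf F₀ := by
  obtain ⟨⟨hEs, -, hEi⟩, hext⟩ := hE
  obtain ⟨hEF, hst, hinv, hfr⟩ := isInvariantIn_iff.1 hEi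
  obtain ⟨L, hLd⟩ : ∃ L : Subgroup (MulAut T), L = χ.ker.map (F.autGroup T).subtype := ⟨_, rfl⟩
  have hAE : ∀ {c : MulAut T}, c ∈ E.autGroup T → c ∈ F.autGroup T := fun hc =>
    (mem_autGroup_iff hTS).2 (maps_sub hEF ((mem_autGroup_iff le_rfl).1 hc))
  have hLm : ∀ {c : MulAut T}, c ∈ L ↔ ∃ h : c ∈ F.autGroup T, χ ⟨c, h⟩ = 1 := by
    intro c
    rw [hLd]
    constructor
    · rintro ⟨b, hb, rfl⟩
      exact ⟨b.2, hb⟩
    · rintro ⟨h, h1⟩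
      exact ⟨⟨c, h⟩, h1, rfl⟩
  have D : Cfsg.Agent.Lib.FusionChi.Dat F E p L := by
    refine ⟨hS, hF, hEs, hst, hEF, hinv, hfr, fun c hc => (hLm.1 hc).1, fun a ha l hl => ?_, fun c hc => ?_,
      fun a ha n hn => ?_⟩
    · obtain ⟨h, h1⟩ := hLm.1 hl
      refine hLm.2 ⟨Subgroup.mul_mem _ (Subgroup.mul_mem _ ha h) (Subgroup.inv_mem _ ha), ?_⟩
      have e : (⟨a * l * a⁻¹, Subgroup.mul_mem _ (Subgroup.mul_mem _ ha h) (Subgroup.inv_mem _ ha)⟩ : F.autGroup T)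
          = ⟨a, ha⟩ * ⟨l, h⟩ * ⟨a, ha⟩⁻¹ := rfl
      rw [e, map_mul, map_mul, h1, mul_one, map_inv, mul_inv_cancel]
    · refine hLm.2 ⟨hAE hc, ?_⟩
      exact hker (Subgroup.mem_subgroupOf.2 hc)
    · obtain ⟨h, h1⟩ := hLm.1 hn
      refine hLm.2 ⟨ha, ?_⟩
      have e : (⟨a ^ p ^ n, h⟩ : F.autGroup T) = ⟨a, ha⟩ ^ p ^ n := rfl
      rw [e] at h1
      have h2 : (⟨a, ha⟩ : F.autGroup T) ^ p ^ n ∈ χ.ker := by
        rw [MonoidHom.mem_ker]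
        exact h1
      have h3 : (⟨a, ha⟩ : F.autGroup T) ^ Nat.card Δ ∈ χ.ker := by
        rw [MonoidHom.mem_ker, map_pow]
        exact pow_card_eq_one'
      exact mem_of_coprime_pow (hΔ.pow_right n) h3 h2
  refine ⟨sys D, sys_normal D, fun hall => ?_, E_le_sys D (fun α hα => ?_), fun α => ?_, fun R hR =>
    hR.2.2 _ (sys_saturated D) (sys_index D)⟩
  · obtain ⟨δ, hδ⟩ := exists_ne (1 : Δ)
    obtain ⟨b₀, rfl⟩ := hχ δ
    obtain ⟨a, ha, c, hc, l, hl, hce, hbe⟩ := exists_ext D b₀.2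
    have hm := (mem_autGroup_iff le_rfl).1 ha
    have ha' : a ∈ (sys D).autGroup S := by
      refine (mem_autGroup_iff le_rfl).2 ⟨hm.hom, ?_, hm.hom_apply⟩
      rw [hall S]
      exact hm.hom_mem
    obtain ⟨-, c', hc', hc'e⟩ := (mem_autGroup_sys D).1 ha'
    have hcc : c' = c := afn_ext (fun t ht => by rw [hc'e t ht, hce t ht])
    rw [hcc] at hc'
    have hb : (b₀ : MulAut T) ∈ L := by
      rw [hbe]
      exact L.mul_mem hc' hl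
    obtain ⟨_, h1⟩ := hLm.1 hb
    exact hδ h1
  · obtain ⟨β, hβ, h1, -⟩ := hext α hα
    refine ⟨β, hβ, fun t ht => ?_⟩
    have h2 := h1 ⟨t, ht⟩
    rw [afn_of_mem _ ((le_sup_left : T ≤ T ⊔ centralizerIn S T) ht), afn_of_mem _ ht]
    exact h2
  · rw [mem_autGroup_sys D]
    refine and_congr_right (fun _ => ?_)
    constructor
    · rintro ⟨c, hc, hce⟩
      obtain ⟨h, h1⟩ := hLm.1 hc
      refine ⟨⟨c, h⟩, h1, fun t => ?_⟩
      have h2 := hce t t.2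
      rw [afn_of_mem _ t.2, afn_of_mem _ (hTS t.2)] at h2
      exact h2
    · rintro ⟨β, h1, h2⟩
      refine ⟨β, hLm.2 ⟨β.2, h1⟩, fun t ht => ?_⟩
      rw [afn_of_mem _ ht, afn_of_mem _ (hTS ht)]
      exact h2 ⟨t, ht⟩

end Cfsg.Agent.Lib.FusionChi
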