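import Mathlib
import Cfsg.Agent.Lib.FusionNormalCrit
import Cfsg.Agent.Lib.FusionCore
import Cfsg.Agent.Lib.FusionCore2
import Cfsg.Agent.Lib.FusionNormal
import Cfsg.Agent.S5145
import Cfsg.Agent.S5290

/-!
# Normal subsystems of constrained systems (weakly normal suffices): `O_p(Aut_F(O_p F)) = Inn`,
the intersection of `O_p(F)` with a strongly closed subgroup.
-/

set_option autoImplicit false

namespace Cfsg.Agent.Lib.FusionConstrained

section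
open Cfsg Cfsg.FusionSystem
open Cfsg.Agent.Lib.FusionAlperin Cfsg.Agent.Lib.FusionNormalSys Cfsg.Agent.Lib.FusionNormalCrit

variable {Ω : Type*} [Group Ω] {S : Subgroup Ω} {F : FusionSystem S}

/-- Normality of `stabK`, from extensions to arbitrary automorphisms of `Q`. -/
theorem stabK_normal' (F : FusionSystem S) (Q R : Subgroup Ω) (hRS : R ≤ S) (hQ : F.StronglyClosed Q)
    (hext : ∀ (P : Subgroup Ω) (hPQ : P ≤ Q) (φ : P →* Ω), φ ∈ F.Hom P →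
      ∃ α : MulAut Q, ∀ x : P, ((α (Subgroup.inclusion hPQ x) : Q) : Ω) = φ x) :
    (stabK F Q R hRS hQ).Normal where
  conj_mem := by
    rintro β ⟨hb1, g, hg, hb2⟩ δ
    have hδ : (δ : MulAut R) ∈ F.autGroup R := δ.2
    have hδi : ((δ⁻¹ : F.autGroup R) : MulAut R) ∈ F.autGroup R := (δ⁻¹).2
    have hval : ∀ x : R, (((δ * β * δ⁻¹ : F.autGroup R) : MulAut R) x) =
        (δ : MulAut R) ((β : MulAut R) (((δ⁻¹ : F.autGroup R) : MulAut R) x)) := fun x => rfl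
    have hδδ : ∀ x : R, (δ : MulAut R) (((δ⁻¹ : F.autGroup R) : MulAut R) x) = x := by
      intro x
      show (δ : MulAut R) ((δ : MulAut R)⁻¹ x) = x
      simp
    constructor
    · intro x
      set y := ((δ⁻¹ : F.autGroup R) : MulAut R) x with hy
      -- `z = y⁻¹ β y`
      let z : R := y⁻¹ * (β : MulAut R) y
      have hzQ : (z : Ω) ∈ Q := hb1 y
      have h1 : (δ : MulAut R) ((β : MulAut R) y) = x * (δ : MulAut R) z := by
        have : (β : MulAut R) y = y * z := by simp [z]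
        rw [this, map_mul, hy, hδδ]
      have h2 := aut_val_mem hRS hQ hδ z hzQ
      rw [hval, ← hy, h1]
      simpa using h2
    · set P : Subgroup Ω := R ⊓ Q with hP
      have hPR : P ≤ R := inf_le_left
      have hPQ : P ≤ Q := inf_le_right
      have h1 : R.subtype.comp (δ : MulAut R).toMonoidHom ∈ F.Hom R := (mem_autGroup_iff hRS).mp hδ
      obtain ⟨γ, hγe⟩ := hext P hPQ _ (restrict_mem h1 hPR)
      refine ⟨((γ ⟨g, hg⟩ : Q) : Ω), (γ ⟨g, hg⟩).2, fun x hx => ?_⟩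
      set y := ((δ⁻¹ : F.autGroup R) : MulAut R) x with hy
      have hyQ : (y : Ω) ∈ Q := aut_val_mem hRS hQ hδi x hx
      have hβy := hb2 y hyQ
      have hβyQ : (((β : MulAut R) y : R) : Ω) ∈ Q := by
        rw [hβy]
        exact Q.mul_mem (Q.mul_mem hg hyQ) (Q.inv_mem hg)
      rw [hval, ← hy]
      -- evaluate `δ` through `γ`
      have e1 := hγe ⟨((β : MulAut R) y : R), ((β : MulAut R) y).2, hβyQ⟩
      have e2 := hγe ⟨(y : Ω), y.2, hyQ⟩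
      have e3 : ((δ : MulAut R) y : R) = x := by rw [hy, hδδ]
      have e4 : (Subgroup.inclusion hPQ ⟨((β : MulAut R) y : R), ((β : MulAut R) y).2, hβyQ⟩ : Q) =
          ⟨g, hg⟩ * (Subgroup.inclusion hPQ ⟨(y : Ω), y.2, hyQ⟩ : Q) * ⟨g, hg⟩⁻¹ := Subtype.ext hβy
      have e5 : ((δ : MulAut R) ((β : MulAut R) y) : Ω) =
          ((γ (Subgroup.inclusion hPQ ⟨((β : MulAut R) y : R), ((β : MulAut R) y).2, hβyQ⟩) : Q) : Ω) := e1.symm
      rw [e5, e4, map_mul, map_mul, map_inv]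
      have e6 : ((γ (Subgroup.inclusion hPQ ⟨(y : Ω), y.2, hyQ⟩) : Q) : Ω) = x := by
        rw [e2]
        exact congrArg Subtype.val e3
      simp [e6]

variable {p : ℕ} [Fact p.Prime]

/-- The extension criterion for normality. -/
theorem isNormal_of_ext' [Finite S] (hS : IsPGroup p S) (hF : F.IsSaturated p) {Q : Subgroup Ω} (hQS : Q ≤ S)
    (hext : ∀ (P : Subgroup Ω) (hPQ : P ≤ Q) (φ : P →* Ω), φ ∈ F.Hom P →
      ∃ α : MulAut Q, ∀ x : P, ((α (Subgroup.inclusion hPQ x) : Q) : Ω) = φ x) : F.IsNormal Q := by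
  have hQ : F.StronglyClosed Q := by
    refine ⟨hQS, fun P hPQ φ hφ x => ?_⟩
    obtain ⟨α, hα⟩ := hext P hPQ φ hφ
    rw [← hα x]
    exact (α _).2
  refine isNormal_of_pgroup hS hF hQ (fun R hRS _ _ _ _ t htQ htN _ => ?_)
  refine ⟨stabK F Q R hRS hQ, stabK_normal' F Q R hRS hQ hext, stabK_isPGroup hS Q R hRS hQ, fun h => ?_⟩
  refine ⟨fun x => ?_, t, htQ, fun x _ => rfl⟩
  have h1 := StronglyClosed_conj_mem hQ (hRS x.2) htQ
  have h2 := Q.mul_mem h1 (Q.inv_mem htQ)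
  have e : (x : Ω)⁻¹ * (t * x * t⁻¹) = (x : Ω)⁻¹ * t * (x : Ω)⁻¹⁻¹ * t⁻¹ := by group
  show (x : Ω)⁻¹ * (t * x * t⁻¹) ∈ Q
  rw [e]
  have h3 := StronglyClosed_conj_mem hQ (S.inv_mem (hRS x.2)) htQ
  exact Q.mul_mem h3 (Q.inv_mem htQ)

end

section
open Cfsg Cfsg.FusionSystem Cfsg.Agent.Lib.FusionCore

variable {Ω : Type*} [Group Ω] {S : Subgroup Ω} {F : FusionSystem S} {p : ℕ} [Fact p.Prime]

/-- A normal subgroup of a saturated system is fully automized and receptive. -/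
theorem spec_of_isNormal [Finite S] (hF : F.IsSaturated p) {Q : Subgroup Ω} (hQn : F.IsNormal Q) :
    F.IsFullyAutomized p Q ∧ F.IsReceptive Q := by
  have hsc := Cfsg.Agent.S5290.stronglyClosed_of_isNormal hQn
  have hQS := hQn.1
  obtain ⟨Q', hc, hfa, hrec⟩ := hF Q hQS
  have hQQ' : Q' = Q := by
    obtain ⟨f, hf, himg⟩ := isConj_iff.1 hc
    haveI : Finite Q := finite_of_le hQS
    haveI : Finite Q' := finite_of_le (IsConj_le' hc)
    apply Subgroup.eq_of_le_of_card_ge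
    · rw [← himg]
      obtain ⟨φ, hφ, hfφ⟩ := hf
      rw [img_eq_range φ hfφ]
      rintro _ ⟨x, rfl⟩
      exact hsc.2 Q le_rfl φ hφ x
    · exact (IsConj_card hc).le
  rw [hQQ'] at hfa hrec
  exact ⟨hfa, hrec⟩

/-- The preimage in `S` of a subgroup of `Aut_F(Q)`. -/
def preK (F : FusionSystem S) (Q : Subgroup Ω) (K : Subgroup (F.autGroup Q)) (hQS : Q ≤ S) : Subgroup Ω where
  carrier := {s | s ∈ S ∧ ∃ β ∈ K, ∀ x ∈ Q, afn (β : MulAut Q) x = s * x * s⁻¹}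
  mul_mem' := by
    rintro a b ⟨ha, β, hβ, h1⟩ ⟨hb, γ, hγ, h2⟩
    refine ⟨S.mul_mem ha hb, β * γ, K.mul_mem hβ hγ, fun x hx => ?_⟩
    show afn ((β : MulAut Q) * (γ : MulAut Q)) x = _
    have h3 : afn (γ : MulAut Q) x ∈ Q := afn_mem _ hx
    rw [afn_mul _ _ hx, h1 _ h3, h2 x hx]
    group
  one_mem' := ⟨S.one_mem, 1, K.one_mem, fun x hx => by
    show afn (1 : MulAut Q) x = _
    rw [afn_one hx]; group⟩
  inv_mem' := by
    rintro a ⟨ha, β, hβ, h1⟩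
    refine ⟨S.inv_mem ha, β⁻¹, K.inv_mem hβ, fun x hx => ?_⟩
    have h2 : afn (β : MulAut Q)⁻¹ x ∈ Q := afn_mem _ hx
    have h3 := h1 _ h2
    rw [afn_afn_inv _ hx] at h3
    show afn (β : MulAut Q)⁻¹ x = a⁻¹ * x * a⁻¹⁻¹
    calc afn (β : MulAut Q)⁻¹ x = a⁻¹ * (a * afn (β : MulAut Q)⁻¹ x * a⁻¹) * a⁻¹⁻¹ := by group
      _ = a⁻¹ * x * a⁻¹⁻¹ := by rw [← h3]

lemma mem_preK {Q : Subgroup Ω} {K : Subgroup (F.autGroup Q)} {hQS : Q ≤ S} {s : Ω} :
    s ∈ preK F Q K hQS ↔ s ∈ S ∧ ∃ β ∈ K, ∀ x ∈ Q, afn (β : MulAut Q) x = s * x * s⁻¹ := Iff.rfl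

/-- A normal `p`-subgroup of `Aut_F(Q)` consists of maps induced by elements of `S`. -/
lemma K_inner [Finite S] (hF : F.IsSaturated p) {Q : Subgroup Ω} (hQn : F.IsNormal Q)
    (K : Subgroup (F.autGroup Q)) [hKn : K.Normal] (hKp : IsPGroup p K) {β : F.autGroup Q} (hβ : β ∈ K) :
    ∃ h ∈ S, ∀ u ∈ Q, afn (β : MulAut Q) u = h * u * h⁻¹ := by
  obtain ⟨⟨-, A, hA⟩, -⟩ := spec_of_isNormal hF hQn
  haveI := finite_mulAut (S := S) (P := Q) hQn.1
  have h1 := hKp.le_sylow_of_normal A hβ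
  rw [hA] at h1
  exact mem_autInducedBy.1 (Subgroup.mem_subgroupOf.1 h1)

/-- `preK` consists of `S`-elements whose action on `Q` is in `K`; it is closed under maps of `F`. -/
lemma preK_conj {Q : Subgroup Ω} (hQn : F.IsNormal Q) (K : Subgroup (F.autGroup Q)) [hKn : K.Normal]
    {P : Subgroup Ω} {f : Ω → Ω} (hf : Maps F P f) {x : Ω} (hxP : x ∈ P) (hx : x ∈ preK F Q K hQn.1) :
    f x ∈ preK F Q K hQn.1 := by
  obtain ⟨g, hg, hgf, himg⟩ := (isNormal_iff.1 hQn).2 P f hf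
  have hgQ : Maps F Q g := hg.restrict le_sup_right
  obtain ⟨-, β, hβ, hβx⟩ := hx
  let δ : F.autGroup Q := ⟨hgQ.toAut himg, hgQ.toAut_mem himg⟩
  have hδ : ∀ {u}, u ∈ Q → afn (δ : MulAut Q) u = g u := fun hu => hgQ.afn_toAut himg hu
  refine ⟨hf.mem hxP, δ * β * δ⁻¹, hKn.conj_mem β hβ δ, fun u hu => ?_⟩
  have hxP' : x ∈ P ⊔ Q := le_sup_left (a := P) hxP
  have hδu : afn (δ : MulAut Q)⁻¹ u ∈ Q := afn_mem _ hu
  have hβu : afn (β : MulAut Q) (afn (δ : MulAut Q)⁻¹ u) ∈ Q := afn_mem _ hδu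
  show afn ((δ : MulAut Q) * (β : MulAut Q) * (δ : MulAut Q)⁻¹) u = _
  rw [afn_mul _ _ hu, afn_mul _ _ hδu, hδ hβu, hβx _ hδu,
    hg.map_conj hxP' (le_sup_right (a := P) hδu), ← hδ hδu, afn_afn_inv _ hu, hgf x hxP]

/-- `O_p(Aut_F(Q))`-type preimages are normal: if `Q` is normal and centric in `F` and `K` is a normal `p`-subgroup of
`Aut_F(Q)`, the preimage of `K` in `S` is normal in `F`. -/
theorem preK_isNormal [Finite S] (hS : IsPGroup p S) (hF : F.IsSaturated p) {Q : Subgroup Ω} (hQn : F.IsNormal Q)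
    (hc : F.IsCentric Q) (K : Subgroup (F.autGroup Q)) [hKn : K.Normal] (hKp : IsPGroup p K) :
    F.IsNormal (preK F Q K hQn.1) := by
  have hQS := hQn.1
  have hN : S ≤ Subgroup.normalizer (Q : Set Ω) := Cfsg.Agent.Lib.FusionNormal.IsNormal.le_normalizer hQn
  have hrec := (spec_of_isNormal hF hQn).2
  have hpS : preK F Q K hQS ≤ S := fun x hx => hx.1
  refine isNormal_iff.2 ⟨hpS, fun P f hf => ?_⟩
  obtain ⟨g, hg, hgf, himg⟩ := (isNormal_iff.1 hQn).2 P f hf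
  have hgQ : Maps F Q g := hg.restrict le_sup_right
  obtain ⟨g₁, hg₁, hg₁e⟩ := IsReceptive.ext hrec hgQ himg
  have hle2 : (P ⊔ Q) ⊔ preK F Q K hQS ≤ Nf S Q g := by
    refine sup_le (fun x hx => mem_Nf.2 ⟨hg.le hx, hN (hg.le hx), g x, hg.mem hx, fun u hu => ?_⟩) ?_
    · exact hg.map_conj hx (le_sup_right (a := P) hu)
    · rintro x ⟨hxS, β, hβ, hβx⟩
      let δ : F.autGroup Q := ⟨hgQ.toAut himg, hgQ.toAut_mem himg⟩
      have hδ : ∀ {u}, u ∈ Q → afn (δ : MulAut Q) u = g u := fun hu => hgQ.afn_toAut himg hu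
      obtain ⟨h, hh, hhe⟩ := K_inner hF hQn K hKp (hKn.conj_mem β hβ δ)
      refine mem_Nf.2 ⟨hxS, hN hxS, h, hh, fun u hu => ?_⟩
      have hgu : g u ∈ Q := by rw [← hδ hu]; exact afn_mem _ hu
      have h1 := hhe (g u) hgu
      rw [← h1]
      show _ = afn ((δ : MulAut Q) * (β : MulAut Q) * (δ : MulAut Q)⁻¹) (g u)
      have hδu : afn (δ : MulAut Q)⁻¹ (g u) ∈ Q := afn_mem _ hgu
      have hβu : afn (β : MulAut Q) (afn (δ : MulAut Q)⁻¹ (g u)) ∈ Q := afn_mem _ hδu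
      have e : afn (δ : MulAut Q)⁻¹ (g u) = u := by
        rw [← hδ hu, afn_inv_afn _ hu]
      rw [afn_mul _ _ hgu, afn_mul _ _ hδu, e, hβx u hu, hδ]
      rw [← hβx u hu]
      exact afn_mem _ hu
  have hg₂ : Maps F ((P ⊔ Q) ⊔ preK F Q K hQS) g₁ := hg₁.restrict hle2
  have hg₃ : Maps F (P ⊔ Q) g₁ := hg₂.restrict le_sup_left
  obtain ⟨z, hzQ, -, hzf⟩ := Cfsg.Agent.Lib.FusionCore2.maps_agree hS hF hg₃ Q le_sup_right hc g hg
    (fun x hx => hg₁e x hx)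
  have hP₂S : (P ⊔ Q) ⊔ preK F Q K hQS ≤ S := hg₂.le
  have hzP₂ : z ∈ (P ⊔ Q) ⊔ preK F Q K hQS := le_sup_left (a := P ⊔ Q) (le_sup_right (a := P) hzQ)
  have hG : Maps F ((P ⊔ Q) ⊔ preK F Q K hQS) (g₁ ∘ fun x => z * x * z⁻¹) :=
    (Maps.conj hP₂S (hQS hzQ)).comp hg₂ (fun x hx => Subgroup.mul_mem _ (Subgroup.mul_mem _ hzP₂ hx)
      (Subgroup.inv_mem _ hzP₂))
  have hGeq : ∀ x ∈ P ⊔ Q, (g₁ ∘ fun x => z * x * z⁻¹) x = g x := fun x hx => (hzf x hx).symm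
  have hle3 : P ⊔ preK F Q K hQS ≤ (P ⊔ Q) ⊔ preK F Q K hQS := sup_le_sup_right le_sup_left _
  have hGp : Maps F (preK F Q K hQS) (g₁ ∘ fun x => z * x * z⁻¹) := hG.restrict le_sup_right
  haveI := finite_of_le hpS
  refine ⟨_, hG.restrict hle3, fun x hx => ?_, ?_⟩
  · rw [hGeq x (le_sup_left (a := P) hx), hgf x hx]
  · exact img_eq_of_card hGp hpS hpS (fun y hy => preK_conj hQn K hGp hy hy) le_rfl

/-- The intersection of a normal subgroup with a strongly closed subgroup is normal. -/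
theorem inf_isNormal [Finite S] {Q T : Subgroup Ω} (hQn : F.IsNormal Q) (hT : F.StronglyClosed T) :
    F.IsNormal (Q ⊓ T) := by
  have hQS := hQn.1
  have hsc := Cfsg.Agent.S5290.stronglyClosed_of_isNormal hQn
  refine isNormal_iff.2 ⟨inf_le_left.trans hQS, fun P f hf => ?_⟩
  obtain ⟨g, hg, hgf, himg⟩ := (isNormal_iff.1 hQn).2 P f hf
  have hle : P ⊔ (Q ⊓ T) ≤ P ⊔ Q := sup_le_sup_left inf_le_left _
  have hgI : Maps F (Q ⊓ T) g := hg.restrict (inf_le_left.trans le_sup_right)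
  have hIS : Q ⊓ T ≤ S := inf_le_left.trans hQS
  haveI := finite_of_le hIS
  refine ⟨g, hg.restrict hle, hgf, img_eq_of_card hgI hIS hIS (fun y hy => ?_) le_rfl⟩
  obtain ⟨φ, hφ, hfφ⟩ := hgI
  rw [← hfφ ⟨y, hy⟩]
  exact ⟨hsc.2 _ inf_le_left φ hφ ⟨y, hy⟩, hT.2 _ inf_le_right φ hφ ⟨y, hy⟩⟩

/-- In a constrained system, with `Q = O_p(F)` and `T` strongly closed, `C_T(Q ∩ T) ≤ Q ∩ T`. -/
theorem centralizer_inf_le [Finite S] (hS : IsPGroup p S) (hF : F.IsSaturated p) {Q₀ : Subgroup Ω}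
    (hQ₀n : F.IsNormal Q₀) (hQ₀c : F.IsCentric Q₀) {T : Subgroup Ω} (hT : F.StronglyClosed T) :
    centralizerIn T (F.core ⊓ T) ≤ F.core ⊓ T := by
  set Q := F.core with hQdef
  have hQn : F.IsNormal Q := Cfsg.Agent.S5145.result F
  have hQS := hQn.1
  have hQ₀Q : Q₀ ≤ Q := le_sSup hQ₀n
  have hsc := Cfsg.Agent.S5290.stronglyClosed_of_isNormal hQn
  have hc : F.IsCentric Q := by
    refine ⟨hQS, fun Q' hQ' => ?_⟩
    have hQQ' : Q' = Q := by
      obtain ⟨f, hf, himg⟩ := isConj_iff.1 hQ'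
      haveI : Finite Q := finite_of_le hQS
      haveI : Finite Q' := finite_of_le (IsConj_le' hQ')
      apply Subgroup.eq_of_le_of_card_ge
      · rw [← himg]
        obtain ⟨φ, hφ, hfφ⟩ := hf
        rw [img_eq_range φ hfφ]
        rintro _ ⟨x, rfl⟩
        exact hsc.2 Q le_rfl φ hφ x
      · exact (IsConj_card hQ').le
    rw [hQQ']
    intro s hs
    refine hQ₀Q (hQ₀c.2 Q₀ (isConj_refl hQ₀c.1) ?_)
    exact ⟨hs.1, fun x hx => hs.2 x (hQ₀Q hx)⟩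
  have hRn : F.IsNormal (Q ⊓ T) := inf_isNormal hQn hT
  have hRsc := Cfsg.Agent.S5290.stronglyClosed_of_isNormal hRn
  haveI := Cfsg.Agent.Lib.FusionNormalCrit.stabK_normal F (Q ⊓ T) Q hQS hRsc
    (fun P hPQ φ hφ => Cfsg.Agent.S5290.exists_aut_of_isNormal hRn hPQ hφ)
  have hKp := Cfsg.Agent.Lib.FusionNormalCrit.stabK_isPGroup (F := F) hS (Q ⊓ T) Q hQS hRsc
  have hle : preK F Q (Cfsg.Agent.Lib.FusionNormalCrit.stabK F (Q ⊓ T) Q hQS hRsc) hQS ≤ Q :=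
    le_sSup (preK_isNormal hS hF hQn hc _ hKp)
  have hN : S ≤ Subgroup.normalizer (Q : Set Ω) := Cfsg.Agent.Lib.FusionNormal.IsNormal.le_normalizer hQn
  have hNT : S ≤ Subgroup.normalizer (T : Set Ω) := Cfsg.Agent.Lib.FusionNormal.StronglyClosed.le_normalizer hT
  intro y hy
  have hyT : y ∈ T := hy.1
  have hyS : y ∈ S := hT.1 hyT
  have hyN : y ∈ normalizerIn S Q := ⟨hyS, hN hyS⟩
  have hα : conjN S Q ⟨y, hyN⟩ ∈ autInducedBy S Q := by
    rw [← conjN_range]; exact ⟨_, rfl⟩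
  have hαA : conjN S Q ⟨y, hyN⟩ ∈ F.autGroup Q := autInducedBy_le_autGroup hQS hα
  have hαe : ∀ x ∈ Q, afn (conjN S Q ⟨y, hyN⟩) x = y * x * y⁻¹ := fun x hx => afn_conjN _ hx
  refine ⟨hle ⟨hyS, ⟨_, hαA⟩, ⟨fun x => ?_, 1, Subgroup.one_mem _, fun x hxR => ?_⟩, hαe⟩, hyT⟩
  · have e : (((conjN S Q ⟨y, hyN⟩ : MulAut Q) x : Q) : Ω) = y * x * y⁻¹ := by
      rw [← hαe x x.2, afn_of_mem _ x.2]
    show (x : Ω)⁻¹ * (((conjN S Q ⟨y, hyN⟩ : MulAut Q) x : Q) : Ω) ∈ Q ⊓ T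
    rw [e]
    have hxS : (x : Ω) ∈ S := hQS x.2
    refine ⟨Q.mul_mem (Q.inv_mem x.2) ((Subgroup.mem_normalizer_iff.1 (hN hyS) x).1 x.2), ?_⟩
    have h1 : (x : Ω)⁻¹ * y * (x : Ω)⁻¹⁻¹ ∈ T :=
      (Subgroup.mem_normalizer_iff.1 (hNT (S.inv_mem hxS)) y).1 hyT
    have e2 : (x : Ω)⁻¹ * (y * x * y⁻¹) = ((x : Ω)⁻¹ * y * (x : Ω)⁻¹⁻¹) * y⁻¹ := by group
    rw [e2]
    exact T.mul_mem h1 (T.inv_mem hyT)
  · have e : (((conjN S Q ⟨y, hyN⟩ : MulAut Q) x : Q) : Ω) = y * x * y⁻¹ := by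
      rw [← hαe x x.2, afn_of_mem _ x.2]
    show (((conjN S Q ⟨y, hyN⟩ : MulAut Q) x : Q) : Ω) = 1 * x * 1⁻¹
    rw [e]
    have h1 : (x : Ω) * y = y * x := hy.2 x hxR
    rw [← h1]
    group

/-- A saturated subsystem over a strongly closed subgroup of a constrained system is constrained. -/
theorem isConstrained_of_stronglyClosed [Finite S] (hS : IsPGroup p S) (hF : F.IsConstrained p) {T : Subgroup Ω}
    {D : FusionSystem T} (hD : D.IsSaturated p) (hsub : D.IsSubsystemOf F) (hT : F.StronglyClosed T) :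
    D.IsConstrained p := by
  obtain ⟨hFs, Q₀, hQ₀n, hQ₀c⟩ := hF
  have hTS := hT.1
  haveI : Finite T := finite_of_le hTS
  have hST : IsPGroup p T := hS.to_le hTS
  have hQn : F.IsNormal F.core := Cfsg.Agent.S5145.result F
  have hRn : F.IsNormal (F.core ⊓ T) := inf_isNormal hQn hT
  have hDn : D.IsNormal (F.core ⊓ T) := by
    refine isNormal_of_ext' hST hD inf_le_right (fun P hPQ φ hφ => ?_)
    obtain ⟨α, -, h⟩ := Cfsg.Agent.S5290.exists_aut_of_isNormal hRn hPQ (hsub P hφ)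
    exact ⟨α, h⟩
  refine ⟨hD, F.core ⊓ T, hDn, inf_le_right, fun Q' hQ' => ?_⟩
  have hsc := Cfsg.Agent.S5290.stronglyClosed_of_isNormal hDn
  have hQQ' : Q' = F.core ⊓ T := by
    obtain ⟨f, hf, himg⟩ := isConj_iff.1 hQ'
    haveI : Finite (F.core ⊓ T : Subgroup Ω) := finite_of_le inf_le_right
    haveI : Finite Q' := finite_of_le (IsConj_le' hQ')
    apply Subgroup.eq_of_le_of_card_ge
    · rw [← himg]
      obtain ⟨φ, hφ, hfφ⟩ := hf
      rw [img_eq_range φ hfφ]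
      rintro _ ⟨x, rfl⟩
      exact hsc.2 _ le_rfl φ hφ x
    · exact (IsConj_card hQ').le
  rw [hQQ']
  exact centralizer_inf_le hS hFs hQ₀n hQ₀c hT

end

end Cfsg.Agent.Lib.FusionConstrained
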