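/-
FusionCompA: subgroups normal in a normal subsystem; the centralizer system of a normal subgroup is normal.
-/
import Mathlib
import Cfsg.Agent.Lib.FusionConstrained
import Cfsg.Agent.Lib.FusionSparse
import Cfsg.Agent.Lib.AschCF
import Cfsg.Agent.S5290

set_option autoImplicit false
set_option linter.unusedSectionVars false
set_option linter.unusedVariables false
set_option linter.unusedSimpArgs false
set_option linter.style.haveILetI false

namespace Cfsg.Agent.Lib.FusionCompA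

open Cfsg Cfsg.FusionSystem Cfsg.Agent.Lib.FusionCore Cfsg.Agent.Lib.FusionCore2
open Cfsg.Agent.Lib.FusionInvariant (Str Inv Frat isInvariantIn_iff str_of_inv_frat maps_sub StrongMem aut_maps strong_img_le)
open Cfsg.Agent.Lib.AschCore (sc_fullyNormalized conj_mapsD frat_of_normal exists_ext_T maps_cent)

universe u

variable {Ω : Type u} [Group Ω] {S T : Subgroup Ω} {F : FusionSystem S} {E : FusionSystem T} {p : ℕ}
  {Q P R : Subgroup Ω}

/-- Induction principle for a join. -/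
lemma sup_ind {A B : Subgroup Ω} {C : Ω → Prop} (hA : ∀ x ∈ A, C x) (hB : ∀ x ∈ B, C x)
    (hmul : ∀ x ∈ A ⊔ B, ∀ y ∈ A ⊔ B, C x → C y → C (x * y))
    (hinv : ∀ x ∈ A ⊔ B, C x → C x⁻¹) (hone : C 1) : ∀ x ∈ A ⊔ B, C x := by
  intro x hx
  rw [← Subgroup.closure_eq A, ← Subgroup.closure_eq B, ← Subgroup.closure_union] at hx
  have hle : Subgroup.closure ((A : Set Ω) ∪ B) = A ⊔ B := by
    rw [Subgroup.closure_union, Subgroup.closure_eq, Subgroup.closure_eq]
  induction hx using Subgroup.closure_induction with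
  | mem y hy =>
    rcases hy with hy | hy
    · exact hA y hy
    · exact hB y hy
  | one => exact hone
  | mul a b ha hb iha ihb =>
    exact hmul a (hle ▸ ha) b (hle ▸ hb) iha ihb
  | inv a ha iha => exact hinv a (hle ▸ ha) iha

/-- A subgroup normal in `S` is fully normalized. -/
lemma fullyNormalized_of_le_normalizer (hPS : P ≤ S) (hN : S ≤ Subgroup.normalizer (P : Set Ω)) [Finite S] :
    F.IsFullyNormalized P := by
  refine ⟨hPS, fun P' hP' => ?_⟩
  have h1 : normalizerIn S P = S := by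
    ext x
    constructor
    · exact fun h => h.1
    · exact fun h => ⟨h, hN h⟩
  have h2 : normalizerIn S P' ≤ S := inf_le_left
  rw [h1]
  exact Nat.card_mono (Set.toFinite _) h2

/-- The transport of a subgroup normal in `E` by an automorphism of `T` in `F`. -/
lemma isNormal_img [Finite S] [Fact p.Prime] (hTp : IsPGroup p T) (hTS : T ≤ S) [Finite T] (hEs : E.IsSaturated p) (hinv : Inv F E) (hQ : E.IsNormal Q)
    {a : MulAut T} (ha : a ∈ F.autGroup T) (ham : Maps F T (afn a)) : E.IsNormal (img (afn a) Q) := by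
  have hQT : Q ≤ T := hQ.1
  have hamQ : Maps F Q (afn a) := ham.restrict hQT
  have hQ'T : img (afn a) Q ≤ T := by
    intro y hy
    obtain ⟨x, hx, rfl⟩ := hamQ.mem_img.1 hy
    exact afn_mem a (hQT hx)
  refine Cfsg.Agent.Lib.FusionNormalCrit.isNormal_of_ext hTp hEs hQ'T (fun P hPQ φ hφ => ?_)
  have hf : Maps E P (fn φ) := Maps.of_mem hφ
  have hPT := hPQ.trans hQ'T
  obtain ⟨k, hk, hkv⟩ := hinv hf a⁻¹ (Subgroup.inv_mem _ ha)
  have hback : ∀ y ∈ P, afn a⁻¹ y ∈ Q := by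
    intro y hy
    obtain ⟨x, hx, rfl⟩ := hamQ.mem_img.1 (hPQ hy)
    rw [afn_inv_afn a (hQT hx)]
    exact hx
  have hP₂Q : img (afn a⁻¹) P ≤ Q := by
    rw [img, Subgroup.closure_le]
    rintro _ ⟨x, hx, rfl⟩
    exact hback x hx
  obtain ⟨γ, hγ, hγv⟩ := Cfsg.Agent.S5290.exists_aut_of_isNormal hQ hP₂Q hk.hom_mem
  have hγm : Maps E Q (afn γ) := (mem_autGroup_iff hQT).1 hγ
  obtain ⟨k', hk', hk'v⟩ := hinv hγm a ha
  have hkmg : img k' (img (afn a) Q) = img (afn a) Q := by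
    refine img_eq_of_card hk' hQ'T hQ'T (fun y hy => ?_) le_rfl
    obtain ⟨x, hx, rfl⟩ := hamQ.mem_img.1 hy
    rw [hk'v x hx]
    exact hamQ.mem_img_of_mem (afn_mem γ hx)
  refine ⟨hk'.toAut hkmg, hk'.toAut_mem hkmg, fun x => ?_⟩
  have hxP := x.2
  have e1 := hk'.afn_toAut hkmg (hPQ hxP)
  rw [afn_of_mem _ (hPQ hxP)] at e1
  have e1' : ((hk'.toAut hkmg (Subgroup.inclusion hPQ x) : ↥(img (afn a) Q)) : Ω) = k' x := e1
  rw [e1']
  have hbx := hback x hxP
  have e2 := hk'v _ hbx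
  rw [afn_afn_inv a (hPT hxP)] at e2
  rw [e2]
  have hxm : afn a⁻¹ x ∈ img (afn a⁻¹) P := Subgroup.subset_closure ⟨x, hxP, rfl⟩
  have e3 := hγv ⟨_, hxm⟩
  have e4 : afn γ (afn a⁻¹ x) = hk.hom ⟨_, hxm⟩ := by
    rw [afn_of_mem γ hbx]
    exact e3
  rw [e4, hk.hom_apply, hkv x hxP, fn_coe, afn_afn_inv a ((E.le_of_mem hφ).2 x)]

/-- A subgroup normal in an invariant subsystem and invariant under `Aut_F(T)` is normal in `F`. -/
lemma isNormal_of_sub [Finite S] [Fact p.Prime] (hS : IsPGroup p S) (hF : F.IsSaturated p) (hEF : E.IsInvariantIn F)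
    (hQ : E.IsNormal Q) (hQa : ∀ a ∈ F.autGroup T, ∀ x ∈ Q, afn a x ∈ Q) : F.IsNormal Q := by
  obtain ⟨hsub, hT, hinv, hfr⟩ := isInvariantIn_iff.1 hEF
  have hTS := hT.1
  have hQT : Q ≤ T := hQ.1
  refine Cfsg.Agent.Lib.FusionNormalCrit.isNormal_of_ext hS hF (hQT.trans hTS) (fun P hPQ φ hφ => ?_)
  obtain ⟨a, ha, f₀, hf₀, hf₀v⟩ := hfr (hPQ.trans hQT) (Maps.of_mem hφ)
  obtain ⟨γ, hγ, hγv⟩ := Cfsg.Agent.S5290.exists_aut_of_isNormal hQ hPQ hf₀.hom_mem
  have hγm : Maps E Q (afn γ) := (mem_autGroup_iff hQT).1 hγ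
  have ham : Maps F T (afn a) := aut_maps hT ha
  have hamQ : Maps F Q (afn a) := ham.restrict hQT
  have himg : img (afn a) Q = Q := img_eq_of_card hamQ (hQT.trans hTS) (hQT.trans hTS) (fun x hx => hQa a ha x hx) le_rfl
  let a₀ : MulAut Q := hamQ.toAut himg
  have ha₀ : a₀ ∈ F.autGroup Q := hamQ.toAut_mem himg
  have ha₀v : ∀ x ∈ Q, afn a₀ x = afn a x := fun x hx => hamQ.afn_toAut himg hx
  refine ⟨a₀ * γ, Subgroup.mul_mem _ ha₀ ((mem_autGroup_iff (hQT.trans hTS)).2 (maps_sub hsub hγm)), fun x => ?_⟩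
  have hxQ : (x : Ω) ∈ Q := hPQ x.2
  have e1 := hγv x
  have e2 : afn γ x = hf₀.hom x := by
    rw [afn_of_mem γ hxQ]
    exact e1
  have e3 : ((( a₀ * γ) (Subgroup.inclusion hPQ x) : Q) : Ω) = afn (a₀ * γ) x := by
    rw [afn_of_mem _ hxQ]
    rfl
  rw [e3, afn_mul _ _ hxQ, ha₀v _ (afn_mem γ hxQ), e2, hf₀.hom_apply, ← hf₀v x x.2, fn_coe]

/-- The largest subgroup normal in an invariant subsystem is normal in `F`. -/
theorem core_isNormal [Finite S] [Fact p.Prime] (hS : IsPGroup p S) (hF : F.IsSaturated p) (hE : E.IsWeaklyNormalIn F p) :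
    F.IsNormal E.core := by
  obtain ⟨hEs, -, hEF⟩ := hE
  obtain ⟨hsub, hT, hinv, hfr⟩ := isInvariantIn_iff.1 hEF
  have hTS := hT.1
  haveI : Finite T := finite_of_le hTS
  have hTp : IsPGroup p T := hS.to_le hTS
  have hn : E.IsNormal E.core := Cfsg.Agent.S5145.result E
  refine isNormal_of_sub hS hF hEF hn (fun a ha x hx => ?_)
  have h1 : E.IsNormal (img (afn a) E.core) := isNormal_img hTp hTS hEs hinv hn ha (aut_maps hT ha)
  have h2 : img (afn a) E.core ≤ E.core := le_sSup h1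
  exact h2 (Subgroup.subset_closure ⟨x, hx, rfl⟩)

/-- **The centralizer system of a normal subgroup is normal.** -/
theorem cent_isNormalIn [Finite S] [Fact p.Prime] (hS : IsPGroup p S) (hF : F.IsSaturated p) (hQ : F.IsNormal Q)
    {D₀ : FusionSystem (centralizerIn S Q)} (hD₀ : F.IsCentralizerSystem Q D₀) : D₀.IsNormalIn F p := by
  have hQS := hQ.1
  have hQsc : F.StronglyClosed Q := Cfsg.Agent.Lib.FusionCore3.stronglyClosed_of_isNormal hQ
  have hCsc : F.StronglyClosed (centralizerIn S Q) := Cfsg.Agent.Lib.FusionSparse.stronglyClosed_cent hQ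
  have hCS : centralizerIn S Q ≤ S := inf_le_left
  haveI : Finite (centralizerIn S Q) := finite_of_le hCS
  have hQc : F.IsFullyCentralized Q := (of_fullyNormalized hS hF (sc_fullyNormalized hQsc)).1
  have hDs : D₀.IsSaturated p := Cfsg.Agent.Lib.FusionSatNorm.saturated_centralizer hS hF hQc hD₀
  have hDF : D₀.IsSubsystemOf F := fun P φ hφ => by
    rw [hD₀ P] at hφ
    exact hφ.1
  have hInv : Inv F D₀ := by
    intro P f hf a ha
    refine ⟨afn a ∘ f ∘ afn a⁻¹, conj_mapsD hS hF hQsc hCsc le_rfl hD₀ ha hf.le hf (fun x hx => hf.mem hx), fun x hx => ?_⟩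
    simp only [Function.comp]
    rw [afn_inv_afn a (hf.le hx)]
  have hFrat : Frat F D₀ := frat_of_normal hS hF hQsc hCsc le_rfl (fun θ hθ x hx => hθ.memY hQS hx) hD₀
    (fun {P f} hP hf => ⟨1, Subgroup.one_mem _, f, hf, fun x hx => by rw [afn_one (hf.mem hx)]⟩)
  have hW : D₀.IsWeaklyNormalIn F p := ⟨hDs, hF, isInvariantIn_iff.2 ⟨hDF, hCsc, hInv, hFrat⟩⟩
  refine ⟨hW, fun α hα => ?_⟩
  have hαm : Maps D₀ (centralizerIn S Q) (afn α) := (mem_autGroup_iff le_rfl).1 hα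
  obtain ⟨hαF, -, -, g, hg, hg1, hg2⟩ := (maps_cent hD₀).1 hαm
  -- the product `C₀ Q`, normal in `S`
  have hSN : S ≤ Subgroup.normalizer (Q : Set Ω) := Cfsg.Agent.Lib.FusionNormal.IsNormal.le_normalizer hQ
  have hSC : S ≤ Subgroup.normalizer ((centralizerIn S Q : Subgroup Ω) : Set Ω) := Cfsg.Agent.Lib.FusionNormal.StronglyClosed.le_normalizer hCsc
  have hR₁S : centralizerIn S Q ⊔ Q ≤ S := sup_le hCS hQS
  have hSR₁ : S ≤ Subgroup.normalizer ((centralizerIn S Q ⊔ Q : Subgroup Ω) : Set Ω) := by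
    intro s hs
    rw [Subgroup.mem_normalizer_iff]
    have hc : ∀ s ∈ S, ∀ x ∈ centralizerIn S Q ⊔ Q, s * x * s⁻¹ ∈ centralizerIn S Q ⊔ Q := by
      intro s hs
      refine sup_ind (fun x hx => (le_sup_left : centralizerIn S Q ≤ _) ((Subgroup.mem_normalizer_iff.1 (hSC hs) x).1 hx))
        (fun x hx => (le_sup_right : Q ≤ centralizerIn S Q ⊔ Q) ((Subgroup.mem_normalizer_iff.1 (hSN hs) x).1 hx)) ?_ ?_ ?_
      · intro x _ y _ hx hy
        have := Subgroup.mul_mem _ hx hy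
        simpa [mul_assoc] using this
      · intro x _ hx
        have := Subgroup.inv_mem _ hx
        simpa [mul_assoc] using this
      · simp
    intro x
    refine ⟨fun hx => hc s hs x hx, fun hx => ?_⟩
    have := hc s⁻¹ (S.inv_mem hs) _ hx
    simpa [mul_assoc] using this
  have hR₁n : F.IsFullyNormalized (centralizerIn S Q ⊔ Q) := fullyNormalized_of_le_normalizer hR₁S hSR₁
  have hR₁r : F.IsReceptive (centralizerIn S Q ⊔ Q) := receptive_of_fullyCentralized hS hF (of_fullyNormalized hS hF hR₁n).1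
  have hgC : ∀ x ∈ centralizerIn S Q, g x ∈ centralizerIn S Q := by
    intro x hx
    rw [hg1 x hx]
    exact afn_mem α hx
  have hgR₁ : ∀ x ∈ centralizerIn S Q ⊔ Q, g x ∈ centralizerIn S Q ⊔ Q := hg.sup_mem
    (fun x hx => (le_sup_left : centralizerIn S Q ≤ _) (hgC x hx))
    (fun x hx => by
      rw [hg2 x hx]
      exact (le_sup_right : Q ≤ centralizerIn S Q ⊔ Q) hx)
  have hgimg : img g (centralizerIn S Q ⊔ Q) = centralizerIn S Q ⊔ Q := img_eq_of_card hg hR₁S hR₁S hgR₁ le_rfl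
  obtain ⟨gh, hgh, hgh1⟩ := IsReceptive.ext hR₁r hg hgimg
  -- `C_S(C₀)` lies in the extender
  have hNf : ∀ w ∈ centralizerIn S (centralizerIn S Q), ∀ x ∈ centralizerIn S Q ⊔ Q, g (w * x * w⁻¹) = w * g x * w⁻¹ := by
    intro w hw
    obtain ⟨hwS, hwc⟩ := mem_centralizerIn.1 hw
    have hwconj : ∀ x ∈ centralizerIn S Q ⊔ Q, w * x * w⁻¹ ∈ centralizerIn S Q ⊔ Q := fun x hx => (Subgroup.mem_normalizer_iff.1 (hSR₁ hwS) x).1 hx
    refine sup_ind (fun x hx => ?_) (fun x hx => ?_) ?_ ?_ ?_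
    · have h1 : w * x = x * w := ((hwc x hx)).symm
      have h2 : g x ∈ centralizerIn S Q := hgC x hx
      have h3 : w * g x = g x * w := ((hwc _ h2)).symm
      have e1 : w * x * w⁻¹ = x := by rw [h1]; group
      have e2 : w * g x * w⁻¹ = g x := by rw [h3]; group
      rw [e1, e2]
    · have h1 : w * x * w⁻¹ ∈ Q := (Subgroup.mem_normalizer_iff.1 (hSN hwS) x).1 hx
      rw [hg2 _ h1, hg2 _ hx]
    · intro x hx y hy h1 h2
      have e : w * (x * y) * w⁻¹ = (w * x * w⁻¹) * (w * y * w⁻¹) := by group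
      rw [e, hg.map_mul (hwconj x hx) (hwconj y hy), h1, h2, hg.map_mul hx hy]
      group
    · intro x hx h1
      have e : w * x⁻¹ * w⁻¹ = (w * x * w⁻¹)⁻¹ := by group
      rw [e, hg.map_inv (hwconj x hx), h1, hg.map_inv hx]
      group
    · have e : w * 1 * w⁻¹ = (1 : Ω) := by group
      rw [e, hg.map_one]
      group
  have hWN : centralizerIn S (centralizerIn S Q) ≤ Nf S (centralizerIn S Q ⊔ Q) g := by
    intro w hw
    obtain ⟨hwS, hwc⟩ := mem_centralizerIn.1 hw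
    exact mem_Nf.2 ⟨hwS, hSR₁ hwS, w, hwS, hNf w hw⟩
  have hCW : centralizerIn S Q ⊔ Q ≤ Nf S (centralizerIn S Q ⊔ Q) g := le_Nf hg
  have hK₂N : centralizerIn S Q ⊔ centralizerIn S (centralizerIn S Q) ≤ Nf S (centralizerIn S Q ⊔ Q) g :=
    sup_le (le_sup_left.trans hCW) hWN
  have hβ : Maps F (centralizerIn S Q ⊔ centralizerIn S (centralizerIn S Q)) gh := hgh.restrict hK₂N
  have hK₂S : centralizerIn S Q ⊔ centralizerIn S (centralizerIn S Q) ≤ S := sup_le hCS inf_le_left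
  have hghv : ∀ w ∈ centralizerIn S (centralizerIn S Q), (w⁻¹ * gh w) ∈ centralizerIn S Q ⊓ Subgroup.centralizer (centralizerIn S Q : Set Ω) := by
    intro w hw
    obtain ⟨hwS, hwc⟩ := mem_centralizerIn.1 hw
    have hwN := hWN hw
    have hgw : gh w ∈ S := hgh.mem hwN
    have hkey : ∀ x ∈ centralizerIn S Q ⊔ Q, gh w * g x * (gh w)⁻¹ = w * g x * w⁻¹ := by
      intro x hx
      have hxN := hCW hx
      have hwconj : w * x * w⁻¹ ∈ centralizerIn S Q ⊔ Q := (Subgroup.mem_normalizer_iff.1 (hSR₁ hwS) x).1 hx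
      have e1 : gh (w * x * w⁻¹) = gh w * gh x * (gh w)⁻¹ := hgh.map_conj hwN hxN
      rw [hgh1 _ hwconj, hNf w hw x hx, hgh1 x hx] at e1
      exact e1.symm
    have hcomm : ∀ y ∈ centralizerIn S Q ⊔ Q, y * (w⁻¹ * gh w) = (w⁻¹ * gh w) * y := by
      intro y hy
      rw [← hgimg] at hy
      obtain ⟨x, hx, rfl⟩ := hg.mem_img.1 hy
      have e := hkey x hx
      have : gh w * g x = w * g x * w⁻¹ * gh w := by rw [← e]; group
      rw [mul_assoc (w⁻¹), this]
      group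
    refine ⟨mem_centralizerIn.2 ⟨S.mul_mem (S.inv_mem hwS) hgw, fun q hq => ?_⟩, ?_⟩
    · exact hcomm q ((le_sup_right : Q ≤ centralizerIn S Q ⊔ Q) hq)
    · exact Subgroup.mem_centralizer_iff.2 (fun c hc => hcomm c ((le_sup_left : centralizerIn S Q ≤ centralizerIn S Q ⊔ Q) hc))
  have hK₂m : ∀ x ∈ centralizerIn S Q ⊔ centralizerIn S (centralizerIn S Q), gh x ∈ centralizerIn S Q ⊔ centralizerIn S (centralizerIn S Q) := by
    refine hβ.sup_mem (fun x hx => ?_) (fun x hx => ?_)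
    · rw [hgh1 x ((le_sup_left : centralizerIn S Q ≤ centralizerIn S Q ⊔ Q) hx)]
      exact (le_sup_left : centralizerIn S Q ≤ _) (hgC x hx)
    · have h1 := (hghv x hx).1
      have e : gh x = x * (x⁻¹ * gh x) := by group
      rw [e]
      exact Subgroup.mul_mem _ ((le_sup_right : centralizerIn S (centralizerIn S Q) ≤ _) hx) ((le_sup_left : centralizerIn S Q ≤ _) h1)
  have hβimg : img gh (centralizerIn S Q ⊔ centralizerIn S (centralizerIn S Q)) = centralizerIn S Q ⊔ centralizerIn S (centralizerIn S Q) :=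
    img_eq_of_card hβ hK₂S hK₂S hK₂m le_rfl
  refine ⟨hβ.toAut hβimg, hβ.toAut_mem hβimg, fun x => ?_, fun c hc => ?_⟩
  · have hx2 : (x : Ω) ∈ centralizerIn S Q ⊔ centralizerIn S (centralizerIn S Q) := (le_sup_left : centralizerIn S Q ≤ _) x.2
    have e1 := hβ.afn_toAut hβimg hx2
    rw [afn_of_mem _ hx2] at e1
    have e2 : ((hβ.toAut hβimg (Subgroup.inclusion le_sup_left x) : ↥(centralizerIn S Q ⊔ centralizerIn S (centralizerIn S Q))) : Ω) = gh x := e1
    rw [e2, hgh1 x ((le_sup_left : centralizerIn S Q ≤ centralizerIn S Q ⊔ Q) x.2), hg1 x x.2, afn_of_mem α x.2]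
  · have e1 := hβ.afn_toAut hβimg c.2
    rw [afn_of_mem _ c.2] at e1
    have e2 : ((hβ.toAut hβimg ⟨c, c.2⟩ : ↥(centralizerIn S Q ⊔ centralizerIn S (centralizerIn S Q))) : Ω) = gh c := e1
    have e3 : ((hβ.toAut hβimg c : ↥(centralizerIn S Q ⊔ centralizerIn S (centralizerIn S Q))) : Ω) = gh c := e2
    rw [e3]
    exact hghv c hc

end Cfsg.Agent.Lib.FusionCompA
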