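/-
FusionIsoNormal: pull-back of a subsystem along an isomorphism of fusion systems; normal subsystems and simplicity are
transported.
-/
import Mathlib
import Cfsg.Agent.Lib.FusionIso
import Cfsg.Agent.Lib.FusionInvariant

set_option autoImplicit false

namespace Cfsg.Agent.Lib.FusionIsoNormal

open Cfsg Cfsg.FusionSystem Cfsg.Agent.Lib.FusionCore Cfsg.Agent.Lib.FusionIso Cfsg.Agent.Lib.FusionInvariant

universe u v

variable {Ω : Type u} [Group Ω] {S : Subgroup Ω} {Ω' : Type v} [Group Ω'] {S' : Subgroup Ω'}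
variable {F : FusionSystem S} {F' : FusionSystem S'}

section pull

variable (I : Iso F F') {T' : Subgroup Ω'} (E' : FusionSystem T') (hT' : T' ≤ S')

lemma val_eq {P : Subgroup Ω} (hP : P ≤ S) (f : Ω → Ω) {x : Ω} (hx : x ∈ P) :
    (I.e ∘ f ∘ I.e') (I.e x) = I.e (f x) := by
  show I.e (f (I.e' (I.e x))) = _
  rw [I.left x (hP hx)]

include hT' in
lemma im_le_T' {P : Subgroup Ω} (hP : P ≤ im I.e' T') : im I.e P ≤ T' := by
  have h := I.symm.im_le hT'
  intro y hy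
  obtain ⟨x, hx, rfl⟩ := (I.mem_im (hP.trans h)).1 hy
  obtain ⟨z, hz, rfl⟩ := (I.mem_im' hT').1 (hP hx)
  rw [I.right z (hT' hz)]
  exact hz

/-- The pull-back along `I` of a system `E'` over a subgroup `T' ≤ S'`. -/
def pull : FusionSystem (im I.e' T') where
  Hom P := {φ | P ≤ im I.e' T' ∧ (∀ x : P, φ x ∈ im I.e' T') ∧ Maps E' (im I.e P) (I.e ∘ fn φ ∘ I.e')}
  le_of_mem := fun h => ⟨h.1, h.2.1⟩
  injective_of_mem := by
    rintro P φ ⟨hP, hv, hm⟩ a b hab
    have hPS := hP.trans (I.symm.im_le hT')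
    have h1 := val_eq I hPS (fn φ) a.2
    have h2 := val_eq I hPS (fn φ) b.2
    rw [fn_coe] at h1 h2
    have h3 : (I.e ∘ fn φ ∘ I.e') (I.e a) = (I.e ∘ fn φ ∘ I.e') (I.e b) := by
      rw [h1, h2, hab]
    have h4 := hm.inj (I.mem_im_of_mem a.2) (I.mem_im_of_mem b.2) h3
    have h5 := congrArg I.e' h4
    rw [I.left _ (hPS a.2), I.left _ (hPS b.2)] at h5
    exact Subtype.ext h5
  conj_mem := by
    intro P g hP hg
    have hTS := I.symm.im_le hT'
    have hPS := hP.trans hTS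
    refine ⟨hP, fun x => ?_, ?_⟩
    · exact Subgroup.mul_mem _ (Subgroup.mul_mem _ hg (hP x.2)) (Subgroup.inv_mem _ hg)
    · have hgT : I.e g ∈ T' := im_le_T' I hT' (P := im I.e' T') le_rfl (I.mem_im_of_mem hg)
      have hm : Maps E' (im I.e P) (fun y => I.e g * y * (I.e g)⁻¹) := Maps.conj (im_le_T' I hT' hP) hgT
      refine hm.congr (fun y hy => ?_)
      obtain ⟨x, hx, rfl⟩ := (I.mem_im hPS).1 hy
      rw [val_eq I hPS _ hx, fn_of_mem _ hx]
      show _ = I.e (g * x * g⁻¹)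
      rw [I.map_conj (hTS hg) (hPS hx)]
  comp_mem := by
    rintro P Q φ ψ ⟨hP, hv, hm⟩ ⟨hQ, hv', hm'⟩ h
    have hTS := I.symm.im_le hT'
    have hPS := hP.trans hTS
    have hQS := hQ.trans hTS
    refine ⟨hP, fun x => hv' _, ?_⟩
    have hmem : ∀ y ∈ im I.e P, (I.e ∘ fn φ ∘ I.e') y ∈ im I.e Q := by
      intro y hy
      obtain ⟨x, hx, rfl⟩ := (I.mem_im hPS).1 hy
      rw [val_eq I hPS _ hx, fn_of_mem _ hx]
      exact I.mem_im_of_mem (h ⟨x, hx⟩)
    refine (hm.comp hm' hmem).congr (fun y hy => ?_)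
    obtain ⟨x, hx, rfl⟩ := (I.mem_im hPS).1 hy
    show (I.e ∘ fn ψ ∘ I.e') ((I.e ∘ fn φ ∘ I.e') (I.e x)) = (I.e ∘ _ ∘ I.e') (I.e x)
    rw [val_eq I hPS _ hx, val_eq I hPS _ hx, fn_of_mem φ hx, val_eq I hQS _ (h ⟨x, hx⟩), fn_of_mem ψ (h ⟨x, hx⟩),
      fn_of_mem _ hx]
    rfl
  inv_mem := by
    rintro P φ ⟨hP, hv, hm⟩
    have hTS := I.symm.im_le hT'
    have hPS := hP.trans hTS
    have hinj : Function.Injective φ := by
      intro a b hab
      have h1 := val_eq I hPS (fn φ) a.2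
      have h2 := val_eq I hPS (fn φ) b.2
      rw [fn_coe] at h1 h2
      have h3 : (I.e ∘ fn φ ∘ I.e') (I.e a) = (I.e ∘ fn φ ∘ I.e') (I.e b) := by
        rw [h1, h2, hab]
      have h4 := hm.inj (I.mem_im_of_mem a.2) (I.mem_im_of_mem b.2) h3
      have h5 := congrArg I.e' h4
      rw [I.left _ (hPS a.2), I.left _ (hPS b.2)] at h5
      exact Subtype.ext h5
    let eqv : P ≃* φ.range := MonoidHom.ofInjective hinj
    let ψ : φ.range →* Ω := P.subtype.comp eqv.symm.toMonoidHom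
    have hψ : ∀ x : P, ψ ⟨φ x, ⟨x, rfl⟩⟩ = (x : Ω) := by
      intro x
      have : (⟨φ x, ⟨x, rfl⟩⟩ : φ.range) = eqv x := rfl
      show ((eqv.symm ⟨φ x, ⟨x, rfl⟩⟩ : P) : Ω) = x
      rw [this, MulEquiv.symm_apply_apply]
    have hrS : φ.range ≤ S := by
      rintro _ ⟨x, rfl⟩
      exact hTS (hv x)
    obtain ⟨k, hk, hk1, hk2⟩ := hm.inv
    have himg : img (I.e ∘ fn φ ∘ I.e') (im I.e P) = im I.e φ.range := by
      ext y
      rw [hm.mem_img, I.mem_im hrS]
      constructor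
      · rintro ⟨z, hz, rfl⟩
        obtain ⟨x, hx, rfl⟩ := (I.mem_im hPS).1 hz
        refine ⟨φ ⟨x, hx⟩, ⟨_, rfl⟩, ?_⟩
        rw [val_eq I hPS _ hx, fn_of_mem _ hx]
      · rintro ⟨_, ⟨x, rfl⟩, rfl⟩
        refine ⟨I.e x, I.mem_im_of_mem x.2, ?_⟩
        rw [val_eq I hPS _ x.2, fn_coe]
    rw [himg] at hk
    refine ⟨ψ, ⟨?_, fun x => ?_, hk.congr (fun y hy => ?_)⟩, hψ⟩
    · rintro _ ⟨x, rfl⟩
      exact hv x
    · exact hP (eqv.symm x).2
    · obtain ⟨_, ⟨x, rfl⟩, rfl⟩ := (I.mem_im hrS).1 hy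
      have h1 := hk1 (I.e x) (I.mem_im_of_mem x.2)
      rw [val_eq I hPS _ x.2, fn_coe] at h1
      rw [h1, val_eq I hrS _ (⟨x, rfl⟩ : φ x ∈ φ.range), fn_of_mem ψ (⟨x, rfl⟩ : φ x ∈ φ.range), hψ x]

variable {I E' hT'}

lemma mem_pull {P : Subgroup Ω} {φ : P →* Ω} :
    φ ∈ (pull I E' hT').Hom P ↔ P ≤ im I.e' T' ∧ (∀ x : P, φ x ∈ im I.e' T') ∧ Maps E' (im I.e P) (I.e ∘ fn φ ∘ I.e') :=
  Iff.rfl

/-- `I` restricts to an isomorphism of `pull I E'` with `E'` when `E'` is a subsystem. -/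
def pullIso (hsub : E'.IsSubsystemOf F') : Iso (pull I E' hT') E' where
  e := I.e
  e' := I.e'
  mem := fun x hx => im_le_T' I hT' le_rfl (I.mem_im_of_mem hx)
  mem' := fun y hy => I.symm.mem_im_of_mem hy
  map_mul := fun x hx y hy => I.map_mul x (I.symm.im_le hT' hx) y (I.symm.im_le hT' hy)
  left := fun x hx => I.left x (I.symm.im_le hT' hx)
  right := fun y hy => I.right y (hT' hy)
  maps := by
    rintro P f ⟨φ, ⟨hP, hv, hm⟩, hf⟩
    have hPS := hP.trans (I.symm.im_le hT')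
    refine hm.congr (fun y hy => ?_)
    obtain ⟨x, hx, rfl⟩ := (I.mem_im hPS).1 hy
    rw [val_eq I hPS _ hx, val_eq I hPS _ hx, fn_of_mem _ hx, hf ⟨x, hx⟩]
  maps' := by
    intro P' f hf
    have hP' : P' ≤ T' := hf.le
    have hf' : Maps F' P' f := maps_sub hsub hf
    obtain ⟨φ, hφ, hφf⟩ := I.maps' hf'
    have hφv : ∀ x : im I.e' P', I.e' (f (I.e x)) = φ x := fun x => (hφf x).symm
    have hPS : P' ≤ S' := hP'.trans hT'
    have hmemP : ∀ x : im I.e' P', I.e x ∈ P' := by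
      intro x
      have := I.mem_im_of_mem x.2
      rwa [I.im_symm' hPS] at this
    refine ⟨φ, ⟨?_, fun x => ?_, ?_⟩, hφf⟩
    · intro x hx
      obtain ⟨y, hy, rfl⟩ := (I.mem_im' hPS).1 hx
      exact I.symm.mem_im_of_mem (hP' hy)
    · rw [hφf x]
      exact I.symm.mem_im_of_mem (hf.mem (hmemP x))
    · rw [I.im_symm' hPS]
      refine hf.congr (fun y hy => ?_)
      have hm : I.e' y ∈ im I.e' P' := I.symm.mem_im_of_mem hy
      show _ = I.e (fn φ (I.e' y))
      rw [fn_of_mem _ hm, hφf ⟨_, hm⟩]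
      show _ = I.e (I.e' (f (I.e (I.e' y))))
      rw [I.right y (hPS hy), I.right _ (hT' (hf.mem hy))]

end pull

section transport

variable {p : ℕ} [Fact p.Prime] [Finite S]

variable (I : Iso F F') {T' : Subgroup Ω'}

/-- Transport of automorphisms of `T'` to `im e' T'`. -/
lemma aut_back [Finite S'] (hT' : T' ≤ S') {a' : MulAut T'} (ha' : a' ∈ F'.autGroup T') :
    ∃ a ∈ F.autGroup (im I.e' T'), ∀ y ∈ T', afn a (I.e' y) = I.e' (afn a' y) := by
  have hTS : im I.e' T' ≤ S := I.symm.im_le hT'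
  have hm' := Maps_of_mem_autGroup hT' ha'
  have hm := I.maps' hm'
  have hval : ∀ x ∈ im I.e' T', (I.e' ∘ afn a' ∘ I.e) x ∈ im I.e' T' := by
    intro x hx
    obtain ⟨y, hy, rfl⟩ := (I.mem_im' hT').1 hx
    show I.e' (afn a' (I.e (I.e' y))) ∈ _
    rw [I.right y (hT' hy)]
    exact I.symm.mem_im_of_mem (afn_mem a' hy)
  have himg := img_eq_of_card hm hTS hTS hval le_rfl
  refine ⟨hm.toAut himg, hm.toAut_mem himg, fun y hy => ?_⟩
  have hy' : I.e' y ∈ im I.e' T' := I.symm.mem_im_of_mem hy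
  rw [hm.afn_toAut himg hy']
  show I.e' (afn a' (I.e (I.e' y))) = _
  rw [I.right y (hT' hy)]

/-- Transport of automorphisms of `im e' T'` to `T'`. -/
lemma aut_fwd [Finite S'] (hT' : T' ≤ S') {a : MulAut (im I.e' T')} (ha : a ∈ F.autGroup (im I.e' T')) :
    ∃ a' ∈ F'.autGroup T', ∀ x ∈ im I.e' T', afn a' (I.e x) = I.e (afn a x) := by
  have hTS : im I.e' T' ≤ S := I.symm.im_le hT'
  have hm₀ := Maps_of_mem_autGroup hTS ha
  have hm := I.maps hm₀
  rw [I.im_symm' hT'] at hm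
  have hval : ∀ y ∈ T', (I.e ∘ afn a ∘ I.e') y ∈ T' := by
    intro y hy
    have h1 : afn a (I.e' y) ∈ im I.e' T' := afn_mem a (I.symm.mem_im_of_mem hy)
    have h2 := I.mem_im_of_mem h1
    rwa [I.im_symm' hT'] at h2
  have himg := img_eq_of_card hm hT' hT' hval le_rfl
  refine ⟨hm.toAut himg, hm.toAut_mem himg, fun x hx => ?_⟩
  have hxe : I.e x ∈ T' := by
    have h2 := I.mem_im_of_mem hx
    rwa [I.im_symm' hT'] at h2
  rw [hm.afn_toAut himg hxe]
  show I.e (afn a (I.e' (I.e x))) = _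
  rw [I.left x (hTS hx)]

lemma im_centralizer (hT' : T' ≤ S') : im I.e' (centralizerIn S' T') = centralizerIn S (im I.e' T') := by
  have hC' : centralizerIn S' T' ≤ S' := inf_le_left
  have hTS : im I.e' T' ≤ S := I.symm.im_le hT'
  ext c
  rw [I.mem_im' hC']
  constructor
  · rintro ⟨y, hy, rfl⟩
    obtain ⟨hyS, hyc⟩ := mem_centralizerIn.1 hy
    refine mem_centralizerIn.2 ⟨I.mem' y hyS, fun x hx => ?_⟩
    obtain ⟨t, ht, rfl⟩ := (I.mem_im' hT').1 hx
    rw [← I.map_mul' (hT' ht) hyS, ← I.map_mul' hyS (hT' ht), hyc t ht]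
  · intro hc
    obtain ⟨hcS, hcc⟩ := mem_centralizerIn.1 hc
    refine ⟨I.e c, mem_centralizerIn.2 ⟨I.mem c hcS, fun y hy => ?_⟩, I.left c hcS⟩
    have h1 := hcc (I.e' y) (I.symm.mem_im_of_mem hy)
    have h2 := congrArg I.e h1
    rw [I.map_mul _ (I.mem' y (hT' hy)) _ hcS, I.map_mul _ hcS _ (I.mem' y (hT' hy)), I.right y (hT' hy)] at h2
    exact h2

/-- Normal subsystems are transported. -/
theorem pull_isNormalIn (hS : IsPGroup p S) {E' : FusionSystem T'} (h : E'.IsNormalIn F' p) (hT' : T' ≤ S') :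
    (pull I E' hT').IsNormalIn F p := by
  obtain ⟨⟨hEs, hFs, hinv⟩, hext⟩ := h
  obtain ⟨hsub, hsc, hI, hFr⟩ := isInvariantIn_iff.1 hinv
  haveI : Finite S' := I.finite'
  have hTS : im I.e' T' ≤ S := I.symm.im_le hT'
  haveI : Finite (im I.e' T') := finite_of_le hTS
  let J : Iso (pull I E' hT') E' := pullIso hsub
  have hJe : J.e = I.e := rfl
  have hJe' : J.e' = I.e' := rfl
  have hsubE : (pull I E' hT').IsSubsystemOf F := by
    rintro P φ ⟨hP, hv, hm⟩
    have hPS := hP.trans hTS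
    have h1 := I.maps' (maps_sub hsub hm)
    rw [I.im_symm hPS] at h1
    refine (h1.congr (fun x hx => ?_)).mem_hom (fun x => (fn_coe φ x).symm)
    show I.e' (I.e (fn φ (I.e' (I.e x)))) = fn φ x
    rw [I.left x (hPS hx), I.left _]
    rw [fn_of_mem φ hx]
    exact hTS (hv ⟨x, hx⟩)
  have hscT : F.StronglyClosed (im I.e' T') := by
    refine ⟨hTS, fun R hR φ hφ x => ?_⟩
    have hRS := hR.trans hTS
    have h1 := I.maps (Maps.of_mem hφ)
    have hle : im I.e R ≤ T' := im_le_T' I hT' hR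
    have h2 := StrongMem hsc hle h1 (I.mem_im_of_mem x.2)
    rw [val_eq I hRS _ x.2, fn_coe] at h2
    have h3 := I.symm.mem_im_of_mem h2
    have h4 : I.e' (I.e (φ x)) = φ x := I.left _ ((F.le_of_mem hφ).2 x)
    show φ x ∈ _
    rw [← h4]
    exact h3
  refine ⟨⟨J.isSaturated (hS.to_le hTS) hEs, I.isSaturated hS hFs, isInvariantIn_iff.2 ⟨hsubE, hscT, ?_, ?_⟩⟩, ?_⟩
  · -- invariance
    intro P f hf a ha
    have hPT : P ≤ im I.e' T' := hf.le
    have hPS := hPT.trans hTS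
    obtain ⟨a', ha', haa⟩ := aut_fwd I hT' ha
    have hfm : Maps E' (im I.e P) (I.e ∘ f ∘ I.e') := J.maps hf
    obtain ⟨k', hk', hk'1⟩ := hI hfm a' ha'
    have hk : Maps (pull I E' hT') (im I.e' (img (afn a') (im I.e P))) (I.e' ∘ k' ∘ I.e) := J.maps' hk'
    have himg : im I.e' (img (afn a') (im I.e P)) = img (afn a) P := by
      have hle : img (afn a') (im I.e P) ≤ T' := hk'.le
      have hma := (Maps_of_mem_autGroup hTS ha).restrict hPT
      ext w
      rw [I.mem_im' (hle.trans hT'), hma.mem_img]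
      have hma' := (Maps_of_mem_autGroup (F := F') hT' ha').restrict (im_le_T' I hT' hPT)
      constructor
      · rintro ⟨y, hy, rfl⟩
        obtain ⟨z, hz, rfl⟩ := hma'.mem_img.1 hy
        obtain ⟨x, hx, rfl⟩ := (I.mem_im hPS).1 hz
        refine ⟨x, hx, ?_⟩
        rw [haa x (hPT hx), I.left]
        exact hTS (afn_mem a (hPT hx))
      · rintro ⟨x, hx, rfl⟩
        refine ⟨afn a' (I.e x), hma'.mem_img_of_mem (I.mem_im_of_mem hx), ?_⟩
        rw [haa x (hPT hx), I.left]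
        exact hTS (afn_mem a (hPT hx))
    rw [himg] at hk
    refine ⟨_, hk, fun x hx => ?_⟩
    show I.e' (k' (I.e (afn a x))) = _
    have hfx : f x ∈ im I.e' T' := hf.mem hx
    rw [← haa x (hPT hx), hk'1 _ (I.mem_im_of_mem hx), val_eq I hPS _ hx, haa _ hfx, I.left]
    exact hTS (afn_mem a hfx)
  · -- Frattini
    intro P f hP hf
    have hPS := hP.trans hTS
    have hf' := I.maps hf
    obtain ⟨a', ha', f₀', h₀', h1⟩ := hFr (im_le_T' I hT' hP) hf'
    obtain ⟨a, ha, haa⟩ := aut_back I hT' ha'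
    have h₀ : Maps (pull I E' hT') (im I.e' (im I.e P)) (I.e' ∘ f₀' ∘ I.e) := J.maps' h₀'
    have hJim : im I.e' (im I.e P) = P := I.im_symm hPS
    rw [hJim] at h₀
    refine ⟨a, ha, _, h₀, fun x hx => ?_⟩
    show f x = afn a (I.e' (f₀' (I.e x)))
    have hy := I.mem_im_of_mem hx
    rw [haa _ (h₀'.mem hy), ← h1 _ hy, val_eq I hPS _ hx, I.left]
    exact hf.mem hx
  · -- extension
    intro α hα
    have hmα : Maps (pull I E' hT') (im I.e' T') (afn α) := Maps_of_mem_autGroup le_rfl hα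
    have h1 : Maps E' (im I.e (im I.e' T')) (I.e ∘ afn α ∘ I.e') := J.maps hmα
    have hime : im I.e (im I.e' T') = T' := I.im_symm' hT'
    rw [hime] at h1
    have hv1 : ∀ y ∈ T', (I.e ∘ afn α ∘ I.e') y ∈ T' := fun y hy => h1.mem hy
    haveI : Finite T' := finite_of_le hT'
    have himg1 := img_eq_of_card h1 le_rfl le_rfl hv1 le_rfl
    obtain ⟨β', hβ', hβ1, hβ2⟩ := hext (h1.toAut himg1) (h1.toAut_mem himg1)
    have hC' : centralizerIn S' T' ≤ S' := inf_le_left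
    have hW'S : T' ⊔ centralizerIn S' T' ≤ S' := sup_le hT' hC'
    have hW : im I.e' (T' ⊔ centralizerIn S' T') = im I.e' T' ⊔ centralizerIn S (im I.e' T') := by
      have h2 : im I.e' (T' ⊔ centralizerIn S' T') = im I.e' T' ⊔ im I.e' (centralizerIn S' T') := I.symm.im_sup hT' hC'
      rw [h2, im_centralizer I hT']
    have hWS : im I.e' T' ⊔ centralizerIn S (im I.e' T') ≤ S := sup_le hTS inf_le_left
    have hm : Maps F (im I.e' T' ⊔ centralizerIn S (im I.e' T')) (I.e' ∘ afn β' ∘ I.e) := by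
      have h2 : Maps F (im I.e' (T' ⊔ centralizerIn S' T')) (I.e' ∘ afn β' ∘ I.e) :=
        I.maps' (Maps_of_mem_autGroup hW'S hβ')
      rwa [hW] at h2
    have hval : ∀ x ∈ im I.e' T' ⊔ centralizerIn S (im I.e' T'), (I.e' ∘ afn β' ∘ I.e) x ∈
        im I.e' T' ⊔ centralizerIn S (im I.e' T') := by
      intro x hx
      rw [← hW] at hx
      obtain ⟨y, hy, rfl⟩ := (I.mem_im' hW'S).1 hx
      show I.e' (afn β' (I.e (I.e' y))) ∈ _
      rw [I.right y (hW'S hy), ← hW]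
      exact I.symm.mem_im_of_mem (afn_mem β' hy)
    have himg := img_eq_of_card hm hWS hWS hval le_rfl
    have hβe : ∀ {x}, x ∈ im I.e' T' ⊔ centralizerIn S (im I.e' T') →
        afn (hm.toAut himg) x = I.e' (afn β' (I.e x)) := fun hx => hm.afn_toAut himg hx
    refine ⟨hm.toAut himg, hm.toAut_mem himg, fun x => ?_, fun c hc => ?_⟩
    · have hxW : (x : Ω) ∈ im I.e' T' ⊔ centralizerIn S (im I.e' T') := le_sup_left (a := im I.e' T') x.2
      have hxT' : I.e x ∈ T' := by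
        have := I.mem_im_of_mem x.2
        rwa [I.im_symm' hT'] at this
      have hxW' : I.e x ∈ T' ⊔ centralizerIn S' T' := le_sup_left (a := T') hxT'
      have e1 : afn β' (I.e x) = afn (h1.toAut himg1) (I.e x) :=
        (afn_of_mem β' hxW').trans ((hβ1 ⟨I.e x, hxT'⟩).trans (afn_of_mem _ hxT').symm)
      rw [h1.afn_toAut himg1 hxT'] at e1
      refine Eq.trans (afn_of_mem _ hxW).symm ?_
      rw [hβe hxW, e1]
      show I.e' (I.e (afn α (I.e' (I.e x)))) = _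
      rw [I.left _ (hTS x.2), I.left _ (hTS (afn_mem α x.2)), afn_of_mem α x.2]
    · have hcW := c.2
      have hcS := hWS hcW
      have hc2 : (c : Ω) ∈ im I.e' (centralizerIn S' T') := by
        rw [im_centralizer I hT']; exact hc
      have hec : I.e c ∈ centralizerIn S' T' := by
        obtain ⟨y, hy, hyc⟩ := (I.mem_im' hC').1 hc2
        rw [← hyc, I.right y (hC' hy)]
        exact hy
      have hecW : I.e c ∈ T' ⊔ centralizerIn S' T' := le_sup_right (a := T') hec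
      have e0 := hβ2 ⟨I.e c, hecW⟩ hec
      have e1 : ((β' ⟨I.e c, hecW⟩ : (T' ⊔ centralizerIn S' T' : Subgroup Ω')) : Ω') = afn β' (I.e c) :=
        (afn_of_mem β' hecW).symm
      have e0' : (I.e c)⁻¹ * afn β' (I.e c) ∈ T' ⊓ Subgroup.centralizer (T' : Set Ω') := by
        rw [← e1]; exact e0
      obtain ⟨h5, h6⟩ := e0'
      have e2 : ((hm.toAut himg c : (im I.e' T' ⊔ centralizerIn S (im I.e' T') : Subgroup Ω)) : Ω) =
          I.e' (afn β' (I.e c)) := by
        rw [← hβe hcW, afn_of_mem _ hcW]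
      rw [e2]
      have hval2 : afn β' (I.e c) ∈ S' := hW'S (afn_mem β' hecW)
      have e3 : (c : Ω)⁻¹ * I.e' (afn β' (I.e c)) = I.e' ((I.e c)⁻¹ * afn β' (I.e c)) := by
        rw [I.map_mul' (S'.inv_mem (I.mem _ hcS)) hval2]
        congr 1
        have h7 := I.symm.map_inv (I.mem _ hcS)
        have h8 : I.e' (I.e c)⁻¹ = (I.e' (I.e c))⁻¹ := h7
        rw [h8, I.left _ hcS]
      rw [e3]
      refine ⟨I.symm.mem_im_of_mem h5, Subgroup.mem_centralizer_iff.2 fun x hx => ?_⟩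
      obtain ⟨t, ht, rfl⟩ := (I.mem_im' hT').1 hx
      have h9 := Subgroup.mem_centralizer_iff.1 h6 t ht
      have hz : (I.e c)⁻¹ * afn β' (I.e c) ∈ S' := hT' h5
      rw [← I.map_mul' (hT' ht) hz, ← I.map_mul' hz (hT' ht), h9]

/-- Simplicity is transported along isomorphisms. -/
theorem isSimple_of_iso (I : Iso F F') (hS : IsPGroup p S) (h : F.IsSimple p) : F'.IsSimple p := by
  obtain ⟨hFs, hne, hn⟩ := h
  haveI : Finite S' := I.finite'
  refine ⟨I.symm.isSaturated (I.isPGroup' hS) hFs, ?_, fun T' E' hE' => ?_⟩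
  · intro h0
    apply hne
    rw [eq_bot_iff]
    intro x hx
    have h1 : I.e x ∈ (⊥ : Subgroup Ω') := h0 ▸ I.mem x hx
    have h2 := I.left x hx
    rw [Subgroup.mem_bot.1 h1] at h2
    have h3 : I.e' 1 = 1 := I.symm.map_one
    rw [h3] at h2
    rw [← h2]
    exact Subgroup.one_mem _
  · obtain ⟨hT'S, hsub⟩ : T' ≤ S' ∧ E'.IsSubsystemOf F' := by
      obtain ⟨⟨-, -, hinv⟩, -⟩ := id hE'
      exact ⟨hinv.2.1.1, hinv.1⟩
    rcases hn _ _ (pull_isNormalIn I hS hE' hT'S) with h1 | ⟨h1, h2⟩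
    · left
      rw [← I.im_symm' hT'S, h1, eq_bot_iff]
      intro y hy
      obtain ⟨x, hx, rfl⟩ := (I.mem_im bot_le).1 hy
      rw [Subgroup.mem_bot.1 hx, I.map_one]
      exact Subgroup.one_mem _
    · right
      have hT'eq : T' = S' := by
        rw [← I.im_symm' hT'S, h1, I.im_S]
      refine ⟨hT'eq, fun P => Set.Subset.antisymm (hsub P) (fun φ hφ => ?_)⟩
      have hm := Maps.of_mem hφ
      have hPS' := hm.le
      have h3 : Maps F (im I.e' P) (I.e' ∘ fn φ ∘ I.e) := I.maps' hm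
      obtain ⟨χ, hχ, hχf⟩ := h3
      rw [← h2] at hχ
      obtain ⟨-, -, hm'⟩ := hχ
      rw [I.im_symm' hPS'] at hm'
      refine (hm'.congr (fun y hy => ?_)).mem_hom (fun x => (fn_coe φ x).symm)
      have hyP : I.e' y ∈ im I.e' P := I.symm.mem_im_of_mem hy
      show I.e (fn χ (I.e' y)) = fn φ y
      rw [fn_of_mem χ hyP, hχf ⟨_, hyP⟩]
      show I.e (I.e' (fn φ (I.e (I.e' y)))) = _
      rw [I.right y (hPS' hy), I.right _ (hm.mem hy)]

end transport

end Cfsg.Agent.Lib.FusionIsoNormal
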