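import Mathlib
import Cfsg.Prelude.Def_FusionReduction
import Cfsg.Agent.Lib.FusionNormal
import Cfsg.Agent.Lib.FusionHyperfocal
import Cfsg.Agent.Lib.Glauberman
import Cfsg.Agent.Lib.PResid

/-!
# Uniqueness of the `p`-residual, `p'`-residual and residual limit of a saturated fusion system

Systems with the same maps over the same subgroup are equal (`eq_of_sameMaps`). The `p`-residual subsystem
and the `p'`-residual subsystem are unique, hence so is the residual limit (`limit_unique`).
-/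

set_option autoImplicit false

namespace Cfsg.Agent.Lib.FusionResidual

open Cfsg Cfsg.FusionSystem Cfsg.Agent.Lib.FusionAlperin Cfsg.Agent.Lib.FusionNormal Cfsg.Agent.Lib.PResid

universe u

variable {Ω : Type u} [Group Ω] {p : ℕ}

/-- Two systems have the same maps. -/
def SameMaps {A B : Subgroup Ω} (X : FusionSystem A) (Y : FusionSystem B) : Prop :=
  ∀ P : Subgroup Ω, X.Hom P = Y.Hom P

theorem SameMaps.base_eq {A B : Subgroup Ω} {X : FusionSystem A} {Y : FusionSystem B} (h : SameMaps X Y) :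
    A = B := by
  apply le_antisymm
  · have h1 : A.subtype ∈ X.Hom A := subtype_mem X le_rfl
    rw [h A] at h1
    exact hom_le h1
  · have h1 : B.subtype ∈ Y.Hom B := subtype_mem Y le_rfl
    rw [← h B] at h1
    exact hom_le h1

theorem eq_of_sameMaps {A : Subgroup Ω} {X Y : FusionSystem A} (h : SameMaps X Y) : X = Y := by
  cases X
  cases Y
  congr
  funext P
  exact h P

/-- Maps of a restriction: `O^p` is monotone in the group of automorphisms. -/
theorem pResidual_map_le {Q : Type*} [Group Q] {D₁ D₂ : Subgroup (MulAut Q)} (h : D₁ ≤ D₂) :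
    (pResidual p D₁).map D₁.subtype ≤ (pResidual p D₂).map D₂.subtype := by
  rw [Subgroup.map_le_iff_le_comap, pResidual, Subgroup.closure_le]
  intro a ha
  refine ⟨⟨a, h a.2⟩, Subgroup.subset_closure ?_, rfl⟩
  show Nat.Coprime (orderOf (⟨a, h a.2⟩ : D₂)) p
  rw [Subgroup.orderOf_mk]
  have : orderOf (a : MulAut Q) = orderOf a := Subgroup.orderOf_coe a
  rw [this]
  exact ha

variable [Fact p.Prime]

/-- `O^p(Aut_F(R))` is all that matters: a saturated `D₁` with `O^p(Aut_{D₁}(R)) ≤ Aut_{D₂}(R)` is contained in `D₂`. -/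
theorem le_of_pResidual_le {H : Subgroup Ω} [Finite H] (hH : IsPGroup p H) {D₁ D₂ : FusionSystem H}
    (hsat : D₁.IsSaturated p)
    (h : ∀ R : Subgroup Ω, R ≤ H → (pResidual p (D₁.autGroup R)).map (D₁.autGroup R).subtype ≤ D₂.autGroup R) :
    ∀ P : Subgroup Ω, D₁.Hom P ⊆ D₂.Hom P := by
  -- the intersection system
  let E : FusionSystem H := goodSystem D₁ (fun P φ => φ ∈ D₂.Hom P)
    (fun P g hP hg => D₂.conj_mem hP hg)
    (fun P Q φ ψ _ _ hφ hψ hr => D₂.comp_mem hφ hψ hr)
    (by
      intro P φ ψ _ _ hψφ hφ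
      obtain ⟨ψ', hψ', hψ'φ⟩ := D₂.inv_mem hφ
      have : ψ = ψ' := by
        ext ⟨_, x, rfl⟩
        rw [hψφ, hψ'φ]
      rwa [this])
  have key := alperin (E := E) hH hsat (fun P φ hφ => hφ.1) (by
    intro Q hQ hFA hRec _ _ φ hφ hr
    refine ⟨hφ, ?_⟩
    have hfQ : Finite Q := finite_of_le hQ
    have hfA : Finite (MulAut Q) :=
      Finite.of_injective (fun α : MulAut Q => (α : Q → Q)) DFunLike.coe_injective
    obtain ⟨-, A, hA⟩ := hFA
    set α := autOfHom φ (hom_inj hφ) hr with hα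
    have hαmem : α ∈ D₁.autGroup Q := autOfHom_mem hφ hr
    obtain ⟨t, ht, n, hn, hmul⟩ := exists_sylow_mul_pResidual A ⟨α, hαmem⟩
    have h1 : (t : MulAut Q) ∈ D₂.autGroup Q := by
      rw [hA] at ht
      rw [mem_autGroup_iff hQ]
      exact autInduced_mem_of_mem hQ (Subgroup.mem_subgroupOf.mp ht)
    have h2 : (n : MulAut Q) ∈ D₂.autGroup Q := h Q hQ ⟨n, hn, rfl⟩
    have h3 : α ∈ D₂.autGroup Q := by
      have : α = (t : MulAut Q) * (n : MulAut Q) := congrArg Subtype.val hmul
      rw [this]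
      exact Subgroup.mul_mem _ h1 h2
    have h4 := (mem_autGroup_iff hQ).mp h3
    have h5 : φ = Q.subtype.comp α.toMonoidHom := by
      ext x
      rfl
    rwa [h5])
  exact fun P φ hφ => (key P hφ).2

/-- Uniqueness of the `p`-residual subsystem, in the form of a containment. -/
theorem le_of_pPowerIndex {S H : Subgroup Ω} [Finite H] (hH : IsPGroup p H) {F : FusionSystem S}
    {D₁ D₂ : FusionSystem H} (hsat : D₁.IsSaturated p) (h₁ : D₁.IsSubsystemOf F)
    (h₂ : ∀ R : Subgroup Ω, R ≤ H → (pResidual p (F.autGroup R)).map (F.autGroup R).subtype ≤ D₂.autGroup R) :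
    ∀ P : Subgroup Ω, D₁.Hom P ⊆ D₂.Hom P := by
  refine le_of_pResidual_le hH hsat (fun R hR => ?_)
  refine le_trans (pResidual_map_le ?_) (h₂ R hR)
  rw [autGroup, Subgroup.closure_le]
  intro α hα
  exact Subgroup.subset_closure (h₁ R hα)

/-- Uniqueness of the `p`-residual subsystem. -/
theorem pResidual_unique {S H : Subgroup Ω} [Finite H] (hH : IsPGroup p H) {F : FusionSystem S}
    {D₁ D₂ : FusionSystem H} (hsat₁ : D₁.IsSaturated p) (hsat₂ : D₂.IsSaturated p)
    (h₁ : D₁.IsSubsystemOf F) (h₂ : D₂.IsSubsystemOf F)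
    (hO₁ : ∀ R : Subgroup Ω, R ≤ H → (pResidual p (F.autGroup R)).map (F.autGroup R).subtype ≤ D₁.autGroup R)
    (hO₂ : ∀ R : Subgroup Ω, R ≤ H → (pResidual p (F.autGroup R)).map (F.autGroup R).subtype ≤ D₂.autGroup R) :
    D₁ = D₂ := by
  apply eq_of_sameMaps
  intro P
  exact Set.Subset.antisymm (le_of_pPowerIndex hH hsat₁ h₁ hO₂ P) (le_of_pPowerIndex hH hsat₂ h₂ hO₁ P)

omit [Fact p.Prime] in
/-- Uniqueness of the `p'`-residual subsystem. -/
theorem pPrimeResidual_unique {S : Subgroup Ω} {D D₁ D₂ : FusionSystem S} (h₁ : D.IsPPrimeResidual p D₁)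
    (h₂ : D.IsPPrimeResidual p D₂) : D₁ = D₂ := by
  apply eq_of_sameMaps
  intro P
  exact Set.Subset.antisymm (h₁.2.2 D₂ h₂.1 h₂.2.1 P) (h₂.2.2 D₁ h₁.1 h₁.2.1 P)

/-- A system which is its own `p`-residual has as its `p`-residual only itself. -/
theorem eq_of_isPResidual_of_hyperfocal_eq {S : Subgroup Ω} [Finite S] (hS : IsPGroup p S) {F : FusionSystem S}
    (hF : F.IsSaturated p) {B : Subgroup Ω} (hB : B = S) {D : FusionSystem B} (hDsat : D.IsSaturated p)
    (hD : D.HasPPowerIndexIn F p) : SameMaps D F := by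
  subst hB
  have h1 : D = F := by
    apply pResidual_unique hS hDsat hF hD.1 (fun _ _ h => h) hD.2.2
    intro R _ x hx
    obtain ⟨a, -, rfl⟩ := hx
    exact a.2
  rw [h1]
  intro P
  rfl

/-- The limit of a system of which one step is the identity. -/
theorem step_stable {S : Subgroup Ω} [Finite S] (hS : IsPGroup p S) {F : FusionSystem S}
    (hhyp : F.hyperfocalSubgroup p = S) (hst : F.IsPPrimeResidual p F)
    {B : Subgroup Ω} (hB : B = S) {D D' : FusionSystem B} (hDsat : D.IsSaturated p)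
    (hDidx : D.HasPPowerIndexIn F p) (hD' : D.IsPPrimeResidual p D') :
    SameMaps D' F ∧ D'.hyperfocalSubgroup p = B ∧ D'.IsPPrimeResidual p D' := by
  subst hB
  have h1 : D = F := eq_of_sameMaps (eq_of_isPResidual_of_hyperfocal_eq hS hst.1 rfl hDsat hDidx)
  subst h1
  have h2 : D' = D := pPrimeResidual_unique hD' hst
  subst h2
  exact ⟨fun _ => rfl, hhyp, hst⟩

/-- The limit of a stable system is the system itself. -/
theorem limit_of_stable {q : ℕ} {T S : Subgroup Ω} {L : FusionSystem T} {F : FusionSystem S}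
    (h : IsResidualLimitOf L F q) : q.Prime → Finite S → IsPGroup q S → F.hyperfocalSubgroup q = S →
      F.IsPPrimeResidual q F → SameMaps L F := by
  induction h with
  | @stable F p₀ _ _ =>
    intro _ _ _ _ _ _
    rfl
  | @step S _ F p₀ D D' hD hD' _ ih =>
    intro hq hfin hS hhyp hst
    have : Fact p₀.Prime := ⟨hq⟩
    obtain ⟨h1, h2, h3⟩ := step_stable (p := p₀) hS hhyp hst hhyp hD.1 hD.2 hD'
    have hfin' : Finite (F.hyperfocalSubgroup p₀) := by
      rw [hhyp]
      exact hfin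
    have hS' : IsPGroup p₀ (F.hyperfocalSubgroup p₀) := by
      rw [hhyp]
      exact hS
    have h4 := ih hq hfin' hS' h2 h3
    intro P
    rw [h4 P, h1 P]

/-- Uniqueness of the residual limit. -/
theorem limit_unique {q : ℕ} {T S : Subgroup Ω} {L₁ : FusionSystem T} {F : FusionSystem S}
    (h : IsResidualLimitOf L₁ F q) : q.Prime → Finite S → IsPGroup q S →
      ∀ {T' : Subgroup Ω} {L₂ : FusionSystem T'}, IsResidualLimitOf L₂ F q → SameMaps L₁ L₂ := by
  induction h with
  | @stable F p₀ h1 h2 =>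
    intro hq hfin hS T' L₂ h₂
    have := limit_of_stable h₂ hq hfin hS h1 h2
    intro P
    rw [this P]
  | @step S _ F p₀ D D' hD hD' h₁ ih =>
    intro hq hfin hS T' L₂ h₂
    have : Fact p₀.Prime := ⟨hq⟩
    have hle : F.hyperfocalSubgroup p₀ ≤ S := Cfsg.Agent.Lib.FusionHyperfocal.hyperfocal_le F p₀
    have hfin' : Finite (F.hyperfocalSubgroup p₀) := finite_of_le hle
    have hS' : IsPGroup p₀ (F.hyperfocalSubgroup p₀) := hS.to_le hle
    cases h₂ with
    | stable _ _ h1 h2 =>
      have h3 := limit_of_stable (IsResidualLimitOf.step F p₀ D D' hD hD' h₁) hq hfin hS h1 h2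
      exact h3
    | step _ _ D₂ D₂' hD₂ hD₂' h₂ =>
      have h3 : D = D₂ := pResidual_unique hS' hD.1 hD₂.1 hD.2.1 hD₂.2.1 hD.2.2.2 hD₂.2.2.2
      subst h3
      have h4 : D' = D₂' := pPrimeResidual_unique hD' hD₂'
      subst h4
      exact ih hq hfin' hS' h₂

/-- Coprime decomposition: if `α` is a coprime automorphism of a `p`-group `Q`, `N` an invariant normal subgroup, and
`x⁻¹ α x ∈ N`, then `x = c n` with `c` fixed by `α` and `n ∈ N`. -/
theorem exists_fixed_mul {Q : Type*} [Group Q] [Finite Q] (hQ : IsPGroup p Q) (α : MulAut Q)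
    (hα : (orderOf α).Coprime p) (N : Subgroup Q) [hN : N.Normal] (hinv : ∀ x ∈ N, α x ∈ N) (x : Q)
    (hx : x⁻¹ * α x ∈ N) : ∃ c n : Q, n ∈ N ∧ α c = c ∧ x = c * n := by
  classical
  have hfA : Finite (MulAut Q) := Finite.of_injective (fun α : MulAut Q => (α : Q → Q)) DFunLike.coe_injective
  let G := SemidirectProduct Q (MulAut Q) (MonoidHom.id (MulAut Q))
  have hfG : Finite G := Finite.of_equiv _ (SemidirectProduct.equivProd (N := Q) (G := MulAut Q)
    (φ := MonoidHom.id (MulAut Q))).symm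
  let ι : Q →* G := SemidirectProduct.inl
  let a : G := SemidirectProduct.inr α
  have hιinj : Function.Injective ι := SemidirectProduct.inl_injective
  have hconj : ∀ (j : ℕ) (y : Q), a ^ j * ι y * (a ^ j)⁻¹ = ι ((α ^ j) y) := by
    intro j y
    have h1 : a ^ j = SemidirectProduct.inr (α ^ j) := (map_pow _ α j).symm
    rw [h1, ← map_inv]
    exact (SemidirectProduct.inl_aut (φ := MonoidHom.id (MulAut Q)) (α ^ j) y).symm
  have hord : orderOf a = orderOf α := orderOf_injective _ SemidirectProduct.inr_injective α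
  have hpowinv : ∀ (j : ℕ), ∀ y ∈ N, (α ^ j) y ∈ N := by
    intro j
    induction j with
    | zero => intro y hy; simpa using hy
    | succ j ih =>
      intro y hy
      rw [pow_succ']
      exact hinv _ (ih y hy)
  have hinv' : ∀ y ∈ N, α⁻¹ y ∈ N := by
    intro y hy
    have h1 : α⁻¹ = α ^ (orderOf α - 1) := by
      have h2 : α ^ (orderOf α - 1) * α = 1 := by
        rw [← pow_succ, Nat.sub_add_cancel (orderOf_pos α), pow_orderOf_eq_one]
      exact (eq_inv_of_mul_eq_one_left h2).symm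
    rw [h1]
    exact hpowinv _ y hy
  let A : Subgroup G := Subgroup.zpowers a
  let N' : Subgroup G := N.map ι
  have hAN : A ≤ Subgroup.normalizer (N' : Set G) := by
    rw [Subgroup.zpowers_le]
    apply Subgroup.mem_normalizer_iff.mpr
    intro h
    constructor
    · rintro ⟨y, hy, rfl⟩
      refine ⟨α y, hinv y hy, ?_⟩
      have := hconj 1 y
      simpa using this.symm
    · rintro ⟨y, hy, hye⟩
      refine ⟨α⁻¹ y, hinv' y hy, ?_⟩
      have h1 := hconj 1 (α⁻¹ y)
      simp only [pow_one] at h1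
      have h2 : ι (α (α⁻¹ y)) = a * h * a⁻¹ := hye ▸ (by simp)
      rw [h2] at h1
      have h3 : a * ι (α⁻¹ y) * a⁻¹ = a * h * a⁻¹ := h1
      exact mul_left_cancel (mul_right_cancel h3)
  have hcop : (Nat.card A).Coprime (Nat.card N') := by
    have h1 : Nat.card A = orderOf α := by
      rw [Nat.card_zpowers, hord]
    have h2 : Nat.card N' = Nat.card N := Nat.card_congr (Subgroup.equivMapOfInjective N ι hιinj).symm.toEquiv
    rw [h1, h2]
    obtain ⟨k, hk⟩ := IsPGroup.iff_card.mp (hQ.to_subgroup N)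
    rw [hk]
    exact Nat.Coprime.pow_right k hα
  have hs : Group.IsSolvable A ∨ Group.IsSolvable N' := Or.inl inferInstance
  have hNx : ∀ j : ℕ, x * ((α ^ j) x)⁻¹ ∈ N := by
    intro j
    induction j with
    | zero => simp [N.one_mem]
    | succ j ih =>
      set u := x * ((α ^ j) x)⁻¹ with hu
      have h1 : (α ^ j) x = u⁻¹ * x := by rw [hu]; group
      have h2 : (α ^ (j + 1)) x = (α u)⁻¹ * α x := by
        rw [pow_succ', MulAut.mul_apply, h1, map_mul, map_inv]
      rw [h2]
      have h3 : x * (α x)⁻¹ ∈ N := by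
        have h4 := hN.conj_mem _ (N.inv_mem hx) x
        have e : x * (x⁻¹ * α x)⁻¹ * x⁻¹ = x * (α x)⁻¹ := by group
        rwa [e] at h4
      have e : x * ((α u)⁻¹ * α x)⁻¹ = x * (α x)⁻¹ * α u := by group
      rw [e]
      exact N.mul_mem h3 (hinv u ih)
  have hk : ∀ b ∈ A, ι x * b * (ι x)⁻¹ * b⁻¹ ∈ N' := by
    intro b hb
    have hb' : b ∈ Submonoid.powers a := (mem_powers_iff_mem_zpowers).mpr hb
    obtain ⟨j, rfl⟩ := hb'
    refine ⟨x * ((α ^ j) x)⁻¹, hNx j, ?_⟩
    have h1 := hconj j x⁻¹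
    rw [map_inv] at h1
    have e : ι x * a ^ j * (ι x)⁻¹ * (a ^ j)⁻¹ = ι x * (a ^ j * (ι x)⁻¹ * (a ^ j)⁻¹) := by
      simp only [mul_assoc]
    show ι (x * ((α ^ j) x)⁻¹) = ι x * a ^ j * (ι x)⁻¹ * (a ^ j)⁻¹
    rw [e, ← map_inv ι x, hconj j x⁻¹, map_mul, map_inv (α ^ j) x]
  obtain ⟨n', ⟨n, hn, rfl⟩, hc⟩ := Cfsg.Agent.Lib.Glauberman.exists_mem_mul_mem_centralizer hAN hcop hs (ι x) hk
  have hc1 := Subgroup.mem_centralizer_iff.mp hc a (Subgroup.mem_zpowers a)
  have hc2 : ι (α (n * x)) = ι (n * x) := by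
    have h1 := hconj 1 (n * x)
    simp only [pow_one] at h1
    rw [← h1, map_mul, hc1, mul_inv_cancel_right]
  refine ⟨n * x, x⁻¹ * n⁻¹ * x, ?_, hιinj hc2, by group⟩
  have h1 := hN.conj_mem _ (N.inv_mem hn) x⁻¹
  simpa using h1

theorem autGroup_mono {S T : Subgroup Ω} {E : FusionSystem T} {F : FusionSystem S} (h : E.IsSubsystemOf F)
    (R : Subgroup Ω) : E.autGroup R ≤ F.autGroup R := by
  rw [autGroup, Subgroup.closure_le]
  intro α hα
  exact Subgroup.subset_closure (h R hα)

/-- `O^p(Aut_F(R)) ≤ O^p(Aut_E(R))` for `E` of `p`-power index and `R ≤ T`. -/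
theorem pResidual_le_of_pPowerIndex {S T : Subgroup Ω} {E : FusionSystem T} {F : FusionSystem S}
    (hidx : E.HasPPowerIndexIn F p) {R : Subgroup Ω} (hR : R ≤ T) :
    (pResidual p (F.autGroup R)).map (F.autGroup R).subtype ≤
      (pResidual p (E.autGroup R)).map (E.autGroup R).subtype := by
  rw [Subgroup.map_le_iff_le_comap, pResidual, Subgroup.closure_le]
  intro a ha
  have h1 : (a : MulAut R) ∈ E.autGroup R := hidx.2.2 R hR ⟨a, Subgroup.subset_closure ha, rfl⟩
  refine ⟨⟨a, h1⟩, Subgroup.subset_closure ?_, rfl⟩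
  show Nat.Coprime (orderOf (⟨a, h1⟩ : E.autGroup R)) p
  rw [Subgroup.orderOf_mk]
  have : orderOf (a : MulAut R) = orderOf a := Subgroup.orderOf_coe a
  rw [this]
  exact ha

/-- A subsystem of `p`-power index has the same hyperfocal subgroup. -/
theorem hyperfocal_eq_of_pPowerIndex {S T : Subgroup Ω} [Finite S] (hS : IsPGroup p S)
    {E : FusionSystem T} {F : FusionSystem S} (hT : F.StronglyClosed T) (hidx : E.HasPPowerIndexIn F p) :
    E.hyperfocalSubgroup p = F.hyperfocalSubgroup p := by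
  classical
  have hEF := hidx.1
  have hTS : T ≤ S := hT.1
  apply le_antisymm
  · rw [hyperfocalSubgroup, Subgroup.closure_le]
    rintro _ ⟨P, α, x, hP, hα, rfl⟩
    have h1 := pResidual_map_le (p := p) (autGroup_mono hEF P) ⟨α, hα, rfl⟩
    obtain ⟨β, hβ, hβe⟩ := h1
    have h2 : (β : MulAut P) = α := hβe
    refine Subgroup.subset_closure ⟨P, β, x, hP.trans hTS, hβ, ?_⟩
    rw [h2]
  · rw [hyperfocalSubgroup, Subgroup.closure_le]
    rintro _ ⟨P, α, x, hP, hα, rfl⟩
    have hfP : Finite P := finite_of_le hP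
    have hPp : IsPGroup p P := hS.to_le hP
    have key : ∀ α ∈ pResidual p (F.autGroup P), ∀ x : P,
        (x : Ω)⁻¹ * (((α : F.autGroup P) : MulAut P) x : P) ∈ E.hyperfocalSubgroup p := by
      intro α hα
      induction hα using Subgroup.closure_induction with
      | mem α hα =>
        intro x
        set β : MulAut P := (α : MulAut P) with hβ
        have hcop : (orderOf β).Coprime p := by
          rw [hβ, Subgroup.orderOf_coe]
          exact hα
        let N : Subgroup P := T.subgroupOf P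
        have hNn : N.Normal := ⟨fun n hn g => Subgroup.mem_subgroupOf.mpr
          (StronglyClosed.conj_mem hT (hP g.2) (Subgroup.mem_subgroupOf.mp hn))⟩
        have hinvN : ∀ y ∈ N, β y ∈ N := fun y hy => Subgroup.mem_subgroupOf.mpr
          (stronglyClosed_inf_normal hT α.2 hP y (Subgroup.mem_subgroupOf.mp hy))
        have hαres : α ∈ pResidual p (F.autGroup P) := Subgroup.subset_closure hα
        have hxT : ∀ y : P, y⁻¹ * β y ∈ N := by
          intro y
          apply Subgroup.mem_subgroupOf.mpr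
          apply hidx.2.1
          exact Subgroup.subset_closure ⟨P, α, y, hP, hαres, rfl⟩
        obtain ⟨c, n, hn, hc, rfl⟩ := exists_fixed_mul hPp β hcop N hinvN x (hxT x)
        have hnT : (n : Ω) ∈ T := Subgroup.mem_subgroupOf.mp hn
        -- the restriction to `P ⊓ T`
        have hle : P ⊓ T ≤ P := inf_le_left
        have hβH : P.subtype.comp β.toMonoidHom ∈ F.Hom P := (mem_autGroup_iff hP).mp α.2
        let φ : ↥(P ⊓ T) →* Ω := (P.subtype.comp β.toMonoidHom).comp (Subgroup.inclusion hle)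
        have hφ : φ ∈ F.Hom (P ⊓ T) := restrict_mem hβH hle
        have hP₁S : P ⊓ T ≤ S := hle.trans hP
        have hfP₁ : Finite ↥(P ⊓ T) := finite_of_le hP₁S
        have hr : φ.range = P ⊓ T := by
          refine eq_of_le_of_card_eq ?_ (card_range_of_mem hφ).symm.le
          rintro _ ⟨z, rfl⟩
          refine ⟨(β (Subgroup.inclusion hle z)).2, ?_⟩
          exact stronglyClosed_inf_normal hT α.2 hP (Subgroup.inclusion hle z) z.2.2
        let β₁ : MulAut ↥(P ⊓ T) := autOfHom φ (hom_inj hφ) hr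
        have hβ₁F : β₁ ∈ F.autGroup (P ⊓ T) := autOfHom_mem hφ hr
        have hβ₁v : ∀ z : ↥(P ⊓ T), ((β₁ z : ↥(P ⊓ T)) : Ω) = ((β (Subgroup.inclusion hle z) : P) : Ω) := fun z => rfl
        have hpow : ∀ k : ℕ, ∀ z : ↥(P ⊓ T), (((β₁ ^ k) z : ↥(P ⊓ T)) : Ω) = (((β ^ k) (Subgroup.inclusion hle z) : P) : Ω) := by
          intro k
          induction k with
          | zero => intro z; rfl
          | succ k ih =>
            intro z
            rw [pow_succ, pow_succ]
            show (((β₁ ^ k) (β₁ z) : ↥(P ⊓ T)) : Ω) = (((β ^ k) (β (Subgroup.inclusion hle z)) : P) : Ω)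
            rw [ih]
            congr 2
        have hβ₁m : β₁ ^ orderOf β = 1 := by
          ext z
          rw [hpow, pow_orderOf_eq_one]
          rfl
        have hcop₁ : (orderOf β₁).Coprime p :=
          Nat.Coprime.coprime_dvd_left (orderOf_dvd_of_pow_eq_one hβ₁m) hcop
        have hres₁ : (⟨β₁, hβ₁F⟩ : F.autGroup (P ⊓ T)) ∈ pResidual p (F.autGroup (P ⊓ T)) := by
          apply mem_pResidual_of_coprime
          rw [Subgroup.orderOf_mk]
          exact hcop₁
        have h1 := pResidual_le_of_pPowerIndex hidx (inf_le_right : P ⊓ T ≤ T) ⟨_, hres₁, rfl⟩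
        obtain ⟨δ, hδ, hδe⟩ := h1
        have hδv : (δ : MulAut ↥(P ⊓ T)) = β₁ := hδe
        have h2 : ((⟨(n : Ω), n.2, hnT⟩ : ↥(P ⊓ T)) : Ω)⁻¹ *
            (((δ : MulAut ↥(P ⊓ T)) ⟨(n : Ω), n.2, hnT⟩ : ↥(P ⊓ T)) : Ω) ∈ E.hyperfocalSubgroup p :=
          Subgroup.subset_closure ⟨P ⊓ T, δ, ⟨(n : Ω), n.2, hnT⟩, inf_le_right, hδ, rfl⟩
        rw [hδv, hβ₁v] at h2
        have e1 : ((c * n : P) : Ω)⁻¹ * ((β (c * n) : P) : Ω) = (n : Ω)⁻¹ * ((β n : P) : Ω) := by
          rw [map_mul, hc]
          simp only [Subgroup.coe_mul, mul_inv_rev]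
          group
        rw [e1]
        exact h2
      | one =>
        intro x
        simp [Subgroup.one_mem]
      | mul a b _ _ ha hb =>
        intro x
        have h1 := hb x
        have h2 := ha ((b : MulAut P) x)
        have e : (x : Ω)⁻¹ * ((((a * b : F.autGroup P) : MulAut P) x : P) : Ω) =
            ((x : Ω)⁻¹ * (((b : MulAut P) x : P) : Ω)) *
              ((((b : MulAut P) x : P) : Ω)⁻¹ * (((a : MulAut P) ((b : MulAut P) x) : P) : Ω)) := by
          show (x : Ω)⁻¹ * (((a : MulAut P) ((b : MulAut P) x) : P) : Ω) = _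
          group
        rw [e]
        exact Subgroup.mul_mem _ h1 h2
      | inv a _ ha =>
        intro x
        set y := ((a⁻¹ : F.autGroup P) : MulAut P) x with hy
        have h1 := ha y
        have h2 : (((a : MulAut P) y : P) : Ω) = x := by
          rw [hy]
          show (((a : MulAut P) ((a : MulAut P)⁻¹ x) : P) : Ω) = x
          simp
        rw [h2] at h1
        have h3 := Subgroup.inv_mem _ h1
        simpa using h3
    exact key α hα x

end Cfsg.Agent.Lib.FusionResidual
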