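/-
FusionCompIso: isomorphisms of fusion systems transport centres, hyperfocal subgroups, factor systems, quasisimplicity and
subnormality.  Components are carried to components by isomorphisms.
-/
import Mathlib
import Cfsg.Prelude.Def_FusionComponents
import Cfsg.Agent.Lib.FusionIso
import Cfsg.Agent.Lib.FusionIsoNormal
import Cfsg.Agent.Lib.FusionTrfApps
import Cfsg.Agent.Lib.FusionFactor
import Cfsg.Agent.Lib.PResid
import Cfsg.Agent.Lib.FusionResidual

set_option autoImplicit false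

namespace Cfsg.Agent.Lib.FusionCompIso

open Cfsg Cfsg.FusionSystem Cfsg.Agent.Lib.FusionCore Cfsg.Agent.Lib.FusionIso Cfsg.Agent.Lib.FusionInvariant
open Cfsg.Agent.Lib.FusionIsoNormal

universe u v w

section trans

variable {Ω : Type u} [Group Ω] {S : Subgroup Ω} {Ω' : Type v} [Group Ω'] {S' : Subgroup Ω'}
  {Ω'' : Type w} [Group Ω''] {S'' : Subgroup Ω''}
  {F : FusionSystem S} {F' : FusionSystem S'} {F'' : FusionSystem S''}

lemma im_comp (I : Iso F F') (J : Iso F' F'') {P : Subgroup Ω} (hP : P ≤ S) :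
    im J.e (im I.e P) = im (J.e ∘ I.e) P := by
  apply le_antisymm
  · intro y hy
    obtain ⟨z, hz, rfl⟩ := (J.mem_im (I.im_le hP)).1 hy
    obtain ⟨x, hx, rfl⟩ := (I.mem_im hP).1 hz
    exact Subgroup.subset_closure ⟨x, hx, rfl⟩
  · rw [im, Subgroup.closure_le]
    rintro _ ⟨x, hx, rfl⟩
    exact J.mem_im_of_mem (I.mem_im_of_mem hx)

/-- Composition of isomorphisms. -/
def isoTrans (I : Iso F F') (J : Iso F' F'') : Iso F F'' where
  e := J.e ∘ I.e
  e' := I.e' ∘ J.e'
  mem := fun x hx => J.mem _ (I.mem x hx)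
  mem' := fun y hy => I.mem' _ (J.mem' y hy)
  map_mul := fun x hx y hy => by
    simp only [Function.comp]
    rw [I.map_mul x hx y hy, J.map_mul _ (I.mem x hx) _ (I.mem y hy)]
  left := fun x hx => by
    simp only [Function.comp]
    rw [J.left _ (I.mem x hx), I.left x hx]
  right := fun y hy => by
    simp only [Function.comp]
    rw [I.right _ (J.mem' y hy), J.right y hy]
  maps := by
    intro P f hf
    have h := J.maps (I.maps hf)
    rw [im_comp I J hf.le] at h
    exact h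
  maps' := by
    intro P f hf
    have h := I.maps' (J.maps' hf)
    rw [show im I.e' (im J.e' P) = im (I.e' ∘ J.e') P from im_comp J.symm I.symm hf.le] at h
    exact h

end trans

section center

variable {Ω : Type u} [Group Ω] {S : Subgroup Ω} {Ω' : Type v} [Group Ω'] {S' : Subgroup Ω'}
  {F : FusionSystem S} {F' : FusionSystem S'}

/-- Central subgroups are transported. -/
theorem isCentral_of (I : Iso F F') {Q : Subgroup Ω} (hQ : Q ≤ S) (h : F'.IsCentral (im I.e Q)) :
    F.IsCentral Q := by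
  rw [isCentral_iff] at h ⊢
  refine ⟨hQ, fun P f hf => ?_⟩
  obtain ⟨g', hg', h1, h2⟩ := h.2 _ _ (I.maps hf)
  have hPS := hf.le
  have hg := I.maps' hg'
  have hsup : im I.e' (im I.e P ⊔ im I.e Q) = im I.e' (im I.e P) ⊔ im I.e' (im I.e Q) :=
    I.symm.im_sup (I.im_le hPS) (I.im_le hQ)
  rw [hsup, I.im_symm hPS, I.im_symm hQ] at hg
  refine ⟨_, hg, fun x hx => ?_, fun x hx => ?_⟩
  · show I.e' (g' (I.e x)) = f x
    rw [h1 _ (I.mem_im_of_mem hx)]
    show I.e' (I.e (f (I.e' (I.e x)))) = f x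
    rw [I.left x (hPS hx), I.left _ (hf.mem hx)]
  · show I.e' (g' (I.e x)) = x
    rw [h2 _ (I.mem_im_of_mem hx), I.left x (hQ hx)]

/-- The centre is transported. -/
theorem im_center [Finite S] (I : Iso F F') : im I.e F.center = F'.center := by
  haveI : Finite S' := I.finite'
  have hZ : F.center ≤ S := Cfsg.Agent.Lib.FusionTrfApps.center_le
  have hZ' : F'.center ≤ S' := Cfsg.Agent.Lib.FusionTrfApps.center_le
  apply le_antisymm
  · apply le_sSup
    refine isCentral_of I.symm (I.im_le hZ) ?_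
    show F.IsCentral (im I.e' (im I.e F.center))
    rw [I.im_symm hZ]
    exact Cfsg.Agent.Lib.FusionTrfApps.isCentral_center
  · have h1 : im I.e' F'.center ≤ F.center := by
      apply le_sSup
      refine isCentral_of I (I.symm.im_le hZ') ?_
      rw [I.im_symm' hZ']
      exact Cfsg.Agent.Lib.FusionTrfApps.isCentral_center
    intro y hy
    have h2 : I.e' y ∈ F.center := h1 (I.symm.mem_im_of_mem hy)
    have h3 := I.mem_im_of_mem h2
    rwa [I.right y (hZ' hy)] at h3

end center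

section hyper

variable {Ω : Type u} [Group Ω] {S : Subgroup Ω} {Ω' : Type v} [Group Ω'] {S' : Subgroup Ω'}
  {F : FusionSystem S} {F' : FusionSystem S'} {p : ℕ} [Fact p.Prime] [Finite S]

/-- Hyperfocal subgroups are transported. -/
theorem mem_hyperfocal (I : Iso F F') {z : Ω} (hz : z ∈ F.hyperfocalSubgroup p) :
    z ∈ S ∧ I.e z ∈ F'.hyperfocalSubgroup p := by
  induction hz using Subgroup.closure_induction with
  | mem y hy =>
    obtain ⟨P, α, x, hP, hα, rfl⟩ := hy
    have hxS := hP x.2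
    have hαS := hP ((α : MulAut P) x : P).2
    haveI := finite_mulAut hP
    refine ⟨S.mul_mem (S.inv_mem hxS) hαS, ?_⟩
    rw [I.map_mul _ (S.inv_mem hxS) _ hαS, I.map_inv hxS]
    let ψ : F.autGroup P →* F'.autGroup (im I.e P) :=
      { toFun := fun a => ⟨MulAut.congr (I.equiv hP) a, I.congr_mem_autGroup hP a.2⟩
        map_one' := Subtype.ext (_root_.map_one _)
        map_mul' := fun a b => Subtype.ext (_root_.map_mul _ _ _) }
    have h1 : ψ α ∈ pResidual p (F'.autGroup (im I.e P)) :=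
      Cfsg.Agent.Lib.PResid.map_pResidual_le_of_hom ψ p ⟨α, hα, rfl⟩
    refine Subgroup.subset_closure ⟨im I.e P, ψ α, I.equiv hP x, I.im_le hP, h1, ?_⟩
    have h2 : (((ψ α : F'.autGroup (im I.e P)) : MulAut (im I.e P)) (I.equiv hP x)) =
        I.equiv hP ((α : MulAut P) x) := by
      show (MulAut.congr (I.equiv hP) (α : MulAut P)) (I.equiv hP x) = _
      simp
    rw [h2]
    rfl
  | one => exact ⟨S.one_mem, by rw [I.map_one]; exact Subgroup.one_mem _⟩
  | mul a b _ _ ha hb =>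
    refine ⟨S.mul_mem ha.1 hb.1, ?_⟩
    rw [I.map_mul _ ha.1 _ hb.1]
    exact Subgroup.mul_mem _ ha.2 hb.2
  | inv a _ ha =>
    refine ⟨S.inv_mem ha.1, ?_⟩
    rw [I.map_inv ha.1]
    exact Subgroup.inv_mem _ ha.2

theorem hyperfocal_eq (I : Iso F F') (h : F.hyperfocalSubgroup p = S) : F'.hyperfocalSubgroup p = S' := by
  apply le_antisymm
  · haveI : Finite S' := I.finite'
    exact fun z hz => (mem_hyperfocal I.symm hz).1
  · intro y hy
    have h1 : I.e' y ∈ F.hyperfocalSubgroup p := by rw [h]; exact I.mem' y hy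
    have h2 := (mem_hyperfocal I h1).2
    rwa [I.right y hy] at h2

end hyper

section factor

variable {Ω : Type u} [Group Ω] {S : Subgroup Ω} {Ω' : Type v} [Group Ω'] {S' : Subgroup Ω'}
  {F : FusionSystem S} {F' : FusionSystem S'}
  {Ω₁ : Type*} [Group Ω₁] {S₁ : Subgroup Ω₁} {Ω₂ : Type*} [Group Ω₂] {S₂ : Subgroup Ω₂}
  {E : FusionSystem S₁} {E' : FusionSystem S₂} {S₀ : Subgroup Ω} {S₀' : Subgroup Ω'}
  {θ : S →* Ω₁} {θ' : S' →* Ω₂}

open Classical in
/-- Descent of a function along a homomorphism. -/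
noncomputable def desc {X : Type*} [Group X] (θ : S →* Ω₁) (τ : S → X) : Ω₁ → X :=
  fun w => if h : w ∈ θ.range then τ h.choose else 1

lemma desc_apply {X : Type*} [Group X] (τ : S → X) (hτ : ∀ x y : S, θ x = θ y → τ x = τ y) (x : S) :
    desc θ τ (θ x) = τ x := by
  have h : θ x ∈ θ.range := ⟨x, rfl⟩
  rw [desc, dif_pos h]
  exact hτ _ _ h.choose_spec

/-- The step of the isomorphism on factor systems, for maps. -/
theorem factor_maps (I : Iso F F') (hE : F.IsFactorSystem S₀ θ E) (hE' : F'.IsFactorSystem S₀' θ' E')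
    {eb : Ω₁ → Ω₂} {eb' : Ω₂ → Ω₁}
    (h1 : ∀ x : S, eb (θ x) = θ' ⟨I.e x, I.mem x x.2⟩)
    (h2 : ∀ y : S', eb' (θ' y) = θ ⟨I.e' y, I.mem' y y.2⟩)
    {P : Subgroup Ω₁} {f : Ω₁ → Ω₁} (hf : Maps E P f) : Maps E' (im eb P) (eb ∘ f ∘ eb') := by
  obtain ⟨-, -, hr, hiff⟩ := hE
  obtain ⟨-, -, hr', hiff'⟩ := hE'
  have hP : P ≤ S₁ := hf.le
  have hsurj : ∀ w ∈ S₁, ∃ s : S, θ s = w := fun w hw => by
    rw [← hr] at hw
    exact hw
  have hsurj' : ∀ w ∈ S₂, ∃ s : S', θ' s = w := fun w hw => by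
    rw [← hr'] at hw
    exact hw
  have hmul : ∀ x ∈ S₁, ∀ y ∈ S₁, eb (x * y) = eb x * eb y := by
    intro x hx y hy
    obtain ⟨s, rfl⟩ := hsurj x hx
    obtain ⟨t, rfl⟩ := hsurj y hy
    rw [← _root_.map_mul, h1, h1, h1, ← _root_.map_mul]
    congr 1
    exact Subtype.ext (I.map_mul _ s.2 _ t.2)
  have hleft : ∀ x ∈ S₁, eb' (eb x) = x := by
    intro x hx
    obtain ⟨s, rfl⟩ := hsurj x hx
    rw [h1, h2]
    congr 1
    exact Subtype.ext (I.left _ s.2)
  have hmem : ∀ x ∈ S₁, eb x ∈ S₂ := by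
    intro x hx
    obtain ⟨s, rfl⟩ := hsurj x hx
    rw [h1, ← hr']
    exact ⟨_, rfl⟩
  have hone : eb 1 = 1 := by
    have := hmul 1 S₁.one_mem 1 S₁.one_mem
    rw [mul_one] at this
    exact (mul_eq_left.1 this.symm)
  have hinv : ∀ x ∈ S₁, eb x⁻¹ = (eb x)⁻¹ := by
    intro x hx
    have := hmul x hx x⁻¹ (S₁.inv_mem hx)
    rw [mul_inv_cancel, hone] at this
    exact (inv_eq_of_mul_eq_one_right this.symm).symm
  have hmemim : ∀ y, y ∈ im eb P ↔ ∃ x ∈ P, eb x = y := by
    intro y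
    constructor
    · intro hy
      induction hy using Subgroup.closure_induction with
      | mem y hy => exact hy
      | one => exact ⟨1, P.one_mem, hone⟩
      | mul a b _ _ ha hb =>
        obtain ⟨x, hx, rfl⟩ := ha
        obtain ⟨z, hz, rfl⟩ := hb
        exact ⟨x * z, P.mul_mem hx hz, hmul _ (hP hx) _ (hP hz)⟩
      | inv a _ ha =>
        obtain ⟨x, hx, rfl⟩ := ha
        exact ⟨x⁻¹, P.inv_mem hx, hinv _ (hP hx)⟩
    · rintro ⟨x, hx, rfl⟩
      exact Subgroup.subset_closure ⟨x, hx, rfl⟩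
  obtain ⟨φb, hφb, hfb⟩ := id hf
  obtain ⟨-, φ, hφ, hind⟩ := (hiff P φb).1 hφb
  obtain ⟨hP1, hφv, hP2, hP3⟩ := hind
  have hm : Maps F (preimageAlong θ P) (fn φ) := Maps.of_mem hφ
  have hm' := I.maps hm
  have hQle : im eb P ≤ S₂ := by
    intro y hy
    obtain ⟨x, hx, rfl⟩ := (hmemim y).1 hy
    exact hmem x (hP hx)
  have hpre : im I.e (preimageAlong θ P) = preimageAlong θ' (im eb P) := by
    ext y
    rw [I.mem_im hP1, Cfsg.Agent.Lib.FusionFactor.mem_preimageAlong]
    constructor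
    · rintro ⟨x, hx, rfl⟩
      refine ⟨I.mem x (hP1 hx), ?_⟩
      obtain ⟨hxS, hxP⟩ := (Cfsg.Agent.Lib.FusionFactor.mem_preimageAlong θ P x).1 hx
      rw [← h1 ⟨x, hxS⟩]
      exact Subgroup.subset_closure ⟨_, hxP, rfl⟩
    · rintro ⟨hy, hy2⟩
      obtain ⟨w, hw, hw2⟩ := (hmemim _).1 hy2
      refine ⟨I.e' y, ?_, I.right y hy⟩
      refine (Cfsg.Agent.Lib.FusionFactor.mem_preimageAlong θ P _).2 ⟨I.mem' y hy, ?_⟩
      have h3 := h2 ⟨y, hy⟩
      rw [← hw2, hleft w (hP hw)] at h3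
      rw [← h3]
      exact hw
  rw [hpre] at hm'
  -- the induced homomorphism
  have hvals : ∀ y ∈ im eb P, eb' y ∈ P ∧ eb (eb' y) = y := by
    intro y hy
    obtain ⟨w, hw, rfl⟩ := (hmemim y).1 hy
    rw [hleft w (hP hw)]
    exact ⟨hw, rfl⟩
  have hfP : ∀ x ∈ P, f x ∈ S₁ := fun x hx => hf.mem hx
  let φ' : im eb P →* Ω₂ := MonoidHom.mk' (fun y => eb (f (eb' y))) (by
    intro a b
    obtain ⟨a0, ha0, ha1⟩ := (hmemim _).1 a.2
    obtain ⟨b0, hb0, hb1⟩ := (hmemim _).1 b.2
    have e1 : eb' (a : Ω₂) = a0 := by rw [← ha1, hleft a0 (hP ha0)]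
    have e2 : eb' (b : Ω₂) = b0 := by rw [← hb1, hleft b0 (hP hb0)]
    have e3 : eb' ((a * b : im eb P) : Ω₂) = a0 * b0 := by
      show eb' ((a : Ω₂) * (b : Ω₂)) = _
      rw [← ha1, ← hb1, ← hmul _ (hP ha0) _ (hP hb0), hleft _ (S₁.mul_mem (hP ha0) (hP hb0))]
    rw [e1, e2, e3, hf.map_mul ha0 hb0, hmul _ (hfP _ ha0) _ (hfP _ hb0)])
  refine ⟨φ', (hiff' _ φ').2 ⟨hQle, hm'.hom, hm'.hom_mem, ?_⟩, fun x => rfl⟩
  refine ⟨Cfsg.Agent.Lib.FusionFactor.preimageAlong_le θ' _, fun x => ?_, fun x => ?_, fun x => ?_⟩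
  · exact (F'.le_of_mem hm'.hom_mem).2 x
  · exact ((Cfsg.Agent.Lib.FusionFactor.mem_preimageAlong θ' _ _).1 x.2).2
  · show eb (f (eb' (θ' _))) = θ' ⟨hm'.hom x, _⟩
    have hx2 : (x : Ω') ∈ S' := Cfsg.Agent.Lib.FusionFactor.preimageAlong_le θ' _ x.2
    rw [h2 ⟨x, hx2⟩]
    -- the preimage point
    have hx3 : I.e' x ∈ preimageAlong θ P := by
      have h4 : (x : Ω') ∈ im I.e (preimageAlong θ P) := by rw [hpre]; exact x.2
      obtain ⟨z, hz, hz2⟩ := (I.mem_im hP1).1 h4
      rw [← hz2, I.left z (hP1 hz)]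
      exact hz
    have h5 := hP3 ⟨_, hx3⟩
    have h6 : f (θ ⟨I.e' x, I.mem' x hx2⟩) = θ ⟨φ ⟨_, hx3⟩, hφv ⟨_, hx3⟩⟩ :=
      (hfb ⟨_, hP2 ⟨_, hx3⟩⟩).symm.trans h5
    rw [h6, h1]
    congr 1
    apply Subtype.ext
    show I.e (φ ⟨_, hx3⟩) = hm'.hom x
    rw [hm'.hom_apply]
    show _ = I.e (fn φ (I.e' x))
    rw [fn_of_mem φ hx3]

/-- Well-definedness of the induced function on the factor. -/
lemma tau_well (I : Iso F F') (hE : F.IsFactorSystem S₀ θ E) (hE' : F'.IsFactorSystem S₀' θ' E')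
    (hZ : ∀ z ∈ S₀, I.e z ∈ S₀') (x y : S) (h : θ x = θ y) :
    θ' ⟨I.e x, I.mem x x.2⟩ = θ' ⟨I.e y, I.mem y y.2⟩ := by
  have h1 : θ (x⁻¹ * y) = 1 := by
    rw [_root_.map_mul, _root_.map_inv, h, inv_mul_cancel]
  have h2 : ((x⁻¹ * y : S) : Ω) ∈ S₀ := (hE.2.1 _).1 h1
  have h3 : I.e ((x⁻¹ * y : S) : Ω) ∈ S₀' := hZ _ h2
  have h4 : I.e ((x⁻¹ * y : S) : Ω) = (I.e x)⁻¹ * I.e y := by
    show I.e ((x : Ω)⁻¹ * y) = _
    rw [I.map_mul _ (S.inv_mem x.2) _ y.2, I.map_inv x.2]
  have h5 : (I.e x)⁻¹ * I.e y ∈ S₀' := h4 ▸ h3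
  have h6 := (hE'.2.1 (⟨I.e x, I.mem x x.2⟩⁻¹ * ⟨I.e y, I.mem y y.2⟩)).2 h5
  rw [_root_.map_mul, _root_.map_inv] at h6
  exact (inv_mul_eq_one.1 h6)

/-- An isomorphism of systems carrying the kernels to each other induces an isomorphism of the factor systems. -/
noncomputable def isoFactor (I : Iso F F') (hE : F.IsFactorSystem S₀ θ E) (hE' : F'.IsFactorSystem S₀' θ' E')
    (hZ : ∀ z ∈ S₀, I.e z ∈ S₀') (hZ' : ∀ z ∈ S₀', I.e' z ∈ S₀) : Iso E E' :=
  have h1 : ∀ x : S, desc θ (fun x : S => θ' ⟨I.e x, I.mem x x.2⟩) (θ x) = θ' ⟨I.e x, I.mem x x.2⟩ :=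
    desc_apply _ (tau_well I hE hE' hZ)
  have h2 : ∀ y : S', desc θ' (fun y : S' => θ ⟨I.e' y, I.mem' y y.2⟩) (θ' y) = θ ⟨I.e' y, I.mem' y y.2⟩ :=
    desc_apply _ (tau_well I.symm hE' hE hZ')
  have hs : ∀ w ∈ S₁, ∃ s : S, θ s = w := fun w hw => by
    rw [← hE.2.2.1] at hw
    exact hw
  have hs' : ∀ w ∈ S₂, ∃ s : S', θ' s = w := fun w hw => by
    rw [← hE'.2.2.1] at hw
    exact hw
  { e := desc θ (fun x : S => θ' ⟨I.e x, I.mem x x.2⟩)
    e' := desc θ' (fun y : S' => θ ⟨I.e' y, I.mem' y y.2⟩)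
    mem := fun x hx => by
      obtain ⟨s, rfl⟩ := hs x hx
      rw [h1, ← hE'.2.2.1]
      exact ⟨_, rfl⟩
    mem' := fun y hy => by
      obtain ⟨s, rfl⟩ := hs' y hy
      rw [h2, ← hE.2.2.1]
      exact ⟨_, rfl⟩
    map_mul := fun x hx y hy => by
      obtain ⟨s, rfl⟩ := hs x hx
      obtain ⟨t, rfl⟩ := hs y hy
      rw [← _root_.map_mul, h1, h1, h1, ← _root_.map_mul]
      congr 1
      exact Subtype.ext (I.map_mul _ s.2 _ t.2)
    left := fun x hx => by
      obtain ⟨s, rfl⟩ := hs x hx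
      rw [h1, h2]
      congr 1
      exact Subtype.ext (I.left _ s.2)
    right := fun y hy => by
      obtain ⟨s, rfl⟩ := hs' y hy
      rw [h2, h1]
      congr 1
      exact Subtype.ext (I.right _ s.2)
    maps := fun hf => factor_maps I hE hE' h1 h2 hf
    maps' := fun hf => factor_maps I.symm hE' hE h2 h1 hf }

end factor

section quasi

variable {Ω : Type u} [Group Ω] {S : Subgroup Ω} {Ω' : Type v} [Group Ω'] {S' : Subgroup Ω'}
  {F : FusionSystem S} {F' : FusionSystem S'} {p : ℕ} [Fact p.Prime]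

/-- A central subgroup is strongly closed. -/
lemma stronglyClosed_center [Finite S] : F.StronglyClosed F.center := by
  refine ⟨Cfsg.Agent.Lib.FusionTrfApps.center_le, fun R hR φ hφ x => ?_⟩
  have := Cfsg.Agent.Lib.FusionTrfApps.center_fixed (hR x.2) (Maps.of_mem hφ) x.2
  rw [fn_coe] at this
  rw [this]
  exact hR x.2

/-- Quasisimplicity is transported. -/
theorem quasisimple_of_iso [Finite S] (hS : IsPGroup p S) (I : Iso F F') (h : F.Quasisimple p) : F'.Quasisimple p := by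
  obtain ⟨hsat, hhyp, hsimple⟩ := h
  haveI : Finite S' := I.finite'
  have hS' : IsPGroup p S' := I.isPGroup' hS
  refine ⟨I.symm.isSaturated hS' hsat, hyperfocal_eq I hhyp, fun E₃ hE₃ => ?_⟩
  have hZ : F.center ≤ S := Cfsg.Agent.Lib.FusionTrfApps.center_le
  have hk : ∀ s : S, QuotientGroup.mk' ((F.center).subgroupOf S) s = 1 ↔ (s : Ω) ∈ F.center := by
    intro s
    rw [QuotientGroup.mk'_apply, QuotientGroup.eq_one_iff, Subgroup.mem_subgroupOf]
  have hr : (QuotientGroup.mk' ((F.center).subgroupOf S)).range = ⊤ :=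
    MonoidHom.range_eq_top.2 (QuotientGroup.mk'_surjective _)
  obtain ⟨C₃, hC₃⟩ := Cfsg.Agent.Lib.FusionFactor.exists_factorSystem F stronglyClosed_center hk hr
  have hs := hsimple C₃ hC₃
  have hce := im_center I
  have hz1 : ∀ z ∈ F.center, I.e z ∈ F'.center := fun z hz => by
    rw [← hce]
    exact I.mem_im_of_mem hz
  have hz2 : ∀ z ∈ F'.center, I.e' z ∈ F.center := fun z hz => by
    have hce' := I.im_symm hZ
    rw [← hce'] at *
    rw [hce] at *
    exact I.symm.mem_im_of_mem hz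
  let J : Iso C₃ E₃ := isoFactor I hC₃ hE₃ hz1 hz2
  have hq : IsPGroup p (⊤ : Subgroup (S ⧸ (F.center).subgroupOf S)) := by
    have : IsPGroup p (S ⧸ (F.center).subgroupOf S) :=
      IsPGroup.of_surjective hS (QuotientGroup.mk' _) (QuotientGroup.mk'_surjective _)
    exact this.of_equiv Subgroup.topEquiv.symm
  exact isSimple_of_iso J hq hs

end quasi

section subnormal

variable {Ω : Type u} [Group Ω] {p : ℕ}

lemma subnormal_le {T S : Subgroup Ω} {E : FusionSystem T} {F : FusionSystem S} (h : E.IsSubnormalIn F p) : T ≤ S := by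
  induction h with
  | refl F p => exact le_rfl
  | step _ hD ih => exact ih.trans hD.1.2.2.2.1.1

lemma subnormal_sub {T S : Subgroup Ω} {E : FusionSystem T} {F : FusionSystem S} (h : E.IsSubnormalIn F p) :
    E.IsSubsystemOf F := by
  induction h with
  | refl F _ => exact fun P φ hφ => hφ
  | step _ hD ih => exact fun P φ hφ => hD.1.2.2.1 P (ih P hφ)

variable {Ω' : Type v} [Group Ω']

/-- Two systems isomorphic to the same system by compatible isomorphisms coincide. -/
lemma eq_of_iso {S S₁ : Subgroup Ω} {S' : Subgroup Ω'} {F : FusionSystem S} {E : FusionSystem S₁}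
    {F' : FusionSystem S'} (I : Iso F F') (I₁ : Iso E F') (he : ∀ y ∈ S', I.e' y = I₁.e' y)
    (he2 : ∀ x ∈ S₁, I₁.e x = I.e x) :
    S₁ = S ∧ ∀ P : Subgroup Ω, E.Hom P = F.Hom P := by
  have hb : S₁ = S := by
    have h1 := I₁.symm.im_S
    have h2 := I.symm.im_S
    have : im I₁.e' S' = im I.e' S' := by
      rw [im, im]
      congr 1
      apply Set.image_congr
      intro y hy
      exact (he y hy).symm
    show S₁ = S
    rw [← h1, ← h2]
    exact this
  subst hb
  refine ⟨rfl, fun P => Set.Subset.antisymm (fun φ hφ => ?_) (fun φ hφ => ?_)⟩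
  · have hm := I₁.maps (Maps.of_mem hφ)
    have hPS := hm.le
    have hP1 : P ≤ S₁ := (E.le_of_mem hφ).1
    have h2 := I.maps' hm
    have e1 : im I.e' (im I₁.e P) = P := by
      refine Eq.trans ?_ (I₁.im_symm hP1)
      show Subgroup.closure _ = Subgroup.closure _
      congr 1
      apply Set.image_congr
      intro y hy
      exact he y (I₁.im_le hP1 hy)
    rw [e1] at h2
    refine (h2.congr (fun x hx => ?_)).mem_hom (fun x => (fn_coe φ x).symm)
    have hxS := hP1 hx
    show I.e' (I₁.e (fn φ (I₁.e' (I.e x)))) = fn φ x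
    rw [← he2 x hxS, I₁.left x hxS]
    have hv : fn φ x ∈ S₁ := (Maps.of_mem hφ).mem hx
    rw [he _ (I₁.mem _ hv), I₁.left _ hv]
  · have hm := I.maps (Maps.of_mem hφ)
    have hP1 : P ≤ S₁ := (F.le_of_mem hφ).1
    have h2 := I₁.maps' hm
    have e1 : im I₁.e' (im I.e P) = P := by
      refine Eq.trans ?_ (I.im_symm hP1)
      show Subgroup.closure _ = Subgroup.closure _
      congr 1
      apply Set.image_congr
      intro y hy
      exact (he y (I.im_le hP1 hy)).symm
    rw [e1] at h2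
    refine (h2.congr (fun x hx => ?_)).mem_hom (fun x => (fn_coe φ x).symm)
    have hxS := hP1 hx
    show I₁.e' (I.e (fn φ (I.e' (I₁.e x)))) = fn φ x
    rw [he2 x hxS, I.left x hxS]
    have hv : fn φ x ∈ S₁ := (Maps.of_mem hφ).mem hx
    rw [← he _ (I.mem _ hv), I.left _ hv]

/-- Subnormality is transported along isomorphisms of the big systems that restrict to isomorphisms of the small ones. -/
theorem subnormal_transport {T' S' : Subgroup Ω'} {E' : FusionSystem T'} {F' : FusionSystem S'}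
    (h : E'.IsSubnormalIn F' p) :
    ∀ {S T : Subgroup Ω} {F : FusionSystem S} {E : FusionSystem T} [Finite S], Fact p.Prime → IsPGroup p S → ∀ (I : Iso F F') (I₁ : Iso E E'),
      (∀ x ∈ T, I₁.e x = I.e x) → (∀ y ∈ T', I₁.e' y = I.e' y) → E.IsSubnormalIn F p := by
  induction h with
  | refl F' p =>
    intro S T F E _ _ hS I I₁ h1 h2
    obtain ⟨hb, hm⟩ := eq_of_iso I I₁ (fun y hy => (h2 y hy).symm) h1
    subst hb
    have : E = F := Cfsg.Agent.Lib.FusionResidual.eq_of_sameMaps hm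
    subst this
    exact IsSubnormalIn.refl _ _
  | step hED hD' ih =>
    intro S T F E _ hp hS I I₁ h1 h2
    have hU' := hD'.1.2.2.2.1.1
    have hsub := hD'.1.2.2.1
    have hDn := pull_isNormalIn I hS hD' hU'
    have hUS := I.symm.im_le hU'
    haveI := finite_of_le hUS
    have hih := ih hp (hS.to_le hUS) (pullIso (I := I) (hT' := hU') hsub) I₁ h1 h2
    exact IsSubnormalIn.step hih hDn

/-- Components are transported. -/
theorem isComponent_of_iso [Fact p.Prime] {T' S' : Subgroup Ω'} {E' : FusionSystem T'} {F' : FusionSystem S'}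
    (h : E'.IsComponentIn F' p) {S T : Subgroup Ω} {F : FusionSystem S} {E : FusionSystem T} [Finite S]
    (hS : IsPGroup p S) (I : Iso F F') (I₁ : Iso E E') (h1 : ∀ x ∈ T, I₁.e x = I.e x) (h2 : ∀ y ∈ T', I₁.e' y = I.e' y)
    (hTS : T ≤ S) : E.IsComponentIn F p := by
  haveI := finite_of_le hTS
  haveI : Finite T' := I₁.finite'
  exact ⟨subnormal_transport h.1 inferInstance hS I I₁ h1 h2,
    quasisimple_of_iso (I₁.isPGroup' (hS.to_le hTS)) I₁.symm h.2⟩

end subnormal

section self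

variable {Ω : Type u} [Group Ω] {S : Subgroup Ω} {F : FusionSystem S}

/-- The identity isomorphism. -/
def isoRefl (F : FusionSystem S) : Iso F F where
  e := _root_.id
  e' := _root_.id
  mem := fun _ h => h
  mem' := fun _ h => h
  map_mul := fun _ _ _ _ => rfl
  left := fun _ _ => rfl
  right := fun _ _ => rfl
  maps := by
    intro P f hf
    have e1 : im _root_.id P = P := by simp [im]
    show Maps F (im _root_.id P) (_root_.id ∘ f ∘ _root_.id)
    rw [e1]
    exact hf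
  maps' := by
    intro P f hf
    have e1 : im _root_.id P = P := by simp [im]
    show Maps F (im _root_.id P) (_root_.id ∘ f ∘ _root_.id)
    rw [e1]
    exact hf

/-- A system is its own factor system modulo the trivial subgroup through the inclusion. -/
lemma factor_self (F : FusionSystem S) : F.IsFactorSystem ⊥ S.subtype F := by
  refine ⟨bot_le, fun s => ?_, S.range_subtype, fun P' φ' => ?_⟩
  · rw [Subgroup.mem_bot]
    rfl
  · have hpre : P' ≤ S → preimageAlong S.subtype P' = P' := by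
      intro hP
      ext y
      rw [Cfsg.Agent.Lib.FusionFactor.mem_preimageAlong]
      constructor
      · rintro ⟨_, h⟩
        exact h
      · intro h
        exact ⟨hP h, h⟩
    constructor
    · intro hφ
      have hP := (F.le_of_mem hφ).1
      refine ⟨hP, ?_⟩
      have hm : Maps F (preimageAlong S.subtype P') (fn φ') := by
        rw [hpre hP]
        exact Maps.of_mem hφ
      refine ⟨hm.hom, hm.hom_mem, Cfsg.Agent.Lib.FusionFactor.preimageAlong_le _ _, fun x => (F.le_of_mem hm.hom_mem).2 x, fun y => ((Cfsg.Agent.Lib.FusionFactor.mem_preimageAlong _ _ _).1 y.2).2, fun y => ?_⟩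
      show φ' _ = (hm.hom y : Ω)
      rw [hm.hom_apply]
      have hy : (y : Ω) ∈ P' := ((Cfsg.Agent.Lib.FusionFactor.mem_preimageAlong _ _ _).1 y.2).2
      rw [fn_of_mem φ' hy]
      rfl
    · rintro ⟨hP, φ, hφ, hP1, hv, hP2, h⟩
      have hm := Maps.of_mem hφ
      obtain ⟨f₁, hf₁⟩ : ∃ f₁, f₁ = fn φ := ⟨_, rfl⟩
      rw [← hf₁, hpre hP] at hm
      refine (hm.congr (fun x hx => ?_)).mem_hom (fun x => (fn_coe φ' x).symm)
      have hx2 : x ∈ preimageAlong S.subtype P' := by rw [hpre hP]; exact hx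
      have := h ⟨x, hx2⟩
      rw [hf₁, fn_of_mem φ hx2, fn_of_mem φ' hx]
      exact this.symm

/-- The system of a map: an isomorphism of `C` with its image system along an injective `γ` on `T`. -/
noncomputable def isoOfFactorBot {Ω' : Type*} [Group Ω'] {S' : Subgroup Ω'} {E : FusionSystem S'} {γ : S →* Ω'}
    (hE : F.IsFactorSystem ⊥ γ E) : Iso F E :=
  isoFactor (isoRefl F) (factor_self F) hE (fun _ h => h) (fun _ h => h)

lemma isoOfFactorBot_e {Ω' : Type*} [Group Ω'] {S' : Subgroup Ω'} {E : FusionSystem S'} {γ : S →* Ω'}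
    (hE : F.IsFactorSystem ⊥ γ E) (x : S) : (isoOfFactorBot hE).e x = γ x := by
  have := desc_apply (θ := S.subtype) (fun x : S => γ ⟨_root_.id (x : Ω), (isoRefl F).mem x x.2⟩)
    (tau_well (isoRefl F) (factor_self F) hE (fun _ h => h)) x
  exact this

lemma conj_maps {f g k : Ω → Ω} {P : Subgroup Ω} (hf : Maps F S f) (hg : Maps F S g) (h1 : ∀ x ∈ S, g (f x) = x)
    (hk : Maps F P k) : Maps F (im f P) (f ∘ k ∘ g) := by
  have hP := hk.le
  have hfP := hf.restrict hP
  have hv : ∀ y ∈ im f P, g y ∈ P := by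
    intro y hy
    obtain ⟨x, hx, rfl⟩ := hfP.mem_img.1 hy
    rw [h1 x (hP hx)]
    exact hx
  have hle : im f P ≤ S := hfP.img_le
  exact ((hg.restrict hle).comp hk hv).comp hf (fun y hy => hk.mem (hv y hy))

/-- A map of `S` onto `S` gives an automorphism of the system. -/
theorem exists_isoOfMaps {f : Ω → Ω} (hf : Maps F S f) (himg : img f S = S) : ∃ I : Iso F F, ∀ x, I.e x = f x := by
  obtain ⟨g, hg, h1, h2⟩ := hf.inv
  rw [himg] at hg h2
  exact ⟨{ e := f, e' := g, mem := fun x hx => hf.mem hx, mem' := fun y hy => hg.mem hy,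
           map_mul := fun x hx y hy => hf.map_mul hx hy, left := h1, right := fun y hy => (h2 y hy).2,
           maps := fun hk => conj_maps hf hg h1 hk,
           maps' := fun hk => conj_maps hg hf (fun y hy => (h2 y hy).2) hk }, fun x => rfl⟩

end self

section auts

variable {Ω : Type u} [Group Ω] {S U : Subgroup Ω} {F : FusionSystem S} {D : FusionSystem U}

/-- An element of `Aut_F(U)` acts on an invariant subsystem over `U`. -/
noncomputable def isoAut (hU : U ≤ S) (hinv : Inv F D) {a : MulAut U} (ha : a ∈ F.autGroup U) : Iso D D where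
  e := afn a
  e' := afn a⁻¹
  mem := fun _ hx => afn_mem a hx
  mem' := fun _ hx => afn_mem a⁻¹ hx
  map_mul := fun x hx y hy => (Maps_of_mem_autGroup hU ha).map_mul hx hy
  left := fun _ hx => afn_inv_afn a hx
  right := fun _ hx => afn_afn_inv a hx
  maps := by
    intro P f hf
    obtain ⟨k, hk, hk2⟩ := hinv hf a ha
    refine Maps.congr hk (fun y hy => ?_)
    have hm := (Maps_of_mem_autGroup hU ha).restrict hf.le
    obtain ⟨x, hx, rfl⟩ := hm.mem_img.1 hy
    rw [hk2 x hx]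
    show _ = afn a (f (afn a⁻¹ (afn a x)))
    rw [afn_inv_afn a (hf.le hx)]
  maps' := by
    intro P f hf
    have ha' : a⁻¹ ∈ F.autGroup U := inv_mem ha
    obtain ⟨k, hk, hk2⟩ := hinv hf a⁻¹ ha'
    refine Maps.congr hk (fun y hy => ?_)
    have hm := (Maps_of_mem_autGroup hU ha').restrict hf.le
    obtain ⟨x, hx, rfl⟩ := hm.mem_img.1 hy
    rw [hk2 x hx]
    show _ = afn a⁻¹ (f (afn a (afn a⁻¹ x)))
    rw [afn_afn_inv a (hf.le hx)]

end auts

section images

variable {Ω : Type u} [Group Ω] {p : ℕ}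

lemma stronglyClosed_bot {S : Subgroup Ω} (F : FusionSystem S) : F.StronglyClosed ⊥ := by
  refine ⟨bot_le, fun R hR φ hφ x => ?_⟩
  have hx : (x : Ω) = 1 := Subgroup.mem_bot.1 (hR x.2)
  have : x = 1 := Subtype.ext hx
  rw [this, _root_.map_one]
  exact Subgroup.one_mem _

/-- Image systems exist along injective homomorphisms. -/
theorem exists_image {S : Subgroup Ω} {Ω' : Type*} [Group Ω'] [Finite S] (F : FusionSystem S) (θ : S →* Ω')
    (hθ : Function.Injective θ) : ∃ E : FusionSystem θ.range, F.IsFactorSystem ⊥ θ E := by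
  have hk : ∀ s : S, θ s = 1 ↔ (s : Ω) ∈ (⊥ : Subgroup Ω) := by
    intro s
    rw [Subgroup.mem_bot]
    constructor
    · intro h2
      have := hθ (a₁ := s) (a₂ := 1) (by rw [h2, _root_.map_one])
      rw [this]
      rfl
    · intro h2
      have : s = 1 := Subtype.ext h2
      rw [this, _root_.map_one]
  exact Cfsg.Agent.Lib.FusionFactor.exists_factorSystem _ (stronglyClosed_bot F) hk rfl

lemma exists_image_of {S S₂ : Subgroup Ω} [Finite S] {F : FusionSystem S} {F₂ : FusionSystem S₂} (_J : Iso F F₂) (θ : S →* Ω)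
    (hθ : Function.Injective θ) : ∃ E : FusionSystem θ.range, F.IsFactorSystem ⊥ θ E :=
  exists_image F θ hθ

/-- The image of a subnormal subsystem under a map of the big system (with source the base of the subsystem) is subnormal. -/
theorem image_subnormal {T S : Subgroup Ω} {C : FusionSystem T} {F : FusionSystem S} (h : C.IsSubnormalIn F p) :
    ∀ [Finite S], Fact p.Prime → IsPGroup p S → ∀ {f : Ω → Ω}, Maps F T f → ∀ {T₂ : Subgroup Ω} {E : FusionSystem T₂}
      (J : Iso C E), (∀ x ∈ T, J.e x = f x) → E.IsSubnormalIn F p := by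
  induction h with
  | refl F _ =>
    intro _ _ hS f hf T₂ E J h1
    obtain ⟨I₀, hI₀⟩ := exists_isoOfMaps hf
      (img_eq_of_card hf le_rfl le_rfl (fun x hx => hf.mem hx) le_rfl)
    obtain ⟨hb, hm⟩ := eq_of_iso I₀.symm J.symm (fun y hy => by
        show I₀.e y = J.e y
        rw [hI₀, h1 y hy]) (fun x hx => by
        show J.e' x = I₀.e' x
        have h2 := J.mem' x hx
        have h3 : I₀.e (J.e' x) = x := by rw [hI₀, ← h1 _ h2, J.right x hx]
        rw [← h3, I₀.left _ h2, h3])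
    subst hb
    have : E = F := Cfsg.Agent.Lib.FusionResidual.eq_of_sameMaps hm
    subst this
    exact IsSubnormalIn.refl _ _
  | step hCD hD ih =>
    intro _ hp hS f hf T₂ E J h1
    have hU := hD.1.2.2.2.1.1
    have hTU := subnormal_le hCD
    obtain ⟨hsub, hsc, hinv, hfrat⟩ := isInvariantIn_iff.1 hD.1.2.2
    obtain ⟨a, ha, f₀, hf₀, hfa⟩ := hfrat hTU hf
    haveI := finite_of_le hU
    haveI := finite_of_le hTU
    obtain ⟨C₀, hC₀⟩ := exists_image_of J hf₀.hom (fun a b hab => FusionSystem.injective_of_mem _ (hsub _ hf₀.hom_mem) hab)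
    let J₀ := isoOfFactorBot hC₀
    have hJ₀ : ∀ x ∈ _, J₀.e x = f₀ x := fun x hx => by
      have := isoOfFactorBot_e hC₀ ⟨x, hx⟩
      rw [hf₀.hom_apply] at this
      exact this
    have hih := ih hp (hS.to_le hU) hf₀ J₀ hJ₀
    have hS' := hS.to_le hU
    have hres := subnormal_transport hih hp hS' (isoAut hU hinv ha).symm (isoTrans J.symm J₀) (fun x hx => ?_) (fun y hy => ?_)
    · exact IsSubnormalIn.step hres hD
    · show J₀.e (J.e' x) = afn a⁻¹ x
      have h2 := J.mem' x hx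
      have h3 : J.e (J.e' x) = x := J.right x hx
      rw [hJ₀ _ h2]
      have h4 : x = afn a (f₀ (J.e' x)) := by
        rw [← hfa _ h2, ← h1 _ h2, h3]
      rw [h4, afn_inv_afn a (hf₀.mem h2), ← h4]
    · show J.e (J₀.e' y) = afn a y
      have h2 := J₀.mem' y hy
      have h3 : J₀.e (J₀.e' y) = y := J₀.right y hy
      rw [h1 _ h2, hfa _ h2, ← hJ₀ _ h2, h3]

end images

section main

variable {Ω : Type u} [Group Ω] {p : ℕ} [Fact p.Prime] {S T : Subgroup Ω} [Finite S]

/-- S5154. -/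
theorem component_image (hS : IsPGroup p S) {F : FusionSystem S} {C : FusionSystem T} (hC : C.IsComponentIn F p)
    {γ : T →* Ω} (hγ : γ ∈ F.Hom T) {E : FusionSystem γ.range} (hE : C.IsFactorSystem ⊥ γ E) : E.IsComponentIn F p := by
  have hTS := subnormal_le hC.1
  haveI := finite_of_le hTS
  refine ⟨image_subnormal hC.1 inferInstance hS (Maps.of_mem hγ) (isoOfFactorBot hE) (fun x hx => ?_),
    quasisimple_of_iso (hS.to_le hTS) (isoOfFactorBot hE) hC.2⟩
  rw [fn_of_mem γ hx]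
  exact isoOfFactorBot_e hE ⟨x, hx⟩

/-- An automorphism of the system acts on the layer. -/
theorem layer_of_iso (hS : IsPGroup p S) {F : FusionSystem S} (I : Iso F F) {E : FusionSystem T}
    (hE : E.IsLayerOf F p) : T ≤ im I.e' T ∧ ∀ (P : Subgroup Ω) (φ : P →* Ω), φ ∈ E.Hom P →
      Maps E (im I.e P) (I.e ∘ fn φ ∘ I.e') := by
  obtain ⟨hEn, hcomp, hmin⟩ := hE
  have hTS : T ≤ S := hEn.1.2.2.2.1.1
  have hDn := pull_isNormalIn I hS hEn hTS
  have key : ∀ {P : Subgroup Ω} {f : Ω → Ω}, Maps E (im I.e P) (I.e ∘ f ∘ I.e') → P ≤ S → (∀ x ∈ P, f x ∈ S) →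
      P ≤ im I.e' T ∧ ∀ x ∈ P, f x ∈ im I.e' T := by
    intro P f hm hPS hv
    constructor
    · intro x hx
      have h1 : I.e x ∈ T := hm.le (I.mem_im_of_mem hx)
      have h2 := I.symm.mem_im_of_mem h1
      rwa [show I.symm.e (I.e x) = x from I.left x (hPS hx)] at h2
    · intro x hx
      have h1 := hm.mem (I.mem_im_of_mem hx)
      simp only [Function.comp, I.left x (hPS hx)] at h1
      have h2 := I.symm.mem_im_of_mem h1
      rwa [show I.symm.e (I.e (f x)) = f x from I.left _ (hv x hx)] at h2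
  have hsub : E.IsSubsystemOf (pull I E hTS) := by
    refine hmin _ _ hDn (fun U C hC => ?_)
    intro P φ hφ
    have hUS : U ≤ S := subnormal_le hC.1
    have hCsub : C.IsSubsystemOf F := subnormal_sub hC.1
    let J : Iso (pull I.symm C hUS) C := pullIso hCsub
    have hC₁ : (pull I.symm C hUS).IsComponentIn F p :=
      isComponent_of_iso hC hS I.symm J (fun _ _ => rfl) (fun _ _ => rfl) (I.im_le hUS)
    have hle := hcomp _ _ hC₁
    have hm : Maps C P (fn φ) := Maps.of_mem hφ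
    have hm2 : Maps (pull I.symm C hUS) (im I.e P) (I.e ∘ fn φ ∘ I.e') := J.maps' hm
    have hm3 : Maps E (im I.e P) (I.e ∘ fn φ ∘ I.e') := maps_sub hle hm2
    have hPU : P ≤ S := hm.le.trans hUS
    have hv : ∀ x ∈ P, fn φ x ∈ S := fun x hx => hUS (hm.mem hx)
    obtain ⟨h1, h2⟩ := key hm3 hPU hv
    exact ⟨h1, fun x => by rw [← fn_coe]; exact h2 x x.2, hm3⟩
  refine ⟨(pull I E hTS).le_of_mem (hsub T (Maps.id (F := E) le_rfl).hom_mem) |>.1, fun P φ hφ => ?_⟩
  exact (hsub P hφ).2.2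

/-- The isomorphism given by an automorphism of a system. -/
noncomputable def isoOfMorphism {F : FusionSystem S} (α : S ≃* S) (hα : F.IsMorphism F (S.subtype.comp α.toMonoidHom))
    (hα' : F.IsMorphism F (S.subtype.comp α.symm.toMonoidHom)) : Iso F F :=
  have key : ∀ (β : S ≃* S), F.IsMorphism F (S.subtype.comp β.toMonoidHom) → ∀ {P : Subgroup Ω} {f : Ω → Ω},
      Maps F P f → Maps F (im (fn (S.subtype.comp β.toMonoidHom)) P)
        (fn (S.subtype.comp β.toMonoidHom) ∘ f ∘ fn (S.subtype.comp β.symm.toMonoidHom)) := by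
    intro β hβ P f hf
    obtain ⟨φ, hφ, hfφ⟩ := id hf
    obtain ⟨φ', hφ', hP1, hv, hP2, h⟩ := hβ.2 P φ hφ
    have hPS := hf.le
    have hle : im (fn (S.subtype.comp β.toMonoidHom)) P = imageAlong (S.subtype.comp β.toMonoidHom) P := by
      apply le_antisymm
      · rw [im, Subgroup.closure_le]
        rintro _ ⟨x, hx, rfl⟩
        refine ⟨⟨x, hPS hx⟩, Subgroup.mem_subgroupOf.2 hx, ?_⟩
        rw [fn_of_mem _ (hPS hx)]
      · rintro _ ⟨⟨x, hxS⟩, hx, rfl⟩
        refine Subgroup.subset_closure ⟨x, Subgroup.mem_subgroupOf.1 hx, ?_⟩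
        rw [fn_of_mem _ hxS]
    rw [hle]
    refine ⟨φ', hφ', fun y => ?_⟩
    obtain ⟨y, hy⟩ := y
    obtain ⟨⟨x, hxS⟩, hx, rfl⟩ := hy
    have hxP : x ∈ P := Subgroup.mem_subgroupOf.1 hx
    have h5 := h ⟨x, hxP⟩
    have e1 : fn (S.subtype.comp β.symm.toMonoidHom) ((S.subtype.comp β.toMonoidHom) ⟨x, hxS⟩) = x := by
      have hm : (S.subtype.comp β.toMonoidHom) ⟨x, hxS⟩ ∈ S := (β ⟨x, hxS⟩).2
      rw [fn_of_mem _ hm]
      have : (⟨(S.subtype.comp β.toMonoidHom) ⟨x, hxS⟩, hm⟩ : S) = β ⟨x, hxS⟩ := rfl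
      rw [this]
      simp
    simp only [Function.comp_apply]
    have e3 : f x = φ ⟨x, hxP⟩ := (hfφ ⟨x, hxP⟩).symm
    rw [e1, e3, fn_of_mem _ (hv ⟨x, hxP⟩)]
    exact h5
  { e := fn (S.subtype.comp α.toMonoidHom)
    e' := fn (S.subtype.comp α.symm.toMonoidHom)
    mem := fun x hx => by
      rw [fn_of_mem _ hx]
      exact (α ⟨x, hx⟩).2
    mem' := fun x hx => by
      rw [fn_of_mem _ hx]
      exact (α.symm ⟨x, hx⟩).2
    map_mul := fun x hx y hy => by
      rw [fn_of_mem _ hx, fn_of_mem _ hy, fn_of_mem _ (S.mul_mem hx hy), ← _root_.map_mul]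
      rfl
    left := fun x hx => by
      have hm : (S.subtype.comp α.toMonoidHom) ⟨x, hx⟩ ∈ S := (α ⟨x, hx⟩).2
      rw [fn_of_mem _ hx, fn_of_mem _ hm]
      have : (⟨(S.subtype.comp α.toMonoidHom) ⟨x, hx⟩, hm⟩ : S) = α ⟨x, hx⟩ := rfl
      rw [this]
      simp
    right := fun x hx => by
      have hm : (S.subtype.comp α.symm.toMonoidHom) ⟨x, hx⟩ ∈ S := (α.symm ⟨x, hx⟩).2
      rw [fn_of_mem _ hx, fn_of_mem _ hm]
      have : (⟨(S.subtype.comp α.symm.toMonoidHom) ⟨x, hx⟩, hm⟩ : S) = α.symm ⟨x, hx⟩ := rfl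
      rw [this]
      simp
    maps := fun hf => key α hα hf
    maps' := fun hf => key α.symm hα' hf }

/-- S5311. -/
theorem layer_characteristic (hS : IsPGroup p S) {F : FusionSystem S} (α : S ≃* S)
    (hα : F.IsMorphism F (S.subtype.comp α.toMonoidHom))
    (hα' : F.IsMorphism F (S.subtype.comp α.symm.toMonoidHom)) {E : FusionSystem T} (hE : E.IsLayerOf F p) :
    imageAlong (S.subtype.comp α.toMonoidHom) T = T ∧
      ∀ (P : Subgroup Ω) (φ : P →* Ω), φ ∈ E.Hom P →
        ∀ φ' : ↥(imageAlong (S.subtype.comp α.toMonoidHom) P) →* Ω,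
          InducedAlong (S.subtype.comp α.toMonoidHom) φ φ' →
            φ' ∈ E.Hom (imageAlong (S.subtype.comp α.toMonoidHom) P) := by
  have hTS : T ≤ S := hE.1.1.2.2.2.1.1
  let I := isoOfMorphism α hα hα'
  obtain ⟨h1, h2⟩ := layer_of_iso hS I hE
  have himage : ∀ P : Subgroup Ω, P ≤ S → imageAlong (S.subtype.comp α.toMonoidHom) P = im I.e P := by
    intro P hPS
    apply le_antisymm
    · rintro _ ⟨⟨x, hxS⟩, hx, rfl⟩
      refine Subgroup.subset_closure ⟨x, Subgroup.mem_subgroupOf.1 hx, ?_⟩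
      show fn _ x = _
      rw [fn_of_mem _ hxS]
    · rw [im, Subgroup.closure_le]
      rintro _ ⟨x, hx, rfl⟩
      refine ⟨⟨x, hPS hx⟩, Subgroup.mem_subgroupOf.2 hx, ?_⟩
      show _ = fn _ x
      rw [fn_of_mem _ (hPS hx)]
  constructor
  · rw [himage T hTS]
    haveI := finite_of_le hTS
    have hle2 : im I.e' T ≤ S := I.symm.im_le hTS
    haveI := finite_of_le hle2
    have hcard : Nat.card (im I.e' T) = Nat.card T := Nat.card_congr (I.symm.equiv hTS).symm.toEquiv
    have heq : T = im I.e' T := Subgroup.eq_of_le_of_card_ge h1 hcard.le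
    have := I.im_symm' hTS
    rwa [← heq] at this
  · intro P φ hφ φ' hind
    have hPS : P ≤ S := (E.le_of_mem hφ).1.trans hTS
    have hm := h2 P φ hφ
    rw [← himage P hPS] at hm
    refine hm.mem_hom (fun y => ?_)
    obtain ⟨hP1, hv, hP2, h⟩ := hind
    obtain ⟨y, hy⟩ := y
    obtain ⟨⟨x, hxS⟩, hx, rfl⟩ := hy
    have hxP : x ∈ P := Subgroup.mem_subgroupOf.1 hx
    have h5 := h ⟨x, hxP⟩
    have e1 : I.e' ((S.subtype.comp α.toMonoidHom) ⟨x, hxS⟩) = x := by
      have : I.e x = (S.subtype.comp α.toMonoidHom) ⟨x, hxS⟩ := by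
        show fn _ x = _
        rw [fn_of_mem _ hxS]
      rw [← this]
      exact I.left x hxS
    simp only [Function.comp_apply]
    rw [e1, fn_of_mem φ hxP]
    have hv2 : φ ⟨x, hxP⟩ ∈ S := hv ⟨x, hxP⟩
    have e2 : I.e (φ ⟨x, hxP⟩) = (S.subtype.comp α.toMonoidHom) ⟨φ ⟨x, hxP⟩, hv2⟩ := by
      show fn _ _ = _
      rw [fn_of_mem _ hv2]
    rw [e2]
    exact h5

end main

end Cfsg.Agent.Lib.FusionCompIso
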