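/-
FusionCompL: maps of a normal subsystem `D` extend over a normal subgroup `Q`, acting trivially on `Q` modulo `Q ∩ T`.
Part 1: the formal properties of good extensions.
-/
import Mathlib
import Cfsg.Agent.Lib.FusionCompA
import Cfsg.Agent.Lib.FusionSatCrit

set_option autoImplicit false
set_option linter.unusedSectionVars false
set_option linter.unusedVariables false
set_option linter.unusedSimpArgs false
set_option linter.style.haveILetI false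

namespace Cfsg.Agent.Lib.FusionCompA

open Cfsg Cfsg.FusionSystem Cfsg.Agent.Lib.FusionCore Cfsg.Agent.Lib.FusionCore2
open Cfsg.Agent.Lib.FusionInvariant (Str Inv Frat isInvariantIn_iff str_of_inv_frat maps_sub StrongMem aut_maps strong_img_le)

universe u

variable {Ω : Type u} [Group Ω] {S U : Subgroup Ω} {F : FusionSystem S} {D : FusionSystem U} {p : ℕ}
  {Q Q₁ R R₂ : Subgroup Ω}

/-- A good extension: `y` on `R` extends to `R Q`, acting trivially on `Q` modulo `Q₁`. -/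
def GE (F : FusionSystem S) (Q Q₁ R : Subgroup Ω) (y : Ω → Ω) : Prop :=
  ∃ g, Maps F (R ⊔ Q) g ∧ (∀ x ∈ R, g x = y x) ∧ ∀ q ∈ Q, q⁻¹ * g q ∈ Q₁

lemma GE.congr {y y' : Ω → Ω} (h : GE F Q Q₁ R y) (hy : ∀ x ∈ R, y x = y' x) : GE F Q Q₁ R y' := by
  obtain ⟨g, hg, h1, h2⟩ := h
  exact ⟨g, hg, fun x hx => by rw [h1 x hx, hy x hx], h2⟩

lemma GE.restrict {R' : Subgroup Ω} {y : Ω → Ω} (h : GE F Q Q₁ R' y) (hRR' : R ≤ R') : GE F Q Q₁ R y := by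
  obtain ⟨g, hg, h1, h2⟩ := h
  exact ⟨g, hg.restrict (sup_le_sup_right hRR' Q), fun x hx => h1 x (hRR' hx), h2⟩

lemma GE.of_id (hRS : R ≤ S) (hQS : Q ≤ S) : GE F Q Q₁ R _root_.id := by
  refine ⟨_root_.id, Maps.id (sup_le hRS hQS), fun _ _ => rfl, fun q hq => ?_⟩
  simp only [id]
  rw [inv_mul_cancel]
  exact Q₁.one_mem

lemma GE.val_mem (hQ₁Q : Q₁ ≤ Q) {g : Ω → Ω} (h : ∀ q ∈ Q, q⁻¹ * g q ∈ Q₁) {q : Ω} (hq : q ∈ Q) : g q ∈ Q := by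
  have e : g q = q * (q⁻¹ * g q) := by group
  rw [e]
  exact Q.mul_mem hq (hQ₁Q (h q hq))

lemma GE.comp (hQ₁Q : Q₁ ≤ Q) {y₁ y₂ : Ω → Ω} (h₁ : GE F Q Q₁ R y₁) (h₂ : GE F Q Q₁ R y₂) (hy : ∀ x ∈ R, y₂ x ∈ R) :
    GE F Q Q₁ R (y₁ ∘ y₂) := by
  obtain ⟨g₁, hg₁, h1, h1'⟩ := h₁
  obtain ⟨g₂, hg₂, h2, h2'⟩ := h₂
  have hmem : ∀ x ∈ R ⊔ Q, g₂ x ∈ R ⊔ Q := hg₂.sup_mem
    (fun x hx => by
      rw [h2 x hx]
      exact (le_sup_left : R ≤ R ⊔ Q) (hy x hx))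
    (fun x hx => (le_sup_right : Q ≤ R ⊔ Q) (GE.val_mem hQ₁Q h2' hx))
  refine ⟨g₁ ∘ g₂, hg₂.comp hg₁ hmem, fun x hx => ?_, fun q hq => ?_⟩
  · simp only [Function.comp]
    rw [h2 x hx, h1 _ (hy x hx)]
  · simp only [Function.comp]
    have h3 := h1' _ (GE.val_mem hQ₁Q h2' hq)
    have e : q⁻¹ * g₁ (g₂ q) = (q⁻¹ * g₂ q) * ((g₂ q)⁻¹ * g₁ (g₂ q)) := by group
    rw [e]
    exact Q₁.mul_mem (h2' q hq) h3

/-- Inverses of good extensions. -/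
lemma GE.inv [Finite S] (hQ₁Q : Q₁ ≤ Q) {y y' : Ω → Ω} (h : GE F Q Q₁ R y) (hyimg : img y R = R) (hRS : R ≤ S) (hQS : Q ≤ S)
    (hy' : ∀ x ∈ R, y' (y x) = x) (hym : Maps F R y) : GE F Q Q₁ R y' := by
  obtain ⟨g, hg, h1, h2⟩ := h
  have hgR : Maps F R g := hg.restrict le_sup_left
  have hgQ : Maps F Q g := hg.restrict le_sup_right
  have hRimg : img g R = R := by
    rw [img_congr h1]
    exact hyimg
  have hQimg : img g Q = Q := img_eq_of_card hgQ hQS hQS (fun x hx => GE.val_mem hQ₁Q h2 hx) le_rfl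
  have himg : img g (R ⊔ Q) = R ⊔ Q := by rw [hg.img_sup, hRimg, hQimg]
  obtain ⟨gi, hgi, hgi1, hgi2⟩ := hg.inv
  rw [himg] at hgi hgi2
  refine ⟨gi, hgi, fun x hx => ?_, fun q hq => ?_⟩
  · rw [← hyimg] at hx
    obtain ⟨z, hz, rfl⟩ := hym.mem_img.1 hx
    rw [hy' z hz, ← h1 z hz, hgi1 z ((le_sup_left : R ≤ R ⊔ Q) hz)]
  · rw [← hQimg] at hq
    obtain ⟨z, hz, rfl⟩ := hgQ.mem_img.1 hq
    rw [hgi1 z ((le_sup_right : Q ≤ R ⊔ Q) hz)]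
    have e : (g z)⁻¹ * z = (z⁻¹ * g z)⁻¹ := by group
    rw [e]
    exact Q₁.inv_mem (h2 z hz)

/-- Transport of good extensions. -/
lemma GE.transport [Finite S] (hQ₁Q : Q₁ ≤ Q) (hQ₁ : F.StronglyClosed Q₁) {a y y₂ : Ω → Ω} (h : GE F Q Q₁ R₂ y₂) (ha : Maps F (R ⊔ Q) a)
    (haR : img a R = R₂) (haQ : img a Q = Q) (hyR : ∀ x ∈ R, y x ∈ R) (hy : ∀ x ∈ R, a (y x) = y₂ (a x)) : GE F Q Q₁ R y := by
  obtain ⟨g, hg, h1, h2⟩ := h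
  have haRm : Maps F R a := ha.restrict le_sup_left
  have haQm : Maps F Q a := ha.restrict le_sup_right
  have himg : img a (R ⊔ Q) = R₂ ⊔ Q := by rw [ha.img_sup, haR, haQ]
  obtain ⟨ai, hai, hai1, hai2⟩ := ha.inv
  rw [himg] at hai hai2
  have hgm : ∀ x ∈ R₂ ⊔ Q, g x ∈ R₂ ⊔ Q := hg.sup_mem
    (fun x hx => by
      rw [← haR] at hx
      obtain ⟨z, hz, rfl⟩ := haRm.mem_img.1 hx
      rw [h1 _ (haR ▸ haRm.mem_img_of_mem hz), ← hy z hz]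
      exact (le_sup_left : R₂ ≤ R₂ ⊔ Q) (haR ▸ haRm.mem_img_of_mem (hyR z hz)))
    (fun x hx => (le_sup_right : Q ≤ R₂ ⊔ Q) (GE.val_mem hQ₁Q h2 hx))
  have haRQ : ∀ x ∈ R ⊔ Q, a x ∈ R₂ ⊔ Q := fun x hx => by
    rw [← himg]
    exact ha.mem_img_of_mem hx
  refine ⟨ai ∘ g ∘ a, ha.comp (hg.comp hai hgm) haRQ, fun x hx => ?_, fun q hq => ?_⟩
  · simp only [Function.comp]
    rw [h1 _ (haR ▸ haRm.mem_img_of_mem hx), ← hy x hx, hai1 _ ((le_sup_left : R ≤ R ⊔ Q) (hyR x hx))]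
  · simp only [Function.comp]
    have haq : a q ∈ Q := haQ ▸ haQm.mem_img_of_mem hq
    have h3 := h2 _ haq
    have hz : (a q)⁻¹ * g (a q) ∈ Q₁ := h3
    have e : g (a q) = a q * ((a q)⁻¹ * g (a q)) := by group
    have hQ₁m : Maps F Q₁ ai := hai.restrict (hQ₁Q.trans le_sup_right)
    have h4 : ai ((a q)⁻¹ * g (a q)) ∈ Q₁ := StrongMem hQ₁ le_rfl hQ₁m hz
    rw [e, hai.map_mul ((le_sup_right : Q ≤ R₂ ⊔ Q) haq) ((le_sup_right : Q ≤ R₂ ⊔ Q) (hQ₁Q hz)),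
      hai1 q ((le_sup_right : Q ≤ R ⊔ Q) hq), inv_mul_cancel_left]
    exact h4

/-- The automorphisms of `R` in `D` with good extensions. -/
def geSub [Finite S] (F : FusionSystem S) (D : FusionSystem U) (Q Q₁ R : Subgroup Ω) (hDF : D.IsSubsystemOf F) (hUS : U ≤ S) (hRU : R ≤ U) (hQS : Q ≤ S)
    (hQ₁Q : Q₁ ≤ Q) : Subgroup (MulAut R) where
  carrier := {a | a ∈ D.autGroup R ∧ GE F Q Q₁ R (afn a)}
  mul_mem' := fun {a b} ⟨h1, h2⟩ ⟨h3, h4⟩ => ⟨Subgroup.mul_mem _ h1 h3,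
    (GE.comp hQ₁Q h2 h4 (fun x hx => afn_mem b hx)).congr (fun x hx => (afn_mul a b hx).symm)⟩
  one_mem' := ⟨Subgroup.one_mem _, (GE.of_id (hRU.trans hUS) hQS).congr (fun x hx => (afn_one hx).symm)⟩
  inv_mem' := fun {a} ⟨h1, h2⟩ => ⟨Subgroup.inv_mem _ h1,
    GE.inv hQ₁Q h2 (afn_img a) (hRU.trans hUS) hQS (fun x hx => afn_inv_afn a hx)
      (maps_sub hDF ((mem_autGroup_iff hRU).1 h1))⟩

end Cfsg.Agent.Lib.FusionCompA
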