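/-
FusionCompL2: maps of a normal subsystem `D` extend over a normal subgroup `Q`, acting trivially on `Q` modulo `Q ∩ T`.
Part 2: the top level.
-/
import Mathlib
import Cfsg.Agent.Lib.FusionCompL
import Cfsg.Agent.Lib.FusionNormalSys
import Cfsg.Agent.Lib.FusionPPrimeRes
import Cfsg.Agent.Lib.FusionWeakEmb

set_option autoImplicit false
set_option linter.unusedSectionVars false
set_option linter.unusedVariables false
set_option linter.unusedSimpArgs false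
set_option linter.style.haveILetI false

namespace Cfsg.Agent.Lib.FusionCompA

open Cfsg Cfsg.FusionSystem Cfsg.Agent.Lib.FusionCore Cfsg.Agent.Lib.FusionCore2
open Cfsg.Agent.Lib.FusionInvariant (Str Inv Frat isInvariantIn_iff str_of_inv_frat maps_sub StrongMem aut_maps strong_img_le)
open Cfsg.Agent.Lib.AschCore (sc_fullyNormalized)
open Cfsg.Agent.Lib.FusionSatCrit (le_KK mem_KK)
open Cfsg.Agent.Lib.PCore

universe u

variable {Ω : Type u} [Group Ω] {S U : Subgroup Ω} {F : FusionSystem S} {D : FusionSystem U} {p : ℕ}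
  {Q Q₁ R R₂ : Subgroup Ω}

/-- `O_p(Aut_F(R))` lies in `Aut_S(R)` at fully automized subgroups. -/
lemma KK_le_auto [Finite S] [Fact p.Prime] (hRS : R ≤ S) (hA : F.IsFullyAutomized p R) {β : MulAut R} (hβ : β ∈ Cfsg.Agent.Lib.FusionSatCrit.KK F p R) :
    β ∈ autInducedBy S R := by
  haveI := finite_mulAut hRS
  obtain ⟨-, V, hV⟩ := hA
  obtain ⟨b, hb, rfl⟩ := mem_KK.1 hβ
  have h1 : b ∈ (V : Subgroup _) := pCore_le_sylow p V hb
  rw [hV] at h1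
  exact Subgroup.mem_subgroupOf.1 h1

/-- Conjugation by an element normalizing `R`. -/
lemma exists_conjAut [Finite S] (hRS : R ≤ S) {s : Ω} (hs : s ∈ S) (hN : s ∈ Subgroup.normalizer (R : Set Ω)) :
    ∃ κ : MulAut R, κ ∈ F.autGroup R ∧ ∀ x ∈ R, afn κ x = s * x * s⁻¹ := by
  have hm : Maps F R (fun x => s * x * s⁻¹) := Maps.conj hRS hs
  have himg : img (fun x => s * x * s⁻¹) R = R := img_eq_of_card hm hRS hRS (fun x hx => (Subgroup.mem_normalizer_iff.1 hN x).1 hx) le_rfl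
  exact ⟨hm.toAut himg, hm.toAut_mem himg, fun x hx => hm.afn_toAut himg hx⟩

/-- The setting: `D ⊴ F` on `U`, `Q ⊴ F`. -/
structure LSet (F : FusionSystem S) (D : FusionSystem U) (Q : Subgroup Ω) (p : ℕ) : Prop where
  hS : IsPGroup p S
  hF : F.IsSaturated p
  hQ : F.IsNormal Q
  hD : D.IsNormalIn F p

namespace LSet

variable [Finite S] (h : LSet F D Q p)
include h

lemma hUsc : F.StronglyClosed U := h.hD.1.2.2.2.1

lemma hUS : U ≤ S := h.hUsc.1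

lemma hDs : D.IsSaturated p := h.hD.1.1

lemma hDF : D.IsSubsystemOf F := h.hD.1.2.2.1

lemma hInv : Inv F D := (isInvariantIn_iff.1 h.hD.1.2.2).2.2.1

lemma hFrat : Frat F D := (isInvariantIn_iff.1 h.hD.1.2.2).2.2.2

lemma hQS : Q ≤ S := h.hQ.1

lemma hQsc : F.StronglyClosed Q := Cfsg.Agent.Lib.FusionCore3.stronglyClosed_of_isNormal h.hQ

lemma hUp : IsPGroup p U := h.hS.to_le h.hUS

lemma hNU {s : Ω} (hs : s ∈ S) : s ∈ Subgroup.normalizer (U : Set Ω) :=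
  Cfsg.Agent.Lib.FusionNormal.StronglyClosed.le_normalizer h.hUsc hs

lemma hNQ {s : Ω} (hs : s ∈ S) : s ∈ Subgroup.normalizer (Q : Set Ω) :=
  Cfsg.Agent.Lib.FusionNormal.IsNormal.le_normalizer h.hQ hs

lemma conjU {s x : Ω} (hs : s ∈ S) (hx : x ∈ U) : s * x * s⁻¹ ∈ U :=
  (Subgroup.mem_normalizer_iff.1 (h.hNU hs) x).1 hx

lemma conjQ {s x : Ω} (hs : s ∈ S) (hx : x ∈ Q) : s * x * s⁻¹ ∈ Q :=
  (Subgroup.mem_normalizer_iff.1 (h.hNQ hs) x).1 hx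

lemma conjC {s c : Ω} (hs : s ∈ S) (hc : c ∈ centralizerIn S U) : s * c * s⁻¹ ∈ centralizerIn S U :=
  Cfsg.Agent.Lib.AschCore.conj_mem_Y h.hUS hs (h.hNU hs) hc

lemma conjZ {s z : Ω} (hs : s ∈ S) (hz : z ∈ U ⊓ Subgroup.centralizer (U : Set Ω)) :
    s * z * s⁻¹ ∈ U ⊓ Subgroup.centralizer (U : Set Ω) := by
  refine ⟨h.conjU hs hz.1, Subgroup.mem_centralizer_iff.2 (fun y hy => ?_)⟩
  have h1 : s⁻¹ * y * s⁻¹⁻¹ ∈ U := h.conjU (S.inv_mem hs) hy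
  have h2 := Subgroup.mem_centralizer_iff.1 hz.2 _ h1
  calc y * (s * z * s⁻¹) = s * (s⁻¹ * y * s⁻¹⁻¹ * z) * s⁻¹ := by group
    _ = s * (z * (s⁻¹ * y * s⁻¹⁻¹)) * s⁻¹ := by rw [h2]
    _ = _ := by group

lemma conjV {s x : Ω} (hs : s ∈ S) (hx : x ∈ U ⊔ centralizerIn S U) : s * x * s⁻¹ ∈ U ⊔ centralizerIn S U := by
  have key : ∀ x ∈ U ⊔ centralizerIn S U, s * x * s⁻¹ ∈ U ⊔ centralizerIn S U := by
    refine sup_ind (fun x hx => (le_sup_left : U ≤ _) (h.conjU hs hx))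
      (fun x hx => (le_sup_right : centralizerIn S U ≤ _) (h.conjC hs hx)) ?_ ?_ ?_
    · intro x _ y _ hx hy
      have := Subgroup.mul_mem _ hx hy
      simpa [mul_assoc] using this
    · intro x _ hx
      have := Subgroup.inv_mem _ hx
      simpa [mul_assoc] using this
    · simp
  exact key x hx

lemma hVS : U ⊔ centralizerIn S U ≤ S := sup_le h.hUS inf_le_left

lemma hNV {s : Ω} (hs : s ∈ S) : s ∈ Subgroup.normalizer ((U ⊔ centralizerIn S U : Subgroup Ω) : Set Ω) := by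
  rw [Subgroup.mem_normalizer_iff]
  intro x
  refine ⟨fun hx => h.conjV hs hx, fun hx => ?_⟩
  have := h.conjV (S.inv_mem hs) hx
  simpa [mul_assoc] using this

lemma hVn : F.IsFullyNormalized (U ⊔ centralizerIn S U) :=
  fullyNormalized_of_le_normalizer h.hVS (fun _ hs => h.hNV hs)

end LSet

/-- `O^p`-type subgroup of `Aut_F(V)`. -/
def WW (F : FusionSystem S) (U : Subgroup Ω) : Subgroup (MulAut ↥(U ⊔ centralizerIn S U)) where
  carrier := {g | g ∈ F.autGroup (U ⊔ centralizerIn S U) ∧ (∀ y ∈ U, afn g y = y) ∧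
    ∀ c ∈ centralizerIn S U, c⁻¹ * afn g c ∈ U ⊓ Subgroup.centralizer (U : Set Ω)}
  mul_mem' := by
    rintro a b ⟨ha, ha1, ha2⟩ ⟨hb, hb1, hb2⟩
    refine ⟨Subgroup.mul_mem _ ha hb, fun y hy => ?_, fun c hc => ?_⟩
    · have hyV : y ∈ U ⊔ centralizerIn S U := (le_sup_left : U ≤ _) hy
      rw [afn_mul _ _ hyV, hb1 y hy, ha1 y hy]
    · have hcV : c ∈ U ⊔ centralizerIn S U := (le_sup_right : centralizerIn S U ≤ _) hc
      have hz := hb2 c hc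
      have e : afn b c = c * (c⁻¹ * afn b c) := by group
      have hzV : c⁻¹ * afn b c ∈ U ⊔ centralizerIn S U := (le_sup_left : U ≤ _) hz.1
      rw [afn_mul _ _ hcV, e]
      have hm : ∀ x ∈ U ⊔ centralizerIn S U, ∀ y ∈ U ⊔ centralizerIn S U, afn a (x * y) = afn a x * afn a y := by
        intro x hx y hy
        rw [afn_of_mem a (Subgroup.mul_mem _ hx hy), afn_of_mem a hx, afn_of_mem a hy]
        have e2 : (⟨x * y, Subgroup.mul_mem _ hx hy⟩ : ↥(U ⊔ centralizerIn S U)) = ⟨x, hx⟩ * ⟨y, hy⟩ := rfl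
        rw [e2, map_mul]
        rfl
      rw [hm _ hcV _ hzV, ha1 _ hz.1, ← mul_assoc]
      exact Subgroup.mul_mem _ (ha2 c hc) hz
  one_mem' := by
    refine ⟨Subgroup.one_mem _, fun y hy => afn_one ((le_sup_left : U ≤ _) hy), fun c hc => ?_⟩
    rw [afn_one ((le_sup_right : centralizerIn S U ≤ _) hc), inv_mul_cancel]
    exact Subgroup.one_mem _
  inv_mem' := by
    rintro a ⟨ha, ha1, ha2⟩
    have hm : ∀ x ∈ U ⊔ centralizerIn S U, ∀ y ∈ U ⊔ centralizerIn S U, afn a (x * y) = afn a x * afn a y := by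
      intro x hx y hy
      rw [afn_of_mem a (Subgroup.mul_mem _ hx hy), afn_of_mem a hx, afn_of_mem a hy]
      have e2 : (⟨x * y, Subgroup.mul_mem _ hx hy⟩ : ↥(U ⊔ centralizerIn S U)) = ⟨x, hx⟩ * ⟨y, hy⟩ := rfl
      rw [e2, map_mul]
      rfl
    have hinv1 : ∀ y ∈ U, afn a⁻¹ y = y := by
      intro y hy
      have hyV : y ∈ U ⊔ centralizerIn S U := (le_sup_left : U ≤ _) hy
      have := afn_inv_afn a hyV
      rwa [ha1 y hy] at this
    refine ⟨Subgroup.inv_mem _ ha, hinv1, fun c hc => ?_⟩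
    have hcV : c ∈ U ⊔ centralizerIn S U := (le_sup_right : centralizerIn S U ≤ _) hc
    have hz := ha2 c hc
    have hzV : c⁻¹ * afn a c ∈ U ⊔ centralizerIn S U := (le_sup_left : U ≤ _) hz.1
    have hzi : (c⁻¹ * afn a c)⁻¹ ∈ U ⊓ Subgroup.centralizer (U : Set Ω) := Subgroup.inv_mem _ hz
    have hziV : (c⁻¹ * afn a c)⁻¹ ∈ U ⊔ centralizerIn S U := (le_sup_left : U ≤ _) hzi.1
    have e1 : afn a (c * (c⁻¹ * afn a c)⁻¹) = c := by
      rw [hm _ hcV _ hziV, ha1 _ hzi.1]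
      group
    have e2 : afn a⁻¹ c = c * (c⁻¹ * afn a c)⁻¹ := by
      conv_lhs => rw [← e1]
      exact afn_inv_afn a (Subgroup.mul_mem _ hcV hziV)
    rw [e2, inv_mul_cancel_left]
    exact hzi

namespace LSet

variable [Finite S] [Fact p.Prime] [Finite U] (h : LSet F D Q p)
include h

/-- A conjugation by an element of `Q` lying in `Aut_D(U)` is inner. -/
lemma inn_of_mem {e : Ω} (he : e ∈ Q) (hm : Maps D U (fun y => e * y * e⁻¹)) :
    ∃ u ∈ U, ∀ y ∈ U, e * y * e⁻¹ = u * y * u⁻¹ := by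
  have hUS := h.hUS
  have hQS := h.hQS
  have himg : img (fun y => e * y * e⁻¹) U = U := img_eq_of_card hm le_rfl le_rfl (fun y hy => h.conjU (hQS he) hy) le_rfl
  have hκ := hm.toAut_mem himg
  have hκv : ∀ x ∈ U, afn (hm.toAut himg) x = e * x * e⁻¹ := fun x hx => hm.afn_toAut himg hx
  let 𝔓 : Subgroup (MulAut U) := D.autGroup U ⊓ autInducedBy Q U
  have hle : 𝔓 ≤ Cfsg.Agent.Lib.FusionSatCrit.KK D p U := by
    refine le_KK inf_le_left ?_ ((isPGroup_autInducedBy (h.hS.to_le hQS)).to_le inf_le_right)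
    rintro α hα β ⟨hβ, hβ'⟩
    refine ⟨Subgroup.mul_mem _ (Subgroup.mul_mem _ hα hβ) (Subgroup.inv_mem _ hα), ?_⟩
    obtain ⟨q, hq, hqv⟩ := mem_autInducedBy.1 hβ'
    have hαF : Maps F U (afn α) := maps_sub h.hDF ((mem_autGroup_iff le_rfl).1 hα)
    obtain ⟨g, hg, hg1, hg2⟩ := (isNormal_iff.1 h.hQ).2 U (afn α) hαF
    have hgq : g q ∈ Q := by
      rw [← hg2]
      exact (hg.restrict le_sup_right).mem_img_of_mem hq
    refine mem_autInducedBy.2 ⟨g q, hgq, fun x hx => ?_⟩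
    have h1 : afn α⁻¹ x ∈ U := afn_mem _ hx
    have h2 : afn β (afn α⁻¹ x) ∈ U := afn_mem _ h1
    rw [afn_mul _ _ hx, afn_mul _ _ h1, ← hg1 _ h2, hqv _ h1,
      hg.map_conj ((le_sup_right : Q ≤ U ⊔ Q) hq) ((le_sup_left : U ≤ U ⊔ Q) h1), hg1 _ h1, afn_afn_inv α hx]
  have h1 : hm.toAut himg ∈ 𝔓 := ⟨hκ, mem_autInducedBy.2 ⟨e, he, hκv⟩⟩
  have hA : D.IsFullyAutomized p U := (of_fullyNormalized h.hUp h.hDs
    (sc_fullyNormalized (Cfsg.Agent.Lib.FusionNormalSys.stronglyClosed_top D))).2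
  obtain ⟨u, hu, huv⟩ := mem_autInducedBy.1 (KK_le_auto le_rfl hA (hle h1))
  exact ⟨u, hu, fun y hy => by rw [← hκv y hy, huv y hy]⟩

/-- The commutator of `α ∈ Aut_D(U)` with conjugation by `q ∈ Q` on `U` is inner. -/
lemma exists_inn {α : MulAut U} (hα : α ∈ D.autGroup U) {q : Ω} (hq : q ∈ Q) :
    ∃ u ∈ U, ∀ x ∈ U, afn α (q * x * q⁻¹) = (u * q) * afn α x * (u * q)⁻¹ := by
  have hUS := h.hUS
  have hQS := h.hQS
  have hαD : Maps D U (afn α) := (mem_autGroup_iff le_rfl).1 hα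
  have hαF : Maps F U (afn α) := maps_sub h.hDF hαD
  obtain ⟨g, hg, hg1, hg2⟩ := (isNormal_iff.1 h.hQ).2 U (afn α) hαF
  have hgq : g q ∈ Q := by
    rw [← hg2]
    exact (hg.restrict le_sup_right).mem_img_of_mem hq
  have hqV : q ∈ U ⊔ Q := (le_sup_right : Q ≤ U ⊔ Q) hq
  have hconj : ∀ x ∈ U, afn α (q * x * q⁻¹) = g q * afn α x * (g q)⁻¹ := by
    intro x hx
    rw [← hg1 _ (h.conjU (hQS hq) hx), hg.map_conj hqV ((le_sup_left : U ≤ U ⊔ Q) hx), hg1 x hx]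
  obtain ⟨κ, hκ, hκv⟩ := exists_conjAut (F := F) hUS (hQS hq) (h.hNU (hQS hq))
  obtain ⟨k, hk, hkv⟩ := h.hInv ((mem_autGroup_iff le_rfl).1 (Subgroup.inv_mem _ hα)) κ hκ
  rw [afn_img] at hk
  have hm : Maps D U (fun y => (g q * q⁻¹) * y * (g q * q⁻¹)⁻¹) := by
    refine (hk.comp hαD (fun y hy => hk.mem hy)).congr (fun y hy => ?_)
    simp only [Function.comp]
    have hz : q⁻¹ * y * q⁻¹⁻¹ ∈ U := h.conjU (S.inv_mem (hQS hq)) hy
    have e1 : afn κ (q⁻¹ * y * q⁻¹⁻¹) = y := by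
      rw [hκv _ hz]
      group
    have e2 := hkv _ hz
    rw [e1, hκv _ (afn_mem _ hz)] at e2
    rw [e2, hconj _ (afn_mem _ hz), afn_afn_inv α hz]
    group
  obtain ⟨u, hu, huv⟩ := h.inn_of_mem (Q.mul_mem hgq (Q.inv_mem hq)) hm
  refine ⟨u, hu, fun x hx => ?_⟩
  rw [hconj x hx]
  have hy : q * afn α x * q⁻¹ ∈ U := h.conjU (hQS hq) (afn_mem α hx)
  have e3 := huv _ hy
  calc g q * afn α x * (g q)⁻¹ = (g q * q⁻¹) * (q * afn α x * q⁻¹) * (g q * q⁻¹)⁻¹ := by group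
    _ = u * (q * afn α x * q⁻¹) * u⁻¹ := e3
    _ = _ := by group

lemma Z_le_C : U ⊓ Subgroup.centralizer (U : Set Ω) ≤ centralizerIn S U := by
  intro z hz
  exact mem_centralizerIn.2 ⟨h.hUS hz.1, fun y hy => Subgroup.mem_centralizer_iff.1 hz.2 y hy⟩

/-- `WW` lies in `O_p(Aut_F(V))`. -/
lemma WW_le_KK : WW F U ≤ Cfsg.Agent.Lib.FusionSatCrit.KK F p (U ⊔ centralizerIn S U) := by
  have hVS := h.hVS
  have hUU : U ≤ U ⊔ centralizerIn S U := le_sup_left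
  have hCU : centralizerIn S U ≤ U ⊔ centralizerIn S U := le_sup_right
  refine le_KK (fun g hg => hg.1) ?_ ?_
  · rintro a ha g ⟨hg, hg1, hg2⟩
    have ham : Maps F _ (afn a) := (mem_autGroup_iff hVS).1 ha
    have hai : Maps F _ (afn a⁻¹) := (mem_autGroup_iff hVS).1 (Subgroup.inv_mem _ ha)
    have hgm : Maps F _ (afn g) := (mem_autGroup_iff hVS).1 hg
    have hUa : ∀ x ∈ U, afn a x ∈ U := fun x hx => StrongMem h.hUsc le_rfl (ham.restrict hUU) hx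
    have hUai : ∀ x ∈ U, afn a⁻¹ x ∈ U := fun x hx => StrongMem h.hUsc le_rfl (hai.restrict hUU) hx
    have hCai : ∀ c ∈ centralizerIn S U, afn a⁻¹ c ∈ centralizerIn S U := by
      intro c hc
      refine mem_centralizerIn.2 ⟨hVS (afn_mem _ (hCU hc)), fun y hy => ?_⟩
      have h1 := (mem_centralizerIn.1 hc).2 _ (hUa y hy)
      have e : y = afn a⁻¹ (afn a y) := (afn_inv_afn a (hUU hy)).symm
      rw [e, ← hai.map_mul (hUU (hUa y hy)) (hCU hc), h1, hai.map_mul (hCU hc) (hUU (hUa y hy))]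
    refine ⟨Subgroup.mul_mem _ (Subgroup.mul_mem _ ha hg) (Subgroup.inv_mem _ ha), fun y hy => ?_, fun c hc => ?_⟩
    · have hyV := hUU hy
      rw [afn_mul _ _ hyV, afn_mul _ _ (afn_mem _ hyV), hg1 _ (hUai y hy), afn_afn_inv a hyV]
    · have hcV := hCU hc
      have hc' := hCai c hc
      have hz := hg2 _ hc'
      have e1 : afn g (afn a⁻¹ c) = afn a⁻¹ c * ((afn a⁻¹ c)⁻¹ * afn g (afn a⁻¹ c)) := by group
      rw [afn_mul _ _ hcV, afn_mul _ _ (afn_mem _ hcV), e1, ham.map_mul (hCU hc') (hUU hz.1), afn_afn_inv a hcV, inv_mul_cancel_left]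
      refine ⟨hUa _ hz.1, Subgroup.mem_centralizer_iff.2 (fun y hy => ?_)⟩
      have h2 := Subgroup.mem_centralizer_iff.1 hz.2 _ (hUai y hy)
      have e : y = afn a (afn a⁻¹ y) := (afn_afn_inv a (hUU hy)).symm
      rw [e, ← ham.map_mul (hUU (hUai y hy)) (hUU hz.1), h2, ham.map_mul (hUU hz.1) (hUU (hUai y hy))]
  · have hcard := IsPGroup.iff_card.1 h.hUp
    obtain ⟨n, hn⟩ := hcard
    rintro ⟨g, hg, hg1, hg2⟩
    have hgm : Maps F _ (afn g) := (mem_autGroup_iff hVS).1 hg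
    have hmod : ∀ y ∈ U ⊔ centralizerIn S U, y⁻¹ * afn g y ∈ U := by
      refine sup_ind (fun x hx => ?_) (fun x hx => (hg2 x hx).1) ?_ ?_ ?_
      · rw [hg1 x hx, inv_mul_cancel]
        exact U.one_mem
      · intro x hx y hy h1 h2
        rw [hgm.map_mul hx hy]
        have e : (x * y)⁻¹ * (afn g x * afn g y) = (y⁻¹ * (x⁻¹ * afn g x) * y⁻¹⁻¹) * (y⁻¹ * afn g y) := by group
        rw [e]
        exact U.mul_mem (h.conjU (S.inv_mem (hVS hy)) h1) h2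
      · intro x hx h1
        rw [hgm.map_inv hx]
        have e : x⁻¹⁻¹ * (afn g x)⁻¹ = x * (x⁻¹ * afn g x)⁻¹ * x⁻¹ := by group
        rw [e]
        exact h.conjU (hVS hx) (U.inv_mem h1)
      · rw [hgm.map_one]
        simp [U.one_mem]
    have e := Cfsg.Agent.Lib.FusionPPrimeRes.pow_card_eq_one_of_fix g hUU hg1 hmod
    rw [hn] at e
    refine ⟨n, Subtype.ext ?_⟩
    exact e

/-- The inverse of a hat is a hat. -/
lemma hat_inv {β : MulAut ↥(U ⊔ centralizerIn S U)} (hβ : β ∈ F.autGroup (U ⊔ centralizerIn S U))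
    (hβ2 : ∀ c ∈ centralizerIn S U, c⁻¹ * afn β c ∈ U ⊓ Subgroup.centralizer (U : Set Ω)) {c : Ω} (hc : c ∈ centralizerIn S U) :
    afn β⁻¹ c ∈ centralizerIn S U ∧ c⁻¹ * afn β⁻¹ c ∈ U ⊓ Subgroup.centralizer (U : Set Ω) := by
  have hVS := h.hVS
  have hCU : centralizerIn S U ≤ U ⊔ centralizerIn S U := le_sup_right
  have hβm : Maps F _ (afn β) := (mem_autGroup_iff hVS).1 hβ
  have hβC : Maps F (centralizerIn S U) (afn β) := hβm.restrict hCU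
  have hmem : ∀ x ∈ centralizerIn S U, afn β x ∈ centralizerIn S U := by
    intro x hx
    have e : afn β x = x * (x⁻¹ * afn β x) := by group
    rw [e]
    exact Subgroup.mul_mem _ hx (h.Z_le_C (hβ2 x hx))
  have himg : img (afn β) (centralizerIn S U) = centralizerIn S U := img_eq_of_card hβC inf_le_left inf_le_left hmem le_rfl
  rw [← himg] at hc
  obtain ⟨c₀, hc₀, rfl⟩ := hβC.mem_img.1 hc
  rw [afn_inv_afn β (hCU hc₀)]
  refine ⟨hc₀, ?_⟩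
  have e : (afn β c₀)⁻¹ * c₀ = (c₀⁻¹ * afn β c₀)⁻¹ := by group
  rw [e]
  exact Subgroup.inv_mem _ (hβ2 c₀ hc₀)

/-- Conjugates under a hat. -/
lemma hat_conj {α : MulAut U} (hα : α ∈ D.autGroup U) {β : MulAut ↥(U ⊔ centralizerIn S U)} (hβ : β ∈ F.autGroup (U ⊔ centralizerIn S U))
    (hβ1 : ∀ x ∈ U, afn β x = afn α x)
    (hβ2 : ∀ c ∈ centralizerIn S U, c⁻¹ * afn β c ∈ U ⊓ Subgroup.centralizer (U : Set Ω)) {q : Ω} (hq : q ∈ Q) :
    ∃ u ∈ U, ∃ w ∈ centralizerIn S U, ∀ x ∈ U ⊔ centralizerIn S U,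
      afn β (q * x * q⁻¹) = (u * q * w) * afn β x * (u * q * w)⁻¹ := by
  have hVS := h.hVS
  have hUS := h.hUS
  have hQS := h.hQS
  have hUU : U ≤ U ⊔ centralizerIn S U := le_sup_left
  have hCU : centralizerIn S U ≤ U ⊔ centralizerIn S U := le_sup_right
  obtain ⟨u, hu, huv⟩ := h.exists_inn hα hq
  have hh₀ : u * q ∈ S := S.mul_mem (hUS hu) (hQS hq)
  obtain ⟨κ₀, hκ₀, hκ₀v⟩ := exists_conjAut (F := F) hVS (hQS hq) (h.hNV (hQS hq))
  obtain ⟨κ₁, hκ₁, hκ₁v⟩ := exists_conjAut (F := F) hVS (S.inv_mem hh₀) (h.hNV (S.inv_mem hh₀))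
  have hγ : κ₁ * β * κ₀ * β⁻¹ ∈ WW F U := by
    refine ⟨Subgroup.mul_mem _ (Subgroup.mul_mem _ (Subgroup.mul_mem _ hκ₁ hβ) hκ₀) (Subgroup.inv_mem _ hβ), fun y hy => ?_, fun c hc => ?_⟩
    · have hyV := hUU hy
      have ha₀ : afn α⁻¹ y ∈ U := afn_mem _ hy
      have e1 : afn β⁻¹ y = afn α⁻¹ y := by
        have := afn_inv_afn β (hUU ha₀)
        rwa [hβ1 _ ha₀, afn_afn_inv α hy] at this
      have hq1 : q * afn α⁻¹ y * q⁻¹ ∈ U := h.conjU (hQS hq) ha₀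
      rw [afn_mul _ _ hyV, afn_mul _ _ (afn_mem β⁻¹ hyV), afn_mul _ _ (afn_mem κ₀ (afn_mem β⁻¹ hyV)), e1, hκ₀v _ (hUU ha₀),
        hβ1 _ hq1, huv _ ha₀, afn_afn_inv α hy, hκ₁v _ (h.conjV hh₀ hyV)]
      group
    · have hcV := hCU hc
      obtain ⟨hc₀, hz⟩ := h.hat_inv hβ hβ2 hc
      have hc₁ : q * afn β⁻¹ c * q⁻¹ ∈ centralizerIn S U := h.conjC (hQS hq) hc₀
      have hz₂ := hβ2 _ hc₁
      have e0 : afn β (q * afn β⁻¹ c * q⁻¹) = (q * afn β⁻¹ c * q⁻¹) * ((q * afn β⁻¹ c * q⁻¹)⁻¹ * afn β (q * afn β⁻¹ c * q⁻¹)) := by group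
      have hm1 : afn β (q * afn β⁻¹ c * q⁻¹) ∈ U ⊔ centralizerIn S U := afn_mem β (hCU hc₁)
      rw [afn_mul _ _ hcV, afn_mul _ _ (afn_mem β⁻¹ hcV), afn_mul _ _ (afn_mem κ₀ (afn_mem β⁻¹ hcV)), hκ₀v _ (hCU hc₀), hκ₁v _ hm1, e0]
      have hcomm : u * (q * afn β⁻¹ c * q⁻¹) = (q * afn β⁻¹ c * q⁻¹) * u := (mem_centralizerIn.1 hc₁).2 u hu
      have e2 : (u * q)⁻¹ * ((q * afn β⁻¹ c * q⁻¹) * ((q * afn β⁻¹ c * q⁻¹)⁻¹ * afn β (q * afn β⁻¹ c * q⁻¹))) * (u * q)⁻¹⁻¹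
          = afn β⁻¹ c * ((u * q)⁻¹ * ((q * afn β⁻¹ c * q⁻¹)⁻¹ * afn β (q * afn β⁻¹ c * q⁻¹)) * (u * q)⁻¹⁻¹) := by
        have e3 : (u * q)⁻¹ * (q * afn β⁻¹ c * q⁻¹) * (u * q)⁻¹⁻¹ = afn β⁻¹ c := by
          calc (u * q)⁻¹ * (q * afn β⁻¹ c * q⁻¹) * (u * q)⁻¹⁻¹ = q⁻¹ * (u⁻¹ * ((q * afn β⁻¹ c * q⁻¹) * u)) * q := by group
            _ = q⁻¹ * (u⁻¹ * (u * (q * afn β⁻¹ c * q⁻¹))) * q := by rw [hcomm]
            _ = _ := by group
        calc _ = ((u * q)⁻¹ * (q * afn β⁻¹ c * q⁻¹) * (u * q)⁻¹⁻¹) * ((u * q)⁻¹ * ((q * afn β⁻¹ c * q⁻¹)⁻¹ * afn β (q * afn β⁻¹ c * q⁻¹)) * (u * q)⁻¹⁻¹) := by group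
          _ = _ := by rw [e3]
      rw [e2, ← mul_assoc]
      exact Subgroup.mul_mem _ hz (h.conjZ (S.inv_mem hh₀) hz₂)
  have hV₀A : F.IsFullyAutomized p (U ⊔ centralizerIn S U) := (of_fullyNormalized h.hS h.hF h.hVn).2
  obtain ⟨w, hw, hwv⟩ := mem_autInducedBy.1 (KK_le_auto hVS hV₀A (h.WW_le_KK hγ))
  have hwC : w ∈ centralizerIn S U := by
    refine mem_centralizerIn.2 ⟨hw, fun y hy => ?_⟩
    have e1 := hγ.2.1 y hy
    rw [hwv y (hUU hy)] at e1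
    calc y * w = (w * y * w⁻¹) * w := by rw [e1]
      _ = w * y := by group
  refine ⟨u, hu, w, hwC, fun x hx => ?_⟩
  have hβx := afn_mem β hx
  have e1 := hwv _ hβx
  have hcx : q * x * q⁻¹ ∈ U ⊔ centralizerIn S U := h.conjV (hQS hq) hx
  rw [afn_mul _ _ hβx, afn_mul _ _ (afn_mem β⁻¹ hβx), afn_mul _ _ (afn_mem κ₀ (afn_mem β⁻¹ hβx)), afn_inv_afn β hx, hκ₀v _ hx,
    hκ₁v _ (afn_mem β hcx)] at e1
  calc afn β (q * x * q⁻¹) = (u * q) * ((u * q)⁻¹ * afn β (q * x * q⁻¹) * (u * q)⁻¹⁻¹) * (u * q)⁻¹ := by group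
    _ = (u * q) * (w * afn β x * w⁻¹) * (u * q)⁻¹ := by rw [e1]
    _ = _ := by group

end LSet

end Cfsg.Agent.Lib.FusionCompA
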