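/-
FusionCompL3: maps of a normal subsystem `D` extend over a normal subgroup `Q`, acting trivially on `Q` modulo `Q ∩ T`.
Part 3: elements of order prime to `p` at the top level.
-/
import Mathlib
import Cfsg.Agent.Lib.FusionCompL2

set_option autoImplicit false
set_option linter.unusedSectionVars false
set_option linter.unusedVariables false
set_option linter.unusedSimpArgs false
set_option linter.style.haveILetI false

namespace Cfsg.Agent.Lib.FusionCompA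

open Cfsg Cfsg.FusionSystem Cfsg.Agent.Lib.FusionCore Cfsg.Agent.Lib.FusionCore2
open Cfsg.Agent.Lib.FusionInvariant (Str Inv Frat isInvariantIn_iff str_of_inv_frat maps_sub StrongMem aut_maps strong_img_le)
open Cfsg.Agent.Lib.AschCore (sc_fullyNormalized)
open Cfsg.Agent.Lib.FusionSatCrit (le_KK mem_KK)
open Cfsg.Agent.Lib.PCore

universe u

variable {Ω : Type u} [Group Ω] {S U : Subgroup Ω} {F : FusionSystem S} {D : FusionSystem U} {p : ℕ}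
  {Q Q₁ Q₃ R R₂ W₀ : Subgroup Ω}

lemma pow_mod (hn : ∀ q ∈ Q, ∀ z ∈ Q₁, q * z * q⁻¹ ∈ Q₁) {z v : Ω} (hz : z ∈ Q₁) (hv : v ∈ Q) :
    ∀ j : ℕ, ∃ z' ∈ Q₁, (z * v) ^ j = z' * v ^ j := by
  intro j
  induction j with
  | zero => exact ⟨1, Q₁.one_mem, by simp⟩
  | succ j ih =>
    obtain ⟨z', hz', e⟩ := ih
    refine ⟨z' * (v ^ j * z * (v ^ j)⁻¹), Q₁.mul_mem hz' (hn _ (Q.pow_mem hv j) _ hz), ?_⟩
    rw [pow_succ, e, pow_succ]
    group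

lemma chain_pow (b : MulAut W₀) (hQW : Q ≤ W₀) (hQ₃Q : Q₃ ≤ Q) (hQ₁Q : Q₁ ≤ Q)
    (hn : ∀ q ∈ Q, ∀ z ∈ Q₁, q * z * q⁻¹ ∈ Q₁) (hb₁ : ∀ z ∈ Q₁, afn b z ∈ Q₁) (hb₃ : ∀ q ∈ Q, afn b q * q⁻¹ ∈ Q₃)
    (hb₄ : ∀ v ∈ Q₃, afn b v * v⁻¹ ∈ Q₁) : ∀ j : ℕ, ∀ q ∈ Q, ∃ z ∈ Q₁, afn (b ^ j) q = z * (afn b q * q⁻¹) ^ j * q := by
  have hm : ∀ x ∈ W₀, ∀ y ∈ W₀, afn b (x * y) = afn b x * afn b y := by
    intro x hx y hy
    rw [afn_of_mem b (W₀.mul_mem hx hy), afn_of_mem b hx, afn_of_mem b hy]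
    have e2 : (⟨x * y, W₀.mul_mem hx hy⟩ : W₀) = ⟨x, hx⟩ * ⟨y, hy⟩ := rfl
    rw [e2, map_mul]
    rfl
  have hmp : ∀ x ∈ W₀, ∀ j : ℕ, afn b (x ^ j) = afn b x ^ j := by
    intro x hx j
    induction j with
    | zero =>
      have := hm 1 W₀.one_mem 1 W₀.one_mem
      rw [pow_zero, pow_zero]
      simpa using this
    | succ j ih =>
      rw [pow_succ, hm _ (W₀.pow_mem hx j) _ hx, ih, pow_succ]
  intro j
  induction j with
  | zero =>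
    intro q hq
    exact ⟨1, Q₁.one_mem, by
      rw [pow_zero, pow_zero, afn_one (hQW hq)]
      group⟩
  | succ j ih =>
    intro q hq
    obtain ⟨z, hz, e⟩ := ih q hq
    have hv := hb₃ q hq
    have hvQ := hQ₃Q hv
    have hz' := hb₄ _ hv
    obtain ⟨z'', hz'', e'⟩ := pow_mod hn hz' hvQ j
    have hzW := hQW (hQ₁Q hz)
    have hvjW : (afn b q * q⁻¹) ^ j ∈ W₀ := W₀.pow_mem (hQW hvQ) j
    have hqW := hQW hq
    refine ⟨afn b z * z'', Q₁.mul_mem (hb₁ z hz) hz'', ?_⟩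
    rw [pow_succ', afn_mul _ _ hqW, e, hm _ (W₀.mul_mem hzW hvjW) _ hqW, hm _ hzW _ hvjW, hmp _ (hQW hvQ) j]
    have e3 : afn b (afn b q * q⁻¹) = (afn b (afn b q * q⁻¹) * (afn b q * q⁻¹)⁻¹) * (afn b q * q⁻¹) := by group
    rw [e3, e']
    obtain ⟨v, hvd⟩ : ∃ v, v = afn b q * q⁻¹ := ⟨_, rfl⟩
    rw [← hvd]
    have e4 : afn b q = v * q := by
      rw [hvd]
      group
    rw [e4, pow_succ]
    group

/-- Mod `Q₁`, a power of `b` acts trivially. -/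
lemma chain_pow' [Finite Q₃] (b : MulAut W₀) (hQW : Q ≤ W₀) (hQ₃Q : Q₃ ≤ Q) (hQ₁Q : Q₁ ≤ Q)
    (hn : ∀ q ∈ Q, ∀ z ∈ Q₁, q * z * q⁻¹ ∈ Q₁) (hb₁ : ∀ z ∈ Q₁, afn b z ∈ Q₁) (hb₃ : ∀ q ∈ Q, afn b q * q⁻¹ ∈ Q₃)
    (hb₄ : ∀ v ∈ Q₃, afn b v * v⁻¹ ∈ Q₁) : ∀ q ∈ Q, afn (b ^ Nat.card Q₃) q * q⁻¹ ∈ Q₁ := by
  intro q hq
  obtain ⟨z, hz, e⟩ := chain_pow b hQW hQ₃Q hQ₁Q hn hb₁ hb₃ hb₄ (Nat.card Q₃) q hq
  have hv := hb₃ q hq
  have h1 : (⟨_, hv⟩ : Q₃) ^ Nat.card Q₃ = 1 := pow_card_eq_one'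
  have h2 : (afn b q * q⁻¹) ^ Nat.card Q₃ = 1 := congrArg Subtype.val h1
  rw [e, h2, mul_one, mul_inv_cancel_right]
  exact hz

lemma trivial_pow (hQW : Q ≤ W₀) (hQ₁Q : Q₁ ≤ Q) {a : MulAut W₀} (h : ∀ q ∈ Q, afn a q * q⁻¹ ∈ Q₁) :
    ∀ j : ℕ, ∀ q ∈ Q, afn (a ^ j) q * q⁻¹ ∈ Q₁ := by
  intro j
  induction j with
  | zero =>
    intro q hq
    rw [pow_zero, afn_one (hQW hq), mul_inv_cancel]
    exact Q₁.one_mem
  | succ j ih =>
    intro q hq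
    have h1 := ih q hq
    have hq' : afn (a ^ j) q ∈ Q := by
      have e : afn (a ^ j) q = (afn (a ^ j) q * q⁻¹) * q := by group
      rw [e]
      exact Q.mul_mem (hQ₁Q h1) hq
    have h2 := h _ hq'
    rw [pow_succ', afn_mul _ _ (hQW hq)]
    have e : afn a (afn (a ^ j) q) * q⁻¹ = (afn a (afn (a ^ j) q) * (afn (a ^ j) q)⁻¹) * (afn (a ^ j) q * q⁻¹) := by group
    rw [e]
    exact Q₁.mul_mem h2 h1

lemma lifts_pow {U : Subgroup Ω} (hUW : U ≤ W₀) {b : MulAut W₀} {a : MulAut U} (h : ∀ x ∈ U, afn b x = afn a x) :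
    ∀ j : ℕ, ∀ x ∈ U, afn (b ^ j) x = afn (a ^ j) x := by
  intro j
  induction j with
  | zero =>
    intro x hx
    rw [pow_zero, pow_zero, afn_one (hUW hx), afn_one hx]
  | succ j ih =>
    intro x hx
    rw [pow_succ', pow_succ', afn_mul _ _ (hUW hx), afn_mul _ _ hx, ih x hx, h _ (afn_mem _ hx)]

namespace LSet

variable [Finite S] [Fact p.Prime] [Finite U] (h : LSet F D Q p)
include h

lemma hat_mod {α : MulAut U} {β : MulAut ↥(U ⊔ centralizerIn S U)} (hβ : β ∈ F.autGroup (U ⊔ centralizerIn S U))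
    (hβ1 : ∀ x ∈ U, afn β x = afn α x)
    (hβ2 : ∀ c ∈ centralizerIn S U, c⁻¹ * afn β c ∈ U ⊓ Subgroup.centralizer (U : Set Ω)) :
    ∀ v ∈ U ⊔ centralizerIn S U, afn β v * v⁻¹ ∈ U := by
  have hVS := h.hVS
  have hβm : Maps F _ (afn β) := (mem_autGroup_iff hVS).1 hβ
  refine sup_ind (fun x hx => ?_) (fun c hc => ?_) ?_ ?_ ?_
  · rw [hβ1 x hx]
    exact U.mul_mem (afn_mem α hx) (U.inv_mem hx)
  · have e : afn β c * c⁻¹ = c * (c⁻¹ * afn β c) * c⁻¹ := by group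
    rw [e]
    exact h.conjU (mem_centralizerIn.1 hc).1 (hβ2 c hc).1
  · intro x hx y hy h1 h2
    rw [hβm.map_mul hx hy]
    have e : afn β x * afn β y * (x * y)⁻¹ = (afn β x * x⁻¹) * (x * (afn β y * y⁻¹) * x⁻¹) := by group
    rw [e]
    exact U.mul_mem h1 (h.conjU (hVS hx) h2)
  · intro x hx h1
    rw [hβm.map_inv hx]
    have e : (afn β x)⁻¹ * x⁻¹⁻¹ = x⁻¹ * (afn β x * x⁻¹)⁻¹ * x⁻¹⁻¹ := by group
    rw [e]
    exact h.conjU (S.inv_mem (hVS hx)) (U.inv_mem h1)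
  · rw [hβm.map_one]
    simp [U.one_mem]

/-- **The top level**: elements of `Aut_D(U)` of order prime to `p` have good extensions. -/
theorem base_good {α : MulAut U} (hα : α ∈ D.autGroup U) (hcop : (orderOf α).Coprime p) : GE F Q (Q ⊓ U) U (afn α) := by
  have hp : p.Prime := Fact.out
  have hVS := h.hVS
  have hUS := h.hUS
  have hQS := h.hQS
  have hUU : U ≤ U ⊔ centralizerIn S U := le_sup_left
  have hCU : centralizerIn S U ≤ U ⊔ centralizerIn S U := le_sup_right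
  obtain ⟨β, hβ, hβ0, hβ00⟩ := h.hD.2 α hα
  have hβ1 : ∀ x ∈ U, afn β x = afn α x := by
    intro x hx
    rw [afn_of_mem β (hUU hx), afn_of_mem α hx]
    exact hβ0 ⟨x, hx⟩
  have hβ2 : ∀ c ∈ centralizerIn S U, c⁻¹ * afn β c ∈ U ⊓ Subgroup.centralizer (U : Set Ω) := by
    intro c hc
    rw [afn_of_mem β (hCU hc)]
    exact hβ00 ⟨c, hCU hc⟩ hc
  have hβm : Maps F _ (afn β) := (mem_autGroup_iff hVS).1 hβ
  have hR : F.IsReceptive (U ⊔ centralizerIn S U) := receptive_of_fullyCentralized h.hS h.hF (of_fullyNormalized h.hS h.hF h.hVn).1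
  obtain ⟨gh, hgh, hgh1⟩ := IsReceptive.ext hR hβm (afn_img β)
  have hconj := fun {q : Ω} (hq : q ∈ Q) => h.hat_conj hα hβ hβ1 hβ2 hq
  have hQN : Q ≤ Nf S (U ⊔ centralizerIn S U) (afn β) := by
    intro q hq
    obtain ⟨u, hu, w, hw, huv⟩ := hconj hq
    exact mem_Nf.2 ⟨hQS hq, h.hNV (hQS hq), u * q * w, S.mul_mem (S.mul_mem (hUS hu) (hQS hq)) (mem_centralizerIn.1 hw).1, huv⟩
  have hVN : U ⊔ centralizerIn S U ≤ Nf S (U ⊔ centralizerIn S U) (afn β) := le_Nf hβm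
  have hW₀N : (U ⊔ centralizerIn S U) ⊔ Q ≤ Nf S (U ⊔ centralizerIn S U) (afn β) := sup_le hVN hQN
  have hb : Maps F ((U ⊔ centralizerIn S U) ⊔ Q) gh := hgh.restrict hW₀N
  have hW₀S : (U ⊔ centralizerIn S U) ⊔ Q ≤ S := sup_le hVS hQS
  have hQW : Q ≤ (U ⊔ centralizerIn S U) ⊔ Q := le_sup_right
  have hVW : U ⊔ centralizerIn S U ≤ (U ⊔ centralizerIn S U) ⊔ Q := le_sup_left
  have hF2 : ∀ q ∈ Q, gh q ∈ Q := fun q hq => StrongMem h.hQsc le_rfl (hb.restrict hQW) hq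
  have hFU : ∀ z ∈ U, gh z ∈ U := fun z hz => StrongMem h.hUsc le_rfl (hb.restrict (hUU.trans hVW)) hz
  have hF3 : ∀ q ∈ Q, gh q * q⁻¹ ∈ Q ⊓ (U ⊔ centralizerIn S U) := by
    intro q hq
    refine ⟨Q.mul_mem (hF2 q hq) (Q.inv_mem hq), ?_⟩
    obtain ⟨u, hu, w, hw, huv⟩ := hconj hq
    have hqN := hQN hq
    have hwS : w ∈ S := (mem_centralizerIn.1 hw).1
    have hhS : u * q * w ∈ S := S.mul_mem (S.mul_mem (hUS hu) (hQS hq)) hwS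
    have hkey : ∀ y ∈ U, y * ((u * q * w)⁻¹ * gh q) = ((u * q * w)⁻¹ * gh q) * y := by
      intro y hy
      have hyV := hUU hy
      have hxV : afn β⁻¹ y ∈ U ⊔ centralizerIn S U := afn_mem _ hyV
      have e1 : gh (q * afn β⁻¹ y * q⁻¹) = gh q * gh (afn β⁻¹ y) * (gh q)⁻¹ := hgh.map_conj hqN (hVN hxV)
      have hcV := h.conjV (hQS hq) hxV
      rw [hgh1 _ hcV, hgh1 _ hxV, huv _ hxV, afn_afn_inv β hyV] at e1
      have e2 : gh q * y = (u * q * w) * y * (u * q * w)⁻¹ * gh q := by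
        rw [e1]
        group
      calc y * ((u * q * w)⁻¹ * gh q) = (u * q * w)⁻¹ * ((u * q * w) * y * (u * q * w)⁻¹ * gh q) := by group
        _ = (u * q * w)⁻¹ * (gh q * y) := by rw [← e2]
        _ = _ := by group
    have heC : w * ((u * q * w)⁻¹ * gh q) ∈ centralizerIn S U := by
      refine Subgroup.mul_mem _ hw (mem_centralizerIn.2 ⟨S.mul_mem (S.inv_mem hhS) (hb.mem (hQW hq)), hkey⟩)
    have e : gh q * q⁻¹ = u * (q * (w * ((u * q * w)⁻¹ * gh q)) * q⁻¹) := by group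
    rw [e]
    exact Subgroup.mul_mem _ (hUU hu) (hCU (h.conjC (hQS hq) heC))
  have hF4 : ∀ v ∈ Q ⊓ (U ⊔ centralizerIn S U), gh v * v⁻¹ ∈ Q ⊓ U := by
    intro v hv
    refine ⟨Q.mul_mem (hF2 v hv.1) (Q.inv_mem hv.1), ?_⟩
    rw [hgh1 v hv.2]
    exact h.hat_mod hβ hβ1 hβ2 v hv.2
  have hmemW : ∀ x ∈ (U ⊔ centralizerIn S U) ⊔ Q, gh x ∈ (U ⊔ centralizerIn S U) ⊔ Q := hb.sup_mem
    (fun x hx => by
      rw [hgh1 x hx]
      exact hVW (afn_mem β hx))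
    (fun x hx => hQW (hF2 x hx))
  have hbimg : img gh ((U ⊔ centralizerIn S U) ⊔ Q) = (U ⊔ centralizerIn S U) ⊔ Q := img_eq_of_card hb hW₀S hW₀S hmemW le_rfl
  let b : MulAut ↥((U ⊔ centralizerIn S U) ⊔ Q) := hb.toAut hbimg
  have hbmem : b ∈ F.autGroup ((U ⊔ centralizerIn S U) ⊔ Q) := hb.toAut_mem hbimg
  have hbv : ∀ x ∈ (U ⊔ centralizerIn S U) ⊔ Q, afn b x = gh x := fun x hx => hb.afn_toAut hbimg hx
  have hbU : ∀ x ∈ U, afn b x = afn α x := by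
    intro x hx
    rw [hbv x (hVW (hUU hx)), hgh1 x (hUU hx), hβ1 x hx]
  haveI : Finite ↥((U ⊔ centralizerIn S U) ⊔ Q) := finite_of_le hW₀S
  haveI : Finite (MulAut ↥((U ⊔ centralizerIn S U) ⊔ Q)) := finite_mulAut hW₀S
  haveI : Finite ↥(Q ⊓ (U ⊔ centralizerIn S U)) := finite_of_le (inf_le_left.trans hQS)
  have hn : ∀ q ∈ Q, ∀ z ∈ Q ⊓ U, q * z * q⁻¹ ∈ Q ⊓ U := fun q hq z hz => ⟨Q.mul_mem (Q.mul_mem hq hz.1) (Q.inv_mem hq), h.conjU (hQS hq) hz.2⟩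
  have hchain := chain_pow' b hQW inf_le_left (Q₁ := Q ⊓ U) inf_le_left hn
    (fun z hz => by
      rw [hbv z (hQW hz.1)]
      exact ⟨hF2 z hz.1, hFU z hz.2⟩)
    (fun q hq => by
      rw [hbv q (hQW hq)]
      exact hF3 q hq)
    (fun v hv => by
      rw [hbv v (hQW hv.1)]
      exact hF4 v hv)
  -- the part of `b` of order prime to `p`
  have hordb : orderOf b ≠ 0 := (orderOf_pos b).ne'
  obtain ⟨e, m, hm, hnm⟩ := Nat.exists_eq_pow_mul_and_not_dvd hordb p hp.ne_one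
  have hmp : m.Coprime p := ((Nat.Prime.coprime_iff_not_dvd hp).2 hm).symm
  obtain ⟨k, hk⟩ := Cfsg.Agent.Lib.FusionWeakEmb.exists_pow_of_coprime (g := α) (n := p ^ e) (Nat.Coprime.pow_right e hcop)
  have hb'U : ∀ x ∈ U, afn ((b ^ p ^ e) ^ k) x = afn α x := by
    intro x hx
    rw [← pow_mul, lifts_pow (hUU.trans hVW) hbU _ x hx, pow_mul, hk]
  have hb'm : ((b ^ p ^ e) ^ k) ^ m = 1 := by
    have e5 : p ^ e * (k * m) = orderOf b * k := by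
      rw [hnm]
      ring
    rw [← pow_mul, ← pow_mul, e5, pow_mul, pow_orderOf_eq_one, one_pow]
  have hcardQ₃ : ∃ i, Nat.card ↥(Q ⊓ (U ⊔ centralizerIn S U)) = p ^ i := IsPGroup.iff_card.1 (h.hS.to_le (inf_le_left.trans hQS))
  obtain ⟨i, hi⟩ := hcardQ₃
  have hcop' : (orderOf ((b ^ p ^ e) ^ k)).Coprime (Nat.card ↥(Q ⊓ (U ⊔ centralizerIn S U))) := by
    rw [hi]
    exact Nat.Coprime.pow_right i (Nat.Coprime.coprime_dvd_left (orderOf_dvd_of_pow_eq_one hb'm) hmp)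
  obtain ⟨k', hk'⟩ := Cfsg.Agent.Lib.FusionWeakEmb.exists_pow_of_coprime hcop'
  have hT : ∀ q ∈ Q, afn ((b ^ p ^ e) ^ k) q * q⁻¹ ∈ Q ⊓ U := by
    rw [← hk']
    have e3 : (((b ^ p ^ e) ^ k) ^ Nat.card ↥(Q ⊓ (U ⊔ centralizerIn S U))) ^ k' =
        (b ^ Nat.card ↥(Q ⊓ (U ⊔ centralizerIn S U))) ^ (p ^ e * k * k') := by
      simp only [← pow_mul]
      congr 1
      ring
    rw [e3]
    exact trivial_pow hQW inf_le_left hchain _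
  have hmem' : (b ^ p ^ e) ^ k ∈ F.autGroup ((U ⊔ centralizerIn S U) ⊔ Q) := Subgroup.pow_mem _ (Subgroup.pow_mem _ hbmem _) _
  have hmm : Maps F _ (afn ((b ^ p ^ e) ^ k)) := (mem_autGroup_iff hW₀S).1 hmem'
  refine ⟨afn ((b ^ p ^ e) ^ k), hmm.restrict (sup_le (hUU.trans hVW) hQW), hb'U, fun q hq => ?_⟩
  have h1 := hT q hq
  have e4 : q⁻¹ * afn ((b ^ p ^ e) ^ k) q = q⁻¹ * (afn ((b ^ p ^ e) ^ k) q * q⁻¹) * q⁻¹⁻¹ := by group
  rw [e4]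
  exact hn _ (Q.inv_mem hq) _ h1

end LSet

end Cfsg.Agent.Lib.FusionCompA
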