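/-
FusionCompL4: maps of a normal subsystem `D` extend over a normal subgroup `Q`, acting trivially on `Q` modulo `Q ∩ T`.
Part 4: the induction.
-/
import Mathlib
import Cfsg.Agent.Lib.FusionCompL3
import Cfsg.Agent.Lib.FusionIndexPrime
import Cfsg.Agent.Lib.FusionHyperfocal
import Cfsg.Agent.Lib.FusionNormalQuot

set_option autoImplicit false
set_option linter.unusedSectionVars false
set_option linter.unusedVariables false
set_option linter.unusedSimpArgs false
set_option linter.style.haveILetI false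

namespace Cfsg.Agent.Lib.FusionCompA

open Cfsg Cfsg.FusionSystem Cfsg.Agent.Lib.FusionCore Cfsg.Agent.Lib.FusionCore2
open Cfsg.Agent.Lib.FusionInvariant (Str Inv Frat isInvariantIn_iff str_of_inv_frat maps_sub StrongMem aut_maps strong_img_le)
open Cfsg.Agent.Lib.AschCore (sc_fullyNormalized)
open Cfsg.Agent.Lib.FusionSatCrit (le_KK mem_KK)
open Cfsg.Agent.Lib.FusionIndexPrime (pEl mem_pEl_of_pow pEl_normal)
open Cfsg.Agent.Lib.PCore

universe u

variable {Ω : Type u} [Group Ω] {S U : Subgroup Ω} {F : FusionSystem S} {D : FusionSystem U} {p : ℕ}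
  {Q Q₁ Q₃ R R₂ W₀ : Subgroup Ω}

namespace LSet

variable [Finite S] [Fact p.Prime] [Finite U] (h : LSet F D Q p)
include h

lemma hQ₁sc : F.StronglyClosed (Q ⊓ U) :=
  Cfsg.Agent.Lib.FusionCore3.stronglyClosed_of_isNormal (Cfsg.Agent.Lib.FusionConstrained.inf_isNormal h.hQ h.hUsc)

/-- Conjugation by elements of `U` has good extensions. -/
lemma ge_conj {t : Ω} (ht : t ∈ U) (hRU : R ≤ U) : GE F Q (Q ⊓ U) R (fun x => t * x * t⁻¹) := by
  have hRS := hRU.trans h.hUS
  refine ⟨fun x => t * x * t⁻¹, Maps.conj (sup_le hRS h.hQS) (h.hUS ht), fun _ _ => rfl, fun q hq => ?_⟩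
  refine ⟨Q.mul_mem (Q.inv_mem hq) (h.conjQ (h.hUS ht) hq), ?_⟩
  have e : q⁻¹ * (t * q * t⁻¹) = (q⁻¹ * t * q⁻¹⁻¹) * t⁻¹ := by group
  rw [e]
  exact U.mul_mem (h.conjU (S.inv_mem (h.hQS hq)) ht) (U.inv_mem ht)

/-- Elements of `p`-power order of `Aut_D(R)` have good extensions, at a fully automized subgroup. -/
lemma ge_of_pow (hRU : R ≤ U) (hA : D.IsFullyAutomized p R) {b : MulAut R} (hb : b ∈ D.autGroup R) {k : ℕ} (hk : b ^ p ^ k = 1) :
    GE F Q (Q ⊓ U) R (afn b) := by
  have hRS := hRU.trans h.hUS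
  haveI : Finite (MulAut R) := finite_mulAut (S := S) hRS
  have hB : IsPGroup p (Subgroup.zpowers b) := by
    rw [IsPGroup.iff_card]
    have h1 : orderOf b ∣ p ^ k := orderOf_dvd_of_pow_eq_one hk
    obtain ⟨j, -, hj⟩ := (Nat.dvd_prime_pow (Fact.out : p.Prime)).1 h1
    exact ⟨j, by rw [Nat.card_zpowers, hj]⟩
  have hBA : Subgroup.zpowers b ≤ D.autGroup R := Subgroup.zpowers_le.2 hb
  obtain ⟨γ, hγ, hγc⟩ := Cfsg.Agent.Lib.FusionCore.IsFullyAutomized.exists_conj hA hB hBA
  obtain ⟨t, ht, htc⟩ := mem_autInducedBy.1 (hγc b (Subgroup.mem_zpowers b))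
  have hγF : Maps F R (afn γ) := maps_sub h.hDF ((mem_autGroup_iff hRU).1 hγ)
  obtain ⟨g, hg, hg1, hg2⟩ := (isNormal_iff.1 h.hQ).2 R (afn γ) hγF
  have hgimg : img g R = R := by
    rw [img_congr hg1, afn_img]
  refine GE.transport inf_le_left h.hQ₁sc (h.ge_conj ht hRU) hg hgimg hg2 (fun x hx => afn_mem b hx) (fun x hx => ?_)
  rw [hg1 _ (afn_mem b hx), hg1 x hx, ← htc _ (afn_mem γ hx), afn_mul _ _ (afn_mem γ hx), afn_mul _ _ (afn_mem γ⁻¹ (afn_mem γ hx)), afn_inv_afn γ hx]

/-- At a fully normalized subgroup, all automorphisms have good extensions, if larger subgroups are known. -/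
theorem good_full (hQR : Q ⊓ U ≤ R) (hRU : R ≤ U) (hn : D.IsFullyNormalized R)
    (hlev : ∀ R' : Subgroup Ω, Nat.card R < Nat.card R' → Q ⊓ U ≤ R' → R' ≤ U → ∀ y, Maps D R' y → img y R' = R' → GE F Q (Q ⊓ U) R' y)
    {a : MulAut R} (ha : a ∈ D.autGroup R) : GE F Q (Q ⊓ U) R (afn a) := by
  have hRS := hRU.trans h.hUS
  haveI : Finite (MulAut R) := finite_mulAut (S := S) hRS
  haveI : Finite ↥(D.autGroup R) := inferInstance
  obtain ⟨hfc, hA⟩ := of_fullyNormalized h.hUp h.hDs hn
  have hRr : D.IsReceptive R := receptive_of_fullyCentralized h.hUp h.hDs hfc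
  let M : Subgroup (MulAut R) := geSub F D Q (Q ⊓ U) R h.hDF h.hUS hRU h.hQS inf_le_left
  let M' : Subgroup ↥(D.autGroup R) := M.subgroupOf (D.autGroup R)
  obtain ⟨-, V, hV⟩ := id hA
  have hpow : ∀ b : ↥(D.autGroup R), ∀ k : ℕ, b ^ p ^ k = 1 → b ∈ M' := by
    intro b k hk
    have hk' : (b : MulAut R) ^ p ^ k = 1 := congrArg Subtype.val hk
    exact Subgroup.mem_subgroupOf.2 ⟨b.2, h.ge_of_pow hRU hA b.2 hk'⟩
  have hVp : ∀ v ∈ (V : Subgroup ↥(D.autGroup R)), v ∈ M' := by
    intro v hv
    obtain ⟨n, hn'⟩ := V.isPGroup' ⟨v, hv⟩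
    exact hpow v n (by simpa using congrArg Subtype.val hn')
  have hmem : (⟨a, ha⟩ : ↥(D.autGroup R)) ∈ M' := by
    by_cases hRe : R = U
    · -- the top
      subst hRe
      obtain ⟨κ, hκ, r, hr, e⟩ := Cfsg.Agent.Lib.FusionHyperfocal.exists_pResidual_mul_sylow V ⟨a, ha⟩
      rw [e]
      refine M'.mul_mem ?_ (hVp r hr)
      have hres : pResidual p ↥(D.autGroup R) ≤ M' := by
        rw [pResidual, Subgroup.closure_le]
        intro x hx
        have hcop : (orderOf (x : MulAut R)).Coprime p := by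
          have : (orderOf x).Coprime p := hx
          rwa [Subgroup.orderOf_coe]
        exact Subgroup.mem_subgroupOf.2 ⟨x.2, h.base_good x.2 hcop⟩
      exact hres hκ
    · -- below the top
      have hlt : R < U := lt_of_le_of_ne hRU hRe
      have hRN : R < normalizerIn U R := Cfsg.Agent.Lib.FusionAlperin.lt_normalizerIn h.hUp hlt
      have hNU : normalizerIn U R ≤ U := inf_le_left
      haveI : Finite ↥(normalizerIn U R) := finite_of_le hNU
      have hcard : Nat.card R < Nat.card ↥(normalizerIn U R) := Cfsg.Agent.Lib.FusionAlperin.card_lt_of_lt hRN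
      have hVN : (V : Subgroup ↥(D.autGroup R)) ≤ pEl p ↥(D.autGroup R) := by
        intro v hv
        obtain ⟨n, hn'⟩ := V.isPGroup' ⟨v, hv⟩
        exact mem_pEl_of_pow (n := n) (by simpa using congrArg Subtype.val hn')
      have hFr := V.normalizer_sup_eq_top' hVN
      have hle : (⊤ : Subgroup ↥(D.autGroup R)) ≤ M' := by
        rw [← hFr]
        refine sup_le ?_ ?_
        · -- the normalizer of the Sylow subgroup
          intro b hb
          have hbm : Maps D R (afn (b : MulAut R)) := (mem_autGroup_iff hRU).1 b.2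
          obtain ⟨k, hk, hk1⟩ := IsReceptive.ext hRr hbm (afn_img _)
          have hNN : normalizerIn U R ≤ Nf U R (afn (b : MulAut R)) := by
            intro t ht
            have htU : t ∈ U := ht.1
            have htN : t ∈ Subgroup.normalizer (R : Set Ω) := ht.2
            have hcV : conjN U R ⟨t, ht⟩ ∈ autInducedBy U R := by
              rw [← conjN_range]
              exact ⟨_, rfl⟩
            have hcA : conjN U R ⟨t, ht⟩ ∈ D.autGroup R := autInducedBy_le_autGroup hRU hcV
            have hcVV : (⟨conjN U R ⟨t, ht⟩, hcA⟩ : ↥(D.autGroup R)) ∈ (V : Subgroup ↥(D.autGroup R)) := by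
              rw [hV]
              exact Subgroup.mem_subgroupOf.2 hcV
            have h2 := (Subgroup.mem_normalizer_iff.1 hb _).1 hcVV
            rw [hV] at h2
            have h3 := Subgroup.mem_subgroupOf.1 h2
            obtain ⟨t', ht', ht'v⟩ := mem_autInducedBy.1 h3
            refine mem_Nf.2 ⟨htU, htN, t', ht', fun x hx => ?_⟩
            have e1 := ht'v _ (afn_mem (b : MulAut R) hx)
            have e2 : afn ((b : MulAut R) * conjN U R ⟨t, ht⟩ * (b : MulAut R)⁻¹) (afn (b : MulAut R) x) = afn (b : MulAut R) (t * x * t⁻¹) := by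
              rw [afn_mul _ _ (afn_mem _ hx), afn_mul _ _ (afn_mem _ (afn_mem _ hx)), afn_inv_afn _ hx, afn_conjN _ hx]
            have e3 : ((b * (⟨conjN U R ⟨t, ht⟩, hcA⟩ : ↥(D.autGroup R)) * b⁻¹ : ↥(D.autGroup R)) : MulAut R) = (b : MulAut R) * conjN U R ⟨t, ht⟩ * (b : MulAut R)⁻¹ := rfl
            rw [e3] at e1
            rw [← e2, e1]
          have hkN : Maps D (normalizerIn U R) k := hk.restrict hNN
          have hkR : ∀ x ∈ R, k x ∈ R := fun x hx => by
            rw [hk1 x hx]
            exact afn_mem _ hx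
          have hkRimg : img k R = R := by
            rw [img_congr hk1, afn_img]
          have hRNle : R ≤ normalizerIn U R := hRN.le
          have hkmem : ∀ t ∈ normalizerIn U R, k t ∈ normalizerIn U R := by
            intro t ht
            refine ⟨hkN.mem ht, Subgroup.mem_normalizer_iff.2 ?_⟩
            intro y
            have hinj : ∀ z ∈ R, k t * k z * (k t)⁻¹ ∈ R := by
              intro z hz
              rw [← hkN.map_conj ht (hRNle hz)]
              exact hkR _ ((Subgroup.mem_normalizer_iff.1 ht.2 z).1 hz)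
            constructor
            · intro hy
              rw [← hkRimg] at hy
              obtain ⟨z, hz, rfl⟩ := (hkN.restrict hRNle).mem_img.1 hy
              exact hinj z hz
            · intro hy
              -- use finiteness
              have hsurj : ∀ w ∈ R, ∃ z ∈ R, k z = w := by
                intro w hw
                rw [← hkRimg] at hw
                exact (hkN.restrict hRNle).mem_img.1 hw
              have hy' : k t⁻¹ * (k t * y * (k t)⁻¹) * (k t⁻¹)⁻¹ ∈ R := by
                obtain ⟨z, hz, e⟩ := hsurj _ hy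
                have htinv : t⁻¹ ∈ normalizerIn U R := Subgroup.inv_mem _ ht
                rw [← e, ← hkN.map_conj htinv (hRNle hz)]
                exact hkR _ ((Subgroup.mem_normalizer_iff.1 htinv.2 z).1 hz)
              have e4 : k t⁻¹ = (k t)⁻¹ := hkN.map_inv ht
              rw [e4] at hy'
              have e5 : (k t)⁻¹ * (k t * y * (k t)⁻¹) * (k t)⁻¹⁻¹ = y := by group
              rwa [e5] at hy'
          have hkimg : img k (normalizerIn U R) = normalizerIn U R := img_eq_of_card hkN hNU hNU hkmem le_rfl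
          have hQN : Q ⊓ U ≤ normalizerIn U R := hQR.trans hRNle
          have hgood := hlev _ hcard hQN hNU k hkN hkimg
          exact Subgroup.mem_subgroupOf.2 ⟨b.2, (hgood.restrict hRNle).congr hk1⟩
        · have hcl : pEl p ↥(D.autGroup R) ≤ M' := by
            rw [pEl, Subgroup.closure_le]
            intro x hx
            obtain ⟨k, hk⟩ := hx
            refine hpow x k ?_
            rw [← hk, pow_orderOf_eq_one]
          exact hcl
      exact hle (Subgroup.mem_top _)
  exact (Subgroup.mem_subgroupOf.1 hmem).2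

/-- **All maps of `D` on subgroups containing `Q ∩ U` have good extensions.** -/
theorem exists_good : ∀ R : Subgroup Ω, Q ⊓ U ≤ R → R ≤ U → ∀ y, Maps D R y → img y R = R → GE F Q (Q ⊓ U) R y := by
  have main : ∀ (n : ℕ) (R : Subgroup Ω), Nat.card U - Nat.card R = n → Q ⊓ U ≤ R → R ≤ U → ∀ y, Maps D R y → img y R = R → GE F Q (Q ⊓ U) R y := by
    intro n
    induction' n using Nat.strong_induction_on with n ih
    intro R hn hQR hRU y hy hyimg
    have hlev : ∀ R' : Subgroup Ω, Nat.card R < Nat.card R' → Q ⊓ U ≤ R' → R' ≤ U → ∀ y, Maps D R' y → img y R' = R' → GE F Q (Q ⊓ U) R' y := by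
      intro R' hc hQR' hR'U y' hy' hy'img
      have hcU : Nat.card R' ≤ Nat.card U := Subgroup.card_le_of_le hR'U
      exact ih _ (by omega) R' rfl hQR' hR'U y' hy' hy'img
    obtain ⟨R₂, hconj, hfull⟩ := exists_fullyNormalized_conj (F := D) hRU
    obtain ⟨ψ, hψ, rfl⟩ := isConj_iff.1 hconj
    have hcc : Nat.card ↥(img ψ R) = Nat.card R := hψ.card_img
    have hψF : Maps F R ψ := maps_sub h.hDF hψ
    have hQR₂ : Q ⊓ U ≤ img ψ R := Cfsg.Agent.Lib.FusionNormalQuot.sc_le_img h.hQ₁sc hψF hQR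
    obtain ⟨ψi, hψi, hψi1, hψi2⟩ := hψ.inv
    -- the transported automorphism
    have hymem : ∀ x ∈ R, y x ∈ R := fun x hx => by
      rw [← hyimg]
      exact hy.mem_img_of_mem hx
    have hy₂ : Maps D (img ψ R) (ψ ∘ y ∘ ψi) := by
      refine hψi.comp (hy.comp hψ hymem) (fun z hz => (hψi2 z hz).1)
    have hy₂mem : ∀ z ∈ img ψ R, (ψ ∘ y ∘ ψi) z ∈ img ψ R := fun z hz => by
      simp only [Function.comp]
      exact hψ.mem_img_of_mem (hymem _ (hψi2 z hz).1)
    have hR₂U : img ψ R ≤ U := hψ.img_le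
    have hy₂img : img (ψ ∘ y ∘ ψi) (img ψ R) = img ψ R := img_eq_of_card hy₂ hR₂U hR₂U hy₂mem le_rfl
    have hg₂ : GE F Q (Q ⊓ U) (img ψ R) (afn (hy₂.toAut hy₂img)) :=
      h.good_full hQR₂ hR₂U hfull (fun R' hc' => hlev R' (by rw [← hcc]; exact hc')) (hy₂.toAut_mem hy₂img)
    obtain ⟨g, hg, hg1, hg2⟩ := (isNormal_iff.1 h.hQ).2 R ψ hψF
    refine GE.transport inf_le_left h.hQ₁sc hg₂ hg ?_ hg2 hymem (fun x hx => ?_)
    · rw [img_congr hg1]
    · rw [hg1 _ (hymem x hx), hg1 x hx, hy₂.afn_toAut hy₂img (hψ.mem_img_of_mem hx)]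
      simp only [Function.comp]
      rw [hψi1 x hx]
  intro R hQR hRU y hy hyimg
  exact main _ R rfl hQR hRU y hy hyimg

end LSet

end Cfsg.Agent.Lib.FusionCompA
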