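/-
FusionCompQ: subgroups normal in a quasisimple system are central; the inner system of a normal subgroup is normal.
-/
import Mathlib
import Cfsg.Agent.Lib.FusionCompA
import Cfsg.Agent.Lib.FusionNormalQuot
import Cfsg.Agent.Lib.FusionCentralQuot
import Cfsg.Agent.Lib.FusionAbelian
import Cfsg.Agent.Lib.FusionStrongClosed
import Cfsg.Agent.S5144
import Cfsg.Agent.S5145

set_option autoImplicit false
set_option linter.unusedSectionVars false
set_option linter.unusedVariables false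
set_option linter.unusedSimpArgs false
set_option linter.style.haveILetI false

namespace Cfsg.Agent.Lib.FusionCompA

open Cfsg Cfsg.FusionSystem Cfsg.Agent.Lib.FusionCore Cfsg.Agent.Lib.FusionCore2
open Cfsg.Agent.Lib.FusionInvariant (Str Inv Frat isInvariantIn_iff str_of_inv_frat maps_sub StrongMem aut_maps strong_img_le)
open Cfsg.Agent.Lib.AschCore (sc_fullyNormalized)
open Cfsg.Agent.Lib.FusionGT Cfsg.Agent.Lib.FusionFactor Cfsg.Agent.Lib.FusionStrongClosed Cfsg.Agent.Lib.FusionQuotSat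
open Cfsg.Agent.Lib.FusionNormalQuot

universe u

variable {Ω : Type u} [Group Ω] {S : Subgroup Ω} {F : FusionSystem S} {p : ℕ} {Q Q₂ Z : Subgroup Ω}

/-- The inner system of a normal subgroup is normal. -/
theorem inner_isNormalIn [Finite S] [Fact p.Prime] (hS : IsPGroup p S) (hF : F.IsSaturated p) (hQ : F.IsNormal Q) :
    (innerFusionSystem Q).IsNormalIn F p := by
  have hQS := hQ.1
  refine ⟨Cfsg.Agent.S5290.forward hS F hF Q hQS hQ, fun α hα => ?_⟩
  have hm : Maps (innerFusionSystem Q) Q (afn α) := (mem_autGroup_iff le_rfl).1 hα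
  obtain ⟨φ, hφ, hfφ⟩ := hm
  obtain ⟨-, g, hg, hgv⟩ := hφ
  have hαv : ∀ x ∈ Q, afn α x = g * x * g⁻¹ := fun x hx => by
    rw [← hfφ ⟨x, hx⟩]
    exact hgv ⟨x, hx⟩
  obtain ⟨θ, hθ, hθv⟩ := Cfsg.Agent.Lib.AschCore.exists_conj_pres (F := F) hQS (hQS hg) (Subgroup.le_normalizer hg)
  refine ⟨θ, hθ.mem, fun x => ?_, fun c hc => ?_⟩
  · have h1 := hθv x (Cfsg.Agent.Lib.AschCore.Q_le_KK x.2)
    rw [afn_of_mem θ (Cfsg.Agent.Lib.AschCore.Q_le_KK x.2)] at h1
    have h2 := hαv x x.2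
    rw [afn_of_mem α x.2] at h2
    exact h1.trans h2.symm
  · have h1 := hθv c c.2
    rw [afn_of_mem θ c.2] at h1
    have h2 : ((θ c : ↥(Q ⊔ centralizerIn S Q)) : Ω) = g * c * g⁻¹ := h1
    rw [h2]
    have hcomm : g * (c : Ω) = c * g := (mem_centralizerIn.1 hc).2 g hg
    rw [hcomm]
    simp only [mul_inv_cancel_right, inv_mul_cancel]
    exact Subgroup.one_mem _

/-- The centre of a normal subgroup is normal. -/
theorem center_isNormal [Finite S] [Fact p.Prime] (hS : IsPGroup p S) (hF : F.IsSaturated p) (hQ : F.IsNormal Q) :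
    F.IsNormal (Q ⊓ Subgroup.centralizer (Q : Set Ω)) := by
  have hQS := hQ.1
  have hZS : Q ⊓ Subgroup.centralizer (Q : Set Ω) ≤ S := inf_le_left.trans hQS
  refine Cfsg.Agent.Lib.FusionNormalCrit.isNormal_of_ext hS hF hZS (fun P hPZ φ hφ => ?_)
  obtain ⟨γ, hγ, hγv⟩ := Cfsg.Agent.S5290.exists_aut_of_isNormal hQ (hPZ.trans inf_le_left) hφ
  have hγm : Maps F Q (afn γ) := (mem_autGroup_iff hQS).1 hγ
  have hZm : Maps F (Q ⊓ Subgroup.centralizer (Q : Set Ω)) (afn γ) := hγm.restrict inf_le_left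
  have hmem : ∀ x ∈ Q ⊓ Subgroup.centralizer (Q : Set Ω), afn γ x ∈ Q ⊓ Subgroup.centralizer (Q : Set Ω) := by
    intro x hx
    refine ⟨afn_mem γ hx.1, Subgroup.mem_centralizer_iff.2 (fun y hy => ?_)⟩
    have h1 := Subgroup.mem_centralizer_iff.1 hx.2 _ (afn_mem γ⁻¹ hy)
    have e : y = afn γ (afn γ⁻¹ y) := (afn_afn_inv γ hy).symm
    rw [e, ← hγm.map_mul (afn_mem γ⁻¹ hy) hx.1, h1, hγm.map_mul hx.1 (afn_mem γ⁻¹ hy)]
  have himg : img (afn γ) (Q ⊓ Subgroup.centralizer (Q : Set Ω)) = Q ⊓ Subgroup.centralizer (Q : Set Ω) :=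
    img_eq_of_card hZm hZS hZS hmem le_rfl
  refine ⟨hZm.toAut himg, hZm.toAut_mem himg, fun x => ?_⟩
  have e1 := hZm.afn_toAut himg (hPZ x.2)
  rw [afn_of_mem _ (hPZ x.2)] at e1
  have e2 := hγv x
  have e3 : afn γ x = φ x := by
    rw [afn_of_mem γ (hPZ x.2).1]
    exact e2
  rw [← e3]
  exact e1

section Factor

variable {Ω' : Type*} [Group Ω'] {S' : Subgroup Ω'} {θ : S →* Ω'} {F' : FusionSystem S'}

/-- The image of a normal subgroup in a factor system is normal. -/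
theorem factor_isNormal [Finite S] [Finite S'] [Fact p.Prime] (hfac : F.IsFactorSystem Z θ F') (hsc : F.StronglyClosed Z) (hS' : IsPGroup p S')
    (hF' : F'.IsSaturated p) (hQ₂ : F.IsNormal Q₂) (hZQ : Z ≤ Q₂) : F'.IsNormal (imageAlong θ Q₂) := by
  have hQ₂S := hQ₂.1
  have hle : imageAlong θ Q₂ ≤ S' := imageAlong_le hfac.2.2.1 Q₂
  have hpre : preimageAlong θ (imageAlong θ Q₂) = Q₂ := by
    rw [preimageAlong_imageAlong hfac.1 hfac.2.1 hQ₂S, sup_eq_left.2 hZQ]
  refine Cfsg.Agent.Lib.FusionNormalCrit.isNormal_of_ext hS' hF' hle (fun P hPQ φ hφ => ?_)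
  obtain ⟨f, hf, hfv⟩ := maps_lift hfac (Maps.of_mem hφ)
  have hP₂ : preimageAlong θ P ≤ Q₂ := by
    intro x hx
    rw [← hpre]
    exact mem_pre.2 ⟨(mem_pre.1 hx).1, hPQ (mem_pre.1 hx).2⟩
  obtain ⟨γ, hγ, hγv⟩ := Cfsg.Agent.S5290.exists_aut_of_isNormal hQ₂ hP₂ hf.hom_mem
  have hγm : Maps F Q₂ (afn γ) := (mem_autGroup_iff hQ₂S).1 hγ
  have hγm' : Maps F (preimageAlong θ (imageAlong θ Q₂)) (afn γ) := by
    rw [hpre]
    exact hγm
  obtain ⟨f'', hf'', hf''v⟩ := maps_desc hfac hsc hle hγm'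
  have himg : img f'' (imageAlong θ Q₂) = imageAlong θ Q₂ := by
    refine img_eq_of_card hf'' hle hle (fun y hy => ?_) le_rfl
    obtain ⟨x, hx, hxS, rfl⟩ := mem_image.1 hy
    have hxp : x ∈ preimageAlong θ (imageAlong θ Q₂) := by
      rw [hpre]
      exact hx
    rw [hf''v x hxp]
    exact mem_image.2 ⟨afn γ x, afn_mem γ hx, hQ₂S (afn_mem γ hx), rfl⟩
  refine ⟨hf''.toAut himg, hf''.toAut_mem himg, fun x => ?_⟩
  have hxQ := hPQ x.2
  have e1 := hf''.afn_toAut himg hxQ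
  rw [afn_of_mem _ hxQ] at e1
  obtain ⟨s, hs, hsx⟩ := exists_qf hfac (hle hxQ)
  have hsP : s ∈ preimageAlong θ P := mem_pre.2 ⟨hs, hsx ▸ x.2⟩
  have hsp : s ∈ preimageAlong θ (imageAlong θ Q₂) := by
    rw [hpre]
    exact hP₂ hsP
  have e2 := hf''v s hsp
  have e3 := hfv s hsP
  have e4 : afn γ s = f s := by
    rw [afn_of_mem γ (hP₂ hsP), ← hf.hom_apply ⟨s, hsP⟩]
    exact hγv ⟨s, hsP⟩
  have e5 : (⟨(x : Ω'), hxQ⟩ : ↥(imageAlong θ Q₂)) = Subgroup.inclusion hPQ x := rfl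
  rw [e5] at e1
  refine e1.trans ?_
  rw [← hsx, e2, e4, e3, hsx, fn_of_mem φ x.2]

end Factor

/-- **A subgroup normal in a quasisimple system is central.** -/
theorem qs_le_center [Finite S] [Fact p.Prime] (hS : IsPGroup p S) (hq : F.Quasisimple p) (hQ : F.IsNormal Q) : Q ≤ F.center := by
  obtain ⟨hF, hhyp, hsimple⟩ := hq
  have hZc : F.IsCentral F.center := Cfsg.Agent.S5144.result F
  have hZS : F.center ≤ S := hZc.1
  have hZsc : F.StronglyClosed F.center := Cfsg.Agent.Lib.FusionCentralQuot.stronglyClosed_central hZc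
  let K := F.center.subgroupOf S
  have hθk : ∀ s : S, QuotientGroup.mk' K s = 1 ↔ (s : Ω) ∈ F.center := by
    intro s
    rw [QuotientGroup.mk'_apply, QuotientGroup.eq_one_iff, Subgroup.mem_subgroupOf]
  have hθr : (QuotientGroup.mk' K).range = ⊤ := by
    rw [MonoidHom.range_eq_top]
    exact QuotientGroup.mk'_surjective K
  obtain ⟨E, hE⟩ := Cfsg.Agent.Lib.FusionFactor.exists_factorSystem F hZsc hθk hθr
  have hEs := hsimple E hE
  obtain ⟨hEsat, hEne, hEn⟩ := id hEs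
  have : Finite (S ⧸ K) := inferInstance
  have : Finite (⊤ : Subgroup (S ⧸ K)) := inferInstance
  have hpT : IsPGroup p (⊤ : Subgroup (S ⧸ K)) := by
    have h1 : IsPGroup p (S ⧸ K) := hS.to_quotient K
    exact h1.to_subgroup ⊤
  have hZn : F.IsNormal F.center := by
    refine isNormal_iff.2 ⟨hZS, fun P f hf => ?_⟩
    obtain ⟨g, hg, h1, h2⟩ := (isCentral_iff.1 hZc).2 P f hf
    exact ⟨g, hg, h1, img_eq_of_card (hg.restrict le_sup_right) hZS hZS (fun x hx => by rw [h2 x hx]; exact hx) le_rfl⟩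
  have hQ₂n : F.IsNormal (Q ⊔ F.center) := Cfsg.Agent.S5145.isNormal_sup F Q _ hQ hZn
  have hQb := factor_isNormal hE hZsc hpT hEsat hQ₂n le_sup_right
  have hWb := center_isNormal hpT hEsat hQb
  have hin := inner_isNormalIn hpT hEsat hWb
  set Qb := imageAlong (QuotientGroup.mk' K) (Q ⊔ F.center) with hQbdef
  have hab : ∀ x ∈ Qb ⊓ Subgroup.centralizer (Qb : Set _), ∀ y ∈ Qb ⊓ Subgroup.centralizer (Qb : Set _), x * y = y * x := by
    intro x hx y hy
    exact (Subgroup.mem_centralizer_iff.1 hy.2 x hx.1)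
  have hQbbot : Qb = ⊥ := by
    rcases hEn _ _ hin with hbot | ⟨-, hall⟩
    · -- the centre of `Qb` is trivial
      by_contra hne
      haveI : Finite Qb := inferInstance
      have hQbp : IsPGroup p Qb := IsPGroup.to_subgroup (hS.to_quotient K) Qb
      haveI : Nontrivial Qb := (Subgroup.nontrivial_iff_ne_bot _).2 hne
      haveI := hQbp.center_nontrivial
      obtain ⟨z, hz⟩ := exists_ne (1 : Subgroup.center Qb)
      have hz1 : ((z : Qb) : S ⧸ K) ∈ Qb ⊓ Subgroup.centralizer (Qb : Set _) := by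
        refine ⟨(z : Qb).2, Subgroup.mem_centralizer_iff.2 (fun y hy => ?_)⟩
        have := Subgroup.mem_center_iff.1 z.2 ⟨y, hy⟩
        exact congrArg Subtype.val this
      rw [hbot] at hz1
      apply hz
      exact Subtype.ext (Subtype.ext (Subgroup.mem_bot.1 hz1))
    · exfalso
      have hid : ∀ (P : Subgroup (S ⧸ K)) (φ : P →* (S ⧸ K)), φ ∈ E.Hom P → ∀ x : P, φ x = x := by
        intro P φ hφ x
        rw [← hall] at hφ
        exact Cfsg.Agent.Lib.FusionAbelian.inner_hom_eq hab hφ x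
      have hm := Cfsg.Agent.Lib.FusionStrongClosed.isSurjectiveMorphism_of_isFactorSystem hS hF hZsc hE
      have hmod : ∀ (P : Subgroup Ω) (φ : P →* Ω), φ ∈ F.Hom P → ∀ x : P, (x : Ω)⁻¹ * φ x ∈ F.center := by
        intro P φ hφ x
        obtain ⟨φ', hφ', hP, hφS, hP', hind⟩ := hm.1.2 P φ hφ
        have h1 := hind x
        rw [hid _ φ' hφ'] at h1
        have h2 : QuotientGroup.mk' K ((⟨x, hP x.2⟩ : S)⁻¹ * ⟨φ x, hφS x⟩) = 1 := by
          rw [map_mul, map_inv, ← h1]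
          simp
        exact (hθk _).mp h2
      have hle : F.hyperfocalSubgroup p ≤ F.center := by
        unfold hyperfocalSubgroup
        rw [Subgroup.closure_le]
        rintro _ ⟨P, α, x, hP, -, rfl⟩
        exact hmod P _ ((Cfsg.Agent.Lib.FusionSatBasic.mem_autGroup F hP _).mp α.2) x
      rw [hhyp] at hle
      apply hEne
      rw [eq_bot_iff]
      intro y _
      obtain ⟨s, rfl⟩ := QuotientGroup.mk'_surjective K y
      exact Subgroup.mem_bot.mpr ((hθk s).mpr (hle s.2))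
  intro q hq
  have hqS := hQ.1 hq
  have h1 : QuotientGroup.mk' K ⟨q, hqS⟩ ∈ Qb := by
    refine ⟨⟨q, hqS⟩, Subgroup.mem_subgroupOf.2 ((le_sup_left : Q ≤ Q ⊔ F.center) hq), rfl⟩
  rw [hQbbot] at h1
  exact (hθk _).1 (Subgroup.mem_bot.1 h1)

/-- A quasisimple system is not constrained. -/
theorem qs_not_constrained [Finite S] [Fact p.Prime] (hS : IsPGroup p S) (hq : F.Quasisimple p) : ¬ F.IsConstrained p := by
  rintro ⟨-, R, hRn, hRc⟩
  obtain ⟨hF, hhyp, hsimple⟩ := id hq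
  have hRZ : R ≤ F.center := qs_le_center hS hq hRn
  have hZc : F.IsCentral F.center := Cfsg.Agent.S5144.result F
  have hZS : F.center ≤ S := hZc.1
  have hZsc : F.StronglyClosed F.center := Cfsg.Agent.Lib.FusionCentralQuot.stronglyClosed_central hZc
  let K := F.center.subgroupOf S
  have hθk : ∀ s : S, QuotientGroup.mk' K s = 1 ↔ (s : Ω) ∈ F.center := by
    intro s
    rw [QuotientGroup.mk'_apply, QuotientGroup.eq_one_iff, Subgroup.mem_subgroupOf]
  have hθr : (QuotientGroup.mk' K).range = ⊤ := by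
    rw [MonoidHom.range_eq_top]
    exact QuotientGroup.mk'_surjective K
  obtain ⟨E, hE⟩ := Cfsg.Agent.Lib.FusionFactor.exists_factorSystem F hZsc hθk hθr
  obtain ⟨-, hEne, -⟩ := hsimple E hE
  apply hEne
  rw [eq_bot_iff]
  intro y _
  obtain ⟨s, rfl⟩ := QuotientGroup.mk'_surjective K y
  refine Subgroup.mem_bot.mpr ((hθk s).mpr (hRZ ?_))
  refine hRc.2 R (isConj_refl hRc.1) ?_
  refine mem_centralizerIn.2 ⟨s.2, fun x hx => ?_⟩
  exact Subgroup.mem_centralizer_iff.1 (F.center_le_centralizer (hRZ hx)) s s.2 |>.symm ▸ rfl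

end Cfsg.Agent.Lib.FusionCompA
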