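/-
FusionCompC: components centralize the subgroups normal in the system.
-/
import Mathlib
import Cfsg.Agent.Lib.FusionCompL4
import Cfsg.Agent.Lib.FusionCompQ
import Cfsg.Agent.Lib.AschGen
import Cfsg.Agent.Lib.FusionCompIso

set_option autoImplicit false
set_option linter.unusedSectionVars false
set_option linter.unusedVariables false
set_option linter.unusedSimpArgs false
set_option linter.style.haveILetI false

namespace Cfsg.Agent.Lib.FusionCompA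

open Cfsg Cfsg.FusionSystem Cfsg.Agent.Lib.FusionCore Cfsg.Agent.Lib.FusionCore2
open Cfsg.Agent.Lib.FusionInvariant (Str Inv Frat isInvariantIn_iff str_of_inv_frat maps_sub StrongMem aut_maps strong_img_le)
open Cfsg.Agent.Lib.AschCore (sc_fullyNormalized extSub MMsys maps_MMsys MM cext_congr cext_conj)

universe u

variable {Ω : Type u} [Group Ω] {S U T : Subgroup Ω} {F : FusionSystem S} {D : FusionSystem U} {C : FusionSystem T} {p : ℕ}
  {Q Q₁ Q₃ R P W₀ : Subgroup Ω}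

/-- The part of order prime to `p`. -/
lemma exists_pprime_part [Fact p.Prime] [Finite (MulAut W₀)] (hPW : P ≤ W₀) (hQW : Q ≤ W₀) (hQ₁Q : Q₁ ≤ Q) (b : MulAut W₀) (y : MulAut P)
    (hby : ∀ x ∈ P, afn b x = afn y x) (hcop : (orderOf y).Coprime p) {i : ℕ}
    (hchain : ∀ q ∈ Q, afn (b ^ p ^ i) q * q⁻¹ ∈ Q₁) :
    ∃ b' : MulAut W₀, (∃ j : ℕ, b' = b ^ j) ∧ (∀ x ∈ P, afn b' x = afn y x) ∧ ∀ q ∈ Q, afn b' q * q⁻¹ ∈ Q₁ := by
  have hp : p.Prime := Fact.out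
  have hordb : orderOf b ≠ 0 := (orderOf_pos b).ne'
  obtain ⟨e, m, hm, hnm⟩ := Nat.exists_eq_pow_mul_and_not_dvd hordb p hp.ne_one
  have hmp : m.Coprime p := ((Nat.Prime.coprime_iff_not_dvd hp).2 hm).symm
  obtain ⟨k, hk⟩ := Cfsg.Agent.Lib.FusionWeakEmb.exists_pow_of_coprime (g := y) (n := p ^ e) (Nat.Coprime.pow_right e hcop)
  have hb'U : ∀ x ∈ P, afn ((b ^ p ^ e) ^ k) x = afn y x := by
    intro x hx
    rw [← pow_mul, lifts_pow hPW hby _ x hx, pow_mul, hk]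
  have hb'm : ((b ^ p ^ e) ^ k) ^ m = 1 := by
    have e5 : p ^ e * (k * m) = orderOf b * k := by
      rw [hnm]
      ring
    rw [← pow_mul, ← pow_mul, e5, pow_mul, pow_orderOf_eq_one, one_pow]
  have hcop' : (orderOf ((b ^ p ^ e) ^ k)).Coprime (p ^ i) :=
    Nat.Coprime.pow_right i (Nat.Coprime.coprime_dvd_left (orderOf_dvd_of_pow_eq_one hb'm) hmp)
  obtain ⟨k', hk'⟩ := Cfsg.Agent.Lib.FusionWeakEmb.exists_pow_of_coprime hcop'
  have hT : ∀ q ∈ Q, afn ((b ^ p ^ e) ^ k) q * q⁻¹ ∈ Q₁ := by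
    rw [← hk']
    have e3 : (((b ^ p ^ e) ^ k) ^ p ^ i) ^ k' = (b ^ p ^ i) ^ (p ^ e * k * k') := by
      simp only [← pow_mul]
      congr 1
      ring
    rw [e3]
    exact trivial_pow hQW hQ₁Q hchain _
  exact ⟨_, ⟨p ^ e * k, by rw [pow_mul]⟩, hb'U, hT⟩

namespace LSet

variable [Finite S] [Fact p.Prime] [Finite U] (h : LSet F D Q p)
include h

/-- An element of order prime to `p` extending to `D` fixing `Q ∩ U` extends to `F` fixing `Q`. -/
theorem cext_pprime {y : MulAut P} (hPU : P ≤ U) (hcop : (orderOf y).Coprime p) (hyC : CExt D (Q ⊓ U) P (afn y)) :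
    CExt F Q P (afn y) := by
  have hUS := h.hUS
  have hQS := h.hQS
  obtain ⟨y₁, hy₁, h1, h2⟩ := hyC
  have hRU : P ⊔ (Q ⊓ U) ≤ U := sup_le hPU inf_le_right
  have hmemR : ∀ x ∈ P ⊔ (Q ⊓ U), y₁ x ∈ P ⊔ (Q ⊓ U) := hy₁.sup_mem
    (fun x hx => by
      rw [h1 x hx]
      exact (le_sup_left : P ≤ _) (afn_mem y hx))
    (fun x hx => by
      rw [h2 x hx]
      exact (le_sup_right : Q ⊓ U ≤ _) hx)
  have himg : img y₁ (P ⊔ (Q ⊓ U)) = P ⊔ (Q ⊓ U) := img_eq_of_card hy₁ hRU hRU hmemR le_rfl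
  obtain ⟨g, hg, hg1, hg2⟩ := h.exists_good _ le_sup_right hRU y₁ hy₁ himg
  have hWS : (P ⊔ (Q ⊓ U)) ⊔ Q ≤ S := sup_le (hRU.trans hUS) hQS
  have hQW : Q ≤ (P ⊔ (Q ⊓ U)) ⊔ Q := le_sup_right
  have hRW : P ⊔ (Q ⊓ U) ≤ (P ⊔ (Q ⊓ U)) ⊔ Q := le_sup_left
  have hmemW : ∀ x ∈ (P ⊔ (Q ⊓ U)) ⊔ Q, g x ∈ (P ⊔ (Q ⊓ U)) ⊔ Q := hg.sup_mem
    (fun x hx => by
      rw [hg1 x hx]
      exact hRW (hmemR x hx))
    (fun x hx => hQW (GE.val_mem inf_le_left hg2 hx))
  have himgW : img g ((P ⊔ (Q ⊓ U)) ⊔ Q) = (P ⊔ (Q ⊓ U)) ⊔ Q := img_eq_of_card hg hWS hWS hmemW le_rfl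
  let b : MulAut ↥((P ⊔ (Q ⊓ U)) ⊔ Q) := hg.toAut himgW
  have hbmem : b ∈ F.autGroup ((P ⊔ (Q ⊓ U)) ⊔ Q) := hg.toAut_mem himgW
  have hbv : ∀ x ∈ (P ⊔ (Q ⊓ U)) ⊔ Q, afn b x = g x := fun x hx => hg.afn_toAut himgW hx
  have hPW : P ≤ (P ⊔ (Q ⊓ U)) ⊔ Q := le_sup_left.trans hRW
  have hbP : ∀ x ∈ P, afn b x = afn y x := by
    intro x hx
    rw [hbv x (hPW hx), hg1 x ((le_sup_left : P ≤ _) hx), h1 x hx]
  haveI : Finite ↥((P ⊔ (Q ⊓ U)) ⊔ Q) := finite_of_le hWS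
  haveI : Finite (MulAut ↥((P ⊔ (Q ⊓ U)) ⊔ Q)) := finite_mulAut hWS
  haveI : Finite ↥(Q ⊓ U) := finite_of_le (inf_le_left.trans hQS)
  have hchain := chain_pow' (Q₃ := Q ⊓ U) (Q₁ := ⊥) b hQW inf_le_left bot_le
    (fun q hq z hz => by
      rw [Subgroup.mem_bot.1 hz]
      simp)
    (fun z hz => by
      rw [Subgroup.mem_bot.1 hz]
      have := hg.map_one
      rw [hbv 1 (Subgroup.one_mem _), this]
      exact Subgroup.one_mem _)
    (fun q hq => by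
      rw [hbv q (hQW hq)]
      have e : g q * q⁻¹ = q * (q⁻¹ * g q) * q⁻¹ := by group
      rw [e]
      have hz := hg2 q hq
      exact ⟨Q.mul_mem (Q.mul_mem hq hz.1) (Q.inv_mem hq), h.conjU (hQS hq) hz.2⟩)
    (fun v hv => by
      rw [hbv v (hQW hv.1), hg1 v ((le_sup_right : Q ⊓ U ≤ _) hv), h2 v hv, mul_inv_cancel]
      exact Subgroup.one_mem _)
  obtain ⟨i, hi⟩ : ∃ i, Nat.card ↥(Q ⊓ U) = p ^ i := IsPGroup.iff_card.1 (h.hS.to_le (inf_le_left.trans hQS))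
  rw [hi] at hchain
  obtain ⟨b', ⟨j, rfl⟩, hb'1, hb'2⟩ := exists_pprime_part hPW hQW bot_le b y hbP hcop hchain
  have hmem' : b ^ j ∈ F.autGroup ((P ⊔ (Q ⊓ U)) ⊔ Q) := Subgroup.pow_mem _ hbmem _
  have hmm : Maps F _ (afn (b ^ j)) := (mem_autGroup_iff hWS).1 hmem'
  refine ⟨afn (b ^ j), hmm.restrict (sup_le hPW hQW), hb'1, fun q hq => ?_⟩
  have := Subgroup.mem_bot.1 (hb'2 q hq)
  exact mul_inv_eq_one.1 this

end LSet

/-- From elements of order prime to `p`, to the whole system. -/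
theorem cext_of_pprime [Finite S] [Fact p.Prime] [Finite T] (hS : IsPGroup p S) (hTS : T ≤ S) (hCs : C.IsSaturated p) (hhyp : C.hyperfocalSubgroup p = T)
    (hCF : C.IsSubsystemOf F) (hQS : Q ≤ S) (hNQ : S ≤ Subgroup.normalizer (Q : Set Ω))
    (hpp : ∀ {P : Subgroup Ω} {y : MulAut P}, P ≤ T → y ∈ C.autGroup P → (orderOf y).Coprime p → CExt F Q P (afn y)) :
    (∀ {P : Subgroup Ω} {f : Ω → Ω}, Maps C P f → CExt F Q P f) ∧ T ≤ centralizerIn S Q := by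
  have hTp : IsPGroup p T := hS.to_le hTS
  have hres : ∀ {P : Subgroup Ω}, P ≤ T → ∀ a ∈ pResidual p ↥(C.autGroup P), CExt F Q P (afn (a : MulAut P)) := by
    intro P hPT a ha
    have hle : pResidual p ↥(C.autGroup P) ≤ (extSub F C Q P hCF hPT hTS hQS).subgroupOf (C.autGroup P) := by
      rw [pResidual, Subgroup.closure_le]
      intro x hx
      have hcop : (orderOf (x : MulAut P)).Coprime p := by
        have : (orderOf x).Coprime p := hx
        rwa [Subgroup.orderOf_coe]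
      exact Subgroup.mem_subgroupOf.2 ⟨x.2, hpp hPT x.2 hcop⟩
    exact (Subgroup.mem_subgroupOf.1 (hle ha)).2
  have hTC : T ≤ centralizerIn S Q := by
    rw [← hhyp, hyperfocalSubgroup, Subgroup.closure_le]
    rintro _ ⟨P, α, x, hP, hα, rfl⟩
    obtain ⟨g, hg, hg1, hg2⟩ := hres hP α hα
    have hxS : (x : Ω) ∈ S := hTS (hP x.2)
    have hxV : (x : Ω) ∈ P ⊔ Q := (le_sup_left : P ≤ _) x.2
    have hgx : g x = ((α : MulAut P) x : P) := by
      rw [hg1 x x.2, afn_coe]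
    have hαS : (((α : MulAut P) x : P) : Ω) ∈ S := hTS (hP ((α : MulAut P) x).2)
    refine mem_centralizerIn.2 ⟨S.mul_mem (S.inv_mem hxS) hαS, fun q hq => ?_⟩
    have hc1 : (x : Ω) * q * (x : Ω)⁻¹ ∈ Q := (Subgroup.mem_normalizer_iff.1 (hNQ hxS) q).1 hq
    have e1 := hg2 _ hc1
    rw [hg.map_conj hxV ((le_sup_right : Q ≤ _) hq), hg2 q hq, hgx] at e1
    have e2 : ((α : MulAut P) x : P) * q = (x : Ω) * q * (x : Ω)⁻¹ * ((α : MulAut P) x : P) := by
      rw [← e1]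
      group
    calc q * ((x : Ω)⁻¹ * ((α : MulAut P) x : P)) = (x : Ω)⁻¹ * ((x : Ω) * q * (x : Ω)⁻¹ * ((α : MulAut P) x : P)) := by group
      _ = (x : Ω)⁻¹ * (((α : MulAut P) x : P) * q) := by rw [← e2]
      _ = _ := by group
  have hX : ∀ t ∈ T, ∀ x ∈ Q, t * x * t⁻¹ = x := by
    intro t ht x hx
    have := (mem_centralizerIn.1 (hTC ht)).2 x hx
    rw [← this]
    group
  refine ⟨?_, hTC⟩
  let M : FusionSystem T := MMsys hCF hTS hQS hX
  have hM : ∀ {R : Subgroup Ω} {g : Ω → Ω}, Maps M R g ↔ MM F C Q R g := maps_MMsys hCF hTS hQS hX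
  have hEM : ∀ R : Subgroup Ω, M.Hom R ⊆ C.Hom R := by
    intro R φ hφ
    exact (hM.1 (Maps.of_mem hφ)).1.mem_hom (fun x => (fn_coe φ x).symm)
  have hall : ∀ R : Subgroup Ω, C.Hom R ⊆ M.Hom R := by
    refine Cfsg.Agent.Lib.FusionAlperin.alperin hTp hCs hEM ?_
    intro B hBT hFA hRec hc IH φ hφ hr
    have hmφ := Maps.of_mem hφ
    have himgφ : img (fn φ) B = B := by rw [img_eq_range φ (fun x => (fn_coe φ x).symm), hr]
    haveI : Finite B := finite_of_le hBT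
    haveI : Finite (MulAut B) := finite_mulAut (S := T) hBT
    obtain ⟨-, V, hV⟩ := hFA
    let K : Subgroup ↥(C.autGroup B) := (extSub F C Q B hCF hBT hTS hQS).subgroupOf (C.autGroup B)
    have hVK : (V : Subgroup ↥(C.autGroup B)) ≤ K := by
      rw [hV]
      intro r hr
      obtain ⟨t, ht, htv⟩ := mem_autInducedBy.1 (Subgroup.mem_subgroupOf.1 hr)
      refine Subgroup.mem_subgroupOf.2 ⟨r.2, cext_congr (cext_conj (hBT.trans hTS) hQS (hTS ht) (hX t ht)) (fun x hx => (htv x hx).symm)⟩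
    have hresK : pResidual p ↥(C.autGroup B) ≤ K := by
      intro a ha
      exact Subgroup.mem_subgroupOf.2 ⟨a.2, hres hBT a ha⟩
    have hmem : ∀ α : ↥(C.autGroup B), α ∈ K := by
      intro α
      obtain ⟨κ, hκ, r, hr', e⟩ := Cfsg.Agent.Lib.FusionHyperfocal.exists_pResidual_mul_sylow V α
      rw [e]
      exact K.mul_mem (hresK hκ) (hVK hr')
    have h1 := hmem ⟨hmφ.toAut himgφ, hmφ.toAut_mem himgφ⟩
    have h2 : CExt F Q B (afn (hmφ.toAut himgφ)) := (Subgroup.mem_subgroupOf.1 h1).2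
    have h3 : CExt F Q B (fn φ) := cext_congr h2 (fun x hx => hmφ.afn_toAut himgφ hx)
    exact (hM.2 ⟨hmφ, h3⟩).mem_hom (fun x => (fn_coe φ x).symm)
  intro P f hf
  have h1 := hall P hf.hom_mem
  have h2 := (hM.1 (Maps.of_mem h1)).2
  exact cext_congr h2 (fun x hx => by rw [fn_of_mem _ hx, hf.hom_apply])

/-- **A component centralizes the subgroups normal in the system.** -/
theorem comp_cext {T S : Subgroup Ω} {C : FusionSystem T} {F : FusionSystem S} {p : ℕ} (hC : C.IsSubnormalIn F p) :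
    ∀ (_ : Finite S) (_ : Fact p.Prime) (_ : IsPGroup p S) (_ : F.IsSaturated p) (_ : C.Quasisimple p) (Q : Subgroup Ω) (_ : F.IsNormal Q),
      (∀ {P : Subgroup Ω} {f : Ω → Ω}, Maps C P f → CExt F Q P f) ∧ T ≤ centralizerIn S Q := by
  induction hC with
  | refl F p =>
    intro hfin hp hS hF hq Q hQ
    have hQZ : Q ≤ F.center := qs_le_center hS hq hQ
    have hZc : F.IsCentral F.center := Cfsg.Agent.S5144.result F
    refine ⟨fun {P f} hf => ?_, fun s hs => mem_centralizerIn.2 ⟨hs, fun q hq' => ?_⟩⟩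
    · obtain ⟨g, hg, h1, h2⟩ := (isCentral_iff.1 hZc).2 P f hf
      exact ⟨g, hg.restrict (sup_le_sup_left hQZ P), h1, fun x hx => h2 x (hQZ hx)⟩
    · exact (Subgroup.mem_centralizer_iff.1 (F.center_le_centralizer (hQZ hq')) s hs).symm
  | @step U S C D F p hCD hD ih =>
    intro hfin hp hS hF hq Q hQ
    have hL : LSet F D Q p := ⟨hS, hF, hQ, hD⟩
    have hUS := hL.hUS
    haveI : Finite U := finite_of_le hUS
    have hDs := hL.hDs
    have hQ₁n : F.IsNormal (Q ⊓ U) := Cfsg.Agent.Lib.FusionConstrained.inf_isNormal hQ hL.hUsc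
    have hQ₁D : D.IsNormal (Q ⊓ U) := by
      refine Cfsg.Agent.Lib.FusionConstrained.isNormal_of_ext' hL.hUp hDs inf_le_right (fun P hPQ φ hφ => ?_)
      obtain ⟨α, -, hα⟩ := Cfsg.Agent.S5290.exists_aut_of_isNormal hQ₁n hPQ (hL.hDF P hφ)
      exact ⟨α, hα⟩
    obtain ⟨hih, hTC⟩ := ih inferInstance hp hL.hUp hDs hq (Q ⊓ U) hQ₁D
    have hTU : T ≤ U := Cfsg.Agent.Lib.FusionCompIso.subnormal_le hCD
    have hCD' : C.IsSubsystemOf D := Cfsg.Agent.Lib.FusionCompIso.subnormal_sub hCD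
    haveI : Finite T := finite_of_le hTU
    refine cext_of_pprime hS (hTU.trans hUS) hq.1 hq.2.1 (fun P φ hφ => hL.hDF P (hCD' P hφ)) hL.hQS (fun s hs => hL.hNQ hs) ?_
    intro P y hPT hy hcop
    exact hL.cext_pprime (hPT.trans hTU) hcop (hih ((mem_autGroup_iff hPT).1 hy))

end Cfsg.Agent.Lib.FusionCompA
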