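/-
FusionCompP: pulling a normal subsystem back along a central quotient, setup: the system of maps of `F` on `T` whose image in the
quotient lies in the normal subsystem, and the maps acting trivially modulo the central subgroup.
-/
import Mathlib
import Cfsg.Agent.Lib.FusionCompH
import Cfsg.Agent.Lib.FusionCompG
import Cfsg.Agent.Lib.FusionCentralQuot

set_option autoImplicit false
set_option linter.unusedSectionVars false
set_option linter.unusedVariables false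
set_option linter.unusedSimpArgs false
set_option linter.style.haveILetI false

namespace Cfsg.Agent.Lib.FusionCompA

open Cfsg Cfsg.FusionSystem Cfsg.Agent.Lib.FusionCore Cfsg.Agent.Lib.FusionCore2 Cfsg.Agent.Lib.FusionGT Cfsg.Agent.Lib.FusionFactor
open Cfsg.Agent.Lib.FusionStrongClosed Cfsg.Agent.Lib.FusionQuotSat Cfsg.Agent.Lib.PCore
open Cfsg.Agent.Lib.FusionInvariant (Str Inv Frat isInvariantIn_iff str_of_inv_frat maps_sub StrongMem aut_maps strong_img_le)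
open Cfsg.Agent.Lib.AschCore
open Cfsg.Agent.Lib.FusionPPrimeMin (TC)
open Cfsg.Agent.Lib.FusionCentralQuot
open Cfsg.Agent.Lib.FusionIndexPrime (ofMaps maps_ofMaps)

universe u

section Res

variable {Ω : Type u} [Group Ω] {S T : Subgroup Ω}

/-- The system of all maps of `F` between subgroups of a strongly closed subgroup `T`. -/
def resT (F : FusionSystem S) (hT : F.StronglyClosed T) : FusionSystem T where
  Hom P := {φ | φ ∈ F.Hom P ∧ P ≤ T}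
  le_of_mem := fun h => ⟨h.2, fun x => hT.2 _ h.2 _ h.1 x⟩
  injective_of_mem := fun h => F.injective_of_mem h.1
  conj_mem := fun hP hg => ⟨F.conj_mem (hP.trans hT.1) (hT.1 hg), hP⟩
  comp_mem := fun h1 h2 h => ⟨F.comp_mem h1.1 h2.1 h, h1.2⟩
  inv_mem := by
    intro P φ h
    obtain ⟨ψ, hψ, hψv⟩ := F.inv_mem h.1
    refine ⟨ψ, ⟨hψ, ?_⟩, hψv⟩
    rintro _ ⟨x, rfl⟩
    exact hT.2 _ h.2 _ h.1 x

lemma maps_resT {F : FusionSystem S} {hT : F.StronglyClosed T} {P : Subgroup Ω} {f : Ω → Ω} :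
    Maps (resT F hT) P f ↔ Maps F P f ∧ P ≤ T := by
  constructor
  · rintro ⟨φ, hφ, hf⟩
    exact ⟨⟨φ, hφ.1, hf⟩, hφ.2⟩
  · rintro ⟨⟨φ, hφ, hf⟩, hP⟩
    exact ⟨φ, ⟨hφ, hP⟩, hf⟩

end Res

variable {Ω Ω' : Type u} [Group Ω] [Group Ω'] {S : Subgroup Ω} {F : FusionSystem S} {Z : Subgroup Ω}
  {S' : Subgroup Ω'} {θ : S →* Ω'} {F' : FusionSystem S'} {T' : Subgroup Ω'} {E' : FusionSystem T'} {p : ℕ}

/-- The setting of the pull-back. -/
structure PB (F : FusionSystem S) (Z : Subgroup Ω) (θ : S →* Ω') (F' : FusionSystem S') (E' : FusionSystem T') (p : ℕ) : Prop where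
  hS : IsPGroup p S
  hF : F.IsSaturated p
  hfac : F.IsFactorSystem Z θ F'
  hZ : F.IsCentral Z
  hE : E'.IsNormalIn F' p

lemma qf_mem_image {P : Subgroup Ω} {x : Ω} (hx : x ∈ P) (hPS : P ≤ S) : qf θ x ∈ imageAlong θ P :=
  mem_image.2 ⟨x, hx, hPS hx, rfl⟩

lemma image_le {P : Subgroup Ω} {P' : Subgroup Ω'} (hP : P ≤ preimageAlong θ P') : imageAlong θ P ≤ P' := by
  intro y hy
  obtain ⟨x, hx, -, rfl⟩ := mem_image.1 hy
  exact (mem_pre.1 (hP hx)).2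

lemma img_pre (hfac : F.IsFactorSystem Z θ F') {P' : Subgroup Ω'} (hP' : P' ≤ S') : imageAlong θ (preimageAlong θ P') = P' := by
  ext y
  constructor
  · intro hy
    exact image_le le_rfl hy
  · intro hy
    obtain ⟨s, hs, rfl⟩ := exists_qf hfac (hP' hy)
    exact qf_mem_image (mem_pre.2 ⟨hs, hy⟩) (preimageAlong_le θ P')

lemma pre_img (hfac : F.IsFactorSystem Z θ F') {P : Subgroup Ω} (hZP : Z ≤ P) (hPS : P ≤ S) : preimageAlong θ (imageAlong θ P) = P := by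
  rw [preimageAlong_imageAlong hfac.1 hfac.2.1 hPS, sup_eq_left.2 hZP]

lemma mem_of_qf (hfac : F.IsFactorSystem Z θ F') {P : Subgroup Ω} (hZP : Z ≤ P) (hPS : P ≤ S) {x : Ω} (hx : x ∈ S)
    (h : qf θ x ∈ imageAlong θ P) : x ∈ P := by
  rw [← pre_img hfac hZP hPS]
  exact mem_pre.2 ⟨hx, h⟩

lemma image_mono {P Q : Subgroup Ω} (h : P ≤ Q) : imageAlong θ P ≤ imageAlong θ Q := by
  intro y hy
  obtain ⟨x, hx, hxS, rfl⟩ := mem_image.1 hy
  exact mem_image.2 ⟨x, h hx, hxS, rfl⟩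

namespace PB

variable (h : PB F Z θ F' E' p)
include h

lemma inv' : E'.IsSubsystemOf F' ∧ F'.StronglyClosed T' ∧ Inv F' E' ∧ Frat F' E' := isInvariantIn_iff.1 h.hE.1.2.2

lemma sub' : E'.IsSubsystemOf F' := h.hE.1.2.2.1

lemma sc' : F'.StronglyClosed T' := h.hE.1.2.2.2.1

lemma sat' : F'.IsSaturated p := h.hE.1.2.1

lemma satE : E'.IsSaturated p := h.hE.1.1

lemma hT'S' : T' ≤ S' := h.sc'.1

variable [Fact p.Prime] [Finite S]

omit h in
lemma finS' (h : PB F Z θ F' E' p) : Finite S' := by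
  have hr := h.hfac.2.2.1
  have : Function.Surjective (θ.rangeRestrict) := MonoidHom.rangeRestrict_surjective θ
  haveI : Finite θ.range := Finite.of_surjective _ this
  rw [hr] at *
  assumption

lemma desc {P : Subgroup Ω} {f : Ω → Ω} (hf : Maps F P f) :
    ∃ f', Maps F' (imageAlong θ P) f' ∧ ∀ x ∈ P, qf θ (f x) = f' (qf θ x) := by
  obtain ⟨φ, hφ, hφf⟩ := id hf
  have hsurj := isSurjectiveMorphism_of_isFactorSystem h.hS h.hF (stronglyClosed_central h.hZ) h.hfac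
  obtain ⟨φ', hφ', hPS, hval, hP', hind⟩ := hsurj.1.2 P φ hφ
  refine ⟨fn φ', Maps.of_mem hφ', fun x hx => ?_⟩
  have h1 := hind ⟨x, hx⟩
  have hqx : qf θ x ∈ imageAlong θ P := qf_mem_image hx hPS
  rw [fn_of_mem φ' hqx]
  have e : (⟨qf θ x, hqx⟩ : imageAlong θ P) = ⟨θ ⟨x, hPS hx⟩, hP' ⟨x, hx⟩⟩ := Subtype.ext (qf_of_mem θ (hPS hx))
  rw [e, h1, ← hφf ⟨x, hx⟩, qf_of_mem θ (hval ⟨x, hx⟩)]

lemma T_sc : F.StronglyClosed (preimageAlong θ T') := by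
  refine ⟨preimageAlong_le θ T', fun R hR φ hφ x => ?_⟩
  have hm := Maps.of_mem hφ
  obtain ⟨f', hf', hrel⟩ := h.desc hm
  have h1 := hrel x x.2
  rw [fn_coe] at h1
  refine mem_pre.2 ⟨hm.le.trans le_rfl |> fun _ => F.le_of_mem hφ |>.2 x, ?_⟩
  rw [h1]
  exact StrongMem h.sc' (image_le hR) hf' (qf_mem_image x.2 (hR.trans (preimageAlong_le θ T')))

/-- The predicate of the maps of `F` on subgroups of `T` whose image lies in `E'`. -/
def Mm (F : FusionSystem S) (θ : S →* Ω') (E' : FusionSystem T') (P : Subgroup Ω) (f : Ω → Ω) : Prop :=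
  Maps F P f ∧ P ≤ preimageAlong θ T' ∧ ∃ f', Maps E' (imageAlong θ P) f' ∧ ∀ x ∈ P, qf θ (f x) = f' (qf θ x)

omit h in
lemma Mm.congr {P : Subgroup Ω} {f g : Ω → Ω} (hf : Mm F θ E' P f) (hfg : ∀ x ∈ P, f x = g x) : Mm F θ E' P g := by
  obtain ⟨h1, h2, f', h3, h4⟩ := hf
  exact ⟨h1.congr hfg, h2, f', h3, fun x hx => by rw [← hfg x hx, h4 x hx]⟩

omit h in
lemma image_sub {P : Subgroup Ω} (hP : P ≤ preimageAlong θ T') : imageAlong θ P ≤ T' := image_le hP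

lemma Mm.conj {P : Subgroup Ω} {g : Ω} (hP : P ≤ preimageAlong θ T') (hg : g ∈ preimageAlong θ T') : Mm F θ E' P (fun x => g * x * g⁻¹) := by
  have hTS := preimageAlong_le θ T'
  refine ⟨Maps.conj (hP.trans hTS) (hTS hg), hP, fun y => qf θ g * y * (qf θ g)⁻¹, Maps.conj (image_le hP) (mem_pre.1 hg).2, fun x hx => ?_⟩
  have hgS := hTS hg
  have hxS := hTS (hP hx)
  rw [qf_mul θ (S.mul_mem hgS hxS) (S.inv_mem hgS), qf_mul θ hgS hxS, qf_inv θ hgS]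

lemma Mm.comp {P Q : Subgroup Ω} {f g : Ω → Ω} (hf : Mm F θ E' P f) (hg : Mm F θ E' Q g) (hfg : ∀ x ∈ P, f x ∈ Q) : Mm F θ E' P (g ∘ f) := by
  obtain ⟨h1, h2, f', h3, h4⟩ := hf
  obtain ⟨h5, h6, g', h7, h8⟩ := hg
  refine ⟨h1.comp h5 hfg, h2, g' ∘ f', h3.comp h7 (fun y hy => ?_), fun x hx => ?_⟩
  · obtain ⟨x, hx, hxS, rfl⟩ := mem_image.1 hy
    rw [← h4 x hx]
    exact qf_mem_image (hfg x hx) h5.le
  · simp only [Function.comp]
    rw [h8 _ (hfg x hx), h4 x hx]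

lemma Mm.inv {P : Subgroup Ω} {f : Ω → Ω} (hf : Mm F θ E' P f) : ∃ g, Mm F θ E' (img f P) g ∧ ∀ x ∈ P, g (f x) = x := by
  obtain ⟨h1, h2, f', h3, h4⟩ := hf
  obtain ⟨g, hg, hg1, hg2⟩ := h1.inv
  obtain ⟨g', hg', hg'1, hg'2⟩ := h3.inv
  have hTS := preimageAlong_le θ T'
  have himg : imageAlong θ (img f P) = img f' (imageAlong θ P) := by
    ext y
    rw [h3.mem_img, mem_image]
    constructor
    · rintro ⟨x, hx, hxS, rfl⟩
      obtain ⟨x₀, hx₀, rfl⟩ := h1.mem_img.1 hx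
      exact ⟨qf θ x₀, qf_mem_image hx₀ h1.le, (h4 x₀ hx₀).symm⟩
    · rintro ⟨y₀, hy₀, rfl⟩
      obtain ⟨x, hx, hxS, rfl⟩ := mem_image.1 hy₀
      exact ⟨f x, h1.mem_img_of_mem hx, h1.mem hx, h4 x hx⟩
  have h9 : img f P ≤ preimageAlong θ T' := by
    intro y hy
    obtain ⟨x, hx, rfl⟩ := h1.mem_img.1 hy
    refine mem_pre.2 ⟨h1.mem hx, ?_⟩
    rw [h4 x hx]
    exact h3.mem (qf_mem_image hx h1.le)
  refine ⟨g, ⟨hg, h9, g', by rw [himg]; exact hg', fun y hy => ?_⟩, hg1⟩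
  obtain ⟨x, hx, rfl⟩ := h1.mem_img.1 hy
  rw [hg1 x hx, h4 x hx, hg'1 _ (qf_mem_image hx h1.le)]

/-- The system of the maps of `F` on `T` whose image lies in `E'`. -/
noncomputable def MM (h : PB F Z θ F' E' p) : FusionSystem (preimageAlong θ T') :=
  ofMaps (resT F h.T_sc) (Mm F θ E') (fun hf => maps_resT.2 ⟨hf.1, hf.2.1⟩) (fun hf hfg => Mm.congr hf hfg)
    (fun hP hg => Mm.conj h hP hg) (fun hf hg hfg => Mm.comp h hf hg hfg) (fun hf => Mm.inv h hf)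

lemma maps_MM {P : Subgroup Ω} {f : Ω → Ω} : Maps h.MM P f ↔ Mm F θ E' P f := by
  constructor
  · rintro ⟨φ, hφ, hf⟩
    have h0 : Mm F θ E' P (fn φ) := hφ
    exact Mm.congr h0 (fun x hx => by rw [fn_of_mem _ hx]; exact hf ⟨x, hx⟩)
  · intro hm
    have hm' := hm.1
    refine ⟨hm'.hom, ?_, hm'.hom_apply⟩
    exact (Mm.congr hm (fun x hx => by rw [fn_of_mem _ hx, hm'.hom_apply]) : Mm F θ E' P (fn hm'.hom))

lemma MM.maps {P : Subgroup Ω} {f : Ω → Ω} (hf : Maps h.MM P f) : Maps F P f := ((maps_MM h).1 hf).1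

lemma MM.sub : h.MM.IsSubsystemOf F := fun P φ hφ => by
  have := MM.maps h (Maps.of_mem hφ)
  obtain ⟨ψ, hψ, hψv⟩ := this
  have : φ = ψ := by
    ext x
    rw [hψv x, fn_coe]
  rw [this]
  exact hψ

/-- Lifting maps of `E'`. -/
lemma lift {P' : Subgroup Ω'} {f' : Ω' → Ω'} (hf' : Maps E' P' f') :
    ∃ f, Maps h.MM (preimageAlong θ P') f ∧ ∀ x ∈ preimageAlong θ P', qf θ (f x) = f' (qf θ x) := by
  have hP'T := hf'.le
  have hP'S := hP'T.trans (hT'S' h)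
  obtain ⟨f, hf, hrel⟩ := maps_lift h.hfac (maps_sub (sub' h) hf')
  refine ⟨f, (maps_MM h).2 ⟨hf, ?_, f', by rw [img_pre h.hfac hP'S]; exact hf', hrel⟩, hrel⟩
  intro x hx
  obtain ⟨h1, h2⟩ := mem_pre.1 hx
  exact mem_pre.2 ⟨h1, hP'T h2⟩

/-- The image of a map of `MM`. -/
lemma bar {P : Subgroup Ω} {f : Ω → Ω} (hf : Maps h.MM P f) :
    ∃ f', Maps E' (imageAlong θ P) f' ∧ ∀ x ∈ P, qf θ (f x) = f' (qf θ x) := ((maps_MM h).1 hf).2.2

/-- Automorphisms in the image. -/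
lemma barAut {P : Subgroup Ω} (hZP : Z ≤ P) (hPT : P ≤ preimageAlong θ T') {a : MulAut P} (ha : a ∈ h.MM.autGroup P) :
    ∃ a' ∈ E'.autGroup (imageAlong θ P), ∀ x ∈ P, qf θ (afn a x) = afn a' (qf θ x) := by
  have hPS := hPT.trans (preimageAlong_le θ T')
  have hm := (mem_autGroup_iff hPT).1 ha
  obtain ⟨f', hf', hrel⟩ := bar h hm
  have hT'fin : Finite T' := by
    haveI := finS' h
    exact finite_of_le (hT'S' h)
  have hv : ∀ y ∈ imageAlong θ P, f' y ∈ imageAlong θ P := by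
    intro y hy
    obtain ⟨x, hx, hxS, rfl⟩ := mem_image.1 hy
    rw [← hrel x hx]
    exact qf_mem_image (afn_mem a hx) hPS
  have hle : imageAlong θ P ≤ T' := image_le hPT
  have himg := img_eq_of_card hf' hle hle hv le_rfl
  refine ⟨hf'.toAut himg, hf'.toAut_mem himg, fun x hx => ?_⟩
  rw [hf'.afn_toAut himg (qf_mem_image hx hPS), hrel x hx]

end PB

/-! ### Maps acting trivially modulo `Z` -/

section KP

variable {P : Subgroup Ω}

/-- The automorphisms of `P` in `F` acting trivially modulo `Z`. -/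
def KP (F : FusionSystem S) (Z P : Subgroup Ω) : Subgroup (MulAut P) where
  carrier := {k | k ∈ F.autGroup P ∧ ∀ x ∈ P, x⁻¹ * afn k x ∈ Z}
  mul_mem' := by
    rintro a b ⟨ha, ha1⟩ ⟨hb, hb1⟩
    refine ⟨Subgroup.mul_mem _ ha hb, fun x hx => ?_⟩
    rw [afn_mul _ _ hx]
    have e : x⁻¹ * afn a (afn b x) = (x⁻¹ * afn b x) * ((afn b x)⁻¹ * afn a (afn b x)) := by group
    rw [e]
    exact Z.mul_mem (hb1 x hx) (ha1 _ (afn_mem b hx))
  one_mem' := by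
    refine ⟨Subgroup.one_mem _, fun x hx => ?_⟩
    rw [afn_one hx, inv_mul_cancel]
    exact Z.one_mem
  inv_mem' := by
    rintro a ⟨ha, ha1⟩
    refine ⟨Subgroup.inv_mem _ ha, fun x hx => ?_⟩
    have h1 := ha1 _ (afn_mem a⁻¹ hx)
    rw [afn_afn_inv a hx] at h1
    have := Z.inv_mem h1
    simpa using this

lemma mem_KP {k : MulAut P} : k ∈ KP F Z P ↔ k ∈ F.autGroup P ∧ ∀ x ∈ P, x⁻¹ * afn k x ∈ Z := Iff.rfl

variable [Finite S]

lemma KP_fix (hZ : F.IsCentral Z) (hZP : Z ≤ P) (hPS : P ≤ S) {k : MulAut P} (hk : k ∈ KP F Z P) {z : Ω} (hz : z ∈ Z) : afn k z = z :=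
  central_fix hZ ((mem_autGroup_iff hPS).1 hk.1) (hZP hz) hz

lemma KP_conj (hZ : F.IsCentral Z) (hZP : Z ≤ P) (hPS : P ≤ S) {a k : MulAut P} (ha : a ∈ F.autGroup P) (hk : k ∈ KP F Z P) :
    a * k * a⁻¹ ∈ KP F Z P := by
  refine ⟨Subgroup.mul_mem _ (Subgroup.mul_mem _ ha hk.1) (Subgroup.inv_mem _ ha), fun x hx => ?_⟩
  have hx₁ := afn_mem a⁻¹ hx
  have h1 := hk.2 _ hx₁
  have h2 := central_fix hZ ((mem_autGroup_iff hPS).1 ha) (hZP h1) h1
  rw [afn_mul _ _ hx, afn_mul _ _ hx₁]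
  rw [afn_mulx a (P.inv_mem hx₁) (afn_mem k hx₁), afn_invx a hx₁, afn_afn_inv a hx] at h2
  rw [h2]
  exact h1

lemma KP_comm (hZ : F.IsCentral Z) (hZP : Z ≤ P) (hPS : P ≤ S) {a b : MulAut P} (ha : a ∈ KP F Z P) (hb : b ∈ KP F Z P) : a * b = b * a := by
  have hcZ : ∀ z ∈ Z, ∀ x ∈ P, x * z = z * x := by
    intro z hz x hx
    have h1 : x * z * x⁻¹ = z := central_fix hZ (Maps.conj (F := F) hPS (hPS hx)) (hZP hz) hz
    rw [mul_inv_eq_iff_eq_mul] at h1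
    exact h1
  apply afn_ext
  intro x hx
  obtain ⟨z₁, hz₁, hax⟩ : ∃ z ∈ Z, afn a x = x * z := ⟨x⁻¹ * afn a x, ha.2 x hx, by group⟩
  obtain ⟨z₂, hz₂, hbx⟩ : ∃ z ∈ Z, afn b x = x * z := ⟨x⁻¹ * afn b x, hb.2 x hx, by group⟩
  rw [afn_mul _ _ hx, afn_mul _ _ hx, hbx, hax, afn_mulx a hx (hZP hz₂), afn_mulx b hx (hZP hz₁), KP_fix hZ hZP hPS ha hz₂,
    KP_fix hZ hZP hPS hb hz₁, hax, hbx, mul_assoc, mul_assoc, hcZ z₂ hz₂ z₁ (hZP hz₁)]

lemma KP_p [Fact p.Prime] (hS : IsPGroup p S) (hZ : F.IsCentral Z) (hZP : Z ≤ P) (hPS : P ≤ S) : IsPGroup p (KP F Z P) := by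
  haveI : Finite Z := finite_of_le (hZP.trans hPS)
  haveI : Finite P := finite_of_le hPS
  rintro ⟨k, hk⟩
  have h1 := Cfsg.Agent.Lib.FusionPPrimeRes.pow_card_eq_one_of_fix (W := Z) k hZP (fun y hy => KP_fix hZ hZP hPS hk hy) hk.2
  obtain ⟨j, hj⟩ := IsPGroup.iff_card.1 (hS.to_le (hZP.trans hPS))
  rw [hj] at h1
  exact ⟨j, Subtype.ext h1⟩

lemma KP_le_KK [Fact p.Prime] (hS : IsPGroup p S) (hZ : F.IsCentral Z) (hZP : Z ≤ P) (hPS : P ≤ S) :
    KP F Z P ≤ Cfsg.Agent.Lib.FusionSatCrit.KK F p P :=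
  Cfsg.Agent.Lib.FusionSatCrit.le_KK (fun _ h => h.1) (fun _ ha _ hb => KP_conj hZ hZP hPS ha hb) (KP_p hS hZ hZP hPS)

/-- At a fully automized subgroup, `KP` consists of conjugations. -/
lemma KP_le_auto [Fact p.Prime] (hS : IsPGroup p S) (hZ : F.IsCentral Z) (hZP : Z ≤ P) (hPS : P ≤ S) (hA : F.IsFullyAutomized p P) :
    KP F Z P ≤ autInducedBy S P := fun _ hk =>
  KK_le_auto hPS hA (KP_le_KK hS hZ hZP hPS hk)

end KP

namespace PB

variable (h : PB F Z θ F' E' p) [Fact p.Prime] [Finite S]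
include h

lemma KP_le_MM {P : Subgroup Ω} (hZP : Z ≤ P) (hPT : P ≤ preimageAlong θ T') : KP F Z P ≤ h.MM.autGroup P := by
  intro k hk
  have hTS := preimageAlong_le θ T'
  have hPS := hPT.trans hTS
  have hm := (mem_autGroup_iff hPS).1 hk.1
  refine (mem_autGroup_iff hPT).2 ((maps_MM h).2 ⟨hm, hPT, _root_.id, Maps.id (image_le hPT), fun x hx => ?_⟩)
  exact ((qf_eq_iff h.hfac (hPS hx) (hm.mem hx)).2 (hk.2 x hx)).symm

lemma KP_of_bar {P : Subgroup Ω} (hPS : P ≤ S) {a : MulAut P} (ha : a ∈ F.autGroup P) (hb : ∀ x ∈ P, qf θ (afn a x) = qf θ x) :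
    a ∈ KP F Z P :=
  ⟨ha, fun x hx => (qf_eq_iff h.hfac (hPS hx) (hPS (afn_mem a hx))).1 (hb x hx).symm⟩

end PB

end Cfsg.Agent.Lib.FusionCompA
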