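/-
FusionCompP2: the group `X(P) = ⟨Aut_T(P), elements of order prime to p of Aut_MM(P)⟩`, and its structure at fully normalized `P`.
-/
import Mathlib
import Cfsg.Agent.Lib.FusionCompP

set_option autoImplicit false
set_option linter.unusedSectionVars false
set_option linter.unusedVariables false
set_option linter.unusedSimpArgs false
set_option linter.style.haveILetI false

namespace Cfsg.Agent.Lib.FusionCompA

open Cfsg Cfsg.FusionSystem Cfsg.Agent.Lib.FusionCore Cfsg.Agent.Lib.FusionCore2 Cfsg.Agent.Lib.FusionGT Cfsg.Agent.Lib.FusionFactor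
open Cfsg.Agent.Lib.FusionStrongClosed Cfsg.Agent.Lib.FusionQuotSat Cfsg.Agent.Lib.PCore
open Cfsg.Agent.Lib.FusionInvariant (Str Inv Frat isInvariantIn_iff str_of_inv_frat maps_sub StrongMem aut_maps strong_img_le)
open Cfsg.Agent.Lib.AschCore
open Cfsg.Agent.Lib.FusionPPrimeMin (TC)
open Cfsg.Agent.Lib.FusionCentralQuot
open Cfsg.Agent.Lib.FusionIndexPrime (ofMaps maps_ofMaps)

universe u

variable {Ω Ω' : Type u} [Group Ω] [Group Ω'] {S : Subgroup Ω} {F : FusionSystem S} {Z : Subgroup Ω}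
  {S' : Subgroup Ω'} {θ : S →* Ω'} {F' : FusionSystem S'} {T' : Subgroup Ω'} {E' : FusionSystem T'} {p : ℕ}

/-- For a strongly closed `T` and fully normalized `P`, `F`-conjugates of `Aut_T(P)` lying in `Aut_S(P)` lie in `Aut_T(P)`. -/
lemma conj_R [Finite S] [Fact p.Prime] (hS : IsPGroup p S) (hF : F.IsSaturated p) {T P : Subgroup Ω} (hT : F.StronglyClosed T) (hPT : P ≤ T)
    (hfull : F.IsFullyNormalized P) {a r : MulAut P} (ha : a ∈ F.autGroup P) (hr : r ∈ autInducedBy T P)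
    (hc : a * r * a⁻¹ ∈ autInducedBy S P) : a * r * a⁻¹ ∈ autInducedBy T P := by
  have hPS := hPT.trans hT.1
  obtain ⟨t, ht, htv⟩ := mem_autInducedBy.1 hr
  obtain ⟨s, hs, hsv⟩ := mem_autInducedBy.1 hc
  have hfc := (of_fullyNormalized hS hF hfull).1
  have hR : F.IsReceptive P := receptive_of_fullyCentralized hS hF hfc
  have ham := (mem_autGroup_iff hPS).1 ha
  obtain ⟨g, hg, hg1⟩ := IsReceptive.ext hR ham (afn_img a)
  have key : ∀ x ∈ P, afn (a * r * a⁻¹) (afn a x) = afn a (t * x * t⁻¹) := by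
    intro x hx
    rw [afn_mul _ _ (afn_mem _ hx), afn_inv_afn _ hx, afn_mul _ _ hx, htv x hx]
  have htN : t ∈ Nf S P (afn a) := by
    refine mem_Nf.2 ⟨hT.1 ht, mem_normalizer_of_afn htv, s, hs, fun x hx => ?_⟩
    rw [← key x hx, hsv _ (afn_mem a hx)]
  have hWm : Maps F (Nf S P (afn a) ⊓ T) g := hg.restrict inf_le_left
  have hPW : P ≤ Nf S P (afn a) ⊓ T := le_inf (le_Nf ham) hPT
  have htW : t ∈ Nf S P (afn a) ⊓ T := ⟨htN, ht⟩
  refine mem_autInducedBy.2 ⟨g t, StrongMem hT inf_le_right hWm htW, fun y hy => ?_⟩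
  have e := key _ (afn_mem a⁻¹ hy)
  rw [afn_afn_inv a hy] at e
  rw [e]
  have hx₁ := afn_mem a⁻¹ hy
  have hcm : t * afn a⁻¹ y * t⁻¹ ∈ P := (Subgroup.mem_normalizer_iff.1 (mem_normalizer_of_afn htv) _).1 hx₁
  rw [← hg1 _ hcm, hWm.map_conj htW (hPW hx₁), hg1 _ hx₁, afn_afn_inv a hy]

/-- The subgroup `X(P)`. -/
noncomputable def PB.XX [Fact p.Prime] [Finite S] (h : PB F Z θ F' E' p) (P : Subgroup Ω) : Subgroup (MulAut P) :=
  ((autInducedBy (preimageAlong θ T') P).subgroupOf (h.MM.autGroup P) ⊔ pResidual p ↥(h.MM.autGroup P)).map (h.MM.autGroup P).subtype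

namespace PB

variable (h : PB F Z θ F' E' p) [Fact p.Prime] [Finite S]
include h

lemma XX_le_MM (P : Subgroup Ω) : h.XX P ≤ h.MM.autGroup P := Subgroup.map_subtype_le _

lemma R_le_MM {P : Subgroup Ω} (hPT : P ≤ preimageAlong θ T') : autInducedBy (preimageAlong θ T') P ≤ h.MM.autGroup P :=
  autInducedBy_le_autGroup hPT

lemma mem_XX_R {P : Subgroup Ω} (hPT : P ≤ preimageAlong θ T') {α : MulAut P} (hα : α ∈ autInducedBy (preimageAlong θ T') P) : α ∈ h.XX P :=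
  ⟨⟨α, R_le_MM h hPT hα⟩, Subgroup.mem_sup_left (Subgroup.mem_subgroupOf.2 hα), rfl⟩

lemma mem_XX_cop {P : Subgroup Ω} {α : MulAut P} (hα : α ∈ h.MM.autGroup P) (hc : (orderOf α).Coprime p) : α ∈ h.XX P := by
  refine ⟨⟨α, hα⟩, Subgroup.mem_sup_right (Subgroup.subset_closure ?_), rfl⟩
  show (orderOf (⟨α, hα⟩ : ↥(h.MM.autGroup P))).Coprime p
  rwa [Subgroup.orderOf_mk]

lemma XX_le {P : Subgroup Ω} {N : Subgroup (MulAut P)} (h1 : ∀ α ∈ autInducedBy (preimageAlong θ T') P, α ∈ N)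
    (h2 : ∀ α ∈ h.MM.autGroup P, (orderOf α).Coprime p → α ∈ N) : h.XX P ≤ N := by
  refine Subgroup.map_le_iff_le_comap.2 (sup_le (fun x hx => h1 _ (Subgroup.mem_subgroupOf.1 hx)) ?_)
  rw [pResidual, Subgroup.closure_le]
  intro x hx
  refine h2 _ x.2 ?_
  have : (orderOf x).Coprime p := hx
  rwa [← Subgroup.orderOf_coe] at this

/-- `Z` lies in images. -/
lemma Z_le_img {P : Subgroup Ω} {f : Ω → Ω} (hf : Maps F P f) (hZP : Z ≤ P) : Z ≤ img f P := by
  intro z hz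
  rw [← central_fix h.hZ hf (hZP hz) hz]
  exact hf.mem_img_of_mem (hZP hz)

lemma image_img {P : Subgroup Ω} {f : Ω → Ω} {f' : Ω' → Ω'} (hf : Maps F P f) (hf' : Maps F' (imageAlong θ P) f')
    (hrel : ∀ x ∈ P, qf θ (f x) = f' (qf θ x)) : imageAlong θ (img f P) = img f' (imageAlong θ P) := by
  ext y
  rw [hf'.mem_img, mem_image]
  constructor
  · rintro ⟨x, hx, hxS, rfl⟩
    obtain ⟨x₀, hx₀, rfl⟩ := hf.mem_img.1 hx
    exact ⟨qf θ x₀, qf_mem_image hx₀ hf.le, (hrel x₀ hx₀).symm⟩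
  · rintro ⟨y₀, hy₀, rfl⟩
    obtain ⟨x, hx, hxS, rfl⟩ := mem_image.1 hy₀
    exact ⟨f x, hf.mem_img_of_mem hx, hf.mem hx, hrel x hx⟩

lemma isP' : IsPGroup p S' := by
  have hr := h.hfac.2.2.1
  rw [← hr]
  rintro ⟨y, s, rfl⟩
  obtain ⟨k, hk⟩ := h.hS s
  refine ⟨k, Subtype.ext ?_⟩
  show (θ s) ^ p ^ k = 1
  rw [← map_pow, hk, map_one]

/-- A fully normalized subgroup containing `Z` has fully normalized image. -/
lemma full_bar {P : Subgroup Ω} (hZP : Z ≤ P) (hfull : F.IsFullyNormalized P) : F'.IsFullyNormalized (imageAlong θ P) := by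
  haveI := finS' h
  have hfac := h.hfac
  have hPS := hfull.1
  have hP'S' : imageAlong θ P ≤ S' := by
    intro y hy
    obtain ⟨x, hx, hxS, rfl⟩ := mem_image.1 hy
    exact qf_mem hfac hxS
  refine ⟨hP'S', fun Q' hQ' => ?_⟩
  obtain ⟨f', hf', rfl⟩ := isConj_iff.1 hQ'
  obtain ⟨f, hf, hrel⟩ := maps_lift hfac hf'
  rw [pre_img hfac hZP hPS] at hf hrel
  have hQ'S' : img f' (imageAlong θ P) ≤ S' := hf'.img_le
  have e1 : preimageAlong θ (img f' (imageAlong θ P)) = img f P := by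
    rw [← image_img h hf hf' hrel]
    exact pre_img hfac (Z_le_img h hf hZP) hf.img_le
  have hc := hfull.2 (img f P) (isConj_iff.2 ⟨f, hf, rfl⟩)
  rw [← e1] at hc
  have e2 : normalizerIn S P = preimageAlong θ (normalizerIn S' (imageAlong θ P)) := by
    rw [← norm_pre hfac hP'S', pre_img hfac hZP hPS]
  have hn1 : normalizerIn S' (img f' (imageAlong θ P)) ≤ S' := inf_le_left
  have hn2 : normalizerIn S' (imageAlong θ P) ≤ S' := inf_le_left
  rw [e2, norm_pre hfac hQ'S', card_pre hfac hn1, card_pre hfac hn2] at hc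
  haveI : Finite Z := finite_of_le hfac.1
  exact Nat.le_of_mul_le_mul_left hc Nat.card_pos

/-- The image of a fully normalized subgroup is fully normalized in `E'`, hence fully automized and receptive. -/
lemma full_E' {P : Subgroup Ω} (hZP : Z ≤ P) (hPT : P ≤ preimageAlong θ T') (hfull : F.IsFullyNormalized P) :
    E'.IsFullyNormalized (imageAlong θ P) ∧ E'.IsFullyAutomized p (imageAlong θ P) ∧ E'.IsReceptive (imageAlong θ P) := by
  haveI := finS' h
  have hS'p : IsPGroup p S' := isP' h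
  have hT'p : IsPGroup p T' := hS'p.to_le (hT'S' h)
  have h1 := Cfsg.Agent.S5153.fullyNormalized_of_stronglyClosed hS'p (sat' h) (sub' h) (sc' h) (image_le hPT) (full_bar h hZP hfull)
  haveI : Finite T' := finite_of_le (hT'S' h)
  obtain ⟨h2, h3⟩ := of_fullyNormalized hT'p (satE h) h1
  exact ⟨h1, h3, receptive_of_fullyCentralized hT'p (satE h) h2⟩

/-- The key relation: on `KP`, `Aut_MM(P)` acts trivially modulo `Aut_T(P)`. -/
theorem comm_KP {P : Subgroup Ω} (hZP : Z ≤ P) (hPT : P ≤ preimageAlong θ T') (hTC : TC F' T' (imageAlong θ P)) (hfull : F.IsFullyNormalized P)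
    {a k : MulAut P} (ha : a ∈ h.MM.autGroup P) (hk : k ∈ KP F Z P) : a * k * a⁻¹ * k⁻¹ ∈ autInducedBy (preimageAlong θ T') P := by
  haveI := finS' h
  have hfac := h.hfac
  have hTS := preimageAlong_le θ T'
  have hPS := hPT.trans hTS
  have haF : a ∈ F.autGroup P := (mem_autGroup_iff hPS).2 (MM.maps h ((mem_autGroup_iff hPT).1 ha))
  obtain ⟨hfc, hA⟩ := of_fullyNormalized h.hS h.hF hfull
  obtain ⟨s, hs, hsv⟩ := mem_autInducedBy.1 (KP_le_auto h.hS h.hZ hZP hPS hA hk)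
  obtain ⟨α', hα', hrel⟩ := barAut h hZP hPT ha
  obtain ⟨θ₁, hθ₁, hl⟩ := exists_hat (isP' h) (sat' h) h.hE hTC hα'
  have hP'S' : imageAlong θ P ≤ S' := (image_le hPT).trans (hT'S' h)
  have hKm : Maps F' (KK S' (imageAlong θ P)) (afn θ₁) := hθ₁.toPres.maps hP'S'
  obtain ⟨b, hb, hbrel⟩ := maps_lift hfac hKm
  have hPC : P ≤ preimageAlong θ (KK S' (imageAlong θ P)) := fun x hx => mem_pre.2 ⟨hPS hx, Q_le_KK (qf_mem_image hx hPS)⟩
  have hsc : qf θ s ∈ centralizerIn S' (imageAlong θ P) := by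
    refine mem_centralizerIn.2 ⟨qf_mem hfac hs, fun y hy => ?_⟩
    obtain ⟨x, hx, hxS, rfl⟩ := mem_image.1 hy
    have h1 := hk.2 x hx
    rw [hsv x hx] at h1
    have hS1 : s * x * s⁻¹ ∈ S := S.mul_mem (S.mul_mem hs hxS) (S.inv_mem hs)
    have h2 := (qf_eq_iff hfac hxS hS1).2 h1
    rw [qf_mul θ (S.mul_mem hs hxS) (S.inv_mem hs), qf_mul θ hs hxS, qf_inv θ hs, eq_mul_inv_iff_mul_eq] at h2
    exact h2
  have hsC : s ∈ preimageAlong θ (KK S' (imageAlong θ P)) := mem_pre.2 ⟨hs, Y_le_KK hsc⟩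
  have hp₀ : s⁻¹ * b s ∈ P := by
    refine mem_of_qf hfac hZP hPS (S.mul_mem (S.inv_mem hs) (hb.mem hsC)) ?_
    rw [qf_mul θ (S.inv_mem hs) (hb.mem hsC), qf_inv θ hs, hbrel s hsC]
    exact hθ₁.hY _ hsc
  have hbP : ∀ x ∈ P, qf θ (b x) = qf θ (afn a x) := fun x hx => by
    rw [hbrel x (hPC hx), hl _ (qf_mem_image hx hPS), hrel x hx]
  have hbPv : ∀ x ∈ P, b x ∈ P := fun x hx => mem_of_qf hfac hZP hPS (hb.mem (hPC hx)) (by
    rw [hbP x hx]
    exact qf_mem_image (afn_mem a hx) hPS)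
  have hbm : Maps F P b := hb.restrict hPC
  have himg := img_eq_of_card hbm hPS hPS hbPv le_rfl
  obtain ⟨b₀, hb₀, hb₀v⟩ : ∃ b₀ : MulAut P, b₀ ∈ F.autGroup P ∧ ∀ x ∈ P, afn b₀ x = b x :=
    ⟨hbm.toAut himg, hbm.toAut_mem himg, fun x hx => hbm.afn_toAut himg hx⟩
  have hk₁ : b₀ * a⁻¹ ∈ KP F Z P := by
    refine KP_of_bar h hPS (Subgroup.mul_mem _ hb₀ (Subgroup.inv_mem _ haF)) (fun x hx => ?_)
    have hx₁ := afn_mem a⁻¹ hx
    rw [afn_mul _ _ hx, hb₀v _ hx₁, hbP _ hx₁, afn_afn_inv a hx]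
  haveI : Finite P := finite_of_le hPS
  obtain ⟨c, hc, hcv⟩ := exists_conjAut (F := F) hPS (hPS hp₀) (mem_normalizer_of_conj_mem (P := P) (fun x hx => P.mul_mem (P.mul_mem hp₀ hx) (P.inv_mem hp₀)))
  have hcR : c ∈ autInducedBy (preimageAlong θ T') P := mem_autInducedBy.2 ⟨_, hPT hp₀, hcv⟩
  have hE1 : b₀ * k * b₀⁻¹ = k * c := by
    apply afn_ext
    intro y hy
    have hx₁ := afn_mem b₀⁻¹ hy
    rw [afn_mul _ _ hy, afn_mul _ _ hx₁, hb₀v _ (afn_mem k hx₁), hsv _ hx₁, afn_mul _ _ hy, hcv y hy, hsv _ (by rw [← hcv y hy]; exact afn_mem c hy)]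
    rw [hb.map_conj hsC (hPC hx₁), ← hb₀v _ hx₁, afn_afn_inv b₀ hy]
    group
  have hw : a * k * a⁻¹ ∈ KP F Z P := KP_conj h.hZ hZP hPS haF hk
  have hE2 : b₀ * k * b₀⁻¹ = a * k * a⁻¹ := by
    have h3 := KP_comm h.hZ hZP hPS hk₁ hw
    calc b₀ * k * b₀⁻¹ = (b₀ * a⁻¹) * (a * k * a⁻¹) * (b₀ * a⁻¹)⁻¹ := by group
      _ = (a * k * a⁻¹) * (b₀ * a⁻¹) * (b₀ * a⁻¹)⁻¹ := by rw [h3]
      _ = a * k * a⁻¹ := by group
  have hwe : a * k * a⁻¹ = k * c := by rw [← hE2, hE1]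
  have hcK : c ∈ KP F Z P := by
    have e : c = k⁻¹ * (a * k * a⁻¹) := by rw [hwe]; group
    rw [e]
    exact Subgroup.mul_mem _ (Subgroup.inv_mem _ hk) hw
  rw [hwe, KP_comm h.hZ hZP hPS hk hcK, mul_inv_cancel_right]
  exact hcR

/-- The index of `Aut_T(P) KP` in `Aut_MM(P)`. -/
theorem index_RK {P : Subgroup Ω} (hZP : Z ≤ P) (hPT : P ≤ preimageAlong θ T') (hfull : F.IsFullyNormalized P) :
    ((autInducedBy (preimageAlong θ T') P).subgroupOf (h.MM.autGroup P) ⊔ (KP F Z P).subgroupOf (h.MM.autGroup P)).index.Coprime p := by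
  classical
  haveI := finS' h
  have hfac := h.hfac
  have hTS := preimageAlong_le θ T'
  have hPS := hPT.trans hTS
  haveI : Finite T' := finite_of_le (hT'S' h)
  haveI : Finite (preimageAlong θ T') := finite_of_le hTS
  have hP'T' : imageAlong θ P ≤ T' := image_le hPT
  haveI : Finite (MulAut P) := finite_mulAut (S := S) hPS
  haveI : Finite (MulAut (imageAlong θ P)) := finite_mulAut (S := T') hP'T'
  obtain ⟨-, hA', -⟩ := full_E' h hZP hPT hfull
  obtain ⟨-, V, hV⟩ := id hA'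
  choose π₀ hπ₀ hπ₁ using (fun a : ↥(h.MM.autGroup P) => barAut h hZP hPT a.2)
  have huniq : ∀ α β : MulAut (imageAlong θ P), (∀ x ∈ P, afn α (qf θ x) = afn β (qf θ x)) → α = β := by
    intro α β hαβ
    apply afn_ext
    intro y hy
    obtain ⟨x, hx, -, rfl⟩ := mem_image.1 hy
    exact hαβ x hx
  let π : ↥(h.MM.autGroup P) →* ↥(E'.autGroup (imageAlong θ P)) := MonoidHom.mk' (fun a => ⟨π₀ a, hπ₀ a⟩) (by
    intro a b
    apply Subtype.ext
    apply huniq
    intro x hx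
    show afn (π₀ (a * b)) _ = afn (π₀ a * π₀ b) _
    rw [← hπ₁ _ x hx, afn_mul _ _ (qf_mem_image hx hPS), ← hπ₁ b x hx, ← hπ₁ a _ (afn_mem _ hx), Subgroup.coe_mul, afn_mul _ _ hx])
  have hπv : ∀ (a : ↥(h.MM.autGroup P)), ∀ x ∈ P, qf θ (afn (a : MulAut P) x) = afn ((π a : ↥(E'.autGroup (imageAlong θ P))) : MulAut (imageAlong θ P)) (qf θ x) :=
    fun a x hx => hπ₁ a x hx
  have hπs : Function.Surjective π := by
    rintro ⟨b, hb⟩
    obtain ⟨f, hf, hrel⟩ := lift h ((mem_autGroup_iff hP'T').1 hb)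
    rw [pre_img hfac hZP hPS] at hf hrel
    have hv : ∀ x ∈ P, f x ∈ P := fun x hx => by
      have hfF := MM.maps h hf
      refine mem_of_qf hfac hZP hPS (hfF.mem hx) ?_
      rw [hrel x hx]
      exact afn_mem b (qf_mem_image hx hPS)
    have himg := img_eq_of_card hf hPT hPT hv le_rfl
    refine ⟨⟨hf.toAut himg, hf.toAut_mem himg⟩, Subtype.ext ?_⟩
    apply huniq
    intro x hx
    have e := hπv ⟨hf.toAut himg, hf.toAut_mem himg⟩ x hx
    rw [← e]
    show qf θ (afn (hf.toAut himg) x) = _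
    rw [hf.afn_toAut himg hx, hrel x hx]
  have hU : (V : Subgroup _).comap π = (autInducedBy (preimageAlong θ T') P).subgroupOf (h.MM.autGroup P) ⊔ (KP F Z P).subgroupOf (h.MM.autGroup P) := by
    apply le_antisymm
    · intro a ha
      have h1 : π a ∈ (V : Subgroup _) := ha
      rw [hV] at h1
      obtain ⟨t', ht', ht'v⟩ := mem_autInducedBy.1 (Subgroup.mem_subgroupOf.1 h1)
      obtain ⟨t, htS, rfl⟩ := exists_qf hfac (hT'S' h ht')
      have htT : t ∈ preimageAlong θ T' := mem_pre.2 ⟨htS, ht'⟩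
      have hconj : ∀ x ∈ P, qf θ (t * x * t⁻¹) = qf θ (afn (a : MulAut P) x) := by
        intro x hx
        have hxS := hPS hx
        rw [qf_mul θ (S.mul_mem htS hxS) (S.inv_mem htS), qf_mul θ htS hxS, qf_inv θ htS, ← ht'v _ (qf_mem_image hx hPS), ← hπv a x hx]
      have htN : t ∈ Subgroup.normalizer (P : Set Ω) := by
        haveI : Finite P := finite_of_le hPS
        refine mem_normalizer_of_conj_mem (fun x hx => mem_of_qf hfac hZP hPS (S.mul_mem (S.mul_mem htS (hPS hx)) (S.inv_mem htS)) ?_)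
        rw [hconj x hx]
        exact qf_mem_image (afn_mem _ hx) hPS
      obtain ⟨r, hr, hrv⟩ := exists_conjAut (F := h.MM) hPT htT htN
      have hrR : r ∈ autInducedBy (preimageAlong θ T') P := mem_autInducedBy.2 ⟨t, htT, hrv⟩
      have haF : (a : MulAut P) ∈ F.autGroup P := (mem_autGroup_iff hPS).2 (MM.maps h ((mem_autGroup_iff hPT).1 a.2))
      have hrF : r ∈ F.autGroup P := (mem_autGroup_iff hPS).2 (MM.maps h ((mem_autGroup_iff hPT).1 hr))
      have hk : (a : MulAut P) * r⁻¹ ∈ KP F Z P := by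
        refine KP_of_bar h hPS (Subgroup.mul_mem _ haF (Subgroup.inv_mem _ hrF)) (fun x hx => ?_)
        have hx₁ := afn_mem r⁻¹ hx
        rw [afn_mul _ _ hx, ← hconj _ hx₁, ← hrv _ hx₁, afn_afn_inv r hx]
      have ea : a = (⟨r, hr⟩ : ↥(h.MM.autGroup P)) * (⟨r, hr⟩⁻¹ * a) := by group
      rw [ea]
      refine Subgroup.mul_mem _ (Subgroup.mem_sup_left (Subgroup.mem_subgroupOf.2 hrR)) (Subgroup.mem_sup_right ?_)
      have hk' := KP_conj h.hZ hZP hPS (Subgroup.inv_mem _ hrF) hk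
      have e2 : r⁻¹ * ((a : MulAut P) * r⁻¹) * r⁻¹⁻¹ = r⁻¹ * (a : MulAut P) := by group
      rw [e2] at hk'
      exact Subgroup.mem_subgroupOf.2 hk'
    · refine sup_le (fun r hr => ?_) (fun k hk => ?_)
      · have hr' := Subgroup.mem_subgroupOf.1 hr
        obtain ⟨t, ht, htv⟩ := mem_autInducedBy.1 hr'
        show π r ∈ (V : Subgroup _)
        rw [hV]
        refine Subgroup.mem_subgroupOf.2 (mem_autInducedBy.2 ⟨qf θ t, (mem_pre.1 ht).2, fun y hy => ?_⟩)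
        obtain ⟨x, hx, hxS, rfl⟩ := mem_image.1 hy
        have htS := hTS ht
        rw [← hπv r x hx, htv x hx, qf_mul θ (S.mul_mem htS hxS) (S.inv_mem htS), qf_mul θ htS hxS, qf_inv θ htS]
      · have hk' := Subgroup.mem_subgroupOf.1 hk
        have h1 : π k = 1 := by
          apply Subtype.ext
          apply huniq
          intro x hx
          rw [← hπv k x hx]
          show _ = afn (1 : MulAut (imageAlong θ P)) _
          rw [afn_one (qf_mem_image hx hPS)]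
          exact ((qf_eq_iff hfac (hPS hx) (hPS (afn_mem _ hx))).2 (hk'.2 x hx)).symm
        show π k ∈ (V : Subgroup _)
        rw [h1]
        exact Subgroup.one_mem _
  rw [← hU, Subgroup.index_comap_of_surjective _ hπs]
  have h1 : ¬ p ∣ (V : Subgroup ↥(E'.autGroup (imageAlong θ P))).index := V.not_dvd_index
  exact ((Nat.Prime.coprime_iff_not_dvd (Fact.out : p.Prime)).2 h1).symm

/-- The structure of `X(P)` at a fully normalized `P`. -/
theorem XX_struct {P : Subgroup Ω} (hZP : Z ≤ P) (hPT : P ≤ preimageAlong θ T') (hTC : TC F' T' (imageAlong θ P)) (hfull : F.IsFullyNormalized P) :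
    (∀ k ∈ KP F Z P, k ∈ h.XX P → k ∈ autInducedBy (preimageAlong θ T') P) ∧
    (∀ a ∈ h.MM.autGroup P, ∃ x ∈ h.XX P, ∃ k ∈ KP F Z P, a = x * k) ∧
    (∀ Q : Subgroup (MulAut P), Q ≤ h.XX P → IsPGroup p Q → autInducedBy (preimageAlong θ T') P ≤ Q → Q = autInducedBy (preimageAlong θ T') P) := by
  have hTS := preimageAlong_le θ T'
  have hPS := hPT.trans hTS
  haveI : Finite (MulAut P) := finite_mulAut (S := S) hPS
  have hle : h.MM.autGroup P ≤ F.autGroup P := fun a ha => (mem_autGroup_iff hPS).2 (MM.maps h ((mem_autGroup_iff hPT).1 ha))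
  obtain ⟨hfc, hA⟩ := of_fullyNormalized h.hS h.hF hfull
  haveI hKn : ((KP F Z P).subgroupOf (h.MM.autGroup P)).Normal := ⟨fun k hk g => Subgroup.mem_subgroupOf.2
    (KP_conj h.hZ hZP hPS (hle g.2) (Subgroup.mem_subgroupOf.1 hk))⟩
  have hKS := KP_le_auto h.hS h.hZ hZP hPS hA
  have hRS : autInducedBy (preimageAlong θ T') P ≤ autInducedBy S P := by
    intro α hα
    obtain ⟨t, ht, htv⟩ := mem_autInducedBy.1 hα
    exact mem_autInducedBy.2 ⟨t, hTS ht, htv⟩
  have hsupS : (autInducedBy (preimageAlong θ T') P).subgroupOf (h.MM.autGroup P) ⊔ (KP F Z P).subgroupOf (h.MM.autGroup P) ≤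
      (autInducedBy S P).subgroupOf (h.MM.autGroup P) :=
    sup_le (fun r hr => Subgroup.mem_subgroupOf.2 (hRS (Subgroup.mem_subgroupOf.1 hr))) (fun r hr => Subgroup.mem_subgroupOf.2 (hKS (Subgroup.mem_subgroupOf.1 hr)))
  have hWp : IsPGroup p ↥((autInducedBy (preimageAlong θ T') P).subgroupOf (h.MM.autGroup P) ⊔ (KP F Z P).subgroupOf (h.MM.autGroup P)) :=
    ((isPGroup_autInducedBy h.hS).comap_subtype).to_le hsupS
  have hmain := Cfsg.Agent.Lib.FusionCompG.transfer_main (p := p) ((autInducedBy (preimageAlong θ T') P).subgroupOf (h.MM.autGroup P))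
    ((KP F Z P).subgroupOf (h.MM.autGroup P))
    (fun a ha b hb => Subtype.ext (KP_comm h.hZ hZP hPS (Subgroup.mem_subgroupOf.1 ha) (Subgroup.mem_subgroupOf.1 hb))) hWp
    (index_RK h hZP hPT hfull)
    (fun a k hk => Subgroup.mem_subgroupOf.2 (comm_KP h hZP hPT hTC hfull a.2 (Subgroup.mem_subgroupOf.1 hk)))
    (fun a r hr hc => Subgroup.mem_subgroupOf.2 (conj_R h.hS h.hF (T_sc h) hPT hfull (hle a.2) (Subgroup.mem_subgroupOf.1 hr)
      (Subgroup.mem_subgroupOf.1 (hsupS hc))))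
  obtain ⟨h1, h2, h3⟩ := hmain
  refine ⟨?_, ?_, ?_⟩
  · rintro k hk ⟨x, hx, rfl⟩
    exact Subgroup.mem_subgroupOf.1 (h1 x (Subgroup.mem_subgroupOf.2 hk) hx)
  · intro a ha
    obtain ⟨x, hx, k, hk, e⟩ := h2 ⟨a, ha⟩
    exact ⟨x, ⟨x, hx, rfl⟩, k, Subgroup.mem_subgroupOf.1 hk, congrArg Subtype.val e⟩
  · intro Q hQX hQp hRQ
    have hQA : Q ≤ h.MM.autGroup P := hQX.trans (XX_le_MM h P)
    have hQG : Q.subgroupOf (h.MM.autGroup P) ≤ (autInducedBy (preimageAlong θ T') P).subgroupOf (h.MM.autGroup P) ⊔ pResidual p ↥(h.MM.autGroup P) := by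
      intro y hy
      obtain ⟨x, hx, e⟩ := hQX (Subgroup.mem_subgroupOf.1 hy)
      have : x = y := Subtype.ext e
      rwa [← this]
    have h4 := h3 _ hQG hQp.comap_subtype (fun r hr => Subgroup.mem_subgroupOf.2 (hRQ (Subgroup.mem_subgroupOf.1 hr)))
    refine le_antisymm (fun q hq => ?_) hRQ
    have h5 : (⟨q, hQA hq⟩ : ↥(h.MM.autGroup P)) ∈ Q.subgroupOf (h.MM.autGroup P) := Subgroup.mem_subgroupOf.2 hq
    rw [h4] at h5
    exact Subgroup.mem_subgroupOf.1 h5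

end PB

end Cfsg.Agent.Lib.FusionCompA
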