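/-
FusionCompP3: the subsystem generated by the groups `X(P)`; every map of `E'` lifts to it, and it is invariant under `Aut_F(T)`.
-/
import Mathlib
import Cfsg.Agent.Lib.FusionCompP2

set_option autoImplicit false
set_option linter.unusedSectionVars false
set_option linter.unusedVariables false
set_option linter.unusedSimpArgs false
set_option linter.style.haveILetI false

namespace Cfsg.Agent.Lib.FusionCompA

open Cfsg Cfsg.FusionSystem Cfsg.Agent.Lib.FusionCore Cfsg.Agent.Lib.FusionCore2 Cfsg.Agent.Lib.FusionGT Cfsg.Agent.Lib.FusionFactor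
open Cfsg.Agent.Lib.FusionStrongClosed Cfsg.Agent.Lib.FusionQuotSat Cfsg.Agent.Lib.PCore
open Cfsg.Agent.Lib.FusionInvariant (Str Inv Frat isInvariantIn_iff str_of_inv_frat maps_sub StrongMem aut_maps strong_img_le)
open Cfsg.Agent.Lib.AschCore
open Cfsg.Agent.Lib.FusionPPrimeMin (TC tc_of_centric)
open Cfsg.Agent.Lib.FusionCentralQuot
open Cfsg.Agent.Lib.FusionIndexPrime (ofMaps maps_ofMaps)

universe u

variable {Ω Ω' : Type u} [Group Ω] [Group Ω'] {S : Subgroup Ω} {F : FusionSystem S} {Z : Subgroup Ω}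
  {S' : Subgroup Ω'} {θ : S →* Ω'} {F' : FusionSystem S'} {T' : Subgroup Ω'} {E' : FusionSystem T'} {p : ℕ}

/-- The subgroups indexing the generators. -/
def HH (Z : Subgroup Ω) (θ : S →* Ω') (F' : FusionSystem S') (T' : Subgroup Ω') (P : Subgroup Ω) : Prop :=
  Z ≤ P ∧ P ≤ preimageAlong θ T' ∧ TC F' T' (imageAlong θ P)

section GenDef

variable [Fact p.Prime] [Finite S]

/-- The predicate of the maps of the subsystem. -/
inductive GenN (h : PB F Z θ F' E' p) : Subgroup Ω → (Ω → Ω) → Prop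
  | gen {P R : Subgroup Ω} {x : MulAut P} : HH Z θ F' T' P → x ∈ h.XX P → R ≤ P → GenN h R (afn x)
  | comp {P Q : Subgroup Ω} {f g : Ω → Ω} : GenN h P f → GenN h Q g → (∀ x ∈ P, f x ∈ Q) → GenN h P (g ∘ f)
  | inv {P : Subgroup Ω} {f g : Ω → Ω} : GenN h P f → Maps F (img f P) g → (∀ x ∈ P, g (f x) = x) → GenN h (img f P) g
  | congr {P : Subgroup Ω} {f g : Ω → Ω} : GenN h P f → (∀ x ∈ P, f x = g x) → GenN h P g

namespace PB

variable (h : PB F Z θ F' E' p)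
include h

lemma GenN.mapsMM {P : Subgroup Ω} {f : Ω → Ω} (hf : GenN h P f) : Maps h.MM P f := by
  induction hf with
  | @gen P R x hP hx hR =>
    exact ((mem_autGroup_iff hP.2.1).1 (XX_le_MM h P hx)).restrict hR
  | comp _ _ hm hf hg => exact hf.comp hg hm
  | @inv P f g _ hg h1 hf =>
    obtain ⟨g₀, hg₀, h2, h3⟩ := hf.inv
    refine hg₀.congr (fun y hy => ?_)
    obtain ⟨x, hx, rfl⟩ := hf.mem_img.1 hy
    rw [h2 x hx, h1 x hx]
  | congr _ hfg hf => exact hf.congr hfg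

lemma HH_T : HH Z θ F' T' (preimageAlong θ T') := by
  have hfac := h.hfac
  have hTS := preimageAlong_le θ T'
  haveI := finS' h
  refine ⟨Z_le_pre hfac T', le_rfl, ?_⟩
  rw [img_pre hfac (hT'S' h)]
  refine ⟨le_rfl, fun Q' hQ' => ?_⟩
  rw [Cfsg.Agent.Lib.AschCore.sc_conj_eq (sc' h) hQ']
  intro c hc
  exact (mem_centralizerIn.1 hc).1

lemma GenN.conj {P : Subgroup Ω} {g : Ω} (hP : P ≤ preimageAlong θ T') (hg : g ∈ preimageAlong θ T') : GenN h P (fun x => g * x * g⁻¹) := by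
  have hTS := preimageAlong_le θ T'
  haveI : Finite (preimageAlong θ T') := finite_of_le hTS
  have hN : g ∈ Subgroup.normalizer ((preimageAlong θ T' : Subgroup Ω) : Set Ω) :=
    mem_normalizer_of_conj_mem (fun x hx => Subgroup.mul_mem _ (Subgroup.mul_mem _ hg hx) (Subgroup.inv_mem _ hg))
  obtain ⟨x, hx, hxv⟩ := exists_conjAut (F := h.MM) le_rfl hg hN
  have hxR : x ∈ autInducedBy (preimageAlong θ T') (preimageAlong θ T') := mem_autInducedBy.2 ⟨g, hg, hxv⟩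
  exact (GenN.gen (HH_T h) (mem_XX_R h le_rfl hxR) hP).congr (fun y hy => hxv y (hP hy))

/-- The subsystem generated by the groups `X(P)`. -/
noncomputable def NN (h : PB F Z θ F' E' p) : FusionSystem (preimageAlong θ T') :=
  ofMaps (resT F (T_sc h)) (GenN h) (fun hf => maps_resT.2 ⟨MM.maps h (GenN.mapsMM h hf), ((maps_MM h).1 (GenN.mapsMM h hf)).2.1⟩)
    (fun hf hfg => hf.congr hfg) (fun hP hg => GenN.conj h hP hg) (fun hf hg hfg => hf.comp hg hfg)
    (fun {P f} hf => by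
      obtain ⟨g, hg, h1, -⟩ := (MM.maps h (GenN.mapsMM h hf)).inv
      exact ⟨g, hf.inv hg h1, h1⟩)

lemma maps_NN {P : Subgroup Ω} {f : Ω → Ω} : Maps h.NN P f ↔ GenN h P f := by
  constructor
  · rintro ⟨φ, hφ, hf⟩
    have h0 : GenN h P (fn φ) := hφ
    exact h0.congr (fun x hx => by rw [fn_of_mem _ hx]; exact hf ⟨x, hx⟩)
  · intro hm
    have hm' := MM.maps h (GenN.mapsMM h hm)
    refine ⟨hm'.hom, ?_, hm'.hom_apply⟩
    exact (hm.congr (fun x hx => by rw [fn_of_mem _ hx, hm'.hom_apply]) : GenN h P (fn hm'.hom))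

lemma NN.mapsMM {P : Subgroup Ω} {f : Ω → Ω} (hf : Maps h.NN P f) : Maps h.MM P f := GenN.mapsMM h ((maps_NN h).1 hf)

lemma NN.maps {P : Subgroup Ω} {f : Ω → Ω} (hf : Maps h.NN P f) : Maps F P f := MM.maps h (NN.mapsMM h hf)

lemma NN.sub : h.NN.IsSubsystemOf F := fun P φ hφ => by
  obtain ⟨ψ, hψ, hψv⟩ := NN.maps h (Maps.of_mem hφ)
  have : φ = ψ := by
    ext x
    rw [hψv x, fn_coe]
  rw [this]
  exact hψ

lemma NN.of_XX {P R : Subgroup Ω} {x : MulAut P} (hP : HH Z θ F' T' P) (hx : x ∈ h.XX P) (hR : R ≤ P) : Maps h.NN R (afn x) :=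
  (maps_NN h).2 (GenN.gen hP hx hR)

/-- The part of order prime to `p` of an automorphism whose image has order prime to `p`. -/
lemma exists_cop_part {Q : Subgroup Ω} {Q' : Subgroup Ω'} (hQS : Q ≤ S) (a : MulAut Q) (y : MulAut Q') (hrel : ∀ x ∈ Q, qf θ (afn a x) = afn y (qf θ x))
    (hqQ : ∀ x ∈ Q, qf θ x ∈ Q') (hcop : (orderOf y).Coprime p) :
    ∃ j : ℕ, (orderOf (a ^ j)).Coprime p ∧ ∀ x ∈ Q, qf θ (afn (a ^ j) x) = afn y (qf θ x) := by
  haveI : Finite (MulAut Q) := finite_mulAut (S := S) hQS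
  have hp : p.Prime := Fact.out
  obtain ⟨e, m, hm, hnm⟩ := Nat.exists_eq_pow_mul_and_not_dvd (orderOf_pos a).ne' p hp.ne_one
  have hmp : m.Coprime p := ((Nat.Prime.coprime_iff_not_dvd hp).2 hm).symm
  obtain ⟨k, hk⟩ := Cfsg.Agent.Lib.FusionWeakEmb.exists_pow_of_coprime (g := y) (n := p ^ e) (Nat.Coprime.pow_right e hcop)
  have hpow : ∀ (n : ℕ), ∀ x ∈ Q, qf θ (afn (a ^ n) x) = afn (y ^ n) (qf θ x) := by
    intro n
    induction n with
    | zero =>
      intro x hx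
      rw [pow_zero, pow_zero, afn_one hx, afn_one (hqQ x hx)]
    | succ n ih =>
      intro x hx
      rw [pow_succ, pow_succ, afn_mul _ _ hx, afn_mul _ _ (hqQ x hx), ih _ (afn_mem a hx), hrel x hx]
  refine ⟨p ^ e * k, ?_, fun x hx => ?_⟩
  · have h1 : (a ^ (p ^ e * k)) ^ m = 1 := by
      rw [← pow_mul, mul_comm (p ^ e) k, mul_assoc, ← hnm, pow_mul', pow_orderOf_eq_one, one_pow]
    exact Nat.Coprime.coprime_dvd_left (orderOf_dvd_of_pow_eq_one h1) hmp
  · rw [hpow _ x hx, pow_mul, hk]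

/-- The predicate of the maps of `E'` that lift to `NN`. -/
def HasL (h : PB F Z θ F' E' p) (P' : Subgroup Ω') (f' : Ω' → Ω') : Prop :=
  Maps E' P' f' ∧ ∃ n, Maps h.NN (preimageAlong θ P') n ∧ ∀ x ∈ preimageAlong θ P', qf θ (n x) = f' (qf θ x)

lemma HasL.congr {P' : Subgroup Ω'} {f' g' : Ω' → Ω'} (hf : HasL h P' f') (hfg : ∀ x ∈ P', f' x = g' x) : HasL h P' g' := by
  obtain ⟨h1, n, hn, hr⟩ := hf
  exact ⟨h1.congr hfg, n, hn, fun x hx => by rw [hr x hx, hfg _ (mem_pre.1 hx).2]⟩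

lemma HasL.conj {P' : Subgroup Ω'} {g' : Ω'} (hP : P' ≤ T') (hg : g' ∈ T') : HasL h P' (fun x => g' * x * g'⁻¹) := by
  obtain ⟨g, hgS, rfl⟩ := exists_qf h.hfac (hT'S' h hg)
  have hgT : g ∈ preimageAlong θ T' := mem_pre.2 ⟨hgS, hg⟩
  have hPT : preimageAlong θ P' ≤ preimageAlong θ T' := fun x hx => mem_pre.2 ⟨(mem_pre.1 hx).1, hP (mem_pre.1 hx).2⟩
  refine ⟨Maps.conj hP hg, _, (maps_NN h).2 (GenN.conj h hPT hgT), fun x hx => ?_⟩
  have hxS := (mem_pre.1 hx).1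
  rw [qf_mul θ (S.mul_mem hgS hxS) (S.inv_mem hgS), qf_mul θ hgS hxS, qf_inv θ hgS]

lemma HasL.comp {P' Q' : Subgroup Ω'} {f' g' : Ω' → Ω'} (hf : HasL h P' f') (hg : HasL h Q' g') (hfg : ∀ x ∈ P', f' x ∈ Q') : HasL h P' (g' ∘ f') := by
  obtain ⟨h1, n, hn, hr⟩ := hf
  obtain ⟨h2, m, hm, hs⟩ := hg
  refine ⟨h1.comp h2 hfg, m ∘ n, hn.comp hm (fun x hx => mem_pre.2 ⟨(NN.maps h hn).mem hx, ?_⟩), fun x hx => ?_⟩
  · rw [hr x hx]
    exact hfg _ (mem_pre.1 hx).2
  · simp only [Function.comp]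
    have hnx : n x ∈ preimageAlong θ Q' := mem_pre.2 ⟨(NN.maps h hn).mem hx, by rw [hr x hx]; exact hfg _ (mem_pre.1 hx).2⟩
    rw [hs _ hnx, hr x hx]

lemma pre_img_eq {P' : Subgroup Ω'} {f' : Ω' → Ω'} {n : Ω → Ω} (hP' : P' ≤ S') (hn : Maps F (preimageAlong θ P') n) (hf' : Maps F' P' f')
    (hr : ∀ x ∈ preimageAlong θ P', qf θ (n x) = f' (qf θ x)) : img n (preimageAlong θ P') = preimageAlong θ (img f' P') := by
  have hfac := h.hfac
  have hZP := Z_le_pre hfac P'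
  have hP1 : Maps F' (imageAlong θ (preimageAlong θ P')) f' := by rwa [img_pre hfac hP']
  have h1 := image_img h hn hP1 hr
  rw [img_pre hfac hP'] at h1
  rw [← h1]
  exact (pre_img hfac (Z_le_img h hn hZP) hn.img_le).symm

lemma HasL.inv {P' : Subgroup Ω'} {f' : Ω' → Ω'} (hf : HasL h P' f') : ∃ g', HasL h (img f' P') g' ∧ ∀ x ∈ P', g' (f' x) = x := by
  obtain ⟨h1, n, hn, hr⟩ := hf
  obtain ⟨g', hg', h2, h3⟩ := h1.inv
  obtain ⟨m, hm, h4, h5⟩ := hn.inv
  have hP'S' : P' ≤ S' := h1.le.trans (hT'S' h)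
  rw [pre_img_eq h hP'S' (NN.maps h hn) (maps_sub (sub' h) h1) hr] at hm h5
  refine ⟨g', ⟨hg', m, hm, fun y hy => ?_⟩, h2⟩
  obtain ⟨hm1, hm2⟩ := h5 y hy
  have hqy : qf θ y = f' (qf θ (m y)) := by
    rw [← hr _ hm1, hm2]
  rw [hqy, h2 _ (mem_pre.1 hm1).2]

/-- The subsystem of `E'` of the maps lifting to `NN`. -/
noncomputable def EL (h : PB F Z θ F' E' p) : FusionSystem T' :=
  ofMaps E' (HasL h) (fun hf => hf.1) (fun hf hfg => HasL.congr h hf hfg) (fun hP hg => HasL.conj h hP hg)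
    (fun hf hg hfg => HasL.comp h hf hg hfg) (fun hf => HasL.inv h hf)

omit h [Fact p.Prime] [Finite S] in
/-- A subgroup with `C_T(Q) ≤ Q` that is receptive is centric. -/
lemma centric_of_receptive_aux {R : Subgroup Ω'} [Finite R] {G : FusionSystem R} {Q : Subgroup Ω'} (hRec : G.IsReceptive Q)
    (hc : centralizerIn R Q ≤ Q) : G.IsCentric Q := by
  refine ⟨hRec.1, fun Q₁ hQ₁ c hc₁ => ?_⟩
  obtain ⟨f, hf, rfl⟩ := isConj_iff.1 hQ₁
  obtain ⟨g, hg, h1, h2⟩ := hf.inv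
  have himg : img g (img f Q) = Q := by
    ext y
    rw [hg.mem_img]
    constructor
    · rintro ⟨x, hx, rfl⟩
      exact (h2 x hx).1
    · intro hy
      exact ⟨f y, hf.mem_img_of_mem hy, h1 y hy⟩
  obtain ⟨g₂, hg₂, hg₂1⟩ := IsReceptive.ext hRec hg himg
  have hcN := centralizerIn_le_Nf hg hc₁
  have hN := le_Nf hg
  obtain ⟨k, hk, hk1, -⟩ := hg₂.inv
  have hcC : g₂ c ∈ centralizerIn R Q := by
    refine mem_centralizerIn.2 ⟨hg₂.mem hcN, fun y hy => ?_⟩
    have hy₁ := hf.mem_img_of_mem hy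
    have e1 : g₂ (f y) = y := by rw [hg₂1 _ hy₁, h1 y hy]
    have e2 := hg₂.map_mul (hN hy₁) hcN
    have e3 := hg₂.map_mul hcN (hN hy₁)
    rw [(mem_centralizerIn.1 hc₁).2 _ hy₁, e3, e1] at e2
    exact e2.symm
  have h3 := hc hcC
  have e4 : g₂ (f (g₂ c)) = g₂ c := by rw [hg₂1 _ (hf.mem_img_of_mem h3), h1 _ h3]
  have e5 := hk1 _ (hN (hf.mem_img_of_mem h3))
  rw [e4, hk1 _ hcN] at e5
  rw [e5]
  exact hf.mem_img_of_mem h3

/-- **Every map of `E'` lifts to `NN`.** -/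
theorem lift_NN {P' : Subgroup Ω'} {f' : Ω' → Ω'} (hf' : Maps E' P' f') :
    ∃ n, Maps h.NN (preimageAlong θ P') n ∧ ∀ x ∈ preimageAlong θ P', qf θ (n x) = f' (qf θ x) := by
  haveI := finS' h
  have hfac := h.hfac
  haveI : Finite T' := finite_of_le (hT'S' h)
  haveI : Finite (preimageAlong θ T') := finite_of_le (preimageAlong_le θ T')
  have hT'p : IsPGroup p T' := (isP' h).to_le (hT'S' h)
  have key : ∀ P' : Subgroup Ω', E'.Hom P' ⊆ (EL h).Hom P' := by
    refine Cfsg.Agent.Lib.FusionAlperin.alperin hT'p (satE h) (fun P φ hφ => ?_) ?_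
    · have h0 : HasL h P (fn φ) := hφ
      exact h0.1.mem_hom (fun x => (fn_coe φ x).symm)
    intro Q' hQ'T' hFA hRec hc IH φ hφ hr
    have hQ'S' := hQ'T'.trans (hT'S' h)
    have hZQ := Z_le_pre hfac Q'
    have hQT : preimageAlong θ Q' ≤ preimageAlong θ T' := fun x hx => mem_pre.2 ⟨(mem_pre.1 hx).1, hQ'T' (mem_pre.1 hx).2⟩
    have hHQ : HH Z θ F' T' (preimageAlong θ Q') := by
      refine ⟨hZQ, hQT, ?_⟩
      rw [img_pre hfac hQ'S']
      exact tc_of_centric (inv' h).2.2.2 (centric_of_receptive_aux hRec hc)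
    haveI : Finite (MulAut Q') := finite_mulAut (S := T') hQ'T'
    let L : Subgroup (MulAut Q') :=
      { carrier := {β | β ∈ E'.autGroup Q' ∧ HasL h Q' (afn β)}
        mul_mem' := by
          rintro a b ⟨ha, ha1⟩ ⟨hb, hb1⟩
          exact ⟨Subgroup.mul_mem _ ha hb, HasL.congr h (HasL.comp h hb1 ha1 (fun x hx => afn_mem b hx)) (fun x hx => (afn_mul a b hx).symm)⟩
        one_mem' := ⟨Subgroup.one_mem _, HasL.congr h (HasL.conj h hQ'T' T'.one_mem) (fun x hx => by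
          rw [afn_one hx]
          group)⟩
        inv_mem' := by
          rintro a ⟨ha, ha1⟩
          refine ⟨Subgroup.inv_mem _ ha, ?_⟩
          obtain ⟨g, hg, hg1⟩ := HasL.inv h ha1
          rw [afn_img] at hg
          refine HasL.congr h hg (fun x hx => ?_)
          have := hg1 _ (afn_mem a⁻¹ hx)
          rwa [afn_afn_inv a hx] at this }
    have hL1 : ∀ y ∈ E'.autGroup Q', (orderOf y).Coprime p → y ∈ L := by
      intro y hy hcop
      have hym := (mem_autGroup_iff hQ'T').1 hy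
      obtain ⟨f, hf, hrel⟩ := lift h hym
      have hfF := MM.maps h hf
      have hv : ∀ x ∈ preimageAlong θ Q', f x ∈ preimageAlong θ Q' := fun x hx => mem_pre.2 ⟨hfF.mem hx, by
        rw [hrel x hx]
        exact afn_mem y (mem_pre.1 hx).2⟩
      have himg := img_eq_of_card hf hQT hQT hv le_rfl
      obtain ⟨a₀, ha₀, ha₀v⟩ : ∃ a₀ : MulAut (preimageAlong θ Q'), a₀ ∈ h.MM.autGroup (preimageAlong θ Q') ∧ ∀ x ∈ preimageAlong θ Q', afn a₀ x = f x :=
        ⟨hf.toAut himg, hf.toAut_mem himg, fun x hx => hf.afn_toAut himg hx⟩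
      obtain ⟨j, hj1, hj2⟩ := exists_cop_part h (preimageAlong_le θ Q') a₀ y (fun x hx => by rw [ha₀v x hx, hrel x hx]) (fun x hx => (mem_pre.1 hx).2) hcop
      have hX := mem_XX_cop h (Subgroup.pow_mem _ ha₀ j) hj1
      exact ⟨hy, hym, _, NN.of_XX h hHQ hX le_rfl, hj2⟩
    obtain ⟨-, V, hV⟩ := id hFA
    have hle : E'.autGroup Q' ≤ L := by
      intro α hα
      obtain ⟨κ, hκ, r, hr, e⟩ := Cfsg.Agent.Lib.FusionHyperfocal.exists_pResidual_mul_sylow V ⟨α, hα⟩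
      have h1 : pResidual p ↥(E'.autGroup Q') ≤ L.subgroupOf (E'.autGroup Q') := by
        rw [pResidual, Subgroup.closure_le]
        intro x hx
        refine Subgroup.mem_subgroupOf.2 (hL1 _ x.2 ?_)
        have : (orderOf x).Coprime p := hx
        rwa [← Subgroup.orderOf_coe] at this
      have h2 : (r : MulAut Q') ∈ L := by
        rw [hV] at hr
        obtain ⟨t', ht', ht'v⟩ := mem_autInducedBy.1 (Subgroup.mem_subgroupOf.1 hr)
        exact ⟨r.2, HasL.congr h (HasL.conj h hQ'T' ht') (fun x hx => (ht'v x hx).symm)⟩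
      have e' : α = (κ : MulAut Q') * (r : MulAut Q') := congrArg Subtype.val e
      rw [e']
      exact L.mul_mem (Subgroup.mem_subgroupOf.1 (h1 hκ)) h2
    have hm : Maps E' Q' (fn φ) := Maps.of_mem hφ
    have himg : img (fn φ) Q' = Q' := by
      rw [img_eq_range φ (fun x => (fn_coe φ x).symm), hr]
    have h3 := (hle (hm.toAut_mem himg)).2
    exact (HasL.congr h h3 (fun x hx => hm.afn_toAut himg hx) : HasL h Q' (fn φ))
  obtain ⟨φ, hφ, hf⟩ := id hf'
  have h0 : HasL h P' (fn φ) := key P' hφ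
  obtain ⟨-, n, hn, hr⟩ := h0
  refine ⟨n, hn, fun x hx => ?_⟩
  have hq := (mem_pre.1 hx).2
  rw [hr x hx, fn_of_mem φ hq]
  exact hf ⟨_, hq⟩

/-- Every map of `MM` on a subgroup containing `Z` is a map of `NN` up to `Z`. -/
theorem lift_MM {P : Subgroup Ω} {f : Ω → Ω} (hf : Maps h.MM P f) (hZP : Z ≤ P) :
    ∃ n, Maps h.NN P n ∧ ∀ x ∈ P, qf θ (n x) = qf θ (f x) := by
  obtain ⟨f', hf', hrel⟩ := bar h hf
  obtain ⟨n, hn, hnr⟩ := lift_NN h hf'
  have hPS := (MM.maps h hf).le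
  rw [pre_img h.hfac hZP hPS] at hn hnr
  exact ⟨n, hn, fun x hx => by rw [hnr x hx, hrel x hx]⟩

/-! ### Invariance under `Aut_F(T)` -/

/-- The induced automorphism of `T'`. -/
lemma barT {a : MulAut (preimageAlong θ T')} (ha : a ∈ F.autGroup (preimageAlong θ T')) :
    ∃ a' ∈ F'.autGroup T', ∀ x ∈ preimageAlong θ T', qf θ (afn a x) = afn a' (qf θ x) := by
  haveI := finS' h
  have hfac := h.hfac
  have hTS := preimageAlong_le θ T'
  have hm := (mem_autGroup_iff hTS).1 ha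
  obtain ⟨f', hf', hrel⟩ := desc h hm
  rw [img_pre hfac (hT'S' h)] at hf'
  have hv : ∀ y ∈ T', f' y ∈ T' := by
    intro y hy
    obtain ⟨s, hs, rfl⟩ := exists_qf hfac (hT'S' h hy)
    have hsT : s ∈ preimageAlong θ T' := mem_pre.2 ⟨hs, hy⟩
    rw [← hrel s hsT]
    exact (mem_pre.1 (afn_mem a hsT)).2
  have himg := img_eq_of_card hf' (hT'S' h) (hT'S' h) hv le_rfl
  exact ⟨hf'.toAut himg, hf'.toAut_mem himg, fun x hx => by
    rw [hf'.afn_toAut himg (mem_pre.1 hx).2, hrel x hx]⟩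

/-- `Aut_F(T)` acts on `MM`. -/
lemma MM_inv {a : MulAut (preimageAlong θ T')} (ha : a ∈ F.autGroup (preimageAlong θ T')) {P : Subgroup Ω} {f : Ω → Ω} (hf : Maps h.MM P f) :
    ∃ k, Maps h.MM (img (afn a) P) k ∧ ∀ x ∈ P, k (afn a x) = afn a (f x) := by
  haveI := finS' h
  have hfac := h.hfac
  have hTS := preimageAlong_le θ T'
  have ham := (mem_autGroup_iff hTS).1 ha
  obtain ⟨hfF, hPT, f', hf', hrel⟩ := (maps_MM h).1 hf
  obtain ⟨a', ha', ha'v⟩ := barT h ha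
  have haP := ham.restrict hPT
  obtain ⟨ai, hai, hai1, hai2⟩ := haP.inv
  have hfv : ∀ x ∈ P, f x ∈ preimageAlong θ T' := fun x hx => StrongMem (T_sc h) hPT hfF hx
  have hk : Maps F (img (afn a) P) (afn a ∘ f ∘ ai) :=
    hai.comp (hfF.comp ham hfv) (fun y hy => (hai2 y hy).1)
  have hT'S'' := hT'S' h
  haveI : Finite T' := finite_of_le hT'S''
  obtain ⟨hS1, hT1, hInv', hFr'⟩ := inv' h
  obtain ⟨k', hk', hk'v⟩ := hInv' hf' a' ha'
  have hmF' : Maps F' (imageAlong θ P) (afn a') := ((mem_autGroup_iff hT'S'').1 ha').restrict (image_le hPT)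
  have hrel2 : ∀ x ∈ P, qf θ (afn a x) = afn a' (qf θ x) := fun x hx => ha'v x (hPT hx)
  have him : imageAlong θ (img (afn a) P) = img (afn a') (imageAlong θ P) := image_img h haP hmF' hrel2
  refine ⟨_, (maps_MM h).2 ⟨hk, ?_, k', by rw [him]; exact hk', fun y hy => ?_⟩, fun x hx => ?_⟩
  · intro y hy
    obtain ⟨x, hx, rfl⟩ := haP.mem_img.1 hy
    exact afn_mem a (hPT hx)
  · obtain ⟨hy1, hy2⟩ := hai2 y hy
    obtain ⟨x, hx, rfl⟩ := haP.mem_img.1 hy
    simp only [Function.comp]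
    rw [hai1 x hx, ha'v _ (hfv x hx), hrel x hx, hrel2 x hx, hk'v _ (qf_mem_image hx (hPT.trans hTS))]
  · simp only [Function.comp]
    rw [hai1 x hx]

/-- `HH` is invariant under maps of `F`. -/
lemma HH_img {P : Subgroup Ω} {f : Ω → Ω} (hP : HH Z θ F' T' P) (hf : Maps F P f) : HH Z θ F' T' (img f P) := by
  haveI := finS' h
  obtain ⟨hZP, hPT, hTC⟩ := hP
  obtain ⟨f', hf', hrel⟩ := desc h hf
  have him := image_img h hf hf' hrel
  refine ⟨Z_le_img h hf hZP, strong_img_le (T_sc h) hPT hf, ?_⟩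
  rw [him]
  have hconj : F'.IsConj (imageAlong θ P) (img f' (imageAlong θ P)) := isConj_iff.2 ⟨f', hf', rfl⟩
  exact ⟨strong_img_le (sc' h) hTC.1 hf', fun Q' hQ' => hTC.2 Q' (IsConj_trans hconj hQ')⟩

/-- `Aut_F(T)` acts on the groups `X(P)`. -/
lemma XX_conj {a : MulAut (preimageAlong θ T')} (ha : a ∈ F.autGroup (preimageAlong θ T')) {P : Subgroup Ω} (hPT : P ≤ preimageAlong θ T') {x : MulAut P}
    (hx : x ∈ h.XX P) : ∃ x₁ : MulAut (img (afn a) P), x₁ ∈ h.XX (img (afn a) P) ∧ ∀ y ∈ P, afn x₁ (afn a y) = afn a (afn x y) := by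
  have hTS := preimageAlong_le θ T'
  have ham := (mem_autGroup_iff hTS).1 ha
  have hm := ham.restrict hPT
  have hP₁T : img (afn a) P ≤ preimageAlong θ T' := strong_img_le (T_sc h) hPT hm
  let e := hm.equiv (rfl : img (afn a) P = img (afn a) P)
  have hle : h.XX P ≤ (h.XX (img (afn a) P)).comap (MulAut.congr e).toMonoidHom := by
    refine XX_le h (fun α hα => ?_) (fun α hα hcop => ?_)
    · obtain ⟨t, ht, htv⟩ := mem_autInducedBy.1 hα
      refine mem_XX_R h hP₁T (mem_autInducedBy.2 ⟨afn a t, afn_mem a ht, fun y hy => ?_⟩)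
      obtain ⟨x₀, hx₀, rfl⟩ := hm.mem_img.1 hy
      show afn (MulAut.congr e α) (afn a x₀) = _
      rw [hm.afn_congr rfl α hx₀, htv x₀ hx₀]
      exact ham.map_conj ht (hPT hx₀)
    · have hαm := (mem_autGroup_iff hPT).1 hα
      obtain ⟨k, hk, hkv⟩ := MM_inv h ha hαm
      refine mem_XX_cop h ((mem_autGroup_iff hP₁T).2 (hk.congr (fun y hy => ?_))) ?_
      · obtain ⟨x₀, hx₀, rfl⟩ := hm.mem_img.1 hy
        rw [hkv x₀ hx₀]
        exact (hm.afn_congr rfl α hx₀).symm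
      · have e1 : orderOf (MulAut.congr e α) = orderOf α := MulEquiv.orderOf_eq (MulAut.congr e) α
        show (orderOf (MulAut.congr e α)).Coprime p
        rwa [e1]
  exact ⟨MulAut.congr e x, hle hx, fun y hy => hm.afn_congr rfl x hy⟩

/-- **`NN` is invariant under `Aut_F(T)`.** -/
theorem NN_inv : Inv F h.NN := by
  intro P f hf a ha
  have hTS := preimageAlong_le θ T'
  have ham := (mem_autGroup_iff hTS).1 ha
  have hf₀ := (maps_NN h).1 hf
  clear hf
  induction hf₀ with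
  | @gen P R x hP hx hR =>
    obtain ⟨x₁, hx₁, hv⟩ := XX_conj h ha hP.2.1 hx
    have hm := ham.restrict hP.2.1
    have hH := HH_img h hP hm
    refine ⟨afn x₁, NN.of_XX h hH hx₁ (hm.img_mono hR), fun y hy => hv y (hR hy)⟩
  | @comp P Q f g hf hg hm ih1 ih2 =>
    obtain ⟨k₁, hk₁, h1⟩ := ih1
    obtain ⟨k₂, hk₂, h2⟩ := ih2
    have hPT := (NN.mapsMM h ((maps_NN h).2 hf)).le
    have hQT := (NN.mapsMM h ((maps_NN h).2 hg)).le
    have hmP := ham.restrict hPT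
    have hmQ := ham.restrict hQT
    refine ⟨k₂ ∘ k₁, hk₁.comp hk₂ (fun y hy => ?_), fun x hx => ?_⟩
    · obtain ⟨x, hx, rfl⟩ := hmP.mem_img.1 hy
      rw [h1 x hx]
      exact hmQ.mem_img_of_mem (hm x hx)
    · simp only [Function.comp]
      rw [h1 x hx, h2 _ (hm x hx)]
  | @inv P f g hf hg h1 ih =>
    obtain ⟨k, hk, hkv⟩ := ih
    have hPT := (NN.mapsMM h ((maps_NN h).2 hf)).le
    have hfm := (maps_NN h).2 hf
    have hmP := ham.restrict hPT
    have hmQ := ham.restrict (strong_img_le (T_sc h) hPT (NN.maps h hfm))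
    obtain ⟨g', hg', h2, h3⟩ := (NN.maps h hk).inv
    have himg : img k (img (afn a) P) = img (afn a) (img f P) := by
      ext y
      rw [(NN.maps h hk).mem_img, hmQ.mem_img]
      constructor
      · rintro ⟨z, hz, rfl⟩
        obtain ⟨x, hx, rfl⟩ := hmP.mem_img.1 hz
        exact ⟨f x, hfm.mem_img_of_mem hx, (hkv x hx).symm⟩
      · rintro ⟨z, hz, rfl⟩
        obtain ⟨x, hx, rfl⟩ := hfm.mem_img.1 hz
        exact ⟨afn a x, hmP.mem_img_of_mem hx, hkv x hx⟩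
    have hgen : GenN h (img k (img (afn a) P)) g' := GenN.inv ((maps_NN h).1 hk) hg' h2
    rw [himg] at hgen
    refine ⟨g', (maps_NN h).2 hgen, fun y hy => ?_⟩
    obtain ⟨x, hx, rfl⟩ := hfm.mem_img.1 hy
    rw [← hkv x hx, h2 _ (hmP.mem_img_of_mem hx), h1 x hx]
  | @congr P f g hf hfg ih =>
    obtain ⟨k, hk, hkv⟩ := ih
    exact ⟨k, hk, fun x hx => by rw [hkv x hx, hfg x hx]⟩

end PB

end GenDef

end Cfsg.Agent.Lib.FusionCompA
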