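/-
FusionCompP4: moving subgroups by `NN`, the maps of `NN` trivial modulo `Z`.
-/
import Mathlib
import Cfsg.Agent.Lib.FusionCompP3

set_option autoImplicit false
set_option linter.unusedSectionVars false
set_option linter.unusedVariables false
set_option linter.unusedSimpArgs false
set_option linter.style.haveILetI false

namespace Cfsg.Agent.Lib.FusionCompA

open Cfsg Cfsg.FusionSystem Cfsg.Agent.Lib.FusionCore Cfsg.Agent.Lib.FusionCore2 Cfsg.Agent.Lib.FusionGT Cfsg.Agent.Lib.FusionFactor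
open Cfsg.Agent.Lib.FusionStrongClosed Cfsg.Agent.Lib.FusionQuotSat Cfsg.Agent.Lib.PCore
open Cfsg.Agent.Lib.FusionInvariant (Str Inv Frat isInvariantIn_iff str_of_inv_frat maps_sub StrongMem aut_maps strong_img_le)
open Cfsg.Agent.Lib.AschCore
open Cfsg.Agent.Lib.FusionPPrimeMin (TC tc_of_centric)
open Cfsg.Agent.Lib.FusionCentralQuot
open Cfsg.Agent.Lib.FusionIndexPrime (ofMaps maps_ofMaps)

universe u

variable {Ω Ω' : Type u} [Group Ω] [Group Ω'] {S : Subgroup Ω} {F : FusionSystem S} {Z : Subgroup Ω}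
  {S' : Subgroup Ω'} {θ : S →* Ω'} {F' : FusionSystem S'} {T' : Subgroup Ω'} {E' : FusionSystem T'} {p : ℕ}

namespace PB

variable (h : PB F Z θ F' E' p) [Fact p.Prime] [Finite S]
include h

lemma norm_T {Q : Subgroup Ω} (hZQ : Z ≤ Q) (hQT : Q ≤ preimageAlong θ T') :
    normalizerIn (preimageAlong θ T') Q = preimageAlong θ (normalizerIn T' (imageAlong θ Q)) := by
  haveI := finS' h
  have hfac := h.hfac
  have hQS := hQT.trans (preimageAlong_le θ T')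
  have hQ'S' : imageAlong θ Q ≤ S' := (image_le hQT).trans (hT'S' h)
  have e := norm_pre hfac hQ'S'
  rw [pre_img hfac hZQ hQS] at e
  ext x
  constructor
  · rintro ⟨hx1, hx2⟩
    have hxS := (mem_pre.1 hx1).1
    have h3 : x ∈ normalizerIn S Q := ⟨hxS, hx2⟩
    rw [e] at h3
    exact mem_pre.2 ⟨hxS, (mem_pre.1 hx1).2, (mem_pre.1 h3).2.2⟩
  · intro hx
    obtain ⟨hxS, hx1, hx2⟩ := mem_pre.1 hx
    have h3 : x ∈ normalizerIn S Q := by
      rw [e]
      exact mem_pre.2 ⟨hxS, hT'S' h hx1, hx2⟩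
    exact ⟨mem_pre.2 ⟨hxS, hx1⟩, h3.2⟩

lemma lift_autT {a' : MulAut T'} (ha' : a' ∈ F'.autGroup T') :
    ∃ a ∈ F.autGroup (preimageAlong θ T'), ∀ x ∈ preimageAlong θ T', qf θ (afn a x) = afn a' (qf θ x) := by
  haveI := finS' h
  have hfac := h.hfac
  haveI : Finite T' := finite_of_le (hT'S' h)
  have hTS := preimageAlong_le θ T'
  obtain ⟨f, hf, hrel⟩ := maps_lift hfac ((mem_autGroup_iff (hT'S' h)).1 ha')
  have hv : ∀ x ∈ preimageAlong θ T', f x ∈ preimageAlong θ T' := fun x hx => mem_pre.2 ⟨hf.mem hx, by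
    rw [hrel x hx]
    exact afn_mem a' (mem_pre.1 hx).2⟩
  have himg := img_eq_of_card hf hTS hTS hv le_rfl
  exact ⟨hf.toAut himg, hf.toAut_mem himg, fun x hx => by rw [hf.afn_toAut himg hx, hrel x hx]⟩

/-- The Frattini property for `MM`. -/
theorem frat_MM {P : Subgroup Ω} {f : Ω → Ω} (hPT : P ≤ preimageAlong θ T') (hf : Maps F P f) :
    ∃ a ∈ F.autGroup (preimageAlong θ T'), ∃ m, Maps h.MM P m ∧ ∀ x ∈ P, f x = afn a (m x) := by
  have hTS := preimageAlong_le θ T'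
  obtain ⟨f', hf', hrel⟩ := desc h hf
  obtain ⟨-, -, -, hFr⟩ := inv' h
  obtain ⟨a', ha', f₀, hf₀, h1⟩ := hFr (image_le hPT) hf'
  obtain ⟨a, ha, hav⟩ := lift_autT h ha'
  have hfT : ∀ x ∈ P, f x ∈ preimageAlong θ T' := fun x hx => StrongMem (T_sc h) hPT hf hx
  have ham := (mem_autGroup_iff hTS).1 ha
  have hainv := (mem_autGroup_iff hTS).1 (Subgroup.inv_mem _ ha)
  refine ⟨a, ha, afn a⁻¹ ∘ f, (maps_MM h).2 ⟨hf.comp hainv hfT, hPT, f₀, hf₀, fun x hx => ?_⟩, fun x hx => ?_⟩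
  · simp only [Function.comp]
    have hq : qf θ x ∈ imageAlong θ P := qf_mem_image hx (hPT.trans hTS)
    have e := hav _ (afn_mem a⁻¹ (hfT x hx))
    rw [afn_afn_inv a (hfT x hx), hrel x hx, h1 _ hq] at e
    have e2 := congrArg (afn a'⁻¹) e
    rw [afn_inv_afn a' (hf₀.mem hq), afn_inv_afn a' (mem_pre.1 (afn_mem a⁻¹ (hfT x hx))).2] at e2
    exact e2.symm
  · simp only [Function.comp]
    exact (afn_afn_inv a (hfT x hx)).symm

lemma card_eq_of_image {P Q : Subgroup Ω} (hZP : Z ≤ P) (hPS : P ≤ S) (hZQ : Z ≤ Q) (hQS : Q ≤ S)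
    (hc : Nat.card (imageAlong θ Q) = Nat.card (imageAlong θ P)) : Nat.card Q = Nat.card P := by
  haveI := finS' h
  have hfac := h.hfac
  have h1 : ∀ {R : Subgroup Ω}, R ≤ S → imageAlong θ R ≤ S' := by
    intro R hR y hy
    obtain ⟨x, hx, hxS, rfl⟩ := mem_image.1 hy
    exact qf_mem hfac hxS
  rw [← pre_img hfac hZP hPS, ← pre_img hfac hZQ hQS, card_pre hfac (h1 hPS), card_pre hfac (h1 hQS), hc]

/-- Moving a subgroup containing `Z` to a fully normalized one, by `NN` and `Aut_F(T)`. -/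
theorem exists_full {P : Subgroup Ω} (hZP : Z ≤ P) (hPT : P ≤ preimageAlong θ T') :
    ∃ a ∈ F.autGroup (preimageAlong θ T'), ∃ n, Maps h.NN P n ∧ F.IsFullyNormalized (img (afn a) (img n P)) := by
  have hfac := h.hfac
  have hTS := preimageAlong_le θ T'
  have hPS := hPT.trans hTS
  obtain ⟨Q, hconj, hfull⟩ := exists_fullyNormalized_conj (F := F) hPS
  obtain ⟨f₀, hf₀, himg₀⟩ := isConj_iff.1 hconj
  obtain ⟨a, ha, m, hm, hfm⟩ := frat_MM h hPT hf₀
  obtain ⟨n, hn, hnr⟩ := lift_MM h hm hZP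
  obtain ⟨a', ha', hav⟩ := barT h ha
  have ham := (mem_autGroup_iff hTS).1 ha
  have hnF := NN.maps h hn
  have hnT : ∀ x ∈ P, n x ∈ preimageAlong θ T' := fun x hx => StrongMem (T_sc h) hPT hnF hx
  have hmT : ∀ x ∈ P, m x ∈ preimageAlong θ T' := fun x hx => StrongMem (T_sc h) hPT (MM.maps h hm) hx
  have hfa : Maps F P (afn a ∘ n) := hnF.comp ham hnT
  have hZQ : Z ≤ Q := by
    rw [← himg₀]
    exact Z_le_img h hf₀ hZP
  have himg : img (afn a ∘ n) P = Q := by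
    refine img_eq_of_card hfa hPS hfull.1 (fun x hx => ?_) (IsConj_card hconj).symm.le
    refine mem_of_qf hfac hZQ hfull.1 (hfa.mem hx) ?_
    simp only [Function.comp]
    rw [hav _ (hnT x hx), hnr x hx, ← hav _ (hmT x hx), ← hfm x hx]
    refine qf_mem_image ?_ hfull.1
    rw [← himg₀]
    exact hf₀.mem_img_of_mem hx
  have e : img (afn a) (img n P) = Q := by
    rw [← himg]
    exact (img_comp hnF (ham.restrict (strong_img_le (T_sc h) hPT hnF))).symm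
  refine ⟨a, ha, n, hn, ?_⟩
  rw [e]
  exact hfull

/-- Movers. -/
theorem exists_mover {P Q : Subgroup Ω} (hZP : Z ≤ P) (hPT : P ≤ preimageAlong θ T') (hfull : F.IsFullyNormalized P)
    (hZQ : Z ≤ Q) (hQT : Q ≤ preimageAlong θ T') (hconj : E'.IsConj (imageAlong θ Q) (imageAlong θ P)) :
    ∃ μ, Maps h.NN (normalizerIn (preimageAlong θ T') Q) μ ∧ img μ Q = P := by
  haveI := finS' h
  have hfac := h.hfac
  have hTS := preimageAlong_le θ T'
  have hPS := hPT.trans hTS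
  have hQS := hQT.trans hTS
  haveI : Finite T' := finite_of_le (hT'S' h)
  have hT'p : IsPGroup p T' := (isP' h).to_le (hT'S' h)
  obtain ⟨-, hA, hR⟩ := full_E' h hZP hPT hfull
  obtain ⟨f', hf', hv, himg⟩ := exists_normalizer_map hT'p hA hR hconj
  obtain ⟨n, hn, hr⟩ := lift_NN h hf'
  rw [← norm_T h hZQ hQT] at hn hr
  have hQN : Q ≤ normalizerIn (preimageAlong θ T') Q := le_normalizerIn hQT
  refine ⟨n, hn, img_eq_of_card (NN.maps h (hn.restrict hQN)) hQS hPS (fun x hx => ?_) ?_⟩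
  · refine mem_of_qf hfac hZP hPS ((NN.maps h hn).mem (hQN hx)) ?_
    rw [hr x (hQN hx), ← himg]
    exact (hf'.restrict (le_normalizerIn (image_le hQT))).mem_img_of_mem (qf_mem_image hx hQS)
  · exact (card_eq_of_image h hZP hPS hZQ hQS (IsConj_card hconj)).symm.le

/-- Transport of `XX` along a mover. -/
lemma XX_transport {Q P : Subgroup Ω} {μ : Ω → Ω} (hQT : Q ≤ preimageAlong θ T') (hμ : Maps h.NN (normalizerIn (preimageAlong θ T') Q) μ)
    (himg : img μ Q = P) {x₀ : MulAut Q} (hx₀ : x₀ ∈ h.XX Q) : ∃ x ∈ h.XX P, ∀ y ∈ Q, afn x (μ y) = μ (afn x₀ y) := by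
  have hTS := preimageAlong_le θ T'
  haveI : Finite (preimageAlong θ T') := finite_of_le hTS
  have hQN : Q ≤ normalizerIn (preimageAlong θ T') Q := le_normalizerIn hQT
  have hμF := NN.maps h hμ
  have hμQ := (NN.mapsMM h hμ).restrict hQN
  have hPT : P ≤ preimageAlong θ T' := by
    rw [← himg]
    exact hμQ.img_le
  subst himg
  let e := hμQ.equiv rfl
  have hle : h.XX Q ≤ (h.XX (img μ Q)).comap (MulAut.congr e).toMonoidHom := by
    refine XX_le h (fun α hα => ?_) (fun α hα hcop => ?_)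
    · obtain ⟨t, ht, htv⟩ := mem_autInducedBy.1 hα
      have htN : t ∈ normalizerIn (preimageAlong θ T') Q := ⟨ht, mem_normalizer_of_afn htv⟩
      refine mem_XX_R h hPT (mem_autInducedBy.2 ⟨μ t, (NN.mapsMM h hμ).mem htN, fun y hy => ?_⟩)
      obtain ⟨x₁, hx₁, rfl⟩ := hμQ.mem_img.1 hy
      show afn (MulAut.congr e α) (μ x₁) = _
      rw [hμQ.afn_congr rfl α hx₁, htv x₁ hx₁]
      exact hμF.map_conj htN (hQN hx₁)
    · have h1 := hμQ.map_autGroup rfl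
      refine mem_XX_cop h (?_ : MulAut.congr e α ∈ h.MM.autGroup (img μ Q)) ?_
      · rw [← h1]
        exact ⟨α, hα, rfl⟩
      · have e1 : orderOf (MulAut.congr e α) = orderOf α := MulEquiv.orderOf_eq (MulAut.congr e) α
        show (orderOf (MulAut.congr e α)).Coprime p
        rwa [e1]
  exact ⟨MulAut.congr e x₀, hle hx₀, fun y hy => hμQ.afn_congr rfl x₀ hy⟩

omit [Fact p.Prime] h in
/-- Extending to get an element of the strongly closed subgroup. -/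
lemma recv_T {T P P₁ : Subgroup Ω} (hT : F.StronglyClosed T) (hR : F.IsReceptive P) {f : Ω → Ω} (hf : Maps F P₁ f)
    (himg : img f P₁ = P) {t s : Ω} (ht : t ∈ T) (htN : t ∈ Subgroup.normalizer (P₁ : Set Ω)) (hs : s ∈ S)
    (hrel : ∀ y ∈ P₁, f (t * y * t⁻¹) = s * f y * s⁻¹) : ∃ s' ∈ T, ∀ y ∈ P₁, f (t * y * t⁻¹) = s' * f y * s'⁻¹ := by
  obtain ⟨g, hg, hg1⟩ := IsReceptive.ext hR hf himg
  have htNf : t ∈ Nf S P₁ f := mem_Nf.2 ⟨hT.1 ht, htN, s, hs, hrel⟩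
  have hle : P₁ ≤ Nf S P₁ f := le_Nf hf
  refine ⟨g t, StrongMem hT inf_le_right (hg.restrict (inf_le_left : Nf S P₁ f ⊓ T ≤ _)) ⟨htNf, ht⟩, fun y hy => ?_⟩
  have hc : t * y * t⁻¹ ∈ P₁ := (Subgroup.mem_normalizer_iff.1 htN y).1 hy
  rw [← hg1 _ hc, hg.map_conj htNf (hle hy), hg1 y hy]

omit [Fact p.Prime] [Finite S] h in
lemma orderOf_dvd_of_restrict {P Q : Subgroup Ω} (hPQ : P ≤ Q) (b : MulAut Q) (x : MulAut P) (hx : ∀ y ∈ P, afn x y = afn b y) :
    orderOf x ∣ orderOf b := by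
  apply orderOf_dvd_of_pow_eq_one
  have key : ∀ n : ℕ, ∀ y ∈ P, afn (x ^ n) y = afn (b ^ n) y := by
    intro n
    induction n with
    | zero =>
      intro y hy
      rw [pow_zero, pow_zero, afn_one hy, afn_one (hPQ hy)]
    | succ n ih =>
      intro y hy
      rw [pow_succ, pow_succ, afn_mul _ _ hy, afn_mul _ _ (hPQ hy), ih _ (afn_mem x hy), hx y hy]
  apply afn_ext
  intro y hy
  rw [key _ y hy, pow_orderOf_eq_one, afn_one hy, afn_one (hPQ hy)]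

/-- `Theorem K` at `P`. -/
def KAt (h : PB F Z θ F' E' p) (P : Subgroup Ω) : Prop :=
  ∀ ζ, Maps h.NN P ζ → (∀ y ∈ P, ζ y ∈ P) → ∃ x ∈ h.XX P, ∀ y ∈ P, ζ y = afn x y

/-- Maps of `NN` trivial modulo `Z` on a fully normalized `P` are conjugations by elements of `T`, if they extend. -/
theorem KL {P : Subgroup Ω} (hP : HH Z θ F' T' P) (hfull : F.IsFullyNormalized P)
    (IH : ∀ V, F.IsFullyNormalized V → HH Z θ F' T' V → Nat.card P < Nat.card V → KAt h V)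
    {V : Subgroup Ω} (hPV : P < V) (hVN : V ≤ normalizerIn (preimageAlong θ T') P) {ζ : Ω → Ω} (hζ : Maps h.NN V ζ)
    (hb : ∀ x ∈ P, x⁻¹ * ζ x ∈ Z) :
    ∃ t ∈ preimageAlong θ T', t ∈ Subgroup.normalizer (P : Set Ω) ∧ ∀ y ∈ P, ζ y = t * y * t⁻¹ := by
  haveI := finS' h
  have hfac := h.hfac
  have hTS := preimageAlong_le θ T'
  haveI : Finite T' := finite_of_le (hT'S' h)
  haveI : Finite (preimageAlong θ T') := finite_of_le hTS
  have hT'p : IsPGroup p T' := (isP' h).to_le (hT'S' h)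
  have hP₀ := hP
  obtain ⟨hZP, hPT, hTC⟩ := hP
  have hPS := hPT.trans hTS
  have hVT : V ≤ preimageAlong θ T' := hVN.trans inf_le_left
  have hVS := hVT.trans hTS
  haveI : Finite P := finite_of_le hPS
  haveI : Finite V := finite_of_le hVS
  have hP'T' : imageAlong θ P ≤ T' := image_le hPT
  have hV'T' : imageAlong θ V ≤ T' := image_le hVT
  haveI : Finite (imageAlong θ P) := finite_of_le hP'T'
  have hZV : Z ≤ V := hZP.trans hPV.le
  have hc : E'.IsCentric (imageAlong θ P) := ⟨hP'T', fun Q' hQ' => hTC.2 Q' (by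
    obtain ⟨f, hf, rfl⟩ := isConj_iff.1 hQ'
    exact isConj_iff.2 ⟨f, maps_sub (sub' h) hf, rfl⟩)⟩
  have hζMM := NN.mapsMM h hζ
  have hζF := NN.maps h hζ
  obtain ⟨f', hf', hrel⟩ := bar h hζMM
  have hqP : ∀ y ∈ P, qf θ (ζ y) = qf θ y := fun y hy => ((qf_eq_iff hfac (hPS hy) (hζF.mem (hPV.le hy))).2 (hb y hy)).symm
  have hN : imageAlong θ V ≤ Subgroup.normalizer ((imageAlong θ P : Subgroup Ω') : Set Ω') := by
    intro v hv
    obtain ⟨x, hx, hxS, rfl⟩ := mem_image.1 hv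
    refine mem_normalizer_of_conj_mem (fun y hy => ?_)
    obtain ⟨y₀, hy₀, hy₀S, rfl⟩ := mem_image.1 hy
    have hc₁ : x * y₀ * x⁻¹ ∈ P := (Subgroup.mem_normalizer_iff.1 (hVN hx).2 y₀).1 hy₀
    have e : qf θ x * qf θ y₀ * (qf θ x)⁻¹ = qf θ (x * y₀ * x⁻¹) := by
      rw [qf_mul θ (S.mul_mem hxS hy₀S) (S.inv_mem hxS), qf_mul θ hxS hy₀S, qf_inv θ hxS]
    rw [e]
    exact qf_mem_image hc₁ hPS
  obtain ⟨z', hz', hz'c, hz'v⟩ := maps_agree_normal hT'p (satE h) hc (image_mono hPV.le) hN (Maps.id hV'T') hf' (fun y hy => by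
    obtain ⟨y₀, hy₀, -, rfl⟩ := mem_image.1 hy
    rw [← hrel y₀ (hPV.le hy₀), hqP y₀ hy₀]
    rfl)
  obtain ⟨z, hz, hzS, rfl⟩ := mem_image.1 hz'
  have hzT : z ∈ preimageAlong θ T' := hPT hz
  have hζT : img ζ V ≤ preimageAlong θ T' := strong_img_le (T_sc h) hVT hζF
  obtain ⟨ζ₁, hζ₁def⟩ : ∃ ζ₁ : Ω → Ω, ζ₁ = (fun x => z⁻¹ * x * z⁻¹⁻¹) ∘ ζ := ⟨_, rfl⟩
  have hζ₁ : Maps h.NN V ζ₁ := by
    rw [hζ₁def]
    exact hζ.comp ((maps_NN h).2 (GenN.conj h hζT (Subgroup.inv_mem _ hzT))) (fun x hx => hζ.mem_img_of_mem hx)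
  have hζ₁F := NN.maps h hζ₁
  have hq₁ : ∀ x ∈ V, qf θ (ζ₁ x) = qf θ x := by
    intro x hx
    have hxS := hVS hx
    have hm := hζF.mem hx
    have e1 := hz'v _ (qf_mem_image hx hVS)
    rw [← hrel x hx] at e1
    rw [hζ₁def]
    simp only [Function.comp]
    rw [inv_inv, qf_mul θ (S.mul_mem (S.inv_mem hzS) hm) hzS, qf_mul θ (S.inv_mem hzS) hm, qf_inv θ hzS, e1]
    simp only [_root_.id]
    group
  have hV₁ : ∀ x ∈ V, ζ₁ x ∈ V := fun x hx => mem_of_qf hfac hZV hVS (hζ₁F.mem hx) (by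
    rw [hq₁ x hx]
    exact qf_mem_image hx hVS)
  have hP₁ : ∀ x ∈ P, ζ₁ x ∈ P := fun x hx => mem_of_qf hfac hZP hPS (hζ₁F.mem (hPV.le hx)) (by
    rw [hq₁ x (hPV.le hx)]
    exact qf_mem_image hx hPS)
  obtain ⟨a, ha, n, hn, hfull₁⟩ := exists_full h hZV hVT
  have hnF := NN.maps h hn
  have ham := (mem_autGroup_iff hTS).1 ha
  have hnT : ∀ x ∈ V, n x ∈ preimageAlong θ T' := fun x hx => StrongMem (T_sc h) hVT hnF hx
  obtain ⟨ni, hni, hni1, hni2⟩ := hn.inv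
  have hκ : Maps h.NN (img n V) (n ∘ ζ₁ ∘ ni) := hni.comp (hζ₁.comp hn hV₁) (fun y hy => (hni2 y hy).1)
  obtain ⟨k, hk, hkv⟩ := NN_inv h hκ a ha
  obtain ⟨f, hfdef⟩ : ∃ f : Ω → Ω, f = afn a ∘ n := ⟨_, rfl⟩
  have hfm : Maps F V f := by
    rw [hfdef]
    exact hnF.comp ham hnT
  have e₁ : img (afn a) (img n V) = img f V := by
    rw [hfdef]
    exact (img_comp hnF (ham.restrict (strong_img_le (T_sc h) hVT hnF))).symm
  rw [e₁] at hk hfull₁
  have hkv2 : ∀ x ∈ V, k (f x) = f (ζ₁ x) := by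
    intro x hx
    have := hkv (n x) (hn.mem_img_of_mem hx)
    rw [hfdef]
    simp only [Function.comp] at this ⊢
    rw [this, hni1 x hx]
  have hZV₁ : Z ≤ img f V := Z_le_img h hfm hZV
  have hV₁S : img f V ≤ S := hfm.img_le
  have hV₁T : img f V ≤ preimageAlong θ T' := strong_img_le (T_sc h) hVT hfm
  obtain ⟨fb, hfb, hfbr⟩ := desc h hfm
  have hkq : ∀ y ∈ img f V, qf θ (k y) = qf θ y := by
    intro y hy
    obtain ⟨x, hx, rfl⟩ := hfm.mem_img.1 hy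
    rw [hkv2 x hx, hfbr _ (hV₁ x hx), hfbr x hx, hq₁ x hx]
  have hkV : ∀ y ∈ img f V, k y ∈ img f V := fun y hy => mem_of_qf hfac hZV₁ hV₁S ((NN.maps h hk).mem hy) (by
    rw [hkq y hy]
    exact qf_mem_image hy hV₁S)
  have hHV : HH Z θ F' T' V := ⟨hZV, hVT, TC.mono hTC (image_mono hPV.le) hV'T'⟩
  have hHV₁ := HH_img h hHV hfm
  have hcard : Nat.card P < Nat.card (img f V) := by
    rw [hfm.card_img]
    exact Cfsg.Agent.Lib.FusionAlperin.card_lt_of_lt hPV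
  obtain ⟨x, hx, hxv⟩ := IH _ hfull₁ hHV₁ hcard k hk hkV
  have hxF : x ∈ F.autGroup (img f V) := (mem_autGroup_iff hV₁S).2 (MM.maps h ((mem_autGroup_iff hV₁T).1 (XX_le_MM h _ hx)))
  have hxK : x ∈ KP F Z (img f V) := KP_of_bar h hV₁S hxF (fun y hy => by rw [← hxv y hy, hkq y hy])
  obtain ⟨t₂, ht₂, ht₂v⟩ := mem_autInducedBy.1 ((XX_struct h hZV₁ hV₁T hHV₁.2.2 hfull₁).1 x hxK hx)
  have hfP := hfm.restrict hPV.le
  have hkP : ∀ y ∈ V, t₂ * f y * t₂⁻¹ = f (ζ₁ y) := by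
    intro y hy
    have hy₁ := hfm.mem_img_of_mem hy
    rw [← ht₂v _ hy₁, ← hxv _ hy₁, hkv2 y hy]
  haveI : Finite (img f P) := finite_of_le hfP.img_le
  have htN : t₂ ∈ Subgroup.normalizer ((img f P : Subgroup Ω) : Set Ω) := by
    refine mem_normalizer_of_conj_mem (fun y₁ hy₁ => ?_)
    obtain ⟨y, hy, rfl⟩ := hfP.mem_img.1 hy₁
    rw [hkP y (hPV.le hy)]
    exact hfP.mem_img_of_mem (hP₁ y hy)
  obtain ⟨fi, hfi, hfi1, hfi2⟩ := hfP.inv
  obtain ⟨hfc, hA⟩ := of_fullyNormalized h.hS h.hF hfull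
  have hR : F.IsReceptive P := receptive_of_fullyCentralized h.hS h.hF hfc
  have hζP := hζ₁F.restrict hPV.le
  have himgP := img_eq_of_card hζP hPS hPS hP₁ le_rfl
  have hKP : hζP.toAut himgP ∈ KP F Z P := KP_of_bar h hPS (hζP.toAut_mem himgP) (fun y hy => by rw [hζP.afn_toAut himgP hy, hq₁ y (hPV.le hy)])
  obtain ⟨s, hs, hsv⟩ := mem_autInducedBy.1 (KP_le_auto h.hS h.hZ hZP hPS hA hKP)
  have hsv' : ∀ y ∈ P, ζ₁ y = s * y * s⁻¹ := fun y hy => by rw [← hsv y hy, hζP.afn_toAut himgP hy]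
  obtain ⟨s', hs', hs'v⟩ := recv_T (T_sc h) hR hfi (hfP.img_inv hfi hfi1) ht₂ htN hs (fun y₁ hy₁ => by
    obtain ⟨y, hy, rfl⟩ := hfP.mem_img.1 hy₁
    rw [hkP y (hPV.le hy), hfi1 _ (hP₁ y hy), hfi1 y hy, hsv' y hy])
  have hfin : ∀ y ∈ P, ζ₁ y = s' * y * s'⁻¹ := by
    intro y hy
    have := hs'v _ (hfP.mem_img_of_mem hy)
    rwa [hkP y (hPV.le hy), hfi1 _ (hP₁ y hy), hfi1 y hy] at this
  have hζv : ∀ y ∈ P, ζ y = (z * s') * y * (z * s')⁻¹ := by
    intro y hy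
    have := hfin y hy
    rw [hζ₁def] at this
    simp only [Function.comp, inv_inv] at this
    have e : ζ y = z * (z⁻¹ * ζ y * z) * z⁻¹ := by group
    rw [e, this]
    group
  refine ⟨z * s', Subgroup.mul_mem _ hzT hs', mem_normalizer_of_conj_mem (fun y hy => ?_), hζv⟩
  rw [← hζv y hy]
  refine mem_of_qf hfac hZP hPS (hζF.mem (hPV.le hy)) ?_
  rw [hqP y hy]
  exact qf_mem_image hy hPS

end PB

end Cfsg.Agent.Lib.FusionCompA
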