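/-
FusionCompP5: lifting the normalizer system of the image of a fully normalized subgroup to `NN`; generation of `NN` by `X(P)`.
-/
import Mathlib
import Cfsg.Agent.Lib.FusionCompP4

set_option autoImplicit false
set_option linter.unusedSectionVars false
set_option linter.unusedVariables false
set_option linter.unusedSimpArgs false
set_option linter.style.haveILetI false

namespace Cfsg.Agent.Lib.FusionCompA

open Cfsg Cfsg.FusionSystem Cfsg.Agent.Lib.FusionCore Cfsg.Agent.Lib.FusionCore2 Cfsg.Agent.Lib.FusionGT Cfsg.Agent.Lib.FusionFactor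
open Cfsg.Agent.Lib.FusionStrongClosed Cfsg.Agent.Lib.FusionQuotSat Cfsg.Agent.Lib.PCore
open Cfsg.Agent.Lib.FusionInvariant (Str Inv Frat isInvariantIn_iff str_of_inv_frat maps_sub StrongMem aut_maps strong_img_le)
open Cfsg.Agent.Lib.AschCore
open Cfsg.Agent.Lib.FusionPPrimeMin (TC tc_of_centric)
open Cfsg.Agent.Lib.FusionCentralQuot
open Cfsg.Agent.Lib.FusionIndexPrime (ofMaps maps_ofMaps)

universe u

variable {Ω Ω' : Type u} [Group Ω] [Group Ω'] {S : Subgroup Ω} {F : FusionSystem S} {Z : Subgroup Ω}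
  {S' : Subgroup Ω'} {θ : S →* Ω'} {F' : FusionSystem S'} {T' : Subgroup Ω'} {E' : FusionSystem T'} {p : ℕ}

namespace PB

variable (h : PB F Z θ F' E' p) [Fact p.Prime] [Finite S]

/-- The predicate for the lifted maps of the normalizer system. -/
def PP (h : PB F Z θ F' E' p) (P : Subgroup Ω) (D : FusionSystem (normalizerIn T' (imageAlong θ P))) (R' : Subgroup Ω') (u : Ω' → Ω') : Prop :=
  Maps D R' u ∧ ∃ ζ, Maps h.NN (preimageAlong θ R' ⊔ P) ζ ∧ (∀ x ∈ preimageAlong θ R', qf θ (ζ x) = u (qf θ x)) ∧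
    ∃ x₀ ∈ h.XX P, ∀ y ∈ P, ζ y = afn x₀ y

include h

variable {P : Subgroup Ω} {D : FusionSystem (normalizerIn T' (imageAlong θ P))}

lemma pre_mono {A B : Subgroup Ω'} (hAB : A ≤ B) : preimageAlong θ A ≤ preimageAlong θ B := fun x hx => mem_pre.2 ⟨(mem_pre.1 hx).1, hAB (mem_pre.1 hx).2⟩

omit h in
lemma PP.congr {h : PB F Z θ F' E' p} {R' : Subgroup Ω'} {u v : Ω' → Ω'} (hf : PP h P D R' u) (huv : ∀ x ∈ R', u x = v x) : PP h P D R' v := by
  obtain ⟨h1, ζ, hζ, h2, h3⟩ := hf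
  exact ⟨h1.congr huv, ζ, hζ, fun x hx => by rw [h2 x hx, huv _ (mem_pre.1 hx).2], h3⟩

omit h in
lemma PP.restrict {h : PB F Z θ F' E' p} {R' R₁ : Subgroup Ω'} {u : Ω' → Ω'} (hf : PP h P D R' u) (hle : R₁ ≤ R') : PP h P D R₁ u := by
  obtain ⟨h1, ζ, hζ, h2, h3⟩ := hf
  have hpp : preimageAlong θ R₁ ≤ preimageAlong θ R' := fun x hx => mem_pre.2 ⟨(mem_pre.1 hx).1, hle (mem_pre.1 hx).2⟩
  exact ⟨h1.restrict hle, ζ, hζ.restrict (sup_le_sup_right hpp P), fun x hx => h2 x (hpp hx), h3⟩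

lemma PP.conj (hZP : Z ≤ P) (hPT : P ≤ preimageAlong θ T') {R' : Subgroup Ω'} {g' : Ω'} (hR' : R' ≤ normalizerIn T' (imageAlong θ P))
    (hg' : g' ∈ normalizerIn T' (imageAlong θ P)) : PP h P D R' (fun x => g' * x * g'⁻¹) := by
  have hfac := h.hfac
  have hTS := preimageAlong_le θ T'
  haveI : Finite (preimageAlong θ T') := finite_of_le hTS
  have hPS := hPT.trans hTS
  haveI : Finite P := finite_of_le hPS
  obtain ⟨g, hgS, rfl⟩ := exists_qf hfac (hT'S' h hg'.1)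
  have hgT : g ∈ preimageAlong θ T' := mem_pre.2 ⟨hgS, hg'.1⟩
  have hcq : ∀ x ∈ S, qf θ (g * x * g⁻¹) = qf θ g * qf θ x * (qf θ g)⁻¹ := fun x hx => by
    rw [qf_mul θ (S.mul_mem hgS hx) (S.inv_mem hgS), qf_mul θ hgS hx, qf_inv θ hgS]
  have hgN : g ∈ Subgroup.normalizer (P : Set Ω) := mem_normalizer_of_conj_mem (fun x hx => by
    refine mem_of_qf hfac hZP hPS (S.mul_mem (S.mul_mem hgS (hPS hx)) (S.inv_mem hgS)) ?_
    rw [hcq x (hPS hx)]
    exact (Subgroup.mem_normalizer_iff.1 hg'.2 _).1 (qf_mem_image hx hPS))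
  have hle : preimageAlong θ R' ⊔ P ≤ preimageAlong θ T' := sup_le (pre_mono h (hR'.trans inf_le_left)) hPT
  obtain ⟨x, hx, hxv⟩ := exists_conjAut (F := h.MM) hPT hgT hgN
  refine ⟨Maps.conj hR' hg', _, (maps_NN h).2 (GenN.conj h hle hgT), fun y hy => hcq y (mem_pre.1 hy).1, x,
    mem_XX_R h hPT (mem_autInducedBy.2 ⟨g, hgT, hxv⟩), fun y hy => (hxv y hy).symm⟩

omit h in
lemma PP.comp {h : PB F Z θ F' E' p} {R' Q' : Subgroup Ω'} {u v : Ω' → Ω'} (hf : PP h P D R' u) (hg : PP h P D Q' v) (huv : ∀ x ∈ R', u x ∈ Q') :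
    PP h P D R' (v ∘ u) := by
  obtain ⟨h1, ζ, hζ, h2, x₀, hx₀, h3⟩ := hf
  obtain ⟨h4, ξ, hξ, h5, x₁, hx₁, h6⟩ := hg
  have hζF := NN.maps h hζ
  have hmem : ∀ x ∈ preimageAlong θ R', ζ x ∈ preimageAlong θ Q' := fun x hx => mem_pre.2 ⟨hζF.mem (Subgroup.mem_sup_left hx), by
    rw [h2 x hx]
    exact huv _ (mem_pre.1 hx).2⟩
  have hval : ∀ x ∈ preimageAlong θ R' ⊔ P, ζ x ∈ preimageAlong θ Q' ⊔ P :=
    hζ.sup_mem (fun x hx => Subgroup.mem_sup_left (hmem x hx)) (fun x hx => Subgroup.mem_sup_right (by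
      rw [h3 x hx]
      exact afn_mem x₀ hx))
  refine ⟨h1.comp h4 huv, ξ ∘ ζ, hζ.comp hξ hval, fun x hx => ?_, x₁ * x₀, Subgroup.mul_mem _ hx₁ hx₀, fun y hy => ?_⟩
  · simp only [Function.comp]
    rw [h5 _ (hmem x hx), h2 x hx]
  · simp only [Function.comp]
    rw [h3 y hy, h6 _ (afn_mem x₀ hy), afn_mul _ _ hy]

lemma PP.inv (hD : E'.IsNormalizerSystem (imageAlong θ P) D) {R' : Subgroup Ω'} {u : Ω' → Ω'} (hf : PP h P D R' u) : ∃ v, PP h P D (img u R') v ∧ ∀ x ∈ R', v (u x) = x := by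
  obtain ⟨h1, ζ, hζ, h2, x₀, hx₀, h3⟩ := hf
  obtain ⟨v, hv, hv1, hv2⟩ := h1.inv
  have hR'T : R' ≤ T' := h1.le.trans inf_le_left
  have hR'S : R' ≤ S' := hR'T.trans (hT'S' h)
  have hζF := NN.maps h hζ
  have hEu : Maps E' R' u := ((maps_norm_iff hD).1 h1).1
  have hζR := hζF.restrict (le_sup_left : preimageAlong θ R' ≤ preimageAlong θ R' ⊔ P)
  have e1 : img ζ (preimageAlong θ R') = preimageAlong θ (img u R') := pre_img_eq h hR'S hζR (maps_sub (sub' h) hEu) h2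
  have e2 : img ζ P = P := by rw [img_congr h3, afn_img]
  have e3 : img ζ (preimageAlong θ R' ⊔ P) = preimageAlong θ (img u R') ⊔ P := by rw [hζF.img_sup, e1, e2]
  obtain ⟨g, hg, hg1, hg2⟩ := hζ.inv
  rw [e3] at hg hg2
  refine ⟨v, ⟨hv, g, hg, fun y hy => ?_, x₀⁻¹, Subgroup.inv_mem _ hx₀, fun y hy => ?_⟩, hv1⟩
  · rw [← e1] at hy
    obtain ⟨x, hx, rfl⟩ := hζR.mem_img.1 hy
    rw [hg1 x (Subgroup.mem_sup_left hx), h2 x hx, hv1 _ (mem_pre.1 hx).2]
  · have hm := afn_mem x₀⁻¹ hy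
    have e : ζ (afn x₀⁻¹ y) = y := by rw [h3 _ hm, afn_afn_inv x₀ hy]
    have := hg1 _ (Subgroup.mem_sup_right hm)
    rwa [e] at this

/-- Every map of the normalizer system lifts compatibly. -/
theorem PP_all (hZP : Z ≤ P) (hPT : P ≤ preimageAlong θ T') (hfull : F.IsFullyNormalized P) (hD : E'.IsNormalizerSystem (imageAlong θ P) D)
    {R' : Subgroup Ω'} {u : Ω' → Ω'} (hu : Maps D R' u) : PP h P D R' u := by
  haveI := finS' h
  have hfac := h.hfac
  haveI : Finite T' := finite_of_le (hT'S' h)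
  have hTS := preimageAlong_le θ T'
  haveI : Finite (preimageAlong θ T') := finite_of_le hTS
  have hT'p : IsPGroup p T' := (isP' h).to_le (hT'S' h)
  have hPS := hPT.trans hTS
  have hP'T' : imageAlong θ P ≤ T' := image_le hPT
  have hNT : normalizerIn T' (imageAlong θ P) ≤ T' := inf_le_left
  haveI : Finite (normalizerIn T' (imageAlong θ P)) := finite_of_le hNT
  have hNp : IsPGroup p (normalizerIn T' (imageAlong θ P)) := hT'p.to_le hNT
  have hP'N : imageAlong θ P ≤ normalizerIn T' (imageAlong θ P) := le_normalizerIn hP'T'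
  obtain ⟨hfullE, -, -⟩ := full_E' h hZP hPT hfull
  have hDs : D.IsSaturated p := Cfsg.Agent.Lib.FusionSatNorm.saturated_normalizer hT'p (satE h) hfullE hD
  let G : FusionSystem (normalizerIn T' (imageAlong θ P)) :=
    ofMaps D (PP h P D) (fun hf => hf.1) (fun hf hfg => PP.congr hf hfg) (fun hP hg => PP.conj h hZP hPT hP hg)
      (fun hf hg hfg => PP.comp hf hg hfg) (fun hf => PP.inv h hD hf)
  have key : ∀ R' : Subgroup Ω', D.Hom R' ⊆ G.Hom R' := by
    refine Cfsg.Agent.Lib.FusionAlperin.alperin hNp hDs (fun P₀ φ hφ => ?_) ?_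
    · have h0 : PP h P D P₀ (fn φ) := hφ
      exact h0.1.mem_hom (fun x => (fn_coe φ x).symm)
    intro Y hYN hFA hRec hc IH φ hφ hr
    have hm : Maps D Y (fn φ) := Maps.of_mem hφ
    show PP h P D Y (fn φ)
    by_cases hPY : imageAlong θ P ≤ Y
    · have hYT' : Y ≤ T' := hYN.trans hNT
      have hQS : preimageAlong θ Y ≤ S := preimageAlong_le θ Y
      have hQT : preimageAlong θ Y ≤ preimageAlong θ T' := pre_mono h hYT'
      have hPQ : P ≤ preimageAlong θ Y := fun x hx => mem_pre.2 ⟨hPS hx, hPY (qf_mem_image hx hPS)⟩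
      have hsup : preimageAlong θ Y ⊔ P = preimageAlong θ Y := sup_eq_left.2 hPQ
      haveI : Finite (MulAut Y) := finite_mulAut (S := T') hYT'
      let L : Subgroup (MulAut Y) :=
        { carrier := {β | β ∈ D.autGroup Y ∧ PP h P D Y (afn β)}
          mul_mem' := by
            rintro a b ⟨ha, ha1⟩ ⟨hb, hb1⟩
            exact ⟨Subgroup.mul_mem _ ha hb, PP.congr (PP.comp hb1 ha1 (fun x hx => afn_mem b hx)) (fun x hx => (afn_mul a b hx).symm)⟩
          one_mem' := ⟨Subgroup.one_mem _, PP.congr (PP.conj h hZP hPT hYN (Subgroup.one_mem _)) (fun x hx => by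
            rw [afn_one hx]
            group)⟩
          inv_mem' := by
            rintro a ⟨ha, ha1⟩
            refine ⟨Subgroup.inv_mem _ ha, ?_⟩
            obtain ⟨g, hg, hg1⟩ := PP.inv h hD ha1
            rw [afn_img] at hg
            refine PP.congr hg (fun x hx => ?_)
            have := hg1 _ (afn_mem a⁻¹ hx)
            rwa [afn_afn_inv a hx] at this }
      have hL1 : ∀ y ∈ D.autGroup Y, (orderOf y).Coprime p → y ∈ L := by
        intro y hy hcop
        have hym := (mem_autGroup_iff hYN).1 hy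
        obtain ⟨hyE, -, -, g, hg, hg1, hg2⟩ := (maps_norm_iff hD).1 hym
        have hyP : ∀ z ∈ imageAlong θ P, afn y z ∈ imageAlong θ P := by
          intro z hz
          rw [← hg1 z (hPY hz)]
          have : g z ∈ img g (imageAlong θ P) := (hg.restrict le_sup_right).mem_img_of_mem hz
          rwa [hg2] at this
        obtain ⟨n, hn, hnr⟩ := lift_NN h hyE
        have hnF := NN.maps h hn
        have hv : ∀ x ∈ preimageAlong θ Y, n x ∈ preimageAlong θ Y := fun x hx => mem_pre.2 ⟨hnF.mem hx, by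
          rw [hnr x hx]
          exact afn_mem y (mem_pre.1 hx).2⟩
        have himg := img_eq_of_card hn hQT hQT hv le_rfl
        obtain ⟨a₀, ha₀, ha₀v⟩ : ∃ a₀ : MulAut (preimageAlong θ Y), a₀ ∈ h.NN.autGroup (preimageAlong θ Y) ∧ ∀ x ∈ preimageAlong θ Y, afn a₀ x = n x :=
          ⟨hn.toAut himg, hn.toAut_mem himg, fun x hx => hn.afn_toAut himg hx⟩
        obtain ⟨j, hj1, hj2⟩ := exists_cop_part h hQS a₀ y (fun x hx => by rw [ha₀v x hx, hnr x hx]) (fun x hx => (mem_pre.1 hx).2) hcop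
        have hb : Maps h.NN (preimageAlong θ Y) (afn (a₀ ^ j)) := (mem_autGroup_iff hQT).1 (Subgroup.pow_mem _ ha₀ j)
        have hbP : ∀ x ∈ P, afn (a₀ ^ j) x ∈ P := fun x hx => mem_of_qf hfac hZP hPS (hQS (afn_mem _ (hPQ hx))) (by
          rw [hj2 x (hPQ hx)]
          exact hyP _ (qf_mem_image hx hPS))
        have hbm : Maps h.MM P (afn (a₀ ^ j)) := (NN.mapsMM h hb).restrict hPQ
        have himgP := img_eq_of_card hbm hPT hPT hbP le_rfl
        have hx₀ : hbm.toAut himgP ∈ h.XX P := mem_XX_cop h (hbm.toAut_mem himgP)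
          (Nat.Coprime.coprime_dvd_left (orderOf_dvd_of_restrict hPQ (a₀ ^ j) _ (fun z hz => hbm.afn_toAut himgP hz)) hj1)
        refine ⟨hy, hym, afn (a₀ ^ j), by rw [hsup]; exact hb, hj2, hbm.toAut himgP, hx₀, fun z hz => (hbm.afn_toAut himgP hz).symm⟩
      obtain ⟨-, V, hV⟩ := id hFA
      have hle : D.autGroup Y ≤ L := by
        intro α hα
        obtain ⟨κ, hκ, r, hr, e⟩ := Cfsg.Agent.Lib.FusionHyperfocal.exists_pResidual_mul_sylow V ⟨α, hα⟩
        have h1 : pResidual p ↥(D.autGroup Y) ≤ L.subgroupOf (D.autGroup Y) := by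
          rw [pResidual, Subgroup.closure_le]
          intro x hx
          refine Subgroup.mem_subgroupOf.2 (hL1 _ x.2 ?_)
          have : (orderOf x).Coprime p := hx
          rwa [← Subgroup.orderOf_coe] at this
        have h2 : (r : MulAut Y) ∈ L := by
          rw [hV] at hr
          obtain ⟨t', ht', ht'v⟩ := mem_autInducedBy.1 (Subgroup.mem_subgroupOf.1 hr)
          exact ⟨r.2, PP.congr (PP.conj h hZP hPT hYN ht') (fun x hx => (ht'v x hx).symm)⟩
        have e' : α = (κ : MulAut Y) * (r : MulAut Y) := congrArg Subtype.val e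
        rw [e']
        exact L.mul_mem (Subgroup.mem_subgroupOf.1 (h1 hκ)) h2
      have himg : img (fn φ) Y = Y := by
        rw [img_eq_range φ (fun x => (fn_coe φ x).symm), hr]
      have h3 := (hle (hm.toAut_mem himg)).2
      exact PP.congr h3 (fun x hx => hm.afn_toAut himg hx)
    · obtain ⟨hmE, hle, hval, g, hg, hg1, hg2⟩ := (maps_norm_iff hD).1 hm
      have hYlt : Y < Y ⊔ imageAlong θ P := lt_of_le_of_ne le_sup_left (fun e => hPY (by
        rw [e]
        exact le_sup_right))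
      have hgval : ∀ x ∈ Y ⊔ imageAlong θ P, g x ∈ normalizerIn T' (imageAlong θ P) := hg.sup_mem
        (fun x hx => by
          rw [hg1 x hx]
          exact hval x hx)
        (fun x hx => by
          have : g x ∈ img g (imageAlong θ P) := (hg.restrict le_sup_right).mem_img_of_mem hx
          rw [hg2] at this
          exact hP'N this)
      have hgD : Maps D (Y ⊔ imageAlong θ P) g := (maps_norm_iff hD).2 ⟨hg, sup_le hYN hP'N, hgval, g, by rwa [sup_assoc, sup_idem], fun _ _ => rfl, hg2⟩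
      haveI : Finite ↥(Y ⊔ imageAlong θ P) := finite_of_le (sup_le hYN hP'N)
      have hcard : Nat.card Y < Nat.card ↥(Y ⊔ imageAlong θ P) := Cfsg.Agent.Lib.FusionAlperin.card_lt_of_lt hYlt
      have h0 : PP h P D (Y ⊔ imageAlong θ P) (fn hgD.hom) := IH _ hcard hgD.hom_mem
      refine PP.congr (h0.restrict le_sup_left) (fun x hx => ?_)
      rw [fn_of_mem _ (Subgroup.mem_sup_left hx), hgD.hom_apply, hg1 x hx]
  obtain ⟨φ, hφ, hf⟩ := id hu
  have h0 : PP h P D R' (fn φ) := key R' hφ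
  exact PP.congr h0 (fun x hx => by rw [fn_of_mem φ hx]; exact hf ⟨x, hx⟩)

/-- Adjusting a map of `NN` normalizing `P` by a map with the same image, inducing an element of `X(P)` on `P`. -/
theorem thmA (hZP : Z ≤ P) (hPT : P ≤ preimageAlong θ T') (hfull : F.IsFullyNormalized P) {W : Subgroup Ω} (hPW : P ≤ W)
    (hWN : W ≤ normalizerIn (preimageAlong θ T') P) {ζ₀ : Ω → Ω} (hζ₀ : Maps h.NN W ζ₀) (hstab : ∀ y ∈ P, ζ₀ y ∈ P) :
    ∃ ζ, Maps h.NN W ζ ∧ (∀ x ∈ W, qf θ (ζ x) = qf θ (ζ₀ x)) ∧ ∃ x₀ ∈ h.XX P, ∀ y ∈ P, ζ y = afn x₀ y := by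
  haveI := finS' h
  have hfac := h.hfac
  haveI : Finite T' := finite_of_le (hT'S' h)
  have hTS := preimageAlong_le θ T'
  haveI : Finite (preimageAlong θ T') := finite_of_le hTS
  have hPS := hPT.trans hTS
  have hWT : W ≤ preimageAlong θ T' := hWN.trans inf_le_left
  have hWS := hWT.trans hTS
  have hZW := hZP.trans hPW
  have hP'T' : imageAlong θ P ≤ T' := image_le hPT
  have hW'T' : imageAlong θ W ≤ T' := image_le hWT
  obtain ⟨D, hD⟩ := exists_normalizerSystem (F := E') hP'T'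
  obtain ⟨f', hf', hrel⟩ := bar h (NN.mapsMM h hζ₀)
  have hWN' : imageAlong θ W ≤ normalizerIn T' (imageAlong θ P) := by
    rw [norm_T h hZP hPT] at hWN
    exact image_le hWN
  have hP'W' : imageAlong θ P ≤ imageAlong θ W := image_mono hPW
  have hval : ∀ x ∈ imageAlong θ W, f' x ∈ normalizerIn T' (imageAlong θ P) := by
    intro y hy
    obtain ⟨x, hx, hxS, rfl⟩ := mem_image.1 hy
    rw [← hrel x hx]
    have hν : ζ₀ x ∈ normalizerIn (preimageAlong θ T') P := by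
      refine ⟨(NN.mapsMM h hζ₀).mem hx, ?_⟩
      haveI : Finite P := finite_of_le hPS
      refine mem_normalizer_of_conj_mem (fun y hy => ?_)
      have himg : img ζ₀ P = P := img_eq_of_card ((NN.maps h hζ₀).restrict hPW) hPS hPS hstab le_rfl
      rw [← himg] at hy
      obtain ⟨y₀, hy₀, rfl⟩ := ((NN.maps h hζ₀).restrict hPW).mem_img.1 hy
      rw [← (NN.maps h hζ₀).map_conj hx (hPW hy₀)]
      exact hstab _ ((Subgroup.mem_normalizer_iff.1 (hWN hx).2 y₀).1 hy₀)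
    rw [norm_T h hZP hPT] at hν
    exact (mem_pre.1 hν).2
  have hf'img : img f' (imageAlong θ P) = imageAlong θ P := by
    refine img_eq_of_card (hf'.restrict hP'W') hP'T' hP'T' (fun y hy => ?_) le_rfl
    obtain ⟨x, hx, hxS, rfl⟩ := mem_image.1 hy
    rw [← hrel x (hPW hx)]
    exact qf_mem_image (hstab x hx) hPS
  have hD' : Maps D (imageAlong θ W) f' := (maps_norm_iff hD).2 ⟨hf', hWN', hval, f', by rwa [sup_eq_left.2 hP'W'], fun _ _ => rfl, hf'img⟩
  obtain ⟨-, ζ, hζ, h1, x₀, hx₀, h2⟩ := PP_all h hZP hPT hfull hD hD'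
  rw [pre_img hfac hZW hWS] at hζ h1
  rw [sup_eq_left.2 hPW] at hζ
  exact ⟨ζ, hζ, fun x hx => by rw [h1 x hx, hrel x hx], x₀, hx₀, h2⟩

omit [Fact p.Prime] h in
lemma mem_norm_img {Q W Q' : Subgroup Ω} {f : Ω → Ω} (hf : Maps F W f) (hQW : Q ≤ W) (himg : img f Q = Q') {x : Ω} (hx : x ∈ W)
    (hxN : x ∈ Subgroup.normalizer (Q : Set Ω)) : f x ∈ Subgroup.normalizer (Q' : Set Ω) := by
  haveI : Finite Q' := by
    rw [← himg]
    exact finite_of_le (hf.img_mono hQW |>.trans hf.img_le)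
  refine mem_normalizer_of_conj_mem (fun y hy => ?_)
  rw [← himg] at hy ⊢
  obtain ⟨y₀, hy₀, rfl⟩ := (hf.restrict hQW).mem_img.1 hy
  rw [← hf.map_conj hx (hQW hy₀)]
  exact (hf.restrict hQW).mem_img_of_mem ((Subgroup.mem_normalizer_iff.1 hxN y₀).1 hy₀)

omit [Fact p.Prime] h in
lemma img_lt {Q N : Subgroup Ω} {f : Ω → Ω} (hf : Maps F N f) (hQN : Q < N) : img f Q < img f N := by
  haveI : Finite N := finite_of_le hf.le
  refine lt_of_le_of_ne (hf.img_mono hQN.le) (fun e => ?_)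
  have h1 := (hf.restrict hQN.le).card_img
  rw [e, hf.card_img] at h1
  exact absurd h1 (ne_of_lt (Cfsg.Agent.Lib.FusionAlperin.card_lt_of_lt hQN)).symm

/-- **(K')**: the maps of `NN` normalizing `P` with larger source induce elements of `X(P)` on `P`. -/
theorem KK' (hP : HH Z θ F' T' P) (hfull : F.IsFullyNormalized P)
    (IH : ∀ V, F.IsFullyNormalized V → HH Z θ F' T' V → Nat.card P < Nat.card V → KAt h V)
    {W : Subgroup Ω} (hPW : P < W) (hWN : W ≤ normalizerIn (preimageAlong θ T') P) {ζ₀ : Ω → Ω} (hζ₀ : Maps h.NN W ζ₀) (hstab : ∀ y ∈ P, ζ₀ y ∈ P) :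
    ∃ x ∈ h.XX P, ∀ y ∈ P, ζ₀ y = afn x y := by
  have hfac := h.hfac
  have hTS := preimageAlong_le θ T'
  haveI : Finite (preimageAlong θ T') := finite_of_le hTS
  have hPT := hP.2.1
  have hPS := hPT.trans hTS
  obtain ⟨ζ, hζ, hbar, x₀, hx₀, hx₀v⟩ := thmA h hP.1 hPT hfull hPW.le hWN hζ₀ hstab
  obtain ⟨g, hg, hg1, hg2⟩ := hζ.inv
  have hζF := NN.maps h hζ
  have himgP : img ζ P = P := by rw [img_congr hx₀v, afn_img]
  have hPV : P < img ζ W := by
    have := img_lt hζF hPW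
    rwa [himgP] at this
  have hVN : img ζ W ≤ normalizerIn (preimageAlong θ T') P := by
    intro y hy
    obtain ⟨x, hx, rfl⟩ := hζF.mem_img.1 hy
    exact ⟨(NN.mapsMM h hζ).mem hx, mem_norm_img hζF hPW.le himgP hx (hWN hx).2⟩
  have hk : Maps h.NN (img ζ W) (ζ₀ ∘ g) := hg.comp hζ₀ (fun y hy => (hg2 y hy).1)
  have hb : ∀ y ∈ P, y⁻¹ * (ζ₀ ∘ g) y ∈ Z := by
    intro y hy
    rw [← himgP] at hy
    obtain ⟨x, hx, rfl⟩ := (hζF.restrict hPW.le).mem_img.1 hy
    simp only [Function.comp]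
    rw [hg1 x (hPW.le hx)]
    exact (qf_eq_iff hfac (hζF.mem (hPW.le hx)) ((NN.maps h hζ₀).mem (hPW.le hx))).1 (hbar x (hPW.le hx))
  obtain ⟨t, htT, htN, htv⟩ := KL h hP hfull IH hPV hVN hk hb
  obtain ⟨c, hc, hcv⟩ := exists_conjAut (F := h.MM) hPT htT htN
  refine ⟨c * x₀, Subgroup.mul_mem _ (mem_XX_R h hPT (mem_autInducedBy.2 ⟨t, htT, hcv⟩)) hx₀, fun y hy => ?_⟩
  rw [afn_mul _ _ hy, hcv _ (afn_mem x₀ hy), ← hx₀v y hy, ← htv _ (by
    rw [hx₀v y hy]
    exact afn_mem x₀ hy)]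
  simp only [Function.comp]
  rw [hg1 y (hPW.le hy)]

lemma conj_img {Q P : Subgroup Ω} {f : Ω → Ω} (hf : Maps h.NN Q f) (hconj : E'.IsConj (imageAlong θ Q) (imageAlong θ P)) :
    E'.IsConj (imageAlong θ (img f Q)) (imageAlong θ P) := by
  obtain ⟨f', hf', hrel⟩ := bar h (NN.mapsMM h hf)
  rw [image_img h (NN.maps h hf) (maps_sub (sub' h) hf') hrel]
  exact IsConj_trans (IsConj_symm (isConj_iff.2 ⟨f', hf', rfl⟩)) hconj

/-- A mover. -/
def Mv (h : PB F Z θ F' E' p) (Q P : Subgroup Ω) (μ : Ω → Ω) : Prop :=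
  Maps h.NN (normalizerIn (preimageAlong θ T') Q) μ ∧ img μ Q = P

/-- Two movers differ by an element of `X(P)`. -/
lemma two_mover {Q : Subgroup Ω} (hPlt : Nat.card P < Nat.card (preimageAlong θ T')) (hQT : Q ≤ preimageAlong θ T')
    (hK : ∀ (W : Subgroup Ω) (ζ₀ : Ω → Ω), P < W → W ≤ normalizerIn (preimageAlong θ T') P → Maps h.NN W ζ₀ → (∀ y ∈ P, ζ₀ y ∈ P) → ∃ x ∈ h.XX P, ∀ y ∈ P, ζ₀ y = afn x y)
    {μ μ' : Ω → Ω} (hμ : Mv h Q P μ) (hμ' : Mv h Q P μ') : ∃ x ∈ h.XX P, ∀ y ∈ Q, μ' y = afn x (μ y) := by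
  have hTS := preimageAlong_le θ T'
  haveI : Finite (preimageAlong θ T') := finite_of_le hTS
  have hTp : IsPGroup p (preimageAlong θ T') := h.hS.to_le hTS
  have hQN : Q ≤ normalizerIn (preimageAlong θ T') Q := le_normalizerIn hQT
  have hμF := NN.maps h hμ.1
  have hcQ : Nat.card Q = Nat.card P := by
    rw [← hμ.2]
    exact ((hμF.restrict hQN).card_img).symm
  have hQlt : Q < preimageAlong θ T' := lt_of_le_of_ne hQT (fun e => by
    rw [e] at hcQ
    omega)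
  have hlt := Cfsg.Agent.Lib.FusionAlperin.lt_normalizerIn hTp hQlt
  obtain ⟨g, hg, hg1, hg2⟩ := hμ.1.inv
  have hPW : P < img μ (normalizerIn (preimageAlong θ T') Q) := by
    have := img_lt hμF hlt
    rwa [hμ.2] at this
  have hWN : img μ (normalizerIn (preimageAlong θ T') Q) ≤ normalizerIn (preimageAlong θ T') P := by
    intro y hy
    obtain ⟨x, hx, rfl⟩ := hμF.mem_img.1 hy
    exact ⟨(NN.mapsMM h hμ.1).mem hx, mem_norm_img hμF hQN hμ.2 hx hx.2⟩
  have hQP : ∀ y ∈ Q, μ y ∈ P := fun y hy => by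
    rw [← hμ.2]
    exact (hμF.restrict hQN).mem_img_of_mem hy
  obtain ⟨x, hx, hxv⟩ := hK _ (μ' ∘ g) hPW hWN (hg.comp hμ'.1 (fun y hy => (hg2 y hy).1)) (fun y hy => by
    rw [← hμ.2] at hy
    obtain ⟨y₀, hy₀, rfl⟩ := (hμF.restrict hQN).mem_img.1 hy
    simp only [Function.comp]
    rw [hg1 y₀ (hQN hy₀), ← hμ'.2]
    exact ((NN.maps h hμ'.1).restrict hQN).mem_img_of_mem hy₀)
  refine ⟨x, hx, fun y hy => ?_⟩
  have := hxv _ (hQP y hy)
  simp only [Function.comp] at this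
  rwa [hg1 y (hQN hy)] at this

/-- **Closure**: conjugated by movers, `NN` induces on `P` only elements of `X(P)`. -/
theorem closure_aux (hZP : Z ≤ P) (hPT : P ≤ preimageAlong θ T') (hfull : F.IsFullyNormalized P)
    (hPlt : Nat.card P < Nat.card (preimageAlong θ T'))
    (hK : ∀ (W : Subgroup Ω) (ζ₀ : Ω → Ω), P < W → W ≤ normalizerIn (preimageAlong θ T') P → Maps h.NN W ζ₀ → (∀ y ∈ P, ζ₀ y ∈ P) → ∃ x ∈ h.XX P, ∀ y ∈ P, ζ₀ y = afn x y)
    {R : Subgroup Ω} {f : Ω → Ω} (hf : GenN h R f) :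
    ∀ Q : Subgroup Ω, Q ≤ R → Z ≤ Q → E'.IsConj (imageAlong θ Q) (imageAlong θ P) → ∀ μ μ' : Ω → Ω, Mv h Q P μ → Mv h (img f Q) P μ' →
      ∃ x ∈ h.XX P, ∀ y ∈ Q, μ' (f y) = afn x (μ y) := by
  have hTS := preimageAlong_le θ T'
  haveI : Finite (preimageAlong θ T') := finite_of_le hTS
  have hTp : IsPGroup p (preimageAlong θ T') := h.hS.to_le hTS
  induction hf with
  | @gen R₀ R x₀ hR₀ hx₀ hR =>
    intro Q hQR hZQ hconj μ μ' hμ hμ'
    have hQR₀ := hQR.trans hR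
    have hR₀T := hR₀.2.1
    have hQT := hQR₀.trans hR₀T
    have hQN : Q ≤ normalizerIn (preimageAlong θ T') Q := le_normalizerIn hQT
    have hμF := NN.maps h hμ.1
    by_cases hQe : Q = R₀
    · subst hQe
      rw [afn_img] at hμ'
      obtain ⟨x₁, hx₁, hx₁v⟩ := XX_transport h hQT hμ.1 hμ.2 hx₀
      obtain ⟨x₂, hx₂, hx₂v⟩ := two_mover h hPlt hQT hK hμ hμ'
      refine ⟨x₂ * x₁, Subgroup.mul_mem _ hx₂ hx₁, fun y hy => ?_⟩
      have hm : μ y ∈ P := by
        rw [← hμ.2]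
        exact (hμF.restrict hQN).mem_img_of_mem hy
      rw [hx₂v _ (afn_mem x₀ hy), afn_mul _ _ hm, hx₁v y hy]
    · have hlt : Q < R₀ := lt_of_le_of_ne hQR₀ hQe
      haveI : Finite R₀ := finite_of_le (hR₀T.trans hTS)
      have hR₀p : IsPGroup p R₀ := h.hS.to_le (hR₀T.trans hTS)
      have hlt₂ := Cfsg.Agent.Lib.FusionAlperin.lt_normalizerIn hR₀p hlt
      have hNN : normalizerIn R₀ Q ≤ normalizerIn (preimageAlong θ T') Q := fun x hx => ⟨hR₀T hx.1, hx.2⟩
      have hQN₂ : Q ≤ normalizerIn R₀ Q := hlt₂.le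
      have hμ₁ := hμ.1.restrict hNN
      have hμ₁F := NN.maps h hμ₁
      obtain ⟨g, hg, hg1, hg2⟩ := hμ₁.inv
      have hx₀m : Maps h.NN R₀ (afn x₀) := NN.of_XX h hR₀ hx₀ le_rfl
      have hx₁m : Maps h.NN (normalizerIn R₀ Q) (afn x₀) := hx₀m.restrict inf_le_left
      have hPW : P < img μ (normalizerIn R₀ Q) := by
        have := img_lt hμ₁F hlt₂
        rw [show img μ Q = P from hμ.2] at this
        exact this
      have hWN : img μ (normalizerIn R₀ Q) ≤ normalizerIn (preimageAlong θ T') P := by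
        intro y hy
        obtain ⟨x, hx, rfl⟩ := hμ₁F.mem_img.1 hy
        exact ⟨(NN.mapsMM h hμ.1).mem (hNN hx), mem_norm_img hμ₁F hQN₂ hμ.2 hx hx.2⟩
      have hval : ∀ x ∈ normalizerIn R₀ Q, afn x₀ x ∈ normalizerIn (preimageAlong θ T') (img (afn x₀) Q) := fun x hx =>
        ⟨hR₀T (afn_mem x₀ hx.1), mem_norm_img (NN.maps h hx₀m) hQR₀ rfl hx.1 hx.2⟩
      have hζ : Maps h.NN (img μ (normalizerIn R₀ Q)) (μ' ∘ afn x₀ ∘ g) :=
        hg.comp (hx₁m.comp hμ'.1 hval) (fun y hy => (hg2 y hy).1)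
      have hQP : ∀ y ∈ Q, μ y ∈ P := fun y hy => by
        rw [← hμ.2]
        exact (hμF.restrict hQN).mem_img_of_mem hy
      obtain ⟨x, hx, hxv⟩ := hK _ _ hPW hWN hζ (fun y hy => by
        rw [← hμ.2] at hy
        obtain ⟨y₀, hy₀, rfl⟩ := (hμF.restrict hQN).mem_img.1 hy
        simp only [Function.comp]
        rw [hg1 y₀ (hQN₂ hy₀), ← hμ'.2]
        refine ((NN.maps h hμ'.1).restrict (le_normalizerIn ?_)).mem_img_of_mem ?_
        · exact strong_img_le (T_sc h) hQT ((NN.maps h hx₀m).restrict hQR₀)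
        · exact ((NN.maps h hx₀m).restrict hQR₀).mem_img_of_mem hy₀)
      refine ⟨x, hx, fun y hy => ?_⟩
      have := hxv _ (hQP y hy)
      simp only [Function.comp] at this
      rwa [hg1 y (hQN₂ hy)] at this
  | @comp R₁ R₂ f g hf hg hm ih1 ih2 =>
    intro Q hQR₁ hZQ hconj μ μ' hμ hμ'
    have hfm := (maps_NN h).2 hf
    have hgm := (maps_NN h).2 hg
    have hfQ := hfm.restrict hQR₁
    have hQT := hQR₁.trans (NN.mapsMM h hfm).le
    have hZQ₁ := Z_le_img h (NN.maps h hfQ) hZQ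
    have hQ₁T := strong_img_le (T_sc h) hQT (NN.maps h hfQ)
    have hconj₁ := conj_img h hfQ hconj
    have hQ₁R₂ : img f Q ≤ R₂ := by
      intro y hy
      obtain ⟨x, hx, rfl⟩ := hfQ.mem_img.1 hy
      exact hm x (hQR₁ hx)
    obtain ⟨μ'', hμ''⟩ := exists_mover h hZP hPT hfull hZQ₁ hQ₁T hconj₁
    obtain ⟨x₁, hx₁, hx₁v⟩ := ih1 Q hQR₁ hZQ hconj μ μ'' hμ hμ''
    have e : img (g ∘ f) Q = img g (img f Q) := img_comp hfQ (hgm.restrict hQ₁R₂)
    rw [e] at hμ'
    obtain ⟨x₂, hx₂, hx₂v⟩ := ih2 (img f Q) hQ₁R₂ hZQ₁ hconj₁ μ'' μ' hμ'' hμ'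
    refine ⟨x₂ * x₁, Subgroup.mul_mem _ hx₂ hx₁, fun y hy => ?_⟩
    simp only [Function.comp]
    rw [hx₂v _ (hfQ.mem_img_of_mem hy), hx₁v y hy, afn_mul _ _ (by
      rw [← hμ.2]
      exact ((NN.maps h hμ.1).restrict (le_normalizerIn hQT)).mem_img_of_mem hy)]
  | @inv R₁ f g hf hg h1 ih =>
    intro Q hQ hZQ hconj μ μ' hμ hμ'
    have hfm := (maps_NN h).2 hf
    have hgm : Maps h.NN (img f R₁) g := (maps_NN h).2 (GenN.inv hf hg h1)
    have hgQ := hgm.restrict hQ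
    have hR₁T := (NN.mapsMM h hfm).le
    have hQ₀R : img g Q ≤ R₁ := by
      intro y hy
      obtain ⟨x, hx, rfl⟩ := hgQ.mem_img.1 hy
      have hx' := hQ hx
      obtain ⟨z, hz, rfl⟩ := hfm.mem_img.1 hx'
      rw [h1 z hz]
      exact hz
    have hfg : ∀ y ∈ Q, f (g y) = y := by
      intro y hy
      obtain ⟨z, hz, rfl⟩ := hfm.mem_img.1 (hQ hy)
      rw [h1 z hz]
    have hfQ₀ := hfm.restrict hQ₀R
    have e : img f (img g Q) = Q := by
      ext y
      rw [hfQ₀.mem_img]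
      constructor
      · rintro ⟨x, hx, rfl⟩
        obtain ⟨y₀, hy₀, rfl⟩ := hgQ.mem_img.1 hx
        rw [hfg y₀ hy₀]
        exact hy₀
      · intro hy
        exact ⟨g y, hgQ.mem_img_of_mem hy, hfg y hy⟩
    have hZQ₀ := Z_le_img h (NN.maps h hgQ) hZQ
    have hconj₀ := conj_img h hgQ hconj
    obtain ⟨x, hx, hxv⟩ := ih (img g Q) hQ₀R hZQ₀ hconj₀ μ' μ hμ' (by rw [e]; exact hμ)
    refine ⟨x⁻¹, Subgroup.inv_mem _ hx, fun y hy => ?_⟩
    have h2 := hxv _ (hgQ.mem_img_of_mem hy)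
    rw [hfg y hy] at h2
    rw [h2, afn_inv_afn x]
    rw [← hμ'.2]
    have hQ₀T : img g Q ≤ preimageAlong θ T' := hQ₀R.trans hR₁T
    exact ((NN.maps h hμ'.1).restrict (le_normalizerIn hQ₀T)).mem_img_of_mem (hgQ.mem_img_of_mem hy)
  | @congr R f g hf hfg ih =>
    intro Q hQ hZQ hconj μ μ' hμ hμ'
    rw [← img_congr (fun x hx => hfg x (hQ hx))] at hμ'
    obtain ⟨x, hx, hxv⟩ := ih Q hQ hZQ hconj μ μ' hμ hμ'
    exact ⟨x, hx, fun y hy => by rw [← hfg y (hQ hy), hxv y hy]⟩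

/-- The case of `T` itself. -/
lemma closure_T {R : Subgroup Ω} {f : Ω → Ω} (hf : GenN h R f) : R = preimageAlong θ T' → ∃ x ∈ h.XX (preimageAlong θ T'), ∀ y ∈ preimageAlong θ T', f y = afn x y := by
  have hTS := preimageAlong_le θ T'
  haveI : Finite (preimageAlong θ T') := finite_of_le hTS
  induction hf with
  | @gen R₀ R x₀ hR₀ hx₀ hR =>
    intro e
    have : R₀ = preimageAlong θ T' := le_antisymm hR₀.2.1 (e ▸ hR)
    subst this
    exact ⟨x₀, hx₀, fun _ _ => rfl⟩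
  | @comp R₁ R₂ f g hf hg hm ih1 ih2 =>
    intro e
    subst e
    have hfm := (maps_NN h).2 hf
    have hgm := (maps_NN h).2 hg
    have hR₂T := (NN.mapsMM h hgm).le
    haveI : Finite R₂ := finite_of_le hR₂T
    have hle : img f (preimageAlong θ T') ≤ R₂ := by
      intro y hy
      obtain ⟨x, hx, rfl⟩ := hfm.mem_img.1 hy
      exact hm x hx
    have e₂ : R₂ = preimageAlong θ T' := by
      refine Subgroup.eq_of_le_of_card_ge hR₂T ?_
      have h1 := hfm.card_img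
      have h2 := Subgroup.card_le_of_le hle
      omega
    obtain ⟨x₁, hx₁, hx₁v⟩ := ih1 rfl
    obtain ⟨x₂, hx₂, hx₂v⟩ := ih2 e₂
    refine ⟨x₂ * x₁, Subgroup.mul_mem _ hx₂ hx₁, fun y hy => ?_⟩
    simp only [Function.comp]
    rw [hx₁v y hy, hx₂v _ (afn_mem x₁ hy), afn_mul _ _ hy]
  | @inv R₁ f g hf hg h1 ih =>
    intro e
    have hfm := (maps_NN h).2 hf
    have hR₁T := (NN.mapsMM h hfm).le
    have e₁ : R₁ = preimageAlong θ T' := by
      refine Subgroup.eq_of_le_of_card_ge hR₁T ?_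
      have h2 := hfm.card_img
      rw [e] at h2
      omega
    subst e₁
    obtain ⟨x, hx, hxv⟩ := ih rfl
    refine ⟨x⁻¹, Subgroup.inv_mem _ hx, fun y hy => ?_⟩
    have hm := afn_mem x⁻¹ hy
    have h2 := h1 _ hm
    rwa [hxv _ hm, afn_afn_inv x hy] at h2
  | @congr R f g hf hfg ih =>
    intro e
    obtain ⟨x, hx, hxv⟩ := ih e
    subst e
    exact ⟨x, hx, fun y hy => by rw [← hfg y hy, hxv y hy]⟩

/-- **Theorem K**: at a fully normalized member of `HH`, `Aut_NN(P)` is `X(P)`. -/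
theorem thmK : ∀ P : Subgroup Ω, F.IsFullyNormalized P → HH Z θ F' T' P → KAt h P := by
  have hTS := preimageAlong_le θ T'
  haveI : Finite (preimageAlong θ T') := finite_of_le hTS
  have key : ∀ n : ℕ, ∀ P : Subgroup Ω, Nat.card (preimageAlong θ T') - Nat.card P = n → F.IsFullyNormalized P → HH Z θ F' T' P → KAt h P := by
    intro n
    induction n using Nat.strong_induction_on with
    | _ n ih =>
      intro P hn hfull hP ζ hζ hstab
      have hPT := hP.2.1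
      have hcP := Subgroup.card_le_of_le hPT
      have IH : ∀ V, F.IsFullyNormalized V → HH Z θ F' T' V → Nat.card P < Nat.card V → KAt h V := by
        intro V hV hHV hc
        have hcV := Subgroup.card_le_of_le hHV.2.1
        exact ih (Nat.card (preimageAlong θ T') - Nat.card V) (by omega) V rfl hV hHV
      by_cases hPe : P = preimageAlong θ T'
      · subst hPe
        exact closure_T h ((maps_NN h).1 hζ) rfl
      · have hlt : Nat.card P < Nat.card (preimageAlong θ T') := Cfsg.Agent.Lib.FusionAlperin.card_lt_of_lt (lt_of_le_of_ne hPT hPe)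
        have hK : ∀ (W : Subgroup Ω) (ζ₀ : Ω → Ω), P < W → W ≤ normalizerIn (preimageAlong θ T') P → Maps h.NN W ζ₀ → (∀ y ∈ P, ζ₀ y ∈ P) → ∃ x ∈ h.XX P, ∀ y ∈ P, ζ₀ y = afn x y :=
          fun W ζ₀ hPW hWN hζ₀ hst => KK' h hP hfull IH hPW hWN hζ₀ hst
        have himg : img ζ P = P := img_eq_of_card hζ hPT hPT hstab le_rfl
        have hmv : Mv h P P _root_.id := by
          refine ⟨Maps.id inf_le_left, ?_⟩
          ext y
          rw [(Maps.id hPT : Maps h.NN P _root_.id).mem_img]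
          simp
        obtain ⟨x, hx, hxv⟩ := closure_aux h hP.1 hPT hfull hlt hK ((maps_NN h).1 hζ) P le_rfl hP.1 (isConj_refl (image_le hPT)) _root_.id _root_.id hmv
          (by rw [himg]; exact hmv)
        exact ⟨x, hx, fun y hy => by simpa using hxv y hy⟩
  exact fun P hP hH => key _ P rfl hP hH

end PB

end Cfsg.Agent.Lib.FusionCompA
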