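/-
FusionCompP6: the generated subsystem `NN` is saturated.
-/
import Mathlib
import Cfsg.Agent.Lib.FusionCompP5

set_option autoImplicit false
set_option linter.unusedSectionVars false
set_option linter.unusedVariables false
set_option linter.unusedSimpArgs false
set_option linter.style.haveILetI false

namespace Cfsg.Agent.Lib.FusionCompA

open Cfsg Cfsg.FusionSystem Cfsg.Agent.Lib.FusionCore Cfsg.Agent.Lib.FusionCore2 Cfsg.Agent.Lib.FusionGT Cfsg.Agent.Lib.FusionFactor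
open Cfsg.Agent.Lib.FusionStrongClosed Cfsg.Agent.Lib.FusionQuotSat Cfsg.Agent.Lib.PCore
open Cfsg.Agent.Lib.FusionInvariant (Str Inv Frat isInvariantIn_iff str_of_inv_frat maps_sub StrongMem aut_maps strong_img_le)
open Cfsg.Agent.Lib.AschCore
open Cfsg.Agent.Lib.FusionPPrimeMin (TC tc_of_centric)
open Cfsg.Agent.Lib.FusionCentralQuot
open Cfsg.Agent.Lib.FusionIndexPrime (ofMaps maps_ofMaps)

universe u

variable {Ω Ω' : Type u} [Group Ω] [Group Ω'] {S : Subgroup Ω} {F : FusionSystem S} {Z : Subgroup Ω}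
  {S' : Subgroup Ω'} {θ : S →* Ω'} {F' : FusionSystem S'} {T' : Subgroup Ω'} {E' : FusionSystem T'} {p : ℕ}

namespace PB

variable (h : PB F Z θ F' E' p) [Fact p.Prime] [Finite S]
include h

variable {P : Subgroup Ω}

lemma aut_NN_eq (hfull : F.IsFullyNormalized P) (hP : HH Z θ F' T' P) : h.NN.autGroup P = h.XX P := by
  apply le_antisymm
  · intro a ha
    have hm := (mem_autGroup_iff hP.2.1).1 ha
    obtain ⟨x, hx, hxv⟩ := thmK h P hfull hP _ hm (fun y hy => afn_mem a hy)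
    have : a = x := afn_ext hxv
    rwa [this]
  · intro x hx
    exact (mem_autGroup_iff hP.2.1).2 (NN.of_XX h hP hx le_rfl)

lemma full_auto (hfull : F.IsFullyNormalized P) (hP : HH Z θ F' T' P) : h.NN.IsFullyAutomized p P := by
  have hTS := preimageAlong_le θ T'
  haveI : Finite (preimageAlong θ T') := finite_of_le hTS
  have hTp : IsPGroup p (preimageAlong θ T') := h.hS.to_le hTS
  obtain ⟨hZP, hPT, hTC⟩ := id hP
  have hPS := hPT.trans hTS
  haveI : Finite (MulAut P) := finite_mulAut (S := S) hPS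
  have hAe := aut_NN_eq h hfull hP
  have hT3 := (XX_struct h hZP hPT hTC hfull).2.2
  have hRX : autInducedBy (preimageAlong θ T') P ≤ h.NN.autGroup P := fun α hα => by
    rw [hAe]
    exact mem_XX_R h hPT hα
  refine ⟨hPT, ⟨(autInducedBy (preimageAlong θ T') P).subgroupOf (h.NN.autGroup P), (isPGroup_autInducedBy hTp).comap_subtype, ?_⟩, rfl⟩
  intro Q hQp hRQ
  have hQ₁ : Q.map (h.NN.autGroup P).subtype = autInducedBy (preimageAlong θ T') P := by
    refine hT3 _ ?_ (hQp.map _) ?_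
    · rw [← hAe]
      exact Subgroup.map_subtype_le _
    · intro α hα
      exact ⟨⟨α, hRX hα⟩, hRQ (Subgroup.mem_subgroupOf.2 hα), rfl⟩
  apply le_antisymm
  · intro q hq
    refine Subgroup.mem_subgroupOf.2 ?_
    rw [← hQ₁]
    exact ⟨q, hq, rfl⟩
  · exact hRQ

lemma full_recv (hfull : F.IsFullyNormalized P) (hP : HH Z θ F' T' P) : h.NN.IsReceptive P := by
  haveI := finS' h
  have hfac := h.hfac
  have hTS := preimageAlong_le θ T'
  haveI : Finite T' := finite_of_le (hT'S' h)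
  haveI : Finite (preimageAlong θ T') := finite_of_le hTS
  obtain ⟨hZP, hPT, hTC⟩ := id hP
  have hPS := hPT.trans hTS
  obtain ⟨-, -, hR'⟩ := full_E' h hZP hPT hfull
  refine isReceptive_of hPT (fun Q₁ f hf himg => ?_)
  have hfF := NN.maps h hf
  have hfMM := NN.mapsMM h hf
  have hQ₁T := hfMM.le
  have hQ₁S := hfF.le
  obtain ⟨fi, hfi, hfi1, hfi2⟩ := hf.inv
  have hZQ₁ : Z ≤ Q₁ := by
    have h1 := Z_le_img h (NN.maps h hfi) (by rw [himg]; exact hZP)
    rwa [hf.img_inv hfi hfi1] at h1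
  obtain ⟨f', hf', hrel⟩ := bar h hfMM
  have him := image_img h hfF (maps_sub (sub' h) hf') hrel
  rw [himg] at him
  obtain ⟨g', hg', hg'1⟩ := IsReceptive.ext hR' hf' him.symm
  obtain ⟨n, hn, hnr⟩ := lift_NN h hg'
  have hQ'T' : imageAlong θ Q₁ ≤ T' := image_le hQ₁T
  have hQ₁N : Q₁ ≤ preimageAlong θ (Nf T' (imageAlong θ Q₁) f') := by
    intro x hx
    exact mem_pre.2 ⟨hQ₁S hx, le_Nf hf' (qf_mem_image hx hQ₁S)⟩
  have hnQ : ∀ x ∈ Q₁, qf θ (n x) = qf θ (f x) := by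
    intro x hx
    rw [hnr x (hQ₁N hx), hg'1 _ (qf_mem_image hx hQ₁S), hrel x hx]
  have hnF := NN.maps h hn
  have hfP : ∀ x ∈ Q₁, f x ∈ P := fun x hx => by
    rw [← himg]
    exact hf.mem_img_of_mem hx
  have hnP : ∀ x ∈ Q₁, n x ∈ P := fun x hx => mem_of_qf hfac hZP hPS (hnF.mem (hQ₁N hx)) (by
    rw [hnQ x hx]
    exact qf_mem_image (hfP x hx) hPS)
  have hnm := hn.restrict hQ₁N
  have hcard : Nat.card P = Nat.card Q₁ := by
    rw [← himg]
    exact hf.card_img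
  have himgn : img n Q₁ = P := img_eq_of_card (NN.maps h hnm) hQ₁S hPS hnP hcard.le
  obtain ⟨ni, hni, hni1, hni2⟩ := hnm.inv
  rw [himgn] at hni hni2
  have hk : Maps h.NN P (f ∘ ni) := hni.comp hf (fun y hy => (hni2 y hy).1)
  have hkq : ∀ y ∈ P, qf θ ((f ∘ ni) y) = qf θ y := by
    intro y hy
    obtain ⟨hy1, hy2⟩ := hni2 y hy
    simp only [Function.comp]
    rw [← hnQ _ hy1, hy2]
  have hkP : ∀ y ∈ P, (f ∘ ni) y ∈ P := fun y hy => hfP _ (hni2 y hy).1
  obtain ⟨x, hx, hxv⟩ := thmK h P hfull hP _ hk hkP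
  have hxF : x ∈ F.autGroup P := (mem_autGroup_iff hPS).2 (MM.maps h ((mem_autGroup_iff hPT).1 (XX_le_MM h _ hx)))
  have hxK : x ∈ KP F Z P := KP_of_bar h hPS hxF (fun y hy => by rw [← hxv y hy, hkq y hy])
  obtain ⟨t, ht, htv⟩ := mem_autInducedBy.1 ((XX_struct h hZP hPT hTC hfull).1 x hxK hx)
  have hNf : Nf (preimageAlong θ T') Q₁ f ≤ preimageAlong θ (Nf T' (imageAlong θ Q₁) f') := by
    intro u hu
    obtain ⟨hu1, hu2, v, hv, hv1⟩ := mem_Nf.1 hu
    have huS := hTS hu1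
    have hvS := hTS hv
    refine mem_pre.2 ⟨huS, mem_Nf.2 ⟨(mem_pre.1 hu1).2, ?_, qf θ v, (mem_pre.1 hv).2, fun y hy => ?_⟩⟩
    · haveI : Finite (imageAlong θ Q₁) := finite_of_le hQ'T'
      refine mem_normalizer_of_conj_mem (fun y hy => ?_)
      obtain ⟨y₀, hy₀, hy₀S, rfl⟩ := mem_image.1 hy
      have e : qf θ u * qf θ y₀ * (qf θ u)⁻¹ = qf θ (u * y₀ * u⁻¹) := by
        rw [qf_mul θ (S.mul_mem huS hy₀S) (S.inv_mem huS), qf_mul θ huS hy₀S, qf_inv θ huS]
      rw [e]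
      exact qf_mem_image ((Subgroup.mem_normalizer_iff.1 hu2 y₀).1 hy₀) hQ₁S
    · obtain ⟨y₀, hy₀, hy₀S, rfl⟩ := mem_image.1 hy
      have e : qf θ u * qf θ y₀ * (qf θ u)⁻¹ = qf θ (u * y₀ * u⁻¹) := by
        rw [qf_mul θ (S.mul_mem huS hy₀S) (S.inv_mem huS), qf_mul θ huS hy₀S, qf_inv θ huS]
      have hc₁ : u * y₀ * u⁻¹ ∈ Q₁ := (Subgroup.mem_normalizer_iff.1 hu2 y₀).1 hy₀
      rw [e, ← hrel _ hc₁, hv1 y₀ hy₀, ← hrel y₀ hy₀]
      have hfy := hfF.mem hy₀
      rw [qf_mul θ (S.mul_mem hvS hfy) (S.inv_mem hvS), qf_mul θ hvS hfy, qf_inv θ hvS]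
  have hgm : Maps h.NN (preimageAlong θ (Nf T' (imageAlong θ Q₁) f')) ((fun y => t * y * t⁻¹) ∘ n) := by
    refine hn.comp ((maps_NN h).2 (GenN.conj h (P := img n (preimageAlong θ (Nf T' (imageAlong θ Q₁) f'))) ?_ ht)) (fun x hx => hn.mem_img_of_mem hx)
    exact (NN.mapsMM h hn).img_le
  refine ⟨_, hgm.restrict hNf, fun y hy => ?_⟩
  simp only [Function.comp]
  have hny := hnP y hy
  have e1 := htv _ hny
  rw [← hxv _ hny] at e1
  simp only [Function.comp] at e1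
  rw [hni1 y hy] at e1
  exact e1.symm

lemma auto_transfer {Q : Subgroup Ω} {a : MulAut (preimageAlong θ T')} (ha : a ∈ F.autGroup (preimageAlong θ T')) (hQT : Q ≤ preimageAlong θ T')
    (hA : h.NN.IsFullyAutomized p (img (afn a) Q)) : h.NN.IsFullyAutomized p Q := by
  have hTS := preimageAlong_le θ T'
  haveI : Finite (preimageAlong θ T') := finite_of_le hTS
  have hTp : IsPGroup p (preimageAlong θ T') := h.hS.to_le hTS
  have ham := (mem_autGroup_iff hTS).1 ha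
  have hainv : a⁻¹ ∈ F.autGroup (preimageAlong θ T') := Subgroup.inv_mem _ ha
  have hm := ham.restrict hQT
  have hQ₁T : img (afn a) Q ≤ preimageAlong θ T' := strong_img_le (T_sc h) hQT hm
  have hback : img (afn a⁻¹) (img (afn a) Q) = Q := by
    ext y
    rw [(((mem_autGroup_iff hTS).1 hainv).restrict hQ₁T).mem_img]
    constructor
    · rintro ⟨x, hx, rfl⟩
      obtain ⟨x₀, hx₀, rfl⟩ := hm.mem_img.1 hx
      rw [afn_inv_afn a (hQT hx₀)]
      exact hx₀
    · intro hy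
      exact ⟨afn a y, hm.mem_img_of_mem hy, afn_inv_afn a (hQT hy)⟩
  let e := hm.equiv (rfl : img (afn a) Q = img (afn a) Q)
  refine isFullyAutomized_transfer hTp hQT hQ₁T e ?_ ?_ hA
  · ext β
    constructor
    · rintro ⟨α, hα, rfl⟩
      obtain ⟨k, hk, hkv⟩ := NN_inv h ((mem_autGroup_iff hQT).1 hα) a ha
      refine (mem_autGroup_iff hQ₁T).2 (hk.congr (fun y hy => ?_))
      obtain ⟨x₀, hx₀, rfl⟩ := hm.mem_img.1 hy
      rw [hkv x₀ hx₀]
      exact (hm.afn_congr rfl α hx₀).symm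
    · intro hβ
      refine ⟨(MulAut.congr e).symm β, ?_, (MulAut.congr e).apply_symm_apply β⟩
      obtain ⟨k, hk, hkv⟩ := NN_inv h ((mem_autGroup_iff hQ₁T).1 hβ) a⁻¹ hainv
      rw [hback] at hk
      refine (mem_autGroup_iff hQT).2 (hk.congr (fun y hy => ?_))
      have e1 := hm.afn_congr (rfl : img (afn a) Q = img (afn a) Q) ((MulAut.congr e).symm β) hy
      have e2 : MulAut.congr (hm.equiv (rfl : img (afn a) Q = img (afn a) Q)) ((MulAut.congr e).symm β) = β := (MulAut.congr e).apply_symm_apply β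
      rw [e2] at e1
      have e3 := hkv _ (hm.mem_img_of_mem hy)
      rw [afn_inv_afn a (hQT hy), e1, afn_inv_afn a (hQT (afn_mem _ hy))] at e3
      exact e3
  · ext β
    constructor
    · rintro ⟨α, hα, rfl⟩
      obtain ⟨t, ht, htv⟩ := mem_autInducedBy.1 hα
      refine mem_autInducedBy.2 ⟨afn a t, afn_mem a ht, fun y hy => ?_⟩
      obtain ⟨x₀, hx₀, rfl⟩ := hm.mem_img.1 hy
      show afn (MulAut.congr e α) (afn a x₀) = _
      rw [hm.afn_congr rfl α hx₀, htv x₀ hx₀]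
      exact ham.map_conj ht (hQT hx₀)
    · intro hβ
      obtain ⟨t, ht, htv⟩ := mem_autInducedBy.1 hβ
      refine ⟨(MulAut.congr e).symm β, mem_autInducedBy.2 ⟨afn a⁻¹ t, afn_mem a⁻¹ ht, fun y hy => ?_⟩, (MulAut.congr e).apply_symm_apply β⟩
      have e1 := hm.afn_congr (rfl : img (afn a) Q = img (afn a) Q) ((MulAut.congr e).symm β) hy
      have e2 : MulAut.congr (hm.equiv (rfl : img (afn a) Q = img (afn a) Q)) ((MulAut.congr e).symm β) = β := (MulAut.congr e).apply_symm_apply β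
      rw [e2, htv _ (hm.mem_img_of_mem hy)] at e1
      have hinvm := ((mem_autGroup_iff hTS).1 hainv)
      have hmem := hm.mem_img_of_mem hy
      have e3 : afn a⁻¹ (t * afn a y * t⁻¹) = afn a⁻¹ t * y * (afn a⁻¹ t)⁻¹ := by
        rw [hinvm.map_conj ht (hQ₁T hmem), afn_inv_afn a (hQT hy)]
      rw [← e3, e1, afn_inv_afn a (hQT (afn_mem _ hy))]

lemma recv_transfer {Q : Subgroup Ω} {a : MulAut (preimageAlong θ T')} (ha : a ∈ F.autGroup (preimageAlong θ T')) (hQT : Q ≤ preimageAlong θ T')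
    (hR : h.NN.IsReceptive (img (afn a) Q)) : h.NN.IsReceptive Q := by
  have hTS := preimageAlong_le θ T'
  haveI : Finite (preimageAlong θ T') := finite_of_le hTS
  have ham := (mem_autGroup_iff hTS).1 ha
  have hainv : a⁻¹ ∈ F.autGroup (preimageAlong θ T') := Subgroup.inv_mem _ ha
  have hainvm := (mem_autGroup_iff hTS).1 hainv
  have hm := ham.restrict hQT
  refine isReceptive_of hQT (fun R f hf himg => ?_)
  have hRT := (NN.mapsMM h hf).le
  have hmR := ham.restrict hRT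
  obtain ⟨k, hk, hkv⟩ := NN_inv h hf a ha
  have hkimg : img k (img (afn a) R) = img (afn a) Q := by
    ext y
    rw [hk.mem_img, hm.mem_img]
    constructor
    · rintro ⟨z, hz, rfl⟩
      obtain ⟨x, hx, rfl⟩ := hmR.mem_img.1 hz
      rw [hkv x hx]
      exact ⟨f x, by rw [← himg]; exact hf.mem_img_of_mem hx, rfl⟩
    · rintro ⟨z, hz, rfl⟩
      rw [← himg] at hz
      obtain ⟨x, hx, rfl⟩ := hf.mem_img.1 hz
      exact ⟨afn a x, hmR.mem_img_of_mem hx, hkv x hx⟩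
  obtain ⟨g, hg, hg1⟩ := IsReceptive.ext hR hk hkimg
  have hgT := (NN.mapsMM h hg).le
  obtain ⟨g₂, hg₂, hg₂v⟩ := NN_inv h hg a⁻¹ hainv
  have hle : Nf (preimageAlong θ T') R f ≤ img (afn a⁻¹) (Nf (preimageAlong θ T') (img (afn a) R) k) := by
    intro u hu
    obtain ⟨hu1, hu2, v, hv, hv1⟩ := mem_Nf.1 hu
    have hau : afn a u ∈ Nf (preimageAlong θ T') (img (afn a) R) k := by
      refine mem_Nf.2 ⟨afn_mem a hu1, mem_norm_img ham hRT rfl hu1 hu2, afn a v, afn_mem a hv, fun y hy => ?_⟩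
      obtain ⟨x, hx, rfl⟩ := hmR.mem_img.1 hy
      have hc : u * x * u⁻¹ ∈ R := (Subgroup.mem_normalizer_iff.1 hu2 x).1 hx
      have hfx : f x ∈ preimageAlong θ T' := (NN.mapsMM h hf).mem hx
      rw [← ham.map_conj hu1 (hRT hx), hkv _ hc, hv1 x hx, ham.map_conj hv hfx, hkv x hx]
    exact (hainvm.restrict hgT).mem_img.2 ⟨afn a u, hau, afn_inv_afn a hu1⟩
  refine ⟨g₂, hg₂.restrict hle, fun x hx => ?_⟩
  have hax := hmR.mem_img_of_mem hx
  have e := hg₂v _ (le_Nf hk hax)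
  rw [afn_inv_afn a (hRT hx), hg1 _ hax, hkv x hx, afn_inv_afn a ((NN.mapsMM h hf).mem hx)] at e
  exact e

/-- **`NN` is saturated.** -/
theorem NN_sat : h.NN.IsSaturated p := by
  haveI := finS' h
  have hfac := h.hfac
  have hTS := preimageAlong_le θ T'
  haveI : Finite (preimageAlong θ T') := finite_of_le hTS
  have hTp : IsPGroup p (preimageAlong θ T') := h.hS.to_le hTS
  haveI : Finite T' := finite_of_le (hT'S' h)
  obtain ⟨-, -, -, hFr⟩ := inv' h
  refine Cfsg.Agent.Lib.FusionSatCrit.saturated_of_crit hTp h.NN {P | HH Z θ F' T' P} ?_ ?_ ?_ ?_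
  · intro P hP Q hQ
    obtain ⟨f, hf, rfl⟩ := isConj_iff.1 hQ
    exact HH_img h hP (NN.maps h hf)
  · intro P hP
    obtain ⟨a, ha, n, hn, hfull⟩ := exists_full h hP.1 hP.2.1
    have hnF := NN.maps h hn
    have ham := (mem_autGroup_iff hTS).1 ha
    have hQT : img n P ≤ preimageAlong θ T' := (NN.mapsMM h hn).img_le
    have hHQ₀ : HH Z θ F' T' (img n P) := HH_img h hP hnF
    have hHQ : HH Z θ F' T' (img (afn a) (img n P)) := HH_img h hHQ₀ (ham.restrict hQT)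
    exact ⟨img n P, isConj_iff.2 ⟨n, hn, rfl⟩, auto_transfer h ha hQT (full_auto h hfull hHQ), recv_transfer h ha hQT (full_recv h hfull hHQ)⟩
  · intro E hE P φ hφ
    have h0 : GenN h P (fn φ) := hφ
    have key : ∀ {R : Subgroup Ω} {f : Ω → Ω}, GenN h R f → Maps E R f := by
      intro R f hf
      induction hf with
      | @gen R₀ R x hR₀ hx hR =>
        have hm := NN.of_XX h hR₀ hx (le_rfl : R₀ ≤ R₀)
        exact (Maps.of_mem (hE R₀ hR₀ hm.hom_mem)).congr (fun y hy => by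
          rw [fn_of_mem _ hy, hm.hom_apply]) |>.restrict hR
      | comp _ _ hm ih1 ih2 => exact ih1.comp ih2 hm
      | @inv P f g hf hg h1 ih =>
        obtain ⟨g₀, hg₀, h2, h3⟩ := ih.inv
        refine hg₀.congr (fun y hy => ?_)
        obtain ⟨x, hx, rfl⟩ := ih.mem_img.1 hy
        rw [h2 x hx, h1 x hx]
      | congr _ hfg ih => exact ih.congr hfg
    exact (key h0).mem_hom (fun x => (fn_coe φ x).symm)
  · intro P hPc hPH
    obtain ⟨hPT, hPcc⟩ := hPc
    have hPS := hPT.trans hTS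
    have hZT : Z ≤ preimageAlong θ T' := Z_le_pre hfac T'
    have hZS := hZT.trans hTS
    have hZP : Z ≤ P := by
      intro z hz
      refine hPcc P (isConj_refl hPT) (mem_centralizerIn.2 ⟨hZT hz, fun y hy => ?_⟩)
      have h1 : y * z * y⁻¹ = z := central_fix h.hZ (Maps.conj (F := F) hZS (hPS hy)) hz hz
      rw [mul_inv_eq_iff_eq_mul] at h1
      exact h1
    have hnTC : ¬ TC F' T' (imageAlong θ P) := fun hTC => hPH ⟨hZP, hPT, hTC⟩
    have hex : ∃ Q', F'.IsConj (imageAlong θ P) Q' ∧ ¬ centralizerIn T' Q' ≤ Q' := by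
      by_contra hcon
      push Not at hcon
      exact hnTC ⟨image_le hPT, hcon⟩
    obtain ⟨Q', hQ', hnc⟩ := hex
    obtain ⟨u', hu', hu'n⟩ := SetLike.not_le_iff_exists.1 hnc
    obtain ⟨f', hf', rfl⟩ := isConj_iff.1 hQ'
    obtain ⟨a', ha', f₀, hf₀, h1⟩ := hFr (image_le hPT) hf'
    have hainvm := (mem_autGroup_iff (hT'S' h)).1 (Subgroup.inv_mem _ ha')
    have hu'T := (mem_centralizerIn.1 hu').1
    obtain ⟨n, hn, hnr⟩ := lift_NN h hf₀
    rw [pre_img hfac hZP hPS] at hn hnr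
    have hnF := NN.maps h hn
    have hQ₂T : img n P ≤ preimageAlong θ T' := (NN.mapsMM h hn).img_le
    have hQ₂S := hQ₂T.trans hTS
    have hZQ₂ : Z ≤ img n P := Z_le_img h hnF hZP
    obtain ⟨v, hvS, hv⟩ := exists_qf hfac (hT'S' h (afn_mem a'⁻¹ hu'T))
    have hvT : v ∈ preimageAlong θ T' := mem_pre.2 ⟨hvS, by rw [hv]; exact afn_mem a'⁻¹ hu'T⟩
    have hqQ₂ : ∀ x ∈ img n P, qf θ v * qf θ x = qf θ x * qf θ v ∧ qf θ x ∈ img f₀ (imageAlong θ P) := by
      intro x hx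
      obtain ⟨x₀, hx₀, rfl⟩ := hn.mem_img.1 hx
      have hq₀ : qf θ x₀ ∈ imageAlong θ P := qf_mem_image hx₀ hPS
      have hm₀ := hf₀.mem hq₀
      rw [hnr x₀ hx₀, hv]
      refine ⟨?_, hf₀.mem_img_of_mem hq₀⟩
      have e1 : afn a' (f₀ (qf θ x₀)) ∈ img f' (imageAlong θ P) := by
        rw [← h1 _ hq₀]
        exact hf'.mem_img_of_mem hq₀
      have e2 : afn a' (f₀ (qf θ x₀)) * u' = u' * afn a' (f₀ (qf θ x₀)) := (mem_centralizerIn.1 hu').2 _ e1
      have e3 := congrArg (afn a'⁻¹) e2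
      rw [hainvm.map_mul (afn_mem a' hm₀) hu'T, hainvm.map_mul hu'T (afn_mem a' hm₀), afn_inv_afn a' hm₀] at e3
      exact e3.symm
    have hvN : v ∈ Subgroup.normalizer ((img n P : Subgroup Ω) : Set Ω) := by
      haveI : Finite (img n P) := finite_of_le hQ₂S
      refine mem_normalizer_of_conj_mem (fun x hx => ?_)
      have hxS := hQ₂S hx
      refine mem_of_qf hfac hZQ₂ hQ₂S (S.mul_mem (S.mul_mem hvS hxS) (S.inv_mem hvS)) ?_
      rw [qf_mul θ (S.mul_mem hvS hxS) (S.inv_mem hvS), qf_mul θ hvS hxS, qf_inv θ hvS, (hqQ₂ x hx).1, mul_inv_cancel_right]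
      exact qf_mem_image hx hQ₂S
    have hvn : v ∉ img n P := by
      intro hvm
      apply hu'n
      have h2 := (hqQ₂ v hvm).2
      rw [hv] at h2
      obtain ⟨y₀, hy₀, hy₀e⟩ := hf₀.mem_img.1 h2
      have e1 : afn a' (afn a'⁻¹ u') = u' := afn_afn_inv a' hu'T
      rw [← e1, ← hy₀e, ← h1 _ hy₀]
      exact hf'.mem_img_of_mem hy₀
    obtain ⟨c, hc, hcv⟩ := exists_conjAut (F := h.NN) hQ₂T hvT hvN
    refine ⟨img n P, isConj_iff.2 ⟨n, hn, rfl⟩, fun hle => ?_⟩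
    have hcA : c ∈ autInducedBy (preimageAlong θ T') (img n P) := mem_autInducedBy.2 ⟨v, hvT, hcv⟩
    have hKN : KP F Z (img n P) ⊓ h.NN.autGroup (img n P) ≤ Cfsg.Agent.Lib.FusionSatCrit.KK h.NN p (img n P) := by
      refine Cfsg.Agent.Lib.FusionSatCrit.le_KK (fun _ hk => hk.2) (fun a ha k hk => ⟨?_, Subgroup.mul_mem _ (Subgroup.mul_mem _ ha hk.2) (Subgroup.inv_mem _ ha)⟩) ?_
      · exact KP_conj h.hZ hZQ₂ hQ₂S ((mem_autGroup_iff hQ₂S).2 (NN.maps h ((mem_autGroup_iff hQ₂T).1 ha))) hk.1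
      · exact (KP_p h.hS h.hZ hZQ₂ hQ₂S).to_le inf_le_left
    have hcK : c ∈ KP F Z (img n P) ⊓ h.NN.autGroup (img n P) := by
      refine ⟨⟨(mem_autGroup_iff hQ₂S).2 (NN.maps h ((mem_autGroup_iff hQ₂T).1 hc)), fun x hx => ?_⟩, hc⟩
      have hxS := hQ₂S hx
      rw [hcv x hx]
      refine (qf_eq_iff hfac hxS (S.mul_mem (S.mul_mem hvS hxS) (S.inv_mem hvS))).1 ?_
      rw [qf_mul θ (S.mul_mem hvS hxS) (S.inv_mem hvS), qf_mul θ hvS hxS, qf_inv θ hvS, (hqQ₂ x hx).1, mul_inv_cancel_right]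
    obtain ⟨w, hw⟩ := hle ⟨hcA, hKN hcK⟩
    apply hvn
    have hwm : (w : Ω) ∈ img n P := w.2
    have hcent : (w : Ω)⁻¹ * v ∈ centralizerIn (preimageAlong θ T') (img n P) := by
      refine mem_centralizerIn.2 ⟨Subgroup.mul_mem _ (Subgroup.inv_mem _ (hQ₂T hwm)) hvT, fun y hy => ?_⟩
      have e1 := hcv y hy
      rw [← hw, afn_of_mem _ hy] at e1
      have e2 : (w : Ω) * y * (w : Ω)⁻¹ = v * y * v⁻¹ := e1
      have e3 : y = (w : Ω)⁻¹ * (v * y * v⁻¹) * w := by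
        rw [← e2]
        group
      calc y * ((w : Ω)⁻¹ * v) = (w : Ω)⁻¹ * (v * y * v⁻¹) * w * ((w : Ω)⁻¹ * v) := by rw [← e3]
        _ = (w : Ω)⁻¹ * v * y := by group
    have h3 := hPcc (img n P) (isConj_iff.2 ⟨n, hn, rfl⟩) hcent
    have := (img n P).mul_mem hwm h3
    rwa [mul_inv_cancel_left] at this

end PB

end Cfsg.Agent.Lib.FusionCompA
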