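/-
FusionCompP7: the generated subsystem `NN` is normal: pulling back normal subsystems along central quotients.
-/
import Mathlib
import Cfsg.Agent.Lib.FusionCompP6

set_option autoImplicit false
set_option linter.unusedSectionVars false
set_option linter.unusedVariables false
set_option linter.unusedSimpArgs false
set_option linter.style.haveILetI false

namespace Cfsg.Agent.Lib.FusionCompA

open Cfsg Cfsg.FusionSystem Cfsg.Agent.Lib.FusionCore Cfsg.Agent.Lib.FusionCore2 Cfsg.Agent.Lib.FusionGT Cfsg.Agent.Lib.FusionFactor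
open Cfsg.Agent.Lib.FusionStrongClosed Cfsg.Agent.Lib.FusionQuotSat Cfsg.Agent.Lib.PCore
open Cfsg.Agent.Lib.FusionInvariant (Str Inv Frat isInvariantIn_iff str_of_inv_frat maps_sub StrongMem aut_maps strong_img_le BigE)
open Cfsg.Agent.Lib.AschCore
open Cfsg.Agent.Lib.FusionPPrimeMin (TC tc_of_centric)
open Cfsg.Agent.Lib.FusionCentralQuot
open Cfsg.Agent.Lib.FusionIndexPrime (ofMaps maps_ofMaps)

universe u

variable {Ω Ω' : Type u} [Group Ω] [Group Ω'] {S : Subgroup Ω} {F : FusionSystem S} {Z : Subgroup Ω}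
  {S' : Subgroup Ω'} {θ : S →* Ω'} {F' : FusionSystem S'} {T' : Subgroup Ω'} {E' : FusionSystem T'} {p : ℕ}

namespace PB

variable (h : PB F Z θ F' E' p) [Fact p.Prime] [Finite S]
include h

lemma conj_bigE {s : Ω} (hs : s ∈ S) {R : Subgroup Ω} (hRT : R ≤ preimageAlong θ T') : BigE F h.NN R (fun x => s * x * s⁻¹) := by
  have hTS := preimageAlong_le θ T'
  haveI : Finite (preimageAlong θ T') := finite_of_le hTS
  have hN : s ∈ Subgroup.normalizer ((preimageAlong θ T' : Subgroup Ω) : Set Ω) :=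
    mem_normalizer_of_conj_mem (fun x hx => sc_conj (T_sc h) hs hx)
  obtain ⟨c, hc, hcv⟩ := exists_conjAut (F := F) hTS hs hN
  exact ⟨c, hc, _root_.id, Maps.id hRT, fun x hx => (hcv x (hRT hx)).symm⟩

/-- The maps trivial modulo `Z` are in the product of `NN` and `Aut_F(T)`. -/
lemma KP_bigE {Q : Subgroup Ω} (hZQ : Z ≤ Q) (hQT : Q ≤ preimageAlong θ T') {k : Ω → Ω} (hk : Maps F Q k) (hb : ∀ x ∈ Q, qf θ (k x) = qf θ x) :
    BigE F h.NN Q k := by
  have hfac := h.hfac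
  have hTS := preimageAlong_le θ T'
  haveI : Finite (preimageAlong θ T') := finite_of_le hTS
  have hT := T_sc h
  have hinv : Inv F h.NN := fun hf a ha => NN_inv h hf a ha
  have hsub := NN.sub h
  have hQS := hQT.trans hTS
  obtain ⟨a₂, ha₂, n₂, hn₂, hfull⟩ := exists_full h hZQ hQT
  have ham := (mem_autGroup_iff hTS).1 ha₂
  obtain ⟨f₂, hf₂def⟩ : ∃ f₂ : Ω → Ω, f₂ = afn a₂ ∘ n₂ := ⟨_, rfl⟩
  have hf₂ : BigE F h.NN Q f₂ := ⟨a₂, ha₂, n₂, hn₂, fun x hx => by rw [hf₂def]; rfl⟩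
  have hf₂m : Maps F Q f₂ := hf₂.maps hsub hT
  have e₁ : img (afn a₂) (img n₂ Q) = img f₂ Q := by
    rw [hf₂def]
    exact (img_comp (NN.maps h hn₂) (ham.restrict (NN.mapsMM h hn₂).img_le)).symm
  rw [e₁] at hfull
  obtain ⟨fi, hfi, hfi1⟩ := BigE.inv hsub hT hinv hf₂
  have hfim := hfi.maps hsub hT
  obtain ⟨fb, hfb, hfbr⟩ := desc h hf₂m
  have hkQ : ∀ x ∈ Q, k x ∈ Q := fun x hx => mem_of_qf hfac hZQ hQS (hk.mem hx) (by
    rw [hb x hx]
    exact qf_mem_image hx hQS)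
  have hQ₂S := hf₂m.img_le
  have hZQ₂ : Z ≤ img f₂ Q := Z_le_img h hf₂m hZQ
  have hk₂ : Maps F (img f₂ Q) (f₂ ∘ k ∘ fi) := by
    refine hfim.comp (hk.comp hf₂m hkQ) (fun y hy => ?_)
    obtain ⟨x, hx, rfl⟩ := hf₂m.mem_img.1 hy
    rwa [hfi1 x hx]
  have hk₂v : ∀ x ∈ Q, (f₂ ∘ k ∘ fi) (f₂ x) = f₂ (k x) := fun x hx => by
    simp only [Function.comp]
    rw [hfi1 x hx]
  have hk₂q : ∀ y ∈ img f₂ Q, qf θ ((f₂ ∘ k ∘ fi) y) = qf θ y := by
    intro y hy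
    obtain ⟨x, hx, rfl⟩ := hf₂m.mem_img.1 hy
    rw [hk₂v x hx, hfbr _ (hkQ x hx), hfbr x hx, hb x hx]
  have hk₂Q : ∀ y ∈ img f₂ Q, (f₂ ∘ k ∘ fi) y ∈ img f₂ Q := fun y hy => mem_of_qf hfac hZQ₂ hQ₂S (hk₂.mem hy) (by
    rw [hk₂q y hy]
    exact qf_mem_image hy hQ₂S)
  have himg := img_eq_of_card hk₂ hQ₂S hQ₂S hk₂Q le_rfl
  have hK : hk₂.toAut himg ∈ KP F Z (img f₂ Q) := KP_of_bar h hQ₂S (hk₂.toAut_mem himg) (fun y hy => by rw [hk₂.afn_toAut himg hy, hk₂q y hy])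
  obtain ⟨hfc, hA⟩ := of_fullyNormalized h.hS h.hF hfull
  obtain ⟨s, hs, hsv⟩ := mem_autInducedBy.1 (KP_le_auto h.hS h.hZ hZQ₂ hQ₂S hA hK)
  have hsv' : ∀ y ∈ img f₂ Q, s * y * s⁻¹ = (f₂ ∘ k ∘ fi) y := fun y hy => by rw [← hsv y hy, hk₂.afn_toAut himg hy]
  have hQ₂T : img f₂ Q ≤ preimageAlong θ T' := strong_img_le hT hQT hf₂m
  have hc1 : BigE F h.NN (img f₂ Q) (fi ∘ fun x => s * x * s⁻¹) :=
    BigE.comp hT hinv (conj_bigE h hs hQ₂T) hfi (fun y hy => by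
      show s * y * s⁻¹ ∈ img f₂ Q
      rw [hsv' y hy]
      exact hk₂Q y hy)
  have hc2 := BigE.comp hT hinv hf₂ hc1 (fun x hx => hf₂m.mem_img_of_mem hx)
  refine hc2.congr (fun x hx => ?_)
  simp only [Function.comp]
  rw [hsv' _ (hf₂m.mem_img_of_mem hx), hk₂v x hx, hfi1 _ (hkQ x hx)]

/-- **The Frattini property of `NN`.** -/
theorem NN_frat : Frat F h.NN := by
  intro P f hPT hf
  have hfac := h.hfac
  have hTS := preimageAlong_le θ T'
  haveI : Finite (preimageAlong θ T') := finite_of_le hTS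
  have hT := T_sc h
  have hinv : Inv F h.NN := fun hf a ha => NN_inv h hf a ha
  have hZT : Z ≤ preimageAlong θ T' := Z_le_pre hfac T'
  obtain ⟨g, hg, hg1, -⟩ := (isCentral_iff.1 h.hZ).2 P f hf
  have hP₁T : P ⊔ Z ≤ preimageAlong θ T' := sup_le hPT hZT
  have hZP₁ : Z ≤ P ⊔ Z := le_sup_right
  obtain ⟨a, ha, m, hm, hgm⟩ := frat_MM h hP₁T hg
  obtain ⟨n, hn, hnr⟩ := lift_MM h hm hZP₁
  have hnF := NN.maps h hn
  have hmF := MM.maps h hm
  obtain ⟨ni, hni, hni1, hni2⟩ := hnF.inv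
  have hQT : img n (P ⊔ Z) ≤ preimageAlong θ T' := (NN.mapsMM h hn).img_le
  have hk : Maps F (img n (P ⊔ Z)) (m ∘ ni) := hni.comp hmF (fun y hy => (hni2 y hy).1)
  have hkq : ∀ y ∈ img n (P ⊔ Z), qf θ ((m ∘ ni) y) = qf θ y := by
    intro y hy
    obtain ⟨hy1, hy2⟩ := hni2 y hy
    simp only [Function.comp]
    rw [← hnr _ hy1, hy2]
  have hB := KP_bigE h (Z_le_img h hnF hZP₁) hQT hk hkq
  have hC := BigE.comp hT hinv (BigE.of_E hn) hB (fun x hx => hn.mem_img_of_mem hx)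
  have hD : BigE F h.NN (preimageAlong θ T') (afn a) := ⟨a, ha, _root_.id, Maps.id le_rfl, fun _ _ => rfl⟩
  have hE := BigE.comp hT hinv hC hD (fun x hx => by
    simp only [Function.comp]
    rw [hni1 x hx]
    exact hm.mem hx)
  exact (hE.restrict le_sup_left).congr (fun x hx => by
    simp only [Function.comp]
    rw [hni1 x (Subgroup.mem_sup_left hx), ← hgm x (Subgroup.mem_sup_left hx), hg1 x hx])

omit h in
lemma bar_pow {Q : Subgroup Ω} {Q' : Subgroup Ω'} (a : MulAut Q) (y : MulAut Q') (hrel : ∀ x ∈ Q, qf θ (afn a x) = afn y (qf θ x))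
    (hqQ : ∀ x ∈ Q, qf θ x ∈ Q') (n : ℕ) : ∀ x ∈ Q, qf θ (afn (a ^ n) x) = afn (y ^ n) (qf θ x) := by
  induction n with
  | zero =>
    intro x hx
    rw [pow_zero, pow_zero, afn_one hx, afn_one (hqQ x hx)]
  | succ n ih =>
    intro x hx
    rw [pow_succ, pow_succ, afn_mul _ _ hx, afn_mul _ _ (hqQ x hx), ih _ (afn_mem a hx), hrel x hx]

/-- The induced automorphism of `T'`, for maps in `MM`. -/
lemma barT_E {a : MulAut (preimageAlong θ T')} (ha : a ∈ h.MM.autGroup (preimageAlong θ T')) :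
    ∃ a' ∈ E'.autGroup T', ∀ x ∈ preimageAlong θ T', qf θ (afn a x) = afn a' (qf θ x) := by
  haveI := finS' h
  have hfac := h.hfac
  have hTS := preimageAlong_le θ T'
  haveI : Finite T' := finite_of_le (hT'S' h)
  haveI : Finite (preimageAlong θ T') := finite_of_le hTS
  have hm := (mem_autGroup_iff (le_refl (preimageAlong θ T'))).1 ha
  obtain ⟨f', hf', hrel⟩ := bar h hm
  rw [img_pre hfac (hT'S' h)] at hf'
  have hv : ∀ y ∈ T', f' y ∈ T' := fun y hy => hf'.mem hy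
  have himg := img_eq_of_card hf' le_rfl le_rfl hv le_rfl
  exact ⟨hf'.toAut himg, hf'.toAut_mem himg, fun x hx => by
    rw [hf'.afn_toAut himg (mem_pre.1 hx).2, hrel x hx]⟩

/-- **Extension property of `NN`.** -/
theorem NN_ext {α : MulAut (preimageAlong θ T')} (hα : α ∈ h.NN.autGroup (preimageAlong θ T')) :
    ∃ β : MulAut ↥(KK S (preimageAlong θ T')), Wk F (preimageAlong θ T') β ∧ Lifts β α := by
  haveI := finS' h
  have hfac := h.hfac
  have hTS := preimageAlong_le θ T'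
  haveI : Finite T' := finite_of_le (hT'S' h)
  haveI : Finite (preimageAlong θ T') := finite_of_le hTS
  have hT := T_sc h
  have hTn := Cfsg.Agent.Lib.AschCore.sc_fullyNormalized hT
  have hHT := HH_T h
  have hαX : α ∈ h.XX (preimageAlong θ T') := by
    rw [← aut_NN_eq h hTn hHT]
    exact hα
  let H : Subgroup (MulAut (preimageAlong θ T')) :=
    { carrier := {a | ∃ β : MulAut ↥(KK S (preimageAlong θ T')), Wk F (preimageAlong θ T') β ∧ Lifts β a}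
      mul_mem' := by
        rintro a b ⟨θ₁, h1, h2⟩ ⟨θ₂, h3, h4⟩
        exact ⟨θ₁ * θ₂, h1.mul hTS h3, h2.mul h4⟩
      one_mem' := ⟨1, Wk.one hTS, Lifts.one⟩
      inv_mem' := by
        rintro a ⟨θ₁, h1, h2⟩
        exact ⟨θ₁⁻¹, h1.inv hTS, h2.inv⟩ }
  have hcT : centralizerIn (preimageAlong θ T') (preimageAlong θ T') ≤ preimageAlong θ T' := fun c hc => (mem_centralizerIn.1 hc).1
  have h1 : ∀ a ∈ autInducedBy (preimageAlong θ T') (preimageAlong θ T'), a ∈ H := by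
    intro a ha
    obtain ⟨t, ht, htv⟩ := mem_autInducedBy.1 ha
    have htN : t ∈ Subgroup.normalizer ((preimageAlong θ T' : Subgroup Ω) : Set Ω) := mem_normalizer_of_afn htv
    obtain ⟨β, hβ, hβ1⟩ := exists_conj_pres (F := F) hTS (hTS ht) htN
    refine ⟨β, ⟨hβ, fun y hy => ?_⟩, fun x hx => ?_⟩
    · rw [hβ1 y (Y_le_KK hy)]
      exact conj_hY hT hTS hcT ht htN hy
    · rw [hβ1 x (Q_le_KK hx), htv x hx]
  have h2 : ∀ a ∈ h.MM.autGroup (preimageAlong θ T'), (orderOf a).Coprime p → a ∈ H := by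
    intro a ha hcop
    obtain ⟨a', ha', ha'v⟩ := barT_E h ha
    have hqT : ∀ x ∈ preimageAlong θ T', qf θ x ∈ T' := fun x hx => (mem_pre.1 hx).2
    have hsurj : ∀ y ∈ T', ∃ s ∈ preimageAlong θ T', qf θ s = y := fun y hy => by
      obtain ⟨s, hs, rfl⟩ := exists_qf hfac (hT'S' h hy)
      exact ⟨s, mem_pre.2 ⟨hs, hy⟩, rfl⟩
    have hcop' : (orderOf a').Coprime p := by
      refine Nat.Coprime.coprime_dvd_left (orderOf_dvd_of_pow_eq_one ?_) hcop
      apply afn_ext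
      intro y hy
      obtain ⟨s, hs, rfl⟩ := hsurj y hy
      rw [← bar_pow a a' ha'v hqT _ s hs, pow_orderOf_eq_one, afn_one hs, afn_one (hqT s hs)]
    have hTC : TC F' T' T' := ⟨le_rfl, fun Q' hQ' => by
      rw [Cfsg.Agent.Lib.AschCore.sc_conj_eq (sc' h) hQ']
      exact fun c hc => (mem_centralizerIn.1 hc).1⟩
    obtain ⟨θ₁, hθ₁, hl⟩ := exists_hat (isP' h) (sat' h) h.hE hTC ha'
    have hKm : Maps F' (KK S' T') (afn θ₁) := hθ₁.toPres.maps (hT'S' h)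
    obtain ⟨b, hb, hbrel⟩ := maps_lift hfac hKm
    have hC : KK S (preimageAlong θ T') ≤ preimageAlong θ (KK S' T') := by
      refine sup_le (fun x hx => mem_pre.2 ⟨hTS hx, Q_le_KK (hqT x hx)⟩) (fun y hy => ?_)
      obtain ⟨hyS, hyc⟩ := mem_centralizerIn.1 hy
      refine mem_pre.2 ⟨hyS, Y_le_KK (mem_centralizerIn.2 ⟨qf_mem hfac hyS, fun z hz => ?_⟩)⟩
      obtain ⟨s, hs, rfl⟩ := hsurj z hz
      rw [← qf_mul θ (hTS hs) hyS, ← qf_mul θ hyS (hTS hs), hyc s hs]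
    have hbm : Maps F (KK S (preimageAlong θ T')) b := hb.restrict hC
    have hbT : ∀ x ∈ preimageAlong θ T', b x ∈ preimageAlong θ T' := fun x hx => mem_pre.2 ⟨hbm.mem (Q_le_KK hx), by
      rw [hbrel x (hC (Q_le_KK hx)), hl _ (hqT x hx)]
      exact afn_mem a' (hqT x hx)⟩
    have hbY : ∀ y ∈ centralizerIn S (preimageAlong θ T'), y⁻¹ * b y ∈ preimageAlong θ T' := fun y hy => by
      have hyK := Y_le_KK hy
      have hyS := (mem_centralizerIn.1 hy).1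
      refine mem_pre.2 ⟨S.mul_mem (S.inv_mem hyS) (hbm.mem hyK), ?_⟩
      rw [qf_mul θ (S.inv_mem hyS) (hbm.mem hyK), qf_inv θ hyS, hbrel y (hC hyK)]
      refine hθ₁.hY _ (mem_centralizerIn.2 ⟨qf_mem hfac hyS, fun z hz => ?_⟩)
      obtain ⟨s, hs, rfl⟩ := hsurj z hz
      rw [← qf_mul θ (hTS hs) hyS, ← qf_mul θ hyS (hTS hs), (mem_centralizerIn.1 hy).2 s hs]
    have hbK : ∀ x ∈ KK S (preimageAlong θ T'), b x ∈ KK S (preimageAlong θ T') := hbm.sup_mem (fun x hx => Q_le_KK (hbT x hx)) (fun y hy => by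
      have e : b y = y * (y⁻¹ * b y) := by group
      rw [e]
      exact Subgroup.mul_mem _ (Y_le_KK hy) (Q_le_KK (hbY y hy)))
    have hKS := KK_le hTS
    have himgK := img_eq_of_card hbm hKS hKS hbK le_rfl
    obtain ⟨β₀, hβ₀, hβ₀v⟩ : ∃ β₀ : MulAut ↥(KK S (preimageAlong θ T')), β₀ ∈ F.autGroup (KK S (preimageAlong θ T')) ∧ ∀ x ∈ KK S (preimageAlong θ T'), afn β₀ x = b x :=
      ⟨hbm.toAut himgK, hbm.toAut_mem himgK, fun x hx => hbm.afn_toAut himgK hx⟩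
    have hWk : Wk F (preimageAlong θ T') β₀ := ⟨⟨hβ₀, fun x hx => by
      rw [hβ₀v x (Q_le_KK hx)]
      exact hbT x hx⟩, fun y hy => by
      rw [hβ₀v y (Y_le_KK hy)]
      exact hbY y hy⟩
    have hbTm : Maps F (preimageAlong θ T') b := hbm.restrict le_sup_left
    have himgT := img_eq_of_card hbTm hTS hTS hbT le_rfl
    obtain ⟨a₁, ha₁, ha₁v⟩ : ∃ a₁ : MulAut (preimageAlong θ T'), a₁ ∈ F.autGroup (preimageAlong θ T') ∧ ∀ x ∈ preimageAlong θ T', afn a₁ x = b x :=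
      ⟨hbTm.toAut himgT, hbTm.toAut_mem himgT, fun x hx => hbTm.afn_toAut himgT hx⟩
    have hLift : Lifts β₀ a₁ := fun x hx => by rw [hβ₀v x (Q_le_KK hx), ha₁v x hx]
    have hrel₁ : ∀ x ∈ preimageAlong θ T', qf θ (afn a₁ x) = afn a' (qf θ x) := fun x hx => by
      rw [ha₁v x hx, hbrel x (hC (Q_le_KK hx)), hl _ (hqT x hx)]
    have ham' := (mem_autGroup_iff (hT'S' h)).1 ((maps_sub (sub' h) ((mem_autGroup_iff le_rfl).1 ha')) |> (mem_autGroup_iff (hT'S' h)).2)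
    have ha₁M : a₁ ∈ h.MM.autGroup (preimageAlong θ T') := by
      refine (mem_autGroup_iff le_rfl).2 ((maps_MM h).2 ⟨(mem_autGroup_iff hTS).1 ha₁, le_rfl, afn a', ?_, hrel₁⟩)
      rw [img_pre hfac (hT'S' h)]
      exact (mem_autGroup_iff le_rfl).1 ha'
    obtain ⟨j, hj1, hj2⟩ := exists_cop_part h hTS a₁ a' hrel₁ hqT hcop'
    have hX₁ : a₁ ^ j ∈ h.XX (preimageAlong θ T') := mem_XX_cop h (Subgroup.pow_mem _ ha₁M j) hj1
    have hX₂ : a ∈ h.XX (preimageAlong θ T') := mem_XX_cop h ha hcop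
    have hk₂ : a₁ ^ j * a⁻¹ ∈ KP F Z (preimageAlong θ T') := by
      refine KP_of_bar h hTS (Subgroup.mul_mem _ (Subgroup.pow_mem _ ha₁ j) ?_) (fun x hx => ?_)
      · exact Subgroup.inv_mem _ ((mem_autGroup_iff hTS).2 (MM.maps h ((mem_autGroup_iff le_rfl).1 ha)))
      · have hx₁ := afn_mem a⁻¹ hx
        rw [afn_mul _ _ hx, hj2 _ hx₁, ← ha'v _ hx₁, afn_afn_inv a hx]
    have hk₂R := (XX_struct h (Z_le_pre hfac T') le_rfl (by rw [img_pre hfac (hT'S' h)]; exact hTC) hTn).1 _ hk₂ (Subgroup.mul_mem _ hX₁ (Subgroup.inv_mem _ hX₂))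
    have hpow : a₁ ^ j ∈ H := ⟨β₀ ^ j, hWk.pow hTS j, hLift.pow j⟩
    have hm := H.mul_mem (H.inv_mem (h1 _ hk₂R)) hpow
    have e : (a₁ ^ j * a⁻¹)⁻¹ * a₁ ^ j = a := by group
    rwa [e] at hm
  have hX : h.XX (preimageAlong θ T') ≤ H := XX_le h h1 h2
  exact hX hαX

/-- **Theorem E**: the pull-back of a normal subsystem along a central quotient. -/
theorem exists_pullback : ∃ N : FusionSystem (preimageAlong θ T'), N.IsNormalIn F p ∧
    (∀ {P : Subgroup Ω} {f : Ω → Ω}, Maps N P f → ∃ f', Maps E' (imageAlong θ P) f' ∧ ∀ x ∈ P, qf θ (f x) = f' (qf θ x)) ∧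
    (∀ {P' : Subgroup Ω'} {f' : Ω' → Ω'}, Maps E' P' f' → ∃ n, Maps N (preimageAlong θ P') n ∧ ∀ x ∈ preimageAlong θ P', qf θ (n x) = f' (qf θ x)) := by
  haveI : Finite (preimageAlong θ T') := finite_of_le (preimageAlong_le θ T')
  have hTS := preimageAlong_le θ T'
  refine ⟨h.NN, ⟨⟨NN_sat h, h.hF, isInvariantIn_iff.2 ⟨NN.sub h, T_sc h, fun hf a ha => NN_inv h hf a ha, fun hP hf => NN_frat h hP hf⟩⟩, ?_⟩,
    fun hf => bar h (NN.mapsMM h hf), fun hf' => lift_NN h hf'⟩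
  intro α hα
  obtain ⟨β, hβ, hl⟩ := NN_ext h hα
  refine ⟨β, hβ.mem, fun x => ?_, fun c hc => ?_⟩
  · have := hl x x.2
    rw [afn_of_mem β (Q_le_KK x.2), afn_of_mem α x.2] at this
    exact this
  · have h1 := hβ.hY _ hc
    have h2 := hβ.z_mem_Y hTS hc
    rw [afn_coe] at h1 h2
    refine ⟨h1, Subgroup.mem_centralizer_iff.2 (fun y hy => ?_)⟩
    exact (mem_centralizerIn.1 h2).2 y hy

end PB

end Cfsg.Agent.Lib.FusionCompA
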