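/-
FusionSplit: the hyperfocal subgroup of a saturated fusion system and the derived subgroup:
`hyp(F) ∩ [S, S] ≤ [hyp(F), S]`.  The proof passes through the fibre product of `S` with a quotient of `S` over `S / hyp(F)`.
-/
import Mathlib
import Cfsg.Agent.Lib.FusionOPower
import Cfsg.Agent.Lib.FusionProdSat
import Cfsg.Agent.Lib.FusionNormalCrit
import Cfsg.Agent.S5136

set_option autoImplicit false

namespace Cfsg.Agent.Lib.FusionSplit

open Cfsg Cfsg.FusionSystem Cfsg.Agent.Lib.FusionCore Cfsg.Agent.Lib.StableSet Cfsg.Agent.Lib.FusionBiset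
open Cfsg.Agent.Lib.FusionTransfer Cfsg.Agent.Lib.FusionYoshida Cfsg.Agent.Lib.FusionOPower
open Cfsg.Agent.Lib.FusionProdSat MulAction
open scoped commutatorElement

universe u

section Prod

variable {Ω₁ Ω₂ : Type*} [Group Ω₁] [Group Ω₂] {S₁ : Subgroup Ω₁} {S₂ : Subgroup Ω₂}
  {F₁ : FusionSystem S₁} {F₂ : FusionSystem S₂} {E : FusionSystem (S₁.prod S₂)}

lemma maps_prod_mk (hE : IsProductSystem F₁ F₂ E) {R : Subgroup (Ω₁ × Ω₂)} (hR : R ≤ S₁.prod S₂) {f₁ : Ω₁ → Ω₁}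
    {f₂ : Ω₂ → Ω₂} (h₁ : Maps F₁ (fstS R) f₁) (h₂ : Maps F₂ (sndS R) f₂) :
    Maps E R (fun z => (f₁ z.1, f₂ z.2)) := by
  refine ⟨_, hom_mem_of_le hE hR h₁.hom_mem h₂.hom_mem fst_mem snd_mem, fun x => ?_⟩
  rw [prodMapHom_apply, h₁.hom_apply, h₂.hom_apply]

lemma maps_prod_spec (hE : IsProductSystem F₁ F₂ E) {R : Subgroup (Ω₁ × Ω₂)} {f : Ω₁ × Ω₂ → Ω₁ × Ω₂} (h : Maps E R f) :
    ∃ f₁ f₂, Maps F₁ (fstS R) f₁ ∧ Maps F₂ (sndS R) f₂ ∧ ∀ z ∈ R, f z = (f₁ z.1, f₂ z.2) := by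
  obtain ⟨φ, hφ, hf⟩ := h
  obtain ⟨-, φ₁, hφ₁, φ₂, hφ₂, h⟩ := (hE R φ).1 hφ
  refine ⟨fn φ₁, fn φ₂, Maps.of_mem hφ₁, Maps.of_mem hφ₂, fun z hz => ?_⟩
  rw [← hf ⟨z, hz⟩, h ⟨z, hz⟩ (fst_mem _) (snd_mem _), fn_of_mem φ₁ (fst_mem ⟨z, hz⟩), fn_of_mem φ₂ (snd_mem ⟨z, hz⟩)]

end Prod

lemma maps_inner {Ω : Type*} [Group Ω] {Q R : Subgroup Ω} {f : Ω → Ω} (h : Maps (innerFusionSystem Q) R f) :
    ∃ y ∈ Q, ∀ b ∈ R, f b = y * b * y⁻¹ := by
  obtain ⟨φ, ⟨-, g, hg, h1⟩, hf⟩ := h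
  exact ⟨g, hg, fun b hb => by rw [← hf ⟨b, hb⟩, h1]⟩

/-- The centre of a group is a commutative group. -/
@[instance_reducible] def centerComm (G : Type*) [Group G] : CommGroup ↥(Subgroup.center G) :=
  { (Subgroup.center G).toGroup with
    mul_comm := fun a b => Subtype.ext ((Subgroup.mem_center_iff.1 a.2 b.1).symm) }

attribute [local instance] centerComm

section Hat

variable {Ω : Type u} [Group Ω] {S : Subgroup Ω} {P₁ : Type u} [Group P₁]

/-- The fibre product of `S` and a group over a central quotient. -/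
def hatS (q : ↥S →* P₁) (C : Subgroup P₁) (hC : C ≤ Subgroup.center P₁) : Subgroup (Ω × P₁) where
  carrier := {z | ∃ (x : ↥S), ∃ c ∈ C, z = ((x : Ω), q x * c)}
  mul_mem' := by
    rintro _ _ ⟨x, c, hc, rfl⟩ ⟨x', c', hc', rfl⟩
    refine ⟨x * x', c * c', C.mul_mem hc hc', Prod.ext rfl ?_⟩
    show q x * c * (q x' * c') = q (x * x') * (c * c')
    have h1 : c * q x' = q x' * c := (Subgroup.mem_center_iff.1 (hC hc) _).symm
    rw [map_mul, mul_assoc, ← mul_assoc c, h1]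
    simp only [mul_assoc]
  one_mem' := ⟨1, 1, C.one_mem, Prod.ext rfl (by simp)⟩
  inv_mem' := by
    rintro _ ⟨x, c, hc, rfl⟩
    refine ⟨x⁻¹, c⁻¹, C.inv_mem hc, Prod.ext rfl ?_⟩
    show (q x * c)⁻¹ = q x⁻¹ * c⁻¹
    have h1 : c⁻¹ * (q x)⁻¹ = (q x)⁻¹ * c⁻¹ := (Subgroup.mem_center_iff.1 (hC (C.inv_mem hc)) _).symm
    rw [mul_inv_rev, map_inv, h1]

variable {q : ↥S →* P₁} {C : Subgroup P₁} {hC : C ≤ Subgroup.center P₁}

lemma mem_hatS {z : Ω × P₁} : z ∈ hatS q C hC ↔ ∃ h : z.1 ∈ S, (q ⟨z.1, h⟩)⁻¹ * z.2 ∈ C := by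
  constructor
  · rintro ⟨x, c, hc, rfl⟩
    refine ⟨x.2, ?_⟩
    have : (⟨(x : Ω), x.2⟩ : ↥S) = x := rfl
    simpa [this] using hc
  · rintro ⟨h, hc⟩
    exact ⟨⟨z.1, h⟩, _, hc, Prod.ext rfl (by simp)⟩

lemma hatS_le : hatS q C hC ≤ S.prod ⊤ := fun _ hz => ⟨(mem_hatS.1 hz).1, Subgroup.mem_top _⟩

/-- The projection of the fibre product to the centre. -/
def piS (q : ↥S →* P₁) (C : Subgroup P₁) (hC : C ≤ Subgroup.center P₁) : ↥(hatS q C hC) →* ↥(Subgroup.center P₁) :=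
  MonoidHom.mk' (fun z => ⟨(q ⟨z.1.1, (mem_hatS.1 z.2).1⟩)⁻¹ * z.1.2, hC (mem_hatS.1 z.2).2⟩) (by
    rintro ⟨_, x, c, hc, rfl⟩ ⟨_, x', c', hc', rfl⟩
    apply Subtype.ext
    show (q (x * x'))⁻¹ * (q x * c * (q x' * c')) = ((q x)⁻¹ * (q x * c)) * ((q x')⁻¹ * (q x' * c'))
    have h1 : c * q x' = q x' * c := (Subgroup.mem_center_iff.1 (hC hc) _).symm
    have h2 : c * c' = c * c' := rfl
    rw [map_mul, mul_assoc (q x), ← mul_assoc c, h1]
    group)

lemma piS_apply (z : ↥(hatS q C hC)) : ((piS q C hC z : ↥(Subgroup.center P₁)) : P₁) =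
    (q ⟨z.1.1, (mem_hatS.1 z.2).1⟩)⁻¹ * z.1.2 := rfl

/-- The diagonal embedding. -/
def deltaS (q : ↥S →* P₁) (C : Subgroup P₁) (hC : C ≤ Subgroup.center P₁) : ↥S →* ↥(hatS q C hC) :=
  MonoidHom.mk' (fun x => ⟨((x : Ω), q x), x, 1, C.one_mem, by simp⟩) (by
    intro x y
    apply Subtype.ext
    exact Prod.ext rfl (map_mul q x y))

lemma deltaS_apply (x : ↥S) : ((deltaS q C hC x : ↥(hatS q C hC)) : Ω × P₁) = ((x : Ω), q x) := rfl

end Hat

section Main

variable {Ω : Type u} [Group Ω] {S : Subgroup Ω} {F : FusionSystem S} {P₁ : Type u} [Group P₁]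
variable {p : ℕ} [hp : Fact p.Prime]

/-- The hyperfocal subgroup of a product with an inner system. -/
theorem hyp_prod_le [Finite S] [Finite P₁] (hP₁ : IsPGroup p P₁) {F₁ : FusionSystem (S.prod (⊤ : Subgroup P₁))}
    (hE : IsProductSystem F (innerFusionSystem (⊤ : Subgroup P₁)) F₁) :
    F₁.hyperfocalSubgroup p ≤ (F.hyperfocalSubgroup p).prod ⊥ := by
  unfold hyperfocalSubgroup
  rw [Subgroup.closure_le]
  rintro _ ⟨R, α, z, hR, hα, rfl⟩
  have hfin : Finite ↥(S.prod (⊤ : Subgroup P₁)) := Finite.of_equiv _ (Subgroup.prodEquiv S ⊤).symm.toEquiv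
  -- the reduction to elements of order prime to `p`
  have main : ∀ β ∈ pResidual p (F₁.autGroup R), ∀ z : ↥R, (z : Ω × P₁)⁻¹ * (((β : MulAut R) z : ↥R) : Ω × P₁) ∈
      (F.hyperfocalSubgroup p).prod (⊥ : Subgroup P₁) := by
    intro β hβ
    induction hβ using Subgroup.closure_induction with
    | mem β hco =>
      intro z
      have hco' : Nat.Coprime (orderOf β) p := hco
      obtain ⟨α, hαm⟩ := β
      have hm : Nat.Coprime (orderOf α) p := by
        have e : orderOf (⟨α, hαm⟩ : F₁.autGroup R) = orderOf α := Subgroup.orderOf_mk α hαm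
        rwa [e] at hco'
      show (z : Ω × P₁)⁻¹ * ((α z : ↥R) : Ω × P₁) ∈ _
      have hf : Maps F₁ R (afn α) := (mem_autGroup_iff hR).1 hαm
      obtain ⟨f₁, f₂, hf₁, hf₂, hff⟩ := maps_prod_spec hE hf
      obtain ⟨y, -, hy⟩ := maps_inner hf₂
      have hR₁S : fstS R ≤ S := by
        rintro _ ⟨w, hw, rfl⟩
        exact (hR hw).1
      have hinto : ∀ x ∈ fstS R, f₁ x ∈ fstS R := by
        rintro _ ⟨w, hw, rfl⟩
        have h1 := hff w hw
        refine ⟨afn α w, afn_mem α hw, ?_⟩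
        rw [h1]
        rfl
      have himg : img f₁ (fstS R) = fstS R := img_eq_of_card hf₁ hR₁S hR₁S hinto le_rfl
      have hfstm : ∀ w ∈ R, w.1 ∈ fstS R := fun w hw => ⟨w, hw, rfl⟩
      have hsndm : ∀ w ∈ R, w.2 ∈ sndS R := fun w hw => ⟨w, hw, rfl⟩
      have hα₁ := hf₁.toAut_mem himg
      have hrel : ∀ w ∈ R, afn (hf₁.toAut himg) w.1 = (afn α w).1 := by
        intro w hw
        rw [hf₁.afn_toAut himg (hfstm w hw), hff w hw]
      have hpow : ∀ (k : ℕ), ∀ w ∈ R, afn ((hf₁.toAut himg) ^ k) w.1 = (afn (α ^ k) w).1 := by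
        intro k
        induction k with
        | zero =>
          intro w hw
          rw [pow_zero, pow_zero, afn_one (hfstm w hw), afn_one hw]
        | succ k ih =>
          intro w hw
          rw [pow_succ, pow_succ, afn_mul _ _ (hfstm w hw), afn_mul _ _ hw, hrel w hw, ih _ (afn_mem α hw)]
      have h1 : (hf₁.toAut himg) ^ orderOf α = 1 := by
        apply afn_ext
        rintro _ ⟨w, hw, rfl⟩
        show afn _ w.1 = afn 1 w.1
        rw [hpow _ w hw, pow_orderOf_eq_one, afn_one hw, afn_one (hfstm w hw)]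
      have hco₁ : Nat.Coprime (orderOf (hf₁.toAut himg)) p :=
        Nat.Coprime.coprime_dvd_left (orderOf_dvd_of_pow_eq_one h1) hm
      have hres₁ : (⟨hf₁.toAut himg, hα₁⟩ : F.autGroup (fstS R)) ∈ pResidual p (F.autGroup (fstS R)) := by
        refine Subgroup.subset_closure ?_
        show Nat.Coprime _ _
        rwa [Subgroup.orderOf_mk]
      have hgen := Cfsg.Agent.Lib.FusionHyperfocal.gen_mem_hyperfocal hR₁S hres₁ ⟨(z : Ω × P₁).1, fst_mem z⟩
      have e1 : (((hf₁.toAut himg) ⟨(z : Ω × P₁).1, fst_mem z⟩ : ↥(fstS R)) : Ω) = (afn α z).1 := by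
        rw [← afn_of_mem, hrel z z.2]
      -- the second coordinate
      obtain ⟨o, ho⟩ := IsPGroup.iff_orderOf.1 hP₁ y
      have hcop : Nat.Coprime (orderOf α) (orderOf y) := by
        rw [ho]
        exact Nat.Coprime.pow_right o hm
      obtain ⟨k, hk1, hk2⟩ := Nat.chineseRemainder hcop 0 1
      have hpow₂ : ∀ (k : ℕ), ∀ w ∈ R, (afn (α ^ k) w).2 = y ^ k * w.2 * (y ^ k)⁻¹ := by
        intro k
        induction k with
        | zero =>
          intro w hw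
          rw [pow_zero, pow_zero, afn_one hw]
          simp
        | succ k ih =>
          intro w hw
          rw [pow_succ, pow_succ, afn_mul _ _ hw, ih _ (afn_mem α hw), hff w hw]
          show y ^ k * f₂ w.2 * _ = _
          rw [hy _ (hsndm w hw)]
          group
      have h2 : α ^ k = 1 := by
        obtain ⟨c, rfl⟩ := Nat.modEq_zero_iff_dvd.1 hk1
        rw [pow_mul, pow_orderOf_eq_one, one_pow]
      have h3 : y ^ k = y := by
        have := pow_eq_pow_iff_modEq.2 hk2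
        rwa [pow_one] at this
      have h4 : y * (z : Ω × P₁).2 * y⁻¹ = (z : Ω × P₁).2 := by
        have := hpow₂ k z z.2
        rw [h2, afn_one z.2, h3] at this
        exact this.symm
      have e2 : (afn α z).2 = (z : Ω × P₁).2 := by
        rw [hff z z.2]
        show f₂ _ = _
        rw [hy _ (snd_mem z), h4]
      rw [← afn_coe]
      refine ⟨?_, ?_⟩
      · show (z : Ω × P₁).1⁻¹ * (afn α z).1 ∈ _
        rw [← e1]
        exact hgen
      · show (z : Ω × P₁).2⁻¹ * (afn α z).2 ∈ _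
        rw [e2, inv_mul_cancel]
        exact Subgroup.one_mem _
    | one =>
      intro z
      simp [Subgroup.one_mem]
    | mul a b _ _ ha hb =>
      intro z
      have e : (z : Ω × P₁)⁻¹ * (((a * b : F₁.autGroup R) : MulAut R) z : ↥R) =
          ((z : Ω × P₁)⁻¹ * (((b : MulAut R) z : ↥R) : Ω × P₁)) *
          ((((b : MulAut R) z : ↥R) : Ω × P₁)⁻¹ * (((a : MulAut R) ((b : MulAut R) z) : ↥R) : Ω × P₁)) := by
        show _ = _
        simp only [Subgroup.coe_mul, MulAut.mul_apply]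
        group
      rw [e]
      exact Subgroup.mul_mem _ (hb z) (ha _)
    | inv a _ ha =>
      intro z
      have := ha (((a : MulAut R)⁻¹) z)
      have e : (z : Ω × P₁)⁻¹ * (((a⁻¹ : F₁.autGroup R) : MulAut R) z : ↥R) =
          ((((((a : MulAut R)⁻¹) z) : ↥R) : Ω × P₁)⁻¹ * (((a : MulAut R) (((a : MulAut R)⁻¹) z) : ↥R) : Ω × P₁))⁻¹ := by
        simp
      rw [e]
      exact Subgroup.inv_mem _ this
  exact main α hα z

/-- The map `α × id` on the part of the fibre product above `P`. -/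
theorem lift_frel [Finite S] [Finite P₁] {q : ↥S →* P₁} {C : Subgroup P₁} {hC : C ≤ Subgroup.center P₁}
    (hqT : ∀ t : ↥S, (t : Ω) ∈ F.hyperfocalSubgroup p → q t ∈ C)
    {F₁ : FusionSystem (S.prod (⊤ : Subgroup P₁))} (hE : IsProductSystem F (innerFusionSystem (⊤ : Subgroup P₁)) F₁)
    {Fh : FusionSystem (hatS q C hC)}
    (hres : ∀ R, R ≤ hatS q C hC → (pResidual p (F₁.autGroup R)).map (F₁.autGroup R).subtype ≤ Fh.autGroup R)
    {P : Subgroup Ω} (hP : P ≤ S) {α : MulAut P} (hα : α ∈ F.autGroup P) (hco : Nat.Coprime (orderOf α) p)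
    {x : Ω} (hx : x ∈ P) (h₁ : (x, q ⟨x, hP hx⟩) ∈ hatS q C hC) (h₂ : (afn α x, q ⟨x, hP hx⟩) ∈ hatS q C hC) :
    FRel Fh ⟨(x, q ⟨x, hP hx⟩), h₁⟩ ⟨(afn α x, q ⟨x, hP hx⟩), h₂⟩ := by
  have hfin : Finite ↥(S.prod (⊤ : Subgroup P₁)) := Finite.of_equiv _ (Subgroup.prodEquiv S ⊤).symm.toEquiv
  have hPle : hatS q C hC ⊓ P.prod ⊤ ≤ S.prod ⊤ := inf_le_left.trans hatS_le
  have hαm : Maps F P (afn α) := (mem_autGroup_iff hP).1 hα
  have hfst : fstS (hatS q C hC ⊓ P.prod ⊤) ≤ P := by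
    rintro _ ⟨w, hw, rfl⟩
    exact hw.2.1
  have h1 := hαm.restrict hfst
  have h2 : Maps (innerFusionSystem (⊤ : Subgroup P₁)) (sndS (hatS q C hC ⊓ P.prod ⊤)) _root_.id := Maps.id le_top
  have hm := maps_prod_mk hE hPle h1 h2
  have hres' : (⟨α, hα⟩ : F.autGroup P) ∈ pResidual p (F.autGroup P) := by
    refine Subgroup.subset_closure ?_
    show Nat.Coprime _ _
    rwa [Subgroup.orderOf_mk]
  have hgen : ∀ y (hy : y ∈ P), (q ⟨y, hP hy⟩)⁻¹ * q ⟨afn α y, hP (afn_mem α hy)⟩ ∈ C := by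
    intro y hy
    have h3 := Cfsg.Agent.Lib.FusionHyperfocal.gen_mem_hyperfocal hP hres' ⟨y, hy⟩
    have h4 := hqT ⟨_, Cfsg.Agent.Lib.FusionHyperfocal.hyperfocal_le F p h3⟩ h3
    have e : (⟨_, Cfsg.Agent.Lib.FusionHyperfocal.hyperfocal_le F p h3⟩ : ↥S) = (⟨y, hP hy⟩ : ↥S)⁻¹ * ⟨afn α y, hP (afn_mem α hy)⟩ := by
      apply Subtype.ext
      show y⁻¹ * _ = y⁻¹ * afn α y
      rw [afn_of_mem α hy]
    rw [e, map_mul, map_inv] at h4
    exact h4
  have hinto : ∀ z ∈ hatS q C hC ⊓ P.prod ⊤, ((afn α z.1, _root_.id z.2) : Ω × P₁) ∈ hatS q C hC ⊓ P.prod ⊤ := by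
    rintro z ⟨hz1, hz2⟩
    refine ⟨?_, afn_mem α hz2.1, Subgroup.mem_top _⟩
    obtain ⟨h3, h4⟩ := mem_hatS.1 hz1
    refine mem_hatS.2 ⟨hP (afn_mem α hz2.1), ?_⟩
    have h5 := C.inv_mem (hgen _ hz2.1)
    have h6 := C.mul_mem h5 h4
    have e : ((q ⟨z.1, hP hz2.1⟩)⁻¹ * q ⟨afn α z.1, hP (afn_mem α hz2.1)⟩)⁻¹ * ((q ⟨z.1, h3⟩)⁻¹ * z.2) =
        (q ⟨afn α z.1, hP (afn_mem α hz2.1)⟩)⁻¹ * z.2 := by
      group
    rw [e] at h6
    exact h6
  have himg := img_eq_of_card hm hPle hPle hinto le_rfl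
  have hαh := hm.toAut_mem himg
  have hrel : ∀ w ∈ hatS q C hC ⊓ P.prod ⊤, afn (hm.toAut himg) w = (afn α w.1, w.2) := fun w hw =>
    hm.afn_toAut himg hw
  have hpow : ∀ (k : ℕ), ∀ w ∈ hatS q C hC ⊓ P.prod ⊤, afn ((hm.toAut himg) ^ k) w = (afn (α ^ k) w.1, w.2) := by
    intro k
    induction k with
    | zero =>
      intro w hw
      rw [pow_zero, pow_zero, afn_one hw, afn_one hw.2.1]
    | succ k ih =>
      intro w hw
      rw [pow_succ, pow_succ, afn_mul _ _ hw, afn_mul _ _ hw.2.1, hrel w hw]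
      exact ih (afn α w.1, w.2) (hinto w hw)
  have h3 : (hm.toAut himg) ^ orderOf α = 1 := by
    apply afn_ext
    intro w hw
    rw [hpow _ w hw, pow_orderOf_eq_one, afn_one hw, afn_one hw.2.1]
  have hco₁ : Nat.Coprime (orderOf (hm.toAut himg)) p :=
    Nat.Coprime.coprime_dvd_left (orderOf_dvd_of_pow_eq_one h3) hco
  have hmem : hm.toAut himg ∈ Fh.autGroup (hatS q C hC ⊓ P.prod ⊤) :=
    hres _ inf_le_left ⟨⟨hm.toAut himg, hαh⟩, Subgroup.subset_closure (by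
      show Nat.Coprime _ _
      rwa [Subgroup.orderOf_mk]), rfl⟩
  have hMh := (mem_autGroup_iff inf_le_left).1 hmem
  refine ⟨_, _, hMh, ⟨h₁, hx, Subgroup.mem_top _⟩, ?_⟩
  show ((afn α x, q ⟨x, hP hx⟩) : Ω × P₁) = _
  rw [hrel _ ⟨h₁, hx, Subgroup.mem_top _⟩]

/-- **The retraction.** -/
theorem exists_lam [Finite S] [Finite P₁] (hS : IsPGroup p S) (hF : F.IsSaturated p) (hP₁ : IsPGroup p P₁)
    (q : ↥S →* P₁) (C : Subgroup P₁) (hC : C ≤ Subgroup.center P₁)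
    (hqT : ∀ t : ↥S, (t : Ω) ∈ F.hyperfocalSubgroup p → q t ∈ C) :
    ∃ (n : ℕ) (lam : ↥S →* ↥(Subgroup.center P₁)), ¬ p ∣ n ∧ ∀ t : ↥S, (t : Ω) ∈ F.hyperfocalSubgroup p →
      ((lam t : ↥(Subgroup.center P₁)) : P₁) = (q t) ^ n := by
  have hfin : Finite ↥(S.prod (⊤ : Subgroup P₁)) := Finite.of_equiv _ (Subgroup.prodEquiv S ⊤).symm.toEquiv
  have hP₂ : IsPGroup p ↥(⊤ : Subgroup P₁) := hP₁.to_subgroup ⊤
  have hpS : IsPGroup p ↥(S.prod (⊤ : Subgroup P₁)) := by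
    rintro ⟨⟨a, b⟩, ha, hb⟩
    obtain ⟨i, hi⟩ := hS ⟨a, ha⟩
    obtain ⟨j, hj⟩ := hP₁ b
    refine ⟨i + j, Subtype.ext (Prod.ext ?_ ?_)⟩
    · have hi' : a ^ p ^ i = 1 := congrArg Subtype.val hi
      show a ^ p ^ (i + j) = 1
      rw [pow_add, pow_mul, hi', one_pow]
    · show b ^ p ^ (i + j) = 1
      rw [pow_add, mul_comm, pow_mul, hj, one_pow]
  obtain ⟨F₁, hE⟩ := Cfsg.Agent.S5136.result p hS hP₂ F (innerFusionSystem (⊤ : Subgroup P₁))
  have hF₁ := isSaturated_prod hS hP₂ hF (Cfsg.Agent.Lib.FusionNormalCrit.inner_isSaturated hP₂) hE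
  have hhyp : F₁.hyperfocalSubgroup p ≤ hatS q C hC := by
    refine (hyp_prod_le hP₁ hE).trans (fun z hz => ?_)
    have h1 : z.1 ∈ S := Cfsg.Agent.Lib.FusionHyperfocal.hyperfocal_le F p hz.1
    have h2 : z.2 = 1 := hz.2
    refine mem_hatS.2 ⟨h1, ?_⟩
    rw [h2, mul_one]
    exact C.inv_mem (hqT ⟨_, h1⟩ hz.1)
  obtain ⟨Fh, hFh, hsub, -, hres⟩ := exists_saturated _ (S.prod ⊤) F₁ hpS hF₁ (hatS q C hC) hatS_le hhyp rfl
  haveI : Finite ↥(hatS q C hC) := finite_of_le hatS_le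
  have hpH : IsPGroup p ↥(hatS q C hC) := hpS.to_le hatS_le
  obtain ⟨X, _, _, hX, hm, hn⟩ := exists_transfer hpH hFh
  set τ := tr (A := ↥(Subgroup.center P₁)) hX (piS q C hC) with hτdef
  have hτ : ∀ a b, FRel Fh a b → τ a = τ b := fun a b h => tr_frel hX hm _ h
  -- the central part
  let C' : Subgroup ↥(hatS q C hC) := ((MonoidHom.fst Ω P₁).comp (hatS q C hC).subtype).ker
  have hC'm : ∀ a : ↥(hatS q C hC), a ∈ C' ↔ (a : Ω × P₁).1 = 1 := fun a => Iff.rfl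
  have hcen : ∀ (x : X) (a b : ↥(hatS q C hC)), a ∈ C' → ((a, b) : Gam (hatS q C hC)) • x = x →
      piS q C hC a = piS q C hC b := by
    intro x a b ha hab
    obtain ⟨R, f, hf, har, hb⟩ := stab_maps hX x a b hab
    have hf₁ := maps_of_sub hsub hf
    obtain ⟨f₁, f₂, h1, h2, h3⟩ := maps_prod_spec hE hf₁
    obtain ⟨y, -, hy⟩ := maps_inner h2
    have ha1 : (a : Ω × P₁).1 = 1 := ha
    have hac : (a : Ω × P₁).2 ∈ C := by
      obtain ⟨h4, h5⟩ := mem_hatS.1 a.2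
      have e : (⟨(a : Ω × P₁).1, h4⟩ : ↥S) = 1 := Subtype.ext ha1
      rw [e, map_one, inv_one, one_mul] at h5
      exact h5
    have hab' : b = a := by
      apply Subtype.ext
      rw [hb, h3 _ har]
      refine Prod.ext ?_ ?_
      · show f₁ (a : Ω × P₁).1 = _
        rw [ha1]
        exact h1.map_one
      · show f₂ (a : Ω × P₁).2 = _
        have hm2 : (a : Ω × P₁).2 ∈ sndS R := ⟨a, har, rfl⟩
        rw [hy _ hm2]
        have := Subgroup.mem_center_iff.1 (hC hac) y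
        rw [this]
        group
    rw [hab']
  -- the kernel contains the hyperfocal subgroup
  let K : Subgroup Ω := ((τ.ker).map (hatS q C hC).subtype).comap (MonoidHom.inl Ω P₁)
  have hKgen : ∀ (P : Subgroup Ω), P ≤ S → ∀ β ∈ pResidual p (F.autGroup P), ∀ x : ↥P,
      (x : Ω)⁻¹ * (((β : MulAut P) x : ↥P) : Ω) ∈ K := by
    intro P hP β hβ
    induction hβ using Subgroup.closure_induction with
    | mem β hco =>
      intro x
      have hco' : Nat.Coprime (orderOf β) p := hco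
      obtain ⟨α, hα⟩ := β
      have hco2 : Nat.Coprime (orderOf α) p := by
        rwa [Subgroup.orderOf_mk] at hco'
      have hres' : (⟨α, hα⟩ : F.autGroup P) ∈ pResidual p (F.autGroup P) := Subgroup.subset_closure hco
      have h3 := Cfsg.Agent.Lib.FusionHyperfocal.gen_mem_hyperfocal hP hres' x
      have hxS : (x : Ω) ∈ S := hP x.2
      have h4 : ((x : Ω), q ⟨x, hxS⟩) ∈ hatS q C hC := ((deltaS q C hC ⟨x, hxS⟩).2)
      have h5 : (afn α x, q ⟨x, hxS⟩) ∈ hatS q C hC := by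
        refine mem_hatS.2 ⟨hP (afn_mem α x.2), ?_⟩
        have h6 := C.inv_mem (hqT ⟨_, Cfsg.Agent.Lib.FusionHyperfocal.hyperfocal_le F p h3⟩ h3)
        have e : (⟨_, Cfsg.Agent.Lib.FusionHyperfocal.hyperfocal_le F p h3⟩ : ↥S) = (⟨x, hxS⟩ : ↥S)⁻¹ * ⟨afn α x, hP (afn_mem α x.2)⟩ := by
          apply Subtype.ext
          show (x : Ω)⁻¹ * _ = (x : Ω)⁻¹ * afn α x
          rw [afn_coe]
        rw [e, map_mul, map_inv, mul_inv_rev, inv_inv] at h6
        exact h6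
      have hfr := lift_frel hqT hE hres hP hα hco2 x.2 h4 h5
      have h7 := hτ _ _ hfr
      refine ⟨(⟨((x : Ω), q ⟨x, hxS⟩), h4⟩ : ↥(hatS q C hC))⁻¹ * ⟨(afn α x, q ⟨x, hxS⟩), h5⟩, ?_, ?_⟩
      · show τ _ = 1
        rw [map_mul, map_inv, ← h7, inv_mul_cancel]
      · refine Prod.ext ?_ ?_
        · show (x : Ω)⁻¹ * afn α x = (x : Ω)⁻¹ * _
          rw [afn_coe]
        · show (q ⟨x, hxS⟩)⁻¹ * q ⟨x, hxS⟩ = 1
          rw [inv_mul_cancel]
    | one =>
      intro x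
      simp
    | mul a b _ _ ha hb =>
      intro x
      have e : (x : Ω)⁻¹ * (((a * b : F.autGroup P) : MulAut P) x : ↥P) =
          ((x : Ω)⁻¹ * (((b : MulAut P) x : ↥P) : Ω)) *
          ((((b : MulAut P) x : ↥P) : Ω)⁻¹ * (((a : MulAut P) ((b : MulAut P) x) : ↥P) : Ω)) := by
        show _ = _
        simp only [Subgroup.coe_mul, MulAut.mul_apply]
        group
      rw [e]
      exact Subgroup.mul_mem _ (hb x) (ha _)
    | inv a _ ha =>
      intro x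
      have := ha (((a : MulAut P)⁻¹) x)
      have e : (x : Ω)⁻¹ * (((a⁻¹ : F.autGroup P) : MulAut P) x : ↥P) =
          ((((((a : MulAut P)⁻¹) x) : ↥P) : Ω)⁻¹ * (((a : MulAut P) (((a : MulAut P)⁻¹) x) : ↥P) : Ω))⁻¹ := by
        simp
      rw [e]
      exact Subgroup.inv_mem _ this
  have hK : F.hyperfocalSubgroup p ≤ K := by
    unfold hyperfocalSubgroup
    rw [Subgroup.closure_le]
    rintro _ ⟨P, α, x, hP, hα, rfl⟩
    exact hKgen P hP α hα x
  refine ⟨Nat.card (OrbI (S := hatS q C hC) X), τ.comp (deltaS q C hC), hn, fun t ht => ?_⟩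
  obtain ⟨w, hw, he⟩ := hK ht
  have hc₀ : (((1 : Ω), q t) : Ω × P₁) ∈ hatS q C hC := by
    refine mem_hatS.2 ⟨S.one_mem, ?_⟩
    have e : (⟨(1 : Ω), S.one_mem⟩ : ↥S) = 1 := rfl
    rw [e, map_one, inv_one, one_mul]
    exact hqT t ht
  have hd : deltaS q C hC t = w * ⟨((1 : Ω), q t), hc₀⟩ := by
    apply Subtype.ext
    rw [Subgroup.coe_mul]
    show (((t : Ω), q t) : Ω × P₁) = (w : Ω × P₁) * ((1 : Ω), q t)
    have e : (w : Ω × P₁) = ((t : Ω), 1) := he
    rw [e]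
    simp
  have hw1 : τ w = 1 := hw
  have h1 : τ ⟨((1 : Ω), q t), hc₀⟩ = piS q C hC ⟨((1 : Ω), q t), hc₀⟩ ^ Nat.card (OrbI (S := hatS q C hC) X) :=
    tr_eq_pow hX (piS q C hC) C' hcen (show (⟨((1 : Ω), q t), hc₀⟩ : ↥(hatS q C hC)) ∈ C' from rfl)
  have h2 : ((piS q C hC ⟨((1 : Ω), q t), hc₀⟩ : ↥(Subgroup.center P₁)) : P₁) = q t := by
    rw [piS_apply]
    show (q ⟨(1 : Ω), _⟩)⁻¹ * q t = q t
    have e : (⟨(1 : Ω), S.one_mem⟩ : ↥S) = 1 := rfl
    rw [e, map_one, inv_one, one_mul]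
  show ((τ (deltaS q C hC t) : ↥(Subgroup.center P₁)) : P₁) = _
  rw [hd, map_mul, hw1, one_mul, h1, Subgroup.coe_pow, h2]

/-- **`hyp(F) ∩ [S,S] ≤ [hyp(F),S]`.** -/
theorem hyp_inf_comm [Finite S] (hS : IsPGroup p S) (hF : F.IsSaturated p) (u : ↥S)
    (hu : (u : Ω) ∈ F.hyperfocalSubgroup p) (huc : u ∈ commutator ↥S) :
    u ∈ ⁅(F.hyperfocalSubgroup p).subgroupOf S, (⊤ : Subgroup ↥S)⁆ := by
  set H' : Subgroup ↥S := (F.hyperfocalSubgroup p).subgroupOf S with hH'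
  haveI hHn : H'.Normal := by
    refine ⟨fun n hn g => ?_⟩
    exact Cfsg.Agent.Lib.FusionHyperfocal.hyperfocal_conj g.2 hn
  let M' : Subgroup ↥S := ⁅H', (⊤ : Subgroup ↥S)⁆
  haveI : M'.Normal := Subgroup.commutator_normal _ _
  let q : ↥S →* ↥S ⧸ M' := QuotientGroup.mk' M'
  have hqs : Function.Surjective q := QuotientGroup.mk'_surjective M'
  have hq1 : ∀ a, q a = 1 ↔ a ∈ M' := fun a => QuotientGroup.eq_one_iff a
  haveI : Finite (↥S ⧸ M') := Finite.of_surjective q hqs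
  have hP₁ : IsPGroup p (↥S ⧸ M') := IsPGroup.of_surjective hS q hqs
  have hC : H'.map q ≤ Subgroup.center (↥S ⧸ M') := by
    rintro _ ⟨t, ht, rfl⟩
    refine Subgroup.mem_center_iff.2 (fun g => ?_)
    obtain ⟨s, rfl⟩ := hqs g
    have h1 : ⁅t⁻¹, s⁻¹⁆ ∈ M' := Subgroup.commutator_mem_commutator (H'.inv_mem ht) (Subgroup.mem_top _)
    have h2 := (hq1 _).2 h1
    rw [commutatorElement_def, map_mul, map_mul, map_mul, map_inv, map_inv, inv_inv, inv_inv] at h2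
    have h5 : (q s * q t)⁻¹ * (q t * q s) = 1 := by
      rw [mul_inv_rev]
      simpa only [mul_assoc] using h2
    exact inv_mul_eq_one.1 h5
  obtain ⟨n, lam, hn, hl⟩ := exists_lam hS hF hP₁ q (H'.map q) hC (fun t ht => ⟨t, ht, rfl⟩)
  have h1 : lam u = 1 := Abelianization.commutator_subset_ker lam huc
  have h2 := hl u hu
  rw [h1] at h2
  have h3 : (q u) ^ n = 1 := h2.symm
  obtain ⟨k, hk⟩ := IsPGroup.iff_orderOf.1 hP₁ (q u)
  have h4 : orderOf (q u) ∣ n := orderOf_dvd_of_pow_eq_one h3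
  have hc : Nat.Coprime (orderOf (q u)) n := by
    rw [hk]
    exact Nat.Coprime.pow_left k ((Nat.Prime.coprime_iff_not_dvd hp.out).2 hn)
  have h5 : orderOf (q u) = 1 := Nat.Coprime.eq_one_of_dvd hc h4
  exact (hq1 u).1 (orderOf_eq_one_iff.1 h5)

end Main

/-- The commutator of a product with a normal subgroup. -/
lemma commutator_sup_le {G : Type*} [Group G] (A L : Subgroup G) [A.Normal] [L.Normal] :
    ⁅A ⊔ L, (⊤ : Subgroup G)⁆ ≤ A ⊔ ⁅L, (⊤ : Subgroup G)⁆ := by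
  rw [Subgroup.commutator_le]
  intro g hg h _
  obtain ⟨a, ha, l, hl, rfl⟩ := Subgroup.mem_sup_of_normal_right.1 hg
  have e : ⁅a * l, h⁆ = (a * ⁅l, h⁆ * a⁻¹) * ⁅a, h⁆ := by
    simp only [commutatorElement_def]
    group
  rw [e]
  have h1 : ⁅l, h⁆ ∈ ⁅L, (⊤ : Subgroup G)⁆ := Subgroup.commutator_mem_commutator hl (Subgroup.mem_top _)
  have hN : (⁅L, (⊤ : Subgroup G)⁆).Normal := Subgroup.commutator_normal _ _
  have h2 := hN.conj_mem _ h1 a
  have h3 : ⁅a, h⁆ ∈ A := by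
    have e2 : ⁅a, h⁆ = a * (h * a⁻¹ * h⁻¹) := by
      rw [commutatorElement_def]
      group
    rw [e2]
    exact A.mul_mem ha (‹A.Normal›.conj_mem _ (A.inv_mem ha) h)
  exact Subgroup.mul_mem _ (Subgroup.mem_sup_right h2) (Subgroup.mem_sup_left h3)

/-- Nakayama's lemma for nilpotent groups. -/
theorem nakayama {G : Type*} [Group G] [Group.IsNilpotent G] {N A : Subgroup G} [A.Normal]
    (h : N ≤ A ⊔ ⁅N, (⊤ : Subgroup G)⁆) : N ≤ A := by
  have key : ∀ k : ℕ, N ≤ A ⊔ (⊤ : Subgroup G).lowerCentralSeries k := by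
    intro k
    induction k with
    | zero =>
      rw [Subgroup.lowerCentralSeries_zero]
      exact le_sup_of_le_right le_top
    | succ k ih =>
      refine h.trans (sup_le le_sup_left ?_)
      refine (Subgroup.commutator_mono ih le_rfl).trans ?_
      refine (commutator_sup_le A _).trans (sup_le le_sup_left ?_)
      exact le_sup_of_le_right le_rfl
  obtain ⟨k, hk⟩ := Subgroup.nilpotent_iff_lowerCentralSeries.1 (inferInstance : Group.IsNilpotent G)
  have := key k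
  rwa [hk, sup_bot_eq] at this

section Tate

variable {Ω : Type u} [Group Ω] {S : Subgroup Ω} {F H : FusionSystem S}
variable {p : ℕ} [hp : Fact p.Prime]

/-- The hyperfocal subgroups agree when the focal subgroups do. -/
theorem hyp_eq_of_focal [Finite S] (hS : IsPGroup p S) (hF : F.IsSaturated p) (hH : H.IsSaturated p)
    (hHF : H.IsSubsystemOf F) (h : F.focalSubgroup = H.focalSubgroup) :
    F.hyperfocalSubgroup p = H.hyperfocalSubgroup p := by
  have hle : H.hyperfocalSubgroup p ≤ F.hyperfocalSubgroup p := hyperfocal_le_of_sub hHF le_rfl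
  refine le_antisymm ?_ hle
  set H₁ : Subgroup ↥S := (F.hyperfocalSubgroup p).subgroupOf S with hH₁
  set H₀ : Subgroup ↥S := (H.hyperfocalSubgroup p).subgroupOf S with hH₀
  haveI : H₀.Normal := ⟨fun n hn g => Cfsg.Agent.Lib.FusionHyperfocal.hyperfocal_conj g.2 hn⟩
  haveI : Group.IsNilpotent ↥S := hS.isNilpotent
  have hfoc : (F.hyperfocalSubgroup p) ⊔ ⁅S, S⁆ = (H.hyperfocalSubgroup p) ⊔ ⁅S, S⁆ := by
    rw [← Cfsg.Agent.Lib.FusionFocal.focal_eq hS hF, ← Cfsg.Agent.Lib.FusionFocal.focal_eq hS hH, h]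
  have hcm : (commutator ↥S).map S.subtype = ⁅S, S⁆ := by
    rw [commutator_def, Subgroup.map_commutator, ← MonoidHom.range_eq_map, Subgroup.range_subtype]
  have hstep : H₁ ≤ H₀ ⊔ ⁅H₁, (⊤ : Subgroup ↥S)⁆ := by
    intro t ht
    have h1 : (t : Ω) ∈ (H.hyperfocalSubgroup p) ⊔ ⁅S, S⁆ := by
      rw [← hfoc]
      exact Subgroup.mem_sup_left ht
    have h2 : (H.hyperfocalSubgroup p) ⊔ ⁅S, S⁆ = (H₀ ⊔ commutator ↥S).map S.subtype := by
      rw [Subgroup.map_sup, hcm, hH₀, Subgroup.map_subgroupOf_eq_of_le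
        (Cfsg.Agent.Lib.FusionHyperfocal.hyperfocal_le H p)]
    rw [h2] at h1
    obtain ⟨t', ht', he⟩ := h1
    have : t' = t := Subtype.ext he
    subst this
    obtain ⟨a, ha, u, hu, rfl⟩ := Subgroup.mem_sup_of_normal_left.1 ht'
    have hu1 : u ∈ H₁ := by
      have := H₁.mul_mem (H₁.inv_mem (hle ha)) ht
      simpa using this
    exact Subgroup.mul_mem _ (Subgroup.mem_sup_left ha) (Subgroup.mem_sup_right (hyp_inf_comm hS hF u hu1 hu))
  have := nakayama hstep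
  intro x hx
  have hxS := Cfsg.Agent.Lib.FusionHyperfocal.hyperfocal_le F p hx
  exact this (show (⟨x, hxS⟩ : ↥S) ∈ H₁ from hx)

/-- Characters with values in `ZMod p` kill the Frattini subgroup. -/
lemma frattini_le_ker {G : Type*} [Group G] (f : G →* Multiplicative (ZMod p)) : frattini G ≤ f.ker := by
  by_cases hf : ∃ s, f s ≠ 1
  · obtain ⟨s, hs⟩ := hf
    refine frattini_le_coatom ⟨fun h => hs ((MonoidHom.mem_ker).1 (h ▸ Subgroup.mem_top s)), fun L hL => ?_⟩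
    obtain ⟨x, hxL, hx⟩ := SetLike.exists_of_lt hL
    have hx1 : f x ≠ 1 := fun h => hx (MonoidHom.mem_ker.2 h)
    rw [eq_top_iff]
    intro g _
    obtain ⟨j, hj⟩ := exists_pow_eq hx1 (f g)
    have h1 : (x ^ j)⁻¹ * g ∈ L := hL.le (by
      rw [MonoidHom.mem_ker, map_mul, map_inv, map_pow, hj, inv_mul_cancel])
    have h2 := L.mul_mem (L.pow_mem hxL j) h1
    simpa using h2
  · push Not at hf
    intro x _
    exact hf x

/-- The focal subgroups agree when they agree modulo the Frattini subgroup. -/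
theorem focal_eq_of_frattini [Finite S] (hS : IsPGroup p S) (hF : F.IsSaturated p) (hHF : H.IsSubsystemOf F)
    (hfr : (frattini ↥S).map S.subtype ⊔ F.focalSubgroup = (frattini ↥S).map S.subtype ⊔ H.focalSubgroup) :
    F.focalSubgroup = H.focalSubgroup := by
  classical
  obtain ⟨X, i1, i2, hX, hm, hn⟩ := exists_transfer hS hF
  have hHFm : ∀ {P : Subgroup Ω} {f : Ω → Ω}, Maps H P f → Maps F P f := fun h => maps_of_sub hHF h
  -- kernels of stable maps
  have hkill : ∀ (f : ↥S →* Multiplicative (ZMod p)), (∀ a b, FRel H a b → f a = f b) →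
      H.focalSubgroup ≤ (f.ker).map S.subtype := by
    intro f hf
    refine (Subgroup.closure_le _).2 ?_
    rintro _ ⟨P, φ, x, hφ, rfl⟩
    have hm' : Maps H P (fn φ) := Maps.of_mem hφ
    have hxS : (x : Ω) ∈ S := hm'.le x.2
    have h1 := hf ⟨x, hxS⟩ ⟨fn φ x, hm'.mem x.2⟩ ⟨P, fn φ, hm', x.2, rfl⟩
    refine ⟨(⟨x, hxS⟩ : ↥S)⁻¹ * ⟨fn φ x, hm'.mem x.2⟩, ?_, ?_⟩
    · show f _ = 1
      rw [map_mul, map_inv, h1, inv_mul_cancel]
    · show (x : Ω)⁻¹ * fn φ x = _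
      rw [fn_coe]
  have hfrelF : ∀ (a b : ↥S), FRel F a b → (a : Ω)⁻¹ * b ∈ F.focalSubgroup := by
    rintro a b ⟨P, f, hf, ha, hb⟩
    refine Subgroup.subset_closure ⟨P, hf.hom, ⟨a, ha⟩, hf.hom_mem, ?_⟩
    rw [hf.hom_apply, hb]
  have hcomm : ⁅S, S⁆ ≤ H.focalSubgroup := Cfsg.Agent.Lib.FusionTrfApps.commutator_le_focal
  set D' : Subgroup ↥S := (H.focalSubgroup).subgroupOf S with hD'
  have hcD : commutator ↥S ≤ D' := by
    intro c hc
    have h6 : (c : Ω) ∈ (commutator ↥S).map S.subtype := ⟨c, hc, rfl⟩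
    rw [commutator_def, Subgroup.map_commutator, ← MonoidHom.range_eq_map, Subgroup.range_subtype] at h6
    exact hcomm h6
  let q : Abelianization ↥S →* Abelianization ↥S ⧸ (D'.map (Abelianization.of (G := ↥S))) := QuotientGroup.mk' _
  let π : ↥S →* Abelianization ↥S ⧸ (D'.map (Abelianization.of (G := ↥S))) := q.comp Abelianization.of
  have hπ : ∀ a, π a = 1 ↔ a ∈ D' := by
    intro a
    have h1 : π a = 1 ↔ Abelianization.of a ∈ D'.map (Abelianization.of (G := ↥S)) :=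
      QuotientGroup.eq_one_iff _
    rw [h1]
    constructor
    · rintro ⟨b, hb, hba⟩
      have h2 : b⁻¹ * a ∈ commutator ↥S := by
        rw [← Abelianization.ker_of, MonoidHom.mem_ker, map_mul, map_inv, hba, inv_mul_cancel]
      have h3 := D'.mul_mem hb (hcD h2)
      simpa using h3
    · intro h
      exact ⟨a, h, rfl⟩
  have hsurj : Function.Surjective π :=
    (QuotientGroup.mk'_surjective _).comp (QuotientGroup.mk'_surjective _)
  have hAp := IsPGroup.of_surjective hS π hsurj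
  haveI : Finite (Abelianization ↥S ⧸ (D'.map (Abelianization.of (G := ↥S)))) := Finite.of_surjective π hsurj
  have hfocS : ∀ {a b : ↥S}, (a : Ω)⁻¹ * b ∈ H.focalSubgroup → π a = π b := by
    intro a b hab
    have h2 := (hπ (a⁻¹ * b)).2 hab
    rw [map_mul, map_inv] at h2
    exact inv_mul_eq_one.1 h2
  have hst := stable_of_char hX hm hn (FRel H) (fun a b ⟨P, f, hf, ha, hb⟩ => ⟨P, f, hHFm hf, ha, hb⟩)
    (by
      intro f hf a b hab
      have h1 := hkill f hf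
      have h2 : (frattini ↥S).map S.subtype ≤ (f.ker).map S.subtype := Subgroup.map_mono (frattini_le_ker f)
      have h3 : F.focalSubgroup ≤ (f.ker).map S.subtype := by
        refine (le_sup_right (a := (frattini ↥S).map S.subtype)).trans ?_
        rw [hfr]
        exact sup_le h2 h1
      obtain ⟨c, hc, he⟩ := h3 (hfrelF a b hab)
      have e : c = a⁻¹ * b := Subtype.ext he
      have hc' : f c = 1 := hc
      rw [e, map_mul, map_inv] at hc'
      exact inv_mul_eq_one.1 hc')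
    _ hAp rfl π (fun a b hab => by
      obtain ⟨P, f, hf, ha, hb⟩ := hab
      refine hfocS (Subgroup.subset_closure ⟨P, hf.hom, ⟨a, ha⟩, hf.hom_mem, ?_⟩)
      rw [hf.hom_apply, hb])
  apply le_antisymm
  · refine (Subgroup.closure_le _).2 ?_
    rintro _ ⟨P, φ, x, hφ, rfl⟩
    have hf : Maps F P (fn φ) := Maps.of_mem hφ
    have hxS : (x : Ω) ∈ S := hf.le x.2
    have h1 := hst ⟨x, hxS⟩ ⟨fn φ x, hf.mem x.2⟩ ⟨P, fn φ, hf, x.2, rfl⟩
    have h2 : π ((⟨x, hxS⟩ : ↥S)⁻¹ * ⟨fn φ x, hf.mem x.2⟩) = 1 := by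
      rw [map_mul, map_inv, h1, inv_mul_cancel]
    have h3 := (hπ _).1 h2
    have h4 : (x : Ω)⁻¹ * fn φ x ∈ H.focalSubgroup := h3
    rw [fn_coe] at h4
    exact h4
  · refine (Subgroup.closure_le _).2 ?_
    rintro _ ⟨P, φ, x, hφ, rfl⟩
    exact Subgroup.subset_closure ⟨P, φ, x, hHF P hφ, rfl⟩

end Tate

end Cfsg.Agent.Lib.FusionSplit
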