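/-
FusionFocalPhi: control of the focal subgroup by a strongly closed subgroup containing the derived subgroup; the
systems with trivial hyperfocal subgroup.
-/
import Mathlib
import Cfsg.Agent.Lib.FusionSplit
import Cfsg.Agent.Lib.FusionIndexPrime
import Cfsg.Agent.Lib.PResid
import Cfsg.Agent.Lib.Frat

set_option autoImplicit false

namespace Cfsg.Agent.Lib.FusionFocalPhi

open Cfsg Cfsg.FusionSystem Cfsg.Agent.Lib.FusionCore
open scoped commutatorElement

universe u

variable {Ω : Type u} [Group Ω] {S : Subgroup Ω} {F : FusionSystem S} {p : ℕ} [hp : Fact p.Prime]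

lemma maps_focSystem {D : Subgroup Ω} {hD : ∀ g ∈ S, ∀ x ∈ S, x⁻¹ * (g * x * g⁻¹) ∈ D} {P : Subgroup Ω} {f : Ω → Ω} :
    Maps (Cfsg.Agent.Lib.FusionFocal.focSystem F D hD) P f ↔ Maps F P f ∧ ∀ x ∈ P, x⁻¹ * f x ∈ D := by
  constructor
  · rintro ⟨φ, ⟨h1, h2⟩, hf⟩
    exact ⟨⟨φ, h1, hf⟩, fun x hx => by rw [← hf ⟨x, hx⟩]; exact h2 ⟨x, hx⟩⟩
  · rintro ⟨⟨φ, h1, hf⟩, h2⟩
    exact ⟨φ, ⟨h1, fun x => by rw [hf]; exact h2 x x.2⟩, hf⟩

/-- **Focal control**: a strongly closed subgroup containing the derived subgroup, acted trivially on modulo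
which by the automorphisms of `S` in the system, contains the focal subgroup. -/
theorem focal_le_of_stronglyClosed [Finite S] (hS : IsPGroup p S) (hF : F.IsSaturated p) {D : Subgroup Ω}
    (hcomm : ⁅S, S⁆ ≤ D) (hsc : F.StronglyClosed D)
    (haut : ∀ f, Maps F S f → ∃ s ∈ S, ∀ x ∈ S, f x = s * x * s⁻¹) : F.focalSubgroup ≤ D := by
  have hD : ∀ g ∈ S, ∀ x ∈ S, x⁻¹ * (g * x * g⁻¹) ∈ D := by
    intro g hg x hx
    have h1 := Subgroup.commutator_mem_commutator (S.inv_mem hx) hg
    rw [commutatorElement_def] at h1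
    have e : x⁻¹ * (g * x * g⁻¹) = x⁻¹ * g * x⁻¹⁻¹ * g⁻¹ := by group
    rw [e]
    exact hcomm h1
  have hFE : F ≤ Cfsg.Agent.Lib.FusionFocal.focSystem F D hD := by
    refine Cfsg.Agent.Lib.FusionIndexPrime.alperin_goldschmidt' hS hF _ (fun P hP IH α hα => ?_)
    by_cases he : P = S
    · subst he
      rw [mem_autGroup_iff le_rfl, maps_focSystem]
      have hm := (mem_autGroup_iff le_rfl).1 hα
      refine ⟨hm, fun x hx => ?_⟩
      obtain ⟨s, hs, h1⟩ := haut _ hm
      rw [h1 x hx]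
      exact hD s hs x hx
    have hE : F.IsEssential p P := by
      rcases hP with h | h
      · exact absurd h he
      · exact h
    obtain ⟨hc, hN, -⟩ := hE
    have hPS := hc.1
    have hlt : P < S := lt_of_le_of_ne hPS he
    obtain ⟨hC, hA⟩ := of_fullyNormalized hS hF hN
    have hR := receptive_of_fullyCentralized hS hF hC
    haveI := finite_mulAut hPS
    obtain ⟨-, A, hA⟩ := hA
    rw [mem_autGroup_iff hPS, maps_focSystem]
    let K : Subgroup (F.autGroup P) :=
      { carrier := {κ | ∀ x ∈ P, x⁻¹ * afn (κ : MulAut P) x ∈ D}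
        mul_mem' := by
          intro a b ha hb x hx
          have e : x⁻¹ * afn ((a * b : F.autGroup P) : MulAut P) x =
              (x⁻¹ * afn (b : MulAut P) x) * ((afn (b : MulAut P) x)⁻¹ * afn (a : MulAut P) (afn (b : MulAut P) x)) := by
            rw [Subgroup.coe_mul, afn_mul _ _ hx]
            group
          rw [e]
          exact D.mul_mem (hb x hx) (ha _ (afn_mem _ hx))
        one_mem' := by
          intro x hx
          show x⁻¹ * afn (1 : MulAut P) x ∈ D
          rw [afn_one hx, inv_mul_cancel]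
          exact D.one_mem
        inv_mem' := by
          intro a ha x hx
          have h1 := ha _ (afn_mem (a : MulAut P)⁻¹ hx)
          rw [afn_afn_inv _ hx] at h1
          have h2 := D.inv_mem h1
          rw [mul_inv_rev, inv_inv] at h2
          exact h2 }
    have hKm : ∀ κ : F.autGroup P, κ ∈ K ↔ ∀ x ∈ P, x⁻¹ * afn (κ : MulAut P) x ∈ D := fun _ => Iff.rfl
    haveI hKn : K.Normal := by
      refine ⟨fun n hn g => ?_⟩
      rw [hKm] at hn ⊢
      intro x hx
      have hgm := (mem_autGroup_iff hPS).1 g.2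
      have hy := afn_mem ((g : MulAut P)⁻¹) hx
      have h1 := hn _ hy
      have hPD : P ⊓ D ≤ D := inf_le_right
      have hres := hgm.restrict (inf_le_left : P ⊓ D ≤ P)
      have h2 := hsc.2 (P ⊓ D) hPD hres.hom hres.hom_mem ⟨_, ⟨P.mul_mem (P.inv_mem hy) (afn_mem _ hy), h1⟩⟩
      rw [hres.hom_apply] at h2
      have e : x⁻¹ * afn ((g * n * g⁻¹ : F.autGroup P) : MulAut P) x =
          afn (g : MulAut P) ((afn (g : MulAut P)⁻¹ x)⁻¹ * afn (n : MulAut P) (afn (g : MulAut P)⁻¹ x)) := by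
        have e1 : ((g * n * g⁻¹ : F.autGroup P) : MulAut P) = (g : MulAut P) * (n : MulAut P) * (g : MulAut P)⁻¹ := rfl
        rw [e1, afn_mul _ _ hx, afn_mul _ _ hy, hgm.map_mul (P.inv_mem hy) (afn_mem _ hy), hgm.map_inv hy,
          afn_afn_inv _ hx]
      rw [e]
      exact h2
    have hAK : ∀ a ∈ (A : Subgroup (F.autGroup P)), a ∈ K := by
      intro a ha
      rw [hA] at ha
      obtain ⟨g, hg, h1⟩ := mem_autInducedBy.1 (Subgroup.mem_subgroupOf.1 ha)
      intro x hx
      rw [h1 x hx]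
      exact hD g hg x (hPS hx)
    obtain ⟨ν, κ, hκ, hβ, hν⟩ := Cfsg.Agent.Lib.FusionAlperin.frattini_inf A K (⟨α, hα⟩ : F.autGroup P)
    have hνm : Maps F P (afn (ν : MulAut P)) := (mem_autGroup_iff hPS).1 ν.2
    have hNf : normalizerIn S P ≤ Nf S P (afn (ν : MulAut P)) := by
      intro g hg
      have hgN := hg
      rw [mem_normalizerIn] at hg
      obtain ⟨hgS, hgn⟩ := hg
      refine mem_Nf.2 ⟨hgS, hgn, ?_⟩
      have hc1 : conjN S P ⟨g, hgN⟩ ∈ autInducedBy S P := by
        rw [← conjN_range]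
        exact ⟨_, rfl⟩
      have hc2 : (⟨conjN S P ⟨g, hgN⟩, autInducedBy_le_autGroup hPS hc1⟩ : F.autGroup P) ∈
          (A : Subgroup (F.autGroup P)) := by
        rw [hA]
        exact hc1
      have h3 := (hν _ ⟨hc2, hAK _ hc2⟩).1
      rw [hA] at h3
      obtain ⟨h, hh, h4⟩ := mem_autInducedBy.1 (Subgroup.mem_subgroupOf.1 h3)
      refine ⟨h, hh, fun x hx => ?_⟩
      have h5 := h4 _ (afn_mem (ν : MulAut P) hx)
      have e : (↑(ν * ⟨conjN S P ⟨g, hgN⟩, autInducedBy_le_autGroup hPS hc1⟩ * ν⁻¹ : F.autGroup P) : MulAut P)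
          = (ν : MulAut P) * conjN S P ⟨g, hgN⟩ * (ν : MulAut P)⁻¹ := rfl
      rw [e, afn_mul _ _ (afn_mem _ hx), afn_inv_afn _ hx, afn_mul _ _ hx, afn_conjN _ hx] at h5
      exact h5
    obtain ⟨k, hk, hk1⟩ := Cfsg.Agent.Lib.FusionCore.IsReceptive.ext hR hνm (afn_img _)
    have hNlt := Cfsg.Agent.Lib.FusionAlperin.lt_normalizerIn hS hlt
    have hcN : Nat.card P < Nat.card (normalizerIn S P) := by
      haveI : Finite (normalizerIn S P) := finite_of_le inf_le_left
      exact Cfsg.Agent.Lib.FusionAlperin.card_lt_of_lt hNlt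
    have h1 := IH _ inf_le_left hcN k (hk.restrict hNf)
    have h2 := (maps_focSystem.1 ((h1.restrict hNlt.le).congr hk1)).2
    refine ⟨(mem_autGroup_iff hPS).1 hα, fun x hx => ?_⟩
    have e : α = (ν : MulAut P) * κ := congrArg Subtype.val hβ
    rw [e, afn_mul _ _ hx]
    have e2 : x⁻¹ * afn (ν : MulAut P) (afn (κ : MulAut P) x) =
        (x⁻¹ * afn (κ : MulAut P) x) * ((afn (κ : MulAut P) x)⁻¹ * afn (ν : MulAut P) (afn (κ : MulAut P) x)) := by
      group
    rw [e2]
    exact D.mul_mem (hκ x hx) (h2 _ (afn_mem _ hx))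
  refine (Subgroup.closure_le _).2 ?_
  rintro _ ⟨P, φ, x, hφ, rfl⟩
  have h1 := (maps_focSystem (hD := hD)).1 (Cfsg.Agent.Lib.FusionIndexPrime.le_maps hFE (Maps.of_mem hφ))
  have h2 := h1.2 x x.2
  rwa [fn_coe] at h2

/-- A system with trivial hyperfocal subgroup is inner. -/
theorem inner_of_hyp_eq_bot [Finite S] (hS : IsPGroup p S) (hF : F.IsSaturated p)
    (h : F.hyperfocalSubgroup p = ⊥) : ∀ P : Subgroup Ω, F.Hom P = (innerFusionSystem S).Hom P := by
  refine Cfsg.Agent.Lib.FusionAlperin.frobenius_inner hS hF (fun Q hQS => ?_)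
  haveI := finite_mulAut hQS
  have hres : pResidual p (F.autGroup Q) = ⊥ := by
    rw [eq_bot_iff]
    intro κ hκ
    rw [Subgroup.mem_bot]
    apply Subtype.ext
    ext x
    have h1 := Cfsg.Agent.Lib.FusionHyperfocal.gen_mem_hyperfocal hQS hκ x
    rw [h, Subgroup.mem_bot, inv_mul_eq_one] at h1
    exact h1.symm
  have hq := Cfsg.Agent.Lib.PResid.isPGroup_quotient_pResidual (G := F.autGroup Q) p
  intro a
  obtain ⟨k, hk⟩ := hq (a : F.autGroup Q ⧸ pResidual p (F.autGroup Q))
  refine ⟨k, ?_⟩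
  have h2 : ((a ^ p ^ k : F.autGroup Q) : F.autGroup Q ⧸ pResidual p (F.autGroup Q)) = 1 := hk
  have h3 := (QuotientGroup.eq_one_iff _).1 h2
  rw [hres, Subgroup.mem_bot] at h3
  exact h3

/-- The inner system has trivial hyperfocal subgroup. -/
theorem hyp_inner [Finite S] (hS : IsPGroup p S) : (innerFusionSystem S).hyperfocalSubgroup p = ⊥ := by
  rw [eq_bot_iff]
  unfold hyperfocalSubgroup
  rw [Subgroup.closure_le]
  rintro _ ⟨P, α, x, hP, hα, rfl⟩
  have hp₁ : IsPGroup p ((innerFusionSystem S).autGroup P) := by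
    refine (isPGroup_autInducedBy (K := S) (P := P) hS).to_le ?_
    intro β hβ
    rw [mem_autGroup_iff hP] at hβ
    obtain ⟨g, hg, h1⟩ := Cfsg.Agent.Lib.FusionSplit.maps_inner hβ
    exact mem_autInducedBy.2 ⟨g, hg, h1⟩
  have h1 : pResidual p ((innerFusionSystem S).autGroup P) ≤ ⊥ := by
    unfold pResidual
    rw [Subgroup.closure_le]
    intro β hβ
    obtain ⟨k, hk⟩ := IsPGroup.iff_orderOf.1 hp₁ β
    have hco : Nat.Coprime (orderOf β) p := hβ
    rw [hk] at hco
    have h2 : orderOf β = 1 := by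
      rw [hk]
      rcases k with _ | k
      · simp
      · exfalso
        have := Nat.Coprime.coprime_dvd_left (dvd_pow_self p (Nat.succ_ne_zero k)) hco
        rw [Nat.coprime_self] at this
        exact hp.out.one_lt.ne' this
    rw [SetLike.mem_coe, Subgroup.mem_bot]
    exact orderOf_eq_one_iff.1 h2
  have h2 := h1 hα
  rw [Subgroup.mem_bot] at h2
  rw [h2]
  simp

end Cfsg.Agent.Lib.FusionFocalPhi
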