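/-
FusionFnGen: the `p`-automorphisms of fully normalized centric subgroups generate, up to `Aut_F(S)`
(a variant of S5114 where only fully normalized centric subgroups are tested).
-/
import Mathlib
import Cfsg.Agent.Lib.FusionIndexPrime

set_option autoImplicit false
set_option linter.style.haveILetI false

namespace Cfsg.Agent.Lib.FusionFnGen

open Cfsg Cfsg.FusionSystem Cfsg.Agent.Lib.FusionCore Cfsg.Agent.Lib.FusionCore2
open Cfsg.Agent.Lib.FusionIndexPrime

variable {Ω : Type*} [Group Ω] {S : Subgroup Ω} {F E : FusionSystem S} {P Q R : Subgroup Ω} {f g : Ω → Ω}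
variable {p : ℕ}

/-- The subsystem generated by the `p`-automorphisms of fully normalized centric subgroups. -/
inductive GenN (F : FusionSystem S) (p : ℕ) : Subgroup Ω → (Ω → Ω) → Prop
  | gen {P R : Subgroup Ω} {α : MulAut P} : F.IsCentric P → F.IsFullyNormalized P → α ∈ F.autGroup P →
      (∃ n : ℕ, α ^ p ^ n = 1) → R ≤ P → GenN F p R (afn α)
  | conj {P : Subgroup Ω} {g : Ω} : P ≤ S → g ∈ S → GenN F p P (fun x => g * x * g⁻¹)
  | comp {P Q : Subgroup Ω} {f g : Ω → Ω} : GenN F p P f → GenN F p Q g → (∀ x ∈ P, f x ∈ Q) →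
      GenN F p P (g ∘ f)
  | inv {P : Subgroup Ω} {f g : Ω → Ω} : GenN F p P f → Maps F (img f P) g →
      (∀ x ∈ P, g (f x) = x) → GenN F p (img f P) g
  | congr {P : Subgroup Ω} {f g : Ω → Ω} : GenN F p P f → (∀ x ∈ P, f x = g x) → GenN F p P g

lemma GenN.maps (h : GenN F p P f) : Maps F P f := by
  induction h with
  | gen hc _ hα _ hR => exact ((mem_autGroup_iff hc.1).1 hα).restrict hR
  | conj hP hg => exact Maps.conj hP hg
  | comp _ _ h hf hg => exact hf.comp hg h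
  | inv _ hg _ _ => exact hg
  | congr _ h hf => exact hf.congr h

lemma GenN.subsys {E : FusionSystem S}
    (hgen : ∀ P, F.IsCentric P → F.IsFullyNormalized P → ∀ α ∈ F.autGroup P, (∃ n : ℕ, α ^ p ^ n = 1) →
      Maps E P (afn α))
    (h : GenN F p P f) : Maps E P f := by
  induction h with
  | gen hc hn' hα hn hR => exact (hgen _ hc hn' _ hα hn).restrict hR
  | conj hP hg => exact Maps.conj hP hg
  | comp _ _ h hf hg => exact hf.comp hg h
  | @inv P f g _ hg h1 hf =>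
    obtain ⟨g', hg', h1', -⟩ := hf.inv
    refine hg'.congr (fun y hy => ?_)
    obtain ⟨x, hx, rfl⟩ := hf.mem_img.1 hy
    rw [h1' x hx, h1 x hx]
  | congr _ h hf => exact hf.congr h

/-- Full normalization is preserved by automorphisms of `S`. -/
lemma fullyNormalized_sAut [Finite S] {A B : Ω → Ω} (hAB : SAut F A B) (hn : F.IsFullyNormalized P) :
    F.IsFullyNormalized (img B P) := by
  have hPS := hn.1
  have hBP := hAB.mB.restrict hPS
  have hiS : img B P ≤ S := hBP.img_le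
  refine ⟨hiS, fun Q' hQ' => ?_⟩
  have hc1 : F.IsConj P (img B P) := Cfsg.Agent.Lib.FusionCore.isConj_iff.2 ⟨B, hBP, rfl⟩
  have hle := hn.2 Q' (IsConj_trans hc1 hQ')
  refine hle.trans ?_
  -- compare the normalizers through `B`
  have hNS : normalizerIn S P ≤ S := inf_le_left
  have hm := hAB.mB.restrict hNS
  have hcard := hm.card_img
  rw [← hcard]
  haveI : Finite (normalizerIn S (img B P)) := finite_of_le inf_le_left
  refine Subgroup.card_le_of_le ?_
  intro y hy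
  obtain ⟨x, hx, rfl⟩ := hm.mem_img.1 hy
  have hxS := hNS hx
  obtain ⟨-, hxn⟩ := mem_normalizerIn.1 hx
  haveI : Finite (img B P) := finite_of_le hiS
  refine mem_normalizerIn.2 ⟨hAB.mB.mem hxS, mem_normalizer_of_conj_mem (fun y hy => ?_)⟩
  obtain ⟨w, hw, rfl⟩ := hBP.mem_img.1 hy
  rw [← hAB.mB.map_conj hxS (hPS hw)]
  exact hBP.mem_img_of_mem ((Subgroup.mem_normalizer_iff.1 hxn w).1 hw)

/-- Invariance of the generated subsystem under `Aut_F(S)`. -/
lemma GenN.conj_aut [Finite S] {A B : Ω → Ω} (hAB : SAut F A B) (h : GenN F p P f) :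
    GenN F p (img B P) (B ∘ f ∘ A) := by
  induction h with
  | @gen P' R α hc hN hα hn hR =>
    have hP'S := hc.1
    have hBP := hAB.mB.restrict hP'S
    have hc' : F.IsCentric (img B P') := IsCentric_conj hc (Cfsg.Agent.Lib.FusionCore.isConj_iff.2 ⟨B, hBP, rfl⟩)
    have hN' : F.IsFullyNormalized (img B P') := fullyNormalized_sAut hAB hN
    let α' := MulAut.congr (hBP.equiv rfl) α
    have hα' : α' ∈ F.autGroup (img B P') := by
      rw [← hBP.map_autGroup rfl]
      exact Subgroup.mem_map_of_mem _ hα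
    have hn' : ∃ n : ℕ, α' ^ p ^ n = 1 := by
      obtain ⟨n, hn⟩ := hn
      refine ⟨n, ?_⟩
      show (MulAut.congr (hBP.equiv rfl) α) ^ p ^ n = 1
      rw [← map_pow, hn, map_one]
    have hR' : img B R ≤ img B P' := hBP.img_mono hR
    refine (GenN.gen hc' hN' hα' hn' hR').congr (fun y hy => ?_)
    obtain ⟨x, hx, rfl⟩ := (hAB.mem_img (hR.trans hP'S)).1 hy
    have e := hBP.afn_congr rfl α (hR hx)
    show afn α' (B x) = B (afn α (A (B x)))
    rw [hAB.ab x (hP'S (hR hx)), ← e]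
  | @conj P g hP hg =>
    refine (GenN.conj (hAB.img_le hP) (hAB.mB.mem hg)).congr (fun y hy => ?_)
    obtain ⟨x, hx, rfl⟩ := (hAB.mem_img hP).1 hy
    have hxS := hP hx
    show _ = B (g * A (B x) * g⁻¹)
    rw [hAB.ab x hxS, hAB.mB.map_conj hg hxS]
  | @comp P Q f g hf hg h ihf ihg =>
    have hPS := hf.maps.le
    have hQS := hg.maps.le
    have hfS := hf.maps
    refine (ihf.comp ihg (fun y hy => ?_)).congr (fun y hy => ?_)
    · obtain ⟨x, hx, rfl⟩ := (hAB.mem_img hPS).1 hy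
      show B (f (A (B x))) ∈ _
      rw [hAB.ab x (hPS hx)]
      exact hAB.mem_of_mem hQS (h x hx)
    · obtain ⟨x, hx, rfl⟩ := (hAB.mem_img hPS).1 hy
      show B (g (A (B (f (A (B x)))))) = B (g (f (A (B x))))
      rw [hAB.ab x (hPS hx), hAB.ab _ (hfS.mem hx)]
  | @inv P f g hf hg h ih =>
    have hPS := hf.maps.le
    have hfS := hf.maps
    have hiS : img f P ≤ S := hfS.img_le
    have e : img (B ∘ f ∘ A) (img B P) = img B (img f P) := by
      ext y
      rw [ih.maps.mem_img, hAB.mem_img hiS]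
      constructor
      · rintro ⟨z, hz, rfl⟩
        obtain ⟨x, hx, rfl⟩ := (hAB.mem_img hPS).1 hz
        refine ⟨f x, hfS.mem_img_of_mem hx, ?_⟩
        show _ = B (f (A (B x)))
        rw [hAB.ab x (hPS hx)]
      · rintro ⟨z, hz, rfl⟩
        obtain ⟨x, hx, rfl⟩ := hfS.mem_img.1 hz
        refine ⟨B x, hAB.mem_of_mem hPS hx, ?_⟩
        show B (f (A (B x))) = _
        rw [hAB.ab x (hPS hx)]
    have hU : Maps F (img B (img f P)) (B ∘ g ∘ A) := by
      have h1 : Maps F (img B (img f P)) A := hAB.mA.restrict (hAB.img_le hiS)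
      exact h1.comp (hg.comp hAB.mB (fun y hy => hg.mem hy)) (fun y hy => hAB.A_mem hiS hy)
    have := GenN.inv ih (e ▸ hU) (fun y hy => ?_)
    · rwa [e] at this
    · obtain ⟨x, hx, rfl⟩ := (hAB.mem_img hPS).1 hy
      show B (g (A (B (f (A (B x)))))) = B x
      rw [hAB.ab x (hPS hx), hAB.ab _ (hfS.mem hx), h x hx]
  | @congr P f g hf h ih =>
    have hPS := hf.maps.le
    refine ih.congr (fun y hy => ?_)
    obtain ⟨x, hx, rfl⟩ := (hAB.mem_img hPS).1 hy
    show B (f (A (B x))) = B (g (A (B x)))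
    rw [hAB.ab x (hPS hx), h x hx]

/-- Predicate of the maps `a ∘ f₀`. -/
def BigN (F : FusionSystem S) (p : ℕ) (P : Subgroup Ω) (φ : Ω → Ω) : Prop :=
  ∃ a ∈ F.autGroup S, ∃ f₀, GenN F p P f₀ ∧ ∀ x ∈ P, φ x = afn a (f₀ x)

lemma BigN.maps (h : BigN F p P f) : Maps F P f := by
  obtain ⟨a, ha, f₀, h0, hf⟩ := h
  have hm := h0.maps
  exact (hm.comp (sAut_of_mem ha).mA (fun x hx => hm.mem hx)).congr (fun x hx => (hf x hx).symm)

lemma BigN.congr (h : BigN F p P f) (hfg : ∀ x ∈ P, f x = g x) : BigN F p P g := by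
  obtain ⟨a, ha, f₀, h0, hf⟩ := h
  exact ⟨a, ha, f₀, h0, fun x hx => by rw [← hfg x hx, hf x hx]⟩

lemma BigN.conj {g : Ω} (hP : P ≤ S) (hg : g ∈ S) : BigN F p P (fun x => g * x * g⁻¹) :=
  ⟨1, Subgroup.one_mem _, _, GenN.conj hP hg, fun x hx => by
    rw [afn_one (S.mul_mem (S.mul_mem hg (hP hx)) (S.inv_mem hg))]⟩

lemma BigN.comp [Finite S] {P Q : Subgroup Ω} (hf : BigN F p P f) (hg : BigN F p Q g)
    (h : ∀ x ∈ P, f x ∈ Q) : BigN F p P (g ∘ f) := by
  obtain ⟨a, ha, f₀, h0, hf⟩ := hf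
  obtain ⟨b, hb, g₀, h1, hg⟩ := hg
  have hQS := h1.maps.le
  have hs := sAut_of_mem ha
  have hsi := GenN.conj_aut hs h1
  have hf0 := h0.maps
  refine ⟨b * a, Subgroup.mul_mem _ hb ha, _, GenN.comp h0 hsi (fun x hx => ?_), fun x hx => ?_⟩
  · have h2 := hs.mem_of_mem hQS (h x hx)
    rwa [hf x hx, hs.ba _ (hf0.mem hx)] at h2
  · have hfx : afn a (f₀ x) ∈ Q := hf x hx ▸ h x hx
    show g (f x) = afn (b * a) (afn a⁻¹ (g₀ (afn a (f₀ x))))
    rw [hf x hx, hg _ hfx, afn_mul _ _ (hs.mB.mem (h1.maps.mem hfx)), hs.ab _ (h1.maps.mem hfx)]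

lemma BigN.inv [Finite S] (hf : BigN F p P f) : ∃ g, BigN F p (img f P) g ∧ ∀ x ∈ P, g (f x) = x := by
  have hfm := hf.maps
  obtain ⟨g, hg, h1, h2⟩ := hfm.inv
  refine ⟨g, ?_, h1⟩
  obtain ⟨a, ha, f₀, h0, hff⟩ := hf
  have hf0 := h0.maps
  obtain ⟨k, hk, hk1, hk2⟩ := hf0.inv
  have hgk := GenN.inv h0 hk hk1
  have hs := sAut_of_mem ha
  have hPS := hf0.le
  have hgk2 := GenN.conj_aut hs.symm hgk
  have e : img (afn a) (img f₀ P) = img f P := by
    ext y
    rw [hs.symm.mem_img hf0.img_le, hfm.mem_img]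
    constructor
    · rintro ⟨z, hz, rfl⟩
      obtain ⟨x, hx, rfl⟩ := hf0.mem_img.1 hz
      exact ⟨x, hx, hff x hx⟩
    · rintro ⟨x, hx, rfl⟩
      exact ⟨f₀ x, hf0.mem_img_of_mem hx, (hff x hx).symm⟩
  rw [e] at hgk2
  refine ⟨a⁻¹, Subgroup.inv_mem _ ha, _, hgk2, fun y hy => ?_⟩
  obtain ⟨x, hx, rfl⟩ := hfm.mem_img.1 hy
  rw [h1 x hx, hff x hx]
  show x = afn a⁻¹ (afn a (k (afn a⁻¹ (afn a (f₀ x)))))
  rw [hs.ba _ (hf0.mem hx), hk1 x hx, hs.ba _ (hPS hx)]

/-- The system `Aut_F(S) E₀`. -/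
def bigSysN [Finite S] (F : FusionSystem S) (p : ℕ) : FusionSystem S :=
  ofMaps F (BigN F p) BigN.maps BigN.congr BigN.conj BigN.comp BigN.inv

lemma genN_of_mem_pEl [Finite S] (hc : F.IsCentric P) (hN : F.IsFullyNormalized P) {κ : F.autGroup P}
    (hκ : κ ∈ pEl p (F.autGroup P)) :
    GenN F p P (afn (κ : MulAut P)) := by
  induction hκ using Subgroup.closure_induction with
  | mem x hx =>
    obtain ⟨k, hk⟩ := hx
    refine GenN.gen hc hN x.2 ⟨k, ?_⟩ le_rfl
    rw [← hk]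
    exact_mod_cast congrArg Subtype.val (pow_orderOf_eq_one x)
  | one =>
    exact (GenN.conj hc.1 S.one_mem).congr (fun x hx => by
      rw [Subgroup.coe_one, afn_one hx]; group)
  | mul a b _ _ ha hb =>
    exact (GenN.comp hb ha (fun x hx => afn_mem _ hx)).congr (fun x hx => by
      rw [Subgroup.coe_mul, afn_mul _ _ hx]; rfl)
  | inv a _ ha =>
    have hm := ha.maps
    have h1 : ∀ x ∈ P, afn ((a⁻¹ : F.autGroup P) : MulAut P) (afn (a : MulAut P) x) = x := by
      intro x hx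
      rw [Subgroup.coe_inv, afn_inv_afn _ hx]
    have hm2 : Maps F (img (afn (a : MulAut P)) P) (afn ((a⁻¹ : F.autGroup P) : MulAut P)) := by
      rw [afn_img]
      exact (mem_autGroup_iff hc.1).1 (a⁻¹).2
    have := GenN.inv ha hm2 h1
    rwa [afn_img] at this

/-- Every map of `F` is an automorphism of `S` following a map of `E₀`. -/
theorem le_bigSysN [Finite S] [Fact p.Prime] (hS : IsPGroup p S) (hF : F.IsSaturated p) :
    F ≤ bigSysN F p := by
  refine alperin_goldschmidt' hS hF _ (fun P hP IH => ?_)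
  by_cases he : P = S
  · subst he
    intro α hα
    rw [mem_autGroup_iff le_rfl]
    refine maps_ofMaps.2 ⟨α, hα, _root_.id, ?_, fun x _ => rfl⟩
    exact (GenN.conj (le_refl P) P.one_mem).congr (fun x _ => by simp)
  · have hE : F.IsEssential p P := by
      rcases hP with h | h
      · exact absurd h he
      · exact h
    obtain ⟨hc, hN, -⟩ := hE
    have hPS := hc.1
    have hlt : P < S := lt_of_le_of_ne hPS he
    obtain ⟨hC, hA⟩ := of_fullyNormalized hS hF hN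
    have hR := receptive_of_fullyCentralized hS hF hC
    haveI := finite_mulAut hPS
    obtain ⟨-, A, hA⟩ := hA
    intro α hα
    rw [mem_autGroup_iff hPS]
    obtain ⟨ν, κ, hκ, hβ, hν⟩ := Cfsg.Agent.Lib.FusionAlperin.frattini_inf A (pEl p (F.autGroup P))
      (⟨α, hα⟩ : F.autGroup P)
    have hAK : ∀ a ∈ (A : Subgroup (F.autGroup P)), a ∈ pEl p (F.autGroup P) := by
      intro a ha
      obtain ⟨k, hk⟩ := A.isPGroup' ⟨a, ha⟩
      exact mem_pEl_of_pow (n := k) (congrArg Subtype.val hk)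
    have hνm : Maps F P (afn (ν : MulAut P)) := (mem_autGroup_iff hPS).1 ν.2
    have hNf : normalizerIn S P ≤ Nf S P (afn (ν : MulAut P)) := by
      intro g hg
      have hgN := hg
      rw [mem_normalizerIn] at hg
      obtain ⟨hgS, hgn⟩ := hg
      refine mem_Nf.2 ⟨hgS, hgn, ?_⟩
      have hc1 : conjN S P ⟨g, hgN⟩ ∈ autInducedBy S P := by
        rw [← conjN_range]
        exact ⟨_, rfl⟩
      have hc2 : (⟨conjN S P ⟨g, hgN⟩, autInducedBy_le_autGroup hPS hc1⟩ : F.autGroup P) ∈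
          (A : Subgroup (F.autGroup P)) := by
        rw [hA]
        exact hc1
      have h3 := (hν _ ⟨hc2, hAK _ hc2⟩).1
      rw [hA] at h3
      obtain ⟨h, hh, h4⟩ := mem_autInducedBy.1 (Subgroup.mem_subgroupOf.1 h3)
      refine ⟨h, hh, fun x hx => ?_⟩
      have h5 := h4 _ (afn_mem (ν : MulAut P) hx)
      have e : (↑(ν * ⟨conjN S P ⟨g, hgN⟩, autInducedBy_le_autGroup hPS hc1⟩ * ν⁻¹ : F.autGroup P) : MulAut P)
          = (ν : MulAut P) * conjN S P ⟨g, hgN⟩ * (ν : MulAut P)⁻¹ := rfl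
      rw [e, afn_mul _ _ (afn_mem _ hx), afn_inv_afn _ hx, afn_mul _ _ hx, afn_conjN _ hx] at h5
      exact h5
    obtain ⟨k, hk, hk1⟩ := Cfsg.Agent.Lib.FusionCore.IsReceptive.ext hR hνm (afn_img _)
    have hNlt := Cfsg.Agent.Lib.FusionAlperin.lt_normalizerIn hS hlt
    have hcN : Nat.card P < Nat.card (normalizerIn S P) := by
      haveI : Finite (normalizerIn S P) := finite_of_le inf_le_left
      exact Cfsg.Agent.Lib.FusionAlperin.card_lt_of_lt hNlt
    have h1 := IH _ inf_le_left hcN k (hk.restrict hNf)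
    have h2 : Maps (bigSysN F p) P (afn (ν : MulAut P)) := (h1.restrict hNlt.le).congr hk1
    have h3 : Maps (bigSysN F p) P (afn (κ : MulAut P)) := by
      refine maps_ofMaps.2 ⟨1, Subgroup.one_mem _, _, genN_of_mem_pEl hc hN hκ, fun x hx => ?_⟩
      rw [afn_one (hPS (afn_mem _ hx))]
    refine (h3.comp h2 (fun x hx => afn_mem _ hx)).congr (fun x hx => ?_)
    have e : α = (ν : MulAut P) * κ := congrArg Subtype.val hβ
    rw [e, afn_mul _ _ hx]
    rfl

/-- Every `p`-automorphism lies in `E₀`. -/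
theorem genN_of_pow [Finite S] [Fact p.Prime] (hS : IsPGroup p S) (hF : F.IsSaturated p) (hP : P ≤ S)
    {α : MulAut P} (hα : α ∈ F.autGroup P) {n : ℕ} (hn : α ^ p ^ n = 1) : GenN F p P (afn α) := by
  obtain ⟨Q, hPQ, hQn⟩ := exists_fullyNormalized_conj (F := F) hP
  obtain ⟨-, hQa⟩ := of_fullyNormalized hS hF hQn
  have hW : IsPGroup p (Subgroup.zpowers α) := by
    rintro ⟨g, hg⟩
    obtain ⟨z, rfl⟩ := Subgroup.mem_zpowers_iff.1 hg
    refine ⟨n, Subtype.ext ?_⟩
    show (α ^ z) ^ p ^ n = 1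
    rw [← zpow_natCast, zpow_comm, zpow_natCast, hn, one_zpow]
  obtain ⟨φ, hφ, hφimg, hφW⟩ := Cfsg.Agent.Lib.FusionStancu.exists_good_map hPQ hQa hW
    (Subgroup.zpowers_le.2 hα)
  obtain ⟨s, hs, h1⟩ := hφW α (Subgroup.mem_zpowers α)
  have hB : BigN F p P φ := maps_ofMaps.1 (le_maps (le_bigSysN hS hF) hφ)
  obtain ⟨a, ha, f₀, h0, hf⟩ := hB
  have hf0 := h0.maps
  have hsA := sAut_of_mem ha
  obtain ⟨k, hk, hk1, hk2⟩ := hf0.inv
  have hgk := GenN.inv h0 hk hk1
  have ht : afn a⁻¹ s ∈ S := hsA.mB.mem hs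
  have key : ∀ x ∈ P, f₀ (afn α x) = afn a⁻¹ s * f₀ x * (afn a⁻¹ s)⁻¹ := by
    intro x hx
    have h2 := h1 x hx
    rw [hf _ (afn_mem α hx), hf x hx] at h2
    have h3 := congrArg (afn a⁻¹) h2
    rw [hsA.ba _ (hf0.mem (afn_mem α hx)), hsA.mB.map_conj hs (hsA.mA.mem (hf0.mem hx)),
      hsA.ba _ (hf0.mem hx)] at h3
    exact h3
  refine (GenN.comp (GenN.comp h0 (GenN.conj hf0.img_le ht) (fun x hx => hf0.mem_img_of_mem hx))
    hgk (fun x hx => ?_)).congr (fun x hx => ?_)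
  · show afn a⁻¹ s * f₀ x * (afn a⁻¹ s)⁻¹ ∈ _
    rw [← key x hx]
    exact hf0.mem_img_of_mem (afn_mem α hx)
  · show k (afn a⁻¹ s * f₀ x * (afn a⁻¹ s)⁻¹) = _
    rw [← key x hx, hk1 _ (afn_mem α hx)]

/-- A subsystem of `F` containing the `p`-automorphisms of the fully normalized centric subgroups has index prime to `p`. -/
theorem index_of_fn [Finite S] [Fact p.Prime] (hS : IsPGroup p S) (hF : F.IsSaturated p) (hEF : E.IsSubsystemOf F)
    (h : ∀ P : Subgroup Ω, F.IsCentric P → F.IsFullyNormalized P → ∀ α ∈ F.autGroup P, (∃ n : ℕ, α ^ p ^ n = 1) →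
      α ∈ E.autGroup P) : E.HasPrimeToPIndexIn F p := by
  refine ⟨hEF, fun P hP => ?_⟩
  rw [Subgroup.map_le_iff_le_comap, Subgroup.closure_le]
  rintro ⟨α, hα⟩ ⟨k, hk⟩
  have h1 : α ^ p ^ k = 1 := by
    rw [← hk]
    exact congrArg Subtype.val (pow_orderOf_eq_one (⟨α, hα⟩ : F.autGroup P))
  have hgen : ∀ P, F.IsCentric P → F.IsFullyNormalized P → ∀ α ∈ F.autGroup P, (∃ n : ℕ, α ^ p ^ n = 1) →
      Maps E P (afn α) := fun P hc hn α hα hp => (mem_autGroup_iff hc.1).1 (h P hc hn α hα hp)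
  exact (mem_autGroup_iff hP).2 (GenN.subsys hgen (genN_of_pow hS hF hP hα h1))

end Cfsg.Agent.Lib.FusionFnGen
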