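/-
FusionLimit: existence of residual limits, and their invariance under passing to subsystems of index prime to `p`.
-/
import Mathlib
import Cfsg.Agent.S5203
import Cfsg.Agent.Lib.FusionFnGen
import Cfsg.Agent.Lib.FusionOPower
import Cfsg.Agent.Lib.FusionPPower
import Cfsg.Agent.Lib.FusionPPrimeRes
import Cfsg.Agent.Lib.FusionResidual

set_option autoImplicit false
set_option linter.style.haveILetI false
set_option linter.unusedSectionVars false
set_option linter.unusedVariables false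

namespace Cfsg.Agent.Lib.FusionLimit

open Cfsg Cfsg.FusionSystem Cfsg.Agent.Lib.FusionCore Cfsg.Agent.Lib.FusionCore2
open Cfsg.Agent.Lib.FusionResidual (SameMaps eq_of_sameMaps pResidual_map_le le_of_pResidual_le autGroup_mono
  pPrimeResidual_unique eq_of_isPResidual_of_hyperfocal_eq limit_unique)
open Cfsg.Agent.Lib.FusionFnGen (index_of_fn)

universe u

variable {Ω : Type u} [Group Ω] {p : ℕ} [Fact p.Prime]

lemma sm_symm {A B : Subgroup Ω} {X : FusionSystem A} {Y : FusionSystem B} (h : SameMaps X Y) : SameMaps Y X :=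
  fun P => (h P).symm

lemma sm_trans {A B C : Subgroup Ω} {X : FusionSystem A} {Y : FusionSystem B} {Z : FusionSystem C}
    (h : SameMaps X Y) (h' : SameMaps Y Z) : SameMaps X Z := fun P => (h P).trans (h' P)

/-! ### Index prime to `p` -/

lemma mem_of_index {U : Subgroup Ω} {A B : FusionSystem U} (h : B.HasPrimeToPIndexIn A p) {P : Subgroup Ω}
    (hP : P ≤ U) {α : MulAut P} (hα : α ∈ A.autGroup P) {n : ℕ} (hn : α ^ p ^ n = 1) : α ∈ B.autGroup P := by
  have h1 : (⟨α, hα⟩ : A.autGroup P) ^ p ^ n = 1 := Subtype.ext hn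
  obtain ⟨k, -, hk⟩ := (Nat.dvd_prime_pow (Fact.out : p.Prime)).1 (orderOf_dvd_of_pow_eq_one h1)
  exact h.2 P hP ⟨_, Subgroup.subset_closure ⟨k, hk⟩, rfl⟩

lemma index_of_pow {U : Subgroup Ω} {A B : FusionSystem U} (hBA : B.IsSubsystemOf A)
    (h : ∀ P : Subgroup Ω, P ≤ U → ∀ α ∈ A.autGroup P, (∃ n : ℕ, α ^ p ^ n = 1) → α ∈ B.autGroup P) :
    B.HasPrimeToPIndexIn A p := by
  refine ⟨hBA, fun P hP => ?_⟩
  rw [Subgroup.map_le_iff_le_comap, Subgroup.closure_le]
  rintro ⟨α, hα⟩ ⟨k, hk⟩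
  refine h P hP α hα ⟨k, ?_⟩
  rw [← hk]
  exact congrArg Subtype.val (pow_orderOf_eq_one (⟨α, hα⟩ : A.autGroup P))

lemma index_trans {U : Subgroup Ω} {A B C : FusionSystem U} (h₁ : B.HasPrimeToPIndexIn A p)
    (h₂ : C.HasPrimeToPIndexIn B p) : C.HasPrimeToPIndexIn A p :=
  index_of_pow (fun P => (h₂.1 P).trans (h₁.1 P)) (fun P hP α hα ⟨n, hn⟩ =>
    mem_of_index h₂ hP (mem_of_index h₁ hP hα hn) hn)

lemma index_self {U : Subgroup Ω} (A : FusionSystem U) : A.HasPrimeToPIndexIn A p :=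
  index_of_pow (fun P => le_rfl) (fun P hP α hα _ => hα)

/-- The `p'`-residual of a subsystem of index prime to `p`. -/
lemma res_of_index {U : Subgroup Ω} {X X' c : FusionSystem U} (hX' : X.IsPPrimeResidual p X')
    (hcs : c.IsSaturated p) (hci : c.HasPrimeToPIndexIn X p) : c.IsPPrimeResidual p X' := by
  refine ⟨hX'.1, index_of_pow (hX'.2.2 c hcs hci) (fun P hP α hα ⟨n, hn⟩ => ?_),
    fun D₂ hD₂ h₂ => hX'.2.2 D₂ hD₂ (index_trans hci h₂)⟩
  exact mem_of_index hX'.2.1 hP (autGroup_mono hci.1 P hα) hn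

lemma res_self {U : Subgroup Ω} {X X' : FusionSystem U} (hX' : X.IsPPrimeResidual p X') :
    X'.IsPPrimeResidual p X' :=
  res_of_index hX' hX'.1 hX'.2.1

/-! ### Existence of residuals -/

lemma hyp_le {U : Subgroup Ω} (D : FusionSystem U) : D.hyperfocalSubgroup p ≤ U :=
  Cfsg.Agent.Lib.FusionHyperfocal.hyperfocal_le D p

lemma exists_pRes {U : Subgroup Ω} [Finite U] (hU : IsPGroup p U) {D : FusionSystem U} (hD : D.IsSaturated p) :
    ∃ X : FusionSystem (D.hyperfocalSubgroup p), D.IsPResidual p X := by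
  obtain ⟨E, h1, h2⟩ := Cfsg.Agent.Lib.FusionOPower.exists_saturated (p := p) _ U D hU hD _ (hyp_le D) le_rfl rfl
  exact ⟨E, h1, h2⟩

lemma exists_ppRes {U : Subgroup Ω} [Finite U] (hU : IsPGroup p U) {D : FusionSystem U} (hD : D.IsSaturated p) :
    ∃ G : FusionSystem U, D.IsPPrimeResidual p G :=
  ⟨_, Cfsg.Agent.Lib.FusionPPrimeRes.exists_res hU hD⟩

/-- Existence of the residual limit. -/
theorem exists_limit (n : ℕ) : ∀ (U : Subgroup Ω) [Finite U] (D : FusionSystem U), IsPGroup p U → D.IsSaturated p →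
    Nat.card U = n → ∃ (V : Subgroup Ω) (L : FusionSystem V), L.IsResidualLimitOf D p := by
  induction n using Nat.strong_induction_on with
  | _ n ih =>
  intro U _ D hU hD hn
  have hHU : D.hyperfocalSubgroup p ≤ U := hyp_le D
  haveI : Finite (D.hyperfocalSubgroup p) := finite_of_le hHU
  have hHp : IsPGroup p (D.hyperfocalSubgroup p) := hU.to_le hHU
  obtain ⟨X, hX⟩ := exists_pRes hU hD
  obtain ⟨X', hX'⟩ := exists_ppRes hHp hX.1
  by_cases he : D.hyperfocalSubgroup p = U
  · have hH₂ : X'.hyperfocalSubgroup p ≤ D.hyperfocalSubgroup p := hyp_le X'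
    by_cases he₂ : X'.hyperfocalSubgroup p = D.hyperfocalSubgroup p
    · exact ⟨_, X', IsResidualLimitOf.step D p X X' hX hX' (IsResidualLimitOf.stable X' p he₂ (res_self hX'))⟩
    · have hlt : X'.hyperfocalSubgroup p < D.hyperfocalSubgroup p := lt_of_le_of_ne hH₂ he₂
      have hc : Nat.card (X'.hyperfocalSubgroup p) < n := by
        rw [← hn]
        exact (Cfsg.Agent.Lib.FusionAlperin.card_lt_of_lt hlt).trans_le (Subgroup.card_le_of_le hHU)
      haveI : Finite (X'.hyperfocalSubgroup p) := finite_of_le hH₂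
      have hH₂p : IsPGroup p (X'.hyperfocalSubgroup p) := hHp.to_le hH₂
      obtain ⟨Y, hY⟩ := exists_pRes hHp hX'.1
      obtain ⟨Y', hY'⟩ := exists_ppRes hH₂p hY.1
      obtain ⟨V, L, hL⟩ := ih _ hc _ Y' hH₂p hY'.1 rfl
      exact ⟨V, L, IsResidualLimitOf.step D p X X' hX hX' (IsResidualLimitOf.step X' p Y Y' hY hY' hL)⟩
  · have hlt : D.hyperfocalSubgroup p < U := lt_of_le_of_ne hHU he
    have hc : Nat.card (D.hyperfocalSubgroup p) < n := by
      rw [← hn]
      exact Cfsg.Agent.Lib.FusionAlperin.card_lt_of_lt hlt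
    obtain ⟨V, L, hL⟩ := ih _ hc _ X' hHp hX'.1 rfl
    exact ⟨V, L, IsResidualLimitOf.step D p X X' hX hX' hL⟩

lemma exists_limit' {U : Subgroup Ω} [Finite U] {D : FusionSystem U} (hU : IsPGroup p U) (hD : D.IsSaturated p) :
    ∃ (V : Subgroup Ω) (L : FusionSystem V), L.IsResidualLimitOf D p :=
  exists_limit _ U D hU hD rfl

/-! ### `p`-power index -/

/-- A subgroup normalized by `S`. -/
lemma normal_of_conj {S T : Subgroup Ω} (hTS : T ≤ S) (h : ∀ s ∈ S, ∀ x ∈ T, s * x * s⁻¹ ∈ T) :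
    (T.subgroupOf S).Normal := by
  refine ⟨fun n hn g => ?_⟩
  rw [Subgroup.mem_subgroupOf] at hn ⊢
  exact h g g.2 n hn

/-- Residual limits do not change under passage to a subsystem of `p`-power index over a normal subgroup. -/
theorem limit_pPower {S T : Subgroup Ω} [Finite S] (hS : IsPGroup p S) {F : FusionSystem S} (hF : F.IsSaturated p)
    (hTS : T ≤ S) (hTn : (T.subgroupOf S).Normal) {E : FusionSystem T} (hEs : E.IsSaturated p)
    (hidx : E.HasPPowerIndexIn F p) {U V : Subgroup Ω} {Finf : FusionSystem U} (hFinf : Finf.IsResidualLimitOf F p)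
    {Einf : FusionSystem V} (hEinf : Einf.IsResidualLimitOf E p) : SameMaps Finf Einf :=
  Cfsg.Agent.S5203.result p hS F hF E
    (Cfsg.Agent.Lib.FusionPPower.main hS F hF T hTS hTn hidx.2.1 E hEs hidx) hidx Finf hFinf Einf hEinf

lemma hyp_normal {S : Subgroup Ω} [Finite S] (F : FusionSystem S) :
    ((F.hyperfocalSubgroup p).subgroupOf S).Normal :=
  normal_of_conj (hyp_le F) (fun _ hs _ hx => Cfsg.Agent.Lib.FusionHyperfocal.hyperfocal_conj hs hx)

/-! ### The key lemma -/

/-- Let `G` have index prime to `p` in `D`, let `X` have `p`-power index in `D`, and `c` have `p`-power index in `G`, with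
`X` and `c` over the same subgroup. Then `c` has index prime to `p` in `X`. -/
theorem key {U H : Subgroup Ω} [Finite U] (hU : IsPGroup p U) (hHU : H ≤ U) {D G : FusionSystem U}
    {X c : FusionSystem H} (hGD : G.HasPrimeToPIndexIn D p) (hXs : X.IsSaturated p) (hXi : X.HasPPowerIndexIn D p)
    (hcs : c.IsSaturated p) (hci : c.HasPPowerIndexIn G p) : c.HasPrimeToPIndexIn X p := by
  haveI : Finite H := finite_of_le hHU
  have hHp : IsPGroup p H := hU.to_le hHU
  have hcD : c.IsSubsystemOf D := fun P => (hci.1 P).trans (hGD.1 P)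
  have hcX : c.IsSubsystemOf X := le_of_pResidual_le hHp hcs (fun R hR =>
    (pResidual_map_le (autGroup_mono hcD R)).trans (hXi.2.2 R hR))
  refine index_of_fn hHp hXs hcX (fun R hc hn α hα ⟨m, hm⟩ => ?_)
  have hRH : R ≤ H := hc.1
  have hαD : α ∈ D.autGroup R := autGroup_mono hXi.1 R hα
  have hαG : α ∈ G.autGroup R := mem_of_index hGD (hRH.trans hHU) hαD hm
  haveI := finite_mulAut hRH
  obtain ⟨-, A, hA⟩ := (of_fullyNormalized hHp hXs hn).2
  let Y₀ : Subgroup (MulAut R) := X.autGroup R ⊓ G.autGroup R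
  have hIc : autInducedBy H R ≤ c.autGroup R := autInducedBy_le_autGroup hRH
  have hIY : autInducedBy H R ≤ Y₀ := le_inf (autInducedBy_le_autGroup hRH) (hIc.trans (autGroup_mono hci.1 R))
  have hIp : IsPGroup p (autInducedBy H R) := isPGroup_autInducedBy hHp
  have hIp' : IsPGroup p ((autInducedBy H R).subgroupOf Y₀) :=
    hIp.comap_of_injective Y₀.subtype Y₀.subtype_injective
  obtain ⟨Q, hQ⟩ := hIp'.exists_le_sylow
  obtain ⟨t, ht, n, hn', hx⟩ := Cfsg.Agent.Lib.PResid.exists_sylow_mul_pResidual Q (⟨α, hα, hαG⟩ : Y₀)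
  -- `t` is in `Aut_H(R)`
  let j : Y₀ →* X.autGroup R := Subgroup.inclusion inf_le_left
  have hj : Function.Injective j := Subgroup.inclusion_injective _
  have hQp : IsPGroup p ((Q : Subgroup Y₀).map j) := Q.isPGroup'.map j
  have hAQ : (A : Subgroup (X.autGroup R)) ≤ (Q : Subgroup Y₀).map j := by
    intro a ha
    rw [hA] at ha
    have h1 := Subgroup.mem_subgroupOf.1 ha
    refine ⟨⟨a, hIY h1⟩, hQ (Subgroup.mem_subgroupOf.2 h1), rfl⟩
  have hQe := A.is_maximal' hQp hAQ
  have htI : (t : MulAut R) ∈ autInducedBy H R := by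
    have h1 : j t ∈ (Q : Subgroup Y₀).map j := ⟨t, ht, rfl⟩
    rw [hQe, hA] at h1
    exact Subgroup.mem_subgroupOf.1 h1
  have hnc : (n : MulAut R) ∈ c.autGroup R := by
    have h1 := pResidual_map_le (p := p) (D₁ := Y₀) (D₂ := G.autGroup R) inf_le_right
    exact hci.2.2 R hRH (h1 ⟨n, hn', rfl⟩)
  have e : α = (t : MulAut R) * (n : MulAut R) := congrArg Subtype.val hx
  rw [e]
  exact Subgroup.mul_mem _ (hIc htI) hnc

/-! ### Invariance of the limit -/

lemma limit_congr {B U V : Subgroup Ω} (hB : B = U) {X₁ : FusionSystem B} {X₂ : FusionSystem U}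
    {L : FusionSystem V} (h : SameMaps X₁ X₂) (hL : L.IsResidualLimitOf X₂ p) : L.IsResidualLimitOf X₁ p := by
  subst hB
  rwa [eq_of_sameMaps h]

lemma res_same {B U : Subgroup Ω} [Finite U] (hU : IsPGroup p U) {D G : FusionSystem U} (hD : D.IsSaturated p)
    (hB : B = U) {X X' : FusionSystem B} (hXs : X.IsSaturated p) (hXi : X.HasPPowerIndexIn D p)
    (hX' : X.IsPPrimeResidual p X') (hG : D.IsPPrimeResidual p G) : SameMaps X' G := by
  subst hB
  have e : X = D := eq_of_sameMaps (eq_of_isPResidual_of_hyperfocal_eq hU hD rfl hXs hXi)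
  subst e
  rw [pPrimeResidual_unique hX' hG]
  intro P
  rfl

theorem limit_res (n : ℕ) : ∀ (U : Subgroup Ω) [Finite U] (D G : FusionSystem U), IsPGroup p U → D.IsSaturated p →
    D.IsPPrimeResidual p G → Nat.card U = n → ∀ {V V' : Subgroup Ω} {L : FusionSystem V} {L' : FusionSystem V'},
    L.IsResidualLimitOf D p → L'.IsResidualLimitOf G p → SameMaps L L' := by
  induction n using Nat.strong_induction_on with
  | _ n ih =>
  intro U _ D G hU hD hG hn V V' L L' hL hL'
  have hpp : p.Prime := Fact.out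
  have hHU : D.hyperfocalSubgroup p ≤ U := hyp_le D
  haveI : Finite (D.hyperfocalSubgroup p) := finite_of_le hHU
  have hHp : IsPGroup p (D.hyperfocalSubgroup p) := hU.to_le hHU
  obtain ⟨X, hX⟩ := exists_pRes hU hD
  obtain ⟨X', hX'⟩ := exists_ppRes hHp hX.1
  by_cases he : D.hyperfocalSubgroup p = U
  · have h1 : SameMaps X' G := res_same hU hD he hX.1 hX.2 hX' hG
    have h2 : L'.IsResidualLimitOf X' p := limit_congr he h1 hL'
    have h3 : L'.IsResidualLimitOf D p := IsResidualLimitOf.step D p X X' hX hX' h2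
    exact limit_unique hL hpp inferInstance hU h3
  · have hlt : D.hyperfocalSubgroup p < U := lt_of_le_of_ne hHU he
    have hc : Nat.card (D.hyperfocalSubgroup p) < n := by
      rw [← hn]
      exact Cfsg.Agent.Lib.FusionAlperin.card_lt_of_lt hlt
    have hGH : G.hyperfocalSubgroup p ≤ D.hyperfocalSubgroup p :=
      Cfsg.Agent.Lib.FusionOPower.hyperfocal_le_of_sub hG.2.1.1 le_rfl
    obtain ⟨c, hcs, hci⟩ := Cfsg.Agent.Lib.FusionOPower.exists_saturated (p := p) _ U G hU hG.1 _ hHU hGH rfl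
    have hcX : c.HasPrimeToPIndexIn X p := key hU hHU hG.2.1 hX.1 hX.2 hcs hci
    have hcr : c.IsPPrimeResidual p X' := res_of_index hX' hcs hcX
    obtain ⟨_, A₁, hA₁⟩ := exists_limit' hHp hX.1
    obtain ⟨_, A₂, hA₂⟩ := exists_limit' hHp hcs
    obtain ⟨_, A₃, hA₃⟩ := exists_limit' hHp hX'.1
    have e1 : SameMaps A₁ A₃ := ih _ hc _ X X' hHp hX.1 hX' rfl hA₁ hA₃
    have e2 : SameMaps A₂ A₃ := ih _ hc _ c X' hHp hcs hcr rfl hA₂ hA₃
    have e3 : SameMaps L A₁ := limit_pPower hU hD hHU (hyp_normal D) hX.1 hX.2 hL hA₁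
    have e4 : SameMaps L' A₂ := limit_pPower hU hG.1 hHU (hyp_normal D) hcs hci hL' hA₂
    exact sm_trans (sm_trans e3 e1) (sm_trans (sm_symm e2) (sm_symm e4))

/-- Residual limits do not change under passage to a saturated subsystem of index prime to `p`. -/
theorem limit_index {U : Subgroup Ω} [Finite U] (hU : IsPGroup p U) {D c : FusionSystem U} (hD : D.IsSaturated p)
    (hcs : c.IsSaturated p) (hci : c.HasPrimeToPIndexIn D p) {V V' : Subgroup Ω} {L : FusionSystem V}
    {L' : FusionSystem V'} (hL : L.IsResidualLimitOf D p) (hL' : L'.IsResidualLimitOf c p) : SameMaps L L' := by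
  obtain ⟨G, hG⟩ := exists_ppRes hU hD
  have hG' := res_of_index hG hcs hci
  obtain ⟨_, A, hA⟩ := exists_limit' hU hG.1
  exact sm_trans (limit_res _ U D G hU hD hG rfl hL hA) (sm_symm (limit_res _ U c G hU hcs hG' rfl hL' hA))

end Cfsg.Agent.Lib.FusionLimit
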