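/-
FusionCompP8: a saturated system whose `p`-residual subsystem is constrained is constrained; a system that is not
constrained has a component.
-/
import Mathlib
import Cfsg.Agent.Lib.FusionCompP7
import Cfsg.Agent.Lib.FusionLimit
import Cfsg.Agent.Lib.FusionGlaub1
import Cfsg.Agent.Lib.FusionFocalPhi

set_option autoImplicit false
set_option linter.unusedSectionVars false
set_option linter.unusedVariables false
set_option linter.unusedSimpArgs false
set_option linter.style.haveILetI false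

namespace Cfsg.Agent.Lib.FusionCompA

open Cfsg Cfsg.FusionSystem Cfsg.Agent.Lib.FusionCore Cfsg.Agent.Lib.FusionCore2 Cfsg.Agent.Lib.FusionGT Cfsg.Agent.Lib.FusionFactor
open Cfsg.Agent.Lib.FusionStrongClosed Cfsg.Agent.Lib.FusionQuotSat Cfsg.Agent.Lib.PCore
open Cfsg.Agent.Lib.FusionInvariant (Str Inv Frat isInvariantIn_iff str_of_inv_frat maps_sub StrongMem aut_maps strong_img_le BigE)
open Cfsg.Agent.Lib.AschCore
open Cfsg.Agent.Lib.FusionCentralQuot

universe u

variable {Ω : Type u} [Group Ω] {S : Subgroup Ω} {F : FusionSystem S} {p : ℕ}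

/-- **A system whose `p`-residual subsystem is constrained is constrained.** -/
theorem constrained_of_resid [Finite S] [Fact p.Prime] (hS : IsPGroup p S) (hF : F.IsSaturated p) {D : FusionSystem (F.hyperfocalSubgroup p)}
    (hDn : D.IsNormalIn F p) (hDc : D.IsConstrained p) : F.IsConstrained p := by
  have hHS : F.hyperfocalSubgroup p ≤ S := Cfsg.Agent.Lib.FusionLimit.hyp_le F
  obtain ⟨hDs, R, hRn, hRc⟩ := hDc
  have hQ₀n : F.IsNormal D.core := core_isNormal hS hF hDn.1
  have hRle : R ≤ D.core := le_sSup hRn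
  have hC₀ : centralizerIn (F.hyperfocalSubgroup p) D.core ≤ D.core := by
    intro c hc
    obtain ⟨h1, h2⟩ := mem_centralizerIn.1 hc
    exact hRle (hRc.2 R (isConj_refl hRc.1) (mem_centralizerIn.2 ⟨h1, fun y hy => h2 y (hRle hy)⟩))
  obtain ⟨D₀, hD₀⟩ := exists_centralizerSystem (F := F) hQ₀n.1
  have hD₀n := cent_isNormalIn hS hF hQ₀n hD₀
  have hYS : centralizerIn S D.core ≤ S := inf_le_left
  haveI : Finite (centralizerIn S D.core) := finite_of_le hYS
  have hYp : IsPGroup p (centralizerIn S D.core) := hS.to_le hYS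
  have hD₀s := hD₀n.1.1
  have hp' : ∀ P : Subgroup Ω, P ≤ centralizerIn S D.core → ∀ y ∈ D₀.autGroup P, (orderOf y).Coprime p → y = 1 := by
    intro P hPY y hy hcop
    have hym := (mem_autGroup_iff hPY).1 hy
    obtain ⟨hyF, -, hval, g, hg, hg1, hg2⟩ := (maps_cent hD₀).1 hym
    have hPS := hPY.trans hYS
    haveI : Finite P := finite_of_le hPS
    have hyA : y ∈ F.autGroup P := (mem_autGroup_iff hPS).2 hyF
    have hres : (⟨y, hyA⟩ : ↥(F.autGroup P)) ∈ pResidual p ↥(F.autGroup P) := Subgroup.subset_closure (by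
      show (orderOf (⟨y, hyA⟩ : ↥(F.autGroup P))).Coprime p
      rwa [Subgroup.orderOf_mk])
    have hw : ∀ x ∈ P, x⁻¹ * afn y x ∈ F.hyperfocalSubgroup p := fun x hx => by
      refine Subgroup.subset_closure ⟨P, ⟨y, hyA⟩, ⟨x, hx⟩, hPS, hres, ?_⟩
      rw [afn_of_mem y hx]
    have hfix : ∀ z ∈ P ⊓ D.core, afn y z = z := fun z hz => by
      rw [← hg1 z hz.1, hg2 z hz.2]
    have hW : ∀ x ∈ P, x⁻¹ * afn y x ∈ P ⊓ D.core := fun x hx => by
      have hc : x⁻¹ * afn y x ∈ centralizerIn S D.core := Subgroup.mul_mem _ (Subgroup.inv_mem _ (hPY hx)) (hval x hx)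
      refine ⟨P.mul_mem (P.inv_mem hx) (afn_mem y hx), hC₀ (mem_centralizerIn.2 ⟨hw x hx, (mem_centralizerIn.1 hc).2⟩)⟩
    haveI : Finite ↥(P ⊓ D.core) := finite_of_le (inf_le_left.trans hPS)
    have hpw := Cfsg.Agent.Lib.FusionPPrimeRes.pow_card_eq_one_of_fix y inf_le_left hfix hW
    obtain ⟨j, hj⟩ := IsPGroup.iff_card.1 (hS.to_le (inf_le_left.trans hPS : P ⊓ D.core ≤ S))
    rw [hj] at hpw
    have h3 : (orderOf y).Coprime (p ^ j) := Nat.Coprime.pow_right j hcop
    exact orderOf_eq_one_iff.1 (Nat.Coprime.eq_one_of_dvd h3 (orderOf_dvd_of_pow_eq_one hpw))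
  have hhyp : D₀.hyperfocalSubgroup p = ⊥ := by
    rw [eq_bot_iff]
    unfold hyperfocalSubgroup
    rw [Subgroup.closure_le]
    rintro _ ⟨P, α, x, hP, hα, rfl⟩
    have hα1 : α = 1 := by
      have hle : pResidual p ↥(D₀.autGroup P) ≤ ⊥ := by
        rw [pResidual, Subgroup.closure_le]
        intro a ha
        have h1 : (orderOf a).Coprime p := ha
        rw [← Subgroup.orderOf_coe] at h1
        have h2 := hp' P hP a a.2 h1
        exact Subgroup.mem_bot.2 (Subtype.ext h2)
      exact Subgroup.mem_bot.1 (hle hα)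
    subst hα1
    simp
  have hinner := Cfsg.Agent.Lib.FusionFocalPhi.inner_of_hyp_eq_bot hYp hD₀s hhyp
  have hYn : D₀.IsNormal (centralizerIn S D.core) := by
    refine isNormal_iff.2 ⟨le_rfl, fun P f hf => ?_⟩
    obtain ⟨φ, hφ, hfφ⟩ := id hf
    rw [hinner P] at hφ
    obtain ⟨-, t, ht, htv⟩ := hφ
    have hPY := hf.le
    have hle : P ⊔ centralizerIn S D.core ≤ centralizerIn S D.core := sup_le hPY le_rfl
    have hcm : Maps D₀ (P ⊔ centralizerIn S D.core) (fun x => t * x * t⁻¹) := Maps.conj hle ht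
    refine ⟨_, hcm, fun x hx => ?_, ?_⟩
    · rw [← hfφ ⟨x, hx⟩]
      exact (htv ⟨x, hx⟩).symm
    · refine img_eq_of_card (hcm.restrict le_sup_right) le_rfl le_rfl (fun x hx => ?_) le_rfl
      exact Subgroup.mul_mem _ (Subgroup.mul_mem _ ht hx) (Subgroup.inv_mem _ ht)
  have hYF : F.IsNormal (centralizerIn S D.core) := isNormal_of_sub hS hF hD₀n.1.2.2 hYn (fun a ha x hx => afn_mem a hx)
  have hsupn : F.IsNormal (D.core ⊔ centralizerIn S D.core) := Cfsg.Agent.S5145.isNormal_sup F _ _ hQ₀n hYF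
  refine ⟨hF, _, hsupn, hsupn.1, fun Q' hQ' => ?_⟩
  rw [sc_conj_eq (Cfsg.Agent.Lib.FusionCore3.stronglyClosed_of_isNormal hsupn) hQ']
  intro c hc
  obtain ⟨h1, h2⟩ := mem_centralizerIn.1 hc
  exact Subgroup.mem_sup_right (mem_centralizerIn.2 ⟨h1, fun y hy => h2 y (Subgroup.mem_sup_left hy)⟩)

/-- A system that is not constrained has a component. -/
theorem exists_component [Fact p.Prime] : ∀ (n : ℕ) {S : Subgroup Ω} [Finite S] (F : FusionSystem S), IsPGroup p S → F.IsSaturated p →
    Cfsg.Agent.Lib.FusionGlaub1.meas F = n → ¬ F.IsConstrained p → ∃ (T : Subgroup Ω) (C : FusionSystem T), C.IsComponentIn F p := by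
  intro n
  induction n using Nat.strong_induction_on with
  | _ n ih =>
    intro S _ F hS hF hn hnc
    by_contra hno
    have hprop : ∀ (T : Subgroup Ω) (N : FusionSystem T), N.IsNormalIn F p → (∃ P f, Maps F P f ∧ ¬ Maps N P f) → N.IsConstrained p := by
      rintro T N hN ⟨P, f, h1, h2⟩
      by_contra hNc
      have hTS := hN.1.2.2.2.1.1
      haveI : Finite T := finite_of_le hTS
      have hlt : Cfsg.Agent.Lib.FusionGlaub1.meas N < Cfsg.Agent.Lib.FusionGlaub1.meas F :=
        Cfsg.Agent.Lib.FusionGlaub1.meas_lt (fun P f hf => maps_sub hN.1.2.2.1 hf) h1 h2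
      obtain ⟨U, C, hC⟩ := ih _ (by omega) N (hS.to_le hTS) hN.1.1 rfl hNc
      exact hno ⟨U, C, IsSubnormalIn.step hC.1 hN, hC.2⟩
    apply hno
    have hhyp : F.hyperfocalSubgroup p = S := by
      by_contra hne
      have hle : F.hyperfocalSubgroup p ≤ S := Cfsg.Agent.Lib.FusionLimit.hyp_le F
      obtain ⟨D, hDs, hDi⟩ := Cfsg.Agent.Lib.FusionOPower.exists_saturated (Nat.card S) S F hS hF _ hle le_rfl rfl
      have hDn : D.IsNormalIn F p := Cfsg.Agent.Lib.FusionPPower.main hS F hF _ hle (Cfsg.Agent.Lib.FusionLimit.hyp_normal F) le_rfl D hDs hDi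
      have hDc := hprop _ D hDn ⟨S, _root_.id, Maps.id le_rfl, fun h => hne (le_antisymm hle h.le)⟩
      exact hnc (constrained_of_resid hS hF hDn hDc)
    have hQn : F.IsNormal F.core := Cfsg.Agent.S5145.result F
    obtain ⟨D₀, hD₀⟩ := exists_centralizerSystem (F := F) hQn.1
    have hD₀n := cent_isNormalIn hS hF hQn hD₀
    have hcore : F.core ≤ F.center := by
      by_cases hp₀ : ∃ P f, Maps F P f ∧ ¬ Maps D₀ P f
      · exfalso
        obtain ⟨-, R₁, hR₁n, hR₁c⟩ := hprop _ D₀ hD₀n hp₀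
        have hRn : F.IsNormal D₀.core := core_isNormal hS hF hD₀n.1
        have hRQ : D₀.core ≤ F.core := le_sSup hRn
        have hR₁le : R₁ ≤ D₀.core := le_sSup hR₁n
        have hYQ : centralizerIn S F.core ≤ F.core := by
          intro c hc
          apply hRQ
          apply hR₁le
          exact hR₁c.2 R₁ (isConj_refl hR₁c.1) (mem_centralizerIn.2 ⟨hc, fun y hy => (mem_centralizerIn.1 hc).2 y (hRQ (hR₁le hy))⟩)
        refine hnc ⟨hF, F.core, hQn, hQn.1, fun Q' hQ' => ?_⟩
        rw [sc_conj_eq (Cfsg.Agent.Lib.FusionCore3.stronglyClosed_of_isNormal hQn) hQ']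
        exact hYQ
      · push Not at hp₀
        have hcentral : F.IsCentral F.core := isCentral_iff.2 ⟨hQn.1, fun P f hf => ((maps_cent hD₀).1 (hp₀ P f hf)).2.2.2⟩
        exact le_sSup hcentral
    have hZc : F.IsCentral F.center := Cfsg.Agent.S5144.result F
    have hZS : F.center ≤ S := hZc.1
    have hZsc : F.StronglyClosed F.center := stronglyClosed_central hZc
    have hZn : F.IsNormal F.center := by
      refine isNormal_iff.2 ⟨hZS, fun P f hf => ?_⟩
      obtain ⟨g, hg, h1, h2⟩ := (isCentral_iff.1 hZc).2 P f hf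
      exact ⟨g, hg, h1, img_eq_of_card (hg.restrict le_sup_right) hZS hZS (fun x hx => by rw [h2 x hx]; exact hx) le_rfl⟩
    refine ⟨S, F, IsSubnormalIn.refl F p, hF, hhyp, fun E hE => ?_⟩
    have hθk : ∀ s : S, QuotientGroup.mk' (F.center.subgroupOf S) s = 1 ↔ (s : Ω) ∈ F.center := hE.2.1
    have hm := isSurjectiveMorphism_of_isFactorSystem hS hF hZsc hE
    have hkerZ : kerAlong (QuotientGroup.mk' (F.center.subgroupOf S)) = F.center := by
      ext z
      constructor
      · rintro ⟨s, hs, rfl⟩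
        exact (hθk s).1 hs
      · intro hz
        exact ⟨⟨z, hZS hz⟩, (hθk _).2 hz, rfl⟩
    have hEs : E.IsSaturated p := isSaturated_of_surjective hS hF hm (by rw [hkerZ]; exact hZsc)
    refine ⟨hEs, fun hbot => ?_, fun T' N' hN' => ?_⟩
    · have hSZ : S ≤ F.center := by
        intro s hs
        have h1 : QuotientGroup.mk' (F.center.subgroupOf S) ⟨s, hs⟩ ∈ (⊤ : Subgroup (↥S ⧸ F.center.subgroupOf S)) := Subgroup.mem_top _
        rw [hbot] at h1
        exact (hθk _).1 (Subgroup.mem_bot.1 h1)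
      refine hnc ⟨hF, F.center, hZn, hZS, fun Q' hQ' => ?_⟩
      rw [sc_conj_eq hZsc hQ']
      exact fun c hc => hSZ (mem_centralizerIn.1 hc).1
    have hPB : PB F F.center (QuotientGroup.mk' (F.center.subgroupOf S)) E N' p := ⟨hS, hF, hE, hZc, hN'⟩
    obtain ⟨N, hNn, hbar, hlift⟩ := hPB.exists_pullback
    by_cases hp₁ : ∃ P f, Maps F P f ∧ ¬ Maps N P f
    · left
      obtain ⟨-, R₁, hR₁n, hR₁c⟩ := hprop _ N hNn hp₁
      have hRn : F.IsNormal N.core := core_isNormal hS hF hNn.1
      have hRZ : N.core ≤ F.center := (le_sSup hRn : N.core ≤ F.core).trans hcore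
      have hR₁le : R₁ ≤ N.core := le_sSup hR₁n
      rw [eq_bot_iff]
      intro y hy
      obtain ⟨s, rfl⟩ := QuotientGroup.mk'_surjective (F.center.subgroupOf S) y
      have hsT : (s : Ω) ∈ preimageAlong (QuotientGroup.mk' (F.center.subgroupOf S)) T' := by
        refine mem_pre.2 ⟨s.2, ?_⟩
        rw [qf_of_mem _ s.2]
        exact hy
      have hsR : (s : Ω) ∈ R₁ := hR₁c.2 R₁ (isConj_refl hR₁c.1) (mem_centralizerIn.2 ⟨hsT, fun z hz => ?_⟩)
      · exact Subgroup.mem_bot.2 ((hθk s).2 (hRZ (hR₁le hsR)))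
      · exact (Subgroup.mem_centralizer_iff.1 (F.center_le_centralizer (hRZ (hR₁le hz))) s s.2).symm
    · right
      push Not at hp₁
      have hSle : S ≤ preimageAlong (QuotientGroup.mk' (F.center.subgroupOf S)) T' := (hp₁ S _root_.id (Maps.id le_rfl)).le
      refine ⟨?_, fun P' => ?_⟩
      · rw [eq_top_iff]
        intro y _
        obtain ⟨s, rfl⟩ := QuotientGroup.mk'_surjective (F.center.subgroupOf S) y
        have h1 := (mem_pre.1 (hSle s.2)).2
        rwa [qf_of_mem _ s.2] at h1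
      · ext φ
        constructor
        · exact fun hφ => hN'.1.2.2.1 P' hφ
        · intro hφ
          have hm₁ : Maps E P' (fn φ) := Maps.of_mem hφ
          obtain ⟨f, hf, hrel⟩ := maps_lift hE hm₁
          obtain ⟨f', hf', hrel'⟩ := hbar (hp₁ _ f hf)
          rw [img_pre hE hm₁.le] at hf'
          have hfin : Maps N' P' (fn φ) := hf'.congr (fun y hy => by
            obtain ⟨s, hs, rfl⟩ := exists_qf hE (hm₁.le hy)
            have hsp := mem_pre.2 ⟨hs, hy⟩
            rw [← hrel' _ hsp, hrel _ hsp])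
          exact hfin.mem_hom (fun x => (fn_coe φ x).symm)

/-- A subsystem subnormal in a constrained system is constrained. -/
theorem subnormal_constrained {T S : Subgroup Ω} {E : FusionSystem T} {F : FusionSystem S} {p : ℕ} (h : E.IsSubnormalIn F p) :
    p.Prime → Finite S → IsPGroup p S → F.IsConstrained p → T ≤ S ∧ E.IsConstrained p := by
  induction h with
  | refl F p => exact fun _ _ _ hc => ⟨le_rfl, hc⟩
  | @step U S E D F p hED hD ih =>
    intro hp hfin hS hc
    haveI : Fact p.Prime := ⟨hp⟩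
    have hUS : U ≤ S := hD.1.2.2.2.1.1
    haveI : Finite U := finite_of_le hUS
    have hDc : D.IsConstrained p := Cfsg.Agent.Lib.FusionConstrained.isConstrained_of_stronglyClosed hS hc hD.1.1 hD.1.2.2.1 hD.1.2.2.2.1
    obtain ⟨h1, h2⟩ := ih hp inferInstance (hS.to_le hUS) hDc
    exact ⟨h1.trans hUS, h2⟩

/-- **Constrained iff no component.** -/
theorem constrained_iff_no_component [Finite S] [Fact p.Prime] (hS : IsPGroup p S) (hF : F.IsSaturated p) :
    F.IsConstrained p ↔ ¬ ∃ (T : Subgroup Ω) (C : FusionSystem T), C.IsComponentIn F p := by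
  constructor
  · rintro hc ⟨T, C, hsub, hq⟩
    obtain ⟨h1, h2⟩ := subnormal_constrained hsub Fact.out inferInstance hS hc
    haveI : Finite T := finite_of_le h1
    exact qs_not_constrained (hS.to_le h1) hq h2
  · intro h
    by_contra hnc
    exact h (exists_component _ F hS hF rfl hnc)

end Cfsg.Agent.Lib.FusionCompA
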