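import Mathlib
import Cfsg.Agent.Lib.FusionSimpleGen

set_option autoImplicit false

/-!
# The simplicity criterion, for a group given by an embedding into a bigger group
-/

namespace Cfsg.Agent.Lib.FusionEmbed

open Cfsg Cfsg.Agent.Lib.FusionSimpleCrit Cfsg.Agent.Lib.FusionSimpleGen

variable {G A : Type*} [Group G] [Finite G] [Group A] (p : ℕ) [Fact p.Prime]

/-- Forward conjugation invariance implies membership in the normalizer for finite subgroups. -/
theorem mem_normalizer_of_conj {H : Type*} [Group H] [Finite H] (R : Subgroup H) (u : H)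
    (hu : ∀ r ∈ R, u * r * u⁻¹ ∈ R) : u ∈ Subgroup.normalizer (R : Set H) := by
  rw [Subgroup.mem_normalizer_iff]
  have hle : R.map (MulAut.conj u).toMonoidHom ≤ R := by
    rintro _ ⟨r, hr, rfl⟩
    exact hu r hr
  have hcard : Nat.card (R.map (MulAut.conj u).toMonoidHom) = Nat.card R :=
    Nat.card_congr (Subgroup.equivMapOfInjective R _ (MulAut.conj u).injective).symm.toEquiv
  have heq : R.map (MulAut.conj u).toMonoidHom = R := Subgroup.eq_of_le_of_card_ge hle (le_of_eq hcard.symm)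
  intro h
  constructor
  · exact hu h
  · intro hh
    rw [← heq] at hh
    obtain ⟨r, hr, hre⟩ := hh
    have : r = h := (MulAut.conj u).injective hre
    exact this ▸ hr

/-- The criterion: the group is given by an embedding `ι`. -/
theorem isSimple_of_embedding (ι : G →* A) (hι : Function.Injective ι) (S₀ : Subgroup A) (hS₀ : S₀ ≤ ι.range)
    (k m : ℕ) (hcS : Nat.card S₀ = p ^ k) (hcG : Nat.card G = p ^ k * m) (hm : ¬ p ∣ m)
    (hne : S₀ ≠ ⊥)
    (hcl : ∀ T : Subgroup A, T ≤ S₀ → (∀ t ∈ T, ∀ g ∈ ι.range, g * t * g⁻¹ ∈ S₀ → g * t * g⁻¹ ∈ T) → T = ⊥ ∨ T = S₀)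
    (w : A) (hw : w ∈ ι.range) (hwS : ∀ s ∈ S₀, w * s * w⁻¹ ∈ S₀) (R : Subgroup A) (hR : R ≤ S₀)
    (hRc : ∀ c ∈ ι.range, (∀ r ∈ R, c * r = r * c) → c ∈ R)
    (U : Set A) (hUr : U ⊆ ι.range) (hU : ∀ u ∈ U, (∀ r ∈ R, u * r * u⁻¹ ∈ R) ∧ ∃ k : ℕ, u ^ p ^ k = 1)
    (hwU : w ∈ Subgroup.closure U)
    (hN : ∀ g ∈ ι.range, (∀ s ∈ S₀, g * s * g⁻¹ ∈ S₀) → g ∈ Subgroup.closure ((S₀ : Set A) ∪ {w}))
    (S : Sylow p G) : (Cfsg.groupFusionSystem (S : Subgroup G)).IsSimple p := by
  classical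
  have hpp : p.Prime := Fact.out
  have hmap : (S₀.comap ι).map ι = S₀ := Subgroup.map_comap_eq_self hS₀
  have hcardS : Nat.card (S₀.comap ι) = p ^ k := by
    rw [← hcS, ← hmap, hmap]
    have := Nat.card_congr (Subgroup.equivMapOfInjective (S₀.comap ι) ι hι).toEquiv
    rw [hmap] at this
    exact this
  have hP : IsPGroup p (S₀.comap ι) := IsPGroup.of_card hcardS
  have hidx : ¬ p ∣ (S₀.comap ι).index := by
    have h1 := Subgroup.card_mul_index (S₀.comap ι)
    rw [hcardS, hcG] at h1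
    have hpos : 0 < p ^ k := pow_pos hpp.pos k
    have h2 := Nat.eq_of_mul_eq_mul_left hpos h1
    rwa [h2]
  let P : Sylow p G := hP.toSylow hidx
  have hPc : (P : Subgroup G) = S₀.comap ι := rfl
  obtain ⟨x₀, hx₀⟩ := hw
  have hmemP : ∀ x : G, x ∈ (P : Subgroup G) ↔ ι x ∈ S₀ := fun x => by rw [hPc]; rfl
  -- the hypotheses on `G`
  let R' : Subgroup G := R.comap ι
  have hR'map : R'.map ι = R := Subgroup.map_comap_eq_self (hR.trans hS₀)
  have hlocal : LocalGen p (P : Subgroup G) x₀ := by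
    refine ⟨?_, R', ?_, ?_, ?_⟩
    · intro s hs
      rw [hmemP] at hs ⊢
      rw [map_mul, map_mul, map_inv, hx₀]
      exact hwS _ hs
    · intro r hr
      rw [hmemP]
      exact hR hr
    · intro c hc
      show ι c ∈ R
      apply hRc _ ⟨c, rfl⟩
      intro r hr
      obtain ⟨r', hr', rfl⟩ := (hR.trans hS₀) hr
      have h1 := hc r' hr
      rw [← map_mul, h1, map_mul]
    · -- the closure
      let U' : Set G := ι ⁻¹' U
      have himg : ι '' U' = U := by
        apply Set.image_preimage_eq_of_subset hUr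
      have hcl1 : (Subgroup.closure U').map ι = Subgroup.closure U := by
        rw [MonoidHom.map_closure, himg]
      have h1 : w ∈ (Subgroup.closure U').map ι := by
        rw [hcl1]
        exact hwU
      obtain ⟨x₁, hx₁, hx₁e⟩ := h1
      have hxe : x₁ = x₀ := hι (hx₁e.trans hx₀.symm)
      rw [← hxe]
      refine (Subgroup.closure_mono ?_) hx₁
      intro u hu
      obtain ⟨h2, l, hl⟩ := hU _ hu
      refine ⟨mem_normalizer_of_conj _ _ ?_, ?_⟩
      · intro r hr
        show ι (u * r * u⁻¹) ∈ R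
        rw [map_mul, map_mul, map_inv]
        exact h2 _ hr
      · have h3 : u ^ p ^ l = 1 := by
          apply hι
          rw [map_pow, hl, map_one]
        obtain ⟨j, -, hj⟩ := (Nat.dvd_prime_pow hpp).mp (orderOf_dvd_of_pow_eq_one h3)
        exact ⟨j, hj⟩
  refine isSimple_of_generated' p P ?_ ?_ {x₀} ?_ ?_ S
  · intro hb
    apply hne
    rw [← hmap, ← hPc, hb, Subgroup.map_bot]
  · intro T hT hTc
    have h1 := hcl (T.map ι) ?_ ?_
    · rcases h1 with h1 | h1
      · left
        exact (Subgroup.map_eq_bot_iff_of_injective T hι).mp h1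
      · right
        apply Subgroup.map_injective hι
        rw [h1, hPc, hmap]
    · rintro _ ⟨t, ht, rfl⟩
      exact (hmemP t).mp (hT ht)
    · rintro _ ⟨t, ht, rfl⟩ _ ⟨g, rfl⟩ h2
      rw [← map_inv, ← map_mul, ← map_mul] at h2 ⊢
      exact ⟨_, hTc t ht g ((hmemP _).mpr h2), rfl⟩
  · rintro _ rfl
    exact hlocal
  · intro g hg
    have h1 := hN (ι g) ⟨g, rfl⟩ ?_
    · have himg : ι '' (((P : Subgroup G) : Set G) ∪ {x₀}) = (S₀ : Set A) ∪ {w} := by
        rw [Set.image_union, Set.image_singleton, hx₀]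
        congr 1
        have : ((P : Subgroup G) : Set G) = ((S₀.comap ι : Subgroup G) : Set G) := by rw [hPc]
        rw [this]
        exact Set.image_preimage_eq_of_subset hS₀
      have hcl1 : (Subgroup.closure (((P : Subgroup G) : Set G) ∪ {x₀})).map ι = Subgroup.closure ((S₀ : Set A) ∪ {w}) := by
        rw [MonoidHom.map_closure, himg]
      rw [← hcl1] at h1
      obtain ⟨x₁, hx₁, hx₁e⟩ := h1
      rwa [hι hx₁e] at hx₁
    · intro s hs
      obtain ⟨s', rfl⟩ := hS₀ hs
      rw [← map_inv, ← map_mul, ← map_mul]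
      exact (hmemP _).mp (hg s' ((hmemP s').mpr hs))

end Cfsg.Agent.Lib.FusionEmbed
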