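import Mathlib
import Cfsg.Agent.Lib.FusionEmbed

set_option autoImplicit false

/-!
# The simplicity criterion, for a central quotient of a group given by an embedding
-/

namespace Cfsg.Agent.Lib.FusionCover

open Cfsg.Agent.Lib.FusionEmbed

variable {G Γ A : Type*} [Group G] [Finite G] [Group Γ] [Finite Γ] [Group A] (p : ℕ) [Fact p.Prime]

/-- An element of central order coprime to `p` which is a quotient of elements of `p`-power order
is trivial. -/
theorem central_eq_one (hcop : Nat.Coprime p (Nat.card (Subgroup.center Γ))) {a b z : Γ} (n : ℕ)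
    (hz : z ∈ Subgroup.center Γ) (ha : a ^ p ^ n = 1) (hb : b ^ p ^ n = 1) (h : a = b * z) : z = 1 := by
  have hpp : p.Prime := Fact.out
  have hc : Commute b z := (Subgroup.mem_center_iff.mp hz b)
  have h1 : z ^ p ^ n = 1 := by
    have h2 : (b * z) ^ p ^ n = b ^ p ^ n * z ^ p ^ n := hc.mul_pow _
    rw [← h, ha, hb, one_mul] at h2
    exact h2.symm
  have h2 : z ^ Nat.card (Subgroup.center Γ) = 1 := by
    have h3 := pow_card_eq_one' (x := (⟨z, hz⟩ : Subgroup.center Γ))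
    exact congrArg Subtype.val h3
  have h3 : orderOf z ∣ Nat.gcd (p ^ n) (Nat.card (Subgroup.center Γ)) :=
    Nat.dvd_gcd (orderOf_dvd_of_pow_eq_one h1) (orderOf_dvd_of_pow_eq_one h2)
  rw [Nat.Coprime.gcd_eq_one (Nat.Coprime.pow_left n hcop), Nat.dvd_one, orderOf_eq_one_iff] at h3
  exact h3

/-- The criterion. -/
theorem isSimple_of_cover (j : Γ →* A) (hj : Function.Injective j) (e : G ≃* Γ ⧸ Subgroup.center Γ)
    (S₀ : Subgroup A) (hS₀ : S₀ ≤ j.range) (k m : ℕ) (hcS : Nat.card S₀ = p ^ k)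
    (hcG : Nat.card G = p ^ k * m) (hm : ¬ p ∣ m) (hcop : Nat.Coprime p (Nat.card (Subgroup.center Γ)))
    (hne : S₀ ≠ ⊥)
    (hcl : ∀ T : Subgroup A, T ≤ S₀ → (∀ t ∈ T, ∀ g ∈ j.range, g * t * g⁻¹ ∈ S₀ → g * t * g⁻¹ ∈ T) → T = ⊥ ∨ T = S₀)
    (w : A) (hw : w ∈ j.range) (hwS : ∀ s ∈ S₀, w * s * w⁻¹ ∈ S₀) (R : Subgroup A) (hR : R ≤ S₀)
    (hRc : ∀ c ∈ j.range, (∀ r ∈ R, c * r = r * c) → c ∈ R ⊔ (Subgroup.center Γ).map j)
    (U : Set A) (hUr : U ⊆ j.range) (hU : ∀ u ∈ U, (∀ r ∈ R, u * r * u⁻¹ ∈ R) ∧ ∃ k : ℕ, u ^ p ^ k = 1)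
    (hwU : w ∈ Subgroup.closure U)
    (hN : ∀ g ∈ j.range, (∀ s ∈ S₀, g * s * g⁻¹ ∈ S₀) →
      g ∈ Subgroup.closure ((S₀ : Set A) ∪ {w} ∪ ((Subgroup.center Γ).map j : Subgroup A)))
    (S : Sylow p G) : (Cfsg.groupFusionSystem (S : Subgroup G)).IsSimple p := by
  classical
  have hpp : p.Prime := Fact.out
  set Z : Subgroup Γ := Subgroup.center Γ with hZ
  let π : Γ →* Γ ⧸ Z := QuotientGroup.mk' Z
  have hπsurj : Function.Surjective π := QuotientGroup.mk'_surjective Z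
  have hπker : ∀ x : Γ, π x = 1 ↔ x ∈ Z := fun x => QuotientGroup.eq_one_iff x
  let S₁ : Subgroup Γ := S₀.comap j
  have hmap : S₁.map j = S₀ := Subgroup.map_comap_eq_self hS₀
  have hcardS₁ : Nat.card S₁ = p ^ k := by
    rw [← hcS]
    have := Nat.card_congr (Subgroup.equivMapOfInjective S₁ j hj).toEquiv
    rw [hmap] at this
    exact this
  have hpow : ∀ x ∈ S₁, x ^ p ^ k = 1 := by
    intro x hx
    have h3 := pow_card_eq_one' (x := (⟨x, hx⟩ : S₁))
    rw [hcardS₁] at h3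
    exact congrArg Subtype.val h3
  have hinterZ : ∀ x ∈ S₁, x ∈ Z → x = 1 := by
    intro x hx hz
    refine central_eq_one p hcop (a := 1) (b := x⁻¹) k hz (one_pow _) ?_ (by group)
    rw [inv_pow, hpow x hx, inv_one]
  -- conjugates landing in the image of `S₁` land in `S₁`
  have hlift : ∀ x ∈ S₁, ∀ g : Γ, π (g * x * g⁻¹) ∈ S₁.map π → g * x * g⁻¹ ∈ S₁ := by
    intro x hx g h
    obtain ⟨s, hs, hse⟩ := h
    have hz : s⁻¹ * (g * x * g⁻¹) ∈ Z := by
      rw [← hπker, map_mul, map_inv, ← hse]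
      group
    have h1 : g * x * g⁻¹ = s * (s⁻¹ * (g * x * g⁻¹)) := by group
    have h2 : s⁻¹ * (g * x * g⁻¹) = 1 := by
      refine central_eq_one p hcop (a := g * x * g⁻¹) (b := s) k hz ?_ (hpow s hs) h1
      rw [conj_pow, hpow x hx]
      group
    rw [h1, h2, mul_one]
    exact hs
  let Sb : Subgroup (Γ ⧸ Z) := S₁.map π
  have hcardSb : Nat.card Sb = p ^ k := by
    rw [← hcardS₁]
    have hbij : Function.Bijective (π.subgroupMap S₁) := by
      constructor
      · rw [injective_iff_map_eq_one]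
        rintro ⟨x, hx⟩ h
        have h1 : π x = 1 := congrArg Subtype.val h
        exact Subtype.ext (hinterZ x hx ((hπker x).mp h1))
      · exact π.subgroupMap_surjective S₁
    exact (Nat.card_congr (Equiv.ofBijective _ hbij)).symm
  obtain ⟨w', rfl⟩ := hw
  let R₁ : Subgroup Γ := R.comap j
  have hR₁ : R₁ ≤ S₁ := fun x hx => hR hx
  let Rb : Subgroup (Γ ⧸ Z) := R₁.map π
  have hrange : (e.toMonoidHom : G →* Γ ⧸ Z).range = ⊤ := MonoidHom.range_eq_top.mpr e.surjective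
  refine isSimple_of_embedding p e.toMonoidHom e.injective Sb (by rw [hrange]; exact le_top) k m hcardSb hcG hm
    ?_ ?_ (π w') (by rw [hrange]; trivial) ?_ Rb (Subgroup.map_mono hR₁) ?_ (π '' (j ⁻¹' U)) (by rw [hrange]; exact fun _ _ => trivial) ?_ ?_ ?_ S
  · intro hb
    apply hne
    rw [eq_bot_iff]
    intro x hx
    obtain ⟨x', rfl⟩ := hS₀ hx
    have h1 : π x' ∈ Sb := ⟨x', hx, rfl⟩
    rw [hb, Subgroup.mem_bot, hπker] at h1
    rw [hinterZ x' hx h1, map_one]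
    exact Subgroup.one_mem _
  · rw [hrange]
    intro T hT hTc
    let T₁ : Subgroup Γ := T.comap π ⊓ S₁
    have h1 := hcl (T₁.map j) (by rw [← hmap]; exact Subgroup.map_mono inf_le_right) ?_
    · rcases h1 with h1 | h1
      · left
        rw [eq_bot_iff]
        intro t ht
        obtain ⟨t', ht', rfl⟩ := hT ht
        have h2 : j t' ∈ T₁.map j := ⟨t', ⟨ht, ht'⟩, rfl⟩
        rw [h1, Subgroup.mem_bot] at h2
        have h3 : t' = 1 := hj (h2.trans (map_one j).symm)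
        rw [h3, map_one]
        exact Subgroup.one_mem _
      · right
        apply le_antisymm hT
        rintro _ ⟨s, hs, rfl⟩
        have h2 : j s ∈ T₁.map j := by
          rw [h1]
          exact hs
        obtain ⟨s', hs', hse⟩ := h2
        rw [← hj hse]
        exact hs'.1
    · rintro _ ⟨t, ht, rfl⟩ _ ⟨g, rfl⟩ h2
      rw [← map_inv, ← map_mul, ← map_mul] at h2 ⊢
      refine ⟨_, ⟨?_, h2⟩, rfl⟩
      show π (g * t * g⁻¹) ∈ T
      rw [map_mul, map_mul, map_inv]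
      refine hTc _ ht.1 _ trivial ?_
      rw [← map_inv, ← map_mul, ← map_mul]
      exact ⟨_, h2, rfl⟩
  · rintro _ ⟨s, hs, rfl⟩
    rw [← map_inv, ← map_mul, ← map_mul]
    refine ⟨_, ?_, rfl⟩
    show j (w' * s * w'⁻¹) ∈ S₀
    rw [map_mul, map_mul, map_inv]
    exact hwS _ hs
  · rw [hrange]
    intro c _ hc
    obtain ⟨c', rfl⟩ := hπsurj c
    have hcomm : ∀ r ∈ R, j c' * r = r * j c' := by
      intro r hr
      obtain ⟨r', rfl⟩ := hS₀ (hR hr)
      have hr' : r' ∈ R₁ := hr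
      have h1 := hc (π r') ⟨r', hr', rfl⟩
      have h2 : π (c' * r' * c'⁻¹) ∈ S₁.map π := by
        rw [map_mul, map_mul, map_inv, h1, mul_inv_cancel_right]
        exact ⟨r', hR₁ hr', rfl⟩
      have h3 := hlift r' (hR₁ hr') c' h2
      have hz : r'⁻¹ * (c' * r' * c'⁻¹) ∈ Z := by
        rw [← hπker, map_mul, map_mul, map_mul, map_inv, map_inv, h1]
        group
      have h4 := hinterZ _ (S₁.mul_mem (S₁.inv_mem (hR₁ hr')) h3) hz
      rw [← map_mul, ← map_mul]
      congr 1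
      rw [inv_mul_eq_one, eq_mul_inv_iff_mul_eq] at h4
      exact h4.symm
    have h1 := hRc _ ⟨c', rfl⟩ hcomm
    have hle : R ⊔ Z.map j ≤ (Rb.comap π).map j := by
      apply sup_le
      · intro r hr
        obtain ⟨r', rfl⟩ := hS₀ (hR hr)
        exact ⟨r', ⟨r', hr, rfl⟩, rfl⟩
      · rintro _ ⟨z, hz, rfl⟩
        refine ⟨z, ?_, rfl⟩
        show π z ∈ Rb
        rw [(hπker z).mpr hz]
        exact Subgroup.one_mem _
    obtain ⟨x, hx, hxe⟩ := hle h1
    rw [← hj hxe]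
    exact hx
  · rintro _ ⟨u', hu', rfl⟩
    obtain ⟨h1, l, hl⟩ := hU _ hu'
    refine ⟨?_, l, ?_⟩
    · rintro _ ⟨r, hr, rfl⟩
      rw [← map_inv, ← map_mul, ← map_mul]
      refine ⟨_, ?_, rfl⟩
      show j (u' * r * u'⁻¹) ∈ R
      rw [map_mul, map_mul, map_inv]
      exact h1 _ hr
    · rw [← map_pow]
      have h2 : u' ^ p ^ l = 1 := hj (by rw [map_pow, hl, map_one])
      rw [h2, map_one]
  · have hle : Subgroup.closure U ≤ (Subgroup.closure (j ⁻¹' U)).map j := by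
      rw [Subgroup.closure_le]
      intro u hu
      obtain ⟨u', rfl⟩ := hUr hu
      exact ⟨u', Subgroup.subset_closure hu, rfl⟩
    obtain ⟨x, hx, hxe⟩ := hle hwU
    rw [← hj hxe, ← MonoidHom.map_closure]
    exact ⟨x, hx, rfl⟩
  · rw [hrange]
    intro g _ hg
    obtain ⟨g', rfl⟩ := hπsurj g
    have h1 : ∀ s ∈ S₀, j g' * s * (j g')⁻¹ ∈ S₀ := by
      intro s hs
      obtain ⟨s', rfl⟩ := hS₀ hs
      rw [← map_inv, ← map_mul, ← map_mul]
      refine hlift s' hs g' ?_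
      rw [map_mul, map_mul, map_inv]
      exact hg _ ⟨s', hs, rfl⟩
    have h2 := hN _ ⟨g', rfl⟩ h1
    have hle : Subgroup.closure ((S₀ : Set A) ∪ {j w'} ∪ (Z.map j : Subgroup A)) ≤
        ((Subgroup.closure ((Sb : Set (Γ ⧸ Z)) ∪ {π w'})).comap π).map j := by
      rw [Subgroup.closure_le]
      rintro x ((hx | hx) | hx)
      · obtain ⟨s', rfl⟩ := hS₀ hx
        exact ⟨s', Subgroup.subset_closure (Or.inl ⟨s', hx, rfl⟩), rfl⟩
      · rw [Set.mem_singleton_iff] at hx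
        subst hx
        exact ⟨w', Subgroup.subset_closure (Or.inr rfl), rfl⟩
      · obtain ⟨z, hz, rfl⟩ := hx
        refine ⟨z, ?_, rfl⟩
        show π z ∈ Subgroup.closure ((Sb : Set (Γ ⧸ Z)) ∪ {π w'})
        rw [(hπker z).mpr hz]
        exact Subgroup.one_mem _
    obtain ⟨x, hx, hxe⟩ := hle h2
    rw [← hj hxe]
    exact hx

end Cfsg.Agent.Lib.FusionCover
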