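/-
FusionDQ: automorphism groups of dihedral and quaternion 2-groups of order at least 16 are 2-groups (S5112).
-/
import Mathlib
import Cfsg.Agent.Lib.FusionCore
import Cfsg.Agent.Lib.FusionAlperin

set_option autoImplicit false

namespace Cfsg.Agent.Lib.FusionDQ

open Cfsg Cfsg.FusionSystem Cfsg.Agent.Lib.FusionCore

/-- A group with a characteristic cyclic `2`-subgroup of index `2` has automorphism group a `2`-group. -/
theorem isPGroup_mulAut {G : Type*} [Group G] [Finite G] (C : Subgroup G) [IsCyclic C] {m : ℕ}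
    (hcard : Nat.card C = 2 ^ m) (hinv : ∀ (α : MulAut G), ∀ x ∈ C, α x ∈ C)
    (hC2 : ∀ x y, x ∉ C → y ∉ C → x⁻¹ * y ∈ C) : IsPGroup 2 (MulAut G) := by
  haveI : Fact (Nat.Prime 2) := ⟨Nat.prime_two⟩
  have hP : IsPGroup 2 (MulAut C) := by
    apply IsPGroup.of_card (n := m - 1)
    rw [IsCyclic.card_mulAut, hcard]
    by_cases hm : m = 0
    · subst hm; simp
    · rw [Nat.totient_prime_pow Nat.prime_two (Nat.pos_of_ne_zero hm)]
      simp
  intro α
  let β : MulAut C :=
    { toFun := fun x => ⟨α x, hinv α x x.2⟩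
      invFun := fun x => ⟨α⁻¹ x, hinv α⁻¹ x x.2⟩
      left_inv := fun x => Subtype.ext (by simp)
      right_inv := fun x => Subtype.ext (by simp)
      map_mul' := fun x y => Subtype.ext (by simp) }
  have hβ : ∀ (t : ℕ) (x : C), ((β ^ t) x : G) = (α ^ t) (x : G) := by
    intro t
    induction t with
    | zero => intro x; simp
    | succ t ih =>
      intro x
      rw [pow_succ, pow_succ, MulAut.mul_apply, MulAut.mul_apply, ih]
      rfl
  obtain ⟨k, hk⟩ := hP β
  let γ := α ^ 2 ^ k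
  have hγC : ∀ x ∈ C, γ x = x := by
    intro x hx
    have := hβ (2 ^ k) ⟨x, hx⟩
    rw [hk] at this
    exact this.symm
  have hγ2 : ∀ (t : ℕ) (x : G), x ∉ C → (γ ^ t) x = x * (x⁻¹ * γ x) ^ t := by
    intro t x hx
    have hy : γ x ∉ C := fun h => hx (by
      have := hγC _ h
      rwa [(γ.injective this)] at h)
    have hc := hC2 x (γ x) hx hy
    induction t with
    | zero => simp
    | succ t ih =>
      rw [pow_succ', MulAut.mul_apply, ih, _root_.map_mul, map_pow, hγC _ hc, pow_succ',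
        ← mul_assoc x, mul_inv_cancel_left]
  refine ⟨k + m, ?_⟩
  have hfin : γ ^ 2 ^ m = 1 := by
    ext x
    show (γ ^ 2 ^ m) x = x
    by_cases hx : x ∈ C
    · have : ∀ t : ℕ, (γ ^ t) x = x := by
        intro t
        induction t with
        | zero => simp
        | succ t ih => rw [pow_succ, MulAut.mul_apply, hγC x hx, ih]
      exact this _
    · rw [hγ2 _ x hx]
      have hy : γ x ∉ C := fun h => hx (by
        have := hγC _ h
        rwa [(γ.injective this)] at h)
      have hc := hC2 x (γ x) hx hy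
      have h1 : (⟨x⁻¹ * γ x, hc⟩ : C) ^ Nat.card C = 1 := pow_card_eq_one'
      rw [hcard] at h1
      have h2 := congrArg Subtype.val h1
      simp only [SubmonoidClass.mk_pow, OneMemClass.coe_one] at h2
      rw [h2, mul_one]
  rw [pow_add, pow_mul]
  exact hfin


theorem isPGroup_dihedral {n : ℕ} (hn : 4 ≤ n) : IsPGroup 2 (MulAut (DihedralGroup (2 ^ (n - 1)))) := by
  haveI : NeZero (2 ^ (n - 1)) := ⟨by positivity⟩
  let C : Subgroup (DihedralGroup (2 ^ (n - 1))) := Subgroup.zpowers (DihedralGroup.r 1)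
  have hrC : ∀ j, DihedralGroup.r j ∈ C := by
    intro j
    refine Subgroup.mem_zpowers_iff.2 ⟨(j.val : ℤ), ?_⟩
    rw [zpow_natCast, DihedralGroup.r_one_pow, ZMod.natCast_zmod_val]
  have h8 : 2 < 2 ^ (n - 1) := by
    calc 2 = 2 ^ 1 := rfl
      _ < 2 ^ (n - 1) := Nat.pow_lt_pow_right (by norm_num) (by omega)
  refine isPGroup_mulAut C (m := n - 1) ?_ (fun α x hx => ?_) (fun x y hx hy => ?_)
  · show Nat.card (Subgroup.zpowers (DihedralGroup.r (1 : ZMod (2 ^ (n - 1))))) = _
    rw [Nat.card_zpowers, DihedralGroup.orderOf_r_one]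
  · have h1 : α (DihedralGroup.r 1) ∈ C := by
      have ho : orderOf (α (DihedralGroup.r 1)) = 2 ^ (n - 1) := by
        rw [MulEquiv.orderOf_eq, DihedralGroup.orderOf_r_one]
      rcases h : α (DihedralGroup.r 1) with j | j
      · exact hrC j
      · rw [h, DihedralGroup.orderOf_sr] at ho
        omega
    obtain ⟨z, rfl⟩ := Subgroup.mem_zpowers_iff.1 hx
    rw [map_zpow]
    exact Subgroup.zpow_mem _ h1 z
  · rcases x with i | i
    · exact absurd (hrC i) hx
    · rcases y with j | j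
      · exact absurd (hrC j) hy
      · rw [DihedralGroup.inv_sr, DihedralGroup.sr_mul_sr]
        exact hrC _

theorem isPGroup_quaternion {n : ℕ} (hn : 4 ≤ n) : IsPGroup 2 (MulAut (QuaternionGroup (2 ^ (n - 2)))) := by
  haveI : NeZero (2 ^ (n - 2)) := ⟨by positivity⟩
  haveI : NeZero (2 * 2 ^ (n - 2)) := ⟨by positivity⟩
  let C : Subgroup (QuaternionGroup (2 ^ (n - 2))) := Subgroup.zpowers (QuaternionGroup.a 1)
  have hrC : ∀ j, QuaternionGroup.a j ∈ C := by
    intro j
    refine Subgroup.mem_zpowers_iff.2 ⟨(j.val : ℤ), ?_⟩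
    rw [zpow_natCast, QuaternionGroup.a_one_pow, ZMod.natCast_zmod_val]
  have h8 : 4 < 2 * 2 ^ (n - 2) := by
    have : 2 ^ 1 < 2 ^ (n - 2) := Nat.pow_lt_pow_right (by norm_num) (by omega)
    omega
  refine isPGroup_mulAut C (m := n - 1) ?_ (fun α x hx => ?_) (fun x y hx hy => ?_)
  · show Nat.card (Subgroup.zpowers (QuaternionGroup.a (1 : ZMod (2 * 2 ^ (n - 2))))) = _
    rw [Nat.card_zpowers, QuaternionGroup.orderOf_a_one, ← pow_succ']
    congr 1
    omega
  · have h1 : α (QuaternionGroup.a 1) ∈ C := by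
      have ho : orderOf (α (QuaternionGroup.a 1)) = 2 * 2 ^ (n - 2) := by
        rw [MulEquiv.orderOf_eq, QuaternionGroup.orderOf_a_one]
      rcases h : α (QuaternionGroup.a 1) with j | j
      · exact hrC j
      · rw [h, QuaternionGroup.orderOf_xa] at ho
        omega
    obtain ⟨z, rfl⟩ := Subgroup.mem_zpowers_iff.1 hx
    rw [map_zpow]
    exact Subgroup.zpow_mem _ h1 z
  · rcases x with i | i
    · exact absurd (hrC i) hx
    · rcases y with j | j
      · exact absurd (hrC j) hy
      · show QuaternionGroup.xa _ * QuaternionGroup.xa j ∈ C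
        rw [QuaternionGroup.xa_mul_xa]
        exact hrC _

/-- If `Aut(S)` is a `p`-group then `Aut_F(S)` is inner. -/
theorem autGroup_eq_of_isPGroup {Ω : Type*} [Group Ω] {S : Subgroup Ω} [Finite S] {p : ℕ} [Fact p.Prime]
    (hS : IsPGroup p S) (hA : IsPGroup p (MulAut S)) (F : FusionSystem S) (hF : F.IsSaturated p) :
    F.autGroup S = Cfsg.Inn S := by
  haveI := finite_mulAut (le_refl S)
  have hN : F.IsFullyNormalized S := by
    refine ⟨le_rfl, fun Q hQ => ?_⟩
    have hQS := IsConj_le' hQ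
    have e : S = Q := (Subgroup.eq_of_le_of_card_ge hQS (IsConj_card hQ).le).symm
    rw [← e]
  obtain ⟨-, hA'⟩ := of_fullyNormalized hS hF hN
  obtain ⟨-, A, hA2⟩ := hA'
  have htop := Cfsg.Agent.Lib.FusionAlperin.sylow_eq_top_of_isPGroup (hA.to_subgroup _) A
  apply le_antisymm
  · intro α hα
    have h1 : (⟨α, hα⟩ : F.autGroup S) ∈ (A : Subgroup (F.autGroup S)) := by
      rw [htop]; trivial
    rw [hA2] at h1
    obtain ⟨g, hg, h2⟩ := mem_autInducedBy.1 (Subgroup.mem_subgroupOf.1 h1)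
    refine ⟨⟨g, hg⟩, ?_⟩
    ext x
    have h3 := h2 _ x.2
    rw [afn_coe] at h3
    exact h3.symm
  · exact Inn_le_autGroup le_rfl

/-- S5112. -/
theorem main {Ω : Type*} [Group Ω] {S : Subgroup Ω} [Finite S] (n : ℕ) (hn : 4 ≤ n)
    (hshape : Nonempty (S ≃* DihedralGroup (2 ^ (n - 1))) ∨ Nonempty (S ≃* QuaternionGroup (2 ^ (n - 2))))
    (F : FusionSystem S) (hF : F.IsSaturated 2) : F.autGroup S = Cfsg.Inn S := by
  haveI : NeZero (2 ^ (n - 1)) := ⟨by positivity⟩
  haveI : NeZero (2 ^ (n - 2)) := ⟨by positivity⟩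
  have hcard : Nat.card S = 2 ^ n := by
    rcases hshape with ⟨⟨e⟩⟩ | ⟨⟨e⟩⟩
    · rw [Nat.card_congr e.toEquiv, DihedralGroup.nat_card, ← pow_succ']
      congr 1
      omega
    · rw [Nat.card_congr e.toEquiv, Nat.card_eq_fintype_card, QuaternionGroup.card]
      have : 2 ^ n = 2 ^ 2 * 2 ^ (n - 2) := by
        rw [← pow_add]
        congr 1
        omega
      omega
  have hS : IsPGroup 2 S := IsPGroup.of_card hcard
  have hA : IsPGroup 2 (MulAut S) := by
    rcases hshape with ⟨⟨e⟩⟩ | ⟨⟨e⟩⟩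
    · exact (isPGroup_dihedral hn).of_injective (MulAut.congr e).toMonoidHom (MulAut.congr e).injective
    · exact (isPGroup_quaternion hn).of_injective (MulAut.congr e).toMonoidHom (MulAut.congr e).injective
  exact autGroup_eq_of_isPGroup hS hA F hF

end Cfsg.Agent.Lib.FusionDQ
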