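/-
FusionDich: normalizer systems of constrained systems are constrained (via Thompson's `A × B` lemma); the dichotomy
between characteristic `p`-type and component type.
-/
import Mathlib
import Cfsg.Agent.Lib.FusionCompP8
import Cfsg.Agent.Lib.CharTwoLocal

set_option autoImplicit false
set_option linter.unusedSectionVars false
set_option linter.unusedVariables false
set_option linter.unusedSimpArgs false
set_option linter.style.haveILetI false

namespace Cfsg.Agent.Lib.FusionDich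

open Cfsg Cfsg.FusionSystem Cfsg.Agent.Lib.FusionCore Cfsg.Agent.Lib.FusionCore2 Cfsg.Agent.Lib.FusionGT
open Cfsg.Agent.Lib.PCore
open Cfsg.Agent.Lib.FusionInvariant (Str Inv Frat isInvariantIn_iff str_of_inv_frat maps_sub StrongMem aut_maps strong_img_le)
open Cfsg.Agent.Lib.AschCore
open Cfsg.Agent.Lib.FusionCompA
open Cfsg.Agent.Lib.FusionCompA.PB (mem_norm_img)

universe u

variable {Ω : Type u} [Group Ω] {S : Subgroup Ω} {F : FusionSystem S} {p : ℕ}

/-- Thompson's `A × B` lemma for an automorphism. -/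
lemma ab_aut [Fact p.Prime] {A Q V : Subgroup Ω} [Finite A] (hQA : Q ≤ A) (hVA : V ≤ A) (hQp : IsPGroup p Q) (hVp : IsPGroup p V)
    (hVN : ∀ v ∈ V, ∀ x ∈ Q, v * x * v⁻¹ ∈ Q) {γ : MulAut A} (hcop : (orderOf γ).Coprime p) (hγQ : ∀ x ∈ Q, afn γ x ∈ Q)
    (hγV : ∀ v ∈ V, afn γ v = v) (hC : ∀ x ∈ Q, (∀ v ∈ V, x * v = v * x) → afn γ x = x) : ∀ x ∈ Q, afn γ x = x := by
  classical
  let G := SemidirectProduct ↥A (MulAut ↥A) (MonoidHom.id (MulAut ↥A))
  let ι : ↥A →* G := SemidirectProduct.inl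
  have hι : Function.Injective ι := SemidirectProduct.inl_injective
  let y : G := SemidirectProduct.inr γ
  have hconj : ∀ a : ↥A, y * ι a * y⁻¹ = ι (γ a) := by
    intro a
    have := SemidirectProduct.inl_aut (φ := MonoidHom.id (MulAut ↥A)) γ a
    show SemidirectProduct.inr γ * SemidirectProduct.inl a * (SemidirectProduct.inr γ)⁻¹ = SemidirectProduct.inl (γ a)
    rw [← map_inv]
    exact this.symm
  haveI : Finite G := by
    have e : G ≃ ↥A × MulAut ↥A := SemidirectProduct.equivProd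
    exact Finite.of_equiv _ e.symm
  let P : Subgroup G := (Q.subgroupOf A).map ι
  let R : Subgroup G := (V.subgroupOf A).map ι
  have hP : IsPGroup p P := by
    have h1 : IsPGroup p (Q.subgroupOf A) := by
      intro g
      obtain ⟨k, hk⟩ := hQp ⟨g.1.1, Subgroup.mem_subgroupOf.1 g.2⟩
      refine ⟨k, Subtype.ext (Subtype.ext ?_)⟩
      have := congrArg Subtype.val hk
      simpa using this
    exact h1.map ι
  have hR : IsPGroup p R := by
    have h1 : IsPGroup p (V.subgroupOf A) := by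
      intro g
      obtain ⟨k, hk⟩ := hVp ⟨g.1.1, Subgroup.mem_subgroupOf.1 g.2⟩
      refine ⟨k, Subtype.ext (Subtype.ext ?_)⟩
      have := congrArg Subtype.val hk
      simpa using this
    exact h1.map ι
  have hRP : R ≤ Subgroup.normalizer (P : Set G) := by
    rintro _ ⟨v, hv, rfl⟩
    refine mem_normalizer_of_conj_mem (fun z hz => ?_)
    obtain ⟨x, hx, rfl⟩ := hz
    refine ⟨v * x * v⁻¹, Subgroup.mem_subgroupOf.2 (hVN _ (Subgroup.mem_subgroupOf.1 hv) _ (Subgroup.mem_subgroupOf.1 hx)), ?_⟩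
    simp [map_mul, map_inv]
  have hyP : y ∈ Subgroup.normalizer (P : Set G) := by
    refine mem_normalizer_of_conj_mem (fun z hz => ?_)
    obtain ⟨x, hx, rfl⟩ := hz
    rw [hconj]
    refine ⟨γ x, Subgroup.mem_subgroupOf.2 ?_, rfl⟩
    have := hγQ _ (Subgroup.mem_subgroupOf.1 hx)
    rwa [afn_coe] at this
  have hyR : ∀ r ∈ R, y * r = r * y := by
    rintro _ ⟨v, hv, rfl⟩
    have h1 := hconj v
    have h2 : γ v = v := by
      have := hγV _ (Subgroup.mem_subgroupOf.1 hv)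
      rw [afn_coe] at this
      exact Subtype.ext this
    rw [h2] at h1
    rw [mul_inv_eq_iff_eq_mul] at h1
    exact h1
  have hy : (orderOf y).Coprime p := by
    have : orderOf y = orderOf γ := orderOf_injective (SemidirectProduct.inr) SemidirectProduct.inr_injective γ
    rwa [this]
  have hCC : ∀ c ∈ P, (∀ r ∈ R, c * r = r * c) → y * c = c * y := by
    rintro _ ⟨x, hx, rfl⟩ hc
    have h1 : ∀ v ∈ V, (x : Ω) * v = v * x := by
      intro v hv
      have h2 := hc (ι ⟨v, hVA hv⟩) ⟨⟨v, hVA hv⟩, Subgroup.mem_subgroupOf.2 hv, rfl⟩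
      rw [← map_mul, ← map_mul] at h2
      exact congrArg Subtype.val (hι h2)
    have h3 := hC _ (Subgroup.mem_subgroupOf.1 hx) h1
    rw [afn_coe] at h3
    have h4 : γ x = x := Subtype.ext h3
    have h5 := hconj x
    rw [h4, mul_inv_eq_iff_eq_mul] at h5
    exact h5
  have hmain := Cfsg.Agent.Lib.CharTwoLocal.thompson_AB_elem hP hR hRP hyP hyR hy hCC
  intro x hx
  have h1 := hmain (ι ⟨x, hQA hx⟩) ⟨⟨x, hQA hx⟩, Subgroup.mem_subgroupOf.2 hx, rfl⟩
  have h2 := hconj ⟨x, hQA hx⟩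
  rw [mul_inv_eq_iff_eq_mul] at h2
  have h3 : γ ⟨x, hQA hx⟩ = ⟨x, hQA hx⟩ := hι (mul_right_cancel (h2.symm.trans h1))
  rw [afn_of_mem γ (hQA hx), h3]

/-- The common end of the arguments. -/
theorem constrained_of_cent [Finite S] [Fact p.Prime] (hS : IsPGroup p S) (hF : F.IsSaturated p) {W : Subgroup Ω} (hW : F.IsNormal W)
    {D₀ : FusionSystem (centralizerIn S W)} (hD₀ : F.IsCentralizerSystem W D₀)
    (hp' : ∀ P : Subgroup Ω, P ≤ centralizerIn S W → ∀ y ∈ D₀.autGroup P, (orderOf y).Coprime p → y = 1) : F.IsConstrained p := by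
  have hD₀n := cent_isNormalIn hS hF hW hD₀
  have hYS : centralizerIn S W ≤ S := inf_le_left
  haveI : Finite (centralizerIn S W) := finite_of_le hYS
  have hYp : IsPGroup p (centralizerIn S W) := hS.to_le hYS
  have hD₀s := hD₀n.1.1
  have hhyp : D₀.hyperfocalSubgroup p = ⊥ := by
    rw [eq_bot_iff]
    unfold hyperfocalSubgroup
    rw [Subgroup.closure_le]
    rintro _ ⟨P, α, x, hP, hα, rfl⟩
    have hα1 : α = 1 := by
      have hle : pResidual p ↥(D₀.autGroup P) ≤ ⊥ := by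
        rw [pResidual, Subgroup.closure_le]
        intro a ha
        have h1 : (orderOf a).Coprime p := ha
        rw [← Subgroup.orderOf_coe] at h1
        have h2 := hp' P hP a a.2 h1
        exact Subgroup.mem_bot.2 (Subtype.ext h2)
      exact Subgroup.mem_bot.1 (hle hα)
    subst hα1
    simp
  have hinner := Cfsg.Agent.Lib.FusionFocalPhi.inner_of_hyp_eq_bot hYp hD₀s hhyp
  have hYn : D₀.IsNormal (centralizerIn S W) := by
    refine isNormal_iff.2 ⟨le_rfl, fun P f hf => ?_⟩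
    obtain ⟨φ, hφ, hfφ⟩ := id hf
    rw [hinner P] at hφ
    obtain ⟨-, t, ht, htv⟩ := hφ
    have hPY := hf.le
    have hle : P ⊔ centralizerIn S W ≤ centralizerIn S W := sup_le hPY le_rfl
    have hcm : Maps D₀ (P ⊔ centralizerIn S W) (fun x => t * x * t⁻¹) := Maps.conj hle ht
    refine ⟨_, hcm, fun x hx => ?_, ?_⟩
    · rw [← hfφ ⟨x, hx⟩]
      exact (htv ⟨x, hx⟩).symm
    · refine img_eq_of_card (hcm.restrict le_sup_right) le_rfl le_rfl (fun x hx => ?_) le_rfl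
      exact Subgroup.mul_mem _ (Subgroup.mul_mem _ ht hx) (Subgroup.inv_mem _ ht)
  have hYF : F.IsNormal (centralizerIn S W) := isNormal_of_sub hS hF hD₀n.1.2.2 hYn (fun a ha x hx => afn_mem a hx)
  have hsupn : F.IsNormal (W ⊔ centralizerIn S W) := Cfsg.Agent.S5145.isNormal_sup F _ _ hW hYF
  refine ⟨hF, _, hsupn, hsupn.1, fun Q' hQ' => ?_⟩
  rw [sc_conj_eq (Cfsg.Agent.Lib.FusionCore3.stronglyClosed_of_isNormal hsupn) hQ']
  intro c hc
  obtain ⟨h1, h2⟩ := mem_centralizerIn.1 hc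
  exact Subgroup.mem_sup_right (mem_centralizerIn.2 ⟨h1, fun y hy => h2 y (Subgroup.mem_sup_left hy)⟩)

omit [Group Ω] in
lemma pow_fix {G : Type*} [Group G] {A : Subgroup G} (γ : MulAut A) {x : G} (hx : x ∈ A) (h : afn γ x = x) (n : ℕ) : afn (γ ^ n) x = x := by
  induction n with
  | zero => rw [pow_zero, afn_one hx]
  | succ n ih => rw [pow_succ, afn_mul _ _ hx, h, ih]

omit [Group Ω] in
lemma pow_stab {G : Type*} [Group G] {A Q : Subgroup G} (hQA : Q ≤ A) (γ : MulAut A) (h : ∀ x ∈ Q, afn γ x ∈ Q) (n : ℕ) : ∀ x ∈ Q, afn (γ ^ n) x ∈ Q := by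
  induction n with
  | zero =>
    intro x hx
    rw [pow_zero, afn_one (hQA hx)]
    exact hx
  | succ n ih =>
    intro x hx
    rw [pow_succ, afn_mul _ _ (hQA hx)]
    exact ih _ (h x hx)

/-- **The normalizer system of a fully normalized subgroup of a constrained system is constrained.** -/
theorem normalizer_constrained [Finite S] [Fact p.Prime] (hS : IsPGroup p S) (hF : F.IsConstrained p) {V : Subgroup Ω} (hV : F.IsFullyNormalized V)
    {N : FusionSystem (normalizerIn S V)} (hN : F.IsNormalizerSystem V N) : N.IsConstrained p := by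
  obtain ⟨hFs, Q₀, hQ₀n, hQ₀c⟩ := hF
  have hNs : N.IsSaturated p := Cfsg.Agent.Lib.FusionSatNorm.saturated_normalizer hS hFs hV hN
  have hRS : normalizerIn S V ≤ S := inf_le_left
  haveI : Finite (normalizerIn S V) := finite_of_le hRS
  have hRp : IsPGroup p (normalizerIn S V) := hS.to_le hRS
  have hVS := hV.1
  have hVR : V ≤ normalizerIn S V := le_normalizerIn hVS
  have hQ₀S := hQ₀n.1
  have hQ₀sc := Cfsg.Agent.Lib.FusionCore3.stronglyClosed_of_isNormal hQ₀n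
  have hWR : normalizerIn Q₀ V ⊔ V ≤ normalizerIn S V := sup_le (fun x hx => ⟨hQ₀S hx.1, hx.2⟩) hVR
  have hWn : N.IsNormal (normalizerIn Q₀ V ⊔ V) := by
    refine isNormal_iff.2 ⟨hWR, fun P φ hφ => ?_⟩
    obtain ⟨hφF, hPR, hval, ψ, hψ, hψ1, hψ2⟩ := (maps_norm_iff hN).1 hφ
    obtain ⟨g, hg, hg1, hg2⟩ := (isNormal_iff.1 hQ₀n).2 (P ⊔ V) ψ hψ
    have hVA : V ≤ (P ⊔ V) ⊔ Q₀ := le_sup_right.trans le_sup_left
    have hPA : P ≤ (P ⊔ V) ⊔ Q₀ := le_sup_left.trans le_sup_left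
    have hQA : Q₀ ≤ (P ⊔ V) ⊔ Q₀ := le_sup_right
    have hgVimg : img g V = V := (img_congr (fun x hx => hg1 x (Subgroup.mem_sup_right hx))).trans hψ2
    have hgV : ∀ v ∈ V, g v ∈ V := fun v hv => by
      rw [← hgVimg]
      exact (hg.restrict hVA).mem_img_of_mem hv
    have hgQ : ∀ x ∈ Q₀, g x ∈ Q₀ := fun x hx => by
      rw [← hg2]
      exact (hg.restrict hQA).mem_img_of_mem hx
    have hgNN : ∀ x ∈ normalizerIn Q₀ V, g x ∈ normalizerIn Q₀ V := fun x hx =>
      ⟨hgQ x hx.1, mem_norm_img hg hVA hgVimg (hQA hx.1) hx.2⟩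
    have hWA : normalizerIn Q₀ V ⊔ V ≤ (P ⊔ V) ⊔ Q₀ := sup_le (fun x hx => hQA hx.1) hVA
    have hgW : ∀ x ∈ normalizerIn Q₀ V ⊔ V, g x ∈ normalizerIn Q₀ V ⊔ V :=
      (hg.restrict hWA).sup_mem (fun x hx => Subgroup.mem_sup_left (hgNN x hx)) (fun x hx => Subgroup.mem_sup_right (hgV x hx))
    have hPWA : P ⊔ (normalizerIn Q₀ V ⊔ V) ≤ (P ⊔ V) ⊔ Q₀ := sup_le hPA hWA
    have hgm := hg.restrict hPWA
    have hgval : ∀ x ∈ P ⊔ (normalizerIn Q₀ V ⊔ V), g x ∈ normalizerIn S V := hgm.sup_mem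
      (fun x hx => by
        rw [hg1 x (Subgroup.mem_sup_left hx), hψ1 x hx]
        exact hval x hx)
      (fun x hx => hWR (hgW x hx))
    have hsupV : P ⊔ (normalizerIn Q₀ V ⊔ V) ⊔ V = P ⊔ (normalizerIn Q₀ V ⊔ V) := sup_eq_left.2 (le_sup_right.trans le_sup_right)
    have hgN : Maps N (P ⊔ (normalizerIn Q₀ V ⊔ V)) g := (maps_norm_iff hN).2
      ⟨hgm, sup_le hPR hWR, hgval, g, by rw [hsupV]; exact hgm, fun _ _ => rfl, hgVimg⟩
    refine ⟨g, hgN, fun x hx => ?_, img_eq_of_card (hg.restrict hWA) (hWR.trans hRS) (hWR.trans hRS) hgW le_rfl⟩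
    rw [hg1 x (Subgroup.mem_sup_left hx), hψ1 x hx]
  obtain ⟨D₀, hD₀⟩ := exists_centralizerSystem (F := N) hWR
  refine constrained_of_cent hRp hNs hWn hD₀ (fun P hPY y hy hcop => ?_)
  have hYR : centralizerIn (normalizerIn S V) (normalizerIn Q₀ V ⊔ V) ≤ normalizerIn S V := inf_le_left
  have hPR := hPY.trans hYR
  have hPS := hPR.trans hRS
  have hym := (mem_autGroup_iff hPY).1 hy
  obtain ⟨hyN, -, hval, g₁, hg₁, hg₁1, hg₁2⟩ := (maps_cent hD₀).1 hym
  obtain ⟨hg₁F, hle₁, hval₁, -⟩ := (maps_norm_iff hN).1 hg₁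
  obtain ⟨g₂, hg₂, h21, h22⟩ := (isNormal_iff.1 hQ₀n).2 _ g₁ hg₁F
  have hAS : (P ⊔ (normalizerIn Q₀ V ⊔ V)) ⊔ Q₀ ≤ S := hg₂.le
  haveI : Finite ↥((P ⊔ (normalizerIn Q₀ V ⊔ V)) ⊔ Q₀) := finite_of_le hAS
  have hPA : P ≤ (P ⊔ (normalizerIn Q₀ V ⊔ V)) ⊔ Q₀ := le_sup_left.trans le_sup_left
  have hWA : normalizerIn Q₀ V ⊔ V ≤ (P ⊔ (normalizerIn Q₀ V ⊔ V)) ⊔ Q₀ := le_sup_right.trans le_sup_left
  have hQA : Q₀ ≤ (P ⊔ (normalizerIn Q₀ V ⊔ V)) ⊔ Q₀ := le_sup_right
  have hVA : V ≤ (P ⊔ (normalizerIn Q₀ V ⊔ V)) ⊔ Q₀ := le_sup_right.trans hWA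
  have hg₂Q : ∀ x ∈ Q₀, g₂ x ∈ Q₀ := fun x hx => by
    rw [← h22]
    exact (hg₂.restrict hQA).mem_img_of_mem hx
  have hg₂W : ∀ x ∈ normalizerIn Q₀ V ⊔ V, g₂ x = x := fun x hx => by
    rw [h21 x (Subgroup.mem_sup_right hx), hg₁2 x hx]
  have hg₂P : ∀ x ∈ P, g₂ x = afn y x := fun x hx => by
    rw [h21 x (Subgroup.mem_sup_left hx), hg₁1 x hx]
  have hstab : ∀ x ∈ (P ⊔ (normalizerIn Q₀ V ⊔ V)) ⊔ Q₀, g₂ x ∈ (P ⊔ (normalizerIn Q₀ V ⊔ V)) ⊔ Q₀ := by
    refine hg₂.sup_mem (fun x hx => ?_) (fun x hx => hQA (hg₂Q x hx))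
    refine (hg₂.restrict (le_sup_left : P ⊔ (normalizerIn Q₀ V ⊔ V) ≤ _)).sup_mem (fun z hz => ?_) (fun z hz => ?_) x hx
    · rw [hg₂P z hz]
      exact hPA (afn_mem y hz)
    · rw [hg₂W z hz]
      exact hWA hz
  have himg := img_eq_of_card hg₂ hAS hAS hstab le_rfl
  obtain ⟨γ, hγ, hγv⟩ : ∃ γ : MulAut ↥((P ⊔ (normalizerIn Q₀ V ⊔ V)) ⊔ Q₀), γ ∈ F.autGroup _ ∧ ∀ x ∈ (P ⊔ (normalizerIn Q₀ V ⊔ V)) ⊔ Q₀, afn γ x = g₂ x :=
    ⟨hg₂.toAut himg, hg₂.toAut_mem himg, fun x hx => hg₂.afn_toAut himg hx⟩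
  obtain ⟨m, hm1, hm2⟩ := exists_restrict_pow p hPA (γ := γ) (χ := y) (fun x hx => by rw [hγv x (hPA hx), hg₂P x hx]) hcop
  have hγW : ∀ x ∈ normalizerIn Q₀ V ⊔ V, afn (γ ^ m) x = x := fun x hx =>
    pow_fix γ (hWA hx) (by rw [hγv x (hWA hx), hg₂W x hx]) m
  have hγQ : ∀ x ∈ Q₀, afn (γ ^ m) x ∈ Q₀ := pow_stab hQA γ (fun x hx => by
    rw [hγv x (hQA hx)]
    exact hg₂Q x hx) m
  have hQ₀p : IsPGroup p Q₀ := hS.to_le hQ₀S
  have hfixQ : ∀ x ∈ Q₀, afn (γ ^ m) x = x := by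
    refine ab_aut hQA hVA hQ₀p (hS.to_le hVS) (fun v hv x hx => sc_conj hQ₀sc (hVS hv) hx) hm1 hγQ
      (fun v hv => hγW v (Subgroup.mem_sup_right hv)) (fun x hx hc => hγW x (Subgroup.mem_sup_left ⟨hx, ?_⟩))
    exact mem_normalizer_of_conj_eq (fun v hv => by
      rw [hc v hv]
      group)
  have hγ'm := (mem_autGroup_iff hAS).1 (Subgroup.pow_mem _ hγ m)
  have hcent : ∀ a ∈ (P ⊔ (normalizerIn Q₀ V ⊔ V)) ⊔ Q₀, a⁻¹ * afn (γ ^ m) a ∈ Q₀ := by
    intro a ha
    have haS := hAS ha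
    refine hQ₀c.2 Q₀ (isConj_refl hQ₀S) (mem_centralizerIn.2 ⟨S.mul_mem (S.inv_mem haS) (hγ'm.mem ha), fun x hx => ?_⟩)
    have hc₁ : a * x * a⁻¹ ∈ Q₀ := sc_conj hQ₀sc haS hx
    have e1 := hγ'm.map_conj ha (hQA hx)
    rw [hfixQ _ hc₁, hfixQ x hx] at e1
    obtain ⟨b, hb⟩ : ∃ b, b = afn (γ ^ m) a := ⟨_, rfl⟩
    rw [← hb] at e1 ⊢
    have e2 : x = a⁻¹ * (b * x * b⁻¹) * a := by
      rw [← e1]
      group
    calc x * (a⁻¹ * b) = a⁻¹ * (b * x * b⁻¹) * a * (a⁻¹ * b) := by rw [← e2]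
      _ = a⁻¹ * b * x := by group
  haveI : Finite Q₀ := finite_of_le hQ₀S
  have hpw := Cfsg.Agent.Lib.FusionPPrimeRes.pow_card_eq_one_of_fix (γ ^ m) hQA hfixQ hcent
  obtain ⟨j, hj⟩ := IsPGroup.iff_card.1 hQ₀p
  rw [hj] at hpw
  have h3 : (orderOf (γ ^ m)).Coprime (p ^ j) := Nat.Coprime.pow_right j hm1
  have h4 : γ ^ m = 1 := orderOf_eq_one_iff.1 (Nat.Coprime.eq_one_of_dvd h3 (orderOf_dvd_of_pow_eq_one hpw))
  apply afn_ext
  intro x hx
  rw [← hm2 x hx, h4, afn_one (hPA hx), afn_one hx]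

/-- Conjugation between normalizers. -/
structure CN (F : FusionSystem S) (U U' : Subgroup Ω) (f fi : Ω → Ω) : Prop where
  hf : Maps F (normalizerIn S U) f
  hfi : Maps F (normalizerIn S U') fi
  h1 : ∀ x ∈ normalizerIn S U, f x ∈ normalizerIn S U'
  h2 : ∀ y ∈ normalizerIn S U', fi y ∈ normalizerIn S U
  h3 : ∀ x ∈ normalizerIn S U, fi (f x) = x
  h4 : ∀ y ∈ normalizerIn S U', f (fi y) = y
  himg : img f U = U'
  himg' : img fi U' = U
  hUS : U ≤ S
  hU'S : U' ≤ S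

lemma CN.symm {U U' : Subgroup Ω} {f fi : Ω → Ω} (h : CN F U U' f fi) : CN F U' U fi f :=
  ⟨h.hfi, h.hf, h.h2, h.h1, h.h4, h.h3, h.himg', h.himg, h.hU'S, h.hUS⟩

lemma conj_norm [Finite S] {U U' : Subgroup Ω} {f fi : Ω → Ω} (h : CN F U U' f fi) {N : FusionSystem (normalizerIn S U)} {N' : FusionSystem (normalizerIn S U')}
    (hN : F.IsNormalizerSystem U N) (hN' : F.IsNormalizerSystem U' N') {P : Subgroup Ω} {φ : Ω → Ω} (hφ : Maps N P φ) : Maps N' (img f P) (f ∘ φ ∘ fi) := by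
  obtain ⟨hφF, hPR, hval, ψ, hψ, hψ1, hψ2⟩ := (maps_norm_iff hN).1 hφ
  have hUR : U ≤ normalizerIn S U := le_normalizerIn h.hUS
  have hU'R : U' ≤ normalizerIn S U' := le_normalizerIn h.hU'S
  have hPU : P ⊔ U ≤ normalizerIn S U := sup_le hPR hUR
  have hfPU := h.hf.restrict hPU
  have himgU : img f U = U' := h.himg
  have e : img f (P ⊔ U) = img f P ⊔ U' := by rw [hfPU.img_sup, himgU]
  have hψU : ∀ x ∈ U, ψ x ∈ U := fun x hx => by
    have := (hψ.restrict (le_sup_right : U ≤ P ⊔ U)).mem_img_of_mem hx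
    rwa [hψ2] at this
  have hψR : ∀ x ∈ P ⊔ U, ψ x ∈ normalizerIn S U := hψ.sup_mem
    (fun x hx => by
      rw [hψ1 x hx]
      exact hval x hx)
    (fun x hx => hUR (hψU x hx))
  have himgR : img f (P ⊔ U) ≤ normalizerIn S U' := by
    intro y hy
    obtain ⟨x, hx, rfl⟩ := hfPU.mem_img.1 hy
    exact h.h1 x (hPU hx)
  have hmem : ∀ y ∈ img f (P ⊔ U), fi y ∈ P ⊔ U := by
    intro y hy
    obtain ⟨x, hx, rfl⟩ := hfPU.mem_img.1 hy
    rw [h.h3 x (hPU hx)]
    exact hx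
  have hψ' : Maps F (img f (P ⊔ U)) (f ∘ ψ ∘ fi) := (h.hfi.restrict himgR).comp (hψ.comp h.hf hψR) hmem
  have hle : img f P ≤ img f (P ⊔ U) := hfPU.img_mono le_sup_left
  have hval' : ∀ y ∈ img f P, (f ∘ φ ∘ fi) y ∈ normalizerIn S U' := by
    intro y hy
    obtain ⟨x, hx, rfl⟩ := (h.hf.restrict hPR).mem_img.1 hy
    simp only [Function.comp]
    rw [h.h3 x (hPR hx)]
    exact h.h1 _ (hval x hx)
  have hcong : ∀ y ∈ img f P, (f ∘ ψ ∘ fi) y = (f ∘ φ ∘ fi) y := by
    intro y hy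
    obtain ⟨x, hx, rfl⟩ := (h.hf.restrict hPR).mem_img.1 hy
    simp only [Function.comp]
    rw [h.h3 x (hPR hx), hψ1 x hx]
  refine (maps_norm_iff hN').2 ⟨(hψ'.restrict hle).congr hcong, hle.trans himgR, hval', f ∘ ψ ∘ fi, by rw [← e]; exact hψ', hcong, ?_⟩
  have hU'le : U' ≤ img f (P ⊔ U) := by
    rw [e]
    exact le_sup_right
  refine img_eq_of_card (hψ'.restrict hU'le) h.hU'S h.hU'S (fun y hy => ?_) le_rfl
  rw [← himgU] at hy ⊢
  obtain ⟨u, hu, rfl⟩ := (h.hf.restrict hUR).mem_img.1 hy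
  simp only [Function.comp]
  rw [h.h3 u (hUR hu)]
  exact (h.hf.restrict hUR).mem_img_of_mem (hψU u hu)

/-- Transport of constraint between conjugate normalizer systems. -/
theorem constrained_transport [Finite S] {U U' : Subgroup Ω} {f fi : Ω → Ω} (h : CN F U U' f fi) {N : FusionSystem (normalizerIn S U)} {N' : FusionSystem (normalizerIn S U')}
    (hN : F.IsNormalizerSystem U N) (hN' : F.IsNormalizerSystem U' N') (hNs : N.IsSaturated p) (hc : N'.IsConstrained p) : N.IsConstrained p := by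
  obtain ⟨-, Q', hQ'n, hQ'c⟩ := hc
  have hQ'R := hQ'n.1
  have hRS : normalizerIn S U ≤ S := inf_le_left
  haveI : Finite (normalizerIn S U) := finite_of_le hRS
  have hfiQ := h.hfi.restrict hQ'R
  have hQR : img fi Q' ≤ normalizerIn S U := by
    intro y hy
    obtain ⟨q, hq, rfl⟩ := hfiQ.mem_img.1 hy
    exact h.h2 q (hQ'R hq)
  have mem1 : ∀ x ∈ img fi Q', f x ∈ Q' := by
    intro y hy
    obtain ⟨q, hq, rfl⟩ := hfiQ.mem_img.1 hy
    rw [h.h4 q (hQ'R hq)]
    exact hq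
  have mem2 : ∀ q ∈ Q', fi q ∈ img fi Q' := fun q hq => hfiQ.mem_img_of_mem hq
  have hnormal : N.IsNormal (img fi Q') := by
    refine isNormal_iff.2 ⟨hQR, fun P φ hφ => ?_⟩
    have hφ' := conj_norm h hN hN' hφ
    obtain ⟨g', hg', hg'1, hg'2⟩ := (isNormal_iff.1 hQ'n).2 _ _ hφ'
    have hback := conj_norm h.symm hN' hN hg'
    have hPR := hφ.le
    have hPR' : img f P ≤ normalizerIn S U' := by
      intro y hy
      obtain ⟨x, hx, rfl⟩ := (h.hf.restrict hPR).mem_img.1 hy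
      exact h.h1 x (hPR hx)
    have hsupR : img f P ⊔ Q' ≤ normalizerIn S U' := sup_le hPR' hQ'R
    have e : img fi (img f P ⊔ Q') = P ⊔ img fi Q' := by
      rw [(h.hfi.restrict hsupR).img_sup]
      congr 1
      exact (h.hf.restrict hPR).img_inv (h.hfi.restrict hPR') (fun x hx => h.h3 x (hPR hx))
    rw [e] at hback
    refine ⟨_, hback, fun x hx => ?_, ?_⟩
    · have hfx := (h.hf.restrict hPR).mem_img_of_mem hx
      simp only [Function.comp]
      rw [hg'1 _ hfx]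
      simp only [Function.comp]
      rw [h.h3 x (hPR hx), h.h3 _ (hφ.mem hx)]
    · have hg'Q : ∀ q ∈ Q', g' q ∈ Q' := fun q hq => by
        have := (hg'.restrict (le_sup_right : Q' ≤ img f P ⊔ Q')).mem_img_of_mem hq
        rwa [hg'2] at this
      refine img_eq_of_card ((hback.restrict le_sup_right)) hQR hQR (fun x hx => ?_) le_rfl
      simp only [Function.comp]
      exact mem2 _ (hg'Q _ (mem1 x hx))
  refine ⟨hNs, img fi Q', hnormal, hQR, fun Q₁ hQ₁ => ?_⟩
  rw [sc_conj_eq (Cfsg.Agent.Lib.FusionCore3.stronglyClosed_of_isNormal hnormal) hQ₁]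
  intro c hc
  obtain ⟨hcR, hcc⟩ := mem_centralizerIn.1 hc
  have h1 : f c ∈ centralizerIn (normalizerIn S U') Q' := by
    refine mem_centralizerIn.2 ⟨h.h1 c hcR, fun y hy => ?_⟩
    have hyR := hQ'R hy
    have e1 := hcc _ (mem2 y hy)
    have e2 := congrArg f e1
    rw [h.hf.map_mul (hQR (mem2 y hy)) hcR, h.hf.map_mul hcR (hQR (mem2 y hy)), h.h4 y hyR] at e2
    exact e2
  have h2 := hQ'c.2 Q' (isConj_refl hQ'R) h1
  have h3 := mem2 _ h2
  rwa [h.h3 c hcR] at h3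

/-- If the centralizer system of a normal subgroup is constrained, so is the system. -/
theorem constrained_of_cent_constrained [Finite S] [Fact p.Prime] (hS : IsPGroup p S) (hF : F.IsSaturated p) {U : Subgroup Ω} (hU : F.IsNormal U)
    {C₀ : FusionSystem (centralizerIn S U)} (hC₀ : F.IsCentralizerSystem U C₀) (hc : C₀.IsConstrained p) : F.IsConstrained p := by
  have hC₀n := cent_isNormalIn hS hF hU hC₀
  obtain ⟨-, R₁, hR₁n, hR₁c⟩ := hc
  have hRn : F.IsNormal C₀.core := core_isNormal hS hF hC₀n.1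
  have hsup : F.IsNormal (U ⊔ C₀.core) := Cfsg.Agent.S5145.isNormal_sup F _ _ hU hRn
  have hR₁le : R₁ ≤ C₀.core := le_sSup hR₁n
  refine ⟨hF, _, hsup, hsup.1, fun Q' hQ' => ?_⟩
  rw [sc_conj_eq (Cfsg.Agent.Lib.FusionCore3.stronglyClosed_of_isNormal hsup) hQ']
  intro c hc
  obtain ⟨h1, h2⟩ := mem_centralizerIn.1 hc
  have hcT : c ∈ centralizerIn S U := mem_centralizerIn.2 ⟨h1, fun y hy => h2 y (Subgroup.mem_sup_left hy)⟩
  exact Subgroup.mem_sup_right (hR₁le (hR₁c.2 R₁ (isConj_refl hR₁c.1) (mem_centralizerIn.2 ⟨hcT, fun y hy => h2 y (Subgroup.mem_sup_right (hR₁le hy))⟩)))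

/-- Step 3. -/
theorem normalizer_constrained_of_cent [Finite S] [Fact p.Prime] (hS : IsPGroup p S) (hF : F.IsSaturated p) {U X : Subgroup Ω} (hU : F.IsFullyNormalized U)
    (hXU : X ≤ U) (hXR : ∀ r ∈ normalizerIn S U, ∀ x ∈ X, x * r = r * x)
    {K : FusionSystem (centralizerIn S X)} (hK : F.IsCentralizerSystem X K) (hKc : K.IsConstrained p)
    {N : FusionSystem (normalizerIn S U)} (hN : F.IsNormalizerSystem U N) : N.IsConstrained p := by
  have hUS := hU.1
  have hS₁S : centralizerIn S X ≤ S := inf_le_left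
  haveI : Finite (centralizerIn S X) := finite_of_le hS₁S
  have hS₁p : IsPGroup p (centralizerIn S X) := hS.to_le hS₁S
  have hRS : normalizerIn S U ≤ S := inf_le_left
  haveI : Finite (normalizerIn S U) := finite_of_le hRS
  have hRp : IsPGroup p (normalizerIn S U) := hS.to_le hRS
  have hUR : U ≤ normalizerIn S U := le_normalizerIn hUS
  have hRS₁ : normalizerIn S U ≤ centralizerIn S X := fun r hr => mem_centralizerIn.2 ⟨hr.1, fun x hx => hXR r hr x hx⟩
  have hUS₁ : U ≤ centralizerIn S X := hUR.trans hRS₁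
  have eR : normalizerIn (centralizerIn S X) U = normalizerIn S U :=
    le_antisymm (fun x hx => ⟨hS₁S hx.1, hx.2⟩) (fun x hx => ⟨hRS₁ hx, hx.2⟩)
  have hKF : ∀ {P : Subgroup Ω} {f : Ω → Ω}, Maps K P f → Maps F P f := fun hf => ((maps_cent hK).1 hf).1
  have hUK : K.IsFullyNormalized U := by
    refine ⟨hUS₁, fun Q' hQ' => ?_⟩
    obtain ⟨f, hf, rfl⟩ := isConj_iff.1 hQ'
    have h1 := hU.2 _ (isConj_iff.2 ⟨f, hKF hf, rfl⟩)
    have h2 : normalizerIn (centralizerIn S X) (img f U) ≤ normalizerIn S (img f U) := fun x hx => ⟨hS₁S hx.1, hx.2⟩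
    haveI : Finite (normalizerIn S (img f U)) := finite_of_le inf_le_left
    rw [eR]
    exact (Subgroup.card_le_of_le h2).trans h1
  obtain ⟨M, hM⟩ := exists_normalizerSystem (F := K) hUS₁
  have hMc : M.IsConstrained p := normalizer_constrained hS₁p hKc hUK hM
  have hNs : N.IsSaturated p := Cfsg.Agent.Lib.FusionSatNorm.saturated_normalizer hS hF hU hN
  have hUn : N.IsNormal U := isNormal_normalizerSystem hUS hN
  obtain ⟨C₀, hC₀⟩ := exists_centralizerSystem (F := N) hUR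
  refine constrained_of_cent_constrained hRp hNs hUn hC₀ ?_
  have hC₀n := cent_isNormalIn hRp hNs hUn hC₀
  have hTS : centralizerIn (normalizerIn S U) U ≤ normalizerIn S U := inf_le_left
  have hTR' : centralizerIn (normalizerIn S U) U ≤ normalizerIn (centralizerIn S X) U := by
    rw [eR]
    exact hTS
  haveI : Finite ↥(normalizerIn (centralizerIn S X) U) := by
    rw [eR]
    infer_instance
  have hMp : IsPGroup p ↥(normalizerIn (centralizerIn S X) U) := by
    rw [eR]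
    exact hRp
  have hsubm : ∀ {P : Subgroup Ω} {f : Ω → Ω}, Maps C₀ P f → Maps M P f := by
    intro P f hf
    obtain ⟨hfN, hPT, hval, g, hg, hg1, hg2⟩ := (maps_cent hC₀).1 hf
    obtain ⟨hgF, hgle, hgval, -⟩ := (maps_norm_iff hN).1 hg
    have hgK : Maps K (P ⊔ U) g := by
      refine (maps_cent hK).2 ⟨hgF, hgle.trans hRS₁, fun x hx => hRS₁ (hgval x hx), g, ?_, fun _ _ => rfl, fun x hx => hg2 x (hXU hx)⟩
      rw [sup_eq_left.2 (hXU.trans (le_sup_right : U ≤ P ⊔ U))]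
      exact hgF
    have hfK : Maps K P f := (hgK.restrict le_sup_left).congr hg1
    refine (maps_norm_iff hM).2 ⟨hfK, hPT.trans hTR', fun x hx => hTR' (hval x hx), g, hgK, hg1, ?_⟩
    refine img_eq_of_card (hgF.restrict le_sup_right) hUS hUS (fun x hx => ?_) le_rfl
    rw [hg2 x hx]
    exact hx
  have hsub : C₀.IsSubsystemOf M := fun P φ hφ => by
    have h1 := hsubm (Maps.of_mem hφ)
    exact h1.mem_hom (fun x => (fn_coe φ x).symm)
  have hT : M.StronglyClosed (centralizerIn (normalizerIn S U) U) := by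
    refine ⟨hTR', fun P hP φ hφ x => ?_⟩
    have hm : Maps M P (fn φ) := Maps.of_mem hφ
    obtain ⟨hmK, hPN, hval, ψ, hψ, hψ1, hψ2⟩ := (maps_norm_iff hM).1 hm
    have hψF := hKF hψ
    have hx : (x : Ω) ∈ P := x.2
    have hxP : (x : Ω) ∈ P ⊔ U := Subgroup.mem_sup_left hx
    have hxT := hP hx
    rw [← fn_coe φ x, ← hψ1 x hx]
    have hUA : U ≤ P ⊔ U := le_sup_right
    have hxn := (mem_centralizerIn.1 hxT).1
    refine mem_centralizerIn.2 ⟨⟨hψF.mem hxP, mem_norm_img hψF hUA hψ2 hxP hxn.2⟩, fun u hu => ?_⟩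
    rw [← hψ2] at hu
    obtain ⟨u₀, hu₀, rfl⟩ := (hψF.restrict hUA).mem_img.1 hu
    rw [← hψF.map_mul (hUA hu₀) hxP, (mem_centralizerIn.1 hxT).2 u₀ hu₀, hψF.map_mul hxP (hUA hu₀)]
  exact Cfsg.Agent.Lib.FusionConstrained.isConstrained_of_stronglyClosed hMp hMc hC₀n.1.1 hsub hT

/-- **The dichotomy.** -/
theorem dichotomy [Finite S] [Fact p.Prime] (hS : IsPGroup p S) (hF : F.IsSaturated p) : F.IsOfCharacteristicPType p ∨ F.IsOfComponentType p := by
  by_cases hall : ∀ X : Subgroup Ω, Nat.card X = p → F.IsFullyNormalized X → ∀ C : FusionSystem (centralizerIn S X), F.IsCentralizerSystem X C → C.IsConstrained p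
  · left
    intro U hU1 hU E hE
    have hUS := hU.1
    have hRS : normalizerIn S U ≤ S := inf_le_left
    haveI : Finite (normalizerIn S U) := finite_of_le hRS
    have hRp : IsPGroup p (normalizerIn S U) := hS.to_le hRS
    have hUR : U ≤ normalizerIn S U := le_normalizerIn hUS
    have hEs : E.IsSaturated p := Cfsg.Agent.Lib.FusionSatNorm.saturated_normalizer hS hF hU hE
    have hUn : E.IsNormal U := isNormal_normalizerSystem hUS hE
    obtain ⟨z, hzU, hz1, hzc⟩ := exists_central_of_stronglyClosed hRp (Cfsg.Agent.Lib.FusionCore3.stronglyClosed_of_isNormal hUn) hU1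
    -- an element of order `p`
    have hzp : IsPGroup p (Subgroup.zpowers z) := by
      haveI : Finite U := finite_of_le hUS
      exact (hS.to_le hUS).to_le (Subgroup.zpowers_le.2 hzU)
    have hzS := hUS hzU
    obtain ⟨x, hxz, hxp⟩ : ∃ x ∈ Subgroup.zpowers z, orderOf x = p := by
      haveI : Finite (Subgroup.zpowers z) := finite_of_le (Subgroup.zpowers_le.2 hzS)
      haveI : Nontrivial (Subgroup.zpowers z) := by
        refine ⟨⟨⟨z, Subgroup.mem_zpowers z⟩, 1, fun h => hz1 (congrArg Subtype.val h)⟩⟩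
      have hdvd : p ∣ Nat.card (Subgroup.zpowers z) := by
        have := hzp.nontrivial_iff_card.1 inferInstance
        obtain ⟨n, hn, hcard⟩ := this
        rw [hcard]
        exact dvd_pow_self p hn.ne'
      obtain ⟨x, hx⟩ := exists_prime_orderOf_dvd_card' p hdvd
      exact ⟨x, x.2, by rw [Subgroup.orderOf_coe]; exact hx⟩
    have hXU : Subgroup.zpowers x ≤ U := Subgroup.zpowers_le.2 ((Subgroup.zpowers_le.2 hzU) hxz)
    have hXS := hXU.trans hUS
    have hcz : ∀ r ∈ normalizerIn S U, ∀ y ∈ Subgroup.zpowers x, y * r = r * y := by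
      intro r hr y hy
      have hy' : y ∈ Subgroup.zpowers z := (Subgroup.zpowers_le.2 hxz) hy
      have hcent : Subgroup.zpowers z ≤ Subgroup.centralizer ({r} : Set Ω) := by
        rw [Subgroup.zpowers_le, Subgroup.mem_centralizer_singleton_iff]
        have := hzc r hr
        rw [mul_inv_eq_iff_eq_mul] at this
        exact this.symm
      have := hcent hy'
      rw [Subgroup.mem_centralizer_singleton_iff] at this
      exact this
    obtain ⟨Xs, hconj, hfull⟩ := exists_fullyNormalized_conj (F := F) hXS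
    obtain ⟨f₀, hf₀, himg₀⟩ := isConj_iff.1 hconj
    have hXscard : Nat.card Xs = p := by
      rw [← IsConj_card hconj, Nat.card_zpowers, hxp]
    obtain ⟨hfc, -⟩ := of_fullyNormalized hS hF hfull
    have hRec : F.IsReceptive Xs := receptive_of_fullyCentralized hS hF hfc
    obtain ⟨g, hg, hg1⟩ := IsReceptive.ext hRec hf₀ himg₀
    have hRC : normalizerIn S U ≤ Nf S (Subgroup.zpowers x) f₀ := fun r hr =>
      centralizerIn_le_Nf hf₀ (mem_centralizerIn.2 ⟨hr.1, fun y hy => hcz r hr y hy⟩)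
    have hgR := hg.restrict hRC
    have hgU := hgR.restrict hUR
    have hgN : ∀ r ∈ normalizerIn S U, g r ∈ normalizerIn S (img g U) := fun r hr =>
      ⟨hgR.mem hr, mem_norm_img hgR hUR rfl hr hr.2⟩
    have hcardU := hU.2 (img g U) (isConj_iff.2 ⟨g, hgU, rfl⟩)
    have hR'S : normalizerIn S (img g U) ≤ S := inf_le_left
    haveI : Finite (normalizerIn S (img g U)) := finite_of_le hR'S
    have himgR : img g (normalizerIn S U) = normalizerIn S (img g U) :=
      img_eq_of_card hgR hRS hR'S hgN hcardU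
    have hfullU : F.IsFullyNormalized (img g U) := by
      refine ⟨hgU.img_le, fun Q' hQ' => ?_⟩
      have h1 := hU.2 Q' (IsConj_trans (isConj_iff.2 ⟨g, hgU, rfl⟩) hQ')
      have h2 : Nat.card (normalizerIn S (img g U)) = Nat.card (normalizerIn S U) := by
        rw [← himgR]
        exact hgR.card_img
      omega
    have hXsU : Xs ≤ img g U := by
      rw [← himg₀, ← img_congr (fun y hy => hg1 y hy)]
      exact hgU.img_mono hXU
    have hXsR : ∀ r ∈ normalizerIn S (img g U), ∀ y ∈ Xs, y * r = r * y := by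
      intro r hr y hy
      rw [← himgR] at hr
      rw [← himg₀, ← img_congr (fun y hy => hg1 y hy)] at hy
      obtain ⟨r₀, hr₀, rfl⟩ := hgR.mem_img.1 hr
      obtain ⟨y₀, hy₀, rfl⟩ := (hg.restrict (le_Nf hf₀)).mem_img.1 hy
      have hy₀R : y₀ ∈ normalizerIn S U := hUR (hXU hy₀)
      rw [← hgR.map_mul hy₀R hr₀, hcz r₀ hr₀ y₀ hy₀, hgR.map_mul hr₀ hy₀R]
    obtain ⟨K, hK⟩ := exists_centralizerSystem (F := F) hfull.1
    obtain ⟨Es, hEs'⟩ := exists_normalizerSystem (F := F) hfullU.1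
    have hEsc : Es.IsConstrained p := normalizer_constrained_of_cent hS hF hfullU hXsU hXsR hK (hall Xs hXscard hfull K hK) hEs'
    obtain ⟨gi, hgi, hgi1, hgi2⟩ := hgR.inv
    rw [himgR] at hgi hgi2
    have hCN : CN F U (img g U) g gi := by
      refine ⟨hgR, hgi, hgN, fun y hy => (hgi2 y hy).1, hgi1, fun y hy => (hgi2 y hy).2, rfl, ?_, hUS, hgU.img_le⟩
      exact hgU.img_inv (hgi.restrict (le_normalizerIn hgU.img_le)) (fun x hx => hgi1 x (hUR hx))
    exact constrained_transport hCN hE hEs' hEs hEsc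
  · right
    push Not at hall
    obtain ⟨X, hX, hXn, C, hC, hCn⟩ := hall
    have hCS : centralizerIn S X ≤ S := inf_le_left
    haveI : Finite (centralizerIn S X) := finite_of_le hCS
    obtain ⟨hXc, -⟩ := of_fullyNormalized hS hF hXn
    have hCs : C.IsSaturated p := Cfsg.Agent.Lib.FusionSatNorm.saturated_centralizer hS hF hXc hC
    obtain ⟨T, D, hD⟩ := exists_component _ C (hS.to_le hCS) hCs rfl hCn
    exact ⟨X, hX, hXn, C, hC, T, D, hD⟩

end Cfsg.Agent.Lib.FusionDich
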