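/-
FusionEnvA: group theory for the reduction along a `p`-solvable quotient of `Aut_F(T)/Aut_E(T)`.
-/
import Mathlib
import Cfsg.Agent.Lib.FusionLimit
import Cfsg.Agent.Lib.FusionPPrimeMin

set_option autoImplicit false
set_option linter.style.haveILetI false
set_option linter.unusedSectionVars false
set_option linter.unusedVariables false
set_option linter.unusedSimpArgs false

namespace Cfsg.Agent.Lib.FusionEnvA

open Cfsg

variable {G : Type*} [Group G] {p : ℕ}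

/-- A nontrivial `p`-solvable quotient of `X` by `N` has a proper normal subgroup `Y` containing `N`, either containing all
`p`-elements of `X` or all `p'`-elements of `X`. -/
theorem dichot [Finite G] [Fact p.Prime] (N : Subgroup G) [N.Normal] (hs : IsPSolvable p (G ⧸ N)) (X : Subgroup G)
    (hNX : N ≤ X) (hne : N ≠ X) :
    ∃ Y : Subgroup G, N ≤ Y ∧ Y ≤ X ∧ Y ≠ X ∧ (∀ x ∈ X, ∀ y ∈ Y, x * y * x⁻¹ ∈ Y) ∧
      ((∀ x ∈ X, ∀ n : ℕ, x ^ p ^ n = 1 → x ∈ Y) ∨ (∀ x ∈ X, (orderOf x).Coprime p → x ∈ Y)) := by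
  have hpp : p.Prime := Fact.out
  obtain ⟨n, H, h0, hlast, hmono, hnorm, hfac⟩ := hs
  let π := QuotientGroup.mk' N
  have hπ : Function.Surjective π := QuotientGroup.mk'_surjective N
  let K : Fin (n + 1) → Subgroup G := fun i => (H i).comap π
  have hKn : ∀ i, (K i).Normal := fun i => (hnorm i).comap π
  have hK0 : K 0 = N := by
    show (H 0).comap π = N
    rw [h0]
    exact QuotientGroup.ker_mk' N
  have hKl : K (Fin.last n) = ⊤ := by
    show (H (Fin.last n)).comap π = ⊤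
    rw [hlast, Subgroup.comap_top]
  have hNK : ∀ i, N ≤ K i := by
    intro i
    rw [← hK0]
    exact Subgroup.comap_mono (hmono (Fin.zero_le i))
  -- the first member containing `X`
  obtain ⟨j, hj1, hj2⟩ : ∃ j : Fin n, X ≤ K j.succ ∧ ¬ X ≤ K j.castSucc := by
    by_contra hcon
    push Not at hcon
    have h1 : ∀ i : Fin (n + 1), X ≤ K i := by
      intro i
      induction i using Fin.reverseInduction with
      | last => rw [hKl]; exact le_top
      | cast i ih => exact hcon i ih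
    have h2 := h1 0
    rw [hK0] at h2
    exact hne (le_antisymm hNX h2)
  let K₀ := K j.castSucc
  let K₁ := K j.succ
  haveI hK₀n : K₀.Normal := hKn _
  have hK01 : K₀ ≤ K₁ := Subgroup.comap_mono (hmono (Fin.castSucc_lt_succ).le)
  have hI₀ : K₀.relIndex K₁ = (H j.castSucc).relIndex (H j.succ) := by
    show ((H j.castSucc).comap π).relIndex ((H j.succ).comap π) = _
    rw [Subgroup.relIndex_comap, Subgroup.map_comap_eq_self_of_surjective hπ]
  have hdvd : K₀.relIndex X ∣ K₀.relIndex K₁ := by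
    have hZ1 : K₀ ≤ K₀ ⊔ X := le_sup_left
    have hZ2 : K₀ ⊔ X ≤ K₁ := sup_le hK01 hj1
    rw [← Subgroup.relIndex_mul_relIndex K₀ (K₀ ⊔ X) K₁ hZ1 hZ2, Subgroup.relIndex_sup_left]
    exact dvd_mul_right _ _
  have hpow : ∀ x ∈ X, x ^ K₀.relIndex X ∈ K₀ := by
    intro x hx
    haveI : (K₀.subgroupOf X).Normal := Subgroup.Normal.subgroupOf hK₀n X
    have := Subgroup.pow_index_mem (K₀.subgroupOf X) (⟨x, hx⟩ : X)
    rw [Subgroup.mem_subgroupOf] at this
    exact this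
  refine ⟨X ⊓ K₀, le_inf hNX (hNK _), inf_le_left, fun h => hj2 (inf_eq_left.1 h), fun x hx y hy => ?_, ?_⟩
  · exact ⟨X.mul_mem (X.mul_mem hx hy.1) (X.inv_mem hx), hK₀n.conj_mem y hy.2 x⟩
  rcases hfac j with ⟨m, hm⟩ | hc
  · right
    intro x hx hcop
    rw [← hI₀, ] at hm
    rw [hm] at hdvd
    obtain ⟨k, -, hk⟩ := (Nat.dvd_prime_pow hpp).1 hdvd
    have h1 := hpow x hx
    rw [hk] at h1
    have h2 : x ^ orderOf x ∈ K₀ := by
      rw [pow_orderOf_eq_one]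
      exact K₀.one_mem
    exact ⟨hx, Cfsg.Agent.Lib.FusionPPrimeMin.mem_of_coprime_pow (Nat.Coprime.pow_right k hcop) h2 h1⟩
  · left
    intro x hx k hk
    rw [← hI₀] at hc
    have h3 : (K₀.relIndex X).Coprime p := Nat.Coprime.coprime_dvd_left hdvd hc
    have h1 := hpow x hx
    have h2 : x ^ p ^ k ∈ K₀ := by
      rw [hk]
      exact K₀.one_mem
    exact ⟨hx, Cfsg.Agent.Lib.FusionPPrimeMin.mem_of_coprime_pow (Nat.Coprime.pow_right k h3) h1 h2⟩

/-- The subgroup generated by `N` and the `p`-elements of `X`. -/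
def Lp (p : ℕ) (X N : Subgroup G) : Subgroup G :=
  Subgroup.closure ({x | x ∈ X ∧ ∃ n : ℕ, x ^ p ^ n = 1} ∪ (N : Set G))

/-- The subgroup generated by `N` and the `p'`-elements of `X`. -/
def Rp (p : ℕ) (X N : Subgroup G) : Subgroup G :=
  Subgroup.closure ({x | x ∈ X ∧ (orderOf x).Coprime p} ∪ (N : Set G))

lemma Lp_le {X N : Subgroup G} (h : N ≤ X) : Lp p X N ≤ X := by
  rw [Lp, Subgroup.closure_le]
  rintro x (hx | hx)
  · exact hx.1
  · exact h hx

lemma Rp_le {X N : Subgroup G} (h : N ≤ X) : Rp p X N ≤ X := by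
  rw [Rp, Subgroup.closure_le]
  rintro x (hx | hx)
  · exact hx.1
  · exact h hx

lemma N_le_Lp {X N : Subgroup G} : N ≤ Lp p X N := fun _ hx => Subgroup.subset_closure (Or.inr hx)

lemma N_le_Rp {X N : Subgroup G} : N ≤ Rp p X N := fun _ hx => Subgroup.subset_closure (Or.inr hx)

lemma closure_conj {s : Set G} {a : G} (h : ∀ x ∈ s, a * x * a⁻¹ ∈ s) {l : G} (hl : l ∈ Subgroup.closure s) :
    a * l * a⁻¹ ∈ Subgroup.closure s := by
  induction hl using Subgroup.closure_induction with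
  | mem x hx => exact Subgroup.subset_closure (h x hx)
  | one => simp [Subgroup.one_mem]
  | mul x y _ _ hx hy =>
    have e : a * (x * y) * a⁻¹ = (a * x * a⁻¹) * (a * y * a⁻¹) := by group
    rw [e]
    exact Subgroup.mul_mem _ hx hy
  | inv x _ hx =>
    have e : a * x⁻¹ * a⁻¹ = (a * x * a⁻¹)⁻¹ := by group
    rw [e]
    exact Subgroup.inv_mem _ hx

lemma Lp_conj {X N : Subgroup G} {a : G} (hX : ∀ x ∈ X, a * x * a⁻¹ ∈ X) (hN : ∀ x ∈ N, a * x * a⁻¹ ∈ N)
    {l : G} (hl : l ∈ Lp p X N) : a * l * a⁻¹ ∈ Lp p X N := by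
  refine closure_conj ?_ hl
  rintro x (⟨hx, n, hn⟩ | hx)
  · refine Or.inl ⟨hX x hx, n, ?_⟩
    rw [conj_pow, hn]
    simp
  · exact Or.inr (hN x hx)

lemma Rp_conj {X N : Subgroup G} {a : G} (hX : ∀ x ∈ X, a * x * a⁻¹ ∈ X) (hN : ∀ x ∈ N, a * x * a⁻¹ ∈ N)
    {l : G} (hl : l ∈ Rp p X N) : a * l * a⁻¹ ∈ Rp p X N := by
  refine closure_conj ?_ hl
  rintro x (⟨hx, hn⟩ | hx)
  · refine Or.inl ⟨hX x hx, ?_⟩
    have e : orderOf (a * x * a⁻¹) = orderOf x := by
      rw [← MulAut.conj_apply, MulEquiv.orderOf_eq]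
    rwa [e]
  · exact Or.inr (hN x hx)

lemma Lp_pow [Finite G] [Fact p.Prime] {X N : Subgroup G} {a : G} (ha : a ∈ X) {n : ℕ} (h : a ^ p ^ n ∈ Lp p X N) :
    a ∈ Lp p X N := by
  have hpp : p.Prime := Fact.out
  have hn : orderOf a ≠ 0 := (orderOf_pos a).ne'
  obtain ⟨e, m, hm, hnm⟩ := Nat.exists_eq_pow_mul_and_not_dvd hn p hpp.ne_one
  have hmp : m.Coprime p := ((Nat.Prime.coprime_iff_not_dvd hpp).2 hm).symm
  have h1 : a ^ m ∈ Lp p X N := by
    refine Subgroup.subset_closure (Or.inl ⟨X.pow_mem ha m, e, ?_⟩)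
    rw [← pow_mul, mul_comm, ← hnm, pow_orderOf_eq_one]
  exact Cfsg.Agent.Lib.FusionPPrimeMin.mem_of_coprime_pow (Nat.Coprime.pow_right n hmp) h1 h

/-- The dichotomy in the ambient group. -/
theorem dichot' {A : Subgroup G} [Finite A] [Fact p.Prime] {N X : Subgroup G} (hNX : N ≤ X) (hXA : X ≤ A)
    (hne : N ≠ X) [hn : (N.subgroupOf A).Normal] (hs : IsPSolvable p (↥A ⧸ N.subgroupOf A)) :
    Lp p X N ≠ X ∨ Rp p X N ≠ X := by
  have hne' : N.subgroupOf A ≠ X.subgroupOf A := by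
    intro h
    apply hne
    refine le_antisymm hNX (fun x hx => ?_)
    have h1 : (⟨x, hXA hx⟩ : A) ∈ N.subgroupOf A := by
      rw [h]
      exact Subgroup.mem_subgroupOf.2 hx
    exact Subgroup.mem_subgroupOf.1 h1
  have hNX' : N.subgroupOf A ≤ X.subgroupOf A := fun x hx =>
    Subgroup.mem_subgroupOf.2 (hNX (Subgroup.mem_subgroupOf.1 hx))
  obtain ⟨Y, hNY, hYX, hYne, -, hY⟩ := dichot (N.subgroupOf A) hs (X.subgroupOf A) hNX' hne'
  have hNmem : ∀ x ∈ N, ∃ h : x ∈ A, (⟨x, h⟩ : A) ∈ Y := fun x hx =>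
    ⟨hXA (hNX hx), hNY (Subgroup.mem_subgroupOf.2 hx)⟩
  have hYe : ∀ (Z : Subgroup G), Z ≤ X → (∀ x ∈ Z, ∃ h : x ∈ A, (⟨x, h⟩ : A) ∈ Y) → Z ≠ X := by
    intro Z hZX hZ he
    apply hYne
    refine le_antisymm hYX (fun x hx => ?_)
    have hx' : (x : G) ∈ Z := by
      rw [he]
      exact Subgroup.mem_subgroupOf.1 hx
    obtain ⟨h, h1⟩ := hZ _ hx'
    exact h1
  rcases hY with hY | hY
  · left
    refine hYe _ (Lp_le hNX) (fun x hx => ?_)
    have hxA : x ∈ A := hXA (Lp_le hNX hx)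
    refine ⟨hxA, ?_⟩
    have hle : Lp p X N ≤ (Y.map A.subtype) := by
      rw [Lp, Subgroup.closure_le]
      rintro z (⟨hz, n, hn⟩ | hz)
      · refine ⟨⟨z, hXA hz⟩, hY _ (Subgroup.mem_subgroupOf.2 hz) n (Subtype.ext ?_), rfl⟩
        simpa using hn
      · obtain ⟨h, h1⟩ := hNmem z hz
        exact ⟨⟨z, h⟩, h1, rfl⟩
    obtain ⟨w, hw, hwe⟩ := hle hx
    have : w = ⟨x, hxA⟩ := Subtype.ext hwe
    rwa [← this]
  · right
    refine hYe _ (Rp_le hNX) (fun x hx => ?_)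
    have hxA : x ∈ A := hXA (Rp_le hNX hx)
    refine ⟨hxA, ?_⟩
    have hle : Rp p X N ≤ (Y.map A.subtype) := by
      rw [Rp, Subgroup.closure_le]
      rintro z (⟨hz, hn⟩ | hz)
      · refine ⟨⟨z, hXA hz⟩, hY _ (Subgroup.mem_subgroupOf.2 hz) ?_, rfl⟩
        rw [Subgroup.orderOf_mk]
        exact hn
      · obtain ⟨h, h1⟩ := hNmem z hz
        exact ⟨⟨z, h⟩, h1, rfl⟩
    obtain ⟨w, hw, hwe⟩ := hle hx
    have : w = ⟨x, hxA⟩ := Subtype.ext hwe
    rwa [← this]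

end Cfsg.Agent.Lib.FusionEnvA
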