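/-
FusionEnv: the reduction of a saturated system along a `p`-solvable quotient of `Aut_F(T)/Aut_E(T)`: data and the step prime to `p`.
-/
import Mathlib
import Cfsg.Agent.Lib.FusionEnvA
import Cfsg.Agent.Lib.FusionChi6
import Cfsg.Agent.S5198
import Cfsg.Agent.Lib.AschLift

set_option autoImplicit false
set_option linter.style.haveILetI false
set_option linter.unusedSectionVars false
set_option linter.unusedVariables false
set_option linter.unusedSimpArgs false

namespace Cfsg.Agent.Lib.FusionEnv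

open Cfsg Cfsg.FusionSystem Cfsg.Agent.Lib.FusionCore Cfsg.Agent.Lib.FusionCore2
open Cfsg.Agent.Lib.FusionIndexPrime Cfsg.Agent.Lib.FusionPPrimeRes Cfsg.Agent.Lib.FusionInvariant
open Cfsg.Agent.Lib.FusionPPrimeMin Cfsg.Agent.Lib.FusionPPrimeNormal
open Cfsg.Agent.Lib.FusionEnvA
open Cfsg.Agent.Lib.FusionChi (Dat sys maps_sys sys_le sys_index sys_saturated mem_autGroup_sys E_le_sys exists_ext
  Gen.sub)
open Cfsg.Agent.Lib.FusionResidual (SameMaps autGroup_mono)

universe u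

variable {Ω : Type u} [Group Ω] {S T U : Subgroup Ω} {F : FusionSystem S} {E : FusionSystem T} {D : FusionSystem U}
  {p : ℕ} {P Q R : Subgroup Ω} {f g : Ω → Ω}

/-- The ambient data: a subsystem `E` over `T`, invariant in `F`. -/
structure Cx (F : FusionSystem S) (E : FusionSystem T) (p : ℕ) : Prop where
  hS : IsPGroup p S
  hF : F.IsSaturated p
  hE : E.IsSaturated p
  hEF : E.IsSubsystemOf F
  hT : F.StronglyClosed T
  hinv : Inv F E
  hfr : Frat F E

/-- An intermediate system between `E` and `F`, over a subgroup containing `T C_S(T)`, invariant in `F`. -/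
structure Env (F : FusionSystem S) (E : FusionSystem T) (p : ℕ) (D : FusionSystem U) : Prop where
  hTC : T ⊔ centralizerIn S T ≤ U
  sc : F.StronglyClosed U
  sat : D.IsSaturated p
  sub : D.IsSubsystemOf F
  inv : Inv F D
  frat : Frat F D
  hED : E.IsSubsystemOf D

namespace Env

variable (C : Cx F E p) (h : Env F E p D)
include C h

lemma hUS : U ≤ S := h.sc.1

lemma hTU : T ≤ U := le_sup_left.trans h.hTC

lemma hUp : IsPGroup p U := C.hS.to_le (hUS C h)

lemma scT : D.StronglyClosed T :=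
  ⟨hTU C h, fun R hR φ hφ x => C.hT.2 R hR φ (h.sub R hφ) x⟩

lemma strE : Str D E := fun hPQ hQT hf hfQ hg =>
  (str_of_inv_frat C.hT (fun {P f} => C.hinv) (fun {P f} => C.hfr)) hPQ hQT hf hfQ (maps_sub h.sub hg)

lemma invE : Inv D E := by
  intro P f
  exact inv_of_str (scT C h) (fun {P Q f g} => strE C h)

lemma fratE [Finite S] [Fact p.Prime] : Frat D E := by
  haveI : Finite U := finite_of_le (hUS C h)
  intro P f
  exact frat_of_str (hUp C h) h.sat h.hED (scT C h) (fun {P Q f g} => strE C h)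

lemma strD : Str F D := by
  intro P Q f g
  exact str_of_inv_frat h.sc (fun {P f} => h.inv) (fun {P f} => h.frat)

/-- `Aut_F(T)` normalizes `Aut_D(T)`. -/
lemma X_conj [Finite S] {a x : MulAut T} (ha : a ∈ F.autGroup T) (hx : x ∈ D.autGroup T) :
    a * x * a⁻¹ ∈ D.autGroup T := by
  have hTU' := hTU C h
  have hTS := C.hT.1
  obtain ⟨k, hk, hk1⟩ := strD C h (le_refl T) hTU' ((mem_autGroup_iff hTU').1 hx) (fun t ht => afn_mem x ht)
    ((mem_autGroup_iff hTS).1 ha)
  rw [afn_img] at hk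
  refine (mem_autGroup_iff hTU').2 (hk.congr fun y hy => ?_)
  have e := hk1 (afn a⁻¹ y) (afn_mem _ hy)
  rw [afn_afn_inv a hy] at e
  rw [e, afn_mul _ _ hy, afn_mul _ _ (afn_mem _ hy)]

omit h in
/-- `Aut_F(T)` normalizes `Aut_E(T)`. -/
lemma A_conj [Finite S] {a x : MulAut T} (ha : a ∈ F.autGroup T) (hx : x ∈ E.autGroup T) :
    a * x * a⁻¹ ∈ E.autGroup T := by
  obtain ⟨k, hk, hk1⟩ := C.hinv ((mem_autGroup_iff le_rfl).1 hx) a ha
  rw [afn_img] at hk
  refine (mem_autGroup_iff le_rfl).2 (hk.congr fun y hy => ?_)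
  have e := hk1 (afn a⁻¹ y) (afn_mem _ hy)
  rw [afn_afn_inv a hy] at e
  rw [e, afn_mul _ _ hy, afn_mul _ _ (afn_mem _ hy)]

lemma A_le_X : E.autGroup T ≤ D.autGroup T := fun x hx =>
  (mem_autGroup_iff (hTU C h)).2 (maps_sub h.hED ((mem_autGroup_iff le_rfl).1 hx))

lemma X_le_F : D.autGroup T ≤ F.autGroup T := fun x hx =>
  (mem_autGroup_iff C.hT.1).2 (maps_sub h.sub ((mem_autGroup_iff (hTU C h)).1 hx))

/-- The data for the construction of the subsystem of index prime to `p`. -/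
lemma mkDat [Finite S] [Fact p.Prime] : Dat D E p (Lp p (D.autGroup T) (E.autGroup T)) := by
  have hTU' := hTU C h
  have hTS := C.hT.1
  haveI : Finite (MulAut T) := finite_mulAut hTS
  refine ⟨hUp C h, h.sat, C.hE, scT C h, h.hED, fun {P f} => invE C h, fun {P f} => fratE C h, Lp_le (A_le_X C h), fun a ha l hl => ?_,
    N_le_Lp, fun a ha n hn => Lp_pow ha hn⟩
  have ha' := X_le_F C h ha
  exact Lp_conj (fun x hx => X_conj C h ha' hx) (fun x hx => A_conj C ha' hx) hl

omit C h in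
/-- Restriction of an automorphism of `U` in `F` to a strongly closed subgroup. -/
lemma res_aut [Finite S] {V : Subgroup Ω} (hV : F.StronglyClosed V) (hVU : V ≤ U) (hUS : U ≤ S) {b : MulAut U}
    (hb : b ∈ F.autGroup U) : ∃ b' : MulAut V, b' ∈ F.autGroup V ∧ ∀ t ∈ V, afn b' t = afn b t := by
  have hm := ((mem_autGroup_iff hUS).1 hb).restrict hVU
  have hVS := hV.1
  have himg : img (afn b) V = V := img_eq_of_card hm hVS hVS (fun x hx => StrongMem hV le_rfl hm hx) le_rfl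
  exact ⟨hm.toAut himg, hm.toAut_mem himg, fun t ht => hm.afn_toAut himg ht⟩

/-- The maps of a saturated subsystem of index prime to `p`. -/
lemma maps_iff_AM [Finite S] [Fact p.Prime] {D₁ : FusionSystem U} (hD₁ : D₁.IsSaturated p)
    (hidx : D₁.HasPrimeToPIndexIn D p) : Maps D₁ P f ↔ AM D p (D₁.autGroup U) P f := by
  haveI : Finite U := finite_of_le (hUS C h)
  have hp := hUp C h
  constructor
  · intro hm
    obtain ⟨c, hc, f₀, h0, hff⟩ : BigM D₁ p P f := maps_ofMaps.1 (le_maps (le_bigSys hp hD₁) hm)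
    exact ⟨c, hc, f₀, Gen.sub hp h.sat le_rfl hidx.1 h0, hff⟩
  · rintro ⟨c, hc, f₀, h0, hff⟩
    have hgen : ∀ P, D.IsCentric P → ∀ α ∈ D.autGroup P, (∃ n : ℕ, α ^ p ^ n = 1) → Maps D₁ P (afn α) := by
      rintro P hc α hα ⟨n, hn⟩
      exact maps_of_pow hidx hc.1 hα hn
    have h1 := Gen.subsys hgen h0
    have h2 := (mem_autGroup_iff le_rfl).1 hc
    exact (h1.comp h2 (fun x hx => h1.mem hx)).congr (fun x hx => (hff x hx).symm)

/-- Conjugation in `Aut_F(U)` preserves the automorphisms of `U` in the small system. -/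
lemma sys_conj [Finite S] [Fact p.Prime] [Finite U] {a b : MulAut U} (ha : a ∈ F.autGroup U)
    (hb : b ∈ (sys (mkDat C h)).autGroup U) : a * b * a⁻¹ ∈ (sys (mkDat C h)).autGroup U := by
  have hUS' := hUS C h
  have hTU' := hTU C h
  have hTS := C.hT.1
  haveI : Finite (MulAut T) := finite_mulAut hTS
  obtain ⟨hb1, c, hc, hce⟩ := (mem_autGroup_sys (mkDat C h)).1 hb
  rw [mem_autGroup_sys (mkDat C h)]
  refine ⟨?_, ?_⟩
  · rw [mem_autGroup_iff le_rfl] at hb1 ⊢
    have h2 := conjM (fun {P f} => h.inv) ha hb1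
    rw [afn_img] at h2
    refine h2.congr (fun y hy => ?_)
    rw [afn_mul _ _ hy, afn_mul _ _ (afn_mem _ hy)]
    rfl
  · obtain ⟨a', ha', ha'e⟩ := res_aut C.hT hTU' hUS' ha
    refine ⟨a' * c * a'⁻¹, ?_, fun t ht => ?_⟩
    · exact Lp_conj (fun x hx => X_conj C h ha' hx) (fun x hx => A_conj C ha' hx) hc
    · have hai : afn a'⁻¹ t = afn a⁻¹ t := by
        have h1 : afn a' (afn a'⁻¹ t) = t := afn_afn_inv a' ht
        rw [ha'e _ (afn_mem _ ht)] at h1
        have h2 := congrArg (afn a⁻¹) h1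
        rwa [afn_inv_afn a (hTU' (afn_mem _ ht))] at h2
      have hy : afn a'⁻¹ t ∈ T := afn_mem _ ht
      rw [afn_mul _ _ ht, afn_mul _ _ (afn_mem _ ht), afn_mul _ _ (hTU' ht), afn_mul _ _ (afn_mem _ (hTU' ht)), ← hai,
        hce _ hy, ← hce _ hy, ha'e _ (afn_mem c hy), hce _ hy]

/-- Automorphisms of `T C_U(T)`. -/
lemma ext_TC [Finite S] [Fact p.Prime] [Finite U] {α : MulAut T} (hα : α ∈ D.autGroup T) :
    ∃ β ∈ D.autGroup (T ⊔ centralizerIn U T), ∀ t ∈ T, afn β t = afn α t := by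
  have hT := scT C h
  obtain ⟨θ, hθ, hθe⟩ := Cfsg.Agent.Lib.AschCore.exists_pres hT.1 (receptive_T (hUp C h) h.sat hT)
    ((mem_autGroup_iff hT.1).1 hα) (afn_img α)
  exact ⟨θ, hθ.mem, hθe⟩

lemma E_le_D₁ [Finite S] [Fact p.Prime] [Finite U] : E.IsSubsystemOf (sys (mkDat C h)) :=
  E_le_sys (mkDat C h) (fun α hα => ext_TC C h (A_le_X C h hα))

/-- The small system is again intermediate. -/
theorem env_sys [Finite S] [Fact p.Prime] [Finite U] : Env F E p (sys (mkDat C h)) := by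
  have hUS' := hUS C h
  have hsat := sys_saturated (mkDat C h)
  have hidx := sys_index (mkDat C h)
  have hm : ∀ {P f}, Maps (sys (mkDat C h)) P f ↔ AM D p ((sys (mkDat C h)).autGroup U) P f :=
    maps_iff_AM C h hsat hidx
  have hAF : ∀ {c : MulAut U}, c ∈ D.autGroup U → c ∈ F.autGroup U := fun hc =>
    (mem_autGroup_iff hUS').2 (maps_sub h.sub ((mem_autGroup_iff le_rfl).1 hc))
  refine ⟨h.hTC, h.sc, hsat, fun P φ hφ => h.sub P (hidx.1 P hφ), ?_, ?_, E_le_D₁ C h⟩
  · intro P f hf a ha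
    obtain ⟨b, hb, f₀, h0, hff⟩ := hm.1 hf
    refine ⟨afn (a * b * a⁻¹) ∘ (afn a ∘ f₀ ∘ afn a⁻¹), hm.2 ⟨a * b * a⁻¹, sys_conj C h ha hb, _,
      Gen.conjF (fun {P f} => h.inv) ha h0, fun _ _ => rfl⟩, fun x hx => ?_⟩
    have hPT := h0.maps.le
    show afn (a * b * a⁻¹) (afn a (f₀ (afn a⁻¹ (afn a x)))) = _
    have hT0 := h0.maps.mem hx
    rw [afn_inv_afn a (hPT hx), hff x hx, afn_mul _ _ (afn_mem _ hT0), afn_mul _ _ (afn_mem _ (afn_mem _ hT0)),
      afn_inv_afn a hT0]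
  · intro P f hP hf
    obtain ⟨a, ha, f₁, h1, hff⟩ := h.frat hP hf
    obtain ⟨c, hc, f₀, h0, hff'⟩ : BigM D p P f₁ := maps_ofMaps.1 (le_maps (le_bigSys (hUp C h) h.sat) h1)
    refine ⟨a * c, Subgroup.mul_mem _ ha (hAF hc), f₀, hm.2 (AM.of_gen h0), fun x hx => ?_⟩
    rw [hff x hx, hff' x hx, afn_mul _ _ (h0.maps.mem hx)]

/-- The automorphisms of `T` in the small system. -/
theorem sys_aut_le [Finite S] [Fact p.Prime] [Finite U] :
    (sys (mkDat C h)).autGroup T ≤ Lp p (D.autGroup T) (E.autGroup T) := by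
  intro α hα
  have h₁ := env_sys C h
  obtain ⟨a, ha, c, hc, l, hl, hce, he⟩ := exists_ext (mkDat C h₁) hα
  obtain ⟨-, c', hc', hce'⟩ := (mem_autGroup_sys (mkDat C h)).1 ha
  have hcc : c' = c := afn_ext (fun t ht => by rw [hce' t ht, hce t ht])
  rw [hcc] at hc'
  have hmono : Lp p ((sys (mkDat C h)).autGroup T) (E.autGroup T) ≤ Lp p (D.autGroup T) (E.autGroup T) := by
    refine Subgroup.closure_mono (Set.union_subset_union_left _ ?_)
    rintro x ⟨hx, hn⟩
    exact ⟨autGroup_mono sys_le T hx, hn⟩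
  rw [he]
  exact Subgroup.mul_mem _ hc' (hmono hl)

end Env

end Cfsg.Agent.Lib.FusionEnv
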