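/-
FusionEnv2: the reduction of a saturated system along a `p`-solvable quotient: the step of `p`-power index.
-/
import Mathlib
import Cfsg.Agent.Lib.FusionEnv

set_option autoImplicit false
set_option linter.style.haveILetI false
set_option linter.unusedSectionVars false
set_option linter.unusedVariables false
set_option linter.unusedSimpArgs false

namespace Cfsg.Agent.Lib.FusionEnv

open Cfsg Cfsg.FusionSystem Cfsg.Agent.Lib.FusionCore Cfsg.Agent.Lib.FusionCore2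
open Cfsg.Agent.Lib.FusionIndexPrime Cfsg.Agent.Lib.FusionPPrimeRes Cfsg.Agent.Lib.FusionInvariant
open Cfsg.Agent.Lib.FusionPPrimeMin Cfsg.Agent.Lib.FusionPPrimeNormal
open Cfsg.Agent.Lib.FusionEnvA
open Cfsg.Agent.Lib.FusionPPower (GenP genP_of_maps inv_of_saturated frat_of_pPower stronglyClosed_of_hyperfocal
  exists_conj_aut)
open Cfsg.Agent.Lib.FusionResidual (SameMaps autGroup_mono pResidual_map_le le_of_pResidual_le)

universe u

variable {Ω : Type u} [Group Ω] {S T U V : Subgroup Ω} {F : FusionSystem S} {E : FusionSystem T} {D : FusionSystem U}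
  {p : ℕ} {P Q R : Subgroup Ω} {f g : Ω → Ω}

/-- `E` lies in a subsystem of `p`-power index over a subgroup containing `T`. -/
lemma le_of_pPower [Finite T] [Fact p.Prime] (hT : IsPGroup p T) (hE : E.IsSaturated p) (hED : E.IsSubsystemOf D)
    (hTU : T ≤ U) (hTV : T ≤ V) {D₁ : FusionSystem V} (hi : D₁.HasPPowerIndexIn D p) : E.IsSubsystemOf D₁ := by
  let E₁ : FusionSystem T := Cfsg.Agent.Lib.FusionNormal.goodSystem E (fun P φ => φ ∈ D₁.Hom P)
    (fun P g hP hg => D₁.conj_mem (hP.trans hTV) (hTV hg))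
    (fun P Q φ ψ _ _ hφ hψ h => D₁.comp_mem hφ hψ h)
    (by
      intro P φ ψ _ _ hψφ hφ
      obtain ⟨ψ₀, hψ₀, h0⟩ := D₁.inv_mem hφ
      have : ψ = ψ₀ := by
        ext y
        rcases y with ⟨_, x, rfl⟩
        exact (hψφ x).trans (h0 x).symm
      rw [this]
      exact hψ₀)
  have key := le_of_pResidual_le hT hE (D₂ := E₁) (fun R hR => ?_)
  · exact fun P φ hφ => (key P hφ).2
  intro α hα
  obtain ⟨a, ha, rfl⟩ := hα
  have hRU := hR.trans hTU
  have hRV := hR.trans hTV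
  have h1 : (a : MulAut R) ∈ D₁.autGroup R := by
    refine hi.2.2 R hRV ?_
    refine pResidual_map_le (p := p) (D₁ := E.autGroup R) (D₂ := D.autGroup R) (fun β hβ => ?_) ⟨a, ha, rfl⟩
    exact (mem_autGroup_iff hRU).2 (maps_sub hED ((mem_autGroup_iff hR).1 hβ))
  have m1 := (mem_autGroup_iff hR).1 a.2
  have m2 := (mem_autGroup_iff hRV).1 h1
  have e : m1.hom = m2.hom := by
    ext x
    rw [m1.hom_apply, m2.hom_apply]
  refine (mem_autGroup_iff hR).2 ⟨m1.hom, ⟨m1.hom_mem, ?_⟩, m1.hom_apply⟩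
  rw [e]
  exact m2.hom_mem

/-- Transport of the generated system of `p`-power index by an automorphism. -/
lemma GenP.conjB [Finite U] (hUS : U ≤ S) (hinv : Inv F D) {b : MulAut U} (hb : b ∈ F.autGroup U) (hVU : V ≤ U)
    (hV : ∀ x ∈ V, afn b x ∈ V) [Fact p.Prime] (h : GenP D V p P f) :
    GenP D V p (img (afn b) P) (afn b ∘ f ∘ afn b⁻¹) := by
  have hmb : Maps F U (afn b) := (mem_autGroup_iff hUS).1 hb
  have himgV : ∀ {P : Subgroup Ω}, P ≤ V → img (afn b) P ≤ V := by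
    intro P hP y hy
    obtain ⟨x, hx, rfl⟩ := (mem_img_afn' (hP.trans hVU) b).1 hy
    exact hV x (hP hx)
  induction h with
  | @gen P' R α hP' hα hR =>
    have hP'U := hP'.trans hVU
    have hBP : Maps F P' (afn b) := hmb.restrict hP'U
    haveI : Finite P' := finite_of_le hP'U
    haveI := finite_mulAut hP'U
    have hmem : ∀ β : D.autGroup P', MulAut.congr (hBP.equiv rfl) (β : MulAut P') ∈ D.autGroup (img (afn b) P') := by
      intro β
      have hm := conjM hinv hb ((mem_autGroup_iff hP'U).1 β.2)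
      refine (mem_autGroup_iff (himgV hP' |>.trans hVU)).2 (hm.congr (fun y hy => ?_))
      obtain ⟨x, hx, rfl⟩ := (mem_img_afn' hP'U b).1 hy
      show afn b (afn (β : MulAut P') (afn b⁻¹ (afn b x))) = _
      rw [afn_inv_afn b (hP'U hx), hBP.afn_congr rfl (β : MulAut P') hx]
    let ψ : D.autGroup P' →* D.autGroup (img (afn b) P') :=
      { toFun := fun β => ⟨_, hmem β⟩
        map_one' := Subtype.ext (map_one _)
        map_mul' := fun a b => Subtype.ext (map_mul _ _ _) }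
    have h2 := Cfsg.Agent.Lib.PResid.map_pResidual_le_of_hom ψ p ⟨α, hα, rfl⟩
    have hR' : img (afn b) R ≤ img (afn b) P' := hBP.img_mono hR
    refine (GenP.gen (himgV hP') h2 hR').congr (fun y hy => ?_)
    obtain ⟨x, hx, rfl⟩ := (mem_img_afn' (hR.trans hP'U) b).1 hy
    show afn (MulAut.congr (hBP.equiv rfl) (α : MulAut P')) (afn b x) = afn b (afn (α : MulAut P') (afn b⁻¹ (afn b x)))
    rw [afn_inv_afn b (hP'U (hR hx)), hBP.afn_congr rfl (α : MulAut P') (hR hx)]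
  | @conj P₀ g₀ hP hg =>
    refine (GenP.conj (himgV hP) (hV _ hg)).congr (fun y hy => ?_)
    obtain ⟨x, hx, rfl⟩ := (mem_img_afn' (hP.trans hVU) b).1 hy
    have hxT := hVU (hP hx)
    show _ = afn b (g₀ * afn b⁻¹ (afn b x) * g₀⁻¹)
    rw [afn_inv_afn b hxT, afn_map_conj' b (hVU hg) hxT]
  | @comp P₀ Q₀ f₀ g₀ hf hg h ihf ihg =>
    have hPT := (hf.maps hVU).le
    have hQT := (hg.maps hVU).le
    have hfT := hf.maps hVU
    refine (ihf.comp ihg (fun y hy => ?_)).congr (fun y hy => ?_)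
    · obtain ⟨x, hx, rfl⟩ := (mem_img_afn' hPT b).1 hy
      show afn b (f₀ (afn b⁻¹ (afn b x))) ∈ _
      rw [afn_inv_afn b (hPT hx)]
      exact (mem_img_afn' hQT b).2 ⟨f₀ x, h x hx, rfl⟩
    · obtain ⟨x, hx, rfl⟩ := (mem_img_afn' hPT b).1 hy
      show afn b (g₀ (afn b⁻¹ (afn b (f₀ (afn b⁻¹ (afn b x)))))) = afn b (g₀ (f₀ (afn b⁻¹ (afn b x))))
      rw [afn_inv_afn b (hPT hx), afn_inv_afn b (hfT.mem hx)]
  | @inv P₀ f₀ g₀ hf hg h ih =>
    have hPT := (hf.maps hVU).le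
    have hfT := hf.maps hVU
    have hiT : img f₀ P₀ ≤ U := hfT.img_le
    have e : img (afn b ∘ f₀ ∘ afn b⁻¹) (img (afn b) P₀) = img (afn b) (img f₀ P₀) := by
      ext y
      rw [(ih.maps hVU).mem_img, mem_img_afn' hiT]
      constructor
      · rintro ⟨z, hz, rfl⟩
        obtain ⟨x, hx, rfl⟩ := (mem_img_afn' hPT b).1 hz
        refine ⟨f₀ x, hfT.mem_img_of_mem hx, ?_⟩
        show _ = afn b (f₀ (afn b⁻¹ (afn b x)))
        rw [afn_inv_afn b (hPT hx)]
      · rintro ⟨z, hz, rfl⟩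
        obtain ⟨x, hx, rfl⟩ := hfT.mem_img.1 hz
        refine ⟨afn b x, (mem_img_afn' hPT b).2 ⟨x, hx, rfl⟩, ?_⟩
        show afn b (f₀ (afn b⁻¹ (afn b x))) = _
        rw [afn_inv_afn b (hPT hx)]
    have hU' := conjM hinv hb hg
    have := GenP.inv ih (e.symm ▸ hU') (fun y hy => ?_)
    · rwa [e] at this
    · obtain ⟨x, hx, rfl⟩ := (mem_img_afn' hPT b).1 hy
      show afn b (g₀ (afn b⁻¹ (afn b (f₀ (afn b⁻¹ (afn b x)))))) = afn b x
      rw [afn_inv_afn b (hPT hx), afn_inv_afn b (hfT.mem hx), h x hx]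
  | @congr P₀ f₀ g₀ hf h ih =>
    have hPT := (hf.maps hVU).le
    refine ih.congr (fun y hy => ?_)
    obtain ⟨x, hx, rfl⟩ := (mem_img_afn' hPT b).1 hy
    show afn b (f₀ (afn b⁻¹ (afn b x))) = afn b (g₀ (afn b⁻¹ (afn b x)))
    rw [afn_inv_afn b (hPT hx), h x hx]

/-- The preimage in `U` of a subgroup of `Aut(T)`. -/
def Up (A : Subgroup (MulAut T)) (hn : ∀ u ∈ U, ∀ t ∈ T, u * t * u⁻¹ ∈ T) : Subgroup Ω where
  carrier := {u | u ∈ U ∧ ∃ r ∈ A, ∀ t ∈ T, afn r t = u * t * u⁻¹}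
  mul_mem' := by
    rintro x y ⟨hx, r, hr, hre⟩ ⟨hy, s, hs, hse⟩
    refine ⟨U.mul_mem hx hy, r * s, A.mul_mem hr hs, fun t ht => ?_⟩
    rw [afn_mul _ _ ht, hse t ht, hre _ (hn y hy t ht)]
    group
  one_mem' := ⟨U.one_mem, 1, A.one_mem, fun t ht => by rw [afn_one ht]; simp⟩
  inv_mem' := by
    rintro x ⟨hx, r, hr, hre⟩
    refine ⟨U.inv_mem hx, r⁻¹, A.inv_mem hr, fun t ht => ?_⟩
    have h1 : x⁻¹ * t * x⁻¹⁻¹ ∈ T := hn _ (U.inv_mem hx) t ht
    have h2 := hre _ h1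
    have e : x * (x⁻¹ * t * x⁻¹⁻¹) * x⁻¹ = t := by group
    rw [e] at h2
    conv_lhs => rw [← h2]
    exact afn_inv_afn r h1

lemma mem_Up {A : Subgroup (MulAut T)} {hn : ∀ u ∈ U, ∀ t ∈ T, u * t * u⁻¹ ∈ T} {u : Ω} :
    u ∈ Up A hn ↔ u ∈ U ∧ ∃ r ∈ A, ∀ t ∈ T, afn r t = u * t * u⁻¹ := Iff.rfl

lemma Up_le {A : Subgroup (MulAut T)} {hn : ∀ u ∈ U, ∀ t ∈ T, u * t * u⁻¹ ∈ T} : Up A hn ≤ U := fun _ h => h.1

lemma pres_le {G : Type*} [Group G] (X N : Subgroup G) : (pResidual p X).map X.subtype ≤ Rp p X N := by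
  rw [Subgroup.map_le_iff_le_comap, pResidual, Subgroup.closure_le]
  rintro ⟨a, ha⟩ hco
  refine Subgroup.subset_closure (Or.inl ⟨ha, ?_⟩)
  have h1 : Nat.Coprime (orderOf (⟨a, ha⟩ : X)) p := hco
  rwa [Subgroup.orderOf_mk] at h1

namespace Env

variable (C : Cx F E p) (h : Env F E p D)
include C h

lemma hn : ∀ u ∈ U, ∀ t ∈ T, u * t * u⁻¹ ∈ T := fun _ hu _ ht => conj_mem_T (scT C h) hu ht

/-- The subgroup over which the system of `p`-power index lives. -/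
abbrev U₁ (C : Cx F E p) (h : Env F E p D) : Subgroup Ω := Up (Rp p (D.autGroup T) (E.autGroup T)) (hn C h)

lemma T_le [Finite S] : T ≤ U₁ C h := by
  haveI : Finite T := finite_of_le C.hT.1
  intro t ht
  refine ⟨hTU C h ht, ?_⟩
  obtain ⟨a, ha, he⟩ := exists_conj_aut (F := E) le_rfl
    (fun s hs x hx => T.mul_mem (T.mul_mem hs hx) (T.inv_mem hs)) ht
  exact ⟨a, N_le_Rp ha, he⟩

lemma C_le [Finite S] : centralizerIn S T ≤ U₁ C h := by
  intro c hc
  refine ⟨h.hTC ((le_sup_right : centralizerIn S T ≤ T ⊔ centralizerIn S T) hc), 1, Subgroup.one_mem _,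
    fun t ht => ?_⟩
  rw [afn_one ht, ← (mem_centralizerIn.1 hc).2 t ht]
  group

lemma hyp_le [Finite S] [Fact p.Prime] [Finite U] : D.hyperfocalSubgroup p ≤ U₁ C h := by
  haveI : Finite T := finite_of_le C.hT.1
  intro x hx
  obtain ⟨α, hα, hαe⟩ := Cfsg.Agent.S5198.result p (hUp C h) D h.sat T (scT C h) x hx
  refine ⟨Cfsg.Agent.Lib.FusionHyperfocal.hyperfocal_le D p hx, α, ?_, fun t ht => ?_⟩
  · refine (sup_le (pres_le _ _) ?_) hα
    rintro _ ⟨t, rfl⟩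
    obtain ⟨a, ha, he⟩ := exists_conj_aut (F := E) le_rfl
      (fun s hs x hx => T.mul_mem (T.mul_mem hs hx) (T.inv_mem hs)) t.2
    have e : MulAut.conj t = a := afn_ext (fun y hy => by
      rw [he y hy, afn_of_mem _ hy]
      rfl)
    rw [e]
    exact N_le_Rp ha
  · rw [afn_of_mem α ht]
    exact hαe ⟨t, ht⟩

/-- Invariance under `Aut_F(U)`. -/
lemma U₁_aut [Finite S] {b : MulAut U} (hb : b ∈ F.autGroup U) {x : Ω} (hx : x ∈ U₁ C h) : afn b x ∈ U₁ C h := by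
  obtain ⟨hxU, r, hr, hre⟩ := hx
  have hUS' := hUS C h
  have hTU' := hTU C h
  obtain ⟨b', hb', hb'e⟩ := res_aut C.hT hTU' hUS' hb
  refine ⟨afn_mem b hxU, b' * r * b'⁻¹, ?_, fun t ht => ?_⟩
  · exact Rp_conj (fun x hx => X_conj C h hb' hx) (fun x hx => A_conj C hb' hx) hr
  · have hy : afn b'⁻¹ t ∈ T := afn_mem _ ht
    have hbm : Maps F U (afn b) := (mem_autGroup_iff hUS').1 hb
    have e1 : afn b (afn b'⁻¹ t) = t := by
      rw [← hb'e _ hy, afn_afn_inv b' ht]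
    rw [afn_mul _ _ ht, afn_mul _ _ (afn_mem _ ht), hre _ hy, hb'e _ (hn C h x hxU _ hy), hbm.map_conj hxU (hTU' hy), e1]

lemma U₁_conj [Finite S] [Finite U] {u x : Ω} (hu : u ∈ U) (hx : x ∈ U₁ C h) : u * x * u⁻¹ ∈ U₁ C h := by
  obtain ⟨a, ha, he⟩ := exists_conj_aut (F := D) le_rfl
    (fun s hs x hx => U.mul_mem (U.mul_mem hs hx) (U.inv_mem hs)) hu
  have ha' : a ∈ F.autGroup U := (mem_autGroup_iff (hUS C h)).2 (maps_sub h.sub ((mem_autGroup_iff le_rfl).1 ha))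
  rw [← he x hx.1]
  exact U₁_aut C h ha' hx

lemma scD [Finite S] [Fact p.Prime] [Finite U] : D.StronglyClosed (U₁ C h) :=
  stronglyClosed_of_hyperfocal (hUp C h) h.sat Up_le (fun _ hs _ hx => U₁_conj C h hs hx) (hyp_le C h)

lemma scF [Finite S] [Fact p.Prime] [Finite U] : F.StronglyClosed (U₁ C h) := by
  refine ⟨Up_le.trans (hUS C h), fun P hP φ hφ x => ?_⟩
  have hm := Maps.of_mem hφ
  obtain ⟨a, ha, f₀, h0, hff⟩ := h.frat (hP.trans Up_le) hm
  have := hff x x.2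
  rw [fn_coe] at this
  rw [this]
  exact U₁_aut C h ha (StrongMem (scD C h) hP h0 x.2)

section Step

variable {D₁ : FusionSystem (U₁ C h)} (hs : D₁.IsSaturated p) (hi : D₁.HasPPowerIndexIn D p)
include hs hi

lemma invD [Finite S] [Fact p.Prime] [Finite U] : Inv D D₁ := by
  intro P f
  exact inv_of_saturated Up_le (hUp C h) hs hi.1 hi.2.2

lemma fratD [Finite S] [Fact p.Prime] [Finite U] : Frat D D₁ := by
  intro P f
  exact frat_of_pPower (hUp C h) h.sat hi.1 (scD C h) (fun {P f} => invD C h hs hi)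
    (fun _ hs _ hx => U₁_conj C h hs hx) hi.2.2

/-- Invariance in `F`. -/
lemma invF [Finite S] [Fact p.Prime] [Finite U] : Inv F D₁ := by
  intro P f hf a ha
  have hV := scF C h
  have hVU : U₁ C h ≤ U := Up_le
  have hUS' := hUS C h
  have hVS := hV.1
  have hPV := hf.le
  obtain ⟨b, hb, f₀, h0, hff⟩ := h.frat hVU ((mem_autGroup_iff hVS).1 ha)
  have hf₀V : ∀ x ∈ U₁ C h, f₀ x ∈ U₁ C h := fun x hx => StrongMem (scD C h) le_rfl h0 hx
  have himg : img f₀ (U₁ C h) = U₁ C h := img_eq_of_card h0 hVU hVU hf₀V le_rfl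
  have ha₀ := h0.toAut_mem himg
  have ha₀e : ∀ x ∈ U₁ C h, afn (h0.toAut himg) x = f₀ x := fun x hx => h0.afn_toAut himg hx
  obtain ⟨k₀, hk₀, hk₀1⟩ := invD C h hs hi hf _ ha₀
  have hk₁ := GenP.conjB hUS' (fun {P f} => h.inv) hb hVU (fun x hx => U₁_aut C h hb hx)
    (genP_of_maps hVU (hUp C h) hs hi.1 hi.2.2 hk₀)
  have hk₂ := hk₁.subsys hi.2.2
  have e : img (afn b) (img (afn (h0.toAut himg)) P) = img (afn a) P := by
    ext y
    rw [mem_img_afn' ((img_afn_le hPV _).trans hVU), mem_img_afn' hPV]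
    constructor
    · rintro ⟨z, hz, rfl⟩
      obtain ⟨x, hx, rfl⟩ := (mem_img_afn' hPV _).1 hz
      refine ⟨x, hx, ?_⟩
      rw [ha₀e x (hPV hx)]
      exact hff x (hPV hx)
    · rintro ⟨x, hx, rfl⟩
      refine ⟨afn (h0.toAut himg) x, (mem_img_afn' hPV _).2 ⟨x, hx, rfl⟩, ?_⟩
      rw [ha₀e x (hPV hx)]
      exact (hff x (hPV hx)).symm
  rw [e] at hk₂
  refine ⟨_, hk₂, fun x hx => ?_⟩
  have hy : afn (h0.toAut himg) x ∈ U₁ C h := afn_mem _ (hPV hx)
  have e1 : afn a x = afn b (afn (h0.toAut himg) x) := by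
    rw [ha₀e x (hPV hx)]
    exact hff x (hPV hx)
  show afn b (k₀ (afn b⁻¹ (afn a x))) = afn a (f x)
  rw [e1, afn_inv_afn b (hVU hy), hk₀1 x hx, ha₀e _ (hf.mem hx)]
  exact (hff _ (hf.mem hx)).symm

/-- Frattini condition in `F`. -/
lemma fratF [Finite S] [Fact p.Prime] [Finite U] : Frat F D₁ := by
  intro P f hP hf
  have hV := scF C h
  have hVU : U₁ C h ≤ U := Up_le
  have hUS' := hUS C h
  obtain ⟨b, hb, f₀, h0, hff⟩ := h.frat (hP.trans hVU) hf
  obtain ⟨a₁, ha₁, f₁, h1, hff'⟩ := fratD C h hs hi hP h0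
  obtain ⟨b', hb', hb'e⟩ := res_aut hV hVU hUS' hb
  have ha₁' : a₁ ∈ F.autGroup (U₁ C h) :=
    (mem_autGroup_iff hV.1).2 (maps_sub h.sub ((mem_autGroup_iff hVU).1 ha₁))
  refine ⟨b' * a₁, Subgroup.mul_mem _ hb' ha₁', f₁, h1, fun x hx => ?_⟩
  rw [hff x hx, hff' x hx, afn_mul _ _ (h1.mem hx), hb'e _ (afn_mem _ (h1.mem hx))]

/-- The system of `p`-power index is intermediate. -/
theorem env_step [Finite S] [Fact p.Prime] [Finite U] : Env F E p D₁ := by
  have hTS := C.hT.1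
  haveI : Finite T := finite_of_le hTS
  exact ⟨sup_le (T_le C h) (C_le C h), scF C h, hs, fun P φ hφ => h.sub P (hi.1 P hφ),
    fun {P f} => invF C h hs hi, fun {P f} => fratF C h hs hi,
    le_of_pPower (C.hS.to_le hTS) C.hE h.hED (hTU C h) (T_le C h) hi⟩

/-- The automorphisms of `T` in the system of `p`-power index. -/
theorem step_aut_le [Finite S] [Fact p.Prime] [Finite U] :
    D₁.autGroup T ≤ Rp p (D.autGroup T) (E.autGroup T) := by
  intro α hα
  have hTS := C.hT.1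
  haveI : Finite T := finite_of_le hTS
  haveI : Finite (MulAut T) := finite_mulAut hTS
  have hVU : U₁ C h ≤ U := Up_le
  haveI : Finite (U₁ C h) := finite_of_le hVU
  have hVp : IsPGroup p (U₁ C h) := (hUp C h).to_le hVU
  have hT₁ : D₁.StronglyClosed T := ⟨T_le C h, fun R hR φ hφ x => (scT C h).2 R hR φ (hi.1 R hφ) x⟩
  obtain ⟨-, A, hA⟩ := (of_fullyNormalized hVp hs (fullyNormalized_T hT₁)).2
  obtain ⟨t, ht, n, hn', he⟩ := Cfsg.Agent.Lib.PResid.exists_sylow_mul_pResidual A (⟨α, hα⟩ : D₁.autGroup T)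
  have e : α = (t : MulAut T) * (n : MulAut T) := congrArg Subtype.val he
  rw [e]
  refine Subgroup.mul_mem _ ?_ ?_
  · rw [hA] at ht
    obtain ⟨g, hg, hge⟩ := mem_autInducedBy.1 (Subgroup.mem_subgroupOf.1 ht)
    obtain ⟨-, r, hr, hre⟩ := hg
    have e2 : (t : MulAut T) = r := afn_ext (fun x hx => by rw [hge x hx, hre x hx])
    rw [e2]
    exact hr
  · have h1 := pResidual_map_le (p := p) (autGroup_mono hi.1 T) ⟨n, hn', rfl⟩
    exact pres_le _ _ h1

end Step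

end Env

end Cfsg.Agent.Lib.FusionEnv
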