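/-
FusionEnv3: the reduction of a saturated system along a `p`-solvable quotient: the induction.
-/
import Mathlib
import Cfsg.Agent.Lib.FusionEnv2

set_option autoImplicit false
set_option linter.style.haveILetI false
set_option linter.unusedSectionVars false
set_option linter.unusedVariables false
set_option linter.unusedSimpArgs false

namespace Cfsg.Agent.Lib.FusionEnv

open Cfsg Cfsg.FusionSystem Cfsg.Agent.Lib.FusionCore Cfsg.Agent.Lib.FusionCore2
open Cfsg.Agent.Lib.FusionIndexPrime Cfsg.Agent.Lib.FusionPPrimeRes Cfsg.Agent.Lib.FusionInvariant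
open Cfsg.Agent.Lib.FusionPPrimeMin Cfsg.Agent.Lib.FusionPPrimeNormal
open Cfsg.Agent.Lib.FusionEnvA
open Cfsg.Agent.Lib.FusionChi (Dat sys maps_sys sys_le sys_index sys_saturated mem_autGroup_sys E_le_sys exists_ext
  Gen.sub)
open Cfsg.Agent.Lib.FusionPPower (exists_conj_aut)
open Cfsg.Agent.Lib.FusionResidual (SameMaps autGroup_mono limit_unique)
open Cfsg.Agent.Lib.FusionLimit (exists_limit' limit_index limit_pPower sm_trans sm_symm normal_of_conj)

universe u

variable {Ω : Type u} [Group Ω] {S T U V : Subgroup Ω} {F : FusionSystem S} {E : FusionSystem T} {D : FusionSystem U}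
  {p : ℕ} {P Q R : Subgroup Ω} {f g : Ω → Ω}

namespace Env

variable (C : Cx F E p) (h : Env F E p D)
include C h

/-- If `Aut_D(T) = Aut_E(T)` then `U = T C_S(T)`. -/
theorem U_le_TC [Finite S] [Fact p.Prime] (he : D.autGroup T = E.autGroup T) : U ≤ T ⊔ centralizerIn S T := by
  have hpp : p.Prime := Fact.out
  have hTS := C.hT.1
  haveI : Finite T := finite_of_le hTS
  haveI : Finite (MulAut T) := finite_mulAut hTS
  have hTp : IsPGroup p T := C.hS.to_le hTS
  have hUS' := hUS C h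
  haveI : Finite U := finite_of_le hUS'
  intro u hu
  obtain ⟨c, hc, hce⟩ := exists_conj_aut (F := D) (hTU C h) (hn C h) hu
  rw [he] at hc
  have hEsc : E.StronglyClosed T := ⟨le_rfl, fun R hR φ hφ x => (E.le_of_mem hφ).2 x⟩
  obtain ⟨-, A, hA⟩ := (of_fullyNormalized hTp C.hE (fullyNormalized_T hEsc)).2
  haveI hAn : (A : Subgroup (E.autGroup T)).Normal := by
    rw [hA]
    haveI : (autInducedBy T T).Normal := autInducedBy_self_normal
    infer_instance
  -- `c` is a `p`-element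
  obtain ⟨k, hk⟩ := hUp C h ⟨u, hu⟩
  have huk : u ^ p ^ k = 1 := by
    have := congrArg Subtype.val hk
    simpa using this
  have hck : c ^ p ^ k = 1 := by
    have hpow : ∀ (n : ℕ), ∀ t ∈ T, afn (c ^ n) t = u ^ n * t * (u ^ n)⁻¹ := by
      intro n
      induction n with
      | zero =>
        intro t ht
        rw [pow_zero, afn_one ht]
        simp
      | succ n ih =>
        intro t ht
        rw [pow_succ', afn_mul _ _ ht, hce _ (afn_mem _ ht), ih t ht, pow_succ']
        group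
    exact afn_ext (fun t ht => by rw [hpow _ t ht, huk, afn_one ht]; simp)
  have hcp : IsPGroup p (Subgroup.zpowers (⟨c, hc⟩ : E.autGroup T)) := by
    rintro ⟨x, z, rfl⟩
    refine ⟨k, Subtype.ext ?_⟩
    have hg : (⟨c, hc⟩ : E.autGroup T) ^ p ^ k = 1 := Subtype.ext hck
    show ((⟨c, hc⟩ : E.autGroup T) ^ z) ^ p ^ k = 1
    rw [← zpow_natCast, ← zpow_mul, mul_comm, zpow_mul, zpow_natCast, hg, one_zpow]
  obtain ⟨Q, hQ⟩ := hcp.exists_le_sylow
  letI := Sylow.unique_of_normal A hAn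
  have hQA : Q = A := Subsingleton.elim _ _
  have hmem : (⟨c, hc⟩ : E.autGroup T) ∈ (A : Subgroup (E.autGroup T)) := by
    rw [← hQA]
    exact hQ (Subgroup.mem_zpowers _)
  rw [hA] at hmem
  obtain ⟨t, ht, hte⟩ := mem_autInducedBy.1 (Subgroup.mem_subgroupOf.1 hmem)
  have hc' : t⁻¹ * u ∈ centralizerIn S T := by
    refine mem_centralizerIn.2 ⟨S.mul_mem (S.inv_mem (hTS ht)) (hUS' hu), fun y hy => ?_⟩
    have e : u * y * u⁻¹ = t * y * t⁻¹ := (hce y hy).symm.trans (hte y hy)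
    calc y * (t⁻¹ * u) = t⁻¹ * (t * y * t⁻¹) * u := by group
      _ = t⁻¹ * (u * y * u⁻¹) * u := by rw [e]
      _ = _ := by group
  have e : u = t * (t⁻¹ * u) := by group
  rw [e]
  exact Subgroup.mul_mem _ ((le_sup_left : T ≤ T ⊔ centralizerIn S T) ht)
    ((le_sup_right : centralizerIn S T ≤ T ⊔ centralizerIn S T) hc')

end Env

/-- The top of the induction: `F` itself. -/
theorem env_top [Finite S] (C : Cx F E p) : Env F E p F := by
  have hTS := C.hT.1
  refine ⟨sup_le hTS inf_le_left, ⟨le_rfl, fun R hR φ hφ x => (F.le_of_mem hφ).2 x⟩, C.hF, fun P => le_rfl,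
    ?_, ?_, C.hEF⟩
  · intro P f hf a ha
    have hs := sAut_of_mem ha
    have hPS := hf.le
    have h1 : Maps F (img (afn a) P) (afn a⁻¹) := hs.mB.restrict (hs.symm.img_le hPS)
    refine ⟨afn a ∘ f ∘ afn a⁻¹, h1.comp (hf.comp hs.mA (fun x hx => hf.mem hx))
      (fun y hy => hs.symm.A_mem hPS hy), fun x hx => ?_⟩
    show afn a (f (afn a⁻¹ (afn a x))) = _
    rw [hs.ba _ (hPS hx)]
  · intro P f _ hf
    exact ⟨1, Subgroup.one_mem _, f, hf, fun x hx => by rw [afn_one (hf.mem hx)]⟩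

/-- A residual limit is a subsystem. -/
theorem limit_le {q : ℕ} {A B : Subgroup Ω} {L : FusionSystem A} {X : FusionSystem B}
    (hL : IsResidualLimitOf L X q) : L.IsSubsystemOf X := by
  induction hL with
  | stable F p₀ h1 h2 => exact fun P => le_rfl
  | step F p₀ D D' hD hD' _ ih => exact fun P => (ih P).trans ((hD'.2.1.1 P).trans (hD.2.1 P))

/-- The main induction. -/
theorem main_ind [Finite S] [Fact p.Prime] (C : Cx F E p)
    [hnn : ((E.autGroup T).subgroupOf (F.autGroup T)).Normal]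
    (hs : IsPSolvable p (↥(F.autGroup T) ⧸ (E.autGroup T).subgroupOf (F.autGroup T))) (n : ℕ) :
    ∀ (U : Subgroup Ω) (D : FusionSystem U), Env F E p D → Nat.card (D.autGroup T) = n →
    ∃ F₀ : FusionSystem (T ⊔ centralizerIn S T), Env F E p F₀ ∧ F₀.autGroup T = E.autGroup T ∧
      ∀ {V V' : Subgroup Ω} (L : FusionSystem V) (L' : FusionSystem V'), L.IsResidualLimitOf F₀ p →
        L'.IsResidualLimitOf D p → SameMaps L L' := by
  have hpp : p.Prime := Fact.out
  have hTS := C.hT.1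
  haveI : Finite T := finite_of_le hTS
  haveI : Finite (MulAut T) := finite_mulAut hTS
  induction n using Nat.strong_induction_on with
  | _ n ih =>
  intro U D h hn
  have hUS' := Env.hUS C h
  haveI : Finite U := finite_of_le hUS'
  have hUp' := Env.hUp C h
  have hle := Env.A_le_X C h
  by_cases he : D.autGroup T = E.autGroup T
  · have hUe : U = T ⊔ centralizerIn S T := le_antisymm (Env.U_le_TC C h he) h.hTC
    subst hUe
    exact ⟨D, h, he, fun L L' hL hL' => limit_unique hL hpp inferInstance hUp' hL'⟩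
  have hlt : ∀ {Y Z : Subgroup (MulAut T)}, Y ≤ Z → Z ≤ D.autGroup T → Z ≠ D.autGroup T →
      Nat.card Y < n := by
    intro Y Z hYZ hZX hne
    rw [← hn]
    exact (Subgroup.card_le_of_le hYZ).trans_lt
      (Cfsg.Agent.Lib.FusionAlperin.card_lt_of_lt (lt_of_le_of_ne hZX hne))
  rcases dichot' (A := F.autGroup T) hle (Env.X_le_F C h) (Ne.symm he) hs with hL | hR
  · have h₁ := Env.env_sys C h
    obtain ⟨F₀, h₀, h₀e, h₀l⟩ := ih _ (hlt (Env.sys_aut_le C h) (Lp_le hle) hL) U _ h₁ rfl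
    refine ⟨F₀, h₀, h₀e, fun L L' hL₀ hL' => ?_⟩
    obtain ⟨_, L₁, hL₁⟩ := exists_limit' hUp' h₁.sat
    exact sm_trans (h₀l L L₁ hL₀ hL₁) (limit_index hUp' h.sat h₁.sat (sys_index _) hL' hL₁ |> sm_symm)
  · have hVU : Env.U₁ C h ≤ U := Up_le
    obtain ⟨D₁, hD₁, hi⟩ := Cfsg.Agent.Lib.FusionOPower.exists_saturated (p := p) _ U D hUp' h.sat (Env.U₁ C h) hVU
      (Env.hyp_le C h) rfl
    have h₁ := Env.env_step C h hD₁ hi
    obtain ⟨F₀, h₀, h₀e, h₀l⟩ := ih _ (hlt (Env.step_aut_le C h hD₁ hi) (Rp_le hle) hR) _ _ h₁ rfl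
    refine ⟨F₀, h₀, h₀e, fun L L' hL₀ hL' => ?_⟩
    haveI : Finite (Env.U₁ C h) := finite_of_le hVU
    obtain ⟨_, L₁, hL₁⟩ := exists_limit' (hUp'.to_le hVU) hD₁
    exact sm_trans (h₀l L L₁ hL₀ hL₁) (limit_pPower hUp' h.sat hVU
      (normal_of_conj hVU (fun _ hs _ hx => Env.U₁_conj C h hs hx)) hD₁ hi hL' hL₁ |> sm_symm)

/-- Intermediate systems over a subgroup containing its centralizer are normal. -/
theorem normal_of_env [Finite S] [Fact p.Prime] (C : Cx F E p) (h : Env F E p D) (hc : centralizerIn S U ≤ U) :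
    D.IsNormalIn F p := by
  have hUS' := Env.hUS C h
  refine ⟨⟨h.sat, C.hF, isInvariantIn_iff.2 ⟨h.sub, h.sc, fun {P f} => h.inv, fun {P f} => h.frat⟩⟩, fun α hα => ?_⟩
  have hm : Maps F U (afn α) := maps_sub h.sub ((mem_autGroup_iff le_rfl).1 hα)
  have hle : U ⊔ centralizerIn S U ≤ U := sup_le le_rfl hc
  have hSR : U ≤ U ⊔ centralizerIn S U := le_sup_left
  have hm' := hm.restrict hle
  have hleS := hle.trans hUS'
  have himg : img (afn α) (U ⊔ centralizerIn S U) = U ⊔ centralizerIn S U :=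
    img_eq_of_card hm' hleS hleS (fun x hx => hSR (afn_mem α (hle hx))) le_rfl
  refine ⟨hm'.toAut himg, hm'.toAut_mem himg, fun x => ?_, fun c hc' => ?_⟩
  · have h1 := hm'.afn_toAut himg (hSR x.2)
    rw [afn_of_mem _ (hSR x.2), afn_of_mem _ x.2] at h1
    exact h1
  · have h1 := hm'.afn_toAut himg c.2
    rw [afn_of_mem _ c.2] at h1
    rw [h1]
    have hcS : (c : Ω) ∈ U := hle c.2
    refine ⟨U.mul_mem (U.inv_mem hcS) (afn_mem α hcS), Subgroup.mem_centralizer_iff.2 (fun s hs => ?_)⟩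
    have hs' : s ∈ U := hs
    have e3 : s * (c : Ω)⁻¹ = (c : Ω)⁻¹ * s := comm_cent (Subgroup.inv_mem _ hc') hs'
    have hs₀ : afn α⁻¹ s ∈ U := afn_mem _ hs'
    have e1 : afn α (afn α⁻¹ s) = s := afn_afn_inv α hs'
    have e2 : s * afn α (c : Ω) = afn α (c : Ω) * s := by
      conv_lhs => rw [← e1]
      conv_rhs => rw [← e1]
      rw [← hm.map_mul hs₀ hcS, ← hm.map_mul hcS hs₀, comm_cent hc' hs₀]
    calc s * ((c : Ω)⁻¹ * afn α (c : Ω)) = (s * (c : Ω)⁻¹) * afn α (c : Ω) := by group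
      _ = (c : Ω)⁻¹ * (s * afn α (c : Ω)) := by rw [e3]; group
      _ = (c : Ω)⁻¹ * (afn α (c : Ω) * s) := by rw [e2]
      _ = _ := by group

/-- The centralizer of `U ≥ T C_S(T)` lies in `U`. -/
lemma cent_le (C : Cx F E p) (h : Env F E p D) : centralizerIn S U ≤ U := by
  refine le_trans ?_ (le_sup_right.trans h.hTC)
  intro c hc
  refine mem_centralizerIn.2 ⟨(mem_centralizerIn.1 hc).1, fun t ht => ?_⟩
  exact (mem_centralizerIn.1 hc).2 t (Env.hTU C h ht)

end Cfsg.Agent.Lib.FusionEnv
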