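/-
FusionEnv4: systems over `T C_S(T)` trivial modulo `T`.
-/
import Mathlib
import Cfsg.Agent.Lib.FusionEnv3
import Cfsg.Agent.Lib.AschStrong
import Cfsg.Agent.Lib.AschCF

set_option autoImplicit false
set_option linter.style.haveILetI false
set_option linter.unusedSectionVars false
set_option linter.unusedVariables false
set_option linter.unusedSimpArgs false

namespace Cfsg.Agent.Lib.FusionEnv

open Cfsg Cfsg.FusionSystem Cfsg.Agent.Lib.FusionCore Cfsg.Agent.Lib.FusionCore2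
open Cfsg.Agent.Lib.FusionIndexPrime Cfsg.Agent.Lib.FusionPPrimeRes Cfsg.Agent.Lib.FusionInvariant
open Cfsg.Agent.Lib.FusionPPrimeMin Cfsg.Agent.Lib.FusionPPrimeNormal
open Cfsg.Agent.Lib.FusionEnvA
open Cfsg.Agent.Lib.FusionPPower (exists_conj_aut)
open Cfsg.Agent.Lib.FusionResidual (SameMaps autGroup_mono limit_unique)
open Cfsg.Agent.Lib.FusionLimit (exists_limit' limit_index limit_pPower sm_trans sm_symm normal_of_conj)
open Cfsg.Agent.Lib.AschCore (CC CC_fam CC_le fam_iff focal_le_CC maps_cent focal_gen)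

universe u

variable {Ω : Type u} [Group Ω] {S T U V : Subgroup Ω} {F : FusionSystem S} {E : FusionSystem T} {D : FusionSystem U}
  {p : ℕ} {P Q R : Subgroup Ω} {f g : Ω → Ω}

/-- Maps in the generated system are trivial modulo `T`, if automorphisms of the base are. -/
lemma gen_cong [Finite U] [Fact p.Prime] (hU : IsPGroup p U) (hD : D.IsSaturated p) (hT : D.StronglyClosed T)
    (hA : ∀ a ∈ D.autGroup U, ∀ x ∈ U, x⁻¹ * afn a x ∈ T) (h : Gen D p P f) : ∀ x ∈ P, x⁻¹ * f x ∈ T := by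
  have hconj : ∀ {s x : Ω}, s ∈ U → x ∈ U → x⁻¹ * (s * x * s⁻¹) ∈ T := by
    intro s x hs hx
    obtain ⟨a, ha, he⟩ := exists_conj_aut (F := D) le_rfl
      (fun s hs x hx => U.mul_mem (U.mul_mem hs hx) (U.inv_mem hs)) hs
    rw [← he x hx]
    exact hA a ha x hx
  induction h with
  | @gen P' R₀ α hc hα hn hR =>
    intro x hx
    have hP' := hc.1
    obtain ⟨n, hn⟩ := hn
    obtain ⟨Q, hPQ, hQn⟩ := exists_fullyNormalized_conj (F := D) hP'
    obtain ⟨-, hQa⟩ := of_fullyNormalized hU hD hQn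
    have hW : IsPGroup p (Subgroup.zpowers α) := by
      rintro ⟨g, hg⟩
      obtain ⟨z, rfl⟩ := Subgroup.mem_zpowers_iff.1 hg
      refine ⟨n, Subtype.ext ?_⟩
      show (α ^ z) ^ p ^ n = 1
      rw [← zpow_natCast, zpow_comm, zpow_natCast, hn, one_zpow]
    obtain ⟨φ, hφ, hφimg, hφW⟩ := Cfsg.Agent.Lib.FusionStancu.exists_good_map hPQ hQa hW
      (Subgroup.zpowers_le.2 hα)
    obtain ⟨s, hs, h1⟩ := hφW α (Subgroup.mem_zpowers α)
    have hxP := hR hx
    have hαx : afn α x ∈ P' := afn_mem α hxP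
    have hmem : x⁻¹ * afn α x ∈ P' := P'.mul_mem (P'.inv_mem hxP) hαx
    rw [← Cfsg.Agent.Lib.FusionChi.mem_T_iff hT hφ hmem, hφ.map_mul (P'.inv_mem hxP) hαx, hφ.map_inv hxP, h1 x hxP]
    exact hconj hs (hφ.mem hxP)
  | @conj P₀ g₀ hP hg =>
    intro x hx
    exact hconj hg (hP hx)
  | @comp P₀ Q₀ f₀ g₀ hf hg h ihf ihg =>
    intro x hx
    have h1 := T.mul_mem (ihf x hx) (ihg _ (h x hx))
    have e : x⁻¹ * f₀ x * ((f₀ x)⁻¹ * g₀ (f₀ x)) = x⁻¹ * (g₀ ∘ f₀) x := by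
      simp only [Function.comp]
      group
    rwa [e] at h1
  | @inv P₀ f₀ g₀ hf hg h ih =>
    intro y hy
    obtain ⟨x, hx, rfl⟩ := hf.maps.mem_img.1 hy
    have h1 := T.inv_mem (ih x hx)
    rw [h x hx]
    rwa [mul_inv_rev, inv_inv] at h1
  | @congr P₀ f₀ g₀ hf h ih =>
    intro x hx
    rw [← h x hx]
    exact ih x hx

/-- All maps are trivial modulo `T`, if automorphisms of the base are. -/
lemma map_cong [Finite U] [Fact p.Prime] (hU : IsPGroup p U) (hD : D.IsSaturated p) (hT : D.StronglyClosed T)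
    (hA : ∀ a ∈ D.autGroup U, ∀ x ∈ U, x⁻¹ * afn a x ∈ T) (hf : Maps D P f) : ∀ x ∈ P, x⁻¹ * f x ∈ T := by
  obtain ⟨c, hc, f₀, h0, hff⟩ : BigM D p P f := maps_ofMaps.1 (le_maps (le_bigSys hU hD) hf)
  intro x hx
  have h1 := T.mul_mem (gen_cong hU hD hT hA h0 x hx) (hA c hc _ (h0.maps.mem hx))
  rw [hff x hx]
  have e : x⁻¹ * f₀ x * ((f₀ x)⁻¹ * afn c (f₀ x)) = x⁻¹ * afn c (f₀ x) := by group
  rwa [e] at h1

lemma focal_le_of_cong [Finite U] [Fact p.Prime] (hU : IsPGroup p U) (hD : D.IsSaturated p) (hT : D.StronglyClosed T)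
    (hA : ∀ a ∈ D.autGroup U, ∀ x ∈ U, x⁻¹ * afn a x ∈ T) : D.focalSubgroup ≤ T := by
  rw [focalSubgroup, Subgroup.closure_le]
  rintro _ ⟨P, φ, x, hφ, rfl⟩
  have := map_cong hU hD hT hA (Maps.of_mem hφ) x x.2
  rwa [fn_coe] at this

/-- Under the hypothesis on focal subgroups: `F₀` acts trivially modulo `T`. -/
theorem aut_cong [Finite S] [Fact p.Prime] (C : Cx F E p) (hE : E.IsNormalIn F p)
    (hfoc : ∀ D₀ : FusionSystem (centralizerIn S T), F.IsCentralizerSystem T D₀ → D₀.focalSubgroup ≤ T)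
    {D : FusionSystem (T ⊔ centralizerIn S T)} (h : Env F E p D) (he : D.autGroup T = E.autGroup T)
    {γ : MulAut ↥(T ⊔ centralizerIn S T)} (hγ : γ ∈ D.autGroup (T ⊔ centralizerIn S T)) :
    ∀ x ∈ T ⊔ centralizerIn S T, x⁻¹ * afn γ x ∈ T := by
  have hTS := C.hT.1
  have hTU : T ≤ T ⊔ centralizerIn S T := le_sup_left
  have hCU : centralizerIn S T ≤ T ⊔ centralizerIn S T := le_sup_right
  have hUS : T ⊔ centralizerIn S T ≤ S := sup_le hTS inf_le_left
  haveI : Finite ↥(T ⊔ centralizerIn S T) := finite_of_le hUS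
  haveI : Finite T := finite_of_le hTS
  have hsc := Env.scT C h
  have hγF : γ ∈ F.autGroup (T ⊔ centralizerIn S T) :=
    (mem_autGroup_iff hUS).2 (maps_sub h.sub ((mem_autGroup_iff le_rfl).1 hγ))
  obtain ⟨β, hβ, hβe⟩ := Env.res_aut hsc hTU le_rfl hγ
  rw [he] at hβ
  obtain ⟨b, hb, hb1, hb2⟩ := hE.2 β hβ
  have hb1' : ∀ t ∈ T, afn b t = afn β t := by
    intro t ht
    have h1 := hb1 ⟨t, ht⟩
    rw [afn_of_mem _ (hTU ht), afn_of_mem _ ht]
    exact h1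
  have hb2' : ∀ c ∈ centralizerIn S T, c⁻¹ * afn b c ∈ T := by
    intro c hc
    have h1 := hb2 ⟨c, hCU hc⟩ hc
    rw [afn_of_mem _ (hCU hc)]
    exact h1.1
  have hδ : b⁻¹ * γ ∈ F.autGroup (T ⊔ centralizerIn S T) := Subgroup.mul_mem _ (Subgroup.inv_mem _ hb) hγF
  have hδm : Maps F (T ⊔ centralizerIn S T) (afn (b⁻¹ * γ)) := (mem_autGroup_iff hUS).1 hδ
  have hδT : ∀ t ∈ T, afn (b⁻¹ * γ) t = t := by
    intro t ht
    rw [afn_mul _ _ (hTU ht), ← hβe t ht, ← hb1' t ht, afn_inv_afn b (hTU ht)]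
  have hδC : ∀ c ∈ centralizerIn S T, afn (b⁻¹ * γ) c ∈ centralizerIn S T := by
    intro c hc
    refine mem_centralizerIn.2 ⟨hδm.mem (hCU hc), fun t ht => ?_⟩
    have e1 := hδm.map_mul (hTU ht) (hCU hc)
    have e2 := hδm.map_mul (hCU hc) (hTU ht)
    rw [hδT t ht] at e1 e2
    rw [← e1, ← e2, comm_cent hc ht]
  obtain ⟨D₀, hD₀⟩ := exists_centralizerSystem (F := F) hTS
  have hm₀ : Maps D₀ (centralizerIn S T) (afn (b⁻¹ * γ)) := by
    refine (maps_cent hD₀).2 ⟨hδm.restrict hCU, le_rfl, hδC, _, hδm.restrict (sup_le hCU hTU), fun _ _ => rfl, hδT⟩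
  have hcc : ∀ c ∈ centralizerIn S T, c⁻¹ * afn γ c ∈ T := by
    intro c hc
    have h1 := hfoc D₀ hD₀ (focal_gen hm₀ hc)
    have hd := hδC c hc
    have h2 := T.mul_mem h1 (hb2' _ hd)
    have e1 : afn b (afn (b⁻¹ * γ) c) = afn γ c := by
      rw [afn_mul _ _ (hCU hc), afn_afn_inv b (afn_mem γ (hCU hc))]
    rw [e1] at h2
    have e2 : c⁻¹ * afn (b⁻¹ * γ) c * ((afn (b⁻¹ * γ) c)⁻¹ * afn γ c) = c⁻¹ * afn γ c := by group
    rwa [e2] at h2
  intro x hx
  obtain ⟨a, ha, c, hc, rfl⟩ := mem_sup_cent le_rfl hx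
  have hγm : Maps D (T ⊔ centralizerIn S T) (afn γ) := (mem_autGroup_iff le_rfl).1 hγ
  rw [hγm.map_mul (hTU ha) (hCU hc), ← hβe a ha]
  have h1 : a⁻¹ * afn β a ∈ T := T.mul_mem (T.inv_mem ha) (afn_mem β ha)
  have h2 := inv_conj_mem_T C.hT (mem_centralizerIn.1 hc).1 h1
  have h3 := T.mul_mem h2 (hcc c hc)
  have e : c⁻¹ * (a⁻¹ * afn β a) * c * (c⁻¹ * afn γ c) = (a * c)⁻¹ * (afn β a * afn γ c) := by group
  rwa [e] at h3

/-- Under the hypothesis on focal subgroups, `E` has `p`-power index in the terminal system. -/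
theorem pPower_of_terminal [Finite S] [Fact p.Prime] (C : Cx F E p) (hE : E.IsNormalIn F p)
    (hfoc : ∀ D₀ : FusionSystem (centralizerIn S T), F.IsCentralizerSystem T D₀ → D₀.focalSubgroup ≤ T)
    {D : FusionSystem (T ⊔ centralizerIn S T)} (h : Env F E p D) (he : D.autGroup T = E.autGroup T) :
    E.HasPPowerIndexIn D p := by
  have hTS := C.hT.1
  have hUS : T ⊔ centralizerIn S T ≤ S := sup_le hTS inf_le_left
  haveI : Finite ↥(T ⊔ centralizerIn S T) := finite_of_le hUS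
  have hsc := Env.scT C h
  have hTU := Env.hTU C h
  have hfo := focal_le_of_cong (Env.hUp C h) h.sat hsc (fun a ha => aut_cong C hE hfoc h he ha)
  refine ⟨h.hED, (Cfsg.Agent.Lib.AschCore.hyperfocal_le_focal D).trans hfo, fun P hP => ?_⟩
  rintro _ ⟨α, -, rfl⟩
  have hm : Maps D P (afn (α : MulAut P)) := (mem_autGroup_iff (hP.trans hTU)).1 α.2
  obtain ⟨a, ha, f₀, h0, hff⟩ := Env.fratE C h hP hm
  rw [he] at ha
  have hm' := h0.comp ((mem_autGroup_iff le_rfl).1 ha) (fun x hx => h0.mem hx)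
  exact (mem_autGroup_iff hP).2 (hm'.congr (fun x hx => (hff x hx).symm))

end Cfsg.Agent.Lib.FusionEnv
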