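import Mathlib
import Cfsg.Agent.Lib.FusionEssSmall

/-!
# Abelian `p`-groups of rank at most two as essential subgroups
-/

set_option autoImplicit false

namespace Cfsg.Agent.Lib.FusionEssAb

open Cfsg Cfsg.FusionSystem Cfsg.Agent.Lib Cfsg.Agent.Lib.FusionEssSmall
open scoped commutatorElement

/-- Binomial computation: `f^p = 1`, `(f-1)² M ≤ pM`, `p ≥ 5` implies `p (f-1) M ≤ p² M`. -/
theorem end_sum_apply {M ι : Type*} [AddCommGroup M] (s : Finset ι) (g : ι → AddMonoid.End M) (x : M) :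
    (∑ m ∈ s, g m) x = ∑ m ∈ s, g m x := by
  classical
  induction s using Finset.induction_on with
  | empty => rfl
  | insert a s ha ih =>
    rw [Finset.sum_insert ha, Finset.sum_insert ha]
    change g a x + (∑ m ∈ s, g m) x = _
    rw [ih]

/-- Binomial computation: `f^p = 1`, `(f-1)² M ≤ pM`, `p ≥ 5` implies `p (f-1) M ≤ p² M`. -/
theorem binom_key {M : Type*} [AddCommGroup M] {p : ℕ} (hp : p.Prime) (h5 : 5 ≤ p)
    (f : AddMonoid.End M) (hf : f ^ p = 1)
    (hN : ∀ x, ∃ z, (f - 1) ((f - 1) x) = p • z) :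
    ∀ x, ∃ z, p • ((f - 1) x) = (p * p) • z := by
  classical
  obtain ⟨N, hNdef⟩ : ∃ N, N = f - 1 := ⟨_, rfl⟩
  rw [← hNdef] at hN ⊢
  have hfN : f = N + 1 := by rw [hNdef]; abel
  have hN2 : ∀ (j : ℕ) (x : M), ∃ z, (N ^ (j + 2)) x = p • z := by
    intro j
    induction j with
    | zero =>
      intro x
      obtain ⟨z, hz⟩ := hN x
      exact ⟨z, by rw [← hz, zero_add, pow_two]; rfl⟩
    | succ j ih =>
      intro x
      obtain ⟨z, hz⟩ := ih (N x)
      refine ⟨z, ?_⟩
      rw [← hz, show j + 1 + 2 = (j + 2) + 1 by ring, pow_succ]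
      rfl
  have hN4 : ∀ (j : ℕ) (x : M), ∃ z, (N ^ (j + 4)) x = (p * p) • z := by
    intro j x
    obtain ⟨z, hz⟩ := hN2 j x
    obtain ⟨w, hw⟩ := hN z
    refine ⟨w, ?_⟩
    have : N ^ (j + 4) = N * N * N ^ (j + 2) := by
      rw [show j + 4 = 2 + (j + 2) by ring, pow_add, pow_two]
    rw [this]
    change N (N ((N ^ (j + 2)) x)) = _
    rw [hz, map_nsmul, map_nsmul, hw, smul_smul]
  intro x
  have hexp : (N + 1) ^ p = 1 := by rw [← hfN]; exact hf
  rw [(Commute.one_right N).add_pow p] at hexp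
  have hx := congrArg (fun g : AddMonoid.End M => g x) hexp
  simp only [one_pow, mul_one] at hx
  obtain ⟨q, rfl⟩ : ∃ q, p = q + 2 := ⟨p - 2, by have := hp.two_le; omega⟩
  rw [Finset.sum_range_succ', Finset.sum_range_succ'] at hx
  simp only [pow_zero, pow_one, Nat.choose_zero_right, Nat.choose_one_right, zero_add] at hx
  have hrest : ∀ m ∈ Finset.range (q + 1), ∃ z, (N ^ (m + 1 + 1) * (((q + 2).choose (m + 1 + 1) : ℕ) : AddMonoid.End M)) x
      = ((q + 2) * (q + 2)) • z := by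
    intro m hm
    have hm' : m ≤ q := by
      have := Finset.mem_range.1 hm
      omega
    have hcast : (N ^ (m + 1 + 1) * (((q + 2).choose (m + 1 + 1) : ℕ) : AddMonoid.End M)) x
        = ((q + 2).choose (m + 1 + 1)) • (N ^ (m + 1 + 1)) x := by
      have : (N ^ (m + 1 + 1) * (((q + 2).choose (m + 1 + 1) : ℕ) : AddMonoid.End M))
          = ((q + 2).choose (m + 1 + 1)) • N ^ (m + 1 + 1) := by
        rw [nsmul_eq_mul, Nat.cast_comm]
      rw [this]
      rfl
    rw [hcast]
    by_cases h4 : m < 2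
    · -- `m + 2 ∈ {2,3}`
      have hd : q + 2 ∣ (q + 2).choose (m + 1 + 1) :=
        hp.dvd_choose_self (by omega) (by omega)
      obtain ⟨c, hc⟩ := hd
      obtain ⟨z, hz⟩ := hN2 m x
      refine ⟨c • z, ?_⟩
      rw [hc, show m + 1 + 1 = m + 2 by ring, hz, smul_smul, smul_smul]
      congr 1
      ring
    · obtain ⟨j, rfl⟩ : ∃ j, m = j + 2 := ⟨m - 2, by omega⟩
      obtain ⟨z, hz⟩ := hN4 j x
      refine ⟨((q + 2).choose (j + 2 + 1 + 1)) • z, ?_⟩
      rw [show j + 2 + 1 + 1 = j + 4 by ring, hz, smul_smul, smul_smul]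
      congr 1
      ring
  choose! r hr using hrest
  refine ⟨-∑ m ∈ Finset.range (q + 1), r m, ?_⟩
  have hsum : ∀ (s : Finset ℕ), (s ⊆ Finset.range (q + 1)) →
      (∑ m ∈ s, (N ^ (m + 1 + 1) * (((q + 2).choose (m + 1 + 1) : ℕ) : AddMonoid.End M))) x
        = ((q + 2) * (q + 2)) • ∑ m ∈ s, r m := by
    intro s hs
    rw [end_sum_apply]
    rw [Finset.smul_sum]
    exact Finset.sum_congr rfl (fun m hm => hr m (hs hm))
  have h1 := hsum _ (subset_refl _)
  have hB : (N * (((q + 2 : ℕ)) : AddMonoid.End M)) x = (q + 2) • N x := by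
    have : N * (((q + 2 : ℕ)) : AddMonoid.End M) = (q + 2) • N := by
      rw [nsmul_eq_mul, Nat.cast_comm]
    rw [this]
    rfl
  have hC : ((1 : AddMonoid.End M) * ((1 : ℕ) : AddMonoid.End M)) x = x := by
    simp
  have hx2 : (∑ m ∈ Finset.range (q + 1), N ^ (m + 1 + 1) * (((q + 2).choose (m + 1 + 1) : ℕ) : AddMonoid.End M)) x
      + (N * (((q + 2 : ℕ)) : AddMonoid.End M)) x + ((1 : AddMonoid.End M) * ((1 : ℕ) : AddMonoid.End M)) x = x := hx
  rw [h1, hB, hC, add_eq_right] at hx2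
  rw [smul_neg]
  exact eq_neg_of_add_eq_zero_right hx2

section Ab

variable {Q : Type*} [CommGroup Q] [Finite Q] {p : ℕ} [hp : Fact p.Prime]

/-- `Ω`: elements killed by `m`. -/
def omegaSub (Q : Type*) [CommGroup Q] (m : ℕ) : Subgroup Q := (powMonoidHom m : Q →* Q).ker

theorem mem_omegaSub {m : ℕ} {x : Q} : x ∈ omegaSub Q m ↔ x ^ m = 1 := by
  simp [omegaSub, MonoidHom.mem_ker]

theorem comm_le (N : Subgroup Q) : commutator Q ≤ N := by
  rw [commutator_def]
  rw [Subgroup.commutator_le]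
  intro a _ b _
  have : ⁅a, b⁆ = 1 := by
    rw [commutatorElement_def, mul_comm a b]
    group
  rw [this]
  exact one_mem _

/-- `Φ` consists of `p`-th powers. -/
theorem frattini_le_pow : frattini Q ≤ (powMonoidHom p : Q →* Q).range :=
  Frat.frattini_le_of_commutator_pow _ (comm_le _) (fun x => ⟨x, rfl⟩)

/-- A `p`-element of `Aut(Q)`, `|Q : Φ| = p²`, fixes a point of `Q / Φ` outside `Φ`. -/
theorem exists_fixed (hi : (frattini Q).index = p ^ 2) (β : MulAut Q) {k : ℕ} (hβ : β ^ (p ^ k) = 1) :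
    ∃ v, v ∉ frattini Q ∧ v⁻¹ * β v ∈ frattini Q := by
  classical
  have hpp : p.Prime := hp.out
  let Φ := frattini Q
  have hβΦ : Φ.map (β : Q ≃* Q).toMonoidHom = Φ := by
    exact Subgroup.characteristic_iff_map_eq.1 (frattini_characteristic (G := Q)) (β : Q ≃* Q)
  let γ : MulAut (Q ⧸ Φ) := QuotientGroup.congr Φ Φ (β : Q ≃* Q) hβΦ
  have hγmk : ∀ (n : ℕ) (x : Q), (γ ^ n) (x : Q ⧸ Φ) = (((β ^ n) x : Q) : Q ⧸ Φ) := by
    intro n
    induction n with
    | zero => intro x; rfl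
    | succ n ih =>
      intro x
      rw [pow_succ, pow_succ, MulAut.mul_apply, MulAut.mul_apply, ← ih]
      rfl
  have hγk : γ ^ (p ^ k) = 1 := by
    ext y
    induction y using QuotientGroup.induction_on with
    | H x =>
      rw [hγmk, hβ]
      rfl
  letI : Fintype (Q ⧸ Φ) := Fintype.ofFinite _
  let f : Function.End (Q ⧸ Φ) := fun t => γ t
  have hfn : ∀ (n : ℕ) (t : Q ⧸ Φ), (f ^ n) t = (γ ^ n) t := by
    intro n
    induction n with
    | zero => intro t; rfl
    | succ n ih =>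
      intro t
      rw [pow_succ, pow_succ, MulAut.mul_apply]
      change (f ^ n) (f t) = _
      rw [ih]
  have hf : f ^ (p ^ k) = 1 := by
    funext t
    rw [hfn, hγk]
    rfl
  have hmod := Equiv.Perm.card_fixedPoints_modEq (f := f) hf
  have hcard : Fintype.card (Q ⧸ Φ) = p ^ 2 := by
    rw [← Nat.card_eq_fintype_card]
    exact hi
  by_contra hcon
  push Not at hcon
  have hall : ∀ t : Q ⧸ Φ, f t = t → t = 1 := by
    intro t
    induction t using QuotientGroup.induction_on with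
    | H v =>
      intro hv
      by_contra hne
      have hv1 : v ∉ Φ := fun hm => hne ((QuotientGroup.eq_one_iff v).2 hm)
      apply hcon v hv1
      have h2 : (((β v : Q)) : Q ⧸ Φ) = (v : Q ⧸ Φ) := hv
      exact QuotientGroup.eq.1 h2.symm
  have hone : Fintype.card f.fixedPoints = 1 := by
    rw [Fintype.card_eq_one_iff]
    refine ⟨⟨1, ?_⟩, ?_⟩
    · change γ 1 = 1
      exact map_one γ
    · rintro ⟨t, ht⟩
      exact Subtype.ext (hall t ht)
  rw [hcard, hone] at hmod
  have h3 : p ∣ p ^ 2 := dvd_pow_self p (by norm_num)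
  have h4 : 1 ≡ 0 [MOD p] := hmod.symm.trans ((Nat.modEq_zero_iff_dvd).2 h3)
  have h5 : p ∣ 1 := (Nat.modEq_zero_iff_dvd).1 h4
  exact hpp.one_lt.ne' (Nat.dvd_one.1 h5)

/-- `p ≥ 5`, `|Q : Φ| = p²`, `Ω₁(Q) ≤ Φ`: automorphisms of order `p` act trivially on `Q / Φ`. -/
theorem kerPhi_of_order_p (h5 : 5 ≤ p) (hQ : IsPGroup p Q) (hi : (frattini Q).index = p ^ 2)
    (hΩ : ∀ z : Q, z ^ p = 1 → z ∈ frattini Q) (β : MulAut Q) (hβ : β ^ p = 1) : β ∈ kerPhi Q := by
  classical
  have hpp : p.Prime := hp.out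
  obtain ⟨v, hv, hvβ⟩ := exists_fixed hi β (k := 1) (by simpa using hβ)
  let Φ := frattini Q
  let L : Subgroup Q := Φ ⊔ Subgroup.zpowers v
  have hΦL : Φ ≤ L := le_sup_left
  have hLn : ∀ {U : Subgroup Q}, (U.subgroupOf ⊤).Normal ∨ True := fun {_} => Or.inr trivial
  have hvL : v ∈ L := Subgroup.mem_sup_right (Subgroup.mem_zpowers v)
  -- invariance
  have hLβ : ∀ x, x ∈ L → β x ∈ L := by
    intro x hx
    have hle : L ≤ L.comap (β : Q ≃* Q).toMonoidHom := by
      refine sup_le ?_ ?_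
      · intro y hy
        exact hΦL (frattini_inv β y hy)
      · rw [Subgroup.zpowers_le]
        change β v ∈ L
        have : β v = v * (v⁻¹ * β v) := by group
        rw [this]
        exact mul_mem hvL (hΦL hvβ)
    exact hle hx
  have hLi := iff_of_forward L β hLβ
  have hΦi := iff_of_forward Φ β (frattini_inv β)
  have hrel : Φ.relIndex L = p := by
    have h1 : Φ.relIndex L ∣ p := Frat.relIndex_sup_zpowers_dvd hQ (le_refl _) v
    rcases (Nat.dvd_prime hpp).1 h1 with h | h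
    · exfalso
      rw [Subgroup.relIndex_eq_one] at h
      exact hv (h hvL)
    · exact h
  have hidx : L.index = p := by
    have h := Subgroup.relIndex_mul_index hΦL
    rw [hrel] at h
    change p * L.index = (frattini Q).index at h
    rw [hi, pow_two] at h
    exact Nat.eq_of_mul_eq_mul_left hpp.pos h
  have hk1 : β ^ (p ^ 1) = 1 := by simpa using hβ
  have hs1 : ∀ x, x⁻¹ * β x ∈ L := by
    intro x
    refine section_trivial L ⊤ le_top Subgroup.normal_subgroupOf ?_ β (by simp) hLi hk1 x trivial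
    rw [Subgroup.relIndex_top_right, hidx]
  have hs2 : ∀ x ∈ L, x⁻¹ * β x ∈ Φ := by
    intro x hx
    refine section_trivial Φ L hΦL Subgroup.normal_subgroupOf ?_ β hLi hΦi hk1 x hx
    rw [hrel]
  -- additive form
  let f : AddMonoid.End (Additive Q) := (β : Q ≃* Q).toMonoidHom.toAdditive
  have hfx : ∀ x : Q, f (Additive.ofMul x) = Additive.ofMul (β x) := fun x => rfl
  have hfn : ∀ (n : ℕ) (x : Q), (f ^ n) (Additive.ofMul x) = Additive.ofMul ((β ^ n) x) := by
    intro n
    induction n with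
    | zero => intro x; rfl
    | succ n ih =>
      intro x
      rw [pow_succ, pow_succ, MulAut.mul_apply]
      change (f ^ n) (f (Additive.ofMul x)) = _
      rw [hfx, ih]
  have hf : f ^ p = 1 := by
    ext x
    have := hfn p (Additive.toMul x)
    rw [hβ] at this
    exact this
  have hNx : ∀ x : Q, (f - 1) (Additive.ofMul x) = Additive.ofMul (x⁻¹ * β x) := by
    intro x
    change f (Additive.ofMul x) - Additive.ofMul x = _
    rw [hfx, ofMul_mul, ofMul_inv]
    abel
  have hN : ∀ x : Additive Q, ∃ z, (f - 1) ((f - 1) x) = p • z := by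
    intro x
    have h1 : (f - 1) x = Additive.ofMul ((Additive.toMul x)⁻¹ * β (Additive.toMul x)) := hNx _
    rw [h1, hNx]
    obtain ⟨w, hw⟩ := frattini_le_pow (p := p) (hs2 _ (hs1 (Additive.toMul x)))
    refine ⟨Additive.ofMul w, ?_⟩
    rw [← hw]
    rfl
  have hkey := binom_key hpp h5 f hf hN
  intro x
  obtain ⟨z, hz⟩ := hkey (Additive.ofMul x)
  rw [hNx] at hz
  have hz2 : (x⁻¹ * β x) ^ p = (Additive.toMul z) ^ (p * p) := hz
  have hz3 : ((x⁻¹ * β x) * ((Additive.toMul z) ^ p)⁻¹) ^ p = 1 := by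
    rw [mul_pow, hz2, inv_pow, ← pow_mul, mul_inv_cancel]
  have h6 := hΩ _ hz3
  have h7 : (Additive.toMul z) ^ p ∈ frattini Q := Frat.pow_mem_frattini hQ _
  have h8 := mul_mem h6 h7
  simpa using h8

/-- The torsion of `ZMod (p^a)`. -/
theorem zmod_torsion {a : ℕ} (ha : 1 ≤ a) (u : ZMod (p ^ a)) (h : p • u = 0) :
    ∃ i : ℕ, u = ((p ^ (a - 1) * i : ℕ) : ZMod (p ^ a)) := by
  have hpp : p.Prime := hp.out
  haveI : NeZero (p ^ a) := ⟨pow_ne_zero a hpp.ne_zero⟩
  have h1 : ((p * u.val : ℕ) : ZMod (p ^ a)) = 0 := by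
    rw [Nat.cast_mul, ZMod.natCast_zmod_val, ← nsmul_eq_mul]
    exact h
  rw [ZMod.natCast_eq_zero_iff] at h1
  obtain ⟨b, rfl⟩ : ∃ b, a = b + 1 := ⟨a - 1, by omega⟩
  have h1' : p * p ^ b ∣ p * u.val := by rw [← pow_succ']; exact h1
  have h2 := Nat.dvd_of_mul_dvd_mul_left hpp.pos h1'
  obtain ⟨i, hi⟩ := h2
  refine ⟨i, ?_⟩
  rw [Nat.add_sub_cancel, ← hi, ZMod.natCast_zmod_val]

/-- Generators `x, y`, one of them redundant modulo `Φ`: index at most `p`. -/
theorem not_mem_aux (hQ : IsPGroup p Q) (hi : (frattini Q).index = p ^ 2) (x y : Q)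
    (hgen : Subgroup.closure ({x, y} : Set Q) = ⊤) {i j : ℕ} (hxy : x ^ i * y ^ j ∈ frattini Q)
    (hpi : ¬ p ∣ i) : False := by
  have hpp : p.Prime := hp.out
  let Φ := frattini Q
  let W : Subgroup Q := Φ ⊔ Subgroup.zpowers y
  have hyW : y ∈ W := Subgroup.mem_sup_right (Subgroup.mem_zpowers y)
  have hΦW : Φ ≤ W := le_sup_left
  have h1 : x ^ i ∈ W := by
    have : x ^ i = (x ^ i * y ^ j) * (y ^ j)⁻¹ := by group
    rw [this]
    exact mul_mem (hΦW hxy) (inv_mem (pow_mem hyW j))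
  have h2 : x ^ p ∈ W := hΦW (Frat.pow_mem_frattini hQ x)
  have hxW : x ∈ W := by
    have hco : Nat.Coprime i p := (Nat.Prime.coprime_iff_not_dvd hpp).2 hpi |>.symm
    have hb := Nat.gcd_eq_gcd_ab i p
    rw [hco.gcd_eq_one] at hb
    have : x = (x ^ i) ^ (Nat.gcdA i p) * (x ^ p) ^ (Nat.gcdB i p) := by
      rw [← zpow_natCast, ← zpow_natCast, ← zpow_mul, ← zpow_mul, ← zpow_add]
      have h3 : (i : ℤ) * Nat.gcdA i p + p * Nat.gcdB i p = 1 := by
        rw [← hb]; simp
      rw [h3, zpow_one]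
    rw [this]
    exact mul_mem (zpow_mem h1 _) (zpow_mem h2 _)
  have htop : W = ⊤ := by
    rw [eq_top_iff, ← hgen, Subgroup.closure_le]
    rintro z (rfl | rfl)
    · exact hxW
    · exact hyW
  have hrel : Φ.relIndex W ∣ p := Frat.relIndex_sup_zpowers_dvd hQ (le_refl _) y
  rw [htop, Subgroup.relIndex_top_right] at hrel
  change (frattini Q).index ∣ p at hrel
  rw [hi] at hrel
  have := Nat.le_of_dvd hpp.pos hrel
  have h5 := hpp.two_le
  nlinarith

/-- Homocyclic recognition. -/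
theorem nonempty_iso (hQ : IsPGroup p Q) {a : ℕ} (ha : 1 ≤ a) (hexp : ∀ z : Q, z ^ (p ^ a) = 1)
    (x y : Q) (hgen : Subgroup.closure ({x, y} : Set Q) = ⊤)
    (hL : ∀ z : Q, z ^ (p ^ (a - 1)) = 1 → z ∈ frattini Q) (hi : (frattini Q).index = p ^ 2) :
    Nonempty (Q ≃* Multiplicative (ZMod (p ^ a) × ZMod (p ^ a))) := by
  classical
  have hpp : p.Prime := hp.out
  haveI : NeZero (p ^ a) := ⟨pow_ne_zero a hpp.ne_zero⟩
  let n := p ^ a
  have hz : ∀ w : Q, (zmultiplesHom (Additive Q)) (Additive.ofMul w) ((n : ℕ) : ℤ) = 0 := by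
    intro w
    rw [zmultiplesHom_apply, natCast_zsmul]
    exact hexp w
  let g : Q → (ZMod n →+ Additive Q) := fun w => ZMod.lift n ⟨zmultiplesHom _ (Additive.ofMul w), hz w⟩
  have hg : ∀ (w : Q) (i : ℕ), g w (i : ZMod n) = Additive.ofMul (w ^ i) := by
    intro w i
    have h1 : ((i : ℕ) : ZMod n) = (((i : ℤ)) : ZMod n) := by simp
    rw [h1]
    change ZMod.lift n ⟨zmultiplesHom _ (Additive.ofMul w), hz w⟩ ((i : ℤ) : ZMod n) = _
    rw [ZMod.lift_coe]
    change (zmultiplesHom (Additive Q)) (Additive.ofMul w) (i : ℤ) = _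
    rw [zmultiplesHom_apply, natCast_zsmul]
    rfl
  let G : ZMod n × ZMod n →+ Additive Q := (g x).coprod (g y)
  have hG : ∀ i j : ℕ, G ((i : ZMod n), (j : ZMod n)) = Additive.ofMul (x ^ i * y ^ j) := by
    intro i j
    change g x (i : ZMod n) + g y (j : ZMod n) = _
    rw [hg, hg]
    rfl
  have hsurj : Function.Surjective G := by
    let W : Subgroup Q :=
      { carrier := {q | ∃ z, G z = Additive.ofMul q}
        mul_mem' := by
          rintro a b ⟨z1, h1⟩ ⟨z2, h2⟩
          exact ⟨z1 + z2, by rw [map_add, h1, h2]; rfl⟩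
        one_mem' := ⟨0, by rw [map_zero]; rfl⟩
        inv_mem' := by
          rintro a ⟨z1, h1⟩
          exact ⟨-z1, by rw [map_neg, h1]; rfl⟩ }
    have hWtop : W = ⊤ := by
      rw [eq_top_iff, ← hgen, Subgroup.closure_le]
      rintro z (rfl | rfl)
      · refine ⟨((1 : ℕ), (0 : ℕ)), ?_⟩
        have := hG 1 0
        simpa using this
      · refine ⟨((0 : ℕ), (1 : ℕ)), ?_⟩
        have := hG 0 1
        simpa using this
    intro q
    have hq : Additive.toMul q ∈ W := by rw [hWtop]; trivial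
    obtain ⟨z, hz⟩ := hq
    exact ⟨z, hz⟩
  have hinj : Function.Injective G := by
    rw [injective_iff_map_eq_zero]
    intro z hz
    by_contra hz0
    have hn0 : ∀ u : ZMod n, (p ^ a) • u = 0 := by
      intro u
      rw [nsmul_eq_mul]
      have : ((p ^ a : ℕ) : ZMod n) = 0 := ZMod.natCast_self n
      rw [this, zero_mul]
    have hex : ∃ t, p ^ t • z = 0 := by
      refine ⟨a, ?_⟩
      exact Prod.ext (hn0 z.1) (hn0 z.2)
    let t := Nat.find hex
    have ht : p ^ t • z = 0 := Nat.find_spec hex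
    have ht0 : t ≠ 0 := by
      intro h0
      rw [h0, pow_zero, one_smul] at ht
      exact hz0 ht
    obtain ⟨s, hs⟩ : ∃ s, t = s + 1 := ⟨t - 1, by omega⟩
    have hw0 : p ^ s • z ≠ 0 := Nat.find_min hex (m := s) (by omega)
    obtain ⟨w, hw⟩ : ∃ w, w = p ^ s • z := ⟨_, rfl⟩
    rw [← hw] at hw0
    have hpw : p • w = 0 := by
      rw [hw, smul_smul, ← pow_succ', ← hs]
      exact ht
    have hGw : G w = 0 := by
      rw [hw, map_nsmul, hz, smul_zero]
    obtain ⟨i, hi1⟩ := zmod_torsion ha w.1 (congrArg Prod.fst hpw)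
    obtain ⟨j, hj1⟩ := zmod_torsion ha w.2 (congrArg Prod.snd hpw)
    have hwe : w = (((p ^ (a - 1) * i : ℕ) : ZMod n), ((p ^ (a - 1) * j : ℕ) : ZMod n)) :=
      Prod.ext hi1 hj1
    rw [hwe, hG] at hGw
    have h1 : x ^ (p ^ (a - 1) * i) * y ^ (p ^ (a - 1) * j) = 1 := hGw
    have h2 : (x ^ i * y ^ j) ^ (p ^ (a - 1)) = 1 := by
      rw [mul_pow, ← pow_mul, ← pow_mul, mul_comm i, mul_comm j]
      exact h1
    have h3 := hL _ h2
    by_cases hpi : p ∣ i
    · by_cases hpj : p ∣ j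
      · apply hw0
        obtain ⟨i', rfl⟩ := hpi
        obtain ⟨j', rfl⟩ := hpj
        have hpa : p ^ (a - 1) * p = n := by
          change _ = p ^ a
          rw [← pow_succ, Nat.sub_add_cancel ha]
        rw [hwe, ← mul_assoc, ← mul_assoc, hpa]
        have hnn : ((n : ℕ) : ZMod n) = 0 := ZMod.natCast_self n
        apply Prod.ext
        · change ((n * i' : ℕ) : ZMod n) = 0
          rw [Nat.cast_mul, hnn, zero_mul]
        · change ((n * j' : ℕ) : ZMod n) = 0
          rw [Nat.cast_mul, hnn, zero_mul]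
      · rw [mul_comm] at h3
        exact not_mem_aux hQ hi y x (by rw [Set.pair_comm]; exact hgen) h3 hpj
    · exact not_mem_aux hQ hi x y hgen h3 hpi
  exact ⟨AddEquiv.toMultiplicativeRight (AddEquiv.ofBijective G ⟨hinj, hsurj⟩).symm⟩

end Ab

section Main

variable {Ω : Type*} [Group Ω] {S : Subgroup Ω} [Finite S] {p : ℕ} [hp : Fact p.Prime]
  {F : FusionSystem S} {H : Subgroup Ω}

/-- S5187. -/
theorem main (hS : IsPGroup p S) (hH : F.IsEssential p H) (hab : IsMulCommutative ↥H)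
    (hrk : (frattini ↥H).index ≤ p ^ 2) :
    (Cfsg.IsElementaryAbelian p H ∧ Nat.card H = p ^ 2) ∨
      (p ≤ 3 ∧ ∃ k : ℕ, Nonempty (↥H ≃* Multiplicative (ZMod (p ^ k) × ZMod (p ^ k)))) := by
  classical
  have hpp : p.Prime := hp.out
  have hHS : H ≤ S := hH.1.1
  haveI : Finite H := Finite.of_injective (fun x : H => (⟨x, hHS x.2⟩ : S))
    (fun a b h => Subtype.ext (congrArg (fun z : S => (z : Ω)) h))
  have hQ : IsPGroup p H := hS.to_le hHS
  have hcomm : ∀ a b : H, a * b = b * a := fun a b => hab.is_comm.comm a b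
  letI : CommGroup H := { (inferInstance : Group H) with mul_comm := hcomm }
  -- minimal exponent
  obtain ⟨n, hn⟩ := IsPGroup.iff_card.1 hQ
  have hex : ∃ a, ∀ z : H, z ^ (p ^ a) = 1 := ⟨n, fun z => by rw [← hn]; exact pow_card_eq_one'⟩
  let a := Nat.find hex
  have ha : ∀ z : H, z ^ (p ^ a) = 1 := Nat.find_spec hex
  -- `Φ.index` is a power of `p`
  obtain ⟨b, hb⟩ : ∃ b, (frattini H).index = p ^ b := by
    have hd : (frattini H).index ∣ p ^ n := by
      rw [← hn]; exact Subgroup.index_dvd_card _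
    obtain ⟨b, -, hb⟩ := (Nat.dvd_prime_pow hpp).1 hd
    exact ⟨b, hb⟩
  have hb2 : b ≤ 2 := by
    rw [hb] at hrk
    exact (Nat.pow_le_pow_iff_right hpp.one_lt).1 hrk
  have hclosedL : ∀ L : Subgroup H, (∀ (α : MulAut H) (x : H), x ∈ L → α x ∈ L) → frattini H ≤ L →
      L.index ∣ p → (frattini H).relIndex L ∣ p → False := by
    intro L hL hΦ h1 h2
    obtain ⟨R, hRn, hRp, hR⟩ := exists_closed hQ L hL hΦ h1 h2
    exact false_of_closed hS hH R hRn hRp hR
  by_cases ha0 : a = 0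
  · -- trivial group
    exfalso
    have h1 : ∀ z : H, z = 1 := fun z => by simpa [ha0] using ha z
    have hall : (frattini H) = ⊤ := by
      rw [eq_top_iff]
      intro z _
      rw [h1 z]
      exact one_mem _
    refine hclosedL ⊤ (fun _ _ _ => trivial) le_top (by simp) ?_
    rw [hall]
    simp
  obtain ⟨c, hc⟩ : ∃ c, a = c + 1 := ⟨a - 1, by omega⟩
  have hnot : ¬ ∀ z : H, z ^ (p ^ c) = 1 := Nat.find_min hex (m := c) (by omega)
  let L : Subgroup H := omegaSub H (p ^ c)
  have hLmem : ∀ z : H, z ∈ L ↔ z ^ (p ^ c) = 1 := fun z => mem_omegaSub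
  have hLinv : ∀ (α : MulAut H) (x : H), x ∈ L → α x ∈ L := by
    intro α x hx
    rw [hLmem] at hx ⊢
    rw [← map_pow, hx, map_one]
  have hΦL : frattini H ≤ L := by
    apply Frat.frattini_le_of_commutator_pow (p := p) L (comm_le _)
    intro x
    rw [hLmem, ← pow_mul, ← pow_succ', ← hc]
    exact ha x
  have hLne : L.index ≠ 1 := by
    intro h
    rw [Subgroup.index_eq_one] at h
    apply hnot
    intro z
    have : z ∈ L := by rw [h]; trivial
    exact (hLmem z).1 this
  have hmul : (frattini H).relIndex L * L.index = (frattini H).index :=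
    Subgroup.relIndex_mul_index hΦL
  have hLd : L.index ∣ p ^ b := by rw [← hb, ← hmul]; exact dvd_mul_left _ _
  obtain ⟨i, hi, hLi⟩ := (Nat.dvd_prime_pow hpp).1 hLd
  have hi0 : i ≠ 0 := by
    rintro rfl
    exact hLne (by simpa using hLi)
  by_cases hi1 : i = 1
  · -- the chain lemma
    exfalso
    subst hi1
    rw [pow_one] at hLi
    refine hclosedL L hLinv hΦL (by rw [hLi]) ?_
    rw [hb, hLi] at hmul
    obtain ⟨b', rfl⟩ : ∃ b', b = b' + 1 := ⟨b - 1, by omega⟩
    rw [pow_succ] at hmul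
    have h3 := Nat.eq_of_mul_eq_mul_right hpp.pos hmul
    rw [h3]
    have hb'1 : b' ≤ 1 := by omega
    interval_cases b'
    · simp
    · simp
  -- homocyclic
  have hi2 : i = 2 := by omega
  have hb2' : b = 2 := by omega
  subst hi2 hb2'
  have hrel1 : (frattini H).relIndex L = 1 := by
    rw [hb, hLi] at hmul
    have : (frattini H).relIndex L * p ^ 2 = 1 * p ^ 2 := by rw [hmul, one_mul]
    exact Nat.eq_of_mul_eq_mul_right (pow_pos hpp.pos 2) this
  have hLΦ : L ≤ frattini H := Subgroup.relIndex_eq_one.1 hrel1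
  by_cases hc0 : c = 0
  · -- elementary of order `p²`
    left
    subst hc0
    have hΦbot : frattini H = ⊥ := by
      rw [eq_bot_iff]
      intro z hz
      have := (hLmem z).1 (hΦL hz)
      simpa using this
    refine ⟨⟨hab, fun z hz => ?_⟩, ?_⟩
    · have h1 := ha ⟨z, hz⟩
      rw [hc, zero_add, pow_one] at h1
      exact congrArg (fun w : H => (w : Ω)) h1
    · rw [hΦbot, Subgroup.index_bot] at hb
      exact hb
  have hac : a - 1 = c := by omega
  by_cases hp3 : p ≤ 3
  · right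
    refine ⟨hp3, a, ?_⟩
    letI : Fintype H := Fintype.ofFinite H
    obtain ⟨T, -, hTc, hTgen⟩ := (Frat.burnside_basis hQ hb).1 Finset.univ (by simp)
    obtain ⟨x, y, -, rfl⟩ := Finset.card_eq_two.1 hTc
    refine nonempty_iso hQ (by omega) ha x y ?_ ?_ hb
    · simpa using hTgen
    · intro z hz
      rw [hac] at hz
      exact hLΦ ((hLmem z).2 hz)
  · exfalso
    have h5 : 5 ≤ p := by
      by_contra hlt
      have : p = 4 := by omega
      rw [this] at hpp
      exact absurd hpp (by norm_num)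
    have hΩ : ∀ z : H, z ^ p = 1 → z ∈ frattini H := by
      intro z hz
      apply hLΦ
      rw [hLmem]
      obtain ⟨d, rfl⟩ : ∃ d, c = d + 1 := ⟨c - 1, by omega⟩
      rw [pow_succ', pow_mul, hz, one_pow]
    obtain ⟨α, hαA, hαI, k, hk⟩ := exists_pelt hH
    have hexj : ∃ j, α ^ (p ^ j) = 1 := ⟨k, hk⟩
    have hj0 : Nat.find hexj ≠ 0 := by
      intro h0
      have h1 := Nat.find_spec hexj
      rw [h0, pow_zero, pow_one] at h1
      rw [h1] at hαI
      exact hαI (one_mem _)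
    obtain ⟨s, hs⟩ : ∃ s, Nat.find hexj = s + 1 := ⟨Nat.find hexj - 1, by omega⟩
    have hβ1 : α ^ (p ^ s) ≠ 1 := Nat.find_min hexj (m := s) (by omega)
    have hβp : (α ^ (p ^ s)) ^ p = 1 := by
      have h1 := Nat.find_spec hexj
      rw [hs, pow_succ] at h1
      rw [← pow_mul]
      exact h1
    have hker := kerPhi_of_order_p h5 hQ hb hΩ _ hβp
    have hin := mem_inn_of_normal hS hH (kerPhi H) kerPhi_normal (kerPhi_isPGroup hQ) _
      (pow_mem hαA _) hker
    obtain ⟨g, hg⟩ := hin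
    apply hβ1
    rw [← hg]
    ext x
    change ((g * x * g⁻¹ : H) : Ω) = x
    rw [hcomm g x, mul_inv_cancel_right]

end Main

end Cfsg.Agent.Lib.FusionEssAb
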