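import Mathlib
import Cfsg.Agent.Lib.DihedralIso
import Cfsg.Agent.Lib.CycMax2

/-!
# Non-abelian groups of order eight
-/

set_option autoImplicit false

namespace Cfsg.Agent.Lib.Order8

/-- A non-abelian group of order eight is dihedral or quaternion. -/
theorem d8_or_q8 {C : Type*} [Group C] [Finite C] (hc : Nat.card C = 8)
    (hna : ¬ ∀ a b : C, a * b = b * a) :
    Nonempty (C ≃* DihedralGroup 4) ∨ Nonempty (C ≃* QuaternionGroup 2) := by
  -- an element of order four
  have hex : ∃ a : C, a * a ≠ 1 := by
    by_contra hcon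
    push Not at hcon
    apply hna
    intro x y
    have h1 : x⁻¹ = x := inv_eq_of_mul_eq_one_left (hcon x)
    have h2 : y⁻¹ = y := inv_eq_of_mul_eq_one_left (hcon y)
    have h3 : (x * y)⁻¹ = x * y := inv_eq_of_mul_eq_one_left (hcon _)
    rw [mul_inv_rev, h1, h2] at h3
    exact h3.symm
  obtain ⟨a, haa⟩ := hex
  have ha8 : orderOf a ∣ 2 ^ 3 := by
    have := orderOf_dvd_natCard a
    rwa [hc] at this
  have hnot8 : orderOf a ≠ 8 := by
    intro h8
    have hcyc : IsCyclic C := isCyclic_of_orderOf_eq_card a (by rw [h8, hc])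
    apply hna
    intro x y
    obtain ⟨g, hg⟩ := hcyc.exists_generator
    obtain ⟨i, rfl⟩ := Subgroup.mem_zpowers_iff.mp (hg x)
    obtain ⟨j, rfl⟩ := Subgroup.mem_zpowers_iff.mp (hg y)
    rw [← zpow_add, ← zpow_add, add_comm]
  have ha4 : orderOf a = 4 := by
    obtain ⟨k, hk, hk2⟩ := (Nat.dvd_prime_pow Nat.prime_two).mp ha8
    interval_cases k
    · exfalso
      simp only [pow_zero] at hk2
      rw [orderOf_eq_one_iff] at hk2
      rw [hk2] at haa
      simp at haa
    · exfalso
      apply haa
      rw [← pow_two]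
      rw [pow_one] at hk2
      rw [← hk2]
      exact pow_orderOf_eq_one a
    · exact hk2
    · exact absurd hk2 hnot8
  have ha4' : a ^ 4 = 1 := by rw [← ha4]; exact pow_orderOf_eq_one a
  set H := Subgroup.zpowers a with hH
  have hHc : Nat.card H = 4 := by rw [hH, Nat.card_zpowers, ha4]
  have hHi : H.index = 2 := by
    have h1 := H.card_mul_index
    rw [hHc, hc] at h1
    omega
  obtain ⟨b, hb⟩ : ∃ b : C, b ∉ H := by
    by_contra hcon
    push Not at hcon
    have : H = ⊤ := (Subgroup.eq_top_iff' _).mpr hcon
    rw [this] at hHi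
    simp at hHi
  have hpow : ∀ g ∈ H, ∃ k : ℕ, k < 4 ∧ g = a ^ k := by
    intro g hg
    obtain ⟨i, rfl⟩ := Subgroup.mem_zpowers_iff.mp hg
    refine ⟨(i % 4).toNat, ?_, ?_⟩
    · have h1 := Int.emod_nonneg i (show (4 : ℤ) ≠ 0 by norm_num)
      have h2 := Int.emod_lt_of_pos i (show (0 : ℤ) < 4 by norm_num)
      omega
    · have h1 := Int.emod_nonneg i (show (4 : ℤ) ≠ 0 by norm_num)
      rw [← zpow_natCast, Int.toNat_of_nonneg h1]
      have h3 : a ^ (4 : ℤ) = 1 := by
        rw [show (4 : ℤ) = ((4 : ℕ) : ℤ) by norm_num, zpow_natCast, ha4']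
      conv_lhs => rw [← Int.mul_ediv_add_emod i 4, zpow_add, zpow_mul, h3, one_zpow, one_mul]
  have hmem : ∀ k : ℕ, a ^ k ∈ H := fun k => Subgroup.npow_mem_zpowers a k
  have hNormal : H.Normal := Subgroup.normal_of_index_eq_two hHi
  have hbbH : b * b ∈ H := by
    have := Subgroup.mul_self_mem_of_index_two hHi b
    exact this
  have hbout : ∀ k : ℕ, a ^ k ≠ b := fun k hk => hb (hk ▸ hmem k)
  -- the action of `b`
  have hconj : b * a * b⁻¹ = a⁻¹ := by
    have h1 : b * a * b⁻¹ ∈ H := hNormal.conj_mem a (Subgroup.mem_zpowers a) b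
    obtain ⟨k, hk, hke⟩ := hpow _ h1
    have ho : orderOf (a ^ k) = 4 := by
      rw [← hke, ← ha4]
      have : b * a * b⁻¹ = MulAut.conj b a := by simp [MulAut.conj_apply]
      rw [this, MulEquiv.orderOf_eq]
    interval_cases k
    · simp at ho
    · -- `b` commutes with `a`: the group is abelian
      exfalso
      apply hna
      rw [pow_one] at hke
      have hab : b * a = a * b := by
        rw [mul_inv_eq_iff_eq_mul] at hke
        exact hke
      have hdec : ∀ g : C, g ∈ H ∨ b⁻¹ * g ∈ H := by
        intro g
        by_cases hg : g ∈ H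
        · exact Or.inl hg
        · right
          have h2 := Subgroup.mul_mem_iff_of_index_two hHi (a := b⁻¹) (b := g)
          rw [h2]
          constructor
          · intro h3; exact absurd (by simpa using H.inv_mem h3) hb
          · intro h3; exact absurd h3 hg
      have hcommH : ∀ g ∈ H, b * g = g * b := by
        intro g hg
        obtain ⟨k, -, rfl⟩ := hpow g hg
        exact ((Commute.pow_right (show Commute b a from hab) k)).eq
      have hHH : ∀ g ∈ H, ∀ g' ∈ H, g * g' = g' * g := by
        intro g hg g' hg'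
        obtain ⟨k, -, rfl⟩ := hpow g hg
        obtain ⟨l, -, rfl⟩ := hpow g' hg'
        rw [← pow_add, ← pow_add, add_comm]
      intro x y
      rcases hdec x with hx | hx <;> rcases hdec y with hy | hy
      · exact hHH x hx y hy
      · have hy' : y = b * (b⁻¹ * y) := by group
        rw [hy']
        generalize b⁻¹ * y = v at hy
        calc x * (b * v) = (x * b) * v := by group
          _ = (b * x) * v := by rw [hcommH x hx]
          _ = b * (x * v) := by group
          _ = b * (v * x) := by rw [hHH x hx v hy]
          _ = _ := by group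
      · have hx' : x = b * (b⁻¹ * x) := by group
        rw [hx']
        generalize b⁻¹ * x = v at hx
        calc (b * v) * y = b * (v * y) := by group
          _ = b * (y * v) := by rw [hHH v hx y hy]
          _ = (b * y) * v := by group
          _ = (y * b) * v := by rw [hcommH y hy]
          _ = _ := by group
      · have hx' : x = b * (b⁻¹ * x) := by group
        have hy' : y = b * (b⁻¹ * y) := by group
        rw [hx', hy']
        generalize b⁻¹ * x = v at hx
        generalize b⁻¹ * y = w at hy
        calc (b * v) * (b * w) = b * (v * b) * w := by group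
          _ = b * (b * v) * w := by rw [hcommH v hx]
          _ = b * b * (v * w) := by group
          _ = b * b * (w * v) := by rw [hHH v hx w hy]
          _ = b * (b * w) * v := by group
          _ = b * (w * b) * v := by rw [hcommH w hy]
          _ = _ := by group
    · exfalso
      have h5 : (a ^ 2) ^ 2 = 1 := by rw [← pow_mul]; exact ha4'
      have h6 := orderOf_dvd_of_pow_eq_one h5
      rw [ho] at h6
      omega
    · rw [hke]
      apply eq_inv_of_mul_eq_one_left
      rw [← pow_succ]
      exact ha4'
  -- the square of `b`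
  have hainv : a⁻¹ = a ^ 3 := by
    apply inv_eq_of_mul_eq_one_left
    rw [← pow_succ]
    exact ha4'
  have hconj' : ∀ k : ℕ, b * a ^ k * b⁻¹ = (a⁻¹) ^ k := by
    intro k
    rw [← hconj, conj_pow]
  obtain ⟨k, hk, hke⟩ := hpow _ hbbH
  have hbcomm : b * a ^ k * b⁻¹ = a ^ k := by
    rw [← hke]
    group
  rw [hconj'] at hbcomm
  have hk2 : k = 0 ∨ k = 2 := by
    interval_cases k
    · exact Or.inl rfl
    · exfalso
      apply haa
      simp only [pow_one] at hbcomm
      rw [inv_eq_iff_mul_eq_one] at hbcomm
      exact hbcomm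
    · exact Or.inr rfl
    · exfalso
      apply haa
      rw [inv_pow] at hbcomm
      have h2 : a ^ 3 * a ^ 3 = 1 := inv_eq_iff_mul_eq_one.mp hbcomm
      have h3 : a ^ 3 * a ^ 3 = a * a * (a ^ 4) := by
        simp only [pow_succ, pow_zero, one_mul, mul_assoc]
      rw [ha4', mul_one] at h3
      rw [← h3, h2]
  rcases hk2 with rfl | rfl
  · left
    refine Cfsg.Agent.Lib.DihedralIso.nonempty_dihedral_of_card a b ha4' (by simpa using hke) ?_ ha4 hbout
      (by rw [hc])
    have hbinv : b⁻¹ = b := inv_eq_of_mul_eq_one_left (by simpa using hke)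
    rw [← hconj, hbinv]
  · right
    have := Cfsg.Agent.Lib.CycMax2.nonempty_quaternion_of_card (G := C) 2 a b (by simpa using ha4')
      hke hconj (by simpa using ha4) hbout (by rw [hc])
    exact this

end Cfsg.Agent.Lib.Order8
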