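import Mathlib
import Cfsg.Prelude.Def_Transfer
import Cfsg.Agent.Lib.FusionEssAb
import Cfsg.Agent.Lib.Order8
import Cfsg.Agent.Lib.OddPGroup
import Cfsg.Agent.Lib.FusionDQ

/-!
# Essential subgroups of order `p³`
-/

set_option autoImplicit false

namespace Cfsg.Agent.Lib.FusionEssP3

open Cfsg Cfsg.FusionSystem Cfsg.Agent.Lib Cfsg.Agent.Lib.FusionEssSmall
open scoped commutatorElement

/-- `Aut(D₈)` is a `2`-group. -/
theorem isPGroup_d8 : IsPGroup 2 (MulAut (DihedralGroup 4)) := by
  let C : Subgroup (DihedralGroup 4) := Subgroup.zpowers (DihedralGroup.r 1)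
  have hrC : ∀ j, DihedralGroup.r j ∈ C := by
    intro j
    refine Subgroup.mem_zpowers_iff.2 ⟨(j.val : ℤ), ?_⟩
    rw [zpow_natCast, DihedralGroup.r_one_pow, ZMod.natCast_zmod_val]
  refine FusionDQ.isPGroup_mulAut C (m := 2) ?_ (fun α x hx => ?_) (fun x y hx hy => ?_)
  · show Nat.card (Subgroup.zpowers (DihedralGroup.r (1 : ZMod 4))) = _
    rw [Nat.card_zpowers, DihedralGroup.orderOf_r_one]
    norm_num
  · have h1 : α (DihedralGroup.r 1) ∈ C := by
      have ho : orderOf (α (DihedralGroup.r 1)) = 4 := by
        rw [MulEquiv.orderOf_eq, DihedralGroup.orderOf_r_one]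
      rcases h : α (DihedralGroup.r 1) with j | j
      · exact hrC j
      · rw [h, DihedralGroup.orderOf_sr] at ho
        norm_num at ho
    obtain ⟨z, rfl⟩ := Subgroup.mem_zpowers_iff.1 hx
    rw [map_zpow]
    exact Subgroup.zpow_mem _ h1 z
  · rcases x with i | i
    · exact absurd (hrC i) hx
    · rcases y with j | j
      · exact absurd (hrC j) hy
      · rw [DihedralGroup.inv_sr, DihedralGroup.sr_mul_sr]
        exact hrC _

section Abstract

variable {Q : Type*} [Group Q] [Finite Q] {p : ℕ} [hp : Fact p.Prime]

/-- Structure of non-abelian groups of order `p³`. -/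
theorem nonab_cube (hcard : Nat.card Q = p ^ 3) (hna : ¬ ∀ a b : Q, a * b = b * a) :
    Nat.card (Subgroup.center Q) = p ∧ (∀ x : Q, x ^ p ∈ Subgroup.center Q) ∧
      commutator Q = Subgroup.center Q ∧ frattini Q = Subgroup.center Q := by
  have hpp : p.Prime := hp.out
  have hQ : IsPGroup p Q := IsPGroup.of_card hcard
  let Z := Subgroup.center Q
  haveI : Nontrivial Q := by
    refine Finite.one_lt_card_iff_nontrivial.1 ?_
    rw [hcard]
    exact Nat.one_lt_pow (by norm_num) hpp.one_lt
  have hZnt : Nontrivial Z := hQ.center_nontrivial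
  have hZd : Nat.card Z ∣ p ^ 3 := by
    rw [← hcard]; exact Subgroup.card_subgroup_dvd_card Z
  obtain ⟨k, hk3, hk⟩ := (Nat.dvd_prime_pow hpp).1 hZd
  have hqc : Nat.card (Q ⧸ Z) = p ^ (3 - k) := by
    have h1 := Subgroup.card_eq_card_quotient_mul_card_subgroup Z
    rw [hcard, hk] at h1
    have h2 : p ^ 3 = p ^ (3 - k) * p ^ k := by rw [← pow_add, Nat.sub_add_cancel hk3]
    rw [h2] at h1
    exact (Nat.eq_of_mul_eq_mul_right (pow_pos hpp.pos k) h1).symm
  -- cyclic quotient forces commutativity
  have hnocyc : ¬ IsCyclic (Q ⧸ Z) := by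
    intro hcy
    apply hna
    have := commutative_of_cyclic_center_quotient (QuotientGroup.mk' Z) (by
      rw [QuotientGroup.ker_mk'])
    exact this
  have hk2 : k = 1 := by
    have hk0 : k ≠ 0 := by
      rintro rfl
      have := Finite.one_lt_card (α := Z)
      rw [hk] at this
      simp at this
    have hk2' : k ≠ 2 := by
      rintro rfl
      apply hnocyc
      haveI : Fact (Nat.card (Q ⧸ Z)).Prime := ⟨by rw [hqc]; simpa using hpp⟩
      exact isCyclic_of_prime_card rfl
    have hk3' : k ≠ 3 := by
      rintro rfl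
      apply hnocyc
      have h1 : Nat.card (Q ⧸ Z) = 1 := by simpa using hqc
      haveI : Subsingleton (Q ⧸ Z) := (Nat.card_eq_one_iff_unique.1 h1).1
      infer_instance
    omega
  subst hk2
  have hZc : Nat.card Z = p := by simpa using hk
  have hqc2 : Nat.card (Q ⧸ Z) = p ^ 2 := by simpa using hqc
  have hqab : ∀ a b : Q ⧸ Z, a * b = b * a := IsPGroup.commutative_of_card_eq_prime_sq hqc2
  have hpow : ∀ x : Q, x ^ p ∈ Z := by
    intro x
    by_contra hx
    apply hnocyc
    have hd : orderOf (x : Q ⧸ Z) ∣ p ^ 2 := by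
      rw [← hqc2]; exact orderOf_dvd_natCard _
    obtain ⟨j, hj2, hj⟩ := (Nat.dvd_prime_pow hpp).1 hd
    have hj2' : j = 2 := by
      by_contra hne
      have hj1 : j ≤ 1 := by omega
      apply hx
      have h1 : (x : Q ⧸ Z) ^ p = 1 := by
        rw [← orderOf_dvd_iff_pow_eq_one, hj]
        exact pow_dvd_pow p hj1 |>.trans (by simp)
      rw [← QuotientGroup.mk_pow] at h1
      exact (QuotientGroup.eq_one_iff _).1 h1
    subst hj2'
    exact isCyclic_of_orderOf_eq_card (x : Q ⧸ Z) (by rw [hj, hqc2])
  have hcomm : commutator Q ≤ Z := by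
    rw [commutator_def, Subgroup.commutator_le]
    intro a _ b _
    have h1 : ((⁅a, b⁆ : Q) : Q ⧸ Z) = 1 := by
      rw [commutatorElement_def]
      simp only [QuotientGroup.mk_mul, QuotientGroup.mk_inv]
      rw [hqab (a : Q ⧸ Z) b]
      group
    exact (QuotientGroup.eq_one_iff _).1 h1
  have hcne : commutator Q ≠ ⊥ := by
    intro h
    apply hna
    intro a b
    have h1 : ⁅a, b⁆ ∈ commutator Q := by
      rw [commutator_def]
      exact Subgroup.commutator_mem_commutator (Subgroup.mem_top a) (Subgroup.mem_top b)
    rw [h, Subgroup.mem_bot, commutatorElement_eq_one_iff_mul_comm] at h1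
    exact h1
  have hcomZ : commutator Q = Z := by
    apply Subgroup.eq_of_le_of_card_ge hcomm
    have hd : Nat.card (commutator Q) ∣ Nat.card Z := Subgroup.card_dvd_of_le hcomm
    rw [hZc] at hd ⊢
    rcases (Nat.dvd_prime hpp).1 hd with h | h
    · exfalso
      exact hcne ((Subgroup.card_eq_one).1 h)
    · exact h.ge
  refine ⟨hZc, hpow, hcomZ, ?_⟩
  apply le_antisymm
  · exact Frat.frattini_le_of_commutator_pow Z hcomm hpow
  · have := Frat.commutator_le_frattini hQ
    rw [hcomZ] at this
    exact this

end Abstract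

section Main

variable {Ω : Type*} [Group Ω] {S : Subgroup Ω} [Finite S] {p : ℕ} [hp : Fact p.Prime]
  {F : FusionSystem S} {H : Subgroup Ω}

/-- S5186. -/
theorem main (hS : IsPGroup p S) (hH : F.IsEssential p H) (hcard : Nat.card H = p ^ 3) :
    Cfsg.IsElementaryAbelian p H ∨ (Odd p ∧ Cfsg.IsExtraspecial p ↥H ∧ ∀ x ∈ H, x ^ p = 1) ∨
      (p = 2 ∧ Nonempty (↥H ≃* QuaternionGroup 2)) := by
  classical
  have hpp : p.Prime := hp.out
  have hHS : H ≤ S := hH.1.1
  haveI : Finite H := Finite.of_injective (fun x : H => (⟨x, hHS x.2⟩ : S))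
    (fun a b h => Subtype.ext (congrArg (fun z : S => (z : Ω)) h))
  have hQ : IsPGroup p H := hS.to_le hHS
  by_cases hab : ∀ a b : H, a * b = b * a
  · have hab' : IsMulCommutative ↥H := ⟨⟨hab⟩⟩
    by_cases hrk : (frattini ↥H).index ≤ p ^ 2
    · exfalso
      rcases FusionEssAb.main hS hH hab' hrk with ⟨-, h⟩ | ⟨-, k, ⟨e⟩⟩
      · rw [hcard] at h
        have := Nat.pow_right_injective hpp.two_le h
        omega
      · have h1 : Nat.card H = p ^ k * p ^ k := by
          rw [Nat.card_congr e.toEquiv]
          change Nat.card (ZMod (p ^ k) × ZMod (p ^ k)) = _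
          rw [Nat.card_prod, Nat.card_zmod]
        rw [hcard, ← pow_add] at h1
        have := Nat.pow_right_injective hpp.two_le h1
        omega
    · left
      refine ⟨hab', fun z hz => ?_⟩
      have hd : (frattini ↥H).index ∣ p ^ 3 := by
        rw [← hcard]; exact Subgroup.index_dvd_card _
      obtain ⟨b, hb3, hb⟩ := (Nat.dvd_prime_pow hpp).1 hd
      have hb33 : b = 3 := by
        by_contra hne
        apply hrk
        rw [hb]
        exact Nat.pow_le_pow_right hpp.pos (by omega)
      subst hb33
      have h1 := Subgroup.card_mul_index (frattini ↥H)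
      rw [hb, hcard] at h1
      have h2 : Nat.card (frattini ↥H) = 1 :=
        Nat.eq_of_mul_eq_mul_right (pow_pos hpp.pos 3) (by rw [h1, one_mul])
      have h3 : frattini ↥H = ⊥ := (Subgroup.card_eq_one).1 h2
      have h4 := Frat.pow_mem_frattini hQ (⟨z, hz⟩ : H)
      rw [h3, Subgroup.mem_bot] at h4
      exact congrArg (fun w : H => (w : Ω)) h4
  · right
    rcases hpp.eq_two_or_odd' with h2 | hodd
    · right
      subst h2
      refine ⟨rfl, ?_⟩
      rcases Order8.d8_or_q8 (C := H) (by rw [hcard]; norm_num) hab with he | h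
      · exfalso
        obtain ⟨e⟩ := he
        have hP : IsPGroup 2 (MulAut H) := by
          have h1 : IsPGroup 2 (MulAut (DihedralGroup 4)) := isPGroup_d8
          let ϕ : MulAut H →* MulAut (DihedralGroup 4) :=
            { toFun := fun α => e.symm.trans (α.trans e)
              map_one' := by
                ext x
                simp
              map_mul' := by
                intro a b
                ext x
                simp [MulAut.mul_apply] }
          refine h1.of_injective ϕ ?_
          intro a b hab'
          ext y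
          have h3 := DFunLike.congr_fun hab' (e y)
          have h4 : e (a y) = e (b y) := by simpa [ϕ] using h3
          exact congrArg (fun w : H => (w : Ω)) (e.injective h4)
        exact false_of_closed hS hH ⊤ inferInstance (hP.to_subgroup _) (fun _ _ _ => trivial)
      · exact h
    · left
      obtain ⟨hZc, hpow, hcom, hΦ⟩ := nonab_cube hcard hab
      have hcen : ∀ x y : H, x⁻¹ * y⁻¹ * x * y ∈ Subgroup.center H := by
        intro x y
        rw [← hcom, commutator_def]
        exact Subgroup.commutator_mem_commutator (Subgroup.mem_top x⁻¹) (Subgroup.mem_top y⁻¹) |> fun h => by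
          simpa [commutatorElement_def] using h
      by_cases hexp : ∀ x : H, x ^ p = 1
      · refine ⟨hodd, ⟨⟨hQ, hΦ, hcom⟩, hZc⟩, fun x hx => ?_⟩
        exact congrArg (fun w : H => (w : Ω)) (hexp ⟨x, hx⟩)
      · exfalso
        have hmul := OddPGroup.mul_pow_odd (R := H) (p := p) hodd hpow hcen
        let φ : H →* H := MonoidHom.mk' (fun x => x ^ p) hmul
        let L : Subgroup H := φ.ker
        have hLmem : ∀ z : H, z ∈ L ↔ z ^ p = 1 := fun z => Iff.rfl
        have hLinv : ∀ (α : MulAut H) (x : H), x ∈ L → α x ∈ L := by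
          intro α x hx
          rw [hLmem] at hx ⊢
          rw [← map_pow, hx, map_one]
        have hrange : φ.range ≤ Subgroup.center H := by
          rintro _ ⟨x, rfl⟩
          exact hpow x
        have hrne : φ.range ≠ ⊥ := by
          intro h
          apply hexp
          intro x
          have : φ x ∈ φ.range := ⟨x, rfl⟩
          rw [h, Subgroup.mem_bot] at this
          exact this
        have hLi : L.index = p := by
          change φ.ker.index = p
          rw [Subgroup.index_ker]
          have hd : Nat.card φ.range ∣ p := by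
            rw [← hZc]; exact Subgroup.card_dvd_of_le hrange
          rcases (Nat.dvd_prime hpp).1 hd with h | h
          · exact absurd ((Subgroup.card_eq_one).1 h) hrne
          · exact h
        have hΦL : frattini H ≤ L := by
          rw [hΦ]
          intro z hz
          rw [hLmem]
          have h1 : (⟨z, hz⟩ : Subgroup.center H) ^ p = 1 := by
            rw [← hZc]; exact pow_card_eq_one'
          exact congrArg (fun w : Subgroup.center H => (w : H)) h1
        have hΦi : (frattini H).index = p ^ 2 := by
          have h1 := Subgroup.card_mul_index (frattini H)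
          rw [hΦ, hZc, hcard] at h1
          rw [hΦ]
          have h2 : p * (Subgroup.center H).index = p * p ^ 2 := by rw [h1]; ring
          exact Nat.eq_of_mul_eq_mul_left hpp.pos h2
        have hrel : (frattini H).relIndex L = p := by
          have h1 := Subgroup.relIndex_mul_index hΦL
          rw [hLi, hΦi, pow_two] at h1
          exact Nat.eq_of_mul_eq_mul_right hpp.pos h1
        obtain ⟨R, hRn, hRp, hR⟩ := exists_closed hQ L hLinv hΦL (by rw [hLi]) (by rw [hrel])
        exact false_of_closed hS hH R hRn hRp hR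

end Main

end Cfsg.Agent.Lib.FusionEssP3
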