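import Mathlib
import Cfsg.Agent.Lib.FusionAlperin
import Cfsg.Agent.Lib.FusionAutSys
import Cfsg.Agent.Lib.FusionEssential
import Cfsg.Agent.Lib.FusionCore3
import Cfsg.Agent.Lib.FusionFocal

/-!
# Supersoluble fusion systems.

A chain of strongly closed subgroups with cyclic factors: the automorphisms of a subgroup which are induced
by the system act through an abelian group modulo a `p`-group.  Conversely, if the system is `S`-normal and the
`p'`-automorphisms of `S` are abelian of exponent dividing `p - 1`, such a chain is found.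
-/

set_option autoImplicit false

namespace Cfsg.Agent.Lib.FusionSuper

open Cfsg Cfsg.FusionSystem Cfsg.Agent.Lib.FusionAlperin

variable {Ω : Type*} [Group Ω] {p : ℕ} [Fact p.Prime]

section Rho

variable {E : Type*} [Group E] (A : Subgroup (MulAut E)) (L K : Subgroup E)
  (hL : ∀ a ∈ A, ∀ x ∈ L, a x ∈ L) (hK : ∀ a ∈ A, ∀ x ∈ K, a x ∈ K)

/-- `a` restricted to an invariant subgroup. -/
def resL (a : A) : L →* L :=
  (a.1.toMonoidHom.comp L.subtype).codRestrict L (fun x => hL a a.2 x x.2)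

include hK in
lemma resL_comap (a : A) : K.subgroupOf L ≤ (K.subgroupOf L).comap (resL A L hL a) := by
  intro x hx
  rw [Subgroup.mem_comap, Subgroup.mem_subgroupOf] at *
  exact hK a a.2 x hx

variable [hN : (K.subgroupOf L).Normal]

/-- The endomorphism of `L/K` induced by `a`. -/
def bar (a : A) : (L ⧸ K.subgroupOf L) →* (L ⧸ K.subgroupOf L) :=
  QuotientGroup.map _ _ (resL A L hL a) (resL_comap A L K hL hK a)

@[simp] lemma bar_mk (a : A) (x : L) :
    bar A L K hL hK a (x : L ⧸ K.subgroupOf L) = ((resL A L hL a x : L) : L ⧸ K.subgroupOf L) := rfl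

lemma bar_mul (a b : A) (x : L ⧸ K.subgroupOf L) :
    bar A L K hL hK (a * b) x = bar A L K hL hK a (bar A L K hL hK b x) := by
  induction x using QuotientGroup.induction_on with
  | H x => rfl

lemma bar_one (x : L ⧸ K.subgroupOf L) : bar A L K hL hK 1 x = x := by
  induction x using QuotientGroup.induction_on with
  | H x => rfl

/-- The automorphism of `L/K` induced by `a`. -/
def rhoFun (a : A) : MulAut (L ⧸ K.subgroupOf L) :=
  MonoidHom.toMulEquiv (bar A L K hL hK a) (bar A L K hL hK a⁻¹)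
    (MonoidHom.ext fun x => by rw [MonoidHom.comp_apply, ← bar_mul, inv_mul_cancel, bar_one]; rfl)
    (MonoidHom.ext fun x => by rw [MonoidHom.comp_apply, ← bar_mul, mul_inv_cancel, bar_one]; rfl)

/-- The action of `A` on `L/K`. -/
def rho : A →* MulAut (L ⧸ K.subgroupOf L) :=
  MonoidHom.mk' (rhoFun A L K hL hK) (by
    intro a b
    ext x
    exact bar_mul A L K hL hK a b x)

lemma rho_apply_mk (a : A) (x : L) : rho A L K hL hK a (x : L ⧸ K.subgroupOf L) =
    ((resL A L hL a x : L) : L ⧸ K.subgroupOf L) := rfl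

lemma rho_eq_one {a : A} (h : rho A L K hL hK a = 1) (x : E) (hx : x ∈ L) : x⁻¹ * a.1 x ∈ K := by
  have h1 := DFunLike.congr_fun h ((⟨x, hx⟩ : L) : L ⧸ K.subgroupOf L)
  rw [rho_apply_mk] at h1
  have h2 := QuotientGroup.eq.mp h1.symm
  rw [Subgroup.mem_subgroupOf] at h2
  exact h2

lemma rho_comm [IsCyclic (L ⧸ K.subgroupOf L)] (a b : A) :
    rho A L K hL hK (a * b * a⁻¹ * b⁻¹) = 1 := by
  set e := IsCyclic.mulAutMulEquiv (L ⧸ K.subgroupOf L)
  apply e.injective
  simp only [map_mul, map_inv, map_one]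
  rw [mul_comm (e _) (e _)]
  simp

lemma rho_pow [Finite (L ⧸ K.subgroupOf L)] [IsCyclic (L ⧸ K.subgroupOf L)]
    (hp : IsPGroup p (L ⧸ K.subgroupOf L)) (a : A) {N : ℕ} (hN' : N.Coprime p) (ha : a ^ N = 1) :
    rho A L K hL hK (a ^ (p - 1)) = 1 := by
  set u := rho A L K hL hK a with hu
  rw [map_pow, ← hu]
  have h1 : u ^ N = 1 := by rw [hu, ← map_pow, ha, map_one]
  have h2 : u ^ (Nat.card (MulAut (L ⧸ K.subgroupOf L))) = 1 := pow_card_eq_one'
  rw [IsCyclic.card_mulAut] at h2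
  have h3 := orderOf_dvd_of_pow_eq_one h1
  have h4 := orderOf_dvd_of_pow_eq_one h2
  obtain ⟨k, hk⟩ := IsPGroup.iff_card.mp hp
  rw [hk] at h4
  rcases Nat.eq_zero_or_pos k with rfl | hkpos
  · simp only [pow_zero, Nat.totient_one, Nat.dvd_one] at h4
    rw [← orderOf_dvd_iff_pow_eq_one, h4]
    exact one_dvd _
  · rw [Nat.totient_prime_pow (Fact.out : p.Prime) hkpos] at h4
    have h5 : (orderOf u).Coprime (p ^ (k - 1)) := Nat.Coprime.pow_right _ (Nat.Coprime.coprime_dvd_left h3 hN')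
    exact orderOf_dvd_iff_pow_eq_one.mp (h5.dvd_of_dvd_mul_left h4)

end Rho

section Chain

variable {Q : Subgroup Ω}

/-- A chain of `A`-invariant subgroups of `Q` with cyclic factors. -/
structure Chain (A : Subgroup (MulAut Q)) (m : ℕ) (T : ℕ → Subgroup Q) : Prop where
  h0 : T 0 = ⊥
  hm : T m = ⊤
  hle : ∀ i, i < m → T i ≤ T (i + 1)
  hnorm : ∀ i, i < m → ((T i).subgroupOf (T (i + 1))).Normal
  hinv : ∀ a ∈ A, ∀ i, i ≤ m → ∀ x ∈ T i, a x ∈ T i
  hcyc : ∀ i, i < m → ∀ _ : ((T i).subgroupOf (T (i + 1))).Normal,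
    IsCyclic ((T (i + 1)) ⧸ (T i).subgroupOf (T (i + 1)))

variable {A : Subgroup (MulAut Q)} {m : ℕ} {T : ℕ → Subgroup Q}

/-- The stability subgroup of a chain. -/
def Chain.D (hc : Chain A m T) : Subgroup A where
  carrier := {β | ∀ i, i < m → ∀ x ∈ T (i + 1), x⁻¹ * β.1 x ∈ T i}
  one_mem' := by
    intro i _ x _
    simp
  mul_mem' := by
    intro a b ha hb i hi x hx
    have h1 : b.1 x ∈ T (i + 1) := hc.hinv b b.2 (i + 1) hi x hx
    have h2 := (T i).mul_mem (hb i hi x hx) (ha i hi _ h1)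
    have h3 : x⁻¹ * b.1 x * ((b.1 x)⁻¹ * a.1 (b.1 x)) = x⁻¹ * (a * b).1 x := by
      show _ = x⁻¹ * a.1 (b.1 x)
      group
    rwa [h3] at h2
  inv_mem' := by
    intro a ha i hi x hx
    have h1 : (a⁻¹).1 x ∈ T (i + 1) := hc.hinv a⁻¹ (a⁻¹).2 (i + 1) hi x hx
    have h2 := ha i hi _ h1
    have h3 : a.1 ((a⁻¹).1 x) = x := by
      show a.1 (a.1⁻¹ x) = x
      simp
    rw [h3] at h2
    have h4 := (T i).inv_mem h2
    rwa [mul_inv_rev, inv_inv] at h4

lemma Chain.mem_D (hc : Chain A m T) {β : A} : β ∈ hc.D ↔ ∀ i, i < m → ∀ x ∈ T (i + 1), x⁻¹ * β.1 x ∈ T i :=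
  Iff.rfl

instance Chain.D_normal (hc : Chain A m T) : hc.D.Normal := by
  constructor
  intro β hβ g i hi x hx
  have h1 : (g⁻¹).1 x ∈ T (i + 1) := hc.hinv g⁻¹ (g⁻¹).2 (i + 1) hi x hx
  have h2 := hβ i hi _ h1
  have h3 := hc.hinv g g.2 i (le_of_lt hi) _ h2
  have h4 : g.1 ((g⁻¹).1 x) = x := by
    show g.1 (g.1⁻¹ x) = x
    simp
  rw [map_mul, map_inv, h4] at h3
  exact h3

theorem Chain.stab (hc : Chain A m T) [Finite Q] (hQ : IsPGroup p Q) (β : MulAut Q)
    (hβ : ∀ i, i < m → ∀ x ∈ T (i + 1), x⁻¹ * β x ∈ T i) : ∃ k : ℕ, β ^ p ^ k = 1 := by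
  refine pow_eq_one_of_chain hQ (C := fun i => T (m - i)) (m := m) ?_ ?_ ?_ β ?_
  · intro i
    by_cases h : i < m
    · have h1 : m - i = (m - (i + 1)) + 1 := by omega
      show T (m - (i + 1)) ≤ T (m - i)
      rw [h1]
      exact hc.hle _ (by omega)
    · have h1 : m - i = m - (i + 1) := by omega
      show T (m - (i + 1)) ≤ T (m - i)
      rw [h1]
  · simpa using hc.h0
  · simpa using hc.hm
  · intro i x hx
    by_cases h : i < m
    · have h1 : m - i = (m - (i + 1)) + 1 := by omega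
      show x⁻¹ * β x ∈ T (m - (i + 1))
      have hx' : x ∈ T ((m - (i + 1)) + 1) := by
        rw [← h1]
        exact hx
      exact hβ _ (by omega) x hx'
    · have h1 : m - i = 0 := by omega
      have hx' : x ∈ T 0 := by
        have : x ∈ T (m - i) := hx
        rwa [h1] at this
      rw [hc.h0, Subgroup.mem_bot] at hx'
      subst hx'
      simp

theorem Chain.isPGroup_D (hc : Chain A m T) [Finite Q] (hQ : IsPGroup p Q) : IsPGroup p hc.D := by
  rintro ⟨β, hβ⟩
  obtain ⟨k, hk⟩ := hc.stab hQ β.1 hβ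
  refine ⟨k, ?_⟩
  apply Subtype.ext
  apply Subtype.ext
  simpa using hk

theorem Chain.comm_mem_D (hc : Chain A m T) [Finite Q] (a b : A) : a * b * a⁻¹ * b⁻¹ ∈ hc.D := by
  intro i hi x hx
  haveI := hc.hnorm i hi
  haveI := hc.hcyc i hi this
  have hL : ∀ a ∈ A, ∀ x ∈ T (i + 1), a x ∈ T (i + 1) := fun a ha x hx => hc.hinv a ha _ hi x hx
  have hK : ∀ a ∈ A, ∀ x ∈ T i, a x ∈ T i := fun a ha x hx => hc.hinv a ha _ (le_of_lt hi) x hx
  exact rho_eq_one A (T (i + 1)) (T i) hL hK (rho_comm A (T (i + 1)) (T i) hL hK a b) x hx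

theorem Chain.pow_mem_D (hc : Chain A m T) [Finite Q] (hQ : IsPGroup p Q) (a : A) {N : ℕ}
    (hN : N.Coprime p) (ha : a ^ N = 1) : a ^ (p - 1) ∈ hc.D := by
  intro i hi x hx
  haveI := hc.hnorm i hi
  haveI := hc.hcyc i hi this
  have hL : ∀ a ∈ A, ∀ x ∈ T (i + 1), a x ∈ T (i + 1) := fun a ha x hx => hc.hinv a ha _ hi x hx
  have hK : ∀ a ∈ A, ∀ x ∈ T i, a x ∈ T i := fun a ha x hx => hc.hinv a ha _ (le_of_lt hi) x hx
  have hp : IsPGroup p ((T (i + 1)) ⧸ (T i).subgroupOf (T (i + 1))) :=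
    (hQ.to_subgroup _).to_quotient _
  exact rho_eq_one A (T (i + 1)) (T i) hL hK (rho_pow A (T (i + 1)) (T i) hL hK hp a hN ha) x hx

end Chain

section Eigen

open Polynomial

variable {V : Type*} [AddCommGroup V] [Module (ZMod p) V] [Finite V]
theorem exists_eigen [Nontrivial V] (f : Module.End (ZMod p) V) (hf : f ^ (p - 1) = 1) :
    ∃ (c : ZMod p) (v : V), v ≠ 0 ∧ f v = c • v := by
  classical
  haveI : FiniteDimensional (ZMod p) V := Module.Finite.of_finite
  have hp : p.Prime := Fact.out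
  have hcard : Fintype.card (ZMod p) = p := ZMod.card p
  have hP : Polynomial.aeval f (X ^ p - X : (ZMod p)[X]) = 0 := by
    have h1 : f ^ p = f := by
      have h2 : (p - 1) + 1 = p := by have := hp.two_le; omega
      have h3 : f ^ p = f ^ ((p - 1) + 1) := by rw [h2]
      rw [h3, pow_succ, hf, one_mul]
    simp [h1]
  have hdvd := minpoly.dvd (ZMod p) f hP
  have hne : (X ^ p - X : (ZMod p)[X]) ≠ 0 := FiniteField.X_pow_card_sub_X_ne_zero _ hp.one_lt
  have hsp : Polynomial.Splits (X ^ p - X : (ZMod p)[X]) := by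
    rw [Polynomial.splits_iff_card_roots]
    have h2 := FiniteField.roots_X_pow_card_sub_X (ZMod p)
    rw [hcard] at h2
    rw [h2, FiniteField.X_pow_card_sub_X_natDegree_eq _ hp.one_lt]
    simp [hcard]
  have hsp2 := hsp.of_dvd hne hdvd
  have hint : IsIntegral (ZMod p) f := IsIntegral.of_finite _ _
  have hdeg := minpoly.degree_pos hint
  obtain ⟨c, hc⟩ := Polynomial.Splits.exists_eval_eq_zero hsp2 hdeg.ne'
  have hev := Module.End.hasEigenvalue_of_isRoot (f := f) (μ := c) hc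
  obtain ⟨v, hv⟩ := hev.exists_hasEigenvector
  exact ⟨c, v, hv.2, hv.apply_eq_smul⟩

/-- Common eigenvector of commuting endomorphisms with `f ^ (p - 1) = 1`. -/
theorem exists_common_eigen (𝓗 : Set (Module.End (ZMod p) V))
    (hcomm : ∀ f ∈ 𝓗, ∀ g ∈ 𝓗, f * g = g * f) (hpow : ∀ f ∈ 𝓗, f ^ (p - 1) = 1)
    (W : Submodule (ZMod p) V) (hW : W ≠ ⊥) (hinv : ∀ f ∈ 𝓗, ∀ w ∈ W, f w ∈ W) :
    ∃ v ∈ W, v ≠ 0 ∧ ∀ f ∈ 𝓗, ∃ c : ZMod p, f v = c • v := by
  classical
  induction h : Nat.card W using Nat.strong_induction_on generalizing W with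
  | _ n ih =>
    by_cases hall : ∀ f ∈ 𝓗, ∃ c : ZMod p, ∀ w ∈ W, f w = c • w
    · obtain ⟨v, hv, hv0⟩ := W.exists_mem_ne_zero_of_ne_bot hW
      refine ⟨v, hv, hv0, fun f hf => ?_⟩
      obtain ⟨c, hc⟩ := hall f hf
      exact ⟨c, hc v hv⟩
    · push Not at hall
      obtain ⟨f, hf, hfc⟩ := hall
      -- restrict f to W
      let f' : Module.End (ZMod p) W := f.restrict (hinv f hf)
      haveI : Nontrivial W := Submodule.nontrivial_iff_ne_bot.mpr hW
      have hf'pow : f' ^ (p - 1) = 1 := by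
        ext w
        have h1 : ∀ k : ℕ, (((f' ^ k) w : W) : V) = (f ^ k) (w : V) := by
          intro k
          induction k with
          | zero => rfl
          | succ k ih' =>
            rw [pow_succ', pow_succ']
            show f (((f' ^ k) w : W) : V) = f ((f ^ k) (w : V))
            rw [ih']
        rw [h1, hpow f hf]
        rfl
      obtain ⟨c, v₀, hv₀, hc⟩ := exists_eigen f' hf'pow
      -- the eigenspace
      let W' : Submodule (ZMod p) V := W ⊓ LinearMap.ker (f - c • (1 : Module.End (ZMod p) V))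
      have hmem : ∀ w, w ∈ W' ↔ w ∈ W ∧ f w = c • w := by
        intro w
        rw [Submodule.mem_inf, LinearMap.mem_ker]
        simp [sub_eq_zero]
      have hW'ne : W' ≠ ⊥ := by
        intro h0
        have h1 : (v₀ : V) ∈ W' := (hmem _).2 ⟨v₀.2, congrArg Subtype.val hc⟩
        rw [h0, Submodule.mem_bot] at h1
        exact hv₀ (Subtype.ext h1)
      have hW'inv : ∀ g ∈ 𝓗, ∀ w ∈ W', g w ∈ W' := by
        intro g hg w hw
        obtain ⟨h1, h2⟩ := (hmem w).1 hw
        refine (hmem _).2 ⟨hinv g hg w h1, ?_⟩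
        have h3 := hcomm f hf g hg
        have h4 : f (g w) = g (f w) := LinearMap.congr_fun h3 w
        rw [h4, h2, map_smul]
      have hlt : Nat.card W' < n := by
        rw [← h]
        have hle : W' ≤ W := inf_le_left
        have hne : W' ≠ W := by
          intro he
          obtain ⟨w, hw, hw2⟩ := hfc c
          exact hw2 ((hmem w).1 (he ▸ hw)).2
        have hlt' : W' < W := lt_of_le_of_ne hle hne
        have := Set.ncard_lt_ncard (s := (W' : Set V)) (t := (W : Set V)) (by exact_mod_cast hlt') (Set.toFinite _)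
        rwa [← Nat.card_coe_set_eq, ← Nat.card_coe_set_eq] at this
      obtain ⟨v, hv, hv0, hvc⟩ := ih _ hlt W' hW'ne hW'inv rfl
      exact ⟨v, (hmem v).1 hv |>.1, hv0, hvc⟩

/-- Group form of the common eigenvector. -/
theorem exists_common_eigen_group_aux {V : Type*} [CommGroup V] [Finite V] [Nontrivial V]
    [Module (ZMod p) (Additive V)] (𝓗 : Set (V →* V))
    (hcomm : ∀ f ∈ 𝓗, ∀ g ∈ 𝓗, ∀ v, f (g v) = g (f v))
    (hpow : ∀ f ∈ 𝓗, ∀ v, f^[p - 1] v = v) : ∃ v : V, v ≠ 1 ∧ ∀ f ∈ 𝓗, ∃ n : ℕ, f v = v ^ n := by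
  classical
  let lin : (V →* V) → Module.End (ZMod p) (Additive V) := fun f =>
    (MonoidHom.toAdditive f).toZModLinearMap p
  have hlin : ∀ (f : V →* V) (x : Additive V), lin f x = Additive.ofMul (f x.toMul) := fun f x => rfl
  have hlinit : ∀ (f : V →* V) (k : ℕ) (x : Additive V), (lin f ^ k) x = Additive.ofMul (f^[k] x.toMul) := by
    intro f k
    induction k with
    | zero => intro x; rfl
    | succ k ih =>
      intro x
      rw [pow_succ, Module.End.mul_apply, ih, hlin, Function.iterate_succ_apply]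
      rfl
  obtain ⟨v, -, hv0, hv⟩ := exists_common_eigen (p := p) (V := Additive V) (lin '' 𝓗) (by
      rintro _ ⟨f, hf, rfl⟩ _ ⟨g, hg, rfl⟩
      ext x
      exact congrArg Additive.ofMul (hcomm f hf g hg x.toMul))
    (by
      rintro _ ⟨f, hf, rfl⟩
      ext x
      rw [hlinit, hpow f hf]
      rfl) ⊤ (by
      intro h
      have := (Submodule.subsingleton_iff_eq_bot.mpr h : Subsingleton (⊤ : Submodule (ZMod p) (Additive V)))
      obtain ⟨a, ha⟩ := exists_ne (1 : V)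
      have h2 := Subsingleton.elim (⟨Additive.ofMul a, trivial⟩ : (⊤ : Submodule (ZMod p) (Additive V))) ⟨0, trivial⟩
      exact ha (Additive.ofMul.injective (congrArg Subtype.val h2))) (fun _ _ _ _ => trivial)
  refine ⟨v.toMul, fun h => hv0 (Additive.toMul.injective h), fun f hf => ?_⟩
  obtain ⟨c, hc⟩ := hv (lin f) ⟨f, hf, rfl⟩
  refine ⟨c.val, ?_⟩
  have h1 : c • v = c.val • v := by
    rw [← Nat.cast_smul_eq_nsmul (ZMod p), ZMod.natCast_zmod_val]
  rw [h1] at hc
  exact congrArg Additive.toMul hc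

/-- Group form of the common eigenvector. -/
theorem exists_common_eigen_group {V : Type*} [CommGroup V] [Finite V] [Nontrivial V]
    (hV : ∀ v : V, v ^ p = 1) (𝓗 : Set (V →* V))
    (hcomm : ∀ f ∈ 𝓗, ∀ g ∈ 𝓗, ∀ v, f (g v) = g (f v))
    (hpow : ∀ f ∈ 𝓗, ∀ v, f^[p - 1] v = v) : ∃ v : V, v ≠ 1 ∧ ∀ f ∈ 𝓗, ∃ n : ℕ, f v = v ^ n := by
  have hA : ∀ x : Additive V, p • x = 0 := fun x => by
    apply Additive.toMul.injective
    simpa using hV x.toMul
  letI : Module (ZMod p) (Additive V) := AddCommGroup.zmodModule hA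
  exact exists_common_eigen_group_aux (p := p) 𝓗 hcomm hpow

/-- The centre as a commutative group. -/
abbrev cgZ (Q : Type*) [Group Q] : CommGroup (Subgroup.center Q) :=
  { (Subgroup.center Q).toGroup with
    mul_comm := fun a b => Subtype.ext (Subgroup.mem_center_iff.1 b.2 a.1) }

attribute [local instance] cgZ

/-- The central elements of exponent `p`. -/
def OmZ (Q : Type*) [Group Q] (p : ℕ) : Subgroup (Subgroup.center Q) :=
  (powMonoidHom (α := Subgroup.center Q) p).ker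

lemma mem_OmZ {Q : Type*} [Group Q] (z : Subgroup.center Q) : z ∈ OmZ Q p ↔ z ^ p = 1 :=
  MonoidHom.mem_ker

/-- An automorphism acts on the central elements of exponent `p`. -/
def omMap {Q : Type*} [Group Q] (a : MulAut Q) : OmZ Q p →* OmZ Q p where
  toFun v := ⟨⟨a v.1.1, by
      rw [Subgroup.mem_center_iff]
      intro g
      obtain ⟨g', rfl⟩ := a.surjective g
      rw [← map_mul, ← map_mul, (Subgroup.mem_center_iff.1 v.1.2) g']⟩, by
      rw [mem_OmZ]
      apply Subtype.ext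
      have h1 : v.1.1 ^ p = 1 := congrArg Subtype.val ((mem_OmZ v.1).1 v.2)
      show (a v.1.1) ^ p = 1
      rw [← map_pow, h1, map_one]⟩
  map_one' := by
    apply Subtype.ext
    apply Subtype.ext
    exact map_one a
  map_mul' x y := by
    apply Subtype.ext
    apply Subtype.ext
    exact map_mul a _ _

theorem exists_central_line {Q : Type*} [Group Q] [Finite Q] [Nontrivial Q] (hQ : IsPGroup p Q)
    (B : Set (MulAut Q)) (hcomm : ∀ a ∈ B, ∀ b ∈ B, a * b = b * a) (hexp : ∀ a ∈ B, a ^ (p - 1) = 1) :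
    ∃ z : Q, z ≠ 1 ∧ z ∈ Subgroup.center Q ∧ ∀ a ∈ B, ∃ n : ℕ, a z = z ^ n := by
  classical
  haveI hZnt : Nontrivial (Subgroup.center Q) := hQ.center_nontrivial
  haveI hVnt : Nontrivial (OmZ Q p) := by
    have h1 : IsPGroup p (Subgroup.center Q) := hQ.to_subgroup _
    obtain ⟨k, hk⟩ := IsPGroup.iff_card.mp h1
    have hk0 : k ≠ 0 := by
      rintro rfl
      have := Finite.one_lt_card (α := Subgroup.center Q)
      rw [hk, pow_zero] at this
      exact lt_irrefl _ this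
    have h2 : p ∣ Nat.card (Subgroup.center Q) := by
      rw [hk]
      exact dvd_pow_self p hk0
    obtain ⟨z, hz⟩ := exists_prime_orderOf_dvd_card' p h2
    refine ⟨⟨⟨z, (mem_OmZ z).2 (hz ▸ pow_orderOf_eq_one z)⟩, 1, fun h => ?_⟩⟩
    have hz1 : z = 1 := congrArg Subtype.val h
    rw [hz1, orderOf_one] at hz
    exact (Fact.out : p.Prime).one_lt.ne hz
  have hVp : ∀ v : OmZ Q p, v ^ p = 1 := fun v => Subtype.ext ((mem_OmZ v.1).1 v.2)
  have hit : ∀ (a : MulAut Q) (k : ℕ) (v : OmZ Q p), (((omMap a)^[k] v : OmZ Q p).1.1 : Q) = (a ^ k) v.1.1 := by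
    intro a k
    induction k with
    | zero => intro v; rfl
    | succ k ih =>
      intro v
      rw [Function.iterate_succ_apply', pow_succ']
      show a (((omMap a)^[k] v : OmZ Q p).1.1 : Q) = _
      rw [ih]
      rfl
  obtain ⟨v, hv1, hv⟩ := exists_common_eigen_group (p := p) hVp (omMap '' B) (by
      rintro _ ⟨a, ha, rfl⟩ _ ⟨b, hb, rfl⟩ v
      apply Subtype.ext
      apply Subtype.ext
      exact DFunLike.congr_fun (hcomm a ha b hb) v.1.1)
    (by
      rintro _ ⟨a, ha, rfl⟩ v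
      apply Subtype.ext
      apply Subtype.ext
      rw [hit, hexp a ha]
      rfl)
  refine ⟨v.1.1, fun h => hv1 (Subtype.ext (Subtype.ext h)), v.1.2, fun a ha => ?_⟩
  obtain ⟨n, hn⟩ := hv (omMap a) ⟨a, ha, rfl⟩
  exact ⟨n, congrArg (fun w : OmZ Q p => (w.1.1 : Q)) hn⟩

/-- The step: a central line of `G / K` invariant under `H`. -/
theorem exists_step {G : Type*} [Group G] [Finite G] (hG : IsPGroup p G) (H : Subgroup (MulAut G))
    (hcomm : ∀ a ∈ H, ∀ b ∈ H, a * b = b * a) (hexp : ∀ a ∈ H, a ^ (p - 1) = 1)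
    (K : Subgroup G) (hK : K ≠ ⊤) [K.Normal] (hinv : ∀ h ∈ H, ∀ x ∈ K, h x ∈ K) :
    ∃ x : G, x ∉ K ∧ (∀ h ∈ H, ∀ y ∈ K ⊔ Subgroup.zpowers x, h y ∈ K ⊔ Subgroup.zpowers x) ∧
      (∀ g : G, ∀ y ∈ K ⊔ Subgroup.zpowers x, g * y * g⁻¹ ∈ K ⊔ Subgroup.zpowers x) := by
  classical
  let π := QuotientGroup.mk' K
  have hπ : Function.Surjective π := QuotientGroup.mk'_surjective K
  have hQ : IsPGroup p (G ⧸ K) := hG.to_quotient K
  haveI : Nontrivial (G ⧸ K) := QuotientGroup.nontrivial_iff.mpr hK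
  -- the induced automorphisms
  have hmapeq : ∀ h ∈ H, K.map h.toMonoidHom = K := by
    intro h hh
    apply le_antisymm
    · rintro _ ⟨x, hx, rfl⟩
      exact hinv h hh x hx
    · intro x hx
      refine ⟨h⁻¹ x, hinv h⁻¹ (H.inv_mem hh) x hx, ?_⟩
      show h (h⁻¹ x) = x
      simp
  let bar : H → MulAut (G ⧸ K) := fun h => QuotientGroup.congr K K h.1 (hmapeq h.1 h.2)
  have hbar : ∀ (h : H) (x : G), bar h (π x) = π (h.1 x) := fun h x => rfl
  have hbarmul : ∀ a b : H, bar (a * b) = bar a * bar b := by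
    intro a b
    ext x
    obtain ⟨x, rfl⟩ := hπ x
    rfl
  have hbarone : bar 1 = 1 := by
    ext x
    obtain ⟨x, rfl⟩ := hπ x
    rfl
  have hbarpow : ∀ (a : H) (k : ℕ), bar (a ^ k) = bar a ^ k := by
    intro a k
    induction k with
    | zero => exact hbarone
    | succ k ih => rw [pow_succ, hbarmul, ih, pow_succ]
  obtain ⟨z, hz1, hzc, hz⟩ := exists_central_line (p := p) hQ (Set.range bar) (by
      rintro _ ⟨a, rfl⟩ _ ⟨b, rfl⟩
      rw [← hbarmul, ← hbarmul]
      congr 1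
      exact Subtype.ext (hcomm a.1 a.2 b.1 b.2))
    (by
      rintro _ ⟨a, rfl⟩
      rw [← hbarpow, ← hbarone]
      congr 1
      exact Subtype.ext (hexp a.1 a.2))
  obtain ⟨x, rfl⟩ := hπ z
  have hmem : ∀ y, y ∈ K ⊔ Subgroup.zpowers x ↔ π y ∈ Subgroup.zpowers (π x) := by
    intro y
    have h1 : (Subgroup.zpowers x).map π = Subgroup.zpowers (π x) := MonoidHom.map_zpowers π x
    rw [← h1, ← Subgroup.mem_comap, Subgroup.comap_map_eq, QuotientGroup.ker_mk', sup_comm]
  refine ⟨x, fun hx => hz1 ((QuotientGroup.eq_one_iff x).mpr hx), fun h hh y hy => ?_, fun g y hy => ?_⟩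
  · rw [hmem] at hy ⊢
    obtain ⟨j, hj⟩ := hy
    obtain ⟨n, hn⟩ := hz (bar ⟨h, hh⟩) ⟨_, rfl⟩
    refine ⟨n * j, ?_⟩
    have h1 : π (h y) = bar ⟨h, hh⟩ (π y) := rfl
    show (π x) ^ ((n : ℤ) * j) = _
    rw [h1, ← hj, map_zpow, hn, zpow_mul, zpow_natCast]
  · rw [hmem] at hy ⊢
    have hcen : π y ∈ Subgroup.center (G ⧸ K) := by
      have : Subgroup.zpowers (π x) ≤ Subgroup.center (G ⧸ K) := by
        rwa [Subgroup.zpowers_le]
      exact this hy
    have h1 : π (g * y * g⁻¹) = π y := by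
      rw [map_mul, map_mul, map_inv, Subgroup.mem_center_iff.1 hcen (π g), mul_inv_cancel_right]
    rwa [h1]

/-- Chains in a `p`-group from a group of automorphisms `Inn G · H`. -/
theorem exists_chain {G : Type*} [Group G] [Finite G] (hG : IsPGroup p G)
    (A H : Subgroup (MulAut G)) (hHA : H ≤ A) (hInn : ∀ g : G, MulAut.conj g ∈ A)
    (hdec : ∀ a ∈ A, ∃ g : G, ∃ h ∈ H, a = MulAut.conj g * h)
    (hcomm : ∀ a ∈ H, ∀ b ∈ H, a * b = b * a) (hexp : ∀ a ∈ H, a ^ (p - 1) = 1)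
    (K : Subgroup G) (hK : ∀ a ∈ A, ∀ x ∈ K, a x ∈ K) :
    ∃ (m : ℕ) (c : ℕ → Subgroup G), c 0 = K ∧ c m = ⊤ ∧ (∀ i, i ≤ m → ∀ a ∈ A, ∀ x ∈ c i, a x ∈ c i) ∧
      ∀ i, i < m → c i ≤ c (i + 1) ∧ ∃ x, c (i + 1) = c i ⊔ Subgroup.zpowers x := by
  classical
  induction K using WellFoundedGT.induction with
  | _ K ih =>
    by_cases htop : K = ⊤
    · exact ⟨0, fun _ => K, rfl, htop, fun i _ a ha x hx => hK a ha x hx, fun i hi => absurd hi (Nat.not_lt_zero i)⟩
    · haveI : K.Normal := ⟨fun n hn g => hK _ (hInn g) n hn⟩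
      obtain ⟨x, hx, h1, h2⟩ := exists_step hG H hcomm hexp K htop (fun h hh y hy => hK h (hHA hh) y hy)
      have hlt : K < K ⊔ Subgroup.zpowers x := by
        refine lt_of_le_of_ne le_sup_left (fun h => hx ?_)
        rw [h]
        exact Subgroup.mem_sup_right (Subgroup.mem_zpowers x)
      have hK' : ∀ a ∈ A, ∀ y ∈ K ⊔ Subgroup.zpowers x, a y ∈ K ⊔ Subgroup.zpowers x := by
        intro a ha y hy
        obtain ⟨g, h, hh, rfl⟩ := hdec a ha
        exact h2 g _ (h1 h hh y hy)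
      obtain ⟨m, c, hc0, hcm, hci, hcs⟩ := ih _ hlt hK'
      refine ⟨m + 1, fun i => Nat.casesOn i K c, rfl, hcm, ?_, ?_⟩
      · intro i hi a ha y hy
        cases i with
        | zero => exact hK a ha y hy
        | succ i => exact hci i (by omega) a ha y hy
      · intro i hi
        cases i with
        | zero =>
          refine ⟨?_, x, ?_⟩
          · show K ≤ c 0
            rw [hc0]
            exact le_sup_left
          · show c 0 = K ⊔ _
            exact hc0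
        | succ i => exact hcs i (by omega)

end Eigen

section FromSC

open Cfsg.Agent.Lib.FusionCore Cfsg.Agent.Lib.FusionCore2

variable {S : Subgroup Ω} {F : FusionSystem S}

lemma sc_conj {C : Subgroup Ω} (h : F.StronglyClosed C) {g y : Ω} (hg : g ∈ S) (hy : y ∈ C) :
    g * y * g⁻¹ ∈ C :=
  h.2 C le_rfl (conjHom C g) (F.conj_mem h.1 hg) ⟨y, hy⟩

lemma sc_afn {C E : Subgroup Ω} (hC : F.StronglyClosed C) (hE : E ≤ S) {α : MulAut E}
    (hα : α ∈ F.autGroup E) {x : Ω} (hx : x ∈ E) (hxC : x ∈ C) : afn α x ∈ C := by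
  have h := (Maps_of_mem_autGroup hE hα).restrict (inf_le_right : C ⊓ E ≤ E)
  have h2 := hC.2 (C ⊓ E) inf_le_left h.hom h.hom_mem ⟨x, hxC, hx⟩
  rwa [h.hom_apply] at h2

lemma isCyclic_quot {K L : Subgroup Ω} {x : Ω} (hL : L = K ⊔ Subgroup.zpowers x)
    [hN : (K.subgroupOf L).Normal] : IsCyclic (L ⧸ K.subgroupOf L) := by
  have hxL : x ∈ L := by
    rw [hL]
    exact Subgroup.mem_sup_right (Subgroup.mem_zpowers x)
  let π := QuotientGroup.mk' (K.subgroupOf L)
  let B : Subgroup L := (Subgroup.zpowers (π ⟨x, hxL⟩)).comap π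
  have hB : L ≤ B.map L.subtype := by
    conv_lhs => rw [hL]
    refine sup_le ?_ ?_
    · intro k hk
      have hkL : k ∈ L := by
        rw [hL]
        exact Subgroup.mem_sup_left hk
      refine ⟨⟨k, hkL⟩, ?_, rfl⟩
      have : π ⟨k, hkL⟩ = 1 := (QuotientGroup.eq_one_iff _).mpr hk
      show π ⟨k, hkL⟩ ∈ Subgroup.zpowers (π ⟨x, hxL⟩)
      rw [this]
      exact one_mem _
    · rw [Subgroup.zpowers_le]
      exact ⟨⟨x, hxL⟩, Subgroup.mem_zpowers _, rfl⟩
  refine ⟨⟨π ⟨x, hxL⟩, fun g => ?_⟩⟩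
  obtain ⟨z, rfl⟩ := QuotientGroup.mk'_surjective _ g
  obtain ⟨z', hz', hzz⟩ := hB z.2
  have : z' = z := Subtype.ext hzz
  rw [← this]
  exact hz'

theorem chain_of_sc {E : Subgroup Ω} (hE : E ≤ S) {m : ℕ} {c : ℕ → Subgroup Ω} (h0 : c 0 = ⊥)
    (hm : c m = S) (hsc : ∀ i, i ≤ m → F.StronglyClosed (c i)) (hle : ∀ i, i < m → c i ≤ c (i + 1))
    (hstep : ∀ i, i < m → ∃ x, c (i + 1) = c i ⊔ Subgroup.zpowers x) :
    Chain (F.autGroup E) m (fun i => (c i).subgroupOf E) := by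
  refine ⟨?_, ?_, ?_, ?_, ?_, ?_⟩
  · show (c 0).subgroupOf E = ⊥
    rw [h0]
    exact Subgroup.bot_subgroupOf E
  · show (c m).subgroupOf E = ⊤
    rw [hm]
    exact Subgroup.subgroupOf_eq_top.mpr hE
  · intro i hi x hx
    exact hle i hi hx
  · intro i hi
    constructor
    intro n hn g
    rw [Subgroup.mem_subgroupOf, Subgroup.mem_subgroupOf] at *
    have hg : ((g : E) : Ω) ∈ S := hE (g : E).2
    have := sc_conj (hsc i (le_of_lt hi)) hg hn
    simpa using this
  · intro a ha i hi x hx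
    rw [Subgroup.mem_subgroupOf] at *
    have := sc_afn (hsc i hi) hE ha x.2 hx
    rwa [afn_coe] at this
  · intro i hi hNorm
    obtain ⟨x, hx⟩ := hstep i hi
    haveI hN2 : ((c i).subgroupOf (c (i + 1))).Normal := by
      constructor
      intro n hn g
      rw [Subgroup.mem_subgroupOf] at *
      have hg : ((g : c (i + 1)) : Ω) ∈ S := (hsc (i + 1) hi).1 g.2
      have := sc_conj (hsc i (le_of_lt hi)) hg hn
      simpa using this
    haveI hcy : IsCyclic (c (i + 1) ⧸ (c i).subgroupOf (c (i + 1))) := isCyclic_quot hx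
    let ι : ((c (i + 1)).subgroupOf E) →* c (i + 1) :=
      { toFun := fun z => ⟨((z : E) : Ω), z.2⟩
        map_one' := rfl
        map_mul' := fun _ _ => rfl }
    let π := (QuotientGroup.mk' ((c i).subgroupOf (c (i + 1)))).comp ι
    let φ := QuotientGroup.lift (((c i).subgroupOf E).subgroupOf ((c (i + 1)).subgroupOf E)) π (by
      intro z hz
      rw [Subgroup.mem_subgroupOf, Subgroup.mem_subgroupOf] at hz
      exact (QuotientGroup.eq_one_iff _).mpr hz)
    have hφ : Function.Injective φ := by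
      rw [injective_iff_map_eq_one]
      intro g hg
      induction g using QuotientGroup.induction_on with
      | H z =>
        have h1 : π z = 1 := hg
        have h2 := (QuotientGroup.eq_one_iff _).mp h1
        exact (QuotientGroup.eq_one_iff _).mpr h2
    exact isCyclic_of_injective φ hφ

/-- A system with a chain of strongly closed subgroups with cyclic factors is `S`-normal. -/
theorem isNormal_of_chain_cyclic [Finite S] (hS : IsPGroup p S) (hF : F.IsSaturated p)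
    {m : ℕ} {c : ℕ → Subgroup Ω} (h0 : c 0 = ⊥)
    (hm : c m = S) (hsc : ∀ i, i ≤ m → F.StronglyClosed (c i)) (hle : ∀ i, i < m → c i ≤ c (i + 1))
    (hstep : ∀ i, i < m → ∃ x, c (i + 1) = c i ⊔ Subgroup.zpowers x) : F.IsNormal S := by
  apply Cfsg.Agent.Lib.FusionCore3.isNormal_of_AG hS hF
  intro P hP
  rcases hP with rfl | hE
  · exact ⟨le_rfl, fun α _ => afn_img α⟩
  · exfalso
    have hQS : P ≤ S := hE.1.1
    haveI := Cfsg.Agent.Lib.FusionCore.finite_of_le hQS
    haveI := finite_mulAut (S := S) hQS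
    obtain ⟨M, hM, hconj, hemb, g, hg⟩ := Cfsg.Agent.Lib.FusionEssential.exists_M hS hF hE hQS
    apply hM
    rw [eq_top_iff]
    rintro a -
    have hc := chain_of_sc (F := F) hQS h0 hm hsc hle hstep
    obtain ⟨-, R, hR⟩ := (of_fullyNormalized hS hF hE.2.1).2
    have hQp : IsPGroup p P := hS.to_le hQS
    have hDR : hc.D ≤ (R : Subgroup (F.autGroup P)) := by
      have h1 : IsPGroup p ((R : Subgroup (F.autGroup P)) ⊔ hc.D : Subgroup (F.autGroup P)) :=
        IsPGroup.to_sup_of_normal_right R.isPGroup' (hc.isPGroup_D hQp)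
      have h2 := R.is_maximal' h1 le_sup_left
      exact le_sup_right.trans h2.le
    set cg := conjA (F := F) hQS g with hcg
    have h1 := hDR (hc.comm_mem_D a cg)
    have h2 : cg ∈ (R : Subgroup (F.autGroup P)) := by
      rw [hR]
      exact (mem_autS_iff hQS _).2 ⟨g, rfl⟩
    have h3 := (R : Subgroup (F.autGroup P)).mul_mem h1 h2
    rw [inv_mul_cancel_right, hR, mem_autS_iff hQS] at h3
    obtain ⟨h, hh⟩ := h3
    exact hemb a g h hg hh.symm

/-- From a `Fin`-indexed chain to an `ℕ`-indexed chain. -/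
lemma fin_to_nat {m : ℕ} {c : Fin (m + 1) → Subgroup Ω} (h0 : c 0 = ⊥) (hl : c (Fin.last m) = S)
    (hsc : ∀ i, F.StronglyClosed (c i))
    (hst : ∀ i : Fin m, c i.castSucc ≤ c i.succ ∧ ∃ x ∈ S, c i.succ = c i.castSucc ⊔ Subgroup.zpowers x) :
    ∃ c' : ℕ → Subgroup Ω, c' 0 = ⊥ ∧ c' m = S ∧ (∀ i, i ≤ m → F.StronglyClosed (c' i)) ∧
      (∀ i, i < m → c' i ≤ c' (i + 1)) ∧ (∀ i, i < m → ∃ x, c' (i + 1) = c' i ⊔ Subgroup.zpowers x) := by
  have hlt : ∀ i : ℕ, min i m < m + 1 := fun i => by omega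
  refine ⟨fun i => c ⟨min i m, hlt i⟩, ?_, ?_, fun i _ => hsc _, fun i hi => ?_, fun i hi => ?_⟩
  · show c _ = ⊥
    rw [← h0]
    congr 1
  · show c _ = S
    rw [← hl]
    congr 1
    ext
    simp
  · have e1 : (⟨min i m, hlt i⟩ : Fin (m + 1)) = (⟨i, hi⟩ : Fin m).castSucc := by
      ext
      simp
      omega
    have e2 : (⟨min (i + 1) m, hlt (i + 1)⟩ : Fin (m + 1)) = (⟨i, hi⟩ : Fin m).succ := by
      ext
      simp
      omega
    show c _ ≤ c _
    rw [e1, e2]
    exact (hst _).1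
  · have e1 : (⟨min i m, hlt i⟩ : Fin (m + 1)) = (⟨i, hi⟩ : Fin m).castSucc := by
      ext
      simp
      omega
    have e2 : (⟨min (i + 1) m, hlt (i + 1)⟩ : Fin (m + 1)) = (⟨i, hi⟩ : Fin m).succ := by
      ext
      simp
      omega
    obtain ⟨x, -, hx⟩ := (hst ⟨i, hi⟩).2
    refine ⟨x, ?_⟩
    show c _ = c _ ⊔ _
    rw [e1, e2]
    exact hx

open Cfsg.Agent.Lib.FusionAutSys in
/-- A `p'`-group of automorphisms of `S`, if the system it generates has a chain, is abelian of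
exponent dividing `p - 1`. -/
theorem exp_of_chain [Finite S] (hS : IsPGroup p S) (H : Subgroup (MulAut S))
    (hH : (Nat.card H).Coprime p)
    (hchain : ∀ F : FusionSystem S, F.IsSaturated p → ∃ (c' : ℕ → Subgroup Ω) (m : ℕ), c' 0 = ⊥ ∧ c' m = S ∧
      (∀ i, i ≤ m → F.StronglyClosed (c' i)) ∧ (∀ i, i < m → c' i ≤ c' (i + 1)) ∧
      (∀ i, i < m → ∃ x, c' (i + 1) = c' i ⊔ Subgroup.zpowers x)) :
    IsMulCommutative H ∧ ∀ h ∈ H, h ^ (p - 1) = 1 := by
  classical
  haveI : Finite (MulAut S) := Finite.of_injective (fun a => (a : S → S)) DFunLike.coe_injective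
  set N := Nat.card H with hN
  have hpowH : ∀ h ∈ H, h ^ N = 1 := by
    intro h hh
    have : (⟨h, hh⟩ : H) ^ N = 1 := pow_card_eq_one'
    simpa using congrArg Subtype.val this
  have hD : Inn S ≤ Inn S ⊔ H := le_sup_left
  have hpow : ∀ b ∈ Inn S ⊔ H, b ^ N ∈ Inn S := by
    intro b hb
    haveI : (Inn S).Normal := innNormal S
    let π := QuotientGroup.mk' (Inn S)
    have hU : Inn S ⊔ H ≤ (H.map π).comap π := by
      refine sup_le ?_ ?_
      · intro c hc
        rw [Subgroup.mem_comap]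
        have : π c = 1 := (QuotientGroup.eq_one_iff c).mpr hc
        rw [this]
        exact Subgroup.one_mem _
      · intro c hc
        exact ⟨c, hc, rfl⟩
    obtain ⟨h, hh, hk⟩ := hU hb
    have h2 : π (b ^ N) = 1 := by
      rw [map_pow, ← hk, ← map_pow, hpowH h hh, map_one]
    exact (QuotientGroup.eq_one_iff _).mp h2
  have hsat := autSystem_isSaturated (hD := hD) hS hH hpow
  obtain ⟨c, m, h0, hm, hsc, hle, hstep⟩ := hchain _ hsat
  have hc := chain_of_sc (F := autSystem S (Inn S ⊔ H) hD) le_rfl h0 hm hsc hle hstep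
  have hmemA : ∀ h ∈ H, h ∈ (autSystem S (Inn S ⊔ H) hD).autGroup S := fun h hh =>
    (autGroup_top h).2 (Subgroup.mem_sup_right hh)
  have hone : ∀ x ∈ H, ∀ j : ℕ, x ^ p ^ j = 1 → x = 1 := by
    intro x hx j hj
    have h1 := orderOf_dvd_of_pow_eq_one hj
    have h2 := orderOf_dvd_of_pow_eq_one (hpowH x hx)
    have h3 : (p ^ j).Coprime N := Nat.Coprime.pow_left _ hH.symm
    have h4 := Nat.Coprime.eq_one_of_dvd (h3.coprime_dvd_left h1) h2
    exact orderOf_eq_one_iff.mp h4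
  constructor
  · refine ⟨⟨fun a b => ?_⟩⟩
    let a' : (autSystem S (Inn S ⊔ H) hD).autGroup S := ⟨a.1, hmemA _ a.2⟩
    let b' : (autSystem S (Inn S ⊔ H) hD).autGroup S := ⟨b.1, hmemA _ b.2⟩
    have h1 := hc.comm_mem_D a' b'
    obtain ⟨j, hj⟩ := hc.stab (hS) (a' * b' * a'⁻¹ * b'⁻¹).1 h1
    have h2 : a.1 * b.1 * a.1⁻¹ * b.1⁻¹ = 1 := hone _
      (H.mul_mem (H.mul_mem (H.mul_mem a.2 b.2) (H.inv_mem a.2)) (H.inv_mem b.2)) j hj
    apply Subtype.ext
    show a.1 * b.1 = b.1 * a.1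
    calc a.1 * b.1 = a.1 * b.1 * a.1⁻¹ * b.1⁻¹ * (b.1 * a.1) := by group
      _ = b.1 * a.1 := by rw [h2, one_mul]
  · intro h hh
    let a' : (autSystem S (Inn S ⊔ H) hD).autGroup S := ⟨h, hmemA _ hh⟩
    have ha : a' ^ N = 1 := by
      apply Subtype.ext
      exact hpowH h hh
    have h1 := hc.pow_mem_D hS a' hH ha
    obtain ⟨j, hj⟩ := hc.stab hS (a' ^ (p - 1)).1 h1
    exact hone _ (H.pow_mem hh _) j hj

/-- The chain, for an `S`-normal system when the `p'`-automorphisms of `S` are abelian of exponent dividing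
`p - 1`. -/
theorem exists_chain_of_normal [Finite S] (hS : IsPGroup p S) (hF : F.IsSaturated p) (hN : F.IsNormal S)
    (hAut : ∀ H : Subgroup (MulAut S), (Nat.card H).Coprime p →
      IsMulCommutative H ∧ ∀ h ∈ H, h ^ (p - 1) = 1) :
    ∃ (m : ℕ) (c : ℕ → Subgroup Ω), c 0 = ⊥ ∧ c m = S ∧ (∀ i, i ≤ m → F.StronglyClosed (c i)) ∧
      ∀ i, i < m → c i ≤ c (i + 1) ∧ ∃ x ∈ S, c (i + 1) = c i ⊔ Subgroup.zpowers x := by
  classical
  haveI : Finite (MulAut S) := Finite.of_injective (fun a => (a : S → S)) DFunLike.coe_injective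
  let A := F.autGroup S
  haveI hNor : ((Inn S).subgroupOf A).Normal := by
    haveI := innNormal S
    infer_instance
  have hInnA : Inn S ≤ A := Inn_le_autGroup le_rfl
  -- Schur-Zassenhaus
  obtain ⟨-, R, hR⟩ := (of_fullyNormalized hS hF (Cfsg.Agent.Lib.FusionFocal.fullyNormalized_top (F := F))).2
  have hInnEq : (autInducedBy S S).subgroupOf A = (Inn S).subgroupOf A := by
    apply le_antisymm
    · intro a ha
      rw [Subgroup.mem_subgroupOf, ← conjN_range] at ha
      obtain ⟨g, hg⟩ := ha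
      rw [Subgroup.mem_subgroupOf]
      refine ⟨⟨g.1, g.2.1⟩, ?_⟩
      rw [← hg]
      ext x
      rfl
    · intro a ha
      rw [Subgroup.mem_subgroupOf] at ha ⊢
      exact Inn_le_autInducedBy le_rfl ha
  have hRcop := R.card_coprime_index
  rw [hR, hInnEq] at hRcop
  obtain ⟨H₀, hH₀⟩ := Subgroup.exists_right_complement'_of_coprime hRcop
  have hp : p.Prime := Fact.out
  have hcardH₀ : (Nat.card H₀).Coprime p := by
    have h0 : ¬ p ∣ ((Inn S).subgroupOf A).index := by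
      have := R.not_dvd_index
      rwa [hR, hInnEq] at this
    have hcard : ((Inn S).subgroupOf A).index = Nat.card H₀ := hH₀.symm.index_eq_card
    rw [← hcard]
    exact Nat.Coprime.symm ((Nat.Prime.coprime_iff_not_dvd hp).2 h0)
  let H : Subgroup (MulAut S) := H₀.map A.subtype
  have hcardH : Nat.card H = Nat.card H₀ :=
    Nat.card_congr (H₀.equivMapOfInjective A.subtype A.subtype_injective).toEquiv.symm
  obtain ⟨hc, he⟩ := hAut H (by rwa [hcardH])
  have hcomm : ∀ a ∈ H, ∀ b ∈ H, a * b = b * a := fun a ha b hb =>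
    congrArg Subtype.val (hc.is_comm.comm ⟨a, ha⟩ ⟨b, hb⟩)
  have hHA : H ≤ A := by
    rintro _ ⟨h, -, rfl⟩
    exact h.2
  have hdec : ∀ a ∈ A, ∃ g : S, ∃ h ∈ H, a = MulAut.conj g * h := by
    intro a ha
    obtain ⟨⟨n, h⟩, e⟩ := hH₀.2 ⟨a, ha⟩
    obtain ⟨g, hg⟩ := Subgroup.mem_subgroupOf.1 n.2
    refine ⟨g, h.1.1, ⟨h.1, h.2, rfl⟩, ?_⟩
    have e' : n.1.1 * h.1.1 = a := congrArg Subtype.val e
    rw [← e', ← hg]
  obtain ⟨m, c, hc0, hcm, hci, hcs⟩ := exists_chain hS A H hHA (fun g => hInnA ⟨g, rfl⟩) hdec hcomm he ⊥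
    (fun a _ x hx => by
      rw [Subgroup.mem_bot] at hx ⊢
      rw [hx, map_one])
  refine ⟨m, fun i => (c i).map S.subtype, ?_, ?_, fun i hi => ?_, fun i hi => ?_⟩
  · show (c 0).map S.subtype = ⊥
    rw [hc0, Subgroup.map_bot]
  · show (c m).map S.subtype = S
    rw [hcm, ← MonoidHom.range_eq_map, Subgroup.range_subtype]
  · refine ⟨Subgroup.map_subtype_le _, fun R' hR' φ hφ x => ?_⟩
    obtain ⟨ψ, hψ, hext, -⟩ := hN.2 R' φ hφ
    have hR'S : R' ≤ S := hR'.trans (Subgroup.map_subtype_le _)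
    have hm := (Maps.of_mem hψ).restrict (le_sup_right : S ≤ R' ⊔ S)
    have hi' : img (fn ψ) S = S := img_eq_of_card hm le_rfl le_rfl (fun x hx => hm.mem hx) le_rfl
    have hα := hm.toAut_mem hi'
    obtain ⟨y, hy, hyx⟩ := hR' x.2
    have h1 := hci i hi _ hα y hy
    refine ⟨_, h1, ?_⟩
    have h2 := hm.afn_toAut hi' (x := x.1) (hR'S x.2)
    have h3 : afn (hm.toAut hi') (x : Ω) = ((hm.toAut hi' y : S) : Ω) := by
      rw [afn_of_mem _ (hR'S x.2)]
      congr 2
      exact Subtype.ext hyx.symm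
    show ((hm.toAut hi' y : S) : Ω) = φ x
    rw [← h3, h2, ← hext x]
    exact fn_coe ψ (Subgroup.inclusion le_sup_left x)
  · obtain ⟨h1, x, h2⟩ := hcs i hi
    refine ⟨Subgroup.map_mono h1, x.1, x.2, ?_⟩
    show (c (i + 1)).map S.subtype = (c i).map S.subtype ⊔ _
    rw [h2, Subgroup.map_sup, MonoidHom.map_zpowers]
    rfl

end FromSC

end Cfsg.Agent.Lib.FusionSuper
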