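import Mathlib
import Cfsg.Prelude.Def_Transfer
import Cfsg.Agent.Lib.FusionEssAb
import Cfsg.Agent.Lib.FusionEssP3
import Cfsg.Agent.Lib.FusionSuper
import Cfsg.Agent.Lib.PNormalEA

/-!
# Essential subgroups of order `p⁴`
-/

set_option autoImplicit false

namespace Cfsg.Agent.Lib.FusionEssP4

open Cfsg Cfsg.FusionSystem Cfsg.Agent.Lib Cfsg.Agent.Lib.FusionEssSmall
open scoped commutatorElement

section Abstract

variable {Q : Type*} [Group Q] [Finite Q] {p : ℕ} [hp : Fact p.Prime]

/-- A normal subgroup of order `p` of a `p`-group is central. -/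
theorem le_center_of_card_prime {N : Subgroup Q} [N.Normal] (hN : Nat.card N = p) (hQ : IsPGroup p Q) :
    N ≤ Subgroup.center Q := by
  have hpp : p.Prime := hp.out
  haveI : Fact (Nat.card N).Prime := ⟨by rw [hN]; exact hpp⟩
  haveI : IsCyclic N := isCyclic_of_prime_card rfl
  intro n hn
  rw [Subgroup.mem_center_iff]
  intro g
  obtain ⟨k, hk⟩ := hQ g
  let u : MulAut N := MulAut.conjNormal g
  have h1 : u ^ p ^ k = 1 := by
    show (MulAut.conjNormal g : MulAut N) ^ p ^ k = 1
    rw [← map_pow, hk, map_one]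
  have h2 : orderOf u ∣ p - 1 := by
    have := orderOf_dvd_natCard u
    rwa [IsCyclic.card_mulAut, hN, Nat.totient_prime hpp] at this
  have h3 : (p ^ k).Coprime (p - 1) := by
    apply Nat.Coprime.pow_left
    exact hpp.coprime_iff_not_dvd.2
      (Nat.not_dvd_of_pos_of_lt (by have := hpp.two_le; omega) (by have := hpp.two_le; omega))
  have h4 : orderOf u = 1 := Nat.eq_one_of_dvd_coprimes h3 (orderOf_dvd_of_pow_eq_one h1) h2
  have h5 : u = 1 := orderOf_eq_one_iff.1 h4
  have h6 : g * n * g⁻¹ = n := congrArg (fun a : MulAut N => ((a ⟨n, hn⟩ : N) : Q)) h5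
  calc g * n = g * n * g⁻¹ * g := by group
    _ = n * g := by rw [h6]

/-- The commutator homomorphism into a central subgroup. -/
def commH (W : Subgroup Q) (hWZ : W ≤ Subgroup.center Q) (y : Q) (hy : ∀ x : Q, x * y * x⁻¹ * y⁻¹ ∈ W) :
    Q →* W :=
  MonoidHom.mk' (fun x => ⟨x * y * x⁻¹ * y⁻¹, hy x⟩) (by
    intro a b
    apply Subtype.ext
    show (a * b) * y * (a * b)⁻¹ * y⁻¹ = (a * y * a⁻¹ * y⁻¹) * (b * y * b⁻¹ * y⁻¹)
    have hc := Subgroup.mem_center_iff.1 (hWZ (hy b))
    calc (a * b) * y * (a * b)⁻¹ * y⁻¹ = a * (b * y * b⁻¹ * y⁻¹) * y * a⁻¹ * y⁻¹ := by group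
      _ = (b * y * b⁻¹ * y⁻¹) * a * y * a⁻¹ * y⁻¹ := by rw [hc a]
      _ = (b * y * b⁻¹ * y⁻¹) * (a * y * a⁻¹ * y⁻¹) := by group
      _ = (a * y * a⁻¹ * y⁻¹) * (b * y * b⁻¹ * y⁻¹) := (hc _).symm)

lemma ker_commH (W : Subgroup Q) (hWZ : W ≤ Subgroup.center Q) (y : Q)
    (hy : ∀ x : Q, x * y * x⁻¹ * y⁻¹ ∈ W) :
    (commH W hWZ y hy).ker = Subgroup.centralizer ({y} : Set Q) := by
  ext x
  rw [MonoidHom.mem_ker, Subgroup.mem_centralizer_iff]
  constructor
  · intro h z hz
    rw [Set.mem_singleton_iff] at hz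
    subst hz
    have h1 : x * z * x⁻¹ * z⁻¹ = 1 := congrArg Subtype.val h
    have h2 : x * z = z * x := by
      calc x * z = (x * z * x⁻¹ * z⁻¹) * (z * x) := by group
        _ = z * x := by rw [h1, one_mul]
    exact h2.symm
  · intro h
    apply Subtype.ext
    show x * y * x⁻¹ * y⁻¹ = 1
    rw [← h y rfl]
    group

/-- The index of a centralizer in a group whose commutators of `y` lie in a central subgroup `W`
divides `|W|`. -/
lemma index_centralizer_dvd (W : Subgroup Q) (hWZ : W ≤ Subgroup.center Q) (y : Q)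
    (hy : ∀ x : Q, x * y * x⁻¹ * y⁻¹ ∈ W) :
    (Subgroup.centralizer ({y} : Set Q)).index ∣ Nat.card W := by
  rw [← ker_commH W hWZ y hy, Subgroup.index_ker]
  exact Subgroup.card_subgroup_dvd_card _

lemma card_mul_relIndex' {H K : Subgroup Q} (h : H ≤ K) : Nat.card H * H.relIndex K = Nat.card K := by
  rw [← Subgroup.relIndex_bot_left, ← Subgroup.relIndex_bot_left,
    Subgroup.relIndex_mul_relIndex _ _ _ bot_le h]

lemma card_lt_of_not_mem {H K : Subgroup Q} (h : H ≤ K) {x : Q} (hxK : x ∈ K) (hxH : x ∉ H) :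
    Nat.card H < Nat.card K := by
  by_contra hcon
  push Not at hcon
  have := Subgroup.eq_of_le_of_card_ge h hcon
  exact hxH (this ▸ hxK)

/-- Card comparison: a subgroup whose order exceeds `p ^ k` in a group of order `p ^ n` has order at least
`p ^ (k + 1)`. -/
lemma card_ge_of_lt {n k : ℕ} (hcard : Nat.card Q = p ^ n) {A : Subgroup Q} (h : p ^ k < Nat.card A) :
    p ^ (k + 1) ≤ Nat.card A := by
  have hpp : p.Prime := hp.out
  have hd : Nat.card A ∣ p ^ n := hcard ▸ Subgroup.card_subgroup_dvd_card A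
  obtain ⟨a, -, ha⟩ := (Nat.dvd_prime_pow hpp).1 hd
  rw [ha] at h ⊢
  have : k < a := (Nat.pow_lt_pow_iff_right hpp.one_lt).1 h
  exact Nat.pow_le_pow_right hpp.pos this

/-- The structure of a non-abelian group of order `p⁴` whose Frattini subgroup has order `p`. -/
theorem nonab_f1 (hcard : Nat.card Q = p ^ 4) (hΦ : Nat.card (frattini Q) = p)
    (hna : ¬ ∀ a b : Q, a * b = b * a) :
    frattini Q ≤ Subgroup.center Q ∧ commutator Q = frattini Q ∧ Nat.card (Subgroup.center Q) = p ^ 2 := by
  classical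
  have hpp : p.Prime := hp.out
  have hQ : IsPGroup p Q := IsPGroup.of_card hcard
  have hΦZ : frattini Q ≤ Subgroup.center Q := le_center_of_card_prime hΦ hQ
  have hcom : commutator Q ≤ frattini Q := Frat.commutator_le_frattini hQ
  have hcne : commutator Q ≠ ⊥ := by
    intro h
    apply hna
    intro a b
    have h1 : ⁅a, b⁆ ∈ commutator Q := by
      rw [commutator_def]
      exact Subgroup.commutator_mem_commutator (Subgroup.mem_top a) (Subgroup.mem_top b)
    rw [h, Subgroup.mem_bot, commutatorElement_eq_one_iff_mul_comm] at h1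
    exact h1
  have hcomeq : commutator Q = frattini Q := by
    apply Subgroup.eq_of_le_of_card_ge hcom
    have hd : Nat.card (commutator Q) ∣ Nat.card (frattini Q) := Subgroup.card_dvd_of_le hcom
    rw [hΦ] at hd ⊢
    rcases (Nat.dvd_prime hpp).1 hd with h | h
    · exact absurd ((Subgroup.card_eq_one).1 h) hcne
    · exact h.ge
  refine ⟨hΦZ, hcomeq, ?_⟩
  have hy : ∀ y x : Q, x * y * x⁻¹ * y⁻¹ ∈ frattini Q := by
    intro y x
    apply hcom
    rw [commutator_def]
    exact Subgroup.commutator_mem_commutator (Subgroup.mem_top x) (Subgroup.mem_top y)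
  have hidx : ∀ y : Q, (Subgroup.centralizer ({y} : Set Q)).index ∣ p := by
    intro y
    have := index_centralizer_dvd (frattini Q) hΦZ y (hy y)
    rwa [hΦ] at this
  have hcent : ∀ y : Q, p ^ 3 ≤ Nat.card (Subgroup.centralizer ({y} : Set Q)) := by
    intro y
    have h1 := Subgroup.card_mul_index (Subgroup.centralizer ({y} : Set Q))
    rw [hcard] at h1
    rcases (Nat.dvd_prime hpp).1 (hidx y) with h | h
    · rw [h, mul_one] at h1
      rw [h1]
      exact Nat.pow_le_pow_right hpp.pos (by norm_num)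
    · rw [h] at h1
      have : p ^ 4 = p ^ 3 * p := by ring
      rw [this] at h1
      exact (Nat.eq_of_mul_eq_mul_right hpp.pos h1).ge
  -- upper bound on the centre
  have hnocyc : ¬ IsCyclic (Q ⧸ Subgroup.center Q) := by
    intro hcy
    apply hna
    have := MonoidHom.isMulCommutative_of_isCyclic_of_ker_le_center (QuotientGroup.mk' (Subgroup.center Q)) (by
      rw [QuotientGroup.ker_mk'])
    exact this.is_comm.comm
  have hZle : Nat.card (Subgroup.center Q) ≤ p ^ 2 := by
    by_contra hlt
    push Not at hlt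
    have h3 := card_ge_of_lt hcard hlt
    apply hnocyc
    have h1 := Subgroup.card_eq_card_quotient_mul_card_subgroup (Subgroup.center Q)
    rw [hcard] at h1
    have hd : Nat.card (Q ⧸ Subgroup.center Q) ∣ p ^ 4 := ⟨_, h1⟩
    obtain ⟨j, hj4, hj⟩ := (Nat.dvd_prime_pow hpp).1 hd
    have hjle : j ≤ 1 := by
      by_contra hj2
      have h4 : p ^ 2 ≤ p ^ j := Nat.pow_le_pow_right hpp.pos (by omega)
      have h5 : p ^ 2 * p ^ 3 ≤ p ^ 4 := by
        rw [h1, hj]
        exact Nat.mul_le_mul h4 h3
      have h6 : p ^ 4 < p ^ 2 * p ^ 3 := by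
        rw [← pow_add]
        exact Nat.pow_lt_pow_right hpp.one_lt (by norm_num)
      omega
    interval_cases j
    · have h1' : Nat.card (Q ⧸ Subgroup.center Q) = 1 := by simpa using hj
      haveI : Subsingleton (Q ⧸ Subgroup.center Q) := (Nat.card_eq_one_iff_unique.1 h1').1
      infer_instance
    · haveI : Fact (Nat.card (Q ⧸ Subgroup.center Q)).Prime := ⟨by rw [hj]; simpa using hpp⟩
      exact isCyclic_of_prime_card rfl
  apply le_antisymm hZle
  -- an abelian subgroup of order `p³`
  obtain ⟨x, hx⟩ : ∃ x, x ∉ Subgroup.center Q := by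
    by_contra hcon
    push Not at hcon
    apply hna
    intro a b
    exact (Subgroup.mem_center_iff.1 (hcon b) a)
  let B : Subgroup Q := frattini Q ⊔ Subgroup.zpowers x
  have hBle : Nat.card B ≤ p ^ 2 := by
    have h1 := Frat.relIndex_sup_zpowers_dvd hQ (le_refl (frattini Q)) x
    have h2 : Nat.card (frattini Q) * (frattini Q).relIndex B = Nat.card B :=
      card_mul_relIndex' (le_sup_left : frattini Q ≤ B)
    rw [hΦ] at h2
    rw [← h2, pow_two]
    exact Nat.mul_le_mul_left p (Nat.le_of_dvd hpp.pos h1)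
  have hBC : B ≤ Subgroup.centralizer ({x} : Set Q) := by
    refine sup_le ?_ ?_
    · intro z hz
      rw [Subgroup.mem_centralizer_iff]
      rintro _ rfl
      exact Subgroup.mem_center_iff.1 (hΦZ hz) _
    · rw [Subgroup.zpowers_le, Subgroup.mem_centralizer_iff]
      rintro _ rfl
      rfl
  obtain ⟨x₂, hx₂C, hx₂B⟩ : ∃ x₂ ∈ Subgroup.centralizer ({x} : Set Q), x₂ ∉ B := by
    by_contra hcon
    push Not at hcon
    have h1 : Nat.card (Subgroup.centralizer ({x} : Set Q)) ≤ Nat.card B := Subgroup.card_le_of_le hcon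
    have h2 := hcent x
    have h3 : p ^ 2 < p ^ 3 := Nat.pow_lt_pow_right hpp.one_lt (by norm_num)
    omega
  let Sset : Set Q := {x, x₂} ∪ (frattini Q : Set Q)
  have hSc : ∀ a ∈ Sset, ∀ b ∈ Sset, a * b = b * a := by
    have hx2 : x₂ * x = x * x₂ := (Subgroup.mem_centralizer_iff.1 hx₂C x rfl).symm
    have hZ : ∀ z ∈ frattini Q, ∀ g : Q, g * z = z * g := fun z hz g => Subgroup.mem_center_iff.1 (hΦZ hz) g
    rintro a (ha | ha) b (hb | hb)
    · rcases ha with rfl | rfl <;> rcases hb with rfl | rfl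
      · rfl
      · exact hx2.symm
      · exact hx2
      · rfl
    · exact hZ b hb a
    · exact (hZ a ha b).symm
    · exact hZ b hb a
  let A : Subgroup Q := Subgroup.closure Sset
  have hAab : ∀ a ∈ A, ∀ b ∈ A, a * b = b * a := by
    intro a ha b hb
    have := Subgroup.isMulCommutative_closure hSc
    exact congrArg Subtype.val (this.is_comm.comm ⟨a, ha⟩ ⟨b, hb⟩)
  have hΦA : frattini Q ≤ A := fun z hz => Subgroup.subset_closure (Or.inr hz)
  have hxA : x ∈ A := Subgroup.subset_closure (Or.inl (Set.mem_insert _ _))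
  have hx₂A : x₂ ∈ A := Subgroup.subset_closure (Or.inl (Set.mem_insert_of_mem _ rfl))
  have hBA : B ≤ A := sup_le hΦA (by rwa [Subgroup.zpowers_le])
  have hxB : x ∈ B := Subgroup.mem_sup_right (Subgroup.mem_zpowers x)
  have hB1 : p ^ 1 < Nat.card B := by
    rw [pow_one, ← hΦ]
    exact card_lt_of_not_mem le_sup_left hxB (fun h => hx (hΦZ h))
  have hB2 := card_ge_of_lt hcard hB1
  have hA1 : p ^ 2 < Nat.card A := lt_of_le_of_lt hB2 (card_lt_of_not_mem hBA hx₂A hx₂B)
  have hA2 := card_ge_of_lt hcard hA1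
  obtain ⟨y, hy'⟩ : ∃ y, y ∉ A := by
    by_contra hcon
    push Not at hcon
    apply hna
    intro a b
    exact hAab a (hcon a) b (hcon b)
  let K : Subgroup Q := A ⊓ Subgroup.centralizer ({y} : Set Q)
  haveI hCn : (Subgroup.centralizer ({y} : Set Q)).Normal := by
    apply Frat.normal_of_commutator_le
    intro z hz
    rw [Subgroup.mem_centralizer_iff]
    rintro _ rfl
    exact Subgroup.mem_center_iff.1 (hΦZ (hcom hz)) _
  have hKcard : p ^ 2 ≤ Nat.card K := by
    have h1 : Nat.card K * K.relIndex A = Nat.card A := card_mul_relIndex' inf_le_left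
    have h2 : K.relIndex A = (Subgroup.centralizer ({y} : Set Q)).relIndex A := Subgroup.inf_relIndex_left _ _
    have h3 : K.relIndex A ∣ p := by
      rw [h2]
      exact (Subgroup.relIndex_dvd_index_of_normal _ _).trans (hidx y)
    have h4 : K.relIndex A ≤ p := Nat.le_of_dvd hpp.pos h3
    have h5 : p ^ 3 ≤ Nat.card K * p := by
      calc p ^ 3 ≤ Nat.card A := hA2
        _ = Nat.card K * K.relIndex A := h1.symm
        _ ≤ Nat.card K * p := Nat.mul_le_mul_left _ h4
    have h6 : p ^ 3 = p ^ 2 * p := by ring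
    rw [h6] at h5
    exact Nat.le_of_mul_le_mul_right h5 hpp.pos
  have hKZ : K ≤ Subgroup.center Q := by
    rintro k ⟨hkA, hky⟩
    have hC : A ≤ Subgroup.centralizer ({k} : Set Q) := by
      intro a ha
      rw [Subgroup.mem_centralizer_iff]
      rintro _ rfl
      exact hAab _ hkA _ ha
    have hyC : y ∈ Subgroup.centralizer ({k} : Set Q) := by
      rw [Subgroup.mem_centralizer_iff]
      rintro _ rfl
      exact (Subgroup.mem_centralizer_iff.1 hky y rfl).symm
    have h1 : p ^ 3 < Nat.card (Subgroup.centralizer ({k} : Set Q)) :=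
      lt_of_le_of_lt hA2 (card_lt_of_not_mem hC hyC hy')
    have h2 := card_ge_of_lt hcard h1
    have h3 : Subgroup.centralizer ({k} : Set Q) = ⊤ := by
      apply Subgroup.eq_top_of_le_card
      rw [hcard]
      exact h2
    rw [Subgroup.mem_center_iff]
    intro g
    have h4 : g ∈ Subgroup.centralizer ({k} : Set Q) := by rw [h3]; trivial
    exact (Subgroup.mem_centralizer_iff.1 h4 k rfl).symm
  exact hKcard.trans (Subgroup.card_le_of_le hKZ)

/-- The commutator subgroup is invariant under automorphisms. -/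
lemma commutator_inv (α : MulAut Q) (x : Q) (hx : x ∈ commutator Q) : α x ∈ commutator Q := by
  have h := (inferInstance : (commutator Q).Characteristic).fixed (α : Q ≃* Q)
  have h2 : x ∈ (commutator Q).comap (α : Q ≃* Q).toMonoidHom := by rw [h]; exact hx
  exact h2

/-- If the order of `Φ` is `p²` and that of the commutator subgroup is `p`, then there is a characteristic
maximal subgroup. -/
theorem exists_L_of_comm (hcard : Nat.card Q = p ^ 4) (hΦ : Nat.card (frattini Q) = p ^ 2)
    (hQ' : Nat.card (commutator Q) = p) :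
    ∃ L : Subgroup Q, (∀ (α : MulAut Q) (x : Q), x ∈ L → α x ∈ L) ∧ frattini Q ≤ L ∧ L.index = p := by
  classical
  have hpp : p.Prime := hp.out
  have hQ : IsPGroup p Q := IsPGroup.of_card hcard
  have hcom : commutator Q ≤ frattini Q := Frat.commutator_le_frattini hQ
  let of' : Q →* Abelianization Q := Abelianization.of
  let g : Q →* Abelianization Q := (powMonoidHom p).comp of'
  have hofker : of'.ker = commutator Q := Abelianization.ker_of Q
  have hLmem : ∀ x : Q, x ∈ g.ker ↔ x ^ p ∈ commutator Q := by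
    intro x
    rw [MonoidHom.mem_ker, ← hofker, MonoidHom.mem_ker, map_pow]
    rfl
  have hrel : (commutator Q).relIndex (frattini Q) = p := by
    have h1 := card_mul_relIndex' hcom
    rw [hQ', hΦ, pow_two] at h1
    exact Nat.eq_of_mul_eq_mul_left hpp.pos h1
  refine ⟨g.ker, fun α x hx => ?_, fun u hu => ?_, ?_⟩
  · rw [hLmem] at hx ⊢
    rw [← map_pow]
    exact commutator_inv α _ hx
  · rw [hLmem]
    have hn : ((commutator Q).subgroupOf (frattini Q)).Normal := inferInstance
    have h1 := Subgroup.pow_index_mem ((commutator Q).subgroupOf (frattini Q)) (⟨u, hu⟩ : frattini Q)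
    have h2 : ((commutator Q).subgroupOf (frattini Q)).index = p := hrel
    rw [h2] at h1
    exact Subgroup.mem_subgroupOf.1 h1
  · rw [Subgroup.index_ker]
    have hr : g.range ≤ (frattini Q).map of' := by
      rintro _ ⟨x, rfl⟩
      exact ⟨x ^ p, Frat.pow_mem_frattini hQ x, map_pow of' x p⟩
    have hc : Nat.card ((frattini Q).map of') = p := by
      rw [← Subgroup.relIndex_ker, hofker, hrel]
    have hd : Nat.card g.range ∣ p := hc ▸ Subgroup.card_dvd_of_le hr
    rcases (Nat.dvd_prime hpp).1 hd with h | h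
    · exfalso
      have h1 : g.range = ⊥ := (Subgroup.card_eq_one).1 h
      have h2 : ∀ x : Q, x ^ p ∈ commutator Q := by
        intro x
        rw [← hLmem, MonoidHom.mem_ker]
        have : g x ∈ g.range := ⟨x, rfl⟩
        rw [h1, Subgroup.mem_bot] at this
        exact this
      have h3 := Frat.frattini_le_of_commutator_pow (commutator Q) le_rfl h2
      have h4 := Subgroup.card_le_of_le h3
      rw [hΦ, hQ'] at h4
      have h5 : p < p ^ 2 := by
        rw [pow_two]
        nlinarith [hpp.two_le]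
      omega
    · exact h

/-- A group of order `p⁴`, with `Φ` central of order `p²`, has commutator subgroup of order `p`. -/
theorem card_comm_of_central (hcard : Nat.card Q = p ^ 4) (hΦ : Nat.card (frattini Q) = p ^ 2)
    (hna : ¬ ∀ a b : Q, a * b = b * a) (hΦZ : frattini Q ≤ Subgroup.center Q) :
    Nat.card (commutator Q) = p := by
  classical
  have hpp : p.Prime := hp.out
  have hQ : IsPGroup p Q := IsPGroup.of_card hcard
  have hcom : commutator Q ≤ frattini Q := Frat.commutator_le_frattini hQ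
  have hy : ∀ y x : Q, x * y * x⁻¹ * y⁻¹ ∈ frattini Q := by
    intro y x
    apply hcom
    rw [commutator_def]
    exact Subgroup.commutator_mem_commutator (Subgroup.mem_top x) (Subgroup.mem_top y)
  -- the images of the commutator maps
  let Ky : Q → Subgroup Q := fun y => (commH (frattini Q) hΦZ y (hy y)).range.map (frattini Q).subtype
  have hKy : ∀ y x : Q, x * y * x⁻¹ * y⁻¹ ∈ Ky y := fun y x => ⟨_, ⟨x, rfl⟩, rfl⟩
  have hKyle : ∀ y, Ky y ≤ frattini Q := fun y => Subgroup.map_subtype_le _
  have hKycard : ∀ y, Nat.card (Ky y) = (Subgroup.centralizer ({y} : Set Q)).index := by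
    intro y
    rw [← ker_commH (frattini Q) hΦZ y (hy y), Subgroup.index_ker]
    exact Nat.card_congr ((commH (frattini Q) hΦZ y (hy y)).range.equivMapOfInjective (frattini Q).subtype
      (frattini Q).subtype_injective).toEquiv.symm
  -- elements outside `Φ`
  have hcent : ∀ y, y ∉ frattini Q → y ∉ Subgroup.center Q →
      Subgroup.centralizer ({y} : Set Q) = frattini Q ⊔ Subgroup.zpowers y ∧
      Nat.card (frattini Q ⊔ Subgroup.zpowers y : Subgroup Q) = p ^ 3 ∧ Nat.card (Ky y) = p := by
    intro y hyΦ hyZ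
    set A : Subgroup Q := frattini Q ⊔ Subgroup.zpowers y with hA
    have hyA : y ∈ A := Subgroup.mem_sup_right (Subgroup.mem_zpowers y)
    have h1 := Frat.relIndex_sup_zpowers_dvd hQ (le_refl (frattini Q)) y
    have h2 : Nat.card (frattini Q) * (frattini Q).relIndex A = Nat.card A := card_mul_relIndex' le_sup_left
    have h3 : (frattini Q).relIndex A = p := by
      rcases (Nat.dvd_prime hpp).1 h1 with h | h
      · exfalso
        rw [← hA] at h
        rw [h, mul_one] at h2
        have := Subgroup.eq_of_le_of_card_ge (le_sup_left : frattini Q ≤ A) h2.ge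
        exact hyΦ (this ▸ hyA)
      · exact h
    have h4 : Nat.card A = p ^ 3 := by
      rw [← h2, hΦ, h3]
      ring
    have hAC : A ≤ Subgroup.centralizer ({y} : Set Q) := by
      refine sup_le ?_ ?_
      · intro z hz
        rw [Subgroup.mem_centralizer_iff]
        rintro _ rfl
        exact Subgroup.mem_center_iff.1 (hΦZ hz) _
      · rw [Subgroup.zpowers_le, Subgroup.mem_centralizer_iff]
        rintro _ rfl
        rfl
    have hCne : Subgroup.centralizer ({y} : Set Q) ≠ ⊤ := by
      intro h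
      apply hyZ
      rw [Subgroup.mem_center_iff]
      intro g
      have : g ∈ Subgroup.centralizer ({y} : Set Q) := by rw [h]; trivial
      exact (Subgroup.mem_centralizer_iff.1 this y rfl).symm
    have hCle : Nat.card (Subgroup.centralizer ({y} : Set Q)) ≤ p ^ 3 := by
      by_contra hlt
      push Not at hlt
      apply hCne
      apply Subgroup.eq_top_of_le_card
      rw [hcard]
      exact card_ge_of_lt hcard hlt
    have hCA : Subgroup.centralizer ({y} : Set Q) = A :=
      (Subgroup.eq_of_le_of_card_ge hAC (by rw [h4]; exact hCle)).symm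
    refine ⟨hCA, h4, ?_⟩
    rw [hKycard, hCA]
    have h5 := Subgroup.card_mul_index A
    rw [h4, hcard] at h5
    have h6 : p ^ 4 = p ^ 3 * p := by ring
    rw [h6] at h5
    exact Nat.eq_of_mul_eq_mul_left (pow_pos hpp.pos 3) h5
  obtain ⟨a, haZ⟩ : ∃ a, a ∉ Subgroup.center Q := by
    by_contra hcon
    push Not at hcon
    apply hna
    intro a b
    exact (Subgroup.mem_center_iff.1 (hcon b) a)
  have haΦ : a ∉ frattini Q := fun h => haZ (hΦZ h)
  obtain ⟨hCa, hAa, hKa⟩ := hcent a haΦ haZ
  obtain ⟨b, hbA⟩ : ∃ b, b ∉ frattini Q ⊔ Subgroup.zpowers a := by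
    by_contra hcon
    push Not at hcon
    have h1 : (frattini Q ⊔ Subgroup.zpowers a : Subgroup Q) = ⊤ := by
      rw [eq_top_iff]
      intro x _
      exact hcon x
    rw [h1, Subgroup.card_top, hcard] at hAa
    have := Nat.pow_right_injective hpp.two_le hAa
    omega
  have hbΦ : b ∉ frattini Q := fun h => hbA (Subgroup.mem_sup_left h)
  have hbZ : b ∉ Subgroup.center Q := by
    intro h
    apply hbA
    rw [← hCa, Subgroup.mem_centralizer_iff]
    rintro _ rfl
    exact Subgroup.mem_center_iff.1 h _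
  obtain ⟨hCb, hAb, hKb⟩ := hcent b hbΦ hbZ
  set c := a * b * a⁻¹ * b⁻¹ with hc
  have hc1 : c ≠ 1 := by
    intro h1
    apply hbA
    rw [← hCa, Subgroup.mem_centralizer_iff]
    intro w hw
    have hwa : w = a := hw
    rw [hwa]
    calc a * b = c * (b * a) := by rw [hc]; group
      _ = b * a := by rw [h1, one_mul]
  have hcb : c ∈ Ky b := hKy b a
  have hca : c ∈ Ky a := by
    have h1 : c = (b * a * b⁻¹ * a⁻¹)⁻¹ := by rw [hc]; group
    rw [h1]
    exact (Ky a).inv_mem (hKy a b)
  have hzp : ∀ K : Subgroup Q, Nat.card K = p → c ∈ K → K = Subgroup.zpowers c := by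
    intro K hK hcK
    have hle : Subgroup.zpowers c ≤ K := by rwa [Subgroup.zpowers_le]
    apply (Subgroup.eq_of_le_of_card_ge hle _).symm
    have hd : Nat.card (Subgroup.zpowers c) ∣ p := hK ▸ Subgroup.card_dvd_of_le hle
    rw [hK]
    rcases (Nat.dvd_prime hpp).1 hd with h | h
    · exfalso
      rw [Nat.card_zpowers] at h
      exact hc1 (orderOf_eq_one_iff.1 h)
    · exact h.ge
  have hKaeq := hzp _ hKa hca
  have hKbeq := hzp _ hKb hcb
  let K : Subgroup Q := Subgroup.zpowers c
  have hKcard : Nat.card K = p := by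
    show Nat.card (Subgroup.zpowers c) = p
    rw [← hKaeq]
    exact hKa
  have hKΦ : K ≤ frattini Q := by
    show Subgroup.zpowers c ≤ _
    rw [← hKaeq]
    exact hKyle a
  haveI hKn : K.Normal := by
    constructor
    intro n hn g
    have h1 := Subgroup.mem_center_iff.1 (hΦZ (hKΦ hn)) g
    rw [h1, mul_inv_cancel_right]
    exact hn
  let C' : Subgroup Q := (Subgroup.center (Q ⧸ K)).comap (QuotientGroup.mk' K)
  have hC'mem : ∀ y, (∀ g : Q, g * y * g⁻¹ * y⁻¹ ∈ K) → y ∈ C' := by
    intro y hy'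
    show (QuotientGroup.mk' K y) ∈ Subgroup.center (Q ⧸ K)
    rw [Subgroup.mem_center_iff]
    intro g
    obtain ⟨g, rfl⟩ := QuotientGroup.mk'_surjective K g
    rw [← map_mul, ← map_mul]
    apply QuotientGroup.eq.2
    have h1 : (g * y)⁻¹ * (y * g) = (g * y)⁻¹ * (g * y * g⁻¹ * y⁻¹)⁻¹ * (g * y) := by group
    rw [h1]
    exact hKn.conj_mem' _ (K.inv_mem (hy' g)) _
  have haC' : a ∈ C' := hC'mem a (fun g => by
    have := hKy a g
    rwa [show Ky a = K from hKaeq] at this)
  have hbC' : b ∈ C' := hC'mem b (fun g => by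
    have := hKy b g
    rwa [show Ky b = K from hKbeq] at this)
  have hΦC' : frattini Q ≤ C' := by
    intro z hz
    apply hC'mem
    intro g
    rw [Subgroup.mem_center_iff.1 (hΦZ hz) g]
    simp [K.one_mem]
  have hAC' : (frattini Q ⊔ Subgroup.zpowers a : Subgroup Q) ≤ C' :=
    sup_le hΦC' (by rwa [Subgroup.zpowers_le])
  have hC'top : C' = ⊤ := by
    apply Subgroup.eq_top_of_le_card
    rw [hcard]
    have h1 : p ^ 3 < Nat.card C' := by
      rw [← hAa]
      exact card_lt_of_not_mem hAC' hbC' hbA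
    exact card_ge_of_lt hcard h1
  have hcomK : commutator Q ≤ K := by
    rw [commutator_def, Subgroup.commutator_le]
    intro g _ y _
    have h1 : y ∈ C' := by rw [hC'top]; trivial
    have h2 : QuotientGroup.mk' K y ∈ Subgroup.center (Q ⧸ K) := h1
    have h3 := Subgroup.mem_center_iff.1 h2 (QuotientGroup.mk' K g)
    rw [← map_mul, ← map_mul] at h3
    have h4 := QuotientGroup.eq.1 h3
    rw [commutatorElement_def]
    have h5 : g * y * g⁻¹ * y⁻¹ = (g * y) * ((y * g)⁻¹ * (g * y))⁻¹ ⁻¹ * (g * y)⁻¹ := by group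
    have h6 : (g * y)⁻¹ * (y * g) = ((y * g)⁻¹ * (g * y))⁻¹ := by group
    have h7 := hKn.conj_mem _ h4 (g * y)
    have h8 : g * y * ((g * y)⁻¹ * (y * g)) * (g * y)⁻¹ = y * g * (g * y)⁻¹ := by group
    rw [h8] at h7
    have h9 : g * y * g⁻¹ * y⁻¹ = (y * g * (g * y)⁻¹)⁻¹ := by group
    rw [h9]
    exact K.inv_mem h7
  have hcne : commutator Q ≠ ⊥ := by
    intro h
    apply hna
    intro a b
    have h1 : ⁅a, b⁆ ∈ commutator Q := by
      rw [commutator_def]
      exact Subgroup.commutator_mem_commutator (Subgroup.mem_top a) (Subgroup.mem_top b)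
    rw [h, Subgroup.mem_bot, commutatorElement_eq_one_iff_mul_comm] at h1
    exact h1
  have hd : Nat.card (commutator Q) ∣ p := hKcard ▸ Subgroup.card_dvd_of_le hcomK
  rcases (Nat.dvd_prime hpp).1 hd with h | h
  · exact absurd ((Subgroup.card_eq_one).1 h) hcne
  · exact h

/-- `d(Q) = 2`, non-abelian: a characteristic maximal subgroup. -/
theorem exists_L (hcard : Nat.card Q = p ^ 4) (hΦ : Nat.card (frattini Q) = p ^ 2)
    (hna : ¬ ∀ a b : Q, a * b = b * a) :
    ∃ L : Subgroup Q, (∀ (α : MulAut Q) (x : Q), x ∈ L → α x ∈ L) ∧ frattini Q ≤ L ∧ L.index = p := by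
  classical
  have hpp : p.Prime := hp.out
  have hQ : IsPGroup p Q := IsPGroup.of_card hcard
  by_cases hΦZ : frattini Q ≤ Subgroup.center Q
  · exact exists_L_of_comm hcard hΦ (card_comm_of_central hcard hΦ hna hΦZ)
  · have hab : ∀ a b : frattini Q, a * b = b * a := (IsPGroup.isMulCommutative_of_card_eq_prime_sq hΦ).is_comm.comm
    let L : Subgroup Q := Subgroup.centralizer (frattini Q : Set Q)
    have hΦL : frattini Q ≤ L := by
      intro z hz
      rw [Subgroup.mem_centralizer_iff]
      intro w hw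
      exact congrArg Subtype.val (hab ⟨w, hw⟩ ⟨z, hz⟩)
    refine ⟨L, fun α x hx => ?_, hΦL, ?_⟩
    · rw [Subgroup.mem_centralizer_iff] at hx ⊢
      intro w hw
      have h1 := hx _ (frattini_inv α⁻¹ w hw)
      have h2 := congrArg α h1
      rw [map_mul, map_mul] at h2
      have h3 : α (α⁻¹ w) = w := by
        rw [← MulAut.mul_apply, mul_inv_cancel]
        rfl
      rwa [h3] at h2
    · -- a central element of `Φ`
      obtain ⟨z, hzΦ, hz1, hzc⟩ := PNormalEA.exists_central_mod hQ ⊥ (frattini Q) (fun h => hΦZ (h.trans bot_le))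
      have hzZ : z ∈ Subgroup.center Q := by
        rw [Subgroup.mem_center_iff]
        intro g
        have h1 := Subgroup.mem_bot.1 (hzc g)
        calc g * z = (g * z * g⁻¹ * z⁻¹) * (z * g) := by group
          _ = z * g := by rw [h1, one_mul]
      let U : Subgroup Q := frattini Q ⊓ Subgroup.center Q
      haveI hUn : U.Normal := inferInstance
      obtain ⟨c, hcΦ, hcU, hc⟩ := PNormalEA.exists_central_mod hQ U (frattini Q) (fun h => hΦZ (h.trans inf_le_right))
      have hUcard : Nat.card U = p := by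
        have hd : Nat.card U ∣ p ^ 2 := hΦ ▸ Subgroup.card_dvd_of_le inf_le_left
        obtain ⟨k, hk2, hk⟩ := (Nat.dvd_prime_pow hpp).1 hd
        have hk0 : k ≠ 0 := by
          rintro rfl
          have h1 : U = ⊥ := (Subgroup.card_eq_one).1 (by simpa using hk)
          have h2 : z ∈ U := ⟨hzΦ, hzZ⟩
          rw [h1] at h2
          exact hz1 h2
        have hk2' : k ≠ 2 := by
          rintro rfl
          have h1 := Subgroup.eq_of_le_of_card_ge (inf_le_left : U ≤ frattini Q) (by rw [hk, hΦ])
          exact hΦZ (h1 ▸ inf_le_right)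
        have hk1 : k = 1 := by omega
        rw [hk, hk1, pow_one]
      have hidx : (Subgroup.centralizer ({c} : Set Q)).index ∣ p := by
        have := index_centralizer_dvd U inf_le_right c hc
        rwa [hUcard] at this
      have hUc : (U ⊔ Subgroup.zpowers c : Subgroup Q) = frattini Q := by
        apply Subgroup.eq_of_le_of_card_ge (sup_le inf_le_left (by rwa [Subgroup.zpowers_le]))
        have h1 : p ^ 1 < Nat.card (U ⊔ Subgroup.zpowers c : Subgroup Q) := by
          rw [pow_one, ← hUcard]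
          exact card_lt_of_not_mem le_sup_left (Subgroup.mem_sup_right (Subgroup.mem_zpowers c)) hcU
        rw [hΦ]
        exact card_ge_of_lt hcard h1
      have hLc : L = Subgroup.centralizer ({c} : Set Q) := by
        apply le_antisymm
        · intro g hg
          rw [Subgroup.mem_centralizer_iff] at hg ⊢
          rintro _ rfl
          exact hg _ hcΦ
        · intro g hg
          rw [Subgroup.mem_centralizer_iff]
          intro w hw
          have hcg : frattini Q ≤ Subgroup.centralizer ({g} : Set Q) := by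
            rw [← hUc]
            refine sup_le ?_ ?_
            · intro u hu
              rw [Subgroup.mem_centralizer_iff]
              rintro _ rfl
              exact Subgroup.mem_center_iff.1 hu.2 _
            · rw [Subgroup.zpowers_le, Subgroup.mem_centralizer_iff]
              rintro _ rfl
              exact (Subgroup.mem_centralizer_iff.1 hg c rfl).symm
          exact (Subgroup.mem_centralizer_iff.1 (hcg hw) g rfl).symm
      rw [hLc]
      rcases (Nat.dvd_prime hpp).1 hidx with h | h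
      · exfalso
        rw [Subgroup.index_eq_one] at h
        apply hΦZ
        intro u hu
        rw [Subgroup.mem_center_iff]
        intro g
        have hg : g ∈ L := by rw [hLc, h]; trivial
        exact (Subgroup.mem_centralizer_iff.1 hg u hu).symm
      · exact h

lemma eq_one_of_mem_zpowers {H : Subgroup Q} {g w : Q} (hg : g ^ p = 1) (hgH : g ∉ H)
    (hw : w ∈ Subgroup.zpowers g) (hwH : w ∈ H) : w = 1 := by
  by_contra hw1
  have hpp : p.Prime := hp.out
  have hg1 : g ≠ 1 := by
    rintro rfl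
    exact hgH H.one_mem
  have ho : orderOf g = p := orderOf_eq_prime hg hg1
  have hle : Subgroup.zpowers w ≤ Subgroup.zpowers g := by rwa [Subgroup.zpowers_le]
  have hcard : Nat.card (Subgroup.zpowers g) = p := by rw [Nat.card_zpowers, ho]
  have hd : Nat.card (Subgroup.zpowers w) ∣ p := hcard ▸ Subgroup.card_dvd_of_le hle
  have h : Nat.card (Subgroup.zpowers w) = p := by
    rcases (Nat.dvd_prime hpp).1 hd with h | h
    · rw [Nat.card_zpowers] at h
      exact absurd (orderOf_eq_one_iff.1 h) hw1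
    · exact h
  have heq := Subgroup.eq_of_le_of_card_ge hle (by rw [h, hcard])
  apply hgH
  have h2 : g ∈ Subgroup.zpowers w := heq ▸ Subgroup.mem_zpowers g
  exact (Subgroup.zpowers_le.2 hwH) h2

end Abstract

section Ab

variable {Q : Type*} [CommGroup Q] [Finite Q] {p : ℕ} [hp : Fact p.Prime]

/-- The abelian groups of order `p⁴` with Frattini subgroup of order `p`. -/
theorem abelian_211' (hcard : Nat.card Q = p ^ 4) (hΦ : Nat.card (frattini Q) = p) :
    Nonempty (Q ≃* Multiplicative (ZMod (p ^ 2) × ZMod p × ZMod p)) := by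
  classical
  have hpp : p.Prime := hp.out
  haveI : NeZero p := ⟨hpp.ne_zero⟩
  have hQ : IsPGroup p Q := IsPGroup.of_card hcard
  let P : Q →* Q := powMonoidHom p
  have hcomP : commutator Q ≤ P.range := by
    rw [commutator_def, Subgroup.commutator_le]
    intro g _ h _
    rw [commutatorElement_eq_one_iff_mul_comm.2 (mul_comm g h)]
    exact one_mem _
  have hrange : P.range = frattini Q := by
    apply le_antisymm
    · rintro _ ⟨x, rfl⟩
      exact Frat.pow_mem_frattini hQ x
    · exact Frat.frattini_le_of_commutator_pow _ hcomP (fun x => ⟨x, rfl⟩)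
  obtain ⟨a, ha⟩ : ∃ a : Q, a ^ p ≠ 1 := by
    by_contra hcon
    push Not at hcon
    have h1 : frattini Q = ⊥ := by
      rw [← hrange, eq_bot_iff]
      rintro _ ⟨x, rfl⟩
      exact hcon x
    rw [h1, Subgroup.card_bot] at hΦ
    exact hpp.one_lt.ne hΦ
  have hzΦ : a ^ p ∈ frattini Q := Frat.pow_mem_frattini hQ a
  have hΦp : ∀ u ∈ frattini Q, u ^ p = 1 := by
    intro u hu
    have h1 : (⟨u, hu⟩ : frattini Q) ^ p = 1 := by
      rw [← hΦ]
      exact pow_card_eq_one'
    exact congrArg Subtype.val h1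
  have happ : a ^ p ^ 2 = 1 := by
    rw [pow_two, pow_mul]
    exact hΦp _ hzΦ
  have hoa : orderOf a = p ^ 2 := orderOf_eq_prime_pow (n := 1) (by simpa using ha) happ
  have hΦeq : frattini Q = Subgroup.zpowers (a ^ p) := by
    have hle : Subgroup.zpowers (a ^ p) ≤ frattini Q := by rwa [Subgroup.zpowers_le]
    apply (Subgroup.eq_of_le_of_card_ge hle _).symm
    rw [hΦ, Nat.card_zpowers, orderOf_eq_prime (hΦp _ hzΦ) ha]
  let L : Subgroup Q := P.ker
  have hLmem : ∀ x, x ∈ L ↔ x ^ p = 1 := fun x => MonoidHom.mem_ker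
  have hLcard : Nat.card L = p ^ 3 := by
    have h1 := Subgroup.card_mul_index L
    have h2 : L.index = p := by
      show P.ker.index = p
      rw [Subgroup.index_ker, hrange, hΦ]
    rw [h2, hcard] at h1
    have h3 : p ^ 4 = p ^ 3 * p := by ring
    rw [h3] at h1
    exact Nat.eq_of_mul_eq_mul_right hpp.pos h1
  have hΦL : frattini Q ≤ L := fun u hu => (hLmem u).2 (hΦp u hu)
  obtain ⟨b, hbL, hbΦ⟩ : ∃ b ∈ L, b ∉ frattini Q := by
    by_contra hcon
    push Not at hcon
    have h1 := Subgroup.card_le_of_le hcon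
    rw [hLcard, hΦ] at h1
    have h2 : p < p ^ 3 := by
      calc p = p ^ 1 := (pow_one p).symm
        _ < p ^ 3 := Nat.pow_lt_pow_right hpp.one_lt (by norm_num)
    omega
  let W : Subgroup Q := frattini Q ⊔ Subgroup.zpowers b
  have hWle : Nat.card W ≤ p ^ 2 := by
    have h1 := Frat.relIndex_sup_zpowers_dvd hQ (le_refl (frattini Q)) b
    have h2 : Nat.card (frattini Q) * (frattini Q).relIndex W = Nat.card W :=
      card_mul_relIndex' (le_sup_left : frattini Q ≤ W)
    rw [hΦ] at h2
    rw [← h2, pow_two]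
    exact Nat.mul_le_mul_left p (Nat.le_of_dvd hpp.pos h1)
  obtain ⟨c, hcL, hcW⟩ : ∃ c ∈ L, c ∉ W := by
    by_contra hcon
    push Not at hcon
    have h1 := Subgroup.card_le_of_le hcon
    rw [hLcard] at h1
    have h2 : p ^ 2 < p ^ 3 := Nat.pow_lt_pow_right hpp.one_lt (by norm_num)
    omega
  have hbp : b ^ p = 1 := (hLmem b).1 hbL
  have hcp : c ^ p = 1 := (hLmem c).1 hcL
  have hob : orderOf b = p := orderOf_eq_prime hbp (by
    rintro rfl
    exact hbΦ (one_mem _))
  have hoc : orderOf c = p := orderOf_eq_prime hcp (by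
    rintro rfl
    exact hcW (one_mem _))
  let ψ : Subgroup.zpowers a × (Subgroup.zpowers b × Subgroup.zpowers c) →* Q :=
    (Subgroup.zpowers a).subtype.coprod ((Subgroup.zpowers b).subtype.coprod (Subgroup.zpowers c).subtype)
  have hψinj : Function.Injective ψ := by
    rw [injective_iff_map_eq_one]
    rintro ⟨x, y, w⟩ h
    have h1 : (x : Q) * ((y : Q) * (w : Q)) = 1 := h
    have hyL : (y : Q) ∈ L := (Subgroup.zpowers_le.2 hbL) y.2
    have hwL : (w : Q) ∈ L := (Subgroup.zpowers_le.2 hcL) w.2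
    have hx1 : (x : Q) = ((y : Q) * w)⁻¹ := eq_inv_of_mul_eq_one_left h1
    have hxL : (x : Q) ∈ L := by
      rw [hx1]
      exact L.inv_mem (L.mul_mem hyL hwL)
    have hxΦ : (x : Q) ∈ frattini Q := by
      obtain ⟨i, hi⟩ := Subgroup.mem_zpowers_iff.1 x.2
      have h2 := (hLmem _).1 hxL
      rw [← hi, ← zpow_natCast, ← zpow_mul] at h2
      have h3 := orderOf_dvd_iff_zpow_eq_one.2 h2
      rw [hoa] at h3
      have h4 : (p : ℤ) ∣ i := by
        have h5 : ((p : ℤ) * (p : ℤ)) ∣ i * (p : ℤ) := by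
          have : ((p ^ 2 : ℕ) : ℤ) = (p : ℤ) * (p : ℤ) := by push_cast; ring
          rwa [this] at h3
        have hp0 : (p : ℤ) ≠ 0 := by exact_mod_cast hpp.ne_zero
        exact (mul_dvd_mul_iff_right hp0).1 h5
      obtain ⟨j, rfl⟩ := h4
      rw [← hi, zpow_mul, zpow_natCast]
      exact (frattini Q).zpow_mem hzΦ j
    have hw1 : (w : Q) = 1 := by
      refine eq_one_of_mem_zpowers hcp hcW w.2 ?_
      have h5 : (w : Q) = ((x : Q) * y)⁻¹ := by
        apply eq_inv_of_mul_eq_one_left
        rw [mul_comm, mul_assoc]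
        exact h1
      rw [h5]
      exact W.inv_mem (W.mul_mem (Subgroup.mem_sup_left hxΦ) (Subgroup.mem_sup_right y.2))
    have hy1 : (y : Q) = 1 := by
      refine eq_one_of_mem_zpowers hbp hbΦ y.2 ?_
      rw [hw1, mul_one] at hx1
      have h6 : (y : Q) = (x : Q)⁻¹ := by
        rw [hx1, inv_inv]
      rw [h6]
      exact (frattini Q).inv_mem hxΦ
    have hx2 : (x : Q) = 1 := by
      rw [hx1, hy1, hw1]
      simp
    refine Prod.ext (Subtype.ext hx2) (Prod.ext (Subtype.ext hy1) (Subtype.ext hw1))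
  have hψbij : Function.Bijective ψ := by
    apply hψinj.bijective_of_nat_card_le
    rw [Nat.card_prod, Nat.card_prod, Nat.card_zpowers, Nat.card_zpowers, Nat.card_zpowers, hoa, hob, hoc, hcard]
    exact le_of_eq (by ring)
  let e := MulEquiv.ofBijective ψ hψbij
  haveI : IsCyclic (Multiplicative (ZMod (p ^ 2))) := inferInstance
  have hc1 : Nat.card (Subgroup.zpowers a) = Nat.card (Multiplicative (ZMod (p ^ 2))) := by
    rw [Nat.card_zpowers, hoa]
    show _ = Nat.card (ZMod (p ^ 2))
    rw [Nat.card_zmod]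
  have hc2 : Nat.card (Subgroup.zpowers b) = Nat.card (Multiplicative (ZMod p)) := by
    rw [Nat.card_zpowers, hob]
    show _ = Nat.card (ZMod p)
    rw [Nat.card_zmod]
  have hc3 : Nat.card (Subgroup.zpowers c) = Nat.card (Multiplicative (ZMod p)) := by
    rw [Nat.card_zpowers, hoc]
    show _ = Nat.card (ZMod p)
    rw [Nat.card_zmod]
  exact ⟨e.symm.trans ((MulEquiv.prodCongr (mulEquivOfCyclicCardEq hc1)
    (MulEquiv.prodCongr (mulEquivOfCyclicCardEq hc2) (mulEquivOfCyclicCardEq hc3))).trans
    ((MulEquiv.prodCongr (MulEquiv.refl _) (MulEquiv.prodMultiplicative (G := ZMod p) (H := ZMod p)).symm).trans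
      (MulEquiv.prodMultiplicative (G := ZMod (p ^ 2)) (H := ZMod p × ZMod p)).symm))⟩

end Ab

section Split

variable {Q : Type*} [Group Q] [Finite Q] {p : ℕ} [hp : Fact p.Prime]

/-- The element outside `Φ` and a complement. -/
theorem exists_M_d (hcard : Nat.card Q = p ^ 4) (hΦ : Nat.card (frattini Q) = p)
    (hZ : Nat.card (Subgroup.center Q) = p ^ 2) (hexp : ∀ z ∈ Subgroup.center Q, z ^ p = 1) :
    ∃ (M : Subgroup Q) (d : Q), d ∈ Subgroup.center Q ∧ d ∉ M ∧ d ^ p = 1 ∧ M.index = p := by
  classical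
  have hpp : p.Prime := hp.out
  have hQ : IsPGroup p Q := IsPGroup.of_card hcard
  obtain ⟨d, hdZ, hdΦ⟩ : ∃ d ∈ Subgroup.center Q, d ∉ frattini Q := by
    by_contra hcon
    push Not at hcon
    have h1 := Subgroup.card_le_of_le hcon
    rw [hZ, hΦ, pow_two] at h1
    nlinarith [hpp.two_le]
  obtain ⟨M, hM, hdM⟩ : ∃ M : Subgroup Q, IsCoatom M ∧ d ∉ M := by
    by_contra hcon
    push Not at hcon
    apply hdΦ
    have : ∀ M : Subgroup Q, IsCoatom M → d ∈ M := hcon
    simpa [frattini, Order.radical, Subgroup.mem_iInf] using this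
  exact ⟨M, d, hdZ, hdM, hexp d hdZ, Frat.index_eq_of_isCoatom hQ hM⟩

variable {M : Subgroup Q} {d : Q}

lemma zpowers_le_center (hdZ : d ∈ Subgroup.center Q) : Subgroup.zpowers d ≤ Subgroup.center Q := by
  rwa [Subgroup.zpowers_le]

lemma card_M (hcard : Nat.card Q = p ^ 4) (hMi : M.index = p) : Nat.card M = p ^ 3 := by
  have h1 := Subgroup.card_mul_index M
  rw [hMi, hcard] at h1
  have h3 : p ^ 4 = p ^ 3 * p := by ring
  rw [h3] at h1
  exact Nat.eq_of_mul_eq_mul_right hp.out.pos h1

/-- The product decomposition of `Q`. -/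
theorem decomp_equiv (hcard : Nat.card Q = p ^ 4) (hdZ : d ∈ Subgroup.center Q) (hdM : d ∉ M) (hd : d ^ p = 1)
    (hMi : M.index = p) : Nonempty (Q ≃* M × Multiplicative (ZMod p)) ∧ ∀ y : Q, ∃ m ∈ M, ∃ w ∈ Subgroup.zpowers d, y = m * w := by
  classical
  have hpp : p.Prime := hp.out
  haveI : NeZero p := ⟨hpp.ne_zero⟩
  have hd1 : d ≠ 1 := by
    rintro rfl
    exact hdM (one_mem _)
  have hod : orderOf d = p := orderOf_eq_prime hd hd1
  have hcomm : ∀ (m : M) (w : Subgroup.zpowers d), Commute (M.subtype m) ((Subgroup.zpowers d).subtype w) := by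
    intro m w
    exact (Subgroup.mem_center_iff.1 (zpowers_le_center hdZ w.2) _)
  let ψ : M × Subgroup.zpowers d →* Q := MonoidHom.noncommCoprod M.subtype (Subgroup.zpowers d).subtype hcomm
  have hψinj : Function.Injective ψ := by
    rw [injective_iff_map_eq_one]
    rintro ⟨m, w⟩ h
    have h1 : (m : Q) * (w : Q) = 1 := h
    have hw : (w : Q) = 1 := by
      refine eq_one_of_mem_zpowers hd hdM w.2 ?_
      rw [eq_inv_of_mul_eq_one_right h1]
      exact M.inv_mem m.2
    have hm : (m : Q) = 1 := by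
      rw [hw, mul_one] at h1
      exact h1
    exact Prod.ext (Subtype.ext hm) (Subtype.ext hw)
  have hψbij : Function.Bijective ψ := by
    apply hψinj.bijective_of_nat_card_le
    rw [Nat.card_prod, Nat.card_zpowers, hod, ← hMi]
    exact (Subgroup.card_mul_index M).ge
  refine ⟨?_, fun y => ?_⟩
  · have hc2 : Nat.card (Subgroup.zpowers d) = Nat.card (Multiplicative (ZMod p)) := by
      rw [Nat.card_zpowers, hod]
      show _ = Nat.card (ZMod p)
      rw [Nat.card_zmod]
    exact ⟨(MulEquiv.ofBijective ψ hψbij).symm.trans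
      (MulEquiv.prodCongr (MulEquiv.refl _) (mulEquivOfCyclicCardEq hc2))⟩
  · obtain ⟨⟨m, w⟩, h⟩ := hψbij.2 y
    exact ⟨m, m.2, w, w.2, h.symm⟩

lemma M_nonab (hdZ : d ∈ Subgroup.center Q) (hdec : ∀ y : Q, ∃ m ∈ M, ∃ w ∈ Subgroup.zpowers d, y = m * w)
    (hna : ¬ ∀ a b : Q, a * b = b * a) : ¬ ∀ a b : M, a * b = b * a := by
  intro h
  apply hna
  intro x y
  obtain ⟨m, hm, w, hw, rfl⟩ := hdec x
  obtain ⟨m', hm', w', hw', rfl⟩ := hdec y
  have hzw := zpowers_le_center hdZ hw
  have hzw' := zpowers_le_center hdZ hw'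
  have h1 : m * m' = m' * m := congrArg Subtype.val (h ⟨m, hm⟩ ⟨m', hm'⟩)
  have h2 : w * w' = w' * w := Subgroup.mem_center_iff.1 hzw' w
  calc m * w * (m' * w') = m * (w * m') * w' := by group
    _ = m * (m' * w) * w' := by rw [Subgroup.mem_center_iff.1 hzw m']
    _ = (m * m') * (w * w') := by group
    _ = (m' * m) * (w' * w) := by rw [h1, h2]
    _ = m' * (m * w') * w := by group
    _ = m' * (w' * m) * w := by rw [Subgroup.mem_center_iff.1 hzw' m]
    _ = m' * w' * (m * w) := by group

/-- For `p` odd and exponent `p²`: the kernel of the power map. -/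
theorem exists_flag_odd (hodd : Odd p) (hcard : Nat.card Q = p ^ 4) (hΦ : Nat.card (frattini Q) = p)
    (hΦZ : frattini Q ≤ Subgroup.center Q) (hexp : ∀ z ∈ Subgroup.center Q, z ^ p = 1)
    (hx : ¬ ∀ x : Q, x ^ p = 1) :
    ∃ C : Subgroup Q, (∀ (α : MulAut Q) (x : Q), x ∈ C → α x ∈ C) ∧ Subgroup.center Q ≤ C ∧ Nat.card C = p ^ 3 := by
  have hpp : p.Prime := hp.out
  have hQ : IsPGroup p Q := IsPGroup.of_card hcard
  have hpow : ∀ x : Q, x ^ p ∈ Subgroup.center Q := fun x => hΦZ (Frat.pow_mem_frattini hQ x)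
  have hcen : ∀ x y : Q, x⁻¹ * y⁻¹ * x * y ∈ Subgroup.center Q := by
    intro x y
    apply hΦZ
    apply Frat.commutator_le_frattini hQ
    have h1 : ⁅x⁻¹, y⁻¹⁆ ∈ commutator Q := by
      rw [commutator_def]
      exact Subgroup.commutator_mem_commutator (Subgroup.mem_top _) (Subgroup.mem_top _)
    simpa [commutatorElement_def] using h1
  have hmul := OddPGroup.mul_pow_odd (R := Q) (p := p) hodd hpow hcen
  let φ : Q →* Q := MonoidHom.mk' (fun x => x ^ p) hmul
  let L : Subgroup Q := φ.ker
  have hLmem : ∀ z : Q, z ∈ L ↔ z ^ p = 1 := fun z => Iff.rfl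
  refine ⟨L, fun α x hx' => ?_, fun z hz => (hLmem z).2 (hexp z hz), ?_⟩
  · rw [hLmem] at hx' ⊢
    rw [← map_pow, hx', map_one]
  · have hr : φ.range ≤ frattini Q := by
      rintro _ ⟨x, rfl⟩
      exact Frat.pow_mem_frattini hQ x
    have hd : Nat.card φ.range ∣ p := hΦ ▸ Subgroup.card_dvd_of_le hr
    have hi : L.index = p := by
      show φ.ker.index = p
      rw [Subgroup.index_ker]
      rcases (Nat.dvd_prime hpp).1 hd with h | h
      · exfalso
        apply hx
        intro x
        have h1 : φ.range = ⊥ := (Subgroup.card_eq_one).1 h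
        have h2 : φ x ∈ φ.range := ⟨x, rfl⟩
        rw [h1, Subgroup.mem_bot] at h2
        exact h2
      · exact h
    exact card_M hcard hi

/-- `D₈ × C₂`: a characteristic subgroup of order `8` above the centre. -/
theorem exists_flag_d8 {Q : Type*} [Group Q] [Finite Q] {M : Subgroup Q} {d : Q} (hcard : Nat.card Q = 2 ^ 4)
    (hdZ : d ∈ Subgroup.center Q) (hdM : d ∉ M) (hd : d ^ 2 = 1)
    (hdec : ∀ y : Q, ∃ m ∈ M, ∃ w ∈ Subgroup.zpowers d, y = m * w) (e : M ≃* DihedralGroup 4) :
    ∃ C : Subgroup Q, (∀ (α : MulAut Q) (x : Q), x ∈ C → α x ∈ C) ∧ Subgroup.center Q ≤ C ∧ Nat.card C = 2 ^ 3 := by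
  classical
  haveI : Fact (Nat.Prime 2) := ⟨Nat.prime_two⟩
  have f1 : ∀ u : DihedralGroup 4, u ^ 2 ≠ 1 → u = DihedralGroup.r 1 ∨ u = DihedralGroup.r 3 := by decide
  have f2 : ∀ u : DihedralGroup 4, (∀ v, u * v = v * u) → u = DihedralGroup.r 0 ∨ u = DihedralGroup.r 2 := by decide
  let r' : Q := (e.symm (DihedralGroup.r 1) : M)
  have hr'M : r' ∈ M := (e.symm (DihedralGroup.r 1) : M).2
  have hor : orderOf r' = 4 := by
    have h1 : orderOf r' = orderOf (e.symm (DihedralGroup.r 1) : M) := Subgroup.orderOf_coe _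
    rw [h1, MulEquiv.orderOf_eq, DihedralGroup.orderOf_r_one]
  let A : Subgroup Q := Subgroup.zpowers r'
  let C : Subgroup Q := Subgroup.zpowers d ⊔ A
  have hpowr : ∀ k : ℕ, (e.symm (DihedralGroup.r (k : ZMod 4)) : Q) ∈ A := by
    intro k
    have h1 : (DihedralGroup.r (k : ZMod 4)) = (DihedralGroup.r (1 : ZMod 4)) ^ k := by
      rw [DihedralGroup.r_one_pow]
    rw [h1, map_pow]
    exact A.pow_mem (Subgroup.mem_zpowers r') k
  have hmA : ∀ (m : Q) (hm : m ∈ M) (k : ℕ), e ⟨m, hm⟩ = DihedralGroup.r (k : ZMod 4) → m ∈ A := by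
    intro m hm k hk
    have h1 : (⟨m, hm⟩ : M) = e.symm (DihedralGroup.r (k : ZMod 4)) := by
      rw [← hk, e.symm_apply_apply]
    have h2 : m = (e.symm (DihedralGroup.r (k : ZMod 4)) : Q) := congrArg Subtype.val h1
    rw [h2]
    exact hpowr k
  have hw2 : ∀ w ∈ Subgroup.zpowers d, w ^ 2 = 1 := by
    intro w hw
    obtain ⟨i, rfl⟩ := Subgroup.mem_zpowers_iff.1 hw
    rw [← zpow_natCast, ← zpow_mul, mul_comm, zpow_mul, zpow_natCast, hd, one_zpow]
  have hclaim1 : ∀ y : Q, y ^ 2 ≠ 1 → y ∈ C := by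
    intro y hy
    obtain ⟨m, hm, w, hw, rfl⟩ := hdec y
    have hzw := zpowers_le_center hdZ hw
    have h1 : (m * w) ^ 2 = m ^ 2 := by
      have h2 : (m * w) ^ 2 = m ^ 2 * w ^ 2 := by
        rw [pow_two, pow_two, pow_two]
        calc m * w * (m * w) = m * (w * m) * w := by group
          _ = m * (m * w) * w := by rw [Subgroup.mem_center_iff.1 hzw m]
          _ = m * m * (w * w) := by group
      rw [h2, hw2 w hw, mul_one]
    rw [h1] at hy
    have h3 : (e ⟨m, hm⟩) ^ 2 ≠ 1 := by
      intro h4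
      apply hy
      have h5 : e (⟨m, hm⟩ ^ 2) = e 1 := by rw [map_pow, h4, map_one]
      exact congrArg Subtype.val (e.injective h5)
    have hmA' : m ∈ A := by
      rcases f1 _ h3 with h | h
      · exact hmA m hm 1 (by simpa using h)
      · exact hmA m hm 3 (by simpa using h)
    exact C.mul_mem (Subgroup.mem_sup_right hmA') (Subgroup.mem_sup_left hw)
  have hclaim2 : Subgroup.center Q ≤ C := by
    intro z hz
    obtain ⟨m, hm, w, hw, rfl⟩ := hdec z
    have hzw := zpowers_le_center hdZ hw
    have hmZ : m ∈ Subgroup.center Q := by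
      have h1 : m = (m * w) * w⁻¹ := by group
      rw [h1]
      exact mul_mem hz (inv_mem hzw)
    have h3 : ∀ v, e ⟨m, hm⟩ * v = v * e ⟨m, hm⟩ := by
      intro v
      obtain ⟨v', rfl⟩ := e.surjective v
      rw [← map_mul, ← map_mul]
      congr 1
      apply Subtype.ext
      exact (Subgroup.mem_center_iff.1 hmZ v'.1).symm
    have hmA' : m ∈ A := by
      rcases f2 _ h3 with h | h
      · exact hmA m hm 0 (by simpa using h)
      · exact hmA m hm 2 (by simpa using h)
    exact C.mul_mem (Subgroup.mem_sup_right hmA') (Subgroup.mem_sup_left hw)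
  refine ⟨C, fun α x hx => ?_, hclaim2, ?_⟩
  · have hle : C ≤ C.comap α.toMonoidHom := by
      refine sup_le ?_ ?_
      · rw [Subgroup.zpowers_le]
        show α d ∈ C
        apply hclaim2
        rw [Subgroup.mem_center_iff]
        intro g
        obtain ⟨g', rfl⟩ := α.surjective g
        rw [← map_mul, ← map_mul, (Subgroup.mem_center_iff.1 hdZ g')]
      · rw [Subgroup.zpowers_le]
        show α r' ∈ C
        apply hclaim1
        rw [← map_pow]
        intro h
        have h1 : r' ^ 2 = 1 := α.injective (by rw [h, map_one])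
        have h2 := orderOf_dvd_of_pow_eq_one h1
        rw [hor] at h2
        omega
    exact hle hx
  · have hd1 : d ≠ 1 := by
      rintro rfl
      exact hdM (one_mem _)
    have hod : orderOf d = 2 := orderOf_eq_prime hd hd1
    haveI hKn : (Subgroup.zpowers d).Normal := by
      constructor
      intro n hn g
      rw [Subgroup.mem_center_iff.1 (zpowers_le_center hdZ hn) g, mul_inv_cancel_right]
      exact hn
    apply le_antisymm
    · have h1 : Nat.card (Subgroup.zpowers d) * (Subgroup.zpowers d).relIndex C = Nat.card C :=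
        card_mul_relIndex' le_sup_left
      have h2 : (Subgroup.zpowers d).relIndex C = (Subgroup.zpowers d).relIndex A := Subgroup.relIndex_sup_left _ _
      have h3 : (Subgroup.zpowers d).relIndex A ≤ 4 := by
        have h4 := Subgroup.relIndex_dvd_card (Subgroup.zpowers d) A
        have h5 : Nat.card A = 4 := by
          show Nat.card (Subgroup.zpowers r') = 4
          rw [Nat.card_zpowers, hor]
        rw [h5] at h4
        exact Nat.le_of_dvd (by norm_num) h4
      rw [← h1, h2, Nat.card_zpowers, hod]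
      norm_num
      omega
    · apply card_ge_of_lt hcard
      have h5 : Nat.card A = 4 := by
        show Nat.card (Subgroup.zpowers r') = 4
        rw [Nat.card_zpowers, hor]
      have hAM : A ≤ M := by
        show Subgroup.zpowers r' ≤ M
        rwa [Subgroup.zpowers_le]
      have := card_lt_of_not_mem (le_sup_right : A ≤ C) (Subgroup.mem_sup_left (Subgroup.mem_zpowers d)) (fun h => hdM (hAM h))
      rw [h5] at this
      norm_num
      exact this

end Split

section Fusion

open Cfsg.Agent.Lib.FusionCore Cfsg.Agent.Lib.FusionCore2 Cfsg.Agent.Lib.FusionSuper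

variable {Ω : Type*} [Group Ω] {S : Subgroup Ω} [Finite S] {p : ℕ} [hp : Fact p.Prime]
  {F : FusionSystem S}

/-- An essential subgroup has no chain of invariant subgroups with cyclic factors. -/
theorem false_of_chain (hS : IsPGroup p S) (hF : F.IsSaturated p) {P : Subgroup Ω} (hE : F.IsEssential p P)
    {m : ℕ} {T : ℕ → Subgroup P} (hc : Chain (F.autGroup P) m T) : False := by
  have hQS : P ≤ S := hE.1.1
  haveI := Cfsg.Agent.Lib.FusionCore.finite_of_le hQS
  haveI := finite_mulAut (S := S) hQS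
  obtain ⟨M, hM, hconj, hemb, g, hg⟩ := Cfsg.Agent.Lib.FusionEssential.exists_M hS hF hE hQS
  apply hM
  rw [eq_top_iff]
  rintro a -
  obtain ⟨-, R, hR⟩ := (of_fullyNormalized hS hF hE.2.1).2
  have hQp : IsPGroup p P := hS.to_le hQS
  have hDR : hc.D ≤ (R : Subgroup (F.autGroup P)) := by
    have h1 : IsPGroup p ((R : Subgroup (F.autGroup P)) ⊔ hc.D : Subgroup (F.autGroup P)) :=
      IsPGroup.to_sup_of_normal_right R.isPGroup' (hc.isPGroup_D hQp)
    have h2 := R.is_maximal' h1 le_sup_left
    exact le_sup_right.trans h2.le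
  set cg := conjA (F := F) hQS g with hcg
  have h1 := hDR (hc.comm_mem_D a cg)
  have h2 : cg ∈ (R : Subgroup (F.autGroup P)) := by
    rw [hR]
    exact (mem_autS_iff hQS _).2 ⟨g, rfl⟩
  have h3 := (R : Subgroup (F.autGroup P)).mul_mem h1 h2
  rw [inv_mul_cancel_right, hR, mem_autS_iff hQS] at h3
  obtain ⟨h, hh⟩ := h3
  exact hemb a g h hg hh.symm

/-- An essential subgroup of order `p⁴` has no full flag of characteristic subgroups. -/
theorem false_of_flag (hS : IsPGroup p S) (hF : F.IsSaturated p) {P : Subgroup Ω} (hE : F.IsEssential p P)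
    (hcard : Nat.card P = p ^ 4) {A B C : Subgroup P} (hAB : A ≤ B) (hBC : B ≤ C)
    (hA : ∀ (α : MulAut P) (x : P), x ∈ A → α x ∈ A) (hB : ∀ (α : MulAut P) (x : P), x ∈ B → α x ∈ B)
    (hC : ∀ (α : MulAut P) (x : P), x ∈ C → α x ∈ C)
    (hAc : Nat.card A = p) (hBc : Nat.card B = p ^ 2) (hCc : Nat.card C = p ^ 3) : False := by
  classical
  have hpp : p.Prime := hp.out
  have hQS : P ≤ S := hE.1.1
  haveI := Cfsg.Agent.Lib.FusionCore.finite_of_le hQS
  let T : ℕ → Subgroup P := fun i => match i with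
    | 0 => ⊥
    | 1 => A
    | 2 => B
    | 3 => C
    | _ => ⊤
  have hinvall : ∀ i, ∀ (α : MulAut P) (x : P), x ∈ T i → α x ∈ T i := by
    intro i α x hx
    match i, hx with
    | 0, hx =>
      have h0 : x = 1 := hx
      show α x ∈ (⊥ : Subgroup P)
      rw [h0, map_one]
      exact one_mem _
    | 1, hx => exact hA α x hx
    | 2, hx => exact hB α x hx
    | 3, hx => exact hC α x hx
    | (_ + 4), hx => trivial
  have hnormal : ∀ i, (T i).Normal := fun i => ⟨fun n hn g => hinvall i (MulAut.conj g) n hn⟩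
  have hle : ∀ i, i < 4 → T i ≤ T (i + 1) := by
    intro i hi
    interval_cases i
    · exact bot_le
    · exact hAB
    · exact hBC
    · exact le_top
  have hcardT : ∀ i, i ≤ 4 → Nat.card (T i) = p ^ i := by
    intro i hi
    interval_cases i
    · exact Subgroup.card_bot.trans (pow_zero p).symm
    · exact hAc.trans (pow_one p).symm
    · exact hBc
    · exact hCc
    · exact Subgroup.card_top.trans hcard
  refine false_of_chain hS hF hE (m := 4) (T := T) ⟨rfl, rfl, hle, fun i _ => ?_, fun a _ i _ x hx => hinvall i a x hx,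
    fun i hi hn => ?_⟩
  · haveI := hnormal i
    exact Subgroup.normal_subgroupOf
  · have h1 : Nat.card (T i) * (T i).relIndex (T (i + 1)) = Nat.card (T (i + 1)) := card_mul_relIndex' (hle i hi)
    rw [hcardT i (le_of_lt hi), hcardT (i + 1) hi, pow_succ] at h1
    have h2 : (T i).relIndex (T (i + 1)) = p := Nat.eq_of_mul_eq_mul_left (pow_pos hpp.pos i) h1
    have h3 : Nat.card (T (i + 1) ⧸ (T i).subgroupOf (T (i + 1))) = p := h2
    haveI : Fact (Nat.card (T (i + 1) ⧸ (T i).subgroupOf (T (i + 1)))).Prime := ⟨by rw [h3]; exact hpp⟩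
    exact isCyclic_of_prime_card rfl

lemma center_inv {Q : Type*} [Group Q] (α : MulAut Q) (x : Q) (hx : x ∈ Subgroup.center Q) :
    α x ∈ Subgroup.center Q := by
  rw [Subgroup.mem_center_iff] at hx ⊢
  intro g
  obtain ⟨g', rfl⟩ := α.surjective g
  rw [← map_mul, ← map_mul, hx g']

/-- S5188. -/
theorem main (hS : IsPGroup p S) (hF : F.IsSaturated p) {H : Subgroup Ω} (hH : F.IsEssential p H)
    (hcard : Nat.card H = p ^ 4) :
    Cfsg.IsElementaryAbelian p H ∨
      Nonempty (↥H ≃* Multiplicative (ZMod (p ^ 2) × ZMod p × ZMod p)) ∨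
      ((p = 2 ∨ p = 3) ∧ Nonempty (↥H ≃* Multiplicative (ZMod (p ^ 2) × ZMod (p ^ 2)))) ∨
      (Odd p ∧ ∃ (E : Type) (_ : Group E) (_ : Finite E), Cfsg.IsExtraspecial p E ∧ Nat.card E = p ^ 3 ∧
        (∀ x : E, x ^ p = 1) ∧ Nonempty (↥H ≃* E × Multiplicative (ZMod p))) ∨
      (p = 2 ∧ Nonempty (↥H ≃* QuaternionGroup 2 × Multiplicative (ZMod 2))) ∨
      (¬ IsMulCommutative ↥H ∧ (∀ x ∈ H, x ^ (p ^ 2) = 1) ∧ IsCyclic ↥(Subgroup.center ↥H) ∧
        Nat.card (Subgroup.center ↥H) = p ^ 2) := by
  classical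
  have hpp : p.Prime := hp.out
  have hHS : H ≤ S := hH.1.1
  haveI : Finite H := Cfsg.Agent.Lib.FusionCore.finite_of_le hHS
  have hQ : IsPGroup p H := hS.to_le hHS
  have hΦd : Nat.card (frattini H) ∣ p ^ 4 := hcard ▸ Subgroup.card_subgroup_dvd_card _
  obtain ⟨f, hf4, hf⟩ := (Nat.dvd_prime_pow hpp).1 hΦd
  have hmul : Nat.card (frattini H) * (frattini H).index = p ^ 4 := by
    rw [Subgroup.card_mul_index, hcard]
  by_cases hf3 : 3 ≤ f
  · -- `Q / Φ` has order at most `p`
    exfalso
    obtain ⟨R, hRn, hRp, hR⟩ := exists_closed hQ (⊤ : Subgroup H) (fun _ _ _ => trivial) le_top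
      (by rw [Subgroup.index_top]; exact one_dvd _) (by
        rw [Subgroup.relIndex_top_right]
        rw [hf] at hmul
        have h2 : p ^ 4 = p ^ f * p ^ (4 - f) := by rw [← pow_add]; congr 1; omega
        rw [h2] at hmul
        have h3 := Nat.eq_of_mul_eq_mul_left (pow_pos hpp.pos f) hmul
        rw [h3]
        have : 4 - f ≤ 1 := by omega
        exact (pow_dvd_pow p this).trans (by simp))
    exact false_of_closed hS hH R hRn hRp hR
  by_cases hf2 : f = 2
  · subst hf2
    by_cases hab : ∀ a b : H, a * b = b * a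
    · have hab' : IsMulCommutative ↥H := ⟨⟨hab⟩⟩
      have hi : (frattini H).index = p ^ 2 := by
        rw [hf] at hmul
        have h2 : p ^ 4 = p ^ 2 * p ^ 2 := by ring
        rw [h2] at hmul
        exact Nat.eq_of_mul_eq_mul_left (pow_pos hpp.pos 2) hmul
      rcases FusionEssAb.main hS hH hab' hi.le with ⟨-, h⟩ | ⟨h3, k, ⟨e⟩⟩
      · exfalso
        rw [hcard] at h
        have := Nat.pow_right_injective hpp.two_le h
        omega
      · right; right; left
        have h1 : Nat.card H = p ^ k * p ^ k := by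
          rw [Nat.card_congr e.toEquiv]
          change Nat.card (ZMod (p ^ k) × ZMod (p ^ k)) = _
          rw [Nat.card_prod, Nat.card_zmod]
        rw [hcard, ← pow_add] at h1
        have h2 := Nat.pow_right_injective hpp.two_le h1
        have hk : k = 2 := by omega
        subst hk
        refine ⟨?_, ⟨e⟩⟩
        have h4 := hpp.two_le
        interval_cases p
        · left; rfl
        · right; rfl
    · exfalso
      obtain ⟨L, hL, hΦL, hLi⟩ := exists_L hcard hf hab
      have hLc := card_M hcard hLi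
      have h1 : Nat.card (frattini H) * (frattini H).relIndex L = Nat.card L := card_mul_relIndex' hΦL
      rw [hf, hLc] at h1
      have h3 : p ^ 3 = p ^ 2 * p := by ring
      rw [h3] at h1
      have h4 := Nat.eq_of_mul_eq_mul_left (pow_pos hpp.pos 2) h1
      obtain ⟨R, hRn, hRp, hR⟩ := exists_closed hQ L hL hΦL (by rw [hLi]) (by rw [h4])
      exact false_of_closed hS hH R hRn hRp hR
  by_cases hf1 : f = 1
  · subst hf1
    rw [pow_one] at hf
    by_cases hab : ∀ a b : H, a * b = b * a
    · right; left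
      letI : CommGroup H := { (inferInstance : Group H) with mul_comm := hab }
      exact abelian_211' hcard hf
    · obtain ⟨hΦZ, hcom, hZ⟩ := nonab_f1 hcard hf hab
      by_cases hcy : IsCyclic ↥(Subgroup.center ↥H)
      · right; right; right; right; right
        refine ⟨fun h => hab h.is_comm.comm, fun x hx => ?_, hcy, hZ⟩
        have h1 : ((⟨x, hx⟩ : H) ^ p) ∈ frattini H := Frat.pow_mem_frattini hQ _
        have h2 : (⟨(⟨x, hx⟩ : H) ^ p, h1⟩ : frattini H) ^ p = 1 := by
          have h5 := pow_card_eq_one' (x := (⟨(⟨x, hx⟩ : H) ^ p, h1⟩ : frattini H))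
          rwa [hf] at h5
        have h3 : ((⟨x, hx⟩ : H) ^ p) ^ p = 1 := congrArg Subtype.val h2
        have h4 : (⟨x, hx⟩ : H) ^ (p ^ 2) = 1 := by
          rw [pow_two, pow_mul]
          exact h3
        exact congrArg Subtype.val h4
      · have hexp : ∀ z ∈ Subgroup.center H, z ^ p = 1 := by
          intro z hz
          have h1 : orderOf (⟨z, hz⟩ : Subgroup.center H) ∣ p ^ 2 := by
            rw [← hZ]
            exact orderOf_dvd_natCard _
          obtain ⟨j, hj2, hj⟩ := (Nat.dvd_prime_pow hpp).1 h1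
          have hj1 : j ≤ 1 := by
            by_contra hne
            have hj2' : j = 2 := by omega
            subst hj2'
            exact hcy (isCyclic_of_orderOf_eq_card (⟨z, hz⟩ : Subgroup.center H) (by rw [hj, hZ]))
          have h3 : (⟨z, hz⟩ : Subgroup.center H) ^ p = 1 := by
            rw [← orderOf_dvd_iff_pow_eq_one, hj]
            exact (pow_dvd_pow p hj1).trans (by simp)
          exact congrArg Subtype.val h3
        obtain ⟨M, d, hdZ, hdM, hd, hMi⟩ := exists_M_d hcard hf hZ hexp
        obtain ⟨⟨e⟩, hdec⟩ := decomp_equiv hcard hdZ hdM hd hMi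
        have hna := M_nonab hdZ hdec hab
        have hMc := card_M hcard hMi
        have hΦinv : ∀ (α : MulAut H) (x : H), x ∈ frattini H → α x ∈ frattini H := frattini_inv
        rcases hpp.eq_two_or_odd' with h2 | hodd
        · subst h2
          right; right; right; right; left
          refine ⟨rfl, ?_⟩
          rcases Order8.d8_or_q8 (C := M) (by rw [hMc]; norm_num) hna with he8 | he8
          · exfalso
            obtain ⟨e8⟩ := he8
            obtain ⟨C, hC, hZC, hCc⟩ := exists_flag_d8 hcard hdZ hdM hd hdec e8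
            exact false_of_flag hS hF hH hcard hΦZ hZC hΦinv center_inv hC hf hZ hCc
          · obtain ⟨e8⟩ := he8
            exact ⟨e.trans (MulEquiv.prodCongr e8 (MulEquiv.refl _))⟩
        · right; right; right; left
          refine ⟨hodd, ?_⟩
          by_cases hx : ∀ x : H, x ^ p = 1
          · obtain ⟨E, eq₀, -⟩ : ∃ (E : Type) (_ : E ≃ M), True :=
              ⟨Fin (Nat.card M), (Finite.equivFin M).symm, trivial⟩
            letI : Group E := eq₀.group
            let eq₁ : E ≃* M := { eq₀ with map_mul' := fun a b => eq₀.apply_symm_apply _ }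
            haveI : Finite E := Finite.of_equiv _ eq₀.symm
            have hEc : Nat.card E = p ^ 3 := by rw [Nat.card_congr eq₀, hMc]
            have hEna : ¬ ∀ a b : E, a * b = b * a := by
              intro h
              apply hna
              intro a b
              have h1 := h (eq₁.symm a) (eq₁.symm b)
              have h2 := congrArg eq₁ h1
              simpa using h2
            obtain ⟨hZc', hpow', hcom', hΦ'⟩ := Cfsg.Agent.Lib.FusionEssP3.nonab_cube hEc hEna
            refine ⟨E, inferInstance, inferInstance, ⟨⟨IsPGroup.of_card hEc, hΦ', hcom'⟩, hZc'⟩, hEc, fun x => ?_,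
              ⟨e.trans (MulEquiv.prodCongr eq₁.symm (MulEquiv.refl _))⟩⟩
            have h1 : ((eq₁ x : M) : H) ^ p = 1 := hx _
            have h2 : (eq₁ x) ^ p = 1 := Subtype.ext h1
            apply eq₁.injective
            rw [map_pow, h2, map_one]
          · exfalso
            obtain ⟨C, hC, hZC, hCc⟩ := exists_flag_odd hodd hcard hf hΦZ hexp hx
            exact false_of_flag hS hF hH hcard hΦZ hZC hΦinv center_inv hC hf hZ hCc
  · have hf0 : f = 0 := by omega
    subst hf0
    left
    have hΦbot : frattini H = ⊥ := (Subgroup.card_eq_one).1 (by simpa using hf)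
    refine ⟨⟨⟨fun a b => ?_⟩⟩, fun a ha => ?_⟩
    · have h1 : ⁅a, b⁆ ∈ commutator H := by
        rw [commutator_def]
        exact Subgroup.commutator_mem_commutator (Subgroup.mem_top a) (Subgroup.mem_top b)
      have h2 := Frat.commutator_le_frattini hQ h1
      rw [hΦbot, Subgroup.mem_bot, commutatorElement_eq_one_iff_mul_comm] at h2
      exact h2
    · have h1 := Frat.pow_mem_frattini hQ (⟨a, ha⟩ : H)
      rw [hΦbot, Subgroup.mem_bot] at h1
      exact congrArg Subtype.val h1

end Fusion

end Cfsg.Agent.Lib.FusionEssP4
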