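import Mathlib
import Cfsg.Agent.Lib.AlperinControl
import Cfsg.Agent.Lib.PComplement

/-!
# Extending control of strong fusion from a normal subgroup

`Sys p N P M`: a `p`-group `P` normalizes `N`, `P ⊓ N` is Sylow in `N`, `M ≤ N` is normalized by `P`, contains `P ⊓ N`,
and controls strong `N`-fusion in `P ⊓ N`.  Then `M ⊔ P` controls strong `N`-fusion in `P`.
-/

set_option autoImplicit false

namespace Cfsg.Agent.Lib.FusionExt

open Cfsg.Agent.Lib.AlperinControl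

variable {G : Type*} [Group G]

section Finite

variable [Finite G] {p : ℕ} [hp : Fact p.Prime]

omit hp in
theorem mem_sup_mul {A N : Subgroup G} (h : A ≤ NN N) {x : G} (hx : x ∈ A ⊔ N) :
    ∃ a ∈ A, ∃ n ∈ N, x = a * n := by
  rw [Subgroup.sup_eq_closure] at hx
  induction hx using Subgroup.closure_induction with
  | mem x hx =>
    rcases hx with hx | hx
    · exact ⟨x, hx, 1, N.one_mem, by simp⟩
    · exact ⟨1, A.one_mem, x, hx, by simp⟩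
  | one => exact ⟨1, A.one_mem, 1, N.one_mem, by simp⟩
  | mul x y _ _ ihx ihy =>
    obtain ⟨a₁, ha₁, n₁, hn₁, rfl⟩ := ihx
    obtain ⟨a₂, ha₂, n₂, hn₂, rfl⟩ := ihy
    refine ⟨a₁ * a₂, A.mul_mem ha₁ ha₂, a₂⁻¹ * n₁ * a₂⁻¹⁻¹ * n₂,
      N.mul_mem (conj_mem_of_mem_NN (h (A.inv_mem ha₂)) hn₁) hn₂, by group⟩
  | inv x _ ih =>
    obtain ⟨a, ha, n, hn, rfl⟩ := ih
    exact ⟨a⁻¹, A.inv_mem ha, a * n⁻¹ * a⁻¹, conj_mem_of_mem_NN (h ha) (N.inv_mem hn), by group⟩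

omit hp in
theorem mem_sup_mul' {A N : Subgroup G} (h : A ≤ NN N) {x : G} (hx : x ∈ A ⊔ N) :
    ∃ n ∈ N, ∃ a ∈ A, x = n * a := by
  obtain ⟨a, ha, n, hn, e⟩ := mem_sup_mul h ((A ⊔ N).inv_mem hx)
  refine ⟨n⁻¹, N.inv_mem hn, a⁻¹, A.inv_mem ha, ?_⟩
  rw [← inv_inj, e]; group

omit hp in
theorem card_lt_of_lt {A B : Subgroup G} (h : A < B) : Nat.card A < Nat.card B := by
  refine lt_of_le_of_ne (Subgroup.card_le_of_le h.le) fun e => h.ne ?_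
  exact Subgroup.eq_of_le_of_card_ge h.le e.ge

theorem isSyl_of_card_le {T H : Subgroup G} (hTH : T ≤ H) (hT : IsPGroup p T)
    (h : ∀ R : Subgroup G, R ≤ H → IsPGroup p R → Nat.card R ≤ Nat.card T) : IsSyl p T H := by
  obtain ⟨T', hT', hle⟩ := exists_isSyl_ge hTH hT
  have : T = T' := Subgroup.eq_of_le_of_card_ge hle (h T' hT'.le hT'.pgrp)
  rwa [this]

/-- The Sylow subgroup of a `p`-extension. -/
theorem isSyl_sup {A N Q : Subgroup G} (hA : IsPGroup p A) (hAN : A ≤ NN N) (hAQ : A ≤ NN Q)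
    (hQ : IsSyl p Q N) : IsSyl p (A ⊔ Q) (A ⊔ N) := by
  have hTp : IsPGroup p ↥(A ⊔ Q) := IsPGroup.to_sup_of_normal_right' hA hQ.pgrp hAQ
  obtain ⟨S, hS, hle⟩ := exists_isSyl_ge (sup_le_sup_left hQ.le A) hTp
  have hSle : S ≤ A ⊔ Q := by
    intro x hx
    obtain ⟨a, ha, n, hn, rfl⟩ := mem_sup_mul hAN (hS.le hx)
    have haS : a ∈ S := hle (Subgroup.mem_sup_left ha)
    have hnS : n ∈ S := by
      have := S.mul_mem (S.inv_mem haS) hx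
      simpa using this
    have hQS : Q ≤ S ⊓ N := le_inf (le_trans le_sup_right hle) hQ.le
    have e : S ⊓ N = Q :=
      hQ.eq_of_le inf_le_right (IsPGroup.to_le hS.pgrp inf_le_left) hQS
    have hnQ : n ∈ Q := by
      rw [← e]; exact ⟨hnS, hn⟩
    exact (A ⊔ Q).mul_mem (Subgroup.mem_sup_left ha) (Subgroup.mem_sup_right hnQ)
  rwa [le_antisymm hSle hle] at hS

/-- Lemma S: a `p`-subgroup of `A N` is `N`-conjugate into `A Q`. -/
theorem exists_conj_ext {A N Q U : Subgroup G} (hA : IsPGroup p A) (hAN : A ≤ NN N)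
    (hAQ : A ≤ NN Q) (hQ : IsSyl p Q N) (hU : IsPGroup p U) (hUle : U ≤ A ⊔ N) :
    ∃ n ∈ N, ∀ u ∈ U, n * u * n⁻¹ ∈ A ⊔ Q := by
  have hT := isSyl_sup hA hAN hAQ hQ
  obtain ⟨h, hh, hc⟩ := hT.conj U hUle hU
  obtain ⟨a, ha, n, hn, rfl⟩ := mem_sup_mul hAN hh
  refine ⟨n, hn, fun u hu => ?_⟩
  have h1 := hc u hu
  have h2 : n * u * n⁻¹ = a⁻¹ * (a * n * u * (a * n)⁻¹) * a := by group
  rw [h2]
  have ha' : a⁻¹ ∈ A ⊔ Q := Subgroup.mem_sup_left (A.inv_mem ha)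
  have ha'' : a ∈ A ⊔ Q := Subgroup.mem_sup_left ha
  exact (A ⊔ Q).mul_mem ((A ⊔ Q).mul_mem ha' h1) ha''

omit [Finite G] hp in
/-- A `p'`-element normalizing a `p`-group `A`, centralizing `C ≥ [A, b]`, centralizes `A`. -/
theorem commute_of_coprime {A C : Subgroup G} (hA : IsPGroup p A) (hCA : C ≤ A) {b : G}
    (hb : Nat.Coprime (orderOf b) p) (hbC : ∀ c ∈ C, b * c = c * b)
    (hc : ∀ a ∈ A, b * a * b⁻¹ * a⁻¹ ∈ C) {a : G} (ha : a ∈ A) : b * a * b⁻¹ = a := by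
  set c := b * a * b⁻¹ * a⁻¹ with hcdef
  have hcC : c ∈ C := hc a ha
  have hbc : b * c = c * b := hbC c hcC
  have e1 : b * a * b⁻¹ = c * a := by rw [hcdef]; group
  have e2 : ∀ k : ℕ, b ^ k * a * (b ^ k)⁻¹ = c ^ k * a := by
    intro k
    induction k with
    | zero => simp
    | succ k ih =>
      have hcb : Commute (b ^ k) c := (Commute.pow_left (show Commute b c from hbc) k)
      calc b ^ (k + 1) * a * (b ^ (k + 1))⁻¹ = b * (b ^ k * a * (b ^ k)⁻¹) * b⁻¹ := by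
            rw [pow_succ' b k]; group
        _ = b * (c ^ k * a) * b⁻¹ := by rw [ih]
        _ = (b * c ^ k * b⁻¹) * (b * a * b⁻¹) := by group
        _ = c ^ k * (c * a) := by
            rw [e1, (Commute.pow_right (show Commute b c from hbc) k).eq]; group
        _ = c ^ (k + 1) * a := by rw [pow_succ]; group
  have e3 := e2 (orderOf b)
  rw [pow_orderOf_eq_one] at e3
  have e4 : c ^ orderOf b = 1 := by
    have : 1 * a * (1 : G)⁻¹ = a := by simp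
    rw [this] at e3
    exact (mul_eq_right.mp e3.symm)
  obtain ⟨k, hk⟩ := hA ⟨c, hCA hcC⟩
  have e5 : c ^ p ^ k = 1 := by
    have := congrArg Subtype.val hk
    simpa using this
  have h1 : orderOf c ∣ orderOf b := orderOf_dvd_of_pow_eq_one e4
  have h2 : orderOf c ∣ p ^ k := orderOf_dvd_of_pow_eq_one e5
  have h3 : Nat.Coprime (orderOf b) (p ^ k) := Nat.Coprime.pow_right k hb
  have h4 : orderOf c = 1 := Nat.eq_one_of_dvd_coprimes h3 h1 h2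
  have h5 : c = 1 := orderOf_eq_one_iff.mp h4
  rw [e1, h5, one_mul]

end Finite


section SylAgrees

variable [Finite G] {p : ℕ} [hp : Fact p.Prime]

/-- In `Y = N_N(A)`, if `N` centralizes `A ⊓ N`, then `Y = D C_Y(A)` for a Sylow subgroup `D` of `Y`. -/
theorem exists_syl_agrees {A N D : Subgroup G} (hAp : IsPGroup p A) (hAN : A ≤ NN N)
    (hD : IsSyl p D (N ⊓ NN A)) (hcen : ∀ y ∈ N, ∀ b ∈ A ⊓ N, y * b = b * y) {y : G}
    (hy : y ∈ N ⊓ NN A) : ∃ t ∈ D, ∀ a ∈ A, y * a * y⁻¹ = t * a * t⁻¹ := by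
  classical
  set Y := N ⊓ NN A with hY
  let Cen : Subgroup Y := (Subgroup.centralizer (A : Set G)).subgroupOf Y
  haveI hCn : Cen.Normal := by
    constructor
    intro c hc g
    have hc' : (c : G) ∈ Subgroup.centralizer (A : Set G) := hc
    show ((g * c * g⁻¹ : Y) : G) ∈ Subgroup.centralizer (A : Set G)
    rw [Subgroup.mem_centralizer_iff]
    intro a ha
    have ha' : (g : G)⁻¹ * a * (g : G)⁻¹⁻¹ ∈ A := conj_mem_of_mem_NN (Subgroup.inv_mem _ g.2.2) ha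
    have e := Subgroup.mem_centralizer_iff.mp hc' _ ha'
    push_cast
    calc a * ((g : G) * c * (g : G)⁻¹)
        = (g : G) * (((g : G)⁻¹ * a * (g : G)⁻¹⁻¹) * c) * (g : G)⁻¹ := by group
      _ = (g : G) * (c * ((g : G)⁻¹ * a * (g : G)⁻¹⁻¹)) * (g : G)⁻¹ := by rw [e]
      _ = (g : G) * c * (g : G)⁻¹ * a := by group
  have hmemC : ∀ b : G, b ∈ Y → Nat.Coprime (orderOf b) p → ∀ a ∈ A, b * a * b⁻¹ = a := by
    intro b hb hbc a ha
    refine commute_of_coprime (p := p) hAp (inf_le_left : A ⊓ N ≤ A) hbc (fun c hc => hcen b hb.1 c hc) ?_ ha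
    intro a' ha'
    refine ⟨A.mul_mem (conj_mem_of_mem_NN hb.2 ha') (A.inv_mem ha'), ?_⟩
    have h1 : a' * b⁻¹ * a'⁻¹ ∈ N := conj_mem_of_mem_NN (hAN ha') (N.inv_mem hb.1)
    have : b * a' * b⁻¹ * a'⁻¹ = b * (a' * b⁻¹ * a'⁻¹) := by group
    rw [this]
    exact N.mul_mem hb.1 h1
  have hK : IsPGroup p (Y ⧸ Cen) := by
    intro q
    obtain ⟨y', rfl⟩ := QuotientGroup.mk_surjective q
    obtain ⟨a, b, hab, ha, hb, ⟨k, hk⟩, hbc⟩ := Cfsg.Agent.Lib.PComplement.exists_decomp p (y' : G)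
    have hzp : Subgroup.zpowers (y' : G) ≤ Y := by
      rw [Subgroup.zpowers_le]; exact y'.2
    refine ⟨k, ?_⟩
    have hbC : (⟨b, hzp hb⟩ : Y) ∈ Cen := by
      show b ∈ Subgroup.centralizer (A : Set G)
      rw [Subgroup.mem_centralizer_iff]
      intro a' ha'
      have := hmemC b (hzp hb) hbc a' ha'
      calc a' * b = b * a' * b⁻¹ * b := by rw [this]
        _ = b * a' := by group
    have e1 : y' = ⟨a, hzp ha⟩ * ⟨b, hzp hb⟩ := Subtype.ext hab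
    have e2 : ((y' : Y) : Y ⧸ Cen) = ((⟨a, hzp ha⟩ : Y) : Y ⧸ Cen) := by
      rw [e1, QuotientGroup.mk_mul, (QuotientGroup.eq_one_iff _).mpr hbC, mul_one]
    rw [e2, ← QuotientGroup.mk_pow]
    have : (⟨a, hzp ha⟩ : Y) ^ p ^ k = 1 := Subtype.ext hk
    rw [this]; rfl
  obtain ⟨S, hS⟩ := hD.sylow_exists
  have h1 : ((S : Subgroup Y).map (QuotientGroup.mk' Cen)).index ∣ (S : Subgroup Y).index :=
    Subgroup.index_map_dvd _ (QuotientGroup.mk'_surjective _)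
  obtain ⟨k, hk⟩ := hK.index ((S : Subgroup Y).map (QuotientGroup.mk' Cen))
  have hk0 : k = 0 := by
    by_contra hne
    have h2 : p ∣ ((S : Subgroup Y).map (QuotientGroup.mk' Cen)).index := by
      rw [hk]; exact dvd_pow_self p hne
    exact S.not_dvd_index (h2.trans h1)
  have h3 : (S : Subgroup Y).map (QuotientGroup.mk' Cen) = ⊤ := by
    rw [← Subgroup.index_eq_one, hk, hk0, pow_zero]
  have h4 : ((⟨y, hy⟩ : Y) : Y ⧸ Cen) ∈ (S : Subgroup Y).map (QuotientGroup.mk' Cen) := by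
    rw [h3]; trivial
  obtain ⟨t, ht, e⟩ := h4
  have e' : ((t : Y) : Y ⧸ Cen) = ((⟨y, hy⟩ : Y) : Y ⧸ Cen) := e
  rw [QuotientGroup.eq] at e'
  have htD : (t : G) ∈ D := by
    have : t ∈ D.subgroupOf Y := by rw [← hS]; exact ht
    exact this
  refine ⟨t, htD, fun a ha => ?_⟩
  have e3 : (t : G)⁻¹ * y ∈ Subgroup.centralizer (A : Set G) := e'
  have e4 := Subgroup.mem_centralizer_iff.mp e3 a ha
  have e5 : y = (t : G) * ((t : G)⁻¹ * y) := by group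
  calc y * a * y⁻¹ = (t : G) * (((t : G)⁻¹ * y) * a * ((t : G)⁻¹ * y)⁻¹) * (t : G)⁻¹ := by group
    _ = (t : G) * a * (t : G)⁻¹ := by
        have e6 : ((t : G)⁻¹ * y) * a * ((t : G)⁻¹ * y)⁻¹ = a := by
          rw [← e4]; group
        rw [e6]

end SylAgrees

/-- A `p`-group `P` normalizes `N`, with `P ⊓ N` Sylow in `N`; `M ≤ N` is normalized by `P`, contains `P ⊓ N`,
and controls strong `N`-fusion in `P ⊓ N`. -/
structure Sys (p : ℕ) (N P M : Subgroup G) : Prop where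
  P_p : IsPGroup p P
  PN : P ≤ NN N
  syl : IsSyl p (P ⊓ N) N
  M_le : M ≤ N
  Q_le : P ⊓ N ≤ M
  PM : P ≤ NN M
  ctrl : ∀ B : Subgroup G, B ≤ P ⊓ N → ∀ n ∈ N, (∀ b ∈ B, n * b * n⁻¹ ∈ P ⊓ N) → Agrees M B n

namespace Sys

variable [Finite G] {p : ℕ} [hp : Fact p.Prime] {N P M : Subgroup G}

omit hp in
theorem P_le_NN_Q (S : Sys p N P M) : P ≤ NN (P ⊓ N) := by
  intro u hu
  apply mem_NN_of_forall
  intro x hx
  exact ⟨P.mul_mem (P.mul_mem hu hx.1) (P.inv_mem hu), conj_mem_of_mem_NN (S.PN hu) hx.2⟩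

theorem exists_full (S : Sys p N P M) {A : Subgroup G} (hA : A ≤ P) :
    ∃ l ∈ N, cj l A ≤ P ∧ IsSyl p (P ⊓ N ⊓ NN (cj l A)) (N ⊓ NN (cj l A)) := by
  classical
  let F : Set (Subgroup G) := {A' | A' ≤ P ∧ ∃ l ∈ N, A' = cj l A}
  have hne : F.Nonempty := ⟨A, hA, 1, N.one_mem, (cj_one A).symm⟩
  obtain ⟨As, ⟨hAsP, l, hl, rfl⟩, hmax⟩ := Set.exists_max_image F
    (fun A' => Nat.card ↥(P ⊓ N ⊓ NN A')) (Set.toFinite F) hne
  refine ⟨l, hl, hAsP, ?_⟩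
  set As := cj l A with hAs
  have hAsp : IsPGroup p As := S.P_p.to_le hAsP
  refine isSyl_of_card_le (le_inf (inf_le_left.trans inf_le_right) inf_le_right)
    (S.P_p.to_le (inf_le_left.trans inf_le_left)) ?_
  intro R hRle hR
  have hsup : IsPGroup p ↥(As ⊔ R) :=
    IsPGroup.to_sup_of_normal_left' hAsp hR (hRle.trans inf_le_right)
  have hle : As ⊔ R ≤ As ⊔ N := sup_le_sup_left (hRle.trans inf_le_left) As
  obtain ⟨l', hl', hc⟩ := exists_conj_ext hAsp (hAsP.trans S.PN) (hAsP.trans S.P_le_NN_Q) S.syl hsup hle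
  have hle2 : As ⊔ (P ⊓ N) ≤ P := sup_le hAsP inf_le_left
  have hA' : cj l' As ≤ P := cj_le_iff.mpr fun a ha => hle2 (hc a (Subgroup.mem_sup_left ha))
  have hmem : cj l' As ∈ F := ⟨hA', l' * l, N.mul_mem hl' hl, by rw [cj_mul]⟩
  have hR' : cj l' R ≤ P ⊓ N ⊓ NN (cj l' As) := by
    apply cj_le_iff.mpr
    intro r hr
    refine ⟨⟨hle2 (hc r (Subgroup.mem_sup_right hr)), N.mul_mem (N.mul_mem hl' (hRle hr).1) (N.inv_mem hl')⟩, ?_⟩
    rw [← cj_NN]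
    exact conj_mem_cj (hRle hr).2
  calc Nat.card R = Nat.card (cj l' R) := (card_cj l' R).symm
    _ ≤ Nat.card ↥(P ⊓ N ⊓ NN (cj l' As)) := Subgroup.card_le_of_le hR'
    _ ≤ _ := hmax _ hmem

theorem caseII_full (S : Sys p N P M) {A As : Subgroup G} {n : G} (hA : A ≤ P) (hAs : As ≤ P) (hn : n ∈ N)
    (e : cj n A = As) (hfull : IsSyl p (P ⊓ N ⊓ NN As) (N ⊓ NN As))
    (hcen : ∀ y ∈ N, ∀ b ∈ A ⊓ N, y * b = b * y)
    (IH : ∀ A' : Subgroup G, A' ≤ P → Nat.card A < Nat.card A' → ∀ n ∈ N, (∀ a ∈ A', n * a * n⁻¹ ∈ P) →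
      Agrees (M ⊔ P) A' n) : Agrees (M ⊔ P) A n := by
  -- centrality transfers
  have hcens : ∀ y ∈ N, ∀ b ∈ As ⊓ N, y * b = b * y := by
    intro y hy b hb
    have hb1 : n⁻¹ * b * n ∈ A := by
      have h0 : b ∈ cj n A := by rw [e]; exact hb.1
      exact mem_cj.mp h0
    have hb2 : n⁻¹ * b * n ∈ N := by
      have := N.mul_mem (N.mul_mem (N.inv_mem hn) hb.2) hn; exact this
    have hy' : n⁻¹ * y * n ∈ N := N.mul_mem (N.mul_mem (N.inv_mem hn) hy) hn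
    have h := hcen _ hy' _ ⟨hb1, hb2⟩
    have h2 : n * ((n⁻¹ * y * n) * (n⁻¹ * b * n)) * n⁻¹ = n * ((n⁻¹ * b * n) * (n⁻¹ * y * n)) * n⁻¹ := by rw [h]
    calc y * b = n * ((n⁻¹ * y * n) * (n⁻¹ * b * n)) * n⁻¹ := by group
      _ = n * ((n⁻¹ * b * n) * (n⁻¹ * y * n)) * n⁻¹ := h2
      _ = b * y := by group
  have hAgr : ∀ y ∈ N ⊓ NN As, Agrees (M ⊔ P) As y := by
    intro y hy
    obtain ⟨t, ht, hta⟩ := exists_syl_agrees (S.P_p.to_le hAs) (hAs.trans S.PN) hfull hcens hy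
    exact ⟨t, Subgroup.mem_sup_right ht.1.1, fun a ha => (hta a ha).symm⟩
  set E := P ⊓ N ⊓ NN A with hE
  have hEQ : E ≤ P ⊓ N := inf_le_left
  have hEle : cj n E ≤ N ⊓ NN As := by
    apply cj_le_iff.mpr
    intro b hb
    refine ⟨N.mul_mem (N.mul_mem hn hb.1.2) (N.inv_mem hn), ?_⟩
    rw [← e, ← cj_NN]
    exact conj_mem_cj hb.2
  obtain ⟨d, hd, hdc⟩ := hfull.conj (cj n E) hEle (isPGroup_cj (S.P_p.to_le (hEQ.trans inf_le_left)) n)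
  by_cases hEA : E ≤ A
  · -- then `Q ≤ A`
    have hQA : P ⊓ N ≤ A := by
      by_contra hQA
      have hlt : A < A ⊔ (P ⊓ N) := by
        refine lt_of_le_of_ne le_sup_left fun h => hQA ?_
        rw [h]; exact le_sup_right
      have hTp : IsPGroup p ↥(A ⊔ (P ⊓ N)) := S.P_p.to_le (sup_le hA inf_le_left)
      have hlt2 := lt_inf_NN hTp hlt
      obtain ⟨u, hu, hnu⟩ := SetLike.exists_of_lt hlt2
      obtain ⟨a, ha, q, hq, rfl⟩ := mem_sup_mul (hA.trans S.P_le_NN_Q) hu.1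
      have hq' : q ∈ NN A := by
        have h1 : a * q ∈ NN A := hu.2
        have h2 : a ∈ NN A := Subgroup.le_normalizer ha
        have := (NN A).mul_mem ((NN A).inv_mem h2) h1
        simpa using this
      have hqA : q ∈ A := hEA ⟨hq, hq'⟩
      exact hnu (A.mul_mem ha hqA)
    have hnA : n ∈ NN A := by
      apply mem_NN_of_forall
      intro a ha
      have h1 : n * a * n⁻¹ ∈ P := hAs (by rw [← e]; exact conj_mem_cj ha)
      have h2 : a⁻¹ * (n * a * n⁻¹) ∈ P := P.mul_mem (P.inv_mem (hA ha)) h1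
      have h3 : a⁻¹ * (n * a * n⁻¹) ∈ N := by
        have h4 : a⁻¹ * n * a⁻¹⁻¹ ∈ N := conj_mem_of_mem_NN (S.PN (P.inv_mem (hA ha))) hn
        have : a⁻¹ * (n * a * n⁻¹) = (a⁻¹ * n * a⁻¹⁻¹) * n⁻¹ := by group
        rw [this]
        exact N.mul_mem h4 (N.inv_mem hn)
      have h5 := A.mul_mem ha (hQA ⟨h2, h3⟩)
      simpa using h5
    have hAA : As = A := by rw [← e]; exact cj_eq_of_mem_NN hnA
    subst hAA
    exact hAgr n ⟨hn, hnA⟩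
  · set T := A ⊔ E with hT
    have hlt : A < T := by
      refine lt_of_le_of_ne le_sup_left fun h => hEA ?_
      rw [h]; exact le_sup_right
    have hTP : T ≤ P := sup_le hA (hEQ.trans inf_le_left)
    have hn1 : d * n ∈ N := N.mul_mem hd.1 hn
    have hmaps : ∀ a ∈ T, (d * n) * a * (d * n)⁻¹ ∈ P := by
      have : T ≤ P.comap (MulAut.conj (d * n)).toMonoidHom := by
        apply sup_le
        · intro a ha
          show (d * n) * a * (d * n)⁻¹ ∈ P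
          have h1 : n * a * n⁻¹ ∈ As := by rw [← e]; exact conj_mem_cj ha
          have h2 := conj_mem_of_mem_NN hd.2 h1
          have : (d * n) * a * (d * n)⁻¹ = d * (n * a * n⁻¹) * d⁻¹ := by group
          rw [this]; exact hAs h2
        · intro b hb
          show (d * n) * b * (d * n)⁻¹ ∈ P
          have h2 := hdc _ (conj_mem_cj (g := n) hb)
          have : (d * n) * b * (d * n)⁻¹ = d * ((MulAut.conj n).toMonoidHom b) * d⁻¹ := by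
            show _ = d * (n * b * n⁻¹) * d⁻¹
            group
          rw [this]; exact h2.1.1
      exact fun a ha => this ha
    have h1 : Agrees (M ⊔ P) A (d * n) :=
      (IH T hTP (card_lt_of_lt hlt) _ hn1 hmaps).mono le_sup_left
    have h2 : cj (d * n) A = As := by
      rw [cj_mul, e]; exact cj_eq_of_mem_NN hd.2
    have h3 : Agrees (M ⊔ P) (cj (d * n) A) d⁻¹ := by
      rw [h2]
      exact hAgr d⁻¹ ((N ⊓ NN As).inv_mem hd)
    have := h1.comp h3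
    simpa using this

/-- Case II: `A ⊓ N` is central in `N`. -/
theorem caseII (S : Sys p N P M) {A : Subgroup G} {n : G} (hA : A ≤ P) (hn : n ∈ N)
    (hT : ∀ a ∈ A, n * a * n⁻¹ ∈ P)
    (hcen : ∀ y ∈ N, ∀ b ∈ A ⊓ N, y * b = b * y)
    (IH : ∀ A' : Subgroup G, A' ≤ P → Nat.card A < Nat.card A' → ∀ n ∈ N, (∀ a ∈ A', n * a * n⁻¹ ∈ P) →
      Agrees (M ⊔ P) A' n) : Agrees (M ⊔ P) A n := by
  have hA1 : cj n A ≤ P := cj_le_iff.mpr hT
  obtain ⟨l, hl, hlP, hfull⟩ := S.exists_full hA1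
  have e1 : cj (l * n) A = cj l (cj n A) := cj_mul l n A
  have h1 : Agrees (M ⊔ P) A (l * n) :=
    S.caseII_full hA hlP (N.mul_mem hl hn) e1 hfull hcen IH
  have hcen1 : ∀ y ∈ N, ∀ b ∈ cj n A ⊓ N, y * b = b * y := by
    intro y hy b hb
    have hb1 : n⁻¹ * b * n ∈ A := mem_cj.mp hb.1
    have hb2 : n⁻¹ * b * n ∈ N := N.mul_mem (N.mul_mem (N.inv_mem hn) hb.2) hn
    have hy' : n⁻¹ * y * n ∈ N := N.mul_mem (N.mul_mem (N.inv_mem hn) hy) hn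
    have h := hcen _ hy' _ ⟨hb1, hb2⟩
    have h2 : n * ((n⁻¹ * y * n) * (n⁻¹ * b * n)) * n⁻¹ = n * ((n⁻¹ * b * n) * (n⁻¹ * y * n)) * n⁻¹ := by rw [h]
    calc y * b = n * ((n⁻¹ * y * n) * (n⁻¹ * b * n)) * n⁻¹ := by group
      _ = n * ((n⁻¹ * b * n) * (n⁻¹ * y * n)) * n⁻¹ := h2
      _ = b * y := by group
  have h2 : Agrees (M ⊔ P) (cj n A) l :=
    S.caseII_full hA1 hlP hl rfl hfull hcen1 (by
      intro A' hA' hc n' hn' hm
      exact IH A' hA' (by rwa [card_cj] at hc) n' hn' hm)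
  have h3 : Agrees (M ⊔ P) (cj (l * n) A) l⁻¹ := by
    rw [e1]; exact h2.inv
  have := h1.comp h3
  simpa using this

end Sys


section Helpers

variable [Finite G]

omit [Finite G] in
theorem Agrees_mono_left {X X' Q : Subgroup G} {g : G} (h : Agrees X Q g) (hX : X ≤ X') : Agrees X' Q g := by
  obtain ⟨x, hx, hxa⟩ := h
  exact ⟨x, hX hx, hxa⟩

theorem centr_conj {U : Subgroup G} {e y : G} (he : e ∈ NN U) (hy : y ∈ Subgroup.centralizer (U : Set G)) :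
    e * y * e⁻¹ ∈ Subgroup.centralizer (U : Set G) := by
  rw [Subgroup.mem_centralizer_iff]
  intro c hc
  have hc' : e⁻¹ * c * e⁻¹⁻¹ ∈ U := conj_mem_of_mem_NN ((NN U).inv_mem he) hc
  have h := Subgroup.mem_centralizer_iff.mp hy _ hc'
  calc c * (e * y * e⁻¹) = e * ((e⁻¹ * c * e⁻¹⁻¹) * y) * e⁻¹ := by group
    _ = e * (y * (e⁻¹ * c * e⁻¹⁻¹)) * e⁻¹ := by rw [h]
    _ = e * y * e⁻¹ * c := by group

theorem centr_le_NN (U : Subgroup G) : Subgroup.centralizer (U : Set G) ≤ NN U := by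
  intro y hy
  apply mem_NN_of_forall
  intro x hx
  have h := Subgroup.mem_centralizer_iff.mp hy x hx
  rw [← h]
  simpa using hx

end Helpers

namespace Sys

variable [Finite G] {p : ℕ} [hp : Fact p.Prime] {N P M : Subgroup G}

omit hp in
theorem X_le_NN_N (S : Sys p N P M) : M ⊔ P ≤ NN N :=
  sup_le (S.M_le.trans Subgroup.le_normalizer) S.PN

omit hp in
theorem X_le_NN_M (S : Sys p N P M) : M ⊔ P ≤ NN M := sup_le Subgroup.le_normalizer S.PM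

omit hp in
theorem mem_X (S : Sys p N P M) {x : G} (hx : x ∈ M ⊔ P) : ∃ m ∈ M, ∃ u ∈ P, x = m * u := by
  rw [sup_comm] at hx
  exact mem_sup_mul' S.PM hx

omit hp in
theorem mem_M_of_mem_X_N (S : Sys p N P M) {x : G} (hx : x ∈ M ⊔ P) (hN : x ∈ N) : x ∈ M := by
  obtain ⟨m, hm, u, hu, rfl⟩ := S.mem_X hx
  have hu' : u ∈ N := by
    have := N.mul_mem (N.inv_mem (S.M_le hm)) hN
    simpa using this
  exact M.mul_mem hm (S.Q_le ⟨hu, hu'⟩)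

theorem isSyl_P_X (S : Sys p N P M) : IsSyl p P (M ⊔ P) := by
  have hQM : IsSyl p (P ⊓ N) M := by
    refine isSyl_of_card_le S.Q_le (S.P_p.to_le inf_le_left) ?_
    intro R hR hRp
    obtain ⟨h, _, hc⟩ := S.syl.conj R (hR.trans S.M_le) hRp
    calc Nat.card R = Nat.card (cj h R) := (card_cj h R).symm
      _ ≤ _ := Subgroup.card_le_of_le (cj_le_iff.mpr hc)
  have := isSyl_sup S.P_p S.PM S.P_le_NN_Q hQM
  rwa [sup_inf_self, sup_comm] at this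

/-- Case I: `A ⊓ N` is not central in `N`: pass to the centralizer in `N` of a fully normalized conjugate. -/
theorem caseI (S : Sys p N P M)
    (OIH : ∀ N' P' M' : Subgroup G, Nat.card N' < Nat.card N → Sys p N' P' M' →
      ∀ A : Subgroup G, A ≤ P' → ∀ n ∈ N', (∀ a ∈ A, n * a * n⁻¹ ∈ P') → Agrees (M' ⊔ P') A n)
    {A : Subgroup G} {n : G} (hA : A ≤ P) (hn : n ∈ N) (hT : ∀ a ∈ A, n * a * n⁻¹ ∈ P)
    (hnc : ¬ ∀ y ∈ N, ∀ b ∈ A ⊓ N, y * b = b * y) : Agrees (M ⊔ P) A n := by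
  classical
  obtain ⟨X, hX⟩ : ∃ X, X = M ⊔ P := ⟨_, rfl⟩
  rw [← hX]
  have hXN : X ≤ NN N := hX ▸ S.X_le_NN_N
  have hXM : X ≤ NN M := hX ▸ S.X_le_NN_M
  have hPX : IsSyl p P X := hX ▸ S.isSyl_P_X
  have hPX' : P ≤ X := hX ▸ le_sup_right
  have hMX : M ≤ X := hX ▸ le_sup_left
  have hQX : P ⊓ N ≤ X := inf_le_left.trans hPX'
  have hmemX : ∀ {x : G}, x ∈ X → ∃ m ∈ M, ∃ u ∈ P, x = m * u := fun {x} hx => S.mem_X (hX ▸ hx)
  have hXNM : ∀ {x : G}, x ∈ X → x ∈ N → x ∈ M := fun {x} hx hN => S.mem_M_of_mem_X_N (hX ▸ hx) hN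
  obtain ⟨A₀, hA₀⟩ : ∃ A₀, A₀ = A ⊓ N := ⟨_, rfl⟩
  have hA₀Q : A₀ ≤ P ⊓ N := by rw [hA₀]; exact le_inf (inf_le_left.trans hA) inf_le_right
  -- the family of conjugates of `A₀`
  let F : Set (Subgroup G) := {U | U ≤ P ⊓ N ∧ ∃ x ∈ X, U = cj x A₀}
  have hne : F.Nonempty := ⟨A₀, hA₀Q, 1, X.one_mem, (cj_one _).symm⟩
  obtain ⟨Us, ⟨hUsQ, x₀, hx₀, hUs⟩, hmax⟩ := Set.exists_max_image F
    (fun U => Nat.card ↥(P ⊓ NN U)) (Set.toFinite F) hne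
  have hUsp : IsPGroup p Us := S.P_p.to_le (hUsQ.trans inf_le_left)
  obtain ⟨PU, hPU⟩ : ∃ PU, PU = P ⊓ NN Us := ⟨_, rfl⟩
  obtain ⟨XU, hXU⟩ : ∃ XU, XU = X ⊓ NN Us := ⟨_, rfl⟩
  have hPUP : PU ≤ P := hPU ▸ inf_le_left
  have hPUp : IsPGroup p PU := S.P_p.to_le hPUP
  have hXUX : XU ≤ X := hXU ▸ inf_le_left
  have hXUN : XU ≤ NN Us := hXU ▸ inf_le_right
  have hPUX : PU ≤ XU := by rw [hPU, hXU]; exact inf_le_inf_right _ hPX'
  have hsyl : IsSyl p PU XU := by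
    refine isSyl_of_card_le hPUX hPUp ?_
    intro R hRle hR
    have hsup : IsPGroup p ↥(R ⊔ Us) :=
      IsPGroup.to_sup_of_normal_right' hR hUsp (hRle.trans hXUN)
    have hle : R ⊔ Us ≤ X := sup_le (hRle.trans hXUX) (hUsQ.trans hQX)
    obtain ⟨l, hl, hc⟩ := hPX.conj _ hle hsup
    have hU'P : cj l Us ≤ P := cj_le_iff.mpr fun a ha => hc a (Subgroup.mem_sup_right ha)
    have hU'N : cj l Us ≤ N := cj_le_iff.mpr fun a ha => conj_mem_of_mem_NN (hXN hl) (hUsQ ha).2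
    have hmem : cj l Us ∈ F := ⟨le_inf hU'P hU'N, l * x₀, X.mul_mem hl hx₀, by rw [cj_mul, hUs]⟩
    have hR' : cj l R ≤ P ⊓ NN (cj l Us) := by
      apply cj_le_iff.mpr
      intro r hr
      refine ⟨hc r (Subgroup.mem_sup_left hr), ?_⟩
      rw [← cj_NN]
      exact conj_mem_cj (hXUN (hRle hr))
    calc Nat.card R = Nat.card (cj l R) := (card_cj l R).symm
      _ ≤ Nat.card ↥(P ⊓ NN (cj l Us)) := Subgroup.card_le_of_le hR'
      _ ≤ Nat.card ↥(P ⊓ NN Us) := hmax _ hmem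
      _ = Nat.card PU := by rw [hPU]
  -- moving subgroups of `P`
  have hmove : ∀ B : Subgroup G, B ≤ P → ∀ x ∈ X, cj x (B ⊓ N) = Us →
      ∃ t ∈ X, cj t B ≤ PU ∧ cj t (B ⊓ N) = Us := by
    intro B hB x hx e
    have hle : cj x B ≤ XU := by
      apply cj_le_iff.mpr
      intro a ha
      rw [hXU]
      refine ⟨X.mul_mem (X.mul_mem hx (hPX' (hB ha))) (X.inv_mem hx), ?_⟩
      rw [← e, ← cj_NN]
      apply conj_mem_cj
      apply mem_NN_of_forall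
      intro y hy
      exact ⟨B.mul_mem (B.mul_mem ha hy.1) (B.inv_mem ha), conj_mem_of_mem_NN (S.PN (hB ha)) hy.2⟩
    obtain ⟨e', he', hc⟩ := hsyl.conj _ hle (isPGroup_cj (S.P_p.to_le hB) x)
    refine ⟨e' * x, X.mul_mem (hXUX he') hx, ?_, ?_⟩
    · rw [cj_mul]; exact cj_le_iff.mpr hc
    · rw [cj_mul, e]; exact cj_eq_of_mem_NN (hXUN he')
  obtain ⟨t, ht, htA, htU⟩ := hmove A hA x₀ hx₀ (by rw [← hA₀]; exact hUs.symm)
  rw [← hA₀] at htU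
  obtain ⟨A₁, hA₁⟩ : ∃ A₁, A₁ = cj n A := ⟨_, rfl⟩
  have hA₁P : A₁ ≤ P := hA₁ ▸ cj_le_iff.mpr hT
  have hA₁N : A₁ ⊓ N = cj n A₀ := by
    ext y
    rw [hA₁, hA₀, Subgroup.mem_inf, mem_cj, mem_cj, Subgroup.mem_inf]
    constructor
    · rintro ⟨h1, h2⟩
      exact ⟨h1, N.mul_mem (N.mul_mem (N.inv_mem hn) h2) hn⟩
    · rintro ⟨h1, h2⟩
      refine ⟨h1, ?_⟩
      have := N.mul_mem (N.mul_mem hn h2) (N.inv_mem hn)
      have e : n * (n⁻¹ * y * n) * n⁻¹ = y := by group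
      rwa [e] at this
  obtain ⟨m, hm, hmag⟩ := S.ctrl A₀ hA₀Q n hn (fun b hb => by
    have hb' : b ∈ A ⊓ N := hA₀ ▸ hb
    exact ⟨hT b hb'.1, N.mul_mem (N.mul_mem hn hb'.2) (N.inv_mem hn)⟩)
  have hcjm : cj m A₀ = cj n A₀ := by
    ext y
    constructor
    · rintro ⟨a, ha, rfl⟩
      exact ⟨a, ha, (hmag a ha).symm⟩
    · rintro ⟨a, ha, rfl⟩
      exact ⟨a, ha, hmag a ha⟩
  have hx₁ : cj (x₀ * m⁻¹) (A₁ ⊓ N) = Us := by
    rw [hA₁N, ← hcjm, cj_mul, ← cj_mul m⁻¹ m, inv_mul_cancel, cj_one, ← hUs]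
  obtain ⟨t₁, ht₁, ht₁A, ht₁U⟩ := hmove A₁ hA₁P (x₀ * m⁻¹) (X.mul_mem hx₀ (X.inv_mem (hMX hm))) hx₁
  -- the element `n'`
  obtain ⟨n', hn'⟩ : ∃ n', n' = t₁ * n * t⁻¹ := ⟨_, rfl⟩
  have hn't : n' * t = t₁ * n := by rw [hn']; group
  have hn'A : cj n' (cj t A) = cj t₁ A₁ := by rw [← cj_mul, hn't, cj_mul, hA₁]
  have hn'U : cj n' Us = Us := by
    conv_lhs => rw [← htU]
    rw [← cj_mul, hn't, cj_mul, ← hA₁N, ht₁U]
  have hn'NN : n' ∈ NN Us := by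
    apply mem_NN_of_forall
    intro y hy
    have := conj_mem_cj (g := n') hy
    rwa [hn'U] at this
  obtain ⟨m₁, hm₁, u₁, hu₁, e₁⟩ := hmemX ht₁
  obtain ⟨m₂, hm₂, u₂, hu₂, e₂⟩ := hmemX ht
  obtain ⟨u₀, hu₀def⟩ : ∃ u₀, u₀ = u₁ * u₂⁻¹ := ⟨_, rfl⟩
  have hu₀ : u₀ ∈ P := hu₀def ▸ P.mul_mem hu₁ (P.inv_mem hu₂)
  obtain ⟨n₀, hn₀def⟩ : ∃ n₀, n₀ = m₁ * (u₁ * n * u₁⁻¹) * (u₀ * m₂⁻¹ * u₀⁻¹) := ⟨_, rfl⟩
  have hn₀ : n₀ ∈ N := by
    rw [hn₀def]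
    exact N.mul_mem (N.mul_mem (S.M_le hm₁) (conj_mem_of_mem_NN (S.PN hu₁) hn))
      (conj_mem_of_mem_NN (S.PN hu₀) (S.M_le (M.inv_mem hm₂)))
  have en' : n' = n₀ * u₀ := by
    rw [hn', hn₀def, e₁, e₂, hu₀def]; group
  obtain ⟨B, hB⟩ : ∃ B, B = cj u₀ Us := ⟨_, rfl⟩
  have hBQ : B ≤ P ⊓ N := by
    rw [hB]
    exact cj_le_iff.mpr fun a ha => conj_mem_of_mem_NN (S.P_le_NN_Q hu₀) (hUsQ ha)
  have hn₀B : ∀ b ∈ B, n₀ * b * n₀⁻¹ ∈ P ⊓ N := by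
    intro b hb
    rw [hB] at hb
    obtain ⟨c, hc, rfl⟩ := hb
    have e : n₀ * (MulAut.conj u₀).toMonoidHom c * n₀⁻¹ = n' * c * n'⁻¹ := by
      rw [en']
      show n₀ * (u₀ * c * u₀⁻¹) * n₀⁻¹ = _
      group
    rw [e]
    exact hUsQ (conj_mem_of_mem_NN hn'NN hc)
  obtain ⟨m₀, hm₀, hm₀a⟩ := S.ctrl B hBQ n₀ hn₀ hn₀B
  obtain ⟨h, hhdef⟩ : ∃ h, h = m₀ * u₀ := ⟨_, rfl⟩
  have hhX : h ∈ X := hhdef ▸ X.mul_mem (hMX hm₀) (hPX' hu₀)
  obtain ⟨c', hc'def⟩ : ∃ c', c' = h⁻¹ * n' := ⟨_, rfl⟩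
  have hc'N : c' ∈ N := by
    have e : c' = u₀⁻¹ * (m₀⁻¹ * n₀) * u₀⁻¹⁻¹ := by
      rw [hc'def, hhdef, en']; group
    rw [e]
    exact conj_mem_of_mem_NN (S.PN (P.inv_mem hu₀)) (N.mul_mem (N.inv_mem (S.M_le hm₀)) hn₀)
  have hhact : ∀ c ∈ Us, h * c * h⁻¹ = n' * c * n'⁻¹ := by
    intro c hc
    have hb : u₀ * c * u₀⁻¹ ∈ B := by rw [hB]; exact conj_mem_cj hc
    have := hm₀a _ hb
    calc h * c * h⁻¹ = m₀ * (u₀ * c * u₀⁻¹) * m₀⁻¹ := by rw [hhdef]; group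
      _ = n₀ * (u₀ * c * u₀⁻¹) * n₀⁻¹ := this
      _ = n' * c * n'⁻¹ := by rw [en']; group
  have hc'cen : c' ∈ Subgroup.centralizer (Us : Set G) := by
    rw [Subgroup.mem_centralizer_iff]
    intro c hc
    have h1 := hhact c hc
    have h2 : c' * c * c'⁻¹ = c := by
      calc c' * c * c'⁻¹ = h⁻¹ * (n' * c * n'⁻¹) * h := by rw [hc'def]; group
        _ = h⁻¹ * (h * c * h⁻¹) * h := by rw [h1]
        _ = c := by group
    calc c * c' = c' * c * c'⁻¹ * c' := by rw [h2]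
      _ = c' * c := by group
  have hhNN : h ∈ NN Us := by
    apply mem_NN_of_forall
    intro c hc
    rw [hhact c hc]
    exact conj_mem_of_mem_NN hn'NN hc
  have hhXU : h ∈ XU := hXU ▸ ⟨hhX, hhNN⟩
  obtain ⟨C, hC⟩ : ∃ C, C = N ⊓ Subgroup.centralizer (Us : Set G) := ⟨_, rfl⟩
  obtain ⟨Ch, hCh⟩ : ∃ Ch, Ch = M ⊓ Subgroup.centralizer (Us : Set G) := ⟨_, rfl⟩
  obtain ⟨K₀, hK₀⟩ : ∃ K₀, K₀ = P ⊓ N ⊓ Subgroup.centralizer (Us : Set G) := ⟨_, rfl⟩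
  have hmemC : ∀ {y : G}, y ∈ C ↔ y ∈ N ∧ y ∈ Subgroup.centralizer (Us : Set G) := by
    intro y; rw [hC]; exact Subgroup.mem_inf
  have hmemCh : ∀ {y : G}, y ∈ Ch ↔ y ∈ M ∧ y ∈ Subgroup.centralizer (Us : Set G) := by
    intro y; rw [hCh]; exact Subgroup.mem_inf
  have hmemK : ∀ {y : G}, y ∈ K₀ ↔ y ∈ P ∧ y ∈ N ∧ y ∈ Subgroup.centralizer (Us : Set G) := by
    intro y; rw [hK₀, Subgroup.mem_inf, Subgroup.mem_inf, and_assoc]
  have hc'C : c' ∈ C := hmemC.mpr ⟨hc'N, hc'cen⟩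
  have hNNC : ∀ {e : G}, e ∈ XU → ∀ y ∈ C, e * y * e⁻¹ ∈ C := by
    intro e he y hy
    rw [hmemC] at hy ⊢
    exact ⟨conj_mem_of_mem_NN (hXN (hXUX he)) hy.1, centr_conj (hXUN he) hy.2⟩
  have hNNCh : ∀ {e : G}, e ∈ XU → ∀ y ∈ Ch, e * y * e⁻¹ ∈ Ch := by
    intro e he y hy
    rw [hmemCh] at hy ⊢
    exact ⟨conj_mem_of_mem_NN (hXM (hXUX he)) hy.1, centr_conj (hXUN he) hy.2⟩
  have hNNK : ∀ {u : G}, u ∈ PU → ∀ y ∈ K₀, u * y * u⁻¹ ∈ K₀ := by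
    intro u hu y hy
    rw [hmemK] at hy ⊢
    exact ⟨P.mul_mem (P.mul_mem (hPUP hu) hy.1) (P.inv_mem (hPUP hu)),
      conj_mem_of_mem_NN (S.PN (hPUP hu)) hy.2.1,
      centr_conj (hXUN (hPUX hu)) hy.2.2⟩
  have hKp : IsPGroup p K₀ := S.P_p.to_le (by
    intro y hy; exact (hmemK.mp hy).1)
  have hKC : K₀ ≤ C := fun y hy => hmemC.mpr ⟨(hmemK.mp hy).2.1, (hmemK.mp hy).2.2⟩
  have hKCh : K₀ ≤ Ch := fun y hy =>
    hmemCh.mpr ⟨S.Q_le ⟨(hmemK.mp hy).1, (hmemK.mp hy).2.1⟩, (hmemK.mp hy).2.2⟩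
  have hChC : Ch ≤ C := fun y hy => hmemC.mpr ⟨S.M_le (hmemCh.mp hy).1, (hmemCh.mp hy).2⟩
  have hChXU : Ch ≤ XU := fun y hy => by
    rw [hXU]
    exact ⟨hMX (hmemCh.mp hy).1, centr_le_NN Us (hmemCh.mp hy).2⟩
  have hKPU : K₀ ≤ PU := fun y hy => by
    rw [hPU]
    exact ⟨(hmemK.mp hy).1, centr_le_NN Us (hmemK.mp hy).2.2⟩
  -- `K₀` is Sylow in `C`
  have hKsyl : IsSyl p K₀ C := by
    refine isSyl_of_card_le hKC hKp ?_
    intro R hRC hR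
    have hRcen : R ≤ Subgroup.centralizer (Us : Set G) := fun r hr => (hmemC.mp (hRC hr)).2
    have hRN : R ≤ N := fun r hr => (hmemC.mp (hRC hr)).1
    have hsup : IsPGroup p ↥(R ⊔ Us) :=
      IsPGroup.to_sup_of_normal_right' hR hUsp (hRcen.trans (centr_le_NN Us))
    have hle : R ⊔ Us ≤ N := sup_le hRN (hUsQ.trans inf_le_right)
    obtain ⟨l, hl, hlc⟩ := S.syl.conj _ hle hsup
    obtain ⟨m', hm', hm'a⟩ := S.ctrl Us hUsQ l hl (fun c hc => hlc c (Subgroup.mem_sup_right hc))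
    have hc₁ : m'⁻¹ * l ∈ Subgroup.centralizer (Us : Set G) := by
      rw [Subgroup.mem_centralizer_iff]
      intro c hc
      have h1 := hm'a c hc
      have h2 : (m'⁻¹ * l) * c * (m'⁻¹ * l)⁻¹ = c := by
        calc (m'⁻¹ * l) * c * (m'⁻¹ * l)⁻¹ = m'⁻¹ * (l * c * l⁻¹) * m' := by group
          _ = m'⁻¹ * (m' * c * m'⁻¹) * m' := by rw [h1]
          _ = c := by group
      calc c * (m'⁻¹ * l) = (m'⁻¹ * l) * c * (m'⁻¹ * l)⁻¹ * (m'⁻¹ * l) := by rw [h2]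
        _ = (m'⁻¹ * l) * c := by group
    have hR₃ : cj (m'⁻¹ * l) R ≤ Ch := by
      apply cj_le_iff.mpr
      intro r hr
      apply hmemCh.mpr
      constructor
      · have e : (m'⁻¹ * l) * r * (m'⁻¹ * l)⁻¹ = m'⁻¹ * (l * r * l⁻¹) * m'⁻¹⁻¹ := by group
        rw [e]
        exact M.mul_mem (M.mul_mem (M.inv_mem hm') (S.Q_le (hlc r (Subgroup.mem_sup_left hr)))) (M.inv_mem (M.inv_mem hm'))
      · exact Subgroup.mul_mem _ (Subgroup.mul_mem _ hc₁ (hRcen hr)) (Subgroup.inv_mem _ hc₁)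
    have hR₃p : IsPGroup p ↥(cj (m'⁻¹ * l) R) := isPGroup_cj hR _
    obtain ⟨e', he', he'c⟩ := hsyl.conj _ (hR₃.trans hChXU) hR₃p
    have hK : cj e' (cj (m'⁻¹ * l) R) ≤ K₀ := by
      apply cj_le_iff.mpr
      intro r hr
      have h1 := hNNCh he' r (hR₃ hr)
      have h2 := he'c r hr
      exact hmemK.mpr ⟨hPUP h2, S.M_le (hmemCh.mp h1).1, (hmemCh.mp h1).2⟩
    calc Nat.card R = Nat.card (cj (m'⁻¹ * l) R) := (card_cj _ R).symm
      _ = Nat.card (cj e' (cj (m'⁻¹ * l) R)) := (card_cj _ _).symm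
      _ ≤ Nat.card K₀ := Subgroup.card_le_of_le hK
  have hKsyl' : IsSyl p K₀ Ch := by
    refine isSyl_of_card_le hKCh hKp ?_
    intro R hR hRp
    obtain ⟨k, _, hk⟩ := hKsyl.conj R (hR.trans hChC) hRp
    calc Nat.card R = Nat.card (cj k R) := (card_cj k R).symm
      _ ≤ _ := Subgroup.card_le_of_le (cj_le_iff.mpr hk)
  -- the subgroups `A'`, `A''`, `A₂`
  obtain ⟨A', hA'⟩ : ∃ A', A' = cj t A := ⟨_, rfl⟩
  have hA'PU : A' ≤ PU := hA' ▸ htA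
  have hA'p : IsPGroup p A' := hPUp.to_le hA'PU
  have hnhc : n' = h * c' := by rw [hc'def]; group
  have hA'' : cj c' A' = cj h⁻¹ (cj t₁ A₁) := by
    rw [← hn'A, ← hA', ← cj_mul, hnhc]
    congr 1
    group
  have hA''le : cj c' A' ≤ XU := by
    rw [hA'']
    apply cj_le_iff.mpr
    intro a ha
    exact XU.mul_mem (XU.mul_mem (XU.inv_mem hhXU) (hPUX (ht₁A ha))) (XU.inv_mem (XU.inv_mem hhXU))
  obtain ⟨e, he, hec⟩ := hsyl.conj _ hA''le (isPGroup_cj hA'p c')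
  obtain ⟨A₂, hA₂⟩ : ∃ A₂, A₂ = cj e (cj c' A') := ⟨_, rfl⟩
  have hA₂PU : A₂ ≤ PU := hA₂ ▸ cj_le_iff.mpr hec
  have hA₂p : IsPGroup p A₂ := hPUp.to_le hA₂PU
  have hA₂XU : A₂ ≤ XU := hA₂PU.trans hPUX
  have hUle : cj e A' ≤ A₂ ⊔ Ch := by
    apply cj_le_iff.mpr
    intro a ha
    have haPU := hA'PU ha
    have haN : a ∈ NN N := S.PN (hPUP haPU)
    have ha₂ : e * (c' * a * c'⁻¹) * e⁻¹ ∈ A₂ := by
      rw [hA₂]
      exact conj_mem_cj (conj_mem_cj ha)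
    have hw : c' * a * c'⁻¹ * a⁻¹ ∈ C := by
      have h1 : a * c'⁻¹ * a⁻¹ ∈ C := hNNC (hPUX haPU) _ (C.inv_mem hc'C)
      have e1 : c' * a * c'⁻¹ * a⁻¹ = c' * (a * c'⁻¹ * a⁻¹) := by group
      rw [e1]
      exact C.mul_mem hc'C h1
    have hc₂C : e * (c' * a * c'⁻¹ * a⁻¹) * e⁻¹ ∈ C := hNNC he _ hw
    have e2 : e * (c' * a * c'⁻¹ * a⁻¹) * e⁻¹ = (e * (c' * a * c'⁻¹) * e⁻¹) * (e * a * e⁻¹)⁻¹ := by group
    have hc₂X : e * (c' * a * c'⁻¹ * a⁻¹) * e⁻¹ ∈ X := by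
      rw [e2]
      refine X.mul_mem (hXUX (hA₂XU ha₂)) (X.inv_mem ?_)
      exact X.mul_mem (X.mul_mem (hXUX he) (hXUX (hPUX haPU))) (X.inv_mem (hXUX he))
    have hc₂Ch : e * (c' * a * c'⁻¹ * a⁻¹) * e⁻¹ ∈ Ch :=
      hmemCh.mpr ⟨hXNM hc₂X (hmemC.mp hc₂C).1, (hmemC.mp hc₂C).2⟩
    -- `e a e⁻¹ = c₂⁻¹ a₂`
    have e4 : e * a * e⁻¹ = (e * (c' * a * c'⁻¹ * a⁻¹) * e⁻¹)⁻¹ * (e * (c' * a * c'⁻¹) * e⁻¹) := by group
    rw [e4]
    exact Subgroup.mul_mem _ (Subgroup.mem_sup_right (Ch.inv_mem hc₂Ch)) (Subgroup.mem_sup_left ha₂)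
  have hA₂Ch : A₂ ≤ NN Ch := fun u hu => mem_NN_of_forall (hNNCh (hA₂XU hu))
  have hA₂K : A₂ ≤ NN K₀ := fun u hu => mem_NN_of_forall (hNNK (hA₂PU hu))
  obtain ⟨c₃, hc₃, hc₃c⟩ := exists_conj_ext hA₂p hA₂Ch hA₂K hKsyl' (isPGroup_cj hA'p e) hUle
  have hsupPU : A₂ ⊔ K₀ ≤ PU := sup_le hA₂PU hKPU
  obtain ⟨e₂, he₂⟩ : ∃ e₂, e₂ = c₃ * e := ⟨_, rfl⟩
  have he₂X : e₂ ∈ X := he₂ ▸ X.mul_mem (hMX (hmemCh.mp hc₃).1) (hXUX he)
  obtain ⟨A₃, hA₃⟩ : ∃ A₃, A₃ = cj e₂ A' := ⟨_, rfl⟩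
  have hA₃PU : A₃ ≤ PU := by
    rw [hA₃]
    apply cj_le_iff.mpr
    intro a ha
    have := hc₃c _ (conj_mem_cj (g := e) ha)
    have e0 : c₃ * (e * a * e⁻¹) * c₃⁻¹ = e₂ * a * e₂⁻¹ := by
      rw [he₂]
      group
    rw [e0] at this
    exact hsupPU this
  obtain ⟨n₃, hn₃⟩ : ∃ n₃, n₃ = e * c' := ⟨_, rfl⟩
  obtain ⟨x', hx'⟩ : ∃ x', x' = n₃ * e₂⁻¹ := ⟨_, rfl⟩
  have hx'C : x' ∈ C := by
    have e0 : x' = (e * c' * e⁻¹) * c₃⁻¹ := by rw [hx', hn₃, he₂]; group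
    rw [e0]
    exact C.mul_mem (hNNC he _ hc'C) (C.inv_mem (hChC hc₃))
  have hx'maps : ∀ a ∈ A₃, x' * a * x'⁻¹ ∈ PU := by
    intro a ha
    rw [hA₃] at ha
    obtain ⟨b, hb, rfl⟩ := ha
    have e0 : x' * (MulAut.conj e₂).toMonoidHom b * x'⁻¹ = e * (c' * b * c'⁻¹) * e⁻¹ := by
      rw [hx', hn₃]
      show (e * c' * e₂⁻¹) * (e₂ * b * e₂⁻¹) * (e * c' * e₂⁻¹)⁻¹ = _
      group
    rw [e0]
    apply hA₂PU
    rw [hA₂]
    exact conj_mem_cj (conj_mem_cj hb)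
  -- the smaller system
  have hPUC : PU ⊓ C = K₀ := by
    ext y
    rw [Subgroup.mem_inf, hmemC, hmemK, hPU, Subgroup.mem_inf]
    constructor
    · rintro ⟨⟨h1, _⟩, h2, h3⟩
      exact ⟨h1, h2, h3⟩
    · rintro ⟨h1, h2, h3⟩
      exact ⟨⟨h1, centr_le_NN Us h3⟩, h2, h3⟩
  have S₂ : Sys p C PU Ch := by
    refine ⟨hPUp, fun u hu => mem_NN_of_forall (hNNC (hPUX hu)), by rw [hPUC]; exact hKsyl, hChC,
      by rw [hPUC]; exact hKCh, fun u hu => mem_NN_of_forall (hNNCh (hPUX hu)), ?_⟩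
    intro B' hB' y hy hyB
    rw [hPUC] at hB' hyB
    have hyN := (hmemC.mp hy).1
    have hycen := (hmemC.mp hy).2
    have hB₂Q : B' ⊔ Us ≤ P ⊓ N := sup_le
      (fun b hb => ⟨(hmemK.mp (hB' hb)).1, (hmemK.mp (hB' hb)).2.1⟩) hUsQ
    have hymaps : ∀ b ∈ B' ⊔ Us, y * b * y⁻¹ ∈ P ⊓ N := by
      have : B' ⊔ Us ≤ (P ⊓ N).comap (MulAut.conj y).toMonoidHom := by
        apply sup_le
        · intro b hb
          have := hmemK.mp (hyB b hb)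
          exact ⟨this.1, this.2.1⟩
        · intro c hc
          show y * c * y⁻¹ ∈ P ⊓ N
          have h1 := Subgroup.mem_centralizer_iff.mp hycen c hc
          rw [← h1]
          simpa using hUsQ hc
      exact fun b hb => this hb
    obtain ⟨m', hm', hm'a⟩ := S.ctrl _ hB₂Q y hyN hymaps
    refine ⟨m', hmemCh.mpr ⟨hm', ?_⟩, fun b hb => hm'a b (Subgroup.mem_sup_left hb)⟩
    rw [Subgroup.mem_centralizer_iff]
    intro c hc
    have h1 := hm'a c (Subgroup.mem_sup_right hc)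
    have h2 := Subgroup.mem_centralizer_iff.mp hycen c hc
    have h3 : m' * c * m'⁻¹ = c := by
      rw [h1, ← h2]; group
    calc c * m' = m' * c * m'⁻¹ * m' := by rw [h3]
      _ = m' * c := by group
  -- cardinality
  have hClt : Nat.card C < Nat.card N := by
    apply card_lt_of_lt
    refine lt_of_le_of_ne (fun y hy => (hmemC.mp hy).1) fun hCN => hnc ?_
    intro y hy b hb
    have hx₀N := hXN hx₀
    have hy' : x₀ * y * x₀⁻¹ ∈ C := by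
      rw [hCN]; exact conj_mem_of_mem_NN hx₀N hy
    have hb' : x₀ * b * x₀⁻¹ ∈ Us := by
      rw [hUs]; exact conj_mem_cj (hA₀ ▸ hb)
    have h1 := Subgroup.mem_centralizer_iff.mp (hmemC.mp hy').2 _ hb'
    have h2 : x₀ * (b * y) * x₀⁻¹ = x₀ * (y * b) * x₀⁻¹ := by
      calc x₀ * (b * y) * x₀⁻¹ = (x₀ * b * x₀⁻¹) * (x₀ * y * x₀⁻¹) := by group
        _ = (x₀ * y * x₀⁻¹) * (x₀ * b * x₀⁻¹) := h1
        _ = x₀ * (y * b) * x₀⁻¹ := by group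
    have h3 : b * y = y * b := by simpa using h2
    exact h3.symm
  have hOIH : Agrees (Ch ⊔ PU) A₃ x' := OIH C PU Ch hClt S₂ A₃ hA₃PU x' hx'C hx'maps
  have hChPU : Ch ⊔ PU ≤ X := sup_le (fun y hy => hMX (hmemCh.mp hy).1) (hPUX.trans hXUX)
  have h0 : Agrees X A₃ x' := Agrees_mono_left hOIH hChPU
  have h1 : Agrees X A' n₃ := by
    have h2 : n₃ = x' * e₂ := by rw [hx']; group
    rw [h2]
    exact (Agrees.of_mem he₂X).comp (hA₃ ▸ h0)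
  have h2 : Agrees X A' n' := by
    have h3 : n' = (h * e⁻¹) * n₃ := by rw [hn₃, hc'def]; group
    rw [h3]
    exact h1.comp (Agrees.of_mem (X.mul_mem hhX (X.inv_mem (hXUX he))))
  have h3 : Agrees X A (n' * t) := (Agrees.of_mem ht).comp (hA' ▸ h2)
  have h4 : Agrees X A (t₁⁻¹ * (n' * t)) := h3.comp (Agrees.of_mem (X.inv_mem ht₁))
  have h5 : t₁⁻¹ * (n' * t) = n := by rw [hn't]; group
  rwa [h5] at h4

/-- The main theorem for `Sys`. -/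
theorem main : ∀ (k : ℕ) (N P M : Subgroup G), Nat.card N = k → Sys p N P M →
    ∀ A : Subgroup G, A ≤ P → ∀ n ∈ N, (∀ a ∈ A, n * a * n⁻¹ ∈ P) → Agrees (M ⊔ P) A n := by
  intro k
  induction k using Nat.strong_induction_on with
  | _ k OIH =>
    intro N P M hk S
    have OIH' : ∀ N' P' M' : Subgroup G, Nat.card N' < Nat.card N → Sys p N' P' M' →
        ∀ A : Subgroup G, A ≤ P' → ∀ n ∈ N', (∀ a ∈ A, n * a * n⁻¹ ∈ P') → Agrees (M' ⊔ P') A n := by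
      intro N' P' M' hlt S' A hA n hn hm
      exact OIH _ (hk ▸ hlt) N' P' M' rfl S' A hA n hn hm
    have key : ∀ (d : ℕ) (A : Subgroup G), Nat.card G - Nat.card A = d → A ≤ P →
        ∀ n ∈ N, (∀ a ∈ A, n * a * n⁻¹ ∈ P) → Agrees (M ⊔ P) A n := by
      intro d
      induction d using Nat.strong_induction_on with
      | _ d IH =>
        intro A hd hA n hn hm
        by_cases hc : ∀ y ∈ N, ∀ b ∈ A ⊓ N, y * b = b * y
        · refine S.caseII hA hn hm hc ?_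
          intro A' hA' hlt n' hn' hm'
          have hle : Nat.card A' ≤ Nat.card G := by
            have := Subgroup.card_le_of_le (le_top : A' ≤ ⊤)
            simpa [Subgroup.card_top] using this
          exact IH _ (by omega) A' rfl hA' n' hn' hm'
        · exact S.caseI OIH' hA hn hm hc
    intro A hA n hn hm
    exact key _ A rfl hA n hn hm

end Sys

end Cfsg.Agent.Lib.FusionExt
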