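import Mathlib
import Cfsg.Agent.Lib.FusionZ2E4
import Cfsg.Agent.Lib.SEFusion
import Cfsg.Agent.Lib.ExtraBasics

/-!
# Transvection-like automorphism groups and strongly embedded subgroups

If `E` is abelian, `A ≤ Aut(E)` has a strongly `p`-embedded subgroup and `T ≤ A` is a `p`-subgroup with `[E, T] ≤ Z`,
`|Z| = p`, `[Z, T] = 1`, then `|T| ≤ p`.

Applications: essential subgroups inside a group with an extraspecial subgroup of index `p`.
-/

set_option autoImplicit false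
set_option linter.unusedSectionVars false
set_option linter.style.haveILetI false

namespace Cfsg.Agent.Lib.FusionExtraIdx

open Cfsg Cfsg.FusionSystem Cfsg.Agent.Lib.FusionCore Cfsg.Agent.Lib.FusionCore2 Cfsg.Agent.Lib.FusionCore3
open Cfsg.Agent.Lib.SEFusion
open scoped commutatorElement

section Abstract

variable {E X : Type*} [Group E] [Group X] {p : ℕ} [hp : Fact p.Prime]

/-- Two transvection-like automorphisms, each fixing the commutators of the other, commute. -/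
lemma commute_of_fix (hcomm : ∀ a b : E, a * b = b * a) {t t' : MulAut E} {Z Z' : Subgroup E}
    (h1 : ∀ e, t e * e⁻¹ ∈ Z) (h2 : ∀ e, t' e * e⁻¹ ∈ Z')
    (h3 : ∀ z ∈ Z', t z = z) (h4 : ∀ z ∈ Z, t' z = z) : t * t' = t' * t := by
  ext e
  have e1 : t (t' e) = (t' e * e⁻¹) * t e := by
    conv_lhs => rw [show t' e = (t' e * e⁻¹) * e by group]
    rw [map_mul, h3 _ (h2 e)]
  have e2 : t' (t e) = (t e * e⁻¹) * t' e := by
    conv_lhs => rw [show t e = (t e * e⁻¹) * e by group]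
    rw [map_mul, h4 _ (h1 e)]
  show t (t' e) = t' (t e)
  rw [e1, e2, hcomm (t' e) e⁻¹, hcomm (t e) e⁻¹, mul_assoc, mul_assoc, hcomm (t' e) (t e)]

/-- A cyclic group generated by a `p`-element is a `p`-group. -/
lemma isPGroup_zpowers_of_pow {G : Type*} [Group G] {x : G} {k : ℕ} (h : x ^ (p ^ k) = 1) :
    IsPGroup p (Subgroup.zpowers x) := by
  rintro ⟨_, i, rfl⟩
  refine ⟨k, Subtype.ext ?_⟩
  show ((x ^ i) ^ (p ^ k) : G) = 1
  rw [← zpow_natCast, ← zpow_mul, mul_comm, zpow_mul, zpow_natCast, h, one_zpow]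

/-- The orbits are small. -/
lemma exists_fix {T : Subgroup (MulAut E)} {Z : Subgroup E} (hZ : Nat.card Z = p) (hlt : p < Nat.card T)
    (hr : ∀ t ∈ T, ∀ e, t e * e⁻¹ ∈ Z) (w : E) : ∃ t ∈ T, t ≠ 1 ∧ t w = w := by
  classical
  haveI : Finite Z := Nat.finite_of_card_ne_zero (by rw [hZ]; exact hp.out.ne_zero)
  let f : T → Z := fun t => ⟨t.1 w * w⁻¹, hr t.1 t.2 w⟩
  have hni : ¬ Function.Injective f := by
    intro hinj
    have := Nat.card_le_card_of_injective f hinj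
    omega
  simp only [Function.Injective, not_forall] at hni
  obtain ⟨a, b, hab, hne⟩ := hni
  have h1 : a.1 w = b.1 w := by
    have h2 : a.1 w * w⁻¹ = b.1 w * w⁻¹ := congrArg Subtype.val hab
    exact mul_right_cancel h2
  refine ⟨a.1⁻¹ * b.1, T.mul_mem (T.inv_mem a.2) b.2, ?_, ?_⟩
  · intro h2
    apply hne
    apply Subtype.ext
    exact inv_mul_eq_one.1 h2
  · rw [MulAut.mul_apply, ← h1]
    simp

variable [Finite X]

/-- The main lemma, `T` inside the strongly embedded subgroup. -/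
theorem key0 (hcomm : ∀ a b : E, a * b = b * a) {A : Subgroup (MulAut E)} (π : A →* X)
    (hπ : Function.Surjective π) (hinj : Function.Injective π) {M : Subgroup X}
    (hM : IsStronglyPEmbedded p M) {T : Subgroup (MulAut E)} (hTA : T ≤ A)
    (hTp : IsPGroup p T) (hTM : ∀ t (ht : t ∈ T), π ⟨t, hTA ht⟩ ∈ M)
    {Z : Subgroup E} (hZ : Nat.card Z = p) (hr : ∀ t ∈ T, ∀ e, t e * e⁻¹ ∈ Z) : Nat.card T ≤ p := by
  classical
  by_contra hlt
  push Not at hlt
  haveI : Finite Z := Nat.finite_of_card_ne_zero (by rw [hZ]; exact hp.out.ne_zero)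
  obtain ⟨P, hP, hN⟩ := exists_sylow_of_isStronglyPEmbedded hM
  -- `g`
  obtain ⟨x, hx⟩ : ∃ x, x ∉ M := by
    by_contra hcon
    push Not at hcon
    exact hM.2.1 (eq_top_iff.2 fun y _ => hcon y)
  obtain ⟨g, rfl⟩ := hπ x
  -- a generator of `Z`
  haveI : Nontrivial Z := by
    rw [← Finite.one_lt_card_iff_nontrivial, hZ]
    exact hp.out.one_lt
  obtain ⟨⟨z₀, hz₀⟩, hz₀1⟩ := exists_ne (1 : Z)
  have hz₀1' : z₀ ≠ 1 := fun h => hz₀1 (Subtype.ext h)
  have hzp : Z = Subgroup.zpowers z₀ :=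
    (Cfsg.Agent.Lib.FusionZ2E.zpowers_eq_of_card' hZ hz₀ hz₀1').symm
  -- the two transvections
  obtain ⟨t₁, ht₁, ht₁1, ht₁f⟩ := exists_fix hZ hlt hr ((g : MulAut E) z₀)
  obtain ⟨t₀, ht₀, ht₀1, ht₀f⟩ := exists_fix hZ hlt hr (((g : MulAut E))⁻¹ z₀)
  let t' : A := g * ⟨t₀, hTA ht₀⟩ * g⁻¹
  have ht'v : (t' : MulAut E) = (g : MulAut E) * t₀ * (g : MulAut E)⁻¹ := rfl
  -- they commute
  have hc : t₁ * (t' : MulAut E) = (t' : MulAut E) * t₁ := by
    refine commute_of_fix hcomm (Z := Z) (Z' := Z.map (g : MulAut E).toMonoidHom) (hr t₁ ht₁) ?_ ?_ ?_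
    · intro e
      refine ⟨t₀ ((g : MulAut E)⁻¹ e) * ((g : MulAut E)⁻¹ e)⁻¹, hr t₀ ht₀ _, ?_⟩
      rw [ht'v]
      simp [MulAut.mul_apply]
    · rintro _ ⟨z, hz, rfl⟩
      rw [hzp] at hz
      obtain ⟨i, rfl⟩ := hz
      show t₁ ((g : MulAut E) (z₀ ^ i)) = (g : MulAut E) (z₀ ^ i)
      rw [map_zpow, map_zpow, ht₁f]
    · intro z hz
      rw [hzp] at hz
      obtain ⟨i, rfl⟩ := hz
      have h3 : (t' : MulAut E) z₀ = z₀ := by
        rw [ht'v, MulAut.mul_apply, MulAut.mul_apply, ht₀f]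
        simp
      show (t' : MulAut E) (z₀ ^ i) = z₀ ^ i
      rw [map_zpow, h3]
  -- to `X`
  let u : X := π ⟨t₁, hTA ht₁⟩
  have huM : u ∈ M := hTM t₁ ht₁
  have hu1 : u ≠ 1 := by
    intro h
    apply ht₁1
    have : (⟨t₁, hTA ht₁⟩ : A) = 1 := hinj (by rw [map_one]; exact h)
    exact congrArg Subtype.val this
  have hcX : π t' * u = u * π t' := by
    have h3 : t' * ⟨t₁, hTA ht₁⟩ = ⟨t₁, hTA ht₁⟩ * t' := Subtype.ext hc.symm
    rw [← map_mul, ← map_mul, h3]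
  -- `u` is a `p`-element
  have hpel : ∀ t (ht : t ∈ T), ∃ k : ℕ, (π ⟨t, hTA ht⟩) ^ (p ^ k) = 1 := by
    intro t ht
    obtain ⟨k, hk⟩ := hTp ⟨t, ht⟩
    refine ⟨k, ?_⟩
    have h3 : t ^ (p ^ k) = 1 := congrArg Subtype.val hk
    have h4 : (⟨t, hTA ht⟩ : A) ^ (p ^ k) = 1 := Subtype.ext h3
    rw [← map_pow, h4, map_one]
  obtain ⟨k₁, hk₁⟩ := hpel t₁ ht₁
  have hQp : IsPGroup p (Subgroup.zpowers u) := isPGroup_zpowers_of_pow hk₁
  have hQ1 : Subgroup.zpowers u ≠ ⊥ := by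
    intro h
    rw [Subgroup.zpowers_eq_bot] at h
    exact hu1 h
  have hQM : Subgroup.zpowers u ≤ M := (Subgroup.zpowers_le).2 huM
  have hvN : π t' ∈ Subgroup.normalizer ((Subgroup.zpowers u : Subgroup X) : Set X) := by
    have hconj : ∀ i : ℤ, π t' * u ^ i * (π t')⁻¹ = u ^ i := by
      intro i
      have : Commute (π t') (u ^ i) := (show Commute (π t') u from hcX).zpow_right i
      rw [this.eq]
      group
    rw [Subgroup.mem_normalizer_iff]
    intro y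
    constructor
    · rintro ⟨i, rfl⟩
      exact ⟨i, (hconj i).symm⟩
    · rintro ⟨i, hi⟩
      have hi' : u ^ i = π t' * y * (π t')⁻¹ := hi
      refine ⟨i, ?_⟩
      have h5 := hconj i
      rw [hi'] at h5
      have h6 : π t' * (π t' * y * (π t')⁻¹) * (π t')⁻¹ = π t' * y * (π t')⁻¹ → _ := id
      have h7 : π t' * y * (π t')⁻¹ = π t' * (u ^ i : X) * (π t')⁻¹ := by
        rw [hconj i, hi']
      exact (mul_left_cancel (mul_right_cancel h7)).symm
  have hvM : π t' ∈ M := hN _ hQM hQp hQ1 hvN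
  -- the conjugate
  obtain ⟨k₀, hk₀⟩ := hpel t₀ ht₀
  let u₀ : X := π ⟨t₀, hTA ht₀⟩
  have hu₀M : u₀ ∈ M := hTM t₀ ht₀
  have hu₀1 : u₀ ≠ 1 := by
    intro h
    apply ht₀1
    have : (⟨t₀, hTA ht₀⟩ : A) = 1 := hinj (by rw [map_one]; exact h)
    exact congrArg Subtype.val this
  have hQ₀p : IsPGroup p (Subgroup.zpowers u₀) := isPGroup_zpowers_of_pow hk₀
  have hQ₀1 : Subgroup.zpowers u₀ ≠ ⊥ := by
    intro h
    rw [Subgroup.zpowers_eq_bot] at h
    exact hu₀1 h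
  have hQ₀M : Subgroup.zpowers u₀ ≤ M := (Subgroup.zpowers_le).2 hu₀M
  apply hx
  refine mem_of_map_conj_le hM hQ₀p hQ₀1 hQ₀M ?_
  rintro _ ⟨y, ⟨i, rfl⟩, rfl⟩
  have h8 : π t' = π g * u₀ * (π g)⁻¹ := by
    show π (g * ⟨t₀, hTA ht₀⟩ * g⁻¹) = _
    rw [map_mul, map_mul, map_inv]
  have h9 : (MulAut.conj (π g)).toMonoidHom (u₀ ^ i) = (π t') ^ i := by
    show π g * u₀ ^ i * (π g)⁻¹ = _
    rw [h8, conj_zpow]
  show (MulAut.conj (π g)).toMonoidHom (u₀ ^ i) ∈ M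
  rw [h9]
  exact M.zpow_mem hvM i

/-- The main lemma. -/
theorem key (hcomm : ∀ a b : E, a * b = b * a) {A : Subgroup (MulAut E)} (π : A →* X)
    (hπ : Function.Surjective π) (hinj : Function.Injective π) {M : Subgroup X}
    (hM : IsStronglyPEmbedded p M) {T : Subgroup (MulAut E)} (hTA : T ≤ A)
    (hTp : IsPGroup p T) {Z : Subgroup E} (hZ : Nat.card Z = p) (hr : ∀ t ∈ T, ∀ e, t e * e⁻¹ ∈ Z) :
    Nat.card T ≤ p := by
  classical
  obtain ⟨P, hP, -⟩ := exists_sylow_of_isStronglyPEmbedded hM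
  -- conjugate `T` into `P`
  let W : Subgroup X := (T.subgroupOf A).map π
  have hWp : IsPGroup p W := by
    apply IsPGroup.map
    exact hTp.of_injective (Subgroup.subgroupOfEquivOfLe hTA).toMonoidHom
      (Subgroup.subgroupOfEquivOfLe hTA).injective
  obtain ⟨Q, hQ⟩ := hWp.exists_le_sylow
  obtain ⟨x, hx⟩ := MulAction.exists_smul_eq X Q P
  obtain ⟨a, rfl⟩ := hπ x
  have hmemP : ∀ t (ht : t ∈ T), π a * π ⟨t, hTA ht⟩ * (π a)⁻¹ ∈ (P : Subgroup X) := by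
    intro t ht
    have h1 : π ⟨t, hTA ht⟩ ∈ (Q : Subgroup X) := hQ ⟨⟨t, hTA ht⟩, Subgroup.mem_subgroupOf.2 ht, rfl⟩
    rw [← hx, Sylow.coe_subgroup_smul]
    exact Subgroup.smul_mem_pointwise_smul _ (MulAut.conj (π a)) (Q : Subgroup X) h1
  let aa : MulAut E := a
  let T' : Subgroup (MulAut E) := T.map (MulAut.conj aa).toMonoidHom
  let Z' : Subgroup E := Z.map aa.toMonoidHom
  have hT'A : T' ≤ A := by
    rintro _ ⟨t, ht, rfl⟩
    exact A.mul_mem (A.mul_mem a.2 (hTA ht)) (A.inv_mem a.2)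
  have hcT : Nat.card T' = Nat.card T :=
    Subgroup.card_map_of_injective (MulAut.conj aa).injective
  have hcZ : Nat.card Z' = Nat.card Z :=
    Subgroup.card_map_of_injective aa.injective
  rw [← hcT]
  refine key0 hcomm π hπ hinj hM hT'A (hTp.map _) ?_ (Z := Z') (by rw [hcZ, hZ]) ?_
  · rintro _ ⟨t, ht, rfl⟩
    have h1 := hP (hmemP t ht)
    have h2 : (⟨(MulAut.conj aa).toMonoidHom t, hT'A ⟨t, ht, rfl⟩⟩ : A) = a * ⟨t, hTA ht⟩ * a⁻¹ := rfl
    rw [h2, map_mul, map_mul, map_inv]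
    exact h1
  · rintro _ ⟨t, ht, rfl⟩ e
    refine ⟨t (aa⁻¹ e) * (aa⁻¹ e)⁻¹, hr t ht _, ?_⟩
    show aa (t (aa⁻¹ e) * (aa⁻¹ e)⁻¹) = (aa * t * aa⁻¹) e * e⁻¹
    simp [MulAut.mul_apply]

end Abstract

section Fusion

variable {Ω : Type*} [Group Ω] {S : Subgroup Ω} {F : FusionSystem S} {p : ℕ} [hp : Fact p.Prime] [Finite S]

/-- The bound from a strongly embedded subgroup. -/
theorem card_le_of_essential (hS : IsPGroup p S) {E : Subgroup Ω} (hE : F.IsEssential p E)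
    (hab : ∀ a ∈ E, ∀ b ∈ E, a * b = b * a) {R Z : Subgroup Ω} (hER : E ≤ R) (hRS : R ≤ S)
    (hRN : ∀ r ∈ R, ∀ e ∈ E, r * e * r⁻¹ ∈ E) (hZE : Z ≤ E) (hZ : Nat.card Z = p)
    (hcom : ∀ r ∈ R, ∀ e ∈ E, r * e * r⁻¹ * e⁻¹ ∈ Z) :
    Nat.card R ≤ p * Nat.card E := by
  classical
  obtain ⟨hc, -, hN, M, hM⟩ := hE
  have hES := hc.1
  haveI := finite_of_le hES
  haveI := finite_of_le hRS
  haveI := finite_mulAut hES
  have hRn : R ≤ normalizerIn S E := by
    intro r hr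
    exact mem_normalizerIn.2 ⟨hRS hr, mem_normalizer_of_conj_mem (fun x hx => hRN r hr x hx)⟩
  let φ : R →* MulAut E := (conjN S E).comp (Subgroup.inclusion hRn)
  have hφ : ∀ (r : R) (e : E), ((φ r e : E) : Ω) = r * e * (r : Ω)⁻¹ := fun r e => rfl
  let T : Subgroup (MulAut E) := φ.range
  have hTAS : T ≤ autInducedBy S E := by
    rw [← conjN_range]
    rintro _ ⟨r, rfl⟩
    exact ⟨Subgroup.inclusion hRn r, rfl⟩
  have hTA : T ≤ F.autGroup E := hTAS.trans (autInducedBy_le_autGroup hES)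
  have hTp : IsPGroup p T := (isPGroup_autInducedBy hS).to_le hTAS
  let π := QuotientGroup.mk' (innA F E)
  have hπ : Function.Surjective π := QuotientGroup.mk'_surjective _
  have hinj : Function.Injective π := by
    rw [injective_iff_map_eq_one]
    intro a ha
    have h1 : a ∈ innA F E := (QuotientGroup.eq_one_iff _).1 ha
    obtain ⟨y, hy⟩ := Subgroup.mem_subgroupOf.1 h1
    apply Subtype.ext
    show (a : MulAut E) = 1
    rw [← hy]
    ext e
    show (y : Ω) * e * (y : Ω)⁻¹ = e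
    rw [hab _ y.2 _ e.2]
    group
  have hcZ : Nat.card (Z.subgroupOf E) = p := by
    rw [← hZ]
    exact Nat.card_congr (Subgroup.subgroupOfEquivOfLe hZE).toEquiv
  have hT : Nat.card T ≤ p := by
    refine key (fun a b => Subtype.ext (hab _ a.2 _ b.2)) π hπ hinj hM hTA hTp hcZ ?_
    rintro _ ⟨r, rfl⟩ e
    exact hcom r r.2 e e.2
  -- the kernel
  have hker : Nat.card φ.ker = Nat.card E := by
    refine Nat.card_congr ⟨fun r => ⟨r.1, ?_⟩, fun e => ⟨⟨e, hER e.2⟩, ?_⟩, fun r => rfl, fun e => rfl⟩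
    · apply IsCentric_self hc
      apply (mem_conjN_ker (Subgroup.inclusion hRn r.1)).1
      exact r.2
    · rw [MonoidHom.mem_ker]
      ext x
      show (e : Ω) * x * (e : Ω)⁻¹ = x
      rw [hab _ e.2 _ x.2]
      group
  have h1 : Nat.card φ.ker * φ.ker.index = Nat.card R := Subgroup.card_mul_index _
  rw [Subgroup.index_ker, hker] at h1
  rw [← h1, mul_comm]
  exact Nat.mul_le_mul_right _ hT

/-- Abelianity from stability. -/
theorem abelian_of_essential (hS : IsPGroup p S) {E : Subgroup Ω} (hE : F.IsEssential p E) {Z : Subgroup Ω}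
    (hZ : Nat.card Z = p) (hZE : Z ≤ E) (hcomE : ∀ a ∈ E, ∀ b ∈ E, a * b * a⁻¹ * b⁻¹ ∈ Z)
    {x : Ω} (hxN : x ∈ normalizerIn S E) (hxE : x ∉ E) (hcom : ∀ e ∈ E, x * e * x⁻¹ * e⁻¹ ∈ Z)
    (hxZ : ∀ z ∈ Z, x * z * x⁻¹ = z) : ∀ a ∈ E, ∀ b ∈ E, a * b = b * a := by
  classical
  by_contra hna
  push Not at hna
  obtain ⟨a, ha, b, hb, hab⟩ := hna
  have hc : a * b * a⁻¹ * b⁻¹ ≠ 1 := by
    intro h
    apply hab
    have h2 : a * b * a⁻¹ = b := by
      rw [mul_inv_eq_one] at h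
      exact h
    calc a * b = (a * b * a⁻¹) * a := by group
      _ = b * a := by rw [h2]
  have hzp : Subgroup.zpowers (a * b * a⁻¹ * b⁻¹) = Z :=
    Cfsg.Agent.Lib.FusionZ2E.zpowers_eq_of_card' hZ (hcomE a ha b hb) hc
  apply hxE
  -- the chain
  let C : ℕ → Subgroup Ω := fun i => match i with
    | 0 => E
    | 1 => Z
    | _ => ⊥
  refine mem_of_chain hS hE.1 (radical_of_essential hS hE) C rfl (m := 2) rfl ?_ ?_ hxN ?_
  · rintro (_ | _ | i)
    · exact hZE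
    · exact bot_le
    · exact le_rfl
  · intro α hα i y hy
    rcases i with _ | _ | i
    · exact afn_mem _ hy
    · have hm : Maps F E (afn α) := (mem_autGroup_iff hE.1.1).1 hα
      have hy' : y ∈ Subgroup.zpowers (a * b * a⁻¹ * b⁻¹) := by rw [hzp]; exact hy
      obtain ⟨i, rfl⟩ := hy'
      have h3 : afn α (a * b * a⁻¹ * b⁻¹) ∈ Z := by
        have hb' := E.inv_mem hb
        have ha' := E.inv_mem ha
        rw [hm.map_mul (E.mul_mem (E.mul_mem ha hb) ha') hb', hm.map_mul (E.mul_mem ha hb) ha',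
          hm.map_mul ha hb, hm.map_inv ha, hm.map_inv hb]
        exact hcomE _ (afn_mem _ ha) _ (afn_mem _ hb)
      show afn α ((a * b * a⁻¹ * b⁻¹) ^ i) ∈ Z
      rw [hm.map_zpow (E.mul_mem (E.mul_mem (E.mul_mem ha hb) (E.inv_mem ha)) (E.inv_mem hb))]
      exact Z.zpow_mem h3 i
    · have hy1 : y = 1 := hy
      subst hy1
      rw [Cfsg.Agent.Lib.FusionZ2E.afn_map_one]
      exact Subgroup.one_mem _
  · intro i y hy
    rcases i with _ | _ | i
    · have h1 := hcom y hy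
      have h2 : y⁻¹ * (x * y * x⁻¹) =
          (y⁻¹ * (x * y * x⁻¹ * y⁻¹) * y⁻¹⁻¹ * (x * y * x⁻¹ * y⁻¹)⁻¹) * (x * y * x⁻¹ * y⁻¹) := by group
      rw [h2]
      exact Z.mul_mem (hcomE _ (E.inv_mem hy) _ (hZE h1)) h1
    · show y⁻¹ * (x * y * x⁻¹) = 1
      rw [hxZ y hy]
      group
    · have hy1 : y = 1 := hy
      subst hy1
      show _ = _
      simp

/-- A subgroup of index at most `p` and an outside element generate. -/
lemma sup_eq_of_card {E R : Subgroup Ω} {x : Ω} [Finite R] (hRp : IsPGroup p R) (hER : E ≤ R)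
    (hc : Nat.card R ≤ p * Nat.card E) (hxR : x ∈ R) (hxE : x ∉ E) : E ⊔ Subgroup.zpowers x = R := by
  have hle : E ⊔ Subgroup.zpowers x ≤ R := sup_le hER ((Subgroup.zpowers_le).2 hxR)
  haveI : Finite (E ⊔ Subgroup.zpowers x : Subgroup Ω) := finite_of_le (S := R) hle
  have hHp : IsPGroup p (E ⊔ Subgroup.zpowers x : Subgroup Ω) := hRp.to_le hle
  obtain ⟨a, ha⟩ := Subgroup.card_dvd_of_le (le_sup_left : E ≤ E ⊔ Subgroup.zpowers x)
  obtain ⟨k, hk⟩ := IsPGroup.iff_card.1 hHp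
  have hd : a ∣ p ^ k := by
    rw [← hk]
    exact Dvd.intro_left _ ha.symm
  obtain ⟨j, -, rfl⟩ := (Nat.dvd_prime_pow hp.out).1 hd
  have hj : j ≠ 0 := by
    rintro rfl
    apply hxE
    have h3 : E = E ⊔ Subgroup.zpowers x := by
      apply Subgroup.eq_of_le_of_card_ge le_sup_left
      rw [ha, pow_zero, mul_one]
    rw [h3]
    exact (le_sup_right : Subgroup.zpowers x ≤ E ⊔ Subgroup.zpowers x) (Subgroup.mem_zpowers x)
  apply Subgroup.eq_of_le_of_card_ge hle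
  rw [ha]
  refine hc.trans ?_
  rw [mul_comm]
  apply Nat.mul_le_mul_left
  calc p = p ^ 1 := (pow_one p).symm
    _ ≤ p ^ j := Nat.pow_le_pow_right hp.out.pos (by omega)

/-- The centre is large. -/
theorem card_le_center {E R Z : Subgroup Ω} [Finite R] (hRp : IsPGroup p R) (hER : E ≤ R)
    (hc : Nat.card R ≤ p * Nat.card E) (hab : ∀ a ∈ E, ∀ b ∈ E, a * b = b * a) {x : Ω} (hxR : x ∈ R)
    (hxE : x ∉ E) (hZE : Z ≤ E) (hZ : Nat.card Z = p) (hcom : ∀ e ∈ E, x * e * x⁻¹ * e⁻¹ ∈ Z) :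
    Nat.card E ≤ p * Nat.card (R ⊓ Subgroup.centralizer (R : Set Ω) : Subgroup Ω) := by
  classical
  haveI : Finite E := finite_of_le (S := R) hER
  haveI : Finite Z := Nat.finite_of_card_ne_zero (by rw [hZ]; exact hp.out.ne_zero)
  haveI : Finite (R ⊓ Subgroup.centralizer (R : Set Ω) : Subgroup Ω) := finite_of_le (S := R) inf_le_left
  let f : E →* Z := MonoidHom.mk' (fun e => ⟨x * e * x⁻¹ * (e : Ω)⁻¹, hcom e e.2⟩) (by
    intro a b
    apply Subtype.ext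
    show x * ((a : Ω) * b) * x⁻¹ * ((a : Ω) * b)⁻¹ = (x * a * x⁻¹ * (a : Ω)⁻¹) * (x * b * x⁻¹ * (b : Ω)⁻¹)
    have h1 := hab _ (E.inv_mem a.2) _ (hZE (hcom b b.2))
    calc x * ((a : Ω) * b) * x⁻¹ * ((a : Ω) * b)⁻¹
        = (x * a * x⁻¹) * ((x * b * x⁻¹ * (b : Ω)⁻¹) * (a : Ω)⁻¹) := by group
      _ = (x * a * x⁻¹) * ((a : Ω)⁻¹ * (x * b * x⁻¹ * (b : Ω)⁻¹)) := by rw [h1]
      _ = _ := by group)
  have hf : ∀ e : E, ((f e : Z) : Ω) = x * e * x⁻¹ * (e : Ω)⁻¹ := fun e => rfl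
  have hsup := sup_eq_of_card hRp hER hc hxR hxE
  have hker : Nat.card f.ker ≤ Nat.card (R ⊓ Subgroup.centralizer (R : Set Ω) : Subgroup Ω) := by
    have hm : ∀ e : f.ker, ((e : E) : Ω) ∈ R ⊓ Subgroup.centralizer (R : Set Ω) := by
      intro e
      refine ⟨hER e.1.2, ?_⟩
      have hce : x * ((e : E) : Ω) = ((e : E) : Ω) * x := by
        have h1 : x * ((e : E) : Ω) * x⁻¹ * (((e : E) : Ω))⁻¹ = 1 := by
          rw [← hf]
          rw [MonoidHom.mem_ker.1 e.2]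
          rfl
        rw [mul_inv_eq_one, mul_inv_eq_iff_eq_mul] at h1
        exact h1
      have hle : R ≤ Subgroup.centralizer ({((e : E) : Ω)} : Set Ω) := by
        rw [← hsup]
        refine sup_le ?_ ?_
        · intro a ha
          rw [Subgroup.mem_centralizer_singleton_iff]
          exact hab _ ha _ e.1.2
        · rw [Subgroup.zpowers_le, Subgroup.mem_centralizer_singleton_iff]
          exact hce
      show ((e : E) : Ω) ∈ Subgroup.centralizer (R : Set Ω)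
      rw [Subgroup.mem_centralizer_iff]
      intro r hr
      have h2 := hle hr
      rw [Subgroup.mem_centralizer_singleton_iff] at h2
      exact h2
    refine Nat.card_le_card_of_injective (fun e : f.ker => (⟨((e : E) : Ω), hm e⟩ :
      (R ⊓ Subgroup.centralizer (R : Set Ω) : Subgroup Ω))) ?_
    intro a b hab'
    have h3 : ((a : E) : Ω) = ((b : E) : Ω) := Subtype.mk.inj hab'
    exact Subtype.ext (Subtype.ext h3)
  have h1 : Nat.card f.ker * f.ker.index = Nat.card E := Subgroup.card_mul_index _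
  have h2 : f.ker.index ≤ p := by
    rw [Subgroup.index_ker, ← hZ]
    exact Subgroup.card_le_card_group _
  rw [← h1, mul_comm]
  exact Nat.mul_le_mul h2 hker

/-! ### Extraspecial subgroups -/

variable {Q : Subgroup Ω}

lemma mem_centerOf {y : Ω} : y ∈ Q ⊓ Subgroup.centralizer (Q : Set Ω) ↔ y ∈ Q ∧ ∀ q ∈ Q, q * y = y * q := by
  rw [Subgroup.mem_inf, Subgroup.mem_centralizer_iff]
  rfl

lemma extra_card (hQ : Cfsg.IsExtraspecial p Q) :
    Nat.card (Q ⊓ Subgroup.centralizer (Q : Set Ω) : Subgroup Ω) = p := by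
  rw [← hQ.2]
  refine Nat.card_congr ⟨fun z => ⟨⟨z.1, (mem_centerOf.1 z.2).1⟩, Subgroup.mem_center_iff.2 fun y => ?_⟩,
    fun z => ⟨z.1.1, mem_centerOf.2 ⟨z.1.2, fun y hy => ?_⟩⟩, fun z => rfl, fun z => rfl⟩
  · exact Subtype.ext ((mem_centerOf.1 z.2).2 y y.2)
  · have := Subgroup.mem_center_iff.1 z.2 ⟨y, hy⟩
    exact congrArg Subtype.val this

lemma extra_comm (hQ : Cfsg.IsExtraspecial p Q) {a b : Ω} (ha : a ∈ Q) (hb : b ∈ Q) :
    a * b * a⁻¹ * b⁻¹ ∈ Q ⊓ Subgroup.centralizer (Q : Set Ω) := by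
  have h1 : ⁅(⟨a, ha⟩ : Q), (⟨b, hb⟩ : Q)⁆ ∈ commutator Q :=
    Subgroup.commutator_mem_commutator (Subgroup.mem_top _) (Subgroup.mem_top _)
  rw [hQ.1.2.2, Subgroup.mem_center_iff] at h1
  refine mem_centerOf.2 ⟨Q.mul_mem (Q.mul_mem (Q.mul_mem ha hb) (Q.inv_mem ha)) (Q.inv_mem hb), fun y hy => ?_⟩
  exact congrArg Subtype.val (h1 ⟨y, hy⟩)

/-- **S5179**. -/
theorem essential_inside (hS : IsPGroup p S) (hQS : Q ≤ S) (hQ : Cfsg.IsExtraspecial p Q)
    (hQi : (Q.subgroupOf S).index = p) (h6 : p ^ 6 ≤ Nat.card S) {E : Subgroup Ω} (hEQ : E ≤ Q)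
    (hE : F.IsEssential p E) : E = Q := by
  classical
  by_contra hne
  haveI := finite_of_le hQS
  haveI := finite_of_le hE.1.1
  have hpp := hp.out
  obtain ⟨x, hxQ, hxE⟩ : ∃ x ∈ Q, x ∉ E := by
    by_contra hcon
    push Not at hcon
    exact hne (le_antisymm hEQ hcon)
  have hc := extra_card hQ
  have hZE : Q ⊓ Subgroup.centralizer (Q : Set Ω) ≤ E := by
    intro z hz
    apply IsCentric_self hE.1
    obtain ⟨h1, h2⟩ := mem_centerOf.1 hz
    exact mem_centralizerIn.2 ⟨hQS h1, fun y hy => h2 y (hEQ hy)⟩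
  have hcom : ∀ r ∈ Q, ∀ e ∈ E, r * e * r⁻¹ * e⁻¹ ∈ Q ⊓ Subgroup.centralizer (Q : Set Ω) :=
    fun r hr e he => extra_comm hQ hr (hEQ he)
  have hRN : ∀ r ∈ Q, ∀ e ∈ E, r * e * r⁻¹ ∈ E := by
    intro r hr e he
    have h2 : r * e * r⁻¹ = (r * e * r⁻¹ * e⁻¹) * e := by group
    rw [h2]
    exact E.mul_mem (hZE (hcom r hr e he)) he
  have hxN : x ∈ normalizerIn S E :=
    mem_normalizerIn.2 ⟨hQS hxQ, mem_normalizer_of_conj_mem (fun y hy => hRN x hxQ y hy)⟩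
  have hab : ∀ a ∈ E, ∀ b ∈ E, a * b = b * a := by
    refine abelian_of_essential hS hE hc hZE (fun a ha b hb => extra_comm hQ (hEQ ha) (hEQ hb)) hxN hxE
      (fun e he => hcom x hxQ e he) ?_
    intro z hz
    rw [(mem_centerOf.1 hz).2 x hxQ]
    group
  have h1 : Nat.card Q ≤ p * Nat.card E := card_le_of_essential hS hE hab hEQ hQS hRN hZE hc hcom
  have h2 : Nat.card E ≤ p * p := by
    have := card_le_center (hS.to_le hQS) hEQ h1 hab hxQ hxE hZE hc (fun e he => hcom x hxQ e he)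
    rwa [hc] at this
  have h3 : Nat.card S = Nat.card Q * p := by
    have h4 := Subgroup.card_mul_index (Q.subgroupOf S)
    rw [hQi, show Nat.card (Q.subgroupOf S) = Nat.card Q from
      Nat.card_congr (Subgroup.subgroupOfEquivOfLe hQS).toEquiv] at h4
    exact h4.symm
  have h5 : Nat.card S ≤ p ^ 4 := by
    rw [h3]
    calc Nat.card Q * p ≤ (p * (p * p)) * p := Nat.mul_le_mul_right _ (h1.trans (Nat.mul_le_mul_left _ h2))
      _ = p ^ 4 := by ring
  have h7 : p ^ 6 ≤ p ^ 4 := h6.trans h5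
  have := (Nat.pow_le_pow_iff_right hpp.one_lt).1 h7
  omega

/-- **S5178**. -/
theorem center_eq (hodd : Odd p) (hS : IsPGroup p S) (hQS : Q ≤ S) (hQ : Cfsg.IsExtraspecial p Q)
    (hQi : (Q.subgroupOf S).index = p) (hF : F.IsSaturated p) (hO : F.core = ⊥) :
    S ⊓ Subgroup.centralizer (S : Set Ω) = Q ⊓ Subgroup.centralizer (Q : Set Ω) := by
  classical
  haveI := finite_of_le hQS
  have hpp := hp.out
  have hc := extra_card hQ
  set Z₀ : Subgroup Ω := Q ⊓ Subgroup.centralizer (Q : Set Ω) with hZ₀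
  have hZ₀Q : Z₀ ≤ Q := inf_le_left
  have hNQ : (Q.subgroupOf S).Normal := Cfsg.Agent.Lib.ExtraBasics.normal_of_index_eq_prime hS _ hQi
  have hQN : ∀ s ∈ S, ∀ q ∈ Q, s * q * s⁻¹ ∈ Q := by
    intro s hs q hq
    have h1 := hNQ.conj_mem ⟨q, hQS hq⟩ (Subgroup.mem_subgroupOf.2 hq) ⟨s, hs⟩
    exact Subgroup.mem_subgroupOf.1 h1
  have hZinv : ∀ s ∈ S, ∀ z ∈ Z₀, s * z * s⁻¹ ∈ Z₀ := by
    intro s hs z hz
    obtain ⟨h1, h2⟩ := mem_centerOf.1 hz
    refine mem_centerOf.2 ⟨hQN s hs z h1, fun q hq => ?_⟩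
    have h3 := h2 (s⁻¹ * q * s) (by simpa using hQN s⁻¹ (S.inv_mem hs) q hq)
    calc q * (s * z * s⁻¹) = s * ((s⁻¹ * q * s) * z) * s⁻¹ := by group
      _ = s * (z * (s⁻¹ * q * s)) * s⁻¹ := by rw [h3]
      _ = _ := by group
  -- central in `S`
  have hZc : ∀ s ∈ S, ∀ z ∈ Z₀, s * z = z * s := by
    intro s hs z hz
    have hZS : Z₀ ≤ S := hZ₀Q.trans hQS
    haveI hn : (Z₀.subgroupOf S).Normal := ⟨fun n hn g => by
      apply Subgroup.mem_subgroupOf.2
      exact hZinv g g.2 n (Subgroup.mem_subgroupOf.1 hn)⟩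
    have hcn : Nat.card (Z₀.subgroupOf S) = p := by
      rw [← hc]
      exact Nat.card_congr (Subgroup.subgroupOfEquivOfLe hZS).toEquiv
    have h1 := Cfsg.Agent.Lib.ExtraBasics.le_center_of_normal_of_card hS _ hcn
      (Subgroup.mem_subgroupOf.2 hz : (⟨z, hZS hz⟩ : S) ∈ Z₀.subgroupOf S)
    have h2 := Subgroup.mem_center_iff.1 h1 ⟨s, hs⟩
    exact congrArg Subtype.val h2
  apply le_antisymm
  swap
  · intro z hz
    refine ⟨hQS (hZ₀Q hz), ?_⟩
    show z ∈ Subgroup.centralizer (S : Set Ω)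
    rw [Subgroup.mem_centralizer_iff]
    exact fun s hs => hZc s hs z hz
  intro y hy
  obtain ⟨hyS, hyc⟩ := mem_centerOf.1 hy
  by_cases hyQ : y ∈ Q
  · exact mem_centerOf.2 ⟨hyQ, fun q hq => hyc q (hQS hq)⟩
  exfalso
  -- `S = Q ⟨y⟩`
  have hdecomp : ∀ s ∈ S, ∃ q ∈ Q, ∃ i : ℤ, s = q * y ^ i := by
    intro s hs
    have hcq : Nat.card (↥S ⧸ Q.subgroupOf S) = p := hQi
    have hne1 : ((⟨y, hyS⟩ : S) : ↥S ⧸ Q.subgroupOf S) ≠ 1 := by
      intro h
      exact hyQ (Subgroup.mem_subgroupOf.1 ((QuotientGroup.eq_one_iff _).1 h))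
    obtain ⟨i, hi⟩ := mem_zpowers_of_prime_card hcq hne1 (g' := ((⟨s, hs⟩ : S) : ↥S ⧸ Q.subgroupOf S))
    have h1 : (⟨s, hs⟩ : S) * ((⟨y, hyS⟩ : S) ^ i)⁻¹ ∈ Q.subgroupOf S := by
      rw [← QuotientGroup.eq_one_iff, QuotientGroup.mk_mul, QuotientGroup.mk_inv, QuotientGroup.mk_zpow,
        ← hi]
      simp
    refine ⟨s * (y ^ i)⁻¹, ?_, i, by group⟩
    exact Subgroup.mem_subgroupOf.1 h1
  have hyz : ∀ (i : ℤ), ∀ s ∈ S, s * y ^ i = y ^ i * s := by
    intro i s hs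
    have h1 : Commute s y := hyc s hs
    exact (h1.zpow_right i).eq
  have hcS : ∀ a ∈ S, ∀ b ∈ S, a * b * a⁻¹ * b⁻¹ ∈ Z₀ := by
    intro a ha b hb
    obtain ⟨q₁, hq₁, i, rfl⟩ := hdecomp a ha
    obtain ⟨q₂, hq₂, j, rfl⟩ := hdecomp b hb
    have h1 : q₁ * y ^ i * (q₂ * y ^ j) * (q₁ * y ^ i)⁻¹ * (q₂ * y ^ j)⁻¹ = q₁ * q₂ * q₁⁻¹ * q₂⁻¹ := by
      have e1 := hyz i q₂ (hQS hq₂)
      have e4 : y ^ j * q₁⁻¹ = q₁⁻¹ * y ^ j := (hyz j _ (S.inv_mem (hQS hq₁))).symm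
      have e6 : y ^ i * y ^ j * (y ^ i)⁻¹ = y ^ j := by
        rw [hyz j (y ^ i) (S.zpow_mem hyS i)]
        group
      calc q₁ * y ^ i * (q₂ * y ^ j) * (q₁ * y ^ i)⁻¹ * (q₂ * y ^ j)⁻¹
          = q₁ * (y ^ i * q₂) * y ^ j * (y ^ i)⁻¹ * q₁⁻¹ * (y ^ j)⁻¹ * q₂⁻¹ := by group
        _ = q₁ * q₂ * (y ^ i * y ^ j * (y ^ i)⁻¹) * q₁⁻¹ * (y ^ j)⁻¹ * q₂⁻¹ := by rw [← e1]; group
        _ = q₁ * q₂ * (y ^ j * q₁⁻¹) * (y ^ j)⁻¹ * q₂⁻¹ := by rw [e6]; group
        _ = q₁ * q₂ * (q₁⁻¹ * y ^ j) * (y ^ j)⁻¹ * q₂⁻¹ := by rw [e4]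
        _ = _ := by group
    rw [h1]
    exact extra_comm hQ hq₁ hq₂
  have hS1 : S ≠ ⊥ := by
    intro h0
    have h1 : Z₀ ≤ ⊥ := h0 ▸ hZ₀Q.trans hQS
    rw [le_bot_iff.1 h1] at hc
    simp at hc
    exact hpp.one_lt.ne hc
  -- an essential subgroup
  obtain ⟨E, hE, hES⟩ : ∃ E, F.IsEssential p E ∧ E ≠ S := by
    by_contra hcon
    push Not at hcon
    apply hS1
    have h1 : F.IsNormal S := by
      apply isNormal_of_AG hS hF
      rintro P (rfl | hP)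
      · exact ⟨le_rfl, fun α _ => afn_img α⟩
      · have := hcon P hP
        subst this
        exact ⟨le_rfl, fun α _ => afn_img α⟩
    have h2 : S ≤ F.core := le_sSup h1
    rw [hO] at h2
    exact le_bot_iff.1 h2
  have hESle : E ≤ S := hE.1.1
  haveI := finite_of_le hESle
  obtain ⟨x, hxS, hxE⟩ : ∃ x ∈ S, x ∉ E := by
    by_contra hcon
    push Not at hcon
    exact hES (le_antisymm hESle hcon)
  have hZE : Z₀ ≤ E := by
    intro z hz
    apply IsCentric_self hE.1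
    refine mem_centralizerIn.2 ⟨hQS (hZ₀Q hz), fun e he => hZc e (hESle he) z hz⟩
  have hRN : ∀ r ∈ S, ∀ e ∈ E, r * e * r⁻¹ ∈ E := by
    intro r hr e he
    have h2 : r * e * r⁻¹ = (r * e * r⁻¹ * e⁻¹) * e := by group
    rw [h2]
    exact E.mul_mem (hZE (hcS r hr e (hESle he))) he
  have hxN : x ∈ normalizerIn S E :=
    mem_normalizerIn.2 ⟨hxS, mem_normalizer_of_conj_mem (fun y hy => hRN x hxS y hy)⟩
  have hab : ∀ a ∈ E, ∀ b ∈ E, a * b = b * a := by
    refine abelian_of_essential hS hE hc hZE (fun a ha b hb => hcS a (hESle ha) b (hESle hb)) hxN hxE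
      (fun e he => hcS x hxS e (hESle he)) ?_
    intro z hz
    rw [hZc x hxS z hz]
    group
  have h1 : Nat.card S ≤ p * Nat.card E :=
    card_le_of_essential hS hE hab hESle le_rfl hRN hZE hc (fun r hr e he => hcS r hr e (hESle he))
  have h2 := card_le_center hS hESle h1 hab hxS hxE hZE hc (fun e he => hcS x hxS e (hESle he))
  -- the centre has index at most `p²`
  have hcent : Nat.card (Subgroup.center S) = Nat.card (S ⊓ Subgroup.centralizer (S : Set Ω) : Subgroup Ω) := by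
    refine Nat.card_congr ⟨fun z => ⟨z.1.1, mem_centerOf.2 ⟨z.1.2, fun y hy => ?_⟩⟩,
      fun z => ⟨⟨z.1, (mem_centerOf.1 z.2).1⟩, Subgroup.mem_center_iff.2 fun y => ?_⟩, fun z => rfl, fun z => rfl⟩
    · have := Subgroup.mem_center_iff.1 z.2 ⟨y, hy⟩
      exact congrArg Subtype.val this
    · exact Subtype.ext ((mem_centerOf.1 z.2).2 y y.2)
  have hidx : (Subgroup.center S).index ≤ p ^ 2 := by
    have h3 := Subgroup.card_mul_index (Subgroup.center S)
    rw [hcent] at h3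
    have hpos : 0 < Nat.card (S ⊓ Subgroup.centralizer (S : Set Ω) : Subgroup Ω) := by
      haveI : Finite (S ⊓ Subgroup.centralizer (S : Set Ω) : Subgroup Ω) := finite_of_le inf_le_left
      exact Nat.card_pos
    have h4 : Nat.card (S ⊓ Subgroup.centralizer (S : Set Ω) : Subgroup Ω) * (Subgroup.center S).index ≤
        Nat.card (S ⊓ Subgroup.centralizer (S : Set Ω) : Subgroup Ω) * p ^ 2 := by
      rw [h3]
      calc Nat.card S ≤ p * Nat.card E := h1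
        _ ≤ p * (p * Nat.card (S ⊓ Subgroup.centralizer (S : Set Ω) : Subgroup Ω)) := Nat.mul_le_mul_left _ h2
        _ = _ := by ring
    exact Nat.le_of_mul_le_mul_left h4 hpos
  have hna : ¬ ∀ x ∈ S, ∀ y ∈ S, x * y = y * x := by
    intro h
    have h0 : commutator Q = ⊥ := by
      rw [eq_bot_iff, commutator_eq_closure, Subgroup.closure_le]
      rintro _ ⟨a, b, rfl⟩
      show ⁅a, b⁆ = 1
      exact commutatorElement_eq_one_iff_mul_comm.2 (Subtype.ext (h a (hQS a.2) b (hQS b.2)))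
    have h3 := hQ.2
    rw [← hQ.1.2.2, h0] at h3
    simp at h3
    exact hpp.one_lt.ne h3
  have hctx := Cfsg.Agent.Lib.FusionZ2E.ctx_of_index hS hna hidx
  have hp2 : p ≠ 2 := by
    intro hp2
    subst hp2
    exact absurd hodd (by decide)
  obtain ⟨E₁, -, V₁, -, hE₁, -, -, hD₁, -⟩ :=
    Cfsg.Agent.Lib.FusionZ2E.exists_two hctx hF hS1 hO (fun h => absurd h hp2)
  have hcE₁ : Nat.card E₁ = p ^ 2 := by rw [← hD₁.eq_V]; exact hD₁.card_V
  have hcS : Nat.card S = p * p ^ 2 := by rw [(hE₁.card_E hctx).2, hcE₁]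
  have h3 : Nat.card S = Nat.card Q * p := by
    have h4 := Subgroup.card_mul_index (Q.subgroupOf S)
    rw [hQi, show Nat.card (Q.subgroupOf S) = Nat.card Q from
      Nat.card_congr (Subgroup.subgroupOfEquivOfLe hQS).toEquiv] at h4
    exact h4.symm
  obtain ⟨n, hn, hcQ⟩ := Cfsg.Agent.Lib.ExtraBasics.card_of_isExtraspecial hQ
  have h5 : p ^ (1 + 2 * n) = p ^ 2 := by
    rw [← hcQ]
    have h6 : Nat.card Q * p = p ^ 2 * p := by
      rw [← h3, hcS]
      ring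
    exact Nat.eq_of_mul_eq_mul_right hpp.pos h6
  have h7 := Nat.pow_right_injective hpp.two_le h5
  omega

end Fusion

end Cfsg.Agent.Lib.FusionExtraIdx
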