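/-
FusionFit: `F` is constrained iff the inner system of `O_p(F)` is a generalized Fitting subsystem of `F`.
-/
import Mathlib
import Cfsg.Agent.Lib.FusionCompP8
import Cfsg.Agent.Lib.FusionSplit
import Cfsg.Agent.Lib.FusionAbelian
import Cfsg.Agent.S5136
import Cfsg.Prelude.Def_FusionFitting

set_option autoImplicit false

namespace Cfsg.Agent.Lib.FusionFit

open Cfsg Cfsg.FusionSystem Cfsg.Agent.Lib.FusionCore Cfsg.Agent.Lib.FusionProdSat

universe u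

variable {Ω : Type u} [Group Ω] {S : Subgroup Ω} {F : FusionSystem S} {p : ℕ}

/-- The trivial subgroup is normal. -/
lemma isNormal_bot (hF : (⊥ : Subgroup Ω) ≤ S) : F.IsNormal (⊥ : Subgroup Ω) := by
  refine ⟨hF, fun P φ hφ => ?_⟩
  have hPe : P ⊔ ⊥ = P := sup_bot_eq P
  have hm : Maps F (P ⊔ ⊥) (fn φ) := by
    rw [hPe]
    exact Maps.of_mem hφ
  refine ⟨hm.hom, hm.hom_mem, fun x => ?_, ?_⟩
  · rw [hm.hom_apply]
    exact fn_of_mem φ x.2
  · rw [eq_bot_iff]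
    rintro _ ⟨x, hx, rfl⟩
    have hx1 : ((x : ↥(P ⊔ ⊥)) : Ω) = 1 := Subgroup.mem_bot.1 (Subgroup.mem_subgroupOf.1 hx)
    have hx2 : x = 1 := Subtype.ext hx1
    rw [hx2, map_one]
    exact Subgroup.one_mem _

/-- With no component, the trivial system is the layer. -/
theorem isLayerOf_bot [Finite S] [Fact p.Prime] (hS : IsPGroup p S) (hF : F.IsSaturated p) (hc : F.IsConstrained p) :
    (innerFusionSystem (⊥ : Subgroup Ω)).IsLayerOf F p := by
  have hno := (Cfsg.Agent.Lib.FusionCompA.constrained_iff_no_component hS hF).1 hc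
  refine ⟨Cfsg.Agent.Lib.FusionCompA.inner_isNormalIn hS hF (isNormal_bot bot_le), fun U C hC => (hno ⟨U, C, hC⟩).elim, fun R D _ _ P φ hφ => ?_⟩
  obtain ⟨hP, g, hg, hgv⟩ := hφ
  have hP1 : P ≤ R := hP.trans bot_le
  have h1 : (1 : Ω) ∈ R := R.one_mem
  have : φ = conjHom P 1 := by
    ext x
    rw [hgv x]
    rw [Subgroup.mem_bot.1 hg]
    rfl
  rw [this]
  exact D.conj_mem hP1 h1

/-- The central product of a system with the trivial system. -/
theorem central_bot {Q : Subgroup Ω} [Finite Q] [Fact p.Prime] (hQ : IsPGroup p Q) :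
    IsCentralProductOf (innerFusionSystem Q) (innerFusionSystem (⊥ : Subgroup Ω)) (innerFusionSystem Q) := by
  have hb : IsPGroup p (⊥ : Subgroup Ω) := IsPGroup.of_bot
  obtain ⟨D₀, hD₀⟩ := Cfsg.Agent.S5136.result p hQ hb (innerFusionSystem Q) (innerFusionSystem (⊥ : Subgroup Ω))
  let θ : ↥(Q.prod (⊥ : Subgroup Ω)) →* Ω := (MonoidHom.fst Ω Ω).comp (Q.prod (⊥ : Subgroup Ω)).subtype
  have hθa : ∀ z : ↥(Q.prod (⊥ : Subgroup Ω)), θ z = (z : Ω × Ω).1 := fun _ => rfl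
  refine ⟨D₀, hD₀, ⊥, θ, bot_le, bot_inf_eq _, bot_inf_eq _, fun x hx => rfl, fun y hy => ?_, ?_⟩
  · exact (Subgroup.mem_bot.1 hy.2).symm
  refine ⟨bot_le, fun s => ?_, ?_, fun P' φ' => ?_⟩
  · rw [hθa, Subgroup.mem_bot]
    constructor
    · intro h
      have h2 : (s : Ω × Ω).2 = 1 := Subgroup.mem_bot.1 s.2.2
      exact Prod.ext h h2
    · intro h
      rw [h]
      rfl
  · ext x
    constructor
    · rintro ⟨z, rfl⟩
      exact z.2.1
    · intro hx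
      exact ⟨⟨(x, 1), hx, Subgroup.one_mem _⟩, rfl⟩
  -- the maps
  have hpre : ∀ z : Ω × Ω, z ∈ preimageAlong θ P' ↔ (z.1 ∈ Q ∧ z.2 = 1) ∧ z.1 ∈ P' := by
    intro z
    constructor
    · rintro ⟨w, hw, rfl⟩
      exact ⟨⟨w.2.1, Subgroup.mem_bot.1 w.2.2⟩, hw⟩
    · rintro ⟨⟨h1, h2⟩, h3⟩
      exact ⟨⟨z, h1, Subgroup.mem_bot.2 h2⟩, h3, rfl⟩
  have hfst : fstS (preimageAlong θ P') ≤ P' := by
    rintro _ ⟨z, hz, rfl⟩
    exact ((hpre z).1 hz).2
  have hsnd : sndS (preimageAlong θ P') ≤ ⊥ := by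
    rintro _ ⟨z, hz, rfl⟩
    exact Subgroup.mem_bot.2 ((hpre z).1 hz).1.2
  have hRle : preimageAlong θ P' ≤ Q.prod (⊥ : Subgroup Ω) := by
    intro z hz
    have := (hpre z).1 hz
    exact ⟨this.1.1, Subgroup.mem_bot.2 this.1.2⟩
  constructor
  · rintro ⟨hP', g, hg, hgv⟩
    refine ⟨hP', ?_⟩
    have h1 : Maps (innerFusionSystem Q) (fstS (preimageAlong θ P')) (fun x => g * x * g⁻¹) := by
      refine ⟨conjHom _ g, (innerFusionSystem Q).conj_mem (hfst.trans hP') hg, fun x => rfl⟩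
    have h2 : Maps (innerFusionSystem (⊥ : Subgroup Ω)) (sndS (preimageAlong θ P')) (fun x => (1 : Ω) * x * 1⁻¹) := by
      refine ⟨conjHom _ 1, (innerFusionSystem (⊥ : Subgroup Ω)).conj_mem hsnd (Subgroup.one_mem _), fun x => rfl⟩
    have hm := Cfsg.Agent.Lib.FusionSplit.maps_prod_mk hD₀ hRle h1 h2
    refine ⟨hm.hom, hm.hom_mem, hRle, fun x => by rw [hm.hom_apply]; exact hm.mem x.2, fun x => ((hpre x).1 x.2).2, fun x => ?_⟩
    rw [hgv]
    show _ = ((hm.hom x : Ω × Ω)).1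
    rw [hm.hom_apply]
    rfl
  · rintro ⟨hP', φ, hφ, hP₁, hφ₁, hP₂, hv⟩
    refine ⟨hP', ?_⟩
    obtain ⟨f₁, f₂, h₁, h₂, h₁₂⟩ := Cfsg.Agent.Lib.FusionSplit.maps_prod_spec hD₀ (Maps.of_mem hφ)
    obtain ⟨y, hy, hyv⟩ := Cfsg.Agent.Lib.FusionSplit.maps_inner h₁
    refine ⟨y, hy, fun x => ?_⟩
    have hxm : ((x : Ω), (1 : Ω)) ∈ preimageAlong θ P' := (hpre _).2 ⟨⟨hP' x.2, rfl⟩, x.2⟩
    have h3 := hv ⟨_, hxm⟩
    have h4 := h₁₂ _ hxm
    rw [fn_of_mem φ hxm] at h4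
    have h5 : (θ ⟨φ ⟨_, hxm⟩, hφ₁ ⟨_, hxm⟩⟩) = f₁ x := by
      show (φ ⟨_, hxm⟩ : Ω × Ω).1 = f₁ x
      rw [h4]
    rw [h5, hyv x ⟨_, hxm, rfl⟩] at h3
    exact h3

/-- A saturated system over an abelian group is constrained. -/
theorem constrained_of_abelian {U : Subgroup Ω} {C : FusionSystem U} [Finite U] [Fact p.Prime] (hU : IsPGroup p U) (hC : C.IsSaturated p)
    (hab : ∀ x ∈ U, ∀ y ∈ U, x * y = y * x) : C.IsConstrained p := by
  refine ⟨hC, U, Cfsg.Agent.Lib.FusionNormalCrit.isNormal_of_ext hU hC le_rfl (fun P hPQ φ hφ => ?_), le_rfl, fun Q hQ => ?_⟩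
  · obtain ⟨α, hα, hαe⟩ := Cfsg.Agent.Lib.FusionAbelian.exists_aut_of_abelian hC hab hφ
    refine ⟨α, hα, fun x => ?_⟩
    exact hαe x
  · obtain ⟨f, hf, rfl⟩ := isConj_iff.1 hQ
    have h1 : img f U = U := img_eq_of_card hf le_rfl le_rfl (fun x hx => hf.mem hx) le_rfl
    rw [h1]
    exact inf_le_left

/-- **Constrained iff the inner system of the core is a generalized Fitting subsystem.** -/
theorem constrained_iff [Finite S] [Fact p.Prime] (hS : IsPGroup p S) (hF : F.IsSaturated p) :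
    F.IsConstrained p ↔ (innerFusionSystem F.core).IsGeneralizedFittingOf F p := by
  have hcoreS : F.core ≤ S := (Cfsg.Agent.S5145.result F).1
  haveI : Finite F.core := finite_of_le hcoreS
  constructor
  · intro hc
    exact ⟨⊥, innerFusionSystem ⊥, isLayerOf_bot hS hF hc, central_bot (hS.to_le hcoreS)⟩
  · rintro ⟨T, E, hL, D₀, hD₀, Z, θ, -, -, -, hθ₁, hθ₂, hfac⟩
    by_contra hnc
    obtain ⟨U, C, hsub, hq⟩ := Cfsg.Agent.Lib.FusionCompA.exists_component _ F hS hF rfl hnc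
    have hTS : T ≤ S := hL.1.1.2.2.2.1.1
    have hTc : T ≤ F.core := by
      intro y hy
      have h1 : ((1 : Ω), y) ∈ F.core.prod T := ⟨Subgroup.one_mem _, hy⟩
      rw [← hfac.2.2.1]
      exact ⟨⟨_, h1⟩, hθ₂ y h1⟩
    have hab : ∀ a ∈ T, ∀ b ∈ T, a * b = b * a := by
      intro a ha b hb
      have h1 : (a, (1 : Ω)) ∈ F.core.prod T := ⟨hTc ha, Subgroup.one_mem _⟩
      have h2 : ((1 : Ω), b) ∈ F.core.prod T := ⟨Subgroup.one_mem _, hb⟩
      have e1 := map_mul θ ⟨_, h1⟩ ⟨_, h2⟩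
      have e2 := map_mul θ ⟨_, h2⟩ ⟨_, h1⟩
      have e3 : (⟨_, h1⟩ * ⟨_, h2⟩ : ↥(F.core.prod T)) = ⟨_, h2⟩ * ⟨_, h1⟩ := by
        apply Subtype.ext
        show (a, (1 : Ω)) * ((1 : Ω), b) = ((1 : Ω), b) * (a, (1 : Ω))
        simp
      rw [hθ₁ a h1, hθ₂ b h2] at e1 e2
      rw [← e1, ← e2, e3]
    have hUT : U ≤ T := by
      have h1 : conjHom U 1 ∈ C.Hom U := C.conj_mem le_rfl (Subgroup.one_mem _)
      have h2 := hL.2.1 U C ⟨hsub, hq⟩ U h1
      exact (Maps.of_mem h2).le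
    have hUS : U ≤ S := hUT.trans hTS
    haveI : Finite U := finite_of_le hUS
    exact Cfsg.Agent.Lib.FusionCompA.qs_not_constrained (hS.to_le hUS) hq
      (constrained_of_abelian (hS.to_le hUS) hq.1 (fun a ha b hb => hab a (hUT ha) b (hUT hb)))

end Cfsg.Agent.Lib.FusionFit
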