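import Mathlib
import Cfsg.Agent.Lib.FusionSL2

/-!
# A group of linear automorphisms of a plane over `ZMod p` with a non-normal Sylow `p`-subgroup contains the map `-1`
-/

set_option autoImplicit false

namespace Cfsg.Agent.Lib.FusionNegOne

open Cfsg.Agent.Lib.FusionSL2

variable {p : ℕ} [hp : Fact p.Prime] {V : Type*} [AddCommGroup V] [Module (ZMod p) V]

/-- A group of linear automorphisms of a plane with a non-normal Sylow subgroup contains `-1`. -/
theorem exists_neg {D : Type*} [Group D] (hfin : Module.finrank (ZMod p) V = 2)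
    (Φ : D →* (V ≃ₗ[ZMod p] V)) (hΦ : Function.Injective Φ) (T : Sylow p D)
    (hT : ¬ (T : Subgroup D).Normal) :
    ∃ d : D, ∀ x : V, Φ d x = -x := by
  classical
  have hpp : p.Prime := hp.out
  have hfd : Module.Finite (ZMod p) V := Module.finite_of_finrank_pos (by omega)
  have hfV : Finite V := Module.finite_of_finite (ZMod p)
  have hcardV : Nat.card V = p ^ 2 := by
    rw [Module.natCard_eq_pow_finrank (K := ZMod p), hfin, Nat.card_zmod]
  -- a fixed vector of `T`
  letI act : MulAction (T : Subgroup D) V :=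
    { smul := fun s x => Φ (s : D) x
      one_smul := fun x => by
        show Φ ((1 : (T : Subgroup D)) : D) x = x
        simp
      mul_smul := fun a b x => by
        show Φ ((a * b : (T : Subgroup D)) : D) x = Φ (a : D) (Φ (b : D) x)
        simp }
  have hact : ∀ (s : (T : Subgroup D)) (x : V), s • x = Φ (s : D) x := fun _ _ => rfl
  have h0fix : (0 : V) ∈ MulAction.fixedPoints (T : Subgroup D) V := by
    intro s
    rw [hact, map_zero]
  obtain ⟨v₁, hv₁, hv₁0⟩ := T.isPGroup'.exists_fixed_point_of_prime_dvd_card_of_fixed_point V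
    (by rw [hcardV]; exact dvd_pow_self p two_ne_zero) h0fix
  have hv₁ne : v₁ ≠ 0 := fun h => hv₁0 h.symm
  have hfixT : ∀ s ∈ (T : Subgroup D), Φ s v₁ = v₁ := fun s hs => hv₁ ⟨s, hs⟩
  -- not normal
  obtain ⟨t, ht, g, hg⟩ : ∃ t ∈ (T : Subgroup D), ∃ g : D, g * t * g⁻¹ ∉ (T : Subgroup D) := by
    by_contra hcon
    push Not at hcon
    exact hT ⟨fun t ht g => hcon t ht g⟩
  set L := Submodule.span (ZMod p) {v₁} with hL
  have hEnd : ∀ (d : D) (n : ℕ), d ^ n = 1 → ((Φ d : V ≃ₗ[ZMod p] V) : V →ₗ[ZMod p] V) ^ n = 1 := by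
    intro d n hd
    have h1 : ∀ m : ℕ, ((Φ d : V ≃ₗ[ZMod p] V) : V →ₗ[ZMod p] V) ^ m = ((Φ (d ^ m) : V ≃ₗ[ZMod p] V) : V →ₗ[ZMod p] V) := by
      intro m
      induction m with
      | zero => simp; rfl
      | succ m ih =>
        rw [pow_succ, ih, pow_succ, map_mul]
        rfl
    rw [h1, hd, map_one]
    rfl
  -- the stabilizer of `v₁`
  let A : Subgroup D :=
    { carrier := {u | Φ u v₁ = v₁ ∧ ∀ w, Φ u w - w ∈ L}
      mul_mem' := by
        rintro a b ⟨ha1, ha2⟩ ⟨hb1, hb2⟩
        refine ⟨?_, fun w => ?_⟩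
        · rw [map_mul, LinearEquiv.mul_apply, hb1, ha1]
        · rw [map_mul, LinearEquiv.mul_apply]
          have := L.add_mem (ha2 (Φ b w)) (hb2 w)
          simpa using this
      one_mem' := by
        refine ⟨by simp, fun w => ?_⟩
        simp
      inv_mem' := by
        rintro a ⟨ha1, ha2⟩
        have hinv : ∀ w, Φ a (Φ a⁻¹ w) = w := by
          intro w
          rw [← LinearEquiv.mul_apply, ← map_mul]
          simp
        refine ⟨?_, fun w => ?_⟩
        · have h1 := hinv v₁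
          conv_lhs => rw [← ha1]
          have h2 : Φ a⁻¹ (Φ a v₁) = v₁ := by
            rw [← LinearEquiv.mul_apply, ← map_mul]
            simp
          exact h2
        · have h1 := ha2 (Φ a⁻¹ w)
          rw [hinv] at h1
          have h2 := L.neg_mem h1
          simpa using h2 }
  have hAmem : ∀ u, u ∈ A ↔ Φ u v₁ = v₁ ∧ ∀ w, Φ u w - w ∈ L := fun _ => Iff.rfl
  have hAp : IsPGroup p A := by
    intro u
    refine ⟨1, Subtype.ext ?_⟩
    apply hΦ
    ext w
    obtain ⟨hu1, hu2⟩ := (hAmem _).mp u.2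
    set x := Φ (u : D) w - w with hx
    have hxL : x ∈ L := hu2 w
    have hxfix : Φ (u : D) x = x := by
      obtain ⟨s, hs⟩ := Submodule.mem_span_singleton.mp hxL
      rw [← hs, map_smul, hu1]
    have hw : Φ (u : D) w = w + x := by rw [hx]; abel
    have hpow : ∀ n : ℕ, Φ ((u : D) ^ n) w = w + n • x := by
      intro n
      induction n with
      | zero => simp
      | succ n ih =>
        rw [pow_succ', map_mul, LinearEquiv.mul_apply, ih, map_add, hw, map_nsmul, hxfix, succ_nsmul]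
        abel
    have h1 := hpow p
    have h2 : p • x = 0 := by
      have : (p : ZMod p) • x = p • x := Nat.cast_smul_eq_nsmul (ZMod p) p x
      rw [← this, ZMod.natCast_self, zero_smul]
    rw [h2, add_zero] at h1
    have h3 : ((u ^ p ^ 1 : A) : D) = (u : D) ^ p := by simp
    rw [h3, h1]
    simp
  have hPunip : ∀ (d : D) (n : ℕ), d ^ (p ^ n) = 1 → ∀ (v : V), v ≠ 0 → Φ d v = v → ∀ w,
      Φ d w - w ∈ Submodule.span (ZMod p) {v} := by
    intro d n hd v hv hdv w
    exact sub_mem_span_of_unipotent hfin _ (hEnd d _ hd) hv hdv w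
  have hTA : (T : Subgroup D) ≤ A := by
    intro s hs
    obtain ⟨n, hn⟩ := T.isPGroup' ⟨s, hs⟩
    have hn' : s ^ p ^ n = 1 := by
      have := congrArg Subtype.val hn
      simpa using this
    exact ⟨hfixT s hs, hPunip s n hn' v₁ hv₁ne (hfixT s hs)⟩
  have hAT : A = T := T.is_maximal' hAp hTA
  -- the second vector
  set u := g * t * g⁻¹ with hu
  obtain ⟨n, hn⟩ := T.isPGroup' ⟨t, ht⟩
  have htn : t ^ p ^ n = 1 := by
    have := congrArg Subtype.val hn
    simpa using this
  have hun : u ^ p ^ n = 1 := by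
    rw [hu, conj_pow, htn]
    group
  set v₂ := Φ g v₁ with hv₂
  have hv₂ne : v₂ ≠ 0 := by
    intro h
    apply hv₁ne
    exact (Φ g).injective (by rw [map_zero]; exact h)
  have huv₂ : Φ u v₂ = v₂ := by
    rw [hu, hv₂, map_mul, map_mul]
    show Φ g (Φ t (Φ g⁻¹ (Φ g v₁))) = Φ g v₁
    have h1 : Φ g⁻¹ (Φ g v₁) = v₁ := by
      rw [← LinearEquiv.mul_apply, ← map_mul]
      simp
    rw [h1, hfixT t ht]
  have hv₂L : v₂ ∉ L := by
    intro hmem
    obtain ⟨c, hc⟩ := Submodule.mem_span_singleton.mp hmem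
    have hc0 : c ≠ 0 := by
      rintro rfl
      rw [zero_smul] at hc
      exact hv₂ne hc.symm
    have h1 : Φ u v₁ = v₁ := by
      have h2 : v₁ = c⁻¹ • v₂ := by
        rw [← hc, smul_smul, inv_mul_cancel₀ hc0, one_smul]
      rw [h2, map_smul, huv₂]
    apply hg
    rw [← hAT]
    exact ⟨h1, hPunip u n hun v₁ hv₁ne h1⟩
  -- the basis
  have hli : LinearIndependent (ZMod p) ![v₁, v₂] := by
    rw [LinearIndependent.pair_iff]
    intro s r hsr
    by_cases hr : r = 0
    · subst hr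
      rw [zero_smul, add_zero] at hsr
      exact ⟨(smul_eq_zero.mp hsr).resolve_right hv₁ne, rfl⟩
    · exfalso
      apply hv₂L
      refine Submodule.mem_span_singleton.mpr ⟨-(r⁻¹ * s), ?_⟩
      have h1 : r • v₂ = -(s • v₁) := by
        rw [eq_neg_iff_add_eq_zero, add_comm]
        exact hsr
      have h2 : v₂ = r⁻¹ • (r • v₂) := by
        rw [smul_smul, inv_mul_cancel₀ hr, one_smul]
      rw [h2, h1, smul_neg, smul_smul, neg_smul]
  let b : Module.Basis (Fin 2) (ZMod p) V :=
    basisOfLinearIndependentOfCardEqFinrank hli (by simp [hfin])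
  have hb0 : b 0 = v₁ := by
    show (basisOfLinearIndependentOfCardEqFinrank hli _) 0 = v₁
    rw [coe_basisOfLinearIndependentOfCardEqFinrank]
    rfl
  have hb1 : b 1 = v₂ := by
    show (basisOfLinearIndependentOfCardEqFinrank hli _) 1 = v₂
    rw [coe_basisOfLinearIndependentOfCardEqFinrank]
    rfl
  -- the action of `t` and `u`
  have hext : ∀ d : D, Φ d v₁ = v₁ → Φ d v₂ = v₂ → d = 1 := by
    intro d h1 h2
    apply hΦ
    rw [map_one]
    apply LinearEquiv.toLinearMap_injective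
    apply b.ext
    intro i
    fin_cases i
    · show Φ d (b 0) = b 0
      rw [hb0, h1]
    · show Φ d (b 1) = b 1
      rw [hb1, h2]
  obtain ⟨a, ha⟩ := Submodule.mem_span_singleton.mp (hPunip t n htn v₁ hv₁ne (hfixT t ht) v₂)
  have ha0 : a ≠ 0 := by
    rintro rfl
    rw [zero_smul] at ha
    have h1 : t = 1 := hext t (hfixT t ht) (sub_eq_zero.mp ha.symm)
    apply hg
    rw [hu, h1]
    simp
  obtain ⟨e, he⟩ := Submodule.mem_span_singleton.mp (hPunip u n hun v₂ hv₂ne huv₂ v₁)
  have he0 : e ≠ 0 := by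
    rintro rfl
    rw [zero_smul] at he
    have h1 : u = 1 := hext u (sub_eq_zero.mp he.symm) huv₂
    apply hg
    rw [h1]
    exact Subgroup.one_mem _
  -- the powers
  have hfixt : ∀ m : ℕ, Φ (t ^ m) v₁ = v₁ := fun m => hfixT _ (Subgroup.pow_mem _ ht _)
  have hpowt : ∀ m : ℕ, Φ (t ^ m) v₂ = v₂ + (m : ZMod p) • (a • v₁) := by
    intro m
    induction m with
    | zero => simp
    | succ m ih =>
      rw [pow_succ, map_mul, LinearEquiv.mul_apply]
      have h1 : Φ t v₂ = v₂ + a • v₁ := by rw [ha]; abel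
      rw [h1, map_add, ih, map_smul, hfixt, Nat.cast_succ, add_smul, one_smul, add_assoc]
  have hfixu : ∀ m : ℕ, Φ (u ^ m) v₂ = v₂ := by
    intro m
    induction m with
    | zero => simp
    | succ m ih => rw [pow_succ, map_mul, LinearEquiv.mul_apply, huv₂, ih]
  have hpowu : ∀ m : ℕ, Φ (u ^ m) v₁ = v₁ + (m : ZMod p) • (e • v₂) := by
    intro m
    induction m with
    | zero => simp
    | succ m ih =>
      rw [pow_succ, map_mul, LinearEquiv.mul_apply]
      have h1 : Φ u v₁ = v₁ + e • v₂ := by rw [he]; abel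
      rw [h1, map_add, ih, map_smul, hfixu, Nat.cast_succ, add_smul, one_smul, add_assoc]
  obtain ⟨m, hm⟩ : ∃ m : ℕ, (m : ZMod p) * a = 1 :=
    ⟨(a⁻¹).val, by rw [ZMod.natCast_val, ZMod.cast_id', id, inv_mul_cancel₀ ha0]⟩
  obtain ⟨l, hl⟩ : ∃ l : ℕ, (l : ZMod p) * e = -1 :=
    ⟨(-e⁻¹).val, by rw [ZMod.natCast_val, ZMod.cast_id', id, neg_mul, inv_mul_cancel₀ he0]⟩
  have h1 : Φ (t ^ m) v₁ = v₁ := hfixt m
  have h2 : Φ (t ^ m) v₂ = v₂ + v₁ := by rw [hpowt, smul_smul, hm, one_smul]
  have h3 : Φ (u ^ l) v₂ = v₂ := hfixu l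
  have h4 : Φ (u ^ l) v₁ = v₁ - v₂ := by rw [hpowu, smul_smul, hl, neg_smul, one_smul, sub_eq_add_neg]
  have hw1 : Φ (t ^ m * u ^ l * t ^ m) v₁ = -v₂ := by
    rw [map_mul, map_mul, LinearEquiv.mul_apply, LinearEquiv.mul_apply, h1, h4, map_sub, h1, h2]
    abel
  have hw2 : Φ (t ^ m * u ^ l * t ^ m) v₂ = v₁ := by
    rw [map_mul, map_mul, LinearEquiv.mul_apply, LinearEquiv.mul_apply, h2, map_add, h4, h3, map_add, map_sub, h1, h2]
    abel
  refine ⟨(t ^ m * u ^ l * t ^ m) * (t ^ m * u ^ l * t ^ m), fun x => ?_⟩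
  have hd1 : Φ ((t ^ m * u ^ l * t ^ m) * (t ^ m * u ^ l * t ^ m)) v₁ = -v₁ := by
    rw [map_mul, LinearEquiv.mul_apply, hw1, map_neg, hw2]
  have hd2 : Φ ((t ^ m * u ^ l * t ^ m) * (t ^ m * u ^ l * t ^ m)) v₂ = -v₂ := by
    rw [map_mul, LinearEquiv.mul_apply, hw2, hw1]
  have hall : ((Φ ((t ^ m * u ^ l * t ^ m) * (t ^ m * u ^ l * t ^ m)) : V ≃ₗ[ZMod p] V) : V →ₗ[ZMod p] V) = -LinearMap.id := by
    apply b.ext
    intro i
    fin_cases i
    · show Φ _ (b 0) = -(b 0)
      rw [hb0, hd1]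
    · show Φ _ (b 1) = -(b 1)
      rw [hb1, hd2]
  exact LinearMap.congr_fun hall x

/-- The form for a group `D` acting faithfully on an elementary abelian group of order `p²`. -/
theorem exists_inv_of_commGroup {G : Type*} [CommGroup G] [Finite G]
    (hexp : ∀ x : G, x ^ p = 1) (hcard : Nat.card G = p ^ 2) {D : Type*} [Group D]
    (Φ : D →* MulAut G) (hΦ : Function.Injective Φ) (T : Sylow p D)
    (hT : ¬ (T : Subgroup D).Normal) :
    ∃ d : D, ∀ x : G, Φ d x = x⁻¹ := by
  classical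
  letI hmod : Module (ZMod p) (Additive G) := AddCommGroup.zmodModule (n := p) (fun x => by
    show Additive.ofMul ((Additive.toMul x) ^ p) = 0
    rw [hexp]
    rfl)
  have hfV : Finite (Additive G) := inferInstanceAs (Finite G)
  have hfin : Module.finrank (ZMod p) (Additive G) = 2 := finrank_two_of_card (p := p) hcard
  obtain ⟨d, hd⟩ := exists_neg hfin ((convHom G).comp Φ) ((convHom_injective G).comp hΦ) T hT
  exact ⟨d, fun x => hd (Additive.ofMul x)⟩

/-- The same, without a `CommGroup` instance. -/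
theorem exists_inv_of_group {G : Type*} [Group G] [Finite G] (hcomm : ∀ x y : G, x * y = y * x)
    (hexp : ∀ x : G, x ^ p = 1) (hcard : Nat.card G = p ^ 2) {D : Type*} [Group D]
    (Φ : D →* MulAut G) (hΦ : Function.Injective Φ) (T : Sylow p D)
    (hT : ¬ (T : Subgroup D).Normal) :
    ∃ d : D, ∀ x : G, Φ d x = x⁻¹ := by
  let _ : CommGroup G := { (inferInstance : Group G) with mul_comm := hcomm }
  exact exists_inv_of_commGroup hexp hcard Φ hΦ T hT

end Cfsg.Agent.Lib.FusionNegOne
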