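import Mathlib
import Cfsg.Agent.Lib.OddLocalA

/-!
# Stabilizers of families of pairs of invariant subgroups; coprime automorphisms

* `pairStab D A B`: the elements `β` of a group `D` of automorphisms with `x⁻¹ β x ∈ B i` for `x ∈ A i`.
* `fix_of_pair`: a coprime automorphism moving `x` by an element that it fixes, fixes `x`.
* `aut_fix_of_omega`: (p odd) a coprime automorphism fixing the elements `x` with `x ^ p = 1` of an invariant
  `p`-subgroup fixes the whole subgroup.
-/

set_option autoImplicit false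

namespace Cfsg.Agent.Lib.FusionStab

variable {Q : Type*} [Group Q]

/-- The elements of `D` moving each `x ∈ A i` by an element of `B i`. -/
def pairStab (D : Subgroup (MulAut Q)) {ι : Type*} (A B : ι → Subgroup Q)
    (hA : ∀ δ ∈ D, ∀ i, ∀ x ∈ A i, δ x ∈ A i) (hB : ∀ δ ∈ D, ∀ i, ∀ x ∈ B i, δ x ∈ B i) : Subgroup D where
  carrier := {β | ∀ i, ∀ x ∈ A i, x⁻¹ * (β : MulAut Q) x ∈ B i}
  mul_mem' := by
    intro a b ha hb i x hx
    have h1 := hb i x hx
    have h2 := hB _ a.2 i _ h1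
    have h3 : x⁻¹ * ((a * b : D) : MulAut Q) x =
        (x⁻¹ * (a : MulAut Q) x) * (a : MulAut Q) (x⁻¹ * (b : MulAut Q) x) := by
      simp only [Subgroup.coe_mul, MulAut.mul_apply, map_mul, map_inv]
      group
    rw [h3]
    exact (B i).mul_mem (ha i x hx) h2
  one_mem' := by
    intro i x _
    simp [(B i).one_mem]
  inv_mem' := by
    intro a ha i x hx
    have hz : (a : MulAut Q)⁻¹ x ∈ A i := hA _ (D.inv_mem a.2) i x hx
    have h1 := ha i _ hz
    have h2 : ((a : MulAut Q)) ((a : MulAut Q)⁻¹ x) = x := by simp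
    rw [h2] at h1
    have h3 := (B i).inv_mem h1
    simpa using h3

theorem mem_pairStab {D : Subgroup (MulAut Q)} {ι : Type*} {A B : ι → Subgroup Q}
    {hA : ∀ δ ∈ D, ∀ i, ∀ x ∈ A i, δ x ∈ A i} {hB : ∀ δ ∈ D, ∀ i, ∀ x ∈ B i, δ x ∈ B i} {β : D} :
    β ∈ pairStab D A B hA hB ↔ ∀ i, ∀ x ∈ A i, x⁻¹ * (β : MulAut Q) x ∈ B i := Iff.rfl

instance pairStab_normal (D : Subgroup (MulAut Q)) {ι : Type*} (A B : ι → Subgroup Q)
    (hA : ∀ δ ∈ D, ∀ i, ∀ x ∈ A i, δ x ∈ A i) (hB : ∀ δ ∈ D, ∀ i, ∀ x ∈ B i, δ x ∈ B i) :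
    (pairStab D A B hA hB).Normal where
  conj_mem := by
    intro β hβ δ i x hx
    have hz : (δ : MulAut Q)⁻¹ x ∈ A i := hA _ (D.inv_mem δ.2) i x hx
    have h1 := hβ i _ hz
    have h2 := hB _ δ.2 i _ h1
    have h3 : x⁻¹ * ((δ * β * δ⁻¹ : D) : MulAut Q) x =
        (δ : MulAut Q) (((δ : MulAut Q)⁻¹ x)⁻¹ * (β : MulAut Q) ((δ : MulAut Q)⁻¹ x)) := by
      simp
    rw [h3]
    exact h2

/-- If `β ^ m = 1`, `m` prime to `p`, and `x⁻¹ β x` has `p`-power order and is fixed by `β`, then `β x = x`. -/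
theorem fix_of_pair {p : ℕ} (β : MulAut Q) {m : ℕ} (hm : m.Coprime p) (hβ : β ^ m = 1) (x : Q)
    (hy : β (x⁻¹ * β x) = x⁻¹ * β x) {k : ℕ} (hk : (x⁻¹ * β x) ^ p ^ k = 1) : β x = x := by
  set y := x⁻¹ * β x with hydef
  have hβx : β x = x * y := by rw [hydef]; group
  have hpow : ∀ n : ℕ, (β ^ n) x = x * y ^ n := by
    intro n
    induction n with
    | zero => simp
    | succ n ih =>
      rw [pow_succ', MulAut.mul_apply, ih, map_mul, hβx, map_pow, hy, pow_succ']
      group
  have h1 := hpow m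
  rw [hβ] at h1
  have h2 : y ^ m = 1 := by
    have h3 : x = x * y ^ m := h1
    simpa using h3.symm
  have h3 : y = 1 := by
    have h4 := orderOf_dvd_of_pow_eq_one h2
    have h5 := orderOf_dvd_of_pow_eq_one hk
    have h6 : m.Coprime (p ^ k) := Nat.Coprime.pow_right k hm
    exact orderOf_eq_one_iff.mp (Nat.Coprime.eq_one_of_dvd (Nat.Coprime.coprime_dvd_left h4 h6) h5)
  rw [hβx, h3, mul_one]

/-- (`p` odd) A coprime automorphism fixing the elements with `x ^ p = 1` of an invariant `p`-subgroup fixes it. -/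
theorem aut_fix_of_omega [Finite Q] {p : ℕ} [Fact p.Prime] (hp : p ≠ 2) (β : MulAut Q)
    (hβ : (orderOf β).Coprime p) (W : Subgroup Q) (hW : IsPGroup p W) (hinv : ∀ x ∈ W, β x ∈ W)
    (hfix : ∀ x ∈ W, x ^ p = 1 → β x = x) : ∀ x ∈ W, β x = x := by
  classical
  let G := SemidirectProduct Q (MulAut Q) (MonoidHom.id (MulAut Q))
  have : Finite (MulAut Q) := Finite.of_injective (fun α : MulAut Q => (α : Q → Q)) DFunLike.coe_injective
  have : Finite G := Finite.of_equiv _ (SemidirectProduct.equivProd (N := Q) (G := MulAut Q)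
    (φ := MonoidHom.id (MulAut Q))).symm
  let ι : Q →* G := SemidirectProduct.inl
  let a : G := SemidirectProduct.inr β
  have hconj : ∀ x : Q, a * ι x * a⁻¹ = ι (β x) := by
    intro x
    show SemidirectProduct.inr β * SemidirectProduct.inl x * (SemidirectProduct.inr β)⁻¹ =
      SemidirectProduct.inl (β x)
    rw [← map_inv]
    exact (SemidirectProduct.inl_aut (φ := MonoidHom.id (MulAut Q)) β x).symm
  have hord : orderOf a = orderOf β :=
    orderOf_injective _ SemidirectProduct.inr_injective β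
  have hιinj : Function.Injective ι := SemidirectProduct.inl_injective
  have key := Cfsg.Agent.Lib.OddLocalA.thompson_omega (G := G) (p := p) hp a (by rw [hord]; exact hβ)
    (W.map ι) (hW.map _) ?_ ?_
  · intro x hx
    have h1 := key (ι x) ⟨x, hx, rfl⟩
    have h2 : a * ι x * a⁻¹ = ι x := by rw [h1, mul_inv_cancel_right]
    rw [hconj] at h2
    exact hιinj h2
  · rintro _ ⟨x, hx, rfl⟩
    rw [hconj]
    exact ⟨_, hinv x hx, rfl⟩
  · rintro _ ⟨x, hx, rfl⟩ hxp
    have h1 : x ^ p = 1 := hιinj (by rw [map_pow, hxp, map_one])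
    have h2 := hfix x hx h1
    have h3 := hconj x
    rw [h2] at h3
    calc a * ι x = a * ι x * a⁻¹ * a := (inv_mul_cancel_right _ _).symm
      _ = ι x * a := by rw [h3]

end Cfsg.Agent.Lib.FusionStab
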