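import Mathlib
import Cfsg.Agent.Lib.FusionNegOne
import Cfsg.Agent.Lib.FusionResidual
import Cfsg.Agent.Lib.FusionCore
import Cfsg.Agent.S5236

/-!
# Strongly closed subgroups with `Ω₁` elementary abelian of rank at most two, `p` odd

If `p` is odd and `P` is strongly closed in the saturated system `F` with `Ω₁(P)` elementary abelian of order at
most `p²`, then `P` is normal in `F`. Via the chain criterion; the new input is that `[Ω₁(P), P]` is strongly closed
when it is not trivial, by the extension of `-1` on `Ω₁(P)` to `S`.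
-/

set_option autoImplicit false

namespace Cfsg.Agent.Lib.FusionRankTwo

open Cfsg Cfsg.FusionSystem Cfsg.Agent.Lib.FusionCore
open scoped commutatorElement

section Unip

variable {p : ℕ} [hp : Fact p.Prime]

theorem sub_mem_span_aux {V : Type*} [AddCommGroup V] [Module (ZMod p) V]
    (hfin : Module.finrank (ZMod p) V = 2) (U : V ≃ₗ[ZMod p] V) {n : ℕ} (hU : ∀ x, (⇑U)^[p ^ n] x = x)
    {v : V} (hv : v ≠ 0) (hUv : U v = v) (w : V) : U w - w ∈ Submodule.span (ZMod p) {v} := by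
  have h1 : (U.toLinearMap) ^ (p ^ n) = 1 := by
    ext x
    rw [Module.End.pow_apply]
    have h2 : (⇑U.toLinearMap)^[p ^ n] x = (⇑U)^[p ^ n] x := rfl
    rw [h2, hU]
    rfl
  exact Cfsg.Agent.Lib.FusionSL2.sub_mem_span_of_unipotent hfin U.toLinearMap h1 hv hUv w

theorem mul_inv_mem_zpowers_aux {G : Type*} [CommGroup G] [Finite G] [Module (ZMod p) (Additive G)]
    (hcard : Nat.card G = p ^ 2) (σ : MulAut G) {k : ℕ} (hσ : σ ^ (p ^ k) = 1)
    {z : G} (hz : z ≠ 1) (hσz : σ z = z) (w : G) : σ w * w⁻¹ ∈ Subgroup.zpowers z := by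
  classical
  have hfV : Finite (Additive G) := inferInstanceAs (Finite G)
  have hfin : Module.finrank (ZMod p) (Additive G) = 2 :=
    Cfsg.Agent.Lib.FusionSL2.finrank_two_of_card (p := p) hcard
  let U : Additive G ≃ₗ[ZMod p] Additive G := Cfsg.Agent.Lib.FusionSL2.convHom (p := p) G σ
  have hU0 : ∀ x, U x = Additive.ofMul (σ (Additive.toMul x)) := fun _ => rfl
  have hU : ∀ (m : ℕ) (x : Additive G), (⇑U)^[m] x = Additive.ofMul ((σ ^ m) (Additive.toMul x)) := by
    intro m x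
    induction m with
    | zero => rfl
    | succ m ih =>
      rw [Function.iterate_succ_apply', ih, pow_succ', hU0]
      rfl
  have hU1 : ∀ x, (⇑U)^[p ^ k] x = x := by
    intro x
    rw [hU, hσ]
    rfl
  have hz' : Additive.ofMul z ≠ 0 := hz
  have hUz : U (Additive.ofMul z) = Additive.ofMul z := by
    rw [hU0]
    show Additive.ofMul (σ z) = _
    rw [hσz]
  have h := sub_mem_span_aux hfin U hU1 hz' hUz (Additive.ofMul w)
  obtain ⟨c, hc⟩ := Submodule.mem_span_singleton.mp h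
  have h1 : (c.val : ZMod p) • Additive.ofMul z = c.val • Additive.ofMul z :=
    Nat.cast_smul_eq_nsmul (ZMod p) c.val _
  rw [ZMod.natCast_val, ZMod.cast_id', id] at h1
  rw [h1] at hc
  have h2 : z ^ c.val = σ w * w⁻¹ := by
    have h3 := congrArg Additive.toMul hc
    simpa [div_eq_mul_inv, hU0] using h3
  rw [← h2]
  exact Subgroup.npow_mem_zpowers z c.val

/-- A unipotent automorphism of an elementary abelian group of order `p²` fixing `z ≠ 1` moves each element
by a power of `z`. -/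
theorem mul_inv_mem_zpowers {G : Type*} [CommGroup G] [Finite G]
    (hexp : ∀ x : G, x ^ p = 1) (hcard : Nat.card G = p ^ 2) (σ : MulAut G) {k : ℕ} (hσ : σ ^ (p ^ k) = 1)
    {z : G} (hz : z ≠ 1) (hσz : σ z = z) (w : G) : σ w * w⁻¹ ∈ Subgroup.zpowers z := by
  letI hmod : Module (ZMod p) (Additive G) := AddCommGroup.zmodModule (n := p) (fun x => by
    show Additive.ofMul ((Additive.toMul x) ^ p) = 0
    rw [hexp]
    rfl)
  exact mul_inv_mem_zpowers_aux hcard σ hσ hz hσz w

/-- The same, without a `CommGroup` instance. -/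
theorem mul_inv_mem_zpowers_of_group {G : Type*} [Group G] [Finite G] (hcomm : ∀ x y : G, x * y = y * x)
    (hexp : ∀ x : G, x ^ p = 1) (hcard : Nat.card G = p ^ 2) (σ : MulAut G) {k : ℕ} (hσ : σ ^ (p ^ k) = 1)
    {z : G} (hz : z ≠ 1) (hσz : σ z = z) (w : G) : σ w * w⁻¹ ∈ Subgroup.zpowers z := by
  let _ : CommGroup G := { (inferInstance : Group G) with mul_comm := hcomm }
  exact mul_inv_mem_zpowers hexp hcard σ hσ hz hσz w

end Unip

variable {Ω : Type*} [Group Ω] {S : Subgroup Ω} {F : FusionSystem S} {p : ℕ} [hp : Fact p.Prime]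

theorem inf_zpowers_eq_one {G : Type*} [Group G] {a b : G} (hb : b ^ p = 1) (hab : b ∉ Subgroup.zpowers a)
    {c : G} (hca : c ∈ Subgroup.zpowers a) (hcb : c ∈ Subgroup.zpowers b) : c = 1 := by
  classical
  have hpp := hp.out
  by_contra hc
  obtain ⟨i, rfl⟩ := Subgroup.mem_zpowers_iff.mp hcb
  have hco : orderOf b = p := by
    apply orderOf_eq_prime hb
    rintro rfl
    exact hab (Subgroup.one_mem _)
  have hcop : Nat.Coprime i.natAbs p := by
    by_contra hnc
    have h1 : p ∣ i.natAbs := by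
      rw [Nat.coprime_comm, Nat.Prime.coprime_iff_not_dvd hpp] at hnc
      exact not_not.mp hnc
    have h2 : (p : ℤ) ∣ i := Int.natCast_dvd.mpr h1
    obtain ⟨j, rfl⟩ := h2
    apply hc
    rw [zpow_mul, zpow_natCast, hb, one_zpow]
  -- `b` is a power of `b ^ i`
  have h3 : b ∈ Subgroup.zpowers (b ^ i) := by
    have h4 : Int.gcd i (p : ℤ) = 1 := by
      rw [Int.gcd_eq_natAbs]
      simpa using hcop
    have h5 := Int.gcd_eq_gcd_ab i (p : ℤ)
    rw [h4] at h5
    refine Subgroup.mem_zpowers_iff.mpr ⟨Int.gcdA i p, ?_⟩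
    rw [← zpow_mul]
    have h6 : i * Int.gcdA i p = 1 - p * Int.gcdB i p := by
      push_cast at h5
      linarith
    rw [h6, zpow_sub, zpow_one, zpow_mul, zpow_natCast, hb, one_zpow, inv_one, mul_one]
  apply hab
  exact (Subgroup.zpowers_le.mpr hca) h3

/-- The main theorem. -/
theorem isNormal_of_omega [Finite S] (hS : IsPGroup p S) (hF : F.IsSaturated p) (hodd : p ≠ 2) {P : Subgroup Ω}
    (hP : F.StronglyClosed P) (hcomm : ∀ x ∈ omegaOne p P, ∀ y ∈ omegaOne p P, x * y = y * x)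
    (hexp : ∀ x ∈ omegaOne p P, x ^ p = 1) (hcard : Nat.card (omegaOne p P) ≤ p ^ 2) : F.IsNormal P := by
  classical
  have hpp := hp.out
  set V := omegaOne p P with hV
  have hPS : P ≤ S := hP.1
  have hVP : V ≤ P := (Subgroup.closure_le _).mpr (fun x hx => hx.1)
  have hVS : V ≤ S := hVP.trans hPS
  haveI hfinV : Finite V := finite_of_le hVS
  have hmemV : ∀ x, x ∈ P → x ^ p = 1 → x ∈ V := fun x h1 h2 => Subgroup.subset_closure ⟨h1, h2⟩
  have hVsc : F.StronglyClosed V := by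
    refine ⟨hVS, fun R hR φ hφ x => hmemV _ (hP.2 R (hR.trans hVP) φ hφ x) ?_⟩
    rw [← map_pow]
    have h1 : x ^ p = 1 := Subtype.ext (hexp _ (hR x.2))
    rw [h1, map_one]
  have hconjV : ∀ g ∈ S, ∀ x ∈ V, g * x * g⁻¹ ∈ V := by
    intro g hg x hx
    exact hVsc.2 V le_rfl (conjHom V g) (F.conj_mem hVS hg) ⟨x, hx⟩
  have hconjP : ∀ g ∈ S, ∀ x ∈ P, g * x * g⁻¹ ∈ P := by
    intro g hg x hx
    exact hP.2 P le_rfl (conjHom P g) (F.conj_mem hPS hg) ⟨x, hx⟩
  have hnormV : ∀ g ∈ S, g ∈ Subgroup.normalizer (V : Set Ω) := fun g hg =>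
    mem_normalizer_of_conj_mem (hconjV g hg)
  have hsc_bot : F.StronglyClosed (⊥ : Subgroup Ω) := by
    refine ⟨bot_le, fun R hR φ hφ x => ?_⟩
    have h1 : x = 1 := Subtype.ext (hR x.2)
    rw [h1, map_one]
    exact Subgroup.one_mem _
  by_cases hW : ⁅V, P⁆ = ⊥
  · -- the chain `⊥ ≤ V`
    refine (Cfsg.Agent.S5236.result p hS F hF hodd P hP).mpr ⟨1, ![⊥, V], rfl, rfl, ?_, ?_, ?_⟩
    · rw [Fin.monotone_iff_le_succ]
      intro i
      fin_cases i
      exact bot_le
    · intro i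
      fin_cases i
      · exact hsc_bot
      · exact hVsc
    · intro i
      fin_cases i
      show ⁅V, P⁆ ≤ ⊥
      exact hW.le
  -- the nontrivial case
  have hVbot : V ≠ ⊥ := by
    rintro h
    apply hW
    rw [h, Subgroup.commutator_bot_left]
  have hVp : IsPGroup p V := IsPGroup.to_le hS hVS
  have hcommV : ∀ x y : V, x * y = y * x := fun x y => Subtype.ext (hcomm x x.2 y y.2)
  have hexpV : ∀ x : V, x ^ p = 1 := fun x => Subtype.ext (hexp x x.2)
  have hntV : Nontrivial V := (Subgroup.nontrivial_iff_ne_bot V).mpr hVbot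
  obtain ⟨n, hn⟩ := IsPGroup.iff_card.mp hVp
  have hn0 : n ≠ 0 := by
    rintro rfl
    rw [pow_zero] at hn
    exact hVbot ((Subgroup.card_eq_one).mp hn)
  have hdvd : p ∣ Nat.card V := by
    rw [hn]
    exact dvd_pow_self p hn0
  -- the central element
  obtain ⟨z, hzV, hzne, hzc⟩ : ∃ z ∈ V, z ≠ 1 ∧ ∀ g ∈ S, g * z * g⁻¹ = z := by
    letI act : MulAction S V :=
      { smul := fun s v => ⟨s * v * (s : Ω)⁻¹, hconjV s s.2 v v.2⟩
        one_smul := fun v => Subtype.ext (by
          show ((1 : S) : Ω) * v * ((1 : S) : Ω)⁻¹ = v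
          simp)
        mul_smul := fun a b v => Subtype.ext (by
          show ((a * b : S) : Ω) * v * ((a * b : S) : Ω)⁻¹ = a * (b * v * (b : Ω)⁻¹) * (a : Ω)⁻¹
          push_cast
          group) }
    have hact : ∀ (s : S) (v : V), ((s • v : V) : Ω) = s * v * (s : Ω)⁻¹ := fun _ _ => rfl
    have h0fix : (1 : V) ∈ MulAction.fixedPoints S V := by
      intro s
      apply Subtype.ext
      rw [hact]
      simp
    obtain ⟨v, hv, hne⟩ := hS.exists_fixed_point_of_prime_dvd_card_of_fixed_point V hdvd h0fix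
    refine ⟨v, v.2, fun h => hne ?_, fun g hg => ?_⟩
    · exact (Subtype.ext h).symm
    · have := congrArg Subtype.val (hv ⟨g, hg⟩)
      rw [hact] at this
      exact this
  have hzp : z ^ p = 1 := hexp z hzV
  have hzo : orderOf z = p := orderOf_eq_prime hzp hzne
  set W := Subgroup.zpowers z with hWdef
  have hWV : W ≤ V := Subgroup.zpowers_le.mpr hzV
  have hWS : W ≤ S := hWV.trans hVS
  have hWc : ∀ x ∈ W, ∀ g ∈ S, g * x * g⁻¹ = x := by
    intro x hx g hg
    obtain ⟨i, rfl⟩ := Subgroup.mem_zpowers_iff.mp hx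
    rw [← conj_zpow, hzc g hg]
  have hcardW : Nat.card W = p := by
    rw [hWdef, Nat.card_zpowers, hzo]
  have hcardV : Nat.card V = p ^ 2 := by
    have hn2 : n ≤ 2 := by
      rw [hn] at hcard
      exact (Nat.pow_le_pow_iff_right hpp.one_lt).mp hcard
    have hn1 : n ≠ 1 := by
      rintro rfl
      apply hW
      have hWeq : W = V := by
        apply Subgroup.eq_of_le_of_card_ge hWV
        rw [hn, hcardW, pow_one]
      rw [← hWeq, eq_bot_iff, Subgroup.commutator_le]
      intro a ha b hb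
      have h1 := hWc a ha b (hPS hb)
      rw [commutatorElement_def, Subgroup.mem_bot, mul_assoc a, mul_assoc a]
      rw [show b * a⁻¹ * b⁻¹ = (b * a * b⁻¹)⁻¹ by group, h1]
      group
    have : n = 2 := by omega
    rw [hn, this]
  -- conjugation on `V`
  have hVN : normalizerIn S V = S := by
    apply le_antisymm inf_le_left
    intro g hg
    exact ⟨hg, hnormV g hg⟩
  have hVfn : F.IsFullyNormalized V := by
    refine ⟨hVS, fun Q _ => ?_⟩
    rw [hVN]
    exact Nat.card_le_card_of_injective (Subgroup.inclusion inf_le_left) (Subgroup.inclusion_injective _)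
  have hSp : ∀ g ∈ S, ∃ k : ℕ, g ^ (p ^ k) = 1 := by
    intro g hg
    obtain ⟨k, hk⟩ := hS ⟨g, hg⟩
    exact ⟨k, congrArg Subtype.val hk⟩
  -- the conjugation automorphism
  let cV : (g : Ω) → g ∈ S → MulAut V := fun g hg => conjN S V ⟨g, hg, hnormV g hg⟩
  have hcV : ∀ g (hg : g ∈ S) (x : V), ((cV g hg x : V) : Ω) = g * x * g⁻¹ := by
    intro g hg x
    have := afn_conjN (K := S) (P := V) ⟨g, hg, hnormV g hg⟩ x.2
    rw [afn_coe] at this
    exact this
  have hcVp : ∀ g (hg : g ∈ S), ∃ k : ℕ, (cV g hg) ^ (p ^ k) = 1 := by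
    intro g hg
    obtain ⟨k, hk⟩ := hSp g hg
    refine ⟨k, ?_⟩
    show (conjN S V ⟨g, hg, hnormV g hg⟩) ^ (p ^ k) = 1
    rw [← map_pow]
    have h1 : (⟨g, hg, hnormV g hg⟩ : normalizerIn S V) ^ (p ^ k) = 1 := Subtype.ext hk
    rw [h1, map_one]
  have hunip : ∀ (τ : MulAut V) (k : ℕ), τ ^ (p ^ k) = 1 → ∀ x : V, x ≠ 1 → τ x = x → ∀ w : V,
      ((τ w : V) : Ω) * (w : Ω)⁻¹ ∈ Subgroup.zpowers (x : Ω) := by
    intro τ k hτ x hx hτx w
    have h1 := mul_inv_mem_zpowers_of_group hcommV hexpV hcardV τ hτ hx hτx w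
    obtain ⟨i, hi⟩ := Subgroup.mem_zpowers_iff.mp h1
    refine Subgroup.mem_zpowers_iff.mpr ⟨i, ?_⟩
    have := congrArg Subtype.val hi
    simpa using this
  -- the commutators
  have hVWle : ⁅V, P⁆ ≤ W := by
    rw [Subgroup.commutator_le]
    intro a ha b hb
    obtain ⟨k, hk⟩ := hcVp b (hPS hb)
    have h1 := hunip (cV b (hPS hb)) k hk ⟨z, hzV⟩ (fun h => hzne (congrArg Subtype.val h))
      (Subtype.ext (by rw [hcV b (hPS hb)]; exact hzc b (hPS hb))) ⟨a⁻¹, V.inv_mem ha⟩
    rw [hcV b (hPS hb)] at h1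
    have h2 : ⁅a, b⁆ = (b * a⁻¹ * b⁻¹) * (a⁻¹)⁻¹ := by
      rw [commutatorElement_def, inv_inv, ← hcomm a ha _ (hconjV b (hPS hb) _ (V.inv_mem ha))]
      group
    rw [h2]
    exact h1
  have hWPle : ⁅W, P⁆ ≤ ⊥ := by
    rw [Subgroup.commutator_le]
    intro a ha b hb
    have h1 := hWc a ha b (hPS hb)
    rw [commutatorElement_def, Subgroup.mem_bot, mul_assoc a, mul_assoc a]
    rw [show b * a⁻¹ * b⁻¹ = (b * a * b⁻¹)⁻¹ by group, h1]
    group
  -- an element acting nontrivially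
  obtain ⟨v₀, hv₀, y₀, hy₀, hne₀⟩ : ∃ v₀ ∈ V, ∃ y₀ ∈ P, y₀ * v₀ * y₀⁻¹ ≠ v₀ := by
    by_contra hcon
    push Not at hcon
    apply hW
    rw [eq_bot_iff, Subgroup.commutator_le]
    intro a ha b hb
    have h1 := hcon a ha b hb
    rw [commutatorElement_def, Subgroup.mem_bot, mul_assoc a, mul_assoc a]
    rw [show b * a⁻¹ * b⁻¹ = (b * a * b⁻¹)⁻¹ by group, h1]
    group
  have hWsc : F.StronglyClosed W := by
    refine ⟨hWS, fun R hR φ hφ x => ?_⟩
    by_contra hx
    have hx1 : (x : Ω) ≠ 1 := by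
      intro h
      apply hx
      have : x = 1 := Subtype.ext h
      rw [this, map_one]
      exact W.one_mem
    have hm : Maps F R (fn φ) := Maps.of_mem hφ
    set f := fn φ with hfdef
    have hfx : f x = φ x := fn_coe φ x
    obtain ⟨g, hg, hg1, hg2⟩ := hm.inv
    have hR'V : img f R ≤ V := by
      intro y hy
      obtain ⟨r, hr, rfl⟩ := hm.mem_img.mp hy
      rw [hfdef, fn_of_mem φ hr]
      exact hVsc.2 R (hR.trans hWV) φ hφ ⟨r, hr⟩
    have hRS : R ≤ S := hR.trans hWS
    have hRfc : F.IsFullyCentralized R := by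
      refine ⟨hRS, fun Q hQ => ?_⟩
      have h1 : centralizerIn S Q ≤ centralizerIn S R := by
        intro c hc
        refine mem_centralizerIn.mpr ⟨hc.1, fun h hh => ?_⟩
        have h2 := hWc h (hR hh) c hc.1
        rw [mul_inv_eq_iff_eq_mul] at h2
        exact h2.symm
      haveI : Finite (centralizerIn S R) := finite_of_le inf_le_left
      exact Nat.card_le_card_of_injective (Subgroup.inclusion h1) (Subgroup.inclusion_injective _)
    have hRrec := receptive_of_fullyCentralized hS hF hRfc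
    have himg : img g (img f R) = R := hm.img_inv hg hg1
    obtain ⟨g', hg', hg'g⟩ := Cfsg.Agent.Lib.FusionCore.IsReceptive.ext hRrec hg himg
    have hVNf : V ≤ Nf S (img f R) g := by
      refine le_trans ?_ (centralizerIn_le_Nf hg)
      intro v hv
      exact mem_centralizerIn.mpr ⟨hVS hv, fun h hh => hcomm h (hR'V hh) v hv⟩
    have hm2 : Maps F V g' := hg'.restrict hVNf
    have hm2V : ∀ v ∈ V, g' v ∈ V := by
      intro v hv
      have h1 := hVsc.2 V le_rfl hm2.hom hm2.hom_mem ⟨v, hv⟩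
      rwa [hm2.hom_apply] at h1
    have himg2 : img g' V = V := img_eq_of_card hm2 hVS hVS hm2V le_rfl
    let α : MulAut V := hm2.toAut himg2
    have hαmem : α ∈ F.autGroup V := hm2.toAut_mem himg2
    have hαa : ∀ v ∈ V, afn α v = g' v := fun v hv => hm2.afn_toAut himg2 hv
    -- the two lines
    set z₁ := f x with hz₁
    have hz₁img : z₁ ∈ img f R := hm.mem_img.mpr ⟨x, x.2, rfl⟩
    have hz₁V : z₁ ∈ V := hR'V hz₁img
    have hz₁W : z₁ ∉ W := by
      rw [hfx]
      exact hx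
    have hxV : (x : Ω) ∈ V := hWV (hR x.2)
    have hαz₁ : afn α z₁ = x := by
      rw [hαa _ hz₁V, hg'g _ hz₁img]
      exact hg1 _ x.2
    have hz₁p : z₁ ^ p = 1 := hexp _ hz₁V
    have hz₁x : z₁ ∉ Subgroup.zpowers (x : Ω) := fun h => hz₁W (Subgroup.zpowers_le.mpr (hR x.2) h)
    -- fully automized
    have hfa := (of_fullyNormalized hS hF hVfn).2
    obtain ⟨-, T, hT⟩ := hfa
    have hmemT : ∀ (d : F.autGroup V), d ∈ (T : Subgroup (F.autGroup V)) ↔
        ∃ g ∈ S, ∀ v ∈ V, afn (d : MulAut V) v = g * v * g⁻¹ := by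
      intro d
      rw [hT, Subgroup.mem_subgroupOf, mem_autInducedBy]
    have hTnn : ¬ (T : Subgroup (F.autGroup V)).Normal := by
      intro hN
      have ht : (⟨cV y₀ (hPS hy₀), autInducedBy_le_autGroup hVS ((conjN_range S).le ⟨⟨y₀, hPS hy₀, hnormV y₀ (hPS hy₀)⟩, rfl⟩)⟩ : F.autGroup V) ∈ (T : Subgroup (F.autGroup V)) :=
        (hmemT _).mpr ⟨y₀, hPS hy₀, fun v hv => by
          have := hcV y₀ (hPS hy₀) ⟨v, hv⟩
          rw [afn_of_mem _ hv]
          exact this⟩
      have h1 := hN.conj_mem _ ht (⟨α, hαmem⟩ : F.autGroup V)⁻¹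
      obtain ⟨g₁, hg₁, hg₁a⟩ := (hmemT _).mp h1
      let t : MulAut V := cV y₀ (hPS hy₀)
      let a : MulAut V := α⁻¹
      let τ : MulAut V := a * t * a⁻¹
      have hτa : ∀ v ∈ V, afn τ v = g₁ * v * g₁⁻¹ := hg₁a
      let xh : V := ⟨x, hxV⟩
      let zh : V := ⟨z₁, hz₁V⟩
      have hαzh : α zh = xh := by
        apply Subtype.ext
        have := hαz₁
        rw [afn_of_mem _ hz₁V] at this
        exact this
      have hax : a xh = zh := by
        rw [← hαzh]
        show α⁻¹ (α zh) = zh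
        simp
      have hcen : ∀ g ∈ S, g * (x : Ω) * g⁻¹ = x := fun g hg => hWc _ (hR x.2) g hg
      have htx : t xh = xh := by
        apply Subtype.ext
        show ((cV y₀ (hPS hy₀) xh : V) : Ω) = x
        rw [hcV y₀ (hPS hy₀)]
        exact hcen y₀ (hPS hy₀)
      have hτx : τ xh = xh := by
        apply Subtype.ext
        have h2 := hτa x hxV
        rw [afn_of_mem _ hxV, hcen g₁ hg₁] at h2
        exact h2
      have hτz : τ zh = zh := by
        show a (t (a⁻¹ zh)) = zh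
        have h2 : a⁻¹ zh = xh := by
          rw [← hax]
          simp
        rw [h2, htx, hax]
      obtain ⟨k, hk⟩ := hcVp y₀ (hPS hy₀)
      have hτk : τ ^ (p ^ k) = 1 := by
        show (a * t * a⁻¹) ^ (p ^ k) = 1
        rw [conj_pow]
        have : t ^ (p ^ k) = 1 := hk
        rw [this]
        group
      have hxh : xh ≠ 1 := fun h => hx1 (congrArg Subtype.val h)
      have hzh : zh ≠ 1 := by
        intro h
        apply hz₁W
        have : z₁ = 1 := congrArg Subtype.val h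
        rw [this]
        exact W.one_mem
      have hτ1 : ∀ w : V, τ w = w := by
        intro w
        have h2 := hunip τ k hτk xh hxh hτx w
        have h3 := hunip τ k hτk zh hzh hτz w
        have h4 := inf_zpowers_eq_one hz₁p hz₁x h2 h3
        rw [mul_inv_eq_one] at h4
        exact Subtype.ext h4
      have ht1 : t = 1 := by
        have h2 : τ = 1 := by
          ext w
          rw [hτ1]
          rfl
        have h3 : a * t * a⁻¹ = 1 := h2
        rw [mul_inv_eq_one, mul_eq_left] at h3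
        exact h3
      apply hne₀
      have h2 := hcV y₀ (hPS hy₀) ⟨v₀, hv₀⟩
      have h3 : cV y₀ (hPS hy₀) = 1 := ht1
      rw [h3] at h2
      exact h2.symm
    obtain ⟨β, hβ⟩ := Cfsg.Agent.Lib.FusionNegOne.exists_inv_of_group hcommV hexpV hcardV
      (F.autGroup V).subtype Subtype.val_injective T hTnn
    have hβmaps : Maps F V (afn (β : MulAut V)) := Maps_of_mem_autGroup hVS β.2
    have hβa : ∀ v ∈ V, afn (β : MulAut V) v = v⁻¹ := by
      intro v hv
      rw [afn_of_mem _ hv]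
      exact congrArg Subtype.val (hβ ⟨v, hv⟩)
    have hVrec : F.IsReceptive V := receptive_of_fullyCentralized hS hF (of_fullyNormalized hS hF hVfn).1
    obtain ⟨g₀, hg₀, hg₀β⟩ := Cfsg.Agent.Lib.FusionCore.IsReceptive.ext hVrec hβmaps (afn_img _)
    have hSN : S ≤ Nf S V (afn (β : MulAut V)) := fun g hg => mem_Nf.mpr ⟨hg, hnormV g hg, g, hg, fun v hv => by
      rw [hβa _ (hconjV g hg v hv), hβa _ hv]
      group⟩
    have hg₀S : Maps F S g₀ := hg₀.restrict hSN
    have hg₀P : Maps F P g₀ := hg₀S.restrict hPS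
    have hg₀Pm : ∀ y ∈ P, g₀ y ∈ P := by
      intro y hy
      have h1 := hP.2 P le_rfl hg₀P.hom hg₀P.hom_mem ⟨y, hy⟩
      rwa [hg₀P.hom_apply] at h1
    have hg₀img : img g₀ P = P := img_eq_of_card hg₀P hPS hPS hg₀Pm le_rfl
    let b : MulAut P := hg₀P.toAut hg₀img
    have hbV : ∀ v ∈ V, afn b v = v⁻¹ := by
      intro v hv
      rw [hg₀P.afn_toAut hg₀img (hVP hv), hg₀β v hv, hβa v hv]
    haveI hfP : Finite P := finite_of_le hPS
    haveI hfA : Finite (MulAut P) := finite_mulAut hPS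
    obtain ⟨e, m, hm0, hem⟩ := Nat.exists_eq_pow_mul_and_not_dvd (orderOf_pos b).ne' p hpp.ne_one
    let γ : MulAut P := b ^ (p ^ e)
    have hγo : (orderOf γ).Coprime p := by
      have h1 : orderOf γ = m := by
        rw [orderOf_pow' _ (pow_ne_zero _ hpp.ne_zero), hem, Nat.gcd_mul_right_left]
        exact Nat.mul_div_cancel_left m (pow_pos hpp.pos _)
      rw [h1, Nat.coprime_comm]
      exact (Nat.Prime.coprime_iff_not_dvd hpp).mpr hm0
    have hbk : ∀ (k : ℕ), ∀ v ∈ V, afn (b ^ k) v = v ^ ((-1 : ℤ) ^ k) := by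
      intro k
      induction k with
      | zero =>
        intro v hv
        simp only [pow_zero, zpow_one]
        exact afn_one (hVP hv)
      | succ k ih =>
        intro v hv
        rw [pow_succ, afn_mul _ _ (hVP hv), hbV v hv, ih _ (V.inv_mem hv), inv_zpow, pow_succ, mul_neg_one, zpow_neg]
    have hγV : ∀ v ∈ V, afn γ v = v⁻¹ := by
      intro v hv
      have hoddp : Odd (p ^ e) := (hpp.odd_of_ne_two hodd).pow
      rw [hbk _ v hv, hoddp.neg_one_pow, zpow_neg_one]
    -- element-level form of `γ`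
    have hγmul : ∀ {u w : Ω}, u ∈ P → w ∈ P → afn γ (u * w) = afn γ u * afn γ w := by
      intro u w hu hw
      rw [afn_of_mem _ (P.mul_mem hu hw), afn_of_mem _ hu, afn_of_mem _ hw]
      have h1 : (⟨u * w, P.mul_mem hu hw⟩ : P) = ⟨u, hu⟩ * ⟨w, hw⟩ := rfl
      rw [h1, map_mul]
      rfl
    have hγinv : ∀ {u : Ω}, u ∈ P → afn γ u⁻¹ = (afn γ u)⁻¹ := by
      intro u hu
      rw [afn_of_mem _ (P.inv_mem hu), afn_of_mem _ hu]
      have h1 : (⟨u⁻¹, P.inv_mem hu⟩ : P) = ⟨u, hu⟩⁻¹ := rfl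
      rw [h1, map_inv]
      rfl
    -- the centralizer in `P`
    let N : Subgroup P := (Subgroup.centralizer (V : Set Ω)).subgroupOf P
    have hNmem : ∀ u : P, u ∈ N ↔ ∀ v ∈ V, v * (u : Ω) = u * v := by
      intro u
      rw [Subgroup.mem_subgroupOf, Subgroup.mem_centralizer_iff]
      rfl
    have hNn : N.Normal := by
      constructor
      intro u hu y
      rw [hNmem] at hu ⊢
      intro v hv
      have h1 := hu _ (hconjV (y : Ω)⁻¹ (hPS (P.inv_mem y.2)) v hv)
      push_cast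
      have h2 : v * ((y : Ω) * u * (y : Ω)⁻¹) = y * (((y : Ω)⁻¹ * v * ((y : Ω)⁻¹)⁻¹) * u) * (y : Ω)⁻¹ := by group
      rw [h2, h1]
      group
    have hNinv : ∀ u ∈ N, γ u ∈ N := by
      intro u hu
      rw [hNmem] at hu ⊢
      intro v hv
      have h1 := hu _ (V.inv_mem hv)
      have h2 := congrArg (afn γ) h1
      rw [hγmul (hVP (V.inv_mem hv)) u.2, hγmul u.2 (hVP (V.inv_mem hv)), hγV _ (V.inv_mem hv), inv_inv, afn_coe] at h2
      exact h2
    have hPp : IsPGroup p P := IsPGroup.to_le hS hPS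
    have hy₀N : (⟨y₀, hy₀⟩ : P)⁻¹ * γ ⟨y₀, hy₀⟩ ∈ N := by
      rw [hNmem]
      intro v hv
      have h1 : y₀ * v⁻¹ * y₀⁻¹ ∈ V := hconjV y₀ (hPS hy₀) _ (V.inv_mem hv)
      have h2 := hγV _ h1
      have hvP := hVP hv
      rw [hγmul (P.mul_mem hy₀ (P.inv_mem hvP)) (P.inv_mem hy₀), hγmul hy₀ (P.inv_mem hvP), hγinv hy₀,
        hγV _ (V.inv_mem hv), inv_inv] at h2
      have h3 : afn γ y₀ = ((γ ⟨y₀, hy₀⟩ : P) : Ω) := afn_of_mem _ hy₀
      rw [h3] at h2
      push_cast
      set y₁ : Ω := ((γ ⟨y₀, hy₀⟩ : P) : Ω) with hy₁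
      have h4 : y₁ * v = (y₀ * v * y₀⁻¹) * y₁ := by
        rw [mul_inv_eq_iff_eq_mul] at h2
        rw [h2]
        group
      calc v * (y₀⁻¹ * y₁) = y₀⁻¹ * ((y₀ * v * y₀⁻¹) * y₁) := by group
        _ = y₀⁻¹ * (y₁ * v) := by rw [h4]
        _ = y₀⁻¹ * y₁ * v := by group
    obtain ⟨c, u, hu, hγc, hcu⟩ := Cfsg.Agent.Lib.FusionResidual.exists_fixed_mul hPp γ hγo N hNinv ⟨y₀, hy₀⟩ hy₀N
    have hc1 : c ≠ 1 := by
      rintro rfl
      rw [one_mul] at hcu
      rw [← hcu, hNmem] at hu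
      apply hne₀
      have h1 := hu v₀ hv₀
      show y₀ * v₀ * y₀⁻¹ = v₀
      rw [mul_inv_eq_iff_eq_mul]
      exact h1.symm
    -- a power of order `p`
    have hco : p ∣ orderOf c := by
      obtain ⟨k, hk⟩ := (IsPGroup.iff_orderOf.mp hPp) c
      rw [hk]
      have hk0 : k ≠ 0 := by
        rintro rfl
        rw [pow_zero, orderOf_eq_one_iff] at hk
        exact hc1 hk
      exact dvd_pow_self p hk0
    have hc'o : orderOf (c ^ (orderOf c / p)) = p := orderOf_pow_orderOf_div (orderOf_pos c).ne' hco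
    set c' := c ^ (orderOf c / p) with hc'
    have hγc' : γ c' = c' := by
      rw [hc', map_pow, hγc]
    have hc'p : c' ^ p = 1 := by
      rw [← hc'o]
      exact pow_orderOf_eq_one _
    have hc'V : (c' : Ω) ∈ V := hmemV _ c'.2 (by
      have := congrArg Subtype.val hc'p
      simpa using this)
    have h1 := hγV _ hc'V
    rw [afn_of_mem γ (hVP hc'V)] at h1
    have h2 : (⟨(c' : Ω), hVP hc'V⟩ : P) = c' := rfl
    rw [h2, hγc'] at h1
    have h3 : c' = c'⁻¹ := Subtype.ext h1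
    have h4 : c' ^ 2 = 1 := by
      rw [pow_two]
      nth_rewrite 1 [h3]
      exact inv_mul_cancel c'
    have h5 : orderOf c' ∣ 2 := orderOf_dvd_of_pow_eq_one h4
    rw [hc'o] at h5
    have h6 := (Nat.prime_dvd_prime_iff_eq hpp Nat.prime_two).mp h5
    exact hodd h6
  refine (Cfsg.Agent.S5236.result p hS F hF hodd P hP).mpr ⟨2, ![⊥, W, V], rfl, rfl, ?_, ?_, ?_⟩
  · rw [Fin.monotone_iff_le_succ]
    intro i
    fin_cases i
    · exact bot_le
    · exact hWV
  · intro i
    fin_cases i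
    · exact hsc_bot
    · exact hWsc
    · exact hVsc
  · intro i
    fin_cases i
    · exact hWPle
    · exact hVWle

end Cfsg.Agent.Lib.FusionRankTwo
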