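import Mathlib
import Cfsg.Agent.Lib.FusionRankTwo
import Cfsg.Agent.Lib.FusionTransvPair
import Cfsg.Agent.Lib.GenExtraDecomp
import Cfsg.Agent.Lib.FusionCore
import Cfsg.Agent.Lib.CyclicMax
import Cfsg.Agent.S5226

/-!
# Strongly closed generalized extraspecial subgroups

The fusion part: the commutator subgroup `Z` of a strongly closed generalized extraspecial subgroup `P` is weakly
closed, unless `P` is `E × A` for the excluded `E` and `A`.
-/

set_option autoImplicit false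
set_option linter.style.haveILetI false

namespace Cfsg.Agent.Lib.FusionGenExtra

open Cfsg Cfsg.FusionSystem Cfsg.Agent.Lib.FusionCore
open scoped commutatorElement

variable {Ω : Type*} [Group Ω] {S : Subgroup Ω} {F : FusionSystem S} {p : ℕ} [hp : Fact p.Prime]

theorem exists_beta_of_group {V : Type*} [Group V] [Finite V] (hcomm : ∀ x y : V, x * y = y * x)
    (hexp : ∀ x : V, x ^ p = 1) (t t₁ : MulAut V) (z z' : V)
    (h1 : ∀ v, t v * v⁻¹ ∈ Subgroup.zpowers z) (h2 : ∀ v, t₁ v * v⁻¹ ∈ Subgroup.zpowers z')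
    (h3 : t z = z) (h4 : t₁ z' = z') (h5 : t z' ≠ z') (h6 : t₁ z ≠ z) (D : Subgroup (MulAut V))
    (ht : t ∈ D) (ht₁ : t₁ ∈ D) : ∃ β ∈ D, β z = z⁻¹ ∧ β * t = t * β := by
  let _ : CommGroup V := { (inferInstance : Group V) with mul_comm := hcomm }
  exact Cfsg.Agent.Lib.FusionTransvPair.exists_beta hexp t t₁ z z' h1 h2 h3 h4 h5 h6 D ht ht₁

theorem mul_pow_aux {G : Type*} [Group G] {x y z : G} (hyx : y * x = z * x * y) (hzx : z * x = x * z)
    (hzy : z * y = y * z) (m : ℕ) :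
    (x * y) ^ m = x ^ m * y ^ m * z ^ (m.choose 2) := by
  have hzxm : ∀ k : ℕ, z ^ k * x = x * z ^ k := fun k =>
    (Commute.pow_left (show Commute z x from hzx) k)
  have hzym : ∀ k : ℕ, z ^ k * y = y * z ^ k := fun k =>
    (Commute.pow_left (show Commute z y from hzy) k)
  have hyxm : ∀ m : ℕ, y ^ m * x = z ^ m * x * y ^ m := by
    intro m
    induction m with
    | zero => simp
    | succ m ih =>
      calc y ^ (m + 1) * x = y ^ m * (y * x) := by rw [pow_succ, mul_assoc]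
        _ = y ^ m * (z * x * y) := by rw [hyx]
        _ = (y ^ m * z) * x * y := by group
        _ = (z * y ^ m) * x * y := by rw [(Commute.pow_right (show Commute z y from hzy) m).eq]
        _ = z * (y ^ m * x) * y := by group
        _ = z * (z ^ m * x * y ^ m) * y := by rw [ih]
        _ = z ^ (m + 1) * x * y ^ (m + 1) := by
          rw [pow_succ z, pow_succ y]
          have : z * z ^ m = z ^ m * z := (Commute.self_pow z m).eq
          calc z * (z ^ m * x * y ^ m) * y = (z * z ^ m) * x * (y ^ m * y) := by group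
            _ = z ^ m * z * x * (y ^ m * y) := by rw [this]
  induction m with
  | zero => simp
  | succ m ih =>
    rw [pow_succ (x * y), ih]
    have hch : (m + 1).choose 2 = m + m.choose 2 := by
      rw [Nat.choose_succ_succ' m 1, Nat.choose_one_right]
    rw [hch, pow_add z]
    have hzc : ∀ k : ℕ, z ^ k * x = x * z ^ k := hzxm
    calc x ^ m * y ^ m * z ^ m.choose 2 * (x * y)
        = x ^ m * (y ^ m * (z ^ m.choose 2 * x)) * y := by group
      _ = x ^ m * (y ^ m * (x * z ^ m.choose 2)) * y := by rw [hzc]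
      _ = x ^ m * ((y ^ m * x) * z ^ m.choose 2) * y := by group
      _ = x ^ m * ((z ^ m * x * y ^ m) * z ^ m.choose 2) * y := by rw [hyxm]
      _ = x ^ m * (z ^ m * x) * y ^ m * (z ^ m.choose 2 * y) := by group
      _ = x ^ m * (x * z ^ m) * y ^ m * (y * z ^ m.choose 2) := by rw [hzc, hzym]
      _ = x ^ (m + 1) * (z ^ m * y ^ m * y) * z ^ m.choose 2 := by rw [pow_succ]; group
      _ = x ^ (m + 1) * (y ^ m * z ^ m * y) * z ^ m.choose 2 := by
            rw [(Commute.pow_pow (show Commute z y from hzy) m m).eq]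
      _ = x ^ (m + 1) * (y ^ m * (z ^ m * y)) * z ^ m.choose 2 := by group
      _ = x ^ (m + 1) * (y ^ m * (y * z ^ m)) * z ^ m.choose 2 := by rw [hzym]
      _ = x ^ (m + 1) * y ^ (m + 1) * (z ^ m * z ^ m.choose 2) := by rw [pow_succ y]; group

/-- The case where all elements of order dividing `p` lie in the abelian subgroup `U` of index `p`. -/
theorem omega_contra [Finite S] (hS : IsPGroup p S) (hF : F.IsSaturated p) (hodd : p ≠ 2) {P Z U : Subgroup Ω}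
    (hP : F.StronglyClosed P) (hZP : Z ≤ P) (hZeq : ∀ w ∈ Z, w ≠ 1 → Subgroup.zpowers w = Z)
    (hZc : ∀ x ∈ Z, ∀ g ∈ S, g * x * g⁻¹ = x) (hF1 : ∀ x ∈ P, ∀ y ∈ P, ⁅x, y⁆ ∈ Z) (hF2 : ∀ x ∈ P, x ^ p ∈ Z)
    (hZexp : ∀ x ∈ Z, x ^ p = 1) (hUP : U ≤ P) (hUcomm : ∀ x ∈ U, ∀ y ∈ U, x * y = y * x)
    (hUexp : ∀ x ∈ U, x ^ p = 1) (hUiff : ∀ x ∈ P, x ^ p = 1 → x ∈ U) {z z' : Ω} (hzZ : z ∈ Z) (hz1 : z ≠ 1)
    (hz'U : z' ∈ U) (hz'Z : z' ∉ Z) (hUz' : ∀ x ∈ P, x * z' = z' * x → x ∈ U) {g' : Ω → Ω} (hg' : Maps F U g')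
    (hg'z : g' z' = z) {y : Ω} (hyP : y ∈ P) (hyU : y ∉ U) : False := by
  classical
  have hpp := hp.out
  have hPS : P ≤ S := hP.1
  have hUS : U ≤ S := hUP.trans hPS
  haveI hfU : Finite U := finite_of_le hUS
  haveI hfA : Finite (MulAut U) := finite_mulAut hUS
  have hzU : z ∈ U := hUiff z (hZP hzZ) (hZexp z hzZ)
  have hUsc : F.StronglyClosed U := by
    refine ⟨hUS, fun R hR φ hφ x => hUiff _ (hP.2 R (hR.trans hUP) φ hφ x) ?_⟩
    rw [← map_pow]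
    have h1 : x ^ p = 1 := Subtype.ext (hUexp _ (hR x.2))
    rw [h1, map_one]
  have hconjU : ∀ g ∈ S, ∀ x ∈ U, g * x * g⁻¹ ∈ U := by
    intro g hg x hx
    exact hUsc.2 U le_rfl (conjHom U g) (F.conj_mem hUS hg) ⟨x, hx⟩
  have hnormU : ∀ g ∈ S, g ∈ Subgroup.normalizer (U : Set Ω) := fun g hg =>
    mem_normalizer_of_conj_mem (hconjU g hg)
  have hUN : normalizerIn S U = S := by
    apply le_antisymm inf_le_left
    intro g hg
    exact ⟨hg, hnormU g hg⟩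
  have hUfn : F.IsFullyNormalized U := by
    refine ⟨hUS, fun Q _ => ?_⟩
    rw [hUN]
    exact Nat.card_le_card_of_injective (Subgroup.inclusion inf_le_left) (Subgroup.inclusion_injective _)
  obtain ⟨hUfc, hUfa⟩ := of_fullyNormalized hS hF hUfn
  have hUrec : F.IsReceptive U := receptive_of_fullyCentralized hS hF hUfc
  have hg'U : ∀ v ∈ U, g' v ∈ U := by
    intro v hv
    have h1 := hUsc.2 U le_rfl hg'.hom hg'.hom_mem ⟨v, hv⟩
    rwa [hg'.hom_apply] at h1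
  have himg : img g' U = U := img_eq_of_card hg' hUS hUS hg'U le_rfl
  let α : MulAut U := hg'.toAut himg
  have hαmem : α ∈ F.autGroup U := hg'.toAut_mem himg
  have hαa : ∀ v ∈ U, afn α v = g' v := fun v hv => hg'.afn_toAut himg hv
  let zh : U := ⟨z, hzU⟩
  let zh' : U := ⟨z', hz'U⟩
  have hαzh' : α zh' = zh := by
    apply Subtype.ext
    have h1 := hαa z' hz'U
    rw [afn_of_mem _ hz'U, hg'z] at h1
    exact h1
  -- conjugation by elements of `S`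
  let cU : (g : Ω) → g ∈ S → MulAut U := fun g hg => conjN S U ⟨g, hg, hnormU g hg⟩
  have hcU : ∀ g (hg : g ∈ S) (x : U), ((cU g hg x : U) : Ω) = g * x * g⁻¹ := by
    intro g hg x
    have := afn_conjN (K := S) (P := U) ⟨g, hg, hnormU g hg⟩ x.2
    rw [afn_coe] at this
    exact this
  have hcUmem : ∀ g (hg : g ∈ S), cU g hg ∈ F.autGroup U := by
    intro g hg
    exact autInducedBy_le_autGroup hUS ((conjN_range S).le ⟨⟨g, hg, hnormU g hg⟩, rfl⟩)
  have hcUp : ∀ g (hg : g ∈ S), ∃ k : ℕ, (cU g hg) ^ (p ^ k) = 1 := by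
    intro g hg
    obtain ⟨k, hk⟩ := hS ⟨g, hg⟩
    refine ⟨k, ?_⟩
    show (conjN S U ⟨g, hg, hnormU g hg⟩) ^ (p ^ k) = 1
    rw [← map_pow]
    have h0 : g ^ (p ^ k) = 1 := congrArg Subtype.val hk
    have h1 : (⟨g, hg, hnormU g hg⟩ : normalizerIn S U) ^ (p ^ k) = 1 := Subtype.ext h0
    rw [h1, map_one]
  have hyS : y ∈ S := hPS hyP
  let t : MulAut U := cU y hyS
  have htmem : t ∈ F.autGroup U := hcUmem y hyS
  have hta : ∀ v : U, ((t v : U) : Ω) = y * v * y⁻¹ := hcU y hyS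
  let t₁ : MulAut U := α⁻¹ * t * α
  have ht₁mem : t₁ ∈ F.autGroup U :=
    (F.autGroup U).mul_mem ((F.autGroup U).mul_mem ((F.autGroup U).inv_mem hαmem) htmem) hαmem
  have ht₁a : ∀ v : U, t₁ v = α⁻¹ (t (α v)) := fun _ => rfl
  have hαinv : α⁻¹ zh = zh' := by
    rw [← hαzh']
    show α⁻¹ (α zh') = zh'
    simp
  have hzpw : ∀ (a x : U), (x : Ω) ∈ Subgroup.zpowers (a : Ω) → x ∈ Subgroup.zpowers a := by
    intro a x hx
    obtain ⟨i, hi⟩ := Subgroup.mem_zpowers_iff.mp hx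
    exact Subgroup.mem_zpowers_iff.mpr ⟨i, Subtype.ext (by simpa using hi)⟩
  have hZz : Subgroup.zpowers z = Z := hZeq z hzZ hz1
  have h3 : t zh = zh := by
    apply Subtype.ext
    rw [hta]
    exact hZc z hzZ y hyS
  have h5 : t zh' ≠ zh' := by
    intro h
    apply hyU
    have h1 := congrArg Subtype.val h
    rw [hta] at h1
    apply hUz' y hyP
    show y * z' = z' * y
    have h2 : y * z' * y⁻¹ = z' := h1
    rw [mul_inv_eq_iff_eq_mul] at h2
    exact h2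
  have h1' : ∀ v : U, t v * v⁻¹ ∈ Subgroup.zpowers zh := by
    intro v
    apply hzpw
    have h2 : (((t v * v⁻¹ : U)) : Ω) = ⁅y, (v : Ω)⁆ := by
      push_cast
      rw [hta, commutatorElement_def]
    rw [h2, hZz]
    exact hF1 y hyP v (hUP v.2)
  have h2' : ∀ v : U, t₁ v * v⁻¹ ∈ Subgroup.zpowers zh' := by
    intro v
    have h3' : t₁ v * v⁻¹ = α⁻¹ (t (α v) * (α v)⁻¹) := by
      rw [ht₁a, map_mul, map_inv]
      congr 2
      show v = α⁻¹ (α v)
      simp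
    rw [h3']
    obtain ⟨i, hi⟩ := Subgroup.mem_zpowers_iff.mp (h1' (α v))
    refine Subgroup.mem_zpowers_iff.mpr ⟨i, ?_⟩
    rw [← hi, map_zpow, hαinv]
  have h4 : t₁ zh' = zh' := by
    rw [ht₁a, hαzh', h3, hαinv]
  -- extending
  have hext : ∀ ε ∈ F.autGroup U, ∀ s ∈ S, (∀ x ∈ U, afn ε (y * x * y⁻¹) = s * afn ε x * s⁻¹) →
      ∃ y₂ ∈ P, (∀ x ∈ U, afn ε (y * x * y⁻¹) = y₂ * afn ε x * y₂⁻¹) ∧ (y ^ p ∈ U → afn ε (y ^ p) = y₂ ^ p) := by
    intro ε hε s hs hsa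
    have hεm : Maps F U (afn ε) := Maps_of_mem_autGroup hUS hε
    obtain ⟨ĝ, hĝ, hĝε⟩ := Cfsg.Agent.Lib.FusionCore.IsReceptive.ext hUrec hεm (afn_img ε)
    have hyN : y ∈ Nf S U (afn ε) := mem_Nf.mpr ⟨hyS, hnormU y hyS, s, hs, hsa⟩
    have hUN' : U ≤ Nf S U (afn ε) := le_Nf hεm
    have hRN : Subgroup.zpowers y ≤ Nf S U (afn ε) := Subgroup.zpowers_le.mpr hyN
    have hRP : Subgroup.zpowers y ≤ P := Subgroup.zpowers_le.mpr hyP
    have hR : Maps F (Subgroup.zpowers y) ĝ := hĝ.restrict hRN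
    have hy₂ : ĝ y ∈ P := by
      have h1 := hP.2 _ hRP hR.hom hR.hom_mem ⟨y, Subgroup.mem_zpowers y⟩
      rwa [hR.hom_apply] at h1
    refine ⟨ĝ y, hy₂, fun x hx => ?_, fun h => ?_⟩
    · rw [← hĝε _ (hconjU y hyS x hx), hĝ.map_conj hyN (hUN' hx), hĝε x hx]
    · rw [← hĝε _ h, hĝ.map_pow hyN]
  by_cases hA : t₁ zh = zh
  · -- `t₁` fixes `z`
    let H : Subgroup (MulAut U) :=
      { carrier := {γ | γ ∈ F.autGroup U ∧ γ zh = zh}
        mul_mem' := fun {a b} ha hb => ⟨(F.autGroup U).mul_mem ha.1 hb.1, by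
          rw [MulAut.mul_apply, hb.2, ha.2]⟩
        one_mem' := ⟨(F.autGroup U).one_mem, rfl⟩
        inv_mem' := fun {a} ha => ⟨(F.autGroup U).inv_mem ha.1, by
          show a⁻¹ zh = zh
          conv_lhs => rw [← ha.2]
          simp⟩ }
    have hT₀H : autInducedBy S U ≤ H := by
      intro γ hγ
      refine ⟨autInducedBy_le_autGroup hUS hγ, ?_⟩
      obtain ⟨g, hg, hga⟩ := mem_autInducedBy.mp hγ
      apply Subtype.ext
      have h1 := hga z hzU
      rw [afn_of_mem _ hzU, hZc z hzZ g hg] at h1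
      exact h1
    have hHA : H ≤ F.autGroup U := fun γ hγ => hγ.1
    have hTp : IsPGroup p (autInducedBy S U) := isPGroup_autInducedBy hS
    have hidx := (isFullyAutomized_iff hS hUS).mp hUfa
    obtain ⟨k, hk⟩ := hcUp y hyS
    have ht₁k : t₁ ^ (p ^ k) = 1 := by
      show (α⁻¹ * t * α) ^ (p ^ k) = 1
      have h1 : α⁻¹ * t * α = α⁻¹ * t * (α⁻¹)⁻¹ := by rw [inv_inv]
      rw [h1, conj_pow]
      have h2 : t ^ (p ^ k) = 1 := hk
      rw [h2]
      group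
    obtain ⟨δ, hδ, hσ⟩ := Cfsg.Agent.Lib.FusionTransvPair.exists_conj_mem hT₀H hHA hTp hidx (x := t₁) ⟨ht₁mem, hA⟩ ht₁k
    obtain ⟨s, hs, hsa⟩ := mem_autInducedBy.mp hσ
    obtain ⟨ε, hε⟩ : ∃ ε : MulAut U, ε = δ * α⁻¹ := ⟨_, rfl⟩
    have hεmem : ε ∈ F.autGroup U := hε ▸ (F.autGroup U).mul_mem hδ.1 ((F.autGroup U).inv_mem hαmem)
    have hσ2 : ε * t = (δ * t₁ * δ⁻¹) * ε := by
      rw [hε]
      show δ * α⁻¹ * t = δ * (α⁻¹ * t * α) * δ⁻¹ * (δ * α⁻¹)
      group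
    have hconj : ∀ x ∈ U, y * x * y⁻¹ = afn t x := by
      intro x hx
      rw [afn_of_mem _ hx]
      exact (hta ⟨x, hx⟩).symm
    have hεt : ∀ x ∈ U, afn ε (y * x * y⁻¹) = s * afn ε x * s⁻¹ := by
      intro x hx
      rw [hconj x hx, ← afn_mul _ _ hx, hσ2, afn_mul _ _ hx, hsa _ (afn_mem _ hx)]
    obtain ⟨y₂, hy₂, hy₂a, -⟩ := hext ε hεmem s hs hεt
    have hσy : ∀ w : U, (((δ * t₁ * δ⁻¹) w : U) : Ω) = y₂ * w * y₂⁻¹ := by
      intro w
      have h3 := hy₂a ((ε⁻¹ w : U) : Ω) (ε⁻¹ w).2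
      have e0 : afn ε ((ε⁻¹ w : U) : Ω) = w := by
        rw [afn_coe]
        have : ε (ε⁻¹ w) = w := by simp
        rw [this]
      rw [hconj _ (ε⁻¹ w).2, ← afn_mul _ _ (ε⁻¹ w).2, hσ2, afn_mul _ _ (ε⁻¹ w).2, e0, afn_coe] at h3
      exact h3
    -- the element `r`
    obtain ⟨v₁, hv₁⟩ : ∃ v₁ : U, v₁ = α⁻¹ zh' := ⟨_, rfl⟩
    obtain ⟨r, hr⟩ : ∃ r : U, r = t₁ v₁ * v₁⁻¹ := ⟨_, rfl⟩
    have hαv₁ : α v₁ = zh' := by
      rw [hv₁]
      show α (α⁻¹ zh') = zh'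
      simp
    have hr1 : r ≠ 1 := by
      intro h
      rw [hr, mul_inv_eq_one, ht₁a, hαv₁, hv₁] at h
      exact h5 ((MulEquiv.injective α⁻¹) h)
    have hrz : r ∈ Subgroup.zpowers zh' := by
      rw [hr]
      exact h2' v₁
    have hδr : ((δ r : U) : Ω) ∈ Z := by
      have h1 := hσy (δ v₁)
      have h2 : (δ * t₁ * δ⁻¹) (δ v₁) = δ (t₁ v₁) := by
        show δ (t₁ (δ⁻¹ (δ v₁))) = δ (t₁ v₁)
        simp
      rw [h2] at h1
      have h3 : ((δ r : U) : Ω) = ⁅y₂, ((δ v₁ : U) : Ω)⁆ := by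
        rw [hr, map_mul, map_inv, commutatorElement_def]
        push_cast
        rw [h1]
      rw [h3]
      exact hF1 y₂ hy₂ _ (hUP (δ v₁).2)
    have hδr1 : ((δ r : U) : Ω) ≠ 1 := by
      intro h
      apply hr1
      have h2 : δ r = 1 := Subtype.ext h
      exact (map_eq_one_iff δ δ.injective).mp h2
    have hzin : z ∈ Subgroup.zpowers ((δ r : U) : Ω) := by
      rw [hZeq _ hδr hδr1]
      exact hzZ
    obtain ⟨i, hi⟩ := Subgroup.mem_zpowers_iff.mp hzin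
    have h4' : δ (r ^ i) = δ zh := by
      rw [hδ.2, map_zpow]
      apply Subtype.ext
      simpa using hi
    have h5' : r ^ i = zh := δ.injective h4'
    have h6' : zh ∈ Subgroup.zpowers zh' := by
      rw [← h5']
      exact (Subgroup.zpowers zh').zpow_mem hrz i
    obtain ⟨j, hj⟩ := Subgroup.mem_zpowers_iff.mp h6'
    have h7 : z ∈ Subgroup.zpowers z' := by
      refine Subgroup.mem_zpowers_iff.mpr ⟨j, ?_⟩
      have := congrArg Subtype.val hj
      simpa using this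
    have hz'not : z' ∉ Subgroup.zpowers z := by
      rw [hZz]
      exact hz'Z
    exact hz1 (Cfsg.Agent.Lib.FusionRankTwo.inf_zpowers_eq_one (hUexp z' hz'U) hz'not (Subgroup.mem_zpowers z) h7)
  · -- the word
    have hexpU : ∀ x : U, x ^ p = 1 := fun x => Subtype.ext (hUexp x x.2)
    have hcommU : ∀ x y : U, x * y = y * x := fun x y => Subtype.ext (hUcomm x x.2 y y.2)
    obtain ⟨β, hβ, hβz, hβt⟩ := exists_beta_of_group hcommU hexpU t t₁ zh zh' h1' h2' h3 h4 h5 hA (F.autGroup U) htmem ht₁mem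
    have hconj : ∀ x ∈ U, y * x * y⁻¹ = afn t x := by
      intro x hx
      rw [afn_of_mem _ hx]
      exact (hta ⟨x, hx⟩).symm
    have hβy : ∀ x ∈ U, afn β (y * x * y⁻¹) = y * afn β x * y⁻¹ := by
      intro x hx
      rw [hconj x hx, ← afn_mul _ _ hx, hβt, afn_mul _ _ hx, hconj _ (afn_mem _ hx)]
    obtain ⟨y₂, hy₂, hy₂a, hy₂p⟩ := hext β hβ y hyS hβy
    -- `y⁻¹ y₂` centralizes `z'`
    have hu₀U : y⁻¹ * y₂ ∈ U := by
      apply hUz' _ (P.mul_mem (P.inv_mem hyP) hy₂)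
      have e0 : afn β ((β⁻¹ zh' : U) : Ω) = z' := by
        rw [afn_coe]
        have : β (β⁻¹ zh') = zh' := by simp
        rw [this]
      have h1 := hβy _ (β⁻¹ zh').2
      rw [hy₂a _ (β⁻¹ zh').2, e0] at h1
      have h2 : y₂ * z' * y₂⁻¹ = y * z' * y⁻¹ := h1
      calc y⁻¹ * y₂ * z' = y⁻¹ * (y₂ * z' * y₂⁻¹) * y₂ := by group
        _ = y⁻¹ * (y * z' * y⁻¹) * y₂ := by rw [h2]
        _ = z' * (y⁻¹ * y₂) := by group
    -- the power map
    have hPow : ∀ a ∈ P, ∀ b ∈ P, (a * b) ^ p = a ^ p * b ^ p := by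
      intro a ha b hb
      have hc := hF1 b hb a ha
      have hcc : ∀ g ∈ S, ⁅b, a⁆ * g = g * ⁅b, a⁆ := by
        intro g hg
        have h1 := hZc _ hc g hg
        rw [mul_inv_eq_iff_eq_mul] at h1
        exact h1.symm
      have hyx : b * a = ⁅b, a⁆ * a * b := by
        rw [commutatorElement_def]
        group
      have h1 := mul_pow_aux hyx (hcc a (hPS ha)) (hcc b (hPS hb)) p
      have h2lt : 2 < p := lt_of_le_of_ne hpp.two_le (Ne.symm hodd)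
      obtain ⟨m, hm⟩ := hpp.dvd_choose_self (k := 2) (by norm_num) h2lt
      rw [h1, hm, pow_mul, hZexp _ hc, one_pow, mul_one]
    have hypZ : y ^ p ∈ Z := hF2 y hyP
    have hypU : y ^ p ∈ U := hUiff _ (hZP hypZ) (hZexp _ hypZ)
    have hyp1 : y ^ p ≠ 1 := fun h => hyU (hUiff y hyP h)
    have hy₂pow : y₂ ^ p = y ^ p := by
      have h1 : y₂ = y * (y⁻¹ * y₂) := by group
      rw [h1, hPow y hyP _ (hUP hu₀U), hUexp _ hu₀U, mul_one]
    have h8 : afn β (y ^ p) = y ^ p := by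
      rw [hy₂p hypU, hy₂pow]
    have h9 : afn β (y ^ p) = (y ^ p)⁻¹ := by
      have h10 : y ^ p ∈ Subgroup.zpowers z := by
        rw [hZz]
        exact hypZ
      obtain ⟨i, hi⟩ := Subgroup.mem_zpowers_iff.mp h10
      have h11 : y ^ p = ((zh ^ i : U) : Ω) := by
        rw [← hi]
        simp [zh]
      rw [h11, afn_coe, map_zpow, hβz]
      simp
    have h12 : (y ^ p) ^ 2 = 1 := by
      rw [pow_two]
      nth_rewrite 1 [← h8]
      rw [h9, inv_mul_cancel]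
    have h13 : orderOf (y ^ p) ∣ 2 := orderOf_dvd_of_pow_eq_one h12
    have h14 : orderOf (y ^ p) ∣ p := orderOf_dvd_of_pow_eq_one (hZexp _ hypZ)
    have h15 : orderOf (y ^ p) = 1 := by
      have h16 : Nat.Coprime 2 p := (Nat.coprime_primes Nat.prime_two hpp).mpr (Ne.symm hodd)
      exact Nat.eq_one_of_dvd_coprimes h16 h13 h14
    exact hyp1 (orderOf_eq_one_iff.mp h15)

/-- The normal form modulo the centre. -/
theorem hgen_of {G : Type*} [Group G] {a b : G} (hcc : ⁅a, b⁆ ∈ Subgroup.center G)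
    (hZ : ∀ x y : G, ⁅x, y⁆ ∈ Subgroup.zpowers ⁅a, b⁆) (hU : ∀ x y : G, x * b = b * x → y * b = b * y → x * y = y * x) :
    ∀ x : G, ∃ i j : ℤ, ∃ w ∈ Subgroup.center G, x = a ^ i * b ^ j * w := by
  open Cfsg.Agent.Lib.GenExtraDecomp in
  have step1 : ∀ x : G, ∃ j : ℤ, (a ^ (-j) * x) * b = b * (a ^ (-j) * x) := by
    intro x
    obtain ⟨j, hj⟩ := Subgroup.mem_zpowers_iff.mp (hZ x b)
    refine ⟨j, ?_⟩
    have h1 : x * b * x⁻¹ = ⁅a, b⁆ ^ j * b := by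
      rw [hj, commutatorElement_def]
      group
    have h2 : a ^ (-j) * b * (a ^ (-j))⁻¹ = ⁅a, b⁆ ^ (-j) * b := zpow_conj_of_central hcc (-j)
    have h3 : (a ^ (-j) * x) * b * (a ^ (-j) * x)⁻¹ = a ^ (-j) * (x * b * x⁻¹) * (a ^ (-j))⁻¹ := by group
    rw [h1, conj_central_mul hcc, h2, ← mul_assoc, ← zpow_add, add_neg_cancel, zpow_zero, one_mul,
      mul_inv_eq_iff_eq_mul] at h3
    exact h3
  open Cfsg.Agent.Lib.GenExtraDecomp in
  intro x
  obtain ⟨j, hj⟩ := step1 x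
  obtain ⟨x₁, hx₁⟩ : ∃ x₁, x₁ = a ^ (-j) * x := ⟨_, rfl⟩
  rw [← hx₁] at hj
  obtain ⟨s, hs⟩ := Subgroup.mem_zpowers_iff.mp (hZ a x₁)
  obtain ⟨w, hw⟩ : ∃ w, w = b ^ (-s) * x₁ := ⟨_, rfl⟩
  have hwb : w * b = b * w := by
    rw [hw, mul_assoc, hj, ← mul_assoc, ← mul_assoc, ((Commute.refl b).zpow_left (-s)).eq]
  have hwa : a * w = w * a := by
    have h1 : a * b ^ (-s) * a⁻¹ = ⁅a, b⁆ ^ (-s) * b ^ (-s) := by
      have := zpow_conj_zpow_of_central hcc 1 (-s)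
      rwa [zpow_one, one_mul] at this
    have h2 : a * x₁ * a⁻¹ = ⁅a, b⁆ ^ s * x₁ := by
      rw [hs, commutatorElement_def]
      group
    have h3 : a * w * a⁻¹ = w := by
      have h4 : a * w * a⁻¹ = (a * b ^ (-s) * a⁻¹) * (a * x₁ * a⁻¹) := by
        rw [hw]
        group
      rw [h4, h1, h2, hw, mul_assoc, ← mul_assoc (b ^ (-s)), Subgroup.mem_center_iff.mp ((Subgroup.center G).zpow_mem hcc s) (b ^ (-s)),
        ← mul_assoc, ← mul_assoc (⁅a, b⁆ ^ (-s)), ← zpow_add, neg_add_cancel, zpow_zero, one_mul]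
    rw [mul_inv_eq_iff_eq_mul] at h3
    exact h3
  refine ⟨j, s, w, ?_, ?_⟩
  · rw [Subgroup.mem_center_iff]
    intro g
    obtain ⟨j', hj'⟩ := step1 g
    obtain ⟨g₁, hg₁⟩ : ∃ g₁, g₁ = a ^ (-j') * g := ⟨_, rfl⟩
    rw [← hg₁] at hj'
    have hg : g = a ^ j' * g₁ := by
      rw [hg₁]
      group
    have h5 : w * g₁ = g₁ * w := hU _ _ hwb hj'
    have h6 : a ^ j' * w = w * a ^ j' := ((show Commute a w from hwa).zpow_left j').eq
    calc g * w = (a ^ j' * g₁) * w := by rw [← hg]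
      _ = a ^ j' * (g₁ * w) := mul_assoc _ _ _
      _ = a ^ j' * (w * g₁) := by rw [h5]
      _ = (a ^ j' * w) * g₁ := (mul_assoc _ _ _).symm
      _ = (w * a ^ j') * g₁ := by rw [h6]
      _ = w * (a ^ j' * g₁) := mul_assoc _ _ _
      _ = w * g := by rw [← hg]
  · rw [hw, ← mul_assoc, mul_assoc (a ^ j), ← zpow_add, add_neg_cancel, zpow_zero, mul_one, hx₁]
    group

/-- The decomposition contradicts the excluded isomorphism type. -/
theorem decomp_contra {P Z U : Subgroup Ω} [Finite P] (hPp : IsPGroup p P)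
    (h2 : p = 2 → ¬ ∃ (A : Type) (_ : CommGroup A), (∀ a : A, a ^ 2 = 1) ∧ Nonempty (↥P ≃* DihedralGroup 4 × A))
    (hodd : p ≠ 2 → ¬ ∃ (E : Type) (_ : Group E) (A : Type) (_ : CommGroup A), Cfsg.IsExtraspecial p E ∧
      Nat.card E = p ^ 3 ∧ Monoid.exponent E = p ∧ (∀ a : A, a ^ p = 1) ∧ Nonempty (↥P ≃* E × A))
    (hZeq : ∀ w ∈ Z, w ≠ 1 → Subgroup.zpowers w = Z) (hZc : ∀ x ∈ Z, ∀ g ∈ P, g * x * g⁻¹ = x)
    (hF1 : ∀ x ∈ P, ∀ y ∈ P, ⁅x, y⁆ ∈ Z) (hUcomm : ∀ x ∈ U, ∀ y ∈ U, x * y = y * x)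
    (hUexp : ∀ x ∈ U, x ^ p = 1) {z' : Ω} (hz'P : z' ∈ P) (hz'U : z' ∈ U) (hUz' : ∀ x ∈ P, x * z' = z' * x → x ∈ U)
    {y : Ω} (hyP : y ∈ P) (hyU : y ∉ U) (hyp : y ^ p = 1) : False := by
  classical
  let a : P := ⟨y, hyP⟩
  let b : P := ⟨z', hz'P⟩
  have hcoe : ((⁅a, b⁆ : P) : Ω) = ⁅y, z'⁆ := rfl
  have hc : ⁅a, b⁆ ≠ 1 := by
    intro h
    apply hyU
    apply hUz' y hyP
    have h1 : ⁅y, z'⁆ = 1 := by
      rw [← hcoe, h]
      rfl
    rwa [commutatorElement_eq_one_iff_mul_comm] at h1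
  have hcZ : ⁅y, z'⁆ ∈ Z := hF1 y hyP z' hz'P
  have hc1 : ⁅y, z'⁆ ≠ 1 := fun h => hc (Subtype.ext h)
  have hcc : ⁅a, b⁆ ∈ Subgroup.center P := by
    rw [Subgroup.mem_center_iff]
    intro g
    apply Subtype.ext
    have h1 := hZc _ hcZ g g.2
    rw [mul_inv_eq_iff_eq_mul] at h1
    exact h1
  have hZ' : ∀ x y : P, ⁅x, y⁆ ∈ Subgroup.zpowers ⁅a, b⁆ := by
    intro u v
    have h1 : ((⁅u, v⁆ : P) : Ω) ∈ Subgroup.zpowers ⁅y, z'⁆ := by
      rw [hZeq _ hcZ hc1]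
      exact hF1 u u.2 v v.2
    obtain ⟨i, hi⟩ := Subgroup.mem_zpowers_iff.mp h1
    exact Subgroup.mem_zpowers_iff.mpr ⟨i, Subtype.ext (by simpa [hcoe] using hi)⟩
  have hU' : ∀ u v : P, u * b = b * u → v * b = b * v → u * v = v * u := by
    intro u v hu hv
    have hu' : (u : Ω) ∈ U := hUz' u u.2 (congrArg Subtype.val hu)
    have hv' : (v : Ω) ∈ U := hUz' v v.2 (congrArg Subtype.val hv)
    exact Subtype.ext (hUcomm _ hu' _ hv')
  have hgen := hgen_of hcc hZ' hU'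
  have hC : ∀ w ∈ Subgroup.center P, w ^ p = 1 := by
    intro w hw
    have h1 : (w : Ω) ∈ U := hUz' w w.2 (congrArg Subtype.val (Subgroup.mem_center_iff.mp hw b).symm)
    exact Subtype.ext (hUexp _ h1)
  obtain ⟨h₂, h₃⟩ := Cfsg.Agent.Lib.GenExtraDecomp.decomp_main hPp (a := a) (b := b) (Subtype.ext hyp)
    (Subtype.ext (hUexp _ hz'U)) hc hcc hC hgen
  by_cases hp2 : p = 2
  · exact h2 hp2 (h₂ hp2)
  · exact hodd hp2 (h₃ hp2)

/-- The main contradiction: `Z` is weakly closed. -/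
theorem core [Finite S] (hS : IsPGroup p S) (hF : F.IsSaturated p) {P Z : Subgroup Ω}
    (hP : F.StronglyClosed P) (hZP : Z ≤ P) (hZeq : ∀ w ∈ Z, w ≠ 1 → Subgroup.zpowers w = Z)
    (hZc : ∀ x ∈ Z, ∀ g ∈ S, g * x * g⁻¹ = x) (hF1 : ∀ x ∈ P, ∀ y ∈ P, ⁅x, y⁆ ∈ Z) (hF2 : ∀ x ∈ P, x ^ p ∈ Z)
    (hZexp : ∀ x ∈ Z, x ^ p = 1) (hnonab : ∃ x ∈ P, ∃ y ∈ P, ⁅x, y⁆ ≠ 1)
    (h2 : p = 2 → ¬ ∃ (A : Type) (_ : CommGroup A), (∀ a : A, a ^ 2 = 1) ∧ Nonempty (↥P ≃* DihedralGroup 4 × A))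
    (hodd : p ≠ 2 → ¬ ∃ (E : Type) (_ : Group E) (A : Type) (_ : CommGroup A), Cfsg.IsExtraspecial p E ∧
      Nat.card E = p ^ 3 ∧ Monoid.exponent E = p ∧ (∀ a : A, a ^ p = 1) ∧ Nonempty (↥P ≃* E × A))
    {φ : Z →* Ω} (hφ : φ ∈ F.Hom Z) (hne : φ.range ≠ Z) : False := by
  classical
  have hpp := hp.out
  have hPS : P ≤ S := hP.1
  have hZS : Z ≤ S := hZP.trans hPS
  haveI hfZ : Finite Z := finite_of_le hZS
  haveI hfP : Finite P := finite_of_le hPS
  have hPp : IsPGroup p P := IsPGroup.to_le hS hPS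
  -- the element moved out of `Z`
  obtain ⟨x₀, hx₀⟩ : ∃ x₀ : Z, φ x₀ ∉ Z := by
    by_contra hcon
    push Not at hcon
    apply hne
    apply Subgroup.eq_of_le_of_card_ge
    · rintro _ ⟨x, rfl⟩
      exact hcon x
    · have h1 : Nat.card φ.range = Nat.card Z := Nat.card_congr (MonoidHom.ofInjective (F.injective_of_mem hφ)).symm.toEquiv
      rw [h1]
  have hm : Maps F Z (fn φ) := Maps.of_mem hφ
  obtain ⟨f, hf⟩ : ∃ f, f = fn φ := ⟨_, rfl⟩
  rw [← hf] at hm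
  obtain ⟨z, hzdef⟩ : ∃ z : Ω, z = x₀ := ⟨_, rfl⟩
  have hzZ : z ∈ Z := hzdef ▸ x₀.2
  have hfz : f z = φ x₀ := by
    rw [hf, hzdef, fn_coe]
  obtain ⟨z', hz'def⟩ : ∃ z' : Ω, z' = f z := ⟨_, rfl⟩
  have hz'Z : z' ∉ Z := by
    rw [hz'def, hfz]
    exact hx₀
  have hz1 : z ≠ 1 := by
    intro h
    apply hz'Z
    rw [hz'def, h, hm.map_one]
    exact Z.one_mem
  have hz'P : z' ∈ P := by
    rw [hz'def, hfz]
    exact hP.2 Z hZP φ hφ x₀
  have hz'p : z' ^ p = 1 := by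
    rw [hz'def, ← hm.map_pow hzZ, hZexp z hzZ, hm.map_one]
  have hz'1 : z' ≠ 1 := by
    intro h
    apply hz'Z
    rw [h]
    exact Z.one_mem
  have hZz : Subgroup.zpowers z = Z := hZeq z hzZ hz1
  -- inverse and extension
  obtain ⟨g, hg, hg1, hg2⟩ := hm.inv
  have hZfc : F.IsFullyCentralized Z := by
    refine ⟨hZS, fun Q hQ => ?_⟩
    have h1 : centralizerIn S Q ≤ centralizerIn S Z := by
      intro c hc
      refine mem_centralizerIn.mpr ⟨hc.1, fun h hh => ?_⟩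
      have h2 := hZc h hh c hc.1
      rw [mul_inv_eq_iff_eq_mul] at h2
      exact h2.symm
    haveI : Finite (centralizerIn S Z) := finite_of_le inf_le_left
    exact Nat.card_le_card_of_injective (Subgroup.inclusion h1) (Subgroup.inclusion_injective _)
  have hZrec := receptive_of_fullyCentralized hS hF hZfc
  have himg : img g (img f Z) = Z := hm.img_inv hg hg1
  obtain ⟨g', hg', hg'g⟩ := Cfsg.Agent.Lib.FusionCore.IsReceptive.ext hZrec hg himg
  have hz'img : z' ∈ img f Z := by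
    rw [hz'def]
    exact hm.mem_img.mpr ⟨z, hzZ, rfl⟩
  have hQ' : ∀ q ∈ img f Z, ∃ i : ℤ, q = z' ^ i := by
    intro q hq
    obtain ⟨x, hx, rfl⟩ := hm.mem_img.mp hq
    rw [← hZz] at hx
    obtain ⟨i, rfl⟩ := Subgroup.mem_zpowers_iff.mp hx
    exact ⟨i, by rw [hz'def, hm.map_zpow hzZ]⟩
  -- the subgroup `U`
  obtain ⟨U, hUdef⟩ : ∃ U : Subgroup Ω, U = centralizerIn S (img f Z) ⊓ P := ⟨_, rfl⟩
  have hUP : U ≤ P := hUdef ▸ inf_le_right
  have hUz' : ∀ x ∈ P, x * z' = z' * x → x ∈ U := by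
    intro x hx hxz
    rw [hUdef]
    refine ⟨mem_centralizerIn.mpr ⟨hPS hx, fun q hq => ?_⟩, hx⟩
    obtain ⟨i, rfl⟩ := hQ' q hq
    exact ((show Commute x z' from hxz).zpow_right i).symm.eq
  have hUc : ∀ x ∈ U, x * z' = z' * x := by
    intro x hx
    rw [hUdef] at hx
    exact ((mem_centralizerIn.mp hx.1).2 z' hz'img).symm
  have hUNf : U ≤ Nf S (img f Z) g := by
    rw [hUdef]
    exact inf_le_left.trans (centralizerIn_le_Nf hg)
  have hgU : Maps F U g' := hg'.restrict hUNf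
  have hg'z : g' z' = z := by
    rw [hg'g z' hz'img, hz'def]
    exact hg1 z hzZ
  have hg'P : ∀ x ∈ U, g' x ∈ P := by
    intro x hx
    have h1 := hP.2 U hUP hgU.hom hgU.hom_mem ⟨x, hx⟩
    rwa [hgU.hom_apply] at h1
  have hz'U : z' ∈ U := hUz' z' hz'P rfl
  have hZU : Z ≤ U := by
    intro x hx
    apply hUz' x (hZP hx)
    have h1 := hZc x hx z' (hPS hz'P)
    rw [mul_inv_eq_iff_eq_mul] at h1
    exact h1.symm
  -- the image of `z`
  have hnoZ : g' z ∉ Z := by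
    intro h
    have h1 : g' z ≠ 1 := by
      intro h2
      apply hz1
      apply hgU.inj (hZU hzZ) U.one_mem
      rw [h2, hgU.map_one]
    have h2 : z ∈ Subgroup.zpowers (g' z) := by
      rw [hZeq _ h h1]
      exact hzZ
    obtain ⟨i, hi⟩ := Subgroup.mem_zpowers_iff.mp h2
    rw [← hgU.map_zpow (hZU hzZ)] at hi
    have h3 : z ^ i = z' := by
      apply hgU.inj (U.zpow_mem (hZU hzZ) i) hz'U
      rw [hi, hg'z]
    apply hz'Z
    rw [← h3]
    exact Z.zpow_mem hzZ i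
  have hgenZ : ∀ w ∈ U, w ∈ Z → w ≠ 1 → g' w ∈ Z → False := by
    intro w hwU hwZ hw1 hgw
    apply hnoZ
    have h2 : z ∈ Subgroup.zpowers w := by
      rw [hZeq _ hwZ hw1]
      exact hzZ
    obtain ⟨i, rfl⟩ := Subgroup.mem_zpowers_iff.mp h2
    rw [hgU.map_zpow hwU]
    exact Z.zpow_mem hgw i
  have hUcomm : ∀ x ∈ U, ∀ y ∈ U, x * y = y * x := by
    intro x hx y hy
    by_contra hne'
    have h1 : ⁅x, y⁆ ≠ 1 := by
      rwa [Ne, commutatorElement_eq_one_iff_mul_comm]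
    have hmem : ⁅x, y⁆ ∈ U := by
      rw [commutatorElement_def]
      exact U.mul_mem (U.mul_mem (U.mul_mem hx hy) (U.inv_mem hx)) (U.inv_mem hy)
    refine hgenZ _ hmem (hF1 x (hUP hx) y (hUP hy)) h1 ?_
    have h2 : g' ⁅x, y⁆ = ⁅g' x, g' y⁆ := by
      rw [commutatorElement_def, commutatorElement_def, hgU.map_mul (U.mul_mem (U.mul_mem hx hy) (U.inv_mem hx)) (U.inv_mem hy),
        hgU.map_mul (U.mul_mem hx hy) (U.inv_mem hx), hgU.map_mul hx hy, hgU.map_inv hx, hgU.map_inv hy]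
    rw [h2]
    exact hF1 _ (hg'P x hx) _ (hg'P y hy)
  have hUexp : ∀ x ∈ U, x ^ p = 1 := by
    intro x hx
    by_contra h1
    refine hgenZ _ (U.pow_mem hx p) (hF2 x (hUP hx)) h1 ?_
    rw [hgU.map_pow hx]
    exact hF2 _ (hg'P x hx)
  -- an element outside `U`
  obtain ⟨y, hyP, hyU⟩ : ∃ y ∈ P, y ∉ U := by
    by_contra hcon
    push Not at hcon
    obtain ⟨a, ha, b, hb, hab⟩ := hnonab
    apply hab
    rw [commutatorElement_eq_one_iff_mul_comm]
    exact hUcomm a (hcon a ha) b (hcon b hb)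
  have hZcP : ∀ x ∈ Z, ∀ g ∈ P, g * x * g⁻¹ = x := fun x hx g hg => hZc x hx g (hPS hg)
  by_cases hex : ∃ y ∈ P, y ∉ U ∧ y ^ p = 1
  · obtain ⟨y₁, hy₁P, hy₁U, hy₁p⟩ := hex
    exact decomp_contra hPp h2 hodd hZeq hZcP hF1 hUcomm hUexp hz'P hz'U hUz' hy₁P hy₁U hy₁p
  · push Not at hex
    have hp2 : p ≠ 2 := by
      rintro rfl
      -- the correction by `z'`
      have hy1 : y ^ 2 ≠ 1 := hex y hyP hyU
      have hyZ : y ^ 2 ∈ Z := hF2 y hyP
      have hcZ : ⁅y, z'⁆ ∈ Z := hF1 y hyP z' hz'P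
      have hc1 : ⁅y, z'⁆ ≠ 1 := by
        intro h
        rw [commutatorElement_eq_one_iff_mul_comm] at h
        exact hyU (hUz' y hyP h)
      have hc2 : ⁅y, z'⁆ ^ 2 = 1 := hZexp _ hcZ
      have hce : ⁅y, z'⁆ = y ^ 2 := by
        have h1 : ⁅y, z'⁆ ∈ Subgroup.zpowers (y ^ 2) := by
          rw [hZeq _ hyZ hy1]
          exact hcZ
        obtain ⟨i, hi⟩ := Subgroup.mem_zpowers_iff.mp h1
        have hy4 : (y ^ 2) ^ 2 = 1 := hZexp _ hyZ
        rcases Int.even_or_odd' i with ⟨k, rfl | rfl⟩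
        · exfalso
          apply hc1
          rw [← hi, zpow_mul, zpow_ofNat, hy4, one_zpow]
        · rw [← hi, zpow_add, zpow_mul, zpow_ofNat, hy4, one_zpow, one_mul, zpow_one]
      have hy' : (y * z') ∉ U := by
        intro h
        apply hyU
        have := U.mul_mem h (U.inv_mem hz'U)
        rwa [mul_inv_cancel_right] at this
      refine hex (y * z') (P.mul_mem hyP hz'P) hy' ?_
      have hz2 : z' * z' = 1 := by
        rw [← pow_two]
        exact hz'p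
      have hcomm : y ^ 2 * z' = z' * y ^ 2 := by
        have h1 := hZc _ hyZ z' (hPS hz'P)
        rw [mul_inv_eq_iff_eq_mul] at h1
        exact h1.symm
      have h1 : y * z' * y⁻¹ = ⁅y, z'⁆ * z' := by
        rw [commutatorElement_def]
        group
      calc (y * z') ^ 2 = (y * z' * y⁻¹) * (y ^ 2 * z') := by
            rw [pow_two, pow_two]
            group
        _ = ⁅y, z'⁆ * z' * (z' * y ^ 2) := by rw [h1, hcomm]
        _ = ⁅y, z'⁆ * (z' * z') * y ^ 2 := by group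
        _ = ⁅y, z'⁆ ^ 2 := by rw [hz2, mul_one, ← hce, pow_two]
        _ = 1 := hc2
    have hUiff : ∀ x ∈ P, x ^ p = 1 → x ∈ U := by
      intro x hx h1
      by_contra h3
      exact hex x hx h3 h1
    exact omega_contra hS hF hp2 hP hZP hZeq hZc hF1 hF2 hZexp hUP hUcomm hUexp hUiff hzZ hz1 hz'U hz'Z hUz' hgU hg'z hyP hyU

end Cfsg.Agent.Lib.FusionGenExtra
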