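import Mathlib
import Cfsg.Agent.Lib.MaxClass
import Cfsg.Agent.Lib.FusionAbEss2

/-!
# Centre and second centre of a `p`-group of maximal class
-/

set_option autoImplicit false

namespace Cfsg.Agent.Lib.FusionMaxC

open Cfsg Cfsg.FusionSystem Cfsg.Agent.Lib.FusionCore Cfsg.Agent.Lib.FusionCore2 Cfsg.Agent.Lib.FusionAbIdx
open Cfsg.Agent.Lib.FusionAbEss
open scoped commutatorElement

variable {p : ℕ} [hp : Fact p.Prime]

/-- The centre of a group of maximal class has order `p`. -/
theorem card_center {G : Type*} [Group G] [Finite G] (hG : IsPGroup p G) {n : ℕ} (hn : Nat.card G = p ^ n)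
    (hcl : Group.nilpotencyClass G = n - 1) (h3 : 3 ≤ n) : Nat.card (Subgroup.center G) = p := by
  have hpp := hp.out
  haveI hnt : Nontrivial G := by
    apply Finite.one_lt_card_iff_nontrivial.1
    rw [hn]
    exact Nat.one_lt_pow (by omega) hpp.one_lt
  haveI := hG.center_nontrivial
  have hZG : IsPGroup p (Subgroup.center G) := hG.to_subgroup _
  obtain ⟨z, hz⟩ := IsPGroup.iff_card.1 hZG
  have hz0 : z ≠ 0 := by
    rintro rfl
    have : Nat.card (Subgroup.center G) = 1 := by simpa using hz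
    have h2 : 1 < Nat.card (Subgroup.center G) := Finite.one_lt_card
    omega
  haveI hnil : Group.IsNilpotent G := hG.isNilpotent
  have hQ := Subgroup.card_mul_index (Subgroup.center G)
  have hzn : z ≤ n := by
    have : p ^ z ∣ p ^ n := ⟨_, by rw [← hn, ← hQ, hz]⟩
    exact (Nat.pow_dvd_pow_iff_le_right hpp.one_lt).1 this
  have hQc : Nat.card (G ⧸ Subgroup.center G) = p ^ (n - z) := by
    have e : p ^ n = p ^ z * p ^ (n - z) := by rw [← pow_add]; congr 1; omega
    rw [hz, hn, e] at hQ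
    exact Nat.eq_of_mul_eq_mul_left (pow_pos hpp.pos _) hQ
  have hQp : IsPGroup p (G ⧸ Subgroup.center G) := hG.to_quotient _
  have hclQ : Group.nilpotencyClass (G ⧸ Subgroup.center G) = n - 2 := by
    rw [Group.nilpotencyClass_quotient_center, hcl]
    omega
  rw [hz]
  by_cases hr : 2 ≤ n - z
  · have h1 := Cfsg.Agent.Lib.MaxClass.lcs_eq_bot_of_card hQp hQc hr
    have h2 := (Subgroup.lowerCentralSeries_eq_bot_iff_nilpotencyClass_le).1 h1
    have hz1 : z = 1 := by omega
    rw [hz1, pow_one]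
  · exfalso
    -- the quotient is cyclic, hence `G` is abelian
    have hle : n - z ≤ 1 := by omega
    have hcy : IsCyclic (G ⧸ Subgroup.center G) := by
      rcases Nat.lt_or_ge (n - z) 1 with h0 | h1
      · have : n - z = 0 := by omega
        rw [this, pow_zero] at hQc
        exact isCyclic_of_card_dvd_prime (p := p) (by rw [hQc]; exact one_dvd _)
      · have : n - z = 1 := by omega
        rw [this, pow_one] at hQc
        exact isCyclic_of_prime_card hQc
    haveI := hcy
    have hab := commutative_of_cyclic_center_quotient (QuotientGroup.mk' (Subgroup.center G))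
      (by rw [QuotientGroup.ker_mk'])
    have h1 : (⊤ : Subgroup G).lowerCentralSeries 1 = ⊥ := by
      rw [← Cfsg.Agent.Lib.MaxClass.commutator_eq_lcs_one, eq_bot_iff, commutator_def, Subgroup.commutator_le]
      intro x _ y _
      rw [Subgroup.mem_bot, commutatorElement_eq_one_iff_mul_comm]
      exact hab x y
    have h2 := (Subgroup.lowerCentralSeries_eq_bot_iff_nilpotencyClass_le).1 h1
    omega

variable {Ω : Type*} [Group Ω] {S : Subgroup Ω} [Finite S]

theorem class_eq (hS : IsPGroup p S) {n : ℕ} (hn : Nat.card S = p ^ n) (h2 : 2 ≤ n)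
    (hmax : S.lowerCentralSeries (n - 2) ≠ ⊥) : Group.nilpotencyClass ↥S = n - 1 := by
  haveI hnil : Group.IsNilpotent ↥S := hS.isNilpotent
  have h1 := Cfsg.Agent.Lib.MaxClass.lcs_eq_bot_of_card hS hn h2
  have h3 := (Subgroup.lowerCentralSeries_eq_bot_iff_nilpotencyClass_le).1 h1
  have h4 : ¬ Group.nilpotencyClass ↥S ≤ n - 2 := by
    intro h5
    apply hmax
    have h6 := (Subgroup.lowerCentralSeries_eq_bot_iff_nilpotencyClass_le).2 h5
    rw [← Subgroup.top_subtype_lowerCentralSeries, h6, Subgroup.map_bot]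
  omega

lemma map_center_eq : (Subgroup.center ↥S).map S.subtype = Zc S := by
  apply le_antisymm
  · rintro _ ⟨⟨z, hzS⟩, hz, rfl⟩
    refine mem_Zc.2 ⟨hzS, fun g hg => ?_⟩
    have := Subgroup.mem_center_iff.1 hz ⟨g, hg⟩
    exact congrArg Subtype.val this
  · intro z hz
    obtain ⟨hzS, hzc⟩ := mem_Zc.1 hz
    refine ⟨⟨z, hzS⟩, Subgroup.mem_center_iff.2 ?_, rfl⟩
    rintro ⟨g, hg⟩
    exact Subtype.ext (hzc g hg)

theorem card_Zc (hS : IsPGroup p S) {n : ℕ} (hn : Nat.card S = p ^ n) (h3 : 3 ≤ n)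
    (hmax : S.lowerCentralSeries (n - 2) ≠ ⊥) : Nat.card (Zc S) = p := by
  rw [← map_center_eq]
  rw [← card_center hS hn (class_eq hS hn (by omega) hmax) h3]
  exact (Nat.card_congr (Subgroup.equivMapOfInjective _ _ S.subtype_injective).toEquiv).symm

theorem index_Z2 (hS : IsPGroup p S) {n : ℕ} (hn : Nat.card S = p ^ n) (h4 : 4 ≤ n)
    (hmax : S.lowerCentralSeries (n - 2) ≠ ⊥) : ((Zc S).subgroupOf (Z2c S)).index = p := by
  have hpp := hp.out
  have hcl := class_eq hS hn (by omega) hmax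
  have hZ := card_center hS hn hcl (by omega)
  let Q := ↥S ⧸ Subgroup.center ↥S
  have hQc : Nat.card Q = p ^ (n - 1) := by
    have h1 := Subgroup.card_mul_index (Subgroup.center ↥S)
    rw [hZ, hn] at h1
    have e : p ^ n = p * p ^ (n - 1) := by rw [← pow_succ']; congr 1; omega
    rw [e] at h1
    exact Nat.eq_of_mul_eq_mul_left hpp.pos h1
  have hQp : IsPGroup p Q := hS.to_quotient _
  have hclQ : Group.nilpotencyClass Q = (n - 1) - 1 := by
    show Group.nilpotencyClass (↥S ⧸ Subgroup.center ↥S) = _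
    rw [Group.nilpotencyClass_quotient_center, hcl]
  have hZQ := card_center hQp hQc hclQ (by omega)
  let π := QuotientGroup.mk' (Subgroup.center ↥S)
  have hmemS : ∀ y ∈ Z2c S, y ∈ S := fun y hy => (mem_Z2c.1 hy).1
  let f : ↥(Z2c S) →* Q := π.comp ((Subgroup.inclusion (show Z2c S ≤ S from hmemS)))
  have hker : f.ker = (Zc S).subgroupOf (Z2c S) := by
    ext ⟨y, hy⟩
    rw [MonoidHom.mem_ker, Subgroup.mem_subgroupOf]
    constructor
    · intro e
      have h1 := (QuotientGroup.eq_one_iff _).1 e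
      rw [← map_center_eq]
      exact ⟨_, h1, rfl⟩
    · intro hz
      rw [← map_center_eq] at hz
      obtain ⟨z, hz, e⟩ := hz
      apply (QuotientGroup.eq_one_iff _).2
      have : (⟨y, hmemS y hy⟩ : S) = z := Subtype.ext e.symm
      show (⟨y, hmemS y hy⟩ : S) ∈ _
      rw [this]
      exact hz
  have hrange : f.range = Subgroup.center Q := by
    apply le_antisymm
    · rintro _ ⟨⟨y, hy⟩, rfl⟩
      refine Subgroup.mem_center_iff.2 ?_
      intro q
      obtain ⟨g, rfl⟩ := QuotientGroup.mk'_surjective _ q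
      show π g * π ⟨y, hmemS y hy⟩ = π ⟨y, hmemS y hy⟩ * π g
      have h1 := (mem_Z2c.1 hy).2 g g.2
      rw [← map_center_eq] at h1
      obtain ⟨z, hz, e⟩ := h1
      have h2 : π z = 1 := (QuotientGroup.eq_one_iff _).2 hz
      have e2 : z = (⟨y, hmemS y hy⟩ : S) * g * (⟨y, hmemS y hy⟩ : S)⁻¹ * g⁻¹ := Subtype.ext e
      rw [e2] at h2
      have h3 : π ⁅(⟨y, hmemS y hy⟩ : S), g⁆ = 1 := h2
      rw [map_commutatorElement, commutatorElement_eq_one_iff_mul_comm] at h3
      exact h3.symm
    · intro q hq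
      obtain ⟨g, rfl⟩ := QuotientGroup.mk'_surjective _ q
      refine ⟨⟨g, mem_Z2c.2 ⟨g.2, fun k hk => ?_⟩⟩, rfl⟩
      have h1 := Subgroup.mem_center_iff.1 hq (π ⟨k, hk⟩)
      have h2 : π ⁅g, (⟨k, hk⟩ : S)⁆ = 1 := by
        rw [map_commutatorElement, commutatorElement_eq_one_iff_mul_comm]
        exact h1.symm
      have h3 := (QuotientGroup.eq_one_iff _).1 h2
      rw [← map_center_eq]
      exact ⟨_, h3, rfl⟩
  rw [← hker, Subgroup.index_ker, hrange]
  exact hZQ

end Cfsg.Agent.Lib.FusionMaxC
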