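/-
FusionMetaPure: a purely group theoretic recognition of dihedral, semidihedral and quaternion groups
among metacyclic 2-groups, from a section `R` on which a subgroup `Y` acts with a small Frattini action.
-/
import Mathlib
import Cfsg.Agent.Lib.CycMax2
import Cfsg.Agent.Lib.BGUT3
import Cfsg.Prelude.Def_OddOrderLocal
import Cfsg.Prelude.Def_CaseTheorems

set_option autoImplicit false

namespace Cfsg.Agent.Lib.FusionMetaPure

open Cfsg.Agent.Lib.CycMax2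

variable {G : Type*} [Group G] [Finite G]

lemma order_two_pow (hG : IsPGroup 2 G) (x : G) : ∃ n : ℕ, orderOf x = 2 ^ n := by
  haveI : Fact (Nat.Prime 2) := ⟨Nat.prime_two⟩
  obtain ⟨k, hk⟩ := hG x
  have h := orderOf_dvd_of_pow_eq_one hk
  obtain ⟨j, -, hj⟩ := (Nat.dvd_prime_pow Nat.prime_two).1 h
  exact ⟨j, hj⟩

/-- An automorphism of a cyclic 2-group is an odd power map. -/
lemma conj_exp (hG : IsPGroup 2 G) (c y : G) (h : y * c * y⁻¹ ∈ Subgroup.zpowers c) :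
    ∃ μ : ℕ, Odd μ ∧ y * c * y⁻¹ = c ^ μ := by
  obtain ⟨n, hn⟩ := order_two_pow hG c
  have hm : y * c * y⁻¹ ∈ Submonoid.powers c := (mem_powers_iff_mem_zpowers).2 h
  obtain ⟨μ, hμ⟩ := hm
  rcases Nat.eq_zero_or_pos n with rfl | hnpos
  · have hc : c = 1 := by
      rw [pow_zero] at hn
      exact orderOf_eq_one_iff.1 hn
    exact ⟨1, odd_one, by simp [hc]⟩
  · refine ⟨μ, ?_, hμ.symm⟩
    by_contra hodd
    rw [Nat.not_odd_iff_even] at hodd
    obtain ⟨m, hm⟩ := hodd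
    obtain ⟨e, rfl⟩ : ∃ e, n = e + 1 := ⟨n - 1, by omega⟩
    have h1 : (y * c * y⁻¹) ^ (2 ^ e) = 1 := by
      rw [← hμ, ← pow_mul, hm]
      have : (m + m) * 2 ^ e = m * 2 ^ (e + 1) := by rw [pow_succ]; ring
      rw [this, pow_mul', ← hn, pow_orderOf_eq_one, one_pow]
    rw [conj_pow] at h1
    have h2 : c ^ (2 ^ e) = 1 := by
      have : c ^ 2 ^ e = y⁻¹ * (y * c ^ 2 ^ e * y⁻¹) * y := by group
      rw [this, h1]
      group
    have h3 := orderOf_dvd_of_pow_eq_one h2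
    rw [hn] at h3
    have := Nat.le_of_dvd (by positivity) h3
    have h4 : 2 ^ e < 2 ^ (e + 1) := Nat.pow_lt_pow_right (by norm_num) (by omega)
    omega

/-- In a finite 2-group, an element with `c`-th power trivial, `c` odd, is trivial. -/
lemma eq_one_of_odd_pow (hG : IsPGroup 2 G) (x : G) {c : ℕ} (hc : Odd c) (h : x ^ c = 1) : x = 1 := by
  obtain ⟨n, hn⟩ := order_two_pow hG x
  have h1 := orderOf_dvd_of_pow_eq_one h
  rw [hn] at h1
  rcases Nat.eq_zero_or_pos n with rfl | hpos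
  · rw [pow_zero] at hn
    exact orderOf_eq_one_iff.1 hn
  · exfalso
    have h2 : 2 ∣ c := (dvd_pow_self 2 (by omega)).trans h1
    exact (Nat.not_even_iff_odd.2 hc) (even_iff_two_dvd.2 h2)

lemma chain_le {K : Subgroup G} (hG : IsPGroup 2 G) (hKc : IsCyclic K) {x y : G} (hx : x ∈ K) (hy : y ∈ K) :
    x ∈ Subgroup.zpowers y ∨ y ∈ Subgroup.zpowers x := by
  haveI : Fact (Nat.Prime 2) := ⟨Nat.prime_two⟩
  rcases Cfsg.Agent.Lib.BGUT3.comparable_in_cyc (s := 2) hKc (hG.to_subgroup K)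
      ((Subgroup.zpowers_le).2 hx) ((Subgroup.zpowers_le).2 hy) with h | h
  · exact Or.inl (h (Subgroup.mem_zpowers x))
  · exact Or.inr (h (Subgroup.mem_zpowers y))

/-- Odd powers generate in a 2-group: `y = x ^ e` with `e` odd gives `x ∈ ⟨y⟩`. -/
lemma mem_zpowers_of_odd_pow (hG : IsPGroup 2 G) (x : G) {e : ℕ} (he : Odd e) :
    x ∈ Subgroup.zpowers (x ^ e) := by
  obtain ⟨n, hn⟩ := order_two_pow hG x
  rw [mem_zpowers_pow_iff, hn]
  exact Nat.Coprime.pow_right _ (Nat.coprime_two_right.2 he)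

theorem pure_concl (hG : IsPGroup 2 G) (K : Subgroup G) [hKn : K.Normal] (hKc : IsCyclic K)
    (hQc : IsCyclic (G ⧸ K)) (R Y B : Subgroup G) (hRY : R ≤ Y)
    (hYN : ∀ y ∈ Y, ∀ r ∈ R, y * r * y⁻¹ ∈ R)
    (hsq : ∀ x ∈ R, x * x ∈ B) (hYB : ∀ y ∈ Y, ∀ b ∈ B, y * b * y⁻¹ ∈ B)
    (hstar : ∀ y ∈ Y, (∀ r ∈ R, r * y * r⁻¹ * y⁻¹ ∈ B) → y ∈ R)
    {t : G} (ht : t ∈ Y) (htR : t ∉ R)
    (HR : ((∀ x ∈ R, ∀ x' ∈ R, x * x' = x' * x) ∧
          ((∀ x ∈ R, x * x = 1) ∨ (∀ x ∈ R, x * x = 1 → ∃ v ∈ R, x = v * v))) ∨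
        (∃ z ∈ R, (∀ x ∈ R, x * x = 1 ∨ x * x = z) ∧ (∀ x ∈ R, x ≠ 1 → z ∈ Subgroup.zpowers x))) :
    Concl G := by
  haveI : Fact (Nat.Prime 2) := ⟨Nat.prime_two⟩
  obtain ⟨k₀, hk₀⟩ := (Subgroup.isCyclic_iff_exists_zpowers_eq_top K).1 hKc
  have hLc : IsCyclic ↥(K ⊓ R) :=
    isCyclic_of_injective (Subgroup.inclusion (inf_le_left : K ⊓ R ≤ K)) (Subgroup.inclusion_injective _)
  obtain ⟨u₀, hu₀⟩ := (Subgroup.isCyclic_iff_exists_zpowers_eq_top _).1 hLc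
  have hu₀L : u₀ ∈ K ⊓ R := hu₀ ▸ Subgroup.mem_zpowers u₀
  have hLmem : ∀ ℓ ∈ K ⊓ R, ∃ e : ℤ, u₀ ^ e = ℓ := fun ℓ hℓ => by
    rw [← hu₀] at hℓ
    exact Subgroup.mem_zpowers_iff.1 hℓ
  let π := QuotientGroup.mk' K
  have hπ : ∀ x, π x = 1 ↔ x ∈ K := fun x => QuotientGroup.eq_one_iff x
  have hπs : Function.Surjective π := QuotientGroup.mk'_surjective K
  haveI hcQ : IsCyclic (G ⧸ K) := hQc
  have hQcomm : ∀ a b : G ⧸ K, a * b = b * a := fun a b => (IsCyclic.isMulCommutative (α := G ⧸ K)).is_comm.comm a b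
  have hcR : IsCyclic ↥(R.map π) := inferInstance
  obtain ⟨v, hv⟩ := (Subgroup.isCyclic_iff_exists_zpowers_eq_top _).1 hcR
  obtain ⟨w, hwR, hwv⟩ : v ∈ R.map π := hv ▸ Subgroup.mem_zpowers v
  have hwY := hRY hwR
  have hdec : ∀ r ∈ R, ∃ j : ℤ, r * (w ^ j)⁻¹ ∈ K ⊓ R := by
    intro r hr
    have h1 : π r ∈ Subgroup.zpowers v := by
      rw [hv]
      exact ⟨r, hr, rfl⟩
    obtain ⟨j, hj⟩ := Subgroup.mem_zpowers_iff.1 h1
    refine ⟨j, (hπ _).1 ?_, R.mul_mem hr (R.inv_mem (R.zpow_mem hwR j))⟩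
    rw [map_mul, map_inv, map_zpow, hwv, hj, mul_inv_cancel]
  have hLconj : ∀ y ∈ Y, ∀ ℓ ∈ K ⊓ R, y * ℓ * y⁻¹ ∈ K ⊓ R := fun y hy ℓ hℓ =>
    ⟨hKn.conj_mem _ hℓ.1 y, hYN y hy ℓ hℓ.2⟩
  -- Fact A
  have hA : ∀ y ∈ Y, ∀ ℓ ∈ K ⊓ R, ℓ * y * ℓ⁻¹ * y⁻¹ ∈ B := by
    intro y hy ℓ hℓ
    obtain ⟨μ, hμ, hconj⟩ := conj_exp hG u₀ y (hu₀ ▸ hLconj y hy u₀ hu₀L)
    obtain ⟨e, rfl⟩ := hLmem ℓ hℓ
    obtain ⟨m, rfl⟩ := hμ
    have h1 : y * u₀ ^ e * y⁻¹ = (u₀ ^ (2 * m + 1)) ^ e := by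
      rw [← hconj, conj_zpow]
    have h2 : u₀ ^ e * y * (u₀ ^ e)⁻¹ * y⁻¹ = (u₀ * u₀) ^ (-(m : ℤ) * e) := by
      have h3 : u₀ ^ e * y * (u₀ ^ e)⁻¹ * y⁻¹ = u₀ ^ e * (y * u₀ ^ e * y⁻¹)⁻¹ := by group
      rw [h3, h1, ← zpow_natCast, ← zpow_mul, ← zpow_neg, ← zpow_add, ← pow_two, ← zpow_natCast, ← zpow_mul]
      congr 1
      push_cast
      ring
    rw [h2]
    exact B.zpow_mem (hsq _ hu₀L.2) _
  -- Fact B
  have hB : ∀ y ∈ Y, w * y * w⁻¹ * y⁻¹ ∈ B → ∀ r ∈ R, r * y * r⁻¹ * y⁻¹ ∈ B := by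
    intro y hy hwy
    let T : Subgroup G :=
      { carrier := {r | r ∈ R ∧ r * y * r⁻¹ * y⁻¹ ∈ B}
        mul_mem' := by
          rintro a b ⟨ha, ha'⟩ ⟨hb, hb'⟩
          refine ⟨R.mul_mem ha hb, ?_⟩
          have e : a * b * y * (a * b)⁻¹ * y⁻¹ = (a * (b * y * b⁻¹ * y⁻¹) * a⁻¹) * (a * y * a⁻¹ * y⁻¹) := by group
          rw [e]
          exact B.mul_mem (hYB a (hRY ha) _ hb') ha'
        one_mem' := ⟨R.one_mem, by simp [B.one_mem]⟩
        inv_mem' := by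
          rintro a ⟨ha, ha'⟩
          refine ⟨R.inv_mem ha, ?_⟩
          have e : a⁻¹ * y * a⁻¹⁻¹ * y⁻¹ = a⁻¹ * (a * y * a⁻¹ * y⁻¹)⁻¹ * a⁻¹⁻¹ := by group
          rw [e]
          exact hYB _ (hRY (R.inv_mem ha)) _ (B.inv_mem ha') }
    have hwT : w ∈ T := ⟨hwR, hwy⟩
    have hLT : K ⊓ R ≤ T := fun ℓ hℓ => ⟨hℓ.2, hA y hy ℓ hℓ⟩
    intro r hr
    obtain ⟨j, hj⟩ := hdec r hr
    have : r = (r * (w ^ j)⁻¹) * w ^ j := by group
    rw [this]
    exact (T.mul_mem (hLT hj) (T.zpow_mem hwT j)).2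
  have hC1 : ∀ y ∈ Y, y ∉ R → w * y * w⁻¹ * y⁻¹ ∉ B := fun y hy hyR h => hyR (hstar y hy (hB y hy h))
  have hcL : ∀ y ∈ Y, w * y * w⁻¹ * y⁻¹ ∈ K ⊓ R := by
    intro y hy
    refine ⟨(hπ _).1 ?_, ?_⟩
    · rw [map_mul, map_mul, map_mul, map_inv, map_inv, hQcomm (π w) (π y)]
      simp
    · have e : w * y * w⁻¹ * y⁻¹ = w * (y * w⁻¹ * y⁻¹) := by group
      rw [e]
      exact R.mul_mem hwR (hYN y hy _ (R.inv_mem hwR))
  -- squares fall in R
  have hC2 : ∀ y ∈ Y, y * y ∈ R := by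
    intro y hy
    by_contra hn
    have hyR : y ∉ R := fun h => hn (R.mul_mem h h)
    apply hC1 _ (Y.mul_mem hy hy) hn
    set ℓ := w * y * w⁻¹ * y⁻¹ with hℓ
    have hℓL := hcL y hy
    have h1 := hA y hy ℓ hℓL
    have e : w * (y * y) * w⁻¹ * (y * y)⁻¹ =
        ℓ * (ℓ * y * ℓ⁻¹ * y⁻¹)⁻¹ * ℓ⁻¹ * (ℓ * ℓ) := by
      rw [hℓ]
      group
    rw [e]
    exact B.mul_mem (hYB ℓ (hRY hℓL.2) _ (B.inv_mem h1)) (hsq ℓ hℓL.2)
  -- an element of K normalizing R outside R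
  have hGq : IsPGroup 2 (G ⧸ K) := hG.to_quotient K
  have hchain : ∀ a b : G ⧸ K, a ∈ Subgroup.zpowers b ∨ b ∈ Subgroup.zpowers a := fun a b =>
    chain_le (G := G ⧸ K) (K := ⊤) hGq inferInstance (Subgroup.mem_top a) (Subgroup.mem_top b)
  obtain ⟨s, hsK, hsY, hsR⟩ : ∃ s, s ∈ K ∧ s ∈ Y ∧ s ∉ R := by
    rcases hchain (π t) (π w) with h | h
    · obtain ⟨i, hi⟩ := Subgroup.mem_zpowers_iff.1 h
      refine ⟨(w ^ i)⁻¹ * t, (hπ _).1 ?_, Y.mul_mem (Y.inv_mem (Y.zpow_mem hwY i)) ht, fun h3 => htR ?_⟩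
      · rw [map_mul, map_inv, map_zpow, hi, inv_mul_cancel]
      · have e : t = w ^ i * ((w ^ i)⁻¹ * t) := by group
        rw [e]
        exact R.mul_mem (R.zpow_mem hwR i) h3
    · obtain ⟨i, hi⟩ := Subgroup.mem_zpowers_iff.1 h
      obtain ⟨m, hm⟩ := Int.even_or_odd' i
      have hτ : (t * t) ^ m ∈ R := R.zpow_mem (hC2 t ht) m
      have hτ1 : t ^ (2 * m) = (t * t) ^ m := by
        rw [← pow_two, ← zpow_natCast, ← zpow_mul]
        norm_num
      rcases hm with rfl | rfl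
      · exfalso
        apply hC1 t ht htR
        set τ := (t * t) ^ m with hτd
        have hkK : τ⁻¹ * w ∈ K := (hπ _).1 (by
          rw [map_mul, map_inv, ← hτ1, map_zpow, hi, inv_mul_cancel])
        have hkL : τ⁻¹ * w ∈ K ⊓ R := ⟨hkK, R.mul_mem (R.inv_mem hτ) hwR⟩
        have h1 := hA t ht _ hkL
        have h2 := hYB τ (hRY hτ) _ h1
        have hcomm : τ * t = t * τ := by
          rw [hτd]
          exact ((Commute.refl t).mul_left (Commute.refl t)).zpow_left m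
        have e : w * t * w⁻¹ * t⁻¹ = τ * ((τ⁻¹ * w) * t * (τ⁻¹ * w)⁻¹ * t⁻¹) * τ⁻¹ := by
          have e2 : τ⁻¹ * t⁻¹ = t⁻¹ * τ⁻¹ := by
            rw [← mul_inv_rev, ← mul_inv_rev, hcomm]
          have e3 : τ * ((τ⁻¹ * w) * t * (τ⁻¹ * w)⁻¹ * t⁻¹) * τ⁻¹ = w * t * w⁻¹ * (τ * (t⁻¹ * τ⁻¹)) := by group
          rw [e3, ← e2]
          group
        rw [e]
        exact h2
      · have hτ2 : t ^ (2 * m + 1) = (t * t) ^ m * t := by
          rw [zpow_add_one, hτ1]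
        refine ⟨(t ^ (2 * m + 1))⁻¹ * w, (hπ _).1 ?_,
          Y.mul_mem (Y.inv_mem (Y.zpow_mem ht _)) hwY, fun h3 => htR ?_⟩
        · rw [map_mul, map_inv, map_zpow, hi, inv_mul_cancel]
        · have e : t = ((t * t) ^ m)⁻¹ * (w * ((t ^ (2 * m + 1))⁻¹ * w)⁻¹) := by
            rw [hτ2]
            group
          rw [e]
          exact R.mul_mem (R.inv_mem hτ) (R.mul_mem hwR (R.inv_mem h3))
  -- the generator of L is a square
  have hs2L : s * s ∈ K ⊓ R := ⟨K.mul_mem hsK hsK, hC2 s hsY⟩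
  have hu₀s : u₀ ∈ Subgroup.zpowers (s * s) := by
    have h1 : u₀ ∈ Subgroup.zpowers s := by
      rcases chain_le hG hKc hu₀L.1 hsK with h | h
      · exact h
      · exfalso
        apply hsR
        have h2 : Subgroup.zpowers u₀ ≤ R := by
          rw [hu₀]
          exact inf_le_right
        exact h2 h
    obtain ⟨e, he⟩ := (mem_powers_iff_mem_zpowers).2 h1
    replace he : s ^ e = u₀ := he
    rcases Nat.even_or_odd e with ⟨m, rfl⟩ | hodd
    · refine Subgroup.mem_zpowers_iff.2 ⟨(m : ℤ), ?_⟩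
      rw [zpow_natCast, ← he, ← pow_two, ← pow_mul]
      congr 1
      ring
    · exfalso
      apply hsR
      have h2 := mem_zpowers_of_odd_pow hG s hodd
      rw [he] at h2
      have h3 : Subgroup.zpowers u₀ ≤ R := by
        rw [hu₀]
        exact inf_le_right
      exact h3 h2
  have hLs2 : ∀ ℓ ∈ K ⊓ R, ℓ ∈ Subgroup.zpowers (s * s) := by
    intro ℓ hℓ
    rw [← hu₀] at hℓ
    exact (Subgroup.zpowers_le.2 hu₀s) hℓ
  have hℓsL := hcL s hsY
  have hℓsB := hC1 s hsY hsR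
  obtain ⟨c, hc⟩ := (mem_powers_iff_mem_zpowers).2 (hLs2 _ hℓsL)
  replace hc : (s * s) ^ c = w * s * w⁻¹ * s⁻¹ := hc
  have hss4 : (s * s) * (s * s) ∈ B := hsq _ hs2L.2
  have hcodd : Odd c := by
    by_contra hn
    rw [Nat.not_odd_iff_even] at hn
    obtain ⟨m, rfl⟩ := hn
    apply hℓsB
    rw [← hc, pow_add, ← ((Commute.refl (s * s)).mul_pow m)]
    exact B.pow_mem hss4 m
  have hwsw : w * s * w⁻¹ = s ^ (2 * c + 1) := by
    have e : w * s * w⁻¹ = (s * s) ^ c * s := by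
      rw [hc]
      group
    rw [e, pow_succ, ← pow_two, ← pow_mul]
  have hs2ne : s * s ≠ 1 := by
    intro h
    apply hℓsB
    rw [← hc, h, one_pow]
    exact B.one_mem
  -- the action on `s` through the generator of `K`
  obtain ⟨e₀, he₀⟩ : ∃ e₀ : ℕ, k₀ ^ e₀ = s := by
    have : s ∈ Subgroup.zpowers k₀ := hk₀ ▸ hsK
    exact (mem_powers_iff_mem_zpowers).2 this
  have hact : ∀ g : G, ∃ μ : ℕ, Odd μ ∧ g * k₀ * g⁻¹ = k₀ ^ μ ∧ g * s * g⁻¹ = s ^ μ := by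
    intro g
    have h0 : k₀ ∈ K := hk₀ ▸ Subgroup.mem_zpowers k₀
    obtain ⟨μ, hμ, h1⟩ := conj_exp hG k₀ g (by rw [hk₀]; exact hKn.conj_mem _ h0 g)
    refine ⟨μ, hμ, h1, ?_⟩
    rw [← he₀, ← conj_pow, h1, ← pow_mul, ← pow_mul, mul_comm]
  have hKcomm : ∀ a ∈ K, ∀ b ∈ K, a * b = b * a := by
    intro a ha b hb
    rw [← hk₀] at ha hb
    obtain ⟨i, rfl⟩ := Subgroup.mem_zpowers_iff.1 ha
    obtain ⟨j, rfl⟩ := Subgroup.mem_zpowers_iff.1 hb
    exact ((Commute.refl k₀).zpow_zpow i j).eq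
  -- `w` is not a square modulo `K`
  have hC6 : ∀ g : G, ∀ k ∈ K, w ≠ g * g * k := by
    intro g k hk hw
    obtain ⟨μ, ⟨n, rfl⟩, -, hμ⟩ := hact g
    have h1 : w * s * w⁻¹ = s ^ ((2 * n + 1) * (2 * n + 1)) := by
      have h2 : k * s * k⁻¹ = s := by
        rw [hKcomm k hk s hsK]
        group
      rw [hw]
      calc g * g * k * s * (g * g * k)⁻¹ = g * (g * (k * s * k⁻¹) * g⁻¹) * g⁻¹ := by group
        _ = _ := by rw [h2, hμ, ← conj_pow, hμ, pow_mul]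
    obtain ⟨x, hx⟩ := Nat.even_mul_succ_self n
    have hμ2 : (2 * n + 1) * (2 * n + 1) = 8 * x + 1 := by
      have : (2 * n + 1) * (2 * n + 1) = 4 * (n * (n + 1)) + 1 := by ring
      rw [this, hx]
      ring
    rw [hwsw, hμ2, pow_succ, pow_succ] at h1
    have h3 := mul_right_cancel h1
    have h4 : (s * s) ^ c = (s * s) ^ (4 * x) := by
      rw [← pow_two, ← pow_mul, ← pow_mul, h3]
      congr 1
      ring
    apply hs2ne
    obtain ⟨d, hd⟩ := hcodd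
    rcases le_total c (4 * x) with hle | hle
    · obtain ⟨f, hf⟩ := Nat.exists_eq_add_of_le hle
      rw [hf, pow_add] at h4
      have h5 : (s * s) ^ f = 1 := by
        have := mul_left_cancel (a := (s * s) ^ c) (b := (s * s) ^ f) (c := 1) (by rw [← h4, mul_one])
        exact this
      exact eq_one_of_odd_pow hG _ (c := f) ⟨2 * x - d - 1, by omega⟩ h5
    · obtain ⟨f, hf⟩ := Nat.exists_eq_add_of_le hle
      rw [hf, pow_add] at h4
      have h5 : (s * s) ^ f = 1 := by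
        have := mul_left_cancel (a := (s * s) ^ (4 * x)) (b := (s * s) ^ f) (c := 1) (by rw [h4, mul_one])
        exact this
      exact eq_one_of_odd_pow hG _ (c := f) ⟨d - 2 * x, by omega⟩ h5
  -- `w²` lies in `K`
  have hwK : w * w ∈ K := by
    rcases HR with ⟨hab, helem | hinv⟩ | ⟨z, hz, hzsq, hzp⟩
    · rw [helem w hwR]
      exact K.one_mem
    · exfalso
      set u := s * s with hu
      have h1 : w * u * w⁻¹ = u := by
        rw [hab w hwR u hs2L.2]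
        group
      have h2 : w * u * w⁻¹ = u ^ (2 * c + 1) := by
        have : w * u * w⁻¹ = (w * s * w⁻¹) * (w * s * w⁻¹) := by
          rw [hu]
          group
        rw [this, hwsw, ← pow_add, hu, ← pow_two, ← pow_mul]
        congr 1
        ring
      rw [h1] at h2
      have h3 : u ^ (2 * c) = 1 := by
        rw [pow_succ] at h2
        have : u ^ (2 * c) * u = 1 * u := by rw [← h2, one_mul]
        exact mul_right_cancel this
      have h4 : (u * u) ^ c = 1 := by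
        rw [← pow_two, ← pow_mul, h3]
      have h5 : u * u = 1 := eq_one_of_odd_pow hG _ hcodd h4
      obtain ⟨v', hv'R, hv'⟩ := hinv u hs2L.2 h5
      apply hℓsB
      rw [← hc, hv']
      exact B.pow_mem (hsq v' hv'R) c
    · rcases hzsq w hwR with h | h
      · rw [h]
        exact K.one_mem
      · rw [h]
        have h1 := hzp _ hs2L.2 hs2ne
        exact (Subgroup.zpowers_le.2 hs2L.1) h1
  -- the quotient has order two
  obtain ⟨γ, hγ⟩ := hQc.exists_generator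
  obtain ⟨g₀, hg₀⟩ := hπs γ
  obtain ⟨a, ha⟩ := (mem_powers_iff_mem_zpowers).2 (hγ (π w))
  replace ha : γ ^ a = π w := ha
  have hsqfree : ∀ g : G, π w ≠ π g * π g := by
    intro g h
    apply hC6 g (g⁻¹ * g⁻¹ * w) ((hπ _).1 ?_)
    · group
    · rw [map_mul, map_mul, map_inv, h]
      group
  have hadd : Odd a := by
    by_contra hn
    rw [Nat.not_odd_iff_even] at hn
    obtain ⟨m, rfl⟩ := hn
    apply hsqfree (g₀ ^ m)
    rw [← ha, pow_add, map_pow, hg₀]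
  have hπw2 : π w * π w = 1 := by
    rw [← map_mul]
    exact (hπ _).2 hwK
  have hγ2 : γ * γ = 1 := by
    apply eq_one_of_odd_pow hGq _ hadd
    rw [← pow_two, ← pow_mul, mul_comm, pow_mul, ha, pow_two, hπw2]
  have hγ1 : γ ≠ 1 := by
    intro h
    apply hsqfree 1
    rw [← ha, h]
    simp
  have hord : orderOf γ = 2 := orderOf_eq_prime (by rw [pow_two]; exact hγ2) hγ1
  have hidx : K.index = 2 := by
    rw [Subgroup.index_eq_card, ← orderOf_eq_card_of_forall_mem_zpowers hγ, hord]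
  have hwnK : w ∉ K := by
    intro h
    apply hsqfree 1
    rw [(hπ w).2 h]
    simp
  obtain ⟨n, hn⟩ := order_two_pow hG k₀
  have hn2 : 2 ≤ n := by
    by_contra hlt
    apply hs2ne
    have hk2 : k₀ ^ 2 = 1 := by
      have : orderOf k₀ ∣ 2 := by
        rw [hn]
        have : n ≤ 1 := by omega
        exact (pow_dvd_pow 2 this).trans (by norm_num)
      exact orderOf_dvd_iff_pow_eq_one.1 this
    rw [← pow_two, ← he₀, ← pow_mul, mul_comm, pow_mul, hk2, one_pow]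
  have hcard : Nat.card G = 2 ^ (n + 1) := by
    have h1 := Subgroup.card_mul_index K
    rw [← hk₀, Nat.card_zpowers, hn, hk₀, hidx] at h1
    rw [← h1, pow_succ]
  obtain ⟨r, hr, hwk, hws⟩ := hact w
  have hr4 : r % 4 = 3 := by
    have h1 : s ^ r = s ^ (2 * c + 1) := by rw [← hws, hwsw]
    have h2 : r ≡ 2 * c + 1 [MOD orderOf s] := (pow_eq_pow_iff_modEq).1 h1
    have h4 : 4 ∣ orderOf s := by
      obtain ⟨f, hf⟩ := order_two_pow hG s
      rw [hf]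
      have hf2 : 2 ≤ f := by
        by_contra hlt
        apply hs2ne
        have : orderOf s ∣ 2 := by
          rw [hf]
          have : f ≤ 1 := by omega
          exact (pow_dvd_pow 2 this).trans (by norm_num)
        rw [← pow_two]
        exact orderOf_dvd_iff_pow_eq_one.1 this
      exact (pow_dvd_pow 2 hf2 : 2 ^ 2 ∣ 2 ^ f)
    have h5 : r ≡ 2 * c + 1 [MOD 4] := h2.of_dvd h4
    obtain ⟨d, hd⟩ := hcodd
    have h6 : (2 * c + 1) % 4 = 3 := by omega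
    unfold Nat.ModEq at h5
    omega
  exact classify n hn2 k₀ w hn hcard (by rw [hk₀]; exact hwnK) r hr4 hwk

/-- The shape of the groups with an automorphism of odd order among metacyclic 2-groups. -/
def HRType (X : Type*) [Group X] : Prop :=
  ((∀ x x' : X, x * x' = x' * x) ∧ ((∀ x : X, x * x = 1) ∨ (∀ x : X, x * x = 1 → ∃ v : X, x = v * v))) ∨
    (∃ z : X, (∀ x : X, x * x = 1 ∨ x * x = z) ∧ (∀ x : X, x ≠ 1 → z ∈ Subgroup.zpowers x))

omit [Finite G] in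
lemma HRType.of_equiv {X X' : Type*} [Group X] [Group X'] (e : X ≃* X') (h : HRType X) : HRType X' := by
  rcases h with ⟨hc, h1 | h1⟩ | ⟨z, hz1, hz2⟩
  · refine Or.inl ⟨fun x x' => e.symm.injective ?_, Or.inl fun x => e.symm.injective ?_⟩
    · simp only [map_mul]
      exact hc _ _
    · simp only [map_mul, map_one]
      exact h1 _
  · refine Or.inl ⟨fun x x' => e.symm.injective ?_, Or.inr fun x hx => ?_⟩
    · simp only [map_mul]
      exact hc _ _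
    · obtain ⟨v, hv⟩ := h1 (e.symm x) (by rw [← map_mul, hx, map_one])
      refine ⟨e v, e.symm.injective ?_⟩
      simp only [map_mul, MulEquiv.symm_apply_apply]
      exact hv
  · refine Or.inr ⟨e z, fun x => ?_, fun x hx => ?_⟩
    · rcases hz1 (e.symm x) with h | h
      · left
        apply e.symm.injective
        simpa using h
      · right
        apply e.symm.injective
        simpa using h
    · have h1 : e.symm x ≠ 1 := fun h => hx (by simpa using congrArg e h)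
      obtain ⟨i, hi⟩ := Subgroup.mem_zpowers_iff.1 (hz2 _ h1)
      refine Subgroup.mem_zpowers_iff.2 ⟨i, ?_⟩
      rw [← hi, map_zpow, MulEquiv.apply_symm_apply]

lemma hrType_quat : HRType (QuaternionGroup 2) := by
  refine Or.inr ⟨.a 2, by decide, fun x hx => ?_⟩
  have h : x = .a 2 ∨ x * x = .a 2 := by
    revert x
    decide
  rcases h with h | h
  · rw [h]
    exact Subgroup.mem_zpowers _
  · exact Subgroup.mem_zpowers_iff.2 ⟨2, by rw [zpow_two, h]⟩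

lemma zmod_half {n : ℕ} (hn : 2 ≤ n) (a : ZMod (2 ^ n)) (h : a + a = 0) : ∃ b, a = b + b := by
  haveI : NeZero (2 ^ n) := ⟨by positivity⟩
  obtain ⟨m, hm⟩ : ∃ m : ℕ, a = (m : ZMod (2 ^ n)) := ⟨a.val, (ZMod.natCast_zmod_val a).symm⟩
  subst hm
  have h1 : ((m + m : ℕ) : ZMod (2 ^ n)) = 0 := by
    push_cast
    exact h
  rw [ZMod.natCast_eq_zero_iff] at h1
  obtain ⟨e, rfl⟩ : ∃ e, n = e + 2 := ⟨n - 2, by omega⟩
  have h2 : 2 ∣ m := by
    obtain ⟨c, hc⟩ := h1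
    refine ⟨2 ^ e * c, ?_⟩
    have : m + m = 2 * (2 * (2 ^ e * c)) := by
      rw [hc, pow_add]
      ring
    omega
  obtain ⟨c, rfl⟩ := h2
  refine ⟨(c : ZMod _), ?_⟩
  push_cast
  ring

lemma hrType_homo (n : ℕ) :
    HRType (Multiplicative (ZMod (2 ^ n)) × Multiplicative (ZMod (2 ^ n))) := by
  refine Or.inl ⟨fun x x' => mul_comm x x', ?_⟩
  by_cases hn : 2 ≤ n
  · right
    rintro ⟨a, b⟩ h
    have h1 : a * a = 1 := congrArg Prod.fst h
    have h2 : b * b = 1 := congrArg Prod.snd h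
    obtain ⟨a', ha'⟩ := zmod_half hn (Multiplicative.toAdd a) (by exact h1)
    obtain ⟨b', hb'⟩ := zmod_half hn (Multiplicative.toAdd b) (by exact h2)
    refine ⟨(Multiplicative.ofAdd a', Multiplicative.ofAdd b'), ?_⟩
    apply Prod.ext
    · exact ha'
    · exact hb'
  · left
    have h0 : ∀ a : ZMod (2 ^ n), a + a = 0 := by
      intro a
      have h3 : 2 ^ n ∣ 2 := by
        have : n ≤ 1 := by omega
        exact (pow_dvd_pow 2 this).trans (by norm_num)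
      have h4 : ((2 : ℕ) : ZMod (2 ^ n)) = 0 := (ZMod.natCast_eq_zero_iff _ _).2 h3
      rw [← two_mul]
      have h5 : (2 : ZMod (2 ^ n)) = 0 := by exact_mod_cast h4
      rw [h5, zero_mul]
    rintro ⟨a, b⟩
    apply Prod.ext
    · exact h0 (Multiplicative.toAdd a)
    · exact h0 (Multiplicative.toAdd b)

/-- `pure_concl` with the shape hypothesis on the type. -/
theorem pure_concl' (hG : IsPGroup 2 G) (K : Subgroup G) [hKn : K.Normal] (hKc : IsCyclic K)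
    (hQc : IsCyclic (G ⧸ K)) (R Y B : Subgroup G) (hRY : R ≤ Y)
    (hYN : ∀ y ∈ Y, ∀ r ∈ R, y * r * y⁻¹ ∈ R)
    (hsq : ∀ x ∈ R, x * x ∈ B) (hYB : ∀ y ∈ Y, ∀ b ∈ B, y * b * y⁻¹ ∈ B)
    (hstar : ∀ y ∈ Y, (∀ r ∈ R, r * y * r⁻¹ * y⁻¹ ∈ B) → y ∈ R)
    {t : G} (ht : t ∈ Y) (htR : t ∉ R) (HR : HRType ↥R) : Concl G := by
  refine pure_concl hG K hKc hQc R Y B hRY hYN hsq hYB hstar ht htR ?_
  rcases HR with ⟨hc, h1 | h1⟩ | ⟨z, hz1, hz2⟩
  · refine Or.inl ⟨fun x hx x' hx' => congrArg Subtype.val (hc ⟨x, hx⟩ ⟨x', hx'⟩), Or.inl fun x hx => ?_⟩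
    exact congrArg Subtype.val (h1 ⟨x, hx⟩)
  · refine Or.inl ⟨fun x hx x' hx' => congrArg Subtype.val (hc ⟨x, hx⟩ ⟨x', hx'⟩), Or.inr fun x hx h => ?_⟩
    obtain ⟨v, hv⟩ := h1 ⟨x, hx⟩ (Subtype.ext h)
    exact ⟨v, v.2, congrArg Subtype.val hv⟩
  · refine Or.inr ⟨z, z.2, fun x hx => ?_, fun x hx h => ?_⟩
    · rcases hz1 ⟨x, hx⟩ with h | h
      · exact Or.inl (congrArg Subtype.val h)
      · exact Or.inr (congrArg Subtype.val h)
    · have h1 : (⟨x, hx⟩ : R) ≠ 1 := fun h2 => h (congrArg Subtype.val h2)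
      obtain ⟨i, hi⟩ := Subgroup.mem_zpowers_iff.1 (hz2 _ h1)
      refine Subgroup.mem_zpowers_iff.2 ⟨i, ?_⟩
      have := congrArg Subtype.val hi
      simpa using this

omit [Finite G] in
lemma metacyclic_of_injective {X P' : Type _} [Group X] [Group P'] (f : X →* P') (hf : Function.Injective f)
    (hm : Cfsg.IsMetacyclic P') : Cfsg.IsMetacyclic X := by
  obtain ⟨K, hKn, hKc, hQc⟩ := hm
  let φ : X →* P' ⧸ K := (QuotientGroup.mk' K).comp f
  have hker : ∀ x, x ∈ φ.ker → f x ∈ K := fun x hx => by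
    have h1 : (QuotientGroup.mk' K) (f x) = 1 := hx
    exact (QuotientGroup.eq_one_iff _).1 h1
  refine ⟨φ.ker, inferInstance, ?_, ?_⟩
  · let g : φ.ker →* K :=
      { toFun := fun x => ⟨f x, hker x x.2⟩
        map_one' := Subtype.ext (by simp)
        map_mul' := fun a b => Subtype.ext (by simp) }
    refine isCyclic_of_injective g (fun a b h => ?_)
    exact Subtype.ext (hf (congrArg Subtype.val h))
  · exact isCyclic_of_injective (QuotientGroup.kerLift φ) (QuotientGroup.kerLift_injective φ)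

/-- The conclusion of the classification implies being on the list. -/
lemma concl_contra {X : Type*} [Group X] (h : Concl X) :
    (∃ m : ℕ, Nonempty (X ≃* DihedralGroup m)) ∨ (∃ m : ℕ, Nonempty (X ≃* QuaternionGroup m)) ∨
      Cfsg.IsQuasiDihedral X := by
  rcases h with ⟨k, h⟩ | ⟨k, hc, a, b, ha, hb, hab⟩ | ⟨k, h⟩
  · exact Or.inl ⟨_, h⟩
  · exact Or.inr (Or.inr ⟨k + 3, by omega, hc, a, b, ha, hb, hab⟩)
  · exact Or.inr (Or.inl ⟨_, h⟩)

end Cfsg.Agent.Lib.FusionMetaPure
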