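/-
FusionMetaStab: stabilizers of sections in the automizer of an essential subgroup, restriction of
automorphisms to invariant subgroups, and automorphisms trivial modulo the Frattini subgroup.
-/
import Mathlib
import Cfsg.Agent.Lib.FusionCore
import Cfsg.Agent.Lib.FusionCore2
import Cfsg.Agent.Lib.FusionCore3
import Cfsg.Agent.Lib.FusionAlperin
import Cfsg.Agent.Lib.PCore
import Cfsg.Agent.Lib.BurnsideAut

set_option autoImplicit false

namespace Cfsg.Agent.Lib.FusionMetaStab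

open Cfsg Cfsg.FusionSystem Cfsg.Agent.Lib.FusionCore Cfsg.Agent.Lib.FusionCore2 Cfsg.Agent.Lib.FusionCore3

/-- An automorphism of a finite `p`-group that is trivial modulo the Frattini subgroup has `p`-power order. -/
theorem pow_of_trivial_frattini {X : Type*} [Group X] [Finite X] {p : ℕ} [hp : Fact p.Prime]
    (hX : IsPGroup p X) (τ : MulAut X) (h : ∀ q : X, τ q * q⁻¹ ∈ frattini X) :
    ∃ k : ℕ, τ ^ (p ^ k) = 1 := by
  classical
  haveI : Finite (MulAut X) := inferInstance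
  have hFinv : ∀ (σ : MulAut X), ∀ x ∈ frattini X, σ x ∈ frattini X := by
    intro σ x hx
    have h1 := (Subgroup.characteristic_iff_le_comap.1 (frattini_characteristic (G := X))) σ
    exact h1 hx
  have hpows : ∀ (n : ℕ) (q : X), (τ ^ n) q * q⁻¹ ∈ frattini X := by
    intro n
    induction n with
    | zero => intro q; simp [(frattini X).one_mem]
    | succ n ih =>
      intro q
      have e : (τ ^ (n + 1)) q * q⁻¹ = τ ((τ ^ n) q * q⁻¹) * (τ q * q⁻¹) := by
        rw [pow_succ']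
        simp only [MulAut.mul_apply, map_mul, map_inv]
        group
      rw [e]
      exact (frattini X).mul_mem (hFinv τ _ (ih q)) (h q)
  have hn : orderOf τ ≠ 0 := (orderOf_pos τ).ne'
  obtain ⟨a, m, hm, hpow⟩ := Nat.exists_eq_pow_mul_and_not_dvd hn p hp.out.ne_one
  refine ⟨a, ?_⟩
  by_contra hne
  have hm1 : m ≠ 1 := by
    rintro rfl
    apply hne
    rw [← mul_one (p ^ a), ← hpow, pow_orderOf_eq_one]
  obtain ⟨r, hr, hrm⟩ := Nat.exists_prime_and_dvd hm1
  have hrp : r ≠ p := by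
    rintro rfl
    exact hm hrm
  obtain ⟨c, hc⟩ := hrm
  have hσ : (τ ^ (p ^ a * c)) ^ r = 1 := by
    rw [← pow_mul, mul_assoc, mul_comm c r, ← hc, ← hpow, pow_orderOf_eq_one]
  have hσ1 := Cfsg.Agent.Lib.BurnsideAut.aut_eq_one_of_trivial_on_frattini hX hr hrp _ hσ
    (fun q => hpows _ q)
  have h1 := orderOf_dvd_of_pow_eq_one hσ1
  rw [hpow, hc] at h1
  have hpa : 0 < p ^ a := pow_pos hp.out.pos a
  have hcpos : 0 < c := by
    rcases Nat.eq_zero_or_pos c with rfl | h
    · exfalso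
      rw [hc, mul_zero, mul_zero] at hpow
      exact hn hpow
    · exact h
  have h2 := Nat.le_of_dvd (Nat.mul_pos hpa hcpos) h1
  have h3 : p ^ a * c < p ^ a * (r * c) := by
    apply Nat.mul_lt_mul_of_pos_left _ hpa
    exact lt_mul_of_one_lt_left hcpos hr.one_lt
  omega

variable {Ω : Type*} [Group Ω] {S : Subgroup Ω} {F : FusionSystem S} {P Q R B : Subgroup Ω} [Finite S]

/-- Restriction of an automorphism to an invariant subgroup. -/
theorem exists_resAut (hRQ : R ≤ Q) [Finite R] (α : MulAut Q) (hα : ∀ x ∈ R, afn α x ∈ R) :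
    ∃ τ : MulAut R, ∀ (n : ℕ) (x : R), ((τ ^ n) x : Ω) = afn (α ^ n) x := by
  have hinj : Function.Injective (fun x : R => (⟨afn α x, hα x x.2⟩ : R)) := by
    intro a b h
    have h1 : afn α (a : Ω) = afn α b := congrArg Subtype.val h
    rw [afn_of_mem α (hRQ a.2), afn_of_mem α (hRQ b.2)] at h1
    have h2 := α.injective (Subtype.ext h1)
    exact Subtype.ext (Subtype.mk.inj h2)
  let f : R →* R :=
    { toFun := fun x => ⟨afn α x, hα x x.2⟩
      map_one' := Subtype.ext (by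
        show afn α ((1 : R) : Ω) = 1
        rw [afn_of_mem α (hRQ (1 : R).2)]
        have : (⟨((1 : R) : Ω), hRQ (1 : R).2⟩ : Q) = 1 := rfl
        rw [this, map_one]
        rfl)
      map_mul' := fun a b => Subtype.ext (by
        show afn α ((a * b : R) : Ω) = afn α a * afn α b
        rw [afn_of_mem α (hRQ (a * b).2), afn_of_mem α (hRQ a.2), afn_of_mem α (hRQ b.2)]
        have : (⟨((a * b : R) : Ω), hRQ (a * b).2⟩ : Q) = ⟨a, hRQ a.2⟩ * ⟨b, hRQ b.2⟩ := rfl
        rw [this, map_mul]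
        rfl) }
  have hfinj : Function.Injective f := hinj
  let τ : MulAut R := MulEquiv.ofBijective f (Finite.injective_iff_bijective.1 hfinj)
  refine ⟨τ, fun n => ?_⟩
  induction n with
  | zero => intro x; rw [pow_zero, pow_zero, afn_one (hRQ x.2)]; rfl
  | succ n ih =>
    intro x
    rw [pow_succ', pow_succ', afn_mul _ _ (hRQ x.2), ← ih]
    rfl

/-- The stabilizer in `Aut_F(Q)` of a section. -/
theorem mem_of_stab {p : ℕ} [Fact p.Prime] (hS : IsPGroup p S) (hc : F.IsCentric Q) (hr : F.IsRadical p Q)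
    (hRQ : R ≤ Q) (hBR : B ≤ R)
    (hRinv : ∀ α ∈ F.autGroup Q, ∀ x ∈ R, afn α x ∈ R) (hBinv : ∀ α ∈ F.autGroup Q, ∀ x ∈ B, afn α x ∈ B)
    (hpow : ∀ α ∈ F.autGroup Q, (∀ x ∈ Q, x⁻¹ * afn α x ∈ R) → (∀ x ∈ R, x⁻¹ * afn α x ∈ B) →
      ∃ k : ℕ, ∀ x ∈ R, afn (α ^ (p ^ k)) x = x)
    {t : Ω} (htN : t ∈ normalizerIn S Q) (h1 : ∀ x ∈ Q, x⁻¹ * (t * x * t⁻¹) ∈ R)
    (h2 : ∀ x ∈ R, x⁻¹ * (t * x * t⁻¹) ∈ B) : t ∈ Q := by
  have hQS := hc.1
  haveI := finite_mulAut hQS
  haveI := finite_of_le hQS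
  let C' : ℕ → Subgroup Q := fun i =>
    match i with
    | 0 => ⊤
    | 1 => R.subgroupOf Q
    | (_ + 2) => B.subgroupOf Q
  have hinv' : ∀ δ ∈ F.autGroup Q, ∀ i, ∀ x ∈ C' i, δ x ∈ C' i := by
    intro δ hδ i x hx
    match i, hx with
    | 0, _ => exact Subgroup.mem_top _
    | 1, hx =>
      apply Subgroup.mem_subgroupOf.2
      have := hRinv δ hδ x (Subgroup.mem_subgroupOf.1 hx)
      rwa [afn_coe] at this
    | (_ + 2), hx =>
      apply Subgroup.mem_subgroupOf.2
      have := hBinv δ hδ x (Subgroup.mem_subgroupOf.1 hx)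
      rwa [afn_coe] at this
  have hanti' : ∀ i, C' (i + 1) ≤ C' i := by
    intro i x hx
    match i, hx with
    | 0, _ => exact Subgroup.mem_top _
    | 1, hx => exact Subgroup.mem_subgroupOf.2 (hBR (Subgroup.mem_subgroupOf.1 hx))
    | (_ + 2), hx => exact hx
  let D := Cfsg.Agent.Lib.FusionAlperin.chainStab (F.autGroup Q) C' hinv' hanti'
  have hDn : D.Normal := Cfsg.Agent.Lib.FusionAlperin.chainStab_normal _ _ _ _
  have hDp : IsPGroup p D := by
    intro β
    have hβ := β.2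
    have a1 : ∀ (δ : D), ∀ x ∈ Q, x⁻¹ * afn ((δ : F.autGroup Q) : MulAut Q) x ∈ R := by
      intro δ x hx
      have := δ.2 0 ⟨x, hx⟩ (Subgroup.mem_top _)
      have h3 := Subgroup.mem_subgroupOf.1 this
      rw [afn_of_mem _ hx]
      simpa using h3
    have a2 : ∀ (δ : D), ∀ x ∈ R, x⁻¹ * afn ((δ : F.autGroup Q) : MulAut Q) x ∈ B := by
      intro δ x hx
      have := δ.2 1 ⟨x, hRQ hx⟩ (Subgroup.mem_subgroupOf.2 hx)
      have h3 := Subgroup.mem_subgroupOf.1 this
      rw [afn_of_mem _ (hRQ hx)]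
      simpa using h3
    obtain ⟨k, hk⟩ := hpow _ (β : F.autGroup Q).2 (a1 β) (a2 β)
    have a3 := a1 (β ^ (p ^ k))
    have e : (((β ^ (p ^ k) : D) : F.autGroup Q) : MulAut Q) = ((β : F.autGroup Q) : MulAut Q) ^ (p ^ k) := by
      simp
    rw [e] at a3
    have h4 := isPGroup_zpowers_of_stab hS hQS hRQ hk a3
    obtain ⟨j, hj⟩ := h4 ⟨_, Subgroup.mem_zpowers _⟩
    refine ⟨k + j, ?_⟩
    apply Subtype.ext
    apply Subtype.ext
    have h5 := congrArg Subtype.val hj
    simp only [Subgroup.coe_pow, Subgroup.coe_one] at h5 ⊢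
    rw [pow_add, pow_mul]
    exact h5
  have hDle : D ≤ pCore p (F.autGroup Q) := Cfsg.Agent.Lib.PCore.le_pCore hDn hDp
  let tb : normalizerIn S Q := ⟨t, htN⟩
  have hmem : conjA hQS tb ∈ D := by
    intro i x hx
    have hcj : ∀ y : Q, ((conjA hQS tb : F.autGroup Q) : MulAut Q) y = (⟨t * y * t⁻¹, by
        have := afn_conjN tb y.2
        rw [afn_of_mem _ y.2] at this
        rw [← this]
        exact Subtype.coe_prop _⟩ : Q) := by
      intro y
      apply Subtype.ext
      have := afn_conjN tb y.2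
      rw [afn_of_mem _ y.2] at this
      exact this
    match i, hx with
    | 0, _ =>
      apply Subgroup.mem_subgroupOf.2
      rw [hcj]
      exact h1 x x.2
    | 1, hx =>
      apply Subgroup.mem_subgroupOf.2
      rw [hcj]
      exact h2 x (Subgroup.mem_subgroupOf.1 hx)
    | (_ + 2), hx =>
      apply Subgroup.mem_subgroupOf.2
      have h3 := hBinv _ (conjA hQS tb : F.autGroup Q).2 x (Subgroup.mem_subgroupOf.1 hx)
      rw [afn_coe] at h3
      have hxB : (x : Ω) ∈ B := Subgroup.mem_subgroupOf.1 hx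
      simpa using B.mul_mem (B.inv_mem hxB) h3
  have h4 : (conjA (F := F) hQS tb : MulAut Q) ∈ Inn Q := by
    rw [← hr.2]
    exact ⟨_, hDle hmem, rfl⟩
  exact (conjA_mem_innA_iff hc tb).1 (Subgroup.mem_subgroupOf.2 h4)

end Cfsg.Agent.Lib.FusionMetaStab
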