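/-
FusionPStable: automizers, normal `p`-subgroups of them and moving them along isomorphisms; the overgroups of a fully
normalized subgroup in which all its automorphisms are visible.
-/
import Mathlib
import Cfsg.Agent.Lib.FusionCore
import Cfsg.Agent.Lib.FusionCore2
import Cfsg.Agent.Lib.FusionCore3
import Cfsg.Agent.Lib.PCore
import Cfsg.Agent.Lib.FusionCentralElt

set_option autoImplicit false

namespace Cfsg.Agent.Lib.FusionPStable

open Cfsg Cfsg.FusionSystem Cfsg.Agent.Lib.FusionCore Cfsg.Agent.Lib.FusionCore2 Cfsg.Agent.Lib.FusionCore3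

section Gen

variable {G G' : Type*} [Group G] [Group G'] {p : ℕ} [Fact p.Prime]

/-- Elements of `O_p(A)` in terms of normal `p`-subgroups of `A`. -/
lemma mem_op_iff [Finite G] (A : Subgroup G) (χ : G) :
    χ ∈ (pCore p A).map A.subtype ↔
      ∃ D : Subgroup G, D ≤ A ∧ IsPGroup p D ∧ (∀ β ∈ A, ∀ δ ∈ D, β * δ * β⁻¹ ∈ D) ∧ χ ∈ D := by
  constructor
  · intro h
    refine ⟨(pCore p A).map A.subtype, Subgroup.map_subtype_le _, ?_, ?_, h⟩
    · exact (Cfsg.Agent.Lib.PCore.isPGroup_pCore (G := A) p).map A.subtype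
    · rintro β hβ _ ⟨δ, hδ, rfl⟩
      refine ⟨⟨β, hβ⟩ * δ * ⟨β, hβ⟩⁻¹, ?_, rfl⟩
      exact (Cfsg.Agent.Lib.PCore.pCore_normal (G := A) p).conj_mem δ hδ _
  · rintro ⟨D, hDA, hDp, hDn, hχ⟩
    have hn : (D.subgroupOf A).Normal := ⟨fun n hn g => by
      apply Subgroup.mem_subgroupOf.2
      exact hDn _ g.2 _ (Subgroup.mem_subgroupOf.1 hn)⟩
    have hp' : IsPGroup p (D.subgroupOf A) := hDp.comap_subtype
    have hle := Cfsg.Agent.Lib.PCore.le_pCore hn hp'
    exact ⟨⟨χ, hDA hχ⟩, hle (Subgroup.mem_subgroupOf.2 hχ), rfl⟩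

lemma op_conj [Finite G] (A : Subgroup G) {β δ : G} (hβ : β ∈ A) (hδ : δ ∈ (pCore p A).map A.subtype) :
    β * δ * β⁻¹ ∈ (pCore p A).map A.subtype := by
  obtain ⟨D, hDA, hDp, hDn, hχ⟩ := (mem_op_iff (p := p) A δ).1 hδ
  exact (mem_op_iff A _).2 ⟨D, hDA, hDp, hDn, hDn β hβ δ hχ⟩

lemma op_of_equiv [Finite G] [Finite G'] (c : G ≃* G') {A : Subgroup G} {A' : Subgroup G'}
    (h2 : ∀ a ∈ A', c.symm a ∈ A) (h1 : ∀ a ∈ A, c a ∈ A') {χ : G}
    (hχ : c χ ∈ (pCore p A').map A'.subtype) : χ ∈ (pCore p A).map A.subtype := by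
  obtain ⟨D, hDA, hDp, hDn, hχ'⟩ := (mem_op_iff (p := p) A' _).1 hχ
  refine (mem_op_iff A _).2 ⟨D.map c.symm.toMonoidHom, ?_, hDp.map _, ?_, ?_⟩
  · rintro _ ⟨d, hd, rfl⟩
    exact h2 _ (hDA hd)
  · rintro β hβ _ ⟨d, hd, rfl⟩
    refine ⟨c β * d * (c β)⁻¹, hDn _ (h1 _ hβ) _ hd, ?_⟩
    simp
  · exact ⟨c χ, hχ', by simp⟩

end Gen

variable {Ω : Type*} [Group Ω] {S : Subgroup Ω} {F : FusionSystem S} {P Q Q' R : Subgroup Ω} {f g : Ω → Ω}

/-- Quadratic action. -/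
def Quad {Q : Subgroup Ω} (χ : MulAut Q) : Prop :=
  ∀ a : Q, (χ a⁻¹) * a * (χ a⁻¹) * (χ (χ a)) = 1

/-- The stability condition at one subgroup. -/
def Stable (F : FusionSystem S) (p : ℕ) (Q : Subgroup Ω) : Prop :=
  ∀ χ : MulAut Q, χ ∈ F.autGroup Q → Quad χ → χ ∈ (pCore p (F.autGroup Q)).map (F.autGroup Q).subtype

lemma quad_congr (e : Q ≃* Q') {χ : MulAut Q} (h : Quad χ) : Quad (MulAut.congr e χ) := by
  intro a
  have h1 := h (e.symm a)
  have h2 := congrArg e h1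
  simpa using h2

/-- Conjugates in the automizer along an isomorphism of the system. -/
lemma congr_mem_autGroup (hQ'S : Q' ≤ S) (hf : Maps F Q f) (hg : Maps F Q' g) (e : Q ≃* Q')
    (h1 : ∀ x : Q, (e x : Ω) = f x) (h2 : ∀ y : Q', (e.symm y : Ω) = g y) {α : MulAut Q}
    (hα : α ∈ F.autGroup Q) : MulAut.congr e α ∈ F.autGroup Q' := by
  rw [mem_autGroup_iff hQ'S]
  have hQS := hf.le
  have hαm := Maps_of_mem_autGroup hQS hα
  have hgm : ∀ y ∈ Q', g y ∈ Q := fun y hy => by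
    rw [← h2 ⟨y, hy⟩]
    exact (e.symm ⟨y, hy⟩).2
  have hc : Maps F Q' (f ∘ afn α ∘ g) :=
    (hg.comp hαm hgm).comp hf (fun y hy => afn_mem α (hgm y hy))
  refine hc.congr (fun y hy => ?_)
  have e1 : g y = (e.symm ⟨y, hy⟩ : Q) := (h2 ⟨y, hy⟩).symm
  show f (afn α (g y)) = _
  rw [e1, afn_coe, ← h1, afn_of_mem _ hy]
  rfl

lemma congr_symm_mem_autGroup (hQS : Q ≤ S) (hf : Maps F Q f) (hg : Maps F Q' g) (e : Q ≃* Q')
    (h1 : ∀ x : Q, (e x : Ω) = f x) (h2 : ∀ y : Q', (e.symm y : Ω) = g y) {α : MulAut Q'}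
    (hα : α ∈ F.autGroup Q') : (MulAut.congr e).symm α ∈ F.autGroup Q := by
  have := congr_mem_autGroup hQS hg hf e.symm h2 h1 hα
  exact this

/-- Stability moves along isomorphisms. -/
theorem stable_conj [Finite S] {p : ℕ} [Fact p.Prime] (hf : Maps F Q f) (himg : img f Q = Q')
    (h : Stable F p Q') : Stable F p Q := by
  subst himg
  have hQS := hf.le
  haveI := finite_mulAut hQS
  have hQ'S := hf.img_le
  haveI := finite_mulAut hQ'S
  obtain ⟨g, hg, h1, h2⟩ := hf.inv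
  let e : Q ≃* img f Q := hf.equiv rfl
  have he1 : ∀ x : Q, (e x : Ω) = f x := fun x => rfl
  have he2 : ∀ y : img f Q, (e.symm y : Ω) = g y := by
    intro y
    have h3 : e ⟨g y, (h2 y y.2).1⟩ = y := Subtype.ext (h2 y y.2).2
    rw [← h3, MulEquiv.symm_apply_apply]
    show g y = g _
    rw [h3]
  intro χ hχ hq
  have h3 := h _ (congr_mem_autGroup hQ'S hf hg e he1 he2 hχ) (quad_congr e hq)
  exact op_of_equiv (MulAut.congr e)
    (fun a ha => congr_symm_mem_autGroup hQS hf hg e he1 he2 ha)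
    (fun a ha => congr_mem_autGroup hQ'S hf hg e he1 he2 ha) h3

/-- `R` is an overgroup of `Q` in which the automorphisms of `Q` are visible. -/
structure Good (F : FusionSystem S) (Q R : Subgroup Ω) : Prop where
  le : Q ≤ R
  cen : F.IsCentric R
  nor : normalizerIn S Q ≤ Subgroup.normalizer (R : Set Ω)
  ext : ∀ β : MulAut Q, β ∈ F.autGroup Q → ∃ g, Maps F R g ∧ img g R = R ∧ ∀ x ∈ Q, g x = afn β x

section Sat

variable [Finite S] {p : ℕ} [Fact p.Prime]

/-- The start of the construction. -/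
theorem good_start (hS : IsPGroup p S) (hF : F.IsSaturated p) (hQ : F.IsFullyNormalized Q) :
    Good F Q (Q ⊔ centralizerIn S Q) := by
  obtain ⟨hfc, hfa⟩ := of_fullyNormalized hS hF hQ
  have hQS := hQ.1
  have hR := receptive_of_fullyCentralized hS hF hfc
  have hsS : Q ⊔ centralizerIn S Q ≤ S := sup_le hQS inf_le_left
  haveI := finite_of_le hsS
  refine ⟨le_sup_left, Cfsg.Agent.Lib.FusionCentralElt.isCentric_sup hfc, ?_, ?_⟩
  · intro s hs
    apply mem_normalizer_of_conj_mem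
    have hle : Q ⊔ centralizerIn S Q ≤ (Q ⊔ centralizerIn S Q).comap (MulAut.conj s).toMonoidHom := by
      refine sup_le (fun x hx => ?_) (fun c hc => ?_)
      · exact Subgroup.mem_sup_left ((Subgroup.mem_normalizer_iff.1 hs.2 x).1 hx)
      · show s * c * s⁻¹ ∈ Q ⊔ centralizerIn S Q
        apply Subgroup.mem_sup_right
        obtain ⟨h1, h2⟩ := mem_centralizerIn.1 hc
        refine mem_centralizerIn.2 ⟨S.mul_mem (S.mul_mem hs.1 h1) (S.inv_mem hs.1), fun x hx => ?_⟩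
        have hx' : s⁻¹ * x * s⁻¹⁻¹ ∈ Q := (Subgroup.mem_normalizer_iff.1 (Subgroup.inv_mem _ hs.2) x).1 hx
        have h3 := h2 _ hx'
        calc x * (s * c * s⁻¹) = s * ((s⁻¹ * x * s⁻¹⁻¹) * c) * s⁻¹ := by group
          _ = s * (c * (s⁻¹ * x * s⁻¹⁻¹)) * s⁻¹ := by rw [h3]
          _ = _ := by group
    intro x hx
    exact hle hx
  · intro β hβ
    have hm := Maps_of_mem_autGroup hQS hβ
    have himg : img (afn β) Q = Q := img_eq_of_card hm hQS hQS (fun x hx => afn_mem β hx) le_rfl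
    obtain ⟨k, hk, hkf⟩ := IsReceptive.ext hR hm himg
    have hle : Q ⊔ centralizerIn S Q ≤ Nf S Q (afn β) := sup_le (le_Nf hm) (centralizerIn_le_Nf hm)
    have hk' := hk.restrict hle
    refine ⟨k, hk', img_eq_of_card hk' hsS hsS ?_ le_rfl, hkf⟩
    refine hk'.sup_mem (fun x hx => ?_) (fun c hc => ?_)
    · rw [hkf x hx]
      exact Subgroup.mem_sup_left (afn_mem β hx)
    · apply Subgroup.mem_sup_right
      have hc' : c ∈ Q ⊔ centralizerIn S Q := Subgroup.mem_sup_right hc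
      refine mem_centralizerIn.2 ⟨hk'.mem hc', fun y hy => ?_⟩
      obtain ⟨x, hx, rfl⟩ : ∃ x ∈ Q, afn β x = y := by
        have : y ∈ img (afn β) Q := by rw [himg]; exact hy
        exact hm.mem_img.1 this
      have hx' : x ∈ Q ⊔ centralizerIn S Q := Subgroup.mem_sup_left hx
      rw [← hkf x hx, ← hk'.map_mul hx' hc', ← hk'.map_mul hc' hx', (mem_centralizerIn.1 hc).2 x hx]

/-- Moving to a fully normalized conjugate of the overgroup. -/
theorem good_conj (hS : IsPGroup p S) (hF : F.IsSaturated p) (hQ : F.IsFullyNormalized Q) (hG : Good F Q R) :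
    ∃ (ψ : Ω → Ω) (Q' R' : Subgroup Ω), Maps F Q ψ ∧ img ψ Q = Q' ∧ F.IsFullyNormalized Q' ∧
      F.IsFullyNormalized R' ∧ Good F Q' R' ∧ Nat.card R' = Nat.card R := by
  have hQS := hQ.1
  have hRS : R ≤ S := hG.cen.1
  obtain ⟨R', ψ, hRR', hA, hRc, hψ, hψN, hψimg⟩ := exists_sat_conj hS hF hRS
  have hRN : R ≤ normalizerIn S R := le_normalizerIn hRS
  have hQN : Q ≤ normalizerIn S R := hG.le.trans hRN
  have hNN : normalizerIn S Q ≤ normalizerIn S R := fun s hs => ⟨hs.1, hG.nor hs⟩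
  have hψQ := hψ.restrict hQN
  have hψR := hψ.restrict hRN
  have hψNQ := hψ.restrict hNN
  set Q' := img ψ Q with hQ'd
  have hconj : F.IsConj Q Q' := isConj_iff.2 ⟨ψ, hψQ, rfl⟩
  have hQ'S : Q' ≤ S := hψQ.img_le
  have hmapN : ∀ s ∈ normalizerIn S Q, ψ s ∈ normalizerIn S Q' := by
    intro s hs
    haveI := finite_of_le hQ'S
    refine ⟨hψ.mem (hNN hs), mem_normalizer_of_conj_mem (fun y hy => ?_)⟩
    obtain ⟨x, hx, rfl⟩ := hψQ.mem_img.1 hy
    have hxN : x ∈ normalizerIn S R := hQN hx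
    have hsN : s ∈ normalizerIn S R := hNN hs
    have e : ψ s * ψ x * (ψ s)⁻¹ = ψ (s * x * s⁻¹) := by
      rw [hψ.map_mul ((normalizerIn S R).mul_mem hsN hxN) ((normalizerIn S R).inv_mem hsN),
        hψ.map_mul hsN hxN, hψ.map_inv hsN]
    rw [e]
    exact hψQ.mem_img_of_mem ((Subgroup.mem_normalizer_iff.1 hs.2 x).1 hx)
  have hNS : normalizerIn S Q' ≤ S := inf_le_left
  have hcard1 : Nat.card (normalizerIn S Q) ≤ Nat.card (normalizerIn S Q') :=
    card_le_of_maps hψ hNN hNS hmapN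
  have hcard2 : Nat.card (normalizerIn S Q') ≤ Nat.card (normalizerIn S Q) := hQ.2 _ hconj
  have hQ'fn : F.IsFullyNormalized Q' := by
    refine ⟨hQ'S, fun T hT => ?_⟩
    exact (hQ.2 _ (IsConj_trans hconj hT)).trans hcard1
  have himgN : img ψ (normalizerIn S Q) = normalizerIn S Q' :=
    img_eq_of_card hψNQ (hNN.trans inf_le_left) hNS hmapN hcard2
  have hR'fn : F.IsFullyNormalized R' := fullyNormalized_of_automized_receptive hS hA hRc
  refine ⟨ψ, Q', R', hψQ, rfl, hQ'fn, hR'fn, ⟨?_, ?_, ?_, ?_⟩, ?_⟩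
  · rw [← hψimg]
    intro y hy
    obtain ⟨x, hx, rfl⟩ := hψQ.mem_img.1 hy
    exact hψR.mem_img_of_mem (hG.le hx)
  · exact IsCentric_conj hG.cen hRR'
  · intro s hs
    rw [← himgN] at hs
    obtain ⟨t, ht, rfl⟩ := hψNQ.mem_img.1 hs
    haveI := finite_of_le hR'fn.1
    apply mem_normalizer_of_conj_mem
    intro y hy
    rw [← hψimg] at hy ⊢
    obtain ⟨x, hx, rfl⟩ := hψR.mem_img.1 hy
    have hxN : x ∈ normalizerIn S R := hRN hx
    have hsN : t ∈ normalizerIn S R := hNN ht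
    have e : ψ t * ψ x * (ψ t)⁻¹ = ψ (t * x * t⁻¹) := by
      rw [hψ.map_mul ((normalizerIn S R).mul_mem hsN hxN) ((normalizerIn S R).inv_mem hsN),
        hψ.map_mul hsN hxN, hψ.map_inv hsN]
    rw [e]
    exact hψR.mem_img_of_mem ((Subgroup.mem_normalizer_iff.1 hsN.2 x).1 hx)
  · intro β' hβ'
    have hβ'm := Maps_of_mem_autGroup hQ'S hβ'
    obtain ⟨j, hj, hj1, hj2⟩ := hψQ.inv
    obtain ⟨j', hj', hj'1, hj'2⟩ := hψR.inv
    have hc : Maps F Q (j ∘ afn β' ∘ ψ) :=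
      (hψQ.comp hβ'm (fun x hx => hψQ.mem_img_of_mem hx)).comp hj
        (fun x hx => afn_mem β' (hψQ.mem_img_of_mem hx))
    have hcQ : ∀ x ∈ Q, (j ∘ afn β' ∘ ψ) x ∈ Q := fun x hx =>
      (hj2 _ (afn_mem β' (hψQ.mem_img_of_mem hx))).1
    have hcimg : img (j ∘ afn β' ∘ ψ) Q = Q := img_eq_of_card hc hQS hQS hcQ le_rfl
    have hβ := hc.toAut_mem hcimg
    obtain ⟨g, hg, hgi, hgx⟩ := hG.ext _ hβ
    have hgR : ∀ x ∈ R, g x ∈ R := fun x hx => by
      have := hg.mem_img_of_mem hx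
      rwa [hgi] at this
    have hjR : ∀ y ∈ img ψ R, j' y ∈ R := fun y hy => (hj'2 y hy).1
    have hcomp : Maps F (img ψ R) (ψ ∘ g ∘ j') :=
      (hj'.comp hg hjR).comp hψR (fun y hy => hgR _ (hjR y hy))
    have hR'eq : img ψ R = R' := hψimg
    rw [hR'eq] at hcomp
    refine ⟨ψ ∘ g ∘ j', hcomp, ?_, ?_⟩
    · refine img_eq_of_card hcomp hR'fn.1 hR'fn.1 (fun y hy => ?_) le_rfl
      rw [← hR'eq] at hy ⊢
      exact hψR.mem_img_of_mem (hgR _ (hjR y hy))
    · intro y hy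
      obtain ⟨x, hx, rfl⟩ := hψQ.mem_img.1 hy
      show ψ (g (j' (ψ x))) = afn β' (ψ x)
      rw [hj'1 x (hG.le hx), hgx x hx, hc.afn_toAut hcimg hx]
      exact (hj2 _ (afn_mem β' (hψQ.mem_img_of_mem hx))).2
  · exact (IsConj_card hRR').symm

/-- The preimage in `N_S(R)` of `O_p(Aut_F(R))`. -/
noncomputable def Rp (F : FusionSystem S) (p : ℕ) (R : Subgroup Ω) : Subgroup Ω :=
  (((pCore p (F.autGroup R)).map (F.autGroup R).subtype).comap (conjN S R)).map (normalizerIn S R).subtype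

omit [Finite S] in
lemma mem_Rp {g : Ω} : g ∈ Rp F p R ↔ ∃ h : g ∈ normalizerIn S R,
    conjN S R ⟨g, h⟩ ∈ (pCore p (F.autGroup R)).map (F.autGroup R).subtype := by
  constructor
  · rintro ⟨x, hx, rfl⟩
    exact ⟨x.2, hx⟩
  · rintro ⟨h, hx⟩
    exact ⟨⟨g, h⟩, hx, rfl⟩

/-- Going up if the overgroup is not radical. -/
theorem good_up (hS : IsPGroup p S) (hF : F.IsSaturated p) (hG : Good F Q R) (hRn : F.IsFullyNormalized R)
    (hnr : ¬ F.IsRadical p R) : Good F Q (Rp F p R) ∧ Nat.card R < Nat.card (Rp F p R) := by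
  obtain ⟨hfc, hfa⟩ := of_fullyNormalized hS hF hRn
  have hRS := hRn.1
  have hrec := receptive_of_fullyCentralized hS hF hfc
  haveI := finite_mulAut hRS
  haveI := finite_of_le hRS
  set A := F.autGroup R with hA
  set O := (pCore p A).map A.subtype with hO
  have hOA : O ≤ A := Subgroup.map_subtype_le _
  have hOp : IsPGroup p O := (Cfsg.Agent.Lib.PCore.isPGroup_pCore (G := A) p).map A.subtype
  have hOn : ∀ β ∈ A, ∀ δ ∈ O, β * δ * β⁻¹ ∈ O := fun β hβ δ hδ => op_conj A hβ hδ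
  -- `O` is induced by `S`
  have hOS : O ≤ autInducedBy S R := by
    obtain ⟨γ, hγ, hγB⟩ := IsFullyAutomized.exists_conj hfa hOp hOA
    intro ω hω
    have h1 := hOn _ (A.inv_mem hγ) ω hω
    have h2 := hγB _ h1
    have e : γ * (γ⁻¹ * ω * γ⁻¹⁻¹) * γ⁻¹ = ω := by group
    rwa [e] at h2
  have hInnO : Inn R ≤ O := by
    intro ι hι
    refine (mem_op_iff A ι).2 ⟨Inn R, Inn_le_autGroup hRS, ?_, ?_, hι⟩
    · exact (isPGroup_autInducedBy hS).to_le (Inn_le_autInducedBy hRS)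
    · intro β _ δ hδ
      exact (inferInstance : (Inn R).Normal).conj_mem δ hδ β
  have hne : O ≠ Inn R := fun h => hnr ⟨hRS, h⟩
  obtain ⟨ω, hωO, hωI⟩ : ∃ ω ∈ O, ω ∉ Inn R := by
    by_contra hcon
    push Not at hcon
    exact hne (le_antisymm hcon hInnO)
  have hRpS : Rp F p R ≤ S := by
    rintro _ ⟨x, -, rfl⟩
    exact x.2.1
  have hRRp : R ≤ Rp F p R := by
    intro r hr
    refine mem_Rp.2 ⟨le_normalizerIn hRS hr, hInnO ?_⟩
    refine ⟨⟨r, hr⟩, ?_⟩
    apply afn_ext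
    intro x hx
    rw [afn_conjN _ hx, afn_of_mem _ hx]
    rfl
  have hcalc : ∀ (γ : MulAut R) (c : normalizerIn S R) (k : Ω), γ ∈ A → ∀ hk : k ∈ normalizerIn S R,
      (∀ y ∈ R, k * afn γ y * k⁻¹ = afn γ (c * y * (c : Ω)⁻¹)) →
      conjN S R ⟨k, hk⟩ = γ * conjN S R c * γ⁻¹ := by
    intro γ c k _ hk h
    apply afn_ext
    intro y hy
    rw [afn_conjN _ hy, afn_mul _ _ hy, afn_mul _ _ (afn_mem _ hy)]
    have e1 := h _ (afn_mem γ⁻¹ hy)
    rw [afn_afn_inv γ hy] at e1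
    rw [e1, afn_conjN _ (afn_mem _ hy)]
  refine ⟨⟨hG.le.trans hRRp, IsCentric_mono hG.cen hRRp hRpS, ?_, ?_⟩, ?_⟩
  · intro s hs
    haveI := finite_of_le hRpS
    have hsN : s ∈ normalizerIn S R := ⟨hs.1, hG.nor hs⟩
    apply mem_normalizer_of_conj_mem
    intro x hx
    obtain ⟨h, hxO⟩ := mem_Rp.1 hx
    have hc := (normalizerIn S R).mul_mem ((normalizerIn S R).mul_mem hsN h) ((normalizerIn S R).inv_mem hsN)
    refine mem_Rp.2 ⟨hc, ?_⟩
    have e : conjN S R ⟨s * x * s⁻¹, hc⟩ =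
        conjN S R ⟨s, hsN⟩ * conjN S R ⟨x, h⟩ * (conjN S R ⟨s, hsN⟩)⁻¹ := by
      rw [← map_mul, ← map_inv, ← map_mul]
      rfl
    rw [e]
    refine hOn _ ?_ _ hxO
    exact autInducedBy_le_autGroup hRS (by rw [← conjN_range]; exact ⟨_, rfl⟩)
  · intro β hβ
    obtain ⟨g, hg, hgi, hgx⟩ := hG.ext β hβ
    have hαA : hg.toAut hgi ∈ A := hg.toAut_mem hgi
    set α := hg.toAut hgi with hαd
    have hαg : ∀ x ∈ R, afn α x = g x := fun x hx => hg.afn_toAut hgi hx
    -- the elements of `Rp` lie in the extender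
    have hkey : ∀ h ∈ Rp F p R, h ∈ Nf S R g := by
      intro h hh
      obtain ⟨hN, hhO⟩ := mem_Rp.1 hh
      have h1 := hOn α hαA _ hhO
      have h2 := hOS h1
      rw [mem_autInducedBy] at h2
      obtain ⟨h', hh'S, hh'⟩ := h2
      refine mem_Nf.2 ⟨hN.1, hN.2, h', hh'S, fun x hx => ?_⟩
      have hgx' : afn α x = g x := hαg x hx
      have h3 := hh' (g x) (by rw [← hgx']; exact afn_mem α hx)
      rw [← h3, ← hgx', afn_mul _ _ (afn_mem α hx), afn_mul _ _ (afn_mem _ (afn_mem α hx)), afn_inv_afn α hx,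
        afn_conjN ⟨h, hN⟩ hx]
      exact (hαg _ ((Subgroup.mem_normalizer_iff.1 hN.2 x).1 hx)).symm
    obtain ⟨k, hk, hkg⟩ := IsReceptive.ext hrec hg hgi
    have hk' := hk.restrict hkey
    refine ⟨k, hk', ?_, fun x hx => ?_⟩
    · refine img_eq_of_card hk' hRpS hRpS (fun h hh => ?_) le_rfl
      obtain ⟨hN, hhO⟩ := mem_Rp.1 hh
      have hkS : k h ∈ S := hk'.mem hh
      have hkR : ∀ x ∈ R, k h * g x * (k h)⁻¹ = g (h * x * h⁻¹) := by
        intro x hx
        have hxp := hRRp hx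
        have hc := (Rp F p R).mul_mem ((Rp F p R).mul_mem hh hxp) ((Rp F p R).inv_mem hh)
        rw [← hkg x hx, ← hk'.map_inv hh, ← hk'.map_mul hh hxp,
          ← hk'.map_mul ((Rp F p R).mul_mem hh hxp) ((Rp F p R).inv_mem hh)]
        exact hkg _ ((Subgroup.mem_normalizer_iff.1 hN.2 x).1 hx)
      have hkN : k h ∈ normalizerIn S R := by
        refine ⟨hkS, mem_normalizer_of_conj_mem (fun y hy => ?_)⟩
        have himg : y ∈ img g R := by rw [hgi]; exact hy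
        obtain ⟨x, hx, rfl⟩ := hg.mem_img.1 himg
        rw [hkR x hx, ← hgi]
        exact hg.mem_img_of_mem ((Subgroup.mem_normalizer_iff.1 hN.2 x).1 hx)
      refine mem_Rp.2 ⟨hkN, ?_⟩
      have e := hcalc α ⟨h, hN⟩ (k h) hαA hkN (fun y hy => by
        rw [hαg y hy, hkR y hy]
        exact (hαg _ ((Subgroup.mem_normalizer_iff.1 hN.2 y).1 hy)).symm)
      rw [e]
      exact hOn α hαA _ hhO
    · rw [hkg x (hG.le hx), hgx x hx]
  · have hω := hOS hωO
    rw [← conjN_range] at hω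
    obtain ⟨t, rfl⟩ := hω
    have htRp : (t : Ω) ∈ Rp F p R := mem_Rp.2 ⟨t.2, hωO⟩
    have htR : (t : Ω) ∉ R := by
      intro htR
      apply hωI
      refine ⟨⟨t, htR⟩, ?_⟩
      apply afn_ext
      intro x hx
      rw [afn_conjN _ hx, afn_of_mem _ hx]
      rfl
    haveI := finite_of_le hRpS
    refine lt_of_le_of_ne (Subgroup.card_le_of_le hRRp) (fun h => htR ?_)
    have heq := Subgroup.eq_of_le_of_card_ge hRRp h.ge
    exact (le_of_eq heq.symm) htRp

/-- Maps of a normalizer system, in terms of maps of the system. -/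
lemma maps_normalizer_iff {N : FusionSystem (normalizerIn S R)} (hN : F.IsNormalizerSystem R N)
    {T : Subgroup Ω} {f : Ω → Ω} :
    Maps N T f ↔ T ≤ normalizerIn S R ∧ (∀ x ∈ T, f x ∈ normalizerIn S R) ∧
      ∃ g, Maps F (T ⊔ R) g ∧ (∀ x ∈ T, g x = f x) ∧ img g R = R := by
  constructor
  · rintro ⟨φ, hφ, hf⟩
    rw [hN T] at hφ
    obtain ⟨h0, h1, h2, h3⟩ := hφ
    refine ⟨h1, fun x hx => ?_, ?_⟩
    · rw [← hf ⟨x, hx⟩]
      exact h2 ⟨x, hx⟩
    · obtain ⟨g, hg, hg1, hg2⟩ := nExt_iff_exists.1 h3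
      refine ⟨g, hg, fun x hx => ?_, hg2⟩
      rw [hg1 x hx, fn_of_mem φ hx, hf ⟨x, hx⟩]
  · rintro ⟨h1, h2, g, hg, hg1, hg2⟩
    have hgT := hg.restrict (le_sup_left : T ≤ T ⊔ R)
    have hgT' : Maps F T f := hgT.congr hg1
    obtain ⟨φ, hφ, hf⟩ := hgT'
    refine ⟨φ, ?_, hf⟩
    rw [hN T]
    refine ⟨hφ, h1, fun x => ?_, ?_⟩
    · rw [hf]
      exact h2 x x.2
    · apply nExt_iff_exists.2
      refine ⟨g, hg, fun x hx => ?_, hg2⟩
      rw [hg1 x hx, fn_of_mem φ hx, hf ⟨x, hx⟩]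

/-- The last step. -/
theorem stable_of_radical (hQ : F.IsFullyNormalized Q) (hG : Good F Q R) (hRS : R ≤ S)
    {N : FusionSystem (normalizerIn S R)} (hN : F.IsNormalizerSystem R N)
    (hst : ∀ Q : Subgroup Ω, N.IsFullyNormalized Q → ∀ χ : MulAut Q, χ ∈ N.autGroup Q → Quad χ →
      χ ∈ (pCore p (N.autGroup Q)).map (N.autGroup Q).subtype) : Stable F p Q := by
  have hQS := hQ.1
  haveI := finite_mulAut hQS
  have hQN : Q ≤ normalizerIn S R := hG.le.trans (le_normalizerIn hRS)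
  have hsup : Q ⊔ R = R := sup_eq_right.2 hG.le
  have hA : N.autGroup Q = F.autGroup Q := by
    apply le_antisymm
    · intro α hα
      have h1 := Maps_of_mem_autGroup hQN hα
      rw [maps_normalizer_iff hN] at h1
      obtain ⟨-, -, g, hg, hg1, -⟩ := h1
      rw [mem_autGroup_iff hQS]
      exact (hg.restrict le_sup_left).congr hg1
    · intro β hβ
      rw [mem_autGroup_iff hQN, maps_normalizer_iff hN]
      obtain ⟨g, hg, hg1, hg2⟩ := hG.ext β hβ
      refine ⟨hQN, fun x hx => hQN (afn_mem β hx), g, ?_, hg2, hg1⟩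
      rw [hsup]
      exact hg
  have hfn : N.IsFullyNormalized Q := by
    refine ⟨hQN, fun T hT => ?_⟩
    have hTc : F.IsConj Q T := by
      obtain ⟨f, hf, rfl⟩ := isConj_iff.1 hT
      have h1 := (maps_normalizer_iff hN).1 hf
      obtain ⟨-, -, g, hg, hg1, -⟩ := h1
      exact isConj_iff.2 ⟨f, (hg.restrict le_sup_left).congr hg1, rfl⟩
    have h1 := hQ.2 T hTc
    have hle1 : normalizerIn (normalizerIn S R) T ≤ normalizerIn S T :=
      inf_le_inf_right _ inf_le_left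
    have heq : normalizerIn S Q ≤ normalizerIn (normalizerIn S R) Q :=
      fun s hs => ⟨⟨hs.1, hG.nor hs⟩, hs.2⟩
    haveI : Finite (normalizerIn S T) := finite_of_le inf_le_left
    haveI : Finite (normalizerIn (normalizerIn S R) Q) :=
      finite_of_le (le_trans inf_le_left (inf_le_left : normalizerIn S R ≤ S))
    exact (Subgroup.card_le_of_le hle1).trans (h1.trans (Subgroup.card_le_of_le heq))
  intro χ hχ hq
  have h2 := hst Q hfn χ (hA ▸ hχ) hq
  rw [mem_op_iff] at h2 ⊢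
  rwa [hA] at h2

/-- The induction. -/
theorem stable_of_good (hS : IsPGroup p S) (hF : F.IsSaturated p)
    (hst : ∀ R : Subgroup Ω, F.IsFullyNormalized R → F.IsCentric R → F.IsRadical p R →
      ∀ N : FusionSystem (normalizerIn S R), F.IsNormalizerSystem R N →
      ∀ Q : Subgroup Ω, N.IsFullyNormalized Q → ∀ χ : MulAut Q, χ ∈ N.autGroup Q → Quad χ →
      χ ∈ (pCore p (N.autGroup Q)).map (N.autGroup Q).subtype)
    (n : ℕ) : ∀ Q R : Subgroup Ω, Nat.card S - Nat.card R ≤ n → F.IsFullyNormalized Q → Good F Q R →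
      Stable F p Q := by
  induction n with
  | zero =>
    intro Q R hn hQ hG
    have hRS : R ≤ S := hG.cen.1
    obtain ⟨ψ, Q', R', hψ, himg, hQ', hR', hG', hc⟩ := good_conj hS hF hQ hG
    refine stable_conj hψ himg ?_
    have hR'S := hR'.1
    by_cases hr : F.IsRadical p R'
    · obtain ⟨N, hN⟩ := exists_normalizerSystem (F := F) hR'S
      exact stable_of_radical hQ' hG' hR'S hN (hst R' hR' hG'.cen hr N hN)
    · obtain ⟨h1, h2⟩ := good_up hS hF hG' hR' hr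
      exfalso
      have hRpS : Rp F p R' ≤ S := h1.cen.1
      haveI := finite_of_le hRpS
      have h3 := Subgroup.card_le_of_le hRpS
      omega
  | succ n ih =>
    intro Q R hn hQ hG
    obtain ⟨ψ, Q', R', hψ, himg, hQ', hR', hG', hc⟩ := good_conj hS hF hQ hG
    refine stable_conj hψ himg ?_
    have hR'S := hR'.1
    by_cases hr : F.IsRadical p R'
    · obtain ⟨N, hN⟩ := exists_normalizerSystem (F := F) hR'S
      exact stable_of_radical hQ' hG' hR'S hN (hst R' hR' hG'.cen hr N hN)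
    · obtain ⟨h1, h2⟩ := good_up hS hF hG' hR' hr
      exact ih Q' _ (by omega) hQ' h1

end Sat

end Cfsg.Agent.Lib.FusionPStable
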