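import Mathlib
import Cfsg.Agent.Lib.FusionTateQ
import Cfsg.Agent.Lib.FusionGT3
import Cfsg.Agent.Lib.FusionAbelian
import Cfsg.Agent.Lib.FusionCore2
import Cfsg.Agent.Lib.FusionCore3

/-!
# Fusion systems with normal `Q` between the derived and Frattini subgroups
-/

set_option autoImplicit false

namespace Cfsg.Agent.Lib.FusionTateQ

open Cfsg Cfsg.FusionSystem Cfsg.Agent.Lib.FusionCore Cfsg.Agent.Lib.FusionGT Cfsg.Agent.Lib.FusionIso
open Cfsg.Agent.Lib.FusionFactor Cfsg.Agent.Lib.FusionStrongClosed Cfsg.Agent.Lib.FusionQuotSat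
open Cfsg.Agent.Lib.FusionNormalSub

universe u

open scoped commutatorElement

section Group

variable {G : Type u} [Group G] [Finite G] {p : ℕ} [hpp : Fact p.Prime]

/-- A group with a normal `p`-complement has no `p'`-automorphisms in its fusion system. -/
theorem not_hasNPC_of_hasAut (T : Sylow p G) (hA : HasAut (groupFusionSystem (T : Subgroup G)) p) :
    ¬ HasNormalPComplement p G := by
  intro hc
  obtain ⟨X, χ, hm, hne, hcop⟩ := hA
  obtain ⟨hXT, hv, g, hg⟩ := maps_group.1 hm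
  obtain ⟨m, hm1, hm2⟩ := exists_pprime_pow p g (orderOf_pos g) (orderOf_dvd_of_conj hg) hcop
  have hgN : g ∈ Subgroup.normalizer (X : Set G) := mem_normalizer_of_afn hg
  have h1 := Cfsg.Agent.Lib.PComplement.hasNormalPComplement_iff_forall.1 hc X (T.isPGroup'.to_le hXT) (g ^ m)
    (Subgroup.pow_mem _ hgN m) hm1
  apply hne
  apply afn_ext
  intro x hx
  have e1 : χ ^ m = χ ^ 1 := pow_eq_pow_iff_modEq.2 hm2
  rw [pow_one] at e1
  rw [← e1, afn_pow_conj hg m x hx, afn_one hx]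
  have h2 := Subgroup.mem_centralizer_iff.1 h1 x hx
  rw [← h2]
  group

/-- A subgroup normal in the fusion system is normal in `G` when `O_p(G)` contains its centralizer. -/
theorem normal_of_isNormal_group (T : Sylow p G) {R : Subgroup G}
    (hRn : (groupFusionSystem (T : Subgroup G)).IsNormal R)
    (hC : Subgroup.centralizer (pCore p G : Set G) ≤ pCore p G) : R.Normal := by
  have hKT : pCore p G ≤ (T : Subgroup G) := Cfsg.Agent.Lib.PCore.pCore_le_sylow p T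
  have hKn : (pCore p G).Normal := inferInstance
  have hTN : (T : Subgroup G) ≤ Subgroup.normalizer (R : Set G) :=
    Cfsg.Agent.Lib.FusionNormal.IsNormal.le_normalizer hRn
  constructor
  intro r hr g
  have hm : Maps (groupFusionSystem (T : Subgroup G)) (pCore p G) (fun x => g * x * g⁻¹) := by
    refine maps_group.2 ⟨hKT, fun x hx => hKT (hKn.conj_mem x hx g), g, fun _ _ => rfl⟩
  obtain ⟨ψ, hψ, h1, h2⟩ := (isNormal_iff.1 hRn).2 _ _ hm
  obtain ⟨-, -, h, hh⟩ := maps_group.1 hψ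
  have hc : h⁻¹ * g ∈ Subgroup.centralizer (pCore p G : Set G) := by
    rw [Subgroup.mem_centralizer_iff]
    intro x hx
    have e1 := h1 x hx
    rw [hh x (le_sup_left (a := pCore p G) hx)] at e1
    have e2 : h * x * h⁻¹ = g * x * g⁻¹ := e1
    calc x * (h⁻¹ * g) = h⁻¹ * (h * x * h⁻¹) * g := by group
      _ = h⁻¹ * (g * x * g⁻¹) * g := by rw [e2]
      _ = h⁻¹ * g * x := by group
  have hcK := hC hc
  have hr' : (h⁻¹ * g) * r * (h⁻¹ * g)⁻¹ ∈ R := (Subgroup.mem_normalizer_iff.1 (hTN (hKT hcK)) r).1 hr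
  have e3 := hh _ (le_sup_right (a := pCore p G) hr')
  have e4 : g * r * g⁻¹ = ψ ((h⁻¹ * g) * r * (h⁻¹ * g)⁻¹) := by
    rw [e3]; group
  rw [e4, ← h2]
  exact (hψ.restrict le_sup_right).mem_img_of_mem hr'

end Group

lemma mem_frattini_of_equiv {A B : Type*} [Group A] [Group B] (e : A ≃* B) {x : A} (hx : x ∈ frattini A) :
    e x ∈ frattini B := by
  have hx' : ∀ M : Subgroup A, IsCoatom M → x ∈ M := by
    simpa [frattini, Order.radical, Subgroup.mem_iInf] using hx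
  have : ∀ M : Subgroup B, IsCoatom M → e x ∈ M := by
    intro M hM
    have h1 : IsCoatom (e.comapSubgroup M) := (e.comapSubgroup.isCoatom_iff M).2 hM
    exact hx' _ h1
  simpa [frattini, Order.radical, Subgroup.mem_iInf] using this

section Fusion

variable {Ω : Type u} [Group Ω] {T : Subgroup Ω} [Finite T] {E : FusionSystem T} {p : ℕ} [hp : Fact p.Prime]

/-- Every map is trivial modulo `Q` when the quotient is abelian and automorphisms of `T` are inner. -/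
theorem sections_of_top {Ω' : Type*} [Group Ω'] {S' : Subgroup Ω'} [Finite S'] {θ : T →* Ω'} {E' : FusionSystem S'}
    {Q : Subgroup Ω} (hf : E.IsFactorSystem Q θ E') (hm : E.IsSurjectiveMorphism E' θ) (hE' : E'.IsSaturated p)
    (hab : ∀ x ∈ S', ∀ y ∈ S', x * y = y * x)
    (haut : ∀ f, Maps E T f → ∃ s ∈ T, ∀ x ∈ T, f x = s * x * s⁻¹)
    {P : Subgroup Ω} {f : Ω → Ω} (hfm : Maps E P f) : ∀ x ∈ P, x⁻¹ * f x ∈ Q := by
  obtain ⟨hmor, hr, hl⟩ := hm
  obtain ⟨φ, hφ, hfφ⟩ := hfm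
  obtain ⟨φ', hφ', hP, hv, hP', hind⟩ := hmor.2 P φ hφ
  obtain ⟨α, hα, hαe⟩ := Cfsg.Agent.Lib.FusionAbelian.exists_aut_of_abelian hE' hab hφ'
  obtain ⟨φ₂, hφ₂, hf₂⟩ := Maps_of_mem_autGroup le_rfl hα
  obtain ⟨ψ, hψ, hP0, hv0, hP0', hind0⟩ := hl S' le_rfl φ₂ hφ₂
  have hpre : preimageAlong θ S' = T := by
    apply le_antisymm (preimageAlong_le θ S')
    intro x hx
    refine (mem_preimageAlong θ S' x).2 ⟨hx, ?_⟩
    rw [← hr]
    exact ⟨_, rfl⟩
  have hmψ : Maps E (preimageAlong θ S') (fn ψ) := Maps.of_mem hψ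
  have hgen : ∀ (U : Subgroup Ω) (g : Ω → Ω), U = T → Maps E U g → Maps E T g := fun U g hU h => hU ▸ h
  have hmψ' : Maps E T (fn ψ) := hgen _ _ hpre hmψ
  obtain ⟨s, hs, hsψ⟩ := haut _ hmψ'
  intro x hx
  have hxT := hP hx
  have hxp : x ∈ preimageAlong θ S' := by rw [hpre]; exact hxT
  have hb : f x ∈ T := by
    rw [← hfφ ⟨x, hx⟩]
    exact hv ⟨x, hx⟩
  have e0 := hind ⟨x, hx⟩
  have e1 := hind0 ⟨x, hxp⟩
  have e2 := hαe ⟨θ ⟨x, hP hx⟩, hP' ⟨x, hx⟩⟩
  have hθS : θ ⟨x, hP hx⟩ ∈ S' := hP0' ⟨x, hxp⟩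
  have e3 := hf₂ ⟨θ ⟨x, hP hx⟩, hθS⟩
  have e4 := hsψ x hxT
  rw [fn_of_mem ψ hxp] at e4
  have hsxT : s * x * s⁻¹ ∈ T := T.mul_mem (T.mul_mem hs hxT) (T.inv_mem hs)
  have h1 : θ ⟨f x, hb⟩ = φ' ⟨θ ⟨x, hxT⟩, hP' ⟨x, hx⟩⟩ := by
    refine Eq.trans (congrArg θ (Subtype.ext ?_)) e0.symm
    exact (hfφ ⟨x, hx⟩).symm
  have h2 : φ' ⟨θ ⟨x, hxT⟩, hP' ⟨x, hx⟩⟩ = ((α ⟨θ ⟨x, hxT⟩, hθS⟩ : S') : Ω') := e2.symm
  have h3 : ((α ⟨θ ⟨x, hxT⟩, hθS⟩ : S') : Ω') = φ₂ ⟨θ ⟨x, hxT⟩, hθS⟩ := by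
    rw [e3, afn_coe]
  have h4 : φ₂ ⟨θ ⟨x, hxT⟩, hθS⟩ = θ ⟨s * x * s⁻¹, hsxT⟩ := by
    refine Eq.trans e1 (congrArg θ (Subtype.ext ?_))
    exact e4
  have hθr : ∀ u : T, θ u ∈ S' := fun u => hr ▸ ⟨u, rfl⟩
  have h5 : θ ⟨s * x * s⁻¹, hsxT⟩ = θ ⟨x, hxT⟩ := by
    have e : (⟨s * x * s⁻¹, hsxT⟩ : T) = ⟨s, hs⟩ * ⟨x, hxT⟩ * (⟨s, hs⟩ : T)⁻¹ := rfl
    rw [e, _root_.map_mul, _root_.map_mul, _root_.map_inv, hab _ (hθr _) _ (hθr _)]
    group
  have h6 : θ ⟨f x, hb⟩ = θ ⟨x, hxT⟩ := h1.trans (h2.trans (h3.trans (h4.trans h5)))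
  have hel : x⁻¹ * f x ∈ T := T.mul_mem (T.inv_mem hxT) hb
  refine (hf.2.1 ⟨_, hel⟩).1 ?_
  have e : (⟨x⁻¹ * f x, hel⟩ : T) = (⟨x, hxT⟩ : T)⁻¹ * ⟨f x, hb⟩ := rfl
  rw [e, _root_.map_mul, _root_.map_inv, h6, inv_mul_cancel]

lemma exists_mul_of_mem_sup {A B K : Subgroup Ω} (hA : A ≤ K) (hBn : ∀ k ∈ K, ∀ b ∈ B, k * b * k⁻¹ ∈ B) {t : Ω}
    (ht : t ∈ A ⊔ B) : ∃ a ∈ A, ∃ b ∈ B, t = a * b := by
  let W : Subgroup Ω :=
    { carrier := {t | ∃ a ∈ A, ∃ b ∈ B, t = a * b}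
      mul_mem' := by
        rintro _ _ ⟨a₁, ha₁, b₁, hb₁, rfl⟩ ⟨a₂, ha₂, b₂, hb₂, rfl⟩
        refine ⟨a₁ * a₂, A.mul_mem ha₁ ha₂, a₂⁻¹ * b₁ * a₂⁻¹⁻¹ * b₂,
          B.mul_mem (hBn _ (K.inv_mem (hA ha₂)) _ hb₁) hb₂, ?_⟩
        group
      one_mem' := ⟨1, A.one_mem, 1, B.one_mem, by simp⟩
      inv_mem' := by
        rintro _ ⟨a, ha, b, hb, rfl⟩
        refine ⟨a⁻¹, A.inv_mem ha, a * b⁻¹ * a⁻¹, hBn _ (hA ha) _ (B.inv_mem hb), ?_⟩
        group }
  have h : A ⊔ B ≤ W := sup_le (fun a ha => ⟨a, ha, 1, B.one_mem, by simp⟩)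
    (fun b hb => ⟨1, A.one_mem, b, hb, by simp⟩)
  exact h ht

/-- `Q C_T(Q)` is normal and centric, when all maps are trivial modulo `Q` and `T/Q` is abelian. -/
theorem isNormal_sup_centralizer (hT : IsPGroup p T) (hE : E.IsSaturated p) {Q : Subgroup Ω} (hQN : E.IsNormal Q)
    (hcomm : (commutator T).map T.subtype ≤ Q)
    (hsec : ∀ (P : Subgroup Ω) (f : Ω → Ω), Maps E P f → ∀ x ∈ P, x⁻¹ * f x ∈ Q) :
    E.IsNormal (Q ⊔ centralizerIn T Q) ∧ E.IsCentric (Q ⊔ centralizerIn T Q) := by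
  have hQT : Q ≤ T := hQN.1
  have hTN : T ≤ Subgroup.normalizer (Q : Set Ω) := Cfsg.Agent.Lib.FusionNormal.IsNormal.le_normalizer hQN
  set C : Subgroup Ω := centralizerIn T Q with hCdef
  have hCT : C ≤ T := inf_le_left
  have hTC : ∀ t ∈ T, ∀ c ∈ C, t * c * t⁻¹ ∈ C := by
    intro t ht c hc
    obtain ⟨hc1, hc2⟩ := mem_centralizerIn.1 hc
    refine mem_centralizerIn.2 ⟨T.mul_mem (T.mul_mem ht hc1) (T.inv_mem ht), fun x hx => ?_⟩
    have h3 : t⁻¹ * x * t⁻¹⁻¹ ∈ Q := (Subgroup.mem_normalizer_iff.1 (Subgroup.inv_mem _ (hTN ht)) x).1 hx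
    have h4 := hc2 _ h3
    calc x * (t * c * t⁻¹) = t * ((t⁻¹ * x * t⁻¹⁻¹) * c) * t⁻¹ := by group
      _ = t * (c * (t⁻¹ * x * t⁻¹⁻¹)) * t⁻¹ := by rw [h4]
      _ = t * c * t⁻¹ * x := by group
  have hcm : ∀ x ∈ T, ∀ t ∈ T, x⁻¹ * (t * x * t⁻¹) ∈ Q := by
    intro x hx t ht
    apply hcomm
    refine ⟨⁅(⟨x, hx⟩ : T)⁻¹, (⟨t, ht⟩ : T)⁆, Subgroup.commutator_mem_commutator (Subgroup.mem_top _) (Subgroup.mem_top _), ?_⟩
    simp [commutatorElement_def, mul_assoc]
  have hU : Q ⊔ C ≤ T := sup_le hQT hCT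
  have hinvP : ∀ P : Subgroup Ω, P ≤ T → Q ⊔ C ≤ P → ∀ α ∈ E.autGroup P, img (afn α) (Q ⊔ C) = Q ⊔ C := by
    intro P hPT hUP α hα
    have hm := Maps_of_mem_autGroup hPT hα
    refine img_eq_of_card (hm.restrict hUP) hU hU (fun x hx => ?_) le_rfl
    have h1 := hsec P _ hm x (hUP hx)
    have h2 := (Q ⊔ C).mul_mem hx (Subgroup.mem_sup_left h1)
    convert h2 using 1
    group
  have hN : E.IsNormal (Q ⊔ C) := by
    refine FusionCore3.isNormal_of_AG hT hE ?_
    rintro P (rfl | hP)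
    · exact ⟨hU, hinvP _ le_rfl hU⟩
    · have hc : E.IsCentric P := hP.1
      have hr : E.IsRadical p P := FusionCore2.radical_of_essential hT hP
      have hPT : P ≤ T := hc.1
      have hQP : Q ≤ P := FusionCore3.le_of_centric_radical hT hQN hc hr
      have hCP : C ≤ P := by
        by_contra hCP
        have hlt : P < P ⊔ C := lt_of_le_of_ne le_sup_left (fun h => hCP (sup_eq_left.1 h.symm))
        have hKT : P ⊔ C ≤ T := sup_le hPT hCT
        have hN2 := FusionCore2.lt_normalizerIn' hT hKT hlt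
        obtain ⟨t, ht1, ht2⟩ := SetLike.exists_of_lt hN2
        obtain ⟨htK, htN⟩ := mem_normalizerIn.1 ht1
        obtain ⟨a, ha, c, hc', rfl⟩ := exists_mul_of_mem_sup hPT hTC htK
        apply ht2
        refine P.mul_mem ha ?_
        have hcT := hCT hc'
        have hcN : c ∈ normalizerIn T P := by
          refine mem_normalizerIn.2 ⟨hcT, ?_⟩
          have h1 : a⁻¹ ∈ Subgroup.normalizer (P : Set Ω) := Subgroup.inv_mem _ (Subgroup.le_normalizer ha)
          have h2 := Subgroup.mul_mem _ h1 htN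
          simpa using h2
        let Ch : ℕ → Subgroup Ω := fun i => match i with
          | 0 => P
          | 1 => Q
          | _ => ⊥
        refine FusionCore3.mem_of_chain hT hc hr Ch rfl (m := 2) rfl ?_ ?_ hcN ?_
        · intro i
          match i with
          | 0 => exact hQP
          | 1 => exact bot_le
          | (_ + 2) => exact le_rfl
        · intro α hα i x hx
          have hm := Maps_of_mem_autGroup hPT hα
          match i, hx with
          | 0, hx => exact afn_mem α hx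
          | 1, hx =>
            have h1 := hsec P _ hm x (hQP hx)
            have hxQ : x ∈ Q := hx
            have h2 := Q.mul_mem hxQ h1
            have e : afn α x = x * (x⁻¹ * afn α x) := by group
            show afn α x ∈ Q
            rw [e]
            exact h2
          | (_ + 2), hx =>
            have hx1 : x = 1 := Subgroup.mem_bot.1 hx
            subst hx1
            have h1 : afn α (1 : Ω) = 1 := by
              rw [afn_of_mem α P.one_mem]
              have : (⟨1, P.one_mem⟩ : P) = 1 := rfl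
              rw [this, _root_.map_one]
              rfl
            rw [h1]
            exact Subgroup.one_mem _
        · intro i x hx
          match i, hx with
          | 0, hx => exact hcm x (hPT hx) c hcT
          | 1, hx =>
            have h1 := (mem_centralizerIn.1 hc').2 x hx
            have : x⁻¹ * (c * x * c⁻¹) = 1 := by
              rw [← h1]
              group
            rw [this]
            exact Subgroup.one_mem _
          | (_ + 2), hx =>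
            have hx1 : x = 1 := Subgroup.mem_bot.1 hx
            subst hx1
            have : (1 : Ω)⁻¹ * (c * 1 * c⁻¹) = 1 := by group
            rw [this]
            exact Subgroup.one_mem _
      have hUP : Q ⊔ C ≤ P := sup_le hQP hCP
      exact ⟨hUP, hinvP P hPT hUP⟩
  refine ⟨hN, hU, fun Q' hQ' => ?_⟩
  rw [conj_eq_of_isNormal hN hQ']
  intro c hc
  refine Subgroup.mem_sup_right ?_
  obtain ⟨hc1, hc2⟩ := mem_centralizerIn.1 hc
  exact mem_centralizerIn.2 ⟨hc1, fun x hx => hc2 x (Subgroup.mem_sup_left hx)⟩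

/-- **The main theorem**: a normal subgroup between `[T,T]` and `Φ(T)` with only inner automorphisms of `T`. -/
theorem inner_of_frattini (hT : IsPGroup p T) (hE : E.IsSaturated p) {Q : Subgroup Ω} (hQN : E.IsNormal Q)
    (hcomm : (commutator T).map T.subtype ≤ Q) (hfrat : Q ≤ (frattini T).map T.subtype)
    (haut : ∀ f, Maps E T f → ∃ s ∈ T, ∀ x ∈ T, f x = s * x * s⁻¹) :
    ∀ P, E.Hom P = (innerFusionSystem T).Hom P := by
  by_contra hne
  have hA := hasAut_of_not_inner hT hE hne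
  have hQT : Q ≤ T := hQN.1
  have hTN : T ≤ Subgroup.normalizer (Q : Set Ω) := Cfsg.Agent.Lib.FusionNormal.IsNormal.le_normalizer hQN
  have hSC := Cfsg.Agent.Lib.FusionNormal.IsNormal.stronglyClosed hQN
  haveI hK : (Q.subgroupOf T).Normal := by
    constructor
    intro x hx t
    rw [Subgroup.mem_subgroupOf] at hx ⊢
    exact (Subgroup.mem_normalizer_iff.1 (hTN t.2) x).1 hx
  let θ : T →* (T ⧸ Q.subgroupOf T) := QuotientGroup.mk' _
  have hθk : ∀ s : T, θ s = 1 ↔ (s : Ω) ∈ Q := fun s => by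
    have : θ s = 1 ↔ s ∈ Q.subgroupOf T := QuotientGroup.eq_one_iff s
    rw [this, Subgroup.mem_subgroupOf]
  have hθr : θ.range = ⊤ := MonoidHom.range_eq_top.2 (QuotientGroup.mk'_surjective _)
  obtain ⟨E', hE'⟩ := exists_factorSystem E hSC hθk hθr
  have hm := isSurjectiveMorphism_of_isFactorSystem hT hE hSC hE'
  have hker : kerAlong θ = Q := by
    ext x
    constructor
    · rintro ⟨s, hs, rfl⟩
      exact (hθk s).1 hs
    · intro hx
      exact ⟨⟨x, hQT hx⟩, (hθk _).2 hx, rfl⟩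
  have hE's : E'.IsSaturated p := isSaturated_of_surjective hT hE hm (by rw [hker]; exact hSC)
  have hab : ∀ x ∈ (⊤ : Subgroup (T ⧸ Q.subgroupOf T)), ∀ y ∈ (⊤ : Subgroup (T ⧸ Q.subgroupOf T)), x * y = y * x := by
    intro x _ y _
    obtain ⟨a, rfl⟩ := QuotientGroup.mk'_surjective _ x
    obtain ⟨b, rfl⟩ := QuotientGroup.mk'_surjective _ y
    have h1 : (⁅a, b⁆ : T) ∈ Q.subgroupOf T := by
      rw [Subgroup.mem_subgroupOf]
      apply hcomm
      exact ⟨_, Subgroup.commutator_mem_commutator (Subgroup.mem_top _) (Subgroup.mem_top _), rfl⟩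
    have h2 := (QuotientGroup.eq_one_iff _).2 h1
    have h3 : (QuotientGroup.mk' (Q.subgroupOf T) a) * (QuotientGroup.mk' (Q.subgroupOf T) b) *
        (QuotientGroup.mk' (Q.subgroupOf T) a)⁻¹ * (QuotientGroup.mk' (Q.subgroupOf T) b)⁻¹ = 1 := by
      rw [← _root_.map_inv, ← _root_.map_inv, ← _root_.map_mul, ← _root_.map_mul, ← _root_.map_mul]
      exact h2
    exact mul_inv_eq_iff_eq_mul.1 (mul_inv_eq_one.1 h3)
  have hsec : ∀ (P : Subgroup Ω) (f : Ω → Ω), Maps E P f → ∀ x ∈ P, x⁻¹ * f x ∈ Q :=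
    fun P f h => sections_of_top hE' hm hE's hab haut h
  obtain ⟨hN1, hC1⟩ := isNormal_sup_centralizer hT hE hQN hcomm hsec
  obtain ⟨G, i1, ι, i2, hι, ⟨T₀, hT₀⟩, hC⟩ := Cfsg.Agent.Lib.FusionModel.exists_model hT hE hN1 hC1
  obtain ⟨I, -⟩ := exists_iso_of_realized hι hT₀
  have hA' := HasAut.iso I hA
  set R : Subgroup G := im I.e Q with hRdef
  have hRT : R ≤ (T₀ : Subgroup G) := I.im_le hQT
  have hRn : (groupFusionSystem (T₀ : Subgroup G)).IsNormal R := by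
    refine I.symm.isNormal hRT ?_
    show E.IsNormal (im I.e' (im I.e Q))
    rwa [I.im_symm hQT]
  haveI hRnorm : R.Normal := normal_of_isNormal_group T₀ hRn hC
  let e : T ≃* (T₀ : Subgroup G) :=
    { toFun := fun x => ⟨I.e x, I.mem x x.2⟩
      invFun := fun y => ⟨I.e' y, I.mem' y y.2⟩
      left_inv := fun x => Subtype.ext (I.left x x.2)
      right_inv := fun y => Subtype.ext (I.right y y.2)
      map_mul' := fun x y => Subtype.ext (I.map_mul x x.2 y y.2) }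
  have hΦ : R ≤ (frattini (T₀ : Subgroup G)).map (T₀ : Subgroup G).subtype := by
    intro y hy
    obtain ⟨q, hq, rfl⟩ := (I.mem_im hQT).1 hy
    obtain ⟨q', hq', e1⟩ := hfrat hq
    subst e1
    exact ⟨e q', mem_frattini_of_equiv e hq', rfl⟩
  have hfus : ∀ x ∈ (T₀ : Subgroup G), ∀ g : G, g * x * g⁻¹ ∈ (T₀ : Subgroup G) → x⁻¹ * (g * x * g⁻¹) ∈ R := by
    intro x hx g hg
    have hXT : Subgroup.zpowers x ≤ (T₀ : Subgroup G) := by
      rw [Subgroup.zpowers_le]; exact hx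
    have hvals : ∀ y ∈ Subgroup.zpowers x, g * y * g⁻¹ ∈ (T₀ : Subgroup G) := by
      rintro _ ⟨k, rfl⟩
      have : g * x ^ k * g⁻¹ = (g * x * g⁻¹) ^ k := by
        rw [conj_zpow]
      simp only [this]
      exact Subgroup.zpow_mem _ hg k
    have hm0 : Maps (groupFusionSystem (T₀ : Subgroup G)) (Subgroup.zpowers x) (fun y => g * y * g⁻¹) :=
      maps_group.2 ⟨hXT, hvals, g, fun _ _ => rfl⟩
    have hm1 := I.maps' hm0
    have hxim : I.e' x ∈ im I.e' (Subgroup.zpowers x) := I.symm.mem_im_of_mem (Subgroup.mem_zpowers x)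
    have h1 := hsec _ _ hm1 _ hxim
    have h2 : (I.e' ∘ (fun y => g * y * g⁻¹) ∘ I.e) (I.e' x) = I.e' (g * x * g⁻¹) := by
      simp only [Function.comp]
      rw [I.right x hx]
    rw [h2] at h1
    have h3 := I.mem_im_of_mem h1
    rw [I.map_mul _ (T.inv_mem (I.mem' x hx)) _ (I.mem' _ hg), I.map_inv (I.mem' x hx), I.right x hx, I.right _ hg] at h3
    exact h3
  exact not_hasNPC_of_hasAut T₀ hA' (hasNPC_of_frattini T₀ R hRT hΦ hfus)

end Fusion

end Cfsg.Agent.Lib.FusionTateQ
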