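/-
FusionThompsonTrf: a Thompson-type transfer for saturated fusion systems at the prime `2`.
-/
import Mathlib
import Cfsg.Agent.Lib.FusionYoshida

set_option autoImplicit false

namespace Cfsg.Agent.Lib.FusionThompsonTrf

open Cfsg Cfsg.FusionSystem Cfsg.Agent.Lib.FusionCore Cfsg.Agent.Lib.StableSet Cfsg.Agent.Lib.FusionBiset
open Cfsg.Agent.Lib.FusionTransfer Cfsg.Agent.Lib.FusionTrfApps Cfsg.Agent.Lib.FusionYoshida MulAction

universe u

variable {Ω : Type u} [Group Ω] {S : Subgroup Ω} {F : FusionSystem S}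

/-- The relation and conjugate elements. -/
lemma frel_iff_conjElt {a b : ↥S} : FRel F a b ↔ F.IsConjElt a b := by
  constructor
  · rintro ⟨P, f, hf, ha, hb⟩
    have hle : Subgroup.zpowers (a : Ω) ≤ P := (Subgroup.zpowers_le).2 ha
    have hr := hf.restrict hle
    refine ⟨hr.hom, hr.hom_mem, ?_⟩
    rw [hr.hom_apply, hb]
  · rintro ⟨φ, hφ, hb⟩
    refine ⟨_, fn φ, Maps.of_mem hφ, Subgroup.mem_zpowers _, ?_⟩
    rw [fn_of_mem φ (Subgroup.mem_zpowers _), hb]

lemma FRel.conj {a b : ↥S} (h : FRel F a b) (g : ↥S) : FRel F a (g * b * g⁻¹) := by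
  obtain ⟨P, f, hf, ha, hb⟩ := h
  refine ⟨P, _, hf.comp (Maps.conj le_rfl g.2) (fun x hx => hf.mem hx), ha, ?_⟩
  simp [hb]

lemma img_zpowers {a : Ω} {f : Ω → Ω} (hf : Maps F (Subgroup.zpowers a) f) :
    img f (Subgroup.zpowers a) = Subgroup.zpowers (f a) := by
  ext y
  rw [hf.mem_img]
  constructor
  · rintro ⟨x, hx, rfl⟩
    obtain ⟨k, rfl⟩ := Subgroup.mem_zpowers_iff.1 hx
    rw [hf.map_zpow (Subgroup.mem_zpowers a)]
    exact Subgroup.zpow_mem_zpowers _ _
  · intro hy
    obtain ⟨k, rfl⟩ := Subgroup.mem_zpowers_iff.1 hy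
    exact ⟨a ^ k, Subgroup.zpow_mem_zpowers _ _, hf.map_zpow (Subgroup.mem_zpowers a) k⟩

lemma FRel.isConj_zpowers {a b : ↥S} (h : FRel F a b) :
    F.IsConj (Subgroup.zpowers (a : Ω)) (Subgroup.zpowers (b : Ω)) := by
  obtain ⟨P, f, hf, ha, hb⟩ := h
  have hr := hf.restrict ((Subgroup.zpowers_le).2 ha)
  rw [Cfsg.Agent.Lib.FusionCore.isConj_iff]
  exact ⟨f, hr, by rw [img_zpowers hr, hb]⟩

section Pairs

variable [Finite S] {X : Type u} [Finite X] [MulAction (Gam S) X]

lemma pair_smul_rm (u s a : ↥S) (ω : OrbI (S := S) X) :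
    ((u, s) : Gam S) • rm (sig ω) a = rm (sig (bar (LL S X u) ω)) (cc (LL S X u) ω * a * s⁻¹) := by
  have h1 : ((u, s) : Gam S) = ((1, s) : Gam S) * ((u, 1) : Gam S) := by simp
  have h2 : ((u, 1) : Gam S) • rm (sig ω) a = rm (((u, 1) : Gam S) • sig ω) a := (LL S X u).2 (sig ω) a
  have h3 : ((u, 1) : Gam S) • sig ω = rm (sig (bar (LL S X u) ω)) (cc (LL S X u) ω) := g_sig (LL S X u) ω
  rw [h1, mul_smul, h2, h3, rm_rm]
  have h4 : ∀ (y : X) (t : ↥S), ((1, t) : Gam S) • y = rm y t⁻¹ := by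
    intro y t
    simp [rm]
  rw [h4, rm_rm]

lemma pair_fix_iff (hX : ∀ x : X, stabilizer (Gam S) x ∈ GG F) (u s a : ↥S) (ω : OrbI (S := S) X) :
    ((u, s) : Gam S) • rm (sig ω) a = rm (sig ω) a ↔
      bar (LL S X u) ω = ω ∧ s = a⁻¹ * cc (LL S X u) ω * a := by
  rw [pair_smul_rm]
  constructor
  · intro h
    have h1 := congrArg (Quotient.mk (rset (S := S) X)) h
    rw [mk_rm, mk_rm, mk_sig, mk_sig] at h1
    refine ⟨h1, ?_⟩
    rw [h1] at h
    have h2 := rm_free hX h
    rw [mul_inv_eq_iff_eq_mul] at h2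
    rw [mul_assoc, h2]
    group
  · rintro ⟨h1, h2⟩
    rw [h1, h2]
    congr 1
    group

/-- Preimages of subsets of the right orbits. -/
lemma card_preimage (hX : ∀ x : X, stabilizer (Gam S) x ∈ GG F) (E : Set (OrbI (S := S) X)) :
    Nat.card {x : X // Quotient.mk (rset (S := S) X) x ∈ E} = Nat.card E * Nat.card S := by
  rw [← Nat.card_prod]
  refine Nat.card_congr
    { toFun := fun x => (⟨Quotient.mk _ x.1, x.2⟩, qq x.1)
      invFun := fun y => ⟨rm (sig y.1.1) y.2, by rw [mk_rm, mk_sig]; exact y.1.2⟩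
      left_inv := fun x => Subtype.ext (qq_spec x.1)
      right_inv := fun y => ?_ }
  rcases y with ⟨⟨i, hi⟩, a⟩
  refine Prod.ext (Subtype.ext ?_) (qq_rm_sig hX i a)
  show Quotient.mk _ (rm (sig i) a) = i
  rw [mk_rm, mk_sig]

/-- Points are of the form `rm (sig ω) a`. -/
lemma exists_rm (x : X) : ∃ (ω : OrbI (S := S) X) (a : ↥S), rm (sig ω) a = x ∧ Quotient.mk (rset (S := S) X) x = ω :=
  ⟨_, _, qq_spec x, rfl⟩

end Pairs

section Cent

variable [Finite S]

/-- The cardinal of the centralizer of a point, through the conjugation action. -/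
lemma card_normalizerIn_zpowers {s : ↥S} (hs : orderOf (s : Ω) = 2) :
    Nat.card (normalizerIn S (Subgroup.zpowers (s : Ω))) = Nat.card (stabilizer (ConjAct ↥S) s) := by
  have hs2 : (s : Ω) ^ 2 = 1 := by rw [← hs, pow_orderOf_eq_one]
  have hne : (s : Ω) ≠ 1 := by
    intro h
    rw [h, orderOf_one] at hs
    omega
  have key : ∀ g : ↥S, (g : Ω) ∈ Subgroup.normalizer (Subgroup.zpowers (s : Ω) : Set Ω) ↔ g * s * g⁻¹ = s := by
    intro g
    constructor
    · intro hg
      have h1 := (Subgroup.mem_normalizer_iff.1 hg (s : Ω)).1 (Subgroup.mem_zpowers _)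
      obtain ⟨k, hk⟩ := Subgroup.mem_zpowers_iff.1 h1
      apply Subtype.ext
      push_cast
      rw [← hk]
      rcases Int.even_or_odd' k with ⟨l, rfl | rfl⟩
      · exfalso
        rw [zpow_mul] at hk
        have h2 : (s : Ω) ^ (2 : ℤ) = 1 := by exact_mod_cast hs2
        rw [h2, one_zpow] at hk
        have h3 : (g : Ω) * s = g := by
          calc (g : Ω) * s = ((g : Ω) * s * (g : Ω)⁻¹) * g := by group
            _ = g := by rw [← hk]; simp
        exact hne (mul_eq_left.1 h3)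
      · rw [zpow_add, zpow_mul]
        have h2 : (s : Ω) ^ (2 : ℤ) = 1 := by exact_mod_cast hs2
        rw [h2, one_zpow, one_mul, zpow_one]
    · intro hg
      refine mem_normalizer_of_conj_eq (fun x hx => ?_)
      obtain ⟨k, rfl⟩ := Subgroup.mem_zpowers_iff.1 hx
      have h1 : (g : Ω) * s * (g : Ω)⁻¹ = s := by
        have := congrArg (Subtype.val) hg
        simpa using this
      rw [← conj_zpow, h1]
  refine Nat.card_congr
    { toFun := fun x => ⟨ConjAct.toConjAct (⟨x.1, x.2.1⟩ : ↥S), ?_⟩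
      invFun := fun y => ⟨((ConjAct.ofConjAct y.1 : ↥S) : Ω), (ConjAct.ofConjAct y.1 : ↥S).2, ?_⟩
      left_inv := fun x => rfl
      right_inv := fun y => rfl }
  · rw [mem_stabilizer_iff, ConjAct.smul_def]
    exact (key _).1 x.2.2
  · apply (key _).2
    have := mem_stabilizer_iff.1 y.2
    rwa [ConjAct.smul_def] at this

end Cent

section Main

variable [Finite S] {X : Type u} [Finite X] [MulAction (Gam S) X]

/-- The number of points fixed by a pair is constant on the conjugates, via marks. -/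
lemma card_fixPair (hX : ∀ x : X, stabilizer (Gam S) x ∈ GG F)
    (hm : ∀ V ∈ GG F, ∀ V' ∈ GG F, rr F V V' → mark X V = mark X V') {i s s' : ↥S} (hs : FRel F i s) (hs' : FRel F i s') :
    Nat.card {x : X // ((i, s) : Gam S) • x = x} = Nat.card {x : X // ((i, s') : Gam S) • x = x} := by
  have hgr : ∀ t : ↥S, FRel F i t → Subgroup.zpowers ((i, t) : Gam S) ∈ GG F ∧
      pr1 (Subgroup.zpowers ((i, t) : Gam S)) = Subgroup.zpowers (i : Ω) := by
    intro t ht
    obtain ⟨P, f, hf, ha, hb⟩ := ht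
    have hr := hf.restrict ((Subgroup.zpowers_le).2 ha)
    have hgg : IsGr F (Subgroup.zpowers ((i, t) : Gam S)) (Subgroup.zpowers (i : Ω)) f := by
      refine ⟨hr, fun a b => ?_⟩
      constructor
      · intro h
        obtain ⟨k, hk⟩ := Subgroup.mem_zpowers_iff.1 h
        have h1 : a = i ^ k := (congrArg Prod.fst hk).symm
        have h2 : b = t ^ k := (congrArg Prod.snd hk).symm
        refine ⟨Subgroup.mem_zpowers_iff.2 ⟨k, by rw [h1]; simp⟩, ?_⟩
        rw [h1, h2]
        push_cast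
        rw [hr.map_zpow (Subgroup.mem_zpowers _), hb]
      · rintro ⟨h1, h2⟩
        obtain ⟨k, hk⟩ := Subgroup.mem_zpowers_iff.1 h1
        refine Subgroup.mem_zpowers_iff.2 ⟨k, Prod.ext ?_ ?_⟩
        · apply Subtype.ext
          simpa using hk
        · apply Subtype.ext
          rw [h2, ← hk, hr.map_zpow (Subgroup.mem_zpowers _), ← hb]
          simp
    exact ⟨⟨_, _, hgg⟩, hgg.pr1_eq⟩
  have hmk : ∀ t : ↥S, Nat.card {x : X // ((i, t) : Gam S) • x = x} = mark X (Subgroup.zpowers ((i, t) : Gam S)) := by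
    intro t
    refine Nat.card_congr (Equiv.subtypeEquivRight (fun x => ?_))
    rw [mem_fixSet_iff_le, Subgroup.zpowers_le, mem_stabilizer_iff]
  obtain ⟨h1, h2⟩ := hgr s hs
  obtain ⟨h3, h4⟩ := hgr s' hs'
  rw [hmk, hmk]
  refine hm _ h1 _ h3 ⟨h1, h3, ?_⟩
  rw [h2, h4]
  exact isConj_refl (by
    refine (Subgroup.zpowers_le).2 i.2)

/-- Freeness of right multiplication on the fixed points of a pair. -/
lemma stab_dvd (hX : ∀ x : X, stabilizer (Gam S) x ∈ GG F) (i z : ↥S) :
    Nat.card (stabilizer (ConjAct ↥S) z) ∣ Nat.card {x : X // ((i, z) : Gam S) • x = x} := by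
  classical
  set C := stabilizer (ConjAct ↥S) z with hC
  have hcomm : ∀ c : C, (ConjAct.ofConjAct c.1) * z = z * (ConjAct.ofConjAct c.1) := by
    intro c
    have := mem_stabilizer_iff.1 c.2
    rw [ConjAct.smul_def] at this
    exact mul_inv_eq_iff_eq_mul.1 this
  let ι : C → Gam S := fun c => (1, ConjAct.ofConjAct c.1)
  have hι : ∀ (c : C) (x : X), ((i, z) : Gam S) • x = x → ((i, z) : Gam S) • (ι c • x) = ι c • x := by
    intro c x hx
    rw [smul_smul]
    have : ((i, z) : Gam S) * ι c = ι c * ((i, z) : Gam S) := by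
      simp only [ι, Prod.mk_mul_mk, mul_one, one_mul]
      rw [hcomm]
    rw [this, mul_smul, hx]
  let act : MulAction C {x : X // ((i, z) : Gam S) • x = x} :=
    { smul := fun c x => ⟨ι c • x.1, hι c x.1 x.2⟩
      one_smul := fun x => by
        apply Subtype.ext
        show ((1, (1 : ↥S)) : Gam S) • x.1 = x.1
        exact one_smul _ _
      mul_smul := fun c d x => by
        apply Subtype.ext
        show ι (c * d) • x.1 = ι c • ι d • x.1
        rw [smul_smul]
        congr 1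
        simp [ι] }
  have hfree : ∀ b : {x : X // ((i, z) : Gam S) • x = x}, stabilizer C b = ⊥ := by
    intro b
    rw [eq_bot_iff]
    intro c hc
    have h1 : ι c • b.1 = b.1 := congrArg Subtype.val (mem_stabilizer_iff.1 hc)
    obtain ⟨P, f, hg⟩ := hX b.1
    have h2 := ((hg.mem _ _).1 (mem_stabilizer_iff.2 h1)).2
    rw [OneMemClass.coe_one, hg.maps.map_one] at h2
    have h3 : ConjAct.ofConjAct c.1 = 1 := Subtype.ext h2
    have h4 : c.1 = 1 := h3
    exact Subgroup.mem_bot.2 (Subtype.ext h4)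
  have := Nat.card_congr (MulAction.selfEquivOrbitsQuotientProd hfree)
  rw [this, Nat.card_prod]
  exact dvd_mul_left _ _

/-- The class sum. -/
lemma class_sum {G : Type*} [Group G] [Finite G] [DecidableEq G] (m : ℕ) (J : Finset G)
    (hJ : ∀ (g : G), ∀ s ∈ J, g * s * g⁻¹ ∈ J)
    (hm : ∀ s ∈ J, 2 * Nat.card (stabilizer (ConjAct G) s) ∣ m) : 2 * Nat.card G ∣ J.card * m := by
  classical
  haveI : Fintype G := Fintype.ofFinite _
  induction J using Finset.strongInduction with
  | H J ih =>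
    by_cases hem : J = ∅
    · subst hem
      simp
    obtain ⟨s₀, hs₀⟩ := Finset.nonempty_iff_ne_empty.2 hem
    set O : Finset G := Finset.univ.filter (fun s => s ∈ orbit (ConjAct G) s₀) with hO
    have hOJ : O ⊆ J := by
      intro s hs
      obtain ⟨c, rfl⟩ := (Finset.mem_filter.1 hs).2
      show c • s₀ ∈ J
      rw [ConjAct.smul_def]
      exact hJ _ _ hs₀
    have hs₀O : s₀ ∈ O := Finset.mem_filter.2 ⟨Finset.mem_univ _, mem_orbit_self s₀⟩
    have hOs : ∀ (g : G), ∀ s ∈ O, g * s * g⁻¹ ∈ O := by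
      intro g s hs
      refine Finset.mem_filter.2 ⟨Finset.mem_univ _, ?_⟩
      obtain ⟨c, rfl⟩ := (Finset.mem_filter.1 hs).2
      refine ⟨ConjAct.toConjAct g * c, ?_⟩
      show (ConjAct.toConjAct g * c) • s₀ = _
      rw [mul_smul, ConjAct.smul_def (ConjAct.toConjAct g)]
      rfl
    have hcard : O.card * Nat.card (stabilizer (ConjAct G) s₀) = Nat.card G := by
      have h1 := Nat.card_congr (MulAction.orbitEquivQuotientStabilizer (ConjAct G) s₀)
      have h2 : Nat.card (orbit (ConjAct G) s₀) = O.card := by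
        rw [Nat.card_eq_fintype_card, Fintype.card_of_subtype O]
        intro s
        simp [hO]
      rw [← h2, h1, mul_comm]
      have h3 := (stabilizer (ConjAct G) s₀).card_mul_index
      have h4 : Nat.card (ConjAct G) = Nat.card G := rfl
      rw [← h4, ← h3]
      rfl
    have h1 : 2 * Nat.card G ∣ O.card * m := by
      obtain ⟨k, hk⟩ := hm s₀ hs₀
      refine ⟨k, ?_⟩
      rw [hk, ← hcard]
      ring
    have hsd : J \ O ⊂ J := by
      refine Finset.ssubset_iff_subset_ne.2 ⟨Finset.sdiff_subset, ?_⟩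
      intro h
      have : s₀ ∈ J \ O := h.symm ▸ hs₀
      exact (Finset.mem_sdiff.1 this).2 hs₀O
    have h2 := ih _ hsd (by
      intro g s hs
      obtain ⟨h3, h4⟩ := Finset.mem_sdiff.1 hs
      refine Finset.mem_sdiff.2 ⟨hJ _ _ h3, fun h5 => h4 ?_⟩
      have := hOs g⁻¹ _ h5
      simpa [mul_assoc] using this) (fun s hs => hm s (Finset.mem_sdiff.1 hs).1)
    rw [← Finset.card_sdiff_add_card_eq_card hOJ, add_mul]
    exact dvd_add h2 h1

end Main

section Final

variable {T : Subgroup Ω}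

/-- **The Thompson transfer lemma.** -/
theorem not_mem_focal [Finite S] (hS : IsPGroup 2 ↥S) (hF : F.IsSaturated 2) (hTS : T ≤ S) (hT : T.relIndex S = 2)
    {i : Ω} (hi : i ∈ S) (hi2 : orderOf i = 2)
    (h : ∀ j : Ω, F.IsConjElt i j → F.IsFullyNormalized (Subgroup.zpowers j) → j ∉ T) :
    i ∉ F.focalSubgroup := by
  classical
  obtain ⟨X, i1, i2, hX, hm, hn⟩ := exists_transfer hS hF
  haveI : Fintype (OrbI (S := S) X) := Fintype.ofFinite _
  haveI : Fintype X := Fintype.ofFinite _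
  haveI : Fintype ↥S := Fintype.ofFinite _
  let T' : Subgroup ↥S := T.subgroupOf S
  have hT' : T'.index = 2 := hT
  haveI hTn : T'.Normal := Subgroup.normal_of_index_eq_two hT'
  let e : (↥S ⧸ T') ≃* Multiplicative (ZMod 2) :=
    mulEquivOfPrimeCardEq (p := 2) hT' (by simp [Nat.card_eq_fintype_card, ZMod.card])
  let χ : ↥S →* Multiplicative (ZMod 2) := e.toMonoidHom.comp (QuotientGroup.mk' T')
  have hχ1 : ∀ a, χ a = 1 ↔ a ∈ T' := by
    intro a
    have h1 : χ a = e (QuotientGroup.mk' T' a) := rfl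
    rw [h1, map_eq_one_iff e e.injective]
    exact QuotientGroup.eq_one_iff a
  let u : Multiplicative (ZMod 2) := Multiplicative.ofAdd 1
  have hu1 : u ≠ 1 := by decide
  have hu2 : ∀ x : Multiplicative (ZMod 2), x ≠ 1 → x = u := by decide
  have hχ2 : ∀ a, a ∉ T' → χ a = u := fun a ha => hu2 _ (fun h1 => ha ((hχ1 a).1 h1))
  set i' : ↥S := ⟨i, hi⟩ with hi'
  have hord : orderOf (i' : Ω) = 2 := hi2
  have hi'2 : i' * i' = 1 := by
    apply Subtype.ext
    show i * i = 1
    rw [← pow_two, ← hi2, pow_orderOf_eq_one]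
  set L : GX S X := LL S X i' with hL
  have hLL : L * L = 1 := by
    rw [hL, ← map_mul, hi'2, map_one]
  have hbar1 : ∀ ω : OrbI (S := S) X, bar (1 : GX S X) ω = ω := by
    intro ω
    induction ω using Quotient.inductionOn with
    | h x => rfl
  have hbar : ∀ ω, bar L (bar L ω) = ω := by
    intro ω
    rw [← bar_mul, hLL, hbar1]
  have hcc1 : ∀ ω : OrbI (S := S) X, cc (1 : GX S X) ω = 1 := by
    intro ω
    have := cc_mul hX (1 : GX S X) 1 ω
    rw [mul_one, hbar1] at this
    exact left_eq_mul.1 this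
  have hcc : ∀ ω, cc L (bar L ω) * cc L ω = 1 := by
    intro ω
    rw [← cc_mul hX, hLL, hcc1]
  set Fx : Finset (OrbI (S := S) X) := Finset.univ.filter (fun ω => bar L ω = ω) with hFx
  set Et := Fx.filter (fun ω => cc L ω ∈ T') with hEt
  set En := Fx.filter (fun ω => cc L ω ∉ T') with hEn
  have hsum : Et.card + En.card = Fx.card := Finset.card_filter_add_card_filter_not _
  -- the transfer
  have hprod : tr hX χ i' = u ^ En.card := by
    show DD hX χ L = _
    rw [DD_apply, ← Finset.prod_filter_mul_prod_filter_not Finset.univ (fun ω => bar L ω = ω)]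
    have h1 : ∏ ω ∈ Finset.univ.filter (fun ω => ¬ bar L ω = ω), χ (cc L ω) = 1 := by
      refine Finset.prod_involution (fun ω _ => bar L ω) ?_ ?_ ?_ ?_
      · intro ω _
        rw [mul_comm, ← map_mul, hcc, map_one]
      · intro ω hω _
        exact (Finset.mem_filter.1 hω).2
      · intro ω hω
        refine Finset.mem_filter.2 ⟨Finset.mem_univ _, fun h2 => (Finset.mem_filter.1 hω).2 ?_⟩
        rw [hbar] at h2
        exact h2.symm
      · intro ω _
        exact hbar ω
    rw [h1, mul_one, ← hFx, ← Finset.prod_filter_mul_prod_filter_not Fx (fun ω => cc L ω ∈ T'), ← hEt, ← hEn]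
    have h2 : ∏ ω ∈ Et, χ (cc L ω) = 1 :=
      Finset.prod_eq_one (fun ω hω => (hχ1 _).2 (Finset.mem_filter.1 hω).2)
    have h3 : ∏ ω ∈ En, χ (cc L ω) = u ^ En.card := by
      rw [Finset.prod_congr rfl (fun ω hω => hχ2 _ (Finset.mem_filter.1 hω).2), Finset.prod_const]
    rw [h2, h3, one_mul]
  -- the number of fixed points is odd
  have hodd : ¬ 2 ∣ Fx.card := by
    intro hd
    apply hn
    let f : Function.End (OrbI (S := S) X) := fun ω => bar L ω
    have hf : f ^ 2 ^ 1 = 1 := by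
      rw [pow_one, pow_two]
      funext ω
      show bar L (bar L ω) = ω
      exact hbar ω
    have h1 := Equiv.Perm.card_fixedPoints_modEq (p := 2) (n := 1) hf
    rw [Fintype.card_of_subtype Fx (fun ω => by
      simp only [hFx, Finset.mem_filter, Finset.mem_univ, true_and]
      exact Iff.rfl)] at h1
    rw [Nat.card_eq_fintype_card]
    exact Nat.modEq_zero_iff_dvd.1 (h1.trans (Nat.modEq_zero_iff_dvd.2 hd))
  -- the fully normalized conjugate
  have hzi : Subgroup.zpowers i ≤ S := (Subgroup.zpowers_le).2 hi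
  obtain ⟨Q, hQ, hQn⟩ := exists_fullyNormalized_conj (F := F) hzi
  obtain ⟨f₀, hf₀, hf₀Q⟩ := (Cfsg.Agent.Lib.FusionCore.isConj_iff).1 hQ
  rw [img_zpowers hf₀] at hf₀Q
  set z' : ↥S := ⟨f₀ i, hf₀.mem (Subgroup.mem_zpowers i)⟩ with hz'
  have hz'rel : FRel F i' z' := ⟨_, f₀, hf₀, Subgroup.mem_zpowers i, rfl⟩
  have hzn : F.IsFullyNormalized (Subgroup.zpowers (z' : Ω)) := by
    have : Subgroup.zpowers (z' : Ω) = Q := hf₀Q
    rw [this]
    exact hQn
  set m := Nat.card {x : X // ((i', z') : Gam S) • x = x} with hm'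
  set W : Finset ↥S := Finset.univ.filter (fun s => s ∈ T' ∧ FRel F i' s) with hW
  have hord2 : ∀ s : ↥S, FRel F i' s → orderOf (s : Ω) = 2 := by
    intro s hs
    have h1 := hs.orderOf_eq
    rw [← Subgroup.orderOf_coe, ← Subgroup.orderOf_coe] at h1
    rw [← h1]
    exact hord
  have hlt : ∀ s ∈ W, Nat.card (stabilizer (ConjAct ↥S) s) < Nat.card (stabilizer (ConjAct ↥S) z') := by
    intro s hs
    obtain ⟨-, hs1, hs2⟩ := Finset.mem_filter.1 hs
    rw [← card_normalizerIn_zpowers (hord2 s hs2), ← card_normalizerIn_zpowers (hord2 z' hz'rel)]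
    have hc : F.IsConj (Subgroup.zpowers (s : Ω)) (Subgroup.zpowers (z' : Ω)) :=
      IsConj_trans (IsConj_symm (FRel.isConj_zpowers hs2)) (FRel.isConj_zpowers hz'rel)
    have hle := hzn.2 _ (IsConj_symm hc)
    refine lt_of_le_of_ne hle (fun heq => ?_)
    have hfn : F.IsFullyNormalized (Subgroup.zpowers (s : Ω)) := by
      refine ⟨(Subgroup.zpowers_le).2 s.2, fun R hR => ?_⟩
      rw [heq]
      exact hzn.2 _ (IsConj_trans (IsConj_symm hc) hR)
    exact h s (frel_iff_conjElt.1 hs2) hfn hs1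
  have hdvd : ∀ s ∈ W, 2 * Nat.card (stabilizer (ConjAct ↥S) s) ∣ m := by
    intro s hs
    refine dvd_trans ?_ (stab_dvd hX i' z')
    have h1 : IsPGroup 2 (ConjAct ↥S) := hS
    obtain ⟨a, ha⟩ := IsPGroup.iff_card.1 (h1.to_subgroup (stabilizer (ConjAct ↥S) s))
    obtain ⟨b, hb⟩ := IsPGroup.iff_card.1 (h1.to_subgroup (stabilizer (ConjAct ↥S) z'))
    have h2 := hlt s hs
    rw [ha, hb] at h2 ⊢
    have h3 : a < b := (Nat.pow_lt_pow_iff_right (by norm_num)).1 h2
    rw [← pow_succ']
    exact pow_dvd_pow 2 h3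
  have hWs : ∀ (g : ↥S), ∀ s ∈ W, g * s * g⁻¹ ∈ W := by
    intro g s hs
    obtain ⟨-, hs1, hs2⟩ := Finset.mem_filter.1 hs
    exact Finset.mem_filter.2 ⟨Finset.mem_univ _, hTn.conj_mem _ hs1 g, FRel.conj hs2 g⟩
  have hcl := class_sum m W hWs hdvd
  -- the double count
  set Y : Finset X := Finset.univ.filter (fun x => ∃ s ∈ T', ((i', s) : Gam S) • x = x) with hY
  have hY1 : Y.card = Et.card * Nat.card S := by
    have h1 := card_preimage hX (F := F) (X := X) (Et : Set (OrbI (S := S) X))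
    have h2 : Nat.card {x : X // Quotient.mk (rset (S := S) X) x ∈ (Et : Set (OrbI (S := S) X))} = Y.card := by
      rw [Nat.card_eq_fintype_card]
      refine Fintype.card_of_subtype Y (fun x => ?_)
      obtain ⟨ω, a, rfl, -⟩ := exists_rm (S := S) x
      simp only [Finset.mem_coe]
      rw [mk_rm, mk_sig]
      simp only [hY, Finset.mem_filter, Finset.mem_univ, true_and]
      constructor
      · rintro ⟨s, hs, hsx⟩
        obtain ⟨h3, h4⟩ := (pair_fix_iff hX i' s a ω).1 hsx
        refine Finset.mem_filter.2 ⟨Finset.mem_filter.2 ⟨Finset.mem_univ _, h3⟩, ?_⟩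
        have h5 : cc L ω = a * s * a⁻¹ := by
          rw [h4]
          group
          rfl
        rw [h5]
        exact hTn.conj_mem _ hs a
      · intro hω
        obtain ⟨h3, h4⟩ := Finset.mem_filter.1 hω
        have h5 := (Finset.mem_filter.1 h3).2
        refine ⟨a⁻¹ * cc L ω * a, ?_, (pair_fix_iff hX i' _ a ω).2 ⟨h5, rfl⟩⟩
        have := hTn.conj_mem _ h4 a⁻¹
        simpa using this
    rw [h2] at h1
    have h3 : Et.card = Nat.card (Et : Set (OrbI (S := S) X)) := by
      simp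
    rw [h1, h3]
  have hY2 : Y.card = W.card * m := by
    have h1 : Y = W.biUnion (fun s => Finset.univ.filter (fun x : X => ((i', s) : Gam S) • x = x)) := by
      ext x
      simp only [hY, Finset.mem_filter, Finset.mem_univ, true_and, Finset.mem_biUnion]
      constructor
      · rintro ⟨s, hs, hsx⟩
        refine ⟨s, Finset.mem_filter.2 ⟨Finset.mem_univ _, hs, ?_⟩, hsx⟩
        exact stab_maps hX x i' s hsx
      · rintro ⟨s, hs, hsx⟩
        exact ⟨s, (Finset.mem_filter.1 hs).2.1, hsx⟩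
    rw [h1, Finset.card_biUnion]
    · rw [Finset.sum_congr rfl (g := fun _ => m)]
      · simp
      · intro s hs
        rw [hm', ← card_fixPair hX hm (Finset.mem_filter.1 hs).2.2 hz'rel, Nat.card_eq_fintype_card,
          Fintype.card_subtype]
    · intro s _ s' _ hne
      rw [Function.onFun, Finset.disjoint_left]
      intro x hx hx'
      apply hne
      have e1 := (Finset.mem_filter.1 hx).2
      have e2 := (Finset.mem_filter.1 hx').2
      obtain ⟨P, f, hg⟩ := hX x
      have h3 := ((hg.mem _ _).1 (mem_stabilizer_iff.2 e1)).2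
      have h4 := ((hg.mem _ _).1 (mem_stabilizer_iff.2 e2)).2
      exact Subtype.ext (h3.trans h4.symm)
  have heven : 2 ∣ Et.card := by
    have h1 : 2 * Nat.card S ∣ Et.card * Nat.card S := by
      rw [← hY1, hY2]
      exact hcl
    exact Nat.dvd_of_mul_dvd_mul_right Nat.card_pos h1
  intro hfoc
  have h1 := tr_focal hX hm χ hfoc hi
  have h2 : tr hX χ i' = 1 := h1
  rw [hprod] at h2
  -- `En` is odd
  have hoddE : Odd En.card := by
    rw [← Nat.not_even_iff_odd]
    intro hev
    apply hodd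
    rw [← hsum]
    exact dvd_add heven hev.two_dvd
  obtain ⟨k, hk⟩ := hoddE
  rw [hk, pow_succ, pow_mul] at h2
  have hu3 : u ^ 2 = 1 := by decide
  rw [hu3, one_pow, one_mul] at h2
  exact hu1 h2

end Final

end Cfsg.Agent.Lib.FusionThompsonTrf
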