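import Mathlib
import Cfsg.Prelude.Def_FusionSystem
import Cfsg.Prelude.Def_CaseTheorems
import Cfsg.Agent.Lib.PCore
import Cfsg.Agent.Lib.ZStar
import Cfsg.Agent.Lib.ZStarKey

/-!
# The centre of the `2`-fusion system of a finite group

`Z(F_S(G))` is the preimage in `S` of the centre of `G / O(G)`: the fusion version of
Glauberman's `Z*`-theorem.
-/

set_option autoImplicit false
set_option linter.unusedSectionVars false

namespace Cfsg.Agent.Lib.FusionZStar

open Cfsg Cfsg.Agent.Lib Cfsg.Agent.Lib.PCore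
open scoped Pointwise

universe u

variable {G : Type u} [Group G] [Finite G]

/-- A `2`-subgroup of `S N`, `N` normal of odd order, is conjugate into `S` by an element of `N`. -/
theorem exists_conj_into (S : Sylow 2 G) {N : Subgroup G} [N.Normal]
    {R : Subgroup G} (hR : IsPGroup 2 R) (hRS : R ≤ (S : Subgroup G) ⊔ N) :
    ∃ n ∈ N, ∀ x ∈ R, n * x * n⁻¹ ∈ (S : Subgroup G) := by
  classical
  set T : Subgroup G := (S : Subgroup G) ⊔ N with hT
  have hST : (S : Subgroup G) ≤ T := le_sup_left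
  have : Fact (Nat.Prime 2) := ⟨Nat.prime_two⟩
  -- the Sylow subgroup `S` inside `T`
  let S₀ : Sylow 2 T := S.subtype hST
  have hS₀ : ∀ t : T, t ∈ (S₀ : Subgroup T) ↔ (t : G) ∈ (S : Subgroup G) := by
    intro t
    exact Iff.rfl
  -- `R` as a subgroup of `T`
  have hR' : IsPGroup 2 (R.subgroupOf T) := hR.comap_of_injective T.subtype T.subtype_injective
  obtain ⟨P, hP⟩ := hR'.exists_le_sylow
  obtain ⟨t, ht⟩ := MulAction.exists_smul_eq T P S₀
  have hmem : ∀ x ∈ R, (t : G) * x * (t : G)⁻¹ ∈ (S : Subgroup G) := by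
    intro x hx
    have hxT : x ∈ T := hRS hx
    have h1 : (⟨x, hxT⟩ : T) ∈ (P : Subgroup T) := hP (by simpa [Subgroup.mem_subgroupOf] using hx)
    have h2 : t * ⟨x, hxT⟩ * t⁻¹ ∈ (S₀ : Subgroup T) := by
      rw [← ht, Sylow.coe_subgroup_smul, Subgroup.mem_pointwise_smul_iff_inv_smul_mem]
      simpa [MulAut.smul_def, mul_assoc] using h1
    simpa using (hS₀ _).1 h2
  -- split `t = s n`
  have htmem : (t : G) ∈ ((S : Subgroup G) : Set G) * (N : Set G) := by
    rw [← Subgroup.mul_normal]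
    exact t.2
  obtain ⟨s, hs, n, hn, hsn⟩ := Set.mem_mul.1 htmem
  refine ⟨n, hn, fun x hx => ?_⟩
  have := hmem x hx
  rw [← hsn] at this
  have h3 : s⁻¹ * (s * n * x * (s * n)⁻¹) * s ∈ (S : Subgroup G) :=
    S.1.mul_mem (S.1.mul_mem (S.1.inv_mem hs) this) hs
  have h4 : s⁻¹ * (s * n * x * (s * n)⁻¹) * s = n * x * n⁻¹ := by group
  rwa [h4] at h3

/-- A `2`-group and a group of odd order intersect trivially (element form). -/
theorem eq_one_of_mem_sylow_of_mem_core (S : Sylow 2 G) {x : G} (h1 : x ∈ (S : Subgroup G))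
    (h2 : x ∈ pPrimeCore 2 G) : x = 1 := by
  classical
  have : Fact (Nat.Prime 2) := ⟨Nat.prime_two⟩
  have hd1 : orderOf x ∣ Nat.card (S : Subgroup G) := by
    have := Subgroup.orderOf_dvd_natCard (S : Subgroup G) h1
    exact this
  have hd2 : orderOf x ∣ Nat.card (pPrimeCore 2 G) := Subgroup.orderOf_dvd_natCard _ h2
  obtain ⟨k, hk⟩ := IsPGroup.iff_card.1 S.isPGroup'
  have hc := card_pPrimeCore_coprime (G := G) 2
  have hcop : Nat.Coprime (orderOf x) 2 := Nat.Coprime.coprime_dvd_left hd2 hc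
  have hpow : orderOf x ∣ 2 ^ k := hk ▸ hd1
  have : orderOf x = 1 := by
    have h3 : Nat.Coprime (orderOf x) (2 ^ k) := Nat.Coprime.pow_right k hcop
    exact Nat.Coprime.eq_one_of_dvd h3 hpow
  exact orderOf_eq_one_iff.1 this

/-- Elements of a subgroup of a `2`-group have `2`-power order; their conjugates generate
a `2`-group. -/
theorem isPGroup_zpowers_conj (S : Sylow 2 G) {y : G} (hy : y ∈ (S : Subgroup G)) (g : G) :
    IsPGroup 2 (Subgroup.zpowers (g * y * g⁻¹)) := by
  have : Fact (Nat.Prime 2) := ⟨Nat.prime_two⟩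
  obtain ⟨k, hk⟩ := (IsPGroup.iff_orderOf.1 S.isPGroup') ⟨y, hy⟩
  rw [Subgroup.orderOf_mk] at hk
  have h1 : orderOf (g * y * g⁻¹) = orderOf y := (MulAut.conj g).orderOf_eq y
  apply IsPGroup.of_card (n := k)
  rw [Nat.card_zpowers, h1, hk]

/-- If `g y g⁻¹ ∈ S N`, then a conjugate by `N` puts it inside `S`. -/
theorem exists_conj_elt (S : Sylow 2 G) {N : Subgroup G} [N.Normal] {y g : G}
    (hy : y ∈ (S : Subgroup G)) (hmem : g * y * g⁻¹ ∈ (S : Subgroup G) ⊔ N) :
    ∃ n ∈ N, (n * g) * y * (n * g)⁻¹ ∈ (S : Subgroup G) := by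
  obtain ⟨n, hn, h⟩ := exists_conj_into S (isPGroup_zpowers_conj S hy g)
    (R := Subgroup.zpowers (g * y * g⁻¹)) (by rwa [Subgroup.zpowers_le])
  refine ⟨n, hn, ?_⟩
  have := h _ (Subgroup.mem_zpowers _)
  have h2 : n * g * y * (n * g)⁻¹ = n * (g * y * g⁻¹) * n⁻¹ := by group
  rwa [h2]

/-- `Q` is pointwise isolated with respect to `S`. -/
def IsoOn (S Q : Subgroup G) : Prop := ∀ y ∈ Q, ∀ g : G, g * y * g⁻¹ ∈ S → g * y * g⁻¹ = y

/-- An element of `IsoOn`, of order `2`, is an isolated involution. -/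
theorem isIsolatedInvolution_of_isoOn (S : Sylow 2 G) {Q : Subgroup G} (hQ : IsoOn (S : Subgroup G) Q)
    {u : G} (hu : u ∈ Q) (hu2 : orderOf u = 2) : IsIsolatedInvolution u := by
  classical
  have : Fact (Nat.Prime 2) := ⟨Nat.prime_two⟩
  refine ⟨hu2, fun g hcomm => ?_⟩
  have huu : u * u = 1 := by rw [← sq, ← hu2, pow_orderOf_eq_one]
  set v := g * u * g⁻¹ with hv
  have hvv : v * v = 1 := by
    rw [hv]
    have : g * u * g⁻¹ * (g * u * g⁻¹) = g * (u * u) * g⁻¹ := by group
    rw [this, huu]; group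
  have hp := ZStarKey.isPGroup_closure_pair huu hvv hcomm.eq
  obtain ⟨P, hP⟩ := hp.exists_le_sylow
  obtain ⟨h, hh⟩ := MulAction.exists_smul_eq G P S
  have hconj : ∀ x ∈ Subgroup.closure ({u, v} : Set G), h * x * h⁻¹ ∈ (S : Subgroup G) := by
    intro x hx
    rw [← hh, Sylow.coe_subgroup_smul, Subgroup.mem_pointwise_smul_iff_inv_smul_mem]
    have := hP hx
    simpa [MulAut.smul_def, mul_assoc] using this
  have h1 := hconj u (Subgroup.subset_closure (by simp))
  have h2 := hconj v (Subgroup.subset_closure (by simp))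
  have h3 := hQ u hu h h1
  have h4 : (h * g) * u * (h * g)⁻¹ = u := by
    apply hQ u hu
    have : h * g * u * (h * g)⁻¹ = h * v * h⁻¹ := by rw [hv]; group
    rwa [this]
  have h5 : h * v * h⁻¹ = h * u * h⁻¹ := by
    have : h * v * h⁻¹ = (h * g) * u * (h * g)⁻¹ := by rw [hv]; group
    rw [this, h4, h3]
  have h6 : v = u := by
    have := mul_left_cancel (mul_right_cancel h5)
    exact this
  exact h6

/-- Let `Z` be a normal subgroup of order `2` of a group with `O(G) = 1`.  Then `O(G / Z) = 1`. -/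
theorem comap_core_le (Z : Subgroup G) [Z.Normal] (hZ : Nat.card Z = 2)
    (hcore : pPrimeCore 2 G = ⊥) :
    (pPrimeCore 2 (G ⧸ Z)).comap (QuotientGroup.mk' Z) ≤ Z := by
  classical
  set R : Subgroup G := (pPrimeCore 2 (G ⧸ Z)).comap (QuotientGroup.mk' Z) with hR
  have hRn : R.Normal := Subgroup.Normal.comap inferInstance _
  have hZR : Z ≤ R := by
    intro z hz
    rw [hR, Subgroup.mem_comap, (QuotientGroup.eq_one_iff z).2 hz |> fun h => (by exact h :
      QuotientGroup.mk' Z z = 1)]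
    exact Subgroup.one_mem _
  let Z' : Subgroup R := Z.subgroupOf R
  have hZ'n : Z'.Normal := Subgroup.Normal.subgroupOf inferInstance R
  have hZ'card : Nat.card Z' = 2 := by
    rw [← hZ]
    exact Nat.card_congr (Subgroup.subgroupOfEquivOfLe hZR).toEquiv
  let f : R →* G ⧸ Z := (QuotientGroup.mk' Z).comp R.subtype
  have hfker : f.ker = Z' := by
    ext x
    simp [f, Z', MonoidHom.mem_ker, Subgroup.mem_subgroupOf]
  have hfrange : f.range = pPrimeCore 2 (G ⧸ Z) := by
    ext y
    constructor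
    · rintro ⟨x, rfl⟩
      exact x.2
    · intro hy
      obtain ⟨g, rfl⟩ := QuotientGroup.mk'_surjective Z y
      exact ⟨⟨g, hy⟩, rfl⟩
  have hindex : Z'.index = Nat.card (pPrimeCore 2 (G ⧸ Z)) := by
    rw [← hfker, Subgroup.index_ker, hfrange]
  have hodd : (Nat.card (pPrimeCore 2 (G ⧸ Z))).Coprime 2 := card_pPrimeCore_coprime 2
  have hcop : (Nat.card Z').Coprime Z'.index := by
    rw [hZ'card, hindex]
    exact hodd.symm
  obtain ⟨K, hK⟩ := Subgroup.exists_right_complement'_of_coprime hcop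
  have hKcard : Nat.card K = Z'.index := by
    have h1 := hK.card_mul_card
    have h2 := Subgroup.card_mul_index Z'
    have hpos : 0 < Nat.card Z' := Nat.card_pos
    exact Nat.eq_of_mul_eq_mul_left hpos (h1.trans h2.symm)
  have hKindex : K.index = 2 := by
    have h1 := hK.card_mul_card
    have h2 := Subgroup.card_mul_index K
    have hpos : 0 < Nat.card K := Nat.card_pos
    rw [← hZ'card]
    apply Nat.eq_of_mul_eq_mul_left hpos
    rw [h2, ← h1, mul_comm]
  have hKn : K.Normal := Subgroup.normal_of_index_eq_two hKindex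
  have hKodd : (Nat.card K).Coprime 2 := by rw [hKcard, hindex]; exact hodd
  have hKle : K ≤ pPrimeCore 2 R := le_pPrimeCore hKn hKodd
  have hcoreR : pPrimeCore 2 R = ⊥ := by
    have h1 := map_pPrimeCore_of_normal (G := G) 2 R
    rw [hcore, inf_bot_eq] at h1
    exact (Subgroup.map_eq_bot_iff_of_injective _ R.subtype_injective).1 h1
  have hKbot : K = ⊥ := by
    rw [hcoreR] at hKle
    exact le_bot_iff.1 hKle
  have hindex1 : Z'.index = 1 := by
    rw [← hKcard, hKbot]
    simp
  have htop : Z' = ⊤ := Subgroup.index_eq_one.1 hindex1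
  intro x hx
  have : (⟨x, hx⟩ : R) ∈ Z' := by rw [htop]; trivial
  exact this

/-- The main induction: a subgroup `Q ≤ S` isolated in `S` is central modulo `O(G)`. -/
theorem main_aux : ∀ (n : ℕ) {G : Type u} [Group G] [Finite G], Nat.card G = n →
    ∀ (S : Sylow 2 G) (Q : Subgroup G), Q ≤ (S : Subgroup G) → IsoOn (S : Subgroup G) Q →
    ∀ y ∈ Q, ∀ g : G, g * y * g⁻¹ * y⁻¹ ∈ pPrimeCore 2 G := by
  intro n
  induction n using Nat.strong_induction_on with
  | _ n IH =>
    intro G _ _ hcard S Q hQS hiso y hy g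
    classical
    have hp2 : Fact (Nat.Prime 2) := ⟨Nat.prime_two⟩
    -- a quotient by a nontrivial normal subgroup is smaller
    have hlt : ∀ (N : Subgroup G) [N.Normal], N ≠ ⊥ → Nat.card (G ⧸ N) < n := by
      intro N _ hne
      have h1 : 1 < Nat.card N := Subgroup.one_lt_card_iff_ne_bot N |>.2 hne
      have h2 := Subgroup.card_mul_index N
      have h3 : 0 < N.index := Nat.pos_of_ne_zero Subgroup.index_ne_zero_of_finite
      rw [← Subgroup.index_eq_card, ← hcard, ← h2]
      nlinarith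
    have hmem_map : ∀ (N : Subgroup G) [N.Normal] {x : G},
        (x : G ⧸ N) ∈ (((S.mapSurjective (QuotientGroup.mk'_surjective N)) : Sylow 2 (G ⧸ N)) :
          Subgroup (G ⧸ N)) → x ∈ (S : Subgroup G) ⊔ N := by
      intro N _ x hx
      rw [Sylow.coe_mapSurjective] at hx
      obtain ⟨s, hs, hsx⟩ := hx
      have h1 : s⁻¹ * x ∈ N := QuotientGroup.eq.1 hsx
      have h2 : x = s * (s⁻¹ * x) := by group
      rw [h2]
      exact Subgroup.mul_mem _ (Subgroup.mem_sup_left hs) (Subgroup.mem_sup_right h1)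
    by_cases hN : pPrimeCore 2 G = ⊥
    · -- trivial odd core
      by_cases hQ : Q = ⊥
      · subst hQ
        have : y = 1 := by simpa using hy
        subst this
        simp
      -- an involution of `Q`
      have hQcard : (Nat.card Q) ≠ 1 := by
        intro h1
        exact hQ (Subgroup.card_eq_one.1 h1)
      have hQp : IsPGroup 2 Q := S.isPGroup'.to_le hQS
      have h2dvd : 2 ∣ Nat.card Q := by
        obtain ⟨k, hk⟩ := IsPGroup.iff_card.1 hQp
        rw [hk]
        refine dvd_pow_self 2 ?_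
        rintro rfl
        exact hQcard (by simpa using hk)
      obtain ⟨u', hu'⟩ := exists_prime_orderOf_dvd_card' (G := Q) 2 h2dvd
      have huo : orderOf (u' : G) = 2 := by rw [Subgroup.orderOf_coe]; exact hu'
      have hI : IsIsolatedInvolution (u' : G) := isIsolatedInvolution_of_isoOn S hiso u'.2 huo
      have hZs : InZStar 2 (u' : G) := ZStar.zstar hI
      have hcent : ∀ g : G, g * (u' : G) * g⁻¹ = u' := by
        intro g
        have h1 := hZs g
        rw [hN, Subgroup.mem_bot] at h1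
        exact mul_inv_eq_one.1 h1
      set Z : Subgroup G := Subgroup.zpowers (u' : G) with hZdef
      have hZn : Z.Normal := by
        constructor
        intro z hz g
        obtain ⟨k, rfl⟩ := hz
        show g * (u' : G) ^ k * g⁻¹ ∈ Z
        have : g * (u' : G) ^ k * g⁻¹ = (g * (u' : G) * g⁻¹) ^ k := by
          rw [conj_zpow]
        rw [this, hcent g]
        exact Subgroup.zpow_mem_zpowers _ _
      have hZcard : Nat.card Z = 2 := by rw [hZdef, Nat.card_zpowers, huo]
      have hZne : Z ≠ ⊥ := by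
        intro h
        rw [h] at hZcard
        simp at hZcard
      have hZS : Z ≤ (S : Subgroup G) := by
        rw [hZdef, Subgroup.zpowers_le]
        exact hQS u'.2
      -- induction in `G / Z`
      have hsup : (S : Subgroup G) ⊔ Z = S := sup_eq_left.2 hZS
      have hIH := IH _ (hlt Z hZne) rfl (S.mapSurjective (QuotientGroup.mk'_surjective Z))
        (Q.map (QuotientGroup.mk' Z)) (by
          rw [Sylow.coe_mapSurjective]
          exact Subgroup.map_mono hQS) (by
          rintro y' ⟨y₀, hy₀, rfl⟩ g' hg'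
          obtain ⟨g₀, rfl⟩ := QuotientGroup.mk'_surjective Z g'
          have h1 : g₀ * y₀ * g₀⁻¹ ∈ (S : Subgroup G) := by
            rw [← hsup]
            apply hmem_map Z
            simpa using hg'
          have h2 := hiso y₀ hy₀ g₀ h1
          have h3 : QuotientGroup.mk' Z g₀ * QuotientGroup.mk' Z y₀ * (QuotientGroup.mk' Z g₀)⁻¹
              = QuotientGroup.mk' Z (g₀ * y₀ * g₀⁻¹) := by simp
          rw [h3, h2]) (QuotientGroup.mk' Z y) ⟨y, hy, rfl⟩ (QuotientGroup.mk' Z g)
      have h1 : g * y * g⁻¹ * y⁻¹ ∈ Z := by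
        apply comap_core_le Z hZcard hN
        rw [Subgroup.mem_comap]
        simpa using hIH
      have h2 : g * y * g⁻¹ ∈ (S : Subgroup G) := by
        have : g * y * g⁻¹ = (g * y * g⁻¹ * y⁻¹) * y := by group
        rw [this]
        exact Subgroup.mul_mem _ (hZS h1) (hQS hy)
      rw [hiso y hy g h2]
      simp
    · -- nontrivial odd core
      set N := pPrimeCore 2 G with hNdef
      have hIH := IH _ (hlt N hN) rfl (S.mapSurjective (QuotientGroup.mk'_surjective N))
        (Q.map (QuotientGroup.mk' N)) (by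
          rw [Sylow.coe_mapSurjective]
          exact Subgroup.map_mono hQS) (by
          rintro y' ⟨y₀, hy₀, rfl⟩ g' hg'
          obtain ⟨g₀, rfl⟩ := QuotientGroup.mk'_surjective N g'
          have h1 : g₀ * y₀ * g₀⁻¹ ∈ (S : Subgroup G) ⊔ N := by
            apply hmem_map N
            simpa using hg'
          obtain ⟨k, hk, hkS⟩ := exists_conj_elt S (hQS hy₀) h1
          have h2 := hiso y₀ hy₀ _ hkS
          have hk1 : QuotientGroup.mk' N k = 1 := (QuotientGroup.eq_one_iff k).2 hk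
          have h3 : QuotientGroup.mk' N g₀ * QuotientGroup.mk' N y₀ * (QuotientGroup.mk' N g₀)⁻¹
              = QuotientGroup.mk' N (k * g₀ * y₀ * (k * g₀)⁻¹) := by
            simp only [map_mul, map_inv, hk1]
            group
          rw [h3, h2]) (QuotientGroup.mk' N y) ⟨y, hy, rfl⟩ (QuotientGroup.mk' N g)
      rw [pPrimeCore_quotient_pPrimeCore, Subgroup.mem_bot] at hIH
      have : (QuotientGroup.mk' N) (g * y * g⁻¹ * y⁻¹) = 1 := by
        simpa using hIH
      exact (QuotientGroup.eq_one_iff _).1 this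

/-- The centre of the fusion system of `G` on `S`, for a Sylow `2`-subgroup `S`, is the set of
elements of `S` central modulo `O(G)`. -/
theorem center_groupFusionSystem (S : Sylow 2 G) :
    (Cfsg.groupFusionSystem (S : Subgroup G)).center =
      (S : Subgroup G) ⊓ (Subgroup.center (G ⧸ Cfsg.oddCore G)).comap
        (QuotientGroup.mk' (Cfsg.oddCore G)) := by
  classical
  have hp2 : Fact (Nat.Prime 2) := ⟨Nat.prime_two⟩
  set N := Cfsg.oddCore G with hNdef
  apply le_antisymm
  · -- `≤`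
    refine sSup_le ?_
    rintro Q ⟨hQS, hQ⟩
    refine le_inf hQS ?_
    intro y hy
    have hiso : IsoOn (S : Subgroup G) Q := by
      intro y hy g hg
      have hzS : Subgroup.zpowers y ≤ (S : Subgroup G) := by
        rw [Subgroup.zpowers_le]; exact hQS hy
      have hφ : Cfsg.conjHom (Subgroup.zpowers y) g ∈
          (Cfsg.groupFusionSystem (S : Subgroup G)).Hom (Subgroup.zpowers y) := by
        refine ⟨hzS, ?_, g, fun x => rfl⟩
        rintro ⟨x, k, rfl⟩
        show g * y ^ k * g⁻¹ ∈ (S : Subgroup G)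
        rw [show g * y ^ k * g⁻¹ = (g * y * g⁻¹) ^ k from by rw [conj_zpow]]
        exact Subgroup.zpow_mem _ hg _
      obtain ⟨ψ, -, h1, h2⟩ := hQ _ _ hφ
      have h3 := h1 ⟨y, Subgroup.mem_zpowers y⟩
      have h4 := h2 ⟨y, hy⟩
      have h5 : Subgroup.inclusion (le_sup_left : Subgroup.zpowers y ≤ Subgroup.zpowers y ⊔ Q)
            ⟨y, Subgroup.mem_zpowers y⟩ =
          Subgroup.inclusion (le_sup_right : Q ≤ Subgroup.zpowers y ⊔ Q) ⟨y, hy⟩ := rfl
      rw [h5, h4] at h3
      exact h3.symm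
    rw [Subgroup.mem_comap, Subgroup.mem_center_iff]
    intro g'
    obtain ⟨g, rfl⟩ := QuotientGroup.mk'_surjective N g'
    have h1 := main_aux _ rfl S Q hQS hiso y hy g
    have h2 : QuotientGroup.mk' N (g * y * g⁻¹ * y⁻¹) = 1 := (QuotientGroup.eq_one_iff _).2 h1
    simp only [map_mul, map_inv] at h2
    have h3 : QuotientGroup.mk' N g * QuotientGroup.mk' N y * (QuotientGroup.mk' N g)⁻¹ =
        QuotientGroup.mk' N y := mul_inv_eq_one.1 h2
    exact mul_inv_eq_iff_eq_mul.1 h3
  · -- `≥`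
    refine le_sSup ?_
    set Q₀ : Subgroup G := (S : Subgroup G) ⊓ (Subgroup.center (G ⧸ N)).comap (QuotientGroup.mk' N)
      with hQ₀
    have hQ₀S : Q₀ ≤ (S : Subgroup G) := inf_le_left
    have hcomm : ∀ q ∈ Q₀, ∀ g : G, g * q * g⁻¹ * q⁻¹ ∈ N := by
      intro q hq g
      have h1 : QuotientGroup.mk' N q ∈ Subgroup.center (G ⧸ N) := hq.2
      rw [Subgroup.mem_center_iff] at h1
      have h2 := h1 (QuotientGroup.mk' N g)
      apply (QuotientGroup.eq_one_iff _).1
      show QuotientGroup.mk' N _ = 1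
      simp only [map_mul, map_inv]
      rw [h2]
      group
    refine ⟨hQ₀S, ?_⟩
    rintro P φ ⟨hPS, hφS, g, hg⟩
    -- the image of `P ⊔ Q₀` under conjugation by `g` lies in `S N`
    set R : Subgroup G := (P ⊔ Q₀).map (MulAut.conj g).toMonoidHom with hR
    have hRp : IsPGroup 2 R := by
      have h0 : IsPGroup 2 (P ⊔ Q₀ : Subgroup G) := S.isPGroup'.to_le (sup_le hPS hQ₀S)
      exact h0.map _
    have hRT : R ≤ (S : Subgroup G) ⊔ N := by
      rw [hR, Subgroup.map_le_iff_le_comap]
      refine sup_le ?_ ?_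
      · intro x hx
        have := hφS ⟨x, hx⟩
        rw [hg] at this
        exact Subgroup.mem_sup_left this
      · intro q hq
        show g * q * g⁻¹ ∈ (S : Subgroup G) ⊔ N
        have h1 : g * q * g⁻¹ = q * (q⁻¹ * (g * q * g⁻¹ * q⁻¹) * q) := by group
        rw [h1]
        refine Subgroup.mul_mem _ (Subgroup.mem_sup_left (hQ₀S hq)) (Subgroup.mem_sup_right ?_)
        exact (inferInstance : N.Normal).conj_mem' _ (hcomm q hq g) _
    obtain ⟨n, hn, hnS⟩ := exists_conj_into S hRp hRT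
    have hmemS : ∀ x ∈ P ⊔ Q₀, (n * g) * x * (n * g)⁻¹ ∈ (S : Subgroup G) := by
      intro x hx
      have := hnS (g * x * g⁻¹) ⟨x, hx, rfl⟩
      have h2 : (n * g) * x * (n * g)⁻¹ = n * (g * x * g⁻¹) * n⁻¹ := by group
      rwa [h2]
    refine ⟨Cfsg.conjHom (P ⊔ Q₀) (n * g), ⟨sup_le hPS hQ₀S, fun x => hmemS x x.2, n * g, fun x => rfl⟩,
      ?_, ?_⟩
    · -- agrees with `φ` on `P`
      intro x
      show (n * g) * (x : G) * (n * g)⁻¹ = φ x
      rw [hg]
      have ha := hφS x
      rw [hg] at ha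
      have hb := hmemS x (Subgroup.mem_sup_left x.2)
      set a := g * (x : G) * g⁻¹ with hadef
      have h2 : (n * g) * (x : G) * (n * g)⁻¹ = n * a * n⁻¹ := by rw [hadef]; group
      rw [h2] at hb ⊢
      have h3 : n * a * n⁻¹ * a⁻¹ ∈ (S : Subgroup G) := Subgroup.mul_mem _ hb (Subgroup.inv_mem _ ha)
      have h4 : n * a * n⁻¹ * a⁻¹ ∈ pPrimeCore 2 G := by
        have h5 : n * a * n⁻¹ * a⁻¹ = n * (a * n⁻¹ * a⁻¹) := by group
        rw [h5]
        refine Subgroup.mul_mem _ hn ?_
        have h6 := (inferInstance : (pPrimeCore 2 G).Normal).conj_mem _ (Subgroup.inv_mem _ hn) a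
        exact h6
      exact mul_inv_eq_one.1 (eq_one_of_mem_sylow_of_mem_core S h3 h4)
    · -- fixes `Q₀`
      intro q
      show (n * g) * (q : G) * (n * g)⁻¹ = q
      have hb := hmemS q (Subgroup.mem_sup_right q.2)
      have h3 : (n * g) * (q : G) * (n * g)⁻¹ * (q : G)⁻¹ ∈ (S : Subgroup G) :=
        Subgroup.mul_mem _ hb (Subgroup.inv_mem _ (hQ₀S q.2))
      exact mul_inv_eq_one.1 (eq_one_of_mem_sylow_of_mem_core S h3 (hcomm q q.2 _))

end Cfsg.Agent.Lib.FusionZStar
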