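import Cfsg.Agent.Lib.G24Rel

/-!
# `G₂(4)` on the six-dimensional module

The group acts on the trace-zero octonions modulo the scalars; an element of odd prime order with a
nonzero fixed vector there fixes a singular octonion, and counting fixed points shows that its
order is `3` or `5`.
-/

set_option autoImplicit false
set_option linter.unusedSectionVars false
set_option linter.unusedSimpArgs false

namespace Cfsg.Agent.Lib.G24Act

open Cfsg Cfsg.Lie Matrix Module
open Cfsg.Agent.Lib.F4K Cfsg.Agent.Lib.G24Data Cfsg.Agent.Lib.ZornAlg Cfsg.Agent.Lib.G24Rel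
open scoped MatrixGroups

lemma two_eq : (2 : K4) = 0 := by decide +kernel

lemma neg_eq (a : K4) : -a = a := rfl

lemma K4_add_self (a : K4) : a + a = 0 := K4.add_self a

lemma K4_add_self' (x : Fin 8 → K4) : x + x = 0 := by
  funext i
  exact K4_add_self _

lemma eq_of_add_eq_zero {x y : Fin 8 → K4} (h : x + y = 0) : x = y := by
  funext i
  have h1 := congrFun h i
  have h2 : x i + y i = 0 := h1
  have h3 : y i + y i = 0 := K4_add_self _
  exact add_right_cancel (h2.trans h3.symm)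

lemma add_add_self (x : Fin 8 → K4) : x + x = 0 := K4_add_self' x

instance : Finite K4 := inferInstanceAs (Finite (Fin 4))

/-- The six-dimensional module. -/
abbrev V6 : Type := Fin 6 → K4

/-- The inclusion in the octonions. -/
def incl (v : V6) : O8 := ![0, v 0, v 1, v 2, v 3, v 4, v 5, 0]

/-- The projection from the octonions. -/
def proj (x : O8) : V6 := ![x 1, x 2, x 3, x 4, x 5, x 6]

lemma ext6 {x y : V6} (h0 : x 0 = y 0) (h1 : x 1 = y 1) (h2 : x 2 = y 2) (h3 : x 3 = y 3)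
    (h4 : x 4 = y 4) (h5 : x 5 = y 5) : x = y := by
  funext i
  fin_cases i <;> assumption

lemma proj_incl (v : V6) : proj (incl v) = v := by
  apply ext6 <;> simp [proj, incl]

lemma incl_add (v w : V6) : incl (v + w) = incl v + incl w := by
  apply ext8 <;> simp [incl]

lemma proj_add (x z : O8) : proj (x + z) = proj x + proj z := by
  apply ext6 <;> simp [proj]

lemma proj_one : proj (zOne : O8) = 0 := by
  apply ext6 <;> simp [proj, zOne]

lemma proj_smul (c : K4) (x : O8) : proj (c • x) = c • proj x := by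
  apply ext6 <;> simp [proj]

lemma tr_incl (v : V6) : tr (incl v) = 0 := by
  simp [tr, incl]

lemma tr_one : tr (zOne : O8) = 0 := K4.add_self 1

lemma tr_add (x z : O8) : tr (x + z) = tr x + tr z := trL.map_add x z

lemma tr_smul (c : K4) (x : O8) : tr (c • x) = c * tr x := trL.map_smul c x

lemma decomp {x : O8} (hx : tr x = 0) : x = incl (proj x) + x 0 • zOne := by
  have h7 : x 7 = x 0 := by
    have h : x 0 + x 7 = 0 := hx
    have h2 : x 0 + x 0 = 0 := K4_add_self _
    exact add_left_cancel (h.trans h2.symm)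
  apply ext8 <;> simp [proj, incl, zOne, h7]

/-- Automorphisms fix the unit. -/
lemma Yg_one {y : GL (Fin 8) K4} (hy : y ∈ Yg) : (y : M8) *ᵥ zOne = zOne := by
  have h1 := Yg_aut hy zOne (((y⁻¹ : GL (Fin 8) K4) : M8) *ᵥ zOne)
  rw [zOne_mul, Matrix.mulVec_mulVec, ← Units.val_mul, mul_inv_cancel, Units.val_one,
    Matrix.one_mulVec, mul_zOne] at h1
  exact h1.symm

/-- The action on the six-dimensional module. -/
def rho (y : GL (Fin 8) K4) (v : V6) : V6 := proj ((y : M8) *ᵥ incl v)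

lemma rho_add (y : GL (Fin 8) K4) (v w : V6) : rho y (v + w) = rho y v + rho y w := by
  simp only [rho, incl_add, Matrix.mulVec_add, proj_add]

lemma rho_one (v : V6) : rho 1 v = v := by
  simp [rho, proj_incl]

lemma rho_mul {a b : GL (Fin 8) K4} (ha : a ∈ Yg) (hb : b ∈ Yg) (v : V6) :
    rho (a * b) v = rho a (rho b v) := by
  have hx : tr ((b : M8) *ᵥ incl v) = 0 := by rw [hb.2, tr_incl]
  simp only [rho]
  rw [Units.val_mul, ← Matrix.mulVec_mulVec]
  conv_lhs => rw [decomp hx]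
  rw [Matrix.mulVec_add, Matrix.mulVec_smul, Yg_one ha, proj_add, proj_smul, proj_one, smul_zero,
    add_zero]

/-- The action of the group on the six-dimensional module. -/
noncomputable def rhoHom : Lg →* MulAut (Multiplicative V6) where
  toFun g := AddEquiv.toMultiplicative
    { toFun := rho (phi g)
      invFun := rho (phi g⁻¹)
      left_inv := fun v => by
        show rho (phi g⁻¹) (rho (phi g) v) = v
        rw [← rho_mul (phi_rel _).1 (phi_rel _).1, ← map_mul, inv_mul_cancel, map_one, rho_one]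
      right_inv := fun v => by
        show rho (phi g) (rho (phi g⁻¹) v) = v
        rw [← rho_mul (phi_rel _).1 (phi_rel _).1, ← map_mul, mul_inv_cancel, map_one, rho_one]
      map_add' := rho_add (phi g) }
  map_one' := by
    ext v
    simp [rho_one]
  map_mul' a b := by
    ext v
    simp [rho_mul (phi_rel a).1 (phi_rel b).1]

lemma rhoHom_apply (g : Lg) (v : V6) :
    Multiplicative.toAdd (rhoHom g (Multiplicative.ofAdd v)) = rho (phi g) v := rfl

/-! ### Singular lifts -/

/-- The scalar part of the singular lift. -/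
def alpha (v : V6) : K4 := (v 0 * v 3 + v 1 * v 4 + v 2 * v 5) * (v 0 * v 3 + v 1 * v 4 + v 2 * v 5)

/-- The singular lift. -/
def lift (v : V6) : O8 := incl v + alpha v • zOne

lemma tr_lift (v : V6) : tr (lift v) = 0 := by
  rw [lift, tr_add, tr_incl, tr_smul, tr_one]
  simp

lemma proj_lift (v : V6) : proj (lift v) = v := by
  rw [lift, proj_add, proj_smul, proj_one, proj_incl]
  simp

lemma lift_sq (v : V6) : zornMul (lift v) (lift v) = 0 := by
  have h := K4.pow_four (v 0 * v 3 + v 1 * v 4 + v 2 * v 5)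
  have ht := two_eq
  apply ext8 <;> simp [lift, incl, zOne, alpha]
  · linear_combination h + (v 0 * v 3 + v 1 * v 4 + v 2 * v 5) * ht
  · linear_combination ((v 0 * v 3 + v 1 * v 4 + v 2 * v 5) * (v 0 * v 3 + v 1 * v 4 + v 2 * v 5) * v 0) * ht
  · linear_combination ((v 0 * v 3 + v 1 * v 4 + v 2 * v 5) * (v 0 * v 3 + v 1 * v 4 + v 2 * v 5) * v 1) * ht
  · linear_combination ((v 0 * v 3 + v 1 * v 4 + v 2 * v 5) * (v 0 * v 3 + v 1 * v 4 + v 2 * v 5) * v 2) * ht
  · linear_combination ((v 0 * v 3 + v 1 * v 4 + v 2 * v 5) * (v 0 * v 3 + v 1 * v 4 + v 2 * v 5) * v 3) * ht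
  · linear_combination ((v 0 * v 3 + v 1 * v 4 + v 2 * v 5) * (v 0 * v 3 + v 1 * v 4 + v 2 * v 5) * v 4) * ht
  · linear_combination ((v 0 * v 3 + v 1 * v 4 + v 2 * v 5) * (v 0 * v 3 + v 1 * v 4 + v 2 * v 5) * v 5) * ht
  · linear_combination h + (v 0 * v 3 + v 1 * v 4 + v 2 * v 5) * ht

lemma lift_ne_zero {v : V6} (hv : v ≠ 0) : lift v ≠ 0 := by
  intro h
  apply hv
  rw [← proj_lift v, h]
  apply ext6 <;> simp [proj]

/-- A fixed vector of the six-dimensional module lifts to a fixed singular octonion. -/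
lemma fixed_lift {y : GL (Fin 8) K4} (hy : y ∈ Yg) {v : V6} (hv : rho y v = v) :
    (y : M8) *ᵥ lift v = lift v := by
  set x : O8 := (y : M8) *ᵥ incl v with hx
  have htr : tr x = 0 := by rw [hx, hy.2, tr_incl]
  have hdec := decomp htr
  have hpr : proj x = v := hv
  rw [hpr] at hdec
  set c : K4 := x 0 with hc
  have h1 : (y : M8) *ᵥ lift v = lift v + c • zOne := by
    rw [lift, Matrix.mulVec_add, Matrix.mulVec_smul, Yg_one hy, ← hx, hdec]
    module
  have h2 : zornMul ((y : M8) *ᵥ lift v) ((y : M8) *ᵥ lift v) = 0 := by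
    rw [← Yg_aut hy, lift_sq, Matrix.mulVec_zero]
  rw [h1] at h2
  simp only [zornMul_add_left, zornMul_add_right, zornMul_smul_left, zornMul_smul_right, lift_sq,
    zOne_mul, mul_zOne] at h2
  have h3 : c = 0 := by
    have h4 := congrFun h2 0
    simp only [Pi.add_apply, Pi.zero_apply, Pi.smul_apply, smul_eq_mul, zOne] at h4
    have h6 : c * c = 0 := by
      simp at h4
      linear_combination h4 - c * (lift v 0) * two_eq
    simpa using h6
  rw [h1, h3, zero_smul, add_zero]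

/-! ### Left multiplication by a singular octonion -/

/-- The fixed points of a matrix. -/
def Fx (A : M8) : Submodule K4 O8 := LinearMap.ker (A.mulVecLin - LinearMap.id)

lemma mem_Fx {A : M8} {x : O8} : x ∈ Fx A ↔ A *ᵥ x = x := by
  simp [Fx, LinearMap.mem_ker, sub_eq_zero]

lemma card_sub (U : Submodule K4 O8) : Nat.card U = 4 ^ finrank K4 U := by
  have := Module.natCard_eq_pow_finrank (K := K4) (V := U)
  rw [this, Nat.card_eq_fintype_card, K4.card_K4]

/-- Counting fixed points. -/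
theorem card_mod (A : M8) (s : ℕ) [hs : Fact s.Prime] (hA : A ^ s = 1) (U : Submodule K4 O8)
    (hU : ∀ x ∈ U, A *ᵥ x ∈ U) :
    4 ^ finrank K4 U ≡ 4 ^ finrank K4 ↥(U ⊓ Fx A) [MOD s] := by
  classical
  let _ : Fintype U := Fintype.ofFinite _
  let f : Function.End U := fun x => ⟨A *ᵥ x.1, hU x.1 x.2⟩
  have hpow : ∀ (k : ℕ) (x : U), ((f ^ k) x).1 = (A ^ k) *ᵥ x.1 := by
    intro k
    induction k with
    | zero =>
      intro x
      show x.1 = _
      simp
    | succ k ih =>
      intro x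
      rw [pow_succ']
      show A *ᵥ ((f ^ k) x).1 = _
      rw [ih, Matrix.mulVec_mulVec, pow_succ']
  have hf : f ^ s ^ 1 = 1 := by
    rw [pow_one]
    funext x
    apply Subtype.ext
    rw [hpow, hA, Matrix.one_mulVec]
    rfl
  have h := Equiv.Perm.card_fixedPoints_modEq hf
  have h1 : Fintype.card U = 4 ^ finrank K4 U := by
    rw [← Nat.card_eq_fintype_card, card_sub]
  have h2 : Fintype.card f.fixedPoints = 4 ^ finrank K4 ↥(U ⊓ Fx A) := by
    rw [← card_sub, ← Nat.card_eq_fintype_card]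
    apply Nat.card_congr
    refine ⟨fun x => ⟨x.1.1, x.1.2, mem_Fx.2 (congrArg Subtype.val x.2)⟩,
      fun x => ⟨⟨x.1, x.2.1⟩, Subtype.ext (mem_Fx.1 x.2.2)⟩, fun x => rfl, fun x => rfl⟩
  rwa [h1, h2] at h

/-- Left multiplication. -/
def Tm (w : O8) : O8 →ₗ[K4] O8 := zL w

@[simp] lemma Tm_apply (w z : O8) : Tm w z = zornMul w z := rfl

section singular

variable {w : O8}

lemma Tm_sq (hw : zornMul w w = 0) (z : O8) : zornMul w (zornMul w z) = 0 := by
  rw [zorn_left_alt, hw]
  apply ext8 <;> simp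

lemma exists_polar (hw0 : w ≠ 0) : ∃ u : O8, zPolar u w ≠ 0 := by
  by_contra hcon
  push Not at hcon
  apply hw0
  have e : ∀ i : Fin 8, eV i = ![if (0 : Fin 8) = i then 1 else 0, if (1 : Fin 8) = i then 1 else 0,
      if (2 : Fin 8) = i then 1 else 0, if (3 : Fin 8) = i then 1 else 0, if (4 : Fin 8) = i then 1 else 0,
      if (5 : Fin 8) = i then 1 else 0, if (6 : Fin 8) = i then 1 else 0, if (7 : Fin 8) = i then 1 else 0] := by
    intro i
    apply ext8 <;> simp [eV]
  have h0 := hcon (eV 7)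
  have h1 := hcon (eV 4)
  have h2 := hcon (eV 5)
  have h3 := hcon (eV 6)
  have h4 := hcon (eV 1)
  have h5 := hcon (eV 2)
  have h6 := hcon (eV 3)
  have h7 := hcon (eV 0)
  simp [zPolar, eV] at h0 h1 h2 h3 h4 h5 h6 h7
  apply ext8 <;> simp [*]

lemma zConj_of_tr (htr : tr w = 0) : zConj w = w := by
  have h7 : w 7 = w 0 := by
    have h : w 0 + w 7 = 0 := htr
    have h2 : w 0 + w 0 = 0 := K4_add_self _
    exact add_left_cancel (h.trans h2.symm)
  apply ext8 <;> simp [zConj, h7, neg_eq]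

lemma ker_le_range (htr : tr w = 0) (hw0 : w ≠ 0) :
    LinearMap.ker (Tm w) ≤ LinearMap.range (Tm w) := by
  intro z hz
  have hz' : zornMul w z = 0 := hz
  obtain ⟨u, hu⟩ := exists_polar hw0
  have h := zorn_polar u w z
  rw [hz', zConj_of_tr htr] at h
  have h0 : zornMul (zConj u) (0 : O8) = 0 := by
    apply ext8 <;> simp
  rw [h0, zero_add] at h
  refine ⟨(zPolar u w)⁻¹ • zornMul u z, ?_⟩
  rw [Tm_apply, zornMul_smul_right, h, smul_smul, inv_mul_cancel₀ hu, one_smul]

lemma range_le_ker (hw : zornMul w w = 0) : LinearMap.range (Tm w) ≤ LinearMap.ker (Tm w) := by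
  rintro _ ⟨z, rfl⟩
  exact Tm_sq hw z

lemma range_eq_ker (hw : zornMul w w = 0) (htr : tr w = 0) (hw0 : w ≠ 0) :
    LinearMap.range (Tm w) = LinearMap.ker (Tm w) :=
  le_antisymm (range_le_ker hw) (ker_le_range htr hw0)

lemma finrank_ker (hw : zornMul w w = 0) (htr : tr w = 0) (hw0 : w ≠ 0) :
    finrank K4 (LinearMap.ker (Tm w)) = 4 := by
  have h := LinearMap.finrank_range_add_finrank_ker (Tm w)
  rw [range_eq_ker hw htr hw0, Module.finrank_fin_fun] at h
  omega

end singular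

/-! ### The main counting argument -/

lemma eq_one_of_sq {A : M8} {s : ℕ} (hs : s.Prime) (hs2 : s ≠ 2) (hpow : A ^ s = 1)
    (h2 : A * A = 1) : A = 1 := by
  obtain ⟨k, hk⟩ := hs.odd_of_ne_two hs2
  rw [hk, pow_succ, pow_mul, sq, h2, one_pow, one_mul] at hpow
  exact hpow

lemma no_seven {y : GL (Fin 8) K4} (hy : y ∈ Yg) (hpow : (y : M8) ^ 7 = 1) {w : O8}
    (hw : zornMul w w = 0) (htr : tr w = 0) (hw0 : w ≠ 0) (hfix : (y : M8) *ᵥ w = w)
    (ha : finrank K4 ↥(LinearMap.ker (Tm w) ⊓ Fx (y : M8)) = 1) : False := by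
  have : Fact (Nat.Prime 7) := ⟨by norm_num⟩
  set A : M8 := (y : M8) with hA
  have hcomm : ∀ z, zornMul w (A *ᵥ z) = A *ᵥ zornMul w z := by
    intro z
    rw [Yg_aut hy, hfix]
  set W : Submodule K4 O8 := LinearMap.ker trL with hW
  have hWrank : finrank K4 W = 7 := by
    have h := LinearMap.finrank_range_add_finrank_ker trL
    have hr : LinearMap.range trL = ⊤ := by
      rw [LinearMap.range_eq_top]
      intro c
      refine ⟨c • eV 0, ?_⟩
      show tr (c • eV 0) = c
      rw [tr_smul]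
      have : tr (eV 0) = 1 := by decide +kernel
      rw [this, mul_one]
    rw [hr, finrank_top, Module.finrank_self, Module.finrank_fin_fun] at h
    have h' : 1 + finrank K4 W = 8 := h
    omega
  have hWst : ∀ x ∈ W, A *ᵥ x ∈ W := by
    intro x hx
    show tr (A *ᵥ x) = 0
    rw [hy.2]
    exact hx
  have hmod := card_mod A 7 hpow W hWst
  rw [hWrank] at hmod
  set F0 : Submodule K4 O8 := W ⊓ Fx A with hF0
  set T0 : ↥F0 →ₗ[K4] O8 := (Tm w).domRestrict F0 with hT0
  have hrn := LinearMap.finrank_range_add_finrank_ker T0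
  have hwF : w ∈ F0 := ⟨htr, mem_Fx.2 hfix⟩
  have h1F : (zOne : O8) ∈ F0 := ⟨tr_one, mem_Fx.2 (Yg_one hy)⟩
  -- the range
  have hr1 : LinearMap.range T0 ≤ LinearMap.ker (Tm w) ⊓ Fx A := by
    rintro _ ⟨⟨z, hz⟩, rfl⟩
    refine ⟨Tm_sq hw z, mem_Fx.2 ?_⟩
    show A *ᵥ zornMul w z = zornMul w z
    rw [← hcomm, mem_Fx.1 hz.2]
  have hr2 : finrank K4 (LinearMap.range T0) ≤ 1 := by
    rw [← ha]
    exact Submodule.finrank_mono hr1
  have hr3 : 1 ≤ finrank K4 (LinearMap.range T0) := by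
    rw [Submodule.one_le_finrank_iff]
    intro h
    have h1 : T0 ⟨zOne, h1F⟩ ∈ LinearMap.range T0 := ⟨_, rfl⟩
    rw [h, Submodule.mem_bot] at h1
    apply hw0
    have h2 : zornMul w zOne = 0 := h1
    rwa [mul_zOne] at h2
  -- the kernel
  have hk1 : (LinearMap.ker T0).map F0.subtype ≤ LinearMap.ker (Tm w) ⊓ Fx A := by
    rintro _ ⟨⟨z, hz⟩, hz2, rfl⟩
    exact ⟨hz2, hz.2⟩
  have hk2 : finrank K4 (LinearMap.ker T0) ≤ 1 := by
    rw [← ha, ← Submodule.finrank_map_subtype_eq F0 (LinearMap.ker T0)]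
    exact Submodule.finrank_mono hk1
  have hk3 : 1 ≤ finrank K4 (LinearMap.ker T0) := by
    rw [Submodule.one_le_finrank_iff]
    intro h
    have h1 : (⟨w, hwF⟩ : F0) ∈ LinearMap.ker T0 := hw
    rw [h, Submodule.mem_bot] at h1
    exact hw0 (congrArg Subtype.val h1)
  have hf : finrank K4 F0 = 2 := by omega
  rw [hf] at hmod
  revert hmod
  decide

theorem fix_prime {y : GL (Fin 8) K4} (hy : y ∈ Yg) {s : ℕ} (hs : s.Prime) (hs2 : s ≠ 2)
    (hpow : (y : M8) ^ s = 1) (hne : (y : M8) ≠ 1) {w : O8} (hw : zornMul w w = 0)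
    (htr : tr w = 0) (hw0 : w ≠ 0) (hfix : (y : M8) *ᵥ w = w) : s = 3 ∨ s = 5 := by
  have : Fact s.Prime := ⟨hs⟩
  set A : M8 := (y : M8) with hA
  have hcomm : ∀ z, zornMul w (A *ᵥ z) = A *ᵥ zornMul w z := by
    intro z
    rw [Yg_aut hy, hfix]
  set N : Submodule K4 O8 := LinearMap.ker (Tm w) with hN
  have hNst : ∀ z ∈ N, A *ᵥ z ∈ N := by
    intro z hz
    show zornMul w (A *ᵥ z) = 0
    have hz' : zornMul w z = 0 := hz
    rw [hcomm, hz', Matrix.mulVec_zero]
  have hNrank : finrank K4 N = 4 := finrank_ker hw htr hw0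
  have hcard := card_mod A s hpow N hNst
  rw [hNrank] at hcard
  set a := finrank K4 ↥(N ⊓ Fx A) with ha
  have ha4 : a ≠ 4 := by
    intro h4
    apply hne
    have hN0 : N ⊓ Fx A = N := by
      apply Submodule.eq_of_le_of_finrank_eq inf_le_left
      rw [hNrank, ← ha, h4]
    have hfixN : ∀ z ∈ N, A *ᵥ z = z := by
      intro z hz
      rw [← hN0] at hz
      exact mem_Fx.1 hz.2
    apply eq_one_of_sq hs hs2 hpow
    apply Matrix.mulVec_injective
    funext x
    have h1 : A *ᵥ zornMul w x = zornMul w x := hfixN _ (Tm_sq hw x)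
    have h2 : A *ᵥ x + x ∈ N := by
      show zornMul w (A *ᵥ x + x) = 0
      rw [zornMul_add_right, hcomm, h1]
      exact K4_add_self' _
    have h3 := hfixN _ h2
    rw [Matrix.mulVec_add] at h3
    rw [← Matrix.mulVec_mulVec, Matrix.one_mulVec]
    have h4 : A *ᵥ (A *ᵥ x) + A *ᵥ x + (A *ᵥ x + x) = 0 := by
      rw [h3]
      exact add_add_self _
    have h5 : A *ᵥ (A *ᵥ x) + x = 0 := by
      have : A *ᵥ (A *ᵥ x) + A *ᵥ x + (A *ᵥ x + x) =
        A *ᵥ (A *ᵥ x) + x + (A *ᵥ x + A *ᵥ x) := by abel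
      rw [this, K4_add_self' (A *ᵥ x), add_zero] at h4
      exact h4
    exact eq_of_add_eq_zero h5
  have ha1 : 1 ≤ a := by
    rw [ha, Submodule.one_le_finrank_iff]
    intro h
    have h1 : w ∈ N ⊓ Fx A := ⟨hw, mem_Fx.2 hfix⟩
    rw [h, Submodule.mem_bot] at h1
    exact hw0 h1
  have hale : a ≤ 4 := by
    rw [← hNrank]
    exact Submodule.finrank_mono inf_le_left
  have hcases : a = 1 ∨ a = 2 ∨ a = 3 := by omega
  have hprime : ∀ {n : ℕ}, n.Prime → (s ∣ n → s = n) := fun hn h =>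
    (Nat.prime_dvd_prime_iff_eq hs hn).1 h
  rcases hcases with h | h | h
  · rw [h] at hcard
    have hd : s ∣ 4 ^ 4 - 4 ^ 1 := (Nat.modEq_iff_dvd' (by norm_num)).1 hcard.symm
    have h252 : (4 ^ 4 - 4 ^ 1 : ℕ) = 2 ^ 2 * 3 ^ 2 * 7 := by norm_num
    rw [h252, hs.dvd_mul, hs.dvd_mul] at hd
    rcases hd with (hd | hd) | hd
    · exact absurd (hprime Nat.prime_two (hs.dvd_of_dvd_pow hd)) hs2
    · exact Or.inl (hprime Nat.prime_three (hs.dvd_of_dvd_pow hd))
    · have h7 : s = 7 := hprime (by norm_num) hd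
      subst h7
      exact (no_seven hy hpow hw htr hw0 hfix h).elim
  · rw [h] at hcard
    have hd : s ∣ 4 ^ 4 - 4 ^ 2 := (Nat.modEq_iff_dvd' (by norm_num)).1 hcard.symm
    have h240 : (4 ^ 4 - 4 ^ 2 : ℕ) = 2 ^ 4 * 3 * 5 := by norm_num
    rw [h240, hs.dvd_mul, hs.dvd_mul] at hd
    rcases hd with (hd | hd) | hd
    · exact absurd (hprime Nat.prime_two (hs.dvd_of_dvd_pow hd)) hs2
    · exact Or.inl (hprime Nat.prime_three hd)
    · exact Or.inr (hprime Nat.prime_five hd)
  · rw [h] at hcard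
    have hd : s ∣ 4 ^ 4 - 4 ^ 3 := (Nat.modEq_iff_dvd' (by norm_num)).1 hcard.symm
    have h192 : (4 ^ 4 - 4 ^ 3 : ℕ) = 2 ^ 6 * 3 := by norm_num
    rw [h192, hs.dvd_mul] at hd
    rcases hd with hd | hd
    · exact absurd (hprime Nat.prime_two (hs.dvd_of_dvd_pow hd)) hs2
    · exact Or.inl (hprime Nat.prime_three hd)

end Cfsg.Agent.Lib.G24Act
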