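import Mathlib
import Cfsg.Prelude.Def_G2

/-!
# Zorn's vector-matrix algebra: basic identities
-/

set_option autoImplicit false

namespace Cfsg.Agent.Lib.ZornAlg

open Cfsg.Lie

variable {R : Type*} [CommRing R]

local notation "O" => (Fin 8 → R)

/-- Coordinates of the product. -/
lemma zornMul_eq (x y : Fin 8 → R) : zornMul x y = ![
    x 0 * y 0 + (x 1 * y 4 + x 2 * y 5 + x 3 * y 6),
    x 0 * y 1 + y 7 * x 1 - (x 5 * y 6 - x 6 * y 5),
    x 0 * y 2 + y 7 * x 2 - (x 6 * y 4 - x 4 * y 6),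
    x 0 * y 3 + y 7 * x 3 - (x 4 * y 5 - x 5 * y 4),
    y 0 * x 4 + x 7 * y 4 + (x 2 * y 3 - x 3 * y 2),
    y 0 * x 5 + x 7 * y 5 + (x 3 * y 1 - x 1 * y 3),
    y 0 * x 6 + x 7 * y 6 + (x 1 * y 2 - x 2 * y 1),
    (x 4 * y 1 + x 5 * y 2 + x 6 * y 3) + x 7 * y 7] := by
  funext i
  fin_cases i <;> simp [zornMul, dot3, cross3]

@[simp] lemma zornMul_apply0 (x y : Fin 8 → R) :
    zornMul x y 0 = x 0 * y 0 + (x 1 * y 4 + x 2 * y 5 + x 3 * y 6) := by rw [zornMul_eq]; rfl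
@[simp] lemma zornMul_apply1 (x y : Fin 8 → R) :
    zornMul x y 1 = x 0 * y 1 + y 7 * x 1 - (x 5 * y 6 - x 6 * y 5) := by rw [zornMul_eq]; rfl
@[simp] lemma zornMul_apply2 (x y : Fin 8 → R) :
    zornMul x y 2 = x 0 * y 2 + y 7 * x 2 - (x 6 * y 4 - x 4 * y 6) := by rw [zornMul_eq]; rfl
@[simp] lemma zornMul_apply3 (x y : Fin 8 → R) :
    zornMul x y 3 = x 0 * y 3 + y 7 * x 3 - (x 4 * y 5 - x 5 * y 4) := by rw [zornMul_eq]; rfl
@[simp] lemma zornMul_apply4 (x y : Fin 8 → R) :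
    zornMul x y 4 = y 0 * x 4 + x 7 * y 4 + (x 2 * y 3 - x 3 * y 2) := by rw [zornMul_eq]; rfl
@[simp] lemma zornMul_apply5 (x y : Fin 8 → R) :
    zornMul x y 5 = y 0 * x 5 + x 7 * y 5 + (x 3 * y 1 - x 1 * y 3) := by rw [zornMul_eq]; rfl
@[simp] lemma zornMul_apply6 (x y : Fin 8 → R) :
    zornMul x y 6 = y 0 * x 6 + x 7 * y 6 + (x 1 * y 2 - x 2 * y 1) := by rw [zornMul_eq]; rfl
@[simp] lemma zornMul_apply7 (x y : Fin 8 → R) :
    zornMul x y 7 = (x 4 * y 1 + x 5 * y 2 + x 6 * y 3) + x 7 * y 7 := by rw [zornMul_eq]; rfl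

/-- Extensionality for the eight coordinates. -/
lemma ext8 {x y : Fin 8 → R} (h0 : x 0 = y 0) (h1 : x 1 = y 1) (h2 : x 2 = y 2) (h3 : x 3 = y 3)
    (h4 : x 4 = y 4) (h5 : x 5 = y 5) (h6 : x 6 = y 6) (h7 : x 7 = y 7) : x = y := by
  funext i
  fin_cases i <;> assumption

lemma zornMul_add_left (x x' y : Fin 8 → R) : zornMul (x + x') y = zornMul x y + zornMul x' y := by
  apply ext8 <;> simp <;> ring

lemma zornMul_add_right (x y y' : Fin 8 → R) : zornMul x (y + y') = zornMul x y + zornMul x y' := by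
  apply ext8 <;> simp <;> ring

lemma zornMul_smul_left (c : R) (x y : Fin 8 → R) : zornMul (c • x) y = c • zornMul x y := by
  apply ext8 <;> simp <;> ring

lemma zornMul_smul_right (c : R) (x y : Fin 8 → R) : zornMul x (c • y) = c • zornMul x y := by
  apply ext8 <;> simp <;> ring

/-- The unit. -/
def zOne : Fin 8 → R := ![1, 0, 0, 0, 0, 0, 0, 1]

lemma zOne_mul (x : Fin 8 → R) : zornMul zOne x = x := by
  apply ext8 <;> simp [zOne]

lemma mul_zOne (x : Fin 8 → R) : zornMul x zOne = x := by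
  apply ext8 <;> simp [zOne]

/-- Left alternativity. -/
lemma zorn_left_alt (x z : Fin 8 → R) : zornMul x (zornMul x z) = zornMul (zornMul x x) z := by
  apply ext8 <;> simp <;> ring

/-- The conjugation. -/
def zConj (x : Fin 8 → R) : Fin 8 → R := ![x 7, -x 1, -x 2, -x 3, -x 4, -x 5, -x 6, x 0]

/-- The polar form of the norm. -/
def zPolar (u v : Fin 8 → R) : R :=
  u 0 * v 7 + u 7 * v 0 - (u 1 * v 4 + u 2 * v 5 + u 3 * v 6 + u 4 * v 1 + u 5 * v 2 + u 6 * v 3)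

/-- The linearised composition identity. -/
lemma zorn_polar (u v z : Fin 8 → R) :
    zornMul (zConj u) (zornMul v z) + zornMul (zConj v) (zornMul u z) = zPolar u v • z := by
  apply ext8 <;> simp [zConj, zPolar] <;> ring

end Cfsg.Agent.Lib.ZornAlg
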