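import Cfsg.Agent.Lib.G24Data
import Cfsg.Agent.Lib.ZornAlg

/-!
# `G₂(4)` acts on the split octonions
-/

set_option autoImplicit false
set_option linter.unusedSectionVars false
set_option linter.unusedSimpArgs false

namespace Cfsg.Agent.Lib.G24Rel

open Cfsg Cfsg.Lie Matrix
open Cfsg.Agent.Lib.F4K Cfsg.Agent.Lib.G24Data Cfsg.Agent.Lib.ZornAlg
open scoped MatrixGroups

/-- Matrices. -/
abbrev M8 : Type := Matrix (Fin 8) (Fin 8) K4

/-- Octonions. -/
abbrev O8 : Type := Fin 8 → K4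

lemma mul_entry (A B : M8) (i j : Fin 8) : (A * B) i j = rmul A B i j := by
  rw [Matrix.mul_apply]
  simp only [rmul, mz_eq]
  rfl

lemma mul_entry' (A B : M8) (i j : Fin 8) : (A * B) i j = rmulR A B i j := by
  rw [Matrix.mul_apply]
  simp only [rmulR, mz_comm, mz_eq]
  rfl

lemma code_lt (k : chevG2.Idx) : code k < 14 := by
  rcases k with i | s
  · have : i.1 < 2 := i.2
    show i.1 < 14
    omega
  · have : s.1 < 12 := s.2
    show 2 + s.1 < 14
    omega

/-- The sum over the index set as a sum over `Fin 14`. -/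
lemma sum_idx {A : Type*} [AddCommMonoid A] (F : ℕ → A) :
    ∑ k : chevG2.Idx, F (code k) = ∑ j : Fin 14, F j.1 := by
  apply Fintype.sum_equiv (finSumFinEquiv : Fin 2 ⊕ Fin 12 ≃ Fin 14)
  intro k
  rcases k with i | s <;> rfl

lemma rImg_eq (r : Fin chevG2.nroots) (t : K4) (i : chevG2.Idx) :
    (∑ k, chevG2.xMat K4 r t k i • dI k) = rImg r.1 t (code i) := by
  ext p q
  rw [Matrix.sum_apply]
  simp only [Matrix.smul_apply, xMat_table, smul_eq_mul, dI]
  rw [sum_idx (fun k => xE r.1 t k (code i) * dM k p q)]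
  simp only [rImg, mz_eq]
  rfl

theorem equivariance (r : Fin chevG2.nroots) (t : K4) (i : chevG2.Idx) :
    yM r.1 t * dI i = (∑ k, chevG2.xMat K4 r t k i • dI k) * yM r.1 t := by
  rw [rImg_eq]
  ext p q
  rw [mul_entry, mul_entry']
  exact of_decide_eq_true (eqCheck_all r (t) ⟨code i, code_lt i⟩ p q)

/-! ### The automorphism property -/

/-- Left multiplication as a bilinear map. -/
def zL : O8 →ₗ[K4] O8 →ₗ[K4] O8 :=
  LinearMap.mk₂ K4 zornMul zornMul_add_left zornMul_smul_left zornMul_add_right zornMul_smul_right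

@[simp] lemma zL_apply (x z : O8) : zL x z = zornMul x z := rfl

lemma eV_eq (i : Fin 8) : eV i = Pi.single i 1 := by
  funext j
  simp [eV, Pi.single_apply]

lemma aut_of_basis (A : M8)
    (h : ∀ i j, A *ᵥ zornMul (eV i) (eV j) = zornMul (A *ᵥ eV i) (A *ᵥ eV j)) (x z : O8) :
    A *ᵥ zornMul x z = zornMul (A *ᵥ x) (A *ᵥ z) := by
  have key : zL.compr₂ A.mulVecLin = zL.compl₁₂ A.mulVecLin A.mulVecLin := by
    apply (Pi.basisFun K4 (Fin 8)).ext
    intro i
    apply (Pi.basisFun K4 (Fin 8)).ext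
    intro j
    have := h i j
    rw [eV_eq, eV_eq] at this
    simpa using this
  have := congrArg (fun f => f x z) (show zL.compr₂ A.mulVecLin = _ from key)
  simpa using this

theorem yM_aut (r : Fin 12) (t : K4) (x z : O8) :
    yM r.1 t *ᵥ zornMul x z = zornMul (yM r.1 t *ᵥ x) (yM r.1 t *ᵥ z) :=
  aut_of_basis _ (fun i j => of_decide_eq_true (autCheck_all r t i j)) x z

/-- The trace. -/
def tr (x : O8) : K4 := x 0 + x 7

/-- The trace is linear. -/
def trL : O8 →ₗ[K4] K4 where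
  toFun := tr
  map_add' x z := by
    simp only [tr, Pi.add_apply]
    ring
  map_smul' c x := by
    simp only [tr, Pi.smul_apply, smul_eq_mul, RingHom.id_apply]
    ring

theorem yM_tr' (r : Fin 12) (t : K4) (x : O8) : tr (yM r.1 t *ᵥ x) = tr x := by
  have h : ∀ j, yM r.1 t 0 j + yM r.1 t 7 j =
    (1 : M8) 0 j + (1 : M8) 7 j := yM_tr r t
  have h1 : tr (yM r.1 t *ᵥ x) = ∑ j, (yM r.1 t 0 j + yM r.1 t 7 j) * x j := by
    simp only [tr, Matrix.mulVec, dotProduct, add_mul, Finset.sum_add_distrib]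
  have h2 : tr x = tr ((1 : M8) *ᵥ x) := by rw [Matrix.one_mulVec]
  have h3 : tr ((1 : M8) *ᵥ x) = ∑ j, ((1 : M8) 0 j + (1 : M8) 7 j) * x j := by
    simp only [tr, Matrix.mulVec, dotProduct, add_mul, Finset.sum_add_distrib]
  rw [h1, h2, h3]
  exact Finset.sum_congr rfl fun j _ => by rw [h j]

/-! ### The subgroup of automorphisms preserving the trace -/

/-- The automorphisms preserving the trace. -/
def Yg : Subgroup (GL (Fin 8) K4) where
  carrier := {y | y ∈ G2 K4 ∧ ∀ x, tr ((y : M8) *ᵥ x) = tr x}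
  mul_mem' {a b} ha hb := by
    refine ⟨mul_mem ha.1 hb.1, fun x => ?_⟩
    rw [Units.val_mul, ← Matrix.mulVec_mulVec, ha.2, hb.2]
  one_mem' := by
    refine ⟨one_mem _, fun x => ?_⟩
    rw [Units.val_one, Matrix.one_mulVec]
  inv_mem' {a} ha := by
    refine ⟨inv_mem ha.1, fun x => ?_⟩
    have h := ha.2 (((a⁻¹ : GL (Fin 8) K4) : M8) *ᵥ x)
    rw [Matrix.mulVec_mulVec, ← Units.val_mul, mul_inv_cancel, Units.val_one,
      Matrix.one_mulVec] at h
    exact h.symm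

/-- Elements of `Yg` are automorphisms. -/
lemma Yg_aut {y : GL (Fin 8) K4} (hy : y ∈ Yg) (x z : O8) :
    (y : M8) *ᵥ zornMul x z = zornMul ((y : M8) *ᵥ x) ((y : M8) *ᵥ z) := hy.1 x z

/-- The combination of the derivations. -/
def dHat : (chevG2.Idx → K4) →ₗ[K4] M8 where
  toFun u := ∑ k, u k • dI k
  map_add' a b := by
    simp only [Pi.add_apply, add_smul, Finset.sum_add_distrib]
  map_smul' c a := by
    simp only [Pi.smul_apply, smul_eq_mul, mul_smul, RingHom.id_apply, Finset.smul_sum]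

lemma dHat_apply (u : chevG2.Idx → K4) : dHat u = ∑ k, u k • dI k := rfl

lemma dHat_single (i : chevG2.Idx) : dHat (Pi.single i 1) = dI i := by
  rw [dHat_apply]
  rw [Finset.sum_eq_single i]
  · simp
  · intro b _ hb
    simp [hb]
  · simp

/-- The intertwining relation. -/
def Rel (g : GL chevG2.Idx K4) (y : GL (Fin 8) K4) : Prop :=
  y ∈ Yg ∧ ∀ u, (y : M8) * dHat u = dHat ((g : Matrix chevG2.Idx chevG2.Idx K4) *ᵥ u) * (y : M8)

lemma Rel.one : Rel 1 1 := by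
  refine ⟨one_mem _, fun u => ?_⟩
  simp

lemma Rel.mul {g g' : GL chevG2.Idx K4} {y y' : GL (Fin 8) K4} (h : Rel g y) (h' : Rel g' y') :
    Rel (g * g') (y * y') := by
  refine ⟨mul_mem h.1 h'.1, fun u => ?_⟩
  rw [Units.val_mul, Units.val_mul, mul_assoc, h'.2, ← mul_assoc, h.2, ← Matrix.mulVec_mulVec,
    mul_assoc]

lemma Rel.inv {g : GL chevG2.Idx K4} {y : GL (Fin 8) K4} (h : Rel g y) : Rel g⁻¹ y⁻¹ := by
  refine ⟨inv_mem h.1, fun u => ?_⟩
  have h1 := h.2 (((g⁻¹ : GL chevG2.Idx K4) : Matrix chevG2.Idx chevG2.Idx K4) *ᵥ u)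
  rw [Matrix.mulVec_mulVec, ← Units.val_mul, mul_inv_cancel, Units.val_one,
    Matrix.one_mulVec] at h1
  have h2 : ((y⁻¹ : GL (Fin 8) K4) : M8) * (y : M8) = 1 := by
    rw [← Units.val_mul, inv_mul_cancel, Units.val_one]
  have h3 : (y : M8) * ((y⁻¹ : GL (Fin 8) K4) : M8) = 1 := by
    rw [← Units.val_mul, mul_inv_cancel, Units.val_one]
  calc ((y⁻¹ : GL (Fin 8) K4) : M8) * dHat u
      = ((y⁻¹ : GL (Fin 8) K4) : M8) * (dHat u * ((y : M8) * ((y⁻¹ : GL (Fin 8) K4) : M8))) := by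
        rw [h3, mul_one]
    _ = ((y⁻¹ : GL (Fin 8) K4) : M8) * ((y : M8) *
          dHat (((g⁻¹ : GL chevG2.Idx K4) : Matrix chevG2.Idx chevG2.Idx K4) *ᵥ u)
            * ((y⁻¹ : GL (Fin 8) K4) : M8)) := by
        rw [h1, mul_assoc]
    _ = _ := by
        rw [← mul_assoc, ← mul_assoc, h2, one_mul]

/-- The pair of root elements. -/
def yU (r : Fin chevG2.nroots) (t : K4) : GL (Fin 8) K4 :=
  ⟨yM r.1 t, yM r.1 t, yM_inv r t, yM_inv r t⟩

lemma yU_mem (r : Fin chevG2.nroots) (t : K4) : yU r t ∈ Yg :=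
  ⟨fun x z => yM_aut r t x z, fun x => yM_tr' r t x⟩

lemma rel_gen (r : Fin chevG2.nroots) (t : K4) (g : GL chevG2.Idx K4)
    (hg : (g : Matrix chevG2.Idx chevG2.Idx K4) = chevG2.xMat K4 r t) : Rel g (yU r t) := by
  refine ⟨yU_mem r t, fun u => ?_⟩
  rw [hg]
  show yM r.1 t * dHat u = dHat (chevG2.xMat K4 r t *ᵥ u) * yM r.1 t
  have hu : dHat (chevG2.xMat K4 r t *ᵥ u) =
      ∑ i, u i • (∑ k, chevG2.xMat K4 r t k i • dI k) := by
    rw [dHat_apply]
    simp only [Matrix.mulVec, dotProduct, Finset.sum_smul, Finset.smul_sum, smul_smul]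
    rw [Finset.sum_comm]
    apply Finset.sum_congr rfl
    intro i _
    apply Finset.sum_congr rfl
    intro k _
    rw [mul_comm]
  rw [hu, dHat_apply, Finset.mul_sum, Finset.sum_mul]
  apply Finset.sum_congr rfl
  intro i _
  rw [Matrix.mul_smul, Matrix.smul_mul, equivariance r t i]

/-- Every element of the group has a partner. -/
theorem exists_rel (g : GL chevG2.Idx K4) (hg : g ∈ chevG2.group K4) : ∃ y, Rel g y := by
  unfold ChevalleyDatum.group at hg
  induction hg using Subgroup.closure_induction with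
  | mem x hx =>
    obtain ⟨r, t, hx⟩ := hx
    exact ⟨_, rel_gen r t x hx⟩
  | one => exact ⟨1, Rel.one⟩
  | mul a b _ _ ha hb =>
    obtain ⟨y, hy⟩ := ha
    obtain ⟨y', hy'⟩ := hb
    exact ⟨_, hy.mul hy'⟩
  | inv a _ ha =>
    obtain ⟨y, hy⟩ := ha
    exact ⟨_, hy.inv⟩

/-! ### Uniqueness of the partner -/

lemma comm_entry (y D : M8) (h : y * D = D * y) (p q : Fin 8) (c r : Fin 8 → K4)
    (hc : ∀ l, D l q = c l) (hr : ∀ l, D p l = r l) :
    ∑ l, y p l * c l = ∑ l, r l * y l q := by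
  have h1 := congrFun (congrFun h p) q
  rw [Matrix.mul_apply, Matrix.mul_apply] at h1
  simpa only [hc, hr] using h1

lemma dM_diag0 : dM 0 = Matrix.diagonal ![0, 1, 0, 1, 1, 0, 1, 0] := by decide +kernel
lemma dM_diag1 : dM 1 = Matrix.diagonal ![0, 1, 1, 0, 1, 1, 0, 0] := by decide +kernel

/-- The two weights. -/
def wt0 : Fin 8 → K4 := ![0, 1, 0, 1, 1, 0, 1, 0]
/-- The two weights. -/
def wt1 : Fin 8 → K4 := ![0, 1, 1, 0, 1, 1, 0, 0]

lemma K4_sq_one : ∀ c : K4, c * c = 1 → c = 1 := by decide +kernel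

lemma mul_eV (Y : M8) (i : Fin 8) : Y *ᵥ eV i = fun p => Y p i := by
  rw [eV_eq]
  funext p
  simp

lemma y_eq_one_of_comm (y : GL (Fin 8) K4) (hy : y ∈ Yg)
    (hc' : ∀ i : chevG2.Idx, (y : M8) * dI i = dI i * (y : M8)) : y = 1 := by
  set Y : M8 := (y : M8) with hY
  have hc : ∀ k : ℕ, k < 14 → Y * dM k = dM k * Y := by
    intro k hk
    by_cases h2 : k < 2
    · exact hc' (Sum.inl ⟨k, h2⟩)
    · have := hc' (Sum.inr ⟨k - 2, by show k - 2 < 12; omega⟩)
      have h3 : dI (Sum.inr ⟨k - 2, by show k - 2 < 12; omega⟩) = dM k := by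
        show dM (2 + (k - 2)) = dM k
        congr 1
        omega
      rwa [h3] at this
  -- the diagonal elements
  have hd0 : ∀ p q, Y p q * wt0 q = wt0 p * Y p q := by
    intro p q
    have h := congrFun (congrFun (hc 0 (by norm_num)) p) q
    rw [dM_diag0, Matrix.mul_diagonal, Matrix.diagonal_mul] at h
    exact h
  have hd1 : ∀ p q, Y p q * wt1 q = wt1 p * Y p q := by
    intro p q
    have h := congrFun (congrFun (hc 1 (by norm_num)) p) q
    rw [dM_diag1, Matrix.mul_diagonal, Matrix.diagonal_mul] at h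
    exact h
  have hz : ∀ p q : Fin 8, (wt0 p ≠ wt0 q ∨ wt1 p ≠ wt1 q) → Y p q = 0 := by
    intro p q h
    rcases h with h | h
    · have h1 := hd0 p q
      have h2 : Y p q * (wt0 q - wt0 p) = 0 := by
        rw [mul_sub, h1]
        ring
      exact (mul_eq_zero.mp h2).resolve_right (sub_ne_zero.mpr (Ne.symm h))
    · have h1 := hd1 p q
      have h2 : Y p q * (wt1 q - wt1 p) = 0 := by
        rw [mul_sub, h1]
        ring
      exact (mul_eq_zero.mp h2).resolve_right (sub_ne_zero.mpr (Ne.symm h))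
  have e1 := comm_entry Y (dM 2) (hc 2 (by norm_num)) 1 6 ![0, 0, 0, 0, 1, 0, 0, 0] ![0, 0, 0, 0, 0, 0, 0, 0] (by decide) (by decide)
  have e2 := comm_entry Y (dM 2) (hc 2 (by norm_num)) 3 1 ![0, 0, 0, 1, 0, 0, 0, 0] ![0, 1, 0, 0, 0, 0, 0, 0] (by decide) (by decide)
  have e3 := comm_entry Y (dM 2) (hc 2 (by norm_num)) 4 3 ![0, 0, 0, 0, 0, 0, 0, 0] ![0, 0, 0, 0, 0, 0, 1, 0] (by decide) (by decide)
  have e4 := comm_entry Y (dM 2) (hc 2 (by norm_num)) 4 6 ![0, 0, 0, 0, 1, 0, 0, 0] ![0, 0, 0, 0, 0, 0, 1, 0] (by decide) (by decide)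
  have e5 := comm_entry Y (dM 3) (hc 3 (by norm_num)) 2 6 ![0, 0, 0, 0, 0, 1, 0, 0] ![0, 0, 0, 0, 0, 0, 0, 0] (by decide) (by decide)
  have e6 := comm_entry Y (dM 3) (hc 3 (by norm_num)) 3 2 ![0, 0, 0, 1, 0, 0, 0, 0] ![0, 0, 1, 0, 0, 0, 0, 0] (by decide) (by decide)
  have e7 := comm_entry Y (dM 3) (hc 3 (by norm_num)) 5 6 ![0, 0, 0, 0, 0, 1, 0, 0] ![0, 0, 0, 0, 0, 0, 1, 0] (by decide) (by decide)
  have e8 := comm_entry Y (dM 4) (hc 4 (by norm_num)) 4 2 ![0, 0, 0, 0, 1, 0, 0, 0] ![0, 0, 1, 0, 0, 0, 0, 0] (by decide) (by decide)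
  have e9 := comm_entry Y (dM 5) (hc 5 (by norm_num)) 3 2 ![0, 0, 0, 0, 0, 0, 0, 0] ![0, 0, 0, 0, 0, 1, 0, 0] (by decide) (by decide)
  have e10 := comm_entry Y (dM 6) (hc 6 (by norm_num)) 3 1 ![0, 0, 0, 0, 0, 0, 0, 0] ![0, 0, 0, 0, 1, 0, 0, 0] (by decide) (by decide)
  have e11 := comm_entry Y (dM 9) (hc 9 (by norm_num)) 3 1 ![0, 0, 0, 0, 0, 0, 1, 0] ![0, 0, 0, 0, 0, 0, 0, 0] (by decide) (by decide)
  simp only [Fin.sum_univ_eight] at e1 e2 e3 e4 e5 e6 e7 e8 e9 e10 e11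
  simp at e1 e2 e3 e4 e5 e6 e7 e8 e9 e10 e11
  have z01 : Y 0 1 = 0 := hz 0 1 (Or.inl (by decide))
  have z02 : Y 0 2 = 0 := hz 0 2 (Or.inr (by decide))
  have z03 : Y 0 3 = 0 := hz 0 3 (Or.inl (by decide))
  have z04 : Y 0 4 = 0 := hz 0 4 (Or.inl (by decide))
  have z05 : Y 0 5 = 0 := hz 0 5 (Or.inr (by decide))
  have z06 : Y 0 6 = 0 := hz 0 6 (Or.inl (by decide))
  have z10 : Y 1 0 = 0 := hz 1 0 (Or.inl (by decide))
  have z12 : Y 1 2 = 0 := hz 1 2 (Or.inl (by decide))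
  have z13 : Y 1 3 = 0 := hz 1 3 (Or.inr (by decide))
  have z15 : Y 1 5 = 0 := hz 1 5 (Or.inl (by decide))
  have z16 : Y 1 6 = 0 := hz 1 6 (Or.inr (by decide))
  have z17 : Y 1 7 = 0 := hz 1 7 (Or.inl (by decide))
  have z20 : Y 2 0 = 0 := hz 2 0 (Or.inr (by decide))
  have z21 : Y 2 1 = 0 := hz 2 1 (Or.inl (by decide))
  have z23 : Y 2 3 = 0 := hz 2 3 (Or.inl (by decide))
  have z24 : Y 2 4 = 0 := hz 2 4 (Or.inl (by decide))
  have z26 : Y 2 6 = 0 := hz 2 6 (Or.inl (by decide))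
  have z27 : Y 2 7 = 0 := hz 2 7 (Or.inr (by decide))
  have z30 : Y 3 0 = 0 := hz 3 0 (Or.inl (by decide))
  have z31 : Y 3 1 = 0 := hz 3 1 (Or.inr (by decide))
  have z32 : Y 3 2 = 0 := hz 3 2 (Or.inl (by decide))
  have z34 : Y 3 4 = 0 := hz 3 4 (Or.inr (by decide))
  have z35 : Y 3 5 = 0 := hz 3 5 (Or.inl (by decide))
  have z37 : Y 3 7 = 0 := hz 3 7 (Or.inl (by decide))
  have z40 : Y 4 0 = 0 := hz 4 0 (Or.inl (by decide))
  have z42 : Y 4 2 = 0 := hz 4 2 (Or.inl (by decide))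
  have z43 : Y 4 3 = 0 := hz 4 3 (Or.inr (by decide))
  have z45 : Y 4 5 = 0 := hz 4 5 (Or.inl (by decide))
  have z46 : Y 4 6 = 0 := hz 4 6 (Or.inr (by decide))
  have z47 : Y 4 7 = 0 := hz 4 7 (Or.inl (by decide))
  have z50 : Y 5 0 = 0 := hz 5 0 (Or.inr (by decide))
  have z51 : Y 5 1 = 0 := hz 5 1 (Or.inl (by decide))
  have z53 : Y 5 3 = 0 := hz 5 3 (Or.inl (by decide))
  have z54 : Y 5 4 = 0 := hz 5 4 (Or.inl (by decide))
  have z56 : Y 5 6 = 0 := hz 5 6 (Or.inl (by decide))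
  have z57 : Y 5 7 = 0 := hz 5 7 (Or.inr (by decide))
  have z60 : Y 6 0 = 0 := hz 6 0 (Or.inl (by decide))
  have z61 : Y 6 1 = 0 := hz 6 1 (Or.inr (by decide))
  have z62 : Y 6 2 = 0 := hz 6 2 (Or.inl (by decide))
  have z64 : Y 6 4 = 0 := hz 6 4 (Or.inr (by decide))
  have z65 : Y 6 5 = 0 := hz 6 5 (Or.inl (by decide))
  have z67 : Y 6 7 = 0 := hz 6 7 (Or.inl (by decide))
  have z71 : Y 7 1 = 0 := hz 7 1 (Or.inl (by decide))
  have z72 : Y 7 2 = 0 := hz 7 2 (Or.inr (by decide))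
  have z73 : Y 7 3 = 0 := hz 7 3 (Or.inl (by decide))
  have z74 : Y 7 4 = 0 := hz 7 4 (Or.inl (by decide))
  have z75 : Y 7 5 = 0 := hz 7 5 (Or.inr (by decide))
  have z76 : Y 7 6 = 0 := hz 7 6 (Or.inl (by decide))
  have haut := Yg_aut hy
  have hautE : ∀ i j, (fun p => Y p i) = (fun p => Y p i) → Y *ᵥ zornMul (eV i) (eV j) =
      zornMul (fun p => Y p i) (fun p => Y p j) := by
    intro i j _
    have := haut (eV i) (eV j)
    rwa [← hY, mul_eV, mul_eV] at this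
  have e01 : zornMul (eV 0) (eV 1) = eV 1 := by decide +kernel
  have e17 : zornMul (eV 1) (eV 7) = eV 1 := by decide +kernel
  have e71 : zornMul (eV 7) (eV 1) = 0 := by decide +kernel
  have e10' : zornMul (eV 1) (eV 0) = 0 := by decide +kernel
  have e14 : zornMul (eV 1) (eV 4) = eV 0 := by decide +kernel
  have a1 := congrFun (hautE 0 1 rfl) 1
  have a2 := congrFun (hautE 1 7 rfl) 1
  have a3 := congrFun (hautE 7 1 rfl) 1
  have a4 := congrFun (hautE 1 0 rfl) 1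
  have a5 := congrFun (hautE 1 4 rfl) 0
  rw [e01, mul_eV, zornMul_apply1] at a1
  rw [e17, mul_eV, zornMul_apply1] at a2
  rw [e71, Matrix.mulVec_zero, zornMul_apply1] at a3
  rw [e10', Matrix.mulVec_zero, zornMul_apply1] at a4
  rw [e14, mul_eV, zornMul_apply0] at a5
  simp only [Pi.zero_apply] at a3 a4
  simp only [z01, z10, z71, z17, z61, z51, z50, z60, z06, z76, z67, z75, z57, z74, z47, z21,
    z12, z31, z13, z40, z04, z20, z02, z30, z03, e1, ← e10, zero_mul, mul_zero, add_zero, zero_add,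
    sub_self, sub_zero] at a1 a2 a3 a4 a5
  have hne : Y 1 1 ≠ 0 := by
    intro h0
    have h1 : Y *ᵥ eV 1 = 0 := by
      rw [mul_eV]
      apply ext8 <;> simp [z01, z21, z31, ← e10, z51, z61, z71, h0]
    have h2 : ((y⁻¹ : GL (Fin 8) K4) : M8) *ᵥ (Y *ᵥ eV 1) = eV 1 := by
      rw [Matrix.mulVec_mulVec, hY, ← Units.val_mul, inv_mul_cancel, Units.val_one,
        Matrix.one_mulVec]
    rw [h1, Matrix.mulVec_zero] at h2
    have h3 := congrFun h2 1
    revert h3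
    decide
  have h00 : Y 0 0 = 1 := by
    have : (Y 0 0 - 1) * Y 1 1 = 0 := by rw [sub_mul, ← a1]; ring
    exact sub_eq_zero.mp ((mul_eq_zero.mp this).resolve_right hne)
  have h77 : Y 7 7 = 1 := by
    have : (Y 7 7 - 1) * Y 1 1 = 0 := by rw [sub_mul, ← a2]; ring
    exact sub_eq_zero.mp ((mul_eq_zero.mp this).resolve_right hne)
  have h07 : Y 0 7 = 0 := by
    have : Y 0 7 * Y 1 1 = 0 := a3.symm
    exact (mul_eq_zero.mp this).resolve_right hne
  have h70 : Y 7 0 = 0 := by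
    have : Y 7 0 * Y 1 1 = 0 := a4.symm
    exact (mul_eq_zero.mp this).resolve_right hne
  have h44 : Y 4 4 = Y 1 1 := by rw [e8, ← e6, e2]
  have h11 : Y 1 1 = 1 := by
    apply K4_sq_one
    rw [h00, h44] at a5
    exact a5.symm
  have h22 : Y 2 2 = 1 := by rw [← e6, e2, h11]
  have h33 : Y 3 3 = 1 := by rw [e2, h11]
  have h44' : Y 4 4 = 1 := by rw [h44, h11]
  have h66 : Y 6 6 = 1 := by rw [← e4, h44']
  have h55 : Y 5 5 = 1 := by rw [e7, h66]
  apply Units.ext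
  show Y = 1
  ext p q
  have e3' := e3.symm
  have e9' := e9.symm
  have e10'' := e10.symm
  fin_cases p <;> fin_cases q <;> simp [Matrix.one_apply] <;> assumption

lemma rel_unique {g : GL chevG2.Idx K4} {y y' : GL (Fin 8) K4} (h : Rel g y) (h' : Rel g y') :
    y = y' := by
  have h2 : Rel 1 (y'⁻¹ * y) := by
    have := h'.inv.mul h
    rwa [inv_mul_cancel] at this
  have h3 := y_eq_one_of_comm (y'⁻¹ * y) h2.1 (fun i => by
    have := h2.2 (Pi.single i 1)
    rw [Units.val_one, Matrix.one_mulVec, dHat_single] at this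
    exact this)
  exact (inv_mul_eq_one.mp h3).symm

/-- The group. -/
abbrev Lg : Type := ↥(chevG2.group K4)

/-- The action on the octonions. -/
noncomputable def phi : Lg →* GL (Fin 8) K4 where
  toFun g := Classical.choose (exists_rel g.1 g.2)
  map_one' := rel_unique (Classical.choose_spec (exists_rel _ (one_mem _))) Rel.one
  map_mul' a b := rel_unique (Classical.choose_spec (exists_rel _ (mul_mem a.2 b.2)))
    ((Classical.choose_spec (exists_rel a.1 a.2)).mul (Classical.choose_spec (exists_rel b.1 b.2)))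

lemma phi_rel (g : Lg) : Rel g.1 (phi g) := Classical.choose_spec (exists_rel g.1 g.2)

lemma phi_gen (r : Fin chevG2.nroots) (t : K4) (g : Lg)
    (hg : ((g.1 : GL chevG2.Idx K4) : Matrix chevG2.Idx chevG2.Idx K4) = chevG2.xMat K4 r t) :
    phi g = yU r t :=
  rel_unique (phi_rel g) (rel_gen r t g.1 hg)

/-- Positions where the derivations can be read. -/
def posI : chevG2.Idx → Fin 8 × Fin 8
  | Sum.inl ⟨0, _⟩ => (3, 3)
  | Sum.inl ⟨_, _⟩ => (2, 2)
  | Sum.inr ⟨0, _⟩ => (3, 1)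
  | Sum.inr ⟨1, _⟩ => (3, 2)
  | Sum.inr ⟨2, _⟩ => (0, 6)
  | Sum.inr ⟨3, _⟩ => (0, 1)
  | Sum.inr ⟨4, _⟩ => (0, 2)
  | Sum.inr ⟨5, _⟩ => (2, 1)
  | Sum.inr ⟨6, _⟩ => (1, 2)
  | Sum.inr ⟨7, _⟩ => (0, 5)
  | Sum.inr ⟨8, _⟩ => (0, 4)
  | Sum.inr ⟨9, _⟩ => (0, 3)
  | Sum.inr ⟨10, _⟩ => (2, 3)
  | Sum.inr ⟨_, _⟩ => (1, 3)

/-- One comparison. -/
def posCheck (k l : chevG2.Idx) : Bool :=
  decide (dI l (posI k).1 (posI k).2 = if l = k then 1 else 0)

theorem posCheck_all : ∀ k l, posCheck k l = true := by decide +kernel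

lemma dHat_pos (u : chevG2.Idx → K4) (k : chevG2.Idx) : dHat u (posI k).1 (posI k).2 = u k := by
  rw [dHat_apply, Matrix.sum_apply]
  simp only [Matrix.smul_apply, smul_eq_mul]
  simp_rw [fun l => (of_decide_eq_true (posCheck_all k l) :
    dI l (posI k).1 (posI k).2 = if l = k then 1 else 0)]
  simp

lemma dHat_injective : Function.Injective dHat := by
  intro u v h
  funext k
  rw [← dHat_pos u k, ← dHat_pos v k, h]

lemma phi_injective : Function.Injective phi := by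
  rw [injective_iff_map_eq_one]
  intro g hg
  have h := (phi_rel g).2
  rw [hg, Units.val_one] at h
  simp only [one_mul, mul_one] at h
  apply Subtype.ext
  apply Units.ext
  ext i j
  have h1 := dHat_injective (h (Pi.single j 1))
  have h2 := congrFun h1 i
  rw [Matrix.mulVec_single_one] at h2
  simpa [Matrix.one_apply, Pi.single_apply] using h2.symm

end Cfsg.Agent.Lib.G24Rel
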