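import Mathlib
import Cfsg.Agent.Lib.OrthMatrix
import Cfsg.Agent.Lib.OrthLagr

/-!
# The hyperbolic quadratic form `Σ x_i y_i` and its maximal totally singular subspaces
-/

set_option autoImplicit false
set_option linter.unusedSectionVars false
set_option linter.unusedSimpArgs false

namespace Cfsg.Agent.Lib.OrthPlus

open Module Matrix
open scoped MatrixGroups
open Cfsg.Agent.Lib.OrthGroup Cfsg.Agent.Lib.OrthOmega Cfsg.Agent.Lib.OrthLagr Cfsg.Agent.Lib.OrthMatrix

section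
variable (m : ℕ) (F : Type*) [Field F]

/-- The auxiliary sum of products. -/
noncomputable def quadPlus₀ : QuadraticForm F (Fin m ⊕ Fin m → F) :=
  ∑ i : Fin m, QuadraticMap.linMulLin (LinearMap.proj (Sum.inl i)) (LinearMap.proj (Sum.inr i))

theorem quadPlus₀_apply (v : Fin m ⊕ Fin m → F) : quadPlus₀ m F v = Cfsg.quadFormPlus m F v := by
  simp [quadPlus₀, Cfsg.quadFormPlus, QuadraticMap.linMulLin_apply]

/-- The hyperbolic form, with underlying function `Cfsg.quadFormPlus m F`. -/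
noncomputable def quadPlus : QuadraticForm F (Fin m ⊕ Fin m → F) where
  toFun := Cfsg.quadFormPlus m F
  toFun_smul a x := by
    rw [← quadPlus₀_apply, ← quadPlus₀_apply]
    exact QuadraticMap.map_smul _ a x
  exists_companion' := by
    obtain ⟨B, hB⟩ := (quadPlus₀ m F).exists_companion
    exact ⟨B, fun x y => by simpa only [quadPlus₀_apply] using hB x y⟩

theorem coe_quadPlus : ⇑(quadPlus m F) = Cfsg.quadFormPlus m F := rfl

theorem quadPlus_apply (v : Fin m ⊕ Fin m → F) :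
    quadPlus m F v = ∑ i : Fin m, v (.inl i) * v (.inr i) := rfl

theorem B_quadPlus (x y : Fin m ⊕ Fin m → F) :
    B (quadPlus m F) x y = ∑ i : Fin m, (x (.inl i) * y (.inr i) + y (.inl i) * x (.inr i)) := by
  rw [B_apply, quadPlus_apply, quadPlus_apply, quadPlus_apply, ← Finset.sum_sub_distrib,
    ← Finset.sum_sub_distrib]
  refine Finset.sum_congr rfl fun i _ => ?_
  simp only [Pi.add_apply]
  ring

theorem quadPlus_nondeg : (B (quadPlus m F)).Nondegenerate := by
  have key : ∀ x : Fin m ⊕ Fin m → F, (∀ y, B (quadPlus m F) x y = 0) → x = 0 := by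
    classical
    intro x hx
    funext i
    rcases i with i | i
    · have := hx (Pi.single (Sum.inr i) 1)
      rw [B_quadPlus, Finset.sum_eq_single i] at this
      · simpa [Pi.single_apply] using this
      · intro j _ hj
        simp [Pi.single_apply, hj]
      · simp
    · have := hx (Pi.single (Sum.inl i) 1)
      rw [B_quadPlus, Finset.sum_eq_single i] at this
      · simpa [Pi.single_apply] using this
      · intro j _ hj
        simp [Pi.single_apply, hj]
      · simp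
  refine ⟨key, ?_⟩
  intro x hx
  apply key
  intro y
  rw [B_comm]
  exact hx y

theorem finrank_plus : finrank F (Fin m ⊕ Fin m → F) = 2 * m := by
  rw [Module.finrank_fintype_fun_eq_card]
  simp only [Fintype.card_sum, Fintype.card_fin]
  ring

/-- The standard maximal totally singular subspace. -/
abbrev U₀ : Submodule F (Fin m ⊕ Fin m → F) :=
  LinearMap.ker (LinearMap.funLeft F F (Sum.inr : Fin m → Fin m ⊕ Fin m))

variable {m F}

theorem mem_U₀ {v : Fin m ⊕ Fin m → F} : v ∈ U₀ m F ↔ ∀ i, v (.inr i) = 0 := by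
  rw [LinearMap.mem_ker]
  constructor
  · intro h i
    exact congrFun h i
  · intro h
    funext i
    exact h i

variable (m F)

theorem finrank_U₀ : finrank F (U₀ m F) = m := by
  have h : finrank F (LinearMap.range (LinearMap.funLeft F F (Sum.inr : Fin m → Fin m ⊕ Fin m))) +
      finrank F (U₀ m F) = finrank F (Fin m ⊕ Fin m → F) := LinearMap.finrank_range_add_finrank_ker
    (LinearMap.funLeft F F (Sum.inr : Fin m → Fin m ⊕ Fin m))
  have hs : Function.Surjective (LinearMap.funLeft F F (Sum.inr : Fin m → Fin m ⊕ Fin m)) :=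
    LinearMap.funLeft_surjective_of_injective F F _ Sum.inr_injective
  rw [LinearMap.range_eq_top.2 hs, finrank_top, finrank_plus, Module.finrank_fintype_fun_eq_card,
    Fintype.card_fin] at h
  omega

theorem isLag_U₀ : IsLag (quadPlus m F) m (U₀ m F) where
  ts := by
    intro v hv
    rw [quadPlus_apply]
    exact Finset.sum_eq_zero fun i _ => by rw [mem_U₀.1 hv i, mul_zero]
  dim := finrank_U₀ m F

end

section Det

variable {F : Type*} [Field F] {ι : Type} [Fintype ι] [DecidableEq ι]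

theorem det_eq_det_toO (Q : QuadraticForm F (ι → F)) (g : ↥(Cfsg.isometryGroup F ⇑Q)) :
    ((g : GL ι F) : Matrix ι ι F).det =
      LinearMap.det (((toO Q g : (ι → F) ≃ₗ[F] (ι → F))) : (ι → F) →ₗ[F] (ι → F)) := by
  rw [toO_coe, coe_glEquiv]
  exact (LinearMap.det_toLin' _).symm

theorem mulVecLin_toO (Q : QuadraticForm F (ι → F)) (g : ↥(Cfsg.isometryGroup F ⇑Q)) :
    Matrix.mulVecLin ((g : GL ι F) : Matrix ι ι F) =
      (((toO Q g : (ι → F) ≃ₗ[F] (ι → F))) : (ι → F) →ₗ[F] (ι → F)) := by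
  rw [toO_coe, coe_glEquiv]

theorem mulVecLin_toO_symm (Q : QuadraticForm F (ι → F)) (x : ↥(O Q)) :
    Matrix.mulVecLin ((((toO Q).symm x : ↥(Cfsg.isometryGroup F ⇑Q)) : GL ι F) : Matrix ι ι F) =
      ((x : (ι → F) ≃ₗ[F] (ι → F)) : (ι → F) →ₗ[F] (ι → F)) := by
  rw [mulVecLin_toO, MulEquiv.apply_symm_apply]

variable {V : Type*} [AddCommGroup V] [Module F V] [FiniteDimensional F V]

theorem det_refl (Q : QuadraticForm F V) {v : V} (hv : Q v ≠ 0) :
    LinearMap.det ((refl Q v : V ≃ₗ[F] V) : V →ₗ[F] V) = -1 := by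
  have hv0 : v ≠ 0 := fun h => hv (by rw [h]; simp)
  let f : Module.Dual F V := -((Q v)⁻¹ • ((B Q).flip v))
  have h1 : ((refl Q v : V ≃ₗ[F] V) : V →ₗ[F] V) = LinearMap.transvection f v := by
    ext x
    show refl Q v x = _
    rw [refl_apply, LinearMap.transvection.apply]
    simp only [f, LinearMap.neg_apply, LinearMap.smul_apply, LinearMap.flip_apply, smul_eq_mul,
      neg_smul, sub_eq_add_neg]
  have h2 : f v = -2 := by
    simp only [f, LinearMap.neg_apply, LinearMap.smul_apply, LinearMap.flip_apply, smul_eq_mul]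
    rw [B_self]
    field_simp
  rw [h1, LinearMap.transvection.det, h2]
  ring

theorem det_prodR (Q : QuadraticForm F V) (L : List V) (hL : ∀ v ∈ L, Q v ≠ 0) :
    LinearMap.det ((prodR Q L : V ≃ₗ[F] V) : V →ₗ[F] V) = (-1) ^ L.length := by
  induction L with
  | nil =>
    simp only [prodR_nil, List.length_nil, pow_zero]
    exact LinearMap.det_id
  | cons v L ih =>
    have hv := hL v List.mem_cons_self
    have h1 := ih (fun w hw => hL w (List.mem_cons_of_mem _ hw))
    rw [prodR_cons]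
    have : ((refl Q v * prodR Q L : V ≃ₗ[F] V) : V →ₗ[F] V) =
        ((refl Q v : V ≃ₗ[F] V) : V →ₗ[F] V) ∘ₗ ((prodR Q L : V ≃ₗ[F] V) : V →ₗ[F] V) := rfl
    rw [this, LinearMap.det_comp, det_refl Q hv, h1, List.length_cons, pow_succ]
    ring

end Det

section Stab

variable {m : ℕ} {F : Type*} [Field F]

/-- An isometry of the hyperbolic form that stabilises `U₀` has determinant one. -/
theorem det_eq_one_of_stab (M : Matrix (Fin m ⊕ Fin m) (Fin m ⊕ Fin m) F)
    (hM : ∀ u, Cfsg.quadFormPlus m F (M *ᵥ u) = Cfsg.quadFormPlus m F u)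
    (hU : ∀ v ∈ U₀ m F, M *ᵥ v ∈ U₀ m F) : M.det = 1 := by
  have hbil : ∀ x y, B (quadPlus m F) (M *ᵥ x) (M *ᵥ y) = B (quadPlus m F) x y := by
    intro x y
    rw [B_apply, B_apply, ← Matrix.mulVec_add]
    show Cfsg.quadFormPlus m F _ - Cfsg.quadFormPlus m F _ - Cfsg.quadFormPlus m F _ =
      Cfsg.quadFormPlus m F _ - Cfsg.quadFormPlus m F _ - Cfsg.quadFormPlus m F _
    rw [hM, hM, hM]
  obtain ⟨A, Bb, C, D, rfl⟩ : ∃ A Bb C D, M = fromBlocks A Bb C D :=
    ⟨_, _, _, _, (Matrix.fromBlocks_toBlocks M).symm⟩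
  have hC : C = 0 := by
    rw [matrix_eq_iff]
    intro a
    rw [Matrix.zero_mulVec]
    funext i
    have h1 : (Sum.elim a 0 : Fin m ⊕ Fin m → F) ∈ U₀ m F := mem_U₀.2 fun _ => rfl
    have h2 := mem_U₀.1 (hU _ h1) i
    rw [fromBlocks_mulVec] at h2
    simpa using h2
  subst hC
  have hdot : ∀ a b : Fin m → F, (A *ᵥ a) ⬝ᵥ (D *ᵥ b) = a ⬝ᵥ b := by
    intro a b
    have h := hbil (Sum.elim a 0) (Sum.elim 0 b)
    rw [fromBlocks_mulVec, fromBlocks_mulVec, B_quadPlus, B_quadPlus] at h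
    simpa [dotProduct] using h
  have hAD : Aᵀ * D = 1 := by
    rw [matrix_eq_iff]
    intro b
    rw [Matrix.one_mulVec, ← Matrix.mulVec_mulVec]
    apply dotProduct_eq
    intro a
    rw [dotProduct_comm, Matrix.dotProduct_mulVec, Matrix.vecMul_transpose, hdot, dotProduct_comm]
  rw [Matrix.det_fromBlocks_zero₂₁, ← Matrix.det_transpose A, ← Matrix.det_mul, hAD, Matrix.det_one]

/-- An isometry of the hyperbolic form has determinant `(-1)^k`, where `k` is the distance of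
the image of `U₀` from `U₀`. -/
theorem det_eq_neg_one_pow (g : ↥(Cfsg.isometryGroup F ⇑(quadPlus m F))) :
    ((g : GL (Fin m ⊕ Fin m) F) : Matrix (Fin m ⊕ Fin m) (Fin m ⊕ Fin m) F).det =
      (-1) ^ (m - finrank F ↥(U₀ m F ⊓ (U₀ m F).map
        (Matrix.mulVecLin ((g : GL (Fin m ⊕ Fin m) F) : Matrix (Fin m ⊕ Fin m) (Fin m ⊕ Fin m) F)))) := by
  have hQ : (B (quadPlus m F)).Nondegenerate := quadPlus_nondeg m F
  have hV := finrank_plus m F
  have hU := isLag_U₀ m F
  obtain ⟨g', hg'⟩ : ∃ g', g' = toO (quadPlus m F) g := ⟨_, rfl⟩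
  have hmapg : (U₀ m F).map (Matrix.mulVecLin ((g : GL (Fin m ⊕ Fin m) F) : Matrix (Fin m ⊕ Fin m) (Fin m ⊕ Fin m) F)) =
      (U₀ m F).map ((g'.1 : _ ≃ₗ[F] _) : (Fin m ⊕ Fin m → F) →ₗ[F] (Fin m ⊕ Fin m → F)) := by
    rw [hg', toO_coe, coe_glEquiv]
  have hW : IsLag (quadPlus m F) m ((U₀ m F).map ((g'.1 : _ ≃ₗ[F] _) : (Fin m ⊕ Fin m → F) →ₗ[F] (Fin m ⊕ Fin m → F))) :=
    hU.map g'.2
  rw [hmapg]
  obtain ⟨L, hL, hk, hmap⟩ := exists_chain hQ hV hU _ _ hW rfl
  rw [← hk]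
  have hL' : ∀ v ∈ L, (quadPlus m F) v ≠ 0 := by
    intro v hv
    rw [hL v hv]
    exact neg_ne_zero.2 one_ne_zero
  let s : ↥(Cfsg.isometryGroup F ⇑(quadPlus m F)) := (toO (quadPlus m F)).symm (prodO (quadPlus m F) L) * g
  have hs1 : ∀ x, ((s : GL (Fin m ⊕ Fin m) F) : Matrix (Fin m ⊕ Fin m) (Fin m ⊕ Fin m) F) *ᵥ x =
      prodR (quadPlus m F) L (g'.1 x) := by
    intro x
    rw [← toO_apply, map_mul, MulEquiv.apply_symm_apply, hg']
    rfl
  have hsdet := det_eq_one_of_stab ((s : GL (Fin m ⊕ Fin m) F) : Matrix (Fin m ⊕ Fin m) (Fin m ⊕ Fin m) F)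
    (fun u => (mem_isometryGroup _ _).1 s.2 u) (by
      intro v hv
      rw [hs1]
      have : prodR (quadPlus m F) L (g'.1 v) ∈ ((U₀ m F).map ((g'.1 : _ ≃ₗ[F] _) : (Fin m ⊕ Fin m → F) →ₗ[F] (Fin m ⊕ Fin m → F))).map
          ((prodR (quadPlus m F) L : _ ≃ₗ[F] _) : (Fin m ⊕ Fin m → F) →ₗ[F] (Fin m ⊕ Fin m → F)) :=
        ⟨_, ⟨v, hv, rfl⟩, rfl⟩
      rwa [hmap] at this)
  have hsmul : ((s : GL (Fin m ⊕ Fin m) F) : Matrix (Fin m ⊕ Fin m) (Fin m ⊕ Fin m) F) =
      ((((toO (quadPlus m F)).symm (prodO (quadPlus m F) L) : ↥(Cfsg.isometryGroup F ⇑(quadPlus m F))) : GL (Fin m ⊕ Fin m) F) : Matrix (Fin m ⊕ Fin m) (Fin m ⊕ Fin m) F) *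
        ((g : GL (Fin m ⊕ Fin m) F) : Matrix (Fin m ⊕ Fin m) (Fin m ⊕ Fin m) F) := rfl
  rw [hsmul, Matrix.det_mul, det_eq_det_toO (quadPlus m F) ((toO (quadPlus m F)).symm (prodO (quadPlus m F) L)), MulEquiv.apply_symm_apply] at hsdet
  have h1 := det_prodR (quadPlus m F) L hL'
  rw [prodO_coe, h1] at hsdet
  have hhalf : ((-1 : F) ^ L.length) * (-1) ^ L.length = 1 := by
    rw [← mul_pow]
    simp
  calc _ = ((-1 : F) ^ L.length) * (-1) ^ L.length * ((g : GL (Fin m ⊕ Fin m) F) : Matrix (Fin m ⊕ Fin m) (Fin m ⊕ Fin m) F).det := by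
        rw [hhalf, one_mul]
    _ = _ := by
        rw [mul_assoc, hsdet, mul_one]

end Stab

end Cfsg.Agent.Lib.OrthPlus
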