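import Mathlib
import Cfsg.Agent.Lib.OrthMatrix

/-!
# The invariant of an isometry over a finite field: parity of the number of reflections, and the
square class of the product of their values.  Its kernel is the commutator subgroup.
-/

set_option autoImplicit false
set_option linter.unusedSectionVars false
set_option linter.unusedSimpArgs false

namespace Cfsg.Agent.Lib.OrthPsi

open Module Matrix
open scoped MatrixGroups
open Cfsg.Agent.Lib.OrthGroup Cfsg.Agent.Lib.OrthOmega Cfsg.Agent.Lib.OrthMatrix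

section sg
variable {F : Type*} [Field F] [Fintype F]

open Classical in
/-- the square class as a sign. -/
noncomputable def sg (a : F) : ℤˣ := if IsSquare a then 1 else -1

theorem sg_of_isSquare {a : F} (h : IsSquare a) : sg a = 1 := by
  classical
  simp [sg, h]

theorem sg_of_not_isSquare {a : F} (h : ¬ IsSquare a) : sg a = -1 := by
  classical
  simp [sg, h]

theorem isSquare_of_sg {a : F} (h : sg a = 1) : IsSquare a := by
  by_contra hn
  rw [sg_of_not_isSquare hn] at h
  exact absurd h (by decide)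

theorem sg_coe [DecidableEq F] {a : F} (ha : a ≠ 0) : ((sg a : ℤˣ) : ℤ) = quadraticChar F a := by
  by_cases h : IsSquare a
  · rw [sg_of_isSquare h, (quadraticChar_one_iff_isSquare ha).2 h]
    rfl
  · rw [sg_of_not_isSquare h, (quadraticChar_neg_one_iff_not_isSquare).2 h]
    rfl

theorem sg_mul {a b : F} (ha : a ≠ 0) (hb : b ≠ 0) : sg (a * b) = sg a * sg b := by
  classical
  apply Units.ext
  rw [Units.val_mul, sg_coe ha, sg_coe hb, sg_coe (mul_ne_zero ha hb), map_mul]

theorem sg_eq_of_isSquare_mul {a b : F} (ha : a ≠ 0) (hb : b ≠ 0) (h : IsSquare (a * b)) :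
    sg a = sg b := by
  have h1 := sg_mul ha hb
  rw [sg_of_isSquare h] at h1
  have h2 : sg b * sg b = 1 := Int.units_mul_self _
  calc sg a = sg a * (sg b * sg b) := by rw [h2, mul_one]
    _ = (sg a * sg b) * sg b := by rw [mul_assoc]
    _ = sg b := by rw [← h1, one_mul]

end sg

variable {F V : Type*} [Field F] [Fintype F] [AddCommGroup V] [Module F V] [FiniteDimensional F V]
variable {Q : QuadraticForm F V}

theorem prod_map_ne_zero {L : List V} (hL : ∀ v ∈ L, Q v ≠ 0) : (L.map Q).prod ≠ 0 := by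
  induction L with
  | nil => simp
  | cons v L ih =>
    simp only [List.map_cons, List.prod_cons]
    exact mul_ne_zero (hL v List.mem_cons_self) (ih fun w hw => hL w (List.mem_cons_of_mem _ hw))

/-- the invariant of a list of vectors. -/
noncomputable def inv (Q : QuadraticForm F V) (L : List V) : ℤˣ × ℤˣ :=
  ((-1) ^ L.length, sg (L.map Q).prod)

theorem inv_append {L L' : List V} (hL : ∀ v ∈ L, Q v ≠ 0) (hL' : ∀ v ∈ L', Q v ≠ 0) :
    inv Q (L ++ L') = inv Q L * inv Q L' := by
  simp only [inv, List.length_append, List.map_append, List.prod_append, Prod.mk_mul_mk, pow_add]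
  rw [sg_mul (prod_map_ne_zero hL) (prod_map_ne_zero hL')]

theorem inv_eq_of_prodO_eq (hQ : (B Q).Nondegenerate) {L L' : List V} (hL : ∀ v ∈ L, Q v ≠ 0)
    (hL' : ∀ v ∈ L', Q v ≠ 0) (h : prodO Q L = prodO Q L') : inv Q L = inv Q L' := by
  obtain ⟨h1, h2⟩ := invariant_of_prodR_eq hQ hL hL' (congrArg Subtype.val h)
  have h3 : ((-1 : ℤˣ) ^ L.length) = (-1) ^ L'.length := by
    have h4 : ((-1 : ℤˣ) ^ L.length) * (-1) ^ L'.length = 1 := by
      rw [← pow_add]
      exact h1.neg_one_pow
    have h5 : ((-1 : ℤˣ) ^ L'.length) * (-1) ^ L'.length = 1 := Int.units_mul_self _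
    calc ((-1 : ℤˣ) ^ L.length) = ((-1 : ℤˣ) ^ L.length) * (((-1 : ℤˣ) ^ L'.length) * (-1) ^ L'.length) := by
          rw [h5, mul_one]
      _ = (-1) ^ L'.length := by rw [← mul_assoc, h4, one_mul]
  simp only [inv, h3, sg_eq_of_isSquare_mul (prod_map_ne_zero hL) (prod_map_ne_zero hL') h2]

/-- A list for an element. -/
theorem exists_list (hOG : O Q ≤ G Q) (g : ↥(O Q)) :
    ∃ L : List V, (∀ v ∈ L, Q v ≠ 0) ∧ g = prodO Q L := by
  obtain ⟨L, hL, hg⟩ := exists_list_of_mem_G (hOG g.2)
  exact ⟨L, hL, Subtype.ext hg⟩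

/-- The invariant as a homomorphism. -/
noncomputable def psi (hQ : (B Q).Nondegenerate) (hOG : O Q ≤ G Q) : ↥(O Q) →* ℤˣ × ℤˣ where
  toFun g := inv Q (exists_list hOG g).choose
  map_one' := by
    obtain ⟨h1, h2⟩ := (exists_list hOG (1 : ↥(O Q))).choose_spec
    refine (inv_eq_of_prodO_eq hQ h1 (L' := []) (by simp) (by rw [← h2]; simp)).trans ?_
    simp only [inv, List.length_nil, pow_zero, List.map_nil, List.prod_nil]
    rw [sg_of_isSquare IsSquare.one]
    rfl
  map_mul' a b := by
    obtain ⟨h1, h2⟩ := (exists_list hOG a).choose_spec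
    obtain ⟨h3, h4⟩ := (exists_list hOG b).choose_spec
    obtain ⟨h5, h6⟩ := (exists_list hOG (a * b)).choose_spec
    rw [← inv_append h1 h3]
    refine inv_eq_of_prodO_eq hQ h5 ?_ ?_
    · intro v hv
      rcases List.mem_append.1 hv with h | h
      · exact h1 v h
      · exact h3 v h
    · rw [← h6, prodO_append, ← h2, ← h4]

theorem psi_prodO (hQ : (B Q).Nondegenerate) (hOG : O Q ≤ G Q) {L : List V} (hL : ∀ v ∈ L, Q v ≠ 0) :
    psi hQ hOG (prodO Q L) = inv Q L := by
  obtain ⟨h1, h2⟩ := (exists_list hOG (prodO Q L)).choose_spec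
  exact inv_eq_of_prodO_eq hQ h1 hL h2.symm

theorem psi_reflO (hQ : (B Q).Nondegenerate) (hOG : O Q ≤ G Q) {v : V} (hv : Q v ≠ 0) :
    psi hQ hOG (reflO Q v) = (-1, sg (Q v)) := by
  have h := psi_prodO hQ hOG (L := [v]) (by simpa using hv)
  have h2 : prodO Q [v] = reflO Q v := by
    rw [prodO_cons, prodO_nil, mul_one]
  rw [h2] at h
  rw [h]
  simp [inv]

theorem inv_eq_one_iff {L : List V} : inv Q L = 1 ↔ Even L.length ∧ IsSquare (L.map Q).prod := by
  constructor
  · intro h
    have h1 := congrArg Prod.fst h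
    have h2 := congrArg Prod.snd h
    simp only [inv, Prod.fst_one, Prod.snd_one] at h1 h2
    refine ⟨?_, isSquare_of_sg h2⟩
    by_contra hodd
    rw [Nat.not_even_iff_odd] at hodd
    rw [hodd.neg_one_pow] at h1
    exact absurd h1 (by decide)
  · rintro ⟨h1, h2⟩
    simp only [inv, h1.neg_one_pow, sg_of_isSquare h2]
    rfl

theorem ker_psi (hQ : (B Q).Nondegenerate) (hOG : O Q ≤ G Q) :
    (psi hQ hOG).ker = commutator ↥(O Q) := by
  ext g
  rw [MonoidHom.mem_ker, mem_commutator_iff hQ hOG]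
  constructor
  · intro h
    obtain ⟨L, hL, rfl⟩ := exists_list hOG g
    rw [psi_prodO hQ hOG hL, inv_eq_one_iff] at h
    exact ⟨L, hL, rfl, h.1, h.2⟩
  · rintro ⟨L, hL, rfl, h1, h2⟩
    rw [psi_prodO hQ hOG hL, inv_eq_one_iff]
    exact ⟨h1, h2⟩

/-- Index 4 when there are values in both square classes. -/
theorem index_commutator_of_values (hQ : (B Q).Nondegenerate) (hOG : O Q ≤ G Q) {a b : V}
    (ha0 : Q a ≠ 0) (ha : IsSquare (Q a)) (hb : ¬ IsSquare (Q b)) :
    (commutator ↥(O Q)).index = 4 := by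
  have hb0 : Q b ≠ 0 := fun h => hb (by rw [h]; exact IsSquare.zero)
  have hsurj : Function.Surjective (psi hQ hOG) := by
    have h1 := psi_reflO hQ hOG ha0
    have h2 := psi_reflO hQ hOG hb0
    rw [sg_of_isSquare ha] at h1
    rw [sg_of_not_isSquare hb] at h2
    rintro ⟨x, y⟩
    rcases Int.units_eq_one_or x with rfl | rfl <;> rcases Int.units_eq_one_or y with rfl | rfl
    · exact ⟨1, map_one _⟩
    · refine ⟨reflO Q a * reflO Q b, ?_⟩
      rw [map_mul, h1, h2]
      rfl
    · exact ⟨_, h1⟩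
    · exact ⟨_, h2⟩
  rw [← ker_psi hQ hOG, Subgroup.index_ker, MonoidHom.range_eq_top_of_surjective _ hsurj]
  simp only [Subgroup.card_top]
  rw [Nat.card_prod]
  simp

/-- Index 2 when all values are squares and there is a non-singular vector. -/
theorem index_commutator_of_all_squares (hQ : (B Q).Nondegenerate) (hOG : O Q ≤ G Q)
    (hsq : ∀ c : F, IsSquare c) {a : V} (ha0 : Q a ≠ 0) :
    (commutator ↥(O Q)).index = 2 := by
  let par : ↥(O Q) →* ℤˣ := (MonoidHom.fst ℤˣ ℤˣ).comp (psi hQ hOG)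
  have hker : par.ker = commutator ↥(O Q) := by
    rw [← ker_psi hQ hOG]
    ext g
    simp only [MonoidHom.mem_ker, MonoidHom.comp_apply, MonoidHom.coe_fst, par]
    constructor
    · intro h
      obtain ⟨L, hL, rfl⟩ := exists_list hOG g
      rw [psi_prodO hQ hOG hL] at h ⊢
      exact Prod.ext h (sg_of_isSquare (hsq _))
    · intro h
      rw [h]
      rfl
  have hsurj : Function.Surjective par := by
    have h1 := psi_reflO hQ hOG ha0
    intro x
    rcases Int.units_eq_one_or x with rfl | rfl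
    · exact ⟨1, map_one _⟩
    · refine ⟨reflO Q a, ?_⟩
      simp only [par, MonoidHom.comp_apply, h1, MonoidHom.coe_fst]
  rw [← hker, Subgroup.index_ker, MonoidHom.range_eq_top_of_surjective _ hsurj]
  simp

end Cfsg.Agent.Lib.OrthPsi
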