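import Mathlib
import Cfsg.Agent.Lib.OrthLagr
import Cfsg.Agent.Lib.OrthMatrix

/-!
# Transitivity of the commutator subgroup of the orthogonal group
-/

set_option autoImplicit false
set_option linter.unusedSectionVars false
set_option linter.unusedSimpArgs false

namespace Cfsg.Agent.Lib.OrthTrans

open Module Matrix
open scoped MatrixGroups
open Cfsg.Agent.Lib.OrthGroup Cfsg.Agent.Lib.OrthOmega Cfsg.Agent.Lib.OrthLagr Cfsg.Agent.Lib.OrthMatrix

variable {F V : Type*} [Field F] [AddCommGroup V] [Module F V] [FiniteDimensional F V]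
variable {Q : QuadraticForm F V}

/-- If the images of all reflections come from a subgroup `S`, every element is in `Ω S`. -/
theorem exists_mul_inv_mem_commutator (hOG : O Q ≤ G Q) (S : Subgroup ↥(O Q))
    (hS : ∀ v, Q v ≠ 0 → ∃ t ∈ S, Abelianization.of (reflO Q v) = Abelianization.of t)
    (h : ↥(O Q)) : ∃ t ∈ S, h * t⁻¹ ∈ commutator ↥(O Q) := by
  obtain ⟨L, hL, hx⟩ := exists_list_of_mem_G (hOG h.2)
  have hh : h = prodO Q L := Subtype.ext hx
  have key : ∀ L : List V, (∀ v ∈ L, Q v ≠ 0) → ∃ t ∈ S, Abelianization.of (prodO Q L) = Abelianization.of t := by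
    intro L
    induction L with
    | nil => exact fun _ => ⟨1, S.one_mem, by simp⟩
    | cons v L ih =>
      intro hL
      obtain ⟨t₁, ht₁, h₁⟩ := hS v (hL v List.mem_cons_self)
      obtain ⟨t₂, ht₂, h₂⟩ := ih (fun w hw => hL w (List.mem_cons_of_mem _ hw))
      refine ⟨t₁ * t₂, S.mul_mem ht₁ ht₂, ?_⟩
      rw [prodO_cons, map_mul, map_mul, h₁, h₂]
  obtain ⟨t, ht, hof⟩ := key L hL
  refine ⟨t, ht, ?_⟩
  rw [mem_commutator_iff_of, map_mul, map_inv, hh, hof, mul_inv_cancel]

/-- The stabiliser of a subspace, as a subgroup of `O Q`. -/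
def stab (Q : QuadraticForm F V) (U : Submodule F V) : Subgroup ↥(O Q) where
  carrier := {g | ∀ x ∈ U, (g : V ≃ₗ[F] V) x ∈ U}
  mul_mem' {a b} ha hb x hx := ha _ (hb x hx)
  one_mem' x hx := hx
  inv_mem' {a} ha x hx := by
    -- a permutes U by finite dimensionality
    have hinj : Function.Injective (fun u : U => (⟨(a : V ≃ₗ[F] V) u, ha u u.2⟩ : U)) := by
      intro p q hpq
      apply Subtype.ext
      exact (a : V ≃ₗ[F] V).injective (congrArg Subtype.val hpq)
    let f : U →ₗ[F] U :=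
      { toFun := fun u => ⟨(a : V ≃ₗ[F] V) u, ha u u.2⟩
        map_add' := fun p q => by
          apply Subtype.ext
          simp
        map_smul' := fun c p => by
          apply Subtype.ext
          simp }
    have hsurj : Function.Surjective f := LinearMap.injective_iff_surjective.1 hinj
    obtain ⟨u, hu⟩ := hsurj ⟨x, hx⟩
    have hu' : (a : V ≃ₗ[F] V) u = x := congrArg Subtype.val hu
    have : ((a⁻¹ : ↥(O Q)) : V ≃ₗ[F] V) x = u := by
      rw [← hu']
      show (a : V ≃ₗ[F] V)⁻¹ _ = _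
      exact inv_apply_self _ _
    rw [this]
    exact u.2

theorem map_eq_of_mem_stab {U : Submodule F V} {g : ↥(O Q)} (hg : g ∈ stab Q U) :
    U.map ((g : V ≃ₗ[F] V) : V →ₗ[F] V) = U := by
  apply le_antisymm
  · rintro _ ⟨x, hx, rfl⟩
    exact hg x hx
  · intro x hx
    have h2 := (stab Q U).inv_mem hg x hx
    refine ⟨_, h2, ?_⟩
    show (g : V ≃ₗ[F] V) ((g : V ≃ₗ[F] V)⁻¹ x) = x
    exact apply_inv_self _ _

/-- Moving `U` to `W` inside `Ω`: the abstract criterion. -/
theorem exists_omega_map_eq (hOG : O Q ≤ G Q) {U W : Submodule F V}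
    (hS : ∀ v, Q v ≠ 0 → ∃ t ∈ stab Q U, Abelianization.of (reflO Q v) = Abelianization.of t)
    {h : ↥(O Q)} (hh : U.map ((h : V ≃ₗ[F] V) : V →ₗ[F] V) = W) :
    ∃ g ∈ commutator ↥(O Q), U.map ((g : V ≃ₗ[F] V) : V →ₗ[F] V) = W := by
  obtain ⟨t, ht, hmem⟩ := exists_mul_inv_mem_commutator hOG (stab Q U) hS h
  refine ⟨h * t⁻¹, hmem, ?_⟩
  have ht' := map_eq_of_mem_stab ((stab Q U).inv_mem ht)
  rw [← hh]
  conv_rhs => rw [← ht']
  ext x
  simp only [Submodule.mem_map]
  constructor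
  · rintro ⟨y, hy, rfl⟩
    exact ⟨_, ⟨y, hy, rfl⟩, rfl⟩
  · rintro ⟨_, ⟨y, hy, rfl⟩, rfl⟩
    exact ⟨y, hy, rfl⟩

/-- All reflections have one image in the abelianisation, in characteristic two (finite field). -/
theorem of_reflO_eq_char_two [Fintype F] [CharP F 2] (hQ : (B Q).Nondegenerate) {v w : V}
    (hv : Q v ≠ 0) (hw : Q w ≠ 0) :
    Abelianization.of (reflO Q v) = Abelianization.of (reflO Q w) := by
  obtain ⟨c, hc⟩ := isSquare_char_two (F := F) (Q v / Q w)
  have hc0 : c ≠ 0 := by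
    rintro rfl
    rw [mul_zero] at hc
    exact div_ne_zero hv hw hc
  refine of_reflO_eq hQ hv hw hc0 ?_
  rw [← hc]
  field_simp

end Cfsg.Agent.Lib.OrthTrans
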