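import Mathlib
import Cfsg.Agent.Lib.OrthTrans

/-!
# Transitivity of Ω on non-degenerate and on totally singular subspaces
-/

set_option autoImplicit false
set_option linter.unusedSectionVars false
set_option linter.unusedSimpArgs false

namespace Cfsg.Agent.Lib.OrthTrans2

open Module Matrix Polynomial
open Cfsg.Agent.Lib.OrthGroup Cfsg.Agent.Lib.OrthOmega Cfsg.Agent.Lib.OrthLagr
open Cfsg.Agent.Lib.OrthMatrix Cfsg.Agent.Lib.OrthTrans

variable {F V : Type*} [Field F] [AddCommGroup V] [Module F V] [FiniteDimensional F V]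
variable {Q : QuadraticForm F V}

theorem exists_nonsingular_of_inf_orth {X : Submodule F V} (hX : X ⊓ orth Q X = ⊥) (hne : X ≠ ⊥) :
    ∃ z ∈ X, Q z ≠ 0 := by
  obtain ⟨w, hw, hw0⟩ := Submodule.exists_mem_ne_zero_of_ne_bot hne
  have hnot : w ∉ orth Q X := fun h => hw0 (by
    have : w ∈ X ⊓ orth Q X := ⟨hw, h⟩
    rw [hX] at this
    simpa using this)
  rw [mem_orth] at hnot
  push Not at hnot
  obtain ⟨u, hu, hB⟩ := hnot
  by_contra hall
  push Not at hall
  apply hB
  rw [B_apply, hall _ (X.add_mem hu hw), hall _ hu, hall _ hw]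
  simp

theorem ne_bot_of_two_le {X : Submodule F V} (hd : 2 ≤ finrank F X) : X ≠ ⊥ := by
  rintro rfl
  simp at hd

/-- Two orthogonal vectors spanning values: all non-zero values are attained in odd characteristic. -/
theorem exists_value_odd [Fintype F] (h2 : (2 : F) ≠ 0) {X : Submodule F V}
    (hX : X ⊓ orth Q X = ⊥) (hd : 2 ≤ finrank F X) (a : F) : ∃ z ∈ X, Q z = a := by
  obtain ⟨x, hxX, hx⟩ := exists_nonsingular_of_inf_orth hX (ne_bot_of_two_le hd)
  have hBxx : B Q x x ≠ 0 := by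
    rw [B_self]
    exact mul_ne_zero h2 hx
  -- a second vector in `X`, orthogonal to `x`
  have hex : ∃ w ∈ X, w ∉ F ∙ x := by
    by_contra hno
    push Not at hno
    have hle : X ≤ F ∙ x := hno
    have h1 := Submodule.finrank_mono hle
    have h2 : finrank F (F ∙ x) = 1 := finrank_span_singleton (fun h0 => hx (by rw [h0]; simp))
    omega
  obtain ⟨w, hwX, hw⟩ := hex
  let pr : V → V := fun u => u - ((B Q x x)⁻¹ * B Q x u) • x
  have hprX : ∀ u ∈ X, pr u ∈ X := fun u hu => X.sub_mem hu (X.smul_mem _ hxX)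
  have hprx : ∀ u, B Q x (pr u) = 0 := by
    intro u
    simp only [pr, map_sub, map_smul, smul_eq_mul]
    field_simp
    ring
  have hy0 : pr w ≠ 0 := by
    intro h0
    apply hw
    have : w = ((B Q x x)⁻¹ * B Q x w) • x := sub_eq_zero.1 h0
    rw [this]
    exact Submodule.smul_mem _ _ (Submodule.mem_span_singleton_self x)
  -- a non-singular vector orthogonal to `x`
  have hey : ∃ y ∈ X, B Q x y = 0 ∧ Q y ≠ 0 := by
    by_contra hno
    push Not at hno
    apply hy0
    have hmem : pr w ∈ X ⊓ orth Q X := by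
      refine ⟨hprX w hwX, ?_⟩
      rw [SetLike.mem_coe, mem_orth]
      intro u hu
      have hu' := hprX u hu
      have h3 := hno _ hu' (hprx u)
      have h4 := hno _ (hprX w hwX) (hprx w)
      have h5 := hno _ (X.add_mem hu' (hprX w hwX)) (by rw [map_add, hprx, hprx, add_zero])
      rw [Q_add, h3, h4] at h5
      have h6 : B Q (pr u) (pr w) = 0 := by simpa using h5
      have h7 : B Q x (pr w) = 0 := hprx w
      have h8 : u = pr u + ((B Q x x)⁻¹ * B Q x u) • x := by
        simp [pr]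
      rw [h8, map_add, LinearMap.add_apply, h6, map_smul, LinearMap.smul_apply, h7]
      simp
    rw [hX] at hmem
    simpa using hmem
  obtain ⟨y, hyX, hxy, hy⟩ := hey
  have hodd : Fintype.card F % 2 = 1 := FiniteField.odd_card_of_char_ne_two (fun hc => h2 (by
    have := ringChar.Nat.cast_ringChar (R := F)
    rw [hc] at this
    exact_mod_cast this))
  have hf : (C (Q x) * Polynomial.X ^ 2 + C 0 * Polynomial.X + C (-a) : F[X]).degree = 2 := degree_quadratic hx
  have hg : (C (Q y) * Polynomial.X ^ 2 + C 0 * Polynomial.X + C 0 : F[X]).degree = 2 := degree_quadratic hy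
  obtain ⟨s, t, hst⟩ := FiniteField.exists_root_sum_quadratic hf hg hodd
  refine ⟨s • x + t • y, X.add_mem (X.smul_mem _ hxX) (X.smul_mem _ hyX), ?_⟩
  rw [Q_add, Q_smul, Q_smul, map_smul, map_smul, LinearMap.smul_apply, hxy]
  simp only [eval_add, eval_mul, eval_C, eval_pow, eval_X] at hst
  simp only [smul_eq_mul, mul_zero, add_zero]
  linear_combination hst

theorem exists_value [Fintype F] {X : Submodule F V} (hX : X ⊓ orth Q X = ⊥)
    (hd : 2 ≤ finrank F X) {a : F} (ha : a ≠ 0) :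
    ∃ z ∈ X, Q z ≠ 0 ∧ ∃ c : F, c ≠ 0 ∧ a = c * c * Q z := by
  by_cases h2 : (2 : F) = 0
  · obtain ⟨z, hzX, hz⟩ := exists_nonsingular_of_inf_orth hX (ne_bot_of_two_le hd)
    have hchar : ringChar F = 2 := CharP.ringChar_of_prime_eq_zero Nat.prime_two (by exact_mod_cast h2)
    obtain ⟨c, hc⟩ := FiniteField.isSquare_of_char_two hchar (a / Q z)
    refine ⟨z, hzX, hz, c, ?_, ?_⟩
    · rintro rfl
      rw [mul_zero] at hc
      exact div_ne_zero ha hz hc
    · rw [← hc]
      field_simp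
  · obtain ⟨z, hzX, hz⟩ := exists_value_odd h2 hX hd a
    refine ⟨z, hzX, by rw [hz]; exact ha, 1, one_ne_zero, ?_⟩
    rw [hz]
    ring

theorem orth_orth (hQ : (B Q).Nondegenerate) (U : Submodule F V) : orth Q (orth Q U) = U := by
  symm
  apply Submodule.eq_of_le_of_finrank_eq
  · intro x hx
    rw [mem_orth]
    intro u hu
    rw [B_comm]
    exact mem_orth.1 hu x hx
  · rw [finrank_orth hQ, finrank_orth hQ]
    have := Submodule.finrank_le U
    omega

theorem reflO_mem_stab_of_mem {U : Submodule F V} {z : V} (hz : z ∈ U) : reflO Q z ∈ stab Q U := by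
  intro x hx
  show refl Q z x ∈ U
  rw [refl_apply]
  exact U.sub_mem hx (U.smul_mem _ hz)

theorem reflO_mem_stab_of_orth {U : Submodule F V} {z : V} (hz : z ∈ orth Q U) :
    reflO Q z ∈ stab Q U := by
  intro x hx
  show refl Q z x ∈ U
  rw [refl_of_perp Q (mem_orth.1 hz x hx)]
  exact hx

/-- `Ω` is transitive on non-degenerate subspaces of a given isometry type. -/
theorem transitive_nondeg [Fintype F] (hQ : (B Q).Nondegenerate) (hOG : O Q ≤ G Q)
    (hn : 3 ≤ finrank F V) {U W : Submodule F V} (hU : U ⊓ orth Q U = ⊥)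
    (e : U ≃ₗ[F] W) (he : ∀ u : U, Q (e u : V) = Q (u : V)) :
    ∃ g ∈ commutator ↥(O Q), U.map ((g : V ≃ₗ[F] V) : V →ₗ[F] V) = W := by
  obtain ⟨h, hh, hhe⟩ := witt hQ U (W.subtype.comp e.toLinearMap)
    (fun a b hab => e.injective (Subtype.ext hab)) he
  have hmap : U.map (((⟨h, hh⟩ : ↥(O Q)) : V ≃ₗ[F] V) : V →ₗ[F] V) = W := by
    apply le_antisymm
    · rintro _ ⟨x, hx, rfl⟩
      have := hhe ⟨x, hx⟩
      show h x ∈ W
      rw [this]
      exact (e ⟨x, hx⟩).2
    · intro y hy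
      refine ⟨(e.symm ⟨y, hy⟩ : U), (e.symm ⟨y, hy⟩).2, ?_⟩
      show h _ = y
      rw [hhe]
      simp
  refine exists_omega_map_eq hOG ?_ hmap
  intro v hv
  have hside : ∃ X : Submodule F V, (X = U ∨ X = orth Q U) ∧ X ⊓ orth Q X = ⊥ ∧ 2 ≤ finrank F X := by
    by_cases hd : 2 ≤ finrank F U
    · exact ⟨U, Or.inl rfl, hU, hd⟩
    · refine ⟨orth Q U, Or.inr rfl, ?_, ?_⟩
      · rw [orth_orth hQ, inf_comm]
        exact hU
      · rw [finrank_orth hQ]
        omega
  obtain ⟨X, hX, hXn, hXd⟩ := hside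
  obtain ⟨z, hzX, hz, c, hc, hzv⟩ := exists_value hXn hXd hv
  refine ⟨reflO Q z, ?_, of_reflO_eq hQ hv hz hc hzv⟩
  rcases hX with rfl | rfl
  · exact reflO_mem_stab_of_mem hzX
  · exact reflO_mem_stab_of_orth hzX

/-- `Ω` is transitive on totally singular subspaces of a given dimension `k`, `2k < n`. -/
theorem transitive_ts [Fintype F] (hQ : (B Q).Nondegenerate) (hOG : O Q ≤ G Q)
    {U W : Submodule F V} {k : ℕ} (hk : 2 * k < finrank F V) (hU : finrank F U = k)
    (hW : finrank F W = k) (hU0 : TS Q U) (hW0 : TS Q W) :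
    ∃ g ∈ commutator ↥(O Q), U.map ((g : V ≃ₗ[F] V) : V →ₗ[F] V) = W := by
  classical
  rcases Nat.eq_zero_or_pos k with rfl | hkpos
  · have h1 : U = ⊥ := Submodule.finrank_eq_zero.1 hU
    have h2 : W = ⊥ := Submodule.finrank_eq_zero.1 hW
    refine ⟨1, Subgroup.one_mem _, ?_⟩
    rw [h1, h2]
    exact Submodule.map_bot _
  -- Witt
  let e : U ≃ₗ[F] W := LinearEquiv.ofFinrankEq U W (hU.trans hW.symm)
  obtain ⟨h, hh, hhe⟩ := witt hQ U (W.subtype.comp e.toLinearMap)
    (fun a b hab => e.injective (Subtype.ext hab)) (fun u => by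
      show Q (e u : V) = Q (u : V)
      rw [hW0 _ (e u).2, hU0 _ u.2])
  have hmap : U.map (((⟨h, hh⟩ : ↥(O Q)) : V ≃ₗ[F] V) : V →ₗ[F] V) = W := by
    apply le_antisymm
    · rintro _ ⟨x, hx, rfl⟩
      have := hhe ⟨x, hx⟩
      show h x ∈ W
      rw [this]
      exact (e ⟨x, hx⟩).2
    · intro y hy
      refine ⟨(e.symm ⟨y, hy⟩ : U), (e.symm ⟨y, hy⟩).2, ?_⟩
      show h _ = y
      rw [hhe]
      simp
  refine exists_omega_map_eq hOG ?_ hmap
  -- a non-singular vector in the perp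
  obtain ⟨z, hzU, hz⟩ : ∃ z ∈ orth Q U, Q z ≠ 0 := by
    by_contra hno
    push Not at hno
    have hts : TS Q (orth Q U) := hno
    have h1 := Submodule.finrank_mono hts.le_orth
    rw [finrank_orth hQ (orth Q U), finrank_orth hQ U, hU] at h1
    omega
  -- a hyperbolic partner of a vector of `U`
  obtain ⟨e₀, he₀U, he₀⟩ : ∃ e₀ ∈ U, e₀ ≠ 0 := by
    apply Submodule.exists_mem_ne_zero_of_ne_bot
    rintro rfl
    simp at hU
    omega
  obtain ⟨φ, _, hφ, _⟩ := exists_functional (⊥ : Submodule F V) (u := e₀) (w := e₀)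
    (by simpa using he₀) (by simpa using he₀)
  obtain ⟨y, hy⟩ := exists_rep hQ φ
  have hQe : Q e₀ = 0 := hU0 _ he₀U
  have hBee : B Q e₀ e₀ = 0 := by rw [B_self, hQe, mul_zero]
  have hBey : B Q e₀ y = 1 := by rw [hy, hφ]
  let f : V := y - Q y • e₀
  have hBef : B Q e₀ f = 1 := by
    simp only [f, map_sub, map_smul, smul_eq_mul, hBee, mul_zero, sub_zero, hBey]
  have hQf : Q f = 0 := by
    simp only [f]
    rw [sub_eq_add_neg, Q_add, Q_neg, Q_smul, hQe, map_neg, map_smul, B_comm, hBey]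
    simp
  have hBff : B Q f f = 0 := by rw [B_self, hQf, mul_zero]
  have hBxf : ∀ x ∈ U, B Q x f = φ x := by
    intro x hx
    simp only [f, map_sub, map_smul, smul_eq_mul]
    rw [hy, hU0.B_eq_zero hx he₀U, mul_zero, sub_zero]
  have hBxe : ∀ x ∈ U, B Q x e₀ = 0 := fun x hx => hU0.B_eq_zero hx he₀U
  let w : F → V := fun c => e₀ + c • f
  have hQw : ∀ c, Q (w c) = c := by
    intro c
    simp only [w]
    rw [Q_add, Q_smul, hQe, hQf, map_smul, hBef]
    simp
  have hrefl : ∀ c, c ≠ 0 → ∀ x ∈ U, refl Q (w c) x = x - φ x • w c := by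
    intro c hc x hx
    rw [refl_apply, hQw]
    simp only [w, map_add, map_smul, smul_eq_mul]
    rw [hBxe x hx, hBxf x hx]
    congr 2
    field_simp
    ring
  have hreflf : ∀ c, c ≠ 0 → refl Q (w c) f = -c⁻¹ • e₀ := by
    intro c hc
    rw [refl_apply, hQw]
    simp only [w, map_add, map_smul, smul_eq_mul]
    rw [B_comm, hBef, hBff, mul_zero, add_zero, mul_one, smul_add, smul_smul, inv_mul_cancel₀ hc,
      one_smul, neg_smul]
    abel
  intro v hv
  have hstab : reflO Q (w (Q z)) * reflO Q (w (Q v)) ∈ stab Q U := by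
    intro x hx
    show refl Q (w (Q z)) (refl Q (w (Q v)) x) ∈ U
    rw [hrefl _ hv x hx]
    have hx' : x - φ x • e₀ ∈ U := U.sub_mem hx (U.smul_mem _ he₀U)
    have hφ' : φ (x - φ x • e₀) = 0 := by
      simp [hφ]
    have hxe : x - φ x • w (Q v) = (x - φ x • e₀) - (φ x * Q v) • f := by
      simp only [w, smul_add, smul_smul]
      abel
    rw [hxe, map_sub, map_smul, hreflf _ hz, hrefl _ hz _ hx', hφ', zero_smul, sub_zero, smul_smul]
    refine U.sub_mem hx' (U.smul_mem _ he₀U)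
  refine ⟨reflO Q z * (reflO Q (w (Q z)) * reflO Q (w (Q v))),
    (stab Q U).mul_mem (reflO_mem_stab_of_orth hzU) hstab, ?_⟩
  have h1 : Abelianization.of (reflO Q (w (Q z))) = Abelianization.of (reflO Q z) :=
    of_reflO_eq hQ (by rw [hQw]; exact hz) hz (c := 1) one_ne_zero (by rw [hQw]; ring)
  have h2 : Abelianization.of (reflO Q (w (Q v))) = Abelianization.of (reflO Q v) :=
    of_reflO_eq hQ (by rw [hQw]; exact hv) hv (c := 1) one_ne_zero (by rw [hQw]; ring)
  have h3 : Abelianization.of (reflO Q z) * Abelianization.of (reflO Q z) = 1 := by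
    rw [← map_mul, reflO_mul_self, map_one]
  rw [map_mul, map_mul, h1, h2, ← mul_assoc, h3, one_mul]

end Cfsg.Agent.Lib.OrthTrans2
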