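import Mathlib
import Cfsg.Agent.Lib.OrthPsi
import Cfsg.Agent.Lib.OrthTrans2
import Cfsg.Agent.Lib.OrthRefl
import Cfsg.Agent.Lib.OrthForm

/-!
# Index of Omega in the isometry group; the element `-1` of the orthogonal group
-/

set_option autoImplicit false
set_option linter.unusedSectionVars false
set_option linter.unusedSimpArgs false

namespace Cfsg.Agent.Lib.OrthPsi2

open Module Matrix
open scoped MatrixGroups
open Cfsg.Agent.Lib.OrthGroup Cfsg.Agent.Lib.OrthOmega Cfsg.Agent.Lib.OrthMatrix
open Cfsg.Agent.Lib.OrthPsi Cfsg.Agent.Lib.OrthLagr Cfsg.Agent.Lib.OrthRefl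

theorem index_Omega {F : Type*} [Field F] {ι : Type} [Fintype ι] [DecidableEq ι]
    (Q : QuadraticForm F (ι → F)) :
    (Cfsg.Omega F ⇑Q).index = (commutator ↥(O Q)).index := by
  have h : Cfsg.Omega F ⇑Q = (commutator ↥(O Q)).comap (toO Q).toMonoidHom := by
    ext g
    exact mem_Omega_iff Q g
  rw [h, Subgroup.index_comap_of_surjective _ (toO Q).surjective]

section values

variable {F V : Type*} [Field F] [Fintype F] [AddCommGroup V] [Module F V] [FiniteDimensional F V]
variable {Q : QuadraticForm F V}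

theorem neg_one_ne_one' (h2 : (2 : F) ≠ 0) : (-1 : F) ≠ 1 := by
  intro h
  apply h2
  linear_combination -h

theorem hOG_of_two (h2 : (2 : F) ≠ 0) (hQ : (B Q).Nondegenerate) : O Q ≤ G Q :=
  O_le_G hQ (Or.inl ⟨-1, by simp, neg_one_ne_one' h2⟩)

theorem hX_top (hQ : (B Q).Nondegenerate) : (⊤ : Submodule F V) ⊓ orth Q ⊤ = ⊥ := by
  rw [top_inf_eq, eq_bot_iff]
  intro x hx
  rw [mem_orth] at hx
  exact hQ.2 x fun u => hx u trivial

/-- in odd characteristic and dimension at least two every value is taken. -/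
theorem exists_value_top (h2 : (2 : F) ≠ 0) (hQ : (B Q).Nondegenerate) (hn : 2 ≤ finrank F V) (a : F) :
    ∃ z, Q z = a := by
  obtain ⟨z, -, hz⟩ := Cfsg.Agent.Lib.OrthTrans2.exists_value_odd h2 (hX_top hQ)
    (by rwa [finrank_top]) a
  exact ⟨z, hz⟩

theorem exists_nonsq (h2 : (2 : F) ≠ 0) : ∃ a : F, ¬ IsSquare a := by
  apply FiniteField.exists_nonsquare
  intro h
  apply h2
  have := ringChar.Nat.cast_ringChar (R := F)
  rw [h] at this
  exact_mod_cast this

/-- index four in odd characteristic -/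
theorem index_commutator_odd (h2 : (2 : F) ≠ 0) (hQ : (B Q).Nondegenerate) (hn : 2 ≤ finrank F V) :
    (commutator ↥(O Q)).index = 4 := by
  obtain ⟨a, ha⟩ := exists_value_top h2 hQ hn 1
  obtain ⟨α, hα⟩ := exists_nonsq h2
  obtain ⟨b, hb⟩ := exists_value_top h2 hQ hn α
  refine index_commutator_of_values hQ (hOG_of_two h2 hQ) (a := a) (b := b) ?_ ?_ ?_
  · rw [ha]; exact one_ne_zero
  · rw [ha]; exact IsSquare.one
  · rw [hb]; exact hα

/-- a nonsingular vector exists for a form with nondegenerate polar form (in positive dimension). -/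
theorem exists_nonsingular (hQ : (B Q).Nondegenerate) (hn : 1 ≤ finrank F V) : ∃ a, Q a ≠ 0 := by
  by_contra h
  push Not at h
  have : Nontrivial V := Module.nontrivial_of_finrank_pos (R := F) (by omega)
  obtain ⟨x, hx⟩ := exists_ne (0 : V)
  apply hx
  apply hQ.1 x
  intro y
  rw [B_apply, h, h, h]
  simp

/-- index two in characteristic two. -/
theorem index_commutator_char_two [CharP F 2] (hQ : (B Q).Nondegenerate) (hn : 1 ≤ finrank F V)
    (h : Fintype.card F ≠ 2 ∨ finrank F V ≠ 4) :
    (commutator ↥(O Q)).index = 2 := by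
  obtain ⟨a, ha⟩ := exists_nonsingular hQ hn
  have hOG : O Q ≤ G Q := by
    refine O_le_G hQ ?_
    rcases h with h | h
    · exact Or.inl (exists_ne_zero_one_of_card_ne_two h)
    · exact Or.inr h
  exact index_commutator_of_all_squares hQ hOG isSquare_char_two ha

end values

end Cfsg.Agent.Lib.OrthPsi2
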