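import Mathlib
import Cfsg.Agent.Lib.OrthPsi2
import Cfsg.Agent.S0756
import Cfsg.Agent.Lib.OrthPlus
import Cfsg.Agent.Lib.OrthoCount

/-!
# The element `-1` of the orthogonal group and the derived subgroup
-/

set_option autoImplicit false
set_option linter.unusedSectionVars false
set_option linter.unusedSimpArgs false

namespace Cfsg.Agent.Lib.OrthNeg

open Module Matrix
open scoped MatrixGroups
open Cfsg.Agent.Lib.OrthGroup Cfsg.Agent.Lib.OrthOmega Cfsg.Agent.Lib.OrthMatrix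
open Cfsg.Agent.Lib.OrthPsi Cfsg.Agent.Lib.OrthLagr Cfsg.Agent.Lib.OrthRefl
open Cfsg.Agent.Lib.OrthPsi2 Cfsg.Agent.Lib.OrthForm

section lists
variable {F V : Type*} [Field F] [AddCommGroup V] [Module F V] [FiniteDimensional F V]
variable {Q : QuadraticForm F V}

theorem prodR_apply_of_perp {L : List V} {x : V} (h : ∀ v ∈ L, B Q x v = 0) : prodR Q L x = x := by
  induction L with
  | nil => rfl
  | cons v L ih =>
    rw [prodR_cons, OrthGroup.mul_apply, ih fun w hw => h w (List.mem_cons_of_mem _ hw)]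
    exact refl_of_perp Q (h v List.mem_cons_self)

theorem prodR_apply_of_mem {L : List V} (hp : L.Pairwise fun a b => B Q a b = 0)
    (hL : ∀ v ∈ L, Q v ≠ 0) {x : V} (hx : x ∈ L) : prodR Q L x = -x := by
  induction L with
  | nil => simp at hx
  | cons v L ih =>
    rw [List.pairwise_cons] at hp
    rw [prodR_cons, OrthGroup.mul_apply]
    rcases List.mem_cons.1 hx with rfl | hx
    · rw [prodR_apply_of_perp hp.1]
      exact refl_self Q (hL x List.mem_cons_self)
    · rw [ih hp.2 (fun w hw => hL w (List.mem_cons_of_mem _ hw)) hx]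
      apply refl_of_perp Q
      rw [map_neg, LinearMap.neg_apply, B_comm, hp.1 x hx, neg_zero]

end lists

section main

variable {F : Type*} [Field F] [Fintype F] {ι : Type} [Fintype ι] [DecidableEq ι]
variable {Q : QuadraticForm F (ι → F)}

/-- The list of vectors of an orthogonal basis. -/
theorem exists_orth_basis [Nonempty ι] (h2 : (2 : F) ≠ 0) (hQ : (B Q).Nondegenerate) :
    ∃ b : Module.Basis ι F (ι → F), (∀ i j, i ≠ j → B Q (b i) (b j) = 0) ∧ ∀ i, Q (b i) ≠ 0 := by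
  obtain ⟨α, hα⟩ := exists_nonsq h2
  obtain ⟨n, hn⟩ : ∃ n, Fintype.card ι = n + 1 := ⟨Fintype.card ι - 1, by
    have := Fintype.card_pos (α := ι)
    omega⟩
  have hn' : finrank F (ι → F) = n + 1 := by
    rw [Module.finrank_fintype_fun_eq_card, hn]
  have hS : LinearMap.BilinForm.IsSymm (B Q) := by
    rw [LinearMap.BilinForm.isSymm_iff_flip]
    ext x y
    exact B_comm Q _ _
  obtain ⟨b, h1, h3, h4⟩ := Cfsg.Agent.S0756.result h2 (B Q) hS hQ hn' α hα
  let e : Fin (n + 1) ≃ ι := (Fintype.equivFinOfCardEq hn).symm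
  have hnz : ∀ i, B Q (b i) (b i) ≠ 0 := by
    intro i
    by_cases hi : i = Fin.last n
    · subst hi
      rcases h4 with h | h
      · rw [h]; exact one_ne_zero
      · rw [h]
        intro h0
        exact hα (by rw [h0]; exact IsSquare.zero)
    · rw [h3 i hi]; exact one_ne_zero
  have hQnz : ∀ i, Q (b i) ≠ 0 := by
    intro i h0
    apply hnz i
    rw [B_self, h0, mul_zero]
  refine ⟨b.reindex e, ?_, ?_⟩
  · intro i j hij
    simp only [Module.Basis.reindex_apply]
    exact h1 _ _ (fun h => hij (e.symm.injective h))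
  · intro i
    simp only [Module.Basis.reindex_apply]
    exact hQnz _

/-- Gram matrix identity. -/
theorem transpose_mul_polarGram_mul_eq (b : ι → ι → F)
    (h0 : ∀ i j, i ≠ j → B Q (b i) (b j) = 0) :
    (Matrix.of fun i c => b c i)ᵀ * polarGram Q * (Matrix.of fun i c => b c i) =
      Matrix.diagonal fun c => 2 * Q (b c) := by
  ext c d
  have hcol : ∀ d i, (polarGram Q * (Matrix.of fun i c => b c i)) i d = (polarGram Q *ᵥ b d) i := by
    intro d i
    simp [Matrix.mul_apply, Matrix.mulVec, dotProduct]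
  have h1 : ((Matrix.of fun i c => b c i)ᵀ * polarGram Q * (Matrix.of fun i c => b c i)) c d =
      b c ⬝ᵥ (polarGram Q *ᵥ b d) := by
    rw [Matrix.mul_assoc, Matrix.mul_apply]
    simp only [dotProduct, hcol, Matrix.transpose_apply, Matrix.of_apply]
  rw [h1, dotProduct_polarGram_mulVec]
  by_cases hcd : c = d
  · subst hcd
    rw [Matrix.diagonal_apply_eq]
    exact B_self Q _
  · rw [Matrix.diagonal_apply_ne _ hcd]
    exact h0 c d hcd

/-- square classes of the Gram determinant and of the product of the values. -/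
theorem isSquare_det_iff (b : ι → ι → F) (h0 : ∀ i j, i ≠ j → B Q (b i) (b j) = 0)
    (hnz : ∀ i, Q (b i) ≠ 0) (h2 : (2 : F) ≠ 0) (he : Even (Fintype.card ι)) :
    IsSquare (polarGram Q).det ↔ IsSquare (∏ c, Q (b c)) := by
  have h := congrArg Matrix.det (transpose_mul_polarGram_mul_eq (Q := Q) b h0)
  rw [Matrix.det_mul, Matrix.det_mul, Matrix.det_transpose, Matrix.det_diagonal,
    Finset.prod_mul_distrib, Finset.prod_const, Finset.card_univ] at h
  obtain ⟨k, hk⟩ := he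
  set d := (Matrix.of fun i c => b c i).det with hd
  set P := (polarGram Q).det
  set PP := ∏ c, Q (b c) with hPP
  have hPP0 : PP ≠ 0 := Finset.prod_ne_zero_iff.2 fun c _ => hnz c
  have hs : (2 : F) ^ Fintype.card ι = 2 ^ k * 2 ^ k := by rw [hk, pow_add]
  rw [hs] at h
  have hs0 : (2 : F) ^ k ≠ 0 := pow_ne_zero _ h2
  have hd0 : d ≠ 0 := by
    intro h00
    rw [h00] at h
    simp only [zero_mul] at h
    exact mul_ne_zero (mul_ne_zero hs0 hs0) hPP0 h.symm
  constructor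
  · rintro ⟨y, hy⟩
    refine ⟨d * y / 2 ^ k, ?_⟩
    rw [hy] at h
    field_simp
    linear_combination -h
  · rintro ⟨y, hy⟩
    refine ⟨2 ^ k * y / d, ?_⟩
    rw [hy] at h
    field_simp
    linear_combination h

/-- The criterion for `-1` to lie in Ω. -/
theorem neg_one_mem_iff [Nonempty ι] (h2 : (2 : F) ≠ 0) (hQ : (B Q).Nondegenerate) :
    (∃ g : ↥(Cfsg.isometryGroup F ⇑Q), g ∈ Cfsg.Omega F ⇑Q ∧
      ((g : GL ι F) : Matrix ι ι F) = -1) ↔
    Even (Fintype.card ι) ∧ IsSquare (polarGram Q).det := by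
  classical
  obtain ⟨b, h0, hnz⟩ := exists_orth_basis (Q := Q) h2 hQ
  have hOG := hOG_of_two h2 hQ
  set L : List (ι → F) := (Finset.univ.toList).map b with hL
  have hLnz : ∀ v ∈ L, Q v ≠ 0 := by
    intro v hv
    obtain ⟨i, -, rfl⟩ := List.mem_map.1 hv
    exact hnz i
  have hpair : L.Pairwise fun a c => B Q a c = 0 := by
    rw [hL, List.pairwise_map]
    exact (Finset.nodup_toList _).imp fun {a c} h => h0 a c h
  have hlen : L.length = Fintype.card ι := by
    rw [hL, List.length_map, Finset.length_toList, Finset.card_univ]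
  have hprod : (L.map Q).prod = ∏ c, Q (b c) := by
    rw [hL, List.map_map]
    exact Finset.prod_map_toList _ _
  have hneg : ∀ v, prodR Q L v = -v := by
    intro v
    have : ((prodR Q L : (ι → F) ≃ₗ[F] (ι → F)) : (ι → F) →ₗ[F] (ι → F)) = -LinearMap.id := by
      apply b.ext
      intro i
      exact prodR_apply_of_mem hpair hLnz (List.mem_map.2 ⟨i, by simp, rfl⟩)
    exact LinearMap.congr_fun this v
  have hmat : ((elt Q L : GL ι F) : Matrix ι ι F) = -1 := by
    rw [matrix_eq_iff]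
    intro v
    rw [← toO_apply, toO_elt, Matrix.neg_mulVec, Matrix.one_mulVec]
    exact hneg v
  have hmem : elt Q L ∈ Cfsg.Omega F ⇑Q ↔ Even (Fintype.card ι) ∧ IsSquare (∏ c, Q (b c)) := by
    rw [mem_Omega_iff, toO_elt, ← ker_psi hQ hOG, MonoidHom.mem_ker, psi_prodO hQ hOG hLnz,
      inv_eq_one_iff, hlen, hprod]
  constructor
  · rintro ⟨g, hg, hgm⟩
    have hgeq : g = elt Q L := by
      apply Subtype.ext
      apply Units.ext
      rw [hgm, hmat]
    rw [hgeq] at hg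
    obtain ⟨h1, h3⟩ := hmem.1 hg
    exact ⟨h1, (isSquare_det_iff b h0 hnz h2 h1).2 h3⟩
  · rintro ⟨h1, h3⟩
    exact ⟨elt Q L, hmem.2 ⟨h1, (isSquare_det_iff b h0 hnz h2 h1).1 h3⟩, hmat⟩

theorem polarGram_eq_of {M : Matrix ι ι F}
    (h : ∀ x y, x ⬝ᵥ (M *ᵥ y) = QuadraticMap.polar (⇑Q) x y) : polarGram Q = M := by
  ext i j
  have := h (Pi.single i 1) (Pi.single j 1)
  simp only [polarGram, Matrix.of_apply]
  rw [← this]
  simp [single_dotProduct, Matrix.mulVec_single]

theorem nondeg_of_det (h : (polarGram Q).det ≠ 0) : (B Q).Nondegenerate := by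
  have key : ∀ y, (∀ x, B Q x y = 0) → y = 0 := by
    intro y hy
    apply Matrix.eq_zero_of_mulVec_eq_zero h
    funext i
    have := hy (Pi.single i 1)
    change QuadraticMap.polar (⇑Q) (Pi.single i 1) y = 0 at this
    rw [← dotProduct_polarGram_mulVec] at this
    simpa [single_dotProduct] using this
  refine ⟨fun x hx => key x fun y => ?_, fun y hy => key y fun x => hy x⟩
  rw [B_comm]
  exact hx y

end main

section forms

variable {F : Type*} [Field F] [Fintype F]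

theorem det_hyp (m : ℕ) :
    (Matrix.fromBlocks 0 1 1 0 : Matrix (Fin m ⊕ Fin m) (Fin m ⊕ Fin m) F).det = (-1) ^ m := by
  have h : (Matrix.fromBlocks 0 1 1 0 : Matrix (Fin m ⊕ Fin m) (Fin m ⊕ Fin m) F) =
      Matrix.fromBlocks 1 1 0 1 * Matrix.fromBlocks (-1) 0 1 1 * Matrix.fromBlocks 1 (-1) 0 1 := by
    simp [Matrix.fromBlocks_multiply]
  rw [h, Matrix.det_mul, Matrix.det_mul, Matrix.det_fromBlocks_zero₂₁, Matrix.det_fromBlocks_zero₁₂,
    Matrix.det_fromBlocks_zero₂₁, Matrix.det_neg]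
  simp

theorem polarGram_plus (m : ℕ) :
    polarGram (Cfsg.Agent.Lib.OrthPlus.quadPlus m F) = Matrix.fromBlocks 0 1 1 0 := by
  apply polarGram_eq_of
  intro x y
  have := Cfsg.Agent.Lib.OrthPlus.B_quadPlus (m := m) (F := F) x y
  refine Eq.trans ?_ this.symm
  rw [Matrix.fromBlocks_mulVec]
  simp [dotProduct, Fintype.sum_sum_type, Finset.sum_add_distrib, mul_comm]

open Cfsg.Agent.Lib.OrthoCount in
theorem B_qMinus (m : ℕ) (a b : F) (x y : (Fin m ⊕ Fin m) ⊕ Fin 2 → F) :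
    B (qMinus m a b) x y = (∑ i : Fin m, (x (.inl (.inl i)) * y (.inl (.inr i)) + y (.inl (.inl i)) * x (.inl (.inr i))))
      + (2 * x (.inr 0) * y (.inr 0) + a * (x (.inr 0) * y (.inr 1) + y (.inr 0) * x (.inr 1))
        + 2 * b * x (.inr 1) * y (.inr 1)) := by
  rw [B_apply, qMinus_apply, qMinus_apply, qMinus_apply]
  simp only [Cfsg.quadFormMinus, Pi.add_apply]
  have : ∑ i : Fin m, (x (.inl (.inl i)) + y (.inl (.inl i))) * (x (.inl (.inr i)) + y (.inl (.inr i))) =
      (∑ i : Fin m, x (.inl (.inl i)) * x (.inl (.inr i))) + (∑ i : Fin m, y (.inl (.inl i)) * y (.inl (.inr i)))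
       + ∑ i : Fin m, (x (.inl (.inl i)) * y (.inl (.inr i)) + y (.inl (.inl i)) * x (.inl (.inr i))) := by
    rw [← Finset.sum_add_distrib, ← Finset.sum_add_distrib]
    refine Finset.sum_congr rfl fun i _ => ?_
    ring
  rw [this]
  ring

open Cfsg.Agent.Lib.OrthoCount in
theorem polarGram_minus (m : ℕ) (a b : F) :
    polarGram (qMinus m a b) = Matrix.fromBlocks (Matrix.fromBlocks 0 1 1 0) 0 0 !![2, a; a, 2 * b] := by
  apply polarGram_eq_of
  intro x y
  have := B_qMinus m a b x y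
  refine Eq.trans ?_ this.symm
  rw [Matrix.fromBlocks_mulVec, Matrix.fromBlocks_mulVec]
  simp [dotProduct, Fintype.sum_sum_type, Finset.sum_add_distrib, Fin.sum_univ_two, Matrix.mulVec,
    Matrix.vecHead, Matrix.vecTail]
  have h3 : ∑ a₂, x (Sum.inl (Sum.inr a₂)) * y (Sum.inl (Sum.inl a₂)) =
      ∑ x_1, y (Sum.inl (Sum.inl x_1)) * x (Sum.inl (Sum.inr x_1)) :=
    Finset.sum_congr rfl fun _ _ => mul_comm _ _
  rw [h3]
  ring

theorem isSquare_neg_one_pow_iff {q : ℕ} (hF : Fintype.card F = q) (hodd : Odd q) (m : ℕ) :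
    IsSquare ((-1 : F) ^ m) ↔ q ^ m % 4 = 1 := by
  have h1 : q % 4 = 1 ∨ q % 4 = 3 := by
    obtain ⟨k, hk⟩ := hodd
    omega
  rcases Nat.even_or_odd' m with ⟨k, rfl | rfl⟩
  · have : (-1 : F) ^ (2 * k) = 1 := by simp
    rw [this]
    simp only [IsSquare.one, true_iff]
    rw [Nat.pow_mod]
    rcases h1 with h1 | h1 <;> rw [h1]
    · simp
    · rw [pow_mul, Nat.pow_mod]
      norm_num
  · have : (-1 : F) ^ (2 * k + 1) = -1 := by simp [pow_succ, pow_mul]
    rw [this, FiniteField.isSquare_neg_one_iff, hF, Nat.pow_mod]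
    rcases h1 with h1 | h1 <;> rw [h1]
    · simp
    · rw [pow_succ, pow_mul, Nat.mul_mod, Nat.pow_mod]
      norm_num

theorem two_ne_zero_of_odd {q : ℕ} (hF : Fintype.card F = q) (hodd : Odd q) : (2 : F) ≠ 0 := by
  intro h
  have h1 : ringChar F = 2 := CharP.ringChar_of_prime_eq_zero Nat.prime_two (by exact_mod_cast h)
  have h3 := FiniteField.even_card_iff_char_two.1 h1
  rw [hF] at h3
  obtain ⟨k, hk⟩ := hodd
  omega

theorem isSquare_mul_nonsq_iff {c N : F} (hc : c ≠ 0) (hN : ¬ IsSquare N) :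
    IsSquare (c * N) ↔ ¬ IsSquare c := by
  have hN0 : N ≠ 0 := fun h => hN (by rw [h]; exact IsSquare.zero)
  have h1 := sg_mul hc hN0
  rw [sg_of_not_isSquare hN] at h1
  constructor
  · intro h hcs
    rw [sg_of_isSquare h, sg_of_isSquare hcs] at h1
    exact absurd h1 (by decide)
  · intro h
    rw [sg_of_not_isSquare h] at h1
    exact isSquare_of_sg (by rw [h1]; rfl)

theorem main_plus {q : ℕ} (hF : Fintype.card F = q) (hodd : Odd q) (m : ℕ) (hm : 1 ≤ m) :
    (∃ g : ↥(Cfsg.isometryGroup F (Cfsg.quadFormPlus m F)), g ∈ Cfsg.Omega F (Cfsg.quadFormPlus m F) ∧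
      ((g : Matrix.GeneralLinearGroup (Fin m ⊕ Fin m) F) : Matrix (Fin m ⊕ Fin m) (Fin m ⊕ Fin m) F) = -1) ↔
      q ^ m % 4 = 1 := by
  have h2 := two_ne_zero_of_odd hF hodd
  have : Nonempty (Fin m ⊕ Fin m) := ⟨.inl ⟨0, hm⟩⟩
  have h := neg_one_mem_iff (Q := Cfsg.Agent.Lib.OrthPlus.quadPlus m F) h2
    (Cfsg.Agent.Lib.OrthPlus.quadPlus_nondeg m F)
  rw [Cfsg.Agent.Lib.OrthPlus.coe_quadPlus, polarGram_plus, det_hyp, isSquare_neg_one_pow_iff hF hodd] at h
  rw [h]
  simp only [Fintype.card_sum, Fintype.card_fin]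
  exact and_iff_right ⟨m, rfl⟩

open Cfsg.Agent.Lib.OrthoCount in
theorem main_minus {q : ℕ} (hF : Fintype.card F = q) (hodd : Odd q) (m : ℕ) (hm : 1 ≤ m) (a b : F)
    (hab : ∀ z₁ z₂ : F, z₁ ^ 2 + a * z₁ * z₂ + b * z₂ ^ 2 = 0 → z₁ = 0 ∧ z₂ = 0) :
    (∃ g : ↥(Cfsg.isometryGroup F (Cfsg.quadFormMinus (m - 1) F a b)), g ∈ Cfsg.Omega F (Cfsg.quadFormMinus (m - 1) F a b) ∧
      ((g : Matrix.GeneralLinearGroup ((Fin (m - 1) ⊕ Fin (m - 1)) ⊕ Fin 2) F) :
        Matrix ((Fin (m - 1) ⊕ Fin (m - 1)) ⊕ Fin 2) ((Fin (m - 1) ⊕ Fin (m - 1)) ⊕ Fin 2) F) = -1) ↔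
      q ^ m % 4 = 3 := by
  have h2 := two_ne_zero_of_odd hF hodd
  have hN : ¬ IsSquare (a * a - 4 * b) := by
    rintro ⟨s, hs⟩
    have := hab ((s - a) / 2) 1 (by
      field_simp
      linear_combination (-1 : F) * hs)
    exact one_ne_zero this.2
  have hN0 : a * a - 4 * b ≠ 0 := fun h => hN (by rw [h]; exact IsSquare.zero)
  have hc0 : (-1 : F) ^ m ≠ 0 := pow_ne_zero _ (by simp)
  have hdet : (polarGram (qMinus (m - 1) a b)).det = (-1) ^ m * (a * a - 4 * b) := by
    rw [polarGram_minus, Matrix.det_fromBlocks_zero₂₁, det_hyp, Matrix.det_fin_two_of]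
    obtain ⟨k, rfl⟩ : ∃ k, m = k + 1 := ⟨m - 1, by omega⟩
    simp only [Nat.add_sub_cancel, pow_succ]
    ring
  have : Nonempty ((Fin (m - 1) ⊕ Fin (m - 1)) ⊕ Fin 2) := ⟨.inr 0⟩
  have hnd : (B (qMinus (m - 1) a b)).Nondegenerate := nondeg_of_det (by
    rw [hdet]
    exact mul_ne_zero hc0 hN0)
  have h := neg_one_mem_iff (Q := qMinus (m - 1) a b) h2 hnd
  have hf : ⇑(qMinus (m - 1) a b) = Cfsg.quadFormMinus (m - 1) F a b := funext (qMinus_apply (m - 1) a b)
  rw [hf, hdet, isSquare_mul_nonsq_iff hc0 hN, isSquare_neg_one_pow_iff hF hodd] at h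
  rw [h]
  have he : Even (Fintype.card ((Fin (m - 1) ⊕ Fin (m - 1)) ⊕ Fin 2)) :=
    ⟨m - 1 + 1, by simp only [Fintype.card_sum, Fintype.card_fin]; ring⟩
  simp only [he, true_and]
  have h3 : q ^ m % 2 = 1 := Nat.odd_iff.1 (hodd.pow)
  omega

end forms

end Cfsg.Agent.Lib.OrthNeg
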