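import Mathlib
import Cfsg.Agent.Lib.Replacement
import Cfsg.Agent.Lib.Coprime

/-!
# Sylow subgroups of symmetric and alternating groups are generated by elements of order `p`.

Consequently `P / P'` is elementary abelian.
-/

set_option autoImplicit false
set_option linter.style.haveILetI false
set_option linter.unusedSectionVars false

open Equiv Equiv.Perm

namespace Cfsg.Agent.Lib.SymSylowGen

/-- `H` is generated by its elements whose `p`-th power is trivial. -/
def GenP (p : ℕ) {G : Type*} [Group G] (H : Subgroup G) : Prop :=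
  H ≤ Subgroup.closure {x | x ∈ H ∧ x ^ p = 1}

section general

variable {p : ℕ} {G G' : Type*} [Group G] [Group G']

theorem GenP.pow_mem {H : Subgroup G} (h : GenP p H) (x : H) : x ^ p ∈ commutator H := by
  let g : H →* Abelianization H := (powMonoidHom p).comp Abelianization.of
  have hg : ∀ y : H, y ∈ g.ker ↔ y ^ p ∈ commutator H := by
    intro y
    rw [MonoidHom.mem_ker, ← Abelianization.ker_of, MonoidHom.mem_ker, map_pow]
    rfl
  have hle : H ≤ (g.ker).map H.subtype := by
    refine h.trans ((Subgroup.closure_le _).mpr ?_)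
    rintro s ⟨hs, hsp⟩
    refine ⟨⟨s, hs⟩, ?_, rfl⟩
    rw [SetLike.mem_coe, hg]
    have : (⟨s, hs⟩ : H) ^ p = 1 := Subtype.ext (by simpa using hsp)
    rw [this]
    exact Subgroup.one_mem _
  obtain ⟨y, hy, hyx⟩ := hle x.2
  have : y = x := Subtype.ext hyx
  rw [← this]
  exact (hg y).mp hy

theorem GenP.map {H : Subgroup G} (h : GenP p H) (f : G →* G') : GenP p (H.map f) := by
  refine (Subgroup.map_mono h).trans ?_
  rw [MonoidHom.map_closure]
  apply Subgroup.closure_mono
  rintro _ ⟨s, ⟨hs, hsp⟩, rfl⟩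
  exact ⟨⟨s, hs, rfl⟩, by rw [← map_pow, hsp, map_one]⟩

theorem GenP.subgroupOf {H A : Subgroup G} (h : GenP p H) (hHA : H ≤ A) : GenP p (H.subgroupOf A) := by
  set S' : Set A := {x | x ∈ H.subgroupOf A ∧ x ^ p = 1} with hS'
  have h1 : H ≤ (Subgroup.closure S').map A.subtype := by
    refine h.trans ((Subgroup.closure_le _).mpr ?_)
    rintro s ⟨hs, hsp⟩
    refine ⟨⟨s, hHA hs⟩, Subgroup.subset_closure ⟨hs, Subtype.ext (by simpa using hsp)⟩, rfl⟩
  intro y hy
  obtain ⟨z, hz, hzy⟩ := h1 hy
  have : z = y := Subtype.ext hzy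
  rwa [← this]

theorem GenP.of_sylow [Finite G] [Fact p.Prime] (P₀ P : Sylow p G) (h : GenP p (P₀ : Subgroup G)) :
    GenP p (P : Subgroup G) := by
  obtain ⟨g, hg⟩ := MulAction.exists_smul_eq G P₀ P
  have h1 : (P : Subgroup G) = (P₀ : Subgroup G).map (MulDistribMulAction.toMonoidEnd (MulAut G) G (MulAut.conj g)) := by
    rw [← hg]
    rfl
  rw [h1]
  exact h.map _

end general

section core

variable (p : ℕ) [hp : Fact p.Prime] (γ δ : Type*) [Fintype γ] [DecidableEq γ] [Fintype δ] [DecidableEq δ]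

/-- Permuting the blocks. -/
def iotaH : Perm γ →* Perm ((γ × ZMod p) ⊕ δ) where
  toFun σ := Equiv.sumCongr (Equiv.prodCongr σ (Equiv.refl _)) (Equiv.refl _)
  map_one' := by
    ext x
    rcases x with ⟨i, j⟩ | k <;> simp
  map_mul' σ τ := by
    ext x
    rcases x with ⟨i, j⟩ | k <;> simp

/-- Rotating within the blocks. -/
def phiH : (γ → Multiplicative (ZMod p)) →* Perm ((γ × ZMod p) ⊕ δ) where
  toFun e := Equiv.sumCongr (Equiv.prodShear (Equiv.refl _) (fun i => Equiv.addRight (Multiplicative.toAdd (e i))))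
    (Equiv.refl _)
  map_one' := by
    ext x
    rcases x with ⟨i, j⟩ | k <;> simp
  map_mul' e f := by
    ext x
    rcases x with ⟨i, j⟩ | k
    · simp
      abel
    · simp

variable {p γ δ}

theorem iotaH_inl (σ : Perm γ) (i : γ) (j : ZMod p) :
    iotaH p γ δ σ (Sum.inl (i, j)) = Sum.inl (σ i, j) := rfl

theorem phiH_inl (e : γ → Multiplicative (ZMod p)) (i : γ) (j : ZMod p) :
    phiH p γ δ e (Sum.inl (i, j)) = Sum.inl (i, j + Multiplicative.toAdd (e i)) := rfl

theorem iotaH_inr (σ : Perm γ) (k : δ) : iotaH p γ δ σ (Sum.inr k) = Sum.inr k := rfl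

theorem phiH_inr (e : γ → Multiplicative (ZMod p)) (k : δ) : phiH p γ δ e (Sum.inr k) = Sum.inr k := rfl

theorem iotaH_injective : Function.Injective (iotaH p γ δ) := by
  intro σ τ h
  ext i
  have := DFunLike.congr_fun h (Sum.inl (i, (0 : ZMod p)))
  simp only [iotaH_inl] at this
  have h2 := Sum.inl_injective this
  rw [Prod.mk.injEq] at h2
  rw [h2.1]

theorem phiH_injective : Function.Injective (phiH p γ δ) := by
  intro e f h
  funext i
  have := DFunLike.congr_fun h (Sum.inl (i, (0 : ZMod p)))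
  simp only [phiH_inl] at this
  have h2 := Sum.inl_injective this
  rw [Prod.mk.injEq] at h2
  simpa using h2.2

theorem phiH_pow (e : γ → Multiplicative (ZMod p)) : phiH p γ δ e ^ p = 1 := by
  rw [← map_pow]
  have : e ^ p = 1 := by
    funext i
    apply Multiplicative.toAdd.injective
    simp
  rw [this, map_one]

theorem conj_phiH (σ : Perm γ) (e : γ → Multiplicative (ZMod p)) :
    iotaH p γ δ σ * phiH p γ δ e * (iotaH p γ δ σ)⁻¹ = phiH p γ δ (fun i => e (σ⁻¹ i)) := by
  ext x
  rw [← map_inv]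
  rcases x with ⟨i, j⟩ | k
  · simp only [Perm.coe_mul, Function.comp_apply, iotaH_inl, phiH_inl]
    simp
  · simp only [Perm.coe_mul, Function.comp_apply, iotaH_inr, phiH_inr]

theorem iotaH_le_normalizer (T : Subgroup (Perm γ)) :
    T.map (iotaH p γ δ) ≤ Subgroup.normalizer (((phiH p γ δ).range : Subgroup _) : Set (Perm ((γ × ZMod p) ⊕ δ))) := by
  rintro _ ⟨σ, -, rfl⟩
  rw [Subgroup.mem_normalizer_iff]
  intro b
  constructor
  · rintro ⟨e, rfl⟩
    exact ⟨_, (conj_phiH σ e).symm⟩
  · rintro ⟨f, hf⟩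
    have h1 := conj_phiH (p := p) (δ := δ) σ⁻¹ f
    rw [hf, map_inv, inv_inv] at h1
    refine ⟨fun i => f (σ⁻¹⁻¹ i), ?_⟩
    rw [← h1]
    group

theorem iotaH_inf_phiH (T : Subgroup (Perm γ)) (B : Subgroup (Perm ((γ × ZMod p) ⊕ δ))) (hB : B ≤ (phiH p γ δ).range) :
    T.map (iotaH p γ δ) ⊓ B = ⊥ := by
  rw [eq_bot_iff]
  rintro x ⟨⟨σ, -, rfl⟩, hb⟩
  obtain ⟨e, he⟩ := hB hb
  have hσ : σ = 1 := by
    ext i
    have := DFunLike.congr_fun he (Sum.inl (i, (0 : ZMod p)))
    simp only [iotaH_inl, phiH_inl] at this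
    have h2 := Sum.inl_injective this
    rw [Prod.mk.injEq] at h2
    simp [← h2.1]
  rw [hσ, map_one]
  exact Subgroup.one_mem _

theorem card_phiH_range : Nat.card (phiH p γ δ).range = p ^ Fintype.card γ := by
  rw [(Nat.card_congr (MonoidHom.ofInjective (phiH_injective (p := p) (γ := γ) (δ := δ))).toEquiv).symm]
  simp [Nat.card_eq_fintype_card, ZMod.card]

/-- The basic construction. -/
theorem card_sup (T : Subgroup (Perm γ)) (B : Subgroup (Perm ((γ × ZMod p) ⊕ δ))) (hB : B ≤ (phiH p γ δ).range)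
    (hn : T.map (iotaH p γ δ) ≤ Subgroup.normalizer (B : Set (Perm ((γ × ZMod p) ⊕ δ)))) :
    Nat.card (T.map (iotaH p γ δ) ⊔ B : Subgroup _) = Nat.card T * Nat.card B := by
  have h1 := Cfsg.Agent.Lib.Replacement.card_sup_mul_card_inf (T.map (iotaH p γ δ)) B hn
  rw [iotaH_inf_phiH T B hB, Subgroup.card_bot, mul_one, Subgroup.card_map_of_injective iotaH_injective] at h1
  exact h1

theorem genP_sup {T : Subgroup (Perm γ)} (hT : GenP p T) (B : Subgroup (Perm ((γ × ZMod p) ⊕ δ)))
    (hB : B ≤ (phiH p γ δ).range) : GenP p (T.map (iotaH p γ δ) ⊔ B) := by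
  refine sup_le ?_ ?_
  · refine (GenP.map hT (iotaH p γ δ)).trans (Subgroup.closure_mono ?_)
    rintro x ⟨hx, hxp⟩
    exact ⟨Subgroup.mem_sup_left hx, hxp⟩
  · intro b hb
    apply Subgroup.subset_closure
    refine ⟨Subgroup.mem_sup_right hb, ?_⟩
    obtain ⟨e, he⟩ := hB hb
    rw [← he]
    exact phiH_pow e

end core

variable (p : ℕ) [hp : Fact p.Prime]

theorem valuation_step (n : ℕ) :
    padicValNat p n.factorial = padicValNat p (n / p).factorial + n / p := by
  have h1 := padicValNat_factorial_mul_add (p := p) (n / p) (Nat.mod_lt n hp.out.pos)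
  rw [Nat.div_add_mod] at h1
  rw [h1, padicValNat_factorial_mul]

/-- Existence of a Sylow `p`-subgroup generated by elements of exponent `p`. -/
theorem exists_gen : ∀ n : ℕ, ∃ P : Subgroup (Perm (Fin n)),
    Nat.card P = p ^ padicValNat p n.factorial ∧ GenP p P := by
  intro n
  induction n using Nat.strong_induction_on with
  | _ n ih =>
  have hstep := valuation_step p n
  by_cases hm : n / p = 0
  · refine ⟨⊥, ?_, bot_le⟩
    rw [hstep, hm]
    simp
  have hn0 : 0 < n := by
    rcases Nat.eq_zero_or_pos n with rfl | h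
    · simp at hm
    · exact h
  obtain ⟨T, hT, hT2⟩ := ih (n / p) (Nat.div_lt_self hn0 hp.out.one_lt)
  let γ := Fin (n / p)
  let δ := Fin (n % p)
  have hcard : Fintype.card ((γ × ZMod p) ⊕ δ) = n := by
    simp only [Fintype.card_sum, Fintype.card_prod, Fintype.card_fin, ZMod.card, γ, δ]
    rw [mul_comm]
    exact Nat.div_add_mod n p
  let e : ((γ × ZMod p) ⊕ δ) ≃ Fin n := Fintype.equivFinOfCardEq hcard
  let P₀ : Subgroup (Perm ((γ × ZMod p) ⊕ δ)) := T.map (iotaH p γ δ) ⊔ (phiH p γ δ).range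
  have h1 : Nat.card P₀ = p ^ padicValNat p n.factorial := by
    rw [card_sup T _ le_rfl (iotaH_le_normalizer T), hT, card_phiH_range, hstep, pow_add]
    simp
  have h2 : GenP p P₀ := genP_sup hT2 _ le_rfl
  let f := (Equiv.permCongrHom e).toMonoidHom
  refine ⟨P₀.map f, ?_, h2.map f⟩
  rw [Subgroup.card_map_of_injective (Equiv.permCongrHom e).injective, h1]

section two

/-- Block permutations are even when the blocks have size two. -/
theorem sign_iotaH {γ δ : Type*} [Fintype γ] [DecidableEq γ] [Fintype δ] [DecidableEq δ] (σ : Perm γ) :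
    sign (iotaH 2 γ δ σ) = 1 := by
  have h1 : iotaH 2 γ δ σ = Equiv.sumCongr (Equiv.prodCongrLeft (fun _ : ZMod 2 => σ)) (Equiv.refl _) := rfl
  rw [h1, Equiv.Perm.sign_sumCongr, Equiv.Perm.sign_prodCongrLeft]
  simp only [Finset.prod_const, Finset.card_univ, ZMod.card, sign_refl, mul_one]
  exact Int.units_sq _

/-- A rotation in one block of size two is a transposition. -/
theorem exists_sign_neg {γ δ : Type*} [Fintype γ] [DecidableEq γ] [Fintype δ] [DecidableEq δ] (i₀ : γ) :
    ∃ e, sign (phiH 2 γ δ e) = -1 := by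
  let e : γ → Multiplicative (ZMod 2) := fun i => if i = i₀ then Multiplicative.ofAdd 1 else 1
  refine ⟨e, ?_⟩
  have h1 : phiH 2 γ δ e = Equiv.swap (Sum.inl (i₀, 0)) (Sum.inl (i₀, 1)) := by
    ext x
    rcases x with ⟨i, j⟩ | k
    · by_cases hi : i = i₀
      · subst hi
        have hj : j = 0 ∨ j = 1 := by
          revert j
          decide
        rcases hj with rfl | rfl
        · simp [phiH_inl, e]
        · simp only [phiH_inl, e, if_true, toAdd_ofAdd, swap_apply_right]
          rfl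
      · have hne1 : (Sum.inl (i, j) : (γ × ZMod 2) ⊕ δ) ≠ Sum.inl (i₀, 0) := by
          intro h
          have := Sum.inl_injective h
          rw [Prod.mk.injEq] at this
          exact hi this.1
        have hne2 : (Sum.inl (i, j) : (γ × ZMod 2) ⊕ δ) ≠ Sum.inl (i₀, 1) := by
          intro h
          have := Sum.inl_injective h
          rw [Prod.mk.injEq] at this
          exact hi this.1
        rw [phiH_inl, swap_apply_of_ne_of_ne hne1 hne2]
        simp [e, hi]
    · rw [phiH_inr, swap_apply_of_ne_of_ne (by simp) (by simp)]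
  rw [h1, sign_swap]
  intro h
  have := Sum.inl_injective h
  rw [Prod.mk.injEq] at this
  exact absurd this.2 (by decide)

/-- The even part has index two. -/
theorem card_even_part {γ δ : Type*} [Fintype γ] [DecidableEq γ] [Fintype δ] [DecidableEq δ] (i₀ : γ) :
    Nat.card ((phiH 2 γ δ).range ⊓ alternatingGroup _ : Subgroup _) * 2 = 2 ^ Fintype.card γ := by
  set B := (phiH 2 γ δ).range
  have h1 := Cfsg.Agent.Lib.Coprime.relIndex_mul_card_of_le (H := B ⊓ alternatingGroup _) (T := B) inf_le_left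
  rw [Subgroup.inf_relIndex_left, alternatingGroup_eq_sign_ker, Subgroup.relIndex_ker] at h1
  have h2 : Nat.card (B.map (sign : Perm ((γ × ZMod 2) ⊕ δ) →* ℤˣ)) = 2 := by
    have h3 : B.map (sign : Perm ((γ × ZMod 2) ⊕ δ) →* ℤˣ) = ⊤ := by
      rw [eq_top_iff]
      intro x _
      rcases Int.units_eq_one_or x with rfl | rfl
      · exact Subgroup.one_mem _
      · obtain ⟨e, he⟩ := exists_sign_neg (δ := δ) i₀
        exact ⟨_, ⟨e, rfl⟩, he⟩
    rw [h3]
    simp
  rw [h2, card_phiH_range] at h1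
  rw [mul_comm]
  exact h1

end two

omit hp in
/-- Existence for the alternating group and `p = 2`. -/
theorem exists_gen_alt (n : ℕ) (hn : 2 ≤ n) : ∃ P : Subgroup (Perm (Fin n)), P ≤ alternatingGroup (Fin n) ∧
    Nat.card P * 2 = 2 ^ padicValNat 2 n.factorial ∧ GenP 2 P := by
  haveI : Fact (Nat.Prime 2) := ⟨Nat.prime_two⟩
  have hstep := valuation_step 2 n
  have hm : 0 < n / 2 := Nat.div_pos hn (by norm_num)
  obtain ⟨T, hT, hT2⟩ := exists_gen 2 (n / 2)
  let γ := Fin (n / 2)
  let δ := Fin (n % 2)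
  have hcard : Fintype.card ((γ × ZMod 2) ⊕ δ) = n := by
    simp only [Fintype.card_sum, Fintype.card_prod, Fintype.card_fin, ZMod.card, γ, δ]
    rw [mul_comm]
    exact Nat.div_add_mod n 2
  let e : ((γ × ZMod 2) ⊕ δ) ≃ Fin n := Fintype.equivFinOfCardEq hcard
  let A := alternatingGroup ((γ × ZMod 2) ⊕ δ)
  let B := (phiH 2 γ δ).range ⊓ A
  have hTA : T.map (iotaH 2 γ δ) ≤ A := by
    rintro _ ⟨σ, -, rfl⟩
    exact mem_alternatingGroup.mpr (sign_iotaH σ)
  have hTN : T.map (iotaH 2 γ δ) ≤ Subgroup.normalizer (B : Set (Perm ((γ × ZMod 2) ⊕ δ))) := by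
    intro t ht
    have h1 := iotaH_le_normalizer T ht
    rw [Subgroup.mem_normalizer_iff] at h1 ⊢
    have ht1 : sign t = 1 := mem_alternatingGroup.mp (hTA ht)
    intro b
    have h2 : b ∈ A ↔ t * b * t⁻¹ ∈ A := by
      simp only [A, mem_alternatingGroup, Perm.sign_mul, Perm.sign_inv, ht1, one_mul, mul_one]
    exact and_congr (h1 b) h2
  let P₀ : Subgroup (Perm ((γ × ZMod 2) ⊕ δ)) := T.map (iotaH 2 γ δ) ⊔ B
  have h1 : Nat.card P₀ * 2 = 2 ^ padicValNat 2 n.factorial := by
    rw [card_sup T B inf_le_left hTN, hT, hstep, pow_add, mul_assoc]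
    congr 1
    have h' := card_even_part (δ := δ) (⟨0, hm⟩ : γ)
    have h'' : Fintype.card γ = n / 2 := Fintype.card_fin _
    rw [h''] at h'
    exact h'
  have h2 : GenP 2 P₀ := genP_sup hT2 _ inf_le_left
  have h3 : P₀ ≤ A := sup_le hTA inf_le_right
  let f := (Equiv.permCongrHom e).toMonoidHom
  refine ⟨P₀.map f, ?_, ?_, h2.map f⟩
  · rintro _ ⟨x, hx, rfl⟩
    rw [mem_alternatingGroup]
    show sign (e.permCongr x) = 1
    rw [Equiv.Perm.sign_permCongr]
    exact mem_alternatingGroup.mp (h3 hx)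
  · rw [Subgroup.card_map_of_injective (Equiv.permCongrHom e).injective, h1]

/-- **Sylow subgroups of symmetric groups**. -/
theorem sylow_perm (n : ℕ) (P : Sylow p (Perm (Fin n))) : GenP p (P : Subgroup (Perm (Fin n))) := by
  obtain ⟨W, hW, hW2⟩ := exists_gen p n
  have hcard : Nat.card (Perm (Fin n)) = n.factorial := by
    rw [Nat.card_perm]
    simp
  let P₀ : Sylow p (Perm (Fin n)) := Sylow.ofCard W (by
    rw [hW, hcard, Nat.factorization_def _ hp.out])
  exact GenP.of_sylow P₀ P (by
    show GenP p W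
    exact hW2)

/-- **Sylow subgroups of alternating groups**. -/
theorem sylow_alt (n : ℕ) (hn : 2 ≤ n) (Q : Sylow p (alternatingGroup (Fin n))) :
    GenP p (Q : Subgroup (alternatingGroup (Fin n))) := by
  haveI : Nontrivial (Fin n) := Fin.nontrivial_iff_two_le.mpr hn
  have hcard : 2 * Nat.card (alternatingGroup (Fin n)) = n.factorial := by
    have := two_mul_nat_card_alternatingGroup (α := Fin n)
    rw [this, Nat.card_perm]
    simp
  have hc0 : Nat.card (alternatingGroup (Fin n)) ≠ 0 := Nat.card_pos.ne'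
  have hfac : padicValNat p n.factorial = (if p = 2 then 1 else 0) + (Nat.card (alternatingGroup (Fin n))).factorization p := by
    rw [← hcard, ← Nat.factorization_def _ hp.out, Nat.factorization_mul (by norm_num) hc0, Finsupp.add_apply]
    congr 1
    split_ifs with h
    · subst h
      exact Nat.Prime.factorization_self Nat.prime_two
    · exact Nat.factorization_eq_zero_of_not_dvd (fun hd => h ((Nat.prime_dvd_prime_iff_eq hp.out Nat.prime_two).mp hd))
  have key : ∃ W : Subgroup (Perm (Fin n)), W ≤ alternatingGroup (Fin n) ∧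
      Nat.card W = p ^ (Nat.card (alternatingGroup (Fin n))).factorization p ∧ GenP p W := by
    by_cases hp2 : p = 2
    · subst hp2
      obtain ⟨W, hWA, hW, hW2⟩ := exists_gen_alt n hn
      refine ⟨W, hWA, ?_, hW2⟩
      rw [hfac, if_pos rfl, add_comm, pow_succ] at hW
      exact Nat.eq_of_mul_eq_mul_right (by norm_num) hW
    · obtain ⟨W, hW, hW2⟩ := exists_gen p n
      rw [hfac, if_neg hp2, zero_add] at hW
      refine ⟨W, ?_, hW, hW2⟩
      -- odd `p`-groups are even
      intro x hx
      have hWp : IsPGroup p W := IsPGroup.of_card hW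
      obtain ⟨k, hk⟩ := hWp ⟨x, hx⟩
      have h1 : x ^ p ^ k = 1 := by
        have := congrArg Subtype.val hk
        simpa using this
      have h2 : (sign x) ^ p ^ k = 1 := by
        rw [← map_pow, h1, map_one]
      have hodd : Odd (p ^ k) := (hp.out.odd_of_ne_two hp2).pow
      rw [mem_alternatingGroup]
      rcases Int.units_eq_one_or (sign x) with h | h
      · exact h
      · rw [h, hodd.neg_one_pow] at h2
        exact absurd h2 (by decide)
  obtain ⟨W, hWA, hW, hW2⟩ := key
  let P₀ : Sylow p (alternatingGroup (Fin n)) := Sylow.ofCard (W.subgroupOf (alternatingGroup (Fin n))) (by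
    rw [Cfsg.Agent.Lib.Coprime.card_subgroupOf_of_le hWA, hW])
  exact GenP.of_sylow P₀ Q (by
    show GenP p (W.subgroupOf (alternatingGroup (Fin n)))
    exact hW2.subgroupOf hWA)

end Cfsg.Agent.Lib.SymSylowGen
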