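import Mathlib
import Cfsg.Agent.Lib.OrthOmega
import Cfsg.Agent.Lib.QuadFF2
import Cfsg.Agent.Lib.OrthNeg
import Cfsg.Agent.Lib.OrthoDihedral
import Cfsg.Agent.Lib.OrthMatrix
import Cfsg.Agent.Lib.OrthoCount
import Cfsg.Agent.Lib.OrthoOrder
import Cfsg.Agent.Lib.SymSylowGen

/-!
# Sylow `2`-subgroups of `Ω_n(q)`, `q` odd: the wreath model and the abelianization
-/

set_option autoImplicit false
set_option linter.unusedSectionVars false
set_option linter.unusedVariables false
set_option linter.unusedSimpArgs false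

namespace Cfsg.Agent.Lib.OmSyl99

open Module Equiv
open scoped commutatorElement
open Cfsg.Agent.Lib.OrthGroup Cfsg.Agent.Lib.OrthOmega

section wreath

variable {F W U : Type*} [Field F] [AddCommGroup W] [Module F W] [AddCommGroup U] [Module F U]
variable {k : ℕ}

/-- The base elements of the wreath product. -/
def wrBase (g : Fin k → (W ≃ₗ[F] W)) (h : U ≃ₗ[F] U) : ((Fin k → W) × U) ≃ₗ[F] ((Fin k → W) × U) :=
  (LinearEquiv.piCongrRight g).prodCongr h

@[simp] theorem wrBase_apply (g : Fin k → (W ≃ₗ[F] W)) (h : U ≃ₗ[F] U) (x : (Fin k → W) × U) :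
    wrBase g h x = (fun j => g j (x.1 j), h x.2) := rfl

/-- The permutations of the planes. -/
def wrPerm (τ : Perm (Fin k)) : ((Fin k → W) × U) ≃ₗ[F] ((Fin k → W) × U) :=
  (LinearEquiv.funCongrLeft F W τ⁻¹).prodCongr (LinearEquiv.refl F U)

@[simp] theorem wrPerm_apply (τ : Perm (Fin k)) (x : (Fin k → W) × U) :
    (wrPerm τ : ((Fin k → W) × U) ≃ₗ[F] ((Fin k → W) × U)) x = (fun j => x.1 (τ⁻¹ j), x.2) := rfl

theorem wrBase_mul (g g' : Fin k → (W ≃ₗ[F] W)) (h h' : U ≃ₗ[F] U) :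
    wrBase g h * wrBase g' h' = wrBase (g * g') (h * h') := by
  ext x <;> rfl

theorem wrBase_one : wrBase (1 : Fin k → (W ≃ₗ[F] W)) (1 : U ≃ₗ[F] U) = 1 := by
  ext x <;> rfl

theorem wrPerm_mul (τ τ' : Perm (Fin k)) :
    (wrPerm (τ * τ') : ((Fin k → W) × U) ≃ₗ[F] ((Fin k → W) × U)) = wrPerm τ * wrPerm τ' := by
  apply LinearEquiv.ext
  rintro ⟨v, u⟩
  simp [LinearEquiv.mul_apply, mul_inv_rev]

theorem wrPerm_one : (wrPerm (1 : Perm (Fin k)) : ((Fin k → W) × U) ≃ₗ[F] ((Fin k → W) × U)) = 1 := by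
  apply LinearEquiv.ext
  rintro ⟨v, u⟩
  simp

theorem wrPerm_mul_wrBase (τ : Perm (Fin k)) (g : Fin k → (W ≃ₗ[F] W)) (h : U ≃ₗ[F] U) :
    (wrPerm τ : ((Fin k → W) × U) ≃ₗ[F] ((Fin k → W) × U)) * wrBase g h
      = wrBase (fun j => g (τ⁻¹ j)) h * wrPerm τ := by
  apply LinearEquiv.ext
  rintro ⟨v, u⟩
  simp [LinearEquiv.mul_apply]

theorem wrPerm_inv (τ : Perm (Fin k)) :
    ((wrPerm τ : ((Fin k → W) × U) ≃ₗ[F] ((Fin k → W) × U)))⁻¹ = wrPerm τ⁻¹ := by
  rw [inv_eq_iff_mul_eq_one, ← wrPerm_mul, mul_inv_cancel, wrPerm_one]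

theorem wrBase_inv (g : Fin k → (W ≃ₗ[F] W)) (h : U ≃ₗ[F] U) :
    (wrBase g h)⁻¹ = wrBase g⁻¹ h⁻¹ := by
  rw [inv_eq_iff_mul_eq_one, wrBase_mul, mul_inv_cancel, mul_inv_cancel, wrBase_one]

/-- The subgroup `D ≀ T × H`. -/
def PP (D : Subgroup (W ≃ₗ[F] W)) (H : Subgroup (U ≃ₗ[F] U)) (T : Subgroup (Perm (Fin k))) :
    Subgroup (((Fin k → W) × U) ≃ₗ[F] ((Fin k → W) × U)) where
  carrier := {x | ∃ g h τ, (∀ j, g j ∈ D) ∧ h ∈ H ∧ τ ∈ T ∧ x = wrBase g h * wrPerm τ}
  mul_mem' := by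
    rintro _ _ ⟨g, h, τ, hg, hh, hτ, rfl⟩ ⟨g', h', τ', hg', hh', hτ', rfl⟩
    refine ⟨g * fun j => g' (τ⁻¹ j), h * h', τ * τ', fun j => D.mul_mem (hg j) (hg' _), H.mul_mem hh hh',
      T.mul_mem hτ hτ', ?_⟩
    rw [mul_assoc, ← mul_assoc (wrPerm τ), wrPerm_mul_wrBase, mul_assoc, ← wrPerm_mul, ← mul_assoc, wrBase_mul]
  one_mem' := ⟨1, 1, 1, fun j => D.one_mem, H.one_mem, T.one_mem, by rw [wrBase_one, wrPerm_one, one_mul]⟩
  inv_mem' := by
    rintro _ ⟨g, h, τ, hg, hh, hτ, rfl⟩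
    refine ⟨fun j => (g (τ j))⁻¹, h⁻¹, τ⁻¹, fun j => D.inv_mem (hg _), H.inv_mem hh, T.inv_mem hτ, ?_⟩
    rw [mul_inv_rev, wrPerm_inv, wrBase_inv, wrPerm_mul_wrBase]
    congr 2

theorem mem_PP {D : Subgroup (W ≃ₗ[F] W)} {H : Subgroup (U ≃ₗ[F] U)} {T : Subgroup (Perm (Fin k))}
    {x : ((Fin k → W) × U) ≃ₗ[F] ((Fin k → W) × U)} :
    x ∈ PP D H T ↔ ∃ g h τ, (∀ j, g j ∈ D) ∧ h ∈ H ∧ τ ∈ T ∧ x = wrBase g h * wrPerm τ := Iff.rfl

theorem wr_inj [Nontrivial W] {g g' : Fin k → (W ≃ₗ[F] W)} {h h' : U ≃ₗ[F] U} {τ τ' : Perm (Fin k)}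
    (e : (wrBase g h * wrPerm τ : ((Fin k → W) × U) ≃ₗ[F] ((Fin k → W) × U)) = wrBase g' h' * wrPerm τ') :
    g = g' ∧ h = h' ∧ τ = τ' := by
  classical
  have hcalc : ∀ (g : Fin k → (W ≃ₗ[F] W)) (h : U ≃ₗ[F] U) (τ : Perm (Fin k)) (x : (Fin k → W) × U),
      (wrBase g h * wrPerm τ : ((Fin k → W) × U) ≃ₗ[F] ((Fin k → W) × U)) x =
        (fun j => g j (x.1 (τ⁻¹ j)), h x.2) := by
    intro g h τ x
    rfl
  have hτ : τ = τ' := by
    ext j
    obtain ⟨w, hw⟩ := exists_ne (0 : W)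
    by_contra hne
    have hne' : τ j ≠ τ' j := fun hh => hne (by rw [hh])
    have := congrArg (fun y => y.1 (τ j)) (congrArg (fun f => f (Pi.single j w, (0 : U))) e)
    simp only [hcalc] at this
    have h1 : τ⁻¹ (τ j) = j := by simp
    rw [h1, Pi.single_eq_same] at this
    have h2 : τ'⁻¹ (τ j) ≠ j := by
      intro hh
      apply hne'
      have := congrArg τ' hh
      simpa using this
    rw [Pi.single_eq_of_ne h2, map_zero] at this
    exact hw ((g (τ j)).map_eq_zero_iff.1 this)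
  subst hτ
  refine ⟨?_, ?_, rfl⟩
  · ext j w
    have := congrArg (fun y => y.1 j) (congrArg (fun f => f ((fun i => if i = τ⁻¹ j then w else 0 : Fin k → W), (0 : U))) e)
    simpa [hcalc] using this
  · ext u
    have := congrArg (fun y => y.2) (congrArg (fun f => f ((0 : Fin k → W), u)) e)
    simpa [hcalc] using this

theorem card_PP [Nontrivial W] [Finite (W ≃ₗ[F] W)] [Finite (U ≃ₗ[F] U)] (D : Subgroup (W ≃ₗ[F] W)) (H : Subgroup (U ≃ₗ[F] U))
    (T : Subgroup (Perm (Fin k))) :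
    Nat.card (PP D H T) = Nat.card D ^ k * Nat.card H * Nat.card T := by
  classical
  let f : (Fin k → D) × H × T → PP D H T := fun x =>
    ⟨wrBase (fun j => (x.1 j : W ≃ₗ[F] W)) (x.2.1 : U ≃ₗ[F] U) * wrPerm (x.2.2 : Perm (Fin k)),
      _, _, _, fun j => (x.1 j).2, x.2.1.2, x.2.2.2, rfl⟩
  have hf : Function.Bijective f := by
    constructor
    · rintro ⟨a, b, c⟩ ⟨a', b', c'⟩ h
      have h1 := congrArg Subtype.val h
      obtain ⟨h2, h3, h4⟩ := wr_inj h1
      simp only at h2 h3 h4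
      refine Prod.ext ?_ (Prod.ext (Subtype.ext h3) (Subtype.ext h4))
      funext j
      exact Subtype.ext (congrFun h2 j)
    · rintro ⟨x, g, h, τ, hg, hh, hτ, rfl⟩
      exact ⟨(fun j => ⟨g j, hg j⟩, ⟨h, hh⟩, ⟨τ, hτ⟩), rfl⟩
  rw [← Nat.card_congr (Equiv.ofBijective f hf), Nat.card_prod, Nat.card_prod, Nat.card_fun]
  simp [mul_assoc]

end wreath


section core

variable {F V W U : Type*} [Field F] [AddCommGroup V] [Module F V]
  [AddCommGroup W] [Module F W] [AddCommGroup U] [Module F U]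
variable {k : ℕ}

/-- The quadratic form on the model space. -/
noncomputable def qm (N : QuadraticForm F W) (QU : QuadraticForm F U) (k : ℕ) :
    QuadraticForm F ((Fin k → W) × U) :=
  (QuadraticMap.pi fun _ : Fin k => N).prod QU

theorem qm_apply (N : QuadraticForm F W) (QU : QuadraticForm F U) (x : (Fin k → W) × U) :
    qm N QU k x = ∑ j, N (x.1 j) + QU x.2 := by
  simp [qm, QuadraticMap.prod_apply, QuadraticMap.pi_apply]

theorem wrBase_mem_O {N : QuadraticForm F W} {QU : QuadraticForm F U} {g : Fin k → (W ≃ₗ[F] W)}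
    {h : U ≃ₗ[F] U} (hg : ∀ j, g j ∈ O N) (hh : h ∈ O QU) : wrBase g h ∈ O (qm N QU k) := by
  intro x
  rw [qm_apply, qm_apply]
  simp only [wrBase_apply]
  rw [hh]
  congr 1
  exact Finset.sum_congr rfl fun j _ => hg j _

theorem wrPerm_mem_O {N : QuadraticForm F W} {QU : QuadraticForm F U} (τ : Perm (Fin k)) :
    (wrPerm τ : ((Fin k → W) × U) ≃ₗ[F] ((Fin k → W) × U)) ∈ O (qm N QU k) := by
  intro x
  rw [qm_apply, qm_apply]
  simp only [wrPerm_apply]
  congr 1
  exact Equiv.sum_comp τ⁻¹ (fun j => N (x.1 j))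

/-- The commutator subgroup of the isometry group, in the ambient group. -/
def OmT (Q : QuadraticForm F V) : Subgroup (V ≃ₗ[F] V) := (commutator ↥(O Q)).map (O Q).subtype

theorem comm_mem_OmT {Q : QuadraticForm F V} {a b : V ≃ₗ[F] V} (ha : a ∈ O Q) (hb : b ∈ O Q) :
    ⁅a, b⁆ ∈ OmT Q := by
  refine ⟨⁅(⟨a, ha⟩ : ↥(O Q)), (⟨b, hb⟩ : ↥(O Q))⁆, ?_, rfl⟩
  exact Subgroup.commutator_mem_commutator (Subgroup.mem_top _) (Subgroup.mem_top _)

theorem OmT_le_O (Q : QuadraticForm F V) : OmT Q ≤ O Q := by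
  rintro _ ⟨x, -, rfl⟩
  exact x.2

/-- Squares modulo the commutator subgroup multiply. -/
theorem mul_mul_mem {G : Type*} [Group G] (S : Subgroup G) {x y : G} (hx : x ∈ S) (hy : y ∈ S)
    (hx2 : x * x ∈ ⁅S, S⁆) (hy2 : y * y ∈ ⁅S, S⁆) : (x * y) * (x * y) ∈ ⁅S, S⁆ := by
  have h := Subgroup.commutator_mem_commutator (S.inv_mem hx) hy
  have e : (x * y) * (x * y) = (x * x) * ⁅x⁻¹, y⁆ * (y * y) := by
    rw [commutatorElement_def]
    group
  rw [e]
  exact Subgroup.mul_mem _ (Subgroup.mul_mem _ hx2 h) hy2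

theorem comm_wrBase_wrPerm (a : Fin k → (W ≃ₗ[F] W)) (τ : Perm (Fin k)) :
    ⁅(wrBase a (1 : U ≃ₗ[F] U)), (wrPerm τ : ((Fin k → W) × U) ≃ₗ[F] ((Fin k → W) × U))⁆
      = wrBase (fun l => a l * (a (τ⁻¹ l))⁻¹) 1 := by
  rw [commutatorElement_def, wrBase_inv, wrPerm_inv, mul_assoc (wrBase a 1), wrPerm_mul_wrBase,
    mul_assoc, mul_assoc, ← wrPerm_mul, mul_inv_cancel, wrPerm_one, mul_one, wrBase_mul]
  congr 1

/-- Two-point functions. -/
def tp (i j : Fin k) (a b : W ≃ₗ[F] W) : Fin k → (W ≃ₗ[F] W) :=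
  fun l => if l = i then a else if l = j then b else 1

theorem tp_left (i j : Fin k) (a b : W ≃ₗ[F] W) : tp i j a b i = a := by simp [tp]

theorem tp_right {i j : Fin k} (hij : i ≠ j) (a b : W ≃ₗ[F] W) : tp i j a b j = b := by
  simp [tp, hij.symm]

theorem tp_other {i j l : Fin k} (hi : l ≠ i) (hj : l ≠ j) (a b : W ≃ₗ[F] W) : tp i j a b l = 1 := by
  simp [tp, hi, hj]

theorem tp_mem_OmT {N : QuadraticForm F W} {QU : QuadraticForm F U} {i j : Fin k} (hij : i ≠ j)
    {d : W ≃ₗ[F] W} (hd : d ∈ O N) :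
    wrBase (tp i j d d⁻¹) (1 : U ≃ₗ[F] U) ∈ OmT (qm N QU k) := by
  have h1 : (1 : W ≃ₗ[F] W) ∈ O N := (O N).one_mem
  have h2 := comm_mem_OmT (Q := qm N QU k)
    (wrBase_mem_O (N := N) (QU := QU) (g := fun l => if l = i then d else 1) (h := 1)
      (fun l => by
        by_cases hl : l = i
        · simpa [hl] using hd
        · simpa [hl] using h1) (O QU).one_mem)
    (wrPerm_mem_O (N := N) (QU := QU) (swap i j))
  rw [comm_wrBase_wrPerm] at h2
  convert h2 using 2
  funext l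
  by_cases hli : l = i
  · subst hli
    simp [tp, hij.symm, swap_inv]
  · by_cases hlj : l = j
    · subst hlj
      simp [tp, hli, swap_inv]
    · simp [tp, hli, hlj, swap_inv, swap_apply_of_ne_of_ne hli hlj]

/-- An inverter gives the square in the commutator subgroup. -/
theorem sq_of_inverter {S : Subgroup (((Fin k → W) × U) ≃ₗ[F] ((Fin k → W) × U))}
    {g t : Fin k → (W ≃ₗ[F] W)} {h f : U ≃ₗ[F] U} (hy : wrBase g h ∈ S) (hz : wrBase t f ∈ S)
    (h1 : ∀ j, t j * g j * (t j)⁻¹ = (g j)⁻¹) (h2 : f * h * f⁻¹ = h⁻¹) :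
    wrBase g h * wrBase g h ∈ ⁅S, S⁆ := by
  have hc := Subgroup.commutator_mem_commutator hz hy
  have e : ⁅wrBase t f, wrBase g h⁆ = (wrBase g h * wrBase g h)⁻¹ := by
    rw [commutatorElement_def, wrBase_inv, wrBase_inv, wrBase_mul, wrBase_mul, wrBase_mul, wrBase_mul,
      wrBase_inv, h2]
    congr 1
    · funext j
      simp only [Pi.mul_apply, Pi.inv_apply, h1 j, _root_.mul_inv_rev]
  rw [e] at hc
  have := Subgroup.inv_mem _ hc
  rwa [inv_inv] at this

variable {N : QuadraticForm F W} {QU : QuadraticForm F U}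
  {D : Subgroup (W ≃ₗ[F] W)} {H : Subgroup (U ≃ₗ[F] U)} {T : Subgroup (Perm (Fin k))}
  {ρ : W ≃ₗ[F] W}

theorem wrBase_mem_PP {g : Fin k → (W ≃ₗ[F] W)} {h : U ≃ₗ[F] U} (hg : ∀ j, g j ∈ D) (hh : h ∈ H) :
    wrBase g h ∈ PP D H T :=
  ⟨g, h, 1, hg, hh, T.one_mem, by rw [wrPerm_one, mul_one]⟩

theorem wrPerm_mem_PP {τ : Perm (Fin k)} (hτ : τ ∈ T) :
    (wrPerm τ : ((Fin k → W) × U) ≃ₗ[F] ((Fin k → W) × U)) ∈ PP D H T :=
  ⟨1, 1, τ, fun j => D.one_mem, H.one_mem, hτ, by rw [wrBase_one, one_mul]⟩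

theorem tp_mem_D {i j : Fin k} {a b : W ≃ₗ[F] W} (ha : a ∈ D) (hb : b ∈ D) (l : Fin k) : tp i j a b l ∈ D := by
  unfold tp
  split_ifs
  · exact ha
  · exact hb
  · exact D.one_mem

/-- The squares of the two-point elements. -/
theorem sq_tp (hDO : D ≤ O N) (hρ : ρ ∈ D) (hρ2 : ρ * ρ = 1)
    (hD : ∀ d ∈ D, d * d = 1 ∨ ρ * d * ρ⁻¹ = d⁻¹) {i j : Fin k} (hij : i ≠ j) {d : W ≃ₗ[F] W} (hd : d ∈ D) :
    wrBase (tp i j d d⁻¹) (1 : U ≃ₗ[F] U) * wrBase (tp i j d d⁻¹) (1 : U ≃ₗ[F] U) ∈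
      ⁅PP D H T ⊓ OmT (qm N QU k), PP D H T ⊓ OmT (qm N QU k)⁆ := by
  rcases hD d hd with h | h
  · have : wrBase (tp i j d d⁻¹) (1 : U ≃ₗ[F] U) * wrBase (tp i j d d⁻¹) (1 : U ≃ₗ[F] U) = 1 := by
      rw [wrBase_mul, ← wrBase_one]
      congr 1
      · funext l
        have h' : d⁻¹ * d⁻¹ = 1 := by rw [← _root_.mul_inv_rev, h, inv_one]
        by_cases hli : l = i
        · subst hli; simp [tp_left, h]
        · by_cases hlj : l = j
          · subst hlj; simp [tp_right hij, h']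
          · simp [tp_other hli hlj]
    rw [this]
    exact Subgroup.one_mem _
  · have hρinv : ρ⁻¹ = ρ := by rw [inv_eq_iff_mul_eq_one]; exact hρ2
    refine sq_of_inverter (t := tp i j ρ ρ) (f := 1) ⟨wrBase_mem_PP (tp_mem_D hd (D.inv_mem hd)) H.one_mem,
      tp_mem_OmT hij (hDO hd)⟩ ⟨wrBase_mem_PP (tp_mem_D hρ hρ) H.one_mem, ?_⟩ ?_ (by simp)
    · have := tp_mem_OmT (N := N) (QU := QU) hij (hDO hρ)
      rwa [hρinv] at this
    · intro l
      by_cases hli : l = i
      · subst hli; simp only [tp_left]; exact h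
      · by_cases hlj : l = j
        · subst hlj
          simp only [tp_right hij]
          have e : ρ * d⁻¹ * ρ⁻¹ = (ρ * d * ρ⁻¹)⁻¹ := by group
          rw [e, h]
        · simp [tp_other hli hlj]

/-- The squares of the one-point elements. -/
theorem sq_one_point (hk : ∀ j₀ : Fin k, ∃ j₁, j₁ ≠ j₀) (hDO : D ≤ O N) (hρ : ρ ∈ D) (hρ2 : ρ * ρ = 1)
    (hD : ∀ d ∈ D, d * d = 1 ∨ ρ * d * ρ⁻¹ = d⁻¹) (hH : ∀ h ∈ H, h * h = 1) {j₀ : Fin k}
    {d : W ≃ₗ[F] W} (hd : d ∈ D) {h : U ≃ₗ[F] U} (hh : h ∈ H)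
    (hy : wrBase (tp j₀ j₀ d 1) h ∈ OmT (qm N QU k)) :
    wrBase (tp j₀ j₀ d 1) h * wrBase (tp j₀ j₀ d 1) h ∈
      ⁅PP D H T ⊓ OmT (qm N QU k), PP D H T ⊓ OmT (qm N QU k)⁆ := by
  rcases hD d hd with h' | h'
  · have : wrBase (tp j₀ j₀ d 1) h * wrBase (tp j₀ j₀ d 1) h = 1 := by
      rw [wrBase_mul, hH h hh, ← wrBase_one]
      congr 1
      funext l
      by_cases hli : l = j₀
      · subst hli; simp [tp_left, h']
      · simp [tp, hli]
    rw [this]
    exact Subgroup.one_mem _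
  · have hρinv : ρ⁻¹ = ρ := by rw [inv_eq_iff_mul_eq_one]; exact hρ2
    obtain ⟨j₁, hj₁⟩ := hk j₀
    have hj := hj₁.symm
    refine sq_of_inverter (t := tp j₀ j₁ ρ ρ) (f := 1) ⟨wrBase_mem_PP (tp_mem_D hd D.one_mem) hh, hy⟩
      ⟨wrBase_mem_PP (tp_mem_D hρ hρ) H.one_mem, ?_⟩ ?_ ?_
    · have := tp_mem_OmT (N := N) (QU := QU) hj (hDO hρ)
      rwa [hρinv] at this
    · intro l
      by_cases hli : l = j₀
      · subst hli; simp only [tp_left]; exact h'
      · by_cases hlj : l = j₁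
        · subst hlj
          simp [tp_right hj, tp, hli]
        · simp [tp, hli, hlj]
    · have := hH h hh
      rw [one_mul, inv_one, mul_one, eq_inv_iff_mul_eq_one]
      exact this

/-- The squares of all base elements. -/
theorem sq_base (hk : ∀ j₀ : Fin k, ∃ j₁, j₁ ≠ j₀) (hDO : D ≤ O N) (hρ : ρ ∈ D) (hρ2 : ρ * ρ = 1)
    (hD : ∀ d ∈ D, d * d = 1 ∨ ρ * d * ρ⁻¹ = d⁻¹) (hH : ∀ h ∈ H, h * h = 1) (j₀ : Fin k)
    (J : Finset (Fin k)) :
    ∀ (g : Fin k → (W ≃ₗ[F] W)) (h : U ≃ₗ[F] U), (∀ j, g j ∈ D) → h ∈ H → (∀ j, j ∉ J → j ≠ j₀ → g j = 1) →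
      wrBase g h ∈ OmT (qm N QU k) →
      wrBase g h * wrBase g h ∈ ⁅PP D H T ⊓ OmT (qm N QU k), PP D H T ⊓ OmT (qm N QU k)⁆ := by
  classical
  induction J using Finset.induction_on with
  | empty =>
    intro g h hg hh hsupp hy
    have e : g = tp j₀ j₀ (g j₀) 1 := by
      funext l
      by_cases hl : l = j₀
      · subst hl; simp [tp]
      · simp [tp, hl, hsupp l (by simp) hl]
    rw [e] at hy ⊢
    exact sq_one_point hk hDO hρ hρ2 hD hH (hg j₀) hh hy
  | insert i J hi IH =>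
    intro g h hg hh hsupp hy
    by_cases hij : i = j₀
    · refine IH g h hg hh (fun j hj hj' => hsupp j ?_ hj') hy
      simp only [Finset.mem_insert, not_or]
      exact ⟨fun e => hj' (e.trans hij), hj⟩
    · -- split off the point `i`
      set y : ((Fin k → W) × U) ≃ₗ[F] ((Fin k → W) × U) := wrBase (tp i j₀ (g i) (g i)⁻¹) 1 with hydef
      set g' : Fin k → (W ≃ₗ[F] W) := fun l => if l = i then 1 else if l = j₀ then g j₀ * g i else g l with hg'def
      have hyO : y ∈ OmT (qm N QU k) := tp_mem_OmT hij (hDO (hg i))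
      have hyP : y ∈ PP D H T := wrBase_mem_PP (tp_mem_D (hg i) (D.inv_mem (hg i))) H.one_mem
      have e : wrBase g h = wrBase g' h * y := by
        rw [hydef, wrBase_mul, mul_one]
        congr 1
        funext l
        by_cases hli : l = i
        · subst hli; simp [hg'def, tp_left]
        · by_cases hlj : l = j₀
          · subst hlj; simp [hg'def, tp_right hij, hli]
          · simp [hg'def, tp_other hli hlj, hli, hlj]
      have hg'D : ∀ j, g' j ∈ D := by
        intro l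
        simp only [hg'def]
        split_ifs
        · exact D.one_mem
        · exact D.mul_mem (hg _) (hg _)
        · exact hg _
      have hx : wrBase g' h ∈ OmT (qm N QU k) := by
        have : wrBase g' h = wrBase g h * y⁻¹ := by rw [e]; group
        rw [this]
        exact Subgroup.mul_mem _ hy (Subgroup.inv_mem _ hyO)
      have hxS : wrBase g' h ∈ PP D H T ⊓ OmT (qm N QU k) := ⟨wrBase_mem_PP hg'D hh, hx⟩
      have hyS : y ∈ PP D H T ⊓ OmT (qm N QU k) := ⟨hyP, hyO⟩
      rw [e]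
      refine mul_mul_mem _ hxS hyS ?_ ?_
      · refine IH g' h hg'D hh ?_ hx
        intro l hl hl'
        simp only [hg'def]
        by_cases hli : l = i
        · simp [hli]
        · rw [if_neg hli, if_neg hl']
          refine hsupp l ?_ hl'
          simp [hli, hl]
      · exact sq_tp hDO hρ hρ2 hD hij (hg i)

/-- The group-theoretic core. -/
theorem core_good (hk : ∀ j₀ : Fin k, ∃ j₁, j₁ ≠ j₀) (hDO : D ≤ O N) (hρ : ρ ∈ D) (hρ2 : ρ * ρ = 1)
    (hD : ∀ d ∈ D, d * d = 1 ∨ ρ * d * ρ⁻¹ = d⁻¹) (hH : ∀ h ∈ H, h * h = 1)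
    (hT : ∀ τ ∈ T, τ * τ ∈ ⁅T, T⁆)
    (hswap : ∀ i j : Fin k, i ≠ j → (wrPerm (swap i j) : ((Fin k → W) × U) ≃ₗ[F] ((Fin k → W) × U)) ∈ OmT (qm N QU k)) :
    ∀ x ∈ PP D H T ⊓ OmT (qm N QU k), x * x ∈ ⁅PP D H T ⊓ OmT (qm N QU k), PP D H T ⊓ OmT (qm N QU k)⁆ := by
  classical
  rintro x ⟨⟨g, h, τ, hg, hh, hτ, rfl⟩, hx⟩
  have hperm : ∀ σ : Perm (Fin k), (wrPerm σ : ((Fin k → W) × U) ≃ₗ[F] ((Fin k → W) × U)) ∈ OmT (qm N QU k) := by
    intro σ
    induction σ using Equiv.Perm.swap_induction_on with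
    | one => rw [wrPerm_one]; exact Subgroup.one_mem _
    | swap_mul f i j hij IH =>
      rw [wrPerm_mul]
      exact Subgroup.mul_mem _ (hswap i j hij) IH
  have hb : wrBase g h ∈ OmT (qm N QU k) := by
    have := Subgroup.mul_mem _ hx (Subgroup.inv_mem _ (hperm τ))
    rwa [mul_inv_cancel_right] at this
  have hbS : wrBase g h ∈ PP D H T ⊓ OmT (qm N QU k) := ⟨wrBase_mem_PP hg hh, hb⟩
  have hpS : (wrPerm τ : ((Fin k → W) × U) ≃ₗ[F] ((Fin k → W) × U)) ∈ PP D H T ⊓ OmT (qm N QU k) :=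
    ⟨wrPerm_mem_PP hτ, hperm τ⟩
  refine mul_mul_mem _ hbS hpS ?_ ?_
  · by_cases hk0 : Nonempty (Fin k)
    · obtain ⟨j₀⟩ := hk0
      refine sq_base hk hDO hρ hρ2 hD hH j₀ Finset.univ g h hg hh (by simp) hb
    · have hg1 : g = 1 := funext fun j => absurd ⟨j⟩ hk0
      have : wrBase g h * wrBase g h = 1 := by
        rw [wrBase_mul, hH h hh, hg1, mul_one, wrBase_one]
      rw [this]
      exact Subgroup.one_mem _
  · -- the permutation part
    let φ : Perm (Fin k) →* (((Fin k → W) × U) ≃ₗ[F] ((Fin k → W) × U)) :=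
      { toFun := wrPerm, map_one' := wrPerm_one, map_mul' := wrPerm_mul }
    have h1 : (⁅T, T⁆).map φ = ⁅T.map φ, T.map φ⁆ := Subgroup.map_commutator _ _ _
    have h2 : T.map φ ≤ PP D H T ⊓ OmT (qm N QU k) := by
      rintro _ ⟨σ, hσ, rfl⟩
      exact ⟨wrPerm_mem_PP hσ, hperm σ⟩
    have h3 : φ (τ * τ) ∈ ⁅T.map φ, T.map φ⁆ := by
      rw [← h1]
      exact ⟨τ * τ, hT τ hτ, rfl⟩
    have h4 := Subgroup.commutator_mono h2 h2 h3
    rwa [map_mul] at h4

end core

section plane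

variable {F : Type*} [Field F]

/-- The form `x² + y²` on the plane. -/
noncomputable def NN (F : Type*) [Field F] : QuadraticForm F (F × F) :=
  (QuadraticMap.sq (R := F)).prod QuadraticMap.sq

theorem NN_apply (x : F × F) : NN F x = x.1 * x.1 + x.2 * x.2 := by
  simp [NN, QuadraticMap.prod_apply]

/-- The reflection `(x, y) ↦ (x, -y)`. -/
def rhoP (F : Type*) [Field F] : (F × F) ≃ₗ[F] (F × F) :=
  (LinearEquiv.refl F F).prodCongr (LinearEquiv.neg F)

@[simp] theorem rhoP_apply (x : F × F) : rhoP F x = (x.1, -x.2) := rfl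

theorem rhoP_mem : rhoP F ∈ O (NN F) := by
  intro x
  simp [NN_apply]

theorem rhoP_sq : rhoP F * rhoP F = 1 := by
  apply LinearEquiv.ext
  rintro ⟨x, y⟩
  simp [LinearEquiv.mul_apply]

theorem plane_apply (d : (F × F) ≃ₗ[F] (F × F)) (x y : F) :
    d (x, y) = (x * (d (1, 0)).1 + y * (d (0, 1)).1, x * (d (1, 0)).2 + y * (d (0, 1)).2) := by
  have : ((x, y) : F × F) = x • ((1, 0) : F × F) + y • ((0, 1) : F × F) := by
    ext <;> simp
  rw [this, map_add, map_smul, map_smul]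
  ext <;> simp

/-- Every isometry of the plane is an involution or inverted by `rhoP`. -/
theorem plane_dichotomy (h2 : (2 : F) ≠ 0) {d : (F × F) ≃ₗ[F] (F × F)} (hd : d ∈ O (NN F)) :
    d * d = 1 ∨ rhoP F * d * (rhoP F)⁻¹ = d⁻¹ := by
  have hρinv : (rhoP F)⁻¹ = rhoP F := by rw [inv_eq_iff_mul_eq_one]; exact rhoP_sq
  obtain ⟨a, b, hab⟩ : ∃ a b, d (1, 0) = (a, b) := ⟨_, _, rfl⟩
  obtain ⟨c, e, hce⟩ : ∃ c e, d (0, 1) = (c, e) := ⟨_, _, rfl⟩
  have hform : ∀ x y, d (x, y) = (x * a + y * c, x * b + y * e) := by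
    intro x y
    rw [plane_apply, hab, hce]
  have h1 : a * a + b * b = 1 := by
    have := hd (1, 0)
    rw [hab, NN_apply, NN_apply] at this
    simpa using this
  have h3 : c * c + e * e = 1 := by
    have := hd (0, 1)
    rw [hce, NN_apply, NN_apply] at this
    simpa using this
  have h4 : a * c + b * e = 0 := by
    have := hd (1, 1)
    rw [hform, NN_apply, NN_apply] at this
    simp only [one_mul] at this
    have h5 : 2 * (a * c + b * e) = 0 := by linear_combination this - h1 - h3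
    exact (mul_eq_zero.1 h5).resolve_left h2
  have hl : (a * e - b * c) * (a * e - b * c) = 1 := by
    linear_combination (c * c + e * e) * h1 + h3 - (a * c + b * e) * h4
  have hc : c = -((a * e - b * c) * b) := by
    linear_combination (-c) * h1 + a * h4
  have he : e = (a * e - b * c) * a := by
    linear_combination (-e) * h1 + b * h4
  rcases mul_self_eq_one_iff.1 hl with hlam | hlam
  · right
    rw [hlam, one_mul] at hc he
    rw [hρinv, eq_inv_iff_mul_eq_one]
    apply LinearEquiv.ext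
    rintro ⟨x, y⟩
    have e1 : (rhoP F * d * rhoP F * d) (x, y) = rhoP F (d (rhoP F (d (x, y)))) := rfl
    rw [e1]
    simp only [rhoP_apply, hform]
    subst hc he
    ext
    · show _ = x
      simp only
      linear_combination x * h1
    · show _ = y
      simp only
      linear_combination y * h1
  · left
    rw [hlam] at hc he
    apply LinearEquiv.ext
    rintro ⟨x, y⟩
    have e1 : (d * d) (x, y) = d (d (x, y)) := rfl
    rw [e1, hform, hform]
    subst hc he
    ext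
    · show _ = x
      simp only
      linear_combination x * h1
    · show _ = y
      simp only
      linear_combination y * h1

end plane

section swapRefl

variable {F U : Type*} [Field F] [AddCommGroup U] [Module F U] {k : ℕ}

/-- The difference vectors. -/
def vv (i j : Fin k) (w : F × F) : (Fin k → F × F) × U :=
  (fun l => if l = i then w else if l = j then -w else 0, 0)

theorem B_NN (x y : F × F) : B (NN F) x y = 2 * (x.1 * y.1 + x.2 * y.2) := by
  rw [B_apply, NN_apply, NN_apply, NN_apply]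
  simp only [Prod.fst_add, Prod.snd_add]
  ring

theorem qm_vv {QU : QuadraticForm F U} {i j : Fin k} (hij : i ≠ j) (w : F × F) :
    qm (NN F) QU k (vv i j w) = 2 * NN F w := by
  classical
  rw [qm_apply]
  have hsum : ∑ l, NN F ((vv (U := U) i j w).1 l) = NN F w + NN F w := by
    rw [Finset.sum_eq_add i j hij (fun c _ hc => ?_) (by simp) (by simp)]
    · simp [vv, hij.symm, NN_apply]
    · simp [vv, hc.1, hc.2, NN_apply]
  rw [hsum]
  simp only [vv, map_zero]
  ring

theorem B_qm_vv {QU : QuadraticForm F U} {i j : Fin k} (hij : i ≠ j) (x : (Fin k → F × F) × U) (w : F × F) :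
    B (qm (NN F) QU k) x (vv i j w) = 2 * ((x.1 i - x.1 j).1 * w.1 + (x.1 i - x.1 j).2 * w.2) := by
  classical
  rw [B_apply, qm_apply, qm_apply, qm_apply]
  have hsum : ∑ l, NN F ((x + vv (U := U) i j w).1 l) - ∑ l, NN F (x.1 l) - ∑ l, NN F ((vv (U := U) i j w).1 l)
      = 2 * ((x.1 i - x.1 j).1 * w.1 + (x.1 i - x.1 j).2 * w.2) := by
    rw [← Finset.sum_sub_distrib, ← Finset.sum_sub_distrib,
      Finset.sum_eq_add i j hij (fun c _ hc => ?_) (by simp) (by simp)]
    · simp [vv, hij.symm, NN_apply]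
      ring
    · simp [vv, hc.1, hc.2, NN_apply]
  have hU : QU (x + vv (U := U) i j w).2 - QU x.2 - QU (vv (U := U) i j w).2 = 0 := by
    simp [vv]
  linear_combination hsum + hU

theorem refl_vv_fst {QU : QuadraticForm F U} (h2 : (2 : F) ≠ 0) {i j : Fin k} (hij : i ≠ j) (x : (Fin k → F × F) × U) :
    refl (qm (NN F) QU k) (vv i j (1, 0)) x =
      (fun l => if l = i then ((x.1 j).1, (x.1 i).2) else if l = j then ((x.1 i).1, (x.1 j).2) else x.1 l, x.2) := by
  rw [OrthGroup.refl_apply, qm_vv hij, B_qm_vv hij]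
  have hc : (2 * NN F ((1, 0) : F × F))⁻¹ * (2 * ((x.1 i - x.1 j).1 * ((1, 0) : F × F).1 + (x.1 i - x.1 j).2 * ((1, 0) : F × F).2))
      = (x.1 i).1 - (x.1 j).1 := by
    simp [NN_apply]
    field_simp
  rw [hc]
  ext l
  · by_cases hi : l = i
    · subst hi; simp [vv]
    · by_cases hj : l = j
      · subst hj; simp [vv, hi]
      · simp [vv, hi, hj]
  · by_cases hi : l = i
    · subst hi; simp [vv]
    · by_cases hj : l = j
      · subst hj; simp [vv, hi]
      · simp [vv, hi, hj]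
  · simp [vv]

theorem refl_vv_snd {QU : QuadraticForm F U} (h2 : (2 : F) ≠ 0) {i j : Fin k} (hij : i ≠ j) (x : (Fin k → F × F) × U) :
    refl (qm (NN F) QU k) (vv i j (0, 1)) x =
      (fun l => if l = i then ((x.1 i).1, (x.1 j).2) else if l = j then ((x.1 j).1, (x.1 i).2) else x.1 l, x.2) := by
  rw [OrthGroup.refl_apply, qm_vv hij, B_qm_vv hij]
  have hc : (2 * NN F ((0, 1) : F × F))⁻¹ * (2 * ((x.1 i - x.1 j).1 * ((0, 1) : F × F).1 + (x.1 i - x.1 j).2 * ((0, 1) : F × F).2))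
      = (x.1 i).2 - (x.1 j).2 := by
    simp [NN_apply]
    field_simp
  rw [hc]
  ext l
  · by_cases hi : l = i
    · subst hi; simp [vv]
    · by_cases hj : l = j
      · subst hj; simp [vv, hi]
      · simp [vv, hi, hj]
  · by_cases hi : l = i
    · subst hi; simp [vv]
    · by_cases hj : l = j
      · subst hj; simp [vv, hi]
      · simp [vv, hi, hj]
  · simp [vv]

theorem swap_eq_prodR {QU : QuadraticForm F U} (h2 : (2 : F) ≠ 0) {i j : Fin k} (hij : i ≠ j) :
    (wrPerm (swap i j) : ((Fin k → F × F) × U) ≃ₗ[F] ((Fin k → F × F) × U))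
      = prodR (qm (NN F) QU k) [vv i j (1, 0), vv i j (0, 1)] := by
  apply LinearEquiv.ext
  intro x
  have e1 : prodR (qm (NN F) QU k) [vv i j (1, 0), vv i j (0, 1)] x =
      refl (qm (NN F) QU k) (vv i j (1, 0)) (refl (qm (NN F) QU k) (vv i j (0, 1)) x) := by
    simp [LinearEquiv.mul_apply]
  rw [e1, refl_vv_fst h2 hij, refl_vv_snd h2 hij]
  ext l
  · by_cases hi : l = i
    · subst hi; simp [swap_inv, hij.symm]
    · by_cases hjj : l = j
      · subst hjj; simp [swap_inv, hi]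
      · simp [swap_inv, hi, hjj, swap_apply_of_ne_of_ne hi hjj]
  · by_cases hi : l = i
    · subst hi; simp [swap_inv, hij.symm]
    · by_cases hjj : l = j
      · subst hjj; simp [swap_inv, hi]
      · simp [swap_inv, hi, hjj, swap_apply_of_ne_of_ne hi hjj]
  · simp

theorem swap_mem_OmT [Fintype F] [FiniteDimensional F U] {QU : QuadraticForm F U} (h2 : (2 : F) ≠ 0)
    (hQ : (B (qm (NN F) QU k)).Nondegenerate) {i j : Fin k} (hij : i ≠ j) :
    (wrPerm (swap i j) : ((Fin k → F × F) × U) ≃ₗ[F] ((Fin k → F × F) × U)) ∈ OmT (qm (NN F) QU k) := by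
  refine ⟨prodO (qm (NN F) QU k) [vv i j (1, 0), vv i j (0, 1)], ?_, ?_⟩
  · apply prodO_mem_commutator hQ
    · intro v hv
      simp only [List.mem_cons, List.not_mem_nil, or_false] at hv
      rcases hv with rfl | rfl <;> rw [qm_vv hij] <;> simp [NN_apply, h2]
    · simp
    · simp only [List.map_cons, List.map_nil, List.prod_cons, List.prod_nil]
      rw [qm_vv hij, qm_vv hij]
      exact ⟨2, by simp [NN_apply]⟩
  · rw [swap_eq_prodR h2 hij]
    rfl

end swapRefl

section transfer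

/-- Squares lie in the commutator subgroup. -/
def GoodSub {G : Type*} [Group G] (H : Subgroup G) : Prop := ∀ x ∈ H, x * x ∈ ⁅H, H⁆

theorem GoodSub.map {G G' : Type*} [Group G] [Group G'] (f : G →* G') {H : Subgroup G} (hH : GoodSub H) :
    GoodSub (H.map f) := by
  rintro _ ⟨x, hx, rfl⟩
  rw [← map_mul, ← Subgroup.map_commutator]
  exact ⟨_, hH x hx, rfl⟩

theorem GoodSub.of_map {G G' : Type*} [Group G] [Group G'] (f : G →* G') (hf : Function.Injective f)
    {H : Subgroup G} (hH : GoodSub (H.map f)) : GoodSub H := by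
  intro x hx
  have h1 := hH (f x) ⟨x, hx, rfl⟩
  rw [← map_mul, ← Subgroup.map_commutator] at h1
  obtain ⟨y, hy, hyx⟩ := h1
  rwa [← hf hyx]

theorem GoodSub.pow_mem {G : Type*} [Group G] {H : Subgroup G} (hH : GoodSub H) (x : H) :
    x ^ 2 ∈ commutator H := by
  have h1 := hH x.1 x.2
  rw [← Subgroup.map_subtype_commutator] at h1
  obtain ⟨y, hy, hyx⟩ := h1
  have : y = x ^ 2 := by
    apply Subtype.ext
    rw [Subgroup.coe_subtype] at hyx
    rw [hyx, sq]
    rfl
  rwa [← this]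

theorem GoodSub.sylow_all {G : Type*} [Group G] [Finite G] (P₀ : Sylow 2 G) (h : GoodSub (P₀ : Subgroup G))
    (P : Sylow 2 G) : GoodSub (P : Subgroup G) := by
  obtain ⟨g, rfl⟩ := MulAction.exists_smul_eq G P₀ P
  rw [Sylow.coe_subgroup_smul, Subgroup.pointwise_smul_def]
  exact h.map _

theorem GoodSub.sylow_equiv {G G' : Type*} [Group G] [Group G'] [Finite G] (e : G ≃* G')
    (h : ∀ P : Sylow 2 G', GoodSub (P : Subgroup G')) (P : Sylow 2 G) : GoodSub (P : Subgroup G) := by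
  have h1 := h (P.mapSurjective (f := e.toMonoidHom) e.surjective)
  have h2 : ((P.mapSurjective (f := e.toMonoidHom) e.surjective : Sylow 2 G') : Subgroup G') =
      (P : Subgroup G).map e.toMonoidHom := rfl
  rw [h2] at h1
  exact GoodSub.of_map _ e.injective h1

/-- A normal subgroup meets a subgroup of index prime to `p` in a subgroup of index prime to `p`. -/
theorem not_dvd_relIndex {G : Type*} [Group G] [Finite G] {p : ℕ} (P N : Subgroup G) [N.Normal]
    (hP : ¬ p ∣ P.index) : ¬ p ∣ P.relIndex N := by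
  have h1 : P.relIndex (P ⊔ N) ∣ P.index := Subgroup.relIndex_dvd_index_of_le le_sup_left
  have ha := Subgroup.relIndex_mul_relIndex (P ⊓ N) N (P ⊔ N) inf_le_right le_sup_right
  have hb := Subgroup.relIndex_mul_relIndex (P ⊓ N) P (P ⊔ N) inf_le_left le_sup_left
  rw [Subgroup.inf_relIndex_right, Subgroup.relIndex_sup_right] at ha
  rw [Subgroup.inf_relIndex_left] at hb
  have hne : N.relIndex P ≠ 0 := Subgroup.index_ne_zero_of_finite
  have h2 : P.relIndex N = P.relIndex (P ⊔ N) := by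
    have := ha.trans hb.symm
    rw [mul_comm] at this
    exact Nat.eq_of_mul_eq_mul_left (Nat.pos_of_ne_zero hne) this
  rw [h2]
  exact fun h => hP (h.trans h1)

/-- Transfer from the isometry group to its commutator subgroup. -/
theorem good_Omega {F V : Type*} [Field F] [AddCommGroup V] [Module F V] [Finite (V ≃ₗ[F] V)]
    (Q : QuadraticForm F V) (P₁ : Sylow 2 ↥(O Q))
    (hgood : GoodSub ((P₁ : Subgroup ↥(O Q)).map (O Q).subtype ⊓ OmT Q))
    (P : Sylow 2 ↥(commutator ↥(O Q))) : GoodSub (P : Subgroup ↥(commutator ↥(O Q))) := by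
  have hN : (commutator ↥(O Q)).Normal := inferInstance
  have hp : IsPGroup 2 ((P₁ : Subgroup ↥(O Q)).subgroupOf (commutator ↥(O Q))) :=
    P₁.isPGroup'.comap_of_injective _ (Subgroup.subtype_injective _)
  have hi : ¬ 2 ∣ ((P₁ : Subgroup ↥(O Q)).subgroupOf (commutator ↥(O Q))).index :=
    not_dvd_relIndex _ _ P₁.not_dvd_index
  refine GoodSub.sylow_all (hp.toSylow hi) ?_ P
  rw [IsPGroup.toSylow_coe]
  let f : ↥(commutator ↥(O Q)) →* (V ≃ₗ[F] V) := (O Q).subtype.comp (commutator ↥(O Q)).subtype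
  have hf : Function.Injective f :=
    (Subgroup.subtype_injective _).comp (Subgroup.subtype_injective _)
  refine GoodSub.of_map f hf ?_
  have e : ((P₁ : Subgroup ↥(O Q)).subgroupOf (commutator ↥(O Q))).map f =
      (P₁ : Subgroup ↥(O Q)).map (O Q).subtype ⊓ OmT Q := by
    ext y
    constructor
    · rintro ⟨x, hx, rfl⟩
      exact ⟨⟨x.1, hx, rfl⟩, ⟨x.1, x.2, rfl⟩⟩
    · rintro ⟨⟨a, ha, rfl⟩, ⟨b, hb, hab⟩⟩
      have hba : b = a := Subtype.ext hab
      subst hba
      exact ⟨⟨b, hb⟩, ha, rfl⟩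
  rw [e]
  exact hgood

/-- The commutator subgroups of isomorphic groups are isomorphic. -/
noncomputable def commEquivO {G G' : Type*} [Group G] [Group G'] (e : G ≃* G') : ↥(commutator G) ≃* ↥(commutator G') :=
  (e.subgroupMap (commutator G)).trans (MulEquiv.subgroupCongr (by
    rw [commutator_def, commutator_def, Subgroup.map_commutator]
    congr 1 <;> exact Subgroup.map_top_of_surjective _ e.surjective))

/-- Isometric forms have isomorphic isometry groups. -/
def Oequiv {F V V' : Type*} [Field F] [AddCommGroup V] [Module F V] [AddCommGroup V'] [Module F V']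
    {Q : QuadraticForm F V} {Q' : QuadraticForm F V'} (φ : V' ≃ₗ[F] V) (h : ∀ v, Q (φ v) = Q' v) :
    ↥(O Q) ≃* ↥(O Q') where
  toFun g := ⟨φ.trans ((g : V ≃ₗ[F] V).trans φ.symm), by
    intro x
    simp only [LinearEquiv.trans_apply]
    rw [← h, LinearEquiv.apply_symm_apply, g.2, h]⟩
  invFun g := ⟨φ.symm.trans ((g : V' ≃ₗ[F] V').trans φ), by
    intro x
    simp only [LinearEquiv.trans_apply]
    rw [h, g.2, ← h, LinearEquiv.apply_symm_apply]⟩
  left_inv g := by
    apply Subtype.ext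
    apply LinearEquiv.ext
    intro x
    simp
  right_inv g := by
    apply Subtype.ext
    apply LinearEquiv.ext
    intro x
    simp
  map_mul' g g' := by
    apply Subtype.ext
    apply LinearEquiv.ext
    intro x
    simp [LinearEquiv.mul_apply]

end transfer

section numeric

/-- The exponent of `2` in `q² - 1`. -/
def e0 (q : ℕ) : ℕ := padicValNat 2 (q + 1) + padicValNat 2 (q - 1)

variable {q : ℕ}

theorem val_pow_two_mul (hq : Odd q) (hq1 : 1 < q) {j : ℕ} (hj : j ≠ 0) :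
    padicValNat 2 (q ^ (2 * j) - 1) = e0 q + padicValNat 2 j := by
  have h1 : 2 ∣ q - 1 := by
    obtain ⟨t, rfl⟩ := hq
    exact ⟨t, by omega⟩
  have h2 : ¬ 2 ∣ q := by
    obtain ⟨t, rfl⟩ := hq
    omega
  have h3 := padicValNat.pow_two_sub_pow hq1 h1 h2 (n := 2 * j) (by omega) (even_two_mul j)
  rw [one_pow, padicValNat.mul (by norm_num) hj] at h3
  have h4 : padicValNat 2 2 = 1 := padicValNat_self
  unfold e0
  omega

theorem pow_sub_one_ne_zero (hq1 : 1 < q) {j : ℕ} (hj : j ≠ 0) : q ^ j - 1 ≠ 0 := by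
  have := Nat.one_lt_pow hj hq1
  omega

theorem val_prod (hq : Odd q) (hq1 : 1 < q) (m : ℕ) :
    padicValNat 2 (∏ i ∈ Finset.range m, (q ^ (2 * (i + 1)) - 1)) = m * e0 q + padicValNat 2 m.factorial := by
  induction m with
  | zero => simp
  | succ m ih =>
    have hne : (∏ i ∈ Finset.range m, (q ^ (2 * (i + 1)) - 1)) ≠ 0 :=
      Finset.prod_ne_zero_iff.2 fun i _ => pow_sub_one_ne_zero hq1 (by omega)
    rw [Finset.prod_range_succ, padicValNat.mul hne (pow_sub_one_ne_zero hq1 (by omega)), ih,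
      val_pow_two_mul hq hq1 (by omega), Nat.factorial_succ,
      padicValNat.mul (by omega) (Nat.factorial_ne_zero m)]
    ring

theorem val_split (hq : Odd q) (hq1 : 1 < q) {m : ℕ} (hm : m ≠ 0) :
    padicValNat 2 (q ^ m - 1) + padicValNat 2 (q ^ m + 1) = e0 q + padicValNat 2 m := by
  rw [← val_pow_two_mul hq hq1 hm, ← padicValNat.mul (pow_sub_one_ne_zero hq1 hm) (by positivity)]
  congr 1
  have h1 : 1 ≤ q ^ m := Nat.one_le_pow _ _ (by omega)
  obtain ⟨t, ht⟩ : ∃ t, q ^ m = t + 1 := ⟨q ^ m - 1, by omega⟩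
  rw [two_mul, pow_add, ht]
  simp only [Nat.add_sub_cancel]
  have : (t + 1) * (t + 1) - 1 = t * (t + 1 + 1) := by
    have : (t + 1) * (t + 1) = t * (t + 1 + 1) + 1 := by ring
    omega
  rw [this]

theorem val_of_mod4 {n : ℕ} (hn : n % 4 = 2) : padicValNat 2 n = 1 := by
  obtain ⟨t, ht⟩ : ∃ t, n = 2 * (2 * t + 1) := ⟨n / 4, by omega⟩
  rw [ht, padicValNat.mul (by norm_num) (by omega), padicValNat_self,
    padicValNat.eq_zero_of_not_dvd (by omega)]

theorem val_sub_of_three {m : ℕ} (h : q ^ m % 4 = 3) : padicValNat 2 (q ^ m - 1) = 1 :=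
  val_of_mod4 (by omega)

theorem val_add_of_one {m : ℕ} (h : q ^ m % 4 = 1) : padicValNat 2 (q ^ m + 1) = 1 :=
  val_of_mod4 (by omega)

theorem val_factorial {m : ℕ} (hm : m ≠ 0) :
    padicValNat 2 m.factorial = padicValNat 2 m + padicValNat 2 (m - 1).factorial := by
  obtain ⟨t, rfl⟩ : ∃ t, m = t + 1 := ⟨m - 1, by omega⟩
  rw [Nat.factorial_succ, padicValNat.mul (by omega) (Nat.factorial_ne_zero t)]
  rfl

theorem val_two_mul_pow (hq : Odd q) (n : ℕ) {X : ℕ} (hX : X ≠ 0) {Y : ℕ} (hY : Y ≠ 0) :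
    padicValNat 2 (2 * q ^ n * X * Y) = 1 + padicValNat 2 X + padicValNat 2 Y := by
  have hq0 : q ≠ 0 := by
    obtain ⟨t, rfl⟩ := hq
    omega
  have hp : q ^ n ≠ 0 := pow_ne_zero _ hq0
  rw [padicValNat.mul (by positivity) hY, padicValNat.mul (by positivity) hX,
    padicValNat.mul (by norm_num) hp, padicValNat_self]
  have : padicValNat 2 (q ^ n) = 0 := by
    apply padicValNat.eq_zero_of_not_dvd
    intro h
    have := Nat.Prime.dvd_of_dvd_pow Nat.prime_two h
    obtain ⟨t, rfl⟩ := hq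
    omega
  omega

/-- The order of `O^±_{2m}`, case where the model has `m` planes. -/
theorem val_even_full (hq : Odd q) (hq1 : 1 < q) {m n X X' : ℕ} (hm : m ≠ 0)
    (hX : X = q ^ m - 1 ∨ X = q ^ m + 1)
    (hX1 : padicValNat 2 X' = 1) (hX2 : padicValNat 2 X + padicValNat 2 X' = e0 q + padicValNat 2 m) :
    padicValNat 2 (2 * q ^ n * X * ∏ i ∈ Finset.range (m - 1), (q ^ (2 * (i + 1)) - 1))
      = m * e0 q + padicValNat 2 m.factorial := by
  have hX0 : X ≠ 0 := by
    rcases hX with rfl | rfl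
    · exact pow_sub_one_ne_zero hq1 hm
    · positivity
  have hne : (∏ i ∈ Finset.range (m - 1), (q ^ (2 * (i + 1)) - 1)) ≠ 0 :=
    Finset.prod_ne_zero_iff.2 fun i _ => pow_sub_one_ne_zero hq1 (by omega)
  rw [val_two_mul_pow hq n hX0 hne, val_prod hq hq1, val_factorial hm]
  obtain ⟨t, rfl⟩ : ∃ t, m = t + 1 := ⟨m - 1, by omega⟩
  simp only [Nat.add_sub_cancel]
  rw [add_mul]
  omega

/-- The order of `O^±_{2m}`, case where the model has `m - 1` planes and two extra lines. -/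
theorem val_even_short (hq : Odd q) (hq1 : 1 < q) {m n X : ℕ} (hm : m ≠ 0)
    (hX0 : X ≠ 0) (hX1 : padicValNat 2 X = 1) :
    padicValNat 2 (2 * q ^ n * X * ∏ i ∈ Finset.range (m - 1), (q ^ (2 * (i + 1)) - 1))
      = (m - 1) * e0 q + 2 + padicValNat 2 (m - 1).factorial := by
  have hne : (∏ i ∈ Finset.range (m - 1), (q ^ (2 * (i + 1)) - 1)) ≠ 0 :=
    Finset.prod_ne_zero_iff.2 fun i _ => pow_sub_one_ne_zero hq1 (by omega)
  rw [val_two_mul_pow hq n hX0 hne, val_prod hq hq1]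
  omega

theorem val_odd (hq : Odd q) (hq1 : 1 < q) (m n : ℕ) :
    padicValNat 2 (2 * q ^ n * ∏ i ∈ Finset.range m, (q ^ (2 * (i + 1)) - 1))
      = m * e0 q + 1 + padicValNat 2 m.factorial := by
  have hne : (∏ i ∈ Finset.range m, (q ^ (2 * (i + 1)) - 1)) ≠ 0 :=
    Finset.prod_ne_zero_iff.2 fun i _ => pow_sub_one_ne_zero hq1 (by omega)
  have := val_two_mul_pow hq n (X := 1) (by norm_num) hne
  rw [mul_one, padicValNat.one] at this
  rw [this, val_prod hq hq1]
  omega

theorem val_plane_sub (hq : Odd q) (hq1 : 1 < q) (h : q % 4 = 1) :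
    padicValNat 2 (2 * (q - 1)) = e0 q := by
  have h1 : padicValNat 2 (q + 1) = 1 := val_of_mod4 (by omega)
  rw [padicValNat.mul (by norm_num) (by omega), padicValNat_self]
  unfold e0
  omega

theorem val_plane_add (hq : Odd q) (hq1 : 1 < q) (h : q % 4 = 3) :
    padicValNat 2 (2 * (q + 1)) = e0 q := by
  have h1 : padicValNat 2 (q - 1) = 1 := val_of_mod4 (by omega)
  rw [padicValNat.mul (by norm_num) (by omega), padicValNat_self]
  unfold e0
  omega

end numeric

section signs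

variable {F : Type*} [Field F] {l : ℕ}

/-- The diagonal sign changes. -/
def sgnLin (s : Fin l → ℤˣ) : (Fin l → F) →ₗ[F] (Fin l → F) where
  toFun v b := ((s b : ℤ) : F) * v b
  map_add' x y := by ext b; simp [mul_add]
  map_smul' c x := by ext b; simp; ring

theorem sgn_sq (u : ℤˣ) : ((u : ℤ) : F) * ((u : ℤ) : F) = 1 := by
  rcases Int.units_eq_one_or u with rfl | rfl <;> simp

/-- The diagonal sign changes, as automorphisms. -/
def sgnE (s : Fin l → ℤˣ) : (Fin l → F) ≃ₗ[F] (Fin l → F) :=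
  LinearEquiv.ofInvolutive (sgnLin s) (fun v => by
    ext b
    simp [sgnLin, ← mul_assoc, sgn_sq])

@[simp] theorem sgnE_apply (s : Fin l → ℤˣ) (v : Fin l → F) (b : Fin l) :
    sgnE s v b = ((s b : ℤ) : F) * v b := rfl

/-- The diagonal sign changes, as a homomorphism. -/
def sgnHom : (Fin l → ℤˣ) →* ((Fin l → F) ≃ₗ[F] (Fin l → F)) where
  toFun := sgnE
  map_one' := by
    apply LinearEquiv.ext
    intro v
    ext b
    simp
  map_mul' s t := by
    apply LinearEquiv.ext
    intro v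
    ext b
    simp [LinearEquiv.mul_apply, mul_assoc]

theorem sgnHom_apply (s : Fin l → ℤˣ) (v : Fin l → F) (b : Fin l) :
    sgnHom s v b = ((s b : ℤ) : F) * v b := rfl

theorem sgnHom_injective (h2 : (2 : F) ≠ 0) : Function.Injective (sgnHom (F := F) (l := l)) := by
  intro s t hst
  funext b
  have h := congrFun (congrArg (fun e => e (fun _ => (1 : F))) hst) b
  simp only [sgnHom_apply, mul_one] at h
  rcases Int.units_eq_one_or (s b) with hs | hs <;> rcases Int.units_eq_one_or (t b) with ht | ht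
  · rw [hs, ht]
  · exfalso
    rw [hs, ht] at h
    have h' : (1 : F) = -1 := by simpa using h
    apply h2
    linear_combination h'
  · exfalso
    rw [hs, ht] at h
    have h' : (-1 : F) = 1 := by simpa using h
    apply h2
    linear_combination -h'
  · rw [hs, ht]

/-- The group of sign changes. -/
def HH (F : Type*) [Field F] (l : ℕ) : Subgroup ((Fin l → F) ≃ₗ[F] (Fin l → F)) := (sgnHom (F := F) (l := l)).range

theorem HH_sq {h : (Fin l → F) ≃ₗ[F] (Fin l → F)} (hh : h ∈ HH F l) : h * h = 1 := by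
  obtain ⟨s, rfl⟩ := hh
  rw [← map_mul]
  have : s * s = 1 := by
    funext b
    exact Int.units_mul_self (s b)
  rw [this, map_one]

theorem HH_le (c : Fin l → F) : HH F l ≤ O (QuadraticMap.weightedSumSquares F c) := by
  rintro _ ⟨s, rfl⟩ v
  rw [QuadraticMap.weightedSumSquares_apply, QuadraticMap.weightedSumSquares_apply]
  refine Finset.sum_congr rfl fun b _ => ?_
  congr 1
  have := sgn_sq (F := F) (s b)
  rw [sgnHom_apply]
  linear_combination (v b * v b) * this

theorem card_HH (h2 : (2 : F) ≠ 0) : Nat.card (HH F l) = 2 ^ l := by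
  have h1 : Nat.card (HH F l) = Nat.card (Fin l → ℤˣ) :=
    (Nat.card_congr (MonoidHom.ofInjective (sgnHom_injective h2)).toEquiv).symm
  rw [h1, Nat.card_fun]
  simp

end signs

section planeOrder

open Cfsg.Agent.Lib.OrthoCount Cfsg.Agent.Lib.OrthoBasic

variable {F : Type*} [Field F] [Fintype F]

theorem O_eq_OG {V : Type*} [AddCommGroup V] [Module F V] (Q : QuadraticForm F V) : O Q = OG Q :=
  Subgroup.ext fun _ => Iff.rfl

theorem val_card_O_NN (hodd : Odd (Fintype.card F)) :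
    padicValNat 2 (Nat.card ↥(O (NN F))) = e0 (Fintype.card F) := by
  classical
  have hq1 : 1 < Fintype.card F := Fintype.one_lt_card
  have h2 : (2 : F) ≠ 0 := Cfsg.Agent.Lib.OrthNeg.two_ne_zero_of_odd rfl hodd
  have hmod : Fintype.card F % 4 = 1 ∨ Fintype.card F % 4 = 3 := by
    obtain ⟨t, ht⟩ := hodd
    omega
  rw [O_eq_OG]
  rcases hmod with hmod | hmod
  · -- the split case
    obtain ⟨i, hi⟩ : IsSquare (-1 : F) := FiniteField.isSquare_neg_one_iff.2 (by omega)
    let f : (F × F) →ₗ[F] (Fin 1 ⊕ Fin 1 → F) :=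
      { toFun := fun v => Sum.elim (fun _ => v.1 + i * v.2) (fun _ => v.1 - i * v.2)
        map_add' := by
          intro x y
          ext s
          rcases s with s | s <;> simp <;> ring
        map_smul' := by
          intro c x
          ext s
          rcases s with s | s <;> simp <;> ring }
    have hinj : Function.Injective f := by
      rw [injective_iff_map_eq_zero]
      rintro ⟨x, y⟩ hv
      have h3 : x + i * y = 0 := congrFun hv (.inl 0)
      have h4 : x - i * y = 0 := congrFun hv (.inr 0)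
      have hx : x = 0 := by
        have : 2 * x = 0 := by linear_combination h3 + h4
        exact (mul_eq_zero.1 this).resolve_left h2
      have hi0 : i ≠ 0 := by
        rintro rfl
        simp at hi
      have hy : y = 0 := by
        have : (2 * i) * y = 0 := by linear_combination h3 - h4
        exact (mul_eq_zero.1 this).resolve_left (mul_ne_zero h2 hi0)
      rw [hx, hy]
      rfl
    let φ := LinearMap.linearEquivOfInjective f hinj (by simp)
    have hφ : ∀ v, qPlus 1 F (φ v) = NN F v := by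
      intro v
      rw [qPlus_apply, NN_apply]
      have : φ v = f v := rfl
      rw [this]
      simp [Cfsg.quadFormPlus, f]
      linear_combination (v.2 * v.2) * hi
    rw [Nat.card_congr (OG.congr φ hφ).toEquiv, Cfsg.Agent.Lib.OrthoOrder.card_OG_plus 0]
    simp only [zero_add, mul_zero, pow_zero, mul_one, pow_one, Finset.range_zero, Finset.prod_empty]
    exact val_plane_sub hodd hq1 hmod
  · -- the anisotropic case
    have hn : ¬ IsSquare (-1 : F) := by
      intro h
      exact (FiniteField.isSquare_neg_one_iff.1 h) hmod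
    have hab : ∀ z₁ z₂ : F, z₁ ^ 2 + (0 : F) * z₁ * z₂ + (1 : F) * z₂ ^ 2 = 0 → z₁ = 0 ∧ z₂ = 0 := by
      intro z₁ z₂ h
      have hz₂ : z₂ = 0 := by
        by_contra hz
        apply hn
        refine ⟨z₁ / z₂, ?_⟩
        field_simp
        linear_combination -h
      subst hz₂
      simpa using h
    let f : (F × F) →ₗ[F] ((Fin 0 ⊕ Fin 0) ⊕ Fin 2 → F) :=
      { toFun := fun v => Sum.elim (fun _ => 0) ![v.1, v.2]
        map_add' := by
          intro x y
          ext s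
          rcases s with s | s
          · simp
          · fin_cases s <;> simp
        map_smul' := by
          intro c x
          ext s
          rcases s with s | s
          · simp
          · fin_cases s <;> simp }
    have hinj : Function.Injective f := by
      rw [injective_iff_map_eq_zero]
      rintro ⟨x, y⟩ hv
      have h3 : x = 0 := congrFun hv (.inr 0)
      have h4 : y = 0 := congrFun hv (.inr 1)
      rw [h3, h4]
      rfl
    let φ := LinearMap.linearEquivOfInjective f hinj (by simp)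
    have hφ : ∀ v, qMinus 0 (0 : F) 1 (φ v) = NN F v := by
      intro v
      rw [qMinus_apply, NN_apply]
      have : φ v = f v := rfl
      rw [this]
      simp [Cfsg.quadFormMinus, f, sq]
    rw [Nat.card_congr (OG.congr φ hφ).toEquiv, Cfsg.Agent.Lib.OrthoDihedral.card_OG_minus 0 1 hab 0]
    simp only [zero_add, mul_zero, pow_zero, mul_one, pow_one, Finset.range_zero, Finset.prod_empty]
    exact val_plane_add hodd hq1 hmod

end planeOrder

section master

open Cfsg.Agent.Lib.QuadFF Cfsg.Agent.Lib.OrthMatrix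

variable {F : Type*} [Field F] [Fintype F]

theorem finite_aut {V : Type*} [AddCommGroup V] [Module F V] [Finite V] : Finite (V ≃ₗ[F] V) :=
  Finite.of_injective (fun e => (e : V → V)) DFunLike.coe_injective

theorem nondeg_transfer {V V' : Type*} [AddCommGroup V] [Module F V] [AddCommGroup V'] [Module F V']
    {Q : QuadraticForm F V} {Q' : QuadraticForm F V'} (φ : V' ≃ₗ[F] V) (h : ∀ v, Q (φ v) = Q' v)
    (hQ : (B Q).Nondegenerate) : (B Q').Nondegenerate := by
  refine nondegenerate_of_ND fun x hx => ?_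
  have h0 : φ x = 0 := by
    refine ND_of_nondegenerate hQ (φ x) fun y => ?_
    have h1 := hx (φ.symm y)
    have h2 : QuadraticMap.polar (⇑Q) (φ x) y = QuadraticMap.polar (⇑Q') x (φ.symm y) := by
      simp only [QuadraticMap.polar]
      rw [← h (x + φ.symm y), ← h x, ← h (φ.symm y), LinearEquiv.map_add, LinearEquiv.apply_symm_apply]
    rw [h2, h1]
  simpa using h0

/-- The main theorem for a form isometric to a model. -/
theorem master (hodd : Odd (Fintype.card F)) {ι : Type} [Fintype ι] [DecidableEq ι]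
    (Q : QuadraticForm F (ι → F)) (hQ : (B Q).Nondegenerate) {k l : ℕ} (hk : 2 ≤ k) (c : Fin l → F)
    (φ : ((Fin k → F × F) × (Fin l → F)) ≃ₗ[F] (ι → F))
    (hφ : ∀ v, Q (φ v) = qm (NN F) (QuadraticMap.weightedSumSquares F c) k v)
    (hcard : padicValNat 2 (Nat.card ↥(O Q)) = k * e0 (Fintype.card F) + l + padicValNat 2 k.factorial)
    (P : Sylow 2 ↥(Cfsg.Omega F ⇑Q)) :
    ∀ x : (P : Subgroup ↥(Cfsg.Omega F ⇑Q)), x ^ 2 ∈ commutator (P : Subgroup ↥(Cfsg.Omega F ⇑Q)) := by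
  classical
  have h2 : (2 : F) ≠ 0 := Cfsg.Agent.Lib.OrthNeg.two_ne_zero_of_odd rfl hodd
  set QU := QuadraticMap.weightedSumSquares F c with hQU
  set Qm := qm (NN F) QU k with hQm_def
  have hQm : (B Qm).Nondegenerate := nondeg_transfer φ hφ hQ
  haveI : Finite (((Fin k → F × F) × (Fin l → F)) ≃ₗ[F] ((Fin k → F × F) × (Fin l → F))) := finite_aut
  haveI : Finite ((F × F) ≃ₗ[F] (F × F)) := finite_aut
  haveI : Finite ((Fin l → F) ≃ₗ[F] (Fin l → F)) := finite_aut
  -- the plane part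
  let ρ₁ : ↥(O (NN F)) := ⟨rhoP F, rhoP_mem⟩
  have hρ₁ : ρ₁ * ρ₁ = 1 := Subtype.ext rhoP_sq
  have hzp : IsPGroup 2 (Subgroup.zpowers ρ₁) := by
    rintro ⟨_, n, rfl⟩
    refine ⟨1, ?_⟩
    apply Subtype.ext
    show (ρ₁ ^ n) ^ 2 ^ 1 = 1
    rw [pow_one, ← zpow_natCast, ← zpow_mul, mul_comm, zpow_mul, zpow_natCast, sq, hρ₁, one_zpow]
  obtain ⟨D₁, hD₁⟩ := hzp.exists_le_sylow
  set D : Subgroup ((F × F) ≃ₗ[F] (F × F)) := (D₁ : Subgroup ↥(O (NN F))).map (O (NN F)).subtype with hDdef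
  have hDO : D ≤ O (NN F) := by
    rintro _ ⟨x, -, rfl⟩
    exact x.2
  have hρ : rhoP F ∈ D := ⟨ρ₁, hD₁ (Subgroup.mem_zpowers _), rfl⟩
  have hD : ∀ d ∈ D, d * d = 1 ∨ rhoP F * d * (rhoP F)⁻¹ = d⁻¹ := fun d hd => plane_dichotomy h2 (hDO hd)
  have hcD : Nat.card D = 2 ^ e0 (Fintype.card F) := by
    rw [hDdef, Subgroup.card_map_of_injective (Subgroup.subtype_injective _), D₁.card_eq_multiplicity,
      Nat.factorization_def _ Nat.prime_two, val_card_O_NN hodd]
  -- the permutation part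
  let T : Sylow 2 (Perm (Fin k)) := default
  have hcT : Nat.card (T : Subgroup (Perm (Fin k))) = 2 ^ padicValNat 2 k.factorial := by
    rw [T.card_eq_multiplicity, Nat.card_perm, Nat.factorization_def _ Nat.prime_two]
    simp
  have hT : ∀ τ ∈ (T : Subgroup (Perm (Fin k))), τ * τ ∈ ⁅(T : Subgroup (Perm (Fin k))), (T : Subgroup (Perm (Fin k)))⁆ := by
    intro τ hτ
    have h1 := (Cfsg.Agent.Lib.SymSylowGen.sylow_perm 2 k T).pow_mem ⟨τ, hτ⟩
    rw [← Subgroup.map_subtype_commutator]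
    exact ⟨_, h1, by simp [sq]⟩
  have hk' : ∀ j₀ : Fin k, ∃ j₁, j₁ ≠ j₀ := by
    haveI : Nontrivial (Fin k) := Fin.nontrivial_iff_two_le.2 hk
    exact fun j₀ => exists_ne j₀
  have hgood : GoodSub (PP D (HH F l) (T : Subgroup (Perm (Fin k))) ⊓ OmT Qm) :=
    core_good hk' hDO hρ rhoP_sq hD (fun h hh => HH_sq hh) hT (fun i j hij => swap_mem_OmT h2 hQm hij)
  -- the Sylow subgroup
  have hle : PP D (HH F l) (T : Subgroup (Perm (Fin k))) ≤ O Qm := by
    rintro _ ⟨g, h, τ, hg, hh, hτ, rfl⟩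
    exact (O Qm).mul_mem (wrBase_mem_O (fun j => hDO (hg j)) (HH_le c hh)) (wrPerm_mem_O τ)
  have hcO : Nat.card ↥(O Qm) = Nat.card ↥(O Q) := (Nat.card_congr (Oequiv φ hφ).toEquiv).symm
  have hcP : Nat.card ↥((PP D (HH F l) (T : Subgroup (Perm (Fin k)))).subgroupOf (O Qm))
      = 2 ^ (Nat.card ↥(O Qm)).factorization 2 := by
    rw [Nat.card_congr (Subgroup.subgroupOfEquivOfLe hle).toEquiv, card_PP, hcD, card_HH h2, hcT, hcO,
      Nat.factorization_def _ Nat.prime_two, hcard, pow_add, pow_add, ← pow_mul, mul_comm _ k]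
  let P₁ : Sylow 2 ↥(O Qm) := Sylow.ofCard _ hcP
  have hmap : (P₁ : Subgroup ↥(O Qm)).map (O Qm).subtype = PP D (HH F l) (T : Subgroup (Perm (Fin k))) :=
    Subgroup.map_subgroupOf_eq_of_le hle
  have hgood2 := good_Omega Qm P₁ (by rw [hmap]; exact hgood)
  have := GoodSub.sylow_equiv (commEquivO ((toO Q).trans (Oequiv φ hφ))) hgood2 P
  exact fun x => this.pow_mem x

end master

section model

open Cfsg.Agent.Lib.QuadFF Cfsg.Agent.Lib.QuadFF2

variable {F : Type*} [Field F] {k l : ℕ}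

/-- The index type of the natural basis of the model. -/
abbrev mIdx (k l : ℕ) := (Σ _ : Fin k, Fin 2) ⊕ Fin l

/-- The natural basis of the model. -/
noncomputable def mBasis (F : Type*) [Field F] (k l : ℕ) :
    Basis (mIdx k l) F ((Fin k → F × F) × (Fin l → F)) :=
  (Pi.basis (fun _ : Fin k => Basis.finTwoProd F)).prod (Pi.basisFun F (Fin l))

theorem mBasis_inl (j : Fin k) (a : Fin 2) :
    mBasis F k l (.inl ⟨j, a⟩) = (Pi.single j (Basis.finTwoProd F a), 0) := by
  classical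
  apply Prod.ext
  · simp [mBasis]
  · simp [mBasis]

theorem mBasis_inr (b : Fin l) :
    mBasis F k l (.inr b) = (0, Pi.single b 1) := by
  classical
  apply Prod.ext
  · simp [mBasis]
  · simp [mBasis]

variable {W U : Type*} [AddCommGroup W] [Module F W] [AddCommGroup U] [Module F U]

theorem qm_left (N : QuadraticForm F W) (QU : QuadraticForm F U) (j : Fin k) (w : W) :
    qm N QU k (Pi.single j w, 0) = N w := by
  classical
  rw [qm_apply, Finset.sum_eq_single j]
  · simp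
  · intro i _ hi
    simp [Pi.single_eq_of_ne hi]
  · simp

theorem qm_right (N : QuadraticForm F W) (QU : QuadraticForm F U) (u : U) :
    qm N QU k (0, u) = QU u := by
  rw [qm_apply]
  simp

theorem B_qm (N : QuadraticForm F W) (QU : QuadraticForm F U) (x y : (Fin k → W) × U) :
    B (qm N QU k) x y = ∑ j, B N (x.1 j) (y.1 j) + B QU x.2 y.2 := by
  rw [B_apply, qm_apply, qm_apply, qm_apply, B_apply]
  simp only [B_apply, Finset.sum_sub_distrib, Prod.fst_add, Prod.snd_add, Pi.add_apply]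
  ring

theorem wss_single (c : Fin l → F) (b : Fin l) :
    QuadraticMap.weightedSumSquares F c (Pi.single b 1) = c b := by
  classical
  rw [QuadraticMap.weightedSumSquares_apply, Finset.sum_eq_single b]
  · simp
  · intro i _ hi
    simp [Pi.single_eq_of_ne hi]
  · simp

theorem B_wss (c : Fin l → F) (u v : Fin l → F) :
    B (QuadraticMap.weightedSumSquares F c) u v = ∑ b, c b * (2 * (u b * v b)) := by
  rw [B_apply, QuadraticMap.weightedSumSquares_apply, QuadraticMap.weightedSumSquares_apply,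
    QuadraticMap.weightedSumSquares_apply, ← Finset.sum_sub_distrib, ← Finset.sum_sub_distrib]
  refine Finset.sum_congr rfl fun b _ => ?_
  simp only [smul_eq_mul, Pi.add_apply]
  ring

theorem mBasis_orth (c : Fin l → F) (x y : mIdx k l) (hxy : x ≠ y) :
    QuadraticMap.polar (qm (NN F) (QuadraticMap.weightedSumSquares F c) k) (mBasis F k l x) (mBasis F k l y) = 0 := by
  classical
  change B (qm (NN F) (QuadraticMap.weightedSumSquares F c) k) (mBasis F k l x) (mBasis F k l y) = 0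
  rcases x with ⟨j, a⟩ | x <;> rcases y with ⟨j', a'⟩ | y
  · rw [mBasis_inl, mBasis_inl, B_qm]
    simp only [map_zero, LinearMap.zero_apply, add_zero]
    by_cases hj : j = j'
    · subst hj
      have ha : a ≠ a' := fun h => hxy (by rw [h])
      rw [Finset.sum_eq_single j]
      · simp only [Pi.single_eq_same, B_NN]
        fin_cases a <;> fin_cases a' <;> simp_all
      · intro i _ hi
        simp [Pi.single_eq_of_ne hi]
      · simp
    · apply Finset.sum_eq_zero
      intro i _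
      by_cases hi : i = j
      · subst hi
        simp [Pi.single_eq_of_ne hj]
      · simp [Pi.single_eq_of_ne hi]
  · rw [mBasis_inl, mBasis_inr, B_qm]
    simp
  · rw [mBasis_inr, mBasis_inl, B_qm]
    simp
  · rw [mBasis_inr, mBasis_inr, B_qm, B_wss]
    have hn : x ≠ y := fun h => hxy (by rw [h])
    simp only [Pi.zero_apply, map_zero, LinearMap.zero_apply, Finset.sum_const_zero, zero_add]
    apply Finset.sum_eq_zero
    intro i _
    by_cases hi : i = x
    · subst hi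
      simp [Pi.single_eq_of_ne hn]
    · simp [Pi.single_eq_of_ne hi]

theorem mBasis_val_inl (c : Fin l → F) (j : Fin k) (a : Fin 2) :
    qm (NN F) (QuadraticMap.weightedSumSquares F c) k (mBasis F k l (.inl ⟨j, a⟩)) = 1 := by
  rw [mBasis_inl, qm_left, NN_apply]
  fin_cases a <;> simp

theorem mBasis_val_inr (c : Fin l → F) (b : Fin l) :
    qm (NN F) (QuadraticMap.weightedSumSquares F c) k (mBasis F k l (.inr b)) = c b := by
  rw [mBasis_inr, qm_right, wss_single]

/-- A diagonal form with all values `1` except one is isometric to a model. -/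
theorem model_of_diag {V : Type*} [AddCommGroup V] [Module F V] [FiniteDimensional F V]
    (h2 : (2 : F) ≠ 0) {Q : QuadraticForm F V} {n : ℕ} (hdim : finrank F V = n + 1) (b : Fin (n + 1) → V)
    (horth : ∀ i j, i ≠ j → QuadraticMap.polar Q (b i) (b j) = 0) (h1 : ∀ i : Fin n, Q (b i.castSucc) = 1)
    {δ : F} (hδ : Q (b (Fin.last n)) = δ) (hδ0 : δ ≠ 0) (c : Fin l → F) (hc : 2 * k + l = n + 1)
    (x₀ : mIdx k l) (hx₀ : qm (NN F) (QuadraticMap.weightedSumSquares F c) k (mBasis F k l x₀) = δ)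
    (hx : ∀ x, x ≠ x₀ → qm (NN F) (QuadraticMap.weightedSumSquares F c) k (mBasis F k l x) = 1) :
    ∃ φ : ((Fin k → F × F) × (Fin l → F)) ≃ₗ[F] V, ∀ v, Q (φ v) = qm (NN F) (QuadraticMap.weightedSumSquares F c) k v := by
  classical
  have hcard : Fintype.card (mIdx k l) = n + 1 := by
    simp [Fintype.card_sum, Fintype.card_sigma]
    omega
  let e₀ : Fin (n + 1) ≃ mIdx k l := Fintype.equivOfCardEq (by rw [Fintype.card_fin, hcard])
  let e : Fin (n + 1) ≃ mIdx k l := e₀.trans (swap (e₀ (Fin.last n)) x₀)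
  have he : e (Fin.last n) = x₀ := by simp [e]
  let b' : mIdx k l → V := fun x => b (e.symm x)
  have hval : ∀ x, Q (b' x) = qm (NN F) (QuadraticMap.weightedSumSquares F c) k (mBasis F k l x) := by
    intro x
    by_cases hxx : x = x₀
    · subst hxx
      rw [hx₀]
      have : e.symm x = Fin.last n := by rw [← he]; simp
      simp only [b', this, hδ]
    · rw [hx x hxx]
      have hne : e.symm x ≠ Fin.last n := by
        intro h
        apply hxx
        rw [← he, ← h]
        simp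
      obtain ⟨i, hi⟩ := Fin.exists_castSucc_eq.2 hne
      simp only [b', ← hi, h1]
  have hnz : ∀ x, Q (b' x) ≠ 0 := by
    intro x
    rw [hval]
    by_cases hxx : x = x₀
    · subst hxx
      rw [hx₀]
      exact hδ0
    · rw [hx x hxx]
      exact one_ne_zero
  have horth' : ∀ x y, x ≠ y → QuadraticMap.polar Q (b' x) (b' y) = 0 := fun x y hxy =>
    horth _ _ (fun h => hxy (e.symm.injective h))
  have hli := linearIndependent_diag h2 horth' hnz
  haveI : Nonempty (mIdx k l) := Fintype.card_pos_iff.1 (by omega)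
  let β := basisOfLinearIndependentOfCardEqFinrank hli (by rw [hcard, hdim])
  have hβ : ∀ x, β x = b' x := fun x => by simp [β]
  refine exists_isometry_of_diag (mBasis F k l) β (mBasis_orth c) ?_ ?_
  · intro x y hxy
    rw [hβ, hβ]
    exact horth' x y hxy
  · intro x
    rw [hβ]
    exact hval x

/-- Odd dimension. -/
theorem model_odd [Finite F] {V : Type*} [AddCommGroup V] [Module F V] [FiniteDimensional F V]
    (h2 : (2 : F) ≠ 0) {Q : QuadraticForm F V} (hQ : ND Q) {d : ℕ} (hdim : finrank F V = 2 * d + 1) :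
    ∃ (c : Fin 1 → F) (φ : ((Fin d → F × F) × (Fin 1 → F)) ≃ₗ[F] V),
      ∀ v, Q (φ v) = qm (NN F) (QuadraticMap.weightedSumSquares F c) d v := by
  obtain ⟨b, horth, h1, hδ⟩ := exists_diag h2 (2 * d) V Q hdim hQ
  refine ⟨fun _ => Q (b (Fin.last _)), ?_⟩
  refine model_of_diag h2 hdim b horth h1 rfl hδ _ rfl (.inr 0) (mBasis_val_inr _ _) ?_
  rintro (⟨j, a⟩ | x) hx
  · exact mBasis_val_inl _ _ _
  · exact absurd (by rw [Subsingleton.elim x 0]) hx

/-- Even dimension, `d - 1` planes and two lines. -/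
theorem model_short [Finite F] {V : Type*} [AddCommGroup V] [Module F V] [FiniteDimensional F V]
    (h2 : (2 : F) ≠ 0) {Q : QuadraticForm F V} (hQ : ND Q) {d : ℕ} (hdim : finrank F V = 2 * (d + 1)) :
    ∃ (c : Fin 2 → F) (φ : ((Fin d → F × F) × (Fin 2 → F)) ≃ₗ[F] V),
      ∀ v, Q (φ v) = qm (NN F) (QuadraticMap.weightedSumSquares F c) d v := by
  have hdim' : finrank F V = (2 * d + 1) + 1 := by omega
  obtain ⟨b, horth, h1, hδ⟩ := exists_diag h2 (2 * d + 1) V Q hdim' hQ
  refine ⟨![1, Q (b (Fin.last _))], ?_⟩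
  refine model_of_diag h2 hdim' b horth h1 rfl hδ _ rfl (.inr 1) (mBasis_val_inr _ _) ?_
  rintro (⟨j, a⟩ | x) hx
  · exact mBasis_val_inl _ _ _
  · rw [mBasis_val_inr]
    fin_cases x
    · rfl
    · exact absurd rfl hx

/-- Even dimension, `d` planes. -/
theorem model_full {V : Type*} [AddCommGroup V] [Module F V] [FiniteDimensional F V]
    (h2 : (2 : F) ≠ 0) {Q : QuadraticForm F V} {d : ℕ} (hd : d ≠ 0) (hdim : finrank F V = 2 * d) {n : ℕ} (hn : n + 1 = 2 * d)
    (b : Fin (n + 1) → V) (horth : ∀ i j, i ≠ j → QuadraticMap.polar Q (b i) (b j) = 0)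
    (h1 : ∀ i : Fin n, Q (b i.castSucc) = 1) (hs : IsSquare (Q (b (Fin.last n)))) (hδ : Q (b (Fin.last n)) ≠ 0) :
    ∃ φ : ((Fin d → F × F) × (Fin 0 → F)) ≃ₗ[F] V,
      ∀ v, Q (φ v) = qm (NN F) (QuadraticMap.weightedSumSquares F (fun _ => (0 : F))) d v := by
  classical
  obtain ⟨s, hs⟩ := hs
  have hs0 : s ≠ 0 := by
    rintro rfl
    apply hδ
    rw [hs, zero_mul]
  let b' : Fin (n + 1) → V := Function.update b (Fin.last n) (s⁻¹ • b (Fin.last n))
  have hb'l : b' (Fin.last n) = s⁻¹ • b (Fin.last n) := by simp [b']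
  have hb'c : ∀ i : Fin n, b' i.castSucc = b i.castSucc := fun i => by
    simp [b', Function.update_of_ne (Fin.castSucc_lt_last i).ne]
  have hlast : Q (b' (Fin.last n)) = 1 := by
    rw [hb'l, Cfsg.Agent.Lib.OrthGroup.Q_smul, hs]
    field_simp
  have horth' : ∀ i j, i ≠ j → QuadraticMap.polar Q (b' i) (b' j) = 0 := by
    intro i j hij
    change B Q (b' i) (b' j) = 0
    by_cases hi : i = Fin.last n
    · subst hi
      have hj : j ≠ Fin.last n := hij.symm
      obtain ⟨j', rfl⟩ := Fin.exists_castSucc_eq.2 hj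
      rw [hb'l, hb'c, map_smul, LinearMap.smul_apply]
      have : B Q (b (Fin.last n)) (b j'.castSucc) = 0 := horth _ _ hij
      rw [this, smul_zero]
    · obtain ⟨i', rfl⟩ := Fin.exists_castSucc_eq.2 hi
      by_cases hj : j = Fin.last n
      · subst hj
        rw [hb'l, hb'c, map_smul]
        have : B Q (b i'.castSucc) (b (Fin.last n)) = 0 := horth _ _ hij
        rw [this, smul_zero]
      · obtain ⟨j', rfl⟩ := Fin.exists_castSucc_eq.2 hj
        rw [hb'c, hb'c]
        exact horth _ _ hij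
  have h1' : ∀ i : Fin n, Q (b' i.castSucc) = 1 := fun i => by rw [hb'c, h1]
  obtain ⟨d', rfl⟩ : ∃ d', d = d' + 1 := ⟨d - 1, by omega⟩
  refine model_of_diag h2 (hdim.trans hn.symm) b' horth' h1' hlast one_ne_zero _ (by omega) (.inl ⟨0, 0⟩) (mBasis_val_inl _ _ _) ?_
  rintro (⟨j, a⟩ | x) hx
  · exact mBasis_val_inl _ _ _
  · exact x.elim0

/-- The last value of a diagonalization is a square when the Gram determinant is. -/
theorem isSquare_last_of_det [Fintype F] {ι : Type} [Fintype ι] [DecidableEq ι] (h2 : (2 : F) ≠ 0) {Q : QuadraticForm F (ι → F)}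
    (hdet : IsSquare (Cfsg.Agent.Lib.OrthForm.polarGram Q).det) (he : Even (Fintype.card ι)) {n : ℕ}
    (hn : Fintype.card ι = n + 1) (b : Fin (n + 1) → (ι → F))
    (horth : ∀ i j, i ≠ j → QuadraticMap.polar Q (b i) (b j) = 0) (h1 : ∀ i : Fin n, Q (b i.castSucc) = 1)
    (hδ : Q (b (Fin.last n)) ≠ 0) : IsSquare (Q (b (Fin.last n))) := by
  let e' : ι ≃ Fin (n + 1) := Fintype.equivOfCardEq (by rw [hn, Fintype.card_fin])
  have hnz : ∀ c, Q (b (e' c)) ≠ 0 := by
    intro c
    by_cases hc : e' c = Fin.last n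
    · rw [hc]
      exact hδ
    · obtain ⟨i, hi⟩ := Fin.exists_castSucc_eq.2 hc
      rw [← hi, h1]
      exact one_ne_zero
  have h0 : ∀ c d, c ≠ d → B Q (b (e' c)) (b (e' d)) = 0 := fun c d hcd =>
    horth _ _ (fun h => hcd (e'.injective h))
  have h3 := (Cfsg.Agent.Lib.OrthNeg.isSquare_det_iff (fun c => b (e' c)) h0 hnz h2 he).1 hdet
  have h4 : ∏ c, Q (b (e' c)) = Q (b (Fin.last n)) := by
    rw [Equiv.prod_comp e' (fun i => Q (b i)), Fin.prod_univ_castSucc]
    simp [h1]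
  rwa [h4] at h3

end model

section final

open Cfsg.Agent.Lib.QuadFF Cfsg.Agent.Lib.QuadFF2 Cfsg.Agent.Lib.OrthoCount Cfsg.Agent.Lib.OrthoBasic
  Cfsg.Agent.Lib.OrthMatrix Cfsg.Agent.Lib.OrthNeg Cfsg.Agent.Lib.OrthPlus

variable {F : Type*} [Field F] [Fintype F]

theorem final_odd (hodd : Odd (Fintype.card F)) (m : ℕ) (hm : 3 ≤ m)
    (P : Sylow 2 ↥(Cfsg.Omega F (Cfsg.quadFormOdd m F))) :
    ∀ x : (P : Subgroup ↥(Cfsg.Omega F (Cfsg.quadFormOdd m F))),
      x ^ 2 ∈ commutator (P : Subgroup ↥(Cfsg.Omega F (Cfsg.quadFormOdd m F))) := by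
  have hf : ⇑(qOdd m F) = Cfsg.quadFormOdd m F := funext (qOdd_apply m)
  revert P
  rw [← hf]
  intro P
  have h2 : (2 : F) ≠ 0 := two_ne_zero_of_odd rfl hodd
  have hq1 : 1 < Fintype.card F := Fintype.one_lt_card
  have hnd : ND (qOdd m F) := fun x hx => by
    by_contra hne
    obtain ⟨y, hy⟩ := Cfsg.Agent.Lib.OrthoOrder.nondeg_qOdd hodd m x hne
    exact hy (hx y)
  have hdim : finrank F (Unit ⊕ (Fin m ⊕ Fin m) → F) = 2 * m + 1 := by
    simp [Module.finrank_fintype_fun_eq_card]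
    ring
  obtain ⟨c, φ, hφ⟩ := model_odd h2 hnd hdim
  refine master hodd (qOdd m F) (nondegenerate_of_ND hnd) (by omega) c φ hφ ?_ P
  rw [O_eq_OG, Cfsg.Agent.Lib.OrthoOrder.card_OG_odd hodd m]
  exact val_odd hodd hq1 m _

theorem final_plus (hodd : Odd (Fintype.card F)) (m : ℕ) (hm : 1 ≤ m) (hm' : Even m ∨ 4 ≤ m)
    (P : Sylow 2 ↥(Cfsg.Omega F (Cfsg.quadFormPlus m F))) :
    ∀ x : (P : Subgroup ↥(Cfsg.Omega F (Cfsg.quadFormPlus m F))),
      x ^ 2 ∈ commutator (P : Subgroup ↥(Cfsg.Omega F (Cfsg.quadFormPlus m F))) := by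
  have hf : ⇑(quadPlus m F) = Cfsg.quadFormPlus m F := coe_quadPlus m F
  revert P
  rw [← hf]
  intro P
  have h2 : (2 : F) ≠ 0 := two_ne_zero_of_odd rfl hodd
  have hq1 : 1 < Fintype.card F := Fintype.one_lt_card
  have hnd' : (B (quadPlus m F)).Nondegenerate := quadPlus_nondeg m F
  have hnd : ND (quadPlus m F) := ND_of_nondegenerate hnd'
  have hdim : finrank F (Fin m ⊕ Fin m → F) = 2 * m := by
    simp [Module.finrank_fintype_fun_eq_card]
    ring
  have hO : Nat.card ↥(O (quadPlus m F)) = 2 * Fintype.card F ^ (m * (m - 1)) * (Fintype.card F ^ m - 1)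
      * ∏ i ∈ Finset.range (m - 1), (Fintype.card F ^ (2 * (i + 1)) - 1) := by
    rw [← Nat.card_congr (toO (quadPlus m F)).toEquiv]
    exact Cfsg.Agent.Lib.OrthoOrder.card_isometry_plus rfl m hm
  have hodd' : Fintype.card F ^ m % 2 = 1 := Nat.odd_iff.1 hodd.pow
  have hm0 : m ≠ 0 := by omega
  by_cases h1 : Fintype.card F ^ m % 4 = 1
  · -- `m` planes
    have hk : 2 ≤ m := by
      rcases hm' with ⟨t, ht⟩ | h
      · omega
      · omega
    obtain ⟨n, hn⟩ : ∃ n, 2 * m = n + 1 := ⟨2 * m - 1, by omega⟩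
    obtain ⟨b, horth, hb1, hδ⟩ := exists_diag h2 n _ (quadPlus m F) (hdim.trans hn) hnd
    have hdet : IsSquare (Cfsg.Agent.Lib.OrthForm.polarGram (quadPlus m F)).det := by
      rw [polarGram_plus, det_hyp]
      exact (isSquare_neg_one_pow_iff rfl hodd m).2 h1
    have hs := isSquare_last_of_det h2 hdet ⟨m, by simp⟩ (by simp; omega) b horth hb1 hδ
    obtain ⟨φ, hφ⟩ := model_full h2 hm0 hdim hn.symm b horth hb1 hs hδ
    refine master hodd (quadPlus m F) hnd' hk _ φ hφ ?_ P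
    rw [hO, add_zero]
    exact val_even_full hodd hq1 hm0 (Or.inl rfl) (val_add_of_one h1) (val_split hodd hq1 hm0)
  · -- `m - 1` planes and two lines
    have h3 : Fintype.card F ^ m % 4 = 3 := by omega
    have hmo : ¬ Even m := by
      intro he
      exact h1 ((isSquare_neg_one_pow_iff rfl hodd m).1 (by rw [he.neg_one_pow]; exact IsSquare.one))
    have hk : 4 ≤ m := hm'.resolve_left hmo
    obtain ⟨d, rfl⟩ : ∃ d, m = d + 1 := ⟨m - 1, by omega⟩
    obtain ⟨c, φ, hφ⟩ := model_short h2 hnd hdim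
    refine master hodd (quadPlus (d + 1) F) hnd' (by omega) c φ hφ ?_ P
    rw [hO]
    have := val_even_short hodd hq1 hm0 (n := (d + 1) * (d + 1 - 1)) (pow_sub_one_ne_zero hq1 hm0) (val_sub_of_three h3)
    simpa using this

theorem final_minus (hodd : Odd (Fintype.card F)) (n : ℕ) (hn : 3 ≤ n) (a b : F)
    (hab : ∀ z₁ z₂ : F, z₁ ^ 2 + a * z₁ * z₂ + b * z₂ ^ 2 = 0 → z₁ = 0 ∧ z₂ = 0)
    (P : Sylow 2 ↥(Cfsg.Omega F (Cfsg.quadFormMinus n F a b))) :
    ∀ x : (P : Subgroup ↥(Cfsg.Omega F (Cfsg.quadFormMinus n F a b))),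
      x ^ 2 ∈ commutator (P : Subgroup ↥(Cfsg.Omega F (Cfsg.quadFormMinus n F a b))) := by
  have hf : ⇑(qMinus n a b) = Cfsg.quadFormMinus n F a b := funext (qMinus_apply n a b)
  revert P
  rw [← hf]
  intro P
  have h2 : (2 : F) ≠ 0 := two_ne_zero_of_odd rfl hodd
  have hq1 : 1 < Fintype.card F := Fintype.one_lt_card
  have hN : ¬ IsSquare (a * a - 4 * b) := by
    rintro ⟨s, hs⟩
    have := hab ((s - a) / 2) 1 (by
      field_simp
      linear_combination (-1 : F) * hs)
    exact one_ne_zero this.2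
  have hN0 : a * a - 4 * b ≠ 0 := fun h => hN (by rw [h]; exact IsSquare.zero)
  have hc0 : (-1 : F) ^ (n + 1) ≠ 0 := pow_ne_zero _ (by simp)
  have hdet : (Cfsg.Agent.Lib.OrthForm.polarGram (qMinus n a b)).det = (-1) ^ (n + 1) * (a * a - 4 * b) := by
    rw [polarGram_minus, Matrix.det_fromBlocks_zero₂₁, det_hyp, Matrix.det_fin_two_of]
    simp only [pow_succ]
    ring
  have hnd' : (B (qMinus n a b)).Nondegenerate := Cfsg.Agent.Lib.OrthNeg.nondeg_of_det (by
    rw [hdet]
    exact mul_ne_zero hc0 hN0)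
  have hnd : ND (qMinus n a b) := ND_of_nondegenerate hnd'
  have hdim : finrank F ((Fin n ⊕ Fin n) ⊕ Fin 2 → F) = 2 * (n + 1) := by
    simp [Module.finrank_fintype_fun_eq_card]
    ring
  have hO : Nat.card ↥(O (qMinus n a b)) = 2 * Fintype.card F ^ ((n + 1) * n) * (Fintype.card F ^ (n + 1) + 1)
      * ∏ i ∈ Finset.range n, (Fintype.card F ^ (2 * (i + 1)) - 1) := by
    rw [O_eq_OG]
    exact Cfsg.Agent.Lib.OrthoDihedral.card_OG_minus a b hab n
  have hodd' : Fintype.card F ^ (n + 1) % 2 = 1 := Nat.odd_iff.1 hodd.pow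
  by_cases h1 : Fintype.card F ^ (n + 1) % 4 = 1
  · -- `n` planes and two lines
    obtain ⟨c, φ, hφ⟩ := model_short h2 hnd hdim
    refine master hodd (qMinus n a b) hnd' (by omega) c φ hφ ?_ P
    rw [hO]
    have := val_even_short hodd hq1 (Nat.succ_ne_zero n) (n := (n + 1) * n) (Nat.succ_ne_zero _) (val_add_of_one h1)
    simpa using this
  · -- `n + 1` planes
    have h3 : Fintype.card F ^ (n + 1) % 4 = 3 := by omega
    obtain ⟨b', horth, hb1, hδ⟩ := exists_diag h2 (2 * n + 1) _ (qMinus n a b) hdim hnd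
    have hdetS : IsSquare (Cfsg.Agent.Lib.OrthForm.polarGram (qMinus n a b)).det := by
      rw [hdet, isSquare_mul_nonsq_iff hc0 hN, isSquare_neg_one_pow_iff rfl hodd]
      exact h1
    have hs := isSquare_last_of_det h2 hdetS ⟨n + 1, by simp; ring⟩ (by simp; ring) b' horth hb1 hδ
    obtain ⟨φ, hφ⟩ := model_full h2 (Nat.succ_ne_zero n) hdim rfl b' horth hb1 hs hδ
    refine master hodd (qMinus n a b) hnd' (by omega) _ φ hφ ?_ P
    rw [hO, add_zero]
    refine val_even_full hodd hq1 (Nat.succ_ne_zero n) (X' := Fintype.card F ^ (n + 1) - 1) (Or.inr rfl) (val_sub_of_three h3) ?_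
    rw [add_comm]
    exact val_split hodd hq1 (Nat.succ_ne_zero n)

end final

end Cfsg.Agent.Lib.OmSyl99
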