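import Mathlib
import Cfsg.Agent.Lib.OmSyl99
import Cfsg.Agent.Lib.SympForm
import Cfsg.Agent.Lib.SpOrder
import Cfsg.Agent.Lib.ClassicalSmall

/-!
# Sylow `2`-subgroups of `SL_n(q)` and `Sp_{2n}(q)`, `q` odd: the abelianization
-/

set_option autoImplicit false
set_option linter.unusedSectionVars false
set_option linter.unusedVariables false
set_option linter.unusedSimpArgs false

namespace Cfsg.Agent.Lib.GLSyl99

open Module Equiv
open scoped commutatorElement
open Cfsg.Agent.Lib.OrthGroup Cfsg.Agent.Lib.OrthOmega Cfsg.Agent.Lib.OmSyl99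

section wreath

variable {F W U : Type*} [Field F] [AddCommGroup W] [Module F W] [AddCommGroup U] [Module F U] {k : ℕ}

/-- The one-point embedding. -/
def onePt (j : Fin k) : (W ≃ₗ[F] W) →* (((Fin k → W) × U) ≃ₗ[F] ((Fin k → W) × U)) where
  toFun c := wrBase (tp j j c 1) 1
  map_one' := by
    rw [← wrBase_one]
    congr 1
    funext l
    by_cases hl : l = j
    · subst hl; simp [tp_left]
    · simp [tp, hl]
  map_mul' a b := by
    rw [wrBase_mul, mul_one]
    congr 1
    funext l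
    by_cases hl : l = j
    · subst hl; simp [tp_left]
    · simp [tp, hl]

theorem onePt_apply (j : Fin k) (c : W ≃ₗ[F] W) :
    (onePt j c : ((Fin k → W) × U) ≃ₗ[F] ((Fin k → W) × U)) = wrBase (tp j j c 1) 1 := rfl

theorem sq_onePt {Q : Subgroup (W ≃ₗ[F] W)} (hQ : GoodSub Q) {j : Fin k}
    {S : Subgroup (((Fin k → W) × U) ≃ₗ[F] ((Fin k → W) × U))} (hS : ∀ c ∈ Q, onePt j c ∈ S) {c : W ≃ₗ[F] W} (hc : c ∈ Q) :
    onePt j c * onePt j c ∈ ⁅S, S⁆ := by
  have h1 := GoodSub.map (onePt (F := F) (W := W) (U := U) j) hQ (onePt j c) ⟨c, hc, rfl⟩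
  have h2 : Q.map (onePt j) ≤ S := by
    rintro _ ⟨x, hx, rfl⟩
    exact hS x hx
  exact Subgroup.commutator_mono h2 h2 h1

variable {H Q : Subgroup (W ≃ₗ[F] W)} {E : Subgroup (U ≃ₗ[F] U)} {T : Subgroup (Perm (Fin k))}
  {N : Subgroup (((Fin k → W) × U) ≃ₗ[F] ((Fin k → W) × U))}

/-- The general induction. -/
theorem wreath_gen_base (j₀ : Fin k)
    (hstep : ∀ i, i ≠ j₀ → ∀ d ∈ H, ∃ a ∈ H, wrBase (tp i j₀ d a) (1 : U ≃ₗ[F] U) ∈ N ∧
      wrBase (tp i j₀ d a) (1 : U ≃ₗ[F] U) * wrBase (tp i j₀ d a) (1 : U ≃ₗ[F] U) ∈ ⁅PP H E T ⊓ N, PP H E T ⊓ N⁆)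
    (hbase : ∀ d ∈ H, ∀ h ∈ E, wrBase (tp j₀ j₀ d 1) h ∈ N →
      wrBase (tp j₀ j₀ d 1) h * wrBase (tp j₀ j₀ d 1) h ∈ ⁅PP H E T ⊓ N, PP H E T ⊓ N⁆)
    (J : Finset (Fin k)) :
    ∀ (g : Fin k → (W ≃ₗ[F] W)) (h : U ≃ₗ[F] U), (∀ j, g j ∈ H) → h ∈ E → (∀ j, j ∉ J → j ≠ j₀ → g j = 1) →
      wrBase g h ∈ N → wrBase g h * wrBase g h ∈ ⁅PP H E T ⊓ N, PP H E T ⊓ N⁆ := by
  classical
  induction J using Finset.induction_on with
  | empty =>
    intro g h hg hh hsupp hy
    have e : g = tp j₀ j₀ (g j₀) 1 := by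
      funext l
      by_cases hl : l = j₀
      · subst hl; simp [tp]
      · simp [tp, hl, hsupp l (by simp) hl]
    rw [e] at hy ⊢
    exact hbase _ (hg j₀) h hh hy
  | insert i J hi IH =>
    intro g h hg hh hsupp hy
    by_cases hij : i = j₀
    · refine IH g h hg hh (fun j hj hj' => hsupp j ?_ hj') hy
      simp only [Finset.mem_insert, not_or]
      exact ⟨fun e => hj' (e.trans hij), hj⟩
    · obtain ⟨a, ha, hyN, hysq⟩ := hstep i hij (g i) (hg i)
      set y : ((Fin k → W) × U) ≃ₗ[F] ((Fin k → W) × U) := wrBase (tp i j₀ (g i) a) 1 with hydef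
      set g' : Fin k → (W ≃ₗ[F] W) := fun l => if l = i then 1 else if l = j₀ then g j₀ * a⁻¹ else g l with hg'def
      have e : wrBase g h = wrBase g' h * y := by
        rw [hydef, wrBase_mul, mul_one]
        congr 1
        funext l
        by_cases hli : l = i
        · subst hli; simp [hg'def, tp_left]
        · by_cases hlj : l = j₀
          · subst hlj; simp [hg'def, tp_right hij, hli]
          · simp [hg'def, tp_other hli hlj, hli, hlj]
      have hg'H : ∀ j, g' j ∈ H := by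
        intro l
        simp only [hg'def]
        split_ifs
        · exact H.one_mem
        · exact H.mul_mem (hg _) (H.inv_mem ha)
        · exact hg _
      have hx : wrBase g' h ∈ N := by
        have : wrBase g' h = wrBase g h * y⁻¹ := by rw [e]; group
        rw [this]
        exact N.mul_mem hy (N.inv_mem hyN)
      have hyH : y ∈ PP H E T := wrBase_mem_PP (tp_mem_D (hg i) ha) E.one_mem
      have hxS : wrBase g' h ∈ PP H E T ⊓ N := ⟨wrBase_mem_PP hg'H hh, hx⟩
      have hyS : y ∈ PP H E T ⊓ N := ⟨hyH, hyN⟩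
      rw [e]
      refine mul_mul_mem _ hxS hyS ?_ hysq
      refine IH g' h hg'H hh ?_ hx
      intro l hl hl'
      simp only [hg'def]
      by_cases hli : l = i
      · simp [hli]
      · rw [if_neg hli, if_neg hl']
        refine hsupp l ?_ hl'
        simp [hli, hl]

/-- The general reduction. -/
theorem wreath_gen (hk : 0 < k) (hT : GoodSub T) (hperm : ∀ τ ∈ T, (wrPerm τ : ((Fin k → W) × U) ≃ₗ[F] ((Fin k → W) × U)) ∈ N)
    (hstep : ∀ j₀ i, i ≠ j₀ → ∀ d ∈ H, ∃ a ∈ H, wrBase (tp i j₀ d a) (1 : U ≃ₗ[F] U) ∈ N ∧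
      wrBase (tp i j₀ d a) (1 : U ≃ₗ[F] U) * wrBase (tp i j₀ d a) (1 : U ≃ₗ[F] U) ∈ ⁅PP H E T ⊓ N, PP H E T ⊓ N⁆)
    (hbase : ∀ j₀, ∀ d ∈ H, ∀ h ∈ E, wrBase (tp j₀ j₀ d 1) h ∈ N →
      wrBase (tp j₀ j₀ d 1) h * wrBase (tp j₀ j₀ d 1) h ∈ ⁅PP H E T ⊓ N, PP H E T ⊓ N⁆) :
    GoodSub (PP H E T ⊓ N) := by
  classical
  rintro x ⟨⟨g, h, τ, hg, hh, hτ, rfl⟩, hx⟩
  have hb : wrBase g h ∈ N := by
    have := N.mul_mem hx (N.inv_mem (hperm τ hτ))
    rwa [mul_inv_cancel_right] at this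
  have hbS : wrBase g h ∈ PP H E T ⊓ N := ⟨wrBase_mem_PP hg hh, hb⟩
  have hpS : (wrPerm τ : ((Fin k → W) × U) ≃ₗ[F] ((Fin k → W) × U)) ∈ PP H E T ⊓ N :=
    ⟨wrPerm_mem_PP hτ, hperm τ hτ⟩
  refine mul_mul_mem _ hbS hpS ?_ ?_
  · let j₀ : Fin k := ⟨0, hk⟩
    exact wreath_gen_base j₀ (hstep j₀) (hbase j₀) Finset.univ g h hg hh (by simp) hb
  · let φ : Perm (Fin k) →* (((Fin k → W) × U) ≃ₗ[F] ((Fin k → W) × U)) :=
      { toFun := wrPerm, map_one' := wrPerm_one, map_mul' := wrPerm_mul }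
    have h1 : (⁅T, T⁆).map φ = ⁅T.map φ, T.map φ⁆ := Subgroup.map_commutator _ _ _
    have h2 : T.map φ ≤ PP H E T ⊓ N := by
      rintro _ ⟨σ, hσ, rfl⟩
      exact ⟨wrPerm_mem_PP hσ, hperm σ hσ⟩
    have h3 : φ (τ * τ) ∈ ⁅T.map φ, T.map φ⁆ := by
      rw [← h1]
      exact ⟨τ * τ, hT τ hτ, rfl⟩
    have h4 := Subgroup.commutator_mono h2 h2 h3
    rwa [map_mul] at h4

/-- Variant A: the base group is an extension of `Q` by an involution. -/
theorem good_wreathA (hk : 0 < k) (hT : GoodSub T) (hperm : ∀ τ ∈ T, (wrPerm τ : ((Fin k → W) × U) ≃ₗ[F] ((Fin k → W) × U)) ∈ N)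
    (hQ : GoodSub Q) (hQH : Q ≤ H) {ρ : W ≃ₗ[F] W} (hρ : ρ ∈ H) (hρ2 : ρ * ρ = 1) (hd : ∀ d ∈ H, d ∈ Q ∨ ρ * d ∈ Q)
    (hE : ∀ h ∈ E, h * h = 1) (hQN : ∀ j, ∀ c ∈ Q, onePt j c ∈ N)
    (hρN : ∀ i j, i ≠ j → wrBase (tp i j ρ ρ) (1 : U ≃ₗ[F] U) ∈ N) :
    GoodSub (PP H E T ⊓ N) := by
  classical
  have hρinv : ρ⁻¹ = ρ := by rw [inv_eq_iff_mul_eq_one]; exact hρ2
  -- decomposition
  have hdec : ∀ d ∈ H, ∃ e c, e ∈ H ∧ e * e = 1 ∧ c ∈ Q ∧ d = e * c ∧ (e = 1 ∨ e = ρ) := by
    intro d hdH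
    rcases hd d hdH with h | h
    · exact ⟨1, d, H.one_mem, one_mul _, h, (one_mul _).symm, Or.inl rfl⟩
    · refine ⟨ρ, ρ * d, hρ, hρ2, h, ?_, Or.inr rfl⟩
      rw [← mul_assoc, hρ2, one_mul]
  have honeS : ∀ j, ∀ c ∈ Q, onePt j c ∈ PP H E T ⊓ N := fun j c hc =>
    ⟨wrBase_mem_PP (tp_mem_D (hQH hc) H.one_mem) E.one_mem, hQN j c hc⟩
  refine wreath_gen hk hT hperm ?_ ?_
  · intro j₀ i hij d hdH
    obtain ⟨e, c, heH, he2, hc, rfl, he⟩ := hdec d hdH
    have heN : wrBase (tp i j₀ e e) (1 : U ≃ₗ[F] U) ∈ N := by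
      rcases he with rfl | rfl
      · have := hQN i 1 Q.one_mem
        rw [map_one] at this
        convert this using 1
        rw [← wrBase_one]
        congr 1
        funext l
        simp [tp]
      · exact hρN i j₀ hij
    have hfac : wrBase (tp i j₀ (e * c) e) (1 : U ≃ₗ[F] U) = wrBase (tp i j₀ e e) 1 * onePt i c := by
      rw [onePt_apply, wrBase_mul, mul_one]
      congr 1
      funext l
      by_cases hli : l = i
      · subst hli; simp [tp_left]
      · by_cases hlj : l = j₀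
        · subst hlj; simp [tp_right hij, tp, hli]
        · simp [tp_other hli hlj, tp, hli]
    refine ⟨e, heH, ?_, ?_⟩
    · rw [hfac]
      exact N.mul_mem heN (hQN i c hc)
    · rw [hfac]
      refine mul_mul_mem _ ⟨wrBase_mem_PP (tp_mem_D heH heH) E.one_mem, heN⟩ (honeS i c hc) ?_
        (sq_onePt hQ (honeS i) hc)
      have : wrBase (tp i j₀ e e) (1 : U ≃ₗ[F] U) * wrBase (tp i j₀ e e) 1 = 1 := by
        rw [wrBase_mul, ← wrBase_one, one_mul]
        congr 1
        funext l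
        by_cases hli : l = i
        · subst hli; simp [tp_left, he2]
        · by_cases hlj : l = j₀
          · subst hlj; simp [tp_right hij, he2]
          · simp [tp_other hli hlj]
      rw [this]
      exact Subgroup.one_mem _
  · intro j₀ d hdH h hh hy
    obtain ⟨e, c, heH, he2, hc, rfl, he⟩ := hdec d hdH
    have hfac : wrBase (tp j₀ j₀ (e * c) 1) h = wrBase (tp j₀ j₀ e 1) h * onePt j₀ c := by
      rw [onePt_apply, wrBase_mul, mul_one]
      congr 1
      funext l
      by_cases hli : l = j₀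
      · subst hli; simp [tp_left]
      · simp [tp, hli]
    have hx : wrBase (tp j₀ j₀ e 1) h ∈ N := by
      have := N.mul_mem hy (N.inv_mem (hQN j₀ c hc))
      rwa [hfac, mul_inv_cancel_right] at this
    rw [hfac]
    refine mul_mul_mem _ ⟨wrBase_mem_PP (tp_mem_D heH H.one_mem) hh, hx⟩ (honeS j₀ c hc) ?_ (sq_onePt hQ (honeS j₀) hc)
    have : wrBase (tp j₀ j₀ e 1) h * wrBase (tp j₀ j₀ e 1) h = 1 := by
      rw [wrBase_mul, hE h hh, ← wrBase_one]
      congr 1
      funext l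
      by_cases hli : l = j₀
      · subst hli; simp [tp_left, he2]
      · simp [tp, hli]
    rw [this]
    exact Subgroup.one_mem _

/-- Variant B: a swapping Sylow subgroup. -/
theorem good_wreathB (hk : 0 < k) (hT : GoodSub T) (hperm : ∀ τ ∈ T, (wrPerm τ : ((Fin k → W) × U) ≃ₗ[F] ((Fin k → W) × U)) ∈ N)
    (hQ : GoodSub Q) (hQH : Q ≤ H) (hQN : ∀ j, ∀ c ∈ Q, onePt j c ∈ N)
    (hswap : ∀ i j : Fin k, i ≠ j → ∃ σ ∈ T, σ i = j ∧ σ j = i)
    (hN : ∀ i j, i ≠ j → ∀ d ∈ H, wrBase (tp i j d d⁻¹) (1 : U ≃ₗ[F] U) ∈ N)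
    (hN1 : ∀ j, ∀ d ∈ H, ∀ h ∈ E, wrBase (tp j j d 1) h ∈ N → d ∈ Q ∧ h = 1) :
    GoodSub (PP H E T ⊓ N) := by
  classical
  have honeS : ∀ j, ∀ c ∈ Q, onePt j c ∈ PP H E T ⊓ N := fun j c hc =>
    ⟨wrBase_mem_PP (tp_mem_D (hQH hc) H.one_mem) E.one_mem, hQN j c hc⟩
  refine wreath_gen hk hT hperm ?_ ?_
  · intro j₀ i hij d hdH
    refine ⟨d⁻¹, H.inv_mem hdH, hN i j₀ hij d hdH, ?_⟩
    obtain ⟨σ, hσ, h1, h2⟩ := hswap i j₀ hij
    have h1' : σ⁻¹ j₀ = i := by rw [← h1]; simp
    have h2' : σ⁻¹ i = j₀ := by rw [← h2]; simp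
    set y : ((Fin k → W) × U) ≃ₗ[F] ((Fin k → W) × U) := wrBase (tp i j₀ d d⁻¹) 1 with hy
    have hyS : y ∈ PP H E T ⊓ N := ⟨wrBase_mem_PP (tp_mem_D hdH (H.inv_mem hdH)) E.one_mem, hN i j₀ hij d hdH⟩
    have hσS : (wrPerm σ : ((Fin k → W) × U) ≃ₗ[F] ((Fin k → W) × U)) ∈ PP H E T ⊓ N :=
      ⟨wrPerm_mem_PP hσ, hperm σ hσ⟩
    have hc := Subgroup.commutator_mem_commutator hσS hyS
    have hconj : (wrPerm σ : ((Fin k → W) × U) ≃ₗ[F] ((Fin k → W) × U)) * y * (wrPerm σ)⁻¹ = y⁻¹ := by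
      rw [hy, wrPerm_mul_wrBase, mul_inv_cancel_right, wrBase_inv]
      congr 1
      · funext l
        by_cases hli : l = i
        · subst hli
          have hne : j₀ ≠ l := fun e => hij e.symm
          simp [tp_right hij, tp_left, h2']
        · by_cases hlj : l = j₀
          · subst hlj
            simp [tp_right hij, tp_left, h1']
          · have h3 : σ⁻¹ l ≠ i := by
              intro e
              apply hlj
              rw [← h1, ← e]
              simp
            have h4 : σ⁻¹ l ≠ j₀ := by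
              intro e
              apply hli
              rw [← h2, ← e]
              simp
            show tp i j₀ d d⁻¹ (σ⁻¹ l) = (tp i j₀ d d⁻¹ l)⁻¹
            rw [tp_other h3 h4, tp_other hli hlj, inv_one]
    have e : ⁅(wrPerm σ : ((Fin k → W) × U) ≃ₗ[F] ((Fin k → W) × U)), y⁆ = (y * y)⁻¹ := by
      rw [commutatorElement_def, hconj]
      group
    rw [e] at hc
    have := Subgroup.inv_mem _ hc
    rwa [inv_inv] at this
  · intro j₀ d hdH h hh hy
    obtain ⟨hdQ, rfl⟩ := hN1 j₀ d hdH h hh hy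
    exact sq_onePt hQ (honeS j₀) hdQ

end wreath

section swapSylow

/-- The translations of an elementary abelian group give a Sylow `2`-subgroup of `Sym(2^j)` with the swap property. -/
theorem exists_sylow_swap (j : ℕ) :
    ∃ T : Sylow 2 (Perm (Fin (2 ^ j))), ∀ a b : Fin (2 ^ j), a ≠ b → ∃ σ ∈ (T : Subgroup (Perm (Fin (2 ^ j)))), σ a = b ∧ σ b = a := by
  classical
  have hc : Nat.card (Fin j → ZMod 2) = 2 ^ j := by
    simp [Nat.card_eq_fintype_card, ZMod.card]
  let φ : (Fin j → ZMod 2) ≃ Fin (2 ^ j) := Finite.equivFinOfCardEq hc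
  -- the translation subgroup
  let t : (Fin j → ZMod 2) → Perm (Fin (2 ^ j)) := fun v => (φ.symm.trans (Equiv.addLeft v)).trans φ
  have hchar : ∀ v : Fin j → ZMod 2, v + v = 0 := by
    intro v
    funext i
    exact CharTwo.add_self_eq_zero (v i)
  let E : Subgroup (Perm (Fin (2 ^ j))) :=
    { carrier := Set.range t
      mul_mem' := by
        rintro _ _ ⟨v, rfl⟩ ⟨w, rfl⟩
        refine ⟨v + w, ?_⟩
        ext x
        simp [t, Perm.mul_apply, add_assoc]
      one_mem' := by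
        refine ⟨0, ?_⟩
        ext x
        simp [t]
      inv_mem' := by
        rintro _ ⟨v, rfl⟩
        refine ⟨v, ?_⟩
        rw [eq_inv_iff_mul_eq_one]
        ext x
        simp [t, Perm.mul_apply, ← add_assoc, hchar v] }
  have hE : IsPGroup 2 E := by
    rintro ⟨_, v, rfl⟩
    refine ⟨1, ?_⟩
    apply Subtype.ext
    show (t v) ^ 2 ^ 1 = 1
    ext x
    simp [t, sq, Perm.mul_apply, ← add_assoc, hchar v]
  obtain ⟨T, hT⟩ := hE.exists_le_sylow
  refine ⟨T, fun a b hab => ⟨t (φ.symm a + φ.symm b), hT ⟨_, rfl⟩, ?_, ?_⟩⟩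
  · simp [t, add_comm, ← add_assoc, hchar]
  · simp [t, add_comm, ← add_assoc, hchar]

end swapSylow

section SL

variable {F V V' : Type*} [Field F] [AddCommGroup V] [Module F V] [AddCommGroup V'] [Module F V']

/-- The special linear group of a module. -/
noncomputable def SLV (F V : Type*) [Field F] [AddCommGroup V] [Module F V] : Subgroup (V ≃ₗ[F] V) :=
  (LinearEquiv.det : (V ≃ₗ[F] V) →* Fˣ).ker

instance SLV_normal : (SLV F V).Normal := MonoidHom.normal_ker _

theorem mem_SLV_iff {g : V ≃ₗ[F] V} : g ∈ SLV F V ↔ LinearMap.det (g : V →ₗ[F] V) = 1 := by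
  unfold SLV
  rw [MonoidHom.mem_ker, ← Units.val_inj, LinearEquiv.coe_det, Units.val_one]

/-- Determinants are multiplicative. -/
theorem det_mul' (a b : V ≃ₗ[F] V) :
    LinearMap.det ((a * b : V ≃ₗ[F] V) : V →ₗ[F] V) = LinearMap.det (a : V →ₗ[F] V) * LinearMap.det (b : V →ₗ[F] V) :=
  LinearMap.det_comp (a : V →ₗ[F] V) (b : V →ₗ[F] V)

/-- Conjugation of automorphisms. -/
def autC (φ : V ≃ₗ[F] V') : (V ≃ₗ[F] V) ≃* (V' ≃ₗ[F] V') where
  toFun g := φ.symm.trans (g.trans φ)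
  invFun g := φ.trans (g.trans φ.symm)
  left_inv g := by
    apply LinearEquiv.ext
    intro x
    simp
  right_inv g := by
    apply LinearEquiv.ext
    intro x
    simp
  map_mul' a b := by
    apply LinearEquiv.ext
    intro x
    simp [LinearEquiv.mul_apply]

theorem autC_apply (φ : V ≃ₗ[F] V') (g : V ≃ₗ[F] V) (x : V') : autC φ g x = φ (g (φ.symm x)) := rfl

theorem det_autC (φ : V ≃ₗ[F] V') (g : V ≃ₗ[F] V) : LinearEquiv.det (autC φ g) = LinearEquiv.det g :=
  LinearEquiv.det_conj g φ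

theorem mem_SLV_autC (φ : V ≃ₗ[F] V') (g : V ≃ₗ[F] V) : autC φ g ∈ SLV F V' ↔ g ∈ SLV F V := by
  unfold SLV
  rw [MonoidHom.mem_ker, MonoidHom.mem_ker, det_autC]

/-- The special linear groups of isomorphic modules are isomorphic. -/
noncomputable def slC (φ : V ≃ₗ[F] V') : ↥(SLV F V) ≃* ↥(SLV F V') where
  toFun g := ⟨autC φ g.1, (mem_SLV_autC φ g.1).2 g.2⟩
  invFun g := ⟨(autC φ).symm g.1, by
    rw [← mem_SLV_autC φ, MulEquiv.apply_symm_apply]
    exact g.2⟩
  left_inv g := Subtype.ext (by simp)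
  right_inv g := Subtype.ext (by simp)
  map_mul' a b := Subtype.ext (by simp)

/-- The matrix group is the group of the coordinate module. -/
noncomputable def slMat (n : ℕ) : Matrix.SpecialLinearGroup (Fin n) F ≃* ↥(SLV F (Fin n → F)) :=
  MulEquiv.ofBijective
    (MonoidHom.codRestrict (Matrix.SpecialLinearGroup.toLin' (n := Fin n) (R := F)) (SLV F (Fin n → F)) (fun A => by
      rw [mem_SLV_iff, Matrix.SpecialLinearGroup.toLin'_to_linearMap, LinearMap.det_toLin']
      exact A.2))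
    (by
      constructor
      · intro a b hab
        exact Matrix.SpecialLinearGroup.toLin'_injective (congrArg Subtype.val hab)
      · rintro ⟨g, hg⟩
        let A : Matrix.SpecialLinearGroup (Fin n) F := ⟨LinearMap.toMatrix' (g : (Fin n → F) →ₗ[F] (Fin n → F)), by
          rw [LinearMap.det_toMatrix']
          exact mem_SLV_iff.1 hg⟩
        refine ⟨A, ?_⟩
        apply Subtype.ext
        apply LinearEquiv.toLinearMap_injective
        exact (Matrix.SpecialLinearGroup.toLin'_to_linearMap A).trans (Matrix.toLin'_toMatrix' _))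

/-- A module of dimension `n`. -/
noncomputable def slEquiv [FiniteDimensional F V] {n : ℕ} (h : Module.finrank F V = n) :
    Matrix.SpecialLinearGroup (Fin n) F ≃* ↥(SLV F V) :=
  (slMat n).trans (slC (LinearEquiv.ofFinrankEq _ _ (by simpa using h.symm)))

/-- The intersection of a Sylow subgroup with a normal subgroup is a Sylow subgroup of it. -/
theorem sylow_inf_normal {A : Type*} [Group A] [Finite A] (N : Subgroup A) [N.Normal] (P₁ : Sylow 2 A) :
    ∃ P : Sylow 2 ↥N, (P : Subgroup ↥N).map N.subtype = (P₁ : Subgroup A) ⊓ N := by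
  have hp : IsPGroup 2 ((P₁ : Subgroup A).subgroupOf N) :=
    P₁.isPGroup'.comap_of_injective _ (Subgroup.subtype_injective _)
  have hi : ¬ 2 ∣ ((P₁ : Subgroup A).subgroupOf N).index := not_dvd_relIndex _ _ P₁.not_dvd_index
  refine ⟨hp.toSylow hi, ?_⟩
  rw [IsPGroup.toSylow_coe]
  exact Subgroup.subgroupOf_map_subtype _ _

theorem good_normal {A : Type*} [Group A] [Finite A] (N : Subgroup A) [N.Normal] (P₁ : Sylow 2 A)
    (hgood : GoodSub ((P₁ : Subgroup A) ⊓ N)) (P : Sylow 2 ↥N) : GoodSub (P : Subgroup ↥N) := by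
  obtain ⟨P₀, h⟩ := sylow_inf_normal N P₁
  refine GoodSub.sylow_all P₀ (GoodSub.of_map N.subtype (Subgroup.subtype_injective _) ?_) P
  rw [h]
  exact hgood

theorem good_inf {A : Type*} [Group A] [Finite A] (N : Subgroup A) [N.Normal] (P₁ : Sylow 2 A)
    (h : ∀ P : Sylow 2 ↥N, GoodSub (P : Subgroup ↥N)) : GoodSub ((P₁ : Subgroup A) ⊓ N) := by
  obtain ⟨P₀, e⟩ := sylow_inf_normal N P₁
  rw [← e]
  exact (h P₀).map _

theorem card_eq_two_mul {G : Type*} [Group G] [Finite G] {A T : Subgroup G} (hT : T ≤ A) {w : G} (hw : w ∈ A) (hwT : w ∉ T)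
    (h : ∀ g ∈ A, g ∈ T ∨ w⁻¹ * g ∈ T) : Nat.card A = 2 * Nat.card T := by
  classical
  let f : T ⊕ T → A := Sum.elim (fun t => ⟨t, hT t.2⟩) (fun t => ⟨w * t, A.mul_mem hw (hT t.2)⟩)
  have hf : Function.Bijective f := by
    constructor
    · rintro (a | a) (b | b) hab
      · have h1 : (a : G) = b := congrArg (Subtype.val : A → G) hab
        rw [Subtype.ext h1]
      · exfalso
        have h1 : (a : G) = w * b := congrArg (Subtype.val : A → G) hab
        apply hwT
        have : w = a * (b : G)⁻¹ := by rw [h1]; group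
        rw [this]
        exact T.mul_mem a.2 (T.inv_mem b.2)
      · exfalso
        have h1 : w * (a : G) = b := congrArg (Subtype.val : A → G) hab
        apply hwT
        have : w = b * (a : G)⁻¹ := by rw [← h1]; group
        rw [this]
        exact T.mul_mem b.2 (T.inv_mem a.2)
      · have h1 : w * (a : G) = w * b := congrArg (Subtype.val : A → G) hab
        rw [Subtype.ext (mul_left_cancel h1)]
    · rintro ⟨g, hg⟩
      rcases h g hg with h1 | h1
      · exact ⟨Sum.inl ⟨g, h1⟩, rfl⟩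
      · refine ⟨Sum.inr ⟨_, h1⟩, Subtype.ext ?_⟩
        show w * (w⁻¹ * g) = g
        group
  rw [← Nat.card_congr (Equiv.ofBijective f hf), Nat.card_sum]
  ring

end SL

section planeSL

variable {F : Type*} [Field F]

theorem det_plane (d : (F × F) ≃ₗ[F] (F × F)) :
    LinearMap.det (d : (F × F) →ₗ[F] (F × F)) = (d (1, 0)).1 * (d (0, 1)).2 - (d (0, 1)).1 * (d (1, 0)).2 := by
  rw [← LinearMap.det_toMatrix (Basis.finTwoProd F), Matrix.det_fin_two]
  simp [LinearMap.toMatrix_apply, Basis.finTwoProd_zero, Basis.finTwoProd_one, Basis.coe_finTwoProd_repr]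

/-- The two kinds of isometries of the plane. -/
theorem plane_O_form (h2 : (2 : F) ≠ 0) {d : (F × F) ≃ₗ[F] (F × F)} (hd : d ∈ O (NN F)) :
    ∃ a b : F, a * a + b * b = 1 ∧
      ((LinearMap.det (d : (F × F) →ₗ[F] (F × F)) = 1 ∧ ∀ x y, d (x, y) = (x * a - y * b, x * b + y * a)) ∨
        (LinearMap.det (d : (F × F) →ₗ[F] (F × F)) = -1 ∧ ∀ x y, d (x, y) = (x * a + y * b, x * b - y * a))) := by
  obtain ⟨a, b, hab⟩ : ∃ a b, d (1, 0) = (a, b) := ⟨_, _, rfl⟩
  obtain ⟨c, e, hce⟩ : ∃ c e, d (0, 1) = (c, e) := ⟨_, _, rfl⟩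
  have hform : ∀ x y, d (x, y) = (x * a + y * c, x * b + y * e) := by
    intro x y
    rw [plane_apply, hab, hce]
  have h1 : a * a + b * b = 1 := by
    have := hd (1, 0)
    rw [hab, NN_apply, NN_apply] at this
    simpa using this
  have h3 : c * c + e * e = 1 := by
    have := hd (0, 1)
    rw [hce, NN_apply, NN_apply] at this
    simpa using this
  have h4 : a * c + b * e = 0 := by
    have := hd (1, 1)
    rw [hform, NN_apply, NN_apply] at this
    simp only [one_mul] at this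
    have h5 : 2 * (a * c + b * e) = 0 := by linear_combination this - h1 - h3
    exact (mul_eq_zero.1 h5).resolve_left h2
  have hl : (a * e - b * c) * (a * e - b * c) = 1 := by
    linear_combination (c * c + e * e) * h1 + h3 - (a * c + b * e) * h4
  have hc : c = -((a * e - b * c) * b) := by
    linear_combination (-c) * h1 + a * h4
  have he : e = (a * e - b * c) * a := by
    linear_combination (-e) * h1 + b * h4
  have hdet : LinearMap.det (d : (F × F) →ₗ[F] (F × F)) = a * e - b * c := by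
    rw [det_plane, hab, hce]
    ring
  refine ⟨a, b, h1, ?_⟩
  rcases mul_self_eq_one_iff.1 hl with hlam | hlam
  · left
    rw [hlam, one_mul] at hc he
    refine ⟨hdet.trans hlam, fun x y => ?_⟩
    rw [hform, hc, he]
    ext <;> simp <;> ring
  · right
    rw [hlam] at hc he
    refine ⟨hdet.trans hlam, fun x y => ?_⟩
    rw [hform, hc, he]
    ext <;> simp <;> ring

variable (F) in
/-- The rotation group. -/
noncomputable def SOP : Subgroup ((F × F) ≃ₗ[F] (F × F)) := O (NN F) ⊓ SLV F (F × F)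

/-- `-1`. -/
def zP (F : Type*) [Field F] : (F × F) ≃ₗ[F] (F × F) := LinearEquiv.neg F

@[simp] theorem zP_apply (v : F × F) : zP F v = -v := rfl

theorem zP_mem : zP F ∈ SOP F := by
  refine ⟨?_, ?_⟩
  · intro v
    simp [NN_apply]
  · show zP F ∈ SLV F (F × F)
    rw [mem_SLV_iff, det_plane]
    simp

theorem zP_central (g : (F × F) ≃ₗ[F] (F × F)) : zP F * g = g * zP F := by
  apply LinearEquiv.ext
  intro v
  simp [LinearEquiv.mul_apply]

theorem SOP_form (h2 : (2 : F) ≠ 0) {t : (F × F) ≃ₗ[F] (F × F)} (ht : t ∈ SOP F) :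
    ∃ a b : F, a * a + b * b = 1 ∧ ∀ x y, t (x, y) = (x * a - y * b, x * b + y * a) := by
  obtain ⟨a, b, h1, ⟨-, h⟩ | ⟨h3, -⟩⟩ := plane_O_form h2 ht.1
  · exact ⟨a, b, h1, h⟩
  · exfalso
    rw [mem_SLV_iff.1 ht.2] at h3
    have : (2 : F) = 0 := by linear_combination h3
    exact h2 this

/-- The involutions of the rotation group. -/
theorem SOP_invol (h2 : (2 : F) ≠ 0) {t : (F × F) ≃ₗ[F] (F × F)} (ht : t ∈ SOP F) (hsq : t * t = 1) : t = 1 ∨ t = zP F := by
  obtain ⟨a, b, h1, h⟩ := SOP_form h2 ht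
  have e : t (t (1, 0)) = (1, 0) := by
    have := congrArg (fun f : (F × F) ≃ₗ[F] (F × F) => f (1, 0)) hsq
    simpa [LinearEquiv.mul_apply] using this
  rw [h, h] at e
  have e1 := congrArg Prod.fst e
  simp only [] at e1
  have hb : b = 0 := by
    have h4 : 2 * (b * b) = 0 := by linear_combination h1 - e1
    have := (mul_eq_zero.1 h4).resolve_left h2
    exact mul_self_eq_zero.1 this
  subst hb
  have ha : a * a = 1 := by linear_combination h1
  rcases mul_self_eq_one_iff.1 ha with rfl | rfl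
  · left
    apply LinearEquiv.ext
    rintro ⟨x, y⟩
    rw [h]
    simp
  · right
    apply LinearEquiv.ext
    rintro ⟨x, y⟩
    rw [h]
    simp

/-- The isometry with similitude factor `-1`. -/
def wP (c d : F) (h : c * c + d * d = -1) : (F × F) ≃ₗ[F] (F × F) where
  toFun v := (c * v.1 + d * v.2, d * v.1 - c * v.2)
  invFun v := (-(c * v.1 + d * v.2), -(d * v.1 - c * v.2))
  map_add' x y := by
    ext <;> simp <;> ring
  map_smul' a x := by
    ext <;> simp <;> ring
  left_inv v := by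
    ext
    · simp only
      linear_combination (-v.1) * h
    · simp only
      linear_combination (-v.2) * h
  right_inv v := by
    ext
    · simp only
      linear_combination (-v.1) * h
    · simp only
      linear_combination (-v.2) * h

theorem wP_apply (c d : F) (h : c * c + d * d = -1) (x y : F) :
    wP c d h (x, y) = (c * x + d * y, d * x - c * y) := rfl

theorem wP_N (c d : F) (h : c * c + d * d = -1) (v : F × F) : NN F (wP c d h v) = - NN F v := by
  obtain ⟨x, y⟩ := v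
  rw [wP_apply, NN_apply, NN_apply]
  simp only
  linear_combination (x * x + y * y) * h

theorem wP_mem (c d : F) (h : c * c + d * d = -1) : wP c d h ∈ SLV F (F × F) := by
  rw [mem_SLV_iff, det_plane, wP_apply, wP_apply]
  simp only [mul_one, mul_zero, add_zero, zero_add, sub_zero, zero_sub]
  linear_combination -h

theorem wP_sq (c d : F) (h : c * c + d * d = -1) : wP c d h * wP c d h = zP F := by
  apply LinearEquiv.ext
  rintro ⟨x, y⟩
  show wP c d h (wP c d h (x, y)) = _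
  rw [wP_apply, wP_apply, zP_apply]
  ext
  · simp only [Prod.fst_neg]
    linear_combination x * h
  · simp only [Prod.snd_neg]
    linear_combination y * h

theorem wP_conj (h2 : (2 : F) ≠ 0) (c d : F) (h : c * c + d * d = -1) {t : (F × F) ≃ₗ[F] (F × F)} (ht : t ∈ SOP F) :
    wP c d h * t * (wP c d h)⁻¹ = t⁻¹ := by
  obtain ⟨a, b, h1, hf⟩ := SOP_form h2 ht
  rw [mul_inv_eq_iff_eq_mul, eq_inv_mul_iff_mul_eq]
  apply LinearEquiv.ext
  rintro ⟨x, y⟩
  show t (wP c d h (t (x, y))) = wP c d h (x, y)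
  rw [hf, wP_apply, hf, wP_apply]
  ext
  · simp only
    linear_combination (c * x + d * y) * h1
  · simp only
    linear_combination (d * x - c * y) * h1

variable (F) in
/-- The group of rotations and anti-isometries. -/
noncomputable def A0P : Subgroup ((F × F) ≃ₗ[F] (F × F)) where
  carrier := {g | g ∈ SLV F (F × F) ∧ ((∀ v, NN F (g v) = NN F v) ∨ (∀ v, NN F (g v) = - NN F v))}
  mul_mem' := by
    rintro a b ⟨ha, ha'⟩ ⟨hb, hb'⟩
    refine ⟨Subgroup.mul_mem _ ha hb, ?_⟩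
    rcases ha' with ha' | ha' <;> rcases hb' with hb' | hb'
    · left
      intro v
      rw [LinearEquiv.mul_apply, ha', hb']
    · right
      intro v
      rw [LinearEquiv.mul_apply, ha', hb']
    · right
      intro v
      rw [LinearEquiv.mul_apply, ha', hb']
    · left
      intro v
      rw [LinearEquiv.mul_apply, ha', hb', neg_neg]
  one_mem' := ⟨Subgroup.one_mem _, Or.inl fun v => rfl⟩
  inv_mem' := by
    rintro a ⟨ha, ha'⟩
    refine ⟨Subgroup.inv_mem _ ha, ?_⟩
    have e : ∀ v, a (a⁻¹ v) = v := fun v => by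
      rw [← LinearEquiv.mul_apply, mul_inv_cancel]
      rfl
    rcases ha' with ha' | ha'
    · left
      intro v
      have := ha' (a⁻¹ v)
      rw [e] at this
      exact this.symm
    · right
      intro v
      have := ha' (a⁻¹ v)
      rw [e] at this
      rw [this, neg_neg]

theorem SOP_le_A0P : SOP F ≤ A0P F := fun _ h => ⟨h.2, Or.inl h.1⟩

theorem exists_wP [Fintype F] (hodd : Odd (Fintype.card F)) : ∃ c d : F, c * c + d * d = -1 := by
  classical
  have h1 : (Polynomial.X ^ 2 : Polynomial F).degree = 2 := by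
    simpa using Polynomial.degree_X_pow (R := F) 2
  have h2 : (Polynomial.X ^ 2 + Polynomial.C 1 : Polynomial F).degree = 2 := by
    rw [Polynomial.degree_add_C]
    · simpa using Polynomial.degree_X_pow (R := F) 2
    · rw [Polynomial.degree_X_pow]
      norm_num
  obtain ⟨c, d, h⟩ := FiniteField.exists_root_sum_quadratic h1 h2 (Nat.odd_iff.mp hodd)
  refine ⟨c, d, ?_⟩
  simp only [Polynomial.eval_add, Polynomial.eval_pow, Polynomial.eval_X, Polynomial.eval_C] at h
  linear_combination h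

theorem rhoP_det : LinearMap.det ((rhoP F : (F × F) ≃ₗ[F] (F × F)) : (F × F) →ₗ[F] (F × F)) = -1 := by
  rw [det_plane]
  simp

theorem card_A0P [Fintype F] (hodd : Odd (Fintype.card F)) {c d : F} (h : c * c + d * d = -1) :
    Nat.card (A0P F) = Nat.card ↥(O (NN F)) := by
  classical
  have h2 : (2 : F) ≠ 0 := Cfsg.Agent.Lib.OrthNeg.two_ne_zero_of_odd rfl hodd
  haveI : Finite ((F × F) ≃ₗ[F] (F × F)) := finite_aut
  have hv : ∃ v : F × F, NN F v ≠ 0 := ⟨(1, 0), by simp [NN_apply]⟩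
  obtain ⟨v₀, hv₀⟩ := hv
  have hne : ∀ g : (F × F) ≃ₗ[F] (F × F), (∀ v, NN F (g v) = - NN F v) → g ∉ O (NN F) := by
    intro g hg hO
    have h3 := hg v₀
    rw [hO v₀] at h3
    have h4 : 2 * NN F v₀ = 0 := by linear_combination h3
    exact hv₀ ((mul_eq_zero.1 h4).resolve_left h2)
  have h1 : Nat.card (A0P F) = 2 * Nat.card (SOP F) := by
    refine card_eq_two_mul SOP_le_A0P (w := wP c d h) ⟨wP_mem c d h, Or.inr (wP_N c d h)⟩ ?_ ?_
    · intro hw
      exact hne _ (wP_N c d h) hw.1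
    · rintro g ⟨hg, hg' | hg'⟩
      · exact Or.inl ⟨hg', hg⟩
      · right
        refine ⟨?_, Subgroup.mul_mem _ (Subgroup.inv_mem _ (wP_mem c d h)) hg⟩
        intro v
        have e1 := wP_N c d h (((wP c d h)⁻¹ * g) v)
        have e2 : wP c d h (((wP c d h)⁻¹ * g) v) = g v := by
          rw [← LinearEquiv.mul_apply, mul_inv_cancel_left]
        rw [e2, hg' v] at e1
        linear_combination e1
  have h3 : Nat.card ↥(O (NN F)) = 2 * Nat.card (SOP F) := by
    refine card_eq_two_mul inf_le_left (w := rhoP F) rhoP_mem ?_ ?_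
    · intro hw
      have h4 := mem_SLV_iff.1 hw.2
      rw [rhoP_det] at h4
      have : (2 : F) = 0 := by linear_combination -h4
      exact h2 this
    · intro g hg
      obtain ⟨a, b, -, ⟨h4, -⟩ | ⟨h4, -⟩⟩ := plane_O_form h2 hg
      · exact Or.inl ⟨hg, mem_SLV_iff.2 h4⟩
      · right
        have hρinv : (rhoP F)⁻¹ = rhoP F := by rw [inv_eq_iff_mul_eq_one]; exact rhoP_sq
        rw [hρinv]
        refine ⟨(O (NN F)).mul_mem rhoP_mem hg, mem_SLV_iff.2 ?_⟩
        rw [det_mul', rhoP_det, h4]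
        ring
  rw [h1, h3]

theorem e0_ge_three {q : ℕ} (hq : Odd q) (hq1 : 1 < q) : 3 ≤ e0 q := by
  have hmod : q % 4 = 1 ∨ q % 4 = 3 := by
    obtain ⟨t, ht⟩ := hq
    omega
  haveI : Fact (Nat.Prime 2) := ⟨Nat.prime_two⟩
  unfold e0
  rcases hmod with h | h
  · have h1 : padicValNat 2 (q + 1) = 1 := val_of_mod4 (by omega)
    have h3 : 2 ≤ padicValNat 2 (q - 1) := (padicValNat_dvd_iff_le (by omega)).1 (by norm_num; omega)
    omega
  · have h1 : padicValNat 2 (q - 1) = 1 := val_of_mod4 (by omega)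
    have h3 : 2 ≤ padicValNat 2 (q + 1) := (padicValNat_dvd_iff_le (by omega)).1 (by norm_num; omega)
    omega

/-- The model of the Sylow subgroup of `SL₂(q)`. -/
theorem exists_good_plane [Fintype F] (hodd : Odd (Fintype.card F)) :
    ∃ D : Subgroup ((F × F) ≃ₗ[F] (F × F)), D ≤ SLV F (F × F) ∧ Nat.card D = 2 ^ e0 (Fintype.card F) ∧ GoodSub D := by
  classical
  have h2 : (2 : F) ≠ 0 := Cfsg.Agent.Lib.OrthNeg.two_ne_zero_of_odd rfl hodd
  have hq1 : 1 < Fintype.card F := Fintype.one_lt_card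
  haveI : Finite ((F × F) ≃ₗ[F] (F × F)) := finite_aut
  obtain ⟨c, d, h⟩ := exists_wP hodd
  set w := wP c d h with hw
  let w₁ : ↥(A0P F) := ⟨w, wP_mem c d h, Or.inr (wP_N c d h)⟩
  have hz2 : zP F * zP F = 1 := by
    apply LinearEquiv.ext
    intro v
    simp [LinearEquiv.mul_apply]
  have hw4 : w ^ 4 = 1 := by
    have : w ^ 4 = (w * w) * (w * w) := by
      rw [show (4 : ℕ) = 2 + 2 by norm_num, pow_add, _root_.sq]
    rw [this, hw, wP_sq, hz2]
  have hw₁4 : w₁ ^ 4 = 1 := Subtype.ext hw4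
  have hzp : IsPGroup 2 (Subgroup.zpowers w₁) := by
    rintro ⟨_, n, rfl⟩
    refine ⟨2, ?_⟩
    apply Subtype.ext
    show (w₁ ^ n) ^ 2 ^ 2 = 1
    rw [← zpow_natCast, ← zpow_mul, mul_comm, zpow_mul]
    have : ((2 ^ 2 : ℕ) : ℤ) = ((4 : ℕ) : ℤ) := by norm_num
    rw [this, zpow_natCast, hw₁4, one_zpow]
  obtain ⟨D₁, hD₁⟩ := hzp.exists_le_sylow
  set D : Subgroup ((F × F) ≃ₗ[F] (F × F)) := (D₁ : Subgroup ↥(A0P F)).map (A0P F).subtype with hDdef
  have hDA : D ≤ A0P F := by
    rintro _ ⟨x, -, rfl⟩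
    exact x.2
  have hwD : w ∈ D := ⟨w₁, hD₁ (Subgroup.mem_zpowers _), rfl⟩
  have hcD : Nat.card D = 2 ^ e0 (Fintype.card F) := by
    rw [hDdef, Subgroup.card_map_of_injective (Subgroup.subtype_injective _), D₁.card_eq_multiplicity,
      Nat.factorization_def _ Nat.prime_two, card_A0P hodd h, val_card_O_NN hodd]
  have hDp : ∀ t ∈ D, ∃ f : ℕ, orderOf t = 2 ^ f := by
    rintro _ ⟨x, hx, rfl⟩
    obtain ⟨f, hf⟩ := IsPGroup.iff_orderOf.1 D₁.isPGroup' ⟨x, hx⟩
    refine ⟨f, ?_⟩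
    rw [← hf]
    simp only [Subgroup.coe_subtype]
    rw [Subgroup.orderOf_mk]
    exact Subgroup.orderOf_coe x
  have hSOsq : ∀ t ∈ D, t ∈ SOP F → t * t ∈ ⁅D, D⁆ := by
    intro t htD htS
    have hc := Subgroup.commutator_mem_commutator hwD htD
    have e : ⁅w, t⁆ = (t * t)⁻¹ := by
      rw [commutatorElement_def, hw, wP_conj h2 c d h htS]
      group
    rw [e] at hc
    have := Subgroup.inv_mem _ hc
    rwa [inv_inv] at this
  have hinvSO : ∀ x ∈ D, (∀ v, NN F (x v) = - NN F v) → w⁻¹ * x ∈ SOP F := by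
    intro x hx hx2
    refine ⟨?_, Subgroup.mul_mem _ (Subgroup.inv_mem _ (wP_mem c d h)) (hDA hx).1⟩
    intro v
    have e1 := wP_N c d h ((w⁻¹ * x) v)
    have e2 : wP c d h ((w⁻¹ * x) v) = x v := by
      rw [← LinearEquiv.mul_apply, ← hw, mul_inv_cancel_left]
    rw [e2, hx2 v] at e1
    linear_combination e1
  have hex : ∃ t ∈ D, t ∈ SOP F ∧ t ≠ 1 ∧ t ≠ zP F := by
    by_contra hcon
    have hcon' : ∀ t ∈ D, t ∈ SOP F → t = 1 ∨ t = zP F := by
      intro t ht ht'
      by_contra h5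
      exact hcon ⟨t, ht, ht', fun e => h5 (Or.inl e), fun e => h5 (Or.inr e)⟩
    have hsub : (D : Set ((F × F) ≃ₗ[F] (F × F))) ⊆
        (({1, zP F, w, w * zP F} : Finset ((F × F) ≃ₗ[F] (F × F))) : Set ((F × F) ≃ₗ[F] (F × F))) := by
      intro x hx
      obtain ⟨hx1, hx2 | hx2⟩ := hDA hx
      · rcases hcon' x hx ⟨hx2, hx1⟩ with rfl | rfl <;> simp
      · have h6 := hinvSO x hx hx2
        rcases hcon' _ (D.mul_mem (D.inv_mem hwD) hx) h6 with h7 | h7
        · have : x = w := by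
            rw [inv_mul_eq_one] at h7
            exact h7.symm
          rw [this]
          simp
        · have : x = w * zP F := by
            rw [inv_mul_eq_iff_eq_mul] at h7
            exact h7
          rw [this]
          simp
    have h5 : Nat.card D ≤ 4 := by
      have h6 := Set.ncard_le_ncard hsub (Finset.finite_toSet _)
      rw [Set.ncard_coe_finset] at h6
      rw [← SetLike.coe_sort_coe, Nat.card_coe_set_eq]
      exact h6.trans Finset.card_le_four
    have h6 : 2 ^ 3 ≤ 2 ^ e0 (Fintype.card F) := Nat.pow_le_pow_right (by norm_num) (e0_ge_three hodd hq1)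
    rw [hcD] at h5
    omega
  obtain ⟨t, htD, htS, ht1, htz⟩ := hex
  have hz : zP F ∈ ⁅D, D⁆ := by
    obtain ⟨f, hf⟩ := hDp t htD
    obtain _ | _ | f' := f
    · exfalso
      rw [pow_zero, orderOf_eq_one_iff] at hf
      exact ht1 hf
    · exfalso
      have h3 : t * t = 1 := by
        rw [← _root_.sq]
        have := pow_orderOf_eq_one t
        rwa [hf] at this
      rcases SOP_invol h2 htS h3 with h4 | h4
      · exact ht1 h4
      · exact htz h4
    · have h3 : (t ^ 2 ^ (f' + 1)) * (t ^ 2 ^ (f' + 1)) = 1 := by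
        rw [← pow_add]
        have := pow_orderOf_eq_one t
        rw [hf] at this
        rw [← this]
        congr 1
        ring
      have h4 : t ^ 2 ^ (f' + 1) ≠ 1 := by
        intro h5
        have h6 := orderOf_dvd_of_pow_eq_one h5
        rw [hf] at h6
        have h7 := Nat.le_of_dvd (by positivity) h6
        have h8 := Nat.pow_lt_pow_right (a := 2) (by norm_num) (show f' + 1 < f' + 1 + 1 by omega)
        omega
      have h5 : t ^ 2 ^ (f' + 1) ∈ SOP F := Subgroup.pow_mem _ htS _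
      have h6 : t ^ 2 ^ (f' + 1) = zP F := (SOP_invol h2 h5 h3).resolve_left h4
      rw [← h6]
      have h7 : t ^ 2 ^ (f' + 1) = (t * t) ^ 2 ^ f' := by
        rw [← _root_.sq, ← pow_mul, pow_succ']
      rw [h7]
      exact Subgroup.pow_mem _ (hSOsq t htD htS) _
  refine ⟨D, fun x hx => (hDA hx).1, hcD, ?_⟩
  intro x hx
  obtain ⟨hx1, hx2 | hx2⟩ := hDA hx
  · exact hSOsq x hx ⟨hx2, hx1⟩
  · have h6 := hinvSO x hx hx2
    have e : x * x = zP F := by
      set u := w⁻¹ * x with hu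
      have hxu : x = w * u := by rw [hu]; group
      have h7 : w * u * w⁻¹ = u⁻¹ := wP_conj h2 c d h h6
      have h8 : w * u = u⁻¹ * w := by
        rw [← h7]
        group
      rw [hxu, h8]
      have h9 : u⁻¹ * w * (u⁻¹ * w) = (u⁻¹ * (w * u⁻¹ * w⁻¹)) * (w * w) := by group
      have h10 : w * u⁻¹ * w⁻¹ = u := by
        have : w * u⁻¹ * w⁻¹ = (w * u * w⁻¹)⁻¹ := by group
        rw [this, h7, inv_inv]
      rw [h9, h10, hw, wP_sq]
      simp
    rw [e]
    exact hz

/-- The `2`-part of the order of `SL₂(q)`. -/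
theorem val_card_SLW [Fintype F] (hodd : Odd (Fintype.card F)) :
    padicValNat 2 (Nat.card ↥(SLV F (F × F))) = e0 (Fintype.card F) := by
  have hq1 : 1 < Fintype.card F := Fintype.one_lt_card
  rw [← Nat.card_congr (slEquiv (F := F) (V := F × F) (n := 2) (by simp)).toEquiv, Cfsg.Agent.Lib.ClassicalSmall.card_SL2,
    padicValNat.mul (by positivity) (by omega), padicValNat.mul (by omega) (by omega)]
  have : padicValNat 2 (Fintype.card F) = 0 := by
    apply padicValNat.eq_zero_of_not_dvd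
    obtain ⟨t, ht⟩ := hodd
    omega
  unfold e0
  omega

/-- All Sylow subgroups of `SL₂(q)` have elementary abelian abelianization. -/
theorem good_SLW [Fintype F] (hodd : Odd (Fintype.card F)) (P : Sylow 2 ↥(SLV F (F × F))) :
    GoodSub (P : Subgroup ↥(SLV F (F × F))) := by
  haveI : Finite ((F × F) ≃ₗ[F] (F × F)) := finite_aut
  obtain ⟨D, hD, hcD, hgD⟩ := exists_good_plane hodd
  have hcP : Nat.card ↥(D.subgroupOf (SLV F (F × F))) = 2 ^ (Nat.card ↥(SLV F (F × F))).factorization 2 := by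
    rw [Nat.card_congr (Subgroup.subgroupOfEquivOfLe hD).toEquiv, hcD, Nat.factorization_def _ Nat.prime_two,
      val_card_SLW hodd]
  refine GoodSub.sylow_all (Sylow.ofCard _ hcP) ?_ P
  refine GoodSub.of_map (SLV F (F × F)).subtype (Subgroup.subtype_injective _) ?_
  show GoodSub ((D.subgroupOf (SLV F (F × F))).map (SLV F (F × F)).subtype)
  rw [Subgroup.map_subgroupOf_eq_of_le hD]
  exact hgD

end planeSL

section numeric2

variable {q : ℕ}

theorem val_odd_pow (hq : Odd q) (hq1 : 1 < q) (t : ℕ) : padicValNat 2 (q ^ (2 * t + 1) - 1) = padicValNat 2 (q - 1) := by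
  obtain ⟨u, rfl⟩ : ∃ u, q = u + 1 := ⟨q - 1, by omega⟩
  have hu : Even u := by
    rw [Nat.odd_add_one] at hq
    simpa using hq
  have key : ∀ t, ∃ G, Odd G ∧ (u + 1) ^ (2 * t + 1) = 1 + u * G := by
    intro t
    induction t with
    | zero => exact ⟨1, odd_one, by ring⟩
    | succ t ih =>
      obtain ⟨G, hG, h⟩ := ih
      refine ⟨(u + 2) + (u + 1) ^ 2 * G, ?_, ?_⟩
      · have h1 : Even (u + 2) := by
          simpa [Nat.even_add] using hu
        have h2 : Odd ((u + 1) ^ 2 * G) := (Odd.pow hq).mul hG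
        exact h1.add_odd h2
      · have : (u + 1) ^ (2 * (t + 1) + 1) = (u + 1) ^ 2 * (u + 1) ^ (2 * t + 1) := by ring
        rw [this, h]
        ring
  obtain ⟨G, hG, h⟩ := key t
  have hu0 : u ≠ 0 := by omega
  have e : (u + 1) ^ (2 * t + 1) - 1 = u * G := by omega
  have hG0 : G ≠ 0 := by
    obtain ⟨s, rfl⟩ := hG
    omega
  rw [e, padicValNat.mul hu0 hG0, Nat.add_sub_cancel]
  have : padicValNat 2 G = 0 := by
    apply padicValNat.eq_zero_of_not_dvd
    obtain ⟨s, rfl⟩ := hG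
    omega
  omega

theorem val_prod_range (f : ℕ → ℕ) (n : ℕ) (hf : ∀ i < n, f i ≠ 0) :
    padicValNat 2 (∏ i ∈ Finset.range n, f i) = ∑ i ∈ Finset.range n, padicValNat 2 (f i) := by
  induction n with
  | zero => simp
  | succ n ih =>
    rw [Finset.prod_range_succ, Finset.sum_range_succ, padicValNat.mul, ih fun i hi => hf i (by omega)]
    · exact Finset.prod_ne_zero_iff.2 fun i hi => hf i (by simpa using (Finset.mem_range.1 hi).trans (Nat.lt_succ_self n))
    · exact hf n (by omega)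

theorem val_prod_GL (hq : Odd q) (hq1 : 1 < q) (n : ℕ) :
    padicValNat 2 (∏ i : Fin n, (q ^ n - q ^ (i : ℕ))) = ∑ j ∈ Finset.range n, padicValNat 2 (q ^ (j + 1) - 1) := by
  rw [Fin.prod_univ_eq_prod_range (fun i => q ^ n - q ^ i) n]
  have hq0 : q ≠ 0 := by omega
  have hv : ∀ i, padicValNat 2 (q ^ i) = 0 := by
    intro i
    apply padicValNat.eq_zero_of_not_dvd
    intro h
    have := Nat.Prime.dvd_of_dvd_pow Nat.prime_two h
    obtain ⟨t, rfl⟩ := hq
    omega
  have he : ∀ i < n, q ^ n - q ^ i = q ^ i * (q ^ (n - i) - 1) := by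
    intro i hi
    rw [Nat.mul_sub, mul_one, ← pow_add]
    congr 2
    omega
  have hne : ∀ i < n, q ^ n - q ^ i ≠ 0 := by
    intro i hi
    rw [he i hi]
    exact mul_ne_zero (pow_ne_zero _ hq0) (pow_sub_one_ne_zero hq1 (by omega))
  rw [val_prod_range _ n hne, ← Finset.sum_range_reflect]
  refine Finset.sum_congr rfl fun i hi => ?_
  have hi' := Finset.mem_range.1 hi
  rw [he (n - 1 - i) (by omega), padicValNat.mul (pow_ne_zero _ hq0) (pow_sub_one_ne_zero hq1 (by omega)), hv, zero_add,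
    show n - (n - 1 - i) = i + 1 by omega]

theorem sum_val_even (hq : Odd q) (hq1 : 1 < q) (k : ℕ) :
    ∑ j ∈ Finset.range (2 * k), padicValNat 2 (q ^ (j + 1) - 1) =
      k * (e0 q + padicValNat 2 (q - 1)) + padicValNat 2 k.factorial := by
  induction k with
  | zero => simp
  | succ k ih =>
    rw [show 2 * (k + 1) = 2 * k + 1 + 1 by ring, Finset.sum_range_succ, Finset.sum_range_succ, ih,
      val_odd_pow hq hq1, show 2 * k + 1 + 1 = 2 * (k + 1) by ring, val_pow_two_mul hq hq1 (by omega),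
      Nat.factorial_succ, padicValNat.mul (by omega) (Nat.factorial_ne_zero k)]
    ring

theorem sum_val_odd (hq : Odd q) (hq1 : 1 < q) (k : ℕ) :
    ∑ j ∈ Finset.range (2 * k + 1), padicValNat 2 (q ^ (j + 1) - 1) =
      k * (e0 q + padicValNat 2 (q - 1)) + padicValNat 2 (q - 1) + padicValNat 2 k.factorial := by
  rw [Finset.sum_range_succ, sum_val_even hq hq1, val_odd_pow hq hq1]
  ring

end numeric2

section autCard

variable {F V : Type*} [Field F] [Fintype F] [AddCommGroup V] [Module F V] [FiniteDimensional F V]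

theorem card_aut {n : ℕ} (h : Module.finrank F V = n) :
    Nat.card (V ≃ₗ[F] V) = ∏ i : Fin n, (Fintype.card F ^ n - Fintype.card F ^ (i : ℕ)) := by
  rw [← Matrix.card_GL_field n]
  let φ : (Fin n → F) ≃ₗ[F] V := LinearEquiv.ofFinrankEq _ _ (by simpa using h.symm)
  exact Nat.card_congr ((Cfsg.Agent.Lib.OrthMatrix.glEquiv.trans (autC φ)).toEquiv.symm)

theorem val_card_aut (hodd : Odd (Fintype.card F)) {n : ℕ} (h : Module.finrank F V = n) :
    padicValNat 2 (Nat.card (V ≃ₗ[F] V)) = ∑ j ∈ Finset.range n, padicValNat 2 (Fintype.card F ^ (j + 1) - 1) := by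
  rw [card_aut h, val_prod_GL hodd Fintype.one_lt_card]

theorem val_card_autW (hodd : Odd (Fintype.card F)) :
    padicValNat 2 (Nat.card ((F × F) ≃ₗ[F] (F × F))) = e0 (Fintype.card F) + padicValNat 2 (Fintype.card F - 1) := by
  have h := val_card_aut (F := F) (V := F × F) hodd (n := 2 * 1) (by simp)
  rw [h, sum_val_even hodd Fintype.one_lt_card]
  simp

/-- The finite field has `q ≠ 1`. -/
theorem finrank_model (k l : ℕ) : Module.finrank F ((Fin k → F × F) × (Fin l → F)) = 2 * k + l := by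
  simp [Module.finrank_prod, Module.finrank_pi_fintype]
  ring

end autCard

section detWr

variable {F W U : Type*} [Field F] [AddCommGroup W] [Module F W] [AddCommGroup U] [Module F U]
  [FiniteDimensional F W] [FiniteDimensional F U] {k : ℕ}

theorem det_wrBase (g : Fin k → (W ≃ₗ[F] W)) (h : U ≃ₗ[F] U) :
    LinearMap.det ((wrBase g h : ((Fin k → W) × U) ≃ₗ[F] ((Fin k → W) × U)) : ((Fin k → W) × U) →ₗ[F] ((Fin k → W) × U)) =
      (∏ j, LinearMap.det (g j : W →ₗ[F] W)) * LinearMap.det (h : U →ₗ[F] U) := by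
  have e : ((wrBase g h : ((Fin k → W) × U) ≃ₗ[F] ((Fin k → W) × U)) : ((Fin k → W) × U) →ₗ[F] ((Fin k → W) × U)) =
      LinearMap.prodMap (LinearMap.pi fun j => (g j : W →ₗ[F] W).comp (LinearMap.proj j)) (h : U →ₗ[F] U) := by
    ext x <;> rfl
  rw [e, LinearMap.det_prodMap, LinearMap.det_pi]

theorem det_tp (i j : Fin k) (hij : i ≠ j) (a b : W ≃ₗ[F] W) :
    (∏ l, LinearMap.det (tp i j a b l : W →ₗ[F] W)) = LinearMap.det (a : W →ₗ[F] W) * LinearMap.det (b : W →ₗ[F] W) := by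
  classical
  have h1 : ∀ l ∉ ({i, j} : Finset (Fin k)), LinearMap.det (tp i j a b l : W →ₗ[F] W) = 1 := by
    intro l hl
    simp only [Finset.mem_insert, Finset.mem_singleton, not_or] at hl
    rw [tp_other hl.1 hl.2]
    exact LinearMap.det_id
  rw [← Finset.prod_subset (Finset.subset_univ _) (fun l _ hl => h1 l hl), Finset.prod_pair hij, tp_left, tp_right hij]

theorem det_tp_self (j : Fin k) (a b : W ≃ₗ[F] W) :
    (∏ l, LinearMap.det (tp j j a b l : W →ₗ[F] W)) = LinearMap.det (a : W →ₗ[F] W) := by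
  classical
  have h1 : ∀ l ∉ ({j} : Finset (Fin k)), LinearMap.det (tp j j a b l : W →ₗ[F] W) = 1 := by
    intro l hl
    simp only [Finset.mem_singleton] at hl
    rw [tp_other hl hl]
    exact LinearMap.det_id
  rw [← Finset.prod_subset (Finset.subset_univ _) (fun l _ hl => h1 l hl), Finset.prod_singleton, tp_left]

theorem det_one' {V : Type*} [AddCommGroup V] [Module F V] : LinearMap.det ((1 : V ≃ₗ[F] V) : V →ₗ[F] V) = 1 :=
  LinearMap.det_id

end detWr

section detPerm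

variable {F U : Type*} [Field F] [AddCommGroup U] [Module F U] {k : ℕ}

/-- Swap the first coordinates according to an involution. -/
def fstSwap (σ : Perm (Fin k)) (hσ : ∀ l, σ (σ l) = l) : ((Fin k → F × F) × U) ≃ₗ[F] ((Fin k → F × F) × U) where
  toFun x := (fun l => ((x.1 (σ l)).1, (x.1 l).2), x.2)
  invFun x := (fun l => ((x.1 (σ l)).1, (x.1 l).2), x.2)
  map_add' x y := rfl
  map_smul' a x := rfl
  left_inv x := by
    ext l <;> simp [hσ]
  right_inv x := by
    ext l <;> simp [hσ]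

/-- Swap the second coordinates according to an involution. -/
def sndSwap (σ : Perm (Fin k)) (hσ : ∀ l, σ (σ l) = l) : ((Fin k → F × F) × U) ≃ₗ[F] ((Fin k → F × F) × U) where
  toFun x := (fun l => ((x.1 l).1, (x.1 (σ l)).2), x.2)
  invFun x := (fun l => ((x.1 l).1, (x.1 (σ l)).2), x.2)
  map_add' x y := rfl
  map_smul' a x := rfl
  left_inv x := by
    ext l <;> simp [hσ]
  right_inv x := by
    ext l <;> simp [hσ]

theorem wrPerm_invol_mem (σ : Perm (Fin k)) (hσ : ∀ l, σ (σ l) = l) :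
    (wrPerm σ : ((Fin k → F × F) × U) ≃ₗ[F] ((Fin k → F × F) × U)) ∈ SLV F ((Fin k → F × F) × U) := by
  classical
  have hinv : ∀ l, σ⁻¹ l = σ l := by
    intro l
    rw [Perm.inv_eq_iff_eq]
    exact (hσ l).symm
  have e1 : (wrPerm σ : ((Fin k → F × F) × U) ≃ₗ[F] ((Fin k → F × F) × U)) = fstSwap σ hσ * sndSwap σ hσ := by
    apply LinearEquiv.ext
    rintro ⟨v, u⟩
    refine Prod.ext (funext fun l => ?_) rfl
    show v (σ⁻¹ l) = _
    rw [hinv]
    rfl
  let c : (F × F) ≃ₗ[F] (F × F) := LinearEquiv.prodComm F F F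
  let κ : ((Fin k → F × F) × U) ≃ₗ[F] ((Fin k → F × F) × U) := wrBase (fun _ => c) 1
  have hκ : κ * κ = 1 := by
    apply LinearEquiv.ext
    rintro ⟨v, u⟩
    rfl
  have e2 : (sndSwap σ hσ : ((Fin k → F × F) × U) ≃ₗ[F] ((Fin k → F × F) × U)) = κ * fstSwap σ hσ * κ⁻¹ := by
    have hκinv : κ⁻¹ = κ := by rw [inv_eq_iff_mul_eq_one]; exact hκ
    rw [hκinv]
    apply LinearEquiv.ext
    rintro ⟨v, u⟩
    rfl
  have e3 : (fstSwap σ hσ : ((Fin k → F × F) × U) ≃ₗ[F] ((Fin k → F × F) × U)) * fstSwap σ hσ = 1 := by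
    apply LinearEquiv.ext
    rintro ⟨v, u⟩
    refine Prod.ext (funext fun l => ?_) rfl
    show ((v (σ (σ l))).1, _) = _
    rw [hσ]
    rfl
  unfold SLV
  rw [MonoidHom.mem_ker, e1, map_mul, e2, map_mul, map_mul, map_inv, mul_comm (LinearEquiv.det κ), mul_inv_cancel_right, ← map_mul, e3, map_one]

theorem wrPerm_mem_SLV (τ : Perm (Fin k)) :
    (wrPerm τ : ((Fin k → F × F) × U) ≃ₗ[F] ((Fin k → F × F) × U)) ∈ SLV F ((Fin k → F × F) × U) := by
  classical
  induction τ using Equiv.Perm.swap_induction_on with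
  | one =>
    rw [wrPerm_one]
    exact Subgroup.one_mem _
  | swap_mul f i j hij IH =>
    rw [wrPerm_mul]
    exact Subgroup.mul_mem _ (wrPerm_invol_mem _ (fun l => by simp)) IH

end detPerm

section finalSL

variable {F : Type*} [Field F] [Fintype F]

theorem good_sylow_perm {k : ℕ} (T : Sylow 2 (Perm (Fin k))) : GoodSub (T : Subgroup (Perm (Fin k))) := by
  intro τ hτ
  have h1 := (Cfsg.Agent.Lib.SymSylowGen.sylow_perm 2 k T).pow_mem ⟨τ, hτ⟩
  rw [← Subgroup.map_subtype_commutator]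
  exact ⟨_, h1, by simp [_root_.sq]⟩

theorem card_T {k : ℕ} (T : Sylow 2 (Perm (Fin k))) :
    Nat.card (T : Subgroup (Perm (Fin k))) = 2 ^ padicValNat 2 k.factorial := by
  rw [T.card_eq_multiplicity, Nat.card_perm, Nat.factorization_def _ Nat.prime_two]
  simp

theorem card_H_W (hodd : Odd (Fintype.card F)) [Finite ((F × F) ≃ₗ[F] (F × F))] (H : Sylow 2 ((F × F) ≃ₗ[F] (F × F))) :
    Nat.card (H : Subgroup ((F × F) ≃ₗ[F] (F × F))) = 2 ^ (e0 (Fintype.card F) + padicValNat 2 (Fintype.card F - 1)) := by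
  rw [H.card_eq_multiplicity, Nat.factorization_def _ Nat.prime_two, val_card_autW hodd]

/-- The wreath product is a Sylow subgroup. -/
theorem card_PP_model (hodd : Odd (Fintype.card F)) {k l : ℕ} (hl : l ≤ 1)
    [Finite ((F × F) ≃ₗ[F] (F × F))] [Finite ((Fin l → F) ≃ₗ[F] (Fin l → F))]
    (H : Sylow 2 ((F × F) ≃ₗ[F] (F × F))) (E : Subgroup ((Fin l → F) ≃ₗ[F] (Fin l → F)))
    (hE : Nat.card E = 2 ^ (l * padicValNat 2 (Fintype.card F - 1))) (T : Sylow 2 (Perm (Fin k))) :
    Nat.card (PP (H : Subgroup ((F × F) ≃ₗ[F] (F × F))) E (T : Subgroup (Perm (Fin k)))) =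
      2 ^ (Nat.card (((Fin k → F × F) × (Fin l → F)) ≃ₗ[F] ((Fin k → F × F) × (Fin l → F)))).factorization 2 := by
  have hv : padicValNat 2 (Nat.card (((Fin k → F × F) × (Fin l → F)) ≃ₗ[F] ((Fin k → F × F) × (Fin l → F)))) =
      k * (e0 (Fintype.card F) + padicValNat 2 (Fintype.card F - 1)) + l * padicValNat 2 (Fintype.card F - 1) +
        padicValNat 2 k.factorial := by
    rw [val_card_aut hodd (finrank_model (F := F) k l)]
    obtain rfl | rfl : l = 0 ∨ l = 1 := by omega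
    · rw [add_zero, sum_val_even hodd Fintype.one_lt_card]
      ring
    · rw [sum_val_odd hodd Fintype.one_lt_card]
      ring
  rw [card_PP, card_H_W hodd, hE, card_T, Nat.factorization_def _ Nat.prime_two, hv, ← pow_mul, ← pow_add, ← pow_add]
  congr 1
  ring

theorem mem_SLV_onePt {k : ℕ} {U : Type*} [AddCommGroup U] [Module F U] [FiniteDimensional F U] (j : Fin k)
    {c : (F × F) ≃ₗ[F] (F × F)} (hc : c ∈ SLV F (F × F)) :
    (onePt j c : ((Fin k → F × F) × U) ≃ₗ[F] ((Fin k → F × F) × U)) ∈ SLV F ((Fin k → F × F) × U) := by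
  rw [mem_SLV_iff, onePt_apply, det_wrBase, det_tp_self, mem_SLV_iff.1 hc, det_one', mul_one]

theorem mem_SLV_two {k : ℕ} {U : Type*} [AddCommGroup U] [Module F U] [FiniteDimensional F U] {i j : Fin k} (hij : i ≠ j)
    {a b : (F × F) ≃ₗ[F] (F × F)} (h : LinearMap.det (a : (F × F) →ₗ[F] (F × F)) * LinearMap.det (b : (F × F) →ₗ[F] (F × F)) = 1) :
    wrBase (tp i j a b) (1 : U ≃ₗ[F] U) ∈ SLV F ((Fin k → F × F) × U) := by
  rw [mem_SLV_iff, det_wrBase, det_tp i j hij, h, det_one', mul_one]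

theorem final_SL3 (hodd : Odd (Fintype.card F)) (hq3 : Fintype.card F % 4 = 3) {k l n : ℕ} (hk : 1 ≤ k) (hl : l ≤ 1)
    (hn : 2 * k + l = n) (P : Sylow 2 (Matrix.SpecialLinearGroup (Fin n) F)) :
    GoodSub (P : Subgroup (Matrix.SpecialLinearGroup (Fin n) F)) := by
  classical
  have h2 : (2 : F) ≠ 0 := Cfsg.Agent.Lib.OrthNeg.two_ne_zero_of_odd rfl hodd
  have hq1 : 1 < Fintype.card F := Fintype.one_lt_card
  haveI : Finite (((Fin k → F × F) × (Fin l → F)) ≃ₗ[F] ((Fin k → F × F) × (Fin l → F))) := finite_aut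
  haveI : Finite ((F × F) ≃ₗ[F] (F × F)) := finite_aut
  haveI : Finite ((Fin l → F) ≃ₗ[F] (Fin l → F)) := finite_aut
  have hzp : IsPGroup 2 (Subgroup.zpowers (rhoP F)) := by
    rintro ⟨_, n, rfl⟩
    refine ⟨1, ?_⟩
    apply Subtype.ext
    show (rhoP F ^ n) ^ 2 ^ 1 = 1
    rw [pow_one, ← zpow_natCast, ← zpow_mul, mul_comm, zpow_mul, zpow_natCast, _root_.sq, rhoP_sq, one_zpow]
  obtain ⟨H, hH⟩ := hzp.exists_le_sylow
  have hρ : rhoP F ∈ (H : Subgroup ((F × F) ≃ₗ[F] (F × F))) := hH (Subgroup.mem_zpowers _)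
  have hQ := good_inf (SLV F (F × F)) H (good_SLW hodd)
  have hd : ∀ d ∈ (H : Subgroup ((F × F) ≃ₗ[F] (F × F))),
      d ∈ (H : Subgroup ((F × F) ≃ₗ[F] (F × F))) ⊓ SLV F (F × F) ∨ rhoP F * d ∈ (H : Subgroup ((F × F) ≃ₗ[F] (F × F))) ⊓ SLV F (F × F) := by
    intro d hdH
    obtain ⟨f, hf⟩ := IsPGroup.iff_orderOf.1 H.isPGroup' ⟨d, hdH⟩
    have hf' : d ^ 2 ^ f = 1 := by
      have h1 := pow_orderOf_eq_one (⟨d, hdH⟩ : (H : Subgroup ((F × F) ≃ₗ[F] (F × F))))
      rw [hf] at h1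
      exact congrArg Subtype.val h1
    set u : Fˣ := LinearEquiv.det d with hu
    have h3 : u ^ 2 ^ f = 1 := by
      rw [hu, ← map_pow, hf', map_one]
    have h4 : u ^ (Fintype.card F - 1) = 1 := by
      rw [← Fintype.card_units]
      exact pow_card_eq_one
    obtain ⟨t, ht⟩ : ∃ t, Fintype.card F - 1 = 2 * (2 * t + 1) := ⟨Fintype.card F / 4, by omega⟩
    have h5 : orderOf u ∣ 2 := by
      have h6 : orderOf u ∣ 2 * (2 * t + 1) := by
        rw [← ht]
        exact orderOf_dvd_of_pow_eq_one h4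
      have h7 : orderOf u ∣ 2 ^ f := orderOf_dvd_of_pow_eq_one h3
      have h8 : Nat.Coprime (orderOf u) (2 * t + 1) := by
        refine Nat.Coprime.coprime_dvd_left h7 ?_
        apply Nat.Coprime.pow_left
        rw [Nat.coprime_two_left]
        exact odd_two_mul_add_one t
      exact h8.dvd_of_dvd_mul_right h6
    have h9 : u * u = 1 := by
      rw [← _root_.sq]
      exact orderOf_dvd_iff_pow_eq_one.1 h5
    have h10 : ((u : F)) * u = 1 := by
      have := congrArg (Units.val) h9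
      simpa using this
    have h11 : (u : F) = LinearMap.det (d : (F × F) →ₗ[F] (F × F)) := LinearEquiv.coe_det d
    rw [h11] at h10
    rcases mul_self_eq_one_iff.1 h10 with h12 | h12
    · exact Or.inl ⟨hdH, mem_SLV_iff.2 h12⟩
    · refine Or.inr ⟨Subgroup.mul_mem _ hρ hdH, mem_SLV_iff.2 ?_⟩
      rw [det_mul', rhoP_det, h12]
      ring
  let T : Sylow 2 (Perm (Fin k)) := default
  have hgood : GoodSub (PP (H : Subgroup ((F × F) ≃ₗ[F] (F × F))) (HH F l) (T : Subgroup (Perm (Fin k))) ⊓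
      SLV F ((Fin k → F × F) × (Fin l → F))) :=
    good_wreathA hk (good_sylow_perm T) (fun τ _ => wrPerm_mem_SLV τ) hQ inf_le_left hρ rhoP_sq hd
      (fun h hh => HH_sq hh) (fun j c hc => mem_SLV_onePt j hc.2)
      (fun i j hij => mem_SLV_two hij (by rw [rhoP_det]; ring))
  have hE : Nat.card (HH F l) = 2 ^ (l * padicValNat 2 (Fintype.card F - 1)) := by
    have : padicValNat 2 (Fintype.card F - 1) = 1 := val_of_mod4 (by omega)
    rw [this, mul_one, card_HH h2]
  let P₁ : Sylow 2 (((Fin k → F × F) × (Fin l → F)) ≃ₗ[F] ((Fin k → F × F) × (Fin l → F))) :=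
    Sylow.ofCard _ (card_PP_model hodd hl H (HH F l) hE T)
  have hgood2 := good_normal (SLV F ((Fin k → F × F) × (Fin l → F))) P₁ hgood
  exact GoodSub.sylow_equiv (slEquiv ((finrank_model (F := F) k l).trans hn)) hgood2 P

theorem final_SL1 (hodd : Odd (Fintype.card F)) {j k n : ℕ} (hj : k = 2 ^ j) (hn : 2 * k + 0 = n)
    (P : Sylow 2 (Matrix.SpecialLinearGroup (Fin n) F)) :
    GoodSub (P : Subgroup (Matrix.SpecialLinearGroup (Fin n) F)) := by
  classical
  subst hj
  have hk : 0 < 2 ^ j := by positivity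
  set k := 2 ^ j with hkdef
  have h2 : (2 : F) ≠ 0 := Cfsg.Agent.Lib.OrthNeg.two_ne_zero_of_odd rfl hodd
  haveI : Finite (((Fin k → F × F) × (Fin 0 → F)) ≃ₗ[F] ((Fin k → F × F) × (Fin 0 → F))) := finite_aut
  haveI : Finite ((F × F) ≃ₗ[F] (F × F)) := finite_aut
  haveI : Finite ((Fin 0 → F) ≃ₗ[F] (Fin 0 → F)) := finite_aut
  let H : Sylow 2 ((F × F) ≃ₗ[F] (F × F)) := default
  have hQ := good_inf (SLV F (F × F)) H (good_SLW hodd)
  obtain ⟨T, hT⟩ := exists_sylow_swap j
  have hgood : GoodSub (PP (H : Subgroup ((F × F) ≃ₗ[F] (F × F))) (⊥ : Subgroup ((Fin 0 → F) ≃ₗ[F] (Fin 0 → F))) (T : Subgroup (Perm (Fin k))) ⊓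
      SLV F ((Fin k → F × F) × (Fin 0 → F))) := by
    refine good_wreathB hk (good_sylow_perm T) (fun τ _ => wrPerm_mem_SLV τ) hQ inf_le_left
      (fun j c hc => mem_SLV_onePt j hc.2) hT ?_ ?_
    · intro i j hij d hd
      refine mem_SLV_two hij ?_
      rw [← det_mul', mul_inv_cancel]
      exact det_one'
    · intro i d hd h hh hy
      rw [Subgroup.mem_bot] at hh
      subst hh
      refine ⟨⟨hd, ?_⟩, rfl⟩
      rw [mem_SLV_iff, det_wrBase, det_tp_self, det_one', mul_one] at hy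
      exact mem_SLV_iff.2 hy
  have hE : Nat.card (⊥ : Subgroup ((Fin 0 → F) ≃ₗ[F] (Fin 0 → F))) = 2 ^ (0 * padicValNat 2 (Fintype.card F - 1)) := by
    simp
  let P₁ : Sylow 2 (((Fin k → F × F) × (Fin 0 → F)) ≃ₗ[F] ((Fin k → F × F) × (Fin 0 → F))) :=
    Sylow.ofCard _ (card_PP_model hodd (by norm_num) H ⊥ hE T)
  have hgood2 := good_normal (SLV F ((Fin k → F × F) × (Fin 0 → F))) P₁ hgood
  exact GoodSub.sylow_equiv (slEquiv ((finrank_model (F := F) k 0).trans hn)) hgood2 P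

end finalSL

section symplectic

open Matrix

variable {F : Type*} [Field F]

/-- The area form on the plane. -/
def omW (x y : F × F) : F := x.2 * y.1 - x.1 * y.2

theorem omW_SL {d : (F × F) ≃ₗ[F] (F × F)} (hd : d ∈ SLV F (F × F)) (x y : F × F) : omW (d x) (d y) = omW x y := by
  have h := mem_SLV_iff.1 hd
  rw [det_plane] at h
  obtain ⟨x₁, x₂⟩ := x
  obtain ⟨y₁, y₂⟩ := y
  rw [plane_apply d x₁ x₂, plane_apply d y₁ y₂]
  simp only [omW]
  linear_combination (x₂ * y₁ - x₁ * y₂) * h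

/-- Coordinates on the model of the symplectic space. -/
def eCoord (F : Type*) [Field F] (n : ℕ) : ((Fin n → F × F) × (Fin 0 → F)) ≃ₗ[F] (Fin n ⊕ Fin n → F) where
  toFun x := Sum.elim (fun i => (x.1 i).1) (fun i => (x.1 i).2)
  invFun v := (fun i => (v (Sum.inl i), v (Sum.inr i)), 0)
  map_add' x y := by
    ext s
    cases s <;> rfl
  map_smul' a x := by
    ext s
    cases s <;> rfl
  left_inv x := by
    refine Prod.ext (funext fun i => rfl) (Subsingleton.elim _ _)
  right_inv v := by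
    ext s
    cases s <;> rfl

theorem sympForm_eCoord {n : ℕ} (x y : (Fin n → F × F) × (Fin 0 → F)) :
    Cfsg.sympForm n F (eCoord F n x) (eCoord F n y) = ∑ i, omW (x.1 i) (y.1 i) := by
  rw [Cfsg.Agent.Lib.SympForm.sympForm_apply]
  rfl

variable (F) in
/-- The symplectic group of the model. -/
def SpV (n : ℕ) : Subgroup (((Fin n → F × F) × (Fin 0 → F)) ≃ₗ[F] ((Fin n → F × F) × (Fin 0 → F))) where
  carrier := {g | ∀ x y, ∑ i, omW ((g x).1 i) ((g y).1 i) = ∑ i, omW (x.1 i) (y.1 i)}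
  mul_mem' := by
    intro a b ha hb x y
    rw [LinearEquiv.mul_apply, LinearEquiv.mul_apply, ha, hb]
  one_mem' := fun x y => rfl
  inv_mem' := by
    intro a ha x y
    have e : ∀ v, a (a⁻¹ v) = v := fun v => by
      rw [← LinearEquiv.mul_apply, mul_inv_cancel]
      rfl
    have := ha (a⁻¹ x) (a⁻¹ y)
    rw [e, e] at this
    exact this.symm

theorem wrBase_mem_SpV {n : ℕ} {g : Fin n → ((F × F) ≃ₗ[F] (F × F))} (hg : ∀ j, g j ∈ SLV F (F × F)) (h : (Fin 0 → F) ≃ₗ[F] (Fin 0 → F)) :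
    wrBase g h ∈ SpV F n := by
  intro x y
  refine Finset.sum_congr rfl fun i _ => ?_
  exact omW_SL (hg i) _ _

theorem wrPerm_mem_SpV {n : ℕ} (τ : Perm (Fin n)) :
    (wrPerm τ : ((Fin n → F × F) × (Fin 0 → F)) ≃ₗ[F] ((Fin n → F × F) × (Fin 0 → F))) ∈ SpV F n := by
  intro x y
  exact Equiv.sum_comp τ⁻¹ (fun i => omW (x.1 i) (y.1 i))

/-- From the model to matrices. -/
noncomputable def psi (n : ℕ) : ↥(SpV F n) →* Matrix.symplecticGroup (Fin n) F where
  toFun g := ⟨LinearMap.toMatrix' ((autC (eCoord F n) g.1 : (Fin n ⊕ Fin n → F) ≃ₗ[F] (Fin n ⊕ Fin n → F)) : (Fin n ⊕ Fin n → F) →ₗ[F] (Fin n ⊕ Fin n → F)), by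
    rw [Cfsg.Agent.Lib.SympForm.mem_symplecticGroup_iff_preserves]
    intro x y
    rw [LinearMap.toMatrix'_mulVec, LinearMap.toMatrix'_mulVec]
    show Cfsg.sympForm n F (eCoord F n _) (eCoord F n _) = _
    rw [sympForm_eCoord]
    have h := g.2 ((eCoord F n).symm x) ((eCoord F n).symm y)
    have h2 := sympForm_eCoord ((eCoord F n).symm x) ((eCoord F n).symm y)
    rw [LinearEquiv.apply_symm_apply, LinearEquiv.apply_symm_apply] at h2
    rw [h2]
    exact h⟩
  map_one' := by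
    apply Subtype.ext
    show LinearMap.toMatrix' _ = 1
    rw [← LinearMap.toMatrix'_id]
    congr 1
    ext x s
    show eCoord F n ((eCoord F n).symm _) s = _
    rw [LinearEquiv.apply_symm_apply]
    rfl
  map_mul' a b := by
    apply Subtype.ext
    show LinearMap.toMatrix' _ = LinearMap.toMatrix' _ * LinearMap.toMatrix' _
    rw [← LinearMap.toMatrix'_mul]
    congr 1
    have := map_mul (autC (eCoord F n)) a.1 b.1
    have h2 : ((a * b : ↥(SpV F n)) : _ ≃ₗ[F] _) = a.1 * b.1 := rfl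
    rw [h2, this]
    rfl

theorem psi_injective (n : ℕ) : Function.Injective (psi (F := F) n) := by
  intro a b hab
  have h1 := congrArg Subtype.val hab
  have h2 : LinearMap.toMatrix' ((autC (eCoord F n) a.1 : (Fin n ⊕ Fin n → F) ≃ₗ[F] (Fin n ⊕ Fin n → F)) : (Fin n ⊕ Fin n → F) →ₗ[F] (Fin n ⊕ Fin n → F)) =
      LinearMap.toMatrix' ((autC (eCoord F n) b.1 : (Fin n ⊕ Fin n → F) ≃ₗ[F] (Fin n ⊕ Fin n → F)) : (Fin n ⊕ Fin n → F) →ₗ[F] (Fin n ⊕ Fin n → F)) := h1
  have h3 := LinearMap.toMatrix'.injective h2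
  have h4 := LinearEquiv.toLinearMap_injective h3
  exact Subtype.ext ((autC (eCoord F n)).injective h4)

variable [Fintype F]

theorem final_Sp (hodd : Odd (Fintype.card F)) {n : ℕ} (hn : 1 ≤ n) (P : Sylow 2 (Matrix.symplecticGroup (Fin n) F)) :
    GoodSub (P : Subgroup (Matrix.symplecticGroup (Fin n) F)) := by
  classical
  have hq1 : 1 < Fintype.card F := Fintype.one_lt_card
  haveI : Finite ((F × F) ≃ₗ[F] (F × F)) := finite_aut
  haveI : Finite ((Fin 0 → F) ≃ₗ[F] (Fin 0 → F)) := finite_aut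
  obtain ⟨D, hD, hcD, hgD⟩ := exists_good_plane hodd
  let T : Sylow 2 (Perm (Fin n)) := default
  set R := PP D (⊥ : Subgroup ((Fin 0 → F) ≃ₗ[F] (Fin 0 → F))) (T : Subgroup (Perm (Fin n))) with hR
  have hgood : GoodSub R := by
    have := good_wreathA (N := ⊤) (E := (⊥ : Subgroup ((Fin 0 → F) ≃ₗ[F] (Fin 0 → F)))) (ρ := 1) hn (good_sylow_perm T) (fun τ _ => Subgroup.mem_top _) hgD (le_refl D) D.one_mem
      (one_mul 1) (fun d hd => Or.inl hd) (fun h hh => by rw [Subgroup.mem_bot.1 hh, one_mul])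
      (fun j c hc => Subgroup.mem_top _) (fun i j hij => Subgroup.mem_top _)
    rwa [inf_top_eq] at this
  have hle : R ≤ SpV F n := by
    rintro _ ⟨g, h, τ, hg, hh, hτ, rfl⟩
    exact Subgroup.mul_mem _ (wrBase_mem_SpV (fun j => hD (hg j)) h) (wrPerm_mem_SpV τ)
  set R' : Subgroup (Matrix.symplecticGroup (Fin n) F) := (R.subgroupOf (SpV F n)).map (psi n) with hR'
  have hcR : Nat.card R' = 2 ^ (Nat.card (Matrix.symplecticGroup (Fin n) F)).factorization 2 := by
    rw [hR', Subgroup.card_map_of_injective (psi_injective n), Nat.card_congr (Subgroup.subgroupOfEquivOfLe hle).toEquiv,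
      hR, card_PP, hcD, Subgroup.card_bot, card_T, Nat.factorization_def _ Nat.prime_two,
      Cfsg.Agent.Lib.SpOrder.card_Sp]
    have hv : padicValNat 2 (Fintype.card F ^ n ^ 2) = 0 := by
      apply padicValNat.eq_zero_of_not_dvd
      intro h
      have := Nat.Prime.dvd_of_dvd_pow Nat.prime_two h
      obtain ⟨t, ht⟩ := hodd
      omega
    have hne : (∏ i ∈ Finset.range n, (Fintype.card F ^ (2 * (i + 1)) - 1)) ≠ 0 :=
      Finset.prod_ne_zero_iff.2 fun i _ => pow_sub_one_ne_zero hq1 (by omega)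
    rw [padicValNat.mul (by positivity) hne, hv, val_prod hodd hq1, zero_add, mul_one, pow_add, ← pow_mul, mul_comm n]
  have hgR : GoodSub R' := by
    rw [hR']
    refine GoodSub.map _ (GoodSub.of_map (SpV F n).subtype (Subgroup.subtype_injective _) ?_)
    rw [Subgroup.map_subgroupOf_eq_of_le hle]
    exact hgood
  refine GoodSub.sylow_all (Sylow.ofCard _ hcR) ?_ P
  exact hgR

end symplectic

end Cfsg.Agent.Lib.GLSyl99
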