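import Mathlib
import Cfsg.Prelude.Def_G2
import Cfsg.Agent.Lib.ZornAlg
import Cfsg.Agent.Lib.GLSyl99

/-!
# Sylow `2`-subgroups of `G₂(q)`, `q` odd

The split octonions as the Cayley-Dickson double of `M₂(F)`, the centralizer of the central involution,
and the model of the Sylow subgroup.
-/

set_option autoImplicit false
set_option linter.unusedSectionVars false
set_option linter.unusedVariables false
set_option linter.unusedSimpArgs false

namespace Cfsg.Agent.Lib.G2Syl99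

open Matrix Cfsg.Lie Cfsg.Agent.Lib.ZornAlg Cfsg.Agent.Lib.OmSyl99 Cfsg.Agent.Lib.GLSyl99
open scoped commutatorElement MatrixGroups

section algebra

variable {F : Type*} [Field F]

/-- `2 × 2` matrices. -/
abbrev M2 (F : Type*) [Field F] := Matrix (Fin 2) (Fin 2) F

/-- The double. -/
abbrev OO (F : Type*) [Field F] := M2 F × M2 F

/-- The Cayley-Dickson product. -/
def cd (x y : OO F) : OO F := (x.1 * y.1 - adjugate y.2 * x.2, y.2 * x.1 + x.2 * adjugate y.1)

theorem cd_apply (x y : OO F) : cd x y = (x.1 * y.1 - adjugate y.2 * x.2, y.2 * x.1 + x.2 * adjugate y.1) := rfl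

/-- Coordinates. -/
def eZ (F : Type*) [Field F] : (Fin 8 → F) ≃ₗ[F] OO F where
  toFun x := (!![x 0, x 1; x 4, x 7], !![x 2, x 6; x 3, -x 5])
  invFun p := ![p.1 0 0, p.1 0 1, p.2 0 0, p.2 1 0, p.1 1 0, -p.2 1 1, p.2 0 1, p.1 1 1]
  map_add' x y := by
    refine Prod.ext ?_ ?_ <;> ext i j <;> fin_cases i <;> fin_cases j <;> simp <;> ring
  map_smul' c x := by
    refine Prod.ext ?_ ?_ <;> ext i j <;> fin_cases i <;> fin_cases j <;> simp
  left_inv x := by
    apply ext8 <;> simp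
  right_inv p := by
    obtain ⟨X, Y⟩ := p
    refine Prod.ext ?_ ?_ <;> ext i j <;> fin_cases i <;> fin_cases j <;> simp

theorem eZ_mul (x y : Fin 8 → F) : eZ F (zornMul x y) = cd (eZ F x) (eZ F y) := by
  show ((!![zornMul x y 0, zornMul x y 1; zornMul x y 4, zornMul x y 7], !![zornMul x y 2, zornMul x y 6; zornMul x y 3, -zornMul x y 5]) : OO F) =
    cd (!![x 0, x 1; x 4, x 7], !![x 2, x 6; x 3, -x 5]) (!![y 0, y 1; y 4, y 7], !![y 2, y 6; y 3, -y 5])
  rw [cd_apply]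
  refine Prod.ext ?_ ?_ <;> ext i j <;> fin_cases i <;> fin_cases j <;>
    simp [Matrix.adjugate_fin_two, Matrix.mul_apply, Fin.sum_univ_two] <;> ring

/-- The automorphism group of the double. -/
def autO (F : Type*) [Field F] : Subgroup (OO F ≃ₗ[F] OO F) where
  carrier := {g | ∀ x y, g (cd x y) = cd (g x) (g y)}
  mul_mem' := by
    intro a b ha hb x y
    show a (b (cd x y)) = cd (a (b x)) (a (b y))
    rw [hb, ha]
  one_mem' := fun x y => rfl
  inv_mem' := by
    intro a ha x y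
    have e : ∀ v, a (a⁻¹ v) = v := fun v => by
      rw [← LinearEquiv.mul_apply, mul_inv_cancel]
      rfl
    have h := ha (a⁻¹ x) (a⁻¹ y)
    rw [e, e] at h
    have e2 : ∀ v, a⁻¹ (a v) = v := fun v => by
      rw [← LinearEquiv.mul_apply, inv_mul_cancel]
      rfl
    rw [← h, e2]

theorem mem_autO {g : OO F ≃ₗ[F] OO F} : g ∈ autO F ↔ ∀ x y, g (cd x y) = cd (g x) (g y) := Iff.rfl

/-- From matrices to linear automorphisms. -/
noncomputable def glToAut (F : Type*) [Field F] : GL (Fin 8) F ≃* (OO F ≃ₗ[F] OO F) :=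
  (Matrix.GeneralLinearGroup.toLin.trans (LinearMap.GeneralLinearGroup.generalLinearEquiv F (Fin 8 → F))).trans
    (autC (eZ F))

theorem glToAut_apply (g : GL (Fin 8) F) (x : OO F) :
    glToAut F g x = eZ F ((g : Matrix (Fin 8) (Fin 8) F) *ᵥ (eZ F).symm x) := rfl

theorem map_G2 : (G2 F).map (glToAut F).toMonoidHom = autO F := by
  ext g
  constructor
  · rintro ⟨a, ha, rfl⟩ x y
    show glToAut F a (cd x y) = cd (glToAut F a x) (glToAut F a y)
    have h := ha ((eZ F).symm x) ((eZ F).symm y)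
    simp only [Units.coeHom_apply] at h
    rw [glToAut_apply, glToAut_apply, glToAut_apply, ← eZ_mul, ← h]
    congr 2
    apply (eZ F).injective
    rw [LinearEquiv.apply_symm_apply, eZ_mul, LinearEquiv.apply_symm_apply, LinearEquiv.apply_symm_apply]
  · intro hg
    refine ⟨(glToAut F).symm g, ?_, by simp⟩
    intro x y
    simp only [Units.coeHom_apply]
    set a := (glToAut F).symm g with ha
    have hga : glToAut F a = g := by simp [ha]
    have h := hg (eZ F x) (eZ F y)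
    rw [← hga, glToAut_apply, glToAut_apply, glToAut_apply, ← eZ_mul] at h
    simp only [LinearEquiv.symm_apply_apply] at h
    rw [← eZ_mul] at h
    exact (eZ F).injective h

/-- `G₂` as the automorphism group of the double. -/
noncomputable def g2Equiv (F : Type*) [Field F] : G2 F ≃* autO F :=
  ((glToAut F).subgroupMap (G2 F)).trans (MulEquiv.subgroupCongr map_G2)

end algebra

section phi

variable {F : Type*} [Field F]

/-- The action of a pair of invertible matrices. -/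
def phiE (A C : GL (Fin 2) F) : OO F ≃ₗ[F] OO F where
  toFun x := ((A : M2 F) * x.1 * (A⁻¹ : GL (Fin 2) F), (C : M2 F) * x.2 * (A⁻¹ : GL (Fin 2) F))
  invFun x := (((A⁻¹ : GL (Fin 2) F) : M2 F) * x.1 * A, ((C⁻¹ : GL (Fin 2) F) : M2 F) * x.2 * A)
  map_add' x y := by
    refine Prod.ext ?_ ?_ <;> simp [Matrix.mul_add, Matrix.add_mul]
  map_smul' c x := by
    refine Prod.ext ?_ ?_ <;> simp [Matrix.mul_smul, Matrix.smul_mul]
  left_inv x := by
    refine Prod.ext ?_ ?_
    · show ((A⁻¹ : GL (Fin 2) F) : M2 F) * ((A : M2 F) * x.1 * (A⁻¹ : GL (Fin 2) F)) * A = x.1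
      have h1 : ((A⁻¹ : GL (Fin 2) F) : M2 F) * (A : M2 F) = 1 := by rw [← Units.val_mul]; simp
      calc ((A⁻¹ : GL (Fin 2) F) : M2 F) * ((A : M2 F) * x.1 * (A⁻¹ : GL (Fin 2) F)) * A
          = (((A⁻¹ : GL (Fin 2) F) : M2 F) * (A : M2 F)) * x.1 * (((A⁻¹ : GL (Fin 2) F) : M2 F) * A) := by
            simp only [Matrix.mul_assoc]
        _ = x.1 := by rw [h1]; simp
    · show ((C⁻¹ : GL (Fin 2) F) : M2 F) * ((C : M2 F) * x.2 * (A⁻¹ : GL (Fin 2) F)) * A = x.2
      have h1 : ((A⁻¹ : GL (Fin 2) F) : M2 F) * (A : M2 F) = 1 := by rw [← Units.val_mul]; simp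
      have h2 : ((C⁻¹ : GL (Fin 2) F) : M2 F) * (C : M2 F) = 1 := by rw [← Units.val_mul]; simp
      calc ((C⁻¹ : GL (Fin 2) F) : M2 F) * ((C : M2 F) * x.2 * (A⁻¹ : GL (Fin 2) F)) * A
          = (((C⁻¹ : GL (Fin 2) F) : M2 F) * (C : M2 F)) * x.2 * (((A⁻¹ : GL (Fin 2) F) : M2 F) * A) := by
            simp only [Matrix.mul_assoc]
        _ = x.2 := by rw [h1, h2]; simp
  right_inv x := by
    refine Prod.ext ?_ ?_
    · show (A : M2 F) * (((A⁻¹ : GL (Fin 2) F) : M2 F) * x.1 * A) * (A⁻¹ : GL (Fin 2) F) = x.1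
      have h1 : (A : M2 F) * ((A⁻¹ : GL (Fin 2) F) : M2 F) = 1 := by rw [← Units.val_mul]; simp
      calc (A : M2 F) * (((A⁻¹ : GL (Fin 2) F) : M2 F) * x.1 * A) * (A⁻¹ : GL (Fin 2) F)
          = ((A : M2 F) * ((A⁻¹ : GL (Fin 2) F) : M2 F)) * x.1 * ((A : M2 F) * (A⁻¹ : GL (Fin 2) F)) := by
            simp only [Matrix.mul_assoc]
        _ = x.1 := by rw [h1]; simp
    · show (C : M2 F) * (((C⁻¹ : GL (Fin 2) F) : M2 F) * x.2 * A) * (A⁻¹ : GL (Fin 2) F) = x.2
      have h1 : (A : M2 F) * ((A⁻¹ : GL (Fin 2) F) : M2 F) = 1 := by rw [← Units.val_mul]; simp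
      have h2 : (C : M2 F) * ((C⁻¹ : GL (Fin 2) F) : M2 F) = 1 := by rw [← Units.val_mul]; simp
      calc (C : M2 F) * (((C⁻¹ : GL (Fin 2) F) : M2 F) * x.2 * A) * (A⁻¹ : GL (Fin 2) F)
          = ((C : M2 F) * ((C⁻¹ : GL (Fin 2) F) : M2 F)) * x.2 * ((A : M2 F) * (A⁻¹ : GL (Fin 2) F)) := by
            simp only [Matrix.mul_assoc]
        _ = x.2 := by rw [h1, h2]; simp

theorem phiE_apply (A C : GL (Fin 2) F) (x : OO F) :
    phiE A C x = ((A : M2 F) * x.1 * (A⁻¹ : GL (Fin 2) F), (C : M2 F) * x.2 * (A⁻¹ : GL (Fin 2) F)) := rfl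

/-- The action as a homomorphism. -/
def phi : GL (Fin 2) F × GL (Fin 2) F →* (OO F ≃ₗ[F] OO F) where
  toFun p := phiE p.1 p.2
  map_one' := by
    apply LinearEquiv.ext
    intro x
    rw [phiE_apply]
    refine Prod.ext ?_ ?_ <;> simp
  map_mul' p r := by
    apply LinearEquiv.ext
    intro x
    show phiE (p.1 * r.1) (p.2 * r.2) x = phiE p.1 p.2 (phiE r.1 r.2 x)
    rw [phiE_apply, phiE_apply, phiE_apply]
    refine Prod.ext ?_ ?_
    · simp only [Units.val_mul, _root_.mul_inv_rev, Matrix.mul_assoc]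
    · simp only [Units.val_mul, _root_.mul_inv_rev, Matrix.mul_assoc]

theorem phi_apply (p : GL (Fin 2) F × GL (Fin 2) F) (x : OO F) :
    phi p x = ((p.1 : M2 F) * x.1 * (p.1⁻¹ : GL (Fin 2) F), (p.2 : M2 F) * x.2 * (p.1⁻¹ : GL (Fin 2) F)) := rfl

theorem adj_inv (A : GL (Fin 2) F) :
    adjugate ((A⁻¹ : GL (Fin 2) F) : M2 F) = ((A : M2 F).det)⁻¹ • (A : M2 F) := by
  have h1 : ((A⁻¹ : GL (Fin 2) F) : M2 F) = ((A : M2 F).det)⁻¹ • adjugate (A : M2 F) := by
    rw [Matrix.coe_units_inv, Matrix.inv_def, Ring.inverse_eq_inv']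
  rw [h1, Matrix.adjugate_smul, Matrix.adjugate_adjugate _ (by simp)]
  simp

theorem phi_mem {A C : GL (Fin 2) F} (h : (A : M2 F).det = (C : M2 F).det) : phi (A, C) ∈ autO F := by
  intro x y
  obtain ⟨X, Y⟩ := x
  obtain ⟨X', Y'⟩ := y
  rw [phi_apply, phi_apply, phi_apply]
  simp only [cd_apply]
  set a : M2 F := (A : M2 F) with ha
  set a' : M2 F := ((A⁻¹ : GL (Fin 2) F) : M2 F) with ha'
  set c : M2 F := (C : M2 F) with hc
  have haa' : a * a' = 1 := by rw [ha, ha', ← Units.val_mul]; simp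
  have ha'a : a' * a = 1 := by rw [ha, ha', ← Units.val_mul]; simp
  have hadj : adjugate a' = (a.det)⁻¹ • a := adj_inv A
  have hcc : adjugate c * c = a.det • (1 : M2 F) := by rw [Matrix.adjugate_mul, h]
  have hd : a.det ≠ 0 := by
    intro h0
    have := congrArg Matrix.det haa'
    rw [Matrix.det_mul, h0] at this
    simp at this
  have hinv : a' = (a.det)⁻¹ • adjugate a := by
    rw [ha', ha, Matrix.coe_units_inv, Matrix.inv_def, Ring.inverse_eq_inv']
  refine Prod.ext ?_ ?_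
  · show a * (X * X' - adjugate Y' * Y) * a' = a * X * a' * (a * X' * a') - adjugate (c * Y' * a') * (c * Y * a')
    have e1 : a * X * a' * (a * X' * a') = a * (X * X') * a' := by
      calc a * X * a' * (a * X' * a') = a * X * (a' * a) * X' * a' := by simp only [Matrix.mul_assoc]
        _ = a * (X * X') * a' := by rw [ha'a]; simp only [Matrix.mul_assoc, Matrix.mul_one]
    have e2 : adjugate (c * Y' * a') * (c * Y * a') = a * (adjugate Y' * Y) * a' := by
      rw [Matrix.adjugate_mul_distrib, Matrix.adjugate_mul_distrib, hadj]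
      calc ((a.det)⁻¹ • a) * (adjugate Y' * adjugate c) * (c * Y * a')
          = ((a.det)⁻¹ • a) * adjugate Y' * (adjugate c * c) * Y * a' := by simp only [Matrix.mul_assoc]
        _ = a * (adjugate Y' * Y) * a' := by
          rw [hcc]
          simp only [Matrix.smul_mul, Matrix.mul_smul, Matrix.mul_one, smul_smul, inv_mul_cancel₀ hd, mul_inv_cancel₀ hd, one_smul, Matrix.mul_assoc]
    rw [e1, e2, Matrix.mul_sub, Matrix.sub_mul]
  · show c * (Y' * X + Y * adjugate X') * a' = c * Y' * a' * (a * X * a') + c * Y * a' * adjugate (a * X' * a')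
    have e1 : c * Y' * a' * (a * X * a') = c * (Y' * X) * a' := by
      calc c * Y' * a' * (a * X * a') = c * Y' * (a' * a) * X * a' := by simp only [Matrix.mul_assoc]
        _ = c * (Y' * X) * a' := by rw [ha'a]; simp only [Matrix.mul_assoc, Matrix.mul_one]
    have e2 : c * Y * a' * adjugate (a * X' * a') = c * (Y * adjugate X') * a' := by
      rw [Matrix.adjugate_mul_distrib, Matrix.adjugate_mul_distrib, hadj]
      calc c * Y * a' * (((a.det)⁻¹ • a) * (adjugate X' * adjugate a))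
          = c * Y * ((a' * a)) * adjugate X' * ((a.det)⁻¹ • adjugate a) := by
            simp only [Matrix.smul_mul, Matrix.mul_smul, Matrix.mul_assoc]
        _ = c * (Y * adjugate X') * a' := by
          rw [ha'a, ← hinv]
          simp only [Matrix.mul_assoc, Matrix.mul_one, Matrix.one_mul]
    rw [e1, e2, Matrix.mul_add, Matrix.add_mul]

end phi

section centr

variable {F : Type*} [Field F]

/-- A form of the Skolem-Noether theorem for `M₂(F)`. -/
theorem skolem {g₁ : M2 F →ₗ[F] M2 F} (hm : ∀ X Y, g₁ (X * Y) = g₁ X * g₁ Y)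
    (hinj : Function.Injective g₁) : ∃ A : GL (Fin 2) F, ∀ X, g₁ X = (A : M2 F) * X * (A⁻¹ : GL (Fin 2) F) := by
  classical
  let E : Fin 2 → Fin 2 → M2 F := fun a b => Matrix.single a b 1
  have hE : ∀ a b c d, E a b * E c d = if b = c then E a d else 0 := by
    intro a b c d
    by_cases h : b = c
    · subst h
      simp [E, Matrix.single_mul_single_same]
    · simp only [E, h, if_false]
      exact Matrix.single_mul_single_of_ne _ _ _ _ h _
  have hE0 : g₁ (E 0 0) ≠ 0 := by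
    intro h
    have h1 : E 0 0 = 0 := hinj (by rw [h, map_zero])
    have h2 := congrFun (congrFun h1 0) 0
    simp [E] at h2
  obtain ⟨v, hv⟩ : ∃ v : Fin 2 → F, g₁ (E 0 0) *ᵥ v ≠ 0 := by
    by_contra hall
    push Not at hall
    apply hE0
    ext i j
    have := congrFun (hall (Pi.single j 1)) i
    simpa using this
  let col : Fin 2 → (Fin 2 → F) := fun j => g₁ (E j 0) *ᵥ v
  have hcol : ∀ a b j, g₁ (E a b) *ᵥ col j = if b = j then col a else 0 := by
    intro a b j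
    show g₁ (E a b) *ᵥ (g₁ (E j 0) *ᵥ v) = _
    rw [Matrix.mulVec_mulVec, ← hm, hE]
    by_cases h : b = j
    · simp [h, col]
    · simp [h]
  let A₀ : M2 F := Matrix.of fun i j => col j i
  have hrel : ∀ a b, g₁ (E a b) * A₀ = A₀ * E a b := by
    intro a b
    ext i j
    have h1 : (g₁ (E a b) * A₀) i j = (g₁ (E a b) *ᵥ col j) i := by
      simp [Matrix.mul_apply, Matrix.mulVec, dotProduct, A₀]
    rw [h1, hcol]
    have h2 : (A₀ * E a b) i j = A₀ i a * (if j = b then 1 else 0) := by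
      simp [E, Matrix.mul_apply, Matrix.single_apply, Fin.sum_univ_two]
      fin_cases a <;> fin_cases b <;> fin_cases j <;> simp
    rw [h2]
    by_cases h : b = j
    · subst h
      simp [A₀]
    · have h' : j ≠ b := fun e => h e.symm
      simp [h, h']
  have hdet : A₀.det ≠ 0 := by
    intro h0
    obtain ⟨w, hw, hw0⟩ := Matrix.exists_mulVec_eq_zero_iff.2 h0
    apply hw
    funext b
    have h1 : ∀ i, ∑ j, w j * col j i = 0 := by
      intro i
      have := congrFun hw0 i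
      simpa [Matrix.mulVec, dotProduct, A₀, mul_comm] using this
    have h2 : (∑ j, w j • col j) = 0 := by
      funext i
      simpa using h1 i
    have h3 := congrArg (fun y => g₁ (E 0 b) *ᵥ y) h2
    simp only [Matrix.mulVec_sum, Matrix.mulVec_smul, hcol, Matrix.mulVec_zero] at h3
    have h4 : w b • col 0 = 0 := by
      rw [← h3]
      rw [Fin.sum_univ_two]
      fin_cases b <;> simp
    have h5 : col 0 ≠ 0 := hv
    exact (smul_eq_zero.1 h4).resolve_right h5
  let A : GL (Fin 2) F := Matrix.GeneralLinearGroup.mkOfDetNeZero A₀ hdet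
  refine ⟨A, fun X => ?_⟩
  have hall : ∀ X, g₁ X * A₀ = A₀ * X := by
    intro X
    have hX : X = ∑ a, ∑ b, X a b • E a b := by
      have h0 := Matrix.matrix_eq_sum_single X
      refine h0.trans ?_
      refine Finset.sum_congr rfl fun a _ => Finset.sum_congr rfl fun b _ => ?_
      simp [E]
    conv_lhs => rw [hX]
    conv_rhs => rw [hX]
    simp only [map_sum, map_smul, Matrix.sum_mul, Matrix.mul_sum, Matrix.smul_mul, Matrix.mul_smul, hrel]
  have hAA : (A : M2 F) = A₀ := rfl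
  have h1 : (A : M2 F) * ((A⁻¹ : GL (Fin 2) F) : M2 F) = 1 := by rw [← Units.val_mul]; simp
  rw [hAA] at h1 ⊢
  rw [← hall, Matrix.mul_assoc, h1, Matrix.mul_one]

/-- The central involution. -/
def tt (F : Type*) [Field F] : OO F ≃ₗ[F] OO F := phi ((1 : GL (Fin 2) F), (-1 : GL (Fin 2) F))

theorem tt_apply (x : OO F) : tt F x = (x.1, -x.2) := by
  show phi ((1 : GL (Fin 2) F), (-1 : GL (Fin 2) F)) x = _
  rw [phi_apply]
  refine Prod.ext ?_ ?_ <;> simp

/-- The centralizer of the central involution. -/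
theorem cent_t (h2 : (2 : F) ≠ 0) {g : OO F ≃ₗ[F] OO F} (hg : g ∈ autO F) (hc : g * tt F = tt F * g) :
    ∃ A C : GL (Fin 2) F, (A : M2 F).det = (C : M2 F).det ∧ g = phi (A, C) := by
  have hcomm : ∀ x, g (tt F x) = tt F (g x) := fun x => by
    have := congrArg (fun h : OO F ≃ₗ[F] OO F => h x) hc
    exact this
  have two : ∀ Q : M2 F, Q = -Q → Q = 0 := by
    intro Q hQ
    have h3 : (2 : F) • Q = 0 := by
      rw [two_smul]
      nth_rewrite 1 [hQ]
      simp
    exact (smul_eq_zero.1 h3).resolve_left h2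
  have hX : ∀ X : M2 F, (g (X, 0)).2 = 0 := by
    intro X
    have h1 := hcomm (X, 0)
    rw [tt_apply, tt_apply] at h1
    simp only [neg_zero] at h1
    apply two
    exact congrArg Prod.snd h1
  have hY : ∀ Y : M2 F, (g (0, Y)).1 = 0 := by
    intro Y
    have h1 := hcomm (0, Y)
    rw [tt_apply, tt_apply] at h1
    have h3 : ((0, -Y) : OO F) = -((0, Y) : OO F) := by simp
    simp only at h1
    rw [h3, map_neg] at h1
    have h4 := congrArg Prod.fst h1
    simp only [Prod.fst_neg] at h4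
    apply two
    exact h4.symm
  let g₁ : M2 F →ₗ[F] M2 F := (LinearMap.fst F _ _).comp ((g : OO F →ₗ[F] OO F).comp (LinearMap.inl F _ _))
  let g₂ : M2 F →ₗ[F] M2 F := (LinearMap.snd F _ _).comp ((g : OO F →ₗ[F] OO F).comp (LinearMap.inr F _ _))
  have hg₁ : ∀ X, g (X, 0) = (g₁ X, 0) := fun X => Prod.ext rfl (hX X)
  have hg₂ : ∀ Y, g (0, Y) = (0, g₂ Y) := fun Y => Prod.ext (hY Y) rfl
  have hgg : ∀ X Y, g (X, Y) = (g₁ X, g₂ Y) := by
    intro X Y
    have : ((X, Y) : OO F) = (X, 0) + (0, Y) := by simp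
    rw [this, map_add, hg₁, hg₂]
    simp
  have m1 : ∀ X X', g₁ (X * X') = g₁ X * g₁ X' := by
    intro X X'
    have h1 := hg (X, 0) (X', 0)
    have e : cd ((X, 0) : OO F) (X', 0) = (X * X', 0) := by simp [cd_apply]
    rw [e, hg₁, hg₁, hg₁, cd_apply] at h1
    simpa using congrArg Prod.fst h1
  have m2 : ∀ Y X, g₂ (Y * X) = g₂ Y * g₁ X := by
    intro Y X
    have h1 := hg (X, 0) (0, Y)
    have e : cd ((X, 0) : OO F) (0, Y) = (0, Y * X) := by simp [cd_apply]
    rw [e, hg₁, hg₂, hg₂, cd_apply] at h1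
    simpa using congrArg Prod.snd h1
  have m3 : ∀ Y' Y, g₁ (adjugate Y' * Y) = adjugate (g₂ Y') * g₂ Y := by
    intro Y' Y
    have h1 := hg (0, Y) (0, Y')
    have e : cd ((0, Y) : OO F) (0, Y') = (-(adjugate Y' * Y), 0) := by simp [cd_apply]
    rw [e, hg₁, hg₂, hg₂, cd_apply, map_neg] at h1
    have := congrArg Prod.fst h1
    simp at this
    exact this
  have hinj : Function.Injective g₁ := by
    rw [injective_iff_map_eq_zero]
    intro X hX0
    have h1 : g (X, 0) = 0 := by rw [hg₁, hX0]; rfl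
    have h3 := g.injective (h1.trans (map_zero g).symm)
    exact congrArg Prod.fst h3
  have hsurj : Function.Surjective g₁ := by
    intro W
    obtain ⟨⟨X, Y⟩, hXY⟩ := g.surjective (W, 0)
    rw [hgg] at hXY
    exact ⟨X, congrArg Prod.fst hXY⟩
  have h11 : g₁ 1 = 1 := by
    obtain ⟨X, hX1⟩ := hsurj 1
    have := m1 1 X
    rw [Matrix.one_mul, hX1, Matrix.mul_one] at this
    exact this.symm
  obtain ⟨A, hA⟩ := skolem m1 hinj
  -- the second block
  set B : M2 F := g₂ 1 with hB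
  have hBdet : B.det = 1 := by
    have h1 := m3 1 1
    rw [Matrix.adjugate_one, Matrix.mul_one, h11, Matrix.adjugate_mul] at h1
    have h3 := congrFun (congrFun h1 0) 0
    simp at h3
    exact h3.symm
  let U : GL (Fin 2) F := Matrix.GeneralLinearGroup.mkOfDetNeZero B (by rw [hBdet]; exact one_ne_zero)
  have hU : (U : M2 F) = B := rfl
  refine ⟨A, U * A, ?_, ?_⟩
  · rw [Units.val_mul, Matrix.det_mul, hU, hBdet, one_mul]
  · apply LinearEquiv.ext
    rintro ⟨X, Y⟩
    rw [hgg, phi_apply]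
    refine Prod.ext (hA X) ?_
    show g₂ Y = _
    have h1 := m2 1 Y
    rw [Matrix.one_mul, hA] at h1
    rw [h1, ← hB, Units.val_mul, hU]
    simp only [Matrix.mul_assoc]

end centr

section torus

variable {F : Type*} [Field F]

/-- The element `J`. -/
def uJ (F : Type*) [Field F] : GL (Fin 2) F :=
  ⟨!![0, -1; 1, 0], !![0, 1; -1, 0], by simp [Matrix.one_fin_two], by simp [Matrix.one_fin_two]⟩

/-- The reflection. -/
def uS (F : Type*) [Field F] : GL (Fin 2) F :=
  ⟨!![1, 0; 0, -1], !![1, 0; 0, -1], by simp [Matrix.one_fin_two], by simp [Matrix.one_fin_two]⟩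

theorem uS_sq : uS F * uS F = 1 := by
  apply Units.ext
  show (!![1, 0; 0, -1] : M2 F) * !![1, 0; 0, -1] = 1
  simp [Matrix.one_fin_two]

theorem uS_inv : (uS F)⁻¹ = uS F := inv_eq_of_mul_eq_one_left uS_sq

/-- The torus: the centralizer of `J`. -/
def EE (F : Type*) [Field F] : Subgroup (GL (Fin 2) F) := Subgroup.centralizer {uJ F}

/-- A torus element from its coordinates. -/
theorem EE_form {g : GL (Fin 2) F} (hg : g ∈ EE F) :
    ∃ u v : F, (g : M2 F) = !![u, -v; v, u] := by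
  have h1 : uJ F * g = g * uJ F := (Subgroup.mem_centralizer_singleton_iff.1 hg).symm
  have h2 := congrArg (Units.val) h1
  simp only [Units.val_mul] at h2
  have h3 : (uJ F : M2 F) = !![0, -1; 1, 0] := rfl
  rw [h3, Matrix.eta_fin_two (g : M2 F)] at h2
  simp only [Matrix.mul_fin_two] at h2
  have e00 := congrFun (congrFun h2 0) 0
  have e01 := congrFun (congrFun h2 0) 1
  simp at e00 e01
  refine ⟨(g : M2 F) 0 0, (g : M2 F) 1 0, ?_⟩
  nth_rewrite 1 [Matrix.eta_fin_two (g : M2 F)]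
  rw [e00, ← e01]

theorem mem_EE_of_form {g : GL (Fin 2) F} {u v : F} (h : (g : M2 F) = !![u, -v; v, u]) : g ∈ EE F := by
  rw [EE, Subgroup.mem_centralizer_singleton_iff]
  apply Units.ext
  simp only [Units.val_mul]
  rw [h]
  show !![u, -v; v, u] * !![0, -1; 1, 0] = !![0, -1; 1, 0] * !![u, -v; v, u]
  simp [Matrix.mul_fin_two]

theorem EE_comm {a b : GL (Fin 2) F} (ha : a ∈ EE F) (hb : b ∈ EE F) : a * b = b * a := by
  obtain ⟨u, v, hab⟩ := EE_form ha
  obtain ⟨u', v', hab'⟩ := EE_form hb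
  apply Units.ext
  simp only [Units.val_mul]
  rw [hab, hab']
  simp only [Matrix.mul_fin_two]
  ext i j
  fin_cases i <;> fin_cases j <;> simp <;> ring

theorem uJ_mem : uJ F ∈ EE F := by
  rw [EE, Subgroup.mem_centralizer_singleton_iff]

theorem uS_conj_form {g : GL (Fin 2) F} {u v : F} (h : (g : M2 F) = !![u, -v; v, u]) :
    ((uS F * g * uS F : GL (Fin 2) F) : M2 F) = !![u, v; -v, u] := by
  simp only [Units.val_mul]
  rw [h]
  show (!![1, 0; 0, -1] : M2 F) * !![u, -v; v, u] * !![1, 0; 0, -1] = _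
  simp only [Matrix.mul_fin_two]
  ext i j
  fin_cases i <;> fin_cases j <;> simp

theorem uS_conj_mem {g : GL (Fin 2) F} (hg : g ∈ EE F) : uS F * g * uS F ∈ EE F := by
  obtain ⟨u, v, h⟩ := EE_form hg
  refine mem_EE_of_form (u := u) (v := -v) ?_
  rw [uS_conj_form h]
  simp

/-- The determinant with values in the units. -/
noncomputable abbrev dd (F : Type*) [Field F] : GL (Fin 2) F →* Fˣ := Matrix.GeneralLinearGroup.det

theorem dd_val (g : GL (Fin 2) F) : ((dd F g : Fˣ) : F) = (g : M2 F).det := rfl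

/-- Scalars. -/
noncomputable def scal (F : Type*) [Field F] : Fˣ →* GL (Fin 2) F :=
  Units.map (algebraMap F (M2 F) : F →* M2 F)

theorem scal_val (δ : Fˣ) : ((scal F δ : GL (Fin 2) F) : M2 F) = (δ : F) • (1 : M2 F) := by
  show algebraMap F (M2 F) (δ : F) = _
  rw [Algebra.algebraMap_eq_smul_one]

theorem scal_central (δ : Fˣ) (g : GL (Fin 2) F) : scal F δ * g = g * scal F δ := by
  apply Units.ext
  simp only [Units.val_mul, scal_val]
  simp

theorem dd_scal (δ : Fˣ) : dd F (scal F δ) = δ * δ := by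
  apply Units.ext
  rw [dd_val, scal_val]
  simp [Matrix.det_smul, sq]

theorem phi_scal (δ : Fˣ) : phi (scal F δ, scal F δ) = 1 := by
  apply LinearEquiv.ext
  rintro ⟨X, Y⟩
  rw [phi_apply]
  have e : ((scal F δ)⁻¹ : GL (Fin 2) F) = scal F δ⁻¹ := (map_inv _ _).symm
  simp only [e, scal_val]
  refine Prod.ext ?_ ?_
  · simp [Matrix.smul_mul, Matrix.mul_smul, smul_smul]
  · simp [Matrix.smul_mul, Matrix.mul_smul, smul_smul]

/-- The key identity: a torus element times its conjugate. -/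
theorem mul_conj {e : GL (Fin 2) F} (he : e ∈ EE F) : e * (uS F * e * uS F) = scal F (dd F e) := by
  obtain ⟨u, v, h⟩ := EE_form he
  apply Units.ext
  rw [Units.val_mul, uS_conj_form h, scal_val, dd_val, h, Matrix.det_fin_two_of]
  simp only [Matrix.mul_fin_two]
  ext i j
  fin_cases i <;> fin_cases j <;> simp <;> ring

/-- The `2`-elements of the torus. -/
def REE (F : Type*) [Field F] : Subgroup (GL (Fin 2) F) where
  carrier := {g | g ∈ EE F ∧ ∃ k : ℕ, g ^ (2 ^ k) = 1}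
  one_mem' := ⟨Subgroup.one_mem _, 0, by simp⟩
  mul_mem' := by
    rintro a b ⟨ha, k, hk⟩ ⟨hb, l, hl⟩
    refine ⟨Subgroup.mul_mem _ ha hb, k + l, ?_⟩
    have hc : Commute a b := EE_comm ha hb
    rw [hc.mul_pow, pow_add, pow_mul, hk, one_pow, one_mul, mul_comm, pow_mul, hl, one_pow]
  inv_mem' := by
    rintro a ⟨ha, k, hk⟩
    exact ⟨Subgroup.inv_mem _ ha, k, by rw [inv_pow, hk, inv_one]⟩

theorem mem_REE {g : GL (Fin 2) F} : g ∈ REE F ↔ g ∈ EE F ∧ ∃ k : ℕ, g ^ (2 ^ k) = 1 := Iff.rfl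

theorem uS_conj_REE {g : GL (Fin 2) F} (hg : g ∈ REE F) : uS F * g * uS F ∈ REE F := by
  obtain ⟨h1, k, hk⟩ := hg
  refine ⟨uS_conj_mem h1, k, ?_⟩
  have e : uS F * g * uS F = uS F * g * (uS F)⁻¹ := by rw [uS_inv]
  rw [e, conj_pow, hk]
  simp

theorem uJ_REE : uJ F ∈ REE F := by
  refine ⟨uJ_mem, 2, ?_⟩
  apply Units.ext
  show (!![0, -1; 1, 0] : M2 F) ^ (2 ^ 2) = 1
  have : (!![0, -1; 1, 0] : M2 F) * !![0, -1; 1, 0] = -1 := by
    simp [Matrix.mul_fin_two, Matrix.one_fin_two]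
  rw [show (2 ^ 2 : ℕ) = 2 + 2 by norm_num, pow_add, sq, this]
  simp

/-- The Sylow model in `GL₂`. -/
def RR (F : Type*) [Field F] : Subgroup (GL (Fin 2) F) where
  carrier := {g | g ∈ REE F ∨ g * uS F ∈ REE F}
  one_mem' := Or.inl (Subgroup.one_mem _)
  mul_mem' := by
    have hS : uS F * uS F = 1 := uS_sq
    rintro a b (ha | ha) (hb | hb)
    · exact Or.inl (Subgroup.mul_mem _ ha hb)
    · right
      rw [mul_assoc]
      exact Subgroup.mul_mem _ ha hb
    · right
      have e : a * b * uS F = (a * uS F) * (uS F * b * uS F) := by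
        calc a * b * uS F = a * (uS F * uS F) * b * uS F := by rw [hS, mul_one]
          _ = _ := by group
      rw [e]
      exact Subgroup.mul_mem _ ha (uS_conj_REE hb)
    · left
      have e : a * b = (a * uS F) * (uS F * (b * uS F) * uS F) := by
        calc a * b = a * (uS F * uS F) * b * (uS F * uS F) := by rw [hS, mul_one, mul_one]
          _ = _ := by group
      rw [e]
      exact Subgroup.mul_mem _ ha (uS_conj_REE hb)
  inv_mem' := by
    have hS : uS F * uS F = 1 := uS_sq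
    rintro a (ha | ha)
    · exact Or.inl (Subgroup.inv_mem _ ha)
    · right
      have e : a⁻¹ * uS F = (uS F * (a * uS F) * uS F)⁻¹ := by
        have e1 : uS F * (a * uS F) * uS F = uS F * a := by
          rw [mul_assoc, mul_assoc, hS, mul_one]
        rw [e1, _root_.mul_inv_rev, uS_inv]
      rw [e]
      exact Subgroup.inv_mem _ (uS_conj_REE ha)


theorem mem_RR {g : GL (Fin 2) F} : g ∈ RR F ↔ g ∈ REE F ∨ g * uS F ∈ REE F := Iff.rfl

theorem REE_le_RR : REE F ≤ RR F := fun _ h => Or.inl h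

theorem uS_RR : uS F ∈ RR F := Or.inr (by rw [uS_sq]; exact Subgroup.one_mem _)

theorem dd_uS : dd F (uS F) = -1 := by
  apply Units.ext
  rw [dd_val]
  show (!![1, 0; 0, -1] : M2 F).det = _
  simp [Matrix.det_fin_two_of]

theorem dd_uJ : dd F (uJ F) = 1 := by
  apply Units.ext
  rw [dd_val]
  show (!![0, -1; 1, 0] : M2 F).det = _
  simp [Matrix.det_fin_two_of]

theorem scal_neg_one : scal F (-1) = -1 := by
  apply Units.ext
  rw [scal_val]
  simp

theorem uJ_sq : uJ F * uJ F = -1 := by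
  apply Units.ext
  show (!![0, -1; 1, 0] : M2 F) * !![0, -1; 1, 0] = _
  simp [Matrix.mul_fin_two, Matrix.one_fin_two]

/-- The commutator with the element `w`. -/
theorem comm_form {e₀ e : GL (Fin 2) F} (he₀ : e₀ ∈ EE F) (he : e ∈ EE F) :
    e * e = scal F (dd F e) * ⁅e, e₀ * uS F⁆ := by
  set f := uS F * e * uS F with hf
  have hfE : f ∈ EE F := uS_conj_mem he
  have hfi : f⁻¹ = uS F * e⁻¹ * uS F := by
    rw [hf]
    simp only [_root_.mul_inv_rev, uS_inv]
    group
  have h1 : ⁅e, e₀ * uS F⁆ = e * f⁻¹ := by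
    rw [commutatorElement_def, _root_.mul_inv_rev, uS_inv]
    have h2 : e₀ * f⁻¹ = f⁻¹ * e₀ := EE_comm he₀ (Subgroup.inv_mem _ hfE)
    calc e * (e₀ * uS F) * e⁻¹ * (uS F * e₀⁻¹) = e * (e₀ * (uS F * e⁻¹ * uS F)) * e₀⁻¹ := by group
      _ = e * (e₀ * f⁻¹) * e₀⁻¹ := by rw [hfi]
      _ = e * (f⁻¹ * e₀) * e₀⁻¹ := by rw [h2]
      _ = e * f⁻¹ := by group
  rw [h1, ← mul_conj he, ← hf]
  have h3 : e * f = f * e := EE_comm he hfE
  calc e * e = e * (f * f⁻¹) * e := by simp
    _ = e * f * (f⁻¹ * e) := by group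
    _ = e * f * (e * f⁻¹) := by rw [EE_comm (Subgroup.inv_mem _ hfE) he]

/-- Squares in the model. -/
theorem sq_form {e₀ : GL (Fin 2) F} (he₀ : e₀ ∈ REE F) {A : GL (Fin 2) F} (hA : A ∈ RR F) :
    ∃ e ∈ REE F, A * A = scal F (dd F A) * ⁅e, e₀ * uS F⁆ := by
  rcases hA with hA | hA
  · exact ⟨A, hA, comm_form he₀.1 hA.1⟩
  · refine ⟨uJ F, uJ_REE, ?_⟩
    have h1 := comm_form he₀.1 (uJ_mem (F := F))
    rw [uJ_sq, dd_uJ, map_one, one_mul] at h1
    rw [← h1, ← scal_neg_one, ← map_mul]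
    have h3 := mul_conj hA.1
    have e1 : uS F * (A * uS F) * uS F = uS F * A := by
      rw [mul_assoc, mul_assoc, uS_sq, mul_one]
    rw [e1] at h3
    have e2 : A * uS F * (uS F * A) = A * A := by
      rw [mul_assoc, ← mul_assoc (uS F), uS_sq, one_mul]
    rw [e2] at h3
    rw [h3, map_mul, dd_uS]

/-- Pairs with equal determinants from a subgroup. -/
def PP2 (H : Subgroup (GL (Fin 2) F)) : Subgroup (GL (Fin 2) F × GL (Fin 2) F) where
  carrier := {p | p.1 ∈ H ∧ p.2 ∈ H ∧ dd F p.1 = dd F p.2}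
  one_mem' := ⟨H.one_mem, H.one_mem, by simp⟩
  mul_mem' := by
    rintro a b ⟨h1, h2, h3⟩ ⟨h4, h5, h6⟩
    refine ⟨H.mul_mem h1 h4, H.mul_mem h2 h5, ?_⟩
    show dd F (a.1 * b.1) = dd F (a.2 * b.2)
    rw [map_mul, map_mul, h3, h6]
  inv_mem' := by
    rintro a ⟨h1, h2, h3⟩
    refine ⟨H.inv_mem h1, H.inv_mem h2, ?_⟩
    show dd F (a.1⁻¹) = dd F (a.2⁻¹)
    rw [map_inv, map_inv, h3]

theorem mem_PP2 {H : Subgroup (GL (Fin 2) F)} {p : GL (Fin 2) F × GL (Fin 2) F} :
    p ∈ PP2 H ↔ p.1 ∈ H ∧ p.2 ∈ H ∧ dd F p.1 = dd F p.2 := Iff.rfl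

/-- The model is good. -/
theorem good_model {e₀ : GL (Fin 2) F} (he₀ : e₀ ∈ REE F) (hd : dd F e₀ = -1) :
    GoodSub ((PP2 (RR F)).map phi) := by
  have hw : e₀ * uS F ∈ RR F := Subgroup.mul_mem _ (REE_le_RR he₀) uS_RR
  have hdw : dd F (e₀ * uS F) = 1 := by
    rw [map_mul, hd, dd_uS]
    simp
  rintro _ ⟨⟨A, C⟩, ⟨hA, hC, hdet⟩, rfl⟩
  simp only at hA hC hdet
  obtain ⟨e₁, he₁, h1⟩ := sq_form he₀ hA
  obtain ⟨e₂, he₂, h2⟩ := sq_form he₀ hC
  rw [← hdet] at h2
  rw [← map_mul, ← Subgroup.map_commutator]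
  have m1 : ((e₁, e₁) : GL (Fin 2) F × GL (Fin 2) F) ∈ PP2 (RR F) :=
    ⟨REE_le_RR he₁, REE_le_RR he₁, rfl⟩
  have m2 : ((e₂, e₂) : GL (Fin 2) F × GL (Fin 2) F) ∈ PP2 (RR F) :=
    ⟨REE_le_RR he₂, REE_le_RR he₂, rfl⟩
  have m3 : ((e₀ * uS F, 1) : GL (Fin 2) F × GL (Fin 2) F) ∈ PP2 (RR F) :=
    ⟨hw, Subgroup.one_mem _, by simp [hdw]⟩
  have m4 : ((1, e₀ * uS F) : GL (Fin 2) F × GL (Fin 2) F) ∈ PP2 (RR F) :=
    ⟨Subgroup.one_mem _, hw, by simp [hdw]⟩
  refine ⟨⁅((e₁, e₁) : GL (Fin 2) F × GL (Fin 2) F), ((e₀ * uS F, 1) : GL (Fin 2) F × GL (Fin 2) F)⁆ *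
    ⁅((e₂, e₂) : GL (Fin 2) F × GL (Fin 2) F), ((1, e₀ * uS F) : GL (Fin 2) F × GL (Fin 2) F)⁆,
    Subgroup.mul_mem _ (Subgroup.commutator_mem_commutator m1 m3) (Subgroup.commutator_mem_commutator m2 m4), ?_⟩
  have e1 : ((A, C) : GL (Fin 2) F × GL (Fin 2) F) * (A, C) = (scal F (dd F A), scal F (dd F A)) *
      (⁅((e₁, e₁) : GL (Fin 2) F × GL (Fin 2) F), ((e₀ * uS F, 1) : GL (Fin 2) F × GL (Fin 2) F)⁆ *
      ⁅((e₂, e₂) : GL (Fin 2) F × GL (Fin 2) F), ((1, e₀ * uS F) : GL (Fin 2) F × GL (Fin 2) F)⁆) := by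
    refine Prod.ext ?_ ?_
    · simp [commutatorElement_def] at h1 ⊢
      rw [h1]
    · simp [commutatorElement_def] at h2 ⊢
      rw [h2]
  rw [e1, map_mul phi (scal F (dd F A), scal F (dd F A)) _, phi_scal, one_mul]

end torus

section count

variable {F : Type*} [Field F]

/-- A counting lemma. -/
theorem card_hom {G G' : Type*} [Group G] [Group G'] [Finite G] (H : Subgroup G) (f : G →* G') :
    Nat.card H = Nat.card ↥(H ⊓ f.ker) * Nat.card ↥(H.map f) := by
  let g : H →* G' := f.comp H.subtype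
  have h1 := Subgroup.card_mul_index g.ker
  rw [Subgroup.index_ker] at h1
  have h2 : g.range = H.map f := by
    rw [MonoidHom.range_comp, Subgroup.range_subtype]
  have h3 : Nat.card g.ker = Nat.card ↥(H ⊓ f.ker) := by
    have e : g.ker = f.ker.subgroupOf H := by
      ext x
      simp [g, Subgroup.mem_subgroupOf, MonoidHom.mem_ker]
    rw [e, inf_comm, ← Subgroup.subgroupOf_map_subtype, Subgroup.card_map_of_injective (Subgroup.subtype_injective _)]
  rw [h2, h3] at h1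
  exact h1.symm

/-- The special linear group as a kernel. -/
noncomputable abbrev SLg (F : Type*) [Field F] : Subgroup (GL (Fin 2) F) := (dd F).ker

theorem mem_SLg {g : GL (Fin 2) F} : g ∈ SLg F ↔ dd F g = 1 := MonoidHom.mem_ker

/-- Counting pairs. -/
theorem card_PP2 [Finite F] (H : Subgroup (GL (Fin 2) F)) :
    Nat.card (PP2 H) = Nat.card H * Nat.card ↥(H ⊓ SLg F) := by
  rw [← Nat.card_prod]
  refine Nat.card_congr ⟨fun p => (⟨p.1.1, p.2.1⟩, ⟨p.1.2 * p.1.1⁻¹, H.mul_mem p.2.2.1 (H.inv_mem p.2.1), ?_⟩),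
    fun x => ⟨(x.1.1, x.2.1 * x.1.1), x.1.2, H.mul_mem x.2.2.1 x.1.2, ?_⟩, ?_, ?_⟩
  · have h : dd F (p.1.2 * p.1.1⁻¹) = 1 := by
      rw [map_mul, map_inv, ← p.2.2.2]
      simp
    exact h
  · have := mem_SLg.1 x.2.2.2
    show dd F x.1.1 = dd F (x.2.1 * x.1.1)
    rw [map_mul, this, one_mul]
  · intro p
    apply Subtype.ext
    refine Prod.ext rfl ?_
    simp
  · intro x
    refine Prod.ext rfl ?_
    apply Subtype.ext
    simp

/-- The kernel of `phi`. -/
theorem phi_eq_one {p : GL (Fin 2) F × GL (Fin 2) F} (h : phi p = 1) :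
    ∃ δ : Fˣ, p = (scal F δ, scal F δ) := by
  obtain ⟨A, C⟩ := p
  have h1 : ∀ X Y : M2 F, (A : M2 F) * X * (A⁻¹ : GL (Fin 2) F) = X ∧ (C : M2 F) * Y * (A⁻¹ : GL (Fin 2) F) = Y := by
    intro X Y
    have := congrArg (fun g : OO F ≃ₗ[F] OO F => g (X, Y)) h
    simp only [phi_apply] at this
    exact ⟨congrArg Prod.fst this, congrArg Prod.snd this⟩
  have hAi : ((A⁻¹ : GL (Fin 2) F) : M2 F) * A = 1 := by rw [← Units.val_mul]; simp
  have hc : ∀ X : M2 F, (A : M2 F) * X = X * A := by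
    intro X
    calc (A : M2 F) * X = (A : M2 F) * X * (((A⁻¹ : GL (Fin 2) F) : M2 F) * A) := by rw [hAi, Matrix.mul_one]
      _ = ((A : M2 F) * X * (A⁻¹ : GL (Fin 2) F)) * A := by simp only [Matrix.mul_assoc]
      _ = X * A := by rw [(h1 X 0).1]
  have hCA : C = A := by
    apply Units.ext
    have h3 := (h1 0 1).2
    calc (C : M2 F) = ((C : M2 F) * 1 * (A⁻¹ : GL (Fin 2) F)) * A := by
          rw [Matrix.mul_one, Matrix.mul_assoc, hAi, Matrix.mul_one]
      _ = A := by rw [h3, Matrix.one_mul]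
  have e1 := hc !![1, 0; 0, 0]
  have e2 := hc !![0, 1; 0, 0]
  rw [Matrix.eta_fin_two (A : M2 F)] at e1 e2
  simp only [Matrix.mul_fin_two] at e1 e2
  have e10 := congrFun (congrFun e1 0) 1
  have e11 := congrFun (congrFun e1 1) 0
  have e20 := congrFun (congrFun e2 0) 1
  simp at e10 e11 e20
  set u := (A : M2 F) 0 0 with hu
  have hform : (A : M2 F) = u • (1 : M2 F) := by
    ext i j
    fin_cases i <;> fin_cases j <;> simp [Matrix.one_fin_two]
    · exact hu.symm
    · exact e10.symm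
    · exact e11
    · exact e20.symm
  have hu0 : u ≠ 0 := by
    intro h0
    rw [h0, zero_smul] at hform
    have := congrFun (congrFun hAi 0) 0
    rw [hform] at this
    simp at this
  refine ⟨Units.mk0 u hu0, ?_⟩
  have hA : A = scal F (Units.mk0 u hu0) := by
    apply Units.ext
    rw [scal_val, hform]
    simp
  rw [hCA, ← hA]

theorem phi_scal' {δ : Fˣ} : (scal F δ, scal F δ) ∈ (phi (F := F)).ker := phi_scal δ

/-- The scalars. -/
noncomputable abbrev ZZg (F : Type*) [Field F] : Subgroup (GL (Fin 2) F) := (scal F).range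

theorem scal_injective : Function.Injective (scal F) := by
  intro a b h
  have h1 := congrArg (fun g : GL (Fin 2) F => (g : M2 F) 0 0) h
  simp only [scal_val] at h1
  simp at h1
  exact Units.ext h1

theorem card_ker_PP2 [Finite F] (H : Subgroup (GL (Fin 2) F)) :
    Nat.card ↥(PP2 H ⊓ (phi (F := F)).ker) = Nat.card ↥(H ⊓ ZZg F) := by
  refine Nat.card_congr ⟨fun p => ⟨p.1.1, p.2.1.1, ?_⟩, fun z => ⟨(z.1, z.1), ⟨z.2.1, z.2.1, rfl⟩, ?_⟩, ?_, ?_⟩
  · obtain ⟨δ, hδ⟩ := phi_eq_one p.2.2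
    rw [hδ]
    exact ⟨δ, rfl⟩
  · obtain ⟨δ, hδ⟩ := z.2.2
    rw [← hδ]
    exact phi_scal' 
  · intro p
    apply Subtype.ext
    obtain ⟨δ, hδ⟩ := phi_eq_one p.2.2
    show (p.1.1, p.1.1) = p.1
    rw [hδ]
  · intro z
    rfl


/-- The `2`-elements of the field. -/
def ZZ2 (F : Type*) [Field F] : Subgroup Fˣ where
  carrier := {δ | ∃ k : ℕ, δ ^ (2 ^ k) = 1}
  one_mem' := ⟨0, by simp⟩
  mul_mem' := by
    rintro a b ⟨k, hk⟩ ⟨l, hl⟩
    refine ⟨k + l, ?_⟩
    rw [mul_pow, pow_add, pow_mul, hk, one_pow, one_mul, mul_comm, pow_mul, hl, one_pow]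
  inv_mem' := by
    rintro a ⟨k, hk⟩
    exact ⟨k, by rw [inv_pow, hk, inv_one]⟩

theorem mem_ZZ2 {δ : Fˣ} : δ ∈ ZZ2 F ↔ ∃ k : ℕ, δ ^ (2 ^ k) = 1 := Iff.rfl

/-- Sums of two squares. -/
theorem exists_two_sq [Fintype F] (hodd : Odd (Fintype.card F)) (δ : F) : ∃ c d : F, c * c + d * d = δ := by
  classical
  have h1 : (Polynomial.X ^ 2 : Polynomial F).degree = 2 := by
    simpa using Polynomial.degree_X_pow (R := F) 2
  have h2 : (Polynomial.X ^ 2 + Polynomial.C (-δ) : Polynomial F).degree = 2 := by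
    rw [Polynomial.degree_add_C]
    · simpa using Polynomial.degree_X_pow (R := F) 2
    · rw [Polynomial.degree_X_pow]
      norm_num
  obtain ⟨c, d, h⟩ := FiniteField.exists_root_sum_quadratic h1 h2 (Nat.odd_iff.mp hodd)
  refine ⟨c, d, ?_⟩
  simp only [Polynomial.eval_add, Polynomial.eval_pow, Polynomial.eval_X, Polynomial.eval_C] at h
  linear_combination h

/-- A torus element with a given determinant. -/
theorem exists_EE_det [Fintype F] (hodd : Odd (Fintype.card F)) (δ : Fˣ) : ∃ g ∈ EE F, dd F g = δ := by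
  obtain ⟨c, d, h⟩ := exists_two_sq hodd (δ : F)
  have hdet : (!![c, -d; d, c] : M2 F).det ≠ 0 := by
    rw [Matrix.det_fin_two_of]
    have : c * c - -d * d = δ := by rw [← h]; ring
    rw [this]
    exact δ.ne_zero
  let g : GL (Fin 2) F := Matrix.GeneralLinearGroup.mkOfDetNeZero _ hdet
  refine ⟨g, mem_EE_of_form (u := c) (v := d) rfl, ?_⟩
  apply Units.ext
  rw [dd_val]
  show (!![c, -d; d, c] : M2 F).det = _
  rw [Matrix.det_fin_two_of, ← h]
  ring

/-- Determinants of `2`-elements of the torus. -/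
theorem exists_REE_det [Fintype F] (hodd : Odd (Fintype.card F)) {δ : Fˣ} (hδ : δ ∈ ZZ2 F) :
    ∃ e ∈ REE F, dd F e = δ := by
  obtain ⟨s, hs⟩ := hδ
  obtain ⟨g, hg, hgδ⟩ := exists_EE_det hodd δ
  have hord : orderOf g ≠ 0 := (orderOf_pos g).ne'
  obtain ⟨k, m, hm, hkm⟩ := Nat.exists_eq_two_pow_mul_odd hord
  have hco : Nat.Coprime m (2 ^ (s + 1)) := (Nat.coprime_two_right.2 hm).pow_right _
  obtain ⟨m', hm'⟩ := Nat.exists_mul_mod_eq_one_of_coprime hco (by
    have : 1 ≤ 2 ^ s := Nat.one_le_two_pow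
    rw [pow_succ]
    omega)
  refine ⟨g ^ (m * m'), ⟨Subgroup.pow_mem _ hg _, k, ?_⟩, ?_⟩
  · rw [← pow_mul]
    have e : m * m' * 2 ^ k = orderOf g * m' := by rw [hkm]; ring
    rw [e, pow_mul, pow_orderOf_eq_one, one_pow]
  · rw [map_pow, hgδ]
    have hs1 : δ ^ (2 ^ (s + 1)) = 1 := by
      rw [pow_succ, pow_mul, hs, one_pow]
    rw [← Nat.div_add_mod (m * m') (2 ^ (s + 1)), hm'.2, pow_add, pow_mul, hs1, one_pow, one_mul, pow_one]

/-- The element `e₀`. -/
theorem exists_e0 [Fintype F] (hodd : Odd (Fintype.card F)) : ∃ e₀ ∈ REE F, dd F e₀ = -1 :=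
  exists_REE_det hodd ⟨1, by simp⟩

theorem dd_RR {A : GL (Fin 2) F} (hA : A ∈ RR F) : dd F A ∈ ZZ2 F := by
  have hneg : (-1 : Fˣ) ∈ ZZ2 F := ⟨1, by simp⟩
  have h : ∀ e ∈ REE F, dd F e ∈ ZZ2 F := by
    rintro e ⟨-, k, hk⟩
    exact ⟨k, by rw [← map_pow, hk, map_one]⟩
  rcases hA with hA | hA
  · exact h A hA
  · have := h _ hA
    rw [map_mul, dd_uS] at this
    have h2 := (ZZ2 F).mul_mem this hneg
    simpa using h2

theorem map_dd_RR [Fintype F] (hodd : Odd (Fintype.card F)) : (RR F).map (dd F) = ZZ2 F := by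
  ext δ
  constructor
  · rintro ⟨A, hA, rfl⟩
    exact dd_RR hA
  · intro h
    obtain ⟨e, he, hed⟩ := exists_REE_det hodd h
    exact ⟨e, REE_le_RR he, hed⟩

theorem uS_not_EE (h2 : (2 : F) ≠ 0) : uS F ∉ EE F := by
  intro h
  obtain ⟨u, v, hf⟩ := EE_form h
  have h3 : (uS F : M2 F) = !![1, 0; 0, -1] := rfl
  rw [h3] at hf
  have e1 := congrFun (congrFun hf 0) 0
  have e2 := congrFun (congrFun hf 1) 1
  simp at e1 e2
  apply h2
  have : (1 : F) = -1 := e1.trans e2.symm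
  linear_combination this

theorem map_scal_RR (h2 : (2 : F) ≠ 0) : RR F ⊓ ZZg F = (ZZ2 F).map (scal F) := by
  have hscalE : ∀ δ : Fˣ, scal F δ ∈ EE F := by
    intro δ
    refine mem_EE_of_form (u := δ) (v := 0) ?_
    rw [scal_val]
    ext i j
    fin_cases i <;> fin_cases j <;> simp
  ext g
  constructor
  · rintro ⟨hg, δ, rfl⟩
    refine ⟨δ, ?_, rfl⟩
    rcases hg with hg | hg
    · obtain ⟨-, k, hk⟩ := hg
      refine ⟨k, ?_⟩
      apply scal_injective
      rw [map_pow, hk, map_one]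
    · exfalso
      have h3 := hg.1
      apply uS_not_EE h2
      have := Subgroup.mul_mem _ (Subgroup.inv_mem _ (hscalE δ)) h3
      rwa [inv_mul_cancel_left] at this
  · rintro ⟨δ, ⟨k, hk⟩, rfl⟩
    refine ⟨Or.inl ⟨hscalE δ, k, ?_⟩, δ, rfl⟩
    rw [← map_pow, hk, map_one]

theorem card_RR_ZZ (h2 : (2 : F) ≠ 0) : Nat.card ↥(RR F ⊓ ZZg F) = Nat.card (ZZ2 F) := by
  rw [map_scal_RR h2, Subgroup.card_map_of_injective scal_injective]

/-- The order of the image of the model. -/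
theorem card_model [Fintype F] (hodd : Odd (Fintype.card F)) :
    Nat.card ((PP2 (RR F)).map phi) = Nat.card ↥(RR F ⊓ SLg F) ^ 2 := by
  have h2 : (2 : F) ≠ 0 := Cfsg.Agent.Lib.OrthNeg.two_ne_zero_of_odd rfl hodd
  have h1 := card_hom (PP2 (RR F)) (phi (F := F))
  rw [card_ker_PP2, card_RR_ZZ h2, card_PP2] at h1
  have h3 := card_hom (RR F) (dd F)
  rw [map_dd_RR hodd] at h3
  rw [h3] at h1
  have hpos : 0 < Nat.card (ZZ2 F) := Nat.card_pos
  have h4 : Nat.card (ZZ2 F) * Nat.card ((PP2 (RR F)).map phi) = Nat.card (ZZ2 F) * Nat.card ↥(RR F ⊓ SLg F) ^ 2 := by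
    rw [← h1]
    ring
  exact Nat.eq_of_mul_eq_mul_left hpos h4

/-- The order of the image of all pairs. -/
theorem card_big [Fintype F] (hodd : Odd (Fintype.card F)) :
    Nat.card ((PP2 (⊤ : Subgroup (GL (Fin 2) F))).map phi) = Nat.card (SLg F) ^ 2 := by
  have h1 := card_hom (PP2 (⊤ : Subgroup (GL (Fin 2) F))) (phi (F := F))
  rw [card_ker_PP2, card_PP2] at h1
  have h3 := card_hom (⊤ : Subgroup (GL (Fin 2) F)) (dd F)
  have htop : (⊤ : Subgroup (GL (Fin 2) F)).map (dd F) = ⊤ := by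
    rw [← MonoidHom.range_eq_map, MonoidHom.range_eq_top]
    intro δ
    obtain ⟨g, -, hg⟩ := exists_EE_det hodd δ
    exact ⟨g, hg⟩
  have e1 : (⊤ : Subgroup (GL (Fin 2) F)) ⊓ (dd F).ker = SLg F := top_inf_eq _
  rw [htop, e1] at h3
  simp only [Subgroup.card_top] at h3
  have e2 : (⊤ : Subgroup (GL (Fin 2) F)) ⊓ ZZg F = ZZg F := top_inf_eq _
  have e3 : (⊤ : Subgroup (GL (Fin 2) F)) ⊓ SLg F = SLg F := top_inf_eq _
  rw [e2, e3] at h1
  simp only [Subgroup.card_top] at h1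
  rw [h3] at h1
  have e4 : Nat.card (ZZg F) = Nat.card Fˣ := by
    rw [Nat.card_congr (MonoidHom.ofInjective (scal_injective (F := F))).toEquiv.symm]
  rw [e4] at h1
  have hpos : 0 < Nat.card Fˣ := Nat.card_pos
  have h4 : Nat.card Fˣ * Nat.card ((PP2 (⊤ : Subgroup (GL (Fin 2) F))).map phi) = Nat.card Fˣ * Nat.card (SLg F) ^ 2 := by
    rw [← h1]
    ring
  exact Nat.eq_of_mul_eq_mul_left hpos h4

end count

section final

variable {F : Type*} [Field F]

/-- A `2`-subgroup which is maximal in the centralizer of a central element, whose normalizer centralizes the element, is a Sylow subgroup. -/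
theorem sylow_eq_of_center {G : Type*} [Group G] [Finite G] {D C : Subgroup G} {t : G}
    (hmax : ∀ H : Subgroup G, H ≤ C → IsPGroup 2 H → D ≤ H → H = D)
    (hcent : ∀ y : G, y * t = t * y → y ∈ C)
    (hnorm : ∀ y ∈ Subgroup.normalizer (D : Set G), y * t = t * y) (hDC : D ≤ C)
    (P : Sylow 2 G) (hP : D ≤ P) : (P : Subgroup G) = D := by
  haveI : Fact (Nat.Prime 2) := ⟨Nat.prime_two⟩
  by_contra hne
  set P' : Subgroup G := (P : Subgroup G) with hP'
  have hnil : Group.IsNilpotent ↥P' := P.isPGroup'.isNilpotent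
  have hcond := normalizerCondition_iff_only_full_group_self_normalizing.1 (normalizerCondition_of_isNilpotent (G := ↥P'))
  set D' : Subgroup ↥P' := D.subgroupOf P' with hD'
  have hD'top : D' ≠ ⊤ := by
    intro h
    apply hne
    apply le_antisymm _ hP
    intro x hx
    have : (⟨x, hx⟩ : ↥P') ∈ D' := by rw [h]; trivial
    exact this
  have hn : Subgroup.normalizer (D' : Set ↥P') ≠ D' := fun h => hD'top (hcond D' h)
  obtain ⟨y, hy, hyD⟩ : ∃ y ∈ Subgroup.normalizer (D' : Set ↥P'), y ∉ D' := by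
    by_contra hall
    push Not at hall
    exact hn (le_antisymm hall Subgroup.le_normalizer)
  have hyn : y.1 ∈ Subgroup.normalizer (D : Set G) := by
    rw [Subgroup.mem_normalizer_iff] at hy ⊢
    intro g
    constructor
    · intro hg
      have h1 : (⟨g, hP hg⟩ : ↥P') ∈ D' := hg
      have h2 := (hy _).1 h1
      exact h2
    · intro hg
      have hgP : g ∈ P' := by
        have h3 := P'.mul_mem (P'.mul_mem (P'.inv_mem y.2) (hP hg)) y.2
        have e : y.1⁻¹ * (y.1 * g * y.1⁻¹) * y.1 = g := by group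
        rwa [e] at h3
      have h4 : y * (⟨g, hgP⟩ : ↥P') * y⁻¹ ∈ D' := hg
      exact (hy _).2 h4
  have hyC : y.1 ∈ C := hcent _ (hnorm _ hyn)
  have hsup : D ⊔ Subgroup.zpowers y.1 = D := by
    apply hmax
    · exact sup_le hDC (by rwa [Subgroup.zpowers_le])
    · have hle : D ⊔ Subgroup.zpowers y.1 ≤ P' := sup_le hP (by rw [Subgroup.zpowers_le]; exact y.2)
      exact P.isPGroup'.to_le hle
    · exact le_sup_left
  apply hyD
  show y.1 ∈ D
  rw [← hsup]
  exact (le_sup_right : Subgroup.zpowers y.1 ≤ _) (Subgroup.mem_zpowers _)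


theorem card_R1 [Fintype F] (hodd : Odd (Fintype.card F)) {e₀ : GL (Fin 2) F} (he₀ : e₀ ∈ REE F) (hd : dd F e₀ = -1) :
    Nat.card ↥(RR F ⊓ SLg F) = 2 * Nat.card ↥(REE F ⊓ SLg F) := by
  have h2 : (2 : F) ≠ 0 := Cfsg.Agent.Lib.OrthNeg.two_ne_zero_of_odd rfl hodd
  have hdw : dd F (e₀ * uS F) = 1 := by
    rw [map_mul, hd, dd_uS]
    simp
  refine Cfsg.Agent.Lib.GLSyl99.card_eq_two_mul (inf_le_inf_right _ REE_le_RR) (w := e₀ * uS F)
    ⟨Subgroup.mul_mem _ (REE_le_RR he₀) uS_RR, hdw⟩ ?_ ?_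
  · rintro ⟨h, -⟩
    apply uS_not_EE h2
    have := Subgroup.mul_mem _ (Subgroup.inv_mem _ he₀.1) h.1
    rwa [inv_mul_cancel_left] at this
  · rintro g ⟨hg | hg, hg1⟩
    · exact Or.inl ⟨hg, hg1⟩
    · right
      refine ⟨?_, ?_⟩
      · have e : (e₀ * uS F)⁻¹ * g = uS F * (e₀⁻¹ * (g * uS F)) * uS F := by
          rw [_root_.mul_inv_rev, uS_inv]
          calc uS F * e₀⁻¹ * g = uS F * e₀⁻¹ * g * (uS F * uS F) := by rw [uS_sq, mul_one]
            _ = _ := by group
        rw [e]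
        exact uS_conj_REE (Subgroup.mul_mem _ (Subgroup.inv_mem _ he₀) hg)
      · have hg2 : dd F g = 1 := hg1
        show dd F ((e₀ * uS F)⁻¹ * g) = 1
        rw [map_mul, map_inv, hdw, hg2]
        simp

theorem card_T [Finite F] : Nat.card ↥(REE F ⊓ SLg F) = 2 ^ (Nat.card ↥(EE F ⊓ SLg F)).factorization 2 := by
  haveI : Fact (Nat.Prime 2) := ⟨Nat.prime_two⟩
  set E₁ := EE F ⊓ SLg F with hE₁
  have hle : REE F ⊓ SLg F ≤ E₁ := inf_le_inf_right _ (fun _ h => h.1)
  let S₁ : Sylow 2 ↥E₁ := default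
  have hp : IsPGroup 2 ((REE F ⊓ SLg F).subgroupOf E₁) := by
    rintro ⟨y, hy⟩
    obtain ⟨-, k, hk⟩ := hy.1
    refine ⟨k, ?_⟩
    apply Subtype.ext
    apply Subtype.ext
    exact hk
  have hS : (S₁ : Subgroup ↥E₁) ≤ (REE F ⊓ SLg F).subgroupOf E₁ := by
    intro x hx
    obtain ⟨k, hk⟩ := S₁.isPGroup' ⟨x, hx⟩
    have hk' : (x.1) ^ 2 ^ k = 1 := by
      have := congrArg (fun z : (S₁ : Subgroup ↥E₁) => (z.1.1 : GL (Fin 2) F)) hk
      exact this
    exact ⟨⟨x.2.1, k, hk'⟩, x.2.2⟩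
  have he := S₁.is_maximal' hp hS
  have h1 : Nat.card ↥((REE F ⊓ SLg F).subgroupOf E₁) = Nat.card ↥(REE F ⊓ SLg F) :=
    Nat.card_congr (Subgroup.subgroupOfEquivOfLe hle).toEquiv
  rw [← h1, he, S₁.card_eq_multiplicity]

/-- The points of the circle. -/
abbrev C1 (F : Type*) [Field F] := {p : F × F // p.1 * p.1 + p.2 * p.2 = 1}

theorem card_E1 [Finite F] : Nat.card ↥(EE F ⊓ SLg F) = Nat.card (C1 F) := by
  have key : ∀ g : ↥(EE F ⊓ SLg F), (g.1 : M2 F) 0 0 * (g.1 : M2 F) 0 0 + (g.1 : M2 F) 1 0 * (g.1 : M2 F) 1 0 = 1 ∧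
      (g.1 : M2 F) = !![(g.1 : M2 F) 0 0, -(g.1 : M2 F) 1 0; (g.1 : M2 F) 1 0, (g.1 : M2 F) 0 0] := by
    intro g
    obtain ⟨u, v, h⟩ := EE_form g.2.1
    have h1 : dd F g.1 = 1 := g.2.2
    have h3 := congrArg Units.val h1
    rw [dd_val, h, Matrix.det_fin_two_of] at h3
    rw [h]
    simp only [Matrix.of_apply, Matrix.cons_val', Matrix.cons_val_zero, Matrix.cons_val_one, Matrix.cons_val_fin_one]
    refine ⟨?_, by simp⟩
    simp at h3 ⊢
    linear_combination h3
  refine Nat.card_eq_of_bijective (fun g => ⟨((g.1 : M2 F) 0 0, (g.1 : M2 F) 1 0), (key g).1⟩) ⟨?_, ?_⟩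
  · intro g g' hgg
    have h1 := congrArg Subtype.val hgg
    simp only [Prod.mk.injEq] at h1
    apply Subtype.ext
    apply Units.ext
    rw [(key g).2, (key g').2, h1.1, h1.2]
  · rintro ⟨⟨a, b⟩, hab⟩
    simp only at hab
    have hdet : (!![a, -b; b, a] : M2 F).det ≠ 0 := by
      rw [Matrix.det_fin_two_of]
      have : a * a - -b * b = 1 := by rw [← hab]; ring
      rw [this]
      exact one_ne_zero
    let g : GL (Fin 2) F := Matrix.GeneralLinearGroup.mkOfDetNeZero _ hdet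
    have hg : g ∈ EE F ⊓ SLg F := by
      refine ⟨mem_EE_of_form (u := a) (v := b) rfl, ?_⟩
      apply Units.ext
      show (!![a, -b; b, a] : M2 F).det = 1
      rw [Matrix.det_fin_two_of, ← hab]
      ring
    refine ⟨⟨g, hg⟩, ?_⟩
    apply Subtype.ext
    rfl

theorem card_SOP [Fintype F] (hodd : Odd (Fintype.card F)) : Nat.card (SOP F) = Nat.card (C1 F) := by
  have h2 : (2 : F) ≠ 0 := Cfsg.Agent.Lib.OrthNeg.two_ne_zero_of_odd rfl hodd
  have key : ∀ d : ↥(SOP F), ∀ x y, d.1 (x, y) = (x * (d.1 (1, 0)).1 - y * (d.1 (1, 0)).2, x * (d.1 (1, 0)).2 + y * (d.1 (1, 0)).1) := by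
    intro d
    obtain ⟨a, b, hab, h⟩ := plane_O_form h2 d.2.1
    have hdet := mem_SLV_iff.1 d.2.2
    rcases h with ⟨h1, h⟩ | ⟨h1, h⟩
    · have e := h 1 0
      simp only [one_mul, zero_mul, sub_zero, add_zero] at e
      rw [e]
      exact h
    · exfalso
      rw [hdet] at h1
      apply h2
      linear_combination h1
  have hNN : ∀ d : ↥(SOP F), (d.1 (1, 0)).1 * (d.1 (1, 0)).1 + (d.1 (1, 0)).2 * (d.1 (1, 0)).2 = 1 := by
    intro d
    have := d.2.1 (1, 0)
    rw [NN_apply, NN_apply] at this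
    simpa using this
  refine Nat.card_eq_of_bijective (fun d => ⟨d.1 (1, 0), hNN d⟩) ⟨?_, ?_⟩
  · intro d d' hdd
    have h1 : d.1 (1, 0) = d'.1 (1, 0) := congrArg Subtype.val hdd
    apply Subtype.ext
    apply LinearEquiv.ext
    rintro ⟨x, y⟩
    rw [key d, key d', h1]
  · rintro ⟨⟨a, b⟩, hab⟩
    simp only at hab
    let r : (F × F) ≃ₗ[F] (F × F) :=
      { toFun := fun v => (v.1 * a - v.2 * b, v.1 * b + v.2 * a)
        invFun := fun v => (v.1 * a + v.2 * b, -v.1 * b + v.2 * a)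
        map_add' := by
          intro x y
          ext <;> simp <;> ring
        map_smul' := by
          intro c x
          ext <;> simp <;> ring
        left_inv := by
          intro x
          ext
          · simp
            linear_combination x.1 * hab
          · simp
            linear_combination x.2 * hab
        right_inv := by
          intro x
          ext
          · simp
            linear_combination x.1 * hab
          · simp
            linear_combination x.2 * hab }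
    have hr : r ∈ SOP F := by
      refine ⟨?_, ?_⟩
      · intro v
        rw [NN_apply, NN_apply]
        show (v.1 * a - v.2 * b) * (v.1 * a - v.2 * b) + (v.1 * b + v.2 * a) * (v.1 * b + v.2 * a) = _
        linear_combination (v.1 * v.1 + v.2 * v.2) * hab
      · show r ∈ SLV F (F × F)
        rw [mem_SLV_iff, det_plane]
        show (1 * a - 0 * b) * (0 * b + 1 * a) - (0 * a - 1 * b) * (1 * b + 0 * a) = 1
        linear_combination hab
    refine ⟨⟨r, hr⟩, ?_⟩
    apply Subtype.ext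
    show ((1 : F) * a - 0 * b, (1 : F) * b + 0 * a) = (a, b)
    simp

theorem val_SOP [Fintype F] (hodd : Odd (Fintype.card F)) :
    padicValNat 2 (Nat.card (SOP F)) + 1 = e0 (Fintype.card F) := by
  classical
  haveI : Fact (Nat.Prime 2) := ⟨Nat.prime_two⟩
  have h2 : (2 : F) ≠ 0 := Cfsg.Agent.Lib.OrthNeg.two_ne_zero_of_odd rfl hodd
  haveI : Finite ((F × F) ≃ₗ[F] (F × F)) := finite_aut
  have h3 : Nat.card ↥(Cfsg.Agent.Lib.OrthGroup.O (NN F)) = 2 * Nat.card (SOP F) := by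
    refine card_eq_two_mul inf_le_left (w := rhoP F) rhoP_mem ?_ ?_
    · intro hw
      have h4 := mem_SLV_iff.1 hw.2
      rw [rhoP_det] at h4
      have : (2 : F) = 0 := by linear_combination -h4
      exact h2 this
    · intro g hg
      obtain ⟨a, b, -, ⟨h4, -⟩ | ⟨h4, -⟩⟩ := plane_O_form h2 hg
      · exact Or.inl ⟨hg, mem_SLV_iff.2 h4⟩
      · right
        have hρinv : (rhoP F)⁻¹ = rhoP F := by rw [inv_eq_iff_mul_eq_one]; exact rhoP_sq
        rw [hρinv]
        refine ⟨(Cfsg.Agent.Lib.OrthGroup.O (NN F)).mul_mem rhoP_mem hg, mem_SLV_iff.2 ?_⟩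
        rw [det_mul', rhoP_det, h4]
        ring
  have h5 := val_card_O_NN hodd
  rw [h3, padicValNat.mul (by norm_num) Nat.card_pos.ne', padicValNat_self] at h5
  omega

theorem card_R1' [Fintype F] (hodd : Odd (Fintype.card F)) :
    Nat.card ↥(RR F ⊓ SLg F) = 2 ^ e0 (Fintype.card F) := by
  obtain ⟨e₀, he₀, hd⟩ := exists_e0 hodd
  rw [card_R1 hodd he₀ hd, card_T, card_E1, ← card_SOP hodd, Nat.factorization_def _ Nat.prime_two, ← val_SOP hodd, pow_succ]
  ring

theorem card_SLg [Fintype F] (hodd : Odd (Fintype.card F)) :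
    Nat.card (SLg F) = (Fintype.card F + 1) * Fintype.card F * (Fintype.card F - 1) := by
  classical
  have h3 := card_hom (⊤ : Subgroup (GL (Fin 2) F)) (dd F)
  have htop : (⊤ : Subgroup (GL (Fin 2) F)).map (dd F) = ⊤ := by
    rw [← MonoidHom.range_eq_map, MonoidHom.range_eq_top]
    intro δ
    obtain ⟨g, -, hg⟩ := exists_EE_det hodd δ
    exact ⟨g, hg⟩
  have e1 : (⊤ : Subgroup (GL (Fin 2) F)) ⊓ (dd F).ker = SLg F := top_inf_eq _
  rw [htop, e1] at h3
  simp only [Subgroup.card_top] at h3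
  rw [Matrix.card_GL_field 2, Fin.prod_univ_two, Nat.card_eq_fintype_card (α := Fˣ), Fintype.card_units] at h3
  have hq1 : 1 < Fintype.card F := Fintype.one_lt_card
  obtain ⟨q, hq⟩ : ∃ q, Fintype.card F = q + 2 := ⟨Fintype.card F - 2, by omega⟩
  rw [hq] at h3 ⊢
  simp only [Fin.val_zero, Fin.val_one, pow_zero, pow_one] at h3
  have e2 : (q + 2) ^ 2 - 1 = (q + 2 + 1) * (q + 1) := by
    zify
    rw [Nat.cast_sub (Nat.one_le_pow _ _ (by omega))]
    push_cast
    ring
  have e3 : (q + 2) ^ 2 - (q + 2) = (q + 2) * (q + 1) := by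
    zify
    rw [Nat.cast_sub (by nlinarith)]
    push_cast
    ring
  rw [e2, e3] at h3
  have e4 : q + 2 - 1 = q + 1 := by omega
  rw [e4] at h3 ⊢
  have h5 : (q + 1) * ((q + 2 + 1) * (q + 2) * (q + 1)) = (q + 1) * Nat.card (SLg F) := by
    rw [mul_comm (q + 1) (Nat.card (SLg F)), ← h3]
    ring
  exact (Nat.eq_of_mul_eq_mul_left (by omega) h5).symm

theorem val_SLg [Fintype F] (hodd : Odd (Fintype.card F)) :
    padicValNat 2 (Nat.card (SLg F)) = e0 (Fintype.card F) := by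
  haveI : Fact (Nat.Prime 2) := ⟨Nat.prime_two⟩
  have hq1 : 1 < Fintype.card F := Fintype.one_lt_card
  rw [card_SLg hodd, padicValNat.mul (by positivity) (by omega), padicValNat.mul (by positivity) (by omega)]
  have : padicValNat 2 (Fintype.card F) = 0 := padicValNat.eq_zero_of_not_dvd hodd.not_two_dvd_nat
  rw [this, e0]
  ring

end final

section assembly

variable {F : Type*} [Field F]

theorem phi_inj_fst {P P' C : GL (Fin 2) F} (h : phi (P, C) = phi (P', C)) : P = P' := by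
  have h1 : phi ((P, C) * (P', C)⁻¹) = 1 := by
    rw [map_mul, map_inv, h, mul_inv_cancel]
  obtain ⟨δ, hδ⟩ := phi_eq_one h1
  have e1 := congrArg Prod.fst hδ
  have e2 := congrArg Prod.snd hδ
  simp only [Prod.fst_mul, Prod.fst_inv, Prod.snd_mul, Prod.snd_inv, mul_inv_cancel] at e1 e2
  rw [← e2] at e1
  exact mul_inv_eq_one.1 e1

theorem phi_inj_snd {A C C' : GL (Fin 2) F} (h : phi (A, C) = phi (A, C')) : C = C' := by
  have h1 : phi ((A, C) * (A, C')⁻¹) = 1 := by
    rw [map_mul, map_inv, h, mul_inv_cancel]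
  obtain ⟨δ, hδ⟩ := phi_eq_one h1
  have e1 := congrArg Prod.fst hδ
  have e2 := congrArg Prod.snd hδ
  simp only [Prod.fst_mul, Prod.fst_inv, Prod.snd_mul, Prod.snd_inv, mul_inv_cancel] at e1 e2
  rw [← e1] at e2
  exact mul_inv_eq_one.1 e2

theorem central_scalar (h2 : (2 : F) ≠ 0) {e₀ : GL (Fin 2) F} (he₀ : e₀ ∈ EE F) {A : GL (Fin 2) F}
    (hJ : A * uJ F = uJ F * A) (hw : A * (e₀ * uS F) = (e₀ * uS F) * A) : ∃ δ : Fˣ, A = scal F δ := by
  have hAE : A ∈ EE F := by
    rw [EE, Subgroup.mem_centralizer_singleton_iff]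
    exact hJ
  have h1 : A * uS F = uS F * A := by
    have e1 : A * e₀ = e₀ * A := EE_comm hAE he₀
    have e2 : e₀ * (A * uS F) = e₀ * (uS F * A) := by
      calc e₀ * (A * uS F) = (e₀ * A) * uS F := by group
        _ = (A * e₀) * uS F := by rw [e1]
        _ = A * (e₀ * uS F) := by group
        _ = (e₀ * uS F) * A := hw
        _ = e₀ * (uS F * A) := by group
    exact mul_left_cancel e2
  obtain ⟨u, v, hf⟩ := EE_form hAE
  have h3 := congrArg Units.val h1
  simp only [Units.val_mul] at h3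
  rw [hf] at h3
  have h4 : (uS F : M2 F) = !![1, 0; 0, -1] := rfl
  rw [h4] at h3
  simp only [Matrix.mul_fin_two] at h3
  have e01 := congrFun (congrFun h3 0) 1
  simp at e01
  have hv : v = 0 := by
    have : (2 : F) * v = 0 := by linear_combination e01
    exact (mul_eq_zero.1 this).resolve_left h2
  subst hv
  have hAu : (A : M2 F) = u • (1 : M2 F) := by
    rw [hf]
    ext i j
    fin_cases i <;> fin_cases j <;> simp
  have hu : u ≠ 0 := by
    intro h0
    have hA1 : (A : M2 F) * ((A⁻¹ : GL (Fin 2) F) : M2 F) = 1 := by rw [← Units.val_mul]; simp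
    rw [hAu, h0, zero_smul, Matrix.zero_mul] at hA1
    have := congrFun (congrFun hA1 0) 0
    simp at this
  refine ⟨Units.mk0 u hu, ?_⟩
  apply Units.ext
  rw [scal_val, hAu]
  simp

theorem center_model (h2 : (2 : F) ≠ 0) {e₀ : GL (Fin 2) F} (he₀ : e₀ ∈ REE F) (hd : dd F e₀ = -1)
    {p : GL (Fin 2) F × GL (Fin 2) F} (hp : p ∈ PP2 (RR F))
    (hc : ∀ q ∈ PP2 (RR F), phi p * phi q = phi q * phi p) : phi p = 1 ∨ phi p = tt F := by
  obtain ⟨A, C⟩ := p
  obtain ⟨-, -, hdet⟩ := hp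
  simp only at hdet
  have hw : e₀ * uS F ∈ RR F := Subgroup.mul_mem _ (REE_le_RR he₀) uS_RR
  have hdw : dd F (e₀ * uS F) = 1 := by
    rw [map_mul, hd, dd_uS]
    simp
  have hJ : uJ F ∈ RR F := REE_le_RR uJ_REE
  have mem1 : ∀ B, B ∈ RR F → dd F B = 1 → ((B, 1) : GL (Fin 2) F × GL (Fin 2) F) ∈ PP2 (RR F) := fun B hB hdB =>
    ⟨hB, Subgroup.one_mem _, by simp [hdB]⟩
  have mem2 : ∀ B, B ∈ RR F → dd F B = 1 → ((1, B) : GL (Fin 2) F × GL (Fin 2) F) ∈ PP2 (RR F) := fun B hB hdB =>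
    ⟨Subgroup.one_mem _, hB, by simp [hdB]⟩
  have c1 : ∀ B, B ∈ RR F → dd F B = 1 → A * B = B * A := by
    intro B hB hdB
    have := hc _ (mem1 B hB hdB)
    rw [← map_mul, ← map_mul, Prod.mk_mul_mk, Prod.mk_mul_mk, mul_one, one_mul] at this
    exact phi_inj_fst this
  have c2 : ∀ B, B ∈ RR F → dd F B = 1 → C * B = B * C := by
    intro B hB hdB
    have := hc _ (mem2 B hB hdB)
    rw [← map_mul, ← map_mul, Prod.mk_mul_mk, Prod.mk_mul_mk, mul_one, one_mul] at this
    exact phi_inj_snd this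
  obtain ⟨δ₁, h₁⟩ := central_scalar h2 he₀.1 (c1 _ hJ dd_uJ) (c1 _ hw hdw)
  obtain ⟨δ₂, h₂⟩ := central_scalar h2 he₀.1 (c2 _ hJ dd_uJ) (c2 _ hw hdw)
  subst h₁ h₂
  rw [dd_scal, dd_scal] at hdet
  have h3 : ((δ₁ : F) - δ₂) * ((δ₁ : F) + δ₂) = 0 := by
    have := congrArg Units.val hdet
    simp only [Units.val_mul] at this
    linear_combination this
  rcases mul_eq_zero.1 h3 with h4 | h4
  · left
    have : δ₁ = δ₂ := Units.ext (by linear_combination h4)
    subst this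
    exact phi_scal _
  · right
    have : δ₂ = δ₁ * (-1) := Units.ext (by
      simp only [Units.val_mul, Units.val_neg, Units.val_one]
      linear_combination h4)
    subst this
    have e : ((scal F δ₁, scal F (δ₁ * (-1))) : GL (Fin 2) F × GL (Fin 2) F) =
        (scal F δ₁, scal F δ₁) * ((1 : GL (Fin 2) F), (-1 : GL (Fin 2) F)) := by
      rw [map_mul, scal_neg_one]
      simp
    rw [e, map_mul, phi_scal, one_mul]
    rfl

theorem tt_central {p : GL (Fin 2) F × GL (Fin 2) F} : phi p * tt F = tt F * phi p := by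
  obtain ⟨A, C⟩ := p
  show phi (A, C) * phi ((1 : GL (Fin 2) F), (-1 : GL (Fin 2) F)) = phi ((1 : GL (Fin 2) F), (-1 : GL (Fin 2) F)) * phi (A, C)
  rw [← map_mul, ← map_mul]
  simp

theorem tt_ne_one (h2 : (2 : F) ≠ 0) : tt F ≠ 1 := by
  intro h
  have h1 := congrArg (fun g : OO F ≃ₗ[F] OO F => g (0, 1)) h
  simp only [tt_apply] at h1
  have h3 := congrFun (congrFun (congrArg Prod.snd h1) 0) 0
  simp at h3
  apply h2
  linear_combination -h3

theorem tt_mem_model : ((1 : GL (Fin 2) F), (-1 : GL (Fin 2) F)) ∈ PP2 (RR F) := by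
  refine ⟨Subgroup.one_mem _, ?_, ?_⟩
  · rw [← uJ_sq]
    exact Subgroup.mul_mem _ (REE_le_RR uJ_REE) (REE_le_RR uJ_REE)
  · show dd F 1 = dd F (-1)
    rw [← uJ_sq, map_mul, dd_uJ]
    simp

variable [Fintype F]

/-- The main result in the double. -/
theorem main_good (hodd : Odd (Fintype.card F)) (P : Sylow 2 (autO F)) : GoodSub (P : Subgroup (autO F)) := by
  classical
  haveI : Fact (Nat.Prime 2) := ⟨Nat.prime_two⟩
  have h2 : (2 : F) ≠ 0 := Cfsg.Agent.Lib.OrthNeg.two_ne_zero_of_odd rfl hodd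
  haveI : Finite (OO F ≃ₗ[F] OO F) := finite_aut
  obtain ⟨e₀, he₀, hd⟩ := exists_e0 hodd
  set D := (PP2 (RR F)).map phi with hD
  set C := (PP2 (⊤ : Subgroup (GL (Fin 2) F))).map phi with hC
  have hmemA : ∀ {H : Subgroup (GL (Fin 2) F)} {p}, p ∈ PP2 H → phi p ∈ autO F := by
    rintro H ⟨A, B⟩ ⟨-, -, h⟩
    exact phi_mem (congrArg Units.val h)
  have hDA : D ≤ autO F := by
    rintro _ ⟨p, hp, rfl⟩
    exact hmemA hp
  have hCA : C ≤ autO F := by
    rintro _ ⟨p, hp, rfl⟩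
    exact hmemA hp
  have hDC : D ≤ C := by
    rintro _ ⟨p, hp, rfl⟩
    exact ⟨p, ⟨trivial, trivial, hp.2.2⟩, rfl⟩
  have hcardD : Nat.card D = 2 ^ (2 * e0 (Fintype.card F)) := by
    rw [hD, card_model hodd, card_R1' hodd, ← pow_mul, mul_comm]
  have hcardC : Nat.card C = Nat.card (SLg F) ^ 2 := card_big hodd
  have hpD : IsPGroup 2 D := IsPGroup.of_card hcardD
  have htt : tt F ∈ autO F := hDA ⟨_, tt_mem_model, rfl⟩
  set D' := D.subgroupOf (autO F) with hD'
  set C' := C.subgroupOf (autO F) with hC'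
  let t' : autO F := ⟨tt F, htt⟩
  have hcD' : Nat.card D' = Nat.card D := Nat.card_congr (Subgroup.subgroupOfEquivOfLe hDA).toEquiv
  have hcC' : Nat.card C' = Nat.card C := Nat.card_congr (Subgroup.subgroupOfEquivOfLe hCA).toEquiv
  have hmax : ∀ H : Subgroup (autO F), H ≤ C' → IsPGroup 2 H → D' ≤ H → H = D' := by
    intro H hHC hp hDH
    obtain ⟨k, hk⟩ := IsPGroup.iff_card.1 hp
    have hdvd : 2 ^ k ∣ Nat.card (SLg F) ^ 2 := by
      rw [← hk, ← hcardC, ← hcC']
      exact Subgroup.card_dvd_of_le hHC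
    have hne : Nat.card (SLg F) ^ 2 ≠ 0 := pow_ne_zero _ Nat.card_pos.ne'
    have hk2 : k ≤ 2 * e0 (Fintype.card F) := by
      have := (padicValNat_dvd_iff_le hne).1 hdvd
      rwa [padicValNat.pow, val_SLg hodd] at this
    refine (Subgroup.eq_of_le_of_card_ge hDH ?_).symm
    rw [hk, hcD', hcardD]
    exact Nat.pow_le_pow_right (by norm_num) hk2
  have hcent : ∀ y : autO F, y * t' = t' * y → y ∈ C' := by
    intro y hy
    have h1 : y.1 * tt F = tt F * y.1 := congrArg (Subtype.val : autO F → _) hy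
    obtain ⟨A, B, hAB, he⟩ := cent_t h2 y.2 h1
    refine ⟨(A, B), ⟨trivial, trivial, Units.ext hAB⟩, ?_⟩
    exact he.symm
  have hnorm : ∀ y ∈ Subgroup.normalizer (D' : Set (autO F)), y * t' = t' * y := by
    intro y hy
    rw [Subgroup.mem_normalizer_iff] at hy
    have ht'D : t' ∈ D' := ⟨_, tt_mem_model, rfl⟩
    have hz := (hy t').1 ht'D
    obtain ⟨p, hp, hpz⟩ := hz
    have hpz' : phi p = y.1 * tt F * y.1⁻¹ := hpz
    have hcomm : ∀ q ∈ PP2 (RR F), phi p * phi q = phi q * phi p := by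
      intro q hq
      have hq' : (⟨phi q, hmemA hq⟩ : autO F) ∈ D' := ⟨q, hq, rfl⟩
      have hy2 : y⁻¹ * (⟨phi q, hmemA hq⟩ : autO F) * y ∈ D' := by
        have := (hy (y⁻¹ * (⟨phi q, hmemA hq⟩ : autO F) * y)).2
        apply this
        have e : y * (y⁻¹ * (⟨phi q, hmemA hq⟩ : autO F) * y) * y⁻¹ = ⟨phi q, hmemA hq⟩ := by group
        rw [e]
        exact hq'
      obtain ⟨r, hr, hre⟩ := hy2
      have hre' : phi r = y.1⁻¹ * phi q * y.1 := hre
      have hcr := tt_central (p := r)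
      rw [hre'] at hcr
      rw [hpz']
      have e1 : y.1 * tt F * y.1⁻¹ * phi q = y.1 * (tt F * (y.1⁻¹ * phi q * y.1)) * y.1⁻¹ := by group
      have e2 : phi q * (y.1 * tt F * y.1⁻¹) = y.1 * ((y.1⁻¹ * phi q * y.1) * tt F) * y.1⁻¹ := by group
      rw [e1, e2, hcr]
    rcases center_model h2 he₀ hd hp hcomm with h1 | h1
    · exfalso
      rw [h1] at hpz'
      apply tt_ne_one h2
      have : y.1 * tt F * y.1⁻¹ = 1 := hpz'.symm
      have e : tt F = y.1⁻¹ * (y.1 * tt F * y.1⁻¹) * y.1 := by group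
      rw [e, this]
      group
    · rw [h1] at hpz'
      apply Subtype.ext
      show y.1 * tt F = tt F * y.1
      calc y.1 * tt F = y.1 * tt F * y.1⁻¹ * y.1 := by group
        _ = tt F * y.1 := by rw [← hpz']
  have hpD' : IsPGroup 2 D' := hpD.comap_of_injective _ (Subgroup.subtype_injective _)
  obtain ⟨P₀, hP₀⟩ := hpD'.exists_le_sylow
  have hDC' : D' ≤ C' := fun x hx => hDC hx
  have hP₀eq := sylow_eq_of_center hmax hcent hnorm hDC' P₀ hP₀
  have hgoodD : GoodSub D := good_model he₀ hd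
  have hgoodD' : GoodSub D' := by
    apply GoodSub.of_map (autO F).subtype (Subgroup.subtype_injective _)
    rw [hD', Subgroup.map_subgroupOf_eq_of_le hDA]
    exact hgoodD
  refine GoodSub.sylow_all P₀ ?_ P
  rw [hP₀eq]
  exact hgoodD'

/-- The Sylow `2`-subgroups of `G₂(q)`, `q` odd. -/
theorem main (hodd : Odd (Fintype.card F)) (P : Sylow 2 (G2 F)) :
    ∀ x : (P : Subgroup (G2 F)), x ^ 2 ∈ commutator (P : Subgroup (G2 F)) := by
  have := GoodSub.sylow_equiv (g2Equiv F) (main_good hodd) P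
  exact fun x => this.pow_mem x

end assembly

end Cfsg.Agent.Lib.G2Syl99
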