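import Mathlib
import Cfsg.Agent.S0031
import Cfsg.Agent.Lib.Kegel
import Cfsg.Agent.Lib.PCore

/-!
# Gorenstein--Herstein: a group of odd order with a fixed-point-free automorphism `σ`, `σ⁴ = 1`,
is solvable.

Norm identity: `z σ(z) σ²(z) σ³(z) = 1`, so an element `u` inverted by `τ = σ²` commutes with `σ(u)`.
Hence an inverted `a`-element lies in the unique `σ`-invariant Sylow `a`-subgroup, and counting shows
that inverted elements of coprime prime-power orders commute.
-/

set_option autoImplicit false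

namespace Cfsg.Agent.Lib.GH4

universe u

variable {Q : Type u} [Group Q] [Finite Q]

/-- The square root in a group of odd order. -/
noncomputable def sq (x : Q) : Q := x ^ ((Nat.card Q + 1) / 2)

theorem sq_mul_sq (hodd : Odd (Nat.card Q)) (x : Q) : sq x * sq x = x := by
  obtain ⟨k, hk⟩ := hodd
  have h1 : (Nat.card Q + 1) / 2 = k + 1 := by omega
  unfold sq
  rw [h1, ← pow_add]
  have h2 : k + 1 + (k + 1) = Nat.card Q + 1 := by omega
  rw [h2, pow_succ, pow_card_eq_one', one_mul]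

theorem sq_self_mul (hodd : Odd (Nat.card Q)) (x : Q) : sq (x * x) = x := by
  obtain ⟨k, hk⟩ := hodd
  have h1 : (Nat.card Q + 1) / 2 = k + 1 := by omega
  unfold sq
  rw [h1, ← pow_two, ← pow_mul]
  have h2 : 2 * (k + 1) = Nat.card Q + 1 := by omega
  rw [h2, pow_succ, pow_card_eq_one', one_mul]

/-- The fixed subgroup of an automorphism. -/
def fixS (τ : MulAut Q) : Subgroup Q where
  carrier := {x | τ x = x}
  mul_mem' := by
    intro a b ha hb
    simp only [Set.mem_setOf_eq] at *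
    rw [map_mul, ha, hb]
  one_mem' := by simp
  inv_mem' := by
    intro a ha
    simp only [Set.mem_setOf_eq] at *
    rw [map_inv, ha]

theorem mem_fixS {τ : MulAut Q} {x : Q} : x ∈ fixS τ ↔ τ x = x := Iff.rfl

/-- `Y = (Y ∩ C(τ)) · I(Y)`. -/
theorem card_decomp (hodd : Odd (Nat.card Q)) (τ : MulAut Q) (hτ : ∀ x, τ (τ x) = x) (Y : Subgroup Q)
    (hY : ∀ y ∈ Y, τ y ∈ Y) :
    Nat.card ↥(Y ⊓ fixS τ) * Nat.card {w : Q // w ∈ Y ∧ τ w = w⁻¹} = Nat.card Y := by
  classical
  let f : ↥(Y ⊓ fixS τ) × {w : Q // w ∈ Y ∧ τ w = w⁻¹} → Y :=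
    fun p => ⟨(p.1 : Q) * (p.2 : Q), Y.mul_mem p.1.2.1 p.2.2.1⟩
  have hf : Function.Bijective f := by
    constructor
    · rintro ⟨⟨h, hh⟩, ⟨w, hw⟩⟩ ⟨⟨h', hh'⟩, ⟨w', hw'⟩⟩ he
      have he1 : h * w = h' * w' := congrArg Subtype.val he
      have he2 : h * w⁻¹ = h' * w'⁻¹ := by
        have := congrArg τ he1
        simpa [map_mul, hh.2, hh'.2, hw.2, hw'.2, mem_fixS.mp hh.2, mem_fixS.mp hh'.2] using this
      have h3 : w' * w' = w * w := by
        have h4 : h'⁻¹ * h = w' * w⁻¹ := by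
          have : h'⁻¹ * (h * w) * w⁻¹ = h'⁻¹ * (h' * w') * w⁻¹ := by rw [he1]
          simpa [mul_assoc] using this
        have h5 : h'⁻¹ * h = w'⁻¹ * w := by
          have : h'⁻¹ * (h * w⁻¹) * w = h'⁻¹ * (h' * w'⁻¹) * w := by rw [he2]
          simpa [mul_assoc] using this
        have h6 : w' * w⁻¹ = w'⁻¹ * w := h4.symm.trans h5
        have h7 : w' * (w' * w⁻¹) * w = w' * (w'⁻¹ * w) * w := by rw [h6]
        simpa [mul_assoc] using h7
      have h8 : w' = w := by
        rw [← sq_self_mul hodd w', h3, sq_self_mul hodd w]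
      subst h8
      have h9 : h = h' := mul_right_cancel he1
      subst h9
      rfl
    · rintro ⟨x, hx⟩
      set e := x⁻¹ * τ x with he
      have hτe : τ e = e⁻¹ := by
        rw [he, map_mul, map_inv, hτ x]
        group
      set w := sq e with hw
      have hwe : w * w = e := sq_mul_sq hodd e
      have hτw : τ w = w⁻¹ := by
        rw [hw]
        unfold sq
        rw [map_pow, hτe, inv_pow]
      have heY : e ∈ Y := Y.mul_mem (Y.inv_mem hx) (hY x hx)
      have hwY : w ∈ Y := by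
        rw [hw]
        unfold sq
        exact Y.pow_mem heY _
      have hτh : τ (x * w) = x * w := by
        rw [map_mul, hτw]
        have h1 : τ x = x * e := by rw [he]; group
        rw [h1, ← hwe]
        group
      refine ⟨⟨⟨x * w, Y.mul_mem hx hwY, hτh⟩, ⟨w⁻¹, Y.inv_mem hwY, ?_⟩⟩, ?_⟩
      · rw [map_inv, hτw]
      · apply Subtype.ext
        simp [f]
  rw [← Nat.card_prod]
  exact Nat.card_congr (Equiv.ofBijective f hf)

section Main

variable (σ : MulAut Q) (hσ : σ ^ 4 = 1) (hfix : ∀ x, σ x = x → x = 1)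

include hσ hfix in
theorem norm4 (x : Q) : x * σ x * (σ ^ 2) x * (σ ^ 3) x = 1 := by
  have h := Kegel.isSplit_of_fpf σ hfix hσ x
  rw [Kegel.nm_succ, Kegel.nm_succ, Kegel.nm_succ, Kegel.nm_succ, Kegel.nm_zero] at h
  simpa using h

theorem sigma_cube (x : Q) : (σ ^ 3) x = σ ((σ ^ 2) x) := by
  rw [pow_succ', MulAut.mul_apply]

include hσ hfix in
theorem commute_of_inverted {w : Q} (hw : (σ ^ 2) w = w⁻¹) : Commute w (σ w) := by
  have h := norm4 σ hσ hfix w
  rw [sigma_cube, hw, map_inv] at h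
  have h2 : w * σ w = σ w * w := by
    have : w * σ w * w⁻¹ * (σ w)⁻¹ * (σ w * w) = 1 * (σ w * w) := by rw [h]
    simpa [mul_assoc] using this
  exact h2

include hσ hfix in
theorem sigma_inv_of_fix (hodd : Odd (Nat.card Q)) {h : Q} (hh : (σ ^ 2) h = h) : σ h = h⁻¹ := by
  have h1 := norm4 σ hσ hfix h
  rw [sigma_cube, hh] at h1
  have h2 : (h * σ h) * (h * σ h) = 1 := by simpa [mul_assoc] using h1
  have h3 : h * σ h = 1 := by
    rw [← sq_self_mul hodd (h * σ h), h2]
    unfold sq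
    simp
  exact eq_inv_of_mul_eq_one_right h3

include hσ hfix in
theorem fix_comm (hodd : Odd (Nat.card Q)) (a b : ↥(fixS (σ ^ 2))) : a * b = b * a := by
  have ha : σ (a : Q) = (a : Q)⁻¹ := sigma_inv_of_fix σ hσ hfix hodd a.2
  have hb : σ (b : Q) = (b : Q)⁻¹ := sigma_inv_of_fix σ hσ hfix hodd b.2
  have hab : σ ((a : Q) * b) = ((a : Q) * b)⁻¹ :=
    sigma_inv_of_fix σ hσ hfix hodd (a * b).2
  rw [map_mul, ha, hb, mul_inv_rev] at hab
  have h2 : (a : Q) * b = b * a := by
    have h3 := congrArg (fun z => z⁻¹) hab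
    simpa using h3.symm
  exact Subtype.ext h2

include hfix in
theorem surj_on (N : Subgroup Q) (hN : ∀ x ∈ N, σ x ∈ N) {h : Q} (hh : h ∈ N) : ∃ h₀ ∈ N, σ h₀ = h := by
  let r := Kegel.restr σ N hN
  refine ⟨((r.symm ⟨h, hh⟩ : N) : Q), (r.symm ⟨h, hh⟩).2, ?_⟩
  have := congrArg Subtype.val (r.apply_symm_apply ⟨h, hh⟩)
  exact this

include hfix in
theorem sigma_mem_iff (N : Subgroup Q) (hN : ∀ x ∈ N, σ x ∈ N) {h : Q} : σ h ∈ N ↔ h ∈ N := by
  constructor
  · intro hh
    obtain ⟨h₀, hh₀, he⟩ := surj_on σ hfix N hN hh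
    have : h₀ = h := σ.injective he
    exact this ▸ hh₀
  · exact hN h

include hfix in
theorem twist_surj (N : Subgroup Q) (hN : ∀ x ∈ N, σ x ∈ N) {z : Q} (hz : z ∈ N) :
    ∃ n ∈ N, n⁻¹ * σ n = z := by
  let g : N → N := fun n => ⟨(n : Q)⁻¹ * σ n, N.mul_mem (N.inv_mem n.2) (hN _ n.2)⟩
  have hg : Function.Injective g := by
    intro a b hab
    have h1 : (a : Q)⁻¹ * σ a = (b : Q)⁻¹ * σ b := congrArg Subtype.val hab
    have h2 : σ ((b : Q) * (a : Q)⁻¹) = (b : Q) * (a : Q)⁻¹ := by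
      rw [map_mul, map_inv]
      have h3 : σ (b : Q) = b * ((a : Q)⁻¹ * σ a) := by rw [h1]; group
      rw [h3]
      group
    have h4 := hfix _ h2
    have h5 : (b : Q) = a := mul_inv_eq_one.mp h4
    exact Subtype.ext h5.symm
  obtain ⟨n, hn⟩ := Finite.surjective_of_injective hg ⟨z, hz⟩
  exact ⟨n, n.2, congrArg Subtype.val hn⟩

include hfix in
theorem sylow_unique {a : ℕ} [Fact a.Prime] (P R : Sylow a Q) (hP : ∀ x ∈ (P : Subgroup Q), σ x ∈ (P : Subgroup Q))
    (hR : ∀ x ∈ (R : Subgroup Q), σ x ∈ (R : Subgroup Q)) : P = R := by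
  classical
  obtain ⟨x, hx⟩ := MulAction.exists_smul_eq Q P R
  have hmemR : ∀ y, y ∈ (R : Subgroup Q) ↔ x⁻¹ * y * x ∈ (P : Subgroup Q) := by
    intro y
    rw [← hx]
    rw [Sylow.coe_subgroup_smul, Cfsg.Agent.Lib.PCore.mem_conj_smul_iff]
  set z := x⁻¹ * σ x with hz
  -- `z` normalizes `P`
  have hzP : ∀ h ∈ (P : Subgroup Q), z * h * z⁻¹ ∈ (P : Subgroup Q) := by
    intro h hh
    obtain ⟨h₀, hh₀, rfl⟩ := surj_on σ hfix (P : Subgroup Q) hP hh
    have h1 : x * h₀ * x⁻¹ ∈ (R : Subgroup Q) := by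
      rw [hmemR]
      simpa [mul_assoc] using hh₀
    have h2 := hR _ h1
    rw [hmemR] at h2
    have h3 : x⁻¹ * σ (x * h₀ * x⁻¹) * x = z * σ h₀ * z⁻¹ := by
      rw [hz]
      simp only [map_mul, map_inv]
      group
    rwa [h3] at h2
  have hnorm : z ∈ (Subgroup.normalizer ((P : Subgroup Q) : Set Q)) := by
    have hle : ((z • P : Sylow a Q) : Subgroup Q) ≤ (P : Subgroup Q) := by
      intro w hw
      have hw0 : w ∈ ((z • P : Sylow a Q) : Subgroup Q) := hw
      rw [Sylow.coe_subgroup_smul, Cfsg.Agent.Lib.PCore.mem_conj_smul_iff] at hw0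
      have := hzP _ hw0
      simpa [mul_assoc] using this
    have h1 : (P : Subgroup Q) = ((z • P : Sylow a Q) : Subgroup Q) :=
      (z • P).is_maximal' P.isPGroup' hle
    have h2 : z • P = P := Sylow.ext h1.symm
    exact (Sylow.smul_eq_iff_mem_normalizer).mp h2
  have hNinv : ∀ w ∈ (Subgroup.normalizer ((P : Subgroup Q) : Set Q)), σ w ∈ (Subgroup.normalizer ((P : Subgroup Q) : Set Q)) := by
    intro w hw
    rw [Subgroup.mem_normalizer_iff] at hw ⊢
    intro h
    obtain ⟨h₀, rfl⟩ := σ.surjective h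
    have e1 : σ w * σ h₀ * (σ w)⁻¹ = σ (w * h₀ * w⁻¹) := by simp
    rw [e1, sigma_mem_iff σ hfix (P : Subgroup Q) hP, sigma_mem_iff σ hfix (P : Subgroup Q) hP]
    exact hw h₀
  obtain ⟨n, hn, hnz⟩ := twist_surj σ hfix _ hNinv hnorm
  have hfixed : σ (x * n⁻¹) = x * n⁻¹ := by
    have h1 : σ x = x * (n⁻¹ * σ n) := by rw [hnz, hz]; group
    rw [map_mul, map_inv, h1]
    group
  have hxn : x = n := by
    have := hfix _ hfixed
    exact mul_inv_eq_one.mp this
  rw [← hx, hxn]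
  exact ((Sylow.smul_eq_iff_mem_normalizer).mpr hn).symm

include hfix in
theorem exists_sylow_inv {a : ℕ} [Fact a.Prime] (A : Subgroup Q) (hA : ∀ x ∈ A, σ x ∈ A)
    (hpA : IsPGroup a A) : ∃ R : Sylow a Q, (∀ x ∈ (R : Subgroup Q), σ x ∈ (R : Subgroup Q)) ∧ A ≤ R := by
  classical
  induction' hk : Nat.card Q - Nat.card A using Nat.strong_induction_on with k ih generalizing A
  obtain ⟨P', hAP'⟩ := hpA.exists_le_sylow
  by_cases hAeq : A = P'
  · refine ⟨P', ?_, hAP'⟩
    rw [← hAeq]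
    exact hA
  -- get y in P' \ A normalizing A
  have hlt : A.subgroupOf (P' : Subgroup Q) < ⊤ := by
    rw [lt_top_iff_ne_top]
    intro h
    apply hAeq
    apply le_antisymm hAP'
    exact Subgroup.subgroupOf_eq_top.mp h
  haveI : Group.IsNilpotent (P' : Subgroup Q) := P'.isPGroup'.isNilpotent
  have hcond := normalizerCondition_of_isNilpotent (G := (P' : Subgroup Q))
  obtain ⟨y, hy1, hy2⟩ := SetLike.exists_of_lt (hcond _ hlt)
  have hyA : (y : Q) ∉ A := hy2
  have hyN : (y : Q) ∈ (Subgroup.normalizer (A : Set Q)) := by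
    rw [Subgroup.mem_normalizer_iff]
    intro h
    constructor
    · intro hh
      have := (Subgroup.mem_normalizer_iff.mp hy1 ⟨h, hAP' hh⟩).mp hh
      exact this
    · intro hh
      have hhP : h ∈ (P' : Subgroup Q) := by
        have h1 : (y : Q) * h * (y : Q)⁻¹ ∈ (P' : Subgroup Q) := hAP' hh
        have h2 : (y : Q)⁻¹ * ((y : Q) * h * (y : Q)⁻¹) * y ∈ (P' : Subgroup Q) :=
          (P' : Subgroup Q).mul_mem ((P' : Subgroup Q).mul_mem ((P' : Subgroup Q).inv_mem y.2) h1) y.2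
        simpa [mul_assoc] using h2
      exact (Subgroup.mem_normalizer_iff.mp hy1 ⟨h, hhP⟩).mpr hh
  -- the normalizer is invariant
  have hNinv : ∀ w ∈ (Subgroup.normalizer (A : Set Q)), σ w ∈ (Subgroup.normalizer (A : Set Q)) := by
    intro w hw
    rw [Subgroup.mem_normalizer_iff] at hw ⊢
    intro h
    obtain ⟨h₀, rfl⟩ := σ.surjective h
    have e1 : σ w * σ h₀ * (σ w)⁻¹ = σ (w * h₀ * w⁻¹) := by simp
    rw [e1, sigma_mem_iff σ hfix A hA, sigma_mem_iff σ hfix A hA]
    exact hw h₀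
  let r := Kegel.restr σ (Subgroup.normalizer (A : Set Q)) hNinv
  have hrfix : MonoidHom.FixedPointFree (r : ↥(Subgroup.normalizer (A : Set Q)) →* ↥(Subgroup.normalizer (A : Set Q))) := by
    intro w hw
    have h1 : σ (w : Q) = w := congrArg Subtype.val hw
    exact Subtype.ext (hfix _ h1)
  obtain ⟨P₀, hP₀⟩ := Cfsg.Agent.S0031.result r hrfix a
  -- `R₁` is the image of `P₀`
  set R₁ : Subgroup Q := (P₀ : Subgroup (Subgroup.normalizer (A : Set Q))).map (Subgroup.normalizer (A : Set Q)).subtype with hR₁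
  have hR₁inv : ∀ x ∈ R₁, σ x ∈ R₁ := by
    rintro _ ⟨w, hw, rfl⟩
    have h1 : r w ∈ (P₀ : Subgroup (Subgroup.normalizer (A : Set Q))) := by
      rw [← hP₀]
      exact ⟨w, hw, rfl⟩
    exact ⟨r w, h1, rfl⟩
  have hR₁p : IsPGroup a R₁ := P₀.isPGroup'.map _
  have hA₀ : IsPGroup a (A.subgroupOf (Subgroup.normalizer (A : Set Q))) :=
    hpA.comap_of_injective (Subgroup.normalizer (A : Set Q)).subtype Subtype.val_injective
  haveI hA₀n : (A.subgroupOf (Subgroup.normalizer (A : Set Q))).Normal := Subgroup.normal_in_normalizer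
  have hle₀ : A.subgroupOf (Subgroup.normalizer (A : Set Q)) ≤ (P₀ : Subgroup (Subgroup.normalizer (A : Set Q))) := by
    have h1 := P₀.isPGroup'.to_sup_of_normal_right hA₀
    have h2 := P₀.is_maximal' h1 le_sup_left
    rw [← h2]
    exact le_sup_right
  have hAR₁ : A ≤ R₁ := by
    intro h hh
    have hN : h ∈ (Subgroup.normalizer (A : Set Q)) := Subgroup.le_normalizer hh
    exact ⟨⟨h, hN⟩, hle₀ hh, rfl⟩
  -- `R₁` is bigger than `A`
  have hne : A ≠ R₁ := by
    intro heq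
    -- then `P' ∩ N` has the same order as `A`
    let T : Subgroup (Subgroup.normalizer (A : Set Q)) := (P' : Subgroup Q).subgroupOf (Subgroup.normalizer (A : Set Q))
    have hTp : IsPGroup a T := P'.isPGroup'.comap_of_injective (Subgroup.normalizer (A : Set Q)).subtype Subtype.val_injective
    obtain ⟨P₁, hP₁⟩ := hTp.exists_le_sylow
    have hc : Nat.card P₁ = Nat.card P₀ := by
      rw [Sylow.card_eq_multiplicity, Sylow.card_eq_multiplicity]
    have hyT : (⟨y, hyN⟩ : (Subgroup.normalizer (A : Set Q))) ∈ P₁ := hP₁ y.2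
    -- `P₁` maps into ... cardinality
    have hc2 : Nat.card (P₁ : Subgroup (Subgroup.normalizer (A : Set Q))) = Nat.card A := by
      rw [hc]
      have h1 : Nat.card ((P₀ : Subgroup (Subgroup.normalizer (A : Set Q))).map (Subgroup.normalizer (A : Set Q)).subtype) = Nat.card P₀ :=
        Subgroup.card_map_of_injective Subtype.val_injective
      rw [← h1, ← hR₁, ← heq]
    have hle2 : A.subgroupOf (Subgroup.normalizer (A : Set Q)) ≤ (P₁ : Subgroup (Subgroup.normalizer (A : Set Q))) := by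
      have h1 := P₁.isPGroup'.to_sup_of_normal_right hA₀
      have h2 := P₁.is_maximal' h1 le_sup_left
      rw [← h2]
      exact le_sup_right
    have hcard : Nat.card (A.subgroupOf (Subgroup.normalizer (A : Set Q))) = Nat.card A := by
      exact Nat.card_congr (Subgroup.subgroupOfEquivOfLe Subgroup.le_normalizer).toEquiv
    have heq2 : A.subgroupOf (Subgroup.normalizer (A : Set Q)) = (P₁ : Subgroup (Subgroup.normalizer (A : Set Q))) := by
      apply Subgroup.eq_of_le_of_card_ge hle2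
      rw [hc2, hcard]
    have : (⟨y, hyN⟩ : (Subgroup.normalizer (A : Set Q))) ∈ A.subgroupOf (Subgroup.normalizer (A : Set Q)) := by
      rw [heq2]; exact hyT
    exact hyA this
  have hcardlt : Nat.card A < Nat.card R₁ := by
    by_contra hnot
    exact hne (Subgroup.eq_of_le_of_card_ge hAR₁ (not_lt.mp hnot))
  have hle3 : Nat.card R₁ ≤ Nat.card Q := Subgroup.card_le_card_group R₁
  obtain ⟨R, hR1, hR2⟩ := ih (Nat.card Q - Nat.card R₁) (by omega) R₁ hR₁inv hR₁p rfl
  exact ⟨R, hR1, hAR₁.trans hR2⟩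

include hfix in
/-- The unique invariant Sylow subgroup. -/
theorem exists_inv_sylow (a : ℕ) [Fact a.Prime] :
    ∃ P : Subgroup Q, (∀ x ∈ P, σ x ∈ P) ∧ IsPGroup a P ∧
      Nat.card P = a ^ (Nat.card Q).factorization a ∧
      ∀ A : Subgroup Q, (∀ x ∈ A, σ x ∈ A) → IsPGroup a A → A ≤ P := by
  classical
  have hfpf : MonoidHom.FixedPointFree (σ : Q →* Q) := hfix
  obtain ⟨P, hP⟩ := Cfsg.Agent.S0031.result σ hfpf a
  have hPinv : ∀ x ∈ (P : Subgroup Q), σ x ∈ (P : Subgroup Q) := by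
    intro x hx
    have : σ x ∈ (P : Subgroup Q).map (σ : Q →* Q) := ⟨x, hx, rfl⟩
    rwa [hP] at this
  refine ⟨P, hPinv, P.isPGroup', Sylow.card_eq_multiplicity P, ?_⟩
  intro A hA hpA
  obtain ⟨R, hR1, hR2⟩ := exists_sylow_inv σ hfix A hA hpA
  rw [sylow_unique σ hfix P R hPinv hR1]
  exact hR2

include hσ hfix in
/-- An inverted `a`-element lies in the invariant Sylow subgroup. -/
theorem inverted_mem {a : ℕ} [Fact a.Prime] (P : Subgroup Q)
    (hP : ∀ A : Subgroup Q, (∀ x ∈ A, σ x ∈ A) → IsPGroup a A → A ≤ P) {w : Q}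
    (hw : (σ ^ 2) w = w⁻¹) {n : ℕ} (hn : w ^ (a ^ n) = 1) : w ∈ P := by
  have hcomm : Commute w (σ w) := commute_of_inverted σ hσ hfix hw
  have hσσ : σ (σ w) = w⁻¹ := by
    rw [← hw, pow_two, MulAut.mul_apply]
  let A : Subgroup Q := Subgroup.zpowers w ⊔ Subgroup.zpowers (σ w)
  have h1 : IsPGroup a (Subgroup.zpowers w) := by
    intro g
    refine ⟨n, ?_⟩
    obtain ⟨g, k, rfl⟩ := g
    apply Subtype.ext
    show ((w ^ k) ^ (a ^ n) : Q) = 1
    rw [← zpow_natCast, ← zpow_mul, mul_comm, zpow_mul, zpow_natCast, hn, one_zpow]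
  have h2 : IsPGroup a (Subgroup.zpowers (σ w)) := by
    intro g
    refine ⟨n, ?_⟩
    obtain ⟨g, k, rfl⟩ := g
    apply Subtype.ext
    show (((σ w) ^ k) ^ (a ^ n) : Q) = 1
    rw [← zpow_natCast, ← zpow_mul, mul_comm, zpow_mul, zpow_natCast, ← map_pow, hn, map_one, one_zpow]
  have hle : Subgroup.zpowers w ≤ Subgroup.normalizer (Subgroup.zpowers (σ w) : Set Q) := by
    rw [Subgroup.zpowers_le, Subgroup.mem_normalizer_iff]
    intro h
    constructor
    · rintro ⟨k, rfl⟩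
      refine ⟨k, ?_⟩
      show (σ w) ^ k = w * (σ w) ^ k * w⁻¹
      have : Commute w ((σ w) ^ k) := hcomm.zpow_right k
      rw [this.eq]; group
    · rintro ⟨k, hk⟩
      refine ⟨k, ?_⟩
      have hk' : (σ w) ^ k = w * h * w⁻¹ := hk
      have hh : h = w⁻¹ * (σ w) ^ k * w := by rw [hk']; group
      rw [hh]
      have : Commute w⁻¹ ((σ w) ^ k) := (hcomm.inv_left).zpow_right k
      show (σ w) ^ k = _
      rw [this.eq]; group
  have hpA : IsPGroup a A := IsPGroup.to_sup_of_normal_right' h1 h2 hle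
  have hinv : ∀ x ∈ A, σ x ∈ A := by
    have : A.map (σ : Q →* Q) ≤ A := by
      show (Subgroup.zpowers w ⊔ Subgroup.zpowers (σ w)).map (σ : Q →* Q) ≤ _
      rw [Subgroup.map_sup, sup_le_iff]
      constructor
      · rw [MonoidHom.map_zpowers]
        exact le_sup_right
      · rw [MonoidHom.map_zpowers, Subgroup.zpowers_le]
        have : (σ : Q →* Q) (σ w) = w⁻¹ := hσσ
        rw [this]
        exact Subgroup.inv_mem _ ((le_sup_left : Subgroup.zpowers w ≤ A) (Subgroup.mem_zpowers w))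
    intro x hx
    exact this ⟨x, hx, rfl⟩
  exact hP A hinv hpA ((le_sup_left : Subgroup.zpowers w ≤ A) (Subgroup.mem_zpowers w))

/-- Bezout for the cofactors of the prime powers. -/
theorem exists_bezout (N : ℕ) (hN : N ≠ 1) (hN0 : N ≠ 0) :
    ∃ μ : ℕ → ℤ, ∑ i ∈ N.primeFactors, μ i *
      ((∏ j ∈ N.primeFactors \ {i}, j ^ N.factorization j : ℕ) : ℤ) = 1 := by
  classical
  have hne : N.primeFactors.Nonempty := by
    rw [Nat.nonempty_primeFactors]
    omega
  have := (exists_sum_eq_one_iff_pairwise_coprime (t := N.primeFactors)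
    (s := fun j : ℕ => ((j ^ N.factorization j : ℕ) : ℤ)) (R := ℤ) hne).mpr ?_
  · obtain ⟨μ, hμ⟩ := this
    refine ⟨μ, ?_⟩
    rw [← hμ]
    apply Finset.sum_congr rfl
    intro i _
    rw [Nat.cast_prod]
  · rintro ⟨i, hi⟩ ⟨j, hj⟩ hij
    show IsCoprime ((i ^ N.factorization i : ℕ) : ℤ) ((j ^ N.factorization j : ℕ) : ℤ)
    rw [Nat.isCoprime_iff_coprime]
    apply Nat.Coprime.pow
    exact (Nat.coprime_primes (Nat.prime_of_mem_primeFactors hi)
      (Nat.prime_of_mem_primeFactors hj)).mpr (fun h => hij (Subtype.ext h))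

theorem cofactor_mul (N : ℕ) (hN0 : N ≠ 0) {a : ℕ} (ha : a ∈ N.primeFactors) :
    a ^ N.factorization a * (∏ j ∈ N.primeFactors \ {a}, j ^ N.factorization j) = N := by
  classical
  have h1 : ∏ j ∈ N.primeFactors, j ^ N.factorization j = N := by
    conv_rhs => rw [← Nat.factorization_prod_pow_eq_self hN0]
    rfl
  rw [Finset.sdiff_singleton_eq_erase]
  exact (Finset.mul_prod_erase N.primeFactors (fun j => j ^ N.factorization j) ha).trans h1

theorem zpow_sum_eq_of {w w' : Q} {t s : Finset ℕ} (hs : s ⊆ t) (μ : ℕ → ℤ) (K : ℕ → ℕ)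
    (h : ∀ i ∈ t, w ^ K i = w' ^ K i) :
    w ^ (∑ i ∈ s, μ i * (K i : ℤ)) = w' ^ (∑ i ∈ s, μ i * (K i : ℤ)) := by
  classical
  induction s using Finset.induction_on with
  | empty => simp
  | insert i s hi ih =>
    rw [Finset.sum_insert hi, zpow_add, zpow_add, ih ((Finset.insert_subset_iff.mp hs).2)]
    congr 1
    rw [zpow_mul', zpow_mul', zpow_natCast, zpow_natCast, h i (hs (Finset.mem_insert_self _ _))]

theorem zpow_sum_mem {w : Q} (S : Subgroup Q) {t s : Finset ℕ} (hs : s ⊆ t) (μ : ℕ → ℤ) (K : ℕ → ℕ)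
    (h : ∀ i ∈ t, w ^ K i ∈ S) :
    w ^ (∑ i ∈ s, μ i * (K i : ℤ)) ∈ S := by
  classical
  induction s using Finset.induction_on with
  | empty => simp
  | insert i s hi ih =>
    rw [Finset.sum_insert hi, zpow_add]
    refine S.mul_mem ?_ (ih ((Finset.insert_subset_iff.mp hs).2))
    rw [zpow_mul', zpow_natCast]
    exact S.zpow_mem (h i (hs (Finset.mem_insert_self _ _))) _

include hσ hfix in
/-- Main theorem. -/
theorem solvable_of_fpf4 (hodd : Odd (Nat.card Q)) : Group.IsSolvable Q := by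
  classical
  set N := Nat.card Q with hNdef
  have hN0 : N ≠ 0 := Nat.card_pos.ne'
  by_cases hN1 : N = 1
  · haveI : Subsingleton Q := (Nat.card_eq_one_iff_unique.mp hN1).1
    infer_instance
  have hτ : ∀ x, (σ ^ 2) ((σ ^ 2) x) = x := by
    intro x
    rw [← MulAut.mul_apply, ← pow_add, show 2 + 2 = 4 from rfl, hσ]
    rfl
  set t := N.primeFactors with ht
  set v := N.factorization with hv
  set K : ℕ → ℕ := fun a => ∏ j ∈ t \ {a}, j ^ v j with hK
  have hP : ∀ a : ℕ, ∃ P : Subgroup Q, a.Prime → ((∀ x ∈ P, σ x ∈ P) ∧ IsPGroup a P ∧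
      Nat.card P = a ^ v a ∧ ∀ A : Subgroup Q, (∀ x ∈ A, σ x ∈ A) → IsPGroup a A → A ≤ P) := by
    intro a
    by_cases ha : a.Prime
    · haveI : Fact a.Prime := ⟨ha⟩
      obtain ⟨P, h1, h2, h3, h4⟩ := exists_inv_sylow σ hfix a
      exact ⟨P, fun _ => ⟨h1, h2, h3, h4⟩⟩
    · exact ⟨⊥, fun h => absurd h ha⟩
  choose P hP using hP
  have hprime : ∀ a : t, (a : ℕ).Prime := fun a => Nat.prime_of_mem_primeFactors a.2
  have hKpow : ∀ a ∈ t, a ^ v a * K a = N := fun a ha => cofactor_mul N hN0 ha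
  obtain ⟨μ, hμ⟩ := exists_bezout N hN1 hN0
  -- the inverted elements
  let IQ := {w : Q // (σ ^ 2) w = w⁻¹}
  let IP : t → Type _ := fun a => {w : Q // w ∈ P a ∧ (σ ^ 2) w = w⁻¹}
  have hinvpow : ∀ (w : Q) (k : ℕ), (σ ^ 2) w = w⁻¹ → (σ ^ 2) (w ^ k) = (w ^ k)⁻¹ := by
    intro w k hw
    rw [map_pow, hw, inv_pow]
  have hmemP : ∀ (a : t) (w : Q), (σ ^ 2) w = w⁻¹ → w ^ K a ∈ P a := by
    intro a w hw
    haveI : Fact (a : ℕ).Prime := ⟨hprime a⟩
    refine inverted_mem σ hσ hfix (a := a) (P a) (hP a (hprime a)).2.2.2 (hinvpow w _ hw)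
      (n := v a) ?_
    rw [← pow_mul, mul_comm, hKpow a a.2, hNdef, pow_card_eq_one']
  let φ : IQ → ∀ a : t, IP a := fun w a => ⟨(w : Q) ^ K a, hmemP a w w.2, hinvpow w _ w.2⟩
  have hφinj : Function.Injective φ := by
    intro w w' h
    have h1 : ∀ i ∈ t, (w : Q) ^ K i = (w' : Q) ^ K i := by
      intro i hi
      have := congrFun h ⟨i, hi⟩
      exact congrArg Subtype.val this
    have h2 := zpow_sum_eq_of (w := (w : Q)) (w' := (w' : Q)) (t := t) (s := t) subset_rfl μ K h1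
    have h3 : (∑ i ∈ t, μ i * (K i : ℤ)) = 1 := hμ
    rw [h3, zpow_one, zpow_one] at h2
    exact Subtype.ext h2
  -- counting
  set H := fixS (σ ^ 2) with hH
  have hHcard : Nat.card H * Nat.card IQ = N := by
    have := card_decomp hodd (σ ^ 2) hτ ⊤ (fun _ _ => Subgroup.mem_top _)
    rw [Nat.card_eq_of_bijective (fun y : (⊤ : Subgroup Q) => (y : Q))
      ⟨Subtype.val_injective, fun y => ⟨⟨y, Subgroup.mem_top _⟩, rfl⟩⟩] at this
    rw [top_inf_eq] at this
    have h2 : Nat.card {w : Q // w ∈ (⊤ : Subgroup Q) ∧ (σ ^ 2) w = w⁻¹} = Nat.card IQ :=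
      Nat.card_congr (Equiv.subtypeEquivRight (by simp))
    rw [h2] at this
    exact this
  have hPcard : ∀ a : t, Nat.card ↥(P a ⊓ H) * Nat.card (IP a) = (a : ℕ) ^ v a := by
    intro a
    rw [← (hP a (hprime a)).2.2.1]
    exact card_decomp hodd (σ ^ 2) hτ (P a) (fun y hy => by
      have h1 := (hP a (hprime a)).1
      rw [pow_two, MulAut.mul_apply]
      exact h1 _ (h1 _ hy))
  have hHa : ∀ a : t, (a : ℕ) ^ (Nat.card H).factorization a ≤ Nat.card ↥(P a ⊓ H) := by
    intro a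
    haveI : Fact (a : ℕ).Prime := ⟨hprime a⟩
    let T : Sylow (a : ℕ) H := default
    have hTinv : ∀ x ∈ (T : Subgroup H).map H.subtype, σ x ∈ (T : Subgroup H).map H.subtype := by
      rintro _ ⟨x, hx, rfl⟩
      refine ⟨x⁻¹, (T : Subgroup H).inv_mem hx, ?_⟩
      have h2 := sigma_inv_of_fix σ hσ hfix hodd x.2
      simp only [Subgroup.subtype_apply, InvMemClass.coe_inv]
      exact h2.symm
    have hTp : IsPGroup (a : ℕ) ((T : Subgroup H).map H.subtype) := T.isPGroup'.map _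
    have hle := (hP a (hprime a)).2.2.2 _ hTinv hTp
    rw [← Sylow.card_eq_multiplicity T]
    have hcT : Nat.card ((T : Subgroup H).map H.subtype) = Nat.card (T : Subgroup H) :=
      Subgroup.card_map_of_injective H.subtype_injective
    show Nat.card (T : Subgroup H) ≤ _
    rw [← hcT]
    apply Subgroup.card_le_of_le
    intro x hx
    refine ⟨hle hx, ?_⟩
    obtain ⟨y, _, rfl⟩ := hx
    exact y.2
  have hprodH : ∏ a : t, (a : ℕ) ^ (Nat.card H).factorization a = Nat.card H := by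
    have hne : Nat.card H ≠ 0 := Nat.card_pos.ne'
    have hsub : (Nat.card H).primeFactors ⊆ t := by
      apply Nat.primeFactors_mono _ hN0
      exact ⟨_, hHcard.symm⟩
    conv_rhs => rw [← Nat.factorization_prod_pow_eq_self hne]
    rw [Finset.prod_coe_sort t (fun a => a ^ (Nat.card H).factorization a)]
    exact (Finsupp.prod_of_support_subset _ hsub _ (by simp)).symm
  have hprodN : ∏ a : t, (a : ℕ) ^ v a = N := by
    conv_rhs => rw [← Nat.factorization_prod_pow_eq_self hN0]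
    rw [Finset.prod_coe_sort t (fun a => a ^ v a)]
    rfl
  haveI : ∀ a : t, Finite (IP a) := fun a => inferInstance
  have hle : Nat.card (∀ a : t, IP a) ≤ Nat.card IQ := by
    rw [Nat.card_pi]
    have h1 : (∏ a : t, Nat.card (IP a)) * Nat.card H ≤ Nat.card H * Nat.card IQ := by
      rw [hHcard, ← hprodN, ← hprodH, ← Finset.prod_mul_distrib]
      apply Finset.prod_le_prod'
      intro a _
      rw [← hPcard a, mul_comm]
      exact Nat.mul_le_mul_right _ (hHa a)
    have hpos : 0 < Nat.card H := Nat.card_pos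
    rw [mul_comm] at h1
    exact Nat.le_of_mul_le_mul_left h1 hpos
  have hφbij : Function.Bijective φ := hφinj.bijective_of_nat_card_le hle
  -- commutation
  have hcommIP : ∀ (a b : t), a ≠ b → ∀ (u : IP a) (u' : IP b), Commute (u : Q) (u' : Q) := by
    intro a b hab u u'
    let e : ∀ c : t, IP c := fun c => ⟨1, (P c).one_mem, by simp⟩
    obtain ⟨w, hw⟩ := hφbij.2 (Function.update (Function.update e a u) b u')
    have h1 : φ w b = u' := by rw [hw]; simp
    have h2 : φ w a = u := by rw [hw, Function.update_of_ne hab]; simp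
    have h3 : (w : Q) ^ K b = u' := congrArg Subtype.val h1
    have h4 : (w : Q) ^ K a = u := congrArg Subtype.val h2
    rw [← h3, ← h4]
    exact (Commute.refl (w : Q)).pow_pow _ _
  let Dd : t → Subgroup Q := fun a => Subgroup.closure {w | w ∈ P a ∧ (σ ^ 2) w = w⁻¹}
  have hDdP : ∀ a, Dd a ≤ P a := by
    intro a
    rw [Subgroup.closure_le]
    exact fun w hw => hw.1
  have hDp : ∀ a : t, IsPGroup (a : ℕ) (Dd a) := fun a =>
    (hP a (hprime a)).2.1.to_le (hDdP a)
  have hDcomm : Pairwise fun a b : t => ∀ x y : Q, x ∈ Dd a → y ∈ Dd b → Commute x y := by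
    intro a b hab x y hx hy
    have h1 : Dd a ≤ Subgroup.centralizer ({w | w ∈ P b ∧ (σ ^ 2) w = w⁻¹} : Set Q) := by
      rw [Subgroup.closure_le]
      intro u hu
      rw [SetLike.mem_coe, Subgroup.mem_centralizer_iff]
      intro u' hu'
      exact (hcommIP a b hab ⟨u, hu⟩ ⟨u', hu'⟩).symm.eq
    have h2 : Dd b ≤ Subgroup.centralizer ({x} : Set Q) := by
      rw [Subgroup.closure_le]
      intro u hu
      rw [SetLike.mem_coe, Subgroup.mem_centralizer_iff]
      intro u' hu'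
      rw [Set.mem_singleton_iff] at hu'
      subst hu'
      exact (Subgroup.mem_centralizer_iff.mp (h1 hx) u hu).symm
    exact (Subgroup.mem_centralizer_iff.mp (h2 hy) x rfl)
  haveI : ∀ a : t, Fact (a : ℕ).Prime := fun a => ⟨hprime a⟩
  haveI : ∀ a : t, Group.IsNilpotent (Dd a) := fun a => (hDp a).isNilpotent
  haveI : Group.IsNilpotent (∀ a : t, Dd a) := Group.isNilpotent_pi
  let Φ := Subgroup.noncommPiCoprod hDcomm
  have hΦ : Φ.range = ⨆ a, Dd a := Subgroup.noncommPiCoprod_range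
  haveI hsupnil : Group.IsNilpotent ↥(⨆ a, Dd a) := by
    rw [← hΦ]
    exact Group.nilpotent_of_surjective (f := Φ.rangeRestrict) Φ.rangeRestrict_surjective
  -- the closure of the inverted elements
  let Dc : Subgroup Q := Subgroup.closure {w | (σ ^ 2) w = w⁻¹}
  have hDcle : Dc ≤ ⨆ a, Dd a := by
    rw [Subgroup.closure_le]
    intro w hw
    have hw' : (σ ^ 2) w = w⁻¹ := hw
    have h1 : ∀ i ∈ t, w ^ K i ∈ ⨆ a, Dd a := by
      intro i hi
      have h2 : w ^ K i ∈ Dd ⟨i, hi⟩ := Subgroup.subset_closure ⟨hmemP ⟨i, hi⟩ w hw', hinvpow w _ hw'⟩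
      exact (le_iSup Dd ⟨i, hi⟩) h2
    have h3 := zpow_sum_mem (w := w) (⨆ a, Dd a) (t := t) (s := t) subset_rfl μ K h1
    have h4 : (∑ i ∈ t, μ i * (K i : ℤ)) = 1 := hμ
    rw [h4, zpow_one] at h3
    exact h3
  haveI hDcsol : Group.IsSolvable Dc :=
    Group.isSolvable_of_isSolvable_injective (f := Subgroup.inclusion hDcle) (Subgroup.inclusion_injective hDcle)
  have hmemtwist : ∀ g : Q, g⁻¹ * (σ ^ 2) g ∈ Dc := by
    intro g
    apply Subgroup.subset_closure
    show (σ ^ 2) (g⁻¹ * (σ ^ 2) g) = (g⁻¹ * (σ ^ 2) g)⁻¹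
    rw [map_mul, map_inv, hτ]
    group
  have hsqinv : ∀ u : Q, (σ ^ 2) u = u⁻¹ → (σ ^ 2) (sq u) = (sq u)⁻¹ := by
    intro u hu
    unfold sq
    rw [map_pow, hu, inv_pow]
  haveI hDcnormal : Dc.Normal := by
    constructor
    intro x hx z
    induction hx using Subgroup.closure_induction with
    | mem u hu =>
      have hu' : (σ ^ 2) u = u⁻¹ := hu
      set s := sq u with hs
      have hss : s * s = u := sq_mul_sq hodd u
      have hτs : (σ ^ 2) s = s⁻¹ := hsqinv u hu'
      have e : z * u * z⁻¹ = ((s⁻¹ * z⁻¹)⁻¹ * (σ ^ 2) (s⁻¹ * z⁻¹)) * (z⁻¹⁻¹ * (σ ^ 2) z⁻¹)⁻¹ := by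
        rw [map_mul, map_inv, hτs, map_inv]
        rw [← hss]
        group
      rw [e]
      exact Dc.mul_mem (hmemtwist _) (Dc.inv_mem (hmemtwist _))
    | one => simp
    | mul a b _ _ ha hb =>
      have : z * (a * b) * z⁻¹ = (z * a * z⁻¹) * (z * b * z⁻¹) := by group
      rw [this]
      exact Dc.mul_mem ha hb
    | inv a _ ha =>
      have : z * a⁻¹ * z⁻¹ = (z * a * z⁻¹)⁻¹ := by group
      rw [this]
      exact Dc.inv_mem ha
  -- the quotient is an image of `H`
  have hHcomm : ∀ a b : H, a * b = b * a := fix_comm σ hσ hfix hodd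
  letI : CommGroup H := { (inferInstance : Group H) with mul_comm := hHcomm }
  haveI : Group.IsSolvable H := Group.isSolvable_of_comm hHcomm
  have hsurj : Function.Surjective ((QuotientGroup.mk' Dc).comp H.subtype) := by
    intro q
    obtain ⟨x, rfl⟩ := QuotientGroup.mk'_surjective Dc q
    set e := x⁻¹ * (σ ^ 2) x with he
    have hτe : (σ ^ 2) e = e⁻¹ := by
      rw [he, map_mul, map_inv, hτ x]
      group
    have hss := sq_mul_sq hodd e
    have hτs : (σ ^ 2) (sq e) = (sq e)⁻¹ := hsqinv e hτe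
    have hH' : (σ ^ 2) (x * sq e) = x * sq e := by
      rw [map_mul, hτs]
      have h1 : (σ ^ 2) x = x * e := by rw [he]; group
      rw [h1]
      nth_rw 1 [← hss]
      group
    refine ⟨⟨x * sq e, hH'⟩, ?_⟩
    show ((x * sq e : Q) : Q ⧸ Dc) = (x : Q ⧸ Dc)
    rw [QuotientGroup.eq]
    have : (x * sq e)⁻¹ * x = (sq e)⁻¹ := by group
    rw [this]
    apply Dc.inv_mem
    apply Subgroup.subset_closure
    exact hτs
  haveI : Group.IsSolvable (Q ⧸ Dc) := Group.isSolvable_of_surjective hsurj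
  exact Group.isSolvable_of_ker_le_range Dc.subtype (QuotientGroup.mk' Dc) (by
    rw [QuotientGroup.ker_mk', Subgroup.range_subtype])

end Main

end Cfsg.Agent.Lib.GH4
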