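import Mathlib

/-!
# The integer pattern behind involution centralizers `GL(2,3)`

Five orthogonal integer rows on a finite index set, small norms, congruences: the rows are determined
on the few indices which matter.
-/

set_option autoImplicit false
set_option linter.unusedVariables false
set_option linter.unusedSectionVars false

namespace Cfsg.Agent.Lib.GL23Pattern

open Finset

section Basic

variable {ι : Type*} [DecidableEq ι]

theorem pm_of_sq {x : ℤ} (h : x ^ 2 = 1) : x = 1 ∨ x = -1 := by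
  have h1 : (x - 1) * (x + 1) = 0 := by ring_nf; linarith
  rcases mul_eq_zero.mp h1 with h2 | h2
  · left; linarith
  · right; linarith

theorem sq_one_of_le {x : ℤ} (h0 : x ≠ 0) (h : x ^ 2 ≤ 3) : x ^ 2 = 1 := by
  have h1 : x < 2 := by nlinarith
  have h2 : -2 < x := by nlinarith
  interval_cases x <;> simp_all

theorem one_le_sq {x : ℤ} (h0 : x ≠ 0) : 1 ≤ x ^ 2 := by
  have : 0 < x ^ 2 := by positivity
  omega

theorem four_le_sq {x : ℤ} (h : x ≠ 0) (h1 : x ≠ 1) (h2 : x ≠ -1) : 4 ≤ x ^ 2 := by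
  by_contra hlt
  push Not at hlt
  have h3 : x < 2 := by nlinarith
  have h4 : -2 < x := by nlinarith
  interval_cases x <;> simp_all

theorem peel (S : Finset ι) (f : ι → ℤ) (n : ℤ) (h : ∑ i ∈ S, f i ^ 2 = n) (hn : 0 < n) :
    ∃ a ∈ S, f a ≠ 0 ∧ ∑ i ∈ S.erase a, f i ^ 2 = n - f a ^ 2 := by
  have : ∃ a ∈ S, f a ≠ 0 := by
    by_contra hc
    push Not at hc
    have : ∑ i ∈ S, f i ^ 2 = 0 := Finset.sum_eq_zero (fun i hi => by rw [hc i hi]; simp)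
    omega
  obtain ⟨a, ha, hfa⟩ := this
  refine ⟨a, ha, hfa, ?_⟩
  have := Finset.add_sum_erase S (fun i => f i ^ 2) ha
  linarith

theorem sum_sq_nonneg (S : Finset ι) (f : ι → ℤ) : 0 ≤ ∑ i ∈ S, f i ^ 2 :=
  Finset.sum_nonneg fun i _ => sq_nonneg _

theorem norm_two (S : Finset ι) (f : ι → ℤ) (h : ∑ i ∈ S, f i ^ 2 = 2) :
    ∃ a ∈ S, ∃ b ∈ S, a ≠ b ∧ f a ^ 2 = 1 ∧ f b ^ 2 = 1 ∧ ∀ i ∈ S, i ≠ a → i ≠ b → f i = 0 := by
  obtain ⟨a, ha, h1, h2⟩ := peel S f 2 h (by norm_num)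
  have h3 := sum_sq_nonneg (S.erase a) f
  have h4 : f a ^ 2 = 1 := sq_one_of_le h1 (by linarith)
  rw [h4] at h2
  obtain ⟨b, hb, h5, h6⟩ := peel (S.erase a) f 1 (by linarith) (by norm_num)
  have h7 := sum_sq_nonneg ((S.erase a).erase b) f
  have h8 : f b ^ 2 = 1 := sq_one_of_le h5 (by linarith)
  rw [h8] at h6
  have hb' := Finset.mem_erase.mp hb
  refine ⟨a, ha, b, hb'.2, hb'.1.symm, h4, h8, ?_⟩
  intro i hi hia hib
  have h9 : ∑ i ∈ (S.erase a).erase b, f i ^ 2 = 0 := by linarith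
  rw [Finset.sum_eq_zero_iff_of_nonneg (fun i _ => sq_nonneg _)] at h9
  have := h9 i (Finset.mem_erase.mpr ⟨hib, Finset.mem_erase.mpr ⟨hia, hi⟩⟩)
  exact pow_eq_zero_iff (two_ne_zero) |>.mp this

theorem norm_three (S : Finset ι) (f : ι → ℤ) (h : ∑ i ∈ S, f i ^ 2 = 3) :
    ∃ a ∈ S, ∃ b ∈ S, ∃ c ∈ S, a ≠ b ∧ a ≠ c ∧ b ≠ c ∧ f a ^ 2 = 1 ∧ f b ^ 2 = 1 ∧ f c ^ 2 = 1 ∧
      ∀ i ∈ S, i ≠ a → i ≠ b → i ≠ c → f i = 0 := by
  obtain ⟨a, ha, h1, h2⟩ := peel S f 3 h (by norm_num)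
  have h3 := sum_sq_nonneg (S.erase a) f
  have h4 : f a ^ 2 = 1 := sq_one_of_le h1 (by linarith)
  rw [h4] at h2
  obtain ⟨b, hb, c, hc, hbc, h5, h6, h7⟩ := norm_two (S.erase a) f (by linarith)
  have hb' := Finset.mem_erase.mp hb
  have hc' := Finset.mem_erase.mp hc
  refine ⟨a, ha, b, hb'.2, c, hc'.2, hb'.1.symm, hc'.1.symm, hbc, h4, h5, h6, ?_⟩
  intro i hi hia hib hic
  exact h7 i (Finset.mem_erase.mpr ⟨hia, hi⟩) hib hic

theorem sum_zero_outside {α : Type*} [AddCommMonoid α] [Fintype ι] (T : Finset ι) (F : ι → α)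
    (h : ∀ i, i ∉ T → F i = 0) : ∑ i, F i = ∑ i ∈ T, F i :=
  (Finset.sum_subset (Finset.subset_univ T) (fun i _ hi => h i hi)).symm

theorem zero_outside [Fintype ι] (f : ι → ℤ) (T : Finset ι)
    (h : ∑ i, f i ^ 2 ≤ ∑ i ∈ T, f i ^ 2) (i : ι) (hi : i ∉ T) : f i = 0 := by
  have h1 := Finset.sum_sdiff (Finset.subset_univ T) (f := fun i => f i ^ 2)
  have h2 : ∑ i ∈ Finset.univ \ T, f i ^ 2 = 0 := by
    have h3 := sum_sq_nonneg (Finset.univ \ T) f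
    linarith
  rw [Finset.sum_eq_zero_iff_of_nonneg (fun i _ => sq_nonneg _)] at h2
  have := h2 i (by simp [hi])
  exact pow_eq_zero_iff (two_ne_zero) |>.mp this

theorem sum_two {α : Type*} [AddCommMonoid α] [Fintype ι] (F : ι → α) {a b : ι} (hab : a ≠ b)
    (h : ∀ i, i ≠ a → i ≠ b → F i = 0) : ∑ i, F i = F a + F b := by
  rw [sum_zero_outside {a, b} F (fun i hi => by
    simp only [mem_insert, mem_singleton, not_or] at hi
    exact h i hi.1 hi.2), Finset.sum_pair hab]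

theorem sum_three {α : Type*} [AddCommMonoid α] [Fintype ι] (F : ι → α) {a b c : ι} (hab : a ≠ b)
    (hac : a ≠ c) (hbc : b ≠ c)
    (h : ∀ i, i ≠ a → i ≠ b → i ≠ c → F i = 0) : ∑ i, F i = F a + (F b + F c) := by
  rw [sum_zero_outside {a, b, c} F (fun i hi => by
    simp only [mem_insert, mem_singleton, not_or] at hi
    exact h i hi.1 hi.2.1 hi.2.2),
    Finset.sum_insert (by simp [hab, hac]), Finset.sum_pair hbc]

end Basic

section Pattern

variable {ι : Type*} [Fintype ι] [DecidableEq ι]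

/-- The pair carrying the norm two row. -/
theorem pair_n3 (D n₃ : ι → ℤ) (hD : ∀ i, 0 < D i) (n33 : ∑ i, n₃ i ^ 2 = 2)
    (Dn3 : ∑ i, D i * n₃ i = 0) :
    ∃ X X' : ι, X ≠ X' ∧ n₃ X = 1 ∧ n₃ X' = -1 ∧ D X = D X' ∧ ∀ i, i ≠ X → i ≠ X' → n₃ i = 0 := by
  obtain ⟨a, -, b, -, hab, h1, h2, h3⟩ := norm_two Finset.univ n₃ n33
  have h4 : ∀ i, i ≠ a → i ≠ b → n₃ i = 0 := fun i => h3 i (Finset.mem_univ _)
  have h5 := sum_two (fun i => D i * n₃ i) hab (fun i hia hib => by simp [h4 i hia hib])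
  rw [Dn3] at h5
  have hDa := hD a
  have hDb := hD b
  rcases pm_of_sq h1 with h6 | h6 <;> rcases pm_of_sq h2 with h7 | h7 <;> rw [h6, h7] at h5
  · exfalso; omega
  · exact ⟨a, b, hab, h6, h7, by omega, h4⟩
  · exact ⟨b, a, hab.symm, h7, h6, by omega, fun i hi hj => h4 i hj hi⟩
  · exfalso; omega

theorem eq_on_pair (h n₃ : ι → ℤ) {X X' : ι} (hXX : X ≠ X') (h1 : n₃ X = 1) (h2 : n₃ X' = -1)
    (h3 : ∀ i, i ≠ X → i ≠ X' → n₃ i = 0) (h4 : ∑ i, h i * n₃ i = 0) : h X = h X' := by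
  have h5 := sum_two (fun i => h i * n₃ i) hXX (fun i hia hib => by simp [h3 i hia hib])
  rw [h4, h1, h2] at h5
  omega

/-- The case where the pair `X`, `X'` supports also the row `n₂`: this does not occur. -/
theorem case_two (r g n₁ n₂ n₃ : ι → ℤ) (i₀ b c X X' : ι)
    (rr : ∑ i, r i ^ 2 = 16) (rg : ∑ i, r i * g i = 0)
    (hcong : ∀ i, (4 : ℤ) ∣ r i - n₁ i - n₂ i - 2 * n₃ i)
    (hi₀b : i₀ ≠ b) (hi₀c : i₀ ≠ c) (hbc : b ≠ c) (hi₀X : i₀ ≠ X) (hi₀X' : i₀ ≠ X')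
    (hbX : b ≠ X) (hbX' : b ≠ X') (hcX : c ≠ X) (hcX' : c ≠ X') (hXX : X ≠ X')
    (r0 : r i₀ = 1) (g0 : g i₀ = 1) (n10 : n₁ i₀ = 1)
    (hn1 : ∀ i, i ≠ i₀ → i ≠ b → i ≠ c → n₁ i = 0)
    (hn2 : ∀ i, i ≠ b → i ≠ X → i ≠ X' → n₂ i = 0)
    (hσ : n₁ b = 1 ∨ n₁ b = -1) (hb2 : n₂ b = n₁ b) (hν : n₁ c = 1 ∨ n₁ c = -1)
    (hκ : n₂ X = 1 ∨ n₂ X = -1) (hκ' : n₂ X' = n₂ X)
    (hn3b : n₃ b = 0) (hn3c : n₃ c = 0) (hn3X : n₃ X = 1) (hn3X' : n₃ X' = -1)
    (hn2c : n₂ c = 0) (hn1X : n₁ X = 0) (hn1X' : n₁ X' = 0)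
    (rn1 : ∑ i, r i * n₁ i = 0) (rn2 : ∑ i, r i * n₂ i = 0) (hrX : r X = r X')
    (gn1 : ∑ i, g i * n₁ i = 0) (gn2 : ∑ i, g i * n₂ i = 0) (hgX : g X = g X') : False := by
  have e1 := sum_three (fun i => r i * n₁ i) hi₀b hi₀c hbc (fun i h1 h2 h3 => by simp [hn1 i h1 h2 h3])
  have e2 := sum_three (fun i => r i * n₂ i) hbX hbX' hXX (fun i h1 h2 h3 => by simp [hn2 i h1 h2 h3])
  have e3 := sum_three (fun i => g i * n₁ i) hi₀b hi₀c hbc (fun i h1 h2 h3 => by simp [hn1 i h1 h2 h3])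
  have e4 := sum_three (fun i => g i * n₂ i) hbX hbX' hXX (fun i h1 h2 h3 => by simp [hn2 i h1 h2 h3])
  rw [rn1, r0, n10] at e1
  rw [rn2, hb2, hκ', ← hrX] at e2
  rw [gn1, g0, n10] at e3
  rw [gn2, hb2, hκ', ← hgX] at e4
  -- congruences
  have c1 := hcong b
  have c2 := hcong c
  have c3 := hcong X
  rw [hb2, hn3b] at c1
  rw [hn2c, hn3c] at c2
  rw [hn1X, hn3X] at c3
  -- the norm bound
  let T : Finset ι := {i₀, b, c, X, X'}
  have hTsum : ∀ F : ι → ℤ, ∑ i ∈ T, F i = F i₀ + (F b + (F c + (F X + F X'))) := by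
    intro F
    rw [Finset.sum_insert (by simp [hi₀b, hi₀c, hi₀X, hi₀X']),
      Finset.sum_insert (by simp [hbc, hbX, hbX']),
      Finset.sum_insert (by simp [hcX, hcX']), Finset.sum_pair hXX]
  have hle : ∑ i ∈ T, r i ^ 2 ≤ ∑ i, r i ^ 2 :=
    Finset.sum_le_univ_sum_of_nonneg (fun i => sq_nonneg _)
  rw [hTsum, rr, r0, ← hrX] at hle
  -- values
  have hrX1 : r X ^ 2 ≤ 2 := by
    have h5 : r b ^ 2 = 4 * r X ^ 2 := by
      rcases hσ with h | h <;> rcases hκ with h' | h' <;> rw [h, h'] at e2 <;>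
        · have : r b = 2 * r X ∨ r b = -2 * r X := by omega
          rcases this with h6 | h6 <;> rw [h6] <;> ring
    nlinarith [sq_nonneg (r c)]
  have hrX2 : r X < 2 := by nlinarith
  have hrX3 : -2 < r X := by nlinarith
  have hrXval : r X * n₂ X = -1 := by
    rcases hκ with h | h <;> rw [h] at c3 ⊢ <;> omega
  have hrbσ : r b * n₁ b = 2 := by
    have h5 : r b * n₁ b + 2 * (r X * n₂ X) = 0 := by linarith
    rw [hrXval] at h5
    linarith
  have hrcν : r c * n₁ c = -3 := by linarith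
  have hsq1 : r b ^ 2 = 4 := by
    rcases hσ with h | h <;> rw [h] at hrbσ
    · have : r b = 2 := by linarith
      rw [this]; norm_num
    · have : r b = -2 := by linarith
      rw [this]; norm_num
  have hsq2 : r c ^ 2 = 9 := by
    rcases hν with h | h <;> rw [h] at hrcν
    · have : r c = -3 := by linarith
      rw [this]; norm_num
    · have : r c = 3 := by linarith
      rw [this]; norm_num
  have hsq3 : r X ^ 2 = 1 := by
    rcases hκ with h | h <;> rw [h] at hrXval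
    · have : r X = -1 := by linarith
      rw [this]; norm_num
    · have : r X = 1 := by linarith
      rw [this]; norm_num
  -- `r` vanishes outside `T`
  have hout : ∀ i, i ∉ T → r i = 0 := by
    intro i hi
    refine zero_outside r T ?_ i hi
    rw [hTsum, rr, r0, ← hrX, hsq1, hsq2, hsq3]
    norm_num
  have hrg := sum_zero_outside T (fun i => r i * g i) (fun i hi => by simp [hout i hi])
  rw [rg, hTsum, r0, g0, ← hrX, ← hgX] at hrg
  -- linear contradiction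
  have hrb : r b = 2 * n₁ b := by
    rcases hσ with h | h <;> rw [h] at hrbσ ⊢ <;> linarith
  have hrc : r c = -3 * n₁ c := by
    rcases hν with h | h <;> rw [h] at hrcν ⊢ <;> linarith
  have hrx : r X = - n₂ X := by
    rcases hκ with h | h <;> rw [h] at hrXval ⊢ <;> linarith
  rw [hrb, hrc, hrx] at hrg
  rcases hσ with h1 | h1 <;> rcases hν with h2 | h2 <;> rcases hκ with h3 | h3 <;>
    rw [h1] at hrg e3 e4 <;> rw [h2] at hrg e3 <;> rw [h3] at hrg e4 <;> omega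

set_option maxHeartbeats 4000000 in
/-- The generic case. -/
theorem case_one (r g n₁ n₂ n₃ : ι → ℤ) (i₀ b c a e X X' : ι)
    (rr : ∑ i, r i ^ 2 = 16) (gg : ∑ i, g i ^ 2 = 8) (rg : ∑ i, r i * g i = 0)
    (hpar : ∀ i, (2 : ℤ) ∣ r i - g i)
    (hcong : ∀ i, (4 : ℤ) ∣ r i - n₁ i - n₂ i - 2 * n₃ i)
    (h01 : i₀ ≠ b) (h02 : i₀ ≠ c) (h03 : i₀ ≠ a) (h04 : i₀ ≠ e) (h05 : i₀ ≠ X) (h06 : i₀ ≠ X')
    (h12 : b ≠ c) (h13 : b ≠ a) (h14 : b ≠ e) (h15 : b ≠ X) (h16 : b ≠ X')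
    (h23 : c ≠ a) (h24 : c ≠ e) (h25 : c ≠ X) (h26 : c ≠ X')
    (h34 : a ≠ e) (h35 : a ≠ X) (h36 : a ≠ X')
    (h45 : e ≠ X) (h46 : e ≠ X') (h56 : X ≠ X')
    (r0 : r i₀ = 1) (g0 : g i₀ = 1) (n10 : n₁ i₀ = 1)
    (hn1 : ∀ i, i ≠ i₀ → i ≠ b → i ≠ c → n₁ i = 0)
    (hn2 : ∀ i, i ≠ b → i ≠ a → i ≠ e → n₂ i = 0)
    (hσ : n₁ b = 1 ∨ n₁ b = -1) (hb2 : n₂ b = n₁ b) (hν : n₁ c = 1 ∨ n₁ c = -1)
    (hα : n₂ a = 1 ∨ n₂ a = -1) (hβ : n₂ e = 1 ∨ n₂ e = -1)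
    (hn3b : n₃ b = 0) (hn3c : n₃ c = 0) (hn3a : n₃ a = 0) (hn3e : n₃ e = 0)
    (hn3X : n₃ X = 1) (hn3X' : n₃ X' = -1)
    (hn2c : n₂ c = 0) (hn2X : n₂ X = 0) (hn2X' : n₂ X' = 0)
    (hn1X : n₁ X = 0) (hn1X' : n₁ X' = 0) (hn1a : n₁ a = 0) (hn1e : n₁ e = 0)
    (rn1 : ∑ i, r i * n₁ i = 0) (hrX : r X = r X')
    (gn1 : ∑ i, g i * n₁ i = 0) (gn2 : ∑ i, g i * n₂ i = 0) (hgX : g X = g X') :
    2 * g b - r b = 2 * n₁ b ∧ (2 * g c - r c) ^ 2 = 9 ∧
      (((2 * g a - r a) ^ 2 = 1 ∧ (2 * g e - r e) ^ 2 = 9) ∨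
        ((2 * g a - r a) ^ 2 = 9 ∧ (2 * g e - r e) ^ 2 = 1)) := by
  have e1 := sum_three (fun i => r i * n₁ i) h01 h02 h12 (fun i h1 h2 h3 => by simp [hn1 i h1 h2 h3])
  have e3 := sum_three (fun i => g i * n₁ i) h01 h02 h12 (fun i h1 h2 h3 => by simp [hn1 i h1 h2 h3])
  have e4 := sum_three (fun i => g i * n₂ i) h13 h14 h34 (fun i h1 h2 h3 => by simp [hn2 i h1 h2 h3])
  rw [rn1, r0, n10] at e1
  rw [gn1, g0, n10] at e3
  rw [gn2, hb2] at e4
  -- congruences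
  have c1 := hcong b
  have c2 := hcong c
  have c3 := hcong a
  have c4 := hcong e
  have c5 := hcong X
  have c6 := hcong X'
  rw [hb2, hn3b] at c1
  rw [hn2c, hn3c] at c2
  rw [hn1a, hn3a] at c3
  rw [hn1e, hn3e] at c4
  rw [hn1X, hn2X, hn3X] at c5
  rw [hn1X', hn2X', hn3X'] at c6
  let T : Finset ι := {i₀, b, c, a, e, X, X'}
  have hTsum : ∀ F : ι → ℤ, ∑ i ∈ T, F i = F i₀ + (F b + (F c + (F a + (F e + (F X + F X'))))) := by
    intro F
    rw [Finset.sum_insert (by simp [h01, h02, h03, h04, h05, h06]),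
      Finset.sum_insert (by simp [h12, h13, h14, h15, h16]),
      Finset.sum_insert (by simp [h23, h24, h25, h26]),
      Finset.sum_insert (by simp [h34, h35, h36]),
      Finset.sum_insert (by simp [h45, h46]), Finset.sum_pair h56]
  have hle : ∑ i ∈ T, r i ^ 2 ≤ ∑ i, r i ^ 2 :=
    Finset.sum_le_univ_sum_of_nonneg (fun i => sq_nonneg _)
  rw [hTsum, rr, r0] at hle
  have hleg : ∑ i ∈ T, g i ^ 2 ≤ ∑ i, g i ^ 2 :=
    Finset.sum_le_univ_sum_of_nonneg (fun i => sq_nonneg _)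
  rw [hTsum, gg, g0] at hleg
  have b1 : 4 ≤ r b ^ 2 := by
    apply four_le_sq <;> rcases hσ with h | h <;> rw [h] at c1 <;> omega
  have b2 : 1 ≤ r c ^ 2 := by
    apply one_le_sq; rcases hν with h | h <;> rw [h] at c2 <;> omega
  have b3 : 1 ≤ r a ^ 2 := by
    apply one_le_sq; rcases hα with h | h <;> rw [h] at c3 <;> omega
  have b4 : 1 ≤ r e ^ 2 := by
    apply one_le_sq; rcases hβ with h | h <;> rw [h] at c4 <;> omega
  have b5 : 4 ≤ r X ^ 2 := by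
    apply four_le_sq <;> omega
  have b6 : 4 ≤ r X' ^ 2 := by
    apply four_le_sq <;> omega
  have q1 : r b ^ 2 = 4 := by linarith
  have q2 : r c ^ 2 = 1 := by linarith
  have q3 : r a ^ 2 = 1 := by linarith
  have q4 : r e ^ 2 = 1 := by linarith
  have q5 : r X ^ 2 = 4 := by linarith
  have q6 : r X' ^ 2 = 4 := by linarith
  have hout : ∀ i, i ∉ T → r i = 0 := by
    intro i hi
    refine zero_outside r T ?_ i hi
    rw [hTsum, rr, r0, q1, q2, q3, q4, q5, q6]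
    norm_num
  have hrg := sum_zero_outside T (fun i => r i * g i) (fun i hi => by simp [hout i hi])
  rw [rg, hTsum, r0, g0, ← hrX, ← hgX] at hrg
  have v2 : r c = n₁ c := by
    rcases pm_of_sq q2 with h | h <;> rcases hν with h' | h' <;> rw [h] at c2 ⊢ <;> rw [h'] at c2 ⊢ <;> omega
  have v3 : r a = n₂ a := by
    rcases pm_of_sq q3 with h | h <;> rcases hα with h' | h' <;> rw [h] at c3 ⊢ <;> rw [h'] at c3 ⊢ <;> omega
  have v4 : r e = n₂ e := by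
    rcases pm_of_sq q4 with h | h <;> rcases hβ with h' | h' <;> rw [h] at c4 ⊢ <;> rw [h'] at c4 ⊢ <;> omega
  have v1 : r b = -2 * n₁ b := by
    rw [v2] at e1
    rcases hν with h | h <;> rw [h] at e1 <;> rcases hσ with h' | h' <;> rw [h'] at e1 ⊢ <;> omega
  have v5 : r X = 2 ∨ r X = -2 := by
    have : (r X - 2) * (r X + 2) = 0 := by ring_nf; linarith
    rcases mul_eq_zero.mp this with h | h
    · left; linarith
    · right; linarith
  -- parity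
  have pg1 := hpar b
  have pg2 := hpar c
  have pg3 := hpar a
  have pg4 := hpar e
  have pg5 := hpar X
  rw [v1] at pg1
  rw [v2] at pg2
  rw [v3] at pg3
  rw [v4] at pg4
  rw [v1, v2, v3, v4] at hrg
  -- the key relation
  have hgX2 : g X ^ 2 = g b ^ 2 := by
    have : g X = g b ∨ g X = - g b := by
      rcases v5 with h | h <;> rw [h] at hrg <;>
        rcases hσ with h1 | h1 <;> rcases hν with h2 | h2 <;> rcases hα with h3 | h3 <;>
        rcases hβ with h4 | h4 <;> rw [h1] at hrg e3 e4 <;> rw [h2] at hrg e3 <;>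
        rw [h3] at hrg e4 <;> rw [h4] at hrg e4 <;> omega
    rcases this with h | h <;> rw [h] <;> ring
  have pc : 1 ≤ g c ^ 2 := by
    apply one_le_sq; rcases hν with h | h <;> rw [h] at pg2 <;> omega
  have pa : 1 ≤ g a ^ 2 := by
    apply one_le_sq; rcases hα with h | h <;> rw [h] at pg3 <;> omega
  have pe : 1 ≤ g e ^ 2 := by
    apply one_le_sq; rcases hβ with h | h <;> rw [h] at pg4 <;> omega
  rw [← hgX, hgX2] at hleg
  have hgb : g b = 0 := by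
    have h1 : g b ^ 2 ≤ 1 := by nlinarith
    have h2 : g b < 2 := by nlinarith
    have h3 : -2 < g b := by nlinarith
    rcases hσ with h | h <;> rw [h] at pg1 <;> omega
  have hgXz : g X = 0 := by
    have : g X ^ 2 = 0 := by rw [hgX2, hgb]; norm_num
    exact pow_eq_zero_iff (two_ne_zero) |>.mp this
  rw [hgb] at e3 e4 hleg
  have hgc : g c = - n₁ c := by
    rcases hν with h | h <;> rw [h] at e3 ⊢ <;> omega
  refine ⟨?_, ?_, ?_⟩
  · rw [v1, hgb]; ring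
  · rw [v2, hgc]
    rcases hν with h | h <;> rw [h] <;> norm_num
  · have hgc2 : g c ^ 2 = 1 := by
      rw [hgc]; rcases hν with h | h <;> rw [h] <;> norm_num
    have hsq : g a ^ 2 = g e ^ 2 := by
      have : g a = g e ∨ g a = - g e := by
        rcases hα with h | h <;> rcases hβ with h' | h' <;> rw [h, h'] at e4 <;> omega
      rcases this with h | h <;> rw [h] <;> ring
    have hle2 : g a ^ 2 ≤ 3 := by nlinarith
    have h2 : g a < 2 := by nlinarith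
    have h3 : -2 < g a := by nlinarith
    rw [v3, v4]
    have e5 : g a * n₂ a + g e * n₂ e = 0 := by
      rw [zero_mul] at e4
      linarith
    have ga : g a = 1 ∨ g a = -1 := by
      rcases hα with h | h <;> rw [h] at pg3 <;> omega
    have ge : g e = 1 ∨ g e = -1 := by
      rcases hα with h | h <;> rcases hβ with h' | h' <;> rw [h, h'] at e5 <;> omega
    rcases hα with h | h <;> rcases hβ with h' | h' <;> rcases ga with h'' | h'' <;>
      rcases ge with h''' | h''' <;> rw [h, h', h'', h'''] at e5 <;> rw [h, h', h'', h'''] <;>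
      first
        | (exfalso; omega)
        | (left; norm_num; done)
        | (right; norm_num; done)

set_option maxHeartbeats 2000000 in
/-- The pattern of the five rows. -/
theorem pattern (D r g n₁ n₂ n₃ : ι → ℤ) (i₀ : ι)
    (hD : ∀ i, 0 < D i) (D0 : D i₀ = 1)
    (rr : ∑ i, r i ^ 2 = 16) (gg : ∑ i, g i ^ 2 = 8) (rg : ∑ i, r i * g i = 0)
    (hpar : ∀ i, (2 : ℤ) ∣ r i - g i)
    (hcong : ∀ i, (4 : ℤ) ∣ r i - n₁ i - n₂ i - 2 * n₃ i)
    (n11 : ∑ i, n₁ i ^ 2 = 3) (n22 : ∑ i, n₂ i ^ 2 = 3) (n12 : ∑ i, n₁ i * n₂ i = 1)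
    (n33 : ∑ i, n₃ i ^ 2 = 2) (n13 : ∑ i, n₁ i * n₃ i = 0) (n23 : ∑ i, n₂ i * n₃ i = 0)
    (rn1 : ∑ i, r i * n₁ i = 0) (rn2 : ∑ i, r i * n₂ i = 0) (rn3 : ∑ i, r i * n₃ i = 0)
    (gn1 : ∑ i, g i * n₁ i = 0) (gn2 : ∑ i, g i * n₂ i = 0) (gn3 : ∑ i, g i * n₃ i = 0)
    (r0 : r i₀ = 1) (g0 : g i₀ = 1) (n10 : n₁ i₀ = 1) (n20 : n₂ i₀ = 0) (n30 : n₃ i₀ = 0)
    (Dn1 : ∑ i, D i * n₁ i = 0) (Dn3 : ∑ i, D i * n₃ i = 0) :
    ∃ b c a e : ι, i₀ ≠ b ∧ i₀ ≠ c ∧ b ≠ c ∧ b ≠ a ∧ b ≠ e ∧ a ≠ e ∧ a ≠ i₀ ∧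
      (∀ i, i ≠ i₀ → i ≠ b → i ≠ c → n₁ i = 0) ∧
      (∀ i, i ≠ b → i ≠ a → i ≠ e → n₂ i = 0) ∧
      (n₁ b = 1 ∨ n₁ b = -1) ∧ n₂ b = n₁ b ∧ n₃ b = 0 ∧
      (n₁ c = 1 ∨ n₁ c = -1) ∧ (n₂ a = 1 ∨ n₂ a = -1) ∧ (n₂ e = 1 ∨ n₂ e = -1) ∧
      2 * g b - r b = 2 * n₁ b ∧ (2 * g c - r c) ^ 2 = 9 ∧ (2 * g a - r a) ^ 2 = 1 ∧
      (2 * g e - r e) ^ 2 = 9 := by
  obtain ⟨X, X', hXX, h3X, h3X', hDX, h3⟩ := pair_n3 D n₃ hD n33 Dn3
  have hX0 : i₀ ≠ X := by
    rintro rfl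
    rw [n30] at h3X
    omega
  have hX0' : i₀ ≠ X' := by
    rintro rfl
    rw [n30] at h3X'
    omega
  -- the row `n₁`
  have hS : ∑ i ∈ Finset.univ.erase i₀, n₁ i ^ 2 = 2 := by
    have := Finset.add_sum_erase Finset.univ (fun i => n₁ i ^ 2) (Finset.mem_univ i₀)
    rw [n11, n10] at this
    linarith
  obtain ⟨U, hU, U', hU', hUU, h1U, h1U', h1s⟩ := norm_two _ n₁ hS
  have hU0 : i₀ ≠ U := (Finset.mem_erase.mp hU).1.symm
  have hU0' : i₀ ≠ U' := (Finset.mem_erase.mp hU').1.symm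
  have hn1 : ∀ i, i ≠ i₀ → i ≠ U → i ≠ U' → n₁ i = 0 := fun i h1 h2 h3 =>
    h1s i (Finset.mem_erase.mpr ⟨h1, Finset.mem_univ _⟩) h2 h3
  have h1XX : n₁ X = n₁ X' := eq_on_pair n₁ n₃ hXX h3X h3X' h3 n13
  have hDsum := sum_three (fun i => D i * n₁ i) hU0 hU0' hUU
    (fun i h1 h2 h3 => by simp [hn1 i h1 h2 h3])
  rw [Dn1, D0, n10] at hDsum
  have h1X0 : n₁ X = 0 := by
    by_contra hne
    have hne' : n₁ X' ≠ 0 := by rwa [← h1XX]
    have a1 : X = U ∨ X = U' := by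
      by_contra hc
      push Not at hc
      exact hne (hn1 X hX0.symm hc.1 hc.2)
    have a2 : X' = U ∨ X' = U' := by
      by_contra hc
      push Not at hc
      exact hne' (hn1 X' hX0'.symm hc.1 hc.2)
    have a3 : 1 + 2 * (D X * n₁ X) = 0 := by
      rcases a1 with rfl | rfl <;> rcases a2 with rfl | rfl
      · exact absurd rfl hXX
      · rw [← hDX, ← h1XX] at hDsum; linarith
      · rw [← hDX, ← h1XX] at hDsum; linarith
      · exact absurd rfl hXX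
    omega
  have h1X0' : n₁ X' = 0 := by rw [← h1XX, h1X0]
  -- the row `n₂`
  obtain ⟨V₁, -, V₂, -, V₃, -, h12, h13', h23, hV₁, hV₂, hV₃, h2s⟩ := norm_three Finset.univ n₂ n22
  have hn2 : ∀ i, i ≠ V₁ → i ≠ V₂ → i ≠ V₃ → n₂ i = 0 := fun i h1 h2 h3 => h2s i (Finset.mem_univ _) h1 h2 h3
  have hn2val : ∀ i, n₂ i = 0 ∨ n₂ i = 1 ∨ n₂ i = -1 := by
    intro i
    by_cases h1 : i = V₁
    · subst h1; right; exact pm_of_sq hV₁
    by_cases h2 : i = V₂
    · subst h2; right; exact pm_of_sq hV₂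
    by_cases h3 : i = V₃
    · subst h3; right; exact pm_of_sq hV₃
    left; exact hn2 i h1 h2 h3
  have hsum12 := sum_three (fun i => n₁ i * n₂ i) hU0 hU0' hUU
    (fun i h1 h2 h3 => by simp [hn1 i h1 h2 h3])
  rw [n12, n10, n20] at hsum12
  -- choose `b` and `c`
  obtain ⟨b, c, hb0, hc0, hbc, hn1', hσ, hν, hb2, hc2⟩ : ∃ b c : ι, i₀ ≠ b ∧ i₀ ≠ c ∧ b ≠ c ∧
      (∀ i, i ≠ i₀ → i ≠ b → i ≠ c → n₁ i = 0) ∧ (n₁ b = 1 ∨ n₁ b = -1) ∧ (n₁ c = 1 ∨ n₁ c = -1) ∧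
      n₂ b = n₁ b ∧ n₂ c = 0 := by
    have p1 := pm_of_sq h1U
    have p2 := pm_of_sq h1U'
    have : (n₂ U = n₁ U ∧ n₂ U' = 0) ∨ (n₂ U' = n₁ U' ∧ n₂ U = 0) := by
      rcases p1 with h | h <;> rcases p2 with h' | h' <;> rw [h, h'] at hsum12 <;> rw [h, h'] <;>
        rcases hn2val U with h1 | h1 | h1 <;> rcases hn2val U' with h2 | h2 | h2 <;>
        rw [h1, h2] at hsum12 ⊢ <;> first | omega | simp
    rcases this with ⟨h1, h2⟩ | ⟨h1, h2⟩
    · exact ⟨U, U', hU0, hU0', hUU, hn1, p1, p2, h1, h2⟩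
    · exact ⟨U', U, hU0', hU0, hUU.symm, fun i h1 h2 h3 => hn1 i h1 h3 h2, p2, p1, h1, h2⟩
  have hb2ne : n₂ b ≠ 0 := by
    rw [hb2]
    rcases hσ with h | h <;> rw [h] <;> norm_num
  -- choose `a`, `e`
  obtain ⟨a, e, hba, hbe, hae, hα, hβ, hn2'⟩ : ∃ a e : ι, b ≠ a ∧ b ≠ e ∧ a ≠ e ∧
      (n₂ a = 1 ∨ n₂ a = -1) ∧ (n₂ e = 1 ∨ n₂ e = -1) ∧
      (∀ i, i ≠ b → i ≠ a → i ≠ e → n₂ i = 0) := by
    have hb3 : b = V₁ ∨ b = V₂ ∨ b = V₃ := by
      by_contra hc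
      push Not at hc
      exact hb2ne (hn2 b hc.1 hc.2.1 hc.2.2)
    rcases hb3 with rfl | rfl | rfl
    · exact ⟨V₂, V₃, h12, h13', h23, pm_of_sq hV₂, pm_of_sq hV₃, fun i h1 h2 h3 => hn2 i h1 h2 h3⟩
    · exact ⟨V₁, V₃, h12.symm, h23, h13', pm_of_sq hV₁, pm_of_sq hV₃,
        fun i h1 h2 h3 => hn2 i h2 h1 h3⟩
    · exact ⟨V₁, V₂, h13'.symm, h23.symm, h12, pm_of_sq hV₁, pm_of_sq hV₂,
        fun i h1 h2 h3 => hn2 i h2 h3 h1⟩
  have hane : n₂ a ≠ 0 := by rcases hα with h | h <;> rw [h] <;> norm_num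
  have hene : n₂ e ≠ 0 := by rcases hβ with h | h <;> rw [h] <;> norm_num
  have hσne : n₁ b ≠ 0 := by rcases hσ with h | h <;> rw [h] <;> norm_num
  have hνne : n₁ c ≠ 0 := by rcases hν with h | h <;> rw [h] <;> norm_num
  have ha0 : i₀ ≠ a := by rintro rfl; exact hane n20
  have he0 : i₀ ≠ e := by rintro rfl; exact hene n20
  have hca : c ≠ a := by rintro rfl; exact hane hc2
  have hce : c ≠ e := by rintro rfl; exact hene hc2
  have hbX : b ≠ X := by rintro rfl; exact hσne h1X0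
  have hbX' : b ≠ X' := by rintro rfl; exact hσne h1X0'
  have hcX : c ≠ X := by rintro rfl; exact hνne h1X0
  have hcX' : c ≠ X' := by rintro rfl; exact hνne h1X0'
  have h3b : n₃ b = 0 := h3 b hbX hbX'
  have h3c : n₃ c = 0 := h3 c hcX hcX'
  have h1a : n₁ a = 0 := hn1' a ha0.symm hba.symm hca.symm
  have h1e : n₁ e = 0 := hn1' e he0.symm hbe.symm hce.symm
  have h2XX : n₂ X = n₂ X' := eq_on_pair n₂ n₃ hXX h3X h3X' h3 n23
  have hrX : r X = r X' := eq_on_pair r n₃ hXX h3X h3X' h3 rn3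
  have hgX : g X = g X' := eq_on_pair g n₃ hXX h3X h3X' h3 gn3
  by_cases hκ : n₂ X = 0
  · have hκ' : n₂ X' = 0 := by rw [← h2XX, hκ]
    have haX : a ≠ X := by rintro rfl; exact hane hκ
    have haX' : a ≠ X' := by rintro rfl; exact hane hκ'
    have heX : e ≠ X := by rintro rfl; exact hene hκ
    have heX' : e ≠ X' := by rintro rfl; exact hene hκ'
    obtain ⟨o1, o2, o3⟩ := case_one r g n₁ n₂ n₃ i₀ b c a e X X' rr gg rg hpar hcong hb0 hc0 ha0 he0 hX0 hX0'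
      hbc hba hbe hbX hbX' hca hce hcX hcX' hae haX haX' heX heX' hXX r0 g0 n10 hn1' hn2' hσ hb2 hν hα hβ
      h3b h3c (h3 a haX haX') (h3 e heX heX') h3X h3X' hc2 hκ hκ' h1X0 h1X0' h1a h1e rn1 hrX gn1 gn2 hgX
    rcases o3 with ⟨o4, o5⟩ | ⟨o4, o5⟩
    · exact ⟨b, c, a, e, hb0, hc0, hbc, hba, hbe, hae, ha0.symm, hn1', hn2', hσ, hb2, h3b, hν, hα, hβ,
        o1, o2, o4, o5⟩
    · exact ⟨b, c, e, a, hb0, hc0, hbc, hbe, hba, hae.symm, he0.symm, hn1',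
        fun i h1 h2 h3 => hn2' i h1 h3 h2, hσ, hb2, h3b, hν, hβ, hα, o1, o2, o5, o4⟩
  · exfalso
    have hκ' : n₂ X' ≠ 0 := by rwa [← h2XX]
    have a1 : X = a ∨ X = e := by
      by_contra hc
      push Not at hc
      exact hκ (hn2' X hbX.symm hc.1 hc.2)
    have a2 : X' = a ∨ X' = e := by
      by_contra hc
      push Not at hc
      exact hκ' (hn2' X' hbX'.symm hc.1 hc.2)
    have hκv : n₂ X = 1 ∨ n₂ X = -1 := by
      rcases a1 with rfl | rfl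
      · exact hα
      · exact hβ
    have hn2'' : ∀ i, i ≠ b → i ≠ X → i ≠ X' → n₂ i = 0 := by
      intro i h1 h2 h3
      refine hn2' i h1 ?_ ?_
      · rcases a1 with rfl | rfl <;> rcases a2 with rfl | rfl
        · exact absurd rfl hXX
        · exact h2
        · exact h3
        · exact absurd rfl hXX
      · rcases a1 with rfl | rfl <;> rcases a2 with rfl | rfl
        · exact absurd rfl hXX
        · exact h3
        · exact h2
        · exact absurd rfl hXX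
    exact case_two r g n₁ n₂ n₃ i₀ b c X X' rr rg hcong hb0 hc0 hbc hX0 hX0' hbX hbX' hcX hcX' hXX r0 g0 n10
      hn1' hn2'' hσ hb2 hν hκv h2XX.symm h3b h3c h3X h3X' hc2 h1X0 h1X0' rn1 rn2 hrX gn1 gn2 hgX

/-- The last arithmetic. -/
theorem final_num (N : ℕ) (B A C E : ℤ) (h1 : 1 + B - C = 0) (h2 : A + B - E = 0) (hB : B ≠ 0)
    (hC : C ≠ 0) (hA : A ≠ 0) (hE : E ≠ 0) (hA1 : A ≠ 1) (hmod : (8 : ℤ) ∣ B - 2)
    (m1 : (N : ℚ) * (1 + 4 / B - 9 / C) = 4608) (m2 : (N : ℚ) * (4 / B + 1 / A - 9 / E) = 4608) :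
    N = 5616 ∨ N = 7920 := by
  have hN : (N : ℚ) ≠ 0 := by
    intro h
    rw [h] at m1
    norm_num at m1
  have m3 : (1 + 4 / (B : ℚ) - 9 / C) = 4 / B + 1 / A - 9 / E :=
    mul_left_cancel₀ hN (m1.trans m2.symm)
  have hC' : C = B + 1 := by linarith
  have hE' : E = A + B := by linarith
  subst hC' hE'
  have qB : (B : ℚ) ≠ 0 := by exact_mod_cast hB
  have qA : (A : ℚ) ≠ 0 := by exact_mod_cast hA
  have qC : (B : ℚ) + 1 ≠ 0 := by exact_mod_cast hC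
  have qE : (A : ℚ) + B ≠ 0 := by exact_mod_cast hE
  push_cast at m1 m2 m3
  have m4 : (1 - (A : ℚ)) * ((B : ℚ) ^ 2 + B * (1 + A) - 8 * A) = 0 := by
    have h3 : (1 - (A : ℚ)) * ((B : ℚ) ^ 2 + B * (1 + A) - 8 * A) =
        -((A : ℚ) * (A + B) * (B + 1)) * ((1 + 4 / (B : ℚ) - 9 / (B + 1)) - (4 / B + 1 / A - 9 / (A + B))) := by
      field_simp
      ring
    rw [h3, m3]
    ring
  have m5 : (1 - A) * (B ^ 2 + B * (1 + A) - 8 * A) = 0 := by exact_mod_cast m4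
  have m6 : B ^ 2 + B * (1 + A) - 8 * A = 0 := by
    rcases mul_eq_zero.mp m5 with h | h
    · exfalso; apply hA1; linarith
    · exact h
  have hk : (B - 8) ∣ 72 := by
    refine ⟨-A - B - 9, ?_⟩
    linear_combination m6
  have hcases : B = 2 ∨ B = 10 ∨ B = 26 := by
    have hk1 := Int.le_of_dvd (by norm_num) hk
    have hk2 := Int.le_of_dvd (by norm_num) ((neg_dvd).mpr hk)
    obtain ⟨l, hl⟩ := hmod
    have hB' : B = 8 * l + 2 := by linarith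
    have hl1 : l ≤ 10 := by omega
    have hl2 : -8 ≤ l := by omega
    clear m1 m2 m3 m4 m5 m6 qB qA qC qE hl hk1 hk2 hB hA1 h1 h2 hA hC hE
    subst hB'
    interval_cases l <;> first
      | (exfalso; revert hk; decide)
      | (clear hk; omega)
  rcases hcases with rfl | rfl | rfl
  · exfalso
    norm_num at m1
  · right
    have : (N : ℚ) = 7920 := by
      norm_num at m1
      linarith
    exact_mod_cast this
  · left
    have : (N : ℚ) = 5616 := by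
      norm_num at m1
      linarith
    exact_mod_cast this

set_option maxHeartbeats 2000000 in
/-- The rows of the character table force the order. -/
theorem rows_main (D v y c n₁ n₂ I R H : ι → ℤ) (i₀ : ι) (N : ℕ)
    (hD : ∀ i, 0 < D i) (D0 : D i₀ = 1) (hperf : ∀ i, D i = 1 → i = i₀)
    (hc : ∀ i, v i = y i + 3 * c i) (hI : ∀ i, I i = n₁ i + n₂ i) (hR : ∀ i, R i = n₁ i - n₂ i)
    (hm : ∀ i, ∃ m p q : ℤ, v i = n₁ i + n₂ i + 4 * m - 2 * (p + q) ∧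
      D i = n₁ i + n₂ i + 4 * m + 2 * (p + q) ∧ H i = p - q)
    (vv : ∑ i, v i ^ 2 = 48) (yy : ∑ i, y i ^ 2 = 6) (vy : ∑ i, v i * y i = 0)
    (II : ∑ i, I i ^ 2 = 8) (RR : ∑ i, R i ^ 2 = 4) (HH : ∑ i, H i ^ 2 = 2)
    (IR : ∑ i, I i * R i = 0) (IH : ∑ i, I i * H i = 0) (RH : ∑ i, R i * H i = 0)
    (vI : ∑ i, v i * I i = 0) (vR : ∑ i, v i * R i = 0) (vH : ∑ i, v i * H i = 0)
    (yI : ∑ i, y i * I i = 0) (yR : ∑ i, y i * R i = 0) (yH : ∑ i, y i * H i = 0)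
    (DI : ∑ i, D i * I i = 0) (DR : ∑ i, D i * R i = 0) (DH : ∑ i, D i * H i = 0)
    (v0 : v i₀ = 1) (y0 : y i₀ = 1) (I0 : I i₀ = 1) (R0 : R i₀ = 1) (H0 : H i₀ = 0)
    (mI : (N : ℚ) * ∑ i, ((v i : ℚ) ^ 2 * (I i : ℚ) / (D i : ℚ)) = 9216)
    (mR : (N : ℚ) * ∑ i, ((v i : ℚ) ^ 2 * (R i : ℚ) / (D i : ℚ)) = 0) :
    N = 5616 ∨ N = 7920 := by
  -- pointwise
  have c0 : c i₀ = 0 := by
    have := hc i₀
    rw [v0, y0] at this
    omega
  have n10 : n₁ i₀ = 1 := by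
    have h1 := hI i₀
    have h2 := hR i₀
    rw [I0] at h1
    rw [R0] at h2
    omega
  have n20 : n₂ i₀ = 0 := by
    have h1 := hI i₀
    have h2 := hR i₀
    rw [I0] at h1
    rw [R0] at h2
    omega
  -- the rows
  have rr : ∑ i, (y i - c i) ^ 2 = 16 := by
    have h : 9 * ∑ i, (y i - c i) ^ 2 = 16 * ∑ i, y i ^ 2 - 8 * ∑ i, v i * y i + ∑ i, v i ^ 2 := by
      simp only [Finset.mul_sum, ← Finset.sum_add_distrib, ← Finset.sum_sub_distrib]
      refine Finset.sum_congr rfl fun i _ => ?_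
      rw [hc i]; ring
    rw [yy, vy, vv] at h
    linarith
  have gg : ∑ i, (y i + c i) ^ 2 = 8 := by
    have h : 9 * ∑ i, (y i + c i) ^ 2 = 4 * ∑ i, y i ^ 2 + 4 * ∑ i, v i * y i + ∑ i, v i ^ 2 := by
      simp only [Finset.mul_sum, ← Finset.sum_add_distrib]
      refine Finset.sum_congr rfl fun i _ => ?_
      rw [hc i]; ring
    rw [yy, vy, vv] at h
    linarith
  have rg : ∑ i, (y i - c i) * (y i + c i) = 0 := by
    have h : 9 * ∑ i, (y i - c i) * (y i + c i) = 8 * ∑ i, y i ^ 2 + 2 * ∑ i, v i * y i - ∑ i, v i ^ 2 := by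
      simp only [Finset.mul_sum, ← Finset.sum_add_distrib, ← Finset.sum_sub_distrib]
      refine Finset.sum_congr rfl fun i _ => ?_
      rw [hc i]; ring
    rw [yy, vy, vv] at h
    linarith
  have n11 : ∑ i, n₁ i ^ 2 = 3 := by
    have h : 4 * ∑ i, n₁ i ^ 2 = ∑ i, I i ^ 2 + 2 * ∑ i, I i * R i + ∑ i, R i ^ 2 := by
      simp only [Finset.mul_sum, ← Finset.sum_add_distrib]
      refine Finset.sum_congr rfl fun i _ => ?_
      rw [hI i, hR i]; ring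
    rw [II, IR, RR] at h
    linarith
  have n22 : ∑ i, n₂ i ^ 2 = 3 := by
    have h : 4 * ∑ i, n₂ i ^ 2 = ∑ i, I i ^ 2 - 2 * ∑ i, I i * R i + ∑ i, R i ^ 2 := by
      simp only [Finset.mul_sum, ← Finset.sum_add_distrib, ← Finset.sum_sub_distrib]
      refine Finset.sum_congr rfl fun i _ => ?_
      rw [hI i, hR i]; ring
    rw [II, IR, RR] at h
    linarith
  have n12 : ∑ i, n₁ i * n₂ i = 1 := by
    have h : 4 * ∑ i, n₁ i * n₂ i = ∑ i, I i ^ 2 - ∑ i, R i ^ 2 := by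
      simp only [Finset.mul_sum, ← Finset.sum_sub_distrib]
      refine Finset.sum_congr rfl fun i _ => ?_
      rw [hI i, hR i]; ring
    rw [II, RR] at h
    linarith
  have n13 : ∑ i, n₁ i * H i = 0 := by
    have h : 2 * ∑ i, n₁ i * H i = ∑ i, I i * H i + ∑ i, R i * H i := by
      simp only [Finset.mul_sum, ← Finset.sum_add_distrib]
      refine Finset.sum_congr rfl fun i _ => ?_
      rw [hI i, hR i]; ring
    rw [IH, RH] at h
    linarith
  have n23 : ∑ i, n₂ i * H i = 0 := by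
    have h : 2 * ∑ i, n₂ i * H i = ∑ i, I i * H i - ∑ i, R i * H i := by
      simp only [Finset.mul_sum, ← Finset.sum_sub_distrib]
      refine Finset.sum_congr rfl fun i _ => ?_
      rw [hI i, hR i]; ring
    rw [IH, RH] at h
    linarith
  -- orthogonality of the two families: a general computation
  have hgen : ∀ X : ι → ℤ, ∑ i, v i * X i = 0 → ∑ i, y i * X i = 0 →
      ∑ i, (y i - c i) * X i = 0 ∧ ∑ i, (y i + c i) * X i = 0 := by
    intro X h1 h2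
    constructor
    · have h : 3 * ∑ i, (y i - c i) * X i = 4 * ∑ i, y i * X i - ∑ i, v i * X i := by
        simp only [Finset.mul_sum, ← Finset.sum_sub_distrib]
        refine Finset.sum_congr rfl fun i _ => ?_
        rw [hc i]; ring
      rw [h1, h2] at h
      linarith
    · have h : 3 * ∑ i, (y i + c i) * X i = 2 * ∑ i, y i * X i + ∑ i, v i * X i := by
        simp only [Finset.mul_sum, ← Finset.sum_add_distrib]
        refine Finset.sum_congr rfl fun i _ => ?_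
        rw [hc i]; ring
      rw [h1, h2] at h
      linarith
  have hgen1 : ∀ W : ι → ℤ, ∑ i, W i * I i = 0 → ∑ i, W i * R i = 0 → ∑ i, W i * n₁ i = 0 ∧
      ∑ i, W i * n₂ i = 0 := by
    intro W h1 h2
    constructor
    · have h : 2 * ∑ i, W i * n₁ i = ∑ i, W i * I i + ∑ i, W i * R i := by
        simp only [Finset.mul_sum, ← Finset.sum_add_distrib]
        refine Finset.sum_congr rfl fun i _ => ?_
        rw [hI i, hR i]; ring
      rw [h1, h2] at h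
      linarith
    · have h : 2 * ∑ i, W i * n₂ i = ∑ i, W i * I i - ∑ i, W i * R i := by
        simp only [Finset.mul_sum, ← Finset.sum_sub_distrib]
        refine Finset.sum_congr rfl fun i _ => ?_
        rw [hI i, hR i]; ring
      rw [h1, h2] at h
      linarith
  obtain ⟨vn1, vn2⟩ := hgen1 v vI vR
  obtain ⟨yn1, yn2⟩ := hgen1 y yI yR
  obtain ⟨Dn1, Dn2⟩ := hgen1 D DI DR
  obtain ⟨rn1, gn1⟩ := hgen n₁ vn1 yn1
  obtain ⟨rn2, gn2⟩ := hgen n₂ vn2 yn2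
  obtain ⟨rn3, gn3⟩ := hgen H vH yH
  have hpar : ∀ i, (2 : ℤ) ∣ (y i - c i) - (y i + c i) := by
    intro i; omega
  have hcong : ∀ i, (4 : ℤ) ∣ (y i - c i) - n₁ i - n₂ i - 2 * H i := by
    intro i
    obtain ⟨m, p, q, h1, h2, h3⟩ := hm i
    have := hc i
    omega
  obtain ⟨b, c', a, e, h0b, h0c, hbc, hba, hbe, hae, ha0, hn1, hn2, hσ, hb2, hHb, hν, hα, hβ, vb, vc, va, ve⟩ :=
    pattern D (fun i => y i - c i) (fun i => y i + c i) n₁ n₂ H i₀ hD D0 rr gg rg hpar hcong n11 n22 n12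
      HH n13 n23 rn1 rn2 rn3 gn1 gn2 gn3 (by simp only [y0, c0]; norm_num) (by simp only [y0, c0]; norm_num)
      n10 n20 H0 Dn1 DH
  have hv : ∀ i, 2 * (y i + c i) - (y i - c i) = v i := by
    intro i; rw [hc i]; ring
  simp only [hv] at vb vc va ve
  -- the moments of `n₁`, `n₂`
  have hqI : ∀ i, ((v i : ℚ) ^ 2 * (I i : ℚ) / (D i : ℚ)) = ((v i : ℚ) ^ 2 * (n₁ i : ℚ) / (D i : ℚ)) +
      ((v i : ℚ) ^ 2 * (n₂ i : ℚ) / (D i : ℚ)) := by
    intro i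
    rw [hI i]; push_cast; ring
  have hqR : ∀ i, ((v i : ℚ) ^ 2 * (R i : ℚ) / (D i : ℚ)) = ((v i : ℚ) ^ 2 * (n₁ i : ℚ) / (D i : ℚ)) -
      ((v i : ℚ) ^ 2 * (n₂ i : ℚ) / (D i : ℚ)) := by
    intro i
    rw [hR i]; push_cast; ring
  simp only [hqI, Finset.sum_add_distrib] at mI
  simp only [hqR, Finset.sum_sub_distrib] at mR
  have m1 : (N : ℚ) * ∑ i, ((v i : ℚ) ^ 2 * (n₁ i : ℚ) / (D i : ℚ)) = 4608 := by linarith
  have m2 : (N : ℚ) * ∑ i, ((v i : ℚ) ^ 2 * (n₂ i : ℚ) / (D i : ℚ)) = 4608 := by linarith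
  rw [sum_three _ h0b h0c hbc (fun i h1 h2 h3 => by simp [hn1 i h1 h2 h3])] at m1
  rw [sum_three _ hba hbe hae (fun i h1 h2 h3 => by simp [hn2 i h1 h2 h3])] at m2
  rw [v0, n10, D0] at m1
  rw [hb2] at m2
  have e1 := sum_three (fun i => D i * n₁ i) h0b h0c hbc (fun i h1 h2 h3 => by simp [hn1 i h1 h2 h3])
  have e2 := sum_three (fun i => D i * n₂ i) hba hbe hae (fun i h1 h2 h3 => by simp [hn2 i h1 h2 h3])
  rw [Dn1, D0, n10] at e1
  rw [Dn2, hb2] at e2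
  have hDb := hD b
  have hDc := hD c'
  have hDa := hD a
  have hDe := hD e
  -- the signed degrees
  have qb : (D b : ℚ) ≠ 0 := by exact_mod_cast hDb.ne'
  have qc : (D c' : ℚ) ≠ 0 := by exact_mod_cast hDc.ne'
  have qa : (D a : ℚ) ≠ 0 := by exact_mod_cast hDa.ne'
  have qe : (D e : ℚ) ≠ 0 := by exact_mod_cast hDe.ne'
  have tb : ((v b : ℚ) ^ 2 * (n₁ b : ℚ) / (D b : ℚ)) = 4 / ((n₁ b * D b : ℤ) : ℚ) := by
    rw [vb]
    rcases hσ with h | h <;> rw [h] <;> push_cast <;> field_simp <;> try norm_num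
  have tc : ((v c' : ℚ) ^ 2 * (n₁ c' : ℚ) / (D c' : ℚ)) = - (9 / ((- n₁ c' * D c' : ℤ) : ℚ)) := by
    have h9 : ((v c' : ℚ)) ^ 2 = 9 := by exact_mod_cast vc
    rw [h9]
    rcases hν with h | h <;> rw [h] <;> push_cast <;> field_simp <;> try norm_num
  have ta : ((v a : ℚ) ^ 2 * (n₂ a : ℚ) / (D a : ℚ)) = 1 / ((n₂ a * D a : ℤ) : ℚ) := by
    have h9 : ((v a : ℚ)) ^ 2 = 1 := by exact_mod_cast va
    rw [h9]
    rcases hα with h | h <;> rw [h] <;> push_cast <;> field_simp <;> try norm_num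
  have te : ((v e : ℚ) ^ 2 * (n₂ e : ℚ) / (D e : ℚ)) = - (9 / ((- n₂ e * D e : ℤ) : ℚ)) := by
    have h9 : ((v e : ℚ)) ^ 2 = 9 := by exact_mod_cast ve
    rw [h9]
    rcases hβ with h | h <;> rw [h] <;> push_cast <;> field_simp <;> try norm_num
  rw [tb, tc] at m1
  rw [tb, ta, te] at m2
  refine final_num N (n₁ b * D b) (n₂ a * D a) (- n₁ c' * D c') (- n₂ e * D e) ?_ ?_ ?_ ?_ ?_ ?_ ?_ ?_ ?_ ?_
  · rcases hσ with h | h <;> rcases hν with h' | h' <;> rw [h] at e1 ⊢ <;> rw [h'] at e1 ⊢ <;> omega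
  · rcases hσ with h | h <;> rcases hα with h' | h' <;> rcases hβ with h'' | h'' <;>
      rw [h] at e2 ⊢ <;> rw [h'] at e2 ⊢ <;> rw [h''] at e2 ⊢ <;> omega
  · rcases hσ with h | h <;> rw [h] <;> omega
  · rcases hν with h | h <;> rw [h] <;> omega
  · rcases hα with h | h <;> rw [h] <;> omega
  · rcases hβ with h | h <;> rw [h] <;> omega
  · intro h1
    have hDa1 : D a = 1 := by
      rcases hα with h | h <;> rw [h] at h1 <;> omega
    exact ha0 (hperf a hDa1)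
  · obtain ⟨m, p, q, h1, h2, h3⟩ := hm b
    rw [hHb] at h3
    have hq : p = q := by omega
    subst hq
    have h8 : D b - v b = 8 * p := by omega
    rw [vb] at h8
    rcases hσ with h | h <;> rw [h] at h8 ⊢ <;> omega
  · rw [← m1]
    congr 1
    push_cast
    ring
  · rw [← m2]
    congr 1
    push_cast
    ring

end Pattern

end Cfsg.Agent.Lib.GL23Pattern
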