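import Mathlib
import Cfsg.Agent.Lib.CharBasic
import Cfsg.Agent.Lib.CharValues

/-!
# Eigenvalue multiplicities of elements of order eight and six
-/

set_option autoImplicit false
set_option linter.unusedVariables false
set_option linter.unusedSectionVars false

namespace Cfsg.Agent.Lib.GL23Roots

open Cfsg Cfsg.Agent.Lib.CharBasic
open scoped ComplexConjugate

/-- Eigenvalue multiplicities for an element of finite order. -/
theorem root_counts {G : Type*} [Group G] {χ : G → ℂ} (hχ : IsCharacter G χ) {c : G} {n : ℕ} [NeZero n]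
    {ξ : ℂ} (hξ : IsPrimitiveRoot ξ n) (hc : c ^ n = 1) :
    ∃ m : ℕ → ℕ, ∀ k : ℕ, χ (c ^ k) = ∑ j ∈ Finset.range n, (m j : ℂ) * ξ ^ (j * k) := by
  classical
  obtain ⟨N, ρ, rfl⟩ := id hχ
  have h4 : (ρ c) ^ n = 1 := by rw [← map_pow, hc, map_one]
  obtain ⟨B, μ, h1, h2⟩ := Cfsg.Agent.Lib.CharValues.exists_eigenbasis (ρ c)
    (Nat.pos_of_ne_zero (NeZero.ne n)) h4
  choose J hJ hJ2 using fun i => hξ.eq_pow_of_pow_eq_one (h2 i)
  refine ⟨fun j => (Finset.univ.filter (fun i => J i = j)).card, fun k => ?_⟩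
  have hpow : ∀ i, (ρ (c ^ k)) (B i) = (μ i) ^ k • B i := by
    intro i
    rw [map_pow]
    induction k with
    | zero => simp
    | succ k ih =>
      rw [pow_succ, Module.End.mul_apply, h1, map_smul, ih, smul_smul, pow_succ, mul_comm]
  have hval : ρ.character (c ^ k) = ∑ i, (μ i) ^ k :=
    Cfsg.Agent.Lib.CharValues.trace_eq_sum_of_eigenbasis (ρ (c ^ k)) B (fun i => (μ i) ^ k) hpow
  rw [hval, ← Finset.sum_fiberwise_of_maps_to (s := Finset.univ) (t := Finset.range n) (g := J)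
    (fun i _ => Finset.mem_range.mpr (hJ i))]
  refine Finset.sum_congr rfl fun j _ => ?_
  have h3 : ∀ i ∈ Finset.univ.filter (fun i => J i = j), (μ i) ^ k = ξ ^ (j * k) := by
    intro i hi
    have hi' : J i = j := (Finset.mem_filter.mp hi).2
    rw [← hJ2 i, hi', ← pow_mul]
  rw [Finset.sum_congr rfl h3, Finset.sum_const, nsmul_eq_mul]

/-- The real number `√2` as a complex number. -/
noncomputable def s2 : ℂ := ((Real.sqrt 2 : ℝ) : ℂ)

theorem s2_sq : s2 ^ 2 = 2 := by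
  rw [s2, ← Complex.ofReal_pow, Real.sq_sqrt (by norm_num)]
  norm_num

/-- A primitive eighth root of unity. -/
noncomputable def zeta : ℂ := s2 / 2 * (1 + Complex.I)

/-- The value `ζ + ζ³`. -/
noncomputable def kappa : ℂ := s2 * Complex.I

theorem kappa_sq : kappa ^ 2 = -2 := by
  rw [kappa, mul_pow, s2_sq, Complex.I_sq]
  norm_num

theorem conj_kappa : conj kappa = - kappa := by
  simp [kappa, s2]

theorem zeta_sq : zeta ^ 2 = Complex.I := by
  rw [zeta]
  have h1 := s2_sq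
  have h2 := Complex.I_sq
  linear_combination (1 + Complex.I) ^ 2 / 4 * h1 + (1 / 2) * h2

theorem zeta_add : zeta + Complex.I * zeta = kappa := by
  rw [zeta, kappa]
  have h2 := Complex.I_sq
  linear_combination (s2 / 2) * h2

theorem zeta_sub : zeta - Complex.I * zeta = s2 := by
  rw [zeta]
  have h2 := Complex.I_sq
  linear_combination (- s2 / 2) * h2

theorem z2 : zeta ^ 2 = Complex.I := zeta_sq
theorem z3 : zeta ^ 3 = Complex.I * zeta := by rw [pow_succ, z2]
theorem z4 : zeta ^ 4 = -1 := by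
  have : zeta ^ 4 = (zeta ^ 2) ^ 2 := by ring
  rw [this, z2, Complex.I_sq]
theorem z5 : zeta ^ 5 = - zeta := by rw [pow_succ, z4]; ring
theorem z6 : zeta ^ 6 = - Complex.I := by
  have h : zeta ^ 6 = - (zeta ^ 2) := by rw [pow_succ, z5]; ring
  rw [h, z2]
theorem z7 : zeta ^ 7 = - (Complex.I * zeta) := by rw [pow_succ, z6]; ring
theorem z8 : zeta ^ 8 = 1 := by
  have : zeta ^ 8 = (zeta ^ 4) ^ 2 := by ring
  rw [this, z4]; norm_num

theorem zr (q r : ℕ) : zeta ^ (8 * q + r) = zeta ^ r := by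
  rw [pow_add, pow_mul, z8, one_pow, one_mul]

theorem zeta_prim : IsPrimitiveRoot zeta 8 := by
  have : Fact (Nat.Prime 2) := ⟨Nat.prime_two⟩
  have h := orderOf_eq_prime_pow (p := 2) (n := 2) (x := zeta)
    (by rw [show (2 : ℕ) ^ 2 = 4 from rfl, z4]; norm_num)
    (by rw [show (2 : ℕ) ^ (2 + 1) = 8 from rfl, z8])
  have h2 := IsPrimitiveRoot.orderOf zeta
  rw [h] at h2
  exact h2

theorem sep1 (x y : ℤ) (h : Complex.I * (2 * (x : ℂ)) + s2 * (y : ℂ) = 0) : x = 0 ∧ y = 0 := by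
  have hre := congrArg Complex.re h
  have him := congrArg Complex.im h
  simp [s2] at hre him
  constructor
  · exact_mod_cast him
  · exact_mod_cast hre

/-- The values of a character on an element of order eight conjugate to its cube. -/
theorem char_values8 {G : Type*} [Group G] [Finite G] {χ : G → ℂ} (hχ : IsCharacter G χ) {c : G}
    (hc : c ^ 8 = 1) (hconj : IsConj c (c ^ 3)) :
    ∃ a b m p q : ℕ, χ 1 = (a : ℂ) + b + 2 * m + 2 * p + 2 * q ∧
      χ (c ^ 4) = (a : ℂ) + b + 2 * m - 2 * p - 2 * q ∧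
      χ (c ^ 2) = (a : ℂ) + b - 2 * m ∧
      χ c = ((a : ℂ) - b) + ((p : ℂ) - q) * kappa ∧
      χ (c ^ 5) = ((a : ℂ) - b) - ((p : ℂ) - q) * kappa := by
  obtain ⟨m, hm⟩ := root_counts hχ zeta_prim hc
  have e9 : zeta ^ 9 = zeta := by simpa using zr 1 1
  have e10 : zeta ^ 10 = Complex.I := by rw [show 10 = 8 * 1 + 2 from rfl, zr, z2]
  have e12 : zeta ^ 12 = -1 := by rw [show 12 = 8 * 1 + 4 from rfl, zr, z4]
  have e14 : zeta ^ 14 = - Complex.I := by rw [show 14 = 8 * 1 + 6 from rfl, zr, z6]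
  have e15 : zeta ^ 15 = - (Complex.I * zeta) := by rw [show 15 = 8 * 1 + 7 from rfl, zr, z7]
  have e16 : zeta ^ 16 = 1 := by
    have := zr 2 0
    simpa using this
  have e18 : zeta ^ 18 = Complex.I := by rw [show 18 = 8 * 2 + 2 from rfl, zr, z2]
  have e20 : zeta ^ 20 = -1 := by rw [show 20 = 8 * 2 + 4 from rfl, zr, z4]
  have e21 : zeta ^ 21 = - zeta := by rw [show 21 = 8 * 2 + 5 from rfl, zr, z5]
  have e24 : zeta ^ 24 = 1 := by
    have := zr 3 0
    simpa using this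
  have e25 : zeta ^ 25 = zeta := by simpa using zr 3 1
  have e28 : zeta ^ 28 = -1 := by rw [show 28 = 8 * 3 + 4 from rfl, zr, z4]
  have e30 : zeta ^ 30 = - Complex.I := by rw [show 30 = 8 * 3 + 6 from rfl, zr, z6]
  have e35 : zeta ^ 35 = Complex.I * zeta := by rw [show 35 = 8 * 4 + 3 from rfl, zr, z3]
  have e36 : zeta ^ 36 = -1 := by rw [show 36 = 8 * 4 + 4 from rfl, zr, z4]
  have e42 : zeta ^ 42 = Complex.I := by rw [show 42 = 8 * 5 + 2 from rfl, zr, z2]
  have hI2 := Complex.I_sq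
  have H0 := hm 0
  have H1 := hm 1
  have H2 := hm 2
  have H3 := hm 3
  have H4 := hm 4
  have H5 := hm 5
  have H6 := hm 6
  simp only [Finset.sum_range_succ, Finset.sum_range_zero, zero_add, Nat.reduceMul, zero_mul, mul_zero,
    mul_one, one_mul, pow_zero, pow_one, z2, z3, z4, z5, z6, z7, z8, e9, e10, e12, e14, e15, e16, e18, e20,
    e21, e24, e25, e28, e30, e35, e36, e42] at H0 H1 H2 H3 H4 H5 H6
  set m0 : ℂ := (m 0 : ℂ) with hm0
  set m1 : ℂ := (m 1 : ℂ) with hm1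
  set m2 : ℂ := (m 2 : ℂ) with hm2
  set m3 : ℂ := (m 3 : ℂ) with hm3
  set m4 : ℂ := (m 4 : ℂ) with hm4
  set m5 : ℂ := (m 5 : ℂ) with hm5
  set m6 : ℂ := (m 6 : ℂ) with hm6
  set m7 : ℂ := (m 7 : ℂ) with hm7
  have hcl : χ c = χ (c ^ 3) := by
    obtain ⟨h, hh⟩ := isConj_iff.mp hconj
    rw [← hh]
    exact (isClassFunction_of_isCharacter hχ c h).symm
  have hcl2 : χ (c ^ 2) = χ (c ^ 6) := by
    have := hconj.pow 2
    rw [← pow_mul] at this
    obtain ⟨h, hh⟩ := isConj_iff.mp this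
    rw [show 3 * 2 = 6 from rfl] at hh
    rw [← hh]
    exact (isClassFunction_of_isCharacter hχ (c ^ 2) h).symm
  have E1 : Complex.I * (2 * (m2 - m6)) + s2 * (m1 - m5 - m3 + m7) = 0 := by
    linear_combination hcl - H1 + H3 - (m1 - m5 - m3 + m7) * zeta_sub
  have E2 : Complex.I * (2 * (m1 + m5 - m3 - m7)) + s2 * 0 = 0 := by
    linear_combination (1 : ℂ) * hcl2 - H2 + H6
  have F1 := sep1 ((m 2 : ℤ) - m 6) ((m 1 : ℤ) - m 5 - m 3 + m 7) (by push_cast; exact E1)
  have F2 := sep1 ((m 1 : ℤ) + m 5 - m 3 - m 7) 0 (by push_cast; exact E2)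
  have g1 : m 6 = m 2 := by omega
  have g2 : m 3 = m 1 := by omega
  have g3 : m 7 = m 5 := by omega
  have c1 : m6 = m2 := by rw [hm6, hm2, g1]
  have c2 : m3 = m1 := by rw [hm3, hm1, g2]
  have c3 : m7 = m5 := by rw [hm7, hm5, g3]
  rw [c1, c2, c3] at H0 H1 H2 H4 H5
  have hz := zeta_add
  refine ⟨m 0, m 4, m 2, m 1, m 5, ?_, ?_, ?_, ?_, ?_⟩
  · rw [H0]; ring
  · rw [H4]; ring
  · rw [H2]; ring
  · rw [H1, ← hz]; ring
  · rw [H5, ← hz]; ring

section Six

/-- A primitive sixth root of unity. -/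
noncomputable def xi : ℂ := Complex.exp (2 * Real.pi * Complex.I / (6 : ℕ))

theorem xi_prim : IsPrimitiveRoot xi 6 := by
  have := Complex.isPrimitiveRoot_exp 6 (by norm_num)
  exact this

theorem xi_three : xi ^ 3 = -1 := by
  have h1 : (xi ^ 3 - 1) * (xi ^ 3 + 1) = 0 := by
    have := xi_prim.pow_eq_one
    linear_combination this
  have h2 : xi ^ 3 ≠ 1 := xi_prim.pow_ne_one_of_pos_of_lt (by norm_num) (by norm_num)
  rcases mul_eq_zero.mp h1 with h | h
  · exact absurd (sub_eq_zero.mp h) h2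
  · linear_combination h

theorem xi_ne : xi ≠ -1 := by
  intro h
  have h2 : xi ^ 2 ≠ 1 := xi_prim.pow_ne_one_of_pos_of_lt (by norm_num) (by norm_num)
  apply h2
  rw [h]
  norm_num

theorem xi_two : xi ^ 2 = xi - 1 := by
  have h1 : (xi + 1) * (xi ^ 2 - xi + 1) = 0 := by
    linear_combination xi_three
  rcases mul_eq_zero.mp h1 with h | h
  · exact absurd (eq_neg_of_add_eq_zero_left h) xi_ne
  · linear_combination h

theorem xi_im : xi.im ≠ 0 := by
  intro h
  have h1 := congrArg Complex.re xi_two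
  rw [pow_two, Complex.mul_re, h] at h1
  simp at h1
  nlinarith [sq_nonneg (xi.re - 1 / 2)]

/-- The values of a character on a real element of order six. -/
theorem char_values6 {G : Type*} [Group G] [Finite G] {χ : G → ℂ} (hχ : IsCharacter G χ) {w : G}
    (hw : w ^ 6 = 1) (hreal : IsConj w w⁻¹) :
    ∃ y c : ℤ, χ w = y ∧ χ (w ^ 3) = y + 3 * c := by
  obtain ⟨m, hm⟩ := root_counts hχ xi_prim hw
  have x2 := xi_two
  have x3 := xi_three
  have x4 : xi ^ 4 = - xi := by rw [pow_succ, x3]; ring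
  have x5 : xi ^ 5 = 1 - xi := by
    have : xi ^ 5 = xi ^ 3 * xi ^ 2 := by ring
    rw [this, x3, x2]; ring
  have x6 : xi ^ 6 = 1 := by
    have : xi ^ 6 = (xi ^ 3) ^ 2 := by ring
    rw [this, x3]; norm_num
  have x9 : xi ^ 9 = -1 := by
    have : xi ^ 9 = (xi ^ 3) ^ 3 := by ring
    rw [this, x3]; norm_num
  have x12 : xi ^ 12 = 1 := by
    have : xi ^ 12 = (xi ^ 3) ^ 4 := by ring
    rw [this, x3]; norm_num
  have x15 : xi ^ 15 = -1 := by
    have : xi ^ 15 = (xi ^ 3) ^ 5 := by ring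
    rw [this, x3]; norm_num
  have H1 := hm 1
  have H3 := hm 3
  simp only [Finset.sum_range_succ, Finset.sum_range_zero, zero_add, Nat.reduceMul, zero_mul, mul_one,
    pow_zero, pow_one, x2, x3, x4, x5, x6, x9, x12, x15] at H1 H3
  have hreal' : conj (χ w) = χ w := by
    rw [Cfsg.Agent.Lib.CharBasic.char_conj_eq_inv hχ]
    obtain ⟨h, hh⟩ := isConj_iff.mp hreal
    rw [← hh]
    exact isClassFunction_of_isCharacter hχ w h
  have him : (χ w).im = 0 := Complex.conj_eq_iff_im.mp hreal'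
  rw [H1] at him
  have hB : (((m 1 : ℤ) + m 2 - m 4 - m 5 : ℤ) : ℝ) * xi.im = 0 := by
    simp at him
    push_cast
    linarith
  have hB2 : (m 1 : ℤ) + m 2 - m 4 - m 5 = 0 := by
    rcases mul_eq_zero.mp hB with h | h
    · exact_mod_cast h
    · exact absurd h xi_im
  refine ⟨(m 0 : ℤ) - m 2 - m 3 + m 5, (m 2 : ℤ) - m 5, ?_, ?_⟩
  · have h5 : ((m 1 : ℂ) + m 2 - m 4 - m 5) = 0 := by exact_mod_cast hB2
    rw [H1]
    push_cast
    linear_combination xi * h5
  · have h5 : ((m 1 : ℂ) + m 2 - m 4 - m 5) = 0 := by exact_mod_cast hB2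
    rw [H3]
    push_cast
    linear_combination - h5

end Six

end Cfsg.Agent.Lib.GL23Roots
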