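import Mathlib

/-!
# Counting with a conjugation invariant partition by centralizers

`W` is a finite group, `Z` a central subgroup such that commuting is transitive outside `Z` and such that the
centralizer of `c ∉ Z` has index at most `2` in its normalizer.  (This is the situation of a subgroup of `GL₂`
of order invertible in the field, `Z` being the scalars.)  A class count then shows that two non-commuting elements
cannot both have centralizers of index at least `6` over `Z`, and the like (the classical list of finite subgroups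
of `PGL₂`, in the form we need it).
-/

set_option autoImplicit false
set_option linter.all false

namespace Cfsg.Agent.Lib.TorusCount

variable {W : Type*} [Group W]

/-- The hypotheses on `W` and `Z`. -/
structure Hyp (Z : Subgroup W) : Prop where
  central : ∀ ζ ∈ Z, ∀ g : W, ζ * g = g * ζ
  trans : ∀ a b c : W, c ∉ Z → Commute a c → Commute b c → Commute a b
  norm : ∀ c : W, c ∉ Z → ∀ g₁ g₂ : W, Commute (g₁ * c * g₁⁻¹) c → Commute (g₂ * c * g₂⁻¹) c →
    Commute g₁ c ∨ Commute g₂ c ∨ Commute (g₁⁻¹ * g₂) c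

/-- The centralizer of an element. -/
def Cn (c : W) : Subgroup W := Subgroup.centralizer {c}

theorem mem_Cn {g c : W} : g ∈ Cn c ↔ Commute g c := by
  rw [Cn, Subgroup.mem_centralizer_singleton_iff]
  exact Iff.rfl

variable {Z : Subgroup W}

theorem conj_not_mem (h : Hyp Z) {c : W} (hc : c ∉ Z) (g : W) : g * c * g⁻¹ ∉ Z := by
  intro hz
  apply hc
  have := h.central _ hz c
  have e : g * c * g⁻¹ = c := by
    have h2 := h.central _ hz g
    have : g * c * g⁻¹ * g = g * (g * c * g⁻¹) := h2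
    have h3 : g * c = g * (g * c * g⁻¹) := by simpa [mul_assoc] using this
    have h4 := mul_left_cancel h3
    exact h4.symm
  rwa [e] at hz

theorem conj_inv_not_mem (h : Hyp Z) {c : W} (hc : c ∉ Z) (g : W) : g⁻¹ * c * g ∉ Z := by
  simpa using conj_not_mem h hc g⁻¹

theorem le_Cn (h : Hyp Z) (c : W) : Z ≤ Cn c := by
  intro ζ hζ
  exact mem_Cn.mpr (h.central ζ hζ c)

theorem Cn_eq (h : Hyp Z) {c y : W} (hc : c ∉ Z) (hy : y ∉ Z) (hyc : Commute y c) : Cn y = Cn c := by
  ext a
  rw [mem_Cn, mem_Cn]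
  constructor
  · intro hay
    exact h.trans a c y hy hay hyc.symm
  · intro hac
    exact h.trans a y c hc hac hyc

theorem conj_comm_iff {a b g : W} : Commute (g * a * g⁻¹) (g * b * g⁻¹) ↔ Commute a b := by
  constructor
  · intro hab
    have h1 : g * a * g⁻¹ * (g * b * g⁻¹) = g * b * g⁻¹ * (g * a * g⁻¹) := hab
    have h2 : g * (a * b) * g⁻¹ = g * (b * a) * g⁻¹ := by
      simpa [mul_assoc] using h1
    have h3 := mul_right_cancel (mul_left_cancel (by simpa [mul_assoc] using h2 : g * ((a * b) * g⁻¹) = g * ((b * a) * g⁻¹)))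
    exact h3
  · intro hab
    have h1 : a * b = b * a := hab
    show g * a * g⁻¹ * (g * b * g⁻¹) = g * b * g⁻¹ * (g * a * g⁻¹)
    have e1 : g * a * g⁻¹ * (g * b * g⁻¹) = g * (a * b) * g⁻¹ := by group
    have e2 : g * b * g⁻¹ * (g * a * g⁻¹) = g * (b * a) * g⁻¹ := by group
    rw [e1, e2, h1]

/-- The normalizer of the centralizer. -/
def Nn (c : W) : Subgroup W := Subgroup.normalizer ((Cn c : Subgroup W) : Set W)

theorem mem_Nn (h : Hyp Z) {c g : W} (hc : c ∉ Z) : g ∈ Nn c ↔ Commute (g * c * g⁻¹) c := by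
  constructor
  · intro hg
    have h1 := (Subgroup.mem_normalizer_iff.mp hg c).mp (mem_Cn.mpr (Commute.refl c))
    exact mem_Cn.mp h1
  · intro hg
    rw [Nn, Subgroup.mem_normalizer_iff]
    intro x
    have hc' := conj_not_mem h hc g
    have e := Cn_eq h hc hc' hg
    rw [mem_Cn]
    rw [← e, mem_Cn]
    exact conj_comm_iff.symm

theorem Cn_le_Nn (c : W) : Cn c ≤ Nn c := by
  intro g hg
  rw [Nn, Subgroup.mem_normalizer_iff]
  intro x
  constructor
  · intro hx
    exact (Cn c).mul_mem ((Cn c).mul_mem hg hx) ((Cn c).inv_mem hg)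
  · intro hx
    have := (Cn c).mul_mem ((Cn c).mul_mem ((Cn c).inv_mem hg) hx) hg
    simpa [mul_assoc] using this

variable [Finite W]

theorem card_Nn (h : Hyp Z) {c : W} (hc : c ∉ Z) :
    Nat.card (Nn c) = Nat.card (Cn c) ∨ Nat.card (Nn c) = 2 * Nat.card (Cn c) := by
  classical
  obtain ⟨d, hd⟩ : Nat.card (Cn c) ∣ Nat.card (Nn c) := Subgroup.card_dvd_of_le (Cn_le_Nn c)
  have hkpos : 0 < Nat.card (Cn c) := Nat.card_pos
  have hspos : 0 < Nat.card (Nn c) := Nat.card_pos
  by_cases hle : Nn c ≤ Cn c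
  · left
    exact le_antisymm (Subgroup.card_le_of_le hle) (Subgroup.card_le_of_le (Cn_le_Nn c))
  · right
    obtain ⟨g₁, hg₁N, hg₁C⟩ := SetLike.not_le_iff_exists.mp hle
    have hinj : Nat.card (Nn c) ≤ Nat.card (Cn c ⊕ Cn c) := by
      have hf : ∀ g : Nn c, (g : W) ∉ Cn c → g₁⁻¹ * (g : W) ∈ Cn c := by
        intro g hg
        have h1 := (mem_Nn h hc).mp hg₁N
        have h2 := (mem_Nn h hc).mp g.2
        rcases h.norm c hc g₁ g h1 h2 with h3 | h3 | h3
        · exact absurd (mem_Cn.mpr h3) hg₁C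
        · exact absurd (mem_Cn.mpr h3) hg
        · exact mem_Cn.mpr h3
      let f : Nn c → (Cn c ⊕ Cn c) := fun g =>
        if hg : (g : W) ∈ Cn c then Sum.inl ⟨g, hg⟩ else Sum.inr ⟨g₁⁻¹ * g, hf g hg⟩
      refine Nat.card_le_card_of_injective f ?_
      intro x y hxy
      simp only [f] at hxy
      by_cases hx : (x : W) ∈ Cn c <;> by_cases hy : (y : W) ∈ Cn c
      · simp only [hx, hy, dite_true] at hxy
        have := Sum.inl.inj hxy
        exact Subtype.ext (Subtype.mk.inj this)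
      · simp [hx, hy] at hxy
      · simp [hx, hy] at hxy
      · simp only [hx, hy, dite_false] at hxy
        have := Sum.inr.inj hxy
        have h2 : g₁⁻¹ * (x : W) = g₁⁻¹ * (y : W) := congrArg Subtype.val this
        exact Subtype.ext (mul_left_cancel h2)
    rw [Nat.card_sum] at hinj
    have hd2 : d ≤ 2 := by
      rw [hd] at hinj
      by_contra hcon
      push Not at hcon
      have : Nat.card (Cn c) * 3 ≤ Nat.card (Cn c) * d := Nat.mul_le_mul_left _ hcon
      omega
    have hd1 : d ≠ 0 := by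
      rintro rfl
      omega
    have hd3 : d ≠ 1 := by
      rintro rfl
      apply hle
      have : Nat.card (Nn c) = Nat.card (Cn c) := by omega
      have h5 := Subgroup.eq_of_le_of_card_ge (Cn_le_Nn c) (le_of_eq this)
      rw [h5]
    have : d = 2 := by omega
    subst this
    rw [hd, mul_comm]

/-- The class of `c`. -/
def Uc (Z : Subgroup W) (c : W) : Set W := {x | x ∉ Z ∧ ∃ g : W, Commute (g * x * g⁻¹) c}

theorem self_mem_Uc {c : W} (hc : c ∉ Z) : c ∈ Uc Z c :=
  ⟨hc, 1, by simp⟩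

theorem Uc_disjoint (h : Hyp Z) {c d : W} (hc : c ∉ Z) (hd : d ∉ Z) (hdc : d ∉ Uc Z c) :
    Disjoint (Uc Z c) (Uc Z d) := by
  rw [Set.disjoint_left]
  rintro x ⟨hx, g, hg⟩ ⟨-, g', hg'⟩
  apply hdc
  refine ⟨hd, g * g'⁻¹, ?_⟩
  -- `y = g x g⁻¹`, `y' = g' x g'⁻¹`
  set y := g * x * g⁻¹ with hy
  set y' := g' * x * g'⁻¹ with hy'
  have hyZ : y ∉ Z := conj_not_mem h hx g
  have hy'Z : y' ∉ Z := conj_not_mem h hx g'
  have e1 : Cn y = Cn c := Cn_eq h hc hyZ hg
  have e2 : Cn y' = Cn d := Cn_eq h hd hy'Z hg'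
  have hdy' : Commute d y' := hg'.symm
  have e3 : (g * g'⁻¹) * y' * (g * g'⁻¹)⁻¹ = y := by
    rw [hy, hy']
    group
  have h4 : Commute ((g * g'⁻¹) * d * (g * g'⁻¹)⁻¹) y := by
    rw [← e3]
    exact conj_comm_iff.mpr hdy'
  have h5 : (g * g'⁻¹) * d * (g * g'⁻¹)⁻¹ ∈ Cn y := mem_Cn.mpr h4
  rw [e1] at h5
  exact mem_Cn.mp h5

/-- The double count. -/
theorem card_Uc (h : Hyp Z) {c : W} (hc : c ∉ Z) :
    Nat.card (Uc Z c) * Nat.card (Nn c) = Nat.card W * (Nat.card (Cn c) - Nat.card Z) := by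
  classical
  haveI := Fintype.ofFinite W
  let U : Finset W := Finset.univ.filter (fun x => x ∈ Uc Z c)
  have hU : Nat.card (Uc Z c) = U.card := by
    rw [Nat.card_eq_fintype_card, ← Set.toFinset_card]
    congr 1
    ext x
    simp [U]
  let r : W → W → Prop := fun g x => g * x * g⁻¹ ∈ Cn c
  have key := Finset.sum_card_bipartiteAbove_eq_sum_card_bipartiteBelow (s := (Finset.univ : Finset W)) (t := U) r
  -- for fixed `g`
  have h1 : ∀ g ∈ (Finset.univ : Finset W), (Finset.bipartiteAbove r U g).card = Nat.card (Cn c) - Nat.card Z := by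
    intro g _
    have e : Finset.bipartiteAbove r U g =
        (Finset.univ.filter (fun y => y ∈ Cn c ∧ y ∉ Z)).map (MulAut.conj g⁻¹).toEquiv.toEmbedding := by
      ext x
      simp only [Finset.bipartiteAbove, Finset.mem_filter, Finset.mem_map, Finset.mem_univ, true_and, U, r]
      constructor
      · rintro ⟨⟨hx, -⟩, hgx⟩
        refine ⟨g * x * g⁻¹, ⟨hgx, conj_not_mem h hx g⟩, ?_⟩
        simp [MulAut.conj_apply]
        group
      · rintro ⟨y, ⟨hy, hyZ⟩, rfl⟩
        have e2 : g * ((MulAut.conj g⁻¹).toEquiv.toEmbedding y) * g⁻¹ = y := by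
          simp [MulAut.conj_apply]
          group
        have hxZ : (MulAut.conj g⁻¹).toEquiv.toEmbedding y ∉ Z := by
          have := conj_not_mem h hyZ g⁻¹
          simpa [MulAut.conj_apply] using this
        refine ⟨⟨hxZ, g, ?_⟩, ?_⟩
        · rw [e2]
          exact mem_Cn.mp hy
        · rw [e2]
          exact hy
    rw [e, Finset.card_map]
    have e3 : (Finset.univ.filter (fun y => y ∈ Cn c ∧ y ∉ Z)) =
        (Finset.univ.filter (fun y => y ∈ Cn c)) \ (Finset.univ.filter (fun y => y ∈ Z)) := by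
      ext y
      simp
    rw [e3, Finset.card_sdiff_of_subset]
    · have c1 : (Finset.univ.filter (fun y => y ∈ Cn c)).card = Nat.card (Cn c) := by
        rw [Nat.card_eq_fintype_card, Fintype.card_subtype]
      have c2 : (Finset.univ.filter (fun y => y ∈ Z)).card = Nat.card Z := by
        rw [Nat.card_eq_fintype_card, Fintype.card_subtype]
      rw [c1, c2]
    · intro y hy
      simp only [Finset.mem_filter, Finset.mem_univ, true_and] at hy ⊢
      exact le_Cn h c hy
  -- for fixed `x`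
  have h2 : ∀ x ∈ U, (Finset.bipartiteBelow r (Finset.univ : Finset W) x).card = Nat.card (Nn c) := by
    intro x hx
    simp only [U, Finset.mem_filter, Finset.mem_univ, true_and] at hx
    obtain ⟨hxZ, g₀, hg₀⟩ := hx
    set y := g₀ * x * g₀⁻¹ with hy
    have hyZ : y ∉ Z := conj_not_mem h hxZ g₀
    have e1 : Cn y = Cn c := Cn_eq h hc hyZ hg₀
    have e2 : Nn y = Nn c := by rw [Nn, Nn, e1]
    have e : Finset.bipartiteBelow r (Finset.univ : Finset W) x =
        (Finset.univ.filter (fun g => g ∈ Nn c)).map (Equiv.mulRight g₀).toEmbedding := by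
      ext g
      simp only [Finset.bipartiteBelow, Finset.mem_filter, Finset.mem_map, Finset.mem_univ, true_and, r]
      have e3 : g * x * g⁻¹ = (g * g₀⁻¹) * y * (g * g₀⁻¹)⁻¹ := by
        rw [hy]
        group
      rw [e3, ← e1, mem_Cn, ← mem_Nn h hyZ, e2]
      constructor
      · intro hg
        exact ⟨g * g₀⁻¹, hg, by simp⟩
      · rintro ⟨a, ha, rfl⟩
        simpa using ha
    rw [e, Finset.card_map, Nat.card_eq_fintype_card, Fintype.card_subtype]
  rw [Finset.sum_congr rfl h1, Finset.sum_congr rfl h2, Finset.sum_const, Finset.sum_const] at key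
  simp only [smul_eq_mul, Finset.card_univ] at key
  rw [hU, ← key, Nat.card_eq_fintype_card (α := W)]

/-! ### The numerical data of a class -/

/-- The order of `W` over `Z`. -/
noncomputable def NN (Z : Subgroup W) : ℕ := Nat.card W / Nat.card Z

/-- The size of the class of `c`, over `Z`. -/
noncomputable def tt (Z : Subgroup W) (c : W) : ℕ := Nat.card (Uc Z c) / Nat.card Z

theorem card_eq_NN (Z : Subgroup W) : Nat.card W = NN Z * Nat.card Z := by
  rw [NN, Nat.div_mul_cancel (Subgroup.card_subgroup_dvd_card Z)]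

/-- The numerical data. -/
theorem data (h : Hyp Z) {c : W} (hc : c ∉ Z) :
    ∃ n m e δ : ℕ, 1 ≤ n ∧ 2 ≤ e ∧ m = n * e ∧ (δ = 1 ∨ δ = 2) ∧ NN Z = δ * m ∧ tt Z c + n = m ∧
      n = (Nn c).index ∧ Nat.card (Cn c) = e * Nat.card Z ∧ Nat.card (Uc Z c) = tt Z c * Nat.card Z := by
  have hzpos : 0 < Nat.card Z := Nat.card_pos
  obtain ⟨e, he⟩ : Nat.card Z ∣ Nat.card (Cn c) := Subgroup.card_dvd_of_le (le_Cn h c)
  have he' : Nat.card (Cn c) = e * Nat.card Z := by rw [he, mul_comm]
  have hkpos : 0 < Nat.card (Cn c) := Nat.card_pos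
  have hzk : Nat.card Z < Nat.card (Cn c) := by
    have hle := Subgroup.card_le_of_le (le_Cn h c)
    refine lt_of_le_of_ne hle fun heq => ?_
    have := Subgroup.eq_of_le_of_card_ge (le_Cn h c) (le_of_eq heq.symm)
    apply hc
    rw [this]
    exact mem_Cn.mpr (Commute.refl c)
  have he2 : 2 ≤ e := by
    by_contra hcon
    push Not at hcon
    have : e ≤ 1 := by omega
    have h3 : e * Nat.card Z ≤ 1 * Nat.card Z := Nat.mul_le_mul_right _ this
    omega
  set n := (Nn c).index with hn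
  have hnpos : 1 ≤ n := Nat.one_le_iff_ne_zero.mpr (Subgroup.index_ne_zero_of_finite)
  have hw : Nat.card W = n * Nat.card (Nn c) := by
    rw [hn, mul_comm, Subgroup.card_mul_index]
  have hcu := card_Uc h hc
  have hspos : 0 < Nat.card (Nn c) := Nat.card_pos
  have hu : Nat.card (Uc Z c) = n * (e - 1) * Nat.card Z := by
    have h3 : Nat.card (Uc Z c) = n * (Nat.card (Cn c) - Nat.card Z) := by
      rw [hw] at hcu
      have h4 : Nat.card (Uc Z c) * Nat.card (Nn c) = (n * (Nat.card (Cn c) - Nat.card Z)) * Nat.card (Nn c) := by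
        rw [hcu]
        ring
      exact Nat.eq_of_mul_eq_mul_right hspos h4
    rw [h3, he', mul_assoc, Nat.sub_mul, one_mul]
  have htt : tt Z c = n * (e - 1) := by
    rw [tt, hu, Nat.mul_div_cancel _ hzpos]
  have hsum : tt Z c + n = n * e := by
    rw [htt]
    obtain ⟨f, rfl⟩ : ∃ f, e = f + 1 := ⟨e - 1, by omega⟩
    simp only [Nat.add_sub_cancel]
    ring
  rcases card_Nn h hc with h1 | h1
  · refine ⟨n, n * e, e, 1, hnpos, he2, rfl, Or.inl rfl, ?_, hsum, rfl, he', ?_⟩
    · rw [NN, hw, h1, he', one_mul, ← mul_assoc, Nat.mul_div_cancel _ hzpos]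
    · rw [htt, hu]
  · refine ⟨n, n * e, e, 2, hnpos, he2, rfl, Or.inr rfl, ?_, hsum, rfl, he', ?_⟩
    · rw [NN, hw, h1, he']
      have : n * (2 * (e * Nat.card Z)) = (2 * (n * e)) * Nat.card Z := by ring
      rw [this, Nat.mul_div_cancel _ hzpos]
    · rw [htt, hu]

/-- Several classes fit in `W`. -/
theorem sum_tt_le (h : Hyp Z) (L : Finset W) (hL : ∀ c ∈ L, c ∉ Z)
    (hd : ∀ c ∈ L, ∀ d ∈ L, c ≠ d → d ∉ Uc Z c) :
    ∑ c ∈ L, tt Z c + 1 ≤ NN Z ∧
      (∑ c ∈ L, tt Z c + 1 = NN Z ∨ ∃ x, x ∉ Z ∧ ∀ c ∈ L, x ∉ Uc Z c) := by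
  classical
  haveI := Fintype.ofFinite W
  have hzpos : 0 < Nat.card Z := Nat.card_pos
  have hcardU : ∀ c ∈ L, ((Uc Z c).toFinset).card = tt Z c * Nat.card Z := by
    intro c hc
    obtain ⟨_, _, _, _, -, -, -, -, -, -, -, -, h9⟩ := data h (hL c hc)
    rw [Set.toFinset_card, ← Nat.card_eq_fintype_card, h9]
  have hdisj : (L : Set W).PairwiseDisjoint (fun c => (Uc Z c).toFinset) := by
    intro c hc d hd' hcd
    have h1 := Uc_disjoint h (hL c hc) (hL d hd') (hd c hc d hd' hcd)
    simp only [Function.onFun]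
    rw [Set.disjoint_toFinset]
    exact h1
  let B : Finset W := L.biUnion (fun c => (Uc Z c).toFinset)
  have hB : B.card = (∑ c ∈ L, tt Z c) * Nat.card Z := by
    rw [Finset.card_biUnion hdisj, Finset.sum_mul]
    exact Finset.sum_congr rfl hcardU
  let Zf : Finset W := Finset.univ.filter (fun y => y ∈ Z)
  have hZf : Zf.card = Nat.card Z := by
    rw [Nat.card_eq_fintype_card, Fintype.card_subtype]
  have hdisjBZ : Disjoint B Zf := by
    rw [Finset.disjoint_left]
    intro x hx hx2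
    simp only [B, Finset.mem_biUnion, Set.mem_toFinset] at hx
    obtain ⟨c, -, hxc⟩ := hx
    simp only [Zf, Finset.mem_filter, Finset.mem_univ, true_and] at hx2
    exact hxc.1 hx2
  have hcard : B.card + Zf.card ≤ Nat.card W := by
    rw [← Finset.card_union_of_disjoint hdisjBZ, Nat.card_eq_fintype_card]
    exact Finset.card_le_univ _
  have hle : ∑ c ∈ L, tt Z c + 1 ≤ NN Z := by
    rw [hB, hZf, card_eq_NN Z] at hcard
    have : (∑ c ∈ L, tt Z c + 1) * Nat.card Z ≤ NN Z * Nat.card Z := by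
      rw [add_mul, one_mul]
      exact hcard
    exact Nat.le_of_mul_le_mul_right this hzpos
  refine ⟨hle, ?_⟩
  by_cases hcov : ∃ x, x ∉ Z ∧ ∀ c ∈ L, x ∉ Uc Z c
  · exact Or.inr hcov
  · left
    push Not at hcov
    have hu : B ∪ Zf = Finset.univ := by
      ext x
      simp only [Finset.mem_union, Finset.mem_univ, iff_true]
      by_cases hx : x ∈ Z
      · right
        simp [Zf, hx]
      · left
        obtain ⟨c, hc, hxc⟩ := hcov x hx
        simp only [B, Finset.mem_biUnion, Set.mem_toFinset]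
        exact ⟨c, hc, hxc⟩
    have h3 : B.card + Zf.card = Nat.card W := by
      rw [← Finset.card_union_of_disjoint hdisjBZ, hu, Nat.card_eq_fintype_card, Finset.card_univ]
    rw [hB, hZf, card_eq_NN Z] at h3
    have h4 : (∑ c ∈ L, tt Z c + 1) * Nat.card Z = NN Z * Nat.card Z := by
      rw [← h3]
      ring
    exact Nat.eq_of_mul_eq_mul_right hzpos h4

/-- Pairwise non-commuting elements of one class bound the number of conjugates of its centralizer. -/
theorem le_index (h : Hyp Z) {c : W} (hc : c ∉ Z) {r : ℕ} (f : Fin r → W) (hf : ∀ i, f i ∈ Uc Z c)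
    (hne : ∀ i j, i ≠ j → ¬ Commute (f i) (f j)) : r ≤ (Nn c).index := by
  classical
  choose g hg using fun i => (hf i).2
  let q : Fin r → W ⧸ Nn c := fun i => (QuotientGroup.mk ((g i)⁻¹) : W ⧸ Nn c)
  have hq : Function.Injective q := by
    intro i j hij
    by_contra hne'
    apply hne i j hne'
    have h1 : (g i)⁻¹⁻¹ * (g j)⁻¹ ∈ Nn c := QuotientGroup.eq.mp hij
    rw [inv_inv] at h1
    set a := g i * (g j)⁻¹ with ha
    -- `Cn (g i x g i⁻¹) = Cn c = Cn (g j y g j⁻¹)`
    set y₁ := g i * f i * (g i)⁻¹ with hy₁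
    set y₂ := g j * f j * (g j)⁻¹ with hy₂
    have hy₁Z : y₁ ∉ Z := conj_not_mem h (hf i).1 _
    have hy₂Z : y₂ ∉ Z := conj_not_mem h (hf j).1 _
    have e₁ : Cn y₁ = Cn c := Cn_eq h hc hy₁Z (hg i)
    have e₂ : Cn y₂ = Cn c := Cn_eq h hc hy₂Z (hg j)
    have hN : a * y₂ * a⁻¹ ∈ Cn c :=
      (Subgroup.mem_normalizer_iff.mp h1 y₂).mp (by rw [← e₂]; exact mem_Cn.mpr (Commute.refl _))
    rw [← e₁] at hN
    have h2 : Commute (a * y₂ * a⁻¹) y₁ := mem_Cn.mp hN
    have e3 : a * y₂ * a⁻¹ = g i * f j * (g i)⁻¹ := by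
      rw [ha, hy₂]
      group
    rw [e3] at h2
    exact (conj_comm_iff.mp h2).symm
  have := Nat.card_le_card_of_injective q hq
  simpa [Subgroup.index, Nat.card_fin] using this

theorem not_mem_symm (h : Hyp Z) {c d : W} (hc : c ∉ Z) (hd : d ∉ Z) (hdc : d ∉ Uc Z c) : c ∉ Uc Z d := by
  intro hcd
  exact Set.disjoint_left.mp (Uc_disjoint h hc hd hdc) (self_mem_Uc hc) hcd

theorem ne_of_not_mem {c d : W} (hc : c ∉ Z) (hdc : c ∉ Uc Z d) : c ≠ d := by
  rintro rfl
  exact hdc (self_mem_Uc hc)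

theorem two_tt (h : Hyp Z) {a b : W} (ha : a ∉ Z) (hb : b ∉ Z) (hab : b ∉ Uc Z a) :
    tt Z a + tt Z b + 1 ≤ NN Z ∧
      (tt Z a + tt Z b + 1 = NN Z ∨ ∃ x, x ∉ Z ∧ x ∉ Uc Z a ∧ x ∉ Uc Z b) := by
  classical
  have hne : a ≠ b := (ne_of_not_mem hb hab).symm
  have hba := not_mem_symm h ha hb hab
  have := sum_tt_le h {a, b} (by simp [ha, hb]) (by
    intro c hc d hd hcd
    simp only [Finset.mem_insert, Finset.mem_singleton] at hc hd
    rcases hc with rfl | rfl <;> rcases hd with rfl | rfl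
    · exact absurd rfl hcd
    · exact hab
    · exact hba
    · exact absurd rfl hcd)
  rw [Finset.sum_pair hne] at this
  obtain ⟨h1, h2⟩ := this
  refine ⟨h1, ?_⟩
  rcases h2 with h2 | ⟨x, hx, hxL⟩
  · exact Or.inl h2
  · exact Or.inr ⟨x, hx, hxL a (by simp), hxL b (by simp)⟩

theorem three_tt (h : Hyp Z) {a b c : W} (ha : a ∉ Z) (hb : b ∉ Z) (hc : c ∉ Z) (hab : b ∉ Uc Z a)
    (hac : c ∉ Uc Z a) (hbc : c ∉ Uc Z b) :
    tt Z a + tt Z b + tt Z c + 1 ≤ NN Z ∧
      (tt Z a + tt Z b + tt Z c + 1 = NN Z ∨ ∃ x, x ∉ Z ∧ x ∉ Uc Z a ∧ x ∉ Uc Z b ∧ x ∉ Uc Z c) := by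
  classical
  have hne : a ≠ b := (ne_of_not_mem hb hab).symm
  have hne2 : a ≠ c := (ne_of_not_mem hc hac).symm
  have hne3 : b ≠ c := (ne_of_not_mem hc hbc).symm
  have hba := not_mem_symm h ha hb hab
  have hca := not_mem_symm h ha hc hac
  have hcb := not_mem_symm h hb hc hbc
  have := sum_tt_le h {a, b, c} (by simp [ha, hb, hc]) (by
    intro d hd e he hde
    simp only [Finset.mem_insert, Finset.mem_singleton] at hd he
    rcases hd with rfl | rfl | rfl <;> rcases he with rfl | rfl | rfl <;> first | exact absurd rfl hde | assumption)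
  rw [Finset.sum_insert (by simp [hne, hne2]), Finset.sum_pair hne3] at this
  obtain ⟨h1, h2⟩ := this
  refine ⟨by omega, ?_⟩
  rcases h2 with h2 | ⟨x, hx, hxL⟩
  · exact Or.inl (by omega)
  · exact Or.inr ⟨x, hx, hxL a (by simp), hxL b (by simp), hxL c (by simp)⟩

theorem four_tt (h : Hyp Z) {a b c d : W} (ha : a ∉ Z) (hb : b ∉ Z) (hc : c ∉ Z) (hd : d ∉ Z) (hab : b ∉ Uc Z a)
    (hac : c ∉ Uc Z a) (hbc : c ∉ Uc Z b) (had : d ∉ Uc Z a) (hbd : d ∉ Uc Z b) (hcd : d ∉ Uc Z c) :
    tt Z a + tt Z b + tt Z c + tt Z d + 1 ≤ NN Z := by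
  classical
  have hne : a ≠ b := (ne_of_not_mem hb hab).symm
  have hne2 : a ≠ c := (ne_of_not_mem hc hac).symm
  have hne3 : b ≠ c := (ne_of_not_mem hc hbc).symm
  have hne4 : a ≠ d := (ne_of_not_mem hd had).symm
  have hne5 : b ≠ d := (ne_of_not_mem hd hbd).symm
  have hne6 : c ≠ d := (ne_of_not_mem hd hcd).symm
  have hba := not_mem_symm h ha hb hab
  have hca := not_mem_symm h ha hc hac
  have hcb := not_mem_symm h hb hc hbc
  have hda := not_mem_symm h ha hd had
  have hdb := not_mem_symm h hb hd hbd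
  have hdc := not_mem_symm h hc hd hcd
  have := sum_tt_le h {a, b, c, d} (by simp [ha, hb, hc, hd]) (by
    intro x hx y hy hxy
    simp only [Finset.mem_insert, Finset.mem_singleton] at hx hy
    rcases hx with rfl | rfl | rfl | rfl <;> rcases hy with rfl | rfl | rfl | rfl <;>
      first | exact absurd rfl hxy | assumption)
  rw [Finset.sum_insert (by simp [hne, hne2, hne4]), Finset.sum_insert (by simp [hne3, hne5]),
    Finset.sum_pair hne6] at this
  omega

/-- The bound for one class. -/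
theorem NN_le_four (h : Hyp Z) {c : W} (hc : c ∉ Z) : NN Z ≤ 4 * tt Z c := by
  obtain ⟨n, m, e, δ, hn, he, hm, hδ, hN, ht, -⟩ := data h hc
  have h2 : n * 2 ≤ n * e := Nat.mul_le_mul_left n he
  rcases hδ with rfl | rfl <;> omega

theorem le_e_of_card {c : W} {k e : ℕ} (hk : k * Nat.card Z ≤ Nat.card (Cn c)) (he : Nat.card (Cn c) = e * Nat.card Z) :
    k ≤ e := by
  rw [he] at hk
  exact Nat.le_of_mul_le_mul_right hk Nat.card_pos

/-- Two classes with large centralizers cannot exist. -/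
theorem no_two_classes (h : Hyp Z) {a b : W} (ha : a ∉ Z) (hb : b ∉ Z) (hab : b ∉ Uc Z a)
    (hea : 4 * Nat.card Z ≤ Nat.card (Cn a)) (heb : 4 * Nat.card Z ≤ Nat.card (Cn b)) : False := by
  obtain ⟨n₁, m₁, e₁, δ₁, hn₁, he₁, hm₁, hδ₁, hN₁, ht₁, -, hk₁, -⟩ := data h ha
  obtain ⟨n₂, m₂, e₂, δ₂, hn₂, he₂, hm₂, hδ₂, hN₂, ht₂, -, hk₂, -⟩ := data h hb
  have h1 : n₁ * 4 ≤ m₁ := by rw [hm₁]; exact Nat.mul_le_mul_left _ (le_e_of_card hea hk₁)
  have h2 : n₂ * 4 ≤ m₂ := by rw [hm₂]; exact Nat.mul_le_mul_left _ (le_e_of_card heb hk₂)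
  obtain ⟨hs, hs'⟩ := two_tt h ha hb hab
  rcases hs' with hs' | ⟨x, hx, hxa, hxb⟩
  · rcases hδ₁ with rfl | rfl <;> rcases hδ₂ with rfl | rfl <;> omega
  · have h3 := NN_le_four h hx
    have hs3 := (three_tt h ha hb hx hab hxa hxb).1
    rcases hδ₁ with rfl | rfl <;> rcases hδ₂ with rfl | rfl <;> omega

/-- One class with `n ≥ 2` conjugates and large centralizer cannot exist. -/
theorem no_six (h : Hyp Z) {a : W} (ha : a ∉ Z) (hn : 2 ≤ (Nn a).index)
    (hea : 6 * Nat.card Z ≤ Nat.card (Cn a)) : False := by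
  obtain ⟨n₁, m₁, e₁, δ₁, hn₁, he₁, hm₁, hδ₁, hN₁, ht₁, hi₁, hk₁, -⟩ := data h ha
  rw [← hi₁] at hn
  have h1 : n₁ * 6 ≤ m₁ := by rw [hm₁]; exact Nat.mul_le_mul_left _ (le_e_of_card hea hk₁)
  -- some other class exists
  have hother : ∃ x, x ∉ Z ∧ x ∉ Uc Z a := by
    by_contra hcon
    push Not at hcon
    have hall : tt Z a + 1 = NN Z := by
      have := (sum_tt_le h {a} (by simp [ha]) (by
        intro c hc d hd hcd
        simp only [Finset.mem_singleton] at hc hd
        subst hc; subst hd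
        exact absurd rfl hcd)).2
      rw [Finset.sum_singleton] at this
      rcases this with h3 | ⟨x, hx, hxL⟩
      · exact h3
      · exact absurd (hcon x hx) (hxL a (by simp))
    rcases hδ₁ with rfl | rfl <;> omega
  obtain ⟨b, hb, hba⟩ := hother
  obtain ⟨n₂, m₂, e₂, δ₂, hn₂, he₂, hm₂, hδ₂, hN₂, ht₂, -, hk₂, -⟩ := data h hb
  obtain ⟨hs, hs'⟩ := two_tt h ha hb hba
  have h2 : n₂ * 2 ≤ m₂ := by rw [hm₂]; exact Nat.mul_le_mul_left _ he₂
  rcases hδ₁ with rfl | rfl
  · -- `δ₁ = 1`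
    rcases hs' with hs' | ⟨x, hx, hxa, hxb⟩
    · have h3 := NN_le_four h hb
      omega
    · have h3 := NN_le_four h hb
      omega
  · -- `δ₁ = 2`
    rcases hδ₂ with rfl | rfl
    · -- `δ₂ = 1`
      by_cases he₂3 : 3 ≤ e₂
      · have h3 : n₂ * 3 ≤ m₂ := by rw [hm₂]; exact Nat.mul_le_mul_left _ he₂3
        omega
      · have he₂2 : e₂ = 2 := by omega
        subst he₂2
        rcases hs' with hs' | ⟨x, hx, hxa, hxb⟩
        · omega
        · have h3 := NN_le_four h hx
          have hs3 := (three_tt h ha hb hx hba hxa hxb).1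
          omega
    · -- `δ₂ = 2`
      rcases hs' with hs' | ⟨c, hc, hca, hcb⟩
      · omega
      · obtain ⟨n₃, m₃, e₃, δ₃, hn₃, he₃, hm₃, hδ₃, hN₃, ht₃, -, hk₃, -⟩ := data h hc
        obtain ⟨hs3, hs3'⟩ := three_tt h ha hb hc hba hca hcb
        have h3 : n₃ * 2 ≤ m₃ := by rw [hm₃]; exact Nat.mul_le_mul_left _ he₃
        rcases hδ₃ with rfl | rfl
        · omega
        · rcases hs3' with hs3' | ⟨d, hd, hda, hdb, hdc⟩
          · -- exactly three classes
            by_cases he₂3 : 3 ≤ e₂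
            · have h4 : n₂ * 3 ≤ m₂ := by rw [hm₂]; exact Nat.mul_le_mul_left _ he₂3
              omega
            · by_cases he₃3 : 3 ≤ e₃
              · have h4 : n₃ * 3 ≤ m₃ := by rw [hm₃]; exact Nat.mul_le_mul_left _ he₃3
                omega
              · have he₂2 : e₂ = 2 := by omega
                have he₃2 : e₃ = 2 := by omega
                subst he₂2
                subst he₃2
                omega
          · have h4 := NN_le_four h hd
            have hs4 := four_tt h ha hb hc hd hba hca hcb hda hdb hdc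
            omega

/-- One class with `n ≥ 4` conjugates and `4 ∣ e`, other classes having `e < 4`, cannot exist. -/
theorem no_four (h : Hyp Z) {a : W} (ha : a ∉ Z) (hn : 4 ≤ (Nn a).index)
    (hea : ∃ e, e % 4 = 0 ∧ 0 < e ∧ Nat.card (Cn a) = e * Nat.card Z) : False := by
  obtain ⟨n₁, m₁, e₁, δ₁, hn₁, he₁, hm₁, hδ₁, hN₁, ht₁, hi₁, hk₁, -⟩ := data h ha
  rw [← hi₁] at hn
  obtain ⟨e, he0, hepos, he⟩ := hea
  have hee : e = e₁ := by
    rw [hk₁] at he
    exact (Nat.eq_of_mul_eq_mul_right Nat.card_pos he).symm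
  subst hee
  have he₁4 : 4 ≤ e := by omega
  have hea' : 4 * Nat.card Z ≤ Nat.card (Cn a) := by
    rw [hk₁]; exact Nat.mul_le_mul_right _ he₁4
  have h1 : n₁ * 4 ≤ m₁ := by rw [hm₁]; exact Nat.mul_le_mul_left _ he₁4
  have h1' : m₁ = n₁ * 4 ∨ n₁ * 8 ≤ m₁ := by
    by_cases h8 : e = 4
    · left; rw [hm₁, h8]
    · right; rw [hm₁]; exact Nat.mul_le_mul_left _ (by omega)
  -- other classes have `e < 4`
  have hsmall : ∀ x, x ∉ Z → x ∉ Uc Z a → Nat.card (Cn x) < 4 * Nat.card Z := by
    intro x hx hxa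
    by_contra hcon
    push Not at hcon
    exact no_two_classes h ha hx hxa hea' hcon
  have hother : ∃ x, x ∉ Z ∧ x ∉ Uc Z a := by
    by_contra hcon
    push Not at hcon
    have hall : tt Z a + 1 = NN Z := by
      have := (sum_tt_le h {a} (by simp [ha]) (by
        intro c hc d hd hcd
        simp only [Finset.mem_singleton] at hc hd
        subst hc; subst hd
        exact absurd rfl hcd)).2
      rw [Finset.sum_singleton] at this
      rcases this with h3 | ⟨x, hx, hxL⟩
      · exact h3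
      · exact absurd (hcon x hx) (hxL a (by simp))
    rcases hδ₁ with rfl | rfl <;> omega
  obtain ⟨b, hb, hba⟩ := hother
  obtain ⟨n₂, m₂, e₂, δ₂, hn₂, he₂, hm₂, hδ₂, hN₂, ht₂, -, hk₂, -⟩ := data h hb
  obtain ⟨hs, hs'⟩ := two_tt h ha hb hba
  have he₂' : e₂ < 4 := by
    have := hsmall b hb hba
    rw [hk₂] at this
    exact Nat.lt_of_mul_lt_mul_right this
  have hm₂' : m₂ = n₂ * 2 ∨ m₂ = n₂ * 3 := by
    have : e₂ = 2 ∨ e₂ = 3 := by omega
    rcases this with rfl | rfl
    · left; exact hm₂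
    · right; exact hm₂
  rcases hδ₁ with rfl | rfl
  · have h3 := NN_le_four h hb
    omega
  · rcases hδ₂ with rfl | rfl
    · rcases hm₂' with hm₂' | hm₂'
      · rcases hs' with hs' | ⟨x, hx, hxa, hxb⟩
        · omega
        · have h3 := NN_le_four h hx
          have hs3 := (three_tt h ha hb hx hba hxa hxb).1
          omega
      · omega
    · rcases hs' with hs' | ⟨c, hc, hca, hcb⟩
      · rcases hm₂' with hm₂' | hm₂' <;> omega
      · obtain ⟨n₃, m₃, e₃, δ₃, hn₃, he₃, hm₃, hδ₃, hN₃, ht₃, -, hk₃, -⟩ := data h hc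
        obtain ⟨hs3, hs3'⟩ := three_tt h ha hb hc hba hca hcb
        have he₃' : e₃ < 4 := by
          have := hsmall c hc hca
          rw [hk₃] at this
          exact Nat.lt_of_mul_lt_mul_right this
        have hm₃' : m₃ = n₃ * 2 ∨ m₃ = n₃ * 3 := by
          have : e₃ = 2 ∨ e₃ = 3 := by omega
          rcases this with rfl | rfl
          · left; exact hm₃
          · right; exact hm₃
        rcases hδ₃ with rfl | rfl
        · rcases hm₂' with hm₂' | hm₂' <;> rcases hm₃' with hm₃' | hm₃' <;> omega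
        · rcases hs3' with hs3' | ⟨d, hd, hda, hdb, hdc⟩
          · rcases hm₂' with hm₂' | hm₂' <;> rcases hm₃' with hm₃' | hm₃' <;> rcases h1' with h1' | h1' <;> omega
          · have h4 := NN_le_four h hd
            have hs4 := four_tt h ha hb hc hd hba hca hcb hda hdb hdc
            rcases hm₂' with hm₂' | hm₂' <;> rcases hm₃' with hm₃' | hm₃' <;> rcases h1' with h1' | h1' <;> omega

/-- **Main form, one.** Two non-commuting elements cannot both have large centralizers. -/
theorem no_large_pair (h : Hyp Z) {a b : W} (ha : a ∉ Z) (hb : b ∉ Z) (hab : ¬ Commute a b)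
    (hea : 6 * Nat.card Z ≤ Nat.card (Cn a)) (heb : 6 * Nat.card Z ≤ Nat.card (Cn b)) : False := by
  by_cases hc : b ∈ Uc Z a
  · have hind : 2 ≤ (Nn a).index := by
      have := le_index h ha (r := 2) ![a, b] (by
        intro i
        fin_cases i
        · exact self_mem_Uc ha
        · exact hc) (by
        intro i j hij
        fin_cases i <;> fin_cases j
        · exact absurd rfl hij
        · exact hab
        · exact fun hh => hab hh.symm
        · exact absurd rfl hij)
      exact this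
    exact no_six h ha hind hea
  · refine no_two_classes h ha hb hc ?_ ?_
    · exact le_trans (Nat.mul_le_mul_right _ (by norm_num)) hea
    · exact le_trans (Nat.mul_le_mul_right _ (by norm_num)) heb

/-- **Main form, two.** Four pairwise non-commuting elements with `4 ∣ [C(a):Z]` cannot exist. -/
theorem no_large_four (h : Hyp Z) (f : Fin 4 → W) (hf : ∀ i, f i ∉ Z) (hne : ∀ i j, i ≠ j → ¬ Commute (f i) (f j))
    (he : ∀ i, ∃ e, e % 4 = 0 ∧ 0 < e ∧ Nat.card (Cn (f i)) = e * Nat.card Z) : False := by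
  have hbig : ∀ i, 4 * Nat.card Z ≤ Nat.card (Cn (f i)) := by
    intro i
    obtain ⟨e, h0, h1, h2⟩ := he i
    rw [h2]
    exact Nat.mul_le_mul_right _ (by omega)
  by_cases hall : ∀ i, f i ∈ Uc Z (f 0)
  · have hind : 4 ≤ (Nn (f 0)).index := le_index h (hf 0) f hall hne
    exact no_four h (hf 0) hind (he 0)
  · push Not at hall
    obtain ⟨i, hi⟩ := hall
    exact no_two_classes h (hf 0) (hf i) hi (hbig 0) (hbig i)

end Cfsg.Agent.Lib.TorusCount
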