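import Mathlib
import Cfsg.Agent.Lib.TorusCount

/-!
# Subgroups of `GL₂` of invertible order

For a subgroup `W` of `GL₂(F)` of order invertible in the field (characteristic not `2`) the hypotheses of
`TorusCount` hold with `Z` the scalar matrices in `W`.  Consequences for a group acting on a plane.
-/

set_option autoImplicit false
set_option linter.all false

namespace Cfsg.Agent.Lib.GL2Torus

open Matrix Cfsg.Agent.Lib.TorusCount

variable {F : Type*} [Field F]

/-- A matrix commuting with a non-scalar matrix is a polynomial in it. -/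
theorem exists_of_comm {P M : Matrix (Fin 2) (Fin 2) F} (hP : ∀ c : F, P ≠ c • 1) (h : M * P = P * M) :
    ∃ u v : F, M = u • P + v • 1 := by
  have h00 := congrFun (congrFun h 0) 0
  have h01 := congrFun (congrFun h 0) 1
  have h10 := congrFun (congrFun h 1) 0
  have h11 := congrFun (congrFun h 1) 1
  simp only [Matrix.mul_apply, Fin.sum_univ_two] at h00 h01 h10 h11
  have hM : M = !![M 0 0, M 0 1; M 1 0, M 1 1] := (Matrix.eta_fin_two M)
  have hPe : P = !![P 0 0, P 0 1; P 1 0, P 1 1] := (Matrix.eta_fin_two P)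
  generalize M 0 0 = m at *
  generalize M 0 1 = n at *
  generalize M 1 0 = o at *
  generalize M 1 1 = q at *
  generalize P 0 0 = a at *
  generalize P 0 1 = b at *
  generalize P 1 0 = c at *
  generalize P 1 1 = d at *
  have key : ∃ u v : F, m = u * a + v ∧ n = u * b ∧ o = u * c ∧ q = u * d + v := by
    by_cases hb : b = 0
    · by_cases hc : c = 0
      · subst hb hc
        have had : a ≠ d := by
          rintro rfl
          apply hP a
          rw [hPe]
          ext i j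
          fin_cases i <;> fin_cases j <;> simp
        have had' : a - d ≠ 0 := sub_ne_zero.mpr had
        refine ⟨(m - q) / (a - d), q - (m - q) / (a - d) * d, ?_, ?_, ?_, ?_⟩
        · field_simp
          ring
        · have : n * (a - d) = 0 := by linear_combination -h01
          have h2 := (mul_eq_zero.mp this).resolve_right had'
          simp [h2]
        · have : o * (a - d) = 0 := by linear_combination h10
          have h2 := (mul_eq_zero.mp this).resolve_right had'
          simp [h2]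
        · ring
      · refine ⟨o / c, q - o / c * d, ?_, ?_, ?_, ?_⟩
        · field_simp
          linear_combination -h10
        · field_simp
          linear_combination h00
        · field_simp
        · ring
    · refine ⟨n / b, q - n / b * d, ?_, ?_, ?_, ?_⟩
      · field_simp
        linear_combination h01
      · field_simp
      · field_simp
        linear_combination -h00
      · ring
  obtain ⟨u, v, h1, h2, h3, h4⟩ := key
  refine ⟨u, v, ?_⟩
  rw [hM, hPe]
  ext i j
  fin_cases i <;> fin_cases j <;> simp [h1, h2, h3, h4]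

theorem comm_trans {P M N : Matrix (Fin 2) (Fin 2) F} (hP : ∀ c : F, P ≠ c • 1) (h1 : M * P = P * M)
    (h2 : N * P = P * N) : M * N = N * M := by
  obtain ⟨u, v, rfl⟩ := exists_of_comm hP h1
  obtain ⟨u', v', rfl⟩ := exists_of_comm hP h2
  simp only [add_mul, mul_add, smul_mul_assoc, mul_smul_comm, one_mul, mul_one, smul_smul, smul_add]
  rw [mul_comm u u', mul_comm u v', mul_comm v u', mul_comm v v']
  abel

/-- The conjugate of a non-scalar matrix with non-zero discriminant commuting with it is itself or its adjugate. -/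
theorem conj_cases (h2 : (2 : F) ≠ 0) {P Q : Matrix (Fin 2) (Fin 2) F} (hP : ∀ c : F, P ≠ c • 1)
    (hdisc : (P 0 0 + P 1 1) ^ 2 - 4 * (P 0 0 * P 1 1 - P 0 1 * P 1 0) ≠ 0)
    (htr : Q 0 0 + Q 1 1 = P 0 0 + P 1 1)
    (hdet : Q 0 0 * Q 1 1 - Q 0 1 * Q 1 0 = P 0 0 * P 1 1 - P 0 1 * P 1 0)
    (hcomm : Q * P = P * Q) :
    Q = P ∨ Q = (P 0 0 + P 1 1) • 1 - P := by
  obtain ⟨u, v, hQ⟩ := exists_of_comm hP hcomm
  have e00 : Q 0 0 = u * P 0 0 + v := by rw [hQ]; simp
  have e01 : Q 0 1 = u * P 0 1 := by rw [hQ]; simp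
  have e10 : Q 1 0 = u * P 1 0 := by rw [hQ]; simp
  have e11 : Q 1 1 = u * P 1 1 + v := by rw [hQ]; simp
  rw [e00, e11] at htr
  rw [e00, e01, e10, e11] at hdet
  set a := P 0 0
  set b := P 0 1
  set c := P 1 0
  set d := P 1 1
  have h2v : 2 * v = (1 - u) * (a + d) := by linear_combination htr
  have hmain : (u - 1) * (u + 1) * ((a + d) ^ 2 - 4 * (a * d - b * c)) = 0 := by
    linear_combination (-4 : F) * hdet + (2 * v + u * (a + d) + (a + d)) * h2v
  rcases mul_eq_zero.mp hmain with h3 | h3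
  · rcases mul_eq_zero.mp h3 with h4 | h4
    · left
      have hu : u = 1 := sub_eq_zero.mp h4
      subst hu
      have hv : v = 0 := by
        have : 2 * v = 0 := by rw [h2v]; ring
        exact (mul_eq_zero.mp this).resolve_left h2
      subst hv
      rw [hQ]
      simp
    · right
      have hu : u = -1 := by linear_combination h4
      subst hu
      have hv : v = a + d := by
        have : 2 * v = 2 * (a + d) := by rw [h2v]; ring
        exact mul_left_cancel₀ h2 this
      subst hv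
      rw [hQ]
      simp [sub_eq_neg_add]
  · exact absurd h3 hdisc

/-- A non-scalar matrix of finite order invertible in the field has non-zero discriminant. -/
theorem disc_ne_zero (h2 : (2 : F) ≠ 0) {P : Matrix (Fin 2) (Fin 2) F} (hP : ∀ c : F, P ≠ c • 1) {m : ℕ}
    (hm : P ^ m = 1) (hm0 : (m : F) ≠ 0) :
    (P 0 0 + P 1 1) ^ 2 - 4 * (P 0 0 * P 1 1 - P 0 1 * P 1 0) ≠ 0 := by
  intro hd
  set t := (P 0 0 + P 1 1) / 2 with ht
  set N := P - t • 1 with hN
  have hPN : P = t • 1 + N := by rw [hN]; abel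
  have h4 : (4 : F) = 2 * 2 := by norm_num
  have hN2 : N * N = 0 := by
    have e : P = !![P 0 0, P 0 1; P 1 0, P 1 1] := Matrix.eta_fin_two P
    have hdd : (P 0 0 - P 1 1) ^ 2 + 4 * (P 0 1 * P 1 0) = 0 := by linear_combination hd
    have h2sq : (2 : F) * 2 ≠ 0 := mul_ne_zero h2 h2
    have htt : 2 * t = P 0 0 + P 1 1 := by rw [ht]; field_simp
    ext i j
    rw [hN]
    fin_cases i <;> fin_cases j <;>
      simp [Matrix.mul_apply, Fin.sum_univ_two, Matrix.sub_apply, Matrix.smul_apply, Matrix.one_apply]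
    · have : (2 : F) * 2 * ((P 0 0 - t) * (P 0 0 - t) + P 0 1 * P 1 0) = 0 := by
        have e1 : 2 * (P 0 0 - t) = P 0 0 - P 1 1 := by linear_combination -htt + P 0 0
        linear_combination (2 * (P 0 0 - t) + (P 0 0 - P 1 1)) * e1 + hdd
      exact (mul_eq_zero.mp this).resolve_left h2sq
    · have : (2 : F) * (P 0 1 * (P 0 0 - t + (P 1 1 - t))) = 0 := by
        linear_combination (-2 * P 0 1) * htt
      have := (mul_eq_zero.mp this).resolve_left h2
      linear_combination this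
    · have : (2 : F) * (P 1 0 * (P 0 0 - t + (P 1 1 - t))) = 0 := by
        linear_combination (-2 * P 1 0) * htt
      have := (mul_eq_zero.mp this).resolve_left h2
      linear_combination this
    · have : (2 : F) * 2 * (P 1 0 * P 0 1 + (P 1 1 - t) * (P 1 1 - t)) = 0 := by
        have e1 : 2 * (P 1 1 - t) = P 1 1 - P 0 0 := by linear_combination -htt + P 1 1
        linear_combination (2 * (P 1 1 - t) + (P 1 1 - P 0 0)) * e1 + hdd
      exact (mul_eq_zero.mp this).resolve_left h2sq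
  have hpow : ∀ k : ℕ, P ^ (k + 1) = t ^ (k + 1) • 1 + (((k + 1 : ℕ) : F) * t ^ k) • N := by
    intro k
    induction k with
    | zero => simp [hPN]
    | succ k ih =>
      rw [pow_succ, ih, hPN]
      simp only [add_mul, mul_add, smul_mul_assoc, mul_smul_comm, one_mul, mul_one, smul_smul, hN2, smul_zero, add_zero]
      rw [smul_add, smul_smul, smul_smul, add_assoc, ← add_smul]
      congr 2
      · ring
      · push_cast
        ring
  have hNns : ∀ c : F, N ≠ c • 1 := by
    intro c hc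
    apply hP (t + c)
    rw [hPN, hc, add_smul]
  obtain ⟨k, rfl⟩ : ∃ k, m = k + 1 := by
    cases m with
    | zero => simp at hm0
    | succ k => exact ⟨k, rfl⟩
  have h5 := hpow k
  rw [hm] at h5
  have h6 : ((((k + 1 : ℕ) : F)) * t ^ k) = 0 := by
    by_contra hne
    apply hNns ((1 - t ^ (k + 1)) * (((k + 1 : ℕ) : F) * t ^ k)⁻¹)
    have h7 : (((k + 1 : ℕ) : F) * t ^ k) • N = (1 - t ^ (k + 1)) • (1 : Matrix (Fin 2) (Fin 2) F) := by
      rw [sub_smul, one_smul]
      nth_rw 1 [h5]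
      abel
    have h8 := congrArg (fun X => ((((k + 1 : ℕ) : F)) * t ^ k)⁻¹ • X) h7
    simp only [smul_smul, inv_mul_cancel₀ hne, one_smul] at h8
    rw [h8, mul_comm]
  have h7 : t ^ k = 0 := (mul_eq_zero.mp h6).resolve_left hm0
  have h8 : t ^ (k + 1) = 0 := by rw [pow_succ, h7, zero_mul]
  rw [h8, h6] at h5
  simp at h5

/-! ### Subgroups of `GL₂` -/

/-- The scalar matrices in a subgroup of `GL₂`. -/
def Zs (W : Subgroup (GL (Fin 2) F)) : Subgroup W where
  carrier := {g | ∃ c : F, (((g : GL (Fin 2) F) : Matrix (Fin 2) (Fin 2) F)) = c • 1}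
  one_mem' := ⟨1, by simp⟩
  mul_mem' := by
    rintro a b ⟨c, hc⟩ ⟨d, hd⟩
    refine ⟨c * d, ?_⟩
    simp only [Subgroup.coe_mul, Units.val_mul, hc, hd, smul_mul_smul_comm, mul_one]
  inv_mem' := by
    rintro a ⟨c, hc⟩
    have h1 : ((a : GL (Fin 2) F) : Matrix (Fin 2) (Fin 2) F) * (((a : GL (Fin 2) F)⁻¹ : GL (Fin 2) F) : Matrix (Fin 2) (Fin 2) F) = 1 :=
      Units.mul_inv _
    rw [hc, smul_mul_assoc, one_mul] at h1
    have hc0 : c ≠ 0 := by
      rintro rfl
      rw [zero_smul] at h1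
      have := congrFun (congrFun h1 0) 0
      simp at this
    refine ⟨c⁻¹, ?_⟩
    have h2 := congrArg (fun X => c⁻¹ • X) h1
    simp only [smul_smul, inv_mul_cancel₀ hc0, one_smul] at h2
    simpa using h2

theorem mem_Zs {W : Subgroup (GL (Fin 2) F)} {g : W} :
    g ∈ Zs W ↔ ∃ c : F, (((g : GL (Fin 2) F) : Matrix (Fin 2) (Fin 2) F)) = c • 1 := Iff.rfl

theorem commute_iff {W : Subgroup (GL (Fin 2) F)} {a b : W} :
    Commute a b ↔ ((a : GL (Fin 2) F) : Matrix (Fin 2) (Fin 2) F) * ((b : GL (Fin 2) F) : Matrix (Fin 2) (Fin 2) F) =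
      ((b : GL (Fin 2) F) : Matrix (Fin 2) (Fin 2) F) * ((a : GL (Fin 2) F) : Matrix (Fin 2) (Fin 2) F) := by
  constructor
  · intro h
    have := congrArg (fun g : W => (((g : GL (Fin 2) F)) : Matrix (Fin 2) (Fin 2) F)) h.eq
    simpa using this
  · intro h
    apply Subtype.ext
    apply Units.ext
    simpa using h

/-- The hypotheses of the count. -/
theorem hyp (W : Subgroup (GL (Fin 2) F)) [Finite W] (h2 : (2 : F) ≠ 0) (hcard : ((Nat.card W : ℕ) : F) ≠ 0) :
    Hyp (Zs W) := by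
  have hns : ∀ c : W, c ∉ Zs W → ∀ d : F, (((c : GL (Fin 2) F) : Matrix (Fin 2) (Fin 2) F)) ≠ d • 1 := by
    intro c hc d hd
    exact hc ⟨d, hd⟩
  refine ⟨?_, ?_, ?_⟩
  · rintro ζ ⟨c, hc⟩ g
    apply commute_iff.mpr
    rw [hc]
    simp
  · intro a b c hc hac hbc
    exact commute_iff.mpr (comm_trans (hns c hc) (commute_iff.mp hac) (commute_iff.mp hbc))
  · intro c hc g₁ g₂ h₁ h₂
    set P := (((c : GL (Fin 2) F)) : Matrix (Fin 2) (Fin 2) F) with hP
    have hord : (((orderOf c : ℕ)) : F) ≠ 0 := by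
      intro h0
      obtain ⟨k, hk⟩ := orderOf_dvd_natCard c
      apply hcard
      rw [hk]
      push_cast
      rw [h0, zero_mul]
    have hPm : P ^ orderOf c = 1 := by
      have h3 := pow_orderOf_eq_one c
      calc P ^ orderOf c = (((c ^ orderOf c : W) : GL (Fin 2) F) : Matrix (Fin 2) (Fin 2) F) := by
            rw [Subgroup.coe_pow, Units.val_pow_eq_pow_val]
        _ = 1 := by rw [h3]; rfl
    have hdisc := disc_ne_zero h2 (hns c hc) hPm hord
    -- conjugates
    have key : ∀ g : W, Commute (g * c * g⁻¹) c →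
        Commute g c ∨ (((g * c * g⁻¹ : W) : GL (Fin 2) F) : Matrix (Fin 2) (Fin 2) F) = (P 0 0 + P 1 1) • 1 - P := by
      intro g hg
      set G := (((g : GL (Fin 2) F)) : Matrix (Fin 2) (Fin 2) F) with hG
      set G' := (((g : W)⁻¹ : W) : GL (Fin 2) F) with hG'
      set Q := (((g * c * g⁻¹ : W) : GL (Fin 2) F) : Matrix (Fin 2) (Fin 2) F) with hQ
      have hQe : Q = G * P * (G' : Matrix (Fin 2) (Fin 2) F) := by
        simp [hQ, hG, hG', hP]
      have hGG' : (G' : Matrix (Fin 2) (Fin 2) F) * G = 1 := by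
        have := congrArg (fun g : W => (((g : GL (Fin 2) F)) : Matrix (Fin 2) (Fin 2) F)) (inv_mul_cancel g)
        simpa [hG, hG'] using this
      have hGG2 : G * (G' : Matrix (Fin 2) (Fin 2) F) = 1 := by
        have := congrArg (fun g : W => (((g : GL (Fin 2) F)) : Matrix (Fin 2) (Fin 2) F)) (mul_inv_cancel g)
        simpa [hG, hG'] using this
      have htr : Q 0 0 + Q 1 1 = P 0 0 + P 1 1 := by
        have : Matrix.trace Q = Matrix.trace P := by
          rw [hQe, Matrix.trace_mul_comm, ← mul_assoc, hGG', one_mul]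
        simpa [Matrix.trace_fin_two] using this
      have hdet : Q 0 0 * Q 1 1 - Q 0 1 * Q 1 0 = P 0 0 * P 1 1 - P 0 1 * P 1 0 := by
        have : Matrix.det Q = Matrix.det P := by
          rw [hQe, Matrix.det_mul, Matrix.det_mul, mul_comm (Matrix.det G), mul_assoc, ← Matrix.det_mul, hGG2]
          simp
        simpa [Matrix.det_fin_two] using this
      have hcomm : Q * P = P * Q := commute_iff.mp hg
      rcases conj_cases h2 (hns c hc) hdisc htr hdet hcomm with h3 | h3
      · left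
        apply commute_iff.mpr
        have h4 : G * P * (G' : Matrix (Fin 2) (Fin 2) F) * G = P * G := by
          rw [← hQe, h3]
        rw [mul_assoc, mul_assoc, hGG', mul_one] at h4
        exact h4
      · right
        exact h3
    rcases key g₁ h₁ with h3 | h3
    · exact Or.inl h3
    · rcases key g₂ h₂ with h4 | h4
      · exact Or.inr (Or.inl h4)
      · right
        right
        -- `g₁ c g₁⁻¹ = g₂ c g₂⁻¹`
        have h5 : g₁ * c * g₁⁻¹ = g₂ * c * g₂⁻¹ := by
          apply Subtype.ext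
          apply Units.ext
          rw [h3, h4]
        show g₁⁻¹ * g₂ * c = c * (g₁⁻¹ * g₂)
        have h6 : g₂ * c = g₁ * c * g₁⁻¹ * g₂ := by
          rw [h5]
          group
        calc g₁⁻¹ * g₂ * c = g₁⁻¹ * (g₂ * c) := by group
          _ = g₁⁻¹ * (g₁ * c * g₁⁻¹ * g₂) := by rw [h6]
          _ = c * (g₁⁻¹ * g₂) := by group

/-- Powers of `a` give cosets of `Z` in the centralizer of `a`. -/
theorem mul_card_le {W : Type*} [Group W] [Finite W] {Z : Subgroup W} (hZ : ∀ ζ ∈ Z, ∀ g : W, ζ * g = g * ζ)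
    (a : W) (k : ℕ) (ha : ∀ j, 0 < j → j < k → a ^ j ∉ Z) : k * Nat.card Z ≤ Nat.card (Cn a) := by
  classical
  have hmem : ∀ (i : Fin k) (ζ : Z), a ^ (i : ℕ) * (ζ : W) ∈ Cn a := by
    intro i ζ
    apply mem_Cn.mpr
    exact (Commute.pow_left (Commute.refl a) _).mul_left (hZ ζ ζ.2 a)
  let f : Fin k × Z → Cn a := fun x => ⟨a ^ (x.1 : ℕ) * (x.2 : W), hmem x.1 x.2⟩
  have hf : Function.Injective f := by
    have hlt : ∀ (i j : Fin k) (ζ ζ' : Z), (i : ℕ) < j → a ^ (i : ℕ) * (ζ : W) = a ^ (j : ℕ) * (ζ' : W) → False := by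
      intro i j ζ ζ' hij he
      have h1 : a ^ ((j : ℕ) - i) ∈ Z := by
        have h2 : a ^ (j : ℕ) = a ^ (i : ℕ) * a ^ ((j : ℕ) - i) := by
          rw [← pow_add]
          congr 1
          omega
        rw [h2, mul_assoc] at he
        have h3 := mul_left_cancel he
        have h4 : a ^ ((j : ℕ) - i) = (ζ : W) * (ζ' : W)⁻¹ := by
          rw [h3]
          group
        rw [h4]
        exact Z.mul_mem ζ.2 (Z.inv_mem ζ'.2)
      exact ha _ (by omega) (by have := j.2; omega) h1
    rintro ⟨i, ζ⟩ ⟨j, ζ'⟩ hxy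
    have he : a ^ (i : ℕ) * (ζ : W) = a ^ (j : ℕ) * (ζ' : W) := congrArg Subtype.val hxy
    rcases lt_trichotomy (i : ℕ) j with h | h | h
    · exact (hlt i j ζ ζ' h he).elim
    · have hij : i = j := Fin.ext h
      subst hij
      have := mul_left_cancel he
      have h2 : ζ = ζ' := Subtype.ext this
      rw [h2]
    · exact (hlt j i ζ' ζ h he.symm).elim
  have := Nat.card_le_card_of_injective f hf
  rwa [Nat.card_prod, Nat.card_fin] at this

/-- If `a ^ k ∈ Z` only for `4 ∣ k` then the index of `Z` in the centralizer of `a` is divisible by `4`. -/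
theorem four_dvd {W : Type*} [Group W] [Finite W] {Z : Subgroup W} (hZ : ∀ ζ ∈ Z, ∀ g : W, ζ * g = g * ζ)
    (a : W) (hdiv : ∀ k, 0 < k → a ^ k ∈ Z → 4 ∣ k) :
    ∃ e, e % 4 = 0 ∧ 0 < e ∧ Nat.card (Cn a) = e * Nat.card Z := by
  classical
  have hle : Z ≤ Cn a := fun ζ hζ => mem_Cn.mpr (hZ ζ hζ a)
  let Y : Subgroup (Cn a) := Z.subgroupOf (Cn a)
  haveI hY : Y.Normal := by
    refine ⟨fun y hy g => ?_⟩
    have hy' : (y : W) ∈ Z := hy
    show ((g * y * g⁻¹ : Cn a) : W) ∈ Z
    have h5 : ((g * y * g⁻¹ : Cn a) : W) = (y : W) := by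
      have := hZ _ hy' (g : W)
      simp only [Subgroup.coe_mul, Subgroup.coe_inv]
      rw [← this]
      group
    rw [h5]
    exact hy'
  have hcY : Nat.card Y = Nat.card Z := by
    have : Y.map (Cn a).subtype = Z := by
      rw [Subgroup.subgroupOf_map_subtype]
      exact inf_of_le_left hle
    rw [← this, Subgroup.card_map_of_injective (Cn a).subtype_injective]
  let aa : Cn a := ⟨a, mem_Cn.mpr (Commute.refl a)⟩
  have hdvd : 4 ∣ Nat.card (Cn a ⧸ Y) := by
    have hpos : 0 < orderOf (QuotientGroup.mk aa : Cn a ⧸ Y) := orderOf_pos _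
    have h1 : (QuotientGroup.mk aa : Cn a ⧸ Y) ^ orderOf (QuotientGroup.mk aa : Cn a ⧸ Y) = 1 := pow_orderOf_eq_one _
    rw [← QuotientGroup.mk_pow, QuotientGroup.eq_one_iff] at h1
    have h2 : a ^ orderOf (QuotientGroup.mk aa : Cn a ⧸ Y) ∈ Z := by
      simpa [Y, aa, Subgroup.mem_subgroupOf] using h1
    exact (hdiv _ hpos h2).trans (orderOf_dvd_natCard _)
  refine ⟨Nat.card (Cn a ⧸ Y), ?_, Nat.card_pos, ?_⟩
  · exact Nat.mod_eq_zero_of_dvd hdvd
  · rw [← hcY]
    exact Subgroup.card_eq_card_quotient_mul_card_subgroup Y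

/-! ### The form for groups acting on a plane -/

variable {V : Type*} [AddCommGroup V] [Module F V]

/-- A linear map that is a scalar. -/
def IsScal (f : V ≃ₗ[F] V) : Prop := ∃ c : F, ∀ v, f v = c • v

/-- The matrix representation. -/
noncomputable def matRep {Γ : Type*} [Group Γ] (b : Module.Basis (Fin 2) F V) (ρ : Γ →* (V ≃ₗ[F] V)) :
    Γ →* GL (Fin 2) F :=
  (((LinearMap.toMatrixAlgEquiv b).toMonoidHom).comp
    ((LinearEquiv.automorphismGroup.toLinearMapMonoidHom : (V ≃ₗ[F] V) →* (V →ₗ[F] V)).comp ρ)).toHomUnits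

theorem matRep_val {Γ : Type*} [Group Γ] (b : Module.Basis (Fin 2) F V) (ρ : Γ →* (V ≃ₗ[F] V)) (g : Γ) :
    ((matRep b ρ g : GL (Fin 2) F) : Matrix (Fin 2) (Fin 2) F) = LinearMap.toMatrixAlgEquiv b ((ρ g : V ≃ₗ[F] V) : V →ₗ[F] V) := by
  rfl

theorem matRep_scal_iff {Γ : Type*} [Group Γ] (b : Module.Basis (Fin 2) F V) (ρ : Γ →* (V ≃ₗ[F] V)) (g : Γ) :
    (∃ c : F, ((matRep b ρ g : GL (Fin 2) F) : Matrix (Fin 2) (Fin 2) F) = c • 1) ↔ IsScal (ρ g) := by
  constructor
  · rintro ⟨c, hc⟩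
    refine ⟨c, fun v => ?_⟩
    rw [matRep_val] at hc
    have h1 : (c • 1 : Matrix (Fin 2) (Fin 2) F) = LinearMap.toMatrixAlgEquiv b (c • (1 : V →ₗ[F] V)) := by
      rw [map_smul, map_one]
    rw [h1] at hc
    have h2 := (LinearMap.toMatrixAlgEquiv b).injective hc
    have h3 := LinearMap.congr_fun h2 v
    simpa using h3
  · rintro ⟨c, hc⟩
    refine ⟨c, ?_⟩
    rw [matRep_val]
    have h1 : ((ρ g : V ≃ₗ[F] V) : V →ₗ[F] V) = c • (1 : V →ₗ[F] V) := by
      ext v
      simpa using hc v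
    rw [h1, map_smul, map_one]

theorem matRep_comm_iff {Γ : Type*} [Group Γ] (b : Module.Basis (Fin 2) F V) (ρ : Γ →* (V ≃ₗ[F] V)) (g g' : Γ) :
    Commute (ρ g) (ρ g') ↔
      ((matRep b ρ g : GL (Fin 2) F) : Matrix (Fin 2) (Fin 2) F) * ((matRep b ρ g' : GL (Fin 2) F) : Matrix (Fin 2) (Fin 2) F) =
        ((matRep b ρ g' : GL (Fin 2) F) : Matrix (Fin 2) (Fin 2) F) * ((matRep b ρ g : GL (Fin 2) F) : Matrix (Fin 2) (Fin 2) F) := by
  rw [← Units.val_mul, ← Units.val_mul, ← map_mul, ← map_mul]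
  constructor
  · intro h
    have : g * g' = g * g' := rfl
    rw [show ((matRep b ρ (g * g') : GL (Fin 2) F) : Matrix (Fin 2) (Fin 2) F) = LinearMap.toMatrixAlgEquiv b ((ρ (g * g') : V ≃ₗ[F] V) : V →ₗ[F] V) from rfl,
      show ((matRep b ρ (g' * g) : GL (Fin 2) F) : Matrix (Fin 2) (Fin 2) F) = LinearMap.toMatrixAlgEquiv b ((ρ (g' * g) : V ≃ₗ[F] V) : V →ₗ[F] V) from rfl,
      map_mul, map_mul, h.eq]
  · intro h
    rw [show ((matRep b ρ (g * g') : GL (Fin 2) F) : Matrix (Fin 2) (Fin 2) F) = LinearMap.toMatrixAlgEquiv b ((ρ (g * g') : V ≃ₗ[F] V) : V →ₗ[F] V) from rfl,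
      show ((matRep b ρ (g' * g) : GL (Fin 2) F) : Matrix (Fin 2) (Fin 2) F) = LinearMap.toMatrixAlgEquiv b ((ρ (g' * g) : V ≃ₗ[F] V) : V →ₗ[F] V) from rfl] at h
    have h2 := (LinearMap.toMatrixAlgEquiv b).injective h
    rw [map_mul, map_mul] at h2
    ext v
    have h3 := LinearMap.congr_fun h2 v
    simpa using h3

variable {Γ : Type*} [Group Γ] [Finite Γ]

/-- **No two large tori.** -/
theorem no_large_pair_plane (h2 : (2 : F) ≠ 0) (hV : Module.finrank F V = 2) (ρ : Γ →* (V ≃ₗ[F] V))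
    (hcard : ((Nat.card Γ : ℕ) : F) ≠ 0) (a b : Γ) (hab : ¬ Commute (ρ a) (ρ b))
    (ha : ∀ k, 0 < k → k < 6 → ¬ IsScal (ρ (a ^ k))) (hb : ∀ k, 0 < k → k < 6 → ¬ IsScal (ρ (b ^ k))) : False := by
  haveI : Module.Finite F V := Module.finite_of_finrank_pos (by omega)
  have b₀ : Module.Basis (Fin 2) F V := Module.finBasisOfFinrankEq F V hV
  set R := matRep b₀ ρ with hR
  let W := R.range
  haveI : Finite W := Finite.of_surjective R.rangeRestrict R.rangeRestrict_surjective
  have hcW : ((Nat.card W : ℕ) : F) ≠ 0 := by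
    intro h0
    apply hcard
    obtain ⟨k, hk⟩ : Nat.card W ∣ Nat.card Γ := Subgroup.card_range_dvd R
    rw [hk]
    push_cast
    rw [h0, zero_mul]
  have hH := hyp W h2 hcW
  let el : Γ → W := fun g => ⟨R g, g, rfl⟩
  have hel : ∀ (g : Γ) (k : ℕ), el g ^ k = el (g ^ k) := by
    intro g k
    apply Subtype.ext
    simp [el]
  have hnot : ∀ g : Γ, ¬ IsScal (ρ g) → el g ∉ Zs W := by
    intro g hg hz
    obtain ⟨c, hc⟩ := mem_Zs.mp hz
    exact hg ((matRep_scal_iff b₀ ρ g).mp ⟨c, hc⟩)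
  have hcard6 : ∀ g : Γ, (∀ k, 0 < k → k < 6 → ¬ IsScal (ρ (g ^ k))) → 6 * Nat.card (Zs W) ≤ Nat.card (Cn (el g)) := by
    intro g hg
    refine mul_card_le hH.central (el g) 6 ?_
    intro j hj hj6
    rw [hel]
    exact hnot _ (hg j hj hj6)
  refine no_large_pair hH (hnot a (by simpa using ha 1 (by norm_num) (by norm_num)))
    (hnot b (by simpa using hb 1 (by norm_num) (by norm_num))) ?_ (hcard6 a ha) (hcard6 b hb)
  intro hc
  apply hab
  rw [matRep_comm_iff b₀ ρ]
  exact commute_iff.mp hc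

/-- **No four tori with `4 ∣ e`.** -/
theorem no_large_four_plane (h2 : (2 : F) ≠ 0) (hV : Module.finrank F V = 2) (ρ : Γ →* (V ≃ₗ[F] V))
    (hcard : ((Nat.card Γ : ℕ) : F) ≠ 0) (f : Fin 4 → Γ)
    (hne : ∀ i j, i ≠ j → ¬ Commute (ρ (f i)) (ρ (f j)))
    (hdiv : ∀ i k, 0 < k → IsScal (ρ (f i ^ k)) → 4 ∣ k) : False := by
  haveI : Module.Finite F V := Module.finite_of_finrank_pos (by omega)
  have b₀ : Module.Basis (Fin 2) F V := Module.finBasisOfFinrankEq F V hV
  set R := matRep b₀ ρ with hR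
  let W := R.range
  haveI : Finite W := Finite.of_surjective R.rangeRestrict R.rangeRestrict_surjective
  have hcW : ((Nat.card W : ℕ) : F) ≠ 0 := by
    intro h0
    apply hcard
    obtain ⟨k, hk⟩ : Nat.card W ∣ Nat.card Γ := Subgroup.card_range_dvd R
    rw [hk]
    push_cast
    rw [h0, zero_mul]
  have hH := hyp W h2 hcW
  let el : Γ → W := fun g => ⟨R g, g, rfl⟩
  have hel : ∀ (g : Γ) (k : ℕ), el g ^ k = el (g ^ k) := by
    intro g k
    apply Subtype.ext
    simp [el]
  have hnot : ∀ g : Γ, ¬ IsScal (ρ g) → el g ∉ Zs W := by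
    intro g hg hz
    obtain ⟨c, hc⟩ := mem_Zs.mp hz
    exact hg ((matRep_scal_iff b₀ ρ g).mp ⟨c, hc⟩)
  have hin : ∀ g : Γ, IsScal (ρ g) → el g ∈ Zs W := by
    intro g hg
    obtain ⟨c, hc⟩ := (matRep_scal_iff b₀ ρ g).mpr hg
    exact mem_Zs.mpr ⟨c, hc⟩
  refine no_large_four hH (fun i => el (f i)) ?_ ?_ ?_
  · intro i hi
    have h1 : el (f i) ^ 1 ∈ Zs W := by simpa using hi
    rw [hel] at h1
    by_cases hs : IsScal (ρ (f i ^ 1))
    · have := hdiv i 1 (by norm_num) hs
      omega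
    · exact hnot _ hs h1
  · intro i j hij hc
    apply hne i j hij
    rw [matRep_comm_iff b₀ ρ]
    exact commute_iff.mp hc
  · intro i
    refine four_dvd hH.central (el (f i)) ?_
    intro k hk hz
    rw [hel] at hz
    by_cases hs : IsScal (ρ (f i ^ k))
    · exact hdiv i k hk hs
    · exact (hnot _ hs hz).elim

end Cfsg.Agent.Lib.GL2Torus
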