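import Mathlib

/-!
# An embedding of `GL₄(2)` into the alternating group of degree eight

`GL₄(2)` acts by `S ↦ M S Mᵀ` on alternating `4 × 4`-matrices over `𝔽₂` and we display the
action on eight points explicitly, on transvections.
-/

set_option autoImplicit false

namespace Cfsg.Agent.Lib.GL42A8

open Matrix

abbrev M4 := Matrix (Fin 4) (Fin 4) (ZMod 2)

/-- Alternating matrix with the given upper triangular entries. -/
def alt (s01 s02 s03 s12 s13 s23 : ZMod 2) : M4 :=
  !![0, s01, s02, s03; s01, 0, s12, s13; s02, s12, 0, s23; s03, s13, s23, 0]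

/-- The eight "points" in the seven dimensional space of alternating matrices modulo nothing. -/
def aa : Fin 8 → M4 :=
  ![alt 0 0 0 0 0 0, alt 0 0 1 1 0 0, alt 0 1 0 1 1 0, alt 0 1 1 0 1 1,
    alt 1 0 0 1 1 1, alt 1 0 1 0 0 1, alt 1 1 0 1 0 1, alt 1 1 1 0 1 0]

/-- The permutation attached to the transvection with position `(i, j)`. -/
def tab : Fin 4 → Fin 4 → (Fin 8 → Fin 8) :=
  ![![![0,1,2,3,4,5,6,7], ![5,6,4,7,2,0,1,3], ![7,2,1,5,6,3,4,0], ![1,0,7,4,3,6,5,2]],
    ![![4,5,6,7,0,1,2,3], ![0,1,2,3,4,5,6,7], ![1,0,7,6,5,4,3,2], ![2,7,0,5,6,3,4,1]],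
    ![![2,3,0,1,6,7,4,5], ![1,0,3,2,7,6,5,4], ![0,1,2,3,4,5,6,7], ![6,5,4,7,2,1,0,3]],
    ![![1,0,3,2,5,4,7,6], ![3,2,1,0,6,7,4,5], ![5,4,6,7,1,0,2,3], ![0,1,2,3,4,5,6,7]]]

theorem tab_invol (i j : Fin 4) : Function.Involutive (tab i j) := by
  revert i j
  show ∀ i j x, tab i j (tab i j x) = x
  decide

/-- The permutation. -/
def sig (i j : Fin 4) : Equiv.Perm (Fin 8) := (tab_invol i j).toPerm

theorem sig_apply (i j : Fin 4) (k : Fin 8) : sig i j k = tab i j k := rfl

theorem sig_sign : ∀ i j, Equiv.Perm.sign (sig i j) = 1 := by decide +kernel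

/-- The relation between a matrix and a permutation. -/
def Rel (M : M4) (σ : Equiv.Perm (Fin 8)) : Prop :=
  ∀ k, M * aa k * Mᵀ = aa (σ 0) + aa (σ k)

theorem rel_tv : ∀ i j : Fin 4, i ≠ j → ∀ k : Fin 8,
    Matrix.transvection i j (1 : ZMod 2) * aa k * (Matrix.transvection i j (1 : ZMod 2))ᵀ =
      aa (tab i j 0) + aa (tab i j k) := by
  decide +kernel

theorem add_self_M4 (x : M4) : x + x = 0 := by
  ext i j
  simp only [Matrix.add_apply, Matrix.zero_apply]
  exact CharTwo.add_self_eq_zero _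

theorem aa_zero : aa 0 = 0 := by decide

theorem rel_one : Rel 1 1 := by
  intro k
  simp [aa_zero]

theorem rel_mul {A B : M4} {σ τ : Equiv.Perm (Fin 8)} (hA : Rel A σ) (hB : Rel B τ) :
    Rel (A * B) (σ * τ) := by
  intro k
  have h1 : (A * B) * aa k * (A * B)ᵀ = A * (B * aa k * Bᵀ) * Aᵀ := by
    rw [Matrix.transpose_mul]
    simp only [Matrix.mul_assoc]
  rw [h1, hB k, Matrix.mul_add, Matrix.add_mul, hA, hA]
  have h2 : ∀ x y z : M4, (x + y) + (x + z) = y + z := by
    intro x y z
    have := add_self_M4 x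
    calc (x + y) + (x + z) = (x + x) + (y + z) := by abel
      _ = y + z := by rw [this, zero_add]
  rw [h2]
  rfl

/-- Combinatorial facts about `aa`. -/
theorem aa_inj : ∀ p q : Fin 8, aa p = aa q → p = q := by decide +kernel

theorem aa_pair : ∀ p q r s : Fin 8, p ≠ q → aa p + aa q = aa r + aa s → p = r ∨ p = s := by
  decide +kernel

theorem rel_unique {M : M4} {σ τ : Equiv.Perm (Fin 8)} (h1 : Rel M σ) (h2 : Rel M τ) : σ = τ := by
  have hk : ∀ k, aa (σ 0) + aa (σ k) = aa (τ 0) + aa (τ k) := fun k => by rw [← h1 k, ← h2 k]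
  have h0 : σ 0 = τ 0 := by
    by_contra hne
    have hi1 := aa_pair _ _ _ _ (fun h => absurd (σ.injective h) (by decide : (0 : Fin 8) ≠ 1)) (hk 1)
    have hi2 := aa_pair _ _ _ _ (fun h => absurd (σ.injective h) (by decide : (0 : Fin 8) ≠ 2)) (hk 2)
    have e1 : σ 0 = τ 1 := hi1.resolve_left hne
    have e2 : σ 0 = τ 2 := hi2.resolve_left hne
    have := τ.injective (e1.symm.trans e2)
    exact absurd this (by decide)
  ext k
  have h3 := hk k
  rw [h0] at h3
  exact congrArg _ (aa_inj _ _ (add_left_cancel h3))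

/-- All invertible matrices are related to an even permutation. -/
theorem exists_rel (M : M4) (hM : M.det ≠ 0) :
    ∃ σ : Equiv.Perm (Fin 8), Equiv.Perm.sign σ = 1 ∧ Rel M σ := by
  refine Matrix.diagonal_transvection_induction_of_det_ne_zero
    (fun M => ∃ σ : Equiv.Perm (Fin 8), Equiv.Perm.sign σ = 1 ∧ Rel M σ) M hM ?_ ?_ ?_
  · intro D hD
    refine ⟨1, map_one _, ?_⟩
    have hD1 : ∀ i, D i = 1 := by
      intro i
      have h1 : D i ≠ 0 := by
        intro h0
        apply hD
        rw [Matrix.det_diagonal]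
        exact Finset.prod_eq_zero (Finset.mem_univ i) h0
      generalize D i = x at h1
      revert x
      decide
    have : Matrix.diagonal D = 1 := by
      ext i j
      by_cases h : i = j
      · subst h; simp [hD1]
      · simp [h]
    rw [this]
    exact rel_one
  · intro t
    rcases t with ⟨i, j, hij, c⟩
    show ∃ σ, _ ∧ Rel (Matrix.transvection i j c) σ
    have hc : c = 0 ∨ c = 1 := by
      revert c
      decide
    rcases hc with rfl | rfl
    · refine ⟨1, map_one _, ?_⟩
      rw [Matrix.transvection_zero]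
      exact rel_one
    · exact ⟨sig i j, sig_sign i j, fun k => rel_tv i j hij k⟩
  · rintro A B _ _ ⟨σ, hσ, hA⟩ ⟨τ, hτ, hB⟩
    exact ⟨σ * τ, by rw [map_mul, hσ, hτ, one_mul], rel_mul hA hB⟩

/-- Basic alternating matrices. -/
def ee (p r : Fin 4) : M4 := Matrix.single p r 1 + Matrix.single r p 1

def comb : Fin 4 → Fin 4 → (Fin 3 → Fin 8) :=
  ![![![0,0,0], ![1,2,7], ![1,5,6], ![3,5,7]],
    ![![1,2,7], ![0,0,0], ![2,4,6], ![1,4,5]],
    ![![1,5,6], ![2,4,6], ![0,0,0], ![1,2,3]],
    ![![3,5,7], ![1,4,5], ![1,2,3], ![0,0,0]]]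

theorem ee_comb : ∀ p r : Fin 4, p ≠ r →
    ee p r = aa (comb p r 0) + aa (comb p r 1) + aa (comb p r 2) := by
  decide +kernel

theorem conj_single (g : M4) (p r k l : Fin 4) :
    (g * Matrix.single p r (1 : ZMod 2) * gᵀ : M4) k l = g k p * g l r := by
  have h1 : g * Matrix.single p r (1 : ZMod 2) = Matrix.of fun k l => if l = r then g k p else 0 := by
    ext a b
    by_cases hb : b = r
    · subst hb
      simp [Matrix.mul_apply, Matrix.single_apply]
    · simp [Matrix.mul_apply, Matrix.single_apply, hb, Ne.symm hb]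
  rw [h1, Matrix.mul_apply]
  simp

theorem conj_ee (g : M4) (p r k l : Fin 4) :
    (g * ee p r * gᵀ) k l = g k p * g l r + g k r * g l p := by
  rw [ee, Matrix.mul_add, Matrix.add_mul, Matrix.add_apply, conj_single, conj_single]

theorem key_bits : ∀ xk xp xr yk yp yr : ZMod 2, xp * yr + yp * xr = 1 → xk * yr + yk * xr = 0 →
    xk * yp + yk * xp = 0 → xk = 0 := by decide

theorem eq_one_of_rel {g : M4} (h : Rel g 1) : g = 1 := by
  have haa : ∀ k, g * aa k * gᵀ = aa k := by
    intro k
    have := h k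
    simpa [aa_zero] using this
  have hee : ∀ p r : Fin 4, p ≠ r → g * ee p r * gᵀ = ee p r := by
    intro p r hpr
    rw [ee_comb p r hpr]
    simp only [Matrix.mul_add, Matrix.add_mul, haa]
  have hentry : ∀ p r k l : Fin 4, p ≠ r → g k p * g l r + g k r * g l p = ee p r k l := by
    intro p r k l hpr
    rw [← conj_ee, hee p r hpr]
  have hee_apply : ∀ p r k l : Fin 4, p ≠ r → ee p r k l =
      (if p = k ∧ r = l then 1 else 0) + (if r = k ∧ p = l then 1 else 0) := by
    intro p r k l _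
    simp [ee, Matrix.add_apply, Matrix.single_apply]
  have hoff : ∀ k p : Fin 4, k ≠ p → g k p = 0 := by
    intro k p hkp
    obtain ⟨r, hrk, hrp⟩ : ∃ r : Fin 4, r ≠ k ∧ r ≠ p := by
      revert k p
      decide
    have hpr : p ≠ r := hrp.symm
    apply key_bits (g k p) (g p p) (g r p) (g k r) (g p r) (g r r)
    · rw [hentry p r p r hpr, hee_apply p r p r hpr]
      simp [hpr, hpr.symm]
    · rw [hentry p r k r hpr, hee_apply p r k r hpr]
      simp [hkp.symm, hrk, hpr, hpr.symm]
    · rw [hentry p r k p hpr, hee_apply p r k p hpr]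
      simp [hkp.symm, hrk, hpr, hpr.symm]
  ext k l
  by_cases hkl : k = l
  · subst hkl
    obtain ⟨r, hr⟩ : ∃ r : Fin 4, k ≠ r := by
      revert k
      decide
    have h1 := hentry k r k r hr
    rw [hee_apply k r k r hr, hoff k r hr] at h1
    simp [hr, hr.symm] at h1
    simp only [Matrix.one_apply_eq]
    generalize g k k = x at h1
    generalize g r r = y at h1
    revert x y
    decide
  · rw [hoff k l hkl, Matrix.one_apply_ne hkl]

/-- `GL₄(2)` embeds in the alternating group of degree 8. -/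
theorem exists_embedding :
    ∃ f : Matrix.GeneralLinearGroup (Fin 4) (ZMod 2) →* alternatingGroup (Fin 8),
      Function.Injective f := by
  classical
  have hdet : ∀ g : Matrix.GeneralLinearGroup (Fin 4) (ZMod 2), (g : M4).det ≠ 0 := by
    intro g
    exact (Matrix.isUnits_det_units g).ne_zero
  choose σ hσ hR using fun g : Matrix.GeneralLinearGroup (Fin 4) (ZMod 2) => exists_rel (g : M4) (hdet g)
  have hmul : ∀ g h, σ (g * h) = σ g * σ h := by
    intro g h
    apply rel_unique (hR (g * h))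
    have := rel_mul (hR g) (hR h)
    simpa using this
  let f : Matrix.GeneralLinearGroup (Fin 4) (ZMod 2) →* alternatingGroup (Fin 8) :=
    MonoidHom.mk' (fun g => ⟨σ g, Equiv.Perm.mem_alternatingGroup.2 (hσ g)⟩)
      (fun g h => Subtype.ext (hmul g h))
  refine ⟨f, ?_⟩
  rw [injective_iff_map_eq_one]
  intro g hg
  have h1 : σ g = 1 := congrArg Subtype.val hg
  have h2 := hR g
  rw [h1] at h2
  have h3 := eq_one_of_rel h2
  exact Units.ext h3

end Cfsg.Agent.Lib.GL42A8
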