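import Mathlib
import Cfsg.Agent.Lib.JordanClasses
import Cfsg.Agent.Lib.Inv2Count

/-!
# Classes of elements of order `p` in `GL_n` in characteristic `p`
-/

set_option autoImplicit false
set_option linter.unusedSectionVars false
set_option linter.unusedSimpArgs false
set_option linter.unusedVariables false

namespace Cfsg.Agent.Lib.GLOrderP

open Module Matrix
open Cfsg.Agent.Lib.JordanClasses

section tm

variable {F : Type*} [Field F]

theorem Tm_pow_eq_zero_iff {ι : Type*} [Fintype ι] (e : ι → ℕ) (j : ℕ) :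
    (Tm (F := F) e) ^ j = 0 ↔ ∀ i, e i ≤ j := by
  classical
  constructor
  · intro h i
    by_contra hi
    push Not at hi
    have h1 : ∀ (v : ∀ i, Fin (e i) → F), (Tm (F := F) e ^ j) v = 0 := fun v => by rw [h]; rfl
    have h2 := h1 (fun i' => if hi' : i' = i then fun _ => 1 else 0)
    have h3 := congrFun (congrFun h2 i) ⟨j, hi⟩
    rw [Tm_pow_apply, Sh_pow_apply, dif_pos (by simp)] at h3
    simp at h3
  · intro h
    refine LinearMap.ext fun v => ?_
    funext i a
    rw [Tm_pow_apply, Sh_pow_apply, dif_neg]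
    · rfl
    · have := a.2
      have := h i
      omega

theorem Sim_pow_zero {M M' : Type*} [AddCommGroup M] [Module F M] [AddCommGroup M'] [Module F M']
    {T : End F M} {T' : End F M'} (h : Sim T T') (j : ℕ) : T ^ j = 0 ↔ T' ^ j = 0 := by
  obtain ⟨g, hg⟩ := h.pow j
  constructor
  · intro h0
    ext1 v
    have := hg (g.symm v)
    rw [h0] at this
    simp only [LinearMap.zero_apply, map_zero, LinearEquiv.apply_symm_apply] at this
    exact this.symm
  · intro h0
    ext1 v
    have := hg v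
    rw [h0] at this
    simp only [LinearMap.zero_apply, map_zero] at this ⊢
    simpa using this

variable {n : ℕ}

theorem NP_pow_zero_iff (l : Nat.Partition n) (j : ℕ) :
    (NP F l) ^ j = 0 ↔ ∀ a ∈ l.parts, a ≤ j := by
  rw [← Sim_pow_zero (Sim_NP l), Tm_pow_eq_zero_iff]
  have hm := mset_eP l
  constructor
  · intro h a ha
    rw [← hm] at ha
    obtain ⟨i, -, rfl⟩ := Multiset.mem_map.mp ha
    exact h i
  · intro h i
    apply h
    rw [← hm]
    exact Multiset.mem_map_of_mem _ (Finset.mem_univ i)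

theorem JP_pow_zero_iff (l : Nat.Partition n) (j : ℕ) :
    (JP F l) ^ j = 0 ↔ ∀ a ∈ l.parts, a ≤ j := by
  rw [← NP_pow_zero_iff (F := F)]
  have h : ∀ X : Matrix (Fin n) (Fin n) F, Matrix.toLinAlgEquiv' (R := F) (n := Fin n) X = 0 ↔ X = 0 :=
    fun X => map_eq_zero_iff _ (Matrix.toLinAlgEquiv' (R := F) (n := Fin n)).injective
  rw [← h, map_pow]
  have : Matrix.toLinAlgEquiv' (R := F) (n := Fin n) (JP F l) = NP F l := by
    rw [JP]
    exact Matrix.toLin'_toMatrix' _
  rw [this]

variable [Fintype F] (p : ℕ) [Fact p.Prime] [CharP F p]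

theorem gP_ne_one_iff (l : Nat.Partition n) : gP F l ≠ 1 ↔ ∃ a ∈ l.parts, a ≠ 1 := by
  have h1 : gP F l = 1 ↔ JP F l = 0 := by
    constructor
    · intro h
      have := congrArg (fun x : Matrix.GeneralLinearGroup (Fin n) F => (x : Matrix (Fin n) (Fin n) F)) h
      simp only [gP_coe, Units.val_one] at this
      exact add_eq_left.mp this
    · intro h
      apply Units.ext
      rw [gP_coe, h, add_zero]
      rfl
  have h2 : JP F l = 0 ↔ ∀ a ∈ l.parts, a ≤ 1 := by
    rw [← JP_pow_zero_iff (F := F), pow_one]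
  rw [Ne, h1, h2]
  push Not
  constructor
  · rintro ⟨a, ha, h3⟩
    exact ⟨a, ha, by omega⟩
  · rintro ⟨a, ha, h3⟩
    have := l.parts_pos ha
    exact ⟨a, ha, by omega⟩

theorem gP_pow_eq_one_iff (l : Nat.Partition n) : (gP F l) ^ p = 1 ↔ ∀ a ∈ l.parts, a ≤ p := by
  rw [← JP_pow_zero_iff (F := F)]
  rcases Nat.eq_zero_or_pos n with rfl | hn
  · constructor
    · intro _
      exact Subsingleton.elim _ _
    · intro _
      apply Units.ext
      exact Subsingleton.elim _ _
  · haveI : Nonempty (Fin n) := ⟨⟨0, hn⟩⟩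
    haveI : CharP (Matrix (Fin n) (Fin n) F) p := Matrix.charP p
    have e : (((gP F l) ^ p : Matrix.GeneralLinearGroup (Fin n) F) : Matrix (Fin n) (Fin n) F) = 1 + (JP F l) ^ p := by
      rw [Units.val_pow_eq_pow_val, gP_coe, add_pow_char_of_commute p (Commute.one_left _), one_pow]
    constructor
    · intro h
      rw [h] at e
      exact add_eq_left.mp e.symm
    · intro h
      apply Units.ext
      rw [e, h, add_zero]
      rfl

theorem order_gP_iff (l : Nat.Partition n) :
    orderOf (gP F l) = p ↔ (∀ a ∈ l.parts, a ≤ p) ∧ ∃ a ∈ l.parts, a ≠ 1 := by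
  rw [← gP_pow_eq_one_iff (F := F) p, ← gP_ne_one_iff (F := F), orderOf_eq_prime_iff]

end tm

section count

variable {n : ℕ}

/-- The partition into ones. -/
def ones (n : ℕ) : Nat.Partition n where
  parts := Multiset.replicate n 1
  parts_pos := by
    intro i hi
    rw [Multiset.mem_replicate] at hi
    omega
  parts_sum := by simp

theorem eq_ones (l : Nat.Partition n) (h : ∀ a ∈ l.parts, a = 1) : l = ones n := by
  apply Nat.Partition.ext
  have h1 := Multiset.eq_replicate_card.mpr h
  have h2 : Multiset.card l.parts = n := by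
    have h3 := l.parts_sum
    rw [h1] at h3
    simpa using h3
  rw [h1, h2]
  rfl

theorem card_partitions (p : ℕ) (hp : 1 ≤ p) :
    Nat.card {l : Nat.Partition n // (∀ a ∈ l.parts, a ≤ p) ∧ ∃ a ∈ l.parts, a ≠ 1} =
      (Finset.univ.filter (fun μ : Nat.Partition n => ∀ a ∈ μ.parts, a ≤ p)).card - 1 := by
  classical
  have hm : ones n ∈ Finset.univ.filter (fun μ : Nat.Partition n => ∀ a ∈ μ.parts, a ≤ p) := by
    simp only [Finset.mem_filter, Finset.mem_univ, true_and]
    intro a ha
    have : a = 1 := Multiset.eq_of_mem_replicate ha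
    omega
  rw [← Finset.card_erase_of_mem hm, Nat.card_eq_fintype_card, Fintype.card_subtype]
  congr 1
  ext l
  simp only [Finset.mem_filter, Finset.mem_univ, true_and, Finset.mem_erase]
  constructor
  · rintro ⟨h1, a, ha, h2⟩
    refine ⟨?_, h1⟩
    rintro rfl
    exact h2 (Multiset.eq_of_mem_replicate ha)
  · rintro ⟨h1, h2⟩
    refine ⟨h2, ?_⟩
    by_contra hcon
    push Not at hcon
    exact h1 (eq_ones l hcon)

end count

section main

universe u

variable {F : Type u} [Field F] [Fintype F] (p : ℕ) [Fact p.Prime] [CharP F p]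

theorem main (n : ℕ) :
    Nat.card {C : ConjClasses (GL (Fin n) F) // ∃ g : GL (Fin n) F, ConjClasses.mk g = C ∧ orderOf g = p} =
      (Finset.univ.filter (fun μ : Nat.Partition n => ∀ a ∈ μ.parts, a ≤ p)).card - 1 := by
  have hp : p.Prime := Fact.out
  rw [← card_partitions p hp.one_lt.le]
  symm
  refine Nat.card_eq_of_bijective (fun l => ⟨ConjClasses.mk (gP F l.1), gP F l.1, rfl, (order_gP_iff p l.1).2 l.2⟩) ⟨?_, ?_⟩
  · intro l l' h
    have h1 : ConjClasses.mk (gP F l.1) = ConjClasses.mk (gP F l'.1) := congrArg Subtype.val h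
    rw [ConjClasses.mk_eq_mk_iff_isConj, isConj_iff_sim, Tg_gP, Tg_gP] at h1
    exact Subtype.ext (Tm_eP_inj ((Sim_NP l.1).trans (h1.trans (Sim_NP l'.1).symm)))
  · rintro ⟨C, g, rfl, hg⟩
    obtain ⟨l, hl⟩ := exists_partition p g ⟨1, by rw [hg, pow_one]⟩
    have h3 : orderOf (gP F l) = p := by
      rw [← Cfsg.Agent.Lib.Inv2Count.orderOf_of_isConj hl, hg]
    refine ⟨⟨l, (order_gP_iff p l).1 h3⟩, Subtype.ext ?_⟩
    exact (ConjClasses.mk_eq_mk_iff_isConj.mpr hl).symm

end main

end Cfsg.Agent.Lib.GLOrderP
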