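import Mathlib

/-!
# The monomial Sylow subgroup of `GL_p(F)` for `p ∥ q - 1`: the matrices
-/

set_option autoImplicit false

namespace Cfsg.Agent.Lib.GLpA

open Matrix

variable {F : Type*} [Field F] {p : ℕ} [hp : Fact p.Prime]

/-- The monomial matrix with row `j` supported in column `j + s`. -/
def mm (d : Fin p → F) (s : Fin p) : Matrix (Fin p) (Fin p) F :=
  fun j k => if k = j + s then d j else 0

lemma mm_apply (d : Fin p → F) (s j k : Fin p) : mm d s j k = if k = j + s then d j else 0 := rfl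

lemma mm_self (d : Fin p → F) (s j : Fin p) : mm d s j (j + s) = d j := by
  simp [mm_apply]

lemma mm_mul (d d' : Fin p → F) (s s' : Fin p) :
    mm d s * mm d' s' = mm (fun j => d j * d' (j + s)) (s + s') := by
  ext j k
  rw [Matrix.mul_apply, Finset.sum_eq_single (j + s)]
  · simp only [mm_apply, add_assoc]
    split_ifs <;> simp
  · intro b _ hb
    simp [mm_apply, hb]
  · simp

lemma mm_one : mm (fun _ => (1 : F)) (0 : Fin p) = 1 := by
  ext j k
  simp only [mm_apply, add_zero, Matrix.one_apply]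
  by_cases h : j = k
  · simp [h]
  · simp [h, Ne.symm h]

lemma ne_zero_of_pow {c : F} (hc : c ^ p = 1) : c ≠ 0 := by
  rintro rfl
  rw [zero_pow (Fact.out : p.Prime).ne_zero] at hc
  exact zero_ne_one hc

/-- The monomial matrix as an invertible matrix. -/
def mk (d : Fin p → F) (hd : ∀ j, d j ^ p = 1) (s : Fin p) : Matrix.GeneralLinearGroup (Fin p) F where
  val := mm d s
  inv := mm (fun j => (d (j - s))⁻¹) (-s)
  val_inv := by
    rw [mm_mul, add_neg_cancel, ← mm_one (F := F) (p := p)]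
    congr 1
    ext j
    rw [add_sub_cancel_right, mul_inv_cancel₀ (ne_zero_of_pow (hd j))]
  inv_val := by
    rw [mm_mul, neg_add_cancel, ← mm_one (F := F) (p := p)]
    congr 1
    ext j
    rw [← sub_eq_add_neg, inv_mul_cancel₀ (ne_zero_of_pow (hd _))]

@[simp] lemma coe_mk (d : Fin p → F) (hd : ∀ j, d j ^ p = 1) (s : Fin p) :
    ((mk d hd s : Matrix.GeneralLinearGroup (Fin p) F) : Matrix (Fin p) (Fin p) F) = mm d s := rfl

/-- `A` is monomial with shift `s`, and entries in the `p`-th roots of unity. -/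
def HasShift (A : Matrix.GeneralLinearGroup (Fin p) F) (s : Fin p) : Prop :=
  ∃ d : Fin p → F, (∀ j, d j ^ p = 1) ∧ (A : Matrix (Fin p) (Fin p) F) = mm d s

lemma hasShift_mk (d : Fin p → F) (hd : ∀ j, d j ^ p = 1) (s : Fin p) : HasShift (mk d hd s) s :=
  ⟨d, hd, rfl⟩

lemma HasShift.eq_mk {A : Matrix.GeneralLinearGroup (Fin p) F} {s : Fin p} (h : HasShift A s) :
    ∃ (d : Fin p → F) (hd : ∀ j, d j ^ p = 1), A = mk d hd s := by
  obtain ⟨d, hd, h⟩ := h
  exact ⟨d, hd, Units.ext h⟩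

lemma hasShift_one : HasShift (1 : Matrix.GeneralLinearGroup (Fin p) F) 0 :=
  ⟨fun _ => 1, fun _ => one_pow _, by rw [mm_one]; rfl⟩

lemma HasShift.mul {A B : Matrix.GeneralLinearGroup (Fin p) F} {s t : Fin p} (hA : HasShift A s)
    (hB : HasShift B t) : HasShift (A * B) (s + t) := by
  obtain ⟨d, hd, h⟩ := hA
  obtain ⟨e, he, h'⟩ := hB
  refine ⟨_, fun j => ?_, by
    rw [Units.val_mul, h, h', mm_mul]⟩
  rw [mul_pow, hd, he, one_mul]

lemma HasShift.inv {A : Matrix.GeneralLinearGroup (Fin p) F} {s : Fin p} (hA : HasShift A s) :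
    HasShift A⁻¹ (-s) := by
  obtain ⟨d, hd, rfl⟩ := hA.eq_mk
  refine ⟨fun j => (d (j - s))⁻¹, fun j => ?_, rfl⟩
  rw [inv_pow, hd, inv_one]

/-- The monomial subgroup. -/
def R (p : ℕ) [Fact p.Prime] (F : Type*) [Field F] : Subgroup (Matrix.GeneralLinearGroup (Fin p) F) where
  carrier := {A | ∃ s, HasShift A s}
  one_mem' := ⟨0, hasShift_one⟩
  mul_mem' := by
    rintro A B ⟨s, hs⟩ ⟨t, ht⟩
    exact ⟨_, hs.mul ht⟩
  inv_mem' := by
    rintro A ⟨s, hs⟩
    exact ⟨_, hs.inv⟩

lemma mem_R {A : Matrix.GeneralLinearGroup (Fin p) F} : A ∈ R p F ↔ ∃ s, HasShift A s := Iff.rfl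

lemma mm_inj {d d' : Fin p → F} {s s' : Fin p} (hd : ∀ j, d j ≠ 0) (h : mm d s = mm d' s') :
    d = d' ∧ s = s' := by
  have h1 : ∀ j, d j = if j + s = j + s' then d' j else 0 := by
    intro j
    have := congrFun (congrFun h j) (j + s)
    rwa [mm_self, mm_apply] at this
  have hs : s = s' := by
    have h2 := h1 0
    by_contra hne
    have : ¬ (0 + s = 0 + s') := by simpa using hne
    rw [if_neg this] at h2
    exact hd 0 h2
  subst hs
  refine ⟨?_, rfl⟩
  ext j
  simpa using h1 j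

/-- The order of the monomial subgroup, given the number of roots of unity. -/
lemma card_R [Finite F] (hμ : Nat.card {c : F // c ^ p = 1} = p) : Nat.card (R p F) = p ^ (p + 1) := by
  let Φ : ((Fin p → {c : F // c ^ p = 1}) × Fin p) → R p F := fun x =>
    ⟨mk (fun j => (x.1 j).1) (fun j => (x.1 j).2) x.2, x.2, hasShift_mk _ _ _⟩
  have hΦ : Function.Bijective Φ := by
    constructor
    · rintro ⟨d, s⟩ ⟨d', s'⟩ h
      have h1 : mm (fun j => (d j).1) s = mm (fun j => (d' j).1) s' := by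
        have := congrArg (fun A : R p F => ((A : Matrix.GeneralLinearGroup (Fin p) F) : Matrix (Fin p) (Fin p) F)) h
        exact this
      obtain ⟨h2, h3⟩ := mm_inj (fun j => ne_zero_of_pow (d j).2) h1
      subst h3
      congr 1
      ext j
      exact congrFun h2 j
    · rintro ⟨A, s, hs⟩
      obtain ⟨d, hd, rfl⟩ := hs.eq_mk
      exact ⟨(fun j => ⟨d j, hd j⟩, s), rfl⟩
  rw [← Nat.card_congr (Equiv.ofBijective Φ hΦ), Nat.card_prod, Nat.card_fun, hμ]
  simp [pow_succ]

end Cfsg.Agent.Lib.GLpA
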