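import Mathlib

set_option autoImplicit false

namespace Cfsg.Agent.Lib.GLpB

variable {F : Type*} [Field F] [Fintype F] {p : ℕ} [hp : Fact p.Prime]

lemma val_pow_sub_one (hp2 : p ≠ 2) (h1 : p ∣ Fintype.card F - 1) (h2 : ¬ p ^ 2 ∣ Fintype.card F - 1)
    {n : ℕ} (hn : n ≠ 0) :
    padicValNat p (Fintype.card F ^ n - 1) = 1 + padicValNat p n := by
  have hq : 1 < Fintype.card F := Fintype.one_lt_card
  have hodd : Odd p := (Fact.out : p.Prime).odd_of_ne_two hp2
  have hpq : ¬ p ∣ Fintype.card F := by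
    intro h
    have h3 : p ∣ 1 := by
      have := Nat.sub_sub_self (n := Fintype.card F) (m := 1) hq.le
      rw [← this]
      exact Nat.dvd_sub h h1
    exact (Fact.out : p.Prime).one_lt.ne' (Nat.dvd_one.1 h3)
  have h3 := padicValNat.pow_sub_pow hodd (x := Fintype.card F) (y := 1) hq (by simpa using h1) hpq hn
  rw [one_pow] at h3
  rw [h3]
  congr 1
  have hne : Fintype.card F - 1 ≠ 0 := by omega
  have h4 : 1 ≤ padicValNat p (Fintype.card F - 1) := (padicValNat_dvd_iff_le hne).1 (by simpa using h1)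
  have h5 : ¬ 2 ≤ padicValNat p (Fintype.card F - 1) := fun h => h2 ((padicValNat_dvd_iff_le hne).2 h)
  omega

lemma factorization_card_GL (hp2 : p ≠ 2) (h1 : p ∣ Fintype.card F - 1) (h2 : ¬ p ^ 2 ∣ Fintype.card F - 1) :
    (Nat.card (Matrix.GeneralLinearGroup (Fin p) F)).factorization p = p + 1 := by
  have hq : 1 < Fintype.card F := Fintype.one_lt_card
  have hpp : p.Prime := Fact.out
  have hpq : ¬ p ∣ Fintype.card F := by
    intro h
    have h3 : p ∣ 1 := by
      have := Nat.sub_sub_self (n := Fintype.card F) (m := 1) hq.le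
      rw [← this]
      exact Nat.dvd_sub h h1
    exact hpp.one_lt.ne' (Nat.dvd_one.1 h3)
  rw [Matrix.card_GL_field]
  have hne : ∀ i : Fin p, Fintype.card F ^ p - Fintype.card F ^ (i : ℕ) ≠ 0 := by
    intro i
    have : Fintype.card F ^ (i : ℕ) < Fintype.card F ^ p := Nat.pow_lt_pow_right hq i.2
    omega
  rw [Nat.factorization_prod_apply (fun i _ => hne i)]
  have hterm : ∀ i : Fin p, (Fintype.card F ^ p - Fintype.card F ^ (i : ℕ)).factorization p =
      1 + if i = ⟨0, hpp.pos⟩ then 1 else 0 := by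
    intro i
    have hfac : Fintype.card F ^ p - Fintype.card F ^ (i : ℕ) =
        Fintype.card F ^ (i : ℕ) * (Fintype.card F ^ (p - i) - 1) := by
      rw [Nat.mul_sub, mul_one, ← pow_add]
      congr 2
      have := i.2
      omega
    have hsub : p - (i : ℕ) ≠ 0 := by
      have := i.2
      omega
    have hne2 : Fintype.card F ^ (p - (i : ℕ)) - 1 ≠ 0 := by
      have : 1 < Fintype.card F ^ (p - (i : ℕ)) := Nat.one_lt_pow hsub hq
      omega
    rw [hfac, Nat.factorization_mul (by positivity) hne2]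
    simp only [Finsupp.coe_add, Pi.add_apply]
    rw [Nat.factorization_pow]
    simp only [Finsupp.coe_smul, Pi.smul_apply, smul_eq_mul]
    rw [Nat.factorization_eq_zero_of_not_dvd hpq, mul_zero, zero_add, Nat.factorization_def _ hpp,
      val_pow_sub_one hp2 h1 h2 hsub]
    congr 1
    by_cases h0 : i = ⟨0, hpp.pos⟩
    · subst h0
      simp
    · rw [if_neg h0]
      have hi : (i : ℕ) ≠ 0 := fun h => h0 (Fin.ext h)
      apply padicValNat.eq_zero_of_not_dvd
      intro hd
      have := Nat.le_of_dvd (by omega) hd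
      omega
  rw [Finset.sum_congr rfl (fun i _ => hterm i), Finset.sum_add_distrib, Finset.sum_ite_eq']
  simp

end Cfsg.Agent.Lib.GLpB
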