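import Mathlib
import Cfsg.Agent.Lib.GLpA

set_option autoImplicit false

namespace Cfsg.Agent.Lib.GLpC

open Matrix Cfsg.Agent.Lib.GLpA

variable {F : Type*} [Field F] {p : ℕ} [hp : Fact p.Prime]

lemma one_lt_p : 1 < p := (Fact.out : p.Prime).one_lt

lemma val_one' : ((1 : Fin p) : ℕ) = 1 := by
  rw [Fin.val_one']
  exact Nat.mod_eq_of_lt one_lt_p

lemma val_add_one' (j : Fin p) : ((j + 1 : Fin p) : ℕ) = if (j : ℕ) + 1 = p then 0 else (j : ℕ) + 1 := by
  rw [Fin.val_add, val_one']
  have := j.2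
  split_ifs with h
  · rw [h, Nat.mod_self]
  · exact Nat.mod_eq_of_lt (by omega)

lemma val_nsmul_one (n : ℕ) : ((n • (1 : Fin p) : Fin p) : ℕ) = n % p := by
  induction n with
  | zero => simp
  | succ n ih =>
    rw [succ_nsmul, Fin.val_add, val_one', ih]
    simp

lemma nsmul_val_one (k : Fin p) : (k : ℕ) • (1 : Fin p) = k := by
  apply Fin.ext
  rw [val_nsmul_one]
  exact Nat.mod_eq_of_lt k.2

/-- Powers of a shift-one monomial matrix. -/
lemma mm_pow (d : Fin p → F) (n : ℕ) :
    (mm d 1) ^ n = mm (fun j => ∏ i ∈ Finset.range n, d (j + i • (1 : Fin p))) (n • 1) := by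
  induction n with
  | zero =>
    simp only [pow_zero, Finset.range_zero, Finset.prod_empty, zero_nsmul]
    exact mm_one.symm
  | succ n ih =>
    rw [pow_succ, ih, mm_mul, succ_nsmul]
    congr 1
    ext j
    rw [Finset.prod_range_succ]

lemma mm_pow_p (d : Fin p → F) : (mm d 1) ^ p = mm (fun _ => ∏ j, d j) 0 := by
  rw [mm_pow]
  have h0 : p • (1 : Fin p) = 0 := by
    apply Fin.ext
    rw [val_nsmul_one, Nat.mod_self]
    rfl
  rw [h0]
  congr 1
  ext j
  rw [← Fin.prod_univ_eq_prod_range (fun i => d (j + i • (1 : Fin p))) p]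
  simp only [nsmul_val_one]
  exact Equiv.prod_comp (Equiv.addLeft j) d

/-- Coboundaries: every family of product one is a difference along the cycle. -/
lemma exists_coboundary (z : Fin p → F) (hz : ∀ j, z j ^ p = 1) (hprod : ∏ j, z j = 1) :
    ∃ t : Fin p → F, (∀ j, t j ^ p = 1) ∧ ∀ j, t (j + 1) = t j * z j := by
  classical
  refine ⟨fun j => ∏ i ∈ Finset.univ.filter (fun i : Fin p => (i : ℕ) < j), z i, ?_, ?_⟩
  · intro j
    simp only [← Finset.prod_pow, hz, Finset.prod_const_one]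
  · intro j
    by_cases h : (j : ℕ) + 1 = p
    · have h1 : Finset.univ.filter (fun i : Fin p => (i : ℕ) < (j + 1 : Fin p)) = ∅ := by
        ext i
        simp [val_add_one', h]
      have h2 : Finset.univ.filter (fun i : Fin p => (i : ℕ) < j) = Finset.univ.erase j := by
        ext i
        simp only [Finset.mem_filter, Finset.mem_univ, true_and, Finset.mem_erase, and_true]
        have := i.2
        constructor
        · intro hi hij
          subst hij
          omega
        · intro hi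
          have : (i : ℕ) ≠ j := fun h' => hi (Fin.ext h')
          omega
      simp only [h1, h2, Finset.prod_empty]
      rw [Finset.prod_erase_mul _ _ (Finset.mem_univ j), hprod]
    · have h1 : Finset.univ.filter (fun i : Fin p => (i : ℕ) < (j + 1 : Fin p)) =
          insert j (Finset.univ.filter (fun i : Fin p => (i : ℕ) < j)) := by
        ext i
        simp only [val_add_one', h, if_false, Finset.mem_filter, Finset.mem_univ, true_and,
          Finset.mem_insert]
        constructor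
        · intro hi
          by_cases hij : (i : ℕ) = j
          · exact Or.inl (Fin.ext hij)
          · right; omega
        · rintro (rfl | hi) <;> omega
      simp only [h1]
      rw [Finset.prod_insert (by simp), mul_comm]

local notation "GLp" => Matrix.GeneralLinearGroup (Fin p) F

/-- The cycle matrix. -/
def sg (p : ℕ) [Fact p.Prime] (F : Type*) [Field F] : Matrix.GeneralLinearGroup (Fin p) F :=
  mk (fun _ => 1) (fun _ => one_pow _) 1

lemma mm_mul_apply (f : Fin p → F) (s : Fin p) (M : Matrix (Fin p) (Fin p) F) (u k : Fin p) :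
    (mm f s * M) u k = f u * M (u + s) k := by
  rw [Matrix.mul_apply, Finset.sum_eq_single (u + s)]
  · rw [mm_self]
  · intro b _ hb
    simp [mm_apply, hb]
  · simp

lemma mul_mm0_apply (z : Fin p → F) (M : Matrix (Fin p) (Fin p) F) (u k : Fin p) :
    (M * mm z 0) u k = M u k * z k := by
  rw [Matrix.mul_apply, Finset.sum_eq_single k]
  · simp [mm_apply]
  · intro b _ hb
    simp [mm_apply, hb.symm]
  · simp

/-- Commutators of the monomial group are diagonal. -/
theorem shift_zero {g : GLp} (hg : ∀ A ∈ R p F, g * A * g⁻¹ ∈ R p F) (z : Fin p → F)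
    (hz : ∀ j, z j ^ p = 1) (hprod : ∏ j, z j = 1) : HasShift (g * mk z hz 0 * g⁻¹) 0 := by
  obtain ⟨t, ht, hts⟩ := exists_coboundary z hz hprod
  set T : GLp := mk t ht 0 with hT
  have ht' : ∀ j, t (j + 1) ^ p = 1 := fun j => ht _
  set T' : GLp := mk (fun j => t (j + 1)) ht' 0 with hT'
  have h1 : sg p F * T = T' * sg p F := by
    apply Units.ext
    change mm _ _ * mm _ _ = mm _ _ * mm _ _
    rw [mm_mul, mm_mul]
    simp
  have h2 : T' = mk z hz 0 * T := by
    apply Units.ext
    change mm _ _ = mm _ _ * mm _ _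
    rw [mm_mul]
    congr 1
    · ext j
      rw [hts, add_zero, mul_comm]
  have h3 : mk z hz 0 = sg p F * T * (sg p F)⁻¹ * T⁻¹ := by
    rw [h1, h2]
    group
  obtain ⟨α, hα⟩ := hg (sg p F) ⟨1, hasShift_mk _ _ _⟩
  obtain ⟨β, hβ⟩ := hg T ⟨0, hasShift_mk _ _ _⟩
  have h4 : g * mk z hz 0 * g⁻¹ = (g * sg p F * g⁻¹) * (g * T * g⁻¹) * (g * sg p F * g⁻¹)⁻¹ * (g * T * g⁻¹)⁻¹ := by
    rw [h3]
    group
  rw [h4]
  have := ((hα.mul hβ).mul hα.inv).mul hβ.inv
  have h5 : α + β + -α + -β = 0 := by abel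
  rwa [h5] at this

/-- The diagonal with `ω` at `k` and its inverse at `l`. -/
def zz (ω : F) (k l : Fin p) : Fin p → F := fun j => (if j = k then ω else 1) * (if j = l then ω⁻¹ else 1)

lemma zz_pow {ω : F} (hω : ω ^ p = 1) (k l j : Fin p) : zz ω k l j ^ p = 1 := by
  simp only [zz, mul_pow]
  split_ifs <;> simp [hω]

lemma zz_prod {ω : F} (hω0 : ω ≠ 0) (k l : Fin p) : ∏ j, zz ω k l j = 1 := by
  simp only [zz, Finset.prod_mul_distrib, Finset.prod_ite_eq', Finset.mem_univ, if_true]
  exact mul_inv_cancel₀ hω0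

lemma zz_left {ω : F} {k l : Fin p} (h : k ≠ l) : zz ω k l k = ω := by
  simp [zz, h]

lemma zz_right {ω : F} {k l : Fin p} (h : k ≠ l) : zz ω k l l = ω⁻¹ := by
  simp [zz, h.symm]

lemma omega_ne_inv (hp2 : p ≠ 2) {ω : F} (hω : ω ^ p = 1) (hω1 : ω ≠ 1) : ω ≠ ω⁻¹ := by
  intro h
  have h0 : ω ≠ 0 := ne_zero_of_pow hω
  have h2 : ω ^ 2 = 1 := by
    rw [sq]
    nth_rewrite 2 [h]
    exact mul_inv_cancel₀ h0
  have h3 : orderOf ω ∣ 2 := orderOf_dvd_of_pow_eq_one h2
  have h4 : orderOf ω ∣ p := orderOf_dvd_of_pow_eq_one hω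
  have h5 : orderOf ω = 1 := by
    have := Nat.dvd_gcd h3 h4
    rw [(Nat.coprime_primes Nat.prime_two Fact.out).2 (Ne.symm hp2)] at this
    exact Nat.dvd_one.1 this
  exact hω1 (orderOf_eq_one_iff.1 h5)

/-- An element normalizing the monomial group has at most one entry in each row. -/
theorem no_two_in_row (hp2 : p ≠ 2) {ω : F} (hω : ω ^ p = 1) (hω1 : ω ≠ 1) {g : GLp}
    (hg : ∀ A ∈ R p F, g * A * g⁻¹ ∈ R p F) {u k l : Fin p} (hkl : k ≠ l)
    (h1 : (g : Matrix (Fin p) (Fin p) F) u k ≠ 0) (h2 : (g : Matrix (Fin p) (Fin p) F) u l ≠ 0) : False := by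
  have h0 : ω ≠ 0 := ne_zero_of_pow hω
  obtain ⟨f, -, hf⟩ := shift_zero hg (zz ω k l) (zz_pow hω k l) (zz_prod h0 k l)
  have h3 : (mm f 0) * (g : Matrix (Fin p) (Fin p) F) = (g : Matrix (Fin p) (Fin p) F) * mm (zz ω k l) 0 := by
    rw [← hf]
    have : g * mk (zz ω k l) (zz_pow hω k l) 0 * g⁻¹ * g = g * mk (zz ω k l) (zz_pow hω k l) 0 := by group
    exact congrArg Units.val this
  have e1 := congrFun (congrFun h3 u) k
  have e2 := congrFun (congrFun h3 u) l
  rw [mm_mul_apply, mul_mm0_apply, add_zero, zz_left hkl, mul_comm] at e1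
  rw [mm_mul_apply, mul_mm0_apply, add_zero, zz_right hkl, mul_comm] at e2
  have e3 := mul_left_cancel₀ h1 e1
  have e4 := mul_left_cancel₀ h2 e2
  exact omega_ne_inv hp2 hω hω1 (e3.symm.trans e4)

/-- Elements of the normalizer of the monomial group. -/
def Norm (g : GLp) : Prop := (∀ A ∈ R p F, g * A * g⁻¹ ∈ R p F) ∧ (∀ A ∈ R p F, g⁻¹ * A * g ∈ R p F)

lemma Norm.inv {g : GLp} (h : Norm g) : Norm g⁻¹ := by
  refine ⟨h.2, ?_⟩
  simpa using h.1

lemma mm_const (c : F) : mm (fun _ => c) (0 : Fin p) = c • (1 : Matrix (Fin p) (Fin p) F) := by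
  ext j k
  simp only [mm_apply, add_zero, Matrix.smul_apply, Matrix.one_apply, smul_eq_mul]
  by_cases h : j = k
  · simp [h]
  · simp [h, Ne.symm h]

lemma zero_ne_one' : (0 : Fin p) ≠ 1 := by
  intro h
  have := congrArg Fin.val h
  rw [val_one'] at this
  simp at this

/-- A diagonal element is not conjugate under the normalizer to a shift-one element. -/
theorem no_conj (hp2 : p ≠ 2) {ω : F} (hω : ω ^ p = 1) (hω1 : ω ≠ 1) {g : GLp} (hg : Norm g)
    {d z : Fin p → F} {hd : ∀ j, d j ^ p = 1} {hz : ∀ j, z j ^ p = 1}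
    (h : g * mk z hz 0 * g⁻¹ = mk d hd 1) : False := by
  have h0 : ω ≠ 0 := ne_zero_of_pow hω
  obtain ⟨f, -, hf⟩ := shift_zero hg.1 (zz ω 0 1) (zz_pow hω 0 1) (zz_prod h0 0 1)
  set A : GLp := mk (zz ω 0 1) (zz_pow hω 0 1) 0 with hA
  have hcomm : A * mk z hz 0 = mk z hz 0 * A := by
    apply Units.ext
    change mm _ _ * mm _ _ = mm _ _ * mm _ _
    rw [mm_mul, mm_mul]
    congr 1
    ext j
    simp [mul_comm]
  have hcomm2 : (g * A * g⁻¹) * mk d hd 1 = mk d hd 1 * (g * A * g⁻¹) := by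
    rw [← h]
    calc g * A * g⁻¹ * (g * mk z hz 0 * g⁻¹) = g * (A * mk z hz 0) * g⁻¹ := by group
      _ = g * (mk z hz 0 * A) * g⁻¹ := by rw [hcomm]
      _ = _ := by group
  have h3 : mm f 0 * mm d 1 = mm d 1 * mm f 0 := by
    have := congrArg Units.val hcomm2
    rw [Units.val_mul (g * A * g⁻¹) (mk d hd 1), Units.val_mul (mk d hd 1) (g * A * g⁻¹), hf] at this
    exact this
  rw [mm_mul, mm_mul, zero_add, add_zero] at h3
  have hstep : ∀ j, f (j + 1) = f j := by
    intro j
    have e := congrFun (congrFun h3 j) (j + 1)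
    rw [mm_self, mm_self, add_zero] at e
    exact (mul_left_cancel₀ (ne_zero_of_pow (hd j)) (by rw [← e, mul_comm])).symm
  have hconst : ∀ j, f j = f 0 := by
    have h5 : ∀ n : ℕ, f (n • 1) = f 0 := by
      intro n
      induction n with
      | zero => simp
      | succ n ih => rw [succ_nsmul, hstep, ih]
    intro j
    rw [← nsmul_val_one j]
    exact h5 _
  have hf2 : ((g * A * g⁻¹ : GLp) : Matrix (Fin p) (Fin p) F) = f 0 • 1 := by
    rw [hf, ← mm_const]
    congr 1
    ext j
    exact hconst j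
  have hA2 : (A : Matrix (Fin p) (Fin p) F) = f 0 • 1 := by
    have e : A = g⁻¹ * (g * A * g⁻¹) * g := by group
    have e2 := congrArg Units.val e
    rw [Units.val_mul, Units.val_mul, hf2, Matrix.mul_smul, Matrix.smul_mul, Matrix.mul_one, ← Units.val_mul] at e2
    simpa using e2
  have hA3 : mm (zz ω 0 1) 0 = f 0 • (1 : Matrix (Fin p) (Fin p) F) := hA2
  have e1 := congrFun (congrFun hA3 0) 0
  have e2 := congrFun (congrFun hA3 1) 1
  simp only [mm_apply, add_zero, if_true, Matrix.smul_apply, Matrix.one_apply, smul_eq_mul, mul_one] at e1 e2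
  rw [zz_left zero_ne_one'] at e1
  rw [zz_right zero_ne_one'] at e2
  exact omega_ne_inv hp2 hω hω1 (e1.trans e2.symm)

/-- The Vandermonde matrix diagonalizes the cycle. -/
theorem exists_V (l : Fin p → F) (hinj : Function.Injective l) (hl : ∀ k, l k ^ p = 1) :
    ∃ V : GLp, sg p F * V = V * mk l hl 0 := by
  have hdet : ((Matrix.vandermonde l)ᵀ).det ≠ 0 := by
    rw [Matrix.det_transpose]
    exact Matrix.det_vandermonde_ne_zero_iff.2 hinj
  refine ⟨Matrix.GeneralLinearGroup.mkOfDetNeZero _ hdet, ?_⟩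
  apply Units.ext
  change mm _ _ * (Matrix.vandermonde l)ᵀ = (Matrix.vandermonde l)ᵀ * mm _ _
  ext j k
  rw [mm_mul_apply, mul_mm0_apply]
  simp only [Matrix.transpose_apply, Matrix.vandermonde_apply, val_add_one', one_mul]
  split_ifs with h
  · rw [← pow_succ, h, hl, pow_zero]
  · rw [pow_succ]

/-- Diagonal elements lie in a second conjugate of the monomial group. -/
theorem core_zero (hp2 : p ≠ 2) {ω : F} (hω : ω ^ p = 1) (hω1 : ω ≠ 1) (d : Fin p → F)
    (hd : ∀ j, d j ^ p = 1) : ∃ g : GLp, g⁻¹ * mk d hd 0 * g ∈ R p F ∧ ¬ Norm g := by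
  classical
  by_cases hinj : Function.Injective d
  · obtain ⟨V, hV⟩ := exists_V d hinj hd
    have e : V * mk d hd 0 * V⁻¹ = sg p F := by
      rw [← hV]; group
    refine ⟨V⁻¹, ?_, fun hN => ?_⟩
    · rw [inv_inv, e]
      exact ⟨1, hasShift_mk _ _ _⟩
    · have hN' : Norm V := by simpa using hN.inv
      exact no_conj hp2 hω hω1 hN' (d := fun _ => 1) (hd := fun _ => one_pow _) (z := d) (hz := hd) e
  · obtain ⟨j, k, hjk, hne⟩ : ∃ j k, d j = d k ∧ j ≠ k := by
      simpa [Function.Injective] using hinj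
    let E : Matrix (Fin p) (Fin p) F := Matrix.single j k 1
    have hEE : E * E = 0 := by
      simp [E, Matrix.single_mul_single_of_ne, hne.symm]
    let h : GLp := ⟨1 + E, 1 - E, by
      rw [mul_sub, add_mul, add_mul]
      simp [hEE], by
      rw [sub_mul, mul_add, mul_add]
      simp [hEE]⟩
    have hcomm : h * mk d hd 0 = mk d hd 0 * h := by
      apply Units.ext
      change (1 + E) * mm d 0 = mm d 0 * (1 + E)
      rw [add_mul, mul_add, one_mul, mul_one]
      congr 1
      ext u v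
      rw [mm_mul_apply, mul_mm0_apply, add_zero]
      simp only [E, Matrix.single_apply]
      split_ifs with h1
      · obtain ⟨rfl, rfl⟩ := h1
        simp [hjk]
      · simp
    refine ⟨h, ?_, fun hN => ?_⟩
    · have : h⁻¹ * mk d hd 0 * h = mk d hd 0 := by
        rw [mul_assoc, ← hcomm]
        group
      rw [this]
      exact ⟨0, hasShift_mk _ _ _⟩
    · refine no_two_in_row hp2 hω hω1 hN.1 (u := j) (k := j) (l := k) hne ?_ ?_
      · change (1 + E) j j ≠ 0
        simp [E, Matrix.single_apply, hne, hne.symm]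
      · change (1 + E) j k ≠ 0
        simp [E, Matrix.single_apply, Matrix.one_apply, hne]

/-- Shift-one elements lie in a second conjugate of the monomial group. -/
theorem core_one [Fintype F] (hp2 : p ≠ 2) {ω : F} (hω : ω ^ p = 1) (hω1 : ω ≠ 1) (d : Fin p → F)
    (hd : ∀ j, d j ^ p = 1) : ∃ g : GLp, g⁻¹ * mk d hd 1 * g ∈ R p F ∧ ¬ Norm g := by
  by_cases ha : ∏ j, d j = 1
  · obtain ⟨t, ht, hts⟩ := exists_coboundary d hd ha
    set T : GLp := mk t ht 0 with hT
    have h1 : T * mk d hd 1 = sg p F * T := by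
      apply Units.ext
      change mm _ _ * mm _ _ = mm _ _ * mm _ _
      rw [mm_mul, mm_mul]
      congr 1
      · ext j
        rw [add_zero, hts, one_mul]
      · simp
    have hlp : ∀ k : Fin p, (ω ^ (k : ℕ)) ^ p = 1 := fun k => by
      rw [← pow_mul, mul_comm, pow_mul, hω, one_pow]
    have hord : orderOf ω = p := orderOf_eq_prime hω hω1
    have hinj : Function.Injective (fun k : Fin p => ω ^ (k : ℕ)) := by
      intro k k' h
      apply Fin.ext
      have := pow_injOn_Iio_orderOf (x := ω) (by rw [Set.mem_Iio, hord]; exact k.2)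
        (by rw [Set.mem_Iio, hord]; exact k'.2) h
      exact this
    obtain ⟨V, hV⟩ := exists_V _ hinj hlp
    have e : T⁻¹ * V * mk _ hlp 0 * (T⁻¹ * V)⁻¹ = mk d hd 1 := by
      calc T⁻¹ * V * mk _ hlp 0 * (T⁻¹ * V)⁻¹ = T⁻¹ * (V * mk _ hlp 0) * V⁻¹ * T := by group
        _ = T⁻¹ * (T * mk d hd 1 * T⁻¹ * V) * V⁻¹ * T := by
          rw [← hV, h1]
          group
        _ = mk d hd 1 := by group
    refine ⟨T⁻¹ * V, ?_, fun hN => no_conj hp2 hω hω1 hN e⟩
    rw [← e]
    have : (T⁻¹ * V)⁻¹ * (T⁻¹ * V * mk _ hlp 0 * (T⁻¹ * V)⁻¹) * (T⁻¹ * V) = mk _ hlp 0 := by group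
    rw [this]
    exact ⟨0, hasShift_mk _ _ _⟩
  · -- the case of a non-trivial product
    have hodd : Odd p := (Fact.out : p.Prime).odd_of_ne_two hp2
    set a := ∏ j, d j with ha'
    have hap : a ^ p = 1 := by
      rw [ha', ← Finset.prod_pow]
      simp [hd]
    have ha1 : 1 + a ≠ 0 := by
      intro h
      have h2 : a = -1 := by linear_combination h
      rw [h2, hodd.neg_one_pow] at hap
      apply ha
      rw [h2, hap]
    let y : Matrix (Fin p) (Fin p) F := mm d 1
    have hy : y ^ p = a • 1 := by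
      rw [mm_pow_p, mm_const]
    let S : Matrix (Fin p) (Fin p) F := ∑ i ∈ Finset.range p, (-y) ^ i
    have hS : (1 + y) * S = (1 + a) • 1 := by
      have := mul_neg_geom_sum (-y) p
      rw [sub_neg_eq_add, hodd.neg_pow, hy] at this
      rw [this, sub_neg_eq_add, add_smul, one_smul]
    have hinv : (1 + y) * ((1 + a)⁻¹ • S) = 1 := by
      rw [Matrix.mul_smul, hS, smul_smul, inv_mul_cancel₀ ha1, one_smul]
    let h : GLp := ⟨1 + y, (1 + a)⁻¹ • S, hinv, mul_eq_one_comm.1 hinv⟩
    have hcomm : h * mk d hd 1 = mk d hd 1 * h := by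
      apply Units.ext
      change (1 + y) * y = y * (1 + y)
      rw [add_mul, mul_add, one_mul, mul_one]
    refine ⟨h, ?_, fun hN => ?_⟩
    · have : h⁻¹ * mk d hd 1 * h = mk d hd 1 := by
        rw [mul_assoc, ← hcomm]
        group
      rw [this]
      exact ⟨1, hasShift_mk _ _ _⟩
    · refine no_two_in_row hp2 hω hω1 hN.1 (u := 0) (k := 0) (l := 1) zero_ne_one' ?_ ?_
      · change (1 + y) 0 0 ≠ 0
        have : y 0 0 = 0 := by
          simp only [y, mm_apply]
          rw [if_neg]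
          simpa using zero_ne_one' (p := p)
        simp [this]
      · change (1 + y) 0 1 ≠ 0
        have : y 0 1 = d 0 := by
          simp [y, mm_apply]
        rw [Matrix.add_apply, this, Matrix.one_apply_ne zero_ne_one', zero_add]
        exact ne_zero_of_pow (hd 0)

end Cfsg.Agent.Lib.GLpC
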