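import Mathlib

/-!
# Redundant Sylow subgroups: abstract lemmas
-/

set_option autoImplicit false

namespace Cfsg.Agent.Lib.RedSyl

open Subgroup

variable {G H : Type*} [Group G] [Group H] {p : ℕ} [hp : Fact p.Prime]

/-- `x` lies in at most one Sylow `p`-subgroup. -/
def UniqueSyl (p : ℕ) (x : G) : Prop := ∀ P P' : Sylow p G, x ∈ P → x ∈ P' → P = P'

/-- A redundant Sylow subgroup exists. -/
def Redundant (p : ℕ) (G : Type*) [Group G] : Prop :=
  ∃ Q : Sylow p G, ∀ x : G, (∃ k : ℕ, orderOf x = p ^ k) → ∃ P : Sylow p G, P ≠ Q ∧ x ∈ P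

lemma isPGroup_zpowers_of_order [Finite G] {x : G} (hx : ∃ k : ℕ, orderOf x = p ^ k) :
    IsPGroup p (zpowers x) := by
  obtain ⟨k, hk⟩ := hx
  rw [IsPGroup.iff_card, Nat.card_zpowers, hk]
  exact ⟨k, rfl⟩

lemma exists_sylow_mem [Finite G] {x : G} (hx : ∃ k : ℕ, orderOf x = p ^ k) :
    ∃ P : Sylow p G, x ∈ P := by
  obtain ⟨P, hP⟩ := (isPGroup_zpowers_of_order hx).exists_le_sylow
  exact ⟨P, hP (mem_zpowers x)⟩

lemma mem_smul_iff (g x : G) (P : Sylow p G) : x ∈ g • P ↔ g⁻¹ * x * g ∈ P := by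
  change x ∈ ((g • P : Sylow p G) : Subgroup G) ↔ g⁻¹ * x * g ∈ (P : Subgroup G)
  rw [Sylow.coe_subgroup_smul, Subgroup.mem_pointwise_smul_iff_inv_smul_mem]
  simp [MulAut.smul_def, MulAut.conj_inv_apply, mul_assoc]

lemma orderOf_conj' (g x : G) : orderOf (g * x * g⁻¹) = orderOf x := by
  have := orderOf_injective (MulAut.conj g).toMonoidHom (MulAut.conj g).injective x
  simpa [MulAut.conj_apply] using this

theorem not_redundant_of_unique [Finite G] {x : G} (hx : ∃ k : ℕ, orderOf x = p ^ k)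
    (h : UniqueSyl p x) : ¬ Redundant p G := by
  rintro ⟨Q, hQ⟩
  obtain ⟨P₀, hP₀⟩ := exists_sylow_mem hx
  obtain ⟨g, hg⟩ := MulAction.exists_smul_eq G P₀ Q
  have hord : ∃ k : ℕ, orderOf (g * x * g⁻¹) = p ^ k := by
    obtain ⟨k, hk⟩ := hx
    refine ⟨k, ?_⟩
    rw [orderOf_conj', hk]
  obtain ⟨P, hPQ, hP⟩ := hQ _ hord
  apply hPQ
  have h1 : x ∈ g⁻¹ • P := by
    rw [mem_smul_iff]
    simpa [mul_assoc] using hP
  have h2 := h _ _ hP₀ h1
  rw [← hg, h2, smul_inv_smul]

theorem redundant_of_two [Finite G]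
    (h : ∀ x : G, (∃ k : ℕ, orderOf x = p ^ k) → ∃ P P' : Sylow p G, P ≠ P' ∧ x ∈ P ∧ x ∈ P') :
    Redundant p G := by
  obtain ⟨Q⟩ : Nonempty (Sylow p G) := inferInstance
  refine ⟨Q, fun x hx => ?_⟩
  obtain ⟨P, P', hne, h1, h2⟩ := h x hx
  by_cases hP : P = Q
  · exact ⟨P', fun h' => hne (hP.trans h'.symm), h2⟩
  · exact ⟨P, hP, h1⟩

/-- A non-trivial element central in a Sylow subgroup, whose centralizer is commutative,
lies in just one Sylow subgroup. -/
theorem unique_of_central [Finite G] {Q : Sylow p G} {x : G}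
    (hxZ : ∀ y ∈ Q, x * y = y * x)
    (hC : ∀ a b : G, a * x = x * a → b * x = x * b → a * b = b * a) : UniqueSyl p x := by
  have key : ∀ P : Sylow p G, x ∈ P → P = Q := by
    intro P hP
    obtain ⟨g, hg⟩ := MulAction.exists_smul_eq G Q P
    -- `P` is commutative
    have hcomm : ∀ a ∈ P, ∀ b ∈ P, a * b = b * a := by
      intro a ha b hb
      rw [← hg, mem_smul_iff] at ha hb
      have h0 : ∀ u ∈ Q, ∀ v ∈ Q, u * v = v * u := by
        intro u hu v hv
        apply hC
        · exact (hxZ u hu).symm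
        · exact (hxZ v hv).symm
      have := h0 _ ha _ hb
      have h3 : g * (g⁻¹ * a * g * (g⁻¹ * b * g)) * g⁻¹ = g * (g⁻¹ * b * g * (g⁻¹ * a * g)) * g⁻¹ := by
        rw [this]
      simpa [mul_assoc] using h3
    have hPx : ∀ a ∈ P, a * x = x * a := fun a ha => hcomm a ha x hP
    have hQx : ∀ a ∈ Q, a * x = x * a := fun a ha => (hxZ a ha).symm
    have hnorm : (Q : Subgroup G) ≤ normalizer ((P : Subgroup G) : Set G) := by
      intro a ha
      rw [mem_normalizer_iff]
      intro n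
      constructor
      · intro hn
        have : a * n * a⁻¹ = n := by
          rw [hC a n (hQx a ha) (hPx n hn)]
          simp
        rw [this]
        exact hn
      · intro hn
        have hm := hC a _ (hQx a ha) (hPx _ hn)
        have : a * n * a⁻¹ = n := mul_left_cancel (a := a) (by rw [hm]; group)
        rw [this] at hn
        exact hn
    have hsup : IsPGroup p ((Q : Subgroup G) ⊔ (P : Subgroup G) : Subgroup G) :=
      Q.isPGroup'.to_sup_of_normal_right' P.isPGroup' hnorm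
    have h1 := Q.is_maximal' hsup le_sup_left
    have h2 := P.is_maximal' hsup le_sup_right
    exact Sylow.ext (h2.symm.trans h1)
  intro P P' h1 h2
  rw [key P h1, key P' h2]

/-- Either some `p`-element lies in a unique Sylow subgroup because it is central in a Sylow
subgroup `Q`, or `Q` is trivial. -/
theorem exists_central [Finite G] (Q : Sylow p G) (hQ : (Q : Subgroup G) ≠ ⊥) :
    ∃ x ∈ Q, x ≠ 1 ∧ (∃ k : ℕ, orderOf x = p ^ k) ∧ ∀ y ∈ Q, x * y = y * x := by
  haveI : Nontrivial (Q : Subgroup G) := (Subgroup.nontrivial_iff_ne_bot _).2 hQ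
  haveI := Q.isPGroup'.center_nontrivial
  obtain ⟨⟨⟨z, hz⟩, hzc⟩, hz1⟩ := exists_ne (1 : Subgroup.center (Q : Subgroup G))
  refine ⟨z, hz, ?_, ?_, ?_⟩
  · rintro rfl
    exact hz1 rfl
  · have h1 : ∃ k : ℕ, orderOf (⟨z, hz⟩ : (Q : Subgroup G)) = p ^ k :=
      (IsPGroup.iff_orderOf.1 Q.isPGroup') _
    obtain ⟨k, hk⟩ := h1
    refine ⟨k, ?_⟩
    rw [← hk, Subgroup.orderOf_mk]
  · intro y hy
    have := (Subgroup.mem_center_iff.1 hzc) ⟨y, hy⟩
    exact (congrArg Subtype.val this).symm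

lemma unique_of_bot [Finite G] (Q : Sylow p G) (hQ : (Q : Subgroup G) = ⊥) : UniqueSyl p (1 : G) := by
  intro P P' _ _
  have key : ∀ R : Sylow p G, R = Q := by
    intro R
    obtain ⟨g, hg⟩ := MulAction.exists_smul_eq G Q R
    have : (R : Subgroup G) = ⊥ := by
      rw [eq_bot_iff]
      intro y hy
      rw [← hg] at hy
      have : g⁻¹ * y * g ∈ (Q : Subgroup G) := (mem_smul_iff g y Q).1 hy
      rw [hQ, mem_bot] at this
      have h3 : y = g * (g⁻¹ * y * g) * g⁻¹ := by group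
      rw [this] at h3
      rw [mem_bot, h3]
      group
    exact Sylow.ext (this.trans hQ.symm)
  rw [key P, key P']

/-- Transfer along a surjection. -/
theorem UniqueSyl.map [Finite G] [Finite H] (f : G →* H) (hf : Function.Surjective f) {x : G}
    (h : UniqueSyl p x) (hx : ∃ k : ℕ, orderOf x = p ^ k) : UniqueSyl p (f x) := by
  obtain ⟨Q₀, hQ₀⟩ := exists_sylow_mem hx
  have key : ∀ P : Sylow p H, f x ∈ P → (P : Subgroup H) = (Q₀ : Subgroup G).map f := by
    intro P hP
    set M : Subgroup G := (P : Subgroup H).comap f with hM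
    have hxM : x ∈ M := hP
    have hX : IsPGroup p ((zpowers x).subgroupOf M) :=
      (isPGroup_zpowers_of_order hx).comap_of_injective M.subtype Subtype.coe_injective
    obtain ⟨R₁, hR₁⟩ := hX.exists_le_sylow
    have hxR₁ : (⟨x, hxM⟩ : M) ∈ R₁ := hR₁ (by
      rw [mem_subgroupOf]
      exact mem_zpowers x)
    have hR : IsPGroup p ((R₁ : Subgroup M).map M.subtype) := R₁.isPGroup'.map _
    obtain ⟨R₂, hR₂⟩ := hR.exists_le_sylow
    have hxR₂ : x ∈ R₂ := hR₂ ⟨⟨x, hxM⟩, hxR₁, rfl⟩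
    have hEq : R₂ = Q₀ := h _ _ hxR₂ hQ₀
    subst hEq
    -- the restricted surjection
    let g : M →* (P : Subgroup H) := (f.comp M.subtype).codRestrict (P : Subgroup H) (fun y => y.2)
    have hg : Function.Surjective g := by
      rintro ⟨y, hy⟩
      obtain ⟨z, rfl⟩ := hf y
      exact ⟨⟨z, hy⟩, rfl⟩
    have htop : ((R₁.mapSurjective hg : Sylow p (P : Subgroup H)) : Subgroup (P : Subgroup H)) = ⊤ := by
      have hpg : IsPGroup p (⊤ : Subgroup (P : Subgroup H)) :=
        P.isPGroup'.of_equiv Subgroup.topEquiv.symm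
      exact ((R₁.mapSurjective hg).is_maximal' hpg le_top).symm
    have hle : (P : Subgroup H) ≤ (R₂ : Subgroup G).map f := by
      intro y hy
      have : (⟨y, hy⟩ : (P : Subgroup H)) ∈ ((R₁.mapSurjective hg : Sylow p (P : Subgroup H)) : Subgroup (P : Subgroup H)) := by
        rw [htop]; trivial
      rw [Sylow.coe_mapSurjective] at this
      obtain ⟨w, hw, hwy⟩ := this
      refine ⟨w.1, hR₂ ⟨w, hw, rfl⟩, ?_⟩
      exact congrArg Subtype.val hwy
    exact (P.is_maximal' (R₂.isPGroup'.map f) hle).symm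
  intro P P' h1 h2
  exact Sylow.ext ((key P h1).trans (key P' h2).symm)

/-- Two distinct Sylow subgroups through `x` map to two distinct Sylow subgroups when the kernel
is a `p`-group. -/
theorem two_map [Finite G] [Finite H] (f : G →* H) (hf : Function.Surjective f)
    (hK : IsPGroup p f.ker) {x : G} {P P' : Sylow p G} (hne : P ≠ P') (h1 : x ∈ P) (h2 : x ∈ P') :
    ∃ R R' : Sylow p H, R ≠ R' ∧ f x ∈ R ∧ f x ∈ R' := by
  refine ⟨P.mapSurjective hf, P'.mapSurjective hf, ?_, ?_, ?_⟩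
  · intro h
    apply hne
    have hk1 : f.ker ≤ (P : Subgroup G) := hK.le_sylow_of_normal P
    have hk2 : f.ker ≤ (P' : Subgroup G) := hK.le_sylow_of_normal P'
    have h3 : (P : Subgroup G).map f = (P' : Subgroup G).map f := by
      have := congrArg (fun S : Sylow p H => (S : Subgroup H)) h
      simpa [Sylow.coe_mapSurjective] using this
    have h4 := congrArg (Subgroup.comap f) h3
    rw [Subgroup.comap_map_eq_self hk1, Subgroup.comap_map_eq_self hk2] at h4
    exact Sylow.ext h4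
  · change f x ∈ ((P.mapSurjective hf : Sylow p H) : Subgroup H)
    rw [Sylow.coe_mapSurjective]
    exact ⟨x, h1, rfl⟩
  · change f x ∈ ((P'.mapSurjective hf : Sylow p H) : Subgroup H)
    rw [Sylow.coe_mapSurjective]
    exact ⟨x, h2, rfl⟩

/-- The dihedral-type criterion for `x` to lie in two Sylow `2`-subgroups. -/
theorem two_sylow_of_inverting [Finite G] [Fact (Nat.Prime 2)] {x W y : G} (hx : ∃ k : ℕ, orderOf x = 2 ^ k)
    (hxy : x * y = y * x) (hWx : W * x * W⁻¹ = x⁻¹) (hWy : W * y * W⁻¹ = y⁻¹)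
    (hW : W * W * (W * W) = 1) {r : ℕ} (hr : r.Prime) (hr2 : r ≠ 2) (hy : orderOf y = r) :
    ∃ P P' : Sylow 2 G, P ≠ P' ∧ x ∈ P ∧ x ∈ P' := by
  have hX := isPGroup_zpowers_of_order (p := 2) hx
  -- `W` is a 2-element
  have hord4 : ∀ z : G, z * z * (z * z) = 1 → IsPGroup 2 (zpowers z) := by
    intro z hz
    have h4 : z ^ 4 = 1 := by
      rw [show (4 : ℕ) = 1 + 1 + (1 + 1) by norm_num, pow_add, pow_add, pow_one]
      exact hz
    have : orderOf z ∣ 2 ^ 2 := orderOf_dvd_of_pow_eq_one (by simpa using h4)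
    obtain ⟨j, -, hj⟩ := (Nat.dvd_prime_pow Nat.prime_two).1 this
    exact isPGroup_zpowers_of_order ⟨j, hj⟩
  -- `W y` squares to `W * W`
  have hinv : W * y⁻¹ * W⁻¹ = y := by
    calc W * y⁻¹ * W⁻¹ = (W * y * W⁻¹)⁻¹ := by group
      _ = y := by rw [hWy, inv_inv]
  have hc : (W * W) * y = y * (W * W) := by
    calc (W * W) * y = (W * (W * y * W⁻¹) * W⁻¹) * (W * W) := by group
      _ = y * (W * W) := by rw [hWy, hinv]
  have hsq : (W * y) * (W * y) = W * W := by
    calc (W * y) * (W * y) = (W * y * W⁻¹) * ((W * W) * y) := by group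
      _ = W * W := by
        rw [hWy, hc]; group
  have hWy4 : (W * y) * (W * y) * ((W * y) * (W * y)) = 1 := by
    rw [hsq]; exact hW
  have hc1 : ∀ z : G, z * x * z⁻¹ = x⁻¹ → ∀ n ∈ zpowers x, z * n * z⁻¹ ∈ zpowers x := by
    rintro z hz _ ⟨i, rfl⟩
    refine ⟨-i, ?_⟩
    have : z * x ^ i * z⁻¹ = (z * x * z⁻¹) ^ i := (conj_zpow).symm
    simp only [this, hz, inv_zpow, zpow_neg]
  have hWn : ∀ z : G, z * x * z⁻¹ = x⁻¹ → zpowers z ≤ normalizer ((zpowers x : Subgroup G) : Set G) := by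
    intro z hz
    rw [zpowers_le, mem_normalizer_iff]
    intro n
    refine ⟨hc1 z hz n, fun hn => ?_⟩
    have hz' : z⁻¹ * x * z⁻¹⁻¹ = x⁻¹ := by
      have : x = z⁻¹ * x⁻¹ * z := by
        rw [← hz]; group
      calc z⁻¹ * x * z⁻¹⁻¹ = (z⁻¹ * x⁻¹ * z)⁻¹ := by group
        _ = x⁻¹ := by rw [← this]
    have := hc1 z⁻¹ hz' _ hn
    simpa [mul_assoc] using this
  have hWyx : (W * y) * x * (W * y)⁻¹ = x⁻¹ := by
    calc (W * y) * x * (W * y)⁻¹ = W * (y * x) * y⁻¹ * W⁻¹ := by group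
      _ = W * (x * y) * y⁻¹ * W⁻¹ := by rw [hxy]
      _ = W * x * W⁻¹ := by group
      _ = x⁻¹ := hWx
  have hA : IsPGroup 2 (zpowers W ⊔ zpowers x : Subgroup G) :=
    (hord4 W hW).to_sup_of_normal_right' hX (hWn W hWx)
  have hB : IsPGroup 2 (zpowers (W * y) ⊔ zpowers x : Subgroup G) :=
    (hord4 _ hWy4).to_sup_of_normal_right' hX (hWn _ hWyx)
  obtain ⟨P, hP⟩ := hA.exists_le_sylow
  obtain ⟨P', hP'⟩ := hB.exists_le_sylow
  refine ⟨P, P', ?_, hP (mem_sup_right (mem_zpowers x)), hP' (mem_sup_right (mem_zpowers x))⟩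
  rintro rfl
  have h1 : W ∈ (P : Subgroup G) := hP (mem_sup_left (mem_zpowers W))
  have h2 : W * y ∈ (P : Subgroup G) := hP' (mem_sup_left (mem_zpowers _))
  have h3 : y ∈ (P : Subgroup G) := by
    have := (P : Subgroup G).mul_mem ((P : Subgroup G).inv_mem h1) h2
    simpa using this
  obtain ⟨k, hk⟩ := (IsPGroup.iff_orderOf.1 P.isPGroup') ⟨y, h3⟩
  rw [Subgroup.orderOf_mk, hy] at hk
  subst hk
  exact hr2 ((Nat.prime_dvd_prime_iff_eq Nat.prime_two hr).1 (dvd_pow_self 2 (fun h => by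
    subst h; simp [Nat.not_prime_one] at hr))).symm

/-- If `⟨x⟩` has index two in the Sylow subgroups through it and is self-centralizing, and only
`x` and its inverse are conjugates of `x` in `⟨x⟩`, then `x` lies in a unique Sylow subgroup. -/
theorem unique_of_index_two [Finite G] {x : G}
    (hcard : ∀ P : Sylow 2 G, Nat.card P = 2 * orderOf x)
    (hC : ∀ y : G, y * x = x * y → y ∈ zpowers x)
    (hinv : ∀ g : G, g * x * g⁻¹ ∈ zpowers x → g * x * g⁻¹ = x ∨ g * x * g⁻¹ = x⁻¹) :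
    UniqueSyl 2 x := by
  have hx0 : 0 < orderOf x := orderOf_pos x
  -- each `g ∈ R` normalizes `⟨x⟩`
  have hnorm : ∀ R : Sylow 2 G, x ∈ R → ∀ g ∈ R, g ∈ zpowers x ∨ g * x * g⁻¹ = x⁻¹ := by
    intro R hR g hg
    have hle : zpowers x ≤ (R : Subgroup G) := by
      rw [zpowers_le]; exact hR
    have hidx : ((zpowers x).subgroupOf (R : Subgroup G)).index = 2 := by
      have h1 := Subgroup.card_mul_index ((zpowers x).subgroupOf (R : Subgroup G))
      have h2 : Nat.card ((zpowers x).subgroupOf (R : Subgroup G)) = orderOf x := by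
        rw [Nat.card_congr (Subgroup.subgroupOfEquivOfLe hle).toEquiv, Nat.card_zpowers]
      rw [h2, hcard R, mul_comm 2] at h1
      exact Nat.eq_of_mul_eq_mul_left hx0 h1
    have hm := fun a b : (R : Subgroup G) => Subgroup.mul_mem_iff_of_index_two hidx (a := a) (b := b)
    have hxK : (⟨x, hR⟩ : (R : Subgroup G)) ∈ (zpowers x).subgroupOf (R : Subgroup G) := by
      rw [mem_subgroupOf]; exact mem_zpowers x
    have hconj : g * x * g⁻¹ ∈ zpowers x := by
      have h1 := hm (⟨g, hg⟩ * ⟨x, hR⟩) ⟨g, hg⟩⁻¹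
      have h2 := hm ⟨g, hg⟩ ⟨x, hR⟩
      have h3 : ((⟨g, hg⟩ * ⟨x, hR⟩ * (⟨g, hg⟩ : (R : Subgroup G))⁻¹ : (R : Subgroup G)) ∈
          (zpowers x).subgroupOf (R : Subgroup G)) := by
        rw [h1, h2, Subgroup.inv_mem_iff]
        simp [hxK]
      rw [mem_subgroupOf] at h3
      exact h3
    rcases hinv g hconj with h | h
    · left
      exact hC g (mul_inv_eq_iff_eq_mul.1 h)
    · exact Or.inr h
  intro P P' hP hP'
  have hlt : ∃ g ∈ (P : Subgroup G), g ∉ zpowers x := by
    by_contra hcon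
    push Not at hcon
    have hle : (P : Subgroup G) ≤ zpowers x := hcon
    have := Subgroup.card_le_of_le hle
    rw [hcard P, Nat.card_zpowers] at this
    omega
  obtain ⟨g, hg, hgn⟩ := hlt
  have hgi : g * x * g⁻¹ = x⁻¹ := (hnorm P hP g hg).resolve_left hgn
  have hle : (P' : Subgroup G) ≤ (P : Subgroup G) := by
    intro h hh
    rcases hnorm P' hP' h hh with h1 | h1
    · have hle : zpowers x ≤ (P : Subgroup G) := by
        rw [zpowers_le]; exact hP
      exact hle h1
    · have h2 : g⁻¹ * h ∈ zpowers x := by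
        apply hC
        have h3 : h * x = x⁻¹ * h := by rw [← h1]; group
        have h4 : g⁻¹ * x⁻¹ = x * g⁻¹ := by
          have : x⁻¹ * g = g * x := by rw [← hgi]; group
          calc g⁻¹ * x⁻¹ = g⁻¹ * (x⁻¹ * g) * g⁻¹ := by group
            _ = g⁻¹ * (g * x) * g⁻¹ := by rw [this]
            _ = x * g⁻¹ := by group
        rw [mul_assoc, h3, ← mul_assoc, h4, mul_assoc]
      have hle : zpowers x ≤ (P : Subgroup G) := by
        rw [zpowers_le]; exact hP
      have h3 := (P : Subgroup G).mul_mem hg (hle h2)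
      simpa using h3
  have hEq : (P' : Subgroup G) = (P : Subgroup G) :=
    Subgroup.eq_of_le_of_card_ge hle (by rw [hcard P, hcard P'])
  exact Sylow.ext hEq.symm

end Cfsg.Agent.Lib.RedSyl
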