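import Mathlib
import Cfsg.Agent.Lib.GLpA
import Cfsg.Agent.Lib.GLpB
import Cfsg.Agent.Lib.GLpC
import Cfsg.Agent.Lib.RedSyl

set_option autoImplicit false

namespace Cfsg.Agent.Lib.GLpD

open Matrix Cfsg.Agent.Lib.GLpA Cfsg.Agent.Lib.GLpB Cfsg.Agent.Lib.GLpC Cfsg.Agent.Lib.RedSyl

variable {F : Type*} [Field F] {p : ℕ} [hp : Fact p.Prime]

lemma HasShift.pow {A : Matrix.GeneralLinearGroup (Fin p) F} {s : Fin p} (hA : HasShift A s) (n : ℕ) :
    HasShift (A ^ n) (n • s) := by
  induction n with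
  | zero => simpa using hasShift_one
  | succ n ih =>
    rw [pow_succ, succ_nsmul]
    exact ih.mul hA

variable [Fintype F]

lemma exists_root (h1 : p ∣ Fintype.card F - 1) : ∃ ω : F, ω ^ p = 1 ∧ ω ≠ 1 := by
  have hc : Nat.card Fˣ = Fintype.card F - 1 := by
    rw [Nat.card_units, Nat.card_eq_fintype_card]
  obtain ⟨w, hw⟩ := exists_prime_orderOf_dvd_card' (G := Fˣ) p (hc ▸ h1)
  refine ⟨w, ?_, ?_⟩
  · have : w ^ p = 1 := by rw [← hw]; exact pow_orderOf_eq_one w
    have := congrArg Units.val this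
    simpa using this
  · intro h
    have h2 : w = 1 := Units.ext h
    rw [h2, orderOf_one] at hw
    exact (Fact.out : p.Prime).one_lt.ne hw

lemma card_mu {ω : F} (hω : ω ^ p = 1) (hω1 : ω ≠ 1) : Nat.card {c : F // c ^ p = 1} = p := by
  classical
  have hord : orderOf ω = p := orderOf_eq_prime hω hω1
  have hprim : IsPrimitiveRoot ω p := hord ▸ IsPrimitiveRoot.orderOf ω
  have h1 := hprim.card_nthRootsFinset
  have h2 : Fintype.card {c : F // c ^ p = 1} = (Polynomial.nthRootsFinset p (1 : F)).card :=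
    Fintype.card_of_subtype _ (fun x => Polynomial.mem_nthRootsFinset (Fact.out : p.Prime).pos _)
  rw [Nat.card_eq_fintype_card, h2, h1]

/-- Redundancy of the monomial Sylow subgroup. -/
theorem main (hp2 : p ≠ 2) (h1 : p ∣ Fintype.card F - 1) (h2 : ¬ p ^ 2 ∣ Fintype.card F - 1) :
    ∃ Q : Sylow p (Matrix.GeneralLinearGroup (Fin p) F), ∀ x : Matrix.GeneralLinearGroup (Fin p) F,
      (∃ k : ℕ, orderOf x = p ^ k) → ∃ P : Sylow p (Matrix.GeneralLinearGroup (Fin p) F), P ≠ Q ∧ x ∈ P := by
  obtain ⟨ω, hω, hω1⟩ := exists_root h1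
  have hcard : Nat.card (R p F) = p ^ (Nat.card (Matrix.GeneralLinearGroup (Fin p) F)).factorization p := by
    rw [card_R (card_mu hω hω1), factorization_card_GL hp2 h1 h2]
  let Q : Sylow p (Matrix.GeneralLinearGroup (Fin p) F) := Sylow.ofCard (R p F) hcard
  have hQ : ∀ A, A ∈ Q ↔ A ∈ R p F := fun A => Iff.rfl
  refine ⟨Q, fun x hx => ?_⟩
  by_cases hxR : x ∈ R p F
  · -- find a conjugate
    obtain ⟨g, hg, hN⟩ : ∃ g : Matrix.GeneralLinearGroup (Fin p) F, g⁻¹ * x * g ∈ R p F ∧ ¬ Norm g := by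
      obtain ⟨s, hs⟩ := hxR
      by_cases hs0 : s = 0
      · subst hs0
        obtain ⟨d, hd, rfl⟩ := hs.eq_mk
        exact core_zero hp2 hω hω1 d hd
      · have hsv : (s : ℕ) ≠ 0 := fun h => hs0 (Fin.ext h)
        have hcop : Nat.Coprime (s : ℕ) p := by
          rw [Nat.coprime_comm, Nat.Prime.coprime_iff_not_dvd Fact.out]
          intro hd
          have := Nat.le_of_dvd (Nat.pos_of_ne_zero hsv) hd
          have := s.2
          omega
        obtain ⟨i, -, hi⟩ := Nat.exists_mul_mod_eq_one_of_coprime hcop (Fact.out : p.Prime).one_lt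
        have hi1 : i • s = 1 := by
          rw [← nsmul_val_one s, ← mul_nsmul]
          apply Fin.ext
          rw [val_nsmul_one, hi, val_one']
        have hy : HasShift (x ^ i) 1 := hi1 ▸ HasShift.pow hs i
        obtain ⟨d, hd, hdy⟩ := hy.eq_mk
        obtain ⟨g, hg, hN⟩ := core_one hp2 hω hω1 d hd
        refine ⟨g, ?_, hN⟩
        have hcop2 : i.Coprime (orderOf x) := by
          obtain ⟨k, hk⟩ := hx
          rw [hk]
          apply Nat.Coprime.pow_right
          rw [Nat.coprime_comm, Nat.Prime.coprime_iff_not_dvd Fact.out]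
          intro hd2
          have h3 : p ∣ (s : ℕ) * i := hd2.mul_left _
          have h4 := Nat.mod_eq_zero_of_dvd h3
          omega
        obtain ⟨m, hm⟩ := exists_pow_eq_self_of_coprime hcop2
        rw [← hdy] at hg
        have h5 : g⁻¹ * x * g = (g⁻¹ * x ^ i * g) ^ m := by
          have := conj_pow (a := g⁻¹) (b := x ^ i) (i := m)
          rw [inv_inv] at this
          rw [this, hm]
        rw [h5]
        exact (R p F).pow_mem hg m
    refine ⟨g • Q, ?_, ?_⟩
    · intro hgQ
      apply hN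
      constructor
      · intro A hA
        rw [← hQ, ← hgQ, mem_smul_iff]
        have : g⁻¹ * (g * A * g⁻¹) * g = A := by group
        rw [this]
        exact hA
      · intro A hA
        have : A ∈ g • Q := by
          rw [hgQ]
          exact hA
        exact (mem_smul_iff _ _ _).1 this
    · rw [mem_smul_iff]
      exact hg
  · obtain ⟨P, hP⟩ := exists_sylow_mem hx
    refine ⟨P, ?_, hP⟩
    rintro rfl
    exact hxR hP

end Cfsg.Agent.Lib.GLpD
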