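import Mathlib
import Cfsg.Prelude.Def_Classical
import Cfsg.Agent.Lib.QuadFF
import Cfsg.Agent.Lib.OrthoOrder

/-!
# Classification of nondegenerate quadratic forms in even dimension over finite fields

Two nondegenerate forms of the same even dimension with hyperbolic bases are isometric; two such forms
without hyperbolic bases are isometric; hyperbolic forms are recognized by the number of their zeros.
-/

set_option autoImplicit false
set_option linter.unusedSectionVars false
set_option linter.unusedSimpArgs false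
set_option linter.unusedVariables false

universe u v w

namespace Cfsg.Agent.Lib.QuadClass

open Module QuadraticMap Cfsg.Agent.Lib.QuadFF Cfsg.Agent.Lib.OrthoCount

variable {F : Type u} [Field F] {V : Type v} {V' : Type w} [AddCommGroup V] [Module F V]
  [AddCommGroup V'] [Module F V']

/-- A hyperbolic basis. -/
def IsHypBasis {m : ℕ} (Q : QuadraticForm F V) (b : Basis (Fin m ⊕ Fin m) F V) : Prop :=
  (∀ i, Q (b (Sum.inl i)) = 0 ∧ Q (b (Sum.inr i)) = 0) ∧
  (∀ i j, polar ⇑Q (b (Sum.inl i)) (b (Sum.inr j)) = if i = j then 1 else 0) ∧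
  (∀ i j, polar ⇑Q (b (Sum.inl i)) (b (Sum.inl j)) = 0 ∧ polar ⇑Q (b (Sum.inr i)) (b (Sum.inr j)) = 0)

/-- A basis of hyperbolic pairs and an anisotropic plane. -/
def IsMinusBasis {k : ℕ} (Q : QuadraticForm F V) (b : Basis ((Fin k ⊕ Fin k) ⊕ Fin 2) F V) (ζ : F) : Prop :=
  (∀ t : F, t ^ 2 + t + ζ ≠ 0) ∧
  (∀ i, Q (b (Sum.inl (Sum.inl i))) = 0 ∧ Q (b (Sum.inl (Sum.inr i))) = 0) ∧
  (∀ i j, polar ⇑Q (b (Sum.inl (Sum.inl i))) (b (Sum.inl (Sum.inr j))) = if i = j then 1 else 0) ∧
  (∀ i j, polar ⇑Q (b (Sum.inl (Sum.inl i))) (b (Sum.inl (Sum.inl j))) = 0 ∧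
    polar ⇑Q (b (Sum.inl (Sum.inr i))) (b (Sum.inl (Sum.inr j))) = 0) ∧
  (∀ i (k : Fin 2), polar ⇑Q (b (Sum.inl (Sum.inl i))) (b (Sum.inr k)) = 0 ∧
    polar ⇑Q (b (Sum.inl (Sum.inr i))) (b (Sum.inr k)) = 0) ∧
  Q (b (Sum.inr 0)) = 1 ∧ polar ⇑Q (b (Sum.inr 0)) (b (Sum.inr 1)) = 1 ∧ Q (b (Sum.inr 1)) = ζ

theorem eq_of_polar_comp {ι : Type*} (b : Basis ι F V) (Q : QuadraticForm F V) (Q' : QuadraticForm F V')
    (g : V →ₗ[F] V') (h1 : ∀ i, Q' (g (b i)) = Q (b i))
    (h2 : ∀ i j, polar Q' (g (b i)) (g (b j)) = polar Q (b i) (b j)) (v : V) : Q' (g v) = Q v := by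
  have := eq_on_basis b (Q'.comp g) Q (fun i => by simpa using h1 i) (fun i j => by
    have : polar (Q'.comp g) (b i) (b j) = polar Q' (g (b i)) (g (b j)) := by
      simp [polar, map_add]
    rw [this, h2]) v
  simpa using this

/-- An isometry in the sense of values is injective when the source is nondegenerate. -/
theorem injective_of_preserves {Q : QuadraticForm F V} {Q' : QuadraticForm F V'} (hQ : ND Q)
    (g : V →ₗ[F] V') (h : ∀ v, Q' (g v) = Q v) : Function.Injective g := by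
  rw [← LinearMap.ker_eq_bot, LinearMap.ker_eq_bot']
  intro x hx
  apply hQ
  intro y
  have : polar Q' (g x) (g y) = polar Q x y := by
    simp only [polar, ← map_add, h]
  rw [← this, hx]
  simp

theorem isometry_of_hyp {m : ℕ} {Q : QuadraticForm F V} {Q' : QuadraticForm F V'}
    {b : Basis (Fin m ⊕ Fin m) F V} {b' : Basis (Fin m ⊕ Fin m) F V'}
    (h : IsHypBasis Q b) (h' : IsHypBasis Q' b') : ∃ e : V ≃ₗ[F] V', ∀ v, Q' (e v) = Q v := by
  obtain ⟨h1, h2, h3⟩ := h
  obtain ⟨h1', h2', h3'⟩ := h'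
  refine ⟨b.equiv b' (Equiv.refl _), fun v => ?_⟩
  refine eq_of_polar_comp b Q Q' (b.equiv b' (Equiv.refl _)).toLinearMap ?_ ?_ v
  · rintro (i | i)
    · simp [(h1 i).1, (h1' i).1]
    · simp [(h1 i).2, (h1' i).2]
  · rintro (i | i) (j | j)
    · simp [(h3 i j).1, (h3' i j).1]
    · simp [h2, h2']
    · have e1 := h2 j i
      have e2 := h2' j i
      rw [polar_comm] at e1 e2
      simp only [LinearEquiv.coe_coe, Basis.equiv_apply, Equiv.refl_apply]
      rw [e1, e2]
    · simp [(h3 i j).2, (h3' i j).2]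

/-- Matching of the anisotropic planes. -/
theorem zeta_match [Fintype F] {ζ ζ' : F} (hζ : ∀ t : F, t ^ 2 + t + ζ ≠ 0) (hζ' : ∀ t : F, t ^ 2 + t + ζ' ≠ 0) :
    ∃ α β : F, 2 * α + β = 1 ∧ α ^ 2 + α * β + ζ' * β ^ 2 = ζ := by
  classical
  by_cases h2 : (2 : F) = 0
  · -- characteristic two
    have hadd : ∀ a b : F, (a + b) ^ 2 + (a + b) = (a ^ 2 + a) + (b ^ 2 + b) := by
      intro a b
      have : (a + b) ^ 2 + (a + b) = (a ^ 2 + a) + (b ^ 2 + b) + 2 * (a * b) := by ring
      rw [this, h2]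
      ring
    let f : F →+ F := { toFun := fun t => t ^ 2 + t, map_zero' := by simp, map_add' := hadd }
    have hker : Nat.card f.ker = 2 := by
      have h1 : (f.ker : Set F) = {0, 1} := by
        ext t
        simp only [SetLike.mem_coe, AddMonoidHom.mem_ker, Set.mem_insert_iff, Set.mem_singleton_iff]
        change t ^ 2 + t = 0 ↔ _
        constructor
        · intro h
          have h3 : t * (t + 1) = 0 := by linear_combination h
          rcases mul_eq_zero.1 h3 with h4 | h4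
          · exact Or.inl h4
          · right
            have h5 : t = -1 := eq_neg_of_add_eq_zero_left h4
            rw [h5]
            have : (1 : F) + 1 = 0 := by rw [one_add_one_eq_two, h2]
            exact (eq_neg_of_add_eq_zero_left this).symm
        · rintro (rfl | rfl)
          · simp
          · rw [one_pow, one_add_one_eq_two, h2]
      have h3 : Nat.card f.ker = Nat.card ((f.ker : Set F)) := rfl
      rw [h3, h1, Nat.card_coe_set_eq, Set.ncard_pair zero_ne_one]
    have hidx : f.range.index = 2 := by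
      have e1 := AddSubgroup.index_ker f
      have e2 := AddSubgroup.card_mul_index f.ker
      have e3 := AddSubgroup.card_mul_index f.range
      rw [hker, e1] at e2
      rw [← e2] at e3
      have hpos : 0 < Nat.card f.range := Nat.card_pos
      have : Nat.card f.range * f.range.index = Nat.card f.range * 2 := by rw [e3, mul_comm]
      exact Nat.eq_of_mul_eq_mul_left hpos this
    have hn : ∀ z : F, (∀ t : F, t ^ 2 + t + z ≠ 0) → z ∉ f.range := by
      rintro z hz ⟨t, rfl⟩
      apply hz t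
      change t ^ 2 + t + (t ^ 2 + t) = 0
      have : t ^ 2 + t + (t ^ 2 + t) = 2 * (t ^ 2 + t) := by ring
      rw [this, h2, zero_mul]
    have hmem : ζ + ζ' ∈ f.range := by
      rw [AddSubgroup.add_mem_iff_of_index_two hidx]
      exact iff_of_false (hn ζ hζ) (hn ζ' hζ')
    obtain ⟨α, hα⟩ := hmem
    have hα' : α ^ 2 + α = ζ + ζ' := hα
    refine ⟨α, 1, by rw [h2]; ring, ?_⟩
    have : α ^ 2 + α * 1 + ζ' * 1 ^ 2 = (α ^ 2 + α) + ζ' := by ring
    rw [this, hα']
    have : ζ + ζ' + ζ' = ζ + 2 * ζ' := by ring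
    rw [this, h2]
    ring
  · -- odd characteristic
    have hns : ∀ z : F, (∀ t : F, t ^ 2 + t + z ≠ 0) → ¬ IsSquare (1 - 4 * z) := by
      rintro z hz ⟨w, hw⟩
      apply hz ((w - 1) / 2)
      field_simp
      linear_combination (-1 : F) * hw
    have h1 := hns ζ hζ
    have h1' := hns ζ' hζ'
    have hb0 : 1 - 4 * ζ' ≠ 0 := fun h => h1' (by rw [h]; exact IsSquare.zero)
    have hprod : IsSquare ((1 - 4 * ζ) * (1 - 4 * ζ')) := by
      have e0 : (1 - 4 * ζ) * (1 - 4 * ζ') ≠ 0 :=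
        mul_ne_zero (fun h => h1 (by rw [h]; exact IsSquare.zero)) hb0
      rw [← quadraticChar_one_iff_isSquare e0, map_mul, quadraticChar_neg_one_iff_not_isSquare.2 h1,
        quadraticChar_neg_one_iff_not_isSquare.2 h1']
      norm_num
    obtain ⟨w, hw⟩ := hprod
    set s := w / (1 - 4 * ζ') with hs
    have hss : s * s * (1 - 4 * ζ') = 1 - 4 * ζ := by
      rw [hs]
      field_simp
      linear_combination (-1 : F) * hw
    set α := (1 + s) / 2 with hα
    have ha : 2 * α = 1 + s := by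
      rw [hα]; field_simp
    refine ⟨α, -s, by rw [ha]; ring, ?_⟩
    have h4 : (4 : F) ≠ 0 := by
      have : (4 : F) = 2 * 2 := by norm_num
      rw [this]
      exact mul_ne_zero h2 h2
    apply mul_left_cancel₀ h4
    linear_combination (2 * α + 1 - s) * ha - hss

/-- Two forms with minus bases of the same size are isometric. -/
theorem isometry_of_minus [Fintype F] [FiniteDimensional F V] [FiniteDimensional F V'] {k : ℕ}
    {Q : QuadraticForm F V} {Q' : QuadraticForm F V'} (hQ : ND Q)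
    {b : Basis ((Fin k ⊕ Fin k) ⊕ Fin 2) F V} {b' : Basis ((Fin k ⊕ Fin k) ⊕ Fin 2) F V'} {ζ ζ' : F}
    (h : IsMinusBasis Q b ζ) (h' : IsMinusBasis Q' b' ζ') : ∃ e : V ≃ₗ[F] V', ∀ v, Q' (e v) = Q v := by
  classical
  obtain ⟨hζ, h1, h2, h3, h4, hx, hxy, hy⟩ := h
  obtain ⟨hζ', h1', h2', h3', h4', hx', hxy', hy'⟩ := h'
  obtain ⟨α, β, hαβ, hval⟩ := zeta_match hζ hζ'
  set x' := b' (Sum.inr 0) with hx'def
  set y' := b' (Sum.inr 1) with hy'def
  let z' := α • x' + β • y'
  have hz'z : z' = α • x' + β • y' := rfl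
  let G : (Fin k ⊕ Fin k) ⊕ Fin 2 → V' := Sum.elim (fun i => b' (Sum.inl i)) ![x', z']
  have hG0 : G (Sum.inr 0) = x' := rfl
  have hG1 : G (Sum.inr 1) = z' := rfl
  have hGl : ∀ i, G (Sum.inl i) = b' (Sum.inl i) := fun _ => rfl
  let g : V →ₗ[F] V' := b.constr F G
  have hg : ∀ i, g (b i) = G i := fun i => b.constr_basis F G i
  have hxx' : polar Q' x' x' = 2 := by rw [polar_self_eq, hx']; simp
  have hyy' : polar Q' y' y' = 2 * ζ' := by rw [polar_self_eq, hy']
  have hyx' : polar Q' y' x' = 1 := by rw [polar_comm]; exact hxy'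
  have hxx : polar Q (b (Sum.inr 0)) (b (Sum.inr 0)) = 2 := by rw [polar_self_eq, hx]; simp
  have hyy : polar Q (b (Sum.inr 1)) (b (Sum.inr 1)) = 2 * ζ := by rw [polar_self_eq, hy]
  have hyx : polar Q (b (Sum.inr 1)) (b (Sum.inr 0)) = 1 := by rw [polar_comm]; exact hxy
  have hQz : Q' z' = ζ := by
    rw [hz'z, Q_ad, Q_sm, Q_sm, polar_sm_l, polar_sm_r, hx', hy', hxy', ← hval]
    ring
  have hxz : polar Q' x' z' = 1 := by
    rw [hz'z, polar_add_right, polar_sm_r, polar_sm_r, hxx', hxy']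
    linear_combination hαβ
  have hzx : polar Q' z' x' = 1 := by rw [polar_comm]; exact hxz
  have hzz : polar Q' z' z' = 2 * ζ := by rw [polar_self_eq, hQz]
  have hlx : ∀ i (j : Fin 2), polar Q' (b' (Sum.inl i)) (b' (Sum.inr j)) = 0 := by
    rintro (i | i) j
    · exact (h4' i j).1
    · exact (h4' i j).2
  have hlz : ∀ i, polar Q' (b' (Sum.inl i)) z' = 0 := by
    intro i
    rw [hz'z, polar_add_right, polar_sm_r, polar_sm_r, hlx, hlx]
    simp
  have hlx' : ∀ i (j : Fin 2), polar Q (b (Sum.inl i)) (b (Sum.inr j)) = 0 := by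
    rintro (i | i) j
    · exact (h4 i j).1
    · exact (h4 i j).2
  have hQg : ∀ v, Q' (g v) = Q v := by
    refine eq_of_polar_comp b Q Q' g ?_ ?_
    · rintro ((i | i) | i)
      · rw [hg, hGl, (h1 i).1, (h1' i).1]
      · rw [hg, hGl, (h1 i).2, (h1' i).2]
      · fin_cases i
        · show Q' (g (b (Sum.inr 0))) = Q (b (Sum.inr 0))
          rw [hg, hG0, hx, hx']
        · show Q' (g (b (Sum.inr 1))) = Q (b (Sum.inr 1))
          rw [hg, hG1, hy, hQz]
    · rintro (i | i) (j | j)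
      · rw [hg, hg, hGl, hGl]
        rcases i with i | i <;> rcases j with j | j
        · rw [(h3 i j).1, (h3' i j).1]
        · rw [h2, h2']
        · rw [polar_comm, polar_comm Q, h2, h2']
        · rw [(h3 i j).2, (h3' i j).2]
      · rw [hg, hg, hGl, hlx']
        fin_cases j
        · show polar Q' (b' (Sum.inl i)) (G (Sum.inr 0)) = 0
          rw [hG0]; exact hlx i 0
        · show polar Q' (b' (Sum.inl i)) (G (Sum.inr 1)) = 0
          rw [hG1]; exact hlz i
      · rw [hg, hg, hGl, polar_comm Q, hlx']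
        fin_cases i
        · show polar Q' (G (Sum.inr 0)) (b' (Sum.inl j)) = 0
          rw [hG0, polar_comm]; exact hlx j 0
        · show polar Q' (G (Sum.inr 1)) (b' (Sum.inl j)) = 0
          rw [hG1, polar_comm]; exact hlz j
      · fin_cases i <;> fin_cases j
        · show polar Q' (g (b (Sum.inr 0))) (g (b (Sum.inr 0))) = polar Q (b (Sum.inr 0)) (b (Sum.inr 0))
          rw [hg, hG0, hxx, hxx']
        · show polar Q' (g (b (Sum.inr 0))) (g (b (Sum.inr 1))) = polar Q (b (Sum.inr 0)) (b (Sum.inr 1))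
          rw [hg, hg, hG0, hG1, hxy, hxz]
        · show polar Q' (g (b (Sum.inr 1))) (g (b (Sum.inr 0))) = polar Q (b (Sum.inr 1)) (b (Sum.inr 0))
          rw [hg, hg, hG0, hG1, hyx, hzx]
        · show polar Q' (g (b (Sum.inr 1))) (g (b (Sum.inr 1))) = polar Q (b (Sum.inr 1)) (b (Sum.inr 1))
          rw [hg, hG1, hyy, hzz]
  have hinj := injective_of_preserves hQ g hQg
  have hfr : finrank F V = finrank F V' := by
    rw [finrank_eq_card_basis b, finrank_eq_card_basis b']
  exact ⟨LinearEquiv.ofInjectiveOfFinrankEq g hinj hfr, fun v => hQg v⟩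

/-- Standard form of a nondegenerate form in even dimension. -/
theorem std_cases [Finite F] [FiniteDimensional F V] {m : ℕ} (hV : finrank F V = 2 * m)
    (Q : QuadraticForm F V) (hQ : ND Q) :
    (∃ b : Basis (Fin m ⊕ Fin m) F V, IsHypBasis Q b) ∨
    ∃ (k : ℕ) (_ : m = k + 1) (b : Basis ((Fin k ⊕ Fin k) ⊕ Fin 2) F V) (ζ : F), IsMinusBasis Q b ζ := by
  rcases exists_standard_even hV Q hQ with ⟨b, h⟩ | ⟨k, hk, b, ζ, h⟩
  · exact Or.inl ⟨b, h⟩
  · exact Or.inr ⟨k, hk, b, ζ, h⟩

/-- The standard plus form has a hyperbolic basis. -/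
theorem hypBasis_qPlus (m : ℕ) : IsHypBasis (qPlus m F) (Pi.basisFun F (Fin m ⊕ Fin m)) := by
  classical
  have hval : ∀ v, qPlus m F v = ∑ i, v (Sum.inl i) * v (Sum.inr i) := fun v => by
    rw [qPlus_apply]; rfl
  refine ⟨?_, ?_, ?_⟩
  · intro i
    simp [hval, Pi.single_apply]
  · intro i j
    simp [polar, hval, Pi.single_apply, Finset.sum_add_distrib, add_mul, mul_add]
    exact if_congr eq_comm rfl rfl
  · intro i j
    simp [polar, hval, Pi.single_apply, Finset.sum_add_distrib, add_mul, mul_add]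

/-- A form with a hyperbolic basis is isometric to the standard plus form. -/
theorem iso_qPlus_of_hyp {m : ℕ} {Q : QuadraticForm F V} {b : Basis (Fin m ⊕ Fin m) F V}
    (h : IsHypBasis Q b) : ∃ e : V ≃ₗ[F] (Fin m ⊕ Fin m → F), ∀ v, qPlus m F (e v) = Q v :=
  isometry_of_hyp h (hypBasis_qPlus m)

/-- The number of zeros of a form with a hyperbolic basis. -/
theorem card_zeros_of_hyp [Fintype F] {m : ℕ} {Q : QuadraticForm F V} {b : Basis (Fin (m + 1) ⊕ Fin (m + 1)) F V}
    (h : IsHypBasis Q b) :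
    (Nat.card {v // Q v = 0} : ℤ) = (Fintype.card F : ℤ) ^ (2 * m + 1) + (Fintype.card F : ℤ) ^ (m + 1) - (Fintype.card F : ℤ) ^ m := by
  obtain ⟨e, he⟩ := iso_qPlus_of_hyp h
  have h1 : Nat.card {v // Q v = 0} = Nat.card {v // qPlus (m + 1) F v = 0} := by
    refine Nat.card_congr (e.toEquiv.subtypeEquiv fun v => ?_)
    change Q v = 0 ↔ qPlus (m + 1) F (e v) = 0
    rw [he]
  rw [h1]
  exact zeros_plus_succ m

/-- A nondegenerate form in even dimension with a number of zeros different from the plus count has a minus basis. -/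
theorem minus_of_card [Fintype F] [FiniteDimensional F V] {m : ℕ} (hV : finrank F V = 2 * (m + 1))
    (Q : QuadraticForm F V) (hQ : ND Q)
    (hc : (Nat.card {v // Q v = 0} : ℤ) ≠ (Fintype.card F : ℤ) ^ (2 * m + 1) + (Fintype.card F : ℤ) ^ (m + 1) - (Fintype.card F : ℤ) ^ m) :
    ∃ (b : Basis ((Fin m ⊕ Fin m) ⊕ Fin 2) F V) (ζ : F), IsMinusBasis Q b ζ := by
  rcases std_cases hV Q hQ with ⟨b, hb⟩ | ⟨k, hk, b, ζ, hb⟩
  · exact absurd (card_zeros_of_hyp hb) hc
  · obtain rfl : m = k := by omega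
    exact ⟨b, ζ, hb⟩

/-- The plus and minus counts differ. -/
theorem count_ne [Fintype F] (m : ℕ) :
    (Fintype.card F : ℤ) ^ (2 * m + 1) + (Fintype.card F : ℤ) ^ m - (Fintype.card F : ℤ) ^ (m + 1) ≠
      (Fintype.card F : ℤ) ^ (2 * m + 1) + (Fintype.card F : ℤ) ^ (m + 1) - (Fintype.card F : ℤ) ^ m := by
  intro h
  have h1 : (Fintype.card F : ℤ) ^ (m + 1) = (Fintype.card F : ℤ) ^ m := by linarith
  have hq : (1 : ℤ) < Fintype.card F := by exact_mod_cast Fintype.one_lt_card
  have h2 : (Fintype.card F : ℤ) ^ m < (Fintype.card F : ℤ) ^ (m + 1) := pow_lt_pow_right₀ hq (by omega)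
  omega

/-- The nondegeneracy of the standard minus form. -/
theorem ND_qMinus [Fintype F] (a b : F) (hab : ∀ x y : F, x ^ 2 + a * x * y + b * y ^ 2 = 0 → x = 0 ∧ y = 0) (m : ℕ) :
    ND (qMinus m a b) := by
  intro x hx
  by_contra hne
  obtain ⟨y, hy⟩ := Cfsg.Agent.Lib.OrthoOrder.nondeg_qMinus a b hab m x hne
  exact hy (hx y)

/-- A nondegenerate form without the plus count of zeros is isometric to any standard minus form. -/
theorem iso_qMinus [Fintype F] [FiniteDimensional F V] {m : ℕ} (hV : finrank F V = 2 * (m + 1))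
    (Q : QuadraticForm F V) (hQ : ND Q)
    (hc : (Nat.card {v // Q v = 0} : ℤ) ≠ (Fintype.card F : ℤ) ^ (2 * m + 1) + (Fintype.card F : ℤ) ^ (m + 1) - (Fintype.card F : ℤ) ^ m)
    (a b : F) (hab : ∀ x y : F, x ^ 2 + a * x * y + b * y ^ 2 = 0 → x = 0 ∧ y = 0) :
    ∃ e : V ≃ₗ[F] ((Fin m ⊕ Fin m) ⊕ Fin 2 → F), ∀ v, qMinus m a b (e v) = Q v := by
  obtain ⟨B, ζ, hB⟩ := minus_of_card hV Q hQ hc
  have hV' : finrank F ((Fin m ⊕ Fin m) ⊕ Fin 2 → F) = 2 * (m + 1) := by
    simp
    ring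
  have hc' : (Nat.card {v // qMinus m a b v = 0} : ℤ) ≠ (Fintype.card F : ℤ) ^ (2 * m + 1) + (Fintype.card F : ℤ) ^ (m + 1) - (Fintype.card F : ℤ) ^ m := by
    rw [zeros_minus a b hab m]
    exact count_ne m
  obtain ⟨B', ζ', hB'⟩ := minus_of_card hV' _ (ND_qMinus a b hab m) hc'
  exact isometry_of_minus hQ hB hB'

/-- The bound on totally singular subspaces of the standard minus form. -/
theorem finrank_le_of_ts [Fintype F] (a b : F) (hab : ∀ x y : F, x ^ 2 + a * x * y + b * y ^ 2 = 0 → x = 0 ∧ y = 0) (m : ℕ)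
    (K : Submodule F ((Fin m ⊕ Fin m) ⊕ Fin 2 → F)) (hK : ∀ v ∈ K, qMinus m a b v = 0) : finrank F K ≤ m := by
  classical
  have hval : ∀ v, qMinus m a b v = (∑ i, v (Sum.inl (Sum.inl i)) * v (Sum.inl (Sum.inr i))) +
      (v (Sum.inr 0) ^ 2 + a * v (Sum.inr 0) * v (Sum.inr 1) + b * v (Sum.inr 1) ^ 2) := fun v => by
    rw [qMinus_apply]; rfl
  let π : ((Fin m ⊕ Fin m) ⊕ Fin 2 → F) →ₗ[F] (Fin m → F) :=
    LinearMap.funLeft F F (fun i : Fin m => (Sum.inl (Sum.inl i) : (Fin m ⊕ Fin m) ⊕ Fin 2))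
  have hπ : ∀ v i, π v i = v (Sum.inl (Sum.inl i)) := fun v i => rfl
  have hsurj : Function.Surjective π := LinearMap.funLeft_surjective_of_injective F F _ (fun i j h => by simpa using h)
  set P := LinearMap.ker π with hP
  have hPdim : finrank F P = m + 2 := by
    have h1 := LinearMap.finrank_range_add_finrank_ker π
    rw [LinearMap.range_eq_top.2 hsurj, finrank_top] at h1
    simp only [Module.finrank_fintype_fun_eq_card, Fintype.card_fin, Fintype.card_sum] at h1
    rw [← hP] at h1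
    omega
  have hPx : ∀ v ∈ P, ∀ i, v (Sum.inl (Sum.inl i)) = 0 := by
    intro v hv i
    have h1 : π v = 0 := hv
    have := congrFun h1 i
    simpa [hπ] using this
  have hQ0 : ND (qMinus m a b) := ND_qMinus a b hab m
  -- elements of the intersection have zero anisotropic part
  have hM : ∀ v ∈ K ⊓ P, v (Sum.inr 0) = 0 ∧ v (Sum.inr 1) = 0 := by
    intro v hv
    have h1 := hK v hv.1
    rw [hval] at h1
    have h2 : ∑ i, v (Sum.inl (Sum.inl i)) * v (Sum.inl (Sum.inr i)) = 0 :=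
      Finset.sum_eq_zero fun i _ => by rw [hPx v hv.2 i, zero_mul]
    rw [h2, zero_add] at h1
    exact hab _ _ h1
  have hle : K ⊔ P ≤ LinearMap.BilinForm.orthogonal (polarBilin (qMinus m a b)) (K ⊓ P) := by
    intro r hr
    rw [LinearMap.BilinForm.mem_orthogonal_iff]
    intro u hu
    obtain ⟨k, hk, w, hw, rfl⟩ := Submodule.mem_sup.1 hr
    change polarBilin (qMinus m a b) u (k + w) = 0
    rw [map_add]
    have e1 : polar (qMinus m a b) u k = 0 := by
      have h1 := hK _ (K.add_mem hu.1 hk)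
      rw [QuadraticMap.polar, h1, hK u hu.1, hK k hk]
      simp
    have e2 : polar (qMinus m a b) u w = 0 := by
      obtain ⟨hu0, hu1⟩ := hM u hu
      simp only [QuadraticMap.polar, hval, Pi.add_apply, hu0, hu1, hPx u hu.2, hPx w hw]
      simp
    change polar (qMinus m a b) u k + polar (qMinus m a b) u w = 0
    rw [e1, e2, add_zero]
  have h1 := Submodule.finrank_mono hle
  rw [LinearMap.BilinForm.finrank_orthogonal (nondegenerate_of_ND hQ0)] at h1
  have h2 := Submodule.finrank_sup_add_finrank_inf_eq K P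
  have h3 : finrank F ((Fin m ⊕ Fin m) ⊕ Fin 2 → F) = 2 * m + 2 := by
    simp
    ring
  have h4 : finrank F ↥(K ⊓ P) ≤ finrank F ((Fin m ⊕ Fin m) ⊕ Fin 2 → F) := Submodule.finrank_le _
  omega

end Cfsg.Agent.Lib.QuadClass
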