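import Mathlib
import Cfsg.Agent.Lib.QuadClass
import Cfsg.Agent.Lib.OrthoCount

/-!
# Gauss sums of quadratic forms in characteristic two and orders of isometries

A pair (form, isometry) on a space of dimension `2 m` is recorded with the sign of the Gauss sum
of the form.
-/

set_option autoImplicit false
set_option linter.unusedSectionVars false
set_option linter.unusedSimpArgs false
set_option linter.unusedVariables false
set_option linter.style.haveILetI false

namespace Cfsg.Agent.Lib.GOm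

open Module QuadraticMap
open Cfsg.Agent.Lib.QuadFF Cfsg.Agent.Lib.OrthoBasic Cfsg.Agent.Lib.OrthoCount Cfsg.Agent.Lib.QuadClass

/-! ### Additive characters -/

/-- A nontrivial additive character with values in `ℤ`. -/
structure IsCh {K : Type*} [AddGroup K] (ψ : K → ℤ) : Prop where
  add : ∀ s t, ψ (s + t) = ψ s * ψ t
  nontriv : ∃ t, ψ t = -1

section ch

variable {K : Type*} [Field K] [Fintype K] {ψ : K → ℤ}

theorem IsCh.zero (h : IsCh ψ) : ψ 0 = 1 := by
  obtain ⟨t, ht⟩ := h.nontriv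
  have := h.add t 0
  rw [add_zero, ht] at this
  linarith

theorem IsCh.sum_eq_zero (h : IsCh ψ) : ∑ t, ψ t = 0 := by
  obtain ⟨t₀, ht₀⟩ := h.nontriv
  have h1 : ∑ t, ψ (t + t₀) = ∑ t, ψ t := Fintype.sum_equiv (Equiv.addRight t₀) _ _ (fun _ => rfl)
  have h2 : ∑ t, ψ (t + t₀) = - ∑ t, ψ t := by
    rw [← Finset.sum_neg_distrib]
    refine Finset.sum_congr rfl fun t _ => ?_
    rw [h.add, ht₀]
    ring
  omega

theorem IsCh.sum_mul (h : IsCh ψ) {c : K} (hc : c ≠ 0) : ∑ t, ψ (c * t) = 0 := by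
  have h1 : ∑ t, ψ (c * t) = ∑ t, ψ t :=
    Fintype.sum_equiv (Equiv.mulLeft₀ c hc) _ _ (fun _ => rfl)
  rw [h1, h.sum_eq_zero]

theorem IsCh.sum_mul_units (h : IsCh ψ) [DecidableEq K] {c : K} (hc : c ≠ 0) :
    ∑ t ∈ Finset.univ.erase (0 : K), ψ (t * c) = -1 := by
  have h1 := Finset.add_sum_erase Finset.univ (fun t => ψ (t * c)) (Finset.mem_univ (0 : K))
  have h2 : ∑ t, ψ (t * c) = 0 := by
    have := h.sum_mul hc
    rwa [show (∑ t, ψ (c * t)) = ∑ t, ψ (t * c) from
      Finset.sum_congr rfl fun t _ => by rw [mul_comm]] at this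
  simp only [zero_mul, h.zero] at h1
  omega

end ch

/-! ### Gauss sums -/

section gauss

variable {K : Type*} [Field K] [Fintype K]

/-- The Gauss sum of a function. -/
def gs {W : Type*} [Fintype W] (ψ : K → ℤ) (f : W → K) : ℤ := ∑ v, ψ (f v)

theorem gs_prod {W W' : Type*} [Fintype W] [Fintype W'] {ψ : K → ℤ} (hψ : IsCh ψ) (f : W → K) (f' : W' → K) :
    gs ψ (fun v : W × W' => f v.1 + f' v.2) = gs ψ f * gs ψ f' := by
  unfold gs
  rw [Fintype.sum_prod_type, Finset.sum_mul_sum]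
  refine Finset.sum_congr rfl fun x _ => Finset.sum_congr rfl fun y _ => ?_
  rw [hψ.add]

theorem gs_congr {W W' : Type*} [Fintype W] [Fintype W'] (ψ : K → ℤ) (e : W ≃ W') {f : W → K} {f' : W' → K}
    (h : ∀ v, f' (e v) = f v) : gs ψ f = gs ψ f' := by
  unfold gs
  exact Fintype.sum_equiv e _ _ (fun v => by rw [h])

/-- The relation between the Gauss sum and the number of zeros. -/
theorem gs_card [CharP K 2] {W : Type*} [Fintype W] [AddCommGroup W] [Module K W] [DecidableEq W] {ψ : K → ℤ} (hψ : IsCh ψ)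
    (f : W → K) [DecidablePred fun v => f v = 0] (hf : ∀ (c : K) (v : W), f (c • v) = c ^ 2 * f v) :
    ((Fintype.card K : ℤ) - 1) * gs ψ f =
      (Fintype.card K : ℤ) * ((Finset.univ.filter fun v => f v = 0).card : ℤ) - (Fintype.card W : ℤ) := by
  classical
  -- scaling
  have hscale : ∀ c : K, c ≠ 0 → gs ψ f = ∑ v, ψ (c ^ 2 * f v) := by
    intro c hc
    unfold gs
    refine (Fintype.sum_equiv (MulAction.toPerm (Units.mk0 c hc)) _ _ (fun v => ?_)).symm
    simp only [MulAction.toPerm_apply, Units.smul_mk0, hf]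
  -- squaring
  have hsq : Function.Bijective (fun c : K => c ^ 2) := by
    apply Finite.injective_iff_bijective.mp
    intro x y hxy
    have h1 : (x - y) ^ 2 = 0 := by
      have h2 : (2 : K) = 0 := CharTwo.two_eq_zero
      have h3 : x ^ 2 = y ^ 2 := hxy
      grind
    exact sub_eq_zero.mp (pow_eq_zero_iff (two_ne_zero) |>.mp h1)
  have hsum : ∀ t : K, t ≠ 0 → ∑ c ∈ Finset.univ.erase (0 : K), ψ (c ^ 2 * t) = -1 := by
    intro t ht
    rw [← hψ.sum_mul_units ht]
    refine Finset.sum_bij (fun c _ => c ^ 2) ?_ ?_ ?_ ?_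
    · intro c hc
      simp only [Finset.mem_erase, Finset.mem_univ, and_true] at hc ⊢
      exact pow_ne_zero 2 hc
    · intro a _ b _ hab
      exact hsq.1 hab
    · intro b hb
      obtain ⟨c, hc⟩ := hsq.2 b
      simp only [Finset.mem_erase, Finset.mem_univ, and_true] at hb
      refine ⟨c, ?_, hc⟩
      simp only [Finset.mem_erase, Finset.mem_univ, and_true]
      rintro rfl
      apply hb
      rw [← hc]
      simp
    · intro _ _
      rfl
  have hcardK : ((Finset.univ.erase (0 : K)).card : ℤ) = (Fintype.card K : ℤ) - 1 := by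
    rw [Finset.card_erase_of_mem (Finset.mem_univ _), Finset.card_univ]
    have : 1 ≤ Fintype.card K := Fintype.card_pos
    push_cast [Nat.cast_sub this]
    ring
  calc ((Fintype.card K : ℤ) - 1) * gs ψ f
      = ∑ c ∈ Finset.univ.erase (0 : K), gs ψ f := by
        rw [Finset.sum_const, nsmul_eq_mul, hcardK]
    _ = ∑ c ∈ Finset.univ.erase (0 : K), ∑ v, ψ (c ^ 2 * f v) := by
        refine Finset.sum_congr rfl fun c hc => hscale c (Finset.ne_of_mem_erase hc)
    _ = ∑ v, ∑ c ∈ Finset.univ.erase (0 : K), ψ (c ^ 2 * f v) := Finset.sum_comm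
    _ = ∑ v, (if f v = 0 then (Fintype.card K : ℤ) - 1 else -1) := by
        refine Finset.sum_congr rfl fun v _ => ?_
        split_ifs with h
        · rw [h]
          simp only [mul_zero, hψ.zero, Finset.sum_const, nsmul_eq_mul, mul_one, hcardK]
        · exact hsum _ h
    _ = ∑ v, ((if f v = 0 then (Fintype.card K : ℤ) else 0) - 1) := by
        refine Finset.sum_congr rfl fun v _ => ?_
        split_ifs <;> ring
    _ = _ := by
        rw [Finset.sum_sub_distrib, Finset.sum_ite, Finset.sum_const_zero, add_zero, Finset.sum_const,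
          nsmul_eq_mul, Finset.sum_const, nsmul_eq_mul, mul_one, Finset.card_univ]
        ring

theorem gs_hyp (hK : True) {ψ : K → ℤ} (hψ : IsCh ψ) : gs ψ (fun v : K × K => v.1 * v.2) = (Fintype.card K : ℤ) := by
  classical
  unfold gs
  rw [Fintype.sum_prod_type]
  rw [← Finset.add_sum_erase Finset.univ _ (Finset.mem_univ (0 : K))]
  have h1 : ∑ y : K, ψ (0 * y) = (Fintype.card K : ℤ) := by
    simp [hψ.zero]
  have h2 : ∑ x ∈ Finset.univ.erase (0 : K), ∑ y : K, ψ (x * y) = 0 :=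
    Finset.sum_eq_zero fun x hx => hψ.sum_mul (Finset.ne_of_mem_erase hx)
  simp only at h1 h2 ⊢
  rw [h1, h2, add_zero]

end gauss

/-! ### The predicate -/

section R

variable {F : Type*} [Field F] [Fintype F]

/-- A form on `F^(2m)` with Gauss sum sign `ε` and an isometry of order `n`. -/
def R (ψ : F → ℤ) (m : ℕ) (ε : ℤˣ) (n : ℕ) : Prop :=
  ∃ (Q : QuadraticForm F (Fin (2 * m) → F)), ND Q ∧
    gs ψ (fun v => Q v) = (ε : ℤ) * (Fintype.card F : ℤ) ^ m ∧
    ∃ g : OG Q, orderOf g = n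

/-- Transport from any finite space. -/
theorem R.of {ψ : F → ℤ} {m : ℕ} {ε : ℤˣ} {n : ℕ} {V : Type*} [AddCommGroup V] [Module F V]
    [Fintype V] (hd : finrank F V = 2 * m) (Q : QuadraticForm F V) (hQ : ND Q)
    (hS : gs ψ (fun v => Q v) = (ε : ℤ) * (Fintype.card F : ℤ) ^ m) (g : OG Q) (hg : orderOf g = n) :
    R ψ m ε n := by
  classical
  haveI : FiniteDimensional F V := Module.Finite.of_finite
  have hfr : finrank F V = finrank F (Fin (2 * m) → F) := by simp [hd]
  let e : V ≃ₗ[F] (Fin (2 * m) → F) := LinearEquiv.ofFinrankEq _ _ hfr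
  let Q' : QuadraticForm F (Fin (2 * m) → F) := Q.comp e.symm.toLinearMap
  have hQ' : ∀ v, Q' (e v) = Q v := by
    intro v
    simp [Q']
  refine ⟨Q', ?_, ?_, OG.congr e hQ' g, ?_⟩
  · intro x hx
    have : e.symm x = 0 := by
      apply hQ
      intro y
      have h1 := hx (e y)
      simp only [polar, ← map_add] at h1 ⊢
      have h2 : Q (e.symm x + y) = Q' (x + e y) := by
        rw [← hQ', map_add, e.apply_symm_apply]
      have h3 : Q (e.symm x) = Q' x := by
        rw [← hQ', e.apply_symm_apply]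
      rw [h2, h3, ← hQ' y]
      exact h1
    simpa using this
  · rw [← hS]
    exact (gs_congr ψ e.toEquiv (fun v => hQ' v)).symm
  · rw [MulEquiv.orderOf_eq, hg]

/-- The data of `R` in the form of a finite space. -/
theorem R.pow {ψ : F → ℤ} {m : ℕ} {ε : ℤˣ} {n d : ℕ} (h : R ψ m ε n) (hn : n ≠ 0) (hd : d ∣ n) : R ψ m ε d := by
  obtain ⟨Q, hQ, hS, g, rfl⟩ := h
  exact ⟨Q, hQ, hS, g ^ (orderOf g / d), orderOf_pow_orderOf_div hn hd⟩

theorem R.ne_zero {ψ : F → ℤ} {m : ℕ} {ε : ℤˣ} {n : ℕ} (h : R ψ m ε n) : n ≠ 0 := by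
  obtain ⟨Q, hQ, hS, g, rfl⟩ := h
  haveI : Finite ((Fin (2 * m) → F) ≃ₗ[F] (Fin (2 * m) → F)) :=
    Finite.of_injective (fun g => (g : (Fin (2 * m) → F) → (Fin (2 * m) → F))) (fun a b h => LinearEquiv.coe_injective h)
  exact (orderOf_pos g).ne'

theorem ND_prod {V W : Type*} [AddCommGroup V] [Module F V] [AddCommGroup W] [Module F W]
    {Q : QuadraticForm F V} {Q' : QuadraticForm F W} (hQ : ND Q) (hQ' : ND Q') : ND (Q.prod Q') := by
  rintro ⟨x, x'⟩ h
  have h1 : x = 0 := by
    apply hQ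
    intro y
    have := h (y, 0)
    simpa [polar, QuadraticMap.prod_apply, map_zero] using this
  have h2 : x' = 0 := by
    apply hQ'
    intro y
    have := h (0, y)
    simpa [polar, QuadraticMap.prod_apply, map_zero] using this
  rw [h1, h2]
  rfl

/-- Orthogonal sums. -/
def OG.prodMap {V W : Type*} [AddCommGroup V] [Module F V] [AddCommGroup W] [Module F W]
    {Q : QuadraticForm F V} {Q' : QuadraticForm F W} : OG Q × OG Q' →* OG (Q.prod Q') where
  toFun g := ⟨(g.1 : V ≃ₗ[F] V).prodCongr (g.2 : W ≃ₗ[F] W), by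
    rintro ⟨x, y⟩
    simp [QuadraticMap.prod_apply, OG_apply]⟩
  map_one' := by
    apply Subtype.ext
    ext <;> rfl
  map_mul' a b := by
    apply Subtype.ext
    ext <;> rfl

theorem OG.prodMap_injective {V W : Type*} [AddCommGroup V] [Module F V] [AddCommGroup W] [Module F W]
    {Q : QuadraticForm F V} {Q' : QuadraticForm F W} :
    Function.Injective (OG.prodMap (Q := Q) (Q' := Q')) := by
  intro a b h
  have h' := congrArg Subtype.val h
  apply Prod.ext
  · apply Subtype.ext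
    apply LinearEquiv.ext
    intro x
    have := congrArg (fun φ : (V × W) ≃ₗ[F] (V × W) => (φ (x, 0)).1) h'
    simpa [OG.prodMap] using this
  · apply Subtype.ext
    apply LinearEquiv.ext
    intro x
    have := congrArg (fun φ : (V × W) ≃ₗ[F] (V × W) => (φ (0, x)).2) h'
    simpa [OG.prodMap] using this

theorem R.sum {ψ : F → ℤ} (hψ : IsCh ψ) {m m' : ℕ} {ε ε' : ℤˣ} {n n' : ℕ} (h : R ψ m ε n) (h' : R ψ m' ε' n') :
    R ψ (m + m') (ε * ε') (Nat.lcm n n') := by
  classical
  obtain ⟨Q, hQ, hS, g, rfl⟩ := h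
  obtain ⟨Q', hQ', hS', g', rfl⟩ := h'
  refine R.of (V := (Fin (2 * m) → F) × (Fin (2 * m') → F)) ?_ (Q.prod Q') (ND_prod hQ hQ') ?_
    (OG.prodMap (g, g')) ?_
  · simp
    ring
  · have h1 : gs ψ (fun v : (Fin (2 * m) → F) × (Fin (2 * m') → F) => (Q.prod Q') v) =
        gs ψ (fun v : (Fin (2 * m) → F) × (Fin (2 * m') → F) => Q v.1 + Q' v.2) := rfl
    rw [h1, gs_prod hψ, hS, hS']
    push_cast
    ring
  · rw [orderOf_injective _ OG.prodMap_injective, Prod.orderOf_mk]

/-- The zero space. -/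
theorem R.nil {ψ : F → ℤ} (hψ : IsCh ψ) : R ψ 0 1 1 := by
  refine R.of (V := PUnit) (finrank_zero_of_subsingleton) 0 ?_ ?_ 1 orderOf_one
  · intro x _
    exact Subsingleton.elim _ _
  · simp [gs, hψ.zero]

/-- From a form of the right Gauss sum in dimension `8` to the standard minus form. -/
theorem R.to_target [CharP F 2] {ψ : F → ℤ} (hψ : IsCh ψ) {k n : ℕ} (h : R ψ (k + 1) (-1) n) (a b : F)
    (hab : ∀ z₁ z₂ : F, z₁ ^ 2 + a * z₁ * z₂ + b * z₂ ^ 2 = 0 → z₁ = 0 ∧ z₂ = 0) :
    ∃ (Q' : OG (qMinus k a b)), orderOf Q' = n := by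
  classical
  obtain ⟨Q, hQ, hS, g, rfl⟩ := h
  have hq1 : (1 : ℤ) < Fintype.card F := by exact_mod_cast Fintype.one_lt_card
  have hc := gs_card hψ (fun v => Q v) (fun c v => by rw [Q_sm])
  have hcardV : (Fintype.card (Fin (2 * (k + 1)) → F) : ℤ) = (Fintype.card F : ℤ) ^ (2 * (k + 1)) := by
    rw [Fintype.card_fun, Fintype.card_fin]
    push_cast
    ring
  have hz : (Nat.card {v // Q v = 0} : ℤ) = ((Finset.univ.filter fun v => Q v = 0).card : ℤ) := by
    rw [Nat.card_eq_fintype_card, Fintype.card_subtype]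
  have hne : (Nat.card {v // Q v = 0} : ℤ) ≠ (Fintype.card F : ℤ) ^ (2 * k + 1) + (Fintype.card F : ℤ) ^ (k + 1) - (Fintype.card F : ℤ) ^ k := by
    intro heq
    rw [hS, hcardV, ← hz, heq] at hc
    set q : ℤ := (Fintype.card F : ℤ) with hq
    have hpos : 0 < q ^ (k + 1) := by positivity
    have h3 : 2 * q ^ (k + 1) * (q - 1) * (q ^ k) * q = 0 := by
      simp only [Units.val_neg, Units.val_one] at hc
      have : (2 : ℤ) * q ^ (k + 1) * (q - 1) * (q ^ k) * q = (q * (q ^ (2 * k + 1) + q ^ (k + 1) - q ^ k) - q ^ (2 * (k + 1))) * q ^ k * q + q ^ (k + 1) * (q - 1) * q ^ k * q := by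
        ring
      rw [this, ← hc]
      ring
    have h4 : q - 1 ≠ 0 := by omega
    have h5 : q ≠ 0 := by omega
    have h6 : (2 : ℤ) * q ^ (k + 1) ≠ 0 := by positivity
    exact (mul_ne_zero (mul_ne_zero (mul_ne_zero h6 h4) (pow_ne_zero _ h5)) h5) h3
  have hV : finrank F (Fin (2 * (k + 1)) → F) = 2 * (k + 1) := by simp
  obtain ⟨e, he⟩ := iso_qMinus hV Q hQ hne a b hab
  exact ⟨OG.congr e he g, by rw [MulEquiv.orderOf_eq]⟩

end R

end Cfsg.Agent.Lib.GOm
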