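import Mathlib
import Cfsg.Agent.Lib.GOmA
import Cfsg.Agent.Lib.SpSpecTorus

/-!
# Tori in orthogonal groups, characteristic two: trace forms on `K × K`.
-/

set_option autoImplicit false
set_option linter.unusedSectionVars false
set_option linter.unusedSimpArgs false
set_option linter.unusedVariables false
set_option linter.style.haveILetI false

namespace Cfsg.Agent.Lib.GOm

open Module QuadraticMap
open Cfsg.Agent.Lib.QuadFF Cfsg.Agent.Lib.OrthoBasic Cfsg.Agent.Lib.OrthoCount Cfsg.Agent.Lib.QuadClass

section transfer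

variable {F K : Type*} [Field F] [Fintype F] [Field K] [Fintype K] [Algebra F K]

theorem IsCh.trace {ψ : F → ℤ} (hψ : IsCh ψ) : IsCh (fun t : K => ψ (Algebra.trace F K t)) where
  add s t := by simp only [map_add, hψ.add]
  nontriv := by
    obtain ⟨t, ht⟩ := hψ.nontriv
    obtain ⟨s, hs⟩ := Algebra.trace_surjective F K t
    exact ⟨s, by simp only [hs, ht]⟩

/-- A form over `K` seen over `F` by the trace. -/
noncomputable def trQ {W : Type*} [AddCommGroup W] [Module K W] [Module F W] [IsScalarTower F K W]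
    (A : QuadraticForm K W) : QuadraticForm F W :=
  (Algebra.trace F K).compQuadraticMap (QuadraticMap.restrictScalars (S := F) A)

theorem trQ_apply {W : Type*} [AddCommGroup W] [Module K W] [Module F W] [IsScalarTower F K W]
    (A : QuadraticForm K W) (v : W) : trQ (F := F) A v = Algebra.trace F K (A v) := rfl

theorem polar_trQ {W : Type*} [AddCommGroup W] [Module K W] [Module F W] [IsScalarTower F K W]
    (A : QuadraticForm K W) (u v : W) : polar (trQ (F := F) A) u v = Algebra.trace F K (polar A u v) := by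
  simp only [polar, trQ_apply, map_sub]

theorem ND_trQ {W : Type*} [AddCommGroup W] [Module K W] [Module F W] [IsScalarTower F K W]
    (A : QuadraticForm K W) (hA : ∀ u, u ≠ 0 → ∃ v, polar A u v ≠ 0) : ND (trQ (F := F) A) := by
  intro u hu
  by_contra hne
  obtain ⟨v, hv⟩ := hA u hne
  obtain ⟨s, hs⟩ := Algebra.trace_surjective F K (1 : F)
  have h := hu (((polar A u v)⁻¹ * s) • v)
  rw [polar_trQ, polar_smul_right] at h
  rw [smul_eq_mul, mul_comm _ (polar A u v), ← mul_assoc, mul_inv_cancel₀ hv, one_mul, hs] at h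
  exact one_ne_zero h

end transfer

section fixed

variable {K E : Type*} [Field K] [Fintype K] [Field E] [Algebra K E]

theorem mem_range_of_pow_card {x : E} (hx : x ^ Fintype.card K = x) : x ∈ Set.range (algebraMap K E) := by
  classical
  have hq1 : 1 < Fintype.card K := Fintype.one_lt_card
  set P : Polynomial E := Polynomial.X ^ Fintype.card K - Polynomial.X with hP
  have hP0 : P ≠ 0 := FiniteField.X_pow_card_sub_X_ne_zero E hq1
  have hdeg : P.natDegree = Fintype.card K := FiniteField.X_pow_card_sub_X_natDegree_eq E hq1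
  have hroot : ∀ y, y ^ Fintype.card K = y → y ∈ P.roots := by
    intro y hy
    rw [Polynomial.mem_roots hP0, Polynomial.IsRoot.def, hP]
    simp [hy]
  have hcard : P.roots.toFinset.card ≤ Fintype.card K := by
    calc P.roots.toFinset.card ≤ Multiset.card P.roots := Multiset.toFinset_card_le _
      _ ≤ P.natDegree := Polynomial.card_roots' _
      _ = _ := hdeg
  have hsub : (Finset.univ.image (algebraMap K E)) ⊆ P.roots.toFinset := by
    intro y hy
    obtain ⟨t, -, rfl⟩ := Finset.mem_image.mp hy
    rw [Multiset.mem_toFinset]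
    apply hroot
    rw [← map_pow, FiniteField.pow_card]
  have hc2 : (Finset.univ.image (algebraMap K E)).card = Fintype.card K := by
    rw [Finset.card_image_of_injective _ (algebraMap K E).injective, Finset.card_univ]
  have heq := Finset.eq_of_subset_of_card_le hsub (by rw [hc2]; exact hcard)
  have hxm : x ∈ P.roots.toFinset := Multiset.mem_toFinset.mpr (hroot x hx)
  rw [← heq] at hxm
  obtain ⟨t, -, rfl⟩ := Finset.mem_image.mp hxm
  exact ⟨t, rfl⟩

end fixed

section plus

variable {F K : Type*} [Field F] [Fintype F] [Field K] [Fintype K] [Algebra F K]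

/-- The hyperbolic form on `K × K`. -/
noncomputable def hypK (K : Type*) [Field K] : QuadraticForm K (K × K) :=
  linMulLin (LinearMap.fst K K K) (LinearMap.snd K K K)

theorem hypK_apply (v : K × K) : hypK K v = v.1 * v.2 := by
  simp [hypK]

theorem polar_hypK (u v : K × K) : polar (hypK K) u v = u.1 * v.2 + u.2 * v.1 := by
  simp only [polar, hypK_apply, Prod.fst_add, Prod.snd_add]
  ring

theorem ND_hypK (u : K × K) (hu : u ≠ 0) : ∃ v, polar (hypK K) u v ≠ 0 := by
  by_cases h1 : u.1 = 0
  · have h2 : u.2 ≠ 0 := by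
      intro h2
      exact hu (Prod.ext h1 h2)
    exact ⟨(1, 0), by simpa [polar_hypK] using h2⟩
  · exact ⟨(0, 1), by simpa [polar_hypK] using h1⟩

/-- The split torus. -/
noncomputable def gPlus (η : Kˣ) : (K × K) ≃ₗ[F] (K × K) where
  toFun v := ((η : K) * v.1, ((η⁻¹ : Kˣ) : K) * v.2)
  invFun v := (((η⁻¹ : Kˣ) : K) * v.1, (η : K) * v.2)
  map_add' x y := by
    ext <;> simp [mul_add]
  map_smul' c x := by
    ext <;> simp [mul_smul_comm]
  left_inv x := by
    ext <;> simp
  right_inv x := by
    ext <;> simp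

noncomputable def gPlusHom (F : Type*) [Field F] [Fintype F] [Algebra F K] : Kˣ →* OG (trQ (F := F) (hypK K)) where
  toFun η := ⟨gPlus η, by
    intro x
    rw [trQ_apply, trQ_apply, hypK_apply, hypK_apply]
    congr 1
    show ((η : K) * x.1) * (((η⁻¹ : Kˣ) : K) * x.2) = x.1 * x.2
    rw [mul_mul_mul_comm, Units.mul_inv, one_mul]⟩
  map_one' := by
    apply Subtype.ext
    apply LinearEquiv.ext
    intro x
    ext <;> simp [gPlus]
  map_mul' a b := by
    apply Subtype.ext
    apply LinearEquiv.ext
    intro x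
    ext
    · show ((a * b : Kˣ) : K) * x.1 = (a : K) * ((b : K) * x.1)
      simp [mul_assoc]
    · show (((a * b)⁻¹ : Kˣ) : K) * x.2 = ((a⁻¹ : Kˣ) : K) * (((b⁻¹ : Kˣ) : K) * x.2)
      rw [mul_inv_rev, ← mul_assoc, ← Units.val_mul, ← mul_inv_rev, mul_comm a b, mul_inv_rev]

theorem gPlusHom_injective (F : Type*) [Field F] [Fintype F] [Algebra F K] :
    Function.Injective (gPlusHom (K := K) F) := by
  intro a b h
  have h' := congrArg Subtype.val h
  have := congrArg (fun φ : (K × K) ≃ₗ[F] (K × K) => (φ (1, 0)).1) h'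
  apply Units.ext
  have h2 : ((a : K) * 1) = (b : K) * 1 := this
  simpa using h2

theorem R_plus_aux (K : Type*) [Field K] [Fintype K] [Algebra F K] {ψ : F → ℤ} (hψ : IsCh ψ) {e : ℕ}
    (hK : Fintype.card K = Fintype.card F ^ e) (hfr : finrank F K = e) :
    R ψ e 1 (Fintype.card F ^ e - 1) := by
  classical
  obtain ⟨η, hη⟩ := Cfsg.Agent.Lib.SpSpec.exists_unit_order K (Fintype.card F ^ e - 1) (by rw [hK])
  refine R.of (V := K × K) ?_ (trQ (F := F) (hypK K)) (ND_trQ _ ND_hypK) ?_ (gPlusHom F η) ?_
  · simp [hfr]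
    ring
  · have h := gs_hyp (K := K) trivial (IsCh.trace (K := K) hψ)
    have h6 : gs ψ (fun v : K × K => trQ (F := F) (hypK K) v) =
        gs (fun t : K => ψ (Algebra.trace F K t)) (fun v : K × K => v.1 * v.2) := by
      unfold gs
      refine Fintype.sum_congr _ _ fun v => ?_
      show ψ (trQ (F := F) (hypK K) v) = ψ (Algebra.trace F K (v.1 * v.2))
      rw [trQ_apply, hypK_apply]
    rw [h6, h, hK]
    push_cast
    simp
  · rw [orderOf_injective _ (gPlusHom_injective F), hη]

end plus

section minus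

variable {F K : Type*} [Field F] [Fintype F] [Field K] [Fintype K] [Algebra F K] [CharP K 2]

/-- The binary form `z₁² + c z₁ z₂ + z₂²`. -/
noncomputable def aniK (c : K) : QuadraticForm K (K × K) :=
  linMulLin (LinearMap.fst K K K) (LinearMap.fst K K K) + c • linMulLin (LinearMap.fst K K K) (LinearMap.snd K K K)
    + linMulLin (LinearMap.snd K K K) (LinearMap.snd K K K)

theorem aniK_apply (c : K) (v : K × K) : aniK c v = v.1 ^ 2 + c * v.1 * v.2 + v.2 ^ 2 := by
  simp [aniK]
  ring

theorem polar_aniK (c : K) (u v : K × K) : polar (aniK c) u v = c * (u.1 * v.2 + u.2 * v.1) := by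
  have h2 : (2 : K) = 0 := CharTwo.two_eq_zero
  simp only [polar, aniK_apply, Prod.fst_add, Prod.snd_add]
  grind

theorem ND_aniK {c : K} (hc : c ≠ 0) (u : K × K) (hu : u ≠ 0) : ∃ v, polar (aniK c) u v ≠ 0 := by
  by_cases h1 : u.1 = 0
  · have h2 : u.2 ≠ 0 := by
      intro h2
      exact hu (Prod.ext h1 h2)
    exact ⟨(1, 0), by simpa [polar_aniK, hc] using h2⟩
  · exact ⟨(0, 1), by simpa [polar_aniK, hc] using h1⟩

/-- The nonsplit torus generator. -/
noncomputable def gMinus (F : Type*) [Field F] [Algebra F K] (c : K) : (K × K) ≃ₗ[F] (K × K) where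
  toFun v := (v.2, v.1 + c * v.2)
  invFun v := (c * v.1 + v.2, v.1)
  map_add' x y := by
    ext <;> simp <;> ring
  map_smul' a x := by
    ext
    · simp
    · simp [mul_smul_comm]
  left_inv x := by
    have h2 : (2 : K) = 0 := CharTwo.two_eq_zero
    ext
    · simp only
      grind
    · rfl
  right_inv x := by
    have h2 : (2 : K) = 0 := CharTwo.two_eq_zero
    ext
    · rfl
    · simp only
      grind

theorem gMinus_mem (c : K) : gMinus F c ∈ OG (trQ (F := F) (aniK c)) := by
  have h2 : (2 : K) = 0 := CharTwo.two_eq_zero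
  intro x
  rw [trQ_apply, trQ_apply, aniK_apply, aniK_apply]
  congr 1
  show x.2 ^ 2 + c * x.2 * (x.1 + c * x.2) + (x.1 + c * x.2) ^ 2 = _
  grind

theorem R_minus_aux (K : Type*) [Field K] [Fintype K] [Algebra F K] [CharP K 2] {ψ : F → ℤ} (hψ : IsCh ψ) {e : ℕ}
    (hK : Fintype.card K = Fintype.card F ^ e) (hfr : finrank F K = e)
    {E : Type*} [Field E] [Algebra K E] (ω : E) (hω : ω ^ (Fintype.card K + 1) = 1) (hω2 : ω ^ 2 ≠ 1)
    (hord : ∀ k, ω ^ k = 1 → Fintype.card K + 1 ∣ k) :
    R ψ e (-1) (Fintype.card F ^ e + 1) := by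
  classical
  haveI : CharP E 2 := charP_of_injective_algebraMap (algebraMap K E).injective 2
  have h2E : (2 : E) = 0 := CharTwo.two_eq_zero
  have h2K : (2 : K) = 0 := CharTwo.two_eq_zero
  set κ := Fintype.card K with hκ
  have hω0 : ω ≠ 0 := by
    rintro rfl
    rw [zero_pow (by omega)] at hω
    exact zero_ne_one hω
  have hωκ : ω ^ κ = ω⁻¹ := by
    rw [pow_succ] at hω
    exact eq_inv_of_mul_eq_one_left hω
  -- the fixed elements
  have hnot : ∀ t : K, algebraMap K E t ≠ ω := by
    intro t ht
    apply hω2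
    have h1 : (algebraMap K E t) ^ κ = algebraMap K E t := by
      rw [← map_pow, hκ, FiniteField.pow_card]
    rw [ht, hωκ] at h1
    rw [pow_two]
    nth_rewrite 1 [← h1]
    exact inv_mul_cancel₀ hω0
  have hnot' : ∀ t : K, algebraMap K E t ≠ ω⁻¹ := by
    intro t ht
    apply hnot t⁻¹
    rw [map_inv₀, ht, inv_inv]
  -- the trace of `ω`
  have hκ2 : ∃ f, κ = 2 ^ f := by
    obtain ⟨f, hf, hcard⟩ := FiniteField.card K 2
    exact ⟨f, hcard⟩
  have hcfix : (ω + ω⁻¹) ^ κ = ω + ω⁻¹ := by
    obtain ⟨f, hf⟩ := hκ2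
    rw [hf, add_pow_char_pow, ← hf, hωκ, inv_pow, hωκ, inv_inv, add_comm]
  obtain ⟨c, hc⟩ := mem_range_of_pow_card (K := K) hcfix
  have hc0 : c ≠ 0 := by
    rintro rfl
    rw [map_zero] at hc
    apply hω2
    have h1 : ω = ω⁻¹ := by
      linear_combination (-1 : E) * hc - ω⁻¹ * h2E
    rw [pow_two]
    nth_rewrite 1 [h1]
    exact inv_mul_cancel₀ hω0
  -- the coordinates
  let Φ : K × K → E := fun z => algebraMap K E z.1 + algebraMap K E z.2 * ω
  let Φ' : K × K → E := fun z => algebraMap K E z.1 + algebraMap K E z.2 * ω⁻¹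
  have hΦ0 : ∀ z, Φ z = 0 → z = 0 := by
    intro z hz
    by_cases h : z.2 = 0
    · have h1 : z.1 = 0 := by
        have : algebraMap K E z.1 = 0 := by simpa [Φ, h] using hz
        simpa using this
      exact Prod.ext h1 h
    · exfalso
      apply hnot (z.1 / z.2)
      have h3 : algebraMap K E z.2 ≠ 0 := by simpa using h
      rw [map_div₀]
      field_simp
      have h4 : algebraMap K E z.1 + algebraMap K E z.2 * ω = 0 := hz
      grind
  have hΦ'0 : ∀ z, Φ' z = 0 → z = 0 := by
    intro z hz
    by_cases h : z.2 = 0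
    · have h1 : z.1 = 0 := by
        have : algebraMap K E z.1 = 0 := by simpa [Φ', h] using hz
        simpa using this
      exact Prod.ext h1 h
    · exfalso
      apply hnot' (z.1 / z.2)
      have h3 : algebraMap K E z.2 ≠ 0 := by simpa using h
      rw [map_div₀]
      field_simp
      have h4 : algebraMap K E z.1 + algebraMap K E z.2 * ω⁻¹ = 0 := hz
      grind
  have hΦinj : ∀ z w, Φ z = Φ w → z = w := by
    intro z w h
    have h1 : Φ (z - w) = 0 := by
      have : Φ (z - w) = Φ z - Φ w := by
        simp only [Φ, Prod.fst_sub, Prod.snd_sub, map_sub]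
        ring
      rw [this, h, sub_self]
    exact sub_eq_zero.mp (hΦ0 _ h1)
  have hnorm : ∀ z, algebraMap K E (aniK c z) = Φ z * Φ' z := by
    intro z
    rw [aniK_apply]
    simp only [map_add, map_mul, map_pow, hc, Φ, Φ']
    field_simp
    ring
  have hani : ∀ z, aniK c z = 0 → z = 0 := by
    intro z hz
    have h1 := hnorm z
    rw [hz, map_zero] at h1
    rcases mul_eq_zero.mp h1.symm with h | h
    · exact hΦ0 z h
    · exact hΦ'0 z h
  -- the action
  have hact : ∀ z, Φ (gMinus F c z) = ω * Φ z := by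
    intro z
    show algebraMap K E z.2 + algebraMap K E (z.1 + c * z.2) * ω = ω * (algebraMap K E z.1 + algebraMap K E z.2 * ω)
    rw [map_add, map_mul, hc]
    have : (ω + ω⁻¹) * ω = ω ^ 2 + 1 := by
      field_simp
    grind
  let g : OG (trQ (F := F) (aniK c)) := ⟨gMinus F c, gMinus_mem c⟩
  have hpow : ∀ (k : ℕ) z, Φ (((g ^ k : OG (trQ (F := F) (aniK c))) : (K × K) ≃ₗ[F] (K × K)) z) = ω ^ k * Φ z := by
    intro k
    induction k with
    | zero => intro z; simp
    | succ k ih =>
      intro z
      rw [pow_succ']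
      show Φ (gMinus F c (((g ^ k : OG (trQ (F := F) (aniK c))) : (K × K) ≃ₗ[F] (K × K)) z)) = _
      rw [hact, ih, pow_succ']
      ring
  have hgord : orderOf g = κ + 1 := by
    apply Nat.dvd_antisymm
    · apply orderOf_dvd_of_pow_eq_one
      apply Subtype.ext
      apply LinearEquiv.ext
      intro z
      apply hΦinj
      rw [hpow, hω, one_mul]
      rfl
    · apply hord
      have h := hpow (orderOf g) (1, 0)
      rw [pow_orderOf_eq_one] at h
      have h3 : Φ (1, 0) = 1 := by simp [Φ]
      have h4 : Φ (((1 : OG (trQ (F := F) (aniK c))) : (K × K) ≃ₗ[F] (K × K)) (1, 0)) = 1 := h3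
      rw [h4, h3, mul_one] at h
      exact h.symm
  refine R.of (V := K × K) ?_ (trQ (F := F) (aniK c)) (ND_trQ _ (ND_aniK hc0)) ?_ g ?_
  · simp [hfr]
    ring
  · -- the Gauss sum
    have hψ' := IsCh.trace (K := K) hψ
    have hcard := gs_card hψ' (fun v : K × K => aniK c v) (fun a v => Q_sm _ a v)
    have hfilter : (Finset.univ.filter fun v : K × K => aniK c v = 0) = {0} := by
      ext v
      simp only [Finset.mem_filter, Finset.mem_univ, true_and, Finset.mem_singleton]
      exact ⟨hani v, fun h => by rw [h, map_zero]⟩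
    rw [hfilter, Finset.card_singleton, Fintype.card_prod] at hcard
    have h1 : (1 : ℤ) < κ := by exact_mod_cast Fintype.one_lt_card
    have h3 : ((κ : ℤ) - 1) * (gs (fun t : K => ψ (Algebra.trace F K t)) (fun v : K × K => aniK c v) + κ) = 0 := by
      push_cast at hcard
      rw [mul_add, hcard]
      ring
    have h4 : gs (fun t : K => ψ (Algebra.trace F K t)) (fun v : K × K => aniK c v) = -(κ : ℤ) := by
      have h5 := (mul_eq_zero.mp h3).resolve_left (by omega)
      omega
    have h6 : gs ψ (fun v : K × K => trQ (F := F) (aniK c) v) = gs (fun t : K => ψ (Algebra.trace F K t)) (fun v : K × K => aniK c v) := rfl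
    rw [h6, h4, hK]
    push_cast
    simp
  · rw [hgord, hK]

/-- Existence of the characters. -/
theorem exists_ch (F : Type*) [Field F] [Fintype F] [CharP F 2] : ∃ ψ : F → ℤ, IsCh ψ := by
  classical
  letI : Algebra (ZMod 2) F := ZMod.algebra F 2
  obtain ⟨s, hs⟩ := Algebra.trace_surjective (ZMod 2) F (1 : ZMod 2)
  refine ⟨fun t => if Algebra.trace (ZMod 2) F t = 0 then 1 else -1, ?_, s, ?_⟩
  · intro x y
    have key : ∀ a b : ZMod 2, (if a + b = 0 then (1 : ℤ) else -1) = (if a = 0 then 1 else -1) * (if b = 0 then 1 else -1) := by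
      decide
    simp only [map_add]
    exact key _ _
  · simp only [hs]
    decide

variable [CharP F 2]

/-- The plus piece. -/
theorem R_plus {ψ : F → ℤ} (hψ : IsCh ψ) {e : ℕ} (he : e ≠ 0) : R ψ e 1 (Fintype.card F ^ e - 1) := by
  classical
  haveI : NeZero e := ⟨he⟩
  let K := FiniteField.Extension F 2 e
  haveI : Fintype K := Fintype.ofFinite K
  have hfr : finrank F K = e := FiniteField.finrank_extension F 2 e
  have hcard : Fintype.card K = Fintype.card F ^ e := by
    rw [← Nat.card_eq_fintype_card, ← Nat.card_eq_fintype_card]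
    exact FiniteField.natCard_extension F 2 e
  exact R_plus_aux K hψ hcard hfr

/-- The minus piece. -/
theorem R_minus {ψ : F → ℤ} (hψ : IsCh ψ) {e : ℕ} (he : e ≠ 0) : R ψ e (-1) (Fintype.card F ^ e + 1) := by
  classical
  haveI : NeZero e := ⟨he⟩
  let K := FiniteField.Extension F 2 e
  haveI : Fintype K := Fintype.ofFinite K
  have hfr : finrank F K = e := FiniteField.finrank_extension F 2 e
  have hcard : Fintype.card K = Fintype.card F ^ e := by
    rw [← Nat.card_eq_fintype_card, ← Nat.card_eq_fintype_card]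
    exact FiniteField.natCard_extension F 2 e
  haveI : CharP K 2 := charP_of_injective_algebraMap (algebraMap F K).injective 2
  let E := FiniteField.Extension K 2 2
  haveI : Fintype E := Fintype.ofFinite E
  have hcardE : Fintype.card E = Fintype.card K ^ 2 := by
    rw [← Nat.card_eq_fintype_card, ← Nat.card_eq_fintype_card]
    exact FiniteField.natCard_extension K 2 2
  set κ := Fintype.card K with hκ
  have hκ2 : 2 ≤ κ := Fintype.one_lt_card
  have hdvd : κ + 1 ∣ Fintype.card E - 1 := by
    rw [hcardE]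
    obtain ⟨r, hr⟩ : ∃ r, κ = r + 1 := ⟨κ - 1, by omega⟩
    refine ⟨r, ?_⟩
    rw [hr]
    have : (r + 1) ^ 2 - 1 = (r + 1 + 1) * r := by
      have h5 : (r + 1) ^ 2 = (r + 1 + 1) * r + 1 := by ring
      omega
    exact this
  obtain ⟨η, hη⟩ := Cfsg.Agent.Lib.SpSpec.exists_unit_order E (κ + 1) hdvd
  have hpowiff : ∀ k : ℕ, (η : E) ^ k = 1 ↔ η ^ k = 1 := by
    intro k
    constructor
    · intro h
      apply Units.ext
      simpa using h
    · intro h
      have := congrArg Units.val h
      simpa using this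
  refine R_minus_aux K hψ hcard hfr (η : E) ((hpowiff _).mpr ?_) ?_ ?_
  · rw [← hη]
    exact pow_orderOf_eq_one η
  · intro h
    have h1 := (hpowiff 2).mp h
    have h3 := orderOf_dvd_of_pow_eq_one h1
    rw [hη] at h3
    have := Nat.le_of_dvd (by norm_num) h3
    omega
  · intro k hk
    rw [← hη]
    exact orderOf_dvd_of_pow_eq_one ((hpowiff k).mp hk)

end minus

end Cfsg.Agent.Lib.GOm
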