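import Mathlib
import Cfsg.Agent.Lib.GOmB
import Cfsg.Agent.Lib.OrthGroup
import Cfsg.Agent.Lib.AltRank

/-!
# Isometries with parity and norm data
-/

set_option autoImplicit false
set_option linter.unusedSectionVars false
set_option linter.unusedSimpArgs false
set_option linter.unusedVariables false
set_option linter.style.haveILetI false

namespace Cfsg.Agent.Lib.GOm

open Module QuadraticMap
open Cfsg.Agent.Lib.QuadFF Cfsg.Agent.Lib.OrthoBasic Cfsg.Agent.Lib.OrthoCount Cfsg.Agent.Lib.QuadClass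
open Cfsg.Agent.Lib.OrthGroup (fix mem_fix)

variable {F : Type*} [Field F]

section nrm

variable {V : Type*} [AddCommGroup V] [Module F V]

/-- The norm element. -/
def Nrm (n : ℕ) (g : V ≃ₗ[F] V) (x : V) : V := ∑ i ∈ Finset.range n, (g ^ i) x

theorem Nrm_one (g : V ≃ₗ[F] V) (x : V) : Nrm 1 g x = x := by
  simp [Nrm]

theorem Nrm_add_mul {n : ℕ} {g : V ≃ₗ[F] V} (hg : g ^ n = 1) (k : ℕ) (x : V) :
    Nrm ((k + 1) * n) g x = Nrm (k * n) g x + Nrm n g x := by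
  unfold Nrm
  rw [add_mul, one_mul, Finset.sum_range_add]
  congr 1
  refine Finset.sum_congr rfl fun i _ => ?_
  rw [pow_add, pow_mul', hg, one_pow, one_mul]

theorem Nrm_odd_mul [CharP F 2] {n : ℕ} {g : V ≃ₗ[F] V} (hg : g ^ n = 1) {k : ℕ} (hk : Odd k) (x : V) :
    Nrm (k * n) g x = Nrm n g x := by
  have h2 : ∀ y : V, y + y = 0 := by
    intro y
    have : (2 : F) • y = 0 := by
      rw [CharTwo.two_eq_zero, zero_smul]
    rwa [two_smul] at this
  have key : ∀ j, Nrm ((2 * j + 1) * n) g x = Nrm n g x := by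
    intro j
    induction j with
    | zero => simp
    | succ j ih =>
      have h3 : 2 * (j + 1) + 1 = (2 * j + 1) + 1 + 1 := by ring
      rw [h3, Nrm_add_mul hg, Nrm_add_mul hg, ih, add_assoc, h2, add_zero]
  obtain ⟨j, rfl⟩ := hk
  exact key j

theorem Nrm_fix {n : ℕ} {g : V ≃ₗ[F] V} (hg : g ^ n = 1) (x : V) : g (Nrm n g x) = Nrm n g x := by
  unfold Nrm
  rw [map_sum]
  have h1 : ∀ i, g ((g ^ i) x) = (g ^ (i + 1)) x := by
    intro i
    rw [pow_succ']
    rfl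
  simp only [h1]
  have h2 := Finset.sum_range_succ' (fun i => (g ^ i) x) n
  have h3 := Finset.sum_range_succ (fun i => (g ^ i) x) n
  rw [h2] at h3
  simp only [pow_zero, hg, LinearEquiv.coe_one, id_eq] at h3
  exact add_right_cancel h3

theorem Nrm_conj {W : Type*} [AddCommGroup W] [Module F W] (φ : V ≃ₗ[F] W) (n : ℕ) (g : V ≃ₗ[F] V) (g' : W ≃ₗ[F] W)
    (h : ∀ v, g' (φ v) = φ (g v)) (x : V) : Nrm n g' (φ x) = φ (Nrm n g x) := by
  have hp : ∀ i v, (g' ^ i) (φ v) = φ ((g ^ i) v) := by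
    intro i
    induction i with
    | zero => intro v; rfl
    | succ i ih =>
      intro v
      rw [pow_succ', pow_succ']
      show g' ((g' ^ i) (φ v)) = φ (g ((g ^ i) v))
      rw [ih, h]
  unfold Nrm
  rw [map_sum]
  exact Finset.sum_congr rfl fun i _ => hp i x

end nrm

section evenfix

variable {V : Type*} [AddCommGroup V] [Module F V]

/-- An isometry of odd order has a nondegenerate, hence even-dimensional, fixed space. -/
theorem even_fix_of_odd [CharP F 2] [FiniteDimensional F V] {Q : QuadraticForm F V} (hQ : ND Q) (g : OG Q)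
    (hg : Odd (orderOf g)) : Even (finrank F (fix (g : V ≃ₗ[F] V))) := by
  classical
  set W := fix (g : V ≃ₗ[F] V) with hW
  have hgn : (g : V ≃ₗ[F] V) ^ orderOf g = 1 := by
    rw [← Subgroup.coe_pow, pow_orderOf_eq_one, Subgroup.coe_one]
  let BB : LinearMap.BilinForm F W := (polarBilin Q).compl₁₂ W.subtype W.subtype
  have hBB : ∀ x y : W, BB x y = polar Q x y := fun x y => rfl
  have halt : BB.IsAlt := by
    intro x
    rw [hBB, polar_self_eq, CharTwo.two_eq_zero, zero_mul]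
  obtain ⟨k, hk⟩ := Cfsg.Agent.Lib.AltRank.even_finrank_radical BB halt
  have hrad : BB.orthogonal ⊤ = ⊥ := by
    rw [eq_bot_iff]
    intro x hx
    rw [LinearMap.BilinForm.mem_orthogonal_iff] at hx
    have hx0 : (x : V) = 0 := by
      apply hQ
      intro v
      -- the norm of `v` is in the fixed space
      have hN : Nrm (orderOf g) (g : V ≃ₗ[F] V) v ∈ W := by
        rw [hW, mem_fix]
        exact Nrm_fix hgn v
      have h1 : BB ⟨_, hN⟩ x = 0 := hx _ (Submodule.mem_top)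
      have h2 : polar Q (Nrm (orderOf g) (g : V ≃ₗ[F] V) v) x = 0 := h1
      have hxfix : ∀ i : ℕ, ((g : V ≃ₗ[F] V) ^ i) (x : V) = x := by
        intro i
        induction i with
        | zero => rfl
        | succ i ih =>
          rw [pow_succ]
          show ((g : V ≃ₗ[F] V) ^ i) ((g : V ≃ₗ[F] V) (x : V)) = x
          rw [(mem_fix.mp x.2), ih]
      have h3 : ∀ i : ℕ, polar Q (((g : V ≃ₗ[F] V) ^ i) v) x = polar Q v x := by
        intro i
        have h4 := OG_polar Q (g ^ i) v x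
        have h5 : (((g ^ i : OG Q)) : V ≃ₗ[F] V) = (g : V ≃ₗ[F] V) ^ i := by
          simp
        rw [h5, hxfix i] at h4
        exact h4
      have h6 : polar Q (Nrm (orderOf g) (g : V ≃ₗ[F] V) v) x = (orderOf g : F) * polar Q v x := by
        unfold Nrm
        have h7 : ∀ (s : Finset ℕ), polar Q (∑ i ∈ s, ((g : V ≃ₗ[F] V) ^ i) v) x = ∑ i ∈ s, polar Q (((g : V ≃ₗ[F] V) ^ i) v) x := by
          intro s
          exact map_sum ((polarBilin Q).flip x) _ s
        rw [h7]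
        simp only [h3, Finset.sum_const, Finset.card_range, nsmul_eq_mul]
      obtain ⟨j, hj⟩ := hg
      have h8 : (orderOf g : F) = 1 := by
        rw [hj]
        push_cast
        rw [CharTwo.two_eq_zero]
        ring
      rw [h6, h8, one_mul] at h2
      have h9 := QuadraticMap.polar_comm Q x v
      rw [h9]
      exact h2
    simpa using hx0
  rw [hrad, finrank_bot, zero_add] at hk
  exact ⟨k, by omega⟩

end evenfix

section RG

variable [Fintype F]

/-- Form and isometry, with the parity of the fixed space and, if `b`, nonzero norm. -/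
def RG (ψ : F → ℤ) (m : ℕ) (ε : ℤˣ) (n : ℕ) (π : ZMod 2) (b : Prop) : Prop :=
  ∃ (Q : QuadraticForm F (Fin (2 * m) → F)), ND Q ∧
    gs ψ (fun v => Q v) = (ε : ℤ) * (Fintype.card F : ℤ) ^ m ∧
    ∃ g : OG Q, orderOf g = n ∧ ((finrank F (fix (g : (Fin (2 * m) → F) ≃ₗ[F] (Fin (2 * m) → F))) : ℕ) : ZMod 2) = π ∧
      (b → ∃ x, Nrm n (g : (Fin (2 * m) → F) ≃ₗ[F] (Fin (2 * m) → F)) x ≠ 0)

theorem RG.to_R {ψ : F → ℤ} {m : ℕ} {ε : ℤˣ} {n : ℕ} {π : ZMod 2} {b : Prop} (h : RG ψ m ε n π b) : R ψ m ε n := by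
  obtain ⟨Q, hQ, hS, g, hg, -, -⟩ := h
  exact ⟨Q, hQ, hS, g, hg⟩

theorem RG_of_odd [CharP F 2] {ψ : F → ℤ} {m : ℕ} {ε : ℤˣ} {n : ℕ} (h : R ψ m ε n) (hn : Odd n) : RG ψ m ε n 0 False := by
  obtain ⟨Q, hQ, hS, g, rfl⟩ := h
  refine ⟨Q, hQ, hS, g, rfl, ?_, False.elim⟩
  obtain ⟨k, hk⟩ := even_fix_of_odd hQ g hn
  rw [hk]
  push_cast
  rw [← two_mul]
  have : (2 : ZMod 2) = 0 := rfl
  rw [this, zero_mul]

section congr

variable {V W : Type*} [AddCommGroup V] [Module F V] [AddCommGroup W] [Module F W]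

theorem OG_congr_apply {Q : QuadraticForm F V} {Q' : QuadraticForm F W} (φ : V ≃ₗ[F] W) (h : ∀ v, Q' (φ v) = Q v)
    (g : OG Q) (v : V) : ((OG.congr φ h g : OG Q') : W ≃ₗ[F] W) (φ v) = φ ((g : V ≃ₗ[F] V) v) := by
  show φ ((g : V ≃ₗ[F] V) (φ.symm (φ v))) = _
  rw [φ.symm_apply_apply]

theorem finrank_fix_congr [FiniteDimensional F V] [FiniteDimensional F W] {Q : QuadraticForm F V} {Q' : QuadraticForm F W} (φ : V ≃ₗ[F] W) (h : ∀ v, Q' (φ v) = Q v)
    (g : OG Q) : finrank F (fix ((OG.congr φ h g : OG Q') : W ≃ₗ[F] W)) = finrank F (fix (g : V ≃ₗ[F] V)) := by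
  have h1 : fix ((OG.congr φ h g : OG Q') : W ≃ₗ[F] W) = (fix (g : V ≃ₗ[F] V)).map φ.toLinearMap := by
    ext y
    rw [mem_fix, Submodule.mem_map]
    constructor
    · intro hy
      refine ⟨φ.symm y, ?_, by simp⟩
      rw [mem_fix]
      have h2 := OG_congr_apply φ h g (φ.symm y)
      rw [φ.apply_symm_apply, hy] at h2
      apply φ.injective
      rw [← h2, φ.apply_symm_apply]
    · rintro ⟨v, hv, rfl⟩
      rw [mem_fix] at hv
      show ((OG.congr φ h g : OG Q') : W ≃ₗ[F] W) (φ v) = φ v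
      rw [OG_congr_apply, hv]
  rw [h1]
  exact LinearEquiv.finrank_map_eq φ _

theorem ND_congr {Q : QuadraticForm F V} {Q' : QuadraticForm F W} (φ : V ≃ₗ[F] W) (h : ∀ v, Q' (φ v) = Q v) (hQ : ND Q) : ND Q' := by
  intro x hx
  have : φ.symm x = 0 := by
    apply hQ
    intro y
    have h1 := hx (φ y)
    simp only [polar] at h1 ⊢
    rw [← h (φ.symm x + y), ← h (φ.symm x), ← h y, map_add, φ.apply_symm_apply]
    exact h1
  simpa using this

end congr

/-- Transport from any finite space. -/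
theorem RG.of {ψ : F → ℤ} {m : ℕ} {ε : ℤˣ} {n : ℕ} {π : ZMod 2} {b : Prop} {V : Type*} [AddCommGroup V] [Module F V]
    [Fintype V] (hd : finrank F V = 2 * m) (Q : QuadraticForm F V) (hQ : ND Q)
    (hS : gs ψ (fun v => Q v) = (ε : ℤ) * (Fintype.card F : ℤ) ^ m) (g : OG Q) (hg : orderOf g = n)
    (hπ : ((finrank F (fix (g : V ≃ₗ[F] V)) : ℕ) : ZMod 2) = π)
    (hb : b → ∃ x, Nrm n (g : V ≃ₗ[F] V) x ≠ 0) :
    RG ψ m ε n π b := by
  classical
  haveI : FiniteDimensional F V := Module.Finite.of_finite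
  have hfr : finrank F V = finrank F (Fin (2 * m) → F) := by simp [hd]
  let e : V ≃ₗ[F] (Fin (2 * m) → F) := LinearEquiv.ofFinrankEq _ _ hfr
  let Q' : QuadraticForm F (Fin (2 * m) → F) := Q.comp e.symm.toLinearMap
  have hQ' : ∀ v, Q' (e v) = Q v := by
    intro v
    simp [Q']
  refine ⟨Q', ND_congr e hQ' hQ, ?_, OG.congr e hQ' g, ?_, ?_, ?_⟩
  · rw [← hS]
    exact (gs_congr ψ e.toEquiv (fun v => hQ' v)).symm
  · rw [MulEquiv.orderOf_eq, hg]
  · rw [finrank_fix_congr, hπ]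
  · intro hb'
    obtain ⟨x, hx⟩ := hb hb'
    refine ⟨e x, ?_⟩
    rw [Nrm_conj e n (g : V ≃ₗ[F] V) _ (fun v => OG_congr_apply e hQ' g v)]
    exact fun h0 => hx (by simpa using h0)

theorem pow_prodMap {V W : Type*} [AddCommGroup V] [Module F V] [AddCommGroup W] [Module F W]
    {Q : QuadraticForm F V} {Q' : QuadraticForm F W} (g : OG Q) (g' : OG Q') (i : ℕ) (x : V) (x' : W) :
    (((OG.prodMap (g, g') : OG (Q.prod Q')) : (V × W) ≃ₗ[F] (V × W)) ^ i) (x, x') =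
      (((g : V ≃ₗ[F] V) ^ i) x, ((g' : W ≃ₗ[F] W) ^ i) x') := by
  induction i generalizing x x' with
  | zero => rfl
  | succ i ih =>
    rw [pow_succ, pow_succ, pow_succ]
    show (((OG.prodMap (g, g') : OG (Q.prod Q')) : (V × W) ≃ₗ[F] (V × W)) ^ i) ((g : V ≃ₗ[F] V) x, (g' : W ≃ₗ[F] W) x') = _
    rw [ih]
    rfl

theorem Nrm_prodMap {V W : Type*} [AddCommGroup V] [Module F V] [AddCommGroup W] [Module F W]
    {Q : QuadraticForm F V} {Q' : QuadraticForm F W} (g : OG Q) (g' : OG Q') (n : ℕ) (x : V) (x' : W) :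
    Nrm n ((OG.prodMap (g, g') : OG (Q.prod Q')) : (V × W) ≃ₗ[F] (V × W)) (x, x') =
      (Nrm n (g : V ≃ₗ[F] V) x, Nrm n (g' : W ≃ₗ[F] W) x') := by
  unfold Nrm
  simp only [pow_prodMap]
  rw [Prod.ext_iff]
  constructor
  · rw [Prod.fst_sum]
  · rw [Prod.snd_sum]

theorem finrank_fix_prodMap {V W : Type*} [AddCommGroup V] [Module F V] [AddCommGroup W] [Module F W]
    [FiniteDimensional F V] [FiniteDimensional F W]
    {Q : QuadraticForm F V} {Q' : QuadraticForm F W} (g : OG Q) (g' : OG Q') :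
    finrank F (fix ((OG.prodMap (g, g') : OG (Q.prod Q')) : (V × W) ≃ₗ[F] (V × W))) =
      finrank F (fix (g : V ≃ₗ[F] V)) + finrank F (fix (g' : W ≃ₗ[F] W)) := by
  have h1 : fix ((OG.prodMap (g, g') : OG (Q.prod Q')) : (V × W) ≃ₗ[F] (V × W)) =
      (fix (g : V ≃ₗ[F] V)).prod (fix (g' : W ≃ₗ[F] W)) := by
    ext ⟨x, y⟩
    rw [mem_fix, Submodule.mem_prod, mem_fix, mem_fix]
    exact Prod.ext_iff
  rw [h1]
  let e : ↥((fix (g : V ≃ₗ[F] V)).prod (fix (g' : W ≃ₗ[F] W))) ≃ₗ[F] ↥(fix (g : V ≃ₗ[F] V)) × ↥(fix (g' : W ≃ₗ[F] W)) :=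
    { toFun := fun x => (⟨x.1.1, x.2.1⟩, ⟨x.1.2, x.2.2⟩)
      invFun := fun y => ⟨(y.1.1, y.2.1), ⟨y.1.2, y.2.2⟩⟩
      map_add' := fun _ _ => rfl
      map_smul' := fun _ _ => rfl
      left_inv := fun _ => rfl
      right_inv := fun _ => rfl }
  rw [e.finrank_eq, finrank_prod]

/-- Orthogonal sums. -/
theorem RG.sum [CharP F 2] {ψ : F → ℤ} (hψ : IsCh ψ) {m m' : ℕ} {ε ε' : ℤˣ} {n n' : ℕ} {π π' : ZMod 2} {b : Prop}
    (h : RG ψ m ε n π b) (h' : RG ψ m' ε' n' π' False) (hodd : b → Odd (Nat.lcm n n' / n)) :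
    RG ψ (m + m') (ε * ε') (Nat.lcm n n') (π + π') b := by
  classical
  obtain ⟨Q, hQ, hS, g, rfl, rfl, hb⟩ := h
  obtain ⟨Q', hQ', hS', g', rfl, rfl, -⟩ := h'
  refine RG.of (V := (Fin (2 * m) → F) × (Fin (2 * m') → F)) ?_ (Q.prod Q') (ND_prod hQ hQ') ?_
    (OG.prodMap (g, g')) ?_ ?_ ?_
  · simp
    ring
  · have h1 : gs ψ (fun v : (Fin (2 * m) → F) × (Fin (2 * m') → F) => (Q.prod Q') v) =
        gs ψ (fun v : (Fin (2 * m) → F) × (Fin (2 * m') → F) => Q v.1 + Q' v.2) := rfl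
    rw [h1, gs_prod hψ, hS, hS']
    push_cast
    ring
  · rw [orderOf_injective _ OG.prodMap_injective, Prod.orderOf_mk]
  · rw [finrank_fix_prodMap]
    push_cast
    rfl
  · intro hb'
    obtain ⟨x, hx⟩ := hb hb'
    refine ⟨(x, 0), ?_⟩
    rw [Nrm_prodMap]
    intro h0
    have h1 := congrArg Prod.fst h0
    simp only [Prod.fst_zero] at h1
    have hgn : (g : (Fin (2 * m) → F) ≃ₗ[F] (Fin (2 * m) → F)) ^ orderOf g = 1 := by
      rw [← Subgroup.coe_pow, pow_orderOf_eq_one, Subgroup.coe_one]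
    have h3 : Nat.lcm (orderOf g) (orderOf g') = (Nat.lcm (orderOf g) (orderOf g') / orderOf g) * orderOf g :=
      (Nat.div_mul_cancel (Nat.dvd_lcm_left _ _)).symm
    rw [h3, Nrm_odd_mul hgn (hodd hb')] at h1
    exact hx h1

/-- To the target. -/
theorem RG.target [CharP F 2] {ψ : F → ℤ} (hψ : IsCh ψ) {k n : ℕ} {π : ZMod 2} {b : Prop} (h : RG ψ (k + 1) (-1) n π b) (a c : F)
    (hab : ∀ z₁ z₂ : F, z₁ ^ 2 + a * z₁ * z₂ + c * z₂ ^ 2 = 0 → z₁ = 0 ∧ z₂ = 0)
    {W : Type*} [AddCommGroup W] [Module F W] [FiniteDimensional F W] (Q' : QuadraticForm F W)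
    (L : W ≃ₗ[F] ((Fin k ⊕ Fin k) ⊕ Fin 2 → F)) (hL : ∀ w, qMinus k a c (L w) = Q' w) :
    ∃ g : OG Q', orderOf g = n ∧ ((finrank F (fix (g : W ≃ₗ[F] W)) : ℕ) : ZMod 2) = π ∧
      (b → ∃ x, Nrm n (g : W ≃ₗ[F] W) x ≠ 0) := by
  classical
  obtain ⟨Q, hQ, hS, g, hg, hπ, hb⟩ := h
  have hq1 : (1 : ℤ) < Fintype.card F := by exact_mod_cast Fintype.one_lt_card
  have hc := gs_card hψ (fun v => Q v) (fun c v => by rw [Q_sm])
  have hcardV : (Fintype.card (Fin (2 * (k + 1)) → F) : ℤ) = (Fintype.card F : ℤ) ^ (2 * (k + 1)) := by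
    rw [Fintype.card_fun, Fintype.card_fin]
    push_cast
    ring
  have hz : (Nat.card {v // Q v = 0} : ℤ) = ((Finset.univ.filter fun v => Q v = 0).card : ℤ) := by
    rw [Nat.card_eq_fintype_card, Fintype.card_subtype]
  have hne : (Nat.card {v // Q v = 0} : ℤ) ≠ (Fintype.card F : ℤ) ^ (2 * k + 1) + (Fintype.card F : ℤ) ^ (k + 1) - (Fintype.card F : ℤ) ^ k := by
    intro heq
    rw [hS, hcardV, ← hz, heq] at hc
    set q : ℤ := (Fintype.card F : ℤ) with hq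
    have hpos : 0 < q ^ (k + 1) := by positivity
    have h3 : 2 * q ^ (k + 1) * (q - 1) * (q ^ k) * q = 0 := by
      simp only [Units.val_neg, Units.val_one] at hc
      have : (2 : ℤ) * q ^ (k + 1) * (q - 1) * (q ^ k) * q = (q * (q ^ (2 * k + 1) + q ^ (k + 1) - q ^ k) - q ^ (2 * (k + 1))) * q ^ k * q + q ^ (k + 1) * (q - 1) * q ^ k * q := by
        ring
      rw [this, ← hc]
      ring
    have h4 : q - 1 ≠ 0 := by omega
    have h5 : q ≠ 0 := by omega
    have h6 : (2 : ℤ) * q ^ (k + 1) ≠ 0 := by positivity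
    exact (mul_ne_zero (mul_ne_zero (mul_ne_zero h6 h4) (pow_ne_zero _ h5)) h5) h3
  have hV : finrank F (Fin (2 * (k + 1)) → F) = 2 * (k + 1) := by simp
  obtain ⟨e, he⟩ := iso_qMinus hV Q hQ hne a c hab
  let φ : (Fin (2 * (k + 1)) → F) ≃ₗ[F] W := e.trans L.symm
  have hφ : ∀ v, Q' (φ v) = Q v := by
    intro v
    rw [← hL, ← he]
    simp [φ]
  refine ⟨OG.congr φ hφ g, ?_, ?_, ?_⟩
  · rw [MulEquiv.orderOf_eq, hg]
  · rw [finrank_fix_congr, hπ]
  · intro hb'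
    obtain ⟨x, hx⟩ := hb hb'
    refine ⟨φ x, ?_⟩
    rw [Nrm_conj φ n (g : _ ≃ₗ[F] _) _ (fun v => OG_congr_apply φ hφ g v)]
    exact fun h0 => hx (by simpa using h0)

end RG

end Cfsg.Agent.Lib.GOm
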