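import Mathlib
import Cfsg.Agent.Lib.QuadClass

/-!
# Totally singular subspaces and the type of a nondegenerate quadratic form in even dimension
-/

set_option autoImplicit false
set_option linter.unusedSectionVars false
set_option linter.unusedSimpArgs false
set_option linter.unusedVariables false

universe u v

namespace Cfsg.Agent.Lib.QuadClass2

open Module QuadraticMap Cfsg.Agent.Lib.QuadFF Cfsg.Agent.Lib.OrthoCount Cfsg.Agent.Lib.QuadClass

variable {F : Type u} [Field F] {V : Type v} [AddCommGroup V] [Module F V]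

/-- Anisotropy of the norm form. -/
theorem ani_of_zeta {ζ : F} (hζ : ∀ t : F, t ^ 2 + t + ζ ≠ 0) (x y : F) (h : x ^ 2 + 1 * x * y + ζ * y ^ 2 = 0) :
    x = 0 ∧ y = 0 := by
  by_cases hy : y = 0
  · subst hy
    simpa using h
  · exfalso
    apply hζ (x / y)
    field_simp
    linear_combination h

section card

variable [Fintype F] [FiniteDimensional F V]

/-- A form with a minus basis is a standard minus form. -/
theorem iso_of_minus_basis {k : ℕ} {Q : QuadraticForm F V} (hQ : ND Q)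
    {b : Basis ((Fin k ⊕ Fin k) ⊕ Fin 2) F V} {ζ : F} (h : IsMinusBasis Q b ζ) :
    ∃ e : V ≃ₗ[F] ((Fin k ⊕ Fin k) ⊕ Fin 2 → F), ∀ v, qMinus k 1 ζ (e v) = Q v := by
  have hab := ani_of_zeta h.1
  have hV' : finrank F ((Fin k ⊕ Fin k) ⊕ Fin 2 → F) = 2 * (k + 1) := by
    simp
    ring
  have hc' : (Nat.card {v // qMinus k 1 ζ v = 0} : ℤ) ≠ (Fintype.card F : ℤ) ^ (2 * k + 1) + (Fintype.card F : ℤ) ^ (k + 1) - (Fintype.card F : ℤ) ^ k := by
    rw [zeros_minus 1 ζ hab k]
    exact count_ne k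
  obtain ⟨B', ζ', hB'⟩ := minus_of_card hV' _ (ND_qMinus 1 ζ hab k) hc'
  exact isometry_of_minus hQ h hB'

/-- The number of zeros of a form with a minus basis. -/
theorem card_zeros_of_minus {k : ℕ} {Q : QuadraticForm F V} (hQ : ND Q)
    {b : Basis ((Fin k ⊕ Fin k) ⊕ Fin 2) F V} {ζ : F} (h : IsMinusBasis Q b ζ) :
    (Nat.card {v // Q v = 0} : ℤ) = (Fintype.card F : ℤ) ^ (2 * k + 1) + (Fintype.card F : ℤ) ^ k - (Fintype.card F : ℤ) ^ (k + 1) := by
  obtain ⟨e, he⟩ := iso_of_minus_basis hQ h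
  have h1 : Nat.card {v // Q v = 0} = Nat.card {v // qMinus k 1 ζ v = 0} := by
    refine Nat.card_congr (e.toEquiv.subtypeEquiv fun v => ?_)
    change Q v = 0 ↔ qMinus k 1 ζ (e v) = 0
    rw [he]
  rw [h1]
  exact zeros_minus 1 ζ (ani_of_zeta h.1) k

/-- The bound on totally singular subspaces for a form with a minus basis. -/
theorem finrank_le_of_minus {k : ℕ} {Q : QuadraticForm F V} (hQ : ND Q)
    {b : Basis ((Fin k ⊕ Fin k) ⊕ Fin 2) F V} {ζ : F} (h : IsMinusBasis Q b ζ)
    (K : Submodule F V) (hK : ∀ v ∈ K, Q v = 0) : finrank F K ≤ k := by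
  obtain ⟨e, he⟩ := iso_of_minus_basis hQ h
  have h1 := finrank_le_of_ts 1 ζ (ani_of_zeta h.1) k (K.map e.toLinearMap) (by
    rintro _ ⟨v, hv, rfl⟩
    change qMinus k 1 ζ (e v) = 0
    rw [he]
    exact hK v hv)
  rwa [LinearEquiv.finrank_map_eq] at h1

end card

/-- The standard Lagrangian of the plus form. -/
def L0 (m : ℕ) (F : Type u) [Field F] : Submodule F (Fin m ⊕ Fin m → F) :=
  LinearMap.ker (LinearMap.funLeft F F (fun i : Fin m => (Sum.inr i : Fin m ⊕ Fin m)))

theorem mem_L0 {m : ℕ} {v : Fin m ⊕ Fin m → F} : v ∈ L0 m F ↔ ∀ i, v (Sum.inr i) = 0 := by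
  rw [L0, LinearMap.mem_ker]
  constructor
  · intro h i
    exact congrFun h i
  · intro h
    funext i
    exact h i

theorem finrank_L0 (m : ℕ) : finrank F (L0 m F) = m := by
  have h1 := LinearMap.finrank_range_add_finrank_ker (LinearMap.funLeft F F (fun i : Fin m => (Sum.inr i : Fin m ⊕ Fin m)))
  have hs : Function.Surjective (LinearMap.funLeft F F (fun i : Fin m => (Sum.inr i : Fin m ⊕ Fin m))) :=
    LinearMap.funLeft_surjective_of_injective F F _ (fun i j h => by simpa using h)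
  rw [LinearMap.range_eq_top.2 hs, finrank_top] at h1
  simp only [Module.finrank_fintype_fun_eq_card, Fintype.card_fin, Fintype.card_sum] at h1
  change _ + finrank F (L0 m F) = _ at h1
  omega

theorem qPlus_L0 {m : ℕ} {v : Fin m ⊕ Fin m → F} (hv : v ∈ L0 m F) : qPlus m F v = 0 := by
  rw [qPlus_apply]
  simp [Cfsg.quadFormPlus, mem_L0.1 hv]

/-- A form with a hyperbolic basis has a totally singular subspace of half the dimension. -/
theorem exists_ts_of_hyp {m : ℕ} {Q : QuadraticForm F V} {b : Basis (Fin m ⊕ Fin m) F V} (h : IsHypBasis Q b) :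
    ∃ K : Submodule F V, (∀ v ∈ K, Q v = 0) ∧ finrank F K = m := by
  obtain ⟨e, he⟩ := iso_qPlus_of_hyp h
  refine ⟨(L0 m F).map e.symm.toLinearMap, ?_, ?_⟩
  · rintro _ ⟨v, hv, rfl⟩
    have := he (e.symm v)
    rw [LinearEquiv.apply_symm_apply, qPlus_L0 hv] at this
    exact this.symm
  · rw [LinearEquiv.finrank_map_eq, finrank_L0]

/-- A totally singular subspace of half the dimension gives a hyperbolic basis. -/
theorem hyp_of_ts [Fintype F] [FiniteDimensional F V] {m : ℕ} (hV : finrank F V = 2 * m) {Q : QuadraticForm F V} (hQ : ND Q)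
    (K : Submodule F V) (hK : ∀ v ∈ K, Q v = 0) (hKd : finrank F K = m) :
    ∃ b : Basis (Fin m ⊕ Fin m) F V, IsHypBasis Q b := by
  rcases std_cases hV Q hQ with h | ⟨k, hk, b, ζ, hb⟩
  · exact h
  · have := finrank_le_of_minus hQ hb K hK
    omega

/-- No totally singular subspace of half the dimension gives a minus basis. -/
theorem minus_of_no_ts [Fintype F] [FiniteDimensional F V] {k : ℕ} (hV : finrank F V = 2 * (k + 1)) {Q : QuadraticForm F V} (hQ : ND Q)
    (hno : ∀ K : Submodule F V, (∀ v ∈ K, Q v = 0) → finrank F K ≠ k + 1) :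
    ∃ (b : Basis ((Fin k ⊕ Fin k) ⊕ Fin 2) F V) (ζ : F), IsMinusBasis Q b ζ := by
  rcases std_cases hV Q hQ with ⟨b, hb⟩ | ⟨k', hk, b, ζ, hb⟩
  · obtain ⟨K, h1, h2⟩ := exists_ts_of_hyp hb
    exact absurd h2 (hno K h1)
  · obtain rfl : k = k' := by omega
    exact ⟨b, ζ, hb⟩

/-- The bound for totally singular subspaces given an anisotropic plane and a totally singular
subspace of half of its orthogonal complement. -/
theorem finrank_le_of_witness [FiniteDimensional F V] {m : ℕ} {Q : QuadraticForm F V} (hQ : ND Q)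
    (hV : finrank F V = 2 * m + 2) (A U : Submodule F V) (hA : ∀ v ∈ A, Q v = 0 → v = 0) (hAd : finrank F A = 2)
    (hU : ∀ v ∈ U, Q v = 0) (hUd : finrank F U = m) (hUA : ∀ u ∈ U, ∀ a ∈ A, polar Q u a = 0)
    (K : Submodule F V) (hK : ∀ v ∈ K, Q v = 0) : finrank F K ≤ m := by
  classical
  have hUU : ∀ u ∈ U, ∀ u' ∈ U, polar Q u u' = 0 := by
    intro u hu u' hu'
    have h1 := hU _ (U.add_mem hu hu')
    rw [polar, h1, hU u hu, hU u' hu']
    simp
  have hKK : ∀ u ∈ K, ∀ u' ∈ K, polar Q u u' = 0 := by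
    intro u hu u' hu'
    have h1 := hK _ (K.add_mem hu hu')
    rw [polar, h1, hK u hu, hK u' hu']
    simp
  set R := A ⊔ U with hR
  have hAU : A ⊓ U = ⊥ := by
    rw [eq_bot_iff]
    rintro v ⟨h1, h2⟩
    exact hA v h1 (hU v h2)
  have hRd : finrank F R = m + 2 := by
    have := Submodule.finrank_sup_add_finrank_inf_eq A U
    rw [hAU, finrank_bot, hAd, hUd, ← hR] at this
    omega
  have hM : K ⊓ R ≤ U := by
    rintro v ⟨h1, h2⟩
    obtain ⟨a, ha, u, hu, rfl⟩ := Submodule.mem_sup.1 h2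
    have h3 := hK _ h1
    rw [Q_ad, hU u hu, add_zero, polar_comm, hUA u hu a ha, add_zero] at h3
    rw [hA a ha h3, zero_add]
    exact hu
  have hle : K ⊔ R ≤ LinearMap.BilinForm.orthogonal (polarBilin Q) (K ⊓ R) := by
    intro r hr
    rw [LinearMap.BilinForm.mem_orthogonal_iff]
    intro u hu
    obtain ⟨k, hk, w, hw, rfl⟩ := Submodule.mem_sup.1 hr
    obtain ⟨a, ha, u', hu', rfl⟩ := Submodule.mem_sup.1 hw
    change polar Q u (k + (a + u')) = 0
    rw [polar_add_right, polar_add_right, hKK u hu.1 k hk, hUA u (hM hu) a ha, hUU u (hM hu) u' hu']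
    simp
  have h1 := Submodule.finrank_mono hle
  rw [LinearMap.BilinForm.finrank_orthogonal (nondegenerate_of_ND hQ)] at h1
  have h2 := Submodule.finrank_sup_add_finrank_inf_eq K R
  have h4 : finrank F ↥(K ⊓ R) ≤ finrank F V := Submodule.finrank_le _
  omega

end Cfsg.Agent.Lib.QuadClass2
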