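import Mathlib
import Cfsg.Agent.Lib.GOmC
import Cfsg.Agent.Lib.QuadClass2

/-!
# Unipotent elements of orthogonal groups in characteristic two
-/

set_option autoImplicit false
set_option linter.unusedSectionVars false
set_option linter.unusedSimpArgs false
set_option linter.unusedVariables false
set_option linter.style.haveILetI false

namespace Cfsg.Agent.Lib.GOm

open Module QuadraticMap
open Cfsg.Agent.Lib.QuadFF Cfsg.Agent.Lib.OrthoBasic Cfsg.Agent.Lib.OrthoCount Cfsg.Agent.Lib.QuadClass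
open Cfsg.Agent.Lib.OrthGroup (fix mem_fix)

variable {F : Type*} [Field F] [Fintype F] [CharP F 2]

/-- The binary form `z₁² + z₁ z₂ + ζ z₂²`. -/
noncomputable def planeQ (ζ : F) : QuadraticForm F (F × F) :=
  linMulLin (LinearMap.fst F F F) (LinearMap.fst F F F) + linMulLin (LinearMap.fst F F F) (LinearMap.snd F F F)
    + ζ • linMulLin (LinearMap.snd F F F) (LinearMap.snd F F F)

theorem planeQ_apply (ζ : F) (v : F × F) : planeQ ζ v = v.1 ^ 2 + v.1 * v.2 + ζ * v.2 ^ 2 := by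
  simp [planeQ]
  ring

theorem polar_planeQ (ζ : F) (u v : F × F) : polar (planeQ ζ) u v = u.1 * v.2 + u.2 * v.1 := by
  have h2 : (2 : F) = 0 := CharTwo.two_eq_zero
  simp only [polar, planeQ_apply, Prod.fst_add, Prod.snd_add]
  grind

theorem ND_planeQ (ζ : F) : ND (planeQ ζ) := by
  intro u hu
  have h1 := hu (0, 1)
  have h2 := hu (1, 0)
  rw [polar_planeQ] at h1 h2
  simp at h1 h2
  exact Prod.ext h1 h2

theorem ND_hypK' : ND (hypK F) := by
  intro u hu
  have h1 := hu (0, 1)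
  have h2 := hu (1, 0)
  rw [polar_hypK] at h1 h2
  simp at h1 h2
  exact Prod.ext h1 h2

theorem gs_plane_zero {ψ : F → ℤ} (hψ : IsCh ψ) : gs ψ (fun v => planeQ (0 : F) v) = (Fintype.card F : ℤ) := by
  have h2 : (2 : F) = 0 := CharTwo.two_eq_zero
  rw [← gs_hyp (K := F) trivial hψ]
  let e : (F × F) ≃ (F × F) :=
    { toFun := fun z => (z.1, z.1 + z.2)
      invFun := fun z => (z.1, z.1 + z.2)
      left_inv := fun z => by
        ext
        · rfl
        · show z.1 + (z.1 + z.2) = z.2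
          grind
      right_inv := fun z => by
        ext
        · rfl
        · show z.1 + (z.1 + z.2) = z.2
          grind }
  refine gs_congr ψ e (fun v => ?_)
  rw [planeQ_apply]
  show v.1 * (v.1 + v.2) = _
  ring

theorem gs_plane_ani {ψ : F → ℤ} (hψ : IsCh ψ) {ζ : F} (hζ : ∀ t : F, t ^ 2 + t + ζ ≠ 0) :
    gs ψ (fun v => planeQ ζ v) = -(Fintype.card F : ℤ) := by
  classical
  have hcard := gs_card hψ (fun v : F × F => planeQ ζ v) (fun a v => Q_sm _ a v)
  have hani : ∀ z : F × F, planeQ ζ z = 0 → z = 0 := by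
    intro z hz
    rw [planeQ_apply] at hz
    obtain ⟨h1, h2⟩ := Cfsg.Agent.Lib.QuadClass2.ani_of_zeta hζ z.1 z.2 (by
      rw [← hz]
      ring)
    exact Prod.ext h1 h2
  have hfilter : (Finset.univ.filter fun v : F × F => planeQ ζ v = 0) = {0} := by
    ext v
    simp only [Finset.mem_filter, Finset.mem_univ, true_and, Finset.mem_singleton]
    exact ⟨hani v, fun h => by rw [h, map_zero]⟩
  rw [hfilter, Finset.card_singleton, Fintype.card_prod] at hcard
  have h1 : (1 : ℤ) < Fintype.card F := by exact_mod_cast Fintype.one_lt_card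
  have h3 : ((Fintype.card F : ℤ) - 1) * (gs ψ (fun v : F × F => planeQ ζ v) + Fintype.card F) = 0 := by
    push_cast at hcard
    rw [mul_add, hcard]
    ring
  have h5 := (mul_eq_zero.mp h3).resolve_left (by omega)
  omega

theorem exists_ani (F : Type*) [Field F] [Fintype F] [CharP F 2] : ∃ ζ : F, ∀ t : F, t ^ 2 + t + ζ ≠ 0 := by
  have h2 : (2 : F) = 0 := CharTwo.two_eq_zero
  have hninj : ¬ Function.Injective (fun t : F => t ^ 2 + t) := by
    intro h
    have h1 : (0 : F) = 1 := h (by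
      show (0 : F) ^ 2 + 0 = 1 ^ 2 + 1
      grind)
    exact zero_ne_one h1
  have hnsurj : ¬ Function.Surjective (fun t : F => t ^ 2 + t) := fun h =>
    hninj (Finite.injective_iff_surjective.mpr h)
  rw [Function.Surjective] at hnsurj
  push Not at hnsurj
  obtain ⟨ζ, hζ⟩ := hnsurj
  refine ⟨ζ, fun t ht => hζ t ?_⟩
  show t ^ 2 + t = ζ
  grind

theorem exists_plane_sign {ψ : F → ℤ} (hψ : IsCh ψ) (ε : ℤˣ) :
    ∃ ζ : F, gs ψ (fun v => planeQ ζ v) = (ε : ℤ) * (Fintype.card F : ℤ) := by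
  rcases Int.units_eq_one_or ε with rfl | rfl
  · exact ⟨0, by simpa using gs_plane_zero hψ⟩
  · obtain ⟨ζ, hζ⟩ := exists_ani F
    exact ⟨ζ, by simpa using gs_plane_ani hψ hζ⟩

/-! ### Elements built from linear maps -/

section build

variable {V : Type*} [AddCommGroup V] [Module F V] [FiniteDimensional F V]

theorem nondeg_of_ND {Q : QuadraticForm F V} (h : ND Q) : Nondeg Q := by
  intro x hx
  by_contra hne
  push Not at hne
  exact hx (h x hne)

/-- An isometry from a linear map. -/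
noncomputable def mkO {Q : QuadraticForm F V} (hQ : ND Q) (T : V →ₗ[F] V) (hT : ∀ x, Q (T x) = Q x) : OG Q :=
  OG.ofLinear (nondeg_of_ND hQ) T hT

theorem mkO_pow {Q : QuadraticForm F V} (hQ : ND Q) (T : V →ₗ[F] V) (hT : ∀ x, Q (T x) = Q x) (k : ℕ) (x : V) :
    (((mkO hQ T hT) : V ≃ₗ[F] V) ^ k) x = T^[k] x := by
  induction k with
  | zero => rfl
  | succ k ih =>
    rw [pow_succ', Function.iterate_succ_apply', ← ih]
    rfl

theorem orderOf_mkO {Q : QuadraticForm F V} (hQ : ND Q) (T : V →ₗ[F] V) (hT : ∀ x, Q (T x) = Q x) {k : ℕ}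
    (h1 : ∀ x, T^[2 ^ (k + 1)] x = x) {x₀ : V} (h0 : T^[2 ^ k] x₀ ≠ x₀) : orderOf (mkO hQ T hT) = 2 ^ (k + 1) := by
  apply orderOf_eq_prime_pow
  · intro h
    apply h0
    have : (((mkO hQ T hT ^ 2 ^ k : OG Q)) : V ≃ₗ[F] V) x₀ = ((1 : OG Q) : V ≃ₗ[F] V) x₀ := by rw [h]
    rw [Subgroup.coe_pow, mkO_pow] at this
    exact this
  · apply Subtype.ext
    apply LinearEquiv.ext
    intro x
    rw [Subgroup.coe_pow, mkO_pow, h1]
    rfl

theorem finrank_fix_mkO {Q : QuadraticForm F V} (hQ : ND Q) (T : V →ₗ[F] V) (hT : ∀ x, Q (T x) = Q x) {w : V} (hw : w ≠ 0)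
    (h : ∀ x, T x = x ↔ ∃ c : F, c • w = x) : finrank F (fix ((mkO hQ T hT) : V ≃ₗ[F] V)) = 1 := by
  have h1 : fix ((mkO hQ T hT) : V ≃ₗ[F] V) = Submodule.span F {w} := by
    ext x
    rw [mem_fix, Submodule.mem_span_singleton]
    exact h x
  rw [h1, finrank_span_singleton hw]

end build

section U2

/-- The transvection. -/
def T2 : (F × F) →ₗ[F] (F × F) where
  toFun v := (v.1 + v.2, v.2)
  map_add' x y := by
    ext
    · simp only [Prod.fst_add, Prod.snd_add]
      ring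
    · rfl
  map_smul' c x := by
    ext
    · simp only [Prod.smul_fst, Prod.smul_snd, RingHom.id_apply, smul_eq_mul]
      ring
    · rfl

theorem T2_apply (v : F × F) : T2 v = (v.1 + v.2, v.2) := rfl

theorem T2_iso (ζ : F) (x : F × F) : planeQ ζ (T2 x) = planeQ ζ x := by
  have h2 : (2 : F) = 0 := CharTwo.two_eq_zero
  rw [planeQ_apply, planeQ_apply, T2_apply]
  simp only
  grind

theorem RG_U2 {ψ : F → ℤ} (hψ : IsCh ψ) (ε : ℤˣ) : RG ψ 1 ε 2 1 True := by
  classical
  have h2 : (2 : F) = 0 := CharTwo.two_eq_zero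
  obtain ⟨ζ, hζ⟩ := exists_plane_sign hψ ε
  refine RG.of (V := F × F) (by simp) (planeQ ζ) (ND_planeQ ζ) (by simpa using hζ)
    (mkO (ND_planeQ ζ) T2 (T2_iso ζ)) ?_ ?_ ?_
  · have := orderOf_mkO (ND_planeQ ζ) T2 (T2_iso ζ) (k := 0) (x₀ := (0, 1)) ?_ ?_
    · simpa using this
    · intro x
      simp only [pow_succ, pow_zero, one_mul, Function.iterate_succ, Function.iterate_zero, Function.comp, id, T2_apply]
      ext
      · simp only
        grind
      · rfl
    · simp only [pow_zero, Function.iterate_succ, Function.iterate_zero, Function.comp, id, T2_apply]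
      intro h
      have := congrArg Prod.fst h
      simp [T2_apply] at this
  · rw [finrank_fix_mkO (ND_planeQ ζ) T2 (T2_iso ζ) (w := (1, 0)) (by simp)]
    · simp
    · intro x
      rw [T2_apply]
      constructor
      · intro h
        have h3 := congrArg Prod.fst h
        simp only at h3
        refine ⟨x.1, ?_⟩
        ext
        · simp
        · simp
          grind
      · rintro ⟨c, rfl⟩
        simp
  · intro _
    refine ⟨(0, 1), ?_⟩
    have h3 : Nrm 2 ((mkO (ND_planeQ ζ) T2 (T2_iso ζ)) : (F × F) ≃ₗ[F] (F × F)) (0, 1) = (1, 0) := by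
      unfold Nrm
      simp only [Finset.sum_range_succ, Finset.sum_range_zero, zero_add, mkO_pow]
      simp only [Function.iterate_succ, Function.iterate_zero, Function.comp, id, T2_apply]
      ext
      · simp
      · simp
        grind
    rw [h3]
    simp

end U2

section U4

/-- The element with a Jordan block of size `4`. -/
def T4 (ζ : F) : ((F × F) × (F × F)) →ₗ[F] ((F × F) × (F × F)) where
  toFun v := ((v.1.1 + v.2.1 + ζ * v.1.2, v.1.2), (v.2.1 + v.2.2 + v.1.2, v.2.2 + v.1.2))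
  map_add' x y := by
    ext
    · simp only [Prod.fst_add, Prod.snd_add]
      ring
    · rfl
    · simp only [Prod.fst_add, Prod.snd_add]
      ring
    · simp only [Prod.fst_add, Prod.snd_add]
      ring
  map_smul' c x := by
    ext
    · simp only [Prod.smul_fst, Prod.smul_snd, RingHom.id_apply, smul_eq_mul]
      ring
    · rfl
    · simp only [Prod.smul_fst, Prod.smul_snd, RingHom.id_apply, smul_eq_mul]
      ring
    · simp only [Prod.smul_fst, Prod.smul_snd, RingHom.id_apply, smul_eq_mul]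
      ring

theorem T4_apply (ζ : F) (v : (F × F) × (F × F)) :
    T4 ζ v = ((v.1.1 + v.2.1 + ζ * v.1.2, v.1.2), (v.2.1 + v.2.2 + v.1.2, v.2.2 + v.1.2)) := rfl

/-- The form. -/
noncomputable def Q4 (ζ : F) : QuadraticForm F ((F × F) × (F × F)) := (hypK F).prod (planeQ ζ)

theorem Q4_apply (ζ : F) (v : (F × F) × (F × F)) :
    Q4 ζ v = v.1.1 * v.1.2 + (v.2.1 ^ 2 + v.2.1 * v.2.2 + ζ * v.2.2 ^ 2) := by
  rw [Q4, QuadraticMap.prod_apply, hypK_apply, planeQ_apply]

theorem ND_Q4 (ζ : F) : ND (Q4 ζ) := ND_prod ND_hypK' (ND_planeQ ζ)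

theorem T4_iso (ζ : F) (x : (F × F) × (F × F)) : Q4 ζ (T4 ζ x) = Q4 ζ x := by
  have h2 : (2 : F) = 0 := CharTwo.two_eq_zero
  rw [Q4_apply, Q4_apply, T4_apply]
  simp only
  grind

theorem T4_two (ζ : F) (v : (F × F) × (F × F)) :
    T4 ζ (T4 ζ v) = ((v.1.1 + v.2.2 + v.1.2, v.1.2), (v.2.1 + v.1.2, v.2.2)) := by
  have h2 : (2 : F) = 0 := CharTwo.two_eq_zero
  rw [T4_apply, T4_apply]
  ext
  · simp only
    grind
  · rfl
  · simp only
    grind
  · simp only
    grind

theorem gs_Q4 {ψ : F → ℤ} (hψ : IsCh ψ) (ζ : F) :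
    gs ψ (fun v => Q4 ζ v) = (Fintype.card F : ℤ) * gs ψ (fun v => planeQ ζ v) := by
  have h1 : gs ψ (fun v : (F × F) × (F × F) => Q4 ζ v) =
      gs ψ (fun v : (F × F) × (F × F) => (v.1.1 * v.1.2) + planeQ ζ v.2) := by
    unfold gs
    refine Fintype.sum_congr _ _ fun v => ?_
    show ψ (Q4 ζ v) = ψ (v.1.1 * v.1.2 + planeQ ζ v.2)
    rw [Q4_apply, planeQ_apply]
  rw [h1, gs_prod hψ (fun v : F × F => v.1 * v.2) (fun v => planeQ ζ v), gs_hyp trivial hψ]

theorem RG_U4 {ψ : F → ℤ} (hψ : IsCh ψ) (ε : ℤˣ) : RG ψ 2 ε 4 1 True := by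
  classical
  have h2 : (2 : F) = 0 := CharTwo.two_eq_zero
  obtain ⟨ζ, hζ⟩ := exists_plane_sign hψ ε
  refine RG.of (V := (F × F) × (F × F)) (by simp) (Q4 ζ) (ND_Q4 ζ) (by rw [gs_Q4 hψ, hζ]; ring)
    (mkO (ND_Q4 ζ) (T4 ζ) (T4_iso ζ)) ?_ ?_ ?_
  · have := orderOf_mkO (ND_Q4 ζ) (T4 ζ) (T4_iso ζ) (k := 1) (x₀ := ((0, 1), (0, 0))) ?_ ?_
    · simpa using this
    · intro x
      show T4 ζ (T4 ζ (T4 ζ (T4 ζ x))) = x
      rw [T4_two, T4_two]
      ext
      · simp only
        grind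
      · rfl
      · simp only
        grind
      · rfl
    · show T4 ζ (T4 ζ _) ≠ _
      rw [T4_two]
      intro h
      have := congrArg (fun v : (F × F) × (F × F) => v.1.1) h
      simp at this
  · rw [finrank_fix_mkO (ND_Q4 ζ) (T4 ζ) (T4_iso ζ) (w := ((1, 0), (0, 0))) (by simp)]
    · simp
    · intro x
      rw [T4_apply]
      constructor
      · intro h
        have h3 := congrArg (fun v : (F × F) × (F × F) => v.1.1) h
        have h4 := congrArg (fun v : (F × F) × (F × F) => v.2.1) h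
        have h5 := congrArg (fun v : (F × F) × (F × F) => v.2.2) h
        simp only at h3 h4 h5
        refine ⟨x.1.1, ?_⟩
        ext
        · simp
        · simp
          grind
        · simp
          grind
        · simp
          grind
      · rintro ⟨c, rfl⟩
        simp
  · intro _
    refine ⟨((0, 1), (0, 0)), ?_⟩
    have h3 : Nrm 4 ((mkO (ND_Q4 ζ) (T4 ζ) (T4_iso ζ)) : ((F × F) × (F × F)) ≃ₗ[F] ((F × F) × (F × F))) ((0, 1), (0, 0)) = ((1, 0), (0, 0)) := by
      unfold Nrm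
      simp only [Finset.sum_range_succ, Finset.sum_range_zero, zero_add, mkO_pow]
      simp only [Function.iterate_succ, Function.iterate_zero, Function.comp, id, T4_apply]
      ext
      · simp only [Prod.fst_add, Prod.snd_add]
        grind
      · simp only [Prod.fst_add, Prod.snd_add]
        grind
      · simp only [Prod.fst_add, Prod.snd_add]
        grind
      · simp only [Prod.fst_add, Prod.snd_add]
        grind
    rw [h3]
    simp

end U4

section U8

/-- The element with a Jordan block of size `6`. -/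
def T8 (ζ : F) : ((F × F) × ((F × F) × (F × F))) →ₗ[F] ((F × F) × ((F × F) × (F × F))) where
  toFun v := ((v.1.1 + v.2.1.1, v.1.2),
    ((v.2.1.1 + v.2.2.1 + ζ * (v.2.1.2 + v.1.2), v.2.1.2 + v.1.2),
     (v.2.2.1 + v.2.2.2 + (v.2.1.2 + v.1.2), v.2.2.2 + (v.2.1.2 + v.1.2))))
  map_add' x y := by
    ext
    · simp only [Prod.fst_add, Prod.snd_add]
      ring
    · rfl
    · simp only [Prod.fst_add, Prod.snd_add]
      ring
    · simp only [Prod.fst_add, Prod.snd_add]
      ring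
    · simp only [Prod.fst_add, Prod.snd_add]
      ring
    · simp only [Prod.fst_add, Prod.snd_add]
      ring
  map_smul' c x := by
    ext
    · simp only [Prod.smul_fst, Prod.smul_snd, RingHom.id_apply, smul_eq_mul]
      ring
    · rfl
    · simp only [Prod.smul_fst, Prod.smul_snd, RingHom.id_apply, smul_eq_mul]
      ring
    · simp only [Prod.smul_fst, Prod.smul_snd, RingHom.id_apply, smul_eq_mul]
      ring
    · simp only [Prod.smul_fst, Prod.smul_snd, RingHom.id_apply, smul_eq_mul]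
      ring
    · simp only [Prod.smul_fst, Prod.smul_snd, RingHom.id_apply, smul_eq_mul]
      ring

theorem T8_apply (ζ : F) (v : (F × F) × ((F × F) × (F × F))) :
    T8 ζ v = ((v.1.1 + v.2.1.1, v.1.2),
    ((v.2.1.1 + v.2.2.1 + ζ * (v.2.1.2 + v.1.2), v.2.1.2 + v.1.2),
     (v.2.2.1 + v.2.2.2 + (v.2.1.2 + v.1.2), v.2.2.2 + (v.2.1.2 + v.1.2)))) := rfl

/-- The form. -/
noncomputable def Q8 (ζ : F) : QuadraticForm F ((F × F) × ((F × F) × (F × F))) := (hypK F).prod (Q4 ζ)

theorem Q8_apply (ζ : F) (v : (F × F) × ((F × F) × (F × F))) :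
    Q8 ζ v = v.1.1 * v.1.2 + (v.2.1.1 * v.2.1.2 + (v.2.2.1 ^ 2 + v.2.2.1 * v.2.2.2 + ζ * v.2.2.2 ^ 2)) := by
  rw [Q8, QuadraticMap.prod_apply, hypK_apply, Q4_apply]

theorem ND_Q8 (ζ : F) : ND (Q8 ζ) := ND_prod ND_hypK' (ND_Q4 ζ)

theorem T8_iso (ζ : F) (x : (F × F) × ((F × F) × (F × F))) : Q8 ζ (T8 ζ x) = Q8 ζ x := by
  have h2 : (2 : F) = 0 := CharTwo.two_eq_zero
  rw [Q8_apply, Q8_apply, T8_apply]
  simp only
  grind

theorem T8_four (ζ : F) (v : (F × F) × ((F × F) × (F × F))) :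
    T8 ζ (T8 ζ (T8 ζ (T8 ζ v))) = ((v.1.1 + v.2.1.2, v.1.2), ((v.2.1.1 + v.1.2, v.2.1.2), (v.2.2.1, v.2.2.2))) := by
  have h2 : (2 : F) = 0 := CharTwo.two_eq_zero
  simp only [T8_apply]
  ext
  · simp only
    grind
  · rfl
  · simp only
    grind
  · simp only
    grind
  · simp only
    grind
  · simp only
    grind

theorem R_U8 {ψ : F → ℤ} (hψ : IsCh ψ) (ε : ℤˣ) : R ψ 3 ε 8 := by
  classical
  have h2 : (2 : F) = 0 := CharTwo.two_eq_zero
  obtain ⟨ζ, hζ⟩ := exists_plane_sign hψ ε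
  refine R.of (V := (F × F) × ((F × F) × (F × F))) (by simp) (Q8 ζ) (ND_Q8 ζ) ?_
    (mkO (ND_Q8 ζ) (T8 ζ) (T8_iso ζ)) ?_
  · have h1 : gs ψ (fun v : (F × F) × ((F × F) × (F × F)) => Q8 ζ v) =
      gs ψ (fun v : (F × F) × ((F × F) × (F × F)) => (v.1.1 * v.1.2) + Q4 ζ v.2) := by
      unfold gs
      refine Fintype.sum_congr _ _ fun v => ?_
      show ψ (Q8 ζ v) = ψ (v.1.1 * v.1.2 + Q4 ζ v.2)
      rw [Q8_apply, Q4_apply]
    rw [h1, gs_prod hψ (fun v : F × F => v.1 * v.2) (fun v => Q4 ζ v), gs_hyp trivial hψ, gs_Q4 hψ, hζ]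
    ring
  · have := orderOf_mkO (ND_Q8 ζ) (T8 ζ) (T8_iso ζ) (k := 2) (x₀ := ((0, 0), ((0, 1), (0, 0)))) ?_ ?_
    · simpa using this
    · intro x
      show T8 ζ (T8 ζ (T8 ζ (T8 ζ (T8 ζ (T8 ζ (T8 ζ (T8 ζ x))))))) = x
      rw [T8_four, T8_four]
      ext
      · simp only
        grind
      · rfl
      · simp only
        grind
      · rfl
      · rfl
      · rfl
    · show T8 ζ (T8 ζ (T8 ζ (T8 ζ _))) ≠ _
      rw [T8_four]
      intro h
      have := congrArg (fun v : (F × F) × ((F × F) × (F × F)) => v.1.1) h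
      simp at this

end U8

theorem RG_id {ψ : F → ℤ} (hψ : IsCh ψ) (ε : ℤˣ) : RG ψ 1 ε 1 0 True := by
  classical
  obtain ⟨ζ, hζ⟩ := exists_plane_sign hψ ε
  refine RG.of (V := F × F) (by simp) (planeQ ζ) (ND_planeQ ζ) (by simpa using hζ) 1 orderOf_one ?_ ?_
  · have h1 : fix (((1 : OG (planeQ ζ))) : (F × F) ≃ₗ[F] (F × F)) = ⊤ := Cfsg.Agent.Lib.OrthGroup.fix_one
    rw [h1, finrank_top]
    simp
    rfl
  · intro _
    refine ⟨(1, 0), ?_⟩
    rw [Nrm_one]
    simp

theorem RG.weaken {ψ : F → ℤ} {m : ℕ} {ε : ℤˣ} {n : ℕ} {π : ZMod 2} {b : Prop} (h : RG ψ m ε n π b) : RG ψ m ε n π False := by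
  obtain ⟨Q, hQ, hS, g, hg, hπ, -⟩ := h
  exact ⟨Q, hQ, hS, g, hg, hπ, False.elim⟩

/-- Order `2`, even rank. -/
theorem RG_two {ψ : F → ℤ} (hψ : IsCh ψ) (ε : ℤˣ) : RG ψ 2 ε 2 0 True := by
  have := RG.sum hψ (RG_U2 hψ ε) (RG_U2 hψ 1).weaken (by intro _; decide)
  rw [mul_one, show Nat.lcm 2 2 = 2 from by norm_num, show (1 + 1 : ZMod 2) = 0 from by decide] at this
  exact this

/-- Order `4`, even rank. -/
theorem RG_four {ψ : F → ℤ} (hψ : IsCh ψ) (ε : ℤˣ) : RG ψ 3 ε 4 0 True := by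
  have := RG.sum hψ (RG_U4 hψ ε) (RG_U2 hψ 1).weaken (by intro _; decide)
  rw [mul_one, show Nat.lcm 4 2 = 4 from by norm_num, show (1 + 1 : ZMod 2) = 0 from by decide] at this
  exact this

theorem R_pad {ψ : F → ℤ} (hψ : IsCh ψ) (k : ℕ) : R ψ k 1 1 := by
  rcases Nat.eq_zero_or_pos k with rfl | hk
  · exact R.nil hψ
  · have h := R_plus hψ hk.ne'
    exact h.pow h.ne_zero (one_dvd _)

theorem R_pad_minus {ψ : F → ℤ} (hψ : IsCh ψ) {k : ℕ} (hk : k ≠ 0) : R ψ k (-1) 1 := by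
  have h := R_minus hψ hk
  exact h.pow h.ne_zero (one_dvd _)

end Cfsg.Agent.Lib.GOm
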