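import Mathlib
import Cfsg.Agent.Lib.GOmD
import Cfsg.Agent.Lib.SpSpecMain

/-!
# From symplectic elements to isometries of the minus form in dimension eight, characteristic two
-/

set_option autoImplicit false
set_option linter.unusedSectionVars false
set_option linter.unusedSimpArgs false
set_option linter.unusedVariables false
set_option linter.style.haveILetI false

namespace Cfsg.Agent.Lib.GOm

open Module QuadraticMap Finset
open Cfsg.Agent.Lib.QuadFF Cfsg.Agent.Lib.OrthoBasic Cfsg.Agent.Lib.OrthoCount Cfsg.Agent.Lib.QuadClass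
open Cfsg.Agent.Lib.OrthGroup (fix mem_fix)
open Cfsg.Agent.Lib.SpSpec

variable {F : Type*} [Field F] [Fintype F] [CharP F 2]

theorem R_torus {ψ : F → ℤ} (hψ : IsCh ψ) {e o : ℕ} (he : e ≠ 0)
    (ho : o ∣ Fintype.card F ^ e + 1 ∨ o ∣ Fintype.card F ^ e - 1) : ∃ ε, R ψ e ε o := by
  rcases ho with h | h
  · have h1 := R_minus hψ he
    exact ⟨_, h1.pow h1.ne_zero h⟩
  · have h1 := R_plus hψ he
    exact ⟨_, h1.pow h1.ne_zero h⟩

variable {K : Type*} [Field K]

theorem isExp_unique {S : Finset K} {c c' : ℕ} (h : IsExp S c) (h' : IsExp S c') : c = c' := by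
  apply Nat.dvd_antisymm
  · exact (h c').mp ((h' c').mpr dvd_rfl)
  · exact (h' c).mp ((h c).mpr dvd_rfl)

theorem closed_R {ψ : F → ℤ} (hψ : IsCh ψ) {a : ℕ} (haodd : Odd a)
    (hcop : Nat.Coprime (Fintype.card F) a) [DecidableEq K] :
    ∀ S : Finset K, ClosedSet (Fintype.card F) a S → Even S.card ∧ ∃ c ε, R ψ (S.card / 2) ε c ∧ IsExp S c := by
  have hq2 : 2 ≤ Fintype.card F := Fintype.one_lt_card
  intro S
  induction S using Finset.strongInduction with
  | H S ih =>
    intro hS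
    rcases S.eq_empty_or_nonempty with rfl | ⟨ω, hω⟩
    · exact ⟨by simp, 1, 1, by rw [card_empty]; exact R.nil hψ, isExp_empty⟩
    · obtain ⟨T, e, hTS, hωT, he, hcard, hexp, hdvd, hclosed, -⟩ := hS.peel hq2 haodd hcop hω
      have hlt : S \ T ⊂ S := by
        refine Finset.ssubset_iff_subset_ne.mpr ⟨sdiff_subset, ?_⟩
        intro h
        exact (mem_sdiff.mp (h.symm ▸ hω)).2 hωT
      obtain ⟨hev, c, ε, hc, hcexp⟩ := ih _ hlt hclosed
      have hcardS : S.card = 2 * e + (S \ T).card := by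
        rw [← hcard, add_comm, card_sdiff_add_card_eq_card hTS]
      obtain ⟨ε₁, hε₁⟩ := R_torus hψ he hdvd
      have hU : T ∪ (S \ T) = S := union_sdiff_of_subset hTS
      obtain ⟨t, ht⟩ := hev
      refine ⟨by rw [hcardS, ht]; exact ⟨e + t, by ring⟩, Nat.lcm (orderOf ω) c, ε₁ * ε, ?_, ?_⟩
      · have h1 := R.sum hψ hε₁ hc
        have h2 : e + (S \ T).card / 2 = S.card / 2 := by omega
        rwa [h2] at h1
      · have := hexp.union hcexp
        rwa [hU] at this

/-- Adding a unipotent part. -/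
theorem combine {ψ : F → ℤ} (hψ : IsCh ψ) {m u a t : ℕ} {ε : ℤˣ} (h : R ψ m ε a) (hU : ∀ ε', R ψ u ε' t) (hm : m + u ≤ 4) :
    R ψ 4 (-1) (Nat.lcm a t) := by
  have h1 := R.sum hψ (hU (-ε)) (R_pad hψ (4 - m - u))
  have h2 := R.sum hψ h h1
  have h3 : m + (u + (4 - m - u)) = 4 := by omega
  have h4 : ε * (-ε * 1) = -1 := by
    rcases Int.units_eq_one_or ε with rfl | rfl <;> decide
  rw [h3, h4, Nat.lcm_one_right] at h2
  exact h2

theorem coprime_sub_add {Q : ℕ} (hQ : Even Q) (h1 : 1 ≤ Q) : Nat.Coprime (Q - 1) (Q + 1) := by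
  have hodd : Odd (Q - 1) := by
    obtain ⟨r, hr⟩ := hQ
    exact ⟨r - 1, by omega⟩
  have hd : Nat.gcd (Q - 1) (Q + 1) ∣ 2 := by
    have h3 : Q + 1 = (Q - 1) + 2 := by omega
    have h4 := Nat.gcd_dvd_left (Q - 1) (Q + 1)
    have h5 := Nat.gcd_dvd_right (Q - 1) (Q + 1)
    rw [h3] at h5 ⊢
    have h4' : Nat.gcd (Q - 1) (Q - 1 + 2) ∣ Q - 1 := Nat.gcd_dvd_left _ _
    exact (Nat.dvd_add_right h4').mp h5
  have h6 : Nat.gcd (Q - 1) (Q + 1) ∣ Nat.gcd (Q - 1) 2 := Nat.dvd_gcd (Nat.gcd_dvd_left _ _) hd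
  rw [Nat.coprime_two_right.mpr hodd] at h6
  exact Nat.dvd_one.mp h6

theorem lcm_sub_add {Q : ℕ} (hQ : Even Q) (h1 : 1 ≤ Q) : Nat.lcm (Q - 1) (Q + 1) = Q ^ 2 - 1 := by
  rw [(coprime_sub_add hQ h1).lcm_eq_mul]
  obtain ⟨r, rfl⟩ : ∃ r, Q = r + 1 := ⟨Q - 1, by omega⟩
  simp only [Nat.add_sub_cancel]
  have : (r + 1) ^ 2 - 1 = r * (r + 1 + 1) := by
    have h5 : (r + 1) ^ 2 = r * (r + 1 + 1) + 1 := by ring
    omega
  exact this.symm

/-- The numbers dividing `q ^ 4 - 1`. -/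
theorem dvd_four {q e o : ℕ} (hq : 1 ≤ q) (he : e = 1 ∨ e = 2) (ho : o ∣ q ^ e + 1 ∨ o ∣ q ^ e - 1) : o ∣ q ^ 4 - 1 := by
  have h1 : q ^ 2 - 1 ∣ q ^ 4 - 1 := by
    have := Nat.sub_dvd_pow_sub_pow (q ^ 2) 1 2
    rw [one_pow, ← pow_mul] at this
    exact this
  have h2 : q + 1 ∣ q ^ 2 - 1 := by
    have := Nat.sq_sub_sq q 1
    rw [one_pow] at this
    rw [this]
    exact dvd_mul_right _ _
  have h3 : q - 1 ∣ q ^ 2 - 1 := by
    have := Nat.sub_dvd_pow_sub_pow q 1 2
    rwa [one_pow] at this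
  have h4 : q ^ 2 + 1 ∣ q ^ 4 - 1 := by
    have := Nat.sq_sub_sq (q ^ 2) 1
    rw [one_pow, ← pow_mul] at this
    rw [show 2 * 2 = 4 from rfl] at this
    rw [this]
    exact dvd_mul_right _ _
  rcases he with rfl | rfl
  · rw [pow_one] at ho
    rcases ho with h | h
    · exact (h.trans h2).trans h1
    · exact (h.trans h3).trans h1
  · rcases ho with h | h
    · exact h.trans h4
    · exact h.trans h1

theorem R_q4 {ψ : F → ℤ} (hψ : IsCh ψ) : R ψ 4 (-1) (Fintype.card F ^ 4 - 1) := by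
  have hq : Even (Fintype.card F) := by
    obtain ⟨f, hf, hcard⟩ := FiniteField.card F 2
    rw [hcard]
    exact (Nat.even_pow' (PNat.ne_zero f)).mpr even_two
  have hq1 : 1 ≤ Fintype.card F := Fintype.card_pos
  have h := R.sum hψ (R_plus hψ (e := 2) (by norm_num)) (R_minus hψ (e := 2) (by norm_num))
  rw [lcm_sub_add (hQ := hq.pow_of_ne_zero (by norm_num)) (Nat.one_le_pow _ _ hq1), ← pow_mul] at h
  simpa using h

/-- The semisimple elements with `8` eigenvalues. -/
theorem eight_case {ψ : F → ℤ} (hψ : IsCh ψ) {a : ℕ} (haodd : Odd a)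
    (hcop : Nat.Coprime (Fintype.card F) a) [DecidableEq K] {S : Finset K} (hS : ClosedSet (Fintype.card F) a S)
    (hexp : IsExp S a) (hcard : S.card = 8) : R ψ 4 (-1) a := by
  have hq2 : 2 ≤ Fintype.card F := Fintype.one_lt_card
  have hq1 : 1 ≤ Fintype.card F := by omega
  set q := Fintype.card F with hq
  by_cases hall : ∀ ω ∈ S, ω ^ (q ^ 4 - 1) = 1
  · have h1 := (hexp _).mp hall
    have h2 := R_q4 hψ
    exact h2.pow h2.ne_zero h1
  · push Not at hall
    obtain ⟨ω, hω, hne⟩ := hall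
    have hno : ¬ orderOf ω ∣ q ^ 4 - 1 := fun h => hne (orderOf_dvd_iff_pow_eq_one.mp h)
    obtain ⟨T, e, hTS, hωT, he, hTcard, hTexp, hdvd, hclosed, -⟩ := hS.peel hq2 haodd hcop hω
    have hTle := Finset.card_le_card hTS
    have he4 : e ≤ 4 := by omega
    have hUn : T ∪ (S \ T) = S := union_sdiff_of_subset hTS
    have hrest : (S \ T).card = 8 - 2 * e := by
      rw [card_sdiff_of_subset hTS, hTcard, hcard]
    rcases (by omega : e = 1 ∨ e = 2 ∨ e = 3 ∨ e = 4) with rfl | rfl | rfl | rfl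
    · exact absurd (dvd_four hq1 (Or.inl rfl) hdvd) hno
    · exact absurd (dvd_four hq1 (Or.inr rfl) hdvd) hno
    · -- one more orbit
      have hne2 : (S \ T).Nonempty := by
        rw [← card_pos, hrest]
        norm_num
      obtain ⟨ω₂, hω₂⟩ := hne2
      obtain ⟨T₂, e₂, hT₂S, hω₂T, he₂, hT₂card, hT₂exp, hdvd₂, hclosed₂, -⟩ := hclosed.peel hq2 haodd hcop hω₂
      have hT₂le := Finset.card_le_card hT₂S
      have he₂1 : e₂ = 1 := by omega
      subst he₂1
      have hT₂eq : T₂ = S \ T := Finset.eq_of_subset_of_card_le hT₂S (by omega)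
      subst hT₂eq
      have hexpS := hTexp.union hT₂exp
      rw [hUn] at hexpS
      have haeq : a = Nat.lcm (orderOf ω) (orderOf ω₂) := isExp_unique hexp hexpS
      have hq31 : q - 1 ∣ q ^ 3 - 1 := by
        have := Nat.sub_dvd_pow_sub_pow q 1 3
        rwa [one_pow] at this
      have hq32 : q + 1 ∣ q ^ 3 + 1 := by
        have := Odd.nat_add_dvd_pow_add_pow q 1 (n := 3) (by decide)
        rwa [one_pow] at this
      rw [pow_one] at hdvd₂
      have hP3 := R_plus hψ (e := 3) (by norm_num)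
      have hM3 := R_minus hψ (e := 3) (by norm_num)
      have hP1 := R_plus hψ (e := 1) (by norm_num)
      have hM1 := R_minus hψ (e := 1) (by norm_num)
      rw [pow_one] at hP1 hM1
      rw [haeq]
      rcases hdvd with h3 | h3 <;> rcases hdvd₂ with h1 | h1
      · -- both minus
        have h5 := R.sum hψ hM3 (R_pad hψ 1)
        rw [Nat.lcm_one_right] at h5
        have h6 : Nat.lcm (orderOf ω) (orderOf ω₂) ∣ q ^ 3 + 1 := Nat.lcm_dvd h3 (h1.trans hq32)
        have h7 := h5.pow h5.ne_zero h6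
        simpa using h7
      · have h5 := R.sum hψ hM3 hP1
        have h6 : Nat.lcm (orderOf ω) (orderOf ω₂) ∣ Nat.lcm (q ^ 3 + 1) (q - 1) := Nat.lcm_dvd (h3.trans (Nat.dvd_lcm_left _ _)) (h1.trans (Nat.dvd_lcm_right _ _))
        have h7 := h5.pow h5.ne_zero h6
        simpa using h7
      · have h5 := R.sum hψ hP3 hM1
        have h6 : Nat.lcm (orderOf ω) (orderOf ω₂) ∣ Nat.lcm (q ^ 3 - 1) (q + 1) := Nat.lcm_dvd (h3.trans (Nat.dvd_lcm_left _ _)) (h1.trans (Nat.dvd_lcm_right _ _))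
        have h7 := h5.pow h5.ne_zero h6
        simpa using h7
      · have h5 := R.sum hψ hP3 (R_pad_minus hψ (k := 1) one_ne_zero)
        rw [Nat.lcm_one_right] at h5
        have h6 : Nat.lcm (orderOf ω) (orderOf ω₂) ∣ q ^ 3 - 1 := Nat.lcm_dvd h3 (h1.trans hq31)
        have h7 := h5.pow h5.ne_zero h6
        simpa using h7
    · have hTeq : T = S := Finset.eq_of_subset_of_card_le hTS (by omega)
      subst hTeq
      have haeq : a = orderOf ω := isExp_unique hexp hTexp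
      rcases hdvd with h3 | h3
      · have h5 := R_minus hψ (e := 4) (by norm_num)
        rw [haeq]
        exact h5.pow h5.ne_zero h3
      · exact absurd h3 hno

end Cfsg.Agent.Lib.GOm
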