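import Mathlib
import Cfsg.Agent.Lib.GOmE

/-!
# Isometries of the minus form as symplectic matrices, and `PSp(8)` in characteristic two
-/

set_option autoImplicit false
set_option linter.unusedSectionVars false
set_option linter.unusedSimpArgs false
set_option linter.unusedVariables false
set_option linter.style.haveILetI false

namespace Cfsg.Agent.Lib.GOm

open Module QuadraticMap Finset
open Cfsg.Agent.Lib.QuadFF Cfsg.Agent.Lib.OrthoBasic Cfsg.Agent.Lib.OrthoCount Cfsg.Agent.Lib.QuadClass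
open Cfsg.Agent.Lib.OrthGroup (fix mem_fix)
open Cfsg.Agent.Lib.SpSpec Cfsg.Agent.Lib.SpBasic Cfsg.Agent.Lib.SpCenter

variable {F : Type*} [Field F] [Fintype F] [CharP F 2]

/-- The closed sets with the expected bounds give elements of the minus form. -/
theorem R_of_closed {K : Type*} [Field K] [DecidableEq K] {ψ : F → ℤ} (hψ : IsCh ψ) {a α : ℕ} (haodd : Odd a)
    (hcop : Nat.Coprime (Fintype.card F) a) {S : Finset K} (hS : ClosedSet (Fintype.card F) a S)
    (hexp : IsExp S a) (hcard : S.card ≤ 8) (hα : 1 ≤ α → S.card + 2 ^ (α - 1) + 1 ≤ 8) :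
    R ψ 4 (-1) (a * 2 ^ α) := by
  obtain ⟨hev, c, ε, hc, hcexp⟩ := closed_R hψ haodd hcop S hS
  obtain rfl : c = a := isExp_unique hcexp hexp
  have hlcm : ∀ α, Nat.lcm c (2 ^ α) = c * 2 ^ α := fun α =>
    Nat.Coprime.lcm_eq_mul (Nat.Coprime.pow_right _ (Nat.coprime_two_right.mpr haodd))
  obtain ⟨t, ht⟩ := hev
  rcases (by omega : α = 0 ∨ α = 1 ∨ α = 2 ∨ α = 3 ∨ 4 ≤ α) with rfl | rfl | rfl | rfl | h4
  · rw [pow_zero, mul_one]
    by_cases h8 : S.card = 8
    · exact eight_case hψ haodd hcop hS hexp h8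
    · have h := combine hψ hc (fun ε' => (RG_id hψ ε').to_R) (by omega)
      rwa [Nat.lcm_one_right] at h
  · have h1 := hα (by norm_num)
    norm_num at h1
    have h := combine hψ hc (fun ε' => (RG_U2 hψ ε').to_R) (by omega)
    rwa [show (2 : ℕ) = 2 ^ 1 from rfl, hlcm] at h
  · have h1 := hα (by norm_num)
    norm_num at h1
    have h := combine hψ hc (fun ε' => (RG_U4 hψ ε').to_R) (by omega)
    rwa [show (4 : ℕ) = 2 ^ 2 from rfl, hlcm] at h
  · have h1 := hα (by norm_num)
    norm_num at h1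
    have h := combine hψ hc (fun ε' => R_U8 hψ ε') (by omega)
    rwa [show (8 : ℕ) = 2 ^ 3 from rfl, hlcm] at h
  · exfalso
    have h1 := hα (by omega)
    have h2 : 2 ^ 3 ≤ 2 ^ (α - 1) := Nat.pow_le_pow_right (by norm_num) (by omega)
    omega

theorem coprime_card {a : ℕ} (ha : Odd a) : Nat.Coprime (Fintype.card F) a := by
  obtain ⟨f, hf, hcard⟩ := FiniteField.card F 2
  rw [hcard]
  exact Nat.Coprime.pow_left _ (Nat.coprime_two_left.mpr ha)

/-- Elements of the symplectic group give elements of the minus form. -/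
theorem R_of_Sp {ψ : F → ℤ} (hψ : IsCh ψ) (y : SpG 4 F) : R ψ 4 (-1) (orderOf y) := by
  classical
  have hy0 : orderOf y ≠ 0 := (orderOf_pos y).ne'
  obtain ⟨α, a, ha, hn⟩ := Nat.exists_eq_two_pow_mul_odd hy0
  have hn' : orderOf y = a * 2 ^ α := by rw [hn, mul_comm]
  obtain ⟨S, hS, hexp, hc, hb⟩ := spec_main (F := F) 2 y a α ha (Nat.coprime_two_right.mpr ha) hn'
  rw [hn']
  exact R_of_closed hψ ha (coprime_card ha) hS hexp (by omega) (fun h => by have := hb h; omega)

/-! ### The form on `F ^ (4 + 4)` with polar form the symplectic form -/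

abbrev KK : Type := Fin 4 ⊕ Fin 4
abbrev II : Type := (Fin 3 ⊕ Fin 3) ⊕ Fin 2

/-- Coordinates. -/
noncomputable def LL (a : F) (ha : a ≠ 0) : (KK → F) ≃ₗ[F] (II → F) where
  toFun w := Sum.elim (Sum.elim (fun i => w (.inl i.castSucc)) (fun i => w (.inr i.castSucc)))
    ![w (.inl (Fin.last 3)), a⁻¹ * w (.inr (Fin.last 3))]
  invFun u := Sum.elim (Fin.lastCases (u (.inr 0)) (fun i => u (.inl (.inl i))))
    (Fin.lastCases (a * u (.inr 1)) (fun i => u (.inl (.inr i))))
  map_add' x y := by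
    funext i
    rcases i with (i | i) | i
    · rfl
    · rfl
    · fin_cases i
      · rfl
      · simp [mul_add]
  map_smul' c x := by
    funext i
    rcases i with (i | i) | i
    · rfl
    · rfl
    · fin_cases i
      · rfl
      · simp
        ring
  left_inv w := by
    funext i
    rcases i with i | i
    · refine Fin.lastCases ?_ (fun j => ?_) i
      · show Fin.lastCases (w (.inl (Fin.last 3))) (fun i => w (.inl i.castSucc)) (Fin.last 3) = w (.inl (Fin.last 3))
        rw [Fin.lastCases_last]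
      · simp
    · refine Fin.lastCases ?_ (fun j => ?_) i
      · show Fin.lastCases (a * (a⁻¹ * w (.inr (Fin.last 3)))) (fun i => w (.inr i.castSucc)) (Fin.last 3) = w (.inr (Fin.last 3))
        rw [Fin.lastCases_last, mul_inv_cancel_left₀ ha]
      · simp
  right_inv u := by
    funext i
    rcases i with (i | i) | i
    · simp
    · simp
    · fin_cases i
      · show Fin.lastCases (u (.inr 0)) (fun i => u (.inl (.inl i))) (Fin.last 3) = u (.inr 0)
        rw [Fin.lastCases_last]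
      · show a⁻¹ * Fin.lastCases (a * u (.inr 1)) (fun i => u (.inl (.inr i))) (Fin.last 3) = u (.inr 1)
        rw [Fin.lastCases_last, inv_mul_cancel_left₀ ha]

/-- The form on `F ^ (4 + 4)`. -/
noncomputable def QL (a b : F) (ha : a ≠ 0) : QuadraticForm F (KK → F) := (qMinus 3 a b).comp (LL a ha).toLinearMap

theorem QL_LL (a b : F) (ha : a ≠ 0) (w : KK → F) : qMinus 3 a b (LL a ha w) = QL a b ha w := rfl

theorem QL_apply (a b : F) (ha : a ≠ 0) (w : KK → F) :
    QL a b ha w = (∑ i : Fin 4, w (.inl i) * w (.inr i)) + (w (.inl (Fin.last 3)) ^ 2 + b * (a⁻¹ * w (.inr (Fin.last 3))) ^ 2) := by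
  rw [← QL_LL, qMinus_apply, Fin.sum_univ_castSucc]
  simp only [Cfsg.quadFormMinus]
  have h1 : LL a ha w (.inr 0) = w (.inl (Fin.last 3)) := rfl
  have h2 : LL a ha w (.inr 1) = a⁻¹ * w (.inr (Fin.last 3)) := rfl
  have h3 : ∀ i : Fin 3, LL a ha w (.inl (.inl i)) = w (.inl i.castSucc) := fun _ => rfl
  have h4 : ∀ i : Fin 3, LL a ha w (.inl (.inr i)) = w (.inr i.castSucc) := fun _ => rfl
  simp only [h1, h2, h3, h4]
  field_simp
  ring

theorem polar_QL (a b : F) (ha : a ≠ 0) (u v : KK → F) : polar (QL a b ha) u v = ω u v := by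
  have h2 : (2 : F) = 0 := CharTwo.two_eq_zero
  rw [polar, ω_apply]
  simp only [QL_apply, Pi.add_apply]
  have hs : (∑ i : Fin 4, (u (.inl i) + v (.inl i)) * (u (.inr i) + v (.inr i))) - ∑ i : Fin 4, u (.inl i) * u (.inr i) -
      ∑ i : Fin 4, v (.inl i) * v (.inr i) = ∑ i : Fin 4, (u (.inr i) * v (.inl i) - u (.inl i) * v (.inr i)) := by
    rw [← Finset.sum_sub_distrib, ← Finset.sum_sub_distrib]
    refine Finset.sum_congr rfl fun i _ => ?_
    grind
  rw [← hs]
  grind

theorem ND_QL (a b : F) (ha : a ≠ 0) : ND (QL a b ha) := by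
  intro x hx
  apply eq_zero_of_ω_eq_zero
  intro y
  rw [← polar_QL a b ha]
  exact hx y

/-- Isometries of `QL` are symplectic. -/
noncomputable def toSp (a b : F) (ha : a ≠ 0) : OG (QL a b ha) →* SpG 4 F where
  toFun g := ⟨LinearMap.toMatrix' ((g : (KK → F) ≃ₗ[F] (KK → F)) : (KK → F) →ₗ[F] (KK → F)), by
    rw [mem_symplecticGroup_iff]
    intro x y
    rw [LinearMap.toMatrix'_mulVec, LinearMap.toMatrix'_mulVec, ← polar_QL a b ha, ← polar_QL a b ha]
    exact OG_polar _ g x y⟩
  map_one' := by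
    apply Subtype.ext
    exact LinearMap.toMatrix'_id
  map_mul' g h := by
    apply Subtype.ext
    exact LinearMap.toMatrix'_comp _ _

theorem toSp_injective (a b : F) (ha : a ≠ 0) : Function.Injective (toSp a b ha) := by
  intro g h hgh
  have h1 := congrArg Subtype.val hgh
  have h2 := LinearMap.toMatrix'.injective h1
  apply Subtype.ext
  apply LinearEquiv.ext
  intro x
  exact congrArg (fun f : (KK → F) →ₗ[F] (KK → F) => f x) h2

theorem orderOf_projSp_char_two (z : SpG 4 F) : orderOf (projSp 4 F z) = orderOf z := by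
  have hneg : (negOne : SpG 4 F) = 1 := by
    apply Subtype.ext
    show (-1 : Matrix (Fin 4 ⊕ Fin 4) (Fin 4 ⊕ Fin 4) F) = 1
    rw [CharTwo.neg_eq]
  apply orderOf_eq_orderOf_iff.mpr
  intro k
  rw [← map_pow, projSp_eq_one_iff, hneg]
  simp

theorem a_ne_zero {a b : F} (han : ∀ z₁ z₂ : F, z₁ ^ 2 + a * z₁ * z₂ + b * z₂ ^ 2 = 0 → z₁ = 0 ∧ z₂ = 0) : a ≠ 0 := by
  rintro rfl
  -- the square root of `b`
  have hinj : Function.Injective (fun x : F => x ^ 2) := by
    intro x y h
    have h2 : (2 : F) = 0 := CharTwo.two_eq_zero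
    have h3 : x ^ 2 = y ^ 2 := h
    have h1 : (x - y) ^ 2 = 0 := by grind
    exact sub_eq_zero.mp (pow_eq_zero_iff two_ne_zero |>.mp h1)
  obtain ⟨s, hs⟩ := Finite.injective_iff_surjective.mp hinj b
  have hs' : s ^ 2 = b := hs
  have := han s 1 (by
    have h2 : (2 : F) = 0 := CharTwo.two_eq_zero
    rw [← hs']
    grind)
  exact one_ne_zero this.2

/-- The first spectral equality. -/
theorem spec_eq (a b : F) (han : ∀ z₁ z₂ : F, z₁ ^ 2 + a * z₁ * z₂ + b * z₂ ^ 2 = 0 → z₁ = 0 ∧ z₂ = 0) :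
    Set.range (orderOf : Cfsg.PSp 4 F → ℕ) =
      Set.range (orderOf : ↥(Cfsg.isometryGroup F (Cfsg.quadFormMinus 3 F a b)) → ℕ) := by
  classical
  have ha := a_ne_zero han
  obtain ⟨ψ, hψ⟩ := exists_ch F
  have hf : ∀ v, Cfsg.quadFormMinus 3 F a b v = qMinus 3 a b v := fun v => (qMinus_apply 3 a b v).symm
  let e := isoOG (Cfsg.quadFormMinus 3 F a b) (qMinus 3 a b) hf
  ext n
  constructor
  · rintro ⟨x, rfl⟩
    obtain ⟨z, rfl⟩ := projSp_surjective 4 x
    rw [orderOf_projSp_char_two]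
    obtain ⟨g, hg⟩ := R.to_target hψ (R_of_Sp hψ z) a b han
    exact ⟨e.symm g, by rw [MulEquiv.orderOf_eq, hg]⟩
  · rintro ⟨g, rfl⟩
    have hL : ∀ v, QL a b ha ((LL a ha).symm v) = qMinus 3 a b v := by
      intro v
      rw [← QL_LL, LinearEquiv.apply_symm_apply]
    let g' := OG.congr (LL a ha).symm hL (e g)
    refine ⟨projSp 4 F (toSp a b ha g'), ?_⟩
    rw [orderOf_projSp_char_two, orderOf_injective _ (toSp_injective a b ha), MulEquiv.orderOf_eq, MulEquiv.orderOf_eq]

end Cfsg.Agent.Lib.GOm
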