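import Mathlib
import Cfsg.Prelude.Def_LieClassical
import Cfsg.Agent.Lib.NormH90
import Cfsg.Agent.Lib.UnitarySU

/-!
# Conjugacy in `GU_n(q)`.
-/

set_option autoImplicit false
set_option linter.unusedSectionVars false
set_option linter.unusedSimpArgs false
set_option linter.unnecessarySeqFocus false

namespace Cfsg.Agent.Lib.UnitaryConjGU

open Matrix Cfsg Cfsg.Agent.Lib.NormH90 Cfsg.Agent.Lib.UnitaryBasic Cfsg.Agent.Lib.HermCount
open scoped MatrixGroups

variable {K : Type*} [Field K] [Fintype K] {q n : ℕ}

/-- Conjugate transpose. -/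
def st (q : ℕ) (X : Matrix (Fin n) (Fin n) K) : Matrix (Fin n) (Fin n) K :=
  (X.map fun x => x ^ q)ᵀ

theorem st_apply (X : Matrix (Fin n) (Fin n) K) (i j : Fin n) : st q X i j = X j i ^ q := rfl

theorem st_eq (hK : Fintype.card K = q ^ 2) (X : Matrix (Fin n) (Fin n) K) : st q X = (X.map (sigma hK))ᵀ := rfl

theorem st_add (hK : Fintype.card K = q ^ 2) (X Y : Matrix (Fin n) (Fin n) K) : st q (X + Y) = st q X + st q Y := by
  ext i j
  simp only [st_apply, Matrix.add_apply]
  exact add_pow_q hK _ _

theorem st_mul (hK : Fintype.card K = q ^ 2) (X Y : Matrix (Fin n) (Fin n) K) : st q (X * Y) = st q Y * st q X := by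
  rw [st_eq hK, st_eq hK, st_eq hK, Matrix.map_mul, Matrix.transpose_mul]

theorem st_one (hK : Fintype.card K = q ^ 2) : st q (1 : Matrix (Fin n) (Fin n) K) = 1 := by
  have hq : q ≠ 0 := by have := two_le_q hK; omega
  ext i j
  rw [st_apply]
  by_cases h : i = j
  · subst h
    simp
  · simp [Matrix.one_apply, h, Ne.symm h, hq]

theorem st_st (hK : Fintype.card K = q ^ 2) (X : Matrix (Fin n) (Fin n) K) : st q (st q X) = X := by
  ext i j
  rw [st_apply, st_apply, pow_q_pow_q hK]

theorem isAnti_st (hK : Fintype.card K = q ^ 2) : IsAnti (st q : Matrix (Fin n) (Fin n) K → _) :=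
  ⟨st_add hK, st_mul hK, st_one hK⟩

theorem st_smul_one (hK : Fintype.card K = q ^ 2) (a : K) :
    st q (a • (1 : Matrix (Fin n) (Fin n) K)) = (a ^ q) • 1 := by
  have hq : q ≠ 0 := by have := two_le_q hK; omega
  ext i j
  rw [st_apply]
  by_cases h : i = j
  · subst h
    simp
  · simp [Matrix.one_apply, h, Ne.symm h, hq]

/-- Unitary elements. -/
theorem st_mul_self_of_mem (hK : Fintype.card K = q ^ 2) {g : GL (Fin n) K} (hg : g ∈ GU n K q) :
    st q (g : Matrix (Fin n) (Fin n) K) * (g : Matrix (Fin n) (Fin n) K) = 1 := by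
  have h1 := Cfsg.Agent.Lib.UnitarySU.transpose_mul_map_sigma hK (A := (g : Matrix (Fin n) (Fin n) K)) hg
  have h2 : st q ((g : Matrix (Fin n) (Fin n) K).transpose * (g : Matrix (Fin n) (Fin n) K).map (sigma hK)) = st q 1 := by
    rw [h1]
  rw [st_mul hK, st_one hK] at h2
  have h3 : st q ((g : Matrix (Fin n) (Fin n) K)ᵀ) = (g : Matrix (Fin n) (Fin n) K).map (sigma hK) := by
    ext i j
    rfl
  have h4 : st q ((g : Matrix (Fin n) (Fin n) K).map (sigma hK)) = (g : Matrix (Fin n) (Fin n) K)ᵀ := by
    ext i j
    rw [st_apply]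
    exact pow_q_pow_q hK _
  rw [h3, h4] at h2
  have h5 : st q (g : Matrix (Fin n) (Fin n) K) = ((g : Matrix (Fin n) (Fin n) K).map (sigma hK))ᵀ := rfl
  rw [h5]
  have h6 := congrArg Matrix.transpose h2
  simp only [Matrix.transpose_mul, Matrix.transpose_transpose, Matrix.transpose_one] at h6
  exact h6

theorem mem_of_st_mul_self (hK : Fintype.card K = q ^ 2) {g : GL (Fin n) K}
    (hg : st q (g : Matrix (Fin n) (Fin n) K) * (g : Matrix (Fin n) (Fin n) K) = 1) : g ∈ GU n K q := by
  intro u v
  change hermForm n K q ((g : Matrix (Fin n) (Fin n) K) *ᵥ u) ((g : Matrix (Fin n) (Fin n) K) *ᵥ v) = hermForm n K q u v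
  have hherm : ∀ a b : Fin n → K, hermForm n K q a b = a ⬝ᵥ (fun i => sigma hK (b i)) := fun a b => rfl
  have hmul : (fun i => sigma hK (((g : Matrix (Fin n) (Fin n) K) *ᵥ v) i)) =
      (g : Matrix (Fin n) (Fin n) K).map (sigma hK) *ᵥ fun i => sigma hK (v i) := by
    funext i
    exact RingHom.map_mulVec (sigma hK) (g : Matrix (Fin n) (Fin n) K) v i
  rw [hherm, hherm, hmul]
  have h1 : (g : Matrix (Fin n) (Fin n) K) * st q (g : Matrix (Fin n) (Fin n) K) = 1 :=
    mul_eq_one_comm.mp hg
  have h2 : (g : Matrix (Fin n) (Fin n) K).map (sigma hK) * (g : Matrix (Fin n) (Fin n) K)ᵀ = 1 := by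
    have := congrArg Matrix.transpose h1
    simp only [Matrix.transpose_mul, Matrix.transpose_one] at this
    exact this
  have h3 : (g : Matrix (Fin n) (Fin n) K)ᵀ * (g : Matrix (Fin n) (Fin n) K).map (sigma hK) = 1 :=
    mul_eq_one_comm.mp h2
  rw [← Matrix.vecMul_transpose, ← Matrix.dotProduct_mulVec, Matrix.mulVec_mulVec, h3, Matrix.one_mulVec]

/-- A field element not fixed by the involution. -/
theorem exists_ne_pow (hK : Fintype.card K = q ^ 2) : ∃ a : K, a ^ q ≠ a := by
  classical
  by_contra hno
  push Not at hno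
  have hq := two_le_q hK
  have hdeg : (Polynomial.X ^ q - Polynomial.X : Polynomial K).natDegree = q := by
    rw [Polynomial.natDegree_sub_eq_left_of_natDegree_lt] <;> simp <;> omega
  have hne : (Polynomial.X ^ q - Polynomial.X : Polynomial K) ≠ 0 := by
    intro h
    rw [h] at hdeg
    simp at hdeg
    omega
  have hsub : (Finset.univ : Finset K).val ⊆ (Polynomial.X ^ q - Polynomial.X : Polynomial K).roots := by
    intro a _
    rw [Polynomial.mem_roots hne]
    simp [Polynomial.IsRoot, hno a]
  have := Polynomial.card_le_degree_of_subset_roots hsub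
  rw [hdeg, Finset.card_univ, hK] at this
  nlinarith

/-- Every invertible Hermitian matrix is a norm; the norm is a polynomial in it. -/
theorem exists_norm (hK : Fintype.card K = q ^ 2) {C C' : Matrix (Fin n) (Fin n) K} (hC : st q C = C)
    (hCC' : C * C' = 1) : ∃ D D', D ∈ Subring.closure (insert C (Set.range fun a : K => a • (1 : Matrix (Fin n) (Fin n) K))) ∧
      D' ∈ Subring.closure (insert C (Set.range fun a : K => a • (1 : Matrix (Fin n) (Fin n) K))) ∧
      D * D' = 1 ∧ D * st q D = C ∧ st q D * D = C := by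
  classical
  set T : Set (Matrix (Fin n) (Fin n) K) := insert C (Set.range fun a : K => a • (1 : Matrix (Fin n) (Fin n) K)) with hTdef
  have hT : ∀ x ∈ T, ∀ y ∈ T, x * y = y * x := by
    rintro x (rfl | ⟨a, rfl⟩) y (rfl | ⟨b, rfl⟩)
    · rfl
    · simp
    · simp
    · simp [smul_smul, mul_comm]
  have hTst : ∀ x ∈ T, st q x ∈ T := by
    rintro x (rfl | ⟨a, rfl⟩)
    · rw [hC]; exact Set.mem_insert _ _
    · rw [st_smul_one hK]; exact Set.mem_insert_of_mem _ ⟨_, rfl⟩
  have hTinv : ∀ x ∈ T, st q (st q x) = x := fun x _ => st_st hK x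
  obtain ⟨a, ha⟩ := exists_ne_pow hK
  have hsub : a - a ^ q ≠ 0 := sub_ne_zero.mpr (Ne.symm ha)
  have hCS : C ∈ Subring.closure T := Subring.subset_closure (Set.mem_insert _ _)
  have hscal : ∀ b : K, b • (1 : Matrix (Fin n) (Fin n) K) ∈ Subring.closure T :=
    fun b => Subring.subset_closure (Set.mem_insert_of_mem _ ⟨b, rfl⟩)
  have hC'S : C' ∈ Subring.closure T := inv_mem_subring _ hCS hCC' (mul_eq_one_comm.mp hCC')
  obtain ⟨D, D', h1, h2, h3, h4, h5⟩ := anti_norm (isAnti_st hK) hT hTst hTinv (ε := 1) (α := a • 1)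
    (β := (a - a ^ q)⁻¹ • 1) (C := C) (C' := C') (one_mem _) (hscal _) (hscal _) hCS hC'S (by simp)
    (st_one hK) (by
      rw [st_smul_one hK, ← sub_smul, smul_mul_smul_comm, mul_one, mul_inv_cancel₀ hsub, one_smul]) hC hCC'
  have h6 : D * st q D = C := by rw [h5, one_mul]
  refine ⟨D, D', h1, h2, h3, h6, ?_⟩
  rw [← h6]
  exact comm_closure hT (st_mem_closure (isAnti_st hK) hTst h1) h1

theorem closure_commute (hK : Fintype.card K = q ^ 2) {a C : Matrix (Fin n) (Fin n) K} (h : C * a = a * C)
    {x : Matrix (Fin n) (Fin n) K}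
    (hx : x ∈ Subring.closure (insert C (Set.range fun a : K => a • (1 : Matrix (Fin n) (Fin n) K)))) :
    x * a = a * x := by
  refine commute_closure ?_ hx
  rintro y (rfl | ⟨b, rfl⟩)
  · exact h
  · simp

/-- Conjugacy in `GL` implies conjugacy in `GU`. -/
theorem isConj_GU_of_GL (hK : Fintype.card K = q ^ 2) (A B : ↥(GU n K q))
    (h : IsConj (A : GL (Fin n) K) (B : GL (Fin n) K)) : IsConj A B := by
  classical
  obtain ⟨P, hP⟩ := isConj_iff.1 h
  let a : Matrix (Fin n) (Fin n) K := (A : GL (Fin n) K)
  let b : Matrix (Fin n) (Fin n) K := (B : GL (Fin n) K)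
  let p : Matrix (Fin n) (Fin n) K := P
  let p' : Matrix (Fin n) (Fin n) K := (P⁻¹ : GL (Fin n) K)
  have hpp' : p * p' = 1 := by
    show ((P * P⁻¹ : GL (Fin n) K) : Matrix (Fin n) (Fin n) K) = 1
    simp
  have hp'p : p' * p = 1 := mul_eq_one_comm.mp hpp'
  have hab : p * a = b * p := by
    have h1 : P * (A : GL (Fin n) K) = (B : GL (Fin n) K) * P := by
      rw [← hP]; group
    exact congrArg Units.val h1
  have ha1 : st q a * a = 1 := st_mul_self_of_mem hK A.2
  have ha2 : a * st q a = 1 := mul_eq_one_comm.mp ha1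
  have hb1 : st q b * b = 1 := st_mul_self_of_mem hK B.2
  have hb2 : b * st q b = 1 := mul_eq_one_comm.mp hb1
  have hst1 : st q a * st q p = st q p * st q b := by
    rw [← st_mul hK, ← st_mul hK, hab]
  have hst2 : st q p * b = a * st q p := by
    calc st q p * b = (a * st q a) * st q p * b := by rw [ha2, one_mul]
      _ = a * (st q a * st q p) * b := by simp only [mul_assoc]
      _ = a * (st q p * st q b) * b := by rw [hst1]
      _ = a * st q p * (st q b * b) := by simp only [mul_assoc]
      _ = a * st q p := by rw [hb1, mul_one]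
  let C := st q p * p
  have hCst : st q C = C := by
    simp only [C]
    rw [st_mul hK, st_st hK]
  have hCC' : C * (p' * st q p') = 1 := by
    calc C * (p' * st q p') = st q p * (p * p') * st q p' := by simp only [C, mul_assoc]
      _ = st q (p' * p) := by rw [hpp', mul_one, st_mul hK]
      _ = 1 := by rw [hp'p, st_one hK]
  have hCa : C * a = a * C := by
    calc C * a = st q p * (p * a) := by simp only [C, mul_assoc]
      _ = st q p * b * p := by rw [hab, mul_assoc]
      _ = a * C := by rw [hst2]; simp only [C, mul_assoc]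
  obtain ⟨D, D', hD, hD', h1, h2, h3⟩ := exists_norm hK hCst hCC'
  have h1' : D' * D = 1 := mul_eq_one_comm.mp h1
  have hD'a := closure_commute hK hCa hD'
  let gG : GL (Fin n) K := ⟨p * D', D * p', by
      calc p * D' * (D * p') = p * (D' * D) * p' := by simp only [mul_assoc]
        _ = 1 := by rw [h1', mul_one, hpp'], by
      calc D * p' * (p * D') = D * (p' * p) * D' := by simp only [mul_assoc]
        _ = 1 := by rw [hp'p, mul_one, h1]⟩
  have hgval : (gG : Matrix (Fin n) (Fin n) K) = p * D' := rfl
  have hgmem : gG ∈ GU n K q := by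
    apply mem_of_st_mul_self hK
    rw [hgval, st_mul hK]
    calc st q D' * st q p * (p * D') = st q D' * C * D' := by simp only [C, mul_assoc]
      _ = st q D' * st q D * (D * D') := by rw [← h3]; simp only [mul_assoc]
      _ = st q (D * D') * (D * D') := by rw [st_mul hK]
      _ = 1 := by rw [h1, st_one hK, one_mul]
  rw [isConj_iff]
  refine ⟨⟨gG, hgmem⟩, ?_⟩
  rw [mul_inv_eq_iff_eq_mul]
  apply Subtype.ext
  apply Units.ext
  show p * D' * a = b * (p * D')
  calc p * D' * a = p * (a * D') := by rw [mul_assoc, hD'a]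
    _ = (p * a) * D' := by rw [mul_assoc]
    _ = b * (p * D') := by rw [hab, mul_assoc]

theorem isConj_GU_iff (hK : Fintype.card K = q ^ 2) (A B : ↥(GU n K q)) :
    IsConj A B ↔ IsConj (A : GL (Fin n) K) (B : GL (Fin n) K) :=
  ⟨fun h => (GU n K q).subtype.map_isConj h, isConj_GU_of_GL hK A B⟩

/-- Similar to a unitary matrix. -/
theorem exists_GU_conj_iff (hK : Fintype.card K = q ^ 2) (A : GL (Fin n) K) :
    (∃ B : ↥(GU n K q), IsConj A (B : GL (Fin n) K)) ↔
      IsConj (A : Matrix (Fin n) (Fin n) K) (((A : Matrix (Fin n) (Fin n) K).map (fun x : K => x ^ q)).transpose)⁻¹ := by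
  classical
  let a : Matrix (Fin n) (Fin n) K := A
  let a' : Matrix (Fin n) (Fin n) K := (A⁻¹ : GL (Fin n) K)
  have haa' : a * a' = 1 := by
    show ((A * A⁻¹ : GL (Fin n) K) : Matrix (Fin n) (Fin n) K) = 1
    simp
  have ha'a : a' * a = 1 := mul_eq_one_comm.mp haa'
  have hsta : st q a * st q a' = 1 := by rw [← st_mul hK, ha'a, st_one hK]
  have hinv : (st q a)⁻¹ = st q a' := Matrix.inv_eq_right_inv hsta
  have hgoal : (((A : Matrix (Fin n) (Fin n) K).map (fun x : K => x ^ q)).transpose)⁻¹ = st q a' := hinv
  rw [hgoal]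
  constructor
  · rintro ⟨B, hB⟩
    obtain ⟨E, hE⟩ := isConj_iff.1 hB
    let b : Matrix (Fin n) (Fin n) K := (B : GL (Fin n) K)
    let e : Matrix (Fin n) (Fin n) K := E
    let e' : Matrix (Fin n) (Fin n) K := (E⁻¹ : GL (Fin n) K)
    have hee' : e * e' = 1 := by
      show ((E * E⁻¹ : GL (Fin n) K) : Matrix (Fin n) (Fin n) K) = 1
      simp
    have he'e : e' * e = 1 := mul_eq_one_comm.mp hee'
    have hab : e * a = b * e := by
      have h1 : E * A = (B : GL (Fin n) K) * E := by
        rw [← hE]; group
      exact congrArg Units.val h1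
    have hb1 : st q b * b = 1 := st_mul_self_of_mem hK B.2
    have hb2 : b * st q b = 1 := mul_eq_one_comm.mp hb1
    let U : (Matrix (Fin n) (Fin n) K)ˣ := ⟨st q e * e, e' * st q e', by
      calc st q e * e * (e' * st q e') = st q e * (e * e') * st q e' := by simp only [mul_assoc]
        _ = st q (e' * e) := by rw [hee', mul_one, st_mul hK]
        _ = 1 := by rw [he'e, st_one hK], by
      calc e' * st q e' * (st q e * e) = e' * (st q e' * st q e) * e := by simp only [mul_assoc]
        _ = e' * st q (e * e') * e := by rw [st_mul hK]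
        _ = 1 := by rw [hee', st_one hK, mul_one, he'e]⟩
    refine ⟨U, ?_⟩
    show st q e * e * a = st q a' * (st q e * e)
    -- `st a * (st e * e * a) = st e * e` 
    have h2 : st q a * (st q e * e * a) = st q e * e := by
      calc st q a * (st q e * e * a) = st q (e * a) * (e * a) := by
            rw [st_mul hK]; simp only [mul_assoc]
        _ = st q e * (st q b * b) * e := by rw [hab, st_mul hK]; simp only [mul_assoc]
        _ = st q e * e := by rw [hb1, mul_one]
    calc st q e * e * a = (st q a' * st q a) * (st q e * e * a) := by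
          rw [← st_mul hK, haa', st_one hK, one_mul]
      _ = st q a' * (st q e * e) := by rw [mul_assoc, h2]
  · rintro ⟨c, hc⟩
    have hc' : (c : Matrix (Fin n) (Fin n) K) * a = st q a' * (c : Matrix (Fin n) (Fin n) K) := hc
    let r : Matrix (Fin n) (Fin n) K := c
    let r' : Matrix (Fin n) (Fin n) K := ((c⁻¹ : (Matrix (Fin n) (Fin n) K)ˣ) : Matrix (Fin n) (Fin n) K)
    have hrr' : r * r' = 1 := by
      show ((c * c⁻¹ : (Matrix (Fin n) (Fin n) K)ˣ) : Matrix (Fin n) (Fin n) K) = 1
      simp
    have hr'r : r' * r = 1 := mul_eq_one_comm.mp hrr'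
    have hra : r * a = st q a' * r := hc'
    -- the twisted involution
    let st' : Matrix (Fin n) (Fin n) K → Matrix (Fin n) (Fin n) K := fun X => r' * st q X * r
    have hanti : IsAnti st' := by
      refine ⟨?_, ?_, ?_⟩
      · intro x y
        simp only [st', st_add hK, mul_add, add_mul]
      · intro x y
        simp only [st', st_mul hK]
        calc r' * (st q y * st q x) * r = r' * st q y * (r * r') * st q x * r := by
              rw [hrr', mul_one]; simp only [mul_assoc]
          _ = _ := by simp only [mul_assoc]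
      · simp only [st', st_one hK, mul_one, hr'r]
    let s : Matrix (Fin n) (Fin n) K := r' * st q r
    let s' : Matrix (Fin n) (Fin n) K := st q r' * r
    have hss' : s * s' = 1 := by
      calc s * s' = r' * (st q r * st q r') * r := by simp only [s, s', mul_assoc]
        _ = 1 := by rw [← st_mul hK, hr'r, st_one hK, mul_one, hr'r]
    have hs's : s' * s = 1 := mul_eq_one_comm.mp hss'
    have hsts : st' s = s' := by
      simp only [st', s, s', st_mul hK, st_st hK]
      calc r' * (r * st q r') * r = (r' * r) * st q r' * r := by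
            simp only [mul_assoc]
        _ = _ := by rw [hr'r, one_mul]
    have hsts' : st' s' = s := by
      simp only [st', s, s', st_mul hK, st_st hK]
      calc r' * (st q r * r') * r = r' * st q r * (r' * r) := by simp only [mul_assoc]
        _ = _ := by rw [hr'r, mul_one]
    have hstsc : ∀ x : K, st' (x • 1) = (x ^ q) • 1 := by
      intro x
      simp only [st', st_smul_one hK, mul_smul_comm, smul_mul_assoc, mul_one, hr'r]
    let T : Set (Matrix (Fin n) (Fin n) K) := {s, s'} ∪ Set.range fun x : K => x • (1 : Matrix (Fin n) (Fin n) K)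
    have hT : ∀ x ∈ T, ∀ y ∈ T, x * y = y * x := by
      rintro x ((rfl | rfl) | ⟨u, rfl⟩) y ((rfl | rfl) | ⟨v, rfl⟩)
      · rfl
      · rw [hss', hs's]
      · simp
      · rw [hss', hs's]
      · rfl
      · simp
      · simp
      · simp
      · simp [smul_smul, mul_comm]
    have hTst : ∀ x ∈ T, st' x ∈ T := by
      rintro x ((rfl | rfl) | ⟨u, rfl⟩)
      · rw [hsts]; exact Or.inl (Or.inr rfl)
      · rw [hsts']; exact Or.inl (Or.inl rfl)
      · rw [hstsc]; exact Or.inr ⟨_, rfl⟩
    have hTinv : ∀ x ∈ T, st' (st' x) = x := by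
      rintro x ((rfl | rfl) | ⟨u, rfl⟩)
      · rw [hsts, hsts']
      · rw [hsts', hsts]
      · rw [hstsc, hstsc, pow_q_pow_q hK]
    have hmemS : s ∈ Subring.closure T := Subring.subset_closure (Or.inl (Or.inl rfl))
    have hscal : ∀ b : K, b • (1 : Matrix (Fin n) (Fin n) K) ∈ Subring.closure T :=
      fun b => Subring.subset_closure (Or.inr ⟨b, rfl⟩)
    obtain ⟨x₀, hx₀⟩ := exists_ne_pow hK
    have hsub : x₀ - x₀ ^ q ≠ 0 := sub_ne_zero.mpr (Ne.symm hx₀)
    obtain ⟨u, u', huS, hu'S, huu', hub⟩ := anti_h90 hanti hT hTst hTinv (α := x₀ • 1)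
      (β := (x₀ - x₀ ^ q)⁻¹ • 1) (B := s) (hscal _) (hscal _) hmemS
      (by rw [hstsc, ← sub_smul, smul_mul_smul_comm, mul_one, mul_inv_cancel₀ hsub, one_smul])
      (by rw [hsts, hss'])
    -- `a` commutes with the whole ring
    have hsta_r0 : st q a * r * a = r := by
      rw [mul_assoc, hra, ← mul_assoc, hsta, one_mul]
    have hsta_r : st q a * st q r * a = st q r := by
      have h1 : st q (st q a * r * a) = st q r := by rw [hsta_r0]
      rw [st_mul hK, st_mul hK, st_st hK, ← mul_assoc] at h1
      exact h1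
    have h_ar' : a * r' = r' * st q a' := by
      calc a * r' = (r' * r) * a * r' := by rw [hr'r, one_mul]
        _ = r' * (r * a) * r' := by simp only [mul_assoc]
        _ = r' * (st q a' * r) * r' := by rw [hra]
        _ = r' * st q a' * (r * r') := by simp only [mul_assoc]
        _ = _ := by rw [hrr', mul_one]
    have h_star : st q r * a = st q a' * st q r := by
      calc st q r * a = (st q a' * st q a) * (st q r * a) := by
            rw [← st_mul hK, haa', st_one hK, one_mul]
        _ = st q a' * (st q a * st q r * a) := by simp only [mul_assoc]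
        _ = st q a' * st q r := by rw [hsta_r]
    have hsa : s * a = a * s := by
      calc s * a = r' * (st q r * a) := by simp only [s, mul_assoc]
        _ = r' * (st q a' * st q r) := by rw [h_star]
        _ = (r' * st q a') * st q r := by rw [mul_assoc]
        _ = (a * r') * st q r := by rw [h_ar']
        _ = a * s := by simp only [s, mul_assoc]
    have hs'a : s' * a = a * s' := by
      calc s' * a = s' * a * (s * s') := by rw [hss', mul_one]
        _ = s' * (a * s) * s' := by simp only [mul_assoc]
        _ = s' * (s * a) * s' := by rw [hsa]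
        _ = (s' * s) * a * s' := by simp only [mul_assoc]
        _ = a * s' := by rw [hs's, one_mul]
    have hTa : ∀ x ∈ T, x * a = a * x := by
      rintro x ((rfl | rfl) | ⟨v, rfl⟩)
      · exact hsa
      · exact hs'a
      · simp
    have hua := commute_closure hTa huS
    -- a Hermitian form
    let R' : Matrix (Fin n) (Fin n) K := r * u
    have hstu : st q u = r * st' u * r' := by
      calc st q u = (r * r') * st q u * (r * r') := by rw [hrr', mul_one, one_mul]
        _ = _ := by simp only [st', mul_assoc]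
    have hR'st : st q R' = R' := by
      calc st q R' = st q u * st q r := st_mul hK _ _
        _ = r * st' u * (r' * st q r) := by rw [hstu]; simp only [mul_assoc]
        _ = r * (st' u * s) := by rw [mul_assoc]
        _ = r * (s * st' u) := by rw [comm_closure hT (st_mem_closure hanti hTst huS) hmemS]
        _ = R' := by rw [← hub]
    have hR'inv : R' * (u' * r') = 1 := by
      calc R' * (u' * r') = r * (u * u') * r' := by simp only [R', mul_assoc]
        _ = 1 := by rw [huu', mul_one, hrr']
    have hR'a : st q a * R' * a = R' := by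
      calc st q a * R' * a = st q a * r * (u * a) := by simp only [R', mul_assoc]
        _ = st q a * r * (a * u) := by rw [hua]
        _ = (st q a * r * a) * u := by simp only [mul_assoc]
        _ = R' := by rw [hsta_r0]
    obtain ⟨D, D', -, -, h1, h2, h3⟩ := exists_norm hK hR'st hR'inv
    have h1' : D' * D = 1 := mul_eq_one_comm.mp h1
    let cG : GL (Fin n) K := ⟨D, D', h1, h1'⟩
    let bG : GL (Fin n) K := cG * A * cG⁻¹
    have hbval : (bG : Matrix (Fin n) (Fin n) K) = D * a * D' := rfl
    have hmem : bG ∈ GU n K q := by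
      apply mem_of_st_mul_self hK
      rw [hbval, st_mul hK, st_mul hK]
      calc st q D' * (st q a * st q D) * (D * a * D') = st q D' * (st q a * (st q D * D) * a) * D' := by
            simp only [mul_assoc]
        _ = st q D' * R' * D' := by rw [h3, hR'a]
        _ = st q D' * (st q D * D) * D' := by rw [h3]
        _ = st q (D * D') * (D * D') := by rw [st_mul hK]; simp only [mul_assoc]
        _ = 1 := by rw [h1, st_one hK, one_mul]
    exact ⟨⟨bG, hmem⟩, isConj_iff.2 ⟨cG, rfl⟩⟩

end Cfsg.Agent.Lib.UnitaryConjGU
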