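import Mathlib
import Cfsg.Agent.Lib.GLOrderP
import Cfsg.Agent.Lib.UnitaryConjGU

/-!
# Unipotent classes of general unitary groups
-/

set_option autoImplicit false
set_option linter.unusedSectionVars false
set_option linter.unusedSimpArgs false
set_option linter.unusedVariables false

namespace Cfsg.Agent.Lib.GUOrderP

open Module Matrix
open Cfsg Cfsg.Agent.Lib.JordanClasses Cfsg.Agent.Lib.GLOrderP Cfsg.Agent.Lib.UnitaryConjGU

section ker

universe u

variable {K : Type u} [Field K] [Fintype K] {n : ℕ}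

theorem kc_eq (M : Matrix (Fin n) (Fin n) K) :
    Nat.card {v : Fin n → K // M *ᵥ v = 0} = Fintype.card K ^ (n - M.rank) := by
  have h1 : Nat.card {v : Fin n → K // M *ᵥ v = 0} = Nat.card (LinearMap.ker M.mulVecLin) := by
    refine Nat.card_congr (Equiv.subtypeEquivRight fun v => ?_)
    rw [LinearMap.mem_ker, Matrix.mulVecLin_apply]
  have h2 := LinearMap.finrank_range_add_finrank_ker M.mulVecLin
  rw [Module.finrank_fin_fun] at h2
  have h3 : finrank K (LinearMap.range M.mulVecLin) = M.rank := rfl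
  rw [h1, Module.natCard_eq_pow_finrank (K := K) (V := LinearMap.ker M.mulVecLin), Nat.card_eq_fintype_card]
  congr 1
  omega

theorem kc_map (σ : K →+* K) (M : Matrix (Fin n) (Fin n) K) :
    Nat.card {v : Fin n → K // (M.map σ) *ᵥ v = 0} = Nat.card {v : Fin n → K // M *ᵥ v = 0} := by
  symm
  have hb : Function.Bijective σ := ⟨σ.injective, Finite.injective_iff_surjective.mp σ.injective⟩
  refine Nat.card_congr (Equiv.subtypeEquiv (Equiv.piCongrRight fun _ => Equiv.ofBijective σ hb) fun v => ?_)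
  have h : ∀ i, (M.map σ *ᵥ ((Equiv.piCongrRight fun _ => Equiv.ofBijective σ hb) v)) i = σ ((M *ᵥ v) i) := by
    intro i
    exact (RingHom.map_mulVec σ M v i).symm
  constructor
  · intro h0
    funext i
    rw [h, h0]
    simp
  · intro h0
    funext i
    have := h i
    rw [h0] at this
    apply σ.injective
    simpa using this.symm

theorem rank_map' (σ : K →+* K) (M : Matrix (Fin n) (Fin n) K) : (M.map σ).rank = M.rank := by
  have h1 := kc_map σ M
  rw [kc_eq, kc_eq] at h1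
  have h2 := Nat.pow_right_injective (Fintype.one_lt_card : 2 ≤ Fintype.card K) h1
  have h3 := M.rank_le_width
  have h4 := (M.map σ).rank_le_width
  omega

theorem inv_sub_one_pow (g : GL (Fin n) K) (j : ℕ) :
    (((g⁻¹ : GL (Fin n) K) : Matrix (Fin n) (Fin n) K) - 1) ^ j =
      (-((g⁻¹ : GL (Fin n) K) : Matrix (Fin n) (Fin n) K)) ^ j * ((g : Matrix (Fin n) (Fin n) K) - 1) ^ j := by
  have h1 : ((g⁻¹ : GL (Fin n) K) : Matrix (Fin n) (Fin n) K) * (g : Matrix (Fin n) (Fin n) K) = 1 := Units.inv_mul g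
  have h2 : (g : Matrix (Fin n) (Fin n) K) * ((g⁻¹ : GL (Fin n) K) : Matrix (Fin n) (Fin n) K) = 1 := Units.mul_inv g
  have e : ((g⁻¹ : GL (Fin n) K) : Matrix (Fin n) (Fin n) K) - 1 =
      (-((g⁻¹ : GL (Fin n) K) : Matrix (Fin n) (Fin n) K)) * ((g : Matrix (Fin n) (Fin n) K) - 1) := by
    rw [neg_mul, mul_sub, h1, mul_one]
    abel
  have hc : Commute (-((g⁻¹ : GL (Fin n) K) : Matrix (Fin n) (Fin n) K)) ((g : Matrix (Fin n) (Fin n) K) - 1) := by
    show _ * _ = _ * _
    rw [neg_mul, mul_sub, h1, mul_one, mul_neg, sub_mul, h2, one_mul]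
  rw [e, hc.mul_pow]

theorem rank_inv_sub_one_pow (g : GL (Fin n) K) (j : ℕ) :
    (((((g⁻¹ : GL (Fin n) K) : Matrix (Fin n) (Fin n) K) - 1) ^ j)).rank = (((g : Matrix (Fin n) (Fin n) K) - 1) ^ j).rank := by
  rw [inv_sub_one_pow]
  refine Matrix.rank_mul_eq_right_of_isUnit_det _ _ ?_
  rw [← Matrix.isUnit_iff_isUnit_det]
  exact IsUnit.pow j (IsUnit.neg (Units.isUnit (g⁻¹)))

theorem Tg_pow (g : GL (Fin n) K) (j : ℕ) :
    (Tg g) ^ j = Matrix.toLin' (((g : Matrix (Fin n) (Fin n) K) - 1) ^ j) := by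
  have h : ∀ X : Matrix (Fin n) (Fin n) K, Matrix.toLin' X = Matrix.toLinAlgEquiv' (R := K) (n := Fin n) X := fun _ => rfl
  rw [Tg, h, h, map_pow]

theorem dk_Tg (g : GL (Fin n) K) (j : ℕ) :
    dk (Tg g) j = Fintype.card K ^ (n - (((g : Matrix (Fin n) (Fin n) K) - 1) ^ j).rank) := by
  unfold dk
  rw [← kc_eq]
  refine Nat.card_congr (Equiv.subtypeEquivRight fun v => ?_)
  rw [Tg_pow, Matrix.toLin'_apply]

theorem conj_of_ranks (p : ℕ) [Fact p.Prime] [CharP K p] (g g' : GL (Fin n) K) (hg : IsNilpotent ((g : Matrix (Fin n) (Fin n) K) - 1))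
    (hg' : IsNilpotent ((g' : Matrix (Fin n) (Fin n) K) - 1))
    (h : ∀ j, (((g : Matrix (Fin n) (Fin n) K) - 1) ^ j).rank = (((g' : Matrix (Fin n) (Fin n) K) - 1) ^ j).rank) :
    IsConj g g' := by
  obtain ⟨l, hl⟩ := exists_partition p g ((Cfsg.Agent.Lib.NilCount.order_iff p g).2 hg)
  obtain ⟨l', hl'⟩ := exists_partition p g' ((Cfsg.Agent.Lib.NilCount.order_iff p g').2 hg')
  have hS := (isConj_iff_sim _ _).1 hl
  have hS' := (isConj_iff_sim _ _).1 hl'
  rw [Tg_gP] at hS hS'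
  have hq : 1 < Fintype.card K := Fintype.one_lt_card
  have hmin : ∀ j, ∑ i, min j (eP l i) = ∑ i, min j (eP l' i) := by
    intro j
    have h1 : dk (Tm (F := K) (eP l)) j = dk (Tm (F := K) (eP l')) j := by
      rw [(Sim_NP l).dk_eq, ← hS.dk_eq, (Sim_NP l').dk_eq, ← hS'.dk_eq, dk_Tg, dk_Tg, h]
    rw [dk_Tm, dk_Tm] at h1
    exact Nat.pow_right_injective hq h1
  have hm := mset_eq_of_min _ _ (eP_pos l) (eP_pos l') hmin
  rw [mset_eP, mset_eP] at hm
  have hll : l = l' := Nat.Partition.ext hm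
  subst hll
  exact hl.trans hl'.symm

end ker

section gu

universe u

variable {K : Type u} [Field K] [Fintype K] {q n : ℕ}

/-- The conjugate transpose as a group element (reversing products). -/
def stG (hK : Fintype.card K = q ^ 2) (A : GL (Fin n) K) : GL (Fin n) K where
  val := st q (A : Matrix (Fin n) (Fin n) K)
  inv := st q ((A⁻¹ : GL (Fin n) K) : Matrix (Fin n) (Fin n) K)
  val_inv := by rw [← st_mul hK, Units.inv_mul, st_one hK]
  inv_val := by rw [← st_mul hK, Units.mul_inv, st_one hK]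

theorem st_pow (hK : Fintype.card K = q ^ 2) (X : Matrix (Fin n) (Fin n) K) (j : ℕ) : st q (X ^ j) = (st q X) ^ j := by
  induction j with
  | zero => rw [pow_zero, pow_zero, st_one hK]
  | succ j ih => rw [pow_succ, st_mul hK, ih, pow_succ']

theorem st_sub_one (hK : Fintype.card K = q ^ 2) (X : Matrix (Fin n) (Fin n) K) : st q (X - 1) = st q X - 1 := by
  have := st_add hK (X - 1) 1
  rw [sub_add_cancel, st_one hK] at this
  rw [this, add_sub_cancel_right]

theorem stG_sub_one_pow (hK : Fintype.card K = q ^ 2) (A : GL (Fin n) K) (j : ℕ) :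
    (((stG hK A : GL (Fin n) K) : Matrix (Fin n) (Fin n) K) - 1) ^ j = st q (((A : Matrix (Fin n) (Fin n) K) - 1) ^ j) := by
  rw [st_pow hK, st_sub_one hK]
  rfl

theorem rank_st (hK : Fintype.card K = q ^ 2) (X : Matrix (Fin n) (Fin n) K) : (st q X).rank = X.rank := by
  have e : (X.map fun x => x ^ q) = X.map (Cfsg.Agent.Lib.UnitaryBasic.sigma hK) := rfl
  rw [st, Matrix.rank_transpose, e]
  exact rank_map' _ X

theorem st_zero (hK : Fintype.card K = q ^ 2) : st q (0 : Matrix (Fin n) (Fin n) K) = 0 := by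
  have := st_add hK (0 : Matrix (Fin n) (Fin n) K) 0
  rw [add_zero] at this
  exact left_eq_add.mp this

/-- Every unipotent matrix is similar to an element of `GU`. -/
theorem exists_GU (p : ℕ) [Fact p.Prime] [CharP K p] (hK : Fintype.card K = q ^ 2) (A : GL (Fin n) K) (hA : IsNilpotent ((A : Matrix (Fin n) (Fin n) K) - 1)) :
    ∃ B : ↥(GU n K q), IsConj A (B : GL (Fin n) K) := by
  rw [exists_GU_conj_iff hK]
  have e : (((A : Matrix (Fin n) (Fin n) K).map (fun x : K => x ^ q)).transpose)⁻¹ =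
      (((stG hK A)⁻¹ : GL (Fin n) K) : Matrix (Fin n) (Fin n) K) := by
    refine Matrix.inv_eq_right_inv ?_
    exact Units.mul_inv (stG hK A)
  rw [e]
  suffices hc : IsConj A (stG hK A)⁻¹ from (Units.coeHom (Matrix (Fin n) (Fin n) K)).map_isConj hc
  refine conj_of_ranks p A _ hA ?_ ?_
  · obtain ⟨N, hN⟩ := hA
    refine ⟨N, ?_⟩
    rw [inv_sub_one_pow, stG_sub_one_pow, hN, st_zero hK, mul_zero]
  · intro j
    rw [rank_inv_sub_one_pow, stG_sub_one_pow, rank_st hK]

theorem main (p : ℕ) [Fact p.Prime] [CharP K p] (hK : Fintype.card K = q ^ 2) :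
    Nat.card {C : ConjClasses ↥(GU n K q) // ∃ g : ↥(GU n K q), ConjClasses.mk g = C ∧ orderOf g = p} =
      (Finset.univ.filter (fun μ : Nat.Partition n => ∀ a ∈ μ.parts, a ≤ p)).card - 1 := by
  classical
  have hp : p.Prime := Fact.out
  rw [← card_partitions p hp.one_lt.le]
  symm
  have hex : ∀ l : {l : Nat.Partition n // (∀ a ∈ l.parts, a ≤ p) ∧ ∃ a ∈ l.parts, a ≠ 1},
      ∃ B : ↥(GU n K q), IsConj (gP K l.1) (B : GL (Fin n) K) := fun l =>
    exists_GU p hK _ (by rw [gP_coe, add_sub_cancel_left]; exact JP_nil l.1)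
  choose B hB using hex
  have hord : ∀ l, orderOf (B l) = p := by
    intro l
    rw [← Subgroup.orderOf_coe, ← Cfsg.Agent.Lib.Inv2Count.orderOf_of_isConj (hB l)]
    exact (order_gP_iff p l.1).2 l.2
  refine Nat.card_eq_of_bijective (fun l => ⟨ConjClasses.mk (B l), B l, rfl, hord l⟩) ⟨?_, ?_⟩
  · intro l l' h
    have h1 : ConjClasses.mk (B l) = ConjClasses.mk (B l') := congrArg Subtype.val h
    rw [ConjClasses.mk_eq_mk_iff_isConj, isConj_GU_iff hK] at h1
    have h2 := ((hB l).trans h1).trans (hB l').symm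
    rw [isConj_iff_sim, Tg_gP, Tg_gP] at h2
    exact Subtype.ext (Tm_eP_inj ((Sim_NP l.1).trans (h2.trans (Sim_NP l'.1).symm)))
  · rintro ⟨C, g, rfl, hg⟩
    have hg' : orderOf (g : GL (Fin n) K) = p := by rw [Subgroup.orderOf_coe, hg]
    obtain ⟨l, hl⟩ := exists_partition p (g : GL (Fin n) K) ⟨1, by rw [hg', pow_one]⟩
    have h3 : orderOf (gP K l) = p := by
      rw [← Cfsg.Agent.Lib.Inv2Count.orderOf_of_isConj hl, hg']
    let l' : {l : Nat.Partition n // (∀ a ∈ l.parts, a ≤ p) ∧ ∃ a ∈ l.parts, a ≠ 1} := ⟨l, (order_gP_iff p l).1 h3⟩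
    refine ⟨l', Subtype.ext ?_⟩
    refine (ConjClasses.mk_eq_mk_iff_isConj.mpr ?_).symm
    rw [isConj_GU_iff hK]
    exact hl.trans (hB l')

end gu

end Cfsg.Agent.Lib.GUOrderP
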