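import Mathlib
import Cfsg.Agent.Lib.CosetAvg
import Cfsg.Agent.Lib.CharKernel
import Cfsg.Agent.Lib.DetExt
import Cfsg.Agent.Lib.BlkCover

/-!
# Gallagher's correspondence and the canonical extension

`β ↦ (β ∘ q) η` for a surjection `q : I → B` and a character `η` whose restriction to `ker q` is
irreducible, and the canonical extension of an invariant character of a normal Sylow subgroup.
-/

set_option autoImplicit false
set_option linter.style.haveILetI false
set_option linter.unusedVariables false
set_option linter.unusedSectionVars false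

namespace Cfsg.Agent.Lib.GlaubSyl1

open Cfsg Cfsg.Agent.Lib.CharBasic Cfsg.Agent.Lib.CharInd Cfsg.Agent.Lib.Clifford
open Cfsg.Agent.Lib.CosetAvg Cfsg.Agent.Lib.DetChar Cfsg.Agent.Lib.LinearExt
open scoped ComplexConjugate

universe u

attribute [local instance] Fintype.ofFinite

section Infl

variable {I B : Type*} [Group I] [Finite I] [Group B] [Finite B]

/-- Inflation preserves inner products. -/
theorem classInner_infl (q : I →* B) (hq : Function.Surjective q) (α β : B → ℂ) :
    classInner (fun i => α (q i)) (fun i => β (q i)) = classInner α β := by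
  unfold classInner
  rw [Cfsg.Agent.Lib.BlkCover.sum_comp_surj q hq (fun b => α b * conj (β b))]
  have h1 : Nat.card I = Nat.card q.ker * Nat.card B := by
    rw [← Subgroup.card_mul_index q.ker, Subgroup.index_ker, MonoidHom.range_eq_top.mpr hq]
    simp
  rw [h1]
  have h2 : (Nat.card q.ker : ℂ) ≠ 0 := by exact_mod_cast Nat.card_pos.ne'
  have h3 : (Nat.card B : ℂ) ≠ 0 := by exact_mod_cast Nat.card_pos.ne'
  push_cast
  field_simp

end Infl

section Gal

variable {I B : Type u} [Group I] [Finite I] [Group B] [Finite B] (q : I →* B)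

/-- The product `(β ∘ q) η`. -/
def gal (eta : I → ℂ) (β : B → ℂ) : I → ℂ := fun i => β (q i) * eta i

theorem gal_apply (eta : I → ℂ) (β : B → ℂ) (i : I) : gal q eta β i = β (q i) * eta i := rfl

variable {eta : I → ℂ} (hq : Function.Surjective q) (heta : IsCharacter I eta)
  (hetaN : IsIrrCharacter q.ker (fun n : q.ker => eta n))

include hq heta hetaN in
/-- Gallagher's isometry. -/
theorem classInner_gal (α β : B → ℂ) :
    classInner (gal q eta α) (gal q eta β) = classInner α β := by
  have h := classInner_mul_mul_of_invariant q.ker heta hetaN (β := fun i => α (q i))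
    (γ := fun i => β (q i)) (fun n g => by
      have : q ((n : I) * g) = q g := by
        rw [map_mul, MonoidHom.mem_ker.mp n.2, one_mul]
      simp only [this]) (fun n g => by
      have : q ((n : I) * g) = q g := by
        rw [map_mul, MonoidHom.mem_ker.mp n.2, one_mul]
      simp only [this])
  exact h.trans (classInner_infl q hq α β)

include heta in
theorem isCharacter_gal {β : B → ℂ} (hβ : IsCharacter B β) : IsCharacter I (gal q eta β) :=
  isCharacter_mul (isCharacter_comp q hβ) heta

include hq heta hetaN in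
theorem isIrr_gal {β : B → ℂ} (hβ : IsIrrCharacter B β) : IsIrrCharacter I (gal q eta β) :=
  isIrrCharacter_of_norm_one (isCharacter_gal q heta (IsIrrCharacter.isCharacter hβ)) (by
    rw [classInner_gal q hq heta hetaN, classInner_irr_self hβ])

include hq heta hetaN in
theorem gal_injective {β β' : B → ℂ} (hβ : IsIrrCharacter B β) (hβ' : IsIrrCharacter B β')
    (h : gal q eta β = gal q eta β') : β = β' := by
  by_contra hne
  have h1 := classInner_gal q hq heta hetaN β β'
  rw [classInner_irr_ne hβ hβ' (fun h' => hne h'), ← h,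
    classInner_irr_self (isIrr_gal q hq heta hetaN hβ)] at h1
  exact one_ne_zero h1

include hq heta hetaN in
/-- Every irreducible character over `η|_{ker q}` comes from the quotient. -/
theorem exists_gal {ψ : I → ℂ} (hψ : IsIrrCharacter I ψ)
    (h0 : classInner (fun n : q.ker => ψ n) (fun n : q.ker => eta n) ≠ 0) :
    ∃ β : B → ℂ, IsIrrCharacter B β ∧ ψ = gal q eta β := by
  have ha := isIrr_cosetAvg q.ker heta hetaN hψ h0
  set a := cosetAvg q.ker ψ eta with ha'
  have hinv : ∀ (n : q.ker) (g : I), a (n * g) = a g := cosetAvg_mul_left q.ker ψ eta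
  obtain ⟨a', ha'irr, ha'eq⟩ := Cfsg.Agent.Lib.CharKernel.exists_quotient_irr q.ker ha
    (fun x hx => by
      have := hinv ⟨x, hx⟩ 1
      simpa using this)
  let e : I ⧸ q.ker ≃* B := QuotientGroup.quotientKerEquivOfSurjective q hq
  have he : ∀ g : I, e.symm (q g) = (g : I ⧸ q.ker) := by
    intro g
    rw [MulEquiv.symm_apply_eq]
    rfl
  let β : B → ℂ := a' ∘ e.symm
  have hβ : IsIrrCharacter B β :=
    isIrrCharacter_comp_of_surjective e.symm.toMonoidHom e.symm.surjective ha'irr
  have hβq : ∀ g, β (q g) = a g := by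
    intro g
    show a' (e.symm (q g)) = a g
    rw [he, ha'eq]
  refine ⟨β, hβ, ?_⟩
  have hfun : gal q eta β = a * eta := by
    funext g
    show β (q g) * eta g = a g * eta g
    rw [hβq]
  by_contra hne
  have h1 : IsIrrCharacter I (gal q eta β) := isIrr_gal q hq heta hetaN hβ
  have h2 := classInner_irr_ne hψ h1 hne
  rw [hfun, classInner_cosetAvg q.ker hinv, classInner_irr_self ha] at h2
  exact one_ne_zero h2

end Gal

section Canonical

variable {I : Type u} [Group I] [Finite I] (p : ℕ) [hp : Fact p.Prime] (M : Subgroup I)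
  [hM : M.Normal]

/-- **The canonical extension** of an invariant irreducible character of a normal Sylow
subgroup. -/
theorem exists_canonical_ext (hMp : IsPGroup p M) (hMi : ¬ p ∣ M.index) {lam : M → ℂ}
    (hlam : IsIrrCharacter M lam)
    (hinv : ∀ (g : I) (n : M), lam ⟨g * n * g⁻¹, hM.conj_mem (n : I) n.2 g⟩ = lam n) :
    ∃ eta : I → ℂ, IsIrrCharacter I eta ∧ (∀ n : M, eta n = lam n) ∧
      ∀ (a : MulAut I) (ha : ∀ n ∈ M, a n ∈ M), (∀ n : M, lam ⟨a n, ha n n.2⟩ = lam n) →
        ∀ g, eta (a g) = eta g := by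
  have hlamc := IsIrrCharacter.isCharacter hlam
  obtain ⟨D, hD⟩ := exists_detHom hlamc
  -- invariance of `D` under endomorphisms of `M` fixing `lam`
  have hDinv : ∀ (f : M →* M), (∀ n, lam (f n) = lam n) → ∀ n, D (f n) = D n := by
    intro f hf n
    apply Units.ext
    have h1 := detChar_comp f hlamc n
    have h2 : lam ∘ f = lam := funext hf
    rw [h2] at h1
    rw [← hD, ← hD]
    exact h1.symm
  -- coprimality
  obtain ⟨k, hk⟩ := IsPGroup.iff_card.mp hMp
  have hcop : Nat.Coprime M.index (Nat.card M) := by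
    rw [hk]
    exact Nat.Coprime.pow_right _ ((Nat.Prime.coprime_iff_not_dvd hp.out).mpr hMi).symm
  set o := Nat.card M with ho
  have ho0 : o ≠ 0 := Nat.card_pos.ne'
  have hDo : ∀ x, D x ^ o = 1 := by
    intro x
    rw [← map_pow, ho, pow_card_eq_one', map_one]
  obtain ⟨μ₀, hμ₀⟩ := exists_extension M D (fun g n => by
      let f : M →* M := (Cfsg.Agent.Lib.CharInduction.conjAut M hM g).toMonoidHom
      exact hDinv f (fun n => hinv g n) n) hDo ho0 (fun r hr hro => by
      have hrp : r = p := by
        have : r ∣ p ^ k := by rw [← hk]; exact hro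
        exact (Nat.prime_dvd_prime_iff_eq hr hp.out).mp (hr.dvd_of_dvd_pow this)
      subst hrp
      refine ⟨M, le_rfl, D, ?_, fun n => rfl⟩
      exact ((Nat.Prime.coprime_iff_not_dvd hr).mpr hMi).symm)
  -- the `p`-part
  have hbez := Nat.gcd_eq_gcd_ab M.index o
  rw [hcop] at hbez
  set A := Nat.gcdA M.index o
  set B := Nat.gcdB M.index o
  let μ : I →* ℂˣ := μ₀ ^ ((M.index : ℤ) * A)
  have hμa : ∀ g, μ g = μ₀ g ^ ((M.index : ℤ) * A) := fun g => rfl
  have hμN : ∀ n : M, μ n = D n := by
    intro n
    rw [hμa, hμ₀]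
    have h1 : (M.index : ℤ) * A = 1 - o * B := by
      push_cast at hbez
      linarith
    rw [h1, zpow_sub, zpow_one, zpow_mul, zpow_natCast, hDo, one_zpow, inv_one, mul_one]
  have hμo : ∀ g, μ g ^ o = 1 := by
    intro g
    rw [hμa, ← zpow_natCast, ← zpow_mul]
    have h1 : (M.index : ℤ) * A * o = (M.index : ℤ) * o * A := by ring
    rw [h1, zpow_mul, zpow_mul, zpow_natCast, zpow_natCast, ← map_pow]
    have h2 := hμ₀ ⟨_, Subgroup.pow_index_mem M g⟩
    simp only at h2
    rw [h2, hDo, one_zpow]
  -- the character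
  have hμc : IsCharacter I (fun g => ((μ g : ℂˣ) : ℂ)) := isCharacter_of_hom μ
  have hμ1 : (fun g => ((μ g : ℂˣ) : ℂ)) 1 = 1 := by simp
  have hμdet : ∀ n : M, (fun g => ((μ g : ℂˣ) : ℂ)) (n : I) = detChar lam n := by
    intro n
    simp only
    rw [hμN, hD]
  obtain ⟨d, hd⟩ := isCharacter_one_eq hlamc
  have hdo : d ∣ o := by
    have h1 := Cfsg.Agent.Lib.CharKernel.charDegree_dvd_card hlam
    rw [Cfsg.Agent.Lib.CharKernel.one_eq_charDegree hlamc] at hd
    have h2 : charDegree lam = d := by exact_mod_cast hd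
    rwa [h2] at h1
  have hcopd : Nat.Coprime M.index d := Nat.Coprime.coprime_dvd_right hdo hcop
  obtain ⟨χ₀, hχ₀, hχ₀res⟩ := Cfsg.Agent.Lib.DetExt.ext_of_det M hlam hinv hd hcopd hμc hμ1 hμdet
  obtain ⟨eta, ⟨heta, hetaM, hetadet⟩, huniq⟩ :=
    exists_unique_ext M hlam hd hcopd hχ₀ hχ₀res ⟨hμc, hμ1⟩ hμdet
  refine ⟨eta, heta, hetaM, fun a ha halam => ?_⟩
  have hetac := IsIrrCharacter.isCharacter heta
  -- `μ` is `a`-invariant
  let aM : M →* M :=
    { toFun := fun n => ⟨a n, ha n n.2⟩
      map_one' := Subtype.ext (by simp)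
      map_mul' := fun x y => Subtype.ext (by simp) }
  have hμinv : ∀ g, μ (a g) = μ g := by
    intro g
    let κ : I →* ℂˣ := (μ.comp a.toMonoidHom) * μ⁻¹
    have hκ : ∀ n : M, κ n = 1 := by
      intro n
      show μ (a n) * (μ n)⁻¹ = 1
      have h1 : μ (a n) = D (aM n) := hμN (aM n)
      rw [h1, hDinv aM halam, hμN, mul_inv_cancel]
    have hκo : ∀ x, κ x ^ o = 1 := by
      intro x
      show (μ (a x) * (μ x)⁻¹) ^ o = 1
      rw [mul_pow, inv_pow, hμo, hμo, inv_one, one_mul]
    have h2 := hom_eq_one_of_coprime M κ hκ hκo hcop g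
    have h3 : μ (a g) * (μ g)⁻¹ = 1 := h2
    exact mul_inv_eq_one.mp h3
  have h4 : eta ∘ a = eta := by
    apply huniq
    refine ⟨isIrrCharacter_comp_of_surjective a.toMonoidHom a.surjective heta, ?_, ?_⟩
    · intro n
      show eta (a n) = lam n
      have h5 := hetaM (⟨a n, ha n n.2⟩ : M)
      rw [← halam n]
      exact h5
    · funext g
      have h6 := detChar_comp (H := I) a.toMonoidHom hetac g
      have h7 : (⇑a.toMonoidHom : I → I) = ⇑a := rfl
      rw [h7] at h6
      rw [h6, hetadet]
      simp only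
      show ((μ (a g) : ℂˣ) : ℂ) = _
      rw [hμinv]
  intro g
  exact congrFun h4 g

end Canonical

end Cfsg.Agent.Lib.GlaubSyl1
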