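import Mathlib

/-!
# Minimal idempotents of a finite commutative subring and conjugation by units
-/

set_option autoImplicit false
set_option linter.unusedSectionVars false
set_option linter.unusedVariables false

namespace Cfsg.Agent.Lib.NVIdem

section Idem

variable {E : Type*} [Ring E] (R : Subring E)

/-- Minimal nonzero idempotents of `R`. -/
structure IsMinIdem (e : E) : Prop where
  mem : e ∈ R
  idem : e * e = e
  ne : e ≠ 0
  min : ∀ f ∈ R, f * f = f → f * e = f → f = 0 ∨ f = e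

variable {R}

theorem minIdem_orth (hR : ∀ x ∈ R, ∀ y ∈ R, x * y = y * x) {e e' : E} (he : IsMinIdem R e)
    (he' : IsMinIdem R e') (hne : e ≠ e') : e * e' = 0 := by
  have hmem : e * e' ∈ R := R.mul_mem he.mem he'.mem
  have hid : (e * e') * (e * e') = e * e' := by
    calc e * e' * (e * e') = e * (e' * e) * e' := by simp only [mul_assoc]
      _ = e * (e * e') * e' := by rw [hR e' he'.mem e he.mem]
      _ = (e * e) * (e' * e') := by simp only [mul_assoc]
      _ = e * e' := by rw [he.idem, he'.idem]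
  have h1 := he'.min _ hmem hid (by rw [mul_assoc, he'.idem])
  have h2 := he.min _ hmem hid (by rw [hR (e * e') hmem e he.mem, ← mul_assoc, he.idem])
  rcases h1 with h1 | h1
  · exact h1
  rcases h2 with h2 | h2
  · exact h2
  · exact absurd (h2.symm.trans h1) hne

theorem exists_minIdem_below [Finite E] (hR : ∀ x ∈ R, ∀ y ∈ R, x * y = y * x) :
    ∀ (n : ℕ) (f : E), f ∈ R → f * f = f → f ≠ 0 → Set.ncard {x : E | x * f = x} ≤ n →
      ∃ e, IsMinIdem R e ∧ e * f = e := by
  intro n
  induction n with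
  | zero =>
    intro f _ hf hf0 hn
    exfalso
    have h1 : f ∈ {x : E | x * f = x} := hf
    have h2 : Set.ncard {x : E | x * f = x} ≠ 0 :=
      (Set.ncard_pos (Set.toFinite _)).2 ⟨f, h1⟩ |>.ne'
    omega
  | succ n ih =>
    intro f hfR hf hf0 hn
    by_cases hmin : ∀ g ∈ R, g * g = g → g * f = g → g = 0 ∨ g = f
    · exact ⟨f, ⟨hfR, hf, hf0, hmin⟩, hf⟩
    · push Not at hmin
      obtain ⟨g, hgR, hg, hgf, hg0, hgne⟩ := hmin
      have hsub : {x : E | x * g = x} ⊂ {x : E | x * f = x} := by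
        refine ⟨?_, ?_⟩
        · intro x hx
          have hx' : x * g = x := hx
          show x * f = x
          rw [← hx', mul_assoc, hgf]
        · intro hcon
          have h1 : f * f = f := hf
          have h2 : f * g = f := hcon h1
          apply hgne
          rw [← hgf, hR g hgR f hfR, h2]
      have hlt := Set.ncard_lt_ncard hsub (Set.toFinite _)
      obtain ⟨e, he, heg⟩ := ih g hgR hg hg0 (by omega)
      exact ⟨e, he, by rw [← heg, mul_assoc, hgf]⟩

open Classical in
/-- The finite set of minimal idempotents. -/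
noncomputable def minIdems [Finite E] (R : Subring E) : Finset E :=
  (Set.toFinite {e | IsMinIdem R e}).toFinset

theorem mem_minIdems [Finite E] {e : E} : e ∈ minIdems R ↔ IsMinIdem R e := by
  classical
  simp [minIdems]

theorem sum_minIdems [Finite E] (hR : ∀ x ∈ R, ∀ y ∈ R, x * y = y * x) :
    ∑ e ∈ minIdems R, e = 1 := by
  classical
  set s := ∑ e ∈ minIdems R, e with hs
  have hsR : s ∈ R := R.sum_mem fun e he => (mem_minIdems.1 he).mem
  have h1 : ∀ e ∈ minIdems R, e * s = e := by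
    intro e he
    rw [hs, Finset.mul_sum, Finset.sum_eq_single_of_mem e he]
    · exact (mem_minIdems.1 he).idem
    · intro e' he' hne
      exact minIdem_orth hR (mem_minIdems.1 he) (mem_minIdems.1 he') hne.symm
  have h2 : s * s = s := by
    conv_lhs => lhs; rw [hs]
    rw [Finset.sum_mul]
    exact Finset.sum_congr rfl h1
  by_contra hne
  have h3 : (1 - s) ≠ 0 := fun h => hne (sub_eq_zero.1 h).symm
  have h4 : (1 - s) * (1 - s) = 1 - s := by
    rw [mul_sub, sub_mul, sub_mul, h2]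
    simp
  obtain ⟨e, he, he2⟩ := exists_minIdem_below hR _ (1 - s) (R.sub_mem R.one_mem hsR) h4 h3 le_rfl
  rw [mul_sub, mul_one, h1 e (mem_minIdems.2 he), sub_self] at he2
  exact he.ne he2.symm

end Idem

section Conj

variable {E : Type*} [Ring E]

/-- Conjugation by a unit. -/
def cj (g : Eˣ) (X : E) : E := (g : E) * X * ((g⁻¹ : Eˣ) : E)

theorem cj_one (X : E) : cj 1 X = X := by simp [cj]

theorem cj_mul (g h : Eˣ) (X : E) : cj (g * h) X = cj g (cj h X) := by
  simp [cj, mul_assoc]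

theorem cj_inv_cj (g : Eˣ) (X : E) : cj g⁻¹ (cj g X) = X := by
  rw [← cj_mul, inv_mul_cancel, cj_one]

theorem cj_cj_inv (g : Eˣ) (X : E) : cj g (cj g⁻¹ X) = X := by
  rw [← cj_mul, mul_inv_cancel, cj_one]

theorem cj_mul_cj (g : Eˣ) (X Y : E) : cj g X * cj g Y = cj g (X * Y) := by
  simp [cj, mul_assoc]

theorem cj_zero (g : Eˣ) : cj g (0 : E) = 0 := by simp [cj]

theorem cj_one' (g : Eˣ) : cj g (1 : E) = 1 := by simp [cj]

theorem cj_add (g : Eˣ) (X Y : E) : cj g (X + Y) = cj g X + cj g Y := by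
  simp [cj, mul_add, add_mul]

theorem cj_neg (g : Eˣ) (X : E) : cj g (-X) = - cj g X := by simp [cj]

theorem cj_unit (g a : Eˣ) : cj g (a : E) = ((g * a * g⁻¹ : Eˣ) : E) := by simp [cj]

variable {R : Subring E}

theorem IsMinIdem_cj {g : Eˣ} (h1 : ∀ x ∈ R, cj g x ∈ R) (h2 : ∀ x ∈ R, cj g⁻¹ x ∈ R) {e : E}
    (he : IsMinIdem R e) : IsMinIdem R (cj g e) := by
  refine ⟨h1 e he.mem, by rw [cj_mul_cj, he.idem], ?_, ?_⟩
  · intro h0
    apply he.ne
    rw [← cj_inv_cj g e, h0, cj_zero]
  · intro f hf hff hfe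
    have h3 : cj g⁻¹ f * cj g⁻¹ f = cj g⁻¹ f := by rw [cj_mul_cj, hff]
    have h4 : cj g⁻¹ f * e = cj g⁻¹ f := by
      conv_lhs => rhs; rw [← cj_inv_cj g e]
      rw [cj_mul_cj, hfe]
    rcases he.min _ (h2 f hf) h3 h4 with h5 | h5
    · left
      rw [← cj_cj_inv g f, h5, cj_zero]
    · right
      rw [← cj_cj_inv g f, h5]

theorem cj_closure {A : Set Eˣ} {g : Eˣ} (hA : ∀ a ∈ A, g * a * g⁻¹ ∈ A) {x : E}
    (hx : x ∈ Subring.closure ((fun a : Eˣ => (a : E)) '' A)) :
    cj g x ∈ Subring.closure ((fun a : Eˣ => (a : E)) '' A) := by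
  induction hx using Subring.closure_induction with
  | mem x hx =>
    obtain ⟨a, ha, rfl⟩ := hx
    rw [cj_unit]
    exact Subring.subset_closure ⟨_, hA a ha, rfl⟩
  | zero => rw [cj_zero]; exact Subring.zero_mem _
  | one => rw [cj_one']; exact Subring.one_mem _
  | add x y _ _ hx hy => rw [cj_add]; exact Subring.add_mem _ hx hy
  | neg x _ hx => rw [cj_neg]; exact Subring.neg_mem _ hx
  | mul x y _ _ hx hy => rw [← cj_mul_cj]; exact Subring.mul_mem _ hx hy

theorem closure_comm {A : Set Eˣ} (hA : ∀ a ∈ A, ∀ b ∈ A, a * b = b * a) :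
    ∀ x ∈ Subring.closure ((fun a : Eˣ => (a : E)) '' A),
      ∀ y ∈ Subring.closure ((fun a : Eˣ => (a : E)) '' A), x * y = y * x := by
  have hcomm : ∀ x ∈ ((fun a : Eˣ => (a : E)) '' A), ∀ y ∈ ((fun a : Eˣ => (a : E)) '' A),
      x * y = y * x := by
    rintro _ ⟨a, ha, rfl⟩ _ ⟨b, hb, rfl⟩
    show (a : E) * (b : E) = (b : E) * (a : E)
    rw [← Units.val_mul, hA a ha b hb, Units.val_mul]
  intro x hx y hy
  letI := Subring.closureCommRingOfComm hcomm
  have := mul_comm (⟨x, hx⟩ : Subring.closure ((fun a : Eˣ => (a : E)) '' A)) ⟨y, hy⟩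
  exact congrArg Subtype.val this

end Conj

end Cfsg.Agent.Lib.NVIdem
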