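import Mathlib

/-!
# Subsets with trivial setwise stabiliser for permutation groups of odd prime power order

A `p`-group, `p` odd, acting on a finite set `Z` has a subset `S ⊆ Z` whose setwise stabiliser is
the kernel of the action on `Z`.
-/

set_option autoImplicit false
set_option linter.unusedSectionVars false
set_option linter.unusedVariables false

namespace Cfsg.Agent.Lib.NVPerm

universe u v

variable {P : Type u} [Group P] {X : Type v} [MulAction P X]

theorem pow_smul_mem_of_stab {g : P} {S : Set X} (hg : ∀ x ∈ S, g • x ∈ S) (i : ℕ) :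
    ∀ x ∈ S, g ^ i • x ∈ S := by
  induction i with
  | zero => intro x hx; simpa using hx
  | succ n ih =>
    intro x hx
    rw [pow_succ', mul_smul]
    exact hg _ (ih x hx)

theorem pow_smul_mem_iff [Finite P] {g : P} {S : Set X} (hg : ∀ x ∈ S, g • x ∈ S) (i : ℕ) (x : X) :
    g ^ i • x ∈ S ↔ x ∈ S := by
  refine ⟨fun h => ?_, pow_smul_mem_of_stab hg i x⟩
  have hpos : 0 < orderOf (g ^ i) := orderOf_pos _
  have h1 : (g ^ i) ^ (orderOf (g ^ i) - 1) • (g ^ i • x) = x := by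
    rw [← mul_smul, ← pow_succ, Nat.sub_add_cancel hpos, pow_orderOf_eq_one, one_smul]
  rw [← h1, ← pow_mul]
  exact pow_smul_mem_of_stab hg _ _ h

theorem ncard_image_inter [Finite P] [Finite X] {g : P} {S : Set X} (hg : ∀ x ∈ S, g • x ∈ S) (i : ℕ)
    (T : Set X) : (((fun x => g ^ i • x) '' T) ∩ S).ncard = (T ∩ S).ncard := by
  have h1 : ((fun x => g ^ i • x) '' T) ∩ S = (fun x => g ^ i • x) '' (T ∩ S) := by
    ext y
    constructor
    · rintro ⟨⟨x, hx, rfl⟩, hy⟩
      exact ⟨x, ⟨hx, (pow_smul_mem_iff hg i x).1 hy⟩, rfl⟩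
    · rintro ⟨x, ⟨hx, hxS⟩, rfl⟩
      exact ⟨⟨x, hx, rfl⟩, (pow_smul_mem_iff hg i x).2 hxS⟩
  rw [h1]
  exact Set.ncard_image_of_injective _ (MulAction.injective (g ^ i))

theorem exists_set_stab {p : ℕ} [hp : Fact p.Prime] (hodd : p ≠ 2) :
    ∀ (n : ℕ) (P : Type u) [Group P] [Finite P] (X : Type v) [MulAction P X] [Finite X] (Z : Set X),
      IsPGroup p P → (∀ g : P, ∀ x ∈ Z, g • x ∈ Z) → Nat.card P + Z.ncard ≤ n →
      ∃ S ⊆ Z, ∀ g : P, (∀ x ∈ S, g • x ∈ S) → ∀ x ∈ Z, g • x = x := by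
  classical
  intro n
  induction n with
  | zero =>
    intro P _ _ X _ _ Z _ _ hn
    have : 0 < Nat.card P := Nat.card_pos
    omega
  | succ n ih =>
    intro P _ _ X _ _ Z hP hZ hn
    have hpp : p.Prime := hp.out
    by_cases hsplit : ∃ z₀ ∈ Z, MulAction.orbit P z₀ ≠ Z
    · obtain ⟨z₀, hz₀, hne⟩ := hsplit
      set Z₁ : Set X := MulAction.orbit P z₀ with hZ₁
      have hZ₁Z : Z₁ ⊆ Z := by
        rintro _ ⟨g, rfl⟩
        exact hZ g _ hz₀
      have hz₀Z₁ : z₀ ∈ Z₁ := MulAction.mem_orbit_self z₀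
      obtain ⟨z₁, hz₁, hz₁n⟩ : ∃ z₁ ∈ Z, z₁ ∉ Z₁ := by
        by_contra hcon
        push Not at hcon
        exact hne (Set.Subset.antisymm hZ₁Z hcon)
      have hZ₁inv : ∀ g : P, ∀ x ∈ Z₁, g • x ∈ Z₁ := by
        rintro g _ ⟨h, rfl⟩
        exact ⟨g * h, by simp [mul_smul]⟩
      have hZ₂inv : ∀ g : P, ∀ x ∈ Z \ Z₁, g • x ∈ Z \ Z₁ := by
        rintro g x ⟨hx, hx'⟩
        refine ⟨hZ g x hx, fun h => hx' ?_⟩
        have := hZ₁inv g⁻¹ _ h
        simpa using this
      have hc1 : Z₁.ncard < Z.ncard := by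
        refine Set.ncard_lt_ncard ⟨hZ₁Z, fun h => hz₁n (h hz₁)⟩ (Set.toFinite _)
      have hc2 : (Z \ Z₁).ncard < Z.ncard := by
        refine Set.ncard_lt_ncard ⟨Set.sdiff_subset, fun h => (h (hZ₁Z hz₀Z₁)).2 hz₀Z₁⟩ (Set.toFinite _)
      obtain ⟨S₁, hS₁, h₁⟩ := ih P X Z₁ hP hZ₁inv (by omega)
      obtain ⟨S₂, hS₂, h₂⟩ := ih P X (Z \ Z₁) hP hZ₂inv (by omega)
      refine ⟨S₁ ∪ S₂, Set.union_subset (hS₁.trans hZ₁Z) (hS₂.trans Set.sdiff_subset), ?_⟩
      intro g hg x hx
      by_cases hxZ₁ : x ∈ Z₁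
      · refine h₁ g ?_ x hxZ₁
        intro y hy
        rcases hg y (Or.inl hy) with h | h
        · exact h
        · exact absurd (hZ₁inv g y (hS₁ hy)) (hS₂ h).2
      · refine h₂ g ?_ x ⟨hx, hxZ₁⟩
        intro y hy
        rcases hg y (Or.inr hy) with h | h
        · exact absurd (hS₁ h) (hZ₂inv g y (hS₂ hy)).2
        · exact h
    · push Not at hsplit
      by_cases hemp : Z = ∅
      · refine ⟨∅, by simp, ?_⟩
        intro g _ x hx
        rw [hemp] at hx
        exact absurd hx (Set.notMem_empty x)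
      obtain ⟨z₀, hz₀⟩ := Set.nonempty_iff_ne_empty.2 hemp
      have horb := hsplit z₀ hz₀
      by_cases hfix : ∀ g : P, g • z₀ = z₀
      · refine ⟨∅, by simp, ?_⟩
        intro g _ x hx
        rw [← horb] at hx
        obtain ⟨h, rfl⟩ := hx
        show g • (h • z₀) = h • z₀
        rw [hfix h, hfix g]
      push Not at hfix
      obtain ⟨g₀, hg₀⟩ := hfix
      have hstab : MulAction.stabilizer P z₀ ≠ ⊤ := by
        intro h
        exact hg₀ (MulAction.mem_stabilizer_iff.1 (h ▸ Subgroup.mem_top g₀))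
      obtain ⟨M, hM, hSM⟩ := (eq_top_or_exists_le_coatom (MulAction.stabilizer P z₀)).resolve_left hstab
      haveI : Group.IsNilpotent P := hP.isNilpotent
      haveI hMn : M.Normal :=
        Subgroup.NormalizerCondition.normal_of_coatom M Group.normalizerCondition_of_isNilpotent hM
      have hMlt : Nat.card M < Nat.card P := by
        have h1 : M ≠ ⊤ := hM.1
        have h2 := Subgroup.one_lt_index_of_ne_top h1
        have h3 := Subgroup.card_mul_index M
        have h4 : 0 < Nat.card M := Nat.card_pos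
        nlinarith
      have hMinv : ∀ g : M, ∀ x ∈ Z, g • x ∈ Z := fun g x hx => hZ (g : P) x hx
      obtain ⟨S, hSZ, hS⟩ := ih M X Z (hP.to_subgroup M) hMinv (by omega)
      set Z₀ : Set X := MulAction.orbit M z₀ with hZ₀
      have hZ₀Z : Z₀ ⊆ Z := by
        rintro _ ⟨g, rfl⟩
        exact hZ (g : P) _ hz₀
      have hZ₀inv : ∀ g : M, ∀ x ∈ Z₀, g • x ∈ Z₀ := by
        rintro g _ ⟨h, rfl⟩
        exact ⟨g * h, by simp [mul_smul]⟩
      have hZ₀iff : ∀ (g : M) (x : X), g • x ∈ Z₀ ↔ x ∈ Z₀ := by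
        intro g x
        refine ⟨fun h => ?_, hZ₀inv g x⟩
        have := hZ₀inv g⁻¹ _ h
        simpa using this
      set S₂ : Set X := (S \ Z₀) ∪ (Z₀ \ S) with hS₂
      have hS₂Z : S₂ ⊆ Z := Set.union_subset (Set.sdiff_subset.trans hSZ) (Set.sdiff_subset.trans hZ₀Z)
      have hS₂M : ∀ g : M, (∀ x ∈ S₂, g • x ∈ S₂) → ∀ x ∈ Z, g • x = x := by
        intro g hg
        refine hS g ?_
        have h1 : ∀ x ∈ S₂, x ∉ Z₀ → g • x ∈ S₂ ∧ g • x ∉ Z₀ := fun x hx hx0 =>
          ⟨hg x hx, fun h => hx0 ((hZ₀iff g x).1 h)⟩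
        intro x hx
        by_cases hx0 : x ∈ Z₀
        · -- inside `Z₀` the set is the complement of `S₂`; use finiteness
          have hinj : ∀ y ∈ Z₀ \ S, g • y ∈ Z₀ \ S := by
            intro y hy
            have h2 := hg y (Or.inr hy)
            rcases h2 with h3 | h3
            · exact absurd ((hZ₀iff g y).2 hy.1) h3.2
            · exact h3
          have h4 : ∀ i : ℕ, ∀ y, (g ^ i) • y ∈ Z₀ \ S ↔ y ∈ Z₀ \ S :=
            fun i y => pow_smul_mem_iff hinj i y
          have h5 := h4 1 x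
          rw [pow_one] at h5
          by_contra hgx
          have h6 : g • x ∈ Z₀ \ S := ⟨(hZ₀iff g x).2 hx0, hgx⟩
          exact (h5.1 h6).2 hx
        · have := hg x (Or.inl ⟨hx, hx0⟩)
          rcases this with h3 | h3
          · exact h3.1
          · exact absurd ((hZ₀iff g x).1 h3.1) hx0
      -- transversal description of `Z`
      have hrep : ∀ g : P, g ∉ M → ∀ x ∈ Z, ∃ (i : ℕ) (m : M), x = g ^ i • ((m : P) • z₀) := by
        intro g hg x hx
        rw [← horb] at hx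
        obtain ⟨q, rfl⟩ := hx
        have hsup : Subgroup.zpowers g ⊔ M = ⊤ := by
          rw [sup_comm]
          apply hM.2
          refine lt_of_le_of_ne le_sup_left ?_
          intro h
          apply hg
          rw [h]
          exact Subgroup.mem_sup_right (Subgroup.mem_zpowers g)
        have hq : q ∈ Subgroup.zpowers g ⊔ M := by rw [hsup]; trivial
        obtain ⟨h, hh, m, hm, rfl⟩ := Subgroup.mem_sup_of_normal_right.1 hq
        rw [← mem_powers_iff_mem_zpowers] at hh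
        obtain ⟨i, rfl⟩ := hh
        exact ⟨i, ⟨m, hm⟩, by simp [mul_smul]⟩
      -- images of `Z₀`
      have himg : ∀ (q : P) (m : M), (fun x => q • x) '' Z₀ = MulAction.orbit M (q • ((m : P) • z₀)) := by
        intro q m
        ext y
        constructor
        · rintro ⟨_, ⟨h, rfl⟩, rfl⟩
          have h1 : q * (h : P) * q⁻¹ ∈ M := hMn.conj_mem _ h.2 q
          have h2 : q * (m : P)⁻¹ * q⁻¹ ∈ M := hMn.conj_mem _ (M.inv_mem m.2) q
          refine ⟨⟨q * (h : P) * q⁻¹ * (q * (m : P)⁻¹ * q⁻¹), M.mul_mem h1 h2⟩, ?_⟩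
          simp [mul_smul, Subgroup.smul_def]
        · rintro ⟨h, rfl⟩
          have h1 : q⁻¹ * (h : P) * q ∈ M := by
            have := hMn.conj_mem _ h.2 q⁻¹
            simpa using this
          refine ⟨(⟨q⁻¹ * (h : P) * q, h1⟩ * m : M) • z₀, ⟨_, rfl⟩, ?_⟩
          simp [mul_smul, Subgroup.smul_def]
      have hodd0 : ¬ 2 ∣ Z₀.ncard := by
        have h1 : Z₀.ncard ∣ Nat.card M := by
          rw [hZ₀, ← MulAction.index_stabilizer]
          exact Subgroup.index_dvd_card _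
        obtain ⟨k, hk⟩ := IsPGroup.iff_card.1 (hP.to_subgroup M)
        rw [hk] at h1
        intro h2
        have h3 : 2 ∣ p := Nat.Prime.dvd_of_dvd_pow Nat.prime_two (h2.trans h1)
        exact hodd ((Nat.prime_dvd_prime_iff_eq Nat.prime_two hpp).1 h3).symm
      -- one of the two sets works
      obtain ⟨Sx, hSxZ, hSxM, hSxout⟩ : ∃ Sx ⊆ Z, (∀ g : M, (∀ x ∈ Sx, g • x ∈ Sx) → ∀ x ∈ Z, g • x = x) ∧
          ∀ g : P, g ∉ M → ¬ (∀ x ∈ Sx, g • x ∈ Sx) := by
        by_cases h1 : ∀ g : P, g ∉ M → ¬ (∀ x ∈ S, g • x ∈ S)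
        · exact ⟨S, hSZ, hS, h1⟩
        by_cases h2 : ∀ g : P, g ∉ M → ¬ (∀ x ∈ S₂, g • x ∈ S₂)
        · exact ⟨S₂, hS₂Z, hS₂M, h2⟩
        exfalso
        push Not at h1 h2
        obtain ⟨g₁, hg₁, hg₁S⟩ := h1
        obtain ⟨g₂, hg₂, hg₂S⟩ := h2
        have hb : g₁ • z₀ ∈ Z := hZ g₁ z₀ hz₀
        obtain ⟨i, m, hi⟩ := hrep g₂ hg₂ _ hb
        have hB1 := himg g₁ 1
        have hB2 := himg (g₂ ^ i) m
        rw [← hi] at hB2
        have hB1' : (fun x => g₁ • x) '' Z₀ = MulAction.orbit M (g₁ • z₀) := by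
          simpa using hB1
        set B : Set X := MulAction.orbit M (g₁ • z₀) with hB
        have hdisj : ∀ x ∈ B, x ∉ Z₀ := by
          rintro x ⟨m₁, rfl⟩ ⟨m₂, hm₂⟩
          apply hg₁
          have h3 : (m₁ : P) • (g₁ • z₀) = (m₂ : P) • z₀ := hm₂.symm
          have h4 : ((m₂ : P)⁻¹ * (m₁ : P) * g₁) • z₀ = z₀ := by
            simp only [mul_smul]
            rw [h3]
            simp
          have h5 : (m₂ : P)⁻¹ * (m₁ : P) * g₁ ∈ M := hSM (MulAction.mem_stabilizer_iff.2 h4)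
          have h6 : (m₂ : P)⁻¹ * (m₁ : P) ∈ M := M.mul_mem (M.inv_mem m₂.2) m₁.2
          exact (Subgroup.mul_mem_cancel_left M h6).1 h5
        have c1 := ncard_image_inter hg₁S 1 Z₀
        have c2 := ncard_image_inter hg₂S i Z₀
        simp only [pow_one] at c1
        rw [hB1'] at c1
        rw [hB2] at c2
        have h7 : B ∩ S₂ = B ∩ S := by
          ext x
          constructor
          · rintro ⟨hx, h | h⟩
            · exact ⟨hx, h.1⟩
            · exact absurd h.1 (hdisj x hx)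
          · rintro ⟨hx, h⟩
            exact ⟨hx, Or.inl ⟨h, hdisj x hx⟩⟩
        have h8 : Z₀ ∩ S₂ = Z₀ \ S := by
          ext x
          constructor
          · rintro ⟨hx, h | h⟩
            · exact absurd hx h.2
            · exact h
          · rintro h
            exact ⟨h.1, Or.inr h⟩
        rw [h7, h8] at c2
        have h9 := Set.ncard_inter_add_ncard_sdiff_eq_ncard Z₀ S (Set.toFinite _)
        apply hodd0
        rw [← h9, ← c2, c1]
        exact ⟨(Z₀ ∩ S).ncard, by ring⟩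
      refine ⟨Sx, hSxZ, ?_⟩
      intro g hg
      have hgM : g ∈ M := by
        by_contra hn
        exact hSxout g hn hg
      exact hSxM ⟨g, hgM⟩ hg

end Cfsg.Agent.Lib.NVPerm
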