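import Mathlib

/-!
# A regular orbit lemma for class-two `p`-groups with a fixed-point-free central element

`T` acts on an abelian group `W` with `p` invertible, `z ∈ Z(T)` has order `p`, all nontrivial
powers of `z` are fixed-point-free on `W` and all commutators of `T` are powers of `z`.  Then
some `v ∈ W` has stabiliser in `T` equal to the kernel of `T` on `W` (`p` odd).
-/

set_option autoImplicit false
set_option linter.unusedSectionVars false
set_option linter.unusedVariables false

namespace Cfsg.Agent.Lib.NVTerm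

variable {Γ V : Type*} [Group Γ] [AddCommGroup V] [DistribMulAction Γ V]

/-- The norm `∑_{j<p} g^j w`. -/
def nrm (p : ℕ) (g : Γ) (w : V) : V := ∑ j ∈ Finset.range p, g ^ j • w

theorem pow_smul_of_fix {g : Γ} {w : V} (h : g • w = w) (j : ℕ) : g ^ j • w = w := by
  induction j with
  | zero => simp
  | succ n ih => rw [pow_succ, mul_smul, h, ih]

theorem nrm_of_fix {p : ℕ} {g : Γ} {w : V} (h : g • w = w) : nrm p g w = p • w := by
  simp [nrm, pow_smul_of_fix h]

theorem smul_nrm {p : ℕ} (g : Γ) (w : V) (h : g ^ p • w = w) : g • nrm p g w = nrm p g w := by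
  unfold nrm
  rw [Finset.smul_sum]
  simp_rw [← mul_smul, ← pow_succ']
  have h1 := Finset.sum_range_succ' (fun j => g ^ j • w) p
  have h2 := Finset.sum_range_succ (fun j => g ^ j • w) p
  simp only [pow_zero, one_smul] at h1
  rw [h2, h] at h1
  exact (add_right_cancel h1).symm

theorem nrm_add {p : ℕ} (g : Γ) (x y : V) : nrm p g (x + y) = nrm p g x + nrm p g y := by
  simp [nrm, smul_add, Finset.sum_add_distrib]

theorem nrm_sum {p : ℕ} {ι : Type*} (g : Γ) (s : Finset ι) (f : ι → V) :
    nrm p g (∑ i ∈ s, f i) = ∑ i ∈ s, nrm p g (f i) := by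
  unfold nrm
  simp_rw [Finset.smul_sum]
  exact Finset.sum_comm

theorem nrm_mem {p : ℕ} {g : Γ} {W : AddSubgroup V} (hg : ∀ w ∈ W, g • w ∈ W) {w : V} (hw : w ∈ W) :
    nrm p g w ∈ W := by
  have h : ∀ j : ℕ, g ^ j • w ∈ W := by
    intro j
    induction j with
    | zero => simpa using hw
    | succ n ih => rw [pow_succ', mul_smul]; exact hg _ ih
  exact W.sum_mem fun j _ => h j

theorem smul_nrm_comm {p : ℕ} {g t : Γ} (h : t * g = g * t) (w : V) :
    t • nrm p g w = nrm p g (t • w) := by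
  unfold nrm
  rw [Finset.smul_sum]
  refine Finset.sum_congr rfl fun j _ => ?_
  have h1 : t * g ^ j = g ^ j * t := (Commute.pow_right h j)
  rw [← mul_smul, h1, mul_smul]

/-- Fixed points of `g` in `W`. -/
def fixSub (W : AddSubgroup V) (g : Γ) : AddSubgroup V where
  carrier := {w | w ∈ W ∧ g • w = w}
  add_mem' := by
    rintro x y ⟨hx, hx'⟩ ⟨hy, hy'⟩
    exact ⟨W.add_mem hx hy, by rw [smul_add, hx', hy']⟩
  zero_mem' := ⟨W.zero_mem, smul_zero _⟩
  neg_mem' := by
    rintro x ⟨hx, hx'⟩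
    exact ⟨W.neg_mem hx, by rw [smul_neg, hx']⟩

theorem mem_fixSub {W : AddSubgroup V} {g : Γ} {w : V} : w ∈ fixSub W g ↔ w ∈ W ∧ g • w = w :=
  Iff.rfl

section Decomp

variable {p : ℕ} [hp : Fact p.Prime] {a z : Γ} {W : AddSubgroup V}

theorem zpow_eq_of_dvd (hz : z ^ p = 1) {i j : ℤ} (h : (p : ℤ) ∣ i - j) : z ^ i = z ^ j := by
  obtain ⟨c, hc⟩ := h
  have : i = j + p * c := by omega
  rw [this, zpow_add, zpow_mul, zpow_natCast, hz, one_zpow, mul_one]

theorem nrm_zpow_eq_zero (hz : z ^ p = 1) (hzW : ∀ k : ℤ, ∀ w ∈ W, z ^ k • w ∈ W)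
    (hfpf : ∀ k : ℤ, ¬ (p : ℤ) ∣ k → ∀ w ∈ W, z ^ k • w = w → w = 0) {k : ℤ} (hk : ¬ (p : ℤ) ∣ k)
    {w : V} (hw : w ∈ W) : nrm p (z ^ k) w = 0 := by
  refine hfpf k hk _ (nrm_mem (hzW k) hw) (smul_nrm _ _ ?_)
  rw [← zpow_natCast, ← zpow_mul, mul_comm, zpow_mul, zpow_natCast, hz, one_zpow, one_smul]

theorem mul_zpow_pow (hcomm : a * z = z * a) (i : ℤ) (j : ℕ) :
    (a * z ^ i) ^ j = a ^ j * z ^ (i * j) := by
  have h1 : Commute a (z ^ i) := (Commute.zpow_right hcomm i)
  rw [h1.mul_pow, ← zpow_natCast (z ^ i), ← zpow_mul]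

theorem pow_fix_smul (hcomm : a * z = z * a) (hz : z ^ p = 1) (ha : ∀ w ∈ W, a ^ p • w = w) (i : ℤ)
    {w : V} (hw : w ∈ W) : (a * z ^ i) ^ p • w = w := by
  rw [mul_zpow_pow hcomm, mul_comm i, zpow_mul, zpow_natCast, hz, one_zpow, mul_one, ha w hw]

theorem nrm_mem_fix (hcomm : a * z = z * a) (hz : z ^ p = 1) (ha : ∀ w ∈ W, a ^ p • w = w)
    (haW : ∀ w ∈ W, a • w ∈ W) (hzW : ∀ k : ℤ, ∀ w ∈ W, z ^ k • w ∈ W) (i : ℤ) {w : V}
    (hw : w ∈ W) : nrm p (a * z ^ i) w ∈ fixSub W (a * z ^ i) := by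
  refine ⟨nrm_mem ?_ hw, smul_nrm _ _ (pow_fix_smul hcomm hz ha i hw)⟩
  intro x hx
  rw [mul_smul]
  exact haW _ (hzW i x hx)

theorem nrm_fix_self {i : ℤ} {w : V} (hw : w ∈ fixSub W (a * z ^ i)) :
    nrm p (a * z ^ i) w = p • w := nrm_of_fix hw.2

theorem nrm_fix_eq (hz : z ^ p = 1) {i i' : ℤ} (h : (p : ℤ) ∣ i - i') {w : V}
    (hw : w ∈ fixSub W (a * z ^ i')) : nrm p (a * z ^ i) w = p • w := by
  rw [zpow_eq_of_dvd hz h]
  exact nrm_of_fix hw.2

theorem nrm_fix_ne (hcomm : a * z = z * a) (hz : z ^ p = 1)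
    (hzW : ∀ k : ℤ, ∀ w ∈ W, z ^ k • w ∈ W)
    (hfpf : ∀ k : ℤ, ¬ (p : ℤ) ∣ k → ∀ w ∈ W, z ^ k • w = w → w = 0) {i i' : ℤ}
    (h : ¬ (p : ℤ) ∣ i - i') {w : V} (hw : w ∈ fixSub W (a * z ^ i')) :
    nrm p (a * z ^ i) w = 0 := by
  have h1 : ∀ j ∈ Finset.range p, (a * z ^ i) ^ j • w = (z ^ (i - i')) ^ j • w := by
    intro j _
    have h2 : a * z ^ i = z ^ (i - i') * (a * z ^ i') := by
      have h3 : a * z ^ (i - i') = z ^ (i - i') * a := (Commute.zpow_right hcomm _)
      rw [← mul_assoc, ← h3, mul_assoc, ← zpow_add]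
      congr 2
      ring
    have h4 : Commute (z ^ (i - i')) (a * z ^ i') := by
      have h3 : Commute a (z ^ (i - i')) := (Commute.zpow_right hcomm _)
      have h5 : Commute (z ^ (i - i')) (z ^ i') := Commute.zpow_zpow_self z _ _
      exact (h3.symm).mul_right h5
    rw [h2, h4.mul_pow, mul_smul, pow_smul_of_fix hw.2]
  have h2 : nrm p (a * z ^ i) w = nrm p (z ^ (i - i')) w := Finset.sum_congr rfl h1
  rw [h2]
  exact nrm_zpow_eq_zero hz hzW hfpf h hw.1

/-- The spanning identity. -/
theorem sum_nrm (hcomm : a * z = z * a) (hz : z ^ p = 1)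
    (hzW : ∀ k : ℤ, ∀ w ∈ W, z ^ k • w ∈ W)
    (hfpf : ∀ k : ℤ, ¬ (p : ℤ) ∣ k → ∀ w ∈ W, z ^ k • w = w → w = 0) {w : V} (hw : w ∈ W) :
    ∑ i ∈ Finset.range p, nrm p (a * z ^ (i : ℤ)) w = p • w := by
  have hpp : p.Prime := hp.out
  unfold nrm
  rw [Finset.sum_comm]
  rw [Finset.sum_eq_single_of_mem 0 (by simpa using hpp.pos)]
  · simp
  · intro j hj hj0
    have hjlt : j < p := by simpa using hj
    have hnd : ¬ (p : ℤ) ∣ (j : ℤ) := by
      intro h
      have h1 : p ∣ j := by exact_mod_cast h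
      exact absurd (Nat.le_of_dvd (Nat.pos_of_ne_zero hj0) h1) (by omega)
    have h1 : ∀ i ∈ Finset.range p, (a * z ^ (i : ℤ)) ^ j • w = a ^ j • ((z ^ (j : ℤ)) ^ i • w) := by
      intro i _
      rw [mul_zpow_pow hcomm, mul_smul]
      congr 2
      rw [← zpow_natCast (z ^ (j : ℤ)) i, ← zpow_mul, mul_comm]
    rw [Finset.sum_congr rfl h1, ← Finset.smul_sum]
    have h2 : ∑ i ∈ Finset.range p, (z ^ (j : ℤ)) ^ i • w = 0 :=
      nrm_zpow_eq_zero hz hzW hfpf hnd hw
    rw [h2, smul_zero]

/-- Moving the eigenspaces. -/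
theorem mul_comm_of_comm {t : Γ} {c i : ℤ} (hcomm : a * z = z * a) (htz : t * z = z * t)
    (hc : a * t * a⁻¹ * t⁻¹ = z ^ c) : (a * z ^ (i - c)) * t = t * (a * z ^ i) := by
  have h1 : a * t = z ^ c * t * a := by
    rw [← hc]; group
  have h2 : z ^ (i - c) * t = t * z ^ (i - c) := ((Commute.zpow_right htz _).symm).eq
  have h3 : z ^ c * t = t * z ^ c := ((Commute.zpow_right htz _).symm).eq
  have h4 : z ^ c * a = a * z ^ c := ((Commute.zpow_right hcomm _).symm).eq
  calc a * z ^ (i - c) * t = a * (z ^ (i - c) * t) := by group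
    _ = a * (t * z ^ (i - c)) := by rw [h2]
    _ = (a * t) * z ^ (i - c) := by group
    _ = (z ^ c * t * a) * z ^ (i - c) := by rw [h1]
    _ = (t * z ^ c * a) * z ^ (i - c) := by rw [h3]
    _ = t * (z ^ c * a) * z ^ (i - c) := by group
    _ = t * (a * z ^ c) * z ^ (i - c) := by rw [h4]
    _ = t * (a * (z ^ c * z ^ (i - c))) := by group
    _ = t * (a * z ^ i) := by rw [← zpow_add]; congr 3; ring

theorem move_fix {t : Γ} {c i : ℤ} (hcomm : a * z = z * a) (htz : t * z = z * t)
    (hc : a * t * a⁻¹ * t⁻¹ = z ^ c) (htW : ∀ w ∈ W, t • w ∈ W) {w : V}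
    (hw : w ∈ fixSub W (a * z ^ i)) : t • w ∈ fixSub W (a * z ^ (i - c)) := by
  refine ⟨htW w hw.1, ?_⟩
  rw [← mul_smul, mul_comm_of_comm hcomm htz hc, mul_smul, hw.2]

end Decomp

section Main

variable {p : ℕ} [hp : Fact p.Prime]

theorem card_lt_of_lt [Finite V] {A B : AddSubgroup V} (hle : A ≤ B) {x : V} (hx : x ∈ B)
    (hxA : x ∉ A) : Nat.card A < Nat.card B := by
  have h1 : (A : Set V) ⊂ (B : Set V) := by
    refine ⟨hle, fun h => hxA (h hx)⟩
  have h2 := Set.ncard_lt_ncard h1 (Set.toFinite _)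
  show Nat.card ((A : Set V) : Type _) < Nat.card ((B : Set V) : Type _)
  rw [Nat.card_coe_set_eq, Nat.card_coe_set_eq]
  exact h2

theorem exists_nat_mul_add_dvd {k : ℤ} (hk : ¬ (p : ℤ) ∣ k) (i : ℤ) :
    ∃ m : ℕ, (p : ℤ) ∣ i + m * k := by
  have hpp : p.Prime := hp.out
  have hprime : Prime (p : ℤ) := Nat.prime_iff_prime_int.mp hpp
  have hcop : IsCoprime (p : ℤ) k := (Prime.coprime_iff_not_dvd hprime).2 hk
  obtain ⟨u, v, huv⟩ := hcop
  -- `u p + v k = 1`, so `i + (-i v) k = i u p`.
  have hppos : (0 : ℤ) < p := by exact_mod_cast hpp.pos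
  refine ⟨((-i * v) % p).toNat, ?_⟩
  have h0 : (0 : ℤ) ≤ (-i * v) % p := Int.emod_nonneg _ hppos.ne'
  rw [Int.toNat_of_nonneg h0]
  have h1 : (-i * v) % p = (-i * v) - p * ((-i * v) / p) := by
    have := Int.emod_add_mul_ediv (-i * v) p
    linarith
  rw [h1]
  refine ⟨i * u - ((-i * v) / p) * k, ?_⟩
  have : i = i * (u * p + v * k) := by rw [huv, mul_one]
  nlinarith [this]

/-- **Regular orbit lemma.** -/
theorem reg_orbit (hodd : p ≠ 2) [Finite V] (hinj : ∀ x : V, p • x = 0 → x = 0) (z : Γ)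
    (hz : z ^ p = 1) :
    ∀ (n : ℕ) (W : AddSubgroup V), Nat.card W ≤ n → ∀ T : Subgroup Γ, z ∈ T →
      (∀ t ∈ T, t * z = z * t) →
      (∀ a ∈ T, ∀ b ∈ T, ∃ k : ℤ, a * b * a⁻¹ * b⁻¹ = z ^ k) →
      (∀ t ∈ T, ∃ k : ℕ, t ^ (p ^ k) = 1) →
      (∀ t ∈ T, ∀ w ∈ W, t • w ∈ W) →
      (∀ k : ℤ, ¬ (p : ℤ) ∣ k → ∀ w ∈ W, z ^ k • w = w → w = 0) →
      ∃ v ∈ W, (W ≠ ⊥ → v ≠ 0) ∧ ∀ t ∈ T, t • v = v → ∀ w ∈ W, t • w = w := by
  classical
  have hpp : p.Prime := hp.out
  intro n
  induction n with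
  | zero =>
    intro W hW
    have : 0 < Nat.card W := Nat.card_pos
    omega
  | succ n ih =>
    intro W hW T hzT hzc hcom hpow hTW hfpf
    have hzW : ∀ k : ℤ, ∀ w ∈ W, z ^ k • w ∈ W := fun k w hw => hTW _ (T.zpow_mem hzT k) w hw
    by_cases htriv : ∀ u ∈ T, (∀ w ∈ W, u • w = w) ∨ (∀ w ∈ W, u • w = w → w = 0)
    · by_cases hbot : W = ⊥
      · refine ⟨0, W.zero_mem, fun h => absurd hbot h, ?_⟩
        intro t _ _ w hw
        rw [hbot, AddSubgroup.mem_bot] at hw
        rw [hw, smul_zero]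
      · obtain ⟨x, hx⟩ := (AddSubgroup.ne_bot_iff_exists_ne_zero).1 hbot
        obtain ⟨v, hv, hv0⟩ : ∃ v : V, v ∈ W ∧ v ≠ 0 :=
          ⟨(x : V), x.2, fun h => hx (Subtype.ext h)⟩
        refine ⟨v, hv, fun _ => hv0, ?_⟩
        intro t ht htv w hw
        rcases htriv t ht with h | h
        · exact h w hw
        · exact absurd (h v hv htv) hv0
    · push Not at htriv
      obtain ⟨u, huT, ⟨w₁, hw₁, hw₁u⟩, ⟨w₀, hw₀, hw₀u, hw₀0⟩⟩ := htriv
      -- pass to a power of `u` whose `p`-th power is trivial on `W`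
      obtain ⟨a, haT, haW₀, ⟨w₂, hw₂, hw₂a⟩, ha⟩ : ∃ a ∈ T, a • w₀ = w₀ ∧ (∃ w ∈ W, a • w ≠ w) ∧
          ∀ w ∈ W, a ^ p • w = w := by
        obtain ⟨K, hK⟩ := hpow u huT
        have hex : ∃ k : ℕ, ∀ w ∈ W, u ^ (p ^ k) • w = w := ⟨K, fun w _ => by rw [hK, one_smul]⟩
        have hfind := Nat.find_spec hex
        have hne0 : Nat.find hex ≠ 0 := by
          intro h0
          rw [h0] at hfind
          exact hw₁u (by simpa using hfind w₁ hw₁)
        obtain ⟨m, hm⟩ := Nat.exists_eq_succ_of_ne_zero hne0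
        have hmin := Nat.find_min hex (m := m) (by omega)
        push Not at hmin
        refine ⟨u ^ (p ^ m), T.pow_mem huT _, pow_smul_of_fix hw₀u _, hmin, ?_⟩
        intro w hw
        rw [← pow_mul, ← pow_succ]
        rw [hm] at hfind
        exact hfind w hw
      have hcomm : a * z = z * a := hzc a haT
      have haWW : ∀ w ∈ W, a • w ∈ W := hTW a haT
      set F : ℤ → AddSubgroup V := fun i => fixSub W (a * z ^ i) with hF
      have hF0 : ∀ w, w ∈ F 0 ↔ w ∈ W ∧ a • w = w := by
        intro w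
        simp [hF, mem_fixSub]
      have hw₀F : w₀ ∈ F 0 := (hF0 _).2 ⟨hw₀, haW₀⟩
      -- `F i` is strictly smaller than `W` for every `i`
      have hFlt : ∀ i : ℤ, Nat.card (F i) ≤ n := by
        intro i
        have hle : F i ≤ W := fun x hx => hx.1
        by_cases hi : (p : ℤ) ∣ i
        · have hx : w₂ ∉ F i := by
            intro hx
            apply hw₂a
            have h1 := hx.2
            rw [zpow_eq_of_dvd hz (i := i) (j := 0) (by simpa using hi), zpow_zero, mul_one] at h1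
            exact h1
          have := card_lt_of_lt hle hw₂ hx
          omega
        · have hx : w₀ ∉ F i := by
            intro hx
            have h1 : nrm p (a * z ^ (0 : ℤ)) w₀ = 0 :=
              nrm_fix_ne hcomm hz hzW hfpf (i := 0) (i' := i) (by simpa using hi) hx
            have h2 : nrm p (a * z ^ (0 : ℤ)) w₀ = p • w₀ := nrm_fix_self hw₀F
            rw [h2] at h1
            exact hw₀0 (hinj _ h1)
          have := card_lt_of_lt hle hw₀ hx
          omega
      have hFnrm : ∀ (i : ℤ) {w : V}, w ∈ W → nrm p (a * z ^ i) w ∈ F i :=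
        fun i w hw => nrm_mem_fix hcomm hz ha haWW hzW i hw
      have hFself : ∀ (i i' : ℤ) {w : V}, (p : ℤ) ∣ i - i' → w ∈ F i' → nrm p (a * z ^ i) w = p • w :=
        fun i i' w h hw => nrm_fix_eq hz h hw
      have hFne : ∀ (i i' : ℤ) {w : V}, ¬ (p : ℤ) ∣ i - i' → w ∈ F i' → nrm p (a * z ^ i) w = 0 :=
        fun i i' w h hw => nrm_fix_ne hcomm hz hzW hfpf h hw
      -- commutators
      have hmove : ∀ t ∈ T, ∀ c : ℤ, a * t * a⁻¹ * t⁻¹ = z ^ c → ∀ i : ℤ, ∀ w ∈ F i,
          t • w ∈ F (i - c) := by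
        intro t ht c hc i w hw
        exact move_fix hcomm (hzc t ht) hc (hTW t ht) hw
      -- triviality on `W` from triviality on all `F i`
      have hspan : ∀ t : Γ, (∀ i : ℕ, i < p → ∀ x ∈ F i, t • x = x) → ∀ w ∈ W, t • w = w := by
        intro t ht w hw
        have h1 := sum_nrm hcomm hz hzW hfpf hw
        have h2 : t • (p • w) = p • w := by
          rw [← h1, Finset.smul_sum]
          refine Finset.sum_congr rfl fun i hi => ?_
          exact ht i (by simpa using hi) _ (hFnrm _ hw)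
        have h3 : p • (t • w - w) = 0 := by
          rw [nsmul_sub, ← smul_comm, h2, sub_self]
        exact sub_eq_zero.1 (hinj _ h3)
      by_cases hcen : ∀ t ∈ T, a * t = t * a
      · -- central case
        have hcomT : ∀ t ∈ T, a * t * a⁻¹ * t⁻¹ = z ^ (0 : ℤ) := by
          intro t ht
          rw [hcen t ht]
          group
        have hinv : ∀ t ∈ T, ∀ i : ℤ, ∀ w ∈ F i, t • w ∈ F i := by
          intro t ht i w hw
          have := hmove t ht 0 (hcomT t ht) i w hw
          simpa using this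
        have hIH : ∀ i : ℤ, ∃ v ∈ F i, (F i ≠ ⊥ → v ≠ 0) ∧ ∀ t ∈ T, t • v = v → ∀ w ∈ F i, t • w = w := by
          intro i
          exact ih (F i) (hFlt i) T hzT hzc hcom hpow (fun t ht w hw => hinv t ht i w hw)
            (fun k hk w hw => hfpf k hk w hw.1)
        choose v hvF hv0 hvt using hIH
        have hcomp : ∀ i₀ : ℕ, i₀ < p → nrm p (a * z ^ (i₀ : ℤ)) (∑ i ∈ Finset.range p, v (i : ℤ)) =
            p • v (i₀ : ℤ) := by
          intro i₀ hi₀
          rw [nrm_sum, Finset.sum_eq_single_of_mem i₀ (by simpa using hi₀)]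
          · exact nrm_of_fix (hvF (i₀ : ℤ)).2
          · intro i hi hne
            refine hFne _ _ ?_ (hvF (i : ℤ))
            intro hd
            have hilt : i < p := by simpa using hi
            have h3 := Int.eq_zero_of_abs_lt_dvd hd (abs_lt.2 ⟨by omega, by omega⟩)
            omega
        refine ⟨∑ i ∈ Finset.range p, v (i : ℤ), W.sum_mem fun i _ => (hvF _).1, ?_, ?_⟩
        · intro _ h0
          have h1 := hcomp 0 hpp.pos
          rw [h0] at h1
          have h2 : nrm p (a * z ^ (((0 : ℕ) : ℤ))) (0 : V) = 0 := by simp [nrm]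
          rw [h2] at h1
          have h3 : v ((0 : ℕ) : ℤ) = 0 := hinj _ h1.symm
          refine hv0 _ ?_ h3
          intro hb
          apply hw₀0
          have : w₀ ∈ F ((0 : ℕ) : ℤ) := by simpa using hw₀F
          rw [hb, AddSubgroup.mem_bot] at this
          exact this
        · intro t ht htv
          refine hspan t ?_
          intro i hi
          refine hvt _ t ht ?_
          have h1 := hcomp i hi
          have hcc : t * (a * z ^ (i : ℤ)) = (a * z ^ (i : ℤ)) * t := by
            have h3 : t * z ^ (i : ℤ) = z ^ (i : ℤ) * t := (Commute.zpow_right (hzc t ht) _).eq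
            rw [← mul_assoc, ← hcen t ht, mul_assoc, h3, mul_assoc]
          have h2 := smul_nrm_comm (p := p) hcc (∑ i ∈ Finset.range p, v (i : ℤ))
          rw [htv, h1, smul_comm] at h2
          have h3 : p • (t • v (i : ℤ) - v (i : ℤ)) = 0 := by
            rw [nsmul_sub, h2, sub_self]
          exact sub_eq_zero.1 (hinj _ h3)
      · -- non-central case
        push Not at hcen
        obtain ⟨t₀, ht₀, hat₀⟩ := hcen
        obtain ⟨c, hc⟩ := hcom a haT t₀ ht₀
        have hprime : Prime (p : ℤ) := Nat.prime_iff_prime_int.mp hpp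
        have hzone : ∀ e : ℤ, (p : ℤ) ∣ e → z ^ e = 1 := by
          intro e he
          rw [zpow_eq_of_dvd hz (i := e) (j := 0) (by simpa using he), zpow_zero]
        have hcnd : ¬ (p : ℤ) ∣ c := by
          intro h
          rw [hzone c h] at hc
          apply hat₀
          have h1 : a * t₀ * a⁻¹ * t₀⁻¹ * t₀ * a = 1 * t₀ * a := by rw [hc]
          simpa [mul_assoc] using h1
        obtain ⟨k, hk⟩ : ∃ k : ℤ, k = 0 - c := ⟨_, rfl⟩
        have hknd : ¬ (p : ℤ) ∣ k := by
          intro h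
          apply hcnd
          have : c = -k := by omega
          rw [this]
          exact (dvd_neg).2 h
        have h2knd : ¬ (p : ℤ) ∣ 2 * k := by
          intro h
          rcases hprime.dvd_or_dvd h with h1 | h1
          · have h2 : (p : ℕ) ∣ 2 := by exact_mod_cast h1
            exact hodd ((Nat.prime_dvd_prime_iff_eq hpp Nat.prime_two).1 h2)
          · exact hknd h1
        have hFper : ∀ i j : ℤ, (p : ℤ) ∣ i - j → F i = F j := by
          intro i j h
          simp only [hF]
          rw [zpow_eq_of_dvd hz h]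
        set C : Subgroup Γ := T ⊓ Subgroup.centralizer {a} with hC
        have hCmem : ∀ t, t ∈ C ↔ t ∈ T ∧ a * t = t * a := by
          intro t
          rw [hC, Subgroup.mem_inf, Subgroup.mem_centralizer_singleton_iff]
          exact and_congr_right fun _ => ⟨fun h => h.symm, fun h => h.symm⟩
        have hcomT : ∀ t, a * t = t * a → a * t * a⁻¹ * t⁻¹ = z ^ (0 : ℤ) := by
          intro t ht
          rw [ht]
          group
        have hinv : ∀ t ∈ C, ∀ i : ℤ, ∀ w ∈ F i, t • w ∈ F i := by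
          intro t ht i w hw
          have := hmove t ((hCmem t).1 ht).1 0 (hcomT t ((hCmem t).1 ht).2) i w hw
          simpa using this
        have hIH : ∀ i : ℤ, ∃ v ∈ F i, (F i ≠ ⊥ → v ≠ 0) ∧ ∀ t ∈ C, t • v = v → ∀ w ∈ F i, t • w = w := by
          intro i
          refine ih (F i) (hFlt i) C ((hCmem z).2 ⟨hzT, hcomm⟩) (fun t ht => hzc t ((hCmem t).1 ht).1)
            (fun x hx y hy => hcom x ((hCmem x).1 hx).1 y ((hCmem y).1 hy).1)
            (fun t ht => hpow t ((hCmem t).1 ht).1) (fun t ht w hw => hinv t ht i w hw)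
            (fun e he w hw => hfpf e he w hw.1)
        have ht₀w₀ : t₀ • w₀ ∈ F k := by
          have := hmove t₀ ht₀ c hc 0 w₀ hw₀F
          rwa [← hk] at this
        have ht₀w₀0 : t₀ • w₀ ≠ 0 := by
          intro h
          exact hw₀0 ((smul_eq_zero_iff_eq t₀).1 h)
        obtain ⟨v₀, hv₀F, hv₀0, hv₀t⟩ := hIH 0
        obtain ⟨v₁, hv₁F, hv₁0, hv₁t⟩ := hIH k
        have hv₀ne : v₀ ≠ 0 := by
          apply hv₀0
          intro hb
          rw [hb, AddSubgroup.mem_bot] at hw₀F
          exact hw₀0 hw₀F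
        have hv₁ne : v₁ ≠ 0 := by
          apply hv₁0
          intro hb
          rw [hb, AddSubgroup.mem_bot] at ht₀w₀
          exact ht₀w₀0 ht₀w₀
        have hn00 : nrm p (a * z ^ (0 : ℤ)) v₀ = p • v₀ := hFself 0 0 (by simp) hv₀F
        have hn01 : nrm p (a * z ^ (0 : ℤ)) v₁ = 0 := hFne 0 k (by simpa using hknd) hv₁F
        have hnk0 : nrm p (a * z ^ k) v₀ = 0 := hFne k 0 (by simpa using hknd) hv₀F
        have hnk1 : nrm p (a * z ^ k) v₁ = p • v₁ := hFself k k (by simp) hv₁F
        have hp0 : p • v₀ ≠ 0 := fun h => hv₀ne (hinj _ h)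
        have hp1 : p • v₁ ≠ 0 := fun h => hv₁ne (hinj _ h)
        refine ⟨v₀ + v₁, W.add_mem hv₀F.1 hv₁F.1, ?_, ?_⟩
        · intro _ h0
          have h1 : nrm p (a * z ^ (0 : ℤ)) (v₀ + v₁) = p • v₀ := by
            rw [nrm_add, hn00, hn01, add_zero]
          rw [h0] at h1
          have h2 : nrm p (a * z ^ (0 : ℤ)) (0 : V) = 0 := by simp [nrm]
          rw [h2] at h1
          exact hp0 h1.symm
        · intro t ht htv
          obtain ⟨c', hc'⟩ := hcom a haT t ht
          have ht0 : t • v₀ ∈ F (0 - c') := hmove t ht c' hc' 0 v₀ hv₀F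
          have ht1 : t • v₁ ∈ F (k - c') := hmove t ht c' hc' k v₁ hv₁F
          have hsum : t • v₀ + t • v₁ = v₀ + v₁ := by rw [← smul_add, htv]
          have hN0 : nrm p (a * z ^ (0 : ℤ)) (t • v₀) + nrm p (a * z ^ (0 : ℤ)) (t • v₁) = p • v₀ := by
            rw [← nrm_add, hsum, nrm_add, hn00, hn01, add_zero]
          have hNk : nrm p (a * z ^ k) (t • v₀) + nrm p (a * z ^ k) (t • v₁) = p • v₁ := by
            rw [← nrm_add, hsum, nrm_add, hnk0, hnk1, zero_add]
          have hc'd : (p : ℤ) ∣ c' := by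
            by_contra hcn
            have h1 : nrm p (a * z ^ (0 : ℤ)) (t • v₀) = 0 := by
              refine hFne 0 (0 - c') ?_ ht0
              simpa using hcn
            rw [h1, zero_add] at hN0
            by_cases hd : (p : ℤ) ∣ 0 - (k - c')
            · have h2 : nrm p (a * z ^ k) (t • v₀) = 0 := by
                refine hFne k (0 - c') ?_ ht0
                intro h3
                apply h2knd
                have h4 := dvd_sub h3 hd
                have h5 : k - (0 - c') - (0 - (k - c')) = 2 * k - 2 * 0 := by ring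
                rw [h5] at h4
                simpa using h4
              have h3 : nrm p (a * z ^ k) (t • v₁) = 0 := by
                refine hFne k (k - c') ?_ ht1
                simpa using hcn
              rw [h2, h3, add_zero] at hNk
              exact hp1 hNk.symm
            · have h2 : nrm p (a * z ^ (0 : ℤ)) (t • v₁) = 0 := hFne 0 (k - c') hd ht1
              rw [h2] at hN0
              exact hp0 hN0.symm
          have hat : a * t = t * a := by
            rw [hzone c' hc'd] at hc'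
            have h1 : a * t * a⁻¹ * t⁻¹ * t * a = 1 * t * a := by rw [hc']
            simpa [mul_assoc] using h1
          have htC : t ∈ C := (hCmem t).2 ⟨ht, hat⟩
          have hF00 : t • v₀ ∈ F 0 := hinv t htC 0 v₀ hv₀F
          have hFkk : t • v₁ ∈ F k := hinv t htC k v₁ hv₁F
          have hfix0 : t • v₀ = v₀ := by
            have h1 : nrm p (a * z ^ (0 : ℤ)) (t • v₀) = p • (t • v₀) := hFself 0 0 (by simp) hF00
            have h2 : nrm p (a * z ^ (0 : ℤ)) (t • v₁) = 0 := hFne 0 k (by simpa using hknd) hFkk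
            rw [h1, h2, add_zero] at hN0
            have h3 : p • (t • v₀ - v₀) = 0 := by rw [nsmul_sub, hN0, sub_self]
            exact sub_eq_zero.1 (hinj _ h3)
          have hfix1 : t • v₁ = v₁ := by
            have h1 : nrm p (a * z ^ k) (t • v₀) = 0 := hFne k 0 (by simpa using hknd) hF00
            have h2 : nrm p (a * z ^ k) (t • v₁) = p • (t • v₁) := hFself k k (by simp) hFkk
            rw [h1, h2, zero_add] at hNk
            have h3 : p • (t • v₁ - v₁) = 0 := by rw [nsmul_sub, hNk, sub_self]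
            exact sub_eq_zero.1 (hinj _ h3)
          have htF0 := hv₀t t htC hfix0
          have htFk := hv₁t t htC hfix1
          -- `t` commutes with `t₀`
          obtain ⟨e, he⟩ := hcom t ht t₀ ht₀
          have htt₀ : t * t₀ = t₀ * t := by
            have h1 : t * t₀ = z ^ e * (t₀ * t) := by
              rw [← he]; group
            have h2 : z ^ e • (t₀ • w₀) = t₀ • w₀ := by
              have h3 := htFk _ ht₀w₀
              rw [← mul_smul, h1, mul_smul, mul_smul, htF0 _ hw₀F] at h3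
              exact h3
            have h4 : (p : ℤ) ∣ e := by
              by_contra hen
              exact ht₀w₀0 (hfpf e hen _ ht₀w₀.1 h2)
            rw [h1, hzone e h4, one_mul]
          have hmovePow : ∀ m : ℕ, ∀ i : ℤ, ∀ x ∈ F i, t₀ ^ m • x ∈ F (i + m * k) := by
            intro m
            induction m with
            | zero =>
              intro i x hx
              simpa using hx
            | succ m ihm =>
              intro i x hx
              rw [pow_succ', mul_smul]
              have h1 := hmove t₀ ht₀ c hc _ _ (ihm i x hx)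
              have h2 : i + ((m + 1 : ℕ) : ℤ) * k = i + m * k - c := by
                push_cast
                rw [hk]
                ring
              rw [h2]
              exact h1
          refine hspan t ?_
          intro i _ x hx
          obtain ⟨m, hm⟩ := exists_nat_mul_add_dvd (p := p) hknd (i : ℤ)
          have h1 : t₀ ^ m • x ∈ F 0 := by
            have h2 := hmovePow m _ x hx
            rwa [hFper _ 0 (by simpa using hm)] at h2
          have h2 := htF0 _ h1
          have h3 : t * t₀ ^ m = t₀ ^ m * t := (Commute.pow_right htt₀ m).eq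
          rw [← mul_smul, h3, mul_smul] at h2
          exact smul_left_cancel _ h2

end Main

end Cfsg.Agent.Lib.NVTerm
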