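/-
PHall: tools for P. Hall's theorem on `p`-groups of symplectic type: central homomorphisms of an extraspecial group are inner,
detection of extraspecial groups from the elementwise structure `ES`, a critical subgroup in elementwise form,
chains of subgroups in cyclic `p`-groups.
-/
import Mathlib
import Cfsg.Agent.Lib.ExtraES
import Cfsg.Agent.Lib.ExtraES2
import Cfsg.Agent.Lib.Frat
import Cfsg.Agent.Lib.CyclicMax
import Cfsg.Agent.S0093

set_option autoImplicit false
set_option linter.style.haveILetI false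
set_option linter.unusedSectionVars false
set_option linter.unusedVariables false

namespace Cfsg.Agent.Lib.PHall

open scoped commutatorElement
open Cfsg.Agent.Lib.ExtraES

universe u

section inner

variable {p : ℕ} [hp : Fact p.Prime]

/-- A homomorphism into `⟨z⟩` trivial on `z` is an inner commutator map. -/
theorem inner_of_hom : ∀ (n : ℕ) (E : Type u) [Group E] [Finite E] (z : E), ES p E z → Nat.card E ≤ n →
    ∀ φ : E → E, (∀ a b, φ (a * b) = φ a * φ b) → (∀ x, ∃ k : ℕ, φ x = z ^ k) → φ z = 1 →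
      ∃ w, ∀ x, φ x = ⁅x, w⁆ := by
  intro n
  induction n with
  | zero =>
    intro E _ _ z h hn
    have := Nat.card_pos (α := E)
    omega
  | succ n ih =>
    intro E _ _ z h hn φ hmul hval hz
    have hone : φ 1 = 1 := by
      have := hmul 1 1
      rw [mul_one] at this
      exact left_eq_mul.1 this
    have hpow : ∀ a (k : ℕ), φ (a ^ k) = φ a ^ k := by
      intro a k
      induction k with
      | zero => simpa using hone
      | succ k ih' => rw [pow_succ, hmul, ih', pow_succ]
    have hinv : ∀ a, φ a⁻¹ = (φ a)⁻¹ := by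
      intro a
      have := hmul a a⁻¹
      rw [mul_inv_cancel, hone] at this
      exact eq_inv_of_mul_eq_one_right this.symm
    by_cases hab : ∀ a b : E, a * b = b * a
    · obtain ⟨h1, -⟩ := h.card_of_comm hab
      refine ⟨1, fun x => ?_⟩
      have hx : x ∈ Subgroup.zpowers z := by rw [h1]; trivial
      obtain ⟨k, hk⟩ := (Subgroup.mem_zpowers_iff.1 hx)
      have hfo : IsOfFinOrder z := isOfFinOrder_of_finite z
      rw [← hfo.mem_powers_iff_mem_zpowers] at hx
      obtain ⟨m, rfl⟩ := hx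
      rw [hpow, hz, one_pow, commutatorElement_one_right]
    · push Not at hab
      obtain ⟨a, x, hax⟩ := hab
      obtain ⟨y, hxy⟩ := h.exists_partner x ⟨a, hax⟩
      obtain ⟨k₁, hk₁⟩ := hval x
      obtain ⟨k₂, hk₂⟩ := hval y
      set w₁ : E := y ^ k₁ * x⁻¹ ^ k₂ with hw₁
      have h1 : ⁅x, w₁⁆ = z ^ k₁ := by
        rw [hw₁, h.comm_mul_right, h.comm_pow_right, h.comm_pow_right, hxy]
        have : ⁅x, x⁻¹⁆ = 1 := by
          rw [commutatorElement_eq_one_iff_mul_comm]; simp
        rw [this, one_pow, mul_one]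
      have h2 : ⁅y, w₁⁆ = z ^ k₂ := by
        rw [hw₁, h.comm_mul_right, h.comm_pow_right, h.comm_pow_right, h.comm_inv_swap hxy]
        have : ⁅y, y⁆ = 1 := commutatorElement_self y
        rw [this, one_pow, one_mul]
      -- the inverse commutator map
      have hswap : ∀ u v : E, ⁅u, v⁆⁻¹ = ⁅v, u⁆ := fun u v => commutatorElement_inv u v
      have hcen : ∀ u v g : E, g * ⁅u, v⁆ = ⁅u, v⁆ * g := fun u v g => h.comm_central u v g
      have hvcen : ∀ u g : E, g * φ u = φ u * g := by
        intro u g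
        obtain ⟨k, hk⟩ := hval u
        rw [hk]
        exact h.pow_central k g
      -- the centralizer of the pair
      obtain ⟨hzC, hCES⟩ := h.Cn_ES hxy
      have hmemz : ∀ k : ℕ, z ^ k ∈ Cn x y := fun k => pow_mem hzC k
      have hcommval : ∀ u v : E, ∃ k : ℕ, ⁅u, v⁆ = z ^ k := h.comm_le
      let φ' : Cn x y → Cn x y := fun c => ⟨φ c * ⁅w₁, (c : E)⁆, by
        obtain ⟨k, hk⟩ := hval (c : E)
        obtain ⟨k', hk'⟩ := hcommval w₁ c
        rw [hk, hk']
        exact mul_mem (hmemz k) (hmemz k')⟩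
      have hφ' : ∀ c : Cn x y, ((φ' c : Cn x y) : E) = φ c * ⁅w₁, (c : E)⁆ := fun c => rfl
      have hcard : Nat.card (Cn x y) ≤ n := by
        have hle := h.card_eq hxy
        have hpos : 0 < Nat.card (Cn x y) := Nat.card_pos
        have hp2 : 4 ≤ p ^ 2 := by
          have := hp.out.two_le
          nlinarith
        have : Nat.card (Cn x y) + 1 ≤ Nat.card E := by
          rw [hle]
          nlinarith
        omega
      obtain ⟨w₂, hw₂⟩ := ih (Cn x y) ⟨z, hzC⟩ hCES hcard φ'
        (by
          intro a b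
          apply Subtype.ext
          simp only [hφ', Subgroup.coe_mul]
          rw [hmul, h.comm_mul_right]
          have e1 := hcen w₁ b (φ b)
          have e2 := hcen w₁ a (φ b)
          calc φ a * φ b * (⁅w₁, (a : E)⁆ * ⁅w₁, (b : E)⁆) = φ a * (φ b * ⁅w₁, (a : E)⁆) * ⁅w₁, (b : E)⁆ := by group
            _ = φ a * (⁅w₁, (a : E)⁆ * φ b) * ⁅w₁, (b : E)⁆ := by rw [e2]
            _ = φ a * ⁅w₁, (a : E)⁆ * (φ b * ⁅w₁, (b : E)⁆) := by group)
        (by
          intro c
          obtain ⟨k, hk⟩ := hval (c : E)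
          obtain ⟨k', hk'⟩ := hcommval w₁ c
          refine ⟨k + k', ?_⟩
          apply Subtype.ext
          simp only [hφ', SubgroupClass.coe_pow]
          rw [hk, hk', pow_add])
        (by
          apply Subtype.ext
          simp only [hφ']
          have e : ⁅w₁, z⁆ = 1 := by
            rw [commutatorElement_eq_one_iff_mul_comm]
            exact h.central w₁
          rw [e, hz, one_mul]
          rfl)
      -- the correction vanishes everywhere
      let ψ : E → E := fun v => φ v * ⁅w₁, v⁆ * ⁅(w₂ : E), v⁆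
      have hψmul : ∀ a b, ψ (a * b) = ψ a * ψ b := by
        intro a b
        simp only [ψ]
        rw [hmul, h.comm_mul_right, h.comm_mul_right]
        have e1 := hcen w₁ a (φ b)
        have e2 := hcen (w₂ : E) a (φ b)
        have e3 := hcen (w₂ : E) a ⁅w₁, b⁆
        calc φ a * φ b * (⁅w₁, a⁆ * ⁅w₁, b⁆) * (⁅(w₂ : E), a⁆ * ⁅(w₂ : E), b⁆)
            = φ a * (φ b * ⁅w₁, a⁆) * ⁅w₁, b⁆ * ⁅(w₂ : E), a⁆ * ⁅(w₂ : E), b⁆ := by group
          _ = φ a * ⁅w₁, a⁆ * φ b * (⁅w₁, b⁆ * ⁅(w₂ : E), a⁆) * ⁅(w₂ : E), b⁆ := by rw [e1]; group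
          _ = φ a * ⁅w₁, a⁆ * (φ b * ⁅(w₂ : E), a⁆) * ⁅w₁, b⁆ * ⁅(w₂ : E), b⁆ := by rw [e3]; group
          _ = φ a * ⁅w₁, a⁆ * ⁅(w₂ : E), a⁆ * (φ b * ⁅w₁, b⁆ * ⁅(w₂ : E), b⁆) := by rw [e2]; group
      have hψone : ψ 1 = 1 := by
        have := hψmul 1 1
        rw [mul_one] at this
        exact left_eq_mul.1 this
      have hψpow : ∀ a (k : ℕ), ψ (a ^ k) = ψ a ^ k := by
        intro a k
        induction k with
        | zero => simpa using hψone
        | succ k ih' => rw [pow_succ, hψmul, ih', pow_succ]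
      have hψinv : ∀ a, ψ a = 1 → ψ a⁻¹ = 1 := by
        intro a ha
        have := hψmul a a⁻¹
        rw [mul_inv_cancel, hψone, ha, one_mul] at this
        exact this.symm
      have hw₂x : ⁅(w₂ : E), x⁆ = 1 := by
        rw [commutatorElement_eq_one_iff_mul_comm]
        exact ((mem_Cn.1 w₂.2).1).symm
      have hw₂y : ⁅(w₂ : E), y⁆ = 1 := by
        rw [commutatorElement_eq_one_iff_mul_comm]
        exact ((mem_Cn.1 w₂.2).2).symm
      have hψx : ψ x = 1 := by
        simp only [ψ]
        rw [hw₂x, mul_one, ← hswap x w₁, h1, hk₁, mul_inv_cancel]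
      have hψy : ψ y = 1 := by
        simp only [ψ]
        rw [hw₂y, mul_one, ← hswap y w₁, h2, hk₂, mul_inv_cancel]
      have hψc : ∀ c : Cn x y, ψ c = 1 := by
        intro c
        simp only [ψ]
        have h3 := congrArg Subtype.val (hw₂ c)
        rw [hφ'] at h3
        have h4 : ((⁅c, w₂⁆ : Cn x y) : E) = ⁅(c : E), (w₂ : E)⁆ := rfl
        rw [h4] at h3
        rw [h3, ← hswap, inv_mul_cancel]
      have hψall : ∀ v, ψ v = 1 := by
        intro v
        obtain ⟨c, hc, i, j, rfl⟩ := h.exists_decomp hxy v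
        rw [hψmul, hψmul, hψpow, hψpow, hψy, hψinv x hψx, one_pow, one_pow, hψc ⟨c, hc⟩]
        simp
      refine ⟨w₁ * w₂, fun v => ?_⟩
      have h3 := hψall v
      simp only [ψ] at h3
      rw [h.comm_mul_right, ← hswap w₁ v, ← hswap (w₂ : E) v]
      have h4 : φ v = (⁅w₁, v⁆ * ⁅(w₂ : E), v⁆)⁻¹ := by
        apply eq_inv_of_mul_eq_one_left
        rw [← h3]
        group
      rw [h4, mul_inv_rev, hswap, hswap]
      exact hcen v w₁ _

end inner

section detect

variable {p : ℕ} [hp : Fact p.Prime]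

/-- Detection of extraspecial groups from the elementwise data. -/
theorem isExtraspecial_of_ES {E : Type*} [Group E] [Finite E] (hE : IsPGroup p E) {z : E} (h : ES p E z)
    (hnc : ∃ a b : E, a * b ≠ b * a) : Cfsg.IsExtraspecial p E := by
  have hcen : Subgroup.center E = Subgroup.zpowers z := by
    apply le_antisymm
    · intro g hg
      obtain ⟨k, hk⟩ := h.center_le g (fun a => (Subgroup.mem_center_iff.1 hg a))
      rw [hk]
      exact pow_mem (Subgroup.mem_zpowers z) k
    · rw [Subgroup.zpowers_le, Subgroup.mem_center_iff]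
      intro g
      exact h.central g
  have hcomm : commutator E = Subgroup.center E := by
    apply le_antisymm
    · rw [commutator_def, Subgroup.commutator_le]
      intro a _ b _
      obtain ⟨k, hk⟩ := h.comm_le a b
      rw [hk, hcen]
      exact pow_mem (Subgroup.mem_zpowers z) k
    · rw [hcen, Subgroup.zpowers_le]
      obtain ⟨a, b, hab⟩ := hnc
      obtain ⟨k, hk⟩ := h.comm_le a b
      have hmem : ⁅a, b⁆ ∈ commutator E := by
        rw [commutator_def]
        exact Subgroup.commutator_mem_commutator (Subgroup.mem_top a) (Subgroup.mem_top b)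
      have hnd : ¬ p ∣ k := by
        intro hd
        apply hab
        have h1 : z ^ k = 1 := by
          rw [← h.order] at hd
          exact orderOf_dvd_iff_pow_eq_one.1 hd
        rw [h1, commutatorElement_eq_one_iff_mul_comm] at hk
        exact hk
      obtain ⟨m, hm⟩ := Nat.exists_mul_mod_eq_one_of_coprime
        ((Nat.Prime.coprime_iff_not_dvd hp.out).2 hnd).symm hp.out.one_lt
      have h2 : k * m = p * (k * m / p) + 1 := by
        have := Nat.div_add_mod (k * m) p
        omega
      have h3 : z = ⁅a, b⁆ ^ m := by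
        rw [hk, ← pow_mul, h2, pow_add, pow_mul, ← h.order, pow_orderOf_eq_one, one_pow, one_mul, pow_one]
      rw [h3]
      exact pow_mem hmem m
  have hfr : frattini E = Subgroup.center E := by
    apply le_antisymm
    · apply Cfsg.Agent.Lib.Frat.frattini_le_of_commutator_pow (p := p) _ hcomm.le
      intro x
      obtain ⟨k, hk⟩ := h.pow_le x
      rw [hk, hcen]
      exact pow_mem (Subgroup.mem_zpowers z) k
    · rw [← hcomm]
      exact Cfsg.Agent.Lib.Frat.commutator_le_frattini hE
  refine ⟨⟨hE, hfr, hcomm⟩, ?_⟩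
  rw [hcen, Nat.card_zpowers, h.order]

/-- In a cyclic group, an element whose order divides that of `a` is a power of `a`. -/
theorem mem_zpowers_of_orderOf_dvd {A : Type*} [Group A] [Finite A] [IsCyclic A] {a b : A}
    (h : orderOf b ∣ orderOf a) : b ∈ Subgroup.zpowers a := by
  classical
  haveI := Fintype.ofFinite A
  have hpos : 0 < orderOf a := orderOf_pos a
  have h1 : (Finset.univ.filter (fun x : A => x ^ orderOf a = 1)).card ≤ orderOf a :=
    IsCyclic.card_pow_eq_one_le hpos
  haveI : Fintype (Subgroup.zpowers a) := Fintype.ofFinite _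
  have h2 : (Subgroup.zpowers a : Set A).toFinset ⊆ Finset.univ.filter (fun x : A => x ^ orderOf a = 1) := by
    intro x hx
    rw [Set.mem_toFinset] at hx
    obtain ⟨k, rfl⟩ := Subgroup.mem_zpowers_iff.1 hx
    simp only [Finset.mem_filter, Finset.mem_univ, true_and]
    rw [← zpow_natCast, ← zpow_mul, mul_comm, zpow_mul, zpow_natCast, pow_orderOf_eq_one, one_zpow]
  have h3 : (Subgroup.zpowers a : Set A).toFinset.card = orderOf a := by
    rw [Set.toFinset_card]
    rw [← Nat.card_eq_fintype_card]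
    exact Nat.card_zpowers a
  have h4 := Finset.eq_of_subset_of_card_le h2 (by rw [h3]; exact h1)
  have h5 : b ∈ Finset.univ.filter (fun x : A => x ^ orderOf a = 1) := by
    simp only [Finset.mem_filter, Finset.mem_univ, true_and]
    exact orderOf_dvd_iff_pow_eq_one.1 h
  rw [← h4, Set.mem_toFinset] at h5
  exact h5

/-- In a cyclic `p`-group the powers form a chain. -/
theorem chain_of_isPGroup {A : Type*} [Group A] [Finite A] [IsCyclic A] (hA : IsPGroup p A) (a b : A) :
    b ∈ Subgroup.zpowers a ∨ a ∈ Subgroup.zpowers b := by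
  obtain ⟨i, hi⟩ := IsPGroup.iff_orderOf.1 hA a
  obtain ⟨j, hj⟩ := IsPGroup.iff_orderOf.1 hA b
  rcases le_total i j with hij | hij
  · right
    apply mem_zpowers_of_orderOf_dvd
    rw [hi, hj]
    exact pow_dvd_pow p hij
  · left
    apply mem_zpowers_of_orderOf_dvd
    rw [hi, hj]
    exact pow_dvd_pow p hij

end detect

section critical

variable {p : ℕ} [hp : Fact p.Prime] {G : Type*} [Group G] [Finite G]

/-- Thompson's critical subgroup in elementwise form. -/
theorem exists_critical' (hG : IsPGroup p G) :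
    ∃ C : Subgroup G, C.Characteristic ∧ (∀ a ∈ C, a ^ p ∈ C ⊓ Subgroup.centralizer (C : Set G)) ∧
      (∀ y, ∀ a ∈ C, y * a * y⁻¹ * a⁻¹ ∈ C ⊓ Subgroup.centralizer (C : Set G)) ∧
      Subgroup.centralizer (C : Set G) ≤ C := by
  obtain ⟨H, h1, h2, h3, h4⟩ := Cfsg.Agent.S0093.result hG
  refine ⟨H, h1, ?_, ?_, h4⟩
  · intro a ha
    refine ⟨H.pow_mem ha p, ?_⟩
    apply h2
    exact ⟨(⟨a, ha⟩ : H) ^ p, Cfsg.Agent.Lib.Frat.pow_mem_frattini (hG.to_subgroup H) _, by simp⟩
  · intro y a ha
    rw [Subgroup.commutator_comm] at h3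
    exact h3 (Subgroup.commutator_mem_commutator (Subgroup.mem_top y) ha)

/-- Class two power formula: if the commutator `z` has `z ^ p = 1` and `p ∣ (q choose 2)` then the
`q`-th power is multiplicative on the pair. -/
theorem pow_mul_of_comm {a b z : G} (hz : b * a * b⁻¹ * a⁻¹ = z) (h1 : z * a = a * z) (h2 : z * b = b * z)
    {q : ℕ} (hzp : z ^ p = 1) (hq : p ∣ q.choose 2) : (a * b) ^ q = a ^ q * b ^ q := by
  have hyx : b * a = z * a * b := by
    rw [← hz]
    group
  have h3 := Cfsg.Agent.Lib.CyclicMax.mul_pow_class_two' hyx h1 h2 q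
  rw [h3]
  obtain ⟨c, hc⟩ := hq
  rw [hc, pow_mul, hzp, one_pow, mul_one]

/-- The elements of `W` with `x ^ q = 1`, when the power map is multiplicative on `W`. -/
def Sq (W : Subgroup G) (q : ℕ) (hmul : ∀ a ∈ W, ∀ b ∈ W, (a * b) ^ q = a ^ q * b ^ q) : Subgroup G where
  carrier := {x | x ∈ W ∧ x ^ q = 1}
  mul_mem' := by
    rintro a b ⟨ha, ha'⟩ ⟨hb, hb'⟩
    exact ⟨W.mul_mem ha hb, by rw [hmul a ha b hb, ha', hb', one_mul]⟩
  one_mem' := ⟨W.one_mem, one_pow q⟩
  inv_mem' := by
    rintro a ⟨ha, ha'⟩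
    exact ⟨W.inv_mem ha, by rw [inv_pow, ha', inv_one]⟩

theorem mem_Sq {W : Subgroup G} {q : ℕ} {hmul : ∀ a ∈ W, ∀ b ∈ W, (a * b) ^ q = a ^ q * b ^ q} {x : G} :
    x ∈ Sq W q hmul ↔ x ∈ W ∧ x ^ q = 1 := Iff.rfl

theorem Sq_char (W : Subgroup G) [hW : W.Characteristic] (q : ℕ)
    (hmul : ∀ a ∈ W, ∀ b ∈ W, (a * b) ^ q = a ^ q * b ^ q) : (Sq W q hmul).Characteristic := by
  rw [Subgroup.characteristic_iff_le_comap]
  rintro φ x ⟨hx, hx'⟩
  refine ⟨Subgroup.characteristic_iff_le_comap.1 hW φ hx, ?_⟩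
  show (φ.toMonoidHom x) ^ q = 1
  rw [← map_pow, hx', map_one]

end critical

end Cfsg.Agent.Lib.PHall
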