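import Mathlib
import Cfsg.Agent.Lib.NVTerm
import Cfsg.Agent.Lib.NVPerm
import Cfsg.Agent.Lib.NVIdem
import Cfsg.Agent.Lib.FpfNorm
import Cfsg.Agent.S3762

/-!
# No conjugate of a `p`-element fixes a suitable vector

`H` acts faithfully on a finite abelian group `V` of order prime to the odd prime `p`, `Y` is a
normal `p`-subgroup of `H` and `1 ≠ y ∈ Y`.  Then some `v ∈ V` is fixed by no `H`-conjugate of `y`.
-/

set_option autoImplicit false
set_option linter.unusedSectionVars false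
set_option linter.unusedVariables false
set_option linter.style.haveILetI false

namespace Cfsg.Agent.Lib.NVOrbit

open Cfsg.Agent.Lib.NVTerm Cfsg.Agent.Lib.NVPerm Cfsg.Agent.Lib.NVIdem
open scoped commutatorElement

universe u

section Basics

variable {V : Type u} [AddCommGroup V]

/-- The group of automorphisms, as the units of the endomorphism ring. -/
abbrev Gam (V : Type u) [AddCommGroup V] := (AddMonoid.End V)ˣ

theorem smul_def' (g : Gam V) (v : V) : g • v = (g : AddMonoid.End V) v := rfl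

theorem cj_apply (g : Gam V) (X : AddMonoid.End V) (v : V) : (cj g X) (g • v) = g • (X v) := by
  show (g : AddMonoid.End V) (X (((g⁻¹ : Gam V) : AddMonoid.End V) ((g : AddMonoid.End V) v))) = _
  have h : ((g⁻¹ : Gam V) : AddMonoid.End V) ((g : AddMonoid.End V) v) = v := by
    rw [← smul_def', ← smul_def', inv_smul_smul]
  rw [h]
  rfl

theorem cj_apply' (g : Gam V) (X : AddMonoid.End V) (v : V) : (cj g X) v = g • (X (g⁻¹ • v)) := by
  have := cj_apply g X (g⁻¹ • v)
  rwa [smul_inv_smul] at this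

theorem units_eq_one_of_fix {g : Gam V} (h : ∀ v : V, g • v = v) : g = 1 := by
  apply Units.ext
  apply AddMonoidHom.ext
  intro v
  exact h v

instance instFiniteEnd [Finite V] : Finite (AddMonoid.End V) :=
  Finite.of_injective (fun f : AddMonoid.End V => (f : V → V)) DFunLike.coe_injective

theorem end_sum_apply {ι : Type*} (s : Finset ι) (f : ι → AddMonoid.End V) (v : V) :
    (∑ i ∈ s, f i) v = ∑ i ∈ s, f i v := by
  classical
  induction s using Finset.induction_on with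
  | empty => simp
  | insert a s ha ih =>
    rw [Finset.sum_insert ha, Finset.sum_insert ha, ← ih]
    rfl

theorem nsmul_inj_of_coprime [Finite V] {n : ℕ} (hc : (Nat.card V).Coprime n) {x : V}
    (h : n • x = 0) : x = 0 := by
  have h1 : addOrderOf x ∣ n := addOrderOf_dvd_of_nsmul_eq_zero h
  have h2 : addOrderOf x ∣ Nat.card V := addOrderOf_dvd_natCard x
  have h3 := Nat.eq_one_of_dvd_coprimes hc h2 h1
  exact AddMonoid.addOrderOf_eq_one_iff.1 h3

end Basics

section Avg

variable {V : Type u} [AddCommGroup V] [Finite V]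

/-- There is an idempotent in the subring generated by `a` with image the fixed points of `a`. -/
theorem exists_avg {p : ℕ} (hc : (Nat.card V).Coprime p) (a : Gam V) (k : ℕ) (hak : a ^ (p ^ k) = 1)
    (R : Subring (AddMonoid.End V)) (haR : (a : AddMonoid.End V) ∈ R) :
    ∃ e ∈ R, e * e = e ∧ (∀ v : V, a • v = v → e v = v) ∧ (∀ v : V, a • (e v) = e v) := by
  have hc' : (p ^ k).Coprime (Nat.card V) := (Nat.Coprime.pow_right k hc).symm
  set n := p ^ k with hn
  have hbez : ((n.gcdA (Nat.card V)) * (n : ℤ) + (n.gcdB (Nat.card V)) * (Nat.card V : ℤ)) = 1 := by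
    have := Nat.gcd_eq_gcd_ab n (Nat.card V)
    rw [hc'] at this
    push_cast at this
    linarith
  set a' := n.gcdA (Nat.card V) with ha'
  set b' := n.gcdB (Nat.card V) with hb'
  have hinvn : ∀ x : V, a' • (n • x) = x := by
    intro x
    have h1 : (Nat.card V) • x = 0 := card_nsmul_eq_zero'
    have h2 : (1 : ℤ) • x = (a' * n + b' * Nat.card V) • x := by rw [hbez]
    rw [one_smul, add_smul, mul_smul, mul_smul, natCast_zsmul, natCast_zsmul, h1, smul_zero,
      add_zero] at h2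
    exact h2.symm
  let s : AddMonoid.End V := ∑ j ∈ Finset.range n, (a : AddMonoid.End V) ^ j
  have hsv : ∀ v : V, s v = nrm n a v := by
    intro v
    show (∑ j ∈ Finset.range n, (a : AddMonoid.End V) ^ j) v = ∑ j ∈ Finset.range n, a ^ j • v
    rw [end_sum_apply]
    refine Finset.sum_congr rfl fun j _ => ?_
    rw [smul_def', Units.val_pow_eq_pow_val]
  let e : AddMonoid.End V := a' • s
  have hev : ∀ v : V, e v = a' • nrm n a v := by
    intro v
    rw [← hsv]
    rfl
  have hfix : ∀ v : V, a • v = v → e v = v := by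
    intro v hv
    rw [hev, nrm_of_fix hv, hinvn]
  have hmem : ∀ v : V, a • (e v) = e v := by
    intro v
    rw [hev, smul_comm, smul_nrm _ _ (by rw [hak, one_smul])]
  refine ⟨e, ?_, ?_, hfix, hmem⟩
  · exact R.zsmul_mem (R.sum_mem fun j _ => R.pow_mem haR j) a'
  · apply AddMonoidHom.ext
    intro v
    exact hfix _ (hmem v)

end Avg

section Res

variable {V : Type u} [AddCommGroup V]

/-- Restriction of an automorphism to an invariant subgroup. -/
def resUnit (W : AddSubgroup V) (g : Gam V) (hg : ∀ x ∈ W, g • x ∈ W) (hg' : ∀ x ∈ W, g⁻¹ • x ∈ W) :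
    (AddMonoid.End W)ˣ where
  val :=
    { toFun := fun x => ⟨g • (x : V), hg _ x.2⟩
      map_zero' := by ext; simp
      map_add' := by intro x y; ext; simp [smul_add] }
  inv :=
    { toFun := fun x => ⟨g⁻¹ • (x : V), hg' _ x.2⟩
      map_zero' := by ext; simp
      map_add' := by intro x y; ext; simp [smul_add] }
  val_inv := by
    apply AddMonoidHom.ext
    intro x
    apply Subtype.ext
    show g • (g⁻¹ • (x : V)) = x
    simp
  inv_val := by
    apply AddMonoidHom.ext
    intro x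
    apply Subtype.ext
    show g⁻¹ • (g • (x : V)) = x
    simp

theorem resUnit_smul (W : AddSubgroup V) (g : Gam V) (hg : ∀ x ∈ W, g • x ∈ W)
    (hg' : ∀ x ∈ W, g⁻¹ • x ∈ W) (x : W) : ((resUnit W g hg hg' • x : W) : V) = g • (x : V) := rfl

/-- Restriction as a homomorphism. -/
noncomputable def resHom (W : AddSubgroup V) (K : Subgroup (Gam V)) (hK : ∀ g ∈ K, ∀ x ∈ W, g • x ∈ W) :
    K →* (AddMonoid.End W)ˣ :=
  MonoidHom.mk' (fun g => resUnit W (g : Gam V) (hK g g.2) (hK _ (K.inv_mem g.2))) (by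
    intro a b
    apply Units.ext
    apply AddMonoidHom.ext
    intro x
    apply Subtype.ext
    show ((a * b : K) : Gam V) • (x : V) = (a : Gam V) • ((b : Gam V) • (x : V))
    rw [Subgroup.coe_mul, mul_smul])

theorem resHom_smul (W : AddSubgroup V) (K : Subgroup (Gam V)) (hK : ∀ g ∈ K, ∀ x ∈ W, g • x ∈ W)
    (g : K) (x : W) : ((resHom W K hK g • x : W) : V) = (g : Gam V) • (x : V) := rfl

end Res

section Step

variable {p : ℕ} [hp : Fact p.Prime] {V : Type u} [AddCommGroup V] [Finite V]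

/-- The decomposition step. -/
theorem step (hodd : p ≠ 2) (hc : (Nat.card V).Coprime p)
    (hIH : ∀ (V' : Type u) [AddCommGroup V'] [Finite V'], Nat.card V' < Nat.card V →
      (Nat.card V').Coprime p → ∀ H' Y' : Subgroup (Gam V'), Y' ≤ H' →
      (∀ g ∈ H', ∀ a ∈ Y', g * a * g⁻¹ ∈ Y') → (∀ u ∈ Y', ∃ k : ℕ, u ^ (p ^ k) = 1) →
      ∀ y ∈ Y', y ≠ 1 → ∃ v : V', ∀ g ∈ H', (g * y * g⁻¹) • v ≠ v)
    (R : Subring (AddMonoid.End V)) (hR : ∀ x ∈ R, ∀ y ∈ R, x * y = y * x)
    (H Y : Subgroup (Gam V)) (hYH : Y ≤ H) (hYn : ∀ g ∈ H, ∀ a ∈ Y, g * a * g⁻¹ ∈ Y)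
    (hYp : ∀ u ∈ Y, ∃ k : ℕ, u ^ (p ^ k) = 1)
    (hRH : ∀ g ∈ H, ∀ x ∈ R, cj g x ∈ R)
    (hne1 : ∀ e, IsMinIdem R e → e ≠ 1)
    (y : Gam V) (hy : y ∈ Y) (hy1 : y ≠ 1) :
    ∃ v : V, ∀ g ∈ H, (g * y * g⁻¹) • v ≠ v := by
  classical
  have hpp : p.Prime := hp.out
  -- action on minimal idempotents
  let X := {e : AddMonoid.End V // IsMinIdem R e}
  have hcjX : ∀ g ∈ H, ∀ e, IsMinIdem R e → IsMinIdem R (cj g e) := fun g hg e he =>
    IsMinIdem_cj (hRH g hg) (hRH _ (H.inv_mem hg)) he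
  have hsum := sum_minIdems hR
  have hsumv : ∀ v : V, ∑ e ∈ minIdems R, e v = v := by
    intro v
    rw [← end_sum_apply, hsum]
    rfl
  have horth : ∀ e e' : AddMonoid.End V, IsMinIdem R e → IsMinIdem R e' → e ≠ e' → ∀ v, e (e' v) = 0 := by
    intro e e' he he' hne v
    have := minIdem_orth hR he he' hne
    exact congrArg (fun f : AddMonoid.End V => f v) this
  have hidem : ∀ e : AddMonoid.End V, IsMinIdem R e → ∀ v, e (e v) = e v := by
    intro e he v
    exact congrArg (fun f : AddMonoid.End V => f v) he.idem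
  by_cases hcase : ∃ e, IsMinIdem R e ∧ cj y e ≠ e
  · -- `y` moves some idempotent
    obtain ⟨e₀, he₀, hye₀⟩ := hcase
    letI : MulAction Y X :=
      { smul := fun u e => ⟨cj (u : Gam V) e.1, hcjX _ (hYH u.2) _ e.2⟩
        one_smul := by
          intro e
          apply Subtype.ext
          exact cj_one _
        mul_smul := by
          intro a b e
          apply Subtype.ext
          exact cj_mul _ _ _ }
    have hsmulX : ∀ (u : Y) (e : X), (u • e).1 = cj (u : Gam V) e.1 := fun _ _ => rfl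
    have hYpg : IsPGroup p Y := by
      intro u
      obtain ⟨k, hk⟩ := hYp u u.2
      exact ⟨k, Subtype.ext (by simpa using hk)⟩
    haveI : Finite X := Subtype.finite
    obtain ⟨S, -, hS⟩ := exists_set_stab hodd _ Y X Set.univ hYpg (fun _ _ _ => Set.mem_univ _) le_rfl
    have hwit : ∀ e : X, ∃ w : V, e.1 w ≠ 0 := by
      intro e
      by_contra hcon
      push Not at hcon
      exact e.2.ne (AddMonoidHom.ext hcon)
    choose w hw using hwit
    refine ⟨∑ x ∈ S.toFinite.toFinset, x.1 (w x), ?_⟩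
    intro g hg hfix
    set v := ∑ x ∈ S.toFinite.toFinset, x.1 (w x) with hv
    have hproj : ∀ e : X, e ∈ S → e.1 v = e.1 (w e) := by
      intro e he
      rw [hv, map_sum, Finset.sum_eq_single_of_mem e (by simpa using he)]
      · exact hidem _ e.2 _
      · intro x _ hne
        exact horth _ _ e.2 x.2 (fun h => hne (Subtype.ext h).symm) _
    have hproj0 : ∀ e : X, e ∉ S → e.1 v = 0 := by
      intro e he
      rw [hv, map_sum]
      refine Finset.sum_eq_zero fun x hx => ?_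
      have hxS : x ∈ S := by simpa using hx
      exact horth _ _ e.2 x.2 (fun h => he ((Subtype.ext h : e = x) ▸ hxS)) _
    have huY : g * y * g⁻¹ ∈ Y := hYn g hg y hy
    let u : Y := ⟨g * y * g⁻¹, huY⟩
    have hstab : ∀ x ∈ S, u • x ∈ S := by
      intro x hx
      by_contra hn
      have h1 := hproj0 _ hn
      rw [hsmulX] at h1
      have h2 : cj (u : Gam V) x.1 ((u : Gam V) • v) = (u : Gam V) • (x.1 v) := cj_apply _ _ _
      have h3 : (u : Gam V) • v = v := hfix
      rw [h3, h1, hproj x hx] at h2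
      have h4 := (smul_eq_zero_iff_eq (u : Gam V)).1 h2.symm
      exact hw x h4
    have htriv := hS u hstab
    apply hye₀
    have h5 := htriv ⟨cj g e₀, hcjX g hg _ he₀⟩ (Set.mem_univ _)
    have h6 : cj (g * y * g⁻¹) (cj g e₀) = cj g e₀ := congrArg Subtype.val h5
    rw [← cj_mul, show g * y * g⁻¹ * g = g * y by group, cj_mul] at h6
    have h7 := congrArg (cj g⁻¹) h6
    rwa [cj_inv_cj, cj_inv_cj] at h7
  · -- `y` fixes all idempotents
    push Not at hcase
    obtain ⟨e₁, he₁, hne⟩ : ∃ e₁, IsMinIdem R e₁ ∧ ∃ w, y • (e₁ w) ≠ e₁ w := by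
      by_contra hcon
      push Not at hcon
      apply hy1
      apply units_eq_one_of_fix
      intro v
      rw [← hsumv v, Finset.smul_sum]
      exact Finset.sum_congr rfl fun e he => hcon e (mem_minIdems.1 he) v
    obtain ⟨w₁, hw₁⟩ := hne
    let W₁ : AddSubgroup V := (e₁ : V →+ V).range
    have hW₁ : ∀ x, x ∈ W₁ ↔ e₁ x = x := by
      intro x
      constructor
      · rintro ⟨z, rfl⟩
        exact hidem _ he₁ z
      · intro h
        exact ⟨x, h⟩
    let K : Subgroup (Gam V) :=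
      { carrier := {g | g ∈ H ∧ cj g e₁ = e₁}
        mul_mem' := by
          rintro a b ⟨ha, ha'⟩ ⟨hb, hb'⟩
          exact ⟨H.mul_mem ha hb, by rw [cj_mul, hb', ha']⟩
        one_mem' := ⟨H.one_mem, cj_one _⟩
        inv_mem' := by
          rintro a ⟨ha, ha'⟩
          refine ⟨H.inv_mem ha, ?_⟩
          have := cj_inv_cj a e₁
          rwa [ha'] at this }
    have hKinv : ∀ g ∈ K, ∀ x ∈ W₁, g • x ∈ W₁ := by
      rintro g ⟨hg, hg'⟩ x hx
      rw [hW₁] at hx ⊢
      have := cj_apply g e₁ x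
      rwa [hg', hx] at this
    have hyK : y ∈ K := ⟨hYH hy, hcase e₁ he₁⟩
    have hcardlt : Nat.card W₁ < Nat.card V := by
      have h1 : ∃ x, x ∉ W₁ := by
        by_contra hcon
        push Not at hcon
        apply hne1 e₁ he₁
        apply AddMonoidHom.ext
        intro x
        exact (hW₁ x).1 (hcon x)
      obtain ⟨x, hx⟩ := h1
      have h2 := card_lt_of_lt (A := W₁) (B := ⊤) le_top (AddSubgroup.mem_top x) hx
      rwa [AddSubgroup.card_top] at h2
    have hcop' : (Nat.card W₁).Coprime p :=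
      Nat.Coprime.coprime_dvd_left (AddSubgroup.card_addSubgroup_dvd_card W₁) hc
    let res := resHom W₁ K hKinv
    have hres : ∀ (g : K) (x : W₁), ((res g • x : W₁) : V) = (g : Gam V) • (x : V) := fun _ _ => rfl
    let H' : Subgroup (Gam W₁) := res.range
    let Y' : Subgroup (Gam W₁) := (Y.subgroupOf K).map res
    have hY'H' : Y' ≤ H' := Subgroup.map_le_range _ _
    have hY'n : ∀ g ∈ H', ∀ a ∈ Y', g * a * g⁻¹ ∈ Y' := by
      rintro _ ⟨g, rfl⟩ _ ⟨a, ha, rfl⟩
      refine ⟨g * a * g⁻¹, ?_, by simp⟩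
      exact hYn _ g.2.1 _ ha
    have hY'p : ∀ u ∈ Y', ∃ k : ℕ, u ^ (p ^ k) = 1 := by
      rintro _ ⟨a, ha, rfl⟩
      obtain ⟨k, hk⟩ := hYp _ ha
      refine ⟨k, ?_⟩
      rw [← map_pow]
      have : a ^ (p ^ k) = 1 := Subtype.ext (by simpa using hk)
      rw [this, map_one]
    let yK : K := ⟨y, hyK⟩
    have hy'mem : res yK ∈ Y' := ⟨yK, hy, rfl⟩
    have hy'1 : res yK ≠ 1 := by
      intro h
      apply hw₁
      have h1 := hres yK ⟨e₁ w₁, ⟨w₁, rfl⟩⟩
      rw [h, one_smul] at h1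
      exact h1.symm
    obtain ⟨v₁, hv₁⟩ := hIH W₁ hcardlt hcop' H' Y' hY'H' hY'n hY'p _ hy'mem hy'1
    -- spreading `v₁`
    have hv₁e : e₁ (v₁ : V) = v₁ := (hW₁ _).1 v₁.2
    let P : X → Prop := fun x => ∃ g ∈ H, cj g e₁ = x.1
    haveI : Finite X := Subtype.finite
    letI : Fintype X := Fintype.ofFinite X
    have hpick : ∀ x : X, ∃ c : Gam V, P x → c ∈ H ∧ cj c e₁ = x.1 := by
      intro x
      by_cases h : P x
      · obtain ⟨g, hg, hg'⟩ := h
        exact ⟨g, fun _ => ⟨hg, hg'⟩⟩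
      · exact ⟨1, fun h' => absurd h' h⟩
    choose c hcx using hpick
    let val : X → V := fun x => if P x then c x • (v₁ : V) else 0
    have hval : ∀ x : X, x.1 (val x) = val x := by
      intro x
      by_cases h : P x
      · simp only [val, if_pos h]
        have h1 := cj_apply (c x) e₁ (v₁ : V)
        rw [(hcx x h).2, hv₁e] at h1
        exact h1
      · simp only [val, if_neg h, map_zero]
    refine ⟨∑ x : X, val x, ?_⟩
    intro g hg hfix
    set v := ∑ x : X, val x with hv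
    have hproj : ∀ x : X, x.1 v = val x := by
      intro x
      rw [hv, map_sum, Finset.sum_eq_single_of_mem x (Finset.mem_univ _)]
      · exact hval x
      · intro x' _ hne
        rw [← hval x']
        exact horth _ _ x.2 x'.2 (fun h => hne (Subtype.ext h).symm) _
    -- `u` commutes with all idempotents
    have hucomm : ∀ e, IsMinIdem R e → cj (g * y * g⁻¹) e = e := by
      intro e he
      rw [cj_mul, cj_mul, hcase _ (hcjX _ (H.inv_mem hg) e he), cj_cj_inv]
    let x₀ : X := ⟨cj g e₁, hcjX g hg _ he₁⟩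
    have hPx₀ : P x₀ := ⟨g, hg, rfl⟩
    obtain ⟨hcH, hcc⟩ := hcx x₀ hPx₀
    have hvalx₀ : val x₀ = c x₀ • (v₁ : V) := by simp only [val, if_pos hPx₀]
    have hfixc : (g * y * g⁻¹) • (c x₀ • (v₁ : V)) = c x₀ • (v₁ : V) := by
      have h1 := cj_apply (g * y * g⁻¹) x₀.1 v
      rw [hucomm _ x₀.2, hfix, hproj, hvalx₀] at h1
      exact h1.symm
    have hhK : (c x₀)⁻¹ * g ∈ K := by
      refine ⟨H.mul_mem (H.inv_mem hcH) hg, ?_⟩
      rw [cj_mul]
      have h1 : cj g e₁ = cj (c x₀) e₁ := hcc.symm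
      rw [h1, cj_inv_cj]
    let h₀ : K := ⟨(c x₀)⁻¹ * g, hhK⟩
    apply hv₁ (res h₀) ⟨h₀, rfl⟩
    apply Subtype.ext
    have h2 : res h₀ * res yK * (res h₀)⁻¹ = res (h₀ * yK * h₀⁻¹) := by simp
    rw [h2, hres]
    show ((c x₀)⁻¹ * g * y * ((c x₀)⁻¹ * g)⁻¹) • (v₁ : V) = v₁
    have h3 : (c x₀)⁻¹ * g * y * ((c x₀)⁻¹ * g)⁻¹ = (c x₀)⁻¹ * (g * y * g⁻¹) * c x₀ := by group
    rw [h3, mul_smul, mul_smul, hfixc, inv_smul_smul]

end Step

section Terminal

variable {p : ℕ} [hp : Fact p.Prime]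

/-- Central products of an extraspecial group with a cyclic group. -/
theorem exists_central_commutator {Q : Type*} [Group Q] [Finite Q] (hQ : IsPGroup p Q) [Nontrivial Q]
    (E R : Subgroup Q) (hc : ∀ e ∈ E, ∀ r ∈ R, e * r = r * e) (hs : E ⊔ R = ⊤)
    (hE : E = ⊥ ∨ Cfsg.IsExtraspecial p E) (hR : IsCyclic R) :
    ∃ z : Q, orderOf z = p ∧ (∀ g : Q, g * z = z * g) ∧
      ∀ a b : Q, ∃ k : ℤ, a * b * a⁻¹ * b⁻¹ = z ^ k := by
  classical
  have hpp : p.Prime := hp.out
  have hRcomm : ∀ r ∈ R, ∀ r' ∈ R, r * r' = r' * r := by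
    intro r hr r' hr'
    letI : CommGroup R := IsCyclic.commGroup
    have := mul_comm (⟨r, hr⟩ : R) ⟨r', hr'⟩
    exact congrArg Subtype.val this
  have hdec : ∀ a : Q, ∃ e ∈ E, ∃ r ∈ R, a = e * r := by
    intro a
    have ha : a ∈ E ⊔ R := by rw [hs]; trivial
    rw [Subgroup.sup_eq_closure] at ha
    induction ha using Subgroup.closure_induction with
    | mem x hx =>
      rcases hx with hx | hx
      · exact ⟨x, hx, 1, R.one_mem, by simp⟩
      · exact ⟨1, E.one_mem, x, hx, by simp⟩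
    | one => exact ⟨1, E.one_mem, 1, R.one_mem, by simp⟩
    | mul x y _ _ hx hy =>
      obtain ⟨e, he, r, hr, rfl⟩ := hx
      obtain ⟨e', he', r', hr', rfl⟩ := hy
      refine ⟨e * e', E.mul_mem he he', r * r', R.mul_mem hr hr', ?_⟩
      calc e * r * (e' * r') = e * (r * e') * r' := by group
        _ = e * (e' * r) * r' := by rw [hc e' he' r hr]
        _ = e * e' * (r * r') := by group
    | inv x _ hx =>
      obtain ⟨e, he, r, hr, rfl⟩ := hx
      refine ⟨e⁻¹, E.inv_mem he, r⁻¹, R.inv_mem hr, ?_⟩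
      rw [mul_inv_rev]
      exact (hc _ (E.inv_mem he) _ (R.inv_mem hr)).symm
  have hcomm : ∀ e ∈ E, ∀ e' ∈ E, ∀ r ∈ R, ∀ r' ∈ R,
      (e * r) * (e' * r') * (e * r)⁻¹ * (e' * r')⁻¹ = e * e' * e⁻¹ * e'⁻¹ := by
    intro e he e' he' r hr r' hr'
    have h1 : r * e' = e' * r := (hc e' he' r hr).symm
    have h2 : r * e⁻¹ = e⁻¹ * r := (hc _ (E.inv_mem he) r hr).symm
    have h3 : r * e'⁻¹ = e'⁻¹ * r := (hc _ (E.inv_mem he') r hr).symm
    have h4 : r' * e⁻¹ = e⁻¹ * r' := (hc _ (E.inv_mem he) r' hr').symm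
    have h5 : r' * e'⁻¹ = e'⁻¹ * r' := (hc _ (E.inv_mem he') r' hr').symm
    have h6 : r * r' = r' * r := hRcomm r hr r' hr'
    calc (e * r) * (e' * r') * (e * r)⁻¹ * (e' * r')⁻¹
        = e * (r * e') * r' * (r⁻¹ * e⁻¹) * (r'⁻¹ * e'⁻¹) := by group
      _ = e * e' * (r * r') * r⁻¹ * (e⁻¹ * r'⁻¹) * e'⁻¹ := by rw [h1]; group
      _ = e * e' * (r' * r) * r⁻¹ * (e⁻¹ * r'⁻¹) * e'⁻¹ := by rw [h6]
      _ = e * e' * r' * (e⁻¹ * r'⁻¹) * e'⁻¹ := by group
      _ = e * e' * (r' * e⁻¹) * r'⁻¹ * e'⁻¹ := by group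
      _ = e * e' * e⁻¹ * e'⁻¹ := by rw [h4]; group
  rcases hE with hE | hE
  · have hall : ∀ a : Q, a ∈ R := by
      intro a
      obtain ⟨e, he, r, hr, rfl⟩ := hdec a
      rw [hE, Subgroup.mem_bot] at he
      rw [he, one_mul]
      exact hr
    have hdvd : p ∣ Nat.card Q := by
      obtain ⟨n, hn⟩ := IsPGroup.iff_card.1 hQ
      have h1 : 1 < Nat.card Q := Finite.one_lt_card
      rw [hn] at h1 ⊢
      have : n ≠ 0 := by
        rintro rfl
        simp at h1
      exact dvd_pow_self p this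
    obtain ⟨z, hz⟩ := exists_prime_orderOf_dvd_card' p hdvd
    refine ⟨z, hz, fun g => hRcomm g (hall g) z (hall z), fun a b => ⟨0, ?_⟩⟩
    rw [hRcomm a (hall a) b (hall b)]
    group
  · obtain ⟨⟨-, -, hcomE⟩, hcard⟩ := hE
    haveI : Fact (Nat.card (Subgroup.center E)).Prime := ⟨by rw [hcard]; exact hpp⟩
    obtain ⟨z₀, hz₀⟩ := isCyclic_of_prime_card (α := Subgroup.center E) rfl |>.exists_generator
    have hoz : orderOf z₀ = p := by
      rw [orderOf_eq_card_of_forall_mem_zpowers hz₀, hcard]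
    refine ⟨((z₀ : E) : Q), ?_, ?_, ?_⟩
    · rw [← hoz]
      rw [Subgroup.orderOf_coe, Subgroup.orderOf_coe]
    · intro g
      obtain ⟨e, he, r, hr, rfl⟩ := hdec g
      have h1 : e * ((z₀ : E) : Q) = ((z₀ : E) : Q) * e := by
        have h2 := (Subgroup.mem_center_iff.1 z₀.2) ⟨e, he⟩
        exact (congrArg Subtype.val h2)
      have h3 : r * ((z₀ : E) : Q) = ((z₀ : E) : Q) * r := (hc _ (z₀ : E).2 r hr).symm
      calc e * r * ((z₀ : E) : Q) = e * (r * ((z₀ : E) : Q)) := by group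
        _ = (e * ((z₀ : E) : Q)) * r := by rw [h3]; group
        _ = ((z₀ : E) : Q) * (e * r) := by rw [h1]; group
    · intro a b
      obtain ⟨e, he, r, hr, rfl⟩ := hdec a
      obtain ⟨e', he', r', hr', rfl⟩ := hdec b
      rw [hcomm e he e' he' r hr r' hr']
      have hmem : ⁅(⟨e, he⟩ : E), (⟨e', he'⟩ : E)⁆ ∈ commutator E := by
        rw [commutator_def]
        exact Subgroup.commutator_mem_commutator (Subgroup.mem_top _) (Subgroup.mem_top _)
      rw [hcomE] at hmem
      have h1 := hz₀ ⟨_, hmem⟩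
      obtain ⟨k, hk⟩ := Subgroup.mem_zpowers_iff.1 h1
      refine ⟨k, ?_⟩
      have h2 := congrArg (fun x : Subgroup.center E => ((x : E) : Q)) hk
      simp only [Subgroup.coe_zpow, commutatorElement_def, Subgroup.coe_mul, Subgroup.coe_inv,
        Subgroup.coe_mk] at h2
      exact h2.symm

variable {V : Type u} [AddCommGroup V] [Finite V]

/-- The action on `Multiplicative V`. -/
noncomputable def toMul (V : Type u) [AddCommGroup V] : Gam V →* MulAut (Multiplicative V) :=
  MonoidHom.mk' (fun g => AddEquiv.toMultiplicative (DistribMulAction.toAddEquiv V g)) (by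
    intro a b
    ext x
    simp [mul_smul])

theorem toMul_apply (g : Gam V) (x : Multiplicative V) :
    toMul V g x = Multiplicative.ofAdd (g • x.toAdd) := rfl

/-- The terminal case. -/
theorem terminal (hodd : p ≠ 2) (hc : (Nat.card V).Coprime p) (H Y : Subgroup (Gam V)) (hYH : Y ≤ H)
    (hYn : ∀ g ∈ H, ∀ a ∈ Y, g * a * g⁻¹ ∈ Y) (hYp : ∀ u ∈ Y, ∃ k : ℕ, u ^ (p ^ k) = 1)
    (y : Gam V) (hy : y ∈ Y) (hy1 : y ≠ 1)
    (hfpf : ∀ A : Subgroup (Gam V), A ≤ Y → (∀ g ∈ H, ∀ a ∈ A, g * a * g⁻¹ ∈ A) →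
      (∀ a ∈ A, ∀ b ∈ A, a * b = b * a) → ∀ a ∈ A, a ≠ 1 → ∀ v : V, a • v = v → v = 0) :
    ∃ v : V, ∀ g ∈ H, (g * y * g⁻¹) • v ≠ v := by
  classical
  have hpp : p.Prime := hp.out
  haveI : Nontrivial V := by
    by_contra hn
    rw [not_nontrivial_iff_subsingleton] at hn
    exact hy1 (units_eq_one_of_fix fun v => Subsingleton.elim _ _)
  have hQp : IsPGroup p Y := by
    intro u
    obtain ⟨k, hk⟩ := hYp u u.2
    exact ⟨k, Subtype.ext (by simpa using hk)⟩
  haveI : Nontrivial Y := ⟨⟨⟨y, hy⟩, 1, fun h => hy1 (congrArg Subtype.val h)⟩⟩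
  -- conjugation automorphisms of `Y`
  let φ : ∀ g ∈ H, Y ≃* Y := fun g hg =>
    { toFun := fun u => ⟨g * u * g⁻¹, hYn g hg u u.2⟩
      invFun := fun u => ⟨g⁻¹ * u * g, by
        have := hYn g⁻¹ (H.inv_mem hg) u u.2
        simpa using this⟩
      left_inv := by intro u; apply Subtype.ext; simp [mul_assoc]
      right_inv := by intro u; apply Subtype.ext; simp [mul_assoc]
      map_mul' := by intro a b; apply Subtype.ext; simp [mul_assoc] }
  have hcharmap : ∀ A' : Subgroup Y, A'.Characteristic → ∀ g ∈ H, ∀ a ∈ A'.map Y.subtype,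
      g * a * g⁻¹ ∈ A'.map Y.subtype := by
    rintro A' hA' g hg _ ⟨a, ha, rfl⟩
    have h1 := hA'.fixed (φ g hg)
    have h2 : φ g hg a ∈ A' := by
      have h3 : a ∈ A'.comap (φ g hg).toMonoidHom := by rw [h1]; exact ha
      exact h3
    exact ⟨_, h2, rfl⟩
  have hchar : ∀ A' : Subgroup Y, A'.Characteristic → IsMulCommutative A' → ∀ a ∈ A'.map Y.subtype,
      a ≠ 1 → ∀ v : V, a • v = v → v = 0 := by
    intro A' hA' hcom
    refine hfpf _ ?_ (hcharmap A' hA') ?_
    · rintro _ ⟨a, _, rfl⟩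
      exact a.2
    · rintro _ ⟨a, ha, rfl⟩ _ ⟨b, hb, rfl⟩
      have := hcom.is_comm.comm (⟨a, ha⟩ : A') ⟨b, hb⟩
      exact congrArg (fun x : A' => ((x : Y) : Gam V)) this
  have hsymp : ∀ A : Subgroup Y, A.Characteristic → IsMulCommutative A → IsCyclic A := by
    intro A' hA' hcom
    let f : A' →* MulAut (Multiplicative V) := (toMul V).comp (Y.subtype.comp A'.subtype)
    have hf : Cfsg.Agent.Lib.FpfNorm.IsFpf f := by
      intro a ha v hv
      have ha' : ((a : Y) : Gam V) ≠ 1 := fun h => ha (Subtype.ext (Subtype.ext h))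
      have h1 := hchar A' hA' hcom ((a : Y) : Gam V) ⟨a, a.2, rfl⟩ ha' v.toAdd (by
        have := congrArg Multiplicative.toAdd hv
        exact this)
      exact congrArg Multiplicative.ofAdd h1
    refine Cfsg.Agent.Lib.FpfNorm.isCyclic_of_comm hf ?_
    intro a b
    exact hcom.is_comm.comm a b
  obtain ⟨E, R, h1, h2, h3, h4⟩ := Cfsg.Agent.S3762.result hQp hsymp
  have hR : IsCyclic R := by
    rcases h4 with h4 | h4
    · exact h4
    · exact absurd h4.1 hodd
  obtain ⟨z, hzo, hzc, hzk⟩ := exists_central_commutator hQp E R h1 h2 h3 hR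
  have hzcen : z ∈ Subgroup.center Y := by
    rw [Subgroup.mem_center_iff]
    exact hzc
  have hinj : ∀ x : V, p • x = 0 → x = 0 := fun x hx => nsmul_inj_of_coprime hc hx
  have hzp : ((z : Gam V)) ^ p = 1 := by
    have := pow_orderOf_eq_one z
    rw [hzo] at this
    simpa using congrArg Subtype.val this
  have hcenchar : (Subgroup.center Y).Characteristic := inferInstance
  have hcencomm : IsMulCommutative (Subgroup.center Y) := inferInstance
  have hz0 : ∀ k : ℤ, ¬ (p : ℤ) ∣ k → ∀ w ∈ (⊤ : AddSubgroup V), ((z : Gam V)) ^ k • w = w → w = 0 := by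
    intro k hk w _ hw
    refine hchar _ hcenchar hcencomm ((z : Gam V) ^ k) ?_ ?_ w hw
    · exact ⟨z ^ k, Subgroup.zpow_mem _ hzcen k, by simp⟩
    · intro h
      apply hk
      have h5 : z ^ k = 1 := Subtype.ext (by simpa using h)
      rw [← hzo]
      exact orderOf_dvd_iff_zpow_eq_one.2 h5
  obtain ⟨v, -, -, hv⟩ := reg_orbit hodd hinj (z : Gam V) hzp _ (⊤ : AddSubgroup V) le_rfl Y z.2
    (fun t ht => (congrArg Subtype.val (hzc ⟨t, ht⟩))) (fun a ha b hb => by
      obtain ⟨k, hk⟩ := hzk ⟨a, ha⟩ ⟨b, hb⟩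
      refine ⟨k, ?_⟩
      have := congrArg Subtype.val hk
      simpa using this) hYp (fun _ _ _ _ => AddSubgroup.mem_top _) hz0
  refine ⟨v, fun g hg hfix => hy1 ?_⟩
  have h5 := hv _ (hYn g hg y hy) hfix
  have h6 : g * y * g⁻¹ = 1 := units_eq_one_of_fix fun w => h5 w (AddSubgroup.mem_top w)
  have h7 : y = g⁻¹ * (g * y * g⁻¹) * g := by group
  rw [h7, h6]
  group

end Terminal

section Main

variable {p : ℕ} [hp : Fact p.Prime]

/-- **Main theorem on vectors.** -/
theorem exists_vec_no_conj_fix (hodd : p ≠ 2) : ∀ (n : ℕ) (V : Type u) [AddCommGroup V] [Finite V],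
    Nat.card V ≤ n → (Nat.card V).Coprime p → ∀ H Y : Subgroup (Gam V), Y ≤ H →
      (∀ g ∈ H, ∀ a ∈ Y, g * a * g⁻¹ ∈ Y) → (∀ u ∈ Y, ∃ k : ℕ, u ^ (p ^ k) = 1) →
      ∀ y ∈ Y, y ≠ 1 → ∃ v : V, ∀ g ∈ H, (g * y * g⁻¹) • v ≠ v := by
  classical
  intro n
  induction n with
  | zero =>
    intro V _ _ hn
    have : 0 < Nat.card V := Nat.card_pos
    omega
  | succ n ih =>
    intro V _ _ hn hc H Y hYH hYn hYp y hy hy1
    by_cases hnt : ∃ A : Subgroup (Gam V), A ≤ Y ∧ (∀ g ∈ H, ∀ a ∈ A, g * a * g⁻¹ ∈ A) ∧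
        (∀ a ∈ A, ∀ b ∈ A, a * b = b * a) ∧ ∃ a ∈ A, a ≠ 1 ∧ ∃ v : V, v ≠ 0 ∧ a • v = v
    · obtain ⟨A, hAY, hAn, hAc, a, haA, ha1, v, hv0, hav⟩ := hnt
      let R : Subring (AddMonoid.End V) := Subring.closure ((fun a : Gam V => (a : AddMonoid.End V)) '' A)
      have hR : ∀ x ∈ R, ∀ y ∈ R, x * y = y * x := closure_comm hAc
      have hRH : ∀ g ∈ H, ∀ x ∈ R, cj g x ∈ R := fun g hg x hx => cj_closure (hAn g hg) hx
      have hne1 : ∀ e, IsMinIdem R e → e ≠ 1 := by
        intro e he h1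
        rw [h1] at he
        obtain ⟨k, hk⟩ := hYp a (hAY haA)
        obtain ⟨e', he'R, he'i, he'f, he'm⟩ := exists_avg hc a k hk R
          (Subring.subset_closure ⟨a, haA, rfl⟩)
        rcases he.min e' he'R he'i (mul_one e') with h2 | h2
        · apply hv0
          have := he'f v hav
          rw [h2] at this
          exact this.symm
        · apply ha1
          apply units_eq_one_of_fix
          intro w
          have := he'm w
          rw [h2] at this
          exact this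
      refine step hodd hc ?_ R hR H Y hYH hYn hYp hRH hne1 y hy hy1
      intro V' _ _ hlt hc' H' Y' h1 h2 h3 y' hy' hy'1
      exact ih V' (by omega) hc' H' Y' h1 h2 h3 y' hy' hy'1
    · push Not at hnt
      refine terminal hodd hc H Y hYH hYn hYp y hy hy1 ?_
      intro A hAY hAn hAc a haA ha1 v hav
      by_contra hv0
      exact hnt A hAY hAn hAc a haA ha1 v hv0 hav

end Main

end Cfsg.Agent.Lib.NVOrbit
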