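import Mathlib
import Cfsg.Prelude.Def_Characters
import Cfsg.Prelude.Def_Solvable
import Cfsg.Agent.Lib.NVOrbit
import Cfsg.Agent.Lib.Clifford
import Cfsg.Agent.Lib.CharCoprime
import Cfsg.Agent.Lib.PCore

/-!
# Zeros of characters on elements whose odd prime part is outside `O_p`

If `G` is solvable, `p` is odd and a `p`-power-order power `y` of `x` is not in `O_p(G)`, then some
irreducible character of `G` vanishes at `x` (a form of the Isaacs–Navarro–Wolf theorem).
-/

set_option autoImplicit false
set_option linter.unusedSectionVars false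
set_option linter.unusedVariables false
set_option linter.style.haveILetI false

namespace Cfsg.Agent.Lib.NVChar

open Cfsg Cfsg.Agent.Lib.NVOrbit Cfsg.Agent.Lib.PCore Cfsg.Agent.Lib.CharBasic
open Cfsg.Agent.Lib.CharInd Cfsg.Agent.Lib.Clifford
open scoped commutatorElement

universe u

section Vanish

variable {G : Type u} [Group G] [Finite G]

/-- Characters over a linear character vanish where no conjugate fixes it. -/
theorem exists_irr_zero_of_no_fix (N : Subgroup G) [hN : N.Normal] (hcomm : ∀ a ∈ N, ∀ b ∈ N, a * b = b * a)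
    (l : N →* ℂˣ) {x y : G} (hy : y ∈ Subgroup.zpowers x)
    (h : ∀ a : G, ∃ n : N, l ⟨(a⁻¹ * y * a) * n * (a⁻¹ * y * a)⁻¹, hN.conj_mem _ n.2 _⟩ ≠ l n) :
    ∃ χ : IrrCharacter G, (χ : G → ℂ) x = 0 := by
  classical
  letI := Fintype.ofFinite G
  letI : Fintype N := Fintype.ofFinite N
  let θ : N → ℂ := fun n => ((l n : ℂˣ) : ℂ)
  have hθ : IsIrrCharacter N θ := isIrrCharacter_of_hom l
  let T : Subgroup G :=
    { carrier := {g | ∀ n : N, l ⟨g * n * g⁻¹, hN.conj_mem _ n.2 _⟩ = l n}
      mul_mem' := by
        intro a b ha hb n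
        have h1 := ha ⟨b * n * b⁻¹, hN.conj_mem _ n.2 _⟩
        have h2 := hb n
        rw [← h2, ← h1]
        congr 1
        apply Subtype.ext
        simp [mul_assoc]
      one_mem' := by
        intro n
        congr 1
        apply Subtype.ext
        simp
      inv_mem' := by
        intro a ha n
        have h1 := ha ⟨a⁻¹ * n * a⁻¹⁻¹, hN.conj_mem _ n.2 _⟩
        rw [← h1]
        congr 1
        apply Subtype.ext
        simp [mul_assoc] }
  letI : Fintype T := Fintype.ofFinite T
  have hT : ∀ g : G, g ∈ T ↔ ∀ n : N, θ ⟨g * n * g⁻¹, hN.conj_mem (n : G) n.2 g⟩ = θ n := by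
    intro g
    constructor
    · intro hg n
      show ((l _ : ℂˣ) : ℂ) = _
      rw [hg n]
    · intro hg n
      exact Units.ext (hg n)
  have hHT : N ≤ T := by
    intro a ha n
    congr 1
    apply Subtype.ext
    show a * n * a⁻¹ = n
    rw [hcomm a ha n n.2]
    group
  obtain ⟨χ, hχ, hcon⟩ := Cfsg.Agent.Lib.CharCoprime.exists_over N hθ
  obtain ⟨ψ, hψ, hind, -⟩ := exists_inertia_char N T hθ hT hHT hχ hcon
  refine ⟨⟨χ, hχ⟩, ?_⟩
  show χ x = 0
  rw [← hind]
  apply indFun_eq_zero_of_not_conj
  intro a ha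
  obtain ⟨n, hn⟩ := h a
  obtain ⟨k, rfl⟩ := Subgroup.mem_zpowers_iff.1 hy
  have h1 : a⁻¹ * x ^ k * a = (a⁻¹ * x * a) ^ k := by
    have := conj_zpow (a := a⁻¹) (b := x) (i := k)
    simpa using this.symm
  have h2 : a⁻¹ * x ^ k * a ∈ T := by
    rw [h1]
    exact T.zpow_mem ha k
  exact hn (h2 n)

end Vanish

section Dual

variable {G : Type u} [Group G] (N : Subgroup G) [hN : N.Normal]

/-- The additive group of linear characters of `N`. -/
abbrev Dual := Additive (N →* ℂˣ)

/-- Conjugation on linear characters. -/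
def twistEnd (g : G) : AddMonoid.End (Dual N) where
  toFun l := Additive.ofMul ((Additive.toMul l).comp (MulAut.conjNormal g⁻¹ : MulAut N).toMonoidHom)
  map_zero' := by
    apply Additive.toMul.injective
    ext n
    simp
  map_add' := by
    intro a b
    apply Additive.toMul.injective
    ext n
    simp

theorem twistEnd_apply (g : G) (l : Dual N) (n : N) :
    (Additive.toMul (twistEnd N g l)) n = (Additive.toMul l) ⟨g⁻¹ * n * g, by
      have := hN.conj_mem _ n.2 g⁻¹
      simpa using this⟩ := by
  show (Additive.toMul l) ((MulAut.conjNormal g⁻¹ : MulAut N) n) = _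
  congr 1
  apply Subtype.ext
  simp

/-- Conjugation as a homomorphism to the monoid of endomorphisms. -/
def twistHom : G →* AddMonoid.End (Dual N) where
  toFun := twistEnd N
  map_one' := by
    apply AddMonoidHom.ext
    intro l
    apply Additive.toMul.injective
    ext n
    show (((Additive.toMul (twistEnd N 1 l)) n : ℂˣ) : ℂ) = (((Additive.toMul l) n : ℂˣ) : ℂ)
    rw [twistEnd_apply]
    congr 2
    apply Subtype.ext
    simp
  map_mul' := by
    intro a b
    apply AddMonoidHom.ext
    intro l
    apply Additive.toMul.injective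
    ext n
    show (((Additive.toMul (twistEnd N (a * b) l)) n : ℂˣ) : ℂ) =
      (((Additive.toMul (twistEnd N a (twistEnd N b l))) n : ℂˣ) : ℂ)
    rw [twistEnd_apply, twistEnd_apply, twistEnd_apply]
    congr 2
    apply Subtype.ext
    simp [mul_assoc]

/-- Conjugation as a homomorphism to the automorphisms. -/
noncomputable def rho : G →* Gam (Dual N) := (twistHom N).toHomUnits

theorem rho_smul_apply (g : G) (l : Dual N) (n : N) :
    (Additive.toMul (rho N g • l)) n = (Additive.toMul l) ⟨g⁻¹ * n * g, by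
      have := hN.conj_mem _ n.2 g⁻¹
      simpa using this⟩ :=
  twistEnd_apply N g l n

end Dual

section Core

variable {p : ℕ} [hp : Fact p.Prime]

/-- A `p`-element in a nilpotent normal subgroup lies in `O_p(G)`. -/
theorem mem_pCore_of_nilpotent {G : Type u} [Group G] [Finite G] (L : Subgroup G) [hL : L.Normal]
    (hn : Group.IsNilpotent L) {y : G} (hyL : y ∈ L) (hy : ∃ k : ℕ, y ^ (p ^ k) = 1) :
    y ∈ pCore p G := by
  have hy' : IsPGroup p (Subgroup.zpowers (⟨y, hyL⟩ : L)) := by
    obtain ⟨k, hk⟩ := hy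
    rw [IsPGroup.iff_card, Nat.card_zpowers]
    have h1 : orderOf (⟨y, hyL⟩ : L) ∣ p ^ k := by
      apply orderOf_dvd_of_pow_eq_one
      exact Subtype.ext (by simpa using hk)
    obtain ⟨m, -, hm⟩ := (Nat.dvd_prime_pow hp.out).1 h1
    exact ⟨m, hm⟩
  obtain ⟨P, hP⟩ := hy'.exists_le_sylow
  have hPn : (P : Subgroup L).Normal := by
    have h0 : Group.IsNilpotent L ↔ ∀ (p : ℕ) (_ : Fact p.Prime) (P : Sylow p L), (P : Subgroup L).Normal :=
      (Group.isNilpotent_of_finite_tfae (G := L)).out 0 3
    exact h0.1 hn p hp P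
  have h1 : (P : Subgroup L) ≤ pCore p L := le_pCore hPn P.isPGroup'
  have h2 : (⟨y, hyL⟩ : L) ∈ pCore p L := h1 (hP (Subgroup.mem_zpowers _))
  have h3 : y ∈ (pCore p L).map L.subtype := ⟨_, h2, rfl⟩
  rw [map_pCore_of_normal] at h3
  exact h3.2

/-- An abelian normal subgroup has order prime to `p` when `O_p(G) = 1`. -/
theorem coprime_card_of_abelian_normal {G : Type u} [Group G] [Finite G] (N : Subgroup G) (hNn : N.Normal)
    (hcomm : ∀ a ∈ N, ∀ b ∈ N, a * b = b * a) (hO : pCore p G = ⊥) : (Nat.card N).Coprime p := by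
  have hpp : p.Prime := hp.out
  by_contra hnc
  have hdvd : p ∣ Nat.card N := by
    rcases Nat.coprime_or_dvd_of_prime hpp (Nat.card N) with h | h
    · exact absurd h.symm hnc
    · exact h
  obtain ⟨n₀, hn₀⟩ := exists_prime_orderOf_dvd_card' (G := N) p hdvd
  let M : Subgroup G :=
    { carrier := {g | g ∈ N ∧ g ^ p = 1}
      mul_mem' := by
        rintro a b ⟨ha, ha'⟩ ⟨hb, hb'⟩
        refine ⟨N.mul_mem ha hb, ?_⟩
        have hc : Commute a b := hcomm a ha b hb
        rw [hc.mul_pow, ha', hb', one_mul]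
      one_mem' := ⟨N.one_mem, one_pow _⟩
      inv_mem' := by
        rintro a ⟨ha, ha'⟩
        exact ⟨N.inv_mem ha, by rw [inv_pow, ha', inv_one]⟩ }
  have hMn : M.Normal := ⟨fun g hg c => ⟨hNn.conj_mem _ hg.1 _, by
    rw [conj_pow, hg.2]; simp⟩⟩
  have hMp : IsPGroup p M := fun g => ⟨1, Subtype.ext (by
    simpa using g.2.2)⟩
  have hM0 := le_pCore hMn hMp
  rw [hO] at hM0
  have h1 : (n₀ : G) ∈ M := ⟨n₀.2, by
    have := pow_orderOf_eq_one n₀
    rw [hn₀] at this
    simpa using congrArg Subtype.val this⟩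
  have h2 := hM0 h1
  rw [Subgroup.mem_bot] at h2
  have h3 : n₀ = 1 := Subtype.ext h2
  rw [h3, orderOf_one] at hn₀
  exact hpp.one_lt.ne hn₀

/-- **Vanishing theorem.** -/
theorem exists_irr_zero (hodd : p ≠ 2) : ∀ (n : ℕ) (G : Type u) [Group G] [Finite G] [Group.IsSolvable G],
    Nat.card G ≤ n → ∀ x y : G, y ∈ Subgroup.zpowers x → (∃ k : ℕ, y ^ (p ^ k) = 1) → y ∉ pCore p G →
      ∃ χ : IrrCharacter G, (χ : G → ℂ) x = 0 := by
  classical
  have hpp : p.Prime := hp.out
  intro n
  induction n with
  | zero =>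
    intro G _ _ _ hn
    have : 0 < Nat.card G := Nat.card_pos
    omega
  | succ n ih =>
    intro G _ _ _ hn x y hy hyk hyO
    -- inflation
    have hinfl : ∀ (N : Subgroup G) [N.Normal], N ≠ ⊥ → (QuotientGroup.mk' N y) ∉ pCore p (G ⧸ N) →
        ∃ χ : IrrCharacter G, (χ : G → ℂ) x = 0 := by
      intro N _ hNbot hnot
      have hcard : Nat.card (G ⧸ N) ≤ n := by
        have h1 := Subgroup.card_eq_card_quotient_mul_card_subgroup N
        have h2 : 1 < Nat.card N := by
          haveI : Nontrivial N := (Subgroup.nontrivial_iff_ne_bot N).2 hNbot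
          exact Finite.one_lt_card
        have h3 : 0 < Nat.card (G ⧸ N) := Nat.card_pos
        nlinarith
      obtain ⟨χ, hχ⟩ := ih (G ⧸ N) hcard (QuotientGroup.mk' N x) (QuotientGroup.mk' N y)
        (by
          obtain ⟨k, rfl⟩ := Subgroup.mem_zpowers_iff.1 hy
          rw [map_zpow]
          exact Subgroup.zpow_mem_zpowers _ _)
        (by
          obtain ⟨k, hk⟩ := hyk
          exact ⟨k, by rw [← map_pow, hk, map_one]⟩)
        hnot
      exact ⟨⟨(χ : G ⧸ N → ℂ) ∘ QuotientGroup.mk' N,
        isIrrCharacter_comp_of_surjective _ (QuotientGroup.mk'_surjective N) χ.2⟩, hχ⟩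
    by_cases hO : pCore p G = ⊥
    · -- `O_p(G) = 1`
      have hy1 : y ≠ 1 := fun h => hyO (h ▸ (pCore p G).one_mem)
      have hGnt : (⊤ : Subgroup G) ≠ ⊥ := by
        intro h
        apply hy1
        have : y ∈ (⊤ : Subgroup G) := trivial
        rw [h] at this
        exact this
      obtain ⟨N, hNn, hNbot, -, hNab⟩ := exists_abelian_normal_le (⊤ : Subgroup G) inferInstance hGnt
      haveI := hNn
      have hcomm : ∀ a ∈ N, ∀ b ∈ N, a * b = b * a := by
        intro a ha b hb
        have h1 : ⁅a, b⁆ ∈ ⁅N, N⁆ := Subgroup.commutator_mem_commutator ha hb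
        rw [hNab, Subgroup.mem_bot] at h1
        exact commutatorElement_eq_one_iff_mul_comm.1 h1
      by_cases hbar : QuotientGroup.mk' N y ∈ pCore p (G ⧸ N)
      swap
      · exact hinfl N hNbot hbar
      -- `N` has order prime to `p`
      have hNcop : (Nat.card N).Coprime p := coprime_card_of_abelian_normal N hNn hcomm hO
      letI instN : CommGroup N :=
        { (inferInstance : Group N) with mul_comm := fun a b => Subtype.ext (hcomm a a.2 b b.2) }
      haveI : NeZero (Monoid.exponent N) := ⟨Monoid.exponent_ne_zero_of_finite⟩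
      have hcardD : Nat.card (Dual N) = Nat.card N := by
        show Nat.card (Additive (N →* ℂˣ)) = _
        exact (Nat.card_congr Additive.toMul).trans
          (CommGroup.card_monoidHom_of_hasEnoughRootsOfUnity N ℂ)
      haveI : Finite (Dual N) := Nat.finite_of_card_ne_zero (by rw [hcardD]; exact Nat.card_pos.ne')
      have hcD : (Nat.card (Dual N)).Coprime p := by rwa [hcardD]
      have hrhoN : ∀ a ∈ N, rho N a = 1 := by
        intro a ha
        apply units_eq_one_of_fix
        intro l
        apply Additive.toMul.injective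
        ext m
        rw [rho_smul_apply]
        congr 2
        apply Subtype.ext
        show a⁻¹ * m * a = m
        rw [hcomm a⁻¹ (N.inv_mem ha) m m.2]
        group
      let T : Subgroup G := (pCore p (G ⧸ N)).comap (QuotientGroup.mk' N)
      have hTn : T.Normal := Subgroup.Normal.comap inferInstance _
      have hyT : y ∈ T := hbar
      have hTp : ∀ t ∈ T, ∃ k : ℕ, t ^ (p ^ k) ∈ N := by
        intro t ht
        obtain ⟨k, hk⟩ := (isPGroup_pCore (G := G ⧸ N) p) ⟨QuotientGroup.mk' N t, ht⟩
        refine ⟨k, ?_⟩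
        have h1 : (QuotientGroup.mk' N t) ^ (p ^ k) = 1 := by
          simpa using congrArg Subtype.val hk
        rw [← map_pow] at h1
        exact (QuotientGroup.eq_one_iff _).1 h1
      let H : Subgroup (Gam (Dual N)) := (rho N).range
      let Y : Subgroup (Gam (Dual N)) := T.map (rho N)
      have hYH : Y ≤ H := Subgroup.map_le_range _ _
      have hYn : ∀ g ∈ H, ∀ a ∈ Y, g * a * g⁻¹ ∈ Y := by
        rintro _ ⟨g, rfl⟩ _ ⟨t, ht, rfl⟩
        exact ⟨g * t * g⁻¹, hTn.conj_mem t ht g, by simp⟩
      have hYp : ∀ u ∈ Y, ∃ k : ℕ, u ^ (p ^ k) = 1 := by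
        rintro _ ⟨t, ht, rfl⟩
        obtain ⟨k, hk⟩ := hTp t ht
        exact ⟨k, by rw [← map_pow, hrhoN _ hk]⟩
      have hy'1 : rho N y ≠ 1 := by
        intro hry
        -- `y` centralises `N`
        have hcen : ∀ m : N, y * m * y⁻¹ = m := by
          intro m
          by_contra hne
          have hmem : y * (m : G) * y⁻¹ ∈ N := hNn.conj_mem _ m.2 y
          have hd : (⟨y * m * y⁻¹, hmem⟩ : N) * m⁻¹ ≠ 1 := by
            intro h
            apply hne
            have h1 := mul_inv_eq_one.1 h
            exact congrArg Subtype.val h1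
          obtain ⟨φ, hφ⟩ := CommGroup.exists_apply_ne_one_of_hasEnoughRootsOfUnity N ℂ hd
          apply hφ
          have h2 : (Additive.toMul (rho N y • (Additive.ofMul φ : Dual N))) ⟨y * m * y⁻¹, hmem⟩ =
              φ ⟨y * m * y⁻¹, hmem⟩ := by
            rw [hry, one_smul]
            rfl
          rw [rho_smul_apply] at h2
          have h3 : (⟨y⁻¹ * (y * (m : G) * y⁻¹) * y, by
              have := hNn.conj_mem _ hmem y⁻¹
              simpa using this⟩ : N) = m := by
            apply Subtype.ext
            group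
          rw [map_mul, map_inv, mul_inv_eq_one]
          have h4 : (Additive.toMul (Additive.ofMul φ : Dual N)) = φ := rfl
          rw [h4] at h2
          rw [← h2]
          congr 1
        let L : Subgroup G := T ⊓ Subgroup.centralizer (N : Set G)
        have hLn : L.Normal := by
          exact Subgroup.normal_inf_normal T _
        have hyL : y ∈ L := by
          refine ⟨hyT, ?_⟩
          show y ∈ Subgroup.centralizer (N : Set G)
          rw [Subgroup.mem_centralizer_iff]
          intro m hm
          have := hcen ⟨m, hm⟩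
          have h5 : y * m * y⁻¹ * y = m * y := by rw [this]
          simpa using h5.symm
        have hLnil : Group.IsNilpotent L := by
          apply Group.of_quotient_center_nilpotent
          have hq : IsPGroup p (L ⧸ Subgroup.center L) := by
            intro q
            obtain ⟨g, rfl⟩ := QuotientGroup.mk'_surjective _ q
            obtain ⟨k, hk⟩ := hTp g g.2.1
            refine ⟨k, ?_⟩
            rw [← map_pow]
            refine (QuotientGroup.eq_one_iff _).2 ?_
            rw [Subgroup.mem_center_iff]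
            intro l
            apply Subtype.ext
            have h6 : (l : G) ∈ Subgroup.centralizer (N : Set G) := l.2.2
            rw [Subgroup.mem_centralizer_iff] at h6
            have h7 := h6 _ (SetLike.mem_coe.2 hk)
            simpa using h7.symm
          exact hq.isNilpotent
        exact hyO (mem_pCore_of_nilpotent L hLnil hyL hyk)
      obtain ⟨v, hv⟩ := exists_vec_no_conj_fix hodd _ (Dual N) le_rfl hcD H Y hYH hYn hYp (rho N y)
        ⟨y, hyT, rfl⟩ hy'1
      refine exists_irr_zero_of_no_fix N hcomm (Additive.toMul v) hy ?_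
      intro a
      by_contra hcon
      push Not at hcon
      apply hv (rho N a⁻¹) ⟨a⁻¹, rfl⟩
      rw [← map_inv, ← map_mul, ← map_mul]
      apply Additive.toMul.injective
      ext m
      rw [rho_smul_apply]
      have hmem : (a⁻¹ * y * a⁻¹⁻¹)⁻¹ * (m : G) * (a⁻¹ * y * a⁻¹⁻¹) ∈ N := by
        have := hNn.conj_mem _ m.2 (a⁻¹ * y * a⁻¹⁻¹)⁻¹
        simpa using this
      have h1 := hcon ⟨(a⁻¹ * y * a⁻¹⁻¹)⁻¹ * (m : G) * (a⁻¹ * y * a⁻¹⁻¹), hmem⟩
      have h2 : (Additive.toMul v) ⟨(a⁻¹ * y * a⁻¹⁻¹)⁻¹ * (m : G) * (a⁻¹ * y * a⁻¹⁻¹), hmem⟩ =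
          (Additive.toMul v) m := by
        rw [← h1]
        congr 1
        apply Subtype.ext
        simp [mul_assoc]
      exact congrArg Units.val h2
    · -- quotient by `O_p(G)`
      refine hinfl (pCore p G) hO ?_
      rw [pCore_quotient_pCore, Subgroup.mem_bot]
      intro h
      exact hyO ((QuotientGroup.eq_one_iff y).1 h)

end Core

/-- The theorem for an arbitrary solvable group. -/
theorem exists_irr_zero' {p : ℕ} [hp : Fact p.Prime] (hodd : p ≠ 2) {G : Type u} [Group G] [Finite G]
    [Group.IsSolvable G] {x y : G} (hy : y ∈ Subgroup.zpowers x) (hyk : ∃ k : ℕ, y ^ (p ^ k) = 1)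
    (hyO : y ∉ pCore p G) : ∃ χ : IrrCharacter G, (χ : G → ℂ) x = 0 :=
  exists_irr_zero hodd _ G le_rfl x y hy hyk hyO

end Cfsg.Agent.Lib.NVChar
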