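import Mathlib
import Cfsg.Prelude.Def_Characters
import Cfsg.Prelude.Def_Solvable
import Cfsg.Agent.Lib.NVOrbit
import Cfsg.Agent.Lib.PCore
import Cfsg.Agent.Lib.Glauberman
import Cfsg.Agent.Lib.FpfNorm

/-!
# Pálfy's three primes theorem: modules with unique Sylow subgroups in point stabilisers

`H` acts faithfully on a finite abelian group `A`, and for two primes the stabiliser of every
nonzero vector contains exactly one Sylow subgroup of `H`.
-/

set_option autoImplicit false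
set_option linter.unusedSectionVars false
set_option linter.unusedVariables false
set_option linter.style.haveILetI false

namespace Cfsg.Agent.Lib.PalfyA

open Cfsg Cfsg.Agent.Lib.NVOrbit Cfsg.Agent.Lib.NVIdem Cfsg.Agent.Lib.NVTerm Cfsg.Agent.Lib.PCore
open scoped commutatorElement

universe u

section Setup

variable {A : Type u} [AddCommGroup A] {H : Type u} [Group H] (φ : H →* Gam A)

/-- The stabiliser of a vector. -/
def stab (a : A) : Subgroup H where
  carrier := {x | φ x • a = a}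
  mul_mem' := by
    intro x y hx hy
    simp only [Set.mem_setOf_eq] at hx hy ⊢
    rw [map_mul, mul_smul, hy, hx]
  one_mem' := by simp
  inv_mem' := by
    intro x hx
    simp only [Set.mem_setOf_eq] at hx ⊢
    rw [map_inv, inv_smul_eq_iff, hx]

theorem mem_stab {a : A} {x : H} : x ∈ stab φ a ↔ φ x • a = a := Iff.rfl

theorem le_stab_zero (K : Subgroup H) : K ≤ stab φ (0 : A) := fun x _ => smul_zero _

/-- The stabiliser of every nonzero vector contains exactly one Sylow `ν`-subgroup of `H`. -/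
def H1 (ν : ℕ) : Prop :=
  ∀ a : A, a ≠ 0 → ∃ P : Sylow ν H, (P : Subgroup H) ≤ stab φ a ∧
    ∀ Q : Sylow ν H, (Q : Subgroup H) ≤ stab φ a → Q = P

variable {φ}

theorem exists_syl_fix_of_two_parts {ν : ℕ} (hν : H1 φ ν) (B₁ B₂ : Set A) {c₁ c₂ : A}
    (hc₁ : c₁ ∈ B₁) (hc₁0 : c₁ ≠ 0) (hc₂ : c₂ ∈ B₂) (hc₂0 : c₂ ≠ 0)
    (h : ∀ b₁ ∈ B₁, b₁ ≠ 0 → ∀ b₂ ∈ B₂, b₂ ≠ 0 → b₁ + b₂ ≠ 0 ∧
      ∀ Q : Sylow ν H, (Q : Subgroup H) ≤ stab φ (b₁ + b₂) →
        (Q : Subgroup H) ≤ stab φ b₁ ∧ (Q : Subgroup H) ≤ stab φ b₂) :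
    ∃ Q₀ : Sylow ν H, ∀ b, (b ∈ B₁ ∨ b ∈ B₂) → (Q₀ : Subgroup H) ≤ stab φ b := by
  obtain ⟨Q₀, hQ₀, hQ₀u⟩ := hν c₂ hc₂0
  have hB₁ : ∀ b₁ ∈ B₁, (Q₀ : Subgroup H) ≤ stab φ b₁ := by
    intro b₁ hb₁
    by_cases hb0 : b₁ = 0
    · subst hb0
      exact le_stab_zero φ _
    obtain ⟨hne, hQ⟩ := h b₁ hb₁ hb0 c₂ hc₂ hc₂0
    obtain ⟨P, hP, -⟩ := hν _ hne
    obtain ⟨h1, h2⟩ := hQ P hP
    have := hQ₀u P h2
    rw [← this]
    exact h1
  obtain ⟨Q₁, hQ₁, hQ₁u⟩ := hν c₁ hc₁0
  have hQ01 : Q₀ = Q₁ := hQ₁u Q₀ (hB₁ c₁ hc₁)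
  refine ⟨Q₀, ?_⟩
  rintro b (hb | hb)
  · exact hB₁ b hb
  · by_cases hb0 : b = 0
    · subst hb0
      exact le_stab_zero φ _
    obtain ⟨hne, hQ⟩ := h c₁ hc₁ hc₁0 b hb hb0
    obtain ⟨P, hP, -⟩ := hν _ hne
    obtain ⟨h1, h2⟩ := hQ P hP
    have := hQ₁u P h1
    rw [hQ01, ← this]
    exact h2

theorem false_of_syl_fix [Finite H] {ν : ℕ} [Fact ν.Prime] (hφ : Function.Injective φ)
    (hd : ν ∣ Nat.card H) (Q₀ : Sylow ν H) (hfix : ∀ b : A, (Q₀ : Subgroup H) ≤ stab φ b) :
    False := by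
  have h1 : (Q₀ : Subgroup H) = ⊥ := by
    rw [eq_bot_iff]
    intro x hx
    rw [Subgroup.mem_bot]
    apply hφ
    rw [map_one]
    exact units_eq_one_of_fix fun v => hfix v hx
  exact Q₀.ne_bot_of_dvd_card hd h1

/-- An idempotent commuting with all Sylow `ν`-subgroups is trivial. -/
theorem false_of_idem [Finite H] {ν : ℕ} [Fact ν.Prime] (hφ : Function.Injective φ)
    (hd : ν ∣ Nat.card H) (hν : H1 φ ν) (e : AddMonoid.End A) (he : e * e = e) (he0 : e ≠ 0)
    (he1 : e ≠ 1)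
    (hc : ∀ Q : Sylow ν H, ∀ x ∈ (Q : Subgroup H), ∀ b : A, φ x • e b = e (φ x • b)) : False := by
  have hee : ∀ v, e (e v) = e v := fun v => DFunLike.congr_fun he v
  obtain ⟨v₁, hv₁⟩ : ∃ v, e v ≠ 0 := by
    by_contra hcon
    push Not at hcon
    exact he0 (AddMonoidHom.ext hcon)
  obtain ⟨v₂, hv₂⟩ : ∃ v, v - e v ≠ 0 := by
    by_contra hcon
    push Not at hcon
    apply he1
    apply AddMonoidHom.ext
    intro v
    have := hcon v
    rw [sub_eq_zero] at this
    exact this.symm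
  obtain ⟨Q₀, hQ₀⟩ := exists_syl_fix_of_two_parts hν (Set.range e) (Set.range fun v => v - e v)
    ⟨v₁, rfl⟩ hv₁ ⟨v₂, rfl⟩ hv₂ (by
    rintro _ ⟨w₁, rfl⟩ hw₁ _ ⟨w₂, rfl⟩ hw₂
    have hea : e (e w₁ + (w₂ - e w₂)) = e w₁ := by
      rw [map_add, map_sub, hee, hee, sub_self, add_zero]
    refine ⟨?_, ?_⟩
    · intro h0
      rw [h0, map_zero] at hea
      exact hw₁ hea.symm
    · intro Q hQ
      have h1 : (Q : Subgroup H) ≤ stab φ (e w₁) := by
        intro x hx
        have h2 : φ x • (e w₁ + (w₂ - e w₂)) = e w₁ + (w₂ - e w₂) := hQ hx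
        have h3 := hc Q x hx (e w₁ + (w₂ - e w₂))
        rw [h2, hea] at h3
        exact h3
      refine ⟨h1, ?_⟩
      intro x hx
      have h2 : φ x • (e w₁ + (w₂ - e w₂)) = e w₁ + (w₂ - e w₂) := hQ hx
      rw [smul_add, h1 hx] at h2
      exact add_left_cancel h2)
  refine false_of_syl_fix hφ hd Q₀ fun b x hx => ?_
  have h1 : φ x • e b = e b := hQ₀ (e b) (Or.inl ⟨b, rfl⟩) hx
  have h2 : φ x • (b - e b) = b - e b := hQ₀ (b - e b) (Or.inr ⟨b, rfl⟩) hx
  rw [smul_sub, h1, sub_left_inj] at h2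
  exact h2

end Setup

section Ring

variable {A : Type u} [AddCommGroup A] [Finite A] {H : Type u} [Group H] [Finite H] (φ : H →* Gam A)

/-- The subring generated by `M`. -/
def ringOf (M : Subgroup H) : Subring (AddMonoid.End A) :=
  Subring.closure ((fun a : Gam A => (a : AddMonoid.End A)) '' ((M.map φ : Subgroup (Gam A)) : Set (Gam A)))

variable {φ}

theorem ringOf_comm {M : Subgroup H} (hMc : ∀ x ∈ M, ∀ y ∈ M, x * y = y * x) :
    ∀ x ∈ ringOf φ M, ∀ y ∈ ringOf φ M, x * y = y * x := by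
  apply closure_comm
  rintro _ ⟨x, hx, rfl⟩ _ ⟨y, hy, rfl⟩
  rw [← map_mul, ← map_mul, hMc x hx y hy]

theorem ringOf_cj {M : Subgroup H} (hMn : M.Normal) (g : H) :
    ∀ x ∈ ringOf φ M, cj (φ g) x ∈ ringOf φ M := by
  intro x hx
  apply cj_closure _ hx
  rintro _ ⟨m, hm, rfl⟩
  refine ⟨g * m * g⁻¹, hMn.conj_mem m hm g, ?_⟩
  rw [map_mul, map_mul, map_inv]

theorem mem_ringOf {M : Subgroup H} {x : H} (hx : x ∈ M) :
    ((φ x : Gam A) : AddMonoid.End A) ∈ ringOf φ M :=
  Subring.subset_closure ⟨φ x, ⟨x, hx, rfl⟩, rfl⟩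

/-- For odd `ν`: at most one minimal idempotent. -/
theorem minIdem_eq {ν : ℕ} [hνp : Fact ν.Prime] (hodd : ν ≠ 2) (hφ : Function.Injective φ)
    (hd : ν ∣ Nat.card H) (hν : H1 φ ν) {M : Subgroup H} (hMn : M.Normal)
    (hMc : ∀ x ∈ M, ∀ y ∈ M, x * y = y * x) {e₁ e₂ : AddMonoid.End A}
    (he₁ : IsMinIdem (ringOf φ M) e₁) (he₂ : IsMinIdem (ringOf φ M) e₂) : e₁ = e₂ := by
  by_contra hne
  have hR := ringOf_comm (φ := φ) hMc
  have hid : ∀ {e : AddMonoid.End A}, IsMinIdem (ringOf φ M) e → ∀ v, e (e v) = e v :=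
    fun he v => DFunLike.congr_fun he.idem v
  have horth : ∀ {e f : AddMonoid.End A}, IsMinIdem (ringOf φ M) e → IsMinIdem (ringOf φ M) f →
      e ≠ f → ∀ v, e (f v) = 0 := fun he hf hef v => DFunLike.congr_fun (minIdem_orth hR he hf hef) v
  have hnz : ∀ {e : AddMonoid.End A}, IsMinIdem (ringOf φ M) e → ∃ v, e v ≠ 0 := by
    intro e he
    by_contra hcon
    push Not at hcon
    exact he.ne (AddMonoidHom.ext hcon)
  obtain ⟨v₁, hv₁⟩ := hnz he₁
  obtain ⟨v₂, hv₂⟩ := hnz he₂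
  obtain ⟨Q₀, hQ₀⟩ := exists_syl_fix_of_two_parts hν (Set.range e₁)
    {b | ∃ e, IsMinIdem (ringOf φ M) e ∧ e ≠ e₁ ∧ e b = b}
    ⟨v₁, rfl⟩ hv₁ ⟨e₂, he₂, fun h => hne h.symm, hid he₂ v₂⟩ hv₂ (by
    rintro _ ⟨w₁, rfl⟩ hw₁ b₂ ⟨f, hf, hfne, hfb⟩ hb₂
    have hea : e₁ (e₁ w₁ + b₂) = e₁ w₁ := by
      rw [map_add, hid he₁, ← hfb, horth he₁ hf hfne.symm, add_zero]
    have hfa : f (e₁ w₁ + b₂) = b₂ := by
      rw [map_add, horth hf he₁ hfne, zero_add, hfb]
    refine ⟨?_, ?_⟩
    · intro h0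
      rw [h0, map_zero] at hea
      exact hw₁ hea.symm
    · intro Q hQ
      set a := e₁ w₁ + b₂ with ha
      have hkey : (Q : Subgroup H) ≤ stab φ (e₁ w₁) := by
        intro x hx
        have hxa : φ x • a = a := hQ hx
        have hxa' : (φ x)⁻¹ • a = a := by rw [inv_smul_eq_iff, hxa]
        -- conjugation preserves the support
        have hsupp : ∀ e, IsMinIdem (ringOf φ M) e → e a ≠ 0 → e = e₁ ∨ e = f := by
          intro e he hea0
          by_contra hcon
          push Not at hcon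
          apply hea0
          rw [ha, map_add, horth he he₁ hcon.1, ← hfb, horth he hf hcon.2, add_zero]
        have hcjmin : ∀ e, IsMinIdem (ringOf φ M) e → IsMinIdem (ringOf φ M) (cj (φ x) e) := by
          intro e he
          refine IsMinIdem_cj (ringOf_cj hMn x) ?_ he
          intro y hy
          have := ringOf_cj (φ := φ) hMn x⁻¹ y hy
          rwa [map_inv] at this
        have hcjsupp : ∀ e, IsMinIdem (ringOf φ M) e → e a ≠ 0 → (cj (φ x) e) a ≠ 0 := by
          intro e he hea0 h0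
          rw [cj_apply', hxa'] at h0
          apply hea0
          have := congrArg (fun w => (φ x)⁻¹ • w) h0
          simpa using this
        have he₁a : e₁ a ≠ 0 := by rw [hea]; exact hw₁
        have hfa0 : f a ≠ 0 := by rw [hfa]; exact hb₂
        have hinj : ∀ {e e' : AddMonoid.End A}, cj (φ x) e = cj (φ x) e' → e = e' := by
          intro e e' h
          rw [← cj_inv_cj (φ x) e, h, cj_inv_cj]
        obtain ⟨k, hk⟩ : ∃ k : ℕ, x ^ (ν ^ k) = 1 := by
          obtain ⟨k, hk⟩ := IsPGroup.iff_orderOf.1 Q.isPGroup' (⟨x, hx⟩ : (Q : Subgroup H))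
          refine ⟨k, ?_⟩
          have : ((⟨x, hx⟩ : (Q : Subgroup H)) : H) ^ (ν ^ k) = 1 := by
            rw [← Subgroup.coe_pow, ← hk, pow_orderOf_eq_one]
            rfl
          exact this
        have hfix1 : cj (φ x) e₁ = e₁ := by
          by_contra hne1
          have h1 : cj (φ x) e₁ = f := (hsupp _ (hcjmin _ he₁) (hcjsupp _ he₁ he₁a)).resolve_left hne1
          have h2 : cj (φ x) f = e₁ := by
            refine (hsupp _ (hcjmin _ hf) (hcjsupp _ hf hfa0)).resolve_right ?_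
            intro h3
            apply hfne
            apply hinj
            rw [h3, h1]
          have h3 : cj ((φ x) ^ 2) e₁ = e₁ := by
            rw [pow_two, cj_mul, h1, h2]
          have h4 : ∀ m : ℕ, cj (((φ x) ^ 2) ^ m) e₁ = e₁ := by
            intro m
            induction m with
            | zero => simp [cj_one]
            | succ m ih => rw [pow_succ, cj_mul, h3, ih]
          have hνodd : Odd (ν ^ k) := (hνp.out.odd_of_ne_two hodd).pow
          obtain ⟨m, hm⟩ := hνodd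
          have h5 : (φ x) ^ (ν ^ k) = 1 := by rw [← map_pow, hk, map_one]
          have h6 : cj ((φ x) ^ (ν ^ k)) e₁ = f := by
            rw [hm, pow_succ', cj_mul, pow_mul, h4, h1]
          rw [h5, cj_one] at h6
          exact hfne h6.symm
        have h7 := cj_apply (φ x) e₁ a
        rw [hfix1, hxa, hea] at h7
        exact h7.symm
      refine ⟨hkey, ?_⟩
      intro x hx
      have hxa : φ x • a = a := hQ hx
      rw [ha, smul_add, hkey hx] at hxa
      exact add_left_cancel hxa)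
  refine false_of_syl_fix hφ hd Q₀ fun b x hx => ?_
  have hsum := DFunLike.congr_fun (sum_minIdems hR) b
  rw [end_sum_apply] at hsum
  have h1 : (1 : AddMonoid.End A) b = b := rfl
  rw [h1] at hsum
  rw [mem_stab, ← hsum, Finset.smul_sum]
  refine Finset.sum_congr rfl fun e he => ?_
  have hemin := mem_minIdems.1 he
  by_cases hee₁ : e = e₁
  · subst hee₁
    exact hQ₀ _ (Or.inl ⟨b, rfl⟩) hx
  · exact hQ₀ _ (Or.inr ⟨e, hemin, hee₁, hid hemin b⟩) hx

/-- Under the hypotheses above, a nontrivial element of an abelian normal subgroup of order prime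
to `|A|` has no nonzero fixed vector. -/
theorem fpf_of_abelian_normal {ν : ℕ} [hνp : Fact ν.Prime] (hodd : ν ≠ 2) (hφ : Function.Injective φ)
    (hd : ν ∣ Nat.card H) (hν : H1 φ ν) {M : Subgroup H} (hMn : M.Normal)
    (hMc : ∀ x ∈ M, ∀ y ∈ M, x * y = y * x) (hcop : (Nat.card M).Coprime (Nat.card A))
    {x : H} (hx : x ∈ M) (hx1 : x ≠ 1) {v : A} (hv : φ x • v = v) : v = 0 := by
  classical
  by_contra hv0
  obtain ⟨r, hr, hrd⟩ := Nat.exists_prime_and_dvd (n := orderOf x) (by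
    rw [Ne, orderOf_eq_one_iff]
    exact hx1)
  obtain ⟨c, hc⟩ := hrd
  have hcpos : 0 < c := by
    rcases Nat.eq_zero_or_pos c with h | h
    · subst h
      rw [mul_zero] at hc
      exact absurd hc (orderOf_pos x).ne'
    · exact h
  set y := x ^ c with hy
  have hyM : y ∈ M := M.pow_mem hx c
  have hyr : y ^ r = 1 := by
    rw [hy, ← pow_mul, mul_comm, ← hc, pow_orderOf_eq_one]
  have hy1 : y ≠ 1 := by
    intro h
    have := orderOf_dvd_of_pow_eq_one h
    rw [hc] at this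
    have h2 := Nat.le_of_dvd hcpos this
    have h3 := hr.two_le
    nlinarith
  have hyv : φ y • v = v := by
    rw [hy, map_pow]
    exact pow_smul_of_fix hv c
  have hrM : r ∣ Nat.card M := by
    have h1 : orderOf (⟨x, hx⟩ : M) = orderOf x := Subgroup.orderOf_mk x hx
    have h2 := orderOf_dvd_natCard (⟨x, hx⟩ : M)
    rw [h1, hc] at h2
    exact (Dvd.intro _ rfl).trans h2
  have hrc : (Nat.card A).Coprime r :=
    (Nat.Coprime.coprime_dvd_left hrM hcop).symm
  have hR := ringOf_comm (φ := φ) hMc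
  obtain ⟨e', he'R, he'i, he'f, he'm⟩ := exists_avg hrc (φ y) 1 (by
      rw [pow_one, ← map_pow, hyr, map_one]) (ringOf φ M) (mem_ringOf hyM)
  have hnt : Nontrivial A := ⟨⟨v, 0, hv0⟩⟩
  have hsum := sum_minIdems hR
  have hone : IsMinIdem (ringOf φ M) (1 : AddMonoid.End A) := by
    by_cases hne : (minIdems (ringOf φ M)).Nonempty
    · obtain ⟨e₀, he₀⟩ := hne
      have h1 : minIdems (ringOf φ M) = {e₀} := by
        ext e
        rw [Finset.mem_singleton]
        constructor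
        · intro he
          exact minIdem_eq hodd hφ hd hν hMn hMc (mem_minIdems.1 he) (mem_minIdems.1 he₀)
        · rintro rfl
          exact he₀
      rw [h1, Finset.sum_singleton] at hsum
      rw [← hsum]
      exact mem_minIdems.1 he₀
    · exfalso
      rw [Finset.not_nonempty_iff_eq_empty] at hne
      rw [hne, Finset.sum_empty] at hsum
      have h2 := DFunLike.congr_fun hsum v
      exact hv0 h2.symm
  rcases hone.min e' he'R he'i (mul_one e') with h2 | h2
  · apply hv0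
    have := he'f v hyv
    rw [h2] at this
    exact this.symm
  · apply hy1
    apply hφ
    rw [map_one]
    apply units_eq_one_of_fix
    intro w
    have := he'm w
    rw [h2] at this
    exact this

/-- Under the hypotheses above, an abelian normal subgroup of order prime to `|A|` is cyclic. -/
theorem isCyclic_of_abelian_normal {ν : ℕ} [hνp : Fact ν.Prime] (hodd : ν ≠ 2)
    (hφ : Function.Injective φ)
    (hd : ν ∣ Nat.card H) (hν : H1 φ ν) [Nontrivial A] {M : Subgroup H} (hMn : M.Normal)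
    (hMc : ∀ x ∈ M, ∀ y ∈ M, x * y = y * x) (hcop : (Nat.card M).Coprime (Nat.card A)) :
    IsCyclic M := by
  let ψ : M →* MulAut (Multiplicative A) := (toMul A).comp (φ.comp M.subtype)
  have hf : FpfNorm.IsFpf ψ := by
    intro a ha v hv
    have h1 : φ (a : H) • v.toAdd = v.toAdd := by
      have h2 : ψ a v = v := hv
      rw [show ψ a v = Multiplicative.ofAdd (φ (a : H) • v.toAdd) from toMul_apply _ _] at h2
      exact congrArg Multiplicative.toAdd h2
    have h3 := fpf_of_abelian_normal hodd hφ hd hν hMn hMc hcop a.2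
      (fun h => ha (Subtype.ext h)) h1
    exact congrArg Multiplicative.ofAdd h3
  exact FpfNorm.isCyclic_of_comm hf fun a b => Subtype.ext (hMc _ a.2 _ b.2)

end Ring

end Cfsg.Agent.Lib.PalfyA
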