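import Mathlib
import Cfsg.Agent.Lib.PalfyA
import Cfsg.Agent.Lib.OddLocalA
import Cfsg.Agent.Lib.FpfGeneral

/-!
# Pálfy's three primes theorem: action of the unique Sylow subgroups on normal `r`-subgroups
-/

set_option autoImplicit false
set_option linter.unusedSectionVars false
set_option linter.unusedVariables false
set_option linter.style.haveILetI false

namespace Cfsg.Agent.Lib.PalfyB

open Cfsg Cfsg.Agent.Lib.NVOrbit Cfsg.Agent.Lib.NVIdem Cfsg.Agent.Lib.NVTerm Cfsg.Agent.Lib.PCore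
open Cfsg.Agent.Lib.PalfyA Cfsg.Agent.Lib.Glauberman Cfsg.Agent.Lib.OddLocalA
open scoped commutatorElement

universe u

section Fix

variable {A : Type u} [AddCommGroup A] [Finite A] {H : Type u} [Group H] [Finite H] (φ : H →* Gam A)

/-- Common fixed points of a subgroup. -/
def fixAll (Y : Subgroup H) : AddSubgroup A where
  carrier := {b | ∀ y ∈ Y, φ y • b = b}
  add_mem' := by
    intro a b ha hb y hy
    rw [smul_add, ha y hy, hb y hy]
  zero_mem' := fun y _ => smul_zero _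
  neg_mem' := by
    intro a ha y hy
    rw [smul_neg, ha y hy]

theorem mem_fixAll {Y : Subgroup H} {b : A} : b ∈ fixAll φ Y ↔ ∀ y ∈ Y, φ y • b = b := Iff.rfl

theorem exists_max_fix (T : Subgroup H) {a : A} (ha : a ≠ 0) :
    ∃ Y : Subgroup H, Y ≤ T ∧ (∃ a : A, a ≠ 0 ∧ Y ≤ stab φ a) ∧
      ∀ Y' : Subgroup H, Y' ≤ T → (∃ b : A, b ≠ 0 ∧ Y' ≤ stab φ b) → Y ≤ Y' → Y' = Y := by
  let s : Set (Subgroup H) := {Y | Y ≤ T ∧ ∃ a : A, a ≠ 0 ∧ Y ≤ stab φ a}
  have hs : (⊥ : Subgroup H) ∈ s := ⟨bot_le, a, ha, bot_le⟩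
  obtain ⟨Y, -, hY⟩ := (Set.toFinite s).exists_le_maximal hs
  refine ⟨Y, hY.1.1, hY.1.2, fun Y' h1 h2 h3 => le_antisymm (hY.2 ⟨h1, h2⟩ h3) h3⟩

variable {φ}

/-- The `C_r × C_r` lemma in the form needed. -/
theorem exists_mul_pow_mem {r : ℕ} [hr : Fact r.Prime] (hcr : (Nat.card A).Coprime r)
    {T Y : Subgroup H} (hYT : Y ≤ T)
    (hmax : ∀ Y' : Subgroup H, Y' ≤ T → (∃ b : A, b ≠ 0 ∧ Y' ≤ stab φ b) → Y ≤ Y' → Y' = Y)
    {a : A} (ha : a ≠ 0) (haY : Y ≤ stab φ a)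
    {z w : H} (hzT : z ∈ T) (hzr : z ^ r = 1) (hzc : ∀ y ∈ Y, y * z = z * y)
    (hz0 : ∀ b : A, φ z • b = b → b = 0)
    (hwT : w ∈ T) (hwr : w ^ r = 1) (hwc : ∀ y ∈ Y, y * w = w * y) (hwz : w * z = z * w) :
    ∃ i : ℕ, w * z ^ i ∈ Y := by
  have hrp := hr.out
  set W := fixAll φ Y with hW
  have haW : a ∈ W := fun y hy => haY hy
  have hcomm : φ w * φ z = φ z * φ w := by rw [← map_mul, hwz, map_mul]
  have hzp : (φ z) ^ r = 1 := by rw [← map_pow, hzr, map_one]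
  have hwW : ∀ b ∈ W, φ w • b ∈ W := by
    intro b hb y hy
    rw [← mul_smul, ← map_mul, hwc y hy, map_mul, mul_smul, hb y hy]
  have hzW : ∀ k : ℤ, ∀ b ∈ W, (φ z) ^ k • b ∈ W := by
    intro k b hb y hy
    have h1 : Commute (φ y) (φ z) := by
      show φ y * φ z = φ z * φ y
      rw [← map_mul, hzc y hy, map_mul]
    rw [← mul_smul, (h1.zpow_right k).eq, mul_smul, hb y hy]
  have hfpf : ∀ k : ℤ, ¬ (r : ℤ) ∣ k → ∀ b ∈ W, (φ z) ^ k • b = b → b = 0 := by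
    intro k hk b hb hfix
    apply hz0
    have h1 : IsCoprime (r : ℤ) k :=
      ((Nat.prime_iff_prime_int.mp hrp).coprime_iff_not_dvd).2 hk
    obtain ⟨c, d, hcd⟩ := h1
    have h2 : φ z = ((φ z) ^ k) ^ d := by
      rw [← zpow_mul]
      have h3 : k * d = 1 - c * r := by linarith
      rw [h3, zpow_sub, zpow_one, mul_comm c, zpow_mul, zpow_natCast, hzp, one_zpow]
      simp
    have h4 : ((φ z) ^ k) ∈ MulAction.stabilizer (Gam A) b := hfix
    have h5 := Subgroup.zpow_mem _ h4 d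
    rw [← h2] at h5
    exact h5
  have hsum := sum_nrm (p := r) (a := φ w) (z := φ z) (W := W) hcomm hzp hzW hfpf haW
  have hne : r • a ≠ 0 := fun h => ha (nsmul_inj_of_coprime hcr h)
  rw [← hsum] at hne
  obtain ⟨i, -, hi⟩ := Finset.exists_ne_zero_of_sum_ne_zero hne
  have hwp : ∀ b ∈ W, (φ w) ^ r • b = b := by
    intro b _
    rw [← map_pow, hwr, map_one, one_smul]
  obtain ⟨hb1, hb2⟩ := nrm_mem_fix hcomm hzp hwp hwW hzW (i : ℤ) haW
  set b := nrm r (φ w * φ z ^ (i : ℤ)) a with hb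
  refine ⟨i, ?_⟩
  have hg : φ (w * z ^ i) • b = b := by
    rw [map_mul, map_pow, ← zpow_natCast]
    exact hb2
  have hgT : w * z ^ i ∈ T := T.mul_mem hwT (T.pow_mem hzT i)
  have h6 := hmax (Y ⊔ Subgroup.zpowers (w * z ^ i))
    (sup_le hYT ((Subgroup.zpowers_le).2 hgT))
    ⟨b, hi, sup_le (fun y hy => hb1 y hy) ((Subgroup.zpowers_le).2 hg)⟩ le_sup_left
  rw [← h6]
  exact Subgroup.mem_sup_right (Subgroup.mem_zpowers _)

end Fix

section KD

variable {A : Type u} [AddCommGroup A] [Finite A] {H : Type u} [Group H] [Finite H]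
  [Group.IsSolvable H] {φ : H →* Gam A}

/-- The centre of a subgroup, as a subgroup of the ambient group. -/
def ZZ (T : Subgroup H) : Subgroup H := T ⊓ Subgroup.centralizer (T : Set H)

theorem ZZ_le (T : Subgroup H) : ZZ T ≤ T := inf_le_left

theorem ZZ_comm {T : Subgroup H} {ζ t : H} (hζ : ζ ∈ ZZ T) (ht : t ∈ T) : ζ * t = t * ζ :=
  (Subgroup.mem_centralizer_iff.1 hζ.2 t ht).symm

theorem mem_ZZ {T : Subgroup H} {ζ : H} (h1 : ζ ∈ T) (h2 : ∀ t ∈ T, ζ * t = t * ζ) : ζ ∈ ZZ T :=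
  ⟨h1, Subgroup.mem_centralizer_iff.2 fun t ht => (h2 t ht).symm⟩

theorem le_norm {T : Subgroup H} (hTn : T.Normal) (P : Subgroup H) :
    P ≤ Subgroup.normalizer (T : Set H) := by
  intro x _
  rw [Subgroup.mem_normalizer_iff]
  intro t
  refine ⟨fun h => hTn.conj_mem t h x, fun h => ?_⟩
  have := hTn.conj_mem _ h x⁻¹
  simpa [mul_assoc] using this

/-- Data for the maximal fixing subgroup argument. -/
structure KData (φ : H →* Gam A) (r : ℕ) (T P Y : Subgroup H) (z : H) : Prop where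
  hTn : T.Normal
  hcr : (Nat.card A).Coprime r
  hYT : Y ≤ T
  hmax : ∀ Y' : Subgroup H, Y' ≤ T → (∃ b : A, b ≠ 0 ∧ Y' ≤ stab φ b) → Y ≤ Y' → Y' = Y
  hY0 : ∃ a : A, a ≠ 0 ∧ Y ≤ stab φ a
  hzZ : z ∈ ZZ T
  hzr : z ^ r = 1
  hz0 : ∀ b : A, φ z • b = b → b = 0
  hcl : ∀ x ∈ T, ∀ y ∈ T, ⁅x, y⁆ ∈ ZZ T
  hPZ : ∀ x ∈ P, ∀ ζ ∈ ZZ T, x * ζ = ζ * x
  hYP : ∀ y ∈ Y, ∀ x ∈ P, x * y = y * x
  hcop : (Nat.card P).Coprime (Nat.card T)

variable {r : ℕ} {T P Y : Subgroup H} {z : H}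

namespace KData

theorem D_le (h : KData φ r T P Y z) : ⁅T, P⁆ ≤ T :=
  commutator_le_of_le_normalizer (le_norm h.hTn P)

theorem comm_CD (h : KData φ r T P Y z) {c d : H} (hc : c ∈ T) (hcP : ∀ x ∈ P, x * c = c * x)
    (hd : d ∈ ⁅T, P⁆) : c * d = d * c := by
  have hle : ⁅T, P⁆ ≤ Subgroup.centralizer ({c} : Set H) := by
    rw [Subgroup.commutator_le]
    intro t ht x hx
    rw [Subgroup.mem_centralizer_singleton_iff]
    set s := x * t * x⁻¹ with hs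
    have hsT : s ∈ T := h.hTn.conj_mem t ht x
    have hζ := h.hcl c hc t ht
    set ζ := ⁅c, t⁆ with hζd
    have h1 : x * ζ * x⁻¹ = ζ := by rw [h.hPZ x hx ζ hζ]; group
    have h2 : c * s * c⁻¹ = ζ * s := by
      have h3 : x * ζ * x⁻¹ = ⁅c, s⁆ := by
        rw [hζd, hs, commutatorElement_def, commutatorElement_def]
        have h4 : c = x * c * x⁻¹ := by rw [hcP x hx]; group
        conv_rhs => rw [h4]
        group
      rw [h1] at h3
      rw [h3, commutatorElement_def]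
      group
    have h5 : c * t * c⁻¹ = ζ * t := by
      rw [hζd, commutatorElement_def]
      group
    have h6 : ⁅t, x⁆ = t * s⁻¹ := by
      rw [commutatorElement_def, hs]
      group
    rw [h6]
    have h7 : c * (t * s⁻¹) * c⁻¹ = t * s⁻¹ := by
      have h8 : c * (t * s⁻¹) * c⁻¹ = (c * t * c⁻¹) * (c * s * c⁻¹)⁻¹ := by group
      rw [h8, h5, h2, mul_inv_rev]
      have h9 : t * s⁻¹ * ζ⁻¹ = ζ⁻¹ * (t * s⁻¹) :=
        ((Subgroup.mem_centralizer_iff.1 ((ZZ T).inv_mem hζ).2 _ (T.mul_mem ht (T.inv_mem hsT))))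
      calc ζ * t * (s⁻¹ * ζ⁻¹) = ζ * (t * s⁻¹ * ζ⁻¹) := by group
        _ = ζ * (ζ⁻¹ * (t * s⁻¹)) := by rw [h9]
        _ = t * s⁻¹ := by group
    rw [mul_inv_eq_iff_eq_mul] at h7
    exact h7.symm
  have := Subgroup.mem_centralizer_singleton_iff.1 (hle hd)
  exact this.symm

/-- The key lemma. -/
theorem mem_ZZ_of_pow [hr : Fact r.Prime] (h : KData φ r T P Y z) {w ζ : H} (hw : w ∈ ⁅T, P⁆)
    (hζ : ζ ∈ ZZ T) (hwr : (w * ζ) ^ r = 1) : w ∈ ZZ T := by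
  obtain ⟨a, ha, haY⟩ := h.hY0
  have hwT : w ∈ T := h.D_le hw
  have hζT : ζ ∈ T := ZZ_le T hζ
  have hzT : z ∈ T := ZZ_le T h.hzZ
  have hYcomm : ∀ y ∈ Y, y * w = w * y := fun y hy =>
    h.comm_CD (h.hYT hy) (fun x hx => h.hYP y hy x hx) hw
  obtain ⟨i, hi⟩ := exists_mul_pow_mem h.hcr h.hYT h.hmax ha haY hzT h.hzr
    (fun y hy => (ZZ_comm h.hzZ (h.hYT hy)).symm) h.hz0 (T.mul_mem hwT hζT) hwr
    (fun y hy => by
      rw [← mul_assoc, hYcomm y hy, mul_assoc, mul_assoc, (ZZ_comm hζ (h.hYT hy)).symm])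
    (by
      have h1 : w * ζ * z = z * (w * ζ) := (ZZ_comm h.hzZ (T.mul_mem hwT hζT)).symm
      exact h1)
  have hζi : ζ * z ^ i ∈ ZZ T := (ZZ T).mul_mem hζ ((ZZ T).pow_mem h.hzZ i)
  have hw1 : w = (w * ζ * z ^ i) * (ζ * z ^ i)⁻¹ := by group
  have hPw : ∀ x ∈ P, x * w = w * x := by
    intro x hx
    have h1 := h.hYP _ hi x hx
    have h2 := h.hPZ x hx _ hζi
    have hc : Commute x (w * ζ * z ^ i * (ζ * z ^ i)⁻¹) :=
      Commute.mul_right h1 (Commute.inv_right h2)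
    have h5 := hc.eq
    rwa [← hw1] at h5
  refine mem_ZZ hwT fun t ht => ?_
  have hdec := commutator_sup_inf_centralizer (A := P) (K := T) (le_norm h.hTn P) h.hcop
    (Or.inl inferInstance)
  rw [← hdec] at ht
  have hle : ⁅T, P⁆ ⊔ (T ⊓ Subgroup.centralizer (P : Set H)) ≤
      Subgroup.centralizer ({w} : Set H) := by
    refine sup_le ?_ ?_
    · intro d hd
      rw [Subgroup.mem_centralizer_singleton_iff]
      exact (h.comm_CD hwT hPw hd).symm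
    · rintro c ⟨hc1, hc2⟩
      rw [Subgroup.mem_centralizer_singleton_iff]
      exact h.comm_CD hc1 (fun x hx => Subgroup.mem_centralizer_iff.1 hc2 x hx) hw
  have := Subgroup.mem_centralizer_singleton_iff.1 (hle ht)
  exact this.symm

/-- If `P` acts trivially on `[T,P]` modulo the centre, then `P` centralizes `T`. -/
theorem comm_of_comm_mem_ZZ (h : KData φ r T P Y z)
    (hD : ∀ d ∈ ⁅T, P⁆, ∀ x ∈ P, x * d * x⁻¹ * d⁻¹ ∈ ZZ T) :
    ∀ x ∈ P, ∀ t ∈ T, x * t = t * x := by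
  have hn := le_norm h.hTn P
  have hs : Group.IsSolvable P ∨ Group.IsSolvable T := Or.inl inferInstance
  have hDle := h.D_le
  have h1 : ⁅⁅T, P⁆, P⁆ ≤ ZZ T := by
    rw [Subgroup.commutator_le]
    intro d hd x hx
    have h2 := hD d⁻¹ (Subgroup.inv_mem _ hd) x hx
    have h3 : ⁅d, x⁆ = d * (x * d⁻¹ * x⁻¹ * d⁻¹⁻¹) * d⁻¹ := by
      rw [commutatorElement_def]
      group
    rw [h3, ← ZZ_comm h2 (hDle hd)]
    simpa using h2
  have h2 : ⁅⁅⁅T, P⁆, P⁆, P⁆ = ⊥ := by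
    rw [Subgroup.commutator_eq_bot_iff_le_centralizer]
    intro y hy
    rw [Subgroup.mem_centralizer_iff]
    intro x hx
    exact h.hPZ x hx y (h1 hy)
  rw [commutator_commutator_eq (le_normalizer_commutator hn)
    (coprime_of_le hDle h.hcop) (solvable_of_le hDle hs)] at h2
  rw [commutator_commutator_eq hn h.hcop hs] at h2
  intro x hx t ht
  have h3 := Subgroup.commutator_mem_commutator ht hx
  rw [h2, Subgroup.mem_bot, commutatorElement_eq_one_iff_mul_comm] at h3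
  exact h3.symm

theorem conj_mem_D (h : KData φ r T P Y z) {d x : H} (hd : d ∈ ⁅T, P⁆) (hx : x ∈ P) :
    x * d * x⁻¹ ∈ ⁅T, P⁆ :=
  (Subgroup.mem_normalizer_iff.1 (le_normalizer_commutator (le_norm h.hTn P) hx) d).1 hd

/-- The class-two computation. -/
theorem pow_formula (h : KData φ r T P Y z) (hpow : ∀ y ∈ T, y ^ r ∈ ZZ T) {d x : H} (hd : d ∈ T)
    (hx : x ∈ P) :
    ⁅d⁻¹, x * d * x⁻¹⁆ ∈ ZZ T ∧ ⁅d⁻¹, x * d * x⁻¹⁆ ^ r = 1 ∧
      (x * d * x⁻¹ * d⁻¹) ^ r = ⁅d⁻¹, x * d * x⁻¹⁆ ^ (r.choose 2) := by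
  set s := x * d * x⁻¹ with hs
  have hsT : s ∈ T := h.hTn.conj_mem d hd x
  have hd'T : d⁻¹ ∈ T := T.inv_mem hd
  set w := ⁅d⁻¹, s⁆ with hw
  have hwZ : w ∈ ZZ T := h.hcl _ hd'T _ hsT
  have h1 : d⁻¹ * s = w * s * d⁻¹ := by
    rw [hw, commutatorElement_def]
    group
  have hwx : Commute w s := ZZ_comm hwZ hsT
  have hwy : Commute w d⁻¹ := ZZ_comm hwZ hd'T
  refine ⟨hwZ, ?_, ?_⟩
  · have h2 := pow_mul_of_central_comm s d⁻¹ w h1 hwx hwy r
    have h3 : d⁻¹ ^ r * s = s * d⁻¹ ^ r := ZZ_comm (hpow _ hd'T) hsT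
    have h4 : w ^ r * (s * d⁻¹ ^ r) = s * d⁻¹ ^ r := by
      rw [← mul_assoc, ← h2, h3]
    exact mul_eq_right.1 h4
  · have h2 := mul_pow_of_central_comm s d⁻¹ w h1 hwx hwy r
    rw [h2]
    have h3 : s ^ r = d ^ r := by
      rw [hs, conj_pow, h.hPZ x hx _ (hpow d hd)]
      group
    rw [h3, inv_pow]
    group

/-- Odd `r`: `P` centralizes `T`. -/
theorem comm_of_odd [hr : Fact r.Prime] (h : KData φ r T P Y z) (hodd : r ≠ 2)
    (hpow : ∀ y ∈ T, y ^ r ∈ ZZ T) : ∀ x ∈ P, ∀ t ∈ T, x * t = t * x := by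
  apply h.comm_of_comm_mem_ZZ
  intro d hd x hx
  obtain ⟨h1, h2, h3⟩ := h.pow_formula hpow (h.D_le hd) hx
  have hdvd : r ∣ r.choose 2 := by
    have h2r : 2 < r := lt_of_le_of_ne hr.out.two_le (Ne.symm hodd)
    exact hr.out.dvd_choose_self (by norm_num) h2r
  obtain ⟨c, hc⟩ := hdvd
  rw [hc, pow_mul, h2, one_pow] at h3
  have h4 : (x * d * x⁻¹ * d⁻¹) * 1 = x * d * x⁻¹ * d⁻¹ := mul_one _
  refine h.mem_ZZ_of_pow (ζ := 1) ?_ (ZZ T).one_mem (by rw [h4]; exact h3)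
  exact Subgroup.mul_mem _ (h.conj_mem_D hd hx) (Subgroup.inv_mem _ hd)

end KData

/-- In a cyclic group, elements with `a ^ r = b ^ r = 1`, `a ≠ 1` : `b` is a power of `a`. -/
theorem exists_zpow_of_cyclic {M : Subgroup H} (hM : IsCyclic M) {r : ℕ} [hr : Fact r.Prime]
    {a b : H} (ha : a ∈ M) (hb : b ∈ M) (har : a ^ r = 1) (hbr : b ^ r = 1) (ha1 : a ≠ 1) :
    ∃ k : ℤ, b = a ^ k := by
  by_cases hb1 : b = 1
  · exact ⟨0, by simp [hb1]⟩
  have h1 : orderOf (⟨a, ha⟩ : M) = r := by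
    apply orderOf_eq_prime
    · exact Subtype.ext har
    · exact fun h => ha1 (congrArg Subtype.val h)
  have h2 : orderOf (⟨b, hb⟩ : M) = r := by
    apply orderOf_eq_prime
    · exact Subtype.ext hbr
    · exact fun h => hb1 (congrArg Subtype.val h)
  have h3 : Subgroup.zpowers (⟨b, hb⟩ : M) = Subgroup.zpowers (⟨a, ha⟩ : M) := by
    apply Cfsg.Agent.Lib.FpfGeneral.eq_of_card_eq_of_isCyclic
    rw [Nat.card_zpowers, Nat.card_zpowers, h1, h2]
  have h4 : (⟨b, hb⟩ : M) ∈ Subgroup.zpowers (⟨a, ha⟩ : M) := by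
    rw [← h3]
    exact Subgroup.mem_zpowers _
  obtain ⟨k, hk⟩ := h4
  refine ⟨k, ?_⟩
  have := congrArg Subtype.val hk
  simpa using this.symm

variable {z : H}

namespace KData

/-- `r = 2`: the data produced by an element moved by `P` modulo the centre. -/
theorem two_data (h : KData φ 2 T P Y z) (hpow : ∀ y ∈ T, y ^ 2 ∈ ZZ T) (hZc : IsCyclic (ZZ T))
    (hZ2 : IsPGroup 2 (ZZ T)) {d x : H} (hd : d ∈ ⁅T, P⁆) (hx : x ∈ P)
    (hy : x * d * x⁻¹ * d⁻¹ ∉ ZZ T) :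
    ∃ w ∈ ZZ T, w ≠ 1 ∧ w ^ 2 = 1 ∧ (∀ ζ ∈ ZZ T, ζ = 1 ∨ ζ = w) ∧
      (∀ v ∈ ⁅T, P⁆, v ∉ ZZ T → v ^ 2 = w) ∧ d ^ 2 = w ∧ (x * d * x⁻¹) ^ 2 = w ∧
      d * (x * d * x⁻¹) = w * ((x * d * x⁻¹) * d) := by
  haveI : Fact (Nat.Prime 2) := ⟨Nat.prime_two⟩
  have hdT := h.D_le hd
  obtain ⟨h1, h2, h3⟩ := h.pow_formula hpow hdT hx
  rw [show (2 : ℕ).choose 2 = 1 by decide, pow_one] at h3
  set s := x * d * x⁻¹ with hs
  set w := ⁅d⁻¹, s⁆ with hw
  have hsD : s ∈ ⁅T, P⁆ := h.conj_mem_D hd hx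
  have hsT : s ∈ T := h.D_le hsD
  have hyD : s * d⁻¹ ∈ ⁅T, P⁆ := Subgroup.mul_mem _ hsD (Subgroup.inv_mem _ hd)
  have hyT : s * d⁻¹ ∈ T := h.D_le hyD
  -- vanishing square
  have hsq1 : ∀ v ∈ ⁅T, P⁆, v ^ 2 = 1 → v ∈ ZZ T := by
    intro v hv hv2
    exact h.mem_ZZ_of_pow (ζ := 1) hv (ZZ T).one_mem (by rw [mul_one]; exact hv2)
  have hw1 : w ≠ 1 := by
    intro h0
    rw [h0] at h3
    exact hy (hsq1 _ hyD h3)
  have hnsq : ∀ ξ ∈ ZZ T, ξ ^ 2 ≠ w := by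
    intro ξ hξ hξw
    apply hy
    have hc : Commute (s * d⁻¹) ξ⁻¹ := (ZZ_comm ((ZZ T).inv_mem hξ) hyT).symm
    refine h.mem_ZZ_of_pow (ζ := ξ⁻¹) hyD ((ZZ T).inv_mem hξ) ?_
    rw [hc.mul_pow, h3, inv_pow, hξw, mul_inv_cancel]
  have hall : ∀ ξ ∈ ZZ T, ξ ^ 2 = 1 := by
    intro ξ hξ
    by_contra hξ1
    obtain ⟨K, hK⟩ : ∃ K : ℕ, ξ ^ (2 ^ K) = 1 := by
      obtain ⟨k, hk⟩ := IsPGroup.iff_orderOf.1 hZ2 (⟨ξ, hξ⟩ : ZZ T)
      refine ⟨k, ?_⟩
      have : ((⟨ξ, hξ⟩ : ZZ T) : H) ^ (2 ^ k) = 1 := by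
        rw [← Subgroup.coe_pow, ← hk, pow_orderOf_eq_one]
        rfl
      exact this
    classical
    have hex : ∃ m : ℕ, ξ ^ (2 ^ (m + 1)) = 1 := by
      refine ⟨K, ?_⟩
      rw [pow_succ, pow_mul, hK, one_pow]
    set m₀ := Nat.find hex with hm₀
    have hm1 : ξ ^ (2 ^ (m₀ + 1)) = 1 := Nat.find_spec hex
    have hm0 : m₀ ≠ 0 := by
      intro h0
      rw [h0] at hm1
      exact hξ1 (by simpa using hm1)
    obtain ⟨n, hn⟩ := Nat.exists_eq_succ_of_ne_zero hm0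
    have hm2 : ξ ^ (2 ^ (n + 1)) ≠ 1 := by
      have := Nat.find_min hex (m := n) (by omega)
      exact this
    have hη : (ξ ^ (2 ^ n)) ∈ ZZ T := (ZZ T).pow_mem hξ _
    have hη2 : (ξ ^ (2 ^ n)) ^ 2 = ξ ^ (2 ^ (n + 1)) := by
      rw [← pow_mul, pow_succ]
    obtain ⟨k, hk⟩ := exists_zpow_of_cyclic (r := 2) hZc ((ZZ T).pow_mem hη 2) h1
      (by
        rw [hη2, ← pow_mul, ← pow_succ]
        rw [hn] at hm1
        exact hm1) h2 (by rw [hη2]; exact hm2)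
    have hk2 : w = (ξ ^ (2 ^ n)) ^ 2 ∨ w = 1 := by
      have hsq : ((ξ ^ (2 ^ n)) ^ 2) ^ 2 = 1 := by
        rw [hη2, ← pow_mul, ← pow_succ]
        rw [hn] at hm1
        exact hm1
      rcases Int.even_or_odd' k with ⟨c, hc | hc⟩
      · right
        rw [hk, hc, zpow_mul, zpow_ofNat, hsq, one_zpow]
      · left
        rw [hk, hc, zpow_add, zpow_mul, zpow_ofNat, hsq, one_zpow, one_mul, zpow_one]
    rcases hk2 with hk2 | hk2
    · exact hnsq _ hη hk2.symm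
    · exact hw1 hk2
  have hone : ∀ ζ ∈ ZZ T, ζ = 1 ∨ ζ = w := by
    intro ζ hζ
    by_cases hζ1 : ζ = 1
    · exact Or.inl hζ1
    right
    obtain ⟨k, hk⟩ := exists_zpow_of_cyclic (r := 2) hZc hζ h1 (hall ζ hζ) h2 hζ1
    obtain ⟨j, hj⟩ := exists_zpow_of_cyclic (r := 2) hZc h1 hζ h2 (hall ζ hζ) hw1
    rcases Int.even_or_odd' k with ⟨c, hc | hc⟩
    · exfalso
      rw [hc, zpow_mul, zpow_ofNat, hall ζ hζ, one_zpow] at hk
      exact hw1 hk
    · rw [hk, hc, zpow_add, zpow_mul, zpow_ofNat, hall ζ hζ, one_zpow, one_mul, zpow_one]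
  have hsq : ∀ v ∈ ⁅T, P⁆, v ∉ ZZ T → v ^ 2 = w := by
    intro v hv hvZ
    rcases hone _ (hpow v (h.D_le hv)) with h4 | h4
    · exact absurd (hsq1 v hv h4) hvZ
    · exact h4
  have hdZ : d ∉ ZZ T := by
    intro hdZ
    apply hy
    have h4 : s = d := by
      rw [hs, h.hPZ x hx d hdZ]
      group
    rw [h4, mul_inv_cancel]
    exact (ZZ T).one_mem
  have hsZ : s ∉ ZZ T := by
    intro hsZ
    apply hy
    have h4 : d = s := by
      have h5 := h.hPZ x hx s hsZ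
      have h6 : x * d = s * x := by rw [hs]; group
      rw [← h5] at h6
      exact mul_left_cancel h6
    rw [h4]
    have h7 : s * s⁻¹ = 1 := mul_inv_cancel s
    have h8 : x * s * x⁻¹ = s := by
      rw [h.hPZ x hx s hsZ]
      group
    simp only [h8, h7]
    exact (ZZ T).one_mem
  refine ⟨w, h1, hw1, h2, hone, hsq, hsq d hd hdZ, hsq s hsD hsZ, ?_⟩
  -- the commutation relation
  have hw2 : w * w = 1 := by rw [← pow_two, h2]
  have hwd : w * d = d * w := ZZ_comm h1 hdT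
  have hws : w * s = s * w := ZZ_comm h1 hsT
  have h5 : d * w * s = s * d := by
    rw [hw, commutatorElement_def]
    group
  calc d * s = (w * w) * (d * s) := by rw [hw2, one_mul]
    _ = w * ((w * d) * s) := by simp only [mul_assoc]
    _ = w * (d * w * s) := by rw [hwd]
    _ = w * (s * d) := by rw [h5]

/-- `r = 2`, `P` an `ℓ`-group with `ℓ ≠ 2, 3`: `P` centralizes `T`. -/
theorem comm_of_two (h : KData φ 2 T P Y z) (hpow : ∀ y ∈ T, y ^ 2 ∈ ZZ T) (hZc : IsCyclic (ZZ T))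
    (hZ2 : IsPGroup 2 (ZZ T)) {ℓ : ℕ} [hℓ : Fact ℓ.Prime] (hℓ2 : ℓ ≠ 2) (hℓ3 : ℓ ≠ 3)
    (hP : ∀ x ∈ P, ∃ k : ℕ, x ^ (ℓ ^ k) = 1) : ∀ x ∈ P, ∀ t ∈ T, x * t = t * x := by
  apply h.comm_of_comm_mem_ZZ
  intro d hd x hx
  by_contra hy
  obtain ⟨w, hwZ, hw1, hw2, hone, hsq, hi2, hj2, hij⟩ := h.two_data hpow hZc hZ2 hd hx hy
  set s := x * d * x⁻¹ with hs
  have hsD : s ∈ ⁅T, P⁆ := h.conj_mem_D hd hx
  have hsT : s ∈ T := h.D_le hsD
  have hdT : d ∈ T := h.D_le hd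
  have hww : w * w = 1 := by rw [← pow_two, hw2]
  have hwc : ∀ t ∈ T, w * t = t * w := fun t ht => ZZ_comm hwZ ht
  have hconjZ : ∀ u, x * u * x⁻¹ ∈ ZZ T → u ∈ ZZ T := by
    intro u hu
    have h1 : x * (x * u * x⁻¹) = (x * u * x⁻¹) * x := h.hPZ x hx _ hu
    have h2 : u = x * u * x⁻¹ := by
      have h3 : x * u = x * (x * u * x⁻¹) := by
        rw [h1]
        group
      exact mul_left_cancel h3
    rw [h2]
    exact hu
  have hinv : ∀ v, v ^ 2 = w → v⁻¹ = v * w := by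
    intro v hv
    apply inv_eq_of_mul_eq_one_right
    rw [← mul_assoc, ← pow_two, hv, hww]
  have hdZ : d ∉ ZZ T := by
    intro hdZ
    apply hy
    have h4 : s = d := by
      rw [hs, h.hPZ x hx d hdZ]
      group
    rw [h4, mul_inv_cancel]
    exact (ZZ T).one_mem
  have hsZ : s ∉ ZZ T := fun h5 => hdZ (hconjZ d h5)
  have hdsZ : d * s ∉ ZZ T := by
    intro h5
    apply hy
    have h7 : s * d⁻¹ = (d * s) * (d⁻¹ * d⁻¹) := by
      have h8 : d⁻¹ * (d * s) = (d * s) * d⁻¹ := (ZZ_comm h5 (T.inv_mem hdT)).symm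
      calc s * d⁻¹ = (d⁻¹ * (d * s)) * d⁻¹ := by group
        _ = ((d * s) * d⁻¹) * d⁻¹ := by rw [h8]
        _ = _ := by group
    have h9 : d⁻¹ * d⁻¹ = w⁻¹ := by rw [← hi2, pow_two, mul_inv_rev]
    show s * d⁻¹ ∈ ZZ T
    rw [h7, h9]
    exact (ZZ T).mul_mem h5 ((ZZ T).inv_mem hwZ)
  have hc : ∀ v₁ ∈ ⁅T, P⁆, ∀ v₂ ∈ ⁅T, P⁆, v₁ ∉ ZZ T → v₂ ∉ ZZ T → v₁ * v₂ ∉ ZZ T →
      v₁ * v₂ = w * (v₂ * v₁) := by
    intro v₁ h1 v₂ h2 h3 h4 h5
    have h1T := h.D_le h1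
    have h2T := h.D_le h2
    obtain ⟨c, hcd⟩ : ∃ c, c = ⁅v₂, v₁⁆ := ⟨_, rfl⟩
    have hcZ : c ∈ ZZ T := by
      rw [hcd]
      exact h.hcl _ h2T _ h1T
    have h6 : v₂ * v₁ = c * v₁ * v₂ := by
      rw [hcd, commutatorElement_def]
      group
    have h7 := mul_pow_of_central_comm v₁ v₂ c h6 (ZZ_comm hcZ h1T) (ZZ_comm hcZ h2T) 2
    rw [hsq _ (Subgroup.mul_mem _ h1 h2) h5, hsq _ h1 h3, hsq _ h2 h4,
      show (2 : ℕ).choose 2 = 1 by decide, pow_one, hww, one_mul] at h7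
    rw [← h7] at h6
    rw [h6]
    calc v₁ * v₂ = (w * w) * (v₁ * v₂) := by rw [hww, one_mul]
      _ = w * (w * v₁ * v₂) := by simp only [mul_assoc]
  have hinvD : ∀ u ∈ ⁅T, P⁆, u ∉ ZZ T → ∀ v, (∀ ζ ∈ ZZ T, v ≠ u * ζ) → u * v ∉ ZZ T := by
    intro u hu huZ v hne h5
    apply hne (w * (u * v)) ((ZZ T).mul_mem hwZ h5)
    have h6 := hinv u (hsq u hu huZ)
    calc v = u⁻¹ * (u * v) := by group
      _ = (u * w) * (u * v) := by rw [h6]
      _ = u * (w * (u * v)) := by simp only [mul_assoc]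
  have hdsD : d * s ∈ ⁅T, P⁆ := Subgroup.mul_mem _ hd hsD
  have hdec : ∀ v ∈ ⁅T, P⁆, v ∉ ZZ T → ∃ ζ ∈ ZZ T, v = d * ζ ∨ v = s * ζ ∨ v = d * s * ζ := by
    intro v hv hvZ
    by_contra hcon
    push Not at hcon
    have e1 := hc d hd v hv hdZ hvZ (hinvD d hd hdZ v fun ζ hζ => (hcon ζ hζ).1)
    have e2 := hc s hsD v hv hsZ hvZ (hinvD s hsD hsZ v fun ζ hζ => (hcon ζ hζ).2.1)
    have e3 := hc (d * s) hdsD v hv hdsZ hvZ (hinvD (d * s) hdsD hdsZ v fun ζ hζ => (hcon ζ hζ).2.2)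
    have e4 : (d * s) * v = v * (d * s) := by
      calc (d * s) * v = d * (s * v) := mul_assoc ..
        _ = d * (w * (v * s)) := by rw [e2]
        _ = (d * w) * (v * s) := by simp only [mul_assoc]
        _ = (w * d) * (v * s) := by rw [hwc d hdT]
        _ = w * ((d * v) * s) := by simp only [mul_assoc]
        _ = w * ((w * (v * d)) * s) := by rw [e1]
        _ = (w * w) * (v * (d * s)) := by simp only [mul_assoc]
        _ = v * (d * s) := by rw [hww, one_mul]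
    rw [e4] at e3
    exact hw1 (mul_eq_right.1 e3.symm)
  have hkD : x * s * x⁻¹ ∈ ⁅T, P⁆ := h.conj_mem_D hsD hx
  have hkZ : x * s * x⁻¹ ∉ ZZ T := fun h5 => hsZ (hconjZ s h5)
  let F : ℕ → Prop := fun n => ∃ ζ ∈ ZZ T, x ^ n * d * (x ^ n)⁻¹ = d * ζ
  have hFadd : ∀ a b, F a → F b → F (a + b) := by
    rintro a b ⟨ζa, hζa, ha⟩ ⟨ζb, hζb, hb⟩
    refine ⟨ζa * ζb, (ZZ T).mul_mem hζa hζb, ?_⟩
    have hxa := h.hPZ (x ^ a) (P.pow_mem hx a) ζb hζb
    calc x ^ (a + b) * d * (x ^ (a + b))⁻¹ = x ^ a * (x ^ b * d * (x ^ b)⁻¹) * (x ^ a)⁻¹ := by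
          rw [pow_add]
          group
      _ = x ^ a * (d * ζb) * (x ^ a)⁻¹ := by rw [hb]
      _ = (x ^ a * d * (x ^ a)⁻¹) * (x ^ a * ζb) * (x ^ a)⁻¹ := by group
      _ = (d * ζa) * (ζb * x ^ a) * (x ^ a)⁻¹ := by rw [ha, hxa]
      _ = d * (ζa * ζb) := by group
  have hFmul : ∀ a m, F a → F (a * m) := by
    intro a m ha
    induction m with
    | zero => exact ⟨1, (ZZ T).one_mem, by simp⟩
    | succ m ih =>
      rw [Nat.mul_succ]
      exact hFadd _ _ ih ha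
  have hxx : ∀ ζ ∈ ZZ T, x * ζ * x⁻¹ = ζ := by
    intro ζ hζ
    rw [h.hPZ x hx ζ hζ]
    group
  have hF6 : F 6 := by
    obtain ⟨ζ, hζ, h1 | h1 | h1⟩ := hdec _ hkD hkZ
    · have h2 : F 2 := by
        refine ⟨ζ, hζ, ?_⟩
        rw [← h1, pow_two, hs]
        group
      exact hFmul 2 3 h2
    · exfalso
      apply hy
      have h2 : x * (s * d⁻¹) * x⁻¹ = ζ := by
        calc x * (s * d⁻¹) * x⁻¹ = (x * s * x⁻¹) * (x * d * x⁻¹)⁻¹ := by group
          _ = (s * ζ) * s⁻¹ := by rw [h1]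
          _ = (ζ * s) * s⁻¹ := by rw [ZZ_comm hζ hsT]
          _ = ζ := by group
      exact hconjZ (s * d⁻¹) (h2 ▸ hζ)
    · have hsd : s * d = w * (d * s) := by
        rw [hij, ← mul_assoc, hww, one_mul]
      have hss : s * s = w := by rw [← pow_two, hj2]
      have hsds : s * d * s = d := by
        calc s * d * s = (w * (d * s)) * s := by rw [hsd]
          _ = (w * d) * (s * s) := by simp only [mul_assoc]
          _ = (d * w) * w := by rw [hwc d hdT, hss]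
          _ = d * (w * w) := mul_assoc ..
          _ = d := by rw [hww, mul_one]
      have h2 : F 3 := by
        refine ⟨ζ * ζ, (ZZ T).mul_mem hζ hζ, ?_⟩
        calc x ^ 3 * d * (x ^ 3)⁻¹ = x * (x * s * x⁻¹) * x⁻¹ := by
              rw [hs, pow_succ, pow_two]
              group
          _ = x * (d * s * ζ) * x⁻¹ := by rw [h1]
          _ = (x * d * x⁻¹) * (x * s * x⁻¹) * (x * ζ * x⁻¹) := by group
          _ = s * (d * s * ζ) * ζ := by rw [← hs, h1, hxx ζ hζ]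
          _ = (s * d * s) * (ζ * ζ) := by simp only [mul_assoc]
          _ = d * (ζ * ζ) := by rw [hsds]
      exact hFmul 3 2 h2
  obtain ⟨k₀, hk₀⟩ := hP x hx
  have hcop6 : Nat.Coprime 6 (ℓ ^ k₀) := by
    apply Nat.Coprime.pow_right
    have h2 : Nat.Coprime 2 ℓ := (Nat.coprime_primes Nat.prime_two hℓ.out).2 hℓ2.symm
    have h3 : Nat.Coprime 3 ℓ := (Nat.coprime_primes Nat.prime_three hℓ.out).2 hℓ3.symm
    exact Nat.Coprime.mul_left h2 h3
  have hfin : F 1 := by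
    by_cases hN : ℓ ^ k₀ = 1
    · rw [hN, pow_one] at hk₀
      exact ⟨1, (ZZ T).one_mem, by simp [hk₀]⟩
    · have h1lt : 1 < ℓ ^ k₀ := by
        have := Nat.pos_of_ne_zero (pow_ne_zero k₀ hℓ.out.ne_zero)
        omega
      obtain ⟨m, -, hm⟩ := Nat.exists_mul_mod_eq_one_of_coprime hcop6 h1lt
      obtain ⟨ζ, hζ, h1⟩ := hFmul 6 m hF6
      have hpw : x ^ (6 * m) = x := by
        rw [pow_eq_pow_mod (6 * m) hk₀, hm, pow_one]
      rw [hpw] at h1
      exact ⟨ζ, hζ, by rw [pow_one]; exact h1⟩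
  obtain ⟨ζ, hζ, h1⟩ := hfin
  rw [pow_one] at h1
  apply hy
  show s * d⁻¹ ∈ ZZ T
  rw [show s = d * ζ from h1, ← ZZ_comm hζ hdT]
  simpa using hζ

end KData

end KD

section Q8

variable {A : Type u} [AddCommGroup A] [Finite A] {H : Type u} [Group H] [Finite H] {φ : H →* Gam A}

theorem alg1 (h α β : ℤ) (c u v n : A) :
    (h • (c + α • u + β • v) + α • h • (u + α • -c + β • n) + β • h • (v + α • -n + β • -c))
      = h • ((2 : ℤ) • (c + α • u + β • v) - (α * α + β * β + 1) • c) := by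
  module

theorem alg2 (h β : ℤ) (x : A) : (2 * h) • (β • x) = h • ((2 * β) • x) := by
  module

theorem alg3 (α β : ℤ) (c : A) : (α * α + β * β + 1) • c = α • (α • c) + β • (β • c) + c := by
  module

theorem alg4 (h : ℤ) (x : A) : h • (h • ((2 : ℤ) • x)) = h • ((2 * h) • x) := by
  module

theorem alg5 (α β : ℤ) (c n : A) :
    (2 * β) • n = (α • -c + β • n) - (α • -c + β • -n) := by
  module

theorem alg6 (α β : ℤ) (c n : A) :
    (2 * α) • n = (α • n + β • -c) - (α • -n + β • -c) := by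
  module

theorem alg7 (h : ℤ) (x : A) : (2 * h) • x = (2 : ℤ) • (h • x) := by
  module

/-- A quaternion-type pair commuting with all Sylow `ν`-subgroups yields an idempotent. -/
theorem false_of_Q8 {ν t : ℕ} [hνp : Fact ν.Prime] [ht : Fact t.Prime] (hφ : Function.Injective φ)
    (hd : ν ∣ Nat.card H) (hν : H1 φ ν) (htA : ∀ a : A, t • a = 0) [Nontrivial A]
    {i j w : H} (hw2 : w ^ 2 = 1) (hw0 : ∀ b : A, φ w • b = b → b = 0) (hi : i ^ 2 = w)
    (hj : j ^ 2 = w) (hij : i * j = w * (j * i))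
    (hc : ∀ Q : Sylow ν H, ∀ x ∈ (Q : Subgroup H), x * i = i * x ∧ x * j = j * x) : False := by
  have htp := ht.out
  have hneg : ∀ b : A, φ w • b = -b := by
    intro b
    have h1 : φ w • (φ w • b + b) = φ w • b + b := by
      rw [smul_add, ← mul_smul, ← map_mul, ← pow_two, hw2, map_one, one_smul, add_comm]
    have h2 := hw0 _ h1
    exact eq_neg_of_add_eq_zero_left h2
  have hII : ∀ c : A, φ i • φ i • c = -c := by
    intro c
    rw [← mul_smul, ← map_mul, ← pow_two, hi, hneg]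
  have hJJ : ∀ c : A, φ j • φ j • c = -c := by
    intro c
    rw [← mul_smul, ← map_mul, ← pow_two, hj, hneg]
  have hIJ : ∀ c : A, φ j • φ i • c = -(φ i • φ j • c) := by
    intro c
    have h1 : φ i • φ j • c = -(φ j • φ i • c) := by
      rw [← mul_smul, ← map_mul, hij, map_mul, mul_smul, hneg, map_mul, mul_smul]
    rw [h1, neg_neg]
  obtain ⟨b₀, hb₀⟩ := exists_ne (0 : A)
  have ht2 : t ≠ 2 := by
    intro h2
    apply hb₀
    apply hw0
    rw [hneg]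
    have h3 : (2 : ℕ) • b₀ = 0 := by
      rw [← h2]
      exact htA b₀
    rw [two_smul] at h3
    exact (eq_neg_of_add_eq_zero_left h3).symm
  have hzt : ∀ a : A, (t : ℤ) • a = 0 := by
    intro a
    rw [natCast_zsmul]
    exact htA a
  obtain ⟨a', b', hab⟩ := ZMod.sq_add_sq t (-1 : ZMod t)
  obtain ⟨α, hα⟩ : ∃ α : ℤ, (α : ZMod t) = a' := ZMod.intCast_surjective a'
  obtain ⟨β, hβ⟩ : ∃ β : ℤ, (β : ZMod t) = b' := ZMod.intCast_surjective b'
  have hdvd : (t : ℤ) ∣ α * α + β * β + 1 := by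
    rw [← ZMod.intCast_zmod_eq_zero_iff_dvd]
    push_cast
    rw [hα, hβ, ← pow_two, ← pow_two, hab]
    ring
  have hsum : ∀ c : A, (α * α + β * β + 1) • c = 0 := by
    intro c
    obtain ⟨q, hq⟩ := hdvd
    rw [hq, mul_comm, mul_smul, hzt, smul_zero]
  obtain ⟨q, hq⟩ : ∃ q : ℕ, t = 2 * q + 1 := (htp.odd_of_ne_two ht2)
  obtain ⟨h, hh⟩ : ∃ h : ℤ, h = (q : ℤ) + 1 := ⟨_, rfl⟩
  have h2h : ∀ c : A, (2 * h) • c = c := by
    intro c
    have h3 : 2 * h = (t : ℤ) + 1 := by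
      rw [hq, hh]
      push_cast
      ring
    rw [h3, add_smul, hzt, zero_add, one_smul]
  have hcm : ∀ (g : Gam A) (k : ℤ) (c : A), g • (k • c) = k • (g • c) := fun g k c => smul_comm g k c
  let e : AddMonoid.End A := h • ((1 : AddMonoid.End A) + α • ((φ i : Gam A) : AddMonoid.End A)
    + β • ((φ j : Gam A) : AddMonoid.End A))
  have he : ∀ c : A, e c = h • (c + α • (φ i • c) + β • (φ j • c)) := fun c => rfl
  have heG : ∀ (g : Gam A) (c : A), g • e c = h • (g • c + α • (g • φ i • c) + β • (g • φ j • c)) := by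
    intro g c
    rw [he, hcm g h, smul_add g, smul_add g, hcm g α, hcm g β]
  have hEI : ∀ c : A, φ i • e c = h • (φ i • c + α • -c + β • (φ i • φ j • c)) := by
    intro c
    rw [heG, hII]
  have hEJ : ∀ c : A, φ j • e c = h • (φ j • c + α • -(φ i • φ j • c) + β • -c) := by
    intro c
    rw [heG, hIJ, hJJ]
  have hidem : e * e = e := by
    apply AddMonoidHom.ext
    intro c
    show e (e c) = e c
    rw [he (e c), hEI, hEJ, he c, alg1, hsum, sub_zero, alg4, h2h]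
  have hnotscal : ∀ ε : ℤ, ¬ ∀ c : A, α • (φ i • c) + β • (φ j • c) = ε • c := by
    intro ε hε
    have key1 : ∀ c : A, (2 * β) • (φ i • φ j • c) = 0 := by
      intro c
      have h1 := hε (φ i • c)
      rw [hII, hIJ] at h1
      have h2 := congrArg (fun y => φ i • y) (hε c)
      simp only [smul_add] at h2
      rw [hcm, hcm, hcm, hII] at h2
      rw [alg5 α β c, h2, h1, sub_self]
    have key2 : ∀ c : A, (2 * α) • (φ i • φ j • c) = 0 := by
      intro c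
      have h1 := hε (φ j • c)
      rw [hJJ] at h1
      have h2 := congrArg (fun y => φ j • y) (hε c)
      simp only [smul_add] at h2
      rw [hcm, hcm, hcm, hIJ, hJJ] at h2
      rw [alg6 α β c, h1, h2, sub_self]
    have hsurj : ∀ c : A, ∃ c' : A, φ i • φ j • c' = c := by
      intro c
      refine ⟨(φ j)⁻¹ • (φ i)⁻¹ • c, ?_⟩
      simp
    have hβ0 : ∀ c : A, β • c = 0 := by
      intro c
      obtain ⟨c', rfl⟩ := hsurj c
      rw [← h2h (β • _), alg2, key1, smul_zero]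
    have hα0 : ∀ c : A, α • c = 0 := by
      intro c
      obtain ⟨c', rfl⟩ := hsurj c
      rw [← h2h (α • _), alg2, key2, smul_zero]
    apply hb₀
    have h3 := hsum b₀
    rw [alg3, hα0, hβ0, zero_add, zero_add] at h3
    exact h3
  have he0 : e ≠ 0 := by
    intro h0
    apply hnotscal (-1)
    intro c
    have h1 : e c = 0 := by rw [h0]; rfl
    have h3 := h2h (c + α • (φ i • c) + β • (φ j • c))
    rw [alg7, ← he c, h1, smul_zero] at h3
    rw [neg_one_zsmul, eq_neg_iff_add_eq_zero, add_comm, ← add_assoc]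
    exact h3.symm
  have he1 : e ≠ 1 := by
    intro h0
    apply hnotscal 1
    intro c
    have h1 : e c = c := by rw [h0]; rfl
    have h3 := h2h (c + α • (φ i • c) + β • (φ j • c))
    rw [alg7, ← he c, h1, two_zsmul, add_assoc] at h3
    rw [one_zsmul]
    exact (add_left_cancel h3).symm
  refine false_of_idem hφ hd hν e hidem he0 he1 ?_
  intro Q x hx b
  have hxi : ∀ c : A, φ x • φ i • c = φ i • φ x • c := by
    intro c
    rw [← mul_smul, ← map_mul, (hc Q x hx).1, map_mul, mul_smul]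
  have hxj : ∀ c : A, φ x • φ j • c = φ j • φ x • c := by
    intro c
    rw [← mul_smul, ← map_mul, (hc Q x hx).2, map_mul, mul_smul]
  rw [heG, he, hxi, hxj]

end Q8

end Cfsg.Agent.Lib.PalfyB
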