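import Mathlib
import Cfsg.Prelude.Def_Solvable
import Cfsg.Agent.Lib.PCore
import Cfsg.Agent.Lib.PSolv
import Cfsg.Agent.Lib.CoprimeHyper

/-!
# Commuting Sylow subgroups: the group theory

Elementwise lemmas about commuting Sylow subgroups of `p`-solvable groups, used for the theorem on
principal blocks.
-/

set_option autoImplicit false
set_option linter.unusedSectionVars false
set_option linter.unusedVariables false
set_option linter.style.haveILetI false

open Cfsg Cfsg.Agent.Lib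
open scoped Pointwise

namespace Cfsg.Agent.Lib.SylowCommute

universe u

section Elem

variable {X : Type*} [Group X]

/-- An element killed by two coprime exponents is trivial. -/
theorem eq_one_of_pow_coprime {x : X} {a b : ℕ} (h : a.Coprime b) (ha : x ^ a = 1) (hb : x ^ b = 1) :
    x = 1 := by
  have h1 := orderOf_dvd_of_pow_eq_one ha
  have h2 := orderOf_dvd_of_pow_eq_one hb
  have h3 : orderOf x = 1 := Nat.Coprime.eq_one_of_dvd (Nat.Coprime.coprime_dvd_left h1 h) h2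
  exact orderOf_eq_one_iff.mp h3

/-- An element of a `p`-group and of a `q`-group is trivial. -/
theorem eq_one_of_isPGroup {p q : ℕ} [Fact p.Prime] [Fact q.Prime] (hpq : p ≠ q) {A B : Subgroup X}
    (hA : IsPGroup p A) (hB : IsPGroup q B) {x : X} (h1 : x ∈ A) (h2 : x ∈ B) : x = 1 := by
  obtain ⟨a, ha⟩ := hA ⟨x, h1⟩
  obtain ⟨b, hb⟩ := hB ⟨x, h2⟩
  have ha' : x ^ p ^ a = 1 := by simpa using congrArg Subtype.val ha
  have hb' : x ^ q ^ b = 1 := by simpa using congrArg Subtype.val hb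
  refine eq_one_of_pow_coprime ?_ ha' hb'
  exact Nat.Coprime.pow _ _ ((Nat.coprime_primes Fact.out Fact.out).mpr hpq)

variable [Finite X]

/-- A power of a `p`-element, coprime to `|A|`. -/
theorem eq_one_of_mem_of_not_dvd {p : ℕ} [hp : Fact p.Prime] {A B : Subgroup X} (hA : IsPGroup p A)
    (hB : ¬ p ∣ Nat.card B) {x : X} (h1 : x ∈ A) (h2 : x ∈ B) : x = 1 := by
  obtain ⟨a, ha⟩ := hA ⟨x, h1⟩
  have ha' : x ^ p ^ a = 1 := by simpa using congrArg Subtype.val ha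
  have hb : (⟨x, h2⟩ : B) ^ Nat.card B = 1 := pow_card_eq_one'
  have hb' : x ^ Nat.card B = 1 := by
    have := congrArg Subtype.val hb
    simpa only [SubmonoidClass.coe_pow, OneMemClass.coe_one] using this
  refine eq_one_of_pow_coprime ?_ ha' hb'
  exact Nat.Coprime.pow_left _ ((Nat.Prime.coprime_iff_not_dvd hp.out).mpr hB)

/-- In a finite group a conjugation mapping a subgroup into itself maps it onto itself. -/
theorem inv_conj_mem {A : Subgroup X} {g : X} (h : ∀ x ∈ A, g * x * g⁻¹ ∈ A) :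
    ∀ x ∈ A, g⁻¹ * x * g ∈ A := by
  classical
  letI := Fintype.ofFinite A
  let f : A → A := fun x => ⟨g * x * g⁻¹, h x x.2⟩
  have hf : Function.Injective f := by
    intro a b hab
    have h1 : g * (a : X) * g⁻¹ = g * (b : X) * g⁻¹ := congrArg Subtype.val hab
    apply Subtype.ext
    simpa using h1
  have hs : Function.Surjective f := Finite.surjective_of_injective hf
  intro x hx
  obtain ⟨y, hy⟩ := hs ⟨x, hx⟩
  have h1 : g * (y : X) * g⁻¹ = x := congrArg Subtype.val hy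
  rw [← h1]
  simp [mul_assoc]

/-- Elementwise conjugacy of Sylow subgroups inside a subgroup containing both. -/
theorem exists_conj_in {p : ℕ} [Fact p.Prime] (H : Subgroup X) (A B : Sylow p X)
    (hA : (A : Subgroup X) ≤ H) (hB : (B : Subgroup X) ≤ H) :
    ∃ h ∈ H, ∀ x ∈ (A : Subgroup X), h * x * h⁻¹ ∈ (B : Subgroup X) := by
  obtain ⟨h, hh⟩ := MulAction.exists_smul_eq H (A.subtype hA) (B.subtype hB)
  refine ⟨h, h.2, fun x hx => ?_⟩
  have h1 : (⟨x, hA hx⟩ : H) ∈ (A.subtype hA : Subgroup H) := by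
    rw [Sylow.coe_subtype]
    exact hx
  have h2 : MulAut.conj h • (⟨x, hA hx⟩ : H) ∈ ((h • (A.subtype hA) : Sylow p H) : Subgroup H) := by
    rw [Sylow.coe_subgroup_smul]
    exact Subgroup.smul_mem_pointwise_smul _ _ _ h1
  rw [hh, Sylow.coe_subtype] at h2
  exact h2

/-- Elementwise conjugacy of Sylow subgroups. -/
theorem exists_conj_iff {p : ℕ} [Fact p.Prime] (A B : Sylow p X) :
    ∃ g : X, ∀ x, x ∈ (B : Subgroup X) ↔ g⁻¹ * x * g ∈ (A : Subgroup X) := by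
  obtain ⟨g, hg⟩ := MulAction.exists_smul_eq X A B
  refine ⟨g, fun x => ?_⟩
  rw [← hg, Sylow.coe_subgroup_smul, PCore.mem_conj_smul_iff]

/-- The conjugate of a Sylow subgroup, elementwise. -/
theorem exists_conj_sylow {p : ℕ} [Fact p.Prime] (A : Sylow p X) (g : X) :
    ∃ B : Sylow p X, ∀ x, x ∈ (B : Subgroup X) ↔ g⁻¹ * x * g ∈ (A : Subgroup X) := by
  refine ⟨g • A, fun x => ?_⟩
  rw [Sylow.coe_subgroup_smul, PCore.mem_conj_smul_iff]

/-- A `q`-subgroup at least as large as a Sylow subgroup is Sylow. -/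
theorem exists_sylow_eq {q : ℕ} [Fact q.Prime] {R : Subgroup X} (hR : IsPGroup q R) (S : Sylow q X)
    (hS : Nat.card S ≤ Nat.card R) : ∃ R₁ : Sylow q X, (R₁ : Subgroup X) = R := by
  obtain ⟨R₁, hR₁⟩ := hR.exists_le_sylow
  refine ⟨R₁, (Subgroup.eq_of_le_of_card_ge hR₁ ?_).symm⟩
  have h1 : Nat.card R₁ = Nat.card S := by
    rw [Sylow.card_eq_multiplicity, Sylow.card_eq_multiplicity]
  rw [h1]
  exact hS

/-- The coprime fixed point: a `p`-group normalizing a `p'`-group `Z` containing a Sylow `q`-subgroup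
of the group normalizes a Sylow `q`-subgroup of the group contained in `Z`. -/
theorem exists_invariant_sylow_le {p q : ℕ} [Fact p.Prime] [Fact q.Prime] {A Z : Subgroup X}
    (hA : IsPGroup p A) (hZ : ¬ p ∣ Nat.card Z) (hAZ : ∀ a ∈ A, ∀ z ∈ Z, a * z * a⁻¹ ∈ Z)
    (S : Sylow q X) (hS : (S : Subgroup X) ≤ Z) :
    ∃ R : Sylow q X, (R : Subgroup X) ≤ Z ∧ ∀ a ∈ A, ∀ x ∈ (R : Subgroup X), a * x * a⁻¹ ∈ (R : Subgroup X) := by
  have hAX : A ≤ Subgroup.normalizer (Z : Set X) := by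
    intro a ha
    rw [Subgroup.mem_normalizer_iff]
    intro h
    constructor
    · exact fun hh => hAZ a ha h hh
    · intro hh
      have := hAZ a⁻¹ (A.inv_mem ha) _ hh
      simpa [mul_assoc] using this
  obtain ⟨R₀, hR₀⟩ := CoprimeHyper.exists_invariant_sylow (q := q) A Z hA hZ hAX
  set R' : Subgroup X := (R₀ : Subgroup Z).map Z.subtype with hR'
  have hR'q : IsPGroup q R' := R₀.isPGroup'.map _
  have hcard : Nat.card S ≤ Nat.card R' := by
    have h1 : Nat.card R' = Nat.card R₀ := by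
      rw [hR']
      exact Subgroup.card_map_of_injective Z.subtype_injective
    rw [h1, Sylow.card_eq_multiplicity, Sylow.card_eq_multiplicity]
    have h2 : Nat.card S ∣ Nat.card Z := Subgroup.card_dvd_of_le hS
    rw [Sylow.card_eq_multiplicity] at h2
    exact Nat.le_of_dvd (pow_pos (Fact.out : q.Prime).pos _)
      ((Nat.Prime.pow_dvd_iff_le_factorization Fact.out Nat.card_pos.ne').mp h2 |>
        fun h => pow_dvd_pow q h)
  obtain ⟨R, hR⟩ := exists_sylow_eq hR'q S hcard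
  refine ⟨R, ?_, ?_⟩
  · rw [hR, hR']
    rintro _ ⟨y, _, rfl⟩
    exact y.2
  · rw [hR]
    exact hR₀

variable {p q : ℕ} [hp : Fact p.Prime] [hq : Fact q.Prime]

include hp hq in
/-- A `q`-subgroup centralizing a Sylow `p`-subgroup of a `p`-solvable group lies in `O_{p'}`. -/
theorem le_pPrimeCore_of_commute (hpq : p ≠ q) (hsol : IsPSolvable p X) (P : Sylow p X)
    {Q : Subgroup X} (hQ : IsPGroup q Q) (hc : ∀ x ∈ (P : Subgroup X), ∀ y ∈ Q, x * y = y * x) :
    Q ≤ pPrimeCore p X := by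
  set K := pPrimeCore p X with hK
  let π := QuotientGroup.mk' K
  have hπ : Function.Surjective π := QuotientGroup.mk'_surjective K
  have h0 : pPrimeCore p (X ⧸ K) = ⊥ :=
    PSolv.pPrimeCore_eq_bot_of_surjective p π hπ (QuotientGroup.ker_mk' K)
  have hH := PSolv.centralizer_pCore_le_of_pSolvable (PSolv.isPSolvable_quotient hsol K) h0
  intro y hy
  have h1 : π y ∈ Subgroup.centralizer (pCore p (X ⧸ K) : Set (X ⧸ K)) := by
    rw [Subgroup.mem_centralizer_iff]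
    intro z hz
    have h2 : z ∈ ((P.mapSurjective hπ : Sylow p (X ⧸ K)) : Subgroup (X ⧸ K)) :=
      PCore.pCore_le_sylow p _ hz
    rw [Sylow.coe_mapSurjective] at h2
    obtain ⟨x, hx, rfl⟩ := h2
    rw [← map_mul, ← map_mul, hc x hx y hy]
  have h3 := hH h1
  obtain ⟨a, ha⟩ := PCore.isPGroup_pCore p (G := X ⧸ K) ⟨π y, h3⟩
  obtain ⟨b, hb⟩ := hQ ⟨y, hy⟩
  have ha' : π y ^ p ^ a = 1 := by simpa using congrArg Subtype.val ha
  have hb' : y ^ q ^ b = 1 := by simpa using congrArg Subtype.val hb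
  have hb'' : π y ^ q ^ b = 1 := by rw [← map_pow, hb', map_one]
  have h4 : π y = 1 := eq_one_of_pow_coprime
    (Nat.Coprime.pow _ _ ((Nat.coprime_primes hp.out hq.out).mpr hpq)) ha' hb''
  exact (QuotientGroup.eq_one_iff y).mp h4

include hp hq in
/-- **Stabilizer lemma.** If `P`, `Q` are commuting Sylow subgroups of a `p`-solvable group and `Y ≥ P`
contains a Sylow `q`-subgroup, then `Y` contains a conjugate of `Q` under `N(P)`. -/
theorem exists_normalizer_conj_le (hpq : p ≠ q) (hsol : IsPSolvable p X) (P : Sylow p X)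
    (Q : Sylow q X) (hc : ∀ x ∈ (P : Subgroup X), ∀ y ∈ (Q : Subgroup X), x * y = y * x)
    (Y : Subgroup X) (hPY : (P : Subgroup X) ≤ Y) (S : Sylow q X) (hS : (S : Subgroup X) ≤ Y) :
    ∃ n : X, (∀ x ∈ (P : Subgroup X), n * x * n⁻¹ ∈ (P : Subgroup X)) ∧
      ∀ y ∈ (Q : Subgroup X), n * y * n⁻¹ ∈ Y := by
  set M := pPrimeCore p X with hM
  have hQM : (Q : Subgroup X) ≤ M := le_pPrimeCore_of_commute hpq hsol P Q.isPGroup' hc
  have hSM : (S : Subgroup X) ≤ M := by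
    obtain ⟨g, hg⟩ := exists_conj_iff Q S
    intro s hs
    have h1 := hQM ((hg s).mp hs)
    have h2 := (inferInstance : M.Normal).conj_mem _ h1 g
    simpa [mul_assoc] using h2
  have hZp : ¬ p ∣ Nat.card ↥(M ⊓ Y) := by
    intro h
    apply PCore.not_dvd_card_pPrimeCore (G := X) p
    exact h.trans (Subgroup.card_dvd_of_le inf_le_left)
  have hPZ : ∀ a ∈ (P : Subgroup X), ∀ z ∈ M ⊓ Y, a * z * a⁻¹ ∈ M ⊓ Y := by
    intro a ha z hz
    exact ⟨(inferInstance : M.Normal).conj_mem _ hz.1 a,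
      Y.mul_mem (Y.mul_mem (hPY ha) hz.2) (Y.inv_mem (hPY ha))⟩
  obtain ⟨R, hRZ, hRP⟩ := exists_invariant_sylow_le P.isPGroup' hZp hPZ S (le_inf hSM hS)
  obtain ⟨g, hg⟩ := exists_conj_iff Q R
  obtain ⟨P₂, hP₂⟩ := exists_conj_sylow P g
  -- both normalize `R`
  set Nm := Subgroup.normalizer ((R : Subgroup X) : Set X) with hNm
  have hPNm : (P : Subgroup X) ≤ Nm := by
    intro a ha
    rw [hNm, Subgroup.mem_normalizer_iff]
    intro h
    constructor
    · exact fun hh => hRP a ha h hh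
    · intro hh
      have := hRP a⁻¹ (Subgroup.inv_mem _ ha) _ hh
      simpa [mul_assoc] using this
  have hP₂Nm : (P₂ : Subgroup X) ≤ Nm := by
    intro a ha
    rw [hNm, Subgroup.mem_normalizer_iff]
    have hx := (hP₂ a).mp ha
    have key : ∀ h, g⁻¹ * (a * h * a⁻¹) * g = g⁻¹ * h * g ∨ True := fun _ => Or.inr trivial
    have hcomm : ∀ y ∈ (Q : Subgroup X), a * (g * y * g⁻¹) * a⁻¹ = g * y * g⁻¹ := by
      intro y hy
      have h1 := hc _ hx y hy
      have h2 : a = g * (g⁻¹ * a * g) * g⁻¹ := by group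
      rw [h2]
      calc g * (g⁻¹ * a * g) * g⁻¹ * (g * y * g⁻¹) * (g * (g⁻¹ * a * g) * g⁻¹)⁻¹
          = g * ((g⁻¹ * a * g) * y) * (g⁻¹ * a * g)⁻¹ * g⁻¹ := by group
        _ = g * (y * (g⁻¹ * a * g)) * (g⁻¹ * a * g)⁻¹ * g⁻¹ := by rw [h1]
        _ = g * y * g⁻¹ := by group
    intro h
    constructor
    · intro hh
      have h1 := (hg h).mp hh
      have h2 := hcomm _ h1
      have h3 : g * (g⁻¹ * h * g) * g⁻¹ = h := by group
      rw [h3] at h2
      rw [h2]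
      exact hh
    · intro hh
      have h1 := (hg _).mp hh
      -- the conjugate by `a⁻¹` is again in `R`
      have ha' : a⁻¹ ∈ (P₂ : Subgroup X) := Subgroup.inv_mem _ ha
      have hx' := (hP₂ a⁻¹).mp ha'
      have hcomm' : ∀ y ∈ (Q : Subgroup X), a⁻¹ * (g * y * g⁻¹) * a⁻¹⁻¹ = g * y * g⁻¹ := by
        intro y hy
        have h1 := hc _ hx' y hy
        have h2 : a⁻¹ = g * (g⁻¹ * a⁻¹ * g) * g⁻¹ := by group
        rw [h2]
        calc g * (g⁻¹ * a⁻¹ * g) * g⁻¹ * (g * y * g⁻¹) * (g * (g⁻¹ * a⁻¹ * g) * g⁻¹)⁻¹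
            = g * ((g⁻¹ * a⁻¹ * g) * y) * (g⁻¹ * a⁻¹ * g)⁻¹ * g⁻¹ := by group
          _ = g * (y * (g⁻¹ * a⁻¹ * g)) * (g⁻¹ * a⁻¹ * g)⁻¹ * g⁻¹ := by rw [h1]
          _ = g * y * g⁻¹ := by group
      have h2 := hcomm' _ h1
      have h3 : g * (g⁻¹ * (a * h * a⁻¹) * g) * g⁻¹ = a * h * a⁻¹ := by group
      rw [h3] at h2
      have h4 : a⁻¹ * (a * h * a⁻¹) * a⁻¹⁻¹ = h := by group
      rw [h4] at h2
      rw [h2]
      exact hh
  obtain ⟨h, hh, hconj⟩ := exists_conj_in Nm P₂ P hP₂Nm hPNm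
  refine ⟨h * g, ?_, ?_⟩
  · intro x hx
    have h1 : g * x * g⁻¹ ∈ (P₂ : Subgroup X) := by
      rw [hP₂]
      simpa [mul_assoc] using hx
    have h2 := hconj _ h1
    simpa [mul_assoc] using h2
  · intro y hy
    have h1 : g * y * g⁻¹ ∈ (R : Subgroup X) := by
      rw [hg]
      simpa [mul_assoc] using hy
    have h2 := (Subgroup.mem_normalizer_iff.mp hh _).mp h1
    have h3 : h * g * y * (h * g)⁻¹ = h * (g * y * g⁻¹) * h⁻¹ := by group
    rw [h3]
    exact (hRZ h2).2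

include hq in
/-- A conjugate `gQg⁻¹ ≤ QN` is the conjugate under an element of `N`. -/
theorem exists_mem_normal_conj (N : Subgroup X) [N.Normal] (Q : Sylow q X) (g : X)
    (h : ∀ y ∈ (Q : Subgroup X), ∃ y' ∈ (Q : Subgroup X), ∃ m ∈ N, g * y * g⁻¹ = y' * m) :
    ∃ n ∈ N, ∀ y ∈ (Q : Subgroup X), g⁻¹ * (n * y * n⁻¹) * g ∈ (Q : Subgroup X) := by
  obtain ⟨Q₂, hQ₂⟩ := exists_conj_sylow Q g
  set H := N ⊔ (Q : Subgroup X) with hH
  have h1 : (Q : Subgroup X) ≤ H := le_sup_right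
  have h2 : (Q₂ : Subgroup X) ≤ H := by
    intro z hz
    obtain ⟨y', hy', m, hm, e⟩ := h _ ((hQ₂ z).mp hz)
    have e2 : z = y' * m := by
      rw [← e]
      group
    rw [e2]
    exact H.mul_mem (le_sup_right (a := N) hy') (le_sup_left (b := (Q : Subgroup X)) hm)
  obtain ⟨u, hu, hconj⟩ := exists_conj_in H Q Q₂ h1 h2
  have hu' : u ∈ ((N : Set X) * ((Q : Subgroup X) : Set X)) := by
    rw [← Subgroup.normal_mul]
    exact hu
  obtain ⟨n, hn, y₀, hy₀, rfl⟩ := Set.mem_mul.mp hu'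
  refine ⟨n, hn, fun y hy => ?_⟩
  have h3 : y₀⁻¹ * y * y₀ ∈ (Q : Subgroup X) :=
    Subgroup.mul_mem _ (Subgroup.mul_mem _ (Subgroup.inv_mem _ hy₀) hy) hy₀
  have h4 := (hQ₂ _).mp (hconj _ h3)
  have h5 : g⁻¹ * (n * y₀ * (y₀⁻¹ * y * y₀) * (n * y₀)⁻¹) * g = g⁻¹ * (n * y * n⁻¹) * g := by group
  rw [h5] at h4
  exact h4

include hp in
/-- **Reduction to the centralizer.** -/
theorem exists_centralizer_conj (N : Subgroup X) [N.Normal] (hN : ¬ p ∣ Nat.card N) (P : Sylow p X)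
    (A : Subgroup X) (n : X) (hn : n ∈ N)
    (h1 : ∀ x ∈ (P : Subgroup X), ∀ y ∈ A, x * (n * y * n⁻¹) = (n * y * n⁻¹) * x)
    (h2 : ∀ x ∈ (P : Subgroup X), ∀ y ∈ A, x * y = y * x) :
    ∃ c ∈ N, (∀ x ∈ (P : Subgroup X), c * x = x * c) ∧ ∀ y ∈ A, n * y * n⁻¹ = c * y * c⁻¹ := by
  obtain ⟨P₂, hP₂⟩ := exists_conj_sylow P n
  let H : Subgroup X := ((P : Subgroup X) ⊔ N) ⊓
    Subgroup.centralizer ((A.map (MulAut.conj n).toMonoidHom : Subgroup X) : Set X)
  have hcent : ∀ (z : X), (∀ y ∈ A, z * (n * y * n⁻¹) = (n * y * n⁻¹) * z) →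
      z ∈ Subgroup.centralizer ((A.map (MulAut.conj n).toMonoidHom : Subgroup X) : Set X) := by
    intro z hz
    rw [Subgroup.mem_centralizer_iff]
    rintro _ ⟨y, hy, rfl⟩
    exact (hz y hy).symm
  have hH1 : (P : Subgroup X) ≤ H := fun x hx =>
    ⟨le_sup_left (a := (P : Subgroup X)) hx, hcent x fun y hy => h1 x hx y hy⟩
  have hH2 : (P₂ : Subgroup X) ≤ H := by
    intro z hz
    have hz' := (hP₂ z).mp hz
    have e : z = n * (n⁻¹ * z * n) * n⁻¹ := by group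
    refine ⟨?_, hcent z fun y hy => ?_⟩
    · rw [e]
      refine Subgroup.mul_mem _ (Subgroup.mul_mem _ (le_sup_right (a := (P : Subgroup X)) hn)
        (le_sup_left (a := (P : Subgroup X)) hz')) (Subgroup.inv_mem _ (le_sup_right (a := (P : Subgroup X)) hn))
    · have h3 := h2 _ hz' y hy
      rw [e]
      calc n * (n⁻¹ * z * n) * n⁻¹ * (n * y * n⁻¹) = n * ((n⁻¹ * z * n) * y) * n⁻¹ := by group
        _ = n * (y * (n⁻¹ * z * n)) * n⁻¹ := by rw [h3]
        _ = _ := by group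
  obtain ⟨u, hu, hconj⟩ := exists_conj_in H P₂ P hH2 hH1
  have hu' : u ∈ (((P : Subgroup X) : Set X) * (N : Set X)) := by
    rw [← Subgroup.mul_normal]
    exact hu.1
  obtain ⟨x₁, hx₁, n₁, hn₁, rfl⟩ := Set.mem_mul.mp hu'
  have hcn₁ : ∀ y ∈ A, n₁ * (n * y * n⁻¹) * n₁⁻¹ = n * y * n⁻¹ := by
    intro y hy
    have h3 := (Subgroup.mem_centralizer_iff.mp hu.2) _ ⟨y, hy, rfl⟩
    have h3' : n * y * n⁻¹ * (x₁ * n₁) = x₁ * n₁ * (n * y * n⁻¹) := h3
    have h4 := h1 x₁ hx₁ y hy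
    have h5 : x₁ * (n₁ * (n * y * n⁻¹)) = x₁ * ((n * y * n⁻¹) * n₁) := by
      calc x₁ * (n₁ * (n * y * n⁻¹)) = x₁ * n₁ * (n * y * n⁻¹) := (mul_assoc _ _ _).symm
        _ = n * y * n⁻¹ * (x₁ * n₁) := h3'.symm
        _ = n * y * n⁻¹ * x₁ * n₁ := (mul_assoc _ _ _).symm
        _ = x₁ * (n * y * n⁻¹) * n₁ := by rw [h4]
        _ = x₁ * ((n * y * n⁻¹) * n₁) := mul_assoc _ _ _
    have h6 := mul_left_cancel h5
    rw [h6]
    group
  set c := n₁ * n with hc
  have hcN : c ∈ N := N.mul_mem hn₁ hn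
  have hcP : ∀ x ∈ (P : Subgroup X), c * x * c⁻¹ ∈ (P : Subgroup X) := by
    intro x hx
    have h3 : n * x * n⁻¹ ∈ (P₂ : Subgroup X) := by
      rw [hP₂]
      simpa [mul_assoc] using hx
    have h4 := hconj _ h3
    have h5 := Subgroup.mul_mem _ (Subgroup.mul_mem _ (Subgroup.inv_mem _ hx₁) h4) hx₁
    have h6 : x₁⁻¹ * (x₁ * n₁ * (n * x * n⁻¹) * (x₁ * n₁)⁻¹) * x₁ = c * x * c⁻¹ := by
      rw [hc]
      group
    rwa [h6] at h5
  refine ⟨c, hcN, ?_, ?_⟩
  · intro x hx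
    have h3 : c * x * c⁻¹ * x⁻¹ ∈ (P : Subgroup X) :=
      Subgroup.mul_mem _ (hcP x hx) (Subgroup.inv_mem _ hx)
    have h4 : c * x * c⁻¹ * x⁻¹ ∈ N := by
      have e : c * x * c⁻¹ * x⁻¹ = c * (x * c⁻¹ * x⁻¹) := by group
      rw [e]
      exact N.mul_mem hcN ((inferInstance : N.Normal).conj_mem _ (N.inv_mem hcN) x)
    have h5 := eq_one_of_mem_of_not_dvd P.isPGroup' hN h3 h4
    have h6 : c * x * c⁻¹ = x := by
      rw [mul_inv_eq_one] at h5
      exact h5
    rw [mul_inv_eq_iff_eq_mul] at h6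
    exact h6
  · intro y hy
    rw [hc, ← hcn₁ y hy]
    group

include hp hq in
/-- Assembly: if `C_N(P)` centralizes `Q`, then `N_X(P)` normalizes `Q` modulo `N` implies that
`N_X(P)` normalizes `Q`. -/
theorem conj_mem_of_centralizer_commute (N : Subgroup X) [N.Normal] (hN : ¬ p ∣ Nat.card N)
    (P : Sylow p X) (Q : Sylow q X)
    (hc : ∀ x ∈ (P : Subgroup X), ∀ y ∈ (Q : Subgroup X), x * y = y * x) (g : X)
    (hg : ∀ x ∈ (P : Subgroup X), g * x * g⁻¹ ∈ (P : Subgroup X))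
    (hgQ : ∀ y ∈ (Q : Subgroup X), ∃ y' ∈ (Q : Subgroup X), ∃ m ∈ N, g * y * g⁻¹ = y' * m)
    (hC : ∀ c ∈ N, (∀ x ∈ (P : Subgroup X), c * x = x * c) →
      ∀ y ∈ (Q : Subgroup X), c * y = y * c) :
    ∀ y ∈ (Q : Subgroup X), g * y * g⁻¹ ∈ (Q : Subgroup X) := by
  obtain ⟨n, hn, hnQ⟩ := exists_mem_normal_conj (q := q) N Q g hgQ
  have hginv := inv_conj_mem hg
  have h1 : ∀ x ∈ (P : Subgroup X), ∀ y ∈ (Q : Subgroup X),
      x * (n * y * n⁻¹) = (n * y * n⁻¹) * x := by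
    intro x hx y hy
    have h2 := hc _ (hginv x hx) _ (hnQ y hy)
    have h3 : g * (g⁻¹ * x * g * (g⁻¹ * (n * y * n⁻¹) * g)) * g⁻¹ =
        g * (g⁻¹ * (n * y * n⁻¹) * g * (g⁻¹ * x * g)) * g⁻¹ := by rw [h2]
    have e1 : g * (g⁻¹ * x * g * (g⁻¹ * (n * y * n⁻¹) * g)) * g⁻¹ = x * (n * y * n⁻¹) := by group
    have e2 : g * (g⁻¹ * (n * y * n⁻¹) * g * (g⁻¹ * x * g)) * g⁻¹ = (n * y * n⁻¹) * x := by group
    rwa [e1, e2] at h3
  obtain ⟨c, hcN, hcP, hcQ⟩ := exists_centralizer_conj N hN P (Q : Subgroup X) n hn h1 hc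
  have h2 : ∀ y ∈ (Q : Subgroup X), g⁻¹ * y * g ∈ (Q : Subgroup X) := by
    intro y hy
    have h3 := hnQ y hy
    rw [hcQ y hy, hC c hcN hcP y hy] at h3
    simpa using h3
  have h3 := inv_conj_mem (A := (Q : Subgroup X)) (g := g⁻¹) (fun x hx => by simpa using h2 x hx)
  intro y hy
  simpa using h3 y hy

/-- The case of a normal `p`-subgroup inside a Sylow subgroup centralized by `Q`. -/
theorem conj_mem_of_pgroup_part {Q P₀ N : Subgroup X} (hpq : p ≠ q) (hQ : IsPGroup q Q)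
    (hP₀ : IsPGroup p P₀) (hN : N ≤ P₀) (hc : ∀ x ∈ P₀, ∀ y ∈ Q, x * y = y * x) {g y : X}
    (hy : y ∈ Q) {y' m : X} (hy' : y' ∈ Q) (hm : m ∈ N) (h : g * y * g⁻¹ = y' * m) :
    g * y * g⁻¹ ∈ Q := by
  have hcard : y ^ Nat.card Q = 1 := by
    have := congrArg Subtype.val (pow_card_eq_one' (x := (⟨y, hy⟩ : Q)))
    simpa only [SubmonoidClass.coe_pow, OneMemClass.coe_one] using this
  have hcard' : y' ^ Nat.card Q = 1 := by
    have := congrArg Subtype.val (pow_card_eq_one' (x := (⟨y', hy'⟩ : Q)))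
    simpa only [SubmonoidClass.coe_pow, OneMemClass.coe_one] using this
  have hcomm : Commute y' m := (hc m (hN hm) y' hy').symm
  have h1 : (y' * m) ^ Nat.card Q = 1 := by
    rw [← h, conj_pow, hcard]
    group
  rw [hcomm.mul_pow, hcard', one_mul] at h1
  obtain ⟨a, ha⟩ := hP₀ ⟨m, hN hm⟩
  have ha' : m ^ p ^ a = 1 := by simpa using congrArg Subtype.val ha
  obtain ⟨e, he⟩ := IsPGroup.iff_card.mp hQ
  rw [he] at h1
  have hm1 : m = 1 := eq_one_of_pow_coprime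
    (Nat.Coprime.pow _ _ ((Nat.coprime_primes hp.out hq.out).mpr hpq)) ha' h1
  rw [h, hm1, mul_one]
  exact hy'

include hp hq in
/-- The trichotomy for a nontrivial group which is `p`-solvable and `q`-solvable. -/
theorem trichotomy [Nontrivial X] (hps : IsPSolvable p X) (hqs : IsPSolvable q X) :
    pCore p X ≠ ⊥ ∨ pCore q X ≠ ⊥ ∨
      ∃ N : Subgroup X, N.Normal ∧ N ≠ ⊥ ∧ ¬ p ∣ Nat.card N ∧ ¬ q ∣ Nat.card N := by
  by_contra hcon
  push Not at hcon
  obtain ⟨h1, h2, h3⟩ := hcon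
  set M := pPrimeCore p X with hM
  have hM1 : M ≠ ⊥ := by
    intro h
    have h4 := PSolv.centralizer_pCore_le_of_pSolvable hps h
    rw [h1] at h4
    have h5 : Subgroup.centralizer (((⊥ : Subgroup X)) : Set X) = ⊤ := by
      simp
    rw [h5] at h4
    obtain ⟨x, hx⟩ := exists_ne (1 : X)
    exact hx (h4 (Subgroup.mem_top x))
  let S : Subgroup M := pPrimeCore q M
  have hSc : S.Characteristic := PCore.instPPrimeCoreCharacteristic q
  let N : Subgroup X := S.map M.subtype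
  have hNn : N.Normal := ConjAct.normal_of_characteristic_of_normal
  have hcN : Nat.card N = Nat.card S := Nat.card_congr (S.equivMapOfInjective _ M.subtype_injective).toEquiv.symm
  have hNp : ¬ p ∣ Nat.card N := by
    intro h
    apply PCore.not_dvd_card_pPrimeCore (G := X) p
    rw [hcN] at h
    exact h.trans (Subgroup.card_subgroup_dvd_card S)
  have hNq : ¬ q ∣ Nat.card N := by
    rw [hcN]
    exact PCore.not_dvd_card_pPrimeCore (G := M) q
  have hN1 := h3 N hNn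
  have hN2 : N = ⊥ := by
    by_contra h
    exact hNq (hN1 h hNp)
  have hS : S = ⊥ := by
    have : S.map M.subtype = ⊥ := hN2
    exact (Subgroup.map_eq_bot_iff_of_injective _ M.subtype_injective).mp this
  have hM2 := PSolv.centralizer_pCore_le_of_pSolvable (PSolv.isPSolvable_subgroup hqs M) hS
  have hQ : pCore q M = ⊥ := by
    have hQc : (pCore q M).Characteristic := PCore.instPCoreCharacteristic q
    have hnorm : ((pCore q M).map M.subtype).Normal := ConjAct.normal_of_characteristic_of_normal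
    have h4 : (pCore q M).map M.subtype ≤ pCore q X :=
      PCore.le_pCore hnorm ((PCore.isPGroup_pCore q).map _)
    rw [h2, le_bot_iff] at h4
    exact (Subgroup.map_eq_bot_iff_of_injective _ M.subtype_injective).mp h4
  rw [hQ] at hM2
  have h5 : Subgroup.centralizer (((⊥ : Subgroup M)) : Set M) = ⊤ := by
    simp
  rw [h5] at hM2
  apply hM1
  rw [eq_bot_iff]
  intro x hx
  have h6 := hM2 (Subgroup.mem_top (⟨x, hx⟩ : M))
  rw [Subgroup.mem_bot] at h6 ⊢
  exact congrArg Subtype.val h6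

include hp hq in
/-- A normal `{p,q}'`-subgroup case: commuting modulo `N` lifts. -/
theorem exists_commuting_of_normal (N : Subgroup X) [N.Normal] (hNp : ¬ p ∣ Nat.card N)
    (hNq : ¬ q ∣ Nat.card N) (hpq : p ≠ q) (P : Sylow p X) (Q : Sylow q X)
    (hcN : ∀ x ∈ (P : Subgroup X), ∀ y ∈ (Q : Subgroup X), x * y * x⁻¹ * y⁻¹ ∈ N) :
    ∃ Q₁ : Sylow q X, ∀ x ∈ (P : Subgroup X), ∀ y ∈ (Q₁ : Subgroup X), x * y = y * x := by
  set H := N ⊔ (Q : Subgroup X) with hH
  have hHp : ¬ p ∣ Nat.card H := by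
    intro h
    have h1 : Nat.card H ∣ Nat.card Q * Nat.card N := by
      rw [hH, sup_comm]
      exact PCore.card_sup_dvd _ _
    have h2 := h.trans h1
    rcases (Fact.out : p.Prime).dvd_mul.mp h2 with h3 | h3
    · obtain ⟨e, he⟩ := IsPGroup.iff_card.mp Q.isPGroup'
      have he' : Nat.card (Q : Subgroup X) = q ^ e := he
      rw [he'] at h3
      have h4 := (Fact.out : p.Prime).dvd_of_dvd_pow h3
      exact hpq ((Nat.prime_dvd_prime_iff_eq Fact.out Fact.out).mp h4)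
    · exact hNp h3
  have hmemH : ∀ z ∈ H, ∃ n ∈ N, ∃ y ∈ (Q : Subgroup X), z = n * y := by
    intro z hz
    have hz' : z ∈ ((N : Set X) * ((Q : Subgroup X) : Set X)) := by
      rw [← Subgroup.normal_mul]
      exact hz
    obtain ⟨n, hn, y, hy, rfl⟩ := Set.mem_mul.mp hz'
    exact ⟨n, hn, y, hy, rfl⟩
  have hPH : ∀ a ∈ (P : Subgroup X), ∀ z ∈ H, a * z * a⁻¹ ∈ H := by
    intro a ha z hz
    obtain ⟨n, hn, y, hy, rfl⟩ := hmemH z hz
    have e : a * (n * y) * a⁻¹ = (a * n * a⁻¹) * (a * y * a⁻¹ * y⁻¹) * y := by group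
    rw [e]
    refine H.mul_mem (H.mul_mem ?_ ?_) (le_sup_right (a := N) hy)
    · exact le_sup_left (b := (Q : Subgroup X)) ((inferInstance : N.Normal).conj_mem _ hn a)
    · exact le_sup_left (b := (Q : Subgroup X)) (hcN a ha y hy)
  obtain ⟨R, hRH, hRP⟩ := exists_invariant_sylow_le P.isPGroup' hHp hPH Q le_sup_right
  refine ⟨R, fun x hx y hy => ?_⟩
  have h1 : x * y * x⁻¹ * y⁻¹ ∈ (R : Subgroup X) :=
    Subgroup.mul_mem _ (hRP x hx y hy) (Subgroup.inv_mem _ hy)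
  have h2 : x * y * x⁻¹ * y⁻¹ ∈ N := by
    obtain ⟨n, hn, y₀, hy₀, e⟩ := hmemH y (hRH hy)
    subst e
    have e : x * (n * y₀) * x⁻¹ * (n * y₀)⁻¹ = (x * n * x⁻¹) * (x * y₀ * x⁻¹ * y₀⁻¹) * n⁻¹ := by group
    rw [e]
    exact N.mul_mem (N.mul_mem ((inferInstance : N.Normal).conj_mem _ hn x) (hcN x hx y₀ hy₀))
      (N.inv_mem hn)
  have h3 := eq_one_of_mem_of_not_dvd R.isPGroup' hNq h1 h2
  rw [mul_inv_eq_one, mul_inv_eq_iff_eq_mul] at h3
  exact h3

end Elem

end Cfsg.Agent.Lib.SylowCommute
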