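import Mathlib
import Cfsg.Agent.Lib.SylowCommute
import Cfsg.Agent.Lib.CharCoprime
import Cfsg.Agent.Lib.CanonExt
import Cfsg.Agent.Lib.PDegKernel71
import Cfsg.Agent.Lib.CharDecomp
import Cfsg.Agent.Lib.CharKernel
import Cfsg.Agent.Lib.DegreeDiv

/-!
# Commuting Sylow subgroups: character lemmas
-/

set_option autoImplicit false
set_option linter.unusedSectionVars false
set_option linter.unusedVariables false
set_option linter.style.haveILetI false

open Cfsg Cfsg.Agent.Lib Cfsg.Agent.Lib.CharBasic Cfsg.Agent.Lib.CharInd Cfsg.Agent.Lib.CharKernel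
open scoped ComplexConjugate Pointwise

namespace Cfsg.Agent.Lib.SylowCommute2

universe u

/-- The implication on degrees. -/
def DegImp (p q : ℕ) (X : Type u) [Group X] : Prop :=
  ∀ χ : IrrCharacter X, ¬ p ∣ charDegree (χ : X → ℂ) → ¬ q ∣ charDegree (χ : X → ℂ)

theorem charDegree_comp {X Y : Type*} [Group X] [Group Y] (f : Y →* X) (χ : X → ℂ) :
    charDegree (χ ∘ f) = charDegree χ := by
  simp [charDegree]

theorem DegImp.quotient {p q : ℕ} {X : Type u} [Group X] (h : DegImp p q X) (K : Subgroup X)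
    [K.Normal] : DegImp p q (X ⧸ K) := by
  intro χ h1
  have h2 := h ⟨(χ : X ⧸ K → ℂ) ∘ QuotientGroup.mk' K,
    isIrrCharacter_comp_of_surjective _ (QuotientGroup.mk'_surjective K) χ.2⟩
    (by rwa [charDegree_comp])
  simp only [charDegree_comp] at h2
  exact h2

/-- Transitivity of being a constituent of restrictions along a homomorphism. -/
theorem over_trans {K H : Type*} [Group K] [Group H] [Fintype K] [Fintype H] (ι : K →* H)
    {τ ψ : H → ℂ} (hτ : IsCharacter H τ) (hψ : IsIrrCharacter H ψ) (h : classInner τ ψ ≠ 0)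
    {θ : K → ℂ} (hθ : IsIrrCharacter K θ) (h2 : classInner (ψ ∘ ι) θ ≠ 0) :
    classInner (τ ∘ ι) θ ≠ 0 := by
  obtain ⟨ψ', hψ', rfl⟩ := CharDecomp.exists_char_add hτ hψ h
  have e : (ψ + ψ') ∘ ι = ψ ∘ ι + ψ' ∘ ι := rfl
  rw [e, classInner_add_left]
  obtain ⟨a, ha⟩ := classInner_char_irr (isCharacter_comp ι (IsIrrCharacter.isCharacter hψ)) hθ
  obtain ⟨b, hb⟩ := classInner_char_irr (isCharacter_comp ι hψ') hθ
  have ea : classInner (ψ ∘ ι) θ = a := ha
  have eb : classInner (ψ' ∘ ι) θ = b := hb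
  rw [ea] at h2 ⊢
  rw [eb]
  have ha0 : a ≠ 0 := by
    rintro rfl
    exact h2 (by simp)
  intro h3
  have h4 : a + b = 0 := by exact_mod_cast h3
  omega

/-- Transport of the inner product along an isomorphism. -/
theorem classInner_equiv {A B : Type*} [Group A] [Group B] [Fintype A] [Fintype B] (e : A ≃* B)
    (φ ψ : B → ℂ) : classInner (φ ∘ e) (ψ ∘ e) = classInner φ ψ := by
  unfold classInner
  rw [Nat.card_congr e.toEquiv]
  congr 1
  exact Fintype.sum_equiv e.toEquiv _ _ (fun _ => rfl)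

section Main

variable {X : Type u} [Group X] [Fintype X] {p : ℕ} [hp : Fact p.Prime]

/-- Over a linear character of a Sylow subgroup lies a `p'`-degree character with `O_{p'}` in the
kernel. -/
theorem exists_char_over_linear (P : Sylow p X) [Fintype (P : Subgroup X)]
    (μ : (P : Subgroup X) →* ℂˣ) :
    ∃ χ : IrrCharacter X, (∀ t ∈ pPrimeCore p X, (χ : X → ℂ) t = (χ : X → ℂ) 1) ∧
      ¬ p ∣ charDegree (χ : X → ℂ) ∧
      classInner (fun x : (P : Subgroup X) => (χ : X → ℂ) x) (fun x => ((μ x : ℂˣ) : ℂ)) ≠ 0 := by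
  classical
  set T := pPrimeCore p X with hT
  let mk := QuotientGroup.mk' T
  have hmk : Function.Surjective mk := QuotientGroup.mk'_surjective T
  letI : Fintype (X ⧸ T) := Fintype.ofFinite _
  let f : (P : Subgroup X) →* X ⧸ T := mk.comp (P : Subgroup X).subtype
  have hf : Function.Injective f := by
    rw [injective_iff_map_eq_one]
    intro a ha
    have h1 : (a : X) ∈ T := (QuotientGroup.eq_one_iff (a : X)).mp ha
    have h2 := SylowCommute.eq_one_of_mem_of_not_dvd P.isPGroup' (PCore.not_dvd_card_pPrimeCore p) a.2 h1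
    exact Subtype.ext h2
  let e : (P : Subgroup X) ≃* f.range := MonoidHom.ofInjective hf
  letI : Fintype f.range := Fintype.ofFinite _
  let μb : f.range →* ℂˣ := μ.comp e.symm.toMonoidHom
  let θ : f.range → ℂ := fun r => ((μb r : ℂˣ) : ℂ)
  have hθ : IsIrrCharacter f.range θ := isIrrCharacter_of_hom μb
  have hτ := indFun_isCharacter f.range (IsIrrCharacter.isCharacter hθ)
  have hτ1 : indFun f.range θ 1 = (f.range.index : ℂ) := by
    rw [indFun_one]
    simp [θ]
  have hdeg : charDegree (indFun f.range θ) = f.range.index := by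
    have := one_eq_charDegree hτ
    rw [hτ1] at this
    exact_mod_cast this.symm
  have hidx : ¬ p ∣ f.range.index := by
    have h1 : f.range = (P : Subgroup X).map mk := by
      rw [MonoidHom.range_comp, Subgroup.range_subtype]
    rw [h1]
    intro h
    exact P.not_dvd_index (h.trans (Subgroup.index_map_dvd _ hmk))
  obtain ⟨χ, h1, h2⟩ := PDegKernel71.exists_pprime_constituent p hτ (by rwa [hdeg])
  rw [frobenius f.range θ (isClassFunction_of_isCharacter (IsIrrCharacter.isCharacter χ.2))] at h1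
  have h3 : classInner (fun r : f.range => (χ : X ⧸ T → ℂ) r) θ ≠ 0 := by
    intro h
    apply h1
    rw [← classInner_conj_symm, h, map_zero]
  refine ⟨⟨(χ : X ⧸ T → ℂ) ∘ mk, isIrrCharacter_comp_of_surjective mk hmk χ.2⟩, ?_, ?_, ?_⟩
  · intro t ht
    show (χ : X ⧸ T → ℂ) (mk t) = (χ : X ⧸ T → ℂ) (mk 1)
    have : mk t = mk 1 := by
      rw [map_one]
      exact (QuotientGroup.eq_one_iff t).mpr ht
    rw [this]
  · show ¬ p ∣ charDegree ((χ : X ⧸ T → ℂ) ∘ mk)
    rwa [charDegree_comp]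
  · have h4 := classInner_equiv e (fun r : f.range => (χ : X ⧸ T → ℂ) r) θ
    rw [← h4] at h3
    have e1 : (fun x : (P : Subgroup X) => (χ : X ⧸ T → ℂ) (mk x)) =
        (fun r : f.range => (χ : X ⧸ T → ℂ) r) ∘ e := rfl
    have e2 : (fun x : (P : Subgroup X) => ((μ x : ℂˣ) : ℂ)) = θ ∘ e := by
      funext x
      show ((μ x : ℂˣ) : ℂ) = ((μ (e.symm (e x)) : ℂˣ) : ℂ)
      rw [MulEquiv.symm_apply_apply]
    show classInner (fun x : (P : Subgroup X) => (χ : X ⧸ T → ℂ) (mk x)) _ ≠ 0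
    rw [e1, e2]
    exact h3

/-- A `p`-invariant irreducible character of a normal `p'`-subgroup lies under a character of degree
prime to `p`. -/
theorem exists_pprime_over (N : Subgroup X) [hN : N.Normal] [Fintype N] (hNp : ¬ p ∣ Nat.card N)
    (P : Sylow p X) {ξ : N → ℂ} (hξ : IsIrrCharacter N ξ)
    (hinv : ∀ x ∈ (P : Subgroup X), ∀ n : N, ξ ⟨x * n * x⁻¹, hN.conj_mem _ n.2 x⟩ = ξ n) :
    ∃ χ : IrrCharacter X, ¬ p ∣ charDegree (χ : X → ℂ) ∧
      classInner (fun n : N => (χ : X → ℂ) n) ξ ≠ 0 := by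
  classical
  set Γ : Subgroup X := N ⊔ (P : Subgroup X) with hΓ
  have hNΓ : N ≤ Γ := le_sup_left
  letI : Fintype Γ := Fintype.ofFinite _
  have hN' : (N.subgroupOf Γ).Normal := Subgroup.normal_subgroupOf
  let e' : N.subgroupOf Γ ≃* N := Subgroup.subgroupOfEquivOfLe hNΓ
  let ϑ : N.subgroupOf Γ → ℂ := ξ ∘ e'
  have hϑ : IsIrrCharacter (N.subgroupOf Γ) ϑ :=
    isIrrCharacter_comp_of_surjective e'.toMonoidHom e'.surjective hξ
  obtain ⟨s, hs⟩ : ∃ s, (N.subgroupOf Γ).index = p ^ s := by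
    have h1 : (N.subgroupOf Γ).index = N.relIndex (P : Subgroup X) :=
      Subgroup.relIndex_sup_left _ _
    rw [h1]
    obtain ⟨a, ha⟩ := IsPGroup.iff_card.mp P.isPGroup'
    have h2 : N.relIndex (P : Subgroup X) ∣ p ^ a := by
      have h3 : Nat.card (P : Subgroup X) = p ^ a := ha
      rw [← h3]
      exact Subgroup.index_dvd_card _
    obtain ⟨s, -, hs⟩ := (Nat.dvd_prime_pow hp.out).mp h2
    exact ⟨s, hs⟩
  have hclass := isClassFunction_of_isCharacter (IsIrrCharacter.isCharacter hξ)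
  have hinv' : ∀ (g : Γ) (n : N.subgroupOf Γ),
      ϑ ⟨g * n * g⁻¹, hN'.conj_mem (n : Γ) n.2 g⟩ = ϑ n := by
    intro g n
    have hg : (g : X) ∈ ((N : Set X) * ((P : Subgroup X) : Set X)) := by
      rw [← Subgroup.normal_mul]
      exact g.2
    obtain ⟨n₀, hn₀, x₀, hx₀, hgx⟩ := Set.mem_mul.mp hg
    show ξ ⟨((g * n * g⁻¹ : Γ) : X), _⟩ = ξ ⟨((n : Γ) : X), _⟩
    have h1 := hinv x₀ hx₀ ⟨((n : Γ) : X), n.2⟩
    have h2 := hclass ⟨x₀ * ((n : Γ) : X) * x₀⁻¹, hN.conj_mem _ n.2 x₀⟩ ⟨n₀, hn₀⟩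
    rw [← h1, ← h2]
    congr 1
    apply Subtype.ext
    show ((g : X)) * ((n : Γ) : X) * (g : X)⁻¹ = n₀ * (x₀ * ((n : Γ) : X) * x₀⁻¹) * n₀⁻¹
    rw [← hgx]
    group
  have hd : ϑ 1 = (charDegree ξ : ℂ) := by
    have h1 := one_eq_charDegree (IsIrrCharacter.isCharacter hξ)
    show ξ (e' 1) = _
    rw [map_one, h1]
  have hpd : ¬ p ∣ charDegree ξ := fun h => hNp (h.trans (charDegree_dvd_card hξ))
  have hdet : CanonExt.DetP' p ϑ := by
    refine ⟨Nat.card (N.subgroupOf Γ), ?_, fun g => ?_⟩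
    · rwa [Nat.card_congr e'.toEquiv]
    · obtain ⟨D, hD⟩ := DetChar.exists_detHom (IsIrrCharacter.isCharacter hϑ)
      rw [hD g, ← Units.val_pow_eq_pow_val, ← map_pow, pow_card_eq_one', map_one, Units.val_one]
  obtain ⟨χ₁, hχ₁, hext, -⟩ := CanonExt.exists_ext_detP' s (N.subgroupOf Γ) hN' hs hϑ hinv' hd hpd hdet
  have hτ := indFun_isCharacter Γ (IsIrrCharacter.isCharacter hχ₁)
  have hχ₁1 : χ₁ 1 = (charDegree ξ : ℂ) := by
    have h1 := hext 1
    rw [Subgroup.coe_one, hd] at h1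
    exact h1
  have hdeg : charDegree (indFun Γ χ₁) = Γ.index * charDegree ξ := by
    have h1 := one_eq_charDegree hτ
    rw [indFun_one, hχ₁1] at h1
    exact_mod_cast h1.symm
  have hidx : ¬ p ∣ Γ.index := fun h =>
    P.not_dvd_index (h.trans (Subgroup.index_dvd_of_le le_sup_right))
  have hdegp : ¬ p ∣ charDegree (indFun Γ χ₁) := by
    rw [hdeg, hp.out.dvd_mul]
    tauto
  obtain ⟨χ, h1, h2⟩ := PDegKernel71.exists_pprime_constituent p hτ hdegp
  rw [frobenius Γ χ₁ (isClassFunction_of_isCharacter (IsIrrCharacter.isCharacter χ.2))] at h1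
  have h3 : classInner (fun r : Γ => (χ : X → ℂ) r) χ₁ ≠ 0 := by
    intro h
    apply h1
    rw [← classInner_conj_symm, h, map_zero]
  refine ⟨χ, h2, ?_⟩
  have h4 : χ₁ ∘ Subgroup.inclusion hNΓ = ξ := by
    funext n
    have h5 := hext ⟨Subgroup.inclusion hNΓ n, n.2⟩
    exact h5
  have h5 := over_trans (Subgroup.inclusion hNΓ) (isCharacter_restrict Γ (IsIrrCharacter.isCharacter χ.2))
    hχ₁ h3 hξ (by rw [h4, classInner_irr_self hξ]; exact one_ne_zero)
  exact h5

/-- Clifford: the index of the inertia group of a constituent divides the degree. -/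
theorem not_dvd_inertia_index {q : ℕ} (N : Subgroup X) [hN : N.Normal] [Fintype N] {ξ : N → ℂ}
    (hξ : IsIrrCharacter N ξ) (χ : IrrCharacter X) (hq : ¬ q ∣ charDegree (χ : X → ℂ))
    (hcon : classInner (fun n : N => (χ : X → ℂ) n) ξ ≠ 0) :
    ¬ q ∣ (DegreeDiv.inertia N hN ξ).index := by
  obtain ⟨d, hd, -⟩ := CharCoprime.inertia_index_dvd N (DegreeDiv.inertia N hN ξ) hξ
    (fun g => DegreeDiv.mem_inertia N hN ξ g)
    (DegreeDiv.le_inertia N hN (IsIrrCharacter.isCharacter hξ)) χ.2 hcon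
  have h1 := one_eq_charDegree (IsIrrCharacter.isCharacter χ.2)
  rw [hd] at h1
  have h2 : (DegreeDiv.inertia N hN ξ).index * d = charDegree (χ : X → ℂ) := by exact_mod_cast h1
  intro h
  exact hq (h.trans (Dvd.intro _ h2))

end Main

section Sylow

variable {X : Type*} [Group X] [Finite X] {q : ℕ} [hq : Fact q.Prime]

/-- A subgroup of index prime to `q` contains a Sylow `q`-subgroup. -/
theorem exists_sylow_le_of_not_dvd_index (T : Subgroup X) (hT : ¬ q ∣ T.index) :
    ∃ S : Sylow q X, (S : Subgroup X) ≤ T := by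
  obtain ⟨R₀⟩ : Nonempty (Sylow q T) := inferInstance
  have h1 : Nat.card ((R₀ : Subgroup T).map T.subtype) = q ^ (Nat.card X).factorization q := by
    rw [Subgroup.card_map_of_injective T.subtype_injective, Sylow.card_eq_multiplicity,
      ← Subgroup.card_mul_index T, Nat.factorization_mul Nat.card_pos.ne' Subgroup.index_ne_zero_of_finite]
    simp [Nat.factorization_eq_zero_of_not_dvd hT]
  refine ⟨Sylow.ofCard _ h1, ?_⟩
  rw [Sylow.coe_ofCard]
  rintro _ ⟨y, _, rfl⟩
  exact y.2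

end Sylow

end Cfsg.Agent.Lib.SylowCommute2
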