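import Mathlib
import Cfsg.Agent.Lib.PalfyB
import Cfsg.Agent.Lib.NVChar
import Cfsg.Agent.Lib.SylowCommute2
import Cfsg.Agent.Lib.CharCoprime
import Cfsg.Agent.Lib.DegreeDiv

/-!
# Pálfy's three primes theorem: the module theorem

A solvable group acting faithfully and irreducibly on an elementary abelian group such that the
stabiliser of every nonzero vector contains a unique Sylow `u`- and Sylow `v`-subgroup of the group
(`u ≠ v` dividing the group order) has an irreducible character of degree divisible by `u v`.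
-/

set_option autoImplicit false
set_option linter.unusedSectionVars false
set_option linter.unusedVariables false
set_option linter.style.haveILetI false

namespace Cfsg.Agent.Lib.PalfyC

open Cfsg Cfsg.Agent.Lib Cfsg.Agent.Lib.NVOrbit Cfsg.Agent.Lib.NVIdem Cfsg.Agent.Lib.NVTerm Cfsg.Agent.Lib.PCore
open Cfsg.Agent.Lib.PalfyA Cfsg.Agent.Lib.PalfyB Cfsg.Agent.Lib.Glauberman Cfsg.Agent.Lib.NVChar
open Cfsg.Agent.Lib.CharBasic Cfsg.Agent.Lib.CharKernel
open scoped commutatorElement Pointwise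

universe u

section Basic

variable {H : Type u} [Group H] [Finite H]

theorem exists_pow_of_mem_sylow {ν : ℕ} [Fact ν.Prime] (Q : Sylow ν H) {x : H}
    (hx : x ∈ (Q : Subgroup H)) : ∃ k : ℕ, x ^ (ν ^ k) = 1 := by
  obtain ⟨k, hk⟩ := IsPGroup.iff_orderOf.1 Q.isPGroup' (⟨x, hx⟩ : (Q : Subgroup H))
  refine ⟨k, ?_⟩
  have : ((⟨x, hx⟩ : (Q : Subgroup H)) : H) ^ (ν ^ k) = 1 := by
    rw [← Subgroup.coe_pow, ← hk, pow_orderOf_eq_one]
    rfl
  exact this

/-- Centralizing a normal subgroup passes between Sylow subgroups. -/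
theorem sylow_comm_transfer {ν : ℕ} [Fact ν.Prime] {T₀ : Subgroup H} (hT₀ : T₀.Normal)
    (P Q : Sylow ν H) (h : ∀ x ∈ (P : Subgroup H), ∀ y ∈ T₀, x * y = y * x) :
    ∀ x ∈ (Q : Subgroup H), ∀ y ∈ T₀, x * y = y * x := by
  obtain ⟨g, rfl⟩ := MulAction.exists_smul_eq H P Q
  intro x hx y hy
  rw [Sylow.coe_subgroup_smul, mem_conj_smul_iff] at hx
  have h1 := h _ hx _ (hT₀.conj_mem y hy g⁻¹)
  rw [inv_inv] at h1
  have h2 : g⁻¹ * x * g * (g⁻¹ * y * g) = g⁻¹ * (x * y) * g := by group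
  have h3 : g⁻¹ * y * g * (g⁻¹ * x * g) = g⁻¹ * (y * x) * g := by group
  rw [h2, h3] at h1
  exact mul_left_cancel (mul_right_cancel h1)

theorem ZZ_normal {T : Subgroup H} (hT : T.Normal) : (ZZ T).Normal := by
  constructor
  intro n hn g
  have hn' : n ∈ T ∧ n ∈ Subgroup.centralizer (T : Set H) := hn
  refine ⟨hT.conj_mem n hn'.1 g, Subgroup.mem_centralizer_iff.2 ?_⟩
  intro t ht
  have h3 := Subgroup.mem_centralizer_iff.1 hn'.2 (g⁻¹ * t * g⁻¹⁻¹) (hT.conj_mem t ht g⁻¹)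
  rw [inv_inv] at h3
  calc t * (g * n * g⁻¹) = g * ((g⁻¹ * t * g) * n) * g⁻¹ := by group
    _ = g * (n * (g⁻¹ * t * g)) * g⁻¹ := by rw [h3]
    _ = g * n * g⁻¹ * t := by group

theorem hYP_of_unique {A : Type u} [AddCommGroup A] {φ : H →* Gam A} {ν r : ℕ} [Fact ν.Prime]
    [Fact r.Prime] (hνr : ν ≠ r) {T Y : Subgroup H} (hTn : T.Normal) (hTp : IsPGroup r T)
    (hYT : Y ≤ T) {a : A} (haY : Y ≤ stab φ a) (P : Sylow ν H) (hPa : (P : Subgroup H) ≤ stab φ a)
    (hPu : ∀ Q : Sylow ν H, (Q : Subgroup H) ≤ stab φ a → Q = P) :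
    ∀ y ∈ Y, ∀ x ∈ (P : Subgroup H), x * y = y * x := by
  intro y hy x hx
  have h1 : ((y • P : Sylow ν H) : Subgroup H) ≤ stab φ a := by
    intro x' hx'
    rw [Sylow.coe_subgroup_smul, mem_conj_smul_iff] at hx'
    have h2 := hPa hx'
    have h3 : x' = y * (y⁻¹ * x' * y) * y⁻¹ := by group
    rw [h3]
    exact (stab φ a).mul_mem ((stab φ a).mul_mem (haY hy) h2) ((stab φ a).inv_mem (haY hy))
  have h4 := hPu _ h1
  have h5 : y * x * y⁻¹ ∈ (P : Subgroup H) := by
    have h6 : y * x * y⁻¹ ∈ ((y • P : Sylow ν H) : Subgroup H) := by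
      rw [Sylow.coe_subgroup_smul, mem_conj_smul_iff]
      simpa [mul_assoc] using hx
    rwa [h4] at h6
  have h7 : ⁅y, x⁆ ∈ (P : Subgroup H) := by
    rw [commutatorElement_def]
    exact (P : Subgroup H).mul_mem h5 ((P : Subgroup H).inv_mem hx)
  have h8 : ⁅y, x⁆ ∈ T := by
    rw [commutatorElement_def]
    have h9 : y * x * y⁻¹ * x⁻¹ = y * (x * y⁻¹ * x⁻¹) := by group
    rw [h9]
    exact T.mul_mem (hYT hy) (hTn.conj_mem _ (T.inv_mem (hYT hy)) x)
  have h10 := IsPGroup.disjoint_of_ne ν r hνr (P : Subgroup H) T P.isPGroup' hTp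
  have h11 : ⁅y, x⁆ = 1 := by
    have := Subgroup.disjoint_def.1 h10 h7 h8
    exact this
  rw [commutatorElement_eq_one_iff_mul_comm] at h11
  exact h11.symm

end Basic

section BH

variable {A : Type u} [AddCommGroup A] [Finite A] {H : Type u} [Group H] [Finite H]
  {φ : H →* Gam A}

/-- The module setting. -/
structure BHyp (φ : H →* Gam A) (t u v : ℕ) : Prop where
  inj : Function.Injective φ
  htA : ∀ a : A, t • a = 0
  irr : ∀ W : AddSubgroup A, (∀ x : H, ∀ w ∈ W, φ x • w ∈ W) → W = ⊥ ∨ W = ⊤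
  huv : u ≠ v
  hU : H1 φ u
  hV : H1 φ v
  hud : u ∣ Nat.card H
  hvd : v ∣ Nat.card H

variable {t u v : ℕ}

theorem BHyp.symm (h : BHyp φ t u v) : BHyp φ t v u :=
  ⟨h.inj, h.htA, h.irr, h.huv.symm, h.hV, h.hU, h.hvd, h.hud⟩

theorem pCore_bot_of_H1 {ν : ℕ} [Fact ν.Prime] (hinj : Function.Injective φ) (hν : H1 φ ν) :
    pCore ν H = ⊥ := by
  rw [eq_bot_iff]
  intro x hx
  rw [Subgroup.mem_bot]
  apply hinj
  rw [map_one]
  apply units_eq_one_of_fix
  intro a
  by_cases ha : a = 0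
  · rw [ha, smul_zero]
  obtain ⟨P, hP, -⟩ := hν a ha
  exact hP (pCore_le_sylow ν P hx)

theorem BHyp.coprime_card [ht : Fact t.Prime] (h : BHyp φ t u v) {r : ℕ} (hr : r.Prime) (hrt : r ≠ t) :
    (Nat.card A).Coprime r := by
  apply Nat.Coprime.symm
  rw [hr.coprime_iff_not_dvd]
  intro hd
  haveI : Fact r.Prime := ⟨hr⟩
  obtain ⟨a, ha⟩ := exists_prime_addOrderOf_dvd_card' r hd
  have h1 := addOrderOf_dvd_of_nsmul_eq_zero (h.htA a)
  rw [ha] at h1
  exact hrt ((Nat.prime_dvd_prime_iff_eq hr ht.out).1 h1)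

theorem BHyp.pCore_t_bot [ht : Fact t.Prime] [Nontrivial A] (h : BHyp φ t u v) : pCore t H = ⊥ := by
  have hO : IsPGroup t (pCore t H) := isPGroup_pCore t
  rcases h.irr (fixAll φ (pCore t H)) (by
    intro x w hw y hy
    have h1 := hw (x⁻¹ * y * x) (by
      have := (inferInstance : (pCore t H).Normal).conj_mem y hy x⁻¹
      simpa using this)
    have h2 : φ y * φ x = φ x * φ (x⁻¹ * y * x) := by
      rw [← map_mul, ← map_mul]
      congr 1
      group
    rw [← mul_smul, h2, mul_smul, h1]) with h1 | h1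
  · exfalso
    letI : MulAction (pCore t H) A := MulAction.compHom A (φ.comp (pCore t H).subtype)
    have hd : t ∣ Nat.card A := by
      obtain ⟨a, ha⟩ := exists_ne (0 : A)
      have h2 := addOrderOf_dvd_of_nsmul_eq_zero (h.htA a)
      have h3 := (Nat.dvd_prime ht.out).1 h2
      rcases h3 with h3 | h3
      · exact absurd (AddMonoid.addOrderOf_eq_one_iff.1 h3) ha
      · rw [← h3]
        exact addOrderOf_dvd_natCard a
    have h0 : (0 : A) ∈ MulAction.fixedPoints (pCore t H) A := by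
      intro g
      show φ (g : H) • (0 : A) = 0
      exact smul_zero _
    obtain ⟨b, hb, hb0⟩ := hO.exists_fixed_point_of_prime_dvd_card_of_fixed_point A hd h0
    have h2 : b ∈ fixAll φ (pCore t H) := fun y hy => hb ⟨y, hy⟩
    rw [h1, AddSubgroup.mem_bot] at h2
    exact hb0 h2.symm
  · rw [eq_bot_iff]
    intro x hx
    rw [Subgroup.mem_bot]
    apply h.inj
    rw [map_one]
    apply units_eq_one_of_fix
    intro a
    have h2 : a ∈ fixAll φ (pCore t H) := by rw [h1]; trivial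
    exact h2 x hx

theorem BHyp.isCyclic [hu : Fact u.Prime] [hv : Fact v.Prime] [Nontrivial A] (h : BHyp φ t u v)
    {M : Subgroup H} (hMn : M.Normal)
    (hMc : ∀ x ∈ M, ∀ y ∈ M, x * y = y * x) (hcop : (Nat.card M).Coprime (Nat.card A)) :
    IsCyclic M := by
  by_cases hu2 : u = 2
  · have hv2 : v ≠ 2 := fun h2 => h.huv (hu2.trans h2.symm)
    exact isCyclic_of_abelian_normal hv2 h.inj h.hvd h.hV hMn hMc hcop
  · exact isCyclic_of_abelian_normal hu2 h.inj h.hud h.hU hMn hMc hcop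

/-- The key statement: a Sylow `u`-subgroup acts nontrivially on a cyclic normal subgroup in `H'`. -/
theorem exists_cyclic_normal [ht : Fact t.Prime] [hu : Fact u.Prime] [hv : Fact v.Prime]
    [Nontrivial A] [Group.IsSolvable H] (hb : BHyp φ t u v) (U0 : Sylow u H) :
    ∃ T : Subgroup H, T.Normal ∧ IsCyclic T ∧ T ≤ ⁅(⊤ : Subgroup H), (⊤ : Subgroup H)⁆ ∧
      (Nat.card T).Coprime (Nat.card A) ∧
      ¬ ∀ x ∈ (U0 : Subgroup H), ∀ y ∈ T, x * y = y * x := by
  classical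
  have hU1 : (U0 : Subgroup H) ≠ ⊥ := U0.ne_bot_of_dvd_card hb.hud
  have hFn : (fittingSubgroup H).Normal := Subgroup.sSup_normal _ (fun _ h => h.1)
  obtain ⟨r, hr, hrc⟩ : ∃ r : ℕ, r.Prime ∧
      ¬ ∀ x ∈ (U0 : Subgroup H), ∀ y ∈ pCore r H, x * y = y * x := by
    by_contra hcon
    push Not at hcon
    apply hU1
    rw [eq_bot_iff]
    intro x hx
    rw [Subgroup.mem_bot]
    have hF : x ∈ Subgroup.centralizer (fittingSubgroup H : Set H) := by
      rw [Subgroup.mem_centralizer_iff]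
      have h1 : fittingSubgroup H ≤ Subgroup.centralizer ({x} : Set H) := by
        rw [fittingSubgroup_eq_iSup_pCore]
        refine iSup_le fun p => ?_
        intro y hy
        rw [Subgroup.mem_centralizer_singleton_iff]
        exact (hcon p p.2 x hx y hy).symm
      intro y hy
      exact Subgroup.mem_centralizer_singleton_iff.1 (h1 hy)
    have hxF := centralizer_fittingSubgroup_le hF
    have hxO : x ∈ pCore u H := by
      haveI := hFn
      exact mem_pCore_of_nilpotent (fittingSubgroup H) isNilpotent_fittingSubgroup hxF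
        (exists_pow_of_mem_sylow U0 hx)
    rw [pCore_bot_of_H1 hb.inj hb.hU] at hxO
    exact hxO
  haveI hrf : Fact r.Prime := ⟨hr⟩
  have hnb : pCore r H ≠ ⊥ := by
    intro h
    apply hrc
    intro x _ y hy
    rw [h, Subgroup.mem_bot] at hy
    simp [hy]
  have hrt : r ≠ t := by
    intro h
    apply hnb
    rw [h]
    exact hb.pCore_t_bot
  have hru : r ≠ u := by
    intro h
    apply hnb
    rw [h]
    exact pCore_bot_of_H1 hb.inj hb.hU
  have hrv : r ≠ v := by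
    intro h
    apply hnb
    rw [h]
    exact pCore_bot_of_H1 hb.inj hb.hV
  have hcr : (Nat.card A).Coprime r := hb.coprime_card hr hrt
  let s : Set (Subgroup H) := {T | T ≤ pCore r H ∧ T.Normal ∧
    ¬ ∀ x ∈ (U0 : Subgroup H), ∀ y ∈ T, x * y = y * x}
  have hRs : pCore r H ∈ s := ⟨le_rfl, inferInstance, hrc⟩
  obtain ⟨T, -, hT⟩ := (Set.toFinite s).exists_le_minimal hRs
  obtain ⟨hTR, hTn, hTc⟩ := hT.1
  haveI := hTn
  have hmin : ∀ T₀ : Subgroup H, T₀ ≤ T → T₀.Normal → T₀ ≠ T →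
      ∀ x ∈ (U0 : Subgroup H), ∀ y ∈ T₀, x * y = y * x := by
    intro T₀ h1 h2 h3
    by_contra h4
    exact h3 (le_antisymm h1 (hT.2 ⟨h1.trans hTR, h2, h4⟩ h1))
  have hTp : IsPGroup r T := (isPGroup_pCore r).to_le hTR
  have hcopTA : (Nat.card T).Coprime (Nat.card A) := by
    obtain ⟨n, hn⟩ := IsPGroup.iff_card.1 hTp
    rw [hn]
    exact Nat.Coprime.pow_left _ hcr.symm
  have hUT : (Nat.card (U0 : Subgroup H)).Coprime (Nat.card T) :=
    IsPGroup.coprime_card_of_ne u r hru.symm (U0 : Subgroup H) T U0.isPGroup' hTp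
  have hsolv : Group.IsSolvable (U0 : Subgroup H) ∨ Group.IsSolvable T := Or.inl inferInstance
  let W : Subgroup H := Subgroup.normalClosure (U0 : Set H)
  haveI hWn : W.Normal := Subgroup.normalClosure_normal
  have hUW : (U0 : Subgroup H) ≤ W := Subgroup.le_normalClosure
  have hTW : ⁅T, W⁆ = T := by
    by_contra hne
    have h1 := hmin ⁅T, W⁆ (Subgroup.commutator_le_left T W) inferInstance hne
    apply hTc
    have h2 : ⁅⁅T, (U0 : Subgroup H)⁆, (U0 : Subgroup H)⁆ = ⊥ := by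
      rw [Subgroup.commutator_eq_bot_iff_le_centralizer]
      intro y hy
      rw [Subgroup.mem_centralizer_iff]
      intro x hx
      exact h1 x hx y (Subgroup.commutator_mono le_rfl hUW hy)
    rw [commutator_commutator_eq (le_norm hTn _) hUT hsolv] at h2
    intro x hx y hy
    have h3 := Subgroup.commutator_mem_commutator hy hx
    rw [h2, Subgroup.mem_bot, commutatorElement_eq_one_iff_mul_comm] at h3
    exact h3.symm
  have hcentral : ∀ T₀ : Subgroup H, T₀ ≤ T → T₀.Normal → T₀ ≠ T →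
      ∀ a ∈ T, ∀ b ∈ T₀, a * b = b * a := by
    intro T₀ h1 h2 h3 a ha b hb'
    haveI := h2
    have h4 := hmin T₀ h1 h2 h3
    have h5 : W ≤ Subgroup.centralizer (T₀ : Set H) := by
      apply Subgroup.normalClosure_le_normal
      intro x hx
      rw [SetLike.mem_coe, Subgroup.mem_centralizer_iff]
      intro y hy
      exact (h4 x hx y hy).symm
    have h6 : ⁅W, T₀⁆ = ⊥ := by
      rw [Subgroup.commutator_eq_bot_iff_le_centralizer]
      exact h5
    have h7 : ⁅⁅T, W⁆, T₀⁆ = ⊥ := by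
      apply Subgroup.commutator_commutator_eq_bot_of_rotate
      · rw [h6, Subgroup.commutator_bot_left]
      · have h8 : ⁅T₀, T⁆ ≤ T₀ := Subgroup.commutator_le_left T₀ T
        rw [eq_bot_iff, ← h6, Subgroup.commutator_comm W T₀]
        exact Subgroup.commutator_mono h8 le_rfl
    rw [hTW] at h7
    have h9 := Subgroup.commutator_mem_commutator ha hb'
    rw [h7, Subgroup.mem_bot, commutatorElement_eq_one_iff_mul_comm] at h9
    exact h9
  by_cases hab : ∀ a ∈ T, ∀ b ∈ T, a * b = b * a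
  · refine ⟨T, hTn, hb.isCyclic hTn hab hcopTA, ?_, hcopTA, hTc⟩
    rw [← hTW]
    exact Subgroup.commutator_mono le_top le_top
  exfalso
  have hTne : T ≠ ⊥ := by
    intro h0
    apply hTc
    intro x _ y hy
    rw [h0, Subgroup.mem_bot] at hy
    simp [hy]
  have hZn : (ZZ T).Normal := ZZ_normal hTn
  have hZne : ZZ T ≠ T := by
    intro h0
    apply hab
    intro a ha b hb'
    rw [← h0] at ha
    exact ZZ_comm ha hb'
  have hZU := hmin _ (ZZ_le T) hZn hZne
  have hDer : ∀ x ∈ T, ∀ y ∈ T, ⁅x, y⁆ ∈ ZZ T := by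
    intro x hx y hy
    have h1 : ⁅T, T⁆ ≠ T := (Group.IsSolvable.commutator_lt_of_ne_bot hTne).ne
    have h2 := hcentral ⁅T, T⁆ (Subgroup.commutator_le_left T T) inferInstance h1
    have h3 : ⁅x, y⁆ ∈ ⁅T, T⁆ := Subgroup.commutator_mem_commutator hx hy
    exact mem_ZZ (Subgroup.commutator_le_left T T h3) fun t ht => (h2 t ht _ h3).symm
  -- `T/Z(T)` is elementary abelian
  have hpow : ∀ y ∈ T, y ^ r ∈ ZZ T := by
    let Ω : Subgroup H :=
      { carrier := {y | y ∈ T ∧ y ^ r ∈ ZZ T}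
        mul_mem' := by
          rintro x y ⟨hx, hx'⟩ ⟨hy, hy'⟩
          refine ⟨T.mul_mem hx hy, ?_⟩
          have hc := hDer y hy x hx
          have h1 : y * x = ⁅y, x⁆ * x * y := by
            rw [commutatorElement_def]
            group
          rw [OddLocalA.mul_pow_of_central_comm x y ⁅y, x⁆ h1 (ZZ_comm hc hx) (ZZ_comm hc hy) r]
          exact (ZZ T).mul_mem ((ZZ T).mul_mem hx' hy') ((ZZ T).pow_mem hc _)
        one_mem' := ⟨T.one_mem, by rw [one_pow]; exact (ZZ T).one_mem⟩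
        inv_mem' := by
          rintro x ⟨hx, hx'⟩
          refine ⟨T.inv_mem hx, ?_⟩
          rw [inv_pow]
          exact (ZZ T).inv_mem hx' }
    have hΩn : Ω.Normal := by
      constructor
      rintro y ⟨hy, hy'⟩ g
      refine ⟨hTn.conj_mem y hy g, ?_⟩
      rw [conj_pow]
      exact hZn.conj_mem _ hy' g
    have hΩT : Ω ≤ T := fun y hy => hy.1
    have hΩ : Ω = T := by
      by_contra hne
      obtain ⟨y₀, hy₀, hy₀Z⟩ : ∃ y₀ ∈ T, y₀ ∉ ZZ T := by
        by_contra hcon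
        push Not at hcon
        exact hZne (le_antisymm (ZZ_le T) hcon)
      obtain ⟨K, hK⟩ : ∃ K : ℕ, y₀ ^ (r ^ K) ∈ ZZ T := by
        obtain ⟨k, hk⟩ := IsPGroup.iff_orderOf.1 hTp (⟨y₀, hy₀⟩ : T)
        refine ⟨k, ?_⟩
        have : ((⟨y₀, hy₀⟩ : T) : H) ^ (r ^ k) = 1 := by
          rw [← Subgroup.coe_pow, ← hk, pow_orderOf_eq_one]
          rfl
        have h2 : y₀ ^ (r ^ k) = 1 := this
        rw [h2]
        exact (ZZ T).one_mem
      set m₀ := Nat.find (⟨K, hK⟩ : ∃ K : ℕ, y₀ ^ (r ^ K) ∈ ZZ T) with hm₀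
      have hm1 : y₀ ^ (r ^ m₀) ∈ ZZ T := Nat.find_spec (⟨K, hK⟩ : ∃ K : ℕ, y₀ ^ (r ^ K) ∈ ZZ T)
      have hm0 : m₀ ≠ 0 := by
        intro h0
        rw [h0, pow_zero, pow_one] at hm1
        exact hy₀Z hm1
      obtain ⟨n, hn⟩ := Nat.exists_eq_succ_of_ne_zero hm0
      have hm2 : y₀ ^ (r ^ n) ∉ ZZ T :=
        Nat.find_min (⟨K, hK⟩ : ∃ K : ℕ, y₀ ^ (r ^ K) ∈ ZZ T) (m := n) (by omega)
      have hy₁ : y₀ ^ (r ^ n) ∈ Ω := by
        refine ⟨T.pow_mem hy₀ _, ?_⟩
        rw [← pow_mul, ← pow_succ]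
        rw [hn] at hm1
        exact hm1
      apply hm2
      exact mem_ZZ (hΩT hy₁) fun t ht => (hcentral Ω hΩT hΩn hne t ht _ hy₁).symm
    intro y hy
    rw [← hΩ] at hy
    exact hy.2
  -- the central element
  have hZp : IsPGroup r (ZZ T) := hTp.to_le (ZZ_le T)
  have hZcyc : IsCyclic (ZZ T) := hb.isCyclic hZn
    (fun x hx y hy => ZZ_comm hx (ZZ_le T hy))
    (Nat.Coprime.coprime_dvd_left (Subgroup.card_dvd_of_le (ZZ_le T)) hcopTA)
  obtain ⟨z, hzZ, hz1, hzr⟩ : ∃ z ∈ ZZ T, z ≠ 1 ∧ z ^ r = 1 := by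
    haveI : Nontrivial T := by
      rw [Subgroup.nontrivial_iff_ne_bot]
      exact hTne
    haveI := hTp.center_nontrivial
    obtain ⟨c, hc⟩ := exists_ne (1 : Subgroup.center T)
    have hcZ : ((c : T) : H) ∈ ZZ T := by
      refine mem_ZZ (c : T).2 fun t ht => ?_
      have := (Subgroup.mem_center_iff.1 c.2 ⟨t, ht⟩)
      exact (congrArg Subtype.val this).symm
    have hc1 : ((c : T) : H) ≠ 1 := by
      intro h0
      apply hc
      apply Subtype.ext
      apply Subtype.ext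
      exact h0
    obtain ⟨n, hn⟩ := IsPGroup.iff_card.1 hZp
    have hn0 : n ≠ 0 := by
      intro h0
      rw [h0, pow_zero] at hn
      haveI : Subsingleton (ZZ T) := (Nat.card_eq_one_iff_unique.1 hn).1
      have := Subsingleton.elim (⟨_, hcZ⟩ : ZZ T) 1
      exact hc1 (congrArg Subtype.val this)
    have hrd : r ∣ Nat.card (ZZ T) := by
      rw [hn]
      exact dvd_pow_self r hn0
    obtain ⟨f, hf⟩ := exists_prime_orderOf_dvd_card' (G := ZZ T) r hrd
    refine ⟨f, f.2, ?_, ?_⟩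
    · intro h0
      have h1 : f = 1 := Subtype.ext h0
      rw [h1, orderOf_one] at hf
      exact hr.one_lt.ne hf
    · have h2 := pow_orderOf_eq_one f
      rw [hf] at h2
      simpa using congrArg Subtype.val h2
  have hz0 : ∀ b : A, φ z • b = b → b = 0 := by
    rcases hb.irr (fixAll φ (Subgroup.zpowers z)) (by
      intro g w hw y hy
      obtain ⟨k, rfl⟩ := hy
      have h1 : g⁻¹ * z * g ∈ ZZ T := by
        have := hZn.conj_mem z hzZ g⁻¹
        simpa using this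
      have h2 : (g⁻¹ * z * g) ^ r = 1 := by
        rw [show g⁻¹ * z * g = g⁻¹ * z * g⁻¹⁻¹ by simp, conj_pow, hzr]
        group
      obtain ⟨j, hj⟩ := exists_zpow_of_cyclic hZcyc hzZ h1 hzr h2 hz1
      have h3 : z = g * z ^ j * g⁻¹ := by
        rw [← hj]
        group
      have h4 : φ (z ^ k) * φ g = φ g * φ ((z ^ j) ^ k) := by
        rw [← map_mul, ← map_mul]
        congr 1
        conv_lhs => rw [h3]
        rw [conj_zpow]
        group
      show φ (z ^ k) • φ g • w = φ g • w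
      have h5 := hw ((z ^ j) ^ k) (Subgroup.zpow_mem _ (Subgroup.zpow_mem _ (Subgroup.mem_zpowers z) j) k)
      rw [← mul_smul, h4, mul_smul, h5]) with h1 | h1
    · intro b hb'
      have h2 : b ∈ fixAll φ (Subgroup.zpowers z) := by
        rintro _ ⟨k, rfl⟩
        have : z ^ k ∈ stab φ b := Subgroup.zpow_mem _ hb' k
        exact this
      rw [h1, AddSubgroup.mem_bot] at h2
      exact h2
    · exfalso
      apply hz1
      apply hb.inj
      rw [map_one]
      apply units_eq_one_of_fix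
      intro a
      have h2 : a ∈ fixAll φ (Subgroup.zpowers z) := by rw [h1]; trivial
      exact h2 z (Subgroup.mem_zpowers z)
  -- the maximal fixing subgroup
  obtain ⟨a₀, ha₀⟩ := exists_ne (0 : A)
  obtain ⟨Y, hYT, ⟨a, ha, haY⟩, hmax⟩ := exists_max_fix φ T ha₀
  have hkd : ∀ {ν : ℕ} [Fact ν.Prime], ν ≠ r → ∀ P : Sylow ν H, (P : Subgroup H) ≤ stab φ a →
      (∀ Q : Sylow ν H, (Q : Subgroup H) ≤ stab φ a → Q = P) →
      (∀ x ∈ (P : Subgroup H), ∀ ζ ∈ ZZ T, x * ζ = ζ * x) → KData φ r T (P : Subgroup H) Y z := by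
    intro ν _ hνr P hPa hPu hPZ
    exact ⟨hTn, hcr, hYT, hmax, ⟨a, ha, haY⟩, hzZ, hzr, hz0, hDer, hPZ,
      hYP_of_unique hνr hTn hTp hYT haY P hPa hPu,
      IsPGroup.coprime_card_of_ne ν r hνr (P : Subgroup H) T P.isPGroup' hTp⟩
  obtain ⟨P, hPa, hPu⟩ := hb.hU a ha
  have hPZ : ∀ x ∈ (P : Subgroup H), ∀ ζ ∈ ZZ T, x * ζ = ζ * x :=
    sylow_comm_transfer hZn U0 P hZU
  have hkP := hkd hru.symm P hPa hPu hPZ
  have hPT : ¬ ∀ x ∈ (P : Subgroup H), ∀ y ∈ T, x * y = y * x := fun h1 =>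
    hTc (sylow_comm_transfer hTn P U0 h1)
  by_cases hr2 : r = 2
  · subst hr2
    have hZ2 : IsPGroup 2 (ZZ T) := hZp
    have hu2 : u ≠ 2 := fun h => hru h.symm
    have hv2 : v ≠ 2 := fun h => hrv h.symm
    by_cases hu3 : u = 3
    · have hv3 : v ≠ 3 := fun h => hb.huv (hu3.trans h.symm)
      have hex : ∃ d ∈ ⁅T, (P : Subgroup H)⁆, ∃ x ∈ (P : Subgroup H), x * d * x⁻¹ * d⁻¹ ∉ ZZ T := by
        by_contra hcon
        push Not at hcon
        exact hPT (hkP.comm_of_comm_mem_ZZ hcon)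
      obtain ⟨d, hd, x, hx, hy⟩ := hex
      obtain ⟨w, hwZ, hw1, hw2, hone, hsq, hi2, hj2, hij⟩ := hkP.two_data hpow hZcyc hZ2 hd hx hy
      obtain ⟨Q, hQa, hQu⟩ := hb.hV a ha
      have hQZ : ∀ x ∈ (Q : Subgroup H), ∀ ζ ∈ ZZ T, x * ζ = ζ * x := by
        intro x' _ ζ hζ
        rcases hone ζ hζ with h1 | h1
        · rw [h1, mul_one, one_mul]
        · rw [h1]
          rcases hone _ (hZn.conj_mem w hwZ x') with h2 | h2
          · exfalso
            apply hw1
            have h3 : x' * w = x' := by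
              have h4 := h2
              rw [mul_inv_eq_one] at h4
              exact h4
            exact mul_eq_left.1 h3
          · rw [mul_inv_eq_iff_eq_mul] at h2
            exact h2
      have hkQ := hkd hrv.symm Q hQa hQu hQZ
      have hQT := hkQ.comm_of_two hpow hZcyc hZ2 hv2 hv3 (fun y hy => exists_pow_of_mem_sylow Q hy)
      have hzw : z = w := (hone z hzZ).resolve_left hz1
      refine false_of_Q8 (ν := v) (t := t) hb.inj hb.hvd hb.hV hb.htA hw2 (hzw ▸ hz0) hi2 hj2 hij ?_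
      intro Q' x' hx'
      have h1 := sylow_comm_transfer hTn Q Q' hQT
      exact ⟨h1 x' hx' d (hkP.D_le hd), h1 x' hx' _ (hkP.D_le (hkP.conj_mem_D hd hx))⟩
    · exact hPT (hkP.comm_of_two hpow hZcyc hZ2 hu2 hu3 (fun y hy => exists_pow_of_mem_sylow P hy))
  · exact hPT (hkP.comm_of_odd hr2 hpow)

/-- A cyclic normal subgroup centralizes the commutator subgroup (abelian automorphism group). -/
theorem commutator_comm_of_cyclic {C : Subgroup H} (hCn : C.Normal) (hC : IsCyclic C) :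
    ∀ x ∈ ⁅(⊤ : Subgroup H), (⊤ : Subgroup H)⁆, ∀ y ∈ C, x * y = y * x := by
  obtain ⟨g₀, hg₀⟩ := hC.exists_generator
  have hgen : ∀ y ∈ C, ∃ k : ℤ, y = (g₀ : H) ^ k := by
    intro y hy
    obtain ⟨k, hk⟩ := hg₀ ⟨y, hy⟩
    exact ⟨k, by simpa using (congrArg Subtype.val hk).symm⟩
  have hswap : ∀ a b : H, (a * b) * (g₀ : H) * (a * b)⁻¹ = (b * a) * (g₀ : H) * (b * a)⁻¹ := by
    intro a b
    obtain ⟨k, hk⟩ := hgen _ (hCn.conj_mem _ g₀.2 a)
    obtain ⟨l, hl⟩ := hgen _ (hCn.conj_mem _ g₀.2 b)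
    have h1 : a * (g₀ : H) ^ l * a⁻¹ = (g₀ : H) ^ (k * l) := by
      rw [← conj_zpow, hk, ← zpow_mul]
    have h2 : b * (g₀ : H) ^ k * b⁻¹ = (g₀ : H) ^ (l * k) := by
      rw [← conj_zpow, hl, ← zpow_mul]
    calc (a * b) * (g₀ : H) * (a * b)⁻¹ = a * (b * (g₀ : H) * b⁻¹) * a⁻¹ := by group
      _ = (g₀ : H) ^ (k * l) := by rw [hl, h1]
      _ = (g₀ : H) ^ (l * k) := by rw [mul_comm]
      _ = b * (a * (g₀ : H) * a⁻¹) * b⁻¹ := by rw [hk, h2]
      _ = (b * a) * (g₀ : H) * (b * a)⁻¹ := by group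
  have hle : ⁅(⊤ : Subgroup H), (⊤ : Subgroup H)⁆ ≤ Subgroup.centralizer ({(g₀ : H)} : Set H) := by
    rw [Subgroup.commutator_le]
    intro a _ b _
    rw [Subgroup.mem_centralizer_singleton_iff]
    have h3 := hswap a⁻¹ b⁻¹
    have h4 : ⁅a, b⁆ * (g₀ : H) * ⁅a, b⁆⁻¹ = (g₀ : H) := by
      rw [commutatorElement_def]
      calc a * b * a⁻¹ * b⁻¹ * (g₀ : H) * (a * b * a⁻¹ * b⁻¹)⁻¹
          = (b⁻¹ * a⁻¹)⁻¹ * ((a⁻¹ * b⁻¹) * (g₀ : H) * (a⁻¹ * b⁻¹)⁻¹) * (b⁻¹ * a⁻¹) := by group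
        _ = (b⁻¹ * a⁻¹)⁻¹ * ((b⁻¹ * a⁻¹) * (g₀ : H) * (b⁻¹ * a⁻¹)⁻¹) * (b⁻¹ * a⁻¹) := by rw [h3]
        _ = (g₀ : H) := by group
    rw [mul_inv_eq_iff_eq_mul] at h4
    exact h4
  intro x hx y hy
  obtain ⟨k, rfl⟩ := hgen y hy
  have h1 := Subgroup.mem_centralizer_singleton_iff.1 (hle hx)
  have h2 : Commute x (g₀ : H) := h1
  exact (h2.zpow_right k).eq

/-- **The module theorem.** -/
theorem false_of_BHyp [ht : Fact t.Prime] [hu : Fact u.Prime] [hv : Fact v.Prime]
    [Nontrivial A] [Group.IsSolvable H] (hb : BHyp φ t u v)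
    (hdeg : ∀ χ : IrrCharacter H, ¬ u * v ∣ charDegree (χ : H → ℂ)) : False := by
  classical
  letI := Fintype.ofFinite H
  obtain ⟨U0⟩ : Nonempty (Sylow u H) := inferInstance
  obtain ⟨V0⟩ : Nonempty (Sylow v H) := inferInstance
  obtain ⟨T₁, hT₁n, hT₁c, hT₁H, hT₁A, hT₁U⟩ := exists_cyclic_normal hb U0
  obtain ⟨T₂, hT₂n, hT₂c, hT₂H, hT₂A, hT₂V⟩ := exists_cyclic_normal hb.symm V0
  have hcomm12 : ∀ a ∈ T₁, ∀ b ∈ T₂, a * b = b * a := fun a ha b hb' =>
    commutator_comm_of_cyclic hT₂n hT₂c a (hT₁H ha) b hb'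
  haveI := hT₁n
  haveI := hT₂n
  let N₀ : Subgroup H := T₁ ⊔ T₂
  have hN₀n : N₀.Normal := inferInstance
  haveI := hN₀n
  have hN₀c : ∀ a ∈ N₀, ∀ b ∈ N₀, a * b = b * a := by
    have h1 : T₁ ≤ Subgroup.centralizer (T₂ : Set H) := fun a ha =>
      Subgroup.mem_centralizer_iff.2 fun b hb' => (hcomm12 a ha b hb').symm
    have hT₁ab : ∀ a ∈ T₁, ∀ b ∈ T₁, a * b = b * a := by
      intro a ha b hb'
      have := hT₁c
      exact congrArg Subtype.val (IsCyclic.commGroup.mul_comm (⟨a, ha⟩ : T₁) ⟨b, hb'⟩)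
    have hT₂ab : ∀ a ∈ T₂, ∀ b ∈ T₂, a * b = b * a := by
      intro a ha b hb'
      have := hT₂c
      exact congrArg Subtype.val (IsCyclic.commGroup.mul_comm (⟨a, ha⟩ : T₂) ⟨b, hb'⟩)
    -- the join is commutative
    have hle : ∀ a ∈ N₀, ∀ b ∈ T₁, a * b = b * a := by
      intro a ha b hb'
      have : N₀ ≤ Subgroup.centralizer ({b} : Set H) := by
        refine sup_le ?_ ?_
        · intro c hc
          rw [Subgroup.mem_centralizer_singleton_iff]
          exact hT₁ab c hc b hb'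
        · intro c hc
          rw [Subgroup.mem_centralizer_singleton_iff]
          exact (hcomm12 b hb' c hc).symm
      exact Subgroup.mem_centralizer_singleton_iff.1 (this ha)
    have hle2 : ∀ a ∈ N₀, ∀ b ∈ T₂, a * b = b * a := by
      intro a ha b hb'
      have : N₀ ≤ Subgroup.centralizer ({b} : Set H) := by
        refine sup_le ?_ ?_
        · intro c hc
          rw [Subgroup.mem_centralizer_singleton_iff]
          exact hcomm12 c hc b hb'
        · intro c hc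
          rw [Subgroup.mem_centralizer_singleton_iff]
          exact hT₂ab c hc b hb'
      exact Subgroup.mem_centralizer_singleton_iff.1 (this ha)
    intro a ha b hb'
    have : N₀ ≤ Subgroup.centralizer ({a} : Set H) := by
      refine sup_le ?_ ?_
      · intro c hc
        rw [Subgroup.mem_centralizer_singleton_iff]
        exact (hle a ha c hc).symm
      · intro c hc
        rw [Subgroup.mem_centralizer_singleton_iff]
        exact (hle2 a ha c hc).symm
    exact (Subgroup.mem_centralizer_singleton_iff.1 (this hb')).symm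
  have hN₀A : (Nat.card N₀).Coprime (Nat.card A) := by
    exact Nat.Coprime.coprime_dvd_left (PCore.card_sup_dvd T₁ T₂) (Nat.Coprime.mul_left hT₁A hT₂A)
  have hN₀cyc : IsCyclic N₀ := hb.isCyclic hN₀n hN₀c hN₀A
  -- a faithful linear character
  obtain ⟨l, hl⟩ : ∃ l : N₀ →* ℂˣ, Function.Injective l := by
    haveI : NeZero (Nat.card N₀) := ⟨Nat.card_pos.ne'⟩
    have h1 : Nat.card N₀ = Nat.card (rootsOfUnity (Nat.card N₀) ℂ) :=
      (Complex.card_rootsOfUnity _).symm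
    let e : N₀ ≃* rootsOfUnity (Nat.card N₀) ℂ := mulEquivOfCyclicCardEq h1
    refine ⟨(rootsOfUnity (Nat.card N₀) ℂ).subtype.comp e.toMonoidHom, ?_⟩
    intro a b hab
    apply e.injective
    exact Subtype.ext hab
  letI : Fintype N₀ := Fintype.ofFinite _
  let θ : N₀ → ℂ := fun n => ((l n : ℂˣ) : ℂ)
  have hθ : IsIrrCharacter N₀ θ := CharBasic.isIrrCharacter_of_hom l
  obtain ⟨χ, hχ, hover⟩ := CharCoprime.exists_over N₀ hθ
  let I := DegreeDiv.inertia N₀ hN₀n θ
  have hI : ∀ g ∈ I, ∀ n ∈ N₀, g * n = n * g := by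
    intro g hg n hn
    have h1 := (DegreeDiv.mem_inertia N₀ hN₀n θ g).1 hg ⟨n, hn⟩
    have h2 : l ⟨g * n * g⁻¹, hN₀n.conj_mem n hn g⟩ = l ⟨n, hn⟩ := Units.ext h1
    have h3 := congrArg Subtype.val (hl h2)
    simp only at h3
    rw [mul_inv_eq_iff_eq_mul] at h3
    exact h3
  have hdvdU : u ∣ I.index := by
    by_contra hnd
    obtain ⟨S, hS⟩ := SylowCommute2.exists_sylow_le_of_not_dvd_index I hnd
    have h1 : ∀ x ∈ (S : Subgroup H), ∀ y ∈ N₀, x * y = y * x := fun x hx y hy => hI x (hS hx) y hy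
    have h2 := sylow_comm_transfer hN₀n S U0 h1
    exact hT₁U fun x hx y hy => h2 x hx y (Subgroup.mem_sup_left hy)
  have hdvdV : v ∣ I.index := by
    by_contra hnd
    obtain ⟨S, hS⟩ := SylowCommute2.exists_sylow_le_of_not_dvd_index I hnd
    have h1 : ∀ x ∈ (S : Subgroup H), ∀ y ∈ N₀, x * y = y * x := fun x hx y hy => hI x (hS hx) y hy
    have h2 := sylow_comm_transfer hN₀n S V0 h1
    exact hT₂V fun x hx y hy => h2 x hx y (Subgroup.mem_sup_right hy)
  have hcopuv : Nat.Coprime u v := (Nat.coprime_primes hu.out hv.out).2 hb.huv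
  have huv : u * v ∣ I.index := hcopuv.mul_dvd_of_dvd_of_dvd hdvdU hdvdV
  obtain ⟨d, hd, -⟩ := CharCoprime.inertia_index_dvd N₀ I hθ
    (fun g => DegreeDiv.mem_inertia N₀ hN₀n θ g)
    (DegreeDiv.le_inertia N₀ hN₀n (IsIrrCharacter.isCharacter hθ)) hχ hover
  have h1 := one_eq_charDegree (IsIrrCharacter.isCharacter hχ)
  rw [hd] at h1
  have h2 : I.index * d = charDegree χ := by exact_mod_cast h1
  exact hdeg ⟨χ, hχ⟩ (huv.trans (Dvd.intro _ h2))

end BH

end Cfsg.Agent.Lib.PalfyC
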