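import Mathlib
import Cfsg.Agent.Lib.PalfyC
import Cfsg.Agent.Lib.GlaubSyl1
import Cfsg.Agent.Lib.CoprimeDeg
import Cfsg.Agent.Lib.GlaubAbove
import Cfsg.Agent.Lib.TwoDeg2
import Cfsg.Agent.Lib.CharCentral
import Cfsg.Agent.Lib.MinNormalPrim
import Cfsg.Agent.S4493

/-!
# Pálfy's three primes theorem: Clifford theory for groups with a homomorphism onto a quotient
-/

set_option autoImplicit false
set_option linter.unusedSectionVars false
set_option linter.unusedVariables false
set_option linter.style.haveILetI false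

namespace Cfsg.Agent.Lib.PalfyD

open Cfsg Cfsg.Agent.Lib Cfsg.Agent.Lib.NVOrbit Cfsg.Agent.Lib.PCore
open Cfsg.Agent.Lib.PalfyA Cfsg.Agent.Lib.PalfyB Cfsg.Agent.Lib.PalfyC Cfsg.Agent.Lib.NVChar
open Cfsg.Agent.Lib.CharBasic Cfsg.Agent.Lib.CharKernel Cfsg.Agent.Lib.CharInd
open scoped commutatorElement Pointwise

universe u

attribute [local instance] Fintype.ofFinite

section Basic

variable {G : Type u} [Group G] [Finite G] {X : Type u} [Group X] [Finite X]

/-- Degrees pass from quotients. -/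
theorem irr_comp (r : G →* X) (hr : Function.Surjective r) (χ : IrrCharacter X) :
    ∃ χ' : IrrCharacter G, charDegree (χ' : G → ℂ) = charDegree (χ : X → ℂ) := by
  refine ⟨⟨_, isIrrCharacter_comp_of_surjective r hr χ.2⟩, ?_⟩
  show charDegree ((χ : X → ℂ) ∘ r) = _
  simp only [charDegree, Function.comp, map_one]

/-- A `ν`-element lies in a normal subgroup of index prime to `ν`. -/
theorem mem_of_pelt {ν : ℕ} [hν : Fact ν.Prime] {P₀ : Subgroup G} (hn : P₀.Normal)
    (hi : ¬ ν ∣ P₀.index) {x : G} {k : ℕ} (hx : x ^ (ν ^ k) = 1) : x ∈ P₀ := by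
  have h1 : (x : G ⧸ P₀) ^ (ν ^ k) = 1 := by
    rw [← QuotientGroup.mk_pow, hx, QuotientGroup.mk_one]
  have h2 := orderOf_dvd_of_pow_eq_one h1
  have h3 : orderOf (x : G ⧸ P₀) ∣ P₀.index := by
    rw [Subgroup.index_eq_card]
    exact orderOf_dvd_natCard _
  have h4 : Nat.Coprime (ν ^ k) P₀.index :=
    Nat.Coprime.pow_left _ ((Nat.Prime.coprime_iff_not_dvd hν.out).2 hi)
  have h5 := Nat.eq_one_of_dvd_coprimes h4 h2 h3
  rw [orderOf_eq_one_iff] at h5
  exact (QuotientGroup.eq_one_iff x).1 h5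

/-- The subgroup criterion giving a unique Sylow subgroup. -/
theorem H1_local [Group.IsSolvable X] (T : Subgroup X) {ν : ℕ} [hν : Fact ν.Prime]
    (hind : ¬ ν ∣ T.index) (hdeg : ∀ β : IrrCharacter T, ¬ ν ∣ charDegree (β : T → ℂ)) :
    ∃ P : Sylow ν X, (P : Subgroup X) ≤ T ∧ ∀ Q : Sylow ν X, (Q : Subgroup X) ≤ T → Q = P := by
  obtain ⟨P₀, hP₀n, -, hP₀p, hP₀i⟩ :=
    (Cfsg.Agent.S4493.result (G := T) inferInstance ν hν.out).2 hdeg
  have h1 : Nat.card (P₀.map T.subtype) = ν ^ (Nat.card X).factorization ν := by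
    rw [Subgroup.card_map_of_injective T.subtype_injective, ← Subgroup.card_mul_index T,
      ← Subgroup.card_mul_index P₀,
      Nat.factorization_mul (Nat.mul_ne_zero Nat.card_pos.ne' Subgroup.index_ne_zero_of_finite)
        Subgroup.index_ne_zero_of_finite,
      Nat.factorization_mul Nat.card_pos.ne' Subgroup.index_ne_zero_of_finite]
    simp only [Finsupp.add_apply, Nat.factorization_eq_zero_of_not_dvd hind,
      Nat.factorization_eq_zero_of_not_dvd hP₀i, add_zero]
    obtain ⟨n, hn⟩ := IsPGroup.iff_card.1 hP₀p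
    rw [hn, Nat.factorization_pow, Finsupp.smul_apply, hν.out.factorization_self]
    simp
  refine ⟨Sylow.ofCard _ h1, ?_, ?_⟩
  · rw [Sylow.coe_ofCard]
    rintro _ ⟨y, _, rfl⟩
    exact y.2
  · intro Q hQ
    have h2 : (Q : Subgroup X) ≤ P₀.map T.subtype := by
      intro x hx
      obtain ⟨k, hk⟩ := exists_pow_of_mem_sylow Q hx
      refine ⟨⟨x, hQ hx⟩, ?_, rfl⟩
      exact mem_of_pelt hP₀n hP₀i (k := k) (Subtype.ext hk)
    apply Sylow.ext
    rw [Sylow.coe_ofCard]
    apply Subgroup.eq_of_le_of_card_ge h2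
    rw [h1, Sylow.card_eq_multiplicity]

end Basic

section Cliff

variable {G : Type u} [Group G] [Finite G] {X : Type u} [Group X] [Finite X]

/-- Clifford theory: an extendible character with stabiliser `T` gives characters of degree
`|X : T| β(1) θ(1)`. -/
theorem exists_irr_of_stab (r : G →* X) (hr : Function.Surjective r) (K : Subgroup G) [hK : K.Normal]
    (hrK : ∀ g, r g = 1 ↔ g ∈ K) {θ : K → ℂ} (hθ : IsIrrCharacter K θ) (T : Subgroup X)
    (hT : ∀ g : G, r g ∈ T ↔ ∀ n : K, θ ⟨g * n * g⁻¹, hK.conj_mem n n.2 g⟩ = θ n)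
    (hKI : K ≤ T.comap r)
    {η : (T.comap r) → ℂ} (hη : IsCharacter (T.comap r) η)
    (hext : ∀ n : K, η ⟨n, hKI n.2⟩ = θ n) {β : T → ℂ} (hβ : IsIrrCharacter T β) :
    ∃ χ : IrrCharacter G, charDegree (χ : G → ℂ) = T.index * charDegree β * charDegree θ ∧
      classInner (fun n : K => (χ : G → ℂ) n) θ ≠ 0 := by
  let I := T.comap r
  let q : I →* T := (r.comp I.subtype).codRestrict T (fun i => i.2)
  have hq : Function.Surjective q := by
    intro t
    obtain ⟨g, hg⟩ := hr t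
    refine ⟨⟨g, ?_⟩, Subtype.ext hg⟩
    show r g ∈ T
    rw [hg]
    exact t.2
  have hker : ∀ i : I, q i = 1 ↔ (i : G) ∈ K := by
    intro i
    rw [← hrK]
    exact Subtype.ext_iff
  have hetaN : IsIrrCharacter q.ker (fun n : q.ker => η n) := by
    let f : q.ker →* K :=
      { toFun := fun n => ⟨((n : I) : G), (hker _).1 n.2⟩
        map_one' := rfl
        map_mul' := fun _ _ => rfl }
    have hf : Function.Surjective f := by
      intro n
      refine ⟨⟨⟨n, hKI n.2⟩, (hker _).2 n.2⟩, rfl⟩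
    have h1 := isIrrCharacter_comp_of_surjective f hf hθ
    have h2 : (fun n : q.ker => η n) = θ ∘ f := by
      funext n
      exact hext (f n)
    rw [h2]
    exact h1
  let ψ : I → ℂ := GlaubSyl1.gal q η β
  have hψ : IsIrrCharacter I ψ := GlaubSyl1.isIrr_gal q hq hη hetaN hβ
  have hq1 : ∀ n : K, q ⟨n, hKI n.2⟩ = 1 := fun n => (hker _).2 n.2
  have hover : classInner (fun n : K => ψ ⟨(n : G), hKI n.2⟩) θ ≠ 0 := by
    have h1 : (fun n : K => ψ ⟨(n : G), hKI n.2⟩) = (β 1) • θ := by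
      funext n
      show β (q ⟨n, hKI n.2⟩) * η ⟨n, hKI n.2⟩ = β 1 * θ n
      rw [hq1, hext]
    rw [h1, classInner_smul_left, classInner_irr_self hθ, mul_one]
    exact Clifford.irr_degree_ne_zero hβ
  obtain ⟨h3, -⟩ := Clifford.indFun_irr_of_over K I hθ (fun g => hT g) hKI hψ hover
  have hover' : classInner (fun n : K => indFun I ψ n) θ ≠ 0 := by
    obtain ⟨-, h5⟩ := Clifford.indFun_irr_of_over K I hθ (fun g => hT g) hKI hψ hover
    rw [h5]
    exact hover
  refine ⟨⟨_, h3⟩, ?_, hover'⟩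
  have h6 : ((T.comap r).index : ℂ) = T.index := by
    rw [Subgroup.index_comap_of_surjective T hr]
  have hcθ := IsIrrCharacter.isCharacter hθ
  have hcβ := IsIrrCharacter.isCharacter hβ
  have h7 : (indFun I ψ) 1 = ((T.index * charDegree β * charDegree θ : ℕ) : ℂ) := by
    rw [indFun_one]
    have h8 : ψ 1 = β 1 * θ 1 := by
      show β (q 1) * η 1 = β 1 * θ 1
      have h9 := hext 1
      rw [map_one]
      exact congrArg _ h9
    rw [h8, one_eq_charDegree hcβ, one_eq_charDegree hcθ]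
    push_cast
    rw [show (I.index : ℂ) = (T.index : ℂ) from h6]
    ring
  have h10 := one_eq_charDegree (IsIrrCharacter.isCharacter h3)
  rw [h7] at h10
  exact (Nat.cast_injective h10).symm

/-- A retraction onto a complement. -/
theorem exists_retract {K L : Subgroup G} [hK : K.Normal] (hdisj : ∀ x ∈ K, x ∈ L → x = 1)
    (hdec : ∀ g : G, ∃ k ∈ K, ∃ l ∈ L, g = k * l) :
    ∃ r : G →* L, (∀ l : L, r l = l) ∧ ∀ g, r g = 1 ↔ g ∈ K := by
  let f : L →* G ⧸ K := (QuotientGroup.mk' K).comp L.subtype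
  have hf : Function.Bijective f := by
    constructor
    · rw [injective_iff_map_eq_one]
      intro t ht
      have h1 : (t : G) ∈ K := (QuotientGroup.eq_one_iff _).1 ht
      exact Subtype.ext (hdisj _ h1 t.2)
    · intro y
      obtain ⟨x, rfl⟩ := QuotientGroup.mk_surjective y
      obtain ⟨k, hk, t, ht, rfl⟩ := hdec x
      refine ⟨⟨t, ht⟩, ?_⟩
      show ((t : G) : G ⧸ K) = ((k * t : G) : G ⧸ K)
      rw [QuotientGroup.mk_mul, (QuotientGroup.eq_one_iff k).2 hk, one_mul]
  let e : L ≃* G ⧸ K := MulEquiv.ofBijective f hf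
  refine ⟨e.symm.toMonoidHom.comp (QuotientGroup.mk' K), ?_, ?_⟩
  · intro l
    show e.symm (f l) = l
    exact e.symm_apply_apply l
  · intro g
    show e.symm (g : G ⧸ K) = 1 ↔ g ∈ K
    rw [map_eq_one_iff e.symm e.symm.injective]
    exact QuotientGroup.eq_one_iff g

/-- A retraction with section and kernel `K`. -/
structure Ret (r : G →* X) (s : X →* G) (K : Subgroup G) : Prop where
  rs : ∀ x, r (s x) = x
  ker : ∀ g, r g = 1 ↔ g ∈ K

variable {r : G →* X} {s : X →* G} {K : Subgroup G}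

theorem Ret.surj (h : Ret r s K) : Function.Surjective r := fun x => ⟨s x, h.rs x⟩

theorem Ret.mem (h : Ret r s K) (g : G) : g * (s (r g))⁻¹ ∈ K := by
  rw [← h.ker, map_mul, map_inv, h.rs, mul_inv_cancel]

theorem Ret.section_inj (h : Ret r s K) : Function.Injective s := fun a b hab => by
  rw [← h.rs a, ← h.rs b, hab]

/-- The stabiliser in `X` of a character of `K`. -/
def stabT (r : G →* X) (s : X →* G) (K : Subgroup G) [hK : K.Normal] (θ : K → ℂ) : Subgroup X :=
  (DegreeDiv.inertia K hK θ).comap s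

theorem mem_stabT [hK : K.Normal] {θ : K → ℂ} {x : X} : x ∈ stabT r s K θ ↔
    ∀ n : K, θ ⟨s x * n * (s x)⁻¹, hK.conj_mem n n.2 (s x)⟩ = θ n :=
  DegreeDiv.mem_inertia K hK θ (s x)

theorem Ret.r_mem_stabT [hK : K.Normal] (h : Ret r s K) {θ : K → ℂ} (hθ : IsCharacter K θ) (g : G) :
    r g ∈ stabT r s K θ ↔ g ∈ DegreeDiv.inertia K hK θ := by
  have hle := DegreeDiv.le_inertia K hK hθ
  have h1 : g = (g * (s (r g))⁻¹) * s (r g) := by group
  have h2 := hle (h.mem g)
  constructor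
  · intro h3
    rw [h1]
    exact (DegreeDiv.inertia K hK θ).mul_mem h2 h3
  · intro h3
    have h4 : s (r g) = (g * (s (r g))⁻¹)⁻¹ * g := by group
    show s (r g) ∈ DegreeDiv.inertia K hK θ
    rw [h4]
    exact (DegreeDiv.inertia K hK θ).mul_mem ((DegreeDiv.inertia K hK θ).inv_mem h2) h3

theorem Ret.le_comap [hK : K.Normal] (h : Ret r s K) {θ : K → ℂ} : K ≤ (stabT r s K θ).comap r := by
  intro n hn
  show r n ∈ stabT r s K θ
  rw [(h.ker n).2 hn]
  exact Subgroup.one_mem _

/-- Linear characters extend to their inertia group when the quotient splits. -/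
theorem Ret.exists_irr_lin [hK : K.Normal] (h : Ret r s K) (δ : K →* ℂˣ)
    {β : stabT r s K (fun n => ((δ n : ℂˣ) : ℂ)) → ℂ}
    (hβ : IsIrrCharacter (stabT r s K (fun n => ((δ n : ℂˣ) : ℂ))) β) :
    ∃ χ : IrrCharacter G, charDegree (χ : G → ℂ) =
        (stabT r s K (fun n => ((δ n : ℂˣ) : ℂ))).index * charDegree β ∧
      classInner (fun n : K => (χ : G → ℂ) n) (fun n => ((δ n : ℂˣ) : ℂ)) ≠ 0 := by
  set θ : K → ℂ := fun n => ((δ n : ℂˣ) : ℂ) with hθd
  have hθ : IsIrrCharacter K θ := isIrrCharacter_of_hom δ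
  set T := stabT r s K θ with hT
  have hinv : ∀ i : T.comap r, ∀ n : K,
      δ ⟨s (r i) * n * (s (r i))⁻¹, hK.conj_mem n n.2 _⟩ = δ n := by
    intro i n
    have h1 : r (i : G) ∈ T := i.2
    exact Units.ext (mem_stabT.1 h1 n)
  let μ : T.comap r →* ℂˣ :=
    MonoidHom.mk' (fun i => δ ⟨(i : G) * (s (r i))⁻¹, h.mem i⟩) (by
      intro i j
      have h1 := hinv i ⟨(j : G) * (s (r j))⁻¹, h.mem j⟩
      show δ _ = δ _ * δ _
      rw [← h1, ← map_mul]
      congr 1
      apply Subtype.ext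
      simp only [Subgroup.coe_mul, map_mul, mul_inv_rev]
      group)
  have hη : IsCharacter (T.comap r) (fun i => ((μ i : ℂˣ) : ℂ)) :=
    IsIrrCharacter.isCharacter (isIrrCharacter_of_hom μ)
  have hext : ∀ n : K, ((μ ⟨n, h.le_comap n.2⟩ : ℂˣ) : ℂ) = θ n := by
    intro n
    show ((δ _ : ℂˣ) : ℂ) = ((δ n : ℂˣ) : ℂ)
    congr 2
    apply Subtype.ext
    show (n : G) * (s (r n))⁻¹ = n
    rw [(h.ker n).2 n.2, map_one, inv_one, mul_one]
  have hTT : ∀ g : G, r g ∈ T ↔ ∀ n : K, θ ⟨g * n * g⁻¹, hK.conj_mem n n.2 g⟩ = θ n := by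
    intro g
    rw [hT, h.r_mem_stabT (IsIrrCharacter.isCharacter hθ)]
    exact DegreeDiv.mem_inertia K hK θ g
  obtain ⟨χ, h1, h2⟩ := exists_irr_of_stab r h.surj K h.ker hθ T hTT h.le_comap hη hext hβ
  refine ⟨χ, ?_, h2⟩
  rw [h1]
  have h3 : charDegree θ = 1 := by
    simp [charDegree, hθd]
  rw [h3, mul_one]

/-- Characters of a coprime kernel extend to their inertia group. -/
theorem Ret.exists_irr_cop [hK : K.Normal] (h : Ret r s K) (hcop : (Nat.card K).Coprime (Nat.card X))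
    {θ : K → ℂ} (hθ : IsIrrCharacter K θ) {β : stabT r s K θ → ℂ}
    (hβ : IsIrrCharacter (stabT r s K θ) β) :
    ∃ χ : IrrCharacter G, charDegree (χ : G → ℂ) =
        (stabT r s K θ).index * charDegree β * charDegree θ ∧
      classInner (fun n : K => (χ : G → ℂ) n) θ ≠ 0 := by
  set T := stabT r s K θ with hT
  have hTT : ∀ g : G, r g ∈ T ↔ ∀ n : K, θ ⟨g * n * g⁻¹, hK.conj_mem n n.2 g⟩ = θ n := by
    intro g
    rw [hT, h.r_mem_stabT (IsIrrCharacter.isCharacter hθ)]
    exact DegreeDiv.mem_inertia K hK θ g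
  let I := T.comap r
  let K' : Subgroup I := K.subgroupOf I
  let H' : Subgroup I := (T.map s).subgroupOf I
  haveI hK' : K'.Normal := Subgroup.Normal.subgroupOf hK I
  have hsI : ∀ x ∈ T, s x ∈ I := by
    intro x hx
    show r (s x) ∈ T
    rw [h.rs]
    exact hx
  have hs : CoprimeDeg.CS K' H' := by
    constructor
    · rw [eq_top_iff]
      intro i _
      have h1 : (i : G) * (s (r i))⁻¹ ∈ I := I.mul_mem i.2 (I.inv_mem (hsI _ i.2))
      have h2 : i = ⟨(i : G) * (s (r i))⁻¹, h1⟩ * ⟨s (r i), hsI _ i.2⟩ := by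
        apply Subtype.ext
        simp
      rw [h2]
      apply Subgroup.mul_mem_sup
      · exact h.mem i
      · exact ⟨r i, i.2, rfl⟩
    · have h1 : Nat.card K' ∣ Nat.card K := by
        have h2 : K'.map I.subtype ≤ K := by
          rintro _ ⟨y, hy, rfl⟩
          exact hy
        have h3 := Subgroup.card_dvd_of_le h2
        rwa [Subgroup.card_map_of_injective I.subtype_injective] at h3
      have h4 : Nat.card H' ∣ Nat.card X := by
        have h2 : H'.map I.subtype ≤ T.map s := by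
          rintro _ ⟨y, hy, rfl⟩
          exact hy
        have h3 := Subgroup.card_dvd_of_le h2
        rw [Subgroup.card_map_of_injective I.subtype_injective,
          Subgroup.card_map_of_injective h.section_inj] at h3
        exact h3.trans (Subgroup.card_subgroup_dvd_card T)
      exact Nat.Coprime.coprime_dvd_left h1 (Nat.Coprime.coprime_dvd_right h4 hcop)
  let f : K' →* K :=
    { toFun := fun n => ⟨((n : I) : G), n.2⟩
      map_one' := rfl
      map_mul' := fun _ _ => rfl }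
  have hf : Function.Surjective f := by
    intro n
    exact ⟨⟨⟨n, h.le_comap n.2⟩, n.2⟩, rfl⟩
  have hθ' : IsIrrCharacter K' (θ ∘ f) := isIrrCharacter_comp_of_surjective f hf hθ
  have hinv : GlaubCyc.InvS K' H' (θ ∘ f) := by
    intro t ht g g' hg
    obtain ⟨x, hx, hxt⟩ := ht
    have h1 := mem_stabT.1 hx (f g)
    show θ (f g') = θ (f g)
    rw [← h1]
    congr 1
    apply Subtype.ext
    show ((g' : I) : G) = s x * ((g : I) : G) * (s x)⁻¹
    rw [hg, hxt]
    rfl
  obtain ⟨ψ, hψ⟩ := CoprimeDeg.exists_ext_complement hs ⟨⟨θ ∘ f, hθ'⟩, hinv⟩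
  have hext : ∀ n : K, (ψ : I → ℂ) ⟨n, h.le_comap n.2⟩ = θ n := by
    intro n
    exact hψ ⟨⟨n, h.le_comap n.2⟩, n.2⟩
  exact exists_irr_of_stab r h.surj K h.ker hθ T hTT h.le_comap
    (IsIrrCharacter.isCharacter ψ.2) hext hβ

end Cliff

end Cfsg.Agent.Lib.PalfyD
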