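import Mathlib
import Cfsg.Prelude.Def_Blocks
import Cfsg.Agent.Lib.CharKernel
import Cfsg.Agent.Lib.CharCodegP
import Cfsg.Agent.Lib.DegreeDiv
import Cfsg.Agent.Lib.CharCentral
import Cfsg.Agent.Lib.GenChar

/-!
# Tools for the McKay equality: counting irreducible characters by degree
-/

set_option autoImplicit false
set_option linter.unusedSectionVars false
set_option linter.unusedSimpArgs false
set_option linter.unusedVariables false
set_option linter.style.haveILetI false

namespace Cfsg.Agent.Lib.McKayTools

open Cfsg Cfsg.Agent.Lib.CharBasic Cfsg.Agent.Lib.CharInd Cfsg.Agent.Lib.CharKernel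

universe u

section transport

variable {G H : Type*} [Group G] [Group H]

/-- Irreducible characters correspond under an isomorphism. -/
noncomputable def irrCongr (e : G ≃* H) : IrrCharacter G ≃ IrrCharacter H where
  toFun χ := ⟨χ.1 ∘ e.symm, isIrrCharacter_comp_of_surjective e.symm.toMonoidHom e.symm.surjective χ.2⟩
  invFun ψ := ⟨ψ.1 ∘ e, isIrrCharacter_comp_of_surjective e.toMonoidHom e.surjective ψ.2⟩
  left_inv χ := by
    apply Subtype.ext
    funext g
    simp
  right_inv ψ := by
    apply Subtype.ext
    funext g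
    simp

/-- Counting characters by degree is invariant under isomorphisms. -/
theorem count_congr (e : G ≃* H) (P : ℕ → Prop) :
    Nat.card {χ : IrrCharacter G // P (charDegree (χ : G → ℂ))} =
      Nat.card {ψ : IrrCharacter H // P (charDegree (ψ : H → ℂ))} := by
  apply Nat.card_congr
  refine (irrCongr e).subtypeEquiv (fun χ => ?_)
  have : charDegree ((irrCongr e χ : IrrCharacter H) : H → ℂ) = charDegree (χ : G → ℂ) := by
    simp [charDegree, irrCongr]
  rw [this]

end transport

section count

variable {G : Type u} [Group G] [Finite G]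

theorem card_irr_eq : Nat.card (IrrCharacter G) = Nat.card (ConjClasses G) := by
  haveI := Fintype.ofFinite G
  exact card_irr_eq_card_conjClasses

theorem count_all {P : ℕ → Prop} (h : ∀ χ : IrrCharacter G, P (charDegree (χ : G → ℂ))) :
    Nat.card {χ : IrrCharacter G // P (charDegree (χ : G → ℂ))} = Nat.card (ConjClasses G) := by
  rw [← card_irr_eq]
  exact Nat.card_congr (Equiv.subtypeUnivEquiv h)

/-- Ito's theorem. -/
theorem ito_dvd (A : Subgroup G) [A.Normal] (hcomm : ∀ a b : A, a * b = b * a) {χ : G → ℂ}
    (hχ : IsIrrCharacter G χ) : charDegree χ ∣ A.index := by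
  classical
  haveI := Fintype.ofFinite G
  haveI : Fintype A := Fintype.ofFinite _
  have hc : IsCharacter A (fun a : A => χ a) := isCharacter_restrict A (IsIrrCharacter.isCharacter hχ)
  have hcl := isClassFunction_of_isCharacter hc
  obtain ⟨ϑ, hϑ⟩ : ∃ ϑ : IrrCharacter A, classInner (fun a : A => χ a) (ϑ : A → ℂ) ≠ 0 := by
    by_contra hcon
    push Not at hcon
    have h0 := eq_zero_of_orthogonal hcl hcon
    have h1 := congrFun h0 1
    simp only [Subgroup.coe_one, Pi.zero_apply] at h1
    rw [one_eq_charDegree (IsIrrCharacter.isCharacter hχ)] at h1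
    have h2 := Cfsg.Agent.Lib.GenChar.isIrr_one_ne_zero hχ
    rw [one_eq_charDegree (IsIrrCharacter.isCharacter hχ)] at h2
    exact h2 h1
  have h1 : ϑ.1 1 = ((1 : ℕ) : ℂ) := by
    rw [Cfsg.Agent.Lib.CharCodegP.irr_one_of_comm hcomm ϑ.2]
    simp
  have h2 := Cfsg.Agent.Lib.DegreeDiv.degree_div A hχ ϑ.2 hϑ
    (one_eq_charDegree (IsIrrCharacter.isCharacter hχ)) h1
  simpa using h2.2

/-- The partition of the sum of squares by degree. -/
theorem sum_partition' (D : Finset ℕ)
    (hD : ∀ χ : IrrCharacter G, charDegree (χ : G → ℂ) ∈ D) :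
    ∑ d ∈ D, d ^ 2 * (Finset.univ.filter (fun χ : IrrCharacter G => charDegree (χ : G → ℂ) = d)).card =
      Nat.card G := by
  classical
  rw [← sum_charDegree_sq, ← Finset.sum_fiberwise_of_maps_to (fun φ _ => hD φ)]
  refine Finset.sum_congr rfl fun d _ => ?_
  rw [mul_comm, ← smul_eq_mul, ← Finset.sum_const]
  refine Finset.sum_congr rfl fun φ hφ => ?_
  rw [(Finset.mem_filter.mp hφ).2]

/-- A group of order `24` with exactly three linear characters has four characters of odd degree. -/
theorem odd_count_of_three (hG : Nat.card G = 24) (h3 : (commutator G).index = 3) :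
    Nat.card {χ : IrrCharacter G // ¬ 2 ∣ charDegree (χ : G → ℂ)} = 4 := by
  classical
  have hone : (Finset.univ.filter (fun χ : IrrCharacter G => charDegree (χ : G → ℂ) = 1)).card = 3 := by
    rw [← h3, ← Cfsg.Agent.S0154.result (G := G), Nat.card_eq_fintype_card (α := {χ : IrrCharacter G // _}),
      Fintype.card_subtype]
    congr 1
    ext χ
    simp only [Finset.mem_filter, Finset.mem_univ, true_and]
    rw [one_eq_charDegree (IsIrrCharacter.isCharacter χ.2)]
    exact_mod_cast Iff.rfl
  have hsum := sum_charDegree_sq (G := G)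
  rw [hG] at hsum
  have hpos : ∀ χ : IrrCharacter G, 0 < charDegree (χ : G → ℂ) := by
    intro χ
    have h1 := Cfsg.Agent.Lib.GenChar.isIrr_one_ne_zero χ.2
    rw [one_eq_charDegree (IsIrrCharacter.isCharacter χ.2)] at h1
    exact Nat.pos_of_ne_zero (fun h => h1 (by rw [h]; simp))
  have hsplit := Finset.sum_filter_add_sum_filter_not Finset.univ
    (fun χ : IrrCharacter G => charDegree (χ : G → ℂ) = 1) (fun χ => charDegree (χ : G → ℂ) ^ 2)
  rw [hsum] at hsplit
  have hfirst : ∑ χ ∈ Finset.univ.filter (fun χ : IrrCharacter G => charDegree (χ : G → ℂ) = 1),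
      charDegree (χ : G → ℂ) ^ 2 = 3 := by
    rw [Finset.sum_congr rfl (fun χ hχ => by rw [(Finset.mem_filter.mp hχ).2]),
      Finset.sum_const, hone]
    rfl
  rw [hfirst] at hsplit
  have hD : ∀ χ : IrrCharacter G, charDegree (χ : G → ℂ) ∈ ({1, 2, 3, 4} : Finset ℕ) := by
    intro χ
    have h1 := hpos χ
    simp only [Finset.mem_insert, Finset.mem_singleton]
    by_cases h2 : charDegree (χ : G → ℂ) = 1
    · exact Or.inl h2
    · have h3 : charDegree (χ : G → ℂ) ^ 2 ≤ 21 := by
        have h4 := Finset.single_le_sum (f := fun χ : IrrCharacter G => charDegree (χ : G → ℂ) ^ 2)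
          (s := Finset.univ.filter (fun χ : IrrCharacter G => ¬ charDegree (χ : G → ℂ) = 1))
          (fun _ _ => Nat.zero_le _) (Finset.mem_filter.mpr ⟨Finset.mem_univ χ, h2⟩)
        omega
      have h4 : charDegree (χ : G → ℂ) ≤ 4 := by
        by_contra hcon
        have : 5 ≤ charDegree (χ : G → ℂ) := by omega
        nlinarith
      omega
  have hpart := sum_partition' (G := G) _ hD
  rw [hG, Finset.sum_insert (by simp), Finset.sum_insert (by simp), Finset.sum_insert (by simp),
    Finset.sum_singleton, hone] at hpart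
  have hthree : (Finset.univ.filter (fun χ : IrrCharacter G => charDegree (χ : G → ℂ) = 3)).card = 1 := by
    omega
  rw [Nat.card_eq_fintype_card, Fintype.card_subtype]
  have hfilter : Finset.univ.filter (fun χ : IrrCharacter G => ¬ 2 ∣ charDegree (χ : G → ℂ)) =
      Finset.univ.filter (fun χ : IrrCharacter G => charDegree (χ : G → ℂ) = 1) ∪
      Finset.univ.filter (fun χ : IrrCharacter G => charDegree (χ : G → ℂ) = 3) := by
    ext χ
    simp only [Finset.mem_filter, Finset.mem_univ, true_and, Finset.mem_union]
    have h1 := hD χ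
    simp only [Finset.mem_insert, Finset.mem_singleton] at h1
    rcases h1 with h1 | h1 | h1 | h1 <;> rw [h1] <;> simp
  rw [hfilter, Finset.card_union_of_disjoint, hone, hthree]
  rw [Finset.disjoint_filter]
  intro χ _ h1 h2
  omega

end count

end Cfsg.Agent.Lib.McKayTools
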