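import Mathlib
import Cfsg.Agent.Lib.PalfyD
import Cfsg.Agent.Lib.McKayTools

/-!
# Pálfy's three primes theorem: minimal normal subgroups of a minimal counterexample
-/

set_option autoImplicit false
set_option linter.unusedSectionVars false
set_option linter.unusedVariables false
set_option linter.style.haveILetI false

namespace Cfsg.Agent.Lib.PalfyE

open Cfsg Cfsg.Agent.Lib Cfsg.Agent.Lib.NVOrbit Cfsg.Agent.Lib.PCore
open Cfsg.Agent.Lib.PalfyA Cfsg.Agent.Lib.PalfyB Cfsg.Agent.Lib.PalfyC Cfsg.Agent.Lib.NVChar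
open Cfsg.Agent.Lib.PalfyD Cfsg.Agent.Lib.MinNormalPrim
open Cfsg.Agent.Lib.CharBasic Cfsg.Agent.Lib.CharKernel Cfsg.Agent.Lib.CharInd
open scoped commutatorElement Pointwise

universe u

attribute [local instance] Fintype.ofFinite

/-- A counterexample to the three primes theorem. -/
structure Bad (G : Type u) [Group G] (s u v : ℕ) : Prop where
  ps : s.Prime
  pu : u.Prime
  pv : v.Prime
  su : s ≠ u
  sv : s ≠ v
  uv : u ≠ v
  rs : ∃ χ : IrrCharacter G, s ∣ charDegree (χ : G → ℂ)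
  ru : ∃ χ : IrrCharacter G, u ∣ charDegree (χ : G → ℂ)
  rv : ∃ χ : IrrCharacter G, v ∣ charDegree (χ : G → ℂ)
  nsu : ∀ χ : IrrCharacter G, ¬ s * u ∣ charDegree (χ : G → ℂ)
  nsv : ∀ χ : IrrCharacter G, ¬ s * v ∣ charDegree (χ : G → ℂ)
  nuv : ∀ χ : IrrCharacter G, ¬ u * v ∣ charDegree (χ : G → ℂ)

section

variable {G : Type u} [Group G] {s u v : ℕ}

theorem Bad.swap12 (h : Bad G s u v) : Bad G u s v :=
  ⟨h.pu, h.ps, h.pv, h.su.symm, h.uv, h.sv, h.ru, h.rs, h.rv,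
    fun χ => by rw [mul_comm]; exact h.nsu χ, h.nuv, h.nsv⟩

theorem Bad.swap23 (h : Bad G s u v) : Bad G s v u :=
  ⟨h.ps, h.pv, h.pu, h.sv, h.su, h.uv.symm, h.rs, h.rv, h.ru, h.nsv, h.nsu,
    fun χ => by rw [mul_comm]; exact h.nuv χ⟩

end

section Over

variable {G : Type u} [Group G] [Finite G]

/-- All constituents of the restriction being trivial at `n`. -/
theorem char_eq_of_constituents (Y : Subgroup G) {χ : G → ℂ} (hχ : IsCharacter G χ) {n : G} (hn : n ∈ Y)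
    (h : ∀ i : IrrCharacter Y, classInner (fun y : Y => χ y) (i : Y → ℂ) ≠ 0 →
      (i : Y → ℂ) ⟨n, hn⟩ = (i : Y → ℂ) 1) : χ n = χ 1 := by
  have hc := isCharacter_restrict Y hχ
  obtain ⟨m, hm⟩ := exists_nat_decomp hc
  have h1 : ∀ y : Y, χ y = ∑ i, (m i : ℂ) * (i : Y → ℂ) y := by
    intro y
    have := congrFun hm y
    simpa [Finset.sum_apply] using this
  have h2 := h1 ⟨n, hn⟩
  have h3 := h1 1
  simp only [Subgroup.coe_one] at h3
  simp only at h2
  rw [h2, h3]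
  refine Finset.sum_congr rfl fun i _ => ?_
  by_cases hi : m i = 0
  · simp [hi]
  · have h4 : classInner (fun y : Y => χ y) (i : Y → ℂ) = m i := by
      rw [hm]
      exact classInner_nat_decomp m _ i.2
    rw [h i (by rw [h4]; exact_mod_cast hi)]

/-- Characters with `N` in the kernel do not lie over nontrivial linear characters. -/
theorem over_of_ker (N : Subgroup G) {χ : G → ℂ} (hker : ∀ n ∈ N, χ n = χ 1) (l : N →* ℂˣ) (hl : l ≠ 1) :
    classInner (fun n : N => χ n) (fun n => ((l n : ℂˣ) : ℂ)) = 0 := by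
  have h1 : (fun n : N => χ n) = (χ 1) • (fun _ : N => (1 : ℂ)) := by
    funext n
    simp [hker n n.2]
  rw [h1, classInner_smul_left, classInner_irr_ne isIrrCharacter_one (isIrrCharacter_of_hom l), mul_zero]
  intro h2
  apply hl
  ext n
  have := congrFun h2 n
  simpa using this.symm

/-- Irreducible characters of abelian groups are linear. -/
theorem irr_abelian_hom {N : Type u} [Group N] [Finite N] (hN : ∀ a b : N, a * b = b * a) {i : N → ℂ}
    (hi : IsIrrCharacter N i) : ∃ f : N →* ℂˣ, i = fun n => ((f n : ℂˣ) : ℂ) := by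
  have h1 := McKayTools.ito_dvd (⊤ : Subgroup N) (fun a b => Subtype.ext (hN a b)) hi
  rw [Subgroup.index_top, Nat.dvd_one] at h1
  have hc := IsIrrCharacter.isCharacter hi
  have h2 : i 1 = 1 := by
    rw [one_eq_charDegree hc, h1]
    simp
  obtain ⟨f, hf⟩ := exists_hom_of_degree_one hc h2
  exact ⟨f, funext hf⟩

/-- Over only the trivial character: `N` is in the kernel. -/
theorem ker_of_no_over (N : Subgroup G) (hNc : ∀ a ∈ N, ∀ b ∈ N, a * b = b * a) {χ : G → ℂ}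
    (hχ : IsCharacter G χ)
    (h : ∀ l : N →* ℂˣ, l ≠ 1 → classInner (fun n : N => χ n) (fun n => ((l n : ℂˣ) : ℂ)) = 0) :
    ∀ n ∈ N, χ n = χ 1 := by
  intro n hn
  refine char_eq_of_constituents N hχ hn fun i hi => ?_
  obtain ⟨f, hf⟩ := irr_abelian_hom (fun a b => Subtype.ext (hNc a a.2 b b.2)) i.2
  by_cases hf1 : f = 1
  · rw [hf, hf1]
    simp
  · exfalso
    apply hi
    rw [hf]
    exact h f hf1

/-- A linear character kills commutators. -/
theorem hom_comm_eq_one (K : Subgroup G) (f : K →* ℂˣ) {n : G} (hn : n ∈ ⁅K, K⁆) (hK : n ∈ K) :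
    f ⟨n, hK⟩ = 1 := by
  have hle : ⁅K, K⁆ ≤ f.ker.map K.subtype := by
    rw [Subgroup.commutator_le]
    intro x hx y hy
    refine ⟨⁅(⟨x, hx⟩ : K), (⟨y, hy⟩ : K)⁆, ?_, rfl⟩
    show f ⁅(⟨x, hx⟩ : K), (⟨y, hy⟩ : K)⁆ = 1
    rw [map_commutatorElement, commutatorElement_eq_one_iff_mul_comm]
    exact mul_comm _ _
  obtain ⟨k, hk, rfl⟩ := hle hn
  exact hk

end Over

section Typ

variable {G : Type u} [Group G] [Finite G] {s : ℕ}

/-- Every character over a nontrivial linear character of `N` has degree divisible by `s`. -/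
def OverDvd (N : Subgroup G) (s : ℕ) : Prop :=
  ∀ l : N →* ℂˣ, l ≠ 1 → ∀ χ : IrrCharacter G,
    classInner (fun n : N => (χ : G → ℂ) n) (fun n => ((l n : ℂˣ) : ℂ)) ≠ 0 →
      s ∣ charDegree (χ : G → ℂ)

theorem overDvd_of_typ1 [hs : Fact s.Prime] {N K : Subgroup G} [hK : K.Normal] (hKp : IsPGroup s K)
    (hN : N = ⁅K, K⁆) : OverDvd N s := by
  intro l hl χ hover
  by_contra hnd
  apply hover
  apply over_of_ker N _ l hl
  intro n hnN
  have hnK : n ∈ K := by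
    rw [hN] at hnN
    exact Subgroup.commutator_le_left K K hnN
  refine char_eq_of_constituents K (IsIrrCharacter.isCharacter χ.2) hnK fun i hi => ?_
  have hcχ := IsIrrCharacter.isCharacter χ.2
  have hci := IsIrrCharacter.isCharacter i.2
  obtain ⟨h1, -⟩ := DegreeDiv.degree_div K χ.2 i.2 hi (one_eq_charDegree hcχ) (one_eq_charDegree hci)
  have h2 : charDegree (i : K → ℂ) = 1 := by
    rcases CharCentral.pGroup_degree_one_or_dvd hKp i.2 with h3 | h3
    · exact h3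
    · exact absurd (h3.trans h1) hnd
  have h4 : (i : K → ℂ) 1 = 1 := by
    rw [one_eq_charDegree hci, h2]
    simp
  obtain ⟨f, hf⟩ := exists_hom_of_degree_one hci h4
  rw [hf, hf]
  have h5 := hom_comm_eq_one K f (hN ▸ hnN) hnK
  rw [h5, map_one]

theorem sylow_coprime_inf {N : Subgroup G} [hs : Fact s.Prime] (hcop : (Nat.card N).Coprime s)
    (Q : Sylow s G) {x : G} (hN : x ∈ N) (hQ : x ∈ Q) : x = 1 := by
  obtain ⟨k, hk⟩ := exists_pow_of_mem_sylow Q hQ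
  have h1 : orderOf x ∣ s ^ k := orderOf_dvd_of_pow_eq_one hk
  have h2 : orderOf x ∣ Nat.card N := by
    have h3 := orderOf_dvd_natCard (⟨x, hN⟩ : N)
    rwa [Subgroup.orderOf_mk] at h3
  have h3 := Nat.eq_one_of_dvd_coprimes (Nat.Coprime.pow_right k hcop) h2 h1
  exact orderOf_eq_one_iff.1 h3

theorem overDvd_of_typ2 [hs : Fact s.Prime] [Group.IsSolvable G] {N : Subgroup G} [hN : N.Normal]
    (hcop : (Nat.card N).Coprime s)
    (hC : ∀ Q : Sylow s G, N ⊓ Subgroup.centralizer ((Q : Subgroup G) : Set G) = ⊥) : OverDvd N s := by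
  intro l hl χ hover
  by_contra hnd
  have hξ : IsIrrCharacter N (fun n => ((l n : ℂˣ) : ℂ)) := isIrrCharacter_of_hom l
  have h1 := SylowCommute2.not_dvd_inertia_index N hξ χ hnd hover
  obtain ⟨Q, hQ⟩ := SylowCommute2.exists_sylow_le_of_not_dvd_index _ h1
  have hfix : ∀ y ∈ (Q : Subgroup G), ∀ n : N, l ⟨y * n * y⁻¹, hN.conj_mem n n.2 y⟩ = l n := by
    intro y hy n
    exact Units.ext ((DegreeDiv.mem_inertia N hN _ y).1 (hQ hy) n)
  have hA : (Q : Subgroup G) ≤ Subgroup.normalizer (N : Set G) := by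
    exact Subgroup.le_normalizer_of_normal
  have hcop' : (Nat.card (Q : Subgroup G)).Coprime (Nat.card N) := by
    obtain ⟨n, hn⟩ := IsPGroup.iff_card.1 Q.isPGroup'
    rw [hn]
    exact Nat.Coprime.pow_left n hcop.symm
  have h2 := Glauberman.commutator_sup_inf_centralizer hA hcop' (Or.inl inferInstance)
  rw [hC Q, sup_bot_eq] at h2
  have h3 : ⁅N, (Q : Subgroup G)⁆ ≤ l.ker.map N.subtype := by
    rw [Subgroup.commutator_le]
    intro n hn y hy
    refine ⟨⟨n, hn⟩ * ⟨y * n⁻¹ * y⁻¹, hN.conj_mem _ (N.inv_mem hn) y⟩, ?_, ?_⟩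
    · show l _ = 1
      rw [map_mul, hfix y hy ⟨n⁻¹, N.inv_mem hn⟩]
      show l _ * l (⟨n, hn⟩⁻¹) = 1
      rw [map_inv, mul_inv_cancel]
    · show n * (y * n⁻¹ * y⁻¹) = _
      rw [commutatorElement_def]
      group
  apply hl
  ext n
  have h4 : (n : G) ∈ l.ker.map N.subtype := by
    apply h3
    rw [h2]
    exact n.2
  obtain ⟨m, hm, hmn⟩ := h4
  have h5 : m = n := Subtype.ext hmn
  rw [← h5]
  have h6 : l m = 1 := hm
  rw [h6]
  rfl

end Typ

section Structure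

variable {G : Type u} [Group G] [Finite G] {s : ℕ}

/-- An abelian normal subgroup of a quotient pulls back. -/
structure Pull (N K : Subgroup G) (s : ℕ) : Prop where
  nK : K.Normal
  le : N ≤ K
  idx : ¬ s ∣ K.index
  comm : ∀ x ∈ K, ∀ y ∈ K, ⁅x, y⁆ ∈ N
  pow : ∀ x ∈ K, ∃ k : ℕ, x ^ (s ^ k) ∈ N
  pre : ∀ Q : Sylow s G, K ≤ N ⊔ Q

theorem exists_pull [hs : Fact s.Prime] [Group.IsSolvable G] (N : Subgroup G) [hN : N.Normal]
    (hq : ∀ χ : IrrCharacter (G ⧸ N), ¬ s ∣ charDegree (χ : G ⧸ N → ℂ)) : ∃ K, Pull N K s := by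
  obtain ⟨P, hPn, hPc, hPp, hPi⟩ :=
    (Cfsg.Agent.S4493.result (G := G ⧸ N) inferInstance s hs.out).2 hq
  let π := QuotientGroup.mk' N
  have hπ : Function.Surjective π := QuotientGroup.mk'_surjective N
  have hmemP : ∀ {y : G ⧸ N} {k : ℕ}, y ^ (s ^ k) = 1 → y ∈ P := fun {y k} h => mem_of_pelt hPn hPi h
  refine ⟨P.comap π, ⟨Subgroup.Normal.comap hPn π, ?_, ?_, ?_, ?_, ?_⟩⟩
  · intro n hn
    show π n ∈ P
    rw [show π n = 1 from (QuotientGroup.eq_one_iff n).2 hn]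
    exact P.one_mem
  · rw [Subgroup.index_comap_of_surjective P hπ]
    exact hPi
  · intro x hx y hy
    rw [← QuotientGroup.eq_one_iff]
    show π ⁅x, y⁆ = 1
    rw [map_commutatorElement, commutatorElement_eq_one_iff_mul_comm]
    exact hPc _ hx _ hy
  · intro x hx
    have h1 : IsPGroup s P := hPp
    obtain ⟨k, hk⟩ := h1 ⟨π x, hx⟩
    refine ⟨k, ?_⟩
    rw [← QuotientGroup.eq_one_iff]
    show π (x ^ (s ^ k)) = 1
    rw [map_pow]
    exact congrArg Subtype.val hk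
  · intro Q x hx
    obtain ⟨R, hR⟩ := IsPGroup.exists_le_sylow hPp
    have hRP : (R : Subgroup (G ⧸ N)) ≤ P := by
      intro y hy
      obtain ⟨k, hk⟩ := exists_pow_of_mem_sylow R hy
      exact hmemP hk
    have hRe : (R : Subgroup (G ⧸ N)) = P := le_antisymm hRP hR
    let Q' := Q.mapSurjective hπ
    have hQ'P : (Q' : Subgroup (G ⧸ N)) ≤ R := by
      intro y hy
      obtain ⟨k, hk⟩ := exists_pow_of_mem_sylow Q' hy
      rw [hRe]
      exact hmemP hk
    have hQ'R : (Q' : Subgroup (G ⧸ N)) = R := by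
      apply Subgroup.eq_of_le_of_card_ge hQ'P
      rw [Sylow.card_eq_multiplicity, Sylow.card_eq_multiplicity]
    have h1 : π x ∈ (Q' : Subgroup (G ⧸ N)) := by
      rw [hQ'R, hRe]
      exact hx
    obtain ⟨y, hy, hyx⟩ := h1
    have h2 : y⁻¹ * x ∈ N := by
      rw [← QuotientGroup.eq_one_iff]
      show π (y⁻¹ * x) = 1
      rw [map_mul, map_inv]
      have h3 : π y = π x := hyx
      rw [h3, inv_mul_cancel]
    have h3 : x = y * (y⁻¹ * x) := by group
    rw [h3]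
    exact Subgroup.mul_mem _ (Subgroup.mem_sup_right hy) (Subgroup.mem_sup_left h2)

/-- Two different minimal normal subgroups with no `s` in the degrees of the quotients. -/
theorem no_deg_of_two [hs : Fact s.Prime] [Group.IsSolvable G] {N₁ N₂ : Subgroup G} [hN₁ : N₁.Normal]
    [hN₂ : N₂.Normal] (hinf : N₁ ⊓ N₂ = ⊥)
    (hq₁ : ∀ χ : IrrCharacter (G ⧸ N₁), ¬ s ∣ charDegree (χ : G ⧸ N₁ → ℂ))
    (hq₂ : ∀ χ : IrrCharacter (G ⧸ N₂), ¬ s ∣ charDegree (χ : G ⧸ N₂ → ℂ))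
    (χ : IrrCharacter G) : ¬ s ∣ charDegree (χ : G → ℂ) := by
  obtain ⟨K₁, h₁⟩ := exists_pull N₁ hq₁
  obtain ⟨K₂, h₂⟩ := exists_pull N₂ hq₂
  haveI := h₁.nK
  haveI := h₂.nK
  have hbot : ∀ x, x ∈ N₁ → x ∈ N₂ → x = 1 := by
    intro x h3 h4
    have h5 : x ∈ N₁ ⊓ N₂ := ⟨h3, h4⟩
    rw [hinf] at h5
    exact h5
  refine (Cfsg.Agent.S4493.result (G := G) inferInstance s hs.out).1 ⟨K₁ ⊓ K₂, inferInstance, ?_, ?_, ?_⟩ χ
  · intro x hx y hy
    have h3 := hbot _ (h₁.comm x hx.1 y hy.1) (h₂.comm x hx.2 y hy.2)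
    exact commutatorElement_eq_one_iff_mul_comm.1 h3
  · rw [IsPGroup]
    rintro ⟨x, hx⟩
    obtain ⟨a, ha⟩ := h₁.pow x hx.1
    obtain ⟨b, hb⟩ := h₂.pow x hx.2
    refine ⟨a + b, Subtype.ext ?_⟩
    show x ^ (s ^ (a + b)) = 1
    apply hbot
    · rw [pow_add, pow_mul]
      exact N₁.pow_mem ha _
    · rw [pow_add, mul_comm, pow_mul]
      exact N₂.pow_mem hb _
  · obtain ⟨Q⟩ : Nonempty (Sylow s G) := inferInstance
    have h3 : (Q : Subgroup G) ≤ K₁ ⊓ K₂ := by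
      intro x hx
      obtain ⟨k, hk⟩ := exists_pow_of_mem_sylow Q hx
      exact ⟨mem_of_pelt h₁.nK h₁.idx hk, mem_of_pelt h₂.nK h₂.idx hk⟩
    intro h4
    exact Q.not_dvd_index (h4.trans (Subgroup.index_dvd_of_le h3))

/-- Minimal normal subgroups are abelian. -/
theorem minNormal_abelian [Group.IsSolvable G] {N : Subgroup G} (hN : IsMinNormal N) :
    ∀ a ∈ N, ∀ b ∈ N, a * b = b * a := by
  obtain ⟨A, hAn, hAb, hAN, hAc⟩ := PCore.exists_abelian_normal_le N hN.1 hN.2.1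
  rcases hN.2.2 A hAn hAN with h | h
  · exact absurd h hAb
  · subst h
    intro a ha b hb
    have h1 := Subgroup.commutator_mem_commutator ha hb
    rw [hAc] at h1
    exact commutatorElement_eq_one_iff_mul_comm.1 h1

theorem exists_mul_of_sup_top {L N : Subgroup G} [N.Normal] (h : L ⊔ N = ⊤) (g : G) :
    ∃ l ∈ L, ∃ n ∈ N, g = l * n := by
  have h1 : g ∈ ((L ⊔ N : Subgroup G) : Set G) := by
    rw [h]
    trivial
  rw [Subgroup.mul_normal] at h1
  obtain ⟨l, hl, n, hn, rfl⟩ := Set.mem_mul.1 h1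
  exact ⟨l, hl, n, hn, rfl⟩

/-- The first kind. -/
structure Typ1 (N K : Subgroup G) (s : ℕ) : Prop where
  nK : K.Normal
  p : IsPGroup s K
  idx : ¬ s ∣ K.index
  eq : N = ⁅K, K⁆

/-- The second kind. -/
structure Typ2 (N : Subgroup G) (s : ℕ) : Prop where
  cop : (Nat.card N).Coprime s
  cen : ∀ Q : Sylow s G, N ⊓ Subgroup.centralizer ((Q : Subgroup G) : Set G) = ⊥
  sup : ∀ Q : Sylow s G, Subgroup.normalizer ((Q : Subgroup G) : Set G) ⊔ N = ⊤

/-- The two kinds of minimal normal subgroups. -/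
theorem dichotomy [hs : Fact s.Prime] [Group.IsSolvable G] {N : Subgroup G} [hNn : N.Normal]
    (hN : IsMinNormal N) (hq : ∀ χ : IrrCharacter (G ⧸ N), ¬ s ∣ charDegree (χ : G ⧸ N → ℂ))
    (rs : ∃ χ : IrrCharacter G, s ∣ charDegree (χ : G → ℂ)) :
    (∃ K, Typ1 N K s) ∨ Typ2 N s := by
  obtain ⟨K, hK⟩ := exists_pull N hq
  haveI := hK.nK
  have hab := minNormal_abelian hN
  obtain ⟨t, ht, htN⟩ := hN.exists_prime_pow_eq_one hab
  have hno : ∀ P₀ : Subgroup G, P₀.Normal → (∀ x ∈ P₀, ∀ y ∈ P₀, x * y = y * x) → IsPGroup s P₀ →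
      ¬ s ∣ P₀.index → False := by
    intro P₀ h1 h2 h3 h4
    obtain ⟨χ, hχ⟩ := rs
    exact (Cfsg.Agent.S4493.result (G := G) inferInstance s hs.out).1 ⟨P₀, h1, h2, h3, h4⟩ χ hχ
  by_cases hts : t = s
  · subst hts
    left
    refine ⟨K, hK.nK, ?_, hK.idx, ?_⟩
    · rintro ⟨x, hx⟩
      obtain ⟨k, hk⟩ := hK.pow x hx
      refine ⟨k + 1, Subtype.ext ?_⟩
      show x ^ (t ^ (k + 1)) = 1
      rw [pow_succ, pow_mul]
      exact htN _ hk
    · have hle : ⁅K, K⁆ ≤ N := by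
        rw [Subgroup.commutator_le]
        exact hK.comm
      have hnorm : (⁅K, K⁆ : Subgroup G).Normal := inferInstance
      rcases hN.2.2 _ hnorm hle with h | h
      · exfalso
        refine hno K hK.nK ?_ ?_ hK.idx
        · intro x hx y hy
          have h1 := Subgroup.commutator_mem_commutator hx hy
          rw [h] at h1
          exact commutatorElement_eq_one_iff_mul_comm.1 h1
        · rintro ⟨x, hx⟩
          obtain ⟨k, hk⟩ := hK.pow x hx
          refine ⟨k + 1, Subtype.ext ?_⟩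
          show x ^ (t ^ (k + 1)) = 1
          rw [pow_succ, pow_mul]
          exact htN _ hk
      · exact h.symm
  · right
    have hcop : (Nat.card N).Coprime s := by
      haveI : Fact t.Prime := ⟨ht⟩
      have hp : IsPGroup t N := by
        rintro ⟨x, hx⟩
        refine ⟨1, Subtype.ext ?_⟩
        show x ^ (t ^ 1) = 1
        rw [pow_one]
        exact htN x hx
      obtain ⟨n, hn⟩ := IsPGroup.iff_card.1 hp
      haveI : Fact t.Prime := ⟨ht⟩
      rw [hn]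
      exact Nat.Coprime.pow_left n ((Nat.coprime_primes ht hs.out).2 hts)
    have hQK : ∀ Q : Sylow s G, (Q : Subgroup G) ≤ K := by
      intro Q x hx
      obtain ⟨k, hk⟩ := exists_pow_of_mem_sylow Q hx
      exact mem_of_pelt hK.nK hK.idx hk
    have hsup : ∀ Q : Sylow s G, Subgroup.normalizer ((Q : Subgroup G) : Set G) ⊔ N = ⊤ := by
      intro Q
      have h1 := Sylow.normalizer_sup_eq_top' Q (hQK Q)
      rw [eq_top_iff, ← h1]
      apply sup_le le_sup_left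
      refine (hK.pre Q).trans (sup_le le_sup_right ?_)
      exact Subgroup.le_normalizer.trans le_sup_left
    refine ⟨hcop, ?_, hsup⟩
    intro Q
    have hnorm : (N ⊓ Subgroup.centralizer ((Q : Subgroup G) : Set G)).Normal := by
      constructor
      rintro c ⟨hc1, hc2⟩ g
      obtain ⟨l, hl, n, hn, rfl⟩ := exists_mul_of_sup_top (hsup Q) g
      have h1 : (l * n) * c * (l * n)⁻¹ = l * c * l⁻¹ := by
        have h2 := hab n hn c hc1
        calc (l * n) * c * (l * n)⁻¹ = l * (n * c) * n⁻¹ * l⁻¹ := by group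
          _ = l * (c * n) * n⁻¹ * l⁻¹ := by rw [h2]
          _ = l * c * l⁻¹ := by group
      rw [h1]
      refine ⟨hNn.conj_mem c hc1 l, Subgroup.mem_centralizer_iff.2 ?_⟩
      intro q hq
      have hq' : l⁻¹ * q * l ∈ (Q : Subgroup G) := by
        have h2 := (Subgroup.mem_normalizer_iff'.1 hl)
        have h3 := (Subgroup.mem_normalizer_iff.1 (Subgroup.inv_mem _ hl) q).1 hq
        simpa using h3
      have h4 := Subgroup.mem_centralizer_iff.1 hc2 _ hq'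
      calc q * (l * c * l⁻¹) = l * ((l⁻¹ * q * l) * c) * l⁻¹ := by group
        _ = l * (c * (l⁻¹ * q * l)) * l⁻¹ := by rw [h4]
        _ = l * c * l⁻¹ * q := by group
    rcases hN.2.2 _ hnorm inf_le_left with h | h
    · exact h
    · exfalso
      have hNC : N ≤ Subgroup.centralizer ((Q : Subgroup G) : Set G) := by
        rw [← h]
        exact inf_le_right
      have hQn : Subgroup.normalizer ((Q : Subgroup G) : Set G) = ⊤ := by
        rw [eq_top_iff, ← hsup Q]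
        exact sup_le le_rfl (hNC.trans (Subgroup.centralizer_le_normalizer _))
      refine hno Q (Subgroup.normalizer_eq_top_iff.1 hQn) ?_ Q.isPGroup' Q.not_dvd_index
      intro x hx y hy
      have h1 := hK.comm x (hQK Q hx) y (hQK Q hy)
      have h2 : ⁅x, y⁆ ∈ (Q : Subgroup G) := by
        rw [commutatorElement_def]
        exact (Q : Subgroup G).mul_mem ((Q : Subgroup G).mul_mem ((Q : Subgroup G).mul_mem hx hy)
          ((Q : Subgroup G).inv_mem hx)) ((Q : Subgroup G).inv_mem hy)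
      exact commutatorElement_eq_one_iff_mul_comm.1 (sylow_coprime_inf hcop Q h1 h2)

/-- No degree divisible by `s` in the quotient. -/
def NoDeg (M : Subgroup G) [M.Normal] (s : ℕ) : Prop :=
  ∀ χ : IrrCharacter (G ⧸ M), ¬ s ∣ charDegree (χ : G ⧸ M → ℂ)

theorem overDvd_of_noDeg [hs : Fact s.Prime] [Group.IsSolvable G] {N : Subgroup G} [hNn : N.Normal]
    (hN : IsMinNormal N) (hq : NoDeg N s)
    (rs : ∃ χ : IrrCharacter G, s ∣ charDegree (χ : G → ℂ)) : OverDvd N s := by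
  rcases dichotomy hN hq rs with ⟨K, hK⟩ | h
  · haveI := hK.nK
    exact overDvd_of_typ1 hK.p hK.eq
  · exact overDvd_of_typ2 h.cop h.cen

/-- A character which is nontrivial at two given points. -/
theorem exists_hom_ne_two {M : Type*} [Group M] [Finite M] (hc : ∀ x y : M, x * y = y * x) {a b : M}
    (ha : a ≠ 1) (hb : b ≠ 1) : ∃ l : M →* ℂˣ, l a ≠ 1 ∧ l b ≠ 1 := by
  letI instM : CommGroup M := { (inferInstance : Group M) with mul_comm := hc }
  haveI : NeZero (Monoid.exponent M) := ⟨Monoid.exponent_ne_zero_of_finite⟩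
  obtain ⟨l₁, hl₁⟩ := CommGroup.exists_apply_ne_one_of_hasEnoughRootsOfUnity M ℂ ha
  obtain ⟨l₂, hl₂⟩ := CommGroup.exists_apply_ne_one_of_hasEnoughRootsOfUnity M ℂ hb
  by_cases h1 : l₁ b = 1
  · by_cases h2 : l₂ a = 1
    · refine ⟨l₁ * l₂, ?_, ?_⟩
      · rw [MonoidHom.mul_apply, h2, mul_one]
        exact hl₁
      · rw [MonoidHom.mul_apply, h1, one_mul]
        exact hl₂
    · exact ⟨l₂, h2, hl₂⟩
  · exact ⟨l₁, hl₁, h1⟩

/-- Two minimal normal subgroups of different kinds. -/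
theorem two_types {N₁ N₂ : Subgroup G} [hN₁ : N₁.Normal] [hN₂ : N₂.Normal]
    (hab₁ : ∀ a ∈ N₁, ∀ b ∈ N₁, a * b = b * a) (hab₂ : ∀ a ∈ N₂, ∀ b ∈ N₂, a * b = b * a)
    (hinf : N₁ ⊓ N₂ = ⊥) (ne₁ : N₁ ≠ ⊥) (ne₂ : N₂ ≠ ⊥) {s₁ s₂ : ℕ}
    (h₁ : OverDvd N₁ s₁) (h₂ : OverDvd N₂ s₂) (hcop : s₁.Coprime s₂) :
    ∃ χ : IrrCharacter G, s₁ * s₂ ∣ charDegree (χ : G → ℂ) := by
  have hc12 : ∀ a ∈ N₁, ∀ b ∈ N₂, a * b = b * a := by
    intro a ha b hb
    have h1 := Subgroup.commutator_mem_commutator ha hb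
    have h2 := Subgroup.commutator_le_inf N₁ N₂ h1
    rw [hinf] at h2
    exact commutatorElement_eq_one_iff_mul_comm.1 h2
  let N₀ := N₁ ⊔ N₂
  have hN₀ : ∀ x : N₀, ∃ a ∈ N₁, ∃ b ∈ N₂, (x : G) = a * b := by
    rintro ⟨x, hx⟩
    have h1 : x ∈ ((N₁ ⊔ N₂ : Subgroup G) : Set G) := hx
    rw [Subgroup.mul_normal] at h1
    obtain ⟨a, ha, b, hb, rfl⟩ := Set.mem_mul.1 h1
    exact ⟨a, ha, b, hb, rfl⟩
  have hc : ∀ x y : N₀, x * y = y * x := by
    intro x y
    obtain ⟨a, ha, b, hb, hx⟩ := hN₀ x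
    obtain ⟨a', ha', b', hb', hy⟩ := hN₀ y
    apply Subtype.ext
    show (x : G) * y = y * x
    rw [hx, hy]
    have h1 := hab₁ a ha a' ha'
    have h2 := hab₂ b hb b' hb'
    have h3 := hc12 a ha b' hb'
    have h4 := hc12 a' ha' b hb
    calc a * b * (a' * b') = a * (b * a') * b' := by group
      _ = a * (a' * b) * b' := by rw [h4]
      _ = (a * a') * (b * b') := by group
      _ = (a' * a) * (b' * b) := by rw [h1, h2]
      _ = a' * (a * b') * b := by group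
      _ = a' * (b' * a) * b := by rw [h3]
      _ = a' * b' * (a * b) := by group
  obtain ⟨a, ha, ha1⟩ := (Subgroup.ne_bot_iff_exists_ne_one.1 ne₁ : ∃ a : N₁, a ≠ 1) |>.imp
    (fun a h => h) |> fun ⟨a, h⟩ => (⟨(a : G), a.2, fun h2 => h (Subtype.ext h2)⟩ : ∃ x : G, x ∈ N₁ ∧ x ≠ 1)
  obtain ⟨b, hb, hb1⟩ := (Subgroup.ne_bot_iff_exists_ne_one.1 ne₂ : ∃ a : N₂, a ≠ 1) |>.imp
    (fun a h => h) |> fun ⟨a, h⟩ => (⟨(a : G), a.2, fun h2 => h (Subtype.ext h2)⟩ : ∃ x : G, x ∈ N₂ ∧ x ≠ 1)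
  have haN : a ∈ N₀ := Subgroup.mem_sup_left ha
  have hbN : b ∈ N₀ := Subgroup.mem_sup_right hb
  obtain ⟨l, hla, hlb⟩ := exists_hom_ne_two hc (a := ⟨a, haN⟩) (b := ⟨b, hbN⟩)
    (fun h => ha1 (congrArg Subtype.val h)) (fun h => hb1 (congrArg Subtype.val h))
  obtain ⟨χ, hχ, hover⟩ := CharCoprime.exists_over N₀ (isIrrCharacter_of_hom l)
  have hτ := isCharacter_restrict N₀ (IsIrrCharacter.isCharacter hχ)
  have key : ∀ (Y : Subgroup G) (hY : Y ≤ N₀) (d : G) (hd : d ∈ Y) (s' : ℕ), l ⟨d, hY hd⟩ ≠ 1 →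
      OverDvd Y s' → s' ∣ charDegree χ := by
    intro Y hY d hd s' hd1 hO
    let ι : Y →* N₀ := Subgroup.inclusion hY
    let θ : Y →* ℂˣ := l.comp ι
    have h1 : θ ≠ 1 := by
      intro h
      apply hd1
      have := DFunLike.congr_fun h ⟨d, hd⟩
      exact this
    have h2 := SylowCommute2.over_trans ι hτ (isIrrCharacter_of_hom l) hover
      (isIrrCharacter_of_hom θ) (by
        have h3 : (fun n : N₀ => ((l n : ℂˣ) : ℂ)) ∘ ι = fun n : Y => ((θ n : ℂˣ) : ℂ) := rfl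
        rw [h3, classInner_irr_self (isIrrCharacter_of_hom θ)]
        exact one_ne_zero)
    exact hO θ h1 ⟨χ, hχ⟩ h2
  have h1 := key N₁ le_sup_left a ha s₁ hla h₁
  have h2 := key N₂ le_sup_right b hb s₂ hlb h₂
  exact ⟨⟨χ, hχ⟩, hcop.mul_dvd_of_dvd_of_dvd h1 h2⟩

theorem rho_quot {N : Subgroup G} (hNc : ∀ a ∈ N, ∀ b ∈ N, a * b = b * a) {s q : ℕ} (hcop : s.Coprime q)
    (hO : OverDvd N s) (hq : ∃ χ : IrrCharacter G, q ∣ charDegree (χ : G → ℂ))
    (hno : ∀ χ : IrrCharacter G, ¬ s * q ∣ charDegree (χ : G → ℂ)) :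
    ∃ χ : IrrCharacter G, q ∣ charDegree (χ : G → ℂ) ∧ ∀ n ∈ N, (χ : G → ℂ) n = (χ : G → ℂ) 1 := by
  obtain ⟨χ, hχ⟩ := hq
  refine ⟨χ, hχ, ker_of_no_over N hNc (IsIrrCharacter.isCharacter χ.2) ?_⟩
  intro l hl
  by_contra h
  exact hno χ (hcop.mul_dvd_of_dvd_of_dvd (hO l hl χ h) hχ)

/-- A minimal counterexample has at most one minimal normal subgroup. -/
theorem no_two_min_aux [Group.IsSolvable G] {N₁ N₂ : Subgroup G} [hN₁ : N₁.Normal] [hN₂ : N₂.Normal]
    (h₁ : IsMinNormal N₁) (h₂ : IsMinNormal N₂) (hne : N₁ ≠ N₂) {p q : ℕ} (hp : p.Prime) (hq : q.Prime)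
    (rp : ∃ χ : IrrCharacter G, p ∣ charDegree (χ : G → ℂ))
    (rq : ∃ χ : IrrCharacter G, q ∣ charDegree (χ : G → ℂ))
    (hpq : p ≠ q → ∀ χ : IrrCharacter G, ¬ p * q ∣ charDegree (χ : G → ℂ))
    (hq₁ : NoDeg N₁ p) (hq₂ : NoDeg N₂ q) : False := by
  haveI : Fact p.Prime := ⟨hp⟩
  haveI : Fact q.Prime := ⟨hq⟩
  have hinf : N₁ ⊓ N₂ = ⊥ := by
    have hn : (N₁ ⊓ N₂).Normal := inferInstance
    rcases h₁.2.2 _ hn inf_le_left with h | h
    · exact h
    · rcases h₂.2.2 _ hn inf_le_right with h' | h'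
      · exact h'
      · exact absurd (h.symm.trans h') hne
  by_cases hpq' : p = q
  · subst hpq'
    obtain ⟨χ, hχ⟩ := rp
    exact no_deg_of_two hinf hq₁ hq₂ χ hχ
  · obtain ⟨χ, hχ⟩ := two_types (minNormal_abelian h₁) (minNormal_abelian h₂) hinf h₁.2.1 h₂.2.1
      (overDvd_of_noDeg h₁ hq₁ rp) (overDvd_of_noDeg h₂ hq₂ rq) ((Nat.coprime_primes hp hq).2 hpq')
    exact hpq hpq' χ hχ

theorem Bad.no_two_min [Group.IsSolvable G] {s u v : ℕ} (hb : Bad G s u v) {N₁ N₂ : Subgroup G}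
    [hN₁ : N₁.Normal] [hN₂ : N₂.Normal]
    (h₁ : IsMinNormal N₁) (h₂ : IsMinNormal N₂) (hne : N₁ ≠ N₂)
    (hq₁ : NoDeg N₁ s ∨ NoDeg N₁ u ∨ NoDeg N₁ v) (hq₂ : NoDeg N₂ s ∨ NoDeg N₂ u ∨ NoDeg N₂ v) : False := by
  have e1 : ∀ {a b : ℕ}, (∀ χ : IrrCharacter G, ¬ a * b ∣ charDegree (χ : G → ℂ)) →
      ∀ χ : IrrCharacter G, ¬ b * a ∣ charDegree (χ : G → ℂ) := by
    intro a b h χ
    rw [mul_comm]
    exact h χ
  rcases hq₁ with a | a | a <;> rcases hq₂ with b | b | b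
  · exact no_two_min_aux h₁ h₂ hne hb.ps hb.ps hb.rs hb.rs (fun h => absurd rfl h) a b
  · exact no_two_min_aux h₁ h₂ hne hb.ps hb.pu hb.rs hb.ru (fun _ => hb.nsu) a b
  · exact no_two_min_aux h₁ h₂ hne hb.ps hb.pv hb.rs hb.rv (fun _ => hb.nsv) a b
  · exact no_two_min_aux h₁ h₂ hne hb.pu hb.ps hb.ru hb.rs (fun _ => e1 hb.nsu) a b
  · exact no_two_min_aux h₁ h₂ hne hb.pu hb.pu hb.ru hb.ru (fun h => absurd rfl h) a b
  · exact no_two_min_aux h₁ h₂ hne hb.pu hb.pv hb.ru hb.rv (fun _ => hb.nuv) a b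
  · exact no_two_min_aux h₁ h₂ hne hb.pv hb.ps hb.rv hb.rs (fun _ => e1 hb.nsv) a b
  · exact no_two_min_aux h₁ h₂ hne hb.pv hb.pu hb.rv hb.ru (fun _ => e1 hb.nuv) a b
  · exact no_two_min_aux h₁ h₂ hne hb.pv hb.pv hb.rv hb.rv (fun h => absurd rfl h) a b

end Structure

end Cfsg.Agent.Lib.PalfyE
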