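import Mathlib
import Cfsg.Agent.Lib.GlaubSyl1
import Cfsg.Agent.Lib.GlaubAbove
import Cfsg.Agent.Lib.CharClifford

/-!
# Multiplicities in the Clifford correspondence
-/

set_option autoImplicit false
set_option linter.style.haveILetI false
set_option linter.unusedVariables false
set_option linter.unusedSectionVars false

namespace Cfsg.Agent.Lib.GlaubSyl2

open Cfsg Cfsg.Agent.Lib.CharBasic Cfsg.Agent.Lib.CharInd Cfsg.Agent.Lib.Clifford
open Cfsg.Agent.Lib.GlaubSyl1 Cfsg.Agent.Lib.GlaubAbove Cfsg.Agent.Lib.CharInduction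
open scoped ComplexConjugate

universe u

attribute [local instance] Fintype.ofFinite

section Pos

variable {K L : Type u} [Group K] [Finite K] [Group L] [Finite L]

/-- Lying over is transitive. -/
theorem inner_comp_pos (f : L →* K) {α : K → ℂ} (hα : IsCharacter K α) {φ : K → ℂ}
    (hφ : IsIrrCharacter K φ) {δ : L → ℂ} (hδ : IsIrrCharacter L δ)
    (h1 : classInner α φ ≠ 0) (h2 : classInner (fun l => φ (f l)) δ ≠ 0) :
    classInner (fun l => α (f l)) δ ≠ 0 := by
  have h3 : ∀ τ : IrrCharacter K, ∃ k : ℕ, classInner α (τ : K → ℂ) = k :=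
    fun τ => classInner_char_irr hα τ.2
  have h4 : ∀ τ : IrrCharacter K, ∃ k : ℕ,
      classInner (fun l => (τ : K → ℂ) (f l)) δ = k := fun τ =>
    classInner_char_irr (isCharacter_comp f (IsIrrCharacter.isCharacter τ.2)) hδ
  choose c hc using h3
  choose r hr using h4
  have h5 := classInner_comp_eq_sum α (isClassFunction_of_isCharacter hα) f δ
  have h6 : classInner (fun l => α (f l)) δ = ((∑ τ : IrrCharacter K, c τ * r τ : ℕ) : ℂ) := by
    rw [h5]
    push_cast
    refine Finset.sum_congr rfl fun τ _ => ?_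
    rw [hc τ, hr τ]
  rw [h6]
  have h8 : c ⟨φ, hφ⟩ ≠ 0 := by
    intro h
    apply h1
    have := hc ⟨φ, hφ⟩
    rw [h] at this
    simpa using this
  have h9 : r ⟨φ, hφ⟩ ≠ 0 := by
    intro h
    apply h2
    have := hr ⟨φ, hφ⟩
    rw [h] at this
    simpa using this
  have h10 : 0 < ∑ τ : IrrCharacter K, c τ * r τ :=
    Finset.sum_pos' (fun _ _ => Nat.zero_le _)
      ⟨⟨φ, hφ⟩, Finset.mem_univ _, Nat.mul_pos (Nat.pos_of_ne_zero h8) (Nat.pos_of_ne_zero h9)⟩
  exact_mod_cast h10.ne'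

end Pos

section Clifford

variable {X : Type u} [Group X] [Finite X] (N : Subgroup X) [hN : N.Normal] {lam : N → ℂ}
  (I : Subgroup X)

/-- `[(ψ^X)_I, ψ] = 1`. -/
theorem inner_ind_res_self (hlam : IsIrrCharacter N lam)
    (hI : ∀ g : X, g ∈ I ↔ ∀ n : N, lam ⟨g * n * g⁻¹, hN.conj_mem (n : X) n.2 g⟩ = lam n)
    (hNI : N ≤ I) {ψ : I → ℂ} (hψ : IsIrrCharacter I ψ)
    (hover : classInner (fun n : N => ψ ⟨(n : X), hNI n.2⟩) lam ≠ 0) :
    classInner (fun i : I => indFun I ψ i) ψ = 1 := by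
  obtain ⟨hirr, -⟩ := indFun_irr_of_over N I hlam hI hNI hψ hover
  have h1 := classInner_irr_self hirr
  rw [frobenius I ψ (isClassFunction_of_isCharacter (IsIrrCharacter.isCharacter hirr))] at h1
  have h2 := classInner_conj_symm (fun i : I => indFun I ψ i) ψ
  rw [h1] at h2
  have h3 := congrArg conj h2
  simpa using h3

/-- `[(ψ^X)_I, ρ] = 0` for `ρ ≠ ψ` over `θ`. -/
theorem inner_ind_res_other (hlam : IsIrrCharacter N lam)
    (hI : ∀ g : X, g ∈ I ↔ ∀ n : N, lam ⟨g * n * g⁻¹, hN.conj_mem (n : X) n.2 g⟩ = lam n)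
    (hNI : N ≤ I) {ψ ρ : I → ℂ} (hψ : IsIrrCharacter I ψ) (hρ : IsIrrCharacter I ρ)
    (hover : classInner (fun n : N => ψ ⟨(n : X), hNI n.2⟩) lam ≠ 0)
    (hoverρ : classInner (fun n : N => ρ ⟨(n : X), hNI n.2⟩) lam ≠ 0) (hne : ρ ≠ ψ) :
    classInner (fun i : I => indFun I ψ i) ρ = 0 := by
  haveI : DecidableEq (IrrCharacter I) := Classical.decEq _
  obtain ⟨hirr, hmul⟩ := indFun_irr_of_over N I hlam hI hNI hψ hover
  have hαc : IsCharacter I (fun i : I => indFun I ψ i) :=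
    isCharacter_restrict I (IsIrrCharacter.isCharacter hirr)
  have h3 : ∀ τ : IrrCharacter I, ∃ k : ℕ, classInner (fun i : I => indFun I ψ i) (τ : I → ℂ) = k :=
    fun τ => classInner_char_irr hαc τ.2
  have h4 : ∀ τ : IrrCharacter I, ∃ k : ℕ,
      classInner (fun n : N => (τ : I → ℂ) ⟨(n : X), hNI n.2⟩) lam = k := fun τ =>
    classInner_char_irr (isCharacter_comp (Subgroup.inclusion hNI)
      (IsIrrCharacter.isCharacter τ.2)) hlam
  choose c hc using h3
  choose r hr using h4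
  have h5 := classInner_comp_eq_sum (fun i : I => indFun I ψ i)
    (isClassFunction_of_isCharacter hαc) (Subgroup.inclusion hNI) lam
  have h6 : classInner (fun n : N => indFun I ψ n) lam =
      ((∑ τ : IrrCharacter I, c τ * r τ : ℕ) : ℂ) := by
    have h7 : (fun n : N => indFun I ψ n) =
        fun l : N => (fun i : I => indFun I ψ i) (Subgroup.inclusion hNI l) := rfl
    rw [h7, h5]
    push_cast
    refine Finset.sum_congr rfl fun τ _ => ?_
    rw [hc τ, ← hr τ]
    rfl
  rw [hmul, hr ⟨ψ, hψ⟩] at h6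
  have h8 : r ⟨ψ, hψ⟩ = ∑ τ : IrrCharacter I, c τ * r τ := by exact_mod_cast h6
  have h9 : c ⟨ψ, hψ⟩ = 1 := by
    have h10 := hc ⟨ψ, hψ⟩
    rw [inner_ind_res_self N I hlam hI hNI hψ hover] at h10
    exact_mod_cast h10.symm
  have hr0 : r ⟨ρ, hρ⟩ ≠ 0 := by
    intro h
    apply hoverρ
    have := hr ⟨ρ, hρ⟩
    rw [h] at this
    simpa using this
  by_contra hcon
  have hc0 : c ⟨ρ, hρ⟩ ≠ 0 := by
    intro h
    apply hcon
    have := hc ⟨ρ, hρ⟩
    rw [h] at this
    simpa using this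
  have hne' : (⟨ρ, hρ⟩ : IrrCharacter I) ≠ ⟨ψ, hψ⟩ := fun h => hne (congrArg Subtype.val h)
  have h11 : c ⟨ψ, hψ⟩ * r ⟨ψ, hψ⟩ + c ⟨ρ, hρ⟩ * r ⟨ρ, hρ⟩ ≤ ∑ τ : IrrCharacter I, c τ * r τ := by
    have := Finset.sum_le_sum_of_subset (f := fun τ : IrrCharacter I => c τ * r τ)
      (Finset.subset_univ ({⟨ψ, hψ⟩, ⟨ρ, hρ⟩} : Finset (IrrCharacter I)))
    rwa [Finset.sum_pair hne'.symm] at this
  have h12 : 0 < c ⟨ρ, hρ⟩ * r ⟨ρ, hρ⟩ :=
    Nat.mul_pos (Nat.pos_of_ne_zero hc0) (Nat.pos_of_ne_zero hr0)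
  rw [h9, one_mul, ← h8] at h11
  omega

/-- The inner product of a restricted induced character. -/
theorem inner_ind_comp (hlam : IsIrrCharacter N lam)
    (hI : ∀ g : X, g ∈ I ↔ ∀ n : N, lam ⟨g * n * g⁻¹, hN.conj_mem (n : X) n.2 g⟩ = lam n)
    (hNI : N ≤ I) {T : Type u} [Group T] [Finite T] (jT : T →* I) (fN : N →* T)
    (hcomp : ∀ n : N, jT (fN n) = ⟨(n : X), hNI n.2⟩) {ψ : I → ℂ} (hψ : IsIrrCharacter I ψ)
    (hover : classInner (fun n : N => ψ ⟨(n : X), hNI n.2⟩) lam ≠ 0) {φ : T → ℂ}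
    (hφ : IsIrrCharacter T φ) (hφover : classInner (fun n : N => φ (fN n)) lam ≠ 0) :
    classInner (fun t : T => indFun I ψ (jT t)) φ = classInner (fun t : T => ψ (jT t)) φ := by
  haveI : DecidableEq (IrrCharacter I) := Classical.decEq _
  obtain ⟨hirr, hmul⟩ := indFun_irr_of_over N I hlam hI hNI hψ hover
  have hαc : IsCharacter I (fun i : I => indFun I ψ i) :=
    isCharacter_restrict I (IsIrrCharacter.isCharacter hirr)
  have h5 := classInner_comp_eq_sum (fun i : I => indFun I ψ i)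
    (isClassFunction_of_isCharacter hαc) jT φ
  rw [h5, Finset.sum_eq_single (⟨ψ, hψ⟩ : IrrCharacter I)]
  · show classInner (fun i : I => indFun I ψ i) ψ * _ = _
    rw [inner_ind_res_self N I hlam hI hNI hψ hover, one_mul]
  · intro τ _ hτ
    rcases eq_or_ne (classInner (fun n : N => (τ : I → ℂ) ⟨(n : X), hNI n.2⟩) lam) 0 with hτo | hτo
    · -- `τ` is not over `lam`
      have h0 : classInner (fun t : T => (τ : I → ℂ) (jT t)) φ = 0 := by
        by_contra hcon
        have h1 := inner_comp_pos fN (isCharacter_comp jT (IsIrrCharacter.isCharacter τ.2)) hφ hlam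
          hcon hφover
        apply h1
        have h2 : (fun l : N => ((τ : I → ℂ) ∘ jT) (fN l)) =
            fun n : N => (τ : I → ℂ) ⟨(n : X), hNI n.2⟩ := by
          funext n
          show (τ : I → ℂ) (jT (fN n)) = _
          rw [hcomp]
        rw [h2, hτo]
      rw [h0, mul_zero]
    · rw [inner_ind_res_other N I hlam hI hNI hψ τ.2 hover hτo
        (fun h => hτ (Subtype.ext h)), zero_mul]
  · intro h
    exact absurd (Finset.mem_univ _) h

/-- Injectivity of the induction in the Clifford correspondence. -/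
theorem ind_injective (hlam : IsIrrCharacter N lam)
    (hI : ∀ g : X, g ∈ I ↔ ∀ n : N, lam ⟨g * n * g⁻¹, hN.conj_mem (n : X) n.2 g⟩ = lam n)
    (hNI : N ≤ I) {ψ ρ : I → ℂ} (hψ : IsIrrCharacter I ψ) (hρ : IsIrrCharacter I ρ)
    (hover : classInner (fun n : N => ψ ⟨(n : X), hNI n.2⟩) lam ≠ 0)
    (hoverρ : classInner (fun n : N => ρ ⟨(n : X), hNI n.2⟩) lam ≠ 0)
    (h : indFun I ψ = indFun I ρ) : ψ = ρ := by
  by_contra hne
  have h1 := inner_ind_res_other N I hlam hI hNI hψ hρ hover hoverρ (fun h' => hne h'.symm)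
  rw [h, inner_ind_res_self N I hlam hI hNI hρ hoverρ] at h1
  exact one_ne_zero h1

end Clifford

section Frob

variable {Y : Type u} [Group Y] [Finite Y] (T : Subgroup Y)

/-- Frobenius reciprocity in the second variable. -/
theorem inner_ind_right {f : Y → ℂ} (hf : IsClassFunction Y f) (φ : T → ℂ) :
    classInner f (indFun T φ) = classInner (fun t : T => f t) φ := by
  have h1 := frobenius T φ hf
  have h2 := classInner_conj_symm f (indFun T φ)
  have h3 := classInner_conj_symm (fun t : T => f t) φ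
  have h4 : conj (classInner f (indFun T φ)) = conj (classInner (fun t : T => f t) φ) := by
    rw [h2, h1, h3]
  exact (starRingEnd ℂ).injective h4

/-- Induction and automorphisms. -/
theorem ind_comp_aut (b : MulAut Y) (bT : MulAut T) (hb : ∀ t : T, ((bT t : T) : Y) = b t)
    (ψ : T → ℂ) (g : Y) : indFun T ψ (b g) = indFun T (ψ ∘ bT) g := by
  have hT : ∀ x, x ∈ T ↔ b x ∈ T := by
    intro x
    constructor
    · intro hx
      have := (bT ⟨x, hx⟩).2
      rwa [hb] at this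
    · intro hx
      have h1 := (bT.symm ⟨b x, hx⟩).2
      have h2 := hb (bT.symm ⟨b x, hx⟩)
      rw [MulEquiv.apply_symm_apply] at h2
      have h3 : b x = b ((bT.symm ⟨b x, hx⟩ : T) : Y) := h2
      rw [b.injective h3]
      exact h1
  rw [indFun_apply, indFun_apply]
  congr 1
  rw [← Equiv.sum_comp b.toEquiv]
  refine Finset.sum_congr rfl fun y _ => ?_
  have h1 : (b y)⁻¹ * b g * b y = b (y⁻¹ * g * y) := by simp
  show extendByZero T ψ ((b y)⁻¹ * b g * b y) = _
  rw [h1]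
  by_cases h : y⁻¹ * g * y ∈ T
  · rw [extendByZero_of_mem T ψ ((hT _).mp h), extendByZero_of_mem T _ h]
    show _ = ψ (bT ⟨_, h⟩)
    congr 1
    apply Subtype.ext
    rw [hb]
  · rw [extendByZero_of_not_mem T ψ (fun h' => h ((hT _).mpr h')), extendByZero_of_not_mem T _ h]

end Frob

end Cfsg.Agent.Lib.GlaubSyl2
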