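import Mathlib
import Cfsg.Agent.Lib.GlaubSyl2
import Cfsg.Agent.Lib.GlaubCorr

/-!
# The correspondence above a fixed invariant character of the normal Sylow subgroup
-/

set_option autoImplicit false
set_option linter.style.haveILetI false
set_option linter.unusedVariables false
set_option linter.unusedSectionVars false

namespace Cfsg.Agent.Lib.GlaubSyl3

open Cfsg Cfsg.Agent.Lib.CharBasic Cfsg.Agent.Lib.CharInd Cfsg.Agent.Lib.Clifford
open Cfsg.Agent.Lib.GlaubSyl1 Cfsg.Agent.Lib.GlaubSyl2 Cfsg.Agent.Lib.GlaubCorr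
open scoped ComplexConjugate

universe u

attribute [local instance] Fintype.ofFinite

section Block

variable {X : Type u} [Group X] [Finite X] (N : Subgroup X) [hN : N.Normal] (lam : N → ℂ)
  (I : Subgroup X) {B : Type u} [Group B] [Finite B] (q : I →* B) (eta : I → ℂ)

/-- The hypotheses of the Clifford-Gallagher description of the characters over `lam`. -/
structure BlockHyp : Prop where
  lam_irr : IsIrrCharacter N lam
  hI : ∀ g : X, g ∈ I ↔ ∀ n : N, lam ⟨g * n * g⁻¹, hN.conj_mem (n : X) n.2 g⟩ = lam n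
  hNI : N ≤ I
  surj : Function.Surjective q
  ker : ∀ i : I, q i = 1 ↔ (i : X) ∈ N
  eta_char : IsCharacter I eta
  eta_lam : ∀ (n : X) (hn : n ∈ N), eta ⟨n, hNI hn⟩ = lam ⟨n, hn⟩

variable {N lam I q eta} (h : BlockHyp N lam I q eta)

include h in
theorem BlockHyp.exists_kerEquiv : ∃ e : q.ker ≃* N, ∀ n : q.ker, ((e n : N) : X) = ((n : I) : X) := by
  let f : q.ker →* N :=
    { toFun := fun n => ⟨((n : I) : X), (h.ker n.1).mp n.2⟩
      map_one' := rfl
      map_mul' := fun _ _ => rfl }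
  have hb : Function.Bijective f := by
    constructor
    · intro x y hxy
      have h1 : ((x : I) : X) = ((y : I) : X) := congrArg (fun z : N => (z : X)) hxy
      exact Subtype.ext (Subtype.ext h1)
    · intro n
      refine ⟨⟨⟨n, h.hNI n.2⟩, ?_⟩, rfl⟩
      exact (h.ker _).mpr n.2
  exact ⟨MulEquiv.ofBijective f hb, fun n => rfl⟩

include h in
theorem BlockHyp.eta_ker_irr : IsIrrCharacter q.ker (fun n : q.ker => eta n) := by
  obtain ⟨e, he⟩ := h.exists_kerEquiv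
  have h1 : (fun n : q.ker => eta n) = lam ∘ e := by
    funext n
    have h2 := h.eta_lam ((e n : N) : X) (e n).2
    refine Eq.trans ?_ h2
    congr 1
    exact Subtype.ext (he n).symm
  rw [h1]
  exact isIrrCharacter_comp_of_surjective e.toMonoidHom e.surjective h.lam_irr

include h in
/-- The inner product with `lam` computed on `ker q`. -/
theorem BlockHyp.inner_ker (ψ : I → ℂ) :
    classInner (fun n : q.ker => ψ n) (fun n : q.ker => eta n) =
      classInner (fun n : N => ψ ⟨(n : X), h.hNI n.2⟩) lam := by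
  obtain ⟨e, he⟩ := h.exists_kerEquiv
  rw [← classInner_comp_mulEquiv e]
  congr 1
  · funext n
    show ψ n = ψ ⟨((e n : N) : X), _⟩
    congr 1
    exact Subtype.ext (he n).symm
  · funext n
    have h2 := h.eta_lam ((e n : N) : X) (e n).2
    refine Eq.trans ?_ h2
    congr 1
    exact Subtype.ext (he n).symm

include h in
theorem BlockHyp.isIrr_gal {β : B → ℂ} (hβ : IsIrrCharacter B β) :
    IsIrrCharacter I (gal q eta β) :=
  Cfsg.Agent.Lib.GlaubSyl1.isIrr_gal q h.surj h.eta_char h.eta_ker_irr hβ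

include h in
theorem BlockHyp.over_gal {β : B → ℂ} (hβ : IsIrrCharacter B β) :
    classInner (fun n : N => gal q eta β ⟨(n : X), h.hNI n.2⟩) lam ≠ 0 := by
  have h1 : (fun n : N => gal q eta β ⟨(n : X), h.hNI n.2⟩) = (β 1) • lam := by
    funext n
    have h2 : q ⟨(n : X), h.hNI n.2⟩ = 1 := (h.ker _).mpr n.2
    show β (q ⟨(n : X), h.hNI n.2⟩) * eta ⟨(n : X), h.hNI n.2⟩ = β 1 * lam n
    rw [h2, h.eta_lam (n : X) n.2]
  rw [h1, classInner_smul_left, classInner_irr_self h.lam_irr, mul_one]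
  exact irr_degree_ne_zero hβ

/-- The character `(β η)^X`. -/
noncomputable def chi (I : Subgroup X) (q : I →* B) (eta : I → ℂ) (β : B → ℂ) : X → ℂ :=
  indFun I (gal q eta β)

theorem chi_def (β : B → ℂ) : chi I q eta β = indFun I (gal q eta β) := rfl

include h in
theorem BlockHyp.chi_irr {β : B → ℂ} (hβ : IsIrrCharacter B β) :
    IsIrrCharacter X (chi I q eta β) :=
  (indFun_irr_of_over N I h.lam_irr h.hI h.hNI (h.isIrr_gal hβ) (h.over_gal hβ)).1

include h in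
theorem BlockHyp.chi_over {β : B → ℂ} (hβ : IsIrrCharacter B β) :
    classInner (fun n : N => chi I q eta β n) lam ≠ 0 := by
  have h1 := (indFun_irr_of_over N I h.lam_irr h.hI h.hNI (h.isIrr_gal hβ) (h.over_gal hβ)).2
  show classInner (fun n : N => indFun I (gal q eta β) n) lam ≠ 0
  rw [h1]
  exact h.over_gal hβ

include h in
theorem BlockHyp.exists_chi {χ : X → ℂ} (hχ : IsIrrCharacter X χ)
    (hover : classInner (fun n : N => χ n) lam ≠ 0) :
    ∃ β : B → ℂ, IsIrrCharacter B β ∧ chi I q eta β = χ := by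
  obtain ⟨ψ, hψ, hind, hmul⟩ := exists_inertia_char N I h.lam_irr h.hI h.hNI hχ hover
  have h0 : classInner (fun n : q.ker => ψ n) (fun n : q.ker => eta n) ≠ 0 := by
    rw [h.inner_ker ψ, hmul]
    exact hover
  obtain ⟨β, hβ, hψβ⟩ := exists_gal q h.surj h.eta_char h.eta_ker_irr hψ h0
  refine ⟨β, hβ, ?_⟩
  rw [chi_def, ← hψβ, hind]

include h in
theorem BlockHyp.chi_injective {β β' : B → ℂ} (hβ : IsIrrCharacter B β)
    (hβ' : IsIrrCharacter B β') (he : chi I q eta β = chi I q eta β') : β = β' := by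
  have h1 := ind_injective N I h.lam_irr h.hI h.hNI (h.isIrr_gal hβ) (h.isIrr_gal hβ')
    (h.over_gal hβ) (h.over_gal hβ') he
  exact gal_injective q h.surj h.eta_char h.eta_ker_irr hβ hβ' h1

end Block

section Res

variable {S X : Type*} [Group S] [Group X]

/-- Restriction of automorphisms to an invariant subgroup. -/
def resA (a : S →* MulAut X) (H : Subgroup X) (hH : ∀ s, ∀ h ∈ H, a s h ∈ H) : S →* MulAut H where
  toFun s :=
    { toFun := fun h => ⟨a s h, hH s h h.2⟩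
      invFun := fun h => ⟨a s⁻¹ h, hH s⁻¹ h h.2⟩
      left_inv := fun h => Subtype.ext (by
        show a s⁻¹ (a s (h : X)) = h
        rw [← MulAut.mul_apply, ← map_mul, inv_mul_cancel, map_one, MulAut.one_apply])
      right_inv := fun h => Subtype.ext (by
        show a s (a s⁻¹ (h : X)) = h
        rw [← MulAut.mul_apply, ← map_mul, mul_inv_cancel, map_one, MulAut.one_apply])
      map_mul' := fun g g' => Subtype.ext (by simp) }
  map_one' := by
    ext g
    simp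
  map_mul' := fun s s' => by
    ext g
    simp

theorem resA_apply (a : S →* MulAut X) (H : Subgroup X) (hH : ∀ s, ∀ h ∈ H, a s h ∈ H) (s : S)
    (h : H) : ((resA a H hH s h : H) : X) = a s h := rfl

end Res

section Key

variable {S X Y : Type u} [Group S] [Group X] [Finite X] [Group Y] [Finite Y]
  (p : ℕ) [Fact p.Prime]
  (a : S →* MulAut X) (aY : S →* MulAut Y) (j : Y →* X)
  (N : Subgroup X) [hN : N.Normal] (lam : N → ℂ) (I : Subgroup X)
  {B : Type u} [Group B] [Finite B] (q : I →* B) (eta : I → ℂ)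
  (NY : Subgroup Y) [hNY : NY.Normal] (lamY : NY → ℂ) (T : Subgroup Y)
  {B' : Type u} [Group B'] [Finite B'] (qT : T →* B') (etaT : T → ℂ)
  (g : N →* Y) (rB : S →* MulAut B) (ι : B' →* B)

/-- All the data needed for the correspondence above `lam`. -/
structure KeyHyp : Prop where
  hS : IsPGroup p S
  hX : BlockHyp N lam I q eta
  hY : BlockHyp NY lamY T qT etaT
  hT : ∀ t ∈ T, j t ∈ I
  hg : ∀ n, j (g n) = n
  hgNY : ∀ n, g n ∈ NY
  hlamY : ∀ n : N, lamY ⟨g n, hgNY n⟩ = lam n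
  hgsurj : ∀ m : NY, ∃ n, g n = m
  hetaT : ∀ t : T, etaT t = eta ⟨j t, hT t t.2⟩
  hι : ∀ t : T, ι (qT t) = q ⟨j t, hT t t.2⟩
  hja : ∀ s y, j (aY s y) = a s (j y)
  haI : ∀ s, ∀ i ∈ I, a s i ∈ I
  haT : ∀ s, ∀ t ∈ T, aY s t ∈ T
  heta : ∀ s (i : I), eta ⟨a s i, haI s i i.2⟩ = eta i
  hrB : ∀ s (i : I), rB s (q i) = q ⟨a s i, haI s i i.2⟩
  hqT : ∀ s (t : T), qT ⟨aY s t, haT s t t.2⟩ = qT t
  hmodel : IsFixModel rB.range ι
  hcop : (Nat.card B).Coprime (Nat.card rB.range)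

variable {p a aY j N lam I q eta NY lamY T qT etaT g rB ι}
  (h : KeyHyp p a aY j N lam I q eta NY lamY T qT etaT g rB ι)

include h in
/-- The inner product with `lamY` computed on `N`. -/
theorem KeyHyp.inner_NY (F : NY → ℂ) :
    classInner (fun n : N => F ⟨g n, h.hgNY n⟩) lam = classInner F lamY := by
  let f : N →* NY :=
    { toFun := fun n => ⟨g n, h.hgNY n⟩
      map_one' := Subtype.ext (by simp)
      map_mul' := fun x y => Subtype.ext (by simp) }
  have hb : Function.Bijective f := by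
    constructor
    · intro x y hxy
      have h1 : g x = g y := congrArg (fun z : NY => (z : Y)) hxy
      have h2 := congrArg j h1
      rw [h.hg, h.hg] at h2
      exact Subtype.ext h2
    · intro m
      obtain ⟨n, hn⟩ := h.hgsurj m
      exact ⟨n, Subtype.ext hn⟩
  let e : N ≃* NY := MulEquiv.ofBijective f hb
  rw [← classInner_comp_mulEquiv e F lamY]
  congr 1
  funext n
  exact (h.hlamY n).symm

include h in
/-- The Glauberman correspondence for the quotient. -/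
theorem KeyHyp.corr : Corr p rB.range ι :=
  corr_pgroup p _ B rB.range rfl
    (h.hS.of_surjective rB.rangeRestrict rB.rangeRestrict_surjective) h.hcop B' ι h.hmodel

/-- The map `T → I`. -/
def KeyHyp.jT (h : KeyHyp p a aY j N lam I q eta NY lamY T qT etaT g rB ι) : T →* I :=
  (j.comp T.subtype).codRestrict I (fun t => h.hT t t.2)

theorem KeyHyp.jT_apply (t : T) : h.jT t = ⟨j t, h.hT t t.2⟩ := rfl

/-- The map `N → T`. -/
def KeyHyp.fN (h : KeyHyp p a aY j N lam I q eta NY lamY T qT etaT g rB ι) : N →* T :=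
  g.codRestrict T (fun n => h.hY.hNI (h.hgNY n))

include h in
/-- The multiplicity formula. -/
theorem KeyHyp.mult {β : B → ℂ} (hβ : IsIrrCharacter B β) {γ : B' → ℂ}
    (hγ : IsIrrCharacter B' γ) :
    classInner (fun y => chi I q eta β (j y)) (chi T qT etaT γ) =
      classInner (fun c => β (ι c)) γ := by
  have hcl : IsClassFunction Y (fun y => chi I q eta β (j y)) :=
    isClassFunction_of_isCharacter (isCharacter_comp j (IsIrrCharacter.isCharacter (h.hX.chi_irr hβ)))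
  rw [chi_def (I := T), inner_ind_right T hcl]
  have hφover : classInner (fun n : N => gal qT etaT γ (h.fN n)) lam ≠ 0 := by
    have h1 := h.inner_NY (fun m : NY => gal qT etaT γ ⟨(m : Y), h.hY.hNI m.2⟩)
    have h2 := h.hY.over_gal hγ
    rw [← h1] at h2
    exact h2
  have hcomp : ∀ n : N, h.jT (h.fN n) = ⟨(n : X), h.hX.hNI n.2⟩ := by
    intro n
    apply Subtype.ext
    exact h.hg n
  have h1 := inner_ind_comp N I h.hX.lam_irr h.hX.hI h.hX.hNI h.jT h.fN hcomp (h.hX.isIrr_gal hβ)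
    (h.hX.over_gal hβ) (h.hY.isIrr_gal hγ) hφover
  refine Eq.trans h1 ?_
  have h2 : (fun t : T => gal q eta β (h.jT t)) = gal qT etaT (fun c => β (ι c)) := by
    funext t
    show β (q (h.jT t)) * eta (h.jT t) = β (ι (qT t)) * etaT t
    rw [h.hι, h.hetaT]
    rfl
  rw [h2]
  exact classInner_gal qT h.hY.surj h.hY.eta_char h.hY.eta_ker_irr _ _

include h in
/-- Equivariance. -/
theorem KeyHyp.chi_comp (β : B → ℂ) (s : S) (x : X) :
    chi I q eta β (a s x) = chi I q eta (fun b => β (rB s b)) x := by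
  rw [chi_def, ind_comp_aut I (a s) (resA a I h.haI s) (fun t => rfl), chi_def]
  congr 1
  funext i
  show β (q ⟨a s i, _⟩) * eta ⟨a s i, _⟩ = β (rB s (q i)) * eta i
  rw [h.heta, h.hrB]

include h in
/-- All characters over `lamY` are invariant. -/
theorem KeyHyp.chiT_inv (γ : B' → ℂ) (s : S) (y : Y) :
    chi T qT etaT γ (aY s y) = chi T qT etaT γ y := by
  rw [chi_def, ind_comp_aut T (aY s) (resA aY T h.haT s) (fun t => rfl)]
  congr 1
  funext t
  show γ (qT ⟨aY s t, _⟩) * etaT ⟨aY s t, _⟩ = γ (qT t) * etaT t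
  rw [h.hqT, h.hetaT, h.hetaT]
  congr 1
  have h1 : (⟨j (aY s t), h.hT _ (h.haT s t t.2)⟩ : I) = ⟨a s (j t), h.haI s _ (h.hT t t.2)⟩ :=
    Subtype.ext (h.hja s t)
  have h2 := h.heta s ⟨j t, h.hT t t.2⟩
  simp only at h2 ⊢
  rw [h1]
  exact h2

include h in
/-- The invariant characters over `lam`. -/
theorem KeyHyp.inv_of_chi {β : B → ℂ} (hβ : IsIrrCharacter B β)
    (hinv : ∀ s x, chi I q eta β (a s x) = chi I q eta β x) : InvA rB.range β := by
  rintro _ ⟨s, rfl⟩ c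
  have h1 : chi I q eta (fun b => β (rB s b)) = chi I q eta β := by
    funext x
    rw [← h.chi_comp, hinv]
  have h2 : IsIrrCharacter B (fun b => β (rB s b)) :=
    isIrrCharacter_comp_of_surjective (rB s).toMonoidHom (rB s).surjective hβ
  have h3 := h.hX.chi_injective h2 hβ h1
  exact congrFun h3 c

include h in
theorem KeyHyp.chi_inv {β : B → ℂ} (hinv : InvA rB.range β) (s : S) (x : X) :
    chi I q eta β (a s x) = chi I q eta β x := by
  rw [h.chi_comp]
  congr 1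
  funext b
  exact hinv _ ⟨s, rfl⟩ b

include h in
/-- The correspondence above `lam`, for `χ`. -/
theorem KeyHyp.c1 (χ : IrrCharacter X) (hinv : ∀ s x, (χ : X → ℂ) (a s x) = (χ : X → ℂ) x)
    (hover : classInner (fun n : N => (χ : X → ℂ) n) lam ≠ 0) :
    ∃ ξ : IrrCharacter Y, (∀ s y, (ξ : Y → ℂ) (aY s y) = (ξ : Y → ℂ) y) ∧
      classInner (fun n : N => (ξ : Y → ℂ) (g n)) lam ≠ 0 ∧
      (∃ m₀ : ℕ, classInner (fun y => (χ : X → ℂ) (j y)) (ξ : Y → ℂ) = m₀ ∧
        ((m₀ : ℤ) ≡ 1 [ZMOD p] ∨ (m₀ : ℤ) ≡ -1 [ZMOD p])) ∧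
      ∀ ξ' : IrrCharacter Y, classInner (fun n : N => (ξ' : Y → ℂ) (g n)) lam ≠ 0 → ξ' ≠ ξ →
        ∃ b : ℕ, classInner (fun y => (χ : X → ℂ) (j y)) (ξ' : Y → ℂ) = ((p * b : ℕ) : ℂ) := by
  obtain ⟨π, -, hs⟩ := h.corr
  obtain ⟨β, hβ, hχβ⟩ := h.hX.exists_chi χ.2 hover
  have hβinv : InvA rB.range β := h.inv_of_chi hβ (fun s x => by rw [hχβ]; exact hinv s x)
  let βt : XA rB.range := ⟨⟨β, hβ⟩, hβinv⟩
  obtain ⟨⟨m₀, hm₀, hm₀'⟩, hother⟩ := hs βt
  have hγ := (π βt).2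
  have hξ := h.hY.chi_irr hγ
  refine ⟨⟨_, hξ⟩, h.chiT_inv _, ?_, ⟨m₀, ?_, hm₀'⟩, ?_⟩
  · have h1 := h.inner_NY (fun m : NY => chi T qT etaT (π βt : B' → ℂ) m)
    have h2 := h.hY.chi_over hγ
    rw [← h1] at h2
    exact h2
  · rw [← hχβ]
    exact (h.mult hβ hγ).trans hm₀
  · intro ξ' hξ' hne
    have h1 : classInner (fun m : NY => (ξ' : Y → ℂ) m) lamY ≠ 0 := by
      rw [← h.inner_NY (fun m : NY => (ξ' : Y → ℂ) m)]
      exact hξ'
    obtain ⟨γ', hγ', hξγ'⟩ := h.hY.exists_chi ξ'.2 h1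
    have hne' : (⟨γ', hγ'⟩ : IrrCharacter B') ≠ π βt := by
      intro he
      apply hne
      apply Subtype.ext
      rw [← hξγ']
      show chi T qT etaT γ' = chi T qT etaT (π βt : B' → ℂ)
      rw [← he]
    obtain ⟨b, hb⟩ := hother _ hne'
    refine ⟨b, ?_⟩
    rw [← hχβ, ← hξγ']
    exact (h.mult hβ hγ').trans hb

include h in
/-- The correspondence above `lam`, for `ξ`. -/
theorem KeyHyp.c2 (ξ : IrrCharacter Y) (hover : classInner (fun n : N => (ξ : Y → ℂ) (g n)) lam ≠ 0) :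
    ∃ χ : IrrCharacter X, (∀ s x, (χ : X → ℂ) (a s x) = (χ : X → ℂ) x) ∧
      classInner (fun n : N => (χ : X → ℂ) n) lam ≠ 0 ∧
      ∃ m₀ : ℕ, classInner (fun y => (χ : X → ℂ) (j y)) (ξ : Y → ℂ) = m₀ ∧
        ((m₀ : ℤ) ≡ 1 [ZMOD p] ∨ (m₀ : ℤ) ≡ -1 [ZMOD p]) := by
  obtain ⟨π, hb, hs⟩ := h.corr
  have h1 : classInner (fun m : NY => (ξ : Y → ℂ) m) lamY ≠ 0 := by
    rw [← h.inner_NY (fun m : NY => (ξ : Y → ℂ) m)]
    exact hover
  obtain ⟨γ, hγ, hξγ⟩ := h.hY.exists_chi ξ.2 h1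
  obtain ⟨βt, hβt⟩ := hb.2 ⟨γ, hγ⟩
  have hχ := h.hX.chi_irr βt.1.2
  refine ⟨⟨_, hχ⟩, h.chi_inv βt.2, h.hX.chi_over βt.1.2, ?_⟩
  obtain ⟨⟨m₀, hm₀, hm₀'⟩, -⟩ := hs βt
  refine ⟨m₀, ?_, hm₀'⟩
  rw [hβt] at hm₀
  rw [← hξγ]
  exact (h.mult βt.1.2 hγ).trans hm₀

include h in
/-- Uniqueness above `lam`. -/
theorem KeyHyp.c3 (χ χ' : IrrCharacter X) (ξ : IrrCharacter Y)
    (hinv : ∀ s x, (χ : X → ℂ) (a s x) = (χ : X → ℂ) x)
    (hinv' : ∀ s x, (χ' : X → ℂ) (a s x) = (χ' : X → ℂ) x)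
    (hover : classInner (fun n : N => (χ : X → ℂ) n) lam ≠ 0)
    (hover' : classInner (fun n : N => (χ' : X → ℂ) n) lam ≠ 0)
    (hoverξ : classInner (fun n : N => (ξ : Y → ℂ) (g n)) lam ≠ 0)
    (m m' : ℕ) (hm : classInner (fun y => (χ : X → ℂ) (j y)) (ξ : Y → ℂ) = m)
    (hm' : classInner (fun y => (χ' : X → ℂ) (j y)) (ξ : Y → ℂ) = m')
    (hpm : ¬ p ∣ m) (hpm' : ¬ p ∣ m') : χ = χ' := by
  have hp : p.Prime := Fact.out
  obtain ⟨π, hb, hs⟩ := h.corr
  have h1 : classInner (fun m : NY => (ξ : Y → ℂ) m) lamY ≠ 0 := by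
    rw [← h.inner_NY (fun m : NY => (ξ : Y → ℂ) m)]
    exact hoverξ
  obtain ⟨γ, hγ, hξγ⟩ := h.hY.exists_chi ξ.2 h1
  obtain ⟨β, hβ, hχβ⟩ := h.hX.exists_chi χ.2 hover
  obtain ⟨β', hβ', hχβ'⟩ := h.hX.exists_chi χ'.2 hover'
  have hβinv : InvA rB.range β := h.inv_of_chi hβ (fun s x => by rw [hχβ]; exact hinv s x)
  have hβinv' : InvA rB.range β' := h.inv_of_chi hβ' (fun s x => by rw [hχβ']; exact hinv' s x)
  let βt : XA rB.range := ⟨⟨β, hβ⟩, hβinv⟩
  let βt' : XA rB.range := ⟨⟨β', hβ'⟩, hβinv'⟩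
  have h2 : classInner (fun c => (βt.1 : B → ℂ) (ι c)) ((⟨γ, hγ⟩ : IrrCharacter B') : B' → ℂ) = m := by
    rw [← hm, ← hχβ, ← hξγ]
    exact (h.mult hβ hγ).symm
  have h3 : classInner (fun c => (βt'.1 : B → ℂ) (ι c)) ((⟨γ, hγ⟩ : IrrCharacter B') : B' → ℂ) = m' := by
    rw [← hm', ← hχβ', ← hξγ]
    exact (h.mult hβ' hγ).symm
  have h4 := (hs.not_dvd_iff hp βt _ m h2).mp hpm
  have h5 := (hs.not_dvd_iff hp βt' _ m' h3).mp hpm'
  have h6 : βt = βt' := hb.1 (h4.symm.trans h5)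
  have h7 : β = β' := congrArg (fun z : XA rB.range => (z.1 : B → ℂ)) h6
  apply Subtype.ext
  rw [← hχβ, ← hχβ', h7]

end Key

end Cfsg.Agent.Lib.GlaubSyl3
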