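import Mathlib
import Cfsg.Agent.Lib.GlaubSyl3

/-!
# The data above an invariant character of the normal Sylow subgroup
-/

set_option autoImplicit false
set_option linter.style.haveILetI false
set_option linter.unusedVariables false
set_option linter.unusedSectionVars false

namespace Cfsg.Agent.Lib.GlaubSyl4

open Cfsg Cfsg.Agent.Lib.CharBasic Cfsg.Agent.Lib.CharInd Cfsg.Agent.Lib.Clifford
open Cfsg.Agent.Lib.GlaubSyl1 Cfsg.Agent.Lib.GlaubSyl2 Cfsg.Agent.Lib.GlaubCorr
open Cfsg.Agent.Lib.GlaubSyl3
open scoped ComplexConjugate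

universe u

attribute [local instance] Fintype.ofFinite

section Defs

variable {S X : Type*} [Group S] [Group X]

/-- The inertia group of a function on a normal subgroup. -/
def inertia (N : Subgroup X) [hN : N.Normal] (lam : N → ℂ) : Subgroup X where
  carrier := {g | ∀ n : N, lam ⟨g * n * g⁻¹, hN.conj_mem (n : X) n.2 g⟩ = lam n}
  mul_mem' := by
    intro x y hx hy n
    have h1 := hx ⟨y * n * y⁻¹, hN.conj_mem _ n.2 y⟩
    have h2 := hy n
    rw [← h2, ← h1]
    congr 1
    apply Subtype.ext
    simp [mul_assoc]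
  one_mem' := by
    intro n
    congr 1
    apply Subtype.ext
    simp
  inv_mem' := by
    intro x hx n
    have h1 := hx ⟨x⁻¹ * n * x⁻¹⁻¹, hN.conj_mem _ n.2 x⁻¹⟩
    rw [← h1]
    congr 1
    apply Subtype.ext
    simp [mul_assoc]

theorem mem_inertia (N : Subgroup X) [hN : N.Normal] (lam : N → ℂ) (g : X) :
    g ∈ inertia N lam ↔ ∀ n : N, lam ⟨g * n * g⁻¹, hN.conj_mem (n : X) n.2 g⟩ = lam n := Iff.rfl

/-- Automorphisms induced on a quotient. -/
def quoA (a : S →* MulAut X) (M : Subgroup X) [M.Normal] (hM : ∀ s, ∀ m ∈ M, a s m ∈ M) :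
    S →* MulAut (X ⧸ M) where
  toFun s :=
    { toFun := QuotientGroup.map M M (a s).toMonoidHom (fun m hm => hM s m hm)
      invFun := QuotientGroup.map M M (a s⁻¹).toMonoidHom (fun m hm => hM s⁻¹ m hm)
      left_inv := fun x => by
        obtain ⟨x, rfl⟩ := QuotientGroup.mk_surjective x
        show ((a s⁻¹ (a s x) : X) : X ⧸ M) = x
        rw [← MulAut.mul_apply, ← map_mul, inv_mul_cancel, map_one, MulAut.one_apply]
      right_inv := fun x => by
        obtain ⟨x, rfl⟩ := QuotientGroup.mk_surjective x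
        show ((a s (a s⁻¹ x) : X) : X ⧸ M) = x
        rw [← MulAut.mul_apply, ← map_mul, mul_inv_cancel, map_one, MulAut.one_apply]
      map_mul' := map_mul _ }
  map_one' := by
    ext x
    obtain ⟨x, rfl⟩ := QuotientGroup.mk_surjective x
    show ((a 1 x : X) : X ⧸ M) = x
    simp
  map_mul' := fun s s' => by
    ext x
    obtain ⟨x, rfl⟩ := QuotientGroup.mk_surjective x
    show ((a (s * s') x : X) : X ⧸ M) = ((a s (a s' x) : X) : X ⧸ M)
    rw [map_mul, MulAut.mul_apply]

theorem quoA_mk (a : S →* MulAut X) (M : Subgroup X) [M.Normal] (hM : ∀ s, ∀ m ∈ M, a s m ∈ M)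
    (s : S) (x : X) : quoA a M hM s (x : X ⧸ M) = ((a s x : X) : X ⧸ M) := rfl

end Defs

section Main

variable {S X Y : Type u} [Group S] [Group X] [Finite X] [Group Y] [Finite Y]
  (p : ℕ) [hp : Fact p.Prime]
  (a : S →* MulAut X) (aY : S →* MulAut Y) (j : Y →* X)
  (N : Subgroup X) [hN : N.Normal] (sec : N →* Y)

theorem mul_inv_mem_of_inv_mul_mem {u v : X} (h : u⁻¹ * v ∈ N) : u * v⁻¹ ∈ N := by
  have h1 := hN.conj_mem _ (N.inv_mem h) u
  have h2 : u * (u⁻¹ * v)⁻¹ * u⁻¹ = u * v⁻¹ := by
    group
  rw [h2] at h1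
  exact h1

theorem inv_mul_mem_of_mul_inv_mem {u v : X} (h : u * v⁻¹ ∈ N) : u⁻¹ * v ∈ N := by
  have h1 := hN.conj_mem _ (N.inv_mem h) u⁻¹
  have h2 : u⁻¹ * (u * v⁻¹)⁻¹ * u⁻¹⁻¹ = u⁻¹ * v := by
    group
  rw [h2] at h1
  exact h1

/-- Existence of the data above `lam`. -/
theorem exists_keyHyp (hS : IsPGroup p S) (hNa : ∀ s, ∀ n ∈ N, a s n ∈ N) (hNp : IsPGroup p N)
    (hNi : ¬ p ∣ N.index) (hj : Function.Injective j)
    (hjr : ∀ x, x ∈ j.range ↔ ∀ s, a s x * x⁻¹ ∈ N) (hja : ∀ s y, j (aY s y) = a s (j y))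
    (hsec : ∀ n, j (sec n) = n) {lam : N → ℂ} (hlam : IsIrrCharacter N lam)
    (hlamA : ∀ s (n : N), lam ⟨a s n, hNa s n n.2⟩ = lam n) :
    ∃ (I : Subgroup X) (B : Type u) (_ : Group B) (_ : Finite B) (q : I →* B) (eta : I → ℂ)
      (NY : Subgroup Y) (_ : NY.Normal) (lamY : NY → ℂ) (T : Subgroup Y) (B' : Type u)
      (_ : Group B') (_ : Finite B') (qT : T →* B') (etaT : T → ℂ) (rB : S →* MulAut B)
      (ι : B' →* B), KeyHyp p a aY j N lam I q eta NY lamY T qT etaT sec rB ι := by
  have hlamc := IsIrrCharacter.isCharacter hlam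
  let I : Subgroup X := inertia N lam
  have hNI : N ≤ I := by
    intro n hn m
    exact isClassFunction_of_isCharacter hlamc m ⟨n, hn⟩
  have haI : ∀ s, ∀ i ∈ I, a s i ∈ I := by
    intro s i hi n
    let m : N := ⟨a s⁻¹ n, hNa s⁻¹ n n.2⟩
    have hm : a s m = n := by
      show a s (a s⁻¹ n) = n
      rw [← MulAut.mul_apply, ← map_mul, mul_inv_cancel, map_one, MulAut.one_apply]
    have h1 := hlamA s ⟨i * m * i⁻¹, hN.conj_mem _ m.2 i⟩
    have h2 := hi m
    have h3 := hlamA s m
    have h4 : (⟨a s m, hNa s m m.2⟩ : N) = n := Subtype.ext hm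
    rw [h4] at h3
    rw [h3, ← h2, ← h1]
    congr 1
    apply Subtype.ext
    simp [hm]
  -- the quotient of the inertia group
  let NI : Subgroup I := N.subgroupOf I
  haveI hNIn : NI.Normal := Subgroup.normal_subgroupOf
  let ε : NI ≃* N := Subgroup.subgroupOfEquivOfLe hNI
  have hεv : ∀ n : NI, ((ε n : N) : X) = ((n : I) : X) := fun n => rfl
  let rI : S →* MulAut I := resA a I haI
  have hNIa : ∀ s, ∀ m ∈ NI, rI s m ∈ NI := by
    intro s m hm
    exact hNa s _ hm
  have hNIp : IsPGroup p NI := hNp.of_equiv ε.symm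
  have hidx : NI.index * I.index = N.index := Subgroup.relIndex_mul_index hNI
  have hNIi : ¬ p ∣ NI.index := fun h => hNi (hidx ▸ Dvd.dvd.mul_right h _)
  -- the canonical extension
  have hlam0 : IsIrrCharacter NI (lam ∘ ε) :=
    isIrrCharacter_comp_of_surjective ε.toMonoidHom ε.surjective hlam
  obtain ⟨eta, heta, hetaN, hetaA⟩ := exists_canonical_ext p NI hNIp hNIi hlam0 (fun g n => by
    exact g.2 (ε n))
  have hetaA' : ∀ s (i : I), eta ⟨a s i, haI s i i.2⟩ = eta i := by
    intro s i
    exact hetaA (rI s) (hNIa s) (fun n => hlamA s (ε n)) i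
  have hetaN' : ∀ (n : X) (hn : n ∈ N), eta ⟨n, hNI hn⟩ = lam ⟨n, hn⟩ := by
    intro n hn
    exact hetaN ⟨⟨n, hNI hn⟩, hn⟩
  have hBX : BlockHyp N lam I (QuotientGroup.mk' NI) eta :=
    { lam_irr := hlam
      hI := fun g => Iff.rfl
      hNI := hNI
      surj := QuotientGroup.mk'_surjective NI
      ker := fun i => by
        show ((i : I) : I ⧸ NI) = 1 ↔ _
        rw [QuotientGroup.eq_one_iff]
        exact Iff.rfl
      eta_char := IsIrrCharacter.isCharacter heta
      eta_lam := hetaN' }
  -- level of `Y`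
  let NY : Subgroup Y := N.comap j
  let lamY : NY → ℂ := fun m => lam ⟨j m, m.2⟩
  have hlamY : IsIrrCharacter NY lamY := by
    have hsurj : Function.Surjective (j.subgroupComap N) := by
      intro n
      refine ⟨⟨sec n, ?_⟩, ?_⟩
      · show j (sec n) ∈ N
        rw [hsec]
        exact n.2
      · apply Subtype.ext
        exact hsec n
    exact isIrrCharacter_comp_of_surjective (j.subgroupComap N) hsurj hlam
  let T : Subgroup Y := I.comap j
  have hNYT : NY ≤ T := fun y hy => hNI hy
  let NT : Subgroup T := NY.subgroupOf T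
  haveI hNTn : NT.Normal := Subgroup.normal_subgroupOf
  let jT : T →* I := (j.comp T.subtype).codRestrict I (fun t => t.2)
  let etaT : T → ℂ := fun t => eta (jT t)
  have hetaTc : IsCharacter T etaT := isCharacter_comp jT (IsIrrCharacter.isCharacter heta)
  have hBY : BlockHyp NY lamY T (QuotientGroup.mk' NT) etaT :=
    { lam_irr := hlamY
      hI := fun y => by
        constructor
        · intro hy n
          have h1 := hy ⟨j n, n.2⟩
          refine Eq.trans ?_ h1
          show lam _ = lam _
          congr 1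
          apply Subtype.ext
          simp
        · intro hy n
          have hm : sec n ∈ NY := by
            show j (sec n) ∈ N
            rw [hsec]
            exact n.2
          have h1 := hy ⟨sec n, hm⟩
          have h2 : lamY ⟨sec n, hm⟩ = lam n := by
            show lam _ = lam _
            congr 1
            exact Subtype.ext (hsec n)
          rw [← h2, ← h1]
          show lam _ = lam _
          congr 1
          apply Subtype.ext
          simp [hsec]
      hNI := hNYT
      surj := QuotientGroup.mk'_surjective NT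
      ker := fun t => by
        show ((t : T) : T ⧸ NT) = 1 ↔ _
        rw [QuotientGroup.eq_one_iff]
        exact Iff.rfl
      eta_char := hetaTc
      eta_lam := fun n hn => hetaN' (j n) hn }
  have hNTmap : NT ≤ NI.comap jT := fun t ht => ht
  let ι : (T ⧸ NT) →* (I ⧸ NI) := QuotientGroup.map NT NI jT hNTmap
  let rB : S →* MulAut (I ⧸ NI) := quoA rI NI hNIa
  have haT : ∀ s, ∀ t ∈ T, aY s t ∈ T := by
    intro s t ht
    show j (aY s t) ∈ I
    rw [hja]
    exact haI s _ ht
  have hfixr : ∀ s (t : Y), a s (j t) * (j t)⁻¹ ∈ N := fun s t => (hjr _).mp ⟨t, rfl⟩ s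
  have hmem : ∀ n, sec n ∈ NY := by
    intro n
    show j (sec n) ∈ N
    rw [hsec]
    exact n.2
  refine ⟨I, I ⧸ NI, inferInstance, inferInstance, QuotientGroup.mk' NI, eta, NY, inferInstance,
    lamY, T, T ⧸ NT, inferInstance, inferInstance, QuotientGroup.mk' NT, etaT, rB, ι, ?_⟩
  exact
    { hS := hS
      hX := hBX
      hY := hBY
      hT := fun t ht => ht
      hg := hsec
      hgNY := hmem
      hlamY := fun n => by
        show lam _ = lam _
        congr 1
        exact Subtype.ext (hsec n)
      hgsurj := fun m => by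
        refine ⟨⟨j m, m.2⟩, ?_⟩
        apply hj
        rw [hsec]
      hetaT := fun t => rfl
      hι := fun t => rfl
      hja := hja
      haI := haI
      haT := haT
      heta := hetaA'
      hrB := fun s i => rfl
      hqT := fun s t => by
        show ((⟨aY s t, haT s t t.2⟩ : T) : T ⧸ NT) = (t : T ⧸ NT)
        rw [QuotientGroup.eq]
        show j ((aY s t)⁻¹ * t) ∈ N
        rw [map_mul, map_inv, hja]
        exact inv_mul_mem_of_mul_inv_mem N (hfixr s t)
      hmodel :=
        { inj := by
            rw [injective_iff_map_eq_one]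
            intro c hc
            obtain ⟨t, rfl⟩ := QuotientGroup.mk_surjective c
            have h1 : ((jT t : I) : I ⧸ NI) = 1 := hc
            rw [QuotientGroup.eq_one_iff] at h1
            exact (QuotientGroup.eq_one_iff t).mpr h1
          fix1 := by
            rintro c _ ⟨s, rfl⟩
            obtain ⟨t, rfl⟩ := QuotientGroup.mk_surjective c
            show ((rI s (jT t) : I) : I ⧸ NI) = ((jT t : I) : I ⧸ NI)
            rw [QuotientGroup.eq]
            show (a s (j t))⁻¹ * j t ∈ N
            exact inv_mul_mem_of_mul_inv_mem N (hfixr s t)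
          fix2 := by
            intro c hc
            obtain ⟨i, rfl⟩ := QuotientGroup.mk_surjective c
            have h1 : ∀ s, a s i * (i : X)⁻¹ ∈ N := by
              intro s
              have h2 := hc _ ⟨s, rfl⟩
              have h3 : ((rI s i : I) : I ⧸ NI) = (i : I ⧸ NI) := h2
              rw [QuotientGroup.eq] at h3
              have h4 : (a s i)⁻¹ * (i : X) ∈ N := h3
              exact mul_inv_mem_of_inv_mul_mem N h4
            obtain ⟨y, hy⟩ := (hjr _).mpr h1
            have hyT : y ∈ T := by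
              show j y ∈ I
              rw [hy]
              exact i.2
            refine ⟨((⟨y, hyT⟩ : T) : T ⧸ NT), ?_⟩
            show ((jT ⟨y, hyT⟩ : I) : I ⧸ NI) = (i : I ⧸ NI)
            congr 1
            exact Subtype.ext hy }
      hcop := by
        have h1 : IsPGroup p rB.range := hS.of_surjective rB.rangeRestrict rB.rangeRestrict_surjective
        obtain ⟨k, hk⟩ := IsPGroup.iff_card.mp h1
        rw [hk]
        apply Nat.Coprime.pow_right
        apply Nat.Coprime.symm
        rw [Nat.Prime.coprime_iff_not_dvd hp.out, ← Subgroup.index_eq_card]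
        exact hNIi }

end Main

end Cfsg.Agent.Lib.GlaubSyl4
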