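import Mathlib
import Cfsg.Agent.Lib.GlaubSyl4
import Cfsg.Agent.Lib.CoprimeDeg

/-!
# Glauberman's correspondence for a `p`-group acting on a group with a normal Sylow `p`-subgroup
-/

set_option autoImplicit false
set_option linter.style.haveILetI false
set_option linter.unusedVariables false
set_option linter.unusedSectionVars false

namespace Cfsg.Agent.Lib.GlaubSyl5

open Cfsg Cfsg.Agent.Lib.CharBasic Cfsg.Agent.Lib.CharInd Cfsg.Agent.Lib.Clifford
open Cfsg.Agent.Lib.GlaubSyl1 Cfsg.Agent.Lib.GlaubSyl2 Cfsg.Agent.Lib.GlaubCorr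
open Cfsg.Agent.Lib.GlaubSyl3 Cfsg.Agent.Lib.GlaubSyl4 Cfsg.Agent.Lib.CharInduction
open Cfsg.Agent.Lib.CharClifford
open scoped ComplexConjugate

universe u

attribute [local instance] Fintype.ofFinite

/-- A `p`-group acting on a set of size prime to `p` has a fixed point. -/
theorem exists_fixed_of_set {S α : Type*} [Group S] [MulAction S α] [Finite α] (p : ℕ)
    [Fact p.Prime] (hS : IsPGroup p S) (Ω : Set α) (hΩ : ∀ s : S, ∀ x ∈ Ω, s • x ∈ Ω)
    (hc : ¬ p ∣ Ω.ncard) : ∃ x ∈ Ω, ∀ s : S, s • x = x := by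
  let W : SubMulAction S α := ⟨Ω, fun s {x} hx => hΩ s x hx⟩
  have h1 := hS.card_modEq_card_fixedPoints W
  by_contra hcon
  push Not at hcon
  have hemp : IsEmpty (MulAction.fixedPoints S W) := ⟨fun x => by
    obtain ⟨y, hy⟩ := hcon x.1.1 x.1.2
    exact hy (congrArg Subtype.val (x.2 y))⟩
  have h0 : Nat.card (MulAction.fixedPoints S W) = 0 := Nat.card_of_isEmpty
  rw [h0] at h1
  apply hc
  have h2 : Nat.card W = Ω.ncard := rfl
  rw [← h2]
  exact Nat.modEq_zero_iff_dvd.mp h1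

section Inv

variable {S X : Type u} [Group S] [Group X] [Finite X] (p : ℕ) [hp : Fact p.Prime]
  (a : S →* MulAut X) (N : Subgroup X) [hN : N.Normal]

/-- The number of constituents of the restriction to `N` is prime to `p`. -/
theorem not_dvd_ncard_constituents (hNi : ¬ p ∣ N.index) (χ : IrrCharacter X) (μ₀ : IrrCharacter N)
    (hμ₀ : classInner (fun n : N => (χ : X → ℂ) n) (μ₀ : N → ℂ) ≠ 0) :
    ¬ p ∣ ({μ : IrrCharacter N | classInner (fun n : N => (χ : X → ℂ) n) (μ : N → ℂ) ≠ 0}).ncard := by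
  let mk : X → IrrCharacter N → IrrCharacter N := fun x μ =>
    ⟨conjBy N hN x⁻¹ (μ : N → ℂ), isIrrCharacter_conjBy N hN _ μ.2⟩
  letI : MulAction X (IrrCharacter N) :=
    { smul := mk
      one_smul := fun μ => by
        apply Subtype.ext
        funext n
        show (μ : N → ℂ) _ = (μ : N → ℂ) n
        refine congrArg (μ : N → ℂ) ?_
        apply Subtype.ext
        simp
      mul_smul := fun x y μ => by
        apply Subtype.ext
        funext n
        show (μ : N → ℂ) _ = (μ : N → ℂ) _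
        refine congrArg (μ : N → ℂ) ?_
        apply Subtype.ext
        simp [mul_assoc] }
  have hsmul : ∀ (x : X) (μ : IrrCharacter N), ((x • μ : IrrCharacter N) : N → ℂ) =
      conjBy N hN x⁻¹ (μ : N → ℂ) := fun x μ => rfl
  have hcl := isClassFunction_of_isCharacter (IsIrrCharacter.isCharacter χ.2)
  have horb : {μ : IrrCharacter N | classInner (fun n : N => (χ : X → ℂ) n) (μ : N → ℂ) ≠ 0} =
      MulAction.orbit X μ₀ := by
    ext μ
    constructor
    · intro hμ
      obtain ⟨g, hg⟩ := exists_conj_of_constituents N hN χ.2 μ₀.2 μ.2 hμ₀ hμ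
      refine ⟨g⁻¹, ?_⟩
      apply Subtype.ext
      show conjBy N hN g⁻¹⁻¹ (μ₀ : N → ℂ) = _
      rw [inv_inv, hg]
    · rintro ⟨x, rfl⟩
      show classInner (fun n : N => (χ : X → ℂ) n) ((x • μ₀ : IrrCharacter N) : N → ℂ) ≠ 0
      rw [hsmul, classInner_restrict_conjBy N hN _ hcl]
      exact hμ₀
  rw [horb, ← MulAction.index_stabilizer]
  intro hd
  apply hNi
  refine hd.trans (Subgroup.index_dvd_of_le ?_)
  intro n hn
  show n • μ₀ = μ₀
  apply Subtype.ext
  funext m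
  rw [hsmul, conjBy_apply]
  exact isClassFunction_of_isCharacter (IsIrrCharacter.isCharacter μ₀.2) m ⟨n⁻¹, N.inv_mem hn⟩

/-- **Invariant constituents.** -/
theorem exists_inv_constituent (hS : IsPGroup p S) (hNa : ∀ s, ∀ n ∈ N, a s n ∈ N)
    (hNi : ¬ p ∣ N.index) (χ : IrrCharacter X)
    (hχ : ∀ s x, (χ : X → ℂ) (a s x) = (χ : X → ℂ) x) :
    ∃ lam : IrrCharacter N, classInner (fun n : N => (χ : X → ℂ) n) (lam : N → ℂ) ≠ 0 ∧
      ∀ s (n : N), (lam : N → ℂ) ⟨a s n, hNa s n n.2⟩ = (lam : N → ℂ) n := by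
  have hχc := IsIrrCharacter.isCharacter χ.2
  obtain ⟨μ₀, hμ₀⟩ := Cfsg.Agent.Lib.CoprimeDeg.exists_constituent N hχc (irr_degree_ne_zero χ.2)
  have hc := not_dvd_ncard_constituents p N hNi χ μ₀ hμ₀
  let rN : S →* MulAut N := resA a N hNa
  letI : MulAction S (IrrCharacter N) :=
    { smul := fun s μ => ⟨fun n => (μ : N → ℂ) (rN s⁻¹ n),
        isIrrCharacter_comp_of_surjective (rN s⁻¹).toMonoidHom (rN s⁻¹).surjective μ.2⟩
      one_smul := fun μ => by
        apply Subtype.ext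
        funext n
        show (μ : N → ℂ) (rN 1⁻¹ n) = (μ : N → ℂ) n
        simp
      mul_smul := fun s s' μ => by
        apply Subtype.ext
        funext n
        show (μ : N → ℂ) (rN (s * s')⁻¹ n) = (μ : N → ℂ) (rN s'⁻¹ (rN s⁻¹ n))
        rw [mul_inv_rev, map_mul, MulAut.mul_apply] }
  have hsmul : ∀ (s : S) (μ : IrrCharacter N) (n : N),
      ((s • μ : IrrCharacter N) : N → ℂ) n = (μ : N → ℂ) (rN s⁻¹ n) := fun s μ n => rfl
  obtain ⟨lam, hlam, hfix⟩ := exists_fixed_of_set (S := S) p hS _ (fun s μ hμ => by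
    show classInner (fun n : N => (χ : X → ℂ) n) ((s • μ : IrrCharacter N) : N → ℂ) ≠ 0
    have h1 := classInner_comp_mulEquiv (rN s⁻¹) (fun n : N => (χ : X → ℂ) n) (μ : N → ℂ)
    have h2 : (fun n : N => (χ : X → ℂ) n) ∘ (rN s⁻¹) = fun n : N => (χ : X → ℂ) n := by
      funext n
      exact hχ s⁻¹ n
    rw [h2] at h1
    have h3 : ((s • μ : IrrCharacter N) : N → ℂ) = (μ : N → ℂ) ∘ (rN s⁻¹) := rfl
    rw [h3, h1]
    exact hμ) hc
  refine ⟨lam, hlam, fun s n => ?_⟩
  have h1 := hsmul s⁻¹ lam n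
  rw [hfix s⁻¹, inv_inv] at h1
  exact h1.symm

end Inv

section Conj

variable {S X Y : Type u} [Group S] [Group X] [Finite X] [Group Y] [Finite Y] (p : ℕ)
  [hp : Fact p.Prime] (a : S →* MulAut X) (j : Y →* X) (N : Subgroup X) [hN : N.Normal]

/-- **Glauberman's lemma**: invariant conjugates are conjugate in the fixed points. -/
theorem exists_conj_fixed (hS : IsPGroup p S) (hNa : ∀ s, ∀ n ∈ N, a s n ∈ N)
    (hNi : ¬ p ∣ N.index) (hjr : ∀ x, x ∈ j.range ↔ ∀ s, a s x * x⁻¹ ∈ N) {lam lam' : N → ℂ}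
    (hlam : IsIrrCharacter N lam)
    (hA : ∀ s (n : N), lam ⟨a s n, hNa s n n.2⟩ = lam n)
    (hA' : ∀ s (n : N), lam' ⟨a s n, hNa s n n.2⟩ = lam' n) (x : X)
    (hx : lam' = conjBy N hN x lam) : ∃ y : Y, lam' = conjBy N hN (j y) lam := by
  have hlamc := IsIrrCharacter.isCharacter hlam
  let r : S →* MulAut (X ⧸ N) := quoA a N hNa
  letI : MulAction S (X ⧸ N) := MulAction.compHom (X ⧸ N) r
  have hsmul : ∀ (s : S) (z : X), s • (z : X ⧸ N) = ((a s z : X) : X ⧸ N) := fun s z => rfl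
  let Ω : Set (X ⧸ N) := {c | ∃ z : X, (z : X ⧸ N) = c ∧ conjBy N hN z lam = lam'}
  -- the inertia group
  let I : Subgroup X := inertia N lam
  have hNI : N ≤ I := by
    intro n hn m
    exact isClassFunction_of_isCharacter hlamc m ⟨n, hn⟩
  let W : Subgroup (X ⧸ N) := I.map (QuotientGroup.mk' N)
  have hΩW : Ω = (fun w => w * (x : X ⧸ N)) '' (W : Set (X ⧸ N)) := by
    ext c
    constructor
    · rintro ⟨z, rfl, hz⟩
      refine ⟨((z * x⁻¹ : X) : X ⧸ N), ⟨z * x⁻¹, ?_, rfl⟩, ?_⟩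
      · intro n
        let m : N := ⟨x⁻¹ * n * x⁻¹⁻¹, hN.conj_mem _ n.2 x⁻¹⟩
        have h1 := congrFun (hz.trans hx) m
        rw [conjBy_apply, conjBy_apply] at h1
        have h2 : (⟨x * (m : X) * x⁻¹, hN.conj_mem _ m.2 x⟩ : N) = n := by
          apply Subtype.ext
          simp [m, mul_assoc]
        rw [h2] at h1
        rw [← h1]
        congr 1
        apply Subtype.ext
        simp [m, mul_assoc]
      · show ((z * x⁻¹ : X) : X ⧸ N) * (x : X ⧸ N) = (z : X ⧸ N)
        rw [← QuotientGroup.mk_mul, inv_mul_cancel_right]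
    · rintro ⟨w, ⟨i, hi, rfl⟩, rfl⟩
      refine ⟨i * x, rfl, ?_⟩
      rw [hx]
      funext n
      rw [conjBy_apply, conjBy_apply]
      have h1 := hi ⟨x * n * x⁻¹, hN.conj_mem _ n.2 x⟩
      rw [← h1]
      congr 1
      apply Subtype.ext
      simp [mul_assoc]
  have hc : ¬ p ∣ Ω.ncard := by
    rw [hΩW, Set.ncard_image_of_injective _ (mul_left_injective _), ← Nat.card_coe_set_eq]
    intro hd
    apply hNi
    rw [Subgroup.index_eq_card]
    exact hd.trans (Subgroup.card_subgroup_dvd_card W)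
  have hinv : ∀ s : S, ∀ c ∈ Ω, s • c ∈ Ω := by
    rintro s _ ⟨z, rfl, hz⟩
    refine ⟨a s z, (hsmul s z).symm, ?_⟩
    funext n
    let m : N := ⟨a s⁻¹ n, hNa s⁻¹ n n.2⟩
    have hm : a s m = n := by
      show a s (a s⁻¹ n) = n
      rw [← MulAut.mul_apply, ← map_mul, mul_inv_cancel, map_one, MulAut.one_apply]
    have h1 := congrFun hz m
    rw [conjBy_apply] at h1
    have h2 := hA' s m
    have h3 : (⟨a s m, hNa s m m.2⟩ : N) = n := Subtype.ext hm
    rw [h3] at h2
    rw [h2, ← h1, conjBy_apply, ← hA s ⟨z * m * z⁻¹, hN.conj_mem _ m.2 z⟩]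
    congr 1
    apply Subtype.ext
    simp [hm]
  obtain ⟨c, ⟨z, rfl, hz⟩, hfix⟩ := exists_fixed_of_set (S := S) p hS Ω hinv hc
  have hzr : z ∈ j.range := by
    rw [hjr]
    intro s
    have h1 := hfix s
    rw [hsmul, QuotientGroup.eq] at h1
    exact mul_inv_mem_of_inv_mul_mem N h1
  obtain ⟨y, rfl⟩ := hzr
  exact ⟨y, hz.symm⟩

end Conj

section Main

variable {S X Y : Type u} [Group S] [Group X] [Finite X] [Group Y] [Finite Y]
  (p : ℕ) [hp : Fact p.Prime]
  (a : S →* MulAut X) (aY : S →* MulAut Y) (j : Y →* X)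
  (N : Subgroup X) [hN : N.Normal]

/-- Invariant constituents in the fixed points. -/
theorem exists_inv_under (hS : IsPGroup p S) (hNa : ∀ s, ∀ n ∈ N, a s n ∈ N)
    (hNi : ¬ p ∣ N.index) (hj : Function.Injective j)
    (hja : ∀ s y, j (aY s y) = a s (j y)) (sec : N →* Y) (hsec : ∀ n, j (sec n) = n)
    (ξ : IrrCharacter Y) (hξ : ∀ s y, (ξ : Y → ℂ) (aY s y) = (ξ : Y → ℂ) y) :
    ∃ lam : IrrCharacter N, classInner (fun n : N => (ξ : Y → ℂ) (sec n)) (lam : N → ℂ) ≠ 0 ∧
      ∀ s (n : N), (lam : N → ℂ) ⟨a s n, hNa s n n.2⟩ = (lam : N → ℂ) n := by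
  let NY : Subgroup Y := N.comap j
  have hNYa : ∀ s, ∀ n ∈ NY, aY s n ∈ NY := by
    intro s n hn
    show j (aY s n) ∈ N
    rw [hja]
    exact hNa s _ hn
  have hNYi : ¬ p ∣ NY.index := by
    intro hd
    apply hNi
    have h1 : NY.index = N.relIndex j.range := Subgroup.index_comap N j
    rw [h1] at hd
    exact hd.trans (Subgroup.relIndex_dvd_index_of_normal N j.range)
  obtain ⟨lamY, h1, h2⟩ := exists_inv_constituent p aY NY hS hNYa hNYi ξ hξ
  have hmem : ∀ n, sec n ∈ NY := by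
    intro n
    show j (sec n) ∈ N
    rw [hsec]
    exact n.2
  let f : N →* NY :=
    { toFun := fun n => ⟨sec n, hmem n⟩
      map_one' := Subtype.ext (by simp)
      map_mul' := fun x y => Subtype.ext (by simp) }
  have hb : Function.Bijective f := by
    constructor
    · intro x y hxy
      have h1 : sec x = sec y := congrArg (fun z : NY => (z : Y)) hxy
      have h2 := congrArg j h1
      rw [hsec, hsec] at h2
      exact Subtype.ext h2
    · intro m
      refine ⟨⟨j m, m.2⟩, Subtype.ext ?_⟩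
      apply hj
      show j (sec ⟨j m, m.2⟩) = j m
      rw [hsec]
  let e : N ≃* NY := MulEquiv.ofBijective f hb
  refine ⟨⟨fun n => (lamY : NY → ℂ) (e n),
    isIrrCharacter_comp_of_surjective e.toMonoidHom e.surjective lamY.2⟩, ?_, ?_⟩
  · have h3 := classInner_comp_mulEquiv e (fun n : NY => (ξ : Y → ℂ) n) (lamY : NY → ℂ)
    show classInner (fun n : N => (ξ : Y → ℂ) (sec n)) ((lamY : NY → ℂ) ∘ e) ≠ 0
    have h4 : (fun n : N => (ξ : Y → ℂ) (sec n)) = (fun n : NY => (ξ : Y → ℂ) n) ∘ e := rfl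
    rw [h4, h3]
    exact h1
  · intro s n
    have h3 := h2 s (e n)
    refine Eq.trans ?_ h3
    show (lamY : NY → ℂ) _ = (lamY : NY → ℂ) _
    refine congrArg (lamY : NY → ℂ) ?_
    apply Subtype.ext
    apply hj
    show j (sec ⟨a s n, hNa s n n.2⟩) = j (aY s (sec n))
    rw [hsec, hja, hsec]

end Main

end Cfsg.Agent.Lib.GlaubSyl5
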