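import Mathlib
import Cfsg.Agent.Lib.GlaubSyl5

/-!
# Glauberman's correspondence for a `p`-group acting on a group with a normal Sylow `p`-subgroup:
the main statement
-/

set_option autoImplicit false
set_option linter.style.haveILetI false
set_option linter.unusedVariables false
set_option linter.unusedSectionVars false

namespace Cfsg.Agent.Lib.GlaubSyl6

open Cfsg Cfsg.Agent.Lib.CharBasic Cfsg.Agent.Lib.CharInd Cfsg.Agent.Lib.Clifford
open Cfsg.Agent.Lib.GlaubSyl1 Cfsg.Agent.Lib.GlaubSyl2 Cfsg.Agent.Lib.GlaubCorr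
open Cfsg.Agent.Lib.GlaubSyl3 Cfsg.Agent.Lib.GlaubSyl4 Cfsg.Agent.Lib.GlaubSyl5
open Cfsg.Agent.Lib.CharInduction Cfsg.Agent.Lib.CharClifford
open scoped ComplexConjugate

universe u

attribute [local instance] Fintype.ofFinite

section Deg

variable {S X Y : Type u} [Group S] [Group X] [Finite X] [Group Y] [Finite Y]
  (p : ℕ) [hp : Fact p.Prime]
  (a : S →* MulAut X) (aY : S →* MulAut Y) (j : Y →* X)

/-- The congruence of degrees. -/
theorem degree_modEq (hS : IsPGroup p S) (hja : ∀ s y, j (aY s y) = a s (j y)) (χ : IrrCharacter X)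
    (hχ : ∀ s x, (χ : X → ℂ) (a s x) = (χ : X → ℂ) x) (ξ₀ : IrrCharacter Y)
    (hξ₀ : ∀ s y, (ξ₀ : Y → ℂ) (aY s y) = (ξ₀ : Y → ℂ) y) (n : IrrCharacter Y → ℕ)
    (hn : ∀ ξ : IrrCharacter Y, classInner (fun y => (χ : X → ℂ) (j y)) (ξ : Y → ℂ) = n ξ)
    (hother : ∀ ξ : IrrCharacter Y, (∀ s y, (ξ : Y → ℂ) (aY s y) = (ξ : Y → ℂ) y) → ξ ≠ ξ₀ → p ∣ n ξ) :
    charDegree (χ : X → ℂ) ≡ n ξ₀ * charDegree (ξ₀ : Y → ℂ) [MOD p] := by
  haveI : DecidableEq (IrrCharacter Y) := Classical.decEq _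
  have hχc := IsIrrCharacter.isCharacter χ.2
  have hres : IsCharacter Y (fun y => (χ : X → ℂ) (j y)) := isCharacter_comp j hχc
  have hcl := isClassFunction_of_isCharacter hres
  -- the degree formula
  have hdeg : charDegree (χ : X → ℂ) = ∑ ξ : IrrCharacter Y, n ξ * charDegree (ξ : Y → ℂ) := by
    have h1 := congrFun (classFunction_eq_sum hcl) 1
    simp only [map_one, Finset.sum_apply, Pi.smul_apply, smul_eq_mul, hn] at h1
    rw [Cfsg.Agent.Lib.CharKernel.one_eq_charDegree hχc] at h1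
    have h2 : ∀ ξ : IrrCharacter Y, (ξ : Y → ℂ) 1 = (charDegree (ξ : Y → ℂ) : ℂ) := fun ξ =>
      Cfsg.Agent.Lib.CharKernel.one_eq_charDegree (IsIrrCharacter.isCharacter ξ.2)
    simp only [h2] at h1
    exact_mod_cast h1
  -- the action
  letI : MulAction S (IrrCharacter Y) :=
    { smul := fun s ξ => ⟨fun y => (ξ : Y → ℂ) (aY s⁻¹ y),
        isIrrCharacter_comp_of_surjective (aY s⁻¹).toMonoidHom (aY s⁻¹).surjective ξ.2⟩
      one_smul := fun ξ => by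
        apply Subtype.ext
        funext y
        show (ξ : Y → ℂ) (aY 1⁻¹ y) = (ξ : Y → ℂ) y
        simp
      mul_smul := fun s s' ξ => by
        apply Subtype.ext
        funext y
        show (ξ : Y → ℂ) (aY (s * s')⁻¹ y) = (ξ : Y → ℂ) (aY s'⁻¹ (aY s⁻¹ y))
        rw [mul_inv_rev, map_mul, MulAut.mul_apply] }
  have hsmul : ∀ (s : S) (ξ : IrrCharacter Y) y,
      ((s • ξ : IrrCharacter Y) : Y → ℂ) y = (ξ : Y → ℂ) (aY s⁻¹ y) := fun s ξ y => rfl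
  have hinvf : ∀ (s : S) (ξ : IrrCharacter Y),
      n (s • ξ) * charDegree ((s • ξ : IrrCharacter Y) : Y → ℂ) =
        n ξ * charDegree (ξ : Y → ℂ) := by
    intro s ξ
    have h1 : n (s • ξ) = n ξ := by
      have h2 := classInner_comp_mulEquiv (aY s⁻¹) (fun y => (χ : X → ℂ) (j y)) (ξ : Y → ℂ)
      have h3 : (fun y => (χ : X → ℂ) (j y)) ∘ (aY s⁻¹) = fun y => (χ : X → ℂ) (j y) := by
        funext y
        show (χ : X → ℂ) (j (aY s⁻¹ y)) = _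
        rw [hja, hχ]
      rw [h3] at h2
      have h4 : ((s • ξ : IrrCharacter Y) : Y → ℂ) = (ξ : Y → ℂ) ∘ (aY s⁻¹) := rfl
      have h5 := hn (s • ξ)
      rw [h4, h2, hn ξ] at h5
      exact_mod_cast h5.symm
    have h2 : charDegree ((s • ξ : IrrCharacter Y) : Y → ℂ) = charDegree (ξ : Y → ℂ) := by
      simp only [charDegree]
      rw [hsmul, map_one]
    rw [h1, h2]
  have hsum := sum_modEq_sum_fixed p hS (fun ξ : IrrCharacter Y => n ξ * charDegree (ξ : Y → ℂ)) hinvf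
  have hy₀ : ξ₀ ∈ MulAction.fixedPoints S (IrrCharacter Y) := by
    intro s
    apply Subtype.ext
    funext y
    rw [hsmul]
    exact hξ₀ s⁻¹ y
  let y₀ : MulAction.fixedPoints S (IrrCharacter Y) := ⟨ξ₀, hy₀⟩
  have hfixsum : ∑ y : MulAction.fixedPoints S (IrrCharacter Y),
      n y.1 * charDegree (y.1 : Y → ℂ) ≡ n ξ₀ * charDegree (ξ₀ : Y → ℂ) [MOD p] := by
    rw [← Finset.add_sum_erase Finset.univ _ (Finset.mem_univ y₀)]
    have hS' : p ∣ ∑ y ∈ Finset.univ.erase y₀, n y.1 * charDegree (y.1 : Y → ℂ) := by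
      apply Finset.dvd_sum
      intro y hy
      have hne : y.1 ≠ ξ₀ := by
        intro h
        exact (Finset.mem_erase.mp hy).1 (Subtype.ext h)
      have hinv : ∀ s y', (y.1 : Y → ℂ) (aY s y') = (y.1 : Y → ℂ) y' := by
        intro s y'
        have h1 := congrFun (congrArg Subtype.val (y.2 s⁻¹)) y'
        have h2 : ((s⁻¹ • y.1 : IrrCharacter Y) : Y → ℂ) y' = (y.1 : Y → ℂ) (aY s⁻¹⁻¹ y') := rfl
        rw [h2, inv_inv] at h1
        exact h1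
      exact Dvd.dvd.mul_right (hother y.1 hinv hne) _
    have := (Nat.modEq_zero_iff_dvd.mpr hS').add_left (n ξ₀ * charDegree (ξ₀ : Y → ℂ))
    rw [add_zero] at this
    exact this
  rw [hdeg]
  refine hsum.trans ?_
  convert hfixsum

end Deg

section Main

variable {S X Y : Type u} [Group S] [Group X] [Finite X] [Group Y] [Finite Y]
  (p : ℕ) [hp : Fact p.Prime]
  (a : S →* MulAut X) (aY : S →* MulAut Y) (j : Y →* X)
  (N : Subgroup X) [hN : N.Normal]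

theorem zmod_of_modEq {m : ℕ} (h : (m : ℤ) ≡ 1 [ZMOD p] ∨ (m : ℤ) ≡ -1 [ZMOD p]) :
    (m : ZMod p) = 1 ∨ (m : ZMod p) = -1 := by
  rcases h with h | h
  · left
    have := (ZMod.intCast_eq_intCast_iff _ _ p).mpr h
    simpa using this
  · right
    have := (ZMod.intCast_eq_intCast_iff _ _ p).mpr h
    simpa using this

/-- **Glauberman's correspondence for a `p`-group acting on a group with a normal Sylow
`p`-subgroup.** -/
theorem main (hS : IsPGroup p S) (hNa : ∀ s, ∀ n ∈ N, a s n ∈ N) (hNp : IsPGroup p N)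
    (hNi : ¬ p ∣ N.index) (hj : Function.Injective j)
    (hjr : ∀ x, x ∈ j.range ↔ ∀ s, a s x * x⁻¹ ∈ N) (hja : ∀ s y, j (aY s y) = a s (j y)) :
    ∃ f : {χ : IrrCharacter X // ∀ s x, (χ : X → ℂ) (a s x) = (χ : X → ℂ) x} →
        {ξ : IrrCharacter Y // ∀ s y, (ξ : Y → ℂ) (aY s y) = (ξ : Y → ℂ) y},
      Function.Bijective f ∧ ∀ χ,
        (∀ ξ, ∃ m : ℕ, classInner (fun y => (χ.1 : X → ℂ) (j y)) (ξ.1 : Y → ℂ) = m ∧
          (ξ = f χ → ((m : ZMod p) = 1 ∨ (m : ZMod p) = -1)) ∧ (ξ ≠ f χ → p ∣ m)) ∧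
        ((charDegree ((f χ).1 : Y → ℂ) : ZMod p) = (charDegree (χ.1 : X → ℂ) : ZMod p) ∨
          (charDegree ((f χ).1 : Y → ℂ) : ZMod p) = -(charDegree (χ.1 : X → ℂ) : ZMod p)) := by
  have hpp : p.Prime := hp.out
  -- the section
  have hNr : N ≤ j.range := fun n hn => (hjr n).mpr (fun s => N.mul_mem (hNa s n hn) (N.inv_mem hn))
  let e := MonoidHom.ofInjective hj
  let sec : N →* Y := e.symm.toMonoidHom.comp (Subgroup.inclusion hNr)
  have hsec : ∀ n, j (sec n) = n := fun n => by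
    have h1 := e.apply_symm_apply ⟨n, hNr n.2⟩
    exact congrArg Subtype.val h1
  -- multiplicities
  have hm0 : ∀ (χ : IrrCharacter X) (ξ : IrrCharacter Y), ∃ m : ℕ,
      classInner (fun y => (χ : X → ℂ) (j y)) (ξ : Y → ℂ) = m := fun χ ξ =>
    natCast_classInner_irr j χ ξ
  choose m hm using hm0
  -- over
  have hpos : ∀ (χ : IrrCharacter X) (ξ : IrrCharacter Y) (lam : IrrCharacter N), m χ ξ ≠ 0 →
      classInner (fun n : N => (ξ : Y → ℂ) (sec n)) (lam : N → ℂ) ≠ 0 →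
      classInner (fun n : N => (χ : X → ℂ) n) (lam : N → ℂ) ≠ 0 := by
    intro χ ξ lam h1 h2
    have h3 : classInner (fun y => (χ : X → ℂ) (j y)) (ξ : Y → ℂ) ≠ 0 := by
      rw [hm]
      exact_mod_cast h1
    have h4 := inner_comp_pos sec (isCharacter_comp j (IsIrrCharacter.isCharacter χ.2)) ξ.2 lam.2
      h3 h2
    have h5 : (fun l : N => ((χ : X → ℂ) ∘ j) (sec l)) = fun n : N => (χ : X → ℂ) n := by
      funext n
      show (χ : X → ℂ) (j (sec n)) = _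
      rw [hsec]
    rw [h5] at h4
    exact h4
  -- `ξ` lies over `lam`
  have hd : ∀ (χ : IrrCharacter X) (lam : IrrCharacter N) (ξ : IrrCharacter Y),
      (∀ s (n : N), (lam : N → ℂ) ⟨a s n, hNa s n n.2⟩ = (lam : N → ℂ) n) →
      classInner (fun n : N => (χ : X → ℂ) n) (lam : N → ℂ) ≠ 0 →
      (∀ s y, (ξ : Y → ℂ) (aY s y) = (ξ : Y → ℂ) y) → m χ ξ ≠ 0 →
      classInner (fun n : N => (ξ : Y → ℂ) (sec n)) (lam : N → ℂ) ≠ 0 := by
    intro χ lam ξ hlam hover hξ hm0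
    obtain ⟨lam', h1, h2⟩ := exists_inv_under p a aY j N hS hNa hNi hj hja sec hsec ξ hξ
    have h3 := hpos χ ξ lam' hm0 h1
    obtain ⟨x, hx⟩ := exists_conj_of_constituents N hN χ.2 lam.2 lam'.2 hover h3
    obtain ⟨y, hy⟩ := exists_conj_fixed p a j N hS hNa hNi hjr lam.2 hlam h2 x hx
    rw [hy] at h1
    let c : N ≃* N := conjAut N hN (j y)
    have h4 := classInner_comp_mulEquiv c (fun n : N => (ξ : Y → ℂ) (sec n)) (lam : N → ℂ)
    have h5 : (fun n : N => (ξ : Y → ℂ) (sec n)) ∘ c = fun n : N => (ξ : Y → ℂ) (sec n) := by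
      funext n
      show (ξ : Y → ℂ) (sec (c n)) = _
      have h6 : sec (c n) = y * sec n * y⁻¹ := by
        apply hj
        rw [hsec]
        simp [hsec, c, conjAut]
      rw [h6]
      exact isClassFunction_of_isCharacter (IsIrrCharacter.isCharacter ξ.2) (sec n) y
    rw [h5] at h4
    rw [← h4]
    exact h1
  -- existence for `χ`
  have E1 : ∀ χ : {χ : IrrCharacter X // ∀ s x, (χ : X → ℂ) (a s x) = (χ : X → ℂ) x},
      ∃ ξ : {ξ : IrrCharacter Y // ∀ s y, (ξ : Y → ℂ) (aY s y) = (ξ : Y → ℂ) y},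
        ((m χ.1 ξ.1 : ℤ) ≡ 1 [ZMOD p] ∨ (m χ.1 ξ.1 : ℤ) ≡ -1 [ZMOD p]) ∧
        ∀ ξ' : {ξ : IrrCharacter Y // ∀ s y, (ξ : Y → ℂ) (aY s y) = (ξ : Y → ℂ) y},
          ξ' ≠ ξ → p ∣ m χ.1 ξ'.1 := by
    intro χ
    obtain ⟨lam, hover, hlam⟩ := exists_inv_constituent p a N hS hNa hNi χ.1 χ.2
    obtain ⟨I, B, _, _, q, eta, NY, _, lamY, T, B', _, _, qT, etaT, rB, ι, hK⟩ :=
      exists_keyHyp p a aY j N sec hS hNa hNp hNi hj hjr hja hsec lam.2 hlam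
    obtain ⟨ξ, hξ, hξo, ⟨m₀, hm₀, hm₀'⟩, hother⟩ := hK.c1 χ.1 χ.2 hover
    refine ⟨⟨ξ, hξ⟩, ?_, ?_⟩
    · have h1 : m χ.1 ξ = m₀ := by
        have h2 := hm χ.1 ξ
        rw [hm₀] at h2
        exact_mod_cast h2.symm
      show ((m χ.1 ξ : ℕ) : ℤ) ≡ 1 [ZMOD p] ∨ ((m χ.1 ξ : ℕ) : ℤ) ≡ -1 [ZMOD p]
      rw [h1]
      exact hm₀'
    · intro ξ' hne
      rcases Nat.eq_zero_or_pos (m χ.1 ξ'.1) with h0 | h0
      · rw [h0]
        exact dvd_zero p
      · have h1 := hd χ.1 lam ξ'.1 hlam hover ξ'.2 h0.ne'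
        obtain ⟨b, hb⟩ := hother ξ'.1 h1 (fun h => hne (Subtype.ext h))
        have h2 := hm χ.1 ξ'.1
        rw [hb] at h2
        have h3 : m χ.1 ξ'.1 = p * b := by exact_mod_cast h2.symm
        rw [h3]
        exact dvd_mul_right p b
  -- existence for `ξ`
  have E2 : ∀ ξ : {ξ : IrrCharacter Y // ∀ s y, (ξ : Y → ℂ) (aY s y) = (ξ : Y → ℂ) y},
      ∃ χ : {χ : IrrCharacter X // ∀ s x, (χ : X → ℂ) (a s x) = (χ : X → ℂ) x},
        ((m χ.1 ξ.1 : ℤ) ≡ 1 [ZMOD p] ∨ (m χ.1 ξ.1 : ℤ) ≡ -1 [ZMOD p]) := by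
    intro ξ
    obtain ⟨lam, hover, hlam⟩ := exists_inv_under p a aY j N hS hNa hNi hj hja sec hsec ξ.1 ξ.2
    obtain ⟨I, B, _, _, q, eta, NY, _, lamY, T, B', _, _, qT, etaT, rB, ι, hK⟩ :=
      exists_keyHyp p a aY j N sec hS hNa hNp hNi hj hjr hja hsec lam.2 hlam
    obtain ⟨χ, hχ, hχo, m₀, hm₀, hm₀'⟩ := hK.c2 ξ.1 hover
    refine ⟨⟨χ, hχ⟩, ?_⟩
    have h1 : m χ ξ.1 = m₀ := by
      have h2 := hm χ ξ.1
      rw [hm₀] at h2
      exact_mod_cast h2.symm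
    show ((m χ ξ.1 : ℕ) : ℤ) ≡ 1 [ZMOD p] ∨ ((m χ ξ.1 : ℕ) : ℤ) ≡ -1 [ZMOD p]
    rw [h1]
    exact hm₀'
  -- uniqueness
  have U2 : ∀ (χ χ' : {χ : IrrCharacter X // ∀ s x, (χ : X → ℂ) (a s x) = (χ : X → ℂ) x})
      (ξ : {ξ : IrrCharacter Y // ∀ s y, (ξ : Y → ℂ) (aY s y) = (ξ : Y → ℂ) y}),
      ¬ p ∣ m χ.1 ξ.1 → ¬ p ∣ m χ'.1 ξ.1 → χ = χ' := by
    intro χ χ' ξ h1 h2
    obtain ⟨lam, hover, hlam⟩ := exists_inv_under p a aY j N hS hNa hNi hj hja sec hsec ξ.1 ξ.2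
    obtain ⟨I, B, _, _, q, eta, NY, _, lamY, T, B', _, _, qT, etaT, rB, ι, hK⟩ :=
      exists_keyHyp p a aY j N sec hS hNa hNp hNi hj hjr hja hsec lam.2 hlam
    have h3 : m χ.1 ξ.1 ≠ 0 := fun h => h1 (h ▸ dvd_zero p)
    have h4 : m χ'.1 ξ.1 ≠ 0 := fun h => h2 (h ▸ dvd_zero p)
    exact Subtype.ext (hK.c3 χ.1 χ'.1 ξ.1 χ.2 χ'.2 (hpos _ _ _ h3 hover) (hpos _ _ _ h4 hover) hover
      _ _ (hm _ _) (hm _ _) h1 h2)
  choose f hf1 hf2 using E1
  refine ⟨f, ⟨?_, ?_⟩, fun χ => ⟨fun ξ => ⟨m χ.1 ξ.1, hm _ _, ?_, ?_⟩, ?_⟩⟩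
  · intro χ χ' h
    have h1 := not_dvd_of_modEq_pm hpp (hf1 χ)
    have h2 := not_dvd_of_modEq_pm hpp (hf1 χ')
    rw [← h] at h2
    exact U2 χ χ' (f χ) h1 h2
  · intro ξ
    obtain ⟨χ, hχ⟩ := E2 ξ
    refine ⟨χ, ?_⟩
    by_contra hne
    have h1 := hf2 χ ξ (fun h => hne h.symm)
    exact not_dvd_of_modEq_pm hpp hχ h1
  · rintro rfl
    exact zmod_of_modEq p (hf1 χ)
  · intro hne
    exact hf2 χ ξ hne
  · have h1 := degree_modEq p a aY j hS hja χ.1 χ.2 (f χ).1 (f χ).2 (m χ.1) (hm χ.1)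
      (fun ξ hξ hne => hf2 χ ⟨ξ, hξ⟩ (fun h => hne (congrArg Subtype.val h)))
    have h2 := (ZMod.natCast_eq_natCast_iff _ _ p).mpr h1
    push_cast at h2
    rcases zmod_of_modEq p (hf1 χ) with h3 | h3
    · left
      rw [h2, h3, one_mul]
    · right
      rw [h2, h3]
      ring

end Main

end Cfsg.Agent.Lib.GlaubSyl6
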