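import Mathlib
import Cfsg.Agent.Lib.GlaubSyl6

/-!
# Glauberman's correspondence for a `p`-group normalizing a subgroup with a normal Sylow
`p`-subgroup: the form for subgroups of an ambient group
-/

set_option autoImplicit false
set_option linter.style.haveILetI false
set_option linter.unusedVariables false
set_option linter.unusedSectionVars false

namespace Cfsg.Agent.Lib.GlaubSyl7

open Cfsg Cfsg.Agent.Lib.CharBasic Cfsg.Agent.Lib.GlaubCorr Cfsg.Agent.Lib.GlaubSyl6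
open scoped ComplexConjugate

attribute [local instance] Fintype.ofFinite

/-- A normal subgroup of order prime to its index containing the `p`-elements. -/
theorem mem_of_pow_mem {X : Type*} [Group X] [Finite X] (p : ℕ) [hp : Fact p.Prime]
    (N : Subgroup X) [N.Normal] (hNi : ¬ p ∣ N.index) {z : X} {k : ℕ} (hz : z ^ p ^ k = 1) :
    z ∈ N := by
  have h1 : ((z : X) : X ⧸ N) ^ p ^ k = 1 := by
    rw [← QuotientGroup.mk_pow, hz, QuotientGroup.mk_one]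
  have h2 : ((z : X) : X ⧸ N) ^ N.index = 1 := by
    rw [Subgroup.index_eq_card]
    exact pow_card_eq_one'
  have h3 : Nat.Coprime (p ^ k) N.index :=
    Nat.Coprime.pow_left _ ((Nat.Prime.coprime_iff_not_dvd hp.out).mpr hNi)
  have h4 := orderOf_dvd_of_pow_eq_one h1
  have h5 := orderOf_dvd_of_pow_eq_one h2
  have h6 := Nat.eq_one_of_dvd_coprimes h3 h4 h5
  rw [orderOf_eq_one_iff] at h6
  exact (QuotientGroup.eq_one_iff z).mp h6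

theorem s4914 {G : Type*} [Group G] [Finite G] (p : ℕ) [Fact p.Prime] (P K Q C : Subgroup G) (hP : IsPGroup p ↥P) (hPK : P ≤ Subgroup.normalizer (K : Set G)) (hQK : Q ≤ K) (hQn : ∀ k ∈ K, ∀ q ∈ Q, k * q * k⁻¹ ∈ Q) (hQp : ∃ a : ℕ, Nat.card ↥Q = p ^ a) (hQsyl : ¬ p ∣ Q.relIndex K) (hCK : C ≤ K) (hC : ∀ k : G, k ∈ C ↔ (k ∈ K ∧ ∀ x ∈ P, x * k * x⁻¹ * k⁻¹ ∈ Q)) : ∃ f : {χ : Cfsg.IrrCharacter ↥K // (∀ x ∈ P, ∀ k k' : ↥K, (k' : G) = x * (k : G) * x⁻¹ → (χ : ↥K → ℂ) k' = (χ : ↥K → ℂ) k)} → {ξ : Cfsg.IrrCharacter ↥C // (∀ x ∈ P, ∀ k k' : ↥C, (k' : G) = x * (k : G) * x⁻¹ → (ξ : ↥C → ℂ) k' = (ξ : ↥C → ℂ) k)}, Function.Bijective f ∧ ∀ χ, (∀ ξ : {ξ : Cfsg.IrrCharacter ↥C // (∀ x ∈ P, ∀ k k' : ↥C, (k' : G) = x * (k : G) * x⁻¹ → (ξ : ↥C → ℂ) k' = (ξ : ↥C → ℂ) k)}, ∃ m : ℕ, (Nat.card ↥C : ℂ)⁻¹ * ∑ᶠ c : ↥C, (χ.1 : ↥K → ℂ) (Subgroup.inclusion hCK c) * (starRingEnd ℂ) ((ξ.1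 : ↥C → ℂ) c) = (m : ℂ) ∧ (ξ = f χ → ((m : ZMod p) = 1 ∨ (m : ZMod p) = -1)) ∧ (ξ ≠ f χ → p ∣ m)) ∧ ((Cfsg.charDegree ((f χ).1 : ↥C → ℂ) : ZMod p) = (Cfsg.charDegree (χ.1 : ↥K → ℂ) : ZMod p) ∨ (Cfsg.charDegree ((f χ).1 : ↥C → ℂ) : ZMod p) = -(Cfsg.charDegree (χ.1 : ↥K → ℂ) : ZMod p)) := by
  have hnormK : ∀ s ∈ P, ∀ g ∈ K, s * g * s⁻¹ ∈ K := fun s hs g hg =>
    (Subgroup.mem_normalizer_iff.mp (hPK hs) g).mp hg
  let a : P →* MulAut K := conjHom K P hnormK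
  let N : Subgroup K := Q.subgroupOf K
  haveI hNn : N.Normal := ⟨fun n hn g => hQn g g.2 n hn⟩
  have hNi : ¬ p ∣ N.index := hQsyl
  obtain ⟨e₀, he₀⟩ := hQp
  have hQpg : IsPGroup p Q := IsPGroup.of_card he₀
  have hNp : IsPGroup p N := hQpg.of_equiv (Subgroup.subgroupOfEquivOfLe hQK).symm
  have hNa : ∀ s, ∀ n ∈ N, a s n ∈ N := by
    intro s n hn
    obtain ⟨k, hk⟩ := hNp ⟨n, hn⟩
    have h1 : n ^ p ^ k = 1 := by
      have := congrArg (fun z : N => (z : K)) hk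
      simpa using this
    have h2 : (a s n) ^ p ^ k = 1 := by
      rw [← map_pow, h1, map_one]
    exact mem_of_pow_mem p N hNi h2
  let j : C →* K := Subgroup.inclusion hCK
  have hj : Function.Injective j := Subgroup.inclusion_injective hCK
  have hcomm : ∀ x ∈ P, ∀ k ∈ K, k ∈ C ↔ ∀ z ∈ P, z * k * z⁻¹ * k⁻¹ ∈ Q := by
    intro x _ k hk
    rw [hC]
    exact ⟨fun h => h.2, fun h => ⟨hk, h⟩⟩
  have hnormC : ∀ s ∈ P, ∀ g ∈ C, s * g * s⁻¹ ∈ C := by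
    intro s hs g hg
    have hgK := hCK hg
    rw [hC]
    refine ⟨hnormK s hs g hgK, fun z hz => ?_⟩
    have h1 := ((hC g).mp hg).2 (z * s) (P.mul_mem hz hs)
    have h2 := ((hC g).mp hg).2 s hs
    have h3 := Q.mul_mem h1 (Q.inv_mem h2)
    have h4 : z * (s * g * s⁻¹) * z⁻¹ * (s * g * s⁻¹)⁻¹ =
        z * s * g * (z * s)⁻¹ * g⁻¹ * (s * g * s⁻¹ * g⁻¹)⁻¹ := by
      group
    rw [h4]
    exact h3
  let aY : P →* MulAut C := conjHom C P hnormC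
  have hjr : ∀ x, x ∈ j.range ↔ ∀ s, a s x * x⁻¹ ∈ N := by
    intro x
    constructor
    · rintro ⟨y, rfl⟩ s
      exact ((hC y).mp y.2).2 s s.2
    · intro h
      have hx : (x : G) ∈ C := by
        rw [hC]
        exact ⟨x.2, fun z hz => h ⟨z, hz⟩⟩
      exact ⟨⟨x, hx⟩, rfl⟩
  have hja : ∀ s y, j (aY s y) = a s (j y) := fun s y => rfl
  obtain ⟨f₀, hf₀, hspec⟩ := main p a aY j N hP hNa hNp hNi hj hjr hja
  -- the conditions
  have hcK : ∀ χ : IrrCharacter K, (∀ x ∈ P, ∀ k k' : K, (k' : G) = x * (k : G) * x⁻¹ →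
      (χ : K → ℂ) k' = (χ : K → ℂ) k) ↔ ∀ s x, (χ : K → ℂ) (a s x) = (χ : K → ℂ) x := by
    intro χ
    constructor
    · intro h s x
      exact h s s.2 x _ rfl
    · intro h x hx k k' hk'
      have h1 : k' = a ⟨x, hx⟩ k := Subtype.ext hk'
      rw [h1]
      exact h _ _
  have hcC : ∀ χ : IrrCharacter C, (∀ x ∈ P, ∀ k k' : C, (k' : G) = x * (k : G) * x⁻¹ →
      (χ : C → ℂ) k' = (χ : C → ℂ) k) ↔ ∀ s x, (χ : C → ℂ) (aY s x) = (χ : C → ℂ) x := by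
    intro χ
    constructor
    · intro h s x
      exact h s s.2 x _ rfl
    · intro h x hx k k' hk'
      have h1 : k' = aY ⟨x, hx⟩ k := Subtype.ext hk'
      rw [h1]
      exact h _ _
  let EK : {χ : IrrCharacter K // (∀ x ∈ P, ∀ k k' : K, (k' : G) = x * (k : G) * x⁻¹ →
      (χ : K → ℂ) k' = (χ : K → ℂ) k)} ≃ {χ : IrrCharacter K // ∀ s x, (χ : K → ℂ) (a s x) = (χ : K → ℂ) x} :=
    Equiv.subtypeEquivRight hcK
  let EC : {χ : IrrCharacter C // (∀ x ∈ P, ∀ k k' : C, (k' : G) = x * (k : G) * x⁻¹ →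
      (χ : C → ℂ) k' = (χ : C → ℂ) k)} ≃ {χ : IrrCharacter C // ∀ s x, (χ : C → ℂ) (aY s x) = (χ : C → ℂ) x} :=
    Equiv.subtypeEquivRight hcC
  refine ⟨fun χ => EC.symm (f₀ (EK χ)), EC.symm.bijective.comp (hf₀.comp EK.bijective), fun χ => ?_⟩
  obtain ⟨h1, h2⟩ := hspec (EK χ)
  refine ⟨fun ξ => ?_, h2⟩
  obtain ⟨m, hm, hm1, hm2⟩ := h1 (EC ξ)
  refine ⟨m, ?_, fun h => hm1 ?_, fun h => hm2 ?_⟩
  · rw [finsum_eq_sum_of_fintype]
    exact hm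
  · rw [h]
    exact EC.apply_symm_apply _
  · intro h'
    apply h
    show ξ = EC.symm (f₀ (EK χ))
    rw [← h']
    exact (EC.symm_apply_apply ξ).symm

end Cfsg.Agent.Lib.GlaubSyl7
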