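import Mathlib
import Cfsg.Agent.Lib.FSForm
import Cfsg.Agent.Lib.LinTwist

/-!
# Real extensions of invariant characters with indicator one through odd index
-/

set_option autoImplicit false
set_option linter.unusedSectionVars false
set_option linter.unusedVariables false
set_option linter.style.haveILetI false

namespace Cfsg.Agent.Lib.RealExt

open Cfsg Cfsg.Agent.Lib.CharBasic Cfsg.Agent.Lib.FSForm
open scoped ComplexConjugate Matrix

universe u

section Abstract

/-- A central extension by a group of order two, split over a normal subgroup of odd index, splits. -/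
theorem exists_section {E T : Type u} [Group E] [Finite E] [Group T] [Finite T] (π : E →* T)
    (hπ : Function.Surjective π) (N : Subgroup T) [hNn : N.Normal] (hodd : Odd N.index) (j : N →* E)
    (hj : ∀ n, π (j n) = n) (hjn : j.range.Normal) (z : E) (hzk : π z = 1)
    (hz : ∀ e, π e = 1 → e = 1 ∨ e = z) (hz1 : z ≠ 1) :
    ∃ σ : T →* E, (∀ t, π (σ t) = t) ∧ ∀ n : N, σ n = j n := by
  classical
  let L : Subgroup E := j.range
  haveI : L.Normal := hjn
  have hLN : L ≤ N.comap π := by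
    rintro _ ⟨n, rfl⟩
    show π (j n) ∈ N
    rw [hj]
    exact n.2
  let πb : E ⧸ L →* T ⧸ N := QuotientGroup.map L N π hLN
  have hπb : Function.Surjective πb := by
    intro x
    obtain ⟨t, rfl⟩ := QuotientGroup.mk_surjective x
    obtain ⟨e, rfl⟩ := hπ t
    exact ⟨(e : E ⧸ L), rfl⟩
  let H : Subgroup (E ⧸ L) := πb.ker
  have hHmem : ∀ x ∈ H, x = 1 ∨ x = (z : E ⧸ L) := by
    intro x hx
    obtain ⟨e, rfl⟩ := QuotientGroup.mk_surjective x
    have h1 : πb (e : E ⧸ L) = 1 := hx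
    have h2 : π e ∈ N := by
      have h3 : ((π e : T) : T ⧸ N) = 1 := h1
      exact (QuotientGroup.eq_one_iff _).mp h3
    let n : N := ⟨π e, h2⟩
    have h4 : π (e * (j n)⁻¹) = 1 := by
      rw [map_mul, map_inv, hj]
      simp [n]
    rcases hz _ h4 with h5 | h5
    · left
      have h6 : e = j n := mul_inv_eq_one.mp h5
      rw [h6]
      exact (QuotientGroup.eq_one_iff _).mpr ⟨n, rfl⟩
    · right
      have h6 : e = z * j n := by
        rw [← h5]
        group
      rw [h6]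
      have h7 : ((j n : E) : E ⧸ L) = 1 := (QuotientGroup.eq_one_iff _).mpr ⟨n, rfl⟩
      rw [QuotientGroup.mk_mul, h7, mul_one]
  have hzH : (z : E ⧸ L) ∈ H := by
    show πb (z : E ⧸ L) = 1
    show ((π z : T) : T ⧸ N) = 1
    rw [hzk]
    rfl
  have hHindex : H.index = N.index := by
    rw [Subgroup.index_ker, MonoidHom.range_eq_top.mpr hπb, Subgroup.card_top, Subgroup.index_eq_card]
  have hHcard : Nat.card H ≤ 2 := by
    have h1 : (H : Set (E ⧸ L)) ⊆ {1, (z : E ⧸ L)} := by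
      intro x hx
      rcases hHmem x hx with h | h
      · left; exact h
      · right; exact h
    have h2 : Nat.card H = (H : Set (E ⧸ L)).ncard := Nat.card_coe_set_eq (H : Set (E ⧸ L))
    rw [h2]
    refine (Set.ncard_le_ncard h1 (Set.toFinite _)).trans ?_
    refine (Set.ncard_insert_le _ _).trans ?_
    rw [Set.ncard_singleton]
  have hcop : Nat.Coprime (Nat.card H) H.index := by
    rw [hHindex]
    have h1 : Nat.card H ≠ 0 := Nat.card_pos.ne'
    have h2 : Nat.Coprime 2 N.index := Nat.coprime_two_left.mpr hodd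
    interval_cases hc : Nat.card H
    · exact absurd rfl h1
    · exact Nat.coprime_one_left _
    · exact h2
  obtain ⟨Kb, hKb⟩ := Subgroup.exists_right_complement'_of_coprime hcop
  let K : Subgroup E := Kb.comap (QuotientGroup.mk' L)
  have hjK : ∀ n : N, j n ∈ K := by
    intro n
    show ((j n : E) : E ⧸ L) ∈ Kb
    have h7 : ((j n : E) : E ⧸ L) = 1 := (QuotientGroup.eq_one_iff _).mpr ⟨n, rfl⟩
    rw [h7]
    exact Kb.one_mem
  have hzK : z ∉ K := by
    intro h
    have h1 : (z : E ⧸ L) ∈ Kb := h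
    have h2 : (z : E ⧸ L) = 1 := by
      have h3 := hKb.disjoint
      rw [Subgroup.disjoint_def] at h3
      exact h3 hzH h1
    have h3 : z ∈ L := (QuotientGroup.eq_one_iff _).mp h2
    obtain ⟨n, hn⟩ := h3
    have h4 := hj n
    rw [hn, hzk] at h4
    have h5 : n = 1 := Subtype.ext h4.symm
    rw [h5, map_one] at hn
    exact hz1 hn.symm
  let πK : K →* T := π.comp K.subtype
  have hinj : Function.Injective πK := by
    rw [injective_iff_map_eq_one]
    intro e he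
    rcases hz (e : E) he with h | h
    · exact Subtype.ext h
    · exfalso
      apply hzK
      rw [← h]
      exact e.2
  have hsurj : Function.Surjective πK := by
    intro t
    obtain ⟨e, rfl⟩ := hπ t
    obtain ⟨⟨⟨h, hh⟩, ⟨k, hk⟩⟩, hhk⟩ := hKb.2 (e : E ⧸ L)
    have hhk' : h * k = (e : E ⧸ L) := hhk
    rcases hHmem h hh with h1 | h1
    · rw [h1, one_mul] at hhk'
      have he : e ∈ K := by
        show (e : E ⧸ L) ∈ Kb
        rw [← hhk']
        exact hk
      exact ⟨⟨e, he⟩, rfl⟩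
    · have he : z⁻¹ * e ∈ K := by
        show ((z⁻¹ * e : E) : E ⧸ L) ∈ Kb
        rw [QuotientGroup.mk_mul, ← hhk', QuotientGroup.mk_inv, h1]
        simpa using hk
      refine ⟨⟨_, he⟩, ?_⟩
      show π (z⁻¹ * e) = π e
      rw [map_mul, map_inv, hzk]
      simp
  let Ψ : K ≃* T := MulEquiv.ofBijective πK ⟨hinj, hsurj⟩
  refine ⟨K.subtype.comp Ψ.symm.toMonoidHom, ?_, ?_⟩
  · intro t
    exact Ψ.apply_symm_apply t
  · intro n
    have h1 : Ψ ⟨j n, hjK n⟩ = (n : T) := hj n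
    show ((Ψ.symm (n : T) : K) : E) = j n
    rw [← h1, MulEquiv.symm_apply_apply]

end Abstract

section Main

variable {T : Type u} [Group T] (N : Subgroup T) [hN : N.Normal] {k : ℕ}
  (ρ : Representation ℂ N (Fin k → ℂ)) (X : Matrix (Fin k) (Fin k) ℂ)

/-- The group of pairs (element of `T`, intertwiner preserving the form). -/
def EE : Subgroup (T × (Matrix (Fin k) (Fin k) ℂ)ˣ) where
  carrier := {p | (∀ n : N, (p.2 : Matrix (Fin k) (Fin k) ℂ) * matOfRep ρ n =
      matOfRep ρ (MulAut.conjNormal p.1 n) * (p.2 : Matrix (Fin k) (Fin k) ℂ)) ∧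
      (p.2 : Matrix (Fin k) (Fin k) ℂ) * X * (p.2 : Matrix (Fin k) (Fin k) ℂ)ᵀ = X}
  mul_mem' := by
    rintro ⟨a, U⟩ ⟨b, V⟩ ⟨h1, h2⟩ ⟨h3, h4⟩
    refine ⟨?_, ?_⟩
    · intro n
      show ((U * V : (Matrix (Fin k) (Fin k) ℂ)ˣ) : Matrix (Fin k) (Fin k) ℂ) * _ =
        matOfRep ρ (MulAut.conjNormal (a * b) n) * ((U * V : (Matrix (Fin k) (Fin k) ℂ)ˣ) : Matrix (Fin k) (Fin k) ℂ)
      rw [Units.val_mul, Matrix.mul_assoc, h3 n, ← Matrix.mul_assoc, h1, Matrix.mul_assoc, map_mul,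
        MulAut.mul_apply]
    · show ((U * V : (Matrix (Fin k) (Fin k) ℂ)ˣ) : Matrix (Fin k) (Fin k) ℂ) * X *
        ((U * V : (Matrix (Fin k) (Fin k) ℂ)ˣ) : Matrix (Fin k) (Fin k) ℂ)ᵀ = X
      rw [Units.val_mul, Matrix.transpose_mul]
      calc (U : Matrix (Fin k) (Fin k) ℂ) * V * X * ((V : Matrix (Fin k) (Fin k) ℂ)ᵀ * (U : Matrix (Fin k) (Fin k) ℂ)ᵀ) =
          (U : Matrix (Fin k) (Fin k) ℂ) * ((V : Matrix (Fin k) (Fin k) ℂ) * X * (V : Matrix (Fin k) (Fin k) ℂ)ᵀ) * (U : Matrix (Fin k) (Fin k) ℂ)ᵀ := by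
            simp only [Matrix.mul_assoc]
        _ = X := by rw [h4, h2]
  one_mem' := by
    refine ⟨?_, ?_⟩
    · intro n
      simp
    · simp
  inv_mem' := by
    rintro ⟨a, U⟩ ⟨h1, h2⟩
    refine ⟨?_, ?_⟩
    · intro n
      show ((U⁻¹ : (Matrix (Fin k) (Fin k) ℂ)ˣ) : Matrix (Fin k) (Fin k) ℂ) * _ =
        matOfRep ρ (MulAut.conjNormal a⁻¹ n) * ((U⁻¹ : (Matrix (Fin k) (Fin k) ℂ)ˣ) : Matrix (Fin k) (Fin k) ℂ)
      have h3 := h1 (MulAut.conjNormal a⁻¹ n)
      have h4 : MulAut.conjNormal a (MulAut.conjNormal a⁻¹ n) = n := by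
        apply Subtype.ext
        simp only [MulAut.conjNormal_apply]
        group
      simp only at h3
      rw [h4] at h3
      have hU1 : ((U⁻¹ : (Matrix (Fin k) (Fin k) ℂ)ˣ) : Matrix (Fin k) (Fin k) ℂ) * U = 1 := Units.inv_mul U
      have hU2 : (U : Matrix (Fin k) (Fin k) ℂ) * ((U⁻¹ : (Matrix (Fin k) (Fin k) ℂ)ˣ) : Matrix (Fin k) (Fin k) ℂ) = 1 := Units.mul_inv U
      calc ((U⁻¹ : (Matrix (Fin k) (Fin k) ℂ)ˣ) : Matrix (Fin k) (Fin k) ℂ) * matOfRep ρ n =
            ((U⁻¹ : (Matrix (Fin k) (Fin k) ℂ)ˣ) : Matrix (Fin k) (Fin k) ℂ) * (matOfRep ρ n * U) *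
              ((U⁻¹ : (Matrix (Fin k) (Fin k) ℂ)ˣ) : Matrix (Fin k) (Fin k) ℂ) := by
            rw [Matrix.mul_assoc, Matrix.mul_assoc, hU2, Matrix.mul_one]
        _ = matOfRep ρ (MulAut.conjNormal a⁻¹ n) * ((U⁻¹ : (Matrix (Fin k) (Fin k) ℂ)ˣ) : Matrix (Fin k) (Fin k) ℂ) := by
            rw [← h3, ← Matrix.mul_assoc, hU1, Matrix.one_mul]
    · show ((U⁻¹ : (Matrix (Fin k) (Fin k) ℂ)ˣ) : Matrix (Fin k) (Fin k) ℂ) * X *
        ((U⁻¹ : (Matrix (Fin k) (Fin k) ℂ)ˣ) : Matrix (Fin k) (Fin k) ℂ)ᵀ = X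
      have hU1 : ((U⁻¹ : (Matrix (Fin k) (Fin k) ℂ)ˣ) : Matrix (Fin k) (Fin k) ℂ) * U = 1 := Units.inv_mul U
      have hU3 : (U : Matrix (Fin k) (Fin k) ℂ)ᵀ * ((U⁻¹ : (Matrix (Fin k) (Fin k) ℂ)ˣ) : Matrix (Fin k) (Fin k) ℂ)ᵀ = 1 := by
        rw [← Matrix.transpose_mul, hU1, Matrix.transpose_one]
      nth_rewrite 1 [← h2]
      calc ((U⁻¹ : (Matrix (Fin k) (Fin k) ℂ)ˣ) : Matrix (Fin k) (Fin k) ℂ) * ((U : Matrix (Fin k) (Fin k) ℂ) * X * (U : Matrix (Fin k) (Fin k) ℂ)ᵀ) *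
            ((U⁻¹ : (Matrix (Fin k) (Fin k) ℂ)ˣ) : Matrix (Fin k) (Fin k) ℂ)ᵀ =
            (((U⁻¹ : (Matrix (Fin k) (Fin k) ℂ)ˣ) : Matrix (Fin k) (Fin k) ℂ) * U) * X *
              ((U : Matrix (Fin k) (Fin k) ℂ)ᵀ * ((U⁻¹ : (Matrix (Fin k) (Fin k) ℂ)ˣ) : Matrix (Fin k) (Fin k) ℂ)ᵀ) := by
            simp only [Matrix.mul_assoc]
        _ = X := by rw [hU1, hU3, Matrix.one_mul, Matrix.mul_one]

/-- **Real extension.** -/
theorem exists_real_extension [Fintype T] [Fintype N] (hodd : Odd N.index) {φ : N → ℂ}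
    (hφ : IsIrrCharacter N φ)
    (hν : (Nat.card N : ℂ)⁻¹ * ∑ n : N, φ (n * n) = 1)
    (hinv : ∀ (t : T) (n : N), φ (MulAut.conjNormal t n) = φ n) :
    ∃ ψ : T → ℂ, IsIrrCharacter T ψ ∧ (∀ n : N, ψ n = φ n) ∧ (∀ t, (ψ t).im = 0) ∧
      (Nat.card T : ℂ)⁻¹ * ∑ t : T, ψ (t * t) = 1 := by
  classical
  have hreal := LinTwist.real_of_nu_ne_zero hφ (by rw [hν]; exact one_ne_zero)
  obtain ⟨k, ρ, hρ, rfl⟩ := hφ
  set A := matOfRep ρ with hA
  have htr : ∀ n, (A n).trace = ρ.character n := trace_matOfRep ρ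
  have h1 : (Nat.card N : ℂ)⁻¹ * ∑ n : N, (A n).trace ^ 2 = 1 := by
    have h2 := classInner_irr_self (isIrrCharacter_of_rep ρ hρ)
    unfold classInner at h2
    rw [← h2]
    congr 1
    refine Finset.sum_congr rfl fun n _ => ?_
    rw [htr, sq]
    congr 1
    exact (Complex.conj_eq_iff_im.mpr (hreal n)).symm
  have h2 : (Nat.card N : ℂ)⁻¹ * ∑ n : N, (A (n * n)).trace = 1 := by
    simpa only [htr] using hν
  obtain ⟨X, hX0, hXs, hXinv⟩ := exists_symm_form A h1 h2
  have hXu : IsUnit X := isUnit_of_form hρ hX0 hXinv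
  obtain ⟨x, hx⟩ := hXu
  have hXW : X * ((x⁻¹ : (Matrix (Fin k) (Fin k) ℂ)ˣ) : Matrix (Fin k) (Fin k) ℂ) = 1 := by
    rw [← hx, Units.mul_inv]
  have hWX : ((x⁻¹ : (Matrix (Fin k) (Fin k) ℂ)ˣ) : Matrix (Fin k) (Fin k) ℂ) * X = 1 := by
    rw [← hx, Units.inv_mul]
  let E := EE N ρ X
  let π : E →* T := (MonoidHom.fst T _).comp E.subtype
  have hinvρ : ∀ (t : T) (n : N), ρ.character (MulAut.conjNormal t n) = ρ.character n := hinv
  have hπ : Function.Surjective π := by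
    intro t
    obtain ⟨U, hU1, hU2⟩ := exists_form_intertwiner N hρ hinvρ ⟨x, hx⟩ hX0 hXinv t
    exact ⟨⟨(t, U), hU1, hU2⟩, rfl⟩
  let j : N →* E := ((N.subtype).prod A.toHomUnits).codRestrict E (by
    intro n
    refine ⟨?_, ?_⟩
    · intro m
      show A n * A m = A (MulAut.conjNormal (n : T) m) * A n
      rw [← map_mul, ← map_mul]
      congr 1
      apply Subtype.ext
      simp [MulAut.conjNormal_apply]
    · exact hXinv n)
  have hj : ∀ n, π (j n) = n := fun n => rfl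
  have hjval : ∀ n : N, (((j n : E) : T × (Matrix (Fin k) (Fin k) ℂ)ˣ).2 : Matrix (Fin k) (Fin k) ℂ) = A n := fun n => rfl
  have hjn : j.range.Normal := by
    constructor
    rintro _ ⟨n, rfl⟩ ⟨⟨t, U⟩, hU⟩
    refine ⟨MulAut.conjNormal t n, ?_⟩
    apply Subtype.ext
    apply Prod.ext
    · show (((MulAut.conjNormal t n : N)) : T) = t * n * t⁻¹
      rw [MulAut.conjNormal_apply]
    · apply Units.ext
      show A (MulAut.conjNormal t n) = (U : Matrix (Fin k) (Fin k) ℂ) * A n * ((U⁻¹ : (Matrix (Fin k) (Fin k) ℂ)ˣ) : Matrix (Fin k) (Fin k) ℂ)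
      rw [hU.1 n, Matrix.mul_assoc, Units.mul_inv, Matrix.mul_one]
  let z : E := ⟨(1, -1), by
    refine ⟨?_, ?_⟩
    · intro n
      simp
    · simp⟩
  have hzk : π z = 1 := rfl
  have hz : ∀ e, π e = 1 → e = 1 ∨ e = z := by
    rintro ⟨⟨t, U⟩, hU⟩ ht
    have ht' : t = 1 := ht
    subst ht'
    obtain ⟨c, hc⟩ := mat_schur hρ (U : Matrix (Fin k) (Fin k) ℂ) (by
      intro g
      have := hU.1 g
      simpa using this)
    have hform := hU.2
    simp only [hc] at hform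
    rw [Matrix.transpose_smul, Matrix.transpose_one, Matrix.smul_mul, Matrix.one_mul, Matrix.mul_smul,
      Matrix.mul_one, smul_smul] at hform
    have hcc : c * c = 1 := by
      have h3 : (c * c - 1) • X = 0 := by
        rw [sub_smul, hform, one_smul, sub_self]
      exact sub_eq_zero.mp ((smul_eq_zero.mp h3).resolve_right hX0)
    have hc2 : (c - 1) * (c + 1) = 0 := by linear_combination hcc
    rcases mul_eq_zero.mp hc2 with h3 | h3
    · left
      have h4 : c = 1 := sub_eq_zero.mp h3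
      apply Subtype.ext
      apply Prod.ext
      · rfl
      · apply Units.ext
        show (U : Matrix (Fin k) (Fin k) ℂ) = 1
        rw [hc, h4, one_smul]
    · right
      have h4 : c = -1 := eq_neg_of_add_eq_zero_left h3
      apply Subtype.ext
      apply Prod.ext
      · rfl
      · apply Units.ext
        show (U : Matrix (Fin k) (Fin k) ℂ) = -1
        rw [hc, h4, neg_smul, one_smul]
  have hz1 : z ≠ 1 := by
    intro h
    have h3 : (-1 : (Matrix (Fin k) (Fin k) ℂ)ˣ) = 1 := by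
      have := congrArg (fun e : E => ((e : T × (Matrix (Fin k) (Fin k) ℂ)ˣ)).2) h
      exact this
    have h4 : (-1 : Matrix (Fin k) (Fin k) ℂ) = 1 := by
      have := congrArg (fun u : (Matrix (Fin k) (Fin k) ℂ)ˣ => (u : Matrix (Fin k) (Fin k) ℂ)) h3
      simpa using this
    apply hX0
    have h5 : (2 : ℂ) • X = 0 := by
      have h6 : (-1 : Matrix (Fin k) (Fin k) ℂ) * X = 1 * X := by rw [h4]
      rw [neg_mul, one_mul] at h6
      rw [two_smul]
      nth_rewrite 1 [← h6]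
      simp
    exact (smul_eq_zero.mp h5).resolve_left two_ne_zero
  choose u hu using hπ
  haveI hEfin : Finite E := by
    apply Finite.of_surjective (fun p : T × Bool => u p.1 * (if p.2 then z else 1))
    intro e
    have h3 : π ((u (π e))⁻¹ * e) = 1 := by
      rw [map_mul, map_inv, hu]
      simp
    rcases hz _ h3 with h4 | h4
    · refine ⟨(π e, false), ?_⟩
      simp only [if_false, Bool.false_eq_true, mul_one]
      exact (inv_mul_eq_one.mp h4)
    · refine ⟨(π e, true), ?_⟩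
      simp only [if_true]
      rw [← h4]
      group
  haveI : Finite T := Finite.of_fintype T
  obtain ⟨σ, hσ1, hσ2⟩ := exists_section π (fun t => ⟨u t, hu t⟩) N hodd j hj hjn z hzk hz hz1
  let Â : T →* Matrix (Fin k) (Fin k) ℂ :=
    (Units.coeHom _).comp ((MonoidHom.snd T _).comp (E.subtype.comp σ))
  have hÂN : ∀ n : N, Â n = A n := by
    intro n
    show (((σ n : E) : T × (Matrix (Fin k) (Fin k) ℂ)ˣ).2 : Matrix (Fin k) (Fin k) ℂ) = A n
    rw [hσ2 n]
    exact hjval n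
  have hÂX : ∀ t, Â t * X * (Â t)ᵀ = X := fun t => (σ t).2.2
  have hψc : IsCharacter T (fun t => (Â t).trace) := by
    refine ⟨k, repOfMat Â, ?_⟩
    funext t
    exact character_repOfMat Â t
  have hψirr : IsIrrCharacter T (fun t => (Â t).trace) := by
    refine ⟨k, repOfMat Â, ?_, funext (character_repOfMat Â)⟩
    rw [isIrreducible_iff] at hρ ⊢
    refine ⟨hρ.1, fun U hU => hρ.2 U fun n v hv => ?_⟩
    have h3 := hU n v hv
    rw [repOfMat_apply, hÂN, matOfRep_mulVec] at h3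
    exact h3
  have hψreal : ∀ t, ((Â t).trace).im = 0 := by
    intro t
    rw [← Complex.conj_eq_iff_im]
    have h3 : conj (Â t).trace = (Â t⁻¹).trace := char_conj_eq_inv hψc t
    rw [h3]
    have h4 : Â t⁻¹ * Â t = 1 := by
      rw [← map_mul]
      simp
    have h5 : X * (Â t)ᵀ = Â t⁻¹ * X := by
      conv_rhs => rw [← hÂX t]
      simp only [← Matrix.mul_assoc]
      rw [h4, Matrix.one_mul]
    have h6 : (Â t)ᵀ = ((x⁻¹ : (Matrix (Fin k) (Fin k) ℂ)ˣ) : Matrix (Fin k) (Fin k) ℂ) * (Â t⁻¹ * X) := by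
      rw [← h5, ← Matrix.mul_assoc, hWX, Matrix.one_mul]
    rw [← Matrix.trace_transpose (Â t), h6, Matrix.trace_mul_comm, Matrix.mul_assoc, hXW, Matrix.mul_one]
  refine ⟨fun t => (Â t).trace, hψirr, ?_, hψreal, ?_⟩
  · intro n
    show (Â n).trace = ρ.character n
    rw [hÂN, htr]
  · apply nu_eq_one_of_form Â _ hX0 hXs hÂX
    have h3 := classInner_irr_self hψirr
    unfold classInner at h3
    rw [← h3]
    congr 1
    refine Finset.sum_congr rfl fun t _ => ?_
    rw [sq]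
    congr 1
    exact (Complex.conj_eq_iff_im.mpr (hψreal t)).symm

end Main

end Cfsg.Agent.Lib.RealExt
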