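import Mathlib
import Cfsg.Agent.Lib.Clifford
import Cfsg.Agent.Lib.Gagola2

/-!
# A real monomial character

For an abelian normal subgroup `N` with complement `H`, a linear character `λ` of `N` which is
inverted by an element of `H` gives a real irreducible character of degree the index of its
stabilizer.
-/

set_option autoImplicit false
set_option linter.unusedSectionVars false
set_option linter.unusedVariables false
set_option linter.style.haveILetI false

namespace Cfsg.Agent.Lib.RealMono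

open Cfsg Cfsg.Agent.Lib.CharBasic Cfsg.Agent.Lib.CharInd Cfsg.Agent.Lib.CharInduction
open Cfsg.Agent.Lib.Gagola2 Cfsg.Agent.Lib.Clifford Cfsg.Agent.Lib.CharAvg
open scoped ComplexConjugate

universe u

variable {G : Type u} [Group G] [Fintype G]

theorem conj_units_of_finite {A : Type*} [Group A] [Finite A] (f : A →* ℂˣ) (a : A) :
    conj ((f a : ℂˣ) : ℂ) = ((f a : ℂˣ) : ℂ)⁻¹ := by
  have h1 : ((f a : ℂˣ) : ℂ) ^ (orderOf a) = 1 := by
    rw [← Units.val_pow_eq_pow_val, ← map_pow, pow_orderOf_eq_one, map_one]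
    rfl
  have h2 : ‖((f a : ℂˣ) : ℂ)‖ = 1 :=
    Complex.norm_eq_one_of_pow_eq_one h1 (orderOf_pos a).ne'
  exact (Complex.inv_eq_conj h2).symm

/-- The real monomial character. -/
theorem exists_real_monomial (N H : Subgroup G) [Fintype N] (hN : N.Normal) (hcomm : IsMulCommutative N)
    (hdisj : N ⊓ H = ⊥) (hsup : ∀ g : G, ∃ n ∈ N, ∃ h ∈ H, g = n * h) (lam : N →* ℂˣ)
    {s : G} (hs : s ∈ H)
    (hsinv : ∀ n : N, lam ⟨s * n * s⁻¹, hN.conj_mem n n.2 s⟩ = (lam n)⁻¹) :
    ∃ χ : IrrCharacter G, (∀ g, ((χ : G → ℂ) g).im = 0) ∧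
      (χ : G → ℂ) 1 = ((inertia N hN (fun n => ((lam n : ℂˣ) : ℂ))).index : ℂ) ∧
      classInner (fun n : N => (χ : G → ℂ) n) (fun n => ((lam n : ℂˣ) : ℂ)) = 1 := by
  classical
  haveI hN' : N.Normal := hN
  set θ : N → ℂ := fun n => ((lam n : ℂˣ) : ℂ) with hθdef
  set T := inertia N hN θ with hTdef
  haveI : Fintype T := Fintype.ofFinite T
  have hNab : ∀ a b : N, a * b = b * a := fun a b => (IsMulCommutative.is_comm (M := N)).comm a b
  have hNab' : ∀ a ∈ N, ∀ b ∈ N, a * b = b * a := fun a ha b hb =>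
    congrArg Subtype.val (hNab ⟨a, ha⟩ ⟨b, hb⟩)
  have hTmem : ∀ g : G, g ∈ T ↔ ∀ n : N, θ ⟨g * n * g⁻¹, hN.conj_mem (n : G) n.2 g⟩ = θ n := by
    intro g
    constructor
    · intro hg n
      exact congrFun hg n
    · intro hg
      exact funext hg
  have hNT : N ≤ T := by
    intro x hx
    rw [hTmem]
    intro n
    congr 1
    apply Subtype.ext
    show x * n * x⁻¹ = n
    rw [hNab' x hx n n.2]
    simp
  -- the decomposition
  choose nn hnn hh hhh heq using hsup
  have huniq : ∀ {a b c d : G}, a ∈ N → b ∈ H → c ∈ N → d ∈ H → a * b = c * d → a = c ∧ b = d := by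
    intro a b c d ha hb hc hd h
    have h1 : c⁻¹ * a = d * b⁻¹ := by
      have : a = c * d * b⁻¹ := by rw [← h]; simp
      rw [this]
      simp [mul_assoc]
    have h2 : c⁻¹ * a ∈ N ⊓ H :=
      ⟨N.mul_mem (N.inv_mem hc) ha, h1 ▸ H.mul_mem hd (H.inv_mem hb)⟩
    rw [hdisj, Subgroup.mem_bot] at h2
    have h3 : a = c := by
      have := mul_eq_one_iff_eq_inv.mp h2
      simpa using this.symm
    subst h3
    refine ⟨rfl, ?_⟩
    exact (mul_left_cancel h)
  have hnnuniq : ∀ {g a b : G}, a ∈ N → b ∈ H → g = a * b → nn g = a := by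
    intro g a b ha hb hg
    exact (huniq (hnn g) (hhh g) ha hb ((heq g).symm.trans hg)).1
  have hhhuniq : ∀ {g a b : G}, a ∈ N → b ∈ H → g = a * b → hh g = b := by
    intro g a b ha hb hg
    exact (huniq (hnn g) (hhh g) ha hb ((heq g).symm.trans hg)).2
  -- the extension of `lam` to `T`
  have hnnmul : ∀ a b : G, nn (a * b) = nn a * (hh a * nn b * (hh a)⁻¹) := by
    intro a b
    apply hnnuniq (N.mul_mem (hnn a) (hN.conj_mem _ (hnn b) _)) (H.mul_mem (hhh a) (hhh b))
    conv_lhs => rw [heq a, heq b]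
    group
  have hhT : ∀ t ∈ T, hh t ∈ T := by
    intro t ht
    have h1 : hh t = (nn t)⁻¹ * t := eq_inv_mul_of_mul_eq (heq t).symm
    rw [h1]
    exact T.mul_mem (T.inv_mem (hNT (hnn t))) ht
  let f : T →* ℂˣ := MonoidHom.mk' (fun t => lam ⟨nn t, hnn t⟩) (by
    intro a b
    have h1 := (hTmem _).mp (hhT a a.2) ⟨nn b, hnn b⟩
    have h2 : lam ⟨hh a * nn b * (hh a)⁻¹, hN.conj_mem _ (hnn b) _⟩ = lam ⟨nn b, hnn b⟩ :=
      Units.ext h1
    rw [← h2, ← map_mul]
    congr 1
    apply Subtype.ext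
    exact hnnmul a b)
  let ψ : T → ℂ := fun t => ((f t : ℂˣ) : ℂ)
  have hψirr : IsIrrCharacter T ψ := isIrrCharacter_of_hom f
  have hψval : ∀ t : T, ψ t = θ ⟨nn t, hnn t⟩ := fun t => rfl
  have hψN : ∀ n : N, ψ ⟨n, hNT n.2⟩ = θ n := by
    intro n
    rw [hψval]
    congr 1
    apply Subtype.ext
    exact hnnuniq n.2 H.one_mem (by simp)
  have hθirr : IsIrrCharacter N θ := isIrrCharacter_of_hom lam
  have hover : classInner (fun n : N => ψ ⟨(n : G), hNT n.2⟩) θ = 1 := by
    have : (fun n : N => ψ ⟨(n : G), hNT n.2⟩) = θ := funext hψN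
    rw [this]
    exact classInner_irr_self hθirr
  obtain ⟨hirr, hmult⟩ := indFun_irr_of_over N T hθirr hTmem hNT hψirr (by rw [hover]; exact one_ne_zero)
  -- the element `s` normalizes `T`
  have hconjθ : ∀ n : N, θ ⟨s * n * s⁻¹, hN.conj_mem n n.2 s⟩ = (θ n)⁻¹ := by
    intro n
    show ((lam _ : ℂˣ) : ℂ) = _
    rw [hsinv n]
    simp [θ]
  have hsT : ∀ y, y ∈ T ↔ s * y * s⁻¹ ∈ T := by
    intro y
    rw [hTmem, hTmem]
    constructor
    · intro h n
      let n' : N := ⟨s⁻¹ * n * s, by simpa using hN.conj_mem n n.2 s⁻¹⟩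
      have h1 := h n'
      have h2 := hconjθ ⟨y * n' * y⁻¹, hN.conj_mem _ n'.2 y⟩
      have h3 := hconjθ n'
      have e1 : (⟨s * y * s⁻¹ * n * (s * y * s⁻¹)⁻¹, hN.conj_mem _ n.2 _⟩ : N) =
          ⟨s * (y * n' * y⁻¹) * s⁻¹, hN.conj_mem _ (hN.conj_mem _ n'.2 y) s⟩ := by
        apply Subtype.ext
        simp only [n']
        group
      have e2 : n = ⟨s * n' * s⁻¹, hN.conj_mem _ n'.2 s⟩ := by
        apply Subtype.ext
        simp only [n']
        group
      rw [e1, h2, h1, ← h3, ← e2]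
    · intro h n
      let n' : N := ⟨s * n * s⁻¹, hN.conj_mem n n.2 s⟩
      have h1 := h n'
      have h2 := hconjθ n
      have h3 := hconjθ ⟨y * n * y⁻¹, hN.conj_mem _ n.2 y⟩
      have e1 : (⟨s * y * s⁻¹ * n' * (s * y * s⁻¹)⁻¹, hN.conj_mem _ n'.2 _⟩ : N) =
          ⟨s * (y * n * y⁻¹) * s⁻¹, hN.conj_mem _ (hN.conj_mem _ n.2 y) s⟩ := by
        apply Subtype.ext
        simp only [n']
        group
      rw [e1, h3] at h1
      have h4 : θ n' = (θ n)⁻¹ := h2
      rw [h4] at h1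
      exact inv_injective h1
  -- the value of the conjugate
  have hext : ∀ y : G, conj (extendByZero T ψ y) = extendByZero T ψ (s * y * s⁻¹) := by
    intro y
    by_cases hy : y ∈ T
    · have hy' := (hsT y).mp hy
      rw [extendByZero_of_mem T ψ hy, extendByZero_of_mem T ψ hy']
      show conj ((f ⟨y, hy⟩ : ℂˣ) : ℂ) = _
      rw [conj_units_of_finite f]
      show _ = θ ⟨nn (s * y * s⁻¹), hnn _⟩
      have h1 : nn (s * y * s⁻¹) = s * nn y * s⁻¹ := by
        apply hnnuniq (hN.conj_mem _ (hnn y) s) (H.mul_mem (H.mul_mem hs (hhh y)) (H.inv_mem hs))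
        conv_lhs => rw [heq y]
        group
      have h2 : (⟨nn (s * y * s⁻¹), hnn _⟩ : N) = ⟨s * (⟨nn y, hnn y⟩ : N) * s⁻¹, hN.conj_mem _ (hnn y) s⟩ :=
        Subtype.ext h1
      rw [h2, hconjθ]
      rfl
    · have hy' : s * y * s⁻¹ ∉ T := fun h => hy ((hsT y).mpr h)
      rw [extendByZero_of_not_mem T ψ hy, extendByZero_of_not_mem T ψ hy', map_zero]
  have hreal : ∀ g, conj (indFun T ψ g) = indFun T ψ g := by
    intro g
    rw [indFun_apply, map_mul, map_inv₀, map_natCast, map_sum]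
    congr 1
    rw [← Equiv.sum_comp (Equiv.mulRight s)]
    refine Finset.sum_congr rfl fun x _ => ?_
    rw [hext]
    congr 1
    simp only [Equiv.coe_mulRight]
    group
  refine ⟨⟨indFun T ψ, hirr⟩, fun g => Complex.conj_eq_iff_im.mp (hreal g), ?_, ?_⟩
  · show indFun T ψ 1 = _
    rw [indFun_one]
    have : ψ 1 = 1 := by
      show ((f 1 : ℂˣ) : ℂ) = 1
      simp
    rw [this, mul_one]
  · show classInner (fun n : N => indFun T ψ n) θ = 1
    rw [hmult, hover]

end Cfsg.Agent.Lib.RealMono
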