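import Mathlib
import Cfsg.Agent.Lib.RealMono
import Cfsg.Agent.Lib.CharAutP
import Cfsg.Agent.Lib.MinNormalPrim
import Cfsg.Agent.Lib.PResid
import Cfsg.Agent.Lib.Coprime

/-!
# Real characters of degree prime to `p`, `p`-solvable setting

If `O^{p'}(G)` is solvable and every real irreducible character has degree prime to `p`, the
`p`-elements of any normal subgroup `U` with `U / O^{2'}(G)` a `p`-group form a subgroup.
-/

set_option autoImplicit false
set_option linter.unusedSectionVars false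
set_option linter.unusedVariables false
set_option linter.style.haveILetI false

namespace Cfsg.Agent.Lib.RealCore

open Cfsg Cfsg.Agent.Lib.CharBasic Cfsg.Agent.Lib.CharInd Cfsg.Agent.Lib.CharAut
open Cfsg.Agent.Lib.CharAutP Cfsg.Agent.Lib.Gagola2 Cfsg.Agent.Lib.RealMono
open scoped ComplexConjugate

universe u

section Elements

variable {G : Type u} [Group G]

/-- The subgroup generated by the `q`-elements. -/
abbrev gen (q : ℕ) (G : Type u) [Group G] : Subgroup G := Subgroup.closure {g : G | ∃ k : ℕ, orderOf g = q ^ k}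

theorem pelt_iff {q : ℕ} (hq : q.Prime) {g : G} : (∃ k : ℕ, orderOf g = q ^ k) ↔ ∃ k : ℕ, g ^ (q ^ k) = 1 := by
  constructor
  · rintro ⟨k, hk⟩
    exact ⟨k, by rw [← hk]; exact pow_orderOf_eq_one g⟩
  · rintro ⟨k, hk⟩
    obtain ⟨j, -, hj⟩ := (Nat.dvd_prime_pow hq).mp (orderOf_dvd_of_pow_eq_one hk)
    exact ⟨j, hj⟩

theorem gen_normal (q : ℕ) : (gen q G).Normal := by
  constructor
  intro n hn g
  induction hn using Subgroup.closure_induction with
  | mem x hx =>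
    apply Subgroup.subset_closure
    obtain ⟨k, hk⟩ := hx
    exact ⟨k, by rw [← hk]; exact (MulAut.conj g).orderOf_eq x⟩
  | one => simp
  | mul x y _ _ hx hy =>
    have : g * (x * y) * g⁻¹ = (g * x * g⁻¹) * (g * y * g⁻¹) := by group
    rw [this]
    exact Subgroup.mul_mem _ hx hy
  | inv x _ hx =>
    have : g * x⁻¹ * g⁻¹ = (g * x * g⁻¹)⁻¹ := by group
    rw [this]
    exact Subgroup.inv_mem _ hx

theorem mem_gen {q : ℕ} (hq : q.Prime) {g : G} {k : ℕ} (h : g ^ (q ^ k) = 1) : g ∈ gen q G :=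
  Subgroup.subset_closure ((pelt_iff hq).mpr ⟨k, h⟩)

/-- `q`-elements of quotients lift. -/
theorem exists_lift_pelt [Finite G] {q : ℕ} [hq : Fact q.Prime] {H : Type*} [Group H] (f : G →* H)
    (hf : Function.Surjective f) {x : H} {k : ℕ} (hx : x ^ (q ^ k) = 1) :
    ∃ g : G, f g = x ∧ ∃ j : ℕ, g ^ (q ^ j) = 1 := by
  obtain ⟨g, rfl⟩ := hf x
  obtain ⟨a, b, hab, hcomm, ⟨n, hn⟩, hb, -, hbz⟩ := Cfsg.Agent.Lib.PResid.exists_decomp (p := q) g
  refine ⟨a, ?_, n, hn⟩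
  -- `f b` is trivial
  have h1 : f b ∈ Subgroup.zpowers (f g) := by
    obtain ⟨m, rfl⟩ := hbz
    exact ⟨m, by simp⟩
  have h2 : (f b) ^ (q ^ k) = 1 := by
    obtain ⟨m, hm⟩ := h1
    rw [← hm, ← zpow_natCast, ← zpow_mul, mul_comm, zpow_mul, zpow_natCast, hx, one_zpow]
  have h3 : orderOf (f b) ∣ q ^ k := orderOf_dvd_of_pow_eq_one h2
  have h4 : orderOf (f b) ∣ orderOf b := orderOf_map_dvd f b
  have h5 : Nat.Coprime (orderOf (f b)) (q ^ k) := (Nat.Coprime.coprime_dvd_left h4 hb).pow_right k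
  have h6 : orderOf (f b) = 1 := Nat.Coprime.eq_one_of_dvd h5 h3
  rw [orderOf_eq_one_iff] at h6
  rw [hab, map_mul, h6, mul_one]

/-- The generated subgroup and surjections. -/
theorem map_gen [Finite G] {q : ℕ} [hq : Fact q.Prime] {H : Type u} [Group H] (f : G →* H)
    (hf : Function.Surjective f) : (gen q G).map f = gen q H := by
  apply le_antisymm
  · rw [Subgroup.map_le_iff_le_comap]
    apply (Subgroup.closure_le _).mpr
    intro g hg
    obtain ⟨k, hk⟩ := (pelt_iff hq.out).mp hg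
    apply Subgroup.subset_closure
    refine (pelt_iff hq.out).mpr ⟨k, ?_⟩
    rw [← map_pow, hk, map_one]
  · apply (Subgroup.closure_le _).mpr
    intro x hx
    obtain ⟨k, hk⟩ := (pelt_iff hq.out).mp hx
    obtain ⟨g, rfl, j, hj⟩ := exists_lift_pelt f hf hk
    exact ⟨g, mem_gen hq.out hj, rfl⟩

/-- An element killed by a prime and by a power of another prime is trivial. -/
theorem eq_one_of_pows {p r : ℕ} (hp : p.Prime) (hr : r.Prime) (hpr : p ≠ r) {x : G} {k : ℕ}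
    (h1 : x ^ r = 1) (h2 : x ^ (p ^ k) = 1) : x = 1 := by
  have h3 : Nat.Coprime r (p ^ k) := Nat.Coprime.pow_right k ((Nat.coprime_primes hr hp).mpr hpr.symm)
  have h4 := orderOf_dvd_of_pow_eq_one h1
  have h5 := orderOf_dvd_of_pow_eq_one h2
  have h6 : orderOf x = 1 := Nat.eq_one_of_dvd_coprimes h3 h4 h5
  exact orderOf_eq_one_iff.mp h6

/-- A `p`-element which is a commuting product of an element killed by a different prime `r`
and a `p`-element lies in the second factor. -/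
theorem eq_of_commute_pelt {p r : ℕ} (hp : p.Prime) (hr : r.Prime) (hpr : p ≠ r) {n y : G}
    (hc : Commute n y) (hn : n ^ r = 1) {k l : ℕ} (hy : y ^ (p ^ k) = 1) (hx : (n * y) ^ (p ^ l) = 1) :
    n = 1 := by
  have h1 : n ^ (p ^ (l + k)) = 1 := by
    have h2 : n ^ (p ^ l) * y ^ (p ^ l) = 1 := by
      rw [← hc.mul_pow]; exact hx
    have h3 : (n ^ (p ^ l) * y ^ (p ^ l)) ^ (p ^ k) = 1 := by rw [h2, one_pow]
    rw [(hc.pow_pow _ _).mul_pow, ← pow_mul, ← pow_mul, mul_comm (p ^ l) (p ^ k), pow_mul y (p ^ k), hy,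
      one_pow, mul_one, mul_comm (p ^ k) (p ^ l), ← pow_add] at h3
    exact h3
  exact eq_one_of_pows hp hr hpr hn h1

end Elements

section Chars

variable {G : Type u} [Group G] [Finite G]

/-- A nontrivial character of an abelian group that does not kill a given element. -/
theorem exists_hom_ne_one {N : Subgroup G} (hcomm : ∀ x ∈ N, ∀ y ∈ N, x * y = y * x) (x : N) (hx : x ≠ 1) :
    ∃ μ : N →* ℂˣ, μ x ≠ 1 := by
  letI : CommGroup N := { (inferInstance : Group N) with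
    mul_comm := fun a b => Subtype.ext (hcomm a a.2 b b.2) }
  obtain ⟨φ, hφ⟩ := CommGroup.exists_apply_ne_one_of_hasEnoughRootsOfUnity N ℂ hx
  exact ⟨φ, hφ⟩

/-- The case of exponent two. -/
theorem exists_inverted_two {N : Subgroup G} (hN : N.Normal) (hcomm : ∀ x ∈ N, ∀ y ∈ N, x * y = y * x)
    (hexp : ∀ x ∈ N, x ^ 2 = 1) (hN1 : N ≠ ⊥) :
    ∃ lam : N →* ℂˣ, lam ≠ 1 ∧ ∀ n : N, lam ⟨(1 : G) * n * (1 : G)⁻¹, hN.conj_mem n n.2 1⟩ = (lam n)⁻¹ := by
  obtain ⟨x, hx⟩ := Subgroup.ne_bot_iff_exists_ne_one.mp hN1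
  obtain ⟨μ, hμ⟩ := exists_hom_ne_one hcomm x hx
  refine ⟨μ, fun h => hμ (by rw [h]; rfl), ?_⟩
  intro n
  have h1 : μ n ^ 2 = 1 := by
    rw [← map_pow]
    have : n ^ 2 = 1 := Subtype.ext (hexp n n.2)
    rw [this, map_one]
  have h2 : (⟨(1 : G) * n * (1 : G)⁻¹, hN.conj_mem n n.2 1⟩ : N) = n := by
    apply Subtype.ext
    simp
  rw [h2]
  rw [eq_inv_iff_mul_eq_one, ← sq]
  exact h1

/-- An element acting as an involution inverts a nontrivial character. -/
theorem exists_inverted {N : Subgroup G} (hN : N.Normal) (hcomm : ∀ x ∈ N, ∀ y ∈ N, x * y = y * x)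
    {s : G} (hs2 : ∀ n ∈ N, s * (s * n * s⁻¹) * s⁻¹ = n) {n₀ : G} (hn₀ : n₀ ∈ N)
    (hne : s * n₀ * s⁻¹ ≠ n₀) :
    ∃ lam : N →* ℂˣ, lam ≠ 1 ∧ ∀ n : N, lam ⟨s * n * s⁻¹, hN.conj_mem n n.2 s⟩ = (lam n)⁻¹ := by
  let c : N →* N := (MulAut.conjNormal (H := N) s).toMonoidHom
  have hc : ∀ n : N, ((c n : N) : G) = s * n * s⁻¹ := fun n => rfl
  let x : N := ⟨n₀, hn₀⟩ * (c ⟨n₀, hn₀⟩)⁻¹
  have hx : x ≠ 1 := by
    intro h
    apply hne
    have : (⟨n₀, hn₀⟩ : N) = c ⟨n₀, hn₀⟩ := by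
      have := mul_inv_eq_one.mp h
      exact this
    have h2 := congrArg Subtype.val this
    exact h2.symm
  obtain ⟨μ, hμ⟩ := exists_hom_ne_one hcomm x hx
  let lam : N →* ℂˣ := μ * (μ.comp c)⁻¹
  have hval : ∀ n : N, lam n = μ n * (μ (c n))⁻¹ := fun n => rfl
  refine ⟨lam, ?_, ?_⟩
  · intro h
    apply hμ
    have h1 : lam ⟨n₀, hn₀⟩ = 1 := by rw [h]; rfl
    rw [hval] at h1
    show μ (_ * _) = 1
    rw [map_mul, map_inv]
    exact h1
  · intro n
    have h1 : (⟨s * n * s⁻¹, hN.conj_mem n n.2 s⟩ : N) = c n := rfl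
    rw [h1, hval, hval]
    have h2 : c (c n) = n := Subtype.ext (hs2 n n.2)
    rw [h2, mul_inv, inv_inv, mul_comm]

/-- The transitivity input: `Q` fixes `g`-conjugate of a character in the stabilizer. -/
theorem exists_conj_le_of_not_dvd {p : ℕ} [Fact p.Prime] {Q T : Subgroup G} (hQ : IsPGroup p Q)
    (hT : ¬ p ∣ T.index) : ∃ g : G, ∀ y ∈ Q, g⁻¹ * y * g ∈ T := by
  have hcard : ¬ p ∣ Nat.card (G ⧸ T) := by
    rwa [← Subgroup.index_eq_card]
  obtain ⟨x, hx⟩ := hQ.nonempty_fixed_point_of_prime_not_dvd_card (G ⧸ T) hcard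
  obtain ⟨g, rfl⟩ := QuotientGroup.mk_surjective x
  refine ⟨g, fun y hy => ?_⟩
  have h1 := hx ⟨y, hy⟩
  have h2 : ((y * g : G) : G ⧸ T) = (g : G ⧸ T) := h1
  rw [QuotientGroup.eq] at h2
  have h3 := T.inv_mem h2
  simpa [mul_assoc] using h3

/-- Coprime action: a nontrivial invariant character gives a nontrivial fixed element. -/
theorem exists_fixed_of_fixed_char {p : ℕ} [hp : Fact p.Prime] {N Q : Subgroup G} (hN : N.Normal)
    (hcomm : ∀ x ∈ N, ∀ y ∈ N, x * y = y * x) (hQ : IsPGroup p Q) (hNp : ¬ p ∣ Nat.card N)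
    (μ : N →* ℂˣ) (hμ : μ ≠ 1)
    (hinv : ∀ y ∈ Q, ∀ n : N, μ ⟨y * n * y⁻¹, hN.conj_mem n n.2 y⟩ = μ n) :
    ∃ n ∈ N, n ≠ 1 ∧ ∀ y ∈ Q, y * n * y⁻¹ = n := by
  classical
  haveI : N.Normal := hN
  let φ : Q →* MulAut N := (MulAut.conjNormal (H := N)).comp Q.subtype
  have hφ : ∀ (a : Q) (n : N), ((φ a n : N) : G) = a * n * (a : G)⁻¹ := fun a n => rfl
  have hcard := card_fixIrr_eq φ p hQ hNp
  -- two invariant characters
  let θ₀ : IrrCharacter N := ⟨fun _ => (1 : ℂ), isIrrCharacter_one⟩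
  let θ₁ : IrrCharacter N := ⟨fun n => ((μ n : ℂˣ) : ℂ), isIrrCharacter_of_hom μ⟩
  have hθ₀ : ∀ a, irrAut (φ a) θ₀ = θ₀ := fun a => rfl
  have hθ₁ : ∀ a, irrAut (φ a) θ₁ = θ₁ := by
    intro a
    apply Subtype.ext
    funext n
    rw [irrAut_apply]
    show ((μ ((φ a).symm n) : ℂˣ) : ℂ) = ((μ n : ℂˣ) : ℂ)
    congr 1
    have h1 := hinv a a.2 ((φ a).symm n)
    rw [← h1]
    congr 1
    apply Subtype.ext
    have h5 := hφ a ((φ a).symm n)
    rw [MulEquiv.apply_symm_apply] at h5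
    exact h5.symm
  have hne : θ₀ ≠ θ₁ := by
    intro h
    apply hμ
    ext n
    have := congrFun (congrArg Subtype.val h) n
    exact this.symm
  haveI : Finite (ConjClasses N) := Quotient.finite _
  have h2 : 1 < Nat.card (FixCl φ) := by
    rw [← hcard]
    haveI : Nontrivial (FixIrr φ) := ⟨⟨⟨θ₀, hθ₀⟩, ⟨θ₁, hθ₁⟩, fun h => hne (congrArg Subtype.val h)⟩⟩
    exact Finite.one_lt_card
  haveI : Nontrivial (FixCl φ) := Finite.one_lt_card_iff_nontrivial.mp h2
  obtain ⟨C, hC⟩ := exists_ne (⟨ConjClasses.mk 1, fun a => by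
    rw [classAut_mk, map_one]⟩ : FixCl φ)
  obtain ⟨C, hfix⟩ := C
  obtain ⟨n, rfl⟩ := ConjClasses.mk_surjective C
  refine ⟨n, n.2, ?_, ?_⟩
  · intro h
    apply hC
    apply Subtype.ext
    obtain rfl : n = 1 := Subtype.ext h
    rfl
  · intro y hy
    have h3 := hfix ⟨y, hy⟩
    rw [classAut_mk, ConjClasses.mk_eq_mk_iff_isConj] at h3
    obtain ⟨c, hc⟩ := isConj_iff.mp h3
    have h4 : c * φ ⟨y, hy⟩ n * c⁻¹ = φ ⟨y, hy⟩ n := by
      apply Subtype.ext
      simp only [Subgroup.coe_mul, InvMemClass.coe_inv]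
      rw [hcomm c c.2 _ (φ ⟨y, hy⟩ n).2]
      simp
    rw [h4] at hc
    have := congrArg Subtype.val hc
    exact this

end Chars

section Main

variable {G : Type u} [Group G] [Finite G]

/-- Some `2`-element acts nontrivially on `N`. -/
theorem exists_two_element {p r : ℕ} [hp : Fact p.Prime] (hr : r.Prime) (hpr : p ≠ r) (hr2 : r ≠ 2)
    {N W Q : Subgroup G} (hN : N.Normal) (hcomm : ∀ x ∈ N, ∀ y ∈ N, x * y = y * x)
    (hexp : ∀ x ∈ N, x ^ r = 1) (hW : W.Normal) (hQW : Q ≤ W) (hQp : IsPGroup p Q)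
    (hWNQ : ∀ w ∈ W, ∃ n ∈ N, ∃ y ∈ Q, w = n * y) (hNK : N ≤ gen 2 G)
    (hncent : ∃ y ∈ Q, ∃ n ∈ N, y * n ≠ n * y) :
    ∃ t : G, (∃ k : ℕ, t ^ (2 ^ k) = 1) ∧ ∃ n ∈ N, t * n * t⁻¹ ≠ n := by
  by_contra hno
  push Not at hno
  have hKn : gen 2 G ≤ Subgroup.centralizer (N : Set G) := by
    apply (Subgroup.closure_le _).mpr
    intro t ht
    obtain ⟨k, hk⟩ := (pelt_iff Nat.prime_two).mp ht
    show t ∈ Subgroup.centralizer (N : Set G)
    rw [Subgroup.mem_centralizer_iff]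
    intro n hn
    have := hno t ⟨k, hk⟩ n hn
    rw [mul_inv_eq_iff_eq_mul] at this
    exact this.symm
  have hKc : ∀ a ∈ gen 2 G, ∀ n ∈ N, a * n = n * a := by
    intro a ha n hn
    exact ((Subgroup.mem_centralizer_iff.mp (hKn ha)) n hn).symm
  have hKnorm : (gen 2 G).Normal := gen_normal 2
  let T₁ : Subgroup G := Q ⊓ gen 2 G
  have hsplit : ∀ x ∈ W ⊓ gen 2 G, ∃ n ∈ N, ∃ y ∈ T₁, x = n * y := by
    rintro x ⟨hxW, hxK⟩
    obtain ⟨n, hn, y, hy, rfl⟩ := hWNQ x hxW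
    refine ⟨n, hn, y, ⟨hy, ?_⟩, rfl⟩
    have := (gen 2 G).mul_mem ((gen 2 G).inv_mem (hNK hn)) hxK
    simpa using this
  have hT₁n : T₁.Normal := by
    constructor
    intro t ht g
    have hx : g * t * g⁻¹ ∈ W ⊓ gen 2 G :=
      ⟨hW.conj_mem t (hQW ht.1) g, hKnorm.conj_mem t ht.2 g⟩
    obtain ⟨n, hn, y, hy, hxe⟩ := hsplit _ hx
    obtain ⟨k, hk⟩ := IsPGroup.iff_orderOf.mp hQp ⟨t, ht.1⟩
    have hk' : t ^ (p ^ k) = 1 := by
      have := pow_orderOf_eq_one (⟨t, ht.1⟩ : Q)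
      rw [hk] at this
      exact congrArg Subtype.val this
    obtain ⟨l, hl⟩ := IsPGroup.iff_orderOf.mp hQp ⟨y, hy.1⟩
    have hl' : y ^ (p ^ l) = 1 := by
      have := pow_orderOf_eq_one (⟨y, hy.1⟩ : Q)
      rw [hl] at this
      exact congrArg Subtype.val this
    have hc : Commute n y := (hKc y hy.2 n hn).symm
    have hxp : (n * y) ^ (p ^ k) = 1 := by
      rw [← hxe, conj_pow, hk', mul_one, mul_inv_cancel]
    have hn1 := eq_of_commute_pelt hp.out hr hpr hc (hexp n hn) hl' hxp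
    rw [hxe, hn1, one_mul]
    exact hy
  haveI := hT₁n
  let f : G →* G ⧸ T₁ := QuotientGroup.mk' T₁
  have hNT : ∀ n ∈ N, n ∈ T₁ → n = 1 := by
    intro n hn ht
    obtain ⟨l, hl⟩ := IsPGroup.iff_orderOf.mp hQp ⟨n, ht.1⟩
    have hl' : n ^ (p ^ l) = 1 := by
      have := pow_orderOf_eq_one (⟨n, ht.1⟩ : Q)
      rw [hl] at this
      exact congrArg Subtype.val this
    exact eq_one_of_pows hp.out hr hpr (hexp n hn) hl'
  obtain ⟨y, hy, n₀, hn₀, hne⟩ := hncent
  have hcomm2 : ∀ a : G, (∃ k : ℕ, a ^ (2 ^ k) = 1) → f a * f y = f y * f a := by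
    rintro a ⟨k, hk⟩
    have haK : a ∈ gen 2 G := mem_gen Nat.prime_two hk
    have hx : a * y * a⁻¹ * y⁻¹ ∈ W ⊓ gen 2 G := by
      constructor
      · exact W.mul_mem (hW.conj_mem y (hQW hy) a) (W.inv_mem (hQW hy))
      · have h1 := hKnorm.conj_mem a⁻¹ ((gen 2 G).inv_mem haK) y
        have h2 := (gen 2 G).mul_mem haK h1
        have e : a * (y * a⁻¹ * y⁻¹) = a * y * a⁻¹ * y⁻¹ := by group
        rw [e] at h2
        exact h2
    obtain ⟨n, hn, z, hz, hxe⟩ := hsplit _ hx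
    have hfz : f z = 1 := (QuotientGroup.eq_one_iff z).mpr hz
    have hfx : f a * f y * (f a)⁻¹ * (f y)⁻¹ = f n := by
      rw [← map_inv, ← map_inv, ← map_mul, ← map_mul, ← map_mul, hxe, map_mul, hfz, mul_one]
    have hcan : Commute (f a) (f n) := by
      show f a * f n = f n * f a
      rw [← map_mul, ← map_mul, hKc a haK n hn]
    have hstep : f a * f y = f n * f y * f a := by
      have : f a * f y * (f a)⁻¹ = f n * f y := by
        rw [← hfx]
        group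
      rw [← this]
      group
    have hiter : ∀ m : ℕ, (f a) ^ m * f y = (f n) ^ m * f y * (f a) ^ m := by
      intro m
      induction m with
      | zero => simp
      | succ m ih =>
        calc (f a) ^ (m + 1) * f y = (f a) ^ m * (f a * f y) := by rw [pow_succ]; group
          _ = (f a) ^ m * (f n * f y * f a) := by rw [hstep]
          _ = f n * ((f a) ^ m * f y) * f a := by
            have := (hcan.pow_left m).eq
            calc (f a) ^ m * (f n * f y * f a) = ((f a) ^ m * f n) * f y * f a := by group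
              _ = (f n * (f a) ^ m) * f y * f a := by rw [this]
              _ = f n * ((f a) ^ m * f y) * f a := by group
          _ = f n * ((f n) ^ m * f y * (f a) ^ m) * f a := by rw [ih]
          _ = (f n) ^ (m + 1) * f y * (f a) ^ (m + 1) := by
            rw [pow_succ, pow_succ]
            have := (Commute.refl (f n)).pow_left m
            rw [this.eq]
            group
    have hfa : (f a) ^ (2 ^ k) = 1 := by rw [← map_pow, hk, map_one]
    have h3 := hiter (2 ^ k)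
    rw [hfa, one_mul, mul_one] at h3
    have h4 : (f n) ^ (2 ^ k) = 1 := by
      have := mul_right_cancel (b := f y) (a := (f n) ^ (2 ^ k)) (c := 1) (by rw [one_mul]; exact h3.symm)
      exact this
    have h5 : n ^ (2 ^ k) ∈ T₁ := by
      rw [← map_pow] at h4
      exact (QuotientGroup.eq_one_iff _).mp h4
    have h6 : n ^ (2 ^ k) = 1 := hNT _ (N.pow_mem hn _) h5
    have h7 : n = 1 := eq_one_of_pows Nat.prime_two hr (Ne.symm hr2) (hexp n hn) h6
    rw [h7, map_one, one_mul] at hstep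
    exact hstep
  -- the centralizer of `f y` contains `K`
  let C : Subgroup G := (Subgroup.centralizer ({f y} : Set (G ⧸ T₁))).comap f
  have hKC : gen 2 G ≤ C := by
    apply (Subgroup.closure_le _).mpr
    intro a ha
    obtain ⟨k, hk⟩ := (pelt_iff Nat.prime_two).mp ha
    show f a ∈ Subgroup.centralizer ({f y} : Set (G ⧸ T₁))
    rw [Subgroup.mem_centralizer_iff]
    intro e he
    rw [Set.mem_singleton_iff.mp he]
    exact (hcomm2 a ⟨k, hk⟩).symm
  have hn₀C := hKC (hNK hn₀)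
  have h8 : f n₀ * f y = f y * f n₀ := by
    have : f n₀ ∈ Subgroup.centralizer ({f y} : Set (G ⧸ T₁)) := hn₀C
    rw [Subgroup.mem_centralizer_iff] at this
    exact (this (f y) rfl).symm
  have h9 : n₀ * y * n₀⁻¹ * y⁻¹ ∈ T₁ := by
    apply (QuotientGroup.eq_one_iff _).mp
    show f (n₀ * y * n₀⁻¹ * y⁻¹) = 1
    simp only [map_mul, map_inv]
    rw [h8]
    group
  have h10 : n₀ * y * n₀⁻¹ * y⁻¹ ∈ N := by
    have h11 := hN.conj_mem n₀⁻¹ (N.inv_mem hn₀) y
    have h12 := N.mul_mem hn₀ h11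
    have e : n₀ * (y * n₀⁻¹ * y⁻¹) = n₀ * y * n₀⁻¹ * y⁻¹ := by group
    rwa [e] at h12
  have h13 := hNT _ h10 h9
  apply hne
  have h14 : n₀ * y = y * n₀ := by
    have h15 := mul_eq_one_iff_eq_inv.mp h13
    rw [inv_inv] at h15
    have h16 := mul_inv_eq_iff_eq_mul.mp h15
    exact h16
  exact h14.symm

/-- The contradiction case. -/
theorem no_case {p r : ℕ} [hp : Fact p.Prime] (hr : r.Prime) (hpr : p ≠ r)
    {N W : Subgroup G} (hN : N.Normal) (hcomm : ∀ x ∈ N, ∀ y ∈ N, x * y = y * x)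
    (hexp : ∀ x ∈ N, x ^ r = 1) (hmin : ∀ M : Subgroup G, M.Normal → M ≤ N → M = ⊥ ∨ M = N)
    (hW : W.Normal) (P : Sylow p W)
    (hWNQ : ∀ w ∈ W, ∃ n ∈ N, ∃ y ∈ (P : Subgroup W).map W.subtype, w = n * y) (hNK : N ≤ gen 2 G)
    (hncent : ∃ y ∈ (P : Subgroup W).map W.subtype, ∃ n ∈ N, y * n ≠ n * y)
    (hreal : ∀ χ : IrrCharacter G, (∀ g : G, ((χ : G → ℂ) g).im = 0) → ¬ p ∣ charDegree (χ : G → ℂ)) :
    False := by
  classical
  haveI : Fintype G := Fintype.ofFinite G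
  haveI : Fintype N := Fintype.ofFinite N
  set Q : Subgroup G := (P : Subgroup W).map W.subtype with hQdef
  have hQp : IsPGroup p Q := P.isPGroup'.map W.subtype
  have hQW : Q ≤ W := by
    rintro _ ⟨y, -, rfl⟩
    exact y.2
  have hpelt : ∀ y ∈ Q, ∃ k : ℕ, y ^ (p ^ k) = 1 := by
    intro y hy
    obtain ⟨k, hk⟩ := IsPGroup.iff_orderOf.mp hQp ⟨y, hy⟩
    refine ⟨k, ?_⟩
    have := pow_orderOf_eq_one (⟨y, hy⟩ : Q)
    rw [hk] at this
    exact congrArg Subtype.val this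
  have hNQ : ∀ n ∈ N, n ∈ Q → n = 1 := by
    intro n hn ht
    obtain ⟨l, hl⟩ := hpelt n ht
    exact eq_one_of_pows hp.out hr hpr (hexp n hn) hl
  -- the fixed points of `Q` on `N`
  have hC1 : ∀ n ∈ N, (∀ y ∈ Q, y * n * y⁻¹ = n) → n = 1 := by
    let M : Subgroup G := N ⊓ Subgroup.centralizer (Q : Set G)
    have hMn : M.Normal := by
      constructor
      rintro c ⟨hcN, hcC⟩ g
      refine ⟨hN.conj_mem c hcN g, ?_⟩
      have hcC' : c ∈ Subgroup.centralizer (Q : Set G) := hcC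
      show _ ∈ Subgroup.centralizer (Q : Set G)
      rw [Subgroup.mem_centralizer_iff] at hcC' ⊢
      replace hcC := hcC'
      intro y hy
      have hw : g⁻¹ * y * g ∈ W := by
        have := hW.conj_mem y (hQW hy) g⁻¹
        simpa using this
      obtain ⟨n, hn, z, hz, hwe⟩ := hWNQ _ hw
      have h1 : (g⁻¹ * y * g) * c = c * (g⁻¹ * y * g) := by
        rw [hwe, mul_assoc n z c, hcC z hz, ← mul_assoc, hcomm n hn c hcN, mul_assoc]
      have h2 : y = g * (g⁻¹ * y * g) * g⁻¹ := by group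
      calc y * (g * c * g⁻¹) = g * ((g⁻¹ * y * g) * c) * g⁻¹ := by group
        _ = g * (c * (g⁻¹ * y * g)) * g⁻¹ := by rw [h1]
        _ = g * c * g⁻¹ * y := by group
    intro n hn hnQ
    rcases hmin M hMn inf_le_left with h | h
    · have : n ∈ M := by
        refine ⟨hn, ?_⟩
        show _ ∈ Subgroup.centralizer (Q : Set G)
        rw [Subgroup.mem_centralizer_iff]
        intro y hy
        have := hnQ y hy
        rw [mul_inv_eq_iff_eq_mul] at this
        exact this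
      rw [h, Subgroup.mem_bot] at this
      exact this
    · exfalso
      obtain ⟨y, hy, n₁, hn₁, hne⟩ := hncent
      have : n₁ ∈ M := h ▸ hn₁
      have h2 := Subgroup.mem_centralizer_iff.mp this.2 y hy
      exact hne h2
  -- Frattini
  let H : Subgroup G := Subgroup.normalizer (Q : Set G)
  haveI : W.Normal := hW
  have hFr : H ⊔ W = ⊤ := P.normalizer_sup_eq_top
  have hQH : Q ≤ H := Subgroup.le_normalizer
  have hsup : ∀ g : G, ∃ n ∈ N, ∃ h ∈ H, g = n * h := by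
    intro g
    have hg : g ∈ (↑(H ⊔ W) : Set G) := by rw [hFr]; trivial
    rw [Subgroup.mul_normal] at hg
    obtain ⟨h, hh, w, hw, rfl⟩ := Set.mem_mul.mp hg
    obtain ⟨n, hn, y, hy, rfl⟩ := hWNQ w hw
    refine ⟨h * n * h⁻¹, hN.conj_mem n hn h, h * y, H.mul_mem hh (hQH hy), ?_⟩
    group
  have hdisj : N ⊓ H = ⊥ := by
    rw [eq_bot_iff]
    rintro n ⟨hn, hnH⟩
    rw [Subgroup.mem_bot]
    apply hC1 n hn
    intro y hy
    have h1 : n * y * n⁻¹ ∈ Q := (Subgroup.mem_normalizer_iff.mp hnH y).mp hy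
    have h2 : n * y * n⁻¹ * y⁻¹ ∈ Q := Q.mul_mem h1 (Q.inv_mem hy)
    have h3 : n * y * n⁻¹ * y⁻¹ ∈ N := by
      have h11 := hN.conj_mem n⁻¹ (N.inv_mem hn) y
      have h12 := N.mul_mem hn h11
      have e : n * (y * n⁻¹ * y⁻¹) = n * y * n⁻¹ * y⁻¹ := by group
      rwa [e] at h12
    have h4 := hNQ _ h3 h2
    have h5 : n * y * n⁻¹ = y := by
      have := mul_inv_eq_one.mp h4
      exact this
    have h6 : n * y = y * n := mul_inv_eq_iff_eq_mul.mp h5
    calc y * n * y⁻¹ = n * y * y⁻¹ := by rw [h6]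
      _ = n := by group
  have hcommN : IsMulCommutative N := ⟨⟨fun a b => Subtype.ext (hcomm a a.2 b b.2)⟩⟩
  -- the inverted character
  have hlam : ∃ s ∈ H, ∃ lam : N →* ℂˣ, lam ≠ 1 ∧
      ∀ n : N, lam ⟨s * n * s⁻¹, hN.conj_mem n n.2 s⟩ = (lam n)⁻¹ := by
    by_cases hr2 : r = 2
    · subst hr2
      refine ⟨1, H.one_mem, ?_⟩
      apply exists_inverted_two hN hcomm hexp
      intro hbot
      obtain ⟨y, hy, n₁, hn₁, hne⟩ := hncent
      rw [hbot, Subgroup.mem_bot] at hn₁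
      apply hne
      rw [hn₁]
      simp
    · obtain ⟨t, ⟨k, hk⟩, n₁, hn₁, hne⟩ := exists_two_element hr hpr hr2 hN hcomm hexp hW hQW hQp hWNQ hNK hncent
      obtain ⟨n', hn', h, hh, rfl⟩ := hsup t
      have hact : ∀ x ∈ N, (n' * h) * x * (n' * h)⁻¹ = h * x * h⁻¹ := by
        intro x hx
        have h1 := hN.conj_mem x hx h
        calc (n' * h) * x * (n' * h)⁻¹ = n' * (h * x * h⁻¹) * n'⁻¹ := by group
          _ = (h * x * h⁻¹) * n' * n'⁻¹ := by rw [hcomm n' hn' _ h1]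
          _ = h * x * h⁻¹ := by group
      have hiter : ∀ m : ℕ, ∀ x ∈ N, (n' * h) ^ m * x * ((n' * h) ^ m)⁻¹ = h ^ m * x * (h ^ m)⁻¹ := by
        intro m
        induction m with
        | zero => simp
        | succ m ih =>
          intro x hx
          have h1 := hN.conj_mem x hx h
          calc (n' * h) ^ (m + 1) * x * ((n' * h) ^ (m + 1))⁻¹
              = (n' * h) ^ m * ((n' * h) * x * (n' * h)⁻¹) * ((n' * h) ^ m)⁻¹ := by
                rw [pow_succ]; group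
            _ = (n' * h) ^ m * (h * x * h⁻¹) * ((n' * h) ^ m)⁻¹ := by rw [hact x hx]
            _ = h ^ m * (h * x * h⁻¹) * (h ^ m)⁻¹ := ih _ h1
            _ = h ^ (m + 1) * x * (h ^ (m + 1))⁻¹ := by
                rw [pow_succ]; group
      let Pj : ℕ → Prop := fun j => ∀ x ∈ N, h ^ (2 ^ j) * x * (h ^ (2 ^ j))⁻¹ = x
      have hPk : Pj k := by
        intro x hx
        rw [← hiter _ x hx, hk]
        simp
      have hP0 : ¬ Pj 0 := by
        intro h0
        apply hne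
        rw [hact n₁ hn₁]
        have := h0 n₁ hn₁
        simpa using this
      let j := Nat.find (⟨k, hPk⟩ : ∃ j, Pj j)
      have hj : Pj j := Nat.find_spec (⟨k, hPk⟩ : ∃ j, Pj j)
      have hj0 : j ≠ 0 := by
        intro h0
        apply hP0
        rw [← h0]
        exact hj
      obtain ⟨i, hi⟩ := Nat.exists_eq_succ_of_ne_zero hj0
      have hPi : ¬ Pj i := Nat.find_min (⟨k, hPk⟩ : ∃ j, Pj j) (m := i) (by
        show i < j
        omega)
      have hPi' : ∃ x ∈ N, h ^ (2 ^ i) * x * (h ^ (2 ^ i))⁻¹ ≠ x := by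
        by_contra hno
        push Not at hno
        exact hPi hno
      obtain ⟨n₀, hn₀, hne₀⟩ := hPi'
      refine ⟨h ^ (2 ^ i), H.pow_mem hh _, ?_⟩
      refine exists_inverted hN hcomm (s := h ^ (2 ^ i)) ?_ hn₀ hne₀
      intro n hn
      have := hj n hn
      rw [hi, Nat.succ_eq_add_one, pow_succ, pow_mul, sq] at this
      calc h ^ 2 ^ i * (h ^ 2 ^ i * n * (h ^ 2 ^ i)⁻¹) * (h ^ 2 ^ i)⁻¹
          = h ^ 2 ^ i * h ^ 2 ^ i * n * (h ^ 2 ^ i * h ^ 2 ^ i)⁻¹ := by group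
        _ = n := this
  obtain ⟨s, hs, lam, hlam1, hsinv⟩ := hlam
  -- the real character
  obtain ⟨χ, hχreal, hχ1, -⟩ := exists_real_monomial N H hN hcommN hdisj hsup lam hs hsinv
  set T := inertia N hN (fun n => ((lam n : ℂˣ) : ℂ)) with hTdef
  have hdeg : charDegree (χ : G → ℂ) = T.index := by
    unfold charDegree
    rw [hχ1]
    simp
  have hTp : ¬ p ∣ T.index := by
    rw [← hdeg]
    exact hreal χ hχreal
  obtain ⟨g, hg⟩ := exists_conj_le_of_not_dvd hQp hTp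
  -- the conjugated character
  haveI : N.Normal := hN
  let cg : N →* N := (MulAut.conjNormal (H := N) g⁻¹).toMonoidHom
  have hcg : ∀ n : N, ((cg n : N) : G) = g⁻¹ * n * g⁻¹⁻¹ := fun n => rfl
  have hcgbij : Function.Surjective cg := (MulAut.conjNormal (H := N) g⁻¹).surjective
  let μ : N →* ℂˣ := lam.comp cg
  have hμ : μ ≠ 1 := by
    intro h
    apply hlam1
    ext n
    obtain ⟨m, rfl⟩ := hcgbij n
    have := congrArg (fun ν : N →* ℂˣ => ((ν m : ℂˣ) : ℂ)) h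
    exact this
  have hNp : ¬ p ∣ Nat.card N := by
    intro h
    obtain ⟨x, hx⟩ := exists_prime_orderOf_dvd_card' p h
    have h1 : (x : G) ^ r = 1 := hexp x x.2
    have h2 : x ^ r = 1 := Subtype.ext h1
    have h3 := orderOf_dvd_of_pow_eq_one h2
    rw [hx] at h3
    exact hpr ((Nat.prime_dvd_prime_iff_eq hp.out hr).mp h3)
  obtain ⟨n, hn, hn1, hfix⟩ := exists_fixed_of_fixed_char hN hcomm hQp hNp μ hμ (by
    intro y hy n
    have h1 := mem_inertia.mp (hg y hy) (cg n) (cg ⟨y * n * y⁻¹, hN.conj_mem n n.2 y⟩) (by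
      rw [hcg, hcg]
      show g⁻¹ * (y * n * y⁻¹) * g⁻¹⁻¹ = _
      group)
    exact Units.ext h1)
  exact hn1 (hC1 n hn hfix)

/-- The `p`-elements of `U` form a subgroup. -/
def PClosed (p : ℕ) (U : Subgroup G) : Prop :=
  ∃ Q : Subgroup G, Q ≤ U ∧ IsPGroup p Q ∧ ∀ x ∈ U, (∃ k : ℕ, x ^ (p ^ k) = 1) → x ∈ Q

/-- A Sylow subgroup and a normal subgroup of `p`-power index generate. -/
theorem sup_decomp {p : ℕ} [hp : Fact p.Prime] {N W : Subgroup G} (hN : N.Normal) (hNW : N ≤ W)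
    (P : Sylow p W) (hWp : ∀ w ∈ W, ∃ k : ℕ, w ^ (p ^ k) ∈ N) :
    ∀ w ∈ W, ∃ n ∈ N, ∃ y ∈ (P : Subgroup W).map W.subtype, w = n * y := by
  classical
  set Q : Subgroup G := (P : Subgroup W).map W.subtype with hQ
  have hQW : Q ≤ W := by
    rintro _ ⟨y, -, rfl⟩
    exact y.2
  let N' : Subgroup W := N.subgroupOf W
  haveI hN' : N'.Normal := Subgroup.Normal.subgroupOf hN W
  let L' : Subgroup W := (N ⊔ Q).subgroupOf W
  have hQL : (P : Subgroup W) ≤ L' := by
    intro y hy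
    rw [Subgroup.mem_subgroupOf]
    exact (le_sup_right : Q ≤ N ⊔ Q) ⟨y, hy, rfl⟩
  have hNL : N' ≤ L' := by
    intro y hy
    rw [Subgroup.mem_subgroupOf] at hy ⊢
    exact (le_sup_left : N ≤ N ⊔ Q) hy
  have h1 : L'.index ∣ (P : Subgroup W).index := Subgroup.index_dvd_of_le hQL
  have h2 : L'.index ∣ N'.index := Subgroup.index_dvd_of_le hNL
  have h3 : ¬ p ∣ L'.index := fun h => P.not_dvd_index (h.trans h1)
  have hpq : IsPGroup p (W ⧸ N') := by
    intro x
    obtain ⟨w, rfl⟩ := QuotientGroup.mk_surjective x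
    obtain ⟨k, hk⟩ := hWp w w.2
    refine ⟨k, ?_⟩
    rw [← QuotientGroup.mk_pow, QuotientGroup.eq_one_iff, Subgroup.mem_subgroupOf]
    exact hk
  obtain ⟨m, hm⟩ := IsPGroup.iff_card.mp hpq
  have h4 : N'.index = p ^ m := by rw [Subgroup.index_eq_card]; exact hm
  rw [h4] at h2
  obtain ⟨b, -, hb⟩ := (Nat.dvd_prime_pow hp.out).mp h2
  have hb0 : b = 0 := by
    by_contra hne
    apply h3
    rw [hb]
    exact dvd_pow_self p hne
  rw [hb0, pow_zero, Subgroup.index_eq_one] at hb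
  intro w hw
  have hwL : (⟨w, hw⟩ : W) ∈ L' := by rw [hb]; trivial
  rw [Subgroup.mem_subgroupOf] at hwL
  haveI := hN
  have : w ∈ (↑(N ⊔ Q) : Set G) := hwL
  rw [Subgroup.normal_mul] at this
  obtain ⟨n, hn, y, hy, rfl⟩ := Set.mem_mul.mp this
  exact ⟨n, hn, y, hy, rfl⟩

/-- **Core theorem**. -/
theorem core (p : ℕ) [hp : Fact p.Prime] : ∀ (n : ℕ) (G : Type u) [Group G] [Finite G],
    Nat.card G = n → Group.IsSolvable (gen p G) →
    (∀ χ : IrrCharacter G, (∀ g : G, ((χ : G → ℂ) g).im = 0) → ¬ p ∣ charDegree (χ : G → ℂ)) →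
    ∀ U : Subgroup G, U.Normal → gen 2 G ≤ U → (∀ x ∈ U, ∃ k : ℕ, x ^ (p ^ k) ∈ gen 2 G) →
    PClosed p U := by
  intro n
  induction n using Nat.strong_induction_on with
  | _ n ih =>
  intro G _ _ hn hsolv hreal U hU hKU hUp
  classical
  by_cases hA : gen p G = ⊥
  · refine ⟨⊥, bot_le, IsPGroup.of_bot, ?_⟩
    intro x _ ⟨k, hk⟩
    have : x ∈ gen p G := mem_gen hp.out hk
    rwa [hA] at this
  obtain ⟨N, hNA, hNmin⟩ := Cfsg.Agent.Lib.MinNormalPrim.exists_minNormal_le (gen p G) (gen_normal p) hA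
  obtain ⟨hN, hN1, hmin⟩ := id hNmin
  -- `N` is abelian
  have hNsolv : Group.IsSolvable N := by
    have := Cfsg.Agent.Lib.Coprime.isSolvable_of_le (H := N) (K := gen p G) hNA
    exact this
  have hcomm : ∀ x ∈ N, ∀ y ∈ N, x * y = y * x := by
    have h1 := Cfsg.Agent.Lib.Coprime.commutator_lt_of_solvable hNsolv hN1
    haveI := hN
    have h2 : (⁅N, N⁆).Normal := Subgroup.commutator_normal N N
    have h3 := (hmin _ h2 h1.le).resolve_right h1.ne
    intro x hx y hy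
    have h4 := Subgroup.commutator_mem_commutator hx hy
    rw [h3, Subgroup.mem_bot, commutatorElement_eq_one_iff_mul_comm] at h4
    exact h4
  obtain ⟨r, hr, hexp⟩ := hNmin.exists_prime_pow_eq_one hcomm
  -- pass to the quotient
  haveI : N.Normal := hN
  let f : G →* G ⧸ N := QuotientGroup.mk' N
  have hf : Function.Surjective f := QuotientGroup.mk'_surjective N
  have hcard : Nat.card (G ⧸ N) < n := by
    rw [← hn]
    exact Cfsg.Agent.Lib.Coprime.card_quotient_lt hN1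
  have hsolv' : Group.IsSolvable (gen p (G ⧸ N)) := by
    rw [← map_gen f hf]
    haveI := hsolv
    exact Cfsg.Agent.Lib.Coprime.isSolvable_map f (gen p G)
  have hreal' : ∀ χ : IrrCharacter (G ⧸ N), (∀ g : G ⧸ N, ((χ : G ⧸ N → ℂ) g).im = 0) →
      ¬ p ∣ charDegree (χ : G ⧸ N → ℂ) := by
    intro χ hχ
    let χ' : IrrCharacter G := ⟨fun g => (χ : G ⧸ N → ℂ) (f g),
      isIrrCharacter_comp_of_surjective f hf χ.2⟩
    have h1 := hreal χ' (fun g => hχ (f g))
    have h2 : charDegree (χ' : G → ℂ) = charDegree (χ : G ⧸ N → ℂ) := by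
      unfold charDegree
      show ⌊((χ : G ⧸ N → ℂ) (f 1)).re⌋₊ = _
      rw [map_one]
    rwa [h2] at h1
  have hU' : (U.map f).Normal := Subgroup.Normal.map hU f hf
  have hKU' : gen 2 (G ⧸ N) ≤ U.map f := by
    haveI : Fact (Nat.Prime 2) := ⟨Nat.prime_two⟩
    rw [← map_gen f hf]
    exact Subgroup.map_mono hKU
  have hUp' : ∀ x ∈ U.map f, ∃ k : ℕ, x ^ (p ^ k) ∈ gen 2 (G ⧸ N) := by
    rintro _ ⟨u, hu, rfl⟩
    obtain ⟨k, hk⟩ := hUp u hu
    refine ⟨k, ?_⟩
    haveI : Fact (Nat.Prime 2) := ⟨Nat.prime_two⟩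
    rw [← map_gen f hf, ← map_pow]
    exact ⟨_, hk, rfl⟩
  obtain ⟨Qb, hQbU, hQbp, hQball⟩ := ih _ hcard (G ⧸ N) rfl hsolv' hreal' (U.map f) hU' hKU' hUp'
  have hQbpelt : ∀ y ∈ Qb, ∃ k : ℕ, y ^ (p ^ k) = 1 := by
    intro y hy
    obtain ⟨k, hk⟩ := IsPGroup.iff_orderOf.mp hQbp ⟨y, hy⟩
    refine ⟨k, ?_⟩
    have := pow_orderOf_eq_one (⟨y, hy⟩ : Qb)
    rw [hk] at this
    exact congrArg Subtype.val this
  let W : Subgroup G := Qb.comap f
  have hNW : N ≤ W := by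
    intro x hx
    show f x ∈ Qb
    have h0 : f x = 1 := (QuotientGroup.eq_one_iff x).mpr hx
    rw [h0]
    exact Qb.one_mem
  have hWn : W.Normal := by
    constructor
    intro w hw g
    show f (g * w * g⁻¹) ∈ Qb
    have h1 : f w ∈ Qb := hw
    obtain ⟨k, hk⟩ := hQbpelt _ h1
    apply hQball
    · rw [map_mul, map_mul, map_inv]
      exact hU'.conj_mem _ (hQbU h1) _
    · refine ⟨k, ?_⟩
      rw [map_mul, map_mul, map_inv, conj_pow, hk, mul_one, mul_inv_cancel]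
  have hWp : ∀ w ∈ W, ∃ k : ℕ, w ^ (p ^ k) ∈ N := by
    intro w hw
    obtain ⟨k, hk⟩ := hQbpelt _ hw
    refine ⟨k, ?_⟩
    rw [← map_pow] at hk
    exact (QuotientGroup.eq_one_iff _).mp hk
  have hPW : ∀ x ∈ U, (∃ k : ℕ, x ^ (p ^ k) = 1) → x ∈ W := by
    rintro x hx ⟨k, hk⟩
    apply hQball
    · exact ⟨x, hx, rfl⟩
    · exact ⟨k, by rw [← map_pow, hk, map_one]⟩
  by_cases hrp : p = r
  · -- `W` is a `p`-group
    subst hrp
    refine ⟨W ⊓ U, inf_le_right, ?_, fun x hx hk => ⟨hPW x hx hk, hx⟩⟩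
    intro w
    obtain ⟨k, hk⟩ := hWp w w.2.1
    refine ⟨k + 1, ?_⟩
    apply Subtype.ext
    show (w : G) ^ (p ^ (k + 1)) = 1
    rw [pow_succ, pow_mul]
    exact hexp _ hk
  -- `N` meets `U` trivially or lies in `U`
  rcases hmin (N ⊓ U) (by haveI := hN; haveI := hU; exact Subgroup.normal_inf_normal N U) inf_le_left with hNU | hNU
  · refine ⟨W ⊓ U, inf_le_right, ?_, fun x hx hk => ⟨hPW x hx hk, hx⟩⟩
    intro w
    obtain ⟨k, hk⟩ := hWp w w.2.1
    refine ⟨k, ?_⟩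
    apply Subtype.ext
    have h1 : (w : G) ^ (p ^ k) ∈ N ⊓ U := ⟨hk, U.pow_mem w.2.2 _⟩
    rw [hNU, Subgroup.mem_bot] at h1
    exact h1
  have hNleU : N ≤ U := by
    rw [← hNU]
    exact inf_le_right
  have hWU : W ≤ U := by
    intro w hw
    have h1 : f w ∈ U.map f := hQbU hw
    obtain ⟨u, hu, hue⟩ := h1
    have h2 : u⁻¹ * w ∈ N := by
      apply (QuotientGroup.eq_one_iff _).mp
      show f (u⁻¹ * w) = 1
      rw [map_mul, map_inv, hue]
      simp
    have h3 := U.mul_mem hu (hNleU h2)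
    simpa using h3
  obtain ⟨P⟩ : Nonempty (Sylow p W) := inferInstance
  have hWNQ := sup_decomp hN hNW P hWp
  set Q : Subgroup G := (P : Subgroup W).map W.subtype with hQdef
  have hQW : Q ≤ W := by
    rintro _ ⟨y, -, rfl⟩
    exact y.2
  have hQp : IsPGroup p Q := P.isPGroup'.map W.subtype
  have hpelt : ∀ y ∈ Q, ∃ k : ℕ, y ^ (p ^ k) = 1 := by
    intro y hy
    obtain ⟨k, hk⟩ := IsPGroup.iff_orderOf.mp hQp ⟨y, hy⟩
    refine ⟨k, ?_⟩
    have := pow_orderOf_eq_one (⟨y, hy⟩ : Q)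
    rw [hk] at this
    exact congrArg Subtype.val this
  by_cases hcent : ∃ y ∈ Q, ∃ n ∈ N, y * n ≠ n * y
  · exfalso
    have hNK : N ≤ gen 2 G := by
      rcases hmin (N ⊓ gen 2 G) (by haveI := hN; haveI := gen_normal (G := G) 2; exact Subgroup.normal_inf_normal N (gen 2 G)) inf_le_left with h | h
      · exfalso
        apply hN1
        rw [eq_bot_iff]
        intro x hx
        obtain ⟨k, hk⟩ := hUp x (hNleU hx)
        have h1 : x ^ (p ^ k) ∈ N ⊓ gen 2 G := ⟨N.pow_mem hx _, hk⟩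
        rw [h, Subgroup.mem_bot] at h1
        exact eq_one_of_pows hp.out hr hrp (hexp x hx) h1
      · rw [← h]
        exact inf_le_right
    exact no_case hr hrp hN hcomm hexp hmin hWn P hWNQ hNK hcent hreal
  · push Not at hcent
    refine ⟨Q, hQW.trans hWU, hQp, ?_⟩
    intro x hx ⟨k, hk⟩
    obtain ⟨n₀, hn₀, y, hy, rfl⟩ := hWNQ x (hPW x hx ⟨k, hk⟩)
    obtain ⟨l, hl⟩ := hpelt y hy
    have hc : Commute n₀ y := (hcent y hy n₀ hn₀).symm
    have := eq_of_commute_pelt hp.out hr hrp hc (hexp n₀ hn₀) hl hk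
    rw [this, one_mul]
    exact hy

end Main

/-- Under `core`'s hypotheses the Sylow `p`-subgroups of `U` are normal in `U`. -/
theorem sylow_normal (p : ℕ) [hp : Fact p.Prime] {G : Type u} [Group G] [Finite G]
    (hsolv : Group.IsSolvable (gen p G))
    (hreal : ∀ χ : IrrCharacter G, (∀ g : G, ((χ : G → ℂ) g).im = 0) → ¬ p ∣ charDegree (χ : G → ℂ))
    (U : Subgroup G) (hU : U.Normal) (hKU : gen 2 G ≤ U)
    (hUp : ∀ x ∈ U, ∃ k : ℕ, x ^ (p ^ k) ∈ gen 2 G) (Q : Sylow p U) :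
    (Q : Subgroup U).Normal := by
  classical
  obtain ⟨R, hRU, hRp, hRall⟩ := core p (Nat.card G) G rfl hsolv hreal U hU hKU hUp
  have hRp' : IsPGroup p (R.subgroupOf U) := by
    intro x
    obtain ⟨k, hk⟩ := hRp ⟨(x : U), x.2⟩
    refine ⟨k, ?_⟩
    apply Subtype.ext
    apply Subtype.ext
    have := congrArg Subtype.val hk
    simpa using this
  have hle : (Q : Subgroup U) ≤ R.subgroupOf U := by
    intro x hx
    rw [Subgroup.mem_subgroupOf]
    apply hRall _ x.2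
    obtain ⟨k, hk⟩ := Q.isPGroup' ⟨x, hx⟩
    refine ⟨k, ?_⟩
    have := congrArg (fun y : Q => ((y : U) : G)) hk
    simpa using this
  have heq : R.subgroupOf U = (Q : Subgroup U) := Q.is_maximal' hRp' hle
  rw [← heq]
  constructor
  intro x hx u
  rw [Subgroup.mem_subgroupOf] at hx ⊢
  have hxp : ∃ k : ℕ, (x : G) ^ (p ^ k) = 1 := by
    obtain ⟨k, hk⟩ := hRp ⟨(x : G), hx⟩
    refine ⟨k, ?_⟩
    have := congrArg Subtype.val hk
    simpa using this
  obtain ⟨k, hk⟩ := hxp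
  apply hRall _ (u * x * u⁻¹).2
  refine ⟨k, ?_⟩
  have h1 : ((u * x * u⁻¹ : U) : G) = (u : G) * (x : G) * (u : G)⁻¹ := by simp
  rw [h1, conj_pow, hk, mul_one, mul_inv_cancel]

end Cfsg.Agent.Lib.RealCore
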