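import Mathlib
import Cfsg.Agent.Lib.CharAutP
import Cfsg.Agent.Lib.CharClifford
import Cfsg.Agent.Lib.Gagola2
import Cfsg.Agent.Lib.RealCore

/-!
# Orbits of real classes of a normal subgroup of odd index and order prime to `p`

If `K` is a normal subgroup of odd index and order prime to `p` of `H` and all real irreducible
characters of `H` have degree prime to `p`, every real element of `K` is conjugate in `H` to an element
centralized by a Sylow `p`-subgroup of `H`.
-/

set_option autoImplicit false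
set_option linter.unusedSectionVars false
set_option linter.unusedVariables false
set_option linter.style.haveILetI false

namespace Cfsg.Agent.Lib.RealOrbit

open Cfsg Cfsg.Agent.Lib.CharBasic Cfsg.Agent.Lib.CharInd Cfsg.Agent.Lib.CharInduction
open Cfsg.Agent.Lib.RealChars Cfsg.Agent.Lib.CharAut Cfsg.Agent.Lib.CharAutP Cfsg.Agent.Lib.CharTable
open scoped ComplexConjugate

universe u v

section Count

variable {N : Type u} [Group N] [Finite N] {A : Type u} [Group A] [Finite A]
  {K : Type v} [Group K] [Finite K]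

/-- The group `N` acts on the invariant characters of a normal subgroup `A`. -/
theorem irrAut_fix (ψ : N →* MulAut K) (ι : A →* N)
    (hnorm : ∀ (n : N) (a : A), ∃ a' : A, n * ι a * n⁻¹ = ι a') (g : N) (θ : FixIrr (ψ.comp ι)) (a : A) :
    irrAut ((ψ.comp ι) a) (irrAut (ψ g) θ.1) = irrAut (ψ g) θ.1 := by
  obtain ⟨a', ha'⟩ := hnorm g⁻¹ a
  have h1 : ι a * g = g * ι a' := by
    rw [← ha']
    group
  have h2 := θ.2 a'
  rw [MonoidHom.comp_apply, ← irrAut_mul, ← map_mul, h1, map_mul, irrAut_mul]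
  congr 1

theorem classAut_fix (ψ : N →* MulAut K) (ι : A →* N)
    (hnorm : ∀ (n : N) (a : A), ∃ a' : A, n * ι a * n⁻¹ = ι a') (g : N) (C : FixCl (ψ.comp ι)) (a : A) :
    classAut ((ψ.comp ι) a) (classAut (ψ g) C.1) = classAut (ψ g) C.1 := by
  obtain ⟨a', ha'⟩ := hnorm g⁻¹ a
  have h1 : ι a * g = g * ι a' := by
    rw [← ha']
    group
  have h2 := C.2 a'
  rw [MonoidHom.comp_apply, ← classAut_mul, ← map_mul, h1, map_mul, classAut_mul]
  congr 1

/-- The number of orbits of `N` on real characters and real classes invariant under the normal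
`p`-subgroup `A` are the same. -/
theorem card_quot_fix_real_eq (ψ : N →* MulAut K) (ι : A →* N)
    (hnorm : ∀ (n : N) (a : A), ∃ a' : A, n * ι a * n⁻¹ = ι a')
    (p : ℕ) [hp : Fact p.Prime] (hA : IsPGroup p A) (hK : ¬ p ∣ Nat.card K)
    (o : ℕ) (ho : Odd o) (htriv : ∀ a : N, ∃ k : K, ψ (a ^ o) = MulAut.conj k) :
    Nat.card (Quot fun θ η : {θ : FixIrr (ψ.comp ι) // conjIrr θ.1 = θ.1} =>
        ∃ g, irrAut (ψ g) θ.1.1 = η.1.1) =
      Nat.card (Quot fun C D : {C : FixCl (ψ.comp ι) // classInv C.1 = C.1} =>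
        ∃ g, classAut (ψ g) C.1.1 = D.1.1) := by
  classical
  haveI : Fintype K := Fintype.ofFinite K
  haveI : Finite (ConjClasses K) := Quotient.finite _
  haveI : Fintype (FixIrr (ψ.comp ι)) := Fintype.ofFinite _
  haveI : Fintype (FixCl (ψ.comp ι)) := Fintype.ofFinite _
  obtain ⟨Y, h1, h2⟩ := exists_fix_table_inv (ψ.comp ι) p hA hK
  -- the moves
  let mX : N → FixIrr (ψ.comp ι) → FixIrr (ψ.comp ι) :=
    fun g θ => ⟨irrAut (ψ g) θ.1, irrAut_fix ψ ι hnorm g θ⟩
  let mY : N → FixCl (ψ.comp ι) → FixCl (ψ.comp ι) :=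
    fun g C => ⟨classAut (ψ g) C.1, classAut_fix ψ ι hnorm g C⟩
  let cX : FixIrr (ψ.comp ι) → FixIrr (ψ.comp ι) :=
    fun θ => ⟨conjIrr θ.1, fun a => by rw [irrAut_conjIrr, θ.2 a]⟩
  let cY : FixCl (ψ.comp ι) → FixCl (ψ.comp ι) :=
    fun C => ⟨classInv C.1, fun a => by rw [classAut_classInv, C.2 a]⟩
  let aX : N → {θ : FixIrr (ψ.comp ι) // conjIrr θ.1 = θ.1} → {θ : FixIrr (ψ.comp ι) // conjIrr θ.1 = θ.1} :=
    fun g θ => ⟨mX g θ.1, by
      show conjIrr (irrAut (ψ g) θ.1.1) = irrAut (ψ g) θ.1.1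
      rw [← irrAut_conjIrr, θ.2]⟩
  let aY : N → {C : FixCl (ψ.comp ι) // classInv C.1 = C.1} → {C : FixCl (ψ.comp ι) // classInv C.1 = C.1} :=
    fun g C => ⟨mY g C.1, by
      show classInv (classAut (ψ g) C.1.1) = classAut (ψ g) C.1.1
      rw [← classAut_classInv, C.2]⟩
  have hX := sum_card_fixed aX (fun z => Subtype.ext (Subtype.ext (by
    show irrAut (ψ 1) z.1.1 = z.1.1
    rw [map_one, irrAut_one]))) (fun g h z => Subtype.ext (Subtype.ext (by
    show irrAut (ψ (g * h)) z.1.1 = irrAut (ψ g) (irrAut (ψ h) z.1.1)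
    rw [map_mul, irrAut_mul])))
  have hY := sum_card_fixed aY (fun z => Subtype.ext (Subtype.ext (by
    show classAut (ψ 1) z.1.1 = z.1.1
    rw [map_one, classAut_one]))) (fun g h z => Subtype.ext (Subtype.ext (by
    show classAut (ψ (g * h)) z.1.1 = classAut (ψ g) (classAut (ψ h) z.1.1)
    rw [map_mul, classAut_mul])))
  have hrelX : (fun θ η : {θ : FixIrr (ψ.comp ι) // conjIrr θ.1 = θ.1} =>
      ∃ g, irrAut (ψ g) θ.1.1 = η.1.1) = fun z w => ∃ g, aX g z = w := by
    funext z w
    apply propext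
    constructor
    · rintro ⟨g, hg⟩
      exact ⟨g, Subtype.ext (Subtype.ext hg)⟩
    · rintro ⟨g, hg⟩
      exact ⟨g, congrArg (fun t => t.1.1) hg⟩
  have hrelY : (fun C D : {C : FixCl (ψ.comp ι) // classInv C.1 = C.1} =>
      ∃ g, classAut (ψ g) C.1.1 = D.1.1) = fun z w => ∃ g, aY g z = w := by
    funext z w
    apply propext
    constructor
    · rintro ⟨g, hg⟩
      exact ⟨g, Subtype.ext (Subtype.ext hg)⟩
    · rintro ⟨g, hg⟩
      exact ⟨g, congrArg (fun t => t.1.1) hg⟩
  rw [hrelX, hrelY]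
  -- key facts
  have keyX : ∀ (g : N) (z : IrrCharacter K), irrAut (ψ g) (conjIrr z) = z → conjIrr z = z := by
    intro g z hz
    refine eq_of_twist_fixed (fun g θ => irrAut (ψ g) θ) ?_ ?_ conjIrr conjIrr_conjIrr ?_ o ho ?_ hz
    · intro z
      simp [irrAut_one]
    · intro g h z
      simp [irrAut_mul]
    · intro g z
      exact irrAut_conjIrr _ _
    · intro g z
      obtain ⟨k, hk⟩ := htriv g
      simp only [hk, irrAut_conj]
  have keyY : ∀ (g : N) (z : ConjClasses K), classAut (ψ g) (classInv z) = z → classInv z = z := by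
    intro g z hz
    refine eq_of_twist_fixed (fun g θ => classAut (ψ g) θ) ?_ ?_ classInv classInv_classInv ?_ o ho ?_ hz
    · intro z
      simp [classAut_one]
    · intro g h z
      simp [classAut_mul]
    · intro g z
      exact classAut_classInv _ _
    · intro g z
      obtain ⟨k, hk⟩ := htriv g
      simp only [hk, classAut_conj]
  have hfixX : ∀ g : N, Nat.card {z // aX g z = z} =
      (Finset.univ.filter fun θ : FixIrr (ψ.comp ι) => mX g (cX θ) = θ).card := by
    intro g
    rw [Nat.card_eq_fintype_card, ← Fintype.card_subtype]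
    apply Fintype.card_congr
    refine ⟨fun z => ⟨z.1.1, ?_⟩, fun z => ⟨⟨z.1, ?_⟩, ?_⟩, ?_, ?_⟩
    · apply Subtype.ext
      show irrAut (ψ g) (conjIrr z.1.1.1) = z.1.1.1
      rw [z.1.2]
      exact congrArg (fun t => t.1.1) z.2
    · exact keyX g z.1.1 (congrArg Subtype.val z.2)
    · apply Subtype.ext
      apply Subtype.ext
      have h3 : irrAut (ψ g) (conjIrr z.1.1) = z.1.1 := congrArg Subtype.val z.2
      rw [keyX g z.1.1 h3] at h3
      exact h3
    · intro z; rfl
    · intro z; rfl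
  have hfixY : ∀ g : N, Nat.card {z // aY g z = z} =
      (Finset.univ.filter fun C : FixCl (ψ.comp ι) => mY g (cY C) = C).card := by
    intro g
    rw [Nat.card_eq_fintype_card, ← Fintype.card_subtype]
    apply Fintype.card_congr
    refine ⟨fun z => ⟨z.1.1, ?_⟩, fun z => ⟨⟨z.1, ?_⟩, ?_⟩, ?_, ?_⟩
    · apply Subtype.ext
      show classAut (ψ g) (classInv z.1.1.1) = z.1.1.1
      rw [z.1.2]
      exact congrArg (fun t => t.1.1) z.2
    · exact keyY g z.1.1 (congrArg Subtype.val z.2)
    · apply Subtype.ext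
      apply Subtype.ext
      have h3 : classAut (ψ g) (classInv z.1.1) = z.1.1 := congrArg Subtype.val z.2
      rw [keyY g z.1.1 h3] at h3
      exact h3
    · intro z; rfl
    · intro z; rfl
  have hinvY : ∀ g : N, Nat.card {z // aY g z = z} = Nat.card {z // aY g⁻¹ z = z} := by
    intro g
    apply Nat.card_congr
    refine Equiv.subtypeEquivRight fun z => ?_
    constructor
    · intro h
      apply Subtype.ext
      apply Subtype.ext
      have h3 : classAut (ψ g) z.1.1 = z.1.1 := congrArg (fun t => t.1.1) h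
      show classAut (ψ g⁻¹) z.1.1 = z.1.1
      conv_lhs => rw [← h3]
      rw [← classAut_mul, ← map_mul, inv_mul_cancel, map_one, classAut_one]
    · intro h
      apply Subtype.ext
      apply Subtype.ext
      have h3 : classAut (ψ g⁻¹) z.1.1 = z.1.1 := congrArg (fun t => t.1.1) h
      show classAut (ψ g) z.1.1 = z.1.1
      conv_lhs => rw [← h3]
      rw [← classAut_mul, ← map_mul, mul_inv_cancel, map_one, classAut_one]
  have hsum : ∀ g : N, Nat.card {z // aX g z = z} = Nat.card {z // aY g z = z} := by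
    intro g
    rw [hinvY, hfixX, hfixY]
    apply card_fixed_eq _ Y h1 h2
    intro θ C
    show (irrAut (ψ g) (conjIrr θ.1) : K → ℂ) (Quotient.out C.1) =
      (θ.1 : K → ℂ) (Quotient.out (classAut (ψ g⁻¹) (classInv C.1)))
    rw [irrAut_apply]
    show conj ((θ.1 : K → ℂ) ((ψ g).symm (Quotient.out C.1))) = _
    rw [char_conj_eq_inv (IsIrrCharacter.isCharacter θ.1.2)]
    apply char_eq_of_isConj (IsIrrCharacter.isCharacter θ.1.2)
    rw [← ConjClasses.mk_eq_mk_iff_isConj]
    have h3 : ConjClasses.mk (Quotient.out (classAut (ψ g⁻¹) (classInv C.1))) =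
        classAut (ψ g⁻¹) (classInv C.1) := Quotient.out_eq _
    rw [h3]
    conv_rhs => rw [← show ConjClasses.mk (Quotient.out C.1) = C.1 from Quotient.out_eq _]
    rw [classInv_mk, classAut_mk, map_inv, ConjClasses.mk_eq_mk_iff_isConj]
    rw [map_inv]
    exact IsConj.refl _
  have hNne : 0 < Nat.card N := Nat.card_pos
  have h3 : Nat.card (Quot fun z w => ∃ g, aX g z = w) * Nat.card N =
      Nat.card (Quot fun z w => ∃ g, aY g z = w) * Nat.card N := by
    rw [← hX, ← hY]
    exact finsum_congr hsum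
  exact Nat.eq_of_mul_eq_mul_right hNne h3

end Count

section Main

variable {H : Type u} [Group H] [Finite H]

/-- A real irreducible character of a normal subgroup of odd index lies under a real irreducible
character. -/
theorem exists_real_over (K : Subgroup H) [hK : K.Normal] [Fintype H] [Fintype K] (hodd : Odd K.index)
    (θ : IrrCharacter K) (hθ : conjIrr θ = θ) :
    ∃ χ : IrrCharacter H, conjIrr χ = χ ∧ classInner (fun n : K => (χ : H → ℂ) n) (θ : K → ℂ) ≠ 0 := by
  classical
  have hθc := IsIrrCharacter.isCharacter θ.2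
  set Θ := indFun K (θ : K → ℂ) with hΘdef
  have hΘ : IsCharacter H Θ := indFun_isCharacter K hθc
  obtain ⟨m, hm⟩ := exists_nat_decomp hΘ
  have hmval : ∀ χ : IrrCharacter H, classInner Θ (χ : H → ℂ) = m χ := by
    intro χ
    have := classInner_nat_decomp m (χ : H → ℂ) χ.2
    rw [← hm] at this
    exact this
  have hfro : ∀ χ : IrrCharacter H, classInner (θ : K → ℂ) (fun n : K => (χ : H → ℂ) n) = m χ := by
    intro χ
    rw [← frobenius K _ (isClassFunction_of_isCharacter (IsIrrCharacter.isCharacter χ.2))]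
    exact hmval χ
  have hres : ∀ χ : IrrCharacter H, classInner (fun n : K => (χ : H → ℂ) n) (θ : K → ℂ) = m χ := by
    intro χ
    rw [← classInner_conj_symm, hfro, Complex.conj_natCast]
  have hθf : ∀ n : K, conj ((θ : K → ℂ) n) = (θ : K → ℂ) n := fun n =>
    congrFun (congrArg Subtype.val hθ) n
  have hconj : ∀ χ : IrrCharacter H, m (conjIrr χ) = m χ := by
    intro χ
    have h1 : classInner (θ : K → ℂ) (fun n : K => (conjIrr χ : H → ℂ) n) =
        conj (classInner (θ : K → ℂ) (fun n : K => (χ : H → ℂ) n)) := by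
      unfold classInner
      rw [map_mul, map_sum, map_inv₀, Complex.conj_natCast]
      congr 1
      refine Finset.sum_congr rfl fun n _ => ?_
      rw [map_mul, hθf]
      rfl
    rw [hfro, hfro, Complex.conj_natCast] at h1
    exact_mod_cast h1
  -- the norm
  have hnorm : (Nat.card K : ℂ) * classInner Θ Θ = Nat.card {g : H // conjBy K hK g (θ : K → ℂ) = (θ : K → ℂ)} :=
    natCard_mul_classInner_indFun_self K hK (θ : K → ℂ) θ.2
  have hsq : classInner Θ Θ = ((∑ χ : IrrCharacter H, m χ * m χ : ℕ) : ℂ) := by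
    conv_lhs => rw [hm]
    rw [classInner_sum_left]
    push_cast
    refine Finset.sum_congr rfl fun χ _ => ?_
    rw [← Nat.cast_smul_eq_nsmul ℂ, classInner_smul_left, ← classInner_conj_symm, ← hm, hmval,
      Complex.conj_natCast]
  have hcardT : Nat.card K * (∑ χ : IrrCharacter H, m χ * m χ) =
      Nat.card (Cfsg.Agent.Lib.Gagola2.inertia K hK (θ : K → ℂ)) := by
    have h1 : Nat.card (Cfsg.Agent.Lib.Gagola2.inertia K hK (θ : K → ℂ)) =
        Nat.card {g : H // conjBy K hK g (θ : K → ℂ) = (θ : K → ℂ)} := rfl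
    rw [h1]
    rw [hsq] at hnorm
    exact_mod_cast hnorm
  have hodd2 : Odd (∑ χ : IrrCharacter H, m χ * m χ) := by
    set T := Cfsg.Agent.Lib.Gagola2.inertia K hK (θ : K → ℂ) with hT
    have h1 : Nat.card T * T.index = Nat.card H := Subgroup.card_mul_index T
    have h2 : Nat.card K * K.index = Nat.card H := Subgroup.card_mul_index K
    rw [← hcardT, ← h2, mul_assoc] at h1
    have h3 := Nat.eq_of_mul_eq_mul_left Nat.card_pos h1
    rw [← h3] at hodd
    exact (Nat.odd_mul.mp hodd).1
  by_contra hno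
  push Not at hno
  have hzero : ∀ χ : IrrCharacter H, conjIrr χ = χ → m χ = 0 := by
    intro χ hχ
    have := hno χ hχ
    rw [hres] at this
    exact_mod_cast this
  have hsum0 : ∑ χ : IrrCharacter H, ((m χ * m χ : ℕ) : ZMod 2) = 0 := by
    apply Finset.sum_involution (fun χ _ => conjIrr χ)
    · intro χ _
      rw [hconj, ← two_mul]
      have : (2 : ZMod 2) = 0 := rfl
      rw [this, zero_mul]
    · intro χ _ hne heq
      apply hne
      rw [hzero χ heq]
      simp
    · intro χ _
      exact conjIrr_conjIrr χ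
    · intro χ _
      exact Finset.mem_univ _
  have h5 : ((∑ χ : IrrCharacter H, m χ * m χ : ℕ) : ZMod 2) = 0 := by
    rw [Nat.cast_sum]
    exact hsum0
  rw [ZMod.natCast_eq_zero_iff] at h5
  exact (Nat.not_even_iff_odd.mpr hodd2) (even_iff_two_dvd.mpr h5)

/-- The conjugation action of `H` on the normal subgroup `K`. -/
noncomputable abbrev act (K : Subgroup H) [K.Normal] : H →* MulAut K := MulAut.conjNormal

theorem act_apply (K : Subgroup H) [K.Normal] (g : H) (k : K) : ((act K g k : K) : H) = g * k * g⁻¹ :=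
  MulAut.conjNormal_apply g k

theorem conjBy_eq_irrAut (K : Subgroup H) [hK : K.Normal] (g : H) (θ : IrrCharacter K) :
    conjBy K hK g (θ : K → ℂ) = (irrAut (act K g⁻¹) θ : K → ℂ) := by
  funext n
  rw [irrAut_apply, conjBy_apply]
  have h1 : (act K g⁻¹).symm n = act K g n := by
    rw [map_inv]
    rfl
  rw [h1]
  congr 1

/-- A real character of `K` has a conjugate fixed by any `p`-subgroup `P`. -/
theorem exists_fixed_conj {p : ℕ} [hp : Fact p.Prime] (K : Subgroup H) [hK : K.Normal]
    (hodd : Odd K.index) (P : Subgroup H) (hP : IsPGroup p P)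
    (hreal : ∀ χ : IrrCharacter H, conjIrr χ = χ → ¬ p ∣ charDegree (χ : H → ℂ))
    (θ : IrrCharacter K) (hθ : conjIrr θ = θ) :
    ∃ g : H, ∀ u : P, irrAut (act K u) (irrAut (act K g) θ) = irrAut (act K g) θ := by
  classical
  haveI : Fintype H := Fintype.ofFinite H
  haveI : Fintype K := Fintype.ofFinite K
  obtain ⟨χ, hχr, hχθ⟩ := exists_real_over K hodd θ hθ
  have hp' := hreal χ hχr
  have hχc := IsIrrCharacter.isCharacter χ.2
  have hcl := isClassFunction_of_isCharacter hχc
  obtain ⟨m, hm⟩ := exists_nat_decomp (isCharacter_restrict K hχc)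
  have hmval : ∀ η : IrrCharacter K, classInner (fun n : K => (χ : H → ℂ) n) (η : K → ℂ) = m η := by
    intro η
    have := classInner_nat_decomp m (η : K → ℂ) η.2
    rw [← hm] at this
    exact this
  -- degree
  have hdeg : charDegree (χ : H → ℂ) = ∑ η : IrrCharacter K, m η * charDegree (η : K → ℂ) := by
    have h1 := congrFun hm 1
    simp only [Finset.sum_apply, Pi.smul_apply, OneMemClass.coe_one] at h1
    simp only [nsmul_eq_mul] at h1
    have h2 : ((charDegree (χ : H → ℂ) : ℕ) : ℂ) =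
        ((∑ η : IrrCharacter K, m η * charDegree (η : K → ℂ) : ℕ) : ℂ) := by
      rw [← Cfsg.Agent.Lib.CharKernel.one_eq_charDegree hχc, h1]
      push_cast
      refine Finset.sum_congr rfl fun η _ => ?_
      rw [Cfsg.Agent.Lib.CharKernel.one_eq_charDegree (IsIrrCharacter.isCharacter η.2)]
    exact_mod_cast h2
  -- invariance
  have hinv : ∀ (u : P) (η : IrrCharacter K), m (irrAut (act K u) η) = m η := by
    intro u η
    have h1 := hmval (irrAut (act K u) η)
    have h2 : (irrAut (act K u) η : K → ℂ) = conjBy K hK (u : H)⁻¹ (η : K → ℂ) := by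
      rw [conjBy_eq_irrAut, inv_inv]
    rw [h2, Cfsg.Agent.Lib.CharClifford.classInner_restrict_conjBy K hK _ hcl, hmval] at h1
    exact_mod_cast h1.symm
  have hinvdeg : ∀ (u : P) (η : IrrCharacter K), charDegree (irrAut (act K u) η : K → ℂ) = charDegree (η : K → ℂ) := by
    intro u η
    unfold charDegree
    rw [irrAut_apply, map_one]
  let φ : P →* MulAut K := (act K).comp P.subtype
  haveI : Fintype {z // ∀ g : P, irrAut (φ g) z = z} := Fintype.ofFinite _
  have hS := sum_eq_sum_fixed (S := ZMod p) p hP (by simp) (fun (u : P) (z : IrrCharacter K) => irrAut (φ u) z)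
    (fun z => by simp [irrAut_one]) (fun g h z => by simp [irrAut_mul])
    (fun η => ((m η * charDegree (η : K → ℂ) : ℕ) : ZMod p))
    (fun g z => by
      show ((m (irrAut (act K g) z) * charDegree (irrAut (act K g) z : K → ℂ) : ℕ) : ZMod p) = _
      rw [hinv, hinvdeg])
  have hne : (∑ η : IrrCharacter K, ((m η * charDegree (η : K → ℂ) : ℕ) : ZMod p)) ≠ 0 := by
    rw [← Nat.cast_sum, ← hdeg, Ne, ZMod.natCast_eq_zero_iff]
    exact hp'
  rw [hS] at hne
  obtain ⟨z, -, hz⟩ := Finset.exists_ne_zero_of_sum_ne_zero hne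
  have hmz : m z.1 ≠ 0 := by
    intro h0
    apply hz
    simp [h0]
  obtain ⟨g, hg⟩ := Cfsg.Agent.Lib.CharClifford.exists_conj_of_constituents K hK χ.2 θ.2 z.1.2 hχθ
    (by rw [hmval]; exact_mod_cast hmz)
  refine ⟨g⁻¹, fun u => ?_⟩
  have h1 : irrAut (act K g⁻¹) θ = z.1 := by
    apply Subtype.ext
    rw [← conjBy_eq_irrAut, hg]
  rw [h1]
  exact z.2 u

/-- Sylow conjugation inside a subgroup. -/
theorem exists_mem_normalizer {p : ℕ} [hp : Fact p.Prime] (P : Sylow p H) (S : Subgroup H)
    (hPS : (P : Subgroup H) ≤ S) (h : H) (hh : ∀ u ∈ (P : Subgroup H), h * u * h⁻¹ ∈ S) :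
    ∃ s ∈ S, s * h ∈ Subgroup.normalizer ((P : Subgroup H) : Set H) := by
  classical
  have h2 : ((h • P : Sylow p H) : Subgroup H) ≤ S := by
    intro y hy
    obtain ⟨z, hz, rfl⟩ := hy
    exact hh z hz
  obtain ⟨s, hs⟩ := MulAction.exists_smul_eq S ((h • P).subtype h2) (P.subtype hPS)
  simp_rw [Sylow.smul_subtype, Subgroup.smul_def, smul_smul] at hs
  exact ⟨s, s.2, Sylow.smul_eq_iff_mem_normalizer.mp (Sylow.subtype_injective hs)⟩

/-- The stabilizer of a class. -/
def classStab (K : Subgroup H) [K.Normal] (C : ConjClasses K) : Subgroup H where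
  carrier := {s | classAut (act K s) C = C}
  mul_mem' := by
    intro a b ha hb
    show classAut (act K (a * b)) C = C
    rw [map_mul, classAut_mul, show classAut (act K b) C = C from hb, show classAut (act K a) C = C from ha]
  one_mem' := by
    show classAut (act K 1) C = C
    rw [map_one, classAut_one]
  inv_mem' := by
    intro a ha
    show classAut (act K a⁻¹) C = C
    have ha' : classAut (act K a) C = C := ha
    conv_lhs => rw [← ha']
    rw [← classAut_mul, ← map_mul, inv_mul_cancel, map_one, classAut_one]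

/-- **Real classes have a fixed conjugate.** -/
theorem main_fixed_class {p : ℕ} [hp : Fact p.Prime] (K : Subgroup H) [hK : K.Normal]
    (hodd : Odd K.index) (hpK : ¬ p ∣ Nat.card K) (P : Sylow p H)
    (hreal : ∀ χ : IrrCharacter H, conjIrr χ = χ → ¬ p ∣ charDegree (χ : H → ℂ))
    (C : ConjClasses K) (hC : classInv C = C) :
    ∃ g : H, ∀ u ∈ (P : Subgroup H), classAut (act K u) (classAut (act K g) C) = classAut (act K g) C := by
  classical
  haveI : Finite (ConjClasses K) := Quotient.finite _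
  let N : Subgroup H := Subgroup.normalizer ((P : Subgroup H) : Set H)
  let ψ : N →* MulAut K := (act K).comp N.subtype
  let ι : (P : Subgroup H) →* N := Subgroup.inclusion Subgroup.le_normalizer
  have hnorm : ∀ (n : N) (a : (P : Subgroup H)), ∃ a' : (P : Subgroup H), n * ι a * n⁻¹ = ι a' := by
    intro n a
    refine ⟨⟨(n : H) * a * (n : H)⁻¹, (Subgroup.mem_normalizer_iff.mp n.2 _).mp a.2⟩, ?_⟩
    apply Subtype.ext
    rfl
  have htrivH : ∀ a : H, ∃ k : K, act K (a ^ K.index) = MulAut.conj k := by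
    intro a
    refine ⟨⟨a ^ K.index, Subgroup.pow_index_mem K a⟩, ?_⟩
    ext n
    rw [act_apply]
    rfl
  have htrivN : ∀ a : N, ∃ k : K, ψ (a ^ K.index) = MulAut.conj k := by
    intro a
    obtain ⟨k, hk⟩ := htrivH a
    refine ⟨k, ?_⟩
    rw [← hk]
    show act K ((a ^ K.index : N) : H) = _
    rw [Subgroup.coe_pow]
  have hXY := card_quot_real_eq (act K) K.index hodd htrivH
  have hN := card_quot_fix_real_eq ψ ι hnorm p P.isPGroup' hpK K.index hodd htrivN
  -- the map on characters
  let iY : (Quot fun θ η : {θ : FixIrr (ψ.comp ι) // conjIrr θ.1 = θ.1} => ∃ g, irrAut (ψ g) θ.1.1 = η.1.1) →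
      (Quot fun θ η : {θ : IrrCharacter K // conjIrr θ = θ} => ∃ g, irrAut (act K g) θ.1 = η.1) :=
    Quot.lift (fun z => Quot.mk _ ⟨z.1.1, z.2⟩) (fun z w ⟨g, hg⟩ => Quot.sound ⟨(g : H), hg⟩)
  have hiY : Function.Surjective iY := by
    intro q
    obtain ⟨θ, rfl⟩ := Quot.exists_rep q
    obtain ⟨g, hg⟩ := exists_fixed_conj K hodd (P : Subgroup H) P.isPGroup' hreal θ.1 θ.2
    let z : {θ : FixIrr (ψ.comp ι) // conjIrr θ.1 = θ.1} :=
      ⟨⟨irrAut (act K g) θ.1, fun a => hg a⟩, by
        show conjIrr (irrAut (act K g) θ.1) = irrAut (act K g) θ.1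
        rw [← irrAut_conjIrr, θ.2]⟩
    refine ⟨Quot.mk _ z, ?_⟩
    show Quot.mk _ ⟨irrAut (act K g) θ.1, z.2⟩ = Quot.mk _ θ
    apply Quot.sound
    refine ⟨g⁻¹, ?_⟩
    show irrAut (act K g⁻¹) (irrAut (act K g) θ.1) = θ.1
    rw [← irrAut_mul, ← map_mul, inv_mul_cancel, map_one, irrAut_one]
  -- the map on classes
  let iX : (Quot fun C D : {C : FixCl (ψ.comp ι) // classInv C.1 = C.1} => ∃ g, classAut (ψ g) C.1.1 = D.1.1) →
      (Quot fun C D : {C : ConjClasses K // classInv C = C} => ∃ g, classAut (act K g) C.1 = D.1) :=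
    Quot.lift (fun z => Quot.mk _ ⟨z.1.1, z.2⟩) (fun z w ⟨g, hg⟩ => Quot.sound ⟨(g : H), hg⟩)
  have hequiv : Equivalence (fun C D : {C : ConjClasses K // classInv C = C} => ∃ g, classAut (act K g) C.1 = D.1) := by
    refine ⟨fun z => ⟨1, by rw [map_one, classAut_one]⟩, ?_, ?_⟩
    · rintro z w ⟨g, hg⟩
      refine ⟨g⁻¹, ?_⟩
      rw [← hg, ← classAut_mul, ← map_mul, inv_mul_cancel, map_one, classAut_one]
    · rintro z w v ⟨g, hg⟩ ⟨h, hh⟩
      refine ⟨h * g, ?_⟩
      rw [map_mul, classAut_mul, hg, hh]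
  have hiX : Function.Injective iX := by
    intro a b hab
    obtain ⟨z, rfl⟩ := Quot.exists_rep a
    obtain ⟨w, rfl⟩ := Quot.exists_rep b
    have h1 : Quot.mk (fun C D : {C : ConjClasses K // classInv C = C} => ∃ g, classAut (act K g) C.1 = D.1) ⟨z.1.1, z.2⟩ =
      Quot.mk _ ⟨w.1.1, w.2⟩ := hab
    obtain ⟨h, hh⟩ := (hequiv.eqvGen_iff).mp (Quot.eqvGen_exact h1)
    have hh' : classAut (act K h) z.1.1 = w.1.1 := hh
    have hzfix : ∀ u ∈ (P : Subgroup H), classAut (act K u) z.1.1 = z.1.1 := fun u hu => z.1.2 ⟨u, hu⟩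
    have hwfix : ∀ u ∈ (P : Subgroup H), classAut (act K u) w.1.1 = w.1.1 := fun u hu => w.1.2 ⟨u, hu⟩
    obtain ⟨s, hs, hsn⟩ := exists_mem_normalizer P (classStab K w.1.1) (fun u hu => hwfix u hu) h (by
      intro u hu
      show classAut (act K (h * u * h⁻¹)) w.1.1 = w.1.1
      rw [← hh', ← classAut_mul, ← map_mul, mul_assoc, mul_assoc, inv_mul_cancel, mul_one, map_mul,
        classAut_mul, hzfix u hu])
    apply Quot.sound
    refine ⟨⟨s * h, hsn⟩, ?_⟩
    show classAut (act K (s * h)) z.1.1 = w.1.1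
    rw [map_mul, classAut_mul, hh']
    exact hs
  have hcardle : Nat.card (Quot fun C D : {C : ConjClasses K // classInv C = C} => ∃ g, classAut (act K g) C.1 = D.1) ≤
      Nat.card (Quot fun C D : {C : FixCl (ψ.comp ι) // classInv C.1 = C.1} => ∃ g, classAut (ψ g) C.1.1 = D.1.1) := by
    rw [← hXY, ← hN]
    exact Nat.card_le_card_of_surjective iY hiY
  have hbij := hiX.bijective_of_nat_card_le hcardle
  obtain ⟨q, hq⟩ := hbij.2 (Quot.mk _ ⟨C, hC⟩)
  obtain ⟨z, rfl⟩ := Quot.exists_rep q
  have h1 : Quot.mk (fun C D : {C : ConjClasses K // classInv C = C} => ∃ g, classAut (act K g) C.1 = D.1) ⟨z.1.1, z.2⟩ =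
      Quot.mk _ ⟨C, hC⟩ := hq
  obtain ⟨g, hg⟩ := (hequiv.eqvGen_iff).mp (Quot.eqvGen_exact h1.symm)
  have hg' : classAut (act K g) C = z.1.1 := hg
  refine ⟨g, fun u hu => ?_⟩
  rw [hg']
  exact z.1.2 ⟨u, hu⟩

/-- **The element version.** -/
theorem exists_centralized {p : ℕ} [hp : Fact p.Prime] (K : Subgroup H) [hK : K.Normal]
    (hodd : Odd K.index) (hpK : ¬ p ∣ Nat.card K) (P : Sylow p H)
    (hreal : ∀ χ : IrrCharacter H, conjIrr χ = χ → ¬ p ∣ charDegree (χ : H → ℂ))
    (x : K) (hx : IsConj x x⁻¹) :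
    ∃ g : H, ∀ u ∈ (P : Subgroup H), u * (g * x * g⁻¹) * u⁻¹ = g * x * g⁻¹ := by
  classical
  haveI : Fintype K := Fintype.ofFinite K
  obtain ⟨g, hg⟩ := main_fixed_class K hodd hpK P hreal (ConjClasses.mk x) (by
    rw [classInv_mk, ConjClasses.mk_eq_mk_iff_isConj]
    exact hx.symm)
  set y : K := act K g x with hy
  have hg' : ∀ u ∈ (P : Subgroup H), IsConj (act K u y) y := by
    intro u hu
    have := hg u hu
    rw [classAut_mk, classAut_mk, ConjClasses.mk_eq_mk_iff_isConj] at this
    exact this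
  let Ω := {k : K // IsConj k y}
  letI act' : MulAction (P : Subgroup H) Ω :=
    { smul := fun u k => ⟨act K (u : H) k.1, by
        have h1 := hg' u u.2
        refine IsConj.trans ?_ h1
        obtain ⟨c, hc⟩ := isConj_iff.mp k.2
        refine isConj_iff.mpr ⟨act K (u : H) c, ?_⟩
        have h5 : act K (u : H) (c * k.1 * c⁻¹) = act K (u : H) y := by rw [hc]
        simpa only [map_mul, map_inv] using h5⟩
      one_smul := fun k => by
        apply Subtype.ext
        show act K ((1 : (P : Subgroup H)) : H) k.1 = k.1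
        simp
      mul_smul := fun a b k => by
        apply Subtype.ext
        show act K ((a * b : (P : Subgroup H)) : H) k.1 = act K (a : H) (act K (b : H) k.1)
        simp [map_mul] }
  have hcard : ¬ p ∣ Nat.card Ω := by
    intro hdvd
    apply hpK
    have h1 : Nat.card Ω = (MulAction.stabilizer (ConjAct K) y).index := by
      rw [MulAction.index_stabilizer, ← Nat.card_coe_set_eq]
      apply Nat.card_congr
      exact Equiv.subtypeEquivRight fun k => ConjAct.mem_orbit_conjAct.symm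
    have h2 : Nat.card (ConjAct K) = Nat.card K := Nat.card_congr ConjAct.toConjAct.symm.toEquiv
    rw [h1] at hdvd
    rw [← h2]
    exact hdvd.trans (Subgroup.index_dvd_card _)
  obtain ⟨z, hz⟩ := P.isPGroup'.nonempty_fixed_point_of_prime_not_dvd_card Ω hcard
  obtain ⟨c, hc⟩ := isConj_iff.mp z.2
  refine ⟨(c : H)⁻¹ * g, fun u hu => ?_⟩
  have h1 : act K u z.1 = z.1 := congrArg Subtype.val (hz ⟨u, hu⟩)
  have h2 := congrArg Subtype.val h1
  rw [act_apply] at h2
  have hyc : (y : H) = g * x * g⁻¹ := act_apply K g x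
  have hc' : (c : H) * (z.1 : H) * (c : H)⁻¹ = (y : H) := by
    simpa using congrArg Subtype.val hc
  have h3 : (z.1 : H) = (c : H)⁻¹ * g * x * ((c : H)⁻¹ * g)⁻¹ := by
    calc (z.1 : H) = (c : H)⁻¹ * ((c : H) * (z.1 : H) * (c : H)⁻¹) * (c : H) := by group
      _ = (c : H)⁻¹ * (g * x * g⁻¹) * (c : H) := by rw [hc', hyc]
      _ = _ := by group
  rw [← h3]
  exact h2

end Main

end Cfsg.Agent.Lib.RealOrbit
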