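import Mathlib
import Cfsg.Agent.Lib.RealExt
import Cfsg.Agent.Lib.RealOrbit
import Cfsg.Agent.Lib.GlaubSyl7
import Cfsg.Agent.Lib.H73Hom

/-!
# Real characters over real characters of a normal subgroup of odd index

A real invariant irreducible character of a normal subgroup of odd index has a real extension,
whatever its Frobenius-Schur indicator is; there is exactly one real irreducible character over a
real irreducible character of a normal subgroup of odd index, and its degree is the index of the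
stabilizer times the degree.
-/

set_option autoImplicit false
set_option linter.unusedSectionVars false
set_option linter.unusedVariables false
set_option linter.style.haveILetI false

namespace Cfsg.Agent.Lib.RealOdd

open Cfsg Cfsg.Agent.Lib.CharBasic Cfsg.Agent.Lib.FSForm Cfsg.Agent.Lib.RealExt Cfsg.Agent.Lib.FrobeniusSchur
open Cfsg.Agent.Lib.CharInd Cfsg.Agent.Lib.CharInduction Cfsg.Agent.Lib.RealChars Cfsg.Agent.Lib.CharAut
open Cfsg.Agent.Lib.RealOrbit Cfsg.Agent.Lib.Clifford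
open scoped ComplexConjugate Matrix

universe u

/-- A nonzero invariant bilinear form for a real representation. -/
theorem exists_form {Γ : Type u} [Group Γ] [Fintype Γ] {n : Type*} [Fintype n] [DecidableEq n]
    (A : Γ →* Matrix n n ℂ)
    (h1 : (Nat.card Γ : ℂ)⁻¹ * ∑ g : Γ, (A g).trace ^ 2 = 1) :
    ∃ X : Matrix n n ℂ, X ≠ 0 ∧ ∀ g, A g * X * (A g)ᵀ = X := by
  classical
  set P := avgA A with hP
  have htr : LinearMap.trace ℂ _ P = 1 := by rw [hP, trace_avgA, h1]
  have hne : P ≠ 0 := by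
    intro h
    rw [h, map_zero] at htr
    exact zero_ne_one htr
  obtain ⟨Y, hY⟩ : ∃ Y, P Y ≠ 0 := by
    by_contra hc
    push Not at hc
    exact hne (LinearMap.ext hc)
  refine ⟨P Y, hY, fun g => ?_⟩
  have h3 := LinearMap.congr_fun (sand_comp_avgA A g) Y
  exact h3

section Ext

variable {T : Type u} [Group T] (N : Subgroup T) [hN : N.Normal] {k : ℕ}

/-- **Real extension** of a real invariant irreducible character through an odd index. -/
theorem exists_real_ext [Fintype T] [Fintype N] (hodd : Odd N.index) {φ : N → ℂ}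
    (hφ : IsIrrCharacter N φ) (hreal : ∀ n, (φ n).im = 0)
    (hinv : ∀ (t : T) (n : N), φ (MulAut.conjNormal t n) = φ n) :
    ∃ ψ : T → ℂ, IsIrrCharacter T ψ ∧ (∀ n : N, ψ n = φ n) ∧ (∀ t, (ψ t).im = 0) := by
  classical
  obtain ⟨k, ρ, hρ, rfl⟩ := hφ
  set A := matOfRep ρ with hA
  have htr : ∀ n, (A n).trace = ρ.character n := trace_matOfRep ρ
  have h1 : (Nat.card N : ℂ)⁻¹ * ∑ n : N, (A n).trace ^ 2 = 1 := by
    have h2 := classInner_irr_self (isIrrCharacter_of_rep ρ hρ)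
    unfold classInner at h2
    rw [← h2]
    congr 1
    refine Finset.sum_congr rfl fun n _ => ?_
    rw [htr, sq]
    congr 1
    exact (Complex.conj_eq_iff_im.mpr (hreal n)).symm
  obtain ⟨X, hX0, hXinv⟩ := exists_form A h1
  have hXu : IsUnit X := isUnit_of_form hρ hX0 hXinv
  obtain ⟨x, hx⟩ := hXu
  have hXW : X * ((x⁻¹ : (Matrix (Fin k) (Fin k) ℂ)ˣ) : Matrix (Fin k) (Fin k) ℂ) = 1 := by
    rw [← hx, Units.mul_inv]
  have hWX : ((x⁻¹ : (Matrix (Fin k) (Fin k) ℂ)ˣ) : Matrix (Fin k) (Fin k) ℂ) * X = 1 := by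
    rw [← hx, Units.inv_mul]
  let E := EE N ρ X
  let π : E →* T := (MonoidHom.fst T _).comp E.subtype
  have hinvρ : ∀ (t : T) (n : N), ρ.character (MulAut.conjNormal t n) = ρ.character n := hinv
  have hπ : Function.Surjective π := by
    intro t
    obtain ⟨U, hU1, hU2⟩ := exists_form_intertwiner N hρ hinvρ ⟨x, hx⟩ hX0 hXinv t
    exact ⟨⟨(t, U), hU1, hU2⟩, rfl⟩
  let j : N →* E := ((N.subtype).prod A.toHomUnits).codRestrict E (by
    intro n
    refine ⟨?_, ?_⟩
    · intro m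
      show A n * A m = A (MulAut.conjNormal (n : T) m) * A n
      rw [← map_mul, ← map_mul]
      congr 1
      apply Subtype.ext
      simp [MulAut.conjNormal_apply]
    · exact hXinv n)
  have hj : ∀ n, π (j n) = n := fun n => rfl
  have hjval : ∀ n : N, (((j n : E) : T × (Matrix (Fin k) (Fin k) ℂ)ˣ).2 : Matrix (Fin k) (Fin k) ℂ) = A n := fun n => rfl
  have hjn : j.range.Normal := by
    constructor
    rintro _ ⟨n, rfl⟩ ⟨⟨t, U⟩, hU⟩
    refine ⟨MulAut.conjNormal t n, ?_⟩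
    apply Subtype.ext
    apply Prod.ext
    · show (((MulAut.conjNormal t n : N)) : T) = t * n * t⁻¹
      rw [MulAut.conjNormal_apply]
    · apply Units.ext
      show A (MulAut.conjNormal t n) = (U : Matrix (Fin k) (Fin k) ℂ) * A n * ((U⁻¹ : (Matrix (Fin k) (Fin k) ℂ)ˣ) : Matrix (Fin k) (Fin k) ℂ)
      rw [hU.1 n, Matrix.mul_assoc, Units.mul_inv, Matrix.mul_one]
  let z : E := ⟨(1, -1), by
    refine ⟨?_, ?_⟩
    · intro n
      simp
    · simp⟩
  have hzk : π z = 1 := rfl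
  have hz : ∀ e, π e = 1 → e = 1 ∨ e = z := by
    rintro ⟨⟨t, U⟩, hU⟩ ht
    have ht' : t = 1 := ht
    subst ht'
    obtain ⟨c, hc⟩ := mat_schur hρ (U : Matrix (Fin k) (Fin k) ℂ) (by
      intro g
      have := hU.1 g
      simpa using this)
    have hform := hU.2
    simp only [hc] at hform
    rw [Matrix.transpose_smul, Matrix.transpose_one, Matrix.smul_mul, Matrix.one_mul, Matrix.mul_smul,
      Matrix.mul_one, smul_smul] at hform
    have hcc : c * c = 1 := by
      have h3 : (c * c - 1) • X = 0 := by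
        rw [sub_smul, hform, one_smul, sub_self]
      exact sub_eq_zero.mp ((smul_eq_zero.mp h3).resolve_right hX0)
    have hc2 : (c - 1) * (c + 1) = 0 := by linear_combination hcc
    rcases mul_eq_zero.mp hc2 with h3 | h3
    · left
      have h4 : c = 1 := sub_eq_zero.mp h3
      apply Subtype.ext
      apply Prod.ext
      · rfl
      · apply Units.ext
        show (U : Matrix (Fin k) (Fin k) ℂ) = 1
        rw [hc, h4, one_smul]
    · right
      have h4 : c = -1 := eq_neg_of_add_eq_zero_left h3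
      apply Subtype.ext
      apply Prod.ext
      · rfl
      · apply Units.ext
        show (U : Matrix (Fin k) (Fin k) ℂ) = -1
        rw [hc, h4, neg_smul, one_smul]
  have hz1 : z ≠ 1 := by
    intro h
    have h3 : (-1 : (Matrix (Fin k) (Fin k) ℂ)ˣ) = 1 := by
      have := congrArg (fun e : E => ((e : T × (Matrix (Fin k) (Fin k) ℂ)ˣ)).2) h
      exact this
    have h4 : (-1 : Matrix (Fin k) (Fin k) ℂ) = 1 := by
      have := congrArg (fun u : (Matrix (Fin k) (Fin k) ℂ)ˣ => (u : Matrix (Fin k) (Fin k) ℂ)) h3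
      simpa using this
    apply hX0
    have h5 : (2 : ℂ) • X = 0 := by
      have h6 : (-1 : Matrix (Fin k) (Fin k) ℂ) * X = 1 * X := by rw [h4]
      rw [neg_mul, one_mul] at h6
      rw [two_smul]
      nth_rewrite 1 [← h6]
      simp
    exact (smul_eq_zero.mp h5).resolve_left two_ne_zero
  choose u hu using hπ
  haveI hEfin : Finite E := by
    apply Finite.of_surjective (fun p : T × Bool => u p.1 * (if p.2 then z else 1))
    intro e
    have h3 : π ((u (π e))⁻¹ * e) = 1 := by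
      rw [map_mul, map_inv, hu]
      simp
    rcases hz _ h3 with h4 | h4
    · refine ⟨(π e, false), ?_⟩
      simp only [if_false, Bool.false_eq_true, mul_one]
      exact (inv_mul_eq_one.mp h4)
    · refine ⟨(π e, true), ?_⟩
      simp only [if_true]
      rw [← h4]
      group
  haveI : Finite T := Finite.of_fintype T
  obtain ⟨σ, hσ1, hσ2⟩ := exists_section π (fun t => ⟨u t, hu t⟩) N hodd j hj hjn z hzk hz hz1
  let Â : T →* Matrix (Fin k) (Fin k) ℂ :=
    (Units.coeHom _).comp ((MonoidHom.snd T _).comp (E.subtype.comp σ))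
  have hÂN : ∀ n : N, Â n = A n := by
    intro n
    show (((σ n : E) : T × (Matrix (Fin k) (Fin k) ℂ)ˣ).2 : Matrix (Fin k) (Fin k) ℂ) = A n
    rw [hσ2 n]
    exact hjval n
  have hÂX : ∀ t, Â t * X * (Â t)ᵀ = X := fun t => (σ t).2.2
  have hψc : IsCharacter T (fun t => (Â t).trace) := by
    refine ⟨k, repOfMat Â, ?_⟩
    funext t
    exact character_repOfMat Â t
  have hψirr : IsIrrCharacter T (fun t => (Â t).trace) := by
    refine ⟨k, repOfMat Â, ?_, funext (character_repOfMat Â)⟩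
    rw [isIrreducible_iff] at hρ ⊢
    refine ⟨hρ.1, fun U hU => hρ.2 U fun n v hv => ?_⟩
    have h3 := hU n v hv
    rw [repOfMat_apply, hÂN, matOfRep_mulVec] at h3
    exact h3
  have hψreal : ∀ t, ((Â t).trace).im = 0 := by
    intro t
    rw [← Complex.conj_eq_iff_im]
    have h3 : conj (Â t).trace = (Â t⁻¹).trace := char_conj_eq_inv hψc t
    rw [h3]
    have h4 : Â t⁻¹ * Â t = 1 := by
      rw [← map_mul]
      simp
    have h5 : X * (Â t)ᵀ = Â t⁻¹ * X := by
      conv_rhs => rw [← hÂX t]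
      simp only [← Matrix.mul_assoc]
      rw [h4, Matrix.one_mul]
    have h6 : (Â t)ᵀ = ((x⁻¹ : (Matrix (Fin k) (Fin k) ℂ)ˣ) : Matrix (Fin k) (Fin k) ℂ) * (Â t⁻¹ * X) := by
      rw [← h5, ← Matrix.mul_assoc, hWX, Matrix.one_mul]
    rw [← Matrix.trace_transpose (Â t), h6, Matrix.trace_mul_comm, Matrix.mul_assoc, hXW, Matrix.mul_one]
  refine ⟨fun t => (Â t).trace, hψirr, ?_, hψreal⟩
  intro n
  show (Â n).trace = ρ.character n
  rw [hÂN, htr]


end Ext

section Odd

attribute [local instance] Fintype.ofFinite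

variable {H : Type u} [Group H] [Finite H] (L : Subgroup H) [hL : L.Normal]

/-- `θ` is a constituent of the restriction of `χ`. -/
def Over (χ : IrrCharacter H) (θ : IrrCharacter L) : Prop :=
  classInner (fun n : L => (χ : H → ℂ) n) (θ : L → ℂ) ≠ 0

omit hL in
theorem exists_over (χ : IrrCharacter H) : ∃ θ : IrrCharacter L, Over L χ θ := by
  have hχc := IsIrrCharacter.isCharacter χ.2
  obtain ⟨m, hm⟩ := exists_nat_decomp (isCharacter_restrict L hχc)
  have hmval : ∀ η : IrrCharacter L, classInner (fun n : L => (χ : H → ℂ) n) (η : L → ℂ) = m η := by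
    intro η
    have := classInner_nat_decomp m (η : L → ℂ) η.2
    rw [← hm] at this
    exact this
  by_contra hno
  push Not at hno
  have hzero : ∀ η, m η = 0 := by
    intro η
    have h1 : ¬ Over L χ η := hno η
    unfold Over at h1
    rw [not_not, hmval] at h1
    exact_mod_cast h1
  have h1 := congrFun hm 1
  simp only [hzero, zero_smul, Finset.sum_const_zero, OneMemClass.coe_one] at h1
  exact irr_degree_ne_zero χ.2 h1

theorem conjBy_act (g : H) (θ : IrrCharacter L) :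
    (irrAut (act L g) θ : L → ℂ) = conjBy L hL g⁻¹ (θ : L → ℂ) := by
  rw [conjBy_eq_irrAut, inv_inv]

theorem over_irrAut {χ : IrrCharacter H} {θ : IrrCharacter L} (h : Over L χ θ) (g : H) :
    Over L χ (irrAut (act L g) θ) := by
  unfold Over at h ⊢
  rw [conjBy_act, Cfsg.Agent.Lib.CharClifford.classInner_restrict_conjBy L hL _
    (isClassFunction_of_isCharacter (IsIrrCharacter.isCharacter χ.2))]
  exact h

theorem exists_conj_of_over {χ : IrrCharacter H} {θ η : IrrCharacter L} (h1 : Over L χ θ)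
    (h2 : Over L χ η) : ∃ g : H, irrAut (act L g) θ = η := by
  obtain ⟨g, hg⟩ := Cfsg.Agent.Lib.CharClifford.exists_conj_of_constituents L hL χ.2 θ.2 η.2 h1 h2
  refine ⟨g⁻¹, Subtype.ext ?_⟩
  rw [conjBy_act, inv_inv, hg]

theorem over_conjIrr {χ : IrrCharacter H} {θ : IrrCharacter L} (hχ : conjIrr χ = χ)
    (h : Over L χ θ) : Over L χ (conjIrr θ) := by
  unfold Over at h ⊢
  have h1 : (fun n : L => (χ : H → ℂ) n) = fun n : L => conj ((χ : H → ℂ) n) := by
    funext n
    have := congrFun (congrArg Subtype.val hχ) (n : H)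
    exact this.symm
  intro h0
  apply h
  have h2 := classInner_conj_conj (fun n : L => (χ : H → ℂ) n) (θ : L → ℂ)
  have h3 : classInner (fun n : L => conj ((χ : H → ℂ) n)) (conjIrr θ : L → ℂ) =
      classInner (θ : L → ℂ) (fun n : L => (χ : H → ℂ) n) := h2
  rw [← h1, h0] at h3
  rw [← classInner_conj_symm, ← h3, map_zero]

theorem act_pow_index (a : H) (θ : IrrCharacter L) : irrAut (act L (a ^ L.index)) θ = θ := by
  have h1 : act L (a ^ L.index) = MulAut.conj (⟨a ^ L.index, Subgroup.pow_index_mem L a⟩ : L) := by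
    ext n
    rw [act_apply]
    rfl
  rw [h1, irrAut_conj]

/-- All constituents of the restriction of a real character to a normal subgroup of odd index are
real. -/
theorem conjIrr_of_over (hodd : Odd L.index) {χ : IrrCharacter H} {θ : IrrCharacter L}
    (hχ : conjIrr χ = χ) (h : Over L χ θ) : conjIrr θ = θ := by
  obtain ⟨g, hg⟩ := exists_conj_of_over L (over_conjIrr L hχ h) h
  exact eq_of_twist_fixed (fun g θ => irrAut (act L g) θ) (fun z => by simp [irrAut_one])
    (fun g h z => by simp [irrAut_mul]) conjIrr conjIrr_conjIrr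
    (fun g z => irrAut_conjIrr _ _) L.index hodd (fun g z => act_pow_index L g z) hg

/-- A real element lies in a normal subgroup of odd index, and it is real there. -/
theorem real_mem (hodd : Odd L.index) {x : H} (hx : IsConj x x⁻¹) :
    ∃ hxL : x ∈ L, IsConj (⟨x, hxL⟩ : L) (⟨x, hxL⟩ : L)⁻¹ := by
  obtain ⟨c, hc⟩ := isConj_iff.mp hx
  obtain ⟨a, m, hm, ham⟩ := Nat.exists_eq_two_pow_mul_odd (orderOf_pos c).ne'
  have hcsq : ∀ j : ℕ, c ^ (2 * j) * x * (c ^ (2 * j))⁻¹ = x := by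
    intro j
    induction j with
    | zero => simp
    | succ j ih =>
      have e : 2 * (j + 1) = 2 * j + 2 := by ring
      have h1 : c * (c * x * c⁻¹) * c⁻¹ = x := by
        rw [hc]
        have := congrArg (fun z => z⁻¹) hc
        simp only [mul_inv_rev, inv_inv, mul_assoc] at this
        simpa [mul_assoc] using this
      rw [e, pow_add, pow_two]
      calc c ^ (2 * j) * (c * c) * x * (c ^ (2 * j) * (c * c))⁻¹
          = c ^ (2 * j) * (c * (c * x * c⁻¹) * c⁻¹) * (c ^ (2 * j))⁻¹ := by group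
        _ = x := by rw [h1, ih]
  set t := c ^ m with ht
  have htx : t * x * t⁻¹ = x⁻¹ := by
    obtain ⟨j, rfl⟩ := hm
    rw [ht, pow_succ]
    calc c ^ (2 * j) * c * x * (c ^ (2 * j) * c)⁻¹ = c ^ (2 * j) * (c * x * c⁻¹) * (c ^ (2 * j))⁻¹ := by group
      _ = (c ^ (2 * j) * x * (c ^ (2 * j))⁻¹)⁻¹ := by rw [hc]; group
      _ = x⁻¹ := by rw [hcsq]
  have htL : t ∈ L := by
    haveI : Fact (Nat.Prime 2) := ⟨Nat.prime_two⟩
    have hi : ¬ 2 ∣ L.index := by
      rw [← even_iff_two_dvd, Nat.not_even_iff_odd]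
      exact hodd
    refine Cfsg.Agent.Lib.GlaubSyl7.mem_of_pow_mem 2 L hi (k := a) ?_
    rw [ht, ← pow_mul, mul_comm, ← ham, pow_orderOf_eq_one]
  have hx2 : x ^ 2 ∈ L := by
    have h1 : t⁻¹ ∈ L := L.inv_mem htL
    have h2 := L.mul_mem (hL.conj_mem _ h1 x) htL
    have h3 : x * t⁻¹ * x⁻¹ * t = x ^ 2 := by
      have h4 : t⁻¹ * x⁻¹ * t = x := by
        have h5 : x⁻¹ = t * x * t⁻¹ := htx.symm
        rw [h5]
        group
      calc x * t⁻¹ * x⁻¹ * t = x * (t⁻¹ * x⁻¹ * t) := by group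
        _ = x ^ 2 := by rw [h4, pow_two]
    rwa [h3] at h2
  have hxL : x ∈ L := by
    obtain ⟨j, hj⟩ := hodd
    have h1 : x ^ L.index ∈ L := Subgroup.pow_index_mem L x
    have h2 : x = ((x ^ 2) ^ j)⁻¹ * x ^ L.index := by
      rw [hj, pow_succ x (2 * j), pow_mul x 2 j]
      group
    rw [h2]
    exact L.mul_mem (L.inv_mem (L.pow_mem hx2 j)) h1
  refine ⟨hxL, isConj_iff.mpr ⟨⟨t, htL⟩, Subtype.ext ?_⟩⟩
  exact htx

/-- The orbit relation on real characters. -/
abbrev OrbRel : {θ : IrrCharacter L // conjIrr θ = θ} → {θ : IrrCharacter L // conjIrr θ = θ} → Prop :=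
  fun θ η => ∃ g, irrAut (act L g) θ.1 = η.1

theorem orbRel_equiv : Equivalence (OrbRel L) := by
  refine ⟨fun z => ⟨1, by rw [map_one, irrAut_one]⟩, ?_, ?_⟩
  · rintro z w ⟨g, hg⟩
    refine ⟨g⁻¹, ?_⟩
    rw [← hg, ← irrAut_mul, ← map_mul, inv_mul_cancel, map_one, irrAut_one]
  · rintro z w v ⟨g, hg⟩ ⟨h, hh⟩
    refine ⟨h * g, ?_⟩
    rw [map_mul, irrAut_mul, hg, hh]

/-- The count: there are at most as many real characters of `H` as orbits on real characters of
`L`. -/
theorem card_real_le (hodd : Odd L.index) :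
    Nat.card {χ : IrrCharacter H // conjIrr χ = χ} ≤ Nat.card (Quot (OrbRel L)) := by
  haveI : Finite (ConjClasses L) := Quotient.finite _
  have htriv : ∀ a : H, ∃ k : L, act L (a ^ L.index) = MulAut.conj k := by
    intro a
    refine ⟨⟨a ^ L.index, Subgroup.pow_index_mem L a⟩, ?_⟩
    ext n
    rw [act_apply]
    rfl
  have h1 := card_quot_real_eq (act L) L.index hodd htriv
  have h2 : Nat.card (Quot (OrbRel L)) = _ := h1
  rw [h2]
  have h3 : Nat.card {χ : IrrCharacter H // conjIrr χ = χ} =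
      Nat.card {C : ConjClasses H // ∀ g : H, ConjClasses.mk g = C → IsConj g g⁻¹} := by
    rw [← card_real_irr]
    exact Nat.card_congr (Equiv.subtypeEquivRight conjIrr_eq_iff)
  rw [h3]
  -- the surjection
  have hout : ∀ C : {C : ConjClasses L // classInv C = C}, IsConj (Quotient.out C.1) (Quotient.out C.1)⁻¹ := by
    intro C
    rw [← classInv_mk_eq_iff]
    have : ConjClasses.mk (Quotient.out C.1) = C.1 := Quotient.out_eq C.1
    rw [this]
    exact C.2
  have hmkout : ∀ C : ConjClasses L, ConjClasses.mk (Quotient.out C) = C := fun C => Quotient.out_eq C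
  have hrealH : ∀ x : L, IsConj x x⁻¹ → IsConj (x : H) (x : H)⁻¹ := by
    intro x hx
    obtain ⟨c, hc⟩ := isConj_iff.mp hx
    refine isConj_iff.mpr ⟨c, ?_⟩
    simpa using congrArg Subtype.val hc
  have hrealcl : ∀ x : H, IsConj x x⁻¹ → ∀ g : H, ConjClasses.mk g = ConjClasses.mk x → IsConj g g⁻¹ := by
    intro x hx g hg
    rw [ConjClasses.mk_eq_mk_iff_isConj] at hg
    exact hg.trans (hx.trans (isConj_inv_inv hg).symm)
  let F : Quot (fun C D : {C : ConjClasses L // classInv C = C} => ∃ g, classAut (act L g) C.1 = D.1) →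
      {C : ConjClasses H // ∀ g : H, ConjClasses.mk g = C → IsConj g g⁻¹} :=
    Quot.lift (fun C => ⟨ConjClasses.mk ((Quotient.out C.1 : L) : H), hrealcl _ (hrealH _ (hout C))⟩) (by
      rintro C D ⟨g, hg⟩
      apply Subtype.ext
      show ConjClasses.mk ((Quotient.out C.1 : L) : H) = ConjClasses.mk ((Quotient.out D.1 : L) : H)
      rw [ConjClasses.mk_eq_mk_iff_isConj]
      have h4 : ConjClasses.mk ((act L g) (Quotient.out C.1)) = ConjClasses.mk (Quotient.out D.1) := by
        rw [← classAut_mk, hmkout, hmkout, hg]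
      rw [ConjClasses.mk_eq_mk_iff_isConj] at h4
      obtain ⟨k, hk⟩ := isConj_iff.mp h4
      refine isConj_iff.mpr ⟨k * g, ?_⟩
      have h5 := congrArg Subtype.val hk
      simp only [Subgroup.coe_mul, InvMemClass.coe_inv, act_apply] at h5
      rw [← h5]
      group)
  apply Nat.card_le_card_of_surjective F
  rintro ⟨C₀, hC₀⟩
  obtain ⟨x, rfl⟩ := Quotient.exists_rep C₀
  have hxr : IsConj x x⁻¹ := hC₀ x rfl
  obtain ⟨hxL, hxL'⟩ := real_mem L hodd hxr
  refine ⟨Quot.mk _ ⟨ConjClasses.mk (⟨x, hxL⟩ : L), (classInv_mk_eq_iff _).mpr hxL'⟩, ?_⟩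
  apply Subtype.ext
  show ConjClasses.mk ((Quotient.out (ConjClasses.mk (⟨x, hxL⟩ : L)) : L) : H) = ConjClasses.mk x
  rw [ConjClasses.mk_eq_mk_iff_isConj]
  have h4 : IsConj (Quotient.out (ConjClasses.mk (⟨x, hxL⟩ : L))) (⟨x, hxL⟩ : L) := by
    rw [← ConjClasses.mk_eq_mk_iff_isConj, hmkout]
  obtain ⟨k, hk⟩ := isConj_iff.mp h4
  refine isConj_iff.mpr ⟨k, ?_⟩
  simpa using congrArg Subtype.val hk

/-- **Uniqueness.** There is a unique real character over a real irreducible character of a normal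
subgroup of odd index. -/
theorem real_unique (hodd : Odd L.index) {χ₁ χ₂ : IrrCharacter H} (h₁ : conjIrr χ₁ = χ₁)
    (h₂ : conjIrr χ₂ = χ₂) {θ : IrrCharacter L} (hθ₁ : Over L χ₁ θ) (hθ₂ : Over L χ₂ θ) : χ₁ = χ₂ := by
  have hex : ∀ χ : {χ : IrrCharacter H // conjIrr χ = χ}, ∃ θ : {θ : IrrCharacter L // conjIrr θ = θ},
      Over L χ.1 θ.1 := by
    intro χ
    obtain ⟨θ, hθ⟩ := exists_over L χ.1
    exact ⟨⟨θ, conjIrr_of_over L hodd χ.2 hθ⟩, hθ⟩
  choose c hc using hex
  let Φ : {χ : IrrCharacter H // conjIrr χ = χ} → Quot (OrbRel L) := fun χ => Quot.mk _ (c χ)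
  have hΦ : ∀ (χ : {χ : IrrCharacter H // conjIrr χ = χ}) (θ : {θ : IrrCharacter L // conjIrr θ = θ}),
      Over L χ.1 θ.1 → Φ χ = Quot.mk _ θ := by
    intro χ θ hθ
    apply Quot.sound
    exact exists_conj_of_over L (hc χ) hθ
  have hsurj : Function.Surjective Φ := by
    intro q
    obtain ⟨θ, rfl⟩ := Quot.exists_rep q
    obtain ⟨χ, hχ, hover⟩ := exists_real_over L hodd θ.1 θ.2
    exact ⟨⟨χ, hχ⟩, hΦ ⟨χ, hχ⟩ θ hover⟩
  have hinj : Function.Injective Φ :=
    (Function.Surjective.bijective_of_nat_card_le hsurj (card_real_le L hodd)).1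
  have hθr : conjIrr θ = θ := conjIrr_of_over L hodd h₁ hθ₁
  have h3 : (⟨χ₁, h₁⟩ : {χ : IrrCharacter H // conjIrr χ = χ}) = ⟨χ₂, h₂⟩ :=
    hinj ((hΦ ⟨χ₁, h₁⟩ ⟨θ, hθr⟩ hθ₁).trans (hΦ ⟨χ₂, h₂⟩ ⟨θ, hθr⟩ hθ₂).symm)
  exact congrArg Subtype.val h3

theorem mem_inertia_iff {g : H} {θ : IrrCharacter L} :
    g ∈ Cfsg.Agent.Lib.Gagola2.inertia L hL (θ : L → ℂ) ↔ irrAut (act L g) θ = θ := by
  rw [Cfsg.Agent.Lib.Gagola2.mem_inertia]
  constructor
  · intro h
    apply Subtype.ext
    funext n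
    rw [irrAut_apply]
    refine (h _ _ ?_).symm
    rw [← act_apply, MulEquiv.apply_symm_apply]
  · intro h n n' hn
    have h1 : n' = act L g n := by
      apply Subtype.ext
      rw [act_apply, hn]
    rw [h1]
    conv_lhs => rw [← h]
    rw [irrAut_apply, MulEquiv.symm_apply_apply]

/-- **Degree formula.** -/
theorem real_degree (hodd : Odd L.index) {χ : IrrCharacter H} (hχ : conjIrr χ = χ)
    {θ : IrrCharacter L} (h : Over L χ θ) :
    charDegree (χ : H → ℂ) =
      (Cfsg.Agent.Lib.Gagola2.inertia L hL (θ : L → ℂ)).index * charDegree (θ : L → ℂ) := by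
  have hθr : conjIrr θ = θ := conjIrr_of_over L hodd hχ h
  have hθim := (conjIrr_eq_iff θ).mp hθr
  set T := Cfsg.Agent.Lib.Gagola2.inertia L hL (θ : L → ℂ) with hT
  have hLT : L ≤ T := by
    intro n hn
    rw [hT, mem_inertia_iff]
    have h1 : act L n = MulAut.conj (⟨n, hn⟩ : L) := by
      ext k
      rw [act_apply]
      rfl
    rw [h1, irrAut_conj]
  let N' : Subgroup T := L.subgroupOf T
  haveI hN' : N'.Normal := Subgroup.normal_subgroupOf
  let e : N' ≃* L := Subgroup.subgroupOfEquivOfLe hLT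
  have heval : ∀ n : N', ((e n : L) : H) = ((n : T) : H) := fun n => rfl
  let φ : N' → ℂ := fun n => (θ : L → ℂ) (e n)
  have hφ : IsIrrCharacter N' φ := isIrrCharacter_comp_of_surjective e.toMonoidHom e.surjective θ.2
  have hoddN' : Odd N'.index := by
    have h1 : N'.index ∣ L.index := by
      show L.relIndex T ∣ L.index
      exact Subgroup.relIndex_dvd_index_of_normal L T
    exact Odd.of_dvd_nat hodd h1
  have hinv : ∀ (t : T) (n : N'), φ (MulAut.conjNormal t n) = φ n := by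
    intro t n
    have ht := Cfsg.Agent.Lib.Gagola2.mem_inertia.mp t.2
    exact ht _ _ rfl
  obtain ⟨ψ, hψ, hψN, hψr⟩ := exists_real_ext N' hoddN' hφ (fun n => hθim _) hinv
  have hTmem : ∀ g : H, g ∈ T ↔ ∀ n : L, (θ : L → ℂ) ⟨g * n * g⁻¹, hL.conj_mem (n : H) n.2 g⟩ = (θ : L → ℂ) n := by
    intro g
    rw [hT, Cfsg.Agent.Lib.Gagola2.mem_inertia]
    constructor
    · intro h n
      exact h _ _ rfl
    · intro h n n' hn
      have h1 : n' = ⟨g * n * g⁻¹, hL.conj_mem (n : H) n.2 g⟩ := Subtype.ext hn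
      rw [h1]
      exact h n
  have hres : (fun n : L => ψ ⟨(n : H), hLT n.2⟩) = (θ : L → ℂ) := by
    funext n
    have h1 := hψN ⟨⟨(n : H), hLT n.2⟩, n.2⟩
    exact h1
  have hover : classInner (fun n : L => ψ ⟨(n : H), hLT n.2⟩) (θ : L → ℂ) = 1 := by
    rw [hres]
    exact classInner_irr_self θ.2
  obtain ⟨hirr, hmult⟩ := indFun_irr_of_over L T θ.2 hTmem hLT hψ (by rw [hover]; exact one_ne_zero)
  have hreal : ∀ g, conj (indFun T ψ g) = indFun T ψ g := by
    intro g
    rw [indFun_apply, map_mul, map_inv₀, map_natCast, map_sum]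
    congr 1
    refine Finset.sum_congr rfl fun x _ => ?_
    by_cases hy : x⁻¹ * g * x ∈ T
    · rw [extendByZero_of_mem T _ hy]
      exact Complex.conj_eq_iff_im.mpr (hψr _)
    · rw [extendByZero_of_not_mem T _ hy, map_zero]
  let β : IrrCharacter H := ⟨indFun T ψ, hirr⟩
  have hβr : conjIrr β = β := by
    apply Subtype.ext
    funext g
    exact hreal g
  have hβo : Over L β θ := by
    show classInner (fun n : L => indFun T ψ n) (θ : L → ℂ) ≠ 0
    rw [hmult, hover]
    exact one_ne_zero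
  have hχβ : χ = β := real_unique L hodd hχ hβr h hβo
  rw [hχβ]
  have h1 : indFun T ψ 1 = (T.index : ℂ) * ψ 1 := indFun_one T ψ
  have h2 : ψ 1 = (θ : L → ℂ) 1 := by
    have h3 := congrFun hres 1
    exact h3
  have h4 : ((charDegree (β : H → ℂ) : ℕ) : ℂ) = ((T.index * charDegree (θ : L → ℂ) : ℕ) : ℂ) := by
    rw [← Cfsg.Agent.Lib.CharKernel.one_eq_charDegree (IsIrrCharacter.isCharacter β.2)]
    show indFun T ψ 1 = _
    rw [h1, h2, Cfsg.Agent.Lib.CharKernel.one_eq_charDegree (IsIrrCharacter.isCharacter θ.2)]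
    push_cast
    ring
  exact_mod_cast h4

/-- A character of `p'`-degree: a `p`-subgroup fixes a conjugate of any constituent. -/
theorem exists_fixed_of_over {p : ℕ} [hp : Fact p.Prime] (P : Subgroup H) (hP : IsPGroup p P)
    {χ : IrrCharacter H} (hp' : ¬ p ∣ charDegree (χ : H → ℂ)) {θ : IrrCharacter L} (hχθ : Over L χ θ) :
    ∃ g : H, ∀ u : P, irrAut (act L u) (irrAut (act L g) θ) = irrAut (act L g) θ := by
  have hχc := IsIrrCharacter.isCharacter χ.2
  have hcl := isClassFunction_of_isCharacter hχc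
  obtain ⟨m, hm⟩ := exists_nat_decomp (isCharacter_restrict L hχc)
  have hmval : ∀ η : IrrCharacter L, classInner (fun n : L => (χ : H → ℂ) n) (η : L → ℂ) = m η := by
    intro η
    have := classInner_nat_decomp m (η : L → ℂ) η.2
    rw [← hm] at this
    exact this
  -- degree
  have hdeg : charDegree (χ : H → ℂ) = ∑ η : IrrCharacter L, m η * charDegree (η : L → ℂ) := by
    have h1 := congrFun hm 1
    simp only [Finset.sum_apply, Pi.smul_apply, OneMemClass.coe_one] at h1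
    simp only [nsmul_eq_mul] at h1
    have h2 : ((charDegree (χ : H → ℂ) : ℕ) : ℂ) =
        ((∑ η : IrrCharacter L, m η * charDegree (η : L → ℂ) : ℕ) : ℂ) := by
      rw [← Cfsg.Agent.Lib.CharKernel.one_eq_charDegree hχc, h1]
      push_cast
      refine Finset.sum_congr rfl fun η _ => ?_
      rw [Cfsg.Agent.Lib.CharKernel.one_eq_charDegree (IsIrrCharacter.isCharacter η.2)]
    exact_mod_cast h2
  -- invariance
  have hinv : ∀ (u : P) (η : IrrCharacter L), m (irrAut (act L u) η) = m η := by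
    intro u η
    have h1 := hmval (irrAut (act L u) η)
    have h2 : (irrAut (act L u) η : L → ℂ) = conjBy L hL (u : H)⁻¹ (η : L → ℂ) := by
      rw [conjBy_eq_irrAut, inv_inv]
    rw [h2, Cfsg.Agent.Lib.CharClifford.classInner_restrict_conjBy L hL _ hcl, hmval] at h1
    exact_mod_cast h1.symm
  have hinvdeg : ∀ (u : P) (η : IrrCharacter L), charDegree (irrAut (act L u) η : L → ℂ) = charDegree (η : L → ℂ) := by
    intro u η
    unfold charDegree
    rw [irrAut_apply, map_one]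
  let φ : P →* MulAut L := (act L).comp P.subtype
  haveI : Fintype {z // ∀ g : P, irrAut (φ g) z = z} := Fintype.ofFinite _
  have hS := Cfsg.Agent.Lib.CharAutP.sum_eq_sum_fixed (S := ZMod p) p hP (by simp) (fun (u : P) (z : IrrCharacter L) => irrAut (φ u) z)
    (fun z => by simp [irrAut_one]) (fun g h z => by simp [irrAut_mul])
    (fun η => ((m η * charDegree (η : L → ℂ) : ℕ) : ZMod p))
    (fun g z => by
      show ((m (irrAut (act L g) z) * charDegree (irrAut (act L g) z : L → ℂ) : ℕ) : ZMod p) = _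
      rw [hinv, hinvdeg])
  have hne : (∑ η : IrrCharacter L, ((m η * charDegree (η : L → ℂ) : ℕ) : ZMod p)) ≠ 0 := by
    rw [← Nat.cast_sum, ← hdeg, Ne, ZMod.natCast_eq_zero_iff]
    exact hp'
  rw [hS] at hne
  obtain ⟨z, -, hz⟩ := Finset.exists_ne_zero_of_sum_ne_zero hne
  have hmz : m z.1 ≠ 0 := by
    intro h0
    apply hz
    simp [h0]
  have hzo : Over L χ z.1 := by
    unfold Over
    rw [hmval]
    exact_mod_cast hmz
  obtain ⟨g, hg⟩ := exists_conj_of_over L hχθ hzo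
  refine ⟨g, fun u => ?_⟩
  rw [hg]
  exact z.2 u

/-- Sylow: two `P`-invariant conjugates are conjugate by the normalizer. -/
theorem exists_normalizer_conj {p : ℕ} [hp : Fact p.Prime] (P : Sylow p H) {θ η : IrrCharacter L}
    (hθ : ∀ u ∈ (P : Subgroup H), irrAut (act L u) θ = θ)
    (hη : ∀ u ∈ (P : Subgroup H), irrAut (act L u) η = η) {h : H} (hh : irrAut (act L h) θ = η) :
    ∃ n ∈ Subgroup.normalizer ((P : Subgroup H) : Set H), irrAut (act L n) θ = η := by
  obtain ⟨s, hs, hsn⟩ := exists_mem_normalizer P (Cfsg.Agent.Lib.Gagola2.inertia L hL (η : L → ℂ))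
    (fun u hu => (mem_inertia_iff L).mpr (hη u hu)) h (by
      intro u hu
      rw [mem_inertia_iff, ← hh, ← irrAut_mul, ← map_mul, mul_assoc, mul_assoc, inv_mul_cancel, mul_one,
        map_mul, irrAut_mul, hθ u hu])
  refine ⟨s * h, hsn, ?_⟩
  rw [map_mul, irrAut_mul, hh]
  exact (mem_inertia_iff L).mp hs

/-- The congruence of indices: `|H : T| ≡ |N_H(P) : N_T(P)|` modulo `p`. -/
theorem index_modEq {p : ℕ} [hp : Fact p.Prime] (P : Sylow p H) (T : Subgroup H)
    (hPT : (P : Subgroup H) ≤ T) :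
    ((T.index : ℕ) : ZMod p) =
      ((T.subgroupOf (Subgroup.normalizer ((P : Subgroup H) : Set H))).index : ℕ) := by
  classical
  set N := Subgroup.normalizer ((P : Subgroup H) : Set H) with hNdef
  -- `P` acting on the cosets
  have h1 := P.isPGroup'.card_modEq_card_fixedPoints (H ⧸ T)
  have h2 : Nat.card (H ⧸ T) = T.index := rfl
  rw [h2] at h1
  -- the map
  let F : N ⧸ (T.subgroupOf N) → MulAction.fixedPoints (P : Subgroup H) (H ⧸ T) :=
    Quotient.lift (fun n : N => ⟨((n : H) : H ⧸ T), by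
      rintro ⟨u, hu⟩
      show (u • ((n : H) : H ⧸ T)) = ((n : H) : H ⧸ T)
      rw [MulAction.Quotient.smul_coe, QuotientGroup.eq]
      show (u • (n : H))⁻¹ * (n : H) ∈ T
      apply hPT
      have h3 : (u • (n : H))⁻¹ * (n : H) = (n : H)⁻¹ * u⁻¹ * (n : H) := by
        show (u * (n : H))⁻¹ * (n : H) = _
        group
      rw [h3]
      have h4 := (Subgroup.mem_normalizer_iff.mp (N.inv_mem n.2) u⁻¹).mp (P.1.inv_mem hu)
      simpa using h4⟩) (by
      intro a b hab
      apply Subtype.ext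
      have h3 : a⁻¹ * b ∈ T.subgroupOf N := QuotientGroup.leftRel_apply.mp hab
      show ((a : H) : H ⧸ T) = ((b : H) : H ⧸ T)
      rw [QuotientGroup.eq]
      exact h3)
  have hFinj : Function.Injective F := by
    intro a b hab
    obtain ⟨a, rfl⟩ := QuotientGroup.mk_surjective a
    obtain ⟨b, rfl⟩ := QuotientGroup.mk_surjective b
    have h3 : ((a : H) : H ⧸ T) = ((b : H) : H ⧸ T) := congrArg Subtype.val hab
    rw [QuotientGroup.eq] at h3
    rw [QuotientGroup.eq]
    exact h3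
  have hFsurj : Function.Surjective F := by
    rintro ⟨x, hx⟩
    obtain ⟨g, rfl⟩ := QuotientGroup.mk_surjective x
    have hgP : ∀ u ∈ (P : Subgroup H), g⁻¹ * u * g ∈ T := by
      intro u hu
      have h3 := hx ⟨u, hu⟩
      have h4 : u • ((g : H) : H ⧸ T) = ((g : H) : H ⧸ T) := h3
      rw [MulAction.Quotient.smul_coe, QuotientGroup.eq] at h4
      have h5 : (u • g)⁻¹ * g ∈ T := h4
      have h6 : (u • g)⁻¹ * g = g⁻¹ * u⁻¹ * g := by
        show (u * g)⁻¹ * g = _
        group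
      rw [h6] at h5
      have h7 := T.inv_mem h5
      simpa [mul_assoc] using h7
    obtain ⟨s, hs, hsn⟩ := exists_mem_normalizer P T hPT g⁻¹ (by simpa using hgP)
    refine ⟨QuotientGroup.mk ⟨(s * g⁻¹)⁻¹, N.inv_mem hsn⟩, ?_⟩
    apply Subtype.ext
    show (((s * g⁻¹)⁻¹ : H) : H ⧸ T) = (g : H ⧸ T)
    rw [QuotientGroup.eq]
    have h3 : ((s * g⁻¹)⁻¹)⁻¹ * g = s := by group
    rw [h3]
    exact hs
  have hcard : Nat.card (MulAction.fixedPoints (P : Subgroup H) (H ⧸ T)) = (T.subgroupOf N).index :=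
    (Nat.card_congr (Equiv.ofBijective F ⟨hFinj, hFsurj⟩)).symm
  rw [hcard] at h1
  exact (ZMod.natCast_eq_natCast_iff _ _ _).mpr h1

end Odd

section Assemble

attribute [local instance] Fintype.ofFinite

variable {G : Type u} [Group G] [Finite G] {p : ℕ} [hp : Fact p.Prime] (P : Sylow p G)

local notation "NN" => Subgroup.normalizer (((P : Sylow p G) : Subgroup G) : Set G)

/-- Invariance under the Sylow subgroup, on the normal subgroup of `G`. -/
def FixK (K : Subgroup G) [K.Normal] (θ : IrrCharacter K) : Prop :=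
  ∀ u ∈ (P : Subgroup G), irrAut (act K u) θ = θ

/-- Invariance under the Sylow subgroup, on the normal subgroup of the normalizer. -/
def FixL (L : Subgroup NN) [L.Normal] (φ : IrrCharacter L) : Prop :=
  ∀ u : NN, (u : G) ∈ (P : Subgroup G) → irrAut (act L u) φ = φ

theorem fixK_conj (K : Subgroup G) [K.Normal] {θ : IrrCharacter K} (h : FixK P K θ) :
    FixK P K (conjIrr θ) := fun u hu => by
  rw [irrAut_conjIrr, h u hu]

theorem fixL_conj (L : Subgroup NN) [L.Normal] {φ : IrrCharacter L} (h : FixL P L φ) :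
    FixL P L (conjIrr φ) := fun u hu => by
  rw [irrAut_conjIrr, h u hu]

theorem fixK_act (K : Subgroup G) [K.Normal] {θ : IrrCharacter K} (h : FixK P K θ) (n : NN) :
    FixK P K (irrAut (act K n) θ) := by
  intro u hu
  have h1 : (n : G)⁻¹ * u * n ∈ (P : Subgroup G) := by
    have := (Subgroup.mem_normalizer_iff.mp (Subgroup.inv_mem _ n.2) u).mp hu
    simpa using this
  have h2 : u * (n : G) = n * ((n : G)⁻¹ * u * n) := by group
  rw [← irrAut_mul, ← map_mul, h2, map_mul, irrAut_mul, h _ h1]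

theorem fixL_act (L : Subgroup NN) [L.Normal] {φ : IrrCharacter L} (h : FixL P L φ) (n : NN) :
    FixL P L (irrAut (act L n) φ) := by
  intro u hu
  have h1 : (((n⁻¹ * u * n : NN)) : G) ∈ (P : Subgroup G) := by
    have := (Subgroup.mem_normalizer_iff.mp (Subgroup.inv_mem _ n.2) (u : G)).mp hu
    simpa using this
  have h2 : u * n = n * (n⁻¹ * u * n) := by group
  rw [← irrAut_mul, ← map_mul, h2, map_mul, irrAut_mul, h _ h1]

/-- The combinatorial assembly of the bijection. -/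
theorem assemble (K : Subgroup G) [hK : K.Normal] (hodd : Odd K.index) (L : Subgroup NN) [hLn : L.Normal]
    (hoddL : Odd L.index)
    (hreal : ∀ χ : IrrCharacter G, conjIrr χ = χ → ¬ p ∣ charDegree (χ : G → ℂ))
    (g : {θ : IrrCharacter K // FixK P K θ} → {φ : IrrCharacter L // FixL P L φ})
    (hg : Function.Bijective g)
    (hconj : ∀ θ θ' : {θ : IrrCharacter K // FixK P K θ}, θ'.1 = conjIrr θ.1 → (g θ').1 = conjIrr (g θ).1)
    (hact : ∀ (n : NN) (θ θ' : {θ : IrrCharacter K // FixK P K θ}), θ'.1 = irrAut (act K n) θ.1 →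
      (g θ').1 = irrAut (act L n) (g θ).1)
    (hdeg : ∀ θ : {θ : IrrCharacter K // FixK P K θ},
      (charDegree ((g θ).1 : L → ℂ) : ZMod p) = (charDegree (θ.1 : K → ℂ) : ZMod p) ∨
      (charDegree ((g θ).1 : L → ℂ) : ZMod p) = -(charDegree (θ.1 : K → ℂ) : ZMod p)) :
    ∃ f : {χ : IrrCharacter G // conjIrr χ = χ} →
        {ξ : IrrCharacter NN // conjIrr ξ = ξ ∧ ¬ p ∣ charDegree (ξ : NN → ℂ)},
      Function.Bijective f ∧ ∀ χ,
        (charDegree ((f χ).1 : NN → ℂ) : ZMod p) = (charDegree (χ.1 : G → ℂ) : ZMod p) ∨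
        (charDegree ((f χ).1 : NN → ℂ) : ZMod p) = -(charDegree (χ.1 : G → ℂ) : ZMod p) := by
  -- the relation
  let Rel : IrrCharacter G → IrrCharacter NN → Prop := fun χ ξ =>
    ∃ θ : {θ : IrrCharacter K // FixK P K θ}, Over K χ θ.1 ∧ Over L ξ (g θ).1
  -- inertia groups
  have hinertia : ∀ (θ : {θ : IrrCharacter K // FixK P K θ}) (n : NN),
      n ∈ Cfsg.Agent.Lib.Gagola2.inertia L hLn ((g θ).1 : L → ℂ) ↔
        (n : G) ∈ Cfsg.Agent.Lib.Gagola2.inertia K hK (θ.1 : K → ℂ) := by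
    intro θ n
    rw [mem_inertia_iff, mem_inertia_iff]
    constructor
    · intro h
      let θ' : {θ : IrrCharacter K // FixK P K θ} := ⟨irrAut (act K n) θ.1, fixK_act P K θ.2 n⟩
      have h1 := hact n θ θ' rfl
      rw [h] at h1
      have h2 : θ' = θ := hg.1 (Subtype.ext h1)
      exact congrArg Subtype.val h2
    · intro h
      have h1 := hact n θ θ h.symm
      exact h1.symm
  -- conjugation
  have hgreal : ∀ θ : {θ : IrrCharacter K // FixK P K θ}, conjIrr θ.1 = θ.1 → conjIrr (g θ).1 = (g θ).1 := by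
    intro θ hθ
    exact (hconj θ θ hθ.symm).symm
  have hgreal' : ∀ θ : {θ : IrrCharacter K // FixK P K θ}, conjIrr (g θ).1 = (g θ).1 → conjIrr θ.1 = θ.1 := by
    intro θ hθ
    let θ' : {θ : IrrCharacter K // FixK P K θ} := ⟨conjIrr θ.1, fixK_conj P K θ.2⟩
    have h1 := hconj θ θ' rfl
    rw [hθ] at h1
    have h2 : θ' = θ := hg.1 (Subtype.ext h1)
    exact congrArg Subtype.val h2
  -- degrees
  have hA : ∀ (χ : IrrCharacter G) (ξ : IrrCharacter NN), conjIrr χ = χ → conjIrr ξ = ξ → Rel χ ξ →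
      ((charDegree (ξ : NN → ℂ) : ZMod p) = (charDegree (χ : G → ℂ) : ZMod p) ∨
        (charDegree (ξ : NN → ℂ) : ZMod p) = -(charDegree (χ : G → ℂ) : ZMod p)) := by
    rintro χ ξ hχ hξ ⟨θ, hθ, hφ⟩
    have h1 := real_degree K hodd hχ hθ
    have h2 := real_degree L hoddL hξ hφ
    set T := Cfsg.Agent.Lib.Gagola2.inertia K hK (θ.1 : K → ℂ) with hT
    have hPT : (P : Subgroup G) ≤ T := fun u hu => (mem_inertia_iff K).mpr (θ.2 u hu)
    have h3 : Cfsg.Agent.Lib.Gagola2.inertia L hLn ((g θ).1 : L → ℂ) = T.subgroupOf NN := by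
      ext n
      rw [hinertia, Subgroup.mem_subgroupOf]
    have h4 := index_modEq P T hPT
    rw [h3] at h2
    rw [h1, h2]
    push_cast
    rw [← h4]
    rcases hdeg θ with h5 | h5
    · left
      rw [h5]
    · right
      rw [h5]
      ring
  -- existence
  have hB : ∀ χ : IrrCharacter G, conjIrr χ = χ → ∃ ξ : IrrCharacter NN, conjIrr ξ = ξ ∧ Rel χ ξ := by
    intro χ hχ
    obtain ⟨θ₀, hθ₀⟩ := exists_over K χ
    obtain ⟨h, hh⟩ := exists_fixed_of_over K (P : Subgroup G) P.isPGroup' (hreal χ hχ) hθ₀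
    let θ : {θ : IrrCharacter K // FixK P K θ} := ⟨irrAut (act K h) θ₀, fun u hu => hh ⟨u, hu⟩⟩
    have hθo : Over K χ θ.1 := over_irrAut K hθ₀ h
    have hθr := conjIrr_of_over K hodd hχ hθo
    obtain ⟨ξ, hξ, hover⟩ := exists_real_over L hoddL (g θ).1 (hgreal θ hθr)
    exact ⟨ξ, hξ, θ, hθo, hover⟩
  -- functional
  have hC : ∀ (χ : IrrCharacter G) (ξ₁ ξ₂ : IrrCharacter NN), conjIrr ξ₁ = ξ₁ → conjIrr ξ₂ = ξ₂ →
      Rel χ ξ₁ → Rel χ ξ₂ → ξ₁ = ξ₂ := by
    rintro χ ξ₁ ξ₂ h₁ h₂ ⟨θ₁, hθ₁, hφ₁⟩ ⟨θ₂, hθ₂, hφ₂⟩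
    obtain ⟨h, hh⟩ := exists_conj_of_over K hθ₁ hθ₂
    obtain ⟨n, hn, hnn⟩ := exists_normalizer_conj K P θ₁.2 θ₂.2 hh
    have h3 := hact ⟨n, hn⟩ θ₁ θ₂ hnn.symm
    have h4 : Over L ξ₂ (g θ₁).1 := by
      have h5 := over_irrAut L hφ₂ (⟨n, hn⟩ : NN)⁻¹
      rw [h3, ← irrAut_mul, ← map_mul, inv_mul_cancel, map_one, irrAut_one] at h5
      exact h5
    exact real_unique L hoddL h₁ h₂ hφ₁ h4
  -- injective
  have hD : ∀ (χ₁ χ₂ : IrrCharacter G) (ξ : IrrCharacter NN), conjIrr χ₁ = χ₁ → conjIrr χ₂ = χ₂ →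
      Rel χ₁ ξ → Rel χ₂ ξ → χ₁ = χ₂ := by
    rintro χ₁ χ₂ ξ h₁ h₂ ⟨θ₁, hθ₁, hφ₁⟩ ⟨θ₂, hθ₂, hφ₂⟩
    obtain ⟨n, hn⟩ := exists_conj_of_over L hφ₁ hφ₂
    let θ' : {θ : IrrCharacter K // FixK P K θ} := ⟨irrAut (act K n) θ₁.1, fixK_act P K θ₁.2 n⟩
    have h3 := hact n θ₁ θ' rfl
    have h4 : θ' = θ₂ := hg.1 (Subtype.ext (h3.trans hn))
    have h5 : Over K χ₂ θ₁.1 := by
      have h6 := over_irrAut K hθ₂ ((n : G)⁻¹)
      rw [← congrArg Subtype.val h4] at h6
      show Over K χ₂ θ₁.1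
      have h7 : irrAut (act K (n : G)⁻¹) (irrAut (act K n) θ₁.1) = θ₁.1 := by
        rw [← irrAut_mul, ← map_mul, inv_mul_cancel, map_one, irrAut_one]
      rw [← h7]
      exact h6
    exact real_unique K hodd h₁ h₂ hθ₁ h5
  -- surjective
  have hE : ∀ ξ : IrrCharacter NN, conjIrr ξ = ξ → ¬ p ∣ charDegree (ξ : NN → ℂ) →
      ∃ χ : IrrCharacter G, conjIrr χ = χ ∧ Rel χ ξ := by
    intro ξ hξ hξp
    obtain ⟨φ₀, hφ₀⟩ := exists_over L ξ
    let P' : Subgroup NN := (P : Subgroup G).subgroupOf NN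
    have hP' : IsPGroup p P' := P.isPGroup'.comap_of_injective (Subgroup.subtype _) (Subgroup.subtype_injective _)
    obtain ⟨n, hn⟩ := exists_fixed_of_over L P' hP' hξp hφ₀
    let φ : {φ : IrrCharacter L // FixL P L φ} := ⟨irrAut (act L n) φ₀, fun u hu => hn ⟨u, hu⟩⟩
    have hφo : Over L ξ φ.1 := over_irrAut L hφ₀ n
    have hφr := conjIrr_of_over L hoddL hξ hφo
    obtain ⟨θ, hθ⟩ := hg.2 φ
    have hθr : conjIrr θ.1 = θ.1 := hgreal' θ (by rw [hθ]; exact hφr)
    obtain ⟨χ, hχ, hover⟩ := exists_real_over K hodd θ.1 hθr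
    exact ⟨χ, hχ, θ, hover, by rw [hθ]; exact hφo⟩
  -- the bijection
  choose ξ hξ hRel using hB
  have hξd : ∀ (χ : IrrCharacter G) (hχ : conjIrr χ = χ), ¬ p ∣ charDegree (ξ χ hχ : NN → ℂ) := by
    intro χ hχ hdvd
    have h1 := hA χ (ξ χ hχ) hχ (hξ χ hχ) (hRel χ hχ)
    have h2 : (charDegree (ξ χ hχ : NN → ℂ) : ZMod p) = 0 := (ZMod.natCast_eq_zero_iff _ _).mpr hdvd
    rw [h2] at h1
    apply hreal χ hχ
    rw [← ZMod.natCast_eq_zero_iff]
    rcases h1 with h3 | h3
    · exact h3.symm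
    · exact neg_eq_zero.mp h3.symm
  refine ⟨fun χ => ⟨ξ χ.1 χ.2, hξ χ.1 χ.2, hξd χ.1 χ.2⟩, ⟨?_, ?_⟩, ?_⟩
  · intro χ₁ χ₂ h12
    have h1 : ξ χ₁.1 χ₁.2 = ξ χ₂.1 χ₂.2 := congrArg Subtype.val h12
    have h2 := hRel χ₂.1 χ₂.2
    rw [← h1] at h2
    exact Subtype.ext (hD χ₁.1 χ₂.1 _ χ₁.2 χ₂.2 (hRel χ₁.1 χ₁.2) h2)
  · rintro ⟨ξ₀, hξ₀, hξ₀p⟩
    obtain ⟨χ, hχ, hr⟩ := hE ξ₀ hξ₀ hξ₀p
    refine ⟨⟨χ, hχ⟩, Subtype.ext ?_⟩
    exact hC χ _ _ (hξ χ hχ) hξ₀ (hRel χ hχ) hr
  · intro χ
    exact hA χ.1 _ χ.2 (hξ χ.1 χ.2) (hRel χ.1 χ.2)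

end Assemble

section Glaub

attribute [local instance] Fintype.ofFinite

variable {G : Type u} [Group G] [Finite G] {p : ℕ} [hp : Fact p.Prime] (P : Sylow p G)

local notation "NN" => Subgroup.normalizer (((P : Sylow p G) : Subgroup G) : Set G)

omit hp in
theorem irrAut_eq_self_iff {X : Type u} [Group X] [Finite X] (f : MulAut X) (θ : IrrCharacter X) :
    irrAut f θ = θ ↔ ∀ x, (θ : X → ℂ) (f x) = (θ : X → ℂ) x := by
  constructor
  · intro h x
    conv_lhs => rw [← h]
    rw [irrAut_apply, MulEquiv.symm_apply_apply]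
  · intro h
    apply Subtype.ext
    funext x
    rw [irrAut_apply]
    have h1 := h (f.symm x)
    rw [MulEquiv.apply_symm_apply] at h1
    exact h1.symm

/-- **The Glauberman correspondence** for `K` with a normal Sylow `p`-subgroup, with its
equivariance under the normalizer and under complex conjugation. -/
theorem glaub_pkg (K : Subgroup G) [hK : K.Normal]
    (hn : ((P : Subgroup G).subgroupOf K).Normal) (hi : ¬ p ∣ ((P : Subgroup G).subgroupOf K).index) :
    ∃ g : {θ : IrrCharacter K // FixK P K θ} → {φ : IrrCharacter (K.subgroupOf NN) // FixL P (K.subgroupOf NN) φ},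
      Function.Bijective g ∧
      (∀ θ θ' : {θ : IrrCharacter K // FixK P K θ}, θ'.1 = conjIrr θ.1 → (g θ').1 = conjIrr (g θ).1) ∧
      (∀ (n : NN) (θ θ' : {θ : IrrCharacter K // FixK P K θ}), θ'.1 = irrAut (act K n) θ.1 →
        (g θ').1 = irrAut (act (K.subgroupOf NN) n) (g θ).1) ∧
      (∀ θ : {θ : IrrCharacter K // FixK P K θ},
        (charDegree ((g θ).1 : K.subgroupOf NN → ℂ) : ZMod p) = (charDegree (θ.1 : K → ℂ) : ZMod p) ∨
        (charDegree ((g θ).1 : K.subgroupOf NN → ℂ) : ZMod p) = -(charDegree (θ.1 : K → ℂ) : ZMod p)) := by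
  set L : Subgroup NN := K.subgroupOf NN with hLdef
  haveI hLn : L.Normal := Subgroup.normal_subgroupOf
  let S := (P : Subgroup G)
  let a : S →* MulAut K := (act K).comp S.subtype
  let aY : S →* MulAut L := (act L).comp (Subgroup.inclusion Subgroup.le_normalizer)
  let j : L →* K :=
    { toFun := fun l => ⟨((l : NN) : G), l.2⟩
      map_one' := rfl
      map_mul' := fun _ _ => rfl }
  let Q : Subgroup K := (P : Subgroup G).subgroupOf K
  haveI : Q.Normal := hn
  have hja : ∀ s y, j (aY s y) = a s (j y) := fun s y => rfl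
  have hj : Function.Injective j := by
    intro x y hxy
    apply Subtype.ext
    apply Subtype.ext
    exact congrArg (fun z : K => (z : G)) hxy
  have hQp : IsPGroup p Q := P.isPGroup'.comap_of_injective K.subtype K.subtype_injective
  have hNa : ∀ s, ∀ n ∈ Q, a s n ∈ Q := by
    intro s n hn'
    have h1 : (n : G) ∈ (P : Subgroup G) := hn'
    show ((a s n : K) : G) ∈ (P : Subgroup G)
    have h2 : ((a s n : K) : G) = s * n * (s : G)⁻¹ := act_apply K s n
    rw [h2]
    exact S.mul_mem (S.mul_mem s.2 h1) (S.inv_mem s.2)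
  have hjr : ∀ x, x ∈ j.range ↔ ∀ s, a s x * x⁻¹ ∈ Q := by
    intro x
    have hval : ∀ s : S, ((a s x * x⁻¹ : K) : G) = s * (x : G) * (s : G)⁻¹ * (x : G)⁻¹ := by
      intro s
      have h2 : ((a s x : K) : G) = s * x * (s : G)⁻¹ := act_apply K s x
      simp only [Subgroup.coe_mul, InvMemClass.coe_inv, h2]
    constructor
    · rintro ⟨y, rfl⟩ s
      show ((a s (j y) * (j y)⁻¹ : K) : G) ∈ (P : Subgroup G)
      rw [hval]
      have hy : (((y : NN) : G)) ∈ NN := (y : NN).2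
      have h1 : ((y : NN) : G) * (s : G)⁻¹ * ((y : NN) : G)⁻¹ ∈ (P : Subgroup G) :=
        (Subgroup.mem_normalizer_iff.mp hy _).mp (S.inv_mem s.2)
      have h3 := S.mul_mem s.2 h1
      have h4 : (s : G) * (((y : NN) : G) * (s : G)⁻¹ * ((y : NN) : G)⁻¹) =
          s * ((j y : K) : G) * (s : G)⁻¹ * ((j y : K) : G)⁻¹ := by
        show (s : G) * (((y : NN) : G) * (s : G)⁻¹ * ((y : NN) : G)⁻¹) =
          s * ((y : NN) : G) * (s : G)⁻¹ * ((y : NN) : G)⁻¹
        group
      rw [← h4]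
      exact h3
    · intro h
      have h1 : (x : G) ∈ NN := by
        apply Cfsg.Agent.Lib.H73Hom.mem_normalizer_of_conj_mem
        intro u hu
        have h2 : ((a ⟨u⁻¹, S.inv_mem hu⟩ x * x⁻¹ : K) : G) ∈ (P : Subgroup G) := h ⟨u⁻¹, S.inv_mem hu⟩
        rw [hval] at h2
        have h3 := S.mul_mem hu h2
        have h4 : (x : G) * u * (x : G)⁻¹ = u * (u⁻¹ * (x : G) * (u⁻¹)⁻¹ * (x : G)⁻¹) := by group
        rw [h4]
        exact h3
      exact ⟨⟨⟨x, h1⟩, x.2⟩, rfl⟩
  obtain ⟨f₀, hf₀, hspec⟩ := Cfsg.Agent.Lib.GlaubSyl6.main p a aY j Q P.isPGroup' hNa hQp hi hj hjr hja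
  -- the conditions
  have hcK : ∀ θ : IrrCharacter K, FixK P K θ ↔ ∀ s x, (θ : K → ℂ) (a s x) = (θ : K → ℂ) x := by
    intro θ
    constructor
    · intro h s x
      exact (irrAut_eq_self_iff _ _).mp (h s s.2) x
    · intro h u hu
      exact (irrAut_eq_self_iff _ _).mpr (fun x => h ⟨u, hu⟩ x)
  have hcL : ∀ φ : IrrCharacter L, FixL P L φ ↔ ∀ s y, (φ : L → ℂ) (aY s y) = (φ : L → ℂ) y := by
    intro φ
    constructor
    · intro h s y
      exact (irrAut_eq_self_iff _ _).mp (h ⟨s, Subgroup.le_normalizer s.2⟩ s.2) y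
    · intro h u hu
      exact (irrAut_eq_self_iff _ _).mpr (fun y => h ⟨u, hu⟩ y)
  let EK : {θ : IrrCharacter K // FixK P K θ} ≃ {θ : IrrCharacter K // ∀ s x, (θ : K → ℂ) (a s x) = (θ : K → ℂ) x} :=
    Equiv.subtypeEquivRight hcK
  let EL : {φ : IrrCharacter L // FixL P L φ} ≃ {φ : IrrCharacter L // ∀ s y, (φ : L → ℂ) (aY s y) = (φ : L → ℂ) y} :=
    Equiv.subtypeEquivRight hcL
  let g : {θ : IrrCharacter K // FixK P K θ} → {φ : IrrCharacter L // FixL P L φ} := fun θ => EL.symm (f₀ (EK θ))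
  have hgval : ∀ θ, (g θ).1 = (f₀ (EK θ)).1 := fun θ => rfl
  have hgbij : Function.Bijective g := EL.symm.bijective.comp (hf₀.comp EK.bijective)
  -- the uniqueness
  have huniq : ∀ (θ : {θ : IrrCharacter K // FixK P K θ}) (φ : {φ : IrrCharacter L // FixL P L φ}) (m : ℕ),
      classInner (fun y : L => (θ.1 : K → ℂ) (j y)) (φ.1 : L → ℂ) = m → ¬ p ∣ m → g θ = φ := by
    intro θ φ m hm hpm
    by_contra hne
    obtain ⟨m', hm', -, hm2⟩ := (hspec (EK θ)).1 (EL φ)
    have hne' : EL φ ≠ f₀ (EK θ) := by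
      intro h
      apply hne
      show EL.symm (f₀ (EK θ)) = φ
      rw [← h]
      exact EL.symm_apply_apply φ
    have h1 : ((m' : ℕ) : ℂ) = m := by
      rw [← hm', ← hm]
      rfl
    have h2 : m' = m := by exact_mod_cast h1
    rw [h2] at hm2
    exact hpm (hm2 hne')
  have hself : ∀ θ : {θ : IrrCharacter K // FixK P K θ}, ∃ m : ℕ,
      classInner (fun y : L => (θ.1 : K → ℂ) (j y)) ((g θ).1 : L → ℂ) = m ∧ ¬ p ∣ m := by
    intro θ
    obtain ⟨m, hm, hm1, -⟩ := (hspec (EK θ)).1 (f₀ (EK θ))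
    refine ⟨m, hm, fun hdvd => ?_⟩
    have h0 : ((m : ℕ) : ZMod p) = 0 := (ZMod.natCast_eq_zero_iff _ _).mpr hdvd
    rcases hm1 rfl with h | h
    · rw [h0] at h
      exact zero_ne_one h
    · rw [h0] at h
      have h3 : (1 : ZMod p) = 0 := by
        rw [← neg_eq_zero]
        exact h.symm
      exact one_ne_zero h3
  refine ⟨g, hgbij, ?_, ?_, ?_⟩
  · intro θ θ' hθ'
    obtain ⟨m, hm, hpm⟩ := hself θ
    let φ : {φ : IrrCharacter L // FixL P L φ} := ⟨conjIrr (g θ).1, fixL_conj P L (g θ).2⟩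
    have h1 : g θ' = φ := by
      apply huniq θ' φ m _ hpm
      have h2 : (fun y : L => (θ'.1 : K → ℂ) (j y)) = fun y : L => conj ((θ.1 : K → ℂ) (j y)) := by
        funext y
        rw [hθ']
        rfl
      rw [h2]
      have h3 := classInner_conj_conj (fun y : L => (θ.1 : K → ℂ) (j y)) ((g θ).1 : L → ℂ)
      have h4 : classInner (fun y : L => conj ((θ.1 : K → ℂ) (j y))) (φ.1 : L → ℂ) =
          classInner ((g θ).1 : L → ℂ) (fun y : L => (θ.1 : K → ℂ) (j y)) := h3
      rw [h4, ← classInner_conj_symm, hm, Complex.conj_natCast]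
    rw [h1]
  · intro n θ θ' hθ'
    obtain ⟨m, hm, hpm⟩ := hself θ
    let φ : {φ : IrrCharacter L // FixL P L φ} := ⟨irrAut (act L n) (g θ).1, fixL_act P L (g θ).2 n⟩
    have h1 : g θ' = φ := by
      apply huniq θ' φ m _ hpm
      rw [← hm]
      have h2 := classInner_comp_mulEquiv (act L n).symm (fun y : L => (θ.1 : K → ℂ) (j y)) ((g θ).1 : L → ℂ)
      rw [← h2]
      congr 1
      funext y
      rw [hθ', irrAut_apply]
      rfl
    rw [h1]
  · intro θ
    exact (hspec (EK θ)).2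

end Glaub

end Cfsg.Agent.Lib.RealOdd
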