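import Mathlib
import Cfsg.Prelude.Def_DegreeGraph
import Cfsg.Agent.Lib.RealOdd
import Cfsg.Agent.Lib.CharDet
import Cfsg.Agent.Lib.DetChar

/-!
# Relative character degrees: the common-divisor graph of `cd(G|N)`

The tools: linear characters of a normal subgroup `N ≤ G'`, their action on `Irr(N)`, and the fact
that all determinants of characters of `G` are trivial on `N`.
-/

set_option autoImplicit false
set_option linter.unusedSectionVars false
set_option linter.unusedVariables false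
set_option linter.style.haveILetI false

namespace Cfsg.Agent.Lib.RelDeg

open Cfsg Cfsg.Agent.Lib.CharBasic Cfsg.Agent.Lib.CharInd Cfsg.Agent.Lib.CharInduction
open Cfsg.Agent.Lib.CharAut Cfsg.Agent.Lib.RealOrbit Cfsg.Agent.Lib.RealOdd Cfsg.Agent.Lib.Clifford
open Cfsg.Agent.Lib.CharClifford
open scoped ComplexConjugate

universe u

attribute [local instance] Fintype.ofFinite

section Det

variable {Γ : Type u} [Group Γ] [Finite Γ]

theorem detChar_add {χ ψ : Γ → ℂ} (hχ : IsCharacter Γ χ) (hψ : IsCharacter Γ ψ) (g : Γ) :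
    detChar (χ + ψ) g = detChar χ g * detChar ψ g := by
  obtain ⟨n, ρ, rfl⟩ := hχ
  obtain ⟨m, σ, rfl⟩ := hψ
  have h : (ρ.prod σ).character = ρ.character + σ.character := by
    funext g
    exact LinearMap.trace_prodMap' (ρ g) (σ g)
  rw [CharDet.detChar_apply (ρ.prod σ) h, CharDet.detChar_apply ρ rfl, CharDet.detChar_apply σ rfl]
  exact LinearMap.det_prodMap (ρ g) (σ g)

theorem detChar_zero (g : Γ) : detChar (0 : Γ → ℂ) g = 1 := by
  have h : (Representation.trivial ℂ Γ (Fin 0 → ℂ)).character = 0 := by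
    funext g
    simp [Representation.character, Representation.trivial]
  rw [CharDet.detChar_apply _ h]
  simp [Representation.trivial]

theorem detChar_nsmul {χ : Γ → ℂ} (hχ : IsCharacter Γ χ) (k : ℕ) (g : Γ) :
    detChar (k • χ) g = detChar χ g ^ k := by
  induction k with
  | zero => simp [detChar_zero]
  | succ k ih =>
    rw [succ_nsmul, detChar_add (isCharacter_nsmul hχ k) hχ, ih, pow_succ]

theorem detChar_sum {ι : Type*} (s : Finset ι) (f : ι → Γ → ℂ) (hf : ∀ i ∈ s, IsCharacter Γ (f i))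
    (g : Γ) : detChar (∑ i ∈ s, f i) g = ∏ i ∈ s, detChar (f i) g := by
  classical
  induction s using Finset.induction_on with
  | empty => simp [detChar_zero]
  | insert a s ha ih =>
    rw [Finset.sum_insert ha, Finset.prod_insert ha,
      detChar_add (hf a (Finset.mem_insert_self _ _)) (isCharacter_sum s f fun i hi => hf i (Finset.mem_insert_of_mem hi)),
      ih fun i hi => hf i (Finset.mem_insert_of_mem hi)]

theorem detChar_hom (β : Γ →* ℂˣ) (g : Γ) : detChar (fun g => ((β g : ℂˣ) : ℂ)) g = β g := by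
  have h1 : IsCharacter Γ (fun _ : Γ => (1 : ℂ)) := isCharacter_one
  have h2 := DetChar.detChar_mul_hom β h1 (d := 1) (by simp) g
  have h3 : (fun g => ((β g : ℂˣ) : ℂ)) * (fun _ : Γ => (1 : ℂ)) = fun g => ((β g : ℂˣ) : ℂ) := by
    funext x
    simp
  rw [h3] at h2
  rw [h2, pow_one]
  have h4 : detChar (fun _ : Γ => (1 : ℂ)) g = 1 := by
    have h5 : (Representation.trivial ℂ Γ ℂ).character = fun _ : Γ => (1 : ℂ) := by
      funext x
      simp [Representation.character, Representation.trivial]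
    rw [CharDet.detChar_apply _ h5]
    simp [Representation.trivial]
  rw [h4, mul_one]

end Det

section Lin

variable {G : Type u} [Group G] [Finite G] (N : Subgroup G) [hN : N.Normal]

/-- The linear character attached to a homomorphism. -/
noncomputable def lin (β : N →* ℂˣ) : IrrCharacter N :=
  ⟨fun n => ((β n : ℂˣ) : ℂ), isIrrCharacter_of_hom β⟩

/-- The product of a linear character and an irreducible character. -/
noncomputable def tw (β : N →* ℂˣ) (θ : IrrCharacter N) : IrrCharacter N :=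
  ⟨(fun n => ((β n : ℂˣ) : ℂ)) * (θ : N → ℂ), DetChar.isIrr_mul_hom β θ.2⟩

/-- The conjugate of a homomorphism. -/
noncomputable def cj (g : G) (β : N →* ℂˣ) : N →* ℂˣ :=
  β.comp (act N g).symm.toMonoidHom

variable {N}

theorem lin_apply (β : N →* ℂˣ) (n : N) : (lin N β : N → ℂ) n = ((β n : ℂˣ) : ℂ) := rfl

theorem tw_apply (β : N →* ℂˣ) (θ : IrrCharacter N) (n : N) :
    (tw N β θ : N → ℂ) n = ((β n : ℂˣ) : ℂ) * (θ : N → ℂ) n := rfl

theorem cj_apply (g : G) (β : N →* ℂˣ) (n : N) : cj N g β n = β ((act N g).symm n) := rfl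

theorem cj_one (β : N →* ℂˣ) : cj N 1 β = β := by
  ext n
  rw [cj_apply, map_one]
  rfl

theorem cj_mul (a b : G) (β : N →* ℂˣ) : cj N (a * b) β = cj N a (cj N b β) := by
  ext n
  rw [cj_apply, cj_apply, cj_apply, map_mul]
  rfl

theorem cj_hom_mul (g : G) (β β' : N →* ℂˣ) : cj N g (β * β') = cj N g β * cj N g β' := by
  ext n
  simp [cj_apply]

theorem cj_hom_pow (g : G) (β : N →* ℂˣ) (k : ℕ) : cj N g (β ^ k) = cj N g β ^ k := by
  ext n
  simp [cj_apply]

theorem cj_hom_inv (g : G) (β : N →* ℂˣ) : cj N g β⁻¹ = (cj N g β)⁻¹ := by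
  ext n
  simp [cj_apply]

theorem cj_hom_one (g : G) : cj N g (1 : N →* ℂˣ) = 1 := by
  ext n
  simp [cj_apply]

theorem lin_injective : Function.Injective (lin N) := by
  intro a b h
  ext n
  exact congrFun (congrArg Subtype.val h) n

theorem irrAut_lin (g : G) (β : N →* ℂˣ) : irrAut (act N g) (lin N β) = lin N (cj N g β) := by
  apply Subtype.ext
  funext n
  rw [irrAut_apply]
  rfl

theorem irrAut_tw (g : G) (β : N →* ℂˣ) (θ : IrrCharacter N) :
    irrAut (act N g) (tw N β θ) = tw N (cj N g β) (irrAut (act N g) θ) := by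
  apply Subtype.ext
  funext n
  rw [irrAut_apply, tw_apply, tw_apply, irrAut_apply]
  rfl

theorem tw_mul (β β' : N →* ℂˣ) (θ : IrrCharacter N) : tw N (β * β') θ = tw N β (tw N β' θ) := by
  apply Subtype.ext
  funext n
  simp [tw_apply, mul_assoc]

theorem tw_one (θ : IrrCharacter N) : tw N 1 θ = θ := by
  apply Subtype.ext
  funext n
  simp [tw_apply]

theorem tw_lin (β β' : N →* ℂˣ) : tw N β (lin N β') = lin N (β * β') := by
  apply Subtype.ext
  funext n
  simp [tw_apply, lin_apply]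

theorem tw_lin_one (β : N →* ℂˣ) : tw N β (lin N 1) = lin N β := by
  rw [tw_lin]
  congr 1
  ext n
  simp

theorem charDegree_eq_of_one {Γ : Type u} [Group Γ] {χ ψ : Γ → ℂ} (h : χ 1 = ψ 1) :
    charDegree χ = charDegree ψ := by
  unfold charDegree
  rw [h]

theorem charDegree_tw (β : N →* ℂˣ) (θ : IrrCharacter N) :
    charDegree (tw N β θ : N → ℂ) = charDegree (θ : N → ℂ) := by
  apply charDegree_eq_of_one
  rw [tw_apply]
  simp

theorem charDegree_lin (β : N →* ℂˣ) : charDegree (lin N β : N → ℂ) = 1 := by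
  unfold charDegree
  rw [lin_apply]
  simp

theorem charDegree_irrAut (g : G) (θ : IrrCharacter N) :
    charDegree (irrAut (act N g) θ : N → ℂ) = charDegree (θ : N → ℂ) := by
  apply charDegree_eq_of_one
  rw [irrAut_apply, map_one]

/-- The stabilizer of a character. -/
noncomputable abbrev stb (θ : IrrCharacter N) : Subgroup G :=
  Cfsg.Agent.Lib.Gagola2.inertia N hN (θ : N → ℂ)

theorem mem_stb {g : G} {θ : IrrCharacter N} : g ∈ stb θ ↔ irrAut (act N g) θ = θ :=
  mem_inertia_iff N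

theorem mem_stb_lin {g : G} {β : N →* ℂˣ} : g ∈ stb (lin N β) ↔ cj N g β = β := by
  rw [mem_stb, irrAut_lin]
  exact lin_injective.eq_iff

theorem stb_mem' (θ : IrrCharacter N) (g : G) :
    g ∈ stb θ ↔ ∀ n : N, (θ : N → ℂ) ⟨g * n * g⁻¹, hN.conj_mem (n : G) n.2 g⟩ = (θ : N → ℂ) n := by
  rw [Cfsg.Agent.Lib.Gagola2.mem_inertia]
  constructor
  · intro h n
    exact h _ _ rfl
  · intro h n n' hn
    have h1 : n' = ⟨g * n * g⁻¹, hN.conj_mem (n : G) n.2 g⟩ := Subtype.ext hn
    rw [h1]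
    exact h n

theorem le_stb (θ : IrrCharacter N) : N ≤ stb θ := by
  intro n hn
  rw [mem_stb]
  have h1 : act N n = MulAut.conj (⟨n, hn⟩ : N) := by
    ext k
    rw [act_apply]
    rfl
  rw [h1, irrAut_conj]

/-- The degree of a character over `ν` is divisible by the orbit size and the degree of `ν`. -/
theorem degree_over {γ : IrrCharacter G} {ν : IrrCharacter N} (h : Over N γ ν) :
    (stb ν).index * charDegree (ν : N → ℂ) ∣ charDegree (γ : G → ℂ) := by
  obtain ⟨ψ, hψ, hψγ, hmult⟩ := exists_inertia_char N (stb ν) ν.2 (stb_mem' ν) (le_stb ν) γ.2 h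
  have hover : classInner (fun n : N => ψ ⟨(n : G), le_stb ν n.2⟩) (ν : N → ℂ) ≠ 0 := by
    rw [hmult]
    exact h
  obtain ⟨e, he0, hres, he⟩ := restrict_inertia_eq_smul N (stb ν) ν.2 (stb_mem' ν) (le_stb ν) hψ hover
  have h1 : ψ 1 = (e : ℂ) * (ν : N → ℂ) 1 := by
    have := congrFun hres 1
    simp only [Pi.smul_apply, smul_eq_mul] at this
    exact this
  have h2 : (γ : G → ℂ) 1 = ((stb ν).index : ℂ) * ψ 1 := by
    rw [← hψγ]
    exact indFun_one _ _
  have h3 : ((charDegree (γ : G → ℂ) : ℕ) : ℂ) =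
      (((stb ν).index * e * charDegree (ν : N → ℂ) : ℕ) : ℂ) := by
    rw [← Cfsg.Agent.Lib.CharKernel.one_eq_charDegree (IsIrrCharacter.isCharacter γ.2), h2, h1,
      Cfsg.Agent.Lib.CharKernel.one_eq_charDegree (IsIrrCharacter.isCharacter ν.2)]
    push_cast
    ring
  have h4 : charDegree (γ : G → ℂ) = (stb ν).index * e * charDegree (ν : N → ℂ) := by
    exact_mod_cast h3
  rw [h4]
  exact ⟨e, by ring⟩

/-- Every irreducible character of `N` lies under an irreducible character of `G`. -/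
theorem exists_over_irr (ν : IrrCharacter N) : ∃ γ : IrrCharacter G, Over N γ ν := by
  have hνc := IsIrrCharacter.isCharacter ν.2
  have hΘ : IsCharacter G (indFun N (ν : N → ℂ)) := indFun_isCharacter N hνc
  obtain ⟨m, hm⟩ := exists_nat_decomp hΘ
  have hmval : ∀ χ : IrrCharacter G, classInner (indFun N (ν : N → ℂ)) (χ : G → ℂ) = m χ := by
    intro χ
    have := classInner_nat_decomp m (χ : G → ℂ) χ.2
    rw [← hm] at this
    exact this
  have hfro : ∀ χ : IrrCharacter G, classInner (ν : N → ℂ) (fun n : N => (χ : G → ℂ) n) = m χ := by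
    intro χ
    rw [← frobenius N _ (isClassFunction_of_isCharacter (IsIrrCharacter.isCharacter χ.2))]
    exact hmval χ
  have hres : ∀ χ : IrrCharacter G, classInner (fun n : N => (χ : G → ℂ) n) (ν : N → ℂ) = m χ := by
    intro χ
    rw [← classInner_conj_symm, hfro, Complex.conj_natCast]
  have hne : indFun N (ν : N → ℂ) 1 ≠ 0 := by
    rw [indFun_one]
    have h1 : ((N.index : ℕ) : ℂ) ≠ 0 := by
      exact_mod_cast Subgroup.index_ne_zero_of_finite
    exact mul_ne_zero h1 (irr_degree_ne_zero ν.2)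
  by_contra hno
  push Not at hno
  have hzero : ∀ χ, m χ = 0 := by
    intro χ
    have h1 : ¬ Over N χ ν := hno χ
    unfold Over at h1
    rw [not_not, hres] at h1
    exact_mod_cast h1
  apply hne
  have h2 := congrFun hm 1
  simp only [hzero, zero_smul, Finset.sum_const_zero] at h2
  exact h2

/-- A character over a nontrivial character of `N` does not contain `N` in its kernel. -/
theorem exists_ne_of_over {γ : IrrCharacter G} {ν : IrrCharacter N} (h : Over N γ ν)
    (hν : ν ≠ lin N 1) : ∃ x ∈ N, (γ : G → ℂ) x ≠ (γ : G → ℂ) 1 := by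
  by_contra hno
  push Not at hno
  apply h
  have h1 : (fun n : N => (γ : G → ℂ) n) = ((γ : G → ℂ) 1) • (lin N 1 : N → ℂ) := by
    funext n
    rw [hno n n.2]
    simp [lin_apply]
  rw [h1, classInner_smul_left]
  have h2 : classInner (lin N 1 : N → ℂ) (ν : N → ℂ) = 0 :=
    classInner_irr_ne (lin N 1).2 ν.2 (fun h3 => hν (Subtype.ext h3.symm))
  rw [h2, mul_zero]

/-- Conversely: over the trivial character, `N` lies in the kernel. -/
theorem eq_of_over_one {γ : IrrCharacter G} (h : Over N γ (lin N 1)) (x : G) (hx : x ∈ N) :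
    (γ : G → ℂ) x = (γ : G → ℂ) 1 := by
  have hinv : ∀ (g : G) (n : N), (lin N 1 : N → ℂ) ⟨g * n * g⁻¹, hN.conj_mem (n : G) n.2 g⟩ = (lin N 1 : N → ℂ) n := by
    intro g n
    simp [lin_apply]
  obtain ⟨e, -, h1, -⟩ := restrict_eq_smul_of_invariant N (lin N 1).2 hinv γ.2 h
  have h2 := congrFun h1 ⟨x, hx⟩
  have h3 := congrFun h1 1
  simp only [Pi.smul_apply, smul_eq_mul, lin_apply, OneMemClass.coe_one, MonoidHom.one_apply, Units.val_one] at h2 h3
  rw [h2, h3]

end Lin

section DetOrb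

variable {G : Type u} [Group G] [Finite G] {N : Subgroup G} [hN : N.Normal]

/-- The orbit of a character, as a finset of functions. -/
noncomputable def orb (ζ : IrrCharacter N) : Finset (N → ℂ) :=
  Finset.univ.image (fun g : G => conjBy N hN g (ζ : N → ℂ))

/-- The product of the determinants along the orbit. -/
noncomputable def orbDet (ζ : IrrCharacter N) (n : N) : ℂ := ∏ ψ ∈ orb ζ, detChar ψ n

theorem mem_orb {ζ : IrrCharacter N} {ψ : N → ℂ} :
    ψ ∈ orb ζ ↔ ∃ g : G, (irrAut (act N g) ζ : N → ℂ) = ψ := by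
  unfold orb
  simp only [Finset.mem_image, Finset.mem_univ, true_and]
  constructor
  · rintro ⟨g, rfl⟩
    exact ⟨g⁻¹, by rw [conjBy_act, inv_inv]⟩
  · rintro ⟨g, rfl⟩
    exact ⟨g⁻¹, by rw [conjBy_act]⟩

theorem isIrr_of_mem_orb {ζ : IrrCharacter N} {ψ : N → ℂ} (h : ψ ∈ orb ζ) : IsIrrCharacter N ψ := by
  obtain ⟨g, rfl⟩ := mem_orb.mp h
  exact (irrAut (act N g) ζ).2

theorem one_of_mem_orb {ζ : IrrCharacter N} {ψ : N → ℂ} (h : ψ ∈ orb ζ) : ψ 1 = (ζ : N → ℂ) 1 := by
  obtain ⟨g, rfl⟩ := mem_orb.mp h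
  rw [irrAut_apply, map_one]

/-- Clifford's formula and the determinant: `N` lies in the derived subgroup. -/
theorem over_formula (hNG : N ≤ commutator G) {γ : IrrCharacter G} {ζ : IrrCharacter N}
    (h : Over N γ ζ) :
    ∃ f : ℕ, f ≠ 0 ∧ charDegree (γ : G → ℂ) = f * ((orb ζ).card * charDegree (ζ : N → ℂ)) ∧
      ∀ n : N, orbDet ζ n ^ f = 1 := by
  have hγc := IsIrrCharacter.isCharacter γ.2
  have hsum := restrict_eq_smul_sum N hN γ.2 ζ.2 h
  obtain ⟨f, hf⟩ := classInner_char_irr (isCharacter_restrict N hγc) ζ.2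
  have horb : (Finset.univ.image (fun g : G => conjBy N hN g (ζ : N → ℂ))) = orb ζ := by
    unfold orb
    congr
  rw [horb, hf, Nat.cast_smul_eq_nsmul] at hsum
  have hf0 : f ≠ 0 := by
    intro h0
    apply h
    show classInner (fun n : N => (γ : G → ℂ) n) (ζ : N → ℂ) = 0
    rw [hf, h0]
    simp
  have hirr : ∀ ψ ∈ orb ζ, IsCharacter N ψ := fun ψ hψ =>
    IsIrrCharacter.isCharacter (isIrr_of_mem_orb hψ)
  refine ⟨f, hf0, ?_, ?_⟩
  · have h1 := congrFun hsum 1
    have h2 : ((charDegree (γ : G → ℂ) : ℕ) : ℂ) =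
        ((f * ((orb ζ).card * charDegree (ζ : N → ℂ)) : ℕ) : ℂ) := by
      rw [← Cfsg.Agent.Lib.CharKernel.one_eq_charDegree hγc]
      have h3 : (γ : G → ℂ) ((1 : N) : G) = (f • ∑ ψ ∈ orb ζ, ψ) 1 := h1
      rw [OneMemClass.coe_one] at h3
      rw [h3, Pi.smul_apply, Finset.sum_apply, nsmul_eq_mul]
      have h4 : ∑ ψ ∈ orb ζ, ψ 1 = ∑ ψ ∈ orb ζ, (charDegree (ζ : N → ℂ) : ℂ) := by
        refine Finset.sum_congr rfl fun ψ hψ => ?_
        rw [one_of_mem_orb hψ, Cfsg.Agent.Lib.CharKernel.one_eq_charDegree (IsIrrCharacter.isCharacter ζ.2)]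
      rw [h4, Finset.sum_const, nsmul_eq_mul]
      push_cast
      ring
    exact_mod_cast h2
  · intro n
    have h1 : detChar (fun n : N => (γ : G → ℂ) n) n = detChar (γ : G → ℂ) n :=
      DetChar.detChar_restrict N hγc n
    obtain ⟨D, hD⟩ := DetChar.exists_detHom hγc
    have h2 : detChar (γ : G → ℂ) n = 1 := by
      rw [hD]
      have h3 : (n : G) ∈ D.ker := Abelianization.commutator_subset_ker D (hNG n.2)
      rw [MonoidHom.mem_ker] at h3
      rw [h3]
      simp
    rw [hsum, detChar_nsmul (isCharacter_sum _ _ hirr), detChar_sum _ _ hirr, h2] at h1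
    exact h1

theorem coe_tw (β : N →* ℂˣ) (θ : IrrCharacter N) :
    (tw N β θ : N → ℂ) = (fun n => ((β n : ℂˣ) : ℂ)) * (θ : N → ℂ) := rfl

theorem mem_orb_tw {β : N →* ℂˣ} (hβ : ∀ g : G, cj N g β = β) (ζ : IrrCharacter N) :
    orb (tw N β ζ) = (orb ζ).image (fun ψ => (fun n => ((β n : ℂˣ) : ℂ)) * ψ) := by
  ext ψ
  rw [mem_orb, Finset.mem_image]
  constructor
  · rintro ⟨g, rfl⟩
    refine ⟨(irrAut (act N g) ζ : N → ℂ), mem_orb.mpr ⟨g, rfl⟩, ?_⟩
    rw [irrAut_tw, hβ, coe_tw]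
  · rintro ⟨ψ', hψ', rfl⟩
    obtain ⟨g, rfl⟩ := mem_orb.mp hψ'
    exact ⟨g, by rw [irrAut_tw, hβ, coe_tw]⟩

theorem mul_hom_injective (β : N →* ℂˣ) :
    Function.Injective (fun ψ : N → ℂ => (fun n => ((β n : ℂˣ) : ℂ)) * ψ) := by
  intro a b h
  funext n
  have h1 := congrFun h n
  simp only [Pi.mul_apply] at h1
  exact mul_left_cancel₀ (Units.ne_zero _) h1

theorem card_orb_tw {β : N →* ℂˣ} (hβ : ∀ g : G, cj N g β = β) (ζ : IrrCharacter N) :
    (orb (tw N β ζ)).card = (orb ζ).card := by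
  rw [mem_orb_tw hβ, Finset.card_image_of_injective _ (mul_hom_injective β)]

theorem orbDet_tw {β : N →* ℂˣ} (hβ : ∀ g : G, cj N g β = β) (ζ : IrrCharacter N) (n : N) :
    orbDet (tw N β ζ) n =
      ((β n : ℂˣ) : ℂ) ^ ((orb ζ).card * charDegree (ζ : N → ℂ)) * orbDet ζ n := by
  unfold orbDet
  rw [mem_orb_tw hβ, Finset.prod_image (fun a _ b _ h => mul_hom_injective β h)]
  have h1 : ∀ ψ ∈ orb ζ, detChar ((fun n => ((β n : ℂˣ) : ℂ)) * ψ) n =
      ((β n : ℂˣ) : ℂ) ^ charDegree (ζ : N → ℂ) * detChar ψ n := by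
    intro ψ hψ
    exact DetChar.detChar_mul_hom β (IsIrrCharacter.isCharacter (isIrr_of_mem_orb hψ))
      (by rw [one_of_mem_orb hψ]; exact Cfsg.Agent.Lib.CharKernel.one_eq_charDegree (IsIrrCharacter.isCharacter ζ.2)) n
  rw [Finset.prod_congr rfl h1, Finset.prod_mul_distrib, Finset.prod_const, ← pow_mul, mul_comm (charDegree _)]

/-- The key determinant computation. -/
theorem hom_pow_of_over (hNG : N ≤ commutator G) {β : N →* ℂˣ} (hβ : ∀ g : G, cj N g β = β)
    (ζ : IrrCharacter N) (R : ℕ) (hR : ∀ n, orbDet ζ n ^ R = 1) {χ : IrrCharacter G}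
    (h : Over N χ (tw N β ζ)) : β ^ (charDegree (χ : G → ℂ) * R) = 1 := by
  obtain ⟨f, hf0, hdeg, hdet⟩ := over_formula hNG h
  rw [card_orb_tw hβ, charDegree_tw] at hdeg
  ext n
  have h1 := hdet n
  rw [orbDet_tw hβ] at h1
  have h2 : (((β n : ℂˣ) : ℂ) ^ ((orb ζ).card * charDegree (ζ : N → ℂ)) * orbDet ζ n) ^ (f * R) = 1 := by
    rw [pow_mul, h1, one_pow]
  rw [mul_pow, mul_comm f R, pow_mul (orbDet ζ n), hR, one_pow, mul_one, ← pow_mul] at h2
  simp only [MonoidHom.pow_apply, Units.val_pow_eq_pow_val, MonoidHom.one_apply, Units.val_one]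
  rw [hdeg]
  convert h2 using 2
  ring

theorem detChar_lin (β : N →* ℂˣ) (n : N) : detChar (lin N β : N → ℂ) n = ((β n : ℂˣ) : ℂ) :=
  detChar_hom β n

theorem orbDet_lin_pow (κ : N →* ℂˣ) (R : ℕ) (hκ : κ ^ R = 1) (n : N) :
    orbDet (lin N κ) n ^ R = 1 := by
  unfold orbDet
  rw [← Finset.prod_pow]
  apply Finset.prod_eq_one
  intro ψ hψ
  obtain ⟨g, rfl⟩ := mem_orb.mp hψ
  rw [irrAut_lin, detChar_lin, ← Units.val_pow_eq_pow_val]
  have h1 : (cj N g κ) ^ R = 1 := by
    rw [← cj_hom_pow, hκ, cj_hom_one]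
  have h2 := congrArg (fun f : N →* ℂˣ => f n) h1
  simp only [MonoidHom.pow_apply, MonoidHom.one_apply] at h2
  rw [h2]
  rfl

/-- An invariant linear character: its order divides the degree. -/
theorem pow_deg_eq_one (hNG : N ≤ commutator G) {β : N →* ℂˣ} (hβ : ∀ g : G, cj N g β = β)
    {χ : IrrCharacter G} (h : Over N χ (lin N β)) : β ^ charDegree (χ : G → ℂ) = 1 := by
  have h1 := hom_pow_of_over hNG hβ (lin N 1) 1 (fun n => orbDet_lin_pow 1 1 (by ext n; simp) n)
    (χ := χ) (by rw [tw_lin_one]; exact h)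
  rwa [mul_one] at h1

theorem pow_deg_mul_eq_one (hNG : N ≤ commutator G) {β : N →* ℂˣ} (hβ : ∀ g : G, cj N g β = β)
    {χ χ' : IrrCharacter G} {ζ : IrrCharacter N} (h' : Over N χ' ζ) (h : Over N χ (tw N β ζ)) :
    β ^ (charDegree (χ : G → ℂ) * charDegree (χ' : G → ℂ)) = 1 := by
  obtain ⟨f, hf0, hdeg, hdet⟩ := over_formula hNG h'
  apply hom_pow_of_over hNG hβ ζ _ _ h
  intro n
  rw [hdeg, pow_mul, hdet, one_pow]

theorem pow_deg_mul_lin (hNG : N ≤ commutator G) {β : N →* ℂˣ} (hβ : ∀ g : G, cj N g β = β)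
    (κ : N →* ℂˣ) (R : ℕ) (hκ : κ ^ R = 1) {χ : IrrCharacter G} (h : Over N χ (lin N (β * κ))) :
    β ^ (charDegree (χ : G → ℂ) * R) = 1 := by
  apply hom_pow_of_over hNG hβ (lin N κ) R (fun n => orbDet_lin_pow κ R hκ n)
  rw [tw_lin]
  exact h

/-- A linear character fixing an irreducible character: its order divides the degree. -/
theorem pow_deg_of_tw_eq (w : N →* ℂˣ) (x : IrrCharacter N) (h : tw N w x = x) :
    w ^ charDegree (x : N → ℂ) = 1 := by
  have hxc := IsIrrCharacter.isCharacter x.2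
  ext n
  have h1 := DetChar.detChar_mul_hom w hxc (Cfsg.Agent.Lib.CharKernel.one_eq_charDegree hxc) n
  have h2 : (fun g => ((w g : ℂˣ) : ℂ)) * (x : N → ℂ) = (x : N → ℂ) := congrArg Subtype.val h
  rw [h2] at h1
  have h3 := CharDet.detChar_ne_zero hxc n
  have h4 : ((w n : ℂˣ) : ℂ) ^ charDegree (x : N → ℂ) = 1 := by
    have h5 : (((w n : ℂˣ) : ℂ) ^ charDegree (x : N → ℂ) - 1) * detChar (x : N → ℂ) n = 0 := by
      rw [sub_mul, one_mul, ← h1, sub_self]
    exact sub_eq_zero.mp ((mul_eq_zero.mp h5).resolve_right h3)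
  simp only [MonoidHom.pow_apply, Units.val_pow_eq_pow_val, MonoidHom.one_apply, Units.val_one]
  exact h4

end DetOrb

section Orbit

variable {G : Type u} [Group G] [Finite G]

/-- Subgroups of coprime indices: their product is the whole group. -/
theorem exists_mul_of_coprime (A B : Subgroup G) (h : Nat.Coprime A.index B.index) (g : G) :
    ∃ a ∈ A, ∃ b ∈ B, g = a * b := by
  classical
  have h1 : (A ⊓ B).index = (A ⊓ B).relIndex A * A.index :=
    (Subgroup.relIndex_mul_index inf_le_left).symm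
  have h2 : (A ⊓ B).index = (A ⊓ B).relIndex B * B.index :=
    (Subgroup.relIndex_mul_index inf_le_right).symm
  have h3 : B.index ∣ (A ⊓ B).relIndex A := by
    have h4 : B.index ∣ (A ⊓ B).relIndex A * A.index := by
      rw [← h1, h2]
      exact Dvd.intro_left _ rfl
    exact (Nat.Coprime.dvd_of_dvd_mul_right h.symm h4)
  have h5 : (A ⊓ B).relIndex A = B.relIndex A := by
    rw [inf_comm]
    exact Subgroup.inf_relIndex_right B A
  rw [h5] at h3
  -- the map of cosets
  let Φ : A ⧸ B.subgroupOf A → G ⧸ B := Quotient.lift (fun a : A => ((a : G) : G ⧸ B)) (by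
    intro a b hab
    have h6 : a⁻¹ * b ∈ B.subgroupOf A := QuotientGroup.leftRel_apply.mp hab
    rw [QuotientGroup.eq]
    exact h6)
  have hΦ : Function.Injective Φ := by
    intro a b hab
    obtain ⟨a, rfl⟩ := QuotientGroup.mk_surjective a
    obtain ⟨b, rfl⟩ := QuotientGroup.mk_surjective b
    have h6 : ((a : G) : G ⧸ B) = ((b : G) : G ⧸ B) := hab
    rw [QuotientGroup.eq] at h6
    rw [QuotientGroup.eq]
    exact h6
  have hcard : Nat.card (G ⧸ B) ≤ Nat.card (A ⧸ B.subgroupOf A) := by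
    have h7 : Nat.card (G ⧸ B) = B.index := rfl
    have h8 : Nat.card (A ⧸ B.subgroupOf A) = B.relIndex A := rfl
    rw [h7, h8]
    refine Nat.le_of_dvd ?_ h3
    show 0 < Nat.card (A ⧸ B.subgroupOf A)
    exact Nat.card_pos
  have hsurj : Function.Surjective Φ := (hΦ.bijective_of_nat_card_le hcard).2
  obtain ⟨x, hx⟩ := hsurj (g : G ⧸ B)
  obtain ⟨a, rfl⟩ := QuotientGroup.mk_surjective x
  have h6 : ((a : G) : G ⧸ B) = (g : G ⧸ B) := hx
  rw [QuotientGroup.eq] at h6
  refine ⟨a, a.2, (a : G)⁻¹ * g, h6, by group⟩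

variable {N : Subgroup G} [hN : N.Normal]

theorem hom_comm (a b : N →* ℂˣ) : a * b = b * a := by
  ext n
  simp only [MonoidHom.mul_apply]
  rw [mul_comm]

theorem hom_mul_pow (a b : N →* ℂˣ) (k : ℕ) : (a * b) ^ k = a ^ k * b ^ k := by
  ext n
  simp only [MonoidHom.mul_apply, MonoidHom.pow_apply]
  rw [mul_pow]

theorem hom_inv_pow (a : N →* ℂˣ) (k : ℕ) : a⁻¹ ^ k = (a ^ k)⁻¹ := by
  ext n
  simp [MonoidHom.pow_apply]

theorem hom_pow_succ (a : N →* ℂˣ) (k : ℕ) : a ^ (k + 1) = a * a ^ k := by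
  ext n
  simp only [MonoidHom.mul_apply, MonoidHom.pow_apply]
  rw [pow_succ']

theorem hom_pow_zero (a : N →* ℂˣ) : a ^ 0 = 1 := by
  ext n
  simp

theorem hom_inv_mul (a : N →* ℂˣ) : a⁻¹ * a = 1 := by
  ext n
  simp

theorem hom_mul_inv (a : N →* ℂˣ) : a * a⁻¹ = 1 := by
  ext n
  simp

theorem hom_one_mul (a : N →* ℂˣ) : 1 * a = a := by
  ext n
  simp

theorem hom_mul_one (a : N →* ℂˣ) : a * 1 = a := by
  ext n
  simp

theorem hom_mul_assoc (a b c : N →* ℂˣ) : a * b * c = a * (b * c) := by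
  ext n
  simp [mul_assoc]

theorem hom_one_pow (k : ℕ) : (1 : N →* ℂˣ) ^ k = 1 := by
  ext n
  simp [MonoidHom.pow_apply]

theorem hom_inv_one : (1 : N →* ℂˣ)⁻¹ = 1 := by
  ext n
  simp

theorem hom_pow_eq_one_iff (a : N →* ℂˣ) (k : ℕ) : a ^ k = 1 ↔ orderOf a ∣ k :=
  (orderOf_dvd_iff_pow_eq_one (x := a)).symm

theorem hom_eq_one_of_pow_coprime {a : N →* ℂˣ} {m n : ℕ} (h : Nat.Coprime m n) (hm : a ^ m = 1)
    (hn : a ^ n = 1) : a = 1 := by
  rw [hom_pow_eq_one_iff] at hm hn
  have h1 := Nat.dvd_gcd hm hn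
  rw [h, Nat.dvd_one, orderOf_eq_one_iff] at h1
  exact h1

/-- The action of `G` on the irreducible characters of `N`. -/
noncomputable def irrAct : MulAction G (IrrCharacter N) where
  smul g θ := irrAut (act N g) θ
  one_smul θ := by
    show irrAut (act N 1) θ = θ
    rw [map_one, irrAut_one]
  mul_smul a b θ := by
    show irrAut (act N (a * b)) θ = irrAut (act N a) (irrAut (act N b) θ)
    rw [map_mul, irrAut_mul]

theorem index_stb_eq_card (θ : IrrCharacter N) :
    letI := irrAct (N := N)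
    (stb θ).index = Nat.card (MulAction.orbit G θ) := by
  letI := irrAct (N := N)
  have h1 : MulAction.stabilizer G θ = stb θ := by
    ext g
    rw [mem_stb]
    rfl
  rw [← h1, MulAction.index_stabilizer, Nat.card_coe_set_eq]

theorem index_stb_irrAut (g : G) (θ : IrrCharacter N) :
    (stb (irrAut (act N g) θ)).index = (stb θ).index := by
  letI := irrAct (N := N)
  rw [index_stb_eq_card, index_stb_eq_card]
  have h1 : MulAction.orbit G (irrAut (act N g) θ) = MulAction.orbit G θ := MulAction.orbit_smul g θ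
  rw [h1]

/-- A fixed point free permutation of `r`-power order: the prime divides the cardinality. -/
theorem prime_dvd_card_of_free {α : Type*} [Finite α] (r : ℕ) [hr : Fact r.Prime] (σ : α → α)
    (k : ℕ) (hσ : ∀ a, σ^[r ^ k] a = a) (hfree : ∀ a, σ a ≠ a) : r ∣ Nat.card α := by
  classical
  have hinj : Function.Injective σ := by
    have h1 : r ^ k ≠ 0 := pow_ne_zero _ hr.out.ne_zero
    obtain ⟨j, hj⟩ := Nat.exists_eq_succ_of_ne_zero h1
    intro a b hab
    have h2 : σ^[r ^ k] a = σ^[r ^ k] b := by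
      rw [hj, Function.iterate_succ_apply, Function.iterate_succ_apply, hab]
    rwa [hσ, hσ] at h2
  let s : Equiv.Perm α := Equiv.ofBijective σ (Finite.injective_iff_bijective.mp hinj)
  have hsval : ∀ a, s a = σ a := fun a => rfl
  have hpow : ∀ (j : ℕ) (a : α), (s ^ j) a = σ^[j] a := by
    intro j a
    induction j with
    | zero => rfl
    | succ j ih =>
      rw [pow_succ', Equiv.Perm.mul_apply, ih, hsval, Function.iterate_succ_apply']
  have hs : s ^ r ^ k = 1 := by
    ext a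
    rw [hpow, hσ]
    rfl
  let C : Subgroup (Equiv.Perm α) := Subgroup.zpowers s
  have hC : IsPGroup r C := by
    rintro ⟨x, hx⟩
    refine ⟨k, ?_⟩
    obtain ⟨j, rfl⟩ := Subgroup.mem_zpowers_iff.mp hx
    apply Subtype.ext
    show (s ^ j) ^ r ^ k = 1
    rw [← zpow_natCast, ← zpow_mul, mul_comm, zpow_mul, zpow_natCast, hs, one_zpow]
  have h1 := hC.card_modEq_card_fixedPoints α
  have h2 : Nat.card (MulAction.fixedPoints C α) = 0 := by
    have : IsEmpty (MulAction.fixedPoints C α) := by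
      constructor
      rintro ⟨a, ha⟩
      have h3 := ha ⟨s, Subgroup.mem_zpowers s⟩
      exact hfree a h3
    exact Nat.card_of_isEmpty
  rw [h2] at h1
  exact (Nat.modEq_zero_iff_dvd).mp h1

theorem eq_one_of_pow_coprime {A : Type*} [Group A] {a : A} {m n : ℕ} (h : Nat.Coprime m n)
    (hm : a ^ m = 1) (hn : a ^ n = 1) : a = 1 := by
  have h1 := Nat.dvd_gcd (orderOf_dvd_of_pow_eq_one hm) (orderOf_dvd_of_pow_eq_one hn)
  rw [h, Nat.dvd_one, orderOf_eq_one_iff] at h1
  exact h1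

/-- **The orbit lemma.** Let `θ` be of degree and orbit size prime to `r` and `lam` a non-invariant
linear character of `r`-power order. Then some conjugate `x` of `θ` is such that the orbit of
`lam x` has a size not coprime to that of `lam`. -/
theorem exists_noncoprime {r : ℕ} [hr : Fact r.Prime] (θ : IrrCharacter N)
    (hθ : ¬ r ∣ charDegree (θ : N → ℂ)) (hT : ¬ r ∣ (stb θ).index) (lam : N →* ℂˣ) {k : ℕ}
    (hlam : lam ^ r ^ k = 1) (hd : ∃ h : G, cj N h lam ≠ lam) :
    ∃ g : G, ¬ Nat.Coprime (stb (tw N lam (irrAut (act N g) θ))).index (stb (lin N lam)).index := by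
  by_contra hc
  push Not at hc
  obtain ⟨h, hh⟩ := hd
  letI := irrAct (N := N)
  set w : N →* ℂˣ := lam * (cj N h lam)⁻¹ with hw
  have hw1 : w ≠ 1 := by
    intro h1
    apply hh
    have h2 : lam * (cj N h lam)⁻¹ * cj N h lam = cj N h lam := by
      rw [← hw, h1, hom_one_mul]
    rw [hom_mul_assoc, hom_inv_mul, hom_mul_one] at h2
    exact h2.symm
  have hwk : w ^ r ^ k = 1 := by
    have h1 : cj N h lam ^ r ^ k = 1 := by
      rw [← cj_hom_pow, hlam, cj_hom_one]
    rw [hw, hom_mul_pow, hom_inv_pow, hlam, h1, hom_inv_one, hom_mul_one]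
  have hmem : ∀ x ∈ MulAction.orbit G θ, tw N w x ∈ MulAction.orbit G θ := by
    rintro x ⟨g, rfl⟩
    have hx : (fun m => m • θ) g = irrAut (act N g) θ := rfl
    rw [hx]
    set z := tw N lam (irrAut (act N g) θ) with hz
    obtain ⟨a, ha, b, hb, hab⟩ := exists_mul_of_coprime (stb z) (stb (lin N lam)) (hc g) h
    have h1 : cj N h lam = cj N a lam := by
      rw [hab, cj_mul, mem_stb_lin.mp hb]
    have h2 : z = tw N (cj N h lam) (irrAut (act N a) (irrAut (act N g) θ)) := by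
      conv_lhs => rw [← mem_stb.mp ha, hz, irrAut_tw]
      rw [h1]
    have h3 : tw N w (irrAut (act N g) θ) = irrAut (act N a) (irrAut (act N g) θ) := by
      rw [hw, hom_comm, tw_mul, ← hz, h2, ← tw_mul, hom_inv_mul, tw_one]
    rw [h3]
    exact ⟨a * g, by
      show irrAut (act N (a * g)) θ = _
      rw [map_mul, irrAut_mul]⟩
  let σ : MulAction.orbit G θ → MulAction.orbit G θ := fun x => ⟨tw N w x.1, hmem x.1 x.2⟩
  have hσ : ∀ (j : ℕ) (x : MulAction.orbit G θ), (σ^[j] x).1 = tw N (w ^ j) x.1 := by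
    intro j x
    induction j with
    | zero =>
      simp only [Function.iterate_zero, id_eq]
      rw [hom_pow_zero, tw_one]
    | succ j ih =>
      rw [Function.iterate_succ_apply']
      show tw N w (σ^[j] x).1 = _
      rw [ih, hom_pow_succ, tw_mul w (w ^ j)]
  have hdvd : r ∣ Nat.card (MulAction.orbit G θ) := by
    apply prime_dvd_card_of_free r σ k
    · intro x
      apply Subtype.ext
      rw [hσ, hwk, tw_one]
    · intro x hx
      have h1 : tw N w x.1 = x.1 := congrArg Subtype.val hx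
      have h2 := pow_deg_of_tw_eq w x.1 h1
      obtain ⟨g, hg⟩ := x.2
      have h3 : charDegree (x.1 : N → ℂ) = charDegree (θ : N → ℂ) := by
        rw [← hg]
        exact charDegree_irrAut g θ
      rw [h3] at h2
      apply hw1
      refine hom_eq_one_of_pow_coprime ?_ h2 hwk
      exact Nat.Coprime.pow_right k ((Nat.coprime_comm.mp ((Nat.Prime.coprime_iff_not_dvd hr.out).mpr hθ)))
  rw [← index_stb_eq_card] at hdvd
  exact hT hdvd

/-- The linear case of the orbit lemma. -/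
theorem not_coprime_mul {r : ℕ} [hr : Fact r.Prime] (κ lam : N →* ℂˣ) {k : ℕ} (hκ : κ ^ r ^ k = 1)
    (hr' : ¬ r ∣ (stb (lin N lam)).index) (hd : ∃ h : G, cj N h κ ≠ κ)
    (hcop : Nat.Coprime (stb (lin N κ)).index (stb (lin N lam)).index) :
    ¬ Nat.Coprime (stb (lin N (κ * lam))).index (stb (lin N κ)).index := by
  obtain ⟨g, hg⟩ := exists_noncoprime (lin N lam) (by
    rw [charDegree_lin]
    exact fun h => hr.out.one_lt.ne' (Nat.dvd_one.mp h)) hr' κ hκ hd
  obtain ⟨a, ha, b, hb, hab⟩ := exists_mul_of_coprime _ _ hcop g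
  have h1 : irrAut (act N g) (lin N lam) = lin N (cj N a lam) := by
    rw [irrAut_lin, hab, cj_mul, mem_stb_lin.mp hb]
  have h2 : tw N κ (irrAut (act N g) (lin N lam)) = irrAut (act N a) (lin N (κ * lam)) := by
    rw [h1, tw_lin, irrAut_lin, cj_hom_mul, mem_stb_lin.mp ha]
  rw [h2, index_stb_irrAut] at hg
  exact hg

end Orbit

section Main

variable {G : Type u} [Group G] [Finite G] {N : Subgroup G} [hN : N.Normal]

theorem charDegree_ne_zero {Γ : Type u} [Group Γ] (χ : IrrCharacter Γ) : charDegree (χ : Γ → ℂ) ≠ 0 := by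
  intro h
  have h1 := Cfsg.Agent.Lib.CharKernel.one_eq_charDegree (IsIrrCharacter.isCharacter χ.2)
  rw [h] at h1
  exact irr_degree_ne_zero χ.2 (by simpa using h1)

theorem one_lt_gcd_of_dvd {a b d : ℕ} (hd : 1 < d) (ha : d ∣ a) (hb : d ∣ b) (ha0 : a ≠ 0) :
    1 < Nat.gcd a b :=
  lt_of_lt_of_le hd (Nat.le_of_dvd (Nat.gcd_pos_of_pos_left _ (Nat.pos_of_ne_zero ha0)) (Nat.dvd_gcd ha hb))

theorem one_lt_gcd_of_not_coprime {x y a b : ℕ} (h : ¬ Nat.Coprime x y) (hx : x ∣ a) (hy : y ∣ b)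
    (ha0 : a ≠ 0) : 1 < Nat.gcd a b := by
  have hx0 : x ≠ 0 := fun h0 => ha0 (by rw [h0] at hx; exact Nat.eq_zero_of_zero_dvd hx)
  have h1 : 0 < Nat.gcd x y := Nat.gcd_pos_of_pos_left _ (Nat.pos_of_ne_zero hx0)
  have h2 : 1 < Nat.gcd x y := by
    have h3 : Nat.gcd x y ≠ 1 := h
    omega
  exact one_lt_gcd_of_dvd h2 ((Nat.gcd_dvd_left x y).trans hx) ((Nat.gcd_dvd_right x y).trans hy) ha0

/-- Reachability in the common-divisor graph on the relative degrees. -/
def Rch (N : Subgroup G) (a b : ℕ) : Prop :=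
  ∃ (ha : a ∈ relCharDegrees N) (hb : b ∈ relCharDegrees N),
    (commonDivisorGraph.induce (relCharDegrees N)).Reachable ⟨a, ha⟩ ⟨b, hb⟩

theorem Rch.symm {a b : ℕ} (h : Rch N a b) : Rch N b a := by
  obtain ⟨ha, hb, h⟩ := h
  exact ⟨hb, ha, h.symm⟩

theorem Rch.trans {a b c : ℕ} (h : Rch N a b) (h' : Rch N b c) : Rch N a c := by
  obtain ⟨ha, hb, h⟩ := h
  obtain ⟨_, hc, h'⟩ := h'
  exact ⟨ha, hc, h.trans h'⟩

theorem rch_of_gcd {a b : ℕ} (ha : a ∈ relCharDegrees N) (hb : b ∈ relCharDegrees N)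
    (h : 1 < Nat.gcd a b) : Rch N a b := by
  refine ⟨ha, hb, ?_⟩
  by_cases hab : a = b
  · subst hab
    exact SimpleGraph.Reachable.refl _
  · apply SimpleGraph.Adj.reachable
    exact ⟨hab, h⟩

theorem mem_rel_of_over {γ : IrrCharacter G} {ν : IrrCharacter N} (h : Over N γ ν)
    (hν : ν ≠ lin N 1) : charDegree (γ : G → ℂ) ∈ relCharDegrees N :=
  ⟨γ, exists_ne_of_over h hν, rfl⟩

theorem lin_ne_one {lam : N →* ℂˣ} (h : lam ≠ 1) : lin N lam ≠ lin N 1 :=
  fun h1 => h (lin_injective h1)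

theorem exists_eq_lin {θ : IrrCharacter N} (h : charDegree (θ : N → ℂ) = 1) :
    ∃ μ : N →* ℂˣ, θ = lin N μ := by
  have hc := IsIrrCharacter.isCharacter θ.2
  have h1 : (θ : N → ℂ) 1 = 1 := by
    rw [Cfsg.Agent.Lib.CharKernel.one_eq_charDegree hc, h]
    simp
  obtain ⟨f, hf⟩ := exists_hom_of_degree_one hc h1
  exact ⟨f, Subtype.ext (funext hf)⟩

theorem stb_eq_top_iff {θ : IrrCharacter N} : (stb θ).index = 1 ↔ ∀ g : G, irrAut (act N g) θ = θ := by
  rw [Subgroup.index_eq_one]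
  constructor
  · intro h g
    have : g ∈ stb θ := by
      rw [h]
      exact Subgroup.mem_top g
    exact mem_stb.mp this
  · intro h
    rw [eq_top_iff]
    intro g _
    exact mem_stb.mpr (h g)

theorem stb_lin_index_eq_one_iff {β : N →* ℂˣ} :
    (stb (lin N β)).index = 1 ↔ ∀ g : G, cj N g β = β := by
  rw [stb_eq_top_iff]
  constructor
  · intro h g
    have := h g
    rw [irrAut_lin] at this
    exact lin_injective this
  · intro h g
    rw [irrAut_lin, h]

theorem stb_lin_one_index : (stb (lin N (1 : N →* ℂˣ))).index = 1 :=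
  stb_lin_index_eq_one_iff.mpr (fun g => cj_hom_one g)

/-- Splitting a linear character in its `r`-part and its `r'`-part. -/
theorem exists_split (r : ℕ) [hr : Fact r.Prime] (μ : N →* ℂˣ) :
    ∃ μ' κ : N →* ℂˣ, μ = μ' * κ ∧ (∃ k, κ ^ r ^ k = 1) ∧ (∃ m, ¬ r ∣ m ∧ μ' ^ m = 1) ∧
      ∀ g : G, cj N g μ = μ → cj N g μ' = μ' ∧ cj N g κ = κ := by
  have h0 : μ ^ Nat.card N = 1 := by
    ext n
    simp only [MonoidHom.pow_apply, MonoidHom.one_apply]
    rw [← map_pow, pow_card_eq_one']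
    simp
  have he : orderOf μ ≠ 0 := by
    intro h
    have h1 := (hom_pow_eq_one_iff μ _).mp h0
    rw [h, zero_dvd_iff] at h1
    exact Nat.card_pos.ne' h1
  obtain ⟨k, m, hm, hkm⟩ := Nat.exists_eq_pow_mul_and_not_dvd he r hr.out.ne_one
  have hcop : Nat.Coprime m (r ^ k) :=
    Nat.Coprime.pow_right k (Nat.coprime_comm.mp ((Nat.Prime.coprime_iff_not_dvd hr.out).mpr hm))
  let x : ℕ := Nat.chineseRemainder hcop 1 0
  let y : ℕ := Nat.chineseRemainder hcop 0 1
  have hx1 : x ≡ 1 [MOD m] := (Nat.chineseRemainder hcop 1 0).2.1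
  have hx2 : x ≡ 0 [MOD r ^ k] := (Nat.chineseRemainder hcop 1 0).2.2
  have hy1 : y ≡ 0 [MOD m] := (Nat.chineseRemainder hcop 0 1).2.1
  have hy2 : y ≡ 1 [MOD r ^ k] := (Nat.chineseRemainder hcop 0 1).2.2
  have hxd : r ^ k ∣ x := (Nat.modEq_zero_iff_dvd).mp hx2
  have hyd : m ∣ y := (Nat.modEq_zero_iff_dvd).mp hy1
  refine ⟨μ ^ x, μ ^ y, ?_, ⟨k, ?_⟩, ⟨m, hm, ?_⟩, ?_⟩
  · have h1 : x + y ≡ 1 [MOD orderOf μ] := by
      rw [hkm, mul_comm]
      apply (Nat.modEq_and_modEq_iff_modEq_mul hcop).mp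
      constructor
      · have := hx1.add hy1
        simpa using this
      · have := hx2.add hy2
        simpa using this
    have h2 : μ ^ (x + y) = μ ^ 1 := (pow_eq_pow_iff_modEq (x := μ)).mpr h1
    ext n
    have h3 := congrArg (fun f : N →* ℂˣ => f n) h2
    simp only [MonoidHom.pow_apply, pow_one, pow_add, MonoidHom.mul_apply] at h3 ⊢
    rw [h3]
  · rw [hom_pow_eq_one_iff]
    have h1 : orderOf μ ∣ y * r ^ k := by
      rw [hkm, mul_comm (r ^ k) m]
      exact Nat.mul_dvd_mul_right hyd _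
    have h2 : (μ ^ y) ^ r ^ k = 1 := by
      have h3 : μ ^ (y * r ^ k) = 1 := (hom_pow_eq_one_iff _ _).mpr h1
      ext n
      have h4 := congrArg (fun f : N →* ℂˣ => f n) h3
      simp only [MonoidHom.pow_apply, MonoidHom.one_apply, pow_mul] at h4 ⊢
      rw [h4]
    exact (hom_pow_eq_one_iff _ _).mp h2
  · have h1 : orderOf μ ∣ x * m := by
      rw [hkm]
      exact Nat.mul_dvd_mul_right hxd _
    have h3 : μ ^ (x * m) = 1 := (hom_pow_eq_one_iff _ _).mpr h1
    ext n
    have h4 := congrArg (fun f : N →* ℂˣ => f n) h3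
    simp only [MonoidHom.pow_apply, MonoidHom.one_apply, pow_mul] at h4 ⊢
    rw [h4]
  · intro g hg
    rw [cj_hom_pow, cj_hom_pow, hg]
    exact ⟨rfl, rfl⟩

/-- For homomorphisms of coprime orders the factors are powers of the product. -/
theorem split_powers {r : ℕ} [hr : Fact r.Prime] {A B : N →* ℂˣ} {m k : ℕ} (hm : ¬ r ∣ m)
    (hA : A ^ m = 1) (hB : B ^ r ^ k = 1) : ∃ x y : ℕ, (A * B) ^ x = A ∧ (A * B) ^ y = B := by
  have hcop : Nat.Coprime m (r ^ k) :=
    Nat.Coprime.pow_right k (Nat.coprime_comm.mp ((Nat.Prime.coprime_iff_not_dvd hr.out).mpr hm))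
  let x : ℕ := Nat.chineseRemainder hcop 1 0
  let y : ℕ := Nat.chineseRemainder hcop 0 1
  have hx1 : x ≡ 1 [MOD m] := (Nat.chineseRemainder hcop 1 0).2.1
  have hx2 : x ≡ 0 [MOD r ^ k] := (Nat.chineseRemainder hcop 1 0).2.2
  have hy1 : y ≡ 0 [MOD m] := (Nat.chineseRemainder hcop 0 1).2.1
  have hy2 : y ≡ 1 [MOD r ^ k] := (Nat.chineseRemainder hcop 0 1).2.2
  have hpow : ∀ (C : N →* ℂˣ) (e i j : ℕ), C ^ e = 1 → i ≡ j [MOD e] → C ^ i = C ^ j := by
    intro C e i j hC hij
    have h1 : orderOf C ∣ e := (hom_pow_eq_one_iff _ _).mp hC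
    exact (pow_eq_pow_iff_modEq (x := C)).mpr (hij.of_dvd h1)
  refine ⟨x, y, ?_, ?_⟩
  · rw [hom_mul_pow, hpow A m x 1 hA hx1, hpow B (r ^ k) x 0 hB hx2]
    ext n
    simp
  · rw [hom_mul_pow, hpow A m y 0 hA hy1, hpow B (r ^ k) y 1 hB hy2]
    ext n
    simp

theorem stb_lin_le_of_pow {A B : N →* ℂˣ} {x : ℕ} (h : B ^ x = A) :
    stb (lin N B) ≤ stb (lin N A) := by
  intro g hg
  rw [mem_stb_lin] at hg ⊢
  rw [← h, cj_hom_pow, hg]

theorem index_dvd_deg_lin {γ : IrrCharacter G} {β : N →* ℂˣ} (h : Over N γ (lin N β)) :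
    (stb (lin N β)).index ∣ charDegree (γ : G → ℂ) := by
  have h1 := degree_over h
  rwa [charDegree_lin, mul_one] at h1

theorem not_dvd_index_of_le {r : ℕ} [hr : Fact r.Prime] (P : Sylow r G) {T : Subgroup G}
    (h : (P : Subgroup G) ≤ T) : ¬ r ∣ T.index := fun h1 =>
  P.not_dvd_index (h1.trans (Subgroup.index_dvd_of_le h))

theorem prime_dvd_of_pow {r : ℕ} [hr : Fact r.Prime] {lam : N →* ℂˣ} (h1 : lam ≠ 1) {k d : ℕ}
    (hk : lam ^ r ^ k = 1) (hd : lam ^ d = 1) : r ∣ d := by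
  by_contra h
  apply h1
  refine hom_eq_one_of_pow_coprime ?_ hd hk
  exact Nat.Coprime.pow_right k (Nat.coprime_comm.mp ((Nat.Prime.coprime_iff_not_dvd hr.out).mpr h))

theorem dvd_of_dvd_mul_pow {s r k d : ℕ} (hs : s.Prime) (hr : r.Prime) (hsr : s ≠ r) (h : s ∣ d * r ^ k) :
    s ∣ d := by
  rcases (Nat.Prime.dvd_mul hs).mp h with h1 | h1
  · exact h1
  · exact absurd ((Nat.prime_dvd_prime_iff_eq hs hr).mp (hs.dvd_of_dvd_pow h1)) hsr

/-- **The connection lemma.** -/
theorem connect (hNG : N ≤ commutator G) {r : ℕ} [hr : Fact r.Prime] (P : Sylow r G)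
    (χ : IrrCharacter G) (hχ : ∃ x ∈ N, (χ : G → ℂ) x ≠ (χ : G → ℂ) 1)
    (hrχ : ¬ r ∣ charDegree (χ : G → ℂ)) (θ : IrrCharacter N) (hθ : Over N χ θ)
    (hPθ : (P : Subgroup G) ≤ stb θ) (lam : N →* ℂˣ) (hlam1 : lam ≠ 1) {k : ℕ}
    (hlamk : lam ^ r ^ k = 1) (hPlam : (P : Subgroup G) ≤ stb (lin N lam))
    {ψ : IrrCharacter G} (hψ : Over N ψ (lin N lam)) :
    Rch N (charDegree (χ : G → ℂ)) (charDegree (ψ : G → ℂ)) := by
  have hrp := hr.out
  have haR : charDegree (χ : G → ℂ) ∈ relCharDegrees N := ⟨χ, hχ, rfl⟩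
  have hψR := mem_rel_of_over hψ (lin_ne_one hlam1)
  have ha0 := charDegree_ne_zero χ
  have hψ0 := charDegree_ne_zero ψ
  have hθdvd := degree_over hθ
  have hθdeg : charDegree (θ : N → ℂ) ∣ charDegree (χ : G → ℂ) := (Dvd.intro_left _ rfl).trans hθdvd
  have hθstb : (stb θ).index ∣ charDegree (χ : G → ℂ) := (Dvd.intro _ rfl).trans hθdvd
  by_cases hinv : ∀ g : G, cj N g lam = lam
  · -- the invariant case
    have hνne : tw N lam θ ≠ lin N 1 := by
      intro h
      have h1 : θ = lin N lam⁻¹ := by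
        have h2 : tw N lam⁻¹ (tw N lam θ) = θ := by
          rw [← tw_mul, hom_inv_mul, tw_one]
        rw [← h2, h, tw_lin_one]
      rw [h1] at hθ
      have hinv' : ∀ g : G, cj N g lam⁻¹ = lam⁻¹ := fun g => by rw [cj_hom_inv, hinv]
      have h3 := pow_deg_eq_one hNG hinv' hθ
      rw [hom_inv_pow] at h3
      have h4 : lam ^ charDegree (χ : G → ℂ) = 1 := by
        ext n
        have h5 := congrArg (fun f : N →* ℂˣ => f n) h3
        simp only [MonoidHom.inv_apply, MonoidHom.pow_apply, MonoidHom.one_apply, inv_eq_one] at h5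
        simp only [MonoidHom.pow_apply, MonoidHom.one_apply]
        rw [h5]
      exact hrχ (prime_dvd_of_pow hlam1 hlamk h4)
    obtain ⟨γ, hγ⟩ := exists_over_irr (tw N lam θ)
    have hγR := mem_rel_of_over hγ hνne
    have h1 := pow_deg_mul_eq_one hNG hinv hθ hγ
    have hrγ : r ∣ charDegree (γ : G → ℂ) := by
      have h2 := prime_dvd_of_pow hlam1 hlamk h1
      exact ((Nat.Prime.dvd_mul hrp).mp h2).resolve_right hrχ
    have hrψ : r ∣ charDegree (ψ : G → ℂ) := prime_dvd_of_pow hlam1 hlamk (pow_deg_eq_one hNG hinv hψ)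
    have hγ0 := charDegree_ne_zero γ
    have rch2 : Rch N (charDegree (γ : G → ℂ)) (charDegree (ψ : G → ℂ)) :=
      rch_of_gcd hγR hψR (one_lt_gcd_of_dvd hrp.one_lt hrγ hrψ hγ0)
    refine Rch.trans (rch_of_gcd haR hγR ?_) rch2
    -- the stabilizers
    have hstb : stb (tw N lam θ) = stb θ := by
      ext g
      rw [mem_stb, mem_stb, irrAut_tw, hinv g]
      constructor
      · intro h
        have h2 := congrArg (tw N lam⁻¹) h
        rwa [← tw_mul, ← tw_mul, hom_inv_mul, tw_one, tw_one] at h2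
      · intro h
        rw [h]
    have hγdvd := degree_over hγ
    rw [hstb, charDegree_tw] at hγdvd
    by_cases he : 1 < (stb θ).index * charDegree (θ : N → ℂ)
    · exact one_lt_gcd_of_dvd he hθdvd hγdvd ha0
    · have hpos : 0 < (stb θ).index * charDegree (θ : N → ℂ) :=
        Nat.pos_of_ne_zero (mul_ne_zero Subgroup.index_ne_zero_of_finite (charDegree_ne_zero θ))
      have he1 : (stb θ).index * charDegree (θ : N → ℂ) = 1 := by omega
      have hi1 : (stb θ).index = 1 := Nat.eq_one_of_mul_eq_one_right he1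
      have hd1 : charDegree (θ : N → ℂ) = 1 := Nat.eq_one_of_mul_eq_one_left he1
      obtain ⟨μ, rfl⟩ := exists_eq_lin hd1
      have hμinv : ∀ g : G, cj N g μ = μ := stb_lin_index_eq_one_iff.mp hi1
      have hμ1 : μ ≠ 1 := by
        rintro rfl
        obtain ⟨x, hx, hx'⟩ := hχ
        exact hx' (eq_of_over_one hθ x hx)
      have hord : orderOf μ ≠ 1 := fun h => hμ1 (orderOf_eq_one_iff.mp h)
      have hs := Nat.minFac_prime hord
      set s := (orderOf μ).minFac with hsdef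
      have hsord : s ∣ orderOf μ := Nat.minFac_dvd _
      have h2 : s ∣ charDegree (χ : G → ℂ) :=
        hsord.trans ((hom_pow_eq_one_iff _ _).mp (pow_deg_eq_one hNG hμinv hθ))
      have hsr : s ≠ r := fun h => hrχ (h ▸ h2)
      have hγ' : Over N γ (lin N (μ * lam)) := by
        have h3 : tw N lam (lin N μ) = lin N (μ * lam) := by
          rw [tw_lin, hom_comm]
        rw [h3] at hγ
        exact hγ
      have h3 := pow_deg_mul_lin hNG hμinv lam (r ^ k) hlamk hγ'
      have h4 : s ∣ charDegree (γ : G → ℂ) * r ^ k := hsord.trans ((hom_pow_eq_one_iff _ _).mp h3)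
      exact one_lt_gcd_of_dvd hs.one_lt h2 (dvd_of_dvd_mul_pow hs hrp hsr h4) ha0
  · -- the non-invariant case
    push Not at hinv
    obtain ⟨h, hh⟩ := hinv
    have hdψ : (stb (lin N lam)).index ∣ charDegree (ψ : G → ℂ) := index_dvd_deg_lin hψ
    have hd1 : (stb (lin N lam)).index ≠ 1 := fun h1 => hh (stb_lin_index_eq_one_iff.mp h1 h)
    have hd0 : (stb (lin N lam)).index ≠ 0 := Subgroup.index_ne_zero_of_finite
    have hdlt : 1 < (stb (lin N lam)).index := by omega
    have hdr : ¬ r ∣ (stb (lin N lam)).index := not_dvd_index_of_le P hPlam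
    by_cases hθ1 : charDegree (θ : N → ℂ) = 1
    · obtain ⟨μ, rfl⟩ := exists_eq_lin hθ1
      have hμ1 : μ ≠ 1 := by
        rintro rfl
        obtain ⟨x, hx, hx'⟩ := hχ
        exact hx' (eq_of_over_one hθ x hx)
      obtain ⟨μ', κ, hμ, ⟨k₁, hκ⟩, ⟨m, hm, hμ'⟩, hfix⟩ := exists_split r μ
      obtain ⟨x₁, y₁, hx₁, hy₁⟩ := split_powers hm hμ' hlamk
      have hνstb1 : stb (lin N (μ' * lam)) ≤ stb (lin N lam) := stb_lin_le_of_pow hy₁
      have hνstb2 : stb (lin N (μ' * lam)) ≤ stb (lin N μ') := stb_lin_le_of_pow hx₁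
      have hμstb : stb (lin N μ) ≤ stb (lin N μ') := by
        intro g hg
        rw [mem_stb_lin] at hg ⊢
        exact (hfix g hg).1
      have hνne : μ' * lam ≠ 1 := by
        intro h1
        rw [h1] at hνstb1
        have h2 := Subgroup.index_dvd_of_le hνstb1
        rw [stb_lin_one_index, Nat.dvd_one] at h2
        exact hd1 h2
      by_cases hμ'inv : ∀ g : G, cj N g μ' = μ'
      · by_cases hμ'1 : μ' = 1
        · -- `μ` has `r`-power order
          have hμκ : μ = κ := by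
            rw [hμ, hμ'1, hom_one_mul]
          rw [← hμκ] at hκ
          have hμn : ¬ ∀ g : G, cj N g μ = μ := by
            intro hi
            have h1 := pow_deg_eq_one hNG hi hθ
            exact hrχ (prime_dvd_of_pow hμ1 hκ h1)
          push Not at hμn
          obtain ⟨h₂, hh₂⟩ := hμn
          have hdκ1 : (stb (lin N μ)).index ≠ 1 := fun h1 => hh₂ (stb_lin_index_eq_one_iff.mp h1 h₂)
          have hdκ : (stb (lin N μ)).index ∣ charDegree (χ : G → ℂ) := index_dvd_deg_lin hθ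
          have hdκr : ¬ r ∣ (stb (lin N μ)).index := not_dvd_index_of_le P hPθ
          by_cases hc : Nat.Coprime (stb (lin N μ)).index (stb (lin N lam)).index
          · have h1 := not_coprime_mul μ lam hκ hdr ⟨h₂, hh₂⟩ hc
            have h2 := not_coprime_mul lam μ hlamk hdκr ⟨h, hh⟩ hc.symm
            rw [hom_comm] at h2
            have hνne' : μ * lam ≠ 1 := by
              intro h3
              have h4 : lam = μ⁻¹ := by
                have h5 : μ⁻¹ * (μ * lam) = μ⁻¹ := by rw [h3, hom_mul_one]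
                rwa [← hom_mul_assoc, hom_inv_mul, hom_one_mul] at h5
              have h6 : stb (lin N μ) ≤ stb (lin N lam) := by
                intro g hg
                rw [mem_stb_lin] at hg ⊢
                rw [h4, cj_hom_inv, hg]
              have h7 := Subgroup.index_dvd_of_le h6
              have h8 : (stb (lin N lam)).index = 1 :=
                Nat.Coprime.eq_one_of_dvd hc.symm h7
              exact hd1 h8
            obtain ⟨γ, hγ⟩ := exists_over_irr (lin N (μ * lam))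
            have hγR := mem_rel_of_over hγ (lin_ne_one hνne')
            have hW := index_dvd_deg_lin hγ
            exact Rch.trans (rch_of_gcd haR hγR (one_lt_gcd_of_not_coprime (fun h3 => h1 h3.symm) hdκ hW ha0))
              (rch_of_gcd hγR hψR (one_lt_gcd_of_not_coprime h2 hW hdψ (charDegree_ne_zero γ)))
          · exact rch_of_gcd haR hψR (one_lt_gcd_of_not_coprime hc hdκ hdψ ha0)
        · -- the `r'`-part is invariant and nontrivial
          have hord : orderOf μ' ≠ 1 := fun h => hμ'1 (orderOf_eq_one_iff.mp h)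
          have hs := Nat.minFac_prime hord
          set s := (orderOf μ').minFac with hsdef
          have hsord : s ∣ orderOf μ' := Nat.minFac_dvd _
          have hsr : s ≠ r := by
            intro h1
            apply hm
            rw [← h1]
            exact hsord.trans ((hom_pow_eq_one_iff _ _).mp hμ')
          have h2 : s ∣ charDegree (χ : G → ℂ) := by
            rw [hμ] at hθ
            have h3 := pow_deg_mul_lin hNG hμ'inv κ (r ^ k₁) hκ hθ
            exact dvd_of_dvd_mul_pow hs hrp hsr (hsord.trans ((hom_pow_eq_one_iff _ _).mp h3))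
          obtain ⟨γ, hγ⟩ := exists_over_irr (lin N (μ' * lam))
          have hγR := mem_rel_of_over hγ (lin_ne_one hνne)
          have h3 := pow_deg_mul_lin hNG hμ'inv lam (r ^ k) hlamk hγ
          have h4 : s ∣ charDegree (γ : G → ℂ) :=
            dvd_of_dvd_mul_pow hs hrp hsr (hsord.trans ((hom_pow_eq_one_iff _ _).mp h3))
          have hW := index_dvd_deg_lin hγ
          exact Rch.trans (rch_of_gcd haR hγR (one_lt_gcd_of_dvd hs.one_lt h2 h4 ha0))
            (rch_of_gcd hγR hψR (one_lt_gcd_of_dvd hdlt ((Subgroup.index_dvd_of_le hνstb1).trans hW) hdψ (charDegree_ne_zero γ)))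
      · -- the `r'`-part is not invariant
        push Not at hμ'inv
        obtain ⟨h₃, hh₃⟩ := hμ'inv
        have hd'1 : (stb (lin N μ')).index ≠ 1 := fun h1 => hh₃ (stb_lin_index_eq_one_iff.mp h1 h₃)
        have hd'0 : (stb (lin N μ')).index ≠ 0 := Subgroup.index_ne_zero_of_finite
        have hd'lt : 1 < (stb (lin N μ')).index := by omega
        have hd'χ : (stb (lin N μ')).index ∣ charDegree (χ : G → ℂ) :=
          (Subgroup.index_dvd_of_le hμstb).trans (index_dvd_deg_lin hθ)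
        obtain ⟨γ, hγ⟩ := exists_over_irr (lin N (μ' * lam))
        have hγR := mem_rel_of_over hγ (lin_ne_one hνne)
        have hW := index_dvd_deg_lin hγ
        exact Rch.trans (rch_of_gcd haR hγR (one_lt_gcd_of_dvd hd'lt hd'χ ((Subgroup.index_dvd_of_le hνstb2).trans hW) ha0))
          (rch_of_gcd hγR hψR (one_lt_gcd_of_dvd hdlt ((Subgroup.index_dvd_of_le hνstb1).trans hW) hdψ (charDegree_ne_zero γ)))
    · -- `θ` is not linear
      have hθ0 := charDegree_ne_zero θ
      have hθlt : 1 < charDegree (θ : N → ℂ) := by omega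
      obtain ⟨g, hg⟩ := exists_noncoprime θ (fun h1 => hrχ (h1.trans hθdeg)) (not_dvd_index_of_le P hPθ)
        lam hlamk ⟨h, hh⟩
      set ν := tw N lam (irrAut (act N g) θ) with hν
      have hνdeg : charDegree (ν : N → ℂ) = charDegree (θ : N → ℂ) := by
        rw [hν, charDegree_tw, charDegree_irrAut]
      have hνne : ν ≠ lin N 1 := by
        intro h1
        rw [h1, charDegree_lin] at hνdeg
        exact hθ1 hνdeg.symm
      obtain ⟨γ, hγ⟩ := exists_over_irr ν
      have hγR := mem_rel_of_over hγ hνne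
      have hγdvd := degree_over hγ
      rw [hνdeg] at hγdvd
      have h1 : charDegree (θ : N → ℂ) ∣ charDegree (γ : G → ℂ) := (Dvd.intro_left _ rfl).trans hγdvd
      have h2 : (stb ν).index ∣ charDegree (γ : G → ℂ) := (Dvd.intro _ rfl).trans hγdvd
      exact Rch.trans (rch_of_gcd haR hγR (one_lt_gcd_of_dvd hθlt hθdeg h1 ha0))
        (rch_of_gcd hγR hψR (one_lt_gcd_of_not_coprime hg h2 hdψ (charDegree_ne_zero γ)))

end Main

section Final

variable {G : Type u} [Group G] [Finite G] {N : Subgroup G} [hN : N.Normal]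

theorem card_abelianization_eq : Nat.card (Abelianization N) = ⁅N, N⁆.relIndex N := by
  have h1 : ⁅N, N⁆.subgroupOf N = commutator N := by
    rw [← Subgroup.map_subtype_commutator N]
    exact Subgroup.comap_map_eq_self_of_injective N.subtype_injective _
  show Nat.card (N ⧸ commutator N) = (⁅N, N⁆.subgroupOf N).index
  rw [h1]
  rfl

/-- A linear character of order `r` for `r` dividing `|N : N'|`. -/
theorem exists_hom_of_prime_dvd (r : ℕ) [hr : Fact r.Prime] (h : r ∣ ⁅N, N⁆.relIndex N) :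
    ∃ lam₀ : N →* ℂˣ, lam₀ ≠ 1 ∧ lam₀ ^ r = 1 := by
  rw [← card_abelianization_eq] at h
  have hcard := CommGroup.card_monoidHom_of_hasEnoughRootsOfUnity (Abelianization N) ℂ
  rw [← hcard] at h
  haveI : Finite (Abelianization N →* ℂˣ) := Nat.finite_of_card_ne_zero (by
    rw [hcard]
    exact Nat.card_pos.ne')
  obtain ⟨x, hx⟩ := exists_prime_orderOf_dvd_card' r h
  have hxr : x ^ r = 1 := by
    rw [← hx]
    exact pow_orderOf_eq_one x
  refine ⟨x.comp Abelianization.of, ?_, ?_⟩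
  · intro h1
    have h2 : x = 1 := by
      ext a
      have h3 := congrArg (fun f : N →* ℂˣ => f a) h1
      simpa using congrArg Units.val h3
    rw [h2, orderOf_one] at hx
    exact hr.out.one_lt.ne hx
  · ext n
    have h3 := congrArg (fun f : Abelianization N →* ℂˣ => f (Abelianization.of n)) hxr
    simp only [MonoidHom.pow_apply, MonoidHom.one_apply] at h3
    simp only [MonoidHom.pow_apply, MonoidHom.comp_apply, MonoidHom.one_apply]
    rw [h3]

/-- A linear character of order `r` fixed by the Sylow `r`-subgroup. -/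
theorem exists_fixed_lam (r : ℕ) [hr : Fact r.Prime] (P : Sylow r G) (h : r ∣ ⁅N, N⁆.relIndex N) :
    ∃ lam : N →* ℂˣ, lam ≠ 1 ∧ lam ^ r ^ 1 = 1 ∧ (P : Subgroup G) ≤ stb (lin N lam) := by
  obtain ⟨lam₀, h₀, h₀r⟩ := exists_hom_of_prime_dvd (N := N) r h
  haveI : NeZero r := ⟨hr.out.ne_zero⟩
  let Ω := {lam : N →* ℂˣ // lam ^ r = 1}
  haveI hΩ : Finite Ω := by
    let f : Ω → (N → rootsOfUnity r ℂ) := fun lam n => ⟨lam.1 n, by
      rw [mem_rootsOfUnity]
      have h3 := congrArg (fun f : N →* ℂˣ => f n) lam.2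
      simpa [MonoidHom.pow_apply] using h3⟩
    apply Finite.of_injective f
    intro a b hab
    apply Subtype.ext
    ext n
    have h3 := congrFun hab n
    have h4 := congrArg Subtype.val h3
    exact congrArg Units.val h4
  let cjΩ : G → Ω → Ω := fun g lam => ⟨cj N g lam.1, by
    rw [← cj_hom_pow, lam.2, cj_hom_one]⟩
  letI act' : MulAction (P : Subgroup G) Ω :=
    { smul := fun u lam => cjΩ u lam
      one_smul := fun lam => by
        apply Subtype.ext
        exact cj_one lam.1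
      mul_smul := fun a b lam => by
        apply Subtype.ext
        exact cj_mul (a : G) (b : G) lam.1 }
  let σ : Ω → Ω := fun lam => ⟨lam₀ * lam.1, by
    rw [hom_mul_pow, h₀r, lam.2, hom_mul_one]⟩
  have hσ : ∀ (j : ℕ) (x : Ω), (σ^[j] x).1 = lam₀ ^ j * x.1 := by
    intro j x
    induction j with
    | zero =>
      simp only [Function.iterate_zero, id_eq]
      rw [hom_pow_zero, hom_one_mul]
    | succ j ih =>
      rw [Function.iterate_succ_apply']
      show lam₀ * (σ^[j] x).1 = _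
      rw [ih, hom_pow_succ, hom_mul_assoc]
  have hdvd : r ∣ Nat.card Ω := by
    apply prime_dvd_card_of_free r σ 1
    · intro x
      apply Subtype.ext
      rw [hσ, pow_one, h₀r, hom_one_mul]
    · intro x hx
      have h3 : lam₀ * x.1 = x.1 := congrArg Subtype.val hx
      apply h₀
      ext n
      have h4 := congrArg (fun f : N →* ℂˣ => f n) h3
      simp only [MonoidHom.mul_apply] at h4
      simp only [MonoidHom.one_apply]
      rw [mul_eq_right.mp h4]
  let a : Ω := ⟨1, hom_one_pow r⟩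
  have ha : a ∈ MulAction.fixedPoints (P : Subgroup G) Ω := by
    intro u
    apply Subtype.ext
    exact cj_hom_one (u : G)
  obtain ⟨b, hb, hab⟩ := P.isPGroup'.exists_fixed_point_of_prime_dvd_card_of_fixed_point Ω hdvd ha
  refine ⟨b.1, fun h1 => hab (Subtype.ext h1.symm), ?_, ?_⟩
  · rw [pow_one]
    exact b.2
  · intro u hu
    rw [mem_stb_lin]
    exact congrArg Subtype.val (hb ⟨u, hu⟩)

theorem exists_fixed_theta {r : ℕ} [hr : Fact r.Prime] (P : Sylow r G) (χ : IrrCharacter G)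
    (hrχ : ¬ r ∣ charDegree (χ : G → ℂ)) :
    ∃ θ : IrrCharacter N, Over N χ θ ∧ (P : Subgroup G) ≤ stb θ := by
  obtain ⟨θ₀, hθ₀⟩ := exists_over N χ
  obtain ⟨g, hg⟩ := exists_fixed_of_over N (P : Subgroup G) P.isPGroup' hrχ hθ₀
  exact ⟨irrAut (act N g) θ₀, over_irrAut N hθ₀ g, fun u hu => mem_stb.mpr (hg ⟨u, hu⟩)⟩

/-- **Relative degree graph, the disconnected case.** -/
theorem main_disc (hN' : ⁅N, N⁆ < N) (hNG : N ≤ commutator G) {a b : ℕ}
    (ha : a ∈ relCharDegrees N) (hb : b ∈ relCharDegrees N) (hn : ¬ Rch N a b) :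
    (Nat.Coprime a (⁅N, N⁆.relIndex N) ∧ ∀ r : ℕ, r.Prime → r ∣ ⁅N, N⁆.relIndex N → r ∣ b) ∨
      (Nat.Coprime b (⁅N, N⁆.relIndex N) ∧ ∀ r : ℕ, r.Prime → r ∣ ⁅N, N⁆.relIndex N → r ∣ a) := by
  have hm1 : ⁅N, N⁆.relIndex N ≠ 1 := by
    intro h
    rw [Subgroup.relIndex_eq_one] at h
    exact absurd (lt_of_lt_of_le hN' h) (lt_irrefl _)
  obtain ⟨χa, hχa, hχad⟩ := ha
  obtain ⟨χb, hχb, hχbd⟩ := hb
  have ha' : a ∈ relCharDegrees N := ⟨χa, hχa, hχad⟩
  have hb' : b ∈ relCharDegrees N := ⟨χb, hχb, hχbd⟩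
  have ha0 : a ≠ 0 := hχad ▸ charDegree_ne_zero χa
  have hb0 : b ≠ 0 := hχbd ▸ charDegree_ne_zero χb
  have hcop : Nat.Coprime a b := by
    by_contra h
    apply hn
    exact rch_of_gcd ha' hb' (one_lt_gcd_of_not_coprime h dvd_rfl dvd_rfl ha0)
  -- `A`
  have hA : ∀ r : ℕ, r.Prime → r ∣ ⁅N, N⁆.relIndex N → r ∣ a ∨ r ∣ b := by
    intro r hr hrm
    by_contra hno
    push Not at hno
    haveI : Fact r.Prime := ⟨hr⟩
    obtain ⟨P⟩ : Nonempty (Sylow r G) := inferInstance
    obtain ⟨lam, hl1, hlk, hlP⟩ := exists_fixed_lam r P hrm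
    obtain ⟨ψ, hψ⟩ := exists_over_irr (lin N lam)
    obtain ⟨θa, hθa, hPa⟩ := exists_fixed_theta (N := N) P χa (by rw [hχad]; exact hno.1)
    obtain ⟨θb, hθb, hPb⟩ := exists_fixed_theta (N := N) P χb (by rw [hχbd]; exact hno.2)
    have h1 := connect hNG P χa hχa (by rw [hχad]; exact hno.1) θa hθa hPa lam hl1 hlk hlP hψ
    have h2 := connect hNG P χb hχb (by rw [hχbd]; exact hno.2) θb hθb hPb lam hl1 hlk hlP hψ
    rw [hχad] at h1
    rw [hχbd] at h2
    exact hn (h1.trans h2.symm)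
  -- `B`
  have hB : ∀ r s : ℕ, r.Prime → s.Prime → r ∣ ⁅N, N⁆.relIndex N → s ∣ ⁅N, N⁆.relIndex N → r ∣ a → s ∣ b →
      False := by
    intro r s hr hs hrm hsm hra hsb
    have hrb : ¬ r ∣ b := fun h => hr.one_lt.ne' (Nat.eq_one_of_dvd_coprimes hcop hra h)
    have hsa : ¬ s ∣ a := fun h => hs.one_lt.ne' (Nat.eq_one_of_dvd_coprimes hcop h hsb)
    have hrs : r ≠ s := fun h => hrb (h ▸ hsb)
    haveI : Fact r.Prime := ⟨hr⟩
    haveI : Fact s.Prime := ⟨hs⟩
    obtain ⟨P⟩ : Nonempty (Sylow r G) := inferInstance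
    obtain ⟨Q⟩ : Nonempty (Sylow s G) := inferInstance
    obtain ⟨lr, hl1, hlk, hlP⟩ := exists_fixed_lam r P hrm
    obtain ⟨ls, hs1, hsk, hsP⟩ := exists_fixed_lam s Q hsm
    obtain ⟨ψr, hψr⟩ := exists_over_irr (lin N lr)
    obtain ⟨ψs, hψs⟩ := exists_over_irr (lin N ls)
    obtain ⟨θb, hθb, hPb⟩ := exists_fixed_theta (N := N) P χb (by rw [hχbd]; exact hrb)
    obtain ⟨θa, hθa, hPa⟩ := exists_fixed_theta (N := N) Q χa (by rw [hχad]; exact hsa)
    have h1 := connect hNG P χb hχb (by rw [hχbd]; exact hrb) θb hθb hPb lr hl1 hlk hlP hψr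
    have h2 := connect hNG Q χa hχa (by rw [hχad]; exact hsa) θa hθa hPa ls hs1 hsk hsP hψs
    rw [hχbd] at h1
    rw [hχad] at h2
    have hψrR := mem_rel_of_over hψr (lin_ne_one hl1)
    have hψsR := mem_rel_of_over hψs (lin_ne_one hs1)
    by_cases hri : ∀ g : G, cj N g lr = lr
    · have h3 : r ∣ charDegree (ψr : G → ℂ) := prime_dvd_of_pow hl1 hlk (pow_deg_eq_one hNG hri hψr)
      exact hn ((rch_of_gcd ha' hψrR (one_lt_gcd_of_dvd hr.one_lt hra h3 ha0)).trans h1.symm)
    by_cases hsi : ∀ g : G, cj N g ls = ls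
    · have h3 : s ∣ charDegree (ψs : G → ℂ) := prime_dvd_of_pow hs1 hsk (pow_deg_eq_one hNG hsi hψs)
      exact hn (h2.trans (rch_of_gcd hψsR hb' (one_lt_gcd_of_dvd hs.one_lt h3 hsb (charDegree_ne_zero ψs))))
    push Not at hri hsi
    obtain ⟨g₁, hg₁⟩ := hri
    obtain ⟨g₂, hg₂⟩ := hsi
    have hdr1 : (stb (lin N lr)).index ≠ 1 := fun h => hg₁ (stb_lin_index_eq_one_iff.mp h g₁)
    have hds1 : (stb (lin N ls)).index ≠ 1 := fun h => hg₂ (stb_lin_index_eq_one_iff.mp h g₂)
    have hdr0 : (stb (lin N lr)).index ≠ 0 := Subgroup.index_ne_zero_of_finite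
    have hds0 : (stb (lin N ls)).index ≠ 0 := Subgroup.index_ne_zero_of_finite
    have hdrlt : 1 < (stb (lin N lr)).index := by omega
    have hdslt : 1 < (stb (lin N ls)).index := by omega
    have hsr' : ¬ s ∣ r ^ 1 := by
      rw [pow_one]
      exact fun h => hrs ((Nat.prime_dvd_prime_iff_eq hs hr).mp h).symm
    obtain ⟨x, y, hx, hy⟩ := split_powers hsr' hlk hsk
    have hst1 : stb (lin N (lr * ls)) ≤ stb (lin N lr) := stb_lin_le_of_pow hx
    have hst2 : stb (lin N (lr * ls)) ≤ stb (lin N ls) := stb_lin_le_of_pow hy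
    have hne : lr * ls ≠ 1 := by
      intro h
      rw [h] at hst1
      have h3 := Subgroup.index_dvd_of_le hst1
      rw [stb_lin_one_index, Nat.dvd_one] at h3
      exact hdr1 h3
    obtain ⟨ψ, hψ⟩ := exists_over_irr (lin N (lr * ls))
    have hψR := mem_rel_of_over hψ (lin_ne_one hne)
    have hW := index_dvd_deg_lin hψ
    have h3 : Rch N (charDegree (ψr : G → ℂ)) (charDegree (ψ : G → ℂ)) :=
      rch_of_gcd hψrR hψR (one_lt_gcd_of_dvd hdrlt (index_dvd_deg_lin hψr)
        ((Subgroup.index_dvd_of_le hst1).trans hW) (charDegree_ne_zero ψr))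
    have h4 : Rch N (charDegree (ψs : G → ℂ)) (charDegree (ψ : G → ℂ)) :=
      rch_of_gcd hψsR hψR (one_lt_gcd_of_dvd hdslt (index_dvd_deg_lin hψs)
        ((Subgroup.index_dvd_of_le hst2).trans hW) (charDegree_ne_zero ψs))
    exact hn (h2.trans (h4.trans (h3.symm.trans h1.symm)))
  -- conclusion
  have hr₀ := Nat.minFac_prime hm1
  have hr₀m := Nat.minFac_dvd (⁅N, N⁆.relIndex N)
  rcases hA _ hr₀ hr₀m with h1 | h1
  · right
    constructor
    · apply Nat.coprime_of_dvd
      intro k hk hkb hkm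
      exact hB _ _ hr₀ hk hr₀m hkm h1 hkb
    · intro r hr hrm
      rcases hA r hr hrm with h2 | h2
      · exact h2
      · exact (hB _ _ hr₀ hr hr₀m hrm h1 h2).elim
  · left
    constructor
    · apply Nat.coprime_of_dvd
      intro k hk hka hkm
      exact hB _ _ hk hr₀ hkm hr₀m hka h1
    · intro r hr hrm
      rcases hA r hr hrm with h2 | h2
      · exact (hB _ _ hr hr₀ hrm hr₀m h2 h1).elim
      · exact h2

/-- **Isaacs-Knutson**: the common divisor graph on `cd(G|N)`. -/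
theorem main (hN' : ⁅N, N⁆ < N) (hNG : N ≤ commutator G) :
    Nat.card (commonDivisorGraph.induce (relCharDegrees N)).ConnectedComponent ≤ 2 ∧
    ∀ (a b : ℕ) (ha : a ∈ relCharDegrees N) (hb : b ∈ relCharDegrees N),
      ¬ (commonDivisorGraph.induce (relCharDegrees N)).Reachable ⟨a, ha⟩ ⟨b, hb⟩ →
      (Nat.Coprime a (⁅N, N⁆.relIndex N) ∧ ∀ r : ℕ, r.Prime → r ∣ ⁅N, N⁆.relIndex N → r ∣ b) ∨
      (Nat.Coprime b (⁅N, N⁆.relIndex N) ∧ ∀ r : ℕ, r.Prime → r ∣ ⁅N, N⁆.relIndex N → r ∣ a) := by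
  classical
  have hdisc : ∀ (a b : ℕ) (ha : a ∈ relCharDegrees N) (hb : b ∈ relCharDegrees N),
      ¬ (commonDivisorGraph.induce (relCharDegrees N)).Reachable ⟨a, ha⟩ ⟨b, hb⟩ →
      (Nat.Coprime a (⁅N, N⁆.relIndex N) ∧ ∀ r : ℕ, r.Prime → r ∣ ⁅N, N⁆.relIndex N → r ∣ b) ∨
      (Nat.Coprime b (⁅N, N⁆.relIndex N) ∧ ∀ r : ℕ, r.Prime → r ∣ ⁅N, N⁆.relIndex N → r ∣ a) := by
    intro a b ha hb hn
    exact main_disc hN' hNG ha hb (fun ⟨_, _, h⟩ => hn h)
  refine ⟨?_, hdisc⟩
  have hm1 : ⁅N, N⁆.relIndex N ≠ 1 := by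
    intro h
    rw [Subgroup.relIndex_eq_one] at h
    exact absurd (lt_of_lt_of_le hN' h) (lt_irrefl _)
  have hr₀ := Nat.minFac_prime hm1
  have hr₀m := Nat.minFac_dvd (⁅N, N⁆.relIndex N)
  set r₀ := (⁅N, N⁆.relIndex N).minFac with hr₀def
  let Φ : (commonDivisorGraph.induce (relCharDegrees N)).ConnectedComponent → Bool :=
    fun c => decide (r₀ ∣ (Quot.out c).1)
  have hΦ : Function.Injective Φ := by
    intro c₁ c₂ h
    by_contra hne
    have hc₁ : (commonDivisorGraph.induce (relCharDegrees N)).connectedComponentMk (Quot.out c₁) = c₁ :=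
      Quot.out_eq c₁
    have hc₂ : (commonDivisorGraph.induce (relCharDegrees N)).connectedComponentMk (Quot.out c₂) = c₂ :=
      Quot.out_eq c₂
    have hnr : ¬ (commonDivisorGraph.induce (relCharDegrees N)).Reachable (Quot.out c₁) (Quot.out c₂) := by
      intro hr
      apply hne
      rw [← hc₁, ← hc₂]
      exact SimpleGraph.ConnectedComponent.eq.mpr hr
    have h1 := hdisc _ _ (Quot.out c₁).2 (Quot.out c₂).2 hnr
    have h2 : r₀ ∣ (Quot.out c₁).1 ↔ r₀ ∣ (Quot.out c₂).1 := by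
      simpa [Φ] using h
    rcases h1 with ⟨h3, h4⟩ | ⟨h3, h4⟩
    · have h5 := h4 r₀ hr₀ hr₀m
      have h6 := h2.mpr h5
      exact hr₀.one_lt.ne' (Nat.eq_one_of_dvd_coprimes h3 h6 hr₀m)
    · have h5 := h4 r₀ hr₀ hr₀m
      have h6 := h2.mp h5
      exact hr₀.one_lt.ne' (Nat.eq_one_of_dvd_coprimes h3 h6 hr₀m)
  have h3 := Nat.card_le_card_of_injective Φ hΦ
  simpa using h3

end Final

end Cfsg.Agent.Lib.RelDeg
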