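import Mathlib
import Cfsg.Agent.Lib.ThreeDeg31F
import Cfsg.Agent.Lib.RelDeg
import Cfsg.Agent.Lib.PalfyE
import Cfsg.Agent.Lib.PalfyD
import Cfsg.Agent.Lib.Frat
import Cfsg.Agent.Lib.Glauberman
import Cfsg.Agent.Lib.GlaubSyl1
import Cfsg.Agent.Lib.LinearExt
import Cfsg.Agent.S0175

/-!
# Garrison's theorem on four character degrees: basic tools
-/

set_option autoImplicit false
set_option linter.style.haveILetI false
set_option linter.unusedVariables false
set_option linter.unusedSectionVars false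

namespace Cfsg.Agent.Lib.GarrA

open Cfsg Cfsg.Agent.Lib.CharBasic Cfsg.Agent.Lib.CharInd Cfsg.Agent.Lib.CharKernel
open Cfsg.Agent.Lib.Clifford Cfsg.Agent.Lib.CliffDvd Cfsg.Agent.Lib.TwoDeg
open Cfsg.Agent.Lib.ThreeDeg31 Cfsg.Agent.Lib.RealOdd
open scoped ComplexConjugate commutatorElement

universe u

attribute [local instance] Fintype.ofFinite

section Constituent

variable {X : Type u} [Group X] [Finite X]

/-- `χ` is nontrivial on `A`. -/
def NT (A : Subgroup X) (χ : IrrCharacter X) : Prop := ∃ x ∈ A, (χ : X → ℂ) x ≠ (χ : X → ℂ) 1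

theorem NT.mono {A B : Subgroup X} (h : A ≤ B) {χ : IrrCharacter X} (hχ : NT A χ) : NT B χ := by
  obtain ⟨x, hx, h1⟩ := hχ
  exact ⟨x, h hx, h1⟩

theorem ker_aux {ψ ψ' : X → ℂ} (hψ : IsIrrCharacter X ψ) (hψ' : IsCharacter X ψ') (Y : Subgroup X)
    (hY : ∀ y ∈ Y, (ψ + ψ') y = (ψ + ψ') 1) {x : X} (hx : x ∈ Y) : ψ x = ψ 1 := by
  have hψc := IsIrrCharacter.isCharacter hψ
  refine Cfsg.Agent.Lib.PalfyE.char_eq_of_constituents Y hψc hx (fun i hi => ?_)
  have h1 : (fun y : Y => (ψ + ψ') (y : X)) = (fun y : Y => ψ y) + (fun y : Y => ψ' y) := rfl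
  have h2 : classInner (fun y : Y => (ψ + ψ') (y : X)) (i : Y → ℂ) ≠ 0 := by
    rw [h1, classInner_add_left]
    obtain ⟨a, ha⟩ := classInner_char_irr (isCharacter_restrict Y hψc) i.2
    obtain ⟨b, hb⟩ := classInner_char_irr (isCharacter_restrict Y hψ') i.2
    rw [ha] at hi
    rw [ha, hb]
    have ha0 : a ≠ 0 := by
      rintro rfl
      simp at hi
    exact_mod_cast (by omega : a + b ≠ 0)
  have h3 : (fun y : Y => (ψ + ψ') (y : X)) = ((ψ + ψ') 1) • (fun _ : Y => (1 : ℂ)) := by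
    funext y
    have := hY y y.2
    simp only [Pi.smul_apply, smul_eq_mul, mul_one]
    exact this
  rw [h3, classInner_smul_left] at h2
  have h4 : classInner (fun _ : Y => (1 : ℂ)) (i : Y → ℂ) ≠ 0 := right_ne_zero_of_mul h2
  have h5 : (i : Y → ℂ) = fun _ => (1 : ℂ) := by
    by_contra hne
    exact h4 (classInner_irr_ne isIrrCharacter_one i.2 (Ne.symm hne))
  rw [h5]

/-- A constituent of a character trivial at `x` is trivial at `x`. -/
theorem ker_of_constituent {η ψ : X → ℂ} (hη : IsCharacter X η) (hψ : IsIrrCharacter X ψ)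
    (h : classInner η ψ ≠ 0) {x : X} (hx : η x = η 1) : ψ x = ψ 1 := by
  obtain ⟨ψ', hψ', rfl⟩ := Cfsg.Agent.Lib.CharDecomp.exists_char_add hη hψ h
  have hker : Subgroup.zpowers x ≤ charKer hη := by
    rw [Subgroup.zpowers_le]
    exact (mem_charKer hη).mpr hx
  exact ker_aux hψ hψ' (Subgroup.zpowers x) (fun y hy => (mem_charKer hη).mp (hker hy))
    (Subgroup.mem_zpowers x)

/-- Kernels pass to constituents of restrictions. -/
theorem ker_of_over (H : Subgroup X) {χ : X → ℂ} (hχ : IsCharacter X χ) {ψ : H → ℂ}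
    (hψ : IsIrrCharacter H ψ) (h : classInner (fun n : H => χ n) ψ ≠ 0) {x : H}
    (hx : χ x = χ 1) : ψ x = ψ 1 :=
  ker_of_constituent (isCharacter_restrict H hχ) hψ h (by simpa using hx)

/-- Decomposition data for a character. -/
theorem exists_dvd_constituent {η : X → ℂ} (hη : IsCharacter X η) {b : ℕ}
    (h : ¬ ((b : ℕ) ∣ charDegree η)) :
    ∃ i : IrrCharacter X, classInner η (i : X → ℂ) ≠ 0 ∧ ¬ b ∣ charDegree (i : X → ℂ) := by
  obtain ⟨m, hm⟩ := exists_nat_decomp hη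
  by_contra hno
  push Not at hno
  apply h
  have hval : ∀ i : IrrCharacter X, classInner η (i : X → ℂ) = m i := by
    intro i
    have := classInner_nat_decomp m (i : X → ℂ) i.2
    rw [← hm] at this
    exact this
  have h1 : η 1 = ((∑ i : IrrCharacter X, m i * charDegree (i : X → ℂ) : ℕ) : ℂ) := by
    have h3 : (∑ i : IrrCharacter X, m i • (i : X → ℂ)) 1
        = ∑ i : IrrCharacter X, (m i : ℂ) * (i : X → ℂ) 1 := by
      simp [Finset.sum_apply]
    rw [hm, h3]
    push_cast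
    refine Finset.sum_congr rfl fun i _ => ?_
    rw [one_eq_charDegree (IsIrrCharacter.isCharacter i.2)]
  have h2 : charDegree η = ∑ i : IrrCharacter X, m i * charDegree (i : X → ℂ) :=
    charDegree_of_one h1
  rw [h2]
  refine Finset.dvd_sum fun i _ => ?_
  by_cases hi : m i = 0
  · simp [hi]
  · refine Dvd.dvd.mul_left (hno i ?_) _
    rw [hval]
    exact_mod_cast hi

/-- A small character nontrivial on `A` when `A` is not contained in `T`. -/
theorem exists_small (T A K : Subgroup X) [hK : K.Normal] (hKT : K ≤ T) (hA : ¬ A ≤ T) :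
    ∃ β : IrrCharacter X, NT A β ∧ (∀ k ∈ K, (β : X → ℂ) k = (β : X → ℂ) 1) ∧
      charDegree (β : X → ℂ) < T.index := by
  classical
  set n := T.index with hn
  have hP : IsCharacter X (indFun T (fun _ => (1 : ℂ))) :=
    indFun_isCharacter T isCharacter_one
  obtain ⟨m, hm⟩ := exists_nat_decomp hP
  set triv : IrrCharacter X := ⟨fun _ => (1 : ℂ), isIrrCharacter_one⟩ with htriv
  have hmtriv : m triv = 1 := by
    have h1 : classInner (indFun T (fun _ => (1 : ℂ))) (fun _ : X => (1 : ℂ)) = 1 := by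
      rw [frobenius T _ (isClassFunction_of_isCharacter isCharacter_one)]
      exact classInner_irr_self isIrrCharacter_one
    rw [hm, classInner_nat_decomp m _ isIrrCharacter_one] at h1
    exact_mod_cast h1
  have hdeg : ∑ i : IrrCharacter X, m i * charDegree (i : X → ℂ) = n := by
    have h1 : indFun T (fun _ => (1 : ℂ)) 1 = (T.index : ℂ) := by
      rw [indFun_one, mul_one]
    rw [hm] at h1
    have h3 : (∑ i : IrrCharacter X, m i • (i : X → ℂ)) 1
        = ∑ i : IrrCharacter X, (m i : ℂ) * (i : X → ℂ) 1 := by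
      simp [Finset.sum_apply]
    rw [h3] at h1
    have h2 : ∀ i : IrrCharacter X, (m i : ℂ) * (i : X → ℂ) 1
        = ((m i * charDegree (i : X → ℂ) : ℕ) : ℂ) := by
      intro i
      rw [one_eq_charDegree (IsIrrCharacter.isCharacter i.2)]
      push_cast
      ring
    simp only [h2] at h1
    exact_mod_cast h1
  have hle : ∀ i : IrrCharacter X, m i ≠ 0 → i ≠ triv → charDegree (i : X → ℂ) < n := by
    intro i hi hit
    have h1 : m triv * charDegree (triv : X → ℂ) + m i * charDegree (i : X → ℂ) ≤ n := by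
      rw [← hdeg]
      have := Finset.sum_le_sum_of_subset (f := fun i => m i * charDegree (i : X → ℂ))
        (Finset.subset_univ {triv, i})
      rw [Finset.sum_pair (Ne.symm hit)] at this
      exact this
    have h2 : charDegree (triv : X → ℂ) = 1 := charDegree_of_one (by simp [triv])
    rw [hmtriv, h2] at h1
    have h3 : 1 ≤ m i := Nat.one_le_iff_ne_zero.mpr hi
    have h4 : charDegree (i : X → ℂ) ≤ m i * charDegree (i : X → ℂ) := Nat.le_mul_of_pos_left _ h3
    omega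
  have hmval : ∀ i : IrrCharacter X, classInner (indFun T (fun _ => (1 : ℂ))) (i : X → ℂ) = m i := by
    intro i
    have := classInner_nat_decomp m (i : X → ℂ) i.2
    rw [← hm] at this
    exact this
  obtain ⟨x, hxA, hxT⟩ := SetLike.not_le_iff_exists.mp hA
  -- the constituent
  have hex : ∃ i : IrrCharacter X, m i ≠ 0 ∧ (i : X → ℂ) x ≠ (i : X → ℂ) 1 := by
    by_contra hno
    push Not at hno
    apply hxT
    apply Cfsg.Agent.S0175.mem_of_perm_char_eq
    rw [hm]
    simp only [Finset.sum_apply, Pi.smul_apply]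
    refine Finset.sum_congr rfl fun i _ => ?_
    by_cases hi : m i = 0
    · simp [hi]
    · rw [hno i hi]
  obtain ⟨i, hi, hix⟩ := hex
  have hit : i ≠ triv := by
    rintro rfl
    exact hix rfl
  refine ⟨i, ⟨x, hxA, hix⟩, ?_, hle i hi hit⟩
  intro k hk
  have hval : indFun T (fun _ => (1 : ℂ)) k = indFun T (fun _ => (1 : ℂ)) 1 := by
    rw [indFun_apply, indFun_apply]
    congr 1
    refine Finset.sum_congr rfl fun y _ => ?_
    have h1 : y⁻¹ * k * y ∈ K := by
      have := hK.conj_mem k hk y⁻¹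
      simpa using this
    have h2 : y⁻¹ * (1 : X) * y ∈ T := by
      simp [T.one_mem]
    rw [extendByZero_of_mem T _ (hKT h1), extendByZero_of_mem T _ h2]
  refine ker_of_constituent hP i.2 ?_ hval
  rw [hmval]
  exact_mod_cast hi

/-- A character of low divisibility above a character of a subgroup. -/
theorem exists_low (H : Subgroup X) {ψ : H → ℂ} (hψ : IsIrrCharacter H ψ) {b : ℕ}
    (hb : ¬ b ∣ H.index * charDegree ψ) :
    ∃ χ : IrrCharacter X, classInner (fun n : H => (χ : X → ℂ) n) ψ ≠ 0 ∧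
      ¬ b ∣ charDegree (χ : X → ℂ) := by
  have hψc := IsIrrCharacter.isCharacter hψ
  have hP : IsCharacter X (indFun H ψ) := indFun_isCharacter H hψc
  have hd : charDegree (indFun H ψ) = H.index * charDegree ψ := by
    apply charDegree_of_one
    rw [indFun_one, one_eq_charDegree hψc]
    push_cast
    rfl
  rw [← hd] at hb
  obtain ⟨i, hi, hib⟩ := exists_dvd_constituent hP hb
  refine ⟨i, ?_, hib⟩
  rw [frobenius H _ (isClassFunction_of_isCharacter (IsIrrCharacter.isCharacter i.2))] at hi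
  intro h
  apply hi
  rw [← classInner_conj_symm, h]
  simp

/-- The degree divides the sum over constituents. -/
theorem dvd_of_constituents (H : Subgroup X) {χ : X → ℂ} (hχ : IsCharacter X χ) {b : ℕ}
    (h : ∀ ψ : IrrCharacter H, classInner (fun n : H => χ n) (ψ : H → ℂ) ≠ 0 →
      b ∣ charDegree (ψ : H → ℂ)) : b ∣ charDegree χ := by
  have hres := isCharacter_restrict H hχ
  have hd : charDegree (fun n : H => χ n) = charDegree χ := charDegree_of_one (by
    simpa using one_eq_charDegree hχ)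
  rw [← hd]
  by_contra hb
  obtain ⟨i, hi, hib⟩ := exists_dvd_constituent hres hb
  exact hib (h i hi)

/-- Irreducible characters of a `p`-group have `p`-power degree. -/
theorem deg_pow_of_pgroup {p : ℕ} (hp : p.Prime) {P : Type u} [Group P] [Finite P]
    (hP : IsPGroup p P) (χ : IrrCharacter P) : ∃ j, charDegree (χ : P → ℂ) = p ^ j := by
  haveI : Fact p.Prime := ⟨hp⟩
  obtain ⟨n, hn⟩ := IsPGroup.iff_card.mp hP
  have h1 := charDegree_dvd_card χ.2
  rw [hn] at h1
  obtain ⟨j, -, hj⟩ := (Nat.dvd_prime_pow hp).mp h1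
  exact ⟨j, hj⟩

theorem charDegree_comp_surj {Y : Type u} [Group Y] (f : X →* Y) (χ : Y → ℂ) :
    charDegree (χ ∘ f) = charDegree χ := charDegree_comp f χ

/-- Inflation of an irreducible character along a surjection. -/
noncomputable def infl {Y : Type u} [Group Y] (f : X →* Y) (hf : Function.Surjective f)
    (χ : IrrCharacter Y) : IrrCharacter X :=
  ⟨(χ : Y → ℂ) ∘ f, isIrrCharacter_comp_of_surjective f hf χ.2⟩

theorem infl_deg {Y : Type u} [Group Y] (f : X →* Y) (hf : Function.Surjective f)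
    (χ : IrrCharacter Y) : charDegree (infl f hf χ : X → ℂ) = charDegree (χ : Y → ℂ) :=
  charDegree_comp f _

theorem infl_apply {Y : Type u} [Group Y] (f : X →* Y) (hf : Function.Surjective f)
    (χ : IrrCharacter Y) (x : X) : (infl f hf χ : X → ℂ) x = (χ : Y → ℂ) (f x) := rfl

end Constituent

section Tools

variable {X : Type u} [Group X] [Finite X]

theorem exists_irr_ne {x : X} (hx : x ≠ 1) : ∃ χ : IrrCharacter X, (χ : X → ℂ) x ≠ (χ : X → ℂ) 1 := by
  by_contra h
  push Not at h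
  have h1 : IsConj x 1 := Cfsg.Agent.Lib.CharAvg.isConj_of_forall_irr h
  exact hx (isConj_one_left.mp h1)

theorem exists_ne_one_of_ne_bot {A : Subgroup X} (hA : A ≠ ⊥) : ∃ x ∈ A, x ≠ 1 := by
  by_contra h
  push Not at h
  exact hA ((Subgroup.eq_bot_iff_forall A).mpr h)

theorem exists_NT {A : Subgroup X} (hA : A ≠ ⊥) : ∃ χ : IrrCharacter X, NT A χ := by
  obtain ⟨x, hx, hx1⟩ := exists_ne_one_of_ne_bot hA
  obtain ⟨χ, hχ⟩ := exists_irr_ne hx1
  exact ⟨χ, x, hx, hχ⟩

end Tools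

section Stab

variable {G : Type u} [Group G] [Finite G]

open Cfsg.Agent.Lib.RelDeg

/-- Elementwise form of the stabilizer of a linear character. -/
theorem stb_lin_apply {K : Subgroup G} [hK : K.Normal] {ω : K →* ℂˣ} {g : G}
    (hg : g ∈ stb (lin K ω)) (n : K) : ω ⟨g * n * g⁻¹, hK.conj_mem n n.2 g⟩ = ω n := by
  have h1 := (stb_mem' (lin K ω) g).mp hg n
  exact Units.ext h1

theorem mem_stb_lin_of {K : Subgroup G} [hK : K.Normal] {ω : K →* ℂˣ} {g : G}
    (h : ∀ n : K, ω ⟨g * n * g⁻¹, hK.conj_mem n n.2 g⟩ = ω n) : g ∈ stb (lin K ω) := by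
  rw [stb_mem']
  intro n
  show ((ω _ : ℂˣ) : ℂ) = ((ω n : ℂˣ) : ℂ)
  rw [h n]

/-- If `W` fixes all linear characters of `K` then it acts trivially on `K / K'`. -/
theorem comm_le_of_fix (K W : Subgroup G) [hK : K.Normal]
    (h : ∀ ω : K →* ℂˣ, W ≤ stb (lin K ω)) : ⁅K, W⁆ ≤ ⁅K, K⁆ := by
  rw [Subgroup.commutator_le]
  intro k hk g hg
  have h1 : g * k⁻¹ * g⁻¹ ∈ K := hK.conj_mem _ (K.inv_mem hk) g
  let y : K := ⟨k, hk⟩ * ⟨g * k⁻¹ * g⁻¹, h1⟩
  have hy : y ∈ commutator K := by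
    apply mem_commutator_of_hom
    intro l
    have h2 := stb_lin_apply (h l hg) (⟨k, hk⟩ : K)⁻¹
    have h3 : l ⟨g * k⁻¹ * g⁻¹, h1⟩ = l (⟨k, hk⟩ : K)⁻¹ := h2
    show l (⟨k, hk⟩ * ⟨g * k⁻¹ * g⁻¹, h1⟩) = 1
    rw [map_mul, h3, map_inv, mul_inv_cancel]
  have h4 : (commutator K).map K.subtype = ⁅K, K⁆ := Subgroup.map_subtype_commutator K
  rw [← h4]
  refine ⟨y, hy, ?_⟩
  show k * (g * k⁻¹ * g⁻¹) = ⁅k, g⁆
  rw [commutatorElement_def]
  group

/-- Class two modulo `C`, with coprimality. -/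
theorem comm_le_of_class2 (Y B C : Subgroup G) [hC : C.Normal]
    (h1 : ∀ x ∈ Y, ∀ b ∈ B, ⁅x, b⁆ ∈ C) (h2 : ⁅Y, Y⁆ ≤ B) {n k : ℕ}
    (hn : ∀ x ∈ Y, x ^ n ∈ B) (hk : ∀ b ∈ B, b ^ k ∈ C) (hcop : n.Coprime k) : ⁅Y, Y⁆ ≤ C := by
  rw [Subgroup.commutator_le]
  intro x hx y hy
  let q : G →* G ⧸ C := QuotientGroup.mk' C
  have hq : ∀ z, q z = 1 ↔ z ∈ C := fun z => QuotientGroup.eq_one_iff z
  set c := ⁅x, y⁆ with hc
  have hcB : c ∈ B := h2 (Subgroup.commutator_mem_commutator hx hy)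
  -- `c` is central modulo `C`
  have hcent : ∀ z ∈ Y, q z * q c = q c * q z := by
    intro z hz
    have h3 := (hq _).mpr (h1 z hz c hcB)
    rw [commutatorElement_def] at h3
    simp only [map_mul, map_inv] at h3
    calc q z * q c = q z * q c * (q z)⁻¹ * (q c)⁻¹ * (q c * q z) := by group
      _ = _ := by rw [h3, one_mul]
  -- powers
  have hpow : ∀ m : ℕ, q ⁅x ^ m, y⁆ = q c ^ m := by
    intro m
    induction m with
    | zero => simp
    | succ m ih =>
      have e1 : ⁅x ^ (m + 1), y⁆ = x * ⁅x ^ m, y⁆ * x⁻¹ * ⁅x, y⁆ := by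
        simp only [commutatorElement_def, pow_succ']
        group
      rw [e1]
      simp only [map_mul, map_inv]
      rw [ih, pow_succ']
      have h5 : Commute (q x) (q c) := hcent x hx
      have h6 : q x * q c ^ m * (q x)⁻¹ = q c ^ m := by
        rw [(h5.pow_right m).eq]
        group
      rw [h6, ← hc, (pow_succ' (q c) m).symm, pow_succ]
  have h3 : q c ^ n = 1 := by
    rw [← hpow n, hq]
    have h4 := h1 y hy (x ^ n) (hn x hx)
    have h5 : ⁅x ^ n, y⁆ = ⁅y, x ^ n⁆⁻¹ := (commutatorElement_inv _ _).symm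
    rw [h5]
    exact C.inv_mem h4
  have h4 : q c ^ k = 1 := by
    rw [← map_pow, hq]
    exact hk c hcB
  have h5 := Cfsg.Agent.Lib.RelDeg.eq_one_of_pow_coprime hcop h3 h4
  exact (hq c).mp h5

theorem relIndex_sup_eq {X K : Subgroup G} [hX : X.Normal] :
    K.relIndex (X ⊔ K) = K.relIndex X := by
  have h1 : (K ⊓ X).relIndex K * K.relIndex (X ⊔ K) = (K ⊓ X).relIndex (X ⊔ K) :=
    Subgroup.relIndex_mul_relIndex _ _ _ inf_le_left le_sup_right
  have h2 : (K ⊓ X).relIndex X * X.relIndex (X ⊔ K) = (K ⊓ X).relIndex (X ⊔ K) :=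
    Subgroup.relIndex_mul_relIndex _ _ _ inf_le_right le_sup_left
  have h3 : (K ⊓ X).relIndex K = X.relIndex K := Subgroup.inf_relIndex_left _ _
  have h4 : (K ⊓ X).relIndex X = K.relIndex X := Subgroup.inf_relIndex_right _ _
  have h5 : X.relIndex (X ⊔ K) = X.relIndex K := Subgroup.relIndex_sup_left _ _
  rw [h3] at h1
  rw [h4, h5, ← h1, mul_comm] at h2
  have h6 : X.relIndex K ≠ 0 := fun h => by
    have h7 := Subgroup.relIndex_dvd_card X K
    rw [h] at h7
    exact Nat.card_pos.ne' (Nat.eq_zero_of_zero_dvd h7)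
  exact (Nat.eq_of_mul_eq_mul_left (Nat.pos_of_ne_zero h6) h2).symm

/-- The relative index on a normal subgroup divides the relative index. -/
theorem relIndex_dvd_relIndex {X N : Subgroup G} (T : Subgroup G) [hX : X.Normal] (hXN : X ≤ N) :
    T.relIndex X ∣ T.relIndex N := by
  set K := T ⊓ N with hK
  have h1 : T.relIndex N = K.relIndex N := (Subgroup.inf_relIndex_right _ _).symm
  have h2 : T.relIndex X = K.relIndex X := by
    rw [← Subgroup.inf_relIndex_right T X, ← Subgroup.inf_relIndex_right K X]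
    congr 1
    rw [hK, inf_assoc, inf_eq_right.mpr hXN]
  rw [h1, h2, ← relIndex_sup_eq]
  exact ⟨(X ⊔ K).relIndex N, (Subgroup.relIndex_mul_relIndex _ _ _ le_sup_right
    (sup_le hXN inf_le_right)).symm⟩

/-- A subgroup of coprime index containing a subgroup of `q`-power index is everything. -/
theorem le_of_not_dvd_relIndex {q : ℕ} (hq : q.Prime) {Y K₀ K : Subgroup G} [hK₀ : K₀.Normal]
    (hK : K₀ ≤ K) (h : ∀ x ∈ Y, ∃ k, x ^ (q ^ k) ∈ K₀) (hi : ¬ q ∣ K.relIndex Y) : Y ≤ K := by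
  haveI : Fact q.Prime := ⟨hq⟩
  have h1 : IsPGroup q (Y ⧸ K₀.subgroupOf Y) := by
    intro g
    induction g using QuotientGroup.induction_on with
    | H y =>
      obtain ⟨k, hk⟩ := h y y.2
      refine ⟨k, ?_⟩
      rw [← QuotientGroup.mk_pow, QuotientGroup.eq_one_iff]
      exact hk
  obtain ⟨n, hn⟩ := IsPGroup.iff_card.mp h1
  have h2 : K₀.relIndex Y = q ^ n := by
    rw [Subgroup.relIndex, Subgroup.index_eq_card, hn]
  have h3 : K.relIndex Y ∣ q ^ n := h2 ▸ Subgroup.relIndex_dvd_of_le_left Y hK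
  obtain ⟨j, -, hj⟩ := (Nat.dvd_prime_pow hq).mp h3
  have h4 : j = 0 := by
    by_contra hj0
    apply hi
    rw [hj]
    exact dvd_pow_self q hj0
  rw [h4, pow_zero] at hj
  exact Subgroup.relIndex_eq_one.mp hj

/-- A linear character of a subgroup, trivial on a normal subgroup containing the commutators. -/
theorem exists_lin_ne (Y W : Subgroup G) [hW : W.Normal] (hc : ⁅Y, Y⁆ ≤ W) {x : G} (hxY : x ∈ Y)
    (hxW : x ∉ W) : ∃ l : Y →* ℂˣ, l ⟨x, hxY⟩ ≠ 1 ∧ ∀ y : Y, (y : G) ∈ W → l y = 1 := by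
  let W' := W.subgroupOf Y
  let q : Y →* Y ⧸ W' := QuotientGroup.mk' W'
  by_contra hno
  push Not at hno
  have h1 : q ⟨x, hxY⟩ ∈ commutator (Y ⧸ W') := by
    apply mem_commutator_of_hom
    intro l
    by_contra hl
    obtain ⟨y, hy, hy1⟩ := hno (l.comp q) (fun h => hl h)
    apply hy1
    show l (q y) = 1
    have : q y = 1 := (QuotientGroup.eq_one_iff y).mpr hy
    rw [this, map_one]
  have h2 : commutator (Y ⧸ W') = ⊥ := by
    rw [eq_bot_iff, commutator_def, Subgroup.commutator_le]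
    intro a _ b _
    obtain ⟨a', rfl⟩ := QuotientGroup.mk'_surjective W' a
    obtain ⟨b', rfl⟩ := QuotientGroup.mk'_surjective W' b
    rw [Subgroup.mem_bot, ← map_commutatorElement]
    refine (QuotientGroup.eq_one_iff _).mpr ?_
    show ((⁅a', b'⁆ : Y) : G) ∈ W
    apply hc
    exact Subgroup.commutator_mem_commutator a'.2 b'.2
  rw [h2, Subgroup.mem_bot] at h1
  have h3 : ((⟨x, hxY⟩ : Y) : Y ⧸ W') = 1 := h1
  exact hxW ((QuotientGroup.eq_one_iff (⟨x, hxY⟩ : Y)).mp h3)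

/-- Extension of a linear character to the product with a coprime `t`-group fixing it. -/
theorem exists_ext_sup {t : ℕ} (ht : t.Prime) (Y S : Subgroup G) [hY : Y.Normal] (f : Y →* ℂˣ)
    (hfix : S ≤ stb (lin Y f)) (hS : IsPGroup t S) {o : ℕ} (ho : ∀ x, f x ^ o = 1) (ho0 : o ≠ 0)
    (hcop : o.Coprime t) :
    ∃ μ : (Y ⊔ S : Subgroup G) →* ℂˣ, ∀ x : Y, μ ⟨x, le_sup_left (a := Y) x.2⟩ = f x := by
  haveI : Fact t.Prime := ⟨ht⟩
  set U : Subgroup G := Y ⊔ S with hU
  let N : Subgroup U := Y.subgroupOf U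
  haveI hN : N.Normal := Subgroup.normal_subgroupOf
  let ι : N →* Y :=
    { toFun := fun n => ⟨((n : U) : G), n.2⟩
      map_one' := rfl
      map_mul' := fun _ _ => rfl }
  let f' : N →* ℂˣ := f.comp ι
  have hUfix : U ≤ stb (lin Y f) := sup_le (le_stb _) hfix
  have hinv : ∀ (g : U) (n : N), f' ⟨g * n * g⁻¹, hN.conj_mem (n : U) n.2 g⟩ = f' n := by
    intro g n
    exact stb_lin_apply (hUfix g.2) (ι n)
  obtain ⟨n₀, hn₀⟩ := IsPGroup.iff_card.mp hS
  obtain ⟨μ, hμ⟩ := Cfsg.Agent.Lib.LinearExt.exists_extension N f' hinv (o := o)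
    (fun x => ho _) ho0 (by
      intro p hp hpo
      refine ⟨N, le_refl _, f', ?_, fun n => rfl⟩
      have h1 : N.index = Y.relIndex U := rfl
      have h2 : Y.relIndex U = Y.relIndex S := Subgroup.relIndex_sup_left _ _
      have h3 : Y.relIndex S ∣ t ^ n₀ := hn₀ ▸ Subgroup.relIndex_dvd_card _ _
      rw [h1, h2]
      refine Nat.Coprime.coprime_dvd_left h3 (Nat.Coprime.pow_left _ ?_)
      have h4 : t.Coprime p := Nat.Coprime.coprime_dvd_right hpo hcop.symm
      exact h4)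
  refine ⟨μ, fun x => ?_⟩
  exact hμ ⟨⟨x, le_sup_left (a := Y) x.2⟩, x.2⟩

end Stab

section Focal

variable {Y : Type u} [Group Y] [Finite Y]

/-- The focal argument: central elements in the commutator subgroup lie in the commutator subgroup
of a normal Sylow subgroup. -/
theorem focal {q : ℕ} (hq : q.Prime) (P : Subgroup Y) (hP : IsPGroup q P) (hi : ¬ q ∣ P.index)
    {z : Y} (hzP : z ∈ P) (hc : ∀ g, g * z = z * g) (hzY : z ∈ commutator Y) :
    (⟨z, hzP⟩ : P) ∈ commutator P := by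
  haveI : Fact q.Prime := ⟨hq⟩
  by_contra hno
  have h0 : ∃ l : P →* ℂˣ, l ⟨z, hzP⟩ ≠ 1 := by
    by_contra h
    push Not at h
    exact hno (mem_commutator_of_hom _ h)
  obtain ⟨l, hl⟩ := h0
  have key : ∀ (k : ℕ) (g₀ : Y), g₀⁻¹ * z ^ k * g₀ ∈ P → g₀⁻¹ * z ^ k * g₀ = z ^ k := by
    intro k g₀ _
    have h1 : Commute g₀ (z ^ k) := (Commute.pow_right (hc g₀) k)
    rw [h1.inv_left.eq, inv_mul_cancel_right]
  have h1 := MonoidHom.transfer_eq_pow l z key
  have h2 : (l.transfer) z = 1 := by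
    have h3 : commutator Y ≤ (l.transfer).ker := by
      rw [commutator_def, Subgroup.commutator_le]
      intro a _ b _
      rw [MonoidHom.mem_ker, map_commutatorElement, commutatorElement_eq_one_iff_mul_comm]
      exact mul_comm _ _
    exact h3 hzY
  rw [h2] at h1
  have h3 : (⟨z ^ P.index, MonoidHom.transfer_eq_pow_aux z key⟩ : P) = (⟨z, hzP⟩ : P) ^ P.index :=
    Subtype.ext (by simp)
  rw [h3, map_pow] at h1
  obtain ⟨n, hn⟩ := hP ⟨z, hzP⟩
  have h4 : l ⟨z, hzP⟩ ^ (q ^ n) = 1 := by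
    rw [← map_pow, hn, map_one]
  have h5 : Nat.Coprime P.index (q ^ n) :=
    Nat.Coprime.pow_right _ ((Nat.Prime.coprime_iff_not_dvd hq).mpr hi).symm
  exact hl (Cfsg.Agent.Lib.RelDeg.eq_one_of_pow_coprime h5 h1.symm h4)

end Focal

section V1

variable {Z : Type u} [Group Z] [Finite Z]

/-- A character of minimal degree above a normal subgroup of a `t`-group kills its commutators. -/
theorem min_kills {t : ℕ} (ht : t.Prime) (hZ : IsPGroup t Z) (B₀ : Subgroup Z) [hB₀ : B₀.Normal]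
    (ψ : IrrCharacter Z) (hmin : ∀ β : IrrCharacter Z, NT B₀ β → charDegree (ψ : Z → ℂ) ≤ charDegree (β : Z → ℂ)) :
    ∀ x ∈ ⁅B₀, B₀⁆, (ψ : Z → ℂ) x = (ψ : Z → ℂ) 1 := by
  haveI : Fact t.Prime := ⟨ht⟩
  obtain ⟨H, lam, hψ⟩ := monomial_of_abelian (⊥ : Subgroup Z) ht
    (IsPGroup.to_quotient hZ ⊥) (by
      intro a ha b hb
      rw [Subgroup.mem_bot] at ha hb
      rw [ha, hb]) (ψ : Z → ℂ) ψ.2
  have hidx : charDegree (ψ : Z → ℂ) = H.index := by
    apply charDegree_of_one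
    rw [hψ, indFun_one]
    simp
  by_cases hB : B₀ ≤ H
  · intro x hx
    rw [hψ, indFun_apply, indFun_apply]
    congr 1
    refine Finset.sum_congr rfl fun y _ => ?_
    have h1 : y⁻¹ * x * y ∈ ⁅B₀, B₀⁆ := by
      have hn : (⁅B₀, B₀⁆ : Subgroup Z).Normal := Subgroup.commutator_normal _ _
      have := hn.conj_mem x hx y⁻¹
      simpa using this
    have h2 : y⁻¹ * x * y ∈ ⁅H, H⁆ := Subgroup.commutator_mono hB hB h1
    have h3 : y⁻¹ * x * y ∈ H := by
      have : ⁅H, H⁆ ≤ H := Subgroup.commutator_le.mpr fun a ha b hb =>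
        H.mul_mem (H.mul_mem (H.mul_mem ha hb) (H.inv_mem ha)) (H.inv_mem hb)
      exact this h2
    have h4 : y⁻¹ * (1 : Z) * y ∈ H := by simp [H.one_mem]
    rw [extendByZero_of_mem H _ h3, extendByZero_of_mem H _ h4]
    rw [Cfsg.Agent.Lib.PalfyE.hom_comm_eq_one H lam h2 h3]
    have h5 : (⟨y⁻¹ * (1 : Z) * y, h4⟩ : H) = 1 := Subtype.ext (by simp)
    rw [h5]
    simp
  · exfalso
    obtain ⟨β, h1, -, h2⟩ := exists_small H B₀ ⊥ bot_le hB
    have := hmin β h1
    omega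

theorem comm_map_eq {G : Type u} [Group G] (B P : Subgroup G) (hBP : B ≤ P) :
    (⁅B.subgroupOf P, B.subgroupOf P⁆ : Subgroup P).map P.subtype = ⁅B, B⁆ := by
  rw [Subgroup.map_commutator, Subgroup.subgroupOf_map_subtype, inf_eq_left.mpr hBP]

variable {X : Type u} [Group X] [Finite X]

open Cfsg.Agent.Lib.RelDeg in
/-- No constituent on a `p`-subgroup containing `D` is trivial on `D`. -/
theorem no_trivial_constituent (D P : Subgroup X) [hD : D.Normal] (hDP : D ≤ P)
    (χ : IrrCharacter X) (hNT : NT D χ) (ψ : IrrCharacter P)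
    (hψ : classInner (fun n : P => (χ : X → ℂ) n) (ψ : P → ℂ) ≠ 0) :
    ∃ y : D, (ψ : P → ℂ) ⟨y, hDP y.2⟩ ≠ (ψ : P → ℂ) 1 := by
  by_contra hno
  push Not at hno
  obtain ⟨x, hx, hx1⟩ := hNT
  apply hx1
  have hχc := IsIrrCharacter.isCharacter χ.2
  have hres := isCharacter_restrict P hχc
  obtain ⟨ψ', hψ', hdec⟩ := Cfsg.Agent.Lib.CharDecomp.exists_char_add hres ψ.2 hψ
  apply eq_of_over_one (N := D) (γ := χ)
  · show classInner _ _ ≠ 0
    have h1 : (fun n : D => (χ : X → ℂ) n) = (fun n : D => (ψ : P → ℂ) ⟨n, hDP n.2⟩) +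
        (fun n : D => ψ' ⟨n, hDP n.2⟩) := by
      funext n
      have := congrFun hdec ⟨n, hDP n.2⟩
      exact this
    rw [h1, classInner_add_left]
    have hinc := Subgroup.inclusion hDP
    have c1 : IsCharacter D (fun n : D => ψ' ⟨n, hDP n.2⟩) :=
      isCharacter_comp (Subgroup.inclusion hDP) hψ'
    obtain ⟨b, hb⟩ := classInner_char_irr c1 (lin D (1 : D →* ℂˣ)).2
    have h2 : (fun n : D => (ψ : P → ℂ) ⟨n, hDP n.2⟩) =
        ((ψ : P → ℂ) 1) • (lin D (1 : D →* ℂˣ) : D → ℂ) := by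
      funext n
      rw [hno n]
      simp [lin_apply]
    rw [hb, h2, classInner_smul_left, classInner_irr_self (lin D (1 : D →* ℂˣ)).2, mul_one,
      one_eq_charDegree (IsIrrCharacter.isCharacter ψ.2)]
    have h3 := charDegree_pos ψ.2
    exact_mod_cast (by omega : charDegree (ψ : P → ℂ) + b ≠ 0)
  · exact hx

/-- The main valuation lemma. -/
theorem V1 {t : ℕ} (ht : t.Prime) (B : Subgroup X) [hB : B.Normal] (hBp : IsPGroup t B)
    (hne : ⁅B, B⁆ ≠ ⊥) :
    ∃ j, (∃ χ₀ : IrrCharacter X, NT B χ₀ ∧ ¬ t ^ (j + 1) ∣ charDegree (χ₀ : X → ℂ)) ∧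
      ∀ χ' : IrrCharacter X, NT ⁅B, B⁆ χ' → t ^ (j + 1) ∣ charDegree (χ' : X → ℂ) := by
  classical
  haveI : Fact t.Prime := ⟨ht⟩
  obtain ⟨P, hBP⟩ := hBp.exists_le_sylow
  set Pg : Subgroup X := (P : Subgroup X) with hPg
  have hZ : IsPGroup t Pg := P.isPGroup'
  let B₀ : Subgroup Pg := B.subgroupOf Pg
  haveI hB₀ : B₀.Normal := Subgroup.normal_subgroupOf
  have hcomm : (⁅B₀, B₀⁆ : Subgroup Pg).map Pg.subtype = ⁅B, B⁆ := comm_map_eq B Pg hBP
  have hB₀ne : B₀ ≠ ⊥ := by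
    intro h
    apply hne
    rw [← hcomm, h]
    simp
  have hex : ∃ d, ∃ ψ : IrrCharacter Pg, NT B₀ ψ ∧ charDegree (ψ : Pg → ℂ) = d := by
    obtain ⟨ψ, hψ⟩ := exists_NT hB₀ne
    exact ⟨_, ψ, hψ, rfl⟩
  obtain ⟨ψ₀, hψ₀, hψ₀d⟩ := Nat.find_spec hex
  have hmin : ∀ β : IrrCharacter Pg, NT B₀ β → charDegree (ψ₀ : Pg → ℂ) ≤ charDegree (β : Pg → ℂ) := by
    intro β hβ
    rw [hψ₀d]
    exact Nat.find_min' hex ⟨β, hβ, rfl⟩
  obtain ⟨j, hj⟩ := deg_pow_of_pgroup ht hZ ψ₀
  refine ⟨j, ?_, ?_⟩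
  · have hb : ¬ t ^ (j + 1) ∣ Pg.index * charDegree (ψ₀ : Pg → ℂ) := by
      rw [hj, pow_succ, mul_comm Pg.index]
      intro h
      exact P.not_dvd_index (Nat.dvd_of_mul_dvd_mul_left (pow_pos ht.pos j) h)
    obtain ⟨χ₀, h1, h2⟩ := exists_low Pg ψ₀.2 hb
    refine ⟨χ₀, ?_, h2⟩
    obtain ⟨x, hx, hx1⟩ := hψ₀
    refine ⟨x, hx, fun h3 => hx1 ?_⟩
    exact ker_of_over Pg (IsIrrCharacter.isCharacter χ₀.2) ψ₀.2 h1 (by simpa using h3)
  · intro χ' hχ'
    haveI hDn : (⁅B, B⁆ : Subgroup X).Normal := Subgroup.commutator_normal _ _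
    have hDP : ⁅B, B⁆ ≤ Pg := by
      have : ⁅B, B⁆ ≤ B := Subgroup.commutator_le_left _ _
      exact this.trans hBP
    refine dvd_of_constituents Pg (IsIrrCharacter.isCharacter χ'.2) ?_
    intro ψ hψ
    obtain ⟨y, hy⟩ := no_trivial_constituent ⁅B, B⁆ Pg hDP χ' hχ' ψ hψ
    have hy' : (⟨y, hDP y.2⟩ : Pg) ∈ ⁅B₀, B₀⁆ := by
      have h1 : (y : X) ∈ (⁅B₀, B₀⁆ : Subgroup Pg).map Pg.subtype := by
        rw [hcomm]
        exact y.2
      obtain ⟨z, hz, hzy⟩ := h1
      have h2 : (⟨y, hDP y.2⟩ : Pg) = z := Subtype.ext hzy.symm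
      rw [h2]
      exact hz
    have hNT0 : NT B₀ ψ := by
      refine ⟨_, ?_, hy⟩
      have : ⁅B₀, B₀⁆ ≤ B₀ := Subgroup.commutator_le_left _ _
      exact this hy'
    have hle := hmin ψ hNT0
    have hne' : charDegree (ψ : Pg → ℂ) ≠ charDegree (ψ₀ : Pg → ℂ) := by
      intro heq
      apply hy
      refine min_kills ht hZ B₀ ψ (fun β hβ => ?_) _ hy'
      rw [heq]
      exact hmin β hβ
    obtain ⟨k, hk⟩ := deg_pow_of_pgroup ht hZ ψ
    rw [hk, hj] at hle hne'
    have hjk : j < k := by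
      have h1 : j ≤ k := (Nat.pow_le_pow_iff_right ht.one_lt).mp hle
      rcases h1.lt_or_eq with h | h
      · exact h
      · exact absurd (by rw [h]) hne'
    rw [hk]
    exact pow_dvd_pow t hjk

end V1

section UMin

variable {X : Type u} [Group X]

/-- `M` is the unique minimal normal subgroup. -/
structure UMin (M : Subgroup X) : Prop where
  ne : M ≠ ⊥
  normal : M.Normal
  le : ∀ N : Subgroup X, N.Normal → N ≠ ⊥ → M ≤ N

theorem UMin.abelian [Group.IsSolvable X] {M : Subgroup X} (h : UMin M) :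
    ∀ a ∈ M, ∀ b ∈ M, a * b = b * a := by
  haveI := h.normal
  by_cases hc : (⁅M, M⁆ : Subgroup X) = ⊥
  · intro a ha b hb
    have h1 := Subgroup.commutator_mem_commutator ha hb
    rw [hc, Subgroup.mem_bot] at h1
    exact commutatorElement_eq_one_iff_mul_comm.mp h1
  · exfalso
    have h1 : M ≤ ⁅M, M⁆ := h.le _ (Subgroup.commutator_normal _ _) hc
    have h2 : ∀ n, M ≤ derivedSeries X n := by
      intro n
      induction n with
      | zero => simp
      | succ n ih =>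
        rw [derivedSeries_succ]
        exact h1.trans (Subgroup.commutator_mono ih ih)
    obtain ⟨n, hn⟩ := (Group.isSolvable_def X).mp inferInstance
    have h3 := h2 n
    rw [hn] at h3
    exact h.ne (le_bot_iff.mp h3)

theorem UMin.pgroup [Finite X] [Group.IsSolvable X] {M : Subgroup X} (h : UMin M) :
    ∃ t, t.Prime ∧ IsPGroup t M := by
  have hab := h.abelian
  haveI hMn := h.normal
  have hM1 : 1 < Nat.card M := by
    haveI : Nontrivial M := (Subgroup.nontrivial_iff_ne_bot M).mpr h.ne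
    exact Finite.one_lt_card
  obtain ⟨t, ht, htd⟩ := Nat.exists_prime_and_dvd hM1.ne'
  haveI : Fact t.Prime := ⟨ht⟩
  obtain ⟨x, hx⟩ := exists_prime_orderOf_dvd_card' t htd
  let S : Subgroup X :=
    { carrier := {y | y ∈ M ∧ y ^ t = 1}
      mul_mem' := by
        rintro y z ⟨hy, hy'⟩ ⟨hz, hz'⟩
        refine ⟨M.mul_mem hy hz, ?_⟩
        have h1 : Commute y z := hab y hy z hz
        rw [h1.mul_pow, hy', hz', one_mul]
      one_mem' := ⟨M.one_mem, one_pow _⟩
      inv_mem' := by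
        rintro y ⟨hy, hy'⟩
        exact ⟨M.inv_mem hy, by rw [inv_pow, hy', inv_one]⟩ }
  have hSn : S.Normal := ⟨by
    rintro y ⟨hy, hy'⟩ g
    exact ⟨hMn.conj_mem y hy g, by rw [conj_pow, hy']; simp⟩⟩
  have hSne : S ≠ ⊥ := by
    intro h0
    have h1 : (x : X) ∈ S := by
      refine ⟨x.2, ?_⟩
      have h2 : x ^ t = 1 := by
        rw [← hx]
        exact pow_orderOf_eq_one x
      exact congrArg Subtype.val h2
    rw [h0] at h1
    have h2 : x = 1 := Subtype.ext h1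
    rw [h2, orderOf_one] at hx
    exact ht.one_lt.ne hx
  have hMS := h.le S hSn hSne
  refine ⟨t, ht, ?_⟩
  intro y
  refine ⟨1, ?_⟩
  apply Subtype.ext
  rw [pow_one]
  exact (hMS y.2).2

/-- A quotient in which the image of a normal subgroup is the unique minimal normal subgroup. -/
theorem exists_umin_quot [Finite X] (A₁ : Subgroup X) [hA₁ : A₁.Normal] (hne : A₁ ≠ ⊥) :
    ∃ N : Subgroup X, ∃ _ : N.Normal, ¬ A₁ ≤ N ∧ UMin (A₁.map (QuotientGroup.mk' N)) := by
  classical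
  let S : Set (Subgroup X) := {N | N.Normal ∧ ¬ A₁ ≤ N}
  have hS : S.Nonempty := ⟨⊥, ⟨inferInstance, fun h => hne (le_bot_iff.mp h)⟩⟩
  obtain ⟨N, hNmax⟩ := S.toFinite.exists_maximal hS
  haveI hNn : N.Normal := hNmax.prop.1
  refine ⟨N, hNn, hNmax.prop.2, ?_, ?_, ?_⟩
  · intro h
    apply hNmax.prop.2
    intro x hx
    have h1 : QuotientGroup.mk' N x ∈ A₁.map (QuotientGroup.mk' N) := ⟨x, hx, rfl⟩
    rw [h, Subgroup.mem_bot] at h1
    exact (QuotientGroup.eq_one_iff x).mp h1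
  · exact Subgroup.Normal.map hA₁ _ (QuotientGroup.mk'_surjective N)
  · intro L hL hLne
    haveI := hL
    have h1 : A₁ ≤ L.comap (QuotientGroup.mk' N) := by
      by_contra h2
      have h3 : L.comap (QuotientGroup.mk' N) ∈ S := ⟨inferInstance, h2⟩
      have h4 : N ≤ L.comap (QuotientGroup.mk' N) := by
        intro x hx
        show QuotientGroup.mk' N x ∈ L
        have : QuotientGroup.mk' N x = 1 := (QuotientGroup.eq_one_iff x).mpr hx
        rw [this]
        exact L.one_mem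
      have h5 := hNmax.le_of_ge h3 h4
      apply hLne
      rw [eq_bot_iff]
      intro y hy
      obtain ⟨x, rfl⟩ := QuotientGroup.mk'_surjective N y
      exact Subgroup.mem_bot.mpr ((QuotientGroup.eq_one_iff x).mpr (h5 hy))
    rintro _ ⟨x, hx, rfl⟩
    exact h1 hx

end UMin

section Claim1

variable {X : Type u} [Group X] [Finite X]

open Cfsg.Agent.Lib.RelDeg

/-- A character of minimal degree: `A` fixes its constituents. -/
theorem le_stb_of_min (A D : Subgroup X) [hA : A.Normal] [hD : D.Normal] {e : ℕ}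
    (hmin : ∀ β : IrrCharacter X, NT A β → e ≤ charDegree (β : X → ℂ)) {χ : IrrCharacter X}
    (hχ : charDegree (χ : X → ℂ) = e) {ν : IrrCharacter D} (hov : Over D χ ν) : A ≤ stb ν := by
  by_contra h
  obtain ⟨β, h1, -, h2⟩ := exists_small (stb ν) A ⊥ bot_le h
  have h3 := hmin β h1
  have h4 := degree_over hov
  have h5 : (stb ν).index ∣ charDegree (χ : X → ℂ) := (Dvd.intro _ rfl).trans h4
  have h6 := Nat.le_of_dvd (charDegree_pos χ.2) h5
  omega

/-- Over a nontrivial character means nontrivial. -/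
theorem NT_of_over {D : Subgroup X} [hD : D.Normal] {χ : IrrCharacter X} {ν : IrrCharacter D}
    (hov : Over D χ ν) (hν : ∃ x, (ν : D → ℂ) x ≠ (ν : D → ℂ) 1) : NT D χ := by
  obtain ⟨x, hx⟩ := hν
  refine ⟨x, x.2, fun h => hx ?_⟩
  exact ker_of_over D (IsIrrCharacter.isCharacter χ.2) ν.2 hov (by simpa using h)

theorem comm_pow_left {x y : X} (hx : x * ⁅x, y⁆ = ⁅x, y⁆ * x) (m : ℕ) : ⁅x ^ m, y⁆ = ⁅x, y⁆ ^ m := by
  induction m with
  | zero => simp
  | succ m ih =>
    have e1 : ⁅x ^ (m + 1), y⁆ = x * ⁅x ^ m, y⁆ * x⁻¹ * ⁅x, y⁆ := by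
      simp only [commutatorElement_def, pow_succ']
      group
    rw [e1, ih]
    have h5 : Commute x (⁅x, y⁆ ^ m) := Commute.pow_right hx m
    rw [h5.eq, mul_inv_cancel_right, pow_succ]

theorem comm_pow_right {x y : X} (hy : y * ⁅x, y⁆ = ⁅x, y⁆ * y) (m : ℕ) : ⁅x, y ^ m⁆ = ⁅x, y⁆ ^ m := by
  have h1 : ⁅y, x⁆ = ⁅x, y⁆⁻¹ := (commutatorElement_inv _ _).symm
  have h2 : y * ⁅y, x⁆ = ⁅y, x⁆ * y := by
    rw [h1]
    exact (Commute.inv_right hy).eq
  have h3 := comm_pow_left h2 m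
  rw [← commutatorElement_inv, h3, h1, inv_pow, inv_inv]

/-- `Claim 1` when the commutator subgroup is the unique minimal normal subgroup. -/
theorem claim1_aux [Group.IsSolvable X] (A : Subgroup X) [hA : A.Normal] (m : ℕ)
    (h : ∀ χ : IrrCharacter X, NT A χ → charDegree (χ : X → ℂ) = m) (hU : UMin (⁅A, A⁆ : Subgroup X)) :
    False := by
  classical
  set M : Subgroup X := ⁅A, A⁆ with hM
  haveI hMn : M.Normal := hU.normal
  have hMA : M ≤ A := Subgroup.commutator_le_left _ _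
  have hab := hU.abelian
  obtain ⟨t, ht, hMt⟩ := hU.pgroup
  haveI : Fact t.Prime := ⟨ht⟩
  -- `A` fixes all linear characters of `M`
  have hfix : ∀ ν : M →* ℂˣ, A ≤ stb (lin M ν) := by
    intro ν
    by_cases hν : ν = 1
    · subst hν
      intro a _
      rw [mem_stb_lin]
      exact cj_hom_one a
    · obtain ⟨χ, hχ⟩ := exists_over_irr (lin M ν)
      have h1 : NT M χ := by
        refine NT_of_over hχ ?_
        by_contra hno
        push Not at hno
        apply hν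
        ext x
        have := hno x
        simpa [lin_apply] using this
      refine le_stb_of_min A M (e := m) (fun β hβ => (h β hβ).ge) (h χ (h1.mono hMA)) hχ
  have hcen : ⁅M, A⁆ ≤ ⁅M, M⁆ := comm_le_of_fix M A hfix
  have hMM : (⁅M, M⁆ : Subgroup X) = ⊥ := by
    rw [eq_bot_iff, Subgroup.commutator_le]
    intro a ha b hb
    rw [Subgroup.mem_bot]
    exact commutatorElement_eq_one_iff_mul_comm.mpr (hab a ha b hb)
  rw [hMM] at hcen
  have hcen' : ∀ c ∈ M, ∀ a ∈ A, c * a = a * c := by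
    intro c hc a ha
    have h1 := hcen (Subgroup.commutator_mem_commutator hc ha)
    rw [Subgroup.mem_bot] at h1
    exact commutatorElement_eq_one_iff_mul_comm.mp h1
  -- `A` is nilpotent
  haveI hAnil : Group.IsNilpotent A := by
    refine Subgroup.isNilpotent_of_ker_le_center (Abelianization.of (G := A)) ?_
    intro x hx
    rw [Subgroup.mem_center_iff]
    intro g
    have hx' : x ∈ commutator A := by
      have h1 : Abelianization.of x = 1 := hx
      exact (QuotientGroup.eq_one_iff x).mp h1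
    have h2 : (x : X) ∈ M := by
      rw [hM, ← Subgroup.map_subtype_commutator]
      exact ⟨x, hx', rfl⟩
    exact Subtype.ext (hcen' x h2 g g.2).symm
  obtain ⟨P⟩ : Nonempty (Sylow t A) := inferInstance
  have hPn : (P : Subgroup A).Normal := inferInstance
  haveI hPc : (P : Subgroup A).Characteristic := Sylow.characteristic_of_normal P hPn
  set B : Subgroup X := (P : Subgroup A).map A.subtype with hB
  haveI hBn : B.Normal := ConjAct.normal_of_characteristic_of_normal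
  have hBA : B ≤ A := Subgroup.map_subtype_le _
  have hBp : IsPGroup t B := P.isPGroup'.map _
  have hmemB : ∀ x : A, ∀ k, x ^ (t ^ k) = 1 → (x : X) ∈ B := by
    intro x k hx
    exact ⟨x, Cfsg.Agent.Lib.PalfyD.mem_of_pelt hPn P.not_dvd_index hx, rfl⟩
  -- `B` is not abelian
  have hne : (⁅B, B⁆ : Subgroup X) ≠ ⊥ := by
    obtain ⟨c, hc, hc1⟩ := exists_ne_one_of_ne_bot hU.ne
    have hex : ∃ a ∈ A, ∃ b ∈ A, ⁅a, b⁆ ≠ 1 := by
      by_contra hno
      push Not at hno
      apply hc1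
      have h1 : M ≤ ⊥ := by
        rw [hM, Subgroup.commutator_le]
        intro a ha b hb
        rw [Subgroup.mem_bot]
        exact hno a ha b hb
      exact Subgroup.mem_bot.mp (h1 hc)
    obtain ⟨a, ha, b, hb, hab1⟩ := hex
    have hcM : ⁅a, b⁆ ∈ M := Subgroup.commutator_mem_commutator ha hb
    have ha0 : orderOf (⟨a, ha⟩ : A) ≠ 0 := (orderOf_pos _).ne'
    have hb0 : orderOf (⟨b, hb⟩ : A) ≠ 0 := (orderOf_pos _).ne'
    obtain ⟨k₁, u₁, hu₁, hk₁⟩ := Nat.exists_eq_pow_mul_and_not_dvd ha0 t ht.ne_one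
    obtain ⟨k₂, u₂, hu₂, hk₂⟩ := Nat.exists_eq_pow_mul_and_not_dvd hb0 t ht.ne_one
    have hA1 : (⟨a, ha⟩ ^ u₁ : A) ^ (t ^ k₁) = 1 := by
      rw [← pow_mul, mul_comm, ← hk₁, pow_orderOf_eq_one]
    have hB1 : (⟨b, hb⟩ ^ u₂ : A) ^ (t ^ k₂) = 1 := by
      rw [← pow_mul, mul_comm, ← hk₂, pow_orderOf_eq_one]
    have ha' : a ^ u₁ ∈ B := hmemB _ _ hA1
    have hb' : b ^ u₂ ∈ B := hmemB _ _ hB1
    have h1 : ⁅a ^ u₁, b ^ u₂⁆ = ⁅a, b⁆ ^ (u₁ * u₂) := by
      have h2 : b ^ u₂ * ⁅a ^ u₁, b⁆ = ⁅a ^ u₁, b⁆ * b ^ u₂ := by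
        rw [comm_pow_left ((hcen' _ hcM a ha).symm) u₁]
        exact (Commute.pow_pow (hcen' _ hcM b hb).symm u₂ u₁ : Commute _ _).eq
      have h3 : b * ⁅a ^ u₁, b⁆ = ⁅a ^ u₁, b⁆ * b := by
        rw [comm_pow_left ((hcen' _ hcM a ha).symm) u₁]
        exact (Commute.pow_right (hcen' _ hcM b hb).symm u₁ : Commute _ _).eq
      rw [comm_pow_right h3 u₂, comm_pow_left ((hcen' _ hcM a ha).symm) u₁, ← pow_mul]
    intro hbot
    have h2 := Subgroup.commutator_mem_commutator ha' hb'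
    rw [hbot, Subgroup.mem_bot, h1] at h2
    obtain ⟨n, hn⟩ := hMt ⟨_, hcM⟩
    have h3 : ⁅a, b⁆ ^ (t ^ n) = 1 := congrArg Subtype.val hn
    have h4 : Nat.Coprime (u₁ * u₂) (t ^ n) := by
      apply Nat.Coprime.pow_right
      apply Nat.Coprime.mul_left
      · exact ((Nat.Prime.coprime_iff_not_dvd ht).mpr hu₁).symm
      · exact ((Nat.Prime.coprime_iff_not_dvd ht).mpr hu₂).symm
    exact hab1 (Cfsg.Agent.Lib.RelDeg.eq_one_of_pow_coprime h4 h2 h3)
  obtain ⟨j, ⟨χ₀, h0, h0'⟩, h1⟩ := V1 ht B hBp hne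
  obtain ⟨χ', hχ'⟩ := exists_NT hne
  have h2 := h1 χ' hχ'
  have hBA' : ⁅B, B⁆ ≤ A := (Subgroup.commutator_le_left _ _).trans hBA
  rw [h χ' (hχ'.mono hBA')] at h2
  rw [h χ₀ (h0.mono hBA)] at h0'
  exact h0' h2

/-- **Claim 1**: one relative degree implies abelian. -/
theorem comm_of_one_deg [hs : Group.IsSolvable X] (A : Subgroup X) [hA : A.Normal] (m : ℕ)
    (h : ∀ χ : IrrCharacter X, NT A χ → charDegree (χ : X → ℂ) = m) :
    (⁅A, A⁆ : Subgroup X) = ⊥ := by
  by_contra hne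
  haveI hAA : (⁅A, A⁆ : Subgroup X).Normal := Subgroup.commutator_normal _ _
  obtain ⟨N, hN, hle, hU⟩ := exists_umin_quot (⁅A, A⁆ : Subgroup X) hne
  haveI := hN
  let q := QuotientGroup.mk' N
  have hq : Function.Surjective q := QuotientGroup.mk'_surjective N
  haveI : Group.IsSolvable (X ⧸ N) := Group.isSolvable_of_surjective hq
  haveI hA' : (A.map q).Normal := Subgroup.Normal.map hA _ hq
  refine claim1_aux (A.map q) m ?_ ?_
  · intro χ hχ
    obtain ⟨_, ⟨x, hx, rfl⟩, h1⟩ := hχ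
    have h2 := h (infl q hq χ) ⟨x, hx, by
      rw [infl_apply, infl_apply, map_one]
      exact h1⟩
    rwa [infl_deg] at h2
  · have h1 : (⁅A.map q, A.map q⁆ : Subgroup (X ⧸ N)) = (⁅A, A⁆ : Subgroup X).map q :=
      (Subgroup.map_commutator _ _ _).symm
    rw [h1]
    exact hU

end Claim1

end Cfsg.Agent.Lib.GarrA
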