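import Mathlib
import Cfsg.Agent.Lib.GarrA

/-!
# Garrison's theorem: the case of a prime dividing all nonlinear degrees
-/

set_option autoImplicit false
set_option linter.style.haveILetI false
set_option linter.unusedVariables false
set_option linter.unusedSectionVars false

namespace Cfsg.Agent.Lib.GarrB

open Cfsg Cfsg.Agent.Lib.CharBasic Cfsg.Agent.Lib.CharInd Cfsg.Agent.Lib.CharKernel
open Cfsg.Agent.Lib.Clifford Cfsg.Agent.Lib.CliffDvd Cfsg.Agent.Lib.TwoDeg
open Cfsg.Agent.Lib.ThreeDeg31 Cfsg.Agent.Lib.RealOdd Cfsg.Agent.Lib.GarrA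
open scoped ComplexConjugate commutatorElement

universe u

attribute [local instance] Fintype.ofFinite

/-- Degrees are in `{1, a, b, c}`. -/
def Four (G : Type u) [Group G] (a b c : ℕ) : Prop :=
  ∀ χ : IrrCharacter G, charDegree (χ : G → ℂ) = 1 ∨ charDegree (χ : G → ℂ) = a ∨
    charDegree (χ : G → ℂ) = b ∨ charDegree (χ : G → ℂ) = c

theorem Four.of_surjective {G K : Type u} [Group G] [Group K] {a b c : ℕ} (h : Four G a b c)
    (f : G →* K) (hf : Function.Surjective f) : Four K a b c := by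
  intro χ
  have h1 := isIrrCharacter_comp_of_surjective f hf χ.2
  rw [← charDegree_comp f]
  exact h ⟨_, h1⟩

section DL

variable {X : Type u} [Group X] [Finite X]

theorem abelian_of_all_linear (h : ∀ χ : IrrCharacter X, charDegree (χ : X → ℂ) = 1) :
    derivedSeries X 1 = ⊥ := by
  rw [derivedSeries_one, eq_bot_iff, commutator_def, Subgroup.commutator_le]
  intro a _ b _
  rw [Subgroup.mem_bot, commutatorElement_eq_one_iff_mul_comm]
  apply comm_of_all_linear
  intro θ
  rw [one_eq_charDegree (IsIrrCharacter.isCharacter θ.2), h θ]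
  simp

/-- The derived length bound for fewer degrees. -/
theorem dl_of_finset (hs : Group.IsSolvable X) (E : Finset ℕ)
    (h : ∀ χ : IrrCharacter X, charDegree (χ : X → ℂ) = 1 ∨ charDegree (χ : X → ℂ) ∈ E)
    (hE : E.card ≤ 3) (IH4 : E.card = 3 → derivedSeries X 4 = ⊥) :
    derivedSeries X (E.card + 1) = ⊥ := by
  have hc : E.card = 0 ∨ E.card = 1 ∨ E.card = 2 ∨ E.card = 3 := by omega
  rcases hc with hc | hc | hc | hc
  · rw [hc]
    rw [Finset.card_eq_zero] at hc
    subst hc
    apply abelian_of_all_linear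
    intro χ
    simpa using h χ
  · rw [hc]
    obtain ⟨a, rfl⟩ := Finset.card_eq_one.mp hc
    have h2 : Two X a := by
      intro χ
      simpa using h χ
    rw [show (1 + 1 : ℕ) = 2 from rfl, derivedSeries_succ, derivedSeries_one, eq_bot_iff,
      Subgroup.commutator_le]
    intro x hx y hy
    rw [Subgroup.mem_bot, commutatorElement_eq_one_iff_mul_comm]
    exact comm_comm_of_two h2 x hx y hy
  · rw [hc]
    obtain ⟨a, b, -, rfl⟩ := Finset.card_eq_two.mp hc
    have h2 : Three X a b := by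
      intro χ
      simpa using h χ
    exact derived_three_of_solvable hs h2
  · rw [hc]
    exact IH4 hc

/-- Taketa's argument with ranks. -/
theorem taketa_rank (D : Finset ℕ) (hD : ∀ γ : IrrCharacter X, charDegree (γ : X → ℂ) ∈ D)
    (hM : ∀ χ : X → ℂ, IsIrrCharacter X χ → ∃ (H : Subgroup X) (lam : H →* ℂˣ),
      χ = indFun H (fun h => ((lam h : ℂˣ) : ℂ))) :
    ∀ (n : ℕ) (γ : IrrCharacter X), charDegree (γ : X → ℂ) = n →
      ∀ x ∈ derivedSeries X ((D.filter (· < n)).card + 1), (γ : X → ℂ) x = (γ : X → ℂ) 1 := by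
  intro n
  induction n using Nat.strong_induction_on with
  | _ n ih =>
    intro γ hγ
    obtain ⟨H, lam, h⟩ := hM _ γ.2
    refine taketa_step γ.2 H lam h _ ?_
    intro ψ hψ hlt
    rw [hγ] at hlt
    have h1 := ih _ hlt ⟨ψ, hψ⟩ rfl
    intro x hx
    refine h1 x (derivedSeries_antitone X ?_ hx)
    have h2 : insert (charDegree ψ) (D.filter (· < charDegree ψ)) ⊆ D.filter (· < n) := by
      intro d hd
      rw [Finset.mem_insert] at hd
      rcases hd with rfl | hd
      · exact Finset.mem_filter.mpr ⟨hD ⟨ψ, hψ⟩, hlt⟩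
      · rw [Finset.mem_filter] at hd ⊢
        exact ⟨hd.1, hd.2.trans hlt⟩
    have h3 := Finset.card_le_card h2
    rw [Finset.card_insert_of_notMem (by simp)] at h3
    exact h3

theorem taketa_top (D : Finset ℕ) (hD : ∀ γ : IrrCharacter X, charDegree (γ : X → ℂ) ∈ D)
    (hM : ∀ χ : X → ℂ, IsIrrCharacter X χ → ∃ (H : Subgroup X) (lam : H →* ℂˣ),
      χ = indFun H (fun h => ((lam h : ℂˣ) : ℂ))) : derivedSeries X D.card = ⊥ := by
  rw [eq_bot_iff]
  intro x hx
  have h1 : IsConj x 1 := by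
    apply Cfsg.Agent.Lib.CharAvg.isConj_of_forall_irr
    intro γ
    refine taketa_rank D hD hM _ γ rfl x (derivedSeries_antitone X ?_ hx)
    have h2 : insert (charDegree (γ : X → ℂ)) (D.filter (· < charDegree (γ : X → ℂ))) ⊆ D := by
      intro d hd
      rw [Finset.mem_insert] at hd
      rcases hd with rfl | hd
      · exact hD γ
      · exact (Finset.mem_filter.mp hd).1
    have h3 := Finset.card_le_card h2
    rw [Finset.card_insert_of_notMem (by simp)] at h3
    exact h3
  exact (Subgroup.mem_bot).mpr (isConj_one_left.mp h1)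

/-- A subgroup of index at most the top degree contains the penultimate derived subgroup. -/
theorem taketa_le (D : Finset ℕ) (hD : ∀ γ : IrrCharacter X, charDegree (γ : X → ℂ) ∈ D)
    (hM : ∀ χ : X → ℂ, IsIrrCharacter X χ → ∃ (H : Subgroup X) (lam : H →* ℂˣ),
      χ = indFun H (fun h => ((lam h : ℂˣ) : ℂ))) (T : Subgroup X) (hT : T.index ∈ D) :
    derivedSeries X (D.card - 1) ≤ T := by
  by_contra hno
  obtain ⟨β, ⟨x, hx, hx1⟩, -, h2⟩ := exists_small T (derivedSeries X (D.card - 1)) ⊥ bot_le hno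
  apply hx1
  refine taketa_rank D hD hM _ β rfl x (derivedSeries_antitone X ?_ hx)
  set d := charDegree (β : X → ℂ) with hd
  have h3 : insert d (insert T.index (D.filter (· < d))) ⊆ D := by
    intro y hy
    simp only [Finset.mem_insert] at hy
    rcases hy with rfl | rfl | hy
    · exact hD β
    · exact hT
    · exact (Finset.mem_filter.mp hy).1
  have h4 := Finset.card_le_card h3
  rw [Finset.card_insert_of_notMem (by
    simp only [Finset.mem_insert, Finset.mem_filter, not_or, not_and, not_lt]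
    exact ⟨h2.ne, fun _ => le_rfl⟩), Finset.card_insert_of_notMem (by
    simp only [Finset.mem_filter, not_and, not_lt]
    exact fun _ => h2.le)] at h4
  omega

theorem derived_map_step {G : Type u} [Group G] (K : Subgroup G) {n m : ℕ}
    (hn : derivedSeries G n ≤ (derivedSeries K m).map K.subtype) (i : ℕ) :
    derivedSeries G (n + i) ≤ (derivedSeries K (m + i)).map K.subtype := by
  induction i with
  | zero => exact hn
  | succ i ih =>
    rw [← add_assoc, ← add_assoc, derivedSeries_succ, derivedSeries_succ, Subgroup.map_commutator]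
    exact Subgroup.commutator_mono ih ih

end DL

section CaseT

variable {G : Type u} [Group G] [Finite G]

/-- **A prime dividing all nonlinear degrees.** -/
theorem case_T (hs : Group.IsSolvable G) {a b c : ℕ} (h4 : Four G a b c) {u : ℕ} (hu : u.Prime)
    (hnl : ∀ χ : IrrCharacter G, charDegree (χ : G → ℂ) ≠ 1 → u ∣ charDegree (χ : G → ℂ))
    (IHK : ∀ (K : Subgroup G) (a' b' c' : ℕ), K ≠ ⊤ → Four K a' b' c' → derivedSeries K 4 = ⊥) :
    derivedSeries G 4 = ⊥ := by
  haveI : Fact u.Prime := ⟨hu⟩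
  letI hdp : DecidablePred (fun d : ℕ => ∃ j, d = u ^ j) := Classical.decPred _
  obtain ⟨K, hKn, hKc, k, hKi⟩ := Cfsg.Agent.S4456.result u hu hnl
  haveI := hKn
  obtain ⟨P, r, hr, hker, hPp, hdec, hPcard⟩ := exists_complement_data K hu hKc hKi
  have hr_surj : Function.Surjective r := r_surj P r hr
  set T : Finset ℕ := {1, a, b, c} with hT
  have hTmem : ∀ χ : IrrCharacter G, charDegree (χ : G → ℂ) ∈ T := by
    intro χ
    simpa [hT] using h4 χ
  set D : Finset ℕ := T.filter (fun d => ∃ j, d = u ^ j) with hDdef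
  have h1D : 1 ∈ D := by
    rw [hDdef, Finset.mem_filter]
    exact ⟨by simp [hT], 0, by simp⟩
  have hDT : D ⊆ T := Finset.filter_subset _ _
  have hT4 : T.card ≤ 4 := Finset.card_le_four
  have hJ1 : 1 ≤ D.card := Finset.card_pos.mpr ⟨1, h1D⟩
  -- degrees of `P`
  have hDP : ∀ γ : IrrCharacter P, charDegree (γ : P → ℂ) ∈ D := by
    intro γ
    have h1 := hTmem (infl r hr_surj γ)
    rw [infl_deg] at h1
    rw [hDdef, Finset.mem_filter]
    exact ⟨h1, deg_pow_of_pgroup hu hPp γ⟩
  have hMP : ∀ χ : P → ℂ, IsIrrCharacter P χ → ∃ (H : Subgroup P) (lam : H →* ℂˣ),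
      χ = indFun H (fun h => ((lam h : ℂˣ) : ℂ)) := by
    intro χ hχ
    exact monomial_of_abelian (⊥ : Subgroup P) hu (IsPGroup.to_quotient hPp ⊥) (by
      intro x hx y hy
      rw [Subgroup.mem_bot] at hx hy
      rw [hx, hy]) χ hχ
  have htop := taketa_top D hDP hMP
  -- the stabilizers contain the penultimate term
  have hstab : ∀ l : K →* ℂˣ, derivedSeries P (D.card - 1) ≤ stab K P l := by
    intro l
    refine taketa_le D hDP hMP _ ?_
    obtain ⟨χ, hχ, -⟩ := exists_char_of_stab K P r hr hker l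
      ⟨fun _ => 1, isIrrCharacter_one⟩
    have hone : charDegree (fun _ : stab K P l => (1 : ℂ)) = 1 := charDegree_of_one (by simp)
    change charDegree (χ : G → ℂ) = (stab K P l).index * charDegree (fun _ : stab K P l => (1 : ℂ)) at hχ
    rw [hone, mul_one] at hχ
    rw [hDdef, Finset.mem_filter, ← hχ]
    refine ⟨hTmem χ, ?_⟩
    rw [hχ]
    have h1 : (stab K P l).index ∣ u ^ k := by
      rw [← hPcard]
      exact Subgroup.index_dvd_card _
    obtain ⟨j, -, hj⟩ := (Nat.dvd_prime_pow hu).mp h1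
    exact ⟨j, hj⟩
  -- the group theory
  have hKK : (⁅K, K⁆ : Subgroup G).Normal := Subgroup.commutator_normal K K
  set W : Subgroup G := (derivedSeries P (D.card - 1)).map P.subtype with hW
  have hcen : ∀ v ∈ W, ∀ k₀ ∈ K, v * k₀ * v⁻¹ * k₀⁻¹ ∈ (⁅K, K⁆ : Subgroup G) := by
    rintro _ ⟨v', hv', rfl⟩ k₀ hk₀
    have hfix := fun l => hstab l hv'
    let w : K := cj K (v' : G) ⟨k₀, hk₀⟩ * (⟨k₀, hk₀⟩ : K)⁻¹
    have hw : w ∈ commutator K := by
      apply mem_commutator_of_hom
      intro l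
      have h1 : act K (v' : G) l = l := hfix l
      have h2 : l (cj K (v' : G) ⟨k₀, hk₀⟩) = l ⟨k₀, hk₀⟩ := by
        have := congrArg (fun f : K →* ℂˣ => f ⟨k₀, hk₀⟩) h1
        exact this
      show l (cj K (v' : G) ⟨k₀, hk₀⟩ * (⟨k₀, hk₀⟩ : K)⁻¹) = 1
      rw [map_mul, map_inv, h2, mul_inv_cancel]
    rw [← Subgroup.map_subtype_commutator]
    refine ⟨w, hw, ?_⟩
    show ((cj K (v' : G) ⟨k₀, hk₀⟩ : K) : G) * k₀⁻¹ = _
    rw [cj_apply]
    rfl
  have hWab : ∀ v ∈ W, ∀ v' ∈ W, v * v' = v' * v := by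
    rintro _ ⟨x, hx, rfl⟩ _ ⟨y, hy, rfl⟩
    have h1 : D.card = (D.card - 1) + 1 := by omega
    have h2 : ⁅x, y⁆ ∈ derivedSeries P ((D.card - 1) + 1) := by
      rw [derivedSeries_succ]
      exact Subgroup.commutator_mem_commutator hx hy
    rw [← h1, htop, Subgroup.mem_bot] at h2
    have h3 := commutatorElement_eq_one_iff_mul_comm.mp h2
    exact congrArg Subtype.val h3
  set N₁ : Subgroup G := K ⊔ W with hN₁
  have s1 : derivedSeries G (D.card - 1) ≤ N₁ := by
    intro g hg
    have h1 : r g ∈ derivedSeries P (D.card - 1) :=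
      map_derivedSeries_le_derivedSeries r _ ⟨g, hg, rfl⟩
    have h2 : g = (g * ((r g : P) : G)⁻¹) * ((r g : P) : G) := by group
    rw [h2]
    refine N₁.mul_mem (Subgroup.mem_sup_left ?_) (Subgroup.mem_sup_right ⟨_, h1, rfl⟩)
    rw [← hker, map_mul, map_inv, hr, mul_inv_cancel]
  let ρ : G →* G ⧸ (⁅K, K⁆ : Subgroup G) := QuotientGroup.mk' _
  have hρ1 : ∀ z, ρ z = 1 ↔ z ∈ (⁅K, K⁆ : Subgroup G) := fun z => QuotientGroup.eq_one_iff z
  have comm_of : ∀ x y : G, x * y * x⁻¹ * y⁻¹ ∈ (⁅K, K⁆ : Subgroup G) → ρ x * ρ y = ρ y * ρ x := by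
    intro x y h
    have h1 := (hρ1 _).mpr h
    simp only [map_mul, map_inv] at h1
    calc ρ x * ρ y = ρ x * ρ y * (ρ x)⁻¹ * (ρ y)⁻¹ * (ρ y * ρ x) := by group
      _ = _ := by rw [h1, one_mul]
  have s2 : ⁅N₁, N₁⁆ ≤ (⁅K, K⁆ : Subgroup G) := by
    rw [Subgroup.commutator_le]
    intro x hx y hy
    obtain ⟨k₁, hk₁, v, hv, rfl⟩ := Subgroup.mem_sup_of_normal_left.mp hx
    obtain ⟨k₂, hk₂, v', hv', rfl⟩ := Subgroup.mem_sup_of_normal_left.mp hy
    rw [← hρ1, commutatorElement_def]
    simp only [map_mul, map_inv]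
    have c1 : ρ k₁ * ρ v = ρ v * ρ k₁ := (comm_of v k₁ (hcen v hv k₁ hk₁)).symm
    have c2 : ρ k₁ * ρ v' = ρ v' * ρ k₁ := (comm_of v' k₁ (hcen v' hv' k₁ hk₁)).symm
    have c3 : ρ k₁ * ρ k₂ = ρ k₂ * ρ k₁ := by
      apply comm_of
      rw [← commutatorElement_def]
      exact Subgroup.commutator_mem_commutator hk₁ hk₂
    have c4 : ρ k₂ * ρ v = ρ v * ρ k₂ := (comm_of v k₂ (hcen v hv k₂ hk₂)).symm
    have c5 : ρ k₂ * ρ v' = ρ v' * ρ k₂ := (comm_of v' k₂ (hcen v' hv' k₂ hk₂)).symm
    have c6 : ρ v * ρ v' = ρ v' * ρ v := by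
      rw [← map_mul, ← map_mul, hWab v hv v' hv']
    have h7 := commute_mul_of c1 c2 c3 c4 c5 c6
    have h8 : ρ k₁ * ρ v * (ρ k₂ * ρ v') * (ρ k₁ * ρ v)⁻¹ * (ρ k₂ * ρ v')⁻¹ = 1 := by
      rw [h7]
      group
    exact h8
  have s3 : derivedSeries G D.card ≤ (derivedSeries K 1).map K.subtype := by
    have h1 : D.card = (D.card - 1) + 1 := by omega
    rw [h1, derivedSeries_succ]
    have h2 : (derivedSeries K 1).map K.subtype = ⁅K, K⁆ := by
      rw [derivedSeries_one]
      exact Subgroup.map_subtype_commutator K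
    rw [h2]
    exact (Subgroup.commutator_mono s1 s1).trans s2
  have hJ4 : D.card ≤ 4 := (Finset.card_le_card hDT).trans hT4
  have s4 := derived_map_step K s3 (4 - D.card)
  have hadd : D.card + (4 - D.card) = 4 := by omega
  rw [hadd] at s4
  -- the degrees of `K`
  by_cases hKtop : K = ⊤
  · -- `u` does not divide the order of `G`
    subst hKtop
    have hlin : ∀ χ : IrrCharacter G, charDegree (χ : G → ℂ) = 1 := by
      intro χ
      by_contra h1
      have h2 := hnl χ h1
      have h3 : u ∣ Nat.card (⊤ : Subgroup G) := by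
        rw [Subgroup.card_top]
        exact h2.trans (charDegree_dvd_card χ.2)
      have h5 := Nat.Coprime.eq_one_of_dvd hKc.symm h3
      exact hu.one_lt.ne' h5
    have h1 := abelian_of_all_linear hlin
    rw [eq_bot_iff]
    exact (derivedSeries_antitone G (by omega : 1 ≤ 4)).trans h1.le
  let uprime : ℕ → ℕ := fun d => d / u ^ d.factorization u
  set E : Finset ℕ := (T \ D).image uprime with hE
  have hdegK : ∀ θ : IrrCharacter K, charDegree (θ : K → ℂ) = 1 ∨ charDegree (θ : K → ℂ) ∈ E := by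
    intro θ
    obtain ⟨χ, hχ⟩ := Cfsg.Agent.Lib.GlaubAbove.exists_irr_over K θ
    have h1 := degree_of_complement K hu hKc hKi χ θ hχ
    by_cases hχD : charDegree (χ : G → ℂ) ∈ D
    · left
      rw [hDdef, Finset.mem_filter] at hχD
      obtain ⟨-, j, hj⟩ := hχD
      rw [h1, hj, Nat.Prime.factorization_pow hu]
      simp [Nat.div_self (pow_pos hu.pos j)]
    · right
      rw [h1]
      exact Finset.mem_image_of_mem uprime (Finset.mem_sdiff.mpr ⟨hTmem χ, hχD⟩)
  have hEcard : E.card + D.card ≤ 4 := by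
    have h1 : E.card ≤ (T \ D).card := Finset.card_image_le
    have h2 : (T \ D).card + D.card = T.card := Finset.card_sdiff_add_card_eq_card hDT
    omega
  have hEc3 : E.card ≤ 3 := by omega
  have hKsol : Group.IsSolvable K := inferInstance
  have hdl := dl_of_finset hKsol E hdegK hEc3 (fun h3 => by
    obtain ⟨a', b', c', -, -, -, hEeq⟩ := Finset.card_eq_three.mp h3
    refine IHK K a' b' c' hKtop ?_
    intro θ
    have := hdegK θ
    rw [hEeq] at this
    simpa using this)
  have hfin : derivedSeries K (1 + (4 - D.card)) = ⊥ := by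
    rw [eq_bot_iff, ← hdl]
    exact derivedSeries_antitone K (by omega)
  rw [hfin] at s4
  simpa using s4

end CaseT

end Cfsg.Agent.Lib.GarrB
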