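import Mathlib
import Cfsg.Agent.Lib.GarrB

/-!
# Garrison's theorem: the case of a nonabelian `p`-quotient
-/

set_option autoImplicit false
set_option linter.style.haveILetI false
set_option linter.unusedVariables false
set_option linter.unusedSectionVars false

namespace Cfsg.Agent.Lib.GarrC

open Cfsg Cfsg.Agent.Lib.CharBasic Cfsg.Agent.Lib.CharInd Cfsg.Agent.Lib.CharKernel
open Cfsg.Agent.Lib.Clifford Cfsg.Agent.Lib.CliffDvd Cfsg.Agent.Lib.TwoDeg
open Cfsg.Agent.Lib.ThreeDeg31 Cfsg.Agent.Lib.RealOdd Cfsg.Agent.Lib.GarrA Cfsg.Agent.Lib.GarrB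
open scoped ComplexConjugate commutatorElement

universe u

attribute [local instance] Fintype.ofFinite

section Gen

variable {X : Type u} [Group X]

/-- The subgroup generated by the `p`-elements of `Y`. -/
def pGen (p : ℕ) (Y : Subgroup X) : Subgroup X :=
  Subgroup.closure {x | x ∈ Y ∧ ∃ k, x ^ (p ^ k) = 1}

/-- The subgroup generated by the `p'`-elements of `Y`. -/
def qGen (p : ℕ) (Y : Subgroup X) : Subgroup X :=
  Subgroup.closure {x | x ∈ Y ∧ ∃ m, m.Coprime p ∧ x ^ m = 1}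

theorem closure_normal' (S : Set X) (hS : ∀ x ∈ S, ∀ g : X, g * x * g⁻¹ ∈ S) :
    (Subgroup.closure S).Normal := by
  constructor
  intro n hn g
  induction hn using Subgroup.closure_induction with
  | mem x hx => exact Subgroup.subset_closure (hS x hx g)
  | one => simp [Subgroup.one_mem]
  | mul x y _ _ hx hy =>
    have : g * (x * y) * g⁻¹ = (g * x * g⁻¹) * (g * y * g⁻¹) := by group
    rw [this]
    exact mul_mem hx hy
  | inv x _ hx =>
    have : g * x⁻¹ * g⁻¹ = (g * x * g⁻¹)⁻¹ := by group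
    rw [this]
    exact inv_mem hx

theorem pGen_normal (p : ℕ) (Y : Subgroup X) [hY : Y.Normal] : (pGen p Y).Normal := by
  apply closure_normal'
  rintro x ⟨hx, k, hk⟩ g
  exact ⟨hY.conj_mem x hx g, k, by rw [conj_pow, hk]; simp⟩

theorem qGen_normal (p : ℕ) (Y : Subgroup X) [hY : Y.Normal] : (qGen p Y).Normal := by
  apply closure_normal'
  rintro x ⟨hx, m, hm, hk⟩ g
  exact ⟨hY.conj_mem x hx g, m, hm, by rw [conj_pow, hk]; simp⟩

theorem pGen_le (p : ℕ) (Y : Subgroup X) : pGen p Y ≤ Y :=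
  (Subgroup.closure_le _).mpr fun _ hx => hx.1

theorem qGen_le (p : ℕ) (Y : Subgroup X) : qGen p Y ≤ Y :=
  (Subgroup.closure_le _).mpr fun _ hx => hx.1

theorem mem_pGen {p : ℕ} {Y : Subgroup X} {x : X} (hx : x ∈ Y) {k : ℕ} (hk : x ^ (p ^ k) = 1) :
    x ∈ pGen p Y := Subgroup.subset_closure ⟨hx, k, hk⟩

theorem exists_pow_mem_qGen [Finite X] {p : ℕ} (hp : p.Prime) {Y : Subgroup X} {x : X} (hx : x ∈ Y) :
    ∃ k, x ^ (p ^ k) ∈ qGen p Y := by
  have ho0 : orderOf x ≠ 0 := (orderOf_pos x).ne'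
  obtain ⟨k, m, hm, ho⟩ := Nat.exists_eq_pow_mul_and_not_dvd ho0 p hp.ne_one
  refine ⟨k, Subgroup.subset_closure ⟨Y.pow_mem hx _, m, ?_, ?_⟩⟩
  · exact ((Nat.Prime.coprime_iff_not_dvd hp).mpr hm).symm
  · rw [← pow_mul, ← ho, pow_orderOf_eq_one]

theorem qGen_le_of {p : ℕ} {Y K : Subgroup X} [hK : K.Normal]
    (h : ∀ x ∈ Y, ∃ k, x ^ (p ^ k) ∈ K) : qGen p Y ≤ K := by
  refine (Subgroup.closure_le _).mpr ?_
  rintro x ⟨hx, m, hm, hxm⟩
  obtain ⟨k, hk⟩ := h x hx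
  have h1 : ((x : X ⧸ K)) ^ (p ^ k) = 1 := by
    rw [← QuotientGroup.mk_pow]
    exact (QuotientGroup.eq_one_iff _).mpr hk
  have h2 : ((x : X ⧸ K)) ^ m = 1 := by
    rw [← QuotientGroup.mk_pow, hxm, QuotientGroup.mk_one]
  have h3 : Nat.Coprime (p ^ k) m := Nat.Coprime.pow_left _ hm.symm
  have h4 := Cfsg.Agent.Lib.RelDeg.eq_one_of_pow_coprime h3 h1 h2
  exact (QuotientGroup.eq_one_iff x).mp h4

theorem hom_qGen_eq_one {p k : ℕ} {Y : Subgroup X} (f : qGen p Y →* ℂˣ)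
    (hf : ∀ z, f z ^ (p ^ k) = 1) (hp : p.Prime) : f = 1 := by
  have h1 : qGen p Y ≤ f.ker.map (qGen p Y).subtype := by
    refine (Subgroup.closure_le _).mpr ?_
    rintro x ⟨hx, m, hm, hxm⟩
    have hxq : x ∈ qGen p Y := Subgroup.subset_closure ⟨hx, m, hm, hxm⟩
    refine ⟨⟨x, hxq⟩, ?_, rfl⟩
    show f ⟨x, hxq⟩ = 1
    have h2 : f ⟨x, hxq⟩ ^ m = 1 := by
      rw [← map_pow]
      have : (⟨x, hxq⟩ : qGen p Y) ^ m = 1 := Subtype.ext hxm
      rw [this, map_one]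
    have h3 : Nat.Coprime m (p ^ k) := Nat.Coprime.pow_right _ hm
    exact Cfsg.Agent.Lib.RelDeg.eq_one_of_pow_coprime h3 h2 (hf _)
  ext z
  obtain ⟨z', hz', hzz⟩ := h1 z.2
  have : z' = z := Subtype.ext hzz
  rw [← this]
  have h4 : f z' = 1 := hz'
  rw [h4]
  rfl

theorem hom_pGen_eq_one {p m : ℕ} {Y : Subgroup X} (f : pGen p Y →* ℂˣ)
    (hf : ∀ z, f z ^ m = 1) (hm : m.Coprime p) : f = 1 := by
  have h1 : pGen p Y ≤ f.ker.map (pGen p Y).subtype := by
    refine (Subgroup.closure_le _).mpr ?_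
    rintro x ⟨hx, k, hxk⟩
    have hxq : x ∈ pGen p Y := Subgroup.subset_closure ⟨hx, k, hxk⟩
    refine ⟨⟨x, hxq⟩, ?_, rfl⟩
    show f ⟨x, hxq⟩ = 1
    have h2 : f ⟨x, hxq⟩ ^ (p ^ k) = 1 := by
      rw [← map_pow]
      have : (⟨x, hxq⟩ : pGen p Y) ^ (p ^ k) = 1 := Subtype.ext hxk
      rw [this, map_one]
    have h3 : Nat.Coprime m (p ^ k) := Nat.Coprime.pow_right _ hm
    exact Cfsg.Agent.Lib.RelDeg.eq_one_of_pow_coprime h3 (hf _) h2
  ext z
  obtain ⟨z', hz', hzz⟩ := h1 z.2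
  have : z' = z := Subtype.ext hzz
  rw [← this]
  have h4 : f z' = 1 := hz'
  rw [h4]
  rfl

theorem hom_pow_qGen [Finite X] {p : ℕ} (hp : p.Prime) {Y : Subgroup X} (l : qGen p Y →* ℂˣ) :
    ∃ m, m.Coprime p ∧ l ^ m = 1 := by
  have ho0 : Nat.card (qGen p Y) ≠ 0 := Nat.card_pos.ne'
  obtain ⟨k, m, hm, ho⟩ := Nat.exists_eq_pow_mul_and_not_dvd ho0 p hp.ne_one
  refine ⟨m, ((Nat.Prime.coprime_iff_not_dvd hp).mpr hm).symm, ?_⟩
  apply hom_qGen_eq_one (k := k) _ _ hp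
  intro z
  show (l z ^ m) ^ (p ^ k) = 1
  rw [← pow_mul, mul_comm, ← ho, ← map_pow, pow_card_eq_one', map_one]

end Gen

section Ind

variable {G : Type u} [Group G] [Finite G]

open Cfsg.Agent.Lib.RelDeg

/-- Clifford correspondence, going up. -/
theorem exists_ind {K : Subgroup G} [hK : K.Normal] (θ : IrrCharacter K) {ψ : stb θ → ℂ}
    (hψ : IsIrrCharacter (stb θ) ψ)
    (hov : classInner (fun n : K => ψ ⟨n, le_stb θ n.2⟩) (θ : K → ℂ) ≠ 0) :
    ∃ χ : IrrCharacter G, (χ : G → ℂ) = indFun (stb θ) ψ ∧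
      charDegree (χ : G → ℂ) = (stb θ).index * charDegree ψ ∧ Over K χ θ := by
  obtain ⟨h1, h2⟩ := indFun_irr_of_over K (stb θ) θ.2 (stb_mem' θ) (le_stb θ) hψ hov
  refine ⟨⟨_, h1⟩, rfl, ?_, ?_⟩
  · apply charDegree_of_one
    show indFun (stb θ) ψ 1 = _
    rw [indFun_one, one_eq_charDegree (IsIrrCharacter.isCharacter hψ)]
    push_cast
    rfl
  · show classInner _ _ ≠ 0
    show classInner (fun n : K => indFun (stb θ) ψ n) (θ : K → ℂ) ≠ 0
    rw [h2]
    exact hov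

theorem charDegree_lin (N : Subgroup G) [hN : N.Normal] (β : N →* ℂˣ) :
    charDegree (lin N β : N → ℂ) = 1 := Cfsg.Agent.Lib.RelDeg.charDegree_lin β

theorem charDegree_hom {Z : Type u} [Group Z] (β : Z →* ℂˣ) :
    charDegree (fun z => ((β z : ℂˣ) : ℂ)) = 1 :=
  charDegree_of_one (by simp)

/-- Extending a linear character to its stabilizer gives a character of degree the index. -/
theorem exists_ind_lin {K : Subgroup G} [hK : K.Normal] (ω : K →* ℂˣ)
    (μ : stb (lin K ω) →* ℂˣ) (hμ : ∀ k : K, μ ⟨k, le_stb _ k.2⟩ = ω k) :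
    ∃ χ : IrrCharacter G, charDegree (χ : G → ℂ) = (stb (lin K ω)).index ∧ Over K χ (lin K ω) := by
  have h1 : (fun n : K => (fun z => ((μ z : ℂˣ) : ℂ)) ⟨n, le_stb (lin K ω) n.2⟩) =
      (lin K ω : K → ℂ) := by
    funext n
    show ((μ _ : ℂˣ) : ℂ) = ((ω n : ℂˣ) : ℂ)
    rw [hμ]
  obtain ⟨χ, -, h2, h3⟩ := exists_ind (lin K ω) (isIrrCharacter_of_hom μ) (by
    rw [h1, classInner_irr_self (lin K ω).2]
    exact one_ne_zero)
  refine ⟨χ, ?_, h3⟩
  rw [h2, charDegree_hom, mul_one]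

/-- Linear extension, coprime version. -/
theorem exists_ext_cop (Y U : Subgroup G) [hY : Y.Normal] (hYU : Y ≤ U) (f : Y →* ℂˣ)
    (hfix : U ≤ stb (lin Y f)) {o : ℕ} (ho : ∀ x, f x ^ o = 1) (ho0 : o ≠ 0)
    (hcop : (Y.relIndex U).Coprime o) :
    ∃ μ : U →* ℂˣ, ∀ x : Y, μ ⟨x, hYU x.2⟩ = f x := by
  let N : Subgroup U := Y.subgroupOf U
  haveI hN : N.Normal := Subgroup.normal_subgroupOf
  let ι : N →* Y :=
    { toFun := fun n => ⟨((n : U) : G), n.2⟩
      map_one' := rfl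
      map_mul' := fun _ _ => rfl }
  let f' : N →* ℂˣ := f.comp ι
  have hinv : ∀ (g : U) (n : N), f' ⟨g * n * g⁻¹, hN.conj_mem (n : U) n.2 g⟩ = f' n := by
    intro g n
    exact stb_lin_apply (hfix g.2) (ι n)
  obtain ⟨μ, hμ⟩ := Cfsg.Agent.Lib.LinearExt.exists_extension N f' hinv (o := o)
    (fun x => ho _) ho0 (by
      intro p hp hpo
      refine ⟨N, le_refl _, f', ?_, fun n => rfl⟩
      exact Nat.Coprime.coprime_dvd_right hpo hcop)
  refine ⟨μ, fun x => ?_⟩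
  exact hμ ⟨⟨x, hYU x.2⟩, x.2⟩

/-- Linear characters kill commutators. -/
theorem ker_of_linear {β : IrrCharacter G} (h : charDegree (β : G → ℂ) = 1) :
    ∀ x ∈ commutator G, (β : G → ℂ) x = (β : G → ℂ) 1 := by
  have hc := IsIrrCharacter.isCharacter β.2
  have h1 : (β : G → ℂ) 1 = 1 := by
    rw [one_eq_charDegree hc, h]
    simp
  obtain ⟨f, hf⟩ := exists_hom_of_degree_one hc h1
  have h2 : commutator G ≤ f.ker := by
    rw [commutator_def, Subgroup.commutator_le]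
    intro a _ b _
    rw [MonoidHom.mem_ker, map_commutatorElement, commutatorElement_eq_one_iff_mul_comm]
    exact mul_comm _ _
  intro x hx
  have h3 : f x = 1 := h2 hx
  rw [hf, hf, h3]
  simp

/-- The common core of the metabelian arguments. -/
theorem meta_core (B : Subgroup G) [hB : B.Normal] (y : ℕ)
    (hTwo : ∀ β : IrrCharacter G, (∀ k ∈ B, (β : G → ℂ) k = (β : G → ℂ) 1) →
      charDegree (β : G → ℂ) = 1 ∨ charDegree (β : G → ℂ) = y)
    (hidx : ∀ ω : B →* ℂˣ, (stb (lin B ω)).index = 1 ∨ (stb (lin B ω)).index = y) {n k : ℕ}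
    (hn : ∀ x : G, x ^ n ∈ B) (hk : ∀ b ∈ B, b ^ k ∈ (⁅B, B⁆ : Subgroup G)) (hcop : n.Coprime k) :
    ⁅commutator G, commutator G⁆ ≤ (⁅B, B⁆ : Subgroup G) := by
  let q : G →* G ⧸ B := QuotientGroup.mk' B
  have hq : Function.Surjective q := QuotientGroup.mk'_surjective B
  have h2 : Two (G ⧸ B) y := by
    intro χ
    have h3 := hTwo (infl q hq χ) (by
      intro k hk
      rw [infl_apply, infl_apply, map_one]
      have : q k = 1 := (QuotientGroup.eq_one_iff k).mpr hk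
      rw [this])
    rwa [infl_deg] at h3
  have hmeta := comm_comm_of_two h2
  have hY : ∀ ω : B →* ℂˣ, commutator G ≤ stb (lin B ω) := by
    intro ω
    by_contra hA
    obtain ⟨β, ⟨x, hx, hx1⟩, hβk, hlt⟩ := exists_small (stb (lin B ω)) (commutator G) B (le_stb _) hA
    have hβ1 : charDegree (β : G → ℂ) ≠ 1 := fun h => hx1 (ker_of_linear h x hx)
    have hβy := (hTwo β hβk).resolve_left hβ1
    have hpos := charDegree_pos β.2
    rcases hidx ω with h | h <;> rw [h] at hlt <;> omega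
  set Y : Subgroup G := B ⊔ commutator G with hYdef
  have hfix : ∀ ω : B →* ℂˣ, Y ≤ stb (lin B ω) := fun ω => sup_le (le_stb _) (hY ω)
  have hcom := comm_le_of_fix B Y hfix
  have h1 : ∀ x ∈ Y, ∀ b ∈ B, ⁅x, b⁆ ∈ (⁅B, B⁆ : Subgroup G) := by
    intro x hx b hb
    have h3 := hcom (Subgroup.commutator_mem_commutator hb hx)
    have h4 : ⁅x, b⁆ = ⁅b, x⁆⁻¹ := (commutatorElement_inv _ _).symm
    rw [h4]
    exact Subgroup.inv_mem _ h3
  have hYq : Y ≤ (commutator (G ⧸ B)).comap q := by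
    refine sup_le ?_ ?_
    · intro b hb
      show q b ∈ commutator (G ⧸ B)
      have : q b = 1 := (QuotientGroup.eq_one_iff b).mpr hb
      rw [this]
      exact Subgroup.one_mem _
    · rw [commutator_def, Subgroup.commutator_le]
      intro a _ b _
      show q ⁅a, b⁆ ∈ commutator (G ⧸ B)
      rw [map_commutatorElement]
      exact Subgroup.commutator_mem_commutator (Subgroup.mem_top _) (Subgroup.mem_top _)
  have h2' : ⁅Y, Y⁆ ≤ B := by
    rw [Subgroup.commutator_le]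
    intro a ha b hb
    have h3 := hmeta _ (hYq ha) _ (hYq hb)
    have h4 : q ⁅a, b⁆ = 1 := by
      rw [map_commutatorElement, commutatorElement_eq_one_iff_mul_comm]
      exact h3
    exact (QuotientGroup.eq_one_iff _).mp h4
  haveI hBB : (⁅B, B⁆ : Subgroup G).Normal := Subgroup.commutator_normal _ _
  have h3 := comm_le_of_class2 Y B ⁅B, B⁆ h1 h2' (fun x _ => hn x) hk hcop
  exact (Subgroup.commutator_mono le_sup_right le_sup_right).trans h3

/-- Over a restriction. -/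
theorem over_trans {K U Z : Type u} [Group K] [Group U] [Group Z] [Finite K] [Finite U] [Finite Z]
    (j₁ : K →* U) (j₂ : U →* Z) {δ : Z → ℂ} (hδ : IsCharacter Z δ) {ψ : U → ℂ}
    (hψ : IsIrrCharacter U ψ) (h1 : classInner (fun u => δ (j₂ u)) ψ ≠ 0) {θ : K → ℂ}
    (hθ : IsIrrCharacter K θ) (h2 : classInner (fun k => ψ (j₁ k)) θ ≠ 0) :
    classInner (fun k => δ (j₂ (j₁ k))) θ ≠ 0 := by
  have hc : IsCharacter U (fun u => δ (j₂ u)) := isCharacter_comp j₂ hδ
  obtain ⟨ψ', hψ', hdec⟩ := Cfsg.Agent.Lib.CharDecomp.exists_char_add hc hψ h1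
  have h3 : (fun k => δ (j₂ (j₁ k))) = (fun k => ψ (j₁ k)) + (fun k => ψ' (j₁ k)) := by
    funext k
    exact congrFun hdec (j₁ k)
  rw [h3, classInner_add_left]
  obtain ⟨a, ha⟩ := classInner_char_irr (isCharacter_comp j₁ (IsIrrCharacter.isCharacter hψ)) hθ
  obtain ⟨b, hb⟩ := classInner_char_irr (isCharacter_comp j₁ hψ') hθ
  have ha' : classInner (fun k => ψ (j₁ k)) θ = a := ha
  have hb' : classInner (fun k => ψ' (j₁ k)) θ = b := hb
  rw [ha'] at h2
  rw [ha', hb']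
  have ha0 : a ≠ 0 := by
    rintro rfl
    simp at h2
  exact_mod_cast (by omega : a + b ≠ 0)

theorem relIndex_eq_pow {p : ℕ} (hp : p.Prime) {Y K₀ : Subgroup G} [hK₀ : K₀.Normal]
    (h : ∀ x ∈ Y, ∃ k, x ^ (p ^ k) ∈ K₀) : ∃ n, K₀.relIndex Y = p ^ n := by
  haveI : Fact p.Prime := ⟨hp⟩
  have h1 : IsPGroup p (Y ⧸ K₀.subgroupOf Y) := by
    intro g
    induction g using QuotientGroup.induction_on with
    | H y =>
      obtain ⟨k, hk⟩ := h y y.2
      refine ⟨k, ?_⟩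
      rw [← QuotientGroup.mk_pow, QuotientGroup.eq_one_iff]
      exact hk
  obtain ⟨n, hn⟩ := IsPGroup.iff_card.mp h1
  refine ⟨n, ?_⟩
  rw [Subgroup.relIndex, Subgroup.index_eq_card, hn]

/-- **Lemma A.** -/
theorem lemmaA {p e : ℕ} (hp : p.Prime) (N E : Subgroup G) [hN : N.Normal] [hE : E.Normal]
    (hEN : E ≤ N) (hq : ∀ x : G, ∃ k, x ^ (p ^ k) ∈ N)
    (hv1 : ∀ χ : IrrCharacter G, p ∣ charDegree (χ : G → ℂ) → p ^ e ∣ charDegree (χ : G → ℂ))
    (hv2 : ∀ χ : IrrCharacter G, ¬ p ^ (e + 1) ∣ charDegree (χ : G → ℂ))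
    (β₀ : IrrCharacter G) (hβ₀N : ∀ k ∈ N, (β₀ : G → ℂ) k = (β₀ : G → ℂ) 1)
    (hβ₀d : charDegree (β₀ : G → ℂ) = p ^ e) (ω : E →* ℂˣ) {s : ℕ} (hs : ∀ x, ω x ^ s = 1)
    (hs0 : s ≠ 0) (hsc : s.Coprime p) : ¬ p ∣ (stb (lin E ω)).relIndex N := by
  haveI : Fact p.Prime := ⟨hp⟩
  set T := stb (lin E ω) with hT
  obtain ⟨S₀⟩ : Nonempty (Sylow p T) := inferInstance
  let S : Subgroup G := (S₀ : Subgroup T).map T.subtype
  have hST : S ≤ T := Subgroup.map_subtype_le _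
  have hSp : IsPGroup p S := S₀.isPGroup'.map _
  set U : Subgroup G := E ⊔ S with hU
  obtain ⟨μ, hμ⟩ : ∃ μ : U →* ℂˣ, ∀ x : E, μ ⟨x, (le_sup_left : E ≤ U) x.2⟩ = ω x :=
    exists_ext_sup hp E S ω hST hSp hs hs0 hsc
  have hUT : U ≤ T := sup_le (le_stb _) hST
  have hcU : ¬ p ∣ U.relIndex T := by
    have h1 : S.relIndex T = (S₀ : Subgroup T).index := by
      rw [Subgroup.relIndex]
      congr 1
      exact Subgroup.comap_map_eq_self_of_injective T.subtype_injective _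
    have h2 : U.relIndex T ∣ S.relIndex T := Subgroup.relIndex_dvd_of_le_left T le_sup_right
    intro h3
    rw [h1] at h2
    exact S₀.not_dvd_index (h3.trans h2)
  have hT0 : T.index ≠ 0 := Subgroup.index_ne_zero_of_finite
  set v := T.index.factorization p with hv
  have hvn : ¬ p ^ (v + 1) ∣ T.index := Nat.pow_succ_factorization_not_dvd hT0 hp
  have hvd : p ^ v ∣ T.index := Nat.ordProj_dvd _ _
  have hUidx : U.relIndex T * T.index = U.index := Subgroup.relIndex_mul_index hUT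
  have hb : ¬ p ^ (v + 1) ∣ U.index * charDegree (fun z => ((μ z : ℂˣ) : ℂ)) := by
    rw [charDegree_hom, mul_one, ← hUidx]
    intro h
    have h2 : (p ^ (v + 1)).Coprime (U.relIndex T) :=
      Nat.Coprime.pow_left _ ((Nat.Prime.coprime_iff_not_dvd hp).mpr hcU)
    exact hvn (h2.dvd_of_dvd_mul_left h)
  obtain ⟨χ, hχ1, hχ2⟩ := exists_low U (isIrrCharacter_of_hom μ) hb
  have hov : classInner (fun n : E => (χ : G → ℂ) n) (lin E ω : E → ℂ) ≠ 0 := by
    have hEU : E ≤ U := le_sup_left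
    have h1 := over_trans (Subgroup.inclusion hEU) U.subtype (IsIrrCharacter.isCharacter χ.2)
      (isIrrCharacter_of_hom μ) hχ1 (θ := (lin E ω : E → ℂ)) (lin E ω).2 (by
      have h3 : (fun k : E => ((μ (Subgroup.inclusion hEU k) : ℂˣ) : ℂ)) = (lin E ω : E → ℂ) := by
        funext k
        show ((μ _ : ℂˣ) : ℂ) = ((ω k : ℂˣ) : ℂ)
        rw [← hμ k]
        rfl
      rw [h3, classInner_irr_self (lin E ω).2]
      exact one_ne_zero)
    exact h1
  obtain ⟨δ, hδ, hδind, hδmult⟩ := exists_inertia_char E T (lin E ω).2 (stb_mem' _) (le_stb _) χ.2 hov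
  have hδc := IsIrrCharacter.isCharacter hδ
  have hdegχ : charDegree (χ : G → ℂ) = T.index * charDegree δ := by
    apply charDegree_of_one
    rw [← hδind, indFun_one, one_eq_charDegree hδc]
    push_cast
    rfl
  have hpδ : ¬ p ∣ charDegree δ := by
    intro h
    apply hχ2
    rw [hdegχ, pow_succ]
    exact Nat.mul_dvd_mul hvd h
  intro hpr
  have hpT : p ∣ T.index := by
    have h1 : T.relIndex N ∣ T.relIndex ⊤ := relIndex_dvd_relIndex T le_top
    rw [Subgroup.relIndex_top_right] at h1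
    exact hpr.trans h1
  have hcδ : (p ^ e).Coprime (charDegree δ) :=
    Nat.Coprime.pow_left _ ((Nat.Prime.coprime_iff_not_dvd hp).mpr hpδ)
  have hpe : p ^ e ∣ T.index := by
    have h1 := hv1 χ (by rw [hdegχ]; exact hpT.mul_right _)
    rw [hdegχ] at h1
    exact hcδ.dvd_of_dvd_mul_right h1
  -- `T / (T ∩ N)` is abelian
  let T₁ : Subgroup T := N.subgroupOf T
  haveI hT₁ : T₁.Normal := Subgroup.normal_subgroupOf
  let q : T →* T ⧸ T₁ := QuotientGroup.mk' T₁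
  have hqs : Function.Surjective q := QuotientGroup.mk'_surjective T₁
  have hQp : IsPGroup p (T ⧸ T₁) := by
    intro g
    induction g using QuotientGroup.induction_on with
    | H y =>
      obtain ⟨k, hk⟩ := hq y
      refine ⟨k, ?_⟩
      rw [← QuotientGroup.mk_pow, QuotientGroup.eq_one_iff]
      exact hk
  obtain ⟨nQ, hnQ⟩ := IsPGroup.iff_card.mp hQp
  have hker : IsIrrCharacter q.ker (fun n : q.ker => δ n) := by
    haveI : q.ker.Normal := MonoidHom.normal_ker q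
    refine irr_restrict_of_not_dvd hp q.ker (e := nQ) ?_ hδ hpδ
    rw [Subgroup.index_ker, MonoidHom.range_eq_top.mpr hqs, Subgroup.card_top, hnQ]
  have hlinQ : ∀ Ψ : IrrCharacter (T ⧸ T₁), charDegree (Ψ : T ⧸ T₁ → ℂ) = 1 := by
    intro Ψ
    obtain ⟨j, hj⟩ := deg_pow_of_pgroup hp hQp Ψ
    by_contra hne
    have hj0 : j ≠ 0 := by
      rintro rfl
      exact hne (by simpa using hj)
    have hgal := Cfsg.Agent.Lib.GlaubSyl1.isIrr_gal q hqs hδc hker Ψ.2
    have hres : (fun n : E => Cfsg.Agent.Lib.GlaubSyl1.gal q δ (Ψ : T ⧸ T₁ → ℂ) ⟨n, le_stb (lin E ω) n.2⟩) =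
        ((Ψ : T ⧸ T₁ → ℂ) 1) • (fun n : E => δ ⟨n, le_stb (lin E ω) n.2⟩) := by
      funext n
      show (Ψ : T ⧸ T₁ → ℂ) (q ⟨n, _⟩) * _ = _
      have : q ⟨n, le_stb (lin E ω) n.2⟩ = 1 := (QuotientGroup.eq_one_iff _).mpr (hEN n.2)
      rw [this]
      rfl
    have hov' : classInner (fun n : E => Cfsg.Agent.Lib.GlaubSyl1.gal q δ (Ψ : T ⧸ T₁ → ℂ) ⟨n, le_stb (lin E ω) n.2⟩)
        (lin E ω : E → ℂ) ≠ 0 := by
      rw [hres, classInner_smul_left, hδmult]
      exact mul_ne_zero (irr_degree_ne_zero Ψ.2) hov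
    obtain ⟨χ₁, -, hd, -⟩ := exists_ind (lin E ω) hgal hov'
    have hdgal : charDegree (Cfsg.Agent.Lib.GlaubSyl1.gal q δ (Ψ : T ⧸ T₁ → ℂ)) =
        charDegree (Ψ : T ⧸ T₁ → ℂ) * charDegree δ := by
      apply charDegree_of_one
      show (Ψ : T ⧸ T₁ → ℂ) (q 1) * δ 1 = _
      rw [map_one, one_eq_charDegree (IsIrrCharacter.isCharacter Ψ.2), one_eq_charDegree hδc]
      push_cast
      rfl
    apply hv2 χ₁
    rw [hd, hdgal, hj, pow_succ]
    refine Nat.mul_dvd_mul hpe ?_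
    exact (dvd_pow_self p hj0).mul_right _
  have hTcomm : ∀ a ∈ T, ∀ b ∈ T, ⁅a, b⁆ ∈ N := by
    intro a ha b hb
    have h1 := comm_of_all_linear (A := T ⧸ T₁) (fun θ => by
      rw [one_eq_charDegree (IsIrrCharacter.isCharacter θ.2), hlinQ θ]
      simp) (q ⟨a, ha⟩) (q ⟨b, hb⟩)
    have h2 : q ⁅(⟨a, ha⟩ : T), (⟨b, hb⟩ : T)⁆ = 1 := by
      rw [map_commutatorElement, commutatorElement_eq_one_iff_mul_comm]
      exact h1
    have h3 : ((⁅(⟨a, ha⟩ : T), (⟨b, hb⟩ : T)⁆ : T) : T ⧸ T₁) = 1 := h2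
    have h4 : ⁅(⟨a, ha⟩ : T), (⟨b, hb⟩ : T)⁆ ∈ T₁ := (QuotientGroup.eq_one_iff _).mp h3
    exact h4
  -- the index
  let qN : G →* G ⧸ N := QuotientGroup.mk' N
  have hqN : Function.Surjective qN := QuotientGroup.mk'_surjective N
  set W : Subgroup (G ⧸ N) := T.map qN with hW
  have hWab : ∀ a ∈ W, ∀ b ∈ W, a * b = b * a := by
    rintro _ ⟨a, ha, rfl⟩ _ ⟨b, hb, rfl⟩
    have h1 : qN ⁅a, b⁆ = 1 := (QuotientGroup.eq_one_iff _).mpr (hTcomm a ha b hb)
    rw [map_commutatorElement, commutatorElement_eq_one_iff_mul_comm] at h1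
    exact h1
  obtain ⟨χ', hχ'irr, hχ'eq⟩ := exists_quotient_irr N β₀.2 hβ₀N
  have hχ'd : charDegree χ' = p ^ e := by
    rw [← hβ₀d]
    apply charDegree_of_one
    have h1 := hχ'eq 1
    have h2 : ((1 : G) : G ⧸ N) = 1 := rfl
    rw [h2] at h1
    rw [h1, one_eq_charDegree (IsIrrCharacter.isCharacter β₀.2)]
  have hle := degree_le_index hχ'irr W hWab
  rw [hχ'd] at hle
  have hWidx : W.index = (T ⊔ N).index := by
    rw [hW, Subgroup.index_map, QuotientGroup.ker_mk', MonoidHom.range_eq_top.mpr hqN,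
      Subgroup.index_top, mul_one]
  have hGp : IsPGroup p (G ⧸ N) := by
    intro g
    induction g using QuotientGroup.induction_on with
    | H y =>
      obtain ⟨k, hk⟩ := hq y
      refine ⟨k, ?_⟩
      rw [← QuotientGroup.mk_pow, QuotientGroup.eq_one_iff]
      exact hk
  obtain ⟨nG, hnG⟩ := IsPGroup.iff_card.mp hGp
  have hWd : W.index ∣ p ^ nG := hnG ▸ Subgroup.index_dvd_card W
  obtain ⟨a, -, ha⟩ := (Nat.dvd_prime_pow hp).mp hWd
  have hpeW : p ^ e ∣ W.index := by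
    rw [ha] at hle ⊢
    exact pow_dvd_pow p ((Nat.pow_le_pow_iff_right hp.one_lt).mp hle)
  have hidx : T.relIndex N * (T ⊔ N).index = T.index := by
    have h1 := Subgroup.relIndex_mul_index (le_sup_left : T ≤ T ⊔ N)
    have h2 : T.relIndex (T ⊔ N) = T.relIndex N := by
      rw [sup_comm]
      exact relIndex_sup_eq
    rwa [h2] at h1
  apply hv2 χ
  rw [hdegχ, pow_succ, ← hidx, ← hWidx, mul_comm (T.relIndex N), mul_assoc]
  refine Nat.mul_dvd_mul hpeW ?_
  exact hpr.mul_right _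

end Ind

section Step3

open Cfsg.Agent.Lib.RelDeg

variable {X : Type u} [Group X] [Finite X]

/-- The step on the normal Sylow subgroup. -/
theorem step3 {p : ℕ} (hp : p.Prime) (K : Subgroup X) [hK : K.Normal] (hKp : IsPGroup p K)
    (hKi : ¬ p ∣ K.index) (x : ℕ)
    (hdeg : ∀ ξ : IrrCharacter X, ¬ p ∣ charDegree (ξ : X → ℂ) →
      charDegree (ξ : X → ℂ) = 1 ∨ charDegree (ξ : X → ℂ) = x)
    (hlin : ∀ l : X →* ℂˣ, ∃ m, m.Coprime p ∧ l ^ m = 1) :
    ⁅commutator X, commutator X⁆ ≤ (⁅K, K⁆ : Subgroup X) := by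
  haveI : Fact p.Prime := ⟨hp⟩
  obtain ⟨a, ha⟩ := IsPGroup.iff_card.mp hKp
  have hcopi : (K.index).Coprime (p ^ a) :=
    Nat.Coprime.pow_right _ ((Nat.Prime.coprime_iff_not_dvd hp).mpr hKi).symm
  have hkill : ∀ β : IrrCharacter X, (∀ k ∈ K, (β : X → ℂ) k = (β : X → ℂ) 1) →
      ¬ p ∣ charDegree (β : X → ℂ) := by
    intro β hβ h
    exact hKi (h.trans (charDegree_dvd_index K β.2 hβ))
  have hω : ∀ k : K, ∀ ω : K →* ℂˣ, ω k ^ (p ^ a) = 1 := by
    intro k ω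
    rw [← map_pow, ← ha, pow_card_eq_one', map_one]
  refine meta_core K x (fun β hβ => hdeg β (hkill β hβ)) ?_ (n := K.index) (k := p ^ a)
    (fun y => Subgroup.pow_index_mem K y) ?_ hcopi
  · intro ω
    by_cases hT : stb (lin K ω) = ⊤
    · left
      rw [hT]
      exact Subgroup.index_top
    right
    have hidx : K.relIndex (stb (lin K ω)) ∣ K.index := Subgroup.relIndex_dvd_index_of_normal _ _
    obtain ⟨μ, hμ⟩ := exists_ext_cop K (stb (lin K ω)) (le_stb _) ω le_rfl (o := p ^ a)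
      (fun k => hω k ω) (pow_ne_zero _ hp.ne_zero) (Nat.Coprime.coprime_dvd_left hidx hcopi)
    obtain ⟨χ, hχ, -⟩ := exists_ind_lin ω μ hμ
    have hTidx : (stb (lin K ω)).index ∣ K.index := Subgroup.index_dvd_of_le (le_stb _)
    have h1 : ¬ p ∣ charDegree (χ : X → ℂ) := by
      rw [hχ]
      exact fun h => hKi (h.trans hTidx)
    rcases hdeg χ h1 with h | h
    · exfalso
      rw [hχ] at h
      exact hT (Subgroup.index_eq_one.mp h)
    · rw [← hχ, h]
  · intro b hb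
    have : b ^ (p ^ a) = 1 := by
      have h1 : (⟨b, hb⟩ : K) ^ (p ^ a) = 1 := by
        rw [← ha, pow_card_eq_one']
      exact congrArg Subtype.val h1
    rw [this]
    exact Subgroup.one_mem _

/-- The abelianization exponent. -/
theorem pow_relIndex_mem (N : Subgroup X) [hN : N.Normal] (b : X) (hb : b ∈ N) :
    b ^ (⁅N, N⁆.relIndex N) ∈ (⁅N, N⁆ : Subgroup X) := by
  have h1 := Cfsg.Agent.Lib.RelDeg.card_abelianization_eq (N := N)
  have h2 : (Abelianization.of (⟨b, hb⟩ : N)) ^ (⁅N, N⁆.relIndex N) = 1 := by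
    rw [← h1, pow_card_eq_one']
  rw [← map_pow] at h2
  have h3 : (⟨b, hb⟩ : N) ^ (⁅N, N⁆.relIndex N) ∈ commutator N := (QuotientGroup.eq_one_iff _).mp h2
  have h5 : (((⟨b, hb⟩ : N) ^ (⁅N, N⁆.relIndex N) : N) : X) ∈ (commutator N).map N.subtype :=
    ⟨_, h3, rfl⟩
  rw [Subgroup.map_subtype_commutator] at h5
  simpa using h5

end Step3

section CaseP

open Cfsg.Agent.Lib.RelDeg

variable {G : Type u} [Group G] [Finite G]

/-- **The case of a nonabelian `p`-quotient, with a `p'`-degree.** -/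
theorem case_P (hs : Group.IsSolvable G) {a b c : ℕ} (h4 : Four G a b c) {p e : ℕ} (hp : p.Prime)
    (he : e ≠ 0) (N₀ : Subgroup G) [hN₀ : N₀.Normal] (hq₀ : IsPGroup p (G ⧸ N₀))
    (hne₀ : commutator (G ⧸ N₀) ≠ ⊥) (β : IrrCharacter G) (hβ : charDegree (β : G → ℂ) = p ^ e)
    (hmul : ∀ ψ : IrrCharacter G, ¬ p ∣ charDegree (ψ : G → ℂ) →
      ∃ χ : IrrCharacter G, charDegree (χ : G → ℂ) = p ^ e * charDegree (ψ : G → ℂ))
    (χ₁ : IrrCharacter G) (hχ₁ : charDegree (χ₁ : G → ℂ) ≠ 1)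
    (hχ₁p : ¬ p ∣ charDegree (χ₁ : G → ℂ)) : derivedSeries G 4 = ⊥ := by
  haveI : Fact p.Prime := ⟨hp⟩
  set x := charDegree (χ₁ : G → ℂ) with hx
  obtain ⟨χ₂, hχ₂⟩ := hmul χ₁ hχ₁p
  have hx0 : x ≠ 0 := charDegree_ne_zero χ₁.2
  have hpe : p ∣ p ^ e := dvd_pow_self p he
  have hpe1 : p ^ e ≠ 1 := by
    intro h
    rcases Nat.pow_eq_one.mp h with h | h
    · exact hp.one_lt.ne' h
    · exact he h
  have hcop : (p ^ e).Coprime x := Nat.Coprime.pow_left _ ((Nat.Prime.coprime_iff_not_dvd hp).mpr hχ₁p)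
  have hpe0 : 0 < p ^ e := pow_pos hp.pos e
  -- all degrees
  have hdeg : ∀ χ : IrrCharacter G, charDegree (χ : G → ℂ) = 1 ∨ charDegree (χ : G → ℂ) = x ∨
      charDegree (χ : G → ℂ) = p ^ e ∨ charDegree (χ : G → ℂ) = p ^ e * x := by
    intro χ
    have h1 := h4 χ
    have h2 := h4 χ₁
    have h3 := h4 β
    have h5 := h4 χ₂
    rw [← hx] at h2
    rw [hβ] at h3
    rw [hχ₂, ← hx] at h5
    have hxe : x ≠ p ^ e := fun h => hχ₁p (h ▸ hpe)
    have hxex : p ^ e * x ≠ x := by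
      intro h
      have h6 : p ^ e * x = 1 * x := by rw [h, one_mul]
      exact hpe1 (Nat.eq_of_mul_eq_mul_right (Nat.pos_of_ne_zero hx0) h6)
    have hexe : p ^ e * x ≠ p ^ e := by
      intro h
      have h6 : p ^ e * x = p ^ e * 1 := by rw [h, mul_one]
      exact hχ₁ (Nat.eq_of_mul_eq_mul_left hpe0 h6)
    have hex1 : p ^ e * x ≠ 1 := fun h => hχ₁ (Nat.eq_one_of_mul_eq_one_left h)
    rcases h1 with h1 | h1 | h1 | h1
    · exact Or.inl h1
    all_goals
      rw [h1]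
      omega
  have hv1 : ∀ χ : IrrCharacter G, p ∣ charDegree (χ : G → ℂ) → p ^ e ∣ charDegree (χ : G → ℂ) := by
    intro χ h
    rcases hdeg χ with h1 | h1 | h1 | h1 <;> rw [h1] at h ⊢
    · exact absurd (Nat.dvd_one.mp h) hp.one_lt.ne'
    · exact absurd h hχ₁p
    · exact Dvd.intro _ rfl
  have hv2 : ∀ χ : IrrCharacter G, ¬ p ^ (e + 1) ∣ charDegree (χ : G → ℂ) := by
    intro χ h
    have hpp : p ∣ p ^ (e + 1) := dvd_pow_self p (by omega)
    rcases hdeg χ with h1 | h1 | h1 | h1 <;> rw [h1] at h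
    · exact absurd (Nat.dvd_one.mp (hpp.trans h)) hp.one_lt.ne'
    · exact hχ₁p (hpp.trans h)
    · have := (Nat.pow_dvd_pow_iff_le_right hp.one_lt).mp h
      omega
    · rw [pow_succ] at h
      exact hχ₁p (Nat.dvd_of_mul_dvd_mul_left hpe0 h)
  -- the residual
  set N : Subgroup G := qGen p ⊤ with hNdef
  haveI hNn : N.Normal := qGen_normal p ⊤
  have hq : ∀ y : G, ∃ k, y ^ (p ^ k) ∈ N := fun y => exists_pow_mem_qGen hp (Subgroup.mem_top y)
  have hGp : IsPGroup p (G ⧸ N) := by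
    intro g
    induction g using QuotientGroup.induction_on with
    | H y =>
      obtain ⟨k, hk⟩ := hq y
      refine ⟨k, ?_⟩
      rw [← QuotientGroup.mk_pow, QuotientGroup.eq_one_iff]
      exact hk
  have hNN₀ : N ≤ N₀ := by
    apply qGen_le_of
    intro y _
    obtain ⟨k, hk⟩ := hq₀ (y : G ⧸ N₀)
    refine ⟨k, ?_⟩
    rw [← QuotientGroup.mk_pow] at hk
    exact (QuotientGroup.eq_one_iff _).mp hk
  have hlinN : ∀ l : N →* ℂˣ, ∃ m, m.Coprime p ∧ l ^ m = 1 := fun l => hom_pow_qGen hp l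
  -- a character of degree `p ^ e` on `G / N`
  have hpow : ∀ χ : IrrCharacter G, (∃ j, charDegree (χ : G → ℂ) = p ^ j) →
      charDegree (χ : G → ℂ) = 1 ∨ charDegree (χ : G → ℂ) = p ^ e := by
    rintro χ ⟨j, hj⟩
    rcases hdeg χ with h1 | h1 | h1 | h1
    · exact Or.inl h1
    · exfalso
      rw [h1] at hj
      rw [hj] at hχ₁ hχ₁p
      rcases j with _ | j
      · exact hχ₁ (by simp)
      · exact hχ₁p (dvd_pow_self p (by omega))
    · exact Or.inr h1
    · exfalso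
      rw [h1] at hj
      have h2 : x ∣ p ^ j := ⟨p ^ e, by rw [← hj, mul_comm]⟩
      obtain ⟨i, -, hi⟩ := (Nat.dvd_prime_pow hp).mp h2
      rw [hi] at hχ₁ hχ₁p
      rcases i with _ | i
      · exact hχ₁ (by simp)
      · exact hχ₁p (dvd_pow_self p (by omega))
  let qN : G →* G ⧸ N := QuotientGroup.mk' N
  have hqN : Function.Surjective qN := QuotientGroup.mk'_surjective N
  have hexβ₀ : ∃ β₀ : IrrCharacter G, (∀ k ∈ N, (β₀ : G → ℂ) k = (β₀ : G → ℂ) 1) ∧
      charDegree (β₀ : G → ℂ) = p ^ e := by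
    by_contra hno
    push Not at hno
    have hlin : ∀ θ : IrrCharacter (G ⧸ N), (θ : G ⧸ N → ℂ) 1 = 1 := by
      intro θ
      have h1 := hpow (infl qN hqN θ) (by
        rw [infl_deg]
        exact deg_pow_of_pgroup hp hGp θ)
      rw [infl_deg] at h1
      rcases h1 with h1 | h1
      · rw [one_eq_charDegree (IsIrrCharacter.isCharacter θ.2), h1]
        simp
      · exfalso
        refine hno (infl qN hqN θ) ?_ (by rw [infl_deg, h1])
        intro k hk
        rw [infl_apply, infl_apply, map_one]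
        have : qN k = 1 := (QuotientGroup.eq_one_iff k).mpr hk
        rw [this]
    apply hne₀
    rw [eq_bot_iff, commutator_def, Subgroup.commutator_le]
    intro u _ v _
    obtain ⟨u', rfl⟩ := QuotientGroup.mk'_surjective N₀ u
    obtain ⟨v', rfl⟩ := QuotientGroup.mk'_surjective N₀ v
    have h1 := comm_of_all_linear hlin (qN u') (qN v')
    have h2 : qN ⁅u', v'⁆ = 1 := by
      rw [map_commutatorElement, commutatorElement_eq_one_iff_mul_comm]
      exact h1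
    have h3 : ⁅u', v'⁆ ∈ N := (QuotientGroup.eq_one_iff _).mp h2
    rw [Subgroup.mem_bot, ← map_commutatorElement]
    exact (QuotientGroup.eq_one_iff _).mpr (hNN₀ h3)
  obtain ⟨β₀, hβ₀N, hβ₀d⟩ := hexβ₀
  -- Step 1
  obtain ⟨nG, hnG⟩ := IsPGroup.iff_card.mp hGp
  have hstep1 : ⁅commutator G, commutator G⁆ ≤ (⁅N, N⁆ : Subgroup G) := by
    have hkill : ∀ γ : IrrCharacter G, (∀ k ∈ N, (γ : G → ℂ) k = (γ : G → ℂ) 1) →
        charDegree (γ : G → ℂ) = 1 ∨ charDegree (γ : G → ℂ) = p ^ e := by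
      intro γ hγ
      apply hpow
      have h1 := charDegree_dvd_index N γ.2 hγ
      rw [Subgroup.index_eq_card, hnG] at h1
      obtain ⟨j, -, hj⟩ := (Nat.dvd_prime_pow hp).mp h1
      exact ⟨j, hj⟩
    refine meta_core N (p ^ e) hkill ?_ (n := N.index) (k := ⁅N, N⁆.relIndex N)
      (fun y => Subgroup.pow_index_mem N y) (fun b hb => pow_relIndex_mem N b hb) ?_
    · intro ω
      have hNT : N ≤ stb (lin N ω) := le_stb _
      have hT1 : ∃ nT, (N.relIndex (stb (lin N ω))) = p ^ nT :=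
        relIndex_eq_pow hp (fun y _ => hq y)
      obtain ⟨nT, hnT⟩ := hT1
      obtain ⟨m, hm, hml⟩ := hlinN ω
      obtain ⟨μ, hμ⟩ := exists_ext_cop N (stb (lin N ω)) (le_stb _) ω le_rfl (o := m)
        (fun k => by
          have := DFunLike.congr_fun hml k
          simpa using this) (by
          rintro rfl
          exact hp.one_lt.ne' ((Nat.coprime_zero_left p).mp hm))
        (by
          rw [hnT]
          exact Nat.Coprime.pow_left _ hm.symm)
      obtain ⟨χ, hχ, -⟩ := exists_ind_lin ω μ hμ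
      have h1 : (stb (lin N ω)).index ∣ p ^ nG := by
        rw [← hnG, ← Subgroup.index_eq_card]
        exact Subgroup.index_dvd_of_le hNT
      obtain ⟨j, -, hj⟩ := (Nat.dvd_prime_pow hp).mp h1
      have h2 := hpow χ ⟨j, by rw [hχ, hj]⟩
      rwa [hχ] at h2
    · have h1 : N.index = p ^ nG := by rw [Subgroup.index_eq_card, hnG]
      rw [h1]
      apply Nat.Coprime.pow_left
      rw [Nat.Prime.coprime_iff_not_dvd hp]
      intro h2
      obtain ⟨lam, hlam1, hlamp⟩ := Cfsg.Agent.Lib.RelDeg.exists_hom_of_prime_dvd p h2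
      obtain ⟨m, hm, hml⟩ := hlinN lam
      exact hlam1 (hom_eq_one_of_pow_coprime hm.symm hlamp hml)
  -- Step 2: the Sylow subgroup of `N` is normal
  set E₁ : Subgroup G := pGen p N with hE₁
  haveI hE₁n : E₁.Normal := pGen_normal p N
  set E₂ : Subgroup G := qGen p E₁ with hE₂
  haveI hE₂n : E₂.Normal := qGen_normal p E₁
  have hE₁N : E₁ ≤ N := pGen_le p N
  have hE₂E₁ : E₂ ≤ E₁ := qGen_le p E₁
  have hE₂N : E₂ ≤ N := hE₂E₁.trans hE₁N
  have hqE : ∀ y ∈ E₁, ∃ k, y ^ (p ^ k) ∈ E₂ := fun y hy => exists_pow_mem_qGen hp hy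
  have hE₂bot : E₂ = ⊥ := by
    by_contra hne
    have hsolE : Group.IsSolvable E₂ := inferInstance
    have hlt := Cfsg.Agent.Lib.Coprime.commutator_lt_of_solvable hsolE hne
    have hr : (⁅E₂, E₂⁆ : Subgroup G).relIndex E₂ ≠ 1 := by
      intro h
      exact hlt.not_ge (Subgroup.relIndex_eq_one.mp h)
    obtain ⟨s, hsp, hsd⟩ := Nat.exists_prime_and_dvd hr
    haveI : Fact s.Prime := ⟨hsp⟩
    obtain ⟨ω, hω1, hωs⟩ := Cfsg.Agent.Lib.RelDeg.exists_hom_of_prime_dvd s hsd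
    have hsp' : s ≠ p := by
      rintro rfl
      exact hω1 (hom_qGen_eq_one (k := 1) ω (fun z => by
        have := DFunLike.congr_fun hωs z
        simpa using this) hp)
    have hsc : s.Coprime p := (Nat.coprime_primes hsp hp).mpr hsp'
    have hωz : ∀ z, ω z ^ s = 1 := fun z => by
      have := DFunLike.congr_fun hωs z
      simpa using this
    have hA := lemmaA hp N E₂ hE₂N hq hv1 hv2 β₀ hβ₀N hβ₀d ω hωz hsp.ne_zero hsc
    have hE₁T : E₁ ≤ stb (lin E₂ ω) := by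
      refine le_of_not_dvd_relIndex hp (K₀ := E₂) (le_stb _) hqE ?_
      intro h
      exact hA (h.trans (relIndex_dvd_relIndex _ hE₁N))
    obtain ⟨n₁, hn₁⟩ := relIndex_eq_pow hp hqE
    obtain ⟨μ, hμ⟩ := exists_ext_cop E₂ E₁ hE₂E₁ ω hE₁T hωz hsp.ne_zero (by
      rw [hn₁]
      exact Nat.Coprime.pow_left _ hsc.symm)
    have ho0 : Nat.card E₁ ≠ 0 := Nat.card_pos.ne'
    obtain ⟨K₁, m₁, hm₁, ho⟩ := Nat.exists_eq_pow_mul_and_not_dvd ho0 p hp.ne_one
    have hμ1 : μ ^ (p ^ K₁) = 1 := by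
      apply hom_pGen_eq_one (m := m₁) (Y := N)
      · intro z
        show (μ z ^ (p ^ K₁)) ^ m₁ = 1
        rw [← pow_mul, ← ho, ← map_pow, pow_card_eq_one', map_one]
      · exact ((Nat.Prime.coprime_iff_not_dvd hp).mpr hm₁).symm
    apply hω1
    ext z
    have h1 := DFunLike.congr_fun hμ1 (⟨z, hE₂E₁ z.2⟩ : E₁)
    have h2 : μ ⟨z, hE₂E₁ z.2⟩ ^ (p ^ K₁) = 1 := by simpa using h1
    rw [hμ] at h2
    have h3 : Nat.Coprime s (p ^ K₁) := Nat.Coprime.pow_right _ hsc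
    have h4 := Cfsg.Agent.Lib.RelDeg.eq_one_of_pow_coprime h3 (hωz z) h2
    rw [h4]
    rfl
  have hE₁p : IsPGroup p E₁ := by
    intro y
    obtain ⟨k, hk⟩ := hqE y y.2
    rw [hE₂bot, Subgroup.mem_bot] at hk
    exact ⟨k, Subtype.ext hk⟩
  -- Step 3
  let K : Subgroup N := E₁.subgroupOf N
  haveI hKn : K.Normal := Subgroup.normal_subgroupOf
  have hKp : IsPGroup p K := by
    intro y
    obtain ⟨k, hk⟩ := hE₁p ⟨((y : N) : G), y.2⟩
    refine ⟨k, Subtype.ext (Subtype.ext ?_)⟩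
    simpa using congrArg Subtype.val hk
  have hKi : ¬ p ∣ K.index := by
    obtain ⟨P₁⟩ : Nonempty (Sylow p N) := inferInstance
    have h1 : (P₁ : Subgroup N) ≤ K := by
      intro z hz
      obtain ⟨k, hk⟩ := P₁.isPGroup' ⟨z, hz⟩
      have h2 : ((z : N) : G) ^ (p ^ k) = 1 := by
        have := congrArg (fun y : (P₁ : Subgroup N) => ((y : N) : G)) hk
        simpa using this
      exact mem_pGen z.2 h2
    intro h
    exact P₁.not_dvd_index (h.trans (Subgroup.index_dvd_of_le h1))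
  have hdegN : ∀ ξ : IrrCharacter N, ¬ p ∣ charDegree (ξ : N → ℂ) →
      charDegree (ξ : N → ℂ) = 1 ∨ charDegree (ξ : N → ℂ) = x := by
    intro ξ hξ
    obtain ⟨χ, hχ⟩ := exists_over_irr ξ
    obtain ⟨h1, h2⟩ := Cfsg.Agent.Lib.DegreeDiv.degree_div N χ.2 ξ.2 hχ
      (one_eq_charDegree (IsIrrCharacter.isCharacter χ.2))
      (one_eq_charDegree (IsIrrCharacter.isCharacter ξ.2))
    have h3 : N.index = p ^ nG := by rw [Subgroup.index_eq_card, hnG]
    rw [h3] at h2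
    obtain ⟨j, -, hj⟩ := (Nat.dvd_prime_pow hp).mp h2
    have h5 : charDegree (χ : G → ℂ) = charDegree (ξ : N → ℂ) * p ^ j := by
      rw [← hj]
      exact (Nat.mul_div_cancel' h1).symm
    have hcopξ : (charDegree (ξ : N → ℂ)).Coprime (p ^ e) :=
      Nat.Coprime.pow_right _ ((Nat.Prime.coprime_iff_not_dvd hp).mpr hξ).symm
    have hd0 : charDegree (ξ : N → ℂ) ≠ 0 := charDegree_ne_zero ξ.2
    rcases hdeg χ with h6 | h6 | h6 | h6
    · left
      rw [h5] at h6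
      exact Nat.eq_one_of_mul_eq_one_right h6
    · right
      rw [h5] at h6
      have h7 : j = 0 := by
        by_contra hj0
        apply hχ₁p
        rw [← h6]
        exact (dvd_pow_self p hj0).mul_left _
      rw [h7, pow_zero, mul_one] at h6
      exact h6
    · left
      rw [h5] at h6
      have h7 : charDegree (ξ : N → ℂ) ∣ p ^ e := ⟨p ^ j, h6.symm⟩
      exact Nat.Coprime.eq_one_of_dvd hcopξ h7
    · right
      rw [h5] at h6
      have h7 : charDegree (ξ : N → ℂ) ∣ p ^ e * x := ⟨p ^ j, h6.symm⟩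
      have h8 : charDegree (ξ : N → ℂ) ∣ x := hcopξ.dvd_of_dvd_mul_left h7
      have h9 : x ∣ charDegree (ξ : N → ℂ) * p ^ j := ⟨p ^ e, by rw [h6, mul_comm]⟩
      have h10 : x.Coprime (p ^ j) :=
        Nat.Coprime.pow_right _ ((Nat.Prime.coprime_iff_not_dvd hp).mpr hχ₁p).symm
      have h11 : x ∣ charDegree (ξ : N → ℂ) := h10.dvd_of_dvd_mul_right h9
      exact Nat.dvd_antisymm h8 h11
  have hstep3 := step3 hp K hKp hKi x hdegN hlinN
  -- transfer to `G`
  have hmapK : (⁅K, K⁆ : Subgroup N).map N.subtype = ⁅E₁, E₁⁆ := comm_map_eq E₁ N hE₁N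
  have hmapN : (commutator N).map N.subtype = ⁅N, N⁆ := Subgroup.map_subtype_commutator N
  have hstep3' : (⁅(⁅N, N⁆ : Subgroup G), (⁅N, N⁆ : Subgroup G)⁆ : Subgroup G) ≤ ⁅E₁, E₁⁆ := by
    rw [← hmapK, ← hmapN, ← Subgroup.map_commutator]
    exact Subgroup.map_mono hstep3
  -- the valuation step
  have hE₁2 : (⁅(⁅E₁, E₁⁆ : Subgroup G), (⁅E₁, E₁⁆ : Subgroup G)⁆ : Subgroup G) = ⊥ := by
    by_contra hne2
    have hne1 : (⁅E₁, E₁⁆ : Subgroup G) ≠ ⊥ := by
      intro h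
      apply hne2
      rw [h, Subgroup.commutator_bot_left]
    obtain ⟨j₁, -, hall₁⟩ := V1 hp E₁ hE₁p hne1
    haveI hRn : (⁅E₁, E₁⁆ : Subgroup G).Normal := Subgroup.commutator_normal _ _
    have hRp : IsPGroup p (⁅E₁, E₁⁆ : Subgroup G) :=
      hE₁p.to_le (Subgroup.commutator_le_left _ _)
    obtain ⟨j₂, ⟨χb, hb, hχb⟩, hall₂⟩ := V1 hp (⁅E₁, E₁⁆ : Subgroup G) hRp hne2
    obtain ⟨χc, hχc⟩ := exists_NT hne2
    have h1 := hall₂ χc hχc
    have h2 := hall₁ χb hb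
    have h3 : p ∣ charDegree (χb : G → ℂ) := (dvd_pow_self p (by omega)).trans h2
    have h5 := hv1 χb h3
    have h6 : j₂ + 1 ≤ e := by
      by_contra h7
      exact hv2 χc ((pow_dvd_pow p (by omega)).trans h1)
    exact hχb ((pow_dvd_pow p h6).trans h5)
  have s1 : derivedSeries G 2 ≤ (⁅N, N⁆ : Subgroup G) := by
    rw [show (2 : ℕ) = 1 + 1 from rfl, derivedSeries_succ, derivedSeries_one]
    exact hstep1
  have s2 : derivedSeries G 3 ≤ (⁅E₁, E₁⁆ : Subgroup G) := by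
    rw [show (3 : ℕ) = 2 + 1 from rfl, derivedSeries_succ]
    exact (Subgroup.commutator_mono s1 s1).trans hstep3'
  rw [eq_bot_iff, show (4 : ℕ) = 3 + 1 from rfl, derivedSeries_succ, ← hE₁2]
  exact Subgroup.commutator_mono s2 s2

end CaseP

end Cfsg.Agent.Lib.GarrC
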