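import Mathlib
import Cfsg.Agent.Lib.GarrC

/-!
# Garrison's theorem: helper lemmas
-/

set_option autoImplicit false
set_option linter.style.haveILetI false
set_option linter.unusedVariables false
set_option linter.unusedSectionVars false

namespace Cfsg.Agent.Lib.GarrD

open Cfsg Cfsg.Agent.Lib.CharBasic Cfsg.Agent.Lib.CharInd Cfsg.Agent.Lib.CharKernel
open Cfsg.Agent.Lib.Clifford Cfsg.Agent.Lib.CliffDvd Cfsg.Agent.Lib.TwoDeg
open Cfsg.Agent.Lib.ThreeDeg31 Cfsg.Agent.Lib.RealOdd Cfsg.Agent.Lib.GarrA Cfsg.Agent.Lib.GarrB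
open Cfsg.Agent.Lib.GarrC Cfsg.Agent.Lib.RelDeg
open scoped ComplexConjugate commutatorElement

universe u

attribute [local instance] Fintype.ofFinite

section H

variable {G : Type u} [Group G] [Finite G]

theorem constituent_ne (Y : Subgroup G) {χ : G → ℂ} (hχ : IsCharacter G χ) {n : G} (hn : n ∈ Y)
    (h : χ n ≠ χ 1) : ∃ i : IrrCharacter Y, classInner (fun y : Y => χ y) (i : Y → ℂ) ≠ 0 ∧
      (i : Y → ℂ) ⟨n, hn⟩ ≠ (i : Y → ℂ) 1 := by
  by_contra hno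
  push Not at hno
  exact h (Cfsg.Agent.Lib.PalfyE.char_eq_of_constituents Y hχ hn hno)

theorem linear_of_comm_ker (ν : IrrCharacter G)
    (h : ∀ x ∈ commutator G, (ν : G → ℂ) x = (ν : G → ℂ) 1) : charDegree (ν : G → ℂ) = 1 := by
  obtain ⟨ν', hν', h2⟩ := exists_quotient_irr (commutator G) ν.2 h
  have hc : ∀ a b : G ⧸ commutator G, a * b = b * a := by
    intro a b
    exact mul_comm (G := Abelianization G) a b
  have h3 := Cfsg.Agent.Lib.CharCodegP.irr_one_of_comm hc hν'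
  have h4 : (ν : G → ℂ) 1 = 1 := by
    rw [← h2 1]
    exact h3
  have h5 := one_eq_charDegree (IsIrrCharacter.isCharacter ν.2)
  rw [h4] at h5
  exact_mod_cast h5.symm

theorem hom_trivial_of_fix (K W : Subgroup G) [hK : K.Normal] (ω : K →* ℂˣ)
    (h : W ≤ stb (lin K ω)) : ⁅K, W⁆ ≤ ω.ker.map K.subtype := by
  rw [Subgroup.commutator_le]
  intro k hk g hg
  have h1 := stb_lin_apply (h hg) ⟨k⁻¹, K.inv_mem hk⟩
  refine ⟨⟨k, hk⟩ * ⟨g * k⁻¹ * g⁻¹, hK.conj_mem _ (K.inv_mem hk) g⟩, ?_, ?_⟩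
  · show ω (_ * _) = 1
    rw [map_mul]
    have h2 : ω ⟨g * k⁻¹ * g⁻¹, hK.conj_mem _ (K.inv_mem hk) g⟩ = ω ⟨k⁻¹, K.inv_mem hk⟩ := h1
    rw [h2]
    have h3 : (⟨k⁻¹, K.inv_mem hk⟩ : K) = (⟨k, hk⟩ : K)⁻¹ := rfl
    rw [h3, map_inv, mul_inv_cancel]
  · show k * (g * k⁻¹ * g⁻¹) = ⁅k, g⁆
    rw [commutatorElement_def]
    group

theorem exists_torsion (C E : Subgroup G) [hC : C.Normal] [hE : E.Normal] (hab : ⁅E, E⁆ ≤ C)
    (n : ℕ) : ∃ S : Subgroup G, S.Normal ∧ ∀ x, x ∈ S ↔ x ∈ E ∧ x ^ n ∈ C := by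
  let π : G →* G ⧸ C := QuotientGroup.mk' C
  have hker : ∀ x, π x = 1 ↔ x ∈ C := fun x => QuotientGroup.eq_one_iff x
  have hcomm : ∀ x ∈ E, ∀ y ∈ E, Commute (π x) (π y) := by
    intro x hx y hy
    have h1 : ⁅x, y⁆ ∈ C := hab (Subgroup.commutator_mem_commutator hx hy)
    rw [← hker, commutatorElement_def] at h1
    simp only [map_mul, map_inv] at h1
    rw [Commute, SemiconjBy]
    calc π x * π y = π x * π y * (π x)⁻¹ * (π y)⁻¹ * (π y * π x) := by group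
      _ = π y * π x := by rw [h1, one_mul]
  refine ⟨{ carrier := {x | x ∈ E ∧ x ^ n ∈ C}
            mul_mem' := ?_
            one_mem' := ⟨E.one_mem, by rw [one_pow]; exact C.one_mem⟩
            inv_mem' := ?_ }, ⟨?_⟩, fun x => Iff.rfl⟩
  · rintro x y ⟨hx, hx'⟩ ⟨hy, hy'⟩
    refine ⟨E.mul_mem hx hy, ?_⟩
    rw [← hker] at hx' hy' ⊢
    rw [map_pow, map_mul, (hcomm x hx y hy).mul_pow, ← map_pow, ← map_pow, hx', hy', one_mul]
  · rintro x ⟨hx, hx'⟩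
    refine ⟨E.inv_mem hx, ?_⟩
    rw [inv_pow]
    exact C.inv_mem hx'
  · rintro x ⟨hx, hx'⟩ g
    refine ⟨hE.conj_mem x hx g, ?_⟩
    rw [conj_pow]
    exact hC.conj_mem _ hx' g

theorem mem_of_pow_cop {C : Subgroup G} {x : G} {a b : ℕ} (ha : x ^ a ∈ C) (hb : x ^ b ∈ C)
    (hab : a.Coprime b) : x ∈ C := by
  have h1 : ∀ k : ℕ, x ^ (a * k) ∈ C := fun k => by
    rw [pow_mul]
    exact C.pow_mem ha k
  have h2 : ∀ k : ℕ, x ^ (b * k) ∈ C := fun k => by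
    rw [pow_mul]
    exact C.pow_mem hb k
  have h3 : x ^ ((a.gcd b : ℕ) : ℤ) ∈ C := by
    rw [Nat.gcd_eq_gcd_ab, zpow_add, zpow_mul, zpow_mul]
    exact C.mul_mem (C.zpow_mem (by exact_mod_cast ha) _) (C.zpow_mem (by exact_mod_cast hb) _)
  rw [hab] at h3
  simpa using h3

theorem deg_le_of_over (H : Subgroup G) {κ : IrrCharacter G} {ψ : H → ℂ} (hψ : IsIrrCharacter H ψ)
    (h : classInner (fun n : H => (κ : G → ℂ) n) ψ ≠ 0) :
    charDegree (κ : G → ℂ) ≤ H.index * charDegree ψ := by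
  have hψc := IsIrrCharacter.isCharacter hψ
  have hP : IsCharacter G (indFun H ψ) := indFun_isCharacter H hψc
  have hd : charDegree (indFun H ψ) = H.index * charDegree ψ := by
    apply charDegree_of_one
    rw [indFun_one, one_eq_charDegree hψc]
    push_cast
    rfl
  have hi : classInner (indFun H ψ) (κ : G → ℂ) ≠ 0 := by
    rw [frobenius H _ (isClassFunction_of_isCharacter (IsIrrCharacter.isCharacter κ.2))]
    intro h0
    apply h
    rw [← classInner_conj_symm, h0]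
    simp
  obtain ⟨ψ', hψ', hsplit⟩ := Cfsg.Agent.Lib.CharDecomp.exists_char_add hP κ.2 hi
  have h1 := one_eq_charDegree hP
  have h2 := one_eq_charDegree (IsIrrCharacter.isCharacter κ.2)
  have h3 := one_eq_charDegree hψ'
  rw [hsplit, Pi.add_apply, h2, h3] at h1
  have h4 : charDegree (κ : G → ℂ) + charDegree ψ' = charDegree ((κ : G → ℂ) + ψ') := by
    exact_mod_cast h1
  rw [← hd, hsplit, ← h4]
  exact Nat.le_add_right _ _

theorem pgroup_of_nilpotent_normal [Group.IsSolvable G] {M : Subgroup G} (hU : UMin M) {t : ℕ}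
    (ht : t.Prime) (hM : IsPGroup t M) (A₁ : Subgroup G) [hA₁ : A₁.Normal]
    (hnil : Group.IsNilpotent A₁) : IsPGroup t A₁ := by
  by_contra hno
  haveI : Fact t.Prime := ⟨ht⟩
  -- another prime divides the order
  have hex : ∃ q : ℕ, q.Prime ∧ q ≠ t ∧ q ∣ Nat.card A₁ := by
    by_contra h
    push Not at h
    apply hno
    apply IsPGroup.of_card (n := (Nat.card A₁).primeFactorsList.length)
    apply Nat.eq_prime_pow_of_unique_prime_dvd Nat.card_pos.ne'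
    intro q hq hd
    by_contra hqt
    exact h q hq hqt hd
  obtain ⟨q, hq, hqt, hqd⟩ := hex
  haveI : Fact q.Prime := ⟨hq⟩
  obtain ⟨P⟩ : Nonempty (Sylow q A₁) := inferInstance
  haveI hPn : (P : Subgroup A₁).Normal := inferInstance
  haveI hPc : (P : Subgroup A₁).Characteristic := Sylow.characteristic_of_normal P hPn
  have hne : (P : Subgroup A₁) ≠ ⊥ := P.ne_bot_of_dvd_card hqd
  let Pg : Subgroup G := (P : Subgroup A₁).map A₁.subtype
  haveI hPgn : Pg.Normal := ConjAct.normal_of_characteristic_of_normal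
  have hPgne : Pg ≠ ⊥ := by
    intro h
    apply hne
    rw [eq_bot_iff]
    intro y hy
    have h1 : (y : G) ∈ Pg := ⟨y, hy, rfl⟩
    rw [h, Subgroup.mem_bot] at h1
    exact Subgroup.mem_bot.mpr (Subtype.ext h1)
  have hMP := hU.le Pg hPgn hPgne
  have hPgp : IsPGroup q Pg := P.isPGroup'.map _
  have h3 := IsPGroup.disjoint_of_ne q t hqt _ _ hPgp hM
  exact hU.ne (le_bot_iff.mp ((le_inf hMP le_rfl).trans h3.le_bot))

theorem exists_low_quot {q : ℕ} (hq : q.Prime) (T D C₂ K₀ : Subgroup G) [hD : D.Normal]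
    [hC₂ : C₂.Normal] [hK₀ : K₀.Normal] (hK₀T : K₀ ≤ T) (hDq : ∀ x ∈ D, ∃ k, x ^ (q ^ k) ∈ K₀)
    (hDT : ¬ D ≤ T) (hC : ∀ x ∈ C₂, ∀ k, x ^ (q ^ k) = 1 → x ∈ T) :
    ∃ β, q ^ β ∣ T.index ∧ ∃ χ : IrrCharacter G, (∀ c ∈ C₂, (χ : G → ℂ) c = (χ : G → ℂ) 1) ∧
      NT D χ ∧ ¬ q ^ β ∣ charDegree (χ : G → ℂ) := by
  haveI : Fact q.Prime := ⟨hq⟩
  obtain ⟨S₀⟩ : Nonempty (Sylow q T) := inferInstance
  have hS₁p : IsPGroup q ((S₀ : Subgroup T).map T.subtype) := S₀.isPGroup'.map _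
  obtain ⟨P, hP⟩ := hS₁p.exists_le_sylow
  set Pg : Subgroup G := (P : Subgroup G) with hPg
  set S : Subgroup G := Pg ⊓ T with hS
  have hPgp : IsPGroup q Pg := P.isPGroup'
  have hPgi : ¬ q ∣ Pg.index := P.not_dvd_index
  have hS₁S : (S₀ : Subgroup T).map T.subtype ≤ S :=
    le_inf hP (by rintro _ ⟨y, _, rfl⟩; exact y.2)
  have hm₂ : ¬ q ∣ S.relIndex T := by
    have h1 : (S₀ : Subgroup T) ≤ S.subgroupOf T := by
      intro y hy
      rw [Subgroup.mem_subgroupOf]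
      exact hS₁S ⟨y, hy, rfl⟩
    have h2 : S.relIndex T ∣ (S₀ : Subgroup T).index := Subgroup.index_dvd_of_le h1
    exact fun h => S₀.not_dvd_index (h.trans h2)
  set w := S.relIndex Pg with hw
  have hSPg : S ≤ Pg := inf_le_left
  have hST : S ≤ T := inf_le_right
  have hmul : w * Pg.index = S.relIndex T * T.index := by
    rw [Subgroup.relIndex_mul_index hSPg, Subgroup.relIndex_mul_index hST]
  obtain ⟨a, ha⟩ := IsPGroup.iff_card.mp hPgp
  have hwpow : w ∣ q ^ a := by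
    rw [← ha]
    exact Subgroup.index_dvd_card _
  obtain ⟨i₀, -, hi₀⟩ := (Nat.dvd_prime_pow hq).mp hwpow
  have hwT : w ∣ T.index := by
    have h1 : w ∣ S.relIndex T * T.index := by
      rw [← hmul]
      exact dvd_mul_right _ _
    have h2 : w.Coprime (S.relIndex T) := by
      rw [hi₀]
      exact Nat.Coprime.pow_left _ ((Nat.Prime.coprime_iff_not_dvd hq).mpr hm₂)
    exact h2.dvd_of_dvd_mul_left h1
  have hx : ∃ x ∈ D, x ∈ Pg ∧ x ∉ T := by
    by_contra hno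
    push Not at hno
    set K₁ := K₀ ⊔ (D ⊓ Pg) with hK₁
    have hK₁T : K₁ ≤ T := sup_le hK₀T (fun y hy => hno y hy.1 hy.2)
    have hDK : D ≤ K₁ := by
      apply le_of_not_dvd_relIndex hq (le_sup_left : K₀ ≤ K₁) hDq
      intro h
      have h1 : K₁.relIndex D ∣ Pg.relIndex D := by
        apply Subgroup.index_dvd_of_le
        intro y hy
        rw [Subgroup.mem_subgroupOf] at hy ⊢
        exact (le_sup_right : D ⊓ Pg ≤ K₁) ⟨y.2, hy⟩
      have h2 : Pg.relIndex D ∣ Pg.relIndex ⊤ := relIndex_dvd_relIndex Pg le_top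
      rw [Subgroup.relIndex_top_right] at h2
      exact hPgi (h.trans (h1.trans h2))
    exact hDT (hDK.trans hK₁T)
  obtain ⟨x, hxD, hxP, hxT⟩ := hx
  let π : G →* G ⧸ C₂ := QuotientGroup.mk' C₂
  have hπ : Function.Surjective π := QuotientGroup.mk'_surjective C₂
  let Qb : Subgroup (G ⧸ C₂) := Pg.map π
  let Sb : Subgroup (G ⧸ C₂) := S.map π
  have hQbp : IsPGroup q Qb := hPgp.map π
  have hxS : π x ∉ Sb := by
    rintro ⟨s, hs, hsx⟩
    have hc : s⁻¹ * x ∈ C₂ := by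
      rw [← QuotientGroup.eq_one_iff]
      show π (s⁻¹ * x) = 1
      rw [map_mul, map_inv, hsx, inv_mul_cancel]
    have hcP : s⁻¹ * x ∈ Pg := Pg.mul_mem (Pg.inv_mem hs.1) hxP
    obtain ⟨k, hk⟩ := hPgp ⟨_, hcP⟩
    have hk' : (s⁻¹ * x) ^ (q ^ k) = 1 := congrArg Subtype.val hk
    have hT' := hC _ hc k hk'
    apply hxT
    have h5 : x = s * (s⁻¹ * x) := by group
    rw [h5]
    exact T.mul_mem hs.2 hT'
  let T' : Subgroup Qb := Sb.subgroupOf Qb
  let A' : Subgroup Qb := (D.map π).subgroupOf Qb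
  have hA' : ¬ A' ≤ T' := by
    intro h
    have h1 : (⟨π x, x, hxP, rfl⟩ : Qb) ∈ A' := by
      rw [Subgroup.mem_subgroupOf]
      exact ⟨x, hxD, rfl⟩
    exact hxS (h h1)
  obtain ⟨β₀, hβ₀NT, -, hβ₀d⟩ := exists_small T' A' ⊥ bot_le hA'
  let f : Pg →* Qb := π.subgroupMap Pg
  have hf : Function.Surjective f := π.subgroupMap_surjective Pg
  have hT'eq : T' = (S.subgroupOf Pg).map f := by
    ext y
    constructor
    · intro hy
      rw [Subgroup.mem_subgroupOf] at hy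
      obtain ⟨s, hs, hsy⟩ := hy
      refine ⟨⟨s, (show s ∈ S from hs).1⟩, ?_, Subtype.ext hsy⟩
      show s ∈ S
      exact hs
    · rintro ⟨z, hz, rfl⟩
      rw [Subgroup.mem_subgroupOf]
      exact ⟨z, hz, rfl⟩
  have hT'w : T'.index ∣ w := by
    rw [hT'eq]
    exact Subgroup.index_map_dvd _ hf
  obtain ⟨j, hj⟩ := deg_pow_of_pgroup hq hQbp β₀
  obtain ⟨i, -, hi⟩ := (Nat.dvd_prime_pow hq).mp (hT'w.trans hwpow)
  have hji : j < i := by
    rw [hj, hi] at hβ₀d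
    exact (Nat.pow_lt_pow_iff_right hq.one_lt).mp hβ₀d
  have hq1 : q ^ (j + 1) ∣ T.index :=
    (pow_dvd_pow q hji).trans (hi ▸ (hT'w.trans hwT))
  have hQbi : ¬ q ∣ Qb.index := fun h => hPgi (h.trans (Subgroup.index_map_dvd Pg hπ))
  obtain ⟨χb, hχb1, hχb2⟩ := exists_low Qb β₀.2 (b := q ^ (j + 1)) (by
    rw [hj, pow_succ, mul_comm (q ^ j) q]
    intro h
    exact hQbi (Nat.dvd_of_mul_dvd_mul_right (pow_pos hq.pos j) h))
  refine ⟨j + 1, hq1, infl π hπ χb, ?_, ?_, ?_⟩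
  · intro c hc
    rw [infl_apply, infl_apply, map_one]
    have h1 : π c = 1 := (QuotientGroup.eq_one_iff c).mpr hc
    rw [h1]
  · obtain ⟨y, hy, hy2⟩ := hβ₀NT
    rw [Subgroup.mem_subgroupOf] at hy
    obtain ⟨d, hd, hdy⟩ := hy
    refine ⟨d, hd, ?_⟩
    rw [infl_apply, infl_apply, map_one, hdy]
    intro h
    exact hy2 (ker_of_over Qb (IsIrrCharacter.isCharacter χb.2) β₀.2 hχb1 h)
  · rw [infl_deg]
    exact hχb2

/-- Three characters nontrivial on `A` cannot have three distinct degrees. -/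
theorem case_zero [Group.IsSolvable G] {m n t : ℕ} (ht : t.Prime) (A : Subgroup G) [hA : A.Normal]
    (hAd : ∀ χ : IrrCharacter G, NT A χ → charDegree (χ : G → ℂ) = m ∨ charDegree (χ : G → ℂ) = n)
    (hAp : IsPGroup t A) (hM : ⁅⁅A, A⁆, ⁅A, A⁆⁆ ≠ ⊥) : False := by
  have hA₁ : ⁅A, A⁆ ≠ ⊥ := by
    intro h
    apply hM
    rw [h, Subgroup.commutator_bot_left]
  have hA₁le : ⁅A, A⁆ ≤ A := Subgroup.commutator_le_left A A
  haveI : (⁅A, A⁆ : Subgroup G).Normal := inferInstance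
  have hA₁p : IsPGroup t (⁅A, A⁆ : Subgroup G) := hAp.to_le hA₁le
  obtain ⟨j₁, ⟨χ₀, h₀NT, h₀⟩, hall₁⟩ := V1 ht A hAp hA₁
  obtain ⟨j₂, ⟨χ₁, h₁NT, h₁⟩, hall₂⟩ := V1 ht (⁅A, A⁆ : Subgroup G) hA₁p hM
  obtain ⟨χ₂, h₂NT⟩ := exists_NT hM
  have hMle : ⁅⁅A, A⁆, ⁅A, A⁆⁆ ≤ ⁅A, A⁆ := Subgroup.commutator_le_left _ _
  have h1 := hall₁ χ₁ h₁NT
  have h2 := hall₁ χ₂ (h₂NT.mono hMle)
  have h3 := hall₂ χ₂ h₂NT
  have hj : j₁ < j₂ := by
    by_contra hle
    push Not at hle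
    exact h₁ ((pow_dvd_pow t (by omega)).trans h1)
  have d0 := hAd χ₀ h₀NT
  have d1 := hAd χ₁ (h₁NT.mono hA₁le)
  have d2 := hAd χ₂ ((h₂NT.mono hMle).mono hA₁le)
  have n01 : charDegree (χ₀ : G → ℂ) ≠ charDegree (χ₁ : G → ℂ) := fun h => h₀ (h ▸ h1)
  have n02 : charDegree (χ₀ : G → ℂ) ≠ charDegree (χ₂ : G → ℂ) := fun h => h₀ (h ▸ h2)
  have n12 : charDegree (χ₁ : G → ℂ) ≠ charDegree (χ₂ : G → ℂ) := fun h => h₁ (h ▸ h3)
  omega

theorem derived_four_of_L (L : Subgroup G) (h : commutator G ≤ L) (hL : derivedSeries L 3 = ⊥) :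
    derivedSeries G 4 = ⊥ := by
  have h1 : derivedSeries G 1 ≤ (derivedSeries L 0).map L.subtype := by
    rw [derivedSeries_one, derivedSeries_zero, ← MonoidHom.range_eq_map, Subgroup.range_subtype]
    exact h
  have h2 := derived_map_step L h1 3
  rw [hL, Subgroup.map_bot] at h2
  exact le_bot_iff.mp h2

end H

end Cfsg.Agent.Lib.GarrD
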