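import Mathlib
import Cfsg.Agent.Lib.GarrD

/-!
# Garrison's theorem: case (b), the derived subgroup `A₁` is not a `t`-group
-/

set_option autoImplicit false
set_option linter.style.haveILetI false
set_option linter.unusedVariables false
set_option linter.unusedSectionVars false

namespace Cfsg.Agent.Lib.GarrE

open Cfsg Cfsg.Agent.Lib.CharBasic Cfsg.Agent.Lib.CharInd Cfsg.Agent.Lib.CharKernel
open Cfsg.Agent.Lib.Clifford Cfsg.Agent.Lib.CliffDvd Cfsg.Agent.Lib.TwoDeg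
open Cfsg.Agent.Lib.ThreeDeg31 Cfsg.Agent.Lib.RealOdd Cfsg.Agent.Lib.GarrA Cfsg.Agent.Lib.GarrB
open Cfsg.Agent.Lib.GarrC Cfsg.Agent.Lib.RelDeg Cfsg.Agent.Lib.GarrD
open scoped ComplexConjugate commutatorElement

universe u

attribute [local instance] Fintype.ofFinite

section Syl

variable {Γ : Type u} [Group Γ] [Finite Γ]

theorem map_commutator_subtype (B : Subgroup Γ) :
    (commutator B).map B.subtype = (⁅B, B⁆ : Subgroup Γ) := by
  have h := comm_map_eq B B le_rfl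
  rwa [Subgroup.subgroupOf_self, ← commutator_def] at h

theorem sylow_of_comm {q : ℕ} (hq : q.Prime) (B : Subgroup Γ) [hB : B.Normal]
    (hc : ∀ x ∈ (⁅B, B⁆ : Subgroup Γ), ∃ k, x ^ (q ^ k) = 1) :
    ∃ P : Subgroup Γ, P.Normal ∧ P ≤ B ∧ IsPGroup q P ∧ (⁅B, B⁆ : Subgroup Γ) ≤ P ∧
      ¬ q ∣ P.relIndex B ∧
      (∀ z ∈ P, (∀ g ∈ B, g * z = z * g) → z ∈ (⁅B, B⁆ : Subgroup Γ) →
        z ∈ (⁅P, P⁆ : Subgroup Γ)) ∧
      (∀ z ∈ B, ∀ k, z ^ (q ^ k) = 1 → z ∈ P) := by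
  haveI : Fact q.Prime := ⟨hq⟩
  have hmap := map_commutator_subtype B
  have hcp : IsPGroup q (commutator B) := by
    intro x
    have h1 : ((x : B) : Γ) ∈ (⁅B, B⁆ : Subgroup Γ) := by
      rw [← hmap]
      exact ⟨x, x.2, rfl⟩
    obtain ⟨k, hk⟩ := hc _ h1
    refine ⟨k, Subtype.ext (Subtype.ext ?_)⟩
    exact hk
  obtain ⟨P₀, hle⟩ := hcp.exists_le_sylow
  haveI hPn : (P₀ : Subgroup B).Normal := ⟨fun h hh g => by
    have h1 : g * h * g⁻¹ * h⁻¹ ∈ (P₀ : Subgroup B) := hle (mem_commutator g h)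
    have h2 : g * h * g⁻¹ = (g * h * g⁻¹ * h⁻¹) * h := by group
    rw [h2]
    exact Subgroup.mul_mem _ h1 hh⟩
  haveI hPc : (P₀ : Subgroup B).Characteristic := Sylow.characteristic_of_normal P₀ hPn
  refine ⟨(P₀ : Subgroup B).map B.subtype, ConjAct.normal_of_characteristic_of_normal,
    Subgroup.map_subtype_le _, P₀.isPGroup'.map _, ?_, ?_, ?_, ?_⟩
  · rw [← hmap]
    exact Subgroup.map_mono hle
  · have h1 : ((P₀ : Subgroup B).map B.subtype).subgroupOf B = (P₀ : Subgroup B) := by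
      exact Subgroup.comap_map_eq_self_of_injective B.subtype_injective _
    rw [Subgroup.relIndex, h1]
    exact P₀.not_dvd_index
  · rintro _ ⟨z, hzP, rfl⟩ hcen hz
    have h1 : z ∈ commutator B := by
      rw [← hmap] at hz
      obtain ⟨w, hw, hwz⟩ := hz
      have h2 : w = z := Subtype.ext hwz
      rwa [← h2]
    have h2 := focal hq (P₀ : Subgroup B) P₀.isPGroup' P₀.not_dvd_index hzP
      (fun g => Subtype.ext (hcen g g.2)) h1
    let φ : (P₀ : Subgroup B) →* Γ := B.subtype.comp (P₀ : Subgroup B).subtype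
    have h3 : (commutator (P₀ : Subgroup B)).map φ ≤
        (⁅(P₀ : Subgroup B).map B.subtype, (P₀ : Subgroup B).map B.subtype⁆ : Subgroup Γ) := by
      rw [commutator_def, Subgroup.map_commutator]
      apply Subgroup.commutator_mono
      · rintro _ ⟨u, -, rfl⟩
        exact ⟨u.1, u.2, rfl⟩
      · rintro _ ⟨u, -, rfl⟩
        exact ⟨u.1, u.2, rfl⟩
    exact h3 ⟨_, h2, rfl⟩
  · intro z hz k hk
    have h1 : (⟨z, hz⟩ : B) ^ (q ^ k) = 1 := Subtype.ext hk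
    exact ⟨⟨z, hz⟩, Cfsg.Agent.Lib.PalfyD.mem_of_pelt hPn P₀.not_dvd_index h1, rfl⟩

end Syl

section CaseB

variable {G : Type u} [Group G] [Finite G]

theorem nilpotent_of_comm_central (B : Subgroup G) (h : ⁅(⁅B, B⁆ : Subgroup G), B⁆ = ⊥) :
    Group.IsNilpotent B := by
  have hker : (Abelianization.of : B →* Abelianization B).ker ≤ Subgroup.center B := by
    rw [Abelianization.ker_of]
    intro x hx
    rw [Subgroup.mem_center_iff]
    intro g
    have h1 : (x : G) ∈ (⁅B, B⁆ : Subgroup G) := by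
      rw [← map_commutator_subtype]
      exact ⟨x, hx, rfl⟩
    have h2 : ⁅(x : G), (g : G)⁆ ∈ ⁅(⁅B, B⁆ : Subgroup G), B⁆ :=
      Subgroup.commutator_mem_commutator h1 g.2
    rw [h, Subgroup.mem_bot, commutatorElement_eq_one_iff_mul_comm] at h2
    exact Subtype.ext h2.symm
  exact Subgroup.isNilpotent_of_ker_le_center _ hker

theorem case_b [hsol : Group.IsSolvable G] {m n t : ℕ} (hlt : m < n) (ht : t.Prime)
    (A : Subgroup G) [hA : A.Normal]
    (hAd : ∀ χ : IrrCharacter G, NT A χ → charDegree (χ : G → ℂ) = m ∨ charDegree (χ : G → ℂ) = n)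
    (hM : UMin (⁅(⁅A, A⁆ : Subgroup G), (⁅A, A⁆ : Subgroup G)⁆ : Subgroup G))
    (hMp : IsPGroup t (⁅(⁅A, A⁆ : Subgroup G), (⁅A, A⁆ : Subgroup G)⁆ : Subgroup G))
    (hA₁p : ¬ IsPGroup t (⁅A, A⁆ : Subgroup G)) : False := by
  haveI hFt : Fact t.Prime := ⟨ht⟩
  set A₁ : Subgroup G := ⁅A, A⁆ with hA₁
  set M : Subgroup G := ⁅A₁, A₁⁆ with hMdef
  haveI hA₁n : A₁.Normal := Subgroup.commutator_normal _ _
  haveI hMn : M.Normal := Subgroup.commutator_normal _ _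
  have hA₁A : A₁ ≤ A := Subgroup.commutator_le_left _ _
  have hMA₁ : M ≤ A₁ := Subgroup.commutator_le_left _ _
  have hMA : M ≤ A := hMA₁.trans hA₁A
  have hab := hM.abelian
  have hmin : ∀ β : IrrCharacter G, NT A β → m ≤ charDegree (β : G → ℂ) := by
    intro β h
    rcases hAd β h with h1 | h1 <;> omega
  -- Step 1
  have hcomm : ⁅M, A₁⁆ ≠ ⊥ := by
    intro h
    apply hA₁p
    exact pgroup_of_nilpotent_normal hM ht hMp A₁ (nilpotent_of_comm_central A₁ h)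
  have hM_le : M ≤ ⁅M, A₁⁆ := hM.le _ (Subgroup.commutator_normal _ _) hcomm
  -- Step 3
  have hno_fix : ∀ l : M →* ℂˣ, A₁ ≤ stb (lin M l) → l = 1 := by
    intro l hl
    have h1 := hom_trivial_of_fix M A₁ l hl
    ext x
    have h2 := h1 (hM_le x.2)
    obtain ⟨y, hy, hyx⟩ := h2
    have h3 : y = x := Subtype.ext hyx
    rw [← h3]
    have h4 : l y = 1 := hy
    simp [h4]
  -- Step 4
  have hMn_deg : ∀ χ : IrrCharacter G, NT M χ → charDegree (χ : G → ℂ) = n := by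
    intro χ hχ
    rcases hAd χ (hχ.mono hMA) with h1 | h1
    · exfalso
      obtain ⟨x, hx, hx1⟩ := hχ
      obtain ⟨i, hi, hi1⟩ := constituent_ne M (IsIrrCharacter.isCharacter χ.2) hx hx1
      obtain ⟨l, hl⟩ := Cfsg.Agent.Lib.PalfyE.irr_abelian_hom
        (fun a b : M => Subtype.ext (hab a a.2 b b.2)) i.2
      have hil : i = lin M l := Subtype.ext hl
      have h2 : A ≤ stb i := le_stb_of_min A M hmin h1 hi
      rw [hil] at h2
      have h3 := hno_fix l (hA₁A.trans h2)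
      apply hi1
      rw [hl, h3]
      simp
    · exact h1
  -- Step 5
  let C : Subgroup G := Subgroup.centralizer (M : Set G)
  haveI hCn : C.Normal := Subgroup.normal_centralizer
  let πC : G →* G ⧸ C := QuotientGroup.mk' C
  have hπCs : Function.Surjective πC := QuotientGroup.mk'_surjective C
  have hπC : ∀ x, πC x = 1 ↔ x ∈ C := fun x => QuotientGroup.eq_one_iff x
  let E : Subgroup G := (A₁.map πC).comap πC
  haveI hEn : E.Normal := Subgroup.Normal.comap (Subgroup.Normal.map hA₁n πC hπCs) πC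
  have hA₁E : A₁ ≤ E := fun x hx => ⟨x, hx, rfl⟩
  have hCE : C ≤ E := by
    intro x hx
    show πC x ∈ A₁.map πC
    rw [(hπC x).mpr hx]
    exact Subgroup.one_mem _
  have hMC : M ≤ C := by
    intro x hx
    rw [Subgroup.mem_centralizer_iff]
    intro y hy
    exact hab y hy x hx
  have hEE : ⁅E, E⁆ ≤ C := by
    rw [Subgroup.commutator_le]
    rintro x ⟨a, ha, hax⟩ y ⟨b, hb, hby⟩
    rw [← hπC, map_commutatorElement, ← hax, ← hby, ← map_commutatorElement, hπC]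
    exact hMC (Subgroup.commutator_mem_commutator ha hb)
  have hA₁C : ¬ A₁ ≤ C := by
    intro h
    apply hcomm
    rw [eq_bot_iff, Subgroup.commutator_le]
    intro a ha b hb
    have h1 := (Subgroup.mem_centralizer_iff.mp (h hb)) a ha
    rw [Subgroup.mem_bot, commutatorElement_eq_one_iff_mul_comm]
    exact h1
  -- Step 6: a minimal normal subgroup above `C`
  let SS : Set (Subgroup G) := {D | D.Normal ∧ C ≤ D ∧ D ≤ E ∧ ¬ D ≤ C}
  have hSS : SS.Nonempty := ⟨E, hEn, hCE, le_rfl, fun h => hA₁C (hA₁E.trans h)⟩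
  obtain ⟨D, hDmin⟩ := SS.toFinite.exists_minimal hSS
  haveI hDn : D.Normal := hDmin.prop.1
  have hCD : C ≤ D := hDmin.prop.2.1
  have hDE : D ≤ E := hDmin.prop.2.2.1
  have hDC : ¬ D ≤ C := hDmin.prop.2.2.2
  have hDmin' : ∀ D' : Subgroup G, D'.Normal → C ≤ D' → D' ≤ D → D' ≤ C ∨ D' = D := by
    intro D' h1 h2 h3
    by_cases h4 : D' ≤ C
    · exact Or.inl h4
    · right
      exact le_antisymm h3 (hDmin.le_of_le ⟨h1, h2, h3.trans hDE, h4⟩ h3)
  obtain ⟨y, hyD, hyC⟩ := SetLike.not_le_iff_exists.mp hDC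
  obtain ⟨q, hq, hqpow⟩ : ∃ q, q.Prime ∧ ∀ y ∈ D, y ^ q ∈ C := by
    have h1 : πC y ≠ 1 := fun h => hyC ((hπC y).mp h)
    have h2 : orderOf (πC y) ≠ 1 := fun h => h1 (orderOf_eq_one_iff.mp h)
    obtain ⟨q, hq, hqd⟩ := Nat.exists_prime_and_dvd h2
    obtain ⟨d, hd⟩ := hqd
    have hord0 : orderOf (πC y) ≠ 0 := (orderOf_pos _).ne'
    have hd0 : 0 < d := Nat.pos_of_ne_zero (by
      rintro rfl
      exact hord0 (by rw [hd, mul_zero]))
    let z := y ^ d
    have hzD : z ∈ D := D.pow_mem hyD d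
    have hzC : z ∉ C := by
      intro h
      rw [← hπC, map_pow] at h
      have h3 := orderOf_dvd_of_pow_eq_one h
      have h4 := Nat.le_of_dvd hd0 h3
      rw [hd] at h4
      have h5 := hq.two_le
      have h6 : 2 * d ≤ q * d := Nat.mul_le_mul_right d h5
      omega
    have hzq : z ^ q ∈ C := by
      rw [← hπC, map_pow, map_pow, ← pow_mul, mul_comm d q, ← hd]
      exact pow_orderOf_eq_one _
    obtain ⟨S, hSn, hS⟩ := exists_torsion C E hEE q
    haveI := hSn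
    have h3 := hDmin' (S ⊓ D) inferInstance
      (le_inf (fun x hx => (hS x).mpr ⟨hCE hx, C.pow_mem hx q⟩) hCD) inf_le_right
    rcases h3 with h3 | h3
    · exact absurd (h3 ⟨(hS z).mpr ⟨hDE hzD, hzq⟩, hzD⟩) hzC
    · refine ⟨q, hq, fun x hx => ?_⟩
      have h4 : x ∈ S ⊓ D := by rw [h3]; exact hx
      exact ((hS x).mp h4.1).2
  haveI hFq : Fact q.Prime := ⟨hq⟩
  -- Step 7
  obtain ⟨a, m₀, hm₀, hcard⟩ := Nat.exists_eq_pow_mul_and_not_dvd (n := Nat.card G) Nat.card_pos.ne'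
    q hq.ne_one
  obtain ⟨C₂, hC₂n, hC₂⟩ := exists_torsion C E hEE m₀
  haveI := hC₂n
  have hCC₂ : C ≤ C₂ := fun x hx => (hC₂ x).mpr ⟨hCE hx, C.pow_mem hx m₀⟩
  have hE_pow : ∀ x ∈ E, x ^ (q ^ a) ∈ C₂ := by
    intro x hx
    refine (hC₂ _).mpr ⟨E.pow_mem hx _, ?_⟩
    rw [← pow_mul, ← hcard, pow_card_eq_one']
    exact C.one_mem
  have hC₂q : ∀ x ∈ C₂, ∀ k, x ^ (q ^ k) = 1 → x ∈ C := by
    intro x hx k hk
    have h1 := ((hC₂ x).mp hx).2
    have h2 : x ^ (q ^ k) ∈ C := by rw [hk]; exact C.one_mem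
    exact mem_of_pow_cop h1 h2
      (Nat.Coprime.pow_right k ((Nat.Prime.coprime_iff_not_dvd hq).mpr hm₀).symm)
  -- Step 8
  have hCstb : ∀ l : M →* ℂˣ, C ≤ stb (lin M l) := by
    intro l g hg
    apply mem_stb_lin_of
    intro k
    congr 1
    apply Subtype.ext
    show g * k * g⁻¹ = k
    have h1 := (Subgroup.mem_centralizer_iff.mp hg) k k.2
    rw [← h1]
    group
  obtain ⟨l, hl⟩ : ∃ l : M →* ℂˣ, ¬ D ≤ stb (lin M l) := by
    by_contra hno
    push Not at hno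
    have h1 := comm_le_of_fix M D hno
    apply hDC
    intro x hx
    rw [Subgroup.mem_centralizer_iff]
    intro z hz
    have h2 : ⁅z, x⁆ ∈ ⁅M, D⁆ := Subgroup.commutator_mem_commutator hz hx
    have h3 := h1 h2
    have h4 : (⁅M, M⁆ : Subgroup G) = ⊥ := by
      rw [eq_bot_iff, Subgroup.commutator_le]
      intro a₁ h₁ b₁ h₂
      rw [Subgroup.mem_bot, commutatorElement_eq_one_iff_mul_comm]
      exact hab a₁ h₁ b₁ h₂
    rw [h4, Subgroup.mem_bot, commutatorElement_eq_one_iff_mul_comm] at h3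
    exact h3
  set T : Subgroup G := stb (lin M l) with hT
  -- Step 9
  obtain ⟨β, hβT, χ', hχ'C₂, hχ'D, hχ'β⟩ := exists_low_quot hq T D C₂ C (hCstb l)
    (fun x hx => ⟨1, by rw [pow_one]; exact hqpow x hx⟩) hl
    (fun x hx k hk => hCstb l (hC₂q x hx k hk))
  -- `T.index ∣ n`
  have hTn : T.index ∣ n := by
    obtain ⟨γ, hγ⟩ := exists_over_irr (lin M l)
    have h1 := degree_over hγ
    have h2 : ∃ x, (lin M l : M → ℂ) x ≠ (lin M l : M → ℂ) 1 := by
      by_contra hno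
      push Not at hno
      apply hl
      have h3 : l = 1 := by
        ext x
        have h4 := hno x
        simpa [lin_apply] using h4
      rw [hT, h3]
      intro x _
      rw [stb_mem']
      intro k
      simp [lin_apply]
    have h3 := hMn_deg γ (NT_of_over hγ h2)
    rw [h3] at h1
    exact (dvd_mul_right _ _).trans h1
  have hbn : q ^ β ∣ n := hβT.trans hTn
  -- `χ'` is nontrivial on `A₁`
  have hχ'A₁ : NT A₁ χ' := by
    by_contra hno
    obtain ⟨x, hx, hx1⟩ := hχ'D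
    apply hx1
    obtain ⟨b, hb, hbx⟩ := hDE hx
    have h1 : b⁻¹ * x ∈ C := by
      rw [← hπC, map_mul, map_inv, ← hbx, inv_mul_cancel]
    have hχ'c := IsIrrCharacter.isCharacter χ'.2
    have h2 : b ∈ charKer hχ'c := (mem_charKer _).mpr (by
      by_contra h3
      exact hno ⟨b, hb, h3⟩)
    have h3 : b⁻¹ * x ∈ charKer hχ'c := (mem_charKer _).mpr (hχ'C₂ _ (hCC₂ h1))
    have h4 := (charKer hχ'c).mul_mem h2 h3
    rw [mul_inv_cancel_left] at h4
    exact (mem_charKer _).mp h4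
  have hχ'c := IsIrrCharacter.isCharacter χ'.2
  have hdeg' : charDegree (χ' : G → ℂ) = m := by
    rcases hAd χ' (hχ'A₁.mono hA₁A) with h | h
    · exact h
    · exact absurd (h ▸ hbn) hχ'β
  have hbm : ¬ q ^ β ∣ m := hdeg' ▸ hχ'β
  -- Step 10
  obtain ⟨y₁, hy₁D, hy₁⟩ := hχ'D
  obtain ⟨ν, hν, hν1⟩ := constituent_ne D hχ'c hy₁D hy₁
  have hνC : ∀ c : D, (c : G) ∈ C → (ν : D → ℂ) c = (ν : D → ℂ) 1 := fun c hc =>
    ker_of_over D hχ'c ν.2 hν (hχ'C₂ _ (hCC₂ hc))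
  have hνlin : charDegree (ν : D → ℂ) = 1 := by
    apply linear_of_comm_ker ν
    intro x hx
    apply hνC
    apply hEE
    have h1 : (x : G) ∈ (⁅D, D⁆ : Subgroup G) := by
      rw [← map_commutator_subtype]
      exact ⟨x, hx, rfl⟩
    exact Subgroup.commutator_mono hDE hDE h1
  obtain ⟨ν₁, hν₁⟩ := exists_eq_lin hνlin
  have hAstb : A ≤ stb ν := le_stb_of_min A D hmin hdeg' hν
  rw [hν₁] at hAstb
  have hDA : ⁅D, A⁆ ≤ C := by
    have h1 := hom_trivial_of_fix D A ν₁ hAstb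
    have h2 := hDmin' (⁅D, A⁆ ⊔ C) inferInstance le_sup_right
      (sup_le (Subgroup.commutator_le_left _ _) hCD)
    rcases h2 with h2 | h2
    · exact le_sup_left.trans h2
    · exfalso
      have h3 : ⁅D, A⁆ ⊔ C ≤ ν₁.ker.map D.subtype := by
        refine sup_le h1 (fun c hc => ⟨⟨c, hCD hc⟩, ?_, rfl⟩)
        have h4 := hνC ⟨c, hCD hc⟩ hc
        rw [hν₁] at h4
        apply Units.ext
        simpa [lin_apply] using h4
      have h4 := h3 (h2.symm ▸ hy₁D)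
      obtain ⟨w, hw, hwy⟩ := h4
      have h5 : w = ⟨y₁, hy₁D⟩ := Subtype.ext hwy
      apply hν1
      rw [hν₁, ← h5]
      have h6 : ν₁ w = 1 := hw
      simp [lin_apply, h6]
  -- Step 11
  let π : G →* G ⧸ C₂ := QuotientGroup.mk' C₂
  have hπs : Function.Surjective π := QuotientGroup.mk'_surjective C₂
  have hπ : ∀ x, π x = 1 ↔ x ∈ C₂ := fun x => QuotientGroup.eq_one_iff x
  let Ā : Subgroup (G ⧸ C₂) := A.map π
  haveI hĀn : Ā.Normal := Subgroup.Normal.map hA π hπs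
  have hĀc : (⁅Ā, Ā⁆ : Subgroup (G ⧸ C₂)) = A₁.map π := by
    rw [hA₁, Subgroup.map_commutator]
  obtain ⟨P, hPn, hPĀ, hPp, hcP, hPi, hfoc, hPq⟩ := sylow_of_comm hq Ā (by
    intro x hx
    rw [hĀc] at hx
    obtain ⟨b, hb, rfl⟩ := hx
    refine ⟨a, ?_⟩
    rw [← map_pow, hπ]
    exact hE_pow b (hA₁E hb))
  haveI := hPn
  have hy₁C₂ : y₁ ∉ C₂ := fun h => hy₁ (hχ'C₂ _ h)
  have hπy : π y₁ ∈ (⁅P, P⁆ : Subgroup (G ⧸ C₂)) := by
    have hy₁Ā : π y₁ ∈ (⁅Ā, Ā⁆ : Subgroup (G ⧸ C₂)) := by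
      rw [hĀc]
      obtain ⟨b, hb, hbx⟩ := hDE hy₁D
      refine ⟨b, hb, ?_⟩
      have h1 : b⁻¹ * y₁ ∈ C₂ := by
        apply hCC₂
        rw [← hπC, map_mul, map_inv, ← hbx, inv_mul_cancel]
      rw [← hπ, map_mul, map_inv] at h1
      exact (inv_mul_eq_one.mp h1)
    have hcen : ∀ g ∈ Ā, g * π y₁ = π y₁ * g := by
      rintro _ ⟨g, hg, rfl⟩
      have h1 : ⁅y₁, g⁆ ∈ C₂ := hCC₂ (hDA (Subgroup.commutator_mem_commutator hy₁D hg))
      rw [← hπ, map_commutatorElement, commutatorElement_eq_one_iff_mul_comm] at h1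
      exact h1.symm
    exact hfoc _ (hcP hy₁Ā) hcen hy₁Ā
  have hPne : (⁅P, P⁆ : Subgroup (G ⧸ C₂)) ≠ ⊥ := by
    intro h
    rw [h, Subgroup.mem_bot, hπ] at hπy
    exact hy₁C₂ hπy
  obtain ⟨j, ⟨χ₃, h₃NT, h₃⟩, hall⟩ := V1 hq P hPp hPne
  obtain ⟨χq, hχq, hχq2⟩ := exists_quotient_irr C₂ χ'.2 hχ'C₂
  have hχqdeg : charDegree χq = m := by
    have h1 : (χ' : G → ℂ) = χq ∘ π := funext fun g => (hχq2 g).symm
    rw [← hdeg', h1, charDegree_comp]
  have hjm : q ^ (j + 1) ∣ m := by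
    have h1 := hall ⟨χq, hχq⟩ ⟨π y₁, hπy, by
      show χq (π y₁) ≠ χq 1
      have h2 : χq (π y₁) = (χ' : G → ℂ) y₁ := hχq2 y₁
      have h3 : χq 1 = (χ' : G → ℂ) 1 := by
        rw [← hχq2 1]
        rfl
      rw [h2, h3]
      exact hy₁⟩
    have h2 : charDegree ((⟨χq, hχq⟩ : IrrCharacter (G ⧸ C₂)) : (G ⧸ C₂) → ℂ) = m := hχqdeg
    rwa [h2] at h1
  have h₃' : NT A (infl π hπs χ₃) := by
    obtain ⟨x, hx, hx1⟩ := h₃NT
    obtain ⟨a₀, ha₀, rfl⟩ := hPĀ hx
    refine ⟨a₀, ha₀, ?_⟩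
    rw [infl_apply, infl_apply, map_one]
    exact hx1
  rcases hAd _ h₃' with h6 | h6 <;> rw [infl_deg] at h6
  · exact h₃ (h6 ▸ hjm)
  · rw [h6] at h₃
    by_cases hle : β ≤ j + 1
    · exact hbm ((pow_dvd_pow q hle).trans hjm)
    · exact h₃ ((pow_dvd_pow q (by omega)).trans hbn)

end CaseB

end Cfsg.Agent.Lib.GarrE
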