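import Mathlib
import Cfsg.Agent.Lib.GarrE

/-!
# Garrison's theorem: case (a), tools
-/

set_option autoImplicit false
set_option linter.style.haveILetI false
set_option linter.unusedVariables false
set_option linter.unusedSectionVars false

namespace Cfsg.Agent.Lib.GarrF

open Cfsg Cfsg.Agent.Lib.CharBasic Cfsg.Agent.Lib.CharInd Cfsg.Agent.Lib.CharKernel
open Cfsg.Agent.Lib.Clifford Cfsg.Agent.Lib.CliffDvd Cfsg.Agent.Lib.TwoDeg
open Cfsg.Agent.Lib.ThreeDeg31 Cfsg.Agent.Lib.RealOdd Cfsg.Agent.Lib.GarrA Cfsg.Agent.Lib.GarrB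
open Cfsg.Agent.Lib.GarrC Cfsg.Agent.Lib.RelDeg Cfsg.Agent.Lib.GarrD Cfsg.Agent.Lib.GarrE
open scoped ComplexConjugate commutatorElement

universe u

attribute [local instance] Fintype.ofFinite

section Eta

variable {G : Type u} [Group G] [Finite G]

/-- The canonical extension argument: a degree `E` divisible by `t` such that the orbit of any
linear character of `A / B` times `E` divides `m`. -/
theorem exists_eta {m t : ℕ} (ht : t.Prime) (A B : Subgroup G) [hA : A.Normal] [hB : B.Normal]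
    (hBA : B ≤ A) (hBp : IsPGroup t B) (hBi : ¬ t ∣ B.relIndex A)
    (hne : (⁅B, B⁆ : Subgroup G) ≠ ⊥)
    (hB'm : ∀ χ : IrrCharacter G, NT (⁅B, B⁆ : Subgroup G) χ → charDegree (χ : G → ℂ) = m)
    (hmin : ∀ β : IrrCharacter G, NT A β → m ≤ charDegree (β : G → ℂ)) :
    ∃ E : ℕ, t ∣ E ∧ ∀ τ : A →* ℂˣ, (∀ x : A, (x : G) ∈ B → τ x = 1) →
      (stb (lin A τ)).index * E ∣ m := by
  haveI hFt : Fact t.Prime := ⟨ht⟩
  have hne' : commutator B ≠ ⊥ := by
    intro h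
    apply hne
    rw [← map_commutator_subtype, h, Subgroup.map_bot]
  obtain ⟨θB, x₀, hx₀, hx₀1⟩ := exists_NT hne'
  obtain ⟨χB, hχB⟩ := exists_over_irr θB
  have hNT1 : ∀ χ : IrrCharacter G, Over B χ θB → charDegree (χ : G → ℂ) = m := by
    intro χ hχ
    apply hB'm
    refine ⟨x₀, ?_, fun h => hx₀1 ?_⟩
    · rw [← map_commutator_subtype]
      exact ⟨x₀, hx₀, rfl⟩
    · exact ker_of_over B (IsIrrCharacter.isCharacter χ.2) θB.2 hχ h
  have hAθ : A ≤ stb θB := le_stb_of_min A B hmin (hNT1 χB hχB) hχB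
  -- transport to `B.subgroupOf A`
  let Mₛ : Subgroup A := B.subgroupOf A
  haveI hMₛ : Mₛ.Normal := Subgroup.normal_subgroupOf
  let e : Mₛ ≃* B := Subgroup.subgroupOfEquivOfLe hBA
  have he : ∀ n : Mₛ, ((e n : B) : G) = ((n : A) : G) := fun n => rfl
  let lam : Mₛ → ℂ := fun n => (θB : B → ℂ) (e n)
  have hlam : IsIrrCharacter Mₛ lam :=
    isIrrCharacter_comp_of_surjective e.toMonoidHom e.surjective θB.2
  have hMp : IsPGroup t Mₛ := hBp.of_injective e.toMonoidHom e.injective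
  have hMi : ¬ t ∣ Mₛ.index := hBi
  have hinv : ∀ (g : A) (n : Mₛ), lam ⟨g * n * g⁻¹, hMₛ.conj_mem (n : A) n.2 g⟩ = lam n := by
    intro g n
    have h1 := (stb_mem' θB (g : G)).mp (hAθ g.2) (e n)
    exact h1
  obtain ⟨η, hη, hηM, hηa⟩ := Cfsg.Agent.Lib.GlaubSyl1.exists_canonical_ext t Mₛ hMp hMi hlam hinv
  have hηc := IsIrrCharacter.isCharacter hη
  have hE : charDegree η = charDegree (θB : B → ℂ) := by
    apply charDegree_of_one
    have h1 := hηM 1
    have h2 : η 1 = lam 1 := h1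
    rw [h2, one_eq_charDegree (IsIrrCharacter.isCharacter θB.2) |>.symm]
    show (θB : B → ℂ) (e 1) = _
    rw [map_one]
  obtain ⟨i, hi⟩ := deg_pow_of_pgroup ht hBp θB
  have hi0 : i ≠ 0 := by
    rintro rfl
    rw [pow_zero] at hi
    exact hx₀1 (ker_of_linear hi x₀ hx₀)
  refine ⟨charDegree η, ?_, ?_⟩
  · rw [hE, hi]
    exact dvd_pow_self t hi0
  intro τ hτ
  let ζ : IrrCharacter A := tw A τ ⟨η, hη⟩
  have hζB : ∀ n : Mₛ, (ζ : A → ℂ) n = (θB : B → ℂ) (e n) := by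
    intro n
    rw [tw_apply, hτ _ n.2]
    show ((1 : ℂˣ) : ℂ) * η n = _
    rw [hηM n]
    simp [lam]
  obtain ⟨χ₂, hχ₂⟩ := exists_over_irr ζ
  have hχ₂θ : Over B χ₂ θB := by
    have h1 := over_trans (Subgroup.inclusion hBA) A.subtype (IsIrrCharacter.isCharacter χ₂.2)
      ζ.2 hχ₂ (θ := (θB : B → ℂ)) θB.2 (by
      have h3 : (fun k : B => (ζ : A → ℂ) (Subgroup.inclusion hBA k)) = (θB : B → ℂ) := by
        funext k
        exact hζB ⟨Subgroup.inclusion hBA k, k.2⟩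
      rw [h3, classInner_irr_self θB.2]
      exact one_ne_zero)
    exact h1
  have hχ₂d := hNT1 χ₂ hχ₂θ
  have h1 := degree_over hχ₂
  rw [hχ₂d] at h1
  have hζd : charDegree (ζ : A → ℂ) = charDegree η := by
    apply charDegree_of_one
    rw [tw_apply, map_one]
    simp only [Units.val_one, one_mul]
    exact one_eq_charDegree hηc
  rw [hζd] at h1
  -- the stabilizer
  have hstb : stb ζ ≤ stb (lin A τ) := by
    intro g hg
    have hg' := (stb_mem' ζ g).mp hg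
    let a : MulAut A := Cfsg.Agent.Lib.RealOrbit.act A g
    have haa : ∀ x : A, ((a x : A) : G) = g * x * g⁻¹ := fun x => Cfsg.Agent.Lib.RealOrbit.act_apply A g x
    have hag : ∀ x : A, (⟨g * x * g⁻¹, hA.conj_mem x x.2 g⟩ : A) = a x := fun x =>
      Subtype.ext (haa x).symm
    have ha : ∀ n ∈ Mₛ, a n ∈ Mₛ := by
      intro n hn
      show ((a n : A) : G) ∈ B
      rw [haa]
      exact hB.conj_mem _ hn g
    have hlamfix : ∀ n : Mₛ, lam ⟨a n, ha n n.2⟩ = lam n := by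
      intro n
      have h2 := hg' (n : A)
      rw [hag] at h2
      have h3 := hζB n
      have h4 := hζB ⟨a n, ha n n.2⟩
      show (θB : B → ℂ) (e _) = (θB : B → ℂ) (e n)
      rw [← h3, ← h4]
      exact h2
    have hηfix := hηa a ha hlamfix
    let w : A →* ℂˣ := (τ.comp a.toMonoidHom) * τ⁻¹
    have hw : tw A w ⟨η, hη⟩ = ⟨η, hη⟩ := by
      apply Subtype.ext
      funext x
      have h2 := hg' x
      rw [hag, tw_apply, tw_apply] at h2
      rw [tw_apply]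
      show ((w x : ℂˣ) : ℂ) * η x = η x
      have h3 : η (a x) = η x := hηfix x
      have h4 : ((τ (a x) : ℂˣ) : ℂ) * η x = ((τ x : ℂˣ) : ℂ) * η x := by
        have h2' : ((τ (a x) : ℂˣ) : ℂ) * η (a x) = ((τ x : ℂˣ) : ℂ) * η x := h2
        rw [h3] at h2'
        exact h2'
      have h5 : ((w x : ℂˣ) : ℂ) = ((τ (a x) : ℂˣ) : ℂ) * ((τ x : ℂˣ)⁻¹ : ℂˣ) := by
        show (((τ (a x)) * (τ x)⁻¹ : ℂˣ) : ℂ) = _
        rw [Units.val_mul]
      rw [h5]
      calc ((τ (a x) : ℂˣ) : ℂ) * ((τ x : ℂˣ)⁻¹ : ℂˣ) * η x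
          = ((τ x : ℂˣ)⁻¹ : ℂˣ) * (((τ (a x) : ℂˣ) : ℂ) * η x) := by ring
        _ = ((τ x : ℂˣ)⁻¹ : ℂˣ) * (((τ x : ℂˣ) : ℂ) * η x) := by rw [h4]
        _ = η x := by
          rw [← mul_assoc, ← Units.val_mul, inv_mul_cancel, Units.val_one, one_mul]
    have hw1 := pow_deg_of_tw_eq w ⟨η, hη⟩ hw
    have hw2 : w ^ Mₛ.index = 1 := by
      ext x
      have h2 : x ^ Mₛ.index ∈ Mₛ := Subgroup.pow_index_mem Mₛ x
      show ((w x ^ Mₛ.index : ℂˣ) : ℂ) = 1
      rw [← map_pow]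
      have h3 : w (x ^ Mₛ.index) = 1 := by
        show τ (a (x ^ Mₛ.index)) * (τ (x ^ Mₛ.index))⁻¹ = 1
        rw [hτ _ (show ((a (x ^ Mₛ.index) : A) : G) ∈ B from ha _ h2),
          hτ (x ^ Mₛ.index) (show ((x ^ Mₛ.index : A) : G) ∈ B from h2), inv_one, one_mul]
      rw [h3]
      rfl
    have hcop : (charDegree ((⟨η, hη⟩ : IrrCharacter A) : A → ℂ)).Coprime Mₛ.index := by
      show (charDegree η).Coprime Mₛ.index
      rw [hE, hi]
      exact Nat.Coprime.pow_left _ ((Nat.Prime.coprime_iff_not_dvd ht).mpr hMi)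
    have hw3 := hom_eq_one_of_pow_coprime hcop hw1 hw2
    apply mem_stb_lin_of
    intro n
    have h2 := DFunLike.congr_fun hw3 n
    have h3 : τ (a n) * (τ n)⁻¹ = 1 := h2
    rw [hag]
    exact mul_inv_eq_one.mp h3
  exact (Nat.mul_dvd_mul_right (Subgroup.index_dvd_of_le hstb) _).trans h1

theorem exists_moved [hsol : Group.IsSolvable G] {t q a : ℕ} (ht : t.Prime) (hq : q.Prime) (hqt : q ≠ t)
    {M : Subgroup G} (hU : UMin M) (hMp : IsPGroup t M) (B D : Subgroup G) [hB : B.Normal]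
    [hD : D.Normal] (hBp : IsPGroup t B) (hDq : ∀ x ∈ D, x ^ (q ^ a) ∈ B) (hDB : ¬ D ≤ B) :
    ∃ ν : B →* ℂˣ, ¬ D ≤ stb (lin B ν) := by
  haveI hFt : Fact t.Prime := ⟨ht⟩
  haveI hFq : Fact q.Prime := ⟨hq⟩
  by_contra hno
  push Not at hno
  have h1 := comm_le_of_fix B D hno
  obtain ⟨y, hyD, hyB⟩ := SetLike.not_le_iff_exists.mp hDB
  obtain ⟨b, hb⟩ := IsPGroup.iff_card.mp hBp
  have htb : (y ^ (q ^ a)) ^ (t ^ b) = 1 := by
    have h2 : (⟨y ^ (q ^ a), hDq y hyD⟩ : B) ^ (t ^ b) = 1 := by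
      rw [← hb]
      exact pow_card_eq_one'
    exact congrArg Subtype.val h2
  let x := y ^ (t ^ b)
  have hxD : x ∈ D := D.pow_mem hyD _
  have hxq : x ^ (q ^ a) = 1 := by
    show (y ^ (t ^ b)) ^ (q ^ a) = 1
    rw [← pow_mul, mul_comm, pow_mul]
    exact htb
  have hcop : (q ^ a).Coprime (t ^ b) :=
    Nat.Coprime.pow _ _ ((Nat.coprime_primes hq ht).mpr hqt)
  have hxB : x ∉ B := fun h => hyB (mem_of_pow_cop (hDq y hyD) h hcop)
  -- `x` centralizes `B`
  have hxc : x ∈ Subgroup.centralizer (B : Set G) := by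
    have hle : Subgroup.zpowers x ≤ Subgroup.normalizer (B : Set G) := by
      rw [Subgroup.zpowers_le]
      rw [Subgroup.mem_normalizer_iff]
      intro h
      exact ⟨fun hh => hB.conj_mem h hh x, fun hh => by
        have h2 := hB.conj_mem _ hh x⁻¹
        simpa [mul_assoc] using h2⟩
    have hx1 : x ^ (q ^ a) = 1 := hxq
    have hcopf : (Nat.card (Subgroup.zpowers x)).Coprime (Nat.card (frattini B)) := by
      rw [Nat.card_zpowers]
      have h2 : orderOf x ∣ q ^ a := orderOf_dvd_of_pow_eq_one hx1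
      have h3 : Nat.card (frattini B) ∣ Nat.card B := Subgroup.card_subgroup_dvd_card _
      rw [hb] at h3
      exact Nat.Coprime.coprime_dvd_left h2 (Nat.Coprime.coprime_dvd_right h3 hcop)
    have h2 := Cfsg.Agent.Lib.Glauberman.le_centralizer_of_frattini (A := Subgroup.zpowers x)
      (K := B) hle hcopf (by
      rintro _ ⟨c, rfl⟩ k hk
      have h3 : ∀ c : ℤ, (x ^ c : G) ∈ D := fun c => D.zpow_mem hxD c
      have h4 : ⁅k, x ^ c⁆ ∈ (⁅B, D⁆ : Subgroup G) :=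
        Subgroup.commutator_mem_commutator hk (h3 c)
      have h5 := h1 h4
      have h6 : (⁅B, B⁆ : Subgroup G) ≤ (frattini B).map B.subtype := by
        rw [← map_commutator_subtype]
        exact Subgroup.map_mono (Cfsg.Agent.Lib.Frat.commutator_le_frattini hBp)
      have h7 : ⁅k, x ^ c⁆⁻¹ ∈ (frattini B).map B.subtype := Subgroup.inv_mem _ (h6 h5)
      have h8 : ⁅k, x ^ c⁆⁻¹ = x ^ c * k * (x ^ c)⁻¹ * k⁻¹ := by
        rw [commutatorElement_def]
        group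
      rw [← h8]
      exact h7)
    exact h2 (Subgroup.mem_zpowers x)
  -- the nilpotent normal subgroup
  let F : Subgroup G := D ⊓ Subgroup.centralizer (B : Set G)
  haveI hFn : F.Normal := inferInstance
  have hxF : x ∈ F := ⟨hxD, hxc⟩
  let K : Subgroup F := B.subgroupOf F
  haveI hKn : K.Normal := Subgroup.normal_subgroupOf
  have hKc : (QuotientGroup.mk' K).ker ≤ Subgroup.center F := by
    rw [QuotientGroup.ker_mk']
    intro z hz
    rw [Subgroup.mem_center_iff]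
    intro g
    have h2 := Subgroup.mem_centralizer_iff.mp g.2.2 z hz
    exact Subtype.ext h2.symm
  have hqF : IsPGroup q (F ⧸ K) := by
    intro z
    induction z using QuotientGroup.induction_on with
    | H z =>
      refine ⟨a, ?_⟩
      rw [← QuotientGroup.mk_pow, QuotientGroup.eq_one_iff]
      exact hDq z z.2.1
  haveI hnilq : Group.IsNilpotent (F ⧸ K) := hqF.isNilpotent
  have hnil : Group.IsNilpotent F := Subgroup.isNilpotent_of_ker_le_center _ hKc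
  have hFp := pgroup_of_nilpotent_normal hU ht hMp F hnil
  obtain ⟨c, hc⟩ := hFp ⟨x, hxF⟩
  have hc' : x ^ (t ^ c) = 1 := congrArg Subtype.val hc
  have hx1 : x = 1 := Cfsg.Agent.Lib.RelDeg.eq_one_of_pow_coprime
    (Nat.Coprime.pow _ _ ((Nat.coprime_primes hq ht).mpr hqt)) hxq hc'
  exact hxB (hx1 ▸ B.one_mem)

theorem deg_mul_of_over (L : Subgroup G) [hL : L.Normal] (χ : IrrCharacter G) (ξ : IrrCharacter L)
    (h : Over L χ ξ) : ∃ w, charDegree (χ : G → ℂ) = charDegree (ξ : L → ℂ) * w ∧ w ∣ L.index := by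
  obtain ⟨h1, h2⟩ := Cfsg.Agent.Lib.DegreeDiv.degree_div L χ.2 ξ.2 h
    (one_eq_charDegree (IsIrrCharacter.isCharacter χ.2))
    (one_eq_charDegree (IsIrrCharacter.isCharacter ξ.2))
  exact ⟨_, (Nat.mul_div_cancel' h1).symm, h2⟩

theorem exists_low_data [hsol : Group.IsSolvable G] {m n t q a : ℕ} (hlt : m < n) (ht : t.Prime)
    (hq : q.Prime) (hqt : q ≠ t) {M : Subgroup G} (hU : UMin M) (hMp : IsPGroup t M)
    (A B D : Subgroup G) [hA : A.Normal] [hB : B.Normal] [hD : D.Normal] (hBp : IsPGroup t B)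
    (hDA : D ≤ A) (hBA : B ≤ A) (hDq : ∀ x ∈ D, x ^ (q ^ a) ∈ B) (hDB : ¬ D ≤ B)
    (hAd : ∀ χ : IrrCharacter G, NT A χ → charDegree (χ : G → ℂ) = m ∨ charDegree (χ : G → ℂ) = n) :
    ∃ β, q ^ β ∣ n ∧ ¬ q ^ β ∣ m ∧ ∃ χ' : IrrCharacter G,
      (∀ c ∈ B, (χ' : G → ℂ) c = (χ' : G → ℂ) 1) ∧ NT D χ' ∧ charDegree (χ' : G → ℂ) = m := by
  have hmin : ∀ β : IrrCharacter G, NT A β → m ≤ charDegree (β : G → ℂ) := by
    intro β h
    rcases hAd β h with h1 | h1 <;> omega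
  obtain ⟨ν₀, hν₀⟩ := exists_moved ht hq hqt hU hMp B D hBp hDq hDB
  have hTn : (stb (lin B ν₀)).index ∣ n := by
    obtain ⟨γ, hγ⟩ := exists_over_irr (lin B ν₀)
    have h1 := degree_over hγ
    have h2 : ∃ x, (lin B ν₀ : B → ℂ) x ≠ (lin B ν₀ : B → ℂ) 1 := by
      by_contra hno
      push Not at hno
      apply hν₀
      have h3 : ν₀ = 1 := by
        ext x
        have h4 := hno x
        simpa [lin_apply] using h4
      rw [h3]
      intro x _
      rw [stb_mem']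
      intro k
      simp [lin_apply]
    have h3 := NT_of_over hγ h2
    rcases hAd γ (h3.mono hBA) with h4 | h4
    · exact absurd ((le_stb_of_min A B hmin h4 hγ)) (fun h5 => hν₀ (hDA.trans h5))
    · rw [h4] at h1
      exact (dvd_mul_right _ _).trans h1
  obtain ⟨β, hβT, χ', hχ'B, hχ'D, hχ'β⟩ := exists_low_quot hq (stb (lin B ν₀)) D B B (le_stb _)
    (fun x hx => ⟨a, hDq x hx⟩) hν₀ (fun x hx k _ => le_stb _ hx)
  have hbn := hβT.trans hTn
  have hdeg : charDegree (χ' : G → ℂ) = m := by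
    rcases hAd χ' (hχ'D.mono hDA) with h | h
    · exact h
    · exact absurd (h ▸ hbn) hχ'β
  exact ⟨β, hbn, hdeg ▸ hχ'β, χ', hχ'B, hχ'D, hdeg⟩

theorem no_low_prime {m n t q a E : ℕ} (hlt : m < n) (ht : t.Prime) (hq : q.Prime)
    (A B D : Subgroup G) [hA : A.Normal] [hB : B.Normal] [hD : D.Normal] (hDA : D ≤ A)
    (hA₁B : (⁅A, A⁆ : Subgroup G) ≤ B) (hDq : ∀ x ∈ D, x ^ (q ^ a) ∈ B)
    (hAd : ∀ χ : IrrCharacter G, NT A χ → charDegree (χ : G → ℂ) = m ∨ charDegree (χ : G → ℂ) = n)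
    (hEt : t ∣ E) (hE : ∀ τ : A →* ℂˣ, (∀ x : A, (x : G) ∈ B → τ x = 1) →
      (stb (lin A τ)).index * E ∣ m)
    (hqm : ¬ q ∣ m) (χ' : IrrCharacter G) (hχ'B : ∀ c ∈ B, (χ' : G → ℂ) c = (χ' : G → ℂ) 1)
    (hχ'D : NT D χ') (hdeg : charDegree (χ' : G → ℂ) = m) : False := by
  have hχ'c := IsIrrCharacter.isCharacter χ'.2
  obtain ⟨y, hyD, hy⟩ := hχ'D
  obtain ⟨i, hi, hi1⟩ := constituent_ne A hχ'c (hDA hyD) hy
  have iB : ∀ c : A, (c : G) ∈ B → (i : A → ℂ) c = (i : A → ℂ) 1 := fun c hc =>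
    ker_of_over A hχ'c i.2 hi (hχ'B _ hc)
  have ilin : charDegree (i : A → ℂ) = 1 := by
    apply linear_of_comm_ker i
    intro x hx
    apply iB
    apply hA₁B
    rw [← map_commutator_subtype]
    exact ⟨x, hx, rfl⟩
  obtain ⟨τ, hτ⟩ := exists_eq_lin ilin
  subst hτ
  have hτB : ∀ x : A, (x : G) ∈ B → τ x = 1 := by
    intro x hx
    have h1 := iB x hx
    apply Units.ext
    simpa [lin_apply] using h1
  set T := stb (lin A τ) with hT
  obtain ⟨ψ₁, hψ₁, hind, hmult⟩ := exists_inertia_char A T (lin A τ).2 (stb_mem' _) (le_stb _) χ'.2 hi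
  have hψ₁c := IsIrrCharacter.isCharacter hψ₁
  have hover : classInner (fun n : A => ψ₁ ⟨(n : G), le_stb (lin A τ) n.2⟩)
      (lin A τ : A → ℂ) ≠ 0 := by
    rw [hmult]
    exact hi
  obtain ⟨e, he0, hres, -⟩ := restrict_inertia_eq_smul A T (lin A τ).2 (stb_mem' _) (le_stb _) hψ₁ hover
  have hψ₁d : charDegree ψ₁ = e := by
    apply charDegree_of_one
    have h1 := congrFun hres 1
    have h2 : ψ₁ ⟨((1 : A) : G), le_stb (lin A τ) (1 : A).2⟩ = ψ₁ 1 := rfl
    rw [h2] at h1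
    rw [h1]
    simp [lin_apply]
  have hdegχ : m = T.index * e := by
    rw [← hdeg, ← hψ₁d]
    apply charDegree_of_one
    rw [← hind, indFun_one, one_eq_charDegree hψ₁c]
    push_cast
    rfl
  have hT0 : 0 < T.index := Nat.pos_of_ne_zero Subgroup.index_ne_zero_of_finite
  have hEe : E ∣ e := by
    have h1 := hE τ hτB
    rw [hdegχ] at h1
    exact Nat.dvd_of_mul_dvd_mul_left hT0 h1
  have hte := hEt.trans hEe
  have he1 : e ≠ 1 := by
    rintro rfl
    exact ht.one_lt.ne' (Nat.dvd_one.mp hte)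
  have hTm : T.index < m := by
    rw [hdegχ]
    have h2 : 2 ≤ e := by omega
    nlinarith
  have hqe : ¬ q ∣ e := fun h => hqm (by rw [hdegχ]; exact h.mul_left _)
  obtain ⟨D₁, hD₁⟩ := Cfsg.Agent.Lib.DetChar.exists_detHom hψ₁c
  have hD₁A : ∀ x : A, ((D₁ ⟨x, le_stb (lin A τ) x.2⟩ : ℂˣ) : ℂ) = ((τ x : ℂˣ) : ℂ) ^ e := by
    intro x
    rw [← hD₁]
    have h1 := Cfsg.Agent.Lib.DetChar.detChar_comp (Subgroup.inclusion (le_stb (lin A τ))) hψ₁c x
    have h2 : ψ₁ ∘ (Subgroup.inclusion (le_stb (lin A τ))) = e • (lin A τ : A → ℂ) := by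
      funext k
      have h3 := congrFun hres k
      rw [Pi.smul_apply, smul_eq_mul] at h3
      rw [Pi.smul_apply, nsmul_eq_mul]
      exact h3
    rw [h2, detChar_nsmul (IsIrrCharacter.isCharacter (lin A τ).2), detChar_lin] at h1
    exact h1.symm
  obtain ⟨a', ha'⟩ := Nat.exists_mul_mod_eq_one_of_coprime
    (n := e) (k := q ^ (a + 1))
    (Nat.Coprime.pow_right _ ((Nat.Prime.coprime_iff_not_dvd hq).mpr hqe).symm)
    (Nat.one_lt_pow (by omega) hq.one_lt)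
  let μ : T →* ℂˣ := D₁ ^ a'
  have hτy : τ ⟨y, hDA hyD⟩ ^ (q ^ (a + 1)) = 1 := by
    have h1 : τ ⟨y, hDA hyD⟩ ^ (q ^ a) = 1 := by
      rw [← map_pow]
      exact hτB _ (hDq y hyD)
    rw [pow_succ, pow_mul, h1, one_pow]
  have hμy : μ ⟨y, le_stb (lin A τ) (hDA hyD)⟩ = τ ⟨y, hDA hyD⟩ := by
    apply Units.ext
    show ((D₁ ⟨y, _⟩ ^ a' : ℂˣ) : ℂ) = _
    rw [Units.val_pow_eq_pow_val]
    have h1 := hD₁A ⟨y, hDA hyD⟩
    rw [h1, ← pow_mul]
    have h2 : e * a' = q ^ (a + 1) * (e * a' / q ^ (a + 1)) + 1 := by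
      have h3 := Nat.div_add_mod (e * a') (q ^ (a + 1))
      rw [ha'.2] at h3
      exact h3.symm
    rw [h2, pow_add, pow_mul, ← Units.val_pow_eq_pow_val, hτy]
    simp
  obtain ⟨κ, hκ, -⟩ := exists_low T (isIrrCharacter_of_hom μ) (b := 0) (by
    rw [charDegree_hom, mul_one]
    intro h
    exact hT0.ne' (Nat.eq_zero_of_zero_dvd h))
  have hκd := deg_le_of_over T (isIrrCharacter_of_hom μ) hκ
  rw [charDegree_hom, mul_one] at hκd
  have hκNT : NT D κ := by
    refine ⟨y, hyD, fun h => hi1 ?_⟩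
    have h1 := ker_of_over T (IsIrrCharacter.isCharacter κ.2) (isIrrCharacter_of_hom μ) hκ
      (x := ⟨y, le_stb (lin A τ) (hDA hyD)⟩) h
    rw [hμy] at h1
    rw [lin_apply, h1]
    simp [lin_apply]
  rcases hAd κ (hκNT.mono hDA) with h | h <;> omega

theorem eq_one_of_thompson {m n q r a : ℕ} (hq : q.Prime) (hr : r.Prime) (hqr : q ≠ r)
    (L : Subgroup G) [hL : L.Normal]
    (hnl : ∀ θ : IrrCharacter L, charDegree (θ : L → ℂ) ≠ 1 → r ∣ charDegree (θ : L → ℂ))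
    (hrdeg : ∀ χ : IrrCharacter G, r ∣ charDegree (χ : G → ℂ) →
      charDegree (χ : G → ℂ) = m ∨ charDegree (χ : G → ℂ) = n)
    (hqf : ¬ q ∣ L.index) (hqm : q ∣ m) (hqn : q ∣ n) {x : G} (hxL : x ∈ (⁅L, L⁆ : Subgroup G))
    (hx : x ^ (q ^ a) = 1) : x = 1 := by
  have hnlq : ∀ θ : IrrCharacter L, charDegree (θ : L → ℂ) ≠ 1 → q ∣ charDegree (θ : L → ℂ) := by
    intro ξ hξ
    have h1 := hnl ξ hξ
    obtain ⟨χ, hχ⟩ := exists_over_irr ξ
    obtain ⟨w, hw, hwd⟩ := deg_mul_of_over L χ ξ hχ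
    have h2 : r ∣ charDegree (χ : G → ℂ) := by
      rw [hw]
      exact h1.mul_right _
    have h3 : q ∣ charDegree (χ : G → ℂ) := by
      rcases hrdeg χ h2 with h4 | h4 <;> rw [h4] <;> assumption
    rw [hw] at h3
    rcases hq.dvd_mul.mp h3 with h4 | h4
    · exact h4
    · exact absurd (h4.trans hwd) hqf
  obtain ⟨N, hN, hNc, k, hNi⟩ := Cfsg.Agent.S4456.result q hq hnlq
  haveI := hN
  let π : L →* L ⧸ N := QuotientGroup.mk' N
  have hπ : Function.Surjective π := QuotientGroup.mk'_surjective N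
  have hab : derivedSeries (L ⧸ N) 1 = ⊥ := by
    apply abelian_of_all_linear
    intro χ
    by_contra hne
    have h1 := hnl (infl π hπ χ) (by rw [infl_deg]; exact hne)
    rw [infl_deg] at h1
    have h2 := charDegree_dvd_card χ.2
    have h3 : Nat.card (L ⧸ N) = q ^ k := by
      rw [← Subgroup.index_eq_card, hNi]
    rw [h3] at h2
    have h4 := (Nat.prime_dvd_prime_iff_eq hr hq).mp (hr.dvd_of_dvd_pow (h1.trans h2))
    exact hqr h4.symm
  rw [derivedSeries_one] at hab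
  have hle : commutator L ≤ N := by
    intro g hg
    have h1 : π g ∈ commutator (L ⧸ N) := by
      have h2 : (commutator L).map π ≤ commutator (L ⧸ N) := by
        rw [commutator_def, commutator_def, Subgroup.map_commutator]
        exact Subgroup.commutator_mono le_top le_top
      exact h2 ⟨g, hg, rfl⟩
    rw [hab, Subgroup.mem_bot] at h1
    exact (QuotientGroup.eq_one_iff g).mp h1
  rw [← map_commutator_subtype] at hxL
  obtain ⟨w, hw, rfl⟩ := hxL
  have h1 : (⟨w, hle hw⟩ : N) ^ Nat.card N = 1 := pow_card_eq_one'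
  have h2 : (w : G) ^ Nat.card N = 1 := congrArg (fun u : N => ((u : L) : G)) h1
  exact Cfsg.Agent.Lib.RelDeg.eq_one_of_pow_coprime
    (Nat.Coprime.pow_left _ hNc.symm) hx h2

theorem not_all_n [hsol : Group.IsSolvable G] {m n t : ℕ} (hlt : m < n) (ht : t.Prime)
    (A B : Subgroup G) [hA : A.Normal] [hB : B.Normal] (hBA : B ≤ A) (hBp : IsPGroup t B)
    (hBi : ¬ t ∣ B.relIndex A) (hA₁B : (⁅A, A⁆ : Subgroup G) ≤ B)
    (hM : (⁅(⁅A, A⁆ : Subgroup G), (⁅A, A⁆ : Subgroup G)⁆ : Subgroup G) ≠ ⊥)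
    (hAd : ∀ χ : IrrCharacter G, NT A χ → charDegree (χ : G → ℂ) = m ∨ charDegree (χ : G → ℂ) = n)
    (hBn : ∀ χ : IrrCharacter G, NT (⁅B, B⁆ : Subgroup G) χ → charDegree (χ : G → ℂ) = n) :
    False := by
  haveI hFt : Fact t.Prime := ⟨ht⟩
  have hmin : ∀ β : IrrCharacter G, NT A β → m ≤ charDegree (β : G → ℂ) := by
    intro β h
    rcases hAd β h with h1 | h1 <;> omega
  have hA₁A : (⁅A, A⁆ : Subgroup G) ≤ A := Subgroup.commutator_le_left _ _
  apply hM
  haveI : (⁅A, A⁆ : Subgroup G).Normal := Subgroup.commutator_normal _ _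
  apply comm_of_one_deg _ n
  intro χ hχ
  rcases hAd χ (hχ.mono hA₁A) with h | h
  · exfalso
    have hχc := IsIrrCharacter.isCharacter χ.2
    have hnot : ∀ x ∈ (⁅B, B⁆ : Subgroup G), (χ : G → ℂ) x = (χ : G → ℂ) 1 := by
      intro x hx
      by_contra hne
      have h1 := hBn χ ⟨x, hx, hne⟩
      omega
    obtain ⟨y, hy, hy1⟩ := hχ
    obtain ⟨ν, hν, hν1⟩ := constituent_ne B hχc (hA₁B hy) hy1
    have hνlin : charDegree (ν : B → ℂ) = 1 := by
      apply linear_of_comm_ker ν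
      intro x hx
      apply ker_of_over B hχc ν.2 hν
      apply hnot
      rw [← map_commutator_subtype]
      exact ⟨x, hx, rfl⟩
    obtain ⟨ν₁, hν₁⟩ := exists_eq_lin hνlin
    have hfix : A ≤ stb ν := le_stb_of_min A B hmin h hν
    rw [hν₁] at hfix
    obtain ⟨c, hc⟩ := IsPGroup.iff_card.mp hBp
    obtain ⟨μ, hμ⟩ := exists_ext_cop B A hBA ν₁ hfix (o := Nat.card B)
      (fun x => by rw [← map_pow, pow_card_eq_one', map_one]) Nat.card_pos.ne' (by
      rw [hc]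
      exact Nat.Coprime.pow_right _ ((Nat.Prime.coprime_iff_not_dvd ht).mpr hBi).symm)
    have h1 := Cfsg.Agent.Lib.PalfyE.hom_comm_eq_one A μ hy (hA₁A hy)
    have h2 := hμ ⟨y, hA₁B hy⟩
    rw [h1] at h2
    apply hν1
    rw [hν₁, lin_apply, lin_apply, ← h2]
    simp
  · exact h

end Eta

end Cfsg.Agent.Lib.GarrF
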