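import Mathlib
import Cfsg.Agent.Lib.GarrF

/-!
# Garrison's theorem: case (a)
-/

set_option autoImplicit false
set_option linter.style.haveILetI false
set_option linter.unusedVariables false
set_option linter.unusedSectionVars false

namespace Cfsg.Agent.Lib.GarrG

open Cfsg Cfsg.Agent.Lib.CharBasic Cfsg.Agent.Lib.CharInd Cfsg.Agent.Lib.CharKernel
open Cfsg.Agent.Lib.Clifford Cfsg.Agent.Lib.CliffDvd Cfsg.Agent.Lib.TwoDeg
open Cfsg.Agent.Lib.ThreeDeg31 Cfsg.Agent.Lib.RealOdd Cfsg.Agent.Lib.GarrA Cfsg.Agent.Lib.GarrB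
open Cfsg.Agent.Lib.GarrC Cfsg.Agent.Lib.RelDeg Cfsg.Agent.Lib.GarrD Cfsg.Agent.Lib.GarrE
open Cfsg.Agent.Lib.GarrF
open scoped ComplexConjugate commutatorElement

universe u

attribute [local instance] Fintype.ofFinite

section Final

variable {G : Type u} [Group G] [Finite G]

/-- Degrees of characters of `L` trivial on the normal complement divide `m`. -/
theorem deg_dvd_of_ker {m k : ℕ} {r : ℕ} (hr : r.Prime) (L : Subgroup G) [hL : L.Normal]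
    (Y₀ : Subgroup L) [hY₀ : Y₀.Normal] (hYc : (Nat.card Y₀).Coprime r) (hYi : Y₀.index = r ^ k)
    (y₀ : Y₀) (hy₀ : y₀ ≠ 1)
    (hm : ∀ χ : IrrCharacter G, (χ : G → ℂ) ((y₀ : L) : G) ≠ (χ : G → ℂ) 1 →
      charDegree (χ : G → ℂ) = m)
    (ξ : IrrCharacter L) (hξ : ∀ y : Y₀, (ξ : L → ℂ) y = (ξ : L → ℂ) 1) :
    charDegree (ξ : L → ℂ) ∣ m := by
  haveI hFr : Fact r.Prime := ⟨hr⟩
  obtain ⟨R₁, ρ, hρ1, hρ2, hR₁p, hdec, hcard⟩ := exists_complement_data Y₀ hr hYc hYi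
  have hRet : Cfsg.Agent.Lib.PalfyD.Ret ρ R₁.subtype Y₀ := ⟨hρ1, hρ2⟩
  obtain ⟨ω, hω⟩ := exists_irr_ne hy₀
  have hcopY : (Nat.card Y₀).Coprime (Nat.card R₁) := by
    rw [hcard]
    exact Nat.Coprime.pow_right _ hYc
  have hkey1 : ∀ β₁ : IrrCharacter (Cfsg.Agent.Lib.PalfyD.stabT ρ R₁.subtype Y₀ (ω : Y₀ → ℂ)),
      (Cfsg.Agent.Lib.PalfyD.stabT ρ R₁.subtype Y₀ (ω : Y₀ → ℂ)).index *
        charDegree β₁.1 ∣ m := by
    intro β₁
    obtain ⟨χL, hχL, hχL2⟩ := hRet.exists_irr_cop hcopY ω.2 β₁.2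
    obtain ⟨χ, hχ⟩ := exists_over_irr χL
    have h1 : charDegree (χ : G → ℂ) = m := by
      apply hm
      intro h
      apply hω
      have h2 := ker_of_over L (IsIrrCharacter.isCharacter χ.2) χL.2 hχ (x := (y₀ : L)) h
      exact ker_of_over Y₀ (IsIrrCharacter.isCharacter χL.2) ω.2 hχL2 h2
    obtain ⟨w, hw, -⟩ := deg_mul_of_over L χ χL hχ
    rw [h1] at hw
    rw [hw, hχL]
    exact (dvd_mul_right _ _).trans (dvd_mul_right _ _)
  have hξc := IsIrrCharacter.isCharacter ξ.2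
  let β : R₁ → ℂ := fun x => (ξ : L → ℂ) x
  have hβc : IsCharacter R₁ β := isCharacter_restrict R₁ hξc
  have hρs : Function.Surjective ρ := fun x => ⟨x, hρ1 x⟩
  obtain ⟨ξ', hξ', hξ'2⟩ := exists_quotient_irr Y₀ ξ.2 (fun y hy => hξ ⟨y, hy⟩)
  have hξρ : ∀ g : L, (ξ : L → ℂ) g = β (ρ g) := by
    intro g
    obtain ⟨c, hc, x, hx, rfl⟩ := hdec g
    have h1 : ρ (c * x) = ⟨x, hx⟩ := by
      rw [map_mul, (hρ2 c).mpr hc, one_mul]
      exact hρ1 ⟨x, hx⟩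
    rw [h1]
    show (ξ : L → ℂ) (c * x) = (ξ : L → ℂ) x
    rw [← hξ'2, ← hξ'2]
    congr 1
    rw [QuotientGroup.mk_mul, (QuotientGroup.eq_one_iff c).mpr hc, one_mul]
  have hβ : IsIrrCharacter R₁ β := by
    apply isIrrCharacter_of_norm_one hβc
    have h1 := Cfsg.Agent.Lib.GlaubSyl1.classInner_infl ρ hρs β β
    have h2 : (fun i => β (ρ i)) = (ξ : L → ℂ) := funext fun i => (hξρ i).symm
    rw [← h1, h2, classInner_irr_self ξ.2]
  have hβd : charDegree β = charDegree (ξ : L → ℂ) := by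
    apply charDegree_of_one
    show (ξ : L → ℂ) 1 = _
    exact one_eq_charDegree hξc
  set H := Cfsg.Agent.Lib.PalfyD.stabT ρ R₁.subtype Y₀ (ω : Y₀ → ℂ) with hH
  have hβ0 : ¬ (0 : ℕ) ∣ charDegree (fun x : H => β x) := by
    intro h
    have h1 := Nat.eq_zero_of_zero_dvd h
    have h2 : charDegree (fun x : H => β x) = charDegree β :=
      charDegree_of_one (by
        show β 1 = _
        exact one_eq_charDegree hβc)
    rw [h2] at h1
    exact charDegree_ne_zero hβ h1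
  obtain ⟨i, hi, -⟩ := exists_dvd_constituent (isCharacter_restrict H hβc) hβ0
  have hle := deg_le_of_over H (κ := ⟨β, hβ⟩) i.2 hi
  obtain ⟨a₁, ha₁⟩ := deg_pow_of_pgroup hr hR₁p ⟨β, hβ⟩
  obtain ⟨a₃, ha₃⟩ := deg_pow_of_pgroup hr (hR₁p.to_subgroup H) i
  have hidx : H.index ∣ r ^ k := by
    rw [← hcard]
    exact Subgroup.index_dvd_card H
  obtain ⟨a₂, -, ha₂⟩ := (Nat.dvd_prime_pow hr).mp hidx
  have hkey := hkey1 i
  rw [← hβd]
  show charDegree ((⟨β, hβ⟩ : IrrCharacter R₁) : R₁ → ℂ) ∣ m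
  rw [ha₁] at hle ⊢
  rw [ha₂, ha₃, ← pow_add] at hle
  have h1 : a₁ ≤ a₂ + a₃ := (Nat.pow_le_pow_iff_right hr.one_lt).mp hle
  refine (pow_dvd_pow r h1).trans ?_
  rw [pow_add, ← ha₂, ← ha₃]
  exact hkey

/-- The final contradiction of case (a). -/
theorem final_step {m n t r k w β E : ℕ} (ht : t.Prime) (hr : r.Prime) (htr : t ≠ r)
    (A B L : Subgroup G) [hA : A.Normal] [hB : B.Normal] [hL : L.Normal] (Y₀ : Subgroup L)
    [hY₀ : Y₀.Normal] (hAL : A ≤ L) (hBA : B ≤ A) (hA₁B : (⁅A, A⁆ : Subgroup G) ≤ B)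
    (hBp : IsPGroup t B) (hne : (⁅B, B⁆ : Subgroup G) ≠ ⊥)
    (hYc : (Nat.card Y₀).Coprime r) (hYi : Y₀.index = r ^ k)
    (hAr : ∀ x ∈ A, x ^ (r ^ w) ∈ B) (hAB : ¬ A ≤ B) (hrf : ¬ r ∣ L.index)
    (hAd : ∀ χ : IrrCharacter G, NT A χ → charDegree (χ : G → ℂ) = m ∨ charDegree (χ : G → ℂ) = n)
    (hB'm : ∀ χ : IrrCharacter G, NT (⁅B, B⁆ : Subgroup G) χ → charDegree (χ : G → ℂ) = m)
    (hEt : t ∣ E) (hE : ∀ τ : A →* ℂˣ, (∀ x : A, (x : G) ∈ B → τ x = 1) →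
      (stb (lin A τ)).index * E ∣ m)
    (hbn : r ^ β ∣ n) (hbm : ¬ r ^ β ∣ m) : False := by
  haveI hFt : Fact t.Prime := ⟨ht⟩
  haveI hFr : Fact r.Prime := ⟨hr⟩
  have hpowY : ∀ z : L, z ^ (r ^ k) ∈ Y₀ := fun z => by
    rw [← hYi]
    exact Subgroup.pow_index_mem Y₀ z
  have hYmem : ∀ (z : L) (s : ℕ), s.Coprime r → z ^ s = 1 → z ∈ Y₀ := fun z s hs h =>
    mem_of_pow_cop (a := s) (b := r ^ k) (by rw [h]; exact Y₀.one_mem) (hpowY z)
      (Nat.Coprime.pow_right _ hs)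
  have hcardY : ∀ y : Y₀, ((y : L) : G) ^ Nat.card Y₀ = 1 := fun y => by
    have h1 : y ^ Nat.card Y₀ = 1 := pow_card_eq_one'
    exact congrArg (fun u : Y₀ => ((u : L) : G)) h1
  let Y : Subgroup G := Y₀.map L.subtype
  haveI hYn : Y.Normal := ⟨by
    rintro _ ⟨y, hy, rfl⟩ g
    have h1 : g * (y : G) * g⁻¹ ∈ L := hL.conj_mem _ y.2 g
    refine ⟨⟨_, h1⟩, ?_, rfl⟩
    apply hYmem _ (Nat.card Y₀) hYc
    apply Subtype.ext
    show (g * (y : G) * g⁻¹) ^ Nat.card Y₀ = 1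
    rw [conj_pow]
    have h2 := hcardY ⟨y, hy⟩
    have h3 : (y : G) ^ Nat.card Y₀ = 1 := h2
    rw [h3]
    group⟩
  have hBY : B ≤ Y := by
    intro b hb
    refine ⟨⟨b, hAL (hBA hb)⟩, ?_, rfl⟩
    obtain ⟨c, hc⟩ := hBp ⟨b, hb⟩
    apply hYmem _ (t ^ c) (Nat.Coprime.pow_left _ ((Nat.coprime_primes ht hr).mpr htr))
    apply Subtype.ext
    have h5 : b ^ (t ^ c) = 1 := congrArg Subtype.val hc
    exact h5
  -- the element `y₀`
  obtain ⟨x₀, hx₀, hx₀1⟩ := exists_ne_one_of_ne_bot hne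
  have hx₀B : x₀ ∈ B := Subgroup.commutator_le_left B B hx₀
  let z₀ : L := ⟨x₀, hAL (hBA hx₀B)⟩
  have hz₀ : z₀ ∈ Y₀ := by
    obtain ⟨u, hu, huz⟩ := hBY hx₀B
    have h1 : u = z₀ := Subtype.ext huz
    rwa [← h1]
  let y₀ : Y₀ := ⟨z₀, hz₀⟩
  have hy₀ : y₀ ≠ 1 := by
    intro h
    apply hx₀1
    exact congrArg (fun u : Y₀ => ((u : L) : G)) h
  have hkey := deg_dvd_of_ker (m := m) hr L Y₀ hYc hYi y₀ hy₀
    (fun χ h => hB'm χ ⟨x₀, hx₀, h⟩)
  -- the subgroup `A₂`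
  let πY : G →* G ⧸ Y := QuotientGroup.mk' Y
  have hπYs : Function.Surjective πY := QuotientGroup.mk'_surjective Y
  have hπY : ∀ x, πY x = 1 ↔ x ∈ Y := fun x => QuotientGroup.eq_one_iff x
  let A₂ : Subgroup G := (A.map πY).comap πY
  haveI hA₂n : A₂.Normal := Subgroup.Normal.comap (Subgroup.Normal.map hA πY hπYs) πY
  have hAA₂ : A ≤ A₂ := fun x hx => ⟨x, hx, rfl⟩
  have hYA₂ : Y ≤ A₂ := by
    intro x hx
    show πY x ∈ A.map πY
    rw [(hπY x).mpr hx]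
    exact Subgroup.one_mem _
  have hA₂A₂ : (⁅A₂, A₂⁆ : Subgroup G) ≤ Y := by
    rw [Subgroup.commutator_le]
    rintro x ⟨a, ha, hax⟩ y ⟨b, hb, hby⟩
    rw [← hπY, map_commutatorElement, ← hax, ← hby, ← map_commutatorElement, hπY]
    exact hBY (hA₁B (Subgroup.commutator_mem_commutator ha hb))
  obtain ⟨x₁, hx₁A, hx₁B⟩ := SetLike.not_le_iff_exists.mp hAB
  have hx₁Y : x₁ ∉ Y := by
    rintro ⟨z, hz, hzx⟩
    have h1 : x₁ ^ Nat.card Y₀ = 1 := by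
      rw [← hzx]
      exact hcardY ⟨z, hz⟩
    exact hx₁B (mem_of_pow_cop (hAr x₁ hx₁A) (by rw [h1]; exact B.one_mem)
      (Nat.Coprime.pow_left _ hYc.symm))
  obtain ⟨l, hl1, hl2⟩ := exists_lin_ne A₂ Y hA₂A₂ (hAA₂ hx₁A) hx₁Y
  let τ : A →* ℂˣ := l.comp (Subgroup.inclusion hAA₂)
  have hτB : ∀ x : A, (x : G) ∈ B → τ x = 1 := fun x hx => hl2 _ (hBY hx)
  have hτE := hE τ hτB
  set T₂ : Subgroup G := stb (lin A₂ l) with hT₂
  have hstb : stb (lin A τ) ≤ T₂ := by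
    intro g hg
    apply mem_stb_lin_of
    intro n
    obtain ⟨a, ha, han⟩ := n.2
    have hc : a⁻¹ * (n : G) ∈ Y := by
      rw [← hπY, map_mul, map_inv, ← han, inv_mul_cancel]
    have h1 : l n = l ⟨a, hAA₂ ha⟩ := by
      have h2 : n = ⟨a, hAA₂ ha⟩ * ⟨a⁻¹ * (n : G), hYA₂ hc⟩ :=
        Subtype.ext (by show (n : G) = a * (a⁻¹ * (n : G)); group)
      conv_lhs => rw [h2]
      rw [map_mul, hl2 ⟨a⁻¹ * (n : G), hYA₂ hc⟩ hc, mul_one]
    have hc' : g * (a⁻¹ * (n : G)) * g⁻¹ ∈ Y := hYn.conj_mem _ hc g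
    have h3 : l ⟨g * n * g⁻¹, hA₂n.conj_mem _ n.2 g⟩ =
        l ⟨g * a * g⁻¹, hAA₂ (hA.conj_mem a ha g)⟩ := by
      have h2 : (⟨g * n * g⁻¹, hA₂n.conj_mem _ n.2 g⟩ : A₂) =
          ⟨g * a * g⁻¹, hAA₂ (hA.conj_mem a ha g)⟩ * ⟨g * (a⁻¹ * (n : G)) * g⁻¹, hYA₂ hc'⟩ :=
        Subtype.ext (by
          show g * (n : G) * g⁻¹ = g * a * g⁻¹ * (g * (a⁻¹ * (n : G)) * g⁻¹)
          group)
      rw [h2, map_mul, hl2 ⟨g * (a⁻¹ * (n : G)) * g⁻¹, hYA₂ hc'⟩ hc', mul_one]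
    rw [h1, h3]
    exact stb_lin_apply hg ⟨a, ha⟩
  have hT₂E : T₂.index * E ∣ m :=
    (Nat.mul_dvd_mul_right (Subgroup.index_dvd_of_le hstb) _).trans hτE
  have ho : ∀ x : A₂, l x ^ (r ^ w) = 1 := by
    intro x
    rw [← map_pow]
    apply hl2
    obtain ⟨a, ha, hax⟩ := x.2
    show ((x : G) ^ (r ^ w)) ∈ Y
    rw [← hπY, map_pow, ← hax, ← map_pow, hπY]
    exact hBY (hAr a ha)
  obtain ⟨S₀⟩ : Nonempty (Sylow t T₂) := inferInstance
  let S : Subgroup G := (S₀ : Subgroup T₂).map T₂.subtype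
  have hST : S ≤ T₂ := Subgroup.map_subtype_le _
  have hSp : IsPGroup t S := S₀.isPGroup'.map _
  set U : Subgroup G := A₂ ⊔ S with hU
  obtain ⟨μ, hμ⟩ : ∃ μ : U →* ℂˣ, ∀ x : A₂, μ ⟨x, (le_sup_left : A₂ ≤ U) x.2⟩ = l x :=
    exists_ext_sup ht A₂ S l hST hSp ho (pow_ne_zero _ hr.ne_zero)
      (Nat.Coprime.pow_left _ ((Nat.coprime_primes hr ht).mpr htr.symm))
  have hUT : U ≤ T₂ := sup_le (le_stb _) hST
  have hcU : ¬ t ∣ U.relIndex T₂ := by
    have h1 : S.relIndex T₂ = (S₀ : Subgroup T₂).index := by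
      rw [Subgroup.relIndex]
      congr 1
      exact Subgroup.comap_map_eq_self_of_injective T₂.subtype_injective _
    have h2 : U.relIndex T₂ ∣ S.relIndex T₂ := Subgroup.relIndex_dvd_of_le_left T₂ le_sup_right
    intro h3
    rw [h1] at h2
    exact S₀.not_dvd_index (h3.trans h2)
  have hT0 : T₂.index ≠ 0 := Subgroup.index_ne_zero_of_finite
  set v := T₂.index.factorization t with hv
  have hvn : ¬ t ^ (v + 1) ∣ T₂.index := Nat.pow_succ_factorization_not_dvd hT0 ht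
  have hvd : t ^ v ∣ T₂.index := Nat.ordProj_dvd _ _
  have hUidx : U.relIndex T₂ * T₂.index = U.index := Subgroup.relIndex_mul_index hUT
  have hb : ¬ t ^ (v + 1) ∣ U.index * charDegree (fun z => ((μ z : ℂˣ) : ℂ)) := by
    rw [charDegree_hom, mul_one, ← hUidx]
    intro h
    have h2 : (t ^ (v + 1)).Coprime (U.relIndex T₂) :=
      Nat.Coprime.pow_left _ ((Nat.Prime.coprime_iff_not_dvd ht).mpr hcU)
    exact hvn (h2.dvd_of_dvd_mul_left h)
  obtain ⟨χ, hχ1, hχ2⟩ := exists_low U (isIrrCharacter_of_hom μ) hb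
  have hχc := IsIrrCharacter.isCharacter χ.2
  have hov : classInner (fun n : A₂ => (χ : G → ℂ) n) (lin A₂ l : A₂ → ℂ) ≠ 0 := by
    have hEU : A₂ ≤ U := le_sup_left
    have h1 := over_trans (Subgroup.inclusion hEU) U.subtype hχc
      (isIrrCharacter_of_hom μ) hχ1 (θ := (lin A₂ l : A₂ → ℂ)) (lin A₂ l).2 (by
      have h3 : (fun k : A₂ => ((μ (Subgroup.inclusion hEU k) : ℂˣ) : ℂ)) = (lin A₂ l : A₂ → ℂ) := by
        funext k
        show ((μ _ : ℂˣ) : ℂ) = ((l k : ℂˣ) : ℂ)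
        rw [← hμ k]
        rfl
      rw [h3, classInner_irr_self (lin A₂ l).2]
      exact one_ne_zero)
    exact h1
  have hov1 : Over Y χ (lin Y 1) := by
    have h1 := over_trans (Subgroup.inclusion hYA₂) A₂.subtype hχc (lin A₂ l).2 hov
      (θ := (lin Y 1 : Y → ℂ)) (lin Y 1).2 (by
      have h3 : (fun k : Y => (lin A₂ l : A₂ → ℂ) (Subgroup.inclusion hYA₂ k)) =
          (lin Y 1 : Y → ℂ) := by
        funext k
        show ((l _ : ℂˣ) : ℂ) = (((1 : Y →* ℂˣ) k : ℂˣ) : ℂ)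
        rw [hl2 _ k.2]
        rfl
      rw [h3, classInner_irr_self (lin Y 1).2]
      exact one_ne_zero)
    exact h1
  have htriv := eq_of_over_one hov1
  have hχA : NT A χ := by
    refine ⟨x₁, hx₁A, fun h => hl1 ?_⟩
    have h1 := ker_of_over A₂ hχc (lin A₂ l).2 hov (x := ⟨x₁, hAA₂ hx₁A⟩) h
    apply Units.ext
    simpa [lin_apply] using h1
  have hχn : charDegree (χ : G → ℂ) = n := by
    rcases hAd χ hχA with h | h
    · exfalso
      apply hχ2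
      rw [h, pow_succ]
      exact (Nat.mul_dvd_mul hvd hEt).trans hT₂E
    · exact h
  obtain ⟨ξ, hξ⟩ := exists_over L χ
  have hξY : ∀ y : Y₀, (ξ : L → ℂ) y = (ξ : L → ℂ) 1 := by
    intro y
    exact ker_of_over L hχc ξ.2 hξ (x := (y : L)) (htriv _ ⟨y, y.2, rfl⟩)
  have hξm := hkey ξ hξY
  obtain ⟨w', hw', hw'd⟩ := deg_mul_of_over L χ ξ hξ
  rw [hχn] at hw'
  apply hbm
  refine Dvd.dvd.trans ?_ hξm
  have h2 : (r ^ β).Coprime w' := Nat.Coprime.pow_left _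
    ((Nat.Prime.coprime_iff_not_dvd hr).mpr (fun h => hrf (h.trans hw'd)))
  rw [hw'] at hbn
  exact h2.dvd_of_dvd_mul_right hbn

theorem case_a [hsol : Group.IsSolvable G] {m n t r k : ℕ} (hlt : m < n) (ht : t.Prime)
    (hr : r.Prime) (htr : t ≠ r) (A : Subgroup G) [hA : A.Normal]
    (hAd : ∀ χ : IrrCharacter G, NT A χ → charDegree (χ : G → ℂ) = m ∨ charDegree (χ : G → ℂ) = n)
    (hM : UMin (⁅(⁅A, A⁆ : Subgroup G), (⁅A, A⁆ : Subgroup G)⁆ : Subgroup G))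
    (hMp : IsPGroup t (⁅(⁅A, A⁆ : Subgroup G), (⁅A, A⁆ : Subgroup G)⁆ : Subgroup G))
    (hA₁p : IsPGroup t (⁅A, A⁆ : Subgroup G)) (hAp : ¬ IsPGroup t A)
    (L : Subgroup G) [hL : L.Normal] (hAL : A ≤ (⁅L, L⁆ : Subgroup G)) (hrf : ¬ r ∣ L.index)
    (hnl : ∀ θ : IrrCharacter L, charDegree (θ : L → ℂ) ≠ 1 → r ∣ charDegree (θ : L → ℂ))
    (hrdeg : ∀ χ : IrrCharacter G, r ∣ charDegree (χ : G → ℂ) →
      charDegree (χ : G → ℂ) = m ∨ charDegree (χ : G → ℂ) = n)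
    (hnoq : ∀ q, q.Prime → q ∣ L.index → q ∣ m → q ∣ n → False)
    (Y₀ : Subgroup L) [hY₀ : Y₀.Normal] (hYc : (Nat.card Y₀).Coprime r)
    (hYi : Y₀.index = r ^ k) : False := by
  haveI hFt : Fact t.Prime := ⟨ht⟩
  obtain ⟨B, hBn, hBA, hBp, hA₁B, hBi, -, -⟩ := sylow_of_comm ht A (fun x hx => by
    obtain ⟨k, hk⟩ := hA₁p ⟨x, hx⟩
    exact ⟨k, congrArg Subtype.val hk⟩)
  haveI := hBn
  have hMB : (⁅(⁅A, A⁆ : Subgroup G), (⁅A, A⁆ : Subgroup G)⁆ : Subgroup G) ≤ (⁅B, B⁆ : Subgroup G) :=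
    Subgroup.commutator_mono hA₁B hA₁B
  have hne : (⁅B, B⁆ : Subgroup G) ≠ ⊥ := fun h => hM.ne (le_bot_iff.mp (h ▸ hMB))
  obtain ⟨j, ⟨χ₀, h₀NT, h₀⟩, hall⟩ := V1 ht B hBp hne
  have hB'B : (⁅B, B⁆ : Subgroup G) ≤ B := Subgroup.commutator_le_left _ _
  have hB'd : ∀ χ : IrrCharacter G, NT (⁅B, B⁆ : Subgroup G) χ →
      charDegree (χ : G → ℂ) = m ∨ charDegree (χ : G → ℂ) = n :=
    fun χ h => hAd χ ((h.mono hB'B).mono hBA)
  have hB'm : ∀ χ : IrrCharacter G, NT (⁅B, B⁆ : Subgroup G) χ → charDegree (χ : G → ℂ) = m := by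
    rcases hAd χ₀ (h₀NT.mono hBA) with h | h
    · exfalso
      apply not_all_n hlt ht A B hBA hBp hBi hA₁B hM.ne hAd
      intro χ hχ
      rcases hB'd χ hχ with h1 | h1
      · have h2 := hall χ hχ
        rw [h1, ← h] at h2
        exact absurd h2 h₀
      · exact h1
    · intro χ hχ
      rcases hB'd χ hχ with h1 | h1
      · exact h1
      · have h2 := hall χ hχ
        rw [h1, ← h] at h2
        exact absurd h2 h₀
  have hmin : ∀ β : IrrCharacter G, NT A β → m ≤ charDegree (β : G → ℂ) := by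
    intro β h
    rcases hAd β h with h1 | h1 <;> omega
  obtain ⟨E, hEt, hE⟩ := exists_eta ht A B hBA hBp hBi hne hB'm hmin
  have hAB : ¬ A ≤ B := fun h => hAp (hBp.to_le h)
  have hAL' : A ≤ L := hAL.trans (Subgroup.commutator_le_left _ _)
  have hprimes : ∀ q, q.Prime → q ∣ B.relIndex A → q = r := by
    intro q hq hqd
    by_contra hqr
    have hqt : q ≠ t := fun h => hBi (h ▸ hqd)
    haveI hFq : Fact q.Prime := ⟨hq⟩
    obtain ⟨a, m₀, hm₀, hcard⟩ := Nat.exists_eq_pow_mul_and_not_dvd (n := Nat.card G)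
      Nat.card_pos.ne' q hq.ne_one
    obtain ⟨D, hDn, hD⟩ := exists_torsion B A hA₁B (q ^ a)
    haveI := hDn
    have hDA : D ≤ A := fun x hx => ((hD x).mp hx).1
    have hDq : ∀ x ∈ D, x ^ (q ^ a) ∈ B := fun x hx => ((hD x).mp hx).2
    have hDB : ¬ D ≤ B := by
      have h1 : q ∣ Nat.card (A ⧸ B.subgroupOf A) := by
        rw [← Subgroup.index_eq_card]
        exact hqd
      obtain ⟨zb, hzb⟩ := exists_prime_orderOf_dvd_card' q h1
      obtain ⟨z, rfl⟩ := QuotientGroup.mk_surjective zb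
      have hzq : (z : G) ^ q ∈ B := by
        have h2 : ((z : A ⧸ B.subgroupOf A)) ^ q = 1 := by
          rw [← hzb]
          exact pow_orderOf_eq_one _
        rw [← QuotientGroup.mk_pow, QuotientGroup.eq_one_iff] at h2
        exact h2
      have hzB : (z : G) ∉ B := by
        intro h
        have h2 : (z : A ⧸ B.subgroupOf A) = 1 := (QuotientGroup.eq_one_iff z).mpr h
        rw [h2, orderOf_one] at hzb
        exact hq.one_lt.ne hzb
      have ha0 : a ≠ 0 := by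
        rintro rfl
        rw [pow_zero, one_mul] at hcard
        apply hm₀
        rw [← hcard]
        have h2 : Nat.card (A ⧸ B.subgroupOf A) ∣ Nat.card A := by
          rw [← Subgroup.index_eq_card]
          exact Subgroup.index_dvd_card _
        exact h1.trans (h2.trans (Subgroup.card_subgroup_dvd_card A))
      obtain ⟨a', rfl⟩ := Nat.exists_eq_succ_of_ne_zero ha0
      intro hle
      apply hzB
      apply hle
      refine (hD _).mpr ⟨z.2, ?_⟩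
      rw [Nat.succ_eq_add_one, pow_succ', pow_mul]
      exact B.pow_mem hzq _
    obtain ⟨β, hβn, hβm, χ', hχ'B, hχ'D, hdeg'⟩ := exists_low_data hlt ht hq hqt hM hMp A B D hBp
      hDA hBA hDq hDB hAd
    have hβ0 : β ≠ 0 := by
      rintro rfl
      exact hβm (by simp)
    have hqn : q ∣ n := (dvd_pow_self q hβ0).trans hβn
    have hqm : ¬ q ∣ m := by
      intro hqm
      have hqf : ¬ q ∣ L.index := fun h => hnoq q hq h hqm hqn
      obtain ⟨y, hyD, hyB⟩ := SetLike.not_le_iff_exists.mp hDB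
      obtain ⟨b, hb⟩ := IsPGroup.iff_card.mp hBp
      have htb : (y ^ (q ^ a)) ^ (t ^ b) = 1 := by
        have h2 : (⟨y ^ (q ^ a), hDq y hyD⟩ : B) ^ (t ^ b) = 1 := by
          rw [← hb]
          exact pow_card_eq_one'
        exact congrArg Subtype.val h2
      have hxq : (y ^ (t ^ b)) ^ (q ^ a) = 1 := by
        rw [← pow_mul, mul_comm, pow_mul]
        exact htb
      have hcop : (q ^ a).Coprime (t ^ b) :=
        Nat.Coprime.pow _ _ ((Nat.coprime_primes hq ht).mpr hqt)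
      have hxB : y ^ (t ^ b) ∉ B := fun h => hyB (mem_of_pow_cop (hDq y hyD) h hcop)
      have hx1 := eq_one_of_thompson hq hr hqr L hnl hrdeg hqf hqm hqn
        (hAL (hDA (D.pow_mem hyD _))) hxq
      exact hxB (hx1 ▸ B.one_mem)
    exact no_low_prime hlt ht hq A B D hDA hA₁B hDq hAd hEt hE hqm χ' hχ'B hχ'D hdeg'
  have hR0 : B.relIndex A ≠ 0 := Subgroup.index_ne_zero_of_finite
  have hRpow := Nat.eq_prime_pow_of_unique_prime_dvd hR0 (fun {d} hd hdd => hprimes d hd hdd)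
  set w := (B.relIndex A).primeFactorsList.length with hw
  have hAr : ∀ x ∈ A, x ^ (r ^ w) ∈ B := by
    intro x hx
    have h1 := Subgroup.pow_index_mem (B.subgroupOf A) (⟨x, hx⟩ : A)
    have h2 : (B.subgroupOf A).index = r ^ w := hRpow
    rw [h2] at h1
    exact h1
  obtain ⟨β, hβn, hβm, -⟩ := exists_low_data hlt ht hr htr.symm hM hMp A B A hBp le_rfl hBA hAr hAB hAd
  exact final_step ht hr htr A B L Y₀ hAL' hBA hA₁B hBp hne hYc hYi hAr hAB hrf hAd hB'm hEt hE hβn hβm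

/-- The core of the third subcase. -/
theorem sub3_core [hsol : Group.IsSolvable G] {m n r k : ℕ} (hlt : m < n) (hr : r.Prime)
    (A : Subgroup G) [hA : A.Normal]
    (hAd : ∀ χ : IrrCharacter G, NT A χ → charDegree (χ : G → ℂ) = m ∨ charDegree (χ : G → ℂ) = n)
    (hM : UMin (⁅(⁅A, A⁆ : Subgroup G), (⁅A, A⁆ : Subgroup G)⁆ : Subgroup G))
    (L : Subgroup G) [hL : L.Normal] (hAL : A ≤ (⁅L, L⁆ : Subgroup G)) (hrf : ¬ r ∣ L.index)
    (hnl : ∀ θ : IrrCharacter L, charDegree (θ : L → ℂ) ≠ 1 → r ∣ charDegree (θ : L → ℂ))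
    (hrdeg : ∀ χ : IrrCharacter G, r ∣ charDegree (χ : G → ℂ) →
      charDegree (χ : G → ℂ) = m ∨ charDegree (χ : G → ℂ) = n)
    (hnoq : ∀ q, q.Prime → q ∣ L.index → q ∣ m → q ∣ n → False)
    (Y₀ : Subgroup L) [hY₀ : Y₀.Normal] (hYc : (Nat.card Y₀).Coprime r)
    (hYi : Y₀.index = r ^ k)
    (hYM : (⁅(⁅A, A⁆ : Subgroup G), (⁅A, A⁆ : Subgroup G)⁆ : Subgroup G) ≤ Y₀.map L.subtype) :
    False := by
  obtain ⟨t, ht, hMp⟩ := hM.pgroup
  have htr : t ≠ r := by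
    rintro rfl
    obtain ⟨x, hx, hx1⟩ := exists_ne_one_of_ne_bot hM.ne
    obtain ⟨c, hc⟩ := hMp ⟨x, hx⟩
    have hc' : x ^ (t ^ c) = 1 := congrArg Subtype.val hc
    obtain ⟨u, hu, hux⟩ := hYM hx
    have h1 : (⟨u, hu⟩ : Y₀) ^ Nat.card Y₀ = 1 := pow_card_eq_one'
    have h2 : x ^ Nat.card Y₀ = 1 := by
      rw [← hux]
      exact congrArg (fun v : Y₀ => ((v : L) : G)) h1
    exact hx1 (Cfsg.Agent.Lib.RelDeg.eq_one_of_pow_coprime (Nat.Coprime.pow_left _ hYc.symm) hc' h2)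
  by_cases hA₁p : IsPGroup t (⁅A, A⁆ : Subgroup G)
  · by_cases hAp : IsPGroup t A
    · exact case_zero ht A hAd hAp hM.ne
    · exact case_a hlt ht hr htr A hAd hM hMp hA₁p hAp L hAL hrf hnl hrdeg hnoq Y₀ hYc hYi
  · exact case_b hlt ht A hAd hM hMp hA₁p

end Final

end Cfsg.Agent.Lib.GarrG
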