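import Mathlib
import Cfsg.Agent.Lib.GarrG

/-!
# Garrison's theorem: assembly
-/

set_option autoImplicit false
set_option linter.style.haveILetI false
set_option linter.unusedVariables false
set_option linter.unusedSectionVars false

namespace Cfsg.Agent.Lib.GarrH

open Cfsg Cfsg.Agent.Lib.CharBasic Cfsg.Agent.Lib.CharInd Cfsg.Agent.Lib.CharKernel
open Cfsg.Agent.Lib.Clifford Cfsg.Agent.Lib.CliffDvd Cfsg.Agent.Lib.TwoDeg
open Cfsg.Agent.Lib.ThreeDeg31 Cfsg.Agent.Lib.RealOdd Cfsg.Agent.Lib.GarrA Cfsg.Agent.Lib.GarrB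
open Cfsg.Agent.Lib.GarrC Cfsg.Agent.Lib.RelDeg Cfsg.Agent.Lib.GarrD Cfsg.Agent.Lib.GarrE
open Cfsg.Agent.Lib.GarrF Cfsg.Agent.Lib.GarrG
open Cfsg.Agent.Lib.CoprimeDeg Cfsg.Agent.Lib.GlaubCyc
open scoped ComplexConjugate commutatorElement

universe u

section Top

variable {G : Type u} [Group G] [Finite G]

theorem frob_data (N : Subgroup G) [hN : N.Normal]
    (hab : ∀ a ∈ commutator (G ⧸ N), ∀ b ∈ commutator (G ⧸ N), a * b = b * a)
    (hU : ∀ L : Subgroup (G ⧸ N), L.Normal → L ≠ ⊥ → commutator (G ⧸ N) ≤ L)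
    (hne : commutator (G ⧸ N) ≠ ⊥) (htop : commutator (G ⧸ N) ≠ ⊤)
    (hfree : ∀ h, h ∉ commutator (G ⧸ N) → ∀ y ∈ commutator (G ⧸ N),
      ∃ z ∈ commutator (G ⧸ N), h * z * h⁻¹ * z⁻¹ = y) :
    ∃ (L : Subgroup G) (_ : L.Normal) (r : ℕ), r.Prime ∧ L.index ≠ 1 ∧ ¬ r ∣ L.index ∧
      commutator G ≤ L ∧ (∃ χ : IrrCharacter G, charDegree (χ : G → ℂ) = L.index) ∧
      ∀ θ : IrrCharacter L, ¬ r ∣ charDegree (θ : L → ℂ) →
        ∃ χ : IrrCharacter G, charDegree (χ : G → ℂ) = L.index * charDegree (θ : L → ℂ) := by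
  classical
  haveI : Fintype G := Fintype.ofFinite G
  set M := commutator (G ⧸ N) with hMdef
  have hMn : M.Normal := inferInstance
  let q : G →* G ⧸ N := QuotientGroup.mk' N
  have hq : Function.Surjective q := QuotientGroup.mk'_surjective N
  let A : Subgroup G := M.comap q
  haveI hAn : A.Normal := hMn.comap q
  haveI : Fintype A := Fintype.ofFinite A
  set m := M.index with hm
  have hidx : A.index = m := by
    rw [Subgroup.index_comap_of_surjective M hq]
  have hm1 : m ≠ 1 := by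
    intro h
    exact htop (Subgroup.index_eq_one.mp h)
  have hm0 : m ≠ 0 := Subgroup.index_ne_zero_of_finite
  let π : A →* M := q.subgroupComap M
  have hπ : Function.Surjective π := q.subgroupComap_surjective_of_surjective M hq
  let c : G → M →* M := fun x => (MulAut.conjNormal (q x)).toMonoidHom
  have hc : ∀ (x : G) (a : A), π ⟨x * a * x⁻¹, hAn.conj_mem a a.2 x⟩ = c x (π a) := by
    intro x a
    apply Subtype.ext
    show q (x * a * x⁻¹) = q x * q a * (q x)⁻¹
    simp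
  have hfree' : ∀ x, x ∉ A → ∀ y : M, ∃ z : M, c x z * z⁻¹ = y := by
    intro x hx y
    obtain ⟨z, hz, hz'⟩ := hfree (q x) hx y y.2
    refine ⟨⟨z, hz⟩, Subtype.ext ?_⟩
    exact hz'
  have hdvd := index_dvd hab hU hfree
  have hM1 : 1 < Nat.card M := by
    haveI : Nontrivial M := (Subgroup.nontrivial_iff_ne_bot M).mpr hne
    exact Finite.one_lt_card
  rw [← hMdef, ← hm] at hdvd
  have hcop : (Nat.card M).Coprime m := by
    obtain ⟨t, ht⟩ := hdvd
    have h1 : Nat.card M = m * t + 1 := by omega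
    rw [h1]
    simp
  have hsize : m ≤ Nat.card M := by
    have h1 : m ≤ Nat.card M - 1 := Nat.le_of_dvd (by omega) hdvd
    omega
  have hQ : ∀ x y : M, x * y = y * x := fun x y => Subtype.ext (hab x x.2 y y.2)
  have htw : ∀ θ : IrrCharacter A, (charDegree (θ : A → ℂ)).Coprime (Nat.card M) →
      ∃ χ : IrrCharacter G, charDegree (χ : G → ℂ) = m * charDegree (θ : A → ℂ) :=
    fun θ hθ => exists_ind_twist A hidx hQ π hπ c hc hfree' hsize θ.2 hθ
  have hone : charDegree (fun _ : A => (1 : ℂ)) = 1 := charDegree_of_one (by simp)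
  -- `m` is a degree
  obtain ⟨χm, hχm⟩ : ∃ χ : IrrCharacter G, charDegree (χ : G → ℂ) = m := by
    obtain ⟨χ, hχ⟩ := htw ⟨fun _ => 1, isIrrCharacter_one⟩ (by
      change (charDegree (fun _ : A => (1 : ℂ))).Coprime _
      rw [hone]
      exact Nat.coprime_one_left _)
    refine ⟨χ, ?_⟩
    rw [hχ]
    change m * charDegree (fun _ : A => (1 : ℂ)) = m
    rw [hone, mul_one]
  -- `M` is a `u`-group
  obtain ⟨u, hu, hudvd⟩ := Nat.exists_prime_and_dvd hM1.ne'
  haveI : Fact u.Prime := ⟨hu⟩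
  obtain ⟨x, hx⟩ := exists_prime_orderOf_dvd_card' u hudvd
  let S : Subgroup (G ⧸ N) :=
    { carrier := {y | y ∈ M ∧ y ^ u = 1}
      mul_mem' := by
        rintro y z ⟨hy, hy'⟩ ⟨hz, hz'⟩
        refine ⟨M.mul_mem hy hz, ?_⟩
        have h1 : Commute y z := hab y hy z hz
        rw [h1.mul_pow, hy', hz', one_mul]
      one_mem' := ⟨M.one_mem, one_pow _⟩
      inv_mem' := by
        rintro y ⟨hy, hy'⟩
        exact ⟨M.inv_mem hy, by rw [inv_pow, hy', inv_one]⟩ }
  have hSn : S.Normal := ⟨by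
    rintro y ⟨hy, hy'⟩ g
    exact ⟨hMn.conj_mem y hy g, by rw [conj_pow, hy']; simp⟩⟩
  have hSne : S ≠ ⊥ := by
    intro h
    have h1 : (x : G ⧸ N) ∈ S := by
      refine ⟨x.2, ?_⟩
      have h2 : x ^ u = 1 := by
        rw [← hx]
        exact pow_orderOf_eq_one x
      exact congrArg Subtype.val h2
    rw [h] at h1
    have h2 : x = 1 := Subtype.ext h1
    rw [h2, orderOf_one] at hx
    exact hu.one_lt.ne hx
  have hMS := hU S hSn hSne
  have hMp : IsPGroup u M := by
    intro y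
    refine ⟨1, ?_⟩
    apply Subtype.ext
    rw [pow_one]
    exact (hMS y.2).2
  obtain ⟨n, hn⟩ := IsPGroup.iff_card.mp hMp
  have hum : ¬ u ∣ m := by
    intro h
    have h1 := Nat.dvd_gcd hudvd h
    rw [hcop] at h1
    exact hu.one_lt.ne' (Nat.dvd_one.mp h1)
  have hle : commutator G ≤ A := by
    rw [commutator_def, Subgroup.commutator_le]
    intro g₁ _ g₂ _
    show q ⁅g₁, g₂⁆ ∈ M
    rw [map_commutatorElement]
    exact Subgroup.commutator_mem_commutator (Subgroup.mem_top _) (Subgroup.mem_top _)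
  have hcopu : ∀ θ : IrrCharacter A, ¬ u ∣ charDegree (θ : A → ℂ) →
      (charDegree (θ : A → ℂ)).Coprime (Nat.card M) := by
    intro θ h
    rw [hn]
    exact Nat.Coprime.pow_right n ((Nat.Prime.coprime_iff_not_dvd hu).mpr h).symm
  refine ⟨A, hAn, u, hu, by rw [hidx]; exact hm1, by rw [hidx]; exact hum, hle,
    ⟨χm, by rw [hidx]; exact hχm⟩, fun θ hθ => ?_⟩
  obtain ⟨χ, hχ⟩ := htw θ (hcopu θ hθ)
  exact ⟨χ, by rw [hidx]; exact hχ⟩

theorem top_cases (hsol : Group.IsSolvable G) (hGne : commutator G ≠ ⊥) :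
    (∃ (p : ℕ) (N : Subgroup G) (_ : N.Normal) (β : IrrCharacter G) (e : ℕ), p.Prime ∧
      IsPGroup p (G ⧸ N) ∧ commutator (G ⧸ N) ≠ ⊥ ∧ charDegree (β : G → ℂ) = p ^ e ∧ e ≠ 0 ∧
      ∀ ψ : IrrCharacter G, ¬ p ∣ charDegree (ψ : G → ℂ) →
        ∃ χ : IrrCharacter G, charDegree (χ : G → ℂ) = p ^ e * charDegree (ψ : G → ℂ)) ∨
    (∃ (L : Subgroup G) (_ : L.Normal) (r : ℕ), r.Prime ∧ L.index ≠ 1 ∧ ¬ r ∣ L.index ∧
      commutator G ≤ L ∧ (∃ χ : IrrCharacter G, charDegree (χ : G → ℂ) = L.index) ∧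
      ∀ θ : IrrCharacter L, ¬ r ∣ charDegree (θ : L → ℂ) →
        ∃ χ : IrrCharacter G, charDegree (χ : G → ℂ) = L.index * charDegree (θ : L → ℂ)) := by
  classical
  let S : Set (Subgroup G) := {N | N.Normal ∧ ¬ commutator G ≤ N}
  have hS : S.Nonempty := ⟨⊥, ⟨inferInstance, fun h => hGne (le_bot_iff.mp h)⟩⟩
  obtain ⟨N, hNmax⟩ := S.toFinite.exists_maximal hS
  haveI hNn : N.Normal := hNmax.prop.1
  let q : G →* G ⧸ N := QuotientGroup.mk' N
  have hq : Function.Surjective q := QuotientGroup.mk'_surjective N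
  haveI hHsol : Group.IsSolvable (G ⧸ N) := Group.isSolvable_of_surjective hq
  have hne : commutator (G ⧸ N) ≠ ⊥ := by
    intro h
    apply hNmax.prop.2
    rw [commutator_def, Subgroup.commutator_le]
    intro a _ b _
    have h1 := mem_commutator (q a) (q b)
    rw [h, Subgroup.mem_bot] at h1
    have h2 : q ⁅a, b⁆ = 1 := by
      rw [commutatorElement_def, map_mul, map_mul, map_mul, map_inv, map_inv]
      exact h1
    exact (QuotientGroup.eq_one_iff _).mp h2
  have hU : ∀ L : Subgroup (G ⧸ N), L.Normal → L ≠ ⊥ → commutator (G ⧸ N) ≤ L := by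
    intro L hL hLne
    haveI := hL
    have h1 : commutator G ≤ L.comap q := by
      by_contra h2
      have h3 : L.comap q ∈ S := ⟨inferInstance, h2⟩
      have h4 : N ≤ L.comap q := by
        intro x hx
        show q x ∈ L
        have : q x = 1 := (QuotientGroup.eq_one_iff x).mpr hx
        rw [this]
        exact L.one_mem
      have h5 := hNmax.le_of_ge h3 h4
      apply hLne
      rw [eq_bot_iff]
      intro y hy
      obtain ⟨x, rfl⟩ := hq y
      exact Subgroup.mem_bot.mpr ((QuotientGroup.eq_one_iff x).mpr (h5 hy))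
    rw [commutator_def, Subgroup.commutator_le]
    intro a _ b _
    obtain ⟨a', rfl⟩ := hq a
    obtain ⟨b', rfl⟩ := hq b
    have h2 := h1 (mem_commutator a' b')
    have h3 : q (a' * b' * a'⁻¹ * b'⁻¹) ∈ L := h2
    rw [commutatorElement_def]
    simpa only [map_mul, map_inv] using h3
  have hab := commutator_abelian hHsol hU
  have hHnt : Nontrivial (G ⧸ N) := by
    by_contra h
    rw [not_nontrivial_iff_subsingleton] at h
    exact hne (Subsingleton.elim _ _)
  have htop : commutator (G ⧸ N) ≠ ⊤ :=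
    (Group.IsSolvable.commutator_lt_top_of_nontrivial (G ⧸ N)).ne
  by_cases hcent : commutator (G ⧸ N) ≤ Subgroup.center (G ⧸ N)
  · -- the nilpotent case
    haveI hnil : Group.IsNilpotent (G ⧸ N) := by
      rw [Subgroup.nilpotent_iff_lowerCentralSeries]
      refine ⟨2, ?_⟩
      show ⁅commutator (G ⧸ N), (⊤ : Subgroup (G ⧸ N))⁆ = ⊥
      rw [Subgroup.commutator_eq_bot_iff_le_centralizer, Subgroup.coe_top,
        Subgroup.centralizer_univ]
      exact hcent
    obtain ⟨p, hp, hpd⟩ := Nat.exists_prime_and_dvd (Finite.one_lt_card (α := G ⧸ N)).ne'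
    haveI : Fact p.Prime := ⟨hp⟩
    have hHp : IsPGroup p (G ⧸ N) := by
      apply IsPGroup.of_card (n := (Nat.card (G ⧸ N)).primeFactorsList.length)
      apply Nat.eq_prime_pow_of_unique_prime_dvd Nat.card_pos.ne'
      intro q' hq' hq'd
      haveI : Fact q'.Prime := ⟨hq'⟩
      by_contra hqp
      obtain ⟨Sp⟩ : Nonempty (Sylow p (G ⧸ N)) := inferInstance
      obtain ⟨Sq⟩ : Nonempty (Sylow q' (G ⧸ N)) := inferInstance
      have hSp : (Sp : Subgroup (G ⧸ N)) ≠ ⊥ := Sp.ne_bot_of_dvd_card hpd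
      have hSq : (Sq : Subgroup (G ⧸ N)) ≠ ⊥ := Sq.ne_bot_of_dvd_card hq'd
      have h1 := hU _ inferInstance hSp
      have h2 := hU _ inferInstance hSq
      apply hne
      rw [eq_bot_iff]
      have h3 := IsPGroup.disjoint_of_ne q' p hqp _ _ Sq.isPGroup' Sp.isPGroup'
      exact (le_inf h2 h1).trans h3.le_bot
    obtain ⟨β, e, hβ, he, hmul⟩ := exists_mul_irr hp N hHp hcent hne hU
    exact Or.inl ⟨p, N, hNn, β, e, hp, hHp, hne, hβ, he, hmul⟩
  · obtain ⟨y₀, hy₀, hy₀c⟩ := SetLike.not_le_iff_exists.mp hcent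
    rw [Subgroup.mem_center_iff] at hy₀c
    push Not at hy₀c
    obtain ⟨g₀, hg₀⟩ := hy₀c
    have hg₀' : ∃ y ∈ commutator (G ⧸ N), g₀ * y * g₀⁻¹ * y⁻¹ ≠ 1 := by
      refine ⟨y₀, hy₀, fun h => hg₀ ?_⟩
      calc g₀ * y₀ = g₀ * y₀ * g₀⁻¹ * y₀⁻¹ * (y₀ * g₀) := by group
        _ = y₀ * g₀ := by rw [h, one_mul]
    have hfree : ∀ h, h ∉ commutator (G ⧸ N) → ∀ y ∈ commutator (G ⧸ N),
        ∃ z ∈ commutator (G ⧸ N), h * z * h⁻¹ * z⁻¹ = y := by
      intro h hh
      apply com_surj hab hU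
      by_contra hno
      push Not at hno
      apply hh
      apply mem_of_centralizes hab hU hne g₀ hg₀'
      intro y hy
      have := hno y hy
      calc h * y = h * y * h⁻¹ * y⁻¹ * (y * h) := by group
        _ = y * h := by rw [this, one_mul]
    exact Or.inr (frob_data N hab hU hne htop hfree)

end Top

attribute [local instance] Fintype.ofFinite

section CaseF

variable {G : Type u} [Group G] [Finite G]

theorem d3_of_L (hs : Group.IsSolvable G) (L : Subgroup G) (hLc : commutator G ≤ L) {a b : ℕ}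
    (h : Three L a b) : derivedSeries G 4 = ⊥ := by
  haveI : Group.IsSolvable L := inferInstance
  exact derived_four_of_L L hLc (derived_three_of_solvable inferInstance h)

theorem A_le (L : Subgroup G) (hLc : commutator G ≤ L) :
    derivedSeries G 2 ≤ (⁅L, L⁆ : Subgroup G) := by
  have h1 : derivedSeries G 1 ≤ L := by
    rw [derivedSeries_one]
    exact hLc
  rw [derivedSeries_succ]
  exact Subgroup.commutator_mono h1 h1

theorem d4_of_comm (L : Subgroup G) (hLc : commutator G ≤ L)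
    (h : (⁅(⁅L, L⁆ : Subgroup G), (⁅L, L⁆ : Subgroup G)⁆ : Subgroup G) = ⊥) :
    derivedSeries G 4 = ⊥ := by
  have h1 := A_le L hLc
  have h2 : derivedSeries G 3 = ⊥ := by
    rw [derivedSeries_succ]
    apply le_bot_iff.mp
    rw [← h]
    exact Subgroup.commutator_mono h1 h1
  rw [derivedSeries_succ, h2, Subgroup.commutator_bot_left]

theorem triv_of_not_dvd (L : Subgroup G) [hL : L.Normal] {r : ℕ}
    (hnl : ∀ θ : IrrCharacter L, charDegree (θ : L → ℂ) ≠ 1 → r ∣ charDegree (θ : L → ℂ))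
    (χ : IrrCharacter G) (h : ¬ r ∣ charDegree (χ : G → ℂ)) :
    ∀ x ∈ (⁅L, L⁆ : Subgroup G), (χ : G → ℂ) x = (χ : G → ℂ) 1 := by
  apply trivial_of_constituents L (IsIrrCharacter.isCharacter χ.2)
  intro θ hθ
  by_contra h1
  obtain ⟨w, hw, -⟩ := deg_mul_of_over L χ θ hθ
  exact h (hw ▸ (hnl θ h1).mul_right _)

theorem sub1 (hs : Group.IsSolvable G) {c e r : ℕ} (L : Subgroup G) [hL : L.Normal] (hr : r.Prime)
    (hf1 : L.index ≠ 1) (hrf : ¬ r ∣ L.index) (hLc : commutator G ≤ L)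
    (htw : ∀ θ : IrrCharacter L, ¬ r ∣ charDegree (θ : L → ℂ) →
      ∃ χ : IrrCharacter G, charDegree (χ : G → ℂ) = L.index * charDegree (θ : L → ℂ))
    (h4 : ∀ χ : IrrCharacter G, charDegree (χ : G → ℂ) = 1 ∨ charDegree (χ : G → ℂ) = L.index ∨
      charDegree (χ : G → ℂ) = c ∨ charDegree (χ : G → ℂ) = e)
    (hrc : ¬ r ∣ c) (hre : ¬ r ∣ e) : derivedSeries G 4 = ⊥ := by
  have hfpos : 0 < L.index := Nat.pos_of_ne_zero Subgroup.index_ne_zero_of_finite
  have hall : ∀ χ : IrrCharacter G, ¬ r ∣ charDegree (χ : G → ℂ) := by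
    intro χ
    rcases h4 χ with h | h | h | h <;> rw [h]
    · exact Nat.Prime.not_dvd_one hr
    · exact hrf
    · exact hrc
    · exact hre
  refine d3_of_L hs L hLc (a := c / L.index) (b := e / L.index) ?_
  intro θ
  obtain ⟨χ, hχ⟩ := exists_over_irr θ
  obtain ⟨w, hw, -⟩ := deg_mul_of_over L χ θ hχ
  have h1 : ¬ r ∣ charDegree (θ : L → ℂ) := fun h => hall χ (hw ▸ h.mul_right _)
  obtain ⟨χ', hχ'⟩ := htw θ h1
  rcases h4 χ' with h | h | h | h <;> rw [hχ'] at h
  · exact absurd (Nat.eq_one_of_mul_eq_one_right h) hf1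
  · left
    exact Nat.eq_of_mul_eq_mul_left hfpos (by rw [h, mul_one])
  · right
    left
    exact (Nat.div_eq_of_eq_mul_right hfpos h.symm).symm
  · right
    right
    exact (Nat.div_eq_of_eq_mul_right hfpos h.symm).symm

theorem sub2 (hs : Group.IsSolvable G) {c e r : ℕ} (L : Subgroup G) [hL : L.Normal] (hr : r.Prime)
    (hf1 : L.index ≠ 1) (hrf : ¬ r ∣ L.index) (hLc : commutator G ≤ L)
    (htw : ∀ θ : IrrCharacter L, ¬ r ∣ charDegree (θ : L → ℂ) →
      ∃ χ : IrrCharacter G, charDegree (χ : G → ℂ) = L.index * charDegree (θ : L → ℂ))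
    (h4 : ∀ χ : IrrCharacter G, charDegree (χ : G → ℂ) = 1 ∨ charDegree (χ : G → ℂ) = L.index ∨
      charDegree (χ : G → ℂ) = c ∨ charDegree (χ : G → ℂ) = e)
    (hT : ∀ u : ℕ, u.Prime → (∀ χ : IrrCharacter G, charDegree (χ : G → ℂ) ≠ 1 →
      u ∣ charDegree (χ : G → ℂ)) → derivedSeries G 4 = ⊥)
    (hrc : r ∣ c) (hre : ¬ r ∣ e) : derivedSeries G 4 = ⊥ := by
  have hfpos : 0 < L.index := Nat.pos_of_ne_zero Subgroup.index_ne_zero_of_finite
  have hr1 : ¬ r ∣ 1 := Nat.Prime.not_dvd_one hr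
  have hmul : ∀ d : ℕ, ¬ r ∣ d → ¬ r ∣ L.index * d := fun d hd h =>
    (hr.dvd_mul.mp h).elim hrf hd
  by_cases hex : ∃ θ₁ : IrrCharacter L, charDegree (θ₁ : L → ℂ) ≠ 1 ∧
      ¬ r ∣ charDegree (θ₁ : L → ℂ)
  · obtain ⟨θ₁, hθ₁1, hθ₁r⟩ := hex
    obtain ⟨χ₁, hχ₁⟩ := htw θ₁ hθ₁r
    have hfe : L.index ∣ e := by
      rcases h4 χ₁ with h | h | h | h <;> rw [hχ₁] at h
      · exact absurd (Nat.eq_one_of_mul_eq_one_right h) hf1
      · exact absurd (Nat.eq_of_mul_eq_mul_left hfpos (by rw [h, mul_one])) hθ₁1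
      · exact absurd (h ▸ hrc) (hmul _ hθ₁r)
      · exact h ▸ dvd_mul_right _ _
    by_cases hgcd : L.index.gcd c = 1
    · refine d3_of_L hs L hLc (a := e / L.index) (b := c) ?_
      intro θ
      by_cases hrθ : r ∣ charDegree (θ : L → ℂ)
      · right
        right
        obtain ⟨χ, hχ⟩ := exists_over_irr θ
        obtain ⟨w, hw, hwd⟩ := deg_mul_of_over L χ θ hχ
        have h1 : r ∣ charDegree (χ : G → ℂ) := hw ▸ hrθ.mul_right _
        have h2 : charDegree (χ : G → ℂ) = c := by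
          rcases h4 χ with h | h | h | h
          · exact absurd (h ▸ h1) hr1
          · exact absurd (h ▸ h1) hrf
          · exact h
          · exact absurd (h ▸ h1) hre
        rw [h2] at hw
        have h3 : w ∣ L.index.gcd c := Nat.dvd_gcd hwd (hw ▸ dvd_mul_left _ _)
        rw [hgcd, Nat.dvd_one] at h3
        rw [h3, mul_one] at hw
        exact hw.symm
      · obtain ⟨χ', hχ'⟩ := htw θ hrθ
        rcases h4 χ' with h | h | h | h <;> rw [hχ'] at h
        · exact absurd (Nat.eq_one_of_mul_eq_one_right h) hf1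
        · left
          exact Nat.eq_of_mul_eq_mul_left hfpos (by rw [h, mul_one])
        · exact absurd (h ▸ hrc) (hmul _ hrθ)
        · right
          left
          exact (Nat.div_eq_of_eq_mul_right hfpos h.symm).symm
    · obtain ⟨q, hq, hqd⟩ := Nat.exists_prime_and_dvd hgcd
      have hqf := hqd.trans (Nat.gcd_dvd_left _ _)
      have hqc := hqd.trans (Nat.gcd_dvd_right _ _)
      apply hT q hq
      intro χ h1
      rcases h4 χ with h | h | h | h <;> rw [h]
      · exact absurd h h1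
      · exact hqf
      · exact hqc
      · exact hqf.trans hfe
  · push Not at hex
    have hnl : ∀ θ : IrrCharacter L, charDegree (θ : L → ℂ) ≠ 1 → r ∣ charDegree (θ : L → ℂ) := hex
    apply d4_of_comm L hLc
    apply comm_of_one_deg _ c
    rintro χ ⟨x, hx, hx1⟩
    rcases h4 χ with h | h | h | h
    · exact absurd (triv_of_not_dvd L hnl χ (h ▸ hr1) x hx) hx1
    · exact absurd (triv_of_not_dvd L hnl χ (h ▸ hrf) x hx) hx1
    · exact h
    · exact absurd (triv_of_not_dvd L hnl χ (h ▸ hre) x hx) hx1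

theorem Y_normal {r k : ℕ} (L : Subgroup G) [hL : L.Normal] (Y₀ : Subgroup L) [hY₀ : Y₀.Normal]
    (hYc : (Nat.card Y₀).Coprime r) (hYi : Y₀.index = r ^ k) : (Y₀.map L.subtype).Normal := by
  have hpowY : ∀ z : L, z ^ (r ^ k) ∈ Y₀ := fun z => by
    rw [← hYi]
    exact Subgroup.pow_index_mem Y₀ z
  have hYmem : ∀ (z : L) (s : ℕ), s.Coprime r → z ^ s = 1 → z ∈ Y₀ := fun z s hs h =>
    mem_of_pow_cop (a := s) (b := r ^ k) (by rw [h]; exact Y₀.one_mem) (hpowY z)
      (Nat.Coprime.pow_right _ hs)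
  have hcardY : ∀ y : Y₀, ((y : L) : G) ^ Nat.card Y₀ = 1 := fun y => by
    have h1 : y ^ Nat.card Y₀ = 1 := pow_card_eq_one'
    exact congrArg (fun u : Y₀ => ((u : L) : G)) h1
  refine ⟨?_⟩
  rintro _ ⟨y, hy, rfl⟩ g
  have h1 : g * (y : G) * g⁻¹ ∈ L := hL.conj_mem _ y.2 g
  refine ⟨⟨_, h1⟩, ?_, rfl⟩
  apply hYmem _ (Nat.card Y₀) hYc
  apply Subtype.ext
  show (g * (y : G) * g⁻¹) ^ Nat.card Y₀ = 1
  rw [conj_pow]
  have h2 := hcardY ⟨y, hy⟩
  have h3 : (y : G) ^ Nat.card Y₀ = 1 := h2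
  rw [h3]
  group

theorem sub3 (hs : Group.IsSolvable G) {c e r : ℕ} (L : Subgroup G) [hL : L.Normal] (hr : r.Prime)
    (hf1 : L.index ≠ 1) (hrf : ¬ r ∣ L.index) (hLc : commutator G ≤ L)
    (htw : ∀ θ : IrrCharacter L, ¬ r ∣ charDegree (θ : L → ℂ) →
      ∃ χ : IrrCharacter G, charDegree (χ : G → ℂ) = L.index * charDegree (θ : L → ℂ))
    (h4 : ∀ χ : IrrCharacter G, charDegree (χ : G → ℂ) = 1 ∨ charDegree (χ : G → ℂ) = L.index ∨
      charDegree (χ : G → ℂ) = c ∨ charDegree (χ : G → ℂ) = e)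
    (hT : ∀ u : ℕ, u.Prime → (∀ χ : IrrCharacter G, charDegree (χ : G → ℂ) ≠ 1 →
      u ∣ charDegree (χ : G → ℂ)) → derivedSeries G 4 = ⊥)
    (hU : UMin (derivedSeries G 4))
    (hrc : r ∣ c) (hre : r ∣ e) : derivedSeries G 4 = ⊥ := by
  have hfpos : 0 < L.index := Nat.pos_of_ne_zero Subgroup.index_ne_zero_of_finite
  have hr1 : ¬ r ∣ 1 := Nat.Prime.not_dvd_one hr
  have hnl : ∀ θ : IrrCharacter L, charDegree (θ : L → ℂ) ≠ 1 → r ∣ charDegree (θ : L → ℂ) := by
    intro θ hθ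
    by_contra hrθ
    obtain ⟨χ, hχ⟩ := htw θ hrθ
    have hmul : ¬ r ∣ L.index * charDegree (θ : L → ℂ) := fun h =>
      (hr.dvd_mul.mp h).elim hrf hrθ
    rcases h4 χ with h | h | h | h <;> rw [hχ] at h
    · exact absurd (Nat.eq_one_of_mul_eq_one_right h) hf1
    · exact absurd (Nat.eq_of_mul_eq_mul_left hfpos (by rw [h, mul_one])) hθ
    · exact absurd (h ▸ hrc) hmul
    · exact absurd (h ▸ hre) hmul
  by_cases hnoq : ∃ q, q.Prime ∧ q ∣ L.index ∧ q ∣ c ∧ q ∣ e
  · obtain ⟨q, hq, hqf, hqc, hqe⟩ := hnoq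
    apply hT q hq
    intro χ h1
    rcases h4 χ with h | h | h | h <;> rw [h]
    · exact absurd h h1
    · exact hqf
    · exact hqc
    · exact hqe
  push Not at hnoq
  obtain ⟨Y₀, hY₀, hYc, k, hYi⟩ := Cfsg.Agent.S4456.result r hr hnl
  haveI := hY₀
  have hrdeg : ∀ χ : IrrCharacter G, r ∣ charDegree (χ : G → ℂ) →
      charDegree (χ : G → ℂ) = c ∨ charDegree (χ : G → ℂ) = e := by
    intro χ h1
    rcases h4 χ with h | h | h | h
    · exact absurd (h ▸ h1) hr1
    · exact absurd (h ▸ h1) hrf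
    · exact Or.inl h
    · exact Or.inr h
  by_cases hbot : Y₀ = ⊥
  · have hLr : IsPGroup r L := by
      have h1 : Nat.card L = r ^ k := by
        rw [← hYi, hbot, Subgroup.index_bot]
      exact IsPGroup.of_card h1
    refine d3_of_L hs L hLc (a := r ^ c.factorization r) (b := r ^ e.factorization r) ?_
    intro θ
    by_cases h1 : charDegree (θ : L → ℂ) = 1
    · exact Or.inl h1
    right
    have h2 := hnl θ h1
    obtain ⟨χ, hχ⟩ := exists_over_irr θ
    obtain ⟨w, hw, hwd⟩ := deg_mul_of_over L χ θ hχ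
    obtain ⟨i, hi⟩ := deg_pow_of_pgroup hr hLr θ
    have hrw : ¬ r ∣ w := fun h => hrf (h.trans hwd)
    have hw0 : w ≠ 0 := by
      rintro rfl
      exact hrw (dvd_zero _)
    have h3 : (charDegree (χ : G → ℂ)).factorization r = i := by
      rw [hw, hi, Nat.factorization_mul (pow_ne_zero _ hr.ne_zero) hw0, Finsupp.add_apply,
        Nat.factorization_pow, Finsupp.smul_apply, hr.factorization_self,
        Nat.factorization_eq_zero_of_not_dvd hrw]
      simp
    have h5 : r ^ (charDegree (χ : G → ℂ)).factorization r = charDegree (θ : L → ℂ) := by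
      rw [h3, hi]
    rcases hrdeg χ (hw ▸ h2.mul_right _) with h | h
    · left
      rw [← h5, h]
    · right
      rw [← h5, h]
  -- the main case
  have hYn := Y_normal L Y₀ hYc hYi
  have hYne : Y₀.map L.subtype ≠ ⊥ := by
    intro h
    apply hbot
    rw [eq_bot_iff]
    intro y hy
    have h1 : (y : G) ∈ Y₀.map L.subtype := ⟨y, hy, rfl⟩
    rw [h, Subgroup.mem_bot] at h1
    exact Subgroup.mem_bot.mpr (Subtype.ext h1)
  have hYM := hU.le _ hYn hYne
  have hAL := A_le L hLc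
  haveI hAn : (derivedSeries G 2).Normal := derivedSeries_normal G 2
  have hAd : ∀ χ : IrrCharacter G, NT (derivedSeries G 2) χ →
      charDegree (χ : G → ℂ) = c ∨ charDegree (χ : G → ℂ) = e := by
    rintro χ ⟨x, hx, hx1⟩
    apply hrdeg
    by_contra h
    exact hx1 (triv_of_not_dvd L hnl χ h x (hAL hx))
  have hM : UMin (⁅(⁅derivedSeries G 2, derivedSeries G 2⁆ : Subgroup G),
      (⁅derivedSeries G 2, derivedSeries G 2⁆ : Subgroup G)⁆ : Subgroup G) := hU
  rcases lt_trichotomy c e with hlt | heq | hlt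
  · exfalso
    exact sub3_core hlt hr (derivedSeries G 2) hAd hM L hAL hrf hnl hrdeg
      (fun q hq h1 h2 h3 => hnoq q hq h1 h2 h3) Y₀ hYc hYi hYM
  · exfalso
    subst heq
    apply hU.ne
    have h1 : (⁅derivedSeries G 2, derivedSeries G 2⁆ : Subgroup G) = ⊥ := by
      apply comm_of_one_deg _ c
      intro χ hχ
      rcases hAd χ hχ with h | h <;> exact h
    show (⁅(⁅derivedSeries G 2, derivedSeries G 2⁆ : Subgroup G),
      (⁅derivedSeries G 2, derivedSeries G 2⁆ : Subgroup G)⁆ : Subgroup G) = ⊥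
    rw [h1, Subgroup.commutator_bot_left]
  · exfalso
    exact sub3_core hlt hr (derivedSeries G 2) (fun χ h => (hAd χ h).symm) hM L hAL hrf hnl
      (fun χ h => (hrdeg χ h).symm) (fun q hq h1 h2 h3 => hnoq q hq h1 h3 h2) Y₀ hYc hYi hYM

end CaseF

section Main

/-- **Garrison's theorem**, by strong induction on the order of the group. -/
theorem garrison_aux (n : ℕ) : ∀ (G : Type u) [Group G] [Finite G], Nat.card G = n →
    Group.IsSolvable G → ∀ a b c : ℕ, Four G a b c → derivedSeries G 4 = ⊥ := by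
  induction n using Nat.strong_induction_on with
  | _ n IH =>
  intro G _ _ hcard hs a b c h4
  by_contra hne
  have IHK : ∀ (K : Subgroup G) (a' b' c' : ℕ), K ≠ ⊤ → Four K a' b' c' →
      derivedSeries K 4 = ⊥ := by
    intro K a' b' c' hK hK4
    have h1 : Nat.card K < n := by
      have h2 : Nat.card K * K.index = Nat.card G := K.card_mul_index
      have h3 : K.index ≠ 1 := fun h => hK (Subgroup.index_eq_one.mp h)
      have h5 : K.index ≠ 0 := Subgroup.index_ne_zero_of_finite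
      have h6 : 0 < Nat.card K := Nat.card_pos
      have h7 : 2 ≤ K.index := by omega
      rw [← hcard, ← h2]
      nlinarith
    exact IH _ h1 K rfl inferInstance a' b' c' hK4
  have IHQ : ∀ N : Subgroup G, N.Normal → N ≠ ⊥ → derivedSeries G 4 ≤ N := by
    intro N hN hNne
    haveI := hN
    have h1 : Nat.card (G ⧸ N) < n := by
      have h2 : Nat.card N * N.index = Nat.card G := N.card_mul_index
      have h3 : N.index = Nat.card (G ⧸ N) := Subgroup.index_eq_card N
      haveI : Nontrivial N := (Subgroup.nontrivial_iff_ne_bot N).mpr hNne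
      have h4' : 1 < Nat.card N := Finite.one_lt_card
      have h5 : 0 < N.index := Nat.pos_of_ne_zero Subgroup.index_ne_zero_of_finite
      rw [← hcard, ← h2, ← h3]
      nlinarith
    have hq : Function.Surjective (QuotientGroup.mk' N) := QuotientGroup.mk'_surjective N
    have h2 := IH _ h1 (G ⧸ N) rfl (Group.isSolvable_of_surjective hq) a b c
      (h4.of_surjective (QuotientGroup.mk' N) hq)
    intro x hx
    have h3 := map_derivedSeries_le_derivedSeries (QuotientGroup.mk' N) 4 ⟨x, hx, rfl⟩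
    rw [h2, Subgroup.mem_bot] at h3
    exact (QuotientGroup.eq_one_iff x).mp h3
  have hU : UMin (derivedSeries G 4) := ⟨hne, derivedSeries_normal G 4, IHQ⟩
  have hGne : commutator G ≠ ⊥ := by
    intro h
    apply hne
    have h1 : derivedSeries G 1 = ⊥ := by
      rw [derivedSeries_one]
      exact h
    have h2 : derivedSeries G 2 = ⊥ := by
      rw [derivedSeries_succ, h1, Subgroup.commutator_bot_left]
    have h3 : derivedSeries G 3 = ⊥ := by
      rw [derivedSeries_succ, h2, Subgroup.commutator_bot_left]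
    rw [derivedSeries_succ, h3, Subgroup.commutator_bot_left]
  have hT : ∀ u : ℕ, u.Prime → (∀ χ : IrrCharacter G, charDegree (χ : G → ℂ) ≠ 1 →
      u ∣ charDegree (χ : G → ℂ)) → derivedSeries G 4 = ⊥ :=
    fun u hu hnl => case_T hs h4 hu hnl IHK
  apply hne
  rcases top_cases hs hGne with ⟨p, N, hN, β, e, hp, hHp, hne₀, hβ, he, hmul⟩ |
    ⟨L, hL, r, hr, hf1, hrf, hLc, ⟨χf, hχf⟩, htw⟩
  · haveI := hN
    by_cases hex : ∃ χ₁ : IrrCharacter G, charDegree (χ₁ : G → ℂ) ≠ 1 ∧
        ¬ p ∣ charDegree (χ₁ : G → ℂ)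
    · obtain ⟨χ₁, h1, h2⟩ := hex
      exact case_P hs h4 hp he N hHp hne₀ β hβ hmul χ₁ h1 h2
    · push Not at hex
      exact hT p hp hex
  · haveI := hL
    obtain ⟨c', e', h4'⟩ : ∃ c' e' : ℕ, ∀ χ : IrrCharacter G, charDegree (χ : G → ℂ) = 1 ∨
        charDegree (χ : G → ℂ) = L.index ∨ charDegree (χ : G → ℂ) = c' ∨
        charDegree (χ : G → ℂ) = e' := by
      rcases h4 χf with h | h | h | h
      · exact absurd (hχf.symm.trans h) hf1
      · refine ⟨b, c, fun χ => ?_⟩
        rw [← hχf, h]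
        exact h4 χ
      · refine ⟨a, c, fun χ => ?_⟩
        rw [← hχf, h]
        rcases h4 χ with h1 | h1 | h1 | h1
        · exact Or.inl h1
        · exact Or.inr (Or.inr (Or.inl h1))
        · exact Or.inr (Or.inl h1)
        · exact Or.inr (Or.inr (Or.inr h1))
      · refine ⟨a, b, fun χ => ?_⟩
        rw [← hχf, h]
        rcases h4 χ with h1 | h1 | h1 | h1
        · exact Or.inl h1
        · exact Or.inr (Or.inr (Or.inl h1))
        · exact Or.inr (Or.inr (Or.inr h1))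
        · exact Or.inr (Or.inl h1)
    by_cases hrc : r ∣ c' <;> by_cases hre : r ∣ e'
    · exact sub3 hs L hr hf1 hrf hLc htw h4' hT hU hrc hre
    · exact sub2 hs L hr hf1 hrf hLc htw h4' hT hrc hre
    · refine sub2 (c := e') (e := c') hs L hr hf1 hrf hLc htw (fun χ => ?_) hT hre hrc
      rcases h4' χ with h | h | h | h
      · exact Or.inl h
      · exact Or.inr (Or.inl h)
      · exact Or.inr (Or.inr (Or.inr h))
      · exact Or.inr (Or.inr (Or.inl h))
    · exact sub1 hs L hr hf1 hrf hLc htw h4' hrc hre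

end Main

end Cfsg.Agent.Lib.GarrH
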