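import Mathlib
import Cfsg.Prelude.Def_SporadicCombinatorics
import Cfsg.Prelude.Def_Spor_Mathieu
import Cfsg.Agent.Lib.GolayFamilies

set_option autoImplicit false
set_option linter.unusedSectionVars false
set_option linter.unusedTactic false
set_option linter.unreachableTactic false
set_option linter.unusedVariables false
set_option linter.deprecated false

/-!
# Transport along `M24`: pointwise stabilisers of sets, conjugation, 5-sets
-/

namespace Cfsg.Agent.Lib.Golay
open Cfsg Finset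

open scoped Pointwise

/-- conjugate of a subgroup -/
def conjSub (k : Equiv.Perm GolayPt) (H : Subgroup (Equiv.Perm GolayPt)) : Subgroup (Equiv.Perm GolayPt) :=
  H.map (MulAut.conj k).toMonoidHom

theorem mem_conjSub {k g : Equiv.Perm GolayPt} {H : Subgroup (Equiv.Perm GolayPt)} :
    g ∈ conjSub k H ↔ k⁻¹ * g * k ∈ H := by
  constructor
  · rintro ⟨h, hh, rfl⟩
    simpa [mul_assoc] using hh
  · intro h
    exact ⟨_, h, by simp [mul_assoc]⟩

theorem card_conjSub (k : Equiv.Perm GolayPt) (H : Subgroup (Equiv.Perm GolayPt)) :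
    Nat.card (conjSub k H) = Nat.card H :=
  Subgroup.card_map_of_injective (MulAut.conj k).injective

/-- the pointwise stabiliser in `M24` of a set of points -/
def Fix (S : Finset GolayPt) : Subgroup (Equiv.Perm GolayPt) where
  carrier := {g | g ∈ M24 ∧ ∀ p ∈ S, g p = p}
  mul_mem' := by
    rintro a b ⟨ha, ha'⟩ ⟨hb, hb'⟩
    refine ⟨M24.mul_mem ha hb, fun p hp => ?_⟩
    rw [Equiv.Perm.mul_apply, hb' p hp, ha' p hp]
  one_mem' := ⟨M24.one_mem, fun _ _ => rfl⟩
  inv_mem' := by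
    rintro a ⟨ha, ha'⟩
    refine ⟨M24.inv_mem ha, fun p hp => ?_⟩
    rw [Equiv.Perm.inv_eq_iff_eq, ha' p hp]

theorem mem_Fix {S : Finset GolayPt} {g : Equiv.Perm GolayPt} :
    g ∈ Fix S ↔ g ∈ M24 ∧ ∀ p ∈ S, g p = p := Iff.rfl

theorem Fix_smul {k : Equiv.Perm GolayPt} (hk : k ∈ M24) (S : Finset GolayPt) :
    Fix (k • S) = conjSub k (Fix S) := by
  ext g
  rw [mem_conjSub, mem_Fix, mem_Fix]
  constructor
  · rintro ⟨hg, hfix⟩
    refine ⟨M24.mul_mem (M24.mul_mem (M24.inv_mem hk) hg) hk, fun p hp => ?_⟩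
    have : g (k p) = k p := hfix _ (Finset.mem_smul_finset.2 ⟨p, hp, rfl⟩)
    simp [Equiv.Perm.mul_apply, this]
  · rintro ⟨hg, hfix⟩
    have hg' : g = k * (k⁻¹ * g * k) * k⁻¹ := by group
    refine ⟨by rw [hg']; exact M24.mul_mem (M24.mul_mem hk hg) (M24.inv_mem hk), fun p hp => ?_⟩
    obtain ⟨y, hy, rfl⟩ := Finset.mem_smul_finset.1 hp
    have := hfix y hy
    simp only [Equiv.Perm.mul_apply, Equiv.Perm.smul_def] at this ⊢
    rw [Equiv.Perm.inv_eq_iff_eq] at this
    exact this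

theorem card_Fix_smul {k : Equiv.Perm GolayPt} (hk : k ∈ M24) (S : Finset GolayPt) :
    Nat.card (Fix (k • S)) = Nat.card (Fix S) := by
  rw [Fix_smul hk, card_conjSub]

/-- the five base points -/
def P0 : Finset GolayPt := ofMask 8388623

theorem mem_P0 {p : GolayPt} : p ∈ P0 ↔ p = pt 23 ∨ p = pt 0 ∨ p = pt 1 ∨ p = pt 2 ∨ p = pt 3 := by
  have h : ∀ p : GolayPt, (8388623 : ℕ).testBit (idx p) = true ↔
      idx p = 23 ∨ idx p = 0 ∨ idx p = 1 ∨ idx p = 2 ∨ idx p = 3 := by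
    intro p
    have h1 := idx_lt p
    generalize idx p = i at h1
    interval_cases i <;> decide
  rw [P0, mem_ofMask, h]
  have key : ∀ i, i < 24 → (idx p = i ↔ p = pt i) := by
    intro i hi
    constructor
    · intro h; rw [← pt_idx p, h]
    · intro h; rw [h, idx_pt hi]
  rw [key 23 (by norm_num), key 0 (by norm_num), key 1 (by norm_num), key 2 (by norm_num), key 3 (by norm_num)]

theorem mem_G_iff_Fix {g : Equiv.Perm GolayPt} : g ∈ G [3,2,1,0,23] ↔ g ∈ Fix P0 := by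
  rw [mem_G, mem_Fix]
  constructor
  · rintro ⟨h1, h2⟩
    refine ⟨h1, fun p hp => ?_⟩
    rcases mem_P0.1 hp with rfl | rfl | rfl | rfl | rfl <;> exact h2 _ (by simp)
  · rintro ⟨h1, h2⟩
    refine ⟨h1, fun i hi => ?_⟩
    apply h2
    rw [mem_P0]
    simp only [List.mem_cons, List.not_mem_nil, or_false] at hi
    rcases hi with rfl | rfl | rfl | rfl | rfl <;> simp

theorem Fix_P0 : Fix P0 = G [3,2,1,0,23] := by
  ext g; exact mem_G_iff_Fix.symm

theorem card_Fix_P0 : Nat.card (Fix P0) = 48 := by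
  rw [Fix_P0, card_G5]

/-- the octad through the five base points -/
def Oct0 : Finset GolayPt := ofMask 8536111

theorem Oct0_mem_octads : Oct0 ∈ octads := ofMask_mem_octads O0_mem

theorem P0_subset_Oct0 : P0 ⊆ Oct0 := by
  intro p hp
  rcases mem_P0.1 hp with rfl | rfl | rfl | rfl | rfl <;> (rw [Oct0, mem_ofMask, idx_pt (by norm_num)]; decide)

theorem card_P0 : P0.card = 5 := by
  rw [P0, card_ofMask]; decide +kernel

/-- five points, as a function -/
theorem exists_M24_of_fin (f : Fin 5 → GolayPt) (hf : Function.Injective f) :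
    ∃ g ∈ M24, g (pt 23) = f 0 ∧ g (pt 0) = f 1 ∧ g (pt 1) = f 2 ∧ g (pt 2) = f 3 ∧ g (pt 3) = f 4 := by
  apply exists_M24_five <;> (intro h; have := hf h; revert this; decide)

theorem smul_P0_of_fin {g : Equiv.Perm GolayPt} {f : Fin 5 → GolayPt}
    (h : g (pt 23) = f 0 ∧ g (pt 0) = f 1 ∧ g (pt 1) = f 2 ∧ g (pt 2) = f 3 ∧ g (pt 3) = f 4) :
    ∀ i, f i ∈ g • P0 := by
  obtain ⟨h0, h1, h2, h3, h4⟩ := h
  intro i
  rw [Finset.mem_smul_finset]
  fin_cases i
  · exact ⟨pt 23, mem_P0.2 (by simp), h0⟩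
  · exact ⟨pt 0, mem_P0.2 (by simp), h1⟩
  · exact ⟨pt 1, mem_P0.2 (by simp), h2⟩
  · exact ⟨pt 2, mem_P0.2 (by simp), h3⟩
  · exact ⟨pt 3, mem_P0.2 (by simp), h4⟩

/-- every 5-set is the image of the five base points -/
theorem exists_smul_P0 (P : Finset GolayPt) (hP : P.card = 5) : ∃ k ∈ M24, k • P0 = P := by
  classical
  let e : P ≃ Fin 5 := P.equivFinOfCardEq hP
  let f : Fin 5 → GolayPt := fun i => (e.symm i : GolayPt)
  have hf : Function.Injective f := fun a b h => e.symm.injective (Subtype.ext h)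
  obtain ⟨k, hk, h⟩ := exists_M24_of_fin f hf
  refine ⟨k, hk, ?_⟩
  symm
  apply Finset.eq_of_subset_of_card_le
  · intro p hp
    have := smul_P0_of_fin h (e ⟨p, hp⟩)
    simpa [f] using this
  · rw [Finset.card_smul_finset, card_P0, hP]

theorem card_Fix_five (P : Finset GolayPt) (hP : P.card = 5) : Nat.card (Fix P) = 48 := by
  obtain ⟨k, hk, rfl⟩ := exists_smul_P0 P hP
  rw [card_Fix_smul hk, card_Fix_P0]

/-! ### the sixth point -/

theorem idx_mem_L6_of_mem {c : GolayPt} (h1 : c ∈ Oct0) (h2 : c ∉ P0) : idx c ∈ L6 := by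
  have h4 : ∀ i < 24, (8536111 : ℕ).testBit i = true → (8388623 : ℕ).testBit i ≠ true → i ∈ L6 := by decide +kernel
  refine h4 _ (idx_lt c) (mem_ofMask.1 h1) (fun h => h2 (mem_ofMask.2 h))

theorem idx_mem_L7_of_not_mem {c : GolayPt} (h1 : c ∉ Oct0) : idx c ∈ L7 := by
  have h4 : ∀ i < 24, (8536111 : ℕ).testBit i ≠ true → i ∈ L7 := by decide +kernel
  exact h4 _ (idx_lt c) (fun h => h1 (mem_ofMask.2 h))

theorem mem_Oct0_of_L6 {c : GolayPt} (h : idx c ∈ L6) : c ∈ Oct0 := by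
  have h4 : ∀ i ∈ L6, (8536111 : ℕ).testBit i = true := by decide +kernel
  exact mem_ofMask.2 (h4 _ h)

theorem not_mem_Oct0_of_L7 {c : GolayPt} (h : idx c ∈ L7) : c ∉ Oct0 := by
  have h4 : ∀ i ∈ L7, (8536111 : ℕ).testBit i ≠ true := by decide +kernel
  exact fun h' => h4 _ h (mem_ofMask.1 h')

theorem level6_spec : ∀ q ∈ L6, ∃ g ∈ Fix P0, g (pt 5) = pt q := by
  intro q hq
  obtain ⟨g, hg, h⟩ := levelOK_spec level6 (by decide) (by norm_num) q hq
  exact ⟨g, mem_G_iff_Fix.1 hg, h⟩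

theorem level7_spec : ∀ q ∈ L7, ∃ g ∈ Fix P0, g (pt 4) = pt q := by
  intro q hq
  obtain ⟨g, hg, h⟩ := levelOK_spec level7 (by decide) (by norm_num) q hq
  refine ⟨g, mem_G_iff_Fix.1 ⟨hg.1, fun i hi => hg.2 i (List.mem_cons_of_mem _ hi)⟩, h⟩

theorem Fix_P0_trans_in {c c' : GolayPt} (hc : idx c ∈ L6) (hc' : idx c' ∈ L6) : ∃ g ∈ Fix P0, g c = c' := by
  obtain ⟨u, hu, huc⟩ := level6_spec _ hc
  obtain ⟨v, hv, hvc⟩ := level6_spec _ hc'
  rw [pt_idx] at huc hvc
  refine ⟨v * u⁻¹, (Fix P0).mul_mem hv ((Fix P0).inv_mem hu), ?_⟩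
  rw [Equiv.Perm.mul_apply, Equiv.Perm.inv_eq_iff_eq.2 huc.symm, hvc]

theorem Fix_P0_trans_out {c c' : GolayPt} (hc : idx c ∈ L7) (hc' : idx c' ∈ L7) : ∃ g ∈ Fix P0, g c = c' := by
  obtain ⟨u, hu, huc⟩ := level7_spec _ hc
  obtain ⟨v, hv, hvc⟩ := level7_spec _ hc'
  rw [pt_idx] at huc hvc
  refine ⟨v * u⁻¹, (Fix P0).mul_mem hv ((Fix P0).inv_mem hu), ?_⟩
  rw [Equiv.Perm.mul_apply, Equiv.Perm.inv_eq_iff_eq.2 huc.symm, hvc]

theorem Fix_insert (c : GolayPt) (S : Finset GolayPt) :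
    Fix (insert c S) = Fix S ⊓ MulAction.stabilizer (Equiv.Perm GolayPt) c := by
  ext g
  simp only [mem_Fix, Subgroup.mem_inf, MulAction.mem_stabilizer_iff, Equiv.Perm.smul_def, mem_insert,
    forall_eq_or_imp]
  tauto

theorem Fix_P0_smul_Oct0 {g : Equiv.Perm GolayPt} (hg : g ∈ Fix P0) : g • Oct0 = Oct0 :=
  smul_octad_eq_of_fix hg.1 card_P0 Oct0_mem_octads P0_subset_Oct0 hg.2

theorem card_Fix_insert_in {c : GolayPt} (h1 : c ∈ Oct0) (h2 : c ∉ P0) :
    Nat.card (Fix (insert c P0)) = 16 := by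
  have hc := idx_mem_L6_of_mem h1 h2
  have h3 := card_eq_orbit_mul (Fix P0) c
  rw [← Fix_insert, card_Fix_P0] at h3
  have horb : MulAction.orbit (Fix P0) c = pt '' {q | q ∈ L6} := by
    apply orbit_eq_image
    · intro g hg
      refine ⟨idx (g c), ?_, by rw [pt_idx]; rfl⟩
      apply idx_mem_L6_of_mem
      · rw [← mem_ofMask_smul_iff (Fix_P0_smul_Oct0 hg) c] at h1; exact h1
      · intro hq
        apply h2
        have := hg.2 _ hq
        rwa [g.injective this] at hq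
    · intro q hq
      have : idx (pt q) ∈ L6 := by
        have hq' : q < 24 := by
          have : ∀ x ∈ L6, x < 24 := by decide +kernel
          exact this q hq
        rwa [idx_pt hq']
      obtain ⟨g, hg, h⟩ := Fix_P0_trans_in hc this
      exact ⟨g, hg, h⟩
  have h4 : (pt '' {q | q ∈ L6}).ncard = 3 := by
    rw [ncard_image_list L6 pt (by decide +kernel)]
    · decide +kernel
    · intro a ha b hb hab
      have hlt : ∀ x ∈ L6, x < 24 := by decide +kernel
      exact pt_injOn (hlt a ha) (hlt b hb) hab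
  rw [horb, h4] at h3
  omega

theorem card_Fix_insert_out {c : GolayPt} (h1 : c ∉ Oct0) :
    Nat.card (Fix (insert c P0)) = 3 := by
  have hc := idx_mem_L7_of_not_mem h1
  have h3 := card_eq_orbit_mul (Fix P0) c
  rw [← Fix_insert, card_Fix_P0] at h3
  have horb : MulAction.orbit (Fix P0) c = pt '' {q | q ∈ L7} := by
    apply orbit_eq_image
    · intro g hg
      refine ⟨idx (g c), ?_, by rw [pt_idx]; rfl⟩
      apply idx_mem_L7_of_not_mem
      intro hq
      rw [mem_ofMask_smul_iff (Fix_P0_smul_Oct0 hg) c] at hq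
      exact h1 hq
    · intro q hq
      have : idx (pt q) ∈ L7 := by
        have hq' : q < 24 := by
          have : ∀ x ∈ L7, x < 24 := by decide +kernel
          exact this q hq
        rwa [idx_pt hq']
      obtain ⟨g, hg, h⟩ := Fix_P0_trans_out hc this
      exact ⟨g, hg, h⟩
  have h4 : (pt '' {q | q ∈ L7}).ncard = 16 := by
    rw [ncard_image_list L7 pt (by decide +kernel)]
    · decide +kernel
    · intro a ha b hb hab
      have hlt : ∀ x ∈ L7, x < 24 := by decide +kernel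
      exact pt_injOn (hlt a ha) (hlt b hb) hab
  rw [horb, h4] at h3
  omega

/-- `a` lies in the octad through the five others iff the six points lie in an octad -/
theorem in_oct_iff {E : Finset GolayPt} (hE : E.card = 6) {a : GolayPt} (ha : a ∈ E)
    {k : Equiv.Perm GolayPt} (hk : k ∈ M24) (hkP : k • P0 = E.erase a) :
    k⁻¹ a ∈ Oct0 ↔ ∃ o ∈ octads, E ⊆ o := by
  have hkO : k • Oct0 ∈ octads := smul_mem_octads hk Oct0_mem_octads
  have hsub : E.erase a ⊆ k • Oct0 := by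
    rw [← hkP]
    exact Finset.smul_finset_subset_smul_finset_iff.2 P0_subset_Oct0
  have hmem : a ∈ k • Oct0 ↔ k⁻¹ a ∈ Oct0 := by
    rw [Finset.mem_smul_finset]
    constructor
    · rintro ⟨y, hy, rfl⟩
      simpa [Equiv.Perm.smul_def] using hy
    · intro h
      exact ⟨_, h, by simp [Equiv.Perm.smul_def]⟩
  rw [← hmem]
  constructor
  · intro h
    refine ⟨_, hkO, fun x hx => ?_⟩
    by_cases hxa : x = a
    · rwa [hxa]
    · exact hsub (mem_erase.2 ⟨hxa, hx⟩)
  · rintro ⟨o, ho, hEo⟩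
    have hcard : (E.erase a).card = 5 := by rw [card_erase_of_mem ha, hE]
    have := octad_unique_of_subset hcard ho hkO ((erase_subset _ _).trans hEo) hsub
    rw [← this]
    exact hEo ha

theorem not_mem_P0_of {E : Finset GolayPt} {a : GolayPt} {k : Equiv.Perm GolayPt}
    (hkP : k • P0 = E.erase a) : k⁻¹ a ∉ P0 := by
  intro h
  have : a ∈ E.erase a := by
    rw [← hkP, Finset.mem_smul_finset]
    exact ⟨_, h, by simp [Equiv.Perm.smul_def]⟩
  simp at this

theorem smul_insert_eq {E : Finset GolayPt} {a : GolayPt} (ha : a ∈ E) {k : Equiv.Perm GolayPt}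
    (hkP : k • P0 = E.erase a) : k • insert (k⁻¹ a) P0 = E := by
  rw [Finset.smul_finset_insert, hkP]
  have : k • k⁻¹ a = a := by simp [Equiv.Perm.smul_def]
  rw [this, Finset.insert_erase ha]

/-- the pointwise stabiliser of a special hexad has order 16 -/
theorem card_Fix_six_in {E : Finset GolayPt} (hE : E.card = 6) (h : ∃ o ∈ octads, E ⊆ o) :
    Nat.card (Fix E) = 16 := by
  have hne : E.Nonempty := by rw [← card_pos]; omega
  obtain ⟨a, ha⟩ := hne
  obtain ⟨k, hk, hkP⟩ := exists_smul_P0 (E.erase a) (by rw [card_erase_of_mem ha, hE])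
  have h1 := (in_oct_iff hE ha hk hkP).2 h
  rw [← smul_insert_eq ha hkP, card_Fix_smul hk]
  exact card_Fix_insert_in h1 (not_mem_P0_of hkP)

/-- the pointwise stabiliser of an umbral hexad has order 3 -/
theorem card_Fix_six_out {E : Finset GolayPt} (hE : E.card = 6) (h : ¬ ∃ o ∈ octads, E ⊆ o) :
    Nat.card (Fix E) = 3 := by
  have hne : E.Nonempty := by rw [← card_pos]; omega
  obtain ⟨a, ha⟩ := hne
  obtain ⟨k, hk, hkP⟩ := exists_smul_P0 (E.erase a) (by rw [card_erase_of_mem ha, hE])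
  have h1 : k⁻¹ a ∉ Oct0 := fun h' => h ((in_oct_iff hE ha hk hkP).1 h')
  rw [← smul_insert_eq ha hkP, card_Fix_smul hk]
  exact card_Fix_insert_out h1

/-- every permutation of a 6-set extends to an element of `M24` -/
theorem extend_six {E : Finset GolayPt} (hE : E.card = 6) (σ : Equiv.Perm ↥E) :
    ∃ g ∈ M24, ∀ p : ↥E, g p = σ p := by
  classical
  have hne : E.Nonempty := by rw [← card_pos]; omega
  obtain ⟨a, ha⟩ := hne
  let a' : ↥E := ⟨a, ha⟩
  have hcard : (E.erase a).card = 5 := by rw [card_erase_of_mem ha, hE]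
  let e : ↥(E.erase a) ≃ Fin 5 := (E.erase a).equivFinOfCardEq hcard
  let f : Fin 5 → ↥E := fun i => ⟨(e.symm i : GolayPt), (mem_erase.1 (e.symm i).2).2⟩
  have hf : Function.Injective f := fun x y h => e.symm.injective (Subtype.ext (congrArg (fun z : ↥E => (z : GolayPt)) h))
  have hfa : ∀ i, f i ≠ a' := fun i h => (mem_erase.1 (e.symm i).2).1 (congrArg (fun z : ↥E => (z : GolayPt)) h)
  have hfall : ∀ x : ↥E, x = a' ∨ ∃ i, f i = x := by
    intro x
    by_cases hx : x = a'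
    · exact Or.inl hx
    · right
      have hx' : (x : GolayPt) ∈ E.erase a := mem_erase.2 ⟨fun h => hx (Subtype.ext h), x.2⟩
      refine ⟨e ⟨x, hx'⟩, ?_⟩
      apply Subtype.ext
      simp [f]
  -- the two lifts
  obtain ⟨k, hk, hk5⟩ := exists_M24_of_fin (fun i => (f i : GolayPt)) (fun x y h => hf (Subtype.ext h))
  obtain ⟨h, hh, hh5⟩ := exists_M24_of_fin (fun i => (σ (f i) : GolayPt))
    (fun x y h => hf (σ.injective (Subtype.ext h)))
  have erase1 : k • P0 = E.erase a := by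
    apply Finset.eq_of_subset_of_card_le
    · intro p hp
      obtain ⟨y, hy, rfl⟩ := Finset.mem_smul_finset.1 hp
      rcases mem_P0.1 hy with rfl | rfl | rfl | rfl | rfl
      · rw [Equiv.Perm.smul_def, hk5.1]; exact (e.symm 0).2
      · rw [Equiv.Perm.smul_def, hk5.2.1]; exact (e.symm 1).2
      · rw [Equiv.Perm.smul_def, hk5.2.2.1]; exact (e.symm 2).2
      · rw [Equiv.Perm.smul_def, hk5.2.2.2.1]; exact (e.symm 3).2
      · rw [Equiv.Perm.smul_def, hk5.2.2.2.2]; exact (e.symm 4).2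
    · rw [Finset.card_smul_finset, card_P0, hcard]
  have hb : (σ a' : GolayPt) ∈ E := (σ a').2
  have erase2 : h • P0 = E.erase (σ a' : GolayPt) := by
    have hmem : ∀ i, (σ (f i) : GolayPt) ∈ E.erase (σ a' : GolayPt) := by
      intro i
      refine mem_erase.2 ⟨fun e' => hfa i (σ.injective (Subtype.ext e')), (σ (f i)).2⟩
    apply Finset.eq_of_subset_of_card_le
    · intro p hp
      obtain ⟨y, hy, rfl⟩ := Finset.mem_smul_finset.1 hp
      rcases mem_P0.1 hy with rfl | rfl | rfl | rfl | rfl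
      · rw [Equiv.Perm.smul_def, hh5.1]; exact hmem 0
      · rw [Equiv.Perm.smul_def, hh5.2.1]; exact hmem 1
      · rw [Equiv.Perm.smul_def, hh5.2.2.1]; exact hmem 2
      · rw [Equiv.Perm.smul_def, hh5.2.2.2.1]; exact hmem 3
      · rw [Equiv.Perm.smul_def, hh5.2.2.2.2]; exact hmem 4
    · rw [Finset.card_smul_finset, card_P0, card_erase_of_mem hb, hE]
  have i1 := in_oct_iff hE ha hk erase1
  have i2 := in_oct_iff hE hb hh erase2
  have n1 := not_mem_P0_of erase1
  have n2 := not_mem_P0_of erase2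
  -- the element moving the sixth point
  have hmove : ∃ g1 ∈ Fix P0, g1 (k⁻¹ a) = h⁻¹ (σ a' : GolayPt) := by
    by_cases hin : ∃ o ∈ octads, E ⊆ o
    · exact Fix_P0_trans_in (idx_mem_L6_of_mem (i1.2 hin) n1) (idx_mem_L6_of_mem (i2.2 hin) n2)
    · exact Fix_P0_trans_out (idx_mem_L7_of_not_mem (fun h' => hin (i1.1 h')))
        (idx_mem_L7_of_not_mem (fun h' => hin (i2.1 h')))
  obtain ⟨g1, hg1, hg1c⟩ := hmove
  refine ⟨h * g1 * k⁻¹, M24.mul_mem (M24.mul_mem hh hg1.1) (M24.inv_mem hk), ?_⟩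
  intro p
  rcases hfall p with rfl | ⟨i, rfl⟩
  · simp only [Equiv.Perm.mul_apply, a']
    rw [hg1c]
    simp
    rfl
  · have hkey : ∀ (b : GolayPt), b ∈ P0 → k b = (f i : GolayPt) → h b = (σ (f i) : GolayPt) →
        (h * g1 * k⁻¹) (f i : GolayPt) = (σ (f i) : GolayPt) := by
      intro b hb hkb hhb
      simp only [Equiv.Perm.mul_apply]
      have : k⁻¹ (f i : GolayPt) = b := by rw [Equiv.Perm.inv_eq_iff_eq, hkb]
      rw [this, hg1.2 b hb, hhb]
    fin_cases i
    · exact hkey (pt 23) (mem_P0.2 (by simp)) hk5.1 hh5.1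
    · exact hkey (pt 0) (mem_P0.2 (by simp)) hk5.2.1 hh5.2.1
    · exact hkey (pt 1) (mem_P0.2 (by simp)) hk5.2.2.1 hh5.2.2.1
    · exact hkey (pt 2) (mem_P0.2 (by simp)) hk5.2.2.2.1 hh5.2.2.2.1
    · exact hkey (pt 3) (mem_P0.2 (by simp)) hk5.2.2.2.2 hh5.2.2.2.2

end Cfsg.Agent.Lib.Golay
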