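import Mathlib
import Cfsg.Prelude.Def_SporadicCombinatorics
import Cfsg.Prelude.Def_Spor_Mathieu
import Cfsg.Agent.Lib.GolayTransport
import Cfsg.Agent.Lib.GolayClassData

set_option autoImplicit false
set_option linter.unusedSectionVars false
set_option linter.unusedTactic false
set_option linter.unreachableTactic false
set_option linter.unusedVariables false
set_option linter.deprecated false

/-!
# Conjugacy classes of elements of order 2 and 3 in `M24`
-/

namespace Cfsg.Agent.Lib.Golay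
open Cfsg Finset

open scoped Pointwise

/-! ### representing permutations by functions on numbers -/

/-- `g` acts as `f` on the numbers of the points -/
def RepBy (g : Equiv.Perm GolayPt) (f : ℕ → ℕ) : Prop := ∀ p, idx (g p) = f (idx p)

theorem repBy_decode {c : ℕ} (hv : valid c = true) : RepBy (decode c) (ap c) := idx_decode hv

theorem RepBy.mul {g h : Equiv.Perm GolayPt} {f f' : ℕ → ℕ} (hg : RepBy g f) (hh : RepBy h f') :
    RepBy (g * h) (fun i => f (f' i)) := by
  intro p
  rw [Equiv.Perm.mul_apply, hg, hh]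

theorem RepBy.val {g : Equiv.Perm GolayPt} {f : ℕ → ℕ} (h : RepBy g f) {i : ℕ} (hi : i < 24) :
    idx (g (pt i)) = f i := by
  rw [h, idx_pt hi]

theorem RepBy.lt {g : Equiv.Perm GolayPt} {f : ℕ → ℕ} (h : RepBy g f) {i : ℕ} (hi : i < 24) :
    f i < 24 := by
  rw [← h.val hi]; exact idx_lt _

theorem RepBy.apply {g : Equiv.Perm GolayPt} {f : ℕ → ℕ} (h : RepBy g f) {i : ℕ} (hi : i < 24) :
    g (pt i) = pt (f i) := by
  apply idx_injective
  rw [h.val hi, idx_pt (h.lt hi)]

theorem RepBy.pow3 {g : Equiv.Perm GolayPt} {f : ℕ → ℕ} (h : RepBy g f) (h3 : g ^ 3 = 1) {i : ℕ} (hi : i < 24) :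
    f (f (f i)) = i := by
  have h1 : g (g (g (pt i))) = pt i := by
    have := congrArg (fun s : Equiv.Perm GolayPt => s (pt i)) h3
    simpa [pow_succ, Equiv.Perm.mul_apply] using this
  rw [h.apply hi, h.apply (h.lt hi), h.apply (h.lt (h.lt hi))] at h1
  exact pt_injOn (h.lt (h.lt (h.lt hi))) hi h1

theorem RepBy.pow2 {g : Equiv.Perm GolayPt} {f : ℕ → ℕ} (h : RepBy g f) (h2 : g ^ 2 = 1) {i : ℕ} (hi : i < 24) :
    f (f i) = i := by
  have h1 : g (g (pt i)) = pt i := by
    have := congrArg (fun s : Equiv.Perm GolayPt => s (pt i)) h2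
    simpa [pow_succ, Equiv.Perm.mul_apply] using this
  rw [h.apply hi, h.apply (h.lt hi)] at h1
  exact pt_injOn (h.lt (h.lt hi)) hi h1

theorem RepBy.fpf {g : Equiv.Perm GolayPt} {f : ℕ → ℕ} (h : RepBy g f) (h0 : ∀ p, g p ≠ p) {i : ℕ} (hi : i < 24) :
    f i ≠ i := by
  intro e
  apply h0 (pt i)
  rw [h.apply hi, e]

theorem eq_of_repBy {g h : Equiv.Perm GolayPt} {f f' : ℕ → ℕ} (hg : RepBy g f) (hh : RepBy h f')
    (e : ∀ i < 24, f i = f' i) : g = h := by
  apply Equiv.ext
  intro p
  apply idx_injective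
  rw [hg, hh, e _ (idx_lt p)]

theorem comm_of_repBy {k x g : Equiv.Perm GolayPt} {fk fx fg : ℕ → ℕ} (hk : RepBy k fk) (hx : RepBy x fx)
    (hg : RepBy g fg) (e : ∀ i < 24, fk (fx i) = fg (fk i)) : k * x = g * k :=
  eq_of_repBy (hk.mul hx) (hg.mul hk) e

/-- the function of a product of two codes -/
def fn2 (u s i : ℕ) : ℕ := ap u (ap s i)

theorem repBy_fn2 {u s : ℕ} (hu : valid u = true) (hs : valid s = true) :
    RepBy (decode u * decode s) (fn2 u s) :=
  (repBy_decode hu).mul (repBy_decode hs)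

theorem idxL_nodup : idxL.Nodup := by decide

/-- number of fixed points -/
theorem card_fixed_repBy {g : Equiv.Perm GolayPt} {f : ℕ → ℕ} (hg : RepBy g f) :
    (univ.filter fun p => g p = p).card = (idxL.filter fun i => Nat.beq (f i) i).length := by
  rw [← List.toFinset_card_of_nodup (idxL_nodup.filter _)]
  refine Finset.card_bij (fun p _ => idx p) ?_ ?_ ?_
  · intro p hp
    simp only [mem_filter, mem_univ, true_and] at hp
    simp only [List.mem_toFinset, List.mem_filter, mem_idxL, idx_lt, true_and, Nat.beq_eq]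
    rw [← hg, hp]
  · intro a _ b _ h
    exact idx_injective h
  · intro i hi
    simp only [List.mem_toFinset, List.mem_filter, mem_idxL, Nat.beq_eq] at hi
    refine ⟨pt i, ?_, idx_pt hi.1⟩
    simp only [mem_filter, mem_univ, true_and]
    rw [hg.apply hi.1, hi.2]

/-- number of fixed points of a code -/
def fixCount (f : ℕ → ℕ) : ℕ := (idxL.filter fun i => Nat.beq (f i) i).length

theorem card_fixed_conj (k g : Equiv.Perm GolayPt) :
    (univ.filter fun p => (k * g * k⁻¹) p = p).card = (univ.filter fun p => g p = p).card := by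
  apply Finset.card_bij (fun p _ => k⁻¹ p)
  · intro p hp
    simp only [mem_filter, mem_univ, true_and] at hp ⊢
    exact Equiv.Perm.eq_inv_iff_eq.2 hp
  · intro a _ b _ h
    exact (k⁻¹).injective h
  · intro b hb
    simp only [mem_filter, mem_univ, true_and] at hb
    refine ⟨k b, ?_, by simp⟩
    rw [mem_filter]
    refine ⟨mem_univ _, ?_⟩
    show k (g (k⁻¹ (k b))) = k b
    have h1 : k⁻¹ (k b) = b := by simp
    rw [h1, hb]

theorem exists_not_mem (A : Finset GolayPt) (h : A.card < 24) : ∃ p, p ∉ A := by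
  by_contra hcon
  have : A = univ := Finset.eq_univ_iff_forall.2 (fun p => by_contra fun hp => hcon ⟨p, hp⟩)
  rw [this, Finset.card_univ, card_pt] at h
  omega

/-! ### cosets of the five-point stabiliser -/

theorem exists_S48_of_agree {g u : Equiv.Perm GolayPt} (hg : g ∈ M24) (hu : u ∈ M24)
    (h : ∀ i ∈ [3,2,1,0,23], g (pt i) = u (pt i)) : ∃ s ∈ S48L, g = u * decode s := by
  have h1 : u⁻¹ * g ∈ G [3,2,1,0,23] := by
    refine ⟨M24.mul_mem (M24.inv_mem hu) hg, fun i hi => ?_⟩
    rw [Equiv.Perm.mul_apply, h i hi]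
    simp
  obtain ⟨s, hs, e⟩ := mem_S48L h1
  exact ⟨s, hs, by rw [← e]; group⟩

/-- a list of coset representatives with prescribed images of the four first base points, covering all possible
images of the fifth -/
def coverU (U : List ℕ) (a b c d : ℕ) (excl : List ℕ) : Bool :=
  (U.all fun u => isM24 u && Nat.beq (ap u 23) a && Nat.beq (ap u 0) b && Nat.beq (ap u 1) c && Nat.beq (ap u 2) d) &&
  (idxL.all fun q => excl.contains q || U.any fun u => Nat.beq (ap u 3) q)

theorem coverU_spec {U : List ℕ} {a b c d : ℕ} {excl : List ℕ} (hU : coverU U a b c d excl = true)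
    {g : Equiv.Perm GolayPt} (hg : g ∈ M24) (h23 : g (pt 23) = pt a) (h0 : g (pt 0) = pt b)
    (h1 : g (pt 1) = pt c) (h2 : g (pt 2) = pt d) (h3 : idx (g (pt 3)) ∉ excl) :
    ∃ u ∈ U, isM24 u = true ∧ ∃ s ∈ S48L, g = decode u * decode s := by
  simp only [coverU, Bool.and_eq_true, List.all_eq_true, Bool.or_eq_true, List.contains_iff_mem,
    List.any_eq_true] at hU
  obtain ⟨hU1, hU2⟩ := hU
  rcases hU2 _ (mem_idxL.2 (idx_lt (g (pt 3)))) with h | ⟨u, hu, hq⟩
  · exact absurd h h3
  · have hok := hU1 u hu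
    obtain ⟨⟨⟨⟨hm, e23⟩, e0⟩, e1⟩, e2⟩ := hok
    have hv := isM24_valid hm
    refine ⟨u, hu, hm, ?_⟩
    apply exists_S48_of_agree hg (decode_mem_M24 hm)
    intro i hi
    simp only [List.mem_cons, List.not_mem_nil, or_false] at hi
    rcases hi with rfl | rfl | rfl | rfl | rfl
    · rw [decode_pt hv (by norm_num), Nat.eq_of_beq_eq_true hq, pt_idx]
    · rw [decode_pt hv (by norm_num), Nat.eq_of_beq_eq_true e2, h2]
    · rw [decode_pt hv (by norm_num), Nat.eq_of_beq_eq_true e1, h1]
    · rw [decode_pt hv (by norm_num), Nat.eq_of_beq_eq_true e0, h0]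
    · rw [decode_pt hv (by norm_num), Nat.eq_of_beq_eq_true e23, h23]

/-! ### witnesses of conjugacy -/

/-- the witnesses conjugate `x` to the products -/
def WOK (x : ℕ) (W : List (ℕ × ℕ × ℕ)) : Bool :=
  W.all fun w => isM24 w.2.2 && idxL.all fun i => Nat.beq (ap w.2.2 (ap x i)) (fn2 w.1 w.2.1 (ap w.2.2 i))

/-- all products passing the test are in the list of witnesses -/
def WComplete (U S : List ℕ) (test : ℕ → ℕ → Bool) (W : List (ℕ × ℕ × ℕ)) : Bool :=
  U.all fun u => S.all fun s => !(test u s) || W.any fun w => Nat.beq u w.1 && Nat.beq s w.2.1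

theorem WComplete_spec {U S : List ℕ} {test : ℕ → ℕ → Bool} {W : List (ℕ × ℕ × ℕ)}
    (h : WComplete U S test W = true) {u s : ℕ} (hu : u ∈ U) (hs : s ∈ S) (ht : test u s = true) :
    ∃ k, (u, s, k) ∈ W := by
  simp only [WComplete, List.all_eq_true, Bool.or_eq_true, List.any_eq_true, Bool.and_eq_true, Bool.not_eq_true'] at h
  rcases h u hu s hs with h | ⟨⟨a, b, k⟩, hw, e1, e2⟩
  · rw [ht] at h; cases h
  · refine ⟨k, ?_⟩
    simp only at e1 e2
    rw [Nat.eq_of_beq_eq_true e1, Nat.eq_of_beq_eq_true e2]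
    exact hw

theorem WOK_spec {x : ℕ} {W : List (ℕ × ℕ × ℕ)} (h : WOK x W = true) (hx : valid x = true) {u s k : ℕ}
    (hu : valid u = true) (hs : valid s = true) (hw : (u, s, k) ∈ W) :
    ∃ k' ∈ M24, decode u * decode s = k' * decode x * k'⁻¹ := by
  simp only [WOK, List.all_eq_true, Bool.and_eq_true] at h
  obtain ⟨h1, h2⟩ := h _ hw
  simp only at h1 h2
  have hv := isM24_valid h1
  refine ⟨decode k, decode_mem_M24 h1, ?_⟩
  have := comm_of_repBy (repBy_decode hv) (repBy_decode hx) (repBy_fn2 hu hs) (fun i hi =>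
    Nat.eq_of_beq_eq_true (h2 i (mem_idxL.2 hi)))
  rw [this]; group

theorem S48L_isM24 : ∀ s ∈ S48L, isM24 s = true := by decide +kernel

/-! ### tests -/

/-- order dividing 3 -/
def ord3 (u s : ℕ) : Bool := idxL.all fun i => Nat.beq (fn2 u s (fn2 u s (fn2 u s i))) i

/-- order dividing 2 -/
def ord2 (u s : ℕ) : Bool := idxL.all fun i => Nat.beq (fn2 u s (fn2 u s i)) i

/-- no fixed points -/
def fpf2 (u s : ℕ) : Bool := idxL.all fun i => !(Nat.beq (fn2 u s i) i)

/-- not the identity -/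
def nontriv (u s : ℕ) : Bool := idxL.any fun i => !(Nat.beq (fn2 u s i) i)

theorem ord3_of {u s : ℕ} (hu : valid u = true) (hs : valid s = true) (h : (decode u * decode s) ^ 3 = 1) :
    ord3 u s = true := by
  simp only [ord3, List.all_eq_true, Nat.beq_eq]
  intro i hi
  exact (repBy_fn2 hu hs).pow3 h (mem_idxL.1 hi)

theorem ord2_of {u s : ℕ} (hu : valid u = true) (hs : valid s = true) (h : (decode u * decode s) ^ 2 = 1) :
    ord2 u s = true := by
  simp only [ord2, List.all_eq_true, Nat.beq_eq]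
  intro i hi
  exact (repBy_fn2 hu hs).pow2 h (mem_idxL.1 hi)

theorem fpf2_of {u s : ℕ} (hu : valid u = true) (hs : valid s = true) (h : ∀ p, (decode u * decode s) p ≠ p) :
    fpf2 u s = true := by
  simp only [fpf2, List.all_eq_true, Bool.not_eq_true']
  intro i hi
  have := (repBy_fn2 hu hs).fpf h (mem_idxL.1 hi)
  rw [Bool.eq_false_iff]
  intro h'
  exact this (Nat.eq_of_beq_eq_true h')

theorem nontriv_of {u s : ℕ} (hu : valid u = true) (hs : valid s = true) (h : decode u * decode s ≠ 1) :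
    nontriv u s = true := by
  by_contra hcon
  apply h
  simp only [nontriv, List.any_eq_true, Bool.not_eq_true', not_exists, not_and, Bool.not_eq_false] at hcon
  apply eq_of_repBy (repBy_fn2 hu hs) (f' := id) (fun p => rfl)
  intro i hi
  have := hcon i (mem_idxL.2 hi)
  exact Nat.eq_of_beq_eq_true this

theorem idC_valid : valid idC = true := by decide +kernel

theorem decode_idC : decode idC = 1 := by
  apply eq_of_repBy (repBy_decode idC_valid) (f' := id) (fun p => rfl)
  have : ∀ i ∈ idxL, ap idC i = i := by decide +kernel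
  exact fun i hi => this i (mem_idxL.2 hi)

theorem isM24_idC : isM24 idC = true := by decide +kernel

/-- fixed point count test -/
def fixC2 (u s : ℕ) : ℕ := fixCount (fn2 u s)

theorem card_fixed_fn2 {u s : ℕ} (hu : valid u = true) (hs : valid s = true) :
    (univ.filter fun p => (decode u * decode s) p = p).card = fixC2 u s :=
  card_fixed_repBy (repBy_fn2 hu hs)

/-! ### five fixed points -/

theorem exists_five_fixed {g : Equiv.Perm GolayPt} (h : 5 ≤ (univ.filter fun p => g p = p).card) :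
    ∃ P : Finset GolayPt, P.card = 5 ∧ ∀ p ∈ P, g p = p := by
  obtain ⟨P, hP, hc⟩ := Finset.exists_subset_card_eq h
  refine ⟨P, hc, fun p hp => ?_⟩
  have := hP hp
  simpa using this

/-- an element of `M24` with at least five fixed points is conjugate to an element of the explicit list -/
theorem exists_conj_S48 {g : Equiv.Perm GolayPt} (hg : g ∈ M24)
    (h : 5 ≤ (univ.filter fun p => g p = p).card) :
    ∃ k ∈ M24, ∃ s ∈ S48L, g = k * (decode idC * decode s) * k⁻¹ := by
  obtain ⟨P, hP, hfix⟩ := exists_five_fixed h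
  obtain ⟨k, hk, rfl⟩ := exists_smul_P0 P hP
  have h1 : k⁻¹ * g * k ∈ Fix P0 := by
    refine ⟨M24.mul_mem (M24.mul_mem (M24.inv_mem hk) hg) hk, fun p hp => ?_⟩
    have := hfix (k p) (Finset.mem_smul_finset.2 ⟨p, hp, rfl⟩)
    simp [Equiv.Perm.mul_apply, this]
  obtain ⟨s, hs, e⟩ := mem_S48L (mem_G_iff_Fix.2 h1)
  refine ⟨k, hk, s, hs, ?_⟩
  rw [decode_idC, one_mul, ← e]
  group

theorem W3A_ok0 : WOK X3A W3A0 = true := by decide +kernel
theorem W3A_ok1 : WOK X3Ai W3A1 = true := by decide +kernel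
theorem W3A_complete : WComplete [idC] S48L (fun u s => ord3 u s && nontriv u s) (W3A0 ++ W3A1) = true := by decide +kernel
theorem X3A_isM24 : isM24 X3A = true := by decide +kernel
theorem X3Ai_isM24 : isM24 X3Ai = true := by decide +kernel

theorem X3Ai_eq_inv : decode X3Ai = (decode X3A)⁻¹ := by
  rw [eq_inv_iff_mul_eq_one]
  have h1 := repBy_decode (isM24_valid X3Ai_isM24)
  have h2 := repBy_decode (isM24_valid X3A_isM24)
  apply eq_of_repBy (h1.mul h2) (f' := id) (fun p => rfl)
  have : ∀ i ∈ idxL, ap X3Ai (ap X3A i) = i := by decide +kernel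
  exact fun i hi => this i (mem_idxL.2 hi)

/-- class 3A -/
theorem class3A {g : Equiv.Perm GolayPt} (hg : g ∈ M24) (h3 : g ^ 3 = 1) (h1 : g ≠ 1)
    (h5 : 5 ≤ (univ.filter fun p => g p = p).card) :
    ∃ k ∈ M24, g = k * decode X3A * k⁻¹ ∨ g = k * (decode X3A)⁻¹ * k⁻¹ := by
  obtain ⟨k, hk, s, hs, e⟩ := exists_conj_S48 hg h5
  have hsv := isM24_valid (S48L_isM24 s hs)
  have hu := isM24_valid isM24_idC
  have e3 : (decode idC * decode s) ^ 3 = 1 := by
    have : (k * (decode idC * decode s) * k⁻¹) ^ 3 = 1 := by rw [← e, h3]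
    rw [conj_pow, conj_eq_one_iff] at this
    exact this
  have e1 : decode idC * decode s ≠ 1 := by
    intro h
    apply h1
    rw [e, h]; group
  have ht : (ord3 idC s && nontriv idC s) = true := by
    rw [Bool.and_eq_true]
    exact ⟨ord3_of hu hsv e3, nontriv_of hu hsv e1⟩
  obtain ⟨k1, hk1⟩ := WComplete_spec W3A_complete (List.mem_singleton.2 rfl) hs ht
  rcases List.mem_append.1 hk1 with hw | hw
  · obtain ⟨k2, hk2, e2⟩ := WOK_spec W3A_ok0 (isM24_valid X3A_isM24) hu hsv hw
    refine ⟨k * k2, M24.mul_mem hk hk2, Or.inl ?_⟩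
    rw [e, e2]; group
  · obtain ⟨k2, hk2, e2⟩ := WOK_spec W3A_ok1 (isM24_valid X3Ai_isM24) hu hsv hw
    refine ⟨k * k2, M24.mul_mem hk hk2, Or.inr ?_⟩
    rw [e, e2, X3Ai_eq_inv]; group

theorem W2A_ok : WOK Y2A W2A = true := by decide +kernel
theorem W2A_complete : WComplete [idC] S48L (fun u s => ord2 u s && nontriv u s) W2A = true := by decide +kernel
theorem Y2A_isM24 : isM24 Y2A = true := by decide +kernel

/-- class 2A -/
theorem class2A {g : Equiv.Perm GolayPt} (hg : g ∈ M24) (h2 : g ^ 2 = 1) (h1 : g ≠ 1)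
    (h5 : 5 ≤ (univ.filter fun p => g p = p).card) :
    ∃ k ∈ M24, g = k * decode Y2A * k⁻¹ := by
  obtain ⟨k, hk, s, hs, e⟩ := exists_conj_S48 hg h5
  have hsv := isM24_valid (S48L_isM24 s hs)
  have hu := isM24_valid isM24_idC
  have e3 : (decode idC * decode s) ^ 2 = 1 := by
    have : (k * (decode idC * decode s) * k⁻¹) ^ 2 = 1 := by rw [← e, h2]
    rw [conj_pow, conj_eq_one_iff] at this
    exact this
  have e1 : decode idC * decode s ≠ 1 := by
    intro h
    apply h1
    rw [e, h]; group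
  have ht : (ord2 idC s && nontriv idC s) = true := by
    rw [Bool.and_eq_true]
    exact ⟨ord2_of hu hsv e3, nontriv_of hu hsv e1⟩
  obtain ⟨k1, hk1⟩ := WComplete_spec W2A_complete (List.mem_singleton.2 rfl) hs ht
  obtain ⟨k2, hk2, e2⟩ := WOK_spec W2A_ok (isM24_valid Y2A_isM24) hu hsv hk1
  refine ⟨k * k2, M24.mul_mem hk hk2, ?_⟩
  rw [e, e2]; group

theorem cover3B : coverU U3B 0 1 23 3 [23,0,1,2,3] = true := by decide +kernel
theorem W3B_ok : WOK X3B W3B = true := by decide +kernel
theorem W3B_complete : WComplete U3B S48L (fun u s => ord3 u s && fpf2 u s) W3B = true := by decide +kernel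
theorem X3B_isM24 : isM24 X3B = true := by decide +kernel

/-- general tuple: `g` in `M24`, `k` in `M24` carrying the base points to points on which `g` is known -/
theorem conj_apply {g k : Equiv.Perm GolayPt} {a b : GolayPt} {i j : ℕ} (h1 : k (pt i) = a) (h2 : k (pt j) = b)
    (h : g a = b) : (k⁻¹ * g * k) (pt i) = pt j := by
  simp only [Equiv.Perm.mul_apply]
  rw [h1, h, Equiv.Perm.inv_eq_iff_eq, h2]

theorem conj_pow_inv (k g : Equiv.Perm GolayPt) (n : ℕ) : (k⁻¹ * g * k) ^ n = k⁻¹ * g ^ n * k := by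
  have := conj_pow (a := k⁻¹) (b := g) (i := n)
  simpa using this

/-- class 3B -/
theorem class3B {g : Equiv.Perm GolayPt} (hg : g ∈ M24) (h3 : g ^ 3 = 1) (h0 : ∀ p, g p ≠ p) :
    ∃ k ∈ M24, g = k * decode X3B * k⁻¹ := by
  have h33 : ∀ p, g (g (g p)) = p := by
    intro p
    have := congrArg (fun s : Equiv.Perm GolayPt => s p) h3
    simpa [pow_succ, Equiv.Perm.mul_apply] using this
  let a : GolayPt := pt 23
  have hab : a ≠ g a := (h0 a).symm
  have hbc : g a ≠ g (g a) := (h0 _).symm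
  have hac : a ≠ g (g a) := by
    intro h
    apply h0 (g (g a))
    rw [h33]
    exact h
  obtain ⟨d, hd⟩ := exists_not_mem {a, g a, g (g a)} (lt_of_le_of_lt (Finset.card_le_three) (by norm_num))
  simp only [mem_insert, mem_singleton, not_or] at hd
  obtain ⟨hda, hdb, hdc⟩ := hd
  have hea : g d ≠ a := by
    intro h
    apply hdc
    rw [← h33 d, h]
  have heb : g d ≠ g a := fun h => hda (g.injective h)
  have hec : g d ≠ g (g a) := fun h => hdb (g.injective h)
  have hfa : g (g d) ≠ a := by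
    intro h
    apply hdb
    rw [← h33 d, h]
  have hfb : g (g d) ≠ g a := fun h => hea (g.injective h)
  have hfc : g (g d) ≠ g (g a) := fun h => heb (g.injective h)
  have hfd : g (g d) ≠ d := by
    intro h
    apply h0 (g (g d))
    rw [h33]
    exact h.symm
  obtain ⟨k, hk, e1, e2, e3, e4, e5⟩ := exists_M24_five a (g a) (g (g a)) d (g d) hab hac (Ne.symm hda) (Ne.symm hea)
    hbc (Ne.symm hdb) (Ne.symm heb) (Ne.symm hdc) (Ne.symm hec) (h0 d).symm
  have hg' : k⁻¹ * g * k ∈ M24 := M24.mul_mem (M24.mul_mem (M24.inv_mem hk) hg) hk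
  have i1 := conj_apply (g := g) e1 e2 rfl
  have i2 := conj_apply (g := g) e2 e3 rfl
  have i3 := conj_apply (g := g) e3 e1 (h33 a)
  have i4 := conj_apply (g := g) e4 e5 rfl
  have hq : idx ((k⁻¹ * g * k) (pt 3)) ∉ [23,0,1,2,3] := by
    have hq' : ∀ i ∈ [23,0,1,2,3], i < 24 := by decide
    intro hmem
    have h5 : (k⁻¹ * g * k) (pt 3) = pt (idx ((k⁻¹ * g * k) (pt 3))) := (pt_idx _).symm
    have h6 : ∀ i ∈ [23,0,1,2,3], (k⁻¹ * g * k) (pt 3) ≠ pt i := by
      intro i hi
      simp only [List.mem_cons, List.not_mem_nil, or_false] at hi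
      simp only [Equiv.Perm.mul_apply]
      rw [e5, Ne, Equiv.Perm.inv_eq_iff_eq]
      rcases hi with rfl | rfl | rfl | rfl | rfl
      · rw [e1]; exact hfa
      · rw [e2]; exact hfb
      · rw [e3]; exact hfc
      · rw [e4]; exact hfd
      · rw [e5]; exact h0 _
    apply h6 _ hmem
    exact h5
  obtain ⟨u, hu, hm, s, hs, e⟩ := coverU_spec cover3B hg' i1 i2 i3 i4 hq
  have huv := isM24_valid hm
  have hsv := isM24_valid (S48L_isM24 s hs)
  have e3' : (decode u * decode s) ^ 3 = 1 := by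
    rw [← e, conj_pow_inv, h3]
    group
  have e0' : ∀ p, (decode u * decode s) p ≠ p := by
    intro p hp
    rw [← e] at hp
    simp only [Equiv.Perm.mul_apply] at hp
    rw [Equiv.Perm.inv_eq_iff_eq] at hp
    exact h0 _ hp
  have ht : (ord3 u s && fpf2 u s) = true := by
    rw [Bool.and_eq_true]
    exact ⟨ord3_of huv hsv e3', fpf2_of huv hsv e0'⟩
  obtain ⟨k1, hk1⟩ := WComplete_spec W3B_complete hu hs ht
  obtain ⟨k2, hk2, e2'⟩ := WOK_spec W3B_ok (isM24_valid X3B_isM24) huv hsv hk1
  refine ⟨k * k2, M24.mul_mem hk hk2, ?_⟩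
  rw [← e] at e2'
  have : g = k * (k⁻¹ * g * k) * k⁻¹ := by group
  rw [this, e2']; group

theorem cover2B : coverU U2B 0 23 2 1 [23,0,1,2,3] = true := by decide +kernel
theorem W2B_ok : WOK Z2B W2B = true := by decide +kernel
theorem W2B_complete : WComplete U2B S48L (fun u s => ord2 u s && fpf2 u s) W2B = true := by decide +kernel
theorem Z2B_isM24 : isM24 Z2B = true := by decide +kernel

/-- class 2B -/
theorem class2B {g : Equiv.Perm GolayPt} (hg : g ∈ M24) (h2 : g ^ 2 = 1) (h0 : ∀ p, g p ≠ p) :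
    ∃ k ∈ M24, g = k * decode Z2B * k⁻¹ := by
  have h22 : ∀ p, g (g p) = p := by
    intro p
    have := congrArg (fun s : Equiv.Perm GolayPt => s p) h2
    simpa [pow_succ, Equiv.Perm.mul_apply] using this
  let a : GolayPt := pt 23
  have hab : a ≠ g a := (h0 a).symm
  obtain ⟨d, hd⟩ := exists_not_mem {a, g a} (lt_of_le_of_lt (Finset.card_le_two) (by norm_num))
  simp only [mem_insert, mem_singleton, not_or] at hd
  obtain ⟨hda, hdb⟩ := hd
  have hea : g d ≠ a := by
    intro h
    apply hdb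
    rw [← h22 d, h]
  have heb : g d ≠ g a := fun h => hda (g.injective h)
  obtain ⟨c, hc⟩ := exists_not_mem {a, g a, d, g d} (lt_of_le_of_lt (Finset.card_le_four) (by norm_num))
  simp only [mem_insert, mem_singleton, not_or] at hc
  obtain ⟨hca, hcb, hcd, hce⟩ := hc
  obtain ⟨k, hk, e1, e2, e3, e4, e5⟩ := exists_M24_five a (g a) d (g d) c hab (Ne.symm hda) (Ne.symm hea) (Ne.symm hca)
    (Ne.symm hdb) (Ne.symm heb) (Ne.symm hcb) (h0 d).symm (Ne.symm hcd) (Ne.symm hce)
  have hg' : k⁻¹ * g * k ∈ M24 := M24.mul_mem (M24.mul_mem (M24.inv_mem hk) hg) hk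
  have i1 := conj_apply (g := g) e1 e2 rfl
  have i2 := conj_apply (g := g) e2 e1 (h22 a)
  have i3 := conj_apply (g := g) e3 e4 rfl
  have i4 := conj_apply (g := g) e4 e3 (h22 d)
  have hq : idx ((k⁻¹ * g * k) (pt 3)) ∉ [23,0,1,2,3] := by
    intro hmem
    have h5 : (k⁻¹ * g * k) (pt 3) = pt (idx ((k⁻¹ * g * k) (pt 3))) := (pt_idx _).symm
    have h6 : ∀ i ∈ [23,0,1,2,3], (k⁻¹ * g * k) (pt 3) ≠ pt i := by
      intro i hi
      simp only [List.mem_cons, List.not_mem_nil, or_false] at hi
      simp only [Equiv.Perm.mul_apply]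
      rw [e5, Ne, Equiv.Perm.inv_eq_iff_eq]
      rcases hi with rfl | rfl | rfl | rfl | rfl
      · rw [e1]; intro h; apply hcb; rw [← h22 c, h]
      · rw [e2]; intro h; apply hca; exact g.injective h
      · rw [e3]; intro h; apply hce; rw [← h22 c, h]
      · rw [e4]; intro h; apply hcd; exact g.injective h
      · rw [e5]; exact h0 _
    apply h6 _ hmem
    exact h5
  obtain ⟨u, hu, hm, s, hs, e⟩ := coverU_spec cover2B hg' i1 i2 i3 i4 hq
  have huv := isM24_valid hm
  have hsv := isM24_valid (S48L_isM24 s hs)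
  have e3' : (decode u * decode s) ^ 2 = 1 := by
    rw [← e, conj_pow_inv, h2]
    group
  have e0' : ∀ p, (decode u * decode s) p ≠ p := by
    intro p hp
    rw [← e] at hp
    simp only [Equiv.Perm.mul_apply] at hp
    rw [Equiv.Perm.inv_eq_iff_eq] at hp
    exact h0 _ hp
  have ht : (ord2 u s && fpf2 u s) = true := by
    rw [Bool.and_eq_true]
    exact ⟨ord2_of huv hsv e3', fpf2_of huv hsv e0'⟩
  obtain ⟨k1, hk1⟩ := WComplete_spec W2B_complete hu hs ht
  obtain ⟨k2, hk2, e2'⟩ := WOK_spec W2B_ok (isM24_valid Z2B_isM24) huv hsv hk1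
  refine ⟨k * k2, M24.mul_mem hk hk2, ?_⟩
  rw [← e] at e2'
  have : g = k * (k⁻¹ * g * k) * k⁻¹ := by group
  rw [this, e2']; group

/-! ### fixed points of the representatives -/

theorem X3A_fix : (univ.filter fun p => decode X3A p = p).card = 6 := by
  rw [card_fixed_repBy (repBy_decode (isM24_valid X3A_isM24))]
  decide +kernel

theorem X3B_fix : (univ.filter fun p => decode X3B p = p).card = 0 := by
  rw [card_fixed_repBy (repBy_decode (isM24_valid X3B_isM24))]
  decide +kernel

theorem Y2A_fix : (univ.filter fun p => decode Y2A p = p).card = 8 := by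
  rw [card_fixed_repBy (repBy_decode (isM24_valid Y2A_isM24))]
  decide +kernel

theorem Z2B_fix : (univ.filter fun p => decode Z2B p = p).card = 0 := by
  rw [card_fixed_repBy (repBy_decode (isM24_valid Z2B_isM24))]
  decide +kernel

theorem card_fixed_inv (g : Equiv.Perm GolayPt) :
    (univ.filter fun p => g⁻¹ p = p).card = (univ.filter fun p => g p = p).card := by
  congr 1
  ext p
  simp only [mem_filter, mem_univ, true_and]
  rw [Equiv.Perm.inv_eq_iff_eq]
  exact eq_comm

/-! ### excluding other numbers of fixed points -/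

/-- a finite test on the products -/
def noneProd (U S : List ℕ) (test : ℕ → ℕ → Bool) : Bool :=
  U.all fun u => S.all fun s => !(test u s)

theorem noneProd_spec {U S : List ℕ} {test : ℕ → ℕ → Bool} (h : noneProd U S test = true) {u s : ℕ}
    (hu : u ∈ U) (hs : s ∈ S) : test u s = false := by
  simp only [noneProd, List.all_eq_true, Bool.not_eq_true'] at h
  exact h u hu s hs

theorem fix3_none : noneProd Ufix3 S48L (fun u s => ord3 u s && Nat.beq (fixC2 u s) 3) = true := by decide +kernel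
theorem fix4_none : noneProd Ufix4 S48L (fun u s => ord2 u s && Nat.beq (fixC2 u s) 4) = true := by decide +kernel
theorem fix2_none : noneProd Ufix2 S48L (fun u s => ord2 u s && Nat.beq (fixC2 u s) 2) = true := by decide +kernel
theorem cover_fix3 : coverU Ufix3 23 0 1 3 [23,0,1,2,3] = true := by decide +kernel
theorem cover_fix4 : coverU Ufix4 23 0 1 2 [23,0,1,2] = true := by decide +kernel
theorem cover_fix2 : coverU Ufix2 23 0 2 1 [23,0,1,2,3] = true := by decide +kernel

/-- no element of order three with three fixed points -/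
theorem not_fix3 {g : Equiv.Perm GolayPt} (hg : g ∈ M24) (h3 : g ^ 3 = 1)
    (hf : (univ.filter fun p => g p = p).card = 3) : False := by
  have h33 : ∀ p, g (g (g p)) = p := by
    intro p
    have := congrArg (fun s : Equiv.Perm GolayPt => s p) h3
    simpa [pow_succ, Equiv.Perm.mul_apply] using this
  obtain ⟨a, b, c, hab, hac, hbc, e⟩ := Finset.card_eq_three.1 hf
  have hmem : ∀ p, g p = p ↔ p = a ∨ p = b ∨ p = c := by
    intro p
    have : p ∈ (univ.filter fun p => g p = p) ↔ g p = p := by simp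
    rw [← this, e]
    simp
  have ha := (hmem a).2 (Or.inl rfl)
  have hb := (hmem b).2 (Or.inr (Or.inl rfl))
  have hc := (hmem c).2 (Or.inr (Or.inr rfl))
  obtain ⟨d, hd⟩ := exists_not_mem {a, b, c} (lt_of_le_of_lt (Finset.card_le_three) (by norm_num))
  simp only [mem_insert, mem_singleton, not_or] at hd
  obtain ⟨hda, hdb, hdc⟩ := hd
  have hdf : g d ≠ d := fun h => by
    rcases (hmem d).1 h with h | h | h
    · exact hda h
    · exact hdb h
    · exact hdc h
  have hne : ∀ {x y : GolayPt}, g y = y → x ≠ y → g x ≠ y := by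
    intro x y hy hxy h
    apply hxy
    apply g.injective
    rw [h, hy]
  have hne2 : ∀ {x y : GolayPt}, g y = y → x ≠ y → g (g x) ≠ y := by
    intro x y hy hxy h
    exact hne hy hxy (g.injective (h.trans hy.symm))
  have hfd : g (g d) ≠ d := by
    intro h
    apply hdf
    have := h33 d
    rw [h] at this
    exact this
  obtain ⟨k, hk, e1, e2, e3, e4, e5⟩ := exists_M24_five a b c d (g d) hab hac (Ne.symm hda) (Ne.symm (hne ha hda)) hbc
    (Ne.symm hdb) (Ne.symm (hne hb hdb)) (Ne.symm hdc) (Ne.symm (hne hc hdc)) hdf.symm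
  have hg' : k⁻¹ * g * k ∈ M24 := M24.mul_mem (M24.mul_mem (M24.inv_mem hk) hg) hk
  have i1 := conj_apply (g := g) e1 e1 ha
  have i2 := conj_apply (g := g) e2 e2 hb
  have i3 := conj_apply (g := g) e3 e3 hc
  have i4 := conj_apply (g := g) e4 e5 rfl
  have hq : idx ((k⁻¹ * g * k) (pt 3)) ∉ [23,0,1,2,3] := by
    intro hmem'
    have h5 : (k⁻¹ * g * k) (pt 3) = pt (idx ((k⁻¹ * g * k) (pt 3))) := (pt_idx _).symm
    have h6 : ∀ i ∈ [23,0,1,2,3], (k⁻¹ * g * k) (pt 3) ≠ pt i := by
      intro i hi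
      simp only [List.mem_cons, List.not_mem_nil, or_false] at hi
      simp only [Equiv.Perm.mul_apply]
      rw [e5, Ne, Equiv.Perm.inv_eq_iff_eq]
      rcases hi with rfl | rfl | rfl | rfl | rfl
      · rw [e1]; exact hne2 ha hda
      · rw [e2]; exact hne2 hb hdb
      · rw [e3]; exact hne2 hc hdc
      · rw [e4]; exact hfd
      · rw [e5]; exact fun h => hdf (g.injective h)
    apply h6 _ hmem'
    exact h5
  obtain ⟨u, hu, hm, s, hs, e'⟩ := coverU_spec cover_fix3 hg' i1 i2 i3 i4 hq
  have huv := isM24_valid hm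
  have hsv := isM24_valid (S48L_isM24 s hs)
  have e3' : (decode u * decode s) ^ 3 = 1 := by
    rw [← e', conj_pow_inv, h3]
    group
  have hfix : fixC2 u s = 3 := by
    rw [← card_fixed_fn2 huv hsv, ← e']
    have h7 : (k⁻¹ * g * k) = k⁻¹ * g * k⁻¹⁻¹ := by group
    rw [h7, card_fixed_conj k⁻¹ g, hf]
  have ht := noneProd_spec fix3_none hu hs
  simp only [ord3_of huv hsv e3', hfix, Bool.true_and] at ht
  exact absurd ht (by decide)

/-- no involution with four fixed points -/
theorem not_fix4 {g : Equiv.Perm GolayPt} (hg : g ∈ M24) (h2 : g ^ 2 = 1)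
    (hf : (univ.filter fun p => g p = p).card = 4) : False := by
  have h22 : ∀ p, g (g p) = p := by
    intro p
    have := congrArg (fun s : Equiv.Perm GolayPt => s p) h2
    simpa [pow_succ, Equiv.Perm.mul_apply] using this
  obtain ⟨a, b, c, e', hab, hac, hae, hbc, hbe, hce, e⟩ := Finset.card_eq_four.1 hf
  have hmem : ∀ p, g p = p ↔ p = a ∨ p = b ∨ p = c ∨ p = e' := by
    intro p
    have : p ∈ (univ.filter fun p => g p = p) ↔ g p = p := by simp
    rw [← this, e]
    simp
  have ha := (hmem a).2 (Or.inl rfl)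
  have hb := (hmem b).2 (Or.inr (Or.inl rfl))
  have hc := (hmem c).2 (Or.inr (Or.inr (Or.inl rfl)))
  have he := (hmem e').2 (Or.inr (Or.inr (Or.inr rfl)))
  obtain ⟨d, hd⟩ := exists_not_mem {a, b, c, e'} (lt_of_le_of_lt (Finset.card_le_four) (by norm_num))
  simp only [mem_insert, mem_singleton, not_or] at hd
  obtain ⟨hda, hdb, hdc, hde⟩ := hd
  obtain ⟨k, hk, e1, e2, e3, e4, e5⟩ := exists_M24_five a b c e' d hab hac hae (Ne.symm hda) hbc hbe
    (Ne.symm hdb) hce (Ne.symm hdc) (Ne.symm hde)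
  have hg' : k⁻¹ * g * k ∈ M24 := M24.mul_mem (M24.mul_mem (M24.inv_mem hk) hg) hk
  have i1 := conj_apply (g := g) e1 e1 ha
  have i2 := conj_apply (g := g) e2 e2 hb
  have i3 := conj_apply (g := g) e3 e3 hc
  have i4 := conj_apply (g := g) e4 e4 he
  have hne : ∀ {x y : GolayPt}, g y = y → x ≠ y → g x ≠ y := by
    intro x y hy hxy h
    apply hxy
    apply g.injective
    rw [h, hy]
  have hq : idx ((k⁻¹ * g * k) (pt 3)) ∉ [23,0,1,2] := by
    intro hmem'
    have h5 : (k⁻¹ * g * k) (pt 3) = pt (idx ((k⁻¹ * g * k) (pt 3))) := (pt_idx _).symm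
    have h6 : ∀ i ∈ [23,0,1,2], (k⁻¹ * g * k) (pt 3) ≠ pt i := by
      intro i hi
      simp only [List.mem_cons, List.not_mem_nil, or_false] at hi
      simp only [Equiv.Perm.mul_apply]
      rw [e5, Ne, Equiv.Perm.inv_eq_iff_eq]
      rcases hi with rfl | rfl | rfl | rfl
      · rw [e1]; exact hne ha hda
      · rw [e2]; exact hne hb hdb
      · rw [e3]; exact hne hc hdc
      · rw [e4]; exact hne he hde
    apply h6 _ hmem'
    exact h5
  obtain ⟨u, hu, hm, s, hs, e6⟩ := coverU_spec cover_fix4 hg' i1 i2 i3 i4 hq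
  have huv := isM24_valid hm
  have hsv := isM24_valid (S48L_isM24 s hs)
  have e3' : (decode u * decode s) ^ 2 = 1 := by
    rw [← e6, conj_pow_inv, h2]
    group
  have hfix : fixC2 u s = 4 := by
    rw [← card_fixed_fn2 huv hsv, ← e6]
    have h7 : (k⁻¹ * g * k) = k⁻¹ * g * k⁻¹⁻¹ := by group
    rw [h7, card_fixed_conj k⁻¹ g, hf]
  have ht := noneProd_spec fix4_none hu hs
  simp only [ord2_of huv hsv e3', hfix, Bool.true_and] at ht
  exact absurd ht (by decide)

/-- no involution with two fixed points -/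
theorem not_fix2 {g : Equiv.Perm GolayPt} (hg : g ∈ M24) (h2 : g ^ 2 = 1)
    (hf : (univ.filter fun p => g p = p).card = 2) : False := by
  have h22 : ∀ p, g (g p) = p := by
    intro p
    have := congrArg (fun s : Equiv.Perm GolayPt => s p) h2
    simpa [pow_succ, Equiv.Perm.mul_apply] using this
  obtain ⟨a, b, hab, e⟩ := Finset.card_eq_two.1 hf
  have hmem : ∀ p, g p = p ↔ p = a ∨ p = b := by
    intro p
    have : p ∈ (univ.filter fun p => g p = p) ↔ g p = p := by simp
    rw [← this, e]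
    simp
  have ha := (hmem a).2 (Or.inl rfl)
  have hb := (hmem b).2 (Or.inr rfl)
  obtain ⟨c, hc⟩ := exists_not_mem {a, b} (lt_of_le_of_lt (Finset.card_le_two) (by norm_num))
  simp only [mem_insert, mem_singleton, not_or] at hc
  obtain ⟨hca, hcb⟩ := hc
  have hnf : ∀ x, x ≠ a → x ≠ b → g x ≠ x := fun x h1 h2 h => by
    rcases (hmem x).1 h with h | h
    · exact h1 h
    · exact h2 h
  have hne : ∀ {x y : GolayPt}, g y = y → x ≠ y → g x ≠ y := by
    intro x y hy hxy h
    apply hxy
    apply g.injective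
    rw [h, hy]
  have hca' := hne ha hca
  have hcb' := hne hb hcb
  obtain ⟨d, hd⟩ := exists_not_mem {a, b, c, g c} (lt_of_le_of_lt (Finset.card_le_four) (by norm_num))
  simp only [mem_insert, mem_singleton, not_or] at hd
  obtain ⟨hda, hdb, hdc, hdgc⟩ := hd
  obtain ⟨k, hk, e1, e2, e3, e4, e5⟩ := exists_M24_five a b c (g c) d hab (Ne.symm hca) (Ne.symm hca') (Ne.symm hda)
    (Ne.symm hcb) (Ne.symm hcb') (Ne.symm hdb) (hnf c hca hcb).symm (Ne.symm hdc) (Ne.symm hdgc)
  have hg' : k⁻¹ * g * k ∈ M24 := M24.mul_mem (M24.mul_mem (M24.inv_mem hk) hg) hk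
  have i1 := conj_apply (g := g) e1 e1 ha
  have i2 := conj_apply (g := g) e2 e2 hb
  have i3 := conj_apply (g := g) e3 e4 rfl
  have i4 := conj_apply (g := g) e4 e3 (h22 c)
  have hq : idx ((k⁻¹ * g * k) (pt 3)) ∉ [23,0,1,2,3] := by
    intro hmem'
    have h5 : (k⁻¹ * g * k) (pt 3) = pt (idx ((k⁻¹ * g * k) (pt 3))) := (pt_idx _).symm
    have h6 : ∀ i ∈ [23,0,1,2,3], (k⁻¹ * g * k) (pt 3) ≠ pt i := by
      intro i hi
      simp only [List.mem_cons, List.not_mem_nil, or_false] at hi
      simp only [Equiv.Perm.mul_apply]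
      rw [e5, Ne, Equiv.Perm.inv_eq_iff_eq]
      rcases hi with rfl | rfl | rfl | rfl | rfl
      · rw [e1]; exact hne ha hda
      · rw [e2]; exact hne hb hdb
      · rw [e3]; intro h; apply hdgc; rw [← h, h22]
      · rw [e4]; intro h; exact hdc (g.injective h)
      · rw [e5]; exact hnf d hda hdb
    apply h6 _ hmem'
    exact h5
  obtain ⟨u, hu, hm, s, hs, e6⟩ := coverU_spec cover_fix2 hg' i1 i2 i3 i4 hq
  have huv := isM24_valid hm
  have hsv := isM24_valid (S48L_isM24 s hs)
  have e3' : (decode u * decode s) ^ 2 = 1 := by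
    rw [← e6, conj_pow_inv, h2]
    group
  have hfix : fixC2 u s = 2 := by
    rw [← card_fixed_fn2 huv hsv, ← e6]
    have h7 : (k⁻¹ * g * k) = k⁻¹ * g * k⁻¹⁻¹ := by group
    rw [h7, card_fixed_conj k⁻¹ g, hf]
  have ht := noneProd_spec fix2_none hu hs
  simp only [ord2_of huv hsv e3', hfix, Bool.true_and] at ht
  exact absurd ht (by decide)

/-- the number of fixed points of an element of prime order is congruent to `24` -/
theorem card_fixed_modEq {p : ℕ} [hp : Fact p.Prime] {g : Equiv.Perm GolayPt} (h : g ^ p = 1) :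
    (univ.filter fun x => g x = x).card ≡ 24 [MOD p] := by
  let f : Function.End GolayPt := (⇑g : GolayPt → GolayPt)
  have hpow : ∀ n : ℕ, (f ^ n : Function.End GolayPt) = (⇑(g ^ n) : GolayPt → GolayPt) := by
    intro n
    induction n with
    | zero => rfl
    | succ n ih =>
      rw [pow_succ, pow_succ, ih]
      rfl
  have hf : f ^ p ^ 1 = 1 := by
    rw [pow_one, hpow, h]
    rfl
  have := Equiv.Perm.card_fixedPoints_modEq hf
  rw [card_pt] at this
  refine Nat.ModEq.symm (this.trans ?_)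
  rw [Fintype.card_subtype]
  rfl

/-- order three: `6` or `0` fixed points -/
theorem order3_fix {g : Equiv.Perm GolayPt} (hg : g ∈ M24) (h3 : g ^ 3 = 1) (h1 : g ≠ 1) :
    (univ.filter fun p => g p = p).card = 6 ∨ (univ.filter fun p => g p = p).card = 0 := by
  by_cases h5 : 5 ≤ (univ.filter fun p => g p = p).card
  · left
    obtain ⟨k, hk, e | e⟩ := class3A hg h3 h1 h5
    · rw [e, card_fixed_conj, X3A_fix]
    · rw [e, card_fixed_conj, card_fixed_inv, X3A_fix]
  · have h2 := card_fixed_modEq (p := 3) (g := g) h3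
    by_cases h0 : (univ.filter fun p => g p = p).card = 0
    · exact Or.inr h0
    · exfalso
      have hmod : (univ.filter fun p => g p = p).card % 3 = 0 := h2
      have h4 : (univ.filter fun p => g p = p).card = 3 := by omega
      exact not_fix3 hg h3 h4

/-- order two: `8` or `0` fixed points -/
theorem order2_fix {g : Equiv.Perm GolayPt} (hg : g ∈ M24) (h2 : g ^ 2 = 1) (h1 : g ≠ 1) :
    (univ.filter fun p => g p = p).card = 8 ∨ (univ.filter fun p => g p = p).card = 0 := by
  by_cases h5 : 5 ≤ (univ.filter fun p => g p = p).card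
  · left
    obtain ⟨k, hk, e⟩ := class2A hg h2 h1 h5
    rw [e, card_fixed_conj, Y2A_fix]
  · have h3 := card_fixed_modEq (p := 2) (g := g) h2
    by_cases h0 : (univ.filter fun p => g p = p).card = 0
    · exact Or.inr h0
    · exfalso
      have hmod : (univ.filter fun p => g p = p).card % 2 = 0 := h3
      have h4 : (univ.filter fun p => g p = p).card = 2 ∨ (univ.filter fun p => g p = p).card = 4 := by omega
      rcases h4 with h4 | h4
      · exact not_fix2 hg h2 h4
      · exact not_fix4 hg h2 h4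

/-! ### invariant objects -/

theorem smul_mem_sextets {g : Equiv.Perm GolayPt} (hg : g ∈ M24) {S : Finset (Finset GolayPt)} (hS : S ∈ sextets) :
    g • S ∈ sextets := by
  obtain ⟨h1, h2, h3⟩ := hS
  refine ⟨by rw [Finset.card_smul_finset, h1], ?_, ?_⟩
  · intro t ht
    obtain ⟨t', ht', rfl⟩ := Finset.mem_smul_finset.1 ht
    rw [Finset.card_smul_finset, h2 _ ht']
  · intro t ht u hu hne
    obtain ⟨t', ht', rfl⟩ := Finset.mem_smul_finset.1 ht
    obtain ⟨u', hu', rfl⟩ := Finset.mem_smul_finset.1 hu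
    rw [← Finset.smul_finset_union]
    exact smul_mem_octads hg (h3 _ ht' _ hu' (fun e => hne (by rw [e])))

theorem smul_mem_trios {g : Equiv.Perm GolayPt} (hg : g ∈ M24) {T : Finset (Finset GolayPt)} (hT : T ∈ trios) :
    g • T ∈ trios := by
  obtain ⟨h1, h2, h3⟩ := hT
  refine ⟨by rw [Finset.card_smul_finset, h1], ?_, ?_⟩
  · intro t ht
    obtain ⟨t', ht', rfl⟩ := Finset.mem_smul_finset.1 ht
    exact smul_mem_octads hg (h2 _ ht')
  · intro t ht u hu hne
    obtain ⟨t', ht', rfl⟩ := Finset.mem_smul_finset.1 ht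
    obtain ⟨u', hu', rfl⟩ := Finset.mem_smul_finset.1 hu
    have h4 := h3 _ ht' _ hu' (fun e => hne (by rw [e]))
    rw [Finset.disjoint_left] at h4 ⊢
    intro x hx hx'
    obtain ⟨y, hy, rfl⟩ := Finset.mem_smul_finset.1 hx
    obtain ⟨z, hz, e⟩ := Finset.mem_smul_finset.1 hx'
    have : z = y := MulAction.injective g e
    exact h4 hy (this ▸ hz)

/-- conjugate elements have as many invariant objects in an invariant family -/
theorem ncard_fix_conj {X : Type*} [MulAction (Equiv.Perm GolayPt) X] (A : Set X)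
    (hA : ∀ g ∈ M24, ∀ x ∈ A, g • x ∈ A) {k g : Equiv.Perm GolayPt} (hk : k ∈ M24) :
    {x | x ∈ A ∧ (k * g * k⁻¹) • x = x}.ncard = {x | x ∈ A ∧ g • x = x}.ncard := by
  have : {x | x ∈ A ∧ (k * g * k⁻¹) • x = x} = (fun x => k • x) '' {x | x ∈ A ∧ g • x = x} := by
    ext x
    constructor
    · rintro ⟨h1, h2⟩
      refine ⟨k⁻¹ • x, ⟨hA _ (M24.inv_mem hk) _ h1, ?_⟩, by simp⟩
      have : k⁻¹ • ((k * g * k⁻¹) • x) = k⁻¹ • x := by rw [h2]
      rw [smul_smul] at this ⊢
      rw [← this]
      congr 1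
      group
    · rintro ⟨y, ⟨h1, h2⟩, rfl⟩
      refine ⟨hA _ hk _ h1, ?_⟩
      show (k * g * k⁻¹) • k • y = k • y
      rw [smul_smul]
      have : k * g * k⁻¹ * k = k * g := by group
      rw [this, mul_smul, h2]
  rw [this]
  exact Set.ncard_image_of_injective _ (MulAction.injective k)

/-- inverse elements have the same invariant objects -/
theorem ncard_fix_inv {X : Type*} [MulAction (Equiv.Perm GolayPt) X] (A : Set X) (g : Equiv.Perm GolayPt) :
    {x | x ∈ A ∧ g⁻¹ • x = x}.ncard = {x | x ∈ A ∧ g • x = x}.ncard := by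
  congr 1
  ext x
  simp only [Set.mem_setOf_eq, inv_smul_eq_iff]
  constructor
  · rintro ⟨h1, h2⟩; exact ⟨h1, h2.symm⟩
  · rintro ⟨h1, h2⟩; exact ⟨h1, h2.symm⟩

theorem octads_inv : ∀ g ∈ M24, ∀ x ∈ octads, g • x ∈ octads := fun _ hg _ hx => smul_mem_octads hg hx
theorem dodecads_inv : ∀ g ∈ M24, ∀ x ∈ dodecads, g • x ∈ dodecads := fun _ hg _ hx => smul_mem_dodecads hg hx
theorem sextets_inv : ∀ g ∈ M24, ∀ x ∈ sextets, g • x ∈ sextets := fun _ hg _ hx => smul_mem_sextets hg hx
theorem trios_inv : ∀ g ∈ M24, ∀ x ∈ trios, g • x ∈ trios := fun _ hg _ hx => smul_mem_trios hg hx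

/-! ### counting -/

theorem lt_of_mem_octL' {m : ℕ} (h : m ∈ octL) : m < 2 ^ 24 := allLt_spec (by decide +kernel) m h
theorem lt_of_mem_dodL' {m : ℕ} (h : m ∈ dodL) : m < 2 ^ 24 := allLt_spec (by decide +kernel) m h

theorem ncard_octads_code {c : ℕ} (hv : valid c = true) :
    {o | o ∈ octads ∧ decode c • o = o}.ncard = (octL.filter (maskInv c)).length :=
  ncard_octads_filter _ _ fun m hm => maskInv_spec hv (lt_of_mem_octL' hm)

theorem ncard_dodecads_code {c : ℕ} (hv : valid c = true) :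
    {o | o ∈ dodecads ∧ decode c • o = o}.ncard = (dodL.filter (maskInv c)).length :=
  ncard_dodecads_filter _ _ fun m hm => maskInv_spec hv (lt_of_mem_dodL' hm)

theorem ncard_sextets_code {c : ℕ} (hv : valid c = true) :
    {S | S ∈ sextets ∧ decode c • S = S}.ncard = (sexL.filter (famInv c)).length :=
  ncard_sextets_filter _ _ fun l hl => famInv_spec hv (sexOK_asc (List.all_eq_true.1 sexL_ok l hl)).2

theorem ncard_trios_code {c : ℕ} (hv : valid c = true) :
    {S | S ∈ trios ∧ decode c • S = S}.ncard = (triL.filter (famInv c)).length :=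
  ncard_trios_filter _ _ fun l hl => famInv_spec hv (triOK_asc (List.all_eq_true.1 triL_ok l hl)).2

end Cfsg.Agent.Lib.Golay
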