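import Mathlib

set_option autoImplicit false

/-!
# Generators of stabilisers in `M24`, as literal codes
-/

namespace Cfsg.Agent.Lib.Golay

/-- generators of `M24` -/
def GM24 : List ℕ := [956302485175575353788796878166559809,983435072843990828779021698901151808,1795248432537898728475572672376535,974380510768821363662145534143076928]

/-- the standard octad -/
def oct0 : ℕ := 8536111

/-- generators of the stabiliser of the standard octad -/
def GOct : List ℕ := [51005372436102811002081270068954286,148393882370517379418659222937712645,232691494634231920242422127159643138]

/-- the standard sextet -/
def S0L : List ℕ := [15,5264,622848,3416064,4196928,8536096]

/-- generators of the stabiliser of the standard sextet -/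
def GSex : List ℕ := [693586673053051915120815329507457777,672895017642790476270794691856827490,467857458591449944077804312183771372]

/-- the standard trio -/
def T0L : List ℕ := [5279,1009728,15762208]

/-- generators of the stabiliser of the standard trio -/
def GTri : List ℕ := [634971298811707158600262855204127346,806693668623155182478553437603093143,393647740448965433363251332124197298]

/-- the standard pair of dodecads -/
def D0L : List ℕ := [28637,16748578]

/-- generators of the stabiliser of the standard pair of dodecads -/
def GDod : List ℕ := [61234718526955148841753880870104813,308949441372394200692928821672334450,420950441211878309155405838585300178]

end Cfsg.Agent.Lib.Golay
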