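import Mathlib
import Cfsg.Agent.Lib.GolayClasses

set_option autoImplicit false
set_option linter.unusedSectionVars false
set_option linter.unusedTactic false
set_option linter.unreachableTactic false
set_option linter.unusedVariables false
set_option linter.deprecated false

/-!
# Orders of subgroups of `M24` along stabiliser chains, small tools
-/

namespace Cfsg.Agent.Lib.Golay
open Cfsg Finset

open scoped Pointwise

/-- one step of a stabiliser chain inside an arbitrary subgroup -/
theorem card_step (H : Subgroup (Equiv.Perm GolayPt)) (b : ℕ) (Ls : List ℕ) (hnd : Ls.Nodup)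
    (hlt : ∀ q ∈ Ls, q < 24) (hin : ∀ g ∈ H, idx (g (pt b)) ∈ Ls) (hex : ∀ q ∈ Ls, ∃ g ∈ H, g (pt b) = pt q) :
    Nat.card H = Ls.length * Nat.card ↥(H ⊓ MulAction.stabilizer (Equiv.Perm GolayPt) (pt b)) := by
  rw [card_eq_orbit_mul H (pt b)]
  congr 1
  have h : MulAction.orbit H (pt b) = pt '' {q | q ∈ Ls} := by
    apply orbit_eq_image
    · intro g hg
      refine ⟨idx (g (pt b)), hin g hg, ?_⟩
      rw [Equiv.Perm.smul_def, pt_idx]
    · intro q hq
      obtain ⟨g, hg, hgq⟩ := hex q hq
      exact ⟨g, hg, hgq⟩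
  rw [h]
  apply ncard_image_list _ _ hnd
  intro a ha c hc hac
  exact pt_injOn (hlt a ha) (hlt c hc) hac

theorem mem_stab_iff {H : Subgroup (Equiv.Perm GolayPt)} {b : ℕ} {g : Equiv.Perm GolayPt} :
    g ∈ H ⊓ MulAction.stabilizer (Equiv.Perm GolayPt) (pt b) ↔ g ∈ H ∧ g (pt b) = pt b := by
  simp only [Subgroup.mem_inf, MulAction.mem_stabilizer_iff, Equiv.Perm.smul_def]

theorem bit_of_mem {m : ℕ} {p : GolayPt} : p ∈ ofMask m ↔ bit m (idx p) = 1 := by
  rw [mem_ofMask, bit_eq]
  cases m.testBit (idx p) <;> simp

theorem bit_of_not_mem {m : ℕ} {p : GolayPt} : p ∉ ofMask m ↔ bit m (idx p) = 0 := by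
  rw [mem_ofMask, bit_eq]
  cases m.testBit (idx p) <;> simp

theorem pt_mem_ofMask {m i : ℕ} (hi : i < 24) : pt i ∈ ofMask m ↔ bit m i = 1 := by
  rw [bit_of_mem, idx_pt hi]

/-- an element preserving a sextet and fixing a point of a tetrad preserves the tetrad -/
theorem smul_tetrad {S : Finset (Finset GolayPt)} (hS : S ∈ sextets) {c : Equiv.Perm GolayPt} (h : c • S = S)
    {T : Finset GolayPt} (hT : T ∈ S) {a : GolayPt} (ha : a ∈ T) (hca : c a = a) : c • T = T := by
  by_contra hne
  have h1 : c • T ∈ S := by
    rw [← h]; exact Finset.smul_mem_smul_finset hT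
  have h2 := sextet_disjoint hS h1 hT hne
  have h3 : a ∈ c • T := by
    rw [Finset.mem_smul_finset]
    exact ⟨a, ha, hca⟩
  exact (Finset.disjoint_left.1 h2) h3 ha

/-- an element preserving a mask up to the action maps points outside to points outside -/
theorem smul_not_mem {T : Finset GolayPt} {c : Equiv.Perm GolayPt} (h : c • T = T) {a : GolayPt} (ha : a ∉ T) :
    c a ∉ T := by
  intro h1
  rw [← h] at h1
  obtain ⟨y, hy, e⟩ := Finset.mem_smul_finset.1 h1
  have : y = a := c.injective e
  exact ha (this ▸ hy)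

theorem smul_mem {T : Finset GolayPt} {c : Equiv.Perm GolayPt} (h : c • T = T) {a : GolayPt} (ha : a ∈ T) :
    c a ∈ T := by
  rw [← h]
  exact Finset.mem_smul_finset.2 ⟨a, ha, rfl⟩

/-- commuting test against a fixed code -/
def commCode (z c : ℕ) : Bool := idxL.all fun i => Nat.beq (ap c (ap z i)) (ap z (ap c i))

theorem commCode_spec {z c : ℕ} (hz : valid z = true) (hc : valid c = true) (h : commCode z c = true) :
    decode c * decode z = decode z * decode c :=
  comm_of_repBy (repBy_decode hc) (repBy_decode hz) (repBy_decode hz) (fun i hi =>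
    Nat.eq_of_beq_eq_true (List.all_eq_true.1 h i (mem_idxL.2 hi)))

theorem commCode_of {z c : ℕ} (hz : valid z = true) (hc : valid c = true)
    (h : decode c * decode z = decode z * decode c) : commCode z c = true := by
  simp only [commCode, List.all_eq_true, Nat.beq_eq]
  intro i hi
  have hi' := mem_idxL.1 hi
  have h1 : idx ((decode c * decode z) (pt i)) = idx ((decode z * decode c) (pt i)) := by rw [h]
  rw [((repBy_decode hc).mul (repBy_decode hz)).val hi', ((repBy_decode hz).mul (repBy_decode hc)).val hi'] at h1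
  exact h1

/-- identity test -/
def isIdC (c : ℕ) : Bool := idxL.all fun i => Nat.beq (ap c i) i

theorem isIdC_spec {c : ℕ} (hc : valid c = true) (h : isIdC c = true) : decode c = 1 :=
  eq_of_repBy (repBy_decode hc) (f' := id) (fun p => rfl) (fun i hi =>
    Nat.eq_of_beq_eq_true (List.all_eq_true.1 h i (mem_idxL.2 hi)))

/-- the elements of the list `T` lie in the subgroup with prescribed property -/
theorem card_map_subtype (H : Subgroup ↥M24) : Nat.card ↥(H.map M24.subtype) = Nat.card H :=
  Nat.card_congr (H.equivMapOfInjective M24.subtype (Subgroup.subtype_injective _)).symm.toEquiv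

end Cfsg.Agent.Lib.Golay
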