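import Mathlib
import Cfsg.Agent.Lib.GolaySubChain
import Cfsg.Agent.Lib.OrbitTree
import Cfsg.Agent.Lib.GolayStabData

set_option autoImplicit false
set_option linter.unusedSectionVars false
set_option linter.unusedTactic false
set_option linter.unreachableTactic false
set_option linter.unusedVariables false
set_option linter.deprecated false

/-!
# Orbits of stabilisers in `M24` on octads, sextets, trios: invariants and transport

The classes are separated by the intersection pattern against the fixed family.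
-/

namespace Cfsg.Agent.Lib.Golay
open Cfsg Finset Cfsg.Agent.Lib.OrbitTree

open scoped Pointwise

/-! ### the pattern invariant -/

/-- the pattern of a set against a family -/
def J1 (B : Finset (Finset GolayPt)) (x : Finset GolayPt) : ℕ := ∑ b ∈ B, ((x ∩ b).card) ^ 2

/-- the pattern of a family against a family -/
def J2 (B : Finset (Finset GolayPt)) (X : Finset (Finset GolayPt)) : ℕ := ∑ x ∈ X, J1 B x

theorem sum_smul_finset' (g : Equiv.Perm GolayPt) (A : Finset (Finset GolayPt)) (f : Finset GolayPt → ℕ) :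
    ∑ a ∈ g • A, f a = ∑ a ∈ A, f (g • a) := by
  rw [← Finset.image_smul, Finset.sum_image]
  intro a _ b _ h
  exact MulAction.injective g h

theorem J1_smul_both (g : Equiv.Perm GolayPt) (B : Finset (Finset GolayPt)) (x : Finset GolayPt) :
    J1 (g • B) (g • x) = J1 B x := by
  unfold J1
  rw [sum_smul_finset']
  refine Finset.sum_congr rfl fun b _ => ?_
  rw [← Finset.smul_finset_inter, Finset.card_smul_finset]

theorem J1_smul {g : Equiv.Perm GolayPt} {B : Finset (Finset GolayPt)} (hB : g • B = B) (x : Finset GolayPt) :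
    J1 B (g • x) = J1 B x := by
  conv_lhs => rw [← hB]
  exact J1_smul_both g B x

theorem J2_smul {g : Equiv.Perm GolayPt} {B : Finset (Finset GolayPt)} (hB : g • B = B) (X : Finset (Finset GolayPt)) :
    J2 B (g • X) = J2 B X := by
  unfold J2
  rw [sum_smul_finset']
  exact Finset.sum_congr rfl fun x _ => J1_smul hB x

/-- code of the pattern -/
def jm : List ℕ → ℕ → ℕ
  | [], _ => 0
  | b :: l, m => Nat.add (Nat.pow (pop (Nat.land m b)) 2) (jm l m)

/-- code of the pattern of a family -/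
def jl (B : List ℕ) : List ℕ → ℕ
  | [] => 0
  | m :: l => Nat.add (jm B m) (jl B l)

theorem sum_famOf (f : Finset GolayPt → ℕ) {l : List ℕ} (hnd : (l.map ofMask).Nodup) :
    ∑ b ∈ famOf l, f b = (l.map (fun m => f (ofMask m))).sum := by
  unfold famOf
  rw [List.sum_toFinset _ hnd, List.map_map]
  rfl

/-- a list of masks, ascending and of bounded size, has distinct sets -/
def niceL (l : List ℕ) : Bool := strictAsc l && allLt l

theorem nice_nodup {l : List ℕ} (h : niceL l = true) : (l.map ofMask).Nodup := by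
  simp only [niceL, Bool.and_eq_true] at h
  refine (List.nodup_map_iff_inj_on (strictAsc_nodup h.1)).2 ?_
  intro a ha b hb hab
  exact ofMask_injOn (allLt_spec h.2 a ha) (allLt_spec h.2 b hb) hab

theorem jm_eq {B : List ℕ} (hB : niceL B = true) (m : ℕ) : J1 (famOf B) (ofMask m) = jm B m := by
  unfold J1
  rw [sum_famOf _ (nice_nodup hB)]
  clear hB
  induction B with
  | nil => rfl
  | cons b l ih =>
    rw [List.map_cons, List.sum_cons, jm, ih]
    show _ = (pop (Nat.land m b)) ^ 2 + jm l m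
    rw [← card_ofMask, ofMask_land]

theorem jl_eq {B : List ℕ} (hB : niceL B = true) {X : List ℕ} (hX : niceL X = true) :
    J2 (famOf B) (famOf X) = jl B X := by
  unfold J2
  rw [sum_famOf _ (nice_nodup hX)]
  clear hX
  induction X with
  | nil => rfl
  | cons m l ih =>
    rw [List.map_cons, List.sum_cons, jl, ih, jm_eq hB]
    rfl

/-! ### orbits of stabilisers as classes -/

section orbits
variable {Z : Type*} [MulAction (Equiv.Perm GolayPt) Z]

/-- generators of the stabiliser of `z` -/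
def GenOK (z : Z) (gens : List ℕ) : Prop := ∀ c ∈ gens, isM24 c = true ∧ decode c • z = z

theorem GenOK.spec {z : Z} {gens : List ℕ} (h : GenOK z gens) :
    ∀ c ∈ gens, valid c = true ∧ decode c ∈ stabP z := fun c hc =>
  ⟨isM24_valid (h c hc).1, mem_stabP.2 ⟨decode_mem_M24 (h c hc).1, (h c hc).2⟩⟩

/-- orbits of a stabiliser, two types -/
theorem orbit_stabilizer_eq' {X : Type*} [MulAction (Equiv.Perm GolayPt) X] (z : Z) (y : X) :
    MulAction.orbit ↥(MulAction.stabilizer M24 z) y = MulAction.orbit (stabP z) y := by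
  ext w
  simp only [MulAction.mem_orbit_iff]
  constructor
  · rintro ⟨⟨⟨g, hg⟩, hs⟩, rfl⟩
    exact ⟨⟨g, mem_stabP.2 ⟨hg, hs⟩⟩, rfl⟩
  · rintro ⟨⟨g, hg⟩, rfl⟩
    obtain ⟨h1, h2⟩ := mem_stabP.1 hg
    exact ⟨⟨⟨g, h1⟩, h2⟩, rfl⟩

/-- classes of octads or dodecads -/
theorem orbit_mask {z : Z} {gens : List ℕ} (hgens : GenOK z gens) {B : List ℕ} (hB : niceL B = true)
    (hzB : ∀ g ∈ M24, g • z = z → g • famOf B = famOf B)
    {F : List ℕ} {Y : Set (Finset GolayPt)} (hY : Y = ofMask '' {y | y ∈ F})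
    (hYinv : ∀ g ∈ M24, ∀ x ∈ Y, g • x ∈ Y) {r : ℕ} (hr : r ∈ F) {v : ℕ} (hv : jm B r = v)
    (check : orbitL ltN img gens r = sortU ltN (F.filter fun y => Nat.beq (jm B y) v)) :
    MulAction.orbit ↥(MulAction.stabilizer M24 z) (ofMask r) = {x | x ∈ Y ∧ J1 (famOf B) x = v} := by
  rw [orbit_stabilizer_eq']
  exact orbit_eq_of_check (f := J1 (famOf B)) (f' := jm B) total_ltN total_act_mask hgens.spec hY
    (fun g hg x hx => hYinv g (mem_stabP.1 hg).1 x hx)
    (fun g hg x => J1_smul (hzB g (mem_stabP.1 hg).1 (mem_stabP.1 hg).2) x)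
    (fun y _ => (jm_eq hB y).symm) hr hv check

/-- classes of families -/
theorem orbit_fam {z : Z} {gens : List ℕ} (hgens : GenOK z gens) {B : List ℕ} (hB : niceL B = true)
    (hzB : ∀ g ∈ M24, g • z = z → g • famOf B = famOf B)
    {F : List (List ℕ)} (hF : ∀ y ∈ F, niceL y = true)
    {Y : Set (Finset (Finset GolayPt))} (hY : Y = famOf '' {y | y ∈ F})
    (hYinv : ∀ g ∈ M24, ∀ x ∈ Y, g • x ∈ Y) {r : List ℕ} (hr : r ∈ F) {v : ℕ} (hv : jl B r = v)
    (check : orbitL ltL actFam gens r = sortU ltL (F.filter fun y => Nat.beq (jl B y) v)) :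
    MulAction.orbit ↥(MulAction.stabilizer M24 z) (famOf r) = {x | x ∈ Y ∧ J2 (famOf B) x = v} := by
  rw [orbit_stabilizer_eq']
  exact orbit_eq_of_check (f := J2 (famOf B)) (f' := jl B) total_ltL decode_smul_famOf' hgens.spec hY
    (fun g hg x hx => hYinv g (mem_stabP.1 hg).1 x hx)
    (fun g hg x => J2_smul (hzB g (mem_stabP.1 hg).1 (mem_stabP.1 hg).2) x)
    (fun y hy => (jl_eq hB (hF y hy)).symm) hr hv check

end orbits

/-! ### three or four orbits, transport -/

section transport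
variable {Z X : Type*} [MulAction (Equiv.Perm GolayPt) Z] [MulAction (Equiv.Perm GolayPt) X]

/-- the orbit of a stabiliser, as a function -/
abbrev orbS (z : Z) (x : X) : Set X := MulAction.orbit ↥(MulAction.stabilizer M24 z) x

theorem orbS_subset {z : Z} {Y : Set X} (hY : ∀ g ∈ M24, ∀ x ∈ Y, g • x ∈ Y) {x : X} (hx : x ∈ Y) :
    orbS z x ⊆ Y := by
  rintro _ ⟨⟨⟨g, hg⟩, hs⟩, rfl⟩
  exact hY g hg x hx

theorem orbS_smul (k : ↥M24) (z : Z) (x : X) :
    orbS ((k : Equiv.Perm GolayPt) • z) ((k : Equiv.Perm GolayPt) • x) =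
      (fun y => (k : Equiv.Perm GolayPt) • y) '' orbS z x := by
  ext w
  simp only [MulAction.mem_orbit_iff, Set.mem_image]
  constructor
  · rintro ⟨⟨s, hs⟩, rfl⟩
    have hs' : s • (k : Equiv.Perm GolayPt) • z = (k : Equiv.Perm GolayPt) • z := hs
    refine ⟨(k : Equiv.Perm GolayPt)⁻¹ • s • (k : Equiv.Perm GolayPt) • x, ⟨⟨k⁻¹ * s * k, ?_⟩, ?_⟩, ?_⟩
    · rw [MulAction.mem_stabilizer_iff, mul_smul, mul_smul]
      show (k : Equiv.Perm GolayPt)⁻¹ • (s • ((k : Equiv.Perm GolayPt) • z)) = z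
      rw [hs', inv_smul_smul]
    · show (k⁻¹ * s * k) • x = _
      rw [mul_smul, mul_smul]
      rfl
    · rw [smul_inv_smul]
      rfl
  · rintro ⟨_, ⟨⟨s, hs⟩, rfl⟩, rfl⟩
    have hs' : s • z = z := hs
    refine ⟨⟨k * s * k⁻¹, ?_⟩, ?_⟩
    · rw [MulAction.mem_stabilizer_iff, mul_smul, mul_smul]
      show (k : Equiv.Perm GolayPt) • (s • ((k : Equiv.Perm GolayPt)⁻¹ • ((k : Equiv.Perm GolayPt) • z))) = (k : Equiv.Perm GolayPt) • z
      rw [inv_smul_smul, hs']
    · show (k * s * k⁻¹) • (k : Equiv.Perm GolayPt) • x = (k : Equiv.Perm GolayPt) • s • x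
      rw [mul_smul, mul_smul]
      show (k : Equiv.Perm GolayPt) • (s • ((k : Equiv.Perm GolayPt)⁻¹ • ((k : Equiv.Perm GolayPt) • x))) = _
      rw [inv_smul_smul]

theorem ncard_orbS_smul (k : ↥M24) (z : Z) (x : X) :
    (orbS ((k : Equiv.Perm GolayPt) • z) ((k : Equiv.Perm GolayPt) • x)).ncard = (orbS z x).ncard := by
  rw [orbS_smul, Set.ncard_image_of_injective _ (MulAction.injective (k : Equiv.Perm GolayPt))]

/-- union of orbits transports -/
theorem union_smul (k : ↥M24) {z : Z} {Y : Set X} (hY : ∀ g ∈ M24, ∀ x ∈ Y, g • x ∈ Y) {xs : List X}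
    (hxs : ∀ x ∈ xs, x ∈ Y) (h : ∀ y ∈ Y, ∃ x ∈ xs, y ∈ orbS z x) :
    ∀ y ∈ Y, ∃ x ∈ xs, y ∈ orbS ((k : Equiv.Perm GolayPt) • z) ((k : Equiv.Perm GolayPt) • x) := by
  intro y hy
  have h1 : (k : Equiv.Perm GolayPt)⁻¹ • y ∈ Y := hY _ (M24.inv_mem k.2) y hy
  obtain ⟨x, hx, hy'⟩ := h _ h1
  refine ⟨x, hx, ?_⟩
  rw [orbS_smul]
  exact ⟨_, hy', smul_inv_smul _ y⟩

/-- three orbits of prescribed sizes covering the family -/
def Orb3 (z : Z) (Y : Set X) (a b c : ℕ) : Prop :=
  ∃ X₁ ∈ Y, ∃ X₂ ∈ Y, ∃ X₃ ∈ Y, (orbS z X₁).ncard = a ∧ (orbS z X₂).ncard = b ∧ (orbS z X₃).ncard = c ∧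
    Y = orbS z X₁ ∪ orbS z X₂ ∪ orbS z X₃

/-- four orbits of prescribed sizes covering the family -/
def Orb4 (z : Z) (Y : Set X) (a b c d : ℕ) : Prop :=
  ∃ X₁ ∈ Y, ∃ X₂ ∈ Y, ∃ X₃ ∈ Y, ∃ X₄ ∈ Y, (orbS z X₁).ncard = a ∧ (orbS z X₂).ncard = b ∧ (orbS z X₃).ncard = c ∧
    (orbS z X₄).ncard = d ∧ Y = orbS z X₁ ∪ orbS z X₂ ∪ orbS z X₃ ∪ orbS z X₄

theorem Orb3.smul {z : Z} {Y : Set X} {a b c : ℕ} (h : Orb3 z Y a b c) (hY : ∀ g ∈ M24, ∀ x ∈ Y, g • x ∈ Y)
    {k : Equiv.Perm GolayPt} (hk : k ∈ M24) : Orb3 (k • z) Y a b c := by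
  obtain ⟨X₁, h1, X₂, h2, X₃, h3, e1, e2, e3, hU⟩ := h
  let K : ↥M24 := ⟨k, hk⟩
  refine ⟨k • X₁, hY k hk _ h1, k • X₂, hY k hk _ h2, k • X₃, hY k hk _ h3, ?_, ?_, ?_, ?_⟩
  · rw [← e1]; exact ncard_orbS_smul K z X₁
  · rw [← e2]; exact ncard_orbS_smul K z X₂
  · rw [← e3]; exact ncard_orbS_smul K z X₃
  · apply Set.Subset.antisymm
    · intro y hy
      have hy2 := union_smul K hY (xs := [X₁, X₂, X₃]) (by simp [h1, h2, h3]) (by
        intro y hy
        rw [hU] at hy
        simp only [Set.mem_union] at hy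
        simp only [List.mem_cons, List.not_mem_nil, or_false, forall_eq_or_imp, exists_eq_or_imp, exists_eq_left]
        tauto) y hy
      simp only [List.mem_cons, List.not_mem_nil, or_false, exists_eq_or_imp, exists_eq_left] at hy2
      simp only [Set.mem_union]
      rcases hy2 with h | h | h
      · exact Or.inl (Or.inl h)
      · exact Or.inl (Or.inr h)
      · exact Or.inr h
    · rintro y ((h | h) | h)
      · exact orbS_subset hY (hY k hk _ h1) h
      · exact orbS_subset hY (hY k hk _ h2) h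
      · exact orbS_subset hY (hY k hk _ h3) h

theorem Orb4.smul {z : Z} {Y : Set X} {a b c d : ℕ} (h : Orb4 z Y a b c d) (hY : ∀ g ∈ M24, ∀ x ∈ Y, g • x ∈ Y)
    {k : Equiv.Perm GolayPt} (hk : k ∈ M24) : Orb4 (k • z) Y a b c d := by
  obtain ⟨X₁, h1, X₂, h2, X₃, h3, X₄, h4, e1, e2, e3, e4, hU⟩ := h
  let K : ↥M24 := ⟨k, hk⟩
  refine ⟨k • X₁, hY k hk _ h1, k • X₂, hY k hk _ h2, k • X₃, hY k hk _ h3, k • X₄, hY k hk _ h4, ?_, ?_, ?_, ?_, ?_⟩
  · rw [← e1]; exact ncard_orbS_smul K z X₁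
  · rw [← e2]; exact ncard_orbS_smul K z X₂
  · rw [← e3]; exact ncard_orbS_smul K z X₃
  · rw [← e4]; exact ncard_orbS_smul K z X₄
  · apply Set.Subset.antisymm
    · intro y hy
      have hy2 := union_smul K hY (xs := [X₁, X₂, X₃, X₄]) (by simp [h1, h2, h3, h4]) (by
        intro y hy
        rw [hU] at hy
        simp only [Set.mem_union] at hy
        simp only [List.mem_cons, List.not_mem_nil, or_false, forall_eq_or_imp, exists_eq_or_imp, exists_eq_left]
        tauto) y hy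
      simp only [List.mem_cons, List.not_mem_nil, or_false, exists_eq_or_imp, exists_eq_left] at hy2
      simp only [Set.mem_union]
      rcases hy2 with h | h | h | h
      · exact Or.inl (Or.inl (Or.inl h))
      · exact Or.inl (Or.inl (Or.inr h))
      · exact Or.inl (Or.inr h)
      · exact Or.inr h
    · rintro y (((h | h) | h) | h)
      · exact orbS_subset hY (hY k hk _ h1) h
      · exact orbS_subset hY (hY k hk _ h2) h
      · exact orbS_subset hY (hY k hk _ h3) h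
      · exact orbS_subset hY (hY k hk _ h4) h

/-- three classes of an invariant fill the family -/
theorem Orb3.of_classes {z : Z} {Y : Set X} {f : X → ℕ} {X₁ X₂ X₃ : X} {v₁ v₂ v₃ a b c : ℕ}
    (h1 : orbS z X₁ = {x | x ∈ Y ∧ f x = v₁}) (h2 : orbS z X₂ = {x | x ∈ Y ∧ f x = v₂})
    (h3 : orbS z X₃ = {x | x ∈ Y ∧ f x = v₃})
    (c1 : {x | x ∈ Y ∧ f x = v₁}.ncard = a) (c2 : {x | x ∈ Y ∧ f x = v₂}.ncard = b)
    (c3 : {x | x ∈ Y ∧ f x = v₃}.ncard = c) (hall : ∀ x ∈ Y, f x = v₁ ∨ f x = v₂ ∨ f x = v₃) :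
    Orb3 z Y a b c := by
  have m1 : X₁ ∈ orbS z X₁ := MulAction.mem_orbit_self _
  have m2 : X₂ ∈ orbS z X₂ := MulAction.mem_orbit_self _
  have m3 : X₃ ∈ orbS z X₃ := MulAction.mem_orbit_self _
  rw [h1] at m1
  rw [h2] at m2
  rw [h3] at m3
  refine ⟨X₁, m1.1, X₂, m2.1, X₃, m3.1, by rw [h1, c1], by rw [h2, c2], by rw [h3, c3], ?_⟩
  rw [h1, h2, h3]
  ext x
  simp only [Set.mem_union, Set.mem_ofPred_eq]
  constructor
  · intro hx
    rcases hall x hx with h | h | h
    · exact Or.inl (Or.inl ⟨hx, h⟩)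
    · exact Or.inl (Or.inr ⟨hx, h⟩)
    · exact Or.inr ⟨hx, h⟩
  · rintro ((h | h) | h) <;> exact h.1

/-- four classes of an invariant fill the family -/
theorem Orb4.of_classes {z : Z} {Y : Set X} {f : X → ℕ} {X₁ X₂ X₃ X₄ : X} {v₁ v₂ v₃ v₄ a b c d : ℕ}
    (h1 : orbS z X₁ = {x | x ∈ Y ∧ f x = v₁}) (h2 : orbS z X₂ = {x | x ∈ Y ∧ f x = v₂})
    (h3 : orbS z X₃ = {x | x ∈ Y ∧ f x = v₃}) (h4 : orbS z X₄ = {x | x ∈ Y ∧ f x = v₄})
    (c1 : {x | x ∈ Y ∧ f x = v₁}.ncard = a) (c2 : {x | x ∈ Y ∧ f x = v₂}.ncard = b)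
    (c3 : {x | x ∈ Y ∧ f x = v₃}.ncard = c) (c4 : {x | x ∈ Y ∧ f x = v₄}.ncard = d)
    (hall : ∀ x ∈ Y, f x = v₁ ∨ f x = v₂ ∨ f x = v₃ ∨ f x = v₄) :
    Orb4 z Y a b c d := by
  have m1 : X₁ ∈ orbS z X₁ := MulAction.mem_orbit_self _
  have m2 : X₂ ∈ orbS z X₂ := MulAction.mem_orbit_self _
  have m3 : X₃ ∈ orbS z X₃ := MulAction.mem_orbit_self _
  have m4 : X₄ ∈ orbS z X₄ := MulAction.mem_orbit_self _
  rw [h1] at m1
  rw [h2] at m2
  rw [h3] at m3
  rw [h4] at m4
  refine ⟨X₁, m1.1, X₂, m2.1, X₃, m3.1, X₄, m4.1, by rw [h1, c1], by rw [h2, c2], by rw [h3, c3], by rw [h4, c4], ?_⟩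
  rw [h1, h2, h3, h4]
  ext x
  simp only [Set.mem_union, Set.mem_ofPred_eq]
  constructor
  · intro hx
    rcases hall x hx with h | h | h | h
    · exact Or.inl (Or.inl (Or.inl ⟨hx, h⟩))
    · exact Or.inl (Or.inl (Or.inr ⟨hx, h⟩))
    · exact Or.inl (Or.inr ⟨hx, h⟩)
    · exact Or.inr ⟨hx, h⟩
  · rintro (((h | h) | h) | h) <;> exact h.1

end transport

/-! ### invariance of the families, niceness -/

theorem octads_smul_inv : ∀ g ∈ M24, ∀ x ∈ octads, g • x ∈ octads := fun _ hg _ hx => smul_mem_octads hg hx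
theorem dodecads_smul_inv : ∀ g ∈ M24, ∀ x ∈ dodecads, g • x ∈ dodecads := fun _ hg _ hx => smul_mem_dodecads hg hx

theorem sexL_nice : ∀ y ∈ sexL, niceL y = true := by
  intro y hy
  have := sexOK_asc (List.all_eq_true.1 sexL_ok y hy)
  simp only [niceL, this.1, this.2, Bool.and_self]

theorem triL_nice : ∀ y ∈ triL, niceL y = true := by
  intro y hy
  have := triOK_asc (List.all_eq_true.1 triL_ok y hy)
  simp only [niceL, this.1, this.2, Bool.and_self]

/-! ### the standard objects -/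

theorem GM24_ok : GM24.all isM24 = true := by decide +kernel

theorem GM24_spec : ∀ c ∈ GM24, valid c = true ∧ decode c ∈ M24 := fun c hc =>
  have h := List.all_eq_true.1 GM24_ok c hc
  ⟨isM24_valid h, decode_mem_M24 h⟩

theorem oct0_mem : oct0 ∈ octL := by decide +kernel

theorem oct0_octad : ofMask oct0 ∈ octads := by
  rw [octads_eq_image]
  exact ⟨oct0, oct0_mem, rfl⟩

theorem S0L_mem : S0L ∈ sexL := by decide +kernel

theorem S0_sextet : famOf S0L ∈ sextets := by
  rw [sextets_eq_image]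
  exact ⟨S0L, S0L_mem, rfl⟩

theorem T0L_mem : T0L ∈ triL := by decide +kernel

theorem T0_trio : famOf T0L ∈ trios := by
  rw [trios_eq_image]
  exact ⟨T0L, T0L_mem, rfl⟩

theorem S0L_nice : niceL S0L = true := by decide +kernel
theorem T0L_nice : niceL T0L = true := by decide +kernel
theorem D0L_nice : niceL D0L = true := by decide +kernel
theorem oct0_nice : niceL [oct0] = true := by decide +kernel

theorem famOf_single (m : ℕ) : famOf [m] = {ofMask m} := by
  simp [famOf]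

theorem smul_single {g : Equiv.Perm GolayPt} {x : Finset GolayPt} (h : g • x = x) : g • ({x} : Finset (Finset GolayPt)) = {x} := by
  rw [Finset.smul_finset_singleton, h]

theorem GOct_ok : GenOK (ofMask oct0) GOct := by
  intro c hc
  have h : GOct.all (fun c => isM24 c && maskInv c oct0) = true := by decide +kernel
  have h1 := List.all_eq_true.1 h c hc
  simp only [Bool.and_eq_true] at h1
  exact ⟨h1.1, (maskInv_spec (isM24_valid h1.1) (by decide +kernel)).1 h1.2⟩

theorem GSex_ok : GenOK (famOf S0L) GSex := by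
  intro c hc
  have h : GSex.all (fun c => isM24 c && famInv c S0L) = true := by decide +kernel
  have h1 := List.all_eq_true.1 h c hc
  simp only [Bool.and_eq_true] at h1
  exact ⟨h1.1, (famInv_spec (isM24_valid h1.1) (by decide +kernel)).1 h1.2⟩

theorem GTri_ok : GenOK (famOf T0L) GTri := by
  intro c hc
  have h : GTri.all (fun c => isM24 c && famInv c T0L) = true := by decide +kernel
  have h1 := List.all_eq_true.1 h c hc
  simp only [Bool.and_eq_true] at h1
  exact ⟨h1.1, (famInv_spec (isM24_valid h1.1) (by decide +kernel)).1 h1.2⟩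

theorem GDod_ok : GenOK (famOf D0L) GDod := by
  intro c hc
  have h : GDod.all (fun c => isM24 c && famInv c D0L) = true := by decide +kernel
  have h1 := List.all_eq_true.1 h c hc
  simp only [Bool.and_eq_true] at h1
  exact ⟨h1.1, (famInv_spec (isM24_valid h1.1) (by decide +kernel)).1 h1.2⟩

end Cfsg.Agent.Lib.Golay
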