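import Mathlib
import Cfsg.Agent.Lib.GolayStabOrbits

set_option autoImplicit false
set_option linter.unusedSectionVars false
set_option linter.unusedTactic false
set_option linter.unreachableTactic false
set_option linter.unusedVariables false
set_option linter.deprecated false

/-!
# Orbits through explicit spanning trees (cheaper in the kernel than computing the closure)
-/

namespace Cfsg.Agent.Lib.Golay
open Cfsg Finset Cfsg.Agent.Lib.OrbitTree

open scoped Pointwise

/-- a spanning tree, first child / next sibling; nodes carry the index of a generator -/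
inductive OTree
  | leaf
  | node (i : ℕ) (child sib : OTree)

/-- element of a list of codes, by position -/
def nthC : List ℕ → ℕ → Option ℕ
  | [], _ => none
  | c :: _, 0 => some c
  | _ :: l, n + 1 => nthC l n

theorem nthC_mem {l : List ℕ} {n c : ℕ} (h : nthC l n = some c) : c ∈ l := by
  induction l generalizing n with
  | nil => simp [nthC] at h
  | cons a l ih =>
    cases n with
    | zero =>
      simp only [nthC, Option.some.injEq] at h
      simp [h]
    | succ n =>
      simp only [nthC] at h
      exact List.mem_cons_of_mem _ (ih h)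

section eval
variable {κ : Type} (act : ℕ → κ → κ) (gens : List ℕ)

/-- the elements below a node -/
def evalT : OTree → κ → List κ
  | .leaf, _ => []
  | .node i c s, y =>
    match nthC gens i with
    | some g => act g y :: (evalT c (act g y) ++ evalT s y)
    | none => []

variable {act gens}

theorem evalT_sound (R : κ → Prop) (hR : ∀ x, R x → ∀ g ∈ gens, R (act g x)) (T : OTree) (y : κ) (hy : R y) :
    ∀ z ∈ evalT act gens T y, R z := by
  induction T generalizing y with
  | leaf => simp [evalT]
  | node i c s ihc ihs =>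
    simp only [evalT]
    split
    · rename_i g hg
      have hg' := hR y hy g (nthC_mem hg)
      intro z hz
      rcases List.mem_cons.1 hz with rfl | hz
      · exact hg'
      · rcases List.mem_append.1 hz with hz | hz
        · exact ihc _ hg' z hz
        · exact ihs _ hy z hz
    · simp

end eval

/-! ### insertion sort of a family of masks -/

/-- insertion -/
def insM (x : ℕ) : List ℕ → List ℕ
  | [] => [x]
  | y :: l => match Nat.blt x y with
    | true => x :: y :: l
    | false => y :: insM x l

/-- insertion sort -/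
def isort : List ℕ → List ℕ
  | [] => []
  | x :: l => insM x (isort l)

theorem mem_insM {x z : ℕ} {l : List ℕ} : z ∈ insM x l ↔ z = x ∨ z ∈ l := by
  induction l with
  | nil => simp [insM]
  | cons y l ih =>
    simp only [insM]
    split
    · simp
    · simp only [List.mem_cons, ih]
      tauto

theorem mem_isort {z : ℕ} {l : List ℕ} : z ∈ isort l ↔ z ∈ l := by
  induction l with
  | nil => simp [isort]
  | cons y l ih =>
    simp only [isort, mem_insM, ih, List.mem_cons]

theorem famOf_isort (l : List ℕ) : famOf (isort l) = famOf l := by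
  ext S
  simp only [mem_famOf, mem_isort]

/-- action of a code on a family, with normal form by insertion sort -/
def actS (c : ℕ) (l : List ℕ) : List ℕ := isort (l.map (img c))

theorem decode_smul_famOf'' : ∀ c, valid c = true → ∀ x, decode c • famOf x = famOf (actS c x) := by
  intro c hv x
  rw [decode_smul_famOf hv, actS, famOf_isort]

/-! ### orbits -/

section action
variable {α : Type} {X : Type*} [MulAction (Equiv.Perm GolayPt) X]
  {lt : α → α → Bool} {act : ℕ → α → α} {dec : α → X}

/-- all elements of the tree are reached -/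
theorem reach_evalT (hdec : ∀ c, valid c = true → ∀ x, decode c • dec x = dec (act c x))
    {H : Subgroup (Equiv.Perm GolayPt)} {gens : List ℕ}
    (hg : ∀ c ∈ gens, valid c = true ∧ decode c ∈ H) (T : OTree) (r : α) :
    ∀ y ∈ r :: evalT act gens T r, ∃ g ∈ H, g • dec r = dec y := by
  have h0 : ∃ g ∈ H, g • dec r = dec r := ⟨1, H.one_mem, one_smul _ _⟩
  intro y hy
  rcases List.mem_cons.1 hy with rfl | hy
  · exact h0
  · refine evalT_sound (act := act) (gens := gens) (fun z => ∃ g ∈ H, g • dec r = dec z) ?_ T r h0 y hy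
    rintro x ⟨g, hgH, hgx⟩ c hc
    obtain ⟨hv, hm⟩ := hg c hc
    refine ⟨decode c * g, H.mul_mem hm hgH, ?_⟩
    rw [mul_smul, hgx, hdec c hv]

/-- a whole class of a family is one orbit, through a tree -/
theorem orbit_eq_of_tree (hlt : Total lt)
    (hdec : ∀ c, valid c = true → ∀ x, decode c • dec x = dec (act c x))
    {H : Subgroup (Equiv.Perm GolayPt)} {gens : List ℕ}
    (hg : ∀ c ∈ gens, valid c = true ∧ decode c ∈ H)
    {F : List α} {Y : Set X} (hY : Y = dec '' {y | y ∈ F})
    (hYinv : ∀ g ∈ H, ∀ x ∈ Y, g • x ∈ Y)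
    {f : X → ℕ} (hf : ∀ g ∈ H, ∀ x, f (g • x) = f x)
    {f' : α → ℕ} (hf' : ∀ y ∈ F, f' y = f (dec y))
    {r : α} (hr : r ∈ F) {v : ℕ} (hv : f' r = v) (T : OTree)
    (check : sortU lt (r :: evalT act gens T r) = sortU lt (F.filter fun y => Nat.beq (f' y) v)) :
    MulAction.orbit H (dec r) = {x | x ∈ Y ∧ f x = v} := by
  ext x
  rw [MulAction.mem_orbit_iff]
  have hrY : dec r ∈ Y := by rw [hY]; exact ⟨r, hr, rfl⟩
  constructor
  · rintro ⟨⟨g, hgH⟩, rfl⟩
    refine ⟨hYinv g hgH _ hrY, ?_⟩
    show f (g • dec r) = v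
    rw [hf g hgH, ← hf' r hr, hv]
  · rintro ⟨hx, hfx⟩
    rw [hY] at hx
    obtain ⟨y, hy, rfl⟩ := hx
    have h1 : y ∈ sortU lt (F.filter fun y => Nat.beq (f' y) v) := by
      rw [mem_sortU hlt, List.mem_filter]
      refine ⟨hy, ?_⟩
      rw [hf' y hy, hfx]
      exact Nat.beq_refl v
    rw [← check, mem_sortU hlt] at h1
    obtain ⟨g, hgH, hgy⟩ := reach_evalT hdec hg T r y h1
    exact ⟨⟨g, hgH⟩, hgy⟩

/-- a family is one orbit, through a tree -/
theorem reach_all_of_tree (hlt : Total lt)
    (hdec : ∀ c, valid c = true → ∀ x, decode c • dec x = dec (act c x))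
    {H : Subgroup (Equiv.Perm GolayPt)} {gens : List ℕ}
    (hg : ∀ c ∈ gens, valid c = true ∧ decode c ∈ H)
    {F : List α} {r : α} (T : OTree)
    (check : sortU lt (r :: evalT act gens T r) = sortU lt F) {y : α} (hy : y ∈ F) :
    ∃ g ∈ H, g • dec r = dec y := by
  have h1 : y ∈ sortU lt F := by
    rw [mem_sortU hlt]
    exact hy
  rw [← check, mem_sortU hlt] at h1
  exact reach_evalT hdec hg T r y h1

end action

section orbits
variable {Z : Type*} [MulAction (Equiv.Perm GolayPt) Z]

/-- classes of octads or dodecads, through a tree -/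
theorem orbit_mask_tree {z : Z} {gens : List ℕ} (hgens : GenOK z gens) {B : List ℕ} (hB : niceL B = true)
    (hzB : ∀ g ∈ M24, g • z = z → g • famOf B = famOf B)
    {F : List ℕ} {Y : Set (Finset GolayPt)} (hY : Y = ofMask '' {y | y ∈ F})
    (hYinv : ∀ g ∈ M24, ∀ x ∈ Y, g • x ∈ Y) {r : ℕ} (hr : r ∈ F) {v : ℕ} (hv : jm B r = v) (T : OTree)
    (check : sortU ltN (r :: evalT img gens T r) = sortU ltN (F.filter fun y => Nat.beq (jm B y) v)) :
    MulAction.orbit ↥(MulAction.stabilizer M24 z) (ofMask r) = {x | x ∈ Y ∧ J1 (famOf B) x = v} := by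
  rw [orbit_stabilizer_eq']
  exact orbit_eq_of_tree (f := J1 (famOf B)) (f' := jm B) total_ltN total_act_mask hgens.spec hY
    (fun g hg x hx => hYinv g (mem_stabP.1 hg).1 x hx)
    (fun g hg x => J1_smul (hzB g (mem_stabP.1 hg).1 (mem_stabP.1 hg).2) x)
    (fun y _ => (jm_eq hB y).symm) hr hv T check

/-- classes of families, through a tree -/
theorem orbit_fam_tree {z : Z} {gens : List ℕ} (hgens : GenOK z gens) {B : List ℕ} (hB : niceL B = true)
    (hzB : ∀ g ∈ M24, g • z = z → g • famOf B = famOf B)
    {F : List (List ℕ)} (hF : ∀ y ∈ F, niceL y = true)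
    {Y : Set (Finset (Finset GolayPt))} (hY : Y = famOf '' {y | y ∈ F})
    (hYinv : ∀ g ∈ M24, ∀ x ∈ Y, g • x ∈ Y) {r : List ℕ} (hr : r ∈ F) {v : ℕ} (hv : jl B r = v) (T : OTree)
    (check : sortU ltL (r :: evalT actS gens T r) = sortU ltL (F.filter fun y => Nat.beq (jl B y) v)) :
    MulAction.orbit ↥(MulAction.stabilizer M24 z) (famOf r) = {x | x ∈ Y ∧ J2 (famOf B) x = v} := by
  rw [orbit_stabilizer_eq']
  exact orbit_eq_of_tree (f := J2 (famOf B)) (f' := jl B) total_ltL decode_smul_famOf'' hgens.spec hY
    (fun g hg x hx => hYinv g (mem_stabP.1 hg).1 x hx)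
    (fun g hg x => J2_smul (hzB g (mem_stabP.1 hg).1 (mem_stabP.1 hg).2) x)
    (fun y hy => (jl_eq hB (hF y hy)).symm) hr hv T check

end orbits

end Cfsg.Agent.Lib.Golay
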