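import Mathlib
import Cfsg.Agent.Lib.GolayOrbTree

set_option autoImplicit false
set_option maxRecDepth 100000

/-!
# Spanning trees of orbits: dodecad pair stabiliser
-/

namespace Cfsg.Agent.Lib.Golay

def DSR0 : List ℕ := [39,45120,786960,1116288,6292736,8536072]

def DSV0 : ℕ := 48

def DST0 : OTree := (.node 0 (.node 0 (.node 0 (.node 1 (.node 0 (.node 2 .leaf .leaf) (.node 1 (.node 2 .leaf .leaf) (.node 2 (.node 1 .leaf .leaf) .leaf))) (.node 2 (.node 0 .leaf (.node 1 (.node 0 .leaf (.node 2 (.node 1 .leaf (.node 2 .leaf .leaf)) .leaf)) (.node 2 (.node 0 .leaf (.node 1 .leaf .leaf)) .leaf))) .leaf)) (.node 1 (.node 0 (.node 0 (.node 1 .leaf .leaf) (.node 1 .leaf .leaf)) (.node 1 (.node 0 (.node 1 (.node 0 .leaf .leaf) .leaf) (.node 1 (.node 0 .leaf (.node 1 .leaf .leaf)) (.node 2 (.node 0 .leaf .leaf) .leaf))) .leaf)) (.node 2 (.node 1 (.node 0 (.node 0 (.node 0 .leaf .leaf)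 (.node 2 .leaf .leaf)) (.node 1 (.node 2 .leaf .leaf) (.node 2 .leaf .leaf))) (.node 2 (.node 1 (.node 0 .leaf (.node 1 (.node 0 .leaf .leaf) .leaf)) (.node 2 (.node 0 .leaf .leaf) .leaf)) .leaf)) .leaf))) (.node 1 (.node 0 (.node 0 (.node 0 (.node 2 .leaf .leaf) (.node 1 (.node 2 .leaf .leaf) (.node 2 (.node 0 .leaf (.node 1 .leaf (.node 2 .leaf .leaf))) .leaf))) (.node 1 (.node 0 .leaf (.node 1 (.node 0 .leaf (.node 1 .leaf (.node 2 .leaf .leaf))) (.node 2 .leaf .leaf))) (.node 2 (.node 0 (.node 1 .leaf .leaf) (.node 1 (.node 0 (.node 2 .leaf .leaf) .leaf) (.node 2 (.node 1 (.node 1 .leaf .leaf) (.node 2 .leaf .leaf)) .leaf))) .leaf))) (.node 1 (.node 0 (.node 0 (.node 0 .leaf .leaf) (.node 1 .leaf (.node 2 (.node 0 .leaf (.node 1 .leaf .leaf)) .leaf))) (.node 2 (.node 0 .leaf (.node 1 (.node 0 (.node 2 .leaf .leaf) .leaf) .leaf)) .leaf)) (.node 2 (.node 0 (.node 0 (.node 0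 .leaf (.node 2 .leaf .leaf)) .leaf) (.node 1 (.node 1 (.node 1 .leaf .leaf) (.node 2 (.node 0 .leaf .leaf) .leaf)) (.node 2 .leaf .leaf))) .leaf))) (.node 2 (.node 0 (.node 0 (.node 0 (.node 1 .leaf (.node 2 .leaf .leaf)) (.node 2 (.node 1 .leaf .leaf) .leaf)) (.node 1 (.node 0 (.node 0 .leaf (.node 1 (.node 2 .leaf .leaf) (.node 2 .leaf .leaf))) (.node 1 (.node 2 .leaf .leaf) (.node 2 .leaf .leaf))) (.node 2 (.node 1 (.node 2 (.node 0 .leaf (.node 1 .leaf .leaf)) .leaf) (.node 2 (.node 2 .leaf .leaf) .leaf)) .leaf))) (.node 1 (.node 0 (.node 1 .leaf (.node 2 (.node 0 .leaf .leaf) .leaf)) (.node 1 (.node 0 (.node 0 .leaf .leaf) (.node 2 (.node 1 (.node 2 .leaf .leaf) .leaf) .leaf)) (.node 2 (.node 0 (.node 2 (.node 2 .leaf .leaf) .leaf) (.node 1 (.node 0 .leaf (.node 2 .leaf .leaf)) (.node 2 (.node 2 .leaf .leaf) .leaf))) .leaf))) (.node 2 (.node 1 (.node 0 (.node 0 .leaf .leaf)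 (.node 1 (.node 0 .leaf .leaf) (.node 2 (.node 1 .leaf (.node 2 .leaf .leaf)) .leaf))) (.node 2 (.node 2 (.node 1 (.node 0 .leaf .leaf) .leaf) .leaf) .leaf)) .leaf))) .leaf))) (.node 1 (.node 0 (.node 0 (.node 1 (.node 0 (.node 0 (.node 0 .leaf .leaf) (.node 1 .leaf .leaf)) (.node 1 (.node 2 (.node 1 .leaf .leaf) .leaf) (.node 2 (.node 1 .leaf .leaf) .leaf))) (.node 2 (.node 0 (.node 1 .leaf .leaf) (.node 1 (.node 0 .leaf (.node 1 .leaf (.node 2 .leaf .leaf))) .leaf)) .leaf)) (.node 1 (.node 0 (.node 0 (.node 2 .leaf .leaf) (.node 1 .leaf (.node 2 .leaf .leaf))) (.node 1 (.node 0 (.node 2 .leaf .leaf) (.node 1 .leaf .leaf)) (.node 2 (.node 0 .leaf .leaf) .leaf))) (.node 2 (.node 0 (.node 0 .leaf (.node 1 (.node 1 .leaf .leaf) .leaf)) (.node 1 (.node 0 .leaf (.node 1 (.node 0 .leaf .leaf) .leaf)) (.node 2 (.node 1 .leaf (.node 2 (.node 1 .leaf .leaf) .leaf)) .leaf))) .leaf)))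 (.node 1 (.node 0 (.node 0 (.node 0 .leaf (.node 1 .leaf (.node 2 (.node 2 (.node 1 .leaf .leaf) .leaf) .leaf))) (.node 1 (.node 0 .leaf (.node 1 .leaf (.node 2 (.node 0 .leaf (.node 1 .leaf .leaf)) .leaf))) (.node 2 (.node 0 .leaf (.node 2 .leaf .leaf)) .leaf))) (.node 1 (.node 0 (.node 0 (.node 0 .leaf (.node 1 .leaf (.node 2 .leaf .leaf))) (.node 2 (.node 1 .leaf (.node 2 .leaf .leaf)) .leaf)) (.node 2 (.node 0 (.node 1 .leaf .leaf) .leaf) .leaf)) (.node 2 (.node 0 (.node 1 (.node 2 .leaf .leaf) (.node 2 (.node 2 .leaf .leaf) .leaf)) (.node 1 (.node 0 (.node 2 .leaf .leaf) (.node 1 (.node 0 .leaf .leaf) (.node 2 (.node 2 .leaf .leaf) .leaf))) (.node 2 (.node 0 (.node 1 .leaf .leaf) (.node 1 (.node 1 .leaf (.node 2 .leaf .leaf)) (.node 2 .leaf .leaf))) .leaf))) .leaf))) (.node 2 (.node 0 (.node 0 (.node 2 .leaf .leaf) (.node 1 (.node 0 .leaf .leaf) (.node 2 (.node 1 (.node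 1 .leaf .leaf) .leaf) .leaf))) (.node 1 (.node 0 (.node 1 .leaf (.node 2 (.node 1 .leaf .leaf) .leaf)) (.node 1 (.node 0 (.node 1 (.node 2 .leaf .leaf) .leaf) (.node 1 (.node 1 (.node 2 .leaf .leaf) .leaf) (.node 2 (.node 0 .leaf .leaf) .leaf))) (.node 2 (.node 0 .leaf (.node 1 .leaf .leaf)) .leaf))) (.node 2 (.node 0 (.node 0 (.node 2 .leaf .leaf) (.node 2 .leaf .leaf)) (.node 1 (.node 0 (.node 0 .leaf .leaf) (.node 1 .leaf (.node 2 (.node 2 .leaf .leaf) .leaf))) .leaf)) .leaf))) .leaf))) (.node 2 (.node 0 (.node 0 (.node 0 (.node 1 (.node 0 .leaf .leaf) .leaf) (.node 1 (.node 0 .leaf (.node 1 (.node 2 .leaf .leaf) (.node 2 (.node 0 .leaf (.node 1 .leaf .leaf)) .leaf))) (.node 2 (.node 0 (.node 1 .leaf (.node 2 .leaf .leaf)) (.node 2 (.node 2 (.node 1 .leaf .leaf) .leaf) .leaf)) .leaf))) (.node 1 (.node 1 (.node 1 (.node 1 .leaf .leaf) .leaf) (.node 2 (.node 2 .leaf .leaf) .leaf))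 (.node 2 (.node 0 (.node 1 (.node 1 .leaf (.node 2 .leaf .leaf)) (.node 2 (.node 2 .leaf .leaf) .leaf)) (.node 1 (.node 0 .leaf (.node 1 (.node 0 .leaf (.node 1 .leaf (.node 2 .leaf .leaf))) (.node 2 .leaf .leaf))) (.node 2 (.node 0 (.node 1 .leaf .leaf) (.node 1 (.node 0 .leaf .leaf) (.node 2 (.node 0 .leaf .leaf) .leaf))) .leaf))) .leaf))) (.node 1 (.node 0 (.node 0 (.node 0 .leaf (.node 2 .leaf .leaf)) (.node 1 (.node 0 (.node 0 .leaf .leaf) (.node 1 .leaf .leaf)) (.node 2 (.node 1 (.node 0 .leaf .leaf) (.node 2 (.node 2 .leaf .leaf) .leaf)) .leaf))) (.node 1 (.node 0 (.node 0 (.node 2 .leaf .leaf) (.node 2 (.node 2 .leaf .leaf) .leaf)) (.node 2 (.node 0 .leaf (.node 1 .leaf (.node 2 .leaf .leaf))) .leaf)) .leaf)) (.node 2 (.node 0 (.node 0 (.node 0 .leaf (.node 1 .leaf (.node 2 .leaf .leaf))) (.node 1 (.node 1 .leaf (.node 2 .leaf .leaf)) (.node 2 (.node 0 .leaf .leaf) .leaf)))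 (.node 1 (.node 0 (.node 0 (.node 1 .leaf (.node 2 .leaf .leaf)) (.node 2 .leaf .leaf)) (.node 1 (.node 0 (.node 0 .leaf .leaf) (.node 1 (.node 0 .leaf .leaf) .leaf)) (.node 2 (.node 0 .leaf .leaf) .leaf))) (.node 2 (.node 0 (.node 1 .leaf (.node 2 (.node 2 .leaf .leaf) .leaf)) (.node 1 (.node 1 .leaf (.node 2 (.node 0 .leaf .leaf) .leaf)) (.node 2 .leaf .leaf))) .leaf))) .leaf))) .leaf)))

def DSR1 : List ℕ := [1176,4103,41056,2179584,5898240,8653056]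

def DSV1 : ℕ := 64

def DST1 : OTree := (.node 0 (.node 0 (.node 0 (.node 1 (.node 0 (.node 0 (.node 1 .leaf .leaf) (.node 1 .leaf (.node 2 .leaf .leaf))) (.node 2 (.node 0 .leaf (.node 2 .leaf .leaf)) .leaf)) (.node 2 (.node 1 (.node 2 .leaf .leaf) (.node 2 (.node 0 (.node 0 .leaf .leaf) (.node 2 .leaf .leaf)) .leaf)) .leaf)) (.node 1 (.node 0 (.node 0 (.node 0 .leaf (.node 1 .leaf (.node 2 .leaf .leaf))) (.node 1 (.node 1 .leaf (.node 2 .leaf .leaf)) (.node 2 (.node 0 (.node 0 .leaf .leaf) (.node 1 (.node 1 .leaf (.node 2 .leaf .leaf)) (.node 2 .leaf .leaf))) .leaf))) (.node 1 (.node 0 (.node 0 (.node 1 .leaf .leaf) (.node 1 (.node 1 .leaf (.node 2 .leaf .leaf)) (.node 2 .leaf .leaf))) (.node 1 (.node 0 (.node 2 .leaf .leaf) (.node 1 (.node 2 .leaf .leaf) (.node 2 (.node 2 .leaf .leaf) .leaf))) (.node 2 .leaf .leaf))) (.node 2 (.node 0 (.node 1 .leaf (.node 2 (.node 0 .leaf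 .leaf) .leaf)) (.node 1 (.node 2 .leaf .leaf) (.node 2 (.node 0 .leaf (.node 1 (.node 2 .leaf .leaf) .leaf)) .leaf))) .leaf))) (.node 2 (.node 0 (.node 0 (.node 0 (.node 1 .leaf (.node 2 .leaf .leaf)) (.node 1 .leaf (.node 2 .leaf .leaf))) (.node 1 (.node 0 (.node 1 .leaf .leaf) (.node 1 (.node 1 .leaf .leaf) (.node 2 (.node 1 .leaf .leaf) .leaf))) .leaf)) (.node 1 (.node 0 (.node 0 .leaf (.node 1 .leaf (.node 2 .leaf .leaf))) (.node 1 (.node 0 (.node 1 .leaf .leaf) (.node 1 (.node 2 .leaf .leaf) .leaf)) (.node 2 (.node 2 (.node 1 .leaf .leaf) .leaf) .leaf))) (.node 2 (.node 0 (.node 0 .leaf (.node 1 (.node 0 .leaf .leaf) (.node 2 .leaf .leaf))) (.node 1 (.node 1 .leaf (.node 2 .leaf .leaf)) (.node 2 .leaf .leaf))) .leaf))) .leaf))) (.node 1 (.node 0 (.node 2 (.node 0 (.node 0 .leaf (.node 1 .leaf (.node 2 (.node 2 .leaf .leaf) .leaf))) (.node 1 (.node 0 (.node 1 .leaf (.node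 2 .leaf .leaf)) (.node 1 .leaf (.node 2 .leaf .leaf))) (.node 2 .leaf .leaf))) .leaf) (.node 1 (.node 0 (.node 0 (.node 0 .leaf (.node 1 .leaf (.node 2 .leaf .leaf))) (.node 1 (.node 0 (.node 0 .leaf .leaf) (.node 1 .leaf .leaf)) (.node 2 (.node 0 (.node 0 .leaf .leaf) .leaf) .leaf))) (.node 1 (.node 1 (.node 1 .leaf .leaf) (.node 2 (.node 0 (.node 1 .leaf .leaf) .leaf) .leaf)) (.node 2 (.node 0 (.node 1 .leaf .leaf) (.node 1 (.node 0 (.node 2 .leaf .leaf) (.node 1 .leaf (.node 2 (.node 1 .leaf .leaf) .leaf))) (.node 2 (.node 1 .leaf .leaf) .leaf))) .leaf))) (.node 2 (.node 0 (.node 0 (.node 0 .leaf (.node 1 .leaf .leaf)) (.node 1 (.node 1 .leaf .leaf) (.node 2 (.node 2 .leaf .leaf) .leaf))) (.node 1 (.node 0 (.node 2 .leaf .leaf) (.node 1 (.node 0 .leaf .leaf) (.node 2 (.node 1 .leaf .leaf) .leaf))) (.node 2 (.node 0 (.node 0 .leaf .leaf) (.node 1 (.node 2 .leaf .leaf) (.node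 2 (.node 2 (.node 2 .leaf .leaf) .leaf) .leaf))) .leaf))) .leaf))) (.node 2 (.node 0 (.node 0 (.node 0 (.node 2 .leaf .leaf) (.node 2 (.node 0 .leaf (.node 2 .leaf .leaf)) .leaf)) (.node 1 (.node 1 (.node 0 .leaf .leaf) (.node 2 (.node 1 (.node 1 .leaf .leaf) (.node 2 .leaf .leaf)) .leaf)) (.node 2 (.node 1 (.node 0 (.node 1 .leaf .leaf) .leaf) .leaf) .leaf))) (.node 1 (.node 0 (.node 0 (.node 0 .leaf .leaf) (.node 1 .leaf (.node 2 .leaf .leaf))) (.node 1 (.node 0 (.node 0 .leaf .leaf) (.node 1 (.node 0 .leaf .leaf) (.node 2 .leaf .leaf))) (.node 2 (.node 1 .leaf (.node 2 (.node 0 .leaf .leaf) .leaf)) .leaf))) (.node 2 (.node 0 (.node 1 (.node 0 .leaf (.node 2 .leaf .leaf)) (.node 2 (.node 0 .leaf (.node 1 .leaf (.node 2 .leaf .leaf))) .leaf)) (.node 1 (.node 0 (.node 0 .leaf (.node 1 (.node 1 .leaf .leaf) (.node 2 .leaf .leaf))) (.node 1 (.node 0 .leaf .leaf) (.node 2 (.node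 2 (.node 1 .leaf .leaf) .leaf) .leaf))) (.node 2 (.node 1 .leaf (.node 2 (.node 1 .leaf (.node 2 .leaf .leaf)) .leaf)) .leaf))) .leaf))) .leaf))) (.node 1 (.node 0 (.node 1 (.node 0 (.node 1 (.node 1 .leaf (.node 2 .leaf .leaf)) (.node 2 (.node 1 .leaf .leaf) .leaf)) (.node 1 (.node 0 (.node 1 .leaf (.node 2 .leaf .leaf)) (.node 1 .leaf (.node 2 (.node 0 .leaf (.node 1 .leaf (.node 2 .leaf .leaf))) .leaf))) (.node 2 (.node 0 (.node 0 .leaf .leaf) (.node 1 (.node 0 .leaf .leaf) .leaf)) .leaf))) (.node 2 (.node 1 (.node 0 (.node 2 .leaf .leaf) (.node 1 .leaf (.node 2 .leaf .leaf))) (.node 2 (.node 1 (.node 0 .leaf .leaf) .leaf) .leaf)) .leaf)) (.node 1 (.node 0 (.node 1 (.node 0 (.node 1 .leaf (.node 2 .leaf .leaf)) (.node 1 .leaf (.node 2 .leaf .leaf))) (.node 2 (.node 0 (.node 0 .leaf .leaf) (.node 1 (.node 0 .leaf (.node 1 .leaf (.node 2 .leaf .leaf))) (.node 2 (.node 2 .leaf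 .leaf) .leaf))) .leaf)) (.node 1 (.node 0 (.node 1 (.node 0 .leaf (.node 2 (.node 0 .leaf .leaf) .leaf)) (.node 2 .leaf .leaf)) (.node 1 (.node 0 .leaf .leaf) (.node 2 (.node 1 (.node 1 .leaf (.node 2 .leaf .leaf)) .leaf) .leaf))) (.node 2 (.node 0 (.node 0 (.node 0 .leaf .leaf) (.node 1 (.node 2 (.node 1 .leaf .leaf) .leaf) (.node 2 .leaf .leaf))) (.node 1 (.node 0 (.node 2 .leaf .leaf) (.node 1 .leaf .leaf)) (.node 2 (.node 0 (.node 1 (.node 0 .leaf .leaf) (.node 2 .leaf .leaf)) (.node 1 (.node 0 .leaf (.node 1 .leaf .leaf)) (.node 2 (.node 2 .leaf .leaf) .leaf))) .leaf))) .leaf))) (.node 2 (.node 0 (.node 0 (.node 0 (.node 2 .leaf .leaf) (.node 1 (.node 1 .leaf .leaf) (.node 2 (.node 0 .leaf .leaf) .leaf))) (.node 1 (.node 0 (.node 1 (.node 2 .leaf .leaf) (.node 2 .leaf .leaf)) (.node 1 (.node 1 .leaf .leaf) (.node 2 (.node 0 .leaf .leaf) .leaf))) (.node 2 (.node 0 (.node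 1 .leaf .leaf) (.node 1 (.node 2 .leaf .leaf) .leaf)) .leaf))) (.node 1 (.node 0 (.node 1 .leaf (.node 2 .leaf .leaf)) (.node 1 (.node 0 (.node 1 .leaf .leaf) (.node 1 .leaf .leaf)) (.node 2 (.node 0 .leaf (.node 1 .leaf .leaf)) .leaf))) (.node 2 (.node 0 (.node 0 (.node 1 .leaf (.node 2 .leaf .leaf)) .leaf) (.node 1 (.node 0 .leaf (.node 1 (.node 2 .leaf .leaf) (.node 2 .leaf .leaf))) (.node 2 (.node 0 (.node 0 .leaf .leaf) (.node 1 .leaf .leaf)) .leaf))) .leaf))) .leaf))) (.node 2 (.node 0 (.node 0 (.node 0 (.node 1 (.node 2 .leaf .leaf) (.node 2 (.node 1 .leaf .leaf) .leaf)) (.node 1 (.node 0 (.node 0 .leaf .leaf) (.node 2 .leaf .leaf)) (.node 2 (.node 0 .leaf (.node 1 .leaf .leaf)) .leaf))) (.node 1 (.node 0 (.node 0 (.node 2 .leaf .leaf) .leaf) (.node 1 (.node 1 .leaf .leaf) (.node 2 (.node 0 (.node 0 .leaf (.node 2 .leaf .leaf)) (.node 1 (.node 0 .leaf (.node 2 .leaf .leaf))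 (.node 2 (.node 1 .leaf .leaf) .leaf))) .leaf))) (.node 2 (.node 0 (.node 0 (.node 0 .leaf .leaf) (.node 2 (.node 0 (.node 0 .leaf .leaf) (.node 1 .leaf .leaf)) .leaf)) (.node 2 (.node 0 (.node 2 .leaf .leaf) (.node 1 (.node 0 .leaf (.node 1 .leaf (.node 2 .leaf .leaf))) (.node 2 (.node 0 (.node 1 .leaf .leaf) (.node 1 .leaf .leaf)) .leaf))) .leaf)) .leaf))) (.node 1 (.node 0 (.node 0 (.node 0 .leaf (.node 1 (.node 1 .leaf (.node 2 .leaf .leaf)) .leaf)) (.node 1 (.node 1 (.node 0 .leaf .leaf) (.node 2 (.node 1 .leaf .leaf) .leaf)) (.node 2 (.node 0 (.node 0 .leaf .leaf) (.node 2 (.node 0 .leaf .leaf) .leaf)) .leaf))) (.node 1 (.node 0 (.node 0 .leaf (.node 2 (.node 1 .leaf .leaf) .leaf)) (.node 1 (.node 0 (.node 2 .leaf .leaf) (.node 2 .leaf .leaf)) (.node 2 (.node 0 (.node 0 .leaf (.node 1 .leaf .leaf)) (.node 1 (.node 2 .leaf .leaf) (.node 2 (.node 2 .leaf .leaf) .leaf))) .leaf)))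 (.node 2 (.node 0 (.node 0 (.node 1 .leaf (.node 2 .leaf .leaf)) .leaf) (.node 1 (.node 0 (.node 0 .leaf .leaf) (.node 2 (.node 2 .leaf .leaf) .leaf)) (.node 2 (.node 0 .leaf (.node 1 .leaf (.node 2 (.node 1 .leaf .leaf) .leaf))) .leaf))) .leaf))) (.node 2 (.node 0 (.node 0 (.node 0 .leaf .leaf) (.node 1 (.node 0 .leaf (.node 2 (.node 0 .leaf .leaf) .leaf)) (.node 2 (.node 0 (.node 1 .leaf .leaf) (.node 1 (.node 0 .leaf .leaf) (.node 2 .leaf .leaf))) .leaf))) (.node 1 (.node 0 .leaf (.node 1 (.node 1 .leaf (.node 2 .leaf .leaf)) (.node 2 (.node 0 .leaf (.node 1 (.node 1 .leaf .leaf) .leaf)) .leaf))) (.node 2 (.node 0 (.node 1 .leaf .leaf) (.node 1 (.node 0 (.node 0 .leaf (.node 1 .leaf .leaf)) (.node 2 (.node 2 .leaf .leaf) .leaf)) (.node 2 (.node 0 (.node 1 .leaf .leaf) .leaf) .leaf))) .leaf))) .leaf))) .leaf)))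

def DSR2 : List ℕ := [15,5264,622848,3416064,4196928,8536096]

def DSV2 : ℕ := 60

def DST2 : OTree := (.node 0 (.node 0 (.node 0 (.node 1 (.node 0 (.node 0 .leaf (.node 1 (.node 1 .leaf .leaf) (.node 2 (.node 2 .leaf .leaf) .leaf))) (.node 1 (.node 0 .leaf (.node 1 (.node 1 .leaf .leaf) (.node 2 (.node 0 .leaf .leaf) .leaf))) (.node 2 (.node 0 .leaf (.node 1 (.node 1 .leaf .leaf) (.node 2 (.node 0 .leaf .leaf) .leaf))) .leaf))) (.node 2 (.node 0 (.node 1 (.node 0 .leaf (.node 2 (.node 1 .leaf .leaf) .leaf)) (.node 2 (.node 0 .leaf (.node 1 .leaf (.node 2 .leaf .leaf))) .leaf)) (.node 1 (.node 0 (.node 1 .leaf (.node 2 (.node 0 .leaf (.node 2 .leaf .leaf)) .leaf)) (.node 2 (.node 1 (.node 1 .leaf .leaf) .leaf) .leaf)) (.node 2 (.node 0 (.node 0 (.node 0 .leaf (.node 2 .leaf .leaf)) .leaf) (.node 2 .leaf .leaf)) .leaf))) .leaf)) (.node 1 (.node 0 (.node 0 (.node 0 (.node 1 .leaf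 (.node 2 .leaf .leaf)) (.node 1 (.node 2 .leaf .leaf) (.node 2 .leaf .leaf))) (.node 1 (.node 0 (.node 1 .leaf (.node 2 .leaf .leaf)) (.node 1 (.node 1 .leaf (.node 2 .leaf .leaf)) (.node 2 (.node 1 .leaf .leaf) .leaf))) (.node 2 (.node 0 (.node 0 .leaf (.node 1 .leaf (.node 2 .leaf .leaf))) (.node 1 (.node 0 .leaf (.node 1 .leaf .leaf)) (.node 2 (.node 1 .leaf .leaf) .leaf))) .leaf))) (.node 1 (.node 0 (.node 1 (.node 2 .leaf .leaf) (.node 2 (.node 0 (.node 1 .leaf .leaf) .leaf) .leaf)) (.node 1 (.node 0 (.node 2 .leaf .leaf) (.node 2 (.node 2 .leaf .leaf) .leaf)) (.node 2 (.node 1 .leaf (.node 2 .leaf .leaf)) .leaf))) (.node 2 (.node 0 (.node 0 .leaf (.node 1 (.node 0 .leaf (.node 2 .leaf .leaf)) .leaf)) (.node 1 (.node 1 (.node 2 .leaf .leaf) (.node 2 (.node 1 (.node 0 .leaf .leaf) .leaf) .leaf)) (.node 2 (.node 0 (.node 0 .leaf .leaf) (.node 1 (.node 1 .leaf (.node 2 .leaf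 .leaf)) (.node 2 (.node 2 .leaf .leaf) .leaf))) .leaf))) .leaf))) (.node 2 (.node 0 (.node 0 (.node 0 (.node 2 (.node 2 .leaf .leaf) .leaf) (.node 1 (.node 0 .leaf (.node 2 .leaf .leaf)) .leaf)) (.node 1 (.node 0 .leaf (.node 1 (.node 0 (.node 2 .leaf .leaf) (.node 1 .leaf .leaf)) (.node 2 (.node 1 .leaf .leaf) .leaf))) (.node 2 (.node 0 (.node 1 .leaf (.node 2 .leaf .leaf)) (.node 1 (.node 2 .leaf .leaf) (.node 2 (.node 1 .leaf (.node 2 .leaf .leaf)) .leaf))) .leaf))) (.node 1 (.node 0 (.node 0 (.node 1 .leaf .leaf) (.node 2 (.node 1 .leaf (.node 2 .leaf .leaf)) .leaf)) (.node 1 (.node 0 (.node 0 .leaf (.node 1 .leaf .leaf)) (.node 1 (.node 0 .leaf (.node 1 (.node 2 .leaf .leaf) (.node 2 .leaf .leaf))) .leaf)) (.node 2 (.node 2 .leaf .leaf) .leaf))) (.node 2 (.node 0 (.node 0 (.node 0 .leaf (.node 1 (.node 0 .leaf .leaf) (.node 2 .leaf .leaf))) (.node 1 .leaf (.node 2 (.node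 2 .leaf .leaf) .leaf))) (.node 1 (.node 0 (.node 0 (.node 2 .leaf .leaf) (.node 2 .leaf .leaf)) (.node 1 (.node 1 .leaf .leaf) (.node 2 (.node 0 .leaf (.node 1 (.node 1 .leaf .leaf) .leaf)) .leaf))) (.node 2 (.node 1 .leaf (.node 2 .leaf .leaf)) .leaf))) .leaf))) .leaf))) (.node 1 (.node 0 (.node 0 (.node 0 (.node 1 (.node 0 .leaf .leaf) .leaf) (.node 1 (.node 0 (.node 2 (.node 1 .leaf .leaf) .leaf) (.node 2 (.node 2 .leaf .leaf) .leaf)) (.node 2 (.node 0 (.node 2 .leaf .leaf) (.node 1 .leaf (.node 2 .leaf .leaf))) .leaf))) (.node 1 (.node 0 (.node 0 (.node 2 .leaf .leaf) (.node 1 .leaf .leaf)) (.node 1 (.node 1 (.node 1 .leaf .leaf) (.node 2 (.node 1 .leaf .leaf) .leaf)) (.node 2 (.node 0 (.node 0 .leaf .leaf) .leaf) .leaf))) (.node 2 (.node 0 (.node 1 (.node 1 .leaf .leaf) .leaf) (.node 1 (.node 0 (.node 1 (.node 2 .leaf .leaf) .leaf) (.node 2 (.node 2 .leaf .leaf) .leaf))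 (.node 2 .leaf .leaf))) .leaf))) (.node 1 (.node 0 (.node 0 (.node 2 (.node 2 .leaf .leaf) .leaf) (.node 1 (.node 0 (.node 0 .leaf .leaf) (.node 2 .leaf .leaf)) (.node 2 (.node 0 .leaf (.node 1 .leaf (.node 2 .leaf .leaf))) .leaf))) (.node 1 (.node 0 (.node 2 (.node 0 .leaf (.node 1 .leaf (.node 2 .leaf .leaf))) .leaf) (.node 1 (.node 0 (.node 0 .leaf (.node 2 (.node 1 .leaf .leaf) .leaf)) (.node 1 .leaf .leaf)) (.node 2 (.node 0 (.node 1 .leaf .leaf) .leaf) .leaf))) (.node 2 (.node 0 (.node 1 .leaf (.node 2 .leaf .leaf)) (.node 1 (.node 0 (.node 1 .leaf (.node 2 .leaf .leaf)) (.node 1 (.node 2 .leaf .leaf) (.node 2 .leaf .leaf))) (.node 2 (.node 0 .leaf (.node 2 .leaf .leaf)) .leaf))) .leaf))) (.node 2 (.node 0 (.node 0 (.node 0 .leaf .leaf) (.node 1 (.node 0 .leaf (.node 2 (.node 2 .leaf .leaf) .leaf)) (.node 2 (.node 0 .leaf (.node 1 .leaf (.node 2 (.node 0 .leaf (.node 2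 .leaf .leaf)) .leaf))) .leaf))) (.node 2 (.node 1 (.node 1 (.node 1 .leaf (.node 2 .leaf .leaf)) (.node 2 (.node 0 .leaf (.node 1 .leaf (.node 2 .leaf .leaf))) .leaf)) (.node 2 (.node 2 (.node 1 .leaf (.node 2 .leaf .leaf)) .leaf) .leaf)) .leaf)) .leaf))) (.node 2 (.node 0 (.node 0 (.node 0 .leaf (.node 1 (.node 0 (.node 2 .leaf .leaf) (.node 1 .leaf (.node 2 (.node 0 .leaf (.node 1 .leaf (.node 2 .leaf .leaf))) .leaf))) (.node 2 (.node 0 (.node 2 .leaf .leaf) (.node 1 (.node 2 .leaf .leaf) .leaf)) .leaf))) (.node 1 (.node 0 (.node 0 (.node 2 .leaf .leaf) .leaf) (.node 1 (.node 1 .leaf (.node 2 .leaf .leaf)) (.node 2 (.node 0 (.node 1 .leaf .leaf) .leaf) .leaf))) (.node 2 (.node 0 (.node 1 (.node 1 .leaf .leaf) .leaf) (.node 1 (.node 0 .leaf (.node 1 (.node 1 .leaf .leaf) (.node 2 (.node 0 .leaf (.node 2 .leaf .leaf)) .leaf))) (.node 2 (.node 1 .leaf .leaf) .leaf))) .leaf)))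 (.node 1 (.node 0 (.node 0 (.node 1 (.node 2 .leaf .leaf) .leaf) (.node 1 (.node 0 .leaf (.node 1 (.node 1 .leaf (.node 2 .leaf .leaf)) .leaf)) (.node 2 (.node 0 (.node 1 (.node 1 .leaf .leaf) .leaf) (.node 1 .leaf (.node 2 .leaf .leaf))) .leaf))) (.node 1 (.node 0 (.node 0 (.node 0 .leaf .leaf) (.node 2 .leaf .leaf)) (.node 1 (.node 0 .leaf (.node 2 (.node 0 .leaf (.node 2 .leaf .leaf)) .leaf)) (.node 2 (.node 0 .leaf .leaf) .leaf))) (.node 2 (.node 0 (.node 1 (.node 0 .leaf (.node 1 .leaf .leaf)) (.node 2 (.node 1 .leaf .leaf) .leaf)) (.node 1 (.node 0 .leaf .leaf) (.node 2 (.node 0 .leaf (.node 1 .leaf (.node 2 (.node 1 .leaf (.node 2 (.node 0 .leaf .leaf) .leaf)) .leaf))) .leaf))) .leaf))) (.node 2 (.node 0 (.node 1 (.node 1 .leaf .leaf) (.node 2 (.node 0 (.node 2 .leaf .leaf) (.node 1 (.node 1 .leaf .leaf) (.node 2 .leaf .leaf))) .leaf)) (.node 1 (.node 0 (.node 0 .leaf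 (.node 2 (.node 1 .leaf .leaf) .leaf)) (.node 1 (.node 0 (.node 1 .leaf .leaf) (.node 1 .leaf (.node 2 .leaf .leaf))) (.node 2 (.node 0 .leaf .leaf) .leaf))) (.node 2 (.node 0 (.node 0 (.node 1 .leaf .leaf) (.node 1 .leaf (.node 2 .leaf .leaf))) (.node 1 (.node 0 (.node 2 .leaf .leaf) (.node 2 .leaf .leaf)) (.node 2 (.node 0 (.node 0 .leaf .leaf) (.node 1 (.node 0 .leaf (.node 1 .leaf (.node 2 .leaf .leaf))) .leaf)) .leaf))) .leaf))) .leaf))) .leaf))) (.node 1 (.node 0 (.node 0 (.node 0 (.node 2 (.node 0 (.node 1 .leaf (.node 2 .leaf .leaf)) (.node 1 .leaf .leaf)) .leaf) (.node 1 (.node 0 (.node 0 .leaf (.node 2 .leaf .leaf)) (.node 2 (.node 0 .leaf (.node 1 (.node 0 .leaf .leaf) .leaf)) .leaf)) (.node 2 (.node 0 (.node 1 (.node 2 .leaf .leaf) (.node 2 .leaf .leaf)) (.node 2 (.node 0 .leaf (.node 1 (.node 2 .leaf .leaf) .leaf)) .leaf)) .leaf))) (.node 1 (.node 0 (.node 0 (.node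 0 .leaf (.node 1 (.node 0 .leaf .leaf) (.node 2 (.node 1 .leaf .leaf) .leaf))) (.node 1 (.node 0 (.node 0 .leaf (.node 1 .leaf .leaf)) (.node 1 .leaf .leaf)) (.node 2 (.node 1 .leaf (.node 2 (.node 1 .leaf .leaf) .leaf)) .leaf))) (.node 1 (.node 0 (.node 2 .leaf .leaf) (.node 1 (.node 0 .leaf (.node 2 .leaf .leaf)) (.node 2 (.node 0 .leaf (.node 1 (.node 1 .leaf .leaf) .leaf)) .leaf))) (.node 2 (.node 1 (.node 0 (.node 1 .leaf .leaf) .leaf) (.node 2 (.node 0 .leaf (.node 2 .leaf .leaf)) .leaf)) .leaf))) (.node 2 (.node 0 (.node 0 (.node 1 (.node 1 .leaf .leaf) (.node 2 .leaf .leaf)) (.node 1 (.node 1 (.node 2 .leaf .leaf) .leaf) (.node 2 (.node 1 (.node 0 .leaf .leaf) (.node 2 (.node 0 .leaf .leaf) .leaf)) .leaf))) (.node 1 (.node 1 (.node 0 .leaf (.node 1 (.node 0 .leaf .leaf) (.node 2 (.node 0 .leaf .leaf) .leaf))) (.node 2 .leaf .leaf)) (.node 2 (.node 0 (.node 0 .leaf (.node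 1 (.node 0 .leaf .leaf) .leaf)) (.node 1 (.node 1 .leaf (.node 2 .leaf .leaf)) (.node 2 (.node 0 .leaf (.node 1 (.node 0 .leaf (.node 1 .leaf (.node 2 .leaf .leaf))) .leaf)) .leaf))) .leaf))) .leaf))) (.node 1 (.node 0 (.node 0 (.node 0 (.node 1 .leaf (.node 2 .leaf .leaf)) (.node 1 (.node 0 .leaf .leaf) (.node 2 .leaf .leaf))) (.node 1 (.node 0 (.node 1 (.node 0 .leaf .leaf) .leaf) (.node 1 (.node 1 (.node 0 .leaf .leaf) (.node 2 .leaf .leaf)) (.node 2 (.node 0 .leaf (.node 1 .leaf .leaf)) .leaf))) (.node 2 (.node 0 .leaf (.node 1 (.node 0 .leaf (.node 1 (.node 0 .leaf .leaf) .leaf)) .leaf)) .leaf))) (.node 1 (.node 0 (.node 0 (.node 0 (.node 2 .leaf .leaf) (.node 2 .leaf .leaf)) (.node 1 (.node 1 (.node 2 .leaf .leaf) (.node 2 .leaf .leaf)) (.node 2 (.node 1 (.node 1 .leaf .leaf) .leaf) .leaf))) (.node 1 (.node 0 (.node 1 .leaf .leaf) (.node 2 (.node 0 .leaf .leaf) .leaf))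 (.node 2 (.node 0 (.node 0 .leaf (.node 1 .leaf .leaf)) (.node 1 (.node 2 (.node 0 .leaf (.node 1 .leaf .leaf)) .leaf) (.node 2 (.node 0 (.node 0 .leaf .leaf) (.node 1 .leaf (.node 2 .leaf .leaf))) .leaf))) .leaf))) (.node 2 (.node 0 (.node 0 (.node 1 .leaf (.node 2 (.node 2 .leaf .leaf) .leaf)) (.node 1 (.node 0 (.node 1 .leaf .leaf) .leaf) .leaf)) (.node 1 (.node 0 (.node 1 .leaf (.node 2 .leaf .leaf)) (.node 1 (.node 0 .leaf (.node 2 .leaf .leaf)) (.node 2 (.node 1 .leaf .leaf) .leaf))) (.node 2 (.node 0 (.node 0 (.node 2 .leaf .leaf) (.node 1 (.node 0 .leaf (.node 2 .leaf .leaf)) (.node 2 (.node 0 .leaf .leaf) .leaf))) (.node 1 (.node 0 .leaf .leaf) (.node 2 (.node 2 .leaf .leaf) .leaf))) .leaf))) .leaf))) (.node 2 (.node 0 (.node 0 (.node 0 (.node 1 .leaf .leaf) (.node 1 (.node 2 .leaf .leaf) (.node 2 (.node 0 (.node 0 .leaf (.node 1 .leaf .leaf)) (.node 1 .leaf (.node 2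 .leaf .leaf))) .leaf))) (.node 1 (.node 0 (.node 1 .leaf .leaf) (.node 2 (.node 0 .leaf (.node 2 .leaf .leaf)) .leaf)) (.node 2 (.node 0 (.node 1 (.node 0 .leaf .leaf) .leaf) (.node 2 (.node 0 .leaf (.node 1 .leaf (.node 2 .leaf .leaf))) .leaf)) .leaf))) (.node 1 (.node 0 (.node 0 (.node 0 .leaf (.node 1 .leaf .leaf)) (.node 1 (.node 0 .leaf .leaf) (.node 2 (.node 2 (.node 1 .leaf .leaf) .leaf) .leaf))) (.node 1 .leaf (.node 2 (.node 1 (.node 0 .leaf (.node 2 (.node 2 .leaf .leaf) .leaf)) .leaf) .leaf))) (.node 2 (.node 0 (.node 0 (.node 0 .leaf (.node 2 .leaf .leaf)) (.node 1 (.node 0 .leaf .leaf) (.node 2 (.node 0 .leaf (.node 2 (.node 0 .leaf .leaf) .leaf)) .leaf))) (.node 1 (.node 1 (.node 0 .leaf (.node 1 .leaf .leaf)) .leaf) (.node 2 (.node 0 (.node 2 (.node 1 .leaf .leaf) .leaf) (.node 1 (.node 0 .leaf .leaf) .leaf)) .leaf))) .leaf))) .leaf))) (.node 2 (.node 0 (.node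 0 (.node 0 (.node 1 (.node 2 .leaf .leaf) (.node 2 (.node 0 .leaf (.node 1 .leaf (.node 2 .leaf .leaf))) .leaf)) (.node 1 (.node 1 (.node 0 .leaf .leaf) .leaf) (.node 2 (.node 1 (.node 1 .leaf .leaf) (.node 2 (.node 1 .leaf (.node 2 (.node 1 .leaf (.node 2 .leaf .leaf)) .leaf)) .leaf)) .leaf))) (.node 1 (.node 0 (.node 0 (.node 0 (.node 1 .leaf .leaf) (.node 1 (.node 0 .leaf .leaf) (.node 2 .leaf .leaf))) (.node 1 (.node 0 .leaf (.node 2 .leaf .leaf)) .leaf)) (.node 1 (.node 0 (.node 1 .leaf (.node 2 (.node 0 .leaf .leaf) .leaf)) (.node 1 (.node 0 (.node 0 .leaf .leaf) .leaf) (.node 2 (.node 0 .leaf (.node 2 .leaf .leaf)) .leaf))) (.node 2 (.node 0 (.node 0 .leaf (.node 1 .leaf .leaf)) (.node 1 (.node 1 .leaf .leaf) (.node 2 (.node 1 .leaf .leaf) .leaf))) .leaf))) (.node 2 (.node 0 (.node 0 (.node 0 (.node 1 .leaf .leaf) (.node 2 .leaf .leaf)) (.node 1 .leaf (.node 2 (.node 0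 .leaf .leaf) .leaf))) (.node 1 (.node 0 (.node 2 .leaf .leaf) (.node 1 (.node 2 (.node 2 .leaf .leaf) .leaf) (.node 2 (.node 0 (.node 0 .leaf .leaf) (.node 1 .leaf (.node 2 (.node 2 .leaf .leaf) .leaf))) .leaf))) (.node 2 (.node 0 .leaf (.node 1 (.node 1 (.node 0 .leaf .leaf) (.node 2 .leaf .leaf)) (.node 2 .leaf .leaf))) .leaf))) .leaf))) (.node 1 (.node 0 (.node 0 (.node 0 (.node 1 (.node 1 .leaf .leaf) (.node 2 .leaf .leaf)) (.node 1 (.node 0 (.node 1 .leaf .leaf) (.node 2 .leaf .leaf)) (.node 2 (.node 0 .leaf (.node 2 .leaf .leaf)) .leaf))) (.node 1 (.node 0 (.node 1 (.node 0 .leaf .leaf) (.node 2 .leaf .leaf)) (.node 1 (.node 0 .leaf .leaf) (.node 2 (.node 0 .leaf (.node 1 (.node 2 .leaf .leaf) .leaf)) .leaf))) (.node 2 (.node 0 (.node 1 (.node 0 .leaf .leaf) .leaf) (.node 1 .leaf (.node 2 (.node 0 .leaf .leaf) .leaf))) .leaf))) (.node 1 (.node 0 (.node 0 (.node 0 (.node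 2 .leaf .leaf) .leaf) .leaf) (.node 1 (.node 0 (.node 1 .leaf (.node 2 .leaf .leaf)) (.node 1 (.node 2 .leaf .leaf) (.node 2 (.node 0 .leaf (.node 1 .leaf .leaf)) .leaf))) (.node 2 (.node 2 (.node 0 .leaf (.node 1 .leaf .leaf)) .leaf) .leaf))) (.node 2 (.node 0 (.node 1 (.node 0 .leaf (.node 2 (.node 1 .leaf .leaf) .leaf)) (.node 2 (.node 1 (.node 1 .leaf .leaf) (.node 2 .leaf .leaf)) .leaf)) (.node 1 (.node 2 (.node 1 .leaf .leaf) .leaf) (.node 2 (.node 0 (.node 0 (.node 2 .leaf .leaf) (.node 1 .leaf (.node 2 .leaf .leaf))) (.node 1 (.node 1 (.node 1 .leaf .leaf) .leaf) (.node 2 (.node 0 (.node 1 .leaf .leaf) (.node 2 .leaf .leaf)) .leaf))) .leaf))) .leaf))) (.node 2 (.node 0 (.node 0 (.node 0 (.node 1 .leaf (.node 2 (.node 1 .leaf .leaf) .leaf)) (.node 1 (.node 0 .leaf (.node 2 .leaf .leaf)) (.node 2 (.node 1 .leaf .leaf) .leaf))) (.node 1 (.node 0 (.node 0 .leaf (.node 1 .leaf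 (.node 2 .leaf .leaf))) (.node 1 (.node 2 .leaf .leaf) (.node 2 .leaf .leaf))) (.node 2 (.node 0 (.node 1 .leaf .leaf) (.node 1 (.node 0 .leaf (.node 1 .leaf (.node 2 .leaf .leaf))) (.node 2 (.node 2 .leaf .leaf) .leaf))) .leaf))) (.node 1 (.node 0 (.node 1 (.node 0 .leaf .leaf) .leaf) (.node 1 (.node 0 (.node 1 .leaf .leaf) (.node 1 (.node 1 .leaf .leaf) (.node 2 .leaf .leaf))) (.node 2 (.node 0 .leaf .leaf) .leaf))) (.node 2 (.node 0 (.node 0 (.node 0 .leaf (.node 1 .leaf (.node 2 (.node 2 .leaf .leaf) .leaf))) (.node 1 .leaf (.node 2 (.node 1 .leaf .leaf) .leaf))) (.node 1 (.node 0 (.node 0 .leaf .leaf) (.node 1 (.node 1 .leaf (.node 2 (.node 1 .leaf .leaf) .leaf)) (.node 2 .leaf .leaf))) (.node 2 (.node 0 (.node 1 .leaf (.node 2 .leaf .leaf)) (.node 2 (.node 1 .leaf .leaf) .leaf)) .leaf))) .leaf))) .leaf))) .leaf)))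

end Cfsg.Agent.Lib.Golay
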