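import Mathlib
import Cfsg.Agent.Lib.GolayOrbTree

set_option autoImplicit false
set_option maxRecDepth 100000

/-!
# Spanning trees of orbits: octad stabiliser
-/

namespace Cfsg.Agent.Lib.Golay

def OTR0 : List ℕ := [337856,7903248,8536111]

def OTV0 : ℕ := 64

def OTT0 : OTree := (.node 0 (.node 0 (.node 0 .leaf .leaf) (.node 2 (.node 0 (.node 2 .leaf .leaf) (.node 1 (.node 0 .leaf .leaf) (.node 2 (.node 1 .leaf .leaf) .leaf))) .leaf)) (.node 1 (.node 0 (.node 2 .leaf .leaf) (.node 2 .leaf .leaf)) .leaf))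

def OTR1 : List ℕ := [5279,4038912,12733024]

def OTV1 : ℕ := 32

def OTT1 : OTree := (.node 0 (.node 0 (.node 0 (.node 0 (.node 0 (.node 1 (.node 2 .leaf .leaf) (.node 2 .leaf .leaf)) (.node 1 (.node 0 .leaf (.node 2 .leaf .leaf)) (.node 2 (.node 0 (.node 1 .leaf .leaf) (.node 1 (.node 0 .leaf .leaf) (.node 2 .leaf .leaf))) .leaf))) (.node 1 (.node 0 (.node 1 .leaf (.node 2 (.node 2 .leaf .leaf) .leaf)) (.node 1 (.node 0 (.node 0 .leaf .leaf) (.node 1 .leaf .leaf)) (.node 2 (.node 0 .leaf (.node 1 .leaf (.node 2 (.node 0 .leaf .leaf) .leaf))) .leaf))) (.node 2 (.node 0 (.node 1 .leaf (.node 2 (.node 1 .leaf (.node 2 (.node 0 .leaf .leaf) .leaf)) .leaf)) (.node 1 (.node 2 (.node 0 .leaf .leaf) .leaf) (.node 2 (.node 0 .leaf (.node 2 .leaf .leaf)) .leaf))) .leaf))) (.node 1 (.node 0 (.node 1 (.node 2 .leaf .leaf) .leaf) (.node 1 (.node 0 (.node 1 .leaf (.node 2 (.node 2 .leaf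 .leaf) .leaf)) .leaf) .leaf)) (.node 2 (.node 0 (.node 0 (.node 0 .leaf (.node 2 .leaf .leaf)) (.node 1 (.node 2 .leaf .leaf) (.node 2 (.node 0 .leaf (.node 1 .leaf (.node 2 (.node 2 .leaf .leaf) .leaf))) .leaf))) (.node 2 (.node 0 (.node 0 (.node 0 .leaf .leaf) (.node 1 .leaf .leaf)) .leaf) .leaf)) .leaf))) (.node 1 (.node 0 (.node 0 (.node 1 (.node 0 (.node 2 .leaf .leaf) (.node 2 .leaf .leaf)) (.node 2 (.node 0 (.node 0 .leaf .leaf) (.node 1 .leaf (.node 2 .leaf .leaf))) .leaf)) (.node 1 (.node 0 (.node 1 (.node 0 .leaf (.node 2 .leaf .leaf)) .leaf) (.node 1 (.node 1 .leaf .leaf) (.node 2 (.node 0 .leaf .leaf) .leaf))) (.node 2 (.node 0 (.node 0 (.node 0 .leaf .leaf) (.node 1 (.node 1 .leaf (.node 2 .leaf .leaf)) .leaf)) (.node 2 (.node 0 .leaf (.node 2 .leaf .leaf)) .leaf)) .leaf))) (.node 1 (.node 0 (.node 0 (.node 1 .leaf .leaf) (.node 1 .leaf (.node 2 (.node 1 (.node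 0 .leaf .leaf) (.node 2 (.node 0 .leaf .leaf) .leaf)) .leaf))) (.node 1 (.node 0 (.node 0 (.node 1 .leaf .leaf) (.node 1 .leaf (.node 2 .leaf .leaf))) (.node 1 .leaf (.node 2 (.node 1 .leaf (.node 2 .leaf .leaf)) .leaf))) (.node 2 (.node 0 (.node 1 (.node 0 .leaf (.node 2 .leaf .leaf)) .leaf) (.node 1 (.node 0 .leaf (.node 1 .leaf (.node 2 (.node 0 .leaf .leaf) .leaf))) (.node 2 (.node 1 .leaf .leaf) .leaf))) .leaf))) (.node 2 (.node 0 (.node 1 (.node 0 .leaf (.node 1 .leaf (.node 2 .leaf .leaf))) .leaf) (.node 1 (.node 0 (.node 0 .leaf .leaf) (.node 1 .leaf .leaf)) (.node 2 (.node 1 (.node 1 .leaf .leaf) (.node 2 (.node 2 .leaf .leaf) .leaf)) .leaf))) .leaf))) (.node 2 (.node 0 (.node 0 (.node 2 (.node 0 .leaf .leaf) .leaf) (.node 1 (.node 0 (.node 0 .leaf (.node 1 .leaf .leaf)) (.node 1 (.node 0 .leaf (.node 1 .leaf .leaf)) (.node 2 .leaf .leaf))) (.node 2 (.node 0 (.node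 1 .leaf (.node 2 .leaf .leaf)) (.node 2 (.node 1 (.node 0 .leaf .leaf) (.node 2 .leaf .leaf)) .leaf)) .leaf))) (.node 1 (.node 0 (.node 2 .leaf .leaf) (.node 1 (.node 0 (.node 0 (.node 1 .leaf .leaf) (.node 1 .leaf .leaf)) (.node 1 .leaf .leaf)) (.node 2 (.node 0 (.node 0 .leaf (.node 1 .leaf (.node 2 .leaf .leaf))) (.node 1 (.node 0 .leaf .leaf) (.node 2 .leaf .leaf))) .leaf))) (.node 2 (.node 0 (.node 0 (.node 0 .leaf .leaf) (.node 2 (.node 2 .leaf .leaf) .leaf)) (.node 1 (.node 0 (.node 2 .leaf .leaf) (.node 1 .leaf (.node 2 (.node 0 .leaf (.node 2 .leaf .leaf)) .leaf))) (.node 2 (.node 1 (.node 2 .leaf .leaf) .leaf) .leaf))) .leaf))) .leaf))) (.node 1 (.node 0 (.node 0 (.node 1 (.node 0 (.node 1 .leaf .leaf) (.node 1 (.node 0 .leaf (.node 1 .leaf .leaf)) .leaf)) .leaf) (.node 1 (.node 0 (.node 1 .leaf .leaf) (.node 1 (.node 1 (.node 0 (.node 2 .leaf .leaf) (.node 2 .leaf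 .leaf)) (.node 2 .leaf .leaf)) (.node 2 (.node 1 .leaf .leaf) .leaf))) (.node 2 (.node 0 (.node 0 .leaf (.node 1 (.node 1 .leaf (.node 2 .leaf .leaf)) .leaf)) (.node 2 (.node 0 (.node 0 (.node 2 .leaf .leaf) (.node 1 .leaf .leaf)) (.node 1 .leaf .leaf)) .leaf)) .leaf))) (.node 1 (.node 0 (.node 1 (.node 0 (.node 1 .leaf .leaf) .leaf) (.node 2 (.node 2 (.node 0 .leaf .leaf) .leaf) .leaf)) (.node 1 (.node 1 (.node 0 (.node 0 .leaf .leaf) (.node 1 (.node 0 .leaf .leaf) (.node 2 (.node 1 .leaf .leaf) .leaf))) (.node 2 (.node 1 (.node 0 .leaf .leaf) (.node 2 (.node 0 .leaf (.node 1 .leaf .leaf)) .leaf)) .leaf)) (.node 2 (.node 0 (.node 2 (.node 1 (.node 1 .leaf .leaf) (.node 2 .leaf .leaf)) .leaf) (.node 1 (.node 1 (.node 0 .leaf .leaf) (.node 2 (.node 0 .leaf (.node 1 .leaf .leaf)) .leaf)) (.node 2 (.node 0 (.node 1 .leaf .leaf) (.node 2 .leaf .leaf)) .leaf))) .leaf))) (.node 2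 (.node 0 (.node 0 (.node 0 (.node 1 .leaf .leaf) (.node 1 (.node 1 .leaf .leaf) (.node 2 .leaf .leaf))) (.node 1 (.node 0 (.node 1 .leaf .leaf) (.node 1 (.node 1 .leaf (.node 2 (.node 2 .leaf .leaf) .leaf)) .leaf)) (.node 2 (.node 1 (.node 0 .leaf (.node 2 .leaf .leaf)) .leaf) .leaf))) (.node 1 (.node 0 (.node 0 .leaf (.node 1 .leaf (.node 2 (.node 0 .leaf (.node 1 .leaf .leaf)) .leaf))) (.node 1 (.node 0 .leaf (.node 2 (.node 0 .leaf .leaf) .leaf)) (.node 2 (.node 2 (.node 1 .leaf (.node 2 .leaf .leaf)) .leaf) .leaf))) (.node 2 (.node 0 (.node 2 (.node 0 .leaf (.node 1 .leaf (.node 2 .leaf .leaf))) .leaf) (.node 1 (.node 1 (.node 2 .leaf .leaf) .leaf) .leaf)) .leaf))) .leaf))) (.node 2 (.node 0 (.node 0 (.node 0 (.node 1 (.node 0 .leaf .leaf) (.node 2 .leaf .leaf)) (.node 2 (.node 0 (.node 0 .leaf (.node 1 .leaf .leaf)) (.node 1 (.node 2 .leaf .leaf) .leaf)) .leaf)) (.node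 1 (.node 1 (.node 0 .leaf (.node 2 .leaf .leaf)) (.node 2 (.node 0 (.node 0 (.node 1 .leaf .leaf) .leaf) (.node 1 (.node 0 .leaf (.node 1 .leaf .leaf)) (.node 2 (.node 2 .leaf .leaf) .leaf))) .leaf)) (.node 2 (.node 0 (.node 0 .leaf (.node 1 (.node 0 .leaf .leaf) (.node 2 .leaf .leaf))) (.node 2 (.node 0 .leaf (.node 1 (.node 2 .leaf .leaf) .leaf)) .leaf)) .leaf))) (.node 1 (.node 0 (.node 0 (.node 0 .leaf (.node 2 (.node 2 .leaf .leaf) .leaf)) (.node 1 (.node 1 (.node 2 .leaf .leaf) (.node 2 .leaf .leaf)) (.node 2 (.node 0 (.node 0 .leaf .leaf) (.node 2 (.node 1 .leaf (.node 2 .leaf .leaf)) .leaf)) .leaf))) (.node 1 (.node 0 (.node 0 .leaf (.node 1 (.node 0 .leaf (.node 2 .leaf .leaf)) .leaf)) (.node 1 .leaf (.node 2 (.node 0 .leaf (.node 2 (.node 1 .leaf .leaf) .leaf)) .leaf))) .leaf)) (.node 2 (.node 0 (.node 0 (.node 0 (.node 2 .leaf .leaf) (.node 1 .leaf (.node 2 .leaf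 .leaf))) (.node 1 (.node 0 (.node 2 .leaf .leaf) (.node 1 (.node 0 .leaf .leaf) (.node 2 (.node 0 (.node 1 .leaf .leaf) (.node 1 .leaf .leaf)) .leaf))) (.node 2 (.node 0 .leaf (.node 2 .leaf .leaf)) .leaf))) (.node 1 (.node 0 (.node 0 .leaf (.node 1 (.node 1 .leaf .leaf) (.node 2 (.node 2 .leaf .leaf) .leaf))) (.node 1 (.node 0 (.node 1 .leaf .leaf) (.node 1 (.node 2 .leaf .leaf) .leaf)) (.node 2 (.node 1 .leaf (.node 2 .leaf .leaf)) .leaf))) (.node 2 (.node 0 (.node 0 .leaf (.node 2 .leaf .leaf)) (.node 1 (.node 0 .leaf .leaf) (.node 2 .leaf .leaf))) .leaf))) .leaf))) .leaf)))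

def OTR2 : List ℕ := [5279,1009728,15762208]

def OTV2 : ℕ := 24

def OTT2 : OTree := (.node 0 (.node 0 (.node 0 (.node 0 (.node 0 (.node 0 (.node 0 (.node 0 (.node 0 .leaf .leaf) (.node 2 (.node 0 .leaf .leaf) .leaf)) (.node 1 (.node 0 (.node 2 .leaf .leaf) (.node 1 (.node 2 .leaf .leaf) .leaf)) (.node 2 (.node 0 .leaf (.node 1 .leaf .leaf)) .leaf))) (.node 1 (.node 0 (.node 0 .leaf .leaf) (.node 1 (.node 0 (.node 1 .leaf .leaf) (.node 1 .leaf .leaf)) (.node 2 (.node 0 .leaf .leaf) .leaf))) (.node 2 (.node 0 (.node 0 (.node 2 .leaf .leaf) .leaf) (.node 1 (.node 0 (.node 2 .leaf .leaf) (.node 1 .leaf .leaf)) (.node 2 (.node 1 (.node 2 (.node 2 .leaf .leaf) .leaf) (.node 2 .leaf .leaf)) .leaf))) .leaf))) (.node 1 (.node 0 (.node 0 (.node 2 (.node 2 .leaf .leaf) .leaf) (.node 1 (.node 0 .leaf .leaf) (.node 2 (.node 0 .leaf (.node 1 .leaf .leaf)) .leaf))) (.node 1 (.node 0 .leaf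 (.node 1 (.node 1 .leaf .leaf) (.node 2 (.node 2 (.node 0 .leaf (.node 2 .leaf .leaf)) .leaf) .leaf))) (.node 2 (.node 0 (.node 0 (.node 0 .leaf .leaf) .leaf) (.node 1 (.node 0 .leaf (.node 1 .leaf .leaf)) (.node 2 .leaf .leaf))) .leaf))) (.node 2 (.node 0 (.node 0 (.node 0 .leaf .leaf) (.node 2 (.node 2 .leaf .leaf) .leaf)) (.node 2 (.node 0 (.node 2 (.node 0 .leaf .leaf) .leaf) (.node 1 (.node 0 .leaf .leaf) (.node 2 (.node 0 .leaf (.node 1 (.node 0 .leaf .leaf) (.node 2 .leaf .leaf))) .leaf))) .leaf)) .leaf))) (.node 1 (.node 0 (.node 1 (.node 0 (.node 1 .leaf .leaf) (.node 2 (.node 2 (.node 1 .leaf .leaf) .leaf) .leaf)) (.node 2 (.node 0 (.node 0 (.node 1 .leaf .leaf) (.node 2 .leaf .leaf)) (.node 1 (.node 0 .leaf (.node 1 .leaf (.node 2 .leaf .leaf))) (.node 2 (.node 1 (.node 2 .leaf .leaf) .leaf) .leaf))) .leaf)) (.node 1 (.node 0 (.node 0 (.node 2 .leaf .leaf) (.node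 1 (.node 1 .leaf .leaf) (.node 2 (.node 1 (.node 0 .leaf .leaf) (.node 2 (.node 0 .leaf .leaf) .leaf)) .leaf))) (.node 1 (.node 0 (.node 0 .leaf (.node 2 .leaf .leaf)) (.node 1 .leaf (.node 2 (.node 1 (.node 1 .leaf .leaf) (.node 2 .leaf .leaf)) .leaf))) (.node 2 (.node 0 (.node 0 .leaf (.node 1 (.node 1 .leaf .leaf) .leaf)) (.node 1 (.node 2 .leaf .leaf) (.node 2 (.node 0 (.node 1 .leaf .leaf) .leaf) .leaf))) .leaf))) (.node 2 (.node 0 (.node 0 (.node 0 (.node 0 .leaf .leaf) .leaf) (.node 2 (.node 0 .leaf (.node 1 (.node 0 .leaf .leaf) (.node 2 (.node 2 .leaf .leaf) .leaf))) .leaf)) (.node 1 (.node 1 (.node 1 (.node 0 .leaf .leaf) .leaf) (.node 2 .leaf .leaf)) (.node 2 (.node 0 (.node 1 (.node 0 .leaf .leaf) (.node 2 (.node 0 .leaf .leaf) .leaf)) (.node 1 (.node 1 (.node 0 .leaf .leaf) .leaf) (.node 2 (.node 0 .leaf (.node 1 .leaf .leaf)) .leaf))) .leaf))) .leaf))) (.node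 2 (.node 0 (.node 0 (.node 0 (.node 1 (.node 1 .leaf .leaf) .leaf) (.node 1 (.node 0 (.node 1 .leaf .leaf) .leaf) (.node 2 (.node 0 (.node 0 .leaf (.node 2 .leaf .leaf)) (.node 2 .leaf .leaf)) .leaf))) (.node 1 (.node 0 (.node 0 (.node 0 .leaf .leaf) .leaf) (.node 2 (.node 0 .leaf (.node 1 (.node 0 .leaf .leaf) .leaf)) .leaf)) (.node 2 (.node 0 .leaf (.node 1 (.node 0 .leaf (.node 1 (.node 1 .leaf .leaf) .leaf)) (.node 2 (.node 0 .leaf (.node 2 .leaf .leaf)) .leaf))) .leaf))) (.node 1 (.node 0 (.node 0 (.node 0 .leaf (.node 2 (.node 1 .leaf .leaf) .leaf)) (.node 1 (.node 1 .leaf .leaf) (.node 2 (.node 0 (.node 0 .leaf .leaf) (.node 1 (.node 0 .leaf .leaf) (.node 2 (.node 2 .leaf .leaf) .leaf))) .leaf))) (.node 1 (.node 0 (.node 0 (.node 2 .leaf .leaf) .leaf) .leaf) .leaf)) (.node 2 (.node 0 (.node 0 (.node 0 .leaf (.node 2 .leaf .leaf)) (.node 1 (.node 0 .leaf .leaf) (.node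 2 (.node 1 .leaf .leaf) .leaf))) (.node 1 (.node 0 (.node 0 .leaf (.node 1 (.node 2 .leaf .leaf) (.node 2 (.node 2 .leaf .leaf) .leaf))) (.node 2 (.node 0 (.node 1 .leaf (.node 2 .leaf .leaf)) (.node 1 .leaf .leaf)) .leaf)) (.node 2 (.node 0 (.node 0 .leaf (.node 1 (.node 0 .leaf (.node 2 .leaf .leaf)) (.node 2 .leaf .leaf))) (.node 1 (.node 1 (.node 0 .leaf (.node 2 .leaf .leaf)) (.node 2 .leaf .leaf)) (.node 2 (.node 0 .leaf (.node 1 .leaf (.node 2 (.node 2 .leaf .leaf) .leaf))) .leaf))) .leaf))) .leaf))) .leaf))) (.node 1 (.node 0 (.node 0 (.node 1 (.node 0 (.node 1 .leaf .leaf) (.node 1 (.node 1 .leaf (.node 2 .leaf .leaf)) (.node 2 (.node 1 .leaf .leaf) .leaf))) (.node 2 (.node 1 (.node 0 (.node 2 .leaf .leaf) (.node 2 (.node 1 .leaf .leaf) .leaf)) .leaf) .leaf)) (.node 1 (.node 0 (.node 0 (.node 0 (.node 0 .leaf .leaf) (.node 1 .leaf (.node 2 .leaf .leaf))) (.node 1 (.node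 0 (.node 0 .leaf (.node 1 .leaf .leaf)) (.node 1 (.node 1 .leaf .leaf) (.node 2 .leaf .leaf))) .leaf)) (.node 2 (.node 0 (.node 0 .leaf (.node 1 .leaf .leaf)) (.node 1 (.node 0 (.node 2 .leaf .leaf) (.node 1 (.node 2 .leaf .leaf) .leaf)) (.node 2 (.node 0 .leaf (.node 1 .leaf (.node 2 .leaf .leaf))) .leaf))) .leaf)) (.node 2 (.node 0 (.node 0 (.node 2 .leaf .leaf) .leaf) (.node 1 (.node 0 .leaf (.node 1 (.node 1 .leaf (.node 2 .leaf .leaf)) (.node 2 (.node 0 .leaf (.node 2 .leaf .leaf)) .leaf))) (.node 2 (.node 0 (.node 2 (.node 0 .leaf .leaf) .leaf) (.node 1 (.node 0 (.node 2 .leaf .leaf) (.node 2 (.node 1 .leaf .leaf) .leaf)) (.node 2 (.node 1 .leaf (.node 2 (.node 0 .leaf .leaf) .leaf)) .leaf))) .leaf))) .leaf))) (.node 1 (.node 0 (.node 0 (.node 0 .leaf (.node 1 (.node 1 .leaf .leaf) (.node 2 (.node 0 .leaf .leaf) .leaf))) (.node 1 (.node 1 (.node 0 .leaf (.node 2 .leaf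 .leaf)) (.node 2 .leaf .leaf)) (.node 2 (.node 0 (.node 2 (.node 1 .leaf .leaf) .leaf) (.node 1 .leaf (.node 2 (.node 0 .leaf (.node 1 (.node 2 .leaf .leaf) (.node 2 .leaf .leaf))) .leaf))) .leaf))) (.node 2 (.node 0 (.node 0 (.node 1 .leaf (.node 2 (.node 1 .leaf .leaf) .leaf)) (.node 2 (.node 1 .leaf (.node 2 (.node 2 .leaf .leaf) .leaf)) .leaf)) (.node 1 (.node 0 (.node 1 .leaf .leaf) (.node 1 .leaf (.node 2 .leaf .leaf))) (.node 2 (.node 0 .leaf (.node 1 (.node 1 (.node 0 .leaf .leaf) (.node 2 .leaf .leaf)) (.node 2 (.node 0 .leaf .leaf) .leaf))) .leaf))) .leaf)) (.node 2 (.node 0 (.node 0 (.node 0 .leaf (.node 1 (.node 0 .leaf .leaf) (.node 2 (.node 2 .leaf .leaf) .leaf))) (.node 1 (.node 0 (.node 2 (.node 2 .leaf .leaf) .leaf) (.node 2 (.node 0 (.node 0 .leaf .leaf) (.node 1 .leaf .leaf)) .leaf)) (.node 2 (.node 1 (.node 0 (.node 0 .leaf .leaf) .leaf) (.node 2 (.node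 2 .leaf .leaf) .leaf)) .leaf))) (.node 1 (.node 0 (.node 0 (.node 2 .leaf .leaf) (.node 1 .leaf (.node 2 (.node 0 .leaf (.node 1 .leaf (.node 2 (.node 1 .leaf .leaf) .leaf))) .leaf))) (.node 1 (.node 1 (.node 1 (.node 1 .leaf .leaf) (.node 2 (.node 2 .leaf .leaf) .leaf)) .leaf) (.node 2 (.node 0 (.node 0 .leaf (.node 1 .leaf .leaf)) (.node 1 (.node 0 .leaf .leaf) (.node 2 (.node 0 .leaf (.node 1 .leaf (.node 2 .leaf .leaf))) .leaf))) .leaf))) (.node 2 (.node 1 (.node 1 (.node 2 (.node 0 .leaf .leaf) .leaf) (.node 2 (.node 1 .leaf .leaf) .leaf)) (.node 2 (.node 0 (.node 2 (.node 0 .leaf .leaf) .leaf) (.node 1 (.node 0 .leaf (.node 1 (.node 0 .leaf (.node 1 .leaf .leaf)) (.node 2 (.node 0 .leaf (.node 2 .leaf .leaf)) .leaf))) (.node 2 (.node 0 (.node 2 .leaf .leaf) .leaf) .leaf))) .leaf)) .leaf))) .leaf))) (.node 2 (.node 0 (.node 0 (.node 0 (.node 0 (.node 2 .leaf .leaf) (.node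 1 (.node 2 .leaf .leaf) .leaf)) (.node 1 (.node 0 (.node 1 (.node 2 .leaf .leaf) (.node 2 .leaf .leaf)) (.node 1 (.node 1 .leaf .leaf) (.node 2 (.node 0 .leaf (.node 1 (.node 1 .leaf .leaf) .leaf)) .leaf))) (.node 2 (.node 1 .leaf (.node 2 (.node 0 .leaf (.node 2 .leaf .leaf)) .leaf)) .leaf))) (.node 1 (.node 0 (.node 0 .leaf (.node 1 (.node 0 (.node 2 .leaf .leaf) (.node 1 .leaf .leaf)) (.node 2 (.node 0 .leaf .leaf) .leaf))) (.node 1 (.node 2 (.node 0 .leaf .leaf) .leaf) (.node 2 (.node 0 (.node 0 (.node 2 .leaf .leaf) (.node 2 .leaf .leaf)) (.node 1 (.node 1 (.node 1 .leaf .leaf) (.node 2 .leaf .leaf)) (.node 2 (.node 0 .leaf (.node 1 (.node 1 .leaf .leaf) .leaf)) .leaf))) .leaf))) (.node 2 (.node 0 (.node 0 .leaf (.node 1 (.node 0 .leaf (.node 2 (.node 2 .leaf .leaf) .leaf)) (.node 2 (.node 1 (.node 0 .leaf .leaf) .leaf) .leaf))) (.node 1 (.node 0 (.node 0 .leaf (.node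 1 (.node 1 .leaf .leaf) .leaf)) (.node 2 (.node 2 .leaf .leaf) .leaf)) (.node 2 (.node 1 (.node 1 (.node 2 .leaf .leaf) (.node 2 .leaf .leaf)) (.node 2 (.node 0 .leaf (.node 2 .leaf .leaf)) .leaf)) .leaf))) .leaf))) (.node 1 (.node 0 (.node 0 (.node 0 (.node 0 .leaf (.node 2 .leaf .leaf)) (.node 1 .leaf (.node 2 (.node 1 .leaf (.node 2 (.node 0 .leaf .leaf) .leaf)) .leaf))) (.node 1 (.node 0 (.node 0 .leaf (.node 2 (.node 0 .leaf (.node 1 .leaf .leaf)) .leaf)) (.node 1 (.node 0 .leaf (.node 1 (.node 1 .leaf .leaf) .leaf)) (.node 2 (.node 2 .leaf .leaf) .leaf))) (.node 2 (.node 0 (.node 0 (.node 0 .leaf .leaf) (.node 1 (.node 1 .leaf .leaf) .leaf)) (.node 1 .leaf (.node 2 (.node 1 (.node 0 .leaf .leaf) .leaf) .leaf))) .leaf))) (.node 1 (.node 0 (.node 0 (.node 0 .leaf (.node 1 (.node 1 .leaf .leaf) .leaf)) (.node 1 (.node 1 (.node 2 .leaf .leaf) (.node 2 (.node 1 .leaf .leaf)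 .leaf)) .leaf)) (.node 1 (.node 0 (.node 0 .leaf (.node 1 .leaf (.node 2 .leaf .leaf))) (.node 1 (.node 2 (.node 1 .leaf .leaf) .leaf) (.node 2 (.node 0 .leaf (.node 1 .leaf (.node 2 .leaf .leaf))) .leaf))) (.node 2 (.node 0 (.node 0 .leaf (.node 1 .leaf .leaf)) (.node 1 (.node 1 .leaf (.node 2 .leaf .leaf)) .leaf)) .leaf))) (.node 2 (.node 0 (.node 0 (.node 0 .leaf (.node 2 .leaf .leaf)) (.node 1 .leaf (.node 2 (.node 0 .leaf (.node 1 .leaf .leaf)) .leaf))) (.node 1 (.node 0 (.node 1 .leaf (.node 2 .leaf .leaf)) (.node 1 .leaf (.node 2 (.node 0 (.node 0 .leaf (.node 2 .leaf .leaf)) .leaf) .leaf))) (.node 2 (.node 0 (.node 0 .leaf (.node 2 .leaf .leaf)) (.node 1 (.node 0 (.node 0 .leaf .leaf) .leaf) (.node 2 (.node 0 .leaf .leaf) .leaf))) .leaf))) .leaf))) (.node 2 (.node 0 (.node 0 (.node 0 (.node 2 .leaf .leaf) (.node 1 (.node 1 .leaf .leaf) (.node 2 (.node 0 .leaf (.node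 1 .leaf (.node 2 .leaf .leaf))) .leaf))) (.node 1 (.node 1 .leaf (.node 2 (.node 1 .leaf (.node 2 .leaf .leaf)) .leaf)) .leaf)) (.node 1 (.node 0 (.node 0 (.node 0 .leaf (.node 1 .leaf .leaf)) (.node 1 .leaf (.node 2 (.node 1 .leaf .leaf) .leaf))) (.node 1 (.node 0 (.node 1 .leaf .leaf) (.node 1 (.node 0 .leaf (.node 1 .leaf .leaf)) (.node 2 (.node 2 .leaf .leaf) .leaf))) .leaf)) (.node 2 (.node 0 (.node 0 .leaf (.node 1 (.node 0 .leaf (.node 1 (.node 2 .leaf .leaf) (.node 2 .leaf .leaf))) (.node 2 (.node 1 .leaf .leaf) .leaf))) (.node 1 (.node 0 (.node 1 (.node 2 .leaf .leaf) (.node 2 .leaf .leaf)) .leaf) (.node 2 (.node 1 (.node 0 .leaf (.node 1 .leaf .leaf)) (.node 2 (.node 0 .leaf (.node 2 .leaf .leaf)) .leaf)) .leaf))) .leaf))) .leaf))) .leaf))) (.node 1 (.node 0 (.node 0 (.node 0 (.node 0 (.node 0 (.node 1 (.node 2 .leaf .leaf) (.node 2 .leaf .leaf)) (.node 1 (.node 2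 .leaf .leaf) (.node 2 (.node 0 .leaf .leaf) .leaf))) (.node 1 (.node 0 (.node 0 .leaf .leaf) (.node 1 (.node 1 (.node 0 .leaf (.node 1 .leaf .leaf)) (.node 2 .leaf .leaf)) (.node 2 (.node 1 .leaf (.node 2 .leaf .leaf)) .leaf))) (.node 2 (.node 0 .leaf (.node 1 .leaf (.node 2 (.node 0 .leaf (.node 2 .leaf .leaf)) .leaf))) .leaf))) (.node 1 (.node 0 (.node 0 (.node 2 .leaf .leaf) .leaf) (.node 1 (.node 1 .leaf .leaf) (.node 2 (.node 1 (.node 1 .leaf (.node 2 .leaf .leaf)) (.node 2 (.node 0 .leaf (.node 1 .leaf (.node 2 .leaf .leaf))) .leaf)) .leaf))) (.node 2 (.node 0 (.node 0 (.node 0 .leaf .leaf) (.node 1 .leaf .leaf)) (.node 1 (.node 0 (.node 1 .leaf (.node 2 (.node 0 .leaf (.node 2 .leaf .leaf)) .leaf)) (.node 1 (.node 0 .leaf (.node 2 .leaf .leaf)) (.node 2 (.node 1 .leaf (.node 2 .leaf .leaf)) .leaf))) (.node 2 (.node 0 (.node 1 .leaf (.node 2 .leaf .leaf)) (.node 1 (.node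 2 (.node 1 .leaf (.node 2 .leaf .leaf)) .leaf) (.node 2 (.node 0 .leaf .leaf) .leaf))) .leaf))) .leaf))) (.node 1 (.node 0 (.node 1 (.node 0 (.node 2 .leaf .leaf) (.node 1 (.node 1 .leaf (.node 2 (.node 2 .leaf .leaf) .leaf)) (.node 2 (.node 0 .leaf .leaf) .leaf))) .leaf) (.node 1 (.node 0 (.node 0 (.node 0 (.node 1 .leaf .leaf) (.node 1 .leaf .leaf)) (.node 1 (.node 0 .leaf .leaf) (.node 2 (.node 1 (.node 1 .leaf .leaf) .leaf) .leaf))) (.node 1 (.node 0 (.node 0 .leaf (.node 1 .leaf .leaf)) .leaf) (.node 2 (.node 1 .leaf (.node 2 (.node 0 (.node 2 .leaf .leaf) (.node 2 (.node 0 .leaf .leaf) .leaf)) .leaf)) .leaf))) (.node 2 (.node 0 (.node 0 (.node 0 .leaf (.node 1 .leaf .leaf)) (.node 2 (.node 0 (.node 2 .leaf .leaf) (.node 1 .leaf (.node 2 (.node 0 .leaf (.node 2 .leaf .leaf)) .leaf))) .leaf)) (.node 2 (.node 1 .leaf (.node 2 (.node 0 .leaf .leaf) .leaf)) .leaf)) .leaf)))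 (.node 2 (.node 0 (.node 0 (.node 0 (.node 2 .leaf .leaf) (.node 1 (.node 0 .leaf .leaf) (.node 2 .leaf .leaf))) (.node 1 (.node 1 (.node 1 (.node 0 .leaf .leaf) (.node 2 .leaf .leaf)) .leaf) .leaf)) (.node 2 (.node 0 (.node 0 (.node 0 .leaf (.node 1 (.node 2 .leaf .leaf) (.node 2 (.node 2 .leaf .leaf) .leaf))) (.node 1 (.node 1 .leaf .leaf) .leaf)) .leaf) .leaf)) .leaf))) (.node 1 (.node 0 (.node 0 (.node 0 (.node 0 (.node 0 .leaf .leaf) (.node 1 (.node 1 .leaf .leaf) (.node 2 (.node 2 .leaf .leaf) .leaf))) (.node 1 (.node 0 (.node 0 .leaf (.node 2 .leaf .leaf)) (.node 1 (.node 0 .leaf (.node 2 .leaf .leaf)) (.node 2 (.node 0 .leaf (.node 1 (.node 2 .leaf .leaf) .leaf)) .leaf))) (.node 2 (.node 0 (.node 1 .leaf .leaf) (.node 1 .leaf (.node 2 (.node 1 .leaf (.node 2 (.node 0 .leaf (.node 1 .leaf .leaf)) .leaf)) .leaf))) .leaf))) (.node 1 (.node 0 (.node 1 (.node 0 .leaf (.node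 1 .leaf (.node 2 (.node 2 .leaf .leaf) .leaf))) (.node 2 .leaf .leaf)) (.node 1 (.node 0 (.node 0 .leaf (.node 1 .leaf (.node 2 .leaf .leaf))) (.node 1 (.node 0 .leaf (.node 1 .leaf .leaf)) (.node 2 (.node 0 .leaf (.node 1 .leaf .leaf)) .leaf))) (.node 2 (.node 1 .leaf (.node 2 (.node 0 .leaf .leaf) .leaf)) .leaf))) (.node 2 (.node 0 (.node 0 (.node 0 .leaf (.node 1 .leaf .leaf)) (.node 1 (.node 2 .leaf .leaf) (.node 2 (.node 0 .leaf (.node 1 .leaf (.node 2 .leaf .leaf))) .leaf))) (.node 1 .leaf .leaf)) .leaf))) (.node 1 (.node 0 (.node 0 (.node 0 (.node 2 .leaf .leaf) (.node 1 (.node 2 .leaf .leaf) (.node 2 .leaf .leaf))) (.node 1 (.node 0 (.node 0 .leaf (.node 1 .leaf .leaf)) (.node 1 (.node 0 .leaf (.node 2 .leaf .leaf)) .leaf)) (.node 2 (.node 0 (.node 0 .leaf (.node 2 (.node 0 .leaf .leaf) .leaf)) (.node 1 (.node 0 (.node 0 .leaf .leaf) (.node 1 (.node 2 .leaf .leaf) .leaf))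 .leaf)) .leaf))) (.node 1 (.node 1 (.node 0 (.node 2 .leaf .leaf) (.node 2 (.node 1 .leaf (.node 2 .leaf .leaf)) .leaf)) (.node 2 (.node 0 (.node 0 .leaf .leaf) (.node 1 (.node 0 .leaf .leaf) .leaf)) .leaf)) (.node 2 (.node 0 (.node 0 (.node 2 (.node 1 .leaf .leaf) .leaf) (.node 2 (.node 2 (.node 0 .leaf .leaf) .leaf) .leaf)) (.node 1 (.node 0 (.node 0 (.node 2 .leaf .leaf) (.node 1 .leaf .leaf)) (.node 1 (.node 0 (.node 2 .leaf .leaf) (.node 1 .leaf (.node 2 .leaf .leaf))) .leaf)) (.node 2 (.node 0 (.node 0 .leaf (.node 1 .leaf (.node 2 .leaf .leaf))) (.node 2 (.node 1 .leaf (.node 2 .leaf .leaf)) .leaf)) .leaf))) .leaf))) (.node 2 (.node 0 (.node 0 (.node 0 (.node 0 .leaf (.node 2 (.node 0 .leaf (.node 1 .leaf .leaf)) .leaf)) (.node 1 (.node 2 .leaf .leaf) .leaf)) (.node 1 (.node 0 (.node 0 .leaf (.node 1 .leaf (.node 2 .leaf .leaf))) (.node 1 (.node 0 .leaf .leaf) (.node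 2 (.node 0 .leaf (.node 2 .leaf .leaf)) .leaf))) (.node 2 (.node 1 .leaf (.node 2 (.node 1 .leaf .leaf) .leaf)) .leaf))) (.node 1 (.node 0 (.node 1 .leaf (.node 2 (.node 1 .leaf (.node 2 .leaf .leaf)) .leaf)) (.node 1 (.node 0 (.node 1 .leaf .leaf) (.node 2 .leaf .leaf)) .leaf)) (.node 2 (.node 0 (.node 2 .leaf .leaf) (.node 1 (.node 0 (.node 0 .leaf (.node 2 .leaf .leaf)) (.node 1 (.node 0 .leaf (.node 2 .leaf .leaf)) (.node 2 (.node 1 .leaf .leaf) .leaf))) (.node 2 (.node 0 (.node 1 .leaf .leaf) (.node 1 .leaf (.node 2 (.node 1 .leaf (.node 2 .leaf .leaf)) .leaf))) .leaf))) .leaf))) .leaf))) (.node 2 (.node 0 (.node 0 (.node 0 (.node 2 .leaf .leaf) (.node 1 (.node 0 (.node 2 .leaf .leaf) (.node 1 .leaf (.node 2 .leaf .leaf))) (.node 2 (.node 0 (.node 2 .leaf .leaf) (.node 1 .leaf (.node 2 (.node 0 .leaf (.node 1 .leaf .leaf)) .leaf))) .leaf))) (.node 1 (.node 0 (.node 0 (.node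 0 (.node 2 .leaf .leaf) (.node 2 .leaf .leaf)) (.node 1 (.node 1 .leaf .leaf) (.node 2 (.node 2 .leaf .leaf) .leaf))) (.node 1 (.node 0 (.node 2 .leaf .leaf) .leaf) (.node 2 (.node 0 (.node 1 .leaf (.node 2 (.node 0 .leaf .leaf) .leaf)) (.node 2 (.node 1 .leaf .leaf) .leaf)) .leaf))) (.node 2 (.node 0 (.node 0 .leaf (.node 1 (.node 1 .leaf .leaf) (.node 2 (.node 1 .leaf .leaf) .leaf))) (.node 1 (.node 0 (.node 0 (.node 0 .leaf .leaf) (.node 2 .leaf .leaf)) (.node 1 (.node 1 .leaf .leaf) .leaf)) (.node 2 (.node 0 (.node 1 (.node 2 .leaf .leaf) .leaf) (.node 1 .leaf (.node 2 (.node 2 .leaf .leaf) .leaf))) .leaf))) .leaf))) (.node 2 (.node 0 (.node 0 (.node 0 (.node 0 .leaf (.node 1 (.node 2 .leaf .leaf) .leaf)) (.node 1 (.node 1 .leaf .leaf) (.node 2 .leaf .leaf))) (.node 1 (.node 0 (.node 1 .leaf (.node 2 .leaf .leaf)) (.node 1 (.node 0 (.node 1 .leaf .leaf) .leaf) .leaf)) (.node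 2 (.node 0 (.node 0 (.node 1 .leaf .leaf) .leaf) (.node 1 (.node 1 .leaf .leaf) .leaf)) .leaf))) (.node 1 (.node 1 (.node 0 .leaf (.node 2 (.node 1 .leaf .leaf) .leaf)) (.node 2 (.node 0 (.node 0 .leaf .leaf) (.node 1 (.node 0 .leaf .leaf) (.node 2 .leaf .leaf))) .leaf)) (.node 2 (.node 0 (.node 0 (.node 0 .leaf .leaf) (.node 1 (.node 0 (.node 0 .leaf (.node 2 .leaf .leaf)) (.node 1 .leaf .leaf)) (.node 2 .leaf .leaf))) (.node 1 (.node 1 .leaf (.node 2 (.node 1 .leaf .leaf) .leaf)) .leaf)) .leaf))) .leaf)) .leaf))) (.node 2 (.node 0 (.node 0 (.node 0 (.node 0 (.node 0 (.node 0 .leaf .leaf) (.node 1 (.node 0 .leaf (.node 1 .leaf .leaf)) (.node 2 (.node 0 .leaf (.node 1 .leaf (.node 2 .leaf .leaf))) .leaf))) (.node 1 (.node 0 (.node 1 (.node 2 .leaf .leaf) .leaf) (.node 1 (.node 0 .leaf (.node 1 .leaf .leaf)) .leaf)) (.node 2 (.node 0 .leaf (.node 1 (.node 0 (.node 2 .leaf .leaf)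 .leaf) (.node 2 (.node 0 (.node 2 .leaf .leaf) (.node 2 .leaf .leaf)) .leaf))) .leaf))) (.node 1 (.node 0 (.node 0 (.node 0 .leaf (.node 1 .leaf (.node 2 (.node 0 .leaf .leaf) .leaf))) (.node 1 (.node 2 .leaf .leaf) .leaf)) (.node 1 (.node 0 (.node 1 .leaf (.node 2 .leaf .leaf)) (.node 2 (.node 0 .leaf (.node 1 .leaf .leaf)) .leaf)) (.node 2 (.node 0 .leaf (.node 1 (.node 2 .leaf .leaf) .leaf)) .leaf))) (.node 2 (.node 1 (.node 0 .leaf (.node 1 (.node 1 .leaf (.node 2 .leaf .leaf)) (.node 2 (.node 0 .leaf (.node 2 .leaf .leaf)) .leaf))) (.node 2 (.node 0 (.node 2 .leaf .leaf) (.node 1 (.node 0 .leaf (.node 1 (.node 2 .leaf .leaf) .leaf)) (.node 2 (.node 1 .leaf (.node 2 .leaf .leaf)) .leaf))) .leaf)) .leaf))) (.node 1 (.node 1 (.node 0 (.node 1 .leaf (.node 2 (.node 0 .leaf (.node 2 .leaf .leaf)) .leaf)) (.node 1 (.node 0 (.node 1 .leaf .leaf) (.node 1 (.node 2 .leaf .leaf)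 (.node 2 (.node 2 .leaf .leaf) .leaf))) (.node 2 (.node 1 (.node 2 .leaf .leaf) (.node 2 (.node 2 .leaf .leaf) .leaf)) .leaf))) (.node 2 (.node 0 (.node 0 (.node 2 (.node 2 .leaf .leaf) .leaf) (.node 1 .leaf .leaf)) (.node 1 (.node 0 (.node 1 .leaf .leaf) (.node 1 (.node 2 .leaf .leaf) (.node 2 .leaf .leaf))) (.node 2 (.node 1 (.node 0 .leaf (.node 1 (.node 0 .leaf .leaf) .leaf)) (.node 2 (.node 0 .leaf (.node 1 .leaf .leaf)) .leaf)) .leaf))) .leaf)) (.node 2 (.node 0 (.node 0 (.node 0 (.node 1 .leaf .leaf) (.node 2 (.node 0 (.node 2 .leaf .leaf) (.node 1 .leaf (.node 2 .leaf .leaf))) .leaf)) (.node 1 (.node 0 .leaf (.node 1 (.node 1 .leaf (.node 2 .leaf .leaf)) .leaf)) (.node 2 (.node 0 (.node 0 .leaf .leaf) (.node 1 .leaf (.node 2 (.node 0 .leaf .leaf) .leaf))) .leaf))) (.node 1 (.node 0 (.node 0 .leaf (.node 1 (.node 0 .leaf .leaf) (.node 2 (.node 0 .leaf (.node 1 .leaf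 (.node 2 .leaf .leaf))) .leaf))) (.node 1 (.node 0 .leaf (.node 1 (.node 1 .leaf .leaf) (.node 2 (.node 0 .leaf (.node 2 .leaf .leaf)) .leaf))) (.node 2 (.node 0 (.node 2 .leaf .leaf) (.node 1 (.node 0 .leaf (.node 1 .leaf (.node 2 .leaf .leaf))) (.node 2 (.node 1 .leaf (.node 2 .leaf .leaf)) .leaf))) .leaf))) (.node 2 (.node 0 (.node 0 (.node 1 .leaf (.node 2 .leaf .leaf)) (.node 1 (.node 2 (.node 1 .leaf .leaf) .leaf) .leaf)) (.node 1 (.node 0 .leaf (.node 1 (.node 0 .leaf (.node 1 .leaf (.node 2 .leaf .leaf))) (.node 2 (.node 1 .leaf (.node 2 (.node 0 .leaf .leaf) .leaf)) .leaf))) (.node 2 (.node 0 .leaf (.node 1 (.node 0 .leaf .leaf) .leaf)) .leaf))) .leaf))) .leaf))) (.node 1 (.node 0 (.node 0 (.node 0 (.node 0 (.node 0 .leaf (.node 2 .leaf .leaf)) (.node 1 (.node 1 (.node 1 .leaf .leaf) .leaf) (.node 2 .leaf .leaf))) (.node 1 (.node 0 (.node 0 .leaf (.node 2 .leaf .leaf))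 (.node 1 (.node 0 .leaf (.node 1 .leaf .leaf)) (.node 2 (.node 1 .leaf .leaf) .leaf))) (.node 2 (.node 0 (.node 0 (.node 1 .leaf .leaf) (.node 1 .leaf (.node 2 .leaf .leaf))) (.node 1 (.node 1 .leaf (.node 2 .leaf .leaf)) (.node 2 (.node 1 .leaf (.node 2 .leaf .leaf)) .leaf))) .leaf))) (.node 1 (.node 0 (.node 0 (.node 2 .leaf .leaf) .leaf) (.node 1 (.node 0 (.node 1 .leaf (.node 2 .leaf .leaf)) (.node 2 .leaf .leaf)) (.node 2 (.node 0 (.node 0 .leaf .leaf) .leaf) .leaf))) (.node 2 (.node 0 (.node 0 (.node 1 .leaf .leaf) (.node 1 (.node 0 .leaf (.node 2 .leaf .leaf)) (.node 2 .leaf .leaf))) (.node 1 (.node 1 (.node 2 .leaf .leaf) (.node 2 (.node 1 .leaf .leaf) .leaf)) (.node 2 (.node 0 .leaf (.node 1 .leaf (.node 2 (.node 2 .leaf .leaf) .leaf))) .leaf))) .leaf))) (.node 1 (.node 0 (.node 1 (.node 2 .leaf .leaf) (.node 2 (.node 0 .leaf (.node 1 .leaf (.node 2 (.node 0 .leaf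 .leaf) .leaf))) .leaf)) (.node 1 (.node 0 (.node 1 (.node 0 .leaf .leaf) (.node 2 (.node 2 .leaf .leaf) .leaf)) (.node 1 .leaf (.node 2 (.node 0 (.node 0 (.node 2 .leaf .leaf) (.node 1 (.node 2 .leaf .leaf) (.node 2 .leaf .leaf))) (.node 2 (.node 1 .leaf (.node 2 .leaf .leaf)) .leaf)) .leaf))) (.node 2 (.node 0 (.node 0 (.node 2 .leaf .leaf) (.node 1 (.node 0 .leaf (.node 2 .leaf .leaf)) (.node 2 (.node 0 .leaf .leaf) .leaf))) (.node 1 (.node 0 (.node 0 (.node 1 .leaf .leaf) (.node 2 .leaf .leaf)) (.node 1 (.node 1 .leaf .leaf) (.node 2 (.node 0 .leaf (.node 1 .leaf .leaf)) .leaf))) (.node 2 (.node 0 (.node 1 (.node 1 .leaf .leaf) .leaf) (.node 1 (.node 0 .leaf (.node 1 (.node 2 .leaf .leaf) .leaf)) (.node 2 (.node 2 .leaf .leaf) .leaf))) .leaf))) .leaf))) (.node 2 (.node 0 (.node 0 (.node 0 (.node 2 .leaf .leaf) (.node 1 (.node 0 .leaf .leaf) .leaf)) (.node 1 (.node 1 .leaf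 (.node 2 (.node 2 .leaf .leaf) .leaf)) (.node 2 (.node 0 .leaf (.node 1 (.node 0 .leaf (.node 1 .leaf .leaf)) (.node 2 (.node 0 .leaf .leaf) .leaf))) .leaf))) (.node 1 (.node 0 (.node 0 (.node 0 .leaf .leaf) (.node 1 (.node 2 .leaf .leaf) .leaf)) (.node 2 (.node 0 (.node 2 .leaf .leaf) (.node 1 (.node 1 .leaf .leaf) .leaf)) .leaf)) (.node 2 (.node 0 (.node 0 (.node 0 .leaf (.node 2 .leaf .leaf)) (.node 2 (.node 1 .leaf (.node 2 .leaf .leaf)) .leaf)) (.node 1 (.node 0 (.node 2 .leaf .leaf) (.node 1 (.node 0 (.node 1 .leaf .leaf) .leaf) (.node 2 (.node 0 .leaf (.node 2 .leaf .leaf)) .leaf))) (.node 2 (.node 0 .leaf (.node 1 (.node 1 .leaf .leaf) .leaf)) .leaf))) .leaf))) .leaf))) (.node 2 (.node 0 (.node 0 (.node 2 (.node 0 .leaf (.node 1 (.node 1 .leaf .leaf) (.node 2 (.node 0 .leaf (.node 2 .leaf .leaf)) .leaf))) .leaf) (.node 1 (.node 0 (.node 0 (.node 0 .leaf (.node 1 .leaf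 (.node 2 (.node 1 .leaf .leaf) .leaf))) (.node 2 (.node 0 .leaf (.node 2 .leaf .leaf)) .leaf)) (.node 2 (.node 1 (.node 0 .leaf (.node 1 .leaf .leaf)) .leaf) .leaf)) (.node 2 (.node 0 (.node 1 (.node 2 .leaf .leaf) (.node 2 (.node 0 .leaf .leaf) .leaf)) (.node 1 (.node 0 (.node 1 .leaf .leaf) (.node 1 (.node 1 .leaf (.node 2 .leaf .leaf)) (.node 2 (.node 0 .leaf .leaf) .leaf))) (.node 2 (.node 0 (.node 2 .leaf .leaf) (.node 2 (.node 0 .leaf .leaf) .leaf)) .leaf))) .leaf))) (.node 1 (.node 0 (.node 0 (.node 1 .leaf (.node 2 (.node 0 (.node 0 .leaf .leaf) .leaf) .leaf)) (.node 1 (.node 1 (.node 0 .leaf (.node 1 .leaf .leaf)) .leaf) (.node 2 (.node 0 (.node 0 .leaf .leaf) (.node 2 (.node 0 .leaf (.node 2 .leaf .leaf)) .leaf)) .leaf))) (.node 1 (.node 0 .leaf (.node 1 (.node 0 (.node 0 .leaf .leaf) (.node 1 .leaf .leaf)) (.node 2 (.node 0 (.node 0 .leaf .leaf) (.node 2 (.node 0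 .leaf .leaf) .leaf)) .leaf))) (.node 2 (.node 0 (.node 0 (.node 0 .leaf (.node 1 .leaf (.node 2 .leaf .leaf))) (.node 1 .leaf (.node 2 .leaf .leaf))) (.node 1 .leaf (.node 2 (.node 0 (.node 1 (.node 0 .leaf .leaf) .leaf) (.node 1 .leaf (.node 2 (.node 0 .leaf .leaf) .leaf))) .leaf))) .leaf))) (.node 2 (.node 0 (.node 0 (.node 0 (.node 0 .leaf .leaf) (.node 1 .leaf (.node 2 .leaf .leaf))) (.node 1 (.node 0 (.node 1 .leaf .leaf) (.node 1 (.node 2 .leaf .leaf) (.node 2 (.node 0 .leaf .leaf) .leaf))) (.node 2 (.node 1 (.node 0 .leaf .leaf) (.node 2 (.node 2 .leaf .leaf) .leaf)) .leaf))) (.node 1 (.node 1 (.node 0 .leaf (.node 1 (.node 1 .leaf (.node 2 .leaf .leaf)) (.node 2 (.node 0 .leaf .leaf) .leaf))) (.node 2 (.node 0 (.node 0 .leaf .leaf) (.node 1 (.node 1 .leaf .leaf) (.node 2 (.node 1 .leaf .leaf) .leaf))) .leaf)) (.node 2 .leaf .leaf))) .leaf))) .leaf))) .leaf))) (.node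 1 (.node 0 (.node 0 (.node 0 (.node 0 (.node 0 (.node 1 (.node 0 .leaf (.node 1 .leaf .leaf)) (.node 2 (.node 1 .leaf .leaf) .leaf)) (.node 1 (.node 0 (.node 2 .leaf .leaf) (.node 1 (.node 0 .leaf (.node 1 .leaf .leaf)) (.node 2 (.node 0 .leaf (.node 1 .leaf .leaf)) .leaf))) (.node 2 (.node 0 .leaf (.node 1 (.node 0 .leaf .leaf) (.node 2 (.node 0 .leaf (.node 1 (.node 2 .leaf .leaf) .leaf)) .leaf))) .leaf))) (.node 1 (.node 1 (.node 0 (.node 2 (.node 1 .leaf .leaf) .leaf) (.node 1 (.node 0 .leaf .leaf) (.node 2 (.node 1 .leaf (.node 2 .leaf .leaf)) .leaf))) (.node 2 (.node 0 (.node 0 .leaf (.node 1 .leaf .leaf)) (.node 2 (.node 1 (.node 2 .leaf .leaf) .leaf) .leaf)) .leaf)) (.node 2 (.node 0 (.node 0 (.node 1 .leaf .leaf) (.node 1 (.node 0 .leaf (.node 2 .leaf .leaf)) (.node 2 (.node 1 (.node 1 .leaf .leaf) .leaf) .leaf))) (.node 1 (.node 0 (.node 0 .leaf .leaf) (.node 2 (.node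 0 .leaf (.node 1 .leaf .leaf)) .leaf)) (.node 2 (.node 0 .leaf (.node 1 (.node 1 .leaf (.node 2 .leaf .leaf)) (.node 2 .leaf .leaf))) .leaf))) .leaf))) (.node 1 (.node 0 (.node 0 (.node 0 (.node 0 .leaf (.node 2 .leaf .leaf)) (.node 1 (.node 1 (.node 0 .leaf .leaf) .leaf) (.node 2 (.node 2 (.node 0 .leaf .leaf) .leaf) .leaf))) (.node 1 (.node 0 .leaf .leaf) (.node 2 (.node 0 (.node 0 .leaf .leaf) .leaf) .leaf))) (.node 1 (.node 0 (.node 0 .leaf (.node 1 (.node 0 .leaf (.node 1 .leaf .leaf)) (.node 2 (.node 0 .leaf .leaf) .leaf))) (.node 1 (.node 0 (.node 0 .leaf (.node 1 .leaf .leaf)) (.node 1 .leaf (.node 2 .leaf .leaf))) (.node 2 (.node 2 .leaf .leaf) .leaf))) (.node 2 (.node 0 (.node 2 (.node 0 .leaf .leaf) .leaf) (.node 1 (.node 0 (.node 0 (.node 0 .leaf .leaf) (.node 1 .leaf .leaf)) (.node 2 (.node 1 .leaf .leaf) .leaf)) (.node 2 (.node 0 (.node 1 .leaf (.node 2 .leaf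 .leaf)) (.node 1 (.node 1 (.node 0 .leaf .leaf) .leaf) (.node 2 .leaf .leaf))) .leaf))) .leaf))) (.node 2 (.node 0 (.node 0 (.node 0 .leaf (.node 2 .leaf .leaf)) .leaf) (.node 1 (.node 0 (.node 0 (.node 2 .leaf .leaf) (.node 1 .leaf (.node 2 (.node 0 .leaf (.node 2 (.node 0 .leaf .leaf) .leaf)) .leaf))) (.node 1 .leaf (.node 2 .leaf .leaf))) (.node 2 (.node 0 (.node 0 .leaf (.node 1 (.node 1 .leaf .leaf) (.node 2 (.node 2 .leaf .leaf) .leaf))) (.node 1 (.node 0 (.node 2 .leaf .leaf) (.node 1 (.node 1 .leaf (.node 2 .leaf .leaf)) (.node 2 .leaf .leaf))) (.node 2 (.node 0 .leaf (.node 1 (.node 2 .leaf .leaf) .leaf)) .leaf))) .leaf))) .leaf))) (.node 1 (.node 0 (.node 0 (.node 0 (.node 0 (.node 1 (.node 2 .leaf .leaf) .leaf) .leaf) (.node 1 (.node 0 .leaf (.node 1 (.node 0 .leaf (.node 2 .leaf .leaf)) (.node 2 (.node 0 .leaf (.node 1 .leaf (.node 2 (.node 1 .leaf .leaf) .leaf)))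 .leaf))) (.node 2 (.node 2 .leaf .leaf) .leaf))) (.node 1 (.node 2 (.node 1 (.node 1 .leaf .leaf) (.node 2 (.node 0 .leaf .leaf) .leaf)) .leaf) (.node 2 (.node 0 (.node 0 (.node 0 (.node 1 .leaf .leaf) (.node 1 .leaf (.node 2 .leaf .leaf))) (.node 1 (.node 1 .leaf .leaf) (.node 2 (.node 2 .leaf .leaf) .leaf))) (.node 1 (.node 1 .leaf (.node 2 .leaf .leaf)) .leaf)) .leaf))) (.node 1 (.node 0 (.node 0 (.node 0 .leaf (.node 2 (.node 0 .leaf .leaf) .leaf)) (.node 1 (.node 1 .leaf .leaf) (.node 2 (.node 0 .leaf .leaf) .leaf))) (.node 1 (.node 0 (.node 2 (.node 0 .leaf (.node 1 .leaf .leaf)) .leaf) (.node 1 (.node 0 (.node 0 .leaf .leaf) (.node 1 .leaf .leaf)) .leaf)) (.node 2 (.node 0 (.node 0 (.node 2 .leaf .leaf) (.node 1 (.node 1 .leaf (.node 2 .leaf .leaf)) .leaf)) (.node 1 (.node 0 (.node 2 .leaf .leaf) (.node 1 (.node 1 .leaf .leaf) (.node 2 (.node 0 .leaf .leaf) .leaf)))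 (.node 2 (.node 0 (.node 0 .leaf .leaf) (.node 1 (.node 1 .leaf (.node 2 (.node 0 .leaf .leaf) .leaf)) (.node 2 (.node 1 .leaf (.node 2 .leaf .leaf)) .leaf))) .leaf))) .leaf))) (.node 2 (.node 1 (.node 0 (.node 0 .leaf (.node 2 (.node 1 .leaf (.node 2 .leaf .leaf)) .leaf)) (.node 1 (.node 1 (.node 0 (.node 0 .leaf .leaf) (.node 1 .leaf .leaf)) .leaf) (.node 2 (.node 0 (.node 0 .leaf (.node 1 .leaf (.node 2 .leaf .leaf))) (.node 1 .leaf (.node 2 (.node 1 .leaf .leaf) .leaf))) .leaf))) (.node 2 (.node 0 (.node 0 (.node 2 .leaf .leaf) (.node 1 .leaf (.node 2 (.node 0 .leaf (.node 1 .leaf (.node 2 .leaf .leaf))) .leaf))) (.node 1 (.node 0 .leaf (.node 1 (.node 0 .leaf (.node 2 .leaf .leaf)) (.node 2 .leaf .leaf))) (.node 2 (.node 0 (.node 1 .leaf .leaf) (.node 1 (.node 0 .leaf .leaf) .leaf)) .leaf))) .leaf)) .leaf))) (.node 2 (.node 0 (.node 0 (.node 0 (.node 0 .leaf (.node 1 (.node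 0 .leaf (.node 1 .leaf .leaf)) (.node 2 .leaf .leaf))) (.node 2 (.node 1 (.node 1 .leaf .leaf) (.node 2 .leaf .leaf)) .leaf)) (.node 2 (.node 0 (.node 1 .leaf (.node 2 .leaf .leaf)) (.node 1 (.node 1 (.node 0 .leaf (.node 2 .leaf .leaf)) .leaf) (.node 2 (.node 0 (.node 2 .leaf .leaf) (.node 1 (.node 1 .leaf .leaf) (.node 2 .leaf .leaf))) .leaf))) .leaf)) (.node 1 (.node 0 (.node 0 (.node 1 (.node 2 .leaf .leaf) (.node 2 .leaf .leaf)) (.node 1 (.node 0 (.node 0 .leaf (.node 1 .leaf .leaf)) (.node 2 (.node 0 .leaf (.node 1 .leaf .leaf)) .leaf)) (.node 2 (.node 0 (.node 1 .leaf (.node 2 .leaf .leaf)) (.node 1 (.node 0 .leaf .leaf) (.node 2 (.node 0 .leaf .leaf) .leaf))) .leaf))) (.node 1 (.node 0 (.node 1 (.node 2 .leaf .leaf) (.node 2 (.node 1 .leaf .leaf) .leaf)) (.node 1 (.node 1 (.node 1 .leaf .leaf) (.node 2 (.node 1 .leaf (.node 2 .leaf .leaf)) .leaf)) (.node 2 (.node 1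 .leaf (.node 2 (.node 2 .leaf .leaf) .leaf)) .leaf))) (.node 2 (.node 0 (.node 0 .leaf .leaf) (.node 1 (.node 1 .leaf (.node 2 .leaf .leaf)) (.node 2 (.node 0 (.node 0 (.node 0 .leaf .leaf) .leaf) .leaf) .leaf))) .leaf))) (.node 2 (.node 0 (.node 0 (.node 1 (.node 2 .leaf .leaf) (.node 2 (.node 1 .leaf .leaf) .leaf)) (.node 1 (.node 0 .leaf (.node 1 .leaf (.node 2 (.node 0 .leaf (.node 1 .leaf .leaf)) .leaf))) .leaf)) (.node 1 (.node 1 (.node 0 (.node 1 .leaf .leaf) (.node 1 (.node 0 .leaf .leaf) (.node 2 (.node 1 .leaf .leaf) .leaf))) (.node 2 (.node 0 (.node 0 .leaf (.node 2 .leaf .leaf)) (.node 2 (.node 2 .leaf .leaf) .leaf)) .leaf)) (.node 2 (.node 1 (.node 0 (.node 1 .leaf .leaf) (.node 2 (.node 1 .leaf .leaf) .leaf)) (.node 2 (.node 2 (.node 0 .leaf .leaf) .leaf) .leaf)) .leaf))) .leaf))) .leaf))) (.node 1 (.node 0 (.node 1 (.node 0 (.node 0 (.node 0 (.node 1 .leaf (.node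 2 .leaf .leaf)) (.node 1 (.node 2 .leaf .leaf) (.node 2 (.node 2 .leaf .leaf) .leaf))) (.node 1 (.node 0 (.node 1 .leaf .leaf) (.node 1 (.node 2 .leaf .leaf) (.node 2 (.node 2 .leaf .leaf) .leaf))) (.node 2 (.node 2 (.node 0 .leaf (.node 1 .leaf (.node 2 .leaf .leaf))) .leaf) .leaf))) (.node 2 (.node 0 (.node 1 (.node 1 .leaf .leaf) (.node 2 (.node 0 .leaf (.node 2 .leaf .leaf)) .leaf)) (.node 1 (.node 1 (.node 1 .leaf .leaf) (.node 2 .leaf .leaf)) (.node 2 (.node 0 (.node 2 .leaf .leaf) (.node 1 .leaf .leaf)) .leaf))) .leaf)) (.node 2 (.node 1 (.node 0 (.node 0 (.node 0 .leaf .leaf) (.node 2 (.node 0 .leaf (.node 1 .leaf .leaf)) .leaf)) (.node 1 (.node 1 (.node 0 .leaf (.node 1 .leaf .leaf)) .leaf) .leaf)) (.node 2 (.node 0 (.node 0 (.node 0 .leaf .leaf) (.node 1 (.node 1 .leaf .leaf) (.node 2 (.node 0 .leaf (.node 1 .leaf .leaf)) .leaf))) (.node 1 (.node 0 (.node 1 .leaf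 .leaf) (.node 2 (.node 0 .leaf .leaf) .leaf)) (.node 2 (.node 1 .leaf .leaf) .leaf))) .leaf)) .leaf)) (.node 1 (.node 0 (.node 0 (.node 0 (.node 0 (.node 0 (.node 1 .leaf .leaf) (.node 1 .leaf .leaf)) (.node 1 .leaf (.node 2 (.node 1 .leaf .leaf) .leaf))) (.node 1 (.node 0 (.node 2 .leaf .leaf) (.node 2 (.node 1 (.node 1 .leaf .leaf) .leaf) .leaf)) (.node 2 (.node 0 .leaf (.node 1 (.node 2 (.node 0 .leaf .leaf) .leaf) (.node 2 (.node 2 .leaf .leaf) .leaf))) .leaf))) (.node 1 (.node 0 (.node 0 (.node 0 .leaf .leaf) .leaf) (.node 1 (.node 0 (.node 2 .leaf .leaf) (.node 1 (.node 1 .leaf (.node 2 .leaf .leaf)) (.node 2 .leaf .leaf))) (.node 2 (.node 0 (.node 0 .leaf (.node 1 .leaf .leaf)) (.node 1 (.node 0 .leaf .leaf) .leaf)) .leaf))) (.node 2 (.node 0 (.node 0 (.node 0 .leaf (.node 1 .leaf (.node 2 .leaf .leaf))) (.node 2 (.node 0 .leaf (.node 2 .leaf .leaf)) .leaf)) (.node 1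 (.node 1 (.node 0 .leaf (.node 1 .leaf .leaf)) (.node 2 (.node 2 .leaf .leaf) .leaf)) (.node 2 (.node 1 (.node 2 .leaf .leaf) (.node 2 .leaf .leaf)) .leaf))) .leaf))) (.node 1 (.node 0 (.node 0 (.node 0 (.node 0 .leaf (.node 1 .leaf .leaf)) (.node 2 (.node 2 .leaf .leaf) .leaf)) (.node 1 (.node 1 (.node 0 .leaf (.node 2 .leaf .leaf)) (.node 2 .leaf .leaf)) (.node 2 (.node 0 (.node 0 .leaf .leaf) (.node 1 (.node 1 .leaf .leaf) (.node 2 (.node 0 .leaf .leaf) .leaf))) .leaf))) (.node 1 (.node 0 (.node 0 .leaf (.node 1 (.node 0 .leaf .leaf) (.node 2 (.node 2 .leaf .leaf) .leaf))) (.node 1 (.node 0 (.node 0 .leaf (.node 1 .leaf (.node 2 .leaf .leaf))) (.node 2 .leaf .leaf)) (.node 2 (.node 1 (.node 2 .leaf .leaf) .leaf) .leaf))) (.node 2 (.node 0 (.node 0 (.node 0 .leaf .leaf) .leaf) (.node 1 (.node 0 .leaf (.node 1 (.node 0 .leaf .leaf) .leaf)) (.node 2 (.node 0 (.node 1 .leaf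 .leaf) (.node 1 (.node 1 .leaf .leaf) (.node 2 .leaf .leaf))) .leaf))) .leaf))) (.node 2 (.node 0 (.node 1 (.node 2 .leaf .leaf) (.node 2 (.node 0 (.node 1 (.node 0 .leaf .leaf) (.node 2 .leaf .leaf)) .leaf) .leaf)) (.node 1 (.node 0 (.node 0 (.node 0 .leaf .leaf) (.node 1 (.node 2 .leaf .leaf) (.node 2 (.node 0 .leaf (.node 2 .leaf .leaf)) .leaf))) (.node 1 .leaf (.node 2 (.node 2 (.node 1 .leaf .leaf) .leaf) .leaf))) (.node 2 (.node 0 (.node 0 (.node 0 (.node 1 .leaf .leaf) .leaf) (.node 1 .leaf .leaf)) (.node 1 (.node 0 (.node 0 .leaf (.node 2 (.node 2 .leaf .leaf) .leaf)) (.node 2 (.node 1 .leaf .leaf) .leaf)) (.node 2 (.node 0 (.node 0 .leaf .leaf) (.node 1 .leaf (.node 2 .leaf .leaf))) .leaf))) .leaf))) .leaf))) (.node 2 (.node 0 (.node 0 (.node 0 (.node 0 .leaf (.node 1 .leaf .leaf)) (.node 1 (.node 0 (.node 0 .leaf .leaf) (.node 1 (.node 2 .leaf .leaf) .leaf)) (.node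 2 (.node 1 .leaf .leaf) .leaf))) (.node 1 (.node 0 (.node 1 (.node 0 .leaf (.node 1 .leaf .leaf)) (.node 2 .leaf .leaf)) (.node 2 (.node 0 (.node 2 .leaf .leaf) (.node 1 .leaf .leaf)) .leaf)) (.node 2 (.node 0 (.node 1 (.node 2 .leaf .leaf) (.node 2 .leaf .leaf)) (.node 1 (.node 1 .leaf .leaf) (.node 2 (.node 0 (.node 2 .leaf .leaf) (.node 2 (.node 2 .leaf .leaf) .leaf)) .leaf))) .leaf))) (.node 1 (.node 0 (.node 0 (.node 1 (.node 1 .leaf .leaf) (.node 2 (.node 0 .leaf (.node 1 .leaf .leaf)) .leaf)) (.node 1 (.node 2 .leaf .leaf) (.node 2 (.node 0 .leaf (.node 1 (.node 2 .leaf .leaf) (.node 2 (.node 0 .leaf .leaf) .leaf))) .leaf))) (.node 1 (.node 0 (.node 1 .leaf .leaf) (.node 1 (.node 0 .leaf (.node 2 (.node 1 .leaf (.node 2 .leaf .leaf)) .leaf)) (.node 2 (.node 1 .leaf .leaf) .leaf))) (.node 2 (.node 0 (.node 0 (.node 0 .leaf .leaf) (.node 1 .leaf .leaf)) (.node 2 (.node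 1 (.node 1 .leaf .leaf) (.node 2 .leaf .leaf)) .leaf)) .leaf))) (.node 2 (.node 0 (.node 0 .leaf (.node 1 (.node 0 .leaf (.node 1 .leaf .leaf)) (.node 2 .leaf .leaf))) (.node 1 (.node 0 (.node 1 .leaf (.node 2 .leaf .leaf)) (.node 1 (.node 0 (.node 0 .leaf .leaf) (.node 1 .leaf (.node 2 (.node 1 .leaf (.node 2 .leaf .leaf)) .leaf))) (.node 2 (.node 0 (.node 0 .leaf .leaf) (.node 1 (.node 1 .leaf .leaf) .leaf)) .leaf))) (.node 2 (.node 0 (.node 0 .leaf (.node 2 (.node 0 .leaf .leaf) .leaf)) (.node 1 (.node 0 (.node 0 .leaf .leaf) (.node 1 (.node 0 .leaf .leaf) (.node 2 .leaf .leaf))) (.node 2 (.node 1 (.node 2 .leaf .leaf) (.node 2 (.node 1 .leaf (.node 2 .leaf .leaf)) .leaf)) .leaf))) .leaf))) .leaf))) .leaf))) (.node 2 (.node 0 (.node 0 (.node 0 (.node 0 (.node 1 (.node 1 .leaf .leaf) (.node 2 (.node 0 .leaf .leaf) .leaf)) (.node 1 (.node 0 (.node 2 .leaf .leaf) (.node 1 (.node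 0 .leaf (.node 2 .leaf .leaf)) .leaf)) (.node 2 (.node 0 .leaf (.node 2 (.node 2 .leaf .leaf) .leaf)) .leaf))) (.node 1 (.node 0 (.node 0 (.node 0 .leaf .leaf) (.node 1 (.node 0 .leaf (.node 1 .leaf .leaf)) (.node 2 (.node 0 .leaf (.node 1 .leaf .leaf)) .leaf))) (.node 1 (.node 0 (.node 1 (.node 0 .leaf .leaf) (.node 2 .leaf .leaf)) (.node 1 .leaf .leaf)) (.node 2 (.node 0 .leaf .leaf) .leaf))) (.node 2 (.node 0 (.node 0 .leaf (.node 1 (.node 0 .leaf (.node 2 .leaf .leaf)) .leaf)) (.node 1 (.node 0 .leaf (.node 2 (.node 0 .leaf .leaf) .leaf)) (.node 2 (.node 1 .leaf (.node 2 .leaf .leaf)) .leaf))) .leaf))) (.node 1 (.node 0 (.node 0 (.node 0 (.node 0 .leaf (.node 1 .leaf .leaf)) (.node 1 (.node 1 .leaf .leaf) .leaf)) (.node 1 .leaf (.node 2 (.node 0 (.node 0 .leaf .leaf) (.node 1 (.node 1 .leaf .leaf) (.node 2 (.node 1 .leaf .leaf) .leaf))) .leaf))) (.node 1 (.node 0 (.node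 0 .leaf (.node 1 (.node 2 .leaf .leaf) (.node 2 (.node 2 .leaf .leaf) .leaf))) (.node 1 (.node 2 (.node 1 .leaf .leaf) .leaf) (.node 2 (.node 0 .leaf (.node 1 (.node 1 .leaf .leaf) (.node 2 .leaf .leaf))) .leaf))) (.node 2 (.node 0 (.node 0 (.node 1 .leaf (.node 2 .leaf .leaf)) (.node 2 .leaf .leaf)) (.node 1 (.node 0 .leaf (.node 2 (.node 2 .leaf .leaf) .leaf)) (.node 2 (.node 0 (.node 2 .leaf .leaf) (.node 1 (.node 1 .leaf .leaf) .leaf)) .leaf))) .leaf))) (.node 2 (.node 0 (.node 2 (.node 1 (.node 1 .leaf .leaf) (.node 2 .leaf .leaf)) .leaf) (.node 1 (.node 0 (.node 0 .leaf (.node 1 (.node 1 .leaf .leaf) (.node 2 .leaf .leaf))) (.node 1 (.node 0 (.node 0 .leaf (.node 1 .leaf .leaf)) (.node 1 (.node 1 .leaf (.node 2 .leaf .leaf)) .leaf)) .leaf)) (.node 2 .leaf .leaf))) .leaf))) (.node 1 (.node 0 (.node 0 (.node 0 (.node 1 .leaf (.node 2 (.node 0 .leaf .leaf) .leaf)) (.node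 1 (.node 0 .leaf (.node 1 (.node 0 .leaf (.node 1 .leaf .leaf)) (.node 2 .leaf .leaf))) (.node 2 (.node 1 .leaf .leaf) .leaf))) (.node 1 (.node 0 (.node 1 (.node 0 .leaf .leaf) (.node 2 (.node 0 .leaf .leaf) .leaf)) (.node 1 (.node 1 .leaf .leaf) (.node 2 (.node 0 .leaf .leaf) .leaf))) (.node 2 (.node 0 (.node 0 (.node 2 .leaf .leaf) (.node 1 .leaf (.node 2 .leaf .leaf))) (.node 1 (.node 0 .leaf (.node 2 .leaf .leaf)) (.node 2 (.node 0 (.node 0 .leaf .leaf) (.node 1 (.node 0 .leaf .leaf) (.node 2 (.node 2 .leaf .leaf) .leaf))) .leaf))) .leaf))) (.node 1 (.node 0 (.node 1 (.node 0 .leaf .leaf) (.node 2 (.node 1 (.node 0 .leaf .leaf) .leaf) .leaf)) (.node 1 (.node 0 (.node 0 .leaf .leaf) (.node 1 (.node 2 (.node 2 .leaf .leaf) .leaf) (.node 2 (.node 0 .leaf (.node 1 (.node 0 .leaf .leaf) (.node 2 (.node 0 .leaf (.node 2 .leaf .leaf)) .leaf))) .leaf))) (.node 2 (.node 0 (.node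 0 (.node 0 .leaf .leaf) (.node 1 .leaf .leaf)) (.node 1 (.node 0 (.node 1 .leaf .leaf) (.node 1 (.node 2 .leaf .leaf) (.node 2 (.node 2 .leaf .leaf) .leaf))) (.node 2 (.node 0 .leaf (.node 1 .leaf (.node 2 (.node 0 .leaf .leaf) .leaf))) .leaf))) .leaf))) (.node 2 (.node 0 (.node 0 (.node 1 .leaf .leaf) (.node 1 .leaf (.node 2 (.node 0 .leaf (.node 1 (.node 0 .leaf .leaf) (.node 2 .leaf .leaf))) .leaf))) (.node 1 (.node 0 (.node 1 (.node 1 .leaf (.node 2 .leaf .leaf)) (.node 2 (.node 0 (.node 0 .leaf .leaf) .leaf) .leaf)) (.node 1 .leaf (.node 2 (.node 2 .leaf .leaf) .leaf))) (.node 2 (.node 0 (.node 1 .leaf (.node 2 (.node 2 .leaf .leaf) .leaf)) (.node 1 (.node 1 (.node 0 .leaf .leaf) (.node 2 .leaf .leaf)) (.node 2 (.node 0 .leaf (.node 2 .leaf .leaf)) .leaf))) .leaf))) .leaf))) (.node 2 (.node 0 (.node 0 (.node 0 (.node 0 .leaf (.node 2 (.node 1 .leaf .leaf) .leaf)) (.node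 1 (.node 0 .leaf (.node 1 .leaf (.node 2 .leaf .leaf))) (.node 2 (.node 0 (.node 1 .leaf .leaf) (.node 1 (.node 2 .leaf .leaf) .leaf)) .leaf))) (.node 1 (.node 0 (.node 2 (.node 0 .leaf .leaf) .leaf) (.node 1 (.node 0 .leaf (.node 1 (.node 0 .leaf (.node 2 .leaf .leaf)) .leaf)) (.node 2 (.node 0 (.node 0 .leaf .leaf) (.node 1 (.node 0 .leaf (.node 1 .leaf .leaf)) (.node 2 (.node 1 .leaf .leaf) .leaf))) .leaf))) (.node 2 (.node 0 (.node 1 (.node 1 .leaf .leaf) .leaf) (.node 1 (.node 0 (.node 0 .leaf .leaf) (.node 1 (.node 2 .leaf .leaf) (.node 2 (.node 0 (.node 2 .leaf .leaf) .leaf) .leaf))) (.node 2 (.node 0 (.node 2 .leaf .leaf) (.node 1 (.node 1 .leaf .leaf) (.node 2 (.node 2 .leaf .leaf) .leaf))) .leaf))) .leaf))) (.node 1 (.node 1 (.node 0 (.node 0 .leaf (.node 1 .leaf (.node 2 (.node 0 .leaf (.node 1 .leaf (.node 2 .leaf .leaf))) .leaf))) (.node 1 (.node 0 .leaf (.node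 1 .leaf (.node 2 (.node 1 .leaf .leaf) .leaf))) (.node 2 (.node 1 (.node 1 .leaf (.node 2 .leaf .leaf)) (.node 2 .leaf .leaf)) .leaf))) (.node 2 (.node 0 (.node 0 .leaf (.node 1 .leaf (.node 2 (.node 2 .leaf .leaf) .leaf))) (.node 1 (.node 1 (.node 0 .leaf .leaf) .leaf) (.node 2 (.node 0 (.node 0 .leaf .leaf) (.node 1 (.node 0 .leaf (.node 2 .leaf .leaf)) .leaf)) .leaf))) .leaf)) (.node 2 (.node 0 (.node 0 (.node 1 (.node 0 .leaf (.node 1 .leaf .leaf)) (.node 2 .leaf .leaf)) (.node 1 (.node 1 .leaf .leaf) (.node 2 (.node 0 .leaf .leaf) .leaf))) (.node 1 (.node 0 (.node 1 .leaf (.node 2 (.node 1 .leaf .leaf) .leaf)) (.node 2 (.node 0 (.node 0 .leaf .leaf) (.node 1 (.node 0 .leaf (.node 1 .leaf (.node 2 .leaf .leaf))) .leaf)) .leaf)) (.node 2 (.node 0 (.node 0 (.node 2 .leaf .leaf) (.node 1 (.node 2 .leaf .leaf) (.node 2 .leaf .leaf))) (.node 1 (.node 2 (.node 0 .leaf .leaf)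 .leaf) (.node 2 (.node 1 .leaf (.node 2 (.node 1 .leaf .leaf) .leaf)) .leaf))) .leaf))) .leaf))) .leaf))) .leaf))) (.node 2 (.node 0 (.node 0 (.node 0 (.node 0 (.node 1 (.node 1 .leaf (.node 2 .leaf .leaf)) (.node 2 (.node 1 (.node 1 .leaf .leaf) (.node 2 (.node 1 .leaf (.node 2 .leaf .leaf)) .leaf)) .leaf)) (.node 1 (.node 0 (.node 0 .leaf (.node 1 (.node 0 .leaf .leaf) (.node 2 .leaf .leaf))) (.node 1 (.node 0 (.node 1 .leaf (.node 2 .leaf .leaf)) (.node 2 .leaf .leaf)) (.node 2 (.node 0 (.node 0 .leaf (.node 2 .leaf .leaf)) (.node 2 (.node 2 .leaf .leaf) .leaf)) .leaf))) (.node 2 (.node 0 (.node 1 .leaf .leaf) (.node 2 (.node 1 .leaf (.node 2 (.node 1 .leaf .leaf) .leaf)) .leaf)) .leaf))) (.node 1 (.node 0 (.node 0 (.node 1 .leaf .leaf) (.node 1 (.node 0 .leaf (.node 1 .leaf .leaf)) (.node 2 (.node 0 .leaf (.node 2 (.node 2 .leaf .leaf) .leaf)) .leaf))) (.node 1 (.node 0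 (.node 0 (.node 1 .leaf (.node 2 .leaf .leaf)) .leaf) (.node 1 (.node 1 .leaf (.node 2 .leaf .leaf)) (.node 2 (.node 1 .leaf (.node 2 .leaf .leaf)) .leaf))) (.node 2 (.node 0 (.node 0 .leaf (.node 1 (.node 0 .leaf .leaf) .leaf)) (.node 1 (.node 0 (.node 2 .leaf .leaf) .leaf) (.node 2 (.node 0 .leaf (.node 1 .leaf (.node 2 (.node 1 .leaf .leaf) .leaf))) .leaf))) .leaf))) .leaf)) (.node 1 (.node 0 (.node 0 (.node 0 (.node 0 .leaf (.node 2 .leaf .leaf)) (.node 1 (.node 1 .leaf (.node 2 (.node 1 .leaf (.node 2 .leaf .leaf)) .leaf)) (.node 2 (.node 0 (.node 0 .leaf .leaf) (.node 1 (.node 0 .leaf .leaf) .leaf)) .leaf))) (.node 1 (.node 0 (.node 1 .leaf (.node 2 .leaf .leaf)) (.node 1 (.node 1 (.node 2 .leaf .leaf) .leaf) (.node 2 .leaf .leaf))) (.node 2 (.node 0 (.node 1 .leaf (.node 2 .leaf .leaf)) (.node 1 (.node 2 .leaf .leaf) (.node 2 (.node 0 (.node 1 .leaf .leaf) .leaf) .leaf)))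 .leaf))) (.node 1 (.node 1 (.node 0 (.node 0 .leaf (.node 1 .leaf (.node 2 .leaf .leaf))) (.node 2 (.node 0 (.node 0 .leaf .leaf) (.node 1 .leaf .leaf)) .leaf)) (.node 2 (.node 0 (.node 1 .leaf .leaf) (.node 1 (.node 2 (.node 1 .leaf (.node 2 .leaf .leaf)) .leaf) (.node 2 (.node 0 (.node 1 .leaf .leaf) (.node 2 (.node 0 .leaf (.node 2 .leaf .leaf)) .leaf)) .leaf))) .leaf)) (.node 2 (.node 0 (.node 0 (.node 0 (.node 2 .leaf .leaf) (.node 1 .leaf (.node 2 .leaf .leaf))) (.node 1 (.node 0 .leaf (.node 2 .leaf .leaf)) (.node 2 (.node 0 .leaf (.node 1 (.node 1 .leaf .leaf) (.node 2 .leaf .leaf))) .leaf))) (.node 1 (.node 0 (.node 0 .leaf (.node 1 (.node 0 .leaf .leaf) .leaf)) (.node 1 (.node 0 (.node 1 .leaf .leaf) (.node 1 .leaf .leaf)) (.node 2 (.node 2 .leaf .leaf) .leaf))) (.node 2 (.node 0 (.node 1 (.node 0 .leaf (.node 2 .leaf .leaf)) (.node 2 (.node 1 .leaf .leaf) .leaf))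 (.node 1 (.node 1 .leaf (.node 2 (.node 1 .leaf (.node 2 .leaf .leaf)) .leaf)) (.node 2 .leaf .leaf))) .leaf))) .leaf))) (.node 2 (.node 0 (.node 0 (.node 0 (.node 0 .leaf (.node 1 (.node 1 .leaf .leaf) (.node 2 (.node 1 .leaf .leaf) .leaf))) (.node 2 (.node 0 .leaf .leaf) .leaf)) (.node 1 (.node 0 (.node 0 .leaf (.node 2 .leaf .leaf)) (.node 1 (.node 0 (.node 0 .leaf .leaf) (.node 2 (.node 1 .leaf .leaf) .leaf)) (.node 2 (.node 2 .leaf .leaf) .leaf))) (.node 2 (.node 1 (.node 0 (.node 0 .leaf .leaf) (.node 2 .leaf .leaf)) .leaf) .leaf))) (.node 1 (.node 0 (.node 0 (.node 0 (.node 1 .leaf (.node 2 .leaf .leaf)) (.node 2 .leaf .leaf)) (.node 1 (.node 0 .leaf (.node 1 (.node 0 .leaf .leaf) .leaf)) (.node 2 (.node 2 .leaf .leaf) .leaf))) (.node 1 (.node 0 (.node 1 .leaf .leaf) (.node 1 (.node 1 (.node 1 .leaf .leaf) (.node 2 (.node 2 .leaf .leaf) .leaf)) (.node 2 (.node 2 .leaf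 .leaf) .leaf))) (.node 2 (.node 1 (.node 0 .leaf (.node 2 (.node 2 .leaf .leaf) .leaf)) .leaf) .leaf))) (.node 2 (.node 0 (.node 1 (.node 0 (.node 1 .leaf .leaf) (.node 1 (.node 1 .leaf .leaf) (.node 2 .leaf .leaf))) (.node 2 (.node 0 (.node 0 .leaf .leaf) (.node 1 .leaf (.node 2 .leaf .leaf))) .leaf)) (.node 1 (.node 1 (.node 0 (.node 2 .leaf .leaf) (.node 1 .leaf (.node 2 (.node 2 .leaf .leaf) .leaf))) (.node 2 (.node 0 (.node 1 .leaf .leaf) (.node 1 (.node 1 .leaf .leaf) .leaf)) .leaf)) (.node 2 (.node 0 (.node 0 .leaf (.node 1 .leaf (.node 2 .leaf .leaf))) (.node 1 (.node 1 .leaf (.node 2 (.node 2 .leaf .leaf) .leaf)) (.node 2 (.node 0 .leaf (.node 1 (.node 1 .leaf .leaf) .leaf)) .leaf))) .leaf))) .leaf))) .leaf))) (.node 1 (.node 0 (.node 0 (.node 0 .leaf (.node 1 (.node 0 (.node 0 .leaf (.node 1 .leaf (.node 2 (.node 0 .leaf .leaf) .leaf))) (.node 1 (.node 1 .leaf .leaf)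 (.node 2 (.node 1 (.node 0 .leaf .leaf) .leaf) .leaf))) (.node 2 (.node 0 (.node 0 .leaf .leaf) (.node 1 (.node 0 .leaf (.node 1 .leaf .leaf)) (.node 2 (.node 0 (.node 1 .leaf .leaf) (.node 2 .leaf .leaf)) .leaf))) .leaf))) (.node 1 (.node 0 (.node 0 (.node 0 (.node 1 .leaf .leaf) (.node 1 (.node 2 .leaf .leaf) (.node 2 (.node 0 .leaf .leaf) .leaf))) (.node 1 (.node 0 (.node 1 .leaf .leaf) (.node 2 (.node 1 .leaf (.node 2 .leaf .leaf)) .leaf)) (.node 2 (.node 0 .leaf .leaf) .leaf))) (.node 1 (.node 0 (.node 2 (.node 0 .leaf (.node 1 .leaf .leaf)) .leaf) (.node 1 (.node 0 (.node 0 .leaf .leaf) (.node 1 .leaf (.node 2 .leaf .leaf))) (.node 2 (.node 0 (.node 0 .leaf (.node 2 .leaf .leaf)) (.node 2 (.node 2 .leaf .leaf) .leaf)) .leaf))) (.node 2 (.node 1 (.node 1 .leaf (.node 2 (.node 0 .leaf .leaf) .leaf)) (.node 2 (.node 0 (.node 2 .leaf .leaf) .leaf) .leaf)) .leaf))) (.node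 2 (.node 1 (.node 0 (.node 0 (.node 0 .leaf (.node 1 .leaf .leaf)) (.node 1 .leaf (.node 2 (.node 1 .leaf .leaf) .leaf))) (.node 1 (.node 0 (.node 1 .leaf .leaf) (.node 1 .leaf (.node 2 (.node 0 .leaf .leaf) .leaf))) (.node 2 (.node 0 .leaf (.node 1 (.node 0 .leaf .leaf) .leaf)) .leaf))) (.node 2 (.node 0 (.node 1 .leaf (.node 2 (.node 2 .leaf .leaf) .leaf)) (.node 1 (.node 0 (.node 1 .leaf .leaf) (.node 1 .leaf (.node 2 (.node 0 .leaf .leaf) .leaf))) (.node 2 (.node 0 .leaf (.node 2 (.node 2 .leaf .leaf) .leaf)) .leaf))) .leaf)) .leaf))) (.node 1 (.node 0 (.node 0 (.node 0 (.node 0 (.node 0 .leaf .leaf) .leaf) (.node 1 (.node 0 .leaf .leaf) (.node 2 (.node 0 (.node 1 .leaf .leaf) (.node 1 .leaf .leaf)) .leaf))) (.node 1 (.node 0 (.node 1 .leaf .leaf) (.node 1 (.node 1 (.node 0 .leaf .leaf) .leaf) .leaf)) (.node 2 (.node 1 (.node 1 (.node 1 .leaf .leaf) (.node 2 .leaf .leaf))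 (.node 2 (.node 0 .leaf .leaf) .leaf)) .leaf))) (.node 1 (.node 1 (.node 1 (.node 2 (.node 1 .leaf .leaf) .leaf) (.node 2 (.node 0 .leaf .leaf) .leaf)) (.node 2 (.node 0 (.node 1 .leaf .leaf) .leaf) .leaf)) (.node 2 (.node 0 (.node 0 (.node 0 .leaf (.node 1 .leaf .leaf)) (.node 1 (.node 2 .leaf .leaf) (.node 2 (.node 1 (.node 2 .leaf .leaf) .leaf) .leaf))) (.node 1 (.node 0 (.node 1 (.node 0 .leaf .leaf) (.node 2 .leaf .leaf)) (.node 1 (.node 1 (.node 2 .leaf .leaf) (.node 2 (.node 2 .leaf .leaf) .leaf)) (.node 2 (.node 0 (.node 0 .leaf .leaf) (.node 1 (.node 1 .leaf .leaf) (.node 2 (.node 1 .leaf .leaf) .leaf))) .leaf))) (.node 2 (.node 0 (.node 2 .leaf .leaf) (.node 1 .leaf (.node 2 (.node 2 .leaf .leaf) .leaf))) .leaf))) .leaf))) (.node 2 (.node 0 (.node 0 (.node 2 (.node 2 .leaf .leaf) .leaf) (.node 1 (.node 0 (.node 1 (.node 0 .leaf (.node 1 .leaf .leaf)) (.node 2 (.node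 1 .leaf .leaf) .leaf)) (.node 1 (.node 2 .leaf .leaf) .leaf)) (.node 2 (.node 0 .leaf (.node 2 (.node 0 .leaf .leaf) .leaf)) .leaf))) (.node 1 (.node 0 (.node 1 (.node 0 .leaf (.node 1 (.node 1 .leaf .leaf) .leaf)) (.node 2 .leaf .leaf)) (.node 1 (.node 0 (.node 0 .leaf (.node 1 (.node 1 .leaf .leaf) .leaf)) (.node 1 (.node 0 (.node 2 .leaf .leaf) (.node 1 (.node 2 .leaf .leaf) (.node 2 .leaf .leaf))) (.node 2 (.node 0 (.node 0 .leaf .leaf) .leaf) .leaf))) (.node 2 (.node 0 (.node 0 .leaf (.node 2 (.node 0 .leaf .leaf) .leaf)) (.node 1 (.node 1 .leaf .leaf) (.node 2 (.node 2 (.node 1 .leaf (.node 2 .leaf .leaf)) .leaf) .leaf))) .leaf))) (.node 2 (.node 0 (.node 0 (.node 1 (.node 0 .leaf (.node 2 .leaf .leaf)) (.node 2 (.node 1 .leaf .leaf) .leaf)) (.node 2 (.node 1 .leaf .leaf) .leaf)) (.node 1 (.node 0 (.node 0 (.node 1 .leaf .leaf) (.node 1 (.node 0 .leaf .leaf) (.node 2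 (.node 1 .leaf .leaf) .leaf))) (.node 1 (.node 0 (.node 1 .leaf .leaf) (.node 1 .leaf .leaf)) .leaf)) (.node 2 (.node 0 (.node 0 .leaf (.node 1 .leaf (.node 2 .leaf .leaf))) (.node 1 (.node 0 .leaf (.node 2 (.node 0 .leaf .leaf) .leaf)) (.node 2 (.node 0 (.node 0 .leaf .leaf) (.node 2 (.node 0 .leaf .leaf) .leaf)) .leaf))) .leaf))) .leaf))) .leaf))) (.node 2 (.node 0 (.node 0 (.node 0 (.node 0 (.node 0 .leaf (.node 1 (.node 2 .leaf .leaf) .leaf)) (.node 1 (.node 0 (.node 1 .leaf .leaf) .leaf) (.node 2 (.node 0 (.node 1 .leaf .leaf) (.node 2 .leaf .leaf)) .leaf))) (.node 1 (.node 0 (.node 1 (.node 0 .leaf .leaf) (.node 2 (.node 0 .leaf (.node 1 .leaf .leaf)) .leaf)) (.node 1 (.node 0 .leaf (.node 1 (.node 0 .leaf .leaf) .leaf)) (.node 2 (.node 0 (.node 2 (.node 1 .leaf .leaf) .leaf) (.node 2 .leaf .leaf)) .leaf))) (.node 2 (.node 2 (.node 2 .leaf .leaf) .leaf) .leaf))) (.node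 1 (.node 0 (.node 1 (.node 1 .leaf (.node 2 (.node 0 .leaf .leaf) .leaf)) (.node 2 (.node 0 (.node 1 .leaf .leaf) (.node 1 .leaf .leaf)) .leaf)) (.node 1 (.node 0 (.node 1 .leaf .leaf) (.node 1 (.node 0 .leaf (.node 2 (.node 0 .leaf .leaf) .leaf)) (.node 2 (.node 1 .leaf .leaf) .leaf))) (.node 2 (.node 1 (.node 0 .leaf (.node 1 .leaf (.node 2 (.node 0 .leaf .leaf) .leaf))) (.node 2 (.node 0 .leaf (.node 2 .leaf .leaf)) .leaf)) .leaf))) (.node 2 (.node 0 (.node 0 (.node 0 .leaf (.node 1 (.node 0 .leaf .leaf) .leaf)) (.node 1 (.node 0 .leaf (.node 1 .leaf (.node 2 (.node 0 .leaf .leaf) .leaf))) (.node 2 .leaf .leaf))) (.node 2 (.node 0 (.node 0 (.node 2 .leaf .leaf) (.node 1 (.node 0 .leaf .leaf) .leaf)) .leaf) .leaf)) .leaf))) (.node 1 (.node 0 (.node 0 (.node 0 .leaf (.node 1 (.node 0 (.node 1 .leaf .leaf) (.node 2 .leaf .leaf)) (.node 2 (.node 0 .leaf (.node 1 (.node 2 .leaf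 .leaf) (.node 2 .leaf .leaf))) .leaf))) (.node 2 (.node 0 (.node 0 (.node 1 .leaf .leaf) (.node 1 (.node 0 .leaf .leaf) (.node 2 (.node 0 .leaf (.node 2 .leaf .leaf)) .leaf))) (.node 2 .leaf .leaf)) .leaf)) (.node 1 (.node 0 (.node 0 (.node 1 .leaf (.node 2 .leaf .leaf)) (.node 1 (.node 0 .leaf (.node 1 (.node 1 .leaf .leaf) .leaf)) (.node 2 (.node 0 .leaf .leaf) .leaf))) (.node 1 (.node 0 .leaf (.node 1 (.node 2 .leaf .leaf) (.node 2 (.node 0 .leaf (.node 1 .leaf .leaf)) .leaf))) .leaf)) (.node 2 (.node 0 (.node 0 (.node 1 (.node 2 .leaf .leaf) .leaf) (.node 1 (.node 0 .leaf (.node 1 .leaf .leaf)) (.node 2 (.node 2 .leaf .leaf) .leaf))) (.node 1 (.node 0 (.node 0 .leaf (.node 1 .leaf .leaf)) (.node 1 (.node 0 .leaf (.node 1 .leaf (.node 2 .leaf .leaf))) (.node 2 (.node 2 (.node 2 .leaf .leaf) .leaf) .leaf))) (.node 2 (.node 0 (.node 1 .leaf .leaf) (.node 1 (.node 2 .leaf .leaf)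 (.node 2 (.node 1 .leaf (.node 2 .leaf .leaf)) .leaf))) .leaf))) .leaf))) (.node 2 (.node 0 (.node 0 (.node 0 (.node 0 .leaf (.node 1 (.node 0 .leaf (.node 2 .leaf .leaf)) .leaf)) (.node 1 (.node 0 (.node 1 .leaf .leaf) (.node 1 .leaf .leaf)) .leaf)) (.node 1 (.node 0 (.node 0 .leaf (.node 1 .leaf (.node 2 .leaf .leaf))) (.node 2 (.node 0 .leaf (.node 1 .leaf (.node 2 .leaf .leaf))) .leaf)) (.node 2 (.node 0 (.node 0 (.node 1 .leaf .leaf) (.node 1 .leaf (.node 2 (.node 1 .leaf .leaf) .leaf))) (.node 1 (.node 0 .leaf .leaf) (.node 2 (.node 1 (.node 2 .leaf .leaf) (.node 2 .leaf .leaf)) .leaf))) .leaf))) (.node 1 (.node 0 (.node 2 (.node 0 (.node 0 .leaf .leaf) (.node 1 .leaf (.node 2 (.node 1 .leaf .leaf) .leaf))) .leaf) (.node 1 (.node 0 (.node 0 .leaf (.node 2 .leaf .leaf)) .leaf) (.node 2 (.node 0 (.node 0 (.node 2 .leaf .leaf) (.node 1 (.node 0 .leaf .leaf) .leaf)) (.node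 1 (.node 0 (.node 0 .leaf (.node 2 .leaf .leaf)) (.node 2 .leaf .leaf)) (.node 2 (.node 0 (.node 2 .leaf .leaf) (.node 1 (.node 2 .leaf .leaf) (.node 2 .leaf .leaf))) .leaf))) .leaf))) (.node 2 (.node 0 (.node 0 (.node 1 .leaf (.node 2 .leaf .leaf)) (.node 1 .leaf .leaf)) (.node 2 (.node 0 (.node 0 (.node 1 .leaf .leaf) .leaf) (.node 1 (.node 0 (.node 2 .leaf .leaf) (.node 1 .leaf (.node 2 (.node 2 .leaf .leaf) .leaf))) (.node 2 (.node 1 .leaf (.node 2 (.node 0 .leaf .leaf) .leaf)) .leaf))) .leaf)) .leaf))) .leaf))) .leaf))) .leaf)))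

def OSR0 : List ℕ := [15,5264,622848,3416064,4196928,8536096]

def OSV0 : ℕ := 32

def OST0 : OTree := (.node 0 (.node 0 (.node 0 (.node 0 .leaf (.node 2 .leaf .leaf)) (.node 1 (.node 0 .leaf (.node 1 .leaf .leaf)) (.node 2 .leaf .leaf))) (.node 1 (.node 0 .leaf (.node 1 (.node 0 .leaf (.node 2 .leaf .leaf)) .leaf)) (.node 2 (.node 1 .leaf (.node 2 (.node 0 .leaf .leaf) .leaf)) .leaf))) (.node 1 (.node 0 (.node 0 .leaf (.node 1 .leaf (.node 2 .leaf .leaf))) (.node 1 .leaf (.node 2 (.node 2 .leaf .leaf) .leaf))) (.node 2 (.node 0 (.node 1 (.node 1 .leaf .leaf) (.node 2 .leaf .leaf)) (.node 1 (.node 0 .leaf (.node 1 .leaf .leaf)) .leaf)) .leaf)))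

def OSR1 : List ℕ := [83,272512,1065220,2162728,4752384,8524288]

def OSV1 : ℕ := 16

def OST1 : OTree := (.node 0 (.node 0 (.node 0 (.node 0 (.node 0 (.node 1 (.node 1 .leaf .leaf) (.node 2 (.node 0 .leaf (.node 1 .leaf .leaf)) .leaf)) (.node 1 (.node 0 (.node 1 .leaf .leaf) (.node 1 .leaf (.node 2 (.node 1 .leaf .leaf) .leaf))) (.node 2 (.node 0 (.node 1 .leaf .leaf) (.node 1 .leaf (.node 2 (.node 0 .leaf .leaf) .leaf))) .leaf))) (.node 1 (.node 0 (.node 0 .leaf (.node 1 (.node 0 .leaf (.node 2 .leaf .leaf)) .leaf)) (.node 2 (.node 0 .leaf (.node 1 (.node 1 .leaf (.node 2 .leaf .leaf)) (.node 2 .leaf .leaf))) .leaf)) .leaf)) (.node 1 (.node 0 (.node 0 (.node 0 (.node 0 .leaf .leaf) (.node 1 (.node 0 .leaf (.node 1 .leaf .leaf)) (.node 2 (.node 0 .leaf (.node 2 .leaf .leaf)) .leaf))) (.node 1 (.node 0 .leaf (.node 1 (.node 0 .leaf (.node 2 .leaf .leaf)) .leaf)) (.node 2 (.node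 0 .leaf (.node 1 (.node 0 .leaf .leaf) .leaf)) .leaf))) (.node 1 (.node 0 (.node 0 (.node 1 .leaf .leaf) (.node 2 (.node 0 .leaf .leaf) .leaf)) (.node 1 (.node 0 (.node 0 .leaf .leaf) (.node 1 .leaf (.node 2 .leaf .leaf))) .leaf)) (.node 2 (.node 0 (.node 0 (.node 2 .leaf .leaf) (.node 1 (.node 0 .leaf .leaf) .leaf)) (.node 2 (.node 0 (.node 1 .leaf (.node 2 .leaf .leaf)) (.node 1 (.node 0 (.node 0 .leaf .leaf) (.node 2 .leaf .leaf)) (.node 2 .leaf .leaf))) .leaf)) .leaf))) (.node 2 (.node 0 (.node 0 (.node 0 (.node 1 .leaf (.node 2 .leaf .leaf)) (.node 1 (.node 1 .leaf .leaf) (.node 2 (.node 2 .leaf .leaf) .leaf))) (.node 1 (.node 0 .leaf (.node 2 .leaf .leaf)) .leaf)) (.node 1 (.node 0 (.node 1 (.node 2 .leaf .leaf) .leaf) (.node 1 (.node 0 .leaf (.node 2 (.node 0 .leaf .leaf) .leaf)) (.node 2 (.node 0 (.node 0 .leaf .leaf) (.node 1 (.node 1 .leaf .leaf) (.node 2 (.node 0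 (.node 0 .leaf .leaf) .leaf) .leaf))) .leaf))) (.node 2 (.node 0 (.node 0 .leaf (.node 1 (.node 0 .leaf .leaf) (.node 2 (.node 1 .leaf .leaf) .leaf))) (.node 1 (.node 1 (.node 1 .leaf (.node 2 (.node 2 .leaf .leaf) .leaf)) (.node 2 (.node 0 .leaf .leaf) .leaf)) (.node 2 (.node 0 (.node 0 .leaf (.node 2 .leaf .leaf)) (.node 1 (.node 0 .leaf (.node 1 .leaf (.node 2 (.node 0 .leaf .leaf) .leaf))) .leaf)) .leaf))) .leaf))) .leaf))) (.node 1 (.node 0 (.node 0 (.node 1 (.node 0 (.node 0 .leaf (.node 2 .leaf .leaf)) (.node 1 (.node 2 .leaf .leaf) (.node 2 (.node 1 .leaf (.node 2 .leaf .leaf)) .leaf))) (.node 2 (.node 0 (.node 1 .leaf .leaf) (.node 1 (.node 0 .leaf .leaf) (.node 2 (.node 1 .leaf (.node 2 .leaf .leaf)) .leaf))) .leaf)) (.node 1 (.node 0 (.node 0 (.node 1 .leaf (.node 2 .leaf .leaf)) (.node 1 (.node 0 .leaf .leaf) (.node 2 (.node 1 .leaf .leaf) .leaf))) (.node 1 (.node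 0 (.node 1 .leaf .leaf) (.node 1 (.node 2 .leaf .leaf) (.node 2 (.node 2 .leaf .leaf) .leaf))) (.node 2 (.node 0 .leaf (.node 1 (.node 0 .leaf (.node 2 .leaf .leaf)) .leaf)) .leaf))) (.node 2 (.node 0 (.node 0 (.node 1 .leaf (.node 2 .leaf .leaf)) (.node 1 .leaf .leaf)) (.node 2 (.node 0 .leaf (.node 1 .leaf (.node 2 (.node 1 .leaf (.node 2 .leaf .leaf)) .leaf))) .leaf)) .leaf))) (.node 1 (.node 0 (.node 0 (.node 0 (.node 1 .leaf .leaf) (.node 1 (.node 0 .leaf (.node 2 .leaf .leaf)) (.node 2 (.node 1 .leaf .leaf) .leaf))) (.node 1 (.node 0 .leaf (.node 2 .leaf .leaf)) (.node 2 (.node 0 (.node 0 .leaf .leaf) (.node 1 .leaf (.node 2 (.node 0 .leaf (.node 1 .leaf (.node 2 .leaf .leaf))) .leaf))) .leaf))) (.node 1 (.node 0 (.node 0 .leaf (.node 2 (.node 0 .leaf .leaf) .leaf)) (.node 1 (.node 0 (.node 0 .leaf (.node 1 .leaf (.node 2 (.node 1 .leaf .leaf) .leaf))) (.node 2 .leaf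 .leaf)) (.node 2 (.node 0 .leaf .leaf) .leaf))) (.node 2 (.node 0 (.node 1 (.node 0 .leaf .leaf) (.node 2 (.node 2 .leaf .leaf) .leaf)) (.node 1 (.node 0 (.node 0 .leaf .leaf) (.node 1 .leaf (.node 2 (.node 0 .leaf (.node 1 .leaf (.node 2 .leaf .leaf))) .leaf))) (.node 2 (.node 0 (.node 2 .leaf .leaf) (.node 1 .leaf (.node 2 .leaf .leaf))) .leaf))) .leaf))) (.node 2 (.node 0 (.node 0 (.node 1 .leaf (.node 2 (.node 2 .leaf .leaf) .leaf)) (.node 2 (.node 1 (.node 2 (.node 2 .leaf .leaf) .leaf) (.node 2 .leaf .leaf)) .leaf)) (.node 1 (.node 0 (.node 1 (.node 0 .leaf (.node 1 .leaf (.node 2 .leaf .leaf))) (.node 2 (.node 2 .leaf .leaf) .leaf)) (.node 1 (.node 0 (.node 2 .leaf .leaf) (.node 1 (.node 0 .leaf (.node 1 .leaf .leaf)) (.node 2 (.node 1 .leaf .leaf) .leaf))) (.node 2 (.node 0 .leaf (.node 1 (.node 0 .leaf (.node 1 .leaf (.node 2 .leaf .leaf))) .leaf)) .leaf))) (.node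 2 (.node 0 (.node 0 .leaf (.node 1 (.node 2 .leaf .leaf) .leaf)) (.node 2 (.node 2 .leaf .leaf) .leaf)) .leaf))) .leaf))) (.node 2 (.node 0 (.node 0 (.node 1 (.node 0 .leaf (.node 2 .leaf .leaf)) (.node 2 (.node 0 .leaf (.node 1 .leaf .leaf)) .leaf)) (.node 1 (.node 0 (.node 0 .leaf (.node 1 .leaf .leaf)) (.node 1 (.node 1 .leaf (.node 2 (.node 2 .leaf .leaf) .leaf)) (.node 2 (.node 0 .leaf (.node 2 .leaf .leaf)) .leaf))) (.node 2 (.node 1 (.node 0 .leaf (.node 1 (.node 0 (.node 0 .leaf .leaf) (.node 2 .leaf .leaf)) .leaf)) (.node 2 (.node 0 (.node 1 .leaf .leaf) (.node 1 (.node 0 .leaf (.node 1 .leaf (.node 2 .leaf .leaf))) .leaf)) .leaf)) .leaf))) (.node 1 (.node 0 (.node 0 (.node 1 .leaf (.node 2 .leaf .leaf)) (.node 1 (.node 0 .leaf (.node 1 (.node 0 .leaf (.node 2 .leaf .leaf)) .leaf)) (.node 2 (.node 2 .leaf .leaf) .leaf))) (.node 2 (.node 0 (.node 1 .leaf (.node 2 (.node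 0 .leaf .leaf) .leaf)) (.node 1 (.node 0 (.node 0 .leaf .leaf) (.node 1 (.node 0 .leaf (.node 1 .leaf .leaf)) (.node 2 (.node 0 .leaf (.node 1 .leaf (.node 2 .leaf .leaf))) .leaf))) (.node 2 (.node 0 .leaf (.node 1 .leaf (.node 2 (.node 0 .leaf (.node 2 .leaf .leaf)) .leaf))) .leaf))) .leaf)) (.node 2 (.node 0 (.node 0 (.node 0 .leaf (.node 2 (.node 0 .leaf .leaf) .leaf)) (.node 1 (.node 0 .leaf (.node 1 .leaf (.node 2 .leaf .leaf))) (.node 2 (.node 0 .leaf (.node 1 .leaf (.node 2 (.node 0 .leaf .leaf) .leaf))) .leaf))) (.node 1 (.node 0 (.node 0 (.node 0 .leaf .leaf) (.node 2 (.node 0 .leaf .leaf) .leaf)) (.node 1 (.node 1 (.node 0 .leaf .leaf) .leaf) (.node 2 (.node 0 .leaf .leaf) .leaf))) (.node 2 (.node 0 (.node 1 (.node 1 .leaf .leaf) (.node 2 (.node 1 .leaf .leaf) .leaf)) .leaf) .leaf))) .leaf))) .leaf))) (.node 1 (.node 0 (.node 0 (.node 0 (.node 0 (.node 1 .leaf (.node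 2 (.node 2 .leaf .leaf) .leaf)) (.node 1 .leaf (.node 2 (.node 1 .leaf (.node 2 (.node 0 .leaf .leaf) .leaf)) .leaf))) (.node 1 (.node 1 (.node 0 .leaf (.node 1 (.node 2 .leaf .leaf) .leaf)) (.node 2 (.node 0 (.node 0 .leaf .leaf) (.node 1 (.node 2 .leaf .leaf) .leaf)) .leaf)) (.node 2 (.node 0 (.node 0 (.node 1 .leaf .leaf) (.node 1 (.node 2 .leaf .leaf) .leaf)) (.node 1 (.node 0 .leaf (.node 2 .leaf .leaf)) (.node 2 (.node 0 .leaf (.node 1 .leaf .leaf)) .leaf))) .leaf))) (.node 1 (.node 0 (.node 0 .leaf (.node 1 (.node 0 (.node 0 .leaf .leaf) (.node 2 .leaf .leaf)) (.node 2 (.node 2 .leaf .leaf) .leaf))) (.node 1 (.node 0 (.node 1 .leaf (.node 2 .leaf .leaf)) (.node 1 (.node 2 .leaf .leaf) (.node 2 (.node 0 (.node 0 .leaf .leaf) .leaf) .leaf))) (.node 2 (.node 0 (.node 1 (.node 1 .leaf .leaf) (.node 2 .leaf .leaf)) (.node 1 (.node 0 (.node 1 .leaf .leaf) (.node 2 (.node 1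 .leaf .leaf) .leaf)) (.node 2 (.node 0 (.node 0 .leaf (.node 1 .leaf .leaf)) (.node 1 .leaf (.node 2 (.node 1 .leaf .leaf) .leaf))) .leaf))) .leaf))) (.node 2 (.node 0 (.node 1 (.node 0 .leaf (.node 2 .leaf .leaf)) (.node 2 (.node 0 .leaf (.node 1 (.node 1 .leaf .leaf) (.node 2 .leaf .leaf))) .leaf)) (.node 1 (.node 0 (.node 0 (.node 1 .leaf (.node 2 .leaf .leaf)) (.node 1 (.node 0 .leaf (.node 2 .leaf .leaf)) .leaf)) (.node 1 (.node 0 (.node 0 .leaf .leaf) (.node 1 (.node 0 .leaf .leaf) .leaf)) (.node 2 (.node 0 .leaf (.node 1 (.node 0 .leaf .leaf) (.node 2 (.node 2 .leaf .leaf) .leaf))) .leaf))) (.node 2 (.node 0 (.node 2 .leaf .leaf) (.node 1 (.node 0 .leaf (.node 1 (.node 0 .leaf .leaf) .leaf)) .leaf)) .leaf))) .leaf))) (.node 1 (.node 0 (.node 0 (.node 0 (.node 1 (.node 0 .leaf .leaf) .leaf) (.node 1 (.node 0 .leaf (.node 1 .leaf .leaf)) .leaf)) (.node 1 (.node 0 (.node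 2 .leaf .leaf) (.node 1 (.node 0 (.node 1 .leaf .leaf) (.node 2 .leaf .leaf)) .leaf)) (.node 2 (.node 0 (.node 2 (.node 1 .leaf (.node 2 .leaf .leaf)) .leaf) (.node 2 (.node 0 (.node 2 .leaf .leaf) (.node 1 .leaf (.node 2 (.node 1 .leaf (.node 2 .leaf .leaf)) .leaf))) .leaf)) .leaf))) (.node 2 (.node 0 (.node 0 (.node 0 (.node 0 (.node 2 .leaf .leaf) .leaf) (.node 1 .leaf .leaf)) (.node 2 .leaf .leaf)) (.node 1 (.node 0 (.node 0 (.node 2 .leaf .leaf) (.node 2 .leaf .leaf)) (.node 1 (.node 1 .leaf (.node 2 .leaf .leaf)) (.node 2 (.node 0 (.node 2 .leaf .leaf) (.node 1 .leaf (.node 2 .leaf .leaf))) .leaf))) (.node 2 (.node 0 (.node 0 (.node 2 .leaf .leaf) (.node 2 .leaf .leaf)) (.node 1 (.node 0 .leaf .leaf) (.node 2 (.node 0 .leaf (.node 1 .leaf (.node 2 .leaf .leaf))) .leaf))) .leaf))) .leaf)) (.node 2 (.node 0 (.node 0 (.node 0 (.node 1 .leaf (.node 2 .leaf .leaf)) (.node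 1 (.node 2 (.node 0 .leaf (.node 1 .leaf .leaf)) .leaf) (.node 2 (.node 0 .leaf (.node 1 (.node 2 .leaf .leaf) (.node 2 (.node 0 .leaf .leaf) .leaf))) .leaf))) (.node 1 (.node 0 (.node 1 .leaf (.node 2 .leaf .leaf)) (.node 2 (.node 0 (.node 1 .leaf .leaf) (.node 2 .leaf .leaf)) .leaf)) (.node 2 (.node 0 (.node 0 .leaf (.node 1 (.node 2 .leaf .leaf) .leaf)) (.node 1 (.node 1 (.node 1 .leaf .leaf) (.node 2 (.node 0 .leaf .leaf) .leaf)) (.node 2 (.node 0 .leaf (.node 1 (.node 1 .leaf .leaf) (.node 2 .leaf .leaf))) .leaf))) .leaf))) (.node 1 (.node 0 (.node 1 (.node 0 (.node 1 .leaf .leaf) .leaf) (.node 2 (.node 1 .leaf (.node 2 .leaf .leaf)) .leaf)) (.node 1 (.node 1 (.node 2 .leaf .leaf) (.node 2 (.node 2 .leaf .leaf) .leaf)) (.node 2 (.node 0 (.node 0 (.node 2 .leaf .leaf) (.node 1 .leaf .leaf)) (.node 2 (.node 2 .leaf .leaf) .leaf)) .leaf))) (.node 2 (.node 1 (.node 0 (.node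 0 .leaf (.node 1 .leaf .leaf)) (.node 1 (.node 0 (.node 0 .leaf .leaf) (.node 2 (.node 0 .leaf (.node 1 .leaf .leaf)) .leaf)) (.node 2 (.node 1 (.node 0 .leaf (.node 2 .leaf .leaf)) .leaf) .leaf))) (.node 2 (.node 1 (.node 0 .leaf (.node 1 .leaf .leaf)) (.node 2 (.node 0 (.node 0 .leaf (.node 1 .leaf .leaf)) (.node 2 .leaf .leaf)) .leaf)) .leaf)) .leaf))) .leaf))) (.node 2 (.node 0 (.node 0 (.node 0 (.node 0 (.node 0 (.node 1 .leaf (.node 2 .leaf .leaf)) (.node 1 .leaf (.node 2 .leaf .leaf))) (.node 1 (.node 0 .leaf (.node 1 .leaf (.node 2 .leaf .leaf))) (.node 2 (.node 0 .leaf (.node 2 (.node 0 .leaf .leaf) .leaf)) .leaf))) (.node 1 (.node 0 (.node 0 (.node 0 .leaf .leaf) (.node 1 .leaf .leaf)) (.node 2 (.node 1 (.node 2 .leaf .leaf) (.node 2 (.node 0 .leaf .leaf) .leaf)) .leaf)) (.node 2 (.node 1 (.node 1 (.node 2 .leaf .leaf) .leaf) (.node 2 (.node 1 .leaf .leaf) .leaf))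 .leaf))) (.node 1 (.node 0 (.node 0 .leaf (.node 1 (.node 0 .leaf .leaf) (.node 2 (.node 1 .leaf (.node 2 (.node 2 .leaf .leaf) .leaf)) .leaf))) (.node 1 (.node 0 (.node 0 (.node 1 .leaf .leaf) (.node 1 .leaf .leaf)) (.node 1 (.node 0 .leaf .leaf) (.node 2 (.node 0 (.node 2 .leaf .leaf) .leaf) .leaf))) (.node 2 (.node 0 (.node 0 .leaf (.node 1 .leaf .leaf)) (.node 1 (.node 1 .leaf (.node 2 (.node 1 .leaf .leaf) .leaf)) (.node 2 (.node 0 (.node 0 .leaf .leaf) (.node 2 (.node 0 .leaf .leaf) .leaf)) .leaf))) .leaf))) (.node 2 (.node 0 (.node 1 (.node 0 (.node 1 .leaf .leaf) (.node 2 (.node 0 .leaf (.node 2 .leaf .leaf)) .leaf)) .leaf) (.node 1 (.node 0 (.node 1 (.node 1 .leaf .leaf) (.node 2 .leaf .leaf)) (.node 1 (.node 0 .leaf (.node 1 (.node 0 .leaf .leaf) (.node 2 (.node 2 .leaf .leaf) .leaf))) .leaf)) (.node 2 (.node 1 (.node 2 .leaf .leaf) (.node 2 (.node 1 .leaf .leaf)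 .leaf)) .leaf))) .leaf))) (.node 1 (.node 0 (.node 0 (.node 1 (.node 0 .leaf (.node 1 (.node 0 .leaf .leaf) (.node 2 .leaf .leaf))) (.node 2 (.node 1 .leaf .leaf) .leaf)) (.node 1 (.node 0 (.node 1 .leaf (.node 2 .leaf .leaf)) (.node 1 (.node 1 (.node 2 .leaf .leaf) (.node 2 (.node 2 .leaf .leaf) .leaf)) (.node 2 (.node 0 (.node 2 .leaf .leaf) .leaf) .leaf))) (.node 2 (.node 0 .leaf (.node 1 (.node 0 .leaf .leaf) (.node 2 (.node 2 .leaf .leaf) .leaf))) .leaf))) (.node 1 (.node 0 (.node 0 (.node 1 .leaf (.node 2 .leaf .leaf)) (.node 1 (.node 2 .leaf .leaf) (.node 2 (.node 0 .leaf .leaf) .leaf))) (.node 1 (.node 0 (.node 2 .leaf .leaf) (.node 1 .leaf (.node 2 (.node 0 .leaf (.node 2 .leaf .leaf)) .leaf))) (.node 2 (.node 0 (.node 0 (.node 2 .leaf .leaf) (.node 1 (.node 2 .leaf .leaf) .leaf)) .leaf) .leaf))) (.node 2 (.node 0 (.node 1 (.node 0 .leaf .leaf) (.node 2 (.node 1 .leaf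 (.node 2 .leaf .leaf)) .leaf)) (.node 2 (.node 2 .leaf .leaf) .leaf)) .leaf))) (.node 2 (.node 0 (.node 0 (.node 0 (.node 1 .leaf (.node 2 .leaf .leaf)) (.node 1 .leaf (.node 2 (.node 1 .leaf (.node 2 .leaf .leaf)) .leaf))) (.node 1 (.node 0 (.node 1 .leaf .leaf) (.node 1 (.node 0 (.node 1 .leaf .leaf) (.node 1 .leaf .leaf)) (.node 2 (.node 1 .leaf (.node 2 .leaf .leaf)) .leaf))) (.node 2 (.node 1 (.node 0 .leaf (.node 1 (.node 2 .leaf .leaf) .leaf)) .leaf) .leaf))) (.node 1 (.node 1 (.node 0 (.node 0 .leaf (.node 2 .leaf .leaf)) (.node 2 (.node 0 (.node 1 .leaf .leaf) (.node 1 .leaf .leaf)) .leaf)) (.node 2 (.node 1 (.node 0 .leaf .leaf) (.node 2 (.node 1 .leaf .leaf) .leaf)) .leaf)) (.node 2 (.node 0 (.node 0 (.node 0 .leaf (.node 1 (.node 2 .leaf .leaf) (.node 2 (.node 0 .leaf .leaf) .leaf))) (.node 1 (.node 0 .leaf (.node 2 .leaf .leaf)) (.node 2 (.node 1 .leaf (.node 2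 .leaf .leaf)) .leaf))) (.node 1 (.node 0 (.node 1 .leaf .leaf) (.node 1 (.node 2 .leaf .leaf) .leaf)) (.node 2 (.node 0 (.node 0 .leaf (.node 1 .leaf .leaf)) (.node 2 .leaf .leaf)) .leaf))) .leaf))) .leaf))) .leaf)))

def OSR2 : List ℕ := [23,5256,786976,1065280,2263040,12656640]

def OSV2 : ℕ := 14

def OST2 : OTree := (.node 0 (.node 0 (.node 0 (.node 0 (.node 0 (.node 0 (.node 0 (.node 2 .leaf .leaf) (.node 1 (.node 0 .leaf .leaf) (.node 2 .leaf .leaf))) (.node 1 (.node 0 (.node 0 .leaf (.node 2 .leaf .leaf)) .leaf) (.node 2 (.node 1 (.node 0 .leaf .leaf) .leaf) .leaf))) (.node 1 (.node 0 (.node 0 .leaf (.node 2 .leaf .leaf)) (.node 1 .leaf (.node 2 (.node 0 .leaf .leaf) .leaf))) (.node 2 (.node 0 (.node 1 .leaf .leaf) (.node 1 (.node 1 .leaf .leaf) (.node 2 (.node 0 .leaf (.node 1 .leaf (.node 2 .leaf .leaf))) .leaf))) .leaf))) (.node 1 (.node 0 (.node 1 (.node 0 .leaf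 (.node 1 .leaf (.node 2 .leaf .leaf))) (.node 2 (.node 1 .leaf (.node 2 (.node 1 .leaf .leaf) .leaf)) .leaf)) (.node 1 (.node 0 (.node 1 .leaf (.node 2 .leaf .leaf)) (.node 1 .leaf (.node 2 .leaf .leaf))) (.node 2 (.node 1 .leaf (.node 2 (.node 0 .leaf (.node 2 .leaf .leaf)) .leaf)) .leaf))) (.node 2 (.node 0 (.node 0 (.node 0 .leaf (.node 1 .leaf .leaf)) (.node 1 (.node 2 .leaf .leaf) (.node 2 (.node 0 .leaf (.node 1 (.node 1 .leaf .leaf) (.node 2 .leaf .leaf))) .leaf))) (.node 1 (.node 0 .leaf (.node 1 (.node 1 .leaf .leaf) .leaf)) (.node 2 (.node 0 (.node 1 .leaf .leaf) (.node 1 (.node 0 .leaf .leaf) .leaf)) .leaf))) .leaf))) (.node 1 (.node 0 (.node 0 (.node 2 (.node 0 .leaf (.node 1 (.node 2 .leaf .leaf) (.node 2 .leaf .leaf))) .leaf) (.node 1 (.node 2 (.node 2 .leaf .leaf) .leaf) (.node 2 (.node 1 (.node 1 (.node 0 .leaf (.node 1 .leaf .leaf)) (.node 2 .leaf .leaf)) (.node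 2 (.node 0 .leaf (.node 2 .leaf .leaf)) .leaf)) .leaf))) (.node 1 (.node 0 (.node 0 .leaf (.node 1 (.node 2 .leaf .leaf) (.node 2 (.node 0 .leaf (.node 1 .leaf .leaf)) .leaf))) (.node 2 (.node 0 (.node 1 .leaf (.node 2 .leaf .leaf)) (.node 1 .leaf .leaf)) .leaf)) (.node 2 (.node 0 (.node 0 .leaf (.node 1 .leaf (.node 2 (.node 0 .leaf (.node 2 (.node 1 .leaf .leaf) .leaf)) .leaf))) (.node 1 (.node 0 .leaf (.node 1 .leaf (.node 2 .leaf .leaf))) (.node 2 (.node 0 .leaf (.node 1 (.node 0 .leaf .leaf) .leaf)) .leaf))) .leaf))) (.node 2 (.node 1 (.node 0 (.node 1 (.node 2 .leaf .leaf) (.node 2 (.node 1 .leaf (.node 2 .leaf .leaf)) .leaf)) (.node 1 (.node 0 (.node 1 .leaf (.node 2 .leaf .leaf)) (.node 1 .leaf .leaf)) (.node 2 (.node 0 (.node 1 .leaf .leaf) (.node 1 (.node 2 .leaf .leaf) (.node 2 (.node 2 .leaf .leaf) .leaf))) .leaf))) (.node 2 (.node 0 (.node 0 (.node 0 .leaf .leaf)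 (.node 1 .leaf (.node 2 .leaf .leaf))) (.node 1 (.node 0 (.node 2 (.node 2 .leaf .leaf) .leaf) (.node 2 (.node 1 .leaf (.node 2 .leaf .leaf)) .leaf)) (.node 2 (.node 1 (.node 0 (.node 0 .leaf .leaf) .leaf) (.node 2 (.node 1 .leaf .leaf) .leaf)) .leaf))) .leaf)) .leaf))) (.node 1 (.node 0 (.node 0 (.node 0 (.node 0 .leaf (.node 1 (.node 0 .leaf (.node 2 .leaf .leaf)) .leaf)) (.node 1 (.node 0 (.node 0 .leaf (.node 1 .leaf (.node 2 .leaf .leaf))) (.node 2 .leaf .leaf)) (.node 2 (.node 0 .leaf (.node 1 (.node 2 .leaf .leaf) .leaf)) .leaf))) (.node 1 (.node 0 (.node 0 (.node 0 .leaf (.node 2 .leaf .leaf)) (.node 1 (.node 1 .leaf .leaf) (.node 2 .leaf .leaf))) (.node 1 (.node 0 (.node 0 (.node 1 .leaf .leaf) .leaf) (.node 1 (.node 0 .leaf .leaf) (.node 2 (.node 1 .leaf .leaf) .leaf))) (.node 2 (.node 0 .leaf (.node 2 (.node 2 .leaf .leaf) .leaf)) .leaf))) (.node 2 (.node 0 (.node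 0 (.node 0 .leaf (.node 1 .leaf .leaf)) (.node 1 (.node 2 .leaf .leaf) .leaf)) (.node 1 (.node 0 (.node 2 (.node 2 .leaf .leaf) .leaf) (.node 2 .leaf .leaf)) (.node 2 (.node 0 (.node 1 .leaf (.node 2 .leaf .leaf)) .leaf) .leaf))) .leaf))) (.node 1 (.node 0 (.node 1 (.node 0 (.node 0 .leaf (.node 2 .leaf .leaf)) .leaf) (.node 2 (.node 1 (.node 1 .leaf .leaf) (.node 2 (.node 2 .leaf .leaf) .leaf)) .leaf)) (.node 1 (.node 0 (.node 1 (.node 0 .leaf .leaf) .leaf) (.node 1 (.node 0 (.node 2 .leaf .leaf) (.node 1 .leaf .leaf)) (.node 2 (.node 0 (.node 2 (.node 1 .leaf .leaf) .leaf) (.node 1 (.node 0 (.node 2 .leaf .leaf) (.node 1 (.node 2 .leaf .leaf) .leaf)) (.node 2 (.node 0 .leaf (.node 2 .leaf .leaf)) .leaf))) .leaf))) (.node 2 (.node 0 (.node 1 (.node 0 (.node 1 .leaf .leaf) (.node 1 .leaf (.node 2 .leaf .leaf))) .leaf) (.node 1 (.node 1 .leaf (.node 2 (.node 0 (.node 0 .leaf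 .leaf) (.node 2 .leaf .leaf)) .leaf)) (.node 2 (.node 0 (.node 2 .leaf .leaf) (.node 1 (.node 0 .leaf (.node 1 .leaf (.node 2 .leaf .leaf))) (.node 2 .leaf .leaf))) .leaf))) .leaf))) (.node 2 (.node 0 (.node 0 (.node 1 (.node 0 .leaf (.node 2 .leaf .leaf)) .leaf) (.node 1 (.node 0 .leaf (.node 1 (.node 0 .leaf .leaf) (.node 2 (.node 0 .leaf .leaf) .leaf))) (.node 2 (.node 1 .leaf .leaf) .leaf))) (.node 1 (.node 0 (.node 1 (.node 1 .leaf (.node 2 .leaf .leaf)) .leaf) (.node 1 (.node 0 (.node 0 .leaf (.node 2 .leaf .leaf)) (.node 1 (.node 1 (.node 1 .leaf .leaf) .leaf) .leaf)) (.node 2 (.node 0 (.node 2 .leaf .leaf) .leaf) .leaf))) (.node 2 (.node 1 (.node 1 (.node 1 .leaf (.node 2 .leaf .leaf)) .leaf) (.node 2 (.node 0 (.node 1 .leaf .leaf) (.node 1 (.node 0 .leaf (.node 1 .leaf .leaf)) (.node 2 .leaf .leaf))) .leaf)) .leaf))) .leaf))) (.node 2 (.node 0 (.node 0 (.node 0 (.node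 2 (.node 2 .leaf .leaf) .leaf) (.node 1 (.node 0 (.node 1 .leaf .leaf) .leaf) .leaf)) (.node 1 (.node 0 (.node 0 (.node 2 .leaf .leaf) (.node 1 (.node 0 (.node 1 .leaf .leaf) (.node 1 .leaf (.node 2 .leaf .leaf))) (.node 2 (.node 1 (.node 1 .leaf .leaf) .leaf) .leaf))) (.node 1 (.node 1 .leaf .leaf) .leaf)) .leaf)) (.node 1 (.node 0 (.node 0 (.node 2 (.node 1 .leaf (.node 2 .leaf .leaf)) .leaf) (.node 1 (.node 1 (.node 1 .leaf .leaf) (.node 2 .leaf .leaf)) (.node 2 (.node 2 .leaf .leaf) .leaf))) (.node 1 (.node 0 (.node 0 (.node 1 .leaf .leaf) (.node 1 .leaf (.node 2 (.node 0 .leaf (.node 2 .leaf .leaf)) .leaf))) (.node 1 .leaf .leaf)) (.node 2 (.node 0 (.node 0 .leaf (.node 1 .leaf (.node 2 .leaf .leaf))) (.node 1 (.node 0 .leaf (.node 2 (.node 2 .leaf .leaf) .leaf)) (.node 2 (.node 1 (.node 2 .leaf .leaf) (.node 2 .leaf .leaf)) .leaf))) .leaf))) (.node 2 (.node 0 (.node 0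 (.node 0 .leaf (.node 2 (.node 1 .leaf .leaf) .leaf)) (.node 1 (.node 0 (.node 0 .leaf .leaf) (.node 1 (.node 0 .leaf (.node 1 .leaf .leaf)) (.node 2 (.node 1 .leaf .leaf) .leaf))) (.node 2 (.node 0 .leaf (.node 1 (.node 1 .leaf .leaf) (.node 2 .leaf .leaf))) .leaf))) (.node 1 (.node 0 (.node 0 .leaf (.node 1 .leaf .leaf)) (.node 1 (.node 0 (.node 2 .leaf .leaf) (.node 2 (.node 1 .leaf .leaf) .leaf)) (.node 2 (.node 0 (.node 1 .leaf (.node 2 .leaf .leaf)) (.node 1 .leaf (.node 2 (.node 2 .leaf .leaf) .leaf))) .leaf))) (.node 2 (.node 0 (.node 0 (.node 2 .leaf .leaf) (.node 1 (.node 2 .leaf .leaf) .leaf)) (.node 2 (.node 1 .leaf .leaf) .leaf)) .leaf))) .leaf))) .leaf))) (.node 1 (.node 0 (.node 0 (.node 0 (.node 0 (.node 2 .leaf .leaf) (.node 1 (.node 0 (.node 0 (.node 0 .leaf .leaf) (.node 1 .leaf (.node 2 .leaf .leaf))) (.node 1 .leaf (.node 2 (.node 0 .leaf .leaf) .leaf)))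 (.node 2 (.node 0 .leaf (.node 2 .leaf .leaf)) .leaf))) (.node 1 (.node 0 (.node 0 .leaf (.node 1 (.node 0 .leaf (.node 2 .leaf .leaf)) .leaf)) (.node 2 (.node 0 .leaf (.node 1 .leaf (.node 2 (.node 0 .leaf (.node 1 .leaf .leaf)) .leaf))) .leaf)) (.node 2 (.node 1 (.node 0 .leaf (.node 1 .leaf (.node 2 .leaf .leaf))) (.node 2 (.node 0 .leaf (.node 2 .leaf .leaf)) .leaf)) .leaf))) (.node 1 (.node 0 (.node 0 (.node 0 (.node 1 .leaf (.node 2 .leaf .leaf)) (.node 1 .leaf (.node 2 .leaf .leaf))) (.node 1 (.node 0 .leaf (.node 2 (.node 2 .leaf .leaf) .leaf)) (.node 2 (.node 1 .leaf .leaf) .leaf))) (.node 1 (.node 0 (.node 0 (.node 2 .leaf .leaf) (.node 1 .leaf (.node 2 .leaf .leaf))) .leaf) (.node 2 (.node 1 (.node 2 (.node 1 .leaf (.node 2 .leaf .leaf)) .leaf) .leaf) .leaf))) (.node 2 (.node 0 (.node 1 (.node 0 (.node 1 .leaf .leaf) (.node 1 .leaf .leaf)) (.node 2 (.node 0 .leaf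 (.node 1 .leaf (.node 2 (.node 2 .leaf .leaf) .leaf))) .leaf)) (.node 1 (.node 0 (.node 1 (.node 0 .leaf (.node 2 .leaf .leaf)) (.node 2 (.node 0 .leaf .leaf) .leaf)) (.node 1 (.node 1 (.node 2 .leaf .leaf) .leaf) (.node 2 (.node 1 (.node 0 .leaf .leaf) .leaf) .leaf))) (.node 2 (.node 0 (.node 0 (.node 0 .leaf .leaf) (.node 2 .leaf .leaf)) (.node 2 (.node 0 (.node 1 .leaf .leaf) (.node 1 (.node 1 .leaf .leaf) (.node 2 (.node 1 .leaf .leaf) .leaf))) .leaf)) .leaf))) .leaf))) (.node 1 (.node 0 (.node 0 (.node 0 (.node 2 (.node 0 .leaf .leaf) .leaf) (.node 2 (.node 0 .leaf (.node 2 (.node 0 .leaf .leaf) .leaf)) .leaf)) (.node 1 (.node 0 (.node 2 (.node 0 .leaf .leaf) .leaf) (.node 2 (.node 1 (.node 0 .leaf .leaf) (.node 2 .leaf .leaf)) .leaf)) (.node 2 (.node 1 (.node 0 .leaf .leaf) (.node 2 (.node 0 .leaf (.node 1 .leaf .leaf)) .leaf)) .leaf))) (.node 1 (.node 0 (.node 0 (.node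 1 (.node 2 .leaf .leaf) .leaf) (.node 2 (.node 2 (.node 1 .leaf (.node 2 .leaf .leaf)) .leaf) .leaf)) (.node 1 (.node 0 (.node 0 .leaf (.node 1 (.node 0 .leaf .leaf) (.node 2 .leaf .leaf))) (.node 1 (.node 1 .leaf .leaf) (.node 2 (.node 0 (.node 0 .leaf .leaf) (.node 1 (.node 0 .leaf .leaf) (.node 2 (.node 0 .leaf .leaf) .leaf))) .leaf))) (.node 2 (.node 0 (.node 2 (.node 1 .leaf .leaf) .leaf) (.node 1 (.node 0 .leaf (.node 1 .leaf .leaf)) .leaf)) .leaf))) (.node 2 (.node 0 (.node 0 (.node 0 (.node 0 .leaf .leaf) (.node 1 .leaf .leaf)) (.node 1 (.node 0 (.node 0 .leaf (.node 1 .leaf .leaf)) (.node 1 .leaf (.node 2 (.node 1 .leaf .leaf) .leaf))) .leaf)) (.node 1 (.node 1 (.node 0 .leaf (.node 1 (.node 2 .leaf .leaf) (.node 2 (.node 1 .leaf (.node 2 .leaf .leaf)) .leaf))) .leaf) (.node 2 (.node 0 (.node 0 .leaf (.node 1 .leaf (.node 2 .leaf .leaf))) (.node 1 (.node 0 .leaf .leaf)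 (.node 2 (.node 1 .leaf .leaf) .leaf))) .leaf))) .leaf))) (.node 2 (.node 0 (.node 0 (.node 0 (.node 0 (.node 0 .leaf .leaf) (.node 1 .leaf (.node 2 (.node 1 .leaf .leaf) .leaf))) (.node 1 (.node 1 (.node 0 .leaf (.node 2 .leaf .leaf)) .leaf) (.node 2 (.node 1 .leaf .leaf) .leaf))) (.node 1 (.node 0 .leaf (.node 1 (.node 0 .leaf .leaf) (.node 2 (.node 1 .leaf .leaf) .leaf))) (.node 2 (.node 0 (.node 1 (.node 0 .leaf .leaf) .leaf) .leaf) .leaf))) (.node 1 (.node 0 (.node 0 (.node 0 .leaf .leaf) (.node 1 (.node 0 .leaf (.node 1 .leaf (.node 2 (.node 2 .leaf .leaf) .leaf))) (.node 2 (.node 2 (.node 2 .leaf .leaf) .leaf) .leaf))) (.node 2 (.node 0 (.node 0 (.node 0 .leaf .leaf) (.node 1 (.node 1 .leaf .leaf) (.node 2 (.node 1 .leaf .leaf) .leaf))) (.node 1 (.node 2 (.node 2 .leaf .leaf) .leaf) (.node 2 (.node 0 .leaf (.node 2 .leaf .leaf)) .leaf))) .leaf)) (.node 2 (.node 0 (.node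 0 (.node 0 .leaf (.node 1 .leaf (.node 2 (.node 0 .leaf .leaf) .leaf))) (.node 1 (.node 2 (.node 0 .leaf .leaf) .leaf) (.node 2 (.node 0 .leaf (.node 2 (.node 0 .leaf (.node 1 .leaf .leaf)) .leaf)) .leaf))) (.node 1 (.node 0 (.node 2 .leaf .leaf) (.node 1 (.node 0 .leaf (.node 2 (.node 2 .leaf .leaf) .leaf)) (.node 2 (.node 0 .leaf (.node 2 .leaf .leaf)) .leaf))) (.node 2 (.node 0 (.node 1 (.node 1 .leaf (.node 2 .leaf .leaf)) .leaf) (.node 2 .leaf .leaf)) .leaf))) .leaf))) .leaf))) (.node 2 (.node 0 (.node 0 (.node 0 (.node 0 .leaf (.node 1 (.node 0 (.node 2 .leaf .leaf) (.node 1 (.node 0 .leaf .leaf) .leaf)) (.node 2 (.node 0 .leaf (.node 2 .leaf .leaf)) .leaf))) (.node 1 (.node 0 (.node 0 .leaf (.node 1 .leaf .leaf)) (.node 1 (.node 2 .leaf .leaf) (.node 2 (.node 1 .leaf (.node 2 .leaf .leaf)) .leaf))) (.node 2 (.node 0 .leaf (.node 1 (.node 0 .leaf (.node 2 (.node 0 .leaf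 (.node 2 .leaf .leaf)) .leaf)) .leaf)) .leaf))) (.node 1 (.node 0 (.node 0 (.node 0 (.node 2 .leaf .leaf) (.node 1 (.node 1 .leaf .leaf) (.node 2 (.node 0 .leaf .leaf) .leaf))) (.node 2 (.node 1 .leaf (.node 2 (.node 1 .leaf .leaf) .leaf)) .leaf)) (.node 1 (.node 0 (.node 0 .leaf (.node 2 .leaf .leaf)) (.node 1 (.node 1 .leaf .leaf) (.node 2 .leaf .leaf))) (.node 2 (.node 0 .leaf (.node 2 (.node 2 (.node 1 .leaf .leaf) .leaf) .leaf)) .leaf))) (.node 2 (.node 0 (.node 0 (.node 0 (.node 0 .leaf (.node 1 .leaf .leaf)) .leaf) (.node 1 (.node 0 .leaf .leaf) .leaf)) (.node 1 (.node 0 (.node 0 (.node 2 .leaf .leaf) .leaf) (.node 1 (.node 0 (.node 1 .leaf .leaf) (.node 2 (.node 2 .leaf .leaf) .leaf)) (.node 2 (.node 0 (.node 2 (.node 2 .leaf .leaf) .leaf) (.node 1 .leaf .leaf)) .leaf))) (.node 2 (.node 0 (.node 0 .leaf (.node 2 .leaf .leaf)) (.node 1 (.node 0 (.node 2 .leaf .leaf)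 (.node 1 .leaf (.node 2 .leaf .leaf))) .leaf)) .leaf))) .leaf))) (.node 1 (.node 0 (.node 0 (.node 0 (.node 1 .leaf (.node 2 .leaf .leaf)) (.node 1 (.node 2 (.node 2 .leaf .leaf) .leaf) (.node 2 (.node 2 .leaf .leaf) .leaf))) (.node 1 (.node 0 (.node 0 .leaf (.node 2 .leaf .leaf)) (.node 2 (.node 0 .leaf (.node 2 (.node 1 .leaf .leaf) .leaf)) .leaf)) (.node 2 (.node 0 (.node 2 (.node 2 .leaf .leaf) .leaf) (.node 1 (.node 2 (.node 1 .leaf .leaf) .leaf) (.node 2 (.node 0 .leaf .leaf) .leaf))) .leaf))) (.node 1 (.node 1 (.node 0 (.node 0 .leaf (.node 2 .leaf .leaf)) (.node 2 (.node 0 .leaf (.node 1 .leaf .leaf)) .leaf)) (.node 2 (.node 0 (.node 0 .leaf (.node 2 (.node 0 .leaf .leaf) .leaf)) (.node 1 (.node 1 .leaf (.node 2 (.node 0 (.node 2 .leaf .leaf) .leaf) .leaf)) (.node 2 (.node 0 (.node 1 .leaf .leaf) (.node 1 .leaf .leaf)) .leaf))) .leaf)) (.node 2 (.node 0 (.node 1 (.node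 1 .leaf (.node 2 (.node 0 .leaf (.node 1 .leaf .leaf)) .leaf)) (.node 2 (.node 1 (.node 0 .leaf .leaf) (.node 2 (.node 2 .leaf .leaf) .leaf)) .leaf)) (.node 1 (.node 1 (.node 1 (.node 1 .leaf .leaf) (.node 2 (.node 0 .leaf .leaf) .leaf)) (.node 2 (.node 0 .leaf .leaf) .leaf)) (.node 2 (.node 2 (.node 1 .leaf (.node 2 (.node 2 .leaf .leaf) .leaf)) .leaf) .leaf))) .leaf))) (.node 2 (.node 0 (.node 0 (.node 0 (.node 2 .leaf .leaf) .leaf) (.node 1 (.node 0 (.node 0 .leaf .leaf) (.node 1 (.node 2 .leaf .leaf) (.node 2 (.node 0 .leaf (.node 2 .leaf .leaf)) .leaf))) (.node 2 (.node 0 (.node 2 (.node 1 .leaf .leaf) .leaf) (.node 1 (.node 0 (.node 2 .leaf .leaf) (.node 1 .leaf (.node 2 .leaf .leaf))) (.node 2 (.node 0 (.node 1 .leaf .leaf) .leaf) .leaf))) .leaf))) (.node 1 (.node 0 (.node 0 (.node 0 .leaf (.node 1 .leaf (.node 2 (.node 2 .leaf .leaf) .leaf))) (.node 1 (.node 2 (.node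 0 .leaf .leaf) .leaf) (.node 2 (.node 2 .leaf .leaf) .leaf))) (.node 1 (.node 1 (.node 2 .leaf .leaf) .leaf) .leaf)) (.node 2 (.node 0 (.node 2 (.node 0 .leaf .leaf) .leaf) (.node 1 (.node 0 (.node 2 .leaf .leaf) (.node 1 (.node 0 (.node 2 .leaf .leaf) .leaf) (.node 2 .leaf .leaf))) (.node 2 (.node 0 (.node 0 .leaf .leaf) (.node 1 (.node 1 .leaf .leaf) (.node 2 (.node 2 .leaf .leaf) .leaf))) .leaf))) .leaf))) .leaf))) .leaf)))

end Cfsg.Agent.Lib.Golay
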