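import Mathlib
import Cfsg.Agent.Lib.GolayOrbTree

set_option autoImplicit false
set_option maxRecDepth 100000

/-!
# Spanning trees of orbits: sextet stabiliser
-/

namespace Cfsg.Agent.Lib.Golay

def SOR0 : ℕ := 5279

def SOV0 : ℕ := 32

def SOT0 : OTree := (.node 0 (.node 0 (.node 0 (.node 0 .leaf .leaf) (.node 2 (.node 0 .leaf .leaf) .leaf)) (.node 1 (.node 0 (.node 0 .leaf (.node 2 .leaf .leaf)) (.node 1 .leaf (.node 2 .leaf .leaf))) (.node 2 (.node 0 .leaf .leaf) .leaf))) .leaf)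

def SOR1 : ℕ := 18147

def SOV1 : ℕ := 16

def SOT1 : OTree := (.node 0 (.node 0 (.node 0 (.node 0 (.node 0 (.node 0 .leaf (.node 1 .leaf (.node 2 .leaf .leaf))) (.node 1 .leaf (.node 2 (.node 1 .leaf .leaf) .leaf))) (.node 1 (.node 0 (.node 0 (.node 1 .leaf .leaf) (.node 2 .leaf .leaf)) (.node 1 (.node 0 (.node 2 .leaf .leaf) (.node 2 .leaf .leaf)) (.node 2 (.node 2 .leaf .leaf) .leaf))) (.node 2 (.node 0 (.node 2 .leaf .leaf) (.node 2 (.node 0 .leaf .leaf) .leaf)) .leaf))) (.node 1 (.node 0 (.node 0 (.node 0 .leaf .leaf) (.node 2 (.node 0 .leaf (.node 2 .leaf .leaf)) .leaf)) (.node 1 (.node 0 (.node 1 .leaf (.node 2 .leaf .leaf)) (.node 1 (.node 1 .leaf .leaf) (.node 2 (.node 1 .leaf (.node 2 .leaf .leaf)) .leaf))) (.node 2 (.node 1 (.node 0 .leaf (.node 2 (.node 0 .leaf .leaf) .leaf)) (.node 2 .leaf .leaf)) .leaf))) (.node 2 (.node 0 (.node 1 (.node 2 .leaf .leaf) (.node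 2 .leaf .leaf)) (.node 1 (.node 0 (.node 0 .leaf (.node 1 (.node 1 .leaf .leaf) (.node 2 .leaf .leaf))) (.node 2 (.node 0 (.node 0 .leaf .leaf) .leaf) .leaf)) .leaf)) .leaf))) (.node 1 (.node 0 (.node 1 (.node 0 (.node 2 .leaf .leaf) (.node 1 .leaf (.node 2 (.node 1 .leaf (.node 2 .leaf .leaf)) .leaf))) (.node 2 (.node 1 (.node 0 .leaf (.node 1 (.node 2 .leaf .leaf) .leaf)) .leaf) .leaf)) (.node 1 (.node 0 (.node 0 (.node 1 .leaf (.node 2 .leaf .leaf)) (.node 2 (.node 2 .leaf .leaf) .leaf)) (.node 1 (.node 0 .leaf (.node 1 (.node 2 .leaf .leaf) (.node 2 (.node 2 .leaf .leaf) .leaf))) (.node 2 (.node 0 (.node 0 .leaf (.node 1 (.node 2 .leaf .leaf) .leaf)) (.node 1 (.node 0 .leaf .leaf) (.node 2 (.node 1 .leaf (.node 2 (.node 0 .leaf .leaf) .leaf)) .leaf))) .leaf))) (.node 2 (.node 0 (.node 0 (.node 1 .leaf .leaf) (.node 1 (.node 0 (.node 1 .leaf .leaf) (.node 2 .leaf .leaf))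 .leaf)) (.node 1 (.node 0 (.node 0 .leaf (.node 2 .leaf .leaf)) (.node 1 (.node 1 .leaf .leaf) (.node 2 .leaf .leaf))) (.node 2 (.node 0 .leaf (.node 1 (.node 0 .leaf (.node 1 .leaf (.node 2 .leaf .leaf))) .leaf)) .leaf))) .leaf))) (.node 2 (.node 0 (.node 0 (.node 0 (.node 2 (.node 0 .leaf .leaf) .leaf) (.node 1 (.node 1 .leaf (.node 2 .leaf .leaf)) (.node 2 (.node 1 .leaf .leaf) .leaf))) (.node 1 (.node 0 .leaf .leaf) (.node 2 (.node 0 .leaf (.node 2 (.node 0 .leaf .leaf) .leaf)) .leaf))) (.node 1 (.node 1 (.node 0 .leaf (.node 1 (.node 0 .leaf (.node 1 .leaf .leaf)) (.node 2 (.node 1 .leaf .leaf) .leaf))) (.node 2 (.node 0 .leaf (.node 1 (.node 1 .leaf (.node 2 .leaf .leaf)) (.node 2 (.node 0 (.node 1 .leaf .leaf) .leaf) .leaf))) .leaf)) (.node 2 (.node 0 (.node 1 (.node 1 .leaf (.node 2 .leaf .leaf)) (.node 2 .leaf .leaf)) (.node 1 (.node 1 (.node 1 (.node 1 .leaf .leaf)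 .leaf) .leaf) (.node 2 (.node 0 (.node 0 .leaf (.node 1 .leaf (.node 2 .leaf .leaf))) .leaf) .leaf))) .leaf))) .leaf))) (.node 1 (.node 0 (.node 0 (.node 1 (.node 0 (.node 0 .leaf (.node 2 (.node 2 .leaf .leaf) .leaf)) (.node 1 (.node 0 .leaf .leaf) .leaf)) (.node 2 (.node 0 .leaf (.node 1 (.node 1 .leaf .leaf) (.node 2 (.node 0 (.node 0 .leaf .leaf) (.node 1 .leaf .leaf)) .leaf))) .leaf)) (.node 1 (.node 0 (.node 1 .leaf (.node 2 (.node 1 .leaf .leaf) .leaf)) (.node 1 (.node 1 (.node 1 .leaf .leaf) (.node 2 (.node 2 .leaf .leaf) .leaf)) (.node 2 (.node 1 (.node 0 .leaf .leaf) (.node 2 .leaf .leaf)) .leaf))) (.node 2 (.node 0 (.node 0 (.node 1 .leaf .leaf) .leaf) (.node 1 (.node 1 (.node 1 .leaf .leaf) (.node 2 (.node 1 .leaf .leaf) .leaf)) (.node 2 (.node 1 (.node 0 .leaf (.node 2 .leaf .leaf)) (.node 2 (.node 1 .leaf .leaf) .leaf)) .leaf))) .leaf))) (.node 1 (.node 0 (.node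 0 (.node 0 .leaf (.node 1 (.node 2 .leaf .leaf) (.node 2 (.node 0 .leaf (.node 1 .leaf .leaf)) .leaf))) (.node 1 (.node 0 (.node 2 .leaf .leaf) (.node 1 .leaf (.node 2 .leaf .leaf))) (.node 2 (.node 1 (.node 0 .leaf (.node 1 .leaf (.node 2 .leaf .leaf))) .leaf) .leaf))) (.node 1 (.node 0 (.node 0 .leaf (.node 1 .leaf .leaf)) (.node 1 (.node 0 .leaf (.node 2 (.node 0 .leaf .leaf) .leaf)) (.node 2 (.node 0 (.node 1 .leaf .leaf) (.node 1 (.node 1 .leaf (.node 2 .leaf .leaf)) (.node 2 .leaf .leaf))) .leaf))) (.node 2 (.node 0 (.node 0 (.node 1 (.node 0 .leaf .leaf) .leaf) (.node 1 .leaf .leaf)) (.node 1 (.node 1 .leaf (.node 2 .leaf .leaf)) (.node 2 (.node 2 .leaf .leaf) .leaf))) .leaf))) (.node 2 (.node 1 (.node 2 (.node 0 (.node 0 .leaf (.node 2 .leaf .leaf)) (.node 1 (.node 1 .leaf .leaf) (.node 2 (.node 0 .leaf .leaf) .leaf))) .leaf) (.node 2 (.node 2 .leaf .leaf) .leaf)) .leaf)))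 (.node 2 (.node 0 (.node 0 (.node 0 (.node 2 .leaf .leaf) (.node 2 (.node 0 .leaf .leaf) .leaf)) (.node 1 (.node 0 (.node 1 .leaf (.node 2 (.node 0 .leaf (.node 1 .leaf .leaf)) .leaf)) (.node 1 (.node 1 (.node 1 .leaf .leaf) .leaf) (.node 2 (.node 1 .leaf .leaf) .leaf))) (.node 2 (.node 0 (.node 0 .leaf (.node 1 (.node 0 .leaf (.node 1 .leaf (.node 2 .leaf .leaf))) (.node 2 (.node 1 .leaf .leaf) .leaf))) (.node 1 (.node 0 (.node 0 .leaf .leaf) (.node 1 (.node 0 .leaf .leaf) (.node 2 (.node 1 .leaf (.node 2 .leaf .leaf)) .leaf))) (.node 2 (.node 1 (.node 0 .leaf .leaf) .leaf) .leaf))) .leaf))) (.node 1 (.node 0 (.node 0 (.node 0 .leaf (.node 1 (.node 2 .leaf .leaf) .leaf)) (.node 1 (.node 0 (.node 2 .leaf .leaf) (.node 1 (.node 2 .leaf .leaf) (.node 2 .leaf .leaf))) .leaf)) (.node 1 (.node 1 (.node 0 .leaf .leaf) (.node 2 (.node 1 .leaf .leaf) .leaf)) .leaf)) (.node 2 (.node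 0 (.node 0 (.node 0 .leaf (.node 1 .leaf (.node 2 .leaf .leaf))) (.node 1 (.node 2 (.node 0 .leaf .leaf) .leaf) (.node 2 .leaf .leaf))) (.node 1 (.node 0 (.node 0 .leaf (.node 1 .leaf .leaf)) (.node 1 (.node 1 (.node 0 .leaf .leaf) .leaf) (.node 2 (.node 0 .leaf (.node 1 .leaf .leaf)) .leaf))) (.node 2 (.node 0 (.node 0 .leaf (.node 1 .leaf .leaf)) (.node 1 (.node 0 .leaf (.node 1 .leaf .leaf)) (.node 2 (.node 1 .leaf (.node 2 .leaf .leaf)) .leaf))) .leaf))) .leaf))) .leaf)))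

def SOR2 : ℕ := 10558

def SOV2 : ℕ := 14

def SOT2 : OTree := (.node 0 (.node 0 (.node 0 (.node 0 (.node 0 (.node 0 .leaf (.node 1 (.node 0 .leaf .leaf) (.node 2 .leaf .leaf))) (.node 1 .leaf .leaf)) (.node 1 (.node 0 (.node 1 .leaf .leaf) (.node 2 (.node 2 .leaf .leaf) .leaf)) .leaf)) (.node 1 (.node 0 (.node 0 (.node 1 .leaf (.node 2 .leaf .leaf)) (.node 2 (.node 0 .leaf (.node 1 .leaf .leaf)) .leaf)) (.node 1 (.node 0 (.node 0 (.node 0 .leaf .leaf) (.node 2 .leaf .leaf)) (.node 1 (.node 1 .leaf (.node 2 .leaf .leaf)) .leaf)) (.node 2 (.node 0 (.node 0 .leaf .leaf) (.node 1 (.node 1 .leaf .leaf) (.node 2 (.node 1 .leaf .leaf) .leaf))) .leaf))) (.node 2 (.node 1 (.node 0 (.node 1 .leaf .leaf) (.node 1 .leaf (.node 2 (.node 0 .leaf (.node 1 .leaf .leaf)) .leaf))) (.node 2 (.node 0 (.node 2 (.node 1 .leaf .leaf) .leaf) (.node 1 (.node 0 (.node 2 .leaf .leaf) (.node 1 .leaf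 (.node 2 (.node 0 .leaf .leaf) .leaf))) (.node 2 (.node 1 .leaf .leaf) .leaf))) .leaf)) .leaf))) (.node 1 (.node 0 (.node 0 (.node 0 (.node 1 (.node 2 .leaf .leaf) .leaf) (.node 1 .leaf (.node 2 (.node 1 .leaf (.node 2 .leaf .leaf)) .leaf))) (.node 1 (.node 0 (.node 2 .leaf .leaf) (.node 2 (.node 0 .leaf .leaf) .leaf)) (.node 2 (.node 0 (.node 1 .leaf (.node 2 .leaf .leaf)) (.node 1 .leaf (.node 2 .leaf .leaf))) .leaf))) (.node 1 (.node 0 (.node 1 (.node 2 .leaf .leaf) .leaf) (.node 2 (.node 1 (.node 1 .leaf (.node 2 .leaf .leaf)) (.node 2 (.node 1 .leaf (.node 2 .leaf .leaf)) .leaf)) .leaf)) (.node 2 (.node 0 (.node 0 (.node 0 (.node 1 .leaf .leaf) (.node 1 .leaf .leaf)) (.node 1 (.node 2 (.node 1 .leaf .leaf) .leaf) .leaf)) (.node 1 (.node 0 .leaf (.node 1 (.node 1 .leaf (.node 2 (.node 1 .leaf .leaf) .leaf)) .leaf)) (.node 2 (.node 1 .leaf (.node 2 (.node 0 .leaf .leaf)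 .leaf)) .leaf))) .leaf))) (.node 2 (.node 0 (.node 0 (.node 0 .leaf (.node 1 (.node 1 .leaf .leaf) (.node 2 (.node 1 .leaf .leaf) .leaf))) (.node 1 (.node 1 (.node 1 .leaf (.node 2 .leaf .leaf)) (.node 2 .leaf .leaf)) (.node 2 (.node 1 .leaf (.node 2 .leaf .leaf)) .leaf))) (.node 1 (.node 0 (.node 0 (.node 0 .leaf (.node 1 .leaf (.node 2 .leaf .leaf))) (.node 1 (.node 1 (.node 1 .leaf .leaf) (.node 2 (.node 0 .leaf .leaf) .leaf)) .leaf)) (.node 1 (.node 0 .leaf (.node 1 (.node 0 .leaf .leaf) (.node 2 (.node 0 .leaf (.node 2 (.node 2 .leaf .leaf) .leaf)) .leaf))) (.node 2 (.node 0 (.node 0 .leaf (.node 1 .leaf .leaf)) (.node 1 (.node 2 (.node 2 .leaf .leaf) .leaf) .leaf)) .leaf))) (.node 2 (.node 0 (.node 0 (.node 0 (.node 0 .leaf .leaf) .leaf) (.node 1 (.node 0 .leaf (.node 2 .leaf .leaf)) .leaf)) (.node 1 (.node 1 (.node 1 .leaf .leaf) (.node 2 (.node 2 .leaf .leaf) .leaf))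 (.node 2 (.node 0 .leaf (.node 1 .leaf (.node 2 (.node 0 .leaf .leaf) .leaf))) .leaf))) .leaf))) .leaf))) (.node 1 (.node 0 (.node 0 (.node 0 (.node 0 .leaf (.node 1 (.node 2 (.node 1 .leaf .leaf) .leaf) (.node 2 (.node 0 .leaf .leaf) .leaf))) (.node 1 (.node 1 (.node 1 .leaf .leaf) .leaf) (.node 2 (.node 1 (.node 0 .leaf (.node 1 (.node 0 .leaf .leaf) (.node 2 .leaf .leaf))) (.node 2 (.node 2 .leaf .leaf) .leaf)) .leaf))) (.node 1 (.node 0 (.node 0 (.node 0 .leaf .leaf) (.node 2 .leaf .leaf)) (.node 1 (.node 0 .leaf (.node 1 .leaf .leaf)) (.node 2 (.node 2 (.node 2 .leaf .leaf) .leaf) .leaf))) (.node 2 (.node 0 (.node 2 (.node 1 .leaf .leaf) .leaf) (.node 1 (.node 0 (.node 1 .leaf (.node 2 .leaf .leaf)) (.node 1 .leaf (.node 2 .leaf .leaf))) (.node 2 (.node 1 .leaf (.node 2 (.node 0 .leaf (.node 2 .leaf .leaf)) .leaf)) .leaf))) .leaf))) (.node 1 (.node 0 (.node 0 (.node 0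 (.node 0 .leaf .leaf) (.node 1 .leaf (.node 2 (.node 2 .leaf .leaf) .leaf))) (.node 1 (.node 0 (.node 2 .leaf .leaf) (.node 2 (.node 2 .leaf .leaf) .leaf)) (.node 2 (.node 0 .leaf (.node 2 (.node 2 .leaf .leaf) .leaf)) .leaf))) (.node 1 (.node 0 (.node 0 .leaf (.node 1 .leaf (.node 2 (.node 1 .leaf .leaf) .leaf))) (.node 1 (.node 0 (.node 0 .leaf (.node 1 .leaf .leaf)) (.node 1 .leaf (.node 2 (.node 0 .leaf (.node 2 .leaf .leaf)) .leaf))) (.node 2 (.node 0 (.node 2 .leaf .leaf) (.node 1 (.node 0 .leaf .leaf) .leaf)) .leaf))) (.node 2 (.node 0 (.node 0 .leaf (.node 1 (.node 0 .leaf .leaf) (.node 2 (.node 1 .leaf (.node 2 .leaf .leaf)) .leaf))) (.node 1 .leaf (.node 2 (.node 1 (.node 1 .leaf (.node 2 .leaf .leaf)) (.node 2 (.node 1 .leaf .leaf) .leaf)) .leaf))) .leaf))) (.node 2 (.node 0 (.node 0 (.node 1 (.node 1 .leaf .leaf) .leaf) (.node 1 (.node 0 (.node 0 .leaf (.node 2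 .leaf .leaf)) (.node 1 .leaf .leaf)) (.node 2 (.node 0 .leaf (.node 1 (.node 1 .leaf .leaf) .leaf)) .leaf))) (.node 1 (.node 0 (.node 1 .leaf (.node 2 (.node 1 .leaf .leaf) .leaf)) (.node 1 (.node 0 (.node 0 .leaf (.node 1 .leaf (.node 2 .leaf .leaf))) (.node 1 (.node 0 .leaf (.node 1 .leaf .leaf)) .leaf)) (.node 2 .leaf .leaf))) (.node 2 (.node 0 (.node 0 (.node 0 .leaf (.node 1 .leaf (.node 2 .leaf .leaf))) .leaf) (.node 1 (.node 1 (.node 1 .leaf (.node 2 .leaf .leaf)) (.node 2 .leaf .leaf)) .leaf)) .leaf))) .leaf))) (.node 2 (.node 0 (.node 0 (.node 0 (.node 2 .leaf .leaf) (.node 1 (.node 2 (.node 2 .leaf .leaf) .leaf) (.node 2 (.node 1 .leaf (.node 2 (.node 2 .leaf .leaf) .leaf)) .leaf))) (.node 1 (.node 0 (.node 0 (.node 0 .leaf .leaf) (.node 1 .leaf (.node 2 .leaf .leaf))) (.node 1 (.node 1 .leaf .leaf) (.node 2 (.node 1 .leaf (.node 2 .leaf .leaf)) .leaf))) (.node 2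 (.node 0 (.node 1 (.node 0 .leaf (.node 1 .leaf .leaf)) (.node 2 (.node 0 .leaf (.node 2 .leaf .leaf)) .leaf)) (.node 1 (.node 1 .leaf (.node 2 (.node 1 .leaf .leaf) .leaf)) .leaf)) .leaf))) (.node 1 (.node 0 (.node 1 (.node 1 (.node 0 .leaf (.node 1 .leaf .leaf)) .leaf) .leaf) (.node 1 (.node 2 (.node 2 .leaf .leaf) .leaf) (.node 2 (.node 0 .leaf (.node 1 (.node 0 .leaf (.node 1 .leaf .leaf)) (.node 2 (.node 1 .leaf (.node 2 .leaf .leaf)) .leaf))) .leaf))) (.node 2 (.node 0 (.node 0 (.node 0 (.node 1 .leaf .leaf) (.node 1 .leaf .leaf)) (.node 1 (.node 0 .leaf (.node 2 (.node 0 .leaf .leaf) .leaf)) (.node 2 (.node 1 .leaf .leaf) .leaf))) (.node 1 (.node 0 (.node 0 (.node 0 .leaf (.node 1 .leaf .leaf)) .leaf) (.node 2 (.node 0 .leaf (.node 1 .leaf .leaf)) .leaf)) (.node 2 (.node 1 (.node 0 .leaf .leaf) (.node 2 (.node 1 .leaf .leaf) .leaf)) .leaf))) .leaf))) .leaf)))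

def STR0 : List ℕ := [5279,4038912,12733024]

def STV0 : ℕ := 96

def STT0 : OTree := (.node 0 (.node 0 (.node 0 (.node 0 .leaf .leaf) .leaf) (.node 1 (.node 0 (.node 0 .leaf (.node 1 .leaf .leaf)) (.node 2 .leaf .leaf)) (.node 2 (.node 2 (.node 1 .leaf .leaf) .leaf) .leaf))) (.node 2 (.node 0 .leaf .leaf) .leaf))

def STR1 : List ℕ := [5279,1009728,15762208]

def STV1 : ℕ := 64

def STT1 : OTree := (.node 0 (.node 0 (.node 0 (.node 0 (.node 0 (.node 2 .leaf .leaf) (.node 1 (.node 0 .leaf .leaf) (.node 2 (.node 1 .leaf (.node 2 .leaf .leaf)) .leaf))) (.node 1 (.node 0 (.node 1 .leaf .leaf) (.node 1 (.node 0 .leaf .leaf) (.node 2 (.node 2 .leaf .leaf) .leaf))) (.node 2 (.node 0 .leaf (.node 1 .leaf (.node 2 .leaf .leaf))) .leaf))) (.node 1 (.node 0 (.node 0 .leaf (.node 1 (.node 1 .leaf (.node 2 .leaf .leaf)) (.node 2 .leaf .leaf))) (.node 1 .leaf .leaf)) (.node 2 (.node 0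 (.node 0 .leaf (.node 1 (.node 0 .leaf (.node 1 .leaf .leaf)) .leaf)) (.node 1 (.node 0 (.node 0 .leaf (.node 1 .leaf .leaf)) (.node 2 .leaf .leaf)) .leaf)) .leaf))) (.node 1 (.node 0 (.node 0 (.node 0 .leaf (.node 1 .leaf (.node 2 (.node 1 .leaf .leaf) .leaf))) (.node 1 (.node 0 .leaf (.node 1 (.node 1 .leaf (.node 2 (.node 2 .leaf .leaf) .leaf)) (.node 2 .leaf .leaf))) (.node 2 (.node 0 .leaf (.node 1 (.node 2 .leaf .leaf) (.node 2 .leaf .leaf))) .leaf))) (.node 1 (.node 0 (.node 2 .leaf .leaf) .leaf) (.node 2 (.node 0 (.node 0 .leaf (.node 1 (.node 2 .leaf .leaf) (.node 2 (.node 2 .leaf .leaf) .leaf))) (.node 1 (.node 1 .leaf .leaf) (.node 2 (.node 0 .leaf (.node 1 (.node 0 .leaf .leaf) .leaf)) .leaf))) .leaf))) (.node 2 (.node 0 (.node 0 (.node 0 .leaf (.node 1 .leaf (.node 2 .leaf .leaf))) (.node 1 (.node 1 .leaf (.node 2 .leaf .leaf)) (.node 2 (.node 1 .leaf (.node 2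 .leaf .leaf)) .leaf))) (.node 1 (.node 0 (.node 1 .leaf .leaf) (.node 1 (.node 1 .leaf (.node 2 .leaf .leaf)) .leaf)) (.node 2 (.node 0 .leaf (.node 1 (.node 0 .leaf .leaf) (.node 2 .leaf .leaf))) .leaf))) .leaf))) (.node 1 (.node 0 (.node 0 (.node 0 (.node 0 .leaf (.node 1 .leaf .leaf)) (.node 1 (.node 0 (.node 1 .leaf .leaf) (.node 2 .leaf .leaf)) (.node 2 (.node 0 .leaf (.node 2 .leaf .leaf)) .leaf))) (.node 1 (.node 0 (.node 0 .leaf (.node 1 (.node 1 .leaf .leaf) .leaf)) (.node 1 .leaf (.node 2 (.node 1 .leaf (.node 2 .leaf .leaf)) .leaf))) (.node 2 (.node 0 .leaf (.node 1 (.node 0 .leaf (.node 2 .leaf .leaf)) (.node 2 (.node 2 (.node 2 .leaf .leaf) .leaf) .leaf))) .leaf))) (.node 1 (.node 0 (.node 0 (.node 1 .leaf (.node 2 .leaf .leaf)) (.node 1 (.node 2 .leaf .leaf) (.node 2 (.node 0 .leaf (.node 1 .leaf (.node 2 (.node 1 .leaf .leaf) .leaf))) .leaf))) (.node 1 (.node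 1 .leaf .leaf) (.node 2 (.node 0 (.node 1 .leaf .leaf) (.node 1 (.node 2 .leaf .leaf) (.node 2 (.node 0 .leaf .leaf) .leaf))) .leaf))) (.node 2 (.node 0 (.node 0 (.node 0 .leaf .leaf) (.node 1 (.node 1 (.node 0 .leaf .leaf) .leaf) (.node 2 (.node 1 .leaf (.node 2 .leaf .leaf)) .leaf))) (.node 1 (.node 0 .leaf .leaf) (.node 2 (.node 1 .leaf (.node 2 .leaf .leaf)) .leaf))) .leaf))) (.node 2 (.node 2 (.node 0 (.node 0 (.node 0 .leaf (.node 1 .leaf .leaf)) (.node 1 .leaf (.node 2 .leaf .leaf))) (.node 1 (.node 0 (.node 0 .leaf (.node 1 .leaf .leaf)) (.node 1 .leaf (.node 2 .leaf .leaf))) .leaf)) .leaf) .leaf)))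

def STR2 : List ℕ := [18147,1839388,14919680]

def STV2 : ℕ := 48

def STT2 : OTree := (.node 0 (.node 0 (.node 0 (.node 0 (.node 0 (.node 0 (.node 2 .leaf .leaf) (.node 2 (.node 0 .leaf .leaf) .leaf)) (.node 2 (.node 1 .leaf (.node 2 (.node 2 (.node 2 .leaf .leaf) .leaf) .leaf)) .leaf)) (.node 1 (.node 0 (.node 0 (.node 2 .leaf .leaf) (.node 1 (.node 1 .leaf .leaf) (.node 2 (.node 0 .leaf (.node 2 .leaf .leaf)) .leaf))) (.node 1 (.node 0 (.node 0 .leaf (.node 1 .leaf (.node 2 .leaf .leaf))) (.node 1 (.node 0 .leaf (.node 2 .leaf .leaf)) (.node 2 (.node 2 .leaf .leaf) .leaf))) (.node 2 (.node 1 (.node 1 .leaf .leaf) (.node 2 .leaf .leaf)) .leaf))) (.node 2 (.node 0 (.node 1 (.node 0 .leaf (.node 1 .leaf .leaf)) .leaf) (.node 1 (.node 1 (.node 0 .leaf .leaf) .leaf) (.node 2 (.node 0 (.node 0 .leaf .leaf) .leaf) .leaf))) .leaf))) (.node 1 (.node 0 (.node 0 (.node 0 .leaf (.node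 1 (.node 1 .leaf (.node 2 .leaf .leaf)) (.node 2 (.node 2 .leaf .leaf) .leaf))) (.node 2 (.node 0 (.node 2 .leaf .leaf) (.node 1 .leaf (.node 2 .leaf .leaf))) .leaf)) (.node 1 (.node 0 (.node 0 .leaf (.node 1 (.node 1 .leaf (.node 2 .leaf .leaf)) (.node 2 .leaf .leaf))) (.node 1 (.node 0 (.node 2 .leaf .leaf) (.node 1 .leaf (.node 2 .leaf .leaf))) (.node 2 (.node 1 (.node 0 .leaf (.node 1 .leaf .leaf)) (.node 2 (.node 2 (.node 0 .leaf .leaf) .leaf) .leaf)) .leaf))) (.node 2 (.node 1 .leaf (.node 2 (.node 0 (.node 1 .leaf .leaf) .leaf) .leaf)) .leaf))) (.node 2 (.node 0 (.node 0 (.node 0 (.node 0 .leaf .leaf) (.node 1 .leaf (.node 2 .leaf .leaf))) (.node 1 (.node 0 (.node 0 .leaf (.node 2 .leaf .leaf)) (.node 1 .leaf (.node 2 (.node 0 (.node 2 .leaf .leaf) (.node 2 .leaf .leaf)) .leaf))) (.node 2 (.node 2 .leaf .leaf) .leaf))) (.node 1 (.node 0 (.node 0 (.node 0 .leaf (.node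 1 .leaf .leaf)) (.node 1 (.node 1 .leaf .leaf) (.node 2 .leaf .leaf))) (.node 1 (.node 2 (.node 0 (.node 2 .leaf .leaf) (.node 1 .leaf (.node 2 .leaf .leaf))) .leaf) (.node 2 (.node 0 (.node 2 .leaf .leaf) (.node 1 .leaf .leaf)) .leaf))) (.node 2 (.node 0 (.node 2 .leaf .leaf) (.node 1 (.node 2 (.node 0 .leaf .leaf) .leaf) (.node 2 (.node 0 (.node 0 .leaf (.node 1 .leaf .leaf)) (.node 1 (.node 1 .leaf .leaf) (.node 2 (.node 0 .leaf (.node 1 .leaf .leaf)) .leaf))) .leaf))) .leaf))) .leaf))) (.node 1 (.node 0 (.node 0 (.node 0 (.node 1 (.node 0 .leaf (.node 1 .leaf .leaf)) (.node 2 .leaf .leaf)) (.node 2 (.node 1 .leaf (.node 2 (.node 1 (.node 1 .leaf .leaf) .leaf) .leaf)) .leaf)) (.node 1 (.node 0 (.node 1 (.node 0 .leaf .leaf) (.node 2 (.node 0 .leaf (.node 1 .leaf .leaf)) .leaf)) (.node 1 (.node 0 .leaf (.node 2 (.node 2 (.node 0 .leaf .leaf) .leaf) .leaf)) (.node 2 (.node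 1 (.node 1 .leaf .leaf) (.node 2 .leaf .leaf)) .leaf))) (.node 2 (.node 1 (.node 0 (.node 0 .leaf (.node 2 (.node 1 .leaf .leaf) .leaf)) .leaf) .leaf) .leaf))) (.node 1 (.node 0 (.node 0 (.node 1 .leaf .leaf) (.node 1 (.node 0 (.node 0 .leaf (.node 1 .leaf .leaf)) (.node 2 (.node 1 .leaf .leaf) .leaf)) (.node 2 (.node 1 (.node 0 .leaf (.node 1 .leaf .leaf)) .leaf) .leaf))) (.node 1 (.node 0 (.node 2 .leaf .leaf) (.node 1 (.node 0 .leaf (.node 1 (.node 0 .leaf (.node 2 .leaf .leaf)) .leaf)) (.node 2 (.node 1 .leaf .leaf) .leaf))) .leaf)) (.node 2 (.node 0 (.node 0 (.node 0 .leaf (.node 1 .leaf .leaf)) (.node 1 (.node 2 .leaf .leaf) (.node 2 (.node 0 (.node 0 .leaf (.node 1 .leaf .leaf)) (.node 2 (.node 2 .leaf .leaf) .leaf)) .leaf))) (.node 1 (.node 0 (.node 0 .leaf (.node 1 .leaf (.node 2 (.node 0 .leaf .leaf) .leaf))) (.node 1 (.node 1 .leaf .leaf) (.node 2 (.node 2 .leaf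 .leaf) .leaf))) (.node 2 (.node 1 (.node 0 .leaf (.node 2 (.node 2 .leaf .leaf) .leaf)) (.node 2 (.node 0 .leaf (.node 2 .leaf .leaf)) .leaf)) .leaf))) .leaf))) (.node 2 (.node 0 (.node 0 (.node 0 (.node 2 (.node 0 .leaf .leaf) .leaf) (.node 1 (.node 0 (.node 0 .leaf .leaf) (.node 1 (.node 2 .leaf .leaf) .leaf)) (.node 2 (.node 1 .leaf .leaf) .leaf))) (.node 1 (.node 0 (.node 0 (.node 2 .leaf .leaf) (.node 1 .leaf .leaf)) (.node 1 .leaf (.node 2 (.node 1 (.node 2 .leaf .leaf) (.node 2 .leaf .leaf)) .leaf))) (.node 2 (.node 0 (.node 1 .leaf .leaf) (.node 1 (.node 0 .leaf (.node 1 (.node 1 .leaf .leaf) (.node 2 (.node 0 .leaf .leaf) .leaf))) (.node 2 (.node 0 .leaf (.node 1 .leaf .leaf)) .leaf))) .leaf))) (.node 1 (.node 0 (.node 0 (.node 0 .leaf (.node 1 .leaf .leaf)) (.node 1 (.node 1 (.node 0 .leaf .leaf) .leaf) (.node 2 (.node 1 (.node 0 .leaf .leaf) (.node 2 (.node 1 .leaf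 (.node 2 .leaf .leaf)) .leaf)) .leaf))) (.node 1 (.node 0 (.node 0 (.node 1 .leaf .leaf) (.node 1 (.node 0 .leaf .leaf) .leaf)) (.node 1 (.node 1 (.node 0 .leaf .leaf) (.node 2 (.node 2 .leaf .leaf) .leaf)) (.node 2 (.node 0 (.node 1 .leaf (.node 2 .leaf .leaf)) (.node 1 (.node 0 .leaf .leaf) (.node 2 (.node 2 .leaf .leaf) .leaf))) .leaf))) (.node 2 (.node 0 (.node 0 .leaf (.node 2 (.node 2 .leaf .leaf) .leaf)) (.node 1 (.node 1 (.node 1 .leaf .leaf) .leaf) (.node 2 (.node 1 .leaf .leaf) .leaf))) .leaf))) (.node 2 (.node 0 (.node 0 (.node 0 (.node 0 .leaf .leaf) (.node 1 .leaf (.node 2 .leaf .leaf))) (.node 1 (.node 0 .leaf (.node 2 .leaf .leaf)) (.node 2 (.node 1 (.node 2 .leaf .leaf) .leaf) .leaf))) (.node 1 (.node 0 (.node 0 .leaf (.node 1 .leaf (.node 2 (.node 2 .leaf .leaf) .leaf))) (.node 1 (.node 2 .leaf .leaf) .leaf)) (.node 2 (.node 0 (.node 0 (.node 1 .leaf .leaf)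 (.node 1 (.node 2 .leaf .leaf) (.node 2 .leaf .leaf))) .leaf) .leaf))) .leaf))) .leaf))) (.node 1 (.node 0 (.node 0 (.node 0 (.node 0 (.node 0 .leaf (.node 1 .leaf .leaf)) (.node 1 (.node 0 .leaf (.node 2 (.node 0 .leaf .leaf) .leaf)) (.node 2 (.node 1 .leaf .leaf) .leaf))) (.node 1 (.node 0 (.node 0 .leaf (.node 1 .leaf .leaf)) (.node 1 (.node 0 (.node 0 .leaf .leaf) (.node 1 .leaf (.node 2 (.node 0 .leaf .leaf) .leaf))) (.node 2 (.node 0 .leaf (.node 2 .leaf .leaf)) .leaf))) (.node 2 (.node 0 (.node 0 .leaf .leaf) (.node 1 (.node 1 .leaf (.node 2 .leaf .leaf)) (.node 2 .leaf .leaf))) .leaf))) (.node 1 (.node 0 (.node 0 (.node 2 (.node 2 .leaf .leaf) .leaf) (.node 1 (.node 2 .leaf .leaf) .leaf)) (.node 1 (.node 0 (.node 0 .leaf .leaf) (.node 1 (.node 1 (.node 1 .leaf .leaf) .leaf) (.node 2 (.node 0 .leaf (.node 2 (.node 2 .leaf .leaf) .leaf)) .leaf))) (.node 2 (.node 1 (.node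 0 .leaf .leaf) (.node 2 (.node 0 (.node 0 .leaf .leaf) (.node 2 (.node 0 .leaf .leaf) .leaf)) .leaf)) .leaf))) (.node 2 (.node 0 (.node 0 (.node 1 .leaf .leaf) (.node 1 (.node 0 .leaf (.node 2 .leaf .leaf)) (.node 2 (.node 1 (.node 2 .leaf .leaf) (.node 2 (.node 2 .leaf .leaf) .leaf)) .leaf))) (.node 1 (.node 0 .leaf (.node 1 (.node 2 .leaf .leaf) (.node 2 (.node 1 (.node 1 .leaf .leaf) .leaf) .leaf))) (.node 2 (.node 0 (.node 1 (.node 1 .leaf .leaf) (.node 2 .leaf .leaf)) (.node 1 (.node 0 (.node 0 .leaf .leaf) (.node 1 .leaf (.node 2 (.node 0 .leaf .leaf) .leaf))) (.node 2 (.node 1 .leaf .leaf) .leaf))) .leaf))) .leaf))) (.node 1 (.node 0 (.node 0 (.node 0 .leaf (.node 1 (.node 1 .leaf .leaf) .leaf)) (.node 1 (.node 0 (.node 0 .leaf (.node 1 .leaf (.node 2 .leaf .leaf))) (.node 1 (.node 0 (.node 2 .leaf .leaf) (.node 2 .leaf .leaf)) (.node 2 (.node 1 .leaf (.node 2 .leaf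 .leaf)) .leaf))) (.node 2 (.node 0 (.node 0 .leaf (.node 2 (.node 2 .leaf .leaf) .leaf)) (.node 1 (.node 0 (.node 1 .leaf .leaf) (.node 1 .leaf (.node 2 .leaf .leaf))) .leaf)) .leaf))) (.node 1 (.node 0 (.node 0 (.node 0 .leaf (.node 2 .leaf .leaf)) (.node 1 (.node 0 .leaf (.node 2 .leaf .leaf)) (.node 2 (.node 1 .leaf .leaf) .leaf))) (.node 1 (.node 0 (.node 0 .leaf (.node 2 .leaf .leaf)) (.node 1 (.node 1 (.node 0 .leaf .leaf) (.node 2 .leaf .leaf)) (.node 2 (.node 0 (.node 0 .leaf .leaf) .leaf) .leaf))) (.node 2 (.node 0 (.node 0 .leaf (.node 1 .leaf (.node 2 .leaf .leaf))) (.node 1 (.node 2 (.node 0 .leaf (.node 2 .leaf .leaf)) .leaf) (.node 2 (.node 0 .leaf (.node 1 .leaf .leaf)) .leaf))) .leaf))) (.node 2 (.node 0 (.node 0 (.node 2 (.node 0 .leaf .leaf) .leaf) .leaf) (.node 1 (.node 0 (.node 1 .leaf .leaf) (.node 2 (.node 2 .leaf .leaf) .leaf)) (.node 2 (.node 0 (.node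 0 (.node 2 .leaf .leaf) .leaf) (.node 2 (.node 0 .leaf (.node 1 .leaf .leaf)) .leaf)) .leaf))) .leaf))) (.node 2 (.node 0 (.node 0 (.node 0 (.node 0 .leaf .leaf) (.node 1 (.node 0 (.node 0 .leaf (.node 2 .leaf .leaf)) (.node 1 .leaf .leaf)) (.node 2 (.node 0 .leaf .leaf) .leaf))) (.node 1 (.node 0 (.node 2 .leaf .leaf) (.node 1 (.node 0 .leaf (.node 1 .leaf .leaf)) .leaf)) (.node 2 (.node 0 (.node 2 .leaf .leaf) (.node 1 (.node 0 .leaf (.node 1 .leaf .leaf)) .leaf)) .leaf))) (.node 1 (.node 1 (.node 0 .leaf (.node 1 (.node 1 (.node 1 .leaf .leaf) (.node 2 .leaf .leaf)) (.node 2 .leaf .leaf))) (.node 2 (.node 0 .leaf (.node 1 (.node 2 .leaf .leaf) (.node 2 (.node 0 .leaf (.node 2 .leaf .leaf)) .leaf))) .leaf)) (.node 2 (.node 0 (.node 0 .leaf (.node 2 (.node 0 .leaf .leaf) .leaf)) (.node 1 (.node 0 (.node 0 .leaf (.node 2 .leaf .leaf)) (.node 1 (.node 2 .leaf .leaf) (.node 2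 (.node 2 .leaf .leaf) .leaf))) (.node 2 (.node 2 (.node 0 .leaf .leaf) .leaf) .leaf))) .leaf))) .leaf))) (.node 2 (.node 0 (.node 0 (.node 0 (.node 0 (.node 2 .leaf .leaf) (.node 1 (.node 1 .leaf .leaf) (.node 2 (.node 2 .leaf .leaf) .leaf))) (.node 1 (.node 0 (.node 1 .leaf .leaf) (.node 1 (.node 0 .leaf .leaf) (.node 2 .leaf .leaf))) (.node 2 (.node 0 .leaf .leaf) .leaf))) (.node 1 (.node 0 (.node 1 (.node 0 .leaf (.node 1 (.node 0 .leaf .leaf) .leaf)) (.node 2 (.node 1 (.node 0 .leaf .leaf) .leaf) .leaf)) (.node 1 (.node 1 (.node 2 .leaf .leaf) .leaf) (.node 2 (.node 0 (.node 2 .leaf .leaf) .leaf) .leaf))) (.node 2 (.node 0 (.node 0 (.node 2 .leaf .leaf) (.node 1 (.node 0 (.node 2 .leaf .leaf) (.node 1 .leaf (.node 2 .leaf .leaf))) (.node 2 .leaf .leaf))) (.node 1 (.node 0 .leaf (.node 1 (.node 2 .leaf .leaf) (.node 2 (.node 0 (.node 2 .leaf .leaf) (.node 2 .leaf .leaf))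 .leaf))) (.node 2 (.node 0 .leaf (.node 1 (.node 0 .leaf .leaf) (.node 2 (.node 0 .leaf (.node 2 .leaf .leaf)) .leaf))) .leaf))) .leaf))) (.node 1 (.node 0 (.node 0 (.node 0 .leaf (.node 1 (.node 0 .leaf (.node 1 .leaf (.node 2 .leaf .leaf))) .leaf)) (.node 1 (.node 0 .leaf .leaf) .leaf)) (.node 1 (.node 0 (.node 0 (.node 0 .leaf .leaf) (.node 1 (.node 0 (.node 0 .leaf .leaf) .leaf) (.node 2 (.node 1 .leaf (.node 2 (.node 1 .leaf .leaf) .leaf)) .leaf))) (.node 1 (.node 1 (.node 1 .leaf .leaf) .leaf) (.node 2 (.node 1 (.node 2 .leaf .leaf) .leaf) .leaf))) (.node 2 (.node 0 (.node 0 (.node 1 .leaf .leaf) (.node 1 (.node 0 .leaf (.node 2 .leaf .leaf)) (.node 2 .leaf .leaf))) (.node 1 (.node 0 (.node 1 .leaf .leaf) (.node 1 (.node 1 .leaf .leaf) (.node 2 (.node 0 .leaf (.node 1 .leaf (.node 2 .leaf .leaf))) .leaf))) (.node 2 (.node 2 (.node 2 .leaf .leaf) .leaf) .leaf))) .leaf)))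 (.node 2 (.node 0 (.node 0 (.node 0 .leaf (.node 1 (.node 0 .leaf .leaf) .leaf)) (.node 1 (.node 0 (.node 1 .leaf .leaf) (.node 2 (.node 2 .leaf .leaf) .leaf)) (.node 2 (.node 1 (.node 0 .leaf .leaf) (.node 2 (.node 0 .leaf .leaf) .leaf)) .leaf))) (.node 1 (.node 0 (.node 0 (.node 2 .leaf .leaf) (.node 1 .leaf .leaf)) (.node 1 (.node 0 .leaf .leaf) (.node 2 (.node 0 .leaf (.node 1 (.node 0 .leaf (.node 2 .leaf .leaf)) (.node 2 (.node 0 .leaf (.node 1 (.node 2 .leaf .leaf) (.node 2 .leaf .leaf))) .leaf))) .leaf))) (.node 2 (.node 0 (.node 0 (.node 2 (.node 2 .leaf .leaf) .leaf) (.node 1 (.node 0 .leaf .leaf) (.node 2 (.node 0 .leaf (.node 2 (.node 2 .leaf .leaf) .leaf)) .leaf))) (.node 1 (.node 1 (.node 0 .leaf (.node 1 .leaf .leaf)) (.node 2 (.node 2 .leaf .leaf) .leaf)) (.node 2 (.node 0 (.node 0 (.node 2 .leaf .leaf) .leaf) (.node 1 (.node 1 .leaf .leaf) (.node 2 (.node 2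 .leaf .leaf) .leaf))) .leaf))) .leaf))) .leaf))) .leaf)))

def STR3 : List ℕ := [15777,705094,16056344]

def STV3 : ℕ := 44

def STT3 : OTree := (.node 0 (.node 0 (.node 0 (.node 0 (.node 0 (.node 0 (.node 0 (.node 0 .leaf (.node 1 (.node 0 .leaf .leaf) .leaf)) (.node 1 (.node 0 .leaf (.node 1 (.node 1 .leaf .leaf) .leaf)) .leaf)) (.node 1 (.node 0 (.node 0 .leaf (.node 1 (.node 1 .leaf (.node 2 .leaf .leaf)) (.node 2 .leaf .leaf))) (.node 2 .leaf .leaf)) (.node 2 (.node 0 (.node 1 .leaf (.node 2 (.node 2 .leaf .leaf) .leaf)) (.node 1 (.node 0 .leaf (.node 2 .leaf .leaf)) (.node 2 (.node 1 .leaf .leaf) .leaf))) .leaf))) (.node 1 (.node 1 (.node 2 (.node 0 .leaf .leaf) .leaf) (.node 2 (.node 0 .leaf .leaf) .leaf)) (.node 2 (.node 0 (.node 0 (.node 0 .leaf (.node 2 .leaf .leaf)) (.node 1 (.node 0 .leaf (.node 2 .leaf .leaf)) (.node 2 (.node 0 .leaf (.node 1 .leaf (.node 2 (.node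 1 .leaf .leaf) .leaf))) .leaf))) (.node 1 (.node 0 (.node 2 (.node 1 .leaf .leaf) .leaf) (.node 1 (.node 0 (.node 2 .leaf .leaf) (.node 2 (.node 0 .leaf .leaf) .leaf)) (.node 2 (.node 0 .leaf (.node 1 .leaf .leaf)) .leaf))) (.node 2 (.node 0 (.node 0 .leaf (.node 2 .leaf .leaf)) (.node 1 (.node 0 (.node 2 .leaf .leaf) .leaf) .leaf)) .leaf))) .leaf))) (.node 1 (.node 0 (.node 1 (.node 1 (.node 0 .leaf (.node 1 .leaf .leaf)) .leaf) (.node 2 (.node 0 (.node 0 .leaf .leaf) (.node 1 .leaf (.node 2 (.node 0 .leaf .leaf) .leaf))) .leaf)) (.node 1 (.node 0 (.node 1 .leaf .leaf) (.node 1 (.node 0 (.node 0 .leaf (.node 2 .leaf .leaf)) (.node 1 .leaf (.node 2 (.node 2 .leaf .leaf) .leaf))) (.node 2 (.node 0 (.node 0 (.node 2 .leaf .leaf) (.node 2 (.node 0 .leaf (.node 2 .leaf .leaf)) .leaf)) (.node 1 .leaf .leaf)) .leaf))) (.node 2 (.node 0 (.node 0 (.node 1 (.node 2 .leaf .leaf) .leaf)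 (.node 2 (.node 0 (.node 1 .leaf .leaf) (.node 1 (.node 0 .leaf .leaf) (.node 2 (.node 2 .leaf .leaf) .leaf))) .leaf)) (.node 1 (.node 0 (.node 0 .leaf (.node 1 .leaf .leaf)) (.node 2 (.node 1 (.node 2 .leaf .leaf) .leaf) .leaf)) (.node 2 (.node 1 (.node 1 (.node 2 .leaf .leaf) .leaf) .leaf) .leaf))) .leaf))) (.node 2 (.node 0 (.node 0 (.node 0 (.node 1 .leaf .leaf) (.node 1 (.node 0 .leaf .leaf) (.node 2 (.node 0 .leaf (.node 1 .leaf .leaf)) .leaf))) (.node 1 (.node 0 (.node 0 .leaf .leaf) (.node 1 (.node 1 .leaf .leaf) .leaf)) (.node 2 (.node 0 (.node 0 (.node 2 .leaf .leaf) (.node 1 .leaf (.node 2 .leaf .leaf))) (.node 1 .leaf (.node 2 (.node 1 .leaf .leaf) .leaf))) .leaf))) (.node 1 (.node 0 (.node 0 .leaf (.node 1 (.node 0 .leaf (.node 2 (.node 1 .leaf .leaf) .leaf)) (.node 2 (.node 0 .leaf (.node 1 (.node 2 .leaf .leaf) .leaf)) .leaf))) (.node 1 (.node 1 (.node 0 .leaf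 (.node 1 (.node 0 .leaf .leaf) .leaf)) (.node 2 .leaf .leaf)) (.node 2 (.node 0 (.node 2 .leaf .leaf) (.node 1 .leaf (.node 2 (.node 2 .leaf .leaf) .leaf))) .leaf))) (.node 2 (.node 0 (.node 0 (.node 0 .leaf (.node 2 .leaf .leaf)) (.node 1 .leaf (.node 2 (.node 2 .leaf .leaf) .leaf))) (.node 1 (.node 0 .leaf (.node 1 .leaf (.node 2 .leaf .leaf))) (.node 2 (.node 0 (.node 0 (.node 1 .leaf .leaf) .leaf) (.node 1 (.node 1 .leaf (.node 2 (.node 0 .leaf .leaf) .leaf)) (.node 2 (.node 0 .leaf (.node 1 .leaf (.node 2 .leaf .leaf))) .leaf))) .leaf))) .leaf))) .leaf))) (.node 1 (.node 0 (.node 0 (.node 0 (.node 2 (.node 0 .leaf (.node 1 .leaf (.node 2 .leaf .leaf))) .leaf) (.node 1 (.node 0 .leaf (.node 1 (.node 1 .leaf .leaf) (.node 2 (.node 0 .leaf .leaf) .leaf))) (.node 2 (.node 0 (.node 1 .leaf (.node 2 (.node 0 .leaf .leaf) .leaf)) (.node 1 (.node 1 .leaf .leaf) (.node 2 (.node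 2 (.node 0 .leaf .leaf) .leaf) .leaf))) .leaf))) (.node 1 (.node 0 (.node 1 (.node 0 .leaf (.node 2 .leaf .leaf)) .leaf) (.node 1 (.node 0 (.node 0 .leaf (.node 2 (.node 2 .leaf .leaf) .leaf)) (.node 1 (.node 0 .leaf (.node 1 .leaf (.node 2 (.node 2 .leaf .leaf) .leaf))) .leaf)) (.node 2 (.node 0 (.node 1 (.node 1 .leaf .leaf) (.node 2 .leaf .leaf)) (.node 1 (.node 1 .leaf .leaf) (.node 2 (.node 0 .leaf .leaf) .leaf))) .leaf))) (.node 2 (.node 0 (.node 0 (.node 0 .leaf (.node 2 (.node 0 .leaf .leaf) .leaf)) (.node 2 .leaf .leaf)) (.node 1 (.node 0 (.node 0 .leaf .leaf) (.node 1 (.node 1 .leaf .leaf) .leaf)) (.node 2 (.node 0 (.node 1 .leaf .leaf) (.node 1 (.node 2 .leaf .leaf) .leaf)) .leaf))) .leaf))) (.node 1 (.node 0 (.node 0 (.node 0 (.node 1 .leaf .leaf) (.node 1 (.node 0 .leaf (.node 2 .leaf .leaf)) (.node 2 (.node 1 (.node 1 .leaf .leaf) (.node 2 .leaf .leaf)) .leaf)))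 (.node 1 (.node 0 (.node 0 .leaf .leaf) (.node 1 .leaf (.node 2 (.node 0 .leaf (.node 2 .leaf .leaf)) .leaf))) (.node 2 (.node 1 (.node 0 (.node 0 .leaf .leaf) .leaf) (.node 2 (.node 0 .leaf (.node 1 (.node 0 .leaf .leaf) (.node 2 .leaf .leaf))) .leaf)) .leaf))) (.node 1 (.node 0 (.node 0 (.node 0 (.node 2 .leaf .leaf) .leaf) (.node 1 (.node 0 .leaf (.node 1 .leaf .leaf)) (.node 2 (.node 1 .leaf .leaf) .leaf))) (.node 1 (.node 0 (.node 2 (.node 1 .leaf .leaf) .leaf) (.node 2 (.node 2 .leaf .leaf) .leaf)) (.node 2 (.node 1 (.node 0 .leaf .leaf) .leaf) .leaf))) (.node 2 (.node 0 (.node 0 (.node 0 (.node 1 .leaf .leaf) .leaf) .leaf) (.node 1 (.node 0 (.node 0 .leaf (.node 1 (.node 0 .leaf .leaf) (.node 2 .leaf .leaf))) (.node 1 (.node 1 .leaf .leaf) (.node 2 (.node 0 (.node 2 .leaf .leaf) (.node 2 .leaf .leaf)) .leaf))) (.node 2 (.node 0 (.node 1 .leaf .leaf) (.node 1 (.node 2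 (.node 2 .leaf .leaf) .leaf) (.node 2 (.node 2 .leaf .leaf) .leaf))) .leaf))) .leaf))) (.node 2 (.node 0 (.node 0 (.node 0 .leaf (.node 1 (.node 0 .leaf .leaf) (.node 2 (.node 0 .leaf (.node 1 (.node 2 .leaf .leaf) (.node 2 .leaf .leaf))) .leaf))) (.node 1 (.node 2 (.node 0 .leaf (.node 1 .leaf .leaf)) .leaf) (.node 2 (.node 0 (.node 0 .leaf (.node 2 .leaf .leaf)) (.node 1 (.node 0 .leaf .leaf) (.node 2 .leaf .leaf))) .leaf))) (.node 1 (.node 0 (.node 0 (.node 2 .leaf .leaf) .leaf) (.node 1 (.node 1 .leaf (.node 2 (.node 2 .leaf .leaf) .leaf)) (.node 2 (.node 0 (.node 0 (.node 0 .leaf .leaf) .leaf) (.node 1 (.node 0 .leaf (.node 2 .leaf .leaf)) (.node 2 (.node 0 (.node 0 .leaf .leaf) (.node 2 (.node 1 .leaf .leaf) .leaf)) .leaf))) .leaf))) (.node 2 (.node 0 (.node 0 (.node 1 .leaf (.node 2 (.node 0 .leaf .leaf) .leaf)) (.node 1 (.node 0 .leaf .leaf) (.node 2 (.node 1 .leaf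 .leaf) .leaf))) (.node 1 (.node 0 .leaf (.node 2 .leaf .leaf)) (.node 2 (.node 1 (.node 0 .leaf (.node 1 .leaf (.node 2 .leaf .leaf))) (.node 2 .leaf .leaf)) .leaf))) .leaf))) .leaf))) (.node 2 (.node 0 (.node 0 (.node 0 (.node 0 (.node 0 .leaf (.node 2 .leaf .leaf)) (.node 1 (.node 2 .leaf .leaf) (.node 2 (.node 2 .leaf .leaf) .leaf))) (.node 1 (.node 1 (.node 1 .leaf .leaf) .leaf) (.node 2 (.node 1 (.node 0 .leaf .leaf) (.node 2 (.node 2 .leaf .leaf) .leaf)) .leaf))) (.node 1 (.node 0 (.node 0 (.node 0 .leaf .leaf) (.node 1 (.node 0 .leaf .leaf) .leaf)) (.node 1 (.node 0 (.node 0 .leaf (.node 2 .leaf .leaf)) (.node 1 (.node 2 (.node 1 .leaf .leaf) .leaf) (.node 2 (.node 0 .leaf .leaf) .leaf))) .leaf)) (.node 2 (.node 0 (.node 0 (.node 2 (.node 1 .leaf .leaf) .leaf) (.node 1 .leaf (.node 2 (.node 0 .leaf (.node 2 .leaf .leaf)) .leaf))) (.node 1 (.node 0 (.node 2 .leaf .leaf)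 (.node 1 .leaf (.node 2 (.node 1 .leaf .leaf) .leaf))) (.node 2 (.node 0 (.node 1 .leaf .leaf) (.node 1 (.node 0 (.node 1 .leaf .leaf) (.node 2 (.node 1 .leaf .leaf) .leaf)) (.node 2 (.node 0 .leaf (.node 1 .leaf .leaf)) .leaf))) .leaf))) .leaf))) (.node 1 (.node 0 (.node 0 (.node 0 (.node 2 .leaf .leaf) (.node 1 .leaf (.node 2 (.node 0 (.node 0 .leaf .leaf) (.node 2 .leaf .leaf)) .leaf))) (.node 1 (.node 0 (.node 0 .leaf .leaf) (.node 1 (.node 1 .leaf (.node 2 .leaf .leaf)) (.node 2 (.node 0 .leaf .leaf) .leaf))) (.node 2 (.node 0 .leaf (.node 2 (.node 0 .leaf .leaf) .leaf)) .leaf))) (.node 1 (.node 0 (.node 1 (.node 1 .leaf .leaf) (.node 2 (.node 1 .leaf (.node 2 (.node 0 .leaf .leaf) .leaf)) .leaf)) (.node 1 (.node 1 (.node 2 .leaf .leaf) (.node 2 (.node 0 .leaf (.node 1 .leaf .leaf)) .leaf)) (.node 2 (.node 0 .leaf (.node 1 (.node 0 .leaf .leaf) .leaf)) .leaf))) (.node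 2 (.node 0 (.node 0 (.node 0 .leaf .leaf) .leaf) (.node 1 (.node 2 .leaf .leaf) (.node 2 .leaf .leaf))) .leaf))) (.node 2 (.node 0 (.node 0 (.node 0 (.node 0 .leaf (.node 1 .leaf .leaf)) .leaf) (.node 1 (.node 0 (.node 1 .leaf .leaf) .leaf) (.node 2 (.node 0 (.node 0 (.node 0 .leaf .leaf) (.node 1 (.node 1 .leaf .leaf) .leaf)) (.node 2 .leaf .leaf)) .leaf))) (.node 1 (.node 0 (.node 0 (.node 1 .leaf .leaf) (.node 1 .leaf .leaf)) (.node 1 .leaf (.node 2 (.node 0 (.node 0 .leaf (.node 1 .leaf .leaf)) (.node 1 (.node 0 .leaf .leaf) (.node 2 .leaf .leaf))) .leaf))) (.node 2 (.node 0 (.node 1 (.node 0 .leaf (.node 2 .leaf .leaf)) (.node 2 (.node 2 .leaf .leaf) .leaf)) (.node 1 (.node 1 (.node 0 .leaf (.node 2 .leaf .leaf)) (.node 2 (.node 0 .leaf .leaf) .leaf)) (.node 2 (.node 0 .leaf (.node 1 (.node 1 .leaf (.node 2 .leaf .leaf)) (.node 2 (.node 1 .leaf .leaf) .leaf))) .leaf)))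 .leaf))) .leaf))) .leaf))) (.node 1 (.node 0 (.node 0 (.node 0 (.node 0 (.node 0 .leaf (.node 1 (.node 1 .leaf .leaf) .leaf)) (.node 1 (.node 0 (.node 0 (.node 1 .leaf .leaf) .leaf) .leaf) (.node 2 (.node 0 (.node 2 (.node 1 .leaf .leaf) .leaf) (.node 2 (.node 0 .leaf .leaf) .leaf)) .leaf))) (.node 1 (.node 0 (.node 0 (.node 0 .leaf (.node 2 .leaf .leaf)) (.node 2 (.node 0 (.node 1 .leaf .leaf) .leaf) .leaf)) (.node 1 (.node 0 .leaf (.node 1 (.node 0 .leaf (.node 1 (.node 2 .leaf .leaf) (.node 2 .leaf .leaf))) (.node 2 .leaf .leaf))) (.node 2 (.node 0 (.node 0 .leaf (.node 2 (.node 2 .leaf .leaf) .leaf)) (.node 2 (.node 1 .leaf (.node 2 .leaf .leaf)) .leaf)) .leaf))) (.node 2 (.node 0 (.node 1 .leaf .leaf) (.node 1 (.node 0 (.node 2 .leaf .leaf) (.node 2 (.node 0 .leaf (.node 1 .leaf .leaf)) .leaf)) (.node 2 (.node 0 (.node 0 (.node 0 .leaf .leaf) (.node 1 .leaf (.node 2 .leaf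 .leaf))) .leaf) .leaf))) .leaf))) (.node 1 (.node 0 (.node 0 (.node 0 (.node 0 (.node 0 .leaf .leaf) (.node 2 .leaf .leaf)) (.node 1 (.node 0 .leaf (.node 1 .leaf .leaf)) (.node 2 (.node 2 .leaf .leaf) .leaf))) (.node 1 (.node 0 (.node 0 .leaf (.node 2 .leaf .leaf)) (.node 1 (.node 0 .leaf (.node 1 .leaf .leaf)) (.node 2 (.node 1 .leaf (.node 2 (.node 2 .leaf .leaf) .leaf)) .leaf))) (.node 2 (.node 0 (.node 2 .leaf .leaf) (.node 1 .leaf (.node 2 (.node 0 .leaf (.node 1 .leaf (.node 2 .leaf .leaf))) .leaf))) .leaf))) (.node 1 (.node 0 (.node 0 (.node 0 .leaf (.node 1 .leaf (.node 2 .leaf .leaf))) (.node 1 .leaf (.node 2 (.node 0 .leaf (.node 1 .leaf .leaf)) .leaf))) (.node 1 (.node 0 (.node 2 .leaf .leaf) (.node 1 (.node 1 .leaf .leaf) (.node 2 (.node 1 .leaf .leaf) .leaf))) (.node 2 (.node 0 (.node 2 (.node 1 .leaf .leaf) .leaf) (.node 1 (.node 1 .leaf .leaf) .leaf)) .leaf)))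 (.node 2 (.node 0 (.node 0 (.node 2 .leaf .leaf) (.node 1 .leaf (.node 2 (.node 2 .leaf .leaf) .leaf))) (.node 1 (.node 0 (.node 0 .leaf (.node 2 .leaf .leaf)) (.node 1 (.node 0 .leaf (.node 2 .leaf .leaf)) (.node 2 (.node 1 .leaf (.node 2 .leaf .leaf)) .leaf))) (.node 2 (.node 1 .leaf .leaf) .leaf))) .leaf))) (.node 2 (.node 0 (.node 0 (.node 1 (.node 0 .leaf (.node 2 (.node 2 .leaf .leaf) .leaf)) (.node 2 .leaf .leaf)) (.node 1 (.node 1 (.node 1 .leaf .leaf) (.node 2 (.node 1 .leaf .leaf) .leaf)) (.node 2 (.node 0 (.node 2 .leaf .leaf) (.node 1 (.node 1 .leaf .leaf) .leaf)) .leaf))) (.node 1 (.node 0 (.node 0 .leaf (.node 2 (.node 2 .leaf .leaf) .leaf)) (.node 2 (.node 0 (.node 1 .leaf .leaf) (.node 2 (.node 0 .leaf (.node 1 .leaf (.node 2 .leaf .leaf))) .leaf)) .leaf)) (.node 2 (.node 0 (.node 0 .leaf (.node 1 (.node 0 .leaf .leaf) (.node 2 (.node 0 (.node 1 .leaf (.node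 2 .leaf .leaf)) .leaf) .leaf))) (.node 1 (.node 0 (.node 1 (.node 1 .leaf .leaf) (.node 2 .leaf .leaf)) (.node 2 (.node 1 .leaf .leaf) .leaf)) (.node 2 (.node 1 .leaf (.node 2 (.node 0 .leaf (.node 1 .leaf (.node 2 (.node 2 .leaf .leaf) .leaf))) .leaf)) .leaf))) .leaf))) .leaf))) (.node 1 (.node 0 (.node 0 (.node 0 (.node 0 .leaf (.node 1 (.node 2 (.node 1 .leaf (.node 2 .leaf .leaf)) .leaf) (.node 2 (.node 2 .leaf .leaf) .leaf))) (.node 1 (.node 0 .leaf (.node 1 .leaf (.node 2 .leaf .leaf))) (.node 2 (.node 0 (.node 1 (.node 2 .leaf .leaf) (.node 2 .leaf .leaf)) (.node 1 (.node 0 (.node 1 .leaf .leaf) (.node 1 .leaf .leaf)) .leaf)) .leaf))) (.node 1 (.node 0 (.node 0 (.node 1 .leaf (.node 2 .leaf .leaf)) .leaf) (.node 1 (.node 1 (.node 1 (.node 2 .leaf .leaf) .leaf) .leaf) (.node 2 (.node 0 (.node 1 .leaf (.node 2 .leaf .leaf)) (.node 2 .leaf .leaf)) .leaf))) (.node 2 (.node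 0 (.node 0 .leaf (.node 1 (.node 1 .leaf (.node 2 (.node 1 .leaf .leaf) .leaf)) (.node 2 (.node 0 .leaf .leaf) .leaf))) (.node 2 (.node 1 .leaf (.node 2 .leaf .leaf)) .leaf)) .leaf))) (.node 1 (.node 0 (.node 0 (.node 2 (.node 2 .leaf .leaf) .leaf) (.node 1 (.node 1 .leaf (.node 2 (.node 2 .leaf .leaf) .leaf)) (.node 2 (.node 0 .leaf (.node 1 (.node 2 .leaf .leaf) .leaf)) .leaf))) (.node 1 (.node 1 (.node 0 (.node 1 .leaf .leaf) .leaf) (.node 2 (.node 1 (.node 1 .leaf .leaf) .leaf) .leaf)) .leaf)) (.node 2 (.node 0 (.node 0 (.node 0 (.node 0 .leaf .leaf) (.node 2 .leaf .leaf)) (.node 2 (.node 2 (.node 2 .leaf .leaf) .leaf) .leaf)) (.node 1 (.node 0 (.node 2 .leaf .leaf) (.node 1 (.node 1 (.node 0 .leaf (.node 1 .leaf .leaf)) .leaf) (.node 2 (.node 0 (.node 2 (.node 0 .leaf .leaf) .leaf) (.node 1 (.node 0 .leaf (.node 1 .leaf .leaf)) (.node 2 (.node 0 .leaf .leaf) .leaf))) .leaf)))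 (.node 2 (.node 0 (.node 0 (.node 0 .leaf (.node 1 .leaf .leaf)) (.node 1 (.node 0 .leaf (.node 2 .leaf .leaf)) (.node 2 .leaf .leaf))) (.node 1 (.node 0 (.node 1 .leaf .leaf) .leaf) (.node 2 (.node 0 (.node 1 .leaf .leaf) .leaf) .leaf))) .leaf))) .leaf))) (.node 2 (.node 0 (.node 0 (.node 0 (.node 1 (.node 1 .leaf (.node 2 .leaf .leaf)) .leaf) (.node 1 (.node 2 (.node 2 .leaf .leaf) .leaf) (.node 2 (.node 0 (.node 2 .leaf .leaf) (.node 1 (.node 0 .leaf .leaf) (.node 2 (.node 2 .leaf .leaf) .leaf))) .leaf))) (.node 1 (.node 1 (.node 1 .leaf (.node 2 (.node 1 .leaf (.node 2 .leaf .leaf)) .leaf)) (.node 2 (.node 0 (.node 2 .leaf .leaf) (.node 1 (.node 1 .leaf (.node 2 .leaf .leaf)) (.node 2 (.node 1 .leaf .leaf) .leaf))) .leaf)) (.node 2 (.node 0 (.node 0 .leaf (.node 1 (.node 0 .leaf .leaf) (.node 2 .leaf .leaf))) (.node 2 (.node 0 (.node 2 .leaf .leaf) (.node 1 (.node 1 .leaf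 .leaf) (.node 2 (.node 0 .leaf (.node 2 .leaf .leaf)) .leaf))) .leaf)) .leaf))) (.node 1 (.node 0 (.node 0 (.node 0 (.node 1 .leaf (.node 2 .leaf .leaf)) (.node 2 (.node 0 .leaf (.node 2 .leaf .leaf)) .leaf)) (.node 1 (.node 0 (.node 2 .leaf .leaf) (.node 1 (.node 0 .leaf .leaf) (.node 2 .leaf .leaf))) .leaf)) (.node 1 (.node 0 (.node 0 .leaf (.node 1 .leaf (.node 2 (.node 1 .leaf (.node 2 (.node 1 .leaf .leaf) .leaf)) .leaf))) (.node 2 (.node 0 (.node 0 (.node 0 .leaf .leaf) (.node 2 .leaf .leaf)) (.node 2 (.node 2 .leaf .leaf) .leaf)) .leaf)) (.node 2 (.node 0 (.node 0 (.node 0 (.node 0 .leaf .leaf) (.node 1 .leaf .leaf)) (.node 1 .leaf .leaf)) (.node 1 (.node 0 (.node 0 .leaf .leaf) (.node 2 (.node 0 .leaf (.node 1 .leaf (.node 2 .leaf .leaf))) .leaf)) .leaf)) .leaf))) (.node 2 (.node 0 (.node 2 .leaf .leaf) (.node 1 (.node 0 (.node 0 .leaf (.node 1 (.node 2 .leaf .leaf)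 (.node 2 (.node 0 .leaf .leaf) .leaf))) (.node 1 (.node 0 (.node 0 .leaf (.node 1 .leaf .leaf)) (.node 1 (.node 2 .leaf .leaf) (.node 2 (.node 1 .leaf .leaf) .leaf))) (.node 2 (.node 0 (.node 0 .leaf .leaf) (.node 1 .leaf (.node 2 (.node 2 .leaf .leaf) .leaf))) .leaf))) (.node 2 (.node 0 (.node 0 (.node 0 .leaf .leaf) .leaf) (.node 1 (.node 0 (.node 0 .leaf .leaf) (.node 1 (.node 1 (.node 1 .leaf .leaf) .leaf) (.node 2 (.node 0 .leaf .leaf) .leaf))) (.node 2 (.node 0 (.node 0 .leaf (.node 1 .leaf (.node 2 (.node 1 .leaf .leaf) .leaf))) (.node 1 (.node 1 .leaf .leaf) (.node 2 (.node 0 .leaf (.node 1 (.node 2 .leaf .leaf) .leaf)) .leaf))) .leaf))) .leaf))) .leaf))) .leaf))) (.node 2 (.node 0 (.node 0 (.node 0 (.node 0 (.node 0 (.node 0 .leaf .leaf) (.node 2 .leaf .leaf)) (.node 1 (.node 0 (.node 2 .leaf .leaf) (.node 1 (.node 2 .leaf .leaf) (.node 2 .leaf .leaf))) (.node 2 (.node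 0 (.node 0 .leaf .leaf) (.node 2 (.node 0 .leaf (.node 1 .leaf (.node 2 .leaf .leaf))) .leaf)) .leaf))) (.node 1 (.node 0 (.node 0 (.node 1 .leaf (.node 2 (.node 1 .leaf .leaf) .leaf)) (.node 1 (.node 1 .leaf (.node 2 .leaf .leaf)) (.node 2 (.node 2 .leaf .leaf) .leaf))) (.node 1 (.node 0 (.node 0 .leaf (.node 1 .leaf (.node 2 .leaf .leaf))) (.node 1 (.node 2 .leaf .leaf) (.node 2 .leaf .leaf))) (.node 2 (.node 0 .leaf (.node 1 (.node 2 .leaf .leaf) (.node 2 (.node 1 .leaf .leaf) .leaf))) .leaf))) (.node 2 (.node 1 (.node 0 .leaf (.node 1 (.node 0 .leaf (.node 1 .leaf .leaf)) (.node 2 .leaf .leaf))) .leaf) .leaf))) (.node 1 (.node 0 (.node 0 (.node 0 .leaf (.node 1 (.node 1 .leaf .leaf) (.node 2 (.node 1 .leaf (.node 2 .leaf .leaf)) .leaf))) (.node 1 (.node 1 (.node 1 .leaf .leaf) .leaf) (.node 2 (.node 1 (.node 2 .leaf .leaf) .leaf) .leaf))) (.node 1 (.node 1 (.node 0 .leaf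 (.node 1 (.node 2 .leaf .leaf) (.node 2 .leaf .leaf))) (.node 2 (.node 1 .leaf (.node 2 (.node 0 (.node 2 .leaf .leaf) (.node 1 .leaf .leaf)) .leaf)) .leaf)) (.node 2 (.node 0 (.node 0 (.node 1 .leaf (.node 2 (.node 1 .leaf .leaf) .leaf)) (.node 1 (.node 0 .leaf (.node 2 .leaf .leaf)) .leaf)) (.node 1 (.node 2 (.node 0 .leaf (.node 1 .leaf .leaf)) .leaf) (.node 2 (.node 0 .leaf (.node 2 .leaf .leaf)) .leaf))) .leaf))) (.node 2 (.node 1 (.node 0 (.node 0 .leaf (.node 2 (.node 1 .leaf (.node 2 .leaf .leaf)) .leaf)) (.node 1 (.node 0 (.node 0 .leaf .leaf) (.node 1 (.node 2 .leaf .leaf) (.node 2 (.node 0 .leaf (.node 1 .leaf .leaf)) .leaf))) (.node 2 (.node 0 (.node 0 .leaf .leaf) (.node 1 (.node 1 (.node 1 .leaf .leaf) (.node 2 .leaf .leaf)) (.node 2 (.node 2 .leaf .leaf) .leaf))) .leaf))) (.node 2 (.node 0 (.node 0 .leaf (.node 2 (.node 0 .leaf (.node 1 .leaf .leaf)) .leaf))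 (.node 1 (.node 0 (.node 0 .leaf .leaf) .leaf) .leaf)) .leaf)) .leaf))) (.node 1 (.node 0 (.node 0 (.node 0 (.node 0 (.node 1 (.node 0 .leaf .leaf) .leaf) (.node 1 .leaf .leaf)) (.node 1 (.node 1 .leaf (.node 2 .leaf .leaf)) (.node 2 (.node 0 (.node 1 .leaf .leaf) (.node 1 (.node 2 .leaf .leaf) (.node 2 .leaf .leaf))) .leaf))) (.node 1 (.node 0 (.node 0 .leaf (.node 2 (.node 0 .leaf .leaf) .leaf)) (.node 1 (.node 0 (.node 2 (.node 0 .leaf .leaf) .leaf) (.node 2 (.node 0 .leaf .leaf) .leaf)) (.node 2 (.node 0 (.node 0 .leaf (.node 1 (.node 1 .leaf .leaf) .leaf)) (.node 1 (.node 0 .leaf (.node 1 .leaf .leaf)) (.node 2 .leaf .leaf))) .leaf))) (.node 2 (.node 0 (.node 0 .leaf (.node 1 (.node 1 .leaf (.node 2 .leaf .leaf)) (.node 2 (.node 2 .leaf .leaf) .leaf))) (.node 1 (.node 1 .leaf (.node 2 (.node 2 .leaf .leaf) .leaf)) (.node 2 (.node 0 (.node 2 (.node 0 .leaf .leaf) .leaf)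 (.node 1 (.node 1 .leaf (.node 2 .leaf .leaf)) (.node 2 .leaf .leaf))) .leaf))) .leaf))) (.node 1 (.node 0 (.node 0 (.node 0 (.node 1 .leaf .leaf) (.node 1 (.node 0 .leaf .leaf) (.node 2 (.node 1 (.node 0 .leaf .leaf) (.node 2 .leaf .leaf)) .leaf))) (.node 1 (.node 0 .leaf (.node 1 (.node 1 .leaf .leaf) .leaf)) (.node 2 (.node 0 .leaf (.node 1 (.node 2 .leaf .leaf) (.node 2 (.node 1 .leaf .leaf) .leaf))) .leaf))) (.node 1 (.node 0 (.node 1 (.node 2 .leaf .leaf) (.node 2 (.node 2 .leaf .leaf) .leaf)) (.node 1 (.node 0 .leaf (.node 1 .leaf (.node 2 (.node 2 .leaf .leaf) .leaf))) (.node 2 (.node 0 (.node 0 .leaf .leaf) (.node 1 (.node 0 .leaf .leaf) (.node 2 .leaf .leaf))) .leaf))) (.node 2 (.node 0 (.node 0 (.node 0 .leaf (.node 1 .leaf .leaf)) (.node 1 (.node 0 .leaf .leaf) .leaf)) (.node 1 (.node 1 .leaf (.node 2 (.node 1 .leaf .leaf) .leaf)) (.node 2 (.node 0 (.node 0 .leaf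 .leaf) (.node 1 (.node 0 .leaf (.node 1 .leaf (.node 2 .leaf .leaf))) (.node 2 .leaf .leaf))) .leaf))) .leaf))) (.node 2 (.node 0 (.node 0 (.node 2 .leaf .leaf) (.node 1 (.node 1 .leaf (.node 2 (.node 2 .leaf .leaf) .leaf)) .leaf)) (.node 1 (.node 0 (.node 1 (.node 0 .leaf .leaf) .leaf) (.node 1 (.node 0 .leaf .leaf) (.node 2 (.node 0 .leaf (.node 2 .leaf .leaf)) .leaf))) .leaf)) .leaf))) (.node 2 (.node 0 (.node 0 (.node 0 (.node 0 (.node 1 .leaf .leaf) (.node 1 (.node 2 .leaf .leaf) .leaf)) (.node 1 (.node 1 (.node 0 .leaf (.node 1 .leaf .leaf)) (.node 2 (.node 0 .leaf (.node 1 .leaf (.node 2 .leaf .leaf))) .leaf)) (.node 2 (.node 0 (.node 1 .leaf .leaf) (.node 1 (.node 1 .leaf (.node 2 .leaf .leaf)) (.node 2 (.node 0 .leaf .leaf) .leaf))) .leaf))) (.node 2 (.node 0 (.node 0 (.node 0 .leaf .leaf) (.node 1 .leaf .leaf)) (.node 1 (.node 0 .leaf (.node 2 .leaf .leaf)) .leaf))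 .leaf)) (.node 1 (.node 0 (.node 0 (.node 1 .leaf .leaf) (.node 1 (.node 1 (.node 2 .leaf .leaf) (.node 2 .leaf .leaf)) (.node 2 (.node 2 .leaf .leaf) .leaf))) (.node 1 (.node 0 (.node 0 .leaf (.node 1 (.node 1 .leaf (.node 2 .leaf .leaf)) .leaf)) (.node 1 (.node 0 (.node 2 .leaf .leaf) (.node 1 (.node 1 .leaf (.node 2 .leaf .leaf)) .leaf)) (.node 2 (.node 0 (.node 1 .leaf .leaf) (.node 2 (.node 0 .leaf (.node 1 .leaf .leaf)) .leaf)) .leaf))) (.node 2 (.node 0 (.node 1 (.node 1 .leaf .leaf) (.node 2 (.node 0 .leaf (.node 1 .leaf (.node 2 .leaf .leaf))) .leaf)) (.node 1 (.node 0 (.node 2 .leaf .leaf) .leaf) (.node 2 (.node 0 (.node 1 .leaf .leaf) .leaf) .leaf))) .leaf))) (.node 2 (.node 0 (.node 0 (.node 1 (.node 2 .leaf .leaf) .leaf) (.node 1 (.node 0 (.node 2 .leaf .leaf) (.node 2 (.node 1 .leaf .leaf) .leaf)) (.node 2 (.node 0 (.node 2 .leaf .leaf) (.node 1 .leaf (.node 2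 (.node 0 .leaf .leaf) .leaf))) .leaf))) (.node 1 (.node 0 (.node 1 (.node 1 .leaf .leaf) (.node 2 (.node 0 .leaf (.node 1 .leaf .leaf)) .leaf)) (.node 1 (.node 0 (.node 0 .leaf .leaf) (.node 1 (.node 0 .leaf .leaf) (.node 2 .leaf .leaf))) (.node 2 (.node 1 .leaf .leaf) .leaf))) .leaf)) .leaf))) .leaf))) .leaf))) (.node 1 (.node 0 (.node 0 (.node 0 (.node 0 (.node 0 (.node 0 .leaf (.node 1 (.node 1 .leaf .leaf) (.node 2 .leaf .leaf))) (.node 1 (.node 0 (.node 1 .leaf .leaf) (.node 1 .leaf (.node 2 (.node 2 (.node 1 .leaf .leaf) .leaf) .leaf))) (.node 2 .leaf .leaf))) (.node 1 (.node 1 (.node 0 (.node 2 .leaf .leaf) (.node 2 (.node 0 .leaf (.node 1 .leaf .leaf)) .leaf)) .leaf) (.node 2 (.node 1 (.node 0 (.node 1 .leaf (.node 2 (.node 0 .leaf .leaf) .leaf)) (.node 2 (.node 0 .leaf (.node 1 .leaf .leaf)) .leaf)) (.node 2 (.node 1 (.node 0 .leaf .leaf) .leaf) .leaf)) .leaf))) (.node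 1 (.node 0 (.node 0 (.node 0 (.node 2 .leaf .leaf) (.node 1 (.node 0 .leaf .leaf) (.node 2 .leaf .leaf))) (.node 2 (.node 1 (.node 1 .leaf .leaf) (.node 2 (.node 0 .leaf (.node 1 .leaf .leaf)) .leaf)) .leaf)) (.node 1 (.node 0 .leaf (.node 1 (.node 1 (.node 2 .leaf .leaf) (.node 2 (.node 2 .leaf .leaf) .leaf)) (.node 2 (.node 0 (.node 2 (.node 2 .leaf .leaf) .leaf) (.node 1 .leaf (.node 2 (.node 2 .leaf .leaf) .leaf))) .leaf))) (.node 2 (.node 0 (.node 0 (.node 2 .leaf .leaf) (.node 1 (.node 0 .leaf (.node 1 .leaf (.node 2 .leaf .leaf))) .leaf)) (.node 1 (.node 0 (.node 1 .leaf (.node 2 .leaf .leaf)) (.node 1 .leaf (.node 2 (.node 0 .leaf .leaf) .leaf))) (.node 2 (.node 0 (.node 2 .leaf .leaf) .leaf) .leaf))) .leaf))) (.node 2 (.node 0 (.node 0 (.node 0 (.node 0 .leaf (.node 1 .leaf .leaf)) (.node 1 .leaf .leaf)) (.node 1 (.node 0 .leaf (.node 1 (.node 1 .leaf .leaf) (.node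 2 (.node 0 .leaf (.node 2 .leaf .leaf)) .leaf))) (.node 2 (.node 0 .leaf (.node 2 (.node 1 .leaf .leaf) .leaf)) .leaf))) (.node 1 (.node 0 (.node 0 (.node 0 .leaf (.node 2 .leaf .leaf)) (.node 1 (.node 1 .leaf (.node 2 (.node 2 .leaf .leaf) .leaf)) (.node 2 (.node 1 .leaf .leaf) .leaf))) (.node 1 (.node 0 (.node 0 .leaf .leaf) (.node 1 .leaf (.node 2 (.node 0 .leaf .leaf) .leaf))) (.node 2 (.node 1 (.node 1 .leaf .leaf) (.node 2 .leaf .leaf)) .leaf))) (.node 2 (.node 0 (.node 0 .leaf (.node 1 (.node 2 .leaf .leaf) (.node 2 (.node 1 .leaf .leaf) .leaf))) (.node 1 (.node 0 (.node 0 .leaf (.node 1 .leaf (.node 2 .leaf .leaf))) (.node 2 .leaf .leaf)) (.node 2 (.node 1 (.node 0 .leaf .leaf) .leaf) .leaf))) .leaf))) .leaf))) (.node 1 (.node 0 (.node 0 (.node 0 .leaf (.node 1 (.node 0 (.node 1 .leaf .leaf) (.node 2 (.node 2 .leaf .leaf) .leaf)) (.node 2 (.node 1 .leaf (.node 2 (.node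 1 .leaf .leaf) .leaf)) .leaf))) (.node 1 (.node 0 (.node 0 (.node 0 (.node 0 .leaf .leaf) (.node 1 .leaf .leaf)) (.node 1 (.node 1 .leaf .leaf) (.node 2 (.node 1 .leaf .leaf) .leaf))) (.node 1 (.node 0 .leaf (.node 1 (.node 1 .leaf (.node 2 (.node 2 .leaf .leaf) .leaf)) (.node 2 .leaf .leaf))) (.node 2 (.node 0 (.node 1 .leaf .leaf) (.node 1 (.node 0 .leaf (.node 2 .leaf .leaf)) (.node 2 .leaf .leaf))) .leaf))) (.node 2 (.node 0 (.node 2 .leaf .leaf) (.node 1 (.node 2 .leaf .leaf) (.node 2 (.node 1 (.node 1 .leaf (.node 2 .leaf .leaf)) .leaf) .leaf))) .leaf))) (.node 1 (.node 0 (.node 0 (.node 2 .leaf .leaf) (.node 1 (.node 0 (.node 1 .leaf .leaf) .leaf) (.node 2 (.node 0 (.node 1 .leaf .leaf) (.node 1 .leaf .leaf)) .leaf))) (.node 1 (.node 0 (.node 0 (.node 2 .leaf .leaf) (.node 1 (.node 0 .leaf (.node 1 .leaf .leaf)) (.node 2 .leaf .leaf))) (.node 1 (.node 1 .leaf (.node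 2 .leaf .leaf)) (.node 2 .leaf .leaf))) (.node 2 (.node 1 (.node 1 (.node 0 .leaf .leaf) .leaf) (.node 2 (.node 0 (.node 0 .leaf .leaf) (.node 1 .leaf .leaf)) .leaf)) .leaf))) (.node 2 (.node 0 (.node 0 .leaf (.node 1 (.node 0 .leaf (.node 1 (.node 0 .leaf .leaf) (.node 2 (.node 2 .leaf .leaf) .leaf))) (.node 2 (.node 0 (.node 2 .leaf .leaf) (.node 1 (.node 0 .leaf (.node 2 .leaf .leaf)) .leaf)) .leaf))) (.node 1 (.node 0 (.node 1 .leaf (.node 2 .leaf .leaf)) (.node 1 (.node 1 .leaf (.node 2 (.node 0 .leaf .leaf) .leaf)) (.node 2 (.node 0 (.node 2 .leaf .leaf) (.node 1 (.node 2 .leaf .leaf) (.node 2 .leaf .leaf))) .leaf))) (.node 2 (.node 0 (.node 0 .leaf (.node 1 (.node 1 (.node 2 .leaf .leaf) .leaf) (.node 2 (.node 1 .leaf .leaf) .leaf))) (.node 1 (.node 0 (.node 0 (.node 0 .leaf .leaf) .leaf) .leaf) (.node 2 (.node 0 .leaf (.node 1 .leaf .leaf)) .leaf))) .leaf))) .leaf)))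 (.node 2 (.node 0 (.node 0 (.node 1 .leaf (.node 2 (.node 1 (.node 1 .leaf (.node 2 .leaf .leaf)) (.node 2 .leaf .leaf)) .leaf)) (.node 2 (.node 2 (.node 1 (.node 0 .leaf .leaf) (.node 2 .leaf .leaf)) .leaf) .leaf)) (.node 1 (.node 0 (.node 2 (.node 2 (.node 0 .leaf .leaf) .leaf) .leaf) (.node 1 (.node 0 (.node 0 (.node 0 .leaf (.node 1 .leaf .leaf)) (.node 1 (.node 0 .leaf (.node 1 .leaf .leaf)) .leaf)) (.node 1 (.node 0 (.node 2 .leaf .leaf) (.node 1 .leaf (.node 2 .leaf .leaf))) .leaf)) (.node 2 (.node 0 (.node 1 .leaf (.node 2 (.node 0 .leaf .leaf) .leaf)) (.node 1 (.node 1 .leaf (.node 2 (.node 0 .leaf .leaf) .leaf)) .leaf)) .leaf))) (.node 2 (.node 0 (.node 0 (.node 0 .leaf .leaf) (.node 2 (.node 0 .leaf (.node 2 (.node 2 .leaf .leaf) .leaf)) .leaf)) (.node 1 (.node 0 .leaf (.node 1 (.node 0 (.node 0 .leaf (.node 1 .leaf .leaf)) (.node 1 (.node 1 (.node 2 .leaf .leaf)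 (.node 2 .leaf .leaf)) (.node 2 (.node 2 .leaf .leaf) .leaf))) (.node 2 (.node 1 (.node 2 .leaf .leaf) (.node 2 (.node 0 .leaf .leaf) .leaf)) .leaf))) (.node 2 (.node 0 (.node 0 .leaf .leaf) (.node 1 (.node 0 .leaf (.node 2 .leaf .leaf)) (.node 2 (.node 0 (.node 1 .leaf (.node 2 .leaf .leaf)) .leaf) .leaf))) .leaf))) .leaf))) .leaf))) (.node 1 (.node 0 (.node 0 (.node 0 (.node 0 (.node 0 (.node 0 .leaf (.node 2 .leaf .leaf)) (.node 1 (.node 0 .leaf .leaf) .leaf)) (.node 1 (.node 0 .leaf (.node 1 (.node 1 .leaf .leaf) (.node 2 .leaf .leaf))) (.node 2 (.node 0 (.node 0 .leaf (.node 2 .leaf .leaf)) (.node 1 (.node 0 .leaf .leaf) (.node 2 .leaf .leaf))) .leaf))) (.node 1 (.node 0 (.node 0 (.node 2 .leaf .leaf) (.node 1 .leaf .leaf)) (.node 1 (.node 1 (.node 0 .leaf (.node 2 .leaf .leaf)) (.node 2 .leaf .leaf)) .leaf)) (.node 2 (.node 0 (.node 0 (.node 2 .leaf .leaf) (.node 1 .leaf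 .leaf)) (.node 1 (.node 1 (.node 1 .leaf (.node 2 .leaf .leaf)) (.node 2 (.node 0 .leaf .leaf) .leaf)) (.node 2 (.node 0 .leaf .leaf) .leaf))) .leaf))) (.node 1 (.node 0 (.node 0 (.node 2 (.node 2 .leaf .leaf) .leaf) (.node 1 (.node 0 (.node 0 .leaf .leaf) (.node 1 .leaf (.node 2 (.node 1 .leaf .leaf) .leaf))) .leaf)) (.node 1 (.node 0 (.node 0 .leaf (.node 1 .leaf (.node 2 (.node 1 .leaf .leaf) .leaf))) (.node 1 .leaf .leaf)) .leaf)) (.node 2 (.node 0 (.node 0 (.node 0 .leaf (.node 1 .leaf (.node 2 (.node 2 .leaf .leaf) .leaf))) (.node 1 (.node 1 (.node 0 .leaf (.node 2 .leaf .leaf)) .leaf) (.node 2 (.node 1 (.node 1 .leaf .leaf) .leaf) .leaf))) (.node 1 (.node 1 (.node 0 .leaf (.node 1 (.node 1 .leaf .leaf) .leaf)) (.node 2 (.node 0 .leaf (.node 1 .leaf .leaf)) .leaf)) (.node 2 (.node 0 (.node 0 .leaf (.node 2 .leaf .leaf)) (.node 2 (.node 0 (.node 2 .leaf .leaf) (.node 1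 (.node 1 .leaf (.node 2 .leaf .leaf)) .leaf)) .leaf)) .leaf))) .leaf))) (.node 1 (.node 0 (.node 0 (.node 0 (.node 1 .leaf (.node 2 (.node 1 .leaf (.node 2 .leaf .leaf)) .leaf)) (.node 1 (.node 0 .leaf (.node 1 (.node 0 .leaf .leaf) .leaf)) (.node 2 (.node 0 .leaf (.node 1 .leaf .leaf)) .leaf))) (.node 1 (.node 0 (.node 1 (.node 0 .leaf (.node 2 .leaf .leaf)) .leaf) (.node 1 (.node 0 (.node 1 .leaf (.node 2 .leaf .leaf)) (.node 1 (.node 2 .leaf .leaf) .leaf)) (.node 2 (.node 0 .leaf (.node 2 (.node 0 .leaf .leaf) .leaf)) .leaf))) (.node 2 (.node 1 (.node 0 (.node 1 .leaf .leaf) .leaf) (.node 2 (.node 1 .leaf .leaf) .leaf)) .leaf))) (.node 1 (.node 0 (.node 0 (.node 1 .leaf (.node 2 (.node 2 .leaf .leaf) .leaf)) (.node 1 (.node 0 .leaf (.node 1 .leaf (.node 2 (.node 0 .leaf (.node 1 .leaf .leaf)) .leaf))) (.node 2 (.node 0 (.node 0 .leaf .leaf) .leaf) .leaf))) (.node 1 (.node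 0 (.node 2 .leaf .leaf) (.node 1 (.node 1 (.node 0 .leaf .leaf) (.node 2 (.node 0 .leaf .leaf) .leaf)) .leaf)) (.node 2 (.node 0 .leaf (.node 1 (.node 0 .leaf (.node 1 (.node 1 .leaf .leaf) (.node 2 (.node 0 .leaf .leaf) .leaf))) (.node 2 (.node 0 (.node 1 .leaf .leaf) (.node 1 .leaf .leaf)) .leaf))) .leaf))) (.node 2 (.node 2 (.node 0 (.node 0 .leaf (.node 1 .leaf .leaf)) (.node 1 (.node 0 .leaf (.node 1 (.node 0 .leaf .leaf) (.node 2 (.node 0 .leaf .leaf) .leaf))) (.node 2 (.node 1 (.node 2 .leaf .leaf) (.node 2 (.node 0 .leaf .leaf) .leaf)) .leaf))) .leaf) .leaf))) (.node 2 (.node 0 (.node 0 (.node 0 (.node 0 .leaf (.node 2 .leaf .leaf)) (.node 2 (.node 0 .leaf (.node 2 .leaf .leaf)) .leaf)) (.node 1 (.node 0 .leaf (.node 1 (.node 0 .leaf (.node 1 .leaf .leaf)) (.node 2 (.node 2 (.node 0 .leaf .leaf) .leaf) .leaf))) (.node 2 (.node 1 (.node 0 .leaf .leaf) (.node 2 (.node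 0 (.node 0 .leaf (.node 2 .leaf .leaf)) (.node 1 .leaf .leaf)) .leaf)) .leaf))) (.node 1 (.node 0 (.node 0 (.node 2 (.node 0 .leaf (.node 2 .leaf .leaf)) .leaf) (.node 1 (.node 0 (.node 0 .leaf (.node 2 .leaf .leaf)) (.node 1 (.node 1 .leaf .leaf) (.node 2 (.node 2 .leaf .leaf) .leaf))) .leaf)) (.node 1 (.node 1 (.node 0 .leaf (.node 1 (.node 0 .leaf .leaf) (.node 2 (.node 0 .leaf (.node 1 .leaf .leaf)) .leaf))) (.node 2 (.node 0 .leaf (.node 1 (.node 0 .leaf (.node 1 .leaf (.node 2 .leaf .leaf))) .leaf)) .leaf)) (.node 2 (.node 0 (.node 0 .leaf (.node 1 (.node 0 .leaf .leaf) (.node 2 (.node 0 .leaf .leaf) .leaf))) (.node 2 (.node 1 .leaf (.node 2 (.node 2 .leaf .leaf) .leaf)) .leaf)) .leaf))) (.node 2 (.node 0 (.node 0 (.node 1 .leaf (.node 2 (.node 0 .leaf .leaf) .leaf)) (.node 1 (.node 0 (.node 1 .leaf .leaf) (.node 1 .leaf (.node 2 .leaf .leaf))) .leaf)) (.node 1 (.node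 0 (.node 0 .leaf .leaf) (.node 1 (.node 0 .leaf (.node 1 (.node 1 .leaf .leaf) .leaf)) (.node 2 (.node 1 .leaf (.node 2 (.node 1 .leaf .leaf) .leaf)) .leaf))) (.node 2 (.node 0 (.node 0 .leaf (.node 1 (.node 2 .leaf .leaf) .leaf)) (.node 2 (.node 1 (.node 0 .leaf (.node 2 .leaf .leaf)) .leaf) .leaf)) .leaf))) .leaf))) .leaf))) (.node 2 (.node 0 (.node 0 (.node 0 (.node 0 .leaf (.node 1 (.node 1 (.node 1 .leaf .leaf) (.node 2 .leaf .leaf)) (.node 2 (.node 0 .leaf (.node 2 (.node 1 .leaf .leaf) .leaf)) .leaf))) (.node 1 (.node 0 (.node 0 .leaf (.node 1 .leaf (.node 2 (.node 0 .leaf .leaf) .leaf))) (.node 1 (.node 0 (.node 1 .leaf .leaf) (.node 1 .leaf .leaf)) .leaf)) (.node 2 (.node 0 (.node 1 (.node 2 .leaf .leaf) (.node 2 (.node 1 .leaf (.node 2 .leaf .leaf)) .leaf)) (.node 1 (.node 1 .leaf (.node 2 .leaf .leaf)) (.node 2 (.node 0 .leaf (.node 1 (.node 0 .leaf (.node 1 .leaf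 (.node 2 .leaf .leaf))) .leaf)) .leaf))) .leaf))) (.node 1 (.node 0 (.node 0 (.node 1 (.node 0 .leaf .leaf) (.node 2 (.node 0 .leaf (.node 1 .leaf .leaf)) .leaf)) (.node 1 (.node 0 .leaf (.node 1 (.node 0 .leaf .leaf) .leaf)) (.node 2 (.node 0 (.node 0 .leaf .leaf) (.node 1 .leaf (.node 2 .leaf .leaf))) .leaf))) (.node 1 (.node 1 (.node 0 (.node 0 .leaf .leaf) (.node 1 .leaf (.node 2 .leaf .leaf))) (.node 2 (.node 1 (.node 0 .leaf .leaf) .leaf) .leaf)) (.node 2 (.node 0 (.node 2 (.node 0 .leaf .leaf) .leaf) (.node 1 (.node 0 (.node 2 .leaf .leaf) (.node 2 .leaf .leaf)) (.node 2 .leaf .leaf))) .leaf))) (.node 2 (.node 0 (.node 1 (.node 0 .leaf (.node 1 .leaf .leaf)) (.node 2 (.node 1 .leaf (.node 2 (.node 0 .leaf (.node 1 .leaf .leaf)) .leaf)) .leaf)) (.node 2 (.node 0 (.node 1 .leaf (.node 2 (.node 1 .leaf .leaf) .leaf)) (.node 1 .leaf .leaf)) .leaf)) .leaf))) (.node 1 (.node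 0 (.node 0 (.node 0 (.node 0 (.node 2 .leaf .leaf) (.node 1 .leaf (.node 2 .leaf .leaf))) (.node 2 (.node 0 .leaf (.node 1 .leaf .leaf)) .leaf)) (.node 1 (.node 0 (.node 1 .leaf (.node 2 (.node 0 .leaf .leaf) .leaf)) (.node 1 (.node 1 (.node 1 .leaf .leaf) .leaf) (.node 2 (.node 0 .leaf (.node 2 .leaf .leaf)) .leaf))) (.node 2 (.node 0 (.node 0 .leaf (.node 2 (.node 0 .leaf .leaf) .leaf)) (.node 1 (.node 0 .leaf (.node 1 (.node 1 .leaf .leaf) .leaf)) (.node 2 (.node 0 .leaf .leaf) .leaf))) .leaf))) (.node 1 (.node 0 (.node 1 (.node 0 .leaf .leaf) (.node 2 (.node 0 .leaf (.node 1 (.node 1 .leaf .leaf) .leaf)) .leaf)) (.node 1 (.node 0 (.node 0 (.node 0 .leaf (.node 1 .leaf .leaf)) (.node 1 (.node 1 .leaf .leaf) (.node 2 (.node 0 .leaf .leaf) .leaf))) (.node 1 (.node 0 .leaf (.node 2 .leaf .leaf)) (.node 2 (.node 0 (.node 0 .leaf .leaf) (.node 1 (.node 1 .leaf .leaf) .leaf))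 .leaf))) (.node 2 (.node 0 (.node 1 .leaf .leaf) (.node 1 (.node 1 (.node 0 .leaf .leaf) (.node 2 .leaf .leaf)) (.node 2 (.node 0 .leaf (.node 1 .leaf .leaf)) .leaf))) .leaf))) (.node 2 (.node 0 (.node 0 (.node 0 (.node 0 .leaf .leaf) (.node 2 .leaf .leaf)) (.node 1 (.node 1 .leaf .leaf) (.node 2 (.node 1 (.node 2 (.node 0 .leaf .leaf) .leaf) (.node 2 (.node 0 (.node 0 .leaf .leaf) .leaf) .leaf)) .leaf))) (.node 2 (.node 1 .leaf (.node 2 (.node 0 .leaf (.node 2 (.node 2 .leaf .leaf) .leaf)) .leaf)) .leaf)) .leaf))) (.node 2 (.node 0 (.node 0 (.node 0 (.node 0 .leaf (.node 1 (.node 0 .leaf (.node 1 .leaf .leaf)) (.node 2 (.node 1 .leaf .leaf) .leaf))) (.node 2 (.node 0 .leaf (.node 1 .leaf .leaf)) .leaf)) (.node 2 (.node 0 .leaf (.node 2 (.node 1 (.node 2 .leaf .leaf) (.node 2 .leaf .leaf)) .leaf)) .leaf)) (.node 1 (.node 0 (.node 0 (.node 2 .leaf .leaf) (.node 1 .leaf (.node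 2 (.node 1 (.node 2 .leaf .leaf) (.node 2 .leaf .leaf)) .leaf))) (.node 1 (.node 0 (.node 0 .leaf (.node 1 .leaf .leaf)) (.node 2 (.node 1 (.node 2 .leaf .leaf) .leaf) .leaf)) (.node 2 (.node 0 (.node 0 .leaf (.node 1 (.node 2 .leaf .leaf) (.node 2 .leaf .leaf))) (.node 1 (.node 2 (.node 0 .leaf .leaf) .leaf) (.node 2 (.node 1 .leaf (.node 2 .leaf .leaf)) .leaf))) .leaf))) .leaf)) .leaf))) .leaf))) (.node 2 (.node 0 (.node 0 (.node 0 (.node 0 (.node 0 (.node 0 (.node 0 .leaf .leaf) (.node 1 .leaf .leaf)) (.node 1 (.node 0 .leaf (.node 1 (.node 1 .leaf .leaf) (.node 2 (.node 1 .leaf .leaf) .leaf))) (.node 2 (.node 0 .leaf (.node 2 .leaf .leaf)) .leaf))) (.node 1 (.node 0 (.node 0 (.node 1 .leaf .leaf) (.node 1 .leaf (.node 2 (.node 1 .leaf .leaf) .leaf))) (.node 1 (.node 0 .leaf (.node 1 (.node 0 .leaf .leaf) (.node 2 (.node 0 .leaf .leaf) .leaf))) (.node 2 (.node 1 .leaf .leaf)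 .leaf))) (.node 2 (.node 0 .leaf (.node 1 (.node 1 .leaf .leaf) (.node 2 (.node 0 (.node 0 (.node 1 .leaf .leaf) .leaf) (.node 1 .leaf (.node 2 (.node 1 .leaf .leaf) .leaf))) .leaf))) .leaf))) (.node 1 (.node 0 (.node 0 (.node 1 (.node 0 .leaf .leaf) (.node 2 .leaf .leaf)) (.node 1 (.node 2 (.node 2 .leaf .leaf) .leaf) (.node 2 (.node 0 .leaf .leaf) .leaf))) (.node 1 (.node 0 (.node 2 .leaf .leaf) (.node 1 (.node 0 (.node 2 .leaf .leaf) (.node 1 (.node 2 .leaf .leaf) .leaf)) (.node 2 (.node 1 (.node 0 .leaf (.node 1 .leaf (.node 2 .leaf .leaf))) .leaf) .leaf))) (.node 2 (.node 0 (.node 0 .leaf (.node 1 .leaf .leaf)) (.node 1 (.node 0 .leaf .leaf) (.node 2 (.node 0 .leaf (.node 1 (.node 0 .leaf (.node 1 .leaf (.node 2 .leaf .leaf))) .leaf)) .leaf))) .leaf))) (.node 2 (.node 0 (.node 0 .leaf (.node 1 (.node 0 .leaf (.node 2 (.node 2 .leaf .leaf) .leaf)) (.node 2 (.node 0 (.node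 2 .leaf .leaf) .leaf) .leaf))) (.node 1 (.node 0 (.node 0 .leaf (.node 1 .leaf .leaf)) (.node 1 .leaf (.node 2 (.node 0 (.node 1 .leaf .leaf) (.node 1 (.node 1 .leaf .leaf) (.node 2 (.node 1 .leaf (.node 2 .leaf .leaf)) .leaf))) .leaf))) (.node 2 (.node 0 (.node 0 (.node 0 .leaf .leaf) (.node 2 (.node 0 .leaf (.node 2 .leaf .leaf)) .leaf)) (.node 1 .leaf (.node 2 (.node 0 .leaf .leaf) .leaf))) .leaf))) .leaf))) (.node 1 (.node 0 (.node 0 (.node 0 (.node 2 (.node 0 .leaf .leaf) .leaf) (.node 1 (.node 1 (.node 0 .leaf .leaf) .leaf) (.node 2 (.node 1 (.node 2 .leaf .leaf) .leaf) .leaf))) (.node 1 (.node 0 (.node 0 .leaf (.node 1 .leaf .leaf)) (.node 1 (.node 1 (.node 0 .leaf .leaf) (.node 2 .leaf .leaf)) .leaf)) (.node 2 (.node 0 .leaf (.node 1 (.node 0 .leaf (.node 2 .leaf .leaf)) (.node 2 (.node 0 (.node 2 .leaf .leaf) (.node 2 .leaf .leaf)) .leaf))) .leaf))) (.node 1 (.node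 0 (.node 0 (.node 0 .leaf (.node 2 (.node 1 .leaf (.node 2 (.node 2 .leaf .leaf) .leaf)) .leaf)) (.node 1 (.node 1 .leaf .leaf) (.node 2 (.node 0 .leaf (.node 1 .leaf .leaf)) .leaf))) (.node 1 (.node 0 (.node 0 .leaf (.node 1 .leaf .leaf)) (.node 1 (.node 0 (.node 1 .leaf .leaf) (.node 2 .leaf .leaf)) (.node 2 (.node 0 (.node 2 .leaf .leaf) (.node 1 .leaf .leaf)) .leaf))) .leaf)) (.node 2 (.node 0 (.node 0 (.node 0 (.node 1 .leaf .leaf) (.node 2 (.node 0 .leaf .leaf) .leaf)) (.node 1 .leaf (.node 2 (.node 0 (.node 0 .leaf .leaf) (.node 1 .leaf .leaf)) .leaf))) (.node 1 (.node 0 (.node 0 (.node 2 .leaf .leaf) .leaf) .leaf) .leaf)) .leaf))) (.node 2 (.node 0 (.node 0 (.node 0 (.node 0 .leaf (.node 1 .leaf .leaf)) (.node 1 (.node 2 (.node 1 .leaf .leaf) .leaf) (.node 2 (.node 0 (.node 0 .leaf .leaf) .leaf) .leaf))) (.node 2 (.node 0 (.node 0 .leaf (.node 1 .leaf .leaf)) (.node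 1 (.node 0 (.node 0 .leaf .leaf) .leaf) (.node 2 (.node 0 .leaf (.node 1 (.node 0 .leaf .leaf) (.node 2 (.node 0 .leaf .leaf) .leaf))) .leaf))) .leaf)) (.node 1 (.node 0 (.node 0 (.node 1 (.node 1 .leaf .leaf) .leaf) .leaf) (.node 1 (.node 0 (.node 1 .leaf (.node 2 .leaf .leaf)) (.node 1 (.node 1 .leaf (.node 2 (.node 2 .leaf .leaf) .leaf)) .leaf)) (.node 2 .leaf .leaf))) (.node 2 (.node 0 (.node 0 (.node 0 .leaf (.node 1 (.node 0 .leaf .leaf) .leaf)) (.node 1 .leaf .leaf)) (.node 1 (.node 0 (.node 1 (.node 2 .leaf .leaf) .leaf) (.node 1 (.node 0 .leaf .leaf) (.node 2 (.node 0 (.node 0 .leaf (.node 1 .leaf .leaf)) .leaf) .leaf))) .leaf)) .leaf))) .leaf))) (.node 1 (.node 0 (.node 0 (.node 0 (.node 0 (.node 0 (.node 2 .leaf .leaf) .leaf) (.node 1 (.node 0 .leaf .leaf) (.node 2 (.node 0 .leaf (.node 1 (.node 1 .leaf .leaf) .leaf)) .leaf))) (.node 1 (.node 0 (.node 0 (.node 0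 .leaf .leaf) (.node 2 (.node 0 .leaf .leaf) .leaf)) (.node 1 (.node 0 (.node 2 .leaf .leaf) .leaf) (.node 2 (.node 2 .leaf .leaf) .leaf))) (.node 2 (.node 0 (.node 0 .leaf .leaf) (.node 1 (.node 0 (.node 1 .leaf (.node 2 (.node 1 .leaf .leaf) .leaf)) (.node 2 .leaf .leaf)) .leaf)) .leaf))) (.node 1 (.node 1 (.node 0 (.node 0 .leaf (.node 1 .leaf (.node 2 .leaf .leaf))) (.node 1 (.node 1 (.node 0 .leaf .leaf) (.node 2 (.node 2 .leaf .leaf) .leaf)) (.node 2 (.node 2 .leaf .leaf) .leaf))) (.node 2 (.node 0 (.node 2 .leaf .leaf) .leaf) .leaf)) (.node 2 (.node 0 (.node 0 (.node 0 (.node 0 .leaf .leaf) (.node 1 .leaf .leaf)) (.node 1 (.node 0 .leaf (.node 1 (.node 2 .leaf .leaf) .leaf)) (.node 2 (.node 0 (.node 2 .leaf .leaf) (.node 1 .leaf .leaf)) .leaf))) (.node 1 (.node 0 (.node 1 .leaf (.node 2 (.node 1 .leaf .leaf) .leaf)) (.node 1 (.node 0 (.node 0 .leaf .leaf) (.node 2 (.node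 0 .leaf .leaf) .leaf)) (.node 2 (.node 0 .leaf .leaf) .leaf))) (.node 2 (.node 0 (.node 1 .leaf (.node 2 .leaf .leaf)) (.node 1 (.node 2 (.node 0 .leaf .leaf) .leaf) (.node 2 (.node 0 (.node 0 .leaf .leaf) (.node 2 (.node 1 .leaf .leaf) .leaf)) .leaf))) .leaf))) .leaf))) (.node 1 (.node 0 (.node 0 (.node 0 (.node 0 (.node 1 .leaf .leaf) (.node 2 .leaf .leaf)) (.node 1 (.node 0 (.node 2 .leaf .leaf) (.node 1 .leaf .leaf)) (.node 2 (.node 0 .leaf .leaf) .leaf))) (.node 1 (.node 0 (.node 2 (.node 1 .leaf .leaf) .leaf) (.node 1 (.node 2 .leaf .leaf) (.node 2 (.node 0 .leaf (.node 1 (.node 2 .leaf .leaf) (.node 2 .leaf .leaf))) .leaf))) (.node 2 (.node 0 (.node 0 .leaf (.node 2 .leaf .leaf)) (.node 1 (.node 0 .leaf .leaf) .leaf)) .leaf))) (.node 1 (.node 0 (.node 0 (.node 0 (.node 0 .leaf .leaf) (.node 1 .leaf (.node 2 (.node 2 .leaf .leaf) .leaf))) (.node 1 (.node 0 .leaf (.node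 1 .leaf (.node 2 .leaf .leaf))) (.node 2 (.node 0 .leaf .leaf) .leaf))) (.node 1 (.node 1 (.node 1 .leaf (.node 2 .leaf .leaf)) (.node 2 .leaf .leaf)) (.node 2 (.node 0 (.node 0 .leaf (.node 1 (.node 1 .leaf .leaf) .leaf)) (.node 2 (.node 2 (.node 0 .leaf .leaf) .leaf) .leaf)) .leaf))) (.node 2 (.node 0 (.node 0 (.node 0 .leaf (.node 2 .leaf .leaf)) (.node 1 (.node 1 (.node 1 .leaf .leaf) .leaf) (.node 2 (.node 0 .leaf .leaf) .leaf))) (.node 1 (.node 0 (.node 0 .leaf (.node 1 (.node 0 .leaf .leaf) (.node 2 .leaf .leaf))) (.node 1 (.node 1 .leaf .leaf) (.node 2 .leaf .leaf))) (.node 2 (.node 0 (.node 1 (.node 0 .leaf (.node 2 .leaf .leaf)) (.node 2 .leaf .leaf)) (.node 1 (.node 2 .leaf .leaf) (.node 2 (.node 2 (.node 0 .leaf .leaf) .leaf) .leaf))) .leaf))) .leaf))) (.node 2 (.node 0 (.node 0 (.node 0 (.node 0 .leaf (.node 2 (.node 0 .leaf .leaf) .leaf)) (.node 1 (.node 0 (.node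 2 .leaf .leaf) .leaf) .leaf)) (.node 1 (.node 1 (.node 2 .leaf .leaf) .leaf) (.node 2 (.node 0 (.node 0 (.node 0 .leaf .leaf) (.node 2 .leaf .leaf)) (.node 1 .leaf (.node 2 (.node 0 (.node 0 .leaf .leaf) (.node 2 (.node 2 .leaf .leaf) .leaf)) .leaf))) .leaf))) (.node 1 (.node 0 (.node 1 (.node 0 (.node 2 .leaf .leaf) (.node 2 .leaf .leaf)) .leaf) (.node 1 (.node 0 .leaf (.node 1 (.node 1 .leaf .leaf) .leaf)) (.node 2 (.node 0 (.node 1 .leaf .leaf) (.node 1 (.node 0 .leaf (.node 1 (.node 0 .leaf .leaf) (.node 2 .leaf .leaf))) (.node 2 (.node 2 .leaf .leaf) .leaf))) .leaf))) (.node 2 (.node 0 (.node 1 (.node 0 .leaf (.node 1 .leaf (.node 2 (.node 1 .leaf .leaf) .leaf))) (.node 2 (.node 2 .leaf .leaf) .leaf)) (.node 1 (.node 0 (.node 1 .leaf (.node 2 .leaf .leaf)) (.node 2 (.node 0 .leaf .leaf) .leaf)) (.node 2 (.node 0 (.node 0 .leaf (.node 1 .leaf .leaf)) (.node 1 (.node 0 .leaf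 (.node 1 .leaf (.node 2 .leaf .leaf))) (.node 2 (.node 1 (.node 2 .leaf .leaf) .leaf) .leaf))) .leaf))) .leaf))) .leaf))) (.node 2 (.node 0 (.node 0 (.node 0 (.node 0 (.node 1 .leaf (.node 2 .leaf .leaf)) .leaf) (.node 1 (.node 0 (.node 0 .leaf .leaf) (.node 1 (.node 2 (.node 1 .leaf .leaf) .leaf) .leaf)) (.node 2 (.node 0 (.node 1 .leaf .leaf) (.node 1 (.node 0 (.node 2 .leaf .leaf) (.node 1 .leaf (.node 2 .leaf .leaf))) (.node 2 (.node 0 .leaf (.node 1 .leaf (.node 2 .leaf .leaf))) .leaf))) .leaf))) (.node 1 (.node 1 (.node 1 (.node 1 (.node 0 .leaf .leaf) .leaf) (.node 2 .leaf .leaf)) (.node 2 (.node 0 (.node 0 (.node 0 .leaf .leaf) .leaf) (.node 1 (.node 0 .leaf (.node 2 .leaf .leaf)) (.node 2 (.node 1 .leaf .leaf) .leaf))) .leaf)) (.node 2 (.node 0 (.node 0 (.node 1 .leaf .leaf) (.node 1 (.node 1 .leaf .leaf) .leaf)) (.node 1 (.node 0 .leaf (.node 1 (.node 0 .leaf (.node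 2 .leaf .leaf)) (.node 2 (.node 0 (.node 2 .leaf .leaf) (.node 2 .leaf .leaf)) .leaf))) (.node 2 (.node 0 .leaf (.node 2 (.node 0 .leaf .leaf) .leaf)) .leaf))) .leaf))) (.node 1 (.node 0 (.node 0 (.node 0 .leaf (.node 1 (.node 0 (.node 2 .leaf .leaf) .leaf) (.node 2 (.node 2 .leaf .leaf) .leaf))) (.node 1 (.node 0 (.node 0 (.node 2 .leaf .leaf) (.node 1 .leaf (.node 2 .leaf .leaf))) (.node 1 (.node 0 .leaf (.node 2 (.node 0 .leaf .leaf) .leaf)) (.node 2 (.node 0 .leaf .leaf) .leaf))) (.node 2 (.node 0 .leaf (.node 1 (.node 2 (.node 1 .leaf .leaf) .leaf) (.node 2 (.node 0 .leaf (.node 1 .leaf (.node 2 .leaf .leaf))) .leaf))) .leaf))) (.node 1 (.node 0 (.node 0 (.node 0 .leaf .leaf) (.node 1 (.node 1 .leaf (.node 2 .leaf .leaf)) .leaf)) (.node 1 (.node 0 (.node 0 (.node 0 .leaf (.node 2 .leaf .leaf)) .leaf) (.node 1 .leaf (.node 2 (.node 0 .leaf (.node 2 .leaf .leaf)) .leaf)))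 (.node 2 (.node 0 (.node 0 (.node 1 .leaf (.node 2 .leaf .leaf)) (.node 2 .leaf .leaf)) (.node 2 .leaf .leaf)) .leaf))) (.node 2 (.node 0 (.node 0 (.node 0 .leaf (.node 1 .leaf (.node 2 .leaf .leaf))) (.node 2 .leaf .leaf)) (.node 1 (.node 0 (.node 0 .leaf (.node 1 (.node 0 .leaf .leaf) (.node 2 (.node 0 .leaf (.node 2 .leaf .leaf)) .leaf))) (.node 1 (.node 0 .leaf (.node 1 .leaf (.node 2 .leaf .leaf))) (.node 2 .leaf .leaf))) (.node 2 (.node 0 .leaf (.node 1 (.node 2 .leaf .leaf) (.node 2 (.node 0 .leaf .leaf) .leaf))) .leaf))) .leaf))) (.node 2 (.node 0 (.node 0 (.node 0 (.node 0 (.node 0 .leaf .leaf) .leaf) (.node 1 (.node 1 .leaf .leaf) (.node 2 (.node 0 .leaf (.node 1 (.node 1 .leaf .leaf) .leaf)) .leaf))) (.node 1 (.node 2 (.node 1 .leaf .leaf) .leaf) (.node 2 (.node 1 (.node 0 .leaf (.node 2 .leaf .leaf)) (.node 2 (.node 0 (.node 1 .leaf .leaf) (.node 1 (.node 2 .leaf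 .leaf) (.node 2 .leaf .leaf))) .leaf)) .leaf))) (.node 1 (.node 0 (.node 0 (.node 0 .leaf (.node 1 (.node 2 .leaf .leaf) (.node 2 .leaf .leaf))) (.node 1 (.node 1 (.node 0 .leaf (.node 1 .leaf .leaf)) (.node 2 .leaf .leaf)) .leaf)) (.node 1 (.node 0 (.node 0 .leaf (.node 1 .leaf .leaf)) (.node 2 (.node 2 .leaf .leaf) .leaf)) (.node 2 (.node 0 (.node 2 (.node 1 .leaf .leaf) .leaf) (.node 1 (.node 0 (.node 1 .leaf .leaf) (.node 2 .leaf .leaf)) (.node 2 (.node 0 .leaf (.node 1 .leaf .leaf)) .leaf))) .leaf))) (.node 2 (.node 0 (.node 0 .leaf (.node 1 (.node 2 (.node 2 .leaf .leaf) .leaf) (.node 2 (.node 2 .leaf .leaf) .leaf))) (.node 1 (.node 0 .leaf (.node 1 (.node 2 .leaf .leaf) (.node 2 .leaf .leaf))) (.node 2 (.node 0 (.node 2 .leaf .leaf) (.node 1 (.node 0 .leaf (.node 1 (.node 1 .leaf .leaf) (.node 2 .leaf .leaf))) (.node 2 (.node 0 .leaf .leaf) .leaf))) .leaf))) .leaf)))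 .leaf))) .leaf))) .leaf)))

end Cfsg.Agent.Lib.Golay
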