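import Mathlib
import Cfsg.Agent.Lib.GolayOrbTree

set_option autoImplicit false
set_option maxRecDepth 100000

/-!
# Spanning trees of orbits: trio stabiliser
-/

namespace Cfsg.Agent.Lib.Golay

def TOR0 : ℕ := 5279

def TOV0 : ℕ := 64

def TOT0 : OTree := (.node 0 .leaf (.node 1 .leaf .leaf))

def TOR1 : ℕ := 90318

def TOV1 : ℕ := 32

def TOT1 : OTree := (.node 0 (.node 0 (.node 1 (.node 0 (.node 0 (.node 1 .leaf .leaf) (.node 2 .leaf .leaf)) .leaf) .leaf) (.node 1 (.node 0 (.node 0 (.node 0 .leaf (.node 1 .leaf (.node 2 (.node 1 .leaf .leaf) .leaf))) (.node 1 (.node 0 (.node 1 .leaf .leaf) (.node 1 .leaf .leaf)) (.node 2 (.node 1 (.node 0 (.node 0 (.node 1 .leaf .leaf) (.node 1 .leaf .leaf)) .leaf) .leaf) .leaf))) (.node 1 (.node 0 (.node 2 .leaf .leaf) (.node 1 (.node 0 (.node 1 .leaf .leaf) (.node 2 .leaf .leaf)) (.node 2 (.node 1 .leaf .leaf) .leaf))) (.node 2 (.node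 0 (.node 1 (.node 0 .leaf (.node 2 .leaf .leaf)) .leaf) (.node 1 (.node 1 (.node 0 (.node 0 .leaf (.node 1 .leaf .leaf)) (.node 1 .leaf .leaf)) .leaf) .leaf)) .leaf))) (.node 2 (.node 1 (.node 0 .leaf (.node 1 (.node 0 .leaf (.node 1 .leaf .leaf)) (.node 2 (.node 1 .leaf .leaf) .leaf))) .leaf) .leaf))) (.node 1 (.node 0 (.node 1 (.node 0 (.node 0 .leaf (.node 1 (.node 2 .leaf .leaf) (.node 2 .leaf .leaf))) (.node 1 .leaf .leaf)) (.node 2 (.node 1 (.node 1 .leaf .leaf) .leaf) .leaf)) (.node 1 (.node 0 (.node 0 .leaf (.node 2 (.node 1 .leaf .leaf) .leaf)) (.node 1 (.node 0 (.node 1 .leaf .leaf) .leaf) .leaf)) (.node 2 (.node 1 (.node 0 (.node 1 .leaf .leaf) (.node 1 (.node 0 (.node 1 .leaf .leaf) (.node 2 .leaf .leaf)) (.node 2 (.node 0 (.node 1 .leaf .leaf) .leaf) .leaf))) .leaf) .leaf))) .leaf))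

def TOR2 : ℕ := 10558

def TOV2 : ℕ := 24

def TOT2 : OTree := (.node 0 (.node 0 (.node 0 (.node 1 (.node 0 (.node 0 (.node 1 .leaf .leaf) (.node 1 (.node 0 (.node 0 .leaf .leaf) (.node 1 (.node 0 .leaf (.node 2 .leaf .leaf)) .leaf)) .leaf)) .leaf) .leaf) (.node 1 (.node 0 (.node 0 (.node 0 (.node 1 (.node 0 .leaf .leaf) .leaf) (.node 1 (.node 1 (.node 0 .leaf (.node 2 .leaf .leaf)) (.node 2 (.node 1 (.node 2 .leaf .leaf) .leaf) .leaf)) (.node 2 (.node 1 (.node 2 .leaf .leaf) .leaf) .leaf))) (.node 2 (.node 1 (.node 0 (.node 0 .leaf (.node 1 .leaf (.node 2 .leaf .leaf))) (.node 1 (.node 1 .leaf .leaf) (.node 2 (.node 1 .leaf .leaf) .leaf))) .leaf) .leaf)) (.node 1 (.node 0 (.node 0 (.node 2 (.node 1 (.node 0 .leaf (.node 1 .leaf (.node 2 .leaf .leaf))) .leaf) .leaf) (.node 1 (.node 0 .leaf (.node 1 (.node 1 .leaf .leaf) (.node 2 .leaf .leaf))) (.node 2 (.node 1 (.node 2 .leaf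 .leaf) .leaf) .leaf))) (.node 1 (.node 0 (.node 0 .leaf (.node 1 (.node 2 .leaf .leaf) .leaf)) (.node 1 (.node 0 (.node 1 (.node 0 .leaf .leaf) (.node 2 .leaf .leaf)) (.node 1 (.node 0 .leaf (.node 2 .leaf .leaf)) (.node 2 (.node 0 .leaf (.node 1 .leaf .leaf)) .leaf))) (.node 2 .leaf .leaf))) (.node 2 (.node 0 (.node 1 (.node 0 .leaf (.node 1 .leaf (.node 2 .leaf .leaf))) .leaf) (.node 1 (.node 1 (.node 0 .leaf (.node 2 .leaf .leaf)) (.node 2 (.node 0 .leaf .leaf) .leaf)) .leaf)) .leaf))) (.node 2 (.node 0 (.node 1 (.node 0 (.node 0 .leaf .leaf) (.node 1 (.node 1 .leaf (.node 2 .leaf .leaf)) (.node 2 .leaf .leaf))) .leaf) .leaf) .leaf))) (.node 2 (.node 1 (.node 1 (.node 0 (.node 0 (.node 2 .leaf .leaf) (.node 1 (.node 2 .leaf .leaf) (.node 2 (.node 1 .leaf .leaf) .leaf))) (.node 1 (.node 0 .leaf (.node 2 .leaf .leaf)) (.node 2 (.node 0 (.node 1 .leaf .leaf) (.node 1 (.node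 1 .leaf .leaf) .leaf)) .leaf))) .leaf) .leaf) .leaf))) (.node 1 (.node 0 (.node 0 (.node 0 (.node 1 (.node 1 (.node 0 .leaf (.node 1 .leaf .leaf)) .leaf) .leaf) (.node 1 (.node 1 (.node 0 .leaf (.node 2 .leaf .leaf)) (.node 2 (.node 0 .leaf .leaf) .leaf)) (.node 2 (.node 1 (.node 0 (.node 1 .leaf .leaf) (.node 1 (.node 2 (.node 1 .leaf .leaf) .leaf) (.node 2 .leaf .leaf))) .leaf) .leaf))) (.node 1 (.node 0 (.node 0 (.node 1 (.node 1 .leaf (.node 2 .leaf .leaf)) .leaf) (.node 1 (.node 0 .leaf (.node 1 (.node 0 .leaf (.node 2 .leaf .leaf)) (.node 2 .leaf .leaf))) (.node 2 (.node 1 (.node 2 .leaf .leaf) .leaf) .leaf))) (.node 1 (.node 0 (.node 1 .leaf (.node 2 .leaf .leaf)) (.node 1 (.node 0 (.node 0 .leaf (.node 2 .leaf .leaf)) (.node 1 (.node 0 .leaf (.node 1 .leaf .leaf)) (.node 2 .leaf .leaf))) (.node 2 (.node 1 (.node 2 (.node 0 .leaf .leaf) .leaf) .leaf) .leaf))) (.node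 2 (.node 1 (.node 0 .leaf (.node 1 (.node 0 .leaf (.node 2 .leaf .leaf)) .leaf)) .leaf) .leaf))) .leaf)) (.node 1 (.node 0 (.node 0 (.node 0 .leaf (.node 1 (.node 0 .leaf (.node 1 .leaf .leaf)) (.node 2 .leaf .leaf))) (.node 1 (.node 0 (.node 1 (.node 0 (.node 2 .leaf .leaf) (.node 2 .leaf .leaf)) (.node 2 (.node 1 .leaf .leaf) .leaf)) .leaf) (.node 2 (.node 1 (.node 1 (.node 1 .leaf .leaf) .leaf) .leaf) .leaf))) (.node 1 (.node 0 (.node 1 .leaf .leaf) (.node 1 (.node 1 (.node 1 .leaf .leaf) .leaf) (.node 2 (.node 0 .leaf (.node 1 (.node 0 (.node 0 .leaf .leaf) (.node 1 (.node 1 .leaf (.node 2 .leaf .leaf)) (.node 2 .leaf .leaf))) .leaf)) .leaf))) (.node 2 (.node 0 .leaf (.node 1 (.node 0 (.node 1 (.node 1 .leaf .leaf) (.node 2 (.node 1 .leaf .leaf) .leaf)) (.node 1 (.node 0 .leaf (.node 1 (.node 0 .leaf .leaf) (.node 2 (.node 1 .leaf .leaf) .leaf))) (.node 2 (.node 1 (.node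 0 .leaf (.node 2 (.node 0 .leaf .leaf) .leaf)) .leaf) .leaf))) .leaf)) .leaf))) (.node 2 (.node 0 (.node 1 (.node 0 (.node 0 .leaf (.node 2 .leaf .leaf)) (.node 1 (.node 0 (.node 0 (.node 1 .leaf .leaf) (.node 1 .leaf .leaf)) (.node 1 (.node 1 .leaf .leaf) (.node 2 .leaf .leaf))) (.node 2 (.node 1 .leaf .leaf) .leaf))) .leaf) (.node 1 (.node 0 (.node 0 (.node 0 .leaf (.node 1 (.node 2 .leaf .leaf) (.node 2 (.node 1 .leaf .leaf) .leaf))) (.node 1 (.node 1 (.node 0 .leaf (.node 2 .leaf .leaf)) .leaf) (.node 2 (.node 1 (.node 0 .leaf (.node 1 (.node 1 .leaf .leaf) .leaf)) .leaf) .leaf))) (.node 1 (.node 0 (.node 1 (.node 0 .leaf .leaf) .leaf) .leaf) (.node 2 (.node 0 (.node 1 .leaf .leaf) (.node 1 (.node 0 .leaf (.node 1 .leaf (.node 2 .leaf .leaf))) .leaf)) .leaf))) .leaf)) .leaf))) (.node 2 (.node 1 (.node 0 (.node 0 (.node 0 .leaf (.node 1 (.node 2 .leaf .leaf) (.node 2 (.node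 1 (.node 1 .leaf (.node 2 .leaf .leaf)) .leaf) .leaf))) (.node 1 (.node 0 (.node 0 (.node 0 .leaf (.node 2 .leaf .leaf)) (.node 2 .leaf .leaf)) (.node 1 (.node 0 .leaf (.node 2 .leaf .leaf)) (.node 2 (.node 0 .leaf (.node 1 (.node 1 .leaf (.node 2 .leaf .leaf)) .leaf)) .leaf))) (.node 2 .leaf .leaf))) (.node 1 (.node 0 (.node 0 (.node 0 .leaf (.node 1 (.node 1 .leaf .leaf) (.node 2 .leaf .leaf))) (.node 1 (.node 0 (.node 2 .leaf .leaf) (.node 1 (.node 0 .leaf (.node 2 .leaf .leaf)) (.node 2 .leaf .leaf))) (.node 2 (.node 1 (.node 2 .leaf .leaf) .leaf) .leaf))) (.node 1 (.node 0 (.node 2 (.node 1 .leaf .leaf) .leaf) (.node 2 (.node 0 (.node 1 .leaf .leaf) .leaf) .leaf)) (.node 2 (.node 0 (.node 1 (.node 0 .leaf (.node 2 .leaf .leaf)) .leaf) (.node 1 (.node 0 .leaf (.node 2 .leaf .leaf)) .leaf)) .leaf))) (.node 2 (.node 0 (.node 1 (.node 0 (.node 0 .leaf (.node 2 .leaf .leaf))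 (.node 1 (.node 1 .leaf .leaf) (.node 2 .leaf .leaf))) .leaf) (.node 1 (.node 0 (.node 1 (.node 1 .leaf .leaf) .leaf) (.node 1 .leaf .leaf)) .leaf)) .leaf))) .leaf) .leaf))) (.node 1 (.node 0 (.node 0 (.node 0 (.node 1 (.node 0 (.node 2 .leaf .leaf) (.node 1 (.node 1 (.node 0 .leaf (.node 2 .leaf .leaf)) .leaf) (.node 2 (.node 0 .leaf .leaf) .leaf))) .leaf) (.node 1 (.node 0 (.node 0 .leaf (.node 1 (.node 1 (.node 2 .leaf .leaf) .leaf) .leaf)) (.node 1 (.node 0 (.node 0 .leaf (.node 2 .leaf .leaf)) .leaf) .leaf)) (.node 2 (.node 1 (.node 0 (.node 0 .leaf (.node 2 .leaf .leaf)) (.node 1 (.node 0 (.node 0 .leaf (.node 1 .leaf (.node 2 .leaf .leaf))) (.node 2 (.node 1 .leaf .leaf) .leaf)) (.node 2 (.node 0 .leaf (.node 1 (.node 1 .leaf .leaf) .leaf)) .leaf))) .leaf) .leaf))) (.node 1 (.node 0 (.node 0 (.node 0 .leaf (.node 1 (.node 2 .leaf .leaf) (.node 2 .leaf .leaf))) (.node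 1 (.node 0 (.node 2 (.node 1 .leaf .leaf) .leaf) (.node 1 (.node 0 (.node 2 .leaf .leaf) (.node 2 .leaf .leaf)) (.node 2 (.node 1 (.node 1 .leaf .leaf) .leaf) .leaf))) (.node 2 (.node 1 (.node 1 (.node 1 .leaf (.node 2 .leaf .leaf)) (.node 2 (.node 0 .leaf (.node 1 .leaf .leaf)) .leaf)) .leaf) .leaf))) (.node 1 (.node 0 (.node 0 (.node 0 .leaf (.node 1 (.node 0 .leaf .leaf) (.node 2 (.node 1 .leaf .leaf) .leaf))) (.node 1 (.node 0 (.node 1 .leaf .leaf) (.node 1 (.node 1 .leaf .leaf) .leaf)) (.node 2 .leaf .leaf))) (.node 2 (.node 0 .leaf (.node 1 (.node 1 .leaf .leaf) .leaf)) .leaf)) (.node 2 (.node 0 (.node 1 (.node 0 (.node 2 .leaf .leaf) (.node 1 (.node 1 .leaf (.node 2 .leaf .leaf)) (.node 2 .leaf .leaf))) .leaf) (.node 1 (.node 0 (.node 0 .leaf (.node 1 .leaf (.node 2 (.node 1 .leaf .leaf) .leaf))) (.node 1 (.node 0 .leaf (.node 2 .leaf .leaf)) (.node 2 (.node 1 .leaf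 .leaf) .leaf))) .leaf)) .leaf))) (.node 2 (.node 1 (.node 0 (.node 0 (.node 1 .leaf (.node 2 .leaf .leaf)) (.node 2 (.node 1 .leaf .leaf) .leaf)) (.node 1 (.node 0 (.node 0 .leaf (.node 2 (.node 1 .leaf .leaf) .leaf)) (.node 1 (.node 0 .leaf (.node 1 (.node 1 .leaf (.node 2 .leaf .leaf)) (.node 2 .leaf .leaf))) (.node 2 .leaf .leaf))) (.node 2 (.node 0 (.node 1 (.node 2 .leaf .leaf) .leaf) (.node 1 (.node 0 (.node 1 .leaf .leaf) (.node 1 .leaf .leaf)) .leaf)) .leaf))) .leaf) .leaf))) (.node 1 (.node 0 (.node 1 (.node 0 (.node 0 (.node 0 .leaf (.node 2 .leaf .leaf)) (.node 1 (.node 0 (.node 2 .leaf .leaf) (.node 1 (.node 1 .leaf .leaf) (.node 2 .leaf .leaf))) (.node 2 (.node 1 .leaf .leaf) .leaf))) (.node 1 (.node 1 (.node 0 .leaf .leaf) .leaf) (.node 2 (.node 0 (.node 1 .leaf .leaf) (.node 1 (.node 0 (.node 1 .leaf .leaf) (.node 2 .leaf .leaf)) .leaf)) .leaf))) (.node 2 .leaf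 .leaf)) (.node 1 (.node 0 (.node 2 (.node 1 (.node 0 .leaf (.node 1 .leaf (.node 2 (.node 1 .leaf .leaf) .leaf))) .leaf) .leaf) (.node 2 (.node 1 (.node 0 (.node 0 (.node 0 .leaf .leaf) (.node 2 .leaf .leaf)) (.node 1 (.node 0 .leaf (.node 1 (.node 2 .leaf .leaf) .leaf)) (.node 2 (.node 0 .leaf .leaf) .leaf))) .leaf) .leaf)) (.node 2 (.node 1 (.node 0 (.node 1 .leaf .leaf) (.node 1 (.node 2 (.node 0 .leaf .leaf) .leaf) (.node 2 (.node 0 .leaf (.node 1 (.node 0 (.node 0 .leaf .leaf) (.node 2 .leaf .leaf)) .leaf)) .leaf))) .leaf) .leaf))) (.node 2 (.node 0 (.node 1 (.node 0 (.node 0 (.node 1 .leaf .leaf) (.node 1 .leaf (.node 2 .leaf .leaf))) (.node 1 (.node 0 (.node 1 .leaf .leaf) .leaf) .leaf)) .leaf) .leaf) .leaf))) (.node 2 (.node 0 (.node 1 (.node 0 (.node 0 (.node 0 .leaf (.node 1 .leaf .leaf)) (.node 1 (.node 0 (.node 0 .leaf .leaf) (.node 1 (.node 0 (.node 2 .leaf .leaf)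 .leaf) (.node 2 (.node 0 .leaf (.node 1 .leaf .leaf)) .leaf))) (.node 2 .leaf .leaf))) (.node 1 (.node 0 (.node 1 (.node 1 .leaf .leaf) (.node 2 .leaf .leaf)) (.node 1 (.node 0 (.node 0 .leaf (.node 1 (.node 2 .leaf .leaf) (.node 2 .leaf .leaf))) .leaf) (.node 2 (.node 1 (.node 0 .leaf (.node 1 .leaf (.node 2 .leaf .leaf))) .leaf) .leaf))) (.node 2 (.node 0 (.node 1 (.node 2 .leaf .leaf) .leaf) (.node 1 (.node 0 (.node 1 .leaf .leaf) (.node 2 (.node 1 .leaf .leaf) .leaf)) .leaf)) .leaf))) .leaf) (.node 1 (.node 0 (.node 0 (.node 0 (.node 1 .leaf .leaf) (.node 1 (.node 0 (.node 0 .leaf (.node 1 .leaf .leaf)) (.node 1 (.node 1 (.node 1 .leaf .leaf) .leaf) (.node 2 .leaf .leaf))) .leaf)) (.node 1 (.node 0 (.node 0 .leaf (.node 1 (.node 2 (.node 1 .leaf .leaf) .leaf) .leaf)) (.node 1 (.node 0 (.node 0 .leaf .leaf) (.node 1 (.node 0 .leaf (.node 1 (.node 1 .leaf (.node 2 .leaf .leaf))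 (.node 2 .leaf .leaf))) (.node 2 (.node 1 (.node 0 .leaf .leaf) .leaf) .leaf))) (.node 2 .leaf .leaf))) .leaf)) (.node 1 (.node 0 (.node 0 (.node 0 (.node 1 .leaf .leaf) (.node 1 (.node 1 (.node 0 .leaf (.node 1 .leaf (.node 2 .leaf .leaf))) (.node 2 .leaf .leaf)) (.node 2 .leaf .leaf))) (.node 2 (.node 1 (.node 0 (.node 0 .leaf (.node 1 .leaf (.node 2 .leaf .leaf))) (.node 1 .leaf (.node 2 .leaf .leaf))) .leaf) .leaf)) (.node 1 (.node 0 (.node 0 (.node 0 .leaf (.node 1 .leaf .leaf)) (.node 2 (.node 1 .leaf .leaf) .leaf)) (.node 1 (.node 0 (.node 1 (.node 2 (.node 1 .leaf .leaf) .leaf) .leaf) (.node 1 (.node 2 .leaf .leaf) (.node 2 (.node 1 .leaf .leaf) .leaf))) (.node 2 (.node 0 (.node 1 .leaf .leaf) (.node 1 (.node 0 .leaf (.node 1 (.node 2 .leaf .leaf) .leaf)) .leaf)) .leaf))) (.node 2 (.node 0 (.node 1 (.node 0 (.node 0 .leaf (.node 1 .leaf .leaf)) (.node 2 (.node 0 .leaf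 (.node 1 .leaf .leaf)) .leaf)) .leaf) (.node 1 (.node 0 .leaf (.node 1 .leaf (.node 2 .leaf .leaf))) .leaf)) .leaf))) .leaf)) .leaf)) .leaf)))

def TSR0 : List ℕ := [1031,4248,458816,550912,6291744,9470464]

def TSV0 : ℕ := 96

def TST0 : OTree := (.node 0 .leaf (.node 1 (.node 0 (.node 0 .leaf (.node 2 .leaf .leaf)) (.node 1 .leaf .leaf)) .leaf))

def TSR1 : List ℕ := [15,5264,622848,3416064,4196928,8536096]

def TSV1 : ℕ := 64

def TST1 : OTree := (.node 0 (.node 0 (.node 0 (.node 1 (.node 1 (.node 0 .leaf .leaf) (.node 2 .leaf .leaf)) .leaf) (.node 1 (.node 1 (.node 0 .leaf (.node 1 (.node 1 .leaf .leaf) .leaf)) .leaf) (.node 2 (.node 1 (.node 0 (.node 2 .leaf .leaf) (.node 1 .leaf (.node 2 .leaf .leaf))) .leaf) .leaf))) (.node 1 (.node 0 (.node 0 (.node 0 .leaf (.node 1 .leaf (.node 2 .leaf .leaf))) (.node 1 (.node 0 .leaf (.node 1 (.node 0 .leaf .leaf) .leaf)) (.node 2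 .leaf .leaf))) (.node 1 (.node 0 .leaf (.node 1 (.node 2 .leaf .leaf) .leaf)) (.node 2 (.node 0 (.node 1 (.node 1 .leaf .leaf) .leaf) (.node 1 (.node 2 .leaf .leaf) .leaf)) .leaf))) (.node 2 (.node 1 .leaf .leaf) .leaf))) (.node 1 (.node 0 (.node 0 (.node 0 (.node 1 (.node 0 .leaf (.node 2 .leaf .leaf)) .leaf) (.node 1 (.node 0 .leaf (.node 1 (.node 0 .leaf .leaf) .leaf)) (.node 2 (.node 1 .leaf .leaf) .leaf))) (.node 1 (.node 0 (.node 0 .leaf (.node 1 (.node 0 .leaf .leaf) .leaf)) (.node 1 .leaf (.node 2 (.node 1 .leaf .leaf) .leaf))) .leaf)) (.node 1 (.node 0 (.node 1 (.node 2 .leaf .leaf) .leaf) .leaf) (.node 2 (.node 0 (.node 1 .leaf .leaf) .leaf) .leaf))) (.node 2 (.node 0 (.node 1 (.node 0 .leaf .leaf) .leaf) (.node 1 (.node 0 (.node 0 .leaf .leaf) (.node 1 (.node 0 .leaf (.node 1 (.node 2 .leaf .leaf) .leaf)) (.node 2 (.node 1 (.node 0 .leaf .leaf) .leaf) .leaf))) .leaf))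 .leaf)))

def TSR2 : List ℕ := [547,17600,786452,1052936,4423680,10496000]

def TSV2 : ℕ := 48

def TST2 : OTree := (.node 0 (.node 0 (.node 0 (.node 1 (.node 1 (.node 0 (.node 1 (.node 1 .leaf (.node 2 .leaf .leaf)) (.node 2 .leaf .leaf)) (.node 1 (.node 1 .leaf .leaf) (.node 2 .leaf .leaf))) (.node 2 (.node 1 (.node 0 .leaf .leaf) .leaf) .leaf)) .leaf) (.node 1 (.node 0 (.node 0 (.node 0 (.node 1 (.node 0 .leaf (.node 2 .leaf .leaf)) .leaf) (.node 1 (.node 2 .leaf .leaf) (.node 2 (.node 1 .leaf .leaf) .leaf))) (.node 1 (.node 0 (.node 0 .leaf (.node 1 .leaf (.node 2 .leaf .leaf))) (.node 1 (.node 0 .leaf (.node 1 .leaf .leaf)) (.node 2 .leaf .leaf))) (.node 2 (.node 1 (.node 0 .leaf .leaf) .leaf) .leaf))) (.node 1 (.node 0 (.node 0 (.node 0 .leaf (.node 1 .leaf (.node 2 .leaf .leaf))) (.node 1 .leaf (.node 2 .leaf .leaf))) (.node 1 (.node 0 (.node 1 .leaf .leaf) (.node 2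 (.node 0 .leaf .leaf) .leaf)) (.node 2 (.node 0 .leaf (.node 1 (.node 0 .leaf .leaf) .leaf)) .leaf))) (.node 2 (.node 0 (.node 1 .leaf .leaf) (.node 1 (.node 1 .leaf (.node 2 (.node 0 .leaf (.node 1 (.node 2 .leaf .leaf) .leaf)) .leaf)) .leaf)) .leaf))) (.node 2 (.node 1 (.node 0 (.node 1 (.node 0 .leaf .leaf) .leaf) (.node 1 .leaf (.node 2 (.node 1 (.node 1 .leaf .leaf) .leaf) .leaf))) .leaf) .leaf))) (.node 1 (.node 0 (.node 1 (.node 0 (.node 0 .leaf (.node 1 (.node 1 .leaf (.node 2 .leaf .leaf)) (.node 2 .leaf .leaf))) (.node 1 (.node 1 .leaf .leaf) .leaf)) (.node 2 (.node 1 (.node 1 (.node 0 (.node 0 .leaf .leaf) (.node 2 .leaf .leaf)) (.node 2 .leaf .leaf)) .leaf) .leaf)) (.node 1 (.node 0 (.node 1 (.node 0 .leaf (.node 1 (.node 2 .leaf .leaf) (.node 2 .leaf .leaf))) .leaf) (.node 1 (.node 0 (.node 1 .leaf (.node 2 (.node 1 .leaf .leaf) .leaf)) (.node 1 (.node 0 .leaf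 (.node 2 (.node 1 (.node 2 .leaf .leaf) .leaf) .leaf)) (.node 2 (.node 0 .leaf (.node 1 .leaf .leaf)) .leaf))) (.node 2 (.node 0 .leaf .leaf) .leaf))) (.node 2 (.node 1 (.node 0 (.node 0 (.node 2 (.node 1 .leaf .leaf) .leaf) (.node 1 (.node 2 .leaf .leaf) (.node 2 .leaf .leaf))) (.node 1 (.node 0 .leaf (.node 1 .leaf (.node 2 .leaf .leaf))) (.node 2 (.node 0 (.node 1 .leaf .leaf) .leaf) .leaf))) .leaf) .leaf))) (.node 2 (.node 1 (.node 0 (.node 0 (.node 0 .leaf (.node 1 (.node 0 (.node 0 .leaf .leaf) (.node 1 .leaf (.node 2 .leaf .leaf))) (.node 2 .leaf .leaf))) (.node 1 (.node 0 .leaf (.node 1 (.node 2 .leaf .leaf) .leaf)) (.node 2 .leaf .leaf))) (.node 1 (.node 0 (.node 0 (.node 0 .leaf .leaf) (.node 1 (.node 0 .leaf .leaf) (.node 2 .leaf .leaf))) (.node 1 (.node 0 .leaf (.node 1 .leaf (.node 2 .leaf .leaf))) (.node 2 (.node 0 .leaf (.node 1 (.node 0 .leaf (.node 1 .leaf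 .leaf)) .leaf)) .leaf))) (.node 2 (.node 0 (.node 1 (.node 1 .leaf .leaf) .leaf) (.node 1 (.node 0 .leaf (.node 1 (.node 2 .leaf .leaf) (.node 2 (.node 1 .leaf .leaf) .leaf))) .leaf)) .leaf))) .leaf) .leaf))) (.node 1 (.node 0 (.node 0 (.node 1 (.node 1 (.node 0 (.node 1 .leaf (.node 2 .leaf .leaf)) .leaf) (.node 2 (.node 0 (.node 1 .leaf .leaf) .leaf) .leaf)) .leaf) (.node 1 (.node 0 .leaf (.node 1 (.node 0 (.node 1 .leaf .leaf) (.node 1 (.node 0 .leaf (.node 1 (.node 0 .leaf (.node 1 .leaf .leaf)) .leaf)) .leaf)) .leaf)) .leaf)) (.node 1 (.node 0 (.node 0 (.node 0 (.node 1 (.node 1 .leaf .leaf) .leaf) (.node 1 (.node 0 .leaf (.node 2 (.node 1 .leaf .leaf) .leaf)) (.node 2 .leaf .leaf))) (.node 1 (.node 0 .leaf (.node 2 (.node 1 .leaf .leaf) .leaf)) (.node 2 (.node 1 (.node 0 .leaf (.node 1 (.node 0 .leaf .leaf) (.node 2 (.node 1 .leaf .leaf) .leaf))) .leaf) .leaf))) (.node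 1 (.node 0 (.node 1 (.node 0 (.node 2 .leaf .leaf) (.node 1 .leaf (.node 2 (.node 1 .leaf .leaf) .leaf))) (.node 2 .leaf .leaf)) (.node 1 (.node 0 (.node 0 .leaf (.node 1 (.node 2 .leaf .leaf) (.node 2 .leaf .leaf))) (.node 1 (.node 0 .leaf (.node 1 (.node 2 .leaf .leaf) (.node 2 .leaf .leaf))) (.node 2 .leaf .leaf))) (.node 2 (.node 1 (.node 0 .leaf (.node 2 (.node 1 .leaf .leaf) .leaf)) .leaf) .leaf))) (.node 2 (.node 0 .leaf (.node 1 (.node 0 (.node 0 .leaf (.node 2 .leaf .leaf)) (.node 1 (.node 1 .leaf .leaf) (.node 2 (.node 0 .leaf (.node 1 .leaf .leaf)) .leaf))) .leaf)) .leaf))) (.node 2 (.node 1 (.node 0 (.node 0 (.node 1 .leaf .leaf) (.node 1 (.node 0 .leaf (.node 1 (.node 1 (.node 1 .leaf .leaf) .leaf) .leaf)) .leaf)) (.node 1 (.node 1 .leaf (.node 2 (.node 1 (.node 0 .leaf .leaf) .leaf) .leaf)) .leaf)) .leaf) .leaf))) (.node 2 (.node 0 (.node 1 (.node 0 (.node 0 (.node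 1 .leaf (.node 2 (.node 1 .leaf .leaf) .leaf)) (.node 1 (.node 0 .leaf (.node 1 .leaf (.node 2 (.node 1 .leaf .leaf) .leaf))) (.node 2 .leaf .leaf))) (.node 1 (.node 0 (.node 0 .leaf (.node 1 .leaf .leaf)) (.node 1 (.node 0 .leaf (.node 2 .leaf .leaf)) (.node 2 .leaf .leaf))) (.node 2 (.node 0 .leaf (.node 1 (.node 2 .leaf .leaf) .leaf)) .leaf))) .leaf) (.node 1 (.node 0 (.node 0 (.node 0 (.node 1 (.node 2 .leaf .leaf) .leaf) (.node 1 (.node 0 (.node 2 .leaf .leaf) (.node 2 .leaf .leaf)) (.node 2 .leaf .leaf))) (.node 1 (.node 1 (.node 0 .leaf (.node 1 .leaf .leaf)) (.node 2 .leaf .leaf)) (.node 2 (.node 1 .leaf .leaf) .leaf))) (.node 1 (.node 0 .leaf (.node 1 (.node 1 (.node 0 .leaf (.node 2 (.node 0 .leaf .leaf) .leaf)) (.node 2 (.node 0 (.node 1 (.node 0 .leaf (.node 2 .leaf .leaf)) .leaf) .leaf) .leaf)) (.node 2 .leaf .leaf))) (.node 2 (.node 0 (.node 1 (.node 0 (.node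 0 .leaf .leaf) (.node 2 (.node 1 .leaf .leaf) .leaf)) .leaf) (.node 1 (.node 0 (.node 0 .leaf .leaf) (.node 1 .leaf .leaf)) .leaf)) .leaf))) .leaf)) .leaf)))

def TSR3 : List ℕ := [39,45120,786960,1116288,6292736,8536072]

def TSV3 : ℕ := 44

def TST3 : OTree := (.node 0 (.node 0 (.node 0 (.node 1 (.node 0 (.node 0 (.node 0 (.node 1 .leaf .leaf) (.node 1 (.node 1 (.node 2 .leaf .leaf) .leaf) (.node 2 (.node 1 (.node 0 .leaf .leaf) .leaf) .leaf))) (.node 1 (.node 0 .leaf (.node 1 (.node 2 .leaf .leaf) (.node 2 .leaf .leaf))) (.node 2 (.node 1 (.node 0 (.node 1 .leaf .leaf) (.node 1 (.node 0 .leaf (.node 1 (.node 0 .leaf .leaf) .leaf)) (.node 2 (.node 1 .leaf .leaf) .leaf))) .leaf) .leaf))) (.node 1 (.node 0 (.node 0 (.node 1 (.node 0 .leaf (.node 1 .leaf (.node 2 (.node 1 .leaf .leaf) .leaf))) .leaf) (.node 1 (.node 0 (.node 1 .leaf .leaf) (.node 1 (.node 0 .leaf .leaf) (.node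 2 (.node 1 .leaf .leaf) .leaf))) .leaf)) (.node 1 (.node 0 (.node 1 (.node 0 .leaf (.node 1 .leaf (.node 2 .leaf .leaf))) .leaf) (.node 1 (.node 0 (.node 1 .leaf .leaf) (.node 1 .leaf (.node 2 (.node 0 .leaf .leaf) .leaf))) (.node 2 .leaf .leaf))) (.node 2 (.node 1 (.node 1 (.node 0 .leaf (.node 2 .leaf .leaf)) (.node 2 .leaf .leaf)) .leaf) .leaf))) (.node 2 (.node 0 (.node 1 (.node 1 (.node 1 .leaf .leaf) (.node 2 .leaf .leaf)) .leaf) (.node 1 (.node 0 (.node 1 (.node 0 .leaf .leaf) (.node 2 .leaf .leaf)) (.node 2 (.node 0 .leaf .leaf) .leaf)) .leaf)) .leaf))) .leaf) (.node 1 (.node 0 (.node 0 (.node 0 (.node 1 (.node 0 (.node 1 .leaf .leaf) (.node 2 .leaf .leaf)) .leaf) (.node 1 (.node 1 (.node 0 (.node 1 .leaf .leaf) (.node 1 (.node 2 .leaf .leaf) .leaf)) (.node 2 .leaf .leaf)) (.node 2 (.node 1 (.node 0 .leaf (.node 2 .leaf .leaf)) .leaf) .leaf))) (.node 1 (.node 0 (.node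 0 (.node 1 (.node 2 .leaf .leaf) (.node 2 (.node 1 .leaf .leaf) .leaf)) (.node 1 (.node 0 (.node 0 .leaf .leaf) .leaf) (.node 2 (.node 1 (.node 0 .leaf (.node 2 .leaf .leaf)) .leaf) .leaf))) (.node 1 (.node 2 .leaf .leaf) (.node 2 (.node 0 .leaf .leaf) .leaf))) (.node 2 (.node 1 (.node 0 (.node 0 (.node 0 .leaf .leaf) (.node 1 (.node 1 (.node 1 .leaf .leaf) (.node 2 .leaf .leaf)) .leaf)) (.node 1 (.node 1 .leaf (.node 2 .leaf .leaf)) .leaf)) .leaf) .leaf))) (.node 1 (.node 0 (.node 0 (.node 0 (.node 1 (.node 0 .leaf .leaf) .leaf) (.node 1 (.node 0 (.node 1 (.node 0 .leaf .leaf) .leaf) (.node 1 (.node 0 .leaf .leaf) .leaf)) .leaf)) .leaf) (.node 1 (.node 0 (.node 0 (.node 0 .leaf (.node 1 (.node 1 .leaf .leaf) (.node 2 (.node 1 .leaf .leaf) .leaf))) (.node 1 (.node 0 (.node 0 .leaf (.node 2 .leaf .leaf)) (.node 1 (.node 0 (.node 1 .leaf .leaf) (.node 2 .leaf .leaf)) .leaf))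 (.node 2 (.node 1 (.node 2 (.node 0 .leaf .leaf) .leaf) .leaf) .leaf))) (.node 1 (.node 0 (.node 0 (.node 0 .leaf .leaf) .leaf) (.node 1 .leaf (.node 2 (.node 0 .leaf .leaf) .leaf))) (.node 2 (.node 0 (.node 1 .leaf .leaf) (.node 1 (.node 0 (.node 1 .leaf .leaf) (.node 2 .leaf .leaf)) .leaf)) .leaf))) .leaf)) (.node 2 (.node 0 (.node 1 .leaf .leaf) (.node 1 (.node 0 (.node 0 (.node 0 (.node 1 .leaf .leaf) (.node 1 (.node 0 .leaf (.node 1 .leaf (.node 2 .leaf .leaf))) .leaf)) (.node 1 (.node 0 (.node 0 .leaf .leaf) (.node 2 (.node 0 .leaf .leaf) .leaf)) (.node 2 (.node 1 (.node 1 .leaf .leaf) .leaf) .leaf))) (.node 1 (.node 0 (.node 0 (.node 1 .leaf .leaf) (.node 1 (.node 1 .leaf .leaf) (.node 2 .leaf .leaf))) (.node 1 (.node 1 .leaf .leaf) (.node 2 (.node 0 .leaf (.node 1 (.node 2 .leaf .leaf) .leaf)) .leaf))) (.node 2 (.node 0 (.node 1 .leaf .leaf) (.node 1 .leaf .leaf)) .leaf)))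 .leaf)) .leaf))) (.node 2 (.node 1 (.node 0 (.node 0 (.node 1 .leaf (.node 2 (.node 1 .leaf .leaf) .leaf)) (.node 1 (.node 0 (.node 0 .leaf (.node 2 (.node 1 .leaf .leaf) .leaf)) (.node 1 (.node 0 .leaf (.node 2 (.node 1 .leaf .leaf) .leaf)) (.node 2 .leaf .leaf))) (.node 2 (.node 1 (.node 0 .leaf (.node 1 (.node 0 .leaf (.node 1 .leaf .leaf)) (.node 2 (.node 1 (.node 0 (.node 0 .leaf .leaf) .leaf) .leaf) .leaf))) .leaf) .leaf))) (.node 1 (.node 0 (.node 0 (.node 0 .leaf (.node 1 (.node 0 .leaf (.node 1 .leaf (.node 2 .leaf .leaf))) (.node 2 .leaf .leaf))) (.node 1 (.node 0 (.node 0 .leaf .leaf) .leaf) (.node 2 (.node 1 (.node 1 .leaf (.node 2 .leaf .leaf)) .leaf) .leaf))) (.node 1 (.node 0 (.node 1 .leaf (.node 2 .leaf .leaf)) (.node 1 (.node 0 (.node 0 .leaf .leaf) .leaf) (.node 2 .leaf .leaf))) (.node 2 (.node 0 (.node 1 (.node 1 .leaf .leaf) .leaf) (.node 1 (.node 1 (.node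 0 (.node 0 .leaf .leaf) (.node 1 (.node 2 .leaf .leaf) (.node 2 .leaf .leaf))) .leaf) .leaf)) .leaf))) (.node 2 (.node 0 (.node 1 (.node 0 (.node 0 .leaf (.node 2 .leaf .leaf)) (.node 1 (.node 1 .leaf .leaf) (.node 2 .leaf .leaf))) .leaf) (.node 1 (.node 0 (.node 0 (.node 1 .leaf .leaf) (.node 2 .leaf .leaf)) (.node 1 (.node 0 (.node 1 (.node 1 .leaf .leaf) .leaf) (.node 1 .leaf (.node 2 (.node 1 .leaf .leaf) .leaf))) (.node 2 (.node 1 (.node 0 (.node 1 .leaf .leaf) (.node 2 .leaf .leaf)) .leaf) .leaf))) .leaf)) .leaf))) .leaf) .leaf))) (.node 1 (.node 0 (.node 1 (.node 0 (.node 0 (.node 0 (.node 1 (.node 1 .leaf .leaf) .leaf) (.node 1 (.node 2 (.node 1 .leaf .leaf) .leaf) (.node 2 .leaf .leaf))) (.node 1 (.node 0 (.node 0 .leaf .leaf) (.node 1 (.node 1 (.node 2 .leaf .leaf) (.node 2 .leaf .leaf)) .leaf)) (.node 2 (.node 1 (.node 0 (.node 2 .leaf .leaf) (.node 2 .leaf .leaf))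 .leaf) .leaf))) (.node 1 (.node 0 (.node 2 .leaf .leaf) (.node 2 (.node 0 (.node 1 .leaf .leaf) (.node 1 (.node 1 (.node 1 (.node 0 .leaf .leaf) .leaf) (.node 2 .leaf .leaf)) .leaf)) .leaf)) (.node 2 (.node 0 (.node 1 (.node 0 .leaf (.node 2 .leaf .leaf)) .leaf) .leaf) .leaf))) (.node 2 (.node 1 (.node 0 (.node 0 (.node 1 .leaf (.node 2 .leaf .leaf)) (.node 1 (.node 0 (.node 0 .leaf (.node 2 .leaf .leaf)) (.node 1 (.node 0 .leaf .leaf) .leaf)) (.node 2 (.node 1 .leaf .leaf) .leaf))) (.node 1 (.node 0 (.node 2 .leaf .leaf) (.node 1 (.node 0 .leaf .leaf) .leaf)) (.node 2 (.node 0 (.node 1 (.node 1 .leaf (.node 2 .leaf .leaf)) .leaf) (.node 1 (.node 0 (.node 0 .leaf (.node 1 .leaf (.node 2 .leaf .leaf))) (.node 1 .leaf .leaf)) .leaf)) .leaf))) .leaf) .leaf)) (.node 1 (.node 0 (.node 0 (.node 0 (.node 1 .leaf .leaf) (.node 2 (.node 1 (.node 0 (.node 1 .leaf .leaf) (.node 1 .leaf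 .leaf)) .leaf) .leaf)) (.node 1 (.node 0 (.node 0 (.node 1 (.node 1 .leaf .leaf) .leaf) (.node 1 (.node 0 .leaf (.node 1 (.node 2 .leaf .leaf) (.node 2 .leaf .leaf))) (.node 2 .leaf .leaf))) .leaf) (.node 2 (.node 1 (.node 0 .leaf (.node 1 (.node 0 .leaf (.node 1 (.node 0 .leaf (.node 1 .leaf .leaf)) .leaf)) (.node 2 .leaf .leaf))) .leaf) .leaf))) (.node 1 (.node 0 (.node 1 (.node 2 (.node 0 (.node 1 .leaf .leaf) (.node 1 .leaf .leaf)) .leaf) (.node 2 (.node 1 .leaf .leaf) .leaf)) (.node 1 (.node 0 (.node 0 (.node 0 .leaf .leaf) .leaf) (.node 1 (.node 2 .leaf .leaf) .leaf)) (.node 2 (.node 0 (.node 1 (.node 1 .leaf .leaf) .leaf) (.node 1 (.node 0 (.node 0 .leaf (.node 2 .leaf .leaf)) (.node 2 .leaf .leaf)) .leaf)) .leaf))) (.node 2 (.node 0 (.node 1 (.node 0 (.node 1 (.node 0 .leaf (.node 1 .leaf (.node 2 .leaf .leaf))) (.node 2 (.node 1 .leaf .leaf) .leaf)) (.node 1 .leaf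 (.node 2 (.node 1 (.node 0 .leaf .leaf) .leaf) .leaf))) .leaf) (.node 1 (.node 0 (.node 0 .leaf (.node 1 (.node 1 .leaf .leaf) (.node 2 .leaf .leaf))) (.node 1 (.node 0 (.node 0 .leaf (.node 2 .leaf .leaf)) (.node 1 (.node 0 (.node 0 .leaf .leaf) (.node 1 (.node 1 .leaf .leaf) (.node 2 (.node 0 .leaf (.node 1 .leaf .leaf)) .leaf))) (.node 2 (.node 1 .leaf .leaf) .leaf))) .leaf)) .leaf)) .leaf))) (.node 2 (.node 1 (.node 0 (.node 1 (.node 0 (.node 1 .leaf .leaf) (.node 2 (.node 1 .leaf .leaf) .leaf)) .leaf) (.node 1 (.node 0 (.node 1 (.node 0 .leaf .leaf) (.node 2 .leaf .leaf)) (.node 1 (.node 0 (.node 1 (.node 2 .leaf .leaf) .leaf) (.node 1 (.node 2 .leaf .leaf) (.node 2 .leaf .leaf))) (.node 2 (.node 0 .leaf (.node 1 (.node 0 (.node 0 .leaf (.node 2 .leaf .leaf)) (.node 2 .leaf .leaf)) .leaf)) .leaf))) (.node 2 (.node 0 (.node 1 (.node 0 .leaf (.node 2 .leaf .leaf)) .leaf)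 (.node 1 (.node 1 (.node 0 (.node 1 .leaf .leaf) (.node 1 (.node 1 .leaf .leaf) .leaf)) (.node 2 (.node 0 .leaf (.node 1 .leaf .leaf)) .leaf)) .leaf)) .leaf))) .leaf) .leaf))) (.node 2 (.node 1 (.node 0 (.node 0 (.node 1 .leaf (.node 2 (.node 1 (.node 0 .leaf (.node 1 (.node 1 (.node 2 .leaf .leaf) .leaf) (.node 2 (.node 0 (.node 1 .leaf .leaf) .leaf) .leaf))) .leaf) .leaf)) (.node 1 (.node 0 .leaf (.node 1 (.node 2 (.node 1 (.node 1 .leaf (.node 2 .leaf .leaf)) .leaf) .leaf) (.node 2 (.node 1 (.node 0 .leaf (.node 1 .leaf .leaf)) .leaf) .leaf))) (.node 2 (.node 1 (.node 1 .leaf .leaf) .leaf) .leaf))) (.node 1 (.node 0 (.node 0 (.node 1 (.node 1 (.node 0 .leaf (.node 1 .leaf (.node 2 .leaf .leaf))) (.node 2 (.node 0 .leaf .leaf) .leaf)) .leaf) .leaf) (.node 1 (.node 0 (.node 0 (.node 0 .leaf (.node 1 (.node 0 .leaf .leaf) (.node 2 .leaf .leaf))) (.node 1 (.node 0 .leaf (.node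 1 (.node 2 .leaf .leaf) (.node 2 (.node 1 (.node 0 .leaf .leaf) .leaf) .leaf))) (.node 2 (.node 1 .leaf .leaf) .leaf))) (.node 1 (.node 2 (.node 0 .leaf (.node 1 .leaf .leaf)) .leaf) (.node 2 (.node 0 (.node 1 .leaf .leaf) (.node 1 (.node 1 .leaf .leaf) .leaf)) .leaf))) (.node 2 (.node 1 (.node 2 (.node 0 (.node 1 (.node 2 .leaf .leaf) .leaf) (.node 1 .leaf .leaf)) .leaf) .leaf) .leaf))) (.node 2 (.node 0 (.node 1 (.node 0 (.node 0 .leaf (.node 1 (.node 1 .leaf .leaf) (.node 2 .leaf .leaf))) (.node 1 (.node 1 (.node 0 .leaf .leaf) (.node 2 (.node 0 .leaf (.node 1 .leaf .leaf)) .leaf)) (.node 2 .leaf .leaf))) .leaf) (.node 1 (.node 0 (.node 0 (.node 0 .leaf (.node 1 .leaf .leaf)) (.node 1 (.node 0 .leaf (.node 1 (.node 2 .leaf .leaf) (.node 2 .leaf .leaf))) .leaf)) (.node 1 (.node 2 (.node 0 .leaf .leaf) .leaf) (.node 2 (.node 0 (.node 1 (.node 2 .leaf .leaf) .leaf) (.node 1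 .leaf .leaf)) .leaf))) .leaf)) .leaf))) .leaf) .leaf))) (.node 1 (.node 0 (.node 0 (.node 0 (.node 1 (.node 0 (.node 0 (.node 0 .leaf (.node 2 .leaf .leaf)) (.node 1 (.node 0 .leaf (.node 1 .leaf (.node 2 .leaf .leaf))) (.node 2 .leaf .leaf))) (.node 1 (.node 0 (.node 1 .leaf (.node 2 .leaf .leaf)) (.node 1 (.node 2 (.node 1 .leaf .leaf) .leaf) .leaf)) (.node 2 (.node 0 .leaf (.node 1 (.node 0 (.node 1 .leaf (.node 2 .leaf .leaf)) (.node 1 (.node 0 .leaf .leaf) (.node 2 .leaf .leaf))) .leaf)) .leaf))) .leaf) (.node 1 (.node 0 (.node 0 (.node 0 .leaf (.node 2 .leaf .leaf)) (.node 1 (.node 0 (.node 2 .leaf .leaf) (.node 1 (.node 0 (.node 0 .leaf .leaf) (.node 1 .leaf (.node 2 (.node 0 .leaf (.node 1 (.node 2 .leaf .leaf) .leaf)) .leaf))) .leaf)) (.node 2 (.node 1 .leaf .leaf) .leaf))) (.node 1 (.node 0 (.node 1 (.node 1 .leaf (.node 2 .leaf .leaf)) .leaf) (.node 1 (.node 0 (.node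 1 (.node 0 .leaf .leaf) (.node 2 .leaf .leaf)) (.node 1 (.node 0 .leaf (.node 1 .leaf (.node 2 (.node 0 .leaf .leaf) .leaf))) (.node 2 (.node 0 .leaf .leaf) .leaf))) (.node 2 (.node 0 .leaf (.node 1 (.node 1 .leaf .leaf) .leaf)) .leaf))) (.node 2 (.node 0 (.node 1 (.node 0 .leaf (.node 1 (.node 1 .leaf .leaf) (.node 2 .leaf .leaf))) .leaf) (.node 1 (.node 0 (.node 0 .leaf (.node 2 .leaf .leaf)) (.node 1 (.node 0 .leaf (.node 2 .leaf .leaf)) (.node 2 (.node 1 .leaf .leaf) .leaf))) .leaf)) .leaf))) (.node 2 (.node 1 (.node 0 (.node 1 (.node 1 .leaf .leaf) .leaf) (.node 1 (.node 0 .leaf (.node 1 (.node 2 (.node 0 .leaf (.node 1 .leaf .leaf)) .leaf) (.node 2 .leaf .leaf))) (.node 2 (.node 0 .leaf .leaf) .leaf))) .leaf) .leaf))) (.node 1 (.node 0 .leaf (.node 1 (.node 0 (.node 0 (.node 0 (.node 1 .leaf .leaf) (.node 1 .leaf .leaf)) (.node 1 (.node 1 (.node 0 (.node 2 .leaf .leaf)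 (.node 1 (.node 1 .leaf .leaf) .leaf)) .leaf) (.node 2 (.node 1 (.node 1 (.node 2 .leaf .leaf) (.node 2 .leaf .leaf)) .leaf) .leaf))) (.node 1 (.node 0 (.node 0 (.node 1 .leaf (.node 2 .leaf .leaf)) (.node 1 (.node 0 .leaf (.node 1 .leaf .leaf)) (.node 2 .leaf .leaf))) (.node 2 (.node 0 .leaf .leaf) .leaf)) (.node 2 (.node 0 (.node 1 (.node 0 .leaf (.node 1 .leaf .leaf)) .leaf) .leaf) .leaf))) (.node 2 (.node 0 (.node 1 (.node 0 (.node 0 .leaf .leaf) (.node 1 (.node 0 .leaf (.node 2 .leaf .leaf)) (.node 2 (.node 1 .leaf .leaf) .leaf))) .leaf) (.node 1 (.node 0 (.node 0 (.node 0 .leaf (.node 2 (.node 1 .leaf .leaf) .leaf)) (.node 1 (.node 0 .leaf (.node 2 .leaf .leaf)) (.node 2 .leaf .leaf))) (.node 1 (.node 0 (.node 0 .leaf (.node 2 .leaf .leaf)) (.node 1 (.node 0 .leaf (.node 1 (.node 2 .leaf .leaf) (.node 2 (.node 1 .leaf .leaf) .leaf))) (.node 2 (.node 0 .leaf (.node 1 (.node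 0 .leaf (.node 2 .leaf .leaf)) .leaf)) .leaf))) (.node 2 (.node 0 (.node 1 .leaf .leaf) .leaf) .leaf))) .leaf)) .leaf))) (.node 2 (.node 1 (.node 0 (.node 0 (.node 1 (.node 0 .leaf (.node 1 (.node 1 .leaf .leaf) (.node 2 (.node 0 .leaf .leaf) .leaf))) (.node 2 (.node 1 .leaf .leaf) .leaf)) (.node 1 (.node 1 (.node 0 .leaf .leaf) .leaf) (.node 2 (.node 1 (.node 2 .leaf .leaf) .leaf) .leaf))) (.node 2 (.node 0 (.node 1 .leaf .leaf) (.node 1 (.node 0 (.node 0 .leaf (.node 1 (.node 0 .leaf (.node 1 .leaf .leaf)) .leaf)) (.node 1 (.node 1 .leaf .leaf) .leaf)) .leaf)) .leaf)) .leaf) .leaf))) (.node 1 (.node 0 (.node 1 (.node 0 (.node 0 (.node 0 .leaf (.node 1 .leaf (.node 2 (.node 1 (.node 0 .leaf (.node 1 .leaf .leaf)) .leaf) .leaf))) (.node 1 (.node 0 (.node 2 .leaf .leaf) (.node 1 (.node 2 .leaf .leaf) (.node 2 (.node 1 .leaf .leaf) .leaf))) (.node 2 (.node 1 (.node 1 .leaf (.node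 2 .leaf .leaf)) .leaf) .leaf))) (.node 1 (.node 1 (.node 1 (.node 1 .leaf .leaf) (.node 2 (.node 0 .leaf .leaf) .leaf)) .leaf) (.node 2 (.node 0 .leaf (.node 1 (.node 0 (.node 0 .leaf (.node 2 .leaf .leaf)) (.node 1 (.node 0 (.node 1 .leaf .leaf) (.node 1 (.node 0 .leaf (.node 1 .leaf .leaf)) (.node 2 (.node 0 .leaf (.node 1 (.node 0 .leaf (.node 1 .leaf .leaf)) .leaf)) .leaf))) (.node 2 .leaf .leaf))) .leaf)) .leaf))) (.node 2 (.node 1 (.node 0 (.node 2 (.node 1 .leaf .leaf) .leaf) (.node 1 (.node 0 (.node 0 .leaf .leaf) (.node 1 (.node 0 .leaf .leaf) (.node 2 (.node 1 .leaf .leaf) .leaf))) (.node 2 (.node 1 (.node 1 (.node 1 .leaf .leaf) (.node 2 .leaf .leaf)) .leaf) .leaf))) .leaf) .leaf)) (.node 1 (.node 0 (.node 0 (.node 0 (.node 1 (.node 0 .leaf (.node 2 .leaf .leaf)) .leaf) (.node 2 (.node 1 (.node 0 .leaf .leaf) .leaf) .leaf)) (.node 1 (.node 0 (.node 0 (.node 1 (.node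 2 .leaf .leaf) .leaf) (.node 1 .leaf (.node 2 .leaf .leaf))) (.node 1 (.node 0 (.node 0 (.node 2 .leaf .leaf) (.node 1 (.node 0 .leaf .leaf) (.node 2 .leaf .leaf))) (.node 1 .leaf (.node 2 (.node 0 .leaf (.node 1 (.node 1 .leaf (.node 2 .leaf .leaf)) .leaf)) .leaf))) (.node 2 (.node 1 (.node 0 (.node 1 .leaf .leaf) .leaf) .leaf) .leaf))) (.node 2 (.node 1 (.node 0 (.node 0 (.node 0 .leaf (.node 1 (.node 1 .leaf .leaf) .leaf)) (.node 1 (.node 0 .leaf .leaf) .leaf)) (.node 1 (.node 0 .leaf (.node 1 .leaf (.node 2 (.node 1 .leaf .leaf) .leaf))) (.node 2 (.node 0 .leaf .leaf) .leaf))) .leaf) .leaf))) (.node 1 (.node 1 (.node 0 (.node 0 (.node 0 .leaf .leaf) (.node 1 (.node 0 .leaf (.node 1 .leaf (.node 2 .leaf .leaf))) (.node 2 .leaf .leaf))) (.node 1 (.node 1 .leaf .leaf) (.node 2 (.node 0 .leaf .leaf) .leaf))) (.node 2 (.node 0 (.node 1 (.node 0 .leaf (.node 2 .leaf .leaf)) .leaf)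 (.node 1 (.node 1 (.node 0 .leaf (.node 2 .leaf .leaf)) (.node 2 .leaf .leaf)) .leaf)) .leaf)) (.node 2 (.node 0 (.node 1 (.node 0 (.node 1 (.node 2 .leaf .leaf) .leaf) (.node 1 (.node 1 .leaf (.node 2 .leaf .leaf)) (.node 2 .leaf .leaf))) .leaf) (.node 1 (.node 0 (.node 2 .leaf .leaf) (.node 1 (.node 0 (.node 1 .leaf .leaf) (.node 1 .leaf (.node 2 (.node 1 .leaf .leaf) .leaf))) (.node 2 (.node 0 .leaf .leaf) .leaf))) .leaf)) .leaf))) (.node 2 (.node 1 (.node 0 (.node 0 (.node 0 (.node 1 .leaf .leaf) (.node 1 .leaf (.node 2 (.node 1 (.node 1 .leaf .leaf) .leaf) .leaf))) (.node 1 (.node 0 (.node 1 .leaf .leaf) (.node 1 (.node 0 .leaf (.node 1 .leaf (.node 2 .leaf .leaf))) (.node 2 .leaf .leaf))) (.node 2 .leaf .leaf))) (.node 1 (.node 1 (.node 0 .leaf (.node 1 (.node 0 .leaf (.node 2 .leaf .leaf)) (.node 2 (.node 1 .leaf .leaf) .leaf))) (.node 2 (.node 1 (.node 1 (.node 0 .leaf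 .leaf) .leaf) .leaf) .leaf)) (.node 2 (.node 0 (.node 1 .leaf .leaf) (.node 1 (.node 0 (.node 1 (.node 0 .leaf .leaf) .leaf) (.node 1 (.node 0 .leaf (.node 1 .leaf (.node 2 .leaf .leaf))) (.node 2 .leaf .leaf))) .leaf)) .leaf))) .leaf) .leaf))) (.node 2 (.node 0 (.node 1 (.node 0 (.node 0 (.node 0 (.node 1 .leaf .leaf) (.node 2 (.node 1 (.node 1 .leaf .leaf) .leaf) .leaf)) (.node 1 (.node 1 .leaf (.node 2 .leaf .leaf)) (.node 2 (.node 1 .leaf .leaf) .leaf))) (.node 1 (.node 0 (.node 1 (.node 2 .leaf .leaf) .leaf) (.node 1 (.node 0 (.node 0 (.node 1 .leaf .leaf) (.node 1 .leaf .leaf)) (.node 1 (.node 1 .leaf .leaf) (.node 2 .leaf .leaf))) (.node 2 (.node 0 .leaf .leaf) .leaf))) (.node 2 (.node 0 .leaf (.node 1 (.node 0 .leaf (.node 1 .leaf (.node 2 (.node 1 .leaf .leaf) .leaf))) .leaf)) .leaf))) .leaf) (.node 1 (.node 0 (.node 0 (.node 0 .leaf (.node 1 (.node 1 .leaf .leaf)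 (.node 2 .leaf .leaf))) (.node 2 (.node 1 (.node 0 (.node 0 (.node 0 .leaf .leaf) (.node 2 (.node 1 .leaf .leaf) .leaf)) (.node 2 (.node 0 (.node 1 .leaf .leaf) (.node 1 (.node 2 .leaf .leaf) .leaf)) .leaf)) .leaf) .leaf)) (.node 1 (.node 0 (.node 0 (.node 0 (.node 1 .leaf .leaf) (.node 1 (.node 2 .leaf .leaf) (.node 2 .leaf .leaf))) (.node 1 (.node 0 .leaf (.node 2 (.node 0 .leaf (.node 1 .leaf .leaf)) .leaf)) (.node 2 .leaf .leaf))) (.node 1 (.node 0 (.node 0 (.node 0 .leaf (.node 1 .leaf .leaf)) (.node 2 (.node 1 (.node 1 .leaf .leaf) .leaf) .leaf)) (.node 1 (.node 0 (.node 0 .leaf (.node 1 .leaf .leaf)) (.node 1 (.node 0 .leaf (.node 1 .leaf .leaf)) (.node 2 .leaf .leaf))) (.node 2 (.node 0 .leaf (.node 1 (.node 0 .leaf (.node 2 .leaf .leaf)) .leaf)) .leaf))) (.node 2 (.node 0 (.node 1 .leaf .leaf) (.node 1 (.node 0 (.node 1 (.node 0 .leaf .leaf) .leaf) (.node 1 (.node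 1 (.node 1 .leaf .leaf) .leaf) (.node 2 .leaf .leaf))) .leaf)) .leaf))) (.node 2 (.node 0 (.node 1 (.node 0 (.node 2 .leaf .leaf) (.node 1 (.node 0 (.node 1 .leaf .leaf) (.node 1 .leaf (.node 2 .leaf .leaf))) (.node 2 (.node 1 .leaf .leaf) .leaf))) .leaf) .leaf) .leaf))) .leaf)) .leaf))) (.node 2 (.node 0 (.node 1 (.node 0 (.node 1 (.node 0 (.node 0 (.node 0 .leaf (.node 2 .leaf .leaf)) (.node 1 .leaf (.node 2 .leaf .leaf))) (.node 1 (.node 0 (.node 1 .leaf .leaf) (.node 1 (.node 0 .leaf (.node 2 .leaf .leaf)) .leaf)) (.node 2 (.node 0 (.node 1 .leaf .leaf) .leaf) .leaf))) (.node 2 .leaf .leaf)) (.node 1 (.node 1 (.node 1 (.node 0 .leaf (.node 2 (.node 0 .leaf .leaf) .leaf)) .leaf) .leaf) (.node 2 (.node 0 (.node 1 (.node 1 .leaf .leaf) .leaf) (.node 1 (.node 0 (.node 0 (.node 0 .leaf (.node 1 .leaf (.node 2 .leaf .leaf))) (.node 1 .leaf (.node 2 .leaf .leaf))) (.node 1 (.node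 2 (.node 0 .leaf (.node 1 .leaf .leaf)) .leaf) (.node 2 (.node 0 (.node 1 (.node 1 .leaf .leaf) .leaf) (.node 1 (.node 0 .leaf (.node 1 .leaf (.node 2 .leaf .leaf))) .leaf)) .leaf))) .leaf)) .leaf))) .leaf) (.node 1 (.node 0 (.node 0 (.node 1 (.node 0 (.node 1 (.node 1 .leaf .leaf) (.node 2 (.node 1 .leaf .leaf) .leaf)) (.node 1 (.node 0 .leaf (.node 1 (.node 0 (.node 1 .leaf .leaf) .leaf) (.node 2 (.node 1 .leaf .leaf) .leaf))) (.node 2 (.node 1 (.node 2 .leaf .leaf) .leaf) .leaf))) .leaf) (.node 1 (.node 0 (.node 0 (.node 2 (.node 1 .leaf .leaf) .leaf) (.node 1 (.node 0 .leaf .leaf) (.node 2 (.node 1 .leaf .leaf) .leaf))) (.node 1 (.node 1 (.node 0 .leaf (.node 2 (.node 1 (.node 1 .leaf .leaf) .leaf) .leaf)) .leaf) (.node 2 (.node 0 (.node 1 .leaf .leaf) (.node 1 (.node 0 (.node 1 (.node 0 (.node 1 .leaf .leaf) .leaf) .leaf) .leaf) .leaf)) .leaf))) .leaf)) (.node 1 (.node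 0 (.node 0 (.node 0 (.node 1 .leaf .leaf) (.node 1 (.node 2 (.node 0 .leaf .leaf) .leaf) .leaf)) (.node 1 (.node 0 (.node 0 (.node 2 .leaf .leaf) (.node 2 .leaf .leaf)) (.node 1 (.node 0 (.node 0 (.node 0 .leaf (.node 2 .leaf .leaf)) .leaf) (.node 2 (.node 0 (.node 1 .leaf .leaf) .leaf) .leaf)) (.node 2 (.node 0 .leaf (.node 1 .leaf .leaf)) .leaf))) (.node 2 (.node 1 (.node 0 (.node 1 .leaf .leaf) (.node 1 (.node 0 .leaf (.node 2 .leaf .leaf)) (.node 2 .leaf .leaf))) .leaf) .leaf))) (.node 1 (.node 0 (.node 1 (.node 0 (.node 2 (.node 1 .leaf .leaf) .leaf) (.node 1 (.node 0 .leaf .leaf) (.node 2 .leaf .leaf))) (.node 2 (.node 1 (.node 1 .leaf .leaf) .leaf) .leaf)) (.node 1 (.node 0 (.node 0 (.node 2 .leaf .leaf) (.node 1 (.node 0 .leaf (.node 2 .leaf .leaf)) .leaf)) (.node 1 (.node 0 (.node 0 (.node 1 .leaf .leaf) (.node 1 .leaf .leaf)) (.node 1 (.node 2 .leaf .leaf) (.node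 2 .leaf .leaf))) (.node 2 (.node 0 .leaf (.node 1 (.node 2 .leaf .leaf) .leaf)) .leaf))) (.node 2 (.node 0 (.node 1 (.node 1 .leaf .leaf) .leaf) (.node 1 (.node 0 (.node 2 .leaf .leaf) (.node 1 (.node 0 .leaf .leaf) (.node 2 .leaf .leaf))) .leaf)) .leaf))) (.node 2 (.node 0 (.node 1 (.node 0 (.node 2 .leaf .leaf) (.node 2 (.node 0 .leaf .leaf) .leaf)) .leaf) (.node 1 (.node 0 (.node 2 .leaf .leaf) (.node 1 (.node 0 (.node 2 .leaf .leaf) (.node 1 (.node 0 .leaf (.node 1 .leaf .leaf)) (.node 2 (.node 0 .leaf .leaf) .leaf))) (.node 2 (.node 0 (.node 1 (.node 2 .leaf .leaf) .leaf) .leaf) .leaf))) .leaf)) .leaf))) (.node 2 (.node 1 (.node 0 (.node 0 (.node 0 .leaf (.node 1 .leaf (.node 2 (.node 1 .leaf .leaf) .leaf))) (.node 1 (.node 1 (.node 0 .leaf (.node 2 .leaf .leaf)) .leaf) (.node 2 .leaf .leaf))) (.node 1 (.node 0 (.node 0 .leaf (.node 2 (.node 1 (.node 0 .leaf .leaf) .leaf)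 .leaf)) (.node 1 (.node 0 (.node 0 (.node 1 .leaf .leaf) (.node 2 .leaf .leaf)) (.node 1 (.node 2 (.node 1 .leaf .leaf) .leaf) (.node 2 (.node 0 (.node 1 .leaf .leaf) .leaf) .leaf))) (.node 2 .leaf .leaf))) (.node 2 (.node 0 (.node 1 (.node 1 .leaf .leaf) .leaf) (.node 1 (.node 0 (.node 1 .leaf .leaf) (.node 1 (.node 1 (.node 1 .leaf .leaf) (.node 2 .leaf .leaf)) .leaf)) .leaf)) .leaf))) .leaf) .leaf))) .leaf)) .leaf)))

end Cfsg.Agent.Lib.Golay
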