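import Mathlib
import Cfsg.Agent.Lib.GolayOrbTree
import Cfsg.Agent.Lib.GolayOrbDataOct
import Cfsg.Agent.Lib.GolayOrbDataSex
import Cfsg.Agent.Lib.GolayOrbDataTri
import Cfsg.Agent.Lib.GolayOrbDataDod
import Cfsg.Agent.Lib.GolayOrbDataM24

set_option autoImplicit false
set_option maxRecDepth 100000
set_option linter.unusedSectionVars false
set_option linter.unusedTactic false
set_option linter.unreachableTactic false
set_option linter.unusedVariables false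
set_option linter.deprecated false

/-!
# Orbits of the stabilisers of an octad, a sextet, a trio, a pair of dodecads
-/

namespace Cfsg.Agent.Lib.Golay
open Cfsg Finset Cfsg.Agent.Lib.OrbitTree

open scoped Pointwise

section wrappers
variable {Z : Type*} [MulAction (Equiv.Perm GolayPt) Z]

/-- three orbits on a family of sets -/
theorem orb3_mask {z : Z} {gens : List ℕ} (hgens : GenOK z gens) {B : List ℕ} (hB : niceL B = true)
    (hzB : ∀ g ∈ M24, g • z = z → g • famOf B = famOf B)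
    {F : List ℕ} {Y : Set (Finset GolayPt)} (hY : Y = ofMask '' {y | y ∈ F})
    (hYinv : ∀ g ∈ M24, ∀ x ∈ Y, g • x ∈ Y)
    (hcount : ∀ v, {x | x ∈ Y ∧ J1 (famOf B) x = v}.ncard = (F.filter fun y => Nat.beq (jm B y) v).length)
    {r₁ r₂ r₃ v₁ v₂ v₃ a b c : ℕ} {T₁ T₂ T₃ : OTree}
    (hr : r₁ ∈ F ∧ r₂ ∈ F ∧ r₃ ∈ F) (hv : jm B r₁ = v₁ ∧ jm B r₂ = v₂ ∧ jm B r₃ = v₃)
    (c₁ : sortU ltN (r₁ :: evalT img gens T₁ r₁) = sortU ltN (F.filter fun y => Nat.beq (jm B y) v₁))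
    (c₂ : sortU ltN (r₂ :: evalT img gens T₂ r₂) = sortU ltN (F.filter fun y => Nat.beq (jm B y) v₂))
    (c₃ : sortU ltN (r₃ :: evalT img gens T₃ r₃) = sortU ltN (F.filter fun y => Nat.beq (jm B y) v₃))
    (hl : (F.filter fun y => Nat.beq (jm B y) v₁).length = a ∧ (F.filter fun y => Nat.beq (jm B y) v₂).length = b ∧
      (F.filter fun y => Nat.beq (jm B y) v₃).length = c)
    (hall : F.all (fun y => Nat.beq (jm B y) v₁ || Nat.beq (jm B y) v₂ || Nat.beq (jm B y) v₃) = true) :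
    Orb3 z Y a b c := by
  refine Orb3.of_classes (X₁ := ofMask r₁) (X₂ := ofMask r₂) (X₃ := ofMask r₃) (f := J1 (famOf B))
    (orbit_mask_tree hgens hB hzB hY hYinv hr.1 hv.1 T₁ c₁)
    (orbit_mask_tree hgens hB hzB hY hYinv hr.2.1 hv.2.1 T₂ c₂)
    (orbit_mask_tree hgens hB hzB hY hYinv hr.2.2 hv.2.2 T₃ c₃)
    (by rw [hcount]; exact hl.1) (by rw [hcount]; exact hl.2.1) (by rw [hcount]; exact hl.2.2) ?_
  intro x hx
  rw [hY] at hx
  obtain ⟨y, hy, rfl⟩ := hx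
  have h := List.all_eq_true.1 hall y hy
  simp only [Bool.or_eq_true, Nat.beq_eq] at h
  rw [jm_eq hB]
  rcases h with (h | h) | h
  · exact Or.inl h
  · exact Or.inr (Or.inl h)
  · exact Or.inr (Or.inr h)

/-- three orbits on a family of families -/
theorem orb3_fam {z : Z} {gens : List ℕ} (hgens : GenOK z gens) {B : List ℕ} (hB : niceL B = true)
    (hzB : ∀ g ∈ M24, g • z = z → g • famOf B = famOf B)
    {F : List (List ℕ)} (hF : ∀ y ∈ F, niceL y = true) {Y : Set (Finset (Finset GolayPt))}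
    (hY : Y = famOf '' {y | y ∈ F}) (hYinv : ∀ g ∈ M24, ∀ x ∈ Y, g • x ∈ Y)
    (hcount : ∀ v, {x | x ∈ Y ∧ J2 (famOf B) x = v}.ncard = (F.filter fun y => Nat.beq (jl B y) v).length)
    {r₁ r₂ r₃ : List ℕ} {v₁ v₂ v₃ a b c : ℕ} {T₁ T₂ T₃ : OTree}
    (hr : r₁ ∈ F ∧ r₂ ∈ F ∧ r₃ ∈ F) (hv : jl B r₁ = v₁ ∧ jl B r₂ = v₂ ∧ jl B r₃ = v₃)
    (c₁ : sortU ltL (r₁ :: evalT actS gens T₁ r₁) = sortU ltL (F.filter fun y => Nat.beq (jl B y) v₁))
    (c₂ : sortU ltL (r₂ :: evalT actS gens T₂ r₂) = sortU ltL (F.filter fun y => Nat.beq (jl B y) v₂))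
    (c₃ : sortU ltL (r₃ :: evalT actS gens T₃ r₃) = sortU ltL (F.filter fun y => Nat.beq (jl B y) v₃))
    (hl : (F.filter fun y => Nat.beq (jl B y) v₁).length = a ∧ (F.filter fun y => Nat.beq (jl B y) v₂).length = b ∧
      (F.filter fun y => Nat.beq (jl B y) v₃).length = c)
    (hall : F.all (fun y => Nat.beq (jl B y) v₁ || Nat.beq (jl B y) v₂ || Nat.beq (jl B y) v₃) = true) :
    Orb3 z Y a b c := by
  refine Orb3.of_classes (X₁ := famOf r₁) (X₂ := famOf r₂) (X₃ := famOf r₃) (f := J2 (famOf B))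
    (orbit_fam_tree hgens hB hzB hF hY hYinv hr.1 hv.1 T₁ c₁)
    (orbit_fam_tree hgens hB hzB hF hY hYinv hr.2.1 hv.2.1 T₂ c₂)
    (orbit_fam_tree hgens hB hzB hF hY hYinv hr.2.2 hv.2.2 T₃ c₃)
    (by rw [hcount]; exact hl.1) (by rw [hcount]; exact hl.2.1) (by rw [hcount]; exact hl.2.2) ?_
  intro x hx
  rw [hY] at hx
  obtain ⟨y, hy, rfl⟩ := hx
  have h := List.all_eq_true.1 hall y hy
  simp only [Bool.or_eq_true, Nat.beq_eq] at h
  rw [jl_eq hB (hF y hy)]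
  rcases h with (h | h) | h
  · exact Or.inl h
  · exact Or.inr (Or.inl h)
  · exact Or.inr (Or.inr h)

/-- four orbits on a family of families -/
theorem orb4_fam {z : Z} {gens : List ℕ} (hgens : GenOK z gens) {B : List ℕ} (hB : niceL B = true)
    (hzB : ∀ g ∈ M24, g • z = z → g • famOf B = famOf B)
    {F : List (List ℕ)} (hF : ∀ y ∈ F, niceL y = true) {Y : Set (Finset (Finset GolayPt))}
    (hY : Y = famOf '' {y | y ∈ F}) (hYinv : ∀ g ∈ M24, ∀ x ∈ Y, g • x ∈ Y)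
    (hcount : ∀ v, {x | x ∈ Y ∧ J2 (famOf B) x = v}.ncard = (F.filter fun y => Nat.beq (jl B y) v).length)
    {r₁ r₂ r₃ r₄ : List ℕ} {v₁ v₂ v₃ v₄ a b c d : ℕ} {T₁ T₂ T₃ T₄ : OTree}
    (hr : r₁ ∈ F ∧ r₂ ∈ F ∧ r₃ ∈ F ∧ r₄ ∈ F) (hv : jl B r₁ = v₁ ∧ jl B r₂ = v₂ ∧ jl B r₃ = v₃ ∧ jl B r₄ = v₄)
    (c₁ : sortU ltL (r₁ :: evalT actS gens T₁ r₁) = sortU ltL (F.filter fun y => Nat.beq (jl B y) v₁))
    (c₂ : sortU ltL (r₂ :: evalT actS gens T₂ r₂) = sortU ltL (F.filter fun y => Nat.beq (jl B y) v₂))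
    (c₃ : sortU ltL (r₃ :: evalT actS gens T₃ r₃) = sortU ltL (F.filter fun y => Nat.beq (jl B y) v₃))
    (c₄ : sortU ltL (r₄ :: evalT actS gens T₄ r₄) = sortU ltL (F.filter fun y => Nat.beq (jl B y) v₄))
    (hl : (F.filter fun y => Nat.beq (jl B y) v₁).length = a ∧ (F.filter fun y => Nat.beq (jl B y) v₂).length = b ∧
      (F.filter fun y => Nat.beq (jl B y) v₃).length = c ∧ (F.filter fun y => Nat.beq (jl B y) v₄).length = d)
    (hall : F.all (fun y => Nat.beq (jl B y) v₁ || Nat.beq (jl B y) v₂ || Nat.beq (jl B y) v₃ || Nat.beq (jl B y) v₄) = true) :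
    Orb4 z Y a b c d := by
  refine Orb4.of_classes (X₁ := famOf r₁) (X₂ := famOf r₂) (X₃ := famOf r₃) (X₄ := famOf r₄) (f := J2 (famOf B))
    (orbit_fam_tree hgens hB hzB hF hY hYinv hr.1 hv.1 T₁ c₁)
    (orbit_fam_tree hgens hB hzB hF hY hYinv hr.2.1 hv.2.1 T₂ c₂)
    (orbit_fam_tree hgens hB hzB hF hY hYinv hr.2.2.1 hv.2.2.1 T₃ c₃)
    (orbit_fam_tree hgens hB hzB hF hY hYinv hr.2.2.2 hv.2.2.2 T₄ c₄)
    (by rw [hcount]; exact hl.1) (by rw [hcount]; exact hl.2.1) (by rw [hcount]; exact hl.2.2.1)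
    (by rw [hcount]; exact hl.2.2.2) ?_
  intro x hx
  rw [hY] at hx
  obtain ⟨y, hy, rfl⟩ := hx
  have h := List.all_eq_true.1 hall y hy
  simp only [Bool.or_eq_true, Nat.beq_eq] at h
  rw [jl_eq hB (hF y hy)]
  rcases h with ((h | h) | h) | h
  · exact Or.inl h
  · exact Or.inr (Or.inl h)
  · exact Or.inr (Or.inr (Or.inl h))
  · exact Or.inr (Or.inr (Or.inr h))

end wrappers

theorem count_octads (B : List ℕ) (hB : niceL B = true) (v : ℕ) :
    {x | x ∈ octads ∧ J1 (famOf B) x = v}.ncard = (octL.filter fun y => Nat.beq (jm B y) v).length := by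
  apply ncard_octads_filter
  intro m _
  rw [jm_eq hB, Nat.beq_eq]

theorem count_sextets (B : List ℕ) (hB : niceL B = true) (v : ℕ) :
    {x | x ∈ sextets ∧ J2 (famOf B) x = v}.ncard = (sexL.filter fun y => Nat.beq (jl B y) v).length := by
  apply ncard_sextets_filter
  intro l hl
  rw [jl_eq hB (sexL_nice l hl), Nat.beq_eq]

theorem count_trios (B : List ℕ) (hB : niceL B = true) (v : ℕ) :
    {x | x ∈ trios ∧ J2 (famOf B) x = v}.ncard = (triL.filter fun y => Nat.beq (jl B y) v).length := by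
  apply ncard_trios_filter
  intro l hl
  rw [jl_eq hB (triL_nice l hl), Nat.beq_eq]

theorem oct0_zB : ∀ g ∈ M24, g • ofMask oct0 = ofMask oct0 → g • famOf [oct0] = famOf [oct0] := by
  intro g _ h
  rw [famOf_single]
  exact smul_single h

end Cfsg.Agent.Lib.Golay
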