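import Mathlib
import Cfsg.Agent.Lib.GolayOrbTree

set_option autoImplicit false
set_option maxRecDepth 100000

/-!
# Spanning trees of the orbits of the octad stabiliser on octads
-/

namespace Cfsg.Agent.Lib.Golay

def RR0 : ℕ := 337856

def RR4 : ℕ := 5279

def RR2 : ℕ := 84464

def CC4 : ℕ := 4038912

def AA2 : ℕ := 337856

def TT0 : OTree := (.node 0 (.node 0 (.node 0 .leaf .leaf) (.node 1 (.node 2 (.node 0 (.node 2 .leaf .leaf) (.node 2 .leaf .leaf)) .leaf) (.node 2 (.node 0 (.node 2 .leaf .leaf) (.node 1 (.node 0 .leaf .leaf) (.node 2 (.node 1 .leaf .leaf) .leaf))) .leaf))) (.node 1 (.node 0 (.node 2 .leaf .leaf) (.node 2 .leaf .leaf)) (.node 2 (.node 0 (.node 0 (.node 0 .leaf .leaf) (.node 2 (.node 0 .leaf .leaf) .leaf)) (.node 1 (.node 0 .leaf .leaf) (.node 2 (.node 2 .leaf .leaf) .leaf))) .leaf)))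

def TT4 : OTree := (.node 0 (.node 0 (.node 0 (.node 0 (.node 0 (.node 1 .leaf (.node 2 .leaf .leaf)) (.node 1 (.node 0 .leaf .leaf) (.node 2 .leaf .leaf))) (.node 1 (.node 0 (.node 1 .leaf .leaf) (.node 1 .leaf .leaf)) (.node 2 (.node 0 (.node 1 (.node 2 .leaf .leaf) (.node 2 (.node 2 .leaf .leaf) .leaf)) (.node 1 .leaf (.node 2 (.node 0 (.node 0 .leaf .leaf) (.node 2 .leaf .leaf)) .leaf))) .leaf))) (.node 1 (.node 0 (.node 1 .leaf .leaf) (.node 1 .leaf (.node 2 (.node 0 (.node 0 .leaf (.node 1 .leaf (.node 2 (.node 2 .leaf .leaf) .leaf))) .leaf) .leaf))) (.node 2 (.node 0 (.node 0 .leaf (.node 1 (.node 1 .leaf (.node 2 .leaf .leaf)) (.node 2 (.node 0 .leaf .leaf) .leaf))) (.node 1 (.node 1 (.node 1 .leaf .leaf) .leaf) (.node 2 (.node 0 (.node 0 .leaf (.node 1 .leaf .leaf)) (.node 1 .leaf .leaf)) .leaf))) .leaf))) (.node 1 (.node 0 (.node 0 (.node 0 (.node 2 .leaf .leaf) (.node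 2 (.node 0 .leaf (.node 2 .leaf .leaf)) .leaf)) (.node 2 (.node 0 (.node 0 .leaf (.node 1 .leaf .leaf)) (.node 2 (.node 0 .leaf .leaf) .leaf)) .leaf)) (.node 1 (.node 0 (.node 0 .leaf (.node 1 .leaf (.node 2 .leaf .leaf))) (.node 1 (.node 0 (.node 2 .leaf .leaf) .leaf) (.node 2 (.node 1 (.node 0 .leaf .leaf) .leaf) .leaf))) (.node 2 (.node 0 (.node 0 (.node 1 .leaf .leaf) (.node 1 (.node 0 .leaf (.node 1 .leaf (.node 2 .leaf .leaf))) .leaf)) (.node 2 (.node 1 (.node 1 .leaf .leaf) (.node 2 .leaf .leaf)) .leaf)) .leaf))) (.node 2 (.node 0 (.node 0 (.node 1 (.node 0 .leaf (.node 1 .leaf .leaf)) .leaf) (.node 1 (.node 1 .leaf .leaf) (.node 2 (.node 0 (.node 0 .leaf (.node 1 .leaf (.node 2 .leaf .leaf))) (.node 1 .leaf (.node 2 (.node 2 .leaf .leaf) .leaf))) .leaf))) (.node 1 (.node 0 (.node 0 (.node 0 .leaf (.node 1 .leaf .leaf)) (.node 2 .leaf .leaf)) (.node 2 (.node 0 (.node 1 .leaf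 (.node 2 .leaf .leaf)) (.node 1 (.node 2 .leaf .leaf) (.node 2 .leaf .leaf))) .leaf)) (.node 2 (.node 0 (.node 0 .leaf (.node 2 .leaf .leaf)) (.node 1 (.node 0 .leaf (.node 1 .leaf (.node 2 (.node 0 .leaf (.node 1 .leaf .leaf)) .leaf))) (.node 2 (.node 2 .leaf .leaf) .leaf))) .leaf))) .leaf))) (.node 1 (.node 0 (.node 0 (.node 1 (.node 1 .leaf (.node 2 .leaf .leaf)) .leaf) (.node 1 (.node 0 (.node 0 .leaf .leaf) (.node 1 (.node 0 .leaf (.node 1 (.node 0 .leaf .leaf) .leaf)) (.node 2 (.node 1 .leaf .leaf) .leaf))) (.node 2 (.node 0 (.node 0 .leaf .leaf) (.node 2 (.node 0 (.node 1 .leaf .leaf) (.node 1 .leaf .leaf)) .leaf)) .leaf))) (.node 1 (.node 1 (.node 0 (.node 0 (.node 1 .leaf (.node 2 .leaf .leaf)) .leaf) (.node 1 (.node 0 .leaf (.node 1 (.node 1 .leaf .leaf) .leaf)) (.node 2 (.node 0 .leaf (.node 1 .leaf (.node 2 .leaf .leaf))) .leaf))) (.node 2 (.node 0 .leaf (.node 1 (.node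 1 (.node 0 .leaf .leaf) (.node 2 (.node 0 .leaf .leaf) .leaf)) (.node 2 (.node 2 (.node 2 .leaf .leaf) .leaf) .leaf))) .leaf)) (.node 2 (.node 0 (.node 0 (.node 0 (.node 0 .leaf .leaf) (.node 1 .leaf (.node 2 .leaf .leaf))) (.node 1 (.node 0 .leaf .leaf) (.node 2 (.node 1 (.node 1 .leaf .leaf) .leaf) .leaf))) (.node 1 (.node 0 (.node 1 (.node 0 .leaf .leaf) (.node 2 (.node 0 .leaf (.node 1 .leaf .leaf)) .leaf)) (.node 1 (.node 0 .leaf (.node 2 (.node 0 .leaf .leaf) .leaf)) (.node 2 .leaf .leaf))) (.node 2 (.node 0 (.node 1 .leaf (.node 2 (.node 0 .leaf (.node 1 .leaf (.node 2 .leaf .leaf))) .leaf)) (.node 1 (.node 2 .leaf .leaf) (.node 2 (.node 2 .leaf .leaf) .leaf))) .leaf))) .leaf))) (.node 2 (.node 0 (.node 0 (.node 0 (.node 2 .leaf .leaf) (.node 1 (.node 1 .leaf (.node 2 .leaf .leaf)) .leaf)) (.node 1 (.node 1 .leaf (.node 2 (.node 0 (.node 1 .leaf .leaf) (.node 2 .leaf .leaf))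 .leaf)) (.node 2 (.node 0 (.node 0 .leaf .leaf) (.node 1 .leaf (.node 2 (.node 0 .leaf (.node 1 .leaf (.node 2 .leaf .leaf))) .leaf))) .leaf))) (.node 1 (.node 0 (.node 0 (.node 2 (.node 1 .leaf .leaf) .leaf) (.node 1 (.node 1 (.node 0 .leaf .leaf) .leaf) (.node 2 (.node 2 .leaf .leaf) .leaf))) (.node 1 (.node 0 (.node 0 .leaf (.node 1 .leaf .leaf)) (.node 1 .leaf .leaf)) (.node 2 (.node 1 (.node 0 .leaf (.node 1 .leaf .leaf)) (.node 2 (.node 1 .leaf (.node 2 .leaf .leaf)) .leaf)) .leaf))) (.node 2 (.node 0 (.node 0 (.node 0 (.node 2 .leaf .leaf) (.node 1 .leaf .leaf)) (.node 1 (.node 0 .leaf (.node 1 (.node 1 .leaf .leaf) (.node 2 .leaf .leaf))) (.node 2 (.node 0 (.node 2 .leaf .leaf) .leaf) .leaf))) (.node 1 (.node 1 (.node 0 .leaf .leaf) (.node 2 .leaf .leaf)) (.node 2 (.node 0 (.node 0 .leaf (.node 2 (.node 0 .leaf .leaf) .leaf)) (.node 1 (.node 1 .leaf .leaf) .leaf)) .leaf)))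 .leaf))) .leaf)))

def TT2 : OTree := (.node 0 (.node 0 (.node 0 (.node 1 (.node 0 (.node 0 .leaf (.node 2 (.node 2 .leaf .leaf) .leaf)) (.node 1 (.node 0 (.node 0 .leaf .leaf) (.node 2 .leaf .leaf)) (.node 2 .leaf .leaf))) (.node 2 (.node 0 (.node 2 (.node 0 .leaf (.node 1 .leaf .leaf)) .leaf) (.node 1 (.node 0 .leaf (.node 1 (.node 0 .leaf (.node 2 .leaf .leaf)) (.node 2 (.node 0 .leaf (.node 1 .leaf (.node 2 .leaf .leaf))) .leaf))) (.node 2 .leaf .leaf))) .leaf)) (.node 1 (.node 0 (.node 0 (.node 0 .leaf .leaf) (.node 1 (.node 1 .leaf (.node 2 .leaf .leaf)) (.node 2 (.node 0 .leaf .leaf) .leaf))) (.node 2 (.node 0 (.node 0 .leaf (.node 1 (.node 0 .leaf .leaf) (.node 2 .leaf .leaf))) (.node 1 (.node 0 .leaf (.node 1 .leaf (.node 2 .leaf .leaf))) (.node 2 .leaf .leaf))) .leaf)) (.node 2 (.node 0 (.node 0 (.node 1 .leaf .leaf) (.node 1 (.node 0 .leaf (.node 1 .leaf (.node 2 (.node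 2 .leaf .leaf) .leaf))) .leaf)) (.node 2 (.node 1 (.node 2 .leaf .leaf) (.node 2 (.node 0 .leaf .leaf) .leaf)) .leaf)) .leaf))) (.node 1 (.node 0 (.node 0 (.node 0 (.node 0 .leaf (.node 2 .leaf .leaf)) (.node 2 (.node 0 .leaf (.node 1 (.node 1 .leaf (.node 2 .leaf .leaf)) .leaf)) .leaf)) (.node 1 (.node 1 (.node 0 (.node 2 .leaf .leaf) .leaf) (.node 2 (.node 0 .leaf .leaf) .leaf)) (.node 2 (.node 0 .leaf (.node 2 (.node 2 (.node 1 .leaf .leaf) .leaf) .leaf)) .leaf))) (.node 1 (.node 1 (.node 2 (.node 0 (.node 0 .leaf (.node 1 .leaf (.node 2 .leaf .leaf))) (.node 1 (.node 0 .leaf .leaf) (.node 2 .leaf .leaf))) .leaf) (.node 2 (.node 0 (.node 0 (.node 1 .leaf .leaf) (.node 1 .leaf .leaf)) (.node 1 (.node 0 .leaf (.node 2 (.node 2 .leaf .leaf) .leaf)) (.node 2 .leaf .leaf))) .leaf)) (.node 2 (.node 0 (.node 1 (.node 1 .leaf .leaf) (.node 2 (.node 0 .leaf (.node 2 .leaf .leaf)) .leaf))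 (.node 1 (.node 0 (.node 0 .leaf (.node 2 .leaf .leaf)) (.node 1 (.node 0 .leaf (.node 1 (.node 2 .leaf .leaf) (.node 2 .leaf .leaf))) (.node 2 (.node 1 .leaf (.node 2 .leaf .leaf)) .leaf))) (.node 2 (.node 0 (.node 2 .leaf .leaf) (.node 1 (.node 1 (.node 0 .leaf .leaf) (.node 2 .leaf .leaf)) .leaf)) .leaf))) .leaf))) (.node 2 (.node 0 (.node 0 (.node 0 .leaf (.node 1 (.node 0 .leaf .leaf) .leaf)) (.node 1 (.node 0 (.node 0 (.node 2 .leaf .leaf) (.node 1 .leaf (.node 2 (.node 0 .leaf (.node 1 .leaf .leaf)) .leaf))) (.node 1 .leaf (.node 2 .leaf .leaf))) .leaf)) (.node 1 (.node 0 (.node 0 .leaf (.node 1 .leaf (.node 2 .leaf .leaf))) (.node 1 (.node 0 (.node 0 .leaf (.node 1 (.node 0 .leaf .leaf) .leaf)) (.node 2 .leaf .leaf)) (.node 2 (.node 1 (.node 2 .leaf .leaf) (.node 2 (.node 0 .leaf .leaf) .leaf)) .leaf))) (.node 2 (.node 0 (.node 0 (.node 1 .leaf (.node 2 .leaf .leaf)) (.node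 1 (.node 0 .leaf (.node 2 .leaf .leaf)) (.node 2 (.node 0 .leaf (.node 1 .leaf .leaf)) .leaf))) (.node 1 (.node 1 (.node 0 (.node 1 .leaf .leaf) (.node 1 (.node 1 .leaf .leaf) (.node 2 .leaf .leaf))) (.node 2 .leaf .leaf)) (.node 2 (.node 0 (.node 0 .leaf (.node 1 .leaf .leaf)) (.node 1 (.node 0 .leaf (.node 1 .leaf (.node 2 .leaf .leaf))) (.node 2 .leaf .leaf))) .leaf))) .leaf))) .leaf))) (.node 1 (.node 0 (.node 0 (.node 0 (.node 0 .leaf (.node 1 (.node 0 .leaf .leaf) (.node 2 (.node 2 .leaf .leaf) .leaf))) (.node 1 (.node 1 (.node 0 (.node 1 .leaf .leaf) (.node 2 .leaf .leaf)) .leaf) (.node 2 (.node 0 .leaf (.node 1 (.node 1 .leaf (.node 2 .leaf .leaf)) (.node 2 .leaf .leaf))) .leaf))) (.node 1 (.node 0 (.node 0 (.node 1 .leaf .leaf) (.node 1 (.node 2 .leaf .leaf) (.node 2 .leaf .leaf))) (.node 1 (.node 0 (.node 1 .leaf .leaf) .leaf) (.node 2 (.node 0 (.node 0 .leaf (.node 1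 .leaf (.node 2 (.node 0 .leaf (.node 1 .leaf .leaf)) .leaf))) (.node 1 (.node 0 .leaf .leaf) (.node 2 (.node 1 .leaf .leaf) .leaf))) .leaf))) (.node 2 (.node 0 (.node 0 .leaf (.node 1 .leaf (.node 2 (.node 1 .leaf .leaf) .leaf))) (.node 1 (.node 0 (.node 2 .leaf .leaf) (.node 2 (.node 1 .leaf .leaf) .leaf)) (.node 2 (.node 0 (.node 0 .leaf (.node 2 .leaf .leaf)) (.node 1 (.node 1 .leaf (.node 2 .leaf .leaf)) (.node 2 (.node 1 .leaf .leaf) .leaf))) .leaf))) .leaf))) (.node 1 (.node 0 (.node 0 (.node 0 (.node 0 .leaf .leaf) (.node 1 .leaf .leaf)) (.node 1 (.node 0 (.node 0 .leaf (.node 1 .leaf (.node 2 .leaf .leaf))) (.node 2 (.node 0 (.node 0 .leaf .leaf) (.node 1 .leaf (.node 2 .leaf .leaf))) .leaf)) (.node 2 (.node 1 .leaf .leaf) .leaf))) (.node 1 (.node 0 (.node 0 (.node 1 .leaf (.node 2 .leaf .leaf)) (.node 1 (.node 2 .leaf .leaf) (.node 2 .leaf .leaf))) (.node 2 (.node 0 .leaf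 (.node 2 (.node 2 .leaf .leaf) .leaf)) .leaf)) (.node 2 (.node 0 (.node 0 .leaf (.node 1 (.node 0 .leaf .leaf) (.node 2 (.node 1 .leaf .leaf) .leaf))) (.node 1 (.node 0 .leaf (.node 1 (.node 0 .leaf (.node 1 (.node 2 .leaf .leaf) .leaf)) .leaf)) (.node 2 (.node 0 (.node 2 .leaf .leaf) (.node 1 .leaf (.node 2 .leaf .leaf))) .leaf))) .leaf))) (.node 2 (.node 0 (.node 0 (.node 0 (.node 2 .leaf .leaf) .leaf) (.node 1 (.node 0 .leaf (.node 1 (.node 2 .leaf .leaf) (.node 2 (.node 0 .leaf .leaf) .leaf))) .leaf)) (.node 1 (.node 0 (.node 2 .leaf .leaf) (.node 2 (.node 2 (.node 1 .leaf .leaf) .leaf) .leaf)) (.node 2 (.node 1 (.node 1 (.node 0 .leaf (.node 1 .leaf .leaf)) .leaf) (.node 2 .leaf .leaf)) .leaf))) .leaf))) (.node 2 (.node 0 (.node 0 (.node 0 (.node 1 (.node 1 .leaf .leaf) (.node 2 (.node 2 .leaf .leaf) .leaf)) (.node 1 (.node 1 .leaf (.node 2 (.node 0 .leaf (.node 1 .leaf .leaf))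 .leaf)) (.node 2 (.node 0 .leaf (.node 1 (.node 2 .leaf .leaf) (.node 2 (.node 2 .leaf .leaf) .leaf))) .leaf))) (.node 1 (.node 0 (.node 0 .leaf (.node 1 (.node 0 .leaf (.node 2 .leaf .leaf)) .leaf)) (.node 2 (.node 0 (.node 1 (.node 0 .leaf .leaf) .leaf) (.node 1 .leaf (.node 2 .leaf .leaf))) .leaf)) (.node 2 (.node 0 (.node 0 .leaf (.node 1 (.node 1 .leaf (.node 2 .leaf .leaf)) (.node 2 (.node 2 .leaf .leaf) .leaf))) (.node 1 (.node 0 .leaf (.node 1 .leaf (.node 2 (.node 0 .leaf (.node 2 .leaf .leaf)) .leaf))) .leaf)) .leaf))) (.node 1 (.node 0 (.node 0 (.node 0 (.node 1 .leaf .leaf) (.node 1 (.node 0 .leaf (.node 1 .leaf .leaf)) (.node 2 (.node 0 .leaf .leaf) .leaf))) (.node 1 (.node 0 (.node 1 .leaf .leaf) (.node 1 .leaf (.node 2 (.node 2 .leaf .leaf) .leaf))) .leaf)) (.node 1 (.node 0 (.node 0 .leaf (.node 1 (.node 2 .leaf .leaf) (.node 2 .leaf .leaf))) (.node 1 (.node 0 (.node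 0 (.node 2 .leaf .leaf) (.node 2 .leaf .leaf)) .leaf) (.node 2 (.node 1 .leaf .leaf) .leaf))) (.node 2 (.node 0 (.node 0 .leaf (.node 1 .leaf .leaf)) (.node 1 (.node 0 .leaf .leaf) (.node 2 (.node 0 .leaf .leaf) .leaf))) .leaf))) (.node 2 (.node 0 (.node 0 (.node 0 .leaf (.node 1 .leaf .leaf)) (.node 1 (.node 0 (.node 0 .leaf (.node 2 .leaf .leaf)) (.node 2 (.node 0 .leaf (.node 2 .leaf .leaf)) .leaf)) (.node 2 (.node 0 .leaf (.node 2 .leaf .leaf)) .leaf))) (.node 1 (.node 0 (.node 0 (.node 1 .leaf .leaf) (.node 2 .leaf .leaf)) (.node 1 (.node 0 (.node 0 .leaf (.node 1 .leaf .leaf)) (.node 1 .leaf (.node 2 .leaf .leaf))) (.node 2 (.node 0 .leaf (.node 1 (.node 1 .leaf .leaf) (.node 2 .leaf .leaf))) .leaf))) (.node 2 (.node 0 (.node 1 .leaf (.node 2 .leaf .leaf)) (.node 1 (.node 0 (.node 1 .leaf .leaf) (.node 2 .leaf .leaf)) (.node 2 (.node 1 (.node 2 .leaf .leaf) (.node 2 .leaf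 .leaf)) .leaf))) .leaf))) .leaf))) .leaf)))

end Cfsg.Agent.Lib.Golay
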