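import Mathlib
import Cfsg.Agent.Lib.GolayOrbBase
import Cfsg.Agent.Lib.GolayOrbDataOO
import Cfsg.Agent.Lib.M24Facts

set_option autoImplicit false
set_option maxRecDepth 100000
set_option maxHeartbeats 4000000
set_option linter.unusedSectionVars false
set_option linter.unusedTactic false
set_option linter.unreachableTactic false
set_option linter.unusedVariables false
set_option linter.deprecated false

/-!
# Pairs of octads: orbits of the octad stabiliser, joint stabilisers
-/

namespace Cfsg.Agent.Lib.Golay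
open Cfsg Finset Cfsg.Agent.Lib.OrbitTree Cfsg.Agent.Lib.M24Facts

open scoped Pointwise

theorem J1_oct (x : Finset GolayPt) : J1 (famOf [oct0]) x = (x ∩ ofMask oct0).card ^ 2 := by
  rw [famOf_single]
  simp [J1]

theorem oct0_zB' : ∀ g ∈ M24, g • ofMask oct0 = ofMask oct0 → g • famOf [oct0] = famOf [oct0] := by
  intro g _ h
  rw [famOf_single]
  exact smul_single h

/-- octads disjoint from the standard one -/
theorem orb0 : orbS (ofMask oct0) (ofMask RR0) = {x | x ∈ octads ∧ J1 (famOf [oct0]) x = 0} :=
  orbit_mask_tree GOct_ok oct0_nice oct0_zB' octads_eq_image octads_inv (by decide +kernel) (by decide +kernel) TT0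
    (by decide +kernel)

/-- octads meeting the standard one in four points -/
theorem orb4 : orbS (ofMask oct0) (ofMask RR4) = {x | x ∈ octads ∧ J1 (famOf [oct0]) x = 16} :=
  orbit_mask_tree GOct_ok oct0_nice oct0_zB' octads_eq_image octads_inv (by decide +kernel) (by decide +kernel) TT4
    (by decide +kernel)

/-- octads meeting the standard one in two points -/
theorem orb2 : orbS (ofMask oct0) (ofMask RR2) = {x | x ∈ octads ∧ J1 (famOf [oct0]) x = 4} :=
  orbit_mask_tree GOct_ok oct0_nice oct0_zB' octads_eq_image octads_inv (by decide +kernel) (by decide +kernel) TT2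
    (by decide +kernel)

theorem count0 : {x | x ∈ octads ∧ J1 (famOf [oct0]) x = 0}.ncard = 30 := by
  rw [count_octads _ oct0_nice]; decide +kernel
theorem count4 : {x | x ∈ octads ∧ J1 (famOf [oct0]) x = 16}.ncard = 280 := by
  rw [count_octads _ oct0_nice]; decide +kernel
theorem count2 : {x | x ∈ octads ∧ J1 (famOf [oct0]) x = 4}.ncard = 448 := by
  rw [count_octads _ oct0_nice]; decide +kernel

theorem mem_orb0 {x : Finset GolayPt} (hx : x ∈ octads) (h : (x ∩ ofMask oct0).card = 0) :
    x ∈ orbS (ofMask oct0) (ofMask RR0) := by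
  rw [orb0]
  exact ⟨hx, by rw [J1_oct, h]; rfl⟩

theorem mem_orb4 {x : Finset GolayPt} (hx : x ∈ octads) (h : (x ∩ ofMask oct0).card = 4) :
    x ∈ orbS (ofMask oct0) (ofMask RR4) := by
  rw [orb4]
  exact ⟨hx, by rw [J1_oct, h]; rfl⟩

theorem mem_orb2 {x : Finset GolayPt} (hx : x ∈ octads) (h : (x ∩ ofMask oct0).card = 2) :
    x ∈ orbS (ofMask oct0) (ofMask RR2) := by
  rw [orb2]
  exact ⟨hx, by rw [J1_oct, h]; rfl⟩

/-- transport of a pair of octads to a standard pair -/
theorem exists_pair_base {o o' : Finset GolayPt} (ho : o ∈ octads) (ho' : o' ∈ octads) {n R : ℕ}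
    (hR : ∀ x ∈ octads, (x ∩ ofMask oct0).card = n → x ∈ orbS (ofMask oct0) (ofMask R))
    (h : (o ∩ o').card = n) : ∃ k ∈ M24, k • ofMask oct0 = o ∧ k • ofMask R = o' := by
  obtain ⟨k, hk, rfl⟩ := exists_smul_octad oct0_octad ho
  have h1 : k⁻¹ • o' ∈ octads := smul_mem_octads (M24.inv_mem hk) ho'
  have h2 : (k⁻¹ • o' ∩ ofMask oct0).card = n := by
    rw [← h, inter_comm (k • ofMask oct0) o', ← Finset.card_smul_finset k (k⁻¹ • o' ∩ ofMask oct0),
      Finset.smul_finset_inter, smul_inv_smul]
  obtain ⟨⟨⟨g, hg⟩, hs⟩, e⟩ := hR _ h1 h2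
  have hs' : g • ofMask oct0 = ofMask oct0 := hs
  have e' : g • ofMask R = k⁻¹ • o' := e
  refine ⟨k * g, M24.mul_mem hk hg, ?_, ?_⟩
  · rw [mul_smul, hs']
  · rw [mul_smul, e', smul_inv_smul]

/-- the number of octads -/
theorem ncard_octads : octads.ncard = 759 := by
  have := ncard_octads_filter (fun _ => True) (fun _ => true) (fun _ _ => by simp)
  have e : {S | S ∈ octads ∧ True} = octads := by ext; simp
  rw [e] at this
  rw [this, List.filter_true, octL_length]

/-- the order of an octad stabiliser -/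
theorem card_stab_octad {o : Finset GolayPt} (ho : o ∈ octads) : Nat.card ↥(MulAction.stabilizer M24 o) = 322560 := by
  have h1 := Subgroup.card_mul_index (MulAction.stabilizer M24 o)
  rw [MulAction.index_stabilizer, card_M24] at h1
  have h2 : MulAction.orbit ↥M24 o = octads := by
    ext x
    rw [MulAction.mem_orbit_iff]
    constructor
    · rintro ⟨⟨g, hg⟩, rfl⟩
      exact smul_mem_octads hg ho
    · intro hx
      obtain ⟨g, hg, e⟩ := exists_smul_octad ho hx
      exact ⟨⟨g, hg⟩, e⟩
  rw [h2, ncard_octads] at h1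
  omega

/-- the order of a joint stabiliser of two octads in a given orbit -/
theorem card_joint {o o' : Finset GolayPt} (ho : o ∈ octads) (ho' : o' ∈ octads) {R s : ℕ}
    {k : Equiv.Perm GolayPt} (hk : k ∈ M24) (h1 : k • ofMask oct0 = o) (h2 : k • ofMask R = o')
    (hs : (orbS (ofMask oct0) (ofMask R)).ncard = s) :
    s * Nat.card ↥(MulAction.stabilizer M24 o ⊓ MulAction.stabilizer M24 o') = 322560 := by
  have h3 := card_eq_orbit_mul_inf (MulAction.stabilizer M24 o) o'
  rw [card_stab_octad ho] at h3
  have h4 : (MulAction.orbit ↥(MulAction.stabilizer M24 o) o').ncard = s := by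
    rw [← hs, ← h1, ← h2]
    exact ncard_orbS_smul ⟨k, hk⟩ _ _
  rw [h4] at h3
  exact h3.symm

theorem card_joint0 {o o' : Finset GolayPt} (ho : o ∈ octads) (ho' : o' ∈ octads) (h : (o ∩ o').card = 0) :
    Nat.card ↥(MulAction.stabilizer M24 o ⊓ MulAction.stabilizer M24 o') = 10752 := by
  obtain ⟨k, hk, h1, h2⟩ := exists_pair_base ho ho' (fun x hx => mem_orb0 hx) h
  have := card_joint (s := 30) ho ho' hk h1 h2 (by rw [orb0, count0])
  omega

theorem card_joint4 {o o' : Finset GolayPt} (ho : o ∈ octads) (ho' : o' ∈ octads) (h : (o ∩ o').card = 4) :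
    Nat.card ↥(MulAction.stabilizer M24 o ⊓ MulAction.stabilizer M24 o') = 1152 := by
  obtain ⟨k, hk, h1, h2⟩ := exists_pair_base ho ho' (fun x hx => mem_orb4 hx) h
  have := card_joint (s := 280) ho ho' hk h1 h2 (by rw [orb4, count4])
  omega

theorem card_joint2 {o o' : Finset GolayPt} (ho : o ∈ octads) (ho' : o' ∈ octads) (h : (o ∩ o').card = 2) :
    Nat.card ↥(MulAction.stabilizer M24 o ⊓ MulAction.stabilizer M24 o') = 720 := by
  obtain ⟨k, hk, h1, h2⟩ := exists_pair_base ho ho' (fun x hx => mem_orb2 hx) h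
  have := card_joint (s := 448) ho ho' hk h1 h2 (by rw [orb2, count2])
  omega

/-! ### isomorphism with a symmetric group from a faithful action -/

/-- a faithful action on `n` points of a group of order `n!` is the symmetric group -/
theorem iso_perm_of_faithful {G : Type*} [Group G] [Finite G] {A : Finset GolayPt} {n : ℕ} (hA : A.card = n)
    (act : G →* Equiv.Perm GolayPt) (hact : ∀ g, ∀ p, p ∈ A ↔ act g p ∈ A)
    (hinj : ∀ g, (∀ p ∈ A, act g p = p) → g = 1) (hcard : Nat.card G = n.factorial) :
    Nonempty (G ≃* Equiv.Perm (Fin n)) := by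
  classical
  let φ : G →* Equiv.Perm {p // p ∈ A} :=
    { toFun := fun g => (act g).subtypePerm (fun p => (hact g p).symm)
      map_one' := by
        apply Equiv.ext
        intro p
        apply Subtype.ext
        show act 1 p.1 = p.1
        rw [map_one]
        rfl
      map_mul' := by
        intro a b
        apply Equiv.ext
        intro p
        apply Subtype.ext
        show act (a * b) p.1 = act a (act b p.1)
        rw [map_mul]
        rfl }
  have hα : Fintype.card {p // p ∈ A} = n := by
    rw [Fintype.card_coe, hA]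
  let e : {p // p ∈ A} ≃ Fin n := Fintype.equivFinOfCardEq hα
  let ψ : G →* Equiv.Perm (Fin n) := (Equiv.permCongrHom e).toMonoidHom.comp φ
  have hψ : Function.Injective ψ := by
    rw [injective_iff_map_eq_one]
    intro g hg
    apply hinj
    intro p hp
    have h1 : φ g = 1 := by
      have : (Equiv.permCongrHom e) (φ g) = 1 := hg
      exact (Equiv.permCongrHom e).map_eq_one_iff.1 this
    have h2 := congrArg (fun s : Equiv.Perm {p // p ∈ A} => ((s ⟨p, hp⟩ : {p // p ∈ A}) : GolayPt)) h1
    exact h2
  have hcard2 : Nat.card G = Nat.card (Equiv.Perm (Fin n)) := by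
    rw [hcard, Nat.card_eq_fintype_card, Fintype.card_perm, Fintype.card_fin]
  have hb : Function.Bijective ψ := (Nat.bijective_iff_injective_and_card ψ).2 ⟨hψ, hcard2⟩
  exact ⟨MulEquiv.ofBijective ψ hb⟩

/-! ### the joint stabiliser of two octads meeting in two points -/

theorem R2_fix : S48L.all (fun s => !(maskInv s RR2 && Nat.beq (ap s 17) 17) || isIdC s) = true := by decide +kernel

theorem R2_lt : RR2 < 2 ^ 24 := by decide +kernel

/-- the standard joint stabiliser acts faithfully on the six points of the first octad outside the second -/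
theorem faithful_base {g : Equiv.Perm GolayPt} (hg : g ∈ M24) (h2 : g • ofMask RR2 = ofMask RR2)
    (h : ∀ p ∈ ofMask oct0 \ ofMask RR2, g p = p) : g = 1 := by
  have hp : ∀ i ∈ [3,2,1,0,17,23], g (pt i) = pt i := by
    intro i hi
    apply h
    rw [Finset.mem_sdiff, pt_mem_ofMask (by simp at hi; omega), pt_mem_ofMask (by simp at hi; omega)]
    revert i
    decide +kernel
  have hG : g ∈ G [3,2,1,0,23] := by
    refine ⟨hg, fun i hi => hp i ?_⟩
    simp only [List.mem_cons, List.not_mem_nil, or_false] at hi ⊢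
    tauto
  obtain ⟨s, hs, rfl⟩ := mem_S48L hG
  have hv := isM24_valid (S48L_isM24 s hs)
  have h3 := List.all_eq_true.1 R2_fix s hs
  have h4 : maskInv s RR2 = true := (maskInv_spec hv R2_lt).2 h2
  have h5 : Nat.beq (ap s 17) 17 = true := by
    have h6 := hp 17 (by simp)
    rw [decode_pt hv (by norm_num)] at h6
    rw [pt_injOn ((repBy_decode hv).lt (by norm_num)) (by norm_num) h6]
    rfl
  rw [h4, h5] at h3
  exact isIdC_spec hv h3

/-- S6 from two octads meeting in two points -/
theorem joint2_iso {o o' : Finset GolayPt} (ho : o ∈ octads) (ho' : o' ∈ octads) (h : (o ∩ o').card = 2) :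
    Nonempty (↥(MulAction.stabilizer M24 o ⊓ MulAction.stabilizer M24 o') ≃* Equiv.Perm (Fin 6)) := by
  have : Finite ↥(MulAction.stabilizer M24 o ⊓ MulAction.stabilizer M24 o') :=
    Nat.finite_of_card_ne_zero (by rw [card_joint2 ho ho' h]; norm_num)
  obtain ⟨k, hk, h1, h2⟩ := exists_pair_base ho ho' (fun x hx => mem_orb2 hx) h
  have hA : (o \ o').card = 6 := by
    have := Finset.card_sdiff_add_card_inter o o'
    rw [h, ho.2] at this
    omega
  let act : ↥(MulAction.stabilizer M24 o ⊓ MulAction.stabilizer M24 o') →* Equiv.Perm GolayPt :=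
    M24.subtype.comp (Subgroup.subtype _)
  have hact : ∀ g, ∀ p, p ∈ o \ o' ↔ act g p ∈ o \ o' := by
    rintro ⟨⟨g, hg⟩, hg1, hg2⟩ p
    have e1 : g • o = o := hg1
    have e2 : g • o' = o' := hg2
    change p ∈ o \ o' ↔ g p ∈ o \ o'
    have h3 : g • (o \ o') = o \ o' := by
      rw [Finset.smul_finset_sdiff, e1, e2]
    constructor
    · intro hp
      exact smul_mem h3 hp
    · intro hp
      by_contra hn
      exact smul_not_mem h3 hn hp
  refine iso_perm_of_faithful hA act hact ?_ (by rw [card_joint2 ho ho' h]; rfl)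
  rintro ⟨⟨g, hg⟩, hg1, hg2⟩ hfix
  have e1 : g • o = o := hg1
  have e2 : g • o' = o' := hg2
  have h3 : k⁻¹ * g * k = 1 := by
    apply faithful_base (M24.mul_mem (M24.mul_mem (M24.inv_mem hk) hg) hk)
    · rw [mul_smul, mul_smul, h2, e2, ← h2, inv_smul_smul]
    · intro p hp
      have h4 : k p ∈ o \ o' := by
        rw [← h1, ← h2, ← Finset.smul_finset_sdiff]
        exact Finset.mem_smul_finset.2 ⟨p, hp, rfl⟩
      have h5 : g (k p) = k p := hfix _ h4
      simp [Equiv.Perm.mul_apply, h5]
  have h4 : g = 1 := by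
    have : g = k * (k⁻¹ * g * k) * k⁻¹ := by group
    rw [this, h3]
    group
  subst h4
  rfl

end Cfsg.Agent.Lib.Golay
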