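import Mathlib
import Cfsg.Agent.Lib.OutHat

set_option autoImplicit false
set_option linter.unusedSectionVars false
set_option linter.unusedVariables false
set_option linter.style.haveILetI false
set_option linter.unusedSimpArgs false

/-!
# Bounding a permutation group by colour refinement

Let `H` be a group of permutations of `Fin n` preserving an edge colouring `W`. A vertex colouring
invariant under `H` can be refined by counting, at each vertex, the total edge colour towards a colour
class, and a point stabiliser keeps a colouring in which the point is singled out. When the final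
colouring is injective, the product of the cell sizes of the chosen points bounds the order of `H`.
All of it is a computation on lists of natural numbers that the kernel can carry out.
-/

namespace Cfsg.Agent.Lib.GraphRefine

open Finset MulAction

/-- The vertices of colour `γ` (as items). -/
def cellOf {α : Type*} (γ : ℕ) : List ℕ → List α → List α
  | c :: cs, a :: as => if c == γ then a :: cellOf γ cs as else cellOf γ cs as
  | _, _ => []

/-- Total edge colour from an item towards a list. -/
def sumW {α : Type*} (W : α → α → ℕ) (a : α) (l : List α) : ℕ :=
  l.foldr (fun b s => W a b + s) 0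

/-- The refined colours. -/
def stepAux {α : Type*} (W : α → α → ℕ) (cell : List α) : List ℕ → List α → List ℕ
  | c :: cs, a :: as => ((c * 1048576 + sumW W a cell) % 2305843009213693951) :: stepAux W cell cs as
  | _, _ => []

def stepCol {α : Type*} (W : α → α → ℕ) (rows : List α) (col : List ℕ) (γ : ℕ) : List ℕ :=
  stepAux W (cellOf γ col rows) col rows

/-- Number of vertices of colour `γ`. -/
def cellCount (γ : ℕ) : List ℕ → ℕ
  | [] => 0
  | c :: cs => if c == γ then cellCount γ cs + 1 else cellCount γ cs

/-- Give the vertex `b` the colour `f`. -/
def setAt (f : ℕ) : ℕ → List ℕ → List ℕ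
  | _, [] => []
  | 0, _ :: cs => f :: cs
  | b + 1, c :: cs => c :: setAt f b cs

/-- Operations of the certificate. -/
inductive Op
  | split (γ : ℕ)
  | ind (b f : ℕ)

/-- Run a certificate. -/
def run {α : Type*} (W : α → α → ℕ) (rows : List α) : List Op → List ℕ → Option ℕ
  | [], col => if col.Nodup then some 1 else none
  | Op.split γ :: ops, col => run W rows ops (stepCol W rows col γ)
  | Op.ind b f :: ops, col =>
    match run W rows ops (setAt f b col) with
    | some B => if b < col.length then some (cellCount (col.getD b 0) col * B) else none
    | none => none

section Semantics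

variable {α : Type*}

theorem length_stepAux (W : α → α → ℕ) (cell : List α) (col : List ℕ) (rows : List α)
    (h : col.length = rows.length) : (stepAux W cell col rows).length = col.length := by
  induction col generalizing rows with
  | nil => simp [stepAux]
  | cons c cs ih =>
    cases rows with
    | nil => simp at h
    | cons a as =>
      simp only [stepAux, List.length_cons] at *
      rw [ih as (by omega)]

theorem getD_stepAux (W : α → α → ℕ) (cell : List α) (col : List ℕ) (rows : List α) (da : α)
    (h : col.length = rows.length) (i : ℕ) (hi : i < col.length) :
    (stepAux W cell col rows).getD i 0 =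
      (col.getD i 0 * 1048576 + sumW W (rows.getD i da) cell) % 2305843009213693951 := by
  induction col generalizing rows i with
  | nil => simp at hi
  | cons c cs ih =>
    cases rows with
    | nil => simp at h
    | cons a as =>
      simp only [List.length_cons] at h hi
      cases i with
      | zero => simp [stepAux]
      | succ i =>
        simp only [stepAux, List.getD_cons_succ]
        exact ih as (by omega) i (by omega)

theorem length_setAt (f b : ℕ) (col : List ℕ) : (setAt f b col).length = col.length := by
  induction col generalizing b with
  | nil => simp [setAt]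
  | cons c cs ih =>
    cases b with
    | zero => simp [setAt]
    | succ b => simp [setAt, ih]

theorem getD_setAt (f b : ℕ) (col : List ℕ) (hb : b < col.length) (i : ℕ) :
    (setAt f b col).getD i 0 = if i = b then f else col.getD i 0 := by
  induction col generalizing b i with
  | nil => simp at hb
  | cons c cs ih =>
    cases b with
    | zero =>
      cases i with
      | zero => simp [setAt]
      | succ i => simp [setAt]
    | succ b =>
      simp only [List.length_cons] at hb
      cases i with
      | zero => simp [setAt]
      | succ i =>
        simp only [setAt, List.getD_cons_succ]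
        rw [ih b (by omega) i]
        simp

/-- Counting the cell with a filter on `Fin n`. -/
theorem cellCount_eq (γ : ℕ) (col : List ℕ) :
    cellCount γ col = (univ.filter (fun y : Fin col.length => col.getD y.1 0 = γ)).card := by
  induction col with
  | nil => simp [cellCount]
  | cons c cs ih =>
    rw [cellCount]
    have e : (univ.filter (fun y : Fin (c :: cs).length => (c :: cs).getD y.1 0 = γ)).card =
        (if c = γ then 1 else 0) + (univ.filter (fun y : Fin cs.length => cs.getD y.1 0 = γ)).card := by
      simp only [List.length_cons]
      rw [Finset.card_filter, Fin.sum_univ_succ, ← Finset.card_filter]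
      simp
    rw [e, ih]
    by_cases h : c = γ
    · simp [h]
      omega
    · simp [h]

/-- The sum along a cell as a sum over `Fin n`. -/
theorem sumW_cellOf (W : α → α → ℕ) (a : α) (γ : ℕ) (col : List ℕ) (rows : List α) (da : α)
    (h : col.length = rows.length) :
    sumW W a (cellOf γ col rows) =
      ∑ y ∈ univ.filter (fun y : Fin col.length => col.getD y.1 0 = γ), W a (rows.getD y.1 da) := by
  induction col generalizing rows with
  | nil => simp [cellOf, sumW]
  | cons c cs ih =>
    cases rows with
    | nil => simp at h
    | cons b bs =>
      simp only [List.length_cons] at h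
      have h' : cs.length = bs.length := by omega
      have key : ∑ y ∈ univ.filter (fun y : Fin (c :: cs).length => (c :: cs).getD y.1 0 = γ),
          W a ((b :: bs).getD y.1 da) =
          (if c = γ then W a b else 0) +
            ∑ y ∈ univ.filter (fun y : Fin cs.length => cs.getD y.1 0 = γ), W a (bs.getD y.1 da) := by
        simp only [List.length_cons]
        rw [Finset.sum_filter, Fin.sum_univ_succ, Finset.sum_filter]
        simp
      rw [key, ← ih bs h']
      simp only [cellOf, sumW, beq_iff_eq]
      by_cases hc : c = γ
      · simp [hc]
      · simp [hc]

end Semantics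

section Group

variable {α : Type*} {n : ℕ}

/-- A colouring is invariant under a group of permutations. -/
def Inv (H : Subgroup (Equiv.Perm (Fin n))) (col : List ℕ) : Prop :=
  ∀ g ∈ H, ∀ x : Fin n, col.getD (g x).1 0 = col.getD x.1 0

/-- The group preserves the edge colouring. -/
def Pres (W : α → α → ℕ) (rows : List α) (da : α) (H : Subgroup (Equiv.Perm (Fin n))) : Prop :=
  ∀ g ∈ H, ∀ x y : Fin n, W (rows.getD (g x).1 da) (rows.getD (g y).1 da) = W (rows.getD x.1 da) (rows.getD y.1 da)

theorem inv_step (W : α → α → ℕ) (rows : List α) (da : α) (H : Subgroup (Equiv.Perm (Fin n))) (col : List ℕ)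
    (hc : col.length = n) (hr : rows.length = n) (hP : Pres W rows da H) (hI : Inv H col) (γ : ℕ) :
    Inv H (stepCol W rows col γ) := by
  subst hc
  intro g hg x
  have hlen : col.length = rows.length := hr.symm
  unfold stepCol
  rw [getD_stepAux W _ col rows da hlen _ (g x).2, getD_stepAux W _ col rows da hlen _ x.2, hI g hg x,
    sumW_cellOf W _ γ col rows da hlen, sumW_cellOf W _ γ col rows da hlen]
  congr 2
  apply Finset.sum_bij (fun y _ => (g⁻¹ : Equiv.Perm (Fin col.length)) y)
  · intro y hy
    simp only [mem_filter, mem_univ, true_and] at hy ⊢
    rw [← hI g⁻¹ (H.inv_mem hg) y] at hy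
    exact hy
  · intro a _ b _ e
    exact (g⁻¹ : Equiv.Perm (Fin col.length)).injective e
  · intro y hy
    refine ⟨g y, ?_, by simp⟩
    simp only [mem_filter, mem_univ, true_and] at hy ⊢
    rw [hI g hg y]
    exact hy
  · intro y _
    have := hP g hg x ((g⁻¹ : Equiv.Perm (Fin col.length)) y)
    simpa using this

/-- The bound given by a certificate. -/
theorem bound_of_run (W : α → α → ℕ) (rows : List α) (da : α) (hr : rows.length = n) (ops : List Op) :
    ∀ (col : List ℕ) (H : Subgroup (Equiv.Perm (Fin n))) (B : ℕ), col.length = n → Pres W rows da H → Inv H col →
      run W rows ops col = some B → Nat.card H ≤ B := by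
  induction ops with
  | nil =>
    intro col H B hc hP hI hrun
    simp only [run] at hrun
    split_ifs at hrun with hnd
    have hB : B = 1 := by
      simp only [Option.some.injEq] at hrun
      exact hrun.symm
    subst hB
    have hbot : H = ⊥ := by
      rw [eq_bot_iff]
      intro g hg
      rw [Subgroup.mem_bot]
      ext x
      have h1 := hI g hg x
      have hx : x.1 < col.length := hc ▸ x.2
      have hgx : (g x).1 < col.length := hc ▸ (g x).2
      rw [List.getD_eq_getElem _ _ hx, List.getD_eq_getElem _ _ hgx] at h1
      have := (List.Nodup.getElem_inj_iff hnd).1 h1
      exact congrArg (fun i => i) this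
    rw [hbot]
    simp
  | cons op ops ih =>
    intro col H B hc hP hI hrun
    cases op with
    | split γ =>
      simp only [run] at hrun
      refine ih _ H B ?_ hP (inv_step W rows da H col hc hr hP hI γ) hrun
      unfold stepCol
      rw [length_stepAux]
      · exact hc
      · rw [hc, hr]
    | ind b f =>
      simp only [run] at hrun
      cases hrec : run W rows ops (setAt f b col) with
      | none =>
        rw [hrec] at hrun
        simp at hrun
      | some B' =>
        rw [hrec] at hrun
        simp only at hrun
        split_ifs at hrun with hb
        simp only [Option.some.injEq] at hrun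
        have hbn : b < n := hc ▸ hb
        let b' : Fin n := ⟨b, hbn⟩
        let H' : Subgroup (Equiv.Perm (Fin n)) := H ⊓ stabilizer (Equiv.Perm (Fin n)) b'
        have hfix : ∀ g ∈ H', g b' = b' := fun g hg => hg.2
        have hI' : Inv H' (setAt f b col) := by
          intro g hg x
          have h1 := hI g hg.1 x
          rw [getD_setAt f b col hb, getD_setAt f b col hb, h1]
          by_cases hx : x.1 = b
          · have hx' : x = b' := Fin.ext hx
            rw [hx', hfix g hg]
          · have hgx : (g x).1 ≠ b := by
              intro e
              have e' : g x = b' := Fin.ext e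
              rw [← hfix g hg] at e'
              exact hx (congrArg Fin.val (g.injective e'))
            rw [if_neg hgx, if_neg hx]
        have hP' : Pres W rows da H' := fun g hg x y => hP g hg.1 x y
        have h2 := ih (setAt f b col) H' B' (by rw [length_setAt]; exact hc) hP' hI' hrec
        have h3 := Cfsg.Agent.Lib.OutHat.card_eq_orbit_mul_inf' H b'
        have h4 : (orbit H b').ncard ≤ cellCount (col.getD b 0) col := by
          subst hc
          rw [cellCount_eq, ← Set.ncard_coe_finset]
          apply Set.ncard_le_ncard _ (Finset.finite_toSet _)
          rintro _ ⟨g, rfl⟩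
          simp only [coe_filter, mem_univ, true_and, Set.mem_ofPred_eq]
          exact hI g.1 g.2 b'
        rw [h3, ← hrun]
        exact Nat.mul_le_mul h4 h2

/-- The full group of permutations preserving the edge colouring. -/
def AutW (W : α → α → ℕ) (rows : List α) (da : α) : Subgroup (Equiv.Perm (Fin n)) where
  carrier := {g | ∀ x y : Fin n, W (rows.getD (g x).1 da) (rows.getD (g y).1 da) = W (rows.getD x.1 da) (rows.getD y.1 da)}
  one_mem' := fun x y => rfl
  mul_mem' := by
    intro a b ha hb x y
    exact (ha (b x) (b y)).trans (hb x y)
  inv_mem' := by
    intro a ha x y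
    have := ha (a⁻¹ x) (a⁻¹ y)
    rw [show a (a⁻¹ x) = x by simp, show a (a⁻¹ y) = y by simp] at this
    exact this.symm

/-- A group of permutations of a set with an edge colouring, transported to `Fin n`. -/
theorem card_le_of_run {Ω : Type*} (e : Fin n ≃ Ω) (W : α → α → ℕ) (rows : List α) (da : α) (hr : rows.length = n)
    (A : Subgroup (Equiv.Perm Ω))
    (hA : ∀ g ∈ A, ∀ x y : Fin n, W (rows.getD (e.symm (g (e x))).1 da) (rows.getD (e.symm (g (e y))).1 da) =
      W (rows.getD x.1 da) (rows.getD y.1 da))
    (ops : List Op) {B : ℕ} (hrun : run W rows ops (List.replicate n 0) = some B) : Nat.card A ≤ B := by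
  let φ : Equiv.Perm Ω ≃* Equiv.Perm (Fin n) :=
    { toFun := fun g => e.trans (g.trans e.symm)
      invFun := fun g => e.symm.trans (g.trans e)
      left_inv := fun g => by ext x; simp
      right_inv := fun g => by ext x; simp
      map_mul' := fun a b => by ext x; simp }
  let H : Subgroup (Equiv.Perm (Fin n)) := A.map φ.toMonoidHom
  have hH : Nat.card H = Nat.card A :=
    (Nat.card_congr (Subgroup.equivMapOfInjective A φ.toMonoidHom φ.injective).toEquiv).symm
  rw [← hH]
  refine bound_of_run W rows da hr ops _ H B (by simp) ?_ ?_ hrun
  · rintro _ ⟨g, hg, rfl⟩ x y
    exact hA g hg x y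
  · intro g _ x
    simp

end Group

end Cfsg.Agent.Lib.GraphRefine
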