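import Mathlib
import Cfsg.Agent.Lib.GraphRefine

set_option autoImplicit false
set_option linter.unusedVariables false

/-!
# Running a refinement certificate in pieces

Long certificates are run in pieces, with the colouring after each piece written out, so that each piece is checked
on its own. The functions of this file have the same values as those of `GraphRefine`, and they are written with
recursors, which the kernel evaluates with few steps.
-/

namespace Cfsg.Agent.Lib.GraphRefine

section Fast

variable {α : Type*}

/-- Total edge colour from an item towards a list. -/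
@[reducible] noncomputable def sumF (W : α → α → ℕ) (a : α) (l : List α) : ℕ :=
  List.rec (motive := fun _ => ℕ) 0 (fun b _ ih => Nat.add (W a b) ih) l

theorem sumF_eq (W : α → α → ℕ) (a : α) (l : List α) : sumF W a l = sumW W a l := by
  induction l with
  | nil => rfl
  | cons b l ih =>
    show Nat.add (W a b) (sumF W a l) = _
    rw [ih]
    rfl

/-- The vertices of colour `γ`. -/
@[reducible] noncomputable def cellF (γ : ℕ) (col : List ℕ) : List α → List α :=
  List.rec (motive := fun _ => List α → List α) (fun _ => [])
    (fun c _ ih rs => List.rec (motive := fun _ => List α) []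
      (fun a as _ => Bool.rec (ih as) (a :: ih as) (Nat.beq c γ)) rs) col

theorem cellF_eq (γ : ℕ) (col : List ℕ) (rows : List α) : cellF γ col rows = cellOf γ col rows := by
  induction col generalizing rows with
  | nil => rfl
  | cons c cs ih =>
    cases rows with
    | nil => rfl
    | cons a as =>
      show (Bool.rec (cellF γ cs as) (a :: cellF γ cs as) (Nat.beq c γ) : List α) = _
      rw [ih]
      by_cases h : c = γ
      · subst h
        simp [cellOf]
      · have h2 : Nat.beq c γ = false := by
          cases h' : Nat.beq c γ
          · rfl
          · exact absurd (Nat.eq_of_beq_eq_true h') h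
        rw [h2]
        simp [cellOf, h]

/-- The refined colours. -/
@[reducible] noncomputable def stepF (W : α → α → ℕ) (cell : List α) (col : List ℕ) : List α → List ℕ :=
  List.rec (motive := fun _ => List α → List ℕ) (fun _ => [])
    (fun c _ ih rs => List.rec (motive := fun _ => List ℕ) []
      (fun a as _ => Nat.mod (Nat.add (Nat.mul c 1048576) (sumF W a cell)) 2305843009213693951 :: ih as) rs) col

theorem stepF_eq (W : α → α → ℕ) (cell : List α) (col : List ℕ) (rows : List α) :
    stepF W cell col rows = stepAux W cell col rows := by
  induction col generalizing rows with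
  | nil => rfl
  | cons c cs ih =>
    cases rows with
    | nil => rfl
    | cons a as =>
      show Nat.mod (Nat.add (Nat.mul c 1048576) (sumF W a cell)) 2305843009213693951 :: stepF W cell cs as = _
      rw [ih, sumF_eq]
      rfl

/-- The effect of a part of a certificate: the colouring after it, and the product of the cell sizes. -/
noncomputable def adv (W : α → α → ℕ) (rows : List α) : List Op → List ℕ → ℕ → Option (List ℕ × ℕ)
  | [], col, m => some (col, m)
  | Op.split γ :: ops, col, m => adv W rows ops (stepF W (cellF γ col rows) col rows) m
  | Op.ind b f :: ops, col, m =>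
    if b < col.length then adv W rows ops (setAt f b col) (m * cellCount (col.getD b 0) col) else none

theorem run_adv_aux (W : α → α → ℕ) (rows : List α) (ops₂ : List Op) (col' : List ℕ) {B : ℕ}
    (h2 : run W rows ops₂ col' = some B) (ops : List Op) :
    ∀ (col : List ℕ) (m m' : ℕ), adv W rows ops col m = some (col', m') →
      ∃ k, m' = m * k ∧ run W rows (ops ++ ops₂) col = some (k * B) := by
  induction ops with
  | nil =>
    intro col m m' h
    simp only [adv, Option.some.injEq, Prod.mk.injEq] at h
    obtain ⟨rfl, rfl⟩ := h
    exact ⟨1, by simp, by simpa using h2⟩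
  | cons op ops ih =>
    intro col m m' h
    cases op with
    | split γ =>
      simp only [adv] at h
      rw [stepF_eq, cellF_eq] at h
      exact ih _ _ _ h
    | ind b f =>
      simp only [adv] at h
      split_ifs at h with hb
      obtain ⟨k, hk, hr⟩ := ih _ _ _ h
      refine ⟨cellCount (col.getD b 0) col * k, ?_, ?_⟩
      · rw [hk]
        ring
      · simp only [List.cons_append, run, hr]
        rw [if_pos hb]
        simp only [Option.some.injEq]
        ring

theorem run_chain {W : α → α → ℕ} {rows : List α} {ops ops₂ : List Op} {col col' : List ℕ} {m B : ℕ}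
    (h1 : adv W rows ops col 1 = some (col', m)) (h2 : run W rows ops₂ col' = some B) :
    run W rows (ops ++ ops₂) col = some (m * B) := by
  obtain ⟨k, hk, hr⟩ := run_adv_aux W rows ops₂ col' h2 ops col 1 m h1
  rw [hk, one_mul]
  exact hr

/-- Distinctness of a list of numbers, through residues marked in a number. -/
def ndChk (q : ℕ) : List ℕ → ℕ → Bool
  | [], _ => true
  | c :: cs, mask =>
    cond (mask.testBit (c % q)) false (ndChk q cs (Nat.lor mask (Nat.shiftLeft 1 (c % q))))

theorem ndChk_spec (q : ℕ) (l : List ℕ) : ∀ mask, ndChk q l mask = true →
    (∀ x ∈ l, mask.testBit (x % q) = false) ∧ l.Nodup := by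
  induction l with
  | nil => simp
  | cons c cs ih =>
    intro mask h
    simp only [ndChk] at h
    cases h1 : mask.testBit (c % q) with
    | true =>
      rw [h1] at h
      simp at h
    | false =>
      rw [h1] at h
      simp only [cond_false] at h
      obtain ⟨h2, h3⟩ := ih _ h
      have h4 : ∀ x ∈ cs, mask.testBit (x % q) = false ∧ x % q ≠ c % q := by
        intro x hx
        have h5 := h2 x hx
        have e : Nat.lor mask (Nat.shiftLeft 1 (c % q)) = mask ||| (1 <<< (c % q)) := rfl
        rw [e, Nat.testBit_or, Bool.or_eq_false_iff, Nat.testBit_shiftLeft] at h5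
        refine ⟨h5.1, fun e2 => ?_⟩
        have h6 := h5.2
        simp [e2] at h6
      refine ⟨?_, ?_⟩
      · intro x hx
        rcases List.mem_cons.1 hx with rfl | hx
        · exact h1
        · exact (h4 x hx).1
      · refine List.nodup_cons.2 ⟨fun hm => ?_, h3⟩
        exact (h4 c hm).2 rfl

theorem run_nil {W : α → α → ℕ} {rows : List α} {col : List ℕ} {q : ℕ} (h : ndChk q col 0 = true) :
    run W rows [] col = some 1 := by
  simp [run, (ndChk_spec q col 0 h).2]

end Fast

end Cfsg.Agent.Lib.GraphRefine
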