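import Mathlib
import Cfsg.Agent.Lib.HHCore

/-!
# A refinement of the Hall--Higman inequality

The commutant of an operator of finite order prime to the characteristic has dimension at least the
dimension of the space.
-/

set_option autoImplicit false
set_option linter.unusedSectionVars false
set_option linter.unusedVariables false

namespace Cfsg.Agent.Lib.HHCore2

open Module Cfsg.Agent.Lib.HHCore

universe u

variable {𝔽 : Type u} [Field 𝔽]

section Eigen

variable {W : Type*} [AddCommGroup W] [Module 𝔽 W] [FiniteDimensional 𝔽 W]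

theorem centralizer_ge [IsAlgClosed 𝔽] (f : End 𝔽 W) {N : ℕ} (hN' : (N : 𝔽) ≠ 0)
    (hf : f ^ N = 1) (C : Submodule 𝔽 (End 𝔽 W)) (hC : ∀ m, m * f = f * m → m ∈ C) :
    finrank 𝔽 W ≤ finrank 𝔽 C := by
  classical
  obtain ⟨I, _, b, d, hd⟩ := exists_eigenbasis f hN' hf
  let A := LinearMap.toMatrixAlgEquiv b
  have hAf : A f = Matrix.diagonal d := by
    ext i j
    rw [LinearMap.toMatrixAlgEquiv_apply, hd]
    by_cases h : i = j
    · subst h; simp [b.repr_self]
    · simp [Matrix.diagonal_apply_ne _ h, b.repr_self, Ne.symm h]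
  have hcomm : ∀ X : I → 𝔽, Matrix.diagonal X * Matrix.diagonal d = Matrix.diagonal d * Matrix.diagonal X := by
    intro X
    rw [Matrix.diagonal_mul_diagonal, Matrix.diagonal_mul_diagonal]
    congr 1
    ext i
    exact mul_comm _ _
  have hmem : ∀ X : I → 𝔽, A.symm (Matrix.diagonal X) ∈ C := by
    intro X
    apply hC
    apply A.injective
    rw [map_mul, map_mul, AlgEquiv.apply_symm_apply, hAf, hcomm]
  let Ψ : (I → 𝔽) →ₗ[𝔽] C :=
    { toFun := fun X => ⟨A.symm (Matrix.diagonal X), hmem X⟩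
      map_add' := by
        intro X Y
        apply Subtype.ext
        show A.symm (Matrix.diagonal (X + Y)) = A.symm (Matrix.diagonal X) + A.symm (Matrix.diagonal Y)
        rw [← map_add, Matrix.diagonal_add]
        rfl
      map_smul' := by
        intro c X
        apply Subtype.ext
        show A.symm (Matrix.diagonal (c • X)) = c • A.symm (Matrix.diagonal X)
        rw [← map_smul, Matrix.diagonal_smul] }
  have hΨ : Function.Injective Ψ := by
    intro X Y h
    have h1 : A.symm (Matrix.diagonal X) = A.symm (Matrix.diagonal Y) := congrArg Subtype.val h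
    exact Matrix.diagonal_injective (A.symm.injective h1)
  have hfr := LinearMap.finrank_le_finrank_of_injective hΨ
  rw [Module.finrank_fintype_fun_eq_card] at hfr
  have hW : finrank 𝔽 W = Fintype.card I := Module.finrank_eq_card_basis b
  rw [hW]
  exact hfr

end Eigen

section Simple

variable {U : Type*} [AddCommGroup U] [Module 𝔽 U] [FiniteDimensional 𝔽 U] [Nontrivial U]

/-- The central inequality: a simple subalgebra normalized by an operator `g` with
`g ^ N = 1`, `1 + g + ⋯ + g ^ (N-1) = 0` has a large centralizer of `g`. -/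
theorem simple_subalgebra_bound2 [IsAlgClosed 𝔽] (B : Subalgebra 𝔽 (End 𝔽 U)) [IsSimpleRing B]
    (g h : End 𝔽 U) (hgh : g * h = 1) (hhg : h * g = 1)
    (hB : ∀ x ∈ B, g * x * h ∈ B) {N : ℕ} (hN : 0 < N) (hN' : (N : 𝔽) ≠ 0) (hgN : g ^ N = 1)
    (hnorm : ∑ j ∈ Finset.range N, g ^ j = 0)
    (C : Submodule 𝔽 B) (hC : ∀ x : B, g * (x : End 𝔽 U) = x * g → x ∈ C) :
    ∃ D : ℕ, finrank 𝔽 B = D ^ 2 ∧ D ^ 2 ≤ (N - 1) * finrank 𝔽 C ∧ D ≤ finrank 𝔽 C := by
  classical
  obtain ⟨D, hD, ⟨Φ⟩⟩ := IsSimpleRing.exists_algEquiv_matrix_of_isAlgClosed 𝔽 B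
  let W := Fin D → 𝔽
  let Ψ : B ≃ₐ[𝔽] End 𝔽 W := Φ.trans Matrix.toLinAlgEquiv'
  have hfinB : finrank 𝔽 B = D ^ 2 := by
    rw [Φ.toLinearEquiv.finrank_eq, Module.finrank_matrix]; simp [sq]
  have hfinW : finrank 𝔽 W = D := by simp [W]
  have : Nontrivial W := inferInstance
  have hhN : h ^ N = 1 := by
    have h1 : Commute g h := by
      show g * h = h * g
      rw [hgh, hhg]
    have h2 := h1.mul_pow N
    rw [hgh, one_pow, hgN, one_mul] at h2
    exact h2.symm
  -- conjugation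
  let αL : B →ₗ[𝔽] B :=
    { toFun := fun x => ⟨g * x * h, hB _ x.2⟩
      map_add' := by intro x y; ext1; simp [mul_add, add_mul]
      map_smul' := by intro c x; ext1; simp }
  have hαLc : ∀ x : B, (αL x : End 𝔽 U) = g * x * h := fun x => rfl
  let αB : B →ₐ[𝔽] B := AlgHom.ofLinearMap αL
    (by ext1; rw [hαLc]; simp [hgh])
    (by
      intro x y; ext1
      rw [hαLc, Subalgebra.coe_mul, Subalgebra.coe_mul, hαLc, hαLc]
      calc g * (↑x * ↑y) * h = g * ↑x * (1 : End 𝔽 U) * ↑y * h := by simp [mul_assoc]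
        _ = g * ↑x * (h * g) * ↑y * h := by rw [hhg]
        _ = _ := by simp only [mul_assoc])
  have hαBc : ∀ x : B, (αB x : End 𝔽 U) = g * x * h := fun x => rfl
  have hαBinj : Function.Injective αB := by
    intro x y hxy
    have h1 : g * (x : End 𝔽 U) * h = g * y * h := by
      rw [← hαBc, ← hαBc, hxy]
    have h2 : (x : End 𝔽 U) = y := by
      have h3 := congrArg (fun z => h * z * g) h1
      have h4 : ∀ z : End 𝔽 U, h * (g * z * h) * g = z := by
        intro z
        calc h * (g * z * h) * g = (h * g) * z * (h * g) := by simp only [mul_assoc]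
          _ = z := by rw [hhg]; simp
      rwa [h4, h4] at h3
    exact Subtype.ext h2
  let α : End 𝔽 W →ₐ[𝔽] End 𝔽 W := (Ψ : B →ₐ[𝔽] End 𝔽 W).comp (αB.comp (Ψ.symm : End 𝔽 W →ₐ[𝔽] B))
  have hα : ∀ x : B, α (Ψ x) = Ψ (αB x) := by
    intro x
    show Ψ (αB (Ψ.symm (Ψ x))) = _
    rw [AlgEquiv.symm_apply_apply]
  have hαinj : Function.Injective α := by
    intro m m' hm
    have h1 : Ψ (αB (Ψ.symm m)) = Ψ (αB (Ψ.symm m')) := hm
    exact Ψ.symm.injective (hαBinj (Ψ.injective h1))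
  obtain ⟨P, hPu, hP⟩ := skolem_noether α hαinj
  -- the `N`-th power is central
  have hPB : ∀ x : B, αB x * Ψ.symm P = Ψ.symm P * x := by
    intro x
    apply Ψ.injective
    rw [map_mul, map_mul, AlgEquiv.apply_symm_apply, ← hα, hP]
  have hit : ∀ (j : ℕ) (x : B), ∃ y : B, (y : End 𝔽 U) = g ^ j * x * h ^ j ∧
      y * (Ψ.symm P) ^ j = (Ψ.symm P) ^ j * x := by
    intro j
    induction j with
    | zero => intro x; exact ⟨x, by simp, by simp⟩
    | succ j ih =>
      intro x
      obtain ⟨y, hy1, hy2⟩ := ih x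
      refine ⟨αB y, ?_, ?_⟩
      · rw [hαBc, hy1, pow_succ' g, pow_succ h]
        simp only [mul_assoc]
      · rw [pow_succ', ← mul_assoc, hPB, mul_assoc, hy2, mul_assoc]
  have hcent : ∀ m : End 𝔽 W, m * P ^ N = P ^ N * m := by
    intro m
    obtain ⟨y, hy1, hy2⟩ := hit N (Ψ.symm m)
    have hy3 : y = Ψ.symm m := by
      apply Subtype.ext
      rw [hy1, hgN, hhN]; simp
    rw [hy3] at hy2
    have := congrArg Ψ hy2
    simpa [map_mul, map_pow] using this
  obtain ⟨κ, hκ⟩ := central_scalar _ hcent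
  have hκ0 : κ ≠ 0 := by
    rintro rfl
    rw [zero_smul] at hκ
    have : IsUnit (P ^ N) := hPu.pow N
    rw [hκ] at this
    exact not_isUnit_zero this
  obtain ⟨κ', hκ'⟩ := IsAlgClosed.exists_pow_nat_eq κ hN
  have hκ'0 : κ' ≠ 0 := by
    rintro rfl
    rw [zero_pow hN.ne'] at hκ'
    exact hκ0 hκ'.symm
  let P₁ : End 𝔽 W := κ'⁻¹ • P
  have hP₁N : P₁ ^ N = 1 := by
    show (κ'⁻¹ • P) ^ N = 1
    rw [smul_pow, hκ, smul_smul, inv_pow, hκ', inv_mul_cancel₀ hκ0, one_smul]
  have hP₁ : ∀ m, α m * P₁ = P₁ * m := by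
    intro m
    show α m * (κ'⁻¹ • P) = (κ'⁻¹ • P) * m
    rw [mul_smul_comm, smul_mul_assoc, hP]
  let θ : B := Ψ.symm P₁
  have hθN : θ ^ N = 1 := by
    apply Ψ.injective
    rw [map_pow, map_one, AlgEquiv.apply_symm_apply, hP₁N]
  have hθ : ∀ x : B, αB x * θ = θ * x := by
    intro x
    apply Ψ.injective
    rw [map_mul, map_mul, AlgEquiv.apply_symm_apply, ← hα, hP₁]
  -- the operator `ψ`
  let θ' : B := θ ^ (N - 1)
  have hθθ' : θ * θ' = 1 := by
    show θ * θ ^ (N - 1) = 1
    rw [← pow_succ', Nat.sub_add_cancel hN, hθN]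
  have hθ'θ : θ' * θ = 1 := by
    show θ ^ (N - 1) * θ = 1
    rw [← pow_succ, Nat.sub_add_cancel hN, hθN]
  let th : End 𝔽 U := (θ : End 𝔽 U)
  let th' : End 𝔽 U := (θ' : End 𝔽 U)
  have hthth' : th * th' = 1 := congrArg (fun z : B => (z : End 𝔽 U)) hθθ'
  have hth'th : th' * th = 1 := congrArg (fun z : B => (z : End 𝔽 U)) hθ'θ
  have hthN : th ^ N = 1 := by
    show ((θ : B) : End 𝔽 U) ^ N = 1
    rw [← Subalgebra.coe_pow, hθN]; rfl
  have hconj : ∀ x : B, g * (x : End 𝔽 U) * h = th * x * th' := by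
    intro x
    have h1 : (g * (x : End 𝔽 U) * h) * th = th * x :=
      congrArg (fun z : B => (z : End 𝔽 U)) (hθ x)
    calc g * (x : End 𝔽 U) * h = (g * (x : End 𝔽 U) * h) * (th * th') := by rw [hthth', mul_one]
      _ = ((g * (x : End 𝔽 U) * h) * th) * th' := by simp only [mul_assoc]
      _ = _ := by rw [h1]
  let ψ : End 𝔽 U := th' * g
  have hψ : ∀ x : B, ψ * x = x * ψ := by
    intro x
    calc ψ * x = th' * (g * (x : End 𝔽 U) * (h * g)) := by
          rw [hhg, mul_one]; simp only [ψ, mul_assoc]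
      _ = th' * ((g * (x : End 𝔽 U) * h) * g) := by simp only [mul_assoc]
      _ = th' * ((th * x * th') * g) := by rw [hconj]
      _ = (th' * th) * x * (th' * g) := by simp only [mul_assoc]
      _ = x * ψ := by rw [hth'th, one_mul]
  have hgeq : g = th * ψ := by
    show g = th * (th' * g)
    rw [← mul_assoc, hthth', one_mul]
  have hcomm : Commute th ψ := (hψ θ).symm
  have hgpow : ∀ j, g ^ j = th ^ j * ψ ^ j := by
    intro j
    rw [hgeq]
    exact hcomm.mul_pow j
  have hψN : ψ ^ N = 1 := by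
    have := hgpow N
    rw [hgN, hthN, one_mul] at this
    exact this.symm
  obtain ⟨c, hc⟩ := Module.End.exists_eigenvalue ψ
  obtain ⟨u₀, hu₀⟩ := hc.exists_hasEigenvector
  have hcN : c ^ N = 1 := by
    have h1 := hu₀.pow_apply N
    rw [hψN, Module.End.one_apply] at h1
    have h2 : (c ^ N - 1) • u₀ = 0 := by
      rw [sub_smul, one_smul, ← h1, sub_self]
    rcases smul_eq_zero.mp h2 with h3 | h3
    · exact sub_eq_zero.mp h3
    · exact absurd h3 hu₀.2
  have hc0 : c ≠ 0 := by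
    rintro rfl
    rw [zero_pow hN.ne'] at hcN
    exact zero_ne_one hcN
  let E := Module.End.eigenspace ψ c
  have hEinv : ∀ (x : B) (u : U), u ∈ E → (x : End 𝔽 U) u ∈ E := by
    intro x u hu
    rw [Module.End.mem_eigenspace_iff] at hu ⊢
    have h1 := congrArg (fun z : End 𝔽 U => z u) (hψ x)
    simp only [Module.End.mul_apply, hu, map_smul] at h1
    exact h1
  let I : TwoSidedIdeal B := TwoSidedIdeal.mk' {x : B | ∀ u ∈ E, (x : End 𝔽 U) u = 0}
    (by intro u _; rfl)
    (by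
      intro x y hx hy u hu
      show (x : End 𝔽 U) u + (y : End 𝔽 U) u = 0
      rw [hx u hu, hy u hu, add_zero])
    (by
      intro x hx u hu
      show -((x : End 𝔽 U) u) = 0
      rw [hx u hu, neg_zero])
    (by
      intro x y hy u hu
      show (x : End 𝔽 U) ((y : End 𝔽 U) u) = 0
      rw [hy u hu, map_zero])
    (by
      intro x y hx u hu
      show (x : End 𝔽 U) ((y : End 𝔽 U) u) = 0
      exact hx _ (hEinv y u hu))
  have hIbot : I = ⊥ := by
    refine (eq_bot_or_eq_top I).resolve_right ?_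
    intro hI
    have h1 : (1 : B) ∈ I := by rw [hI]; trivial
    have h2 : ∀ u ∈ E, ((1 : B) : End 𝔽 U) u = 0 := (TwoSidedIdeal.mem_mk' _ _ _ _ _ _ _).mp h1
    have h3 := h2 u₀ (Module.End.mem_eigenspace_iff.mpr hu₀.apply_eq_smul)
    exact hu₀.2 h3
  let β : B := ∑ j ∈ Finset.range N, c ^ j • θ ^ j
  have hβI : β ∈ I := by
    refine (TwoSidedIdeal.mem_mk' _ _ _ _ _ _ _).mpr ?_
    intro u hu
    have hu' : ψ u = c • u := Module.End.mem_eigenspace_iff.mp hu
    have hψj : ∀ j, (ψ ^ j) u = c ^ j • u := by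
      intro j
      induction j with
      | zero => simp
      | succ j ih =>
        rw [pow_succ, Module.End.mul_apply, hu', map_smul, ih, smul_smul, pow_succ, mul_comm]
    have h1 := congrArg (fun z : End 𝔽 U => z u) hnorm
    simp only [LinearMap.sum_apply, LinearMap.zero_apply] at h1
    have h2 : ((β : B) : End 𝔽 U) u = ∑ j ∈ Finset.range N, (g ^ j) u := by
      show ((∑ j ∈ Finset.range N, c ^ j • θ ^ j : B) : End 𝔽 U) u = _
      rw [AddSubmonoidClass.coe_finsetSum, LinearMap.sum_apply]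
      refine Finset.sum_congr rfl fun j _ => ?_
      rw [hgpow, Module.End.mul_apply, hψj, map_smul]
      rfl
    rw [h2, h1]
  have hβ0 : β = 0 := by
    rw [hIbot] at hβI
    exact (TwoSidedIdeal.mem_bot _).mp hβI
  let f : End 𝔽 W := c • P₁
  have hfN : f ^ N = 1 := by
    show (c • P₁) ^ N = 1
    rw [smul_pow, hcN, hP₁N, one_smul]
  have hfnorm : ∑ j ∈ Finset.range N, f ^ j = 0 := by
    have h1 := congrArg Ψ hβ0
    rw [map_zero, map_sum] at h1
    rw [← h1]
    refine Finset.sum_congr rfl fun j _ => ?_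
    show (c • P₁) ^ j = _
    rw [smul_pow, map_smul, map_pow, AlgEquiv.apply_symm_apply]
  let C' : Submodule 𝔽 (End 𝔽 W) := C.map (Ψ.toLinearEquiv : B →ₗ[𝔽] End 𝔽 W)
  have hC' : ∀ m, m * f = f * m → m ∈ C' := by
    intro m hm
    have hm1 : m * P₁ = P₁ * m := by
      have h1 : c • (m * P₁) = c • (P₁ * m) := by
        rw [← mul_smul_comm, ← smul_mul_assoc]
        exact hm
      exact smul_right_injective _ hc0 h1
    let x : B := Ψ.symm m
    have hxθ : x * θ = θ * x := by
      apply Ψ.injective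
      simp only [x, θ, map_mul, AlgEquiv.apply_symm_apply]
      exact hm1
    have hαx : αB x = x := by
      have h1 : αB x * θ = x * θ := by rw [hθ, hxθ]
      calc αB x = αB x * (θ * θ') := by rw [hθθ', mul_one]
        _ = (αB x * θ) * θ' := by rw [mul_assoc]
        _ = (x * θ) * θ' := by rw [h1]
        _ = x := by rw [mul_assoc, hθθ', mul_one]
    have hgx : g * (x : End 𝔽 U) = x * g := by
      have h1 : g * (x : End 𝔽 U) * h = x := congrArg (fun z : B => (z : End 𝔽 U)) hαx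
      calc g * (x : End 𝔽 U) = g * (x : End 𝔽 U) * (h * g) := by rw [hhg, mul_one]
        _ = (g * (x : End 𝔽 U) * h) * g := by rw [mul_assoc, mul_assoc, mul_assoc]
        _ = x * g := by rw [h1]
    refine ⟨x, hC x hgx, ?_⟩
    show Ψ (Ψ.symm m) = m
    rw [AlgEquiv.apply_symm_apply]
  have hbound := centralizer_bound f hN hN' hfN hfnorm C' hC'
  have hge := centralizer_ge f hN' hfN C' hC'
  have hfinC' : finrank 𝔽 C' = finrank 𝔽 C := LinearEquiv.finrank_map_eq _ _
  rw [hfinW, hfinC'] at hbound hge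
  exact ⟨D, hfinB, hbound, hge⟩

end Simple

section Rep

namespace HHRep2

open Cfsg.Agent.Lib.HHCore.HHRep

variable {U R : Type*} [AddCommGroup U] [Module 𝔽 U] [Group R]
variable (X : HHRep 𝔽 U R)

variable [Nontrivial U]

variable [Fintype R]

/-- **The Hall--Higman inequality.** -/
theorem hh_lemma2 [IsAlgClosed 𝔽] [FiniteDimensional 𝔽 U]
    (hR : (Fintype.card R : 𝔽) ≠ 0)
    (g : End 𝔽 U) (γ : MulAut R) (hg : ∀ s, g * X.ρ s = X.ρ (γ s) * g)
    {N : ℕ} (hN : 0 < N) (hN' : (N : 𝔽) ≠ 0) (hgN : g ^ N = 1)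
    (hnorm : ∑ j ∈ Finset.range N, g ^ j = 0)
    (Ξ : Finset R) (hΞ : ∀ s : R, ∃ ξ ∈ Ξ, ∃ j : ℕ, ((γ ^ j) ξ)⁻¹ * s ∈ X.radical) :
    ∃ D : ℕ, X.radical.index = D ^ 2 ∧ D ^ 2 ≤ (N - 1) * Ξ.card ∧ D ≤ Ξ.card := by
  classical
  set h := g ^ (N - 1) with hh
  have hgh : g * h = 1 := by rw [hh, ← pow_succ', Nat.sub_add_cancel hN, hgN]
  have hhg : h * g = 1 := by rw [hh, ← pow_succ, Nat.sub_add_cancel hN, hgN]
  have := X.isSimpleRing_B hR
  let C : Submodule 𝔽 X.B :=
    { carrier := {x | g * (x : End 𝔽 U) = x * g}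
      add_mem' := by
        intro x y hx hy
        simp only [Set.mem_ofPred_eq] at hx hy ⊢
        rw [Subalgebra.coe_add, mul_add, add_mul, hx, hy]
      zero_mem' := by simp
      smul_mem' := by
        intro c x hx
        simp only [Set.mem_ofPred_eq] at hx ⊢
        rw [Subalgebra.coe_smul, mul_smul_comm, smul_mul_assoc, hx] }
  obtain ⟨D, hD1, hD2, hD3⟩ := simple_subalgebra_bound2 X.B g h hgh hhg
    (fun x hx => X.conj_mem_B g h γ hg hgh hx) hN hN' hgN hnorm C (fun x hx => hx)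
  suffices hfin : finrank 𝔽 C ≤ Ξ.card from
    ⟨D, by rw [← X.finrank_B hR, hD1], hD2.trans (Nat.mul_le_mul_left _ hfin), hD3.trans hfin⟩
  let L : C →ₗ[𝔽] (Ξ → 𝔽) :=
    { toFun := fun x ξ => (X.basisB hR).repr x.1 ((ξ.1 : R) : X.T)
      map_add' := by intro x y; ext ξ; simp
      map_smul' := by intro c x; ext ξ; simp }
  have hLinj : Function.Injective L := by
    rw [injective_iff_map_eq_zero]
    intro x hx
    have hxg : g * ((x.1 : X.B) : End 𝔽 U) * h = x.1 := by
      have h1 : g * ((x.1 : X.B) : End 𝔽 U) = x.1 * g := x.2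
      rw [h1, mul_assoc, hgh, mul_one]
    have hξ : ∀ ξ ∈ Ξ, X.prL ξ x.1 = 0 := by
      intro ξ hξ
      have h1 : ξ⁻¹ * Quotient.out (ξ : X.T) ∈ X.radical := by
        rw [← QuotientGroup.eq, X.mk_out]
      rw [X.prL_congr h1, X.prL_coord hR]
      have h2 : (X.basisB hR).repr x.1 (ξ : X.T) = 0 := congrFun hx ⟨ξ, hξ⟩
      rw [h2, zero_smul]
    have hj : ∀ (j : ℕ), ∀ ξ ∈ Ξ, X.prL ((γ ^ j) ξ) x.1 = 0 := by
      intro j
      induction j with
      | zero => intro ξ h; simpa using hξ ξ h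
      | succ j ih =>
        intro ξ h'
        have h1 : (γ ^ (j + 1)) ξ = γ ((γ ^ j) ξ) := by rw [pow_succ']; rfl
        rw [h1, ← hxg, ← X.prL_conj g h γ hg hgh hhg, ih ξ h']
        simp
    have h0 : x.1 = 0 := by
      apply X.eq_zero_of_prL hR
      intro t₀
      obtain ⟨ξ, hξ', j, hj'⟩ := hΞ t₀
      rw [← X.prL_congr hj', hj j ξ hξ']
    exact Subtype.ext h0
  have := LinearMap.finrank_le_finrank_of_injective hLinj
  simpa using this

end HHRep2

end Rep

end Cfsg.Agent.Lib.HHCore2
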