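import Mathlib
import Cfsg.Agent.Lib.HHCore2
import Cfsg.Agent.Lib.WardNonab

/-!
# The symplectic section of a weight for a cyclic 2-group
-/

set_option autoImplicit false
set_option linter.unusedSectionVars false
set_option linter.unusedVariables false
set_option linter.style.haveILetI false

namespace Cfsg.Agent.Lib.GrossE

open Module Cfsg.Agent.Lib.HHCore Cfsg.Agent.Lib.HHChar Cfsg.Agent.Lib.HHFermat
  Cfsg.Agent.Lib.WardSym Cfsg.Agent.Lib.WardNonab
open scoped commutatorElement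

universe u v

/-- Arithmetic: an odd prime power plus one which is a power of two. -/
theorem eq_one_of_pow_add_one {r k b : ℕ} (hr : r.Prime) (hr2 : r ≠ 2) (hk : 1 ≤ k) (h : r ^ k + 1 = 2 ^ b) :
    k = 1 := by
  have hodd : Odd r := hr.odd_of_ne_two hr2
  rcases Nat.even_or_odd k with hke | hko
  · exfalso
    obtain ⟨m, rfl⟩ := hke
    have h8 : ∀ y : ℕ, Odd y → y ^ 2 % 8 = 1 := by
      intro y hy
      obtain ⟨w, rfl⟩ := hy
      have h1 : (2 * w + 1) ^ 2 = 4 * (w * (w + 1)) + 1 := by ring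
      rw [h1]
      have h2 : Even (w * (w + 1)) := Nat.even_mul_succ_self w
      obtain ⟨z, hz⟩ := h2
      rw [hz]
      omega
    have h1 : r ^ (m + m) = (r ^ m) ^ 2 := by rw [← pow_mul]; congr 1; ring
    have h2 := h8 (r ^ m) hodd.pow
    rw [h1] at h
    have h3 : 2 ^ b % 8 = 2 := by rw [← h]; omega
    have hb : b = 1 := by
      rcases b with _ | _ | _ | b
      · norm_num at h3
      · rfl
      · norm_num at h3
      · rw [show b + 1 + 1 + 1 = 3 + b by ring, pow_add] at h3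
        norm_num at h3
    rw [hb] at h
    have h4 : 2 ≤ (r ^ m) ^ 2 := by
      rw [← h1]
      have : r ^ 1 ≤ r ^ (m + m) := Nat.pow_le_pow_right hr.pos (by omega)
      have h5 := hr.two_le
      rw [pow_one] at this
      omega
    omega
  · -- `r + 1` divides `r ^ k + 1`
    have hd : r + 1 ∣ 2 ^ b := by
      rw [← h]
      have := hko.nat_add_dvd_pow_add_pow r 1
      simpa using this
    obtain ⟨a, ha, hra⟩ := (Nat.dvd_prime_pow Nat.prime_two).mp hd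
    have ha1 : 1 ≤ a := by
      rcases a with _ | a
      · rw [pow_zero] at hra
        have := hr.pos
        omega
      · omega
    -- `r ^ 2 ≡ 1 mod 2 ^ (a + 1)`
    have hr' : r = 2 ^ a - 1 := by omega
    have hsq : ∃ c, r ^ 2 = 2 ^ (a + 1) * c + 1 := by
      obtain ⟨q', hq'⟩ := hodd
      refine ⟨q', ?_⟩
      have h2 : 2 ^ (a + 1) = 2 * (r + 1) := by rw [pow_succ, hra]; ring
      rw [h2, hq']
      ring
    obtain ⟨c, hc⟩ := hsq
    obtain ⟨l, rfl⟩ := hko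
    have hmod : ∀ l : ℕ, ∃ e, r ^ (2 * l) = 2 ^ (a + 1) * e + 1 := by
      intro l
      induction l with
      | zero => exact ⟨0, by simp⟩
      | succ l ih =>
        obtain ⟨e, he⟩ := ih
        refine ⟨e * r ^ 2 + c, ?_⟩
        rw [show 2 * (l + 1) = 2 * l + 2 by ring, pow_add, he, hc]
        ring
    obtain ⟨e, he⟩ := hmod l
    have hval : r ^ (2 * l + 1) + 1 = 2 ^ (a + 1) * (e * r) + 2 ^ a := by
      rw [pow_succ, he]
      have : r + 1 = 2 ^ a := hra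
      calc (2 ^ (a + 1) * e + 1) * r + 1 = 2 ^ (a + 1) * (e * r) + (r + 1) := by ring
        _ = _ := by rw [this]
    -- compare valuations
    by_cases hle : a + 1 ≤ b
    · exfalso
      have h1 : 2 ^ (a + 1) ∣ 2 ^ b := pow_dvd_pow 2 hle
      rw [← h, hval] at h1
      have h2 : 2 ^ (a + 1) ∣ 2 ^ a := by
        have h3 : 2 ^ (a + 1) ∣ 2 ^ (a + 1) * (e * r) := dvd_mul_right _ _
        exact (Nat.dvd_add_right h3).mp h1
      have h3 := Nat.le_of_dvd (by positivity) h2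
      have h4 : 2 ^ a < 2 ^ (a + 1) := Nat.pow_lt_pow_right (by norm_num) (by omega)
      omega
    · have hab : b = a := by
        have hab' : a ≤ b := by
          by_contra hcon
          have h1 : 2 ^ b < 2 ^ a := Nat.pow_lt_pow_right (by norm_num) (by omega)
          have h2 : 2 ^ a ≤ 2 ^ b := by rw [← hra, ← h]; have := Nat.pow_le_pow_right hr.pos (show 1 ≤ 2 * l + 1 by omega); rw [pow_one] at this; omega
          omega
        omega
      subst hab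
      have h1 : r ^ (2 * l + 1) = r ^ 1 := by rw [pow_one]; omega
      have h2 := Nat.pow_right_injective hr.two_le h1
      exact h2


theorem D_eq_of_bounds {N D c : ℕ} (hN : 1 ≤ N) (hD : 2 ≤ D) (h1 : N * (c - 1) + 1 = D ^ 2)
    (h2 : D ^ 2 ≤ (N - 1) * c) (h3 : D ≤ c) : D = N - 1 := by
  obtain ⟨N', rfl⟩ : ∃ N', N = N' + 1 := ⟨N - 1, by omega⟩
  obtain ⟨c', rfl⟩ : ∃ c', c = c' + 1 := ⟨c - 1, by omega⟩
  simp only [Nat.add_sub_cancel] at h1 h2 ⊢
  obtain ⟨D', rfl⟩ : ∃ D', D = D' + 1 := ⟨D - 1, by omega⟩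
  have h3' : D' ≤ c' := by omega
  have h4 : c' + 1 ≤ N' := by nlinarith
  have h5 : N' ≤ D' + 1 := by
    have h6 : (N' + 1) * D' ≤ (N' + 1) * c' := Nat.mul_le_mul_left _ h3'
    have h7 : (N' + 1) * D' + 1 ≤ (D' + 1) ^ 2 := by rw [← h1]; omega
    have h8 : 1 ≤ D' := by omega
    have h9 : (N' + 1) * D' ≤ (D' + 2) * D' := by nlinarith
    have h10 := Nat.le_of_mul_le_mul_right h9 h8
    omega
  omega

/-- **The symplectic section attached to a weight for a cyclic `2`-group.** -/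
theorem exists_section {K : Type u} [Field K] [IsAlgClosed K] {U : Type*} [AddCommGroup U] [Module K U]
    [FiniteDimensional K U] {R : Type v} [Group R] [Fintype R] {r n : ℕ}
    (hr : r.Prime) (hr2 : r ≠ 2) (hRr : IsPGroup r R) (h2K : (2 : K) ≠ 0) (hRK : (Fintype.card R : K) ≠ 0)
    (ρ : R →* End K U) (σ : MulAut R) (hσ : σ ^ (2 ^ n) = 1) (hfpf : ∀ s, σ s = s → s = 1)
    (τ : End K U) (hτρ : ∀ s, τ * ρ s = ρ (σ s) * τ) (hτ : τ ^ (2 ^ n) = 1)
    (hnorm : ∑ i ∈ Finset.range (2 ^ n), τ ^ i = 0)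
    (Z : Subgroup R) (hZc : ∀ z ∈ Z, ∀ s, z * s = s * z) (hZσ : ∀ z, z ∈ Z ↔ σ z ∈ Z)
    (hcomm : ∀ s t : R, ⁅s, t⁆ ∈ Z) (hpow : ∀ s : R, s ^ r ∈ Z)
    (μ : Z →* K) (hμ : wt (ρ.comp Z.subtype) μ ≠ ⊥) (hμ1 : μ ≠ 1) :
    ∃ (b t : ℕ) (T : Type v) (_ : AddCommGroup T) (_ : Module (ZMod r) T) (_ : Finite T) (π : R → T)
      (P : SymP T K) (g : End (ZMod r) T),
      (∀ s s', π (s * s') = π s + π s') ∧ Function.Surjective π ∧
      (∀ s, π s = 0 ↔ ∀ s', μ ⟨⁅s, s'⁆, hcomm s s'⟩ = 1) ∧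
      (∀ s s', P.f (π s) (π s') = μ ⟨⁅s, s'⁆, hcomm s s'⟩) ∧
      (∀ a, (∀ c, P.f a c = 1) → a = 0) ∧ (∀ a c, P.f c a = (P.f a c)⁻¹) ∧
      1 ≤ b ∧ b < n ∧ t * 2 ^ b = 2 ^ n ∧
      (∀ s, g (π s) = π ((σ ^ t) s)) ∧
      (∀ a c, P.f (g a) (g c) = P.f a c) ∧ g ^ (2 ^ b) = 1 ∧
      (g ^ (2 ^ (b - 1)) = 1 ∨
        (r = 2 ^ b - 1 ∧ Nat.card (LinearMap.range (g ^ (2 ^ (b - 1)) - 1)) = r ^ 2)) := by
  classical
  haveI : Fact r.Prime := ⟨hr⟩
  have hp := Nat.prime_two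
  have hpnpos : 0 < 2 ^ n := pow_pos hp.pos n
  have hcardsub : ∀ (S : Subgroup R) [Fintype S], (Fintype.card S : K) ≠ 0 := by
    intro S _ h0
    apply hRK
    have h1 := S.card_mul_index
    rw [Nat.card_eq_fintype_card, Nat.card_eq_fintype_card] at h1
    rw [← h1, Nat.cast_mul, h0, zero_mul]
  let _ : ∀ S : Subgroup R, Fintype S := fun S => Fintype.ofFinite _
  let ρZ : Z →* End K U := ρ.comp Z.subtype
  have hμ' : wt ρZ μ ≠ ⊥ := hμ
  obtain ⟨u₀, hu₀, hu₀0⟩ : ∃ u₀ ∈ wt ρZ μ, u₀ ≠ 0 := (Submodule.ne_bot_iff _).mp hμ'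
  -- Step 1: the period of `μ`
  let σZ : MulAut Z := restrictAut σ Z hZσ
  have hσZ : σZ ^ (2 ^ n) = 1 := by
    ext z
    rw [restrictAut_pow_coe, hσ]; rfl
  have hfpfZ : ∀ z : Z, σZ z = z → z = 1 := by
    intro z hz
    apply Subtype.ext
    exact hfpf _ (congrArg Subtype.val hz)
  obtain ⟨t₁, ht₁0, ht₁N, hper₁⟩ := exists_period σZ hpnpos hσZ μ
  obtain ⟨a₁, ha₁le, ha₁⟩ := (Nat.dvd_prime_pow hp).mp ht₁N
  have ha₁1 : 1 ≤ a₁ := by
    by_contra hcon
    have h0 : a₁ = 0 := by omega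
    have ht1 : t₁ = 1 := by rw [ha₁, h0, pow_zero]
    have h1 : ∀ z : Z, μ (σZ z) = μ z := by
      intro z
      have := (hper₁ 1).mpr (by rw [ht1])
      simpa using this z
    apply hμ1
    ext z
    obtain ⟨w, hw⟩ := exists_twist σZ hfpfZ z
    rw [← hw, map_mul, map_inv, h1, MonoidHom.one_apply, mul_inv_cancel₀ (lam_ne_zero μ w)]
  have hg₁Z : ∀ z : Z, τ * ρZ z = ρZ (σZ z) * τ := fun z => hτρ z
  obtain ⟨K₁, hK₁⟩ : ∃ K₁, K₁ = 2 ^ (n - a₁) := ⟨_, rfl⟩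
  have hN₁ : 2 ^ n = t₁ * K₁ := by
    rw [ha₁, hK₁, ← pow_add]; congr 1; omega
  have hdesc₁ : ∀ u ∈ wt ρZ μ, ∑ i ∈ Finset.range K₁, ((τ ^ t₁) ^ i) u = 0 := by
    intro u hu
    apply descent (hcardsub Z) hg₁Z ht₁0 hper₁ hu
    rw [← hN₁]
    have := congrArg (fun y : End K U => y u) hnorm
    simpa using this
  have ha₁n : a₁ < n := by
    by_contra hcon
    have hK : K₁ = 1 := by
      rw [hK₁]
      have : n - a₁ = 0 := by omega
      rw [this, pow_zero]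
    have := hdesc₁ u₀ hu₀
    rw [hK] at this
    simp at this
    exact hu₀0 this
  set g₁ := τ ^ t₁ with hg₁
  set γ₁ : MulAut R := σ ^ t₁ with hγ₁
  have hg₁ρ : ∀ s, g₁ * ρ s = ρ (γ₁ s) * g₁ := fun s => g_pow_mul hτρ t₁ s
  have hμγ : ∀ z : Z, μ ((σZ ^ t₁) z) = μ z := (hper₁ t₁).mpr dvd_rfl
  -- Step 2: the subspace `U₁`
  let U₁ : Submodule K U := wt ρZ μ
  have hU₁inv : ∀ s, ∀ u ∈ U₁, ρ s u ∈ U₁ := by
    intro s u hu z
    show ρ (z : R) (ρ s u) = μ z • ρ s u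
    have h1 : ρ (z : R) * ρ s = ρ s * ρ (z : R) := by rw [← map_mul, ← map_mul, hZc z z.2 s]
    have h2 := congrArg (fun y : End K U => y u) h1
    simp only [Module.End.mul_apply] at h2
    rw [h2]
    have h3 : ρ (z : R) u = μ z • u := hu z
    rw [h3, map_smul]
  have hU₁bot : U₁ ≠ ⊥ := hμ'
  have hU₁nt : Nontrivial U₁ := Submodule.nontrivial_iff_ne_bot.mpr hU₁bot
  let ω : R → R → K := fun s t => μ ⟨⁅s, t⁆, hcomm s t⟩
  have hωrel : ∀ s t, ∀ w ∈ U₁, ρ s (ρ t w) = ω s t • ρ t (ρ s w) := by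
    intro s t w hw
    have h1 : s * t = ⁅s, t⁆ * (t * s) := by simp [commutatorElement_def]
    have h2 : ρ s (ρ t w) = ρ (s * t) w := by rw [map_mul]; rfl
    have h3 : ρ t (ρ s w) = ρ (t * s) w := by rw [map_mul]; rfl
    rw [h2, h3, h1, map_mul, Module.End.mul_apply]
    exact hU₁inv (t * s) w hw ⟨⁅s, t⁆, hcomm s t⟩
  let X₁ : CommRep K U₁ R :=
    { ρ := restrictRep ρ U₁ hU₁inv
      ω := ω
      hω := by
        intro s t
        ext v
        exact hωrel s t v v.2 }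
  let Â : Subgroup R := X₁.radical
  have hmemÂ : ∀ s, s ∈ Â ↔ ∀ t, ω s t = 1 := fun s => Iff.rfl
  haveI hÂnormal : Â.Normal := X₁.radical_normal
  have hZÂ : Z ≤ Â := by
    intro z hz
    rw [hmemÂ]
    intro t
    show μ ⟨⁅z, t⁆, _⟩ = 1
    have h1 : ⁅z, t⁆ = 1 := commutatorElement_eq_one_iff_mul_comm.mpr (hZc z hz t)
    have h2 : (⟨⁅z, t⁆, hcomm z t⟩ : Z) = 1 := Subtype.ext h1
    rw [h2, map_one]
  have hωγ : ∀ s t, ω (γ₁ s) (γ₁ t) = ω s t := by
    intro s t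
    show μ ⟨⁅γ₁ s, γ₁ t⁆, _⟩ = μ ⟨⁅s, t⁆, _⟩
    rw [← hμγ ⟨⁅s, t⁆, hcomm s t⟩]
    congr 1
    apply Subtype.ext
    rw [restrictAut_pow_coe]
    exact (map_commutatorElement γ₁ s t).symm
  have hÂγ : ∀ s, s ∈ Â ↔ γ₁ s ∈ Â := by
    intro s
    rw [hmemÂ, hmemÂ]
    constructor
    · intro h t
      obtain ⟨t', rfl⟩ := γ₁.surjective t
      rw [hωγ]; exact h t'
    · intro h t
      rw [← hωγ]; exact h _
  -- Step 3: the character of `Â`
  let ρL : Â →* End K U := ρ.comp Â.subtype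
  have hcommL : ∀ a b : Â, ∀ u ∈ U₁, ρL a (ρL b u) = ρL b (ρL a u) := by
    intro a b u hu
    show ρ a (ρ b u) = ρ b (ρ a u)
    rw [hωrel a b u hu, (hmemÂ a).mp a.2 b, one_smul]
  obtain ⟨lam, u₂, hu₂U₁, hu₂0, hu₂⟩ :=
    exists_common_eigen ρL U₁ hU₁bot (fun a u hu => hU₁inv a u hu) hcommL
  let γL : MulAut Â := restrictAut γ₁ Â hÂγ
  have hγ₁K : γ₁ ^ K₁ = 1 := by rw [hγ₁, ← pow_mul, ← hN₁, hσ]
  have hγLK : γL ^ K₁ = 1 := by
    ext a
    rw [restrictAut_pow_coe, hγ₁K]; rfl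
  have hK₁pos : 0 < K₁ := by rw [hK₁]; exact pow_pos hp.pos _
  obtain ⟨t₂, ht₂0, ht₂K, hper₂⟩ := exists_period γL hK₁pos hγLK lam
  obtain ⟨a₂, ha₂le, ha₂⟩ := (Nat.dvd_prime_pow hp).mp (hK₁ ▸ ht₂K)
  obtain ⟨K₂, hK₂⟩ : ∃ K₂, K₂ = 2 ^ (n - a₁ - a₂) := ⟨_, rfl⟩
  have hK₁eq : K₁ = t₂ * K₂ := by
    rw [hK₁, ha₂, hK₂, ← pow_add]; congr 1; omega
  have hg₁L : ∀ a : Â, g₁ * ρL a = ρL (γL a) * g₁ := fun a => hg₁ρ a
  let U₂ : Submodule K U := wt ρL lam
  have hlamμ : ∀ z (hz : z ∈ Z), lam ⟨z, hZÂ hz⟩ = μ ⟨z, hz⟩ := by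
    intro z hz
    have h1 : ρ z u₂ = lam ⟨z, hZÂ hz⟩ • u₂ := hu₂ ⟨z, hZÂ hz⟩
    have h2 : ρ z u₂ = μ ⟨z, hz⟩ • u₂ := hu₂U₁ ⟨z, hz⟩
    exact smul_left_injective K hu₂0 (h1.symm.trans h2)
  have hU₂U₁ : U₂ ≤ U₁ := by
    intro w hw z
    show ρ (z : R) w = μ z • w
    have h1 : ρ (z : R) w = lam ⟨z, hZÂ z.2⟩ • w := hw ⟨z, hZÂ z.2⟩
    rw [h1, hlamμ z z.2]
  have hdesc₂ : ∀ u ∈ U₂, ∑ i ∈ Finset.range K₂, ((g₁ ^ t₂) ^ i) u = 0 := by
    intro u hu
    apply descent (hcardsub Â) hg₁L ht₂0 hper₂ hu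
    rw [← hK₁eq]
    exact hdesc₁ u (hU₂U₁ hu)
  have ha₂lt : a₁ + a₂ < n := by
    by_contra hcon
    have hK : K₂ = 1 := by
      rw [hK₂]
      have : n - a₁ - a₂ = 0 := by omega
      rw [this, pow_zero]
    have := hdesc₂ u₂ hu₂
    rw [hK] at this
    simp at this
    exact hu₂0 this
  -- Step 4: the subspace `U₂`
  obtain ⟨b, hb⟩ : ∃ b, b = n - a₁ - a₂ := ⟨_, rfl⟩
  have hb1 : 1 ≤ b := by omega
  have hbn : b < n := by omega
  have hK₂b : K₂ = 2 ^ b := by rw [hK₂, hb]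
  have hU₂inv : ∀ s, ∀ u ∈ U₂, ρ s u ∈ U₂ := by
    intro s u hu a
    show ρ (a : R) (ρ s u) = lam a • ρ s u
    have h1 := hωrel a s u (hU₂U₁ hu)
    rw [h1, (hmemÂ a).mp a.2 s, one_smul]
    have h2 : ρ (a : R) u = lam a • u := hu a
    rw [h2, map_smul]
  have hlamγ : ∀ a : Â, lam ((γL ^ t₂) a) = lam a := (hper₂ t₂).mpr dvd_rfl
  set g₂ := g₁ ^ t₂ with hg₂
  have hg₂U₂ : ∀ u ∈ U₂, g₂ u ∈ U₂ := fun u hu => pow_mem_wt hg₁L hlamγ hu
  set γ₂ : MulAut R := γ₁ ^ t₂ with hγ₂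
  have hg₂ρ : ∀ s, g₂ * ρ s = ρ (γ₂ s) * g₂ := fun s => g_pow_mul hg₁ρ t₂ s
  have hU₂bot : U₂ ≠ ⊥ := by
    intro h
    have : u₂ ∈ U₂ := hu₂
    rw [h] at this
    exact hu₂0 ((Submodule.mem_bot _).mp this)
  have hU₂nt : Nontrivial U₂ := Submodule.nontrivial_iff_ne_bot.mpr hU₂bot
  let X₂ : HHRep K U₂ R :=
    { ρ := restrictRep ρ U₂ hU₂inv
      ω := ω
      hω := by
        intro s t
        ext v
        exact hωrel s t v (hU₂U₁ v.2)
      hscal := by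
        intro s hs
        refine ⟨lam ⟨s, hs⟩, ?_⟩
        ext v
        exact v.2 ⟨s, hs⟩ }
  have hX₂rad : X₂.radical = Â := by
    ext s
    exact Iff.rfl
  -- exponents
  have ht₁₂ : t₁ * t₂ * 2 ^ b = 2 ^ n := by
    rw [ha₁, ha₂, ← pow_add, ← pow_add]; congr 1; omega
  have hγ₂eq : γ₂ = σ ^ (t₁ * t₂) := by rw [hγ₂, hγ₁, pow_mul]
  have hγ₂N : γ₂ ^ (2 ^ b) = 1 := by rw [hγ₂eq, ← pow_mul, ht₁₂, hσ]
  have hÂγ₂ : ∀ s, s ∈ Â ↔ γ₂ s ∈ Â := pow_mem_iff γ₁ Â hÂγ t₂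
  have hωγ₂ : ∀ s t, ω (γ₂ s) (γ₂ t) = ω s t := by
    have hj : ∀ (j : ℕ) s t, ω ((γ₁ ^ j) s) ((γ₁ ^ j) t) = ω s t := by
      intro j
      induction j with
      | zero => intro s t; rfl
      | succ j ih =>
        intro s t
        rw [pow_succ']
        exact (hωγ _ _).trans (ih _ _)
    exact hj t₂
  -- the module
  have hcÂ : ∀ s t : R, ⁅s, t⁆ ∈ Â := fun s t => hZÂ (hcomm s t)
  have hpÂ : ∀ s : R, s ^ r ∈ Â := fun s => hZÂ (hpow s)
  obtain ⟨T, _, _, _, π, hπ1, hπ2, hπ3, hπ4⟩ := exists_quot_module (r := r) Â hcÂ hpÂ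
  have hπ1' : π 1 = 0 := (hπ2 1).mpr Â.one_mem
  have hπinv : ∀ s, π s⁻¹ = - π s := by
    intro s
    have h2 := hπ1 s⁻¹ s
    rw [inv_mul_cancel, hπ1'] at h2
    exact eq_neg_of_add_eq_zero_left h2.symm
  have hπeq : ∀ s t, π s = π t ↔ s⁻¹ * t ∈ Â := by
    intro s t
    rw [← hπ2, hπ1, hπinv]
    constructor
    · intro h
      rw [h, neg_add_cancel]
    · intro h
      exact (neg_add_eq_zero.mp h)
  have hωπ : ∀ s s' t t', π s = π s' → π t = π t' → ω s t = ω s' t' := by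
    intro s s' t t' h1 h2
    have h3 := X₂.toCommRep.omega_congr_right s (t := t) (t' := t') (by
      rw [hX₂rad]; exact (hπeq _ _).mp h2)
    have h4 := X₂.toCommRep.omega_swap s t'
    have h5 := X₂.toCommRep.omega_swap s' t'
    have h6 := X₂.toCommRep.omega_congr_right t' (t := s) (t' := s') (by
      rw [hX₂rad]; exact (hπeq _ _).mp h1)
    have h7 : X₂.ω s t = X₂.ω s' t' := by
      rw [h3]
      have h8 : X₂.ω s t' = (X₂.ω t' s)⁻¹ := by rw [h4, inv_inv]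
      have h9 : X₂.ω s' t' = (X₂.ω t' s')⁻¹ := by rw [h5, inv_inv]
      rw [h8, h9, h6]
    exact h7
  have hπ3' := hπ3
  choose sec hsec using hπ3
  let P : SymP T K :=
    { f := fun a c => ω (sec a) (sec c)
      ne := fun a c => X₂.toCommRep.omega_ne_zero _ _
      addl := by
        intro a a' c
        have h1 : π (sec a * sec a') = π (sec (a + a')) := by rw [hπ1, hsec, hsec, hsec]
        have h2 := hωπ _ _ (sec c) (sec c) h1 rfl
        show ω (sec (a + a')) (sec c) = ω (sec a) (sec c) * ω (sec a') (sec c)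
        rw [← h2]
        exact X₂.toCommRep.omega_mul_left _ _ _
      addr := by
        intro a c c'
        have h1 : π (sec c * sec c') = π (sec (c + c')) := by rw [hπ1, hsec, hsec, hsec]
        have h2 := hωπ (sec a) (sec a) _ _ rfl h1
        show ω (sec a) (sec (c + c')) = ω (sec a) (sec c) * ω (sec a) (sec c')
        rw [← h2]
        exact X₂.toCommRep.omega_mul_right _ _ _ }
  have hPπ : ∀ s t, P.f (π s) (π t) = ω s t := fun s t => hωπ _ _ _ _ (hsec _) (hsec _)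
  have hnd : ∀ a, (∀ t, P.f a t = 1) → a = 0 := by
    intro a ha
    rw [← hsec a, hπ2, hmemÂ]
    intro t
    have h1 := ha (π t)
    show ω (sec a) t = 1
    rw [← h1]
    exact (hωπ _ _ _ _ rfl (hsec _)).symm
  have hanti : ∀ a c, P.f c a = (P.f a c)⁻¹ := fun a c => X₂.toCommRep.omega_swap _ _
  -- the operator
  obtain ⟨gT, hgT⟩ := exists_op (r := r) hπ1 (fun a => ⟨sec a, hsec a⟩) γ₂.toMonoidHom
    (by
      intro s hs
      rw [hπ2] at hs ⊢
      exact (hÂγ₂ s).mp hs)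
  have hgT' : ∀ s, gT (π s) = π (γ₂ s) := hgT
  have hgTj : ∀ (j : ℕ) s, (gT ^ j) (π s) = π ((γ₂ ^ j) s) := by
    intro j s
    induction j with
    | zero => rfl
    | succ j ih =>
      rw [pow_succ', pow_succ', Module.End.mul_apply, ih, hgT']
      rfl
  have hgP : ∀ a c, P.f (gT a) (gT c) = P.f a c := by
    intro a c
    rw [← hsec a, ← hsec c, hgT', hgT', hPπ, hPπ, hωγ₂]
  have hgTN : gT ^ (2 ^ b) = 1 := by
    ext a
    obtain ⟨s, rfl⟩ : ∃ s, π s = a := ⟨sec a, hsec a⟩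
    rw [hgTj, hγ₂N]
    rfl
  refine ⟨b, t₁ * t₂, T, inferInstance, inferInstance, inferInstance, π, P, gT, hπ1, hπ3', ?_, hPπ, hnd,
    hanti, hb1, hbn, ht₁₂, ?_, hgP, hgTN, ?_⟩
  · intro s
    rw [hπ2, hmemÂ]
  · intro s
    rw [hgT', hγ₂eq]
  by_cases hSg1 : gT ^ (2 ^ (b - 1)) = 1
  · exact Or.inl hSg1
  right
  set Sg := gT ^ (2 ^ (b - 1)) with hSg
  have hSgsq : Sg * Sg = 1 := by
    rw [hSg, ← pow_add, ← hgTN]
    congr 1
    obtain ⟨b', rfl⟩ : ∃ b', b = b' + 1 := ⟨b - 1, by omega⟩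
    simp only [Nat.add_sub_cancel]
    rw [pow_succ]; ring
  have hrT : ∀ a : T, r • a = 0 := fun a => ZModModule.char_nsmul_eq_zero r a
  have h2T : ∀ a : T, (2 : ℕ) • a = 0 → a = 0 := by
    intro a ha
    obtain ⟨m, -, hm⟩ := Nat.exists_mul_mod_eq_one_of_coprime (k := r) (n := 2)
      (((Nat.coprime_primes hp hr).mpr (Ne.symm hr2))) hr.one_lt
    have h1 : (2 * m) • a = a := by
      have h2 : 2 * m = r * ((2 * m) / r) + 1 := by
        have := Nat.div_add_mod (2 * m) r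
        omega
      rw [h2, add_smul, one_smul, mul_smul, hrT]
      simp
    have h2 : (2 * m) • a = 0 := by
      rw [mul_comm, mul_smul, ha, smul_zero]
    rw [← h1, h2]
  set E := LinearMap.range (Sg - 1) with hE
  have hEminus : ∀ d ∈ E, Sg d = - d := by
    rintro _ ⟨c, rfl⟩
    simp only [LinearMap.sub_apply, Module.End.one_apply, map_sub]
    have h1 : Sg (Sg c) = c := by
      rw [← Module.End.mul_apply, hSgsq]; rfl
    rw [h1]; abel
  have hEnz : E ≠ ⊥ := by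
    intro h
    apply hSg1
    ext c
    have h1 : (Sg - 1) c ∈ E := ⟨c, rfl⟩
    rw [h, Submodule.mem_bot, LinearMap.sub_apply, sub_eq_zero] at h1
    exact h1
  -- nondegeneracy on `E`
  have hEnd : ∀ a ∈ E, (∀ c ∈ E, P.f a c = 1) → a = 0 := by
    intro a ha hac
    apply hnd
    intro c
    have hSgP : ∀ (j : ℕ) x y, P.f ((gT ^ j) x) ((gT ^ j) y) = P.f x y := by
      intro j
      induction j with
      | zero => intro x y; rfl
      | succ j ih =>
        intro x y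
        rw [pow_succ', Module.End.mul_apply, Module.End.mul_apply, hgP, ih]
    have h1 : P.f a (Sg c + c) * P.f a (Sg c + c) = 1 := by
      have h2 := hSgP (2 ^ (b - 1)) a (Sg c + c)
      rw [← hSg, hEminus a ha, map_add] at h2
      have h3 : Sg (Sg c) = c := by
        rw [← Module.End.mul_apply, hSgsq]; rfl
      rw [h3, add_comm c, P.neg_l] at h2
      have h4 := P.ne a (Sg c + c)
      field_simp at h2
      rw [← sq]
      exact h2.symm
    have h5 : P.f a (Sg c - c) = 1 := hac _ ⟨c, rfl⟩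
    have h6 : P.f a ((2 : ℕ) • c) = P.f a (Sg c + c) := by
      have h7 : (2 : ℕ) • c = (Sg c + c) - (Sg c - c) := by
        rw [two_smul]; abel
      rw [h7, P.sub_r, h5, inv_one, mul_one]
    have h7 : (P.f a c) ^ 4 = 1 := by
      rw [P.nsmul_r] at h6
      rw [show 4 = 2 * 2 by norm_num, pow_mul, h6, sq, h1]
    have h8 : (P.f a c) ^ r = 1 := by
      rw [← P.nsmul_l, hrT, P.zero_l]
    refine eq_one_of_pow_of_pow ?_ h7 h8
    exact Nat.Coprime.pow_left 2 ((Nat.coprime_primes hp hr).mpr (Ne.symm hr2)) |>.symm.symm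
  -- the preimage of `E`
  have hgE : ∀ d ∈ E, gT d ∈ E := by
    rintro _ ⟨c, rfl⟩
    refine ⟨gT c, ?_⟩
    simp only [LinearMap.sub_apply, Module.End.one_apply, map_sub]
    congr 1
    rw [← Module.End.mul_apply, ← Module.End.mul_apply, hSg, ← pow_succ, ← pow_succ']
  let Ŝ : Subgroup R :=
    { carrier := {s | π s ∈ E}
      mul_mem' := by
        intro a c ha hc
        show π (a * c) ∈ E
        rw [hπ1]
        exact E.add_mem ha hc
      one_mem' := by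
        show π 1 ∈ E
        rw [hπ1']
        exact E.zero_mem
      inv_mem' := by
        intro a ha
        show π a⁻¹ ∈ E
        rw [hπinv]
        exact E.neg_mem ha }
  let X₃ : HHRep K U₂ Ŝ :=
    { ρ := X₂.ρ.comp Ŝ.subtype
      ω := fun a c => ω a c
      hω := fun a c => X₂.hω a c
      hscal := by
        intro a ha
        apply X₂.hscal
        have h1 : (a : R) ∈ Â := by
          rw [← hπ2]
          apply hEnd _ a.2
          intro c hc
          have h2 : sec c ∈ Ŝ := by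
            show π (sec c) ∈ E
            rw [hsec]; exact hc
          have h3 := ha ⟨sec c, h2⟩
          rw [← hsec c, hPπ]
          exact h3
        exact h1 }
  have hmemrad : ∀ a : Ŝ, a ∈ X₃.radical ↔ π (a : R) = 0 := by
    intro a
    constructor
    · intro h
      rw [hπ2]
      show (a : R) ∈ Â
      have h1 : (a : R) ∈ Â := by
        rw [← hπ2]
        apply hEnd _ a.2
        intro c hc
        have h2 : sec c ∈ Ŝ := by
          show π (sec c) ∈ E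
          rw [hsec]; exact hc
        have h3 := h ⟨sec c, h2⟩
        rw [← hsec c, hPπ]
        exact h3
      exact h1
    · intro h
      have h2 : (a : R) ∈ Â := (hπ2 _).mp h
      intro c
      exact (hmemÂ _).mp h2 _
  haveI hX₃normal : X₃.radical.Normal := X₃.toCommRep.radical_normal
  -- the index of the radical
  have hidx : X₃.radical.index = Nat.card E := by
    let ψ : Ŝ →* Multiplicative E :=
      { toFun := fun a => Multiplicative.ofAdd ⟨π a, a.2⟩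
        map_one' := by
          show Multiplicative.ofAdd (⟨π 1, _⟩ : E) = Multiplicative.ofAdd 0
          congr 1
          exact Subtype.ext hπ1'
        map_mul' := by
          intro a c
          show Multiplicative.ofAdd (⟨π ((a : R) * c), _⟩ : E) = Multiplicative.ofAdd ((⟨π a, a.2⟩ : E) + ⟨π c, c.2⟩)
          congr 1
          exact Subtype.ext (hπ1 _ _) }
    have hψs : Function.Surjective ψ := by
      intro c
      have h2 : sec (Multiplicative.toAdd c).1 ∈ Ŝ := by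
        show π (sec _) ∈ E
        rw [hsec]; exact (Multiplicative.toAdd c).2
      refine ⟨⟨_, h2⟩, ?_⟩
      apply Multiplicative.toAdd.injective
      apply Subtype.ext
      exact hsec _
    have hψk : ψ.ker = X₃.radical := by
      ext a
      rw [MonoidHom.mem_ker, hmemrad]
      constructor
      · intro h
        have h2 := congrArg (fun c => ((Multiplicative.toAdd c : E) : T)) h
        exact h2
      · intro h
        apply Multiplicative.toAdd.injective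
        apply Subtype.ext
        exact h
    rw [← hψk, Subgroup.index_ker, MonoidHom.range_eq_top.mpr hψs, Subgroup.card_top]
    rfl
  -- the automorphism
  have hŜγ : ∀ s, s ∈ Ŝ → γ₂ s ∈ Ŝ := by
    intro s hs
    show π (γ₂ s) ∈ E
    rw [← hgT']
    exact hgE _ hs
  have h2bpos : 0 < 2 ^ b := pow_pos hp.pos b
  have hŜγ' : ∀ s, s ∈ Ŝ ↔ γ₂ s ∈ Ŝ := inv_iff_of_pow_eq_one γ₂ Ŝ hŜγ h2bpos hγ₂N
  let γh : MulAut Ŝ := restrictAut γ₂ Ŝ hŜγ'
  have hγhN : γh ^ (2 ^ b) = 1 := by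
    ext a
    rw [restrictAut_pow_coe, hγ₂N]; rfl
  have hrad_γh : ∀ a, a ∈ X₃.radical ↔ γh a ∈ X₃.radical := by
    intro a
    rw [hmemrad, hmemrad]
    show π (a : R) = 0 ↔ π (γ₂ a) = 0
    rw [hπ2, hπ2]
    exact hÂγ₂ _
  have hfix : ∀ s, (γh ^ (2 ^ (b - 1))) s * s⁻¹ ∈ X₃.radical → s ∈ X₃.radical := by
    intro s hs
    rw [hmemrad] at hs ⊢
    have h1 : ((((γh ^ (2 ^ (b - 1))) s * s⁻¹ : Ŝ)) : R) = (γ₂ ^ (2 ^ (b - 1))) (s : R) * (s : R)⁻¹ := by
      show (((γh ^ (2 ^ (b - 1))) s : Ŝ) : R) * (s : R)⁻¹ = _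
      rw [restrictAut_pow_coe]
    rw [h1, hπ1, hπinv, ← hgTj, ← hSg, hEminus _ s.2] at hs
    apply h2T
    rw [two_smul]
    have h2 : π (s : R) + π (s : R) = -(-π (s : R) + -π (s : R)) := by abel
    rw [h2, hs, neg_zero]
  obtain ⟨Ξ, hΞ1, hΞ2⟩ := exists_transversal X₃.radical γh hrad_γh hp hb1 hγhN hfix
  -- the Hall--Higman inequality
  let g₂' : End K U₂ := g₂.restrict hg₂U₂
  have hg₂' : ∀ s, g₂' * X₃.ρ s = X₃.ρ (γh s) * g₂' := by
    intro s
    ext v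
    have h1 := congrArg (fun y : End K U => y (v : U)) (hg₂ρ s)
    exact h1
  have hNF : ((2 ^ b : ℕ) : K) ≠ 0 := by
    rw [Nat.cast_pow]; exact pow_ne_zero _ (by simpa using h2K)
  have hg₂N : g₂ ^ (2 ^ b) = 1 := by
    rw [hg₂, hg₁, ← pow_mul, ← pow_mul, ← mul_assoc, ht₁₂, hτ]
  have hg₂'N : g₂' ^ (2 ^ b) = 1 := by
    ext v
    rw [restrict_pow_coe, hg₂N]; rfl
  have hg₂'norm : ∑ j ∈ Finset.range (2 ^ b), g₂' ^ j = 0 := by
    ext v
    have h1 := hdesc₂ v v.2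
    rw [hK₂b] at h1
    rw [LinearMap.sum_apply, AddSubmonoidClass.coe_finsetSum]
    refine Eq.trans (Finset.sum_congr rfl fun j _ => ?_) h1
    exact restrict_pow_coe g₂ U₂ hg₂U₂ j v
  obtain ⟨D, hD1, hD2, hD3⟩ := HHCore2.HHRep2.hh_lemma2 X₃ (hcardsub Ŝ) g₂' γh hg₂' h2bpos hNF hg₂'N hg₂'norm Ξ hΞ1
  -- numbers
  have hcardE : 1 < Nat.card E := by
    haveI : Nontrivial E := Submodule.nontrivial_iff_ne_bot.mpr hEnz
    exact Finite.one_lt_card
  have hD2le : 2 ≤ D := by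
    by_contra hcon
    have h0 : D = 0 ∨ D = 1 := by omega
    rcases h0 with rfl | rfl
    · rw [hidx] at hD1
      simp at hD1
      omega
    · rw [hidx] at hD1
      simp at hD1
      omega
  have hDeq : D = 2 ^ b - 1 := by
    rw [hD1] at hΞ2
    exact D_eq_of_bounds h2bpos hD2le hΞ2 hD2 hD3
  obtain ⟨k, hk⟩ := (IsPGroup.iff_card (p := r) (G := R)).mp hRr
  have hidx_dvd : X₃.radical.index ∣ r ^ k := by
    rw [← hk]
    exact (Subgroup.index_dvd_card _).trans (Subgroup.card_subgroup_dvd_card Ŝ)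
  have hDdvd : D ∣ r ^ k := (dvd_pow_self D two_ne_zero).trans (hD1 ▸ hidx_dvd)
  obtain ⟨k₀, -, hk₀⟩ := (Nat.dvd_prime_pow hr).mp hDdvd
  have hk₀1 : 1 ≤ k₀ := by
    by_contra hcon
    have h0 : k₀ = 0 := by omega
    rw [h0, pow_zero] at hk₀
    omega
  have hsum : r ^ k₀ + 1 = 2 ^ b := by omega
  have hk₀eq : k₀ = 1 := eq_one_of_pow_add_one hr hr2 hk₀1 hsum
  rw [hk₀eq, pow_one] at hk₀ hsum
  refine ⟨by omega, ?_⟩
  rw [← hidx, hD1, hk₀]

end Cfsg.Agent.Lib.GrossE
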