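import Mathlib
import Cfsg.Agent.Lib.GrossE

/-!
# Operators on a two-dimensional symplectic section
-/

set_option autoImplicit false
set_option linter.unusedSectionVars false
set_option linter.unusedVariables false
set_option linter.style.haveILetI false

namespace Cfsg.Agent.Lib.GrossF

open Module Cfsg.Agent.Lib.WardSym Cfsg.Agent.Lib.GrossE
open scoped commutatorElement

variable {r : ℕ} [hrp : Fact r.Prime] {T K₀ : Type*} [AddCommGroup T] [Module (ZMod r) T] [Field K₀]

theorem nsmul_char_T (a : T) : r • a = 0 := ZModModule.char_nsmul_eq_zero r a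

section Exp

variable (P : SymP T K₀)

theorem P_pow_r (a c : T) : P.f a c ^ r = 1 := by
  rw [← P.nsmul_l, nsmul_char_T, P.zero_l]

theorem P_smul_l (x : ZMod r) (a c : T) : P.f (x • a) c = P.f a c ^ x.val := by
  rw [← P.nsmul_l]
  congr 1
  rw [← Nat.cast_smul_eq_nsmul (ZMod r), ZMod.natCast_zmod_val]

theorem P_smul_r (x : ZMod r) (a c : T) : P.f a (x • c) = P.f a c ^ x.val := by
  rw [← P.nsmul_r]
  congr 1
  rw [← Nat.cast_smul_eq_nsmul (ZMod r), ZMod.natCast_zmod_val]

theorem pow_val_mul {u : K₀} (hu : u ^ r = 1) (x y : ZMod r) : (u ^ x.val) ^ y.val = u ^ (x * y).val := by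
  rw [← pow_mul, ZMod.val_mul]
  conv_lhs => rw [← Nat.div_add_mod (x.val * y.val) r, pow_add, pow_mul, hu, one_pow, one_mul]

theorem eq_of_pow_val {u : K₀} (hu : u ^ r = 1) (h1 : u ≠ 1) {x y : ZMod r} (h : u ^ x.val = u ^ y.val) : x = y := by
  have ho : orderOf u = r := orderOf_eq_prime hu h1
  have hr : r.Prime := Fact.out
  have hu0 : u ≠ 0 := by
    rintro rfl
    rw [zero_pow hr.ne_zero] at hu
    exact zero_ne_one hu
  have hv : (Units.mk0 u hu0) ^ x.val = (Units.mk0 u hu0) ^ y.val := Units.ext (by simpa using h)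
  have hov : orderOf (Units.mk0 u hu0) = r := by
    rw [← orderOf_units, Units.val_mk0, ho]
  have h2 := pow_inj_mod.mp hv
  rw [hov, Nat.mod_eq_of_lt (ZMod.val_lt x), Nat.mod_eq_of_lt (ZMod.val_lt y)] at h2
  exact ZMod.val_injective r h2

theorem P_smul_smul (x y : ZMod r) (a c : T) : P.f (x • a) (y • c) = P.f a c ^ (x * y).val := by
  rw [P_smul_l, P_smul_r, pow_val_mul (P_pow_r P a c) y x, mul_comm]

/-- Isometries: eigenvectors with eigenvalues which are not inverse to each other are orthogonal. -/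
theorem orth {h : End (ZMod r) T} (hP : ∀ a c, P.f (h a) (h c) = P.f a c) {v w : T} {α β : ZMod r}
    (hv : h v = α • v) (hw : h w = β • w) (hαβ : α * β ≠ 1) : P.f v w = 1 := by
  by_contra hne
  apply hαβ
  have h1 := hP v w
  rw [hv, hw, P_smul_smul] at h1
  have h2 : P.f v w ^ (1 : ZMod r).val = P.f v w := by
    rw [ZMod.val_one, pow_one]
  exact eq_of_pow_val (P_pow_r P v w) hne (h1.trans h2.symm)

end Exp

section TwoDim

variable [Finite T] (P : SymP T K₀) (hanti : ∀ a c, P.f c a = (P.f a c)⁻¹) (hr2 : r ≠ 2)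

include hanti hr2 in
theorem P_self (a : T) : P.f a a = 1 := by
  have h1 : P.f a a * P.f a a = 1 := by
    have h2 := hanti a a
    have h3 := P.ne a a
    nth_rewrite 1 [h2]
    exact inv_mul_cancel₀ h3
  have hr : r.Prime := Fact.out
  refine eq_one_of_pow_of_pow (a := 2) (b := r) ?_ (by rw [sq]; exact h1) (P_pow_r P a a)
  exact (Nat.coprime_primes Nat.prime_two hr).mpr (Ne.symm hr2)

variable (E : Submodule (ZMod r) T) (hEc : Nat.card E = r ^ 2)
  (hEnd : ∀ a ∈ E, (∀ c ∈ E, P.f a c = 1) → a = 0)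

include hanti hr2 hEc hEnd in
/-- In two dimensions the orthogonal of a vector is the line through that vector. -/
theorem fact2D {v w : T} (hv : v ∈ E) (hv0 : v ≠ 0) (hw : w ∈ E) (h : P.f v w = 1) :
    ∃ x : ZMod r, w = x • v := by
  have hr : r.Prime := Fact.out
  let H : Submodule (ZMod r) T :=
    { carrier := {c | c ∈ E ∧ P.f v c = 1}
      add_mem' := by
        rintro a c ⟨ha, ha'⟩ ⟨hc, hc'⟩
        exact ⟨E.add_mem ha hc, by rw [P.addr, ha', hc', one_mul]⟩
      zero_mem' := ⟨E.zero_mem, P.zero_r v⟩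
      smul_mem' := by
        rintro x a ⟨ha, ha'⟩
        exact ⟨E.smul_mem x ha, by rw [P_smul_r, ha', one_pow]⟩ }
  have hHE : H < E := by
    refine lt_of_le_of_ne (fun c hc => hc.1) ?_
    intro heq
    apply hv0
    apply hEnd v hv
    intro c hc
    have : c ∈ H := heq ▸ hc
    exact this.2
  have hfE : finrank (ZMod r) E = 2 := by
    haveI : Module.Finite (ZMod r) T := Module.Finite.of_finite
    have h1 := Module.natCard_eq_pow_finrank (K := ZMod r) (V := E)
    rw [hEc, Nat.card_zmod] at h1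
    exact (Nat.pow_right_injective hr.two_le h1).symm
  haveI : Module.Finite (ZMod r) T := Module.Finite.of_finite
  have hfH := Submodule.finrank_lt_finrank_of_lt hHE
  rw [hfE] at hfH
  have hsp : Submodule.span (ZMod r) {v} ≤ H := by
    rw [Submodule.span_singleton_le_iff_mem]
    exact ⟨hv, P_self P hanti hr2 v⟩
  have hf1 : finrank (ZMod r) (Submodule.span (ZMod r) {v}) = 1 := finrank_span_singleton hv0
  have heq := Submodule.eq_of_le_of_finrank_le hsp (by rw [hf1]; omega)
  have hwH : w ∈ H := ⟨hw, h⟩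
  rw [← heq, Submodule.mem_span_singleton] at hwH
  obtain ⟨x, hx⟩ := hwH
  exact ⟨x, hx.symm⟩

include hanti hr2 hEc hEnd in
/-- An isometry of order prime to `r` which fixes a nonzero vector is trivial. -/
theorem fix_trivial (h : End (ZMod r) T) (hP : ∀ a c, P.f (h a) (h c) = P.f a c) (hE : ∀ e ∈ E, h e ∈ E)
    {m : ℕ} (hm : Nat.Coprime m r) (hhm : h ^ m = 1) {v : T} (hv : v ∈ E) (hv0 : v ≠ 0) (hhv : h v = v) :
    ∀ w ∈ E, h w = w := by
  intro w hw
  have h1 : P.f v (h w - w) = 1 := by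
    rw [P.sub_r]
    have h2 := hP v w
    rw [hhv] at h2
    rw [h2, mul_inv_cancel₀ (P.ne v w)]
  obtain ⟨x, hx⟩ := fact2D P hanti hr2 E hEc hEnd hv hv0 (E.sub_mem (hE w hw) hw) h1
  have h2 : h (h w - w) = h w - w := by
    rw [hx, map_smul, hhv]
  have h3 : ∀ j : ℕ, (h ^ j) w = w + j • (h w - w) := by
    intro j
    induction j with
    | zero => simp
    | succ j ih =>
      rw [pow_succ', Module.End.mul_apply, ih, map_add, map_nsmul, h2, succ_nsmul]
      abel
  have h4 := h3 m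
  rw [hhm, Module.End.one_apply] at h4
  have h5 : m • (h w - w) = 0 := by
    have h6 : w + m • (h w - w) = w + 0 := by rw [← h4, add_zero]
    exact add_left_cancel h6
  have h6 : ((m : ZMod r)) • (h w - w) = 0 := by
    rw [Nat.cast_smul_eq_nsmul]; exact h5
  have hmne : (m : ZMod r) ≠ 0 := by
    intro h0
    rw [ZMod.natCast_eq_zero_iff] at h0
    have hr : r.Prime := Fact.out
    have h7 := Nat.Coprime.eq_one_of_dvd hm.symm h0
    exact hr.one_lt.ne' h7
  have h7 := (smul_eq_zero.mp h6).resolve_left hmne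
  exact sub_eq_zero.mp h7

include hanti hr2 hEc hEnd in
/-- The order of an isometry of order prime to `r` and to `r + 1` divides `r - 1`. -/
theorem pow_sub_one_fixed (c : End (ZMod r) T) (hP : ∀ a c', P.f (c a) (c c') = P.f a c') (hE : ∀ e ∈ E, c e ∈ E)
    {m : ℕ} (hm : Nat.Coprime m r) (hm2 : Nat.Coprime m (r + 1)) (hcm : c ^ m = 1)
    (hne : ∃ e ∈ E, c e ≠ e) : ∀ e ∈ E, (c ^ (r - 1)) e = e := by
  classical
  have hr : r.Prime := Fact.out
  have hm0 : 0 < m := by
    rcases Nat.eq_zero_or_pos m with h0 | h0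
    · exfalso
      rw [h0, Nat.coprime_zero_left] at hm
      exact hr.one_lt.ne' hm
    · exact h0
  let X := {e : E // e ≠ 0}
  haveI : Finite X := inferInstance
  letI : Fintype E := Fintype.ofFinite _
  letI : Fintype X := Fintype.ofFinite _
  have hinj : Function.Injective c := by
    intro a b hab
    have h1 : c ^ m = c ^ (m - 1) * c := by rw [← pow_succ, Nat.sub_add_cancel hm0]
    have h2 : ∀ z, (c ^ (m - 1)) (c z) = z := by
      intro z
      rw [← Module.End.mul_apply, ← h1, hcm]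
      rfl
    rw [← h2 a, ← h2 b, hab]
  let f : X → X := fun x => ⟨⟨c x.1, hE _ x.1.2⟩, by
    intro h0
    have h1 : c (x.1 : T) = 0 := congrArg Subtype.val h0
    have h2 : (x.1 : T) = 0 := hinj (by rw [h1, map_zero])
    exact x.2 (Subtype.ext h2)⟩
  have hfinj : Function.Injective f := by
    intro a b hab
    have h1 : c (a.1 : T) = c (b.1 : T) := congrArg (fun z : X => ((z.1 : E) : T)) hab
    exact Subtype.ext (Subtype.ext (hinj h1))
  let γ : Equiv.Perm X := Equiv.ofBijective f (Finite.injective_iff_bijective.mp hfinj)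
  have hγj : ∀ (j : ℕ) (x : X), (((γ ^ j) x).1 : T) = (c ^ j) (x.1 : T) := by
    intro j x
    induction j with
    | zero => rfl
    | succ j ih =>
      rw [pow_succ', pow_succ', Equiv.Perm.mul_apply, Module.End.mul_apply, ← ih]
      rfl
  have hγm : γ ^ m = 1 := by
    ext x
    rw [hγj, hcm]
    rfl
  have hγtriv : ∀ j : ℕ, (∀ e ∈ E, (c ^ j) e = e) → γ ^ j = 1 := by
    intro j hj
    ext x
    rw [hγj, hj _ x.1.2]
    rfl
  let G : Subgroup (Equiv.Perm X) := Subgroup.zpowers γ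
  have hstab : ∀ x : X, MulAction.stabilizer G x = ⊥ := by
    intro x
    rw [eq_bot_iff]
    rintro ⟨δ, hδ⟩ hs
    rw [MulAction.mem_stabilizer_iff] at hs
    have hδ' : δ • x = x := hs
    obtain ⟨j, rfl⟩ := mem_powers_iff_mem_zpowers.mpr hδ
    have h1 : (γ ^ j) x = x := hδ'
    have h2 : (c ^ j) (x.1 : T) = x.1 := by
      rw [← hγj, h1]
    have h3 : c ^ j = c ^ j := rfl
    have hPj : ∀ (j : ℕ) a c', P.f ((c ^ j) a) ((c ^ j) c') = P.f a c' := by
      intro j
      induction j with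
      | zero => intro a c'; rfl
      | succ j ih =>
        intro a c'
        rw [pow_succ', Module.End.mul_apply, Module.End.mul_apply, hP, ih]
    have hEj : ∀ (j : ℕ), ∀ e ∈ E, (c ^ j) e ∈ E := by
      intro j
      induction j with
      | zero => intro e he; exact he
      | succ j ih =>
        intro e he
        rw [pow_succ', Module.End.mul_apply]
        exact hE _ (ih e he)
    have h4 := fix_trivial P hanti hr2 E hEc hEnd (c ^ j) (hPj j) (hEj j) hm
      (by rw [← pow_mul, mul_comm, pow_mul, hcm, one_pow]) x.1.2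
      (fun h0 => x.2 (Subtype.ext h0)) h2
    rw [Subgroup.mem_bot]
    apply Subtype.ext
    exact hγtriv j h4
  let e := MulAction.selfEquivOrbitsQuotientProd (G := G) (X := X) hstab
  have hcardX : Nat.card X = r ^ 2 - 1 := by
    have h1 : Fintype.card X = Fintype.card E - 1 := by
      have := Fintype.card_subtype_compl (fun z : E => z = 0)
      rw [Fintype.card_subtype_eq] at this
      exact this
    rw [Nat.card_eq_fintype_card, h1, ← Nat.card_eq_fintype_card, hEc]
  have hdvd : Nat.card G ∣ Nat.card X := by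
    rw [Nat.card_congr e, Nat.card_prod]
    exact dvd_mul_left _ _
  have hcardG : Nat.card G = orderOf γ := Nat.card_zpowers γ
  rw [hcardG, hcardX] at hdvd
  have h1 : r ^ 2 - 1 = (r + 1) * (r - 1) := by
    obtain ⟨r', hr'⟩ : ∃ r', r = r' + 1 := ⟨r - 1, by have := hr.pos; omega⟩
    rw [hr']
    simp only [Nat.add_sub_cancel]
    have : (r' + 1) ^ 2 = (r' + 1 + 1) * r' + 1 := by ring
    omega
  rw [h1] at hdvd
  have h2 : orderOf γ ∣ m := orderOf_dvd_of_pow_eq_one hγm
  have h3 : Nat.Coprime (orderOf γ) (r + 1) := Nat.Coprime.coprime_dvd_left h2 hm2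
  have h4 : orderOf γ ∣ r - 1 := h3.dvd_of_dvd_mul_left hdvd
  have h5 : γ ^ (r - 1) = 1 := orderOf_dvd_iff_pow_eq_one.mp h4
  intro z hz
  by_cases hz0 : z = 0
  · rw [hz0, map_zero]
  · have h6 := hγj (r - 1) ⟨⟨z, hz⟩, fun h0 => hz0 (congrArg Subtype.val h0)⟩
    rw [h5] at h6
    exact h6.symm

/-- An endomorphism satisfying the Fermat relation has an eigenvector. -/
theorem exists_eigen_of_pow {W : Type*} [AddCommGroup W] [Module (ZMod r) W] [Finite W] [Nontrivial W]
    (c : End (ZMod r) W) (h : c ^ r = c) : ∃ ξ : ZMod r, ∃ v : W, v ≠ 0 ∧ c v = ξ • v := by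
  haveI : Module.Finite (ZMod r) W := Module.Finite.of_finite
  have hint : IsIntegral (ZMod r) c := Algebra.IsIntegral.isIntegral c
  have hd : minpoly (ZMod r) c ∣ Polynomial.X ^ r - Polynomial.X := by
    apply minpoly.dvd
    simp [h]
  have hr : r.Prime := Fact.out
  have hne : (Polynomial.X ^ r - Polynomial.X : Polynomial (ZMod r)) ≠ 0 :=
    FiniteField.X_pow_card_sub_X_ne_zero _ hr.one_lt
  have hs := (GaloisField.splits_zmod_X_pow_sub_X r).of_dvd hne hd
  have hdeg := minpoly.degree_pos hint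
  obtain ⟨ξ, hξ⟩ := hs.exists_eval_eq_zero hdeg.ne'
  have hev : c.HasEigenvalue ξ := Module.End.hasEigenvalue_of_isRoot hξ
  obtain ⟨v, hv⟩ := hev.exists_hasEigenvector
  exact ⟨ξ, v, hv.2, hv.apply_eq_smul⟩

include hanti hr2 hEc hEnd in
/-- The two-dimensional core of the argument. -/
theorem two_dim_core {b : ℕ} (hrb : r = 2 ^ b - 1)
    (g : End (ZMod r) T) (hgP : ∀ a c, P.f (g a) (g c) = P.f a c) (hgN : g ^ (2 ^ b) = 1)
    (hgE : ∀ e ∈ E, g e ∈ E) (hSg : ∀ e ∈ E, (g ^ (2 ^ (b - 1))) e = - e)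
    (C C' : End (ZMod r) T) (hCP : ∀ a c, P.f (C a) (C c) = P.f a c) (hCE : ∀ e ∈ E, C e ∈ E)
    {m : ℕ} (hm : Nat.Coprime m r) (hmodd : Odd m) (hCm : C ^ m = 1)
    (hgC : g * C = C' * g) (hCC : C * C' = C' * C) : ∀ e ∈ E, C e = e := by
  classical
  have hr : r.Prime := Fact.out
  by_contra hne
  push Not at hne
  obtain ⟨e₀, he₀, he₀'⟩ := hne
  have hr3 : 3 ≤ r := by
    have := hr.two_le
    omega
  have hb2 : 2 ≤ b := by
    by_contra hcon
    have h1 : b = 0 ∨ b = 1 := by omega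
    rcases h1 with rfl | rfl <;> norm_num at hrb <;> omega
  have hr1 : r + 1 = 2 ^ b := by
    have : 1 ≤ 2 ^ b := Nat.one_le_two_pow
    omega
  have hm2 : Nat.Coprime m (r + 1) := by
    rw [hr1]
    exact Nat.Coprime.pow_right _ (Nat.coprime_two_right.mpr hmodd)
  have hfix := pow_sub_one_fixed P hanti hr2 E hEc hEnd C hCP hCE hm hm2 hCm ⟨e₀, he₀, he₀'⟩
  -- the square of `C`
  obtain ⟨k, hk⟩ := hmodd
  have hsqfix : ∀ (e : T), ((C * C) e = e) → C e = e := by
    intro e he
    have h1 : C ^ (2 * k + 1 + 1) = C := by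
      rw [pow_succ, ← hk, hCm, one_mul]
    have h2 : (C * C) ^ (k + 1) = C := by
      rw [← sq, ← pow_mul, show 2 * (k + 1) = 2 * k + 1 + 1 by ring, h1]
    have h3 : ∀ j : ℕ, ((C * C) ^ j) e = e := by
      intro j
      induction j with
      | zero => rfl
      | succ j ih =>
        rw [pow_succ', Module.End.mul_apply, ih, he]
    rw [← h2]
    exact h3 _
  have hCCP : ∀ a c, P.f ((C * C) a) ((C * C) c) = P.f a c := by
    intro a c
    rw [Module.End.mul_apply, Module.End.mul_apply, hCP, hCP]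
  have hCCE : ∀ e ∈ E, (C * C) e ∈ E := fun e he => hCE _ (hCE e he)
  have hCCm : (C * C) ^ m = 1 := by
    rw [← sq, ← pow_mul, mul_comm, pow_mul, hCm, one_pow]
  have hsq : ∀ w ∈ E, w ≠ 0 → ∀ α : ZMod r, C w = α • w → α * α ≠ 1 := by
    intro w hw hw0 α hα hαα
    have h1 : (C * C) w = w := by
      rw [Module.End.mul_apply, hα, map_smul, hα, smul_smul, hαα, one_smul]
    have h2 := fix_trivial P hanti hr2 E hEc hEnd (C * C) hCCP hCCE hm hCCm hw hw0 h1
    exact he₀' (hsqfix e₀ (h2 e₀ he₀))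
  -- `r ≠ 3`
  have hb3 : 3 ≤ b := by
    by_contra hcon
    have hb : b = 2 := by omega
    subst hb
    have hr3' : r = 3 := by norm_num at hrb; exact hrb
    apply he₀'
    apply hsqfix
    have h1 := hfix e₀ he₀
    have h2 : r - 1 = 2 := by omega
    rw [h2, sq] at h1
    exact h1
  -- an eigenvector
  haveI hEnt : Nontrivial E := by
    have h1 : 1 < Nat.card E := by
      rw [hEc]
      exact Nat.one_lt_pow two_ne_zero hr.one_lt
    exact Finite.one_lt_card_iff_nontrivial.mp h1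
  let c₀ : End (ZMod r) E := C.restrict hCE
  have hc₀ : c₀ ^ r = c₀ := by
    ext v
    have h1 := HHChar.restrict_pow_coe C E hCE r v
    have h2 : r = (r - 1) + 1 := by have := hr.pos; omega
    refine h1.trans ?_
    show (C ^ r) (v : T) = C v
    have h3 : C ^ r = C * C ^ (r - 1) := by rw [← pow_succ', Nat.sub_add_cancel hr.pos]
    rw [h3, Module.End.mul_apply, hfix _ v.2]
  obtain ⟨ξ, v₀, hv₀0, hv₀⟩ := exists_eigen_of_pow c₀ hc₀
  set v₁ : T := (v₀ : T) with hv₁
  have hv₁E : v₁ ∈ E := v₀.2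
  have hv₁0 : v₁ ≠ 0 := fun h => hv₀0 (Subtype.ext h)
  have hv₁C : C v₁ = ξ • v₁ := congrArg Subtype.val hv₀
  -- the inverse of `g`
  have h2bpos : 0 < 2 ^ b := pow_pos (by norm_num) b
  obtain ⟨G, hG⟩ : ∃ G : End (ZMod r) T, G = g ^ (2 ^ b - 1) := ⟨_, rfl⟩
  have hgG : g * G = 1 := by
    rw [hG, ← pow_succ', Nat.sub_add_cancel h2bpos, hgN]
  have hGg : G * g = 1 := by
    rw [hG, ← pow_succ, Nat.sub_add_cancel h2bpos, hgN]
  have hGgv : ∀ a, G (g a) = a := by
    intro a
    rw [← Module.End.mul_apply, hGg]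
    rfl
  have hgGv : ∀ a, g (G a) = a := by
    intro a
    rw [← Module.End.mul_apply, hgG]
    rfl
  have hGinj : ∀ a, G a = 0 → a = 0 := by
    intro a ha
    rw [← hgGv a, ha, map_zero]
  have hGE : ∀ e ∈ E, G e ∈ E := by
    rw [hG]
    have h1 : ∀ (j : ℕ), ∀ e ∈ E, (g ^ j) e ∈ E := by
      intro j
      induction j with
      | zero => intro e he; exact he
      | succ j ih =>
        intro e he
        rw [pow_succ', Module.End.mul_apply]
        exact hgE _ (ih e he)
    exact h1 _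
  have hCG : C * G = G * C' := by
    calc C * G = (G * g) * C * G := by rw [hGg, one_mul]
      _ = G * (g * C) * G := by noncomm_ring
      _ = G * (C' * g) * G := by rw [hgC]
      _ = G * C' * (g * G) := by noncomm_ring
      _ = G * C' := by rw [hgG, mul_one]
  have hC'E : ∀ e ∈ E, C' e ∈ E := by
    intro e he
    have h1 : C' e = g (C (G e)) := by
      have h2 := congrArg (fun y : End (ZMod r) T => y (G e)) hgC
      simp only [Module.End.mul_apply, hgGv] at h2
      exact h2.symm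
    rw [h1]
    exact hgE _ (hCE _ (hGE e he))
  -- eigenvectors under `G`
  have hA : ∀ w ∈ E, w ≠ 0 → ∀ α : ZMod r, C w = α • w → ∃ a : ZMod r, C (G w) = a • G w := by
    intro w hw hw0 α hα
    have h1 : C (C' w) = α • C' w := by
      have h2 := congrArg (fun y : End (ZMod r) T => y w) hCC
      simp only [Module.End.mul_apply, hα, map_smul] at h2
      exact h2
    have h2 := orth P hCP hα h1 (hsq w hw hw0 α hα)
    obtain ⟨a, ha⟩ := fact2D P hanti hr2 E hEc hEnd hw hw0 (hC'E w hw) h2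
    refine ⟨a, ?_⟩
    have h3 := congrArg (fun y : End (ZMod r) T => y w) hCG
    simp only [Module.End.mul_apply] at h3
    rw [h3, ha, map_smul]
  have hB : ∃ w ∈ E, w ≠ 0 ∧ ∃ x : ZMod r, G (G w) = x • w := by
    set u := G v₁ with hu
    have huE : u ∈ E := hGE _ hv₁E
    have hu0 : u ≠ 0 := fun h => hv₁0 (hGinj _ h)
    obtain ⟨a₁, ha₁⟩ := hA v₁ hv₁E hv₁0 ξ hv₁C
    set z := G u with hz
    have hzE : z ∈ E := hGE _ huE
    have hz0 : z ≠ 0 := fun h => hu0 (hGinj _ h)
    obtain ⟨a₂, ha₂⟩ := hA u huE hu0 a₁ ha₁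
    by_cases h1 : P.f v₁ u = 1
    · obtain ⟨x, hx⟩ := fact2D P hanti hr2 E hEc hEnd hv₁E hv₁0 huE h1
      refine ⟨v₁, hv₁E, hv₁0, x * x, ?_⟩
      rw [← hu, hx, map_smul, ← hu, hx, smul_smul]
    by_cases h2 : P.f u z = 1
    · obtain ⟨x, hx⟩ := fact2D P hanti hr2 E hEc hEnd huE hu0 hzE h2
      refine ⟨u, huE, hu0, x * x, ?_⟩
      rw [← hz, hx, map_smul, ← hz, hx, smul_smul]
    by_cases h3 : P.f v₁ z = 1
    · obtain ⟨x, hx⟩ := fact2D P hanti hr2 E hEc hEnd hv₁E hv₁0 hzE h3
      exact ⟨v₁, hv₁E, hv₁0, x, hx⟩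
    exfalso
    have e1 : ξ * a₁ = 1 := by
      by_contra hcon
      exact h1 (orth P hCP hv₁C ha₁ hcon)
    have e2 : a₁ * a₂ = 1 := by
      by_contra hcon
      exact h2 (orth P hCP ha₁ ha₂ hcon)
    have e3 : ξ * a₂ = 1 := by
      by_contra hcon
      exact h3 (orth P hCP hv₁C ha₂ hcon)
    have e4 : ξ = a₂ := by
      calc ξ = ξ * (a₁ * a₂) := by rw [e2, mul_one]
        _ = (ξ * a₁) * a₂ := by ring
        _ = a₂ := by rw [e1, one_mul]
    apply hsq v₁ hv₁E hv₁0 ξ hv₁C
    rw [← e4] at e3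
    exact e3
  obtain ⟨w, hwE, hw0, x, hx⟩ := hB
  -- numbers
  obtain ⟨b', rfl⟩ : ∃ b', b = b' + 3 := ⟨b - 3, by omega⟩
  have hGj : ∀ j : ℕ, ((G * G) ^ j) w = (x ^ j) • w := by
    intro j
    induction j with
    | zero => simp
    | succ j ih =>
      rw [pow_succ, Module.End.mul_apply, Module.End.mul_apply, hx, map_smul, ih, smul_smul, pow_succ']
  have hGN : G ^ (2 ^ (b' + 3)) = 1 := by
    rw [hG, ← pow_mul, mul_comm, pow_mul, hgN, one_pow]
  have hsmul1 : ∀ y : ZMod r, y • w = w → y = 1 := by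
    intro y hy
    have h1 : (y - 1) • w = 0 := by rw [sub_smul, one_smul, hy, sub_self]
    have h2 := (smul_eq_zero.mp h1).resolve_right hw0
    exact sub_eq_zero.mp h2
  have hx1 : x ^ (2 ^ (b' + 2)) = 1 := by
    apply hsmul1
    rw [← hGj, ← sq, ← pow_mul, ← pow_succ', hGN]
    rfl
  have hx0 : x ≠ 0 := by
    rintro rfl
    rw [zero_smul] at hx
    exact hw0 (hGinj _ (hGinj _ hx))
  have hx2 : x ^ (r - 1) = 1 := ZMod.pow_card_sub_one_eq_one hx0
  have hr1' : r - 1 = 2 * (2 ^ (b' + 2) - 1) := by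
    have h1 : 2 ^ (b' + 3) = 2 * 2 ^ (b' + 2) := by rw [pow_succ]; ring
    have h2 : 1 ≤ 2 ^ (b' + 2) := Nat.one_le_two_pow
    omega
  have hy : x ^ 2 = 1 := by
    apply eq_one_of_pow_of_pow (a := 2 ^ (b' + 1)) (b := 2 ^ (b' + 2) - 1)
    · apply Nat.Coprime.pow_left
      rw [Nat.coprime_two_left]
      have h1 : 2 ^ (b' + 2) = 2 * 2 ^ (b' + 1) := by rw [pow_succ]; ring
      have h2 : 1 ≤ 2 ^ (b' + 1) := Nat.one_le_two_pow
      rw [h1]
      exact ⟨2 ^ (b' + 1) - 1, by omega⟩
    · rw [← pow_mul, ← hx1, ← pow_succ']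
    · rw [← pow_mul, ← hr1', hx2]
  have hGfix : (G ^ (2 ^ (b' + 2))) w = w := by
    have h1 : G ^ (2 ^ (b' + 2)) = (G * G) ^ (2 ^ (b' + 1)) := by
      rw [← sq, ← pow_mul, ← pow_succ']
    rw [h1, hGj]
    have h2 : x ^ (2 ^ (b' + 1)) = 1 := by
      rw [show 2 ^ (b' + 1) = 2 * 2 ^ b' by ring, pow_mul, hy, one_pow]
    rw [h2, one_smul]
  have hfin := hSg w hwE
  have h1 : g ^ (2 ^ (b' + 3 - 1)) * G ^ (2 ^ (b' + 2)) = 1 := by
    have h2 : b' + 3 - 1 = b' + 2 := by omega
    have h3 : Commute g G := hgG.trans hGg.symm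
    rw [h2, ← h3.mul_pow, hgG, one_pow]
  have h2 := congrArg (fun y : End (ZMod r) T => y w) h1
  simp only [Module.End.mul_apply, hGfix, Module.End.one_apply] at h2
  rw [hfin] at h2
  have h3 : (2 : ℕ) • w = 0 := by
    rw [two_smul]
    nth_rewrite 1 [← h2]
    exact neg_add_cancel w
  have h4 : (2 : ZMod r) ≠ 0 := by
    intro h0
    have h5 : ((2 : ℕ) : ZMod r) = 0 := by exact_mod_cast h0
    rw [ZMod.natCast_eq_zero_iff] at h5
    exact hr2 ((Nat.prime_dvd_prime_iff_eq hr Nat.prime_two).mp h5)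
  have h5 : (2 : ZMod r) • w = 0 := by
    have : ((2 : ℕ) : ZMod r) • w = 0 := by rw [Nat.cast_smul_eq_nsmul]; exact h3
    exact_mod_cast this
  exact hw0 ((smul_eq_zero.mp h5).resolve_left h4)


end TwoDim

section Main

variable [Finite T]

/-- Nondegeneracy on the image of `s - 1` for an isometric involution `s`. -/
theorem nondeg_range (hr2 : r ≠ 2) (P : SymP T K₀) (hnd : ∀ a, (∀ c, P.f a c = 1) → a = 0)
    (s : End (ZMod r) T) (hsP : ∀ a c, P.f (s a) (s c) = P.f a c) (hs2 : s * s = 1) :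
    ∀ a ∈ LinearMap.range (s - 1), (∀ c ∈ LinearMap.range (s - 1), P.f a c = 1) → a = 0 := by
  have hr : r.Prime := Fact.out
  have hss : ∀ c, s (s c) = c := by
    intro c
    rw [← Module.End.mul_apply, hs2]
    rfl
  intro a ha hac
  have hEminus : s a = - a := by
    obtain ⟨c, rfl⟩ := ha
    simp only [LinearMap.sub_apply, Module.End.one_apply, map_sub]
    rw [hss]; abel
  apply hnd
  intro c
  have h1 : P.f a (s c + c) * P.f a (s c + c) = 1 := by
    have h2 := hsP a (s c + c)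
    rw [hEminus, map_add, hss, add_comm c, P.neg_l] at h2
    have h4 := P.ne a (s c + c)
    field_simp at h2
    rw [← sq]
    exact h2.symm
  have h5 : P.f a (s c - c) = 1 := hac _ ⟨c, rfl⟩
  have h6 : P.f a ((2 : ℕ) • c) = P.f a (s c + c) := by
    have h7 : (2 : ℕ) • c = (s c + c) - (s c - c) := by
      rw [two_smul]; abel
    rw [h7, P.sub_r, h5, inv_one, mul_one]
  have h7 : (P.f a c) ^ 4 = 1 := by
    rw [P.nsmul_r] at h6
    rw [show 4 = 2 * 2 by norm_num, pow_mul, h6, sq, h1]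
  have h8 : (P.f a c) ^ r = 1 := P_pow_r P a c
  refine eq_one_of_pow_of_pow ?_ h7 h8
  exact Nat.Coprime.pow_left 2 ((Nat.coprime_primes Nat.prime_two hr).mpr (Ne.symm hr2)) |>.symm.symm

/-- **The section lemma.** -/
theorem lemmaF {b : ℕ} (hr2 : r ≠ 2) (hrb : r = 2 ^ b - 1) (P : SymP T K₀)
    (hnd : ∀ a, (∀ c, P.f a c = 1) → a = 0) (hanti : ∀ a c, P.f c a = (P.f a c)⁻¹)
    (g : End (ZMod r) T) (hgP : ∀ a c, P.f (g a) (g c) = P.f a c) (hgN : g ^ (2 ^ b) = 1)
    (hE : Nat.card (LinearMap.range (g ^ (2 ^ (b - 1)) - 1)) = r ^ 2)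
    {Q : Type*} [Group Q] (β : Q →* End (ZMod r) T) {m : ℕ} (hm : Nat.Coprime m r) (hmodd : Odd m)
    (hQm : ∀ a : Q, a ^ m = 1) (x y c c' : Q) (hc : x * y = c * (y * x)) (hcx : c * x = x * c)
    (hcy : c * y = y * c) (hcP : ∀ a a', P.f (β c a) (β c a') = P.f a a')
    (hSx : g ^ (2 ^ (b - 1)) * β x = β x⁻¹ * g ^ (2 ^ (b - 1)))
    (hSy : g ^ (2 ^ (b - 1)) * β y = β y⁻¹ * g ^ (2 ^ (b - 1)))
    (hSc : g ^ (2 ^ (b - 1)) * β c = β c * g ^ (2 ^ (b - 1)))
    (hgc : g * β c = β c' * g) (hcc : c * c' = c' * c) : β c = 1 := by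
  classical
  have hr : r.Prime := Fact.out
  have hb1 : 1 ≤ b := by
    by_contra hcon
    have h0 : b = 0 := by omega
    rw [h0] at hrb
    norm_num at hrb
    exact hr.ne_zero hrb
  obtain ⟨s, hs⟩ : ∃ s : End (ZMod r) T, s = g ^ (2 ^ (b - 1)) := ⟨_, rfl⟩
  rw [← hs] at hE hSx hSy hSc
  have hs2 : s * s = 1 := by
    rw [hs, ← pow_add, ← hgN]
    congr 1
    obtain ⟨b', rfl⟩ : ∃ b', b = b' + 1 := ⟨b - 1, by omega⟩
    simp only [Nat.add_sub_cancel]
    rw [pow_succ]; ring
  have hss : ∀ c, s (s c) = c := by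
    intro c
    rw [← Module.End.mul_apply, hs2]
    rfl
  have hsP : ∀ a c, P.f (s a) (s c) = P.f a c := by
    rw [hs]
    have h1 : ∀ (j : ℕ) a c, P.f ((g ^ j) a) ((g ^ j) c) = P.f a c := by
      intro j
      induction j with
      | zero => intro a c; rfl
      | succ j ih =>
        intro a c
        rw [pow_succ', Module.End.mul_apply, Module.End.mul_apply, hgP, ih]
    exact h1 _
  set E := LinearMap.range (s - 1) with hEdef
  have hEnd := nondeg_range hr2 P hnd s hsP hs2
  have hEminus : ∀ d ∈ E, s d = - d := by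
    rintro _ ⟨t, rfl⟩
    simp only [LinearMap.sub_apply, Module.End.one_apply, map_sub]
    rw [hss]; abel
  have hgs : g * s = s * g := by
    rw [hs, ← pow_succ', pow_succ]
  have hgE : ∀ e ∈ E, g e ∈ E := by
    rintro _ ⟨t, rfl⟩
    refine ⟨g t, ?_⟩
    simp only [LinearMap.sub_apply, Module.End.one_apply, map_sub]
    congr 1
    rw [← Module.End.mul_apply, ← Module.End.mul_apply, hgs]
  have hCE : ∀ e ∈ E, β c e ∈ E := by
    rintro _ ⟨t, rfl⟩
    refine ⟨β c t, ?_⟩
    simp only [LinearMap.sub_apply, Module.End.one_apply, map_sub]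
    congr 1
    rw [← Module.End.mul_apply, ← Module.End.mul_apply, hSc]
  have hCm : (β c) ^ m = 1 := by
    rw [← map_pow, hQm, map_one]
  have hfixE : ∀ e ∈ E, β c e = e := by
    refine two_dim_core P hanti hr2 E hE hEnd hrb g hgP hgN hgE ?_ (β c) (β c') hcP hCE hm hmodd hCm hgc ?_
    · rw [← hs]
      exact hEminus
    · rw [← map_mul, ← map_mul, hcc]
  -- the image of `C - 1`
  have hN : ∀ t, s (β c t - t) = β c t - t := by
    intro t
    have h1 : β c (s t - t) = s t - t := hfixE _ ⟨t, rfl⟩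
    have h2 := congrArg (fun z : End (ZMod r) T => z t) hSc
    simp only [Module.End.mul_apply] at h2
    rw [map_sub, h2]
    rw [map_sub] at h1
    have h3 : β c (s t) - s t = β c t - t := by
      have h4 : β c (s t) - β c t = s t - t := h1
      calc β c (s t) - s t = (β c (s t) - β c t) + (β c t - s t) := by abel
        _ = (s t - t) + (β c t - s t) := by rw [h4]
        _ = β c t - t := by abel
    exact h3
  have hoddfix : ∀ (a : Q) (n : T), β (a * a) n = n → β a n = n := by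
    intro a n hn
    obtain ⟨k, hk⟩ := hmodd
    have h1 : (a * a) ^ (k + 1) = a := by
      rw [← sq, ← pow_mul, show 2 * (k + 1) = (2 * k + 1) + 1 by ring, pow_succ, ← hk, hQm, one_mul]
    have h3 : ∀ j : ℕ, β ((a * a) ^ j) n = n := by
      intro j
      induction j with
      | zero => simp
      | succ j ih =>
        rw [pow_succ, map_mul, Module.End.mul_apply, hn, ih]
    rw [← h1]
    exact h3 _
  have hfixgen : ∀ (a : Q), c * a = a * c → s * β a = β a⁻¹ * s → ∀ t, β a (β c t - t) = β c t - t := by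
    intro a hca hSa t
    apply hoddfix
    set n := β c t - t with hn
    have h1 : β a n = β c (β a t) - β a t := by
      rw [hn, map_sub]
      congr 1
      rw [← Module.End.mul_apply, ← Module.End.mul_apply, ← map_mul, ← map_mul, hca]
    have h2 : s (β a n) = β a n := by
      rw [h1]
      exact hN _
    have h3 := congrArg (fun z : End (ZMod r) T => z n) hSa
    simp only [Module.End.mul_apply] at h3
    have h4 : s n = n := hN t
    rw [h4, h2] at h3
    rw [map_mul, Module.End.mul_apply, h3, ← Module.End.mul_apply, ← map_mul, mul_inv_cancel, map_one]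
    rfl
  have hfixN : ∀ t, β c (β c t - t) = β c t - t := by
    intro t
    set n := β c t - t with hn
    have h1 := hfixgen x hcx hSx t
    have h2 := hfixgen y hcy hSy t
    rw [← hn] at h1 h2
    have h3 : β (x * y) n = β (c * (y * x)) n := by rw [hc]
    rw [map_mul, map_mul, map_mul, Module.End.mul_apply, h2, h1, Module.End.mul_apply,
      Module.End.mul_apply, h1, h2] at h3
    exact h3.symm
  ext t
  have h1 : ∀ j : ℕ, ((β c) ^ j) t = t + j • (β c t - t) := by
    intro j
    induction j with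
    | zero => simp
    | succ j ih =>
      rw [pow_succ', Module.End.mul_apply, ih, map_add, map_nsmul, hfixN, succ_nsmul]
      abel
  have h4 := h1 m
  rw [hCm, Module.End.one_apply] at h4
  have h5 : m • (β c t - t) = 0 := by
    have h6 : t + m • (β c t - t) = t + 0 := by rw [← h4, add_zero]
    exact add_left_cancel h6
  have h6 : ((m : ZMod r)) • (β c t - t) = 0 := by
    rw [Nat.cast_smul_eq_nsmul]; exact h5
  have hmne : (m : ZMod r) ≠ 0 := by
    intro h0
    rw [ZMod.natCast_eq_zero_iff] at h0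
    have h7 := Nat.Coprime.eq_one_of_dvd hm.symm h0
    exact hr.one_lt.ne' h7
  have h7 := (smul_eq_zero.mp h6).resolve_left hmne
  exact sub_eq_zero.mp h7

end Main

end Cfsg.Agent.Lib.GrossF
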