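import Mathlib
import Cfsg.Agent.Lib.GrossF

/-!
# The representation-level steps of Gross's theorem
-/

set_option autoImplicit false
set_option linter.unusedSectionVars false
set_option linter.unusedVariables false
set_option linter.style.haveILetI false

namespace Cfsg.Agent.Lib.GrossCore

open Module Cfsg.Agent.Lib.HHCore Cfsg.Agent.Lib.HHChar Cfsg.Agent.Lib.HHFermat
  Cfsg.Agent.Lib.WardSym Cfsg.Agent.Lib.WardCore Cfsg.Agent.Lib.WardNonab Cfsg.Agent.Lib.HHMain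
  Cfsg.Agent.Lib.GrossE Cfsg.Agent.Lib.GrossF
open scoped commutatorElement

universe u v w

theorem exists_sq_pow {G : Type*} [Group G] {m : ℕ} (hm : Odd m) {a : G} (ha : a ^ m = 1) :
    ∃ k : ℕ, (a * a) ^ k = a := by
  obtain ⟨k, hk⟩ := hm
  refine ⟨k + 1, ?_⟩
  rw [← sq, ← pow_mul, show 2 * (k + 1) = (2 * k + 1) + 1 by ring, pow_succ, ← hk, ha, one_mul]

/-- The minimal section argument. -/
theorem sigma0_trivial_of_hyps {Q : Type*} [Group Q] [Finite Q] {s : ℕ} [Fact s.Prime] (hs2 : s ≠ 2)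
    (hQ : IsPGroup s Q) (θ θ₀ : MulAut Q) {k : ℕ} (hθ₀k : θ₀ = θ ^ k) (hθ₀ : θ₀ * θ₀ = 1)
    (H1 : ∀ x y c : Q, θ₀ x = x⁻¹ → θ₀ y = y⁻¹ → c = ⁅x, y⁆ → c * x = x * c → c * y = y * c → θ₀ c = c →
      (∀ j : ℕ, c * (θ ^ j) c = (θ ^ j) c * c) → c = 1)
    (H2 : ∀ S : Subgroup Q, (∀ a ∈ S, θ a ∈ S) → (∀ a ∈ S, ∀ b ∈ S, a * b = b * a) → ∀ a ∈ S, θ₀ a = a) :
    θ₀ = 1 := by
  classical
  by_contra hne
  have hθθ₀ : ∀ a, θ (θ₀ a) = θ₀ (θ a) := by
    intro a
    rw [hθ₀k]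
    show (θ * θ ^ k) a = (θ ^ k * θ) a
    rw [← pow_succ', pow_succ]
  have hθ₀sq : ∀ a, θ₀ (θ₀ a) = a := by
    intro a
    show (θ₀ * θ₀) a = a
    rw [hθ₀]; rfl
  have hodd : ∀ c : Q, c ^ 2 = 1 → c = 1 := by
    intro c hc
    obtain ⟨m, hm⟩ := hQ c
    have hm' : c ^ s ^ m = 1 := hm
    refine eq_one_of_pow_of_pow (a := 2) (b := s ^ m) ?_ hc hm'
    exact Nat.Coprime.pow_right _ ((Nat.coprime_primes Nat.prime_two Fact.out).mpr (Ne.symm hs2))
  let 𝒮 : Set (Subgroup Q) := {S | (∀ a ∈ S, θ a ∈ S) ∧ ∃ a ∈ S, θ₀ a ≠ a}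
  have htop : (⊤ : Subgroup Q) ∈ 𝒮 := by
    refine ⟨fun _ _ => trivial, ?_⟩
    by_contra hcon
    push Not at hcon
    exact hne (MulEquiv.ext fun a => hcon a trivial)
  obtain ⟨Q₀, hQ₀⟩ := (Set.toFinite 𝒮).exists_minimal ⟨⊤, htop⟩
  obtain ⟨hQ₀θ, t₀, ht₀, ht₀'⟩ := hQ₀.1
  have hmin : ∀ S : Subgroup Q, S ≤ Q₀ → (∀ a ∈ S, θ a ∈ S) → S ≠ Q₀ → ∀ a ∈ S, θ₀ a = a := by
    intro S h1 h2 h3 a ha
    by_contra hcon
    exact h3 (le_antisymm h1 (hQ₀.2 ⟨h2, a, ha, hcon⟩ h1))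
  have hQ₀θ₀ : ∀ a ∈ Q₀, θ₀ a ∈ Q₀ := by
    rw [hθ₀k]
    have h1 : ∀ (j : ℕ), ∀ a ∈ Q₀, (θ ^ j) a ∈ Q₀ := by
      intro j
      induction j with
      | zero => intro a ha; exact ha
      | succ j ih =>
        intro a ha
        rw [pow_succ']
        exact hQ₀θ _ (ih a ha)
    exact h1 k
  -- the twisted elements
  let K : Subgroup Q := Subgroup.closure {w | ∃ t ∈ Q₀, w = θ₀ t * t⁻¹}
  have hKQ₀ : K ≤ Q₀ := by
    refine (Subgroup.closure_le _).mpr ?_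
    rintro _ ⟨t, ht, rfl⟩
    exact Q₀.mul_mem (hQ₀θ₀ t ht) (Q₀.inv_mem ht)
  have hKθ : ∀ a ∈ K, θ a ∈ K := by
    intro a ha
    induction ha using Subgroup.closure_induction with
    | mem a ha =>
      obtain ⟨t, ht, rfl⟩ := ha
      apply Subgroup.subset_closure
      refine ⟨θ t, hQ₀θ t ht, ?_⟩
      rw [map_mul, map_inv, hθθ₀]
    | one => rw [map_one]; exact K.one_mem
    | mul a c _ _ ha hc => rw [map_mul]; exact K.mul_mem ha hc
    | inv a _ ha => rw [map_inv]; exact K.inv_mem ha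
  have hinvert : ∀ t, θ₀ (θ₀ t * t⁻¹) = (θ₀ t * t⁻¹)⁻¹ := by
    intro t
    rw [map_mul, map_inv, hθ₀sq]
    group
  have hKQ : K = Q₀ := by
    by_contra hcon
    have h1 := hmin K hKQ₀ hKθ hcon
    apply ht₀'
    have h2 : θ₀ ^ 2 = 1 := by rw [sq, hθ₀]
    refine twist_trivial θ₀ h2 hodd (h1 _ (Subgroup.subset_closure ⟨t₀, ht₀, rfl⟩))
  -- the derived subgroup
  let D : Subgroup Q := ⁅Q₀, Q₀⁆
  have hDQ₀ : D ≤ Q₀ := by
    refine Subgroup.commutator_le.mpr fun a ha b hb => ?_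
    rw [commutatorElement_def]
    exact Q₀.mul_mem (Q₀.mul_mem (Q₀.mul_mem ha hb) (Q₀.inv_mem ha)) (Q₀.inv_mem hb)
  have hQ₀nt : Nontrivial Q₀ := by
    refine ⟨⟨⟨t₀, ht₀⟩, 1, ?_⟩⟩
    intro h
    have h1 : t₀ = 1 := congrArg Subtype.val h
    rw [h1, map_one] at ht₀'
    exact ht₀' rfl
  have hDne : D ≠ Q₀ := by
    intro h1
    have hQ₀p : IsPGroup s Q₀ := hQ.to_subgroup Q₀
    haveI : Group.IsNilpotent Q₀ := hQ₀p.isNilpotent
    haveI : Group.IsSolvable Q₀ := inferInstance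
    have h3 := Group.IsSolvable.commutator_lt_top_of_nontrivial (G := Q₀)
    apply h3.ne
    have h4 : (commutator Q₀).map Q₀.subtype = ⁅Q₀, Q₀⁆ := by
      rw [commutator_def, Subgroup.map_commutator, ← MonoidHom.range_eq_map, Subgroup.range_subtype]
    rw [show ⁅Q₀, Q₀⁆ = Q₀ from h1] at h4
    apply Subgroup.map_injective Q₀.subtype_injective
    rw [h4, ← MonoidHom.range_eq_map, Subgroup.range_subtype]
  have hDθ : ∀ a ∈ D, θ a ∈ D := by
    have h1 : D.map θ.toMonoidHom ≤ D := by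
      have hmap : Q₀.map θ.toMonoidHom ≤ Q₀ := by
        rintro _ ⟨v, hv, rfl⟩
        exact hQ₀θ v hv
      show (⁅Q₀, Q₀⁆).map θ.toMonoidHom ≤ ⁅Q₀, Q₀⁆
      rw [Subgroup.map_commutator]
      exact Subgroup.commutator_mono hmap hmap
    exact fun a ha => h1 ⟨a, ha, rfl⟩
  have hDfix := hmin D hDQ₀ hDθ hDne
  have hDconj : ∀ t ∈ Q₀, ∀ z ∈ D, t * z * t⁻¹ ∈ D := by
    intro t ht z hz
    have h1 : t * z * t⁻¹ = ⁅t, z⁆ * z := by simp [commutatorElement_def]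
    rw [h1]
    exact D.mul_mem (Subgroup.commutator_mem_commutator ht (hDQ₀ hz)) hz
  have hDcen : ∀ z ∈ D, ∀ a ∈ Q₀, z * a = a * z := by
    intro z hz a ha
    have hK1 : K ≤ Subgroup.centralizer {z} := by
      refine (Subgroup.closure_le _).mpr ?_
      rintro _ ⟨t, ht, rfl⟩
      rw [SetLike.mem_coe, Subgroup.mem_centralizer_singleton_iff]
      have hw : t⁻¹ * z * t ∈ D := by
        have := hDconj t⁻¹ (Q₀.inv_mem ht) z hz
        simpa using this
      have h1 := hDfix _ hw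
      simp only [map_mul, map_inv, hDfix z hz] at h1
      show θ₀ t * t⁻¹ * z = z * (θ₀ t * t⁻¹)
      have h2 : z * θ₀ t = θ₀ t * (t⁻¹ * z * t) := by
        rw [← h1]; group
      calc θ₀ t * t⁻¹ * z = θ₀ t * (t⁻¹ * z * t) * t⁻¹ := by group
        _ = z * θ₀ t * t⁻¹ := by rw [h2]
        _ = z * (θ₀ t * t⁻¹) := by group
    have h2 : a ∈ Subgroup.centralizer {z} := hK1 (hKQ ▸ ha)
    rw [Subgroup.mem_centralizer_singleton_iff] at h2
    exact h2.symm
  -- the generators commute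
  have hgencomm : ∀ x ∈ {w | ∃ t ∈ Q₀, w = θ₀ t * t⁻¹}, ∀ y ∈ {w | ∃ t ∈ Q₀, w = θ₀ t * t⁻¹}, x * y = y * x := by
    rintro _ ⟨t, ht, rfl⟩ _ ⟨t', ht', rfl⟩
    set x := θ₀ t * t⁻¹ with hx
    set y := θ₀ t' * t'⁻¹ with hy
    have hxQ : x ∈ Q₀ := Q₀.mul_mem (hQ₀θ₀ t ht) (Q₀.inv_mem ht)
    have hyQ : y ∈ Q₀ := Q₀.mul_mem (hQ₀θ₀ t' ht') (Q₀.inv_mem ht')
    have hcD : ⁅x, y⁆ ∈ D := Subgroup.commutator_mem_commutator hxQ hyQ
    have hθj : ∀ (j : ℕ), ∀ a ∈ D, (θ ^ j) a ∈ D := by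
      intro j
      induction j with
      | zero => intro a ha; exact ha
      | succ j ih =>
        intro a ha
        rw [pow_succ']
        exact hDθ _ (ih a ha)
    have h1 := H1 x y ⁅x, y⁆ (hinvert t) (hinvert t') rfl (hDcen _ hcD x hxQ) (hDcen _ hcD y hyQ) (hDfix _ hcD)
      (fun j => hDcen _ hcD _ (hDQ₀ (hθj j _ hcD)))
    exact commutatorElement_eq_one_iff_mul_comm.mp h1
  have hab : ∀ a ∈ Q₀, ∀ b ∈ Q₀, a * b = b * a := by
    rw [← hKQ]
    intro a ha b hb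
    have h1 : Subgroup.closure {w | ∃ t ∈ Q₀, w = θ₀ t * t⁻¹} ≤
        Subgroup.centralizer {w | ∃ t ∈ Q₀, w = θ₀ t * t⁻¹} := by
      refine (Subgroup.closure_le _).mpr ?_
      intro x hx
      rw [SetLike.mem_coe, Subgroup.mem_centralizer_iff]
      intro y hy
      exact hgencomm y hy x hx
    have h2 : K ≤ Subgroup.centralizer {a} := by
      refine (Subgroup.closure_le _).mpr ?_
      intro y hy
      rw [SetLike.mem_coe, Subgroup.mem_centralizer_singleton_iff]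
      have h3 := Subgroup.mem_centralizer_iff.mp (h1 ha) y hy
      exact h3
    have h3 := h2 hb
    rw [Subgroup.mem_centralizer_singleton_iff] at h3
    exact h3.symm
  exact ht₀' (H2 Q₀ hQ₀θ hab t₀ ht₀)

section Rep

variable {K : Type u} [Field K] [IsAlgClosed K] {U : Type*} [AddCommGroup U] [Module K U]
  [FiniteDimensional K U] {R : Type v} [Group R] [Fintype R]

/-- A weight separating a nontrivial central element. -/
theorem exists_weight (hRK : (Fintype.card R : K) ≠ 0) (ρ : R →* End K U) (hρ : Function.Injective ρ)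
    (Z : Subgroup R) (hZc : ∀ z ∈ Z, ∀ s, z * s = s * z) {e : R} (he : e ∈ Z) (he1 : e ≠ 1) :
    ∃ μ : Z →* K, wt (ρ.comp Z.subtype) μ ≠ ⊥ ∧ μ ≠ 1 ∧ μ ⟨e, he⟩ ≠ 1 := by
  classical
  let ρZ : Z →* End K U := ρ.comp Z.subtype
  have hx : (ρ e) ^ (Fintype.card R) = 1 := by
    rw [← map_pow, pow_card_eq_one, map_one]
  have hx1 : ρ e ≠ 1 := by
    intro h
    apply he1
    apply hρ
    rw [h, map_one]
  obtain ⟨a, ha1, hE⟩ := exists_eigenvalue_ne_one (ρ e) hRK hx hx1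
  have hcomm_c : ∀ z : Z, ρ (z : R) * ρ e = ρ e * ρ (z : R) := by
    intro z
    rw [← map_mul, ← map_mul, hZc z z.2 e]
  obtain ⟨μ, u₀, hu₀E, hu₀0, hu₀⟩ := exists_common_eigen ρZ (End.eigenspace (ρ e) a) hE
    (by
      intro z u hu
      rw [End.mem_eigenspace_iff] at hu ⊢
      have h1 := congrArg (fun y : End K U => y u) (hcomm_c z)
      simp only [Module.End.mul_apply, hu, map_smul] at h1
      exact h1.symm)
    (by
      intro z z' u _
      show ρ (z : R) (ρ (z' : R) u) = ρ (z' : R) (ρ (z : R) u)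
      rw [← Module.End.mul_apply, ← Module.End.mul_apply, ← map_mul, ← map_mul, hZc z z.2 z'])
  have hμc : μ ⟨e, he⟩ = a := by
    have h1 : ρ e u₀ = μ ⟨e, he⟩ • u₀ := hu₀ ⟨e, he⟩
    have h2 : ρ e u₀ = a • u₀ := End.mem_eigenspace_iff.mp hu₀E
    exact smul_left_injective K hu₀0 (h1.symm.trans h2)
  have hμwt : wt (ρ.comp Z.subtype) μ ≠ ⊥ := by
    intro h
    have h1 : u₀ ∈ wt ρZ μ := hu₀
    rw [show wt ρZ μ = ⊥ from h] at h1
    exact hu₀0 ((Submodule.mem_bot _).mp h1)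
  have hμ1 : μ ≠ 1 := by
    rintro rfl
    exact ha1 hμc.symm
  exact ⟨μ, hμwt, hμ1, by rw [hμc]; exact ha1⟩

/-- The action of a commutator on the section of a weight. -/
theorem weight_lemma {Y : Type w} [Group Y] [Finite Y] {r s n : ℕ}
    (hr : r.Prime) (hr2 : r ≠ 2) (hs : s.Prime) (hs2 : s ≠ 2) (hsr : s ≠ r) (hn : 1 ≤ n)
    (hRr : IsPGroup r R) (hYs : IsPGroup s Y) (h2K : (2 : K) ≠ 0) (hRK : (Fintype.card R : K) ≠ 0)
    (ρ : R →* End K U) (σ : MulAut R) (hσ : σ ^ (2 ^ n) = 1) (hfpf : ∀ s, σ s = s → s = 1)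
    (τ : End K U) (hτρ : ∀ s, τ * ρ s = ρ (σ s) * τ) (hτ : τ ^ (2 ^ n) = 1)
    (hnorm : ∑ i ∈ Finset.range (2 ^ n), τ ^ i = 0)
    (β : Y →* MulAut R) (σY : MulAut Y)
    (hcompat : ∀ y s, β (σY y) (σ s) = σ (β y s))
    (Z : Subgroup R) (hZc : ∀ z ∈ Z, ∀ s, z * s = s * z) (hZσ : ∀ z, z ∈ Z ↔ σ z ∈ Z)
    (hcommZ : ∀ s t : R, ⁅s, t⁆ ∈ Z) (hpowZ : ∀ s : R, s ^ r ∈ Z) (hβZ : ∀ y, ∀ z ∈ Z, β y z = z)
    (μ : Z →* K) (hμ : wt (ρ.comp Z.subtype) μ ≠ ⊥) (hμ1 : μ ≠ 1)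
    (N : Subgroup Y) [N.Normal] (hNσ : ∀ y, y ∈ N ↔ σY y ∈ N)
    (hNcen : ∀ y ∈ N, ∀ t u : R, ⁅β y t * t⁻¹, u⁆ = 1)
    (x y c : Y ⧸ N)
    (hx : ((autQuot σY N hNσ) ^ (2 ^ (n - 1))) x = x⁻¹) (hy : ((autQuot σY N hNσ) ^ (2 ^ (n - 1))) y = y⁻¹)
    (hc : c = ⁅x, y⁆) (hcx : c * x = x * c) (hcy : c * y = y * c)
    (hc0 : ((autQuot σY N hNσ) ^ (2 ^ (n - 1))) c = c)
    (hcj : ∀ j : ℕ, c * ((autQuot σY N hNσ) ^ j) c = ((autQuot σY N hNσ) ^ j) c * c)
    (ĉ : Y) (hĉ : (ĉ : Y ⧸ N) = c) (t u : R) : μ ⟨⁅β ĉ t * t⁻¹, u⁆, hcommZ _ _⟩ = 1 := by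
  classical
  haveI : Fact r.Prime := ⟨hr⟩
  haveI : Fact s.Prime := ⟨hs⟩
  obtain ⟨b, t₀, T, _, _, _, π, P, g, hπ1, hπ2, hπ3, hPπ, hnd, hanti, hb1, hbn, ht₀, hgπ, hgP, hgN, hcase⟩ :=
    exists_section hr hr2 hRr h2K hRK ρ σ hσ hfpf τ hτρ hτ hnorm Z hZc hZσ hcommZ hpowZ μ hμ hμ1
  have hπone : π 1 = 0 := by
    have h2 := hπ1 1 1
    rw [mul_one] at h2
    exact left_eq_add.mp h2
  have hπinv : ∀ s, π s⁻¹ = - π s := by
    intro s
    have h2 := hπ1 s⁻¹ s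
    rw [inv_mul_cancel, hπone] at h2
    exact eq_neg_of_add_eq_zero_left h2.symm
  -- the action on the section
  have hβcomm : ∀ (y : Y) (a c : R), μ ⟨⁅β y a, β y c⁆, hcommZ _ _⟩ = μ ⟨⁅a, c⁆, hcommZ _ _⟩ := by
    intro y a c
    congr 1
    apply Subtype.ext
    show ⁅β y a, β y c⁆ = ⁅a, c⁆
    rw [← map_commutatorElement, hβZ y _ (hcommZ a c)]
  obtain ⟨βT, hβT⟩ := exists_op_hom (r := r) hπ1 hπ2 β (by
    intro y a ha
    rw [hπ3] at ha ⊢
    intro c
    obtain ⟨c', rfl⟩ := (β y).surjective c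
    rw [hβcomm]
    exact ha c')
  have hβP : ∀ (y : Y) a c, P.f (βT y a) (βT y c) = P.f a c := by
    intro y a c
    obtain ⟨a', rfl⟩ := hπ2 a
    obtain ⟨c', rfl⟩ := hπ2 c
    rw [hβT, hβT, hPπ, hPπ, hβcomm]
  have hNβ : N ≤ βT.ker := by
    intro y hy
    rw [MonoidHom.mem_ker]
    ext a
    obtain ⟨a', rfl⟩ := hπ2 a
    rw [hβT]
    have h1 : π (β y a' * a'⁻¹) = 0 := by
      rw [hπ3]
      intro c
      have h2 : (⟨⁅β y a' * a'⁻¹, c⁆, hcommZ _ _⟩ : Z) = 1 := Subtype.ext (hNcen y hy a' c)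
      rw [h2, map_one]
    rw [hπ1, hπinv] at h1
    have h3 := add_neg_eq_zero.mp h1
    rw [h3]
    rfl
  let β' : (Y ⧸ N) →* End (ZMod r) T := QuotientGroup.lift N βT hNβ
  have hβ'mk : ∀ y : Y, β' (y : Y ⧸ N) = βT y := fun y => rfl
  let θ : MulAut (Y ⧸ N) := autQuot σY N hNσ
  have hσj : ∀ (j : ℕ) (y : Y) (a : R), β ((σY ^ j) y) ((σ ^ j) a) = (σ ^ j) (β y a) := by
    intro j
    induction j with
    | zero => intro y a; rfl
    | succ j ih =>
      intro y a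
      rw [pow_succ', pow_succ']
      show β (σY ((σY ^ j) y)) (σ ((σ ^ j) a)) = σ ((σ ^ j) (β y a))
      rw [hcompat, ih]
  have hg' : ∀ a, g * β' a = β' ((θ ^ t₀) a) * g := by
    intro a
    induction a using QuotientGroup.induction_on with
    | H y =>
      rw [show (θ ^ t₀) (y : Y ⧸ N) = (((σY ^ t₀) y : Y) : Y ⧸ N) from autQuot_pow_mk σY N hNσ t₀ y]
      rw [hβ'mk, hβ'mk]
      ext a
      obtain ⟨a', rfl⟩ := hπ2 a
      rw [Module.End.mul_apply, Module.End.mul_apply, hβT, hgπ, hgπ, hβT, hσj]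
  -- exponents
  have hexp : t₀ * 2 ^ (b - 1) = 2 ^ (n - 1) := by
    obtain ⟨b', rfl⟩ : ∃ b', b = b' + 1 := ⟨b - 1, by omega⟩
    obtain ⟨n', rfl⟩ : ∃ n', n = n' + 1 := ⟨n - 1, by omega⟩
    simp only [Nat.add_sub_cancel]
    rw [pow_succ, pow_succ, ← mul_assoc] at ht₀
    exact Nat.eq_of_mul_eq_mul_right (by norm_num) ht₀
  have hS : ∀ a, g ^ (2 ^ (b - 1)) * β' a = β' ((θ ^ (2 ^ (n - 1))) a) * g ^ (2 ^ (b - 1)) := by
    intro a
    have h1 := g_pow_mul hg' (2 ^ (b - 1)) a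
    rw [← pow_mul, hexp] at h1
    exact h1
  have hcard : ∀ a : Y ⧸ N, a ^ (Nat.card (Y ⧸ N)) = 1 := fun a => pow_card_eq_one'
  have hYN : IsPGroup s (Y ⧸ N) := hYs.to_quotient N
  obtain ⟨l, hl⟩ := IsPGroup.iff_card.mp hYN
  have hmodd : Odd (Nat.card (Y ⧸ N)) := by
    rw [hl]
    exact (hs.odd_of_ne_two hs2).pow
  have hmr : Nat.Coprime (Nat.card (Y ⧸ N)) r := by
    rw [hl]
    exact Nat.Coprime.pow_left _ ((Nat.coprime_primes hs hr).mpr hsr)
  have hcone : β' c = 1 := by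
    rcases hcase with hcase | ⟨hrb, hE⟩
    · have hinv : ∀ a, ((θ ^ (2 ^ (n - 1))) a = a⁻¹) → β' a = 1 := by
        intro a ha
        have h1 := hS a
        rw [hcase, one_mul, mul_one, ha] at h1
        have h2 : β' (a * a) = 1 := by
          rw [map_mul]
          nth_rewrite 1 [h1]
          rw [← map_mul, inv_mul_cancel, map_one]
        obtain ⟨k, hk⟩ := exists_sq_pow hmodd (hcard a)
        rw [← hk, map_pow, h2, one_pow]
      have hk : x ∈ β'.ker := hinv x hx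
      have hk' : y ∈ β'.ker := hinv y hy
      have hk'' : ⁅x, y⁆ ∈ β'.ker := by
        rw [commutatorElement_def]
        exact β'.ker.mul_mem (β'.ker.mul_mem (β'.ker.mul_mem hk hk') (β'.ker.inv_mem hk)) (β'.ker.inv_mem hk')
      rw [hc]
      exact hk''
    · refine lemmaF (b := b) hr2 hrb P hnd hanti g hgP hgN hE β' hmr hmodd hcard x y c ((θ ^ t₀) c) ?_ hcx hcy ?_ ?_ ?_ ?_ (hg' c) (hcj t₀)
      · rw [hc, commutatorElement_def]; group
      · rw [← hĉ]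
        exact hβP ĉ
      · rw [hS x, show (θ ^ (2 ^ (n - 1))) x = x⁻¹ from hx]
      · rw [hS y, show (θ ^ (2 ^ (n - 1))) y = y⁻¹ from hy]
      · rw [hS c, show (θ ^ (2 ^ (n - 1))) c = c from hc0]
  -- conclusion
  have h1 : βT ĉ = 1 := by
    rw [← hβ'mk, hĉ, hcone]
  have h2 : π (β ĉ t * t⁻¹) = 0 := by
    rw [hπ1, hπinv, ← hβT, h1]
    simp
  exact (hπ3 _).mp h2 u

/-- Elements inverted by the involution in the cyclic `2`-group act trivially. -/
theorem centralize_step {Y : Type w} [Group Y] [Finite Y] {r s n : ℕ}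
    (hr : r.Prime) (hr2 : r ≠ 2) (hs : s.Prime) (hs2 : s ≠ 2) (hsr : s ≠ r) (hn : 1 ≤ n)
    (hRr : IsPGroup r R) (hYs : IsPGroup s Y) (h2K : (2 : K) ≠ 0) (hRK : (Fintype.card R : K) ≠ 0)
    (ρ : R →* End K U) (hρ : Function.Injective ρ) (σ : MulAut R) (hσ : σ ^ (2 ^ n) = 1)
    (hfpf : ∀ s, σ s = s → s = 1)
    (τ : End K U) (hτρ : ∀ s, τ * ρ s = ρ (σ s) * τ) (hτ : τ ^ (2 ^ n) = 1)
    (hnorm : ∑ i ∈ Finset.range (2 ^ n), τ ^ i = 0)
    (β : Y →* MulAut R) (σY : MulAut Y) (hσY : σY ^ (2 ^ n) = 1)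
    (hcompat : ∀ y s, β (σY y) (σ s) = σ (β y s))
    (hgen : Subgroup.closure {y : Y | (σY ^ (2 ^ (n - 1))) y = y⁻¹} = ⊤)
    (hab : (∀ s t : R, s * t = t * s) → σ ^ (2 ^ (n - 1)) = 1)
    (hsub : ∀ S : Subgroup R, S ≠ ⊤ → (∀ s ∈ S, σ s ∈ S) → (∀ y s, s ∈ S → β y s ∈ S) →
      ∀ y, ∀ s ∈ S, β y s = s) (y : Y) (s₀ : R) : β y s₀ = s₀ := by
  classical
  haveI : Fact r.Prime := ⟨hr⟩
  haveI : Fact s.Prime := ⟨hs⟩
  letI : Fintype Y := Fintype.ofFinite Y
  have h2n : 0 < 2 ^ n := by positivity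
  have hcop : ∀ c : R, c ^ (Fintype.card Y) = 1 → c = 1 := by
    intro c hc
    obtain ⟨k, hk⟩ := hRr c
    have hk' : c ^ r ^ k = 1 := hk
    obtain ⟨l, hl⟩ := IsPGroup.iff_card.mp hYs
    rw [← Nat.card_eq_fintype_card, hl] at hc
    have h1 := orderOf_dvd_of_pow_eq_one hc
    have h2 := orderOf_dvd_of_pow_eq_one hk'
    have h3 : Nat.Coprime (s ^ l) (r ^ k) := Nat.Coprime.pow _ _ ((Nat.coprime_primes hs hr).mpr hsr)
    exact orderOf_eq_one_iff.mp (Nat.eq_one_of_dvd_coprimes h3 h1 h2)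
  have hβpow : ∀ y, (β y) ^ (Fintype.card Y) = 1 := by
    intro y
    rw [← map_pow, pow_card_eq_one, map_one]
  have hYodd : Odd (Nat.card Y) := by
    obtain ⟨l, hl⟩ := IsPGroup.iff_card.mp hYs
    rw [hl]
    exact (hs.odd_of_ne_two hs2).pow
  have hσj : ∀ (j : ℕ) (y : Y) (a : R), β ((σY ^ j) y) ((σ ^ j) a) = (σ ^ j) (β y a) := by
    intro j
    induction j with
    | zero => intro y a; rfl
    | succ j ih =>
      intro y a
      rw [pow_succ', pow_succ']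
      show β (σY ((σY ^ j) y)) (σ ((σ ^ j) a)) = σ ((σ ^ j) (β y a))
      rw [hcompat, ih]
  by_contra hne
  -- the twisted subgroup
  let C : Subgroup R := Subgroup.closure {c | ∃ (y : Y) (s : R), c = β y s * s⁻¹}
  have hCσ : ∀ c, c ∈ C → σ c ∈ C := by
    intro c hc
    induction hc using Subgroup.closure_induction with
    | mem c hc =>
      obtain ⟨y, s, rfl⟩ := hc
      apply Subgroup.subset_closure
      refine ⟨σY y, σ s, ?_⟩
      rw [map_mul, map_inv, hcompat]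
    | one => rw [map_one]; exact C.one_mem
    | mul a c _ _ ha hc => rw [map_mul]; exact C.mul_mem ha hc
    | inv a _ ha => rw [map_inv]; exact C.inv_mem ha
  have hCβ : ∀ y c, c ∈ C → β y c ∈ C := by
    intro y c hc
    induction hc using Subgroup.closure_induction with
    | mem c hc =>
      obtain ⟨y', s, rfl⟩ := hc
      have h1 : β y (β y' s * s⁻¹) = (β (y * y') s * s⁻¹) * (β y s * s⁻¹)⁻¹ := by
        rw [map_mul, map_inv, map_mul]
        simp [MulAut.mul_apply]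
      rw [h1]
      exact C.mul_mem (Subgroup.subset_closure ⟨_, _, rfl⟩) (C.inv_mem (Subgroup.subset_closure ⟨_, _, rfl⟩))
    | one => rw [map_one]; exact C.one_mem
    | mul a c _ _ ha hc => rw [map_mul]; exact C.mul_mem ha hc
    | inv a _ ha => rw [map_inv]; exact C.inv_mem ha
  have hCtop : C = ⊤ := by
    by_contra hC
    have h1 := hsub C hC hCσ hCβ
    apply hne
    exact HHMain.twist_trivial (β y) (hβpow y) hcop (h1 y _ (Subgroup.subset_closure ⟨y, s₀, rfl⟩))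
  -- the Frattini subgroup
  have hRnt : Nontrivial R := by
    by_contra hnt
    rw [not_nontrivial_iff_subsingleton] at hnt
    exact hne (Subsingleton.elim _ _)
  let Z : Subgroup R := frattini R
  have hZtop : Z ≠ ⊤ := by
    intro h
    have h1 := frattini_nilpotent (G := R)
    obtain ⟨M, hM⟩ : ∃ M : Subgroup R, IsCoatom M := by
      obtain h2 | h2 := eq_top_or_exists_le_coatom (⊥ : Subgroup R)
      · exact absurd h2 bot_ne_top
      · obtain ⟨M, hM, -⟩ := h2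
        exact ⟨M, hM⟩
    apply hM.1
    rw [eq_top_iff, ← h]
    exact frattini_le_coatom hM
  have hZchar : ∀ (f : MulAut R) z, z ∈ Z → f z ∈ Z := by
    intro f z hz
    exact (Subgroup.characteristic_iff_le_comap.mp (frattini_characteristic (G := R))) f hz
  have hZσ : ∀ z, z ∈ Z ↔ σ z ∈ Z := inv_iff_of_pow_eq_one σ Z (hZchar σ) h2n hσ
  have hβZ : ∀ y, ∀ z ∈ Z, β y z = z := hsub Z hZtop (hZchar σ) (fun y z hz => hZchar _ z hz)
  have hcommZ : ∀ s t : R, ⁅s, t⁆ ∈ Z := by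
    intro s t
    apply Cfsg.Agent.Lib.Frat.commutator_le_frattini hRr
    rw [commutator_def]
    exact Subgroup.commutator_mem_commutator (Subgroup.mem_top s) (Subgroup.mem_top t)
  have hpowZ : ∀ s : R, s ^ r ∈ Z := fun s => Cfsg.Agent.Lib.Frat.pow_mem_frattini hRr s
  haveI hZnorm : Z.Normal := by
    refine ⟨fun z hz g => ?_⟩
    have h1 : g * z * g⁻¹ = ⁅g, z⁆ * z := by simp [commutatorElement_def]
    rw [h1]
    exact Z.mul_mem (hcommZ g z) hz
  -- `Z` is central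
  have hZc : ∀ z ∈ Z, ∀ s, z * s = s * z := by
    intro z hz s
    have hK1 : C ≤ Subgroup.centralizer {z} := by
      refine (Subgroup.closure_le _).mpr ?_
      rintro _ ⟨y, t, rfl⟩
      rw [SetLike.mem_coe, Subgroup.mem_centralizer_singleton_iff]
      have hw : t⁻¹ * z * t ∈ Z := by
        have := hZnorm.conj_mem z hz t⁻¹
        simpa using this
      have h1 := hβZ y _ hw
      simp only [map_mul, map_inv, hβZ y z hz] at h1
      show β y t * t⁻¹ * z = z * (β y t * t⁻¹)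
      have h2 : z * β y t = β y t * (t⁻¹ * z * t) := by
        rw [← h1]; group
      calc β y t * t⁻¹ * z = β y t * (t⁻¹ * z * t) * t⁻¹ := by group
        _ = z * β y t * t⁻¹ := by rw [h2]
        _ = z * (β y t * t⁻¹) := by group
    have h2 : s ∈ Subgroup.centralizer {z} := hK1 (hCtop ▸ Subgroup.mem_top s)
    rw [Subgroup.mem_centralizer_singleton_iff] at h2
    exact h2.symm
  by_cases habR : ∀ s t : R, s * t = t * s
  · -- the abelian case
    have hσ₀ := hab habR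
    have hgens : ∀ y ∈ {y : Y | (σY ^ (2 ^ (n - 1))) y = y⁻¹}, y ∈ β.ker := by
      intro y hy
      have hy' : (σY ^ (2 ^ (n - 1))) y = y⁻¹ := hy
      have h3 : β (y * y) = 1 := by
        apply MulEquiv.ext
        intro a
        have h2 := hσj (2 ^ (n - 1)) y a
        rw [hy', hσ₀] at h2
        have h4 : β y⁻¹ a = β y a := h2
        show β (y * y) a = a
        rw [map_mul, MulAut.mul_apply, ← h4, ← MulAut.mul_apply, ← map_mul, mul_inv_cancel, map_one]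
        rfl
      obtain ⟨k, hk⟩ := exists_sq_pow hYodd (pow_card_eq_one' (x := y))
      rw [MonoidHom.mem_ker, ← hk, map_pow, h3, one_pow]
    have h1 : (⊤ : Subgroup Y) ≤ β.ker := by
      rw [← hgen]
      exact (Subgroup.closure_le _).mpr hgens
    apply hne
    have h2 : β y = 1 := h1 (Subgroup.mem_top y)
    rw [h2]
    rfl
  -- the centre
  let Cen : Subgroup R := Subgroup.center R
  have hCenne : Cen ≠ ⊤ := by
    intro h
    apply habR
    intro a b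
    have h1 : b ∈ Cen := h ▸ Subgroup.mem_top b
    exact (Subgroup.mem_center_iff.mp h1 a)
  have hCenchar : ∀ (f : MulAut R) z, z ∈ Cen → f z ∈ Cen := by
    intro f z hz
    rw [Subgroup.mem_center_iff] at hz ⊢
    intro g
    obtain ⟨g', rfl⟩ := f.surjective g
    rw [← map_mul, ← map_mul, hz]
  have hZCen : Z ≤ Cen := fun z hz => Subgroup.mem_center_iff.mpr fun g => (hZc z hz g).symm
  obtain ⟨T₁, _, _, _, π₁, hπ1, hπ2, hπ3, hπ4⟩ := exists_quot_module (r := r) Cen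
    (fun a b => hZCen (hcommZ a b)) (fun a => hZCen (hpowZ a))
  have hπone : π₁ 1 = 0 := (hπ2 1).mpr Cen.one_mem
  have hπinv : ∀ s, π₁ s⁻¹ = - π₁ s := by
    intro s
    have h2 := hπ1 s⁻¹ s
    rw [inv_mul_cancel, hπone] at h2
    exact eq_neg_of_add_eq_zero_left h2.symm
  obtain ⟨β₁, hβ₁⟩ := exists_op_hom (r := r) hπ1 hπ3 β (by
    intro y a ha
    rw [hπ2] at ha ⊢
    exact hCenchar _ a ha)
  obtain ⟨τ₁, hτ₁⟩ := exists_op (r := r) hπ1 hπ3 σ.toMonoidHom (by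
    intro a ha
    rw [hπ2] at ha ⊢
    exact hCenchar _ a ha)
  have hτ₁' : ∀ a, τ₁ (π₁ a) = π₁ (σ a) := hτ₁
  have hτ₁j : ∀ (j : ℕ) a, (τ₁ ^ j) (π₁ a) = π₁ ((σ ^ j) a) := by
    intro j a
    induction j with
    | zero => rfl
    | succ j ih =>
      rw [pow_succ', pow_succ', Module.End.mul_apply, ih, hτ₁']
      rfl
  have hτ₁N : τ₁ ^ (2 ^ n) = 1 := by
    ext v
    obtain ⟨a, rfl⟩ := hπ3 v
    rw [hτ₁j, hσ]
    rfl
  have hτ₁β : ∀ y, τ₁ * β₁ y = β₁ (σY y) * τ₁ := by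
    intro y
    ext v
    obtain ⟨a, rfl⟩ := hπ3 v
    rw [Module.End.mul_apply, Module.End.mul_apply, hβ₁, hτ₁', hτ₁', hβ₁, hcompat]
  have hτ₁fix : ∀ v, τ₁ v = v → v = 0 := by
    intro v hv
    obtain ⟨a, rfl⟩ := hπ3 v
    rw [hτ₁'] at hv
    rw [hπ2]
    apply fpf_quot_generic σ hfpf Cen (fun z hz => hCenchar σ z hz)
    rw [← hπ2, hπ1, hπinv, hv, add_neg_cancel]
  have hτ₁norm : ∀ v, ∑ i ∈ Finset.range (2 ^ n), (τ₁ ^ i) v = 0 := by
    intro v
    apply hτ₁fix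
    rw [map_sum]
    have h7 : ∀ i, τ₁ ((τ₁ ^ i) v) = (τ₁ ^ (i + 1)) v := by
      intro i
      rw [pow_succ']; rfl
    simp only [h7]
    have h8 := Finset.sum_range_succ (fun i => (τ₁ ^ i) v) (2 ^ n)
    have h9 := Finset.sum_range_succ' (fun i => (τ₁ ^ i) v) (2 ^ n)
    rw [h8] at h9
    simp only [hτ₁N, pow_zero, Module.End.one_apply] at h9
    exact (add_right_cancel h9).symm
  have hτ₁surj : ∀ w, ∃ v, τ₁ v = w := by
    intro w
    refine ⟨(τ₁ ^ (2 ^ n - 1)) w, ?_⟩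
    rw [← Module.End.mul_apply, ← pow_succ', Nat.sub_add_cancel h2n, hτ₁N]
    rfl
  -- the kernel
  let N₁ : Subgroup Y := β₁.ker
  have hN₁σ : ∀ y, y ∈ N₁ ↔ σY y ∈ N₁ := by
    refine inv_iff_of_pow_eq_one σY _ ?_ h2n hσY
    intro g hg
    have hg' : β₁ g = 1 := hg
    show β₁ (σY g) = 1
    ext w
    obtain ⟨v, rfl⟩ := hτ₁surj w
    have h7 := congrArg (fun y : End (ZMod r) T₁ => y v) (hτ₁β g)
    simp only [Module.End.mul_apply, hg', Module.End.one_apply] at h7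
    exact h7.symm
  let θ : MulAut (Y ⧸ N₁) := autQuot σY N₁ hN₁σ
  let op₁ : (Y ⧸ N₁) →* End (ZMod r) T₁ := QuotientGroup.lift N₁ β₁ le_rfl
  have hop₁mk : ∀ y : Y, op₁ (y : Y ⧸ N₁) = β₁ y := fun y => rfl
  have hop₁ : Function.Injective op₁ := by
    intro a b
    induction a using QuotientGroup.induction_on with
    | H a =>
      induction b using QuotientGroup.induction_on with
      | H b =>
        intro h
        rw [hop₁mk, hop₁mk] at h
        rw [QuotientGroup.eq]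
        show β₁ (a⁻¹ * b) = 1
        have h8 : β₁ a⁻¹ * β₁ a = 1 := by rw [← map_mul, inv_mul_cancel, map_one]
        rw [map_mul, ← h, h8]
  have hτ₁op : ∀ a, τ₁ * op₁ a = op₁ (θ a) * τ₁ := by
    intro a
    induction a using QuotientGroup.induction_on with
    | H y => exact hτ₁β y
  have hθ : θ ^ (2 ^ n) = 1 := by
    ext x
    induction x using QuotientGroup.induction_on with
    | H y =>
      rw [autQuot_pow_mk, hσY]
      rfl
  have hYN : IsPGroup s (Y ⧸ N₁) := hYs.to_quotient N₁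
  have hθ₀sq : θ ^ (2 ^ (n - 1)) * θ ^ (2 ^ (n - 1)) = 1 := by
    rw [← pow_add, ← hθ]
    congr 1
    obtain ⟨n', rfl⟩ : ∃ n', n = n' + 1 := ⟨n - 1, by omega⟩
    simp only [Nat.add_sub_cancel]
    rw [pow_succ]; ring
  have hNcen : ∀ y ∈ N₁, ∀ t u : R, ⁅β y t * t⁻¹, u⁆ = 1 := by
    intro y hy t u
    have h1 : β₁ y = 1 := hy
    have h2 : π₁ (β y t) = π₁ t := by
      rw [← hβ₁, h1]
      rfl
    have h3 : β y t * t⁻¹ ∈ Cen := by
      rw [← hπ2, hπ1, hπinv, h2, add_neg_cancel]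
    exact commutatorElement_eq_one_iff_mul_comm.mpr ((Subgroup.mem_center_iff.mp h3 u).symm)
  have hmain : θ ^ (2 ^ (n - 1)) = 1 := by
    refine sigma0_trivial_of_hyps hs2 hYN θ (θ ^ (2 ^ (n - 1))) rfl hθ₀sq ?_ ?_
    · intro x y c hx hy hc hcx hcy hc0 hcj
      by_contra hc1
      have h1 : op₁ c ≠ 1 := fun h => hc1 (hop₁ (by rw [h, map_one]))
      induction c using QuotientGroup.induction_on with
      | H ĉ =>
        obtain ⟨v, hv⟩ : ∃ v, op₁ (ĉ : Y ⧸ N₁) v ≠ v := by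
          by_contra hcon
          push Not at hcon
          exact h1 (LinearMap.ext hcon)
        obtain ⟨a, rfl⟩ := hπ3 v
        rw [hop₁mk, hβ₁] at hv
        have h2 : β ĉ a * a⁻¹ ∉ Cen := by
          rw [← hπ2, hπ1, hπinv]
          intro h
          exact hv (add_neg_eq_zero.mp h)
        rw [Subgroup.mem_center_iff] at h2
        push Not at h2
        obtain ⟨u, hu⟩ := h2
        have he1 : ⁅β ĉ a * a⁻¹, u⁆ ≠ 1 := by
          intro h
          exact hu (commutatorElement_eq_one_iff_mul_comm.mp h).symm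
        obtain ⟨μ, hμ, hμ1, hμe⟩ := exists_weight hRK ρ hρ Z hZc (hcommZ _ _) he1
        exact hμe (weight_lemma hr hr2 hs hs2 hsr hn hRr hYs h2K hRK ρ σ hσ hfpf τ hτρ hτ hnorm β σY hcompat
          Z hZc hZσ hcommZ hpowZ hβZ μ hμ hμ1 N₁ hN₁σ hNcen x y _ hx hy hc hcx hcy hc0 hcj ĉ rfl a u)
    · intro S hSθ hSab a ha
      letI instS : CommGroup S :=
        { (inferInstance : Group S) with mul_comm := fun a b => Subtype.ext (hSab a a.2 b b.2) }
      have hSinv : ∀ a, a ∈ S ↔ θ a ∈ S := inv_iff_of_pow_eq_one θ S hSθ h2n hθ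
      let σS : MulAut S := restrictAut θ S hSinv
      let toZ : End (ZMod r) T₁ →* End ℤ T₁ :=
        { toFun := fun f => f.toAddMonoidHom.toIntLinearMap
          map_one' := rfl
          map_mul' := fun _ _ => rfl }
      have htoZ : ∀ (f : End (ZMod r) T₁) (v : T₁), toZ f v = f v := fun _ _ => rfl
      let op : S →* End ℤ T₁ := toZ.comp (op₁.comp S.subtype)
      have hopinj : Function.Injective op := by
        intro a b h
        apply Subtype.ext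
        apply hop₁
        ext v
        exact congrArg (fun y : End ℤ T₁ => y v) h
      have hM : ∀ v : T₁, r • v = 0 := fun v => ZModModule.char_nsmul_eq_zero r v
      have hScard : Nat.Coprime (Nat.card S) r := by
        obtain ⟨l, hl⟩ := IsPGroup.iff_card.mp (hYN.to_subgroup S)
        rw [hl]
        exact Nat.Coprime.pow_left _ ((Nat.coprime_primes hs hr).mpr hsr)
      have h := Cfsg.Agent.Lib.DedekindOps.dedekind_core hM hScard op hopinj (toZ τ₁) σS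
        (by
          intro b
          ext v
          exact congrArg (fun y : End (ZMod r) T₁ => y v) (hτ₁op b))
        Nat.prime_two hn
        (by
          ext x
          rw [restrictAut_pow_coe, hθ]
          rfl)
        (by
          intro v
          have h8 : ∀ i, ((toZ τ₁) ^ i) v = (τ₁ ^ i) v := by
            intro i
            rw [← map_pow]
            rfl
          simp only [h8]
          exact hτ₁norm v)
      have h2 : (σS ^ (2 ^ (n - 1))) ⟨a, ha⟩ = ⟨a, ha⟩ := by rw [h]; rfl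
      have h3 := congrArg Subtype.val h2
      rw [restrictAut_pow_coe] at h3
      exact h3
  have hgens : ∀ y ∈ {y : Y | (σY ^ (2 ^ (n - 1))) y = y⁻¹}, y ∈ N₁ := by
    intro y hy
    have hy' : (σY ^ (2 ^ (n - 1))) y = y⁻¹ := hy
    have h2 : (θ ^ (2 ^ (n - 1))) (y : Y ⧸ N₁) = (y : Y ⧸ N₁) := by
      rw [hmain]
      rfl
    rw [show (θ ^ (2 ^ (n - 1))) (y : Y ⧸ N₁) = (((σY ^ (2 ^ (n - 1))) y : Y) : Y ⧸ N₁) from
      autQuot_pow_mk σY N₁ hN₁σ _ y, hy'] at h2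
    have h3 : ((y * y : Y) : Y ⧸ N₁) = 1 := by
      rw [QuotientGroup.mk_mul]
      nth_rewrite 1 [← h2]
      rw [← QuotientGroup.mk_mul, inv_mul_cancel]
      rfl
    have h4 : y * y ∈ N₁ := (QuotientGroup.eq_one_iff _).mp h3
    obtain ⟨k, hk⟩ := exists_sq_pow hYodd (pow_card_eq_one' (x := y))
    rw [← hk]
    exact N₁.pow_mem h4 k
  have hall : (⊤ : Subgroup Y) ≤ N₁ := by
    rw [← hgen]
    exact (Subgroup.closure_le _).mpr hgens
  apply hCenne
  rw [eq_top_iff, ← hCtop]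
  refine (Subgroup.closure_le _).mpr ?_
  rintro _ ⟨y, t, rfl⟩
  rw [SetLike.mem_coe, Subgroup.mem_center_iff]
  intro u
  exact (commutatorElement_eq_one_iff_mul_comm.mp (hNcen y (hall (Subgroup.mem_top y)) t u)).symm

/-- The case of a group of automorphisms of order four. -/
theorem sigma0_step {r : ℕ} (hr : r.Prime) (hr2 : r ≠ 2) (hRr : IsPGroup r R) (h2K : (2 : K) ≠ 0)
    (hRK : (Fintype.card R : K) ≠ 0)
    (ρ : R →* End K U) (hρ : Function.Injective ρ) (σ : MulAut R) (hσ : σ ^ (2 ^ 2) = 1)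
    (hfpf : ∀ s, σ s = s → s = 1)
    (τ : End K U) (hτρ : ∀ s, τ * ρ s = ρ (σ s) * τ) (hτ : τ ^ (2 ^ 2) = 1)
    (hnorm : ∑ i ∈ Finset.range (2 ^ 2), τ ^ i = 0)
    (hab : (∀ s t : R, s * t = t * s) → σ ^ 2 = 1)
    (hsub : ∀ S : Subgroup R, S ≠ ⊤ → (∀ s ∈ S, σ s ∈ S) → ∀ s ∈ S, (σ ^ 2) s = s) : σ ^ 2 = 1 := by
  classical
  haveI : Fact r.Prime := ⟨hr⟩
  by_contra hne
  have h2n : 0 < 2 ^ 2 := by positivity
  set σ₀ : MulAut R := σ ^ 2 with hσ₀
  have hσ₀sq : σ₀ ^ 2 = 1 := by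
    rw [hσ₀, ← pow_mul]
    exact hσ
  have hcommσ : ∀ s, σ (σ₀ s) = σ₀ (σ s) := by
    intro s
    show (σ * σ₀) s = (σ₀ * σ) s
    rw [hσ₀, ← pow_succ', pow_succ]
  have hcop : ∀ c : R, c ^ 2 = 1 → c = 1 := by
    intro c hc
    obtain ⟨m, hm⟩ := hRr c
    have hm' : c ^ r ^ m = 1 := hm
    refine eq_one_of_pow_of_pow (a := 2) (b := r ^ m) ?_ hc hm'
    exact Nat.Coprime.pow_right _ ((Nat.coprime_primes Nat.prime_two hr).mpr (Ne.symm hr2))
  let C : Subgroup R := Subgroup.closure (Set.range fun s => σ₀ s * s⁻¹)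
  have hCinv : ∀ x ∈ C, σ x ∈ C := by
    intro x hx
    induction hx using Subgroup.closure_induction with
    | mem x hx =>
      obtain ⟨s, rfl⟩ := hx
      apply Subgroup.subset_closure
      refine ⟨σ s, ?_⟩
      simp only [map_mul, map_inv, hcommσ]
    | one => rw [map_one]; exact C.one_mem
    | mul x y _ _ hx hy => rw [map_mul]; exact C.mul_mem hx hy
    | inv x _ hx => rw [map_inv]; exact C.inv_mem hx
  have hσ₀ne : ∃ s, σ₀ s ≠ s := by
    by_contra hcon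
    push Not at hcon
    exact hne (MulEquiv.ext hcon)
  have hCtop : C = ⊤ := by
    by_contra hC
    have h1 := hsub C hC hCinv
    obtain ⟨s, hs⟩ := hσ₀ne
    exact hs (twist_trivial σ₀ hσ₀sq hcop (h1 _ (Subgroup.subset_closure ⟨s, rfl⟩)))
  have hRnt : Nontrivial R := by
    obtain ⟨s, hs⟩ := hσ₀ne
    refine ⟨⟨s, 1, ?_⟩⟩
    rintro rfl
    rw [map_one] at hs
    exact hs rfl
  let Z : Subgroup R := frattini R
  have hZtop : Z ≠ ⊤ := by
    intro h
    obtain ⟨M, hM⟩ : ∃ M : Subgroup R, IsCoatom M := by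
      obtain h2 | h2 := eq_top_or_exists_le_coatom (⊥ : Subgroup R)
      · exact absurd h2 bot_ne_top
      · obtain ⟨M, hM, -⟩ := h2
        exact ⟨M, hM⟩
    apply hM.1
    rw [eq_top_iff, ← h]
    exact frattini_le_coatom hM
  have hZchar : ∀ (f : MulAut R) z, z ∈ Z → f z ∈ Z := by
    intro f z hz
    exact (Subgroup.characteristic_iff_le_comap.mp (frattini_characteristic (G := R))) f hz
  have hZσ : ∀ z, z ∈ Z ↔ σ z ∈ Z := inv_iff_of_pow_eq_one σ Z (hZchar σ) h2n hσ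
  have hσ₀Z : ∀ z ∈ Z, σ₀ z = z := hsub Z hZtop (hZchar σ)
  have hcommZ : ∀ s t : R, ⁅s, t⁆ ∈ Z := by
    intro s t
    apply Cfsg.Agent.Lib.Frat.commutator_le_frattini hRr
    rw [commutator_def]
    exact Subgroup.commutator_mem_commutator (Subgroup.mem_top s) (Subgroup.mem_top t)
  have hpowZ : ∀ s : R, s ^ r ∈ Z := fun s => Cfsg.Agent.Lib.Frat.pow_mem_frattini hRr s
  haveI hZnorm : Z.Normal := by
    refine ⟨fun z hz g => ?_⟩
    have h1 : g * z * g⁻¹ = ⁅g, z⁆ * z := by simp [commutatorElement_def]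
    rw [h1]
    exact Z.mul_mem (hcommZ g z) hz
  have hZc : ∀ z ∈ Z, ∀ s, z * s = s * z := by
    intro z hz s
    have hK1 : C ≤ Subgroup.centralizer {z} := by
      refine (Subgroup.closure_le _).mpr ?_
      rintro _ ⟨t, rfl⟩
      rw [SetLike.mem_coe, Subgroup.mem_centralizer_singleton_iff]
      have hw : t⁻¹ * z * t ∈ Z := by
        have := hZnorm.conj_mem z hz t⁻¹
        simpa using this
      have h1 := hσ₀Z _ hw
      simp only [map_mul, map_inv, hσ₀Z z hz] at h1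
      show σ₀ t * t⁻¹ * z = z * (σ₀ t * t⁻¹)
      have h2 : z * σ₀ t = σ₀ t * (t⁻¹ * z * t) := by
        rw [← h1]; group
      calc σ₀ t * t⁻¹ * z = σ₀ t * (t⁻¹ * z * t) * t⁻¹ := by group
        _ = z * σ₀ t * t⁻¹ := by rw [h2]
        _ = z * (σ₀ t * t⁻¹) := by group
    have h2 : s ∈ Subgroup.centralizer {z} := hK1 (hCtop ▸ Subgroup.mem_top s)
    rw [Subgroup.mem_centralizer_singleton_iff] at h2
    exact h2.symm
  have hwc : ∀ s t : R, ⁅σ₀ s * s⁻¹, t⁆ = 1 := by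
    intro s t
    by_contra he1
    obtain ⟨μ, hμ, hμ1, hμe⟩ := exists_weight hRK ρ hρ Z hZc (hcommZ _ _) he1
    obtain ⟨b, t₀, T, _, _, _, π, P, g, hπ1, hπ2, hπ3, hPπ, hnd, hanti, hb1, hbn, ht₀, hgπ, hgP, hgN, hcase⟩ :=
      exists_section hr hr2 hRr h2K hRK ρ σ hσ hfpf τ hτρ hτ hnorm Z hZc hZσ hcommZ hpowZ μ hμ hμ1
    have hb : b = 1 := by omega
    subst hb
    have ht : t₀ = 2 := by omega
    subst ht
    have hπone : π 1 = 0 := by
      have h2 := hπ1 1 1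
      rw [mul_one] at h2
      exact left_eq_add.mp h2
    have hπinv : ∀ s, π s⁻¹ = - π s := by
      intro s
      have h2 := hπ1 s⁻¹ s
      rw [inv_mul_cancel, hπone] at h2
      exact eq_neg_of_add_eq_zero_left h2.symm
    rcases hcase with hcase | ⟨hrb, -⟩
    · have h1 : g = 1 := by simpa using hcase
      apply hμe
      apply (hπ3 _).mp
      rw [hπ1, hπinv, ← hgπ, h1]
      simp
    · norm_num at hrb
      exact hr.one_lt.ne' hrb
  have hab' : ∀ s t : R, s * t = t * s := by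
    intro s t
    have h1 : C ≤ Subgroup.centralizer {t} := by
      refine (Subgroup.closure_le _).mpr ?_
      rintro _ ⟨s', rfl⟩
      rw [SetLike.mem_coe, Subgroup.mem_centralizer_singleton_iff]
      exact commutatorElement_eq_one_iff_mul_comm.mp (hwc s' t)
    have h2 : s ∈ Subgroup.centralizer {t} := h1 (hCtop ▸ Subgroup.mem_top s)
    rw [Subgroup.mem_centralizer_singleton_iff] at h2
    exact h2
  exact hne (hab hab')

end Rep

end Cfsg.Agent.Lib.GrossCore
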