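import Mathlib
import Cfsg.Agent.Lib.WardNonab
import Cfsg.Agent.Lib.Kegel
import Cfsg.Agent.Lib.CoprimeHyper

/-!
# The key lemma for Ward's theorem
-/

set_option autoImplicit false
set_option linter.unusedSectionVars false
set_option linter.unusedVariables false
set_option linter.style.haveILetI false

namespace Cfsg.Agent.Lib.WardKey

open Module Cfsg.Agent.Lib.HHCore Cfsg.Agent.Lib.HHChar Cfsg.Agent.Lib.HHFermat
  Cfsg.Agent.Lib.WardSym Cfsg.Agent.Lib.WardCore Cfsg.Agent.Lib.WardNonab Cfsg.Agent.Lib.HHMain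
  Cfsg.Agent.Lib.PCore
open scoped commutatorElement TensorProduct

universe u v w

/-- Elements of coprime prime-power order commute in a finite nilpotent group. -/
theorem commute_of_nilpotent {N : Type*} [Group N] [Finite N] (hN : Group.IsNilpotent N) {r s : ℕ}
    [Fact r.Prime] [Fact s.Prime] (hrs : r ≠ s) {a y : N} {k l : ℕ} (ha : a ^ r ^ k = 1) (hy : y ^ s ^ l = 1) :
    a * y = y * a := by
  have hnorm := (Group.isNilpotent_of_finite_tfae (G := N)).out 0 3
  have hS := hnorm.mp hN
  have hza : IsPGroup r (Subgroup.zpowers a) := by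
    rintro ⟨x, i, rfl⟩
    refine ⟨k, ?_⟩
    apply Subtype.ext
    show (a ^ i) ^ r ^ k = 1
    rw [← zpow_natCast, ← zpow_mul, mul_comm, zpow_mul, zpow_natCast, ha, one_zpow]
  have hzy : IsPGroup s (Subgroup.zpowers y) := by
    rintro ⟨x, i, rfl⟩
    refine ⟨l, ?_⟩
    apply Subtype.ext
    show (y ^ i) ^ s ^ l = 1
    rw [← zpow_natCast, ← zpow_mul, mul_comm, zpow_mul, zpow_natCast, hy, one_zpow]
  obtain ⟨P, hP⟩ := hza.exists_le_sylow
  obtain ⟨Q, hQ⟩ := hzy.exists_le_sylow
  have haP : a ∈ (P : Subgroup N) := hP (Subgroup.mem_zpowers a)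
  have hyQ : y ∈ (Q : Subgroup N) := hQ (Subgroup.mem_zpowers y)
  haveI hPn := hS r inferInstance P
  haveI hQn := hS s inferInstance Q
  have h1 : ⁅a, y⁆ ∈ (P : Subgroup N) := by
    have e : ⁅a, y⁆ = a * (y * a⁻¹ * y⁻¹) := by rw [commutatorElement_def]; group
    rw [e]
    exact (P : Subgroup N).mul_mem haP (hPn.conj_mem _ ((P : Subgroup N).inv_mem haP) y)
  have h2 : ⁅a, y⁆ ∈ (Q : Subgroup N) := by
    rw [commutatorElement_def]
    refine (Q : Subgroup N).mul_mem ?_ ((Q : Subgroup N).inv_mem hyQ)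
    exact hQn.conj_mem _ hyQ a
  have hd : Disjoint (P : Subgroup N) (Q : Subgroup N) := IsPGroup.disjoint_of_ne r s hrs _ _ P.isPGroup' Q.isPGroup'
  have h3 := Subgroup.disjoint_def.mp hd h1 h2
  exact commutatorElement_eq_one_iff_mul_comm.mp h3

section Act

variable {H : Type*} [Group H] [Finite H] {A : Type*} [CommGroup A] [Finite A]

/-- Centralizers of nontrivial elements of `A` are nilpotent. -/
theorem nilpotent_fixed {p : ℕ} (hp : p.Prime) (hA : ∀ x : A, x ^ p = 1) (hcard : Nat.card A = p ^ 2)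
    (φ : A →* MulAut H) (hfix : ∀ g, (∀ x, φ x g = g) → g = 1) {b : A} (hb : b ≠ 1)
    (C : Subgroup H) (hC : ∀ g, g ∈ C ↔ φ b g = g) : Group.IsNilpotent C := by
  have hcz := card_zpowers_of_ne hp hb (hA b)
  obtain ⟨c, hc⟩ : ∃ c, c ∉ Subgroup.zpowers b := by
    by_contra hcon
    push Not at hcon
    have h1 : Subgroup.zpowers b = ⊤ := eq_top_iff.mpr fun x _ => hcon x
    rw [h1, Subgroup.card_top, hcard] at hcz
    have h2 : p ^ 2 = p ^ 1 := by rw [hcz, pow_one]
    have h3 := Nat.pow_right_injective hp.two_le h2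
    omega
  have hgen := exists_gen hp hA hcard hb hc
  have hcomm : ∀ g, φ b (φ c g) = φ c (φ b g) := by
    intro g
    rw [← MulAut.mul_apply, ← map_mul, mul_comm, map_mul, MulAut.mul_apply]
  have hCc : ∀ g, g ∈ C ↔ φ c g ∈ C := by
    intro g
    rw [hC, hC, hcomm]
    exact (EmbeddingLike.apply_eq_iff_eq (φ c)).symm
  let σ : MulAut C := restrictAut (φ c) C hCc
  have hσp : σ ^ p = 1 := by
    ext x
    rw [restrictAut_pow_coe, ← map_pow, hA, map_one]
    rfl
  have hfpf : ∀ x : C, σ x = x → x = 1 := by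
    intro x hx
    apply Subtype.ext
    have h1 : φ c (x : H) = x := congrArg Subtype.val hx
    have h2 : φ b (x : H) = x := (hC _).mp x.2
    apply hfix
    intro y
    obtain ⟨i, j, rfl⟩ := hgen y
    have h3 : ∀ (e : A) (n : ℕ), φ e (x : H) = x → φ (e ^ n) (x : H) = x := by
      intro e n he
      induction n with
      | zero => simp
      | succ n ih =>
        rw [pow_succ, map_mul, MulAut.mul_apply, he, ih]
    rw [map_mul, MulAut.mul_apply, h3 c j h1, h3 b i h2]
  exact Cfsg.Agent.Lib.Kegel.nilpotent_of_fpf σ hfpf hp hσp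

/-- Commutation in centralizers. -/
theorem commute_of_fixed {p r s : ℕ} (hp : p.Prime) (hA : ∀ x : A, x ^ p = 1) (hcard : Nat.card A = p ^ 2)
    [Fact r.Prime] [Fact s.Prime] (hrs : r ≠ s)
    (φ : A →* MulAut H) (hfix : ∀ g, (∀ x, φ x g = g) → g = 1) {b : A} (hb : b ≠ 1) {a y : H}
    (ha : φ b a = a) (hy : φ b y = y) {k l : ℕ} (hak : a ^ r ^ k = 1) (hyl : y ^ s ^ l = 1) : a * y = y * a := by
  let C : Subgroup H :=
    { carrier := {g | φ b g = g}
      mul_mem' := by
        intro c d hc hd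
        show φ b (c * d) = c * d
        rw [map_mul, show φ b c = c from hc, show φ b d = d from hd]
      one_mem' := map_one (φ b)
      inv_mem' := by
        intro c hc
        show φ b c⁻¹ = c⁻¹
        rw [map_inv, show φ b c = c from hc] }
  have hC := nilpotent_fixed hp hA hcard φ hfix hb C (fun g => Iff.rfl)
  have h1 := commute_of_nilpotent hC hrs (a := ⟨a, ha⟩) (y := ⟨y, hy⟩) (k := k) (l := l)
    (Subtype.ext hak) (Subtype.ext hyl)
  exact congrArg Subtype.val h1

/-- Generation by centralizers. -/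
theorem closure_fixed {Y : Type*} [Group Y] [Finite Y] {p : ℕ} [Fact p.Prime] (hA : ∀ x : A, x ^ p = 1)
    (hcard : Nat.card A = p ^ 2) (hpY : ¬ p ∣ Nat.card Y) (φ : A →* MulAut Y) :
    Subgroup.closure {y : Y | ∃ b : A, b ≠ 1 ∧ φ b y = y} = ⊤ := by
  classical
  have hp : p.Prime := Fact.out
  let Γ := Y ⋊[φ] A
  haveI : Finite Γ := Finite.of_equiv (Y × A) SemidirectProduct.equivProd.symm
  let A₁ : Subgroup Γ := (SemidirectProduct.inr : A →* Γ).range
  let X : Subgroup Γ := (SemidirectProduct.inl : Y →* Γ).range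
  have hAc : IsMulCommutative ↥A₁ := by
    constructor
    constructor
    rintro ⟨_, a, rfl⟩ ⟨_, c, rfl⟩
    apply Subtype.ext
    show SemidirectProduct.inr a * SemidirectProduct.inr c = SemidirectProduct.inr c * SemidirectProduct.inr a
    rw [← map_mul, ← map_mul, mul_comm]
  have hAp : ∀ a ∈ A₁, a ^ p = 1 := by
    rintro _ ⟨a, rfl⟩
    rw [← map_pow, hA, map_one]
  have hcX : Nat.card X = Nat.card Y := by
    exact Nat.card_congr (MonoidHom.ofInjective SemidirectProduct.inl_injective).toEquiv.symm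
  have hX : ¬ p ∣ Nat.card X := by rwa [hcX]
  have hAX : A₁ ≤ Subgroup.normalizer (X : Set Γ) := by
    rintro _ ⟨a, rfl⟩
    rw [Subgroup.mem_normalizer_iff]
    intro n
    constructor
    · rintro ⟨y, rfl⟩
      exact ⟨φ a y, by rw [SemidirectProduct.inl_aut, map_inv]⟩
    · rintro ⟨y, hy⟩
      refine ⟨φ a⁻¹ y, ?_⟩
      have h1 : n = SemidirectProduct.inr a⁻¹ * SemidirectProduct.inl y * SemidirectProduct.inr a := by
        rw [hy, map_inv]; group
      rw [h1, map_inv, SemidirectProduct.inl_aut_inv]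
  have hmain := Cfsg.Agent.Lib.CoprimeHyper.eq_iSup_inf_centralizer A₁ X hAc hAp hX hAX
  -- Generators
  let W : Subgroup Y := Subgroup.closure {y : Y | ∃ b : A, b ≠ 1 ∧ φ b y = y}
  have hcardA₁ : Nat.card A₁ = p ^ 2 := by
    rw [← hcard]
    exact Nat.card_congr (MonoidHom.ofInjective SemidirectProduct.inr_injective).toEquiv.symm
  have hle : X ≤ W.map SemidirectProduct.inl := by
    rw [hmain]
    refine iSup_le ?_
    rintro ⟨B, hB, hBi⟩ x ⟨⟨y, rfl⟩, hx⟩
    have hBne : ∃ b ∈ B, b ≠ 1 := by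
      by_contra hcon
      push Not at hcon
      have hB0 : B = ⊥ := eq_bot_iff.mpr fun b hb => Subgroup.mem_bot.mpr (hcon b hb)
      rw [hB0, Subgroup.relIndex_bot_left, hcardA₁] at hBi
      have h1 : p ^ 1 < p ^ 2 := Nat.pow_lt_pow_right hp.one_lt (by norm_num)
      rw [pow_one] at h1
      omega
    obtain ⟨b', hb', hb'1⟩ := hBne
    obtain ⟨b, rfl⟩ := hB hb'
    have hb1 : b ≠ 1 := by
      rintro rfl
      exact hb'1 (map_one _)
    refine ⟨y, Subgroup.subset_closure ⟨b, hb1, ?_⟩, rfl⟩
    have h1 := Subgroup.mem_centralizer_iff.mp hx _ hb'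
    have h2 : (SemidirectProduct.inl (φ b y) : Y ⋊[φ] A) = SemidirectProduct.inl y := by
      rw [SemidirectProduct.inl_aut]
      have h3 : (SemidirectProduct.inr b : Y ⋊[φ] A) * SemidirectProduct.inl y = SemidirectProduct.inl y * SemidirectProduct.inr b := h1
      rw [h3, mul_assoc, ← map_mul, mul_inv_cancel, map_one, mul_one]
    exact SemidirectProduct.inl_injective h2
  rw [eq_top_iff]
  intro y _
  obtain ⟨y', hy', h⟩ := hle ⟨y, rfl⟩
  have := SemidirectProduct.inl_injective h
  rwa [← this]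

/-- Invariant Sylow subgroups. -/
theorem exists_invariant_sylow' {p s : ℕ} [Fact p.Prime] [Fact s.Prime] (hAp : IsPGroup p A)
    (hH : ¬ p ∣ Nat.card H) (φ : A →* MulAut H) :
    ∃ Y : Sylow s H, ∀ x, ∀ y ∈ (Y : Subgroup H), φ x y ∈ (Y : Subgroup H) := by
  letI : MulDistribMulAction A H := MulDistribMulAction.compHom H φ
  have hsm : ∀ (x : A) (y : H), x • y = φ x y := fun x y => rfl
  have hc : ¬ p ∣ Nat.card (Sylow s H) := by
    intro h
    apply hH
    have h1 := (Sylow.card_dvd_index (default : Sylow s H))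
    exact h.trans (h1.trans (Subgroup.index_dvd_card _))
  obtain ⟨Y, hY⟩ := hAp.nonempty_fixed_point_of_prime_not_dvd_card (Sylow s H) hc
  refine ⟨Y, fun x y hy => ?_⟩
  have h1 : x • Y = Y := (MulAction.mem_fixedPoints.1 hY) x
  have h2 : x • y ∈ ((x • Y : Sylow s H) : Subgroup H) := by
    exact Subgroup.smul_mem_pointwise_smul y x (Y : Subgroup H) hy
  rw [h1] at h2
  exact h2

end Act

section Rep

variable {H : Type*} [Group H] [Finite H] {A : Type*} [CommGroup A] [Fintype A]
  {M : Type*} [AddCommGroup M] [Finite M]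

/-- Induction over invariant `r`-subgroups. -/
theorem centralize_aux {p q r s : ℕ} [Fact q.Prime] [Module (ZMod q) M] (hp : p.Prime) (hq : q.Prime)
    (hr : r.Prime) (hs : s.Prime) (hpq : p ≠ q) (hrq : r ≠ q) (hpr : p ≠ r) (hrs : r ≠ s)
    (hpH : ¬ p ∣ Nat.card H)
    (hA : ∀ x : A, x ^ p = 1) (hcard : Nat.card A = p ^ 2)
    (φ : A →* MulAut H) (hfix : ∀ g, (∀ x, φ x g = g) → g = 1)
    (ρ₀ : H →* End ℤ M) (hρ₀ : Function.Injective ρ₀) (τ₀ : A →* End ℤ M)
    (hτρ₀ : ∀ x g, τ₀ x * ρ₀ g = ρ₀ (φ x g) * τ₀ x) (hsum₀ : ∀ v, ∑ x, τ₀ x v = 0)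
    (Y : Subgroup H) (hYs : IsPGroup s Y) (hYφ : ∀ x y, y ∈ Y → φ x y ∈ Y) :
    ∀ (n : ℕ) (S : Subgroup H), Nat.card S = n → IsPGroup r S → (∀ x t, t ∈ S → φ x t ∈ S) →
      (∀ y ∈ Y, ∀ t ∈ S, y * t * y⁻¹ ∈ S) → ∀ y ∈ Y, ∀ t ∈ S, y * t * y⁻¹ = t := by
  intro n
  induction n using Nat.strong_induction_on with
  | _ n IH =>
    intro S hcardS hSr hSφ hSY y₀ hy₀ t₀ ht₀
    classical
    letI := Fintype.ofFinite S
    letI := Fintype.ofFinite Y
    haveI : Fact p.Prime := ⟨hp⟩
    haveI : Fact r.Prime := ⟨hr⟩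
    haveI : Fact s.Prime := ⟨hs⟩
    haveI : Module.Finite (ZMod q) M := Module.Finite.of_finite
    let toK : End ℤ M →* End (ZMod q) M := toKHom q M
    have htoK : ∀ (f : End ℤ M) (v : M), toK f v = f v := fun f v => rfl
    have htoKinj : Function.Injective toK := by
      intro f g h
      ext v
      have := congrArg (fun y : End (ZMod q) M => y v) h
      exact this
    let bc : End (ZMod q) M →ₐ[ZMod q] End (FF q) (FF q ⊗[ZMod q] M) :=
      Module.End.baseChangeHom (ZMod q) (FF q) M
    have hbcinj : Function.Injective bc := LinearMap.baseChangeHom_injective (ZMod q) M (FF q)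
    let bc' : End ℤ M →* End (FF q) (FF q ⊗[ZMod q] M) :=
      (bc : End (ZMod q) M →* End (FF q) (FF q ⊗[ZMod q] M)).comp toK
    have hbc'inj : Function.Injective bc' := fun a c h => htoKinj (hbcinj h)
    have hchar : ∀ m : ℕ, ((m : ℕ) : FF q) = 0 ↔ q ∣ m := by
      intro m
      haveI : CharP (FF q) q := charP_of_injective_algebraMap (algebraMap (ZMod q) (FF q)).injective q
      exact CharP.cast_eq_zero_iff (FF q) q m
    have hpK : (p : FF q) ≠ 0 := by
      rw [Ne, hchar]
      intro h
      exact hpq ((Nat.prime_dvd_prime_iff_eq hq hp).mp h).symm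
    have hRK : (Fintype.card S : FF q) ≠ 0 := by
      rw [Ne, hchar]
      intro h
      obtain ⟨k, hk⟩ := (IsPGroup.iff_card (p := r) (G := S)).mp hSr
      rw [← Nat.card_eq_fintype_card, hk] at h
      exact hrq ((Nat.prime_dvd_prime_iff_eq hq hr).mp (hq.dvd_of_dvd_pow h)).symm
    let ρ : S →* End (FF q) (FF q ⊗[ZMod q] M) := bc'.comp (ρ₀.comp S.subtype)
    have hρ : Function.Injective ρ := hbc'inj.comp (hρ₀.comp S.subtype_injective)
    let τ : A →* End (FF q) (FF q ⊗[ZMod q] M) := bc'.comp τ₀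
    let θ : Y →* End (FF q) (FF q ⊗[ZMod q] M) := bc'.comp (ρ₀.comp Y.subtype)
    let α : A →* MulAut S := restrictHom φ S hSφ
    let α' : A →* MulAut Y := restrictHom φ Y hYφ
    have hconjS : ∀ (x : Y) (t : H), t ∈ S → ((MulAut.conj : H →* MulAut H).comp Y.subtype) x t ∈ S := by
      intro x t ht
      exact hSY x x.2 t ht
    let β : Y →* MulAut S := restrictHom ((MulAut.conj : H →* MulAut H).comp Y.subtype) S hconjS
    have hβco : ∀ (y : Y) (t : S), ((β y t : S) : H) = (y : H) * t * (y : H)⁻¹ := fun y t => rfl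
    have hτρ : ∀ x t, τ x * ρ t = ρ (α x t) * τ x := by
      intro x t
      show bc' (τ₀ x) * bc' (ρ₀ t) = bc' (ρ₀ (φ x t)) * bc' (τ₀ x)
      rw [← map_mul, ← map_mul, hτρ₀]
    have hsum : ∑ x, τ x = 0 := by
      have h1 : ∑ x, τ x = bc (∑ x, toK (τ₀ x)) := by
        rw [map_sum]
        rfl
      rw [h1]
      have h2 : ∑ x, toK (τ₀ x) = 0 := by
        ext v
        rw [LinearMap.sum_apply]
        simp only [htoK]
        exact hsum₀ v
      rw [h2, map_zero]
    have hfixR : ∀ t : S, (∀ x, α x t = t) → t = 1 := by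
      intro t ht
      apply Subtype.ext
      exact hfix _ fun x => congrArg Subtype.val (ht x)
    have hfixY : ∀ y : Y, (∀ x, α' x y = y) → y = 1 := by
      intro t ht
      apply Subtype.ext
      exact hfix _ fun x => congrArg Subtype.val (ht x)
    have hθρ : ∀ y t, θ y * ρ t = ρ (β y t) * θ y := by
      intro y t
      show bc' (ρ₀ y) * bc' (ρ₀ t) = bc' (ρ₀ ((y : H) * t * (y : H)⁻¹)) * bc' (ρ₀ y)
      have e : (y : H) * t = ((y : H) * t * (y : H)⁻¹) * y := by group
      rw [← map_mul bc', ← map_mul bc', ← map_mul ρ₀, ← map_mul ρ₀, ← e]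
    have hcompat : ∀ x y t, β (α' x y) (α x t) = α x (β y t) := by
      intro x y t
      apply Subtype.ext
      show φ x y * φ x t * (φ x y)⁻¹ = φ x ((y : H) * t * (y : H)⁻¹)
      rw [map_mul, map_mul, map_inv]
    have hcomm : ∀ b : A, b ≠ 1 → ∀ t, α b t = t → ∀ y, α' b y = y → β y t = t := by
      intro b hb t ht y hy
      apply Subtype.ext
      rw [hβco]
      obtain ⟨k, hk⟩ := hSr t
      obtain ⟨l, hl⟩ := hYs y
      have h1 := commute_of_fixed hp hA hcard hrs φ hfix hb (a := (t : H)) (y := (y : H))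
        (congrArg Subtype.val ht) (congrArg Subtype.val hy) (k := k) (l := l)
        (congrArg Subtype.val hk) (congrArg Subtype.val hl)
      rw [← h1]
      group
    have hpY : ¬ p ∣ Nat.card Y := fun h => hpH (h.trans (Subgroup.card_subgroup_dvd_card _))
    have hpS : ¬ p ∣ Nat.card S := fun h => hpH (h.trans (Subgroup.card_subgroup_dvd_card _))
    have hgen := closure_fixed hA hcard hpY α'
    have hsub : ∀ S' : Subgroup S, S' ≠ ⊤ → (∀ x t, t ∈ S' → α x t ∈ S') → (∀ y t, t ∈ S' → β y t ∈ S') →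
        ∀ y, ∀ t ∈ S', β y t = t := by
      intro S' hS' h1 h2 y t ht
      apply Subtype.ext
      rw [hβco]
      let S'' : Subgroup H := S'.map S.subtype
      have hc : Nat.card S'' = Nat.card S' :=
        Nat.card_congr (Subgroup.equivMapOfInjective S' S.subtype S.subtype_injective).toEquiv.symm
      have hlt : Nat.card S'' < n := by
        rw [hc, ← hcardS]
        have h3 := S'.card_mul_index
        have h4 : 2 ≤ S'.index := by
          have h5 : S'.index ≠ 0 := Subgroup.index_ne_zero_of_finite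
          have h6 : S'.index ≠ 1 := fun h => hS' (Subgroup.index_eq_one.mp h)
          omega
        have h5 : 0 < Nat.card S' := Nat.card_pos
        nlinarith
      refine IH _ hlt S'' rfl ?_ ?_ ?_ y y.2 t ⟨t, ht, rfl⟩
      · rintro ⟨_, c, hc, rfl⟩
        obtain ⟨k, hk⟩ := hSr c
        refine ⟨k, ?_⟩
        apply Subtype.ext
        show ((c : S) : H) ^ r ^ k = 1
        exact congrArg Subtype.val hk
      · rintro x _ ⟨c, hc, rfl⟩
        exact ⟨α x c, h1 x c hc, rfl⟩
      · rintro z hz _ ⟨c, hc, rfl⟩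
        exact ⟨β ⟨z, hz⟩ c, h2 ⟨z, hz⟩ c hc, rfl⟩
    have hfinal := core_step (K := FF q) (U := FF q ⊗[ZMod q] M) (R := S) (A := A) (Y := Y) hp hr hs hpr hrs.symm hA hcard hSr hYs hpY hpS hpK hRK
      ρ hρ α τ hτρ hsum hfixR β θ hθρ α' hcompat hfixY hcomm hgen hsub ⟨y₀, hy₀⟩ ⟨t₀, ht₀⟩
    exact congrArg Subtype.val hfinal

/-- **The Key Lemma.** -/
theorem key_nilpotent {p q : ℕ} [Fact q.Prime] [Module (ZMod q) M] (hsolv : Group.IsSolvable H)
    (hp : p.Prime) (hq : q.Prime) (hpq : p ≠ q) (hpH : ¬ p ∣ Nat.card H)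
    (hA : ∀ x : A, x ^ p = 1) (hcard : Nat.card A = p ^ 2)
    (φ : A →* MulAut H) (hfix : ∀ g, (∀ x, φ x g = g) → g = 1)
    (ρ₀ : H →* End ℤ M) (hρ₀ : Function.Injective ρ₀) (τ₀ : A →* End ℤ M)
    (hτρ₀ : ∀ x g, τ₀ x * ρ₀ g = ρ₀ (φ x g) * τ₀ x) (hsum₀ : ∀ v, ∑ x, τ₀ x v = 0)
    (hOq : pCore q H = ⊥) : Group.IsNilpotent H := by
  classical
  haveI := hsolv
  haveI : Fact p.Prime := ⟨hp⟩
  have hAp : IsPGroup p A := fun x => ⟨1, by rw [pow_one]; exact hA x⟩
  -- Step 1
  have hstep1 : ∀ (s r : ℕ) [Fact s.Prime] [Fact r.Prime], r ≠ s → ∀ z : H, (∃ k, z ^ s ^ k = 1) →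
      ∀ t ∈ pCore r H, z * t = t * z := by
    intro s r _ _ hrs z hz t ht
    have hr : r.Prime := Fact.out
    have hs : s.Prime := Fact.out
    by_cases hrq : r = q
    · subst hrq
      rw [hOq, Subgroup.mem_bot] at ht
      rw [ht, mul_one, one_mul]
    by_cases hpr : p = r
    · subst hpr
      have h1 : Nat.card (pCore p H) = 1 := by
        obtain ⟨k, hk⟩ := IsPGroup.iff_card.mp (isPGroup_pCore (G := H) p)
        rcases k with _ | k
        · rw [hk, pow_zero]
        · exfalso
          apply hpH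
          refine Dvd.dvd.trans ?_ (Subgroup.card_subgroup_dvd_card (pCore p H))
          rw [hk, pow_succ]
          exact dvd_mul_left _ _
      have h2 : (⟨t, ht⟩ : pCore p H) = 1 := by
        haveI : Subsingleton (pCore p H) := (Nat.card_eq_one_iff_unique.mp h1).1
        exact Subsingleton.elim _ _
      have h3 : t = 1 := congrArg Subtype.val h2
      rw [h3, mul_one, one_mul]
    obtain ⟨Y, hY⟩ := exists_invariant_sylow' (s := s) hAp hpH φ
    have hchar : ∀ (f : MulAut H) c, c ∈ pCore r H → f c ∈ pCore r H := fun f c hc =>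
      (Subgroup.characteristic_iff_le_comap.mp (instPCoreCharacteristic r)) f hc
    have hcent := centralize_aux hp hq hr hs hpq hrq hpr hrs hpH hA hcard φ hfix ρ₀ hρ₀ τ₀ hτρ₀ hsum₀
      (Y : Subgroup H) Y.isPGroup' hY _ (pCore r H) rfl (isPGroup_pCore r)
      (fun x c hc => hchar _ c hc) (fun y _ c hc => (pCore_normal (G := H) r).conj_mem c hc y)
    obtain ⟨k, hk⟩ := hz
    have hzP : IsPGroup s (Subgroup.zpowers z) := by
      rintro ⟨x, i, rfl⟩
      refine ⟨k, ?_⟩
      apply Subtype.ext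
      show (z ^ i) ^ s ^ k = 1
      rw [← zpow_natCast, ← zpow_mul, mul_comm, zpow_mul, zpow_natCast, hk, one_zpow]
    obtain ⟨P, hP⟩ := hzP.exists_le_sylow
    have hzmem : z ∈ (P : Subgroup H) := hP (Subgroup.mem_zpowers z)
    obtain ⟨g, hg⟩ := MulAction.exists_smul_eq H Y P
    rw [← hg, Sylow.coe_subgroup_smul, mem_conj_smul_iff] at hzmem
    have ht' : g⁻¹ * t * g ∈ pCore r H := by
      have := (pCore_normal (G := H) r).conj_mem t ht g⁻¹
      simpa using this
    have h1 := hcent _ hzmem _ ht'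
    have h2 : z * t * z⁻¹ = t := by
      have h3 : g * ((g⁻¹ * z * g) * (g⁻¹ * t * g) * (g⁻¹ * z * g)⁻¹) * g⁻¹ = z * t * z⁻¹ := by group
      rw [← h3, h1]
      group
    calc z * t = z * t * z⁻¹ * z := by group
      _ = t * z := by rw [h2]
  -- Step 2
  have hFtop : fittingSubgroup H = ⊤ := by
    by_contra hne
    let F := fittingSubgroup H
    haveI hFn : F.Normal := fittingSubgroup_normal
    let Hb := H ⧸ F
    have hbnt : Nontrivial Hb := by
      obtain ⟨x, hx⟩ : ∃ x, x ∉ F := by
        by_contra hcon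
        push Not at hcon
        exact hne (eq_top_iff.mpr fun x _ => hcon x)
      refine ⟨⟨(x : Hb), 1, ?_⟩⟩
      intro h
      exact hx ((QuotientGroup.eq_one_iff x).mp h)
    obtain ⟨s, hs, hcore⟩ := exists_pCore_ne_bot (G := Hb)
    haveI : Fact s.Prime := ⟨hs⟩
    let π : H →* Hb := QuotientGroup.mk' F
    let N : Subgroup H := (pCore s Hb).comap π
    haveI hNn : N.Normal := (pCore_normal (G := Hb) s).comap π
    have hFN : F ≤ N := by
      intro x hx
      show π x ∈ pCore s Hb
      have h1 : π x = 1 := (QuotientGroup.eq_one_iff x).mpr hx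
      rw [h1]
      exact Subgroup.one_mem _
    let J : Subgroup H := ⨆ r : {r : Nat.Primes // (r : ℕ) ≠ s}, pCore ((r : Nat.Primes) : ℕ) H
    have hJF : J ≤ F := by
      refine iSup_le fun r => ?_
      haveI : Fact ((r : Nat.Primes) : ℕ).Prime := ⟨r.1.2⟩
      exact pCore_le_fittingSubgroup _
    obtain ⟨Q⟩ : Nonempty (Sylow s N) := inferInstance
    let Ps : Subgroup H := (Q : Subgroup N).map N.subtype
    have hPsp : IsPGroup s Ps := Q.isPGroup'.map N.subtype
    have hcomm : ∀ a ∈ Ps, ∀ t ∈ J, a * t = t * a := by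
      intro a ha t ht
      have h1 : J ≤ Subgroup.centralizer {a} := by
        refine iSup_le fun r => ?_
        haveI : Fact ((r : Nat.Primes) : ℕ).Prime := ⟨r.1.2⟩
        intro c hc
        rw [Subgroup.mem_centralizer_singleton_iff]
        obtain ⟨k, hk⟩ := hPsp ⟨a, ha⟩
        exact (hstep1 s _ r.2 a ⟨k, congrArg Subtype.val hk⟩ c hc).symm
      have h2 := h1 ht
      rw [Subgroup.mem_centralizer_singleton_iff] at h2
      exact h2.symm
    let W : Subgroup H := J ⊔ Ps
    have hPsN : Ps ≤ N := by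
      rintro _ ⟨c, -, rfl⟩
      exact c.2
    have hFW : F ≤ W := by
      show fittingSubgroup H ≤ W
      rw [fittingSubgroup_eq_iSup_pCore]
      refine iSup_le fun r => ?_
      haveI : Fact (r : ℕ).Prime := ⟨r.2⟩
      by_cases hrs : (r : ℕ) = s
      · have h1 : pCore (r : ℕ) H ≤ Ps := by
          intro t ht
          have htF : t ∈ N := hFN (pCore_le_fittingSubgroup _ ht)
          let O : Subgroup N := (pCore (r : ℕ) H).subgroupOf N
          have hOn : O.Normal := (pCore_normal (G := H) _).subgroupOf N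
          have hOs : IsPGroup s O := by
            rintro ⟨c, hc⟩
            obtain ⟨k, hk⟩ := isPGroup_pCore (G := H) (r : ℕ) ⟨c, hc⟩
            refine ⟨k, ?_⟩
            rw [← hrs]
            apply Subtype.ext
            apply Subtype.ext
            show (c : H) ^ _ = 1
            exact congrArg Subtype.val hk
          have h2 : O ≤ (Q : Subgroup N) := hOs.le_sylow_of_normal Q
          exact ⟨⟨t, htF⟩, h2 ht, rfl⟩
        exact h1.trans le_sup_right
      · exact (le_iSup (fun r : {r : Nat.Primes // (r : ℕ) ≠ s} => pCore ((r : Nat.Primes) : ℕ) H)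
          ⟨r, hrs⟩).trans le_sup_left
    have hidx : W.relIndex N = 1 := by
      have h1 : W.relIndex N ∣ F.relIndex N := Subgroup.relIndex_dvd_of_le_left N hFW
      have h2 : W.relIndex N ∣ Ps.relIndex N := Subgroup.relIndex_dvd_of_le_left N le_sup_right
      have h3 : F.relIndex N = Nat.card (pCore s Hb) := by
        have h4 : π.ker.relIndex N = Nat.card (N.map π) := Subgroup.relIndex_ker _ π
        have h5 : π.ker = F := QuotientGroup.ker_mk' F
        rw [h5] at h4
        have h6 : N.map π = pCore s Hb :=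
          Subgroup.map_comap_eq_self_of_surjective (QuotientGroup.mk'_surjective F) _
        rw [h4, h6]
      obtain ⟨k, hk⟩ := IsPGroup.iff_card.mp (isPGroup_pCore (G := Hb) s)
      rw [h3, hk] at h1
      have h5 : ¬ s ∣ Ps.relIndex N := by
        have h6 : Ps.relIndex N = (Q : Subgroup N).index := by
          rw [Subgroup.relIndex]
          congr 1
          exact Subgroup.comap_map_eq_self_of_injective N.subtype_injective _
        rw [h6]
        exact Q.not_dvd_index
      obtain ⟨m, -, hm⟩ := (Nat.dvd_prime_pow hs).mp h1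
      rcases m with _ | m
      · rw [hm, pow_zero]
      · exfalso
        apply h5
        refine Dvd.dvd.trans ?_ h2
        rw [hm, pow_succ]
        exact dvd_mul_left _ _
    have hNW : N ≤ W := Subgroup.relIndex_eq_one.mp hidx
    have hWN : W = N := le_antisymm (sup_le (hJF.trans hFN) hPsN) hNW
    -- nilpotent
    have hJnil : Group.IsNilpotent J := by
      haveI : Group.IsNilpotent F := isNilpotent_fittingSubgroup
      have h1 : Group.IsNilpotent (J.subgroupOf F) := inferInstance
      exact Group.nilpotent_of_surjective (Subgroup.subgroupOfEquivOfLe hJF).toMonoidHom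
        (Subgroup.subgroupOfEquivOfLe hJF).surjective
    have hPsnil : Group.IsNilpotent Ps := hPsp.isNilpotent
    have hcm : ∀ (a : J) (c : Ps), Commute (J.subtype a) (Ps.subtype c) :=
      fun a c => (hcomm c c.2 a a.2).symm
    let f : J × Ps →* H := MonoidHom.noncommCoprod J.subtype Ps.subtype hcm
    have hfr : f.range = N := by
      rw [← hWN]
      show (MonoidHom.noncommCoprod J.subtype Ps.subtype hcm).range = _
      rw [MonoidHom.noncommCoprod_range, Subgroup.range_subtype, Subgroup.range_subtype]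
    have hfnil : Group.IsNilpotent f.range :=
      Group.nilpotent_of_surjective f.rangeRestrict f.rangeRestrict_surjective
    have hNnil : Group.IsNilpotent N := hfr ▸ hfnil
    have hNF : N ≤ F := le_fittingSubgroup hNn hNnil
    apply hcore
    rw [eq_bot_iff]
    intro x hx
    induction x using QuotientGroup.induction_on with
    | H y =>
      have h1 : y ∈ N := hx
      exact (QuotientGroup.eq_one_iff y).mpr (hNF h1)
  haveI : Group.IsNilpotent (fittingSubgroup H) := isNilpotent_fittingSubgroup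
  rw [hFtop] at this
  exact Group.isNilpotent_top.mp this

end Rep

section Top

/-- The action on a quotient by an invariant normal subgroup. -/
def quotHom {A G : Type*} [Group A] [Group G] (φ : A →* MulAut G) (N : Subgroup G) [N.Normal]
    (hN : ∀ x s, s ∈ N → φ x s ∈ N) : A →* MulAut (G ⧸ N) where
  toFun x := autQuot (φ x) N (fun s => ⟨hN x s, fun h => by
    have h1 := hN x⁻¹ _ h
    rwa [← MulAut.mul_apply, ← map_mul, inv_mul_cancel, map_one, MulAut.one_apply] at h1⟩)
  map_one' := by
    apply MulEquiv.ext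
    intro q
    induction q using QuotientGroup.induction_on with
    | H y =>
      show ((φ 1 y : G) : G ⧸ N) = y
      rw [map_one]; rfl
  map_mul' := by
    intro a c
    apply MulEquiv.ext
    intro q
    induction q using QuotientGroup.induction_on with
    | H y =>
      show ((φ (a * c) y : G) : G ⧸ N) = ((φ a (φ c y) : G) : G ⧸ N)
      rw [map_mul]; rfl

theorem quotHom_mk {A G : Type*} [Group A] [Group G] (φ : A →* MulAut G) (N : Subgroup G) [N.Normal]
    (hN : ∀ x s, s ∈ N → φ x s ∈ N) (x : A) (s : G) :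
    quotHom φ N hN x (s : G ⧸ N) = ((φ x s : G) : G ⧸ N) := rfl

/-- Fixed points on a quotient lift. -/
theorem fix_quot {A G : Type*} [Group A] [Finite A] [Group G] [Finite G] {p : ℕ} [Fact p.Prime]
    (hAp : IsPGroup p A) (φ : A →* MulAut G) (hfix : ∀ g, (∀ x, φ x g = g) → g = 1) (N : Subgroup G) [N.Normal]
    (hN : ∀ x s, s ∈ N → φ x s ∈ N) (hpN : ¬ p ∣ Nat.card N) (q : G ⧸ N)
    (hq : ∀ x, quotHom φ N hN x q = q) : q = 1 := by
  induction q using QuotientGroup.induction_on with
  | H y =>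
    obtain ⟨n, hn, hfx⟩ := exists_fixed_mul hAp φ N hpN (fun x n hn => hN x n hn) y (by
      intro x
      have h1 : ((φ x y : G) : G ⧸ N) = (y : G ⧸ N) := hq x
      have h2 := (QuotientGroup.eq.mp h1.symm)
      exact h2)
    have h1 := hfix _ hfx
    have h2 : y = n⁻¹ := eq_inv_of_mul_eq_one_left h1
    rw [h2]
    exact (QuotientGroup.eq_one_iff _).mpr (N.inv_mem hn)

theorem not_dvd_card {A G : Type*} [Group A] [Finite A] [Group G] [Finite G] {p : ℕ} [Fact p.Prime]
    (hAp : IsPGroup p A) (φ : A →* MulAut G) (hfix : ∀ g, (∀ x, φ x g = g) → g = 1) : ¬ p ∣ Nat.card G := by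
  classical
  have hp : p.Prime := Fact.out
  letI : MulAction A G := MulAction.compHom G φ
  have h1 := hAp.card_modEq_card_fixedPoints G
  have h2 : MulAction.fixedPoints A G = {1} := by
    ext g
    simp only [MulAction.mem_fixedPoints, Set.mem_singleton_iff]
    constructor
    · intro h
      exact hfix g h
    · rintro rfl x
      exact map_one (φ x)
  rw [h2] at h1
  have h3 : Nat.card ({1} : Set G) = 1 := by simp
  rw [h3] at h1
  intro h
  have h4 : 1 ≡ 0 [MOD p] := h1.symm.trans (Nat.modEq_zero_iff_dvd.mpr h)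
  have h5 : p ∣ 1 := Nat.modEq_zero_iff_dvd.mp h4
  exact hp.one_lt.ne' (Nat.dvd_one.mp h5)

/-- A module structure on an abelian normal invariant subgroup. -/
theorem exists_module_act {G : Type u} [Group G] {A : Type*} [Group A] (V : Subgroup G) [hn : V.Normal]
    (hc : ∀ u ∈ V, ∀ v ∈ V, u * v = v * u) (φ : A →* MulAut G) (hφV : ∀ x, ∀ v ∈ V, φ x v ∈ V) :
    ∃ (M : Type u) (_ : AddCommGroup M) (ι' : M → G) (ρ : G →* End ℤ M) (τ : A →* End ℤ M),
      (∀ v w, ι' (v + w) = ι' v * ι' w) ∧ (∀ v, ι' v ∈ V) ∧ (∀ u ∈ V, ∃ v, ι' v = u) ∧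
        (∀ v w, ι' v = ι' w → v = w) ∧ (∀ g v, ι' (ρ g v) = g * ι' v * g⁻¹) ∧
        (∀ x v, ι' (τ x v) = φ x (ι' v)) := by
  obtain ⟨M, _, ι', ρ₀, h1, h2, h3, h4, h5⟩ := Cfsg.Agent.Lib.MaxExp.exists_module V hc
  let ρ : G →* End ℤ M :=
    { toFun := ρ₀
      map_one' := by
        ext v
        apply h4
        rw [h5]; simp
      map_mul' := by
        intro a b
        ext v
        apply h4
        rw [h5, Module.End.mul_apply, h5, h5]; group }
  have hτ : ∀ x v, ∃ w, ι' w = φ x (ι' v) := fun x v => h3 _ (hφV x _ (h2 v))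
  choose τf hτf using hτ
  let τ₁ : A → End ℤ M := fun x => AddMonoidHom.toIntLinearMap (AddMonoidHom.mk' (τf x) (by
    intro a b
    apply h4
    rw [hτf, h1, h1, map_mul, hτf, hτf]))
  have hτ₁ : ∀ x v, ι' (τ₁ x v) = φ x (ι' v) := fun x v => hτf x v
  let τ : A →* End ℤ M :=
    { toFun := τ₁
      map_one' := by
        ext v
        apply h4
        rw [hτ₁, map_one]
        rfl
      map_mul' := by
        intro a b
        ext v
        apply h4
        rw [Module.End.mul_apply, hτ₁, hτ₁, hτ₁, map_mul]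
        rfl }
  exact ⟨M, inferInstance, ι', ρ, τ, h1, h2, h3, h4, h5, hτ₁⟩

/-- **Ward's theorem**: the Fitting quotient is nilpotent. -/
theorem theorem_W {p : ℕ} (hp : p.Prime) {A : Type v} [CommGroup A] [Fintype A] (hA : ∀ x : A, x ^ p = 1)
    (hcard : Nat.card A = p ^ 2) :
    ∀ (N : ℕ) (G : Type u) [Group G] [Finite G], Nat.card G = N → Group.IsSolvable G →
      ∀ φ : A →* MulAut G, (∀ g, (∀ x, φ x g = g) → g = 1) →
      ∃ k, (⊤ : Subgroup G).lowerCentralSeries k ≤ fittingSubgroup G := by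
  intro N
  induction N using Nat.strong_induction_on with
  | _ N IH =>
    intro G _ _ hcardG hsolv φ hfix
    classical
    haveI := hsolv
    haveI : Fact p.Prime := ⟨hp⟩
    have hAp : IsPGroup p A := fun x => ⟨1, by rw [pow_one]; exact hA x⟩
    have hpG : ¬ p ∣ Nat.card G := not_dvd_card hAp φ hfix
    by_cases hbot : (⊥ : Subgroup G) = ⊤
    · refine ⟨0, ?_⟩
      rw [Subgroup.lowerCentralSeries_zero, ← hbot]
      exact bot_le
    let 𝒱 : Set (Subgroup G) := {V | V ≠ ⊥ ∧ V.Normal ∧ ∀ x, ∀ s ∈ V, φ x s ∈ V}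
    have htop : (⊤ : Subgroup G) ∈ 𝒱 := ⟨Ne.symm hbot, inferInstance, fun _ _ _ => trivial⟩
    obtain ⟨V, hVmin⟩ := (Set.toFinite 𝒱).exists_minimal ⟨⊤, htop⟩
    obtain ⟨hV0, hVn, hVφ⟩ := hVmin.1
    have hmin : ∀ S : Subgroup G, S ≠ ⊥ → S.Normal → (∀ x, ∀ s ∈ S, φ x s ∈ S) → S ≤ V → S = V :=
      fun S h1 h2 h3 h4 => le_antisymm h4 (hVmin.2 ⟨h1, h2, h3⟩ h4)
    haveI := hVn
    -- `V` is abelian
    have hVab : ∀ u ∈ V, ∀ v ∈ V, u * v = v * u := by
      have h0 : ⁅V, V⁆ = ⊥ := by
        by_contra hne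
        have hVmap : ∀ x, V.map (φ x).toMonoidHom ≤ V := by
          rintro x _ ⟨v, hv, rfl⟩
          exact hVφ x v hv
        have h2 : ∀ x, (⁅V, V⁆).map (φ x).toMonoidHom ≤ ⁅V, V⁆ := by
          intro x
          rw [Subgroup.map_commutator]
          exact Subgroup.commutator_mono (hVmap x) (hVmap x)
        have h1 : ⁅V, V⁆ = V := hmin _ hne inferInstance
          (fun x s hs => h2 x ⟨s, hs, rfl⟩) (Subgroup.commutator_le_left V V)
        haveI : Nontrivial V := (Subgroup.nontrivial_iff_ne_bot V).mpr hV0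
        have h3 := Group.IsSolvable.commutator_lt_top_of_nontrivial (G := V)
        apply h3.ne
        have h4 : (commutator V).map V.subtype = ⁅V, V⁆ := by
          rw [commutator_def, Subgroup.map_commutator, ← MonoidHom.range_eq_map, Subgroup.range_subtype]
        rw [h1] at h4
        apply Subgroup.map_injective V.subtype_injective
        rw [h4, ← MonoidHom.range_eq_map, Subgroup.range_subtype]
      have h1 := Subgroup.commutator_eq_bot_iff_le_centralizer.mp h0
      intro u hu v hv
      exact ((Subgroup.mem_centralizer_iff.mp (h1 hu)) v hv).symm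
    -- `V` is elementary abelian
    have hVnt : Nontrivial V := (Subgroup.nontrivial_iff_ne_bot V).mpr hV0
    obtain ⟨q, hq, hqV⟩ := Nat.exists_prime_and_dvd (Finite.one_lt_card (α := V)).ne'
    haveI : Fact q.Prime := ⟨hq⟩
    obtain ⟨x, hx⟩ := exists_prime_orderOf_dvd_card' q hqV
    let W : Subgroup G :=
      { carrier := {v | v ∈ V ∧ v ^ q = 1}
        mul_mem' := by
          rintro a b ⟨ha, ha'⟩ ⟨hb, hb'⟩
          refine ⟨V.mul_mem ha hb, ?_⟩
          have : Commute a b := hVab a ha b hb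
          rw [this.mul_pow, ha', hb', one_mul]
        one_mem' := ⟨V.one_mem, one_pow _⟩
        inv_mem' := by
          rintro a ⟨ha, ha'⟩
          exact ⟨V.inv_mem ha, by rw [inv_pow, ha', inv_one]⟩ }
    have hW : W = V := by
      refine hmin W ?_ ?_ ?_ (fun v hv => hv.1)
      · intro hb
        have h1 : (x : G) ∈ W := ⟨x.2, by
          have := pow_orderOf_eq_one x
          rw [hx] at this
          exact congrArg Subtype.val this⟩
        rw [hb] at h1
        have h2 : (x : G) = 1 := Subgroup.mem_bot.mp h1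
        have h3 : x = 1 := Subtype.ext h2
        rw [h3, orderOf_one] at hx
        exact hq.one_lt.ne hx
      · refine ⟨fun v hv g => ⟨hVn.conj_mem v hv.1 g, ?_⟩⟩
        rw [conj_pow, hv.2, mul_one, mul_inv_cancel]
      · intro y s hs
        exact ⟨hVφ y s hs.1, by rw [← map_pow, hs.2, map_one]⟩
    have hVq : ∀ v ∈ V, v ^ q = 1 := by
      intro v hv
      have : v ∈ W := hW ▸ hv
      exact this.2
    -- the module
    obtain ⟨M, _, ι', ρ, τ, h1, h2, h3, h4, h5, h6⟩ := exists_module_act V hVab φ hVφ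
    have hι0 : ι' 0 = 1 := by
      have := h1 0 0
      rw [add_zero] at this
      exact (mul_eq_left.mp this.symm)
    have hιn : ∀ (k : ℕ) (v : M), ι' (k • v) = ι' v ^ k := by
      intro k v
      induction k with
      | zero => simp [hι0]
      | succ k ih => rw [succ_nsmul, h1, ih, pow_succ]
    have hM : ∀ v : M, q • v = 0 := by
      intro v
      apply h4
      rw [hιn, hVq _ (h2 v), hι0]
    haveI : Finite M := Finite.of_injective (fun v => (⟨ι' v, h2 v⟩ : V)) (by
      intro v w h
      exact h4 v w (congrArg Subtype.val h))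
    have hτρ : ∀ a g, τ a * ρ g = ρ (φ a g) * τ a := by
      intro a g
      ext v
      apply h4
      rw [Module.End.mul_apply, Module.End.mul_apply, h6, h5, h5, h6, map_mul, map_mul, map_inv]
    have hsum : ∀ v, ∑ a, τ a v = 0 := by
      intro v
      set w := ∑ a, τ a v with hw
      have hτw : ∀ a, τ a w = w := by
        intro a
        rw [hw, map_sum]
        have h7 : ∀ c, τ a (τ c v) = τ (a * c) v := by
          intro c
          rw [map_mul]; rfl
        simp only [h7]
        exact Equiv.sum_comp (Equiv.mulLeft a) (fun c => τ c v)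
      have h7 : ∀ a, φ a (ι' w) = ι' w := by
        intro a
        rw [← h6, hτw]
      have h8 := hfix _ h7
      exact h4 _ _ (h8.trans hι0.symm)
    have hVdvd : q ∣ Nat.card G := hqV.trans (Subgroup.card_subgroup_dvd_card V)
    have hpq : p ≠ q := by
      rintro rfl
      exact hpG hVdvd
    -- the faithful quotient
    have hτsurj : ∀ a w, ∃ v, τ a v = w := by
      intro a w
      refine ⟨τ a⁻¹ w, ?_⟩
      rw [← Module.End.mul_apply, ← map_mul, mul_inv_cancel, map_one]
      rfl
    have hker : ∀ a g, g ∈ ρ.ker → φ a g ∈ ρ.ker := by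
      intro a g hg
      rw [MonoidHom.mem_ker] at hg ⊢
      ext w
      obtain ⟨v, rfl⟩ := hτsurj a w
      have h7 := congrArg (fun y : End ℤ M => y v) (hτρ a g)
      simp only [Module.End.mul_apply, hg, Module.End.one_apply] at h7
      exact h7.symm
    let ρH : (G ⧸ ρ.ker) →* End ℤ M := QuotientGroup.lift ρ.ker ρ le_rfl
    have hρHmk : ∀ y : G, ρH (y : G ⧸ ρ.ker) = ρ y := fun y => rfl
    have hρH : Function.Injective ρH := by
      intro a b
      induction a using QuotientGroup.induction_on with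
      | H a =>
        induction b using QuotientGroup.induction_on with
        | H b =>
          intro h
          rw [hρHmk, hρHmk] at h
          rw [QuotientGroup.eq, MonoidHom.mem_ker, map_mul, ← h, ← map_mul, inv_mul_cancel, map_one]
    let φH : A →* MulAut (G ⧸ ρ.ker) := quotHom φ ρ.ker hker
    have hfixH : ∀ y : G ⧸ ρ.ker, (∀ a, φH a y = y) → y = 1 :=
      fun y hy => fix_quot hAp φ hfix ρ.ker hker
        (fun h => hpG (h.trans (Subgroup.card_subgroup_dvd_card _))) y hy
    have hτρH : ∀ a y, τ a * ρH y = ρH (φH a y) * τ a := by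
      intro a y
      induction y using QuotientGroup.induction_on with
      | H y => exact hτρ a y
    have hOq : pCore q (G ⧸ ρ.ker) = ⊥ := by
      let Q : Subgroup (G ⧸ ρ.ker) := pCore q (G ⧸ ρ.ker)
      have hQq : IsPGroup q Q := isPGroup_pCore q
      have hvne : ∃ v₁ : M, v₁ ≠ 0 := by
        obtain ⟨v₁, hv₁⟩ := h3 _ x.2
        refine ⟨v₁, ?_⟩
        rintro rfl
        rw [hι0] at hv₁
        have : x = 1 := Subtype.ext hv₁.symm
        rw [this, orderOf_one] at hx
        exact hq.one_lt.ne hx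
      have hqM : q ∣ Nat.card M := by
        obtain ⟨v₁, hv₁⟩ := hvne
        have h7 : addOrderOf v₁ = q := addOrderOf_eq_prime (hM v₁) hv₁
        rw [← h7]
        exact addOrderOf_dvd_natCard v₁
      obtain ⟨v₀, hv₀, hv₀fix⟩ := exists_fixed_vector hQq (ρH.comp Q.subtype) hqM
      let Ŵ : Subgroup G :=
        { carrier := {g | ∃ v, ι' v = g ∧ ∀ y ∈ Q, ρH y v = v}
          mul_mem' := by
            rintro a b ⟨v, rfl, hv⟩ ⟨w, rfl, hw⟩
            refine ⟨v + w, h1 v w, fun y hy => ?_⟩
            rw [map_add, hv y hy, hw y hy]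
          one_mem' := ⟨0, hι0, fun y _ => map_zero _⟩
          inv_mem' := by
            rintro a ⟨v, rfl, hv⟩
            refine ⟨-v, ?_, fun y hy => ?_⟩
            · have h7 := h1 v (-v)
              rw [add_neg_cancel, hι0] at h7
              exact eq_inv_of_mul_eq_one_right h7.symm
            · rw [map_neg, hv y hy] }
      have hŴV : Ŵ = V := by
        refine hmin Ŵ ?_ ?_ ?_ ?_
        · intro hb
          have h7 : ι' v₀ ∈ Ŵ := ⟨v₀, rfl, fun y hy => hv₀fix ⟨y, hy⟩⟩
          rw [hb] at h7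
          exact hv₀ (h4 _ _ ((Subgroup.mem_bot.mp h7).trans hι0.symm))
        · refine ⟨?_⟩
          rintro _ ⟨v, rfl, hv⟩ g
          refine ⟨ρ g v, h5 g v, fun y hy => ?_⟩
          set gb : G ⧸ ρ.ker := (g : G ⧸ ρ.ker) with hgb
          have hy' : gb⁻¹ * y * gb⁻¹⁻¹ ∈ Q := (pCore_normal (G := G ⧸ ρ.ker) q).conj_mem y hy gb⁻¹
          have e : y * gb = gb * (gb⁻¹ * y * gb⁻¹⁻¹) := by group
          calc ρH y (ρ g v) = ρH (y * gb) v := by rw [map_mul]; rfl
            _ = ρH (gb * (gb⁻¹ * y * gb⁻¹⁻¹)) v := by rw [e]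
            _ = ρ g (ρH (gb⁻¹ * y * gb⁻¹⁻¹) v) := by rw [map_mul]; rfl
            _ = ρ g v := by rw [hv _ hy']
        · rintro a _ ⟨v, rfl, hv⟩
          refine ⟨τ a v, h6 a v, fun y hy => ?_⟩
          have hy' : φH a⁻¹ y ∈ Q :=
            (Subgroup.characteristic_iff_le_comap.mp (instPCoreCharacteristic q)) (φH a⁻¹) hy
          have h7 : φH a (φH a⁻¹ y) = y := by
            rw [← MulAut.mul_apply, ← map_mul, mul_inv_cancel, map_one]
            rfl
          have h8 := congrArg (fun z : End ℤ M => z v) (hτρH a (φH a⁻¹ y))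
          simp only [Module.End.mul_apply, h7, hv _ hy'] at h8
          exact h8.symm
        · rintro _ ⟨v, rfl, -⟩
          exact h2 v
      have hfixv : ∀ v : M, ∀ y ∈ Q, ρH y v = v := by
        intro v y hy
        have h7 : ι' v ∈ Ŵ := hŴV ▸ h2 v
        obtain ⟨v', h8, h9⟩ := h7
        rw [← h4 _ _ h8]
        exact h9 y hy
      rw [eq_bot_iff]
      intro y hy
      rw [Subgroup.mem_bot]
      apply hρH
      rw [map_one]
      ext v
      exact hfixv v y hy
    letI : Module (ZMod q) M := AddCommGroup.zmodModule hM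
    have hnilH : Group.IsNilpotent (G ⧸ ρ.ker) := key_nilpotent (H := G ⧸ ρ.ker) (A := A) (M := M)
      inferInstance hp hq hpq (fun h => hpG (h.trans (Subgroup.card_quotient_dvd_card _)))
      hA hcard φH hfixH ρH hρH τ hτρH hsum hOq
    -- the quotient by `V`
    let φV : A →* MulAut (G ⧸ V) := quotHom φ V hVφ
    have hfixV : ∀ y : G ⧸ V, (∀ a, φV a y = y) → y = 1 :=
      fun y hy => fix_quot hAp φ hfix V hVφ
        (fun h => hpG (h.trans (Subgroup.card_subgroup_dvd_card _))) y hy
    have hlt : Nat.card (G ⧸ V) < N := by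
      rw [← hcardG]
      have h7 := V.card_mul_index
      have h8 : 2 ≤ Nat.card V := Finite.one_lt_card
      have h9 : 0 < V.index := Nat.pos_of_ne_zero Subgroup.index_ne_zero_of_finite
      rw [Subgroup.index] at h7 h9
      nlinarith
    obtain ⟨k₁, hk₁⟩ := IH _ hlt (G ⧸ V) rfl inferInstance φV hfixV
    let K' : Subgroup G := (fittingSubgroup (G ⧸ V)).comap (QuotientGroup.mk' V) ⊓ ρ.ker
    have hK'n : K'.Normal := Subgroup.normal_inf_normal _ _
    let ψ : K' →* fittingSubgroup (G ⧸ V) :=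
      ((QuotientGroup.mk' V).comp K'.subtype).codRestrict _ (fun k => k.2.1)
    have hψker : ψ.ker ≤ Subgroup.center K' := by
      intro k hk
      have h7 : ((k : G) : G ⧸ V) = 1 := congrArg Subtype.val (MonoidHom.mem_ker.mp hk)
      have hkV : (k : G) ∈ V := (QuotientGroup.eq_one_iff _).mp h7
      rw [Subgroup.mem_center_iff]
      intro y
      apply Subtype.ext
      show (y : G) * k = k * y
      obtain ⟨v, hv⟩ := h3 k hkV
      have hy : ρ (y : G) = 1 := MonoidHom.mem_ker.mp y.2.2
      have h8 := h5 (y : G) v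
      rw [hy, Module.End.one_apply, hv] at h8
      calc (y : G) * k = (y : G) * k * (y : G)⁻¹ * y := by group
        _ = k * y := by rw [← h8]
    haveI : Group.IsNilpotent (fittingSubgroup (G ⧸ V)) := isNilpotent_fittingSubgroup
    have hnil : Group.IsNilpotent K' := Subgroup.isNilpotent_of_ker_le_center ψ hψker
    have hK'F : K' ≤ fittingSubgroup G := le_fittingSubgroup hK'n hnil
    -- the series
    obtain ⟨k₂, hk₂⟩ := Subgroup.nilpotent_iff_lowerCentralSeries.mp hnilH
    have hser₁ : (⊤ : Subgroup G).lowerCentralSeries k₁ ≤ (fittingSubgroup (G ⧸ V)).comap (QuotientGroup.mk' V) := by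
      rw [← Subgroup.map_le_iff_le_comap, Subgroup.map_lowerCentralSeries,
        Subgroup.map_top_of_surjective _ (QuotientGroup.mk'_surjective _)]
      exact hk₁
    have hser₂ : (⊤ : Subgroup G).lowerCentralSeries k₂ ≤ ρ.ker := by
      have h7 : (⊤ : Subgroup G).lowerCentralSeries k₂ ≤ (QuotientGroup.mk' ρ.ker).ker := by
        rw [← MonoidHom.comap_bot, ← Subgroup.map_le_iff_le_comap, Subgroup.map_lowerCentralSeries,
          Subgroup.map_top_of_surjective _ (QuotientGroup.mk'_surjective _), hk₂]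
      rwa [QuotientGroup.ker_mk'] at h7
    refine ⟨max k₁ k₂, ?_⟩
    refine le_trans (le_inf ?_ ?_) hK'F
    · exact (Subgroup.lowerCentralSeries_antitone _ (le_max_left _ _)).trans hser₁
    · exact (Subgroup.lowerCentralSeries_antitone _ (le_max_right _ _)).trans hser₂

end Top

end Cfsg.Agent.Lib.WardKey
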