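import Mathlib
import Cfsg.Agent.Lib.GrossCore
import Cfsg.Agent.Lib.WardKey

/-!
# The group-level steps of Gross's theorem
-/

set_option autoImplicit false
set_option linter.unusedSectionVars false
set_option linter.unusedVariables false
set_option linter.style.haveILetI false

namespace Cfsg.Agent.Lib.GrossTop

open Module Cfsg.Agent.Lib.HHCore Cfsg.Agent.Lib.HHChar Cfsg.Agent.Lib.HHFermat
  Cfsg.Agent.Lib.WardSym Cfsg.Agent.Lib.WardCore Cfsg.Agent.Lib.WardNonab Cfsg.Agent.Lib.HHMain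
  Cfsg.Agent.Lib.WardKey Cfsg.Agent.Lib.PCore Cfsg.Agent.Lib.GrossCore
open scoped commutatorElement TensorProduct

universe u v w

section Rep

variable {H : Type*} [Group H] [Finite H] {M : Type*} [AddCommGroup M] [Finite M]

/-- Induction over invariant `r`-subgroups. -/
theorem centralize2 {q r s n : ℕ} [Fact q.Prime] [Module (ZMod q) M] (hq : q.Prime) (hr : r.Prime) (hs : s.Prime)
    (hq2 : q ≠ 2) (hr2 : r ≠ 2) (hs2 : s ≠ 2) (hrq : r ≠ q) (hrs : r ≠ s) (hn : 1 ≤ n)
    (σ : MulAut H) (hσ : σ ^ (2 ^ n) = 1) (hfpf : ∀ g, σ g = g → g = 1)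
    (ρ₀ : H →* End ℤ M) (hρ₀ : Function.Injective ρ₀) (τ₀ : End ℤ M)
    (hτρ₀ : ∀ g, τ₀ * ρ₀ g = ρ₀ (σ g) * τ₀) (hτ₀ : τ₀ ^ (2 ^ n) = 1)
    (hnorm₀ : ∀ v, ∑ i ∈ Finset.range (2 ^ n), (τ₀ ^ i) v = 0)
    (A : Set H) (hA : ∀ w ∈ A, (σ ^ (2 ^ (n - 1))) w = w⁻¹) (Y : Subgroup H) (hY : Y = Subgroup.closure A)
    (hYs : IsPGroup s Y) (hYσ : ∀ y ∈ Y, σ y ∈ Y) :
    ∀ (N : ℕ) (S : Subgroup H), Nat.card S = N → IsPGroup r S → (∀ t ∈ S, σ t ∈ S) →
      (∀ y ∈ Y, ∀ t ∈ S, y * t * y⁻¹ ∈ S) → ∀ y ∈ Y, ∀ t ∈ S, y * t * y⁻¹ = t := by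
  intro N
  induction N using Nat.strong_induction_on with
  | _ N IH =>
    intro S hcardS hSr hSσ hSY y₀ hy₀ t₀ ht₀
    classical
    letI := Fintype.ofFinite S
    haveI : Fact r.Prime := ⟨hr⟩
    haveI : Fact s.Prime := ⟨hs⟩
    haveI : Module.Finite (ZMod q) M := Module.Finite.of_finite
    have hpos : 0 < 2 ^ n := by positivity
    have hM : ∀ v : M, q • v = 0 := fun v => ZModModule.char_nsmul_eq_zero q v
    let toK : End ℤ M →* End (ZMod q) M := toKHom q M
    have htoK : ∀ (f : End ℤ M) (v : M), toK f v = f v := fun f v => rfl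
    have htoKinj : Function.Injective toK := by
      intro f g h
      ext v
      have := congrArg (fun y : End (ZMod q) M => y v) h
      exact this
    let bc : End (ZMod q) M →ₐ[ZMod q] End (FF q) (FF q ⊗[ZMod q] M) :=
      Module.End.baseChangeHom (ZMod q) (FF q) M
    have hbcinj : Function.Injective bc := LinearMap.baseChangeHom_injective (ZMod q) M (FF q)
    let bc' : End ℤ M →* End (FF q) (FF q ⊗[ZMod q] M) :=
      (bc : End (ZMod q) M →* End (FF q) (FF q ⊗[ZMod q] M)).comp toK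
    have hbc'inj : Function.Injective bc' := fun a c h => htoKinj (hbcinj h)
    have hchar : ∀ m : ℕ, ((m : ℕ) : FF q) = 0 ↔ q ∣ m := by
      intro m
      haveI : CharP (FF q) q := charP_of_injective_algebraMap (algebraMap (ZMod q) (FF q)).injective q
      exact CharP.cast_eq_zero_iff (FF q) q m
    have h2K : (2 : FF q) ≠ 0 := by
      intro h
      have h1 : ((2 : ℕ) : FF q) = 0 := by exact_mod_cast h
      rw [hchar] at h1
      exact hq2 ((Nat.prime_dvd_prime_iff_eq hq Nat.prime_two).mp h1)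
    have hRK : (Fintype.card S : FF q) ≠ 0 := by
      rw [Ne, hchar]
      intro h
      obtain ⟨k, hk⟩ := (IsPGroup.iff_card (p := r) (G := S)).mp hSr
      rw [← Nat.card_eq_fintype_card, hk] at h
      exact hrq ((Nat.prime_dvd_prime_iff_eq hq hr).mp (hq.dvd_of_dvd_pow h)).symm
    let ρ : S →* End (FF q) (FF q ⊗[ZMod q] M) := bc'.comp (ρ₀.comp S.subtype)
    have hρ : Function.Injective ρ := hbc'inj.comp (hρ₀.comp S.subtype_injective)
    let τ : End (FF q) (FF q ⊗[ZMod q] M) := bc' τ₀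
    have hSinv : ∀ t, t ∈ S ↔ σ t ∈ S := inv_iff_of_pow_eq_one σ S hSσ hpos hσ
    have hYinv : ∀ t, t ∈ Y ↔ σ t ∈ Y := inv_iff_of_pow_eq_one σ Y hYσ hpos hσ
    let α : MulAut S := restrictAut σ S hSinv
    let σY : MulAut Y := restrictAut σ Y hYinv
    have hconjS : ∀ (x : Y) (t : H), t ∈ S → ((MulAut.conj : H →* MulAut H).comp Y.subtype) x t ∈ S := by
      intro x t ht
      exact hSY x x.2 t ht
    let β : Y →* MulAut S := restrictHom ((MulAut.conj : H →* MulAut H).comp Y.subtype) S hconjS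
    have hβco : ∀ (y : Y) (t : S), ((β y t : S) : H) = (y : H) * t * (y : H)⁻¹ := fun y t => rfl
    have hτρ : ∀ t, τ * ρ t = ρ (α t) * τ := by
      intro t
      show bc' τ₀ * bc' (ρ₀ t) = bc' (ρ₀ (σ t)) * bc' τ₀
      rw [← map_mul, ← map_mul, hτρ₀]
    have hτ1 : τ ^ (2 ^ n) = 1 := by
      show (bc' τ₀) ^ (2 ^ n) = 1
      rw [← map_pow, hτ₀, map_one]
    have hnorm : ∑ i ∈ Finset.range (2 ^ n), τ ^ i = 0 := by
      have h1 : ∑ i ∈ Finset.range (2 ^ n), τ ^ i = bc (∑ i ∈ Finset.range (2 ^ n), (toK τ₀) ^ i) := by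
        rw [map_sum]
        refine Finset.sum_congr rfl fun i _ => ?_
        rw [map_pow]
        rfl
      rw [h1]
      have h2 : ∑ i ∈ Finset.range (2 ^ n), (toK τ₀) ^ i = 0 := by
        ext v
        rw [LinearMap.sum_apply]
        have h3 := hnorm₀ v
        have h4 : ∀ i, ((toK τ₀) ^ i) v = (τ₀ ^ i) v := by
          intro i
          rw [← map_pow]
          exact htoK _ _
        simp only [h4]
        exact h3
      rw [h2, map_zero]
    have hα : α ^ (2 ^ n) = 1 := by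
      ext x
      rw [restrictAut_pow_coe, hσ]
      rfl
    have hσY : σY ^ (2 ^ n) = 1 := by
      ext x
      rw [restrictAut_pow_coe, hσ]
      rfl
    have hfpfS : ∀ t : S, α t = t → t = 1 := by
      intro t ht
      apply Subtype.ext
      exact hfpf _ (congrArg Subtype.val ht)
    have hcompat : ∀ y t, β (σY y) (α t) = α (β y t) := by
      intro y t
      apply Subtype.ext
      show σ y * σ t * (σ y)⁻¹ = σ ((y : H) * t * (y : H)⁻¹)
      rw [map_mul, map_mul, map_inv]
    have hgen : Subgroup.closure {y : Y | (σY ^ (2 ^ (n - 1))) y = y⁻¹} = ⊤ := by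
      rw [eq_top_iff]
      rintro ⟨y, hy⟩ -
      have h1 : Y ≤ (Subgroup.closure {y : Y | (σY ^ (2 ^ (n - 1))) y = y⁻¹}).map Y.subtype := by
        nth_rewrite 1 [hY]
        refine (Subgroup.closure_le _).mpr ?_
        intro w hw
        have hwY : w ∈ Y := by
          rw [hY]
          exact Subgroup.subset_closure hw
        refine ⟨⟨w, hwY⟩, Subgroup.subset_closure ?_, rfl⟩
        show (σY ^ (2 ^ (n - 1))) ⟨w, hwY⟩ = (⟨w, hwY⟩ : Y)⁻¹
        apply Subtype.ext
        rw [restrictAut_pow_coe]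
        exact hA w hw
      obtain ⟨y', hy', h2⟩ := h1 hy
      have h3 : y' = ⟨y, hy⟩ := Subtype.ext h2
      rw [← h3]
      exact hy'
    have hab : (∀ a b : S, a * b = b * a) → α ^ (2 ^ (n - 1)) = 1 := by
      intro hab
      letI instS : CommGroup S := { (inferInstance : Group S) with mul_comm := hab }
      have hcard' : Nat.Coprime (Nat.card S) q := by
        obtain ⟨k, hk⟩ := (IsPGroup.iff_card (p := r) (G := S)).mp hSr
        rw [hk]
        exact Nat.Coprime.pow_left _ ((Nat.coprime_primes hr hq).mpr hrq)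
      exact Cfsg.Agent.Lib.DedekindOps.dedekind_core hM hcard' (ρ₀.comp S.subtype)
        (hρ₀.comp S.subtype_injective) τ₀ α (fun t => hτρ₀ t) Nat.prime_two hn hα hnorm₀
    have hsub : ∀ S' : Subgroup S, S' ≠ ⊤ → (∀ t ∈ S', α t ∈ S') → (∀ y t, t ∈ S' → β y t ∈ S') →
        ∀ y, ∀ t ∈ S', β y t = t := by
      intro S' hS' h1 h2 y t ht
      apply Subtype.ext
      rw [hβco]
      let S'' : Subgroup H := S'.map S.subtype
      have hc : Nat.card S'' = Nat.card S' :=
        Nat.card_congr (Subgroup.equivMapOfInjective S' S.subtype S.subtype_injective).toEquiv.symm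
      have hlt : Nat.card S'' < N := by
        rw [hc, ← hcardS]
        have h3 := S'.card_mul_index
        have h4 : 2 ≤ S'.index := by
          have h5 : S'.index ≠ 0 := Subgroup.index_ne_zero_of_finite
          have h6 : S'.index ≠ 1 := fun h => hS' (Subgroup.index_eq_one.mp h)
          omega
        have h5 : 0 < Nat.card S' := Nat.card_pos
        nlinarith
      refine IH _ hlt S'' rfl ?_ ?_ ?_ y y.2 t ⟨t, ht, rfl⟩
      · rintro ⟨_, c, hc, rfl⟩
        obtain ⟨k, hk⟩ := hSr c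
        refine ⟨k, ?_⟩
        apply Subtype.ext
        show ((c : S) : H) ^ r ^ k = 1
        exact congrArg Subtype.val hk
      · rintro _ ⟨c, hc, rfl⟩
        exact ⟨α c, h1 c hc, rfl⟩
      · rintro z hz _ ⟨c, hc, rfl⟩
        exact ⟨β ⟨z, hz⟩ c, h2 ⟨z, hz⟩ c hc, rfl⟩
    have hfinal := centralize_step (K := FF q) (U := FF q ⊗[ZMod q] M) (R := S) (Y := Y) hr hr2 hs hs2 hrs.symm hn
      hSr hYs h2K hRK ρ hρ α hα hfpfS τ hτρ hτ1 hnorm β σY hσY hcompat hgen hab hsub ⟨y₀, hy₀⟩ ⟨t₀, ht₀⟩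
    exact congrArg Subtype.val hfinal

/-- The case of order four. -/
theorem sigma2_sub {q r : ℕ} [Fact q.Prime] [Module (ZMod q) M] (hq : q.Prime) (hr : r.Prime)
    (hq2 : q ≠ 2) (hr2 : r ≠ 2) (hrq : r ≠ q)
    (σ : MulAut H) (hσ : σ ^ (2 ^ 2) = 1) (hfpf : ∀ g, σ g = g → g = 1)
    (ρ₀ : H →* End ℤ M) (hρ₀ : Function.Injective ρ₀) (τ₀ : End ℤ M)
    (hτρ₀ : ∀ g, τ₀ * ρ₀ g = ρ₀ (σ g) * τ₀) (hτ₀ : τ₀ ^ (2 ^ 2) = 1)
    (hnorm₀ : ∀ v, ∑ i ∈ Finset.range (2 ^ 2), (τ₀ ^ i) v = 0) :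
    ∀ (N : ℕ) (S : Subgroup H), Nat.card S = N → IsPGroup r S → (∀ t ∈ S, σ t ∈ S) → ∀ t ∈ S, (σ ^ 2) t = t := by
  intro N
  induction N using Nat.strong_induction_on with
  | _ N IH =>
    intro S hcardS hSr hSσ t₀ ht₀
    classical
    letI := Fintype.ofFinite S
    haveI : Fact r.Prime := ⟨hr⟩
    haveI : Module.Finite (ZMod q) M := Module.Finite.of_finite
    have hpos : 0 < 2 ^ 2 := by positivity
    have hM : ∀ v : M, q • v = 0 := fun v => ZModModule.char_nsmul_eq_zero q v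
    let toK : End ℤ M →* End (ZMod q) M := toKHom q M
    have htoK : ∀ (f : End ℤ M) (v : M), toK f v = f v := fun f v => rfl
    have htoKinj : Function.Injective toK := by
      intro f g h
      ext v
      have := congrArg (fun y : End (ZMod q) M => y v) h
      exact this
    let bc : End (ZMod q) M →ₐ[ZMod q] End (FF q) (FF q ⊗[ZMod q] M) :=
      Module.End.baseChangeHom (ZMod q) (FF q) M
    have hbcinj : Function.Injective bc := LinearMap.baseChangeHom_injective (ZMod q) M (FF q)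
    let bc' : End ℤ M →* End (FF q) (FF q ⊗[ZMod q] M) :=
      (bc : End (ZMod q) M →* End (FF q) (FF q ⊗[ZMod q] M)).comp toK
    have hbc'inj : Function.Injective bc' := fun a c h => htoKinj (hbcinj h)
    have hchar : ∀ m : ℕ, ((m : ℕ) : FF q) = 0 ↔ q ∣ m := by
      intro m
      haveI : CharP (FF q) q := charP_of_injective_algebraMap (algebraMap (ZMod q) (FF q)).injective q
      exact CharP.cast_eq_zero_iff (FF q) q m
    have h2K : (2 : FF q) ≠ 0 := by
      intro h
      have h1 : ((2 : ℕ) : FF q) = 0 := by exact_mod_cast h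
      rw [hchar] at h1
      exact hq2 ((Nat.prime_dvd_prime_iff_eq hq Nat.prime_two).mp h1)
    have hRK : (Fintype.card S : FF q) ≠ 0 := by
      rw [Ne, hchar]
      intro h
      obtain ⟨k, hk⟩ := (IsPGroup.iff_card (p := r) (G := S)).mp hSr
      rw [← Nat.card_eq_fintype_card, hk] at h
      exact hrq ((Nat.prime_dvd_prime_iff_eq hq hr).mp (hq.dvd_of_dvd_pow h)).symm
    let ρ : S →* End (FF q) (FF q ⊗[ZMod q] M) := bc'.comp (ρ₀.comp S.subtype)
    have hρ : Function.Injective ρ := hbc'inj.comp (hρ₀.comp S.subtype_injective)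
    let τ : End (FF q) (FF q ⊗[ZMod q] M) := bc' τ₀
    have hSinv : ∀ t, t ∈ S ↔ σ t ∈ S := inv_iff_of_pow_eq_one σ S hSσ hpos hσ
    let α : MulAut S := restrictAut σ S hSinv
    have hτρ : ∀ t, τ * ρ t = ρ (α t) * τ := by
      intro t
      show bc' τ₀ * bc' (ρ₀ t) = bc' (ρ₀ (σ t)) * bc' τ₀
      rw [← map_mul, ← map_mul, hτρ₀]
    have hτ1 : τ ^ (2 ^ 2) = 1 := by
      show (bc' τ₀) ^ (2 ^ 2) = 1
      rw [← map_pow, hτ₀, map_one]
    have hnorm : ∑ i ∈ Finset.range (2 ^ 2), τ ^ i = 0 := by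
      have h1 : ∑ i ∈ Finset.range (2 ^ 2), τ ^ i = bc (∑ i ∈ Finset.range (2 ^ 2), (toK τ₀) ^ i) := by
        rw [map_sum]
        refine Finset.sum_congr rfl fun i _ => ?_
        rw [map_pow]
        rfl
      rw [h1]
      have h2 : ∑ i ∈ Finset.range (2 ^ 2), (toK τ₀) ^ i = 0 := by
        ext v
        rw [LinearMap.sum_apply]
        have h3 := hnorm₀ v
        have h4 : ∀ i, ((toK τ₀) ^ i) v = (τ₀ ^ i) v := by
          intro i
          rw [← map_pow]
          exact htoK _ _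
        simp only [h4]
        exact h3
      rw [h2, map_zero]
    have hα : α ^ (2 ^ 2) = 1 := by
      ext x
      rw [restrictAut_pow_coe, hσ]
      rfl
    have hfpfS : ∀ t : S, α t = t → t = 1 := by
      intro t ht
      apply Subtype.ext
      exact hfpf _ (congrArg Subtype.val ht)
    have hab : (∀ a b : S, a * b = b * a) → α ^ 2 = 1 := by
      intro hab
      letI instS : CommGroup S := { (inferInstance : Group S) with mul_comm := hab }
      have hcard' : Nat.Coprime (Nat.card S) q := by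
        obtain ⟨k, hk⟩ := (IsPGroup.iff_card (p := r) (G := S)).mp hSr
        rw [hk]
        exact Nat.Coprime.pow_left _ ((Nat.coprime_primes hr hq).mpr hrq)
      have h := Cfsg.Agent.Lib.DedekindOps.dedekind_core hM hcard' (ρ₀.comp S.subtype)
        (hρ₀.comp S.subtype_injective) τ₀ α (fun t => hτρ₀ t) Nat.prime_two (n := 2) (by norm_num) hα hnorm₀
      simpa using h
    have hsub : ∀ S' : Subgroup S, S' ≠ ⊤ → (∀ t ∈ S', α t ∈ S') → ∀ t ∈ S', (α ^ 2) t = t := by
      intro S' hS' h1 t ht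
      apply Subtype.ext
      rw [restrictAut_pow_coe]
      let S'' : Subgroup H := S'.map S.subtype
      have hc : Nat.card S'' = Nat.card S' :=
        Nat.card_congr (Subgroup.equivMapOfInjective S' S.subtype S.subtype_injective).toEquiv.symm
      have hlt : Nat.card S'' < N := by
        rw [hc, ← hcardS]
        have h3 := S'.card_mul_index
        have h4 : 2 ≤ S'.index := by
          have h5 : S'.index ≠ 0 := Subgroup.index_ne_zero_of_finite
          have h6 : S'.index ≠ 1 := fun h => hS' (Subgroup.index_eq_one.mp h)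
          omega
        have h5 : 0 < Nat.card S' := Nat.card_pos
        nlinarith
      refine IH _ hlt S'' rfl ?_ ?_ t ⟨t, ht, rfl⟩
      · rintro ⟨_, c, hc, rfl⟩
        obtain ⟨k, hk⟩ := hSr c
        refine ⟨k, ?_⟩
        apply Subtype.ext
        show ((c : S) : H) ^ r ^ k = 1
        exact congrArg Subtype.val hk
      · rintro _ ⟨c, hc, rfl⟩
        exact ⟨α c, h1 c hc, rfl⟩
    have hfinal := sigma0_step (K := FF q) (U := FF q ⊗[ZMod q] M) (R := S) hr hr2 hSr h2K hRK ρ hρ α hα hfpfS τ hτρ hτ1 hnorm hab hsub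
    have h2 : (α ^ 2) ⟨t₀, ht₀⟩ = ⟨t₀, ht₀⟩ := by rw [hfinal]; rfl
    have h3 := congrArg Subtype.val h2
    rw [restrictAut_pow_coe] at h3
    exact h3

end Rep

section General

/-- An automorphism of order prime to the group order, trivial on the Fitting subgroup, is trivial. -/
theorem trivial_of_fitting {Q : Type*} [Group Q] [Finite Q] [Group.IsSolvable Q] (θ : MulAut Q) {p : ℕ}
    (hθ : θ ^ p = 1) (hnop : ∀ c : Q, c ^ p = 1 → c = 1) (hF : ∀ x ∈ fittingSubgroup Q, θ x = x) : θ = 1 := by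
  apply MulEquiv.ext
  intro g
  refine twist_trivial θ hθ hnop (hF _ ?_)
  apply centralizer_fittingSubgroup_le
  rw [Subgroup.mem_centralizer_iff]
  intro x hx
  have hw : g⁻¹ * x * g ∈ fittingSubgroup Q := by
    have := (fittingSubgroup_normal (G := Q)).conj_mem x hx g⁻¹
    simpa using this
  have h1 := hF _ hw
  simp only [map_mul, map_inv, hF x hx] at h1
  have h2 : x * θ g = θ g * (g⁻¹ * x * g) := by
    rw [← h1]; group
  calc x * (θ g * g⁻¹) = x * θ g * g⁻¹ := by group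
    _ = θ g * (g⁻¹ * x * g) * g⁻¹ := by rw [h2]
    _ = θ g * g⁻¹ * x := by group

/-- The nilpotency criterion. -/
theorem nilpotent_of_commute {H : Type*} [Group H] [Finite H] [Group.IsSolvable H]
    (hstep1 : ∀ (s r : ℕ) [Fact s.Prime] [Fact r.Prime], r ≠ s → ∀ z : H, (∃ k, z ^ s ^ k = 1) →
      ∀ t ∈ pCore r H, z * t = t * z) : Group.IsNilpotent H := by
  classical
  have hFtop : fittingSubgroup H = ⊤ := by
    by_contra hne
    let F := fittingSubgroup H
    haveI hFn : F.Normal := fittingSubgroup_normal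
    let Hb := H ⧸ F
    have hbnt : Nontrivial Hb := by
      obtain ⟨x, hx⟩ : ∃ x, x ∉ F := by
        by_contra hcon
        push Not at hcon
        exact hne (eq_top_iff.mpr fun x _ => hcon x)
      refine ⟨⟨(x : Hb), 1, ?_⟩⟩
      intro h
      exact hx ((QuotientGroup.eq_one_iff x).mp h)
    obtain ⟨s, hs, hcore⟩ := exists_pCore_ne_bot (G := Hb)
    haveI : Fact s.Prime := ⟨hs⟩
    let π : H →* Hb := QuotientGroup.mk' F
    let N : Subgroup H := (pCore s Hb).comap π
    haveI hNn : N.Normal := (pCore_normal (G := Hb) s).comap π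
    have hFN : F ≤ N := by
      intro x hx
      show π x ∈ pCore s Hb
      have h1 : π x = 1 := (QuotientGroup.eq_one_iff x).mpr hx
      rw [h1]
      exact Subgroup.one_mem _
    let J : Subgroup H := ⨆ r : {r : Nat.Primes // (r : ℕ) ≠ s}, pCore ((r : Nat.Primes) : ℕ) H
    have hJF : J ≤ F := by
      refine iSup_le fun r => ?_
      haveI : Fact ((r : Nat.Primes) : ℕ).Prime := ⟨r.1.2⟩
      exact pCore_le_fittingSubgroup _
    obtain ⟨Q⟩ : Nonempty (Sylow s N) := inferInstance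
    let Ps : Subgroup H := (Q : Subgroup N).map N.subtype
    have hPsp : IsPGroup s Ps := Q.isPGroup'.map N.subtype
    have hcomm : ∀ a ∈ Ps, ∀ t ∈ J, a * t = t * a := by
      intro a ha t ht
      have h1 : J ≤ Subgroup.centralizer {a} := by
        refine iSup_le fun r => ?_
        haveI : Fact ((r : Nat.Primes) : ℕ).Prime := ⟨r.1.2⟩
        intro c hc
        rw [Subgroup.mem_centralizer_singleton_iff]
        obtain ⟨k, hk⟩ := hPsp ⟨a, ha⟩
        exact (hstep1 s _ r.2 a ⟨k, congrArg Subtype.val hk⟩ c hc).symm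
      have h2 := h1 ht
      rw [Subgroup.mem_centralizer_singleton_iff] at h2
      exact h2.symm
    let W : Subgroup H := J ⊔ Ps
    have hPsN : Ps ≤ N := by
      rintro _ ⟨c, -, rfl⟩
      exact c.2
    have hFW : F ≤ W := by
      show fittingSubgroup H ≤ W
      rw [fittingSubgroup_eq_iSup_pCore]
      refine iSup_le fun r => ?_
      haveI : Fact (r : ℕ).Prime := ⟨r.2⟩
      by_cases hrs : (r : ℕ) = s
      · have h1 : pCore (r : ℕ) H ≤ Ps := by
          intro t ht
          have htF : t ∈ N := hFN (pCore_le_fittingSubgroup _ ht)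
          let O : Subgroup N := (pCore (r : ℕ) H).subgroupOf N
          have hOn : O.Normal := (pCore_normal (G := H) _).subgroupOf N
          have hOs : IsPGroup s O := by
            rintro ⟨c, hc⟩
            obtain ⟨k, hk⟩ := isPGroup_pCore (G := H) (r : ℕ) ⟨c, hc⟩
            refine ⟨k, ?_⟩
            rw [← hrs]
            apply Subtype.ext
            apply Subtype.ext
            show (c : H) ^ _ = 1
            exact congrArg Subtype.val hk
          have h2 : O ≤ (Q : Subgroup N) := hOs.le_sylow_of_normal Q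
          exact ⟨⟨t, htF⟩, h2 ht, rfl⟩
        exact h1.trans le_sup_right
      · exact (le_iSup (fun r : {r : Nat.Primes // (r : ℕ) ≠ s} => pCore ((r : Nat.Primes) : ℕ) H)
          ⟨r, hrs⟩).trans le_sup_left
    have hidx : W.relIndex N = 1 := by
      have h1 : W.relIndex N ∣ F.relIndex N := Subgroup.relIndex_dvd_of_le_left N hFW
      have h2 : W.relIndex N ∣ Ps.relIndex N := Subgroup.relIndex_dvd_of_le_left N le_sup_right
      have h3 : F.relIndex N = Nat.card (pCore s Hb) := by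
        have h4 : π.ker.relIndex N = Nat.card (N.map π) := Subgroup.relIndex_ker _ π
        have h5 : π.ker = F := QuotientGroup.ker_mk' F
        rw [h5] at h4
        have h6 : N.map π = pCore s Hb :=
          Subgroup.map_comap_eq_self_of_surjective (QuotientGroup.mk'_surjective F) _
        rw [h4, h6]
      obtain ⟨k, hk⟩ := IsPGroup.iff_card.mp (isPGroup_pCore (G := Hb) s)
      rw [h3, hk] at h1
      have h5 : ¬ s ∣ Ps.relIndex N := by
        have h6 : Ps.relIndex N = (Q : Subgroup N).index := by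
          rw [Subgroup.relIndex]
          congr 1
          exact Subgroup.comap_map_eq_self_of_injective N.subtype_injective _
        rw [h6]
        exact Q.not_dvd_index
      obtain ⟨m, -, hm⟩ := (Nat.dvd_prime_pow hs).mp h1
      rcases m with _ | m
      · rw [hm, pow_zero]
      · exfalso
        apply h5
        refine Dvd.dvd.trans ?_ h2
        rw [hm, pow_succ]
        exact dvd_mul_left _ _
    have hNW : N ≤ W := Subgroup.relIndex_eq_one.mp hidx
    have hWN : W = N := le_antisymm (sup_le (hJF.trans hFN) hPsN) hNW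
    -- nilpotent
    have hJnil : Group.IsNilpotent J := by
      haveI : Group.IsNilpotent F := isNilpotent_fittingSubgroup
      have h1 : Group.IsNilpotent (J.subgroupOf F) := inferInstance
      exact Group.nilpotent_of_surjective (Subgroup.subgroupOfEquivOfLe hJF).toMonoidHom
        (Subgroup.subgroupOfEquivOfLe hJF).surjective
    have hPsnil : Group.IsNilpotent Ps := hPsp.isNilpotent
    have hcm : ∀ (a : J) (c : Ps), Commute (J.subtype a) (Ps.subtype c) :=
      fun a c => (hcomm c c.2 a a.2).symm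
    let f : J × Ps →* H := MonoidHom.noncommCoprod J.subtype Ps.subtype hcm
    have hfr : f.range = N := by
      rw [← hWN]
      show (MonoidHom.noncommCoprod J.subtype Ps.subtype hcm).range = _
      rw [MonoidHom.noncommCoprod_range, Subgroup.range_subtype, Subgroup.range_subtype]
    have hfnil : Group.IsNilpotent f.range :=
      Group.nilpotent_of_surjective f.rangeRestrict f.rangeRestrict_surjective
    have hNnil : Group.IsNilpotent N := hfr ▸ hfnil
    have hNF : N ≤ F := le_fittingSubgroup hNn hNnil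
    apply hcore
    rw [eq_bot_iff]
    intro x hx
    induction x using QuotientGroup.induction_on with
    | H y =>
      have h1 : y ∈ N := hx
      exact (QuotientGroup.eq_one_iff y).mpr (hNF h1)
  haveI : Group.IsNilpotent (fittingSubgroup H) := isNilpotent_fittingSubgroup
  rw [hFtop] at this
  exact Group.isNilpotent_top.mp this

/-- An invariant Sylow subgroup for an automorphism of `2`-power order. -/
theorem exists_sigma_sylow {W : Type*} [Group W] [Finite W] {s n : ℕ} [Fact s.Prime] (γ : MulAut W)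
    (hγ : γ ^ (2 ^ n) = 1) (h2 : ¬ 2 ∣ Nat.card W) : ∃ P : Sylow s W, ∀ y ∈ (P : Subgroup W), γ y ∈ (P : Subgroup W) := by
  haveI : Fact (2 : ℕ).Prime := ⟨Nat.prime_two⟩
  let A : Subgroup (MulAut W) := Subgroup.zpowers γ
  have hA : IsPGroup 2 A := by
    rintro ⟨x, i, rfl⟩
    refine ⟨n, ?_⟩
    apply Subtype.ext
    show ((γ ^ i) ^ (2 ^ n) : MulAut W) = 1
    rw [← zpow_natCast, ← zpow_mul, mul_comm, zpow_mul, zpow_natCast, hγ, one_zpow]
  letI : MulDistribMulAction A W := MulDistribMulAction.compHom W A.subtype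
  have hsm : ∀ (x : A) (y : W), x • y = (x : MulAut W) y := fun x y => rfl
  have hc : ¬ 2 ∣ Nat.card (Sylow s W) := by
    intro h
    apply h2
    have h1 := (Sylow.card_dvd_index (default : Sylow s W))
    exact h.trans (h1.trans (Subgroup.index_dvd_card _))
  haveI : Finite A := inferInstance
  obtain ⟨Y, hY⟩ := hA.nonempty_fixed_point_of_prime_not_dvd_card (Sylow s W) hc
  refine ⟨Y, fun y hy => ?_⟩
  let x : A := ⟨γ, Subgroup.mem_zpowers γ⟩
  have h1 : x • Y = Y := (MulAction.mem_fixedPoints.1 hY) x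
  have h2 : x • y ∈ ((x • Y : Sylow s W) : Subgroup W) := by
    exact Subgroup.smul_mem_pointwise_smul y x (Y : Subgroup W) hy
  rw [h1] at h2
  exact h2

/-- A Sylow subgroup surjects onto a quotient which is a `p`-group. -/
theorem sylow_surj {W W' : Type*} [Group W] [Finite W] [Group W'] {s : ℕ} [Fact s.Prime] (f : W →* W')
    (hf : Function.Surjective f) (hW' : IsPGroup s W') (P : Sylow s W) (x : W') :
    ∃ w ∈ (P : Subgroup W), f w = x := by
  let P' : Sylow s W' := P.mapSurjective hf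
  have h1 : (⊤ : Subgroup W') = P' := P'.is_maximal' (hW'.to_subgroup ⊤) le_top
  have h2 : x ∈ (P' : Subgroup W') := by
    rw [← h1]
    exact Subgroup.mem_top x
  rw [Sylow.coe_mapSurjective] at h2
  obtain ⟨w, hw, rfl⟩ := h2
  exact ⟨w, hw, rfl⟩

end General

section HLevel

variable {H : Type*} [Group H] [Finite H] {M : Type*} [AddCommGroup M] [Finite M]

/-- The case of order four: `σ²` is trivial on a faithful quotient. -/
theorem sigma_trivial_n2 (hsolv : Group.IsSolvable H) {q : ℕ} [Fact q.Prime] [Module (ZMod q) M]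
    (hq : q.Prime) (hq2 : q ≠ 2)
    (ρ : H →* End ℤ M) (hρ : Function.Injective ρ) (σ : MulAut H) (hσ : σ ^ (2 ^ 2) = 1)
    (hfpf : ∀ s, σ s = s → s = 1) (τ : End ℤ M) (hτρ : ∀ s, τ * ρ s = ρ (σ s) * τ)
    (hτ : τ ^ (2 ^ 2) = 1) (hnorm : ∀ v, ∑ i ∈ Finset.range (2 ^ 2), (τ ^ i) v = 0)
    (hOq : pCore q H = ⊥) : σ ^ 2 = 1 := by
  classical
  haveI := hsolv
  have hcop := coprime_of_fpf_pow Nat.prime_two σ hσ hfpf
  have hnop : ∀ c : H, c ^ 2 = 1 → c = 1 := by
    intro c hc
    have h1 := orderOf_dvd_of_pow_eq_one hc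
    have h2 := orderOf_dvd_natCard c
    exact orderOf_eq_one_iff.mp (Nat.eq_one_of_dvd_coprimes hcop h1 h2)
  have hσ₀p : (σ ^ 2) ^ 2 = 1 := by
    rw [← pow_mul]
    exact hσ
  have hcore : ∀ (r : ℕ) [Fact r.Prime], ∀ x ∈ pCore r H, (σ ^ 2) x = x := by
    intro r _ x hx
    have hr : r.Prime := Fact.out
    by_cases hrq : r = q
    · subst hrq
      rw [hOq] at hx
      rw [Subgroup.mem_bot.mp hx, map_one]
    by_cases hr2 : r = 2
    · subst hr2
      obtain ⟨k, hk⟩ := isPGroup_pCore (G := H) 2 ⟨x, hx⟩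
      have hk' : x ^ 2 ^ k = 1 := congrArg Subtype.val hk
      have h1 := orderOf_dvd_of_pow_eq_one hk'
      have h2 := orderOf_dvd_natCard x
      have h3 : Nat.Coprime (2 ^ k) (Nat.card H) := Nat.Coprime.pow_left _ hcop
      have h4 := orderOf_eq_one_iff.mp (Nat.eq_one_of_dvd_coprimes h3 h1 h2)
      rw [h4, map_one]
    refine sigma2_sub hq hr hq2 hr2 hrq σ hσ hfpf ρ hρ τ hτρ hτ hnorm _ (pCore r H) rfl (isPGroup_pCore r) ?_ x hx
    intro t ht
    exact (Subgroup.characteristic_iff_le_comap.mp (instPCoreCharacteristic r)) σ ht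
  refine trivial_of_fitting (σ ^ 2) hσ₀p hnop ?_
  let Fx : Subgroup H :=
    { carrier := {x | (σ ^ 2) x = x}
      mul_mem' := by
        intro a b ha hb
        show (σ ^ 2) (a * b) = a * b
        rw [map_mul, show (σ ^ 2) a = a from ha, show (σ ^ 2) b = b from hb]
      one_mem' := map_one _
      inv_mem' := by
        intro a ha
        show (σ ^ 2) a⁻¹ = a⁻¹
        rw [map_inv, show (σ ^ 2) a = a from ha] }
  have h1 : fittingSubgroup H ≤ Fx := by
    rw [fittingSubgroup_eq_iSup_pCore]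
    refine iSup_le fun r => ?_
    haveI : Fact (r : ℕ).Prime := ⟨r.2⟩
    exact fun x hx => hcore r x hx
  exact fun x hx => h1 hx

/-- The twisted elements act on `O_r(H)` as an `r`-group does. -/
theorem exists_Lr (hsolv : Group.IsSolvable H) {q n : ℕ} [Fact q.Prime] [Module (ZMod q) M]
    (hq : q.Prime) (hq2 : q ≠ 2) (hn : 1 ≤ n)
    (ρ : H →* End ℤ M) (hρ : Function.Injective ρ) (σ : MulAut H) (hσ : σ ^ (2 ^ n) = 1)
    (hfpf : ∀ s, σ s = s → s = 1) (τ : End ℤ M) (hτρ : ∀ s, τ * ρ s = ρ (σ s) * τ)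
    (hτ : τ ^ (2 ^ n) = 1) (hnorm : ∀ v, ∑ i ∈ Finset.range (2 ^ n), (τ ^ i) v = 0)
    (hOq : pCore q H = ⊥) (r : ℕ) [Fact r.Prime] :
    ∃ L : Subgroup H, L.Normal ∧ (∀ h, (σ ^ (2 ^ (n - 1))) h * h⁻¹ ∈ L) ∧
      ∀ (s : ℕ) [Fact s.Prime], s ≠ r → ∀ z ∈ L, (∃ k, z ^ s ^ k = 1) → ∀ t ∈ pCore r H, z * t = t * z := by
  classical
  haveI := hsolv
  have hr : r.Prime := Fact.out
  have hpos : 0 < 2 ^ n := by positivity
  have hcop := coprime_of_fpf_pow Nat.prime_two σ hσ hfpf
  have hnop : ∀ c : H, c ^ 2 = 1 → c = 1 := by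
    intro c hc
    have h1 := orderOf_dvd_of_pow_eq_one hc
    have h2 := orderOf_dvd_natCard c
    exact orderOf_eq_one_iff.mp (Nat.eq_one_of_dvd_coprimes hcop h1 h2)
  let C : Subgroup H := Subgroup.centralizer (pCore r H : Set H)
  haveI hCn : C.Normal := Subgroup.normal_centralizer
  let L : Subgroup H := (pCore r (H ⧸ C)).comap (QuotientGroup.mk' C)
  have hLprop : ∀ (s : ℕ) [Fact s.Prime], s ≠ r → ∀ z ∈ L, (∃ k, z ^ s ^ k = 1) → ∀ t ∈ pCore r H, z * t = t * z := by
    intro s _ hsr z hz hk t ht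
    obtain ⟨k, hk⟩ := hk
    have hs : s.Prime := Fact.out
    have hz' : (z : H ⧸ C) ∈ pCore r (H ⧸ C) := hz
    obtain ⟨l, hl⟩ := isPGroup_pCore (G := H ⧸ C) r ⟨(z : H ⧸ C), hz'⟩
    have hl' : (z : H ⧸ C) ^ r ^ l = 1 := congrArg Subtype.val hl
    have hk' : (z : H ⧸ C) ^ s ^ k = 1 := by
      rw [← QuotientGroup.mk_pow, hk]
      rfl
    have h1 : (z : H ⧸ C) = 1 := by
      refine eq_one_of_pow_of_pow ?_ hk' hl'
      exact Nat.Coprime.pow _ _ ((Nat.coprime_primes hs hr).mpr hsr)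
    have h2 : z ∈ C := (QuotientGroup.eq_one_iff z).mp h1
    exact (Subgroup.mem_centralizer_iff.mp h2 t ht).symm
  refine ⟨L, (pCore_normal (G := H ⧸ C) r).comap _, ?_, hLprop⟩
  -- trivial cases
  have htriv : pCore r H = ⊥ → ∀ h, (σ ^ (2 ^ (n - 1))) h * h⁻¹ ∈ L := by
    intro h0 h
    have h1 : ((σ ^ (2 ^ (n - 1))) h * h⁻¹) ∈ C := by
      show _ ∈ Subgroup.centralizer (pCore r H : Set H)
      rw [h0]
      rw [Subgroup.mem_centralizer_iff]
      intro x hx
      have h2 : x = 1 := Subgroup.mem_bot.mp hx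
      rw [h2, one_mul, mul_one]
    show (((σ ^ (2 ^ (n - 1))) h * h⁻¹ : H) : H ⧸ C) ∈ pCore r (H ⧸ C)
    rw [(QuotientGroup.eq_one_iff _).mpr h1]
    exact Subgroup.one_mem _
  by_cases hrq : r = q
  · subst hrq
    exact htriv hOq
  by_cases hr2 : r = 2
  · subst hr2
    apply htriv
    exact pCore_eq_bot_of_coprime 2 hcop.symm
  -- notation
  set σ₀ : MulAut H := σ ^ (2 ^ (n - 1)) with hσ₀
  have hσ₀sq : σ₀ ^ 2 = 1 := by
    rw [hσ₀, ← pow_mul, ← pow_succ]
    have : n - 1 + 1 = n := by omega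
    rw [this, hσ]
  have hσ₀sq' : ∀ a, σ₀ (σ₀ a) = a := by
    intro a
    show (σ₀ ^ 2) a = a
    rw [hσ₀sq]
    rfl
  have hcommσ : ∀ a, σ (σ₀ a) = σ₀ (σ a) := by
    intro a
    show (σ * σ₀) a = (σ₀ * σ) a
    rw [hσ₀, ← pow_succ', pow_succ]
  have hRchar : ∀ (f : MulAut H) c, c ∈ pCore r H → f c ∈ pCore r H := fun f c hc =>
    (Subgroup.characteristic_iff_le_comap.mp (instPCoreCharacteristic r)) f hc
  have hCσ : ∀ c, c ∈ C → σ c ∈ C := by
    intro c hc
    rw [Subgroup.mem_centralizer_iff] at hc ⊢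
    intro x hx
    have h2 : σ⁻¹ x ∈ pCore r H := hRchar _ _ hx
    have h3 := hc _ h2
    have h4 : σ (σ⁻¹ x) = x := by
      show (σ * σ⁻¹) x = x
      rw [mul_inv_cancel]
      rfl
    have h5 := congrArg σ h3
    rw [map_mul, map_mul, h4] at h5
    exact h5
  have hCinv : ∀ c, c ∈ C ↔ σ c ∈ C := inv_iff_of_pow_eq_one σ C hCσ hpos hσ
  let σ₁ : MulAut (H ⧸ C) := autQuot σ C hCinv
  have hσ₁ : σ₁ ^ (2 ^ n) = 1 := by
    ext x
    induction x using QuotientGroup.induction_on with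
    | H y =>
      rw [autQuot_pow_mk, hσ]
      rfl
  let O : Subgroup (H ⧸ C) := pCore r (H ⧸ C)
  have hOinv : ∀ c, c ∈ O ↔ σ₁ c ∈ O := by
    refine inv_iff_of_pow_eq_one σ₁ O ?_ hpos hσ₁
    intro c hc
    exact (Subgroup.characteristic_iff_le_comap.mp (instPCoreCharacteristic r)) σ₁ hc
  let σ₂ : MulAut ((H ⧸ C) ⧸ O) := autQuot σ₁ O hOinv
  let φ : H →* (H ⧸ C) ⧸ O := (QuotientGroup.mk' O).comp (QuotientGroup.mk' C)
  have hφs : Function.Surjective φ :=
    (QuotientGroup.mk'_surjective O).comp (QuotientGroup.mk'_surjective C)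
  have hφσ : ∀ (j : ℕ) (h : H), (σ₂ ^ j) (φ h) = φ ((σ ^ j) h) := by
    intro j h
    show (σ₂ ^ j) (((h : H ⧸ C) : H ⧸ C) : (H ⧸ C) ⧸ O) = _
    rw [autQuot_pow_mk]
    show ((((σ₁ ^ j) (h : H ⧸ C) : H ⧸ C)) : (H ⧸ C) ⧸ O) = _
    rw [autQuot_pow_mk]
    rfl
  have hQ2odd : ¬ 2 ∣ Nat.card ((H ⧸ C) ⧸ O) := by
    intro h
    have h1 : Nat.card ((H ⧸ C) ⧸ O) ∣ Nat.card H :=
      (Subgroup.card_quotient_dvd_card O).trans (Subgroup.card_quotient_dvd_card C)
    have h3 := h.trans h1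
    exact Nat.prime_two.one_lt.ne' (Nat.Coprime.eq_one_of_dvd hcop h3)
  -- the cores
  have hcoreQ : ∀ (s : ℕ) [Fact s.Prime], ∀ x ∈ pCore s ((H ⧸ C) ⧸ O), (σ₂ ^ (2 ^ (n - 1))) x = x := by
    intro s _ x hx
    have hs : s.Prime := Fact.out
    by_cases hsr : s = r
    · subst hsr
      have h1 : pCore s ((H ⧸ C) ⧸ O) = ⊥ := pCore_quotient_pCore s
      rw [h1] at hx
      rw [Subgroup.mem_bot.mp hx, map_one]
    by_cases hs2 : s = 2
    · subst hs2
      have h1 : pCore 2 ((H ⧸ C) ⧸ O) = ⊥ :=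
        pCore_eq_bot_of_coprime 2 ((Nat.Prime.coprime_iff_not_dvd Nat.prime_two).mpr hQ2odd).symm
      rw [h1] at hx
      rw [Subgroup.mem_bot.mp hx, map_one]
    let W : Subgroup H := (pCore s ((H ⧸ C) ⧸ O)).comap φ
    have hWσ : ∀ w, w ∈ W → σ w ∈ W := by
      intro w hw
      show φ (σ w) ∈ pCore s ((H ⧸ C) ⧸ O)
      have h1 := hφσ 1 w
      rw [pow_one, pow_one] at h1
      rw [← h1]
      exact (Subgroup.characteristic_iff_le_comap.mp (instPCoreCharacteristic s)) σ₂ hw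
    have hWinv : ∀ w, w ∈ W ↔ σ w ∈ W := inv_iff_of_pow_eq_one σ W hWσ hpos hσ
    have hW2 : ¬ 2 ∣ Nat.card W := by
      intro h
      have h3 := h.trans (Subgroup.card_subgroup_dvd_card W)
      exact Nat.prime_two.one_lt.ne' (Nat.Coprime.eq_one_of_dvd hcop h3)
    obtain ⟨P, hP⟩ := exists_sigma_sylow (s := s) (n := n) (restrictAut σ W hWinv)
      (by
        ext a
        rw [restrictAut_pow_coe, hσ]
        rfl) hW2
    let YM : Subgroup H := (P : Subgroup W).map W.subtype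
    have hYMs : IsPGroup s YM := P.isPGroup'.map W.subtype
    have hYMσ : ∀ y ∈ YM, σ y ∈ YM := by
      rintro _ ⟨w, hw, rfl⟩
      exact ⟨restrictAut σ W hWinv w, hP w hw, rfl⟩
    have hYMσ₀ : ∀ y ∈ YM, σ₀ y ∈ YM := by
      have h1 : ∀ (j : ℕ), ∀ y ∈ YM, (σ ^ j) y ∈ YM := by
        intro j
        induction j with
        | zero => intro y hy; exact hy
        | succ j ih =>
          intro y hy
          rw [pow_succ']
          exact hYMσ _ (ih y hy)
      exact h1 _
    let A : Set H := {w | ∃ u ∈ YM, w = σ₀ u * u⁻¹}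
    have hA : ∀ w ∈ A, (σ ^ (2 ^ (n - 1))) w = w⁻¹ := by
      rintro _ ⟨u, hu, rfl⟩
      rw [← hσ₀, map_mul, map_inv, hσ₀sq']
      group
    let Y : Subgroup H := Subgroup.closure A
    have hYYM : Y ≤ YM := by
      refine (Subgroup.closure_le _).mpr ?_
      rintro _ ⟨u, hu, rfl⟩
      exact YM.mul_mem (hYMσ₀ u hu) (YM.inv_mem hu)
    have hYs : IsPGroup s Y := hYMs.to_le hYYM
    have hYσ : ∀ y ∈ Y, σ y ∈ Y := by
      intro y hy
      induction hy using Subgroup.closure_induction with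
      | mem y hy =>
        obtain ⟨u, hu, rfl⟩ := hy
        apply Subgroup.subset_closure
        refine ⟨σ u, hYMσ u hu, ?_⟩
        rw [map_mul, map_inv, hcommσ]
      | one => rw [map_one]; exact Y.one_mem
      | mul a c _ _ ha hc => rw [map_mul]; exact Y.mul_mem ha hc
      | inv a _ ha => rw [map_inv]; exact Y.inv_mem ha
    have hcent := centralize2 (s := s) hq hr hs hq2 hr2 hs2 hrq (Ne.symm hsr) hn σ hσ hfpf ρ hρ τ hτρ hτ hnorm A hA Y rfl hYs hYσ
      _ (pCore r H) rfl (isPGroup_pCore r) (fun t ht => hRchar σ t ht)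
      (fun y _ c hc => (pCore_normal (G := H) r).conj_mem c hc y)
    have hYC : ∀ u ∈ YM, φ (σ₀ u) = φ u := by
      intro u hu
      have h1 : σ₀ u * u⁻¹ ∈ C := by
        rw [Subgroup.mem_centralizer_iff]
        intro t ht
        have h2 := hcent _ (Subgroup.subset_closure ⟨u, hu, rfl⟩) t ht
        have h3 : (σ₀ u * u⁻¹) * t = t * (σ₀ u * u⁻¹) := by
          calc (σ₀ u * u⁻¹) * t = (σ₀ u * u⁻¹) * t * (σ₀ u * u⁻¹)⁻¹ * (σ₀ u * u⁻¹) := by group
            _ = t * (σ₀ u * u⁻¹) := by rw [h2]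
        exact h3.symm
      have h2 : φ (σ₀ u * u⁻¹) = 1 := by
        show (((((σ₀ u * u⁻¹ : H) : H ⧸ C)) : H ⧸ C) : (H ⧸ C) ⧸ O) = 1
        rw [(QuotientGroup.eq_one_iff _).mpr h1]
        rfl
      rw [map_mul, map_inv] at h2
      exact mul_inv_eq_one.mp h2
    -- surjectivity
    let f : W →* pCore s ((H ⧸ C) ⧸ O) := (φ.comp W.subtype).codRestrict _ (fun w => w.2)
    have hfs : Function.Surjective f := by
      rintro ⟨y, hy⟩
      obtain ⟨h, rfl⟩ := hφs y
      exact ⟨⟨h, hy⟩, rfl⟩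
    obtain ⟨w, hw, hwx⟩ := sylow_surj f hfs (isPGroup_pCore s) P ⟨x, hx⟩
    have hx' : φ (w : H) = x := congrArg Subtype.val hwx
    rw [← hx', hφσ, ← hσ₀]
    exact hYC _ ⟨w, hw, rfl⟩
  have hFQ : ∀ x ∈ fittingSubgroup ((H ⧸ C) ⧸ O), (σ₂ ^ (2 ^ (n - 1))) x = x := by
    let Fx : Subgroup ((H ⧸ C) ⧸ O) :=
      { carrier := {x | (σ₂ ^ (2 ^ (n - 1))) x = x}
        mul_mem' := by
          intro a b ha hb
          show (σ₂ ^ (2 ^ (n - 1))) (a * b) = a * b
          rw [map_mul, show (σ₂ ^ (2 ^ (n - 1))) a = a from ha, show (σ₂ ^ (2 ^ (n - 1))) b = b from hb]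
        one_mem' := map_one _
        inv_mem' := by
          intro a ha
          show (σ₂ ^ (2 ^ (n - 1))) a⁻¹ = a⁻¹
          rw [map_inv, show (σ₂ ^ (2 ^ (n - 1))) a = a from ha] }
    have h1 : fittingSubgroup ((H ⧸ C) ⧸ O) ≤ Fx := by
      rw [fittingSubgroup_eq_iSup_pCore]
      refine iSup_le fun r => ?_
      haveI : Fact (r : ℕ).Prime := ⟨r.2⟩
      exact fun x hx => hcoreQ r x hx
    exact fun x hx => h1 hx
  haveI : Group.IsSolvable ((H ⧸ C) ⧸ O) := inferInstance
  have hσ₂sq : (σ₂ ^ (2 ^ (n - 1))) ^ 2 = 1 := by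
    rw [← pow_mul, ← pow_succ]
    have : n - 1 + 1 = n := by omega
    rw [this]
    ext x
    obtain ⟨h, rfl⟩ := hφs x
    rw [hφσ, hσ]
    rfl
  have hσ₂triv := trivial_of_fitting (σ₂ ^ (2 ^ (n - 1))) hσ₂sq
    (by
      intro c hc
      have h1 := orderOf_dvd_of_pow_eq_one hc
      have h2 := orderOf_dvd_natCard c
      have h3 : Nat.Coprime 2 (Nat.card ((H ⧸ C) ⧸ O)) := (Nat.Prime.coprime_iff_not_dvd Nat.prime_two).mpr hQ2odd
      exact orderOf_eq_one_iff.mp (Nat.eq_one_of_dvd_coprimes h3 h1 h2))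
    hFQ
  intro h
  have h1 : φ (σ₀ h) = φ h := by
    rw [hσ₀, ← hφσ, hσ₂triv]
    rfl
  have h2 : φ (σ₀ h * h⁻¹) = 1 := by
    rw [map_mul, map_inv, h1, mul_inv_cancel]
  have h3 : (((σ₀ h * h⁻¹ : H) : H ⧸ C)) ∈ O := (QuotientGroup.eq_one_iff _).mp h2
  exact h3

/-- **The faithful case**: the twisted elements lie in the Fitting subgroup. -/
theorem H_level (hsolv : Group.IsSolvable H) {q n : ℕ} [Fact q.Prime] [Module (ZMod q) M]
    (hq : q.Prime) (hq2 : q ≠ 2) (hn : 1 ≤ n)
    (ρ : H →* End ℤ M) (hρ : Function.Injective ρ) (σ : MulAut H) (hσ : σ ^ (2 ^ n) = 1)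
    (hfpf : ∀ s, σ s = s → s = 1) (τ : End ℤ M) (hτρ : ∀ s, τ * ρ s = ρ (σ s) * τ)
    (hτ : τ ^ (2 ^ n) = 1) (hnorm : ∀ v, ∑ i ∈ Finset.range (2 ^ n), (τ ^ i) v = 0)
    (hOq : pCore q H = ⊥) (h : H) : (σ ^ (2 ^ (n - 1))) h * h⁻¹ ∈ fittingSubgroup H := by
  classical
  haveI := hsolv
  have hL := fun r : Nat.Primes => by
    haveI : Fact (r : ℕ).Prime := ⟨r.2⟩
    exact exists_Lr hsolv hq hq2 hn ρ hρ σ hσ hfpf τ hτρ hτ hnorm hOq (r : ℕ)
  choose L hLn hLt hLc using hL
  let K : Subgroup H := ⨅ r, L r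
  haveI hKn : K.Normal := Subgroup.normal_iInf_normal hLn
  have hKt : ∀ h, (σ ^ (2 ^ (n - 1))) h * h⁻¹ ∈ K := fun h => Subgroup.mem_iInf.mpr fun r => hLt r h
  have hKnil : Group.IsNilpotent K := by
    apply nilpotent_of_commute
    intro s r _ _ hrs z hz t ht
    have hr : r.Prime := Fact.out
    -- the core of `K`
    have hmapn : ((pCore r K).map K.subtype).Normal := by
      refine ⟨?_⟩
      rintro _ ⟨x, hx, rfl⟩ g
      let f : MulAut K := MulAut.conjNormal g
      refine ⟨f x, (Subgroup.characteristic_iff_le_comap.mp (instPCoreCharacteristic r)) f hx, ?_⟩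
      simp [f, MulAut.conjNormal_apply]
    have hmapp : IsPGroup r ((pCore r K).map K.subtype) := (isPGroup_pCore r).map K.subtype
    have htH : (t : H) ∈ pCore r H := le_pCore hmapn hmapp ⟨t, ht, rfl⟩
    have hzL : (z : H) ∈ L ⟨r, hr⟩ := Subgroup.mem_iInf.mp z.2 ⟨r, hr⟩
    obtain ⟨k, hk⟩ := hz
    have h1 := hLc ⟨r, hr⟩ s (Ne.symm hrs) (z : H) hzL ⟨k, congrArg Subtype.val hk⟩ (t : H) htH
    exact Subtype.ext h1
  exact le_fittingSubgroup hKn hKnil (hKt h)

end HLevel

section GLevel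

/-- The set-up for a minimal invariant normal subgroup. -/
theorem exists_setup {G : Type u} [Group G] [Finite G] [Group.IsSolvable G] (hbot : (⊥ : Subgroup G) ≠ ⊤) {n : ℕ}
    (σ : MulAut G) (hσ : σ ^ (2 ^ n) = 1) (hfpf : ∀ g, σ g = g → g = 1) :
    ∃ (V : Subgroup G) (_ : V.Normal) (q : ℕ) (_ : Fact q.Prime) (M : Type u) (_ : AddCommGroup M) (_ : Finite M)
      (_ : Module (ZMod q) M) (ρ : G →* End ℤ M) (τ : End ℤ M),
      V ≠ ⊥ ∧ (∀ s ∈ V, σ s ∈ V) ∧ q ≠ 2 ∧ (∀ g, τ * ρ g = ρ (σ g) * τ) ∧ τ ^ (2 ^ n) = 1 ∧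
      (∀ v, ∑ i ∈ Finset.range (2 ^ n), (τ ^ i) v = 0) ∧ (∀ g, g ∈ ρ.ker ↔ σ g ∈ ρ.ker) ∧
      pCore q (G ⧸ ρ.ker) = ⊥ ∧ (∀ y ∈ ρ.ker, ∀ v ∈ V, y * v = v * y) := by
  classical
  have hp := Nat.prime_two
  have hpnpos : 0 < 2 ^ n := pow_pos hp.pos n
  let 𝒱 : Set (Subgroup G) := {V | V ≠ ⊥ ∧ V.Normal ∧ ∀ s ∈ V, σ s ∈ V}
  have htop : (⊤ : Subgroup G) ∈ 𝒱 := ⟨Ne.symm hbot, inferInstance, fun _ _ => trivial⟩
  obtain ⟨V, hVmin⟩ := (Set.toFinite 𝒱).exists_minimal ⟨⊤, htop⟩
  obtain ⟨hV0, hVn, hVσ⟩ := hVmin.1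
  have hmin : ∀ S : Subgroup G, S ≠ ⊥ → S.Normal → (∀ s ∈ S, σ s ∈ S) → S ≤ V → S = V :=
    fun S h1 h2 h3 h4 => le_antisymm h4 (hVmin.2 ⟨h1, h2, h3⟩ h4)
  haveI := hVn
  have hVinv : ∀ s, s ∈ V ↔ σ s ∈ V := inv_iff_of_pow_eq_one σ V hVσ hpnpos hσ
  -- `V` is abelian
  have hVab : ∀ u ∈ V, ∀ v ∈ V, u * v = v * u := by
    have h0 : ⁅V, V⁆ = ⊥ := by
      by_contra hne
      have hVmap : V.map σ.toMonoidHom ≤ V := by
        rintro _ ⟨v, hv, rfl⟩
        exact hVσ v hv
      have h2 : (⁅V, V⁆).map σ.toMonoidHom ≤ ⁅V, V⁆ := by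
        rw [Subgroup.map_commutator]
        exact Subgroup.commutator_mono hVmap hVmap
      have h1 : ⁅V, V⁆ = V := hmin _ hne inferInstance
        (fun s hs => h2 ⟨s, hs, rfl⟩) (Subgroup.commutator_le_left V V)
      haveI : Nontrivial V := (Subgroup.nontrivial_iff_ne_bot V).mpr hV0
      have h3 := Group.IsSolvable.commutator_lt_top_of_nontrivial (G := V)
      apply h3.ne
      have h4 : (commutator V).map V.subtype = ⁅V, V⁆ := by
        rw [commutator_def, Subgroup.map_commutator, ← MonoidHom.range_eq_map, Subgroup.range_subtype]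
      rw [h1] at h4
      apply Subgroup.map_injective V.subtype_injective
      rw [h4, ← MonoidHom.range_eq_map, Subgroup.range_subtype]
    have h1 := Subgroup.commutator_eq_bot_iff_le_centralizer.mp h0
    intro u hu v hv
    exact ((Subgroup.mem_centralizer_iff.mp (h1 hu)) v hv).symm
  -- `V` is elementary abelian
  have hVnt : Nontrivial V := (Subgroup.nontrivial_iff_ne_bot V).mpr hV0
  obtain ⟨q, hq, hqV⟩ := Nat.exists_prime_and_dvd (Finite.one_lt_card (α := V)).ne'
  haveI : Fact q.Prime := ⟨hq⟩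
  obtain ⟨x, hx⟩ := exists_prime_orderOf_dvd_card' q hqV
  let W : Subgroup G :=
    { carrier := {v | v ∈ V ∧ v ^ q = 1}
      mul_mem' := by
        rintro a b ⟨ha, ha'⟩ ⟨hb, hb'⟩
        refine ⟨V.mul_mem ha hb, ?_⟩
        have : Commute a b := hVab a ha b hb
        rw [this.mul_pow, ha', hb', one_mul]
      one_mem' := ⟨V.one_mem, one_pow _⟩
      inv_mem' := by
        rintro a ⟨ha, ha'⟩
        exact ⟨V.inv_mem ha, by rw [inv_pow, ha', inv_one]⟩ }
  have hW : W = V := by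
    refine hmin W ?_ ?_ ?_ (fun v hv => hv.1)
    · intro hb
      have h1 : (x : G) ∈ W := ⟨x.2, by
        have := pow_orderOf_eq_one x
        rw [hx] at this
        exact congrArg Subtype.val this⟩
      rw [hb] at h1
      have h2 : (x : G) = 1 := Subgroup.mem_bot.mp h1
      have h3 : x = 1 := Subtype.ext h2
      rw [h3, orderOf_one] at hx
      exact hq.one_lt.ne hx
    · refine ⟨fun v hv g => ⟨hVn.conj_mem v hv.1 g, ?_⟩⟩
      rw [conj_pow, hv.2, mul_one, mul_inv_cancel]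
    · intro s hs
      exact ⟨hVσ s hs.1, by rw [← map_pow, hs.2, map_one]⟩
  have hVq : ∀ v ∈ V, v ^ q = 1 := by
    intro v hv
    have : v ∈ W := hW ▸ hv
    exact this.2
  -- the module
  obtain ⟨M, _, ι', ρ, τ, h1, h2, h3, h4, h5, h6⟩ := exists_module_aut V hVab σ hVσ
  have hι0 : ι' 0 = 1 := by
    have := h1 0 0
    rw [add_zero] at this
    exact (mul_eq_left.mp this.symm)
  have hιn : ∀ (k : ℕ) (v : M), ι' (k • v) = ι' v ^ k := by
    intro k v
    induction k with
    | zero => simp [hι0]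
    | succ k ih => rw [succ_nsmul, h1, ih, pow_succ]
  have hM : ∀ v : M, q • v = 0 := by
    intro v
    apply h4
    rw [hιn, hVq _ (h2 v), hι0]
  haveI : Finite M := Finite.of_injective (fun v => (⟨ι' v, h2 v⟩ : V)) (by
    intro v w h
    exact h4 v w (congrArg Subtype.val h))
  have hτj : ∀ (j : ℕ) (v : M), ι' ((τ ^ j) v) = (σ ^ j) (ι' v) := by
    intro j v
    induction j with
    | zero => rfl
    | succ j ih =>
      rw [pow_succ', pow_succ', Module.End.mul_apply, h6, ih]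
      rfl
  have hτ : τ ^ (2 ^ n) = 1 := by
    ext v
    apply h4
    rw [hτj, hσ]
    rfl
  have hτρ : ∀ g, τ * ρ g = ρ (σ g) * τ := by
    intro g
    ext v
    apply h4
    rw [Module.End.mul_apply, Module.End.mul_apply, h6, h5, h5, h6, map_mul, map_mul, map_inv]
  have hnorm : ∀ v, ∑ i ∈ Finset.range (2 ^ n), (τ ^ i) v = 0 := by
    intro v
    set w := ∑ i ∈ Finset.range (2 ^ n), (τ ^ i) v with hw
    have hτw : τ w = w := by
      rw [hw, map_sum]
      have h7 : ∀ i, τ ((τ ^ i) v) = (τ ^ (i + 1)) v := by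
        intro i
        rw [pow_succ']; rfl
      simp only [h7]
      have h8 := Finset.sum_range_succ (fun i => (τ ^ i) v) (2 ^ n)
      have h9 := Finset.sum_range_succ' (fun i => (τ ^ i) v) (2 ^ n)
      rw [h8] at h9
      simp only [hτ, pow_zero, Module.End.one_apply] at h9
      exact (add_right_cancel h9).symm
    have h7 : σ (ι' w) = ι' w := by rw [← h6, hτw]
    have h8 := hfpf _ h7
    exact h4 _ _ (h8.trans hι0.symm)
  have hVdvd : q ∣ Nat.card G := hqV.trans (Subgroup.card_subgroup_dvd_card V)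
  have hcop := coprime_of_fpf_pow hp σ hσ hfpf
  have hq2 : q ≠ 2 := by
    rintro rfl
    exact hp.one_lt.ne' (Nat.Coprime.eq_one_of_dvd hcop hVdvd)
  -- the faithful quotient
  have hτsurj : ∀ w, ∃ v, τ v = w := by
    intro w
    refine ⟨(τ ^ (2 ^ n - 1)) w, ?_⟩
    rw [← Module.End.mul_apply, ← pow_succ', Nat.sub_add_cancel hpnpos, hτ]
    rfl
  have hker : ∀ g, g ∈ ρ.ker ↔ σ g ∈ ρ.ker := by
    refine inv_iff_of_pow_eq_one σ _ ?_ hpnpos hσ
    intro g hg
    rw [MonoidHom.mem_ker] at hg ⊢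
    ext w
    obtain ⟨v, rfl⟩ := hτsurj w
    have h7 := congrArg (fun y : End ℤ M => y v) (hτρ g)
    simp only [Module.End.mul_apply, hg, Module.End.one_apply] at h7
    exact h7.symm
  let ρH : (G ⧸ ρ.ker) →* End ℤ M := QuotientGroup.lift ρ.ker ρ le_rfl
  have hρHmk : ∀ y : G, ρH (y : G ⧸ ρ.ker) = ρ y := fun y => rfl
  have hρH : Function.Injective ρH := by
    intro a b
    induction a using QuotientGroup.induction_on with
    | H a =>
      induction b using QuotientGroup.induction_on with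
      | H b =>
        intro h
        rw [hρHmk, hρHmk] at h
        rw [QuotientGroup.eq, MonoidHom.mem_ker, map_mul, ← h, ← map_mul, inv_mul_cancel, map_one]
  let σH : MulAut (G ⧸ ρ.ker) := autQuot σ ρ.ker hker
  have hτρH : ∀ x, τ * ρH x = ρH (σH x) * τ := by
    intro x
    induction x using QuotientGroup.induction_on with
    | H y => exact hτρ y
  have hOq : pCore q (G ⧸ ρ.ker) = ⊥ := by
    let Q : Subgroup (G ⧸ ρ.ker) := pCore q (G ⧸ ρ.ker)
    have hQq : IsPGroup q Q := isPGroup_pCore q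
    have hvne : ∃ v₁ : M, v₁ ≠ 0 := by
      obtain ⟨v₁, hv₁⟩ := h3 _ x.2
      refine ⟨v₁, ?_⟩
      rintro rfl
      rw [hι0] at hv₁
      have : x = 1 := Subtype.ext hv₁.symm
      rw [this, orderOf_one] at hx
      exact hq.one_lt.ne hx
    have hqM : q ∣ Nat.card M := by
      obtain ⟨v₁, hv₁⟩ := hvne
      have h7 : addOrderOf v₁ = q := addOrderOf_eq_prime (hM v₁) hv₁
      rw [← h7]
      exact addOrderOf_dvd_natCard v₁
    obtain ⟨v₀, hv₀, hv₀fix⟩ := exists_fixed_vector hQq (ρH.comp Q.subtype) hqM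
    let Ŵ : Subgroup G :=
      { carrier := {g | ∃ v, ι' v = g ∧ ∀ y ∈ Q, ρH y v = v}
        mul_mem' := by
          rintro a b ⟨v, rfl, hv⟩ ⟨w, rfl, hw⟩
          refine ⟨v + w, h1 v w, fun y hy => ?_⟩
          rw [map_add, hv y hy, hw y hy]
        one_mem' := ⟨0, hι0, fun y _ => map_zero _⟩
        inv_mem' := by
          rintro a ⟨v, rfl, hv⟩
          refine ⟨-v, ?_, fun y hy => ?_⟩
          · have h7 := h1 v (-v)
            rw [add_neg_cancel, hι0] at h7
            exact eq_inv_of_mul_eq_one_right h7.symm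
          · rw [map_neg, hv y hy] }
    have hŴV : Ŵ = V := by
      refine hmin Ŵ ?_ ?_ ?_ ?_
      · intro hb
        have h7 : ι' v₀ ∈ Ŵ := ⟨v₀, rfl, fun y hy => hv₀fix ⟨y, hy⟩⟩
        rw [hb] at h7
        exact hv₀ (h4 _ _ ((Subgroup.mem_bot.mp h7).trans hι0.symm))
      · refine ⟨?_⟩
        rintro _ ⟨v, rfl, hv⟩ g
        refine ⟨ρ g v, h5 g v, fun y hy => ?_⟩
        set gb : G ⧸ ρ.ker := (g : G ⧸ ρ.ker) with hgb
        have hy' : gb⁻¹ * y * gb⁻¹⁻¹ ∈ Q := (pCore_normal (G := G ⧸ ρ.ker) q).conj_mem y hy gb⁻¹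
        have e : y * gb = gb * (gb⁻¹ * y * gb⁻¹⁻¹) := by group
        calc ρH y (ρ g v) = ρH (y * gb) v := by rw [map_mul]; rfl
          _ = ρH (gb * (gb⁻¹ * y * gb⁻¹⁻¹)) v := by rw [e]
          _ = ρ g (ρH (gb⁻¹ * y * gb⁻¹⁻¹) v) := by rw [map_mul]; rfl
          _ = ρ g v := by rw [hv _ hy']
      · rintro _ ⟨v, rfl, hv⟩
        refine ⟨τ v, h6 v, fun y hy => ?_⟩
        have hy' : σH⁻¹ y ∈ Q :=
          (Subgroup.characteristic_iff_le_comap.mp (instPCoreCharacteristic q)) σH⁻¹ hy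
        have h7 : σH (σH⁻¹ y) = y := by
          show (σH * σH⁻¹) y = y
          rw [mul_inv_cancel]; rfl
        have h8 := congrArg (fun z : End ℤ M => z v) (hτρH (σH⁻¹ y))
        simp only [Module.End.mul_apply, h7, hv _ hy'] at h8
        exact h8.symm
      · rintro _ ⟨v, rfl, -⟩
        exact h2 v
    have hfix : ∀ v : M, ∀ y ∈ Q, ρH y v = v := by
      intro v y hy
      have h7 : ι' v ∈ Ŵ := hŴV ▸ h2 v
      obtain ⟨v', h8, h9⟩ := h7
      rw [← h4 _ _ h8]
      exact h9 y hy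
    rw [eq_bot_iff]
    intro y hy
    rw [Subgroup.mem_bot]
    apply hρH
    rw [map_one]
    ext v
    exact hfix v y hy
  refine ⟨V, hVn, q, inferInstance, M, inferInstance, inferInstance, AddCommGroup.zmodModule hM, ρ, τ, hV0, hVσ, hq2,
    hτρ, hτ, hnorm, hker, hOq, ?_⟩
  intro y hy v hv
  obtain ⟨w, rfl⟩ := h3 v hv
  have hy1 : ρ y = 1 := MonoidHom.mem_ker.mp hy
  have h8 := h5 y w
  rw [hy1, Module.End.one_apply] at h8
  calc y * ι' w = y * ι' w * y⁻¹ * y := by group
    _ = ι' w * y := by rw [← h8]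

/-- The kernel of an action centralizing `V`, over the Fitting subgroup of `G / V`. -/
theorem K0_le {G : Type u} [Group G] [Finite G] (V : Subgroup G) [V.Normal] {M : Type*} [AddCommGroup M]
    (ρ : G →* End ℤ M) (hcomm : ∀ y ∈ ρ.ker, ∀ v ∈ V, y * v = v * y) :
    (fittingSubgroup (G ⧸ V)).comap (QuotientGroup.mk' V) ⊓ ρ.ker ≤ fittingSubgroup G := by
  let K' : Subgroup G := (fittingSubgroup (G ⧸ V)).comap (QuotientGroup.mk' V) ⊓ ρ.ker
  have hK'n : K'.Normal := Subgroup.normal_inf_normal _ _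
  let ψ : K' →* fittingSubgroup (G ⧸ V) :=
    ((QuotientGroup.mk' V).comp K'.subtype).codRestrict _ (fun k => k.2.1)
  have hψker : ψ.ker ≤ Subgroup.center K' := by
    intro k hk
    have h7 : ((k : G) : G ⧸ V) = 1 := congrArg Subtype.val (MonoidHom.mem_ker.mp hk)
    have hkV : (k : G) ∈ V := (QuotientGroup.eq_one_iff _).mp h7
    rw [Subgroup.mem_center_iff]
    intro y
    apply Subtype.ext
    exact hcomm _ y.2.2 _ hkV
  haveI : Group.IsNilpotent (fittingSubgroup (G ⧸ V)) := isNilpotent_fittingSubgroup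
  have hnil : Group.IsNilpotent K' := Subgroup.isNilpotent_of_ker_le_center ψ hψker
  exact le_fittingSubgroup hK'n hnil

/-- The quotient by the kernel of the module. -/
theorem faithful_quot {G : Type u} [Group G] [Finite G] {M : Type*} [AddCommGroup M] (ρ : G →* End ℤ M)
    (τ : End ℤ M) {n : ℕ} (σ : MulAut G) (hσ : σ ^ n = 1) (hfpf : ∀ g, σ g = g → g = 1)
    (hτρ : ∀ g, τ * ρ g = ρ (σ g) * τ) (hker : ∀ g, g ∈ ρ.ker ↔ σ g ∈ ρ.ker) :
    Function.Injective (QuotientGroup.lift ρ.ker ρ le_rfl) ∧ (autQuot σ ρ.ker hker) ^ n = 1 ∧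
      (∀ x, (autQuot σ ρ.ker hker) x = x → x = 1) ∧
      (∀ x, τ * (QuotientGroup.lift ρ.ker ρ le_rfl) x =
        (QuotientGroup.lift ρ.ker ρ le_rfl) ((autQuot σ ρ.ker hker) x) * τ) := by
  refine ⟨?_, ?_, ?_, ?_⟩
  · intro a b
    induction a using QuotientGroup.induction_on with
    | H a =>
      induction b using QuotientGroup.induction_on with
      | H b =>
        intro h
        have h' : ρ a = ρ b := h
        rw [QuotientGroup.eq, MonoidHom.mem_ker, map_mul, ← h', ← map_mul, inv_mul_cancel, map_one]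
  · ext x
    induction x using QuotientGroup.induction_on with
    | H y =>
      rw [autQuot_pow_mk, hσ]
      rfl
  · intro x
    induction x using QuotientGroup.induction_on with
    | H y =>
      intro h
      have h7 : ((σ y : G) : G ⧸ ρ.ker) = (y : G ⧸ ρ.ker) := h
      rw [QuotientGroup.eq_iff_div_mem, div_eq_mul_inv] at h7
      exact (QuotientGroup.eq_one_iff y).mpr
        (fpf_quot_generic σ hfpf ρ.ker (fun m hm => (hker m).mp hm) h7)
  · intro x
    induction x using QuotientGroup.induction_on with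
    | H y => exact hτρ y

/-- The quotient by an invariant normal subgroup. -/
theorem invariant_quot {G : Type u} [Group G] [Finite G] (V : Subgroup G) [V.Normal] {n : ℕ} (σ : MulAut G)
    (hσ : σ ^ n = 1) (hfpf : ∀ g, σ g = g → g = 1) (hV : ∀ g, g ∈ V ↔ σ g ∈ V) :
    (autQuot σ V hV) ^ n = 1 ∧ (∀ x, (autQuot σ V hV) x = x → x = 1) := by
  refine ⟨?_, ?_⟩
  · ext x
    induction x using QuotientGroup.induction_on with
    | H y =>
      rw [autQuot_pow_mk, hσ]
      rfl
  · intro x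
    induction x using QuotientGroup.induction_on with
    | H y =>
      intro h
      have h7 : ((σ y : G) : G ⧸ V) = (y : G ⧸ V) := h
      rw [QuotientGroup.eq_iff_div_mem, div_eq_mul_inv] at h7
      exact (QuotientGroup.eq_one_iff y).mpr
        (fpf_quot_generic σ hfpf V (fun m hm => (hV m).mp hm) h7)

theorem card_quot_lt {G : Type u} [Group G] [Finite G] (V : Subgroup G) [V.Normal] (hV : V ≠ ⊥) :
    Nat.card (G ⧸ V) < Nat.card G := by
  have hVnt : Nontrivial V := (Subgroup.nontrivial_iff_ne_bot V).mpr hV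
  have h7 := V.card_mul_index
  have h8 : 2 ≤ Nat.card V := Finite.one_lt_card
  have h9 : 0 < V.index := Nat.pos_of_ne_zero Subgroup.index_ne_zero_of_finite
  rw [Subgroup.index] at h7 h9
  nlinarith

/-- **Gross, order four.** -/
theorem theorem_A2 : ∀ (N : ℕ) (G : Type u) [Group G] [Finite G], Nat.card G = N → Group.IsSolvable G →
    ∀ σ : MulAut G, σ ^ (2 ^ 2) = 1 → (∀ g, σ g = g → g = 1) →
    ∀ g, (σ ^ 2) g * g⁻¹ ∈ fittingSubgroup G := by
  intro N
  induction N using Nat.strong_induction_on with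
  | _ N IH =>
    intro G _ _ hcard hsolv σ hσ hfpf g
    classical
    haveI := hsolv
    by_cases hbot : (⊥ : Subgroup G) = ⊤
    · have h1 : ((σ ^ 2) g * g⁻¹) ∈ (⊥ : Subgroup G) := hbot ▸ Subgroup.mem_top _
      rw [Subgroup.mem_bot.mp h1]
      exact Subgroup.one_mem _
    obtain ⟨V, hVn, q, _, M, _, _, _, ρ, τ, hV0, hVσ, hq2, hτρ, hτ, hnorm, hker, hOq, hcomm⟩ :=
      exists_setup hbot σ hσ hfpf
    have hq : q.Prime := Fact.out
    obtain ⟨h1, h2, h3, h4⟩ := faithful_quot ρ τ σ hσ hfpf hτρ hker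
    have hσH := sigma_trivial_n2 (H := G ⧸ ρ.ker) inferInstance hq hq2 _ h1 _ h2 h3 τ h4 hτ hnorm hOq
    have hkerg : (σ ^ 2) g * g⁻¹ ∈ ρ.ker := by
      have h7 := autQuot_pow_mk σ ρ.ker hker 2 g
      rw [hσH] at h7
      have h9 : (((σ ^ 2) g : G) : G ⧸ ρ.ker) = (g : G ⧸ ρ.ker) := h7.symm
      rw [QuotientGroup.eq_iff_div_mem, div_eq_mul_inv] at h9
      exact h9
    have hVinv : ∀ s, s ∈ V ↔ σ s ∈ V := inv_iff_of_pow_eq_one σ V hVσ (by positivity) hσ
    obtain ⟨h5, h6⟩ := invariant_quot V σ hσ hfpf hVinv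
    have hlt : Nat.card (G ⧸ V) < N := hcard ▸ card_quot_lt V hV0
    have hIH := IH _ hlt (G ⧸ V) rfl inferInstance _ h5 h6 (g : G ⧸ V)
    refine K0_le V ρ hcomm ⟨?_, hkerg⟩
    rw [autQuot_pow_mk] at hIH
    exact hIH

/-- The second Fitting subgroup. -/
noncomputable def fit2 (G : Type*) [Group G] : Subgroup G :=
  (fittingSubgroup (G ⧸ fittingSubgroup G)).comap (QuotientGroup.mk' (fittingSubgroup G))

instance fit2_normal (G : Type*) [Group G] : (fit2 G).Normal :=
  (fittingSubgroup_normal (G := G ⧸ fittingSubgroup G)).comap _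

theorem lcs_mono {G : Type*} [Group G] {A B : Subgroup G} (h : A ≤ B) (k : ℕ) :
    A.lowerCentralSeries k ≤ B.lowerCentralSeries k := by
  induction k with
  | zero => exact h
  | succ k ih => exact Subgroup.commutator_mono ih h

/-- A normal subgroup with a term of its lower central series in the Fitting subgroup lies in `fit2`. -/
theorem le_fit2 {G : Type*} [Group G] [Finite G] (K : Subgroup G) [K.Normal] {k : ℕ}
    (hk : K.lowerCentralSeries k ≤ fittingSubgroup G) : K ≤ fit2 G := by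
  rw [fit2, ← Subgroup.map_le_iff_le_comap]
  refine le_fittingSubgroup (Subgroup.Normal.map inferInstance _ (QuotientGroup.mk'_surjective _)) ?_
  rw [Subgroup.isNilpotent_iff_lowerCentralSeries]
  refine ⟨k, ?_⟩
  rw [← Subgroup.map_lowerCentralSeries, eq_bot_iff, Subgroup.map_le_iff_le_comap]
  intro x hx
  exact (QuotientGroup.eq_one_iff x).mpr (hk hx)

/-- The series of a subgroup mapping into a nilpotent subgroup. -/
theorem lcs_le_ker {G G' : Type*} [Group G] [Finite G'] [Group G'] (K : Subgroup G) (f : G →* G')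
    (hK : K.map f ≤ fittingSubgroup G') : ∃ k, ∀ j, k ≤ j → K.lowerCentralSeries j ≤ f.ker := by
  haveI : Group.IsNilpotent (fittingSubgroup G') := isNilpotent_fittingSubgroup
  obtain ⟨k, hk⟩ := (Subgroup.isNilpotent_iff_lowerCentralSeries _).mp this
  refine ⟨k, fun j hj => ?_⟩
  have h1 : K.lowerCentralSeries j ≤ K.lowerCentralSeries k := Subgroup.lowerCentralSeries_antitone _ hj
  refine h1.trans ?_
  rw [← MonoidHom.comap_bot, ← Subgroup.map_le_iff_le_comap, Subgroup.map_lowerCentralSeries, ← hk]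
  exact lcs_mono hK k

/-- **Gross, the general step.** -/
theorem theorem_B {n : ℕ} (hn : 1 ≤ n) : ∀ (N : ℕ) (G : Type u) [Group G] [Finite G], Nat.card G = N →
    Group.IsSolvable G → ∀ σ : MulAut G, σ ^ (2 ^ n) = 1 → (∀ g, σ g = g → g = 1) →
    ∀ g, (σ ^ (2 ^ (n - 1))) g * g⁻¹ ∈ fit2 G := by
  intro N
  induction N using Nat.strong_induction_on with
  | _ N IH =>
    intro G _ _ hcard hsolv σ hσ hfpf g
    classical
    haveI := hsolv
    by_cases hbot : (⊥ : Subgroup G) = ⊤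
    · have h1 : ((σ ^ (2 ^ (n - 1))) g * g⁻¹) ∈ (⊥ : Subgroup G) := hbot ▸ Subgroup.mem_top _
      rw [Subgroup.mem_bot.mp h1]
      exact Subgroup.one_mem _
    obtain ⟨V, hVn, q, _, M, _, _, _, ρ, τ, hV0, hVσ, hq2, hτρ, hτ, hnorm, hker, hOq, hcomm⟩ :=
      exists_setup hbot σ hσ hfpf
    have hq : q.Prime := Fact.out
    obtain ⟨h1, h2, h3, h4⟩ := faithful_quot ρ τ σ hσ hfpf hτρ hker
    have hkerF := H_level (H := G ⧸ ρ.ker) inferInstance hq hq2 hn _ h1 _ h2 h3 τ h4 hτ hnorm hOq (g : G ⧸ ρ.ker)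
    rw [autQuot_pow_mk] at hkerF
    have hVinv : ∀ s, s ∈ V ↔ σ s ∈ V := inv_iff_of_pow_eq_one σ V hVσ (by positivity) hσ
    obtain ⟨h5, h6⟩ := invariant_quot V σ hσ hfpf hVinv
    have hlt : Nat.card (G ⧸ V) < N := hcard ▸ card_quot_lt V hV0
    have hIH := IH _ hlt (G ⧸ V) rfl inferInstance _ h5 h6 (g : G ⧸ V)
    rw [autQuot_pow_mk] at hIH
    -- the subgroup
    let K : Subgroup G := (fit2 (G ⧸ V)).comap (QuotientGroup.mk' V) ⊓
      (fittingSubgroup (G ⧸ ρ.ker)).comap (QuotientGroup.mk' ρ.ker)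
    haveI hKn : K.Normal := Subgroup.normal_inf_normal _ _
    have hgK : (σ ^ (2 ^ (n - 1))) g * g⁻¹ ∈ K := ⟨hIH, hkerF⟩
    have hK1 : K.map (QuotientGroup.mk' ρ.ker) ≤ fittingSubgroup (G ⧸ ρ.ker) := by
      rw [Subgroup.map_le_iff_le_comap]
      exact inf_le_right
    obtain ⟨k₁, hk₁⟩ := lcs_le_ker K _ hK1
    let φ : G →* (G ⧸ V) ⧸ fittingSubgroup (G ⧸ V) :=
      (QuotientGroup.mk' (fittingSubgroup (G ⧸ V))).comp (QuotientGroup.mk' V)
    have hK2 : K.map φ ≤ fittingSubgroup ((G ⧸ V) ⧸ fittingSubgroup (G ⧸ V)) := by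
      rw [Subgroup.map_le_iff_le_comap]
      intro x hx
      exact hx.1
    obtain ⟨k₂, hk₂⟩ := lcs_le_ker K φ hK2
    have hfin : K.lowerCentralSeries (max k₁ k₂) ≤ fittingSubgroup G := by
      refine le_trans (le_inf ?_ ?_) (K0_le V ρ hcomm)
      · intro x hx
        have h7 := hk₂ _ (le_max_right _ _) hx
        have h8 : (((x : G) : G ⧸ V) : (G ⧸ V) ⧸ fittingSubgroup (G ⧸ V)) = 1 := h7
        exact (QuotientGroup.eq_one_iff ((x : G) : G ⧸ V)).mp h8
      · have h7 := hk₁ _ (le_max_left k₁ k₂)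
        rwa [QuotientGroup.ker_mk'] at h7
    exact le_fit2 K hfin hgK

end GLevel

section Chain

/-- Lifting a chain through the second Fitting subgroup. -/
theorem chain_step {G : Type u} [Group G] [Finite G] {m : ℕ}
    (hchain : ∃ F : Fin (m + 1) → Subgroup (G ⧸ fit2 G), F 0 = ⊥ ∧ F (Fin.last m) = ⊤ ∧ Monotone F ∧ (∀ i, (F i).Normal) ∧
      ∀ i : Fin m, ∃ k : ℕ, (F i.succ).lowerCentralSeries k ≤ F i.castSucc) :
    ∃ F : Fin (m + 2 + 1) → Subgroup G, F 0 = ⊥ ∧ F (Fin.last (m + 2)) = ⊤ ∧ Monotone F ∧ (∀ i, (F i).Normal) ∧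
      ∀ i : Fin (m + 2), ∃ k : ℕ, (F i.succ).lowerCentralSeries k ≤ F i.castSucc := by
  obtain ⟨F₁, h0, hl, hm, hN, hk⟩ := hchain
  let π := QuotientGroup.mk' (fit2 G)
  let F' : Fin (m + 2) → Subgroup G := Fin.cons (fittingSubgroup G) (fun i => (F₁ i).comap π)
  let F : Fin (m + 3) → Subgroup G := Fin.cons ⊥ F'
  have hF0 : F 0 = ⊥ := rfl
  have hF1 : F (Fin.succ 0) = fittingSubgroup G := rfl
  have hFs : ∀ i : Fin (m + 1), F i.succ.succ = (F₁ i).comap π := fun i => rfl
  have hF2 : F (Fin.succ (Fin.succ 0)) = fit2 G := by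
    rw [hFs, h0]
    ext x
    simp [π, QuotientGroup.eq_one_iff]
  have hFfit : fittingSubgroup G ≤ fit2 G := by
    intro x hx
    show ((x : G ⧸ fittingSubgroup G)) ∈ fittingSubgroup (G ⧸ fittingSubgroup G)
    rw [(QuotientGroup.eq_one_iff x).mpr hx]
    exact Subgroup.one_mem _
  refine ⟨F, hF0, ?_, ?_, ?_, ?_⟩
  · show F (Fin.last m).succ.succ = ⊤
    rw [hFs, hl]
    rfl
  · rw [Fin.monotone_iff_le_succ]
    intro i
    induction i using Fin.cases with
    | zero =>
      rw [Fin.castSucc_zero, hF0]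
      exact bot_le
    | succ j =>
      induction j using Fin.cases with
      | zero =>
        show F (Fin.succ 0) ≤ F (Fin.succ (Fin.succ 0))
        rw [hF1, hF2]
        exact hFfit
      | succ l =>
        show F l.castSucc.succ.succ ≤ F l.succ.succ.succ
        rw [hFs, hFs]
        exact Subgroup.comap_mono (hm (Fin.castSucc_le_succ l))
  · intro i
    induction i using Fin.cases with
    | zero => rw [hF0]; infer_instance
    | succ j =>
      induction j using Fin.cases with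
      | zero =>
        show (F (Fin.succ 0)).Normal
        rw [hF1]
        infer_instance
      | succ l =>
        rw [hFs]
        exact (hN l).comap _
  · intro i
    induction i using Fin.cases with
    | zero =>
      rw [Fin.castSucc_zero, hF0]
      show ∃ k, (F (Fin.succ 0)).lowerCentralSeries k ≤ ⊥
      rw [hF1]
      haveI : Group.IsNilpotent (fittingSubgroup G) := isNilpotent_fittingSubgroup
      obtain ⟨k, hk'⟩ := (Subgroup.isNilpotent_iff_lowerCentralSeries _).mp this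
      exact ⟨k, hk'.le⟩
    | succ j =>
      induction j using Fin.cases with
      | zero =>
        show ∃ k, (F (Fin.succ (Fin.succ 0))).lowerCentralSeries k ≤ F (Fin.succ 0)
        rw [hF2, hF1]
        have h1 : (fit2 G).map (QuotientGroup.mk' (fittingSubgroup G)) ≤ fittingSubgroup (G ⧸ fittingSubgroup G) := by
          rw [Subgroup.map_le_iff_le_comap]
          exact le_rfl
        obtain ⟨k, hk'⟩ := lcs_le_ker (fit2 G) _ h1
        refine ⟨k, ?_⟩
        have h7 := hk' k le_rfl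
        rwa [QuotientGroup.ker_mk'] at h7
      | succ l =>
        obtain ⟨k, hk'⟩ := hk l
        refine ⟨k, ?_⟩
        show (F l.succ.succ.succ).lowerCentralSeries k ≤ F l.castSucc.succ.succ
        rw [hFs, hFs, ← Subgroup.map_le_iff_le_comap,
          Subgroup.map_lowerCentralSeries,
          Subgroup.map_comap_eq_self_of_surjective (QuotientGroup.mk'_surjective _)]
        exact hk'

/-- The chain. -/
theorem chain_gross : ∀ (n : ℕ) (G : Type u) [Group G] [Finite G], Group.IsSolvable G →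
    ∀ σ : MulAut G, σ ^ (2 ^ (n + 2)) = 1 → (∀ g, σ g = g → g = 1) →
    ∃ F : Fin (2 * n + 2 + 1) → Subgroup G, F 0 = ⊥ ∧ F (Fin.last (2 * n + 2)) = ⊤ ∧ Monotone F ∧ (∀ i, (F i).Normal) ∧
      ∀ i : Fin (2 * n + 2), ∃ k : ℕ, (F i.succ).lowerCentralSeries k ≤ F i.castSucc := by
  intro n
  induction n with
  | zero =>
    intro G _ _ hsolv σ hσ hfpf
    classical
    haveI := hsolv
    have hA := theorem_A2 _ G rfl hsolv σ hσ hfpf
    have hinv : ∀ s, s ∈ fittingSubgroup G ↔ σ s ∈ fittingSubgroup G := by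
      refine inv_iff_of_pow_eq_one σ _ ?_ (by positivity) hσ
      intro s hs
      exact (Subgroup.characteristic_iff_le_comap.mp (instFittingCharacteristic (G := G))) σ hs
    obtain ⟨h1, h2⟩ := invariant_quot (fittingSubgroup G) σ hσ hfpf hinv
    have hσ₁ : (autQuot σ (fittingSubgroup G) hinv) ^ 2 = 1 := by
      ext x
      induction x using QuotientGroup.induction_on with
      | H y =>
        rw [autQuot_pow_mk]
        have h := hA y
        rw [← div_eq_mul_inv, ← QuotientGroup.eq_iff_div_mem] at h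
        exact h
    have hnil : Group.IsNilpotent (G ⧸ fittingSubgroup G) :=
      Cfsg.Agent.Lib.Kegel.nilpotent_of_fpf _ h2 Nat.prime_two hσ₁
    let F : Fin (2 + 1) → Subgroup G := ![⊥, fittingSubgroup G, ⊤]
    refine ⟨F, rfl, rfl, ?_, ?_, ?_⟩
    · rw [Fin.monotone_iff_le_succ]
      intro i
      fin_cases i
      · exact bot_le
      · exact le_top
    · intro i
      fin_cases i
      · show (⊥ : Subgroup G).Normal
        infer_instance
      · show (fittingSubgroup G).Normal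
        infer_instance
      · show (⊤ : Subgroup G).Normal
        infer_instance
    · intro i
      fin_cases i
      · haveI : Group.IsNilpotent (fittingSubgroup G) := isNilpotent_fittingSubgroup
        obtain ⟨k, hk⟩ := (Subgroup.isNilpotent_iff_lowerCentralSeries _).mp this
        exact ⟨k, hk.le⟩
      · obtain ⟨k₂, hk₂⟩ := Subgroup.nilpotent_iff_lowerCentralSeries.mp hnil
        refine ⟨k₂, ?_⟩
        have h7 : (⊤ : Subgroup G).lowerCentralSeries k₂ ≤ (QuotientGroup.mk' (fittingSubgroup G)).ker := by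
          rw [← MonoidHom.comap_bot, ← Subgroup.map_le_iff_le_comap, Subgroup.map_lowerCentralSeries,
            Subgroup.map_top_of_surjective _ (QuotientGroup.mk'_surjective _), hk₂]
        rwa [QuotientGroup.ker_mk'] at h7
  | succ n ih =>
    intro G _ _ hsolv σ hσ hfpf
    classical
    haveI := hsolv
    have hB := theorem_B (n := n + 3) (by omega) _ G rfl hsolv σ hσ hfpf
    have hinv : ∀ s, s ∈ fit2 G ↔ σ s ∈ fit2 G := by
      refine inv_iff_of_pow_eq_one σ _ ?_ (by positivity) hσ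
      intro s hs
      show ((σ s : G) : G ⧸ fittingSubgroup G) ∈ fittingSubgroup (G ⧸ fittingSubgroup G)
      have hfchar : ∀ s, s ∈ fittingSubgroup G ↔ σ s ∈ fittingSubgroup G := by
        refine inv_iff_of_pow_eq_one σ _ ?_ (by positivity) hσ
        intro s hs
        exact (Subgroup.characteristic_iff_le_comap.mp (instFittingCharacteristic (G := G))) σ hs
      have h1 : ((σ s : G) : G ⧸ fittingSubgroup G) = autQuot σ (fittingSubgroup G) hfchar (s : G ⧸ fittingSubgroup G) := rfl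
      rw [h1]
      exact (Subgroup.characteristic_iff_le_comap.mp (instFittingCharacteristic (G := G ⧸ fittingSubgroup G))) _ hs
    obtain ⟨h1, h2⟩ := invariant_quot (fit2 G) σ hσ hfpf hinv
    have hσ₁ : (autQuot σ (fit2 G) hinv) ^ (2 ^ (n + 2)) = 1 := by
      ext x
      induction x using QuotientGroup.induction_on with
      | H y =>
        rw [autQuot_pow_mk]
        have h := hB y
        rw [show n + 3 - 1 = n + 2 by omega, ← div_eq_mul_inv, ← QuotientGroup.eq_iff_div_mem] at h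
        exact h
    have := ih (G ⧸ fit2 G) inferInstance _ hσ₁ h2
    exact chain_step (m := 2 * n + 2) this

end Chain

end Cfsg.Agent.Lib.GrossTop
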