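import Mathlib
import Cfsg.Agent.Lib.H73Core
import Cfsg.Agent.S4034
import Cfsg.Agent.S4035
import Cfsg.Agent.S4134
import Cfsg.Agent.Lib.Hall
import Cfsg.Agent.Lib.FrobCount
import Cfsg.Agent.Lib.BurnsidePQ

/-!
# Groups with class sizes `1, m, mn`: basic setup
-/

set_option autoImplicit false
set_option linter.style.haveILetI false
set_option linter.unusedVariables false
set_option linter.unusedSectionVars false
open scoped Pointwise

namespace Cfsg.Agent.Lib.H73CS

open Subgroup Cfsg.Agent.Lib.ItoTwo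

universe u

section Rel

variable {G : Type*} [Group G]

/-- Centralizers in a subgroup. -/
theorem centralizer_subtype_eq (T : Subgroup G) (y : T) :
    (centralizer ({y} : Set T)) = (cen (y : G)).subgroupOf T := by
  ext t
  rw [mem_centralizer_singleton_iff, mem_subgroupOf, mem_cen]
  constructor
  · intro h
    exact congrArg Subtype.val h
  · intro h
    exact Subtype.ext h

theorem index_centralizer_subtype (T : Subgroup G) (y : T) :
    (centralizer ({y} : Set T)).index = (cen (y : G)).relIndex T := by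
  rw [centralizer_subtype_eq]
  rfl

theorem isPrimary_coe {T : Subgroup G} {t : ℕ} {y : T} : IsPrimary t y ↔ IsPrimary t (y : G) := by
  constructor
  · rintro ⟨k, hk⟩
    exact ⟨k, by exact_mod_cast congrArg Subtype.val hk⟩
  · rintro ⟨k, hk⟩
    exact ⟨k, Subtype.ext (by exact_mod_cast hk)⟩

theorem isPrimary_conj {t : ℕ} {x : G} (g : G) (h : IsPrimary t x) : IsPrimary t (g * x * g⁻¹) := by
  obtain ⟨k, hk⟩ := h
  exact ⟨k, by rw [conj_pow, hk]; group⟩

theorem isPrimary_pow {t : ℕ} {x : G} (h : IsPrimary t x) (n : ℕ) : IsPrimary t (x ^ n) := by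
  obtain ⟨k, hk⟩ := h
  exact ⟨k, by rw [← pow_mul, mul_comm, pow_mul, hk, one_pow]⟩

theorem orderOf_conj' (g x : G) : orderOf (g * x * g⁻¹) = orderOf x :=
  MulEquiv.orderOf_eq (MulAut.conj g) x

theorem cen_conj (g x : G) : cen (g * x * g⁻¹) = MulAut.conj g • cen x := by
  ext h
  rw [Cfsg.Agent.Lib.PCore.mem_conj_smul_iff, mem_cen_conj]

theorem index_cen_conj [Finite G] (g x : G) : (cen (g * x * g⁻¹)).index = (cen x).index := by
  rw [cen_conj]
  exact Subgroup.index_map_equiv _ _ |>.trans rfl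

end Rel

/-- Relative Ito theorem. -/
theorem rel_ito {X : Type*} [Group X] [Finite X] {p n : ℕ} [hp : Fact p.Prime] (hn : 1 < n) (hpn : ¬ p ∣ n)
    (hX : ∀ x : X, (orderOf x).Coprime p → (cen x).index = 1 ∨ (cen x).index = n) :
    (∃ P : Subgroup X, IsPGroup p P ∧ (∀ s, IsPrimary p s → s ∈ P) ∧
      ∀ s ∈ P, ∀ y : X, (orderOf y).Coprime p → s * y = y * s) ∧
    ((∃ x : X, (orderOf x).Coprime p ∧ (cen x).index = n) → ∃ q b : ℕ, q.Prime ∧ q ≠ p ∧ n = q ^ b ∧
      ∀ x : X, (orderOf x).Coprime p → (orderOf x).Coprime q → x ∈ center X) := by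
  classical
  have hcl : ∀ x : X, (orderOf x).Coprime p → ¬ p ∣ (ConjClasses.mk x).carrier.ncard := by
    intro x hx
    rw [Cfsg.Agent.S4034.class_card_eq]
    rcases hX x hx with h | h
    · rw [h]
      exact hp.out.one_lt.ne' ∘ Nat.dvd_one.1
    · rw [h]
      exact hpn
  let P : Sylow p X := default
  obtain ⟨hPn, H, hHn, hHp, hdisj, hsup⟩ := Cfsg.Agent.S4035.result hcl P
  -- elements of `P` commute with elements of `H`
  have hcomm : ∀ s ∈ (P : Subgroup X), ∀ y ∈ H, s * y = y * s := by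
    intro s hs y hy
    apply Subgroup.commute_of_normal_of_disjoint _ _ hPn hHn (disjoint_iff.2 hdisj) s y hs hy
  -- primary elements lie in `P`
  have hPmem : ∀ s, IsPrimary p s → s ∈ (P : Subgroup X) := by
    intro s hs
    have hzp : IsPGroup p (zpowers s) := by
      obtain ⟨k, hk⟩ := hs
      rw [IsPGroup.iff_orderOf]
      rintro ⟨x, hx⟩
      obtain ⟨i, rfl⟩ := mem_zpowers_iff.1 hx
      have h1 : ((s ^ i) ^ (p ^ k)) = 1 := by
        rw [← zpow_natCast, ← zpow_mul, mul_comm, zpow_mul, zpow_natCast, hk, one_zpow]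
      have h2 : orderOf (⟨s ^ i, hx⟩ : zpowers s) ∣ p ^ k := by
        apply orderOf_dvd_of_pow_eq_one
        exact Subtype.ext h1
      obtain ⟨j, -, hj⟩ := (Nat.dvd_prime_pow hp.out).1 h2
      exact ⟨j, hj⟩
    obtain ⟨Q, hQ⟩ := hzp.exists_le_sylow
    haveI := Sylow.unique_of_normal P hPn
    rw [← Subsingleton.elim Q P]
    exact hQ (mem_zpowers s)
  -- regular elements lie in `H`
  have hHmem : ∀ y : X, (orderOf y).Coprime p → y ∈ H := by
    intro y hy
    have hy' : y ∈ (((P : Subgroup X) ⊔ H : Subgroup X) : Set X) := by rw [hsup]; trivial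
    rw [Subgroup.mul_normal] at hy'
    obtain ⟨a, ha, b, hb, rfl⟩ := Set.mem_mul.1 hy'
    have hab : Commute a b := hcomm a ha b hb
    have hkc : (Nat.card H).Coprime p := (Nat.Coprime.symm ((Nat.Prime.coprime_iff_not_dvd hp.out).2 hHp))
    have hbk : b ^ Nat.card H = 1 := by
      have := pow_card_eq_one' (x := (⟨b, hb⟩ : H))
      exact congrArg Subtype.val this
    have h1 : (a * b) ^ Nat.card H = a ^ Nat.card H := by rw [hab.mul_pow, hbk, mul_one]
    have h2 : (a ^ Nat.card H) ^ (orderOf (a * b)) = 1 := by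
      rw [← h1, ← pow_mul, mul_comm, pow_mul, pow_orderOf_eq_one, one_pow]
    obtain ⟨e, he⟩ := hPmem a |> fun _ => IsPGroup.iff_orderOf.1 P.isPGroup' ⟨a, ha⟩
    have h3 : a ^ (p ^ e) = 1 := by
      have := pow_orderOf_eq_one (⟨a, ha⟩ : (P : Subgroup X))
      rw [he] at this
      exact congrArg Subtype.val this
    have h4 : (a ^ Nat.card H) ^ (p ^ e) = 1 := by
      rw [← pow_mul, mul_comm, pow_mul, h3, one_pow]
    have h5 : orderOf (a ^ Nat.card H) = 1 := Nat.eq_one_of_dvd_coprimes (hy.pow_right e)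
      (orderOf_dvd_of_pow_eq_one h2) (orderOf_dvd_of_pow_eq_one h4)
    have h6 : a ^ Nat.card H = 1 := orderOf_eq_one_iff.1 h5
    have h7 : orderOf a = 1 := Nat.eq_one_of_dvd_coprimes (hkc.pow_right e)
      (orderOf_dvd_of_pow_eq_one h6) (orderOf_dvd_of_pow_eq_one h3)
    have h8 : a = 1 := orderOf_eq_one_iff.1 h7
    rw [h8, one_mul]
    exact hb
  refine ⟨⟨P, P.isPGroup', hPmem, fun s hs y hy => hcomm s hs y (hHmem y hy)⟩, ?_⟩
  rintro ⟨x₀, hx₀, hx₀n⟩
  have hmemH : ∀ g : X, ∃ a ∈ (P : Subgroup X), ∃ b ∈ H, g = a * b := by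
    intro g
    have hg : g ∈ (((P : Subgroup X) ⊔ H : Subgroup X) : Set X) := by rw [hsup]; trivial
    rw [Subgroup.mul_normal] at hg
    obtain ⟨a, ha, b, hb, rfl⟩ := Set.mem_mul.1 hg
    exact ⟨a, ha, b, hb, rfl⟩
  have hidx : ∀ h : H, (cen h).index = (cen (h : X)).index := by
    intro h
    rw [← ncard_class (G := H) h, ← ncard_class (G := X) (h : X)]
    have himg : {z : X | ∃ g : X, z = g * h * g⁻¹} = Subtype.val '' {z : H | ∃ g : H, z = g * h * g⁻¹} := by
      ext z
      constructor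
      · rintro ⟨g, rfl⟩
        obtain ⟨a, ha, b, hb, rfl⟩ := hmemH g
        refine ⟨⟨b, hb⟩ * h * ⟨b, hb⟩⁻¹, ⟨_, rfl⟩, ?_⟩
        have h1 : b * (h : X) * b⁻¹ ∈ H := mul_mem (mul_mem hb h.2) (inv_mem hb)
        have h2 := hcomm a ha _ h1
        show b * (h : X) * b⁻¹ = a * b * (h : X) * (a * b)⁻¹
        have h3 : a * b * (h : X) * (a * b)⁻¹ = a * (b * (h : X) * b⁻¹) * a⁻¹ := by group
        rw [h3, h2]
        group
      · rintro ⟨w, ⟨g, rfl⟩, rfl⟩
        exact ⟨g, rfl⟩
    rw [himg, Set.ncard_image_of_injective _ Subtype.val_injective]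
  have hHcl : ∀ x : H, (cen x).index = 1 ∨ (cen x).index = n := by
    intro x
    rw [hidx]
    apply hX
    rcases (Nat.coprime_or_dvd_of_prime hp.out (orderOf (x : X))) with h | h
    · exact h.symm
    · exfalso
      have h1 : orderOf (x : X) ∣ Nat.card H := by
        rw [Subgroup.orderOf_coe]
        exact orderOf_dvd_natCard x
      exact hHp (h.trans h1)
  have hHex : ∃ x : H, (cen x).index = n := by
    refine ⟨⟨x₀, hHmem x₀ hx₀⟩, ?_⟩
    rw [hidx]
    exact hx₀n
  obtain ⟨q, hqf, b, hnq, hall⟩ := Cfsg.Agent.S4134.result n hn hHcl hHex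
  have hqp : q ≠ p := by
    rintro rfl
    apply hpn
    rw [hnq]
    apply dvd_pow_self
    rintro rfl
    rw [pow_zero] at hnq
    omega
  refine ⟨q, b, hqf.out, hqp, hnq, ?_⟩
  intro x hxp hxq
  let Q : Sylow q H := default
  obtain ⟨-, ⟨N, hNn, hNc, hNab, hNQ⟩, -⟩ := hall Q
  have hxH : x ∈ H := hHmem x hxp
  have hxN : (⟨x, hxH⟩ : H) ∈ N := by
    apply (Cfsg.Agent.Lib.TransferCore.mem_of_complement_iff hNc _).2
    rw [← Subgroup.orderOf_coe]
    exact hxq
  rw [mem_center_iff]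
  intro g
  obtain ⟨a, ha, c, hc, rfl⟩ := hmemH g
  have h1 : a * x = x * a := hcomm a ha x hxH
  -- decompose `c`
  have hc' : (⟨c, hc⟩ : H) ∈ ((N ⊔ (Q : Subgroup H) : Subgroup H) : Set H) := by
    rw [hNc.sup_eq_top]
    trivial
  rw [Subgroup.normal_mul] at hc'
  obtain ⟨c₁, hc₁, c₂, hc₂, hcc⟩ := Set.mem_mul.1 hc'
  have hcc' : (c₁ : X) * c₂ = c := congrArg Subtype.val hcc
  have h2 : (c₁ : X) * x = x * c₁ := by
    have := hNab.is_comm.comm (⟨c₁, hc₁⟩ : N) ⟨_, hxN⟩
    exact congrArg (fun z : N => ((z : H) : X)) this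
  have h3 : (c₂ : X) * x = x * c₂ := by
    have := hNQ _ hxN c₂ hc₂
    exact (congrArg Subtype.val this).symm
  rw [← hcc']
  calc a * (c₁ * c₂) * x = a * c₁ * (c₂ * x) := by group
    _ = a * c₁ * (x * c₂) := by rw [h3]
    _ = a * (c₁ * x) * c₂ := by group
    _ = a * (x * c₁) * c₂ := by rw [h2]
    _ = (a * x) * c₁ * c₂ := by group
    _ = (x * a) * c₁ * c₂ := by rw [h1]
    _ = _ := by group

section Count

variable {G : Type*} [Group G] [Finite G]

theorem card_eq_mul_relIndex {A B : Subgroup G} (hle : A ≤ B) : Nat.card B = Nat.card A * A.relIndex B := by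
  have h1 := card_mul_index (A.subgroupOf B)
  have h2 : Nat.card (A.subgroupOf B) = Nat.card A :=
    Nat.card_congr (Subgroup.subgroupOfEquivOfLe hle).toEquiv
  rw [h2] at h1
  exact h1.symm

/-- The Frobenius-count contradiction. -/
theorem count_contra {q m : ℕ} (hq : q.Prime) {T W : Subgroup G} (hTm : T.index = m) (hm : 1 < m)
    (hWT : W ≤ T) (hWc : ∀ x ∈ W, ∀ t ∈ T, t * x = x * t) (hqW : ¬ q ∣ Nat.card W) (hqm : ¬ q ∣ m)
    (hall : ∀ c : G, (orderOf c).Coprime q → ∃ g : G, g * c * g⁻¹ ∈ W) : False := by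
  classical
  set d := m * Nat.card W with hd
  have hdG : d ∣ Nat.card G := by
    have h1 := card_mul_index T
    rw [hTm] at h1
    rw [← h1, hd, mul_comm]
    exact Nat.mul_dvd_mul_right (Subgroup.card_dvd_of_le hWT) _
  have hdP : ∀ r : ℕ, r.Prime → r ∣ d → r ≠ q := by
    rintro r hr hrd rfl
    rcases (hr.dvd_mul).1 hrd with h | h
    · exact hqm h
    · exact hqW h
  have hdvd := Cfsg.Agent.Lib.FrobCount.dvd_card_piElt (fun r => r ≠ q) G d hdG hdP
  -- the set of `q'`-elements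
  let E : Set G := {x | Cfsg.Agent.Lib.FrobCount.PiElt (fun r => r ≠ q) x}
  have hEcard : Nat.card {x : G // Cfsg.Agent.Lib.FrobCount.PiElt (fun r => r ≠ q) x} = E.ncard := by
    rw [← Nat.card_coe_set_eq]
    rfl
  rw [hEcard] at hdvd
  have hE1 : (1 : G) ∈ E := by
    intro r hr hd
    exfalso
    rw [orderOf_one] at hd
    exact hr.one_lt.ne' (Nat.dvd_one.1 hd)
  have hEcop : ∀ x ∈ E, (orderOf x).Coprime q := by
    intro x hx
    rw [Nat.coprime_comm, Nat.Prime.coprime_iff_not_dvd hq]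
    intro h
    exact hx q hq h rfl
  have hEpos : 0 < E.ncard := (Set.ncard_pos (Set.toFinite _)).2 ⟨1, hE1⟩
  have hle := Nat.le_of_dvd hEpos hdvd
  -- upper bound
  let D := (G ⧸ T) × {w : W // w ≠ 1}
  let f : D → G := fun z => z.1.out * ((z.2 : W) : G) * z.1.out⁻¹
  have hsub : E \ {1} ⊆ Set.range f := by
    rintro c ⟨hcE, hc1⟩
    obtain ⟨g, hg⟩ := hall c (hEcop c hcE)
    have hw1 : (⟨g * c * g⁻¹, hg⟩ : W) ≠ 1 := by
      intro h
      apply hc1
      have h1 : g * c * g⁻¹ = 1 := congrArg Subtype.val h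
      have h2 : g * c = g := mul_inv_eq_one.1 h1
      simpa using h2
    -- the coset of `g⁻¹`
    let q' : G ⧸ T := ((g⁻¹ : G) : G ⧸ T)
    refine ⟨(q', ⟨⟨g * c * g⁻¹, hg⟩, hw1⟩), ?_⟩
    show q'.out * (g * c * g⁻¹) * q'.out⁻¹ = c
    have h3 : g * q'.out ∈ T := by
      have h4 : ((q'.out : G) : G ⧸ T) = q' := QuotientGroup.out_eq' q'
      have h5 := QuotientGroup.eq.1 h4.symm
      have h6 : (g⁻¹)⁻¹ * q'.out ∈ T := h5
      simpa using h6
    set t := g * q'.out with ht
    have h7 : q'.out = g⁻¹ * t := by rw [ht]; group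
    rw [h7]
    have h8 := hWc _ hg t⁻¹ (inv_mem h3)
    calc g⁻¹ * t * (g * c * g⁻¹) * (g⁻¹ * t)⁻¹ = g⁻¹ * (t * ((g * c * g⁻¹) * t⁻¹)) * g := by group
      _ = g⁻¹ * (t * (t⁻¹ * (g * c * g⁻¹))) * g := by rw [h8]
      _ = c := by group
  have hcardD : Nat.card D = m * (Nat.card W - 1) := by
    have h1 : Nat.card {w : W // w ≠ 1} = Nat.card W - 1 := by
      have h2 : ({w : W | w ≠ 1}).ncard = (Set.univ : Set W).ncard - 1 := by
        have h3 : ({w : W | w ≠ 1}) = Set.univ \ {1} := by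
          ext w
          simp
        rw [h3, Set.ncard_sdiff_singleton_of_mem (Set.mem_univ _)]
      rw [Set.ncard_univ] at h2
      rw [← h2, ← Nat.card_coe_set_eq]
      rfl
    show Nat.card ((G ⧸ T) × {w : W // w ≠ 1}) = _
    rw [Nat.card_prod, h1]
    show T.index * _ = _
    rw [hTm]
  have h4 : (E \ {1}).ncard ≤ m * (Nat.card W - 1) := by
    rw [← hcardD]
    calc (E \ {1}).ncard ≤ (Set.range f).ncard := Set.ncard_le_ncard hsub (Set.toFinite _)
      _ ≤ Nat.card D := by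
        rw [← Set.image_univ]
        refine (Set.ncard_image_le (Set.toFinite _)).trans ?_
        rw [Set.ncard_univ]
  have h5 : (E \ {1}).ncard = E.ncard - 1 := Set.ncard_sdiff_singleton_of_mem hE1
  have h6 : 1 ≤ Nat.card W := Nat.card_pos
  obtain ⟨w, hw⟩ : ∃ w, Nat.card W = w + 1 := ⟨Nat.card W - 1, by omega⟩
  rw [hd, hw] at hle
  rw [h5, hw, Nat.add_sub_cancel] at h4
  have h7 : m * (w + 1) = m * w + m := by ring
  omega

/-- A noncentral element in a large `q`-subgroup, after conjugation. -/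
theorem exists_noncentral_q {q b : ℕ} [hq : Fact q.Prime] {T : Subgroup G} (Q : Sylow q G)
    (hQT : (Q : Subgroup G) ≤ T) {D : Subgroup G} (hD : IsPGroup q D)
    (hDc : q ^ ((Nat.card T).factorization q - b) ∣ Nat.card D) {z₀ : G} (hz₀ : z₀ ∈ T)
    (hz₀p : IsPrimary q z₀) (hz₀n : ∃ t ∈ T, t * z₀ ≠ z₀ * t) (hz₀r : (cen z₀).relIndex T = q ^ b) :
    ∃ g : G, ∃ e ∈ D, g * e * g⁻¹ ∈ T ∧ ∃ t ∈ T, t * (g * e * g⁻¹) ≠ (g * e * g⁻¹) * t := by
  classical
  obtain ⟨Q₁, hQ₁⟩ := hD.exists_le_sylow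
  obtain ⟨g, hg⟩ := MulAction.exists_smul_eq G Q₁ Q
  have hin : ∀ e ∈ D, g * e * g⁻¹ ∈ T := by
    intro e he
    apply hQT
    rw [← hg, Sylow.coe_subgroup_smul, Cfsg.Agent.Lib.PCore.mem_conj_smul_iff]
    have : g⁻¹ * (g * e * g⁻¹) * g = e := by group
    rw [this]
    exact hQ₁ he
  by_contra hcon
  push Not at hcon
  have hcen : ∀ e ∈ D, ∀ t ∈ T, t * (g * e * g⁻¹) = (g * e * g⁻¹) * t := by
    intro e he t ht
    exact hcon g e he (hin e he) t ht
  -- the central subgroup
  let Z : Subgroup G := T ⊓ centralizer (T : Set G)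
  have hZmem : ∀ x, x ∈ Z ↔ x ∈ T ∧ ∀ t ∈ T, t * x = x * t := by
    intro x
    show x ∈ T ∧ x ∈ centralizer (T : Set G) ↔ _
    rw [mem_centralizer_iff]
    exact Iff.rfl
  -- `D` embeds in `Z`
  have hDZ : Nat.card D ∣ Nat.card Z := by
    let φ : D →* Z := 
      { toFun := fun x => ⟨g * x * g⁻¹, (hZmem _).2 ⟨hin x x.2, hcen x x.2⟩⟩
        map_one' := by
          apply Subtype.ext
          simp
        map_mul' := by
          intro x y
          apply Subtype.ext
          simp only [Subgroup.coe_mul, MulMemClass.mk_mul_mk]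
          group }
    apply Subgroup.card_dvd_of_injective φ
    intro x y hxy
    have h1 : g * (x : G) * g⁻¹ = g * y * g⁻¹ := congrArg Subtype.val hxy
    apply Subtype.ext
    simpa using h1
  -- the chain of subgroups
  let T₀ : Subgroup G := cen z₀ ⊓ T
  have hZT₀ : Z ≤ T₀ := by
    intro x hx
    obtain ⟨h1, h2⟩ := (hZmem x).1 hx
    refine ⟨?_, h1⟩
    show x ∈ cen z₀
    rw [mem_cen]
    exact (h2 z₀ hz₀).symm
  have hT₀T : T₀ ≤ T := inf_le_right
  have h1 : Nat.card T = Nat.card T₀ * q ^ b := by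
    rw [← hz₀r, ← inf_relIndex_right]
    exact card_eq_mul_relIndex hT₀T
  have h2 : Nat.card T₀ = Nat.card Z * Z.relIndex T₀ := card_eq_mul_relIndex hZT₀
  have hz₀T₀ : z₀ ∈ T₀ := ⟨self_mem_cen z₀, hz₀⟩
  have hz₀Z : z₀ ∉ Z := by
    intro h
    obtain ⟨t, ht, hne⟩ := hz₀n
    exact hne (((hZmem z₀).1 h).2 t ht)
  have hf : q ∣ Z.relIndex T₀ := by
    haveI hN : (Z.subgroupOf T₀).Normal := by
      constructor
      intro x hx y
      have hx' : (x : G) ∈ Z := hx
      obtain ⟨h3, h4⟩ := (hZmem _).1 hx'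
      have h5 := h4 y (hT₀T y.2)
      have : y * x * y⁻¹ = x := by
        apply Subtype.ext
        show (y : G) * x * (y : G)⁻¹ = x
        rw [h5]
        group
      rw [this]
      exact hx
    let w : T₀ := ⟨z₀, hz₀T₀⟩
    let c : T₀ ⧸ Z.subgroupOf T₀ := (w : T₀ ⧸ Z.subgroupOf T₀)
    have hc : c ≠ 1 := by
      intro h
      have h3 : w ∈ Z.subgroupOf T₀ := (QuotientGroup.eq_one_iff _).1 h
      exact hz₀Z h3
    obtain ⟨k, hk⟩ := hz₀p
    have h3 : c ^ (q ^ k) = 1 := by
      have : w ^ (q ^ k) = 1 := Subtype.ext hk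
      show (w : T₀ ⧸ Z.subgroupOf T₀) ^ (q ^ k) = 1
      rw [← QuotientGroup.mk_pow, this, QuotientGroup.mk_one]
    have h4 : orderOf c ∣ q ^ k := orderOf_dvd_of_pow_eq_one h3
    obtain ⟨j, hj, hj'⟩ := (Nat.dvd_prime_pow hq.out).1 h4
    have h5 : j ≠ 0 := by
      rintro rfl
      rw [pow_zero, orderOf_eq_one_iff] at hj'
      exact hc hj'
    have h6 : q ∣ orderOf c := by
      rw [hj']
      exact dvd_pow_self q h5
    exact h6.trans (orderOf_dvd_natCard c)
  -- the contradiction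
  set V := (Nat.card T).factorization q with hV
  have hT0 : Nat.card T ≠ 0 := Nat.card_pos.ne'
  have hbV : b ≤ V := by
    rw [hV, ← hq.out.pow_dvd_iff_le_factorization hT0, h1]
    exact dvd_mul_left _ _
  have hbig : q ^ (V + 1) ∣ Nat.card T := by
    have h3 : q ^ (V - b) ∣ Nat.card Z := hDc.trans hDZ
    obtain ⟨a₁, ha₁⟩ := h3
    obtain ⟨a₂, ha₂⟩ := hf
    rw [h1, h2, ha₁, ha₂]
    refine ⟨a₁ * a₂, ?_⟩
    have h5 : V + 1 = (V - b) + 1 + b := by omega
    rw [h5, pow_add, pow_add, pow_one]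
    ring
  have := (hq.out.pow_dvd_iff_le_factorization hT0).1 hbig
  omega

end Count

section CS

variable {G : Type*} [Group G] [Finite G] {m n : ℕ}

/-- Hypotheses. -/
structure CS (m n : ℕ) (G : Type*) [Group G] : Prop where
  hm : 1 < m
  hn : 1 < n
  hcop : m.Coprime n
  all : ∀ x : G, (cen x).index = 1 ∨ (cen x).index = m ∨ (cen x).index = m * n
  exm : ∃ x : G, (cen x).index = m
  exb : ∃ x : G, (cen x).index = m * n
  primes : ∀ s : ℕ, s.Prime → s ∣ Nat.card G → s ∣ m * n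

variable (hC : CS m n G)

include hC

theorem m_ne : m ≠ 1 := hC.hm.ne'
theorem n_ne : n ≠ 1 := hC.hn.ne'
theorem m_pos : 0 < m := by have := hC.hm; omega
theorem n_pos : 0 < n := by have := hC.hn; omega

theorem mn_pos : 0 < m * n := Nat.mul_pos (m_pos hC) (n_pos hC)

theorem mn_ne_m : m * n ≠ m := by
  intro h
  have := Nat.eq_of_mul_eq_mul_left (m_pos hC) (h.trans (mul_one m).symm)
  exact n_ne hC this

theorem mn_ne_one : m * n ≠ 1 := by
  intro h
  exact m_ne hC (Nat.eq_one_of_mul_eq_one_right h)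

theorem noncentral (x : G) (hx : x ∉ center G) : (cen x).index = m ∨ (cen x).index = m * n := by
  rcases hC.all x with h | h
  · exact absurd (index_cen_eq_one_iff.1 h) hx
  · exact h

theorem not_center_of_index_m {x : G} (h : (cen x).index = m) : x ∉ center G := by
  intro hx
  rw [index_cen_eq_one_iff.2 hx] at h
  exact m_ne hC h.symm

theorem not_center_of_index_mn {x : G} (h : (cen x).index = m * n) : x ∉ center G := by
  intro hx
  rw [index_cen_eq_one_iff.2 hx] at h
  exact mn_ne_one hC h.symm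

/-- Same index and contained: equal. -/
theorem eq_of_le_of_index_eq {A B : Subgroup G} (hle : A ≤ B) (h : A.index = B.index) : A = B := by
  apply Subgroup.eq_of_le_of_card_ge hle
  have h1 := card_mul_index A
  have h2 := card_mul_index B
  rw [h] at h1
  have h0 : B.index ≠ 0 := index_ne_zero_of_finite
  exact (Nat.eq_of_mul_eq_mul_right (Nat.pos_of_ne_zero h0) (h2.trans h1.symm)).le

/-- Below a big centralizer, everything is the big centralizer. -/
theorem big_of_le {x y : G} (hx : (cen x).index = m * n) (hle : cen y ≤ cen x) :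
    (cen y).index = m * n ∧ cen y = cen x := by
  have hd : m * n ∣ (cen y).index := by
    rw [← hx]
    exact index_dvd_of_le hle
  have hy : (cen y).index = m * n := by
    rcases hC.all y with h | h | h
    · rw [h] at hd
      exact absurd (Nat.dvd_one.1 hd) (mn_ne_one hC)
    · rw [h] at hd
      have := Nat.le_of_dvd (m_pos hC) hd
      have h3 : m * 2 ≤ m * n := Nat.mul_le_mul_left _ hC.hn
      have := m_pos hC
      omega
    · exact h
  exact ⟨hy, eq_of_le_of_index_eq hC hle (hy.trans hx.symm)⟩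

/-- Above a small centralizer, a noncentral element is small. -/
theorem small_of_le {x y : G} (hx : (cen x).index = m) (hle : cen x ≤ cen y) (hy : y ∉ center G) :
    (cen y).index = m ∧ cen x = cen y := by
  have hd : (cen y).index ∣ m := by
    rw [← hx]
    exact index_dvd_of_le hle
  have hy' : (cen y).index = m := by
    rcases noncentral hC y hy with h | h
    · exact h
    · rw [h] at hd
      have := Nat.le_of_dvd (m_pos hC) hd
      have h3 : m * 2 ≤ m * n := Nat.mul_le_mul_left _ hC.hn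
      have := m_pos hC
      omega
  exact ⟨hy', eq_of_le_of_index_eq hC hle (hx.trans hy'.symm)⟩

/-- Flatness at big elements. -/
theorem flat_big {x y : G} (hx : (cen x).index = m * n) (hxy : x * y = y * x)
    (hc : (orderOf x).Coprime (orderOf y)) : cen x ≤ cen y := by
  have h1 : cen (x * y) = cen x ⊓ cen y := cen_mul_eq_inf hxy hc
  have h2 := (big_of_le hC hx (h1 ▸ inf_le_left : cen (x * y) ≤ cen x)).2
  rw [h1] at h2
  exact inf_eq_left.1 h2

/-- Relative class sizes in the centralizer of a small element. -/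
theorem rel_small {x y : G} (hx : (cen x).index = m) (hxy : x * y = y * x)
    (hc : (orderOf x).Coprime (orderOf y)) : (cen y).relIndex (cen x) = 1 ∨ (cen y).relIndex (cen x) = n := by
  have h1 : cen (x * y) = cen y ⊓ cen x := by rw [cen_mul_eq_inf hxy hc, inf_comm]
  have h2 : (cen (x * y)).index = (cen y).relIndex (cen x) * m := by
    rw [h1, ← relIndex_mul_index (inf_le_right : cen y ⊓ cen x ≤ cen x), inf_relIndex_right, hx]
  have hm := m_pos hC
  rcases hC.all (x * y) with h | h | h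
  · rw [h] at h2
    exfalso
    have h3 := hC.hm
    have : (cen y).relIndex (cen x) = 0 ∨ 1 ≤ (cen y).relIndex (cen x) := by omega
    rcases this with h4 | h4
    · rw [h4] at h2
      simp at h2
    · nlinarith
  · left
    rw [h] at h2
    have : m * 1 = m * (cen y).relIndex (cen x) := by rw [mul_one, mul_comm]; exact h2
    exact (Nat.eq_of_mul_eq_mul_left hm this).symm
  · right
    rw [h] at h2
    have : m * n = m * (cen y).relIndex (cen x) := by rw [mul_comm m (cen y |>.relIndex _)]; exact h2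
    exact (Nat.eq_of_mul_eq_mul_left hm this).symm

theorem sylow_not_center {p : ℕ} [hp : Fact p.Prime] (hd : p ∣ m * n) (P : Sylow p G) :
    ¬ (P : Subgroup G) ≤ center G := by
  intro hle
  obtain ⟨x, hx⟩ := hC.exb
  have h1 := index_dvd_of_le (hle.trans (center_le_cen x))
  rw [hx] at h1
  exact P.not_dvd_index (hd.trans h1)

theorem center_of_sylow {p : ℕ} [hp : Fact p.Prime] (hd : p ∣ m) (P : Sylow p G) :
    ∀ z ∈ (P : Subgroup G), (∀ y ∈ (P : Subgroup G), y * z = z * y) → z ∈ center G := by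
  intro z _ hz
  have h1 : (P : Subgroup G) ≤ cen z := fun y hy => mem_cen.2 (hz y hy)
  have h2 : ¬ p ∣ (cen z).index := fun h => P.not_dvd_index (h.trans (index_dvd_of_le h1))
  rcases hC.all z with h3 | h3 | h3
  · exact index_cen_eq_one_iff.1 h3
  · rw [h3] at h2
    exact absurd hd h2
  · rw [h3] at h2
    exact absurd (hd.trans (dvd_mul_right _ _)) h2

theorem anchor_m {p : ℕ} [hp : Fact p.Prime] (hd : p ∣ m) (P : Sylow p G) :
    ∃ a ∈ (P : Subgroup G), a ∉ center G ∧ ∀ g ∈ (P : Subgroup G), g * a * g⁻¹ * a⁻¹ ∈ center G :=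
  Cfsg.Agent.Lib.H73Core.anchor_of P (sylow_not_center hC (hd.trans (dvd_mul_right _ _)) P)
    (center_of_sylow hC hd P)

theorem exists_primary_of_dvd {s : ℕ} (hs : s.Prime) (hd : s ∣ m * n) :
    ∃ a : G, a ∉ center G ∧ IsPrimary s a := by
  haveI : Fact s.Prime := ⟨hs⟩
  let S : Sylow s G := default
  obtain ⟨a, haS, haz⟩ := SetLike.not_le_iff_exists.1 (sylow_not_center hC hd S)
  exact ⟨a, haz, Cfsg.Agent.Lib.H73Core.isPrimary_of_mem_sylow S haS⟩

/-- `P1`: noncentral primary elements exist in every centralizer, for primes dividing `m`. -/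
theorem dvd_rel_center {p : ℕ} (hp : p.Prime) (hpm : p ∣ m) {x : G} (hx : x ∉ center G) :
    p ∣ (center G).relIndex (cen x) := by
  obtain ⟨w, hwz, hwp⟩ := exists_primary_of_dvd hC hp (hpm.trans (dvd_mul_right _ _))
  have hw := dvd_relIndex_of_primary hp hwz hwp
  have h1 := relIndex_mul_index (center_le_cen w)
  have h2 := relIndex_mul_index (center_le_cen x)
  have hm := m_pos hC
  have hpn : ¬ p ∣ n := fun h => hp.one_lt.ne' (Nat.eq_one_of_dvd_coprimes hC.hcop hpm h)
  rcases noncentral hC w hwz with h3 | h3 <;> rcases noncentral hC x hx with h4 | h4 <;> rw [h3] at h1 <;> rw [h4] at h2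
  · have h5 := Nat.eq_of_mul_eq_mul_right hm (h1.trans h2.symm)
    rwa [← h5]
  · have h5 : (center G).relIndex (cen w) * m = ((center G).relIndex (cen x) * n) * m := by
      rw [h1, ← h2]
      ring
    have h6 := Nat.eq_of_mul_eq_mul_right hm h5
    rw [h6] at hw
    exact ((hp.dvd_mul).1 hw).resolve_right hpn
  · have h5 : ((center G).relIndex (cen w) * n) * m = (center G).relIndex (cen x) * m := by
      rw [h2, ← h1]
      ring
    have h6 := Nat.eq_of_mul_eq_mul_right hm h5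
    rw [← h6]
    exact hw.trans (dvd_mul_right _ _)
  · have h5 := Nat.eq_of_mul_eq_mul_right (mn_pos hC) (h1.trans h2.symm)
    rwa [← h5]

/-- A noncentral primary element inside a centralizer. -/
theorem exists_primary_in_cen {p : ℕ} (hp : p.Prime) (hpm : p ∣ m) {x : G} (hx : x ∉ center G) :
    ∃ w ∈ cen x, w ∉ center G ∧ IsPrimary p w := by
  haveI : Fact p.Prime := ⟨hp⟩
  haveI := normal_center_subgroupOf (G := G) (cen x)
  exact exists_primary_of_dvd_relIndex hp (center G) (cen x) inferInstance (dvd_rel_center hC hp hpm hx)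

omit hC in
/-- Splitting inside a subgroup. -/
theorem split_in {t : ℕ} (ht : t.Prime) {T : Subgroup G} {x : G} (hx : x ∈ T) :
    ∃ a ∈ T, ∃ b ∈ T, x = a * b ∧ a * b = b * a ∧ IsPrimary t a ∧ (orderOf b).Coprime t ∧
      orderOf a ∣ orderOf x ∧ orderOf b ∣ orderOf x := by
  obtain ⟨a, b, h1, h2, h3, h4, h5, h6⟩ := exists_primary_split ht x
  exact ⟨a, (zpowers_le.2 hx) h5, b, (zpowers_le.2 hx) h6, h1, h2, h3, h4,
    orderOf_dvd_of_mem_zpowers h5, orderOf_dvd_of_mem_zpowers h6⟩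

/-- `Hyp` at small primary elements, when `n` is a power of `q`. -/
theorem hyp_small {q b : ℕ} [hq : Fact q.Prime] (hnq : n = q ^ b) {e : G} (he : IsPrimary q e)
    (hes : (cen e).index = m) : Cfsg.Agent.S4034.Hyp q (cen e) := by
  intro x hx
  rw [index_centralizer_subtype]
  have hxe : (e : G) * x = x * e := (mem_cen.1 x.2).symm
  have hx' : (orderOf (x : G)).Coprime q := by rwa [Subgroup.orderOf_coe]
  have hc : (orderOf e).Coprime (orderOf (x : G)) := by
    obtain ⟨k, hk⟩ := he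
    exact Nat.Coprime.coprime_dvd_left (orderOf_dvd_of_pow_eq_one hk) (Nat.Coprime.pow_left _ hx'.symm)
  rcases rel_small hC hes hxe hc with h | h
  · exact ⟨0, by rw [h]; simp⟩
  · exact ⟨b, by rw [h, hnq]⟩

/-- Hall conjugacy in the centralizer of a small primary element. -/
theorem conj_of_hall {q b v : ℕ} [hq : Fact q.Prime] (hnq : n = q ^ b) {e : G} (he : IsPrimary q e)
    (hes : (cen e).index = m) {W : Subgroup G} (hW : W ≤ cen e) (hWc : ¬ q ∣ Nat.card W)
    (hcard : Nat.card (cen e) = Nat.card W * q ^ v) {c : G} (hc : c ∈ cen e)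
    (hcq : (orderOf c).Coprime q) : ∃ g ∈ cen e, g * c * g⁻¹ ∈ W := by
  have hyp := hyp_small hC hnq he hes
  haveI := Cfsg.Agent.S4034.solvable_of_hyp (cen e) hyp
  have hcop : (Nat.card W).Coprime (q ^ v) :=
    Nat.Coprime.pow_right _ ((Nat.Coprime.symm ((Nat.Prime.coprime_iff_not_dvd hq.out).2 hWc)))
  have hH : Nat.card (W.subgroupOf (cen e)) = Nat.card W :=
    Nat.card_congr (Subgroup.subgroupOfEquivOfLe hW).toEquiv
  obtain ⟨-, hall⟩ := Cfsg.Agent.Lib.Hall.hall_main _ (cen e) (Nat.card W) (q ^ v) rfl hcard hcop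
  let c' : cen e := ⟨c, hc⟩
  obtain ⟨g, hg⟩ := hall (W.subgroupOf (cen e)) (zpowers c') hH (by
    rw [Nat.card_zpowers, ← Subgroup.orderOf_coe]
    exact Nat.Coprime.pow_right _ hcq)
  have h1 : c' ∈ MulAut.conj g • (W.subgroupOf (cen e)) := hg (mem_zpowers c')
  rw [Cfsg.Agent.Lib.PCore.mem_conj_smul_iff] at h1
  refine ⟨(g⁻¹ : cen e), (g⁻¹ : cen e).2, ?_⟩
  have h2 : ((g⁻¹ * c' * g : cen e) : G) ∈ W := h1
  simpa using h2

/-- Abelian subgroups in the centralizer of a small primary element. -/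
theorem abelian_of_small {q b : ℕ} [hq : Fact q.Prime] (hnq : n = q ^ b) {e : G} (he : IsPrimary q e)
    (hes : (cen e).index = m) {L : Subgroup G} (hL : L ≤ cen e) (hLc : (Nat.card L).Coprime q) :
    ∀ x ∈ L, ∀ y ∈ L, x * y = y * x := by
  have hyp := hyp_small hC hnq he hes
  haveI := Cfsg.Agent.S4034.solvable_of_hyp (cen e) hyp
  obtain ⟨Y, hYab, hYc, k, hk⟩ := Cfsg.Agent.S4034.exists_complement hyp
  have hcop : (Nat.card Y).Coprime (q ^ k) :=
    Nat.Coprime.pow_right _ ((Nat.Coprime.symm ((Nat.Prime.coprime_iff_not_dvd hq.out).2 hYc)))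
  have hcard : Nat.card (cen e) = Nat.card Y * q ^ k := by
    rw [← hk]
    exact (card_mul_index Y).symm
  obtain ⟨-, hall⟩ := Cfsg.Agent.Lib.Hall.hall_main _ (cen e) (Nat.card Y) (q ^ k) rfl hcard hcop
  have hK : Nat.card (L.subgroupOf (cen e)) = Nat.card L :=
    Nat.card_congr (Subgroup.subgroupOfEquivOfLe hL).toEquiv
  obtain ⟨g, hg⟩ := hall Y (L.subgroupOf (cen e)) rfl (by
    rw [hK]
    exact Nat.Coprime.pow_right _ hLc)
  intro x hx y hy
  have hx1 : (⟨x, hL hx⟩ : cen e) ∈ MulAut.conj g • Y := hg hx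
  have hy1 : (⟨y, hL hy⟩ : cen e) ∈ MulAut.conj g • Y := hg hy
  rw [Cfsg.Agent.Lib.PCore.mem_conj_smul_iff] at hx1 hy1
  have h3 := hYab.is_comm.comm (⟨_, hx1⟩ : Y) ⟨_, hy1⟩
  have h4 : g⁻¹ * ⟨x, hL hx⟩ * g * (g⁻¹ * ⟨y, hL hy⟩ * g) = g⁻¹ * ⟨y, hL hy⟩ * g * (g⁻¹ * ⟨x, hL hx⟩ * g) :=
    congrArg (fun z : Y => (z : cen e)) h3
  have h5 : (⟨x, hL hx⟩ : cen e) * ⟨y, hL hy⟩ = ⟨y, hL hy⟩ * ⟨x, hL hx⟩ := by
    have h6 := congrArg (fun z : cen e => g * z * g⁻¹) h4
    simpa [mul_assoc] using h6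
  exact congrArg Subtype.val h5

end CS

end Cfsg.Agent.Lib.H73CS
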