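import Mathlib
import Cfsg.Agent.Lib.H73CS
import Cfsg.Agent.Lib.BrolineGT

/-!
# Groups with class sizes `1, m, mn`: the centralizer of a small primary element
-/

set_option autoImplicit false
set_option linter.style.haveILetI false
set_option linter.unusedVariables false
set_option linter.unusedSectionVars false
open scoped Pointwise commutatorElement

namespace Cfsg.Agent.Lib.H73CaseS

open Subgroup Cfsg.Agent.Lib.ItoTwo Cfsg.Agent.Lib.H73CS

section

variable {G : Type*} [Group G] [Finite G] {m n : ℕ} (hC : CS m n G) {p : ℕ} [hp : Fact p.Prime]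
  (hpm : p ∣ m) {u : G} (huz : u ∉ center G) (hup : IsPrimary p u) (hus : (cen u).index = m)

include hC hpm in
theorem p_not_dvd_n : ¬ p ∣ n := fun h => hp.out.one_lt.ne' (Nat.eq_one_of_dvd_coprimes hC.hcop hpm h)

include hC hup hus in
theorem T_rel {y : G} (hy : y ∈ cen u) (hyr : (orderOf y).Coprime p) :
    (cen y).relIndex (cen u) = 1 ∨ (cen y).relIndex (cen u) = n := by
  apply rel_small hC hus (mem_cen.1 hy).symm
  obtain ⟨k, hk⟩ := hup
  exact Nat.Coprime.coprime_dvd_left (orderOf_dvd_of_pow_eq_one hk) (Nat.Coprime.pow_left _ hyr.symm)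

include hC hup hus in
theorem T_hX : ∀ x : cen u, (orderOf x).Coprime p → (cen x).index = 1 ∨ (cen x).index = n := by
  intro x hx
  rw [index_centralizer_subtype]
  exact T_rel hC hup hus x.2 (by rwa [Subgroup.orderOf_coe])

include hC hpm hup hus in
theorem T_P : ∃ PT : Subgroup G, IsPGroup p PT ∧ PT ≤ cen u ∧ (∀ s ∈ cen u, IsPrimary p s → s ∈ PT) ∧
    ∀ s ∈ PT, ∀ y ∈ cen u, (orderOf y).Coprime p → s * y = y * s := by
  obtain ⟨⟨P, hPp, hPmem, hPc⟩, -⟩ := rel_ito hC.hn (p_not_dvd_n hC hpm) (T_hX hC hup hus)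
  refine ⟨P.map (cen u).subtype, hPp.map _, ?_, ?_, ?_⟩
  · rintro _ ⟨x, -, rfl⟩
    exact x.2
  · intro s hs hsp
    exact ⟨⟨s, hs⟩, hPmem _ (isPrimary_coe.2 hsp), rfl⟩
  · rintro _ ⟨s, hs, rfl⟩ y hy hyr
    have := hPc s hs ⟨y, hy⟩ (by rwa [← Subgroup.orderOf_coe])
    exact congrArg Subtype.val this

include hC hus in
/-- `S2`, the main argument. -/
theorem S2_main {q b : ℕ} [hq : Fact q.Prime] (hqp : q ≠ p) (hnq : n = q ^ b) {PT : Subgroup G}
    (hPTp : IsPGroup p PT) (hPTT : PT ≤ cen u) (hPTm : ∀ s ∈ cen u, IsPrimary p s → s ∈ PT)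
    (hPTc : ∀ s ∈ PT, ∀ y ∈ cen u, (orderOf y).Coprime p → s * y = y * s)
    (hup : IsPrimary p u)
    (hcent : ∀ y ∈ cen u, (orderOf y).Coprime p → (orderOf y).Coprime q → ∀ t ∈ cen u, t * y = y * t)
    {z₀ : G} (hz₀ : z₀ ∈ cen u) (hz₀p : IsPrimary q z₀) (hz₀n : ∃ t ∈ cen u, t * z₀ ≠ z₀ * t)
    (hz₀r : (cen z₀).relIndex (cen u) = n) : False := by
  classical
  have hqn : q ∣ n := by
    rw [hnq]
    apply dvd_pow_self
    rintro rfl
    rw [pow_zero] at hnq
    exact n_ne hC hnq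
  have hqm : ¬ q ∣ m := fun h => hq.out.one_lt.ne' (Nat.eq_one_of_dvd_coprimes hC.hcop h hqn)
  have hpq : (orderOf z₀).Coprime p := by
    obtain ⟨k, hk⟩ := hz₀p
    exact Nat.Coprime.coprime_dvd_left (orderOf_dvd_of_pow_eq_one hk)
      (Nat.Coprime.pow_left _ ((Nat.coprime_primes hq.out hp.out).2 hqp))
  have hprimP : ∀ s ∈ PT, IsPrimary p s := by
    intro s hs
    obtain ⟨k, hk⟩ := IsPGroup.iff_orderOf.1 hPTp ⟨s, hs⟩
    refine ⟨k, ?_⟩
    have := pow_orderOf_eq_one (⟨s, hs⟩ : PT)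
    rw [hk] at this
    exact congrArg Subtype.val this
  have hz₀z : z₀ ∉ center G := by
    intro h
    obtain ⟨t, -, hne⟩ := hz₀n
    exact hne ((mem_center_iff.1 h) t)
  -- `PT` is abelian
  have hPTz : PT ≤ cen z₀ := by
    intro s hs
    exact mem_cen.2 (hPTc s hs z₀ hz₀ hpq)
  have hPTc' : (Nat.card PT).Coprime q := by
    obtain ⟨k, hk⟩ := IsPGroup.iff_card.1 hPTp
    rw [hk]
    exact Nat.Coprime.pow_left _ ((Nat.coprime_primes hp.out hq.out).2 (Ne.symm hqp))
  have hA : ∀ s ∈ PT, ∀ s' ∈ PT, s * s' = s' * s := by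
    rcases noncentral hC z₀ hz₀z with hs | hb
    · exact abelian_of_small hC hnq hz₀p hs hPTz hPTc'
    · intro s hs s' hs'
      have hcop : (orderOf z₀).Coprime (orderOf s') := by
        obtain ⟨k, hk⟩ := hprimP s' hs'
        exact Nat.Coprime.coprime_dvd_right (orderOf_dvd_of_pow_eq_one hk) (Nat.Coprime.pow_right _ hpq)
      have h1 := flat_big hC hb (mem_cen.1 (hPTz hs')).symm hcop
      exact mem_cen.1 (h1 (hPTz hs))
  -- `q'`-elements of `T` are central in `T`
  have hW : ∀ x ∈ cen u, (orderOf x).Coprime q → ∀ t ∈ cen u, t * x = x * t := by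
    intro x hx hxq t ht
    obtain ⟨a, ha, c, hc, hxe, hac, hap, hcr, hao, hco⟩ := split_in hp.out hx
    obtain ⟨a', ha', c', hc', hte, hac', hap', hcr', hao', hco'⟩ := split_in hp.out ht
    have hcq : (orderOf c).Coprime q := Nat.Coprime.coprime_dvd_left hco hxq
    have h1 : t * c = c * t := hcent c hc hcr hcq t ht
    have ha₁ := hPTm a ha hap
    have ha₁' := hPTm a' ha' hap'
    have h2 : a' * a = a * a' := hA a' ha₁' a ha₁
    have h3 : a * c' = c' * a := hPTc a ha₁ c' hc' hcr'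
    have h4 : t * a = a * t := by
      rw [hte]
      calc a' * c' * a = a' * (a * c') := by rw [h3]; group
        _ = (a' * a) * c' := by group
        _ = (a * a') * c' := by rw [h2]
        _ = _ := by group
    rw [hxe]
    calc t * (a * c) = (t * a) * c := by group
      _ = (a * t) * c := by rw [h4]
      _ = a * (t * c) := by group
      _ = a * (c * t) := by rw [h1]
      _ = _ := by group
  -- the subgroup `W`
  let W : Subgroup G :=
    { carrier := {x | x ∈ cen u ∧ (orderOf x).Coprime q}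
      one_mem' := ⟨one_mem _, by simp⟩
      mul_mem' := by
        rintro x y ⟨hx, hxq⟩ ⟨hy, hyq⟩
        exact ⟨mul_mem hx hy, Cfsg.Agent.Lib.H73Core.reg_mul (hW y hy hyq x hx) hxq hyq⟩
      inv_mem' := by
        rintro x ⟨hx, hxq⟩
        refine ⟨inv_mem hx, ?_⟩
        rw [orderOf_inv]
        exact hxq }
  have hWmem : ∀ x, x ∈ W ↔ x ∈ cen u ∧ (orderOf x).Coprime q := fun x => Iff.rfl
  have hWT : W ≤ cen u := fun x hx => ((hWmem x).1 hx).1
  have hWc : ∀ x ∈ W, ∀ t ∈ cen u, t * x = x * t := fun x hx t ht =>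
    hW x ((hWmem x).1 hx).1 ((hWmem x).1 hx).2 t ht
  have hqW : ¬ q ∣ Nat.card W := by
    intro hd
    obtain ⟨x, hx⟩ := exists_prime_orderOf_dvd_card' q hd
    have h1 := ((hWmem _).1 x.2).2
    rw [Subgroup.orderOf_coe, hx] at h1
    exact hq.out.one_lt.ne' ((Nat.coprime_self q).1 h1)
  -- the index of `W` in `T` is a power of `q`
  have hv : ∃ v, Nat.card (cen u) = Nat.card W * q ^ v := by
    have hN : (W.subgroupOf (cen u)).Normal := by
      constructor
      intro x hx y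
      have h1 : (y : G) * x = x * y := hWc _ hx y y.2
      have : y * x * y⁻¹ = x := by
        apply Subtype.ext
        show (y : G) * x * (y : G)⁻¹ = x
        rw [h1]
        group
      rw [this]
      exact hx
    have hr : ∀ {r : ℕ}, r.Prime → r ∣ W.relIndex (cen u) → r = q := by
      intro r hr hd
      haveI : Fact r.Prime := ⟨hr⟩
      have hd' : r ∣ Nat.card (cen u ⧸ W.subgroupOf (cen u)) := hd
      obtain ⟨x, hx⟩ := exists_prime_orderOf_dvd_card' r hd'
      induction x using QuotientGroup.induction_on with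
      | H t =>
        obtain ⟨a, ha, c, hc, hte, hac, ⟨k, hk⟩, hcq, -, -⟩ := split_in hq.out t.2
        have h1 : ((t : cen u) : cen u ⧸ W.subgroupOf (cen u)) = ((⟨a, ha⟩ : cen u) : cen u ⧸ W.subgroupOf (cen u)) := by
          have h2 : t = ⟨a, ha⟩ * ⟨c, hc⟩ := Subtype.ext hte
          have h3 : ((⟨c, hc⟩ : cen u) : cen u ⧸ W.subgroupOf (cen u)) = 1 :=
            (QuotientGroup.eq_one_iff _).2 ((hWmem c).2 ⟨hc, hcq⟩)
          rw [h2, QuotientGroup.mk_mul, h3, mul_one]
        rw [h1] at hx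
        have h4 : ((⟨a, ha⟩ : cen u) : cen u ⧸ W.subgroupOf (cen u)) ^ (q ^ k) = 1 := by
          rw [← QuotientGroup.mk_pow]
          have : (⟨a, ha⟩ : cen u) ^ (q ^ k) = 1 := Subtype.ext hk
          rw [this, QuotientGroup.mk_one]
        have h5 := orderOf_dvd_of_pow_eq_one h4
        rw [hx] at h5
        exact (Nat.prime_dvd_prime_iff_eq hr hq.out).1 (hr.dvd_of_dvd_pow h5)
    have hne : W.relIndex (cen u) ≠ 0 := by
      exact index_ne_zero_of_finite
    obtain ⟨v, hv⟩ : ∃ v, W.relIndex (cen u) = q ^ v :=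
      ⟨_, Nat.eq_prime_pow_of_unique_prime_dvd hne (fun {r} h1 h2 => hr h1 h2)⟩
    refine ⟨v, ?_⟩
    rw [← hv]
    exact card_eq_mul_relIndex hWT
  obtain ⟨v, hv⟩ := hv
  -- a Sylow `q`-subgroup in `T`
  have hnd : ¬ q ∣ (cen u).index := by rwa [hus]
  let Q₀ : Sylow q G := default
  obtain ⟨g₀, hg₀⟩ := exists_conj_le_of_not_dvd_index Q₀ (cen u) hnd
  let Q : Sylow q G := g₀⁻¹ • Q₀
  have hQT : (Q : Subgroup G) ≤ cen u := by
    intro x hx
    have h1 := (mem_smul_sylow_iff g₀⁻¹ Q₀ x).1 hx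
    have h2 := hg₀ _ h1
    have h3 : g₀⁻¹ * (g₀⁻¹⁻¹ * x * g₀⁻¹) * g₀ = x := by group
    rwa [h3] at h2
  -- conjugating into `T`
  have hconjT : ∀ c : G, (orderOf c).Coprime q → ∃ g : G, g * c * g⁻¹ ∈ cen u := by
    intro c hc
    let D₁ : Sylow q (cen c) := default
    let D : Subgroup G := (D₁ : Subgroup (cen c)).map (cen c).subtype
    have hDp : IsPGroup q D := D₁.isPGroup'.map _
    have hDcard : Nat.card D = q ^ (Nat.card (cen c)).factorization q := by
      have h1 : Nat.card D = Nat.card (D₁ : Subgroup (cen c)) :=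
        Nat.card_congr (Subgroup.equivMapOfInjective _ _ (cen c).subtype_injective).toEquiv.symm
      rw [h1]
      exact D₁.card_eq_multiplicity
    have hDc : q ^ ((Nat.card (cen u)).factorization q - b) ∣ Nat.card D := by
      rw [hDcard]
      apply pow_dvd_pow
      have h1 := card_mul_index (cen c)
      have h2 := card_mul_index (cen u)
      rw [hus] at h2
      have h3 : (Nat.card (cen c) * (cen c).index).factorization q = (Nat.card (cen u) * m).factorization q := by
        rw [h1, h2]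
      have hcc0 : Nat.card (cen c) ≠ 0 := Nat.card_pos.ne'
      have hcu0 : Nat.card (cen u) ≠ 0 := Nat.card_pos.ne'
      have hi0 : (cen c).index ≠ 0 := index_ne_zero_of_finite
      have hm0 : m ≠ 0 := (m_pos hC).ne'
      rw [Nat.factorization_mul hcc0 hi0, Nat.factorization_mul hcu0 hm0] at h3
      simp only [Finsupp.add_apply] at h3
      have h4 : m.factorization q = 0 := Nat.factorization_eq_zero_of_not_dvd hqm
      have h5 : (cen c).index.factorization q ≤ b := by
        have h6 : (cen c).index ∣ m * q ^ b := by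
          rcases hC.all c with h | h | h
          · rw [h]; exact one_dvd _
          · rw [h]; exact dvd_mul_right _ _
          · rw [h, hnq]
        have h7 : (cen c).index.factorization q ≤ (m * q ^ b).factorization q :=
          (Nat.factorization_le_iff_dvd hi0 (Nat.mul_ne_zero hm0 (pow_ne_zero _ hq.out.ne_zero))).2 h6 q
        rw [Nat.factorization_mul hm0 (pow_ne_zero _ hq.out.ne_zero)] at h7
        simp only [Finsupp.add_apply, Nat.factorization_pow, Finsupp.smul_apply, smul_eq_mul] at h7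
        rw [hq.out.factorization_self, h4] at h7
        omega
      omega
    obtain ⟨g, e, he, he₁T, hne⟩ := exists_noncentral_q Q hQT hDp hDc hz₀ hz₀p hz₀n (by rw [hz₀r, hnq])
    set e₁ := g * e * g⁻¹ with he₁
    have hc₁ : g * c * g⁻¹ ∈ cen e₁ := by
      have h1 : e ∈ cen c := by
        obtain ⟨x, -, rfl⟩ := he
        exact x.2
      rw [mem_cen]
      have h2 := mem_cen.1 h1
      rw [he₁]
      calc g * c * g⁻¹ * (g * e * g⁻¹) = g * (c * e) * g⁻¹ := by group
        _ = g * (e * c) * g⁻¹ := by rw [h2]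
        _ = _ := by group
    have he₁z : e₁ ∉ center G := by
      intro h
      obtain ⟨t, -, hne'⟩ := hne
      exact hne' ((mem_center_iff.1 h) t)
    have he₁p : IsPrimary q e₁ := by
      apply isPrimary_conj
      obtain ⟨k, hk⟩ := IsPGroup.iff_orderOf.1 hDp ⟨e, he⟩
      refine ⟨k, ?_⟩
      have := pow_orderOf_eq_one (⟨e, he⟩ : D)
      rw [hk] at this
      exact congrArg Subtype.val this
    rcases noncentral hC e₁ he₁z with hs | hb'
    · -- small
      have hWe : W ≤ cen e₁ := fun x hx => mem_cen.2 (hWc x hx e₁ he₁T).symm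
      have hcard : Nat.card (cen e₁) = Nat.card W * q ^ v := by
        rw [← hv]
        have h1 := card_mul_index (cen e₁)
        have h2 := card_mul_index (cen u)
        rw [hs] at h1
        rw [hus] at h2
        exact Nat.eq_of_mul_eq_mul_right (m_pos hC) (h1.trans h2.symm)
      obtain ⟨g', -, hg'⟩ := conj_of_hall hC (v := v) hnq he₁p hs hWe hqW hcard hc₁ (by
        rw [orderOf_conj']
        exact hc)
      refine ⟨g' * g, hWT ?_⟩
      have h3 : g' * g * c * (g' * g)⁻¹ = g' * (g * c * g⁻¹) * g'⁻¹ := by group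
      rw [h3]
      exact hg'
    · -- big
      have hco : (orderOf e₁).Coprime (orderOf u) := by
        obtain ⟨k, hk⟩ := he₁p
        obtain ⟨l, hl⟩ := hup
        exact coprime_orderOf_of_isPrimary hq.out hp.out hqp ⟨k, hk⟩ ⟨l, hl⟩
      have h1 := flat_big hC hb' (mem_cen.1 he₁T) hco
      exact ⟨g, h1 hc₁⟩
  refine count_contra hq.out hus hC.hm hWT hWc hqW hqm ?_
  intro c hc
  obtain ⟨g, hg⟩ := hconjT c hc
  refine ⟨g, (hWmem _).2 ⟨hg, ?_⟩⟩
  rw [orderOf_conj']
  exact hc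

include hC hpm hup hus in
/-- `S2`: regular elements of `T` are central in `T`. -/
theorem T_reg_central : ∀ y ∈ cen u, (orderOf y).Coprime p → ∀ t ∈ cen u, t * y = y * t := by
  classical
  by_contra hcon
  push Not at hcon
  obtain ⟨y₀, hy₀, hy₀r, t₀, ht₀, hne⟩ := hcon
  have hX := T_hX hC hup hus
  obtain ⟨-, hito⟩ := rel_ito hC.hn (p_not_dvd_n hC hpm) hX
  obtain ⟨PT, hPTp, hPTT, hPTm, hPTc⟩ := T_P hC hpm hup hus
  have hrel : (cen y₀).relIndex (cen u) = n := by
    rcases T_rel hC hup hus hy₀ hy₀r with h | h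
    · exfalso
      exact hne (mem_cen.1 ((relIndex_eq_one.1 h) ht₀))
    · exact h
  obtain ⟨q, b, hq, hqp, hnq, hcent'⟩ := hito ⟨⟨y₀, hy₀⟩, by rw [Subgroup.orderOf_mk]; exact hy₀r, by
    rw [index_centralizer_subtype]
    exact hrel⟩
  haveI : Fact q.Prime := ⟨hq⟩
  have hcent : ∀ y ∈ cen u, (orderOf y).Coprime p → (orderOf y).Coprime q → ∀ t ∈ cen u, t * y = y * t := by
    intro y hy hyp hyq t ht
    have h1 := hcent' ⟨y, hy⟩ (by rw [Subgroup.orderOf_mk]; exact hyp) (by rw [Subgroup.orderOf_mk]; exact hyq)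
    have h2 := (mem_center_iff.1 h1) ⟨t, ht⟩
    exact congrArg Subtype.val h2
  -- the `q`-part of `y₀`
  obtain ⟨z, hz, z', hz', hye, hzc, hzp, hz'q, hzo, hz'o⟩ := split_in hq hy₀
  have hz'r : (orderOf z').Coprime p := Nat.Coprime.coprime_dvd_left hz'o hy₀r
  have hz'c := hcent z' hz' hz'r hz'q
  have hzr : (orderOf z).Coprime p := Nat.Coprime.coprime_dvd_left hzo hy₀r
  have hzn : ∃ t ∈ cen u, t * z ≠ z * t := by
    by_contra hcon
    push Not at hcon
    apply hne
    rw [hye]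
    calc t₀ * (z * z') = (t₀ * z) * z' := by group
      _ = (z * t₀) * z' := by rw [hcon t₀ ht₀]
      _ = z * (t₀ * z') := by group
      _ = z * (z' * t₀) := by rw [hz'c t₀ ht₀]
      _ = _ := by group
  have hzrel : (cen z).relIndex (cen u) = n := by
    rcases T_rel hC hup hus hz hzr with h | h
    · exfalso
      obtain ⟨t, ht, hne'⟩ := hzn
      exact hne' (mem_cen.1 ((relIndex_eq_one.1 h) ht))
    · exact h
  exact S2_main hC hus hqp hnq hPTp hPTT hPTm hPTc hup hcent hz hzp hzn hzrel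

/-- A Sylow subgroup inside a subgroup of index prime to the prime. -/
theorem exists_sylow_le_of_not_dvd {q : ℕ} [hq : Fact q.Prime] (T : Subgroup G) (h : ¬ q ∣ T.index) :
    ∃ Q : Sylow q G, (Q : Subgroup G) ≤ T := by
  let Q₀ : Sylow q G := default
  obtain ⟨g₀, hg₀⟩ := exists_conj_le_of_not_dvd_index Q₀ T h
  refine ⟨g₀⁻¹ • Q₀, ?_⟩
  intro x hx
  have h1 := (mem_smul_sylow_iff g₀⁻¹ Q₀ x).1 hx
  have h2 := hg₀ _ h1
  have h3 : g₀⁻¹ * (g₀⁻¹⁻¹ * x * g₀⁻¹) * g₀ = x := by group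
  rwa [h3] at h2

include hC hpm hup hus in
/-- `S3`: the centralizer `T` is abelian. -/
theorem T_abelian : ∀ a ∈ cen u, ∀ b ∈ cen u, a * b = b * a := by
  classical
  have hcen := T_reg_central hC hpm hup hus
  have hn1 : n ≠ 1 := n_ne hC
  have hq := Nat.minFac_prime hn1
  set q := n.minFac with hqdef
  have hqn : q ∣ n := Nat.minFac_dvd n
  haveI : Fact q.Prime := ⟨hq⟩
  have hqm : ¬ q ∣ m := fun h => hq.one_lt.ne' (Nat.eq_one_of_dvd_coprimes hC.hcop h hqn)
  have hqp : q ≠ p := by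
    intro h
    rw [h] at hqn
    exact p_not_dvd_n hC hpm hqn
  obtain ⟨Q, hQ⟩ := exists_sylow_le_of_not_dvd (q := q) (cen u) (by rwa [hus])
  obtain ⟨v, hvQ, hvz⟩ := SetLike.not_le_iff_exists.1 (sylow_not_center hC (hqn.trans (dvd_mul_left _ _)) Q)
  have hvp := Cfsg.Agent.Lib.H73Core.isPrimary_of_mem_sylow Q hvQ
  have hvr : (orderOf v).Coprime p := Cfsg.Agent.Lib.H73Core.isPrimary_reg hq hp.out hqp hvp
  have hvT : v ∈ cen u := hQ hvQ
  have hle : cen u ≤ cen v := fun t ht => mem_cen.2 (hcen v hvT hvr t ht)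
  obtain ⟨hvs, hveq⟩ := small_of_le hC hus hle hvz
  -- `p`-elements of `T` are central in `T`
  have hP : ∀ s ∈ cen u, IsPrimary p s → ∀ t ∈ cen u, t * s = s * t := by
    intro s hs hsp
    have hsv : v * s = s * v := (hcen v hvT hvr s hs).symm
    have hco : (orderOf v).Coprime (orderOf s) := coprime_orderOf_of_isPrimary hq hp.out hqp hvp hsp
    have hrel := rel_small hC hvs hsv hco
    rw [← hveq] at hrel
    have hQs : (Q : Subgroup G) ≤ cen s := by
      intro x hx
      have hxp := Cfsg.Agent.Lib.H73Core.isPrimary_of_mem_sylow Q hx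
      exact mem_cen.2 (hcen x (hQ hx) (Cfsg.Agent.Lib.H73Core.isPrimary_reg hq hp.out hqp hxp) s hs).symm
    have hndvd : ¬ q ∣ (cen s).relIndex (cen u) := by
      intro hd
      have h1 : (Q : Subgroup G) ≤ cen s ⊓ cen u := le_inf hQs hQ
      have h2 := relIndex_mul_index (inf_le_right : cen s ⊓ cen u ≤ cen u)
      rw [inf_relIndex_right] at h2
      have h3 : q ∣ (cen s ⊓ cen u).index := by
        rw [← h2]
        exact hd.trans (dvd_mul_right _ _)
      exact Q.not_dvd_index (h3.trans (index_dvd_of_le h1))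
    rcases hrel with h | h
    · intro t ht
      exact mem_cen.1 ((relIndex_eq_one.1 h) ht)
    · exfalso
      rw [h] at hndvd
      exact hndvd hqn
  intro a ha b hb
  obtain ⟨c, hc, d, hd, hae, hcd, hcp, hdr, -, -⟩ := split_in hp.out ha
  have h1 := hP c hc hcp b hb
  have h2 := hcen d hd hdr b hb
  rw [hae]
  calc c * d * b = c * (b * d) := by rw [mul_assoc, h2]
    _ = (c * b) * d := by group
    _ = (b * c) * d := by rw [h1]
    _ = _ := by group

end

section Abelian

variable {G : Type*} [Group G] [Finite G] {m n : ℕ} (hC : CS m n G) {T : Subgroup G}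
  (hTm : T.index = m) (hTab : ∀ a ∈ T, ∀ b ∈ T, a * b = b * a) (hTf : ∀ x ∈ T, x ∉ center G → cen x = T)
  {u : G} (huT : u ∈ T) (huz : u ∉ center G)

include hTab hTf huT huz in
theorem centralizer_T : centralizer (T : Set G) = T := by
  apply le_antisymm
  · intro x hx
    rw [mem_centralizer_iff] at hx
    rw [← hTf u huT huz, mem_cen]
    exact (hx u huT).symm
  · intro x hx
    rw [mem_centralizer_iff]
    intro y hy
    exact hTab y hy x hx

include hTf in
theorem mem_normalizer_of_conj {b g : G} (hb : b ∈ T) (hbz : b ∉ center G) (hg : g * b * g⁻¹ ∈ T) :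
    g ∈ normalizer (T : Set G) := by
  have hbz' : g * b * g⁻¹ ∉ center G := by
    intro hz
    apply hbz
    have := conj_mem_center (g := g⁻¹) hz
    have h3 : g⁻¹ * (g * b * g⁻¹) * g⁻¹⁻¹ = b := by group
    rwa [h3] at this
  have h1 := hTf _ hg hbz'
  have h2 := hTf _ hb hbz
  rw [mem_normalizer_iff]
  intro x
  have h3 : g⁻¹ * (g * x * g⁻¹) * g = x := by group
  constructor
  · intro hx
    rw [← h1, mem_cen_conj, h3, h2]
    exact hx
  · intro hx
    rw [← h1, mem_cen_conj, h3, h2] at hx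
    exact hx

theorem isPGroup_zpowers {r : ℕ} [hr : Fact r.Prime] {w : G} (hw : IsPrimary r w) : IsPGroup r (zpowers w) := by
  obtain ⟨k, hk⟩ := hw
  rw [IsPGroup.iff_orderOf]
  rintro ⟨x, hx⟩
  obtain ⟨i, rfl⟩ := mem_zpowers_iff.1 hx
  have h1 : ((w ^ i) ^ (r ^ k)) = 1 := by
    rw [← zpow_natCast, ← zpow_mul, mul_comm, zpow_mul, zpow_natCast, hk, one_zpow]
  have h2 : orderOf (⟨w ^ i, hx⟩ : zpowers w) ∣ r ^ k := by
    apply orderOf_dvd_of_pow_eq_one
    exact Subtype.ext h1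
  obtain ⟨j, -, hj⟩ := (Nat.dvd_prime_pow hr.out).1 h2
  exact ⟨j, hj⟩

include hC hTm hTf huT huz in
theorem exists_normalizing {r : ℕ} (hr : r.Prime) (hrm : r ∣ m) :
    ∃ x ∈ normalizer (T : Set G), x ∉ T ∧ IsPrimary r x := by
  classical
  haveI : Fact r.Prime := ⟨hr⟩
  obtain ⟨w, hw, hwz, hwp⟩ := exists_primary_in_cen hC hr hrm huz
  rw [hTf u huT huz] at hw
  obtain ⟨R, hR⟩ := (isPGroup_zpowers hwp).exists_le_sylow
  have hwR : w ∈ (R : Subgroup G) := hR (mem_zpowers w)
  have hRT : ¬ (R : Subgroup G) ≤ T := by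
    intro hle
    rw [← hTm] at hrm
    exact R.not_dvd_index (hrm.trans (index_dvd_of_le hle))
  haveI : Group.IsNilpotent (R : Subgroup G) := R.isPGroup'.isNilpotent
  let H : Subgroup (R : Subgroup G) := T.subgroupOf (R : Subgroup G)
  have hlt : H < ⊤ := by
    rw [lt_top_iff_ne_top]
    intro h
    exact hRT (Subgroup.subgroupOf_eq_top.1 h)
  have h2 := Group.normalizerCondition_of_isNilpotent H hlt
  obtain ⟨x, hxN, hxH⟩ := SetLike.exists_of_lt h2
  have hw' : (⟨w, hwR⟩ : (R : Subgroup G)) ∈ H := hw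
  have h3 := (mem_normalizer_iff.1 hxN _).1 hw'
  have h4 : (x : G) * w * (x : G)⁻¹ ∈ T := h3
  exact ⟨x, mem_normalizer_of_conj hTf hw hwz h4, hxH, Cfsg.Agent.Lib.H73Core.isPrimary_of_mem_sylow R x.2⟩

include hC hTm hTab hTf huT huz in
/-- Only one prime divides `m`. -/
theorem unique_prime {p r : ℕ} (hp : p.Prime) (hpm : p ∣ m) (hr : r.Prime) (hrm : r ∣ m) : r = p := by
  classical
  by_contra hne
  obtain ⟨gr, hgrN, hgrT, kr, hkr⟩ := exists_normalizing hC hTm hTf huT huz hr hrm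
  obtain ⟨gp, hgpN, hgpT, kp, hkp⟩ := exists_normalizing hC hTm hTf huT huz hp hpm
  obtain ⟨p₀, hp₀le, hp₀⟩ := Nat.exists_infinite_primes (r + p + 1)
  have hCT := centralizer_T hTab hTf huT huz
  refine Cfsg.Agent.Lib.H73Rep.wrapper T hTab hp₀ ?_ ?_ hr hp (by omega) (by omega) hne hgrN hgpN ?_ ?_ hkr hkp
  · intro g _ b hb hbz hc
    rw [hCT, ← hTf b hb hbz]
    exact mem_cen.2 hc
  · intro s hs _ hd
    rw [hCT, hTm] at hd
    obtain ⟨w, hw, hwz, e, he⟩ := exists_primary_in_cen hC hs hd huz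
    rw [hTf u huT huz] at hw
    exact ⟨w, hw, hwz, e, he⟩
  · rwa [hCT]
  · rwa [hCT]

omit [Finite G] in
theorem eq_one_of_primary_reg [Finite G] {p : ℕ} {x : G} (h1 : IsPrimary p x) (h2 : (orderOf x).Coprime p) : x = 1 := by
  obtain ⟨k, hk⟩ := h1
  have h3 : orderOf x = 1 := Nat.eq_one_of_dvd_coprimes (h2.pow_right k) dvd_rfl (orderOf_dvd_of_pow_eq_one hk)
  exact orderOf_eq_one_iff.1 h3

/-- A fixed coset. -/
theorem exists_fixed_coset {p : ℕ} [hp : Fact p.Prime] {V V₀ : Subgroup G} (hV₀V : V₀ ≤ V) (hVp : IsPGroup p V)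
    (hne : ¬ V ≤ V₀) (hN : (V₀.subgroupOf V).Normal) {u : G} {k : ℕ} (hu : u ^ (p ^ k) = 1)
    (huV : ∀ x ∈ V, u * x * u⁻¹ ∈ V) (huV₀ : ∀ x ∈ V₀, u * x * u⁻¹ ∈ V₀) :
    ∃ c ∈ V, c ∉ V₀ ∧ u * c * u⁻¹ * c⁻¹ ∈ V₀ := by
  classical
  let N : Subgroup V := V₀.subgroupOf V
  let φ : V →* V :=
    { toFun := fun x => ⟨u * x * u⁻¹, huV x x.2⟩
      map_one' := by
        apply Subtype.ext
        simp
      map_mul' := by
        intro x y
        apply Subtype.ext
        show u * ((x : G) * y) * u⁻¹ = u * x * u⁻¹ * (u * y * u⁻¹)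
        group }
  have hφN : N ≤ N.comap φ := by
    intro x hx
    exact huV₀ x hx
  let X := V ⧸ N
  let f : X →* X := QuotientGroup.map N N φ hφN
  let F : Function.End X := fun q => f q
  have hF1 : ∀ (i : ℕ) (x : V), (F ^ i) ((x : V) : X) =
      ((⟨u ^ i * x * (u ^ i)⁻¹, by
        induction i with
        | zero => simpa using x.2
        | succ i ih =>
          have h1 : u ^ (i + 1) * (x : G) * (u ^ (i + 1))⁻¹ = u * (u ^ i * x * (u ^ i)⁻¹) * u⁻¹ := by
            rw [pow_succ']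
            group
          rw [h1]
          exact huV _ ih⟩ : V) : X) := by
    intro i
    induction i with
    | zero =>
      intro x
      simp only [pow_zero, one_mul, inv_one, mul_one]
      rfl
    | succ i ih =>
      intro x
      rw [pow_succ']
      show F ((F ^ i) ((x : V) : X)) = _
      rw [ih x]
      show f _ = _
      show ((φ _ : V) : X) = _
      congr 1
      apply Subtype.ext
      show u * (u ^ i * x * (u ^ i)⁻¹) * u⁻¹ = u ^ (i + 1) * x * (u ^ (i + 1))⁻¹
      rw [pow_succ']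
      group
  have hF : F ^ p ^ k = 1 := by
    funext q
    induction q using QuotientGroup.induction_on with
    | H x =>
      rw [hF1 (p ^ k) x]
      have : (⟨u ^ p ^ k * x * (u ^ p ^ k)⁻¹, by rw [hu]; simpa using x.2⟩ : V) = x := by
        apply Subtype.ext
        show u ^ p ^ k * (x : G) * (u ^ p ^ k)⁻¹ = x
        rw [hu]
        group
      rw [show ((⟨u ^ p ^ k * x * (u ^ p ^ k)⁻¹, _⟩ : V) : X) = ((x : V) : X) from congrArg _ this]
      rfl
  haveI : Fintype X := Fintype.ofFinite X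
  have key := Equiv.Perm.card_fixedPoints_modEq (f := F) (p := p) (n := k) hF
  have key' : Nat.card X ≡ Nat.card F.fixedPoints [MOD p] := by
    rw [Nat.card_eq_fintype_card, Nat.card_eq_fintype_card]
    convert key
  have hpX : IsPGroup p X := hVp.to_quotient N
  obtain ⟨c₀, hc₀V, hc₀⟩ := SetLike.not_le_iff_exists.1 hne
  have hnt : (((⟨c₀, hc₀V⟩ : V)) : X) ≠ 1 := by
    intro h1
    exact hc₀ ((QuotientGroup.eq_one_iff (⟨c₀, hc₀V⟩ : V)).1 h1)
  haveI : Nontrivial X := ⟨⟨_, _, hnt⟩⟩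
  have hd : p ∣ Nat.card X := by
    obtain ⟨j, hj⟩ := IsPGroup.iff_card.1 hpX
    rw [hj]
    apply dvd_pow_self
    rintro rfl
    rw [pow_zero] at hj
    exact Finite.one_lt_card.ne' hj
  have hd2 : p ∣ Nat.card F.fixedPoints :=
    (Nat.modEq_zero_iff_dvd.1 (key'.symm.trans (Nat.modEq_zero_iff_dvd.2 hd)))
  have h1fix : (1 : X) ∈ F.fixedPoints := by
    show f 1 = 1
    exact map_one f
  have hcard : 1 < Nat.card F.fixedPoints := by
    have h2 : 0 < Nat.card F.fixedPoints := by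
      haveI : Nonempty F.fixedPoints := ⟨⟨1, h1fix⟩⟩
      exact Nat.card_pos
    have h3 := Nat.le_of_dvd h2 hd2
    have h4 := hp.out.two_le
    omega
  haveI : Nontrivial F.fixedPoints := (Finite.one_lt_card_iff_nontrivial).1 hcard
  obtain ⟨q, hq⟩ := exists_ne (⟨1, h1fix⟩ : F.fixedPoints)
  obtain ⟨q, hqfix⟩ := q
  have hq1 : q ≠ 1 := fun h => hq (Subtype.ext h)
  induction q using QuotientGroup.induction_on with
  | H x =>
    refine ⟨x, x.2, ?_, ?_⟩
    · intro hxZ
      apply hq1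
      exact (QuotientGroup.eq_one_iff _).2 hxZ
    · have h5 : F ((x : V) : X) = ((x : V) : X) := hqfix
      have h6 : ((φ x : V) : X) = ((x : V) : X) := h5
      have h7 := QuotientGroup.eq.1 h6
      have h8 : ((φ x)⁻¹ * x : V) ∈ N := h7
      -- conjugate by `x`
      have h9 : (x * ((φ x)⁻¹ * x)⁻¹ * x⁻¹ : V) ∈ N := hN.conj_mem _ (N.inv_mem h8) x |> fun h => by
        simpa using h
      have h10 : ((x * ((φ x)⁻¹ * x)⁻¹ * x⁻¹ : V) : G) = u * x * u⁻¹ * (x : G)⁻¹ := by
        show (x : G) * (((φ x : V) : G)⁻¹ * x)⁻¹ * (x : G)⁻¹ = _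
        show (x : G) * ((u * x * u⁻¹)⁻¹ * x)⁻¹ * (x : G)⁻¹ = _
        group
      rw [← h10]
      exact h9

/-- The relative index of a subgroup containing all `q'`-elements is a `q`-power. -/
theorem relIndex_prime_pow {q : ℕ} [hq : Fact q.Prime] {T W : Subgroup G} (hW : ∀ x ∈ T, (orderOf x).Coprime q → x ∈ W)
    (hN : (W.subgroupOf T).Normal) : ∃ v, W.relIndex T = q ^ v := by
  classical
  have hr : ∀ {r : ℕ}, r.Prime → r ∣ W.relIndex T → r = q := by
    intro r hr hd
    haveI : Fact r.Prime := ⟨hr⟩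
    have hd' : r ∣ Nat.card (T ⧸ W.subgroupOf T) := hd
    obtain ⟨x, hx⟩ := exists_prime_orderOf_dvd_card' r hd'
    induction x using QuotientGroup.induction_on with
    | H t =>
      obtain ⟨a, ha, c, hc, hte, hac, ⟨k, hk⟩, hcq, -, -⟩ := split_in hq.out t.2
      have h1 : ((t : T) : T ⧸ W.subgroupOf T) = ((⟨a, ha⟩ : T) : T ⧸ W.subgroupOf T) := by
        have h2 : t = ⟨a, ha⟩ * ⟨c, hc⟩ := Subtype.ext hte
        have h3 : ((⟨c, hc⟩ : T) : T ⧸ W.subgroupOf T) = 1 :=
          (QuotientGroup.eq_one_iff _).2 (hW c hc hcq)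
        rw [h2, QuotientGroup.mk_mul, h3, mul_one]
      rw [h1] at hx
      have h4 : ((⟨a, ha⟩ : T) : T ⧸ W.subgroupOf T) ^ (q ^ k) = 1 := by
        rw [← QuotientGroup.mk_pow]
        have : (⟨a, ha⟩ : T) ^ (q ^ k) = 1 := Subtype.ext hk
        rw [this, QuotientGroup.mk_one]
      have h5 := orderOf_dvd_of_pow_eq_one h4
      rw [hx] at h5
      exact (Nat.prime_dvd_prime_iff_eq hr hq.out).1 (hr.dvd_of_dvd_pow h5)
  have hne : W.relIndex T ≠ 0 := index_ne_zero_of_finite
  exact ⟨_, Nat.eq_prime_pow_of_unique_prime_dvd hne (fun {r} h1 h2 => hr h1 h2)⟩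

include hC hTm hTab hTf huT huz in
/-- The normal `p`-core lies in `T`. -/
theorem core_le_T {p a : ℕ} [hp : Fact p.Prime] (hup : IsPrimary p u) (hma : m = p ^ a) :
    Cfsg.pCore p G ≤ T := by
  classical
  by_contra hVT
  have hu₀ := hTf u huT huz
  set V := Cfsg.pCore p G with hVdef
  have hVp : IsPGroup p V := Cfsg.Agent.Lib.PCore.isPGroup_pCore p
  haveI hVc := Cfsg.Agent.Lib.PCore.pCore_characteristic (G := G) p
  haveI hVn : V.Normal := Subgroup.normal_of_characteristic _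
  have hprimV : ∀ x ∈ V, IsPrimary p x := by
    intro s hs
    obtain ⟨k, hk⟩ := IsPGroup.iff_orderOf.1 hVp ⟨s, hs⟩
    refine ⟨k, ?_⟩
    have := pow_orderOf_eq_one (⟨s, hs⟩ : V)
    rw [hk] at this
    exact congrArg Subtype.val this
  -- a noncentral regular element
  have hn1 : n ≠ 1 := n_ne hC
  have hq := Nat.minFac_prime hn1
  set q := n.minFac with hqdef
  have hqn : q ∣ n := Nat.minFac_dvd n
  haveI : Fact q.Prime := ⟨hq⟩
  have hqm : ¬ q ∣ m := fun h => hq.one_lt.ne' (Nat.eq_one_of_dvd_coprimes hC.hcop h hqn)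
  have hqp : q ≠ p := by
    intro h
    apply hqm
    have hpn : p ∣ n := h ▸ hqn
    exfalso
    have ha0 : a ≠ 0 := by
      rintro rfl
      rw [pow_zero] at hma
      exact m_ne hC hma
    have hpm : p ∣ m := by
      rw [hma]
      exact dvd_pow_self p ha0
    exact hp.out.one_lt.ne' (Nat.eq_one_of_dvd_coprimes hC.hcop hpm hpn)
  obtain ⟨Q, hQ⟩ := Cfsg.Agent.Lib.H73CaseS.exists_sylow_le_of_not_dvd (q := q) T (by rwa [hTm])
  obtain ⟨y, hyQ, hyz⟩ := SetLike.not_le_iff_exists.1 (sylow_not_center hC (hqn.trans (dvd_mul_left _ _)) Q)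
  have hyp := Cfsg.Agent.Lib.H73Core.isPrimary_of_mem_sylow Q hyQ
  have hyr : (orderOf y).Coprime p := Cfsg.Agent.Lib.H73Core.isPrimary_reg hq hp.out hqp hyp
  have hyT : y ∈ T := hQ hyQ
  have hcy : cen y = T := hTf y hyT hyz
  by_cases hcase : ∃ b ∈ V, b ∈ T ∧ b ∉ center G
  · -- Case 1
    obtain ⟨b, hbV, hbT, hbz⟩ := hcase
    haveI : Group.IsNilpotent V := hVp.isNilpotent
    let H : Subgroup V := T.subgroupOf V
    have hlt : H < ⊤ := by
      rw [lt_top_iff_ne_top]
      intro h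
      exact hVT (Subgroup.subgroupOf_eq_top.1 h)
    have h2 := Group.normalizerCondition_of_isNilpotent H hlt
    obtain ⟨x, hxN, hxH⟩ := SetLike.exists_of_lt h2
    have hb' : (⟨b, hbV⟩ : V) ∈ H := hbT
    have h3 := (mem_normalizer_iff.1 hxN _).1 hb'
    have h4 : (x : G) * b * (x : G)⁻¹ ∈ T := h3
    have hxNT := mem_normalizer_of_conj hTf hbT hbz h4
    have h5 : (x : G) * y * (x : G)⁻¹ ∈ T := (mem_normalizer_iff.1 hxNT _).1 hyT
    set d := (x : G) * y * (x : G)⁻¹ * y⁻¹ with hd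
    have hdT : d ∈ T := mul_mem h5 (inv_mem hyT)
    have hdV : d ∈ V := by
      have h6 : d = (x : G) * (y * (x : G)⁻¹ * y⁻¹) := by rw [hd]; group
      rw [h6]
      exact mul_mem x.2 (hVn.conj_mem _ (inv_mem x.2) y)
    have hdr : (orderOf d).Coprime p := by
      have hr1 : (orderOf ((x : G) * y * (x : G)⁻¹)).Coprime p := by rw [orderOf_conj']; exact hyr
      have hr2 : (orderOf y⁻¹).Coprime p := by rw [orderOf_inv]; exact hyr
      exact Cfsg.Agent.Lib.H73Core.reg_mul (hTab _ h5 _ (inv_mem hyT)) hr1 hr2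
    have hd1 : d = 1 := eq_one_of_primary_reg (hprimV d hdV) hdr
    have h7 : (x : G) * y = y * x := by
      have h8 : (x : G) * y * (x : G)⁻¹ = y := by
        rw [hd] at hd1
        exact mul_inv_eq_one.1 hd1
      exact mul_inv_eq_iff_eq_mul.1 h8
    apply hxH
    show (x : G) ∈ T
    rw [← hcy, mem_cen]
    exact h7
  · -- Case 2
    push Not at hcase
    have hV₀n : ((V ⊓ T).subgroupOf V).Normal := by
      constructor
      intro x hx g
      have hx' : (x : G) ∈ V ⊓ T := hx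
      have hxz : (x : G) ∈ center G := hcase _ hx'.1 hx'.2
      have h1 := (mem_center_iff.1 hxz) (g : G)
      have : g * x * g⁻¹ = x := by
        apply Subtype.ext
        show (g : G) * x * (g : G)⁻¹ = x
        rw [h1]
        group
      rw [this]
      exact hx
    obtain ⟨k, hk⟩ := hup
    obtain ⟨c, hcV, hcV₀, hcz⟩ := exists_fixed_coset (V := V) (V₀ := V ⊓ T) inf_le_left hVp
      (fun h => hVT (h.trans inf_le_right)) hV₀n hk (fun x hx => hVn.conj_mem x hx u) (by
        rintro x ⟨hx1, hx2⟩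
        have hxz := hcase x hx1 hx2
        have h1 := (mem_center_iff.1 hxz) u
        have : u * x * u⁻¹ = x := by
          rw [h1]
          group
        rw [this]
        exact ⟨hx1, hx2⟩)
    have hcT : c ∉ T := fun h => hcV₀ ⟨hcV, h⟩
    set z := u * c * u⁻¹ * c⁻¹ with hz
    have hzc : z ∈ center G := hcase z hcz.1 hcz.2
    have huc : u * c * u⁻¹ = z * c := by rw [hz]; group
    have huy : u * y = y * u := hTab u huT y hyT
    set c₁ := y * c * y⁻¹ with hc₁
    have hc₁V : c₁ ∈ V := hVn.conj_mem c hcV y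
    have huc₁ : u * c₁ * u⁻¹ = z * c₁ := by
      have h1 : u * c₁ * u⁻¹ = y * (u * c * u⁻¹) * y⁻¹ := by
        rw [hc₁]
        calc u * (y * c * y⁻¹) * u⁻¹ = (u * y) * c * (u * y)⁻¹ := by group
          _ = (y * u) * c * (y * u)⁻¹ := by rw [huy]
          _ = _ := by group
      rw [h1, huc]
      have h2 := (mem_center_iff.1 hzc) y
      rw [hc₁]
      calc y * (z * c) * y⁻¹ = (y * z) * c * y⁻¹ := by group
        _ = (z * y) * c * y⁻¹ := by rw [h2]
        _ = _ := by group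
    set d := c₁ * c⁻¹ with hd
    have hdV : d ∈ V := mul_mem hc₁V (inv_mem hcV)
    have hud : u * d * u⁻¹ = d := by
      have h1 : u * d * u⁻¹ = (u * c₁ * u⁻¹) * (u * c * u⁻¹)⁻¹ := by
        rw [hd]; group
      rw [h1, huc₁, huc, hd]
      have h2 := (mem_center_iff.1 hzc) (c₁ * c⁻¹)
      calc z * c₁ * (z * c)⁻¹ = z * (c₁ * c⁻¹) * z⁻¹ := by group
        _ = (c₁ * c⁻¹) := by rw [← h2]; group
    have hdT : d ∈ T := by
      rw [← hu₀, mem_cen]
      exact (mul_inv_eq_iff_eq_mul.1 hud).symm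
    have hdz : d ∈ center G := hcase d hdV hdT
    have hpowc : ∀ i : ℕ, y ^ i * c * (y ^ i)⁻¹ = d ^ i * c := by
      intro i
      induction i with
      | zero => simp
      | succ i ih =>
        have h1 : y ^ (i + 1) * c * (y ^ (i + 1))⁻¹ = y * (y ^ i * c * (y ^ i)⁻¹) * y⁻¹ := by
          rw [pow_succ']
          group
        rw [h1, ih]
        have h2 : y * (d ^ i * c) * y⁻¹ = (y * d ^ i * y⁻¹) * (y * c * y⁻¹) := by group
        rw [h2]
        have h3 := (mem_center_iff.1 (pow_mem hdz i)) y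
        have h4 : y * d ^ i * y⁻¹ = d ^ i := by
          rw [h3]
          group
        rw [h4, ← hc₁]
        have h5 : c₁ = d * c := by rw [hd]; group
        rw [h5, pow_succ]
        group
    have h1 := hpowc (orderOf y)
    rw [pow_orderOf_eq_one] at h1
    have h2 : d ^ orderOf y = 1 := by
      have h3 : c = d ^ orderOf y * c := by simpa using h1
      exact (mul_eq_right.1 h3.symm)
    have h3 : d = 1 := by
      obtain ⟨e, he⟩ := hprimV d hdV
      have h4 : orderOf d = 1 := Nat.eq_one_of_dvd_coprimes (hyr.pow_right e)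
        (orderOf_dvd_of_pow_eq_one h2) (orderOf_dvd_of_pow_eq_one he)
      exact orderOf_eq_one_iff.1 h4
    have h4 : c₁ = c := by
      rw [hd] at h3
      exact mul_inv_eq_one.1 h3
    apply hcT
    rw [← hcy, mem_cen]
    have h5 : y * c * y⁻¹ = c := h4
    exact (mul_inv_eq_iff_eq_mul.1 h5).symm

include hC hTm hTab hTf huT huz in
/-- All `p`-regular elements lie in `T`, hence `T` is normal. -/
theorem T_normal {p a : ℕ} [hp : Fact p.Prime] (hup : IsPrimary p u) (hma : m = p ^ a) : T.Normal := by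
  classical
  have hVT := core_le_T hC hTm hTab hTf huT huz hup hma
  have hu₀ := hTf u huT huz
  have ha0 : a ≠ 0 := by
    rintro rfl
    rw [pow_zero] at hma
    exact m_ne hC hma
  have hpm : p ∣ m := by
    rw [hma]
    exact dvd_pow_self p ha0
  -- the `p'`-part of `T`
  let H₂ : Subgroup G :=
    { carrier := {x | x ∈ T ∧ (orderOf x).Coprime p}
      one_mem' := ⟨one_mem _, by simp⟩
      mul_mem' := by
        rintro x y ⟨hx, hxq⟩ ⟨hy, hyq⟩
        exact ⟨mul_mem hx hy, Cfsg.Agent.Lib.H73Core.reg_mul (hTab x hx y hy) hxq hyq⟩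
      inv_mem' := by
        rintro x ⟨hx, hxq⟩
        refine ⟨inv_mem hx, ?_⟩
        rw [orderOf_inv]
        exact hxq }
  have hH₂mem : ∀ x, x ∈ H₂ ↔ x ∈ T ∧ (orderOf x).Coprime p := fun x => Iff.rfl
  have hH₂T : H₂ ≤ T := fun x hx => ((hH₂mem x).1 hx).1
  have hH₂c : ¬ p ∣ Nat.card H₂ := by
    intro hd
    obtain ⟨x, hx⟩ := exists_prime_orderOf_dvd_card' p hd
    have h1 := ((hH₂mem _).1 x.2).2
    rw [Subgroup.orderOf_coe, hx] at h1
    exact hp.out.one_lt.ne' ((Nat.coprime_self p).1 h1)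
  have hH₂N : (H₂.subgroupOf T).Normal := by
    constructor
    intro x hx y
    have hxe : y * x * y⁻¹ = x := by
      apply Subtype.ext
      show (y : G) * x * (y : G)⁻¹ = x
      rw [hTab y y.2 x x.2]
      group
    rw [hxe]
    exact hx
  obtain ⟨v, hv⟩ := relIndex_prime_pow (q := p) (T := T) (W := H₂) (fun x hx hxc => (hH₂mem x).2 ⟨hx, hxc⟩) hH₂N
  have hidx : H₂.index = p ^ (v + a) := by
    rw [← relIndex_mul_index hH₂T, hv, hTm, hma, pow_add]
  have hAC : Cfsg.Agent.S4034.HasAC p G := by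
    refine ⟨H₂, ?_, hH₂c, v + a, hidx⟩
    constructor
    constructor
    intro x y
    exact Subtype.ext (hTab x (hH₂T x.2) y (hH₂T y.2))
  haveI hsolv := Cfsg.Agent.S4034.solvable_of_hasAC G hAC
  have hHyp : Cfsg.Agent.S4034.Hyp p G := by
    intro x hx
    obtain ⟨k, hk⟩ := Cfsg.Agent.S4034.class_of_hasAC hAC x hx
    exact ⟨k, by rw [← Cfsg.Agent.S4034.class_card_eq, hk]⟩
  set V := Cfsg.pCore p G with hVdef
  haveI hVc := Cfsg.Agent.Lib.PCore.pCore_characteristic (G := G) p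
  haveI hVn : V.Normal := Subgroup.normal_of_characteristic _
  have hVp : IsPGroup p V := Cfsg.Agent.Lib.PCore.isPGroup_pCore p
  let X := G ⧸ V
  let π : G →* X := QuotientGroup.mk' V
  have hX : Cfsg.Agent.S4034.Hyp p X := Cfsg.Agent.S4034.hyp_quotient hHyp V
  have hcore : Cfsg.pCore p X = ⊥ := Cfsg.Agent.Lib.PCore.pCore_quotient_pCore p
  haveI : Group.IsSolvable X := inferInstance
  obtain ⟨hin, -⟩ := Cfsg.Agent.S4034.structure_core X hX hcore
  set F := Cfsg.pPrimeCore p X with hF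
  have hFc : (Nat.card F).Coprime p := Cfsg.Agent.Lib.PCore.card_pPrimeCore_coprime p
  have hreg : ∀ g : G, (orderOf g).Coprime p → π g ∈ F := by
    intro g hg
    apply hin
    exact Nat.Coprime.coprime_dvd_left (orderOf_map_dvd π g) hg
  -- the image of `H₂` is `F`
  have hinj : Function.Injective (π.comp H₂.subtype) := by
    rw [injective_iff_map_eq_one]
    intro x hx
    have h1 : (x : G) ∈ V := (QuotientGroup.eq_one_iff _).1 hx
    apply Subtype.ext
    show (x : G) = 1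
    apply eq_one_of_primary_reg (p := p) _ ((hH₂mem _).1 x.2).2
    obtain ⟨k, hk⟩ := IsPGroup.iff_orderOf.1 hVp ⟨x, h1⟩
    refine ⟨k, ?_⟩
    have := pow_orderOf_eq_one (⟨x, h1⟩ : V)
    rw [hk] at this
    exact congrArg Subtype.val this
  have hR : (π.comp H₂.subtype).range = F := by
    apply Subgroup.eq_of_le_of_card_ge
    · rintro _ ⟨x, rfl⟩
      exact hreg x ((hH₂mem _).1 x.2).2
    · have h1 : Nat.card (π.comp H₂.subtype).range = Nat.card H₂ :=
        Nat.card_congr (MonoidHom.ofInjective hinj).toEquiv.symm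
      rw [h1]
      apply Nat.le_of_dvd Nat.card_pos
      have h2 : Nat.card F ∣ Nat.card X := Subgroup.card_subgroup_dvd_card F
      have h3 : Nat.card X ∣ Nat.card G := by
        have := card_mul_index V
        exact ⟨Nat.card V, by rw [← this, mul_comm]; rfl⟩
      have h4 := card_mul_index H₂
      rw [hidx] at h4
      have h5 : Nat.card F ∣ Nat.card H₂ * p ^ (v + a) := by
        rw [h4]
        exact h2.trans h3
      exact (hFc.pow_right _).dvd_of_dvd_mul_right h5
  -- every regular element lies in `T`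
  have hregT : ∀ g : G, (orderOf g).Coprime p → g ∈ T := by
    intro g hg
    have h1 := hreg g hg
    rw [← hR] at h1
    obtain ⟨h, hh⟩ := h1
    have h2 : π h = π g := hh
    have h3 : (h : G)⁻¹ * g ∈ V := QuotientGroup.eq.1 h2
    have h4 : g = h * ((h : G)⁻¹ * g) := by group
    rw [h4]
    exact mul_mem (hH₂T h.2) (hVT h3)
  -- a noncentral regular element
  have hn1 : n ≠ 1 := n_ne hC
  have hq := Nat.minFac_prime hn1
  set q := n.minFac with hqdef
  have hqn : q ∣ n := Nat.minFac_dvd n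
  haveI : Fact q.Prime := ⟨hq⟩
  have hqp : q ≠ p := by
    intro h
    have hpn : p ∣ n := h ▸ hqn
    exact hp.out.one_lt.ne' (Nat.eq_one_of_dvd_coprimes hC.hcop hpm hpn)
  obtain ⟨y, hyz, hyp⟩ := exists_primary_of_dvd hC hq (hqn.trans (dvd_mul_left _ _))
  have hyr : (orderOf y).Coprime p := Cfsg.Agent.Lib.H73Core.isPrimary_reg hq hp.out hqp hyp
  have hyT := hregT y hyr
  rw [← normalizer_eq_top_iff, eq_top_iff]
  intro g _
  apply mem_normalizer_of_conj hTf hyT hyz
  apply hregT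
  rw [orderOf_conj']
  exact hyr

include hC in
/-- An anchor inside `P ⊓ T`. -/
theorem exists_w {p : ℕ} [hp : Fact p.Prime] (hpm : p ∣ m) (hTn : T.Normal) (P : Sylow p G)
    (hne : ∃ t ∈ (P : Subgroup G) ⊓ T, t ∉ center G) :
    ∃ w ∈ (P : Subgroup G) ⊓ T, w ∉ center G ∧ ∀ g ∈ (P : Subgroup G), g * w * g⁻¹ * w⁻¹ ∈ center G := by
  classical
  have hZP := center_of_sylow hC hpm P
  let A : Subgroup G := (P : Subgroup G)
  have hpA : IsPGroup p A := P.isPGroup'
  let π : A →* A ⧸ center A := QuotientGroup.mk' (center A)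
  haveI : Group.IsNilpotent (A ⧸ center A) := (hpA.to_quotient (center A)).isNilpotent
  let M : Subgroup (A ⧸ center A) := (T.subgroupOf A).map π
  haveI hMn : M.Normal := by
    haveI : (T.subgroupOf A).Normal := inferInstance
    exact Subgroup.Normal.map inferInstance π (QuotientGroup.mk'_surjective _)
  obtain ⟨t, ⟨htP, htT⟩, htz⟩ := hne
  have hM1 : M ≠ ⊥ := by
    intro hb
    have h1 : π ⟨t, htP⟩ ∈ M := ⟨⟨t, htP⟩, htT, rfl⟩
    rw [hb, Subgroup.mem_bot] at h1
    have h2 : (⟨t, htP⟩ : A) ∈ center A := (QuotientGroup.eq_one_iff _).1 h1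
    apply htz
    apply hZP t htP
    intro y hy
    exact congrArg Subtype.val ((mem_center_iff.1 h2) ⟨y, hy⟩)
  have h3 := Cfsg.Agent.Lib.BrolineGT.inf_center_ne_bot M hM1
  obtain ⟨⟨c, hcM, hcZ⟩, hc1'⟩ := Subgroup.ne_bot_iff_exists_ne_one.1 h3
  have hc1 : c ≠ 1 := fun h => hc1' (Subtype.ext h)
  obtain ⟨a, haT, rfl⟩ := hcM
  refine ⟨a, ⟨a.2, haT⟩, ?_, ?_⟩
  · intro ha
    apply hc1
    have : a ∈ center A := by
      rw [mem_center_iff]
      intro g
      apply Subtype.ext
      exact ((mem_center_iff.1 ha) (g : G))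
    exact (QuotientGroup.eq_one_iff _).2 this
  · intro g hg
    let g₀ : A := ⟨g, hg⟩
    have h1 := (mem_center_iff.1 hcZ) (g₀ : A ⧸ center A)
    have h2 : g₀ * a * g₀⁻¹ * a⁻¹ ∈ center A := by
      rw [← QuotientGroup.eq_one_iff]
      simp only [QuotientGroup.mk_mul, QuotientGroup.mk_inv]
      have h4 : ((g₀ : A ⧸ center A)) * (a : A ⧸ center A) = (a : A ⧸ center A) * (g₀ : A ⧸ center A) := h1
      rw [h4]
      group
    have h3 : ((g₀ * a * g₀⁻¹ * a⁻¹ : A) : G) ∈ center G := by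
      apply hZP _ (SetLike.coe_mem _)
      intro y hy
      exact congrArg Subtype.val ((mem_center_iff.1 h2) ⟨y, hy⟩)
    exact h3

include hTf in
theorem center_of_commute {g e : G} (hg : g ∉ T) (he : e ∈ T) (hc : g * e = e * g) : e ∈ center G := by
  by_contra hez
  apply hg
  rw [← hTf e he hez, mem_cen]
  exact hc

/-- The relative index on a Sylow subgroup is the index. -/
theorem relIndex_sylow_eq {p a : ℕ} [hp : Fact p.Prime] (hTn : T.Normal) (hma : T.index = p ^ a) (P : Sylow p G) :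
    T.relIndex (P : Subgroup G) = T.index := by
  have htop : (P : Subgroup G) ⊔ T = ⊤ := by
    rw [← index_eq_one]
    have h1 : ((P : Subgroup G) ⊔ T).index ∣ (P : Subgroup G).index := index_dvd_of_le le_sup_left
    have h2 : ((P : Subgroup G) ⊔ T).index ∣ p ^ a := by
      rw [← hma]
      exact index_dvd_of_le le_sup_right
    obtain ⟨j, -, hj⟩ := (Nat.dvd_prime_pow hp.out).1 h2
    rw [hj] at h1 ⊢
    by_contra hne
    have hj0 : j ≠ 0 := by
      rintro rfl
      exact hne (pow_zero p)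
    exact P.not_dvd_index ((dvd_pow_self p hj0).trans h1)
  rw [← relIndex_sup_right, htop, relIndex_top_right]

include hC hTm hTab hTf huT huz in
/-- `m` is the prime. -/
theorem m_eq_prime {p a : ℕ} [hp : Fact p.Prime] (hup : IsPrimary p u) (hma : m = p ^ a) (hTn : T.Normal) :
    m = p := by
  classical
  have ha0 : a ≠ 0 := by
    rintro rfl
    rw [pow_zero] at hma
    exact m_ne hC hma
  have hpm : p ∣ m := by
    rw [hma]
    exact dvd_pow_self p ha0
  have hCT := centralizer_T hTab hTf huT huz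
  let P : Sylow p G := default
  -- a noncentral element of `P ⊓ T`
  have hne : ∃ t ∈ (P : Subgroup G) ⊓ T, t ∉ center G := by
    obtain ⟨Q, hQ⟩ := (isPGroup_zpowers hup).exists_le_sylow
    obtain ⟨g, hg⟩ := MulAction.exists_smul_eq G Q P
    refine ⟨g * u * g⁻¹, ⟨?_, hTn.conj_mem u huT g⟩, ?_⟩
    · have h1 : (P : Subgroup G) = ((g • Q : Sylow p G) : Subgroup G) := by rw [hg]
      show g * u * g⁻¹ ∈ (P : Subgroup G)
      rw [h1, Sylow.coe_subgroup_smul, Cfsg.Agent.Lib.PCore.mem_conj_smul_iff]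
      have h2 : g⁻¹ * (g * u * g⁻¹) * g = u := by group
      rw [h2]
      exact hQ (mem_zpowers u)
    · intro hz
      apply huz
      have := conj_mem_center (g := g⁻¹) hz
      have h3 : g⁻¹ * (g * u * g⁻¹) * g⁻¹⁻¹ = u := by group
      rwa [h3] at this
  obtain ⟨w, ⟨hwP, hwT⟩, hwz, hwg⟩ := exists_w hC hpm hTn P hne
  have hcw := hTf w hwT hwz
  have hZ : ∀ {g e : G}, g ∉ T → e ∈ T → g * e = e * g → e ∈ center G := fun hg he hc =>
    center_of_commute hTf hg he hc
  have hPT : ¬ (P : Subgroup G) ≤ T := by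
    intro hle
    rw [← hTm] at hpm
    exact P.not_dvd_index (hpm.trans (index_dvd_of_le hle))
  obtain ⟨x₀, hx₀P, hx₀T⟩ := SetLike.not_le_iff_exists.1 hPT
  -- an element `c₀`
  obtain ⟨c₀, hc₀P, hc₀T, hc₀p⟩ : ∃ c₀ ∈ (P : Subgroup G), c₀ ∉ T ∧ c₀ ^ p ∈ T := by
    obtain ⟨k, hk⟩ := Cfsg.Agent.Lib.H73Core.isPrimary_of_mem_sylow P hx₀P
    have hex : ∃ j, x₀ ^ (p ^ j) ∈ T := ⟨k, by rw [hk]; exact one_mem _⟩
    have hj0 : Nat.find hex ≠ 0 := by
      intro h
      have h1 := Nat.find_spec hex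
      rw [h] at h1
      apply hx₀T
      simpa using h1
    obtain ⟨j, hj⟩ : ∃ j, Nat.find hex = j + 1 := ⟨Nat.find hex - 1, by omega⟩
    refine ⟨x₀ ^ (p ^ j), pow_mem hx₀P _, ?_, ?_⟩
    · exact Nat.find_min hex (by omega)
    · rw [← pow_mul, ← pow_succ, ← hj]
      exact Nat.find_spec hex
  have hc₀Z : c₀ ^ p ∈ center G := hZ hc₀T hc₀p (by rw [← pow_succ, ← pow_succ'])
  have hc₀wT : c₀ * w ∉ T := by
    intro h
    apply hc₀T
    have : c₀ = c₀ * w * w⁻¹ := by group
    rw [this]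
    exact mul_mem h (inv_mem hwT)
  have hc₀wp : (c₀ * w) ^ p ∈ T := by
    rw [← QuotientGroup.eq_one_iff (N := T)]
    rw [QuotientGroup.mk_pow, QuotientGroup.mk_mul, (QuotientGroup.eq_one_iff w).2 hwT, mul_one,
      ← QuotientGroup.mk_pow]
    exact (QuotientGroup.eq_one_iff _).2 hc₀p
  have hc₀wZ : (c₀ * w) ^ p ∈ center G := hZ hc₀wT hc₀wp (by rw [← pow_succ, ← pow_succ'])
  -- `w ^ p` is central
  have hwpZ : w ^ p ∈ center G := by
    rw [← QuotientGroup.eq_one_iff (N := center G)]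
    have hcomm : Commute ((c₀ : G) : G ⧸ center G) ((w : G) : G ⧸ center G) := by
      have h1 := hwg c₀ hc₀P
      have h2 : ((c₀ * w * c₀⁻¹ * w⁻¹ : G) : G ⧸ center G) = 1 := (QuotientGroup.eq_one_iff _).2 h1
      simp only [QuotientGroup.mk_mul, QuotientGroup.mk_inv] at h2
      show _ * _ = _ * _
      have h3 := mul_inv_eq_one.1 h2
      exact mul_inv_eq_iff_eq_mul.1 h3
    have h1 : ((c₀ * w : G) : G ⧸ center G) ^ p = 1 := by
      rw [← QuotientGroup.mk_pow]
      exact (QuotientGroup.eq_one_iff _).2 hc₀wZ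
    have h2 : ((c₀ : G) : G ⧸ center G) ^ p = 1 := by
      rw [← QuotientGroup.mk_pow]
      exact (QuotientGroup.eq_one_iff _).2 hc₀Z
    rw [QuotientGroup.mk_mul, hcomm.mul_pow, h2, one_mul] at h1
    rw [QuotientGroup.mk_pow]
    exact h1
  -- the commutator map
  have hζ : ∀ x ∈ (P : Subgroup G), x * w * x⁻¹ = (x * w * x⁻¹ * w⁻¹) * w := fun x _ => by group
  have hζp : ∀ x ∈ (P : Subgroup G), (x * w * x⁻¹ * w⁻¹) ^ p = 1 := by
    intro x hx
    have hz := hwg x hx
    set ζ := x * w * x⁻¹ * w⁻¹ with hζdef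
    have hcz : Commute ζ w := (mem_center_iff.1 hz) w |>.symm
    have h1 : (x * w * x⁻¹) ^ p = ζ ^ p * w ^ p := by
      rw [hζ x hx, ← hζdef, hcz.mul_pow]
    have h2 : (x * w * x⁻¹) ^ p = w ^ p := by
      rw [conj_pow]
      have := (mem_center_iff.1 hwpZ) x
      rw [this]
      group
    rw [h2] at h1
    exact (mul_eq_right.1 h1.symm)
  have hxpow : ∀ x ∈ (P : Subgroup G), x ^ p ∈ T := by
    intro x hx
    have hz := hwg x hx
    set ζ := x * w * x⁻¹ * w⁻¹ with hζdef
    have hi : ∀ i : ℕ, x ^ i * w * (x ^ i)⁻¹ = ζ ^ i * w := by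
      intro i
      induction i with
      | zero => simp
      | succ i ih =>
        have h1 : x ^ (i + 1) * w * (x ^ (i + 1))⁻¹ = x * (x ^ i * w * (x ^ i)⁻¹) * x⁻¹ := by
          rw [pow_succ']
          group
        rw [h1, ih]
        have h2 : x * (ζ ^ i * w) * x⁻¹ = (x * ζ ^ i * x⁻¹) * (x * w * x⁻¹) := by group
        rw [h2, hζ x hx, ← hζdef]
        have h3 := (mem_center_iff.1 (pow_mem hz i)) x
        rw [h3, pow_succ]
        group
    rw [← hcw, mem_cen]
    have h1 := hi p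
    rw [hζp x hx] at h1
    have h2 : x ^ p * w * (x ^ p)⁻¹ = w := by simpa using h1
    exact mul_inv_eq_iff_eq_mul.1 h2
  have hcommT : ∀ x ∈ (P : Subgroup G), ∀ y ∈ (P : Subgroup G), x * y * x⁻¹ * y⁻¹ ∈ T := by
    intro x hx y hy
    have hzx := hwg x hx
    have hzy := hwg y hy
    set ζx := x * w * x⁻¹ * w⁻¹ with hζx
    set ζy := y * w * y⁻¹ * w⁻¹ with hζy
    have h1 : (x * y) * w * (x * y)⁻¹ = ζy * ζx * w := by
      have h2 : (x * y) * w * (x * y)⁻¹ = x * (y * w * y⁻¹) * x⁻¹ := by group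
      rw [h2, hζ y hy, ← hζy]
      have h3 : x * (ζy * w) * x⁻¹ = (x * ζy * x⁻¹) * (x * w * x⁻¹) := by group
      rw [h3, hζ x hx, ← hζx, (mem_center_iff.1 hzy) x]
      group
    have h4 : (y * x) * w * (y * x)⁻¹ = ζx * ζy * w := by
      have h2 : (y * x) * w * (y * x)⁻¹ = y * (x * w * x⁻¹) * y⁻¹ := by group
      rw [h2, hζ x hx, ← hζx]
      have h3 : y * (ζx * w) * y⁻¹ = (y * ζx * y⁻¹) * (y * w * y⁻¹) := by group
      rw [h3, hζ y hy, ← hζy, (mem_center_iff.1 hzx) y]
      group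
    have h5 : ζy * ζx = ζx * ζy := (mem_center_iff.1 hzx) ζy
    have hk : (y * x)⁻¹ * (x * y) ∈ T := by
      rw [← hcw, mem_cen]
      have h6 : (x * y) * w * (x * y)⁻¹ = (y * x) * w * (y * x)⁻¹ := by rw [h1, h4, h5]
      have h7 : (y * x)⁻¹ * (x * y) * w * ((y * x)⁻¹ * (x * y))⁻¹ = w := by
        calc (y * x)⁻¹ * (x * y) * w * ((y * x)⁻¹ * (x * y))⁻¹
            = (y * x)⁻¹ * ((x * y) * w * (x * y)⁻¹) * (y * x) := by group
          _ = (y * x)⁻¹ * ((y * x) * w * (y * x)⁻¹) * (y * x) := by rw [h6]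
          _ = w := by group
      exact mul_inv_eq_iff_eq_mul.1 h7
    have h8 := hTn.conj_mem _ hk (y * x)
    have h9 : y * x * ((y * x)⁻¹ * (x * y)) * (y * x)⁻¹ = x * y * x⁻¹ * y⁻¹ := by group
    rwa [h9] at h8
  -- a noncentral element of another prime in `T`
  have hn1 : n ≠ 1 := n_ne hC
  have hq := Nat.minFac_prime hn1
  set q := n.minFac with hqdef
  have hqn : q ∣ n := Nat.minFac_dvd n
  haveI : Fact q.Prime := ⟨hq⟩
  have hqm : ¬ q ∣ m := fun h => hq.one_lt.ne' (Nat.eq_one_of_dvd_coprimes hC.hcop h hqn)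
  have hqp : p ≠ q := by
    intro h
    exact hqm (h ▸ hpm)
  obtain ⟨Q, hQ⟩ := Cfsg.Agent.Lib.H73CaseS.exists_sylow_le_of_not_dvd (q := q) T (by rwa [hTm])
  obtain ⟨y, hyQ, hyz⟩ := SetLike.not_le_iff_exists.1 (sylow_not_center hC (hqn.trans (dvd_mul_left _ _)) Q)
  obtain ⟨k, hk⟩ := Cfsg.Agent.Lib.H73Core.isPrimary_of_mem_sylow Q hyQ
  -- rank one
  have hrank : ∀ x ∈ (P : Subgroup G), ∃ i : ℕ, x * (c₀ ^ i)⁻¹ ∈ T := by
    intro x hx
    by_contra hcon
    push Not at hcon
    refine Cfsg.Agent.Lib.H73Rep.wrapper_rank1 T hTab (P : Subgroup G) ?_ ?_ hp.out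
      ((Nat.coprime_primes hp.out hq).2 hqp) hc₀P hx (by rwa [hCT]) (by rwa [hCT]) (by rw [hCT]; exact hxpow x hx)
      (by rw [hCT]; exact hcommT c₀ hc₀P x hx) (by rw [hCT]; exact hcon) (hQ hyQ) hyz hk
    · intro g _
      rw [normalizer_eq_top_iff.2 hTn]
      trivial
    · intro g _ b hb hbz hc
      rw [hCT, ← hTf b hb hbz]
      exact mem_cen.2 hc
  -- the index
  have hrel := relIndex_sylow_eq hTn (by rw [hTm, hma]) P
  rw [hTm] at hrel
  rw [← hrel]
  let N : Subgroup (P : Subgroup G) := T.subgroupOf (P : Subgroup G)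
  haveI hNn : N.Normal := inferInstance
  let cb : (P : Subgroup G) ⧸ N := ((⟨c₀, hc₀P⟩ : (P : Subgroup G)) : (P : Subgroup G) ⧸ N)
  have hcb1 : cb ≠ 1 := by
    intro h
    have h1 : (⟨c₀, hc₀P⟩ : (P : Subgroup G)) ∈ N := (QuotientGroup.eq_one_iff _).1 h
    exact hc₀T h1
  have hcbp : cb ^ p = 1 := by
    show ((⟨c₀, hc₀P⟩ : (P : Subgroup G)) : (P : Subgroup G) ⧸ N) ^ p = 1
    rw [← QuotientGroup.mk_pow]
    exact (QuotientGroup.eq_one_iff _).2 hc₀p
  have hord : orderOf cb = p := orderOf_eq_prime hcbp hcb1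
  have hall : ∀ z : (P : Subgroup G) ⧸ N, z ∈ zpowers cb := by
    intro z
    induction z using QuotientGroup.induction_on with
    | H x =>
      obtain ⟨i, hi⟩ := hrank x x.2
      have h1 : ((x * ((⟨c₀, hc₀P⟩ : (P : Subgroup G)) ^ i)⁻¹ : (P : Subgroup G)) : (P : Subgroup G) ⧸ N) = 1 :=
        (QuotientGroup.eq_one_iff _).2 hi
      rw [QuotientGroup.mk_mul, QuotientGroup.mk_inv, QuotientGroup.mk_pow] at h1
      have h2 : ((x : (P : Subgroup G)) : (P : Subgroup G) ⧸ N) = cb ^ i := mul_inv_eq_one.1 h1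
      rw [h2]
      exact pow_mem (mem_zpowers cb) i
  have hcard := orderOf_eq_card_of_forall_mem_zpowers hall
  rw [hord] at hcard
  exact hcard.symm

/-- Counting noncentral elements of a subgroup. -/
theorem ncard_noncentral (Q : Subgroup G) :
    ({u | u ∈ Q ∧ u ∉ center G} : Set G).ncard
      = Nat.card ((center G).subgroupOf Q) * ((center G).relIndex Q - 1) := by
  classical
  let Ω : Set G := {u | u ∈ Q ∧ u ∉ center G}
  let d := Nat.card ((center G).subgroupOf Q)
  let e := (center G).relIndex Q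
  have hde : d * e = Nat.card Q := card_mul_index _
  have hcount : Ω.ncard + d = Nat.card Q := by
    have hsub : ((Q ⊓ center G : Subgroup G) : Set G) ⊆ (Q : Set G) := fun u hu => hu.1
    have h1 := Set.ncard_sdiff_add_ncard_of_subset hsub (Set.toFinite _)
    have h2 : (Q : Set G) \ ((Q ⊓ center G : Subgroup G) : Set G) = Ω := by
      ext u
      constructor
      · rintro ⟨h3, h4⟩
        exact ⟨h3, fun h5 => h4 ⟨h3, h5⟩⟩
      · rintro ⟨h3, h4⟩
        exact ⟨h3, fun h5 => h4 h5.2⟩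
    have h3 : ((Q : Set G)).ncard = Nat.card Q := by rw [← Nat.card_coe_set_eq]; rfl
    have h4 : (((Q ⊓ center G : Subgroup G) : Set G)).ncard = d := by
      rw [← Nat.card_coe_set_eq]
      apply Nat.card_congr
      exact ⟨fun x => ⟨⟨x.1, x.2.1⟩, x.2.2⟩, fun x => ⟨x.1.1, x.1.2, x.2⟩, fun _ => rfl, fun _ => rfl⟩
    rw [h2, h3, h4] at h1
    exact h1
  have h1e : 1 ≤ e := Nat.pos_of_ne_zero (by
    show ((center G).subgroupOf Q).index ≠ 0
    exact index_ne_zero_of_finite)
  obtain ⟨e', he'⟩ : ∃ e', e = e' + 1 := ⟨e - 1, by omega⟩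
  show Ω.ncard = d * (e - 1)
  rw [he', Nat.add_sub_cancel]
  have : d * (e' + 1) = Nat.card Q := by rw [← he']; exact hde
  nlinarith [this, hcount]

include hC hTm hTf huT huz in
theorem mem_T_of_small (hTn : T.Normal) {x : G} (hx : (cen x).index = m) : x ∈ T := by
  classical
  have hn1 : n ≠ 1 := n_ne hC
  have hq := Nat.minFac_prime hn1
  set q := n.minFac with hqdef
  have hqn : q ∣ n := Nat.minFac_dvd n
  haveI : Fact q.Prime := ⟨hq⟩
  have hqm : ¬ q ∣ m := fun h => hq.one_lt.ne' (Nat.eq_one_of_dvd_coprimes hC.hcop h hqn)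
  obtain ⟨Q, hQ⟩ := Cfsg.Agent.Lib.H73CaseS.exists_sylow_le_of_not_dvd (q := q) (cen x) (by rwa [hx])
  obtain ⟨Q', hQ'⟩ := Cfsg.Agent.Lib.H73CaseS.exists_sylow_le_of_not_dvd (q := q) T (by rwa [hTm])
  obtain ⟨g, hg⟩ := MulAction.exists_smul_eq G Q' Q
  obtain ⟨v, hvQ, hvz⟩ := SetLike.not_le_iff_exists.1 (sylow_not_center hC (hqn.trans (dvd_mul_left _ _)) Q)
  have hvT : v ∈ T := by
    rw [← hg, Sylow.coe_subgroup_smul, Cfsg.Agent.Lib.PCore.mem_conj_smul_iff] at hvQ
    have h1 := hTn.conj_mem _ (hQ' hvQ) g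
    have h2 : g * (g⁻¹ * v * g) * g⁻¹ = v := by group
    rwa [h2] at h1
  rw [← hTf v hvT hvz, mem_cen]
  exact (mem_cen.1 (hQ hvQ)).symm

include hTab hTf huT huz in
theorem center_le_T : center G ≤ T := by
  rw [← hTf u huT huz]
  exact center_le_cen u

include hC hTm hTab hTf huT huz in
theorem T_eq_set (hTn : T.Normal) :
    (T : Set G) = {x : G | (cen x).index = 1 ∨ (cen x).index = m} := by
  ext x
  constructor
  · intro hx
    by_cases hz : x ∈ center G
    · left
      exact index_cen_eq_one_iff.2 hz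
    · right
      rw [hTf x hx hz]
      exact hTm
  · rintro (h | h)
    · exact center_le_T hTab hTf huT huz (index_cen_eq_one_iff.1 h)
    · exact mem_T_of_small hC hTm hTf huT huz hTn h

include hC hTm hTab hTf huT huz in
/-- The index of the center in `T`. -/
theorem relIndex_center_T {p : ℕ} [hp : Fact p.Prime] (hmp : m = p) (hTn : T.Normal) :
    (center G).relIndex T = p * n := by
  classical
  have hZT := center_le_T hTab hTf huT huz
  have hTne : T ≠ ⊤ := by
    intro h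
    rw [h, index_top] at hTm
    exact m_ne hC hTm.symm
  obtain ⟨x, hxT⟩ : ∃ x, x ∉ T := by
    by_contra hcon
    push Not at hcon
    exact hTne (eq_top_iff.2 (fun x _ => hcon x))
  have hxz : x ∉ center G := fun h => hxT (hZT h)
  have hxb : (cen x).index = m * n := by
    rcases noncentral hC x hxz with h | h
    · exact absurd (mem_T_of_small hC hTm hTf huT huz hTn h) hxT
    · exact h
  have hinf : T ⊓ cen x = center G := by
    apply le_antisymm
    · rintro e ⟨he1, he2⟩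
      exact center_of_commute hTf hxT he1 (mem_cen.1 he2).symm
    · exact le_inf hZT (center_le_cen x)
  have h1 : T.relIndex (cen x) = p := by
    have h2 := relIndex_mul_index (le_sup_right : T ≤ cen x ⊔ T)
    rw [hTm, hmp] at h2
    have h3 : T.relIndex (cen x ⊔ T) ≠ 1 := by
      intro h
      have h4 := relIndex_eq_one.1 h
      exact hxT (h4 (mem_sup_left (self_mem_cen x)))
    have h5 : T.relIndex (cen x ⊔ T) ∣ p := ⟨_, h2.symm⟩
    rcases (Nat.dvd_prime hp.out).1 h5 with h6 | h6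
    · exact absurd h6 h3
    · rw [← relIndex_sup_right]
      exact h6
  have h2 : Nat.card (cen x) = Nat.card (center G) * p := by
    have h3 : center G ≤ cen x := center_le_cen x
    have h4 : T.relIndex (cen x) = (T ⊓ cen x).relIndex (cen x) := (inf_relIndex_right _ _).symm
    rw [← hinf] 
    have h5 := card_eq_mul_relIndex (inf_le_right : T ⊓ cen x ≤ cen x)
    rw [← h4, h1] at h5
    exact h5
  have h3 := card_mul_index (cen x)
  have h4 := card_mul_index T
  rw [hxb] at h3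
  rw [hTm, hmp] at h4
  rw [hmp] at h3
  have h5 := card_eq_mul_relIndex hZT
  have hZpos : 0 < Nat.card (center G) := Nat.card_pos
  rw [h2] at h3
  rw [h5] at h4
  have h6 : Nat.card (center G) * ((center G).relIndex T * p) = Nat.card (center G) * (p * (p * n)) := by
    calc Nat.card (center G) * ((center G).relIndex T * p)
        = Nat.card (center G) * (center G).relIndex T * p := by ring
      _ = Nat.card G := h4
      _ = Nat.card (center G) * p * (p * n) := h3.symm
      _ = _ := by ring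
  have h7 := Nat.eq_of_mul_eq_mul_left hZpos h6
  have h8 : (center G).relIndex T * p = (p * n) * p := by rw [h7]; ring
  exact Nat.eq_of_mul_eq_mul_right hp.out.pos h8

include hC hTm hTab hTf huT huz in
/-- The normal complement. -/
theorem H2_props {p : ℕ} [hp : Fact p.Prime] (hmp : m = p) (hTn : T.Normal) :
    ∃ H₂ : Subgroup G, H₂.Normal ∧ (∀ x, x ∈ H₂ ↔ x ∈ T ∧ (orderOf x).Coprime p) ∧ ¬ p ∣ Nat.card H₂ ∧
      (∃ k : ℕ, H₂.index = p ^ k) ∧ (H₂ ⊔ center G).relIndex T = p ∧ p ∣ n - 1 := by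
  classical
  have hZT := center_le_T hTab hTf huT huz
  have hpn : ¬ p ∣ n := by
    intro h
    have hpm : p ∣ m := by rw [hmp]
    exact hp.out.one_lt.ne' (Nat.eq_one_of_dvd_coprimes hC.hcop hpm h)
  let H₂ : Subgroup G := Cfsg.Agent.Lib.H73Core.regSub (p₀ := p) T (fun v hv _ w hw => hTab w hw v hv)
  have hH₂mem : ∀ x, x ∈ H₂ ↔ x ∈ T ∧ (orderOf x).Coprime p := fun x => Iff.rfl
  have hH₂T : H₂ ≤ T := fun x hx => ((hH₂mem x).1 hx).1
  have hH₂n : H₂.Normal := by
    constructor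
    intro x hx g
    obtain ⟨h1, h2⟩ := (hH₂mem x).1 hx
    refine (hH₂mem _).2 ⟨hTn.conj_mem x h1 g, ?_⟩
    rw [orderOf_conj']
    exact h2
  have hH₂c : ¬ p ∣ Nat.card H₂ := by
    intro hd
    obtain ⟨x, hx⟩ := exists_prime_orderOf_dvd_card' p hd
    have h1 := ((hH₂mem _).1 x.2).2
    rw [Subgroup.orderOf_coe, hx] at h1
    exact hp.out.one_lt.ne' ((Nat.coprime_self p).1 h1)
  have hN : ∀ W : Subgroup G, W ≤ T → (W.subgroupOf T).Normal := by
    intro W hW
    constructor
    intro x hx y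
    have hxe : y * x * y⁻¹ = x := by
      apply Subtype.ext
      show (y : G) * x * (y : G)⁻¹ = x
      rw [hTab y y.2 x x.2]
      group
    rw [hxe]
    exact hx
  obtain ⟨v, hv⟩ := relIndex_prime_pow (q := p) (T := T) (W := H₂) (fun x hx hxc => (hH₂mem x).2 ⟨hx, hxc⟩)
    (hN _ hH₂T)
  have hidx : H₂.index = p ^ (v + 1) := by
    rw [← relIndex_mul_index hH₂T, hv, hTm, hmp, pow_succ]
  -- the chain
  let K : Subgroup G := H₂ ⊔ center G
  have hKT : K ≤ T := sup_le hH₂T hZT
  obtain ⟨i, hi⟩ := relIndex_prime_pow (q := p) (T := T) (W := K)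
    (fun x hx hxc => mem_sup_left ((hH₂mem x).2 ⟨hx, hxc⟩)) (hN _ hKT)
  have h1 := relIndex_center_T hC hTm hTab hTf huT huz hmp hTn
  have h2 : (center G).relIndex K * K.relIndex T = (center G).relIndex T :=
    Subgroup.relIndex_mul_relIndex _ _ _ (le_sup_right) hKT
  have h3 : (center G).relIndex K = (center G).relIndex H₂ := relIndex_sup_right _ _
  rw [h3, hi, h1] at h2
  set e := (center G).relIndex H₂ with he
  have hedvd : e ∣ Nat.card H₂ := Subgroup.relIndex_dvd_card _ _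
  have hpe : ¬ p ∣ e := fun h => hH₂c (h.trans hedvd)
  -- arithmetic
  have hi1 : i = 1 ∧ e = n := by
    have hi0 : i ≠ 0 := by
      rintro rfl
      rw [pow_zero, mul_one] at h2
      exact hpe (h2 ▸ dvd_mul_right _ _)
    obtain ⟨j, rfl⟩ : ∃ j, i = j + 1 := ⟨i - 1, by omega⟩
    have h4 : e * p ^ j = n := by
      have h5 : p * (e * p ^ j) = p * n := by
        rw [← h2, pow_succ]
        ring
      exact Nat.eq_of_mul_eq_mul_left hp.out.pos h5
    have hj : j = 0 := by
      by_contra hj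
      apply hpn
      rw [← h4]
      exact (dvd_pow_self p hj).trans (dvd_mul_left _ _)
    subst hj
    exact ⟨rfl, by simpa using h4⟩
  obtain ⟨hi₁, hen⟩ := hi1
  refine ⟨H₂, hH₂n, hH₂mem, hH₂c, ⟨_, hidx⟩, ?_, ?_⟩
  · rw [hi, hi₁, pow_one]
  · -- `p` divides `n - 1`
    let P : Sylow p G := default
    let Ω : Set G := {u | u ∈ H₂ ∧ u ∉ center G}
    have hrel := relIndex_sylow_eq hTn (a := 1) (by rw [hTm, hmp, pow_one]) P
    rw [hTm, hmp] at hrel
    have hdvd : p ∣ Ω.ncard := by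
      apply dvd_ncard_conj (P : Subgroup G)
      · rintro g _ x ⟨hx, hxz⟩
        refine ⟨hH₂n.conj_mem x hx g, ?_⟩
        intro hz
        apply hxz
        have := conj_mem_center (g := g⁻¹) hz
        have h3 : g⁻¹ * (g * x * g⁻¹) * g⁻¹⁻¹ = x := by group
        rwa [h3] at this
      · rintro x ⟨hx, hxz⟩
        rw [hTf x (hH₂T hx) hxz, hrel]
    have hcount : Ω.ncard = Nat.card ((center G).subgroupOf H₂) * (e - 1) := ncard_noncentral H₂
    rw [hcount] at hdvd
    have hdc : ¬ p ∣ Nat.card ((center G).subgroupOf H₂) := by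
      intro h
      apply hH₂c
      exact h.trans (Subgroup.card_subgroup_dvd_card _)
    rw [← hen]
    exact ((hp.out.dvd_mul).1 hdvd).resolve_left hdc

include hC hTm hTab hTf huT huz in
/-- The commutator subgroup of a Sylow subgroup. -/
theorem commutator_card {p : ℕ} [hp : Fact p.Prime] (hmp : m = p) (hTn : T.Normal) (P : Sylow p G) :
    Nat.card (commutator (P : Subgroup G)) = p := by
  classical
  have hZT := center_le_T hTab hTf huT huz
  have hpm : p ∣ m := by rw [hmp]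
  obtain ⟨H₂, hH₂n, hH₂mem, hH₂c, -, hKrel, -⟩ := H2_props hC hTm hTab hTf huT huz hmp hTn
  have hH₂T : H₂ ≤ T := fun x hx => ((hH₂mem x).1 hx).1
  let K : Subgroup G := H₂ ⊔ center G
  haveI hKn : K.Normal := Subgroup.sup_normal _ _
  have hKT : K ≤ T := sup_le hH₂T hZT
  let S : Subgroup G := (P : Subgroup G) ⊓ T
  have hST : S ≤ T := inf_le_right
  have hSP : S ≤ (P : Subgroup G) := inf_le_left
  -- `p`-elements of `T` are in `P`
  have hprimP : ∀ t ∈ T, IsPrimary p t → t ∈ (P : Subgroup G) := by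
    let PT : Subgroup G :=
      { carrier := {x | x ∈ T ∧ IsPrimary p x}
        one_mem' := ⟨one_mem _, 0, by simp⟩
        mul_mem' := by
          rintro x y ⟨hx, k, hk⟩ ⟨hy, l, hl⟩
          refine ⟨mul_mem hx hy, k + l, ?_⟩
          have hc : Commute x y := hTab x hx y hy
          rw [hc.mul_pow, pow_add, pow_mul, hk, one_pow, one_mul, mul_comm, pow_mul, hl, one_pow]
        inv_mem' := by
          rintro x ⟨hx, k, hk⟩
          exact ⟨inv_mem hx, k, by rw [inv_pow, hk, inv_one]⟩ }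
    have hPTn : PT.Normal := by
      constructor
      rintro x ⟨hx1, hx2⟩ g
      exact ⟨hTn.conj_mem x hx1 g, isPrimary_conj g hx2⟩
    have hPTp : IsPGroup p PT := by
      rintro ⟨x, hx1, k, hk⟩
      exact ⟨k, Subtype.ext hk⟩
    intro t ht htp
    have h1 : t ∈ PT := ⟨ht, htp⟩
    exact Cfsg.Agent.Lib.PCore.pCore_le_sylow p P (Cfsg.Agent.Lib.PCore.le_pCore hPTn hPTp h1)
  have hsup : S ⊔ K = T := by
    apply le_antisymm (sup_le hST hKT)
    intro t ht
    obtain ⟨a, ha, b, hb, hte, hab, hap, hbr, -, -⟩ := split_in hp.out ht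
    rw [hte]
    exact mul_mem (mem_sup_left ⟨hprimP a ha hap, ha⟩) (mem_sup_right (mem_sup_left ((hH₂mem b).2 ⟨hb, hbr⟩)))
  have hKS : K.relIndex S = p := by
    rw [← relIndex_sup_right, hsup]
    exact hKrel
  have hinf : K ⊓ S = center G ⊓ S := by
    apply le_antisymm
    · rintro x ⟨hxK, hxS⟩
      refine ⟨?_, hxS⟩
      obtain ⟨h, hh, z, hz, hxe⟩ := Subgroup.mem_sup_of_normal_right.1 (hxK : x ∈ H₂ ⊔ center G)
      obtain ⟨z₁, z₂, hze, hzc, hz₁p, hz₂r, hz₁, hz₂⟩ := exists_primary_split hp.out z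
      have hz₁Z : z₁ ∈ center G := (zpowers_le.2 hz) hz₁
      have hz₂Z : z₂ ∈ center G := (zpowers_le.2 hz) hz₂
      have hxp : IsPrimary p x := Cfsg.Agent.Lib.H73Core.isPrimary_of_mem_sylow P hxS.1
      have hhr := ((hH₂mem h).1 hh).2
      -- `y = h * z₂` is regular
      have hyr : (orderOf (h * z₂)).Coprime p :=
        Cfsg.Agent.Lib.H73Core.reg_mul ((mem_center_iff.1 hz₂Z) h) hhr hz₂r
      have hye : h * z₂ = x * z₁⁻¹ := by
        rw [← hxe, hze]
        calc h * z₂ = h * (z₂ * z₁) * z₁⁻¹ := by group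
          _ = h * (z₁ * z₂) * z₁⁻¹ := by rw [hzc]
      have hyp : IsPrimary p (h * z₂) := by
        rw [hye]
        obtain ⟨k, hk⟩ := hxp
        obtain ⟨l, hl⟩ := hz₁p
        refine ⟨k + l, ?_⟩
        have hc : Commute x z₁⁻¹ := ((mem_center_iff.1 (inv_mem hz₁Z)) x)
        rw [hc.mul_pow, pow_add, pow_mul, hk, one_pow, one_mul, mul_comm, pow_mul, inv_pow, hl, inv_one, one_pow]
      have hy1 := eq_one_of_primary_reg hyp hyr
      rw [hye] at hy1
      have hx1 : x = z₁ := mul_inv_eq_one.1 hy1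
      rw [hx1]
      exact hz₁Z
    · exact inf_le_inf_right _ le_sup_right
  have hZS : (center G).relIndex S = p := by
    rw [← inf_relIndex_right, ← hinf, inf_relIndex_right]
    exact hKS
  have hSne : ∃ t ∈ (P : Subgroup G) ⊓ T, t ∉ center G := by
    by_contra hcon
    push Not at hcon
    have : S ≤ center G := fun t ht => hcon t ht
    have h1 := relIndex_eq_one.2 this
    rw [hZS] at h1
    exact hp.out.one_lt.ne' h1
  obtain ⟨w, hwS, hwz, hwg⟩ := exists_w hC hpm hTn P hSne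
  have hwT : w ∈ T := hwS.2
  have hwP : w ∈ (P : Subgroup G) := hwS.1
  have hcw := hTf w hwT hwz
  have hPT : ¬ (P : Subgroup G) ≤ T := by
    intro hle
    rw [← hTm] at hpm
    exact P.not_dvd_index (hpm.trans (index_dvd_of_le hle))
  obtain ⟨c₀, hc₀P, hc₀T⟩ := SetLike.not_le_iff_exists.1 hPT
  have hrel := relIndex_sylow_eq hTn (a := 1) (by rw [hTm, hmp, pow_one]) P
  rw [hTm, hmp] at hrel
  -- decompositions
  let A : Subgroup G := (P : Subgroup G)
  let ch : A := ⟨c₀, hc₀P⟩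
  let wh : A := ⟨w, hwP⟩
  have hdec₁ : ∀ g : A, ∃ i : ℤ, (g : G) * (c₀ ^ i)⁻¹ ∈ T := by
    intro g
    have hc : Nat.card (A ⧸ T.subgroupOf A) = p := hrel
    have hne : ((ch : A) : A ⧸ T.subgroupOf A) ≠ 1 := by
      intro h
      exact hc₀T ((QuotientGroup.eq_one_iff ch).1 h)
    have h1 := mem_zpowers_of_prime_card hc (g := ((ch : A) : A ⧸ T.subgroupOf A))
      (g' := ((g : A) : A ⧸ T.subgroupOf A)) hne
    obtain ⟨i, hi⟩ := mem_zpowers_iff.1 h1
    refine ⟨i, ?_⟩
    have h2 : ((ch ^ i : A) : A ⧸ T.subgroupOf A) = ((g : A) : A ⧸ T.subgroupOf A) := by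
      rw [QuotientGroup.mk_zpow]
      exact hi
    have h3 := QuotientGroup.eq.1 h2
    have h4 : ((ch ^ i)⁻¹ * g : A) ∈ T.subgroupOf A := h3
    have h5 : (c₀ ^ i)⁻¹ * (g : G) ∈ T := by
      have h := Subgroup.mem_subgroupOf.1 h4
      simp only [Subgroup.coe_mul, Subgroup.coe_inv, Subgroup.coe_zpow] at h
      exact h
    have h6 := hTn.conj_mem _ h5 (c₀ ^ i)
    have h7 : c₀ ^ i * ((c₀ ^ i)⁻¹ * (g : G)) * (c₀ ^ i)⁻¹ = (g : G) * (c₀ ^ i)⁻¹ := by group
    rwa [h7] at h6
  have hdec₂ : ∀ s ∈ S, ∃ b : ℤ, s * (w ^ b)⁻¹ ∈ center G := by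
    intro s hs
    have hN : ((center G).subgroupOf S).Normal := normal_center_subgroupOf S
    have hc : Nat.card (S ⧸ (center G).subgroupOf S) = p := hZS
    let wh1 : S := ⟨w, hwS⟩
    have hne : ((wh1 : S) : S ⧸ (center G).subgroupOf S) ≠ 1 := by
      intro h
      exact hwz ((QuotientGroup.eq_one_iff wh1).1 h)
    have h1 := mem_zpowers_of_prime_card hc (g := ((wh1 : S) : S ⧸ (center G).subgroupOf S))
      (g' := ((⟨s, hs⟩ : S) : S ⧸ (center G).subgroupOf S)) hne
    obtain ⟨b, hb⟩ := mem_zpowers_iff.1 h1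
    refine ⟨b, ?_⟩
    have h2 : ((wh1 ^ b : S) : S ⧸ (center G).subgroupOf S) = ((⟨s, hs⟩ : S) : S ⧸ (center G).subgroupOf S) := by
      rw [QuotientGroup.mk_zpow]
      exact hb
    have h3 := QuotientGroup.eq.1 h2
    have h4 : ((wh1 ^ b)⁻¹ * ⟨s, hs⟩ : S) ∈ (center G).subgroupOf S := h3
    have h5 : (w ^ b)⁻¹ * s ∈ center G := by
      have h := Subgroup.mem_subgroupOf.1 h4
      simp only [Subgroup.coe_mul, Subgroup.coe_inv, Subgroup.coe_zpow] at h
      exact h
    have h6 := conj_mem_center (g := w ^ b) h5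
    have h7 : w ^ b * ((w ^ b)⁻¹ * s) * (w ^ b)⁻¹ = s * (w ^ b)⁻¹ := by group
    rwa [h7] at h6
  have hwp : w ^ p ∈ center G := by
    have hN : ((center G).subgroupOf S).Normal := normal_center_subgroupOf S
    have hc : Nat.card (S ⧸ (center G).subgroupOf S) = p := hZS
    let wh1 : S := ⟨w, hwS⟩
    have h1 : ((wh1 : S) : S ⧸ (center G).subgroupOf S) ^ p = 1 := by
      rw [← hc]
      exact pow_card_eq_one'
    rw [← QuotientGroup.mk_pow] at h1
    have h2 : wh1 ^ p ∈ (center G).subgroupOf S := (QuotientGroup.eq_one_iff _).1 h1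
    exact h2
  -- the commutator
  set ζ₀ := c₀ * w * c₀⁻¹ * w⁻¹ with hζ₀
  have hζ₀Z : ζ₀ ∈ center G := hwg c₀ hc₀P
  have hζ₀P : ζ₀ ∈ A := A.mul_mem (A.mul_mem (A.mul_mem hc₀P hwP) (A.inv_mem hc₀P)) (A.inv_mem hwP)
  have hζ₀p : ζ₀ ^ p = 1 := by
    have hcz : Commute ζ₀ w := (mem_center_iff.1 hζ₀Z) w |>.symm
    have h0 : c₀ * w * c₀⁻¹ = ζ₀ * w := by rw [hζ₀]; group
    have h1 : (c₀ * w * c₀⁻¹) ^ p = ζ₀ ^ p * w ^ p := by
      rw [h0, hcz.mul_pow]
    have h2 : (c₀ * w * c₀⁻¹) ^ p = w ^ p := by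
      rw [conj_pow]
      have := (mem_center_iff.1 hwp) c₀
      rw [this]
      group
    rw [h2] at h1
    exact (mul_eq_right.1 h1.symm)
  have hζ₀1 : ζ₀ ≠ 1 := by
    intro h
    apply hc₀T
    rw [← hcw, mem_cen]
    rw [hζ₀] at h
    have h3 : c₀ * w * c₀⁻¹ = w := mul_inv_eq_one.1 h
    exact mul_inv_eq_iff_eq_mul.1 h3
  let zh : A := ⟨ζ₀, hζ₀P⟩
  have hzhc : ∀ g : A, g * zh = zh * g := by
    intro g
    apply Subtype.ext
    exact (mem_center_iff.1 hζ₀Z) g
  let X : Subgroup A := zpowers zh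
  have hXc : ∀ x ∈ X, ∀ g : A, g * x = x * g := by
    intro x hx g
    obtain ⟨i, rfl⟩ := mem_zpowers_iff.1 hx
    exact (Commute.zpow_right (hzhc g) i)
  haveI hXn : X.Normal := by
    constructor
    intro x hx g
    have h1 := hXc x hx g
    have : g * x * g⁻¹ = x := by
      rw [h1]
      group
    rw [this]
    exact hx
  have hord : orderOf zh = p := by
    apply orderOf_eq_prime
    · exact Subtype.ext hζ₀p
    · intro h
      exact hζ₀1 (congrArg Subtype.val h)
  have hXcard : Nat.card X = p := by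
    rw [Nat.card_zpowers, hord]
  -- commutators are in `X`
  let π : A →* A ⧸ X := QuotientGroup.mk' X
  have hCW : Commute (π ch) (π wh) := by
    have h1 : π ⁅ch, wh⁆ = 1 := by
      apply (QuotientGroup.eq_one_iff _).2
      have : ⁅ch, wh⁆ = zh := by
        apply Subtype.ext
        rfl
      rw [this]
      exact mem_zpowers zh
    rw [map_commutatorElement] at h1
    exact commutatorElement_eq_one_iff_commute.1 h1
  have hdecomp : ∀ g : A, ∃ zh2 : A, (∀ y : A, y * zh2 = zh2 * y) ∧ ∃ b i : ℤ, g = zh2 * wh ^ b * ch ^ i := by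
    intro g
    obtain ⟨i, hi⟩ := hdec₁ g
    have hs : (g : G) * (c₀ ^ i)⁻¹ ∈ S :=
      ⟨A.mul_mem g.2 (A.inv_mem (A.zpow_mem hc₀P i)), hi⟩
    obtain ⟨b, hb⟩ := hdec₂ _ hs
    have hz : (g : G) * (c₀ ^ i)⁻¹ * (w ^ b)⁻¹ ∈ A :=
      A.mul_mem (A.mul_mem g.2 (A.inv_mem (A.zpow_mem hc₀P i))) (A.inv_mem (A.zpow_mem hwP b))
    refine ⟨⟨_, hz⟩, ?_, b, i, ?_⟩
    · intro y
      apply Subtype.ext
      exact (mem_center_iff.1 hb) y
    · apply Subtype.ext
      show (g : G) = (g : G) * (c₀ ^ i)⁻¹ * (w ^ b)⁻¹ * w ^ b * c₀ ^ i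
      group
  have hcomm : ∀ g₁ g₂ : A, Commute (π g₁) (π g₂) := by
    intro g₁ g₂
    obtain ⟨z₁, hz₁, b₁, i₁, rfl⟩ := hdecomp g₁
    obtain ⟨z₂, hz₂, b₂, i₂, rfl⟩ := hdecomp g₂
    have hzc₁ : ∀ y : A, Commute (π z₁) (π y) := fun y => by
      show _ * _ = _ * _
      rw [← map_mul, ← map_mul, hz₁ y]
    have hzc₂ : ∀ y : A, Commute (π y) (π z₂) := fun y => by
      show _ * _ = _ * _
      rw [← map_mul, ← map_mul, hz₂ y]
    simp only [map_mul, map_zpow]
    have h1 : Commute (π wh) (π ch) := hCW.symm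
    apply Commute.mul_left
    · apply Commute.mul_left
      · have := hzc₁ (z₂ * wh ^ b₂ * ch ^ i₂)
        simpa only [map_mul, map_zpow] using this
      · apply Commute.mul_right
        · apply Commute.mul_right
          · have := hzc₂ (wh ^ b₁)
            simpa only [map_zpow] using this
          · exact (Commute.refl (π wh)).zpow_zpow _ _
        · exact h1.zpow_zpow _ _
    · apply Commute.mul_right
      · apply Commute.mul_right
        · have := hzc₂ (ch ^ i₁)
          simpa only [map_zpow] using this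
        · exact hCW.zpow_zpow _ _
      · exact (Commute.refl (π ch)).zpow_zpow _ _
  have hle : commutator A ≤ X := by
    rw [_root_.commutator_def, Subgroup.commutator_le]
    intro g₁ _ g₂ _
    apply (QuotientGroup.eq_one_iff _).1
    show π ⁅g₁, g₂⁆ = 1
    rw [map_commutatorElement]
    exact commutatorElement_eq_one_iff_commute.2 (hcomm g₁ g₂)
  have hd : Nat.card (commutator A) ∣ p := by
    rw [← hXcard]
    exact Subgroup.card_dvd_of_le hle
  rcases (Nat.dvd_prime hp.out).1 hd with h1 | h1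
  · exfalso
    have h2 : ⁅ch, wh⁆ ∈ commutator A := by
      rw [_root_.commutator_def]
      exact Subgroup.commutator_mem_commutator (mem_top _) (mem_top _)
    have h3 : ⁅ch, wh⁆ = zh := by
      apply Subtype.ext
      rfl
    rw [h3] at h2
    have h4 : commutator A = ⊥ := by
      exact Subgroup.eq_bot_of_card_eq _ h1
    rw [h4, Subgroup.mem_bot] at h2
    exact hζ₀1 (congrArg Subtype.val h2)
  · exact h1

end Abelian

/-- The conclusion of the theorem. -/
def Concl (m n : ℕ) (G : Type*) [Group G] : Prop :=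
  m.Prime ∧ m ∣ n - 1 ∧ (∃ M : Subgroup G, M.Normal ∧ (M : Set G) = {x : G | (Subgroup.centralizer ({x} : Set G)).index = 1 ∨ (Subgroup.centralizer ({x} : Set G)).index = m} ∧ M.index = m ∧ IsMulCommutative M) ∧ (∃ N : Subgroup G, N.Normal ∧ (Nat.card N).Coprime m ∧ ∃ a : ℕ, N.index = m ^ a) ∧ ∀ P : Sylow m G, Nat.card (commutator (P : Subgroup G)) = m

/-- **Case S**: a small noncentral primary element for a prime dividing `m`. -/
theorem case_S {G : Type*} [Group G] [Finite G] {m n : ℕ} (hC : CS m n G) {p : ℕ} [hp : Fact p.Prime]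
    (hpm : p ∣ m) {u : G} (huz : u ∉ center G) (hup : IsPrimary p u) (hus : (cen u).index = m) :
    Concl m n G := by
  classical
  have hTab := T_abelian hC hpm hup hus
  have hTf : ∀ x ∈ cen u, x ∉ center G → cen x = cen u := by
    intro x hx hxz
    have hle : cen u ≤ cen x := fun t ht => mem_cen.2 (hTab t ht x hx)
    exact (small_of_le hC hus hle hxz).2.symm
  have huT : u ∈ cen u := self_mem_cen u
  obtain ⟨a, hma⟩ : ∃ a, m = p ^ a :=
    ⟨_, Nat.eq_prime_pow_of_unique_prime_dvd (m_pos hC).ne'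
      (fun {r} hr hrm => unique_prime hC hus hTab hTf huT huz hp.out hpm hr hrm)⟩
  have hTn := T_normal hC hus hTab hTf huT huz hup hma
  have hmp := m_eq_prime hC hus hTab hTf huT huz hup hma hTn
  subst hmp
  obtain ⟨H₂, hH₂n, hH₂mem, hH₂c, ⟨k, hk⟩, -, hd⟩ := H2_props hC hus hTab hTf huT huz rfl hTn
  refine ⟨hp.out, hd, ⟨cen u, hTn, T_eq_set hC hus hTab hTf huT huz hTn, hus, ?_⟩,
    ⟨H₂, hH₂n, ?_, k, hk⟩, fun P => commutator_card hC hus hTab hTf huT huz rfl hTn P⟩
  · constructor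
    constructor
    intro x y
    exact Subtype.ext (hTab x x.2 y y.2)
  · exact (Nat.Prime.coprime_iff_not_dvd hp.out).2 hH₂c |>.symm

end Cfsg.Agent.Lib.H73CaseS
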