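import Mathlib
import Cfsg.Agent.Lib.H73CaseS

/-!
# Groups with class sizes `1, m, mn`: the case where primary elements for primes of `m` are big (part 1)
-/

set_option autoImplicit false
set_option linter.style.haveILetI false
set_option linter.unusedVariables false
set_option linter.unusedSectionVars false
open scoped Pointwise commutatorElement

namespace Cfsg.Agent.Lib.H73CaseB1

open Subgroup Cfsg.Agent.Lib.ItoTwo Cfsg.Agent.Lib.H73CS Cfsg.Agent.Lib.H73CaseS

section Gen

variable {G : Type*} [Group G] [Finite G]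

/-- A primary element centralized by a Sylow subgroup lies in it. -/
theorem mem_sylow_of_le_cen {r : ℕ} [hr : Fact r.Prime] (R : Sylow r G) {e : G} (he : IsPrimary r e)
    (hc : (R : Subgroup G) ≤ cen e) : e ∈ (R : Subgroup G) := by
  have h1 : IsPGroup r (zpowers e) := isPGroup_zpowers he
  have h2 : R ∈ MulAction.fixedPoints (zpowers e) (Sylow r G) := by
    rintro ⟨x, hx⟩
    have h3 : x ∈ centralizer ((R : Subgroup G) : Set G) := by
      have h4 : e ∈ centralizer ((R : Subgroup G) : Set G) := by
        rw [mem_centralizer_iff]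
        intro t ht
        exact mem_cen.1 (hc ht)
      exact (zpowers_le.2 h4) hx
    show x • R = R
    rw [Sylow.smul_eq_iff_mem_normalizer]
    show x ∈ normalizer (((R : Subgroup G)) : Set G)
    rw [mem_normalizer_iff]
    intro t
    rw [mem_centralizer_iff] at h3
    constructor
    · intro ht
      rw [← h3 t ht]
      have : t * x * x⁻¹ = t := by group
      rw [this]
      exact ht
    · intro ht
      have h5 := h3 _ ht
      have h6 : x * t * x⁻¹ * x = x * t := by group
      rw [h6] at h5
      have h7 : t = x * t * x⁻¹ := by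
        have h8 : x * t = (x * (x * t * x⁻¹)) := h5
        exact mul_left_cancel h8
      rw [h7]
      exact ht
  exact (h1.sylow_mem_fixedPoints_iff.1 h2) (mem_zpowers e)

/-- Conjugate a primary element of index prime to `r` into a given Sylow subgroup, centrally. -/
theorem exists_conj_central {r : ℕ} [hr : Fact r.Prime] (R₁ : Sylow r G) {e : G} (he : IsPrimary r e)
    (hn : ¬ r ∣ (cen e).index) :
    ∃ g : G, g * e * g⁻¹ ∈ (R₁ : Subgroup G) ∧ (R₁ : Subgroup G) ≤ cen (g * e * g⁻¹) := by
  obtain ⟨R, hR⟩ := exists_sylow_le_of_not_dvd (cen e) hn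
  obtain ⟨g, hg⟩ := MulAction.exists_smul_eq G R R₁
  have hle : (R₁ : Subgroup G) ≤ cen (g * e * g⁻¹) := by
    intro x hx
    rw [mem_cen_conj]
    apply hR
    rw [← hg] at hx
    have := (mem_smul_sylow_iff g R x).1 hx
    exact this
  exact ⟨g, mem_sylow_of_le_cen R₁ (isPrimary_conj g he) hle, hle⟩

theorem coprime_of_primary_of_primary {t s : ℕ} (ht : t.Prime) (hs : s.Prime) (hts : t ≠ s) {x y : G}
    (hx : IsPrimary t x) (hy : IsPrimary s y) : (orderOf x).Coprime (orderOf y) :=
  coprime_orderOf_of_isPrimary ht hs hts hx hy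

theorem coprime_of_primary_left {t : ℕ} {x y : G} (hx : IsPrimary t x) (hy : (orderOf y).Coprime t) :
    (orderOf x).Coprime (orderOf y) := by
  obtain ⟨k, hk⟩ := hx
  exact Nat.Coprime.coprime_dvd_left (orderOf_dvd_of_pow_eq_one hk) (Nat.Coprime.pow_left _ hy.symm)

end Gen

section

variable {G : Type*} [Group G] [Finite G] {m n : ℕ} (hC : CS m n G)
  (hB : ∀ p : ℕ, p.Prime → p ∣ m → ∀ a : G, a ∉ center G → IsPrimary p a → (cen a).index = m * n)

include hC hB

/-- Two different primes cannot both have small primary elements. -/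
theorem no_two_types {q r : ℕ} (hq : q.Prime) (hr : r.Prime) (hqr : q ≠ r) (hqn : q ∣ n) (hrn : r ∣ n)
    {y e₀ : G} (hyp : IsPrimary q y) (hys : (cen y).index = m) (hep : IsPrimary r e₀)
    (hes : (cen e₀).index = m) : False := by
  classical
  haveI : Fact q.Prime := ⟨hq⟩
  haveI : Fact r.Prime := ⟨hr⟩
  have hrm : ¬ r ∣ m := fun h => hr.one_lt.ne' (Nat.eq_one_of_dvd_coprimes hC.hcop h hrn)
  have hqm : ¬ q ∣ m := fun h => hq.one_lt.ne' (Nat.eq_one_of_dvd_coprimes hC.hcop h hqn)
  obtain ⟨R₁, hR₁⟩ := exists_sylow_le_of_not_dvd (q := r) (cen y) (by rwa [hys])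
  obtain ⟨g, hgR, hgle⟩ := exists_conj_central R₁ hep (by rwa [hes])
  set e := g * e₀ * g⁻¹ with he
  have hep' : IsPrimary r e := isPrimary_conj g hep
  have hes' : (cen e).index = m := by rw [he, index_cen_conj, hes]
  have heT : e ∈ cen y := hR₁ hgR
  have hcye : (orderOf y).Coprime (orderOf e) := coprime_of_primary_of_primary hq hr hqr hyp hep'
  -- `cen e = cen y`
  have hTe : cen y = cen e := by
    have hle : cen y ≤ cen e := by
      rcases rel_small hC hys (mem_cen.1 heT).symm hcye with h | h
      · rw [relIndex_eq_one] at h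
        exact h
      · exfalso
        have h1 : (cen e ⊓ cen y).index = (cen e).relIndex (cen y) * m := by
          rw [← relIndex_mul_index (inf_le_right : cen e ⊓ cen y ≤ cen y), inf_relIndex_right, hys]
        have h2 : (R₁ : Subgroup G) ≤ cen e ⊓ cen y := le_inf hgle hR₁
        apply R₁.not_dvd_index
        refine Dvd.dvd.trans ?_ (index_dvd_of_le h2)
        rw [h1, h]
        exact hrn.trans (dvd_mul_right _ _)
    exact eq_of_le_of_index_eq hC hle (hys.trans hes'.symm)
  -- a prime of `m`
  have hm1 : m ≠ 1 := m_ne hC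
  have hp := Nat.minFac_prime hm1
  set p := m.minFac with hpdef
  have hpm : p ∣ m := Nat.minFac_dvd m
  have hpq : p ≠ q := fun h => hqm (h ▸ hpm)
  have hpr : p ≠ r := fun h => hrm (h ▸ hpm)
  -- the classes
  have hyz : y ∉ center G := not_center_of_index_m hC hys
  have hrel : ∀ x ∈ cen y, (cen x).relIndex (cen y) = 1 ∨ (cen x).relIndex (cen y) = n := by
    intro x hx
    obtain ⟨a, haT, b, hbT, hxab, hab, hap, hbc, -, -⟩ := split_in hq hx
    have hca : (orderOf a).Coprime (orderOf b) := coprime_of_primary_left hap hbc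
    have hcenx : cen x = cen a ⊓ cen b := by rw [hxab]; exact cen_mul_eq_inf hab hca
    by_cases hac : ∀ t ∈ cen y, t * a = a * t
    · -- `a` is central in `T`
      have h1 : cen x ⊓ cen y = cen b ⊓ cen y := by
        rw [hcenx]
        ext t
        simp only [mem_inf]
        constructor
        · rintro ⟨⟨_, h2⟩, h3⟩
          exact ⟨h2, h3⟩
        · rintro ⟨h2, h3⟩
          exact ⟨⟨mem_cen.2 (hac t h3), h2⟩, h3⟩
      have h2 : (cen x).relIndex (cen y) = (cen b).relIndex (cen y) := by
        rw [← inf_relIndex_right, h1, inf_relIndex_right]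
      rw [h2]
      exact rel_small hC hys (mem_cen.1 hbT).symm (coprime_of_primary_left hyp hbc)
    · -- `a` is not central in `T`
      push Not at hac
      obtain ⟨t₀, ht₀, ht₀a⟩ := hac
      have heaT : a ∈ cen e := hTe ▸ haT
      have hcea : (orderOf e).Coprime (orderOf a) := coprime_of_primary_of_primary hr hq hqr.symm hep' hap
      have hrela : (cen a).relIndex (cen e) = n := by
        rcases rel_small hC hes' (mem_cen.1 heaT).symm hcea with h | h
        · exfalso
          rw [relIndex_eq_one] at h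
          exact ht₀a (mem_cen.1 (h (hTe ▸ ht₀)))
        · exact h
      -- the big element
      set c := e * a with hc
      have hcomm : e * a = a * e := (mem_cen.1 heaT).symm
      have hcenc : cen c = cen e ⊓ cen a := cen_mul_eq_inf hcomm hcea
      have hcbig : (cen c).index = m * n := by
        rw [hcenc, inf_comm, ← relIndex_mul_index (inf_le_right : cen a ⊓ cen e ≤ cen e), inf_relIndex_right,
          hes', hrela, mul_comm]
      have hcz : c ∉ center G := not_center_of_index_mn hC hcbig
      obtain ⟨w, hwc, hwz, hwp⟩ := exists_primary_in_cen hC hp hpm hcz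
      have hwbig := hB p hp hpm w hwz hwp
      -- orders
      have hcoc : (orderOf c).Coprime p := by
        have h1 : orderOf c ∣ orderOf e * orderOf a := (Commute.orderOf_mul_dvd_mul_orderOf hcomm)
        apply Nat.Coprime.coprime_dvd_left h1
        apply Nat.Coprime.mul_left
        · obtain ⟨k, hk⟩ := hep'
          exact Nat.Coprime.coprime_dvd_left (orderOf_dvd_of_pow_eq_one hk)
            (Nat.Coprime.pow_left _ ((Nat.coprime_primes hr hp).2 hpr.symm))
        · obtain ⟨k, hk⟩ := hap
          exact Nat.Coprime.coprime_dvd_left (orderOf_dvd_of_pow_eq_one hk)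
            (Nat.Coprime.pow_left _ ((Nat.coprime_primes hq hp).2 hpq.symm))
      have hcw : (orderOf c).Coprime (orderOf w) := (coprime_of_primary_left hwp hcoc).symm
      have hle1 : cen c ≤ cen w := flat_big hC hcbig (mem_cen.1 hwc).symm hcw
      have hceq : cen c = cen w := (big_of_le hC hwbig hle1).2
      -- `cen c` is abelian
      have hcab : ∀ u ∈ cen c, cen c ≤ cen u := by
        intro u hu
        obtain ⟨u₁, hu₁, u₂, hu₂, huu, hu12, hu₁p, hu₂c, -, -⟩ := split_in hp hu
        have h1 : cen c ≤ cen u₁ :=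
          flat_big hC hcbig (mem_cen.1 hu₁).symm (coprime_of_primary_left hu₁p hcoc).symm
        have h2 : cen w ≤ cen u₂ :=
          flat_big hC hwbig (mem_cen.1 (hceq ▸ hu₂)).symm (coprime_of_primary_left hwp hu₂c)
        intro t ht
        rw [mem_cen, huu]
        have h3 := mem_cen.1 (h1 ht)
        have h4 := mem_cen.1 (h2 (hceq ▸ ht))
        calc t * (u₁ * u₂) = (t * u₁) * u₂ := by group
          _ = (u₁ * t) * u₂ := by rw [h3]
          _ = u₁ * (t * u₂) := by group
          _ = u₁ * (u₂ * t) := by rw [h4]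
          _ = _ := by group
      have hbc' : b ∈ cen c := by
        rw [hcenc]
        refine ⟨?_, mem_cen.2 hab.symm⟩
        exact hTe ▸ hbT
      have hbcen := hcab b hbc'
      have h1 : cen x ⊓ cen e = cen a ⊓ cen e := by
        rw [hcenx]
        ext t
        simp only [mem_inf]
        constructor
        · rintro ⟨⟨h2, _⟩, h3⟩
          exact ⟨h2, h3⟩
        · rintro ⟨h2, h3⟩
          refine ⟨⟨h2, hbcen ?_⟩, h3⟩
          rw [hcenc]
          exact ⟨h3, h2⟩
      right
      have h2 : (cen x).relIndex (cen e) = (cen a).relIndex (cen e) := by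
        rw [← inf_relIndex_right, h1, inf_relIndex_right]
      rw [hTe, h2, hrela]
  -- apply Ito
  have hT : ∀ x : cen y, (cen x).index = 1 ∨ (cen x).index = n := by
    intro x
    rw [index_centralizer_subtype]
    exact hrel x x.2
  obtain ⟨w, hwT, hwz, hwp⟩ := exists_primary_in_cen hC hp hpm hyz
  have hwbig := hB p hp hpm w hwz hwp
  have hex : ∃ x : cen y, (cen x).index = n := by
    refine ⟨⟨w, hwT⟩, ?_⟩
    rw [index_centralizer_subtype]
    rcases hrel w hwT with h | h
    · exfalso
      rw [relIndex_eq_one] at h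
      have h1 := index_dvd_of_le h
      rw [hwbig, hys] at h1
      have h2 := Nat.le_of_dvd (m_pos hC) h1
      have h3 : m * 2 ≤ m * n := Nat.mul_le_mul_left _ hC.hn
      have := m_pos hC
      omega
    · exact h
  obtain ⟨s, hs, a, hna, -⟩ := Cfsg.Agent.S4134.result n hC.hn hT hex
  have h1 : q = s := (Nat.prime_dvd_prime_iff_eq hq hs.out).1 (hq.dvd_of_dvd_pow (hna ▸ hqn))
  have h2 : r = s := (Nat.prime_dvd_prime_iff_eq hr hs.out).1 (hr.dvd_of_dvd_pow (hna ▸ hrn))
  exact hqr (h1.trans h2.symm)

omit hB in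
/-- The primary part of a small element. -/
theorem exists_small_primary_part (x : G) (hx : (cen x).index = m) :
    ∃ t : ℕ, t.Prime ∧ ∃ y ∈ zpowers x, y ∉ center G ∧ IsPrimary t y ∧ (cen y).index = m := by
  induction' hk : orderOf x using Nat.strong_induction_on with k ih generalizing x
  have hxz : x ∉ center G := not_center_of_index_m hC hx
  have h1 : orderOf x ≠ 1 := by
    intro h
    rw [orderOf_eq_one_iff] at h
    exact hxz (h ▸ one_mem _)
  have ht := Nat.minFac_prime h1
  set t := (orderOf x).minFac with htdef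
  obtain ⟨a, b, hxab, hab, hap, hbc, haz, hbz⟩ := exists_primary_split ht x
  have hca : (orderOf a).Coprime (orderOf b) := coprime_of_primary_left hap hbc
  have hcenx : cen x = cen a ⊓ cen b := by rw [hxab]; exact cen_mul_eq_inf hab hca
  by_cases haZ : a ∈ center G
  · have hbZ : b ∉ center G := by
      intro h
      apply hxz
      rw [hxab]
      exact mul_mem haZ h
    have hcenb : cen x = cen b := by
      rw [hcenx, mem_center_iff'.1 haZ, top_inf_eq]
    have hlt : orderOf b < k := by
      rw [← hk]
      have hd : orderOf b ∣ orderOf x := orderOf_dvd_of_mem_zpowers hbz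
      apply lt_of_le_of_ne (Nat.le_of_dvd (orderOf_pos x) hd)
      intro h
      have h2 := hbc
      rw [h] at h2
      have h3 : t ∣ orderOf x := Nat.minFac_dvd _
      exact ht.one_lt.ne' (Nat.eq_one_of_dvd_coprimes h2 h3 dvd_rfl)
    obtain ⟨s, hs, y, hy, hyz, hyp, hys⟩ := ih _ hlt b (by rw [← hcenb]; exact hx) rfl
    exact ⟨s, hs, y, (zpowers_le.2 hbz) hy, hyz, hyp, hys⟩
  · have hle : cen x ≤ cen a := by
      rw [hcenx]
      exact inf_le_left
    exact ⟨t, ht, a, haz, haZ, hap, (small_of_le hC hx hle haZ).1⟩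

/-- A small primary element exists. -/
theorem exists_small_primary : ∃ q : ℕ, q.Prime ∧ q ∣ n ∧ ∃ y : G, IsPrimary q y ∧ (cen y).index = m := by
  obtain ⟨x, hx⟩ := hC.exm
  obtain ⟨t, ht, y, -, hyz, hyp, hys⟩ := exists_small_primary_part hC x hx
  refine ⟨t, ht, ?_, y, hyp, hys⟩
  have hy1 : orderOf y ≠ 1 := by
    intro h
    rw [orderOf_eq_one_iff] at h
    exact hyz (h ▸ one_mem _)
  have htd : t ∣ orderOf y := by
    obtain ⟨k, hk⟩ := hyp
    obtain ⟨j, -, hj⟩ := (Nat.dvd_prime_pow ht).1 (orderOf_dvd_of_pow_eq_one hk)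
    rw [hj]
    apply dvd_pow_self
    rintro rfl
    exact hy1 (by rw [hj, pow_zero])
  have h1 : t ∣ m * n := hC.primes t ht (htd.trans (orderOf_dvd_natCard y))
  rcases (ht.dvd_mul).1 h1 with h | h
  · exfalso
    have := hB t ht h y hyz hyp
    rw [hys] at this
    exact mn_ne_m hC this.symm
  · exact h

/-- The structure so far. -/
theorem prime_powers {q : ℕ} (hq : q.Prime) (hqn : q ∣ n) {y : G} (hyp : IsPrimary q y) (hys : (cen y).index = m) :
    ∃ p a b : ℕ, p.Prime ∧ p ≠ q ∧ m = p ^ a ∧ n = q ^ b := by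
  classical
  have hqm : ¬ q ∣ m := fun h => hq.one_lt.ne' (Nat.eq_one_of_dvd_coprimes hC.hcop h hqn)
  have hm1 : m ≠ 1 := m_ne hC
  have hp := Nat.minFac_prime hm1
  set p := m.minFac with hpdef
  have hpm : p ∣ m := Nat.minFac_dvd m
  have hpq : p ≠ q := fun h => hqm (h ▸ hpm)
  have hpn : ¬ p ∣ n := fun h => hp.one_lt.ne' (Nat.eq_one_of_dvd_coprimes hC.hcop hpm h)
  -- regular elements are big
  have hHyp : Cfsg.Agent.Lib.H73Core.Hyp q (m * n) G := by
    intro x hx
    rcases hC.all x with h | h | h
    · exact Or.inl h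
    · exfalso
      obtain ⟨t, ht, y', hy', hyz', hyp', hys'⟩ := exists_small_primary_part hC x h
      have hy1 : orderOf y' ≠ 1 := by
        intro h
        rw [orderOf_eq_one_iff] at h
        exact hyz' (h ▸ one_mem _)
      have htd : t ∣ orderOf y' := by
        obtain ⟨k, hk⟩ := hyp'
        obtain ⟨j, -, hj⟩ := (Nat.dvd_prime_pow ht).1 (orderOf_dvd_of_pow_eq_one hk)
        rw [hj]
        apply dvd_pow_self
        rintro rfl
        exact hy1 (by rw [hj, pow_zero])
      have htx : t ∣ orderOf x := htd.trans (orderOf_dvd_of_mem_zpowers hy')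
      have htq : t ≠ q := by
        rintro rfl
        exact ht.one_lt.ne' (Nat.eq_one_of_dvd_coprimes hx htx dvd_rfl)
      have h1 : t ∣ m * n := hC.primes t ht (htd.trans (orderOf_dvd_natCard y'))
      rcases (ht.dvd_mul).1 h1 with h2 | h2
      · have := hB t ht h2 y' hyz' hyp'
        rw [hys'] at this
        exact mn_ne_m hC this.symm
      · exact no_two_types hC hB hq ht htq.symm hqn h2 hyp hys hyp' hys'
    · exact Or.inr h
  have hex : ∃ x : G, Cfsg.Agent.Lib.H73Core.Reg q x ∧ x ∉ center G := by
    obtain ⟨a, haz, hap⟩ := exists_primary_of_dvd hC hp (hpm.trans (dvd_mul_right _ _))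
    exact ⟨a, Cfsg.Agent.Lib.H73Core.isPrimary_reg hp hq hpq hap, haz⟩
  have huniq : ∀ r : ℕ, r.Prime → r ∣ m * n → r ≠ q → r = p := by
    intro r hr hrd hrq
    by_contra hrp
    exact Cfsg.Agent.Lib.H73Core.core hq hHyp hex hr hp hrp hrq hpq hrd (hpm.trans (dvd_mul_right _ _))
  refine ⟨p, m.primeFactorsList.length, n.primeFactorsList.length, hp, hpq, ?_, ?_⟩
  · apply Nat.eq_prime_pow_of_unique_prime_dvd (m_pos hC).ne'
    intro d hd hdm
    apply huniq d hd (hdm.trans (dvd_mul_right _ _))
    rintro rfl
    exact hqm hdm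
  · apply Nat.eq_prime_pow_of_unique_prime_dvd (n_pos hC).ne'
    intro d hd hdn
    by_contra hdq
    have := huniq d hd (hdn.trans (dvd_mul_left _ _)) hdq
    exact hpn (this ▸ hdn)

end

end Cfsg.Agent.Lib.H73CaseB1
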