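import Mathlib
import Cfsg.Agent.Lib.H73CaseB1

/-!
# Groups with class sizes `1, m, mn`: the case where primary elements for primes of `m` are big (part 2)
-/

set_option autoImplicit false
set_option linter.style.haveILetI false
set_option linter.unusedVariables false
set_option linter.unusedSectionVars false
open scoped Pointwise commutatorElement

namespace Cfsg.Agent.Lib.H73CaseB2

open Subgroup Cfsg.Agent.Lib.ItoTwo Cfsg.Agent.Lib.H73CS Cfsg.Agent.Lib.H73CaseS Cfsg.Agent.Lib.H73CaseB1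

section Gen

variable {G : Type*} [Group G] [Finite G]

/-- A subgroup normalized by `P`. -/
theorem relIndex_dvd_index_of_le_normalizer {C P : Subgroup G} (h : P ≤ normalizer (C : Set G)) :
    C.relIndex P ∣ C.index := by
  have h1 : (C.subgroupOf (normalizer (C : Set G))).relIndex (P.subgroupOf (normalizer (C : Set G))) = C.relIndex P :=
    relIndex_subgroupOf h
  have h2 : (C.subgroupOf (normalizer (C : Set G))).relIndex (P.subgroupOf (normalizer (C : Set G))) ∣
      (C.subgroupOf (normalizer (C : Set G))).index := relIndex_dvd_index_of_normal _ _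
  rw [h1] at h2
  refine h2.trans ?_
  show C.relIndex (normalizer (C : Set G)) ∣ C.index
  rw [← relIndex_mul_index (le_normalizer : C ≤ normalizer (C : Set G))]
  exact dvd_mul_right _ _

/-- A noncentral primary element of `T`. -/
theorem dvd_relIndex_of_mem {s : ℕ} (hs : s.Prime) {T : Subgroup G} {b : G} (hbT : b ∈ T) (hb : b ∉ center G)
    (hp : IsPrimary s b) : s ∣ (center G).relIndex T := by
  classical
  haveI := normal_center_subgroupOf (G := G) T
  let w : T := ⟨b, hbT⟩
  let q : T ⧸ (center G).subgroupOf T := (w : T ⧸ (center G).subgroupOf T)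
  have hq : q ≠ 1 := by
    intro h
    have h1 : w ∈ (center G).subgroupOf T := (QuotientGroup.eq_one_iff _).1 h
    exact hb h1
  obtain ⟨k, hk⟩ := hp
  have h2 : q ^ (s ^ k) = 1 := by
    have : w ^ (s ^ k) = 1 := Subtype.ext hk
    show (w : T ⧸ (center G).subgroupOf T) ^ (s ^ k) = 1
    rw [← QuotientGroup.mk_pow, this, QuotientGroup.mk_one]
  have h3 : orderOf q ∣ s ^ k := orderOf_dvd_of_pow_eq_one h2
  obtain ⟨j, hj, hj'⟩ := (Nat.dvd_prime_pow hs).1 h3
  have h4 : j ≠ 0 := by
    rintro rfl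
    rw [pow_zero, orderOf_eq_one_iff] at hj'
    exact hq hj'
  have h5 : s ∣ orderOf q := by
    rw [hj']
    exact dvd_pow_self s h4
  exact h5.trans (orderOf_dvd_natCard q)

/-- Commutativity from an abelian part and a central `q`-part. -/
theorem comm_of_parts {X : Type*} [Group X] [Finite X] {q r : ℕ} [hq : Fact q.Prime] (A : Subgroup X)
    (hAab : ∀ x ∈ A, ∀ y ∈ A, x * y = y * x) (hX : Nat.card X = Nat.card A * q ^ r)
    (hAq : (Nat.card A).Coprime q) (hQ : ∀ x : X, IsPrimary q x → ∀ y : X, y * x = x * y) :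
    ∀ x y : X, x * y = y * x := by
  have hd : q ^ r ∣ Nat.card X := by
    rw [hX]
    exact dvd_mul_left _ _
  obtain ⟨K, hK⟩ := Sylow.exists_subgroup_card_pow_prime q hd
  have hcomp : IsComplement' A K := isComplement'_of_coprime (by rw [hK, hX]) (by
    rw [hK]
    exact Nat.Coprime.pow_right _ hAq)
  have hKp : ∀ k ∈ K, IsPrimary q k := by
    intro k hk
    refine ⟨r, ?_⟩
    have := pow_card_eq_one' (x := (⟨k, hk⟩ : K))
    rw [hK] at this
    exact congrArg Subtype.val this
  have hdec : ∀ x : X, ∃ a ∈ A, ∃ k ∈ K, x = a * k := by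
    intro x
    obtain ⟨⟨a, k⟩, hak, -⟩ := hcomp.existsUnique x
    exact ⟨a, a.2, k, k.2, hak.symm⟩
  intro x y
  obtain ⟨a, ha, k, hk, rfl⟩ := hdec x
  obtain ⟨a', ha', k', hk', rfl⟩ := hdec y
  have h1 := hQ k (hKp k hk)
  have h2 := hQ k' (hKp k' hk')
  have h3 := hAab a ha a' ha'
  have h4 : k * a' = a' * k := (h1 a').symm
  have h5 : k' * a = a * k' := (h2 a).symm
  calc a * k * (a' * k') = a * (k * a') * k' := by group
    _ = a * (a' * k) * k' := by rw [h4]
    _ = (a * a') * (k * k') := by group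
    _ = (a' * a) * (k' * k) := by rw [h3, h1 k']
    _ = a' * (a * k') * k := by group
    _ = a' * (k' * a) * k := by rw [h5]
    _ = _ := by group

theorem fact_aux {p q : ℕ} (a b : ℕ) (hp : p.Prime) (hq : q.Prime) (hpq : p ≠ q) : (p ^ a * q ^ b).factorization p = a := by
  rw [Nat.factorization_mul (pow_ne_zero _ hp.ne_zero) (pow_ne_zero _ hq.ne_zero), hp.factorization_pow,
    hq.factorization_pow]
  simp [hpq.symm]

end Gen

/-- The hypotheses of the second case, with prime powers. -/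
structure BH (m n p q a b : ℕ) (G : Type*) [Group G] : Prop where
  hC : CS m n G
  hpq : p ≠ q
  hma : m = p ^ a
  hnb : n = q ^ b
  hB : ∀ x : G, x ∉ center G → IsPrimary p x → (cen x).index = m * n
  hs : ∃ y : G, IsPrimary q y ∧ (cen y).index = m

section Basic

variable {G : Type*} [Group G] [Finite G] {m n p q a b : ℕ} [hp : Fact p.Prime] [hq : Fact q.Prime]
  (hH : BH m n p q a b G)

include hH

theorem a_ne : a ≠ 0 := by
  rintro rfl
  have := hH.hma
  rw [pow_zero] at this
  exact m_ne hH.hC this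

theorem b_ne : b ≠ 0 := by
  rintro rfl
  have := hH.hnb
  rw [pow_zero] at this
  exact n_ne hH.hC this

theorem hpm : p ∣ m := by
  rw [hH.hma]
  exact dvd_pow_self p (a_ne hH)

theorem hqn : q ∣ n := by
  rw [hH.hnb]
  exact dvd_pow_self q (b_ne hH)

theorem cop_pq : p.Coprime q := (Nat.coprime_primes hp.out hq.out).2 hH.hpq

theorem coprime_p_n : p.Coprime n := by
  rw [hH.hnb]
  exact Nat.Coprime.pow_right _ (cop_pq hH)

theorem coprime_m_q : m.Coprime q := by
  rw [hH.hma]
  exact Nat.Coprime.pow_left _ (cop_pq hH)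

theorem prime_cases {s : ℕ} (hs : s.Prime) (hd : s ∣ Nat.card G) : s = p ∨ s = q := by
  have h1 := hH.hC.primes s hs hd
  rw [hH.hma, hH.hnb] at h1
  rcases (hs.dvd_mul).1 h1 with h | h
  · exact Or.inl ((Nat.prime_dvd_prime_iff_eq hs hp.out).1 (hs.dvd_of_dvd_pow h))
  · exact Or.inr ((Nat.prime_dvd_prime_iff_eq hs hq.out).1 (hs.dvd_of_dvd_pow h))

/-- `p`-regular elements are `q`-elements. -/
theorem primary_q_of_reg {x : G} (hx : (orderOf x).Coprime p) : IsPrimary q x := by
  have h0 : orderOf x ≠ 0 := (orderOf_pos x).ne'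
  have h1 : orderOf x = q ^ (orderOf x).primeFactorsList.length := by
    apply Nat.eq_prime_pow_of_unique_prime_dvd h0
    intro d hd hdx
    rcases prime_cases hH hd (hdx.trans (orderOf_dvd_natCard x)) with h | h
    · exfalso
      rw [h] at hdx
      exact hp.out.one_lt.ne' (Nat.eq_one_of_dvd_coprimes hx hdx dvd_rfl)
    · exact h
  exact ⟨_, by rw [← h1]; exact pow_orderOf_eq_one x⟩

/-- `q`-regular elements are `p`-elements. -/
theorem primary_p_of_reg {x : G} (hx : (orderOf x).Coprime q) : IsPrimary p x := by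
  have h0 : orderOf x ≠ 0 := (orderOf_pos x).ne'
  have h1 : orderOf x = p ^ (orderOf x).primeFactorsList.length := by
    apply Nat.eq_prime_pow_of_unique_prime_dvd h0
    intro d hd hdx
    rcases prime_cases hH hd (hdx.trans (orderOf_dvd_natCard x)) with h | h
    · exact h
    · exfalso
      rw [h] at hdx
      exact hq.out.one_lt.ne' (Nat.eq_one_of_dvd_coprimes hx hdx dvd_rfl)
  exact ⟨_, by rw [← h1]; exact pow_orderOf_eq_one x⟩

theorem coprime_pq_elts {x y : G} (hx : IsPrimary p x) (hy : IsPrimary q y) : (orderOf x).Coprime (orderOf y) :=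
  coprime_orderOf_of_isPrimary hp.out hq.out hH.hpq hx hy

/-- The index of a Sylow `p`-subgroup is a power of `q`. -/
theorem exists_index_sylow (P : Sylow p G) : ∃ β : ℕ, (P : Subgroup G).index = q ^ β := by
  refine ⟨(P : Subgroup G).index.primeFactorsList.length, ?_⟩
  apply Nat.eq_prime_pow_of_unique_prime_dvd index_ne_zero_of_finite
  intro d hd hdx
  have h1 : (P : Subgroup G).index ∣ Nat.card G := index_dvd_card _
  rcases prime_cases hH hd (hdx.trans h1) with h | h
  · exfalso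
    rw [h] at hdx
    exact P.not_dvd_index hdx
  · exact h

/-- The order of `G`. -/
theorem exists_card : ∃ α β : ℕ, Nat.card G = p ^ α * q ^ β := by
  let P : Sylow p G := default
  obtain ⟨β, hβ⟩ := exists_index_sylow hH P
  refine ⟨(Nat.card G).factorization p, β, ?_⟩
  rw [← hβ, ← P.card_eq_multiplicity]
  exact (card_mul_index _).symm

theorem solvable : Group.IsSolvable G := by
  obtain ⟨α, β, h⟩ := exists_card hH
  exact Cfsg.Agent.Lib.BurnsidePQ.isSolvable_of_card_eq p q hp.out hq.out _ G rfl ⟨α, β, h⟩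

theorem big_relIndex_eq {x y : G} (hx : (cen x).index = m * n) (hy : (cen y).index = m * n) :
    (center G).relIndex (cen x) = (center G).relIndex (cen y) := by
  have h1 := relIndex_mul_index (center_le_cen x)
  have h2 := relIndex_mul_index (center_le_cen y)
  rw [hx] at h1
  rw [hy] at h2
  exact Nat.eq_of_mul_eq_mul_right (mn_pos hH.hC) (h1.trans h2.symm)

/-- Every big centralizer has a noncentral `q`-element. -/
theorem exists_q_in_cen_big {c : G} (hc : (cen c).index = m * n) : ∃ e ∈ cen c, e ∉ center G ∧ IsPrimary q e := by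
  obtain ⟨y, hyp, hys⟩ := hH.hs
  have hyz : y ∉ center G := not_center_of_index_m hH.hC hys
  obtain ⟨w, hwT, hwz, hwp⟩ := exists_primary_in_cen hH.hC hp.out (hpm hH) hyz
  have hwbig := hH.hB w hwz hwp
  have hyw : y ∈ cen w := mem_cen.2 (mem_cen.1 hwT).symm
  have h1 := dvd_relIndex_of_mem hq.out hyw hyz hyp
  rw [big_relIndex_eq hH hwbig hc] at h1
  haveI := normal_center_subgroupOf (G := G) (cen c)
  exact exists_primary_of_dvd_relIndex hq.out (center G) (cen c) inferInstance h1

/-- The `p`-part of the index. -/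
theorem m_dvd_relIndex {x : G} (hx : x ∉ center G) (P : Sylow p G) : m ∣ (cen x).relIndex (P : Subgroup G) := by
  have h1 := ordProj_index_dvd_relIndex P (cen x)
  have h2 : (cen x).index.factorization p = a := by
    rcases noncentral hH.hC x hx with h | h
    · rw [h, hH.hma, hp.out.factorization_pow]
      simp
    · rw [h, hH.hma, hH.hnb]
      exact fact_aux a b hp.out hq.out hH.hpq
  rw [h2, ← hH.hma] at h1
  exact h1

end Basic

section Anchor

variable {G : Type*} [Group G] [Finite G] {m n p q a b : ℕ} [hp : Fact p.Prime] [hq : Fact q.Prime]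
  (hH : BH m n p q a b G)

include hH in
/-- `q`-elements of the centralizer of a noncentral `p`-element are central in it. -/
theorem q_central {w e : G} (hwz : w ∉ center G) (hwp : IsPrimary p w) (he : e ∈ cen w) (hep : IsPrimary q e) :
    cen w ≤ cen e :=
  flat_big hH.hC (hH.hB w hwz hwp) (mem_cen.1 he).symm (coprime_pq_elts hH hwp hep)

/-- The `q`-part of the centralizer of a noncentral `p`-element. -/
def Dw (hH : BH m n p q a b G) {w : G} (hwz : w ∉ center G) (hwp : IsPrimary p w) : Subgroup G where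
  carrier := {e | e ∈ cen w ∧ IsPrimary q e}
  mul_mem' := by
    rintro x y ⟨hx, k, hk⟩ ⟨hy, l, hl⟩
    refine ⟨mul_mem hx hy, k + l, ?_⟩
    have hc : Commute x y := by
      have := mem_cen.1 (q_central hH hwz hwp hx ⟨k, hk⟩ hy)
      exact this.symm
    have h1 : x ^ (q ^ (k + l)) = 1 := by rw [pow_add, pow_mul, hk, one_pow]
    have h2 : y ^ (q ^ (k + l)) = 1 := by rw [add_comm, pow_add, pow_mul, hl, one_pow]
    rw [hc.mul_pow, h1, h2, one_mul]
  one_mem' := ⟨one_mem _, 0, by simp⟩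
  inv_mem' := by
    rintro x ⟨hx, k, hk⟩
    exact ⟨inv_mem hx, k, by rw [inv_pow, hk, inv_one]⟩

theorem mem_Dw {w e : G} {hwz : w ∉ center G} {hwp : IsPrimary p w} :
    e ∈ Dw hH hwz hwp ↔ e ∈ cen w ∧ IsPrimary q e := Iff.rfl

variable (P : Sylow p G) {w : G} (hwP : w ∈ (P : Subgroup G)) (hwz : w ∉ center G)
  (hwg : ∀ g ∈ (P : Subgroup G), g * w * g⁻¹ * w⁻¹ ∈ center G)

include hwP in
theorem hwp' : IsPrimary p w := Cfsg.Agent.Lib.H73Core.isPrimary_of_mem_sylow P hwP

include hH hwP hwz in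
theorem hwbig : (cen w).index = m * n := hH.hB w hwz (hwp' P hwP)

include hwg in
theorem conj_cen {g u : G} (hg : g ∈ (P : Subgroup G)) (hu : u ∈ cen w) : g * u * g⁻¹ ∈ cen w :=
  conj_mem_cen_of_comm_central (hwg g hg) hu

include hwg in
theorem P_le_norm : (P : Subgroup G) ≤ normalizer (cen w : Set G) := by
  intro g hg
  rw [mem_normalizer_iff]
  intro h
  constructor
  · exact conj_cen P hwg hg
  · intro hh
    have := conj_cen P hwg (inv_mem hg) hh
    have h1 : g⁻¹ * (g * h * g⁻¹) * g⁻¹⁻¹ = h := by group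
    rwa [h1] at this

include hH hwP hwz hwg in
theorem rel_eq : (cen w).relIndex (P : Subgroup G) = m := by
  apply Nat.dvd_antisymm _ (m_dvd_relIndex hH hwz P)
  have h1 := relIndex_dvd_index_of_le_normalizer (P_le_norm P hwg)
  rw [hwbig hH P hwP hwz] at h1
  have h2 : (cen w).relIndex (P : Subgroup G) ∣ Nat.card (P : Subgroup G) := relIndex_dvd_card _ _
  rw [P.card_eq_multiplicity] at h2
  obtain ⟨j, -, hj⟩ := (Nat.dvd_prime_pow hp.out).1 h2
  rw [hj] at h1 ⊢
  have hc : (p ^ j).Coprime n := Nat.Coprime.pow_left _ (coprime_p_n hH)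
  exact hc.dvd_of_dvd_mul_right h1

include hH hwP hwz hwg in
/-- The centralizer of the anchor is abelian. -/
theorem C_abelian : ∀ u ∈ cen w, ∀ v ∈ cen w, u * v = v * u := by
  classical
  have hbig := hwbig hH P hwP hwz
  have hwp := hwp' P hwP
  obtain ⟨e₀, he₀, he₀z, he₀p⟩ := exists_q_in_cen_big hH hbig
  have hle := q_central hH hwz hwp he₀ he₀p
  set U := cen w ⊓ (P : Subgroup G) with hU
  have hUcop : (Nat.card U).Coprime q := by
    have h1 : Nat.card U ∣ Nat.card (P : Subgroup G) := card_dvd_of_le inf_le_right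
    rw [P.card_eq_multiplicity] at h1
    exact Nat.Coprime.coprime_dvd_left h1 (Nat.Coprime.pow_left _ (cop_pq hH))
  have hUab : ∀ x ∈ U, ∀ y ∈ U, x * y = y * x := by
    rcases noncentral hH.hC e₀ he₀z with hs | hb
    · exact abelian_of_small hH.hC hH.hnb he₀p hs (inf_le_left.trans hle) hUcop
    · intro x hx y hy
      have h1 := (big_of_le hH.hC hb hle).2
      have hxp : IsPrimary p x := Cfsg.Agent.Lib.H73Core.isPrimary_of_mem_sylow P hx.2
      have h2 : cen e₀ ≤ cen x :=
        flat_big hH.hC hb (mem_cen.1 (hle hx.1)).symm (coprime_pq_elts hH hxp he₀p).symm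
      have h3 := mem_cen.1 (h2 (h1 ▸ hy.1))
      exact h3.symm
  -- cards
  obtain ⟨β, hβ⟩ := exists_index_sylow hH P
  have h1 : Nat.card (P : Subgroup G) = Nat.card U * m := by
    have := card_eq_mul_relIndex (inf_le_right : U ≤ (P : Subgroup G))
    rw [inf_relIndex_right, rel_eq hH P hwP hwz hwg] at this
    exact this
  have h2 : Nat.card (cen w) * (m * n) = Nat.card G := by
    rw [← hbig]
    exact card_mul_index _
  have h3 : Nat.card (P : Subgroup G) * q ^ β = Nat.card G := by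
    rw [← hβ]
    exact card_mul_index _
  have h4 : Nat.card (cen w) * q ^ b = Nat.card U * q ^ β := by
    have h5 : (Nat.card (cen w) * q ^ b) * m = (Nat.card U * q ^ β) * m := by
      calc (Nat.card (cen w) * q ^ b) * m = Nat.card (cen w) * (m * n) := by rw [hH.hnb]; ring
        _ = Nat.card G := h2
        _ = Nat.card (P : Subgroup G) * q ^ β := h3.symm
        _ = _ := by rw [h1]; ring
    exact Nat.eq_of_mul_eq_mul_right (m_pos hH.hC) h5
  have h5 : q ^ b ∣ q ^ β := by
    have h6 : q ^ b ∣ Nat.card U * q ^ β := ⟨Nat.card (cen w), by rw [← h4]; ring⟩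
    exact (Nat.Coprime.pow_left _ hUcop.symm).dvd_of_dvd_mul_left h6
  obtain ⟨k, hk⟩ := h5
  have h6 : Nat.card (cen w) = Nat.card U * k := by
    have h7 : Nat.card (cen w) * q ^ b = (Nat.card U * k) * q ^ b := by
      rw [h4, hk]
      ring
    exact Nat.eq_of_mul_eq_mul_right (pow_pos hq.out.pos _) h7
  have hkq : ∃ r, k = q ^ r := by
    have hd : k ∣ q ^ β := ⟨q ^ b, by rw [hk]; ring⟩
    obtain ⟨j, -, hj⟩ := (Nat.dvd_prime_pow hq.out).1 hd
    exact ⟨j, hj⟩
  obtain ⟨r, rfl⟩ := hkq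
  -- apply the lemma
  let A : Subgroup (cen w) := U.subgroupOf (cen w)
  have hA : Nat.card A = Nat.card U := Nat.card_congr (Subgroup.subgroupOfEquivOfLe inf_le_left).toEquiv
  have key := comm_of_parts (X := cen w) (q := q) (r := r) A (by
      intro x hx y hy
      exact Subtype.ext (hUab _ hx _ hy)) (by rw [hA]; exact h6) (by rw [hA]; exact hUcop) (by
      intro x hx y
      have h7 := q_central hH hwz hwp x.2 (isPrimary_coe.1 hx)
      exact Subtype.ext (mem_cen.1 (h7 y.2)))
  intro u hu v hv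
  exact congrArg Subtype.val (key ⟨u, hu⟩ ⟨v, hv⟩)

include hH hwP hwz hwg in
theorem hTf {v : G} (hvC : v ∈ cen w) (hvp : IsPrimary p v) (hvz : v ∉ center G) : cen v = cen w := by
  have hle : cen w ≤ cen v := fun t ht => mem_cen.2 (C_abelian hH P hwP hwz hwg t ht v hvC)
  exact (big_of_le hH.hC (hH.hB v hvz hvp) hle).2.symm

include hH hwP hwz hwg in
/-- An element of `P` commuting with a noncentral `q`-element of `C` is in `C`. -/
theorem hfix {c e : G} (hcP : c ∈ (P : Subgroup G)) (heC : e ∈ cen w) (hep : IsPrimary q e) (hez : e ∉ center G)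
    (hce : c * e = e * c) : c ∈ cen w := by
  have hwp := hwp' P hwP
  have hle := q_central hH hwz hwp heC hep
  rcases noncentral hH.hC e hez with hs | hb
  · -- the small case
    set A := cen w ⊓ (P : Subgroup G) with hA
    set B := cen e ⊓ (P : Subgroup G) with hB
    have hAB : A ≤ B := inf_le_inf_right _ hle
    have h1 : A.relIndex B * B.relIndex (P : Subgroup G) = A.relIndex (P : Subgroup G) :=
      relIndex_mul_relIndex _ _ _ hAB inf_le_right
    have h2 : A.relIndex (P : Subgroup G) = m := by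
      rw [hA, inf_relIndex_right]
      exact rel_eq hH P hwP hwz hwg
    have h3 : m ∣ B.relIndex (P : Subgroup G) := by
      rw [hB, inf_relIndex_right]
      exact m_dvd_relIndex hH hez P
    have h4 : A.relIndex B = 1 := by
      rw [h2] at h1
      obtain ⟨t, ht⟩ := h3
      rw [ht] at h1
      have hm := m_pos hH.hC
      have h5 : A.relIndex B * t * m = 1 * m := by
        rw [one_mul]
        nlinarith [h1]
      have h6 := Nat.eq_of_mul_eq_mul_right hm h5
      exact Nat.eq_one_of_mul_eq_one_right h6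
    rw [relIndex_eq_one] at h4
    exact (h4 ⟨mem_cen.2 hce, hcP⟩).1
  · have h1 := (big_of_le hH.hC hb hle).2
    rw [h1]
    exact mem_cen.2 hce

include hH hwP hwz hwg in
/-- Elements of `C` in `P` fixed by elements outside are central. -/
theorem hZ {g e : G} (hg : g ∉ cen w) (heC : e ∈ cen w) (hep : IsPrimary p e) (hc : g * e = e * g) : e ∈ center G := by
  by_contra hez
  apply hg
  rw [← hTf hH P hwP hwz hwg heC hep hez, mem_cen]
  exact hc

include hH hwP hwz hwg in
/-- The centralizer of `Dw` in `P`. -/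
theorem mem_centralizer_Dw {g : G} (hg : g ∈ (P : Subgroup G)) :
    g ∈ centralizer ((Dw hH hwz (hwp' P hwP) : Subgroup G) : Set G) ↔ g ∈ cen w := by
  rw [mem_centralizer_iff]
  constructor
  · intro h
    obtain ⟨e₀, he₀, he₀z, he₀p⟩ := exists_q_in_cen_big hH (hwbig hH P hwP hwz)
    exact hfix hH P hwP hwz hwg hg he₀ he₀p he₀z (h e₀ ⟨he₀, he₀p⟩).symm
  · rintro h d ⟨hd, hdp⟩
    exact (mem_cen.1 (q_central hH hwz (hwp' P hwP) hd hdp h)).symm

include hwP hwz hwg in
/-- `P` normalizes `Dw`. -/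
theorem P_le_norm_Dw : (P : Subgroup G) ≤ normalizer ((Dw hH hwz (hwp' P hwP) : Subgroup G) : Set G) := by
  intro g hg
  rw [mem_normalizer_iff]
  intro h
  constructor
  · rintro ⟨h1, h2⟩
    exact ⟨conj_cen P hwg hg h1, isPrimary_conj g h2⟩
  · rintro ⟨h1, h2⟩
    have h3 := conj_cen P hwg (inv_mem hg) h1
    have h4 : g⁻¹ * (g * h * g⁻¹) * g⁻¹⁻¹ = h := by group
    rw [h4] at h3
    refine ⟨h3, ?_⟩
    have h5 := isPrimary_conj g⁻¹ h2
    rwa [h4] at h5

include hH hwP hwz hwg in
/-- `m` is the prime `p`. -/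
theorem m_eq_p : m = p := by
  classical
  have hpm' := hpm hH
  have hbig := hwbig hH P hwP hwz
  have hwp := hwp' P hwP
  have hwC : w ∈ cen w := self_mem_cen w
  have hPT : ¬ (P : Subgroup G) ≤ cen w := by
    intro hle
    have h1 : p ∣ (cen w).index := by
      rw [hbig]
      exact hpm'.trans (dvd_mul_right _ _)
    exact P.not_dvd_index (h1.trans (index_dvd_of_le hle))
  have hPrim : ∀ x ∈ (P : Subgroup G), IsPrimary p x := fun x hx => Cfsg.Agent.Lib.H73Core.isPrimary_of_mem_sylow P hx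
  have hZ' : ∀ {g e : G}, g ∉ cen w → e ∈ cen w → e ∈ (P : Subgroup G) → g * e = e * g → e ∈ center G := by
    intro g e hg he heP hc
    exact hZ hH P hwP hwz hwg hg he (hPrim e heP) hc
  obtain ⟨x₀, hx₀P, hx₀T⟩ := SetLike.not_le_iff_exists.1 hPT
  -- an element `c₀`
  obtain ⟨c₀, hc₀P, hc₀T, hc₀p⟩ : ∃ c₀ ∈ (P : Subgroup G), c₀ ∉ cen w ∧ c₀ ^ p ∈ cen w := by
    obtain ⟨k, hk⟩ := hPrim x₀ hx₀P
    have hex : ∃ j, x₀ ^ (p ^ j) ∈ cen w := ⟨k, by rw [hk]; exact one_mem _⟩
    have hj0 : Nat.find hex ≠ 0 := by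
      intro h
      have h1 := Nat.find_spec hex
      rw [h] at h1
      apply hx₀T
      simpa using h1
    obtain ⟨j, hj⟩ : ∃ j, Nat.find hex = j + 1 := ⟨Nat.find hex - 1, by omega⟩
    refine ⟨x₀ ^ (p ^ j), pow_mem hx₀P _, ?_, ?_⟩
    · exact Nat.find_min hex (by omega)
    · rw [← pow_mul, ← pow_succ, ← hj]
      exact Nat.find_spec hex
  have hc₀Z : c₀ ^ p ∈ center G := hZ' hc₀T hc₀p (pow_mem hc₀P _) (by rw [← pow_succ, ← pow_succ'])
  have hc₀wT : c₀ * w ∉ cen w := by
    intro h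
    apply hc₀T
    have : c₀ = c₀ * w * w⁻¹ := by group
    rw [this]
    exact mul_mem h (inv_mem hwC)
  -- `N`
  let N : Subgroup (P : Subgroup G) := (cen w).subgroupOf (P : Subgroup G)
  haveI hNn : N.Normal := normal_subgroupOf_of_le_normalizer (P_le_norm P hwg)
  let π : (P : Subgroup G) →* (P : Subgroup G) ⧸ N := QuotientGroup.mk' N
  have hπ : ∀ x : (P : Subgroup G), π x = 1 ↔ (x : G) ∈ cen w := fun x => by
    rw [QuotientGroup.mk'_apply, QuotientGroup.eq_one_iff]
    rfl
  let c₀' : (P : Subgroup G) := ⟨c₀, hc₀P⟩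
  let w' : (P : Subgroup G) := ⟨w, hwP⟩
  have hc₀wp : (c₀ * w) ^ p ∈ cen w := by
    have h1 : π ((c₀' * w') ^ p) = 1 := by
      rw [map_pow, map_mul, (hπ w').2 hwC, mul_one, ← map_pow]
      exact (hπ _).2 hc₀p
    exact (hπ _).1 h1
  have hc₀wZ : (c₀ * w) ^ p ∈ center G := hZ' hc₀wT hc₀wp (pow_mem (mul_mem hc₀P hwP) _) (by rw [← pow_succ, ← pow_succ'])
  -- `w ^ p` is central
  have hwpZ : w ^ p ∈ center G := by
    rw [← QuotientGroup.eq_one_iff (N := center G)]
    have hcomm : Commute ((c₀ : G) : G ⧸ center G) ((w : G) : G ⧸ center G) := by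
      have h1 := hwg c₀ hc₀P
      have h2 : ((c₀ * w * c₀⁻¹ * w⁻¹ : G) : G ⧸ center G) = 1 := (QuotientGroup.eq_one_iff _).2 h1
      simp only [QuotientGroup.mk_mul, QuotientGroup.mk_inv] at h2
      show _ * _ = _ * _
      have h3 := mul_inv_eq_one.1 h2
      exact mul_inv_eq_iff_eq_mul.1 h3
    have h1 : ((c₀ * w : G) : G ⧸ center G) ^ p = 1 := by
      rw [← QuotientGroup.mk_pow]
      exact (QuotientGroup.eq_one_iff _).2 hc₀wZ
    have h2 : ((c₀ : G) : G ⧸ center G) ^ p = 1 := by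
      rw [← QuotientGroup.mk_pow]
      exact (QuotientGroup.eq_one_iff _).2 hc₀Z
    rw [QuotientGroup.mk_mul, hcomm.mul_pow, h2, one_mul] at h1
    rw [QuotientGroup.mk_pow]
    exact h1
  -- the commutator map
  have hζ : ∀ x ∈ (P : Subgroup G), x * w * x⁻¹ = (x * w * x⁻¹ * w⁻¹) * w := fun x _ => by group
  have hζp : ∀ x ∈ (P : Subgroup G), (x * w * x⁻¹ * w⁻¹) ^ p = 1 := by
    intro x hx
    have hz := hwg x hx
    set ζ := x * w * x⁻¹ * w⁻¹ with hζdef
    have hcz : Commute ζ w := (mem_center_iff.1 hz) w |>.symm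
    have h1 : (x * w * x⁻¹) ^ p = ζ ^ p * w ^ p := by
      rw [hζ x hx, ← hζdef, hcz.mul_pow]
    have h2 : (x * w * x⁻¹) ^ p = w ^ p := by
      rw [conj_pow]
      have := (mem_center_iff.1 hwpZ) x
      rw [this]
      group
    rw [h2] at h1
    exact (mul_eq_right.1 h1.symm)
  have hxpow : ∀ x ∈ (P : Subgroup G), x ^ p ∈ cen w := by
    intro x hx
    have hz := hwg x hx
    set ζ := x * w * x⁻¹ * w⁻¹ with hζdef
    have hi : ∀ i : ℕ, x ^ i * w * (x ^ i)⁻¹ = ζ ^ i * w := by
      intro i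
      induction i with
      | zero => simp
      | succ i ih =>
        have h1 : x ^ (i + 1) * w * (x ^ (i + 1))⁻¹ = x * (x ^ i * w * (x ^ i)⁻¹) * x⁻¹ := by
          rw [pow_succ']
          group
        rw [h1, ih]
        have h2 : x * (ζ ^ i * w) * x⁻¹ = (x * ζ ^ i * x⁻¹) * (x * w * x⁻¹) := by group
        rw [h2, hζ x hx, ← hζdef]
        have h3 := (mem_center_iff.1 (pow_mem hz i)) x
        rw [h3, pow_succ]
        group
    rw [mem_cen]
    have h1 := hi p
    rw [hζp x hx] at h1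
    have h2 : x ^ p * w * (x ^ p)⁻¹ = w := by simpa using h1
    exact mul_inv_eq_iff_eq_mul.1 h2
  have hcommT : ∀ x ∈ (P : Subgroup G), ∀ y ∈ (P : Subgroup G), x * y * x⁻¹ * y⁻¹ ∈ cen w := by
    intro x hx y hy
    have hzx := hwg x hx
    have hzy := hwg y hy
    set ζx := x * w * x⁻¹ * w⁻¹ with hζx
    set ζy := y * w * y⁻¹ * w⁻¹ with hζy
    have h1 : (x * y) * w * (x * y)⁻¹ = ζy * ζx * w := by
      have h2 : (x * y) * w * (x * y)⁻¹ = x * (y * w * y⁻¹) * x⁻¹ := by group
      rw [h2, hζ y hy, ← hζy]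
      have h3 : x * (ζy * w) * x⁻¹ = (x * ζy * x⁻¹) * (x * w * x⁻¹) := by group
      rw [h3, hζ x hx, ← hζx, (mem_center_iff.1 hzy) x]
      group
    have h4 : (y * x) * w * (y * x)⁻¹ = ζx * ζy * w := by
      have h2 : (y * x) * w * (y * x)⁻¹ = y * (x * w * x⁻¹) * y⁻¹ := by group
      rw [h2, hζ x hx, ← hζx]
      have h3 : y * (ζx * w) * y⁻¹ = (y * ζx * y⁻¹) * (y * w * y⁻¹) := by group
      rw [h3, hζ y hy, ← hζy, (mem_center_iff.1 hzx) y]
      group
    have h5 : ζy * ζx = ζx * ζy := (mem_center_iff.1 hzx) ζy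
    have hk : (y * x)⁻¹ * (x * y) ∈ cen w := by
      rw [mem_cen]
      have h6 : (x * y) * w * (x * y)⁻¹ = (y * x) * w * (y * x)⁻¹ := by rw [h1, h4, h5]
      have h7 : (y * x)⁻¹ * (x * y) * w * ((y * x)⁻¹ * (x * y))⁻¹ = w := by
        calc (y * x)⁻¹ * (x * y) * w * ((y * x)⁻¹ * (x * y))⁻¹
            = (y * x)⁻¹ * ((x * y) * w * (x * y)⁻¹) * (y * x) := by group
          _ = (y * x)⁻¹ * ((y * x) * w * (y * x)⁻¹) * (y * x) := by rw [h6]
          _ = w := by group
      exact mul_inv_eq_iff_eq_mul.1 h7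
    have h8 := conj_cen P hwg (mul_mem hy hx) hk
    have h9 : y * x * ((y * x)⁻¹ * (x * y)) * (y * x)⁻¹ = x * y * x⁻¹ * y⁻¹ := by group
    rwa [h9] at h8
  -- a noncentral `q`-element of `C`
  obtain ⟨e₀, he₀, he₀z, he₀p⟩ := exists_q_in_cen_big hH hbig
  obtain ⟨k, hk⟩ := he₀p
  have hmemD := fun (g : G) (hg : g ∈ (P : Subgroup G)) => mem_centralizer_Dw hH P hwP hwz hwg hg
  have hDab : ∀ a' ∈ Dw hH hwz hwp, ∀ b' ∈ Dw hH hwz hwp, a' * b' = b' * a' := by
    rintro a' ⟨h1, h2⟩ b' ⟨h3, h4⟩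
    exact (mem_cen.1 (q_central hH hwz hwp h1 h2 h3)).symm
  -- rank one
  have hrank : ∀ x ∈ (P : Subgroup G), ∃ i : ℕ, x * (c₀ ^ i)⁻¹ ∈ cen w := by
    intro x hx
    by_contra hcon
    push Not at hcon
    refine Cfsg.Agent.Lib.H73Rep.wrapper_rank1 (Dw hH hwz hwp) hDab (P : Subgroup G)
      (P_le_norm_Dw hH P hwP hwz hwg) ?_ hp.out
      (cop_pq hH) hc₀P hx (by rwa [hmemD _ hc₀P]) (by rw [hmemD _ (pow_mem hc₀P _)]; exact hc₀p)
      (by rw [hmemD _ (pow_mem hx _)]; exact hxpow x hx)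
      (by rw [hmemD _ (mul_mem (mul_mem (mul_mem hc₀P hx) (inv_mem hc₀P)) (inv_mem hx))]; exact hcommT c₀ hc₀P x hx)
      (fun i => by
        rw [hmemD _ (mul_mem hx (inv_mem (pow_mem hc₀P _)))]
        exact hcon i) (a₀ := e₀) ⟨he₀, k, hk⟩ he₀z hk
    intro g hg b' hb' hb'z hc
    rw [hmemD g hg]
    exact hfix hH P hwP hwz hwg hg hb'.1 hb'.2 hb'z hc
  -- the index
  have hrel := rel_eq hH P hwP hwz hwg
  rw [← hrel]
  let cb : (P : Subgroup G) ⧸ N := π c₀'
  have hcb1 : cb ≠ 1 := by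
    intro h
    exact hc₀T ((hπ _).1 h)
  have hcbp : cb ^ p = 1 := by
    show (π c₀') ^ p = 1
    rw [← map_pow]
    exact (hπ _).2 hc₀p
  have hord : orderOf cb = p := orderOf_eq_prime hcbp hcb1
  have hall : ∀ z : (P : Subgroup G) ⧸ N, z ∈ zpowers cb := by
    intro z
    obtain ⟨x, rfl⟩ := QuotientGroup.mk'_surjective N z
    obtain ⟨i, hi⟩ := hrank x x.2
    have h1 : π (x * (c₀' ^ i)⁻¹) = 1 := (hπ _).2 hi
    rw [map_mul, map_inv, map_pow] at h1
    have h2 : π x = cb ^ i := mul_inv_eq_one.1 h1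
    rw [h2]
    exact pow_mem (mem_zpowers cb) i
  have hcard := orderOf_eq_card_of_forall_mem_zpowers hall
  rw [hord] at hcard
  exact hcard.symm

end Anchor

end Cfsg.Agent.Lib.H73CaseB2
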