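import Mathlib
import Cfsg.Agent.Lib.H73CaseB2

/-!
# Groups with class sizes `1, m, mn`: the case where primary elements for primes of `m` are big (part 3)
-/

set_option autoImplicit false
set_option linter.style.haveILetI false
set_option linter.unusedVariables false
set_option linter.unusedSectionVars false
open scoped Pointwise commutatorElement

namespace Cfsg.Agent.Lib.H73CaseB3

open Subgroup Cfsg.Agent.Lib.ItoTwo Cfsg.Agent.Lib.H73CS Cfsg.Agent.Lib.H73CaseS Cfsg.Agent.Lib.H73CaseB1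
  Cfsg.Agent.Lib.H73CaseB2

variable {G : Type*} [Group G] [Finite G] {m n p q a b : ℕ} [hp : Fact p.Prime] [hq : Fact q.Prime]
  (hH : BH m n p q a b G) (hmp : m = p)

include hH hmp in
/-- Normal `p`-subgroups are central. -/
theorem normal_p_le_center {V : Subgroup G} (hVn : V.Normal) (hVp : IsPGroup p V) : V ≤ center G := by
  classical
  by_contra hcon
  obtain ⟨t, htV, htz⟩ := SetLike.not_le_iff_exists.1 hcon
  let P : Sylow p G := default
  have hVP : V ≤ (P : Subgroup G) := hVp.le_sylow_of_normal P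
  obtain ⟨w, ⟨hwP, hwV⟩, hwz, hwg⟩ := exists_w hH.hC (hpm hH) hVn P ⟨t, ⟨hVP htV, htV⟩, htz⟩
  have hwp := hwp' P hwP
  have hbig := hwbig hH P hwP hwz
  obtain ⟨e₀, he₀, he₀z, he₀p⟩ := exists_q_in_cen_big hH hbig
  have hCab := C_abelian hH P hwP hwz hwg
  have hPrim : ∀ x ∈ (P : Subgroup G), IsPrimary p x := fun x hx => Cfsg.Agent.Lib.H73Core.isPrimary_of_mem_sylow P hx
  have hPq : ∀ {x : G}, IsPrimary p x → IsPrimary q x → x = 1 := by
    intro x h1 h2
    exact eq_one_of_primary_reg h1 (Cfsg.Agent.Lib.H73Core.isPrimary_reg hq.out hp.out hH.hpq.symm h2)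
  have hwC : w ∈ cen w := self_mem_cen w
  -- `V ≤ C`
  have hVC : V ≤ cen w := by
    intro v hv
    have hvP := hVP hv
    apply hfix hH P hwP hwz hwg hvP he₀ he₀p he₀z
    set z := v * e₀ * v⁻¹ * e₀⁻¹ with hz
    have h1 : z ∈ V := by
      have h2 : e₀ * v⁻¹ * e₀⁻¹ ∈ V := hVn.conj_mem _ (inv_mem hv) e₀
      have h3 : z = v * (e₀ * v⁻¹ * e₀⁻¹) := by rw [hz]; group
      rw [h3]
      exact mul_mem hv h2
    have h2 : z ∈ Dw hH hwz hwp := by
      have h3 : v * e₀ * v⁻¹ ∈ Dw hH hwz hwp :=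
        ((mem_normalizer_iff.1 (P_le_norm_Dw hH P hwP hwz hwg hvP)) e₀).1 ⟨he₀, he₀p⟩
      exact mul_mem h3 (inv_mem ⟨he₀, he₀p⟩)
    have h3 : z = 1 := hPq (hPrim z (hVP h1)) h2.2
    have h4 : v * e₀ * v⁻¹ = e₀ := by
      rw [hz] at h3
      exact mul_inv_eq_one.1 h3
    exact mul_inv_eq_iff_eq_mul.1 h4
  -- `C` is normal
  have hCn : (cen w).Normal := by
    constructor
    intro u hu g
    have h1 : g * w * g⁻¹ ∈ V := hVn.conj_mem _ hwV g
    have h2 : g * w * g⁻¹ ∉ center G := by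
      intro h
      apply hwz
      have := conj_mem_center (g := g⁻¹) h
      have h3 : g⁻¹ * (g * w * g⁻¹) * g⁻¹⁻¹ = w := by group
      rwa [h3] at this
    have h3 := hTf hH P hwP hwz hwg (hVC h1) (isPrimary_conj g hwp) h2
    rw [← h3, mem_cen_conj]
    have h4 : g⁻¹ * (g * u * g⁻¹) * g = u := by group
    rw [h4]
    exact hu
  -- the `p`-part of `C`
  let Ap : Subgroup G :=
    { carrier := {u | u ∈ cen w ∧ IsPrimary p u}
      mul_mem' := by
        rintro x y ⟨hx, k, hk⟩ ⟨hy, l, hl⟩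
        refine ⟨mul_mem hx hy, k + l, ?_⟩
        have hc : Commute x y := hCab x hx y hy
        have h1 : x ^ (p ^ (k + l)) = 1 := by rw [pow_add, pow_mul, hk, one_pow]
        have h2 : y ^ (p ^ (k + l)) = 1 := by rw [add_comm, pow_add, pow_mul, hl, one_pow]
        rw [hc.mul_pow, h1, h2, one_mul]
      one_mem' := ⟨one_mem _, 0, by simp⟩
      inv_mem' := by
        rintro x ⟨hx, k, hk⟩
        exact ⟨inv_mem hx, k, by rw [inv_pow, hk, inv_one]⟩ }
  have hAmem : ∀ {u : G}, u ∈ Ap ↔ u ∈ cen w ∧ IsPrimary p u := Iff.rfl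
  have hAn : Ap.Normal := by
    constructor
    rintro u ⟨h1, h2⟩ g
    exact ⟨hCn.conj_mem u h1 g, isPrimary_conj g h2⟩
  have hAp : IsPGroup p Ap := by
    rintro ⟨u, h1, k, hk⟩
    exact ⟨k, Subtype.ext hk⟩
  have hAP : Ap ≤ (P : Subgroup G) := hAp.le_sylow_of_normal P
  let D : Subgroup G := Dw hH hwz hwp
  have hDp : IsPGroup q D := by
    rintro ⟨u, h1, k, hk⟩
    exact ⟨k, Subtype.ext hk⟩
  -- an element outside
  have hPT : ¬ (P : Subgroup G) ≤ cen w := by
    intro hle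
    have h1 : p ∣ (cen w).index := by
      rw [hbig]
      exact (hpm hH).trans (dvd_mul_right _ _)
    exact P.not_dvd_index (h1.trans (index_dvd_of_le hle))
  obtain ⟨c, hcP, hcC⟩ := SetLike.not_le_iff_exists.1 hPT
  have hcz : c ∉ center G := fun h => hcC (center_le_cen w h)
  have hcbig : (cen c).index = m * n := hH.hB c hcz (hPrim c hcP)
  -- stabilizers
  have hstab : ∀ x ∈ cen w, c * x = x * c → x ∈ center G := by
    intro x hx hcx
    obtain ⟨x₁, x₂, hxx, -, hx₁p, hx₂c, hz₁, hz₂⟩ := exists_primary_split hp.out x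
    have hx₂q : IsPrimary q x₂ := primary_q_of_reg hH hx₂c
    have hxc : x ∈ cen c := mem_cen.2 hcx.symm
    have h1 : x₁ ∈ cen c := (zpowers_le.2 hxc) hz₁
    have h2 : x₂ ∈ cen c := (zpowers_le.2 hxc) hz₂
    have h3 : x₁ ∈ cen w := (zpowers_le.2 hx) hz₁
    have h4 : x₂ ∈ cen w := (zpowers_le.2 hx) hz₂
    have h5 : x₁ ∈ center G := hZ hH P hwP hwz hwg hcC h3 hx₁p (mem_cen.1 h1).symm
    have h6 : x₂ ∈ center G := by
      by_contra hz
      exact hcC (hfix hH P hwP hwz hwg hcP h4 hx₂q hz (mem_cen.1 h2).symm)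
    rw [hxx]
    exact mul_mem h5 h6
  have hstab' : ∀ g x : G, x ∈ cen w → x ∈ cen (g * c * g⁻¹) → x ∈ center G := by
    intro g x hx hxc
    rw [mem_cen_conj] at hxc
    have h1 : g⁻¹ * x * g ∈ cen w := by
      have := hCn.conj_mem x hx g⁻¹
      rwa [inv_inv] at this
    have h2 := hstab _ h1 (mem_cen.1 hxc).symm
    have h3 := conj_mem_center (g := g) h2
    have h4 : g * (g⁻¹ * x * g) * g⁻¹ = x := by group
    rwa [h4] at h3
  -- the class of `c`
  let Vc : Set G := {z | ∃ g : G, z = g * c * g⁻¹}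
  have hVc : Vc.ncard = m * n := by
    rw [← hcbig]
    exact ncard_class c
  have hVcl : ∀ {H : Subgroup G}, ∀ h ∈ H, ∀ x ∈ Vc, h * x * h⁻¹ ∈ Vc := by
    rintro H h - x ⟨g, rfl⟩
    exact ⟨h * g, by group⟩
  have hstabH : ∀ {H : Subgroup G}, H ≤ cen w → ∀ x ∈ Vc, (cen x).relIndex H = (center G).relIndex H := by
    rintro H hHC x ⟨g, rfl⟩
    rw [← inf_relIndex_right (cen (g * c * g⁻¹)) H, ← inf_relIndex_right (center G) H]
    congr 1
    ext t
    constructor
    · rintro ⟨h1, h2⟩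
      exact ⟨hstab' g t (hHC h2) h1, h2⟩
    · rintro ⟨h1, h2⟩
      exact ⟨center_le_cen _ h1, h2⟩
  -- `σ`
  set σ := (center G).relIndex Ap with hσdef
  set τ := (center G).relIndex D with hτdef
  have hDC : D ≤ cen w := fun u hu => hu.1
  have hAC : Ap ≤ cen w := fun u hu => hu.1
  have hσ : σ ∣ m * n := by
    rw [← hVc]
    apply dvd_ncard_conj Ap σ Vc hVcl
    intro x hx
    rw [hstabH hAC x hx]
  have hτ : τ ∣ m * n := by
    rw [← hVc]
    apply dvd_ncard_conj D τ Vc hVcl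
    intro x hx
    rw [hstabH hDC x hx]
  have hAcard : ∃ k, Nat.card Ap = p ^ k := IsPGroup.iff_card.1 hAp
  have hDcard : ∃ k, Nat.card D = q ^ k := IsPGroup.iff_card.1 hDp
  obtain ⟨kA, hkA⟩ := hAcard
  obtain ⟨kD, hkD⟩ := hDcard
  have hσ1 : σ ≠ 1 := by
    intro h
    rw [hσdef, relIndex_eq_one] at h
    exact hwz (h ⟨hwC, hwp⟩)
  have hτ1 : τ ≠ 1 := by
    intro h
    rw [hτdef, relIndex_eq_one] at h
    exact he₀z (h ⟨he₀, he₀p⟩)
  have hmn : m * n = p * q ^ b := by rw [hmp, hH.hnb]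
  have hσp : σ = p := by
    have h1 : σ ∣ p ^ kA := by
      rw [← hkA]
      exact relIndex_dvd_card _ _
    obtain ⟨j, -, hj⟩ := (Nat.dvd_prime_pow hp.out).1 h1
    have h2 : p ^ j ∣ p * q ^ b := by
      rw [← hj, ← hmn]
      exact hσ
    have h3 : (p ^ j).Coprime (q ^ b) := Nat.Coprime.pow _ _ (cop_pq hH)
    have h4 : p ^ j ∣ p := h3.dvd_of_dvd_mul_right h2
    rw [← hj] at h4
    exact ((Nat.dvd_prime hp.out).1 h4).resolve_left hσ1
  have hτq : τ ∣ q ^ b := by
    have h1 : τ ∣ q ^ kD := by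
      rw [← hkD]
      exact relIndex_dvd_card _ _
    obtain ⟨j, -, hj⟩ := (Nat.dvd_prime_pow hq.out).1 h1
    have h2 : q ^ j ∣ p * q ^ b := by
      rw [← hj, ← hmn]
      exact hτ
    have h3 : (q ^ j).Coprime p := Nat.Coprime.pow_left _ (cop_pq hH).symm
    rw [hj]
    exact h3.dvd_of_dvd_mul_left h2
  -- `p ∣ τ - 1`
  have h1 : p ∣ ({u | u ∈ D ∧ u ∉ center G} : Set G).ncard := by
    apply dvd_ncard_conj (P : Subgroup G) p
    · rintro h hh x ⟨hx, hxz⟩
      refine ⟨((mem_normalizer_iff.1 (P_le_norm_Dw hH P hwP hwz hwg hh)) x).1 hx, ?_⟩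
      intro hz
      apply hxz
      have := conj_mem_center (g := h⁻¹) hz
      have h3 : h⁻¹ * (h * x * h⁻¹) * h⁻¹⁻¹ = x := by group
      rwa [h3] at this
    · rintro x ⟨-, hxz⟩
      have := m_dvd_relIndex hH hxz P
      rwa [hmp] at this
  rw [ncard_noncentral D] at h1
  have h2 : (Nat.card ((center G).subgroupOf D)).Coprime p := by
    have h3 : Nat.card ((center G).subgroupOf D) ∣ q ^ kD := by
      rw [← hkD]
      exact card_subgroup_dvd_card _
    exact Nat.Coprime.coprime_dvd_left h3 (Nat.Coprime.pow_left _ (cop_pq hH).symm)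
  have h3 : p ∣ τ - 1 := h2.symm.dvd_of_dvd_mul_left h1
  have hτpos : 0 < τ := Nat.pos_of_ne_zero (by
    show ((center G).subgroupOf D).index ≠ 0
    exact index_ne_zero_of_finite)
  have h4 : p ≤ τ - 1 := Nat.le_of_dvd (by omega) h3
  -- `q ^ b ∣ p - 1`
  let Q : Sylow q G := default
  have h5 : q ^ b ∣ ({u | u ∈ Ap ∧ u ∉ center G} : Set G).ncard := by
    apply dvd_ncard_conj (Q : Subgroup G) (q ^ b)
    · rintro h hh x ⟨hx, hxz⟩
      refine ⟨hAn.conj_mem x hx h, ?_⟩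
      intro hz
      apply hxz
      have := conj_mem_center (g := h⁻¹) hz
      have h3 : h⁻¹ * (h * x * h⁻¹) * h⁻¹⁻¹ = x := by group
      rwa [h3] at this
    · rintro x ⟨hx, hxz⟩
      have h6 := ordProj_index_dvd_relIndex Q (cen x)
      rw [hH.hB x hxz hx.2, hH.hma, hH.hnb, mul_comm, fact_aux b a hq.out hp.out hH.hpq.symm] at h6
      exact h6
  rw [ncard_noncentral Ap] at h5
  have h6 : (Nat.card ((center G).subgroupOf Ap)).Coprime (q ^ b) := by
    have h3 : Nat.card ((center G).subgroupOf Ap) ∣ p ^ kA := by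
      rw [← hkA]
      exact card_subgroup_dvd_card _
    exact Nat.Coprime.coprime_dvd_left h3 (Nat.Coprime.pow _ _ (cop_pq hH))
  have h7 : q ^ b ∣ σ - 1 := h6.symm.dvd_of_dvd_mul_left h5
  rw [hσp] at h7
  have hp2 := hp.out.two_le
  have h8 : q ^ b ≤ p - 1 := Nat.le_of_dvd (by omega) h7
  have h9 : τ ≤ q ^ b := Nat.le_of_dvd (pow_pos hq.out.pos _) hτq
  omega

end Cfsg.Agent.Lib.H73CaseB3
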