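import Mathlib
import Cfsg.Agent.Lib.H73CaseB3

/-!
# Groups with class sizes `1, m, mn`: the case where primary elements for primes of `m` are big (part 4)
-/

set_option autoImplicit false
set_option linter.style.haveILetI false
set_option linter.unusedVariables false
set_option linter.unusedSectionVars false
open scoped Pointwise commutatorElement

namespace Cfsg.Agent.Lib.H73CaseB4

open Subgroup Cfsg Cfsg.Agent.Lib.ItoTwo Cfsg.Agent.Lib.H73CS Cfsg.Agent.Lib.H73CaseS Cfsg.Agent.Lib.H73CaseB1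
  Cfsg.Agent.Lib.H73CaseB2 Cfsg.Agent.Lib.H73CaseB3 Cfsg.Agent.Lib.PCore

section Gen

variable {X : Type*} [Group X] [Finite X] {p : ℕ} [hp : Fact p.Prime]

theorem exists_zpow_of_index_prime {N : Subgroup X} [N.Normal] (hN : N.index = p) {b : X} (hb : b ∉ N) (k : X) :
    ∃ j : ℤ, (b ^ j)⁻¹ * k ∈ N := by
  let π : X →* X ⧸ N := QuotientGroup.mk' N
  have hπ : ∀ x : X, π x = 1 ↔ x ∈ N := fun x => by
    rw [QuotientGroup.mk'_apply, QuotientGroup.eq_one_iff]
  have hcard : Nat.card (X ⧸ N) = p := hN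
  have hb1 : π b ≠ 1 := fun h => hb ((hπ b).1 h)
  have h1 : π k ∈ zpowers (π b) := mem_zpowers_of_prime_card hcard hb1
  obtain ⟨j, hj⟩ := mem_zpowers_iff.1 h1
  refine ⟨j, (hπ _).1 ?_⟩
  rw [map_mul, map_inv, map_zpow, hj, inv_mul_cancel]

theorem pow_mem_of_index_prime {N : Subgroup X} [N.Normal] (hN : N.index = p) (x : X) : x ^ p ∈ N := by
  let π : X →* X ⧸ N := QuotientGroup.mk' N
  have hπ : ∀ x : X, π x = 1 ↔ x ∈ N := fun x => by
    rw [QuotientGroup.mk'_apply, QuotientGroup.eq_one_iff]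
  have hcard : Nat.card (X ⧸ N) = p := hN
  apply (hπ _).1
  rw [map_pow, ← hcard]
  exact pow_card_eq_one'

theorem normal_of_index_prime {N : Subgroup X} (hXp : IsPGroup p X) (hN : N.index = p) : N.Normal := by
  apply Subgroup.normal_of_index_eq_minFac_card
  obtain ⟨k, hk⟩ := IsPGroup.iff_card.1 hXp
  have hk0 : k ≠ 0 := by
    rintro rfl
    have h1 : N.index ∣ Nat.card X := index_dvd_card N
    rw [hN, hk, pow_zero] at h1
    exact hp.out.one_lt.ne' (Nat.dvd_one.1 h1)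
  rw [hN, hk, hp.out.pow_minFac hk0]

theorem eq_of_le_of_relIndex {A B C : Subgroup X} (hAB : A ≤ B) (hBC : B ≤ C) (h : A.relIndex C = B.relIndex C) :
    A = B := by
  have h1 : A.relIndex B * B.relIndex C = A.relIndex C := relIndex_mul_relIndex _ _ _ hAB hBC
  rw [h] at h1
  have h2 : 0 < B.relIndex C := Nat.pos_of_ne_zero (by
    show (B.subgroupOf C).index ≠ 0
    exact index_ne_zero_of_finite)
  have h3 : A.relIndex B = 1 := by
    have : A.relIndex B * B.relIndex C = 1 * B.relIndex C := by rw [h1, one_mul]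
    exact Nat.eq_of_mul_eq_mul_right h2 this
  rw [relIndex_eq_one] at h3
  exact le_antisymm hAB h3

end Gen

variable {G : Type*} [Group G] [Finite G] {m n p q a b : ℕ} [hp : Fact p.Prime] [hq : Fact q.Prime]
  (hH : BH m n p q a b G) (hmp : m = p)

include hH in
/-- Relative index at small elements. -/
theorem small_relIndex {y : G} (hys : (cen y).index = m) (P : Sylow p G) : (cen y).relIndex (P : Subgroup G) = m := by
  have hyz : y ∉ center G := not_center_of_index_m hH.hC hys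
  have h1 := m_dvd_relIndex hH hyz P
  have h0 : (cen y).relIndex (P : Subgroup G) ≠ 0 := by
    show ((cen y).subgroupOf (P : Subgroup G)).index ≠ 0
    exact index_ne_zero_of_finite
  have h2 : (cen y).relIndex (P : Subgroup G) ≤ (cen y).relIndex ⊤ :=
    relIndex_le_of_le_right le_top (by
      rw [relIndex_top_right]
      exact index_ne_zero_of_finite)
  rw [relIndex_top_right, hys] at h2
  exact le_antisymm h2 (Nat.le_of_dvd (Nat.pos_of_ne_zero h0) h1)

include hH hmp in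
theorem small_normal {y : G} (hys : (cen y).index = m) (P : Sylow p G) :
    ((cen y).subgroupOf (P : Subgroup G)).Normal := by
  apply normal_of_index_prime (p := p) P.isPGroup'
  exact (small_relIndex hH hys P).trans hmp

include hH hmp in
/-- A small `q`-element lies in the `q`-core, and centralizes it. -/
theorem mem_O_of_small {y : G} (hyp : IsPrimary q y) (hys : (cen y).index = m) :
    y ∈ pCore q G ∧ pCore q G ≤ cen y := by
  classical
  have hqm : ¬ q ∣ m := fun h => hq.out.one_lt.ne' (Nat.eq_one_of_dvd_coprimes hH.hC.hcop h (hqn hH))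
  obtain ⟨Q, hQ⟩ := exists_sylow_le_of_not_dvd (q := q) (cen y) (by rwa [hys])
  have hOle : pCore q G ≤ cen y := (pCore_le_sylow q Q).trans hQ
  refine ⟨?_, hOle⟩
  haveI := solvable hH
  have hK : pPrimeCore q G ≤ center G := by
    apply normal_p_le_center hH hmp inferInstance
    rintro ⟨x, hx⟩
    have h1 : orderOf x ∣ Nat.card (pPrimeCore q G) := by
      have := orderOf_dvd_natCard (⟨x, hx⟩ : pPrimeCore q G)
      rwa [Subgroup.orderOf_mk] at this
    have h2 : (orderOf x).Coprime q := Nat.Coprime.coprime_dvd_left h1 (card_pPrimeCore_coprime q)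
    obtain ⟨k, hk⟩ := primary_p_of_reg hH h2
    exact ⟨k, Subtype.ext hk⟩
  have hyF : y ∈ fittingSubgroup G := by
    apply centralizer_fittingSubgroup_le
    rw [mem_centralizer_iff]
    intro f hf
    have hf' := fittingSubgroup_le_sup q hf
    obtain ⟨o, ho, k, hk, rfl⟩ := mem_sup_of_normal_right.1 hf'
    have h1 := mem_cen.1 (hOle ho)
    have h2 := (mem_center_iff.1 (hK hk)) y
    calc o * k * y = o * (k * y) := by group
      _ = o * (y * k) := by rw [← h2]
      _ = (o * y) * k := by group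
      _ = (y * o) * k := by rw [h1]
      _ = y * (o * k) := by group
  have hyO := fittingSubgroup_le_sup q hyF
  obtain ⟨o, ho, k, hk, hok⟩ := mem_sup_of_normal_right.1 hyO
  have hkz := hK hk
  -- `k` is trivial
  have hkp : IsPrimary p k := by
    have h1 : orderOf k ∣ Nat.card (pPrimeCore q G) := by
      have := orderOf_dvd_natCard (⟨k, hk⟩ : pPrimeCore q G)
      rwa [Subgroup.orderOf_mk] at this
    have h2 : (orderOf k).Coprime q := Nat.Coprime.coprime_dvd_left h1 (card_pPrimeCore_coprime q)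
    exact primary_p_of_reg hH h2
  have hoq : IsPrimary q o := by
    obtain ⟨l, hl⟩ := isPGroup_pCore (G := G) q ⟨o, ho⟩
    exact ⟨l, congrArg Subtype.val hl⟩
  have hkq : IsPrimary q k := by
    obtain ⟨i, hi⟩ := hyp
    obtain ⟨l, hl⟩ := hoq
    refine ⟨i + l, ?_⟩
    have hc : Commute o k := (mem_center_iff.1 hkz) o
    have h1 : y ^ (q ^ (i + l)) = 1 := by rw [pow_add, pow_mul, hi, one_pow]
    have h2 : o ^ (q ^ (i + l)) = 1 := by rw [add_comm, pow_add, pow_mul, hl, one_pow]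
    rw [← hok, hc.mul_pow, h2, one_mul] at h1
    exact h1
  have hk1 : k = 1 := eq_one_of_primary_reg hkp (Cfsg.Agent.Lib.H73Core.isPrimary_reg hq.out hp.out hH.hpq.symm hkq)
  rw [← hok, hk1, mul_one]
  exact ho

include hH hmp in
/-- Elements of `P` centralizing a small element centralize its conjugates under `P`. -/
theorem conj_in_normal {y : G} (hys : (cen y).index = m) (P : Sylow p G) {k t : G} (hk : k ∈ (P : Subgroup G))
    (ht : t ∈ (P : Subgroup G)) (htc : t ∈ cen y) : t ∈ cen (k * y * k⁻¹) := by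
  haveI hNn := small_normal hH hmp hys P
  have h1 := hNn.conj_mem (⟨t, ht⟩ : (P : Subgroup G)) htc (⟨k, hk⟩⁻¹ : (P : Subgroup G))
  rw [mem_cen_conj]
  have h2 : ((⟨k, hk⟩⁻¹ * ⟨t, ht⟩ * (⟨k, hk⟩⁻¹)⁻¹ : (P : Subgroup G)) : G) ∈ cen y := h1
  simpa using h2

theorem isPrimary_of_mem_O {o : G} (ho : o ∈ pCore q G) : IsPrimary q o := by
  obtain ⟨l, hl⟩ := isPGroup_pCore (G := G) q ⟨o, ho⟩
  exact ⟨l, congrArg Subtype.val hl⟩

include hH hmp in
theorem conj_into_O {y : G} (hyp : IsPrimary q y) (hys : (cen y).index = m) (g : G) : g * y * g⁻¹ ∈ pCore q G :=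
  (inferInstance : (pCore q G).Normal).conj_mem _ (mem_O_of_small hH hmp hyp hys).1 g

/-- The elements of `O` centralizing a Sylow subgroup. -/
def Wq (Q : Sylow q G) : Subgroup G := pCore q G ⊓ centralizer ((Q : Subgroup G) : Set G)

theorem mem_Wq {Q : Sylow q G} {y : G} : y ∈ Wq Q ↔ y ∈ pCore q G ∧ (Q : Subgroup G) ≤ cen y := by
  show y ∈ pCore q G ⊓ centralizer ((Q : Subgroup G) : Set G) ↔ _
  rw [mem_inf, mem_centralizer_iff]
  constructor
  · rintro ⟨h1, h2⟩
    exact ⟨h1, fun t ht => mem_cen.2 (h2 t ht)⟩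
  · rintro ⟨h1, h2⟩
    exact ⟨h1, fun t ht => mem_cen.1 (h2 ht)⟩

include hH hmp in
theorem conj_into_W (Q : Sylow q G) {y : G} (hyp : IsPrimary q y) (hys : (cen y).index = m) :
    ∃ g : G, g * y * g⁻¹ ∈ Wq Q := by
  have hqm : ¬ q ∣ m := fun h => hq.out.one_lt.ne' (Nat.eq_one_of_dvd_coprimes hH.hC.hcop h (hqn hH))
  obtain ⟨g, -, hg⟩ := exists_conj_central Q hyp (by rwa [hys])
  exact ⟨g, mem_Wq.2 ⟨conj_into_O hH hmp hyp hys g, hg⟩⟩

include hH in
theorem small_of_W {Q : Sylow q G} {y : G} (hy : y ∈ Wq Q) (hyz : y ∉ center G) : (cen y).index = m := by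
  obtain ⟨-, h2⟩ := mem_Wq.1 hy
  rcases noncentral hH.hC y hyz with h | h
  · exact h
  · exfalso
    apply Q.not_dvd_index
    have h3 : q ∣ (cen y).index := by
      rw [h]
      exact (hqn hH).trans (dvd_mul_left _ _)
    exact h3.trans (index_dvd_of_le h2)

include hH hmp in
/-- The key lemma: all noncentral elements of `W` have the same centralizer in `P`. -/
theorem common_U (P : Sylow p G) (Q : Sylow q G) {y y' : G} (hy : y ∈ Wq Q) (hyz : y ∉ center G) (hy' : y' ∈ Wq Q)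
    (hy'z : y' ∉ center G) : cen y ⊓ (P : Subgroup G) = cen y' ⊓ (P : Subgroup G) := by
  classical
  by_contra hne
  have hys := small_of_W hH hy hyz
  have hy's := small_of_W hH hy' hy'z
  obtain ⟨hyO, hyQ⟩ := mem_Wq.1 hy
  obtain ⟨hy'O, hy'Q⟩ := mem_Wq.1 hy'
  have hyq := isPrimary_of_mem_O hyO
  have hy'q := isPrimary_of_mem_O hy'O
  have hrel : ∀ {v : G}, (cen v).index = m → (cen v ⊓ (P : Subgroup G)).relIndex (P : Subgroup G) = m := by
    intro v hv
    rw [inf_relIndex_right]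
    exact small_relIndex hH hv P
  have hle_eq : ∀ {v v' : G}, (cen v).index = m → (cen v').index = m →
      cen v ⊓ (P : Subgroup G) ≤ cen v' ⊓ (P : Subgroup G) → cen v ⊓ (P : Subgroup G) = cen v' ⊓ (P : Subgroup G) := by
    intro v v' hv hv' hle
    exact eq_of_le_of_relIndex hle inf_le_right ((hrel hv).trans (hrel hv').symm)
  have hAB : ¬ cen y ⊓ (P : Subgroup G) ≤ cen y' ⊓ (P : Subgroup G) := fun h => hne (hle_eq hys hy's h)
  have hBA : ¬ cen y' ⊓ (P : Subgroup G) ≤ cen y ⊓ (P : Subgroup G) := fun h => hne (hle_eq hy's hys h).symm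
  obtain ⟨a₀, ha₀A, ha₀B⟩ := SetLike.not_le_iff_exists.1 hAB
  obtain ⟨b₀, hb₀B, hb₀A⟩ := SetLike.not_le_iff_exists.1 hBA
  have hb₀P : b₀ ∈ (P : Subgroup G) := hb₀B.2
  have hb₀y : b₀ ∉ cen y := fun h => hb₀A ⟨h, hb₀P⟩
  have hyy'c : y * y' = y' * y := by
    have := mem_cen.1 (hy'Q (pCore_le_sylow q Q hyO))
    exact this
  -- the product
  have hyy : y * y' ∈ Wq Q := mul_mem hy hy'
  have hcancel : ∀ t : G, t ∈ cen (y * y') → t ∈ cen y → t ∈ cen y' := by
    intro t h1 h2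
    rw [mem_cen] at *
    have h3 : y * (t * y') = y * (y' * t) := by
      calc y * (t * y') = (y * t) * y' := by group
        _ = (t * y) * y' := by rw [h2]
        _ = t * (y * y') := by group
        _ = (y * y') * t := h1
        _ = _ := by group
    exact mul_left_cancel h3
  have hyyz : y * y' ∉ center G := by
    intro hz
    apply ha₀B
    exact ⟨hcancel a₀ (mem_cen.2 ((mem_center_iff.1 hz) a₀)) ha₀A.1, ha₀A.2⟩
  have hyys := small_of_W hH hyy hyyz
  have hCA : ¬ cen (y * y') ⊓ (P : Subgroup G) ≤ cen y ⊓ (P : Subgroup G) := by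
    intro hle
    have heq := hle_eq hyys hys hle
    apply ha₀B
    have h1 : a₀ ∈ cen (y * y') ⊓ (P : Subgroup G) := heq ▸ ha₀A
    exact ⟨hcancel a₀ h1.1 ha₀A.1, ha₀A.2⟩
  obtain ⟨k, hkC, hkA⟩ := SetLike.not_le_iff_exists.1 hCA
  have hkP : k ∈ (P : Subgroup G) := hkC.2
  have hky : k ∉ cen y := fun h => hkA ⟨h, hkP⟩
  have hk : k * (y * y') = (y * y') * k := mem_cen.1 hkC.1
  set A' := k * y * k⁻¹ with hA'
  set B' := k * y' * k⁻¹ with hB'
  have hAB' : A' * B' = y * y' := by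
    calc A' * B' = (k * (y * y')) * k⁻¹ := by rw [hA', hB']; group
      _ = ((y * y') * k) * k⁻¹ := by rw [hk]
      _ = _ := by group
  have hB's : (cen B').index = m := by rw [hB', index_cen_conj, hy's]
  have hyB' : y * B' = B' * y :=
    mem_cen.1 ((mem_O_of_small hH hmp (isPrimary_conj k hy'q) hB's).2 hyO)
  have hyB'i : y * B'⁻¹ = B'⁻¹ * y := (show Commute y B' from hyB').inv_right
  set X := A' * y⁻¹ with hXdef
  have hX : X = y' * B'⁻¹ := by
    have h1 : A' = y * y' * B'⁻¹ := eq_mul_inv_of_mul_eq hAB'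
    calc X = y * y' * B'⁻¹ * y⁻¹ := by rw [hXdef, ← h1]
      _ = y' * y * B'⁻¹ * y⁻¹ := by rw [hyy'c]
      _ = y' * (y * B'⁻¹) * y⁻¹ := by group
      _ = y' * (B'⁻¹ * y) * y⁻¹ := by rw [hyB'i]
      _ = y' * B'⁻¹ := by group
  have hb₀X : Commute b₀ X := by
    rw [hX]
    have h1 : Commute b₀ y' := mem_cen.1 hb₀B.1
    have h2 : Commute b₀ B' := mem_cen.1 (conj_in_normal hH hmp hy's P hkP hb₀P hb₀B.1)
    exact h1.mul_right h2.inv_right
  -- the quotient
  haveI hNn := small_normal hH hmp hys P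
  have hNi : ((cen y).subgroupOf (P : Subgroup G)).index = p := (small_relIndex hH hys P).trans hmp
  obtain ⟨j, hj⟩ := exists_zpow_of_index_prime hNi (b := ⟨b₀, hb₀P⟩) hb₀y ⟨k, hkP⟩
  have hj' : (b₀ ^ j)⁻¹ * k ∈ cen y := by
    have h1 : (((⟨b₀, hb₀P⟩ : (P : Subgroup G)) ^ j)⁻¹ * ⟨k, hkP⟩ : (P : Subgroup G)).1 ∈ cen y := hj
    simpa using h1
  set k₁ := b₀ ^ j with hk₁
  have hk₁P : k₁ ∈ (P : Subgroup G) := zpow_mem hb₀P j
  have hk₁X : Commute k₁ X := hb₀X.zpow_left j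
  have hk₁y : k₁ * y * k₁⁻¹ = X * y := by
    have h1 : X * y = A' := by rw [hXdef]; group
    rw [h1, hA']
    have h2 : k = k₁ * (k₁⁻¹ * k) := by group
    have h3 := mem_cen.1 hj'
    calc k₁ * y * k₁⁻¹ = k₁ * (y * (k₁⁻¹ * k)) * (k₁⁻¹ * k)⁻¹ * k₁⁻¹ := by group
      _ = k₁ * ((k₁⁻¹ * k) * y) * (k₁⁻¹ * k)⁻¹ * k₁⁻¹ := by rw [h3]
      _ = _ := by group
  have hi : ∀ i : ℕ, k₁ ^ i * y * (k₁ ^ i)⁻¹ = X ^ i * y := by
    intro i
    induction i with
    | zero => simp
    | succ i ih =>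
      have h1 : k₁ ^ (i + 1) * y * (k₁ ^ (i + 1))⁻¹ = k₁ * (k₁ ^ i * y * (k₁ ^ i)⁻¹) * k₁⁻¹ := by
        rw [pow_succ']
        group
      rw [h1, ih]
      have h2 : k₁ * X ^ i = X ^ i * k₁ := (hk₁X.pow_right i).eq
      calc k₁ * (X ^ i * y) * k₁⁻¹ = (k₁ * X ^ i) * y * k₁⁻¹ := by group
        _ = (X ^ i * k₁) * y * k₁⁻¹ := by rw [h2]
        _ = X ^ i * (k₁ * y * k₁⁻¹) := by group
        _ = X ^ i * (X * y) := by rw [hk₁y]
        _ = _ := by rw [pow_succ]; group
  have hpow : k₁ ^ p ∈ cen y := by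
    have h1 := pow_mem_of_index_prime hNi (⟨k₁, hk₁P⟩ : (P : Subgroup G))
    have h2 : (((⟨k₁, hk₁P⟩ : (P : Subgroup G)) ^ p : (P : Subgroup G)) : G) ∈ cen y := h1
    simpa using h2
  have hXp : X ^ p = 1 := by
    have h1 := hi p
    have h2 : k₁ ^ p * y * (k₁ ^ p)⁻¹ = y := by
      rw [mem_cen.1 hpow]
      group
    rw [h2] at h1
    exact (mul_eq_right.1 h1.symm)
  have hXO : X ∈ pCore q G := by
    rw [hXdef]
    exact mul_mem (conj_into_O hH hmp hyq hys k) (inv_mem hyO)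
  have hX1 : X = 1 := by
    apply eq_one_of_primary_reg (isPrimary_of_mem_O hXO)
    have h1 : orderOf X ∣ p := orderOf_dvd_of_pow_eq_one hXp
    exact Nat.Coprime.coprime_dvd_left h1 (cop_pq hH)
  apply hky
  rw [mem_cen]
  have h1 : A' = y := by
    rw [hXdef] at hX1
    exact mul_inv_eq_one.1 hX1
  rw [hA'] at h1
  exact mul_inv_eq_iff_eq_mul.1 h1

include hH in
/-- `G = P Q`. -/
theorem exists_mul_PQ (P : Sylow p G) (Q : Sylow q G) (g : G) : ∃ a ∈ (P : Subgroup G), ∃ c ∈ (Q : Subgroup G), g = a * c := by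
  obtain ⟨β, hβ⟩ := exists_index_sylow hH P
  have h1 : Nat.card (P : Subgroup G) * q ^ β = Nat.card G := by
    rw [← hβ]
    exact card_mul_index _
  have h2 : Nat.card (Q : Subgroup G) = q ^ β := by
    rw [Q.card_eq_multiplicity, ← h1, P.card_eq_multiplicity, mul_comm,
      fact_aux β _ hq.out hp.out hH.hpq.symm]
  have hcomp : IsComplement' (P : Subgroup G) (Q : Subgroup G) := isComplement'_of_coprime (by rw [h2, h1]) (by
    rw [h2, P.card_eq_multiplicity]
    exact Nat.Coprime.pow _ _ (cop_pq hH))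
  obtain ⟨⟨a, c⟩, hac, -⟩ := hcomp.existsUnique g
  exact ⟨a, a.2, c, c.2, hac.symm⟩

include hH hmp in
/-- Conjugates of elements of `W` have the same centralizer in `P`. -/
theorem cen_conj_inf (P : Sylow p G) (Q : Sylow q G) {y : G} (hy : y ∈ Wq Q) (hyz : y ∉ center G) (g : G) :
    cen (g * y * g⁻¹) ⊓ (P : Subgroup G) = cen y ⊓ (P : Subgroup G) := by
  have hys := small_of_W hH hy hyz
  obtain ⟨a', ha', c, hc, rfl⟩ := exists_mul_PQ hH P Q g
  have h1 : a' * c * y * (a' * c)⁻¹ = a' * y * a'⁻¹ := by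
    have h2 : c * y = y * c := mem_cen.1 ((mem_Wq.1 hy).2 hc)
    calc a' * c * y * (a' * c)⁻¹ = a' * (c * y) * c⁻¹ * a'⁻¹ := by group
      _ = a' * (y * c) * c⁻¹ * a'⁻¹ := by rw [h2]
      _ = _ := by group
  rw [h1]
  have hy₂s : (cen (a' * y * a'⁻¹)).index = m := by rw [index_cen_conj, hys]
  ext t
  constructor
  · rintro ⟨h2, h3⟩
    refine ⟨?_, h3⟩
    have h4 := conj_in_normal hH hmp hy₂s P (inv_mem ha') h3 h2
    have h5 : a'⁻¹ * (a' * y * a'⁻¹) * a'⁻¹⁻¹ = y := by group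
    rwa [h5] at h4
  · rintro ⟨h2, h3⟩
    exact ⟨conj_in_normal hH hmp hys P ha' h3 h2, h3⟩

include hH hmp in
/-- The final contradiction. -/
theorem false_of_BH : False := by
  classical
  let P : Sylow p G := default
  let Q : Sylow q G := default
  obtain ⟨y₀, hy₀p, hy₀s⟩ := hH.hs
  obtain ⟨g₀, hg₀⟩ := conj_into_W hH hmp Q hy₀p hy₀s
  set y₁ := g₀ * y₀ * g₀⁻¹ with hy₁
  have hy₁s : (cen y₁).index = m := by rw [hy₁, index_cen_conj, hy₀s]
  have hy₁z : y₁ ∉ center G := not_center_of_index_m hH.hC hy₁s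
  have hPT : ¬ (P : Subgroup G) ≤ cen y₁ := by
    intro hle
    have h1 := small_relIndex hH hy₁s P
    rw [relIndex_eq_one.2 hle] at h1
    exact m_ne hH.hC h1.symm
  obtain ⟨c, hcP, hcy⟩ := SetLike.not_le_iff_exists.1 hPT
  have hcz : c ∉ center G := fun h => hcy (center_le_cen _ h)
  have hcp : IsPrimary p c := Cfsg.Agent.Lib.H73Core.isPrimary_of_mem_sylow P hcP
  have hcbig := hH.hB c hcz hcp
  obtain ⟨e, hec, hez, hep⟩ := exists_q_in_cen_big hH hcbig
  have hce : c ∈ cen e := mem_cen.2 (mem_cen.1 hec).symm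
  rcases noncentral hH.hC e hez with hes | heb
  · obtain ⟨h, hh⟩ := conj_into_W hH hmp Q hep hes
    set y₂ := h * e * h⁻¹ with hy₂
    have hy₂z : y₂ ∉ center G := by
      have hy₂s : (cen y₂).index = m := by rw [hy₂, index_cen_conj, hes]
      exact not_center_of_index_m hH.hC hy₂s
    have h1 := common_U hH hmp P Q hh hy₂z hg₀ hy₁z
    have h2 := cen_conj_inf hH hmp P Q hh hy₂z h⁻¹
    have h3 : h⁻¹ * y₂ * h⁻¹⁻¹ = e := by rw [hy₂]; group
    rw [h3, h1] at h2
    have h4 : c ∈ cen e ⊓ (P : Subgroup G) := ⟨hce, hcP⟩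
    rw [h2] at h4
    exact hcy h4.1
  · obtain ⟨Q', hQ'⟩ := (isPGroup_zpowers hep).exists_le_sylow
    obtain ⟨g, hg⟩ := MulAction.exists_smul_eq G Q Q'
    have heQ' : e ∈ (Q' : Subgroup G) := hQ' (mem_zpowers e)
    rw [← hg] at heQ'
    have h1 := (mem_smul_sylow_iff g Q e).1 heQ'
    have h2 : g⁻¹ * e * g ∈ cen y₁ := (mem_Wq.1 hg₀).2 h1
    have h3 : e ∈ cen (g * y₁ * g⁻¹) := mem_cen_conj.2 h2
    have h4 : g * y₁ * g⁻¹ ∈ cen e := mem_cen.2 (mem_cen.1 h3).symm
    have hle : cen e ≤ cen c :=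
      flat_big hH.hC heb (mem_cen.1 hec) (coprime_pq_elts hH hcp hep).symm
    have h5 : g * y₁ * g⁻¹ ∈ cen c := hle h4
    have h6 : c ∈ cen (g * y₁ * g⁻¹) ⊓ (P : Subgroup G) := ⟨mem_cen.2 (mem_cen.1 h5).symm, hcP⟩
    rw [cen_conj_inf hH hmp P Q hg₀ hy₁z g] at h6
    exact hcy h6.1

end Cfsg.Agent.Lib.H73CaseB4
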