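import Mathlib
import Cfsg.Agent.Lib.CoprimeInv
import Cfsg.Agent.Lib.Coprime
import Cfsg.Agent.Lib.OddPGroup
import Cfsg.Agent.Lib.PResid

/-!
Groups with a cyclic Sylow `p`-subgroup all of whose `p'`-subgroups are abelian: the hypothesis,
its transfer to subgroups and quotients, and the lifting of the conclusion through normal
`p'`-subgroups and normal `p`-subgroups.
-/

namespace Cfsg.Agent.Lib.H73Cyc

open Subgroup

universe u

section Basics

variable {G : Type*} [Group G]

/-- The number fact. -/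
lemma num_fact {p a m r : ℕ} (hp : p.Prime) (hr : ¬ p ∣ r) (h1 : m ≡ 1 [MOD p])
    (h : m ^ r ≡ 1 [MOD p ^ a]) : m ≡ 1 [MOD p ^ a] := by
  have hs : (∑ i ∈ Finset.range r, m ^ i) ≡ r [MOD p] := by
    have : ∀ s : ℕ, (∑ i ∈ Finset.range s, m ^ i) ≡ s [MOD p] := by
      intro s
      induction s with
      | zero => simp [Nat.ModEq]
      | succ s ih =>
        rw [Finset.sum_range_succ]
        have h2 : m ^ s ≡ 1 [MOD p] := by simpa using h1.pow s
        exact ih.add h2
    exact this r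
  have hcop : Nat.Coprime (∑ i ∈ Finset.range r, m ^ i) (p ^ a) := by
    apply Nat.Coprime.pow_right
    rw [Nat.coprime_comm, Nat.Prime.coprime_iff_not_dvd hp]
    intro hd
    apply hr
    exact (Nat.modEq_zero_iff_dvd.mp (hs.symm.trans (Nat.modEq_zero_iff_dvd.mpr hd)))
  rw [← ZMod.natCast_eq_natCast_iff] at h ⊢
  push_cast at h ⊢
  have hu : IsUnit ((∑ i ∈ Finset.range r, m ^ i : ℕ) : ZMod (p ^ a)) :=
    (ZMod.isUnit_iff_coprime _ _).mpr hcop
  have h3 : ((∑ i ∈ Finset.range r, (m : ZMod (p ^ a)) ^ i)) * ((m : ZMod (p ^ a)) - 1) = 0 := by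
    rw [geom_sum_mul, h, sub_self]
  push_cast at hu
  have h4 := (hu.mul_right_eq_zero).mp h3
  exact sub_eq_zero.mp h4

/-- A `p'`-element normalizing a cyclic `p`-group acts as a power map of a special kind. -/
lemma key_power {p : ℕ} [Fact p.Prime] [Finite G] (P : Subgroup G) (hP : IsPGroup p P)
    (hc : IsCyclic P) (b : G) (hb : b ∈ normalizer (P : Set G)) {r : ℕ} (hr : ¬ p ∣ r)
    (hbr : b ^ r = 1) :
    ∃ n : ℕ, (∀ u ∈ P, b * u * b⁻¹ = u ^ (n + 1)) ∧ (n.Coprime p ∨ ∀ u ∈ P, u ^ n = 1) := by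
  have hp : p.Prime := Fact.out
  obtain ⟨⟨x, hx⟩, hgen⟩ := hc
  have hgen' : ∀ u ∈ P, u ∈ zpowers x := by
    intro u hu
    obtain ⟨k, hk⟩ := hgen ⟨u, hu⟩
    rw [mem_zpowers_iff]
    refine ⟨k, ?_⟩
    have := congrArg Subtype.val hk
    simpa using this
  have hbx : b * x * b⁻¹ ∈ P := (mem_set_normalizer_iff.1 hb x).1 hx
  obtain ⟨m₀, hm₀⟩ : ∃ m : ℕ, x ^ m = b * x * b⁻¹ := by
    have h1 := hgen' _ hbx
    exact (mem_powers_iff_mem_zpowers.mpr h1)
  -- choose m with m ≥ 1
  obtain ⟨m, hmpos, hm⟩ : ∃ m : ℕ, 1 ≤ m ∧ x ^ m = b * x * b⁻¹ := by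
    refine ⟨m₀ + orderOf x, ?_, ?_⟩
    · have := orderOf_pos x; omega
    · rw [pow_add, pow_orderOf_eq_one, mul_one, hm₀]
  have hact : ∀ u ∈ P, b * u * b⁻¹ = u ^ m := by
    intro u hu
    obtain ⟨k, rfl⟩ := mem_zpowers_iff.mp (hgen' u hu)
    have h1 : b * x ^ k * b⁻¹ = (b * x * b⁻¹) ^ k := by
      rw [conj_zpow]
    rw [h1, ← hm, ← zpow_natCast, ← zpow_mul, ← zpow_natCast, ← zpow_mul, mul_comm]
  refine ⟨m - 1, ?_, ?_⟩
  · rw [Nat.sub_add_cancel hmpos]; exact hact
  · by_cases hd : p ∣ m - 1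
    · right
      -- m ≡ 1 mod p
      have h1 : m ≡ 1 [MOD p] := by
        have : m = (m - 1) + 1 := by omega
        rw [this]
        have h0 : (m - 1) ≡ 0 [MOD p] := Nat.modEq_zero_iff_dvd.mpr hd
        simpa using h0.add_right 1
      -- iterate
      have hiter : ∀ i : ℕ, b ^ i * x * (b ^ i)⁻¹ = x ^ (m ^ i) := by
        intro i
        induction i with
        | zero => simp
        | succ i ih =>
          have h2 : b ^ (i + 1) * x * (b ^ (i + 1))⁻¹ = b * (b ^ i * x * (b ^ i)⁻¹) * b⁻¹ := by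
            rw [pow_succ']; group
          rw [h2, ih, pow_succ, pow_mul]
          rw [hact _ (P.pow_mem hx _)]
      have h2 := hiter r
      rw [hbr] at h2
      simp only [one_mul, inv_one, mul_one] at h2
      obtain ⟨a, ha⟩ : ∃ a, orderOf x = p ^ a := by
        obtain ⟨a, ha⟩ := hP ⟨x, hx⟩
        have h3 : x ^ p ^ a = 1 := by
          have := congrArg Subtype.val ha
          simpa using this
        obtain ⟨c, -, hc⟩ := (Nat.dvd_prime_pow hp).1 (orderOf_dvd_of_pow_eq_one h3)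
        exact ⟨c, hc⟩
      have h3 : m ^ r ≡ 1 [MOD p ^ a] := by
        rw [← ha]
        apply (pow_eq_pow_iff_modEq).1
        rw [pow_one]
        exact h2.symm
      have h4 := num_fact hp hr h1 h3
      intro u hu
      obtain ⟨k, rfl⟩ := mem_zpowers_iff.mp (hgen' u hu)
      have h5 : x ^ (m - 1) = 1 := by
        rw [← orderOf_dvd_iff_pow_eq_one, ha]
        exact (Nat.modEq_iff_dvd' hmpos).1 h4.symm
      rw [← zpow_natCast, ← zpow_mul, mul_comm, zpow_mul, zpow_natCast, h5, one_zpow]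
    · left
      exact ((Nat.Prime.coprime_iff_not_dvd hp).mpr hd).symm

/-- A `p'`-element normalizing a cyclic `p`-group with a nontrivial fixed point centralizes. -/
lemma fix_imp {p : ℕ} [Fact p.Prime] [Finite G] (P : Subgroup G) (hP : IsPGroup p P)
    (hc : IsCyclic P) (b : G) (hb : b ∈ normalizer (P : Set G)) {r : ℕ} (hr : ¬ p ∣ r)
    (hbr : b ^ r = 1) {t : G} (ht : t ∈ P) (ht1 : t ≠ 1) (hfix : b * t * b⁻¹ = t) :
    ∀ u ∈ P, b * u * b⁻¹ = u := by
  have hp : p.Prime := Fact.out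
  obtain ⟨n, h1, h2⟩ := key_power P hP hc b hb hr hbr
  rcases h2 with h2 | h2
  · exfalso
    have h3 : t ^ n = 1 := by
      have h4 := h1 t ht
      rw [hfix, pow_succ] at h4
      have : t ^ n * t = 1 * t := by rw [← h4, one_mul]
      exact mul_right_cancel this
    obtain ⟨a, ha⟩ := hP ⟨t, ht⟩
    have h5 : t ^ p ^ a = 1 := by
      have := congrArg Subtype.val ha
      simpa using this
    have h6 : t ^ (Nat.gcd n (p ^ a)) = 1 := pow_gcd_eq_one.2 ⟨h3, h5⟩
    rw [Nat.Coprime.pow_right a h2, pow_one] at h6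
    exact ht1 h6
  · intro u hu
    rw [h1 u hu, pow_succ, h2 u hu, one_mul]

/-- A `p'`-element normalizing and not centralizing a cyclic `p`-group: every element
is such a commutator. -/
lemma surj_comm {p : ℕ} [Fact p.Prime] [Finite G] (P : Subgroup G) (hP : IsPGroup p P)
    (hc : IsCyclic P) (b : G) (hb : b ∈ normalizer (P : Set G)) {r : ℕ} (hr : ¬ p ∣ r)
    (hbr : b ^ r = 1) (hne : ∃ u ∈ P, b * u * b⁻¹ ≠ u) :
    ∀ u ∈ P, ∃ v ∈ P, v⁻¹ * (b * v * b⁻¹) = u := by
  have hp : p.Prime := Fact.out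
  obtain ⟨n, h1, h2⟩ := key_power P hP hc b hb hr hbr
  rcases h2 with h2 | h2
  · intro u hu
    obtain ⟨k, hk⟩ := IsPGroup.iff_card.mp hP
    have hcop : (Nat.card P).Coprime n := by
      rw [hk]; exact Nat.Coprime.pow_left k (Nat.coprime_comm.mp h2)
    let v : P := (powCoprime hcop).symm ⟨u, hu⟩
    have hv : v ^ n = ⟨u, hu⟩ := (powCoprime hcop).apply_symm_apply ⟨u, hu⟩
    refine ⟨v, v.2, ?_⟩
    rw [h1 _ v.2, pow_succ']
    have := congrArg Subtype.val hv
    simp only [Subgroup.coe_pow] at this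
    rw [inv_mul_cancel_left, this]
  · exfalso
    obtain ⟨u, hu, hne⟩ := hne
    apply hne
    rw [h1 u hu, pow_succ, h2 u hu, one_mul]

end Basics

section Hyp

/-- The hypothesis: `p`-subgroups are cyclic and `p'`-subgroups are abelian. -/
structure Hyp (p : ℕ) (G : Type*) [Group G] : Prop where
  cyc : ∀ T : Subgroup G, IsPGroup p T → IsCyclic T
  ab : ∀ H : Subgroup G, ¬ p ∣ Nat.card H → ∀ a ∈ H, ∀ b ∈ H, a * b = b * a

/-- The conclusion: a normal `p`-complement or a normal Sylow `p`-subgroup. -/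
def Con (p : ℕ) (G : Type*) [Group G] : Prop :=
  (∃ L : Subgroup G, L.Normal ∧ ¬ p ∣ Nat.card L ∧ ∃ k, L.index = p ^ k) ∨
  (∃ S : Subgroup G, S.Normal ∧ IsPGroup p S ∧ ¬ p ∣ S.index)

variable {G : Type*} [Group G] {p : ℕ}

lemma Hyp.subgroup (h : Hyp p G) (H : Subgroup G) : Hyp p H where
  cyc T hT := by
    have h1 := h.cyc (T.map H.subtype) (hT.map _)
    exact (T.equivMapOfInjective _ H.subtype_injective).isCyclic.mpr h1
  ab K hK a ha b hb := by
    have hc : Nat.card (K.map H.subtype) = Nat.card K :=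
      Subgroup.card_map_of_injective H.subtype_injective
    have := h.ab (K.map H.subtype) (by rwa [hc]) a ⟨a, ha, rfl⟩ b ⟨b, hb, rfl⟩
    exact Subtype.ext this

lemma card_comap {H : Type*} [Group H] [Finite G] (f : G →* H) (hf : Function.Surjective f)
    (T : Subgroup H) : Nat.card (T.comap f) = Nat.card f.ker * Nat.card T := by
  have : Finite H := Finite.of_surjective f hf
  have h1 := (T.comap f).card_mul_index
  have h2 := T.card_mul_index
  have h3 := f.ker.card_mul_index
  have h4 : f.ker.index = Nat.card H := by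
    rw [Subgroup.index_ker, MonoidHom.range_eq_top.mpr hf]; exact Nat.card_congr Subgroup.topEquiv.toEquiv
  rw [Subgroup.index_comap_of_surjective T hf] at h1
  rw [h4] at h3
  have h5 : T.index ≠ 0 := by
    intro h0; rw [h0] at h2; simp at h2
    exact (Nat.card_pos (α := H)).ne' h2.symm
  apply Nat.eq_of_mul_eq_mul_right (Nat.pos_of_ne_zero h5)
  rw [h1, mul_assoc, h2, h3]

lemma isPGroup_zpowers_of_pow [Finite G] [Fact p.Prime] {a : G} {n : ℕ} (h : a ^ p ^ n = 1) :
    IsPGroup p (zpowers a) := by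
  rintro ⟨x, k, rfl⟩
  refine ⟨n, ?_⟩
  apply Subtype.ext
  simp only [Subgroup.coe_pow, Subgroup.coe_one]
  show (a ^ k) ^ p ^ n = 1
  rw [← zpow_natCast, ← zpow_mul, mul_comm, zpow_mul, zpow_natCast, h, one_zpow]

lemma not_dvd_card_zpowers [Fact p.Prime] {b : G} (h : (orderOf b).Coprime p) :
    ¬ p ∣ Nat.card (zpowers b) := by
  rw [Nat.card_zpowers]
  exact fun hd => (Nat.Prime.coprime_iff_not_dvd Fact.out).mp h.symm hd

variable [Finite G] [Fact p.Prime]

lemma cyc_of_surj {H : Type*} [Group H] (h : ∀ T : Subgroup G, IsPGroup p T → IsCyclic T)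
    (f : G →* H) (hf : Function.Surjective f) (T : Subgroup H) (hT : IsPGroup p T) :
    IsCyclic T := by
  have : Finite H := Finite.of_surjective f hf
  obtain ⟨S, hS⟩ := hT.exists_le_sylow
  obtain ⟨P, rfl⟩ := Sylow.mapSurjective_surjective hf p S
  have h1 : IsCyclic P := h P P.2
  have h2 : IsCyclic ((P : Subgroup G).map f) :=
    isCyclic_of_surjective (f.subgroupMap P) (f.subgroupMap_surjective P)
  have h3 : T ≤ (P : Subgroup G).map f := hS
  have h4 : IsCyclic (T.subgroupOf ((P : Subgroup G).map f)) := inferInstance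
  exact (Subgroup.subgroupOfEquivOfLe h3).isCyclic.mp h4

lemma Hyp.quot_p' (h : Hyp p G) (K : Subgroup G) [K.Normal] (hK : ¬ p ∣ Nat.card K) :
    Hyp p (G ⧸ K) where
  cyc := cyc_of_surj h.cyc (QuotientGroup.mk' K) (QuotientGroup.mk'_surjective K)
  ab H hH a ha b hb := by
    obtain ⟨a, rfl⟩ := QuotientGroup.mk'_surjective K a
    obtain ⟨b, rfl⟩ := QuotientGroup.mk'_surjective K b
    have hc := card_comap (QuotientGroup.mk' K) (QuotientGroup.mk'_surjective K) H
    have h1 : ¬ p ∣ Nat.card (H.comap (QuotientGroup.mk' K)) := by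
      rw [hc, QuotientGroup.ker_mk']
      exact Nat.Prime.not_dvd_mul Fact.out hK hH
    have h2 := h.ab _ h1 a ha b hb
    rw [← map_mul, ← map_mul, h2]

lemma le_of_index (W : Subgroup G) [W.Normal] (h : ¬ p ∣ W.index) (T : Subgroup G)
    (hT : IsPGroup p T) : T ≤ W := by
  intro x hx
  obtain ⟨n, hn⟩ := hT ⟨x, hx⟩
  have h1 : x ^ p ^ n = 1 := by
    have := congrArg Subtype.val hn
    simpa using this
  have h2 : (QuotientGroup.mk' W x) ^ p ^ n = 1 := by rw [← map_pow, h1, map_one]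
  have h3 : (QuotientGroup.mk' W x) ^ W.index = 1 := by
    have := pow_card_eq_one' (x := QuotientGroup.mk' W x)
    rwa [show Nat.card (G ⧸ W) = W.index from rfl] at this
  have h4 : Nat.Coprime (p ^ n) W.index :=
    Nat.Coprime.pow_left n ((Nat.Prime.coprime_iff_not_dvd Fact.out).mpr h)
  have h5 : (QuotientGroup.mk' W x) = 1 := by
    have h6 : (QuotientGroup.mk' W x) ^ (Nat.gcd (p ^ n) W.index) = 1 := pow_gcd_eq_one.2 ⟨h2, h3⟩
    rwa [h4, pow_one] at h6
  exact (QuotientGroup.eq_one_iff x).mp h5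

lemma Hyp.quot_p (h : Hyp p G) (D : Subgroup G) [D.Normal] (hD : IsPGroup p D) :
    Hyp p (G ⧸ D) where
  cyc := cyc_of_surj h.cyc (QuotientGroup.mk' D) (QuotientGroup.mk'_surjective D)
  ab H hH a ha b hb := by
    obtain ⟨a, rfl⟩ := QuotientGroup.mk'_surjective D a
    obtain ⟨b, rfl⟩ := QuotientGroup.mk'_surjective D b
    set W := H.comap (QuotientGroup.mk' D) with hW
    have hc := card_comap (QuotientGroup.mk' D) (QuotientGroup.mk'_surjective D) H
    rw [QuotientGroup.ker_mk'] at hc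
    have hDW : D ≤ W := by
      intro x hx
      rw [hW, Subgroup.mem_comap]
      have : QuotientGroup.mk' D x = 1 := (QuotientGroup.eq_one_iff x).mpr hx
      rw [this]; exact H.one_mem
    let D' : Subgroup W := D.subgroupOf W
    haveI : D'.Normal := Subgroup.Normal.subgroupOf inferInstance W
    have hcD' : Nat.card D' = Nat.card D := by
      apply Nat.card_congr
      exact (Subgroup.subgroupOfEquivOfLe hDW).toEquiv
    have hiD' : D'.index = Nat.card H := by
      have h1 := D'.card_mul_index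
      rw [hcD', hc] at h1
      exact Nat.eq_of_mul_eq_mul_left (Nat.card_pos (α := D)) h1
    have hcop : (Nat.card D').Coprime D'.index := by
      rw [hcD', hiD']
      obtain ⟨k, hk⟩ := IsPGroup.iff_card.mp hD
      rw [hk]
      exact Nat.Coprime.pow_left k ((Nat.Prime.coprime_iff_not_dvd Fact.out).mpr hH)
    obtain ⟨L, hL⟩ := Subgroup.exists_right_complement'_of_coprime hcop
    have hcL : Nat.card L = Nat.card H := by
      rw [← hiD']; exact hL.symm.index_eq_card.symm
    have hdec : ∀ x : W, ∃ l : L, QuotientGroup.mk' D (x : G) = QuotientGroup.mk' D ((l : W) : G) := by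
      intro x
      obtain ⟨⟨d, l⟩, hdl, -⟩ := hL.existsUnique x
      refine ⟨l, ?_⟩
      have hd : QuotientGroup.mk' D (((d : D') : W) : G) = 1 :=
        (QuotientGroup.eq_one_iff _).mpr d.2
      rw [← hdl]
      simp only [Subgroup.coe_mul, map_mul, hd, one_mul]
    have hab : ∀ x ∈ L, ∀ y ∈ L, x * y = y * x := by
      intro x hx y hy
      have hc2 : Nat.card (L.map W.subtype) = Nat.card L :=
        Subgroup.card_map_of_injective W.subtype_injective
      have := h.ab (L.map W.subtype) (by rw [hc2, hcL]; exact hH) x ⟨x, hx, rfl⟩ y ⟨y, hy, rfl⟩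
      exact Subtype.ext this
    obtain ⟨l₁, h1⟩ := hdec ⟨a, ha⟩
    obtain ⟨l₂, h2⟩ := hdec ⟨b, hb⟩
    simp only at h1 h2
    have h3 : ((l₁ : W) : G) * ((l₂ : W) : G) = ((l₂ : W) : G) * ((l₁ : W) : G) :=
      congrArg Subtype.val (hab _ l₁.2 _ l₂.2)
    rw [h1, h2, ← map_mul, ← map_mul, h3]

end Hyp

section Lift

variable {G : Type*} [Group G] {p : ℕ} [Finite G] [Fact p.Prime]

/-- Burnside's normal complement theorem in the form we use. -/
lemma burnside (P : Sylow p G)
    (hNC : normalizer ((P : Subgroup G) : Set G) ≤ centralizer ((P : Subgroup G) : Set G)) :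
    ∃ L : Subgroup G, L.Normal ∧ ¬ p ∣ Nat.card L ∧ ∃ k, L.index = p ^ k := by
  have h1 := MonoidHom.ker_transferSylow_isComplement' P hNC
  have h2 := MonoidHom.not_dvd_card_ker_transferSylow P hNC
  refine ⟨_, inferInstance, h2, ?_⟩
  obtain ⟨k, hk⟩ := IsPGroup.iff_card.mp P.2
  exact ⟨k, by rw [h1.symm.index_eq_card, hk]⟩

/-- A `p`-subgroup normalizing a Sylow subgroup lies in it. -/
lemma le_of_le_normalizer (P : Sylow p G) {T : Subgroup G} (hT : IsPGroup p T)
    (hle : T ≤ normalizer ((P : Subgroup G) : Set G)) : T ≤ P := by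
  have h1 : IsPGroup p ((P : Subgroup G) ⊔ T : Subgroup G) :=
    IsPGroup.to_sup_of_normal_left' P.2 hT hle
  have h2 := P.is_maximal' h1 le_sup_left
  rw [← h2]
  exact le_sup_right

lemma mem_of_pow_of_mem_normalizer (P : Sylow p G) {a : G} {n : ℕ} (ha : a ^ p ^ n = 1)
    (hN : a ∈ normalizer ((P : Subgroup G) : Set G)) : a ∈ (P : Subgroup G) :=
  le_of_le_normalizer P (isPGroup_zpowers_of_pow ha) ((zpowers_le).mpr hN) (mem_zpowers a)

lemma mem_centralizer_of_comm {H : Subgroup G} (hab : ∀ a ∈ H, ∀ b ∈ H, a * b = b * a) {x : G}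
    (hx : x ∈ H) : x ∈ centralizer (H : Set G) := by
  rw [mem_centralizer_iff]
  intro h hh
  exact hab h hh x hx

lemma comm_of_cyclic {H : Subgroup G} (hc : IsCyclic H) : ∀ a ∈ H, ∀ b ∈ H, a * b = b * a := by
  intro a ha b hb
  obtain ⟨⟨x, hx⟩, hgen⟩ := hc
  obtain ⟨i, hi⟩ := hgen ⟨a, ha⟩
  obtain ⟨j, hj⟩ := hgen ⟨b, hb⟩
  have h1 : a = x ^ i := by
    have := congrArg Subtype.val hi; simpa using this.symm
  have h2 : b = x ^ j := by
    have := congrArg Subtype.val hj; simpa using this.symm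
  rw [h1, h2, ← zpow_add, ← zpow_add, add_comm]

/-- A non-central element of the normalizer yields a non-central `p'`-element. -/
lemma exists_pprime (h : Hyp p G) (P : Sylow p G)
    (hNC : ¬ normalizer ((P : Subgroup G) : Set G) ≤ centralizer ((P : Subgroup G) : Set G)) :
    ∃ b ∈ normalizer ((P : Subgroup G) : Set G), (orderOf b).Coprime p ∧
      b ∉ centralizer ((P : Subgroup G) : Set G) := by
  obtain ⟨g, hg, hgC⟩ := SetLike.not_le_iff_exists.mp hNC
  obtain ⟨a, b, rfl, -, ⟨n, hn⟩, hb, ha, hbz⟩ := Cfsg.Agent.Lib.PResid.exists_decomp (p := p) g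
  have hzle : zpowers (a * b) ≤ normalizer ((P : Subgroup G) : Set G) := zpowers_le.mpr hg
  refine ⟨b, hzle hbz, hb, ?_⟩
  intro hbC
  apply hgC
  have haP := mem_of_pow_of_mem_normalizer P hn (hzle ha)
  have haC : a ∈ centralizer ((P : Subgroup G) : Set G) :=
    mem_centralizer_of_comm (comm_of_cyclic (h.cyc P P.2)) haP
  exact mul_mem haC hbC

/-- Lifting through a normal `p'`-subgroup. -/
theorem lift_p' (h : Hyp p G) (K : Subgroup G) [K.Normal] (hK : ¬ p ∣ Nat.card K)
    (hq : Con p (G ⧸ K)) : Con p G := by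
  have hsurj := QuotientGroup.mk'_surjective K
  rcases hq with ⟨L, hLn, hLp, k, hk⟩ | ⟨S, hSn, hS, hSi⟩
  · left
    refine ⟨L.comap (QuotientGroup.mk' K), inferInstance, ?_, k, ?_⟩
    · rw [card_comap _ hsurj, QuotientGroup.ker_mk']
      exact Nat.Prime.not_dvd_mul Fact.out hK hLp
    · rw [Subgroup.index_comap_of_surjective _ hsurj]; exact hk
  · obtain ⟨P⟩ : Nonempty (Sylow p G) := inferInstance
    by_cases hNC : normalizer ((P : Subgroup G) : Set G) ≤ centralizer ((P : Subgroup G) : Set G)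
    · left; exact burnside P hNC
    right
    obtain ⟨b, hbN, hbp, hbC⟩ := exists_pprime h P hNC
    have hcycP := h.cyc P P.2
    -- `b` commutes with `K`
    have hbK : ∀ k ∈ K, b * k = k * b := by
      intro k hk
      have hle : zpowers b ≤ normalizer ((K : Subgroup G) : Set G) := by
        rw [normalizer_eq_top]; exact le_top
      have h1 := Cfsg.Agent.Lib.CoprimeInv.card_sup_mul_card_inf hle
      have h2 : ¬ p ∣ Nat.card (zpowers b ⊔ K : Subgroup G) := by
        intro hd
        have h3 : p ∣ Nat.card (zpowers b) * Nat.card K := by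
          rw [← h1]; exact hd.mul_right _
        exact (Nat.Prime.not_dvd_mul Fact.out (not_dvd_card_zpowers hbp) hK) h3
      exact h.ab _ h2 b (mem_sup_left (mem_zpowers b)) k (mem_sup_right hk)
    have hbr : b ^ orderOf b = 1 := pow_orderOf_eq_one b
    have hr : ¬ p ∣ orderOf b := fun hd =>
      (Nat.Prime.coprime_iff_not_dvd Fact.out).mp hbp.symm hd
    have hne : ∃ u ∈ (P : Subgroup G), b * u * b⁻¹ ≠ u := by
      by_contra hcon
      push Not at hcon
      apply hbC
      rw [mem_centralizer_iff]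
      intro u hu
      have := hcon u hu
      rw [mul_inv_eq_iff_eq_mul] at this
      exact this.symm
    have hsurjc := surj_comm (P : Subgroup G) P.2 hcycP b hbN hr hbr hne
    -- `P` centralizes `K`
    have hPK : ∀ u ∈ (P : Subgroup G), ∀ k ∈ K, u * k = k * u := by
      intro u hu k hk
      obtain ⟨v, hv, rfl⟩ := hsurjc u hu
      have h1 := hbK k hk
      have h2 := hbK (v * k * v⁻¹) (Normal.conj_mem inferInstance k hk v)
      have h3 : b⁻¹ * k = k * b⁻¹ := by
        rw [inv_mul_eq_iff_eq_mul, ← mul_assoc, h1, mul_assoc, mul_inv_cancel, mul_one]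
      calc v⁻¹ * (b * v * b⁻¹) * k = v⁻¹ * b * v * (b⁻¹ * k) := by group
        _ = v⁻¹ * b * v * (k * b⁻¹) := by rw [h3]
        _ = v⁻¹ * (b * (v * k * v⁻¹)) * v * b⁻¹ := by group
        _ = v⁻¹ * ((v * k * v⁻¹) * b) * v * b⁻¹ := by rw [h2]
        _ = k * (v⁻¹ * (b * v * b⁻¹)) := by group
    -- identify the preimage of `S`
    set W := S.comap (QuotientGroup.mk' K) with hW
    have hWi : ¬ p ∣ W.index := by
      rw [hW, Subgroup.index_comap_of_surjective _ hsurj]; exact hSi
    have hPW : (P : Subgroup G) ≤ W := le_of_index W hWi _ P.2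
    have hSeq : S = (P : Subgroup G).map (QuotientGroup.mk' K) := by
      have h1 : (P : Subgroup G).map (QuotientGroup.mk' K) ≤ S := by
        rw [Subgroup.map_le_iff_le_comap]; exact hPW
      exact (P.mapSurjective hsurj).is_maximal' hS h1
    have hWeq : W = (P : Subgroup G) ⊔ K := by
      rw [hW, hSeq, Subgroup.comap_map_eq, QuotientGroup.ker_mk']
    have hWN : W ≤ normalizer ((P : Subgroup G) : Set G) := by
      rw [hWeq, sup_le_iff]
      refine ⟨Subgroup.le_normalizer, ?_⟩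
      intro k hk
      rw [mem_set_normalizer_iff]
      intro u
      have h1 : ∀ x : G, x ∈ (P : Subgroup G) → k * x * k⁻¹ = x := by
        intro x hx
        rw [← hPK x hx k hk]; group
      constructor
      · intro hu
        rw [h1 u hu]; exact hu
      · intro hu
        have h2 := h1 _ hu
        have h3 : k * u * k⁻¹ = u := by
          have := congrArg (fun y => k⁻¹ * y * k) h2
          simpa [mul_assoc] using this
        rw [h3] at hu
        exact hu
    have htop := Sylow.normalizer_sup_eq_top' (N := W) P hPW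
    have hPn : (P : Subgroup G).Normal := by
      have : normalizer ((P : Subgroup G) : Set G) = ⊤ := by
        rw [← htop]
        exact (sup_eq_left.mpr hWN).symm
      exact normalizer_eq_top_iff.mp this
    exact ⟨P, hPn, P.2, P.not_dvd_index⟩

lemma le_total_of_cyclic {B : Type*} [Group B] [Finite B] [IsCyclic B] (hB : IsPGroup p B)
    (H K : Subgroup B) : H ≤ K ∨ K ≤ H := by
  obtain ⟨i, hi⟩ := IsPGroup.iff_card.mp (hB.to_subgroup H)
  obtain ⟨j, hj⟩ := IsPGroup.iff_card.mp (hB.to_subgroup K)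
  rcases le_total i j with hij | hij
  · left
    obtain ⟨K', hK', hle⟩ := Sylow.exists_subgroup_card_pow_prime_le p (n := i) (m := j)
      (by rw [← hj]; exact Subgroup.card_subgroup_dvd_card K) H hi hij
    have : K' = K := Cfsg.Agent.Lib.OddPGroup.eq_of_card_of_isCyclic (by rw [hK', hj])
    rwa [this] at hle
  · right
    obtain ⟨K', hK', hle⟩ := Sylow.exists_subgroup_card_pow_prime_le p (n := j) (m := i)
      (by rw [← hi]; exact Subgroup.card_subgroup_dvd_card H) K hj hij
    have : K' = H := Cfsg.Agent.Lib.OddPGroup.eq_of_card_of_isCyclic (by rw [hK', hi])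
    rwa [this] at hle

lemma le_total_in_cyclic (S : Subgroup G) (hS : IsPGroup p S) (hc : IsCyclic S) {A B : Subgroup G}
    (hA : A ≤ S) (hB : B ≤ S) : A ≤ B ∨ B ≤ A := by
  rcases le_total_of_cyclic hS (A.subgroupOf S) (B.subgroupOf S) with h | h
  · left
    intro x hx
    have h1 : (⟨x, hA hx⟩ : S) ∈ A.subgroupOf S := hx
    exact h h1
  · right
    intro x hx
    have h1 : (⟨x, hB hx⟩ : S) ∈ B.subgroupOf S := hx
    exact h h1

omit [Fact p.Prime] in
lemma mem_normalizer_of_conj_mem {L : Subgroup G} {t : G} (h : ∀ x ∈ L, t * x * t⁻¹ ∈ L) :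
    t ∈ normalizer (L : Set G) := by
  have hpow : ∀ i : ℕ, ∀ x ∈ L, t ^ i * x * (t ^ i)⁻¹ ∈ L := by
    intro i
    induction i with
    | zero => intro x hx; simpa using hx
    | succ i ih =>
      intro x hx
      have h1 := h _ (ih x hx)
      have h2 : t ^ (i + 1) * x * (t ^ (i + 1))⁻¹ = t * (t ^ i * x * (t ^ i)⁻¹) * t⁻¹ := by
        rw [pow_succ']; group
      rw [h2]; exact h1
  rw [mem_set_normalizer_iff]
  intro x
  refine ⟨h x, ?_⟩
  intro hx
  have h1 := hpow (orderOf t - 1) _ hx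
  have h2 : t ^ (orderOf t - 1) * t = 1 := by
    rw [← pow_succ, Nat.sub_add_cancel (orderOf_pos t), pow_orderOf_eq_one]
  have h3 : t ^ (orderOf t - 1) * (t * x * t⁻¹) * (t ^ (orderOf t - 1))⁻¹ = x := by
    have h4 : t⁻¹ * (t ^ (orderOf t - 1))⁻¹ = 1 := by
      rw [← mul_inv_rev, h2, inv_one]
    calc t ^ (orderOf t - 1) * (t * x * t⁻¹) * (t ^ (orderOf t - 1))⁻¹
        = (t ^ (orderOf t - 1) * t) * x * (t⁻¹ * (t ^ (orderOf t - 1))⁻¹) := by group
      _ = x := by rw [h2, h4]; group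
  rwa [h3] at h1

/-- Lifting through a normal `p`-subgroup. -/
theorem lift_p (h : Hyp p G) (D : Subgroup G) [D.Normal] (hD : IsPGroup p D)
    (hq : Con p (G ⧸ D)) : Con p G := by
  have hsurj := QuotientGroup.mk'_surjective D
  rcases hq with ⟨Lb, hLn, hLp, k, hk⟩ | ⟨S, hSn, hS, hSi⟩
  swap
  · right
    refine ⟨S.comap (QuotientGroup.mk' D), inferInstance, ?_, ?_⟩
    · apply hS.comap_of_ker_isPGroup; rwa [QuotientGroup.ker_mk']
    · rwa [Subgroup.index_comap_of_surjective _ hsurj]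
  set M := Lb.comap (QuotientGroup.mk' D) with hM
  haveI hMn : M.Normal := by rw [hM]; infer_instance
  have hcM := card_comap (QuotientGroup.mk' D) hsurj Lb
  rw [QuotientGroup.ker_mk'] at hcM
  have hMi : M.index = p ^ k := by
    rw [hM, Subgroup.index_comap_of_surjective _ hsurj]; exact hk
  have hDM : D ≤ M := by
    intro x hx
    rw [hM, Subgroup.mem_comap]
    have : QuotientGroup.mk' D x = 1 := (QuotientGroup.eq_one_iff x).mpr hx
    rw [this]; exact Lb.one_mem
  let D' : Subgroup M := D.subgroupOf M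
  haveI : D'.Normal := Subgroup.Normal.subgroupOf inferInstance M
  have hcD' : Nat.card D' = Nat.card D := by
    apply Nat.card_congr
    exact (Subgroup.subgroupOfEquivOfLe hDM).toEquiv
  have hiD' : D'.index = Nat.card Lb := by
    have h1 := D'.card_mul_index
    rw [hcD', hcM] at h1
    exact Nat.eq_of_mul_eq_mul_left (Nat.card_pos (α := D)) h1
  obtain ⟨j, hj⟩ := IsPGroup.iff_card.mp hD
  have hcop : (Nat.card D').Coprime D'.index := by
    rw [hcD', hiD', hj]
    exact Nat.Coprime.pow_left j ((Nat.Prime.coprime_iff_not_dvd Fact.out).mpr hLp)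
  obtain ⟨L₀, hL₀⟩ := Subgroup.exists_right_complement'_of_coprime hcop
  have hcL₀ : Nat.card L₀ = D'.index := hL₀.symm.index_eq_card.symm
  set L := L₀.map M.subtype with hL
  have hcL : Nat.card L = Nat.card Lb := by
    rw [hL, Subgroup.card_map_of_injective M.subtype_injective, hcL₀, hiD']
  have hD'p : IsPGroup p D' := by
    rw [IsPGroup.iff_card]; exact ⟨j, by rw [hcD', hj]⟩
  have hsolv : Group.IsSolvable D' := by
    haveI := hD'p.isNilpotent
    infer_instance
  have hfr : ∀ g : G, ∃ d ∈ D, d⁻¹ * g ∈ normalizer (L : Set G) := by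
    intro g
    let φ : MulAut M := MulAut.conjNormal g
    let L₁ : Subgroup M := L₀.map φ.toMonoidHom
    have hc1 : Nat.card L₁ = D'.index := by
      rw [← hcL₀]
      exact Subgroup.card_map_of_injective φ.injective
    obtain ⟨m, hm⟩ := Cfsg.Agent.Lib.Coprime.sz_conj_of_card D' hcop (Or.inl hsolv) L₀ L₁ hcL₀ hc1
    obtain ⟨⟨d', l'⟩, hdl, -⟩ := hL₀.existsUnique m
    refine ⟨((d' : D') : M), d'.2, ?_⟩
    apply mem_normalizer_of_conj_mem
    rintro x ⟨x₀, hx₀, rfl⟩
    have h1 : φ x₀ ∈ L₁ := ⟨x₀, hx₀, rfl⟩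
    rw [← hm, Subgroup.mem_pointwise_smul_iff_inv_smul_mem] at h1
    have h2 : (MulAut.conj m)⁻¹ • φ x₀ = m⁻¹ * φ x₀ * m := by
      rw [← map_inv, MulAut.smul_def, MulAut.conj_apply, inv_inv]
    rw [h2] at h1
    have h3 : (l' : M) * (m⁻¹ * φ x₀ * m) * (l' : M)⁻¹ ∈ L₀ :=
      mul_mem (mul_mem l'.2 h1) (inv_mem l'.2)
    have h4 : (l' : M) * (m⁻¹ * φ x₀ * m) * (l' : M)⁻¹ = ((d' : D') : M)⁻¹ * φ x₀ * ((d' : D') : M) := by
      rw [← hdl]; simp only [mul_inv_rev]; group
    rw [h4] at h3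
    refine ⟨_, h3, ?_⟩
    simp only [Subgroup.coe_subtype, Subgroup.coe_mul, Subgroup.coe_inv]
    have h5 : ((φ x₀ : M) : G) = g * (x₀ : G) * g⁻¹ := rfl
    rw [h5]
    group
  obtain ⟨S, hDS⟩ := hD.exists_le_sylow
  rcases le_total_in_cyclic (S : Subgroup G) S.2 (h.cyc S S.2)
    (A := D) (B := (S : Subgroup G) ⊓ normalizer (L : Set G)) hDS inf_le_left with hc | hc
  · -- `L` is normal
    left
    have hLN : L.Normal := by
      have : normalizer (L : Set G) = ⊤ := by
        rw [eq_top_iff]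
        intro g _
        obtain ⟨d, hd, ht⟩ := hfr g
        have h1 : d ∈ normalizer (L : Set G) := (hc hd).2
        have h2 := mul_mem h1 ht
        rwa [mul_inv_cancel_left] at h2
      exact normalizer_eq_top_iff.mp this
    refine ⟨L, hLN, by rw [hcL]; exact hLp, k + j, ?_⟩
    have h1 := L.card_mul_index
    have h2 := M.card_mul_index
    rw [hcM, hMi] at h2
    rw [hcL, ← h2, hj] at h1
    have h3 : 0 < Nat.card Lb := Nat.card_pos
    apply Nat.eq_of_mul_eq_mul_left h3
    rw [h1, pow_add]; ring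
  · right
    have hSD : (S : Subgroup G) ≤ D := by
      intro s hs
      obtain ⟨d, hd, ht⟩ := hfr s
      have h1 : d⁻¹ * s ∈ (S : Subgroup G) := mul_mem (inv_mem (hDS hd)) hs
      have h2 := hc ⟨h1, ht⟩
      have h3 := mul_mem hd h2
      rwa [mul_inv_cancel_left] at h3
    have hDSeq : D = S := le_antisymm hDS hSD
    refine ⟨D, inferInstance, hD, ?_⟩
    rw [hDSeq]
    exact S.not_dvd_index

end Lift

section Reduce

/-- The minimal counterexample package. -/
structure SC (p : ℕ) (G : Type*) [Group G] : Prop where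
  hyp : Hyp p G
  hdvd : p ∣ Nat.card G
  hNC : ∀ P : Sylow p G,
    ¬ normalizer ((P : Subgroup G) : Set G) ≤ centralizer ((P : Subgroup G) : Set G)
  hOp' : ∀ K : Subgroup G, K.Normal → ¬ p ∣ Nat.card K → K = ⊥
  hOp : ∀ D : Subgroup G, D.Normal → IsPGroup p D → D = ⊥
  hsimple : ∀ M : Subgroup G, M.Normal → M = ⊥ ∨ M = ⊤
  hA1 : ∀ (P : Sylow p G) (H : Subgroup G), normalizer ((P : Subgroup G) : Set G) ≤ H → H ≠ ⊤ →
    H ≤ normalizer ((P : Subgroup G) : Set G)

variable {p : ℕ} [Fact p.Prime]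

lemma mem_of_coprime_of_index {X : Type*} [Group X] [Finite X] (Y : Subgroup X) [Y.Normal] {k : ℕ}
    (hk : Y.index = p ^ k) {y : X} (hy : (orderOf y).Coprime p) : y ∈ Y := by
  have h2 : (QuotientGroup.mk' Y y) ^ orderOf y = 1 := by rw [← map_pow, pow_orderOf_eq_one, map_one]
  have h3 : (QuotientGroup.mk' Y y) ^ p ^ k = 1 := by
    have := pow_card_eq_one' (x := QuotientGroup.mk' Y y)
    rwa [show Nat.card (X ⧸ Y) = Y.index from rfl, hk] at this
  have h5 : (QuotientGroup.mk' Y y) = 1 := by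
    have h6 : (QuotientGroup.mk' Y y) ^ (Nat.gcd (orderOf y) (p ^ k)) = 1 :=
      pow_gcd_eq_one.2 ⟨h2, h3⟩
    rwa [Nat.Coprime.pow_right k hy, pow_one] at h6
  exact (QuotientGroup.eq_one_iff y).mp h5

lemma card_quot_lt {G : Type*} [Group G] [Finite G] (K : Subgroup G) [K.Normal] (hne : K ≠ ⊥) :
    Nat.card (G ⧸ K) < Nat.card G := by
  have h1 := K.card_mul_index
  have h2 : 1 < Nat.card K := (Subgroup.one_lt_card_iff_ne_bot K).mpr hne
  rw [show Nat.card (G ⧸ K) = K.index from rfl]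
  have h3 : 0 < K.index := by
    by_contra h0
    have : K.index = 0 := by omega
    rw [this] at h1; simp at h1
    exact (Nat.card_pos (α := G)).ne' h1.symm
  rw [← h1]
  nlinarith

lemma card_sub_lt {G : Type*} [Group G] [Finite G] (K : Subgroup G) (hne : K ≠ ⊤) :
    Nat.card K < Nat.card G := by
  have h1 := K.card_mul_index
  have h2 : K.index ≠ 1 := fun h => hne (Subgroup.index_eq_one.mp h)
  have h3 : K.index ≠ 0 := by
    intro h0
    rw [h0] at h1; simp at h1
    exact (Nat.card_pos (α := G)).ne' h1.symm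
  have h4 : 0 < Nat.card K := Nat.card_pos
  have h5 : 2 ≤ K.index := by omega
  rw [← h1]
  nlinarith

lemma eq_one_of_mem_coprime {G : Type*} [Group G] [Finite G] {c : G} {A B : Subgroup G} (hA : c ∈ A)
    (hB : c ∈ B) (hAB : (Nat.card A).Coprime (Nat.card B)) : c = 1 := by
  have h1 : orderOf c ∣ Nat.card A := Subgroup.orderOf_dvd_natCard A hA
  have h2 : orderOf c ∣ Nat.card B := Subgroup.orderOf_dvd_natCard B hB
  have h3 : orderOf c = 1 := Nat.eq_one_of_dvd_coprimes hAB h1 h2
  exact orderOf_eq_one_iff.mp h3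

theorem reduce {G : Type u} [Group G] [Finite G]
    (IH : ∀ (H : Type u) [Group H] [Finite H], Nat.card H < Nat.card G → Hyp p H → Con p H)
    (h : Hyp p G) (hC : ¬ Con p G) : SC p G := by
  have hp : p.Prime := Fact.out
  have hdvd : p ∣ Nat.card G := by
    by_contra hd
    exact hC (Or.inl ⟨⊤, inferInstance, by rwa [Subgroup.card_top], 0, by simp⟩)
  have hNC : ∀ P : Sylow p G,
      ¬ normalizer ((P : Subgroup G) : Set G) ≤ centralizer ((P : Subgroup G) : Set G) :=
    fun P hle => hC (Or.inl (burnside P hle))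
  have hOp' : ∀ K : Subgroup G, K.Normal → ¬ p ∣ Nat.card K → K = ⊥ := by
    intro K hKn hK
    by_contra hne
    exact hC (lift_p' h K hK (IH _ (card_quot_lt K hne) (h.quot_p' K hK)))
  have hOp : ∀ D : Subgroup G, D.Normal → IsPGroup p D → D = ⊥ := by
    intro D hDn hD
    by_contra hne
    exact hC (lift_p h D hD (IH _ (card_quot_lt D hne) (h.quot_p D hD)))
  have hsimple : ∀ M : Subgroup G, M.Normal → M = ⊥ ∨ M = ⊤ := by
    intro M hMn
    by_contra hcon
    push Not at hcon
    obtain ⟨hM1, hM2⟩ := hcon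
    have hcM := IH M (card_sub_lt M hM2) (h.subgroup M)
    rcases hcM with ⟨L₀, hL₀n, hL₀p, k, hk⟩ | ⟨S₀, hS₀n, hS₀, hS₀i⟩
    · -- the `p'`-part of `M`
      have hLn : (L₀.map M.subtype).Normal := by
        constructor
        rintro x ⟨x₀, hx₀, rfl⟩ g
        have hy : g * (x₀ : G) * g⁻¹ ∈ M := hMn.conj_mem _ x₀.2 g
        have hox : (orderOf x₀).Coprime p := by
          have h1 : orderOf x₀ ∣ Nat.card L₀ := Subgroup.orderOf_dvd_natCard L₀ hx₀
          exact Nat.Coprime.coprime_dvd_left h1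
            ((Nat.Prime.coprime_iff_not_dvd hp).mpr hL₀p).symm
        have hoy : (orderOf (⟨g * (x₀ : G) * g⁻¹, hy⟩ : M)).Coprime p := by
          rw [← Subgroup.orderOf_coe]
          simp only
          rw [show g * (x₀ : G) * g⁻¹ = MulAut.conj g (x₀ : G) from rfl, MulEquiv.orderOf_eq,
            Subgroup.orderOf_coe]
          exact hox
        exact ⟨_, mem_of_coprime_of_index L₀ hk hoy, rfl⟩
      have hcL : Nat.card (L₀.map M.subtype) = Nat.card L₀ :=
        Subgroup.card_map_of_injective M.subtype_injective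
      have hLb := hOp' _ hLn (by rwa [hcL])
      have hL₀b : L₀ = ⊥ := by
        have := (Subgroup.map_eq_bot_iff_of_injective L₀ M.subtype_injective).mp hLb
        exact this
      have hMc : Nat.card M = p ^ k := by
        have h1 := L₀.card_mul_index
        rw [hL₀b, Subgroup.card_bot, one_mul] at h1
        rw [← h1]
        rw [hL₀b] at hk
        exact hk
      exact hM1 (hOp M hMn (IsPGroup.iff_card.mpr ⟨k, hMc⟩))
    · -- the `p`-part of `M`
      have hSn : (S₀.map M.subtype).Normal := by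
        constructor
        rintro x ⟨x₀, hx₀, rfl⟩ g
        have hy : g * (x₀ : G) * g⁻¹ ∈ M := hMn.conj_mem _ x₀.2 g
        obtain ⟨n, hn⟩ := hS₀ ⟨x₀, hx₀⟩
        have hn' : x₀ ^ p ^ n = 1 := by
          have := congrArg Subtype.val hn
          simpa using this
        have hy' : (⟨g * (x₀ : G) * g⁻¹, hy⟩ : M) ^ p ^ n = 1 := by
          apply Subtype.ext
          simp only [Subgroup.coe_pow, Subgroup.coe_one]
          rw [conj_pow, ← Subgroup.coe_pow, hn']
          simp
        have hle := le_of_index S₀ hS₀i (zpowers (⟨g * (x₀ : G) * g⁻¹, hy⟩ : M))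
          (isPGroup_zpowers_of_pow hy')
        exact ⟨_, hle (mem_zpowers _), rfl⟩
      have hSp : IsPGroup p (S₀.map M.subtype) := hS₀.map _
      have hSb := hOp _ hSn hSp
      have hS₀b : S₀ = ⊥ := (Subgroup.map_eq_bot_iff_of_injective S₀ M.subtype_injective).mp hSb
      rw [hS₀b, Subgroup.index_bot] at hS₀i
      exact hM1 (hOp' M hMn hS₀i)
  have hA1 : ∀ (P : Sylow p G) (H : Subgroup G), normalizer ((P : Subgroup G) : Set G) ≤ H →
      H ≠ ⊤ → H ≤ normalizer ((P : Subgroup G) : Set G) := by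
    intro P H hle hH
    have hPH : (P : Subgroup G) ≤ H := le_trans Subgroup.le_normalizer hle
    have hcH := IH H (card_sub_lt H hH) (h.subgroup H)
    rcases hcH with ⟨L₀, hL₀n, hL₀p, k, hk⟩ | ⟨S₀, hS₀n, hS₀, hS₀i⟩
    · exfalso
      obtain ⟨b, hbN, hbp, hbC⟩ := exists_pprime h P (hNC P)
      apply hbC
      rw [mem_centralizer_iff]
      intro u hu
      have hbH : b ∈ H := hle hbN
      have hoy : (orderOf (⟨b, hbH⟩ : H)).Coprime p := by
        rw [← Subgroup.orderOf_coe]; exact hbp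
      have hbL := mem_of_coprime_of_index L₀ hk hoy
      have huH : u ∈ H := hPH hu
      have h1 : (⟨u, huH⟩ : H) * (⟨b, hbH⟩ : H) * (⟨u, huH⟩ : H)⁻¹ * (⟨b, hbH⟩ : H)⁻¹ ∈ L₀ :=
        mul_mem (hL₀n.conj_mem _ hbL _) (inv_mem hbL)
      have h2 : u * b * u⁻¹ * b⁻¹ ∈ L₀.map H.subtype := ⟨_, h1, rfl⟩
      have h3 : u * b * u⁻¹ * b⁻¹ ∈ (P : Subgroup G) := by
        have h4 : b * u⁻¹ * b⁻¹ ∈ (P : Subgroup G) :=
          (mem_set_normalizer_iff.1 hbN u⁻¹).1 (inv_mem hu)
        have : u * b * u⁻¹ * b⁻¹ = u * (b * u⁻¹ * b⁻¹) := by group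
        rw [this]
        exact mul_mem hu h4
      have hcop : (Nat.card (L₀.map H.subtype)).Coprime (Nat.card (P : Subgroup G)) := by
        rw [Subgroup.card_map_of_injective H.subtype_injective]
        obtain ⟨j, hj⟩ := IsPGroup.iff_card.mp P.2
        rw [hj]
        exact Nat.Coprime.pow_right j ((Nat.Prime.coprime_iff_not_dvd hp).mpr hL₀p).symm
      have h5 := eq_one_of_mem_coprime h2 h3 hcop
      calc u * b = (u * b * u⁻¹ * b⁻¹) * (b * u) := by group
        _ = b * u := by rw [h5, one_mul]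
    · -- `P` is normal in `H`
      have hpH : IsPGroup p ((P : Subgroup G).subgroupOf H) :=
        P.2.comap_of_injective H.subtype H.subtype_injective
      have h1 := le_of_index S₀ hS₀i _ hpH
      have h2 : (P : Subgroup G) ≤ S₀.map H.subtype := by
        intro x hx
        have h3 : (⟨x, hPH hx⟩ : H) ∈ (P : Subgroup G).subgroupOf H := hx
        exact ⟨_, h1 h3, rfl⟩
      have h3 : S₀.map H.subtype = P := P.is_maximal' (hS₀.map _) h2
      intro g hg
      apply mem_normalizer_of_conj_mem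
      intro x hx
      have h4 : x ∈ S₀.map H.subtype := h2 hx
      obtain ⟨x₀, hx₀, rfl⟩ := h4
      have h5 : (⟨g, hg⟩ : H) * x₀ * (⟨g, hg⟩ : H)⁻¹ ∈ S₀ := hS₀n.conj_mem _ hx₀ _
      have h6 : H.subtype ((⟨g, hg⟩ : H) * x₀ * (⟨g, hg⟩ : H)⁻¹) ∈ S₀.map H.subtype := ⟨_, h5, rfl⟩
      rw [h3] at h6
      exact h6
  exact ⟨h, hdvd, hNC, hOp', hOp, hsimple, hA1⟩

end Reduce

end Cfsg.Agent.Lib.H73Cyc
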