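import Mathlib
import Cfsg.Agent.Lib.H73Cyc1
import Cfsg.Agent.S1453

/-!
The minimal counterexample: local analysis around a cyclic Sylow subgroup.
-/

namespace Cfsg.Agent.Lib.H73Cyc

open Subgroup

variable {G : Type*} [Group G] [Finite G] {p : ℕ} [Fact p.Prime]

/-- The normalizer of a Sylow subgroup. -/
abbrev NN {q : ℕ} (P : Sylow q G) : Subgroup G := normalizer ((P : Subgroup G) : Set G)
/-- The centralizer of a Sylow subgroup. -/
abbrev CC {q : ℕ} (P : Sylow q G) : Subgroup G := centralizer ((P : Subgroup G) : Set G)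

lemma comm_pow_eq_one {c : G} {n k : ℕ} (hc : c ^ p ^ n = 1) (hk : c ^ k = 1) (hcop : k.Coprime p) :
    c = 1 := by
  have h6 : c ^ (Nat.gcd k (p ^ n)) = 1 := pow_gcd_eq_one.2 ⟨hk, hc⟩
  rwa [Nat.Coprime.pow_right n hcop, pow_one] at h6

lemma pow_of_mem {P : Subgroup G} (hP : IsPGroup p P) {c : G} (hc : c ∈ P) :
    ∃ n : ℕ, c ^ p ^ n = 1 := by
  obtain ⟨n, hn⟩ := hP ⟨c, hc⟩
  refine ⟨n, ?_⟩
  have := congrArg Subtype.val hn
  simpa using this

lemma CC_le_NN {q : ℕ} (P : Sylow q G) : CC P ≤ NN P := by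
  intro x hx
  apply mem_normalizer_of_conj_mem
  intro u hu
  have h1 := (mem_centralizer_iff.mp hx) u hu
  have : x * u * x⁻¹ = u := by rw [← h1]; group
  rw [this]; exact hu

/-- `N(P)/P` is abelian. -/
lemma comm_mod (h : Hyp p G) (P : Sylow p G) {g k : G} (hg : g ∈ NN P) (hk : k ∈ NN P) :
    g * k * g⁻¹ * k⁻¹ ∈ (P : Subgroup G) := by
  let N : Subgroup G := NN P
  have hN : Hyp p N := h.subgroup N
  let D : Subgroup N := (P : Subgroup G).subgroupOf N
  haveI hDn : D.Normal := Subgroup.normal_subgroupOf_of_le_normalizer le_rfl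
  let S : Sylow p N := P.subtype Subgroup.le_normalizer
  have hSD : (S : Subgroup N) = D := Sylow.coe_subtype _ _
  have hDp : IsPGroup p D := by rw [← hSD]; exact S.2
  have hDi : ¬ p ∣ D.index := by rw [← hSD]; exact S.not_dvd_index
  have hq := hN.quot_p D hDp
  have hab := hq.ab ⊤ (by rw [Subgroup.card_top]; exact hDi)
    (QuotientGroup.mk' D ⟨g, hg⟩) trivial (QuotientGroup.mk' D ⟨k, hk⟩) trivial
  have h1 : (⟨g, hg⟩ : N) * ⟨k, hk⟩ * (⟨g, hg⟩ : N)⁻¹ * (⟨k, hk⟩ : N)⁻¹ ∈ D := by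
    rw [← QuotientGroup.eq_one_iff, ← QuotientGroup.mk'_apply, map_mul, map_mul, map_mul, map_inv,
      map_inv, hab]
    group
  exact h1

/-- `N(⟨y⟩) ≤ N(P)` for `1 ≠ y ∈ P`. -/
lemma norm_le (h : SC p G) (P : Sylow p G) {y : G} (hy : y ∈ (P : Subgroup G)) (hy1 : y ≠ 1) :
    normalizer ((zpowers y : Subgroup G) : Set G) ≤ NN P := by
  have hcyc := h.hyp.cyc P P.2
  apply h.hA1 P
  · -- `N(P)` normalizes `⟨y⟩`
    intro g hg
    apply mem_normalizer_of_conj_mem
    rintro x ⟨k, rfl⟩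
    have hgy : g * y * g⁻¹ ∈ (P : Subgroup G) := (mem_set_normalizer_iff.1 hg y).1 hy
    have h1 : Nat.card (zpowers (⟨y, hy⟩ : (P : Subgroup G))) =
        Nat.card (zpowers (⟨g * y * g⁻¹, hgy⟩ : (P : Subgroup G))) := by
      rw [Nat.card_zpowers, Nat.card_zpowers, ← Subgroup.orderOf_coe, ← Subgroup.orderOf_coe]
      simp only
      rw [show g * y * g⁻¹ = MulAut.conj g y from rfl, MulEquiv.orderOf_eq]
    have h2 := Cfsg.Agent.Lib.OddPGroup.eq_of_card_of_isCyclic h1
    have h3 : (⟨g * y * g⁻¹, hgy⟩ : (P : Subgroup G)) ∈ zpowers (⟨y, hy⟩ : (P : Subgroup G)) := by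
      rw [h2]; exact mem_zpowers _
    obtain ⟨j, hj⟩ := mem_zpowers_iff.mp h3
    have h4 : y ^ j = g * y * g⁻¹ := by
      have := congrArg Subtype.val hj
      simpa using this
    simp only
    rw [← conj_zpow, ← h4, ← zpow_mul]
    exact zpow_mem_zpowers _ _
  · intro htop
    have hn : (zpowers y).Normal := normalizer_eq_top_iff.mp htop
    have h1 := h.hOp _ hn (P.2.to_le (zpowers_le.mpr hy))
    exact hy1 (zpowers_eq_bot.mp h1)

omit [Finite G] [Fact p.Prime] in
lemma conj_of_comm {t y : G} (hc : t * y = y * t) : t * y * t⁻¹ = y := by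
  rw [hc]; group

/-- An element commuting with `1 ≠ y ∈ P` lies in `N(P)`. -/
lemma comm_imp_norm (h : SC p G) (P : Sylow p G) {y : G} (hy : y ∈ (P : Subgroup G)) (hy1 : y ≠ 1)
    {t : G} (hc : t * y = y * t) : t ∈ NN P := by
  apply norm_le h P hy hy1
  apply mem_normalizer_of_conj_mem
  rintro x ⟨k, rfl⟩
  simp only
  rw [← conj_zpow, conj_of_comm hc]
  exact zpow_mem_zpowers _ _

/-- Sylow subgroups sharing a nontrivial element coincide. -/
lemma sylow_eq_of_common (h : SC p G) (P P' : Sylow p G) {y : G} (hy : y ∈ (P : Subgroup G))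
    (hy' : y ∈ (P' : Subgroup G)) (hy1 : y ≠ 1) : P' = P := by
  have hab := comm_of_cyclic (h.hyp.cyc P' P'.2)
  have h1 : (P' : Subgroup G) ≤ NN P := by
    intro u hu
    exact comm_imp_norm h P hy hy1 (hab u hu y hy')
  have h2 := le_of_le_normalizer P P'.2 h1
  exact Sylow.ext (P'.is_maximal' P.2 h2).symm

/-- A nontrivial `p'`-element centralizing `P` has centralizer `N(P)`. -/
lemma cent_iff (h : SC p G) (P : Sylow p G) {x : G} (hx : x ∈ CC P) (hx1 : x ≠ 1)
    (hxp : (orderOf x).Coprime p) (g : G) : g * x = x * g ↔ g ∈ NN P := by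
  have hback : ∀ g ∈ NN P, g * x = x * g := by
    intro g hg
    have hxN : x ∈ NN P := CC_le_NN P hx
    have hc := comm_mod h.hyp P hg hxN
    obtain ⟨n, hn⟩ := pow_of_mem P.2 hc
    have hcom : (g * x * g⁻¹ * x⁻¹) * x = x * (g * x * g⁻¹ * x⁻¹) :=
      (mem_centralizer_iff.mp hx) _ hc
    have h1 : (g * x * g⁻¹ * x⁻¹) ^ orderOf x = 1 := by
      have h2 : Commute (g * x * g⁻¹ * x⁻¹) x := hcom
      have h3 : ((g * x * g⁻¹ * x⁻¹) * x) ^ orderOf x = 1 := by
        have : (g * x * g⁻¹ * x⁻¹) * x = g * x * g⁻¹ := by group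
        rw [this, conj_pow, pow_orderOf_eq_one]; group
      rw [h2.mul_pow, pow_orderOf_eq_one, mul_one] at h3
      exact h3
    have h4 := comm_pow_eq_one hn h1 hxp
    calc g * x = (g * x * g⁻¹ * x⁻¹) * (x * g) := by group
      _ = x * g := by rw [h4, one_mul]
  refine ⟨?_, hback g⟩
  have hle : NN P ≤ centralizer ({x} : Set G) := by
    intro g hg
    rw [mem_centralizer_singleton_iff]
    exact hback g hg
  have htop : centralizer ({x} : Set G) ≠ ⊤ := by
    intro htop
    have hnorm : (zpowers x).Normal := by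
      constructor
      rintro a ⟨k, rfl⟩ b
      have hb : b ∈ centralizer ({x} : Set G) := by rw [htop]; trivial
      rw [mem_centralizer_singleton_iff] at hb
      simp only
      rw [← conj_zpow, conj_of_comm hb]
      exact zpow_mem_zpowers _ _
    have h1 := h.hOp' _ hnorm (not_dvd_card_zpowers hxp)
    exact hx1 (zpowers_eq_bot.mp h1)
  intro hg
  apply h.hA1 P _ hle htop
  rw [mem_centralizer_singleton_iff]
  exact hg

/-- A `p'`-element commuting with `1 ≠ y ∈ P` centralizes `P`. -/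
lemma mem_CC_of_comm (h : SC p G) (P : Sylow p G) {y : G} (hy : y ∈ (P : Subgroup G)) (hy1 : y ≠ 1)
    {t : G} (hc : t * y = y * t) (ht : (orderOf t).Coprime p) : t ∈ CC P := by
  have hp : p.Prime := Fact.out
  have hN := comm_imp_norm h P hy hy1 hc
  have h1 := fix_imp (P : Subgroup G) P.2 (h.hyp.cyc P P.2) t hN (r := orderOf t)
    (fun hd => (Nat.Prime.coprime_iff_not_dvd hp).mp ht.symm hd) (pow_orderOf_eq_one t) hy hy1
    (conj_of_comm hc)
  rw [mem_centralizer_iff]
  intro u hu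
  have h2 := h1 u hu
  rw [mul_inv_eq_iff_eq_mul] at h2
  exact h2.symm

/-- Fixed-point free action of an element of order dividing `p`. -/
lemma card_modEq_of_fpf (E : Subgroup G) {w : G} (hw : w ^ p = 1)
    (hN : w ∈ normalizer (E : Set G)) (hfp : ∀ t ∈ E, t * w = w * t → t = 1) :
    Nat.card E ≡ 1 [MOD p] := by
  classical
  haveI := Fintype.ofFinite E
  let f : Function.End E := fun t => ⟨w * t * w⁻¹, (mem_set_normalizer_iff.1 hN t).1 t.2⟩
  have hpow : ∀ i : ℕ, ∀ t : E, ((f ^ i) t : G) = w ^ i * t * (w ^ i)⁻¹ := by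
    intro i t
    induction i with
    | zero =>
      show ((t : E) : G) = w ^ 0 * t * (w ^ 0)⁻¹
      simp
    | succ i ih =>
      rw [pow_succ']
      show w * (((f ^ i) t : E) : G) * w⁻¹ = _
      rw [ih, pow_succ']
      group
  have hf : f ^ p ^ 1 = 1 := by
    funext t
    apply Subtype.ext
    rw [pow_one, hpow, hw]
    have : ((1 : Function.End E) t) = t := rfl
    rw [this]
    simp
  have h1 := Equiv.Perm.card_fixedPoints_modEq hf
  have h2 : Fintype.card (Function.fixedPoints f) = 1 := by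
    rw [Fintype.card_eq_one_iff]
    refine ⟨⟨1, ?_⟩, ?_⟩
    · apply Subtype.ext; simp [f]
    · rintro ⟨t, ht⟩
      apply Subtype.ext
      apply Subtype.ext
      have h3 : w * (t : G) * w⁻¹ = t := congrArg Subtype.val ht
      rw [mul_inv_eq_iff_eq_mul] at h3
      exact hfp _ t.2 h3.symm
  rw [h2] at h1
  rwa [Nat.card_eq_fintype_card]

/-- The existence of a fixed point free element of order `p` on Sylow `q`-subgroups. -/
lemma exists_fpf (h : SC p G) {q : ℕ} [Fact q.Prime] (hqp : q ≠ p) (hq : q ∣ Nat.card G)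
    (Q : Sylow q G) :
    ∃ w : G, orderOf w = p ∧ w ∈ NN Q ∧ ∀ t ∈ (Q : Subgroup G), t * w = w * t → t = 1 := by
  have hp : p.Prime := Fact.out
  have hqpr : q.Prime := Fact.out
  have hQp : ¬ p ∣ Nat.card (Q : Subgroup G) := by
    obtain ⟨k, hk⟩ := IsPGroup.iff_card.mp Q.2
    rw [hk]
    intro hd
    exact hqp ((Nat.prime_dvd_prime_iff_eq hp hqpr).mp (hp.dvd_of_dvd_pow hd)).symm
  have hQab := h.hyp.ab _ hQp
  -- Burnside for `q`
  have hNC : ¬ NN Q ≤ CC Q := by
    intro hle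
    obtain ⟨L, hLn, hLq, k, hk⟩ := burnside Q hle
    rcases h.hsimple L hLn with rfl | rfl
    · rw [Subgroup.index_bot] at hk
      have h1 := h.hdvd
      rw [hk] at h1
      exact hqp ((Nat.prime_dvd_prime_iff_eq hp hqpr).mp (hp.dvd_of_dvd_pow h1)).symm
    · rw [Subgroup.card_top] at hLq
      exact hLq hq
  obtain ⟨g, hg, hgC⟩ := SetLike.not_le_iff_exists.mp hNC
  obtain ⟨a, b, rfl, -, ⟨n, hn⟩, hb, ha, hbz⟩ := Cfsg.Agent.Lib.PResid.exists_decomp (p := p) g
  have hzle : zpowers (a * b) ≤ NN Q := zpowers_le.mpr hg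
  -- `b` centralizes `Q`
  have hbC : b ∈ CC Q := by
    have hle : zpowers b ≤ normalizer (((Q : Subgroup G)) : Set G) :=
      zpowers_le.mpr (hzle hbz)
    have h1 := Cfsg.Agent.Lib.CoprimeInv.card_sup_mul_card_inf hle
    have h2 : ¬ p ∣ Nat.card (zpowers b ⊔ (Q : Subgroup G) : Subgroup G) := by
      intro hd
      have h3 : p ∣ Nat.card (zpowers b) * Nat.card (Q : Subgroup G) := by
        rw [← h1]; exact hd.mul_right _
      exact (Nat.Prime.not_dvd_mul hp (not_dvd_card_zpowers hb) hQp) h3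
    rw [mem_centralizer_iff]
    intro u hu
    exact h.hyp.ab _ h2 u (mem_sup_right hu) b (mem_sup_left (mem_zpowers b))
  have haC : a ∉ CC Q := by
    intro haC
    exact hgC (mul_mem haC hbC)
  have haN : a ∈ NN Q := hzle ha
  -- a fixed point yields a contradiction
  have key : ∀ w ∈ zpowers a, w ≠ 1 → ∀ t ∈ (Q : Subgroup G), t * w = w * t → t = 1 := by
    intro w hw hw1 t ht hc
    by_contra ht1
    have hza : IsPGroup p (zpowers a) := isPGroup_zpowers_of_pow hn
    obtain ⟨P', hP'⟩ := hza.exists_le_sylow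
    have hwP : w ∈ (P' : Subgroup G) := hP' hw
    have hto : (orderOf t).Coprime p := by
      have h1 : orderOf t ∣ Nat.card (Q : Subgroup G) := Subgroup.orderOf_dvd_natCard _ ht
      exact Nat.Coprime.coprime_dvd_left h1 ((Nat.Prime.coprime_iff_not_dvd hp).mpr hQp).symm
    have htC := mem_CC_of_comm h P' hwP hw1 hc hto
    have hQN : (Q : Subgroup G) ≤ NN P' := by
      intro u hu
      exact (cent_iff h P' htC ht1 hto u).mp (hQab u hu t ht)
    have haP : a ∈ (P' : Subgroup G) := hP' (mem_zpowers a)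
    apply haC
    rw [mem_centralizer_iff]
    intro u hu
    have hu1 : a * u * a⁻¹ * u⁻¹ ∈ (Q : Subgroup G) :=
      mul_mem ((mem_set_normalizer_iff.1 haN u).1 hu) (inv_mem hu)
    have hu2 : a * u * a⁻¹ * u⁻¹ ∈ (P' : Subgroup G) := by
      have h4 : u * a⁻¹ * u⁻¹ ∈ (P' : Subgroup G) :=
        (mem_set_normalizer_iff.1 (hQN hu) a⁻¹).1 (inv_mem haP)
      have : a * u * a⁻¹ * u⁻¹ = a * (u * a⁻¹ * u⁻¹) := by group
      rw [this]; exact mul_mem haP h4
    have hcop : (Nat.card (Q : Subgroup G)).Coprime (Nat.card (P' : Subgroup G)) := by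
      obtain ⟨j, hj⟩ := IsPGroup.iff_card.mp P'.2
      rw [hj]
      exact Nat.Coprime.pow_right j ((Nat.Prime.coprime_iff_not_dvd hp).mpr hQp).symm
    have h5 := eq_one_of_mem_coprime hu1 hu2 hcop
    calc u * a = (a * u * a⁻¹ * u⁻¹)⁻¹ * (a * u) := by group
      _ = a * u := by rw [h5]; simp
  -- the element of order `p`
  have ha1 : a ≠ 1 := by
    rintro rfl
    exact haC (one_mem _)
  have hdv : p ∣ orderOf a := by
    obtain ⟨c, -, hc⟩ := (Nat.dvd_prime_pow hp).1 (orderOf_dvd_of_pow_eq_one hn)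
    rw [hc]
    have hc0 : c ≠ 0 := by
      rintro rfl
      rw [pow_zero, orderOf_eq_one_iff] at hc
      exact ha1 hc
    exact dvd_pow_self p hc0
  have hord : orderOf (a ^ (orderOf a / p)) = p :=
    orderOf_pow_orderOf_div (orderOf_pos a).ne' hdv
  have hw1 : a ^ (orderOf a / p) ≠ 1 := by
    intro h0
    rw [h0, orderOf_one] at hord
    exact hp.one_lt.ne hord
  refine ⟨a ^ (orderOf a / p), hord, pow_mem haN _, ?_⟩
  exact key _ (npow_mem_zpowers _ _) hw1

lemma modEq_one_of_parts {n p : ℕ} (hn : n ≠ 0)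
    (h : ∀ q, q.Prime → q ∣ n → q ^ n.factorization q ≡ 1 [MOD p]) : n ≡ 1 [MOD p] := by
  have h1 : (n : ZMod p) = 1 := by
    conv_lhs => rw [← Nat.prod_factorization_pow_eq_self hn]
    rw [Finsupp.prod, Nat.cast_prod]
    apply Finset.prod_eq_one
    intro q hq
    have hq' : q ∈ n.primeFactors := by simpa using hq
    have h2 := h q (Nat.prime_of_mem_primeFactors hq') (Nat.dvd_of_mem_primeFactors hq')
    have h3 := (ZMod.natCast_eq_natCast_iff _ _ _).mpr h2
    simpa using h3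
  have h2 : ((n : ℕ) : ZMod p) = ((1 : ℕ) : ZMod p) := by simpa using h1
  exact (ZMod.natCast_eq_natCast_iff _ _ _).mp h2

lemma sylow_card_modEq (h : SC p G) {q : ℕ} [Fact q.Prime] (hqp : q ≠ p) (hq : q ∣ Nat.card G)
    (Q : Sylow q G) : Nat.card (Q : Subgroup G) ≡ 1 [MOD p] := by
  obtain ⟨w, hw, hN, hfp⟩ := exists_fpf h hqp hq Q
  exact card_modEq_of_fpf _ (by rw [← hw]; exact pow_orderOf_eq_one w) hN hfp

lemma ordCompl_modEq (h : SC p G) : ordCompl[p] (Nat.card G) ≡ 1 [MOD p] := by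
  have hp : p.Prime := Fact.out
  have hG : Nat.card G ≠ 0 := Nat.card_pos.ne'
  apply modEq_one_of_parts (Nat.ordCompl_pos p hG).ne'
  intro q hq hqd
  haveI : Fact q.Prime := ⟨hq⟩
  have hqp : q ≠ p := by
    rintro rfl
    exact Nat.not_dvd_ordCompl hp hG hqd
  have hqG : q ∣ Nat.card G := hqd.trans (Nat.ordCompl_dvd _ _)
  obtain ⟨Q⟩ : Nonempty (Sylow q G) := inferInstance
  have h1 := sylow_card_modEq h hqp hqG Q
  rw [Sylow.card_eq_multiplicity] at h1
  rw [Nat.factorization_ordCompl, Finsupp.erase_ne hqp]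
  exact h1

/-- The index of `P` in `N(P)`. -/
lemma relIndex_modEq (h : SC p G) (P : Sylow p G) :
    (P : Subgroup G).relIndex (NN P) ≡ 1 [MOD p] := by
  have hp : p.Prime := Fact.out
  set c := (P : Subgroup G).relIndex (NN P) with hc
  have h1 := ordCompl_modEq h
  have h2 : Nat.card (Sylow p G) ≡ 1 [MOD p] := card_sylow_modEq_one p G
  have h3 : Nat.card (Sylow p G) = (NN P).index := Sylow.card_eq_index_normalizer P
  have h4 := (NN P).card_mul_index
  have h5 : Nat.card (P : Subgroup G) * c = Nat.card (NN P) := by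
    have := Subgroup.relIndex_mul_relIndex (⊥ : Subgroup G) (P : Subgroup G) (NN P) bot_le
      Subgroup.le_normalizer
    rwa [Subgroup.relIndex_bot_left, Subgroup.relIndex_bot_left] at this
  have h6 := Nat.ordProj_mul_ordCompl_eq_self (Nat.card G) p
  have h7 := P.card_eq_multiplicity
  have h8 : ordCompl[p] (Nat.card G) = c * Nat.card (Sylow p G) := by
    have h9 : 0 < p ^ (Nat.card G).factorization p := pow_pos hp.pos _
    apply Nat.eq_of_mul_eq_mul_left h9
    rw [h6, ← h7, ← h4, ← h5, h3, mul_assoc]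
  rw [h8] at h1
  have h10 := (ZMod.natCast_eq_natCast_iff _ _ _).mpr h1
  have h11 := (ZMod.natCast_eq_natCast_iff _ _ _).mpr h2
  push_cast at h10 h11
  rw [h11, mul_one] at h10
  apply (ZMod.natCast_eq_natCast_iff _ _ _).mp
  push_cast
  exact h10

lemma not_dvd_relIndex (h : SC p G) (P : Sylow p G) :
    ¬ p ∣ (P : Subgroup G).relIndex (NN P) := by
  have hp : p.Prime := Fact.out
  intro hd
  have h1 := relIndex_modEq h P
  have h2 : (P : Subgroup G).relIndex (NN P) ≡ 0 [MOD p] := Nat.modEq_zero_iff_dvd.mpr hd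
  have h3 : 1 ≡ 0 [MOD p] := h1.symm.trans h2
  have h4 := Nat.modEq_zero_iff_dvd.mp h3
  exact hp.one_lt.ne' (Nat.dvd_one.mp h4)

lemma P_le_CC (h : Hyp p G) (P : Sylow p G) : (P : Subgroup G) ≤ CC P :=
  fun _ hx => mem_centralizer_of_comm (comm_of_cyclic (h.cyc P P.2)) hx

lemma relIndex_factor (h : Hyp p G) (P : Sylow p G) :
    (P : Subgroup G).relIndex (CC P) * (CC P).relIndex (NN P) = (P : Subgroup G).relIndex (NN P) :=
  Subgroup.relIndex_mul_relIndex _ _ _ (P_le_CC h P) (CC_le_NN P)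

lemma card_CC (h : Hyp p G) (P : Sylow p G) :
    Nat.card (P : Subgroup G) * (P : Subgroup G).relIndex (CC P) = Nat.card (CC P) := by
  have := Subgroup.relIndex_mul_relIndex (⊥ : Subgroup G) (P : Subgroup G) (CC P) bot_le
    (P_le_CC h P)
  rwa [Subgroup.relIndex_bot_left, Subgroup.relIndex_bot_left] at this

lemma card_NN (P : Sylow p G) :
    Nat.card (P : Subgroup G) * (P : Subgroup G).relIndex (NN P) = Nat.card (NN P) := by
  have := Subgroup.relIndex_mul_relIndex (⊥ : Subgroup G) (P : Subgroup G) (NN P) bot_le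
    Subgroup.le_normalizer
  rwa [Subgroup.relIndex_bot_left, Subgroup.relIndex_bot_left] at this

/-- `|N(P) : C(P)|` divides `p - 1`. -/
lemma d_dvd (h : SC p G) (P : Sylow p G) : (CC P).relIndex (NN P) ∣ p - 1 := by
  have hp : p.Prime := Fact.out
  set d := (CC P).relIndex (NN P) with hd
  have hcyc := h.hyp.cyc P P.2
  have h1 : d = Nat.card ((P : Subgroup G).normalizerMonoidHom).range := by
    rw [← Subgroup.index_ker, Subgroup.normalizerMonoidHom_ker]
    rfl
  have h2 : Nat.card ((P : Subgroup G).normalizerMonoidHom).range ∣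
      Nat.card (MulAut (P : Subgroup G)) := Subgroup.card_subgroup_dvd_card _
  rw [IsCyclic.card_mulAut, ← h1] at h2
  obtain ⟨a, ha⟩ := IsPGroup.iff_card.mp P.2
  have hnd : ¬ p ∣ d := by
    intro hd'
    apply not_dvd_relIndex h P
    rw [← relIndex_factor h.hyp P]
    exact hd'.mul_left _
  rw [ha] at h2
  rcases Nat.eq_zero_or_pos a with rfl | hapos
  · rw [pow_zero, Nat.totient_one] at h2
    rw [Nat.dvd_one.mp h2]
    exact one_dvd _
  · rw [Nat.totient_prime_pow hp hapos] at h2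
    have hcop : Nat.Coprime d (p ^ (a - 1)) :=
      Nat.Coprime.pow_right _ ((Nat.Prime.coprime_iff_not_dvd hp).mpr hnd).symm
    exact hcop.dvd_of_dvd_mul_left h2

lemma d_gt (h : SC p G) (P : Sylow p G) : 1 < (CC P).relIndex (NN P) := by
  have h0 : (CC P).relIndex (NN P) ≠ 0 := Subgroup.index_ne_zero_of_finite
  have h1 : (CC P).relIndex (NN P) ≠ 1 := by
    intro h2
    exact h.hNC P (Subgroup.relIndex_eq_one.mp h2)
  omega

/-- A central element of prime order. -/
lemma exists_central (h : Hyp p G) (P : Sylow p G) {q : ℕ} (hq : q.Prime)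
    (hqe : q ∣ (P : Subgroup G).relIndex (CC P)) : ∃ z ∈ CC P, orderOf z = q := by
  haveI : Fact q.Prime := ⟨hq⟩
  have h1 : q ∣ Nat.card (CC P) := by
    rw [← card_CC h P]; exact hqe.mul_left _
  obtain ⟨x, hx⟩ := exists_prime_orderOf_dvd_card' q h1
  exact ⟨x, x.2, by rw [Subgroup.orderOf_coe]; exact hx⟩

/-- The existence of a common prime of `|N : C|` and `|C : P|`. -/
lemma exists_common_prime (h : SC p G) (P : Sylow p G) :
    ∃ q : ℕ, q.Prime ∧ q ∣ (P : Subgroup G).relIndex (CC P) ∧ q ∣ (CC P).relIndex (NN P) := by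
  have hp : p.Prime := Fact.out
  by_contra hcon
  push Not at hcon
  set e := (P : Subgroup G).relIndex (CC P) with he
  set d := (CC P).relIndex (NN P) with hd
  have he0 : e ≠ 0 := Subgroup.index_ne_zero_of_finite
  have hfac : e * d = (P : Subgroup G).relIndex (NN P) := relIndex_factor h.hyp P
  have hE : e ≡ 1 [MOD p] := by
    apply modEq_one_of_parts he0
    intro q hq hqe
    haveI : Fact q.Prime := ⟨hq⟩
    have hqd := hcon q hq hqe
    have hqp : q ≠ p := by
      rintro rfl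
      apply not_dvd_relIndex h P
      rw [← hfac]; exact hqe.mul_right _
    obtain ⟨z, hzC, hzo⟩ := exists_central h.hyp P hq hqe
    have hz1 : z ≠ 1 := by
      rintro rfl
      rw [orderOf_one] at hzo
      exact hq.one_lt.ne hzo
    have hzp : (orderOf z).Coprime p := by
      rw [hzo]; exact (Nat.coprime_primes hq hp).mpr hqp
    have hzQ : IsPGroup q (zpowers z) :=
      isPGroup_zpowers_of_pow (n := 1) (by rw [pow_one, ← hzo]; exact pow_orderOf_eq_one z)
    obtain ⟨Q, hQ⟩ := hzQ.exists_le_sylow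
    have hzQ' : z ∈ (Q : Subgroup G) := hQ (mem_zpowers z)
    have hQp : ¬ p ∣ Nat.card (Q : Subgroup G) := by
      obtain ⟨k, hk⟩ := IsPGroup.iff_card.mp Q.2
      rw [hk]
      intro hd
      exact hqp ((Nat.prime_dvd_prime_iff_eq hp hq).mp (hp.dvd_of_dvd_pow hd)).symm
    have hQN : (Q : Subgroup G) ≤ NN P := by
      intro u hu
      exact (cent_iff h P hzC hz1 hzp u).mp (h.hyp.ab _ hQp u hu z hzQ')
    have hdv : Nat.card (Q : Subgroup G) ∣ Nat.card (NN P) := Subgroup.card_dvd_of_le hQN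
    rw [← card_NN P, ← hfac, Sylow.card_eq_multiplicity] at hdv
    have hqG : q ∣ Nat.card G := by
      have h1 : e ∣ Nat.card (CC P) := by rw [← card_CC h.hyp P]; exact dvd_mul_left _ _
      exact (hqe.trans h1).trans (Subgroup.card_subgroup_dvd_card _)
    set v := (Nat.card G).factorization q with hv
    have h1 : Nat.Coprime (q ^ v) (Nat.card (P : Subgroup G)) := by
      obtain ⟨k, hk⟩ := IsPGroup.iff_card.mp P.2
      rw [hk]
      exact Nat.Coprime.pow _ _ ((Nat.coprime_primes hq hp).mpr hqp)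
    have h2 := h1.dvd_of_dvd_mul_left hdv
    have h3 : Nat.Coprime (q ^ v) d :=
      Nat.Coprime.pow_left _ ((Nat.Prime.coprime_iff_not_dvd hq).mpr hqd)
    have h4 : q ^ v ∣ e := h3.dvd_of_dvd_mul_right h2
    have h5 : e ∣ Nat.card G := by
      have h6 : e ∣ Nat.card (CC P) := by rw [← card_CC h.hyp P]; exact dvd_mul_left _ _
      exact h6.trans (Subgroup.card_subgroup_dvd_card _)
    have h7 : e.factorization q = v := by
      apply le_antisymm
      · exact (Nat.factorization_le_iff_dvd he0 Nat.card_pos.ne').mpr h5 q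
      · exact (hq.pow_dvd_iff_le_factorization he0).mp h4
    rw [h7]
    have h8 := sylow_card_modEq h hqp hqG Q
    rwa [Sylow.card_eq_multiplicity] at h8
  have hD : d ≡ 1 [MOD p] := by
    have h1 := relIndex_modEq h P
    rw [← hfac] at h1
    have h2 := (ZMod.natCast_eq_natCast_iff _ _ _).mpr h1
    have h3 := (ZMod.natCast_eq_natCast_iff _ _ _).mpr hE
    push_cast at h2 h3
    rw [h3, one_mul] at h2
    apply (ZMod.natCast_eq_natCast_iff _ _ _).mp
    push_cast
    exact h2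
  have hd1 := d_gt h P
  have hd2 := d_dvd h P
  have hp1 : 0 < p - 1 := Nat.sub_pos_of_lt hp.one_lt
  have hd3 : d ≤ p - 1 := Nat.le_of_dvd hp1 hd2
  have hd4 : d < p := by omega
  have h5 : d % p = 1 % p := hD
  rw [Nat.mod_eq_of_lt hd4, Nat.mod_eq_of_lt hp.one_lt] at h5
  omega

omit [Finite G] in
lemma mem_smul_iff {q : ℕ} {g x : G} {P : Sylow q G} :
    x ∈ ((g • P : Sylow q G) : Subgroup G) ↔ g⁻¹ * x * g ∈ (P : Subgroup G) := by
  rw [Sylow.coe_subgroup_smul, Subgroup.mem_pointwise_smul_iff_inv_smul_mem, ← map_inv,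
    MulAut.smul_def, MulAut.conj_apply, inv_inv]

omit [Finite G] [Fact p.Prime] in
lemma mem_CC_smul {q : ℕ} {w t : G} {P : Sylow q G} : t ∈ CC (w • P) ↔ w⁻¹ * t * w ∈ CC P := by
  rw [mem_centralizer_iff, mem_centralizer_iff]
  constructor
  · intro h u hu
    have h1 : w * u * w⁻¹ ∈ ((w • P : Sylow q G) : Subgroup G) := by
      rw [mem_smul_iff]
      have : w⁻¹ * (w * u * w⁻¹) * w = u := by group
      rw [this]; exact hu
    have h2 := h _ h1
    calc u * (w⁻¹ * t * w) = w⁻¹ * ((w * u * w⁻¹) * t) * w := by group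
      _ = w⁻¹ * (t * (w * u * w⁻¹)) * w := by rw [h2]
      _ = (w⁻¹ * t * w) * u := by group
  · intro h u hu
    have h1 : w⁻¹ * u * w ∈ (P : Subgroup G) := mem_smul_iff.mp hu
    have h2 := h _ h1
    calc u * t = w * ((w⁻¹ * u * w) * (w⁻¹ * t * w)) * w⁻¹ := by group
      _ = w * ((w⁻¹ * t * w) * (w⁻¹ * u * w)) * w⁻¹ := by rw [h2]
      _ = t * u := by group

lemma mem_NN_smul {q : ℕ} {w t : G} {P : Sylow q G} (ht : w⁻¹ * t * w ∈ NN P) : t ∈ NN (w • P) := by
  apply mem_normalizer_of_conj_mem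
  intro x hx
  rw [mem_smul_iff] at hx ⊢
  have h1 := (mem_set_normalizer_iff.1 ht _).1 hx
  have h2 : w⁻¹ * (t * x * t⁻¹) * w = (w⁻¹ * t * w) * (w⁻¹ * x * w) * (w⁻¹ * t * w)⁻¹ := by group
  rw [h2]; exact h1

/-- The key non-centrality. -/
lemma key_K (h : SC p G) (P : Sylow p G) {q : ℕ} [Fact q.Prime] (hqp : q ≠ p) (Q : Sylow q G) {w : G}
    (hwo : orderOf w = p) (hwN : w ∈ NN Q) (hfp : ∀ t ∈ (Q : Subgroup G), t * w = w * t → t = 1)
    (hQN : (Q : Subgroup G) ≤ NN P) {t : G} (ht : t ∈ (Q : Subgroup G)) (ht1 : t ∈ CC P)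
    (ht2 : w⁻¹ * t * w ∈ CC P) : t = 1 := by
  have hp : p.Prime := Fact.out
  have hqpr : q.Prime := Fact.out
  by_contra hne
  have hto : (orderOf t).Coprime p := by
    have h1 : orderOf t ∣ Nat.card (Q : Subgroup G) := Subgroup.orderOf_dvd_natCard _ ht
    obtain ⟨k, hk⟩ := IsPGroup.iff_card.mp Q.2
    rw [hk] at h1
    exact Nat.Coprime.coprime_dvd_left h1
      (Nat.Coprime.pow_left k ((Nat.coprime_primes hqpr hp).mpr hqp))
  have ht2' : t ∈ CC (w • P) := mem_CC_smul.mpr ht2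
  have hle : ((w • P : Sylow p G) : Subgroup G) ≤ NN P := by
    intro u hu
    have h1 : u ∈ NN (w • P) := Subgroup.le_normalizer hu
    have h2 := (cent_iff h (w • P) ht2' hne hto u).mpr h1
    exact (cent_iff h P ht1 hne hto u).mp h2
  have h3 := le_of_le_normalizer P (w • P).2 hle
  have h4 : w • P = P := Sylow.ext ((w • P).is_maximal' P.2 h3).symm
  have hwNP : w ∈ NN P := by
    apply mem_normalizer_of_conj_mem
    intro x hx
    have h5 : w * x * w⁻¹ ∈ ((w • P : Sylow p G) : Subgroup G) := by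
      rw [mem_smul_iff]
      have : w⁻¹ * (w * x * w⁻¹) * w = x := by group
      rw [this]; exact hx
    rwa [h4] at h5
  have hwP : w ∈ (P : Subgroup G) :=
    mem_of_pow_of_mem_normalizer P (n := 1) (by rw [pow_one, ← hwo]; exact pow_orderOf_eq_one w) hwNP
  apply hne
  apply hfp t ht
  have hu1 : t * w * t⁻¹ * w⁻¹ ∈ (P : Subgroup G) := by
    have h4 : w * t⁻¹ * w⁻¹ ∈ (Q : Subgroup G) := (mem_set_normalizer_iff.1 hwN t⁻¹).1 (inv_mem ht)
    have h5 : t * w * t⁻¹ ∈ (P : Subgroup G) := (mem_set_normalizer_iff.1 (hQN ht) w).1 hwP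
    exact mul_mem h5 (inv_mem hwP)
  have hu2 : t * w * t⁻¹ * w⁻¹ ∈ (Q : Subgroup G) := by
    have h4 : w * t⁻¹ * w⁻¹ ∈ (Q : Subgroup G) := (mem_set_normalizer_iff.1 hwN t⁻¹).1 (inv_mem ht)
    have : t * w * t⁻¹ * w⁻¹ = t * (w * t⁻¹ * w⁻¹) := by group
    rw [this]; exact mul_mem ht h4
  have hcop : (Nat.card (Q : Subgroup G)).Coprime (Nat.card (P : Subgroup G)) := by
    obtain ⟨j, hj⟩ := IsPGroup.iff_card.mp P.2
    obtain ⟨k, hk⟩ := IsPGroup.iff_card.mp Q.2
    rw [hj, hk]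
    exact Nat.Coprime.pow _ _ ((Nat.coprime_primes hqpr hp).mpr hqp)
  have h5 := eq_one_of_mem_coprime hu2 hu1 hcop
  calc t * w = (t * w * t⁻¹ * w⁻¹) * (w * t) := by group
    _ = w * t := by rw [h5, one_mul]

lemma card_le_of_maps {E A B : Type*} [Group E] [Finite E] [Group A] [Group B] [Finite A] [Finite B]
    [IsCyclic A] [IsCyclic B] {q : ℕ} (hq : q.Prime) (hE : ∀ x : E, x ^ q = 1) (f : E →* A)
    (g : E →* B) (hinj : ∀ x, f x = 1 → g x = 1 → x = 1) : Nat.card E ≤ q * q := by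
  have h1 : Nat.card f.range ≤ q := by
    apply Cfsg.Agent.S1453.card_le_of_cyclic_of_pow hq
    rintro ⟨_, x, rfl⟩
    apply Subtype.ext
    simp only [Subgroup.coe_pow, Subgroup.coe_one]
    rw [← map_pow, hE, map_one]
  have h2 : Nat.card g.range ≤ q := by
    apply Cfsg.Agent.S1453.card_le_of_cyclic_of_pow hq
    rintro ⟨_, x, rfl⟩
    apply Subtype.ext
    simp only [Subgroup.coe_pow, Subgroup.coe_one]
    rw [← map_pow, hE, map_one]
  have hF : Function.Injective (fun x : E => (f.rangeRestrict x, g.rangeRestrict x)) := by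
    intro x y hxy
    simp only [Prod.mk.injEq] at hxy
    have h3 : f (x⁻¹ * y) = 1 := by
      have := congrArg Subtype.val hxy.1
      simp only [MonoidHom.coe_rangeRestrict] at this
      rw [map_mul, map_inv, this, inv_mul_cancel]
    have h4 : g (x⁻¹ * y) = 1 := by
      have := congrArg Subtype.val hxy.2
      simp only [MonoidHom.coe_rangeRestrict] at this
      rw [map_mul, map_inv, this, inv_mul_cancel]
    have h5 := hinj _ h3 h4
    rw [inv_mul_eq_one] at h5
    exact h5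
  have h6 := Nat.card_le_card_of_injective _ hF
  rw [Nat.card_prod] at h6
  exact h6.trans (Nat.mul_le_mul h1 h2)

lemma card_le_sq (h : SC p G) (hp2 : p ≠ 2) (P : Sylow p G) {q : ℕ} [Fact q.Prime] (hqp : q ≠ p)
    (Q : Sylow q G) {w : G} (hwo : orderOf w = p) (hwN : w ∈ NN Q)
    (hfp : ∀ t ∈ (Q : Subgroup G), t * w = w * t → t = 1) (hQN : (Q : Subgroup G) ≤ NN P)
    (E : Subgroup G) (hE : E ≤ Q) (hexp : ∀ u ∈ E, u ^ q = 1) : Nat.card E ≤ q * q := by
  have hp : p.Prime := Fact.out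
  have hqpr : q.Prime := Fact.out
  have hE1 : E ≤ NN P := hE.trans hQN
  have hE2 : E ≤ NN (w • P) := by
    intro u hu
    apply mem_NN_smul
    apply hQN
    have : w⁻¹ * u * w = w⁻¹ * u * w⁻¹⁻¹ := by group
    rw [this]
    exact (mem_set_normalizer_iff.1 (inv_mem hwN) u).1 (hE hu)
  haveI hc1 : IsCyclic (P : Subgroup G) := h.hyp.cyc P P.2
  haveI hc2 : IsCyclic ((w • P : Sylow p G) : Subgroup G) := h.hyp.cyc _ (w • P).2
  haveI := Cfsg.Agent.S1453.isCyclic_mulAut_of_pGroup hp hp2 P.2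
  haveI := Cfsg.Agent.S1453.isCyclic_mulAut_of_pGroup hp hp2 (w • P).2
  let f : E →* MulAut (P : Subgroup G) :=
    ((P : Subgroup G).normalizerMonoidHom).comp (Subgroup.inclusion hE1)
  let g : E →* MulAut ((w • P : Sylow p G) : Subgroup G) :=
    (((w • P : Sylow p G) : Subgroup G).normalizerMonoidHom).comp (Subgroup.inclusion hE2)
  apply card_le_of_maps hqpr (fun x => Subtype.ext (hexp x x.2)) f g
  intro x hfx hgx
  have h1 : (x : G) ∈ CC P := by
    have : Subgroup.inclusion hE1 x ∈ ((P : Subgroup G).normalizerMonoidHom).ker := hfx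
    rw [Subgroup.normalizerMonoidHom_ker] at this
    exact this
  have h2 : (x : G) ∈ CC (w • P) := by
    have : Subgroup.inclusion hE2 x ∈ (((w • P : Sylow p G) : Subgroup G).normalizerMonoidHom).ker := hgx
    rw [Subgroup.normalizerMonoidHom_ker] at this
    exact this
  apply Subtype.ext
  exact key_K h P hqp Q hwo hwN hfp hQN (hE x.2) h1 (mem_CC_smul.mp h2)

/-- The reduction to `p = 3`. -/
lemma p_eq_three (h : SC p G) (P : Sylow p G) : p = 3 ∧ 2 ∣ (P : Subgroup G).relIndex (CC P) := by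
  have hp : p.Prime := Fact.out
  obtain ⟨q, hq, hqe, hqd⟩ := exists_common_prime h P
  haveI : Fact q.Prime := ⟨hq⟩
  have hd1 := d_dvd h P
  have hp1 : 0 < p - 1 := Nat.sub_pos_of_lt hp.one_lt
  have hq1 : q ≤ p - 1 := Nat.le_of_dvd hp1 (hqd.trans hd1)
  have hq2 : q < p := by omega
  have hqp : q ≠ p := hq2.ne
  have hp2 : p ≠ 2 := by
    have := hq.two_le
    omega
  obtain ⟨z, hzC, hzo⟩ := exists_central h.hyp P hq hqe
  have hz1 : z ≠ 1 := by
    rintro rfl
    rw [orderOf_one] at hzo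
    exact hq.one_lt.ne hzo
  have hzp : (orderOf z).Coprime p := by
    rw [hzo]; exact (Nat.coprime_primes hq hp).mpr hqp
  have hzq : IsPGroup q (zpowers z) :=
    isPGroup_zpowers_of_pow (n := 1) (by rw [pow_one, ← hzo]; exact pow_orderOf_eq_one z)
  obtain ⟨Q, hQ⟩ := hzq.exists_le_sylow
  have hzQ' : z ∈ (Q : Subgroup G) := hQ (mem_zpowers z)
  have hQp : ¬ p ∣ Nat.card (Q : Subgroup G) := by
    obtain ⟨k, hk⟩ := IsPGroup.iff_card.mp Q.2
    rw [hk]
    intro hd
    exact hqp ((Nat.prime_dvd_prime_iff_eq hp hq).mp (hp.dvd_of_dvd_pow hd)).symm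
  have hQab := h.hyp.ab _ hQp
  have hQN : (Q : Subgroup G) ≤ NN P := by
    intro u hu
    exact (cent_iff h P hzC hz1 hzp u).mp (hQab u hu z hzQ')
  have hqG : q ∣ Nat.card G := by
    rw [← hzo]
    exact orderOf_dvd_natCard z
  obtain ⟨w, hwo, hwN, hfp⟩ := exists_fpf h hqp hqG Q
  -- `Ω₁(Q)`
  obtain ⟨E, hE⟩ : ∃ E : Subgroup G, ∀ u, u ∈ E ↔ u ∈ (Q : Subgroup G) ∧ u ^ q = 1 := by
    refine ⟨{ carrier := {u | u ∈ (Q : Subgroup G) ∧ u ^ q = 1}
              mul_mem' := ?_
              one_mem' := ⟨one_mem _, one_pow _⟩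
              inv_mem' := ?_ }, fun u => Iff.rfl⟩
    · rintro a b ⟨ha, ha1⟩ ⟨hb, hb1⟩
      refine ⟨mul_mem ha hb, ?_⟩
      have hc : Commute a b := hQab a ha b hb
      rw [hc.mul_pow, ha1, hb1, one_mul]
    · rintro a ⟨ha, ha1⟩
      exact ⟨inv_mem ha, by rw [inv_pow, ha1, inv_one]⟩
  have hEQ : E ≤ Q := fun u hu => ((hE u).mp hu).1
  have hc1 := card_le_sq h hp2 P hqp Q hwo hwN hfp hQN E hEQ (fun u hu => ((hE u).mp hu).2)
  have hwE : w ∈ normalizer (E : Set G) := by
    apply mem_normalizer_of_conj_mem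
    intro u hu
    rw [hE] at hu ⊢
    refine ⟨(mem_set_normalizer_iff.1 hwN u).1 hu.1, ?_⟩
    rw [conj_pow, hu.2]; group
  have hwp : w ^ p = 1 := by rw [← hwo]; exact pow_orderOf_eq_one w
  have hc2 := card_modEq_of_fpf (p := p) E hwp hwE (fun t ht => hfp t (hEQ ht))
  have hEq : IsPGroup q E := Q.2.to_le hEQ
  obtain ⟨j, hj⟩ := IsPGroup.iff_card.mp hEq
  have hzE : z ∈ E := (hE z).mpr ⟨hzQ', by rw [← hzo]; exact pow_orderOf_eq_one z⟩
  have hj0 : j ≠ 0 := by
    rintro rfl
    rw [pow_zero] at hj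
    have h1 : orderOf z ∣ Nat.card E := Subgroup.orderOf_dvd_natCard E hzE
    rw [hj, hzo] at h1
    exact hq.one_lt.ne' (Nat.dvd_one.mp h1)
  have hj2 : j ≤ 2 := by
    by_contra hcon
    have h3 : q ^ 3 ≤ q ^ j := Nat.pow_le_pow_right hq.pos (by omega)
    rw [hj] at hc1
    have h4 : q ^ 3 = q * q * q := by ring
    have h5 : q * q * 2 ≤ q * q * q := Nat.mul_le_mul_left _ hq.two_le
    have h6 : 0 < q * q := Nat.mul_pos hq.pos hq.pos
    omega
  rw [hj] at hc2
  have hj12 : j = 1 ∨ j = 2 := by omega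
  rcases hj12 with rfl | rfl
  · exfalso
    rw [pow_one] at hc2
    have h5 : q % p = 1 % p := hc2
    rw [Nat.mod_eq_of_lt hq2, Nat.mod_eq_of_lt hp.one_lt] at h5
    exact hq.one_lt.ne h5.symm
  · -- `p ∣ q + 1`
    have h6 : p ∣ q ^ 2 - 1 := (Nat.modEq_iff_dvd' (Nat.one_le_pow _ _ hq.pos)).mp hc2.symm
    have h7 : q ^ 2 - 1 = (q - 1) * (q + 1) := by
      obtain ⟨r, rfl⟩ : ∃ r, q = r + 1 := ⟨q - 1, by have := hq.pos; omega⟩
      simp only [Nat.add_sub_cancel]
      rw [Nat.sub_eq_iff_eq_add (Nat.one_le_pow _ _ (by omega))]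
      ring
    rw [h7] at h6
    have h8 : ¬ p ∣ q - 1 := by
      intro hd
      have := Nat.le_of_dvd (by have := hq.one_lt; omega) hd
      omega
    have h9 : p ∣ q + 1 := (hp.dvd_mul.mp h6).resolve_left h8
    have h10 : p = q + 1 := by
      have := Nat.le_of_dvd (by omega) h9
      omega
    have h11 : q = 2 := by
      rcases hq.eq_two_or_odd' with h12 | h12
      · exact h12
      · exfalso
        have h13 : Even (q + 1) := h12.add_one
        rw [← h10] at h13
        have h14 := hp.eq_two_or_odd'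
        rcases h14 with h14 | h14
        · exact hp2 h14
        · exact (Nat.not_even_iff_odd.mpr h14) h13
    subst h11
    exact ⟨h10, hqe⟩

end Cfsg.Agent.Lib.H73Cyc
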