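import Mathlib
import Cfsg.Agent.Lib.H73Cyc2
import Cfsg.Agent.Lib.H73Friend

/-!
The case `p = 3`: the commuting involution graph is a regular friendship graph.
-/

namespace Cfsg.Agent.Lib.H73Cyc

open Subgroup

variable {G : Type*} [Group G] [Finite G] [Fact (Nat.Prime 3)]

local instance : Fact (Nat.Prime 2) := ⟨Nat.prime_two⟩

lemma two_ne_three : (2 : ℕ) ≠ 3 := by norm_num

lemma d_eq_two (h : SC 3 G) (P : Sylow 3 G) : (CC P).relIndex (NN P) = 2 := by
  have h1 := d_dvd h P
  have h2 := d_gt h P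
  have h3 := Nat.le_of_dvd (by norm_num) h1
  have h4 : (3 - 1 : ℕ) = 2 := rfl
  omega

lemma sq_mem_CC (h : SC 3 G) (P : Sylow 3 G) {u : G} (hu : u ∈ NN P) : u ^ 2 ∈ CC P := by
  have h1 : ((CC P).subgroupOf (NN P)).index = 2 := d_eq_two h P
  have h2 := Subgroup.sq_mem_of_index_two h1 (⟨u, hu⟩ : NN P)
  exact h2

lemma exp_two (h : SC 3 G) (P : Sylow 3 G) (Q : Sylow 2 G) {w : G} (hwo : orderOf w = 3)
    (hwN : w ∈ NN Q) (hfp : ∀ t ∈ (Q : Subgroup G), t * w = w * t → t = 1)
    (hQN : (Q : Subgroup G) ≤ NN P) {u : G} (hu : u ∈ (Q : Subgroup G)) : u ^ 2 = 1 := by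
  apply key_K h P two_ne_three Q hwo hwN hfp hQN (pow_mem hu 2) (sq_mem_CC h P (hQN hu))
  have h1 : w⁻¹ * u ^ 2 * w = (w⁻¹ * u * w) ^ 2 := by
    rw [sq, sq]; group
  rw [h1]
  apply sq_mem_CC h P
  apply hQN
  have : w⁻¹ * u * w = w⁻¹ * u * w⁻¹⁻¹ := by group
  rw [this]
  exact (mem_set_normalizer_iff.1 (inv_mem hwN) u).1 hu

lemma exists_inv_central (h : SC 3 G) (P : Sylow 3 G) : ∃ z ∈ CC P, orderOf z = 2 := by
  obtain ⟨-, h2⟩ := p_eq_three h P
  exact exists_central h.hyp P Nat.prime_two h2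

lemma two_dvd (h : SC 3 G) : 2 ∣ Nat.card G := by
  obtain ⟨P⟩ : Nonempty (Sylow 3 G) := inferInstance
  obtain ⟨z, -, hz⟩ := exists_inv_central h P
  rw [← hz]
  exact orderOf_dvd_natCard z

lemma sylow2_ab (h : SC 3 G) (Q : Sylow 2 G) : ∀ a ∈ (Q : Subgroup G), ∀ b ∈ (Q : Subgroup G), a * b = b * a := by
  apply h.hyp.ab
  obtain ⟨k, hk⟩ := IsPGroup.iff_card.mp Q.2
  rw [hk]
  intro hd
  have := (Nat.prime_dvd_prime_iff_eq (Fact.out : Nat.Prime 3) Nat.prime_two).mp
    ((Fact.out : Nat.Prime 3).dvd_of_dvd_pow hd)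
  omega

lemma coprime_two_three_order {z : G} (hz : orderOf z = 2) : (orderOf z).Coprime 3 := by
  rw [hz]; norm_num

/-- The Sylow `2`-subgroups have order `4` and exponent `2`. -/
lemma sylow2_four (h : SC 3 G) (Q' : Sylow 2 G) :
    Nat.card (Q' : Subgroup G) = 4 ∧ ∀ u ∈ (Q' : Subgroup G), u ^ 2 = 1 := by
  have hp3 : Nat.Prime 3 := Fact.out
  obtain ⟨P⟩ : Nonempty (Sylow 3 G) := inferInstance
  obtain ⟨z, hzC, hzo⟩ := exists_inv_central h P
  have hz1 : z ≠ 1 := by
    rintro rfl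
    rw [orderOf_one] at hzo
    omega
  have hzq : IsPGroup 2 (zpowers z) :=
    isPGroup_zpowers_of_pow (n := 1) (by rw [pow_one, ← hzo]; exact pow_orderOf_eq_one z)
  obtain ⟨Q, hQ⟩ := hzq.exists_le_sylow
  have hzQ' : z ∈ (Q : Subgroup G) := hQ (mem_zpowers z)
  have hQN : (Q : Subgroup G) ≤ NN P := by
    intro u hu
    exact (cent_iff h P hzC hz1 (coprime_two_three_order hzo) u).mp (sylow2_ab h Q u hu z hzQ')
  obtain ⟨w, hwo, hwN, hfp⟩ := exists_fpf h two_ne_three (two_dvd h) Q
  have hexp : ∀ u ∈ (Q : Subgroup G), u ^ 2 = 1 := fun u hu => exp_two h P Q hwo hwN hfp hQN hu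
  have hc1 := card_le_sq h (by norm_num) P two_ne_three Q hwo hwN hfp hQN Q le_rfl hexp
  have hc2 := sylow_card_modEq h two_ne_three (two_dvd h) Q
  obtain ⟨j, hj⟩ := IsPGroup.iff_card.mp Q.2
  have hj0 : j ≠ 0 := by
    rintro rfl
    rw [pow_zero] at hj
    have h1 : orderOf z ∣ Nat.card (Q : Subgroup G) := Subgroup.orderOf_dvd_natCard _ hzQ'
    rw [hj, hzo] at h1
    omega
  have hj2 : j ≤ 2 := by
    by_contra hcon
    have h3 : 2 ^ 3 ≤ 2 ^ j := Nat.pow_le_pow_right (by norm_num) (by omega)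
    rw [hj] at hc1
    omega
  have hj4 : j = 2 := by
    have : j = 1 ∨ j = 2 := by omega
    rcases this with rfl | rfl
    · rw [hj] at hc2
      exact absurd hc2 (by decide)
    · rfl
  subst hj4
  have hQ4 : Nat.card (Q : Subgroup G) = 4 := by rw [hj]; norm_num
  constructor
  · rw [Sylow.card_eq_multiplicity] at hQ4 ⊢
    exact hQ4
  · intro u hu
    obtain ⟨g, hg⟩ := MulAction.exists_smul_eq G Q Q'
    rw [← hg] at hu
    have h1 := hexp _ (mem_smul_iff.mp hu)
    have h2 : g⁻¹ * u ^ 2 * g = 1 := by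
      rw [← h1, sq, sq]; group
    have h3 : u ^ 2 = g * 1 * g⁻¹ := by
      rw [← h2]; group
    rw [h3]; group

/-- Four distinct elements fill a subgroup of order four. -/
lemma mem_of_four {Q : Subgroup G} (hc : Nat.card Q = 4) {a b c d : G} (ha : a ∈ Q) (hb : b ∈ Q)
    (hc' : c ∈ Q) (hd : d ∈ Q) (hab : a ≠ b) (hac : a ≠ c) (had : a ≠ d) (hbc : b ≠ c) (hbd : b ≠ d)
    (hcd : c ≠ d) {x : G} (hx : x ∈ Q) : x = a ∨ x = b ∨ x = c ∨ x = d := by
  classical
  haveI := Fintype.ofFinite G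
  have hs : ({a, b, c, d} : Finset G).card = 4 := by
    rw [Finset.card_insert_of_notMem, Finset.card_insert_of_notMem, Finset.card_insert_of_notMem,
      Finset.card_singleton]
    · simpa using hcd
    · simp [hbc, hbd]
    · simp [hab, hac, had]
  have hT : ((Q : Set G).toFinset).card = 4 := by
    rw [Set.toFinset_card, ← hc, Nat.card_eq_fintype_card]
    rfl
  have hsub : ({a, b, c, d} : Finset G) ⊆ (Q : Set G).toFinset := by
    intro y hy
    simp only [Finset.mem_insert, Finset.mem_singleton] at hy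
    rw [Set.mem_toFinset]
    rcases hy with rfl | rfl | rfl | rfl <;> assumption
  have heq := Finset.eq_of_subset_of_card_le hsub (by rw [hT, hs])
  have hx' : x ∈ (Q : Set G).toFinset := by rw [Set.mem_toFinset]; exact hx
  rw [← heq] at hx'
  simpa using hx'

/-- Involutions. -/
lemma pow_two_of_order {z : G} (hz : orderOf z = 2) : z ^ 2 = 1 := by
  rw [← hz]; exact pow_orderOf_eq_one z

lemma ne_one_of_order {z : G} (hz : orderOf z = 2) : z ≠ 1 := by
  rintro rfl
  rw [orderOf_one] at hz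
  omega

lemma inv_eq_self_of_order {z : G} (hz : orderOf z = 2) : z⁻¹ = z := by
  rw [inv_eq_iff_mul_eq_one, ← sq]; exact pow_two_of_order hz

lemma order_eq_two {z : G} (h1 : z ^ 2 = 1) (h2 : z ≠ 1) : orderOf z = 2 :=
  orderOf_eq_prime h1 h2

lemma order_conj {z g : G} (hz : orderOf z = 2) : orderOf (g * z * g⁻¹) = 2 := by
  rw [show g * z * g⁻¹ = MulAut.conj g z from rfl, MulEquiv.orderOf_eq]; exact hz

/-- A Sylow `2`-subgroup through an involution. -/
lemma exists_sylow_through {z : G} (hz : orderOf z = 2) :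
    ∃ Q : Sylow 2 G, z ∈ (Q : Subgroup G) := by
  have hzq : IsPGroup 2 (zpowers z) :=
    isPGroup_zpowers_of_pow (n := 1) (by rw [pow_one]; exact pow_two_of_order hz)
  obtain ⟨Q, hQ⟩ := hzq.exists_le_sylow
  exact ⟨Q, hQ (mem_zpowers z)⟩

/-- All involutions are conjugate. -/
lemma all_conj (h : SC 3 G) {z u : G} (hz : orderOf z = 2) (hu : orderOf u = 2) :
    ∃ g : G, u = g * z * g⁻¹ := by
  obtain ⟨Q, hzQ⟩ := exists_sylow_through hz
  obtain ⟨Q', huQ'⟩ := exists_sylow_through hu
  obtain ⟨g, hg⟩ := MulAction.exists_smul_eq G Q Q'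
  rw [← hg] at huQ'
  have hu0 := mem_smul_iff.mp huQ'
  obtain ⟨w, hwo, hwN, hfp⟩ := exists_fpf h two_ne_three (two_dvd h) Q
  have hc4 := (sylow2_four h Q).1
  have hw3 : w ^ 3 = 1 := by rw [← hwo]; exact pow_orderOf_eq_one w
  have hz1 := ne_one_of_order hz
  have hconj1 : w * z * w⁻¹ ∈ (Q : Subgroup G) := (mem_set_normalizer_iff.1 hwN z).1 hzQ
  have hconj2 : w * (w * z * w⁻¹) * w⁻¹ ∈ (Q : Subgroup G) :=
    (mem_set_normalizer_iff.1 hwN _).1 hconj1
  have hne1 : w * z * w⁻¹ ≠ z := by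
    intro he
    apply hz1
    apply hfp z hzQ
    rw [mul_inv_eq_iff_eq_mul] at he
    exact he.symm
  have hne1' : z ≠ 1 := hz1
  have hne2 : w * z * w⁻¹ ≠ 1 := by
    intro he
    apply hz1
    have : z = w⁻¹ * (w * z * w⁻¹) * w := by group
    rw [this, he]; group
  have hne3 : w * (w * z * w⁻¹) * w⁻¹ ≠ 1 := by
    intro he
    apply hne2
    have : w * z * w⁻¹ = w⁻¹ * (w * (w * z * w⁻¹) * w⁻¹) * w := by group
    rw [this, he]; group
  have hne4 : w * (w * z * w⁻¹) * w⁻¹ ≠ w * z * w⁻¹ := by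
    intro he
    apply hne1
    have h1 : w * z * w⁻¹ = w⁻¹ * (w * (w * z * w⁻¹) * w⁻¹) * w := by group
    have h2 : z = w⁻¹ * (w * z * w⁻¹) * w := by group
    rw [h1, he, ← h2]
  have hne5 : w * (w * z * w⁻¹) * w⁻¹ ≠ z := by
    intro he
    apply hne1
    have hw4 : w * w * w * w = w := by
      have h3 : w * w * w = 1 := by
        rw [← hw3]; simp [pow_succ]
      rw [h3, one_mul]
    calc w * z * w⁻¹ = (w * w * w * w) * z * (w * w * w * w)⁻¹ := by rw [hw4]
      _ = w * (w * (w * (w * z * w⁻¹) * w⁻¹) * w⁻¹) * w⁻¹ := by group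
      _ = z := by rw [he]; exact he
  have hcases := mem_of_four hc4 (one_mem _) hzQ hconj1 hconj2 hz1.symm hne2.symm hne3.symm hne1.symm
    hne5.symm hne4.symm hu0
  have hfinish : ∀ k : G, g⁻¹ * u * g = k * z * k⁻¹ → u = (g * k) * z * (g * k)⁻¹ := by
    intro k hk
    have : u = g * (g⁻¹ * u * g) * g⁻¹ := by group
    rw [this, hk]; group
  rcases hcases with h1 | h1 | h1 | h1
  · exfalso
    apply ne_one_of_order hu
    have : u = g * (g⁻¹ * u * g) * g⁻¹ := by group
    rw [this, h1]; group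
  · exact ⟨g * 1, hfinish 1 (by rw [h1]; group)⟩
  · exact ⟨g * w, hfinish w h1⟩
  · exact ⟨g * (w * w), hfinish (w * w) (by rw [h1]; group)⟩

/-- Commuting involutions lie in a Sylow `2`-subgroup, and generate it. -/
lemma four_of_comm (h : SC 3 G) {u v : G} (hu : orderOf u = 2) (hv : orderOf v = 2) (hne : u ≠ v)
    (hc : u * v = v * u) :
    ∃ Q : Sylow 2 G, u ∈ (Q : Subgroup G) ∧ v ∈ (Q : Subgroup G) ∧
      ∀ x ∈ (Q : Subgroup G), x = 1 ∨ x = u ∨ x = v ∨ x = u * v := by
  have hzu : IsPGroup 2 (zpowers u) :=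
    isPGroup_zpowers_of_pow (n := 1) (by rw [pow_one]; exact pow_two_of_order hu)
  have hzv : IsPGroup 2 (zpowers v) :=
    isPGroup_zpowers_of_pow (n := 1) (by rw [pow_one]; exact pow_two_of_order hv)
  have hle : zpowers v ≤ normalizer ((zpowers u : Subgroup G) : Set G) := by
    rw [zpowers_le]
    apply mem_normalizer_of_conj_mem
    rintro _ ⟨k, rfl⟩
    simp only
    rw [← conj_zpow, conj_of_comm hc.symm]
    exact zpow_mem_zpowers _ _
  have hsup := IsPGroup.to_sup_of_normal_left' hzu hzv hle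
  obtain ⟨Q, hQ⟩ := hsup.exists_le_sylow
  have huQ : u ∈ (Q : Subgroup G) := hQ (mem_sup_left (mem_zpowers u))
  have hvQ : v ∈ (Q : Subgroup G) := hQ (mem_sup_right (mem_zpowers v))
  have hu1 := ne_one_of_order hu
  have hv1 := ne_one_of_order hv
  refine ⟨Q, huQ, hvQ, ?_⟩
  intro x hx
  apply mem_of_four (sylow2_four h Q).1 (one_mem _) huQ hvQ (mul_mem huQ hvQ) hu1.symm hv1.symm ?_ hne
    ?_ ?_ hx
  · intro he
    apply hne
    have h1 : u * v = 1 := he.symm
    have h2 : u = v⁻¹ := eq_inv_of_mul_eq_one_left h1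
    rw [h2, inv_eq_self_of_order hv]
  · intro he
    exact hv1 (mul_eq_left.mp he.symm)
  · intro he
    exact hu1 (mul_eq_right.mp he.symm)

/-- There is a unique involution centralizing a Sylow `3`-subgroup. -/
lemma unique_inv_central (h : SC 3 G) (P : Sylow 3 G) {u v : G} (hu : orderOf u = 2)
    (huC : u ∈ CC P) (hv : orderOf v = 2) (hvC : v ∈ CC P) : u = v := by
  by_contra hne
  have hc : v * u = u * v :=
    (cent_iff h P huC (ne_one_of_order hu) (coprime_two_three_order hu) v).mpr (CC_le_NN P hvC)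
  obtain ⟨Q, huQ, hvQ, hQ⟩ := four_of_comm h hu hv hne hc.symm
  have hQC : (Q : Subgroup G) ≤ CC P := by
    intro x hx
    rcases hQ x hx with rfl | rfl | rfl | rfl
    · exact one_mem _
    · exact huC
    · exact hvC
    · exact mul_mem huC hvC
  obtain ⟨w, hwo, hwN, hfp⟩ := exists_fpf h two_ne_three (two_dvd h) Q
  apply ne_one_of_order hu
  apply key_K h P two_ne_three Q hwo hwN hfp (hQC.trans (CC_le_NN P)) huQ huC
  apply hQC
  have : w⁻¹ * u * w = w⁻¹ * u * w⁻¹⁻¹ := by group
  rw [this]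
  exact (mem_set_normalizer_iff.1 (inv_mem hwN) u).1 huQ

/-- The product of two non-commuting involutions has order divisible by `3`. -/
lemma exists_e (h : SC 3 G) {u v : G} (hu : orderOf u = 2) (hv : orderOf v = 2)
    (hnc : u * v ≠ v * u) :
    ∃ e : G, orderOf e = 3 ∧ u * e * u⁻¹ = e⁻¹ ∧ v * e * v⁻¹ = e⁻¹ ∧ e ∈ zpowers (u * v) := by
  have hp3 : Nat.Prime 3 := Fact.out
  have hui := inv_eq_self_of_order hu
  have hvi := inv_eq_self_of_order hv
  have hux : u * (u * v) * u⁻¹ = (u * v)⁻¹ := by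
    rw [mul_inv_rev, hui, hvi]
    have h1 : u * u = 1 := by rw [← sq]; exact pow_two_of_order hu
    rw [← mul_assoc, h1, one_mul]
  have hvx : v * (u * v) * v⁻¹ = (u * v)⁻¹ := by
    have h1 : v * (u * v) * v⁻¹ = v * u := by group
    rw [h1, mul_inv_rev, hui, hvi]
  by_cases hd : 3 ∣ orderOf (u * v)
  · refine ⟨(u * v) ^ (orderOf (u * v) / 3), orderOf_pow_orderOf_div (orderOf_pos _).ne' hd,
      ?_, ?_, npow_mem_zpowers _ _⟩
    · rw [← conj_pow, hux, inv_pow]
    · rw [← conj_pow, hvx, inv_pow]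
  · exfalso
    have hle : zpowers u ≤ normalizer ((zpowers (u * v) : Subgroup G) : Set G) := by
      rw [zpowers_le]
      apply mem_normalizer_of_conj_mem
      rintro _ ⟨k, rfl⟩
      simp only
      rw [← conj_zpow, hux]
      rw [inv_zpow]
      exact inv_mem (zpow_mem_zpowers _ _)
    have h1 := Cfsg.Agent.Lib.CoprimeInv.card_sup_mul_card_inf hle
    have h2 : ¬ 3 ∣ Nat.card (zpowers u ⊔ zpowers (u * v) : Subgroup G) := by
      intro hd'
      have h3 : 3 ∣ Nat.card (zpowers u) * Nat.card (zpowers (u * v)) := by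
        rw [← h1]; exact hd'.mul_right _
      rw [Nat.card_zpowers, Nat.card_zpowers, hu] at h3
      rcases hp3.dvd_mul.mp h3 with h4 | h4
      · omega
      · exact hd h4
    have h3 := h.hyp.ab _ h2 u (mem_sup_left (mem_zpowers u)) (u * v)
      (mem_sup_right (mem_zpowers _))
    apply hnc
    have h4 : u * u = 1 := by rw [← sq]; exact pow_two_of_order hu
    have h5 : v = u * v * u := by
      have h6 : u * (u * v) = v := by rw [← mul_assoc, h4, one_mul]
      calc v = u * (u * v) := h6.symm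
        _ = u * v * u := h3
    calc u * v = u * v * (u * u) := by rw [h4, mul_one]
      _ = (u * v * u) * u := by group
      _ = v * u := by rw [← h5]

/-- The commuting involution graph. -/
def invGraph (G : Type*) [Group G] : SimpleGraph {u : G // orderOf u = 2} where
  Adj u v := (u : G) ≠ v ∧ (u : G) * v = v * u
  symm := ⟨fun _ _ huv => ⟨huv.1.symm, huv.2.symm⟩⟩
  loopless := ⟨fun _ huv => huv.1 rfl⟩

/-- The friendship property. -/
lemma inv_friend (h : SC 3 G) (u v : {u : G // orderOf u = 2}) (hne : u ≠ v) :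
    ∃! x, (invGraph G).Adj u x ∧ (invGraph G).Adj v x := by
  have hp3 : Nat.Prime 3 := Fact.out
  obtain ⟨u, hu⟩ := u
  obtain ⟨v, hv⟩ := v
  have hne' : u ≠ v := fun h0 => hne (Subtype.ext h0)
  have hu1 := ne_one_of_order hu
  have hv1 := ne_one_of_order hv
  by_cases hc : u * v = v * u
  · -- commuting
    have huv1 : u * v ≠ 1 := by
      intro he
      apply hne'
      have h2 : u = v⁻¹ := eq_inv_of_mul_eq_one_left he
      rw [h2, inv_eq_self_of_order hv]
    have huvo : orderOf (u * v) = 2 := by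
      apply order_eq_two _ huv1
      have hcom : Commute u v := hc
      rw [hcom.mul_pow, pow_two_of_order hu, pow_two_of_order hv, one_mul]
    refine ⟨⟨u * v, huvo⟩, ⟨⟨?_, ?_⟩, ⟨?_, ?_⟩⟩, ?_⟩
    · intro he
      exact hv1 (mul_eq_left.mp he.symm)
    · show u * (u * v) = u * v * u
      rw [mul_assoc, ← hc]
    · intro he
      exact hu1 (mul_eq_right.mp he.symm)
    · show v * (u * v) = u * v * v
      rw [← mul_assoc, ← hc]
    · rintro ⟨y, hy⟩ ⟨⟨hy1, hy2⟩, ⟨hy3, hy4⟩⟩
      simp only at hy1 hy2 hy3 hy4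
      apply Subtype.ext
      simp only
      obtain ⟨Q, huQ, hvQ, hQ⟩ := four_of_comm h hu hv hne' hc
      have hyN : y ∈ NN Q := by
        apply mem_normalizer_of_conj_mem
        intro x hx
        have hcomm : y * x = x * y := by
          rcases hQ x hx with rfl | rfl | rfl | rfl
          · simp
          · exact hy2.symm
          · exact hy4.symm
          · rw [← mul_assoc, ← hy2, mul_assoc, ← hy4, mul_assoc]
        rw [conj_of_comm hcomm]
        exact hx
      have hyQ : y ∈ (Q : Subgroup G) :=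
        mem_of_pow_of_mem_normalizer Q (n := 1) (by rw [pow_one]; exact pow_two_of_order hy) hyN
      rcases hQ y hyQ with h1 | h1 | h1 | h1
      · exact absurd h1 (ne_one_of_order hy)
      · exact absurd h1.symm hy1
      · exact absurd h1.symm hy3
      · exact h1
  · -- non-commuting
    obtain ⟨e, heo, heu, hev, hex⟩ := exists_e h hu hv hc
    have he3 : e ^ 3 ^ 1 = 1 := by rw [pow_one, ← heo]; exact pow_orderOf_eq_one e
    have hze : IsPGroup 3 (zpowers e) := isPGroup_zpowers_of_pow he3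
    obtain ⟨P, hP⟩ := hze.exists_le_sylow
    have heP : e ∈ (P : Subgroup G) := hP (mem_zpowers e)
    have he1 : e ≠ 1 := by
      rintro rfl
      rw [orderOf_one] at heo
      omega
    have hinv : ∀ {t : G}, t * e * t⁻¹ = e⁻¹ → t ∈ NN P := by
      intro t ht
      apply norm_le h P heP he1
      apply mem_normalizer_of_conj_mem
      rintro _ ⟨k, rfl⟩
      simp only
      rw [← conj_zpow, ht, inv_zpow]
      exact inv_mem (zpow_mem_zpowers _ _)
    have heinv : e⁻¹ ≠ e := by
      intro h0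
      have h1 : e ^ 2 = 1 := by
        rw [sq]
        nth_rw 1 [← h0]
        exact inv_mul_cancel e
      have h2 := orderOf_dvd_of_pow_eq_one h1
      rw [heo] at h2
      omega
    obtain ⟨z, hzC, hzo⟩ := exists_inv_central h P
    have hz1 := ne_one_of_order hzo
    have hzcop := coprime_two_three_order hzo
    have hzu : u * z = z * u := (cent_iff h P hzC hz1 hzcop u).mpr (hinv heu)
    have hzv : v * z = z * v := (cent_iff h P hzC hz1 hzcop v).mpr (hinv hev)
    have hnotC : ∀ {t : G}, t * e * t⁻¹ = e⁻¹ → z ≠ t := by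
      rintro t ht rfl
      have h1 := (mem_centralizer_iff.mp hzC) e heP
      have h2 : z * e * z⁻¹ = e := by rw [← h1]; group
      rw [h2] at ht
      exact heinv ht.symm
    refine ⟨⟨z, hzo⟩, ⟨⟨(hnotC heu).symm, hzu⟩, ⟨(hnotC hev).symm, hzv⟩⟩, ?_⟩
    rintro ⟨y, hy⟩ ⟨⟨hy1, hy2⟩, ⟨hy3, hy4⟩⟩
    simp only at hy1 hy2 hy3 hy4
    apply Subtype.ext
    simp only
    have hyx : y * (u * v) = (u * v) * y := by
      rw [← mul_assoc, ← hy2, mul_assoc, ← hy4, mul_assoc]
    have hye : y * e = e * y := by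
      obtain ⟨k, rfl⟩ := mem_zpowers_iff.mp hex
      have hcom : Commute y (u * v) := hyx
      exact (hcom.zpow_right k)
    have hyC := mem_CC_of_comm h P heP he1 hye (coprime_two_three_order hy)
    exact unique_inv_central h P hy hyC hzo hzC

lemma neighbor_le (h : SC 3 G) (z u : {u : G // orderOf u = 2}) :
    Nat.card ((invGraph G).neighborSet z) ≤ Nat.card ((invGraph G).neighborSet u) := by
  obtain ⟨g, hg⟩ := all_conj h z.2 u.2
  let F : (invGraph G).neighborSet z → (invGraph G).neighborSet u := fun x =>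
    ⟨⟨g * (x : {u : G // orderOf u = 2}) * g⁻¹, order_conj x.1.2⟩, by
      have h1 : (invGraph G).Adj z x := x.2
      obtain ⟨h2, h3⟩ := h1
      refine ⟨?_, ?_⟩
      · rw [hg]
        intro he
        apply h2
        have h4 : (z : G) = g⁻¹ * (g * z * g⁻¹) * g := by group
        rw [h4, he]; group
      · show (u : G) * _ = _ * (u : G)
        rw [hg]
        calc g * (z : G) * g⁻¹ * (g * ((x : {u : G // orderOf u = 2}) : G) * g⁻¹)
            = g * ((z : G) * ((x : {u : G // orderOf u = 2}) : G)) * g⁻¹ := by group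
          _ = g * (((x : {u : G // orderOf u = 2}) : G) * z) * g⁻¹ := by rw [h3]
          _ = _ := by group⟩
  apply Nat.card_le_card_of_injective F
  intro x y hxy
  have h1 := congrArg (fun t : (invGraph G).neighborSet u => (((t : {u : G // orderOf u = 2})) : G)) hxy
  simp only [F] at h1
  apply Subtype.ext
  apply Subtype.ext
  exact mul_left_cancel (mul_right_cancel h1)

lemma three_le_degree (h : SC 3 G) : ∃ z : {u : G // orderOf u = 2},
    3 ≤ Nat.card ((invGraph G).neighborSet z) := by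
  obtain ⟨P⟩ : Nonempty (Sylow 3 G) := inferInstance
  obtain ⟨z, hzC, hzo⟩ := exists_inv_central h P
  refine ⟨⟨z, hzo⟩, ?_⟩
  obtain ⟨Q, hzQ⟩ := exists_sylow_through hzo
  obtain ⟨w, hwo, hwN, hfp⟩ := exists_fpf h two_ne_three (two_dvd h) Q
  have hz1 := ne_one_of_order hzo
  have hzcop := coprime_two_three_order hzo
  have hQN : (Q : Subgroup G) ≤ NN P := by
    intro u hu
    exact (cent_iff h P hzC hz1 hzcop u).mp (sylow2_ab h Q u hu z hzQ)
  set s : G := w * z * w⁻¹ with hs
  have hsQ : s ∈ (Q : Subgroup G) := (mem_set_normalizer_iff.1 hwN z).1 hzQ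
  have hso : orderOf s = 2 := order_conj hzo
  have hsz : s ≠ z := by
    intro he
    apply hz1
    apply hfp z hzQ
    rw [hs, mul_inv_eq_iff_eq_mul] at he
    exact he.symm
  have hscomm : s * z = z * s := sylow2_ab h Q s hsQ z hzQ
  have hs1 := ne_one_of_order hso
  -- `s` does not centralize `P`
  have hsC : s ∉ CC P := fun hC => hsz (unique_inv_central h P hso hC hzo hzC)
  obtain ⟨x, hx, hxs⟩ : ∃ x ∈ (P : Subgroup G), x * s ≠ s * x := by
    by_contra hcon
    push Not at hcon
    exact hsC (mem_centralizer_iff.mpr hcon)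
  have hxz : x * z = z * x := (mem_centralizer_iff.mp hzC) x hx
  -- the three neighbours
  have hzs1 : z * s ≠ 1 := by
    intro he
    apply hsz
    have h2 : s = z⁻¹ := eq_inv_of_mul_eq_one_right he
    rw [h2, inv_eq_self_of_order hzo]
  have hzso : orderOf (z * s) = 2 := by
    apply order_eq_two _ hzs1
    have hcom : Commute z s := hscomm.symm
    rw [hcom.mul_pow, pow_two_of_order hzo, pow_two_of_order hso, one_mul]
  have hxso : orderOf (x * s * x⁻¹) = 2 := order_conj hso
  let a : {u : G // orderOf u = 2} := ⟨s, hso⟩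
  let b : {u : G // orderOf u = 2} := ⟨z * s, hzso⟩
  let c : {u : G // orderOf u = 2} := ⟨x * s * x⁻¹, hxso⟩
  have ha : a ∈ (invGraph G).neighborSet ⟨z, hzo⟩ := ⟨hsz.symm, hscomm.symm⟩
  have hb : b ∈ (invGraph G).neighborSet ⟨z, hzo⟩ := by
    refine ⟨?_, ?_⟩
    · intro he
      exact hs1 (mul_eq_left.mp he.symm)
    · show z * (z * s) = z * s * z
      rw [mul_assoc, hscomm]
  have hc : c ∈ (invGraph G).neighborSet ⟨z, hzo⟩ := by
    refine ⟨?_, ?_⟩
    · show z ≠ x * s * x⁻¹
      intro he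
      apply hsz
      have h2 : s = x⁻¹ * (x * s * x⁻¹) * x := by group
      rw [h2, ← he]
      have h3 : x⁻¹ * z = z * x⁻¹ := by
        rw [inv_mul_eq_iff_eq_mul, ← mul_assoc, hxz, mul_assoc, mul_inv_cancel, mul_one]
      rw [h3, mul_assoc, inv_mul_cancel, mul_one]
    · show z * (x * s * x⁻¹) = x * s * x⁻¹ * z
      have h3 : x⁻¹ * z = z * x⁻¹ := by
        rw [inv_mul_eq_iff_eq_mul, ← mul_assoc, hxz, mul_assoc, mul_inv_cancel, mul_one]
      calc z * (x * s * x⁻¹) = (z * x) * s * x⁻¹ := by group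
        _ = (x * z) * s * x⁻¹ := by rw [hxz]
        _ = x * (z * s) * x⁻¹ := by group
        _ = x * (s * z) * x⁻¹ := by rw [hscomm]
        _ = x * s * (z * x⁻¹) := by group
        _ = x * s * (x⁻¹ * z) := by rw [h3]
        _ = _ := by group
  have hab : a ≠ b := by
    intro he
    have h1 : s = z * s := congrArg Subtype.val he
    exact hz1 (mul_eq_right.mp h1.symm)
  have hac : a ≠ c := by
    intro he
    have h1 : s = x * s * x⁻¹ := congrArg Subtype.val he
    apply hxs
    rw [eq_mul_inv_iff_mul_eq] at h1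
    exact h1.symm
  have hbc : b ≠ c := by
    intro he
    have h1 : z * s = x * s * x⁻¹ := congrArg Subtype.val he
    have h2 : z = x * (s * x⁻¹ * s⁻¹) := by
      calc z = (z * s) * s⁻¹ := by group
        _ = (x * s * x⁻¹) * s⁻¹ := by rw [h1]
        _ = _ := by group
    have h3 : s * x⁻¹ * s⁻¹ ∈ (P : Subgroup G) :=
      (mem_set_normalizer_iff.1 (hQN hsQ) x⁻¹).1 (inv_mem hx)
    have h4 : z ∈ (P : Subgroup G) := by
      rw [h2]; exact mul_mem hx h3
    obtain ⟨n, hn⟩ := pow_of_mem P.2 h4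
    exact hz1 (comm_pow_eq_one hn (pow_two_of_order hzo) (by norm_num))
  rw [Nat.card_coe_set_eq]
  have h5 : ({a, b, c} : Set {u : G // orderOf u = 2}) ⊆ (invGraph G).neighborSet ⟨z, hzo⟩ := by
    rintro y (rfl | rfl | rfl)
    · exact ha
    · exact hb
    · exact hc
  have h6 := Set.ncard_le_ncard h5 (Set.toFinite _)
  rwa [Set.ncard_eq_three.mpr ⟨a, b, c, hab, hac, hbc, rfl⟩] at h6

/-- The contradiction for `p = 3`. -/
theorem false_of_three (h : SC 3 G) : False := by
  obtain ⟨z, hz⟩ := three_le_degree h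
  haveI : Nonempty {u : G // orderOf u = 2} := ⟨z⟩
  apply Cfsg.Agent.Lib.H73Friend.friend_false (invGraph G) _ hz
  · intro v
    exact le_antisymm (neighbor_le h v z) (neighbor_le h z v)
  · intro v w hvw
    exact inv_friend h v w hvw

/-- The contradiction in general. -/
theorem false_of_SC {p : ℕ} [Fact p.Prime] (h : SC p G) : False := by
  obtain ⟨P⟩ : Nonempty (Sylow p G) := inferInstance
  obtain ⟨rfl, -⟩ := p_eq_three h P
  exact false_of_three h

end Cfsg.Agent.Lib.H73Cyc
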