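import Mathlib
import Cfsg.Agent.Lib.SL2NaturalModule

/-!
Modules for `SLK K(K)`, `K` a finite field of characteristic two, on which the elements of order
three `up a * lo a⁻¹` act without fixed points: every such module of exponent dividing four has
exponent two and is `E ⊕ w E` with `E` the fixed points of the upper unitriangular group, a
`K`-vector space on which the torus acts by scalars.
-/

set_option autoImplicit false
set_option linter.unusedSectionVars false
set_option linter.unusedVariables false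

namespace Cfsg.Agent.Lib.H73SL2A

open Cfsg.Agent.Lib.SL2NaturalModule

variable {K : Type*} [Field K] [CharP K 2]

/-- `SLK K(K)` -/
abbrev SLK (K : Type*) [Field K] := Matrix.SpecialLinearGroup (Fin 2) K

theorem up_up (a : K) : up a * up a = (1 : SLK K) := by
  rw [up_add, CharTwo.add_self_eq_zero, up_zero]

theorem lo_lo (a : K) : lo a * lo a = (1 : SLK K) := by
  rw [lo_add, CharTwo.add_self_eq_zero, lo_zero]

theorem tor_up (s : Kˣ) (x : K) : tor s * up x = up ((s : K) * s * x) * (tor s : SLK K) := by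
  rw [up_tor]
  congr 2
  rw [Units.val_inv_eq_inv_val]
  field_simp

theorem tor_lo (s : Kˣ) (x : K) :
    tor s * lo x = lo (((s⁻¹ : Kˣ) : K) * ((s⁻¹ : Kˣ) : K) * x) * (tor s : SLK K) := by
  rw [lo_tor]
  congr 2
  rw [Units.val_inv_eq_inv_val]
  field_simp

theorem wey_up' (x : K) : wey * up x = lo x * (wey : SLK K) := by
  rw [wey_up, CharTwo.neg_eq]

theorem wey_lo' (x : K) : wey * lo x = up x * (wey : SLK K) := by
  rw [wey_lo, CharTwo.neg_eq]

theorem wey_wey' : wey * wey = (1 : SLK K) := by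
  apply ent_ext <;> simp [ent_mul, ent_one, ent_wey, Matrix.mul_apply, Fin.sum_univ_two,
    CharTwo.neg_eq]

theorem wey_eq : (wey : SLK K) = up 1 * lo 1 * up 1 := by
  apply ent_ext <;> simp [ent_mul, ent_up, ent_lo, ent_wey, Matrix.mul_apply, Fin.sum_univ_two,
    CharTwo.neg_eq, CharTwo.add_self_eq_zero]

theorem bruh (a : Kˣ) :
    lo ((a⁻¹ : Kˣ) : K) * up ((a : K) * a + a) = up ((a : K) + 1) * lo 1 * (tor a⁻¹ : SLK K) := by
  have ha : (a : K) ≠ 0 := a.ne_zero
  have h2 : (a : K) + a = 0 := CharTwo.add_self_eq_zero _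
  have h2' : (2 : K) = 0 := CharTwo.two_eq_zero
  apply ent_ext <;> simp [ent_mul, ent_up, ent_lo, ent_tor, Matrix.mul_apply, Fin.sum_univ_two]
  · field_simp
    linear_combination (-1 : K) * h2'
  · field_simp
  · field_simp
    linear_combination h2'

theorem scal_aux (f : K → K) (hadd : ∀ x y, f (x + y) = f x + f y) (z : K)
    (hsq : ∀ x : K, ∃ y, y * y = x)
    (hR : ∀ a : K, a ≠ 0 →
      (a + 1) * z + f (a + 1) + a * f (a⁻¹ * a⁻¹) + f a⁻¹ + (a + 1) * f 1 = 0) :
    ∀ g : K, f (g * g) = g * g * f 1 + (g + g * g) * z := by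
  have h2 : (2 : K) = 0 := CharTwo.two_eq_zero
  have hf0 : f 0 = 0 := by
    have := hadd 0 0
    rw [add_zero] at this
    linear_combination (-1 : K) * this
  -- step A
  have hA : ∀ e : K, e ≠ 0 →
      (1 + e) * z + e * f e⁻¹ + f (e * e) + e * f e + f 1 = 0 := by
    intro e he
    have h := hR e⁻¹ (inv_ne_zero he)
    rw [inv_inv, hadd] at h
    have h1 : e * e⁻¹ = 1 := mul_inv_cancel₀ he
    linear_combination e * h - (z + f (e * e) + f 1) * h1 - e * f 1 * h2
  -- step B: the function χ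
  set χ : K → K := fun x => f x + x * f 1 with hχ
  have hχadd : ∀ x y, χ (x + y) = χ x + χ y := by
    intro x y
    simp only [hχ, hadd]
    ring
  have hχ1 : χ 1 = 0 := by
    simp only [hχ]
    linear_combination (f 1) * h2
  have hA' : ∀ e : K, e ≠ 0 →
      (1 + e) * z + e * χ e⁻¹ + χ (e * e) + e * χ e = 0 := by
    intro e he
    have h1 : e * e⁻¹ = 1 := mul_inv_cancel₀ he
    simp only [hχ]
    linear_combination hA e he + (f 1) * h1 + (e * e * f 1) * h2
  -- step C
  have hC : ∀ e : K, e ≠ 0 → (1 + e * e) * z + χ (e * e) + e * e * χ (e⁻¹ * e⁻¹) = 0 := by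
    intro e he
    have h1 : e * e⁻¹ = 1 := mul_inv_cancel₀ he
    have a1 := hA' e he
    have a2 := hA' e⁻¹ (inv_ne_zero he)
    rw [inv_inv] at a2
    linear_combination a1 + e * e * a2 - e * (z + χ e + χ e⁻¹) * h1 - (e * z + e * χ e⁻¹ + e * χ e) * h2
  have hC' : ∀ g : K, g ≠ 0 → (1 + g) * z + χ g + g * χ g⁻¹ = 0 := by
    intro g hg
    obtain ⟨y, rfl⟩ := hsq g
    have hy : y ≠ 0 := by
      rintro rfl
      simp at hg
    have := hC y hy
    rw [mul_inv]
    exact this
  -- step D: Hua
  have hD : ∀ g : K, g ≠ 0 → g ≠ 1 → χ (g * g) = (g * g + g) * z := by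
    intro g hg0 hg1
    have hg1' : g + 1 ≠ 0 := by
      intro h
      apply hg1
      linear_combination h - h2
    have hg2' : g * (g + 1) ≠ 0 := mul_ne_zero hg0 hg1'
    have hinv : g⁻¹ + (g + 1)⁻¹ = (g * (g + 1))⁻¹ := by
      field_simp
      linear_combination (g) * h2
    have a1 := hC' g hg0
    have a2 := hC' (g + 1) hg1'
    have a3 := hC' (g * (g + 1)) hg2'
    have e1 : χ (g + 1) = χ g := by
      rw [hχadd, hχ1, add_zero]
    have e2 : χ (g * (g + 1)) = χ (g * g) + χ g := by
      rw [mul_add, mul_one, hχadd]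
    have e3 : χ (g * (g + 1))⁻¹ = χ g⁻¹ + χ (g + 1)⁻¹ := by
      rw [← hinv, hχadd]
    rw [e1] at a2
    rw [e2, e3] at a3
    linear_combination -((g + 1) * a1 + g * a2 - a3) + (g * z + g * χ g) * h2
  intro g
  by_cases hg0 : g = 0
  · subst hg0
    simp [hf0]
  by_cases hg1 : g = 1
  · subst hg1
    simp only [mul_one, one_mul]
    linear_combination (-z) * h2
  have := hD g hg0 hg1
  simp only [hχ] at this
  linear_combination this - (g * g * f 1) * h2

theorem scal (f : K → K) (hadd : ∀ x y, f (x + y) = f x + f y) (z : K)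
    (hsq : ∀ x : K, ∃ y, y * y = x)
    (hR : ∀ a : K, a ≠ 0 →
      (a + 1) * z + f (a + 1) + a * f (a⁻¹ * a⁻¹) + f a⁻¹ + (a + 1) * f 1 = 0)
    (a b ζ : K) (ha0 : a ≠ 0) (ha1 : a ≠ 1) (hb : b = a + 1)
    (hY : ∀ c : K, c * ζ = f c + a * f (a⁻¹ * a⁻¹ * c) + b * f (b⁻¹ * b⁻¹ * c)) :
    z = 0 ∧ ∀ c, f c = c * f 1 := by
  have h2 : (2 : K) = 0 := CharTwo.two_eq_zero
  have hS := scal_aux f hadd z hsq hR
  have hb0 : b ≠ 0 := by
    rw [hb]
    intro h
    apply ha1
    linear_combination h - h2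
  have hab : a⁻¹ * a = 1 := inv_mul_cancel₀ ha0
  have hbb : b⁻¹ * b = 1 := inv_mul_cancel₀ hb0
  have key : ∀ t : K, t * t * ζ = t * t * (1 + a⁻¹ + b⁻¹) * f 1 +
      (t + t * t * (1 + a⁻¹ + b⁻¹)) * z := by
    intro t
    have h := hY (t * t)
    have e1 : a⁻¹ * a⁻¹ * (t * t) = (a⁻¹ * t) * (a⁻¹ * t) := by ring
    have e2 : b⁻¹ * b⁻¹ * (t * t) = (b⁻¹ * t) * (b⁻¹ * t) := by ring
    rw [e1, e2, hS, hS, hS] at h
    have c1 : a * ((a⁻¹ * t) * (a⁻¹ * t)) = a⁻¹ * (t * t) := by
      linear_combination (a⁻¹ * t * t) * hab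
    have c2 : a * (a⁻¹ * t) = t := by
      linear_combination t * hab
    have c3 : b * ((b⁻¹ * t) * (b⁻¹ * t)) = b⁻¹ * (t * t) := by
      linear_combination (b⁻¹ * t * t) * hbb
    have c4 : b * (b⁻¹ * t) = t := by
      linear_combination t * hbb
    linear_combination h + (f 1 + z) * c1 + (f 1 + z) * c3 + z * c2 + z * c4 + (t * z) * h2
  have k1 := key 1
  obtain ⟨g, hg0, hg1⟩ : ∃ g : K, g ≠ 0 ∧ g ≠ 1 := ⟨a, ha0, ha1⟩
  have k2 := key g
  have hz : (g * g + g) * z = 0 := by
    linear_combination k2 - g * g * k1 + (g * z) * h2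
  have hg1' : g + 1 ≠ 0 := by
    intro h
    apply hg1
    linear_combination h - h2
  have hgg : g * g + g ≠ 0 := by
    have : g * g + g = g * (g + 1) := by ring
    rw [this]
    exact mul_ne_zero hg0 hg1'
  have hz0 : z = 0 := by
    rcases mul_eq_zero.mp hz with h | h
    · exact absurd h hgg
    · exact h
  refine ⟨hz0, fun c => ?_⟩
  obtain ⟨y, rfl⟩ := hsq c
  rw [hS, hz0, mul_zero, add_zero]

variable {A : Type*} [AddCommGroup A] [DistribMulAction (SLK K) A]

/-- the fixed points of the upper unitriangular group which have order at most two -/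
def E (K : Type*) [Field K] [CharP K 2] (A : Type*) [AddCommGroup A] [DistribMulAction (SLK K) A] :
    AddSubgroup A where
  carrier := {n | (∀ x : K, up x • n = n) ∧ n + n = 0}
  add_mem' := by
    rintro a b ⟨ha, ha'⟩ ⟨hb, hb'⟩
    refine ⟨fun x => by rw [smul_add, ha x, hb x], ?_⟩
    linear_combination (norm := abel) ha' + hb'
  zero_mem' := ⟨fun x => smul_zero _, add_zero _⟩
  neg_mem' := by
    rintro a ⟨ha, ha'⟩
    refine ⟨fun x => by rw [smul_neg, ha x], ?_⟩
    linear_combination (norm := abel) - ha'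

theorem mem_E {n : A} : n ∈ E K A ↔ (∀ x : K, up x • n = n) ∧ n + n = 0 := Iff.rfl

/-- the order three elements act without fixed points -/
def HT (K : Type*) [Field K] [CharP K 2] (A : Type*) [AddCommGroup A] [DistribMulAction (SLK K) A] :
    Prop :=
  ∀ (a : Kˣ) (m : A),
    m + up (a : K) • lo ((a⁻¹ : Kˣ) : K) • m + lo ((a⁻¹ : Kˣ) : K) • up (a : K) • m = 0

theorem two_smul' {m : A} (h : m + m = 0) (g : SLK K) : g • m + g • m = 0 := by
  rw [← smul_add, h, smul_zero]

theorem E_tor {n : A} (hn : n ∈ E K A) (s : Kˣ) : (tor s : SLK K) • n ∈ E K A := by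
  refine ⟨fun x => ?_, two_smul' hn.2 _⟩
  rw [smul_smul, up_tor, mul_smul, hn.1]

section base

variable (hT : HT K A)
include hT

theorem L1 {n : A} (hn : n ∈ E K A) (a : Kˣ) :
    up (a : K) • lo ((a⁻¹ : Kˣ) : K) • n = lo ((a⁻¹ : Kˣ) : K) • n + n := by
  have h := hT a n
  rw [hn.1] at h
  have hY := two_smul' hn.2 (lo ((a⁻¹ : Kˣ) : K))
  linear_combination (norm := abel) h - hY - hn.2

theorem up_xi {n : A} (hn : n ∈ E K A) (a : Kˣ) :
    up (a : K) • lo (1 : K) • n = lo (1 : K) • n + (tor a : SLK K) • n := by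
  set ξ : A := lo (1 : K) • n with hξ
  have hξ2 : ξ + ξ = 0 := two_smul' hn.2 _
  have hm := E_tor hn a
  set m : A := (tor a : SLK K) • n with hmdef
  have b1 : lo ((a⁻¹ : Kˣ) : K) • m = up ((a : K) + 1) • ξ := by
    have h := congrArg (fun g : SLK K => g • m) (bruh a)
    simp only [mul_smul] at h
    rw [hm.1] at h
    rw [h, hξ, hmdef, smul_smul (tor a⁻¹) (tor a), tor_mul, inv_mul_cancel, tor_one, one_smul]
  have b2 : up (1 : K) • ξ = up ((a : K) + 1) • ξ + m := by
    have h := L1 hT hm a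
    rw [b1, smul_smul, up_add] at h
    have : (a : K) + ((a : K) + 1) = 1 := by
      rw [← add_assoc, CharTwo.add_self_eq_zero, zero_add]
    rwa [this] at h
  have b3 : up (1 : K) • ξ = ξ + n := by
    have h := L1 hT hn 1
    simpa [hξ] using h
  have b4 : up ((a : K) + 1) • ξ = ξ + n + m := by
    have hm2 := hm.2
    linear_combination (norm := abel) b3 - b2 - hm2
  have b5 : up (a : K) = up ((a : K) + 1) * (up (1 : K) : SLK K) := by
    rw [up_add, add_assoc, CharTwo.add_self_eq_zero, add_zero]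
  rw [b5, mul_smul, b3, smul_add, b4, hn.1]
  have hn2 := hn.2
  linear_combination (norm := abel) hn2


/-- the scalar action on the fixed points -/
def sc (c : K) (n : A) : A := up c • lo (1 : K) • n - lo (1 : K) • n

theorem sc_unit {n : A} (hn : n ∈ E K A) (a : Kˣ) : sc (a : K) n = (tor a : SLK K) • n := by
  rw [sc, up_xi hT hn a]
  abel

omit hT in
theorem sc_zero (n : A) : sc (0 : K) n = 0 := by
  rw [sc, up_zero, one_smul, sub_self]

theorem sc_mem {n : A} (hn : n ∈ E K A) (c : K) : sc c n ∈ E K A := by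
  by_cases hc : c = 0
  · rw [hc, sc_zero]
    exact (E K A).zero_mem
  · have := sc_unit hT hn (Units.mk0 c hc)
    rw [Units.val_mk0] at this
    rw [this]
    exact E_tor hn _

theorem sc_add {n : A} (hn : n ∈ E K A) (c d : K) : sc (c + d) n = sc c n + sc d n := by
  have h1 : up (c + d) • lo (1 : K) • n = up c • (up d • lo (1 : K) • n) := by
    rw [← up_add, mul_smul]
  have h2 : up d • lo (1 : K) • n = lo (1 : K) • n + sc d n := by
    rw [sc]; abel
  have h3 : up c • sc d n = sc d n := (sc_mem hT hn d).1 c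
  change up (c + d) • lo (1 : K) • n - lo (1 : K) • n =
    (up c • lo (1 : K) • n - lo (1 : K) • n) + sc d n
  rw [h1, h2, smul_add, h3]
  abel

theorem sc_one {n : A} (hn : n ∈ E K A) : sc (1 : K) n = n := by
  have := sc_unit hT hn 1
  rw [Units.val_one, tor_one, one_smul] at this
  exact this

theorem sc_mul {n : A} (hn : n ∈ E K A) (c d : K) : sc (c * d) n = sc c (sc d n) := by
  by_cases hc : c = 0
  · rw [hc, zero_mul, sc_zero, sc_zero]
  by_cases hd : d = 0
  · rw [hd, mul_zero, sc_zero]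
    simp [sc]
  · have h1 := sc_unit hT hn (Units.mk0 c hc * Units.mk0 d hd)
    have h2 := sc_unit hT hn (Units.mk0 d hd)
    have h3 := sc_unit hT (E_tor hn (Units.mk0 d hd)) (Units.mk0 c hc)
    simp only [Units.val_mul, Units.val_mk0] at h1 h2 h3
    rw [h1, h2, h3, smul_smul, tor_mul]

omit hT in
theorem sc_add_right (c : K) (n n' : A) : sc c (n + n') = sc c n + sc c n' := by
  simp only [sc, smul_add]
  abel

/-- the vector space structure on the fixed points, under the assumption `HT` -/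
@[reducible] def modE (hT : HT K A) : Module K (E K A) where
  smul c n := ⟨sc c (n : A), sc_mem hT n.2 c⟩
  one_smul n := Subtype.ext (sc_one hT n.2)
  mul_smul c d n := Subtype.ext (sc_mul hT n.2 c d)
  smul_zero c := Subtype.ext (by
    change sc c (0 : A) = 0
    simp [sc])
  smul_add c n n' := Subtype.ext (sc_add_right c (n : A) (n' : A))
  add_smul c d n := Subtype.ext (sc_add hT n.2 c d)
  zero_smul n := Subtype.ext (sc_zero (n : A))


end base

section main

variable [hF : Fact (HT K A)]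

instance instModE : Module K (E K A) := modE hF.out

theorem hT' : HT K A := hF.out

theorem coe_smul (c : K) (n : E K A) : ((c • n : E K A) : A) = sc c (n : A) := rfl

theorem up_xi' (c : K) (n : E K A) :
    up c • lo (1 : K) • (n : A) = lo (1 : K) • (n : A) + ((c • n : E K A) : A) := by
  rw [coe_smul, sc]
  abel

theorem tor_coe (s : Kˣ) (n : E K A) : (tor s : SLK K) • (n : A) = (((s : K) • n : E K A) : A) :=
  (sc_unit hF.out n.2 s).symm

theorem two_coe (n : E K A) : (n : A) + n = 0 := n.2.2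

theorem up_coe (x : K) (n : E K A) : up x • (n : A) = n := n.2.1 x

theorem wey_wey_s (m : A) : (wey : SLK K) • (wey : SLK K) • m = m := by
  rw [smul_smul, wey_wey', one_smul]

theorem wey_coe (n : E K A) : (wey : SLK K) • (n : A) = lo (1 : K) • (n : A) + n := by
  rw [wey_eq, mul_smul, mul_smul, up_coe, up_xi', one_smul]

theorem up_wey (c : K) (n : E K A) :
    up c • (wey : SLK K) • (n : A) = (wey : SLK K) • (n : A) + ((c • n : E K A) : A) := by
  rw [wey_coe, smul_add, up_xi', up_coe]
  abel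

theorem lo_wey (b : K) (n : E K A) : lo b • (wey : SLK K) • (n : A) = (wey : SLK K) • (n : A) := by
  rw [smul_smul, ← wey_up', mul_smul, up_coe]

theorem lo_coe (b : K) (n : E K A) :
    lo b • (n : A) = n + (wey : SLK K) • ((b • n : E K A) : A) := by
  have h : (lo b : SLK K) = wey * up b * wey := by
    rw [wey_up', mul_assoc, wey_wey', mul_one]
  rw [h, mul_smul, mul_smul, up_wey, smul_add, wey_wey_s]

theorem tor_wey_s (s : Kˣ) (m : A) :
    (tor s : SLK K) • (wey : SLK K) • m = (wey : SLK K) • (tor s⁻¹ : SLK K) • m := by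
  rw [smul_smul, tor_wey, mul_smul]

theorem wey_two (n : E K A) : (wey : SLK K) • (n : A) + (wey : SLK K) • (n : A) = 0 :=
  two_smul' (two_coe n) _

theorem eq_zero_of_eq_wey (n n' : E K A) (h : (n : A) = (wey : SLK K) • (n' : A)) : n = 0 := by
  have hl : ∀ b : K, lo b • (n : A) = n := by
    intro b
    rw [h, lo_wey]
  have h1 := (hF.out : HT K A) 1 (n : A)
  simp only [Units.val_one, inv_one, hl, up_coe] at h1
  apply Subtype.ext
  have h2 := two_coe n
  change (n : A) = 0
  linear_combination (norm := abel) h1 - h2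

theorem wey_inj {m : A} (h : (wey : SLK K) • m = 0) : m = 0 := by
  have := wey_wey_s (K := K) m
  rw [h, smul_zero] at this
  exact this.symm

variable (K A) in
/-- the submodule generated by the fixed points -/
def B : AddSubgroup A where
  carrier := {m | ∃ n n' : E K A, m = n + (wey : SLK K) • (n' : A)}
  add_mem' := by
    rintro a b ⟨n, n', rfl⟩ ⟨r, r', rfl⟩
    refine ⟨n + r, n' + r', ?_⟩
    simp only [AddSubgroup.coe_add, smul_add]
    abel
  zero_mem' := ⟨0, 0, by simp⟩
  neg_mem' := by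
    rintro a ⟨n, n', rfl⟩
    refine ⟨-n, -n', ?_⟩
    simp only [AddSubgroup.coe_neg, smul_neg]
    abel

theorem mem_B {m : A} : m ∈ B K A ↔ ∃ n n' : E K A, m = n + (wey : SLK K) • (n' : A) := Iff.rfl

theorem E_le_B (n : E K A) : (n : A) ∈ B K A := ⟨n, 0, by simp⟩

theorem wey_mem_B (n : E K A) : (wey : SLK K) • (n : A) ∈ B K A := ⟨0, n, by simp⟩

theorem B_two {m : A} (hm : m ∈ B K A) : m + m = 0 := by
  obtain ⟨n, n', rfl⟩ := hm
  have h1 := two_coe n
  have h2 := wey_two n'
  linear_combination (norm := abel) h1 + h2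

theorem up_mem_B {m : A} (hm : m ∈ B K A) (c : K) : up c • m ∈ B K A := by
  obtain ⟨n, n', rfl⟩ := hm
  refine ⟨n + c • n', n', ?_⟩
  rw [smul_add, up_coe, up_wey, AddSubgroup.coe_add]
  abel

theorem tor_mem_B {m : A} (hm : m ∈ B K A) (s : Kˣ) : (tor s : SLK K) • m ∈ B K A := by
  obtain ⟨n, n', rfl⟩ := hm
  refine ⟨(s : K) • n, ((s⁻¹ : Kˣ) : K) • n', ?_⟩
  rw [smul_add, tor_coe, tor_wey_s, tor_coe]

theorem wey_mem_B' {m : A} (hm : m ∈ B K A) : (wey : SLK K) • m ∈ B K A := by
  obtain ⟨n, n', rfl⟩ := hm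
  refine ⟨n', n, ?_⟩
  rw [smul_add, wey_wey_s, add_comm]

theorem lo_mem_B {m : A} (hm : m ∈ B K A) (c : K) : lo c • m ∈ B K A := by
  have h : (lo c : SLK K) = wey * up c * wey := by
    rw [wey_up', mul_assoc, wey_wey', mul_one]
  rw [h, mul_smul, mul_smul]
  exact wey_mem_B' (up_mem_B (wey_mem_B' hm) c)

/-- vectors fixed modulo `B` with double in `E` -/
structure Good (v : A) : Prop where
  hB : ∀ c : K, up c • v - v ∈ B K A
  hz : v + v ∈ E K A

theorem phi_mem {v : A} (h : Good (K := K) v) (c : K) : up c • v - v ∈ E K A := by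
  by_cases hc : c = 0
  · rw [hc, up_zero, one_smul, sub_self]
    exact (E K A).zero_mem
  have h1 := h.hB c
  obtain ⟨n, n', hφ⟩ := h1
  have h2 : up c • up c • v = v := by
    rw [smul_smul, up_up, one_smul]
  have h3 : up c • (up c • v - v) = (n : A) + (wey : SLK K) • (n' : A) + ((c • n' : E K A) : A) := by
    rw [hφ, smul_add, up_coe, up_wey]
    abel
  rw [smul_sub, h2] at h3
  have h4 := two_coe n
  have h5 := wey_two n'
  have h6 : ((c • n' : E K A) : A) = 0 := by
    linear_combination (norm := abel) (-1 : ℤ) • h3 - hφ - h4 - h5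
  have h7 : c • n' = 0 := Subtype.ext h6
  have h8 : n' = 0 := by
    rcases smul_eq_zero.mp h7 with h | h
    · exact absurd h hc
    · exact h
  rw [hφ, h8]
  simp

/-- the cocycle of a good vector -/
def phi {v : A} (h : Good (K := K) v) (c : K) : E K A := ⟨up c • v - v, phi_mem h c⟩

theorem phi_coe {v : A} (h : Good (K := K) v) (c : K) : (phi h c : A) = up c • v - v := rfl

theorem up_good {v : A} (h : Good (K := K) v) (c : K) : up c • v = v + (phi h c : A) := by
  rw [phi_coe]
  abel

theorem phi_add {v : A} (h : Good (K := K) v) (c d : K) : phi h (c + d) = phi h c + phi h d := by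
  apply Subtype.ext
  rw [AddSubgroup.coe_add, phi_coe, ← up_add, mul_smul, up_good h d, smul_add, up_coe, phi_coe,
    phi_coe]
  abel

theorem phi_zero {v : A} (h : Good (K := K) v) : phi h 0 = 0 := by
  apply Subtype.ext
  rw [phi_coe, up_zero, one_smul, sub_self]
  rfl

theorem good_tor {v : A} (h : Good (K := K) v) (s : Kˣ) : Good (K := K) ((tor s : SLK K) • v) := by
  refine ⟨fun c => ?_, ?_⟩
  · have : up c • (tor s : SLK K) • v - (tor s : SLK K) • v =
        (tor s : SLK K) • (up (((s⁻¹ : Kˣ) : K) * ((s⁻¹ : Kˣ) : K) * c) • v - v) := by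
      rw [smul_sub, smul_smul, smul_smul, up_tor]
    rw [this]
    exact tor_mem_B (h.hB _) s
  · rw [← smul_add]
    exact E_tor h.hz s

theorem phi_tor {v : A} (h : Good (K := K) v) (s : Kˣ) (c : K) :
    phi (good_tor h s) c = (s : K) • phi h (((s⁻¹ : Kˣ) : K) * ((s⁻¹ : Kˣ) : K) * c) := by
  apply Subtype.ext
  rw [phi_coe, ← tor_coe, phi_coe, smul_sub, smul_smul, smul_smul, up_tor]


theorem two_E (n : E K A) : n + n = 0 := Subtype.ext (two_coe n)

theorem E3 {v' : A} (h : Good (K := K) v') (a : Kˣ) :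
    (tor a : SLK K) • v' + up (1 : K) • lo (1 : K) • v' + up ((a : K) + 1) • lo (1 : K) • v'
      + (((a : K) • phi h 1 : E K A) : A) + (wey : SLK K) • (phi h ((a⁻¹ : Kˣ) : K) : A) = 0 := by
  have hv := good_tor h a
  set ξ : A := lo (1 : K) • v' with hξ
  set v : A := (tor a : SLK K) • v' with hvdef
  set f : E K A := phi hv ((a : K) * a + a) with hf
  set g : E K A := phi hv (a : K) with hg
  have haa : (a : K) ≠ 0 := a.ne_zero
  have hinv : ((a⁻¹ : Kˣ) : K) = (a : K)⁻¹ := Units.val_inv_eq_inv_val a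
  have hT0 := (hF.out : HT K A) a v
  have h0 : lo ((a⁻¹ : Kˣ) : K) • (up ((a : K) * a + a) • v) = up ((a : K) + 1) • ξ := by
    have := congrArg (fun x : SLK K => x • v) (bruh a)
    simp only [mul_smul] at this
    rw [this, hvdef, smul_smul (tor a⁻¹) (tor a), tor_mul, inv_mul_cancel, tor_one, one_smul]
  rw [up_good hv, smul_add, lo_coe, ← hf] at h0
  set F1 : A := (wey : SLK K) • (((((a⁻¹ : Kˣ) : K) • f : E K A) : E K A) : A) with hF1
  set G1 : A := (wey : SLK K) • (((((a⁻¹ : Kˣ) : K) • g : E K A) : E K A) : A) with hG1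
  set L : A := lo ((a⁻¹ : Kˣ) : K) • v with hL
  have hinvsm : ∀ y : E K A, (a : K) • (((a⁻¹ : Kˣ) : K) • y) = y := by
    intro y
    rw [smul_smul, hinv, mul_inv_cancel₀ haa, one_smul]
  have e1 : up (a : K) • up ((a : K) + 1) • ξ = up (1 : K) • ξ := by
    rw [smul_smul, up_add]
    have : (a : K) + ((a : K) + 1) = 1 := by
      rw [← add_assoc, CharTwo.add_self_eq_zero, zero_add]
    rw [this]
  have h2 : up (a : K) • L + ((f : A) + (F1 + (f : A))) = up (1 : K) • ξ := by
    have h3 := congrArg (fun x : A => up (a : K) • x) h0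
    simp only [smul_add, up_coe] at h3
    rw [hF1, up_wey, hinvsm, e1] at h3
    exact h3
  have h3 : lo ((a⁻¹ : Kˣ) : K) • up (a : K) • v = L + ((g : A) + G1) := by
    rw [up_good hv (a : K), smul_add, lo_coe]
  rw [h3] at hT0
  have h4 : f + g = (a : K) • phi h 1 := by
    rw [hf, hg, phi_tor h a, phi_tor h a, ← smul_add, ← phi_add h]
    congr 2
    rw [hinv]
    have h52 : (2 : K) = 0 := CharTwo.two_eq_zero
    field_simp
    linear_combination (1 : K) * h52
  have h5 : ((a⁻¹ : Kˣ) : K) • g = phi h ((a⁻¹ : Kˣ) : K) := by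
    have e : ((a⁻¹ : Kˣ) : K) * ((a⁻¹ : Kˣ) : K) * a = ((a⁻¹ : Kˣ) : K) := by
      rw [hinv]
      field_simp
    rw [hg, phi_tor h a, e, smul_smul, hinv, inv_mul_cancel₀ haa, one_smul]
  have h6 : (((a : K) • phi h 1 : E K A) : A) = (f : A) + (g : A) := by
    rw [← h4]; rfl
  rw [h6, ← h5, ← hG1]
  have t1 := two_coe f
  have t2 := wey_two (((a⁻¹ : Kˣ) : K) • f)
  rw [← hF1] at t2
  linear_combination (norm := abel) hT0 - h2 - h0 + (2 : ℤ) • t1 + t2


theorem E31 {v' : A} (h : Good (K := K) v') :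
    v' + up (1 : K) • lo (1 : K) • v' + lo (1 : K) • v' + (phi h 1 : A)
      + (wey : SLK K) • (phi h 1 : A) = 0 := by
  have := E3 h 1
  simpa [tor_one, CharTwo.add_self_eq_zero, up_zero] using this

/-- the coefficient identity from the relation `u₁ u_c = u_c u₁` -/
theorem R1 {v' : A} (h : Good (K := K) v') (a : Kˣ) :
    ((a : K) + 1) • (⟨v' + v', h.hz⟩ : E K A) + phi h ((a : K) + 1)
      + (a : K) • phi h (((a⁻¹ : Kˣ) : K) * ((a⁻¹ : Kˣ) : K)) + phi h ((a⁻¹ : Kˣ) : K)
      + ((a : K) + 1) • phi h 1 = 0 := by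
  set ξ : A := lo (1 : K) • v' with hξ
  set T : A := (tor a : SLK K) • v' with hTdef
  set U : A := up ((a : K) + 1) • ξ with hU
  set U1 : A := up (1 : K) • ξ with hU1
  set P : E K A := phi h 1 with hP
  set Q : E K A := phi h ((a⁻¹ : Kˣ) : K) with hQ
  have e3 : T + U1 + U + (((a : K) • P : E K A) : A) + (wey : SLK K) • (Q : A) = 0 := E3 h a
  have e1 : v' + U1 + ξ + (P : A) + (wey : SLK K) • (P : A) = 0 := E31 h
  have comm : up ((a : K) + 1) • U1 = up (1 : K) • U := by
    calc up ((a : K) + 1) • up (1 : K) • ξ = (up ((a : K) + 1) * up (1 : K) : SLK K) • ξ :=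
          (mul_smul _ _ _).symm
      _ = (up (1 : K) * up ((a : K) + 1) : SLK K) • ξ := by rw [up_add, up_add, add_comm]
      _ = up (1 : K) • up ((a : K) + 1) • ξ := mul_smul _ _ _
  have hU11 : up (1 : K) • U1 = ξ := by
    calc up (1 : K) • up (1 : K) • ξ = (up (1 : K) * up (1 : K) : SLK K) • ξ :=
          (mul_smul _ _ _).symm
      _ = ξ := by rw [up_up, one_smul]
  -- expand `up (a+1)` on `e1`, and `up 1` on `e3`
  have e1' := congrArg (fun x : A => up ((a : K) + 1) • x) e1
  have e3' := congrArg (fun x : A => up (1 : K) • x) e3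
  simp only [smul_add, smul_zero] at e1' e3'
  rw [← hU, comm, up_coe, up_wey, up_good h ((a : K) + 1)] at e1'
  set R : E K A := (a : K) • phi h (((a⁻¹ : Kˣ) : K) * ((a⁻¹ : Kˣ) : K)) with hR
  have hup1T : up (1 : K) • T = T + (R : A) := by
    rw [hTdef, up_good (good_tor h a) 1, phi_tor h a, mul_one]
  rw [up_coe, up_wey, hup1T, hU11, one_smul] at e3'
  set Z : E K A := ⟨v' + v', h.hz⟩ with hZ
  have hZc : (Z : A) = v' + v' := rfl
  have hT2 : T + T = (((a : K) • Z : E K A) : A) := by
    rw [← tor_coe, hZc, smul_add]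
  have hsplit : ((a : K) + 1) • Z = (a : K) • Z + Z := by
    rw [add_smul, one_smul]
  rw [hsplit]
  apply Subtype.ext
  simp only [AddSubgroup.coe_add, ← hQ, ← hP, AddSubgroup.coe_zero]
  rw [← hT2, hZc]
  have t1 : (T + T) + (T + T) = 0 := by
    rw [hT2]; exact two_coe _
  have t2 := two_coe R
  have t3 := two_coe Q
  have t4 := two_coe P
  have t5 := wey_two P
  have t6 := two_coe ((a : K) • P)
  have t7 := wey_two Q
  linear_combination (norm := abel) e1' - e3' - e3 + e1 + t1 + t2 + t3 - t4 - t5 + t6 + t7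


theorem D_mem_B {v' : A} (h : Good (K := K) v') (a b : Kˣ) (hab : (b : K) = (a : K) + 1) :
    (tor a : SLK K) • v' - (tor b : SLK K) • v' - v' ∈ B K A := by
  set ξ : A := lo (1 : K) • v' with hξ
  set P : E K A := phi h 1 with hP
  set Qa : E K A := phi h ((a⁻¹ : Kˣ) : K) with hQa
  set Qb : E K A := phi h ((b⁻¹ : Kˣ) : K) with hQb
  have ea := E3 h a
  have eb := E3 h b
  have e1 := E31 h
  have hb1 : (b : K) + 1 = a := by
    rw [hab, add_assoc, CharTwo.add_self_eq_zero, add_zero]
  rw [hb1] at eb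
  simp only [← hξ, ← hP, ← hQa, ← hQb] at ea eb e1
  have hUa : up ((a : K) + 1) • ξ = up (1 : K) • up (a : K) • ξ := by
    rw [← mul_smul (up (1 : K)) (up (a : K)) ξ, up_add, add_comm]
  have hU11 : up (1 : K) • up (1 : K) • ξ = ξ := by
    rw [← mul_smul (up (1 : K)) (up (1 : K)) ξ, up_up, one_smul]
  set R : E K A := (b : K) • phi h (((b⁻¹ : Kˣ) : K) * ((b⁻¹ : Kˣ) : K)) with hR
  have hup1T : up (1 : K) • ((tor b : SLK K) • v') = (tor b : SLK K) • v' + (R : A) := by
    rw [up_good (good_tor h b) 1, phi_tor h b, mul_one]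
  have eb' := congrArg (fun x : A => up (1 : K) • x) eb
  simp only [smul_add, smul_zero] at eb'
  rw [up_coe, up_wey, hup1T, hU11, ← hUa, one_smul] at eb'
  have hD : (tor a : SLK K) • v' - (tor b : SLK K) • v' - v' =
      (ξ + ξ) - ((((a : K) • P : E K A) : A)) - (wey : SLK K) • (Qa : A) + (R : A)
        + (((b : K) • P : E K A) : A) + (wey : SLK K) • (Qb : A) + (Qb : A) + (P : A)
        + (wey : SLK K) • (P : A) := by
    linear_combination (norm := abel) ea - eb' - e1
  rw [hD]
  have h2z : ξ + ξ ∈ B K A := by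
    have := lo_mem_B (E_le_B (⟨_, h.hz⟩ : E K A)) (1 : K)
    rwa [smul_add] at this
  exact add_mem (add_mem (add_mem (add_mem (add_mem (add_mem (sub_mem (sub_mem h2z (E_le_B _))
    (wey_mem_B _)) (E_le_B _)) (E_le_B _)) (wey_mem_B _)) (E_le_B _)) (E_le_B _)) (wey_mem_B _)

theorem Y3 {v' : A} (h : Good (K := K) v') (a b : Kˣ) (hab : (b : K) = (a : K) + 1) :
    ∃ β : E K A, ∀ c : K, c • β = phi h c
      + (a : K) • phi h (((a⁻¹ : Kˣ) : K) * ((a⁻¹ : Kˣ) : K) * c)
      + (b : K) • phi h (((b⁻¹ : Kˣ) : K) * ((b⁻¹ : Kˣ) : K) * c) := by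
  obtain ⟨n₀, β, hD⟩ := D_mem_B h a b hab
  refine ⟨β, fun c => ?_⟩
  have h1 := congrArg (fun x : A => up c • x) hD
  simp only [smul_sub, smul_add] at h1
  rw [up_coe, up_wey, up_good (good_tor h a) c, up_good (good_tor h b) c, up_good h c,
    phi_tor h a, phi_tor h b] at h1
  apply Subtype.ext
  simp only [AddSubgroup.coe_add]
  set X : E K A := (a : K) • phi h (((a⁻¹ : Kˣ) : K) * ((a⁻¹ : Kˣ) : K) * c)
  set Y : E K A := (b : K) • phi h (((b⁻¹ : Kˣ) : K) * ((b⁻¹ : Kˣ) : K) * c)
  have t3 := two_coe Y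
  have t2 := two_coe (phi h c)
  linear_combination (norm := abel) (-1 : ℤ) • h1 + hD - t2 - t3


theorem key {v' : A} (h : Good (K := K) v') (hsq : ∀ x : K, ∃ y, y * y = x) (a b : Kˣ)
    (hab : (b : K) = (a : K) + 1) (ha1 : (a : K) ≠ 1) :
    v' + v' = 0 ∧ ∀ c : K, phi h c = c • phi h 1 := by
  obtain ⟨β, hβ⟩ := Y3 h a b hab
  set Z : E K A := ⟨v' + v', h.hz⟩ with hZ
  have main : ∀ ℓ : Module.Dual K (E K A), ℓ Z = 0 ∧ ∀ c, ℓ (phi h c) = c * ℓ (phi h 1) := by
    intro ℓ
    have hinv : ((a⁻¹ : Kˣ) : K) = (a : K)⁻¹ := Units.val_inv_eq_inv_val a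
    have hinvb : ((b⁻¹ : Kˣ) : K) = (b : K)⁻¹ := Units.val_inv_eq_inv_val b
    refine scal (fun c => ℓ (phi h c)) (fun x y => by simp only [phi_add, map_add]) (ℓ Z) hsq ?_
      (a : K) (b : K) (ℓ β) a.ne_zero ha1 hab ?_
    · intro x hx
      have := congrArg ℓ (R1 h (Units.mk0 x hx))
      simp only [Units.val_mk0, map_add, map_smul, smul_eq_mul, map_zero] at this
      rw [Units.val_inv_eq_inv_val, Units.val_mk0] at this
      exact this
    · intro c
      have := congrArg ℓ (hβ c)
      simp only [map_add, map_smul, smul_eq_mul] at this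
      rw [hinv, hinvb] at this
      exact this
  constructor
  · have : Z = 0 := (Module.forall_dual_apply_eq_zero_iff K Z).mp (fun ℓ => (main ℓ).1)
    exact congrArg Subtype.val this
  · intro c
    rw [← sub_eq_zero]
    apply (Module.forall_dual_apply_eq_zero_iff K _).mp
    intro ℓ
    rw [map_sub, map_smul, smul_eq_mul, (main ℓ).2 c, sub_self]

/-- Under `HT`, a finite module of exponent dividing four is `E + w E`. -/
theorem main [Finite A] [Finite K] (h4 : ∀ m : A, (m + m) + (m + m) = 0)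
    (hsq : ∀ x : K, ∃ y, y * y = x) (g : Kˣ) (hg1 : (g : K) ≠ 1) (m : A) : m ∈ B K A := by
  classical
  by_contra hm
  have hg2 : (g : K) + 1 ≠ 0 := by
    intro h
    apply hg1
    linear_combination h - (CharTwo.two_eq_zero : (2 : K) = 0)
  -- the fixed point argument on the quotient
  let act : K → (A ⧸ B K A) → (A ⧸ B K A) := fun c =>
    QuotientAddGroup.map (B K A) (B K A) (DistribMulAction.toAddMonoidHom A (up c : SLK K))
      (fun x hx => up_mem_B hx c)
  have act_mk : ∀ (c : K) (x : A), act c (x : A ⧸ B K A) = ((up c • x : A) : A ⧸ B K A) := by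
    intro c x
    rfl
  letI : MulAction (Multiplicative K) (A ⧸ B K A) :=
    { smul := fun c y => act (Multiplicative.toAdd c) y
      one_smul := by
        intro y
        induction y using QuotientAddGroup.induction_on with
        | H x =>
          change act 0 (x : A ⧸ B K A) = _
          rw [act_mk, up_zero, one_smul]
      mul_smul := by
        intro c d y
        induction y using QuotientAddGroup.induction_on with
        | H x =>
          change act (Multiplicative.toAdd c + Multiplicative.toAdd d) (x : A ⧸ B K A) =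
            act (Multiplicative.toAdd c) (act (Multiplicative.toAdd d) (x : A ⧸ B K A))
          rw [act_mk, act_mk, act_mk, ← up_add, mul_smul] }
  have hP : IsPGroup 2 (Multiplicative K) := by
    intro c
    refine ⟨1, ?_⟩
    rw [pow_one, pow_two]
    exact CharTwo.add_self_eq_zero (Multiplicative.toAdd c)
  haveI : Fact (Nat.Prime 2) := ⟨Nat.prime_two⟩
  have hnt : Nontrivial (A ⧸ B K A) := by
    refine ⟨⟨(m : A ⧸ B K A), 0, ?_⟩⟩
    intro h
    exact hm ((QuotientAddGroup.eq_zero_iff m).mp h)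
  have hdvd : 2 ∣ Nat.card (A ⧸ B K A) := by
    have hq : IsPGroup 2 (Multiplicative (A ⧸ B K A)) := by
      intro y
      refine ⟨2, ?_⟩
      induction y using Multiplicative.rec with
      | ofAdd y =>
        induction y using QuotientAddGroup.induction_on with
        | H x =>
          have h1 : ((x : A ⧸ B K A) + x) + ((x : A ⧸ B K A) + x) = 0 := by
            have := congrArg (fun t : A => (t : A ⧸ B K A)) (h4 x)
            simpa using this
          have h2 : (2 ^ 2 : ℕ) • (x : A ⧸ B K A) = 0 := by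
            have e : (2 ^ 2 : ℕ) • (x : A ⧸ B K A) =
                ((x : A ⧸ B K A) + x) + ((x : A ⧸ B K A) + x) := by
              abel
            rw [e, h1]
          rw [← ofAdd_nsmul, h2]
          rfl
    have : Nontrivial (Multiplicative (A ⧸ B K A)) := inferInstanceAs (Nontrivial (A ⧸ B K A))
    obtain ⟨n, hn0, hn⟩ := hq.nontrivial_iff_card.mp inferInstance
    have hc : Nat.card (Multiplicative (A ⧸ B K A)) = Nat.card (A ⧸ B K A) := rfl
    rw [← hc, hn]
    exact dvd_pow_self _ (ne_of_gt hn0)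
  obtain ⟨b, hb, hne⟩ := hP.exists_fixed_point_of_prime_dvd_card_of_fixed_point (A ⧸ B K A) hdvd
    (a := 0) (by
      intro c
      change act _ (0 : A ⧸ B K A) = 0
      exact map_zero _)
  induction b using QuotientAddGroup.induction_on with
  | H x =>
    have hfix : ∀ c : K, up c • x - x ∈ B K A := by
      intro c
      have := hb (Multiplicative.ofAdd c)
      change act c (x : A ⧸ B K A) = x at this
      rw [act_mk] at this
      have h3 := (QuotientAddGroup.eq_iff_sub_mem).mp this
      exact h3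
    have hgood : Good (K := K) x := by
      refine ⟨hfix, ?_, h4 x⟩
      intro c
      have h5 := B_two (hfix c)
      rw [smul_add]
      linear_combination (norm := abel) h5
    obtain ⟨k1, k2⟩ := key hgood hsq g (Units.mk0 _ hg2) (by simp) hg1
    apply hne
    change _ = ((x : A) : A ⧸ B K A)
    symm
    rw [QuotientAddGroup.eq_zero_iff]
    -- `x + w φ₁` is in `E`
    set P : E K A := phi hgood 1 with hP
    have hy : x + (wey : SLK K) • (P : A) ∈ E K A := by
      refine ⟨fun c => ?_, ?_⟩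
      · rw [smul_add, up_good hgood c, up_wey, k2 c]
        have := two_coe (c • P)
        linear_combination (norm := abel) this
      · have := wey_two P
        linear_combination (norm := abel) k1 + this
    refine ⟨⟨_, hy⟩, P, ?_⟩
    have := wey_two P
    change x = x + (wey : SLK K) • (P : A) + (wey : SLK K) • (P : A)
    linear_combination (norm := abel) (-1 : ℤ) • this


/-- Two modules with an equivariant symmetric biadditive map: the map vanishes. -/
theorem pairing {A₂ : Type*} [AddCommGroup A₂] [DistribMulAction (SLK K) A₂] [hF₂ : Fact (HT K A₂)]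
    (h1 : ∀ m : A, m ∈ B K A) (h2 : ∀ m : A₂, m ∈ B K A₂) (g : Kˣ) (hg1 : (g : K) ≠ 1)
    (c : A → A → A₂) (cadd : ∀ m m' m'', c m (m' + m'') = c m m' + c m m'')
    (csymm : ∀ m m', c m m' = c m' m)
    (cequi : ∀ (s : SLK K) (m m' : A), c (s • m) (s • m') = s • c m m') (m m' : A) :
    c m m' = 0 := by
  have hg2 : (g : K) + 1 ≠ 0 := by
    intro h
    apply hg1
    linear_combination h - (CharTwo.two_eq_zero : (2 : K) = 0)
  have hA2 : ∀ x : A₂, x + x = 0 := fun x => B_two (h2 x)
  have hfix : ∀ n n' : E K A, c n n' ∈ E K A₂ := by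
    intro n n'
    refine ⟨fun x => ?_, hA2 _⟩
    rw [← cequi, up_coe, up_coe]
  let cE : E K A → E K A → E K A₂ := fun n n' => ⟨c n n', hfix n n'⟩
  have hcE : ∀ n n', ((cE n n' : E K A₂) : A₂) = c n n' := fun _ _ => rfl
  -- linearity in the second variable
  have hlin : ∀ (n n' : E K A) (a : K), c n ((a • n' : E K A) : A) = ((a • cE n n' : E K A₂) : A₂) := by
    intro n n' a
    obtain ⟨z₀, z₁, hz⟩ := h2 (c n ((wey : SLK K) • (n' : A)))
    have e : ∀ b : K, c n ((b • n' : E K A) : A) = ((b • z₁ : E K A₂) : A₂) := by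
      intro b
      have h3 := cequi (up b) n ((wey : SLK K) • (n' : A))
      rw [up_coe, up_wey, cadd, hz, smul_add, up_coe, up_wey] at h3
      linear_combination (norm := abel) h3
    have e1 : cE n n' = z₁ := by
      apply Subtype.ext
      have := e 1
      rw [one_smul, one_smul] at this
      exact this
    rw [e a, e1]
  have hlin' : ∀ (n n' : E K A) (a : K), c ((a • n : E K A) : A) n' = ((a • cE n n' : E K A₂) : A₂) := by
    intro n n' a
    rw [csymm, hlin]
    congr 2
    apply Subtype.ext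
    exact csymm _ _
  -- vanishing on the fixed points
  have hzero : ∀ n n' : E K A, c n n' = 0 := by
    intro n n'
    have h3 := cequi (tor g) n n'
    rw [tor_coe, tor_coe, hlin'] at h3
    have e : cE n ((g : K) • n') = (g : K) • cE n n' := Subtype.ext (hlin n n' g)
    have e2 : (tor g : SLK K) • c n n' = (((g : K) • cE n n' : E K A₂) : A₂) := tor_coe g (cE n n')
    rw [e, e2] at h3
    have h4 : ((g : K) * g + g) • cE n n' = 0 := by
      apply Subtype.ext
      rw [add_smul, mul_smul, AddSubgroup.coe_add]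
      change (((g : K) • (g : K) • cE n n' : E K A₂) : A₂) + _ = 0
      rw [h3]
      exact two_coe _
    have h5 : (g : K) * g + g ≠ 0 := by
      have : (g : K) * g + g = g * ((g : K) + 1) := by ring
      rw [this]
      exact mul_ne_zero g.ne_zero hg2
    have h6 := (smul_eq_zero.mp h4).resolve_left h5
    exact congrArg Subtype.val h6
  -- mixed vanishing
  have hE : ∀ n n' : E K A, c n ((wey : SLK K) • (n' : A)) ∈ E K A₂ := by
    intro n n'
    obtain ⟨z₀, z₁, hz⟩ := h2 (c n ((wey : SLK K) • (n' : A)))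
    have e1 : (z₁ : A₂) = 0 := by
      have h3 := cequi (up (1 : K)) n ((wey : SLK K) • (n' : A))
      rw [up_coe, up_wey, cadd, hz, smul_add, up_coe, up_wey, one_smul, one_smul, hzero] at h3
      linear_combination (norm := abel) (-1 : ℤ) • h3
    have hz1 : z₁ = 0 := Subtype.ext e1
    rw [hz, hz1]
    simpa using z₀.2
  have hmix : ∀ n n' : E K A, c n ((wey : SLK K) • (n' : A)) = 0 := by
    intro n n'
    have h3 := cequi (wey : SLK K) n ((wey : SLK K) • (n' : A))
    rw [wey_wey_s, csymm] at h3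
    have h4 := eq_zero_of_eq_wey (⟨_, hE n' n⟩ : E K A₂) (⟨_, hE n n'⟩ : E K A₂) h3
    have h5 : c n' ((wey : SLK K) • (n : A)) = 0 := congrArg Subtype.val h4
    rw [h5] at h3
    exact wey_inj (K := K) h3.symm
  have cadd' : ∀ x y z, c (x + y) z = c x z + c y z := by
    intro x y z
    rw [csymm, cadd, csymm z x, csymm z y]
  obtain ⟨n₁, n₁', rfl⟩ := h1 m
  obtain ⟨n₂, n₂', rfl⟩ := h1 m'
  rw [cadd', cadd, cadd, hzero, hmix, csymm ((wey : SLK K) • (n₁' : A)) (n₂ : A), hmix,
    cequi, hzero, smul_zero]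
  simp

end main

end Cfsg.Agent.Lib.H73SL2A
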