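import Mathlib
import Cfsg.Agent.Lib.H73SL2A
import Cfsg.Agent.Lib.SL2Core

/-!
Group level: sections of a normal `2`-subgroup `Q` of `G`, `G/Q ≅ SL₂(K)`, as modules for `SL₂(K)`.
-/

set_option autoImplicit false
set_option linter.unusedSectionVars false
set_option linter.unusedVariables false

namespace Cfsg.Agent.Lib.H73SL2B

open Cfsg.Agent.Lib.SL2NaturalModule Cfsg.Agent.Lib.H73SL2A
open scoped IsMulCommutative commutatorElement

variable {K : Type*} [Field K] [CharP K 2]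

section Act

variable {Γ : Type*} [Group Γ] {P : Subgroup Γ} [P.Normal] (e : Γ ⧸ P ≃* SLK K)
  (N : Subgroup Γ) [N.Normal]

/-- action by conjugation -/
def conjHom (hPN : ∀ p ∈ P, ∀ n ∈ N, p * n * p⁻¹ = n) : SLK K →* MulAut N :=
  (QuotientGroup.lift P (MulAut.conjNormal : Γ →* MulAut N) (fun p hp => by
    ext n
    simp [hPN p hp n n.2])).comp e.symm.toMonoidHom

theorem conjHom_mk (hPN : ∀ p ∈ P, ∀ n ∈ N, p * n * p⁻¹ = n) (g : Γ) (n : N) :
    ((conjHom e N hPN (e (g : Γ ⧸ P)) n : N) : Γ) = g * n * g⁻¹ := by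
  simp only [conjHom, MonoidHom.comp_apply, MulEquiv.coe_toMonoidHom, MulEquiv.symm_apply_apply]
  exact MulAut.conjNormal_apply g n

variable [IsMulCommutative N]

/-- the module attached to an abelian normal subgroup -/
@[reducible] def secAct (hPN : ∀ p ∈ P, ∀ n ∈ N, p * n * p⁻¹ = n) :
    DistribMulAction (SLK K) (Additive N) where
  smul s m := Additive.ofMul (conjHom e N hPN s (Additive.toMul m))
  one_smul m := by
    change Additive.ofMul (conjHom e N hPN 1 (Additive.toMul m)) = m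
    rw [map_one]
    rfl
  mul_smul s t m := by
    change Additive.ofMul (conjHom e N hPN (s * t) (Additive.toMul m)) =
      Additive.ofMul (conjHom e N hPN s (conjHom e N hPN t (Additive.toMul m)))
    rw [map_mul]
    rfl
  smul_zero s := by
    change Additive.ofMul (conjHom e N hPN s 1) = 0
    rw [map_one]
    rfl
  smul_add s m m' := by
    change Additive.ofMul (conjHom e N hPN s (Additive.toMul m * Additive.toMul m')) = _
    rw [map_mul]
    rfl

/-- the order three elements -/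
def CondT (e : Γ ⧸ P ≃* SLK K) : Prop :=
  ∀ a : Kˣ, ∃ t : Γ, t ^ 3 = 1 ∧ e (t : Γ ⧸ P) = up (a : K) * lo ((a⁻¹ : Kˣ) : K) ∧
    ∀ q ∈ P, t * q * t⁻¹ = q → q = 1

theorem secAct_mk (hPN : ∀ p ∈ P, ∀ n ∈ N, p * n * p⁻¹ = n) (g : Γ) (m : Additive N) :
    (((secAct e N hPN).toSMul.smul (e (g : Γ ⧸ P)) m : Additive N).toMul : Γ) =
      g * (m.toMul : Γ) * g⁻¹ :=
  conjHom_mk e N hPN g m.toMul

theorem HT_sec (hC : CondT e) (hNP : N ≤ P) (hPN : ∀ p ∈ P, ∀ n ∈ N, p * n * p⁻¹ = n) :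
    letI := secAct e N hPN
    HT K (Additive N) := by
  letI := secAct e N hPN
  intro a m
  obtain ⟨t, ht3, hte, hfix⟩ := hC a
  set τ : SLK K := up (a : K) * lo ((a⁻¹ : Kˣ) : K) with hτ
  have hs : ∀ (g : Γ) (m : Additive N), (((e (g : Γ ⧸ P)) • m : Additive N).toMul : Γ) =
      g * (m.toMul : Γ) * g⁻¹ := secAct_mk e N hPN
  have hττ : (e ((t * t : Γ) : Γ ⧸ P)) = lo ((a⁻¹ : Kˣ) : K) * up (a : K) := by
    have h1 : τ * τ * τ = 1 := by
      have : e ((t ^ 3 : Γ) : Γ ⧸ P) = 1 := by rw [ht3]; simp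
      rw [pow_three, QuotientGroup.mk_mul, QuotientGroup.mk_mul, map_mul, map_mul, hte] at this
      rw [mul_assoc]
      exact this
    have h2 : τ * τ = τ⁻¹ := eq_inv_of_mul_eq_one_left h1
    have h3 : τ⁻¹ = lo ((a⁻¹ : Kˣ) : K) * up (a : K) := by
      apply inv_eq_of_mul_eq_one_right
      rw [hτ, mul_assoc, ← mul_assoc (lo _) (lo _), lo_lo, one_mul, up_up]
    rw [QuotientGroup.mk_mul, map_mul, hte, h2, h3]
  have h1 : up (a : K) • lo ((a⁻¹ : Kˣ) : K) • m = (e (t : Γ ⧸ P)) • m := by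
    rw [hte, mul_smul]
  have h2 : lo ((a⁻¹ : Kˣ) : K) • up (a : K) • m = (e ((t * t : Γ) : Γ ⧸ P)) • m := by
    rw [hττ, mul_smul]
  rw [h1, h2]
  set y : Additive N := m + (e (t : Γ ⧸ P)) • m + (e ((t * t : Γ) : Γ ⧸ P)) • m with hy
  have hty : (e (t : Γ ⧸ P)) • y = y := by
    have h3 : (e (t : Γ ⧸ P)) • (e ((t * t : Γ) : Γ ⧸ P)) • m = m := by
      rw [← mul_smul, ← map_mul, ← QuotientGroup.mk_mul]
      have : t * (t * t) = 1 := by
        rw [← ht3, pow_three]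
      rw [this]
      simp
    have h4 : (e (t : Γ ⧸ P)) • (e (t : Γ ⧸ P)) • m = (e ((t * t : Γ) : Γ ⧸ P)) • m := by
      rw [← mul_smul, ← map_mul, ← QuotientGroup.mk_mul]
    rw [hy, smul_add, smul_add, h3, h4]
    abel
  have h5 : ((y.toMul : N) : Γ) = 1 := by
    apply hfix _ (hNP y.toMul.2)
    have := hs t y
    rw [hty] at this
    exact this.symm
  have : y.toMul = 1 := Subtype.ext h5
  exact this

end Act

section Cond

variable {G : Type*} [Group G] {Q : Subgroup G} [Q.Normal] (e : G ⧸ Q ≃* SLK K)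

/-- lifts a fixed coset to a fixed element -/
theorem exists_fix_coset [Finite G] (R : Subgroup G) [R.Normal] (hR : IsPGroup 2 R) (t q : G)
    (ht : t ^ 3 = 1) (hq : q⁻¹ * (t * q * t⁻¹) ∈ R) : ∃ r ∈ R, t * (q * r) * t⁻¹ = q * r := by
  classical
  haveI : Fact (Nat.Prime 3) := ⟨Nat.prime_three⟩
  haveI : Fact (Nat.Prime 2) := ⟨Nat.prime_two⟩
  haveI : Fintype R := Fintype.ofFinite R
  set c : R := ⟨_, hq⟩ with hc
  let σ : Equiv.Perm R := (MulAut.conjNormal t : MulAut R).toEquiv.trans (Equiv.mulLeft c)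
  have hf1 : ∀ r : R, ((σ r : R) : G) = q⁻¹ * (t * (q * r) * t⁻¹) := by
    intro r
    change q⁻¹ * (t * q * t⁻¹) * (((MulAut.conjNormal t : MulAut R) r : R) : G) = _
    rw [MulAut.conjNormal_apply]
    group
  have hf3 : σ ^ 3 ^ 1 = 1 := by
    ext r
    change (((σ (σ (σ r))) : R) : G) = r
    rw [hf1, hf1, hf1]
    have h1 : t * t * t = 1 := by rw [← pow_three', ht]
    have h2 : t⁻¹ * t⁻¹ * t⁻¹ = 1 := by
      rw [← mul_inv_rev, ← mul_inv_rev, ← mul_assoc, h1, inv_one]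
    calc q⁻¹ * (t * (q * (q⁻¹ * (t * (q * (q⁻¹ * (t * (q * ↑r) * t⁻¹))) * t⁻¹))) * t⁻¹)
        = q⁻¹ * ((t * t * t) * (q * ↑r) * (t⁻¹ * t⁻¹ * t⁻¹)) := by group
      _ = r := by rw [h1, h2]; group
  have hcard : ¬ 3 ∣ Fintype.card R := by
    obtain ⟨n, hn⟩ := IsPGroup.iff_card.mp hR
    rw [← Nat.card_eq_fintype_card, hn]
    intro h
    have := Nat.Prime.dvd_of_dvd_pow Nat.prime_three h
    omega
  obtain ⟨r, hr⟩ := Equiv.Perm.exists_fixed_point_of_prime hcard hf3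
  refine ⟨r, r.2, ?_⟩
  have h := hf1 r
  rw [hr] at h
  rw [eq_inv_mul_iff_mul_eq] at h
  exact h.symm

theorem cond_quot [Finite G] (hC : CondT e) (hQ : IsPGroup 2 Q) (R : Subgroup G) [R.Normal]
    (hRQ : R ≤ Q) :
    CondT (P := Q.map (QuotientGroup.mk' R))
      ((QuotientGroup.quotientQuotientEquivQuotient R Q hRQ).trans e) := by
  intro a
  obtain ⟨t, ht3, hte, hfix⟩ := hC a
  refine ⟨(t : G ⧸ R), ?_, ?_, ?_⟩
  · rw [← QuotientGroup.mk_pow, ht3]
    rfl
  · exact hte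
  · rintro _ ⟨q, hq, rfl⟩ hfx
    have hR2 : IsPGroup 2 R := hQ.to_le hRQ
    have h1 : q⁻¹ * (t * q * t⁻¹) ∈ R := by
      rw [← QuotientGroup.eq]
      simpa using hfx.symm
    obtain ⟨r, hr, hr2⟩ := exists_fix_coset R hR2 t q ht3 h1
    have h2 := hfix (q * r) (Q.mul_mem hq (hRQ hr)) hr2
    have h3 : q ∈ R := by
      have : q = r⁻¹ := eq_inv_of_mul_eq_one_left h2
      rw [this]
      exact R.inv_mem hr
    exact (QuotientGroup.eq_one_iff q).mpr h3

open Cfsg.Agent.Lib.SL2Core in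
theorem not_center_of_ne (A : SLK K) (h1 : A ≠ 1) : A ∉ Subgroup.center (SLK K) := by
  intro hc
  rcases center_eq A hc with h | h
  · exact h1 h
  · apply h1
    rw [h]
    apply Subtype.ext
    ext i j
    simp [CharTwo.neg_eq]

open Cfsg.Agent.Lib.SL2Core in
/-- an element of order three in `SL₂(K)` has trace one -/
theorem tr_of_cube (A : SLK K) (h3 : A ^ 3 = 1) (h1 : A ≠ 1) : tr A = 1 := by
  by_contra hτ
  set τ : K := tr A with hτdef
  have h2 : (2 : K) = 0 := CharTwo.two_eq_zero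
  have hne : τ + 1 ≠ 0 := by
    intro h
    apply hτ
    linear_combination h - h2
  set M : Matrix (Fin 2) (Fin 2) K := (A : Matrix (Fin 2) (Fin 2) K) with hM
  have hc : M * M = τ • M - 1 := cayley A
  have hM3 : M * M * M = 1 := by
    have := congrArg (fun B : SLK K => (B : Matrix (Fin 2) (Fin 2) K)) h3
    simpa [pow_succ, Matrix.SpecialLinearGroup.coe_mul] using this
  have e : (τ * τ - 1) • M = (1 + τ) • (1 : Matrix (Fin 2) (Fin 2) K) := by
    rw [hc, Matrix.sub_mul, Matrix.smul_mul, hc, Matrix.one_mul, smul_sub, smul_smul, sub_sub,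
      sub_eq_iff_eq_add] at hM3
    rw [sub_smul, one_smul, add_smul, one_smul, hM3]
    abel
  have hne2 : τ * τ - 1 ≠ 0 := by
    have : τ * τ - 1 = (τ + 1) * (τ + 1) := by
      linear_combination (-τ - 1) * h2
    rw [this]
    exact mul_ne_zero hne hne
  have e01 := congrFun (congrFun e 0) 1
  have e10 := congrFun (congrFun e 1) 0
  have e00 := congrFun (congrFun e 0) 0
  have e11 := congrFun (congrFun e 1) 1
  simp only [Matrix.smul_apply, smul_eq_mul, Matrix.one_apply] at e01 e10 e00 e11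
  simp at e01 e10 e00 e11
  apply not_center_of_ne A h1
  rw [mem_center_iff']
  refine ⟨?_, ?_, ?_⟩
  · exact (e01.resolve_left (by simpa [sub_eq_zero] using hne2))
  · exact (e10.resolve_left (by simpa [sub_eq_zero] using hne2))
  · have := e00.trans e11.symm
    exact mul_left_cancel₀ hne2 this

open Cfsg.Agent.Lib.SL2Core in
theorem cond_of_x [Fintype K] [Finite G] (hQ : IsPGroup 2 Q) (x : G) (hx : orderOf x = 3)
    (hfpf : ∀ q ∈ Q, x * q * x⁻¹ = q → q = 1) : CondT e := by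
  intro a
  have h2 : (2 : K) = 0 := CharTwo.two_eq_zero
  set X : SLK K := e (x : G ⧸ Q) with hX
  have hX3 : X ^ 3 = 1 := by
    rw [hX, ← map_pow, ← QuotientGroup.mk_pow, ← hx, pow_orderOf_eq_one]
    simp
  have hx3 : x ^ 3 = 1 := by rw [← hx, pow_orderOf_eq_one]
  have hX1 : X ≠ 1 := by
    intro h
    have h1 : (x : G ⧸ Q) = 1 := by
      apply e.injective
      rw [map_one]
      exact h
    have hxQ : x ∈ Q := (QuotientGroup.eq_one_iff x).mp h1
    obtain ⟨k, hk⟩ := hQ ⟨x, hxQ⟩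
    have hk' : x ^ 2 ^ k = 1 := by
      have := congrArg Subtype.val hk
      simpa using this
    have := orderOf_dvd_of_pow_eq_one hk'
    rw [hx] at this
    have := Nat.Prime.dvd_of_dvd_pow Nat.prime_three this
    omega
  set T : SLK K := up (a : K) * lo ((a⁻¹ : Kˣ) : K) with hT
  have haa : (a : K) * ((a⁻¹ : Kˣ) : K) = 1 := by simp
  have hT00 : (T : Matrix (Fin 2) (Fin 2) K) 0 0 = 0 := by
    simp [hT, Matrix.SpecialLinearGroup.coe_mul, up_val, lo_val, Matrix.mul_apply,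
      Fin.sum_univ_two]
    linear_combination h2
  have hT11 : (T : Matrix (Fin 2) (Fin 2) K) 1 1 = 1 := by
    simp [hT, Matrix.SpecialLinearGroup.coe_mul, up_val, lo_val, Matrix.mul_apply,
      Fin.sum_univ_two]
  have hT1 : T ≠ 1 := by
    intro h
    rw [h] at hT00
    simp at hT00
  have htrX : tr X = 1 := tr_of_cube X hX3 hX1
  have htrT : tr T = 1 := by
    rw [tr_eq, hT00, hT11, zero_add]
  obtain ⟨U, hU⟩ := exists_conj X T (not_center_of_ne X hX1) (not_center_of_ne T hT1)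
    (htrX.trans htrT.symm) (by
      rw [htrX, mul_one]
      intro h
      have : (4 : K) = 0 := by linear_combination 2 * h2
      rw [this] at h
      exact one_ne_zero h)
  obtain ⟨g, hg⟩ := QuotientGroup.mk_surjective (e.symm U)
  have hgU : e (g : G ⧸ Q) = U := by
    rw [hg, MulEquiv.apply_symm_apply]
  refine ⟨g * x * g⁻¹, ?_, ?_, ?_⟩
  · rw [conj_pow, hx3]
    simp
  · rw [QuotientGroup.mk_mul, QuotientGroup.mk_mul, QuotientGroup.mk_inv, map_mul, map_mul,
      map_inv, hgU, ← hX, hU]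
  · intro q hq hfix
    have h1 : g⁻¹ * q * g ∈ Q := by
      have := (inferInstance : Q.Normal).conj_mem q hq g⁻¹
      simpa using this
    have h3 := hfpf _ h1 (by
      calc x * (g⁻¹ * q * g) * x⁻¹ = g⁻¹ * (g * x * g⁻¹ * q * (g * x * g⁻¹)⁻¹) * g := by group
        _ = g⁻¹ * q * g := by rw [hfix])
    have : q = g * (g⁻¹ * q * g) * g⁻¹ := by group
    rw [this, h3]
    simp

end Cond

section Step

variable {G : Type*} [Group G] {Q : Subgroup G} [Q.Normal] (e : G ⧸ Q ≃* SLK K)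

/-- commutators are unchanged by central factors -/
theorem comm_central {u v r r' : G} (h1 : r * v = v * r) (h2 : r * r' = r' * r)
    (h3 : r' * u = u * r') (h4 : r * u = u * r) (h5 : r' * v = v * r') :
    ⁅u * r, v * r'⁆ = ⁅u, v⁆ := by
  have a1 : Commute r v := h1
  have a2 : Commute r r' := h2
  have a3 : Commute r' u := h3
  have a4 : Commute r u := h4
  have a5 : Commute r' v := h5
  rw [commutatorElement_def, commutatorElement_def]
  calc u * r * (v * r') * (u * r)⁻¹ * (v * r')⁻¹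
      = u * (r * v) * r' * r⁻¹ * u⁻¹ * r'⁻¹ * v⁻¹ := by group
    _ = u * v * (r * r' * r⁻¹) * u⁻¹ * r'⁻¹ * v⁻¹ := by rw [h1]; group
    _ = u * v * r' * u⁻¹ * r'⁻¹ * v⁻¹ := by rw [h2]; group
    _ = u * v * (r' * u⁻¹) * r'⁻¹ * v⁻¹ := by group
    _ = u * v * (u⁻¹ * r') * r'⁻¹ * v⁻¹ := by rw [a3.inv_right.eq]
    _ = u * v * u⁻¹ * v⁻¹ := by group

theorem ab_step [Finite K] [Finite G] (hQ : IsPGroup 2 Q) (hC : CondT e) (R : Subgroup G) [R.Normal]
    (hRQ : R ≤ Q)
    (hRc : ∀ r ∈ R, ∀ q ∈ Q, r * q = q * r) (hR2 : ∀ r ∈ R, r * r = 1)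
    (hQ1 : ∀ x ∈ Q.map (QuotientGroup.mk' R), ∀ y ∈ Q.map (QuotientGroup.mk' R), x * y = y * x)
    (hQ2 : ∀ x ∈ Q.map (QuotientGroup.mk' R), x * x = 1)
    (hsq : ∀ x : K, ∃ y, y * y = x) (g : Kˣ) (hg1 : (g : K) ≠ 1) :
    (∀ x ∈ Q, ∀ y ∈ Q, x * y = y * x) ∧ ∀ x ∈ Q, x * x = 1 := by
  classical
  set Qb : Subgroup (G ⧸ R) := Q.map (QuotientGroup.mk' R) with hQb
  haveI hQbN : Qb.Normal := Subgroup.Normal.map inferInstance _ (QuotientGroup.mk'_surjective R)
  haveI cQb : IsMulCommutative Qb :=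
    isMulCommutative_iff.mpr fun x y => Subtype.ext (hQ1 _ x.2 _ y.2)
  haveI cR : IsMulCommutative R :=
    isMulCommutative_iff.mpr fun x y => Subtype.ext (hRc _ x.2 _ (hRQ y.2))
  set e' : (G ⧸ R) ⧸ Qb ≃* SLK K := (QuotientGroup.quotientQuotientEquivQuotient R Q hRQ).trans e
    with he'
  have hC' : CondT e' := cond_quot e hC hQ R hRQ
  have hPN₁ : ∀ p ∈ Qb, ∀ n ∈ Qb, p * n * p⁻¹ = n := by
    intro p hp n hn
    rw [hQ1 p hp n hn, mul_inv_cancel_right]
  have hPN₂ : ∀ p ∈ Q, ∀ n ∈ R, p * n * p⁻¹ = n := by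
    intro p hp n hn
    rw [← hRc n hn p hp, mul_inv_cancel_right]
  letI act₁ := secAct e' Qb hPN₁
  letI act₂ := secAct e R hPN₂
  haveI F₁ : Fact (HT K (Additive Qb)) := ⟨HT_sec e' Qb hC' le_rfl hPN₁⟩
  haveI F₂ : Fact (HT K (Additive R)) := ⟨HT_sec e R hC hRQ hPN₂⟩
  have two₁ : ∀ m : Additive Qb, m + m = 0 := by
    intro m
    have : m.toMul * m.toMul = 1 := Subtype.ext (hQ2 _ m.toMul.2)
    exact this
  have two₂ : ∀ m : Additive R, m + m = 0 := by
    intro m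
    have : m.toMul * m.toMul = 1 := Subtype.ext (hR2 _ m.toMul.2)
    exact this
  have M₁ : ∀ m : Additive Qb, m ∈ B K (Additive Qb) := fun m =>
    main (fun m => two₁ (m + m)) hsq g hg1 m
  have M₂ : ∀ m : Additive R, m ∈ B K (Additive R) := fun m =>
    main (fun m => two₂ (m + m)) hsq g hg1 m
  let cl : Q → Additive Qb := fun x => Additive.ofMul ⟨(x : G ⧸ R), ⟨x, x.2, rfl⟩⟩
  have hcl : Function.Surjective cl := by
    intro m
    obtain ⟨x, hx, hxm⟩ := m.toMul.2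
    refine ⟨⟨x, hx⟩, ?_⟩
    apply Additive.toMul.injective
    apply Subtype.ext
    exact hxm
  have hcomm : ∀ x y : Q, ⁅(x : G), (y : G)⁆ ∈ R := by
    intro x y
    apply (QuotientGroup.eq_one_iff _).mp
    have h1 : ((⁅(x : G), (y : G)⁆ : G) : G ⧸ R) = ⁅((x : G) : G ⧸ R), ((y : G) : G ⧸ R)⁆ :=
      map_commutatorElement (QuotientGroup.mk' R) _ _
    rw [h1, commutatorElement_eq_one_iff_mul_comm]
    exact hQ1 _ ⟨x, x.2, rfl⟩ _ ⟨y, y.2, rfl⟩
  let lift : Additive Qb → Q := Function.surjInv hcl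
  have hl : ∀ m, cl (lift m) = m := Function.surjInv_eq hcl
  let c : Additive Qb → Additive Qb → Additive R := fun m m' =>
    Additive.ofMul ⟨⁅(lift m : G), (lift m' : G)⁆, hcomm _ _⟩
  have hlift : ∀ x : Q, ∃ r ∈ R, ((lift (cl x) : Q) : G) = x * r := by
    intro x
    have h1 := hl (cl x)
    have h2 : (((lift (cl x) : Q) : G) : G ⧸ R) = ((x : G) : G ⧸ R) :=
      congrArg (fun m : Additive Qb => ((Additive.toMul m : Qb) : G ⧸ R)) h1
    have h3 := QuotientGroup.eq.mp h2.symm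
    exact ⟨_, h3, by group⟩
  have hspec : ∀ x y : Q, (((c (cl x) (cl y)).toMul : R) : G) = ⁅(x : G), (y : G)⁆ := by
    intro x y
    obtain ⟨r, hr, hrx⟩ := hlift x
    obtain ⟨r', hr', hry⟩ := hlift y
    change ⁅((lift (cl x) : Q) : G), ((lift (cl y) : Q) : G)⁆ = _
    rw [hrx, hry]
    exact comm_central (hRc r hr _ y.2) (hRc r hr _ (hRQ hr')) (hRc r' hr' _ x.2)
      (hRc r hr _ x.2) (hRc r' hr' _ y.2)
  have cext : ∀ u v : Additive R, ((u.toMul : R) : G) = ((v.toMul : R) : G) → u = v := by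
    intro u v h
    apply Additive.toMul.injective
    exact Subtype.ext h
  have cadd : ∀ m m' m'', c m (m' + m'') = c m m' + c m m'' := by
    intro m m' m''
    obtain ⟨x, rfl⟩ := hcl m
    obtain ⟨y, rfl⟩ := hcl m'
    obtain ⟨z, rfl⟩ := hcl m''
    apply cext
    have hyz : cl y + cl z = cl (y * z) := rfl
    rw [hyz]
    change (((c (cl x) (cl (y * z))).toMul : R) : G) =
      (((c (cl x) (cl y)).toMul : R) : G) * (((c (cl x) (cl z)).toMul : R) : G)
    rw [hspec, hspec, hspec]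
    have h1 := hRc _ (hcomm x z) _ y.2
    push_cast
    calc ⁅(x : G), (y : G) * z⁆ = ⁅(x : G), (y : G)⁆ * ((y : G) * ⁅(x : G), (z : G)⁆ * (y : G)⁻¹) := by
          simp only [commutatorElement_def]
          group
      _ = ⁅(x : G), (y : G)⁆ * ⁅(x : G), (z : G)⁆ := by
          rw [← h1, mul_inv_cancel_right]
  have csymm : ∀ m m', c m m' = c m' m := by
    intro m m'
    obtain ⟨x, rfl⟩ := hcl m
    obtain ⟨y, rfl⟩ := hcl m'
    apply cext
    rw [hspec, hspec, ← commutatorElement_inv (x : G) (y : G)]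
    exact eq_inv_of_mul_eq_one_left (hR2 _ (hcomm x y))
  have hsmul₁ : ∀ (h : G) (x : Q), (e (h : G ⧸ Q)) • cl x =
      cl ⟨h * x * h⁻¹, (inferInstance : Q.Normal).conj_mem _ x.2 h⟩ := by
    intro h x
    apply Additive.toMul.injective
    apply Subtype.ext
    exact secAct_mk e' Qb hPN₁ (h : G ⧸ R) (cl x)
  have hsmul₂ : ∀ (h : G) (m : Additive R), (((e (h : G ⧸ Q)) • m : Additive R).toMul : G) =
      h * (m.toMul : G) * h⁻¹ := fun h m => secAct_mk e R hPN₂ h m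
  have cequi : ∀ (s : SLK K) (m m' : Additive Qb), c (s • m) (s • m') = s • c m m' := by
    intro s m m'
    obtain ⟨h, rfl⟩ : ∃ h : G, e (h : G ⧸ Q) = s := by
      obtain ⟨h, hh⟩ := QuotientGroup.mk_surjective (e.symm s)
      exact ⟨h, by rw [hh, MulEquiv.apply_symm_apply]⟩
    obtain ⟨x, rfl⟩ := hcl m
    obtain ⟨y, rfl⟩ := hcl m'
    apply cext
    rw [hsmul₁, hsmul₁, hspec, hsmul₂, hspec]
    exact (conjugate_commutatorElement _ _ _).symm
  have hc0 := pairing M₁ M₂ g hg1 c cadd csymm cequi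
  have hab : ∀ x ∈ Q, ∀ y ∈ Q, x * y = y * x := by
    intro x hx y hy
    have h1 := hspec ⟨x, hx⟩ ⟨y, hy⟩
    rw [hc0] at h1
    rw [← commutatorElement_eq_one_iff_mul_comm]
    exact h1.symm
  refine ⟨hab, ?_⟩
  haveI cQ : IsMulCommutative Q :=
    isMulCommutative_iff.mpr fun x y => Subtype.ext (hab _ x.2 _ y.2)
  have hPN₃ : ∀ p ∈ Q, ∀ n ∈ Q, p * n * p⁻¹ = n := by
    intro p hp n hn
    rw [hab p hp n hn, mul_inv_cancel_right]
  letI act₃ := secAct e Q hPN₃
  haveI F₃ : Fact (HT K (Additive Q)) := ⟨HT_sec e Q hC le_rfl hPN₃⟩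
  have h4 : ∀ m : Additive Q, (m + m) + (m + m) = 0 := by
    intro m
    set x : Q := m.toMul with hx
    have h1 : (x : G) * x ∈ R := by
      apply (QuotientGroup.eq_one_iff _).mp
      exact hQ2 _ ⟨x, x.2, rfl⟩
    have : (x * x) * (x * x) = 1 := Subtype.ext (hR2 _ h1)
    exact this
  intro x hx
  have h5 := B_two (main h4 hsq g hg1 (Additive.ofMul (⟨x, hx⟩ : Q)))
  have h6 : ((⟨x, hx⟩ : Q) * (⟨x, hx⟩ : Q)) = 1 := h5
  exact congrArg Subtype.val h6

end Step

end Cfsg.Agent.Lib.H73SL2B
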