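import Mathlib
import Cfsg.Agent.Lib.H73SL2B
import Cfsg.Prelude.Def_BaumannBlocks

/-!
`Q` is elementary abelian, and a direct product of natural modules.
-/

set_option autoImplicit false
set_option linter.unusedSectionVars false
set_option linter.unusedVariables false

namespace Cfsg.Agent.Lib.H73SL2C

open Cfsg.Agent.Lib.SL2NaturalModule Cfsg.Agent.Lib.H73SL2A Cfsg.Agent.Lib.H73SL2B
open scoped IsMulCommutative commutatorElement

universe u

variable {K : Type*} [Field K] [CharP K 2]

theorem elem [Finite K] (hsq : ∀ x : K, ∃ y, y * y = x) (g : Kˣ) (hg1 : (g : K) ≠ 1) :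
    ∀ (m : ℕ) (G : Type u) [Group G] [Finite G] (Q : Subgroup G) [Q.Normal]
      (_ : IsPGroup 2 Q) (e : G ⧸ Q ≃* SLK K) (_ : CondT e), Nat.card Q = m →
      (∀ x ∈ Q, ∀ y ∈ Q, x * y = y * x) ∧ ∀ x ∈ Q, x * x = 1 := by
  intro m
  induction m using Nat.strong_induction_on with
  | _ m ih =>
    intro G _ _ Q _ hQ e hC hm
    by_cases hbot : Q = ⊥
    · subst hbot
      simp
    -- the subgroup `R`
    let R : Subgroup G :=
      { carrier := {z | z ∈ Q ∧ (∀ q ∈ Q, z * q = q * z) ∧ z * z = 1}
        mul_mem' := by
          rintro a b ⟨ha, ha1, ha2⟩ ⟨hb, hb1, hb2⟩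
          refine ⟨Q.mul_mem ha hb, ?_, ?_⟩
          · intro q hq
            rw [mul_assoc, hb1 q hq, ← mul_assoc, ha1 q hq, mul_assoc]
          · have : b * a = a * b := hb1 a ha
            calc a * b * (a * b) = a * (b * a) * b := by group
              _ = a * (a * b) * b := by rw [this]
              _ = (a * a) * (b * b) := by group
              _ = 1 := by rw [ha2, hb2, one_mul]
        one_mem' := ⟨Q.one_mem, by simp, by simp⟩
        inv_mem' := by
          rintro a ⟨ha, ha1, ha2⟩
          have h : a⁻¹ = a := inv_eq_of_mul_eq_one_left ha2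
          rw [Set.mem_setOf_eq, h]
          exact ⟨ha, ha1, ha2⟩ }
    have hR : ∀ z, z ∈ R ↔ z ∈ Q ∧ (∀ q ∈ Q, z * q = q * z) ∧ z * z = 1 := fun z => Iff.rfl
    haveI hRn : R.Normal := by
      constructor
      rintro z ⟨hz, hz1, hz2⟩ h
      refine ⟨(inferInstance : Q.Normal).conj_mem z hz h, ?_, ?_⟩
      · intro q hq
        have h1 : h⁻¹ * q * h ∈ Q := by
          have := (inferInstance : Q.Normal).conj_mem q hq h⁻¹
          simpa using this
        have h2 := hz1 _ h1
        calc h * z * h⁻¹ * q = h * (z * (h⁻¹ * q * h)) * h⁻¹ := by group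
          _ = h * (h⁻¹ * q * h * z) * h⁻¹ := by rw [h2]
          _ = q * (h * z * h⁻¹) := by group
      · calc h * z * h⁻¹ * (h * z * h⁻¹) = h * (z * z) * h⁻¹ := by group
          _ = 1 := by rw [hz2]; group
    have hRQ : R ≤ Q := fun z hz => hz.1
    -- `R` is nontrivial
    have hRne : R ≠ ⊥ := by
      haveI : Fact (Nat.Prime 2) := ⟨Nat.prime_two⟩
      haveI hnt : Nontrivial Q := (Subgroup.nontrivial_iff_ne_bot Q).mpr hbot
      haveI := hQ.center_nontrivial
      have hZ : IsPGroup 2 (Subgroup.center Q) := hQ.to_subgroup _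
      obtain ⟨k, hk0, hk⟩ := hZ.nontrivial_iff_card.mp inferInstance
      have hdvd : 2 ∣ Nat.card (Subgroup.center Q) := by
        rw [hk]
        exact dvd_pow_self _ (ne_of_gt hk0)
      obtain ⟨z, hz⟩ := exists_prime_orderOf_dvd_card' 2 hdvd
      intro h
      have hz1 : ((z : Q) : G) ∈ R := by
        refine ⟨(z : Q).2, ?_, ?_⟩
        · intro q hq
          have := Subgroup.mem_center_iff.mp z.2 ⟨q, hq⟩
          exact (congrArg Subtype.val this).symm
        · have h2 : z ^ 2 = 1 := by rw [← hz, pow_orderOf_eq_one]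
          have h3 := congrArg (fun y : Subgroup.center Q => ((y : Q) : G)) h2
          simpa [pow_two] using h3
      rw [h, Subgroup.mem_bot] at hz1
      have hz2 : z = 1 := Subtype.ext (Subtype.ext hz1)
      rw [hz2, orderOf_one] at hz
      omega
    -- the quotient
    set Qb : Subgroup (G ⧸ R) := Q.map (QuotientGroup.mk' R) with hQb
    haveI hQbN : Qb.Normal := Subgroup.Normal.map inferInstance _ (QuotientGroup.mk'_surjective R)
    have hQbp : IsPGroup 2 Qb := hQ.map _
    have hlt : Nat.card Qb < m := by
      classical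
      haveI : Fintype Q := Fintype.ofFinite Q
      haveI : Fintype Qb := Fintype.ofFinite Qb
      rw [← hm, Nat.card_eq_fintype_card, Nat.card_eq_fintype_card]
      let f : Q → Qb := fun x => ⟨((x : G) : G ⧸ R), ⟨x, x.2, rfl⟩⟩
      refine Fintype.card_lt_of_surjective_not_injective f ?_ ?_
      · rintro ⟨_, x, hx, rfl⟩
        exact ⟨⟨x, hx⟩, rfl⟩
      · intro hinj
        apply hRne
        rw [Subgroup.eq_bot_iff_forall]
        intro z hz
        have h1 : f ⟨z, hRQ hz⟩ = f 1 := by
          apply Subtype.ext
          change ((z : G) : G ⧸ R) = ((1 : G) : G ⧸ R)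
          rw [QuotientGroup.eq]
          simpa using R.inv_mem hz
        have h2 := hinj h1
        exact congrArg Subtype.val h2
    have hC' : CondT ((QuotientGroup.quotientQuotientEquivQuotient R Q hRQ).trans e) :=
      cond_quot e hC hQ R hRQ
    obtain ⟨h1, h2⟩ := ih _ hlt (G ⧸ R) Qb hQbp _ hC' rfl
    exact ab_step e hQ hC R hRQ (fun r hr q hq => hr.2.1 q hq) (fun r hr => hr.2.2) h1 h2 hsq g hg1

section Coords

variable {A : Type*} [AddCommGroup A] [DistribMulAction (SLK K) A] [hF : Fact (HT K A)]

theorem exists_coords [Finite A] (hB : ∀ m : A, m ∈ B K A) :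
    ∃ (k : ℕ) (coord : Fin k → A →+ (Fin 2 → K)),
      (∀ i (s : SLK K) (m : A), coord i (s • m) = (s : Matrix (Fin 2) (Fin 2) K).mulVec (coord i m)) ∧
      (∀ m : A, (∀ i, coord i m = 0) → m = 0) ∧
      (∀ i (v : Fin 2 → K), ∃ m : A, coord i m = v ∧ ∀ j, j ≠ i → coord j m = 0) := by
  classical
  haveI : Finite (E K A) := inferInstance
  haveI : Module.Finite K (E K A) := Module.Finite.of_finite
  let b := Module.finBasis K (E K A)
  have hsndmem : ∀ m : A, up (1 : K) • m - m ∈ E K A := by
    intro m
    obtain ⟨n, n', rfl⟩ := hB m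
    have : up (1 : K) • ((n : A) + (wey : SLK K) • (n' : A)) - ((n : A) + (wey : SLK K) • (n' : A))
        = (n' : A) := by
      rw [smul_add, up_coe, up_wey, one_smul]
      abel
    rw [this]
    exact n'.2
  let snd : A →+ E K A :=
    { toFun := fun m => ⟨up (1 : K) • m - m, hsndmem m⟩
      map_zero' := by
        apply Subtype.ext
        simp
      map_add' := by
        intro x y
        apply Subtype.ext
        simp only [AddSubgroup.coe_add, smul_add]
        abel }
  have snd_spec : ∀ n n' : E K A, snd ((n : A) + (wey : SLK K) • (n' : A)) = n' := by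
    intro n n'
    apply Subtype.ext
    change up (1 : K) • ((n : A) + (wey : SLK K) • (n' : A)) - ((n : A) + (wey : SLK K) • (n' : A))
      = (n' : A)
    rw [smul_add, up_coe, up_wey, one_smul]
    abel
  have hfstmem : ∀ m : A, m - (wey : SLK K) • (snd m : A) ∈ E K A := by
    intro m
    obtain ⟨n, n', rfl⟩ := hB m
    rw [snd_spec]
    have : (n : A) + (wey : SLK K) • (n' : A) - (wey : SLK K) • (n' : A) = n := by abel
    rw [this]
    exact n.2
  let fst : A →+ E K A :=
    { toFun := fun m => ⟨m - (wey : SLK K) • (snd m : A), hfstmem m⟩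
      map_zero' := by
        apply Subtype.ext
        simp
      map_add' := by
        intro x y
        apply Subtype.ext
        simp only [map_add, AddSubgroup.coe_add, smul_add]
        abel }
  have fst_spec : ∀ n n' : E K A, fst ((n : A) + (wey : SLK K) • (n' : A)) = n := by
    intro n n'
    apply Subtype.ext
    change ((n : A) + (wey : SLK K) • (n' : A)) -
      (wey : SLK K) • ((snd ((n : A) + (wey : SLK K) • (n' : A)) : E K A) : A) = n
    rw [snd_spec]
    abel
  have hdec : ∀ m : A, m = (fst m : A) + (wey : SLK K) • (snd m : A) := by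
    intro m
    change m = (m - (wey : SLK K) • (snd m : A)) + _
    abel
  let coord : Fin (Module.finrank K (E K A)) → A →+ (Fin 2 → K) := fun i =>
    { toFun := fun m => ![b.repr (fst m) i, b.repr (snd m) i]
      map_zero' := by
        ext j
        fin_cases j <;> simp
      map_add' := by
        intro x y
        ext j
        fin_cases j <;> simp }
  have coord_spec : ∀ i (n n' : E K A), coord i ((n : A) + (wey : SLK K) • (n' : A)) =
      ![b.repr n i, b.repr n' i] := by
    intro i n n'
    change ![b.repr (fst _) i, b.repr (snd _) i] = _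
    rw [fst_spec, snd_spec]
  refine ⟨_, coord, ?_, ?_, ?_⟩
  · intro i s
    induction s using sl2_induction with
    | hmul a₁ a₂ h₁ h₂ =>
      intro m
      rw [mul_smul, h₁, h₂, Matrix.SpecialLinearGroup.coe_mul, Matrix.mulVec_mulVec]
    | hup x =>
      intro m
      obtain ⟨n, n', rfl⟩ := hB m
      have h1 : up x • ((n : A) + (wey : SLK K) • (n' : A)) =
          (((n + x • n' : E K A)) : A) + (wey : SLK K) • (n' : A) := by
        rw [smul_add, up_coe, up_wey, AddSubgroup.coe_add]
        abel
      rw [h1, coord_spec, coord_spec, up_val]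
      ext j
      fin_cases j <;> simp [Matrix.mulVec, dotProduct, Fin.sum_univ_two]
    | hlo y =>
      intro m
      obtain ⟨n, n', rfl⟩ := hB m
      have h1 : lo y • ((n : A) + (wey : SLK K) • (n' : A)) =
          (n : A) + (wey : SLK K) • (((y • n + n' : E K A)) : A) := by
        rw [smul_add, lo_coe, lo_wey, AddSubgroup.coe_add, smul_add]
        abel
      rw [h1, coord_spec, coord_spec, lo_val]
      ext j
      fin_cases j <;> simp [Matrix.mulVec, dotProduct, Fin.sum_univ_two]
  · intro m hm
    have h1 : ∀ i, b.repr (fst m) i = 0 := fun i => by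
      have := congrFun (hm i) 0
      simpa [coord] using this
    have h2 : ∀ i, b.repr (snd m) i = 0 := fun i => by
      have := congrFun (hm i) 1
      simpa [coord] using this
    have h3 : fst m = 0 := by
      apply b.repr.injective
      ext i
      simpa using h1 i
    have h4 : snd m = 0 := by
      apply b.repr.injective
      ext i
      simpa using h2 i
    rw [hdec m, h3, h4]
    simp
  · intro i v
    refine ⟨((v 0 • b i : E K A) : A) + (wey : SLK K) • ((v 1 • b i : E K A) : A), ?_, ?_⟩
    · rw [coord_spec]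
      ext j
      fin_cases j <;> simp
    · intro j hj
      rw [coord_spec]
      ext l
      fin_cases l <;> simp [Finsupp.single_apply, hj.symm]

end Coords

end Cfsg.Agent.Lib.H73SL2C
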