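import Mathlib

/-! Commuting graph components of a class of involutions (for Hunt's theorem, S5377). -/

set_option autoImplicit false

namespace Cfsg.Agent.Lib.H77

variable {G : Type*} [Group G]

/-- The commuting neighbours of `x` in `D`. -/
def Nb (D : Set G) (x : G) : Set G := {y | y ∈ D ∧ y ≠ x ∧ x * y = y * x}

/-- `y` lies in the component of `x` of the commuting graph on `D`. -/
def Conn (D : Set G) (x y : G) : Prop := Relation.ReflTransGen (fun u v => v ∈ Nb D u) x y

/-- `g` stabilises the component of `x`. -/
def FixComp (D : Set G) (x g : G) : Prop := ∀ u, Conn D x u → Conn D x (g * u * g⁻¹)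

end Cfsg.Agent.Lib.H77
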