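import Mathlib
import Cfsg.Agent.Lib.H77Defs

/-! Connectedness of the commuting graph from local conditions (piece T1 of Hunt's theorem). -/

set_option autoImplicit false

namespace Cfsg.Agent.Lib.H77

variable {G : Type*} [Group G] {D : Set G}

theorem conn_mem_T1 {x y : G} (hx : x ∈ D) (h : Conn D x y) : y ∈ D := by
  induction h with
  | refl => exact hx
  | tail _ hv _ => exact hv.1

theorem conn_symm_T1 {x y : G} (hx : x ∈ D) (h : Conn D x y) : Conn D y x := by
  induction h with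
  | refl => exact Relation.ReflTransGen.refl
  | @tail b c hab hbc ih =>
    have hb : b ∈ D := conn_mem_T1 hx hab
    exact Relation.ReflTransGen.head ⟨hb, hbc.2.1.symm, hbc.2.2.symm⟩ ih

theorem dih_key_T1 {x y : G} (hx : x * x = 1) (hy : y * y = 1) (j : ℕ) :
    x * (x * y) ^ j = ((x * y) ^ j)⁻¹ * x := by
  have hxi : x⁻¹ = x := inv_eq_of_mul_eq_one_left hx
  have hyi : y⁻¹ = y := inv_eq_of_mul_eq_one_left hy
  have h1 : x * (x * y) ^ j * x⁻¹ = (x * (x * y) * x⁻¹) ^ j := (conj_pow).symm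
  have h2 : x * (x * y) * x⁻¹ = (x * y)⁻¹ := by
    rw [mul_inv_rev, hyi, hxi, ← mul_assoc, hx, one_mul]
  rw [h2, inv_pow, hxi] at h1
  calc x * (x * y) ^ j = x * (x * y) ^ j * (x * x) := by rw [hx, mul_one]
    _ = (x * (x * y) ^ j * x) * x := by rw [mul_assoc, mul_assoc, mul_assoc]
    _ = ((x * y) ^ j)⁻¹ * x := by rw [h1]

theorem dih_even_T1 {x y : G} (hx : x * x = 1) (hy : y * y = 1) (j : ℕ) :
    ∃ g : G, x * (x * y) ^ (j + j) = g * x * g⁻¹ := by
  refine ⟨((x * y) ^ j)⁻¹, ?_⟩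
  rw [pow_add, ← mul_assoc, dih_key_T1 hx hy, inv_inv]

theorem dih_odd_T1 {x y : G} (hx : x * x = 1) (hy : y * y = 1) (j : ℕ) :
    ∃ g : G, x * (x * y) ^ (j + j + 1) = g * y * g⁻¹ := by
  refine ⟨((x * y) ^ j)⁻¹, ?_⟩
  have h1 : (x * y) ^ (j + j + 1) = (x * y) ^ j * ((x * y) * (x * y) ^ j) := by
    rw [pow_succ, pow_add, mul_assoc, (Commute.pow_right (Commute.refl (x * y)) j).eq]
  have h2 : x * (x * y) = y := by rw [← mul_assoc, hx, one_mul]
  rw [h1, ← mul_assoc, dih_key_T1 hx hy, inv_inv, mul_assoc _ x, ← mul_assoc x, h2, mul_assoc]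

theorem even_order_T1 {x y : G} (hx : x * x = 1) (hy : y * y = 1) {k : ℕ}
    (hk : orderOf (x * y) = k + k) (hk0 : 0 < k) :
    (x * y) ^ k * (x * y) ^ k = 1 ∧ (x * y) ^ k ≠ 1 ∧ x * (x * y) ^ k = (x * y) ^ k * x ∧
      y * (x * y) ^ k = (x * y) ^ k * y := by
  have h1 : (x * y) ^ k * (x * y) ^ k = 1 := by
    rw [← pow_add, ← hk, pow_orderOf_eq_one]
  have h2 : (x * y) ^ k ≠ 1 := pow_ne_one_of_lt_orderOf hk0.ne' (by omega)
  have hinv : ((x * y) ^ k)⁻¹ = (x * y) ^ k := inv_eq_of_mul_eq_one_left h1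
  have h3 : x * (x * y) ^ k = (x * y) ^ k * x := by
    rw [dih_key_T1 hx hy, hinv]
  refine ⟨h1, h2, h3, ?_⟩
  have hy' : y = x * (x * y) := by rw [← mul_assoc, hx, one_mul]
  have hc : (x * y) * (x * y) ^ k = (x * y) ^ k * (x * y) :=
    (Commute.pow_right (Commute.refl (x * y)) k).eq
  calc y * (x * y) ^ k = x * (x * y) * (x * y) ^ k := by rw [← hy']
    _ = x * ((x * y) * (x * y) ^ k) := by rw [mul_assoc]
    _ = (x * (x * y) ^ k) * (x * y) := by rw [hc, mul_assoc]
    _ = (x * y) ^ k * (x * (x * y)) := by rw [h3, mul_assoc]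
    _ = (x * y) ^ k * y := by rw [← hy']

/-- The purely group-theoretic computation of the commuting relations. -/
theorem comm_of_T1 {a e v : G} (ha : a * a = 1) (he : e * e = 1) (hv : v * v = 1)
    (hne : a ≠ e) (hvp : v * (a * e) = (a * e) * v)
    (h1 : a * v = v * a ∨ (a * v) ^ 3 = 1) (h2 : e * v = v * e ∨ (e * v) ^ 3 = 1) :
    a * v = v * a ∧ e * v = v * e := by
  have hj : a * v * (a * v) = e * v * (e * v) := by
    calc a * v * (a * v) = a * (v * (a * e)) * (e * v) := by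
          simp only [mul_assoc]; rw [← mul_assoc e e, he, one_mul]
      _ = a * ((a * e) * v) * (e * v) := by rw [hvp]
      _ = e * v * (e * v) := by
          simp only [mul_assoc]; rw [← mul_assoc a a, ha, one_mul]
  have inv_comm : ∀ {b : G}, b * b = 1 → b * v * (b * v) = 1 → b * v = v * b := by
    intro b hb h
    have : (b * v)⁻¹ = b * v := inv_eq_of_mul_eq_one_left h
    rw [mul_inv_rev, inv_eq_of_mul_eq_one_left hb, inv_eq_of_mul_eq_one_left hv] at this
    exact this.symm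
  have comm_j : ∀ {b : G}, b * b = 1 → b * v = v * b → b * v * (b * v) = 1 := by
    intro b hb h
    calc b * v * (b * v) = b * (v * b) * v := by simp only [mul_assoc]
      _ = (b * b) * (v * v) := by rw [← h]; simp only [mul_assoc]
      _ = 1 := by rw [hb, hv, one_mul]
  by_cases hav : a * v = v * a
  · refine ⟨hav, inv_comm he ?_⟩
    rw [← hj]; exact comm_j ha hav
  · exfalso
    have h3a : (a * v) ^ 3 = 1 := h1.resolve_left hav
    rcases h2 with hev | h3e
    · exact hav (inv_comm ha (by rw [hj]; exact comm_j he hev))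
    · have e1 : (a * v) * (a * v * (a * v)) = 1 := by
        rw [← h3a]; exact (pow_three _).symm
      have e2 : (e * v) * (e * v * (e * v)) = 1 := by
        rw [← h3e]; exact (pow_three _).symm
      rw [← hj] at e2
      have : a * v = e * v := by
        have := e1.trans e2.symm
        exact mul_right_cancel this
      exact hne (mul_right_cancel this)

section main

variable [Finite G]

omit [Finite G] in
theorem F3d_T1 (hD : ∀ x ∈ D, x * x = 1 ∧ x ≠ 1)
    (F3 : ∀ x ∈ D, ∀ z : G, z * z = 1 → z ≠ 1 → FixComp D x z → ∃ u, Conn D x u ∧ z * u = u * z)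
    {x y : G} (hx : x ∈ D) (hy : y ∈ D) (h : FixComp D x y) : Conn D x y := by
  obtain ⟨hy2, hy1⟩ := hD y hy
  obtain ⟨u, hu, huc⟩ := F3 x hx y hy2 hy1 h
  by_cases hyu : y = u
  · rwa [hyu]
  · exact hu.tail ⟨hy, hyu, huc.symm⟩

theorem odd_order_T1 (hD : ∀ x ∈ D, x * x = 1 ∧ x ≠ 1)
    (hnorm : ∀ g : G, ∀ x ∈ D, g * x * g⁻¹ ∈ D)
    (F2 : ∀ d ∈ D, ∀ e ∈ Nb D d, ∀ g : G, g * (d * e) = (d * e) * g → FixComp D d g)
    (F3 : ∀ x ∈ D, ∀ z : G, z * z = 1 → z ≠ 1 → FixComp D x z → ∃ u, Conn D x u ∧ z * u = u * z)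
    {x y : G} (hx : x ∈ D) (hy : y ∈ D) (h : ¬ Conn D x y) : Odd (orderOf (x * y)) := by
  by_contra hodd
  rw [Nat.not_odd_iff_even] at hodd
  obtain ⟨k, hk⟩ := hodd
  have hxi := (hD x hx).1
  have hyi := (hD y hy).1
  have hpos : 0 < orderOf (x * y) := orderOf_pos _
  have hk0 : 0 < k := by omega
  obtain ⟨h1, h2, h3, h4⟩ := even_order_T1 hxi hyi hk hk0
  have hmem : x * (x * y) ^ k ∈ D := by
    rcases Nat.even_or_odd k with ⟨j, rfl⟩ | ⟨j, rfl⟩
    · obtain ⟨g, hg⟩ := dih_even_T1 hxi hyi j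
      rw [hg]; exact hnorm g x hx
    · obtain ⟨g, hg⟩ := dih_odd_T1 hxi hyi j
      have : 2 * j + 1 = j + j + 1 := by ring
      rw [this, hg]; exact hnorm g y hy
  have hnb : x * (x * y) ^ k ∈ Nb D x := by
    refine ⟨hmem, ?_, ?_⟩
    · intro hh
      exact h2 (mul_left_cancel (a := x) (by rw [hh, mul_one]))
    · rw [mul_assoc x _ x, ← h3]
  have hfix : FixComp D x y := by
    refine F2 x hx _ hnb y ?_
    rw [← mul_assoc x x, hxi, one_mul, h4]
  exact h (F3d_T1 hD F3 hx hy hfix)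

/-- The map `τ` on the neighbours. -/
noncomputable def tauT1 (a y e : G) : G := (a * e) * (y * (a * e)) ^ (orderOf (y * (a * e)) / 2)

theorem tau_spec_T1 (hD : ∀ x ∈ D, x * x = 1 ∧ x ≠ 1)
    (hnorm : ∀ g : G, ∀ x ∈ D, g * x * g⁻¹ ∈ D)
    (h3 : ∀ x ∈ D, ∀ y, Conn D x y → x * y = y * x ∨ (x * y) ^ 3 = 1)
    (hpq : ∀ d ∈ D, ∀ e ∈ Nb D d, d * e ∉ D)
    (F2 : ∀ d ∈ D, ∀ e ∈ Nb D d, ∀ g : G, g * (d * e) = (d * e) * g → FixComp D d g)
    (F3 : ∀ x ∈ D, ∀ z : G, z * z = 1 → z ≠ 1 → FixComp D x z → ∃ u, Conn D x u ∧ z * u = u * z)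
    {a y e : G} (ha : a ∈ D) (hy : y ∈ D) (hc : ¬ Conn D a y) (he : e ∈ Nb D a) :
    tauT1 a y e ∈ Nb D a ∧ tauT1 a y e ≠ e ∧ tauT1 a y (tauT1 a y e) = e := by
  have hed : e ∈ D := he.1
  have hane : e ≠ a := he.2.1
  have hae : a * e = e * a := he.2.2
  have ha2 := (hD a ha).1
  have he2 := (hD e hed).1
  have hy2 := (hD y hy).1
  have hp2 : (a * e) * (a * e) = 1 := by
    calc (a * e) * (a * e) = a * (e * a) * e := by simp only [mul_assoc]
      _ = (a * a) * (e * e) := by rw [← hae]; simp only [mul_assoc]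
      _ = 1 := by rw [ha2, he2, one_mul]
  have hpD : a * e ∉ D := hpq a ha e he
  have hae_conn : Conn D a e := Relation.ReflTransGen.single he
  -- the order of `y * p` is even
  have hnodd : ¬ Odd (orderOf (y * (a * e))) := by
    rintro ⟨j, hj⟩
    obtain ⟨g, hg⟩ := dih_odd_T1 hy2 hp2 j
    have hj' : 2 * j + 1 = j + j + 1 := by ring
    rw [← hj', ← hj, pow_orderOf_eq_one, mul_one] at hg
    apply hpD
    have := hnorm g⁻¹ y hy
    rw [hg] at this
    have e1 : g⁻¹ * (g * (a * e) * g⁻¹) * g⁻¹⁻¹ = a * e := by group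
    rwa [e1] at this
  rw [Nat.not_odd_iff_even] at hnodd
  obtain ⟨m, hm⟩ := hnodd
  have hpos : 0 < orderOf (y * (a * e)) := orderOf_pos _
  have hm0 : 0 < m := by omega
  obtain ⟨hw2, hw1, hwy, hwp⟩ := even_order_T1 hy2 hp2 hm hm0
  have hdiv : orderOf (y * (a * e)) / 2 = m := by omega
  set w := (y * (a * e)) ^ m with hw_def
  have htau : tauT1 a y e = (a * e) * w := by
    unfold tauT1; rw [hdiv]
  have hfixw : FixComp D a w := F2 a ha e he w hwp.symm
  -- `m` is odd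
  have hmodd : Odd m := by
    by_contra hme
    rw [Nat.not_odd_iff_even] at hme
    obtain ⟨j, hj⟩ := hme
    obtain ⟨g, hg⟩ := dih_even_T1 hy2 hp2 j
    rw [← hj, ← hw_def] at hg
    have hmem : y * w ∈ D := by rw [hg]; exact hnorm g y hy
    have hnb : y * w ∈ Nb D y := by
      refine ⟨hmem, ?_, ?_⟩
      · intro hh
        exact hw1 (mul_left_cancel (a := y) (by rw [hh, mul_one]))
      · rw [mul_assoc y _ y, ← hwy]
    obtain ⟨u, hu, huc⟩ := F3 a ha w hw2 hw1 hfixw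
    have hfu : FixComp D y u := by
      refine F2 y hy _ hnb u ?_
      rw [← mul_assoc y y, hy2, one_mul]
      exact huc.symm
    have hud : u ∈ D := conn_mem_T1 ha hu
    have hyu : Conn D y u := F3d_T1 hD F3 hy hud hfu
    exact hc (hu.trans (conn_symm_T1 hy hyu))
  obtain ⟨j, hj⟩ := hmodd
  -- `v = p * w`
  have hpy : ((a * e) * y) ^ m = w := by
    have h1 : (a * e) * y = (y * (a * e))⁻¹ := by
      rw [mul_inv_rev, inv_eq_of_mul_eq_one_left hy2, inv_eq_of_mul_eq_one_left hp2]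
    rw [h1, inv_pow, hw_def]
    exact inv_eq_of_mul_eq_one_left hw2
  have hvD : (a * e) * w ∈ D := by
    obtain ⟨g, hg⟩ := dih_odd_T1 hp2 hy2 j
    have hj' : 2 * j + 1 = j + j + 1 := by ring
    rw [← hj', ← hj, hpy] at hg
    rw [hg]; exact hnorm g y hy
  set v := (a * e) * w with hv_def
  have hv2 : v * v = 1 := (hD v hvD).1
  have hvp : v * (a * e) = (a * e) * v := by
    rw [hv_def, mul_assoc, hwp.symm, mul_assoc]
  have hfixv : FixComp D a v := F2 a ha e he v hvp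
  have hav_conn : Conn D a v := F3d_T1 hD F3 ha hvD hfixv
  have hev_conn : Conn D e v := (conn_symm_T1 ha hae_conn).trans hav_conn
  obtain ⟨hav, hev⟩ := comm_of_T1 ha2 he2 hv2 hane.symm hvp (h3 a ha v hav_conn)
    (h3 e hed v hev_conn)
  have hw_eq : w = (a * e) * v := by
    rw [hv_def, ← mul_assoc, hp2, one_mul]
  -- `v ≠ a`
  have hva : v ≠ a := by
    intro hh
    have h1 : e * w = 1 := by
      apply mul_left_cancel (a := a)
      rw [mul_one, ← mul_assoc, ← hv_def, hh]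
    have hwe : w = e := by
      have : e * w = e * e := by rw [h1, he2]
      exact mul_left_cancel this
    rw [hwe] at hwy
    by_cases hye : y = e
    · exact hc (hye ▸ hae_conn)
    · exact hc (hae_conn.tail ⟨hy, hye, hwy.symm⟩)
  -- `v ≠ e`
  have hve : v ≠ e := by
    intro hh
    have h1 : a * w = 1 := by
      apply mul_left_cancel (a := e)
      rw [mul_one, ← mul_assoc, ← hae, ← hv_def, hh]
    have hwa : w = a := by
      have : a * w = a * a := by rw [h1, ha2]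
      exact mul_left_cancel this
    rw [hwa] at hwy
    by_cases hya : y = a
    · exact hc (hya ▸ Relation.ReflTransGen.refl)
    · exact hc (Relation.ReflTransGen.single ⟨hy, hya, hwy.symm⟩)
  have hvnb : v ∈ Nb D a := ⟨hvD, hva, hav⟩
  refine ⟨htau ▸ hvnb, htau ▸ hve, ?_⟩
  rw [htau]
  -- `τ v = e`
  have hwe : w * e = e * w := by
    calc w * e = (a * e) * (v * e) := by rw [hw_eq, mul_assoc]
      _ = (a * e) * (e * v) := by rw [hev]
      _ = (e * a) * (e * v) := by rw [hae]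
      _ = e * ((a * e) * v) := by simp only [mul_assoc]
      _ = e * w := by rw [← hw_eq]
  have hav' : a * v = w * e := by
    rw [hw_eq, mul_assoc, mul_assoc, ← hev, ← mul_assoc e e, he2, one_mul]
  have hyw : y * (a * v) = w * (y * e) := by
    rw [hav', ← mul_assoc, hwy, mul_assoc]
  have hey : ¬ Conn D y e := by
    intro h
    exact hc (hae_conn.trans (conn_symm_T1 hy h))
  have hn : Odd (orderOf (y * e)) := odd_order_T1 hD hnorm F2 F3 hy hed hey
  have hcomm : Commute w (y * e) := by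
    show w * (y * e) = (y * e) * w
    calc w * (y * e) = (w * y) * e := (mul_assoc _ _ _).symm
      _ = (y * w) * e := by rw [hwy]
      _ = y * (w * e) := mul_assoc _ _ _
      _ = y * (e * w) := by rw [hwe]
      _ = (y * e) * w := (mul_assoc _ _ _).symm
  have hwo : orderOf w = 2 := by
    apply orderOf_eq_prime
    · rw [pow_two]; exact hw2
    · exact hw1
  have hcop : Nat.Coprime (orderOf w) (orderOf (y * e)) := by
    rw [hwo]; exact (Nat.coprime_two_left).2 hn
  have hord : orderOf (y * (a * v)) = 2 * orderOf (y * e) := by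
    rw [hyw, hcomm.orderOf_mul_eq_mul_orderOf_of_coprime hcop, hwo]
  have hdiv' : orderOf (y * (a * v)) / 2 = orderOf (y * e) := by
    rw [hord]; omega
  have hpow : (y * (a * v)) ^ orderOf (y * e) = w := by
    rw [hyw, hcomm.mul_pow, pow_orderOf_eq_one, mul_one]
    obtain ⟨t, ht⟩ := hn
    rw [ht, pow_succ, pow_mul, pow_two, hw2, one_pow, one_mul]
  unfold tauT1
  rw [hdiv', hpow, hav', mul_assoc, ← hwe, ← mul_assoc, hw2, one_mul]

theorem connected_of {G : Type*} [Group G] [Finite G] {D : Set G}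
    (hD : ∀ x ∈ D, x * x = 1 ∧ x ≠ 1)
    (_hclass : ∀ x ∈ D, ∀ y ∈ D, ∃ g : G, g * x * g⁻¹ = y)
    (hnorm : ∀ g : G, ∀ x ∈ D, g * x * g⁻¹ ∈ D)
    (h3 : ∀ x ∈ D, ∀ y, Conn D x y → x * y = y * x ∨ (x * y) ^ 3 = 1)
    (hodd : ∀ x ∈ D, Odd (Set.ncard (Nb D x)))
    (hpq : ∀ d ∈ D, ∀ e ∈ Nb D d, d * e ∉ D)
    (F2 : ∀ d ∈ D, ∀ e ∈ Nb D d, ∀ g : G, g * (d * e) = (d * e) * g → FixComp D d g)
    (F3 : ∀ x ∈ D, ∀ z : G, z * z = 1 → z ≠ 1 → FixComp D x z → ∃ u, Conn D x u ∧ z * u = u * z) :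
    ∀ x ∈ D, ∀ y ∈ D, Conn D x y := by
  classical
  intro a ha y hy
  by_contra hc
  have hfin : (Nb D a).Finite := Set.toFinite _
  have hoddN := hodd a ha
  rw [Set.ncard_eq_toFinset_card _ hfin] at hoddN
  have hspec : ∀ e ∈ hfin.toFinset,
      tauT1 a y e ∈ hfin.toFinset ∧ tauT1 a y e ≠ e ∧ tauT1 a y (tauT1 a y e) = e := by
    intro e he
    rw [Set.Finite.mem_toFinset] at he
    obtain ⟨h1, h2, h3'⟩ := tau_spec_T1 hD hnorm h3 hpq F2 F3 ha hy hc he
    exact ⟨(Set.Finite.mem_toFinset hfin).2 h1, h2, h3'⟩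
  have hsum : ∑ _x ∈ hfin.toFinset, (1 : ZMod 2) = 0 :=
    Finset.sum_involution (fun e _ => tauT1 a y e) (fun _ _ => by decide)
      (fun e he _ => (hspec e he).2.1) (fun e he => (hspec e he).1)
      (fun e he => (hspec e he).2.2)
  rw [Finset.sum_const, nsmul_one, ZMod.natCast_eq_zero_iff_even] at hsum
  exact (Nat.not_even_iff_odd.2 hoddN) hsum

end main

end Cfsg.Agent.Lib.H77
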