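import Mathlib
import Cfsg.Agent.Lib.H77Defs
import Cfsg.Agent.S0215
import Cfsg.Agent.Lib.CoprimeHyper

/-! Hunt's theorem, piece T2: an element commuting with the product of two commuting members of a
class of 3-transpositions stabilises the component, via the Z*-theorem in the centralizer of the
product and hyperplane generation. -/

set_option autoImplicit false

namespace Cfsg.Agent.Lib.H77

namespace T2Aux

variable {G : Type*} [Group G] {D : Set G}

theorem conn_mem {x y : G} (hx : x ∈ D) (h : Conn D x y) : y ∈ D := by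
  induction h with
  | refl => exact hx
  | tail _ hbc _ => exact hbc.1

theorem conn_step {x y : G} (h : y ∈ Nb D x) : Conn D x y := Relation.ReflTransGen.single h

theorem conn_trans {x y w : G} (h : Conn D x y) (h' : Conn D y w) : Conn D x w :=
  Relation.ReflTransGen.trans h h'

theorem conn_symm {x y : G} (hx : x ∈ D) (h : Conn D x y) : Conn D y x := by
  induction h with
  | refl => exact Relation.ReflTransGen.refl
  | @tail b c hab hbc ih =>
    have hb : b ∈ D := conn_mem hx hab
    have : b ∈ Nb D c := ⟨hb, fun e => hbc.2.1 e.symm, hbc.2.2.symm⟩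
    exact conn_trans (conn_step this) ih

theorem conn_conj (hnorm : ∀ g : G, ∀ x ∈ D, g * x * g⁻¹ ∈ D) (g : G) {x y : G}
    (h : Conn D x y) : Conn D (g * x * g⁻¹) (g * y * g⁻¹) := by
  induction h with
  | refl => exact Relation.ReflTransGen.refl
  | @tail b c _ hbc ih =>
    refine Relation.ReflTransGen.tail ih ⟨hnorm g c hbc.1, ?_, ?_⟩
    · intro e
      apply hbc.2.1
      have : c = b := by simpa using e
      exact this
    · have := hbc.2.2
      calc g * b * g⁻¹ * (g * c * g⁻¹) = g * (b * c) * g⁻¹ := by group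
        _ = g * (c * b) * g⁻¹ := by rw [this]
        _ = g * c * g⁻¹ * (g * b * g⁻¹) := by group

/-- The stabiliser of the component of `d`. -/
def stab (D : Set G) (hnorm : ∀ g : G, ∀ x ∈ D, g * x * g⁻¹ ∈ D) (d : G) (hd : d ∈ D) :
    Subgroup G where
  carrier := {g | Conn D d (g * d * g⁻¹)}
  one_mem' := by
    show Conn D d (1 * d * 1⁻¹)
    have e : (1 : G) * d * 1⁻¹ = d := by group
    rw [e]
    exact Relation.ReflTransGen.refl
  mul_mem' := by
    intro a b ha hb
    show Conn D d (a * b * d * (a * b)⁻¹)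
    have h1 := conn_conj hnorm a hb
    have e : a * (b * d * b⁻¹) * a⁻¹ = a * b * d * (a * b)⁻¹ := by group
    rw [e] at h1
    exact conn_trans ha h1
  inv_mem' := by
    intro a ha
    show Conn D d (a⁻¹ * d * a⁻¹⁻¹)
    have h1 := conn_conj hnorm a⁻¹ ha
    have e : a⁻¹ * (a * d * a⁻¹) * a⁻¹⁻¹ = d := by group
    rw [e] at h1
    exact conn_symm (hnorm _ _ hd) h1

theorem mem_stab {hnorm : ∀ g : G, ∀ x ∈ D, g * x * g⁻¹ ∈ D} {d : G} {hd : d ∈ D} {g : G} :
    g ∈ stab D hnorm d hd ↔ Conn D d (g * d * g⁻¹) := Iff.rfl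

theorem fix_of_mem_stab {hnorm : ∀ g : G, ∀ x ∈ D, g * x * g⁻¹ ∈ D} {d : G} {hd : d ∈ D} {g : G}
    (h : g ∈ stab D hnorm d hd) : FixComp D d g := by
  intro u hu
  exact conn_trans h (conn_conj hnorm g hu)

theorem mem_stab_of_fix {hnorm : ∀ g : G, ∀ x ∈ D, g * x * g⁻¹ ∈ D} {d : G} {hd : d ∈ D} {g : G}
    (h : FixComp D d g) : g ∈ stab D hnorm d hd :=
  h d Relation.ReflTransGen.refl

theorem mem_stab_of_comm {hnorm : ∀ g : G, ∀ x ∈ D, g * x * g⁻¹ ∈ D} {d : G} {hd : d ∈ D} {x g : G}
    (hx : Conn D d x) (hg : g * x = x * g) : g ∈ stab D hnorm d hd := by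
  have h1 := conn_conj hnorm g (conn_symm hd hx)
  have e : g * x * g⁻¹ = x := by rw [hg]; group
  rw [e] at h1
  exact conn_trans hx h1

/-- A finite `2`-subgroup containing `d` stabilises the component of `d`, as soon as the only
members of `D` in the stabiliser are those of the component. -/
theorem pgroup_le_stab [Finite G] {hnorm : ∀ g : G, ∀ x ∈ D, g * x * g⁻¹ ∈ D} {d : G} {hd : d ∈ D}
    (hF3d : ∀ y ∈ D, y ∈ stab D hnorm d hd → Conn D d y)
    (T : Subgroup G) (hT : IsPGroup 2 T) (hdT : d ∈ T) : T ≤ stab D hnorm d hd := by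
  by_contra hcon
  haveI : Fact (Nat.Prime 2) := ⟨Nat.prime_two⟩
  haveI : Group.IsNilpotent T := hT.isNilpotent
  set T' : Subgroup T := (stab D hnorm d hd).subgroupOf T with hT'
  have hlt : T' < ⊤ := by
    refine lt_top_iff_ne_top.2 fun h => hcon ?_
    intro t ht
    have : (⟨t, ht⟩ : T) ∈ T' := by rw [h]; trivial
    exact this
  have hlt2 := normalizerCondition_of_isNilpotent T' hlt
  obtain ⟨t, htn, htT'⟩ := SetLike.exists_of_lt hlt2
  have hd' : (⟨d, hdT⟩ : T) ∈ T' := by
    show Conn D d (d * d * d⁻¹)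
    have e : d * d * d⁻¹ = d := by group
    rw [e]
    exact Relation.ReflTransGen.refl
  have h2 := (Subgroup.mem_normalizer_iff.1 htn _).1 hd'
  have h3 : (t : G) * d * (t : G)⁻¹ ∈ stab D hnorm d hd := h2
  have h4 := hF3d _ (hnorm _ _ hd) h3
  exact htT' h4

/-- Three-transposition computation. -/
theorem comm_of_comm_prod {d e x : G} (hdd : d * d = 1) (hee : e * e = 1) (hxx : x * x = 1)
    (hde : d * e = e * d) (hne : e ≠ d) (hc : x * (d * e) = (d * e) * x)
    (h1 : d * x = x * d ∨ (d * x) ^ 3 = 1) (h2 : e * x = x * e ∨ (e * x) ^ 3 = 1) :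
    d * x = x * d ∧ e * x = x * e := by
  have hkey : (d * x) ^ 2 = (e * x) ^ 2 := by
    have hxd : x * d = d * e * x * e := by
      calc x * d = x * d * (e * e) := by rw [hee, mul_one]
        _ = (x * (d * e)) * e := by group
        _ = d * e * x * e := by rw [hc]
    calc (d * x) ^ 2 = d * (x * d) * x := by rw [pow_two]; group
      _ = d * (d * e * x * e) * x := by rw [hxd]
      _ = (d * d) * e * x * e * x := by group
      _ = (e * x) ^ 2 := by rw [hdd, pow_two]; group
  have hcomm_of : ∀ {a : G}, a * a = 1 → (a * x) ^ 2 = 1 → a * x = x * a := by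
    intro a ha h
    have h' : a * x * (a * x) = 1 := by rw [← pow_two]; exact h
    have : a * x = (a * x)⁻¹ := eq_inv_of_mul_eq_one_left h'
    rw [this, mul_inv_rev]
    have hx' : x⁻¹ = x := inv_eq_of_mul_eq_one_left hxx
    have ha' : a⁻¹ = a := inv_eq_of_mul_eq_one_left ha
    rw [hx', ha']
  have hsq_of : ∀ {a : G}, a * a = 1 → a * x = x * a → (a * x) ^ 2 = 1 := by
    intro a ha h
    calc (a * x) ^ 2 = a * x * (x * a) := by rw [pow_two, h]
      _ = a * (x * x) * a := by group
      _ = 1 := by rw [hxx, mul_one, ha]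
  rcases h1 with h1 | h1
  · have h3 := hsq_of hdd h1
    rw [hkey] at h3
    exact ⟨h1, hcomm_of hee h3⟩
  · rcases h2 with h2 | h2
    · have h3 := hsq_of hee h2
      rw [← hkey] at h3
      have h4 : d * x = 1 := by
        have : (d * x) ^ 3 = (d * x) ^ 2 * (d * x) := by rw [pow_succ]
        rw [h3, one_mul] at this
        rw [← this, h1]
      refine ⟨?_, h2⟩
      have hx : x = d := by
        have : d⁻¹ = x := inv_eq_of_mul_eq_one_right h4
        rw [← this]
        exact inv_eq_of_mul_eq_one_left hdd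
      rw [hx]
    · exfalso
      have h4 : ∀ {a : G}, (a * x) ^ 3 = 1 → ((a * x) ^ 2) ^ 2 = a * x := by
        intro a h
        have : ((a * x) ^ 2) ^ 2 = (a * x) ^ 3 * (a * x) := by
          rw [← pow_mul, ← pow_succ]
        rw [this, h, one_mul]
      have h5 : d * x = e * x := by
        rw [← h4 h1, ← h4 h2, hkey]
      exact hne (mul_right_cancel h5).symm

end T2Aux

namespace T2Core

open Cfsg.Agent.Lib.CoprimeHyper

variable {K : Type*} [Group K] [Finite K]

theorem mem_zpowers_two {z x : K} (hzz : z * z = 1) (h : x ∈ Subgroup.zpowers z) :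
    x = 1 ∨ x = z := by
  obtain ⟨i, rfl⟩ := Subgroup.mem_zpowers_iff.1 h
  have hz2 : z ^ (2 : ℤ) = 1 := by
    rw [zpow_two]; exact hzz
  rcases Int.even_or_odd' i with ⟨j, rfl | rfl⟩
  · left
    rw [zpow_mul, hz2, one_zpow]
  · right
    rw [zpow_add, zpow_mul, hz2, one_zpow, one_mul, zpow_one]

theorem dihedral_conj {H : Type*} [Group H] {a b : H} (ha : a * a = 1) (hb : b * b = 1)
    {m k : ℕ} (hm : (a * b) ^ m = 1) (hk : 2 * k = m + 1) :
    (a * b) ^ k * b * ((a * b) ^ k)⁻¹ = a := by
  set c := a * b with hc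
  have hinv : b * c * b⁻¹ = c⁻¹ := by
    have hb' : b⁻¹ = b := inv_eq_of_mul_eq_one_left hb
    have ha' : a⁻¹ = a := inv_eq_of_mul_eq_one_left ha
    rw [hc, hb', mul_inv_rev, hb', ha']
    calc b * (a * b) * b = b * a * (b * b) := by group
      _ = b * a := by rw [hb, mul_one]
  have hconj : b * c ^ k * b⁻¹ = (c⁻¹) ^ k := by
    rw [← hinv]
    exact (conj_pow).symm
  have h1 : b * (c ^ k)⁻¹ = c ^ k * b := by
    have : (b * c ^ k * b⁻¹)⁻¹ = c ^ k := by rw [hconj]; simp
    have h2 : b * (c ^ k)⁻¹ * b⁻¹ = c ^ k := by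
      calc b * (c ^ k)⁻¹ * b⁻¹ = (b * c ^ k * b⁻¹)⁻¹ := by simp [mul_assoc]
        _ = c ^ k := this
    calc b * (c ^ k)⁻¹ = b * (c ^ k)⁻¹ * b⁻¹ * b := by group
      _ = c ^ k * b := by rw [h2]
  calc c ^ k * b * (c ^ k)⁻¹ = c ^ k * (b * (c ^ k)⁻¹) := by group
    _ = c ^ k * (c ^ k * b) := by rw [h1]
    _ = c ^ (2 * k) * b := by rw [two_mul, pow_add]; group
    _ = c ^ (m + 1) * b := by rw [hk]
    _ = c * b := by rw [pow_succ, hm, one_mul]
    _ = a := by rw [hc, mul_assoc, hb, mul_one]

/-- The core of piece T2, inside the centralizer of the central involution `z`. -/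
theorem core (z d : K) (hzc : ∀ g, g * z = z * g) (hzz : z * z = 1) (hz1 : z ≠ 1) (hdd : d * d = 1)
    (hd1 : d ≠ 1) (hdz : d ≠ z) (M : Subgroup K) (hzM : z ∈ M) (A : Subgroup K)
    (hAab : ∀ a ∈ A, ∀ b ∈ A, a * b = b * a) (hAel : ∀ a ∈ A, a * a = 1)
    (T : Sylow 2 K) (hdT : d ∈ T) (hzT : z ∈ T)
    (hiso : ∀ g, g * d * g⁻¹ ∈ T → g * d * g⁻¹ = d ∨ g * d * g⁻¹ = d * z)
    (hC : ∀ B : Subgroup K, B ≤ A → B.relIndex A ≤ 2 → ∃ x ∈ B, ∀ o, o * x = x * o → o ∈ M)
    (hdM : ∀ g, g * d * g⁻¹ = d ∨ g * d * g⁻¹ = d * z → g ∈ M) : ∀ g, g ∈ M := by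
  classical
  haveI hfact2 : Fact (Nat.Prime 2) := ⟨Nat.prime_two⟩
  set Z : Subgroup K := Subgroup.zpowers z with hZ
  have hZmem : ∀ x, x ∈ Z ↔ (x = 1 ∨ x = z) := by
    intro x
    constructor
    · exact mem_zpowers_two hzz
    · rintro (h | h)
      · rw [h]; exact Z.one_mem
      · rw [h]; exact Subgroup.mem_zpowers z
  haveI hZn : Z.Normal := by
    refine ⟨fun n hn g => ?_⟩
    rcases (hZmem n).1 hn with h | h
    · rw [h]; simpa using Z.one_mem
    · have : g * n * g⁻¹ = n := by rw [h, hzc]; group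
      rw [this]; exact hn
  let π : K →* K ⧸ Z := QuotientGroup.mk' Z
  have hπs : Function.Surjective π := QuotientGroup.mk'_surjective Z
  have hπ1 : ∀ x, π x = 1 ↔ (x = 1 ∨ x = z) := by
    intro x
    rw [← hZmem]
    exact QuotientGroup.eq_one_iff x
  have hπz : π z = 1 := (hπ1 z).2 (Or.inr rfl)
  have hπeq : ∀ x y, π x = π y → (x = y ∨ x = y * z) := by
    intro x y h
    have h1 : π (y⁻¹ * x) = 1 := by rw [map_mul, map_inv, h, inv_mul_cancel]
    rcases (hπ1 _).1 h1 with h2 | h2
    · left
      have := inv_mul_eq_one.1 h2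
      exact this.symm
    · right
      rw [← h2]; group
  set dbar := π d with hdbar
  have hdbar2 : dbar * dbar = 1 := by rw [hdbar, ← map_mul, hdd, map_one]
  have hdbar1 : dbar ≠ 1 := by
    intro h
    rcases (hπ1 d).1 h with h | h
    · exact hd1 h
    · exact hdz h
  have hdbaro : orderOf dbar = 2 := by
    apply orderOf_eq_prime
    · rw [pow_two]; exact hdbar2
    · exact hdbar1
  -- Sylow image and Z*
  let Tb : Sylow 2 (K ⧸ Z) := T.mapSurjective hπs
  have hTb : ∀ x, x ∈ Tb ↔ x ∈ (T : Subgroup K).map π := fun x => by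
    show x ∈ ((T.mapSurjective hπs : Sylow 2 (K ⧸ Z)) : Subgroup (K ⧸ Z)) ↔ _
    rw [Sylow.coe_mapSurjective]
  have hdbarT : dbar ∈ Tb := by
    rw [hTb]; exact ⟨d, hdT, rfl⟩
  have hisoB : ∀ gb : K ⧸ Z, gb * dbar * gb⁻¹ ∈ Tb → gb * dbar * gb⁻¹ = dbar := by
    intro gb hgb
    obtain ⟨g, rfl⟩ := hπs gb
    rw [hTb] at hgb
    obtain ⟨t, ht, hte⟩ := hgb
    have he : π t = π (g * d * g⁻¹) := by rw [hte, hdbar, map_mul, map_mul, map_inv]
    have hmem : g * d * g⁻¹ ∈ (T : Subgroup K) := by
      rcases hπeq _ _ he with h | h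
      · rw [← h]; exact ht
      · have : g * d * g⁻¹ = t * z := by
          calc g * d * g⁻¹ = (g * d * g⁻¹) * (z * z) := by rw [hzz, mul_one]
            _ = t * z := by rw [h]; group
        rw [this]
        exact (T : Subgroup K).mul_mem ht hzT
    have hv : π (g * d * g⁻¹) = dbar := by
      rcases hiso g hmem with h | h
      · rw [h]
      · rw [h, map_mul, hπz, mul_one]
    have e2 : π g * dbar * (π g)⁻¹ = π (g * d * g⁻¹) := by
      simp only [hdbar, map_mul, map_inv]
    rw [e2, hv]
  obtain ⟨N, hNn, hNodd, hN⟩ := Cfsg.Agent.S0215.result Tb dbar hdbaro hdbarT hisoB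
  -- N lies in the image of M
  have hNM : N ≤ M.map π := by
    set Ab : Subgroup (K ⧸ Z) := A.map π with hAb
    have hAbc : IsMulCommutative ↥Ab := by
      refine ⟨⟨fun a b => ?_⟩⟩
      obtain ⟨a, ha⟩ := a
      obtain ⟨b, hb⟩ := b
      obtain ⟨a', ha', rfl⟩ := ha
      obtain ⟨b', hb', rfl⟩ := hb
      apply Subtype.ext
      show π a' * π b' = π b' * π a'
      rw [← map_mul, ← map_mul, hAab a' ha' b' hb']
    have hAbp : ∀ a ∈ Ab, a ^ 2 = 1 := by
      rintro a ⟨a', ha', rfl⟩
      rw [pow_two, ← map_mul, hAel a' ha', map_one]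
    have hNp : ¬ 2 ∣ Nat.card N := by
      intro h
      exact (Nat.not_even_iff_odd.2 hNodd) (even_iff_two_dvd.2 h)
    have hAbN : Ab ≤ Subgroup.normalizer (N : Set (K ⧸ Z)) := by
      rw [Subgroup.normalizer_eq_top N]; exact le_top
    rw [eq_iSup_inf_centralizer Ab N hAbc hAbp hNp hAbN]
    refine iSup_le ?_
    rintro ⟨Bb, hBb, hBbi⟩ n ⟨hnN, hnC⟩
    -- an odd-order lift
    obtain ⟨g, rfl⟩ := hπs n
    set m := Nat.card N with hm
    have hmodd : Odd m := hNodd
    have hnm : (π g) ^ m = 1 := by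
      have := pow_card_eq_one' (x := (⟨π g, hnN⟩ : N))
      exact congrArg Subtype.val this
    have hgm : (g ^ m) * (g ^ m) = 1 := by
      have h1 : π (g ^ m) = 1 := by rw [map_pow, hnm]
      rcases (hπ1 _).1 h1 with h | h
      · rw [h, one_mul]
      · rw [h, hzz]
    obtain ⟨r, hr⟩ := hmodd
    have hm1 : m + 1 = 2 * (r + 1) := by omega
    set o := g ^ (m + 1) with ho
    have hom : o ^ m = 1 := by
      rw [ho, ← pow_mul, mul_comm, pow_mul, hm1, pow_mul, pow_two, hgm, one_pow]
    have hπo : π o = π g := by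
      rw [ho, map_pow, pow_succ, hnm, one_mul]
    -- B
    set B : Subgroup K := Bb.comap π ⊓ A with hB
    have hBA : B ≤ A := inf_le_right
    have hBi : B.relIndex A ≤ 2 := by
      rw [hB, Subgroup.inf_relIndex_right, Subgroup.relIndex_comap]
      exact hBbi
    obtain ⟨x, hxB, hxM⟩ := hC B hBA hBi
    have hocomm : o * x = x * o := by
      have h0 : π x ∈ Bb := hxB.1
      have h1 : π g * π x = π x * π g :=
        (Subgroup.mem_centralizer_iff.1 hnC (π x) h0).symm
      have h2 : π (o * x) = π (x * o) := by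
        rw [map_mul, map_mul, hπo, h1]
      rcases hπeq _ _ h2 with h | h
      · exact h
      · exfalso
        -- conjugating: x⁻¹ o x = o z up to rearrangement
        have h3 : x⁻¹ * o * x = o * z := by
          have : o * x = x * o * z := h
          calc x⁻¹ * o * x = x⁻¹ * (o * x) := by group
            _ = x⁻¹ * (x * o * z) := by rw [this]
            _ = o * z := by group
        have h4 : (x⁻¹ * o * x) ^ m = 1 := by
          have := conj_pow (a := x⁻¹) (b := o) (i := m)
          rw [inv_inv] at this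
          rw [this, hom]
          group
        rw [h3] at h4
        have hoz : Commute o z := hzc o
        rw [hoz.mul_pow, hom, one_mul] at h4
        have hzm : z ^ m = z := by
          rw [hr, pow_succ, pow_mul, pow_two, hzz, one_pow, one_mul]
        rw [hzm] at h4
        exact hz1 h4
    exact ⟨o, hxM o hocomm, hπo⟩
  -- conclude
  intro g
  set gb := π g with hgb
  have hc : dbar * (gb * dbar * gb⁻¹) ∈ N := by
    have h0 := hN gb
    have hd' : dbar⁻¹ = dbar := inv_eq_of_mul_eq_one_left hdbar2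
    rw [hd'] at h0
    have e : dbar * gb * dbar * gb⁻¹ = dbar * (gb * dbar * gb⁻¹) := by group
    rwa [e] at h0
  set d' := gb * dbar * gb⁻¹ with hd'
  have hd'2 : d' * d' = 1 := by
    rw [hd']
    calc gb * dbar * gb⁻¹ * (gb * dbar * gb⁻¹) = gb * (dbar * dbar) * gb⁻¹ := by group
      _ = 1 := by rw [hdbar2]; group
  set c := dbar * d' with hcdef
  set m := Nat.card N with hm
  have hcm : c ^ m = 1 := by
    have := pow_card_eq_one' (x := (⟨c, hc⟩ : N))
    exact congrArg Subtype.val this
  obtain ⟨r, hr⟩ : Odd m := hNodd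
  have hk : 2 * (r + 1) = m + 1 := by omega
  have hconj := dihedral_conj hdbar2 hd'2 hcm hk
  have hnN : c ^ (r + 1) ∈ N := N.pow_mem hc _
  obtain ⟨l, hlM, hl⟩ := hNM hnN
  have hg' : l * g ∈ M := by
    apply hdM
    have h1 : π (l * g * d * (l * g)⁻¹) = π d := by
      have e : π (l * g * d * (l * g)⁻¹) = π l * (gb * dbar * gb⁻¹) * (π l)⁻¹ := by
        rw [hgb, hdbar]
        simp only [map_mul, map_inv, mul_inv_rev]
        group
      rw [e, hl]
      exact hconj
    rcases hπeq _ _ h1 with h | h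
    · exact Or.inl h
    · exact Or.inr h
  have : g = l⁻¹ * (l * g) := by group
  rw [this]
  exact M.mul_mem (M.inv_mem hlM) hg'

end T2Core

variable {G : Type*} [Group G] [Finite G] {D : Set G}

open T2Aux in
/-- **Piece T2.** -/
theorem fix_of_comm_prod (hD : ∀ x ∈ D, x * x = 1 ∧ x ≠ 1)
    (hclass : ∀ x ∈ D, ∀ y ∈ D, ∃ g : G, g * x * g⁻¹ = y)
    (hnorm : ∀ g : G, ∀ x ∈ D, g * x * g⁻¹ ∈ D)
    (h3 : ∀ x ∈ D, ∀ y, Conn D x y → x * y = y * x ∨ (x * y) ^ 3 = 1)
    (F3 : ∀ x ∈ D, ∀ z : G, z * z = 1 → z ≠ 1 → FixComp D x z → ∃ u, Conn D x u ∧ z * u = u * z)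
    (h4 : ∀ x ∈ D, ∀ e f g, e ∈ Nb D x → f ∈ Nb D x → g ∈ Nb D x → e ≠ f → e ≠ g → f ≠ g →
      e * f = f * e → e * g = g * e → f * g = g * f → x * e * f * g ≠ 1)
    (hpq : ∀ d ∈ D, ∀ e ∈ Nb D d, d * e ∉ D)
    (A : Subgroup G) (hAab : ∀ a ∈ A, ∀ b ∈ A, a * b = b * a) (hAel : ∀ a ∈ A, a * a = 1)
    {d e : G} (hd : d ∈ D) (he : e ∈ Nb D d) (hdA : d ∈ A) (heA : e ∈ A)
    (hhyp : ∀ B : Subgroup G, B ≤ A → B.relIndex A = 2 → ∃ x ∈ D, x ∈ B ∧ Conn D d x) :
    ∀ g : G, g * (d * e) = (d * e) * g → FixComp D d g := by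
  classical
  obtain ⟨heD, hne, hcomm⟩ := id he
  have hconne : Conn D d e := conn_step he
  have hdd := (hD d hd).1
  have hd1 := (hD d hd).2
  have hee := (hD e heD).1
  have he1 := (hD e heD).2
  set M := stab D hnorm d hd with hM
  -- F3d
  have hF3d : ∀ y ∈ D, y ∈ M → Conn D d y := by
    intro y hy hyM
    obtain ⟨u, hu, hyu⟩ := F3 d hd y (hD y hy).1 (hD y hy).2 (fix_of_mem_stab hyM)
    by_cases hyu' : y = u
    · rw [hyu']; exact hu
    · exact conn_trans hu (conn_step ⟨hy, hyu', hyu.symm⟩)
  obtain ⟨p, hp⟩ : ∃ p, p = d * e := ⟨_, rfl⟩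
  rw [← hp]
  have hpp : p * p = 1 := by
    rw [hp]
    calc d * e * (d * e) = d * (e * d) * e := by group
      _ = d * (d * e) * e := by rw [hcomm]
      _ = (d * d) * (e * e) := by group
      _ = 1 := by rw [hdd, hee, one_mul]
  have hp1 : p ≠ 1 := by
    intro h
    rw [hp] at h
    have h2 : e = d := by
      have : d⁻¹ = e := inv_eq_of_mul_eq_one_right h
      rw [← this]; exact inv_eq_of_mul_eq_one_left hdd
    exact hne h2
  have hdp : d ≠ p := by
    intro h
    apply he1
    rw [hp] at h
    have : d * 1 = d * e := by rw [mul_one]; exact h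
    exact (mul_left_cancel this).symm
  have hpd : d * p = e := by rw [hp, ← mul_assoc, hdd, one_mul]
  have hpe : e * p = d := by
    rw [hp]
    calc e * (d * e) = (e * d) * e := by group
      _ = (d * e) * e := by rw [hcomm]
      _ = d * (e * e) := by group
      _ = d := by rw [hee, mul_one]
  let K : Subgroup G := Subgroup.centralizer ({p} : Set G)
  have hKmem : ∀ g : G, g ∈ K ↔ g * p = p * g := by
    intro g
    rw [Subgroup.mem_centralizer_singleton_iff]
  have hpK : p ∈ K := (hKmem p).2 rfl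
  have hdp' : d * p = p * d := by
    rw [hp]
    calc d * (d * e) = d * (e * d) := by rw [hcomm]
      _ = d * e * d := by group
  have hep' : e * p = p * e := by
    rw [hp]
    calc e * (d * e) = (e * d) * e := by group
      _ = d * e * e := by rw [hcomm]
  have hdK : d ∈ K := (hKmem d).2 hdp'
  have heK : e ∈ K := (hKmem e).2 hep'
  have hAK : A ≤ K := by
    intro a ha
    rw [hKmem, hp]
    have h1 := hAab a ha d hdA
    have h2 := hAab a ha e heA
    calc a * (d * e) = (a * d) * e := by group
      _ = d * (a * e) := by rw [h1]; group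
      _ = d * (e * a) := by rw [h2]
      _ = d * e * a := by group
  let z : K := ⟨p, hpK⟩
  let dK : K := ⟨d, hdK⟩
  -- Sylow
  haveI : Fact (Nat.Prime 2) := ⟨Nat.prime_two⟩
  have hdKK : dK * dK = 1 := Subtype.ext hdd
  have hzz : z * z = 1 := Subtype.ext hpp
  have hdpg : IsPGroup 2 (Subgroup.zpowers dK) := by
    refine IsPGroup.of_card (n := 1) ?_
    rw [Nat.card_zpowers]
    have : orderOf dK = 2 := by
      apply orderOf_eq_prime
      · rw [pow_two]; exact hdKK
      · intro h; exact hd1 (congrArg Subtype.val h)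
    rw [this, pow_one]
  obtain ⟨T, hTle⟩ := hdpg.exists_le_sylow
  have hdT : dK ∈ T := hTle (Subgroup.mem_zpowers dK)
  have hzc : ∀ g : K, g * z = z * g := fun g => Subtype.ext ((hKmem g).1 g.2)
  have hzT : z ∈ T := by
    have hzpg : IsPGroup 2 (Subgroup.zpowers z) := by
      refine IsPGroup.of_card (n := 1) ?_
      rw [Nat.card_zpowers]
      have : orderOf z = 2 := by
        apply orderOf_eq_prime
        · rw [pow_two]; exact hzz
        · intro h; exact hp1 (congrArg Subtype.val h)
      rw [this, pow_one]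
    have h1 := hzpg.inf_normalizer_sylow T
    have h2 : z ∈ (Subgroup.zpowers z ⊓ Subgroup.normalizer (T : Set K) : Subgroup K) := by
      refine ⟨Subgroup.mem_zpowers z, ?_⟩
      show z ∈ Subgroup.normalizer (T : Set K)
      rw [Subgroup.mem_set_normalizer_iff]
      intro h
      have : z * h * z⁻¹ = h := by
        rw [← hzc h]; group
      rw [this]
    rw [h1] at h2
    exact h2.2
  -- T lies in M
  have hTM : ∀ t : K, t ∈ T → (t : G) ∈ M := by
    intro t ht
    have hpg : IsPGroup 2 ((T : Subgroup K).map K.subtype) :=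
      (T.isPGroup').map K.subtype
    exact pgroup_le_stab hF3d _ hpg ⟨dK, hdT, rfl⟩ ⟨t, ht, rfl⟩
  have hpM : p ∈ M :=
    mem_stab_of_comm (x := d) Relation.ReflTransGen.refl hdp'.symm
  -- apply the core
  have hcore : ∀ g : K, g ∈ M.subgroupOf K := by
    refine T2Core.core z dK hzc hzz
      (fun h => hp1 (congrArg Subtype.val h)) hdKK
      (fun h => hd1 (congrArg Subtype.val h))
      (fun h => hdp (congrArg Subtype.val h))
      (M.subgroupOf K) hpM
      (A.subgroupOf K)
      (fun a ha b hb => Subtype.ext (hAab a ha b hb))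
      (fun a ha => Subtype.ext (hAel a ha))
      T hdT hzT
      ?_ ?_ ?_
    · -- hiso
      intro g hg
      set x : G := (g : G) * d * (g : G)⁻¹ with hx
      have hxM : x ∈ M := hTM _ hg
      have hxD : x ∈ D := hnorm _ _ hd
      have hxC : Conn D d x := hF3d x hxD hxM
      have hxx := (hD x hxD).1
      have hgp : (g : G) * p = p * g := (hKmem g).1 g.2
      have h5 : (g : G)⁻¹ * p * (g : G) = p := by
        rw [mul_assoc, ← hgp]; group
      have hgp' : (g : G)⁻¹ * p = p * (g : G)⁻¹ := by
        calc (g : G)⁻¹ * p = ((g : G)⁻¹ * p * (g : G)) * (g : G)⁻¹ := by group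
          _ = p * (g : G)⁻¹ := by rw [h5]
      have hxp : x * p = p * x := by
        calc x * p = (g : G) * d * ((g : G)⁻¹ * p) := by rw [hx]; group
          _ = (g : G) * d * (p * (g : G)⁻¹) := by rw [hgp']
          _ = (g : G) * (d * p) * (g : G)⁻¹ := by group
          _ = (g : G) * (p * d) * (g : G)⁻¹ := by rw [hdp']
          _ = ((g : G) * p) * d * (g : G)⁻¹ := by group
          _ = (p * g) * d * (g : G)⁻¹ := by rw [hgp]
          _ = p * x := by rw [hx]; group
      have hxe : Conn D e x := conn_trans (conn_symm hd hconne) hxC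
      have hxp2 : x * (d * e) = (d * e) * x := by rw [← hp]; exact hxp
      obtain ⟨hxd, hxe'⟩ := comm_of_comm_prod hdd hee hxx hcomm hne hxp2
        (h3 d hd x hxC) (h3 e heD x hxe)
      have hcases : x = d ∨ x = e := by
        by_contra hcon
        rw [not_or] at hcon
        obtain ⟨hxnd, hxne⟩ := hcon
        have hf : x * p ∈ D := by
          have e1 : x * p = (g : G) * e * (g : G)⁻¹ := by
            calc x * p = (g : G) * d * ((g : G)⁻¹ * p * (g : G)) * (g : G)⁻¹ := by rw [hx]; group
              _ = (g : G) * (d * p) * (g : G)⁻¹ := by rw [h5]; group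
              _ = (g : G) * e * (g : G)⁻¹ := by rw [hpd]
          rw [e1]
          exact hnorm _ _ heD
        refine h4 d hd e x (x * p) he ⟨hxD, hxnd, hxd⟩ ⟨hf, ?_, ?_⟩ ?_ ?_ ?_ ?_ ?_ ?_ ?_
        · -- x * p ≠ d
          intro h
          apply hxne
          calc x = x * p * p := by rw [mul_assoc, hpp, mul_one]
            _ = d * p := by rw [h]
            _ = e := hpd
        · -- d commutes with x * p
          calc d * (x * p) = (d * x) * p := by group
            _ = (x * d) * p := by rw [hxd]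
            _ = x * (d * p) := by group
            _ = x * (p * d) := by rw [hdp']
            _ = x * p * d := by group
        · exact fun h => hxne h.symm
        · -- e ≠ x * p
          intro h
          apply hxnd
          calc x = x * p * p := by rw [mul_assoc, hpp, mul_one]
            _ = e * p := by rw [← h]
            _ = d := hpe
        · -- x ≠ x * p
          intro h
          exact hp1 (by simpa using h)
        · exact hxe'
        · -- e commutes with x * p
          calc e * (x * p) = (e * x) * p := by group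
            _ = (x * e) * p := by rw [hxe']
            _ = x * (e * p) := by group
            _ = x * (p * e) := by rw [hep']
            _ = x * p * e := by group
        · -- x commutes with x * p
          rw [mul_assoc x p x, ← hxp]
        · -- the product is one
          calc d * e * x * (x * p) = d * e * (x * x) * p := by group
            _ = p * p := by rw [hxx, mul_one, hp]
            _ = 1 := hpp
      rcases hcases with h | h
      · left
        exact Subtype.ext h
      · right
        apply Subtype.ext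
        show x = d * p
        rw [h, hpd]
    · -- hC
      intro B hB hBi
      have hBG : B.map K.subtype ≤ A := by
        rintro _ ⟨b, hb, rfl⟩
        exact hB hb
      have hAm : (A.subgroupOf K).map K.subtype = A := by
        rw [Subgroup.map_subgroupOf_eq_of_le hAK]
      have hri : (B.map K.subtype).relIndex A = B.relIndex (A.subgroupOf K) := by
        conv_lhs => rw [← hAm]
        exact Subgroup.relIndex_map_map_of_injective _ _ K.subtype_injective
      by_cases h2 : B.relIndex (A.subgroupOf K) = 1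
      · refine ⟨dK, (Subgroup.relIndex_eq_one.1 h2) hdA, ?_⟩
        intro o ho
        show (o : G) ∈ M
        exact mem_stab_of_comm (x := d) Relation.ReflTransGen.refl (congrArg Subtype.val ho)
      · have h0 : B.relIndex (A.subgroupOf K) ≠ 0 := by
          show (B.subgroupOf (A.subgroupOf K)).index ≠ 0
          exact Subgroup.index_ne_zero_of_finite
        have h22 : B.relIndex (A.subgroupOf K) = 2 := by omega
        obtain ⟨x, hxD, hxB, hxC⟩ := hhyp _ hBG (by rw [hri]; exact h22)
        obtain ⟨b, hb, rfl⟩ := hxB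
        refine ⟨b, hb, ?_⟩
        intro o ho
        show (o : G) ∈ M
        exact mem_stab_of_comm hxC (congrArg Subtype.val ho)
    · -- hdM
      intro g hg
      show Conn D d ((g : G) * d * (g : G)⁻¹)
      rcases hg with h | h
      · have h' : (g : G) * d * (g : G)⁻¹ = d := congrArg Subtype.val h
        rw [h']
        exact Relation.ReflTransGen.refl
      · have h' : (g : G) * d * (g : G)⁻¹ = d * p := congrArg Subtype.val h
        rw [h', hpd]
        exact hconne
  intro g hg
  have h0 : g ∈ M := hcore ⟨g, (hKmem g).2 hg⟩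
  exact fix_of_mem_stab h0

end Cfsg.Agent.Lib.H77
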