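import Mathlib
import Cfsg.Agent.Lib.H77Defs

/-! Piece T3a of Hunt's theorem (S5377): a component of size `≡ 2 mod 4` and even signs give a
fixed point of every involution stabilising the component. -/

set_option autoImplicit false

namespace Cfsg.Agent.Lib.H77

open MulAction

theorem card_orb_mul_stab {G X : Type*} [Group G] [MulAction G X] (x : X) :
    Nat.card (orbit G x) * Nat.card (stabilizer G x) = Nat.card G := by
  rw [Nat.card_congr (orbitEquivQuotientStabilizer G x)]
  exact (Subgroup.card_eq_card_quotient_mul_card_subgroup _).symm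

section Abstract

variable {M X : Type*} [Group M] [Finite M] [MulAction M X] [Finite X]

/-- Orbit of a 2-group on a set of size `≡ 2 mod 4`: some orbit has size at most 2, and then the
stabiliser in a Sylow 2-subgroup is normal in it and Sylow in the point stabiliser. -/
theorem exists_sylow_stab_aux (htr : ∀ a b : X, ∃ m : M, m • a = b) (hc : Nat.card X % 4 = 2)
    (T : Sylow 2 M) :
    ∃ x : X, (∀ t ∈ (T : Subgroup M), ∀ s ∈ ((T : Subgroup M) ⊓ stabilizer M x),
        t * s * t⁻¹ ∈ ((T : Subgroup M) ⊓ stabilizer M x)) ∧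
      Nat.card ↥((T : Subgroup M) ⊓ stabilizer M x) =
        2 ^ (Nat.card (stabilizer M x)).factorization 2 := by
  classical
  haveI : Fintype X := Fintype.ofFinite X
  have hP : IsPGroup 2 (T : Subgroup M) := T.isPGroup'
  -- some orbit is small
  have hsmall : ∃ x : X, ¬ 4 ∣ Nat.card (orbit ↥(T : Subgroup M) x) := by
    by_contra hcon
    push Not at hcon
    have h1 : Nat.card X = Nat.card (Σ ω : Quotient (orbitRel ↥(T : Subgroup M) X),
        orbit ↥(T : Subgroup M) ω.out) :=
      Nat.card_congr (selfEquivSigmaOrbits ↥(T : Subgroup M) X)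
    have h2 : 4 ∣ Nat.card X := by
      rw [h1, Nat.card_sigma]
      exact Finset.dvd_sum (fun i _ => hcon _)
    omega
  obtain ⟨x, hx⟩ := hsmall
  refine ⟨x, ?_⟩
  obtain ⟨n, hn⟩ := hP.card_orbit x
  have hn1 : n ≤ 1 := by
    by_contra h
    apply hx
    rw [hn]
    exact pow_dvd_pow 2 (by omega : 2 ≤ n)
  -- stabiliser in T
  set S0 : Subgroup ↥(T : Subgroup M) := stabilizer ↥(T : Subgroup M) x with hS0
  have hS0P : IsPGroup 2 S0 := hP.to_subgroup S0
  obtain ⟨a, ha⟩ := IsPGroup.iff_card.mp hS0P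
  have hidx : Nat.card (orbit ↥(T : Subgroup M) x) * Nat.card S0 = Nat.card (T : Subgroup M) :=
    card_orb_mul_stab x
  -- embedding of S0 in the point stabiliser of M
  have hle : S0.map (T : Subgroup M).subtype = (T : Subgroup M) ⊓ stabilizer M x := by
    ext g
    constructor
    · rintro ⟨s, hs, rfl⟩
      exact ⟨s.2, hs⟩
    · rintro ⟨h1, h2⟩
      exact ⟨⟨g, h1⟩, h2, rfl⟩
  have hcardS : Nat.card ↥((T : Subgroup M) ⊓ stabilizer M x) = Nat.card S0 := by
    rw [← hle]
    exact Nat.card_congr (Subgroup.equivMapOfInjective S0 _ Subtype.val_injective).symm.toEquiv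
  have hdvd : Nat.card S0 ∣ Nat.card (stabilizer M x) := by
    rw [← hcardS]
    exact Subgroup.card_dvd_of_le inf_le_right
  -- orbit-stabiliser for M
  have horb : orbit M x = Set.univ := by
    ext y
    simp only [Set.mem_univ, iff_true]
    obtain ⟨m, hm⟩ := htr x y
    exact ⟨m, hm⟩
  have hM : Nat.card X * Nat.card (stabilizer M x) = Nat.card M := by
    have := card_orb_mul_stab (G := M) x
    rw [horb] at this
    simpa only [Nat.card_coe_set_eq, Set.ncard_univ] using this
  have hc0 : Nat.card (stabilizer M x) ≠ 0 := Nat.card_pos.ne'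
  have hX0 : Nat.card X ≠ 0 := by omega
  have hfacX : (Nat.card X).factorization 2 = 1 := by
    obtain ⟨q, hq⟩ : ∃ q, Nat.card X = 2 * (2 * q + 1) := ⟨Nat.card X / 4, by omega⟩
    rw [hq, Nat.factorization_mul (by norm_num) (by omega), Finsupp.add_apply,
      Nat.Prime.factorization_self Nat.prime_two,
      Nat.factorization_eq_zero_of_not_dvd (by omega)]
  have hT : Nat.card (T : Subgroup M) = 2 ^ ((Nat.card (stabilizer M x)).factorization 2 + 1) := by
    rw [T.card_eq_multiplicity, ← hM, Nat.factorization_mul hX0 hc0, Finsupp.add_apply, hfacX]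
    congr 1
    omega
  set e := (Nat.card (stabilizer M x)).factorization 2 with he
  have hae : a ≤ e := by
    rw [ha] at hdvd
    exact (Nat.Prime.pow_dvd_iff_le_factorization Nat.prime_two hc0).mp hdvd
  have hsum : n + a = e + 1 := by
    have h := hidx
    rw [hn, ha, hT, ← pow_add] at h
    exact Nat.pow_right_injective (le_refl 2) h
  have hn' : n = 1 := by omega
  have hae' : a = e := by omega
  have hidx2 : S0.index = 2 := by
    have h1 : S0.index = Nat.card (orbit ↥(T : Subgroup M) x) :=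
      Nat.card_congr (orbitEquivQuotientStabilizer ↥(T : Subgroup M) x).symm
    rw [h1, hn, hn', pow_one]
  haveI hnorm : S0.Normal := Subgroup.normal_of_index_eq_two hidx2
  refine ⟨?_, by rw [hcardS, ha, hae']⟩
  intro t ht s hs
  have hsS : (⟨s, hs.1⟩ : ↥(T : Subgroup M)) ∈ S0 := hs.2
  have := hnorm.conj_mem _ hsS ⟨t, ht⟩
  have hmem : t * s * t⁻¹ ∈ S0.map (T : Subgroup M).subtype :=
    ⟨_, this, by simp⟩
  rwa [hle] at hmem

end Abstract

section Conn

variable {G : Type*} [Group G] {D : Set G}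

theorem conn_mem (x y : G) (hx : x ∈ D) (h : Conn D x y) : y ∈ D := by
  induction h with
  | refl => exact hx
  | tail _ hbc _ => exact hbc.1

theorem conn_symm {x y : G} (hx : x ∈ D) (h : Conn D x y) : Conn D y x := by
  induction h with
  | refl => exact Relation.ReflTransGen.refl
  | @tail b c hab hbc ih =>
    have hb : b ∈ D := conn_mem x b hx hab
    have hbc' : b ∈ Nb D c := ⟨hb, fun h => hbc.2.1 h.symm, hbc.2.2.symm⟩
    exact Relation.ReflTransGen.head hbc' ih

theorem conn_conj (hnorm : ∀ g : G, ∀ x ∈ D, g * x * g⁻¹ ∈ D) (g : G) {x y : G}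
    (h : Conn D x y) : Conn D (g * x * g⁻¹) (g * y * g⁻¹) := by
  induction h with
  | refl => exact Relation.ReflTransGen.refl
  | @tail b c _ hbc ih =>
    refine ih.tail ⟨hnorm g c hbc.1, ?_, ?_⟩
    · intro h
      apply hbc.2.1
      simpa using h
    · have := hbc.2.2
      calc g * b * g⁻¹ * (g * c * g⁻¹) = g * (b * c) * g⁻¹ := by group
        _ = g * (c * b) * g⁻¹ := by rw [this]
        _ = g * c * g⁻¹ * (g * b * g⁻¹) := by group

/-- If `g` carries a vertex of the component of `x0` into the component of `x0` then it stabilises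
the component. -/
theorem conn_iff_of_conj (hnorm : ∀ g : G, ∀ x ∈ D, g * x * g⁻¹ ∈ D) {x0 u v g : G} (hx0 : x0 ∈ D)
    (hu : Conn D x0 u) (hv : Conn D x0 v) (hg : g * u * g⁻¹ = v) (w : G) :
    Conn D x0 w ↔ Conn D x0 (g * w * g⁻¹) := by
  have huD : u ∈ D := conn_mem _ _ hx0 hu
  constructor
  · intro hw
    have h1 : Conn D u w := (conn_symm hx0 hu).trans hw
    have h2 := conn_conj hnorm g h1
    rw [hg] at h2
    exact hv.trans h2
  · intro hw
    have h1 : Conn D v (g * w * g⁻¹) := (conn_symm hx0 hv).trans hw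
    have h2 := conn_conj hnorm g⁻¹ h1
    have h3 : g⁻¹ * v * g⁻¹⁻¹ = u := by rw [← hg]; group
    have h4 : g⁻¹ * (g * w * g⁻¹) * g⁻¹⁻¹ = w := by group
    rw [h3, h4] at h2
    exact hu.trans h2

/-- The stabiliser of the component of `x0`. -/
def compStab (D : Set G) (x0 : G) : Subgroup G where
  carrier := {g | ∀ w, Conn D x0 w ↔ Conn D x0 (g * w * g⁻¹)}
  mul_mem' := by
    intro a b ha hb w
    rw [hb w, ha (b * w * b⁻¹)]
    have : a * (b * w * b⁻¹) * a⁻¹ = a * b * w * (a * b)⁻¹ := by group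
    rw [this]
  one_mem' := by
    intro w
    simp
  inv_mem' := by
    intro a ha w
    have h := ha (a⁻¹ * w * a⁻¹⁻¹)
    have h4 : a * (a⁻¹ * w * a⁻¹⁻¹) * a⁻¹ = w := by group
    rw [h4] at h
    exact h.symm

/-- The conjugation action of the stabiliser on the component. -/
def compAction (D : Set G) (x0 : G) : MulAction ↥(compStab D x0) {u // Conn D x0 u} where
  smul m u := ⟨(m : G) * u.1 * (m : G)⁻¹, (m.2 u.1).mp u.2⟩
  one_smul u := by
    apply Subtype.ext
    show ((1 : ↥(compStab D x0)) : G) * u.1 * ((1 : ↥(compStab D x0)) : G)⁻¹ = u.1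
    simp
  mul_smul a b u := by
    apply Subtype.ext
    show ((a * b : ↥(compStab D x0)) : G) * u.1 * ((a * b : ↥(compStab D x0)) : G)⁻¹ =
      (a : G) * ((b : G) * u.1 * (b : G)⁻¹) * (a : G)⁻¹
    simp only [Subgroup.coe_mul]
    group

end Conn

/-- A fixed point free involution of a finite type of cardinality `≡ 2 mod 4` is odd. -/
theorem sign_eq_neg_one_of_fpf {α : Type*} [Fintype α] [DecidableEq α] (π : Equiv.Perm α)
    (h2 : ∀ a, π (π a) = a) (hf : ∀ a, π a ≠ a) (hc : Fintype.card α % 4 = 2) :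
    Equiv.Perm.sign π = -1 := by
  have hpow : π ^ 2 = 1 := by
    ext a
    simp [pow_two, h2]
  have hsupp : π.support = Finset.univ := by
    ext a
    simp [hf a]
  have hall : ∀ n ∈ π.cycleType, n = 2 := by
    intro n hn
    have h1 := Equiv.Perm.two_le_of_mem_cycleType hn
    have h3 := Equiv.Perm.dvd_of_mem_cycleType hn
    have h4 : orderOf π ∣ 2 := orderOf_dvd_of_pow_eq_one hpow
    have h5 : n ∣ 2 := h3.trans h4
    have := Nat.le_of_dvd (by norm_num) h5
    omega
  have hrep : π.cycleType = Multiset.replicate (Multiset.card π.cycleType) 2 :=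
    Multiset.eq_replicate.mpr ⟨rfl, hall⟩
  have hsum : π.cycleType.sum = Fintype.card α := by
    rw [Equiv.Perm.sum_cycleType, hsupp, Finset.card_univ]
  have hsum2 : π.cycleType.sum = Multiset.card π.cycleType * 2 := by
    conv_lhs => rw [hrep]
    simp
  rw [Equiv.Perm.sign_of_cycleType, hsum]
  set c := Multiset.card π.cycleType with hcdef
  have hodd : Odd (Fintype.card α + c) := by
    rw [Nat.odd_iff]
    omega
  exact hodd.neg_one_pow

theorem exists_fix_of_even {G : Type*} [Group G] [Finite G] {D : Set G}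
    (hD : ∀ x ∈ D, x * x = 1 ∧ x ≠ 1) (hclass : ∀ x ∈ D, ∀ y ∈ D, ∃ g : G, g * x * g⁻¹ = y)
    (hnorm : ∀ g : G, ∀ x ∈ D, g * x * g⁻¹ ∈ D) (x0 : G) (hx0 : x0 ∈ D)
    (hcard : Set.ncard {u | Conn D x0 u} % 4 = 2)
    (J : ∀ x, Conn D x0 x → ∀ S : Sylow 2 (Subgroup.centralizer ({x} : Set G)),
      ∃ A : Subgroup G,
        (∀ t : G, (∀ s, s ∈ (S : Subgroup ↥(Subgroup.centralizer ({x} : Set G))).map
              (Subgroup.subtype _) →
            t * s * t⁻¹ ∈ (S : Subgroup ↥(Subgroup.centralizer ({x} : Set G))).map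
              (Subgroup.subtype _)) →
          (∀ a ∈ A, t * a * t⁻¹ ∈ A)) ∧
        (∀ u ∈ D, u ∈ A → Conn D x0 u) ∧
        Set.ncard {u | u ∈ D ∧ u ∈ A} % 4 = 2 ∧
        (∀ n : G, (∀ a ∈ A, n * a * n⁻¹ ∈ A) → ∀ (_ : Fintype {u // u ∈ D ∧ u ∈ A})
          (_ : DecidableEq {u // u ∈ D ∧ u ∈ A}) (π : Equiv.Perm {u // u ∈ D ∧ u ∈ A}),
          (∀ u, (π u : G) = n * u * n⁻¹) → Equiv.Perm.sign π = 1))
    (z : G) (hz : z * z = 1) (hz1 : z ≠ 1) (hfix : FixComp D x0 z) :
    ∃ u, Conn D x0 u ∧ z * u = u * z := by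
  classical
  have hzinv : z⁻¹ = z := by
    rw [inv_eq_iff_mul_eq_one]; exact hz
  -- the group M and the action
  letI act := compAction D x0
  have hM_mem : ∀ {u v g : G}, Conn D x0 u → Conn D x0 v → g * u * g⁻¹ = v → g ∈ compStab D x0 :=
    fun hu hv hg w => conn_iff_of_conj hnorm hx0 hu hv hg w
  have hsmul : ∀ (m : ↥(compStab D x0)) (u : {u // Conn D x0 u}),
      ((m • u : {u // Conn D x0 u}) : G) = (m : G) * u.1 * (m : G)⁻¹ := fun _ _ => rfl
  have htr : ∀ a b : {u // Conn D x0 u}, ∃ m : ↥(compStab D x0), m • a = b := by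
    intro a b
    obtain ⟨g, hg⟩ := hclass a.1 (conn_mem _ _ hx0 a.2) b.1 (conn_mem _ _ hx0 b.2)
    exact ⟨⟨g, hM_mem a.2 b.2 hg⟩, Subtype.ext hg⟩
  have hcardX : Nat.card {u // Conn D x0 u} % 4 = 2 := by
    rw [← Nat.card_coe_set_eq] at hcard
    exact hcard
  -- z in M
  have hzM : z ∈ compStab D x0 := by
    intro w
    constructor
    · exact hfix w
    · intro h
      have := hfix _ h
      have h2 : z * (z * w * z⁻¹) * z⁻¹ = w := by
        rw [hzinv]
        calc z * (z * w * z) * z = (z * z) * w * (z * z) := by group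
          _ = w := by rw [hz]; group
      rwa [h2] at this
  set zM : ↥(compStab D x0) := ⟨z, hzM⟩ with hzMdef
  have hzM2 : zM * zM = 1 := Subtype.ext hz
  have hzM1 : zM ≠ 1 := fun h => hz1 (congrArg Subtype.val h)
  have hordz : orderOf zM = 2 := by
    apply orderOf_eq_prime
    · rw [pow_two]; exact hzM2
    · exact hzM1
  have hzP : IsPGroup 2 (Subgroup.zpowers zM) := by
    apply IsPGroup.of_card (n := 1)
    rw [Nat.card_zpowers, hordz, pow_one]
  obtain ⟨T, hT⟩ := hzP.exists_le_sylow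
  have hzT : zM ∈ (T : Subgroup ↥(compStab D x0)) := hT (Subgroup.mem_zpowers zM)
  obtain ⟨x, hnormal, hcardS⟩ := exists_sylow_stab_aux htr hcardX T
  set S0 : Subgroup ↥(compStab D x0) := (T : Subgroup ↥(compStab D x0)) ⊓
    stabilizer ↥(compStab D x0) x with hS0
  -- centraliser of x lies in M; comparison of cardinalities
  have hCM : ∀ g : G, g ∈ Subgroup.centralizer ({x.1} : Set G) → g ∈ compStab D x0 := by
    intro g hg
    have hc : x.1 * g = g * x.1 := by
      simpa using Subgroup.mem_centralizer_iff.mp hg x.1 (Set.mem_singleton _)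
    refine hM_mem x.2 x.2 ?_
    rw [← hc]; group
  have hstabmem : ∀ m : ↥(compStab D x0), m ∈ stabilizer ↥(compStab D x0) x ↔
      (m : G) ∈ Subgroup.centralizer ({x.1} : Set G) := by
    intro m
    rw [mem_stabilizer_iff, Subgroup.mem_centralizer_iff]
    constructor
    · intro h y hy
      rw [Set.mem_singleton_iff] at hy
      subst hy
      have h1 : (m : G) * x.1 * (m : G)⁻¹ = x.1 := by
        rw [← hsmul, h]
      calc x.1 * (m : G) = (m : G) * x.1 * (m : G)⁻¹ * (m : G) := by rw [h1]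
        _ = (m : G) * x.1 := by group
    · intro h
      have h1 := h x.1 (Set.mem_singleton _)
      apply Subtype.ext
      rw [hsmul, ← h1]
      group
  have hcardstab : Nat.card (stabilizer ↥(compStab D x0) x) =
      Nat.card (Subgroup.centralizer ({x.1} : Set G)) := by
    apply Nat.card_congr
    refine ⟨fun m => ⟨((m : ↥(compStab D x0)) : G), (hstabmem _).mp m.2⟩,
      fun g => ⟨⟨g.1, hCM _ g.2⟩, (hstabmem _).mpr g.2⟩, ?_, ?_⟩
    · intro m; rfl
    · intro g; rfl
  -- the Sylow subgroup of the centraliser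
  set SG : Subgroup G := S0.map (compStab D x0).subtype with hSG
  have hSGle : SG ≤ Subgroup.centralizer ({x.1} : Set G) := by
    rintro _ ⟨m, hm, rfl⟩
    exact (hstabmem m).mp hm.2
  set SC : Subgroup ↥(Subgroup.centralizer ({x.1} : Set G)) :=
    SG.comap (Subgroup.centralizer ({x.1} : Set G)).subtype with hSC
  have hcardSC : Nat.card SC = Nat.card S0 := by
    apply Nat.card_congr
    refine ⟨fun s => ⟨⟨s.1.1, hCM _ s.1.2⟩, ?_⟩, fun s => ⟨⟨s.1.1, (hstabmem _).mp s.2.2⟩, ?_⟩,
      ?_, ?_⟩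
    · obtain ⟨m, hm, hme⟩ := s.2
      have : (⟨s.1.1, hCM _ s.1.2⟩ : ↥(compStab D x0)) = m := Subtype.ext hme.symm
      rw [this]; exact hm
    · exact ⟨s.1, s.2, rfl⟩
    · intro s; rfl
    · intro s; rfl
  let S' : Sylow 2 (Subgroup.centralizer ({x.1} : Set G)) :=
    Sylow.ofCard SC (by rw [hcardSC, hcardS, hcardstab])
  have hS'coe : (S' : Subgroup ↥(Subgroup.centralizer ({x.1} : Set G))) = SC := rfl
  have hS'map : (S' : Subgroup ↥(Subgroup.centralizer ({x.1} : Set G))).map
      (Subgroup.subtype _) = SG := by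
    rw [hS'coe, hSC, Subgroup.map_comap_eq, Subgroup.range_subtype]
    exact inf_eq_right.mpr hSGle
  obtain ⟨A, hA1, hA2, hA3, hA4⟩ := J x.1 x.2 S'
  -- z normalises A
  have hzA : ∀ a ∈ A, z * a * z⁻¹ ∈ A := by
    apply hA1
    rw [hS'map]
    rintro _ ⟨m, hm, rfl⟩
    refine ⟨zM * m * zM⁻¹, hnormal zM hzT m hm, ?_⟩
    simp [hzMdef]
  -- the permutation of D ∩ A
  have hzzi : ∀ a : G, z * (z * a * z⁻¹) * z⁻¹ = a := by
    intro a
    rw [hzinv]
    calc z * (z * a * z) * z = (z * z) * a * (z * z) := by group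
      _ = a := by rw [hz]; group
  let f : {u // u ∈ D ∧ u ∈ A} → {u // u ∈ D ∧ u ∈ A} :=
    fun u => ⟨z * u.1 * z⁻¹, hnorm z u.1 u.2.1, hzA u.1 u.2.2⟩
  have hff : ∀ u, f (f u) = u := fun u => Subtype.ext (hzzi u.1)
  let π : Equiv.Perm {u // u ∈ D ∧ u ∈ A} := ⟨f, f, hff, hff⟩
  haveI instF : Fintype {u // u ∈ D ∧ u ∈ A} := Fintype.ofFinite _
  have hπ : Equiv.Perm.sign π = 1 := hA4 z hzA instF inferInstance π (fun _ => rfl)
  by_contra hcon
  push Not at hcon
  have hfpf : ∀ u, π u ≠ u := by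
    intro u hu
    have h1 : z * u.1 * z⁻¹ = u.1 := congrArg Subtype.val hu
    apply hcon u.1 (hA2 u.1 u.2.1 u.2.2)
    calc z * u.1 = z * u.1 * z⁻¹ * z := by group
      _ = u.1 * z := by rw [h1]
  have hcA : Fintype.card {u // u ∈ D ∧ u ∈ A} % 4 = 2 := by
    rw [← Nat.card_eq_fintype_card]
    have h := hA3
    rw [← Nat.card_coe_set_eq] at h
    exact h
  have := sign_eq_neg_one_of_fpf π hff hfpf hcA
  rw [hπ] at this
  exact absurd this (by decide)

end Cfsg.Agent.Lib.H77
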