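import Cfsg.Agent.Lib.H97F4

/-!
Variants of the trichotomy with more data, for forms.
-/

set_option autoImplicit false
set_option linter.unusedSectionVars false
set_option linter.style.haveILetI false

namespace Cfsg.Agent.H97.Asch

open Matrix Cfsg Cfsg.Geo
open scoped MatrixGroups commutatorElement Kronecker

variable {ι : Type} [Fintype ι] [DecidableEq ι] {F : Type*} [Field F]

theorem simple_core3 [Fintype F] [Nonempty ι] {H P : Subgroup (GL ι F)} (hspan : spanG P = ⊤)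
    (hP : ⁅P, P⁆ = P) (hnot : ¬ P ≤ scalars ι F) (hHP : Nrm H P)
    (hmin : ∀ M, M ≤ P → Nrm H M → ¬ M ≤ scalars ι F → M = P) :
    (∀ T₁ : Subgroup (GL ι F), T₁ ≤ P → Nrm P T₁ → T₁ ≤ scalars ι F ∨ T₁ = P) ∨
    (∃ (m t : ℕ) (_ : NeZero m) (_ : NeZero t) (ψ : Fin t → (Matrix (Fin m) (Fin m) F →ₐ[F] Matrix ι ι F)) (T' : Subgroup (GL ι F))
        (ψ₁ : Matrix (Fin m) (Fin m) F →ₐ[F] Matrix ι ι F), 2 ≤ m ∧ 2 ≤ t ∧ T' ≤ P ∧
      (Pairwise fun i j => ∀ x y, Commute (ψ i x) (ψ j y)) ∧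
      (∀ W : Submodule F (ι → F), (∀ i x, ∀ w ∈ W, ψ i x *ᵥ w ∈ W) → W = ⊥ ∨ W = ⊤) ∧
      (∀ g ∈ H, ∃ τ : Equiv.Perm (Fin t), ∀ (i : Fin t) (M : Matrix (Fin m) (Fin m) F), ∃ M',
        (g : Matrix ι ι F) * ψ i M * ((g⁻¹ : GL ι F) : Matrix ι ι F) = ψ (τ i) M') ∧
      (∀ M, ψ₁ M ∈ spanG T') ∧ (∀ x ∈ spanG T', ∃ M, ψ₁ M = x) ∧
      ∀ i, ∃ r ∈ H, ψ i = (conjAlg r).comp ψ₁) := by
  classical
  by_cases hgood : ∀ T₁ : Subgroup (GL ι F), T₁ ≤ P → Nrm P T₁ → T₁ ≤ scalars ι F ∨ T₁ = P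
  · exact Or.inl hgood
  right
  push Not at hgood
  obtain ⟨T₁, hT₁, hT₁n, hns, hne⟩ := hgood
  have hPirr : Irr P := irr_of_spanG hspan
  set Sc := scalars ι F with hSc
  set Z₀ : Subgroup (GL ι F) := P ⊓ Sc with hZ₀
  have hZ₀Sc : Z₀ ≤ Sc := inf_le_right
  let 𝓣 : Set (Subgroup (GL ι F)) := {T | T ≤ P ∧ Nrm P T ∧ Z₀ ≤ T ∧ ¬ T ≤ Sc}
  have hT₁'𝓣 : T₁ ⊔ Z₀ ∈ 𝓣 := by
    refine ⟨sup_le hT₁ inf_le_left, hT₁n.sup_central hZ₀Sc, le_sup_right, fun h => hns (le_sup_left.trans h)⟩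
  have hT₁'ne : T₁ ⊔ Z₀ ≠ P := by
    intro h
    apply hne
    apply le_antisymm hT₁
    have h1 : ⁅P, P⁆ ≤ ⁅T₁, T₁⁆ := by
      rw [← h]
      exact commutator_sup_central_le hZ₀Sc
    rw [hP] at h1
    exact h1.trans (by
      rw [Subgroup.commutator_le]
      intro a ha b hb
      have h2 := hT₁n a (hT₁ ha) b⁻¹ (T₁.inv_mem hb)
      rw [commutatorElement_def]
      have h3 : a * b * a⁻¹ * b⁻¹ = a * (b * a⁻¹ * b⁻¹) := by group
      rw [h3]
      refine T₁.mul_mem ha ?_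
      have h4 := hT₁n b (hT₁ hb) a⁻¹ (T₁.inv_mem ha)
      exact h4)
  -- minimal element
  obtain ⟨T, ⟨hT𝓣, hTle⟩, hTmin'⟩ := (wellFounded_lt (α := Subgroup (GL ι F))).has_min
    {T | T ∈ 𝓣 ∧ T ≤ T₁ ⊔ Z₀} ⟨_, hT₁'𝓣, le_rfl⟩
  have hTmin : ∀ T' ∈ 𝓣, T' ≤ T → T' = T := by
    intro T' hT' hle
    by_contra hne'
    exact hTmin' T' ⟨hT', hle.trans hTle⟩ (lt_of_le_of_ne hle hne')
  have hTneP : T ≠ P := by
    intro h
    apply hT₁'ne
    apply le_antisymm (sup_le hT₁ inf_le_left)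
    calc P = T := h.symm
      _ ≤ _ := hTle
  -- conjugates
  let cj : GL ι F → (GL ι F →* GL ι F) := fun h => (MulAut.conj h).toMonoidHom
  have hcj : ∀ (h x : GL ι F), cj h x = h * x * h⁻¹ := fun h x => rfl
  have hconj𝓣 : ∀ h ∈ H, ∀ T' ∈ 𝓣, T'.map (cj h) ∈ 𝓣 := by
    rintro h hh T' ⟨h1, h2, h3, h4⟩
    refine ⟨?_, ?_, ?_, ?_⟩
    · rintro _ ⟨t, ht, rfl⟩
      exact hHP h hh t (h1 ht)
    · rintro p hp _ ⟨t, ht, rfl⟩
      refine ⟨(h⁻¹ * p * h) * t * (h⁻¹ * p * h)⁻¹, h2 _ (hHP.inv hh hp) t ht, ?_⟩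
      simp only [hcj]
      group
    · intro z hz
      refine ⟨z, h3 hz, ?_⟩
      simp only [hcj]
      rw [scalar_central (hZ₀Sc hz) h]
      group
    · intro hle
      apply h4
      intro t ht
      exact mem_scalars_conj.mp (hle ⟨t, ht, rfl⟩)
  have hmapinv : ∀ (h : GL ι F) (A : Subgroup (GL ι F)), (A.map (cj h)).map (cj h⁻¹) = A := by
    intro h A
    ext x
    constructor
    · rintro ⟨_, ⟨a, ha, rfl⟩, rfl⟩
      simpa [hcj, mul_assoc] using ha
    · intro hx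
      exact ⟨h * x * h⁻¹, ⟨x, hx, rfl⟩, by simp [hcj, mul_assoc]⟩
  have hmapinv' : ∀ (h : GL ι F) (A : Subgroup (GL ι F)), (A.map (cj h⁻¹)).map (cj h) = A := by
    intro h A
    have := hmapinv h⁻¹ A
    rwa [inv_inv] at this
  have hconjmin : ∀ h ∈ H, ∀ T' ∈ 𝓣, T' ≤ T.map (cj h) → T' = T.map (cj h) := by
    intro h hh T' hT' hle
    have h1 := hTmin (T'.map (cj h⁻¹)) (hconj𝓣 _ (H.inv_mem hh) _ hT') (by
      rintro _ ⟨t, ht, rfl⟩
      obtain ⟨s, hs, rfl⟩ := hle ht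
      simpa [hcj, mul_assoc] using hs)
    rw [← h1, hmapinv']
  -- the product of all the conjugates
  let M : Subgroup (GL ι F) := ⨆ h : H, T.map (cj (h : GL ι F))
  have hMP : M ≤ P := iSup_le fun h => (hconj𝓣 h h.2 T hT𝓣).1
  have hTM : T ≤ M := by
    have : T.map (cj ((1 : H) : GL ι F)) ≤ M := le_iSup (fun h : H => T.map (cj (h : GL ι F))) 1
    intro t ht
    apply this
    exact ⟨t, ht, by simp [hcj]⟩
  have hMn : Nrm H M := by
    intro k hk x hx
    have hle : M.map (cj k) ≤ M := by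
      rw [Subgroup.map_iSup]
      refine iSup_le fun h => ?_
      rintro _ ⟨_, ⟨t, ht, rfl⟩, rfl⟩
      have : T.map (cj ((⟨k * h, H.mul_mem hk h.2⟩ : H) : GL ι F)) ≤ M :=
        le_iSup (fun h : H => T.map (cj (h : GL ι F))) ⟨k * h, H.mul_mem hk h.2⟩
      apply this
      refine ⟨t, ht, ?_⟩
      simp only [hcj]
      group
    exact hle ⟨x, hx, rfl⟩
  have hMeq : M = P := hmin M hMP hMn (fun h => hT𝓣.2.2.2 (hTM.trans h))
  obtain ⟨h₀, hh₀, hT₂ne⟩ : ∃ h ∈ H, T.map (cj h) ≠ T := by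
    by_contra hall
    push Not at hall
    apply hTneP
    rw [← hMeq]
    apply le_antisymm hTM
    refine iSup_le fun h => ?_
    rw [hall h h.2]
  set T₂ := T.map (cj h₀) with hT₂
  have hT₂𝓣 : T₂ ∈ 𝓣 := hconj𝓣 h₀ hh₀ T hT𝓣
  -- distinct minimal elements commute modulo scalars
  have hpair : ∀ A B : Subgroup (GL ι F), A ∈ 𝓣 → B ∈ 𝓣 → (∀ T' ∈ 𝓣, T' ≤ A → T' = A) → (∀ T' ∈ 𝓣, T' ≤ B → T' = B) →
      A ≠ B → ∀ a ∈ A, ∀ b ∈ B, ⁅a, b⁆ ∈ Sc := by
    intro A B hA hB hAm hBm hAB a ha b hb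
    have hinf : A ⊓ B ≤ Sc := by
      by_contra hnotle
      have hmem : A ⊓ B ∈ 𝓣 := by
        refine ⟨inf_le_left.trans hA.1, ?_, le_inf hA.2.2.1 hB.2.2.1, hnotle⟩
        intro p hp x hx
        exact ⟨hA.2.1 p hp x hx.1, hB.2.1 p hp x hx.2⟩
      have h1 := hAm _ hmem inf_le_left
      have h2 := hBm _ hmem inf_le_right
      exact hAB (h1.symm.trans h2)
    apply hinf
    constructor
    · rw [commutatorElement_def]
      have h3 : a * b * a⁻¹ * b⁻¹ = a * (b * a⁻¹ * b⁻¹) := by group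
      show a * b * a⁻¹ * b⁻¹ ∈ A
      rw [h3]
      exact A.mul_mem ha (hA.2.1 b (hB.1 hb) a⁻¹ (A.inv_mem ha))
    · rw [commutatorElement_def]
      show a * b * a⁻¹ * b⁻¹ ∈ B
      exact B.mul_mem (hB.2.1 a (hA.1 ha) b hb) (B.inv_mem hb)
  -- the derived subgroup of `T` is not scalar
  have hT'ns : ¬ (⁅T, T⁆ : Subgroup (GL ι F)) ≤ Sc := by
    intro hle
    apply hnot
    rw [← hP, Subgroup.commutator_le]
    -- all pairs commute modulo scalars
    have hallp : ∀ h k : H, ∀ a ∈ T.map (cj (h : GL ι F)), ∀ b ∈ T.map (cj (k : GL ι F)), ⁅a, b⁆ ∈ Sc := by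
      intro h k a ha b hb
      by_cases heq : T.map (cj (h : GL ι F)) = T.map (cj (k : GL ι F))
      · rw [← heq] at hb
        obtain ⟨s, hs, rfl⟩ := ha
        obtain ⟨t, ht, rfl⟩ := hb
        have h1 : ⁅cj (h : GL ι F) s, cj (h : GL ι F) t⁆ = cj (h : GL ι F) ⁅s, t⁆ :=
          (map_commutatorElement (cj (h : GL ι F)) s t).symm
        rw [h1, hcj]
        exact mem_scalars_conj.mpr (hle (Subgroup.commutator_mem_commutator hs ht))
      · exact hpair _ _ (hconj𝓣 h h.2 T hT𝓣) (hconj𝓣 k k.2 T hT𝓣) (hconjmin h h.2) (hconjmin k k.2) heq a ha b hb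
    let ψ := QuotientGroup.mk' Sc
    have hψ : ∀ g, ψ g = 1 ↔ g ∈ Sc := fun g => QuotientGroup.eq_one_iff g
    have hcomm : ∀ a b, ⁅a, b⁆ ∈ Sc → ψ a * ψ b = ψ b * ψ a := by
      intro a b hab
      have := (hψ _).mpr hab
      rw [map_commutatorElement, commutatorElement_eq_one_iff_mul_comm] at this
      exact this
    have hstep1 : ∀ k : H, M.map ψ ≤ Subgroup.centralizer ((T.map (cj (k : GL ι F))).map ψ : Set _) := by
      intro k
      rw [Subgroup.map_iSup]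
      refine iSup_le fun h => ?_
      rintro _ ⟨a, ha, rfl⟩
      rw [Subgroup.mem_centralizer_iff]
      rintro _ ⟨b, hb, rfl⟩
      exact (hcomm a b (hallp h k a ha b hb)).symm
    have hstep2 : M.map ψ ≤ Subgroup.centralizer (M.map ψ : Set _) := by
      rw [Subgroup.le_centralizer_iff]
      rw [Subgroup.map_iSup]
      refine iSup_le fun k => ?_
      rw [← Subgroup.le_centralizer_iff, ← Subgroup.map_iSup]
      exact hstep1 k
    intro a ha b hb
    rw [← hMeq] at ha hb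
    have h1 := (Subgroup.mem_centralizer_iff.mp (hstep2 ⟨a, ha, rfl⟩)) _ ⟨b, hb, rfl⟩
    rw [← hψ, map_commutatorElement, commutatorElement_eq_one_iff_mul_comm]
    exact h1.symm
  set T' : Subgroup (GL ι F) := ⁅T, T⁆ with hT'
  have hT'n : Nrm P T' := Nrm.commutator hT𝓣.2.1
  have hT'T : T' ≤ T := by
    rw [hT', Subgroup.commutator_le]
    intro a ha b hb
    rw [commutatorElement_def]
    have h3 : a * b * a⁻¹ * b⁻¹ = a * (b * a⁻¹ * b⁻¹) := by group
    rw [h3]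
    exact T.mul_mem ha (hT𝓣.2.1 b (hT𝓣.1 hb) a⁻¹ (T.inv_mem ha))
  -- the conjugates of `T'`
  have hS' : ∀ h, T'.map (cj h) = ⁅T.map (cj h), T.map (cj h)⁆ := fun h => Subgroup.map_commutator _ _ _
  -- different conjugates commute
  have hb : ∀ h ∈ H, ∀ k ∈ H, T.map (cj h) ≠ T.map (cj k) → ∀ x ∈ T'.map (cj h), ∀ y ∈ T'.map (cj k), x * y = y * x := by
    intro h hh k hk hne' x hx y hy
    have hyT : y ∈ T.map (cj k) := by
      obtain ⟨t, ht, rfl⟩ := hy
      exact ⟨t, hT'T ht, rfl⟩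
    have hle : T'.map (cj h) ≤ Subgroup.centralizer {y} := by
      rw [hS', Subgroup.commutator_le]
      intro x₁ hx₁ x₂ hx₂
      rw [Subgroup.mem_centralizer_iff]
      intro z hz
      rw [Set.mem_singleton_iff] at hz
      subst hz
      have hp := hpair _ _ (hconj𝓣 h hh T hT𝓣) (hconj𝓣 k hk T hT𝓣) (hconjmin h hh) (hconjmin k hk) hne'
      have h1 := hp x₁ hx₁ _ hyT
      have h2 := hp x₂ hx₂ _ hyT
      refine (commutator_commute_of_central (c₁ := ⁅x₁, z⁆) (c₂ := ⁅x₂, z⁆)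
        (fun g => scalar_central h1 g) (fun g => scalar_central h2 g) ?_ ?_).symm
      · rw [commutatorElement_def]; group
      · rw [commutatorElement_def]; group
    exact (Subgroup.mem_centralizer_iff.mp (hle hx) y rfl).symm
  -- the conjugates of `T'` generate `P`
  have hgen : (⨆ h : H, T'.map (cj (h : GL ι F))) = P := by
    apply hmin
    · refine iSup_le fun h => ?_
      rintro _ ⟨t, ht, rfl⟩
      exact hHP h h.2 t ((hT'T.trans hT𝓣.1) ht)
    · intro k hk x hx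
      have hle : (⨆ h : H, T'.map (cj (h : GL ι F))).map (cj k) ≤ ⨆ h : H, T'.map (cj (h : GL ι F)) := by
        rw [Subgroup.map_iSup]
        refine iSup_le fun h => ?_
        rintro _ ⟨_, ⟨t, ht, rfl⟩, rfl⟩
        have : T'.map (cj ((⟨k * h, H.mul_mem hk h.2⟩ : H) : GL ι F)) ≤ ⨆ h : H, T'.map (cj (h : GL ι F)) :=
          le_iSup (fun h : H => T'.map (cj (h : GL ι F))) ⟨k * h, H.mul_mem hk h.2⟩
        apply this
        refine ⟨t, ht, ?_⟩
        simp only [hcj]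
        group
      exact hle ⟨x, hx, rfl⟩
    · intro hle
      apply hT'ns
      intro t ht
      have h1 : T'.map (cj ((1 : H) : GL ι F)) ≤ ⨆ h : H, T'.map (cj (h : GL ι F)) :=
        le_iSup (fun h : H => T'.map (cj (h : GL ι F))) 1
      apply hle
      apply h1
      exact ⟨t, ht, by simp [hcj]⟩
  -- the algebra of `T'`
  set B₀ := spanG T' with hB₀
  have hB₀n : NormAlg P B₀ := normAlg_spanG hT'n
  haveI hss : IsSemisimpleRing B₀ := isSemisimpleRing_of_normAlg hPirr hB₀n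
  obtain ⟨m, hm, ⟨ψ₀⟩⟩ : ∃ (m : ℕ) (_ : NeZero m), Nonempty (Matrix (Fin m) (Fin m) F ≃ₐ[F] B₀) := by
    apply exists_matrix_of_central
    intro z hz
    -- central elements commute with all conjugates
    let Cz : Subgroup (GL ι F) :=
      { carrier := {g | (z : Matrix ι ι F) * (g : Matrix ι ι F) = (g : Matrix ι ι F) * z}
        mul_mem' := fun {a b} ha hb => by
          simp only [Set.mem_ofPred_eq] at ha hb ⊢
          rw [Units.val_mul, ← Matrix.mul_assoc, ha, Matrix.mul_assoc, hb, Matrix.mul_assoc]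
        one_mem' := by simp
        inv_mem' := fun {a} ha => by
          simp only [Set.mem_ofPred_eq] at ha ⊢
          calc (z : Matrix ι ι F) * ((a⁻¹ : GL ι F) : Matrix ι ι F)
              = ((a⁻¹ : GL ι F) : Matrix ι ι F) * ((a : Matrix ι ι F) * z) * ((a⁻¹ : GL ι F) : Matrix ι ι F) := by
                rw [← Matrix.mul_assoc, ← Units.val_mul, inv_mul_cancel, Units.val_one, Matrix.one_mul]
            _ = ((a⁻¹ : GL ι F) : Matrix ι ι F) * ((z : Matrix ι ι F) * a) * ((a⁻¹ : GL ι F) : Matrix ι ι F) := by rw [ha]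
            _ = ((a⁻¹ : GL ι F) : Matrix ι ι F) * z := by
                rw [Matrix.mul_assoc, Matrix.mul_assoc, ← Units.val_mul, mul_inv_cancel, Units.val_one, Matrix.mul_one] }
    have hPCz : P ≤ Cz := by
      rw [← hgen]
      refine iSup_le fun h => ?_
      by_cases heq : T.map (cj (h : GL ι F)) = T.map (cj ((1 : H) : GL ι F))
      · have h1 : T'.map (cj (h : GL ι F)) = T' := by
          rw [hS', heq, ← hS']
          ext x
          simp [hcj]
        rw [h1]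
        intro t ht
        have := hz ⟨t, mem_spanG ht⟩
        exact congrArg Subtype.val this
      · intro y hy
        show (z : Matrix ι ι F) * (y : Matrix ι ι F) = (y : Matrix ι ι F) * z
        have h2 : ∀ a ∈ T', a * y = y * a := by
          intro a ha
          refine hb _ H.one_mem _ h.2 (Ne.symm heq) a ⟨a, ha, by simp [hcj]⟩ y hy
        have h3 : ∀ g ∈ T', (y : Matrix ι ι F) * (g : Matrix ι ι F) = (g : Matrix ι ι F) * y := fun g hg =>
          (congrArg Units.val (h2 g hg)).symm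
        exact (commute_of_spanG h3 z.2).symm
    obtain ⟨c, hc⟩ := habs_of_spanG hspan (z : Matrix ι ι F) (fun g hg => hPCz hg)
    refine ⟨c, Subtype.ext ?_⟩
    rw [hc, Algebra.algebraMap_eq_smul_one]
    simp
  -- `m` is at least two
  have hm2 : 2 ≤ m := by
    have hm0 : m ≠ 0 := NeZero.ne m
    by_contra hlt
    have hm1 : m = 1 := by omega
    subst hm1
    apply hT'ns
    apply le_scalars_of_spanG_bot
    rw [eq_bot_iff]
    intro x hx
    have h1 : (1 : B₀) ≠ 0 := one_ne_zero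
    have hfr1 : Module.finrank F B₀ = 1 := by
      rw [← LinearEquiv.finrank_eq ψ₀.toLinearEquiv, Module.finrank_matrix]
      simp
    obtain ⟨c, hc⟩ := (finrank_eq_one_iff_of_nonzero' (1 : B₀) h1).mp hfr1 ⟨x, hx⟩
    rw [Algebra.mem_bot]
    refine ⟨c, ?_⟩
    have := congrArg Subtype.val hc
    rw [Algebra.algebraMap_eq_smul_one]
    simpa using this
  -- enumerate the conjugates
  let O : Set (Subgroup (GL ι F)) := Set.range (fun h : H => T.map (cj (h : GL ι F)))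
  haveI hOfin : Finite O := Set.toFinite O |>.to_subtype
  obtain ⟨t, ⟨φ⟩⟩ := Finite.exists_equiv_fin O
  have hrep : ∀ i, ∃ h : H, ((φ.symm i : O) : Subgroup (GL ι F)) = T.map (cj (h : GL ι F)) := fun i => by
    obtain ⟨h, hh⟩ := (φ.symm i).2
    exact ⟨h, hh.symm⟩
  choose r hr using hrep
  have hrinj : ∀ i j, T.map (cj (r i : GL ι F)) = T.map (cj (r j : GL ι F)) → i = j := by
    intro i j hij
    apply φ.symm.injective
    apply Subtype.ext
    rw [hr, hr, hij]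
  have hidx : ∀ h : H, ∃ i, T.map (cj (r i : GL ι F)) = T.map (cj (h : GL ι F)) := by
    intro h
    refine ⟨φ ⟨_, ⟨h, rfl⟩⟩, ?_⟩
    rw [← hr]
    simp
  have ht2 : 2 ≤ t := by
    obtain ⟨i₀, hi₀⟩ := hidx 1
    obtain ⟨i₁, hi₁⟩ := hidx ⟨h₀, hh₀⟩
    have hne01 : i₀ ≠ i₁ := by
      rintro rfl
      apply hT₂ne
      have h1 : T.map (cj ((1 : H) : GL ι F)) = T := by
        ext x
        simp [hcj]
      exact hi₁.symm.trans (hi₀.trans h1)
    have h1 : 1 < Fintype.card (Fin t) := Fintype.one_lt_card_iff.mpr ⟨i₀, i₁, hne01⟩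
    have h2 : 1 < t := by simpa using h1
    omega
  have ht0 : NeZero t := ⟨by omega⟩
  let ψ₁ : Matrix (Fin m) (Fin m) F →ₐ[F] Matrix ι ι F := B₀.val.comp ψ₀.toAlgHom
  have hψ₁ : ∀ M, ψ₁ M ∈ B₀ := fun M => (ψ₀ M).2
  have hψ₁s : ∀ x ∈ B₀, ∃ M, ψ₁ M = x := by
    intro x hx
    refine ⟨ψ₀.symm ⟨x, hx⟩, ?_⟩
    show ((ψ₀ (ψ₀.symm ⟨x, hx⟩) : B₀) : Matrix ι ι F) = x
    rw [AlgEquiv.apply_symm_apply]
  let ψ : Fin t → (Matrix (Fin m) (Fin m) F →ₐ[F] Matrix ι ι F) := fun i => (conjAlg (r i : GL ι F)).comp ψ₁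
  have hψ : ∀ i x, ψ i x = ((r i : GL ι F) : Matrix ι ι F) * ψ₁ x * (((r i : GL ι F)⁻¹ : GL ι F) : Matrix ι ι F) := fun i x => rfl
  have hψmem : ∀ i x, ψ i x ∈ spanG (T'.map (cj (r i : GL ι F))) := by
    intro i x
    rw [hψ]
    exact conj_mem_spanG (N := T') (N' := T'.map (cj (r i : GL ι F))) (k := (r i : GL ι F))
      (fun y hy => ⟨y, hy, rfl⟩) (hψ₁ x)
  have hcomm : Pairwise fun i j => ∀ x y, Commute (ψ i x) (ψ j y) := by
    intro i j hij x y
    have hne' : T.map (cj (r i : GL ι F)) ≠ T.map (cj (r j : GL ι F)) := fun h => hij (hrinj i j h)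
    exact spanG_commute (hb _ (r i).2 _ (r j).2 hne') (hψmem i x) (hψmem j y)
  have hirr : ∀ W : Submodule F (ι → F), (∀ i x, ∀ w ∈ W, ψ i x *ᵥ w ∈ W) → W = ⊥ ∨ W = ⊤ := by
    intro W hW
    apply hPirr
    rw [← hgen]
    apply stable_iSup_subgroup
    intro h
    obtain ⟨i, hi⟩ := hidx h
    have h1 : T'.map (cj (h : GL ι F)) = T'.map (cj (r i : GL ι F)) := by
      rw [hS', hS', hi]
    rw [h1]
    rintro _ ⟨s, hs, rfl⟩ w hw
    obtain ⟨M, hM⟩ := hψ₁s _ (mem_spanG hs)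
    have h2 : ((cj (r i : GL ι F) s : GL ι F) : Matrix ι ι F) = ψ i M := by
      rw [hψ, hM, hcj, Units.val_mul, Units.val_mul]
    rw [h2]
    exact hW i M w hw
  have hact : ∀ g ∈ H, ∃ τ : Equiv.Perm (Fin t), ∀ i, T.map (cj (r (τ i) : GL ι F)) = T.map (cj (g * r i)) := by
    intro g hg
    have h1 : ∀ i, ∃ j, T.map (cj (r j : GL ι F)) = T.map (cj (g * r i)) := fun i => hidx ⟨g * r i, H.mul_mem hg (r i).2⟩
    choose τ₀ hτ₀ using h1
    have hinj : Function.Injective τ₀ := by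
      intro i j hij
      apply hrinj
      have h2 : T.map (cj (g * r i)) = T.map (cj (g * r j)) := by
        rw [← hτ₀, ← hτ₀, hij]
      have h3 : (T.map (cj (g * r i))).map (cj g⁻¹) = (T.map (cj (g * r j))).map (cj g⁻¹) := by rw [h2]
      have e : ∀ a : GL ι F, (T.map (cj (g * a))).map (cj g⁻¹) = T.map (cj a) := by
        intro a
        ext x
        constructor
        · rintro ⟨_, ⟨t, ht, rfl⟩, rfl⟩
          refine ⟨t, ht, ?_⟩
          simp only [hcj]
          group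
        · rintro ⟨t, ht, rfl⟩
          refine ⟨g * (a * t * a⁻¹) * g⁻¹, ⟨t, ht, ?_⟩, ?_⟩
          · simp only [hcj]
            group
          · simp only [hcj]
            group
      rwa [e, e] at h3
    exact ⟨Equiv.ofBijective τ₀ (Finite.injective_iff_bijective.mp hinj), fun i => hτ₀ i⟩
  have hHperm : ∀ g ∈ H, ∃ τ : Equiv.Perm (Fin t), ∀ (i : Fin t) (M : Matrix (Fin m) (Fin m) F), ∃ M',
      (g : Matrix ι ι F) * ψ i M * ((g⁻¹ : GL ι F) : Matrix ι ι F) = ψ (τ i) M' := by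
    intro g hg
    obtain ⟨τ, hτ⟩ := hact g hg
    refine ⟨τ, fun i M => ?_⟩
    set k : GL ι F := (r (τ i) : GL ι F)⁻¹ * (g * r i) with hk
    have hkT : T.map (cj k) = T := by
      ext x
      constructor
      · rintro ⟨s, hs, rfl⟩
        have h1 : cj (g * r i) s ∈ T.map (cj (g * r i)) := ⟨s, hs, rfl⟩
        rw [← hτ i] at h1
        obtain ⟨s', hs', he⟩ := h1
        have h2 : cj k s = s' := by
          simp only [hcj, hk] at he ⊢
          rw [← mul_right_inj (r (τ i) : GL ι F), ← mul_left_inj ((r (τ i) : GL ι F)⁻¹)]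
          calc _ = (g * (r i : GL ι F)) * s * (g * (r i : GL ι F))⁻¹ := by group
            _ = _ := he.symm
        rw [h2]
        exact hs'
      · intro hx
        have h1 : cj (r (τ i) : GL ι F) x ∈ T.map (cj (g * r i)) := by
          rw [← hτ i]
          exact ⟨x, hx, rfl⟩
        obtain ⟨s, hs, he⟩ := h1
        refine ⟨s, hs, ?_⟩
        simp only [hcj, hk] at he ⊢
        have he' : (r (τ i) : GL ι F)⁻¹ * ((g * (r i : GL ι F)) * s * (g * (r i : GL ι F))⁻¹) * (r (τ i) : GL ι F) = x := by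
          rw [he]
          group
        rw [← he']
        group
    have hkT' : ∀ x ∈ T', k * x * k⁻¹ ∈ T' := by
      intro x hx
      have h1 : T'.map (cj k) = T' := by
        rw [hS', hkT]
      rw [← h1]
      exact ⟨x, hx, rfl⟩
    have hmem := conj_mem_spanG hkT' (hψ₁ M)
    obtain ⟨M', hM'⟩ := hψ₁s _ hmem
    refine ⟨M', ?_⟩
    rw [hψ, hψ, hM']
    have e : (r (τ i) : GL ι F) * k = g * r i := by
      rw [hk]
      group
    have e2 : (((g * r i)⁻¹ : GL ι F) : Matrix ι ι F) = ((k⁻¹ : GL ι F) : Matrix ι ι F) * (((r (τ i) : GL ι F)⁻¹ : GL ι F) : Matrix ι ι F) := by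
      rw [← e, _root_.mul_inv_rev, Units.val_mul]
    have e3 : ((g * r i : GL ι F) : Matrix ι ι F) = ((r (τ i) : GL ι F) : Matrix ι ι F) * (k : Matrix ι ι F) := by
      rw [← e, Units.val_mul]
    have e4 : ((g⁻¹ : GL ι F) : Matrix ι ι F) = ((r i : GL ι F) : Matrix ι ι F) * (((g * r i)⁻¹ : GL ι F) : Matrix ι ι F) := by
      rw [← Units.val_mul]
      congr 1
      group
    have e5 : (g : Matrix ι ι F) * ((r i : GL ι F) : Matrix ι ι F) = ((g * r i : GL ι F) : Matrix ι ι F) := by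
      rw [Units.val_mul]
    calc (g : Matrix ι ι F) * (((r i : GL ι F) : Matrix ι ι F) * ψ₁ M * (((r i : GL ι F)⁻¹ : GL ι F) : Matrix ι ι F)) * ((g⁻¹ : GL ι F) : Matrix ι ι F)
        = ((g : Matrix ι ι F) * ((r i : GL ι F) : Matrix ι ι F)) * ψ₁ M *
            ((((r i : GL ι F)⁻¹ : GL ι F) : Matrix ι ι F) * ((g⁻¹ : GL ι F) : Matrix ι ι F)) := by
          simp only [Matrix.mul_assoc]
      _ = ((g * r i : GL ι F) : Matrix ι ι F) * ψ₁ M * (((g * r i)⁻¹ : GL ι F) : Matrix ι ι F) := by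
          rw [e5, ← Units.val_mul, ← _root_.mul_inv_rev]
      _ = _ := by
          rw [e2, e3]
          simp only [Matrix.mul_assoc]
  refine ⟨m, t, hm, ht0, ψ, T', ψ₁, hm2, ht2, ?_, hcomm, hirr, hHperm, hψ₁, hψ₁s, fun i => ⟨r i, (r i).2, rfl⟩⟩
  exact hT'T.trans hT𝓣.1


theorem tri3 [Fintype F] [Nonempty ι] (hn : 2 ≤ Fintype.card ι) {H : Subgroup (GL ι F)} (hH : Irr H)
    (hT : ∀ N, N ≤ H → Nrm H N → N ≤ scalars ι F ∨ spanG N = ⊤) :
    (∃ N, N ≤ H ∧ Nrm H N ∧ spanG N = ⊤ ∧ ⁅N, N⁆ ≤ scalars ι F ∧ H ⊓ scalars ι F ≤ N ∧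
      ∀ M, M ≤ N → Nrm H M → ¬ M ≤ scalars ι F → M ⊔ (H ⊓ scalars ι F) = N) ∨
    (∃ (m t : ℕ) (_ : NeZero m) (_ : NeZero t) (ψ : Fin t → (Matrix (Fin m) (Fin m) F →ₐ[F] Matrix ι ι F)) (T' : Subgroup (GL ι F))
        (ψ₁ : Matrix (Fin m) (Fin m) F →ₐ[F] Matrix ι ι F), 2 ≤ m ∧ 2 ≤ t ∧ T' ≤ H ∧
      (Pairwise fun i j => ∀ x y, Commute (ψ i x) (ψ j y)) ∧
      (∀ W : Submodule F (ι → F), (∀ i x, ∀ w ∈ W, ψ i x *ᵥ w ∈ W) → W = ⊥ ∨ W = ⊤) ∧
      (∀ g ∈ H, ∃ τ : Equiv.Perm (Fin t), ∀ (i : Fin t) (M : Matrix (Fin m) (Fin m) F), ∃ M',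
        (g : Matrix ι ι F) * ψ i M * ((g⁻¹ : GL ι F) : Matrix ι ι F) = ψ (τ i) M') ∧
      (∀ M, ψ₁ M ∈ spanG T') ∧ (∀ x ∈ spanG T', ∃ M, ψ₁ M = x) ∧
      ∀ i, ∃ r ∈ H, ψ i = (conjAlg r).comp ψ₁) ∨
    (∃ P, CoreNS H P) := by
  classical
  set Sc := scalars ι F with hSc
  set Z : Subgroup (GL ι F) := H ⊓ Sc with hZ
  have hZSc : Z ≤ Sc := inf_le_right
  let 𝓝 : Set (Subgroup (GL ι F)) := {N | Z ≤ N ∧ N ≤ H ∧ Nrm H N ∧ ¬ N ≤ Sc}
  have hH𝓝 : H ∈ 𝓝 := by
    refine ⟨inf_le_left, le_rfl, fun h hh x hx => H.mul_mem (H.mul_mem hh hx) (H.inv_mem hh), fun hle => ?_⟩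
    obtain ⟨g, hg, hgs⟩ := exists_nonscalar_of_irr hn hH
    exact hgs (hle hg)
  obtain ⟨N, hN, hNmin⟩ := (wellFounded_lt (α := Subgroup (GL ι F))).has_min 𝓝 ⟨H, hH𝓝⟩
  obtain ⟨hZN, hNH, hNn, hNns⟩ := hN
  have hstar : ∀ M, M ≤ N → Nrm H M → ¬ M ≤ Sc → M ⊔ Z = N := by
    intro M hMN hMn hMns
    by_contra hne
    have hle : M ⊔ Z ≤ N := sup_le hMN hZN
    refine hNmin (M ⊔ Z) ⟨le_sup_right, hle.trans hNH, hMn.sup_central hZSc, fun h => hMns (le_sup_left.trans h)⟩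
      (lt_of_le_of_ne hle hne)
  have hNspan : spanG N = ⊤ := (hT N hNH hNn).resolve_left hNns
  by_cases hder : ⁅N, N⁆ ≤ Sc
  · left
    exact ⟨N, hNH, hNn, hNspan, hder, hZN, hstar⟩
  right
  set P : Subgroup (GL ι F) := ⁅N, N⁆ with hPdef
  have hPn : Nrm H P := hNn.commutator
  have hPN : P ≤ N := commutator_le_of_subgroup
  have hsup := hstar P hPN hPn hder
  have hperf : ⁅P, P⁆ = P := by
    apply le_antisymm commutator_le_of_subgroup
    have h1 : ⁅P ⊔ Z, P ⊔ Z⁆ ≤ ⁅P, P⁆ := commutator_sup_central_le hZSc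
    rw [hsup] at h1
    exact h1
  have hPspan : spanG P = ⊤ := (hT P (hPN.trans hNH) hPn).resolve_left hder
  have hmin : ∀ M, M ≤ P → Nrm H M → ¬ M ≤ Sc → M = P := by
    intro M hMP hMn hMns
    have h1 := hstar M (hMP.trans hPN) hMn hMns
    apply le_antisymm hMP
    have h2 : ⁅M ⊔ Z, M ⊔ Z⁆ ≤ ⁅M, M⁆ := commutator_sup_central_le hZSc
    rw [h1] at h2
    exact h2.trans commutator_le_of_subgroup
  rcases simple_core3 hPspan hperf hder hPn hmin with hgood | hw
  swap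
  · obtain ⟨m, t, hm0, ht0, ψ, T', ψ₁, hm2, ht2, hT'P, h1, h2, h3, h4, h5, h6⟩ := hw
    exact Or.inl ⟨m, t, hm0, ht0, ψ, T', ψ₁, hm2, ht2, hT'P.trans (hPN.trans hNH), h1, h2, h3, h4, h5, h6⟩
  right
  refine ⟨P, hPN.trans hNH, hPn, hperf, ?_, ?_, ?_, actsAbs_of_spanG hPspan⟩
  · -- simplicity
    let ψ : P →* P ⧸ (Sc).subgroupOf P := QuotientGroup.mk' _
    have hψs : Function.Surjective ψ := QuotientGroup.mk'_surjective _
    have hψ1 : ∀ x : P, ψ x = 1 ↔ (x : GL ι F) ∈ Sc := fun x => by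
      rw [QuotientGroup.mk'_apply, QuotientGroup.eq_one_iff, Subgroup.mem_subgroupOf]
    obtain ⟨x₀, hx₀, hx₀s⟩ : ∃ x ∈ P, x ∉ Sc := by
      by_contra hall
      push Not at hall
      exact hder hall
    have : Nontrivial (P ⧸ (Sc).subgroupOf P) :=
      ⟨⟨ψ ⟨x₀, hx₀⟩, 1, fun h => hx₀s ((hψ1 _).mp h)⟩⟩
    refine ⟨fun Tb hTb => ?_⟩
    let T₁ : Subgroup (GL ι F) := (Tb.comap ψ).map P.subtype
    have hT₁P : T₁ ≤ P := by
      rintro _ ⟨t, -, rfl⟩
      exact t.2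
    have hT₁n : Nrm P T₁ := by
      rintro p hp _ ⟨t, ht, rfl⟩
      refine ⟨⟨p, hp⟩ * t * ⟨p, hp⟩⁻¹, ?_, by simp⟩
      show ψ _ ∈ Tb
      rw [map_mul, map_mul, map_inv]
      exact hTb.conj_mem _ ht _
    rcases hgood T₁ hT₁P hT₁n with hs | he
    · left
      rw [eq_bot_iff]
      intro xb hxb
      obtain ⟨x, rfl⟩ := hψs xb
      rw [Subgroup.mem_bot, hψ1]
      exact hs ⟨x, hxb, rfl⟩
    · right
      rw [eq_top_iff]
      intro xb _
      obtain ⟨x, rfl⟩ := hψs xb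
      have : (x : GL ι F) ∈ T₁ := by rw [he]; exact x.2
      obtain ⟨t, ht, hte⟩ := this
      have : t = x := Subtype.ext hte
      rw [← this]
      exact ht
  · -- nonabelian
    intro hc
    apply hder
    rw [← hperf, Subgroup.commutator_le]
    intro a' ha' b' hb'
    have hcomm' := hc.is_comm.comm
      (QuotientGroup.mk' ((Sc).subgroupOf P) ⟨a', ha'⟩) (QuotientGroup.mk' ((Sc).subgroupOf P) ⟨b', hb'⟩)
    have h1 : QuotientGroup.mk' ((Sc).subgroupOf P) ⁅(⟨a', ha'⟩ : P), (⟨b', hb'⟩ : P)⁆ = 1 := by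
      rw [map_commutatorElement, commutatorElement_eq_one_iff_mul_comm]
      exact hcomm'
    rw [QuotientGroup.mk'_apply, QuotientGroup.eq_one_iff, Subgroup.mem_subgroupOf] at h1
    exact h1
  · -- centraliser modulo scalars
    intro h _ hhc
    apply scalar_of_spanG hPspan
    have hc' : ∀ x ∈ P, x * h * x⁻¹ * h⁻¹ ∈ Sc := by
      intro x hx
      have := Sc.inv_mem (hhc x hx)
      have e : (h * x * h⁻¹ * x⁻¹)⁻¹ = x * h * x⁻¹ * h⁻¹ := by group
      rwa [e] at this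
    have hle : P ≤ Subgroup.centralizer {h} := by
      conv_lhs => rw [← hperf]
      rw [Subgroup.commutator_le]
      intro x₁ hx₁ x₂ hx₂
      rw [Subgroup.mem_centralizer_iff]
      intro z hz
      rw [Set.mem_singleton_iff] at hz
      subst hz
      refine (commutator_commute_of_central (c₁ := x₁ * z * x₁⁻¹ * z⁻¹) (c₂ := x₂ * z * x₂⁻¹ * z⁻¹)
        (fun g => scalar_central (hc' x₁ hx₁) g) (fun g => scalar_central (hc' x₂ hx₂) g) ?_ ?_).symm
      · group
      · group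
    intro g hg
    exact Subgroup.mem_centralizer_iff.mp (hle hg) h rfl


theorem exists_symCtx' [Fintype F] [Nonempty ι] (hn : 2 ≤ Fintype.card ι) {H N : Subgroup (GL ι F)}
    (hNn : Nrm H N) (hspan : spanG N = ⊤) (hcomm : ⁅N, N⁆ ≤ scalars ι F) (hZN : H ⊓ scalars ι F ≤ N)
    (hmin : ∀ M, M ≤ N → Nrm H M → ¬ M ≤ scalars ι F → M ⊔ (H ⊓ scalars ι F) = N) :
    ∃ (r : ℕ) (R : Subgroup (GL ι F)), SymCtx r R ∧ Nrm H R ∧ R ≤ N ⊔ scalars ι F := by
  classical
  set Sc := scalars ι F with hSc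
  have hminle : ∀ M : Subgroup (GL ι F), M ≤ N → Nrm H M → ¬ M ≤ Sc → H ⊓ Sc ≤ M → M = N := by
    intro M h1 h2 h3 h4
    have := hmin M h1 h2 h3
    rwa [sup_eq_left.mpr h4] at this
  -- a nonscalar element and a noncommuting pair
  obtain ⟨a, ha, hans⟩ := exists_nonscalar_of_irr hn (irr_of_spanG hspan)
  obtain ⟨b, hb, hab⟩ : ∃ b ∈ N, a * b ≠ b * a := by
    by_contra hall
    push Not at hall
    exact hans (scalars_of_commute_span hspan hall)
  -- Step 1: the prime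
  obtain ⟨r, hr, hrN⟩ : ∃ r : ℕ, r.Prime ∧ ∀ x ∈ N, x ^ r ∈ Sc := by
    have hex : ∃ k : ℕ, 0 < k ∧ a ^ k ∈ Sc :=
      ⟨orderOf a, orderOf_pos a, by rw [pow_orderOf_eq_one]; exact Sc.one_mem⟩
    set k := Nat.find hex with hk
    obtain ⟨hk0, hkS⟩ := Nat.find_spec hex
    have hk1 : k ≠ 1 := by
      intro h
      rw [← hk, h, pow_one] at hkS
      exact hans hkS
    set r := k.minFac with hrdef
    have hr : r.Prime := Nat.minFac_prime hk1
    obtain ⟨m, hm⟩ : r ∣ k := Nat.minFac_dvd k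
    have hm0 : 0 < m := by
      rcases Nat.eq_zero_or_pos m with h | h
      · rw [h, mul_zero] at hm
        omega
      · exact h
    have hmk : m < k := by
      rw [hm]
      calc m = 1 * m := (one_mul m).symm
        _ < r * m := Nat.mul_lt_mul_of_pos_right hr.one_lt hm0
    have hx1 : a ^ m ∉ Sc := fun h => Nat.find_min hex hmk ⟨hm0, h⟩
    let M : Subgroup (GL ι F) :=
      { carrier := {x | x ∈ N ∧ x ^ r ∈ Sc}
        one_mem' := ⟨N.one_mem, by rw [one_pow]; exact Sc.one_mem⟩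
        mul_mem' := by
          rintro x y ⟨hx, hxr⟩ ⟨hy, hyr⟩
          refine ⟨N.mul_mem hx hy, ?_⟩
          obtain ⟨c, hc⟩ := exists_comm_of_le hcomm hy hx
          rw [mul_pow_of_comm (fun g => scU_central c g) hc]
          exact Sc.mul_mem (Sc.mul_mem hxr hyr) (Sc.pow_mem (scU_mem c) _)
        inv_mem' := by
          rintro x ⟨hx, hxr⟩
          refine ⟨N.inv_mem hx, ?_⟩
          rw [inv_pow]
          exact Sc.inv_mem hxr }
    have hMN : M = N := by
      apply hminle M (fun x hx => hx.1)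
      · rintro h hh x ⟨hx, hxr⟩
        refine ⟨hNn h hh x hx, ?_⟩
        rw [conj_pow]
        exact mem_scalars_conj.mpr hxr
      · intro hle
        apply hx1
        apply hle
        refine ⟨N.pow_mem ha m, ?_⟩
        rw [← pow_mul, mul_comm, ← hm]
        exact hkS
      · rintro x ⟨hxH, hxS⟩
        exact ⟨hZN ⟨hxH, hxS⟩, Sc.pow_mem hxS r⟩
    refine ⟨r, hr, fun x hx => ?_⟩
    rw [← hMN] at hx
    exact hx.2
  set ρ := r * Nat.gcd 2 r with hρ
  have hρ0 : 0 < ρ := Nat.mul_pos hr.pos (Nat.gcd_pos_of_pos_left _ (by norm_num))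
  have hrρ : r ∣ ρ := Dvd.intro _ rfl
  -- the big group
  set N' : Subgroup (GL ι F) := N ⊔ Sc with hN'
  have hNN' : N ≤ N' := le_sup_left
  have hScN' : Sc ≤ N' := le_sup_right
  have hN'r : ∀ x ∈ N', x ^ r ∈ Sc := by
    intro x hx
    obtain ⟨m, hm, z, hz, rfl⟩ := (mem_sup_central le_rfl).mp hx
    have hc : Commute m z := (scalar_central hz m)
    rw [hc.mul_pow]
    exact Sc.mul_mem (hrN m hm) (Sc.pow_mem hz r)
  have hN'comm : ∀ x ∈ N', ∀ y ∈ N', ∃ ξ : Fˣ, ξ ^ r = 1 ∧ x * y = scU ξ * (y * x) := by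
    intro x hx y hy
    have hle : (⁅N', N'⁆ : Subgroup (GL ι F)) ≤ Sc := (commutator_sup_central_le le_rfl).trans hcomm
    obtain ⟨c, hc⟩ := exists_comm_of_le hle hx hy
    exact ⟨c, root_of_scalar_pow hc (hN'r x hx), hc⟩
  have hN'mul : ∀ x ∈ N', ∀ y ∈ N', (x * y) ^ ρ = x ^ ρ * y ^ ρ := by
    intro x hx y hy
    obtain ⟨ξ, hξ, hc⟩ := hN'comm y hy x hx
    rw [mul_pow_of_comm (fun g => scU_central ξ g) hc, ← map_pow]
    obtain ⟨t, ht⟩ := dvd_choose_rho hr
    rw [← hρ] at ht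
    rw [ht, pow_mul ξ r t, hξ, one_pow, map_one, mul_one]
  -- Step 3: all elements of `N` have `ρ`-th power the `ρ`-th power of a scalar
  have hN₁ : ∀ x ∈ N, ∃ c : Fˣ, x ^ ρ = scU (c ^ ρ) := by
    let N₁ : Subgroup (GL ι F) :=
      { carrier := {x | x ∈ N ∧ ∃ c : Fˣ, x ^ ρ = scU (c ^ ρ)}
        one_mem' := ⟨N.one_mem, 1, by simp⟩
        mul_mem' := by
          rintro x y ⟨hx, c, hc⟩ ⟨hy, d, hd⟩
          refine ⟨N.mul_mem hx hy, c * d, ?_⟩
          rw [hN'mul x (hNN' hx) y (hNN' hy), hc, hd, _root_.mul_pow, map_mul]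
        inv_mem' := by
          rintro x ⟨hx, c, hc⟩
          refine ⟨N.inv_mem hx, c⁻¹, ?_⟩
          rw [inv_pow, hc, inv_pow, map_inv] }
    have hN₁N : N₁ = N := by
      apply hminle N₁ (fun x hx => hx.1)
      · rintro h hh x ⟨hx, c, hc⟩
        refine ⟨hNn h hh x hx, c, ?_⟩
        rw [conj_pow, hc, scalar_central (scU_mem _) h]
        group
      · -- a nonscalar element of `N₁`
        intro hle
        obtain ⟨g, hg⟩ : ∃ g : Fˣ, ∀ y : Fˣ, y ∈ Submonoid.powers g := IsCyclic.exists_monoid_generator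
        obtain ⟨α, hα⟩ := exists_scU (hrN a ha)
        obtain ⟨β, hβ⟩ := exists_scU (hrN b hb)
        obtain ⟨u, hu⟩ := Submonoid.mem_powers_iff _ _ |>.mp (hg α)
        obtain ⟨v, hv⟩ := Submonoid.mem_powers_iff _ _ |>.mp (hg β)
        set e := Nat.gcd 2 r with he
        have haρ : a ^ ρ = scU (g ^ (u * e)) := by
          rw [hρ, pow_mul, ← hα, ← hu, ← map_pow, pow_mul]
        have hbρ : b ^ ρ = scU (g ^ (v * e)) := by
          rw [hρ, pow_mul, ← hβ, ← hv, ← map_pow, pow_mul]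
        by_cases hru : r ∣ u
        · obtain ⟨t, rfl⟩ := hru
          have hmem : a ∈ N₁ := by
            refine ⟨ha, g ^ t, ?_⟩
            rw [haρ, ← pow_mul, hρ]
            congr 2
            ring
          exact hans (hle hmem)
        · -- choose `j` with `r ∣ v + u * j`
          have hcop : Nat.Coprime u r := ((Nat.Prime.coprime_iff_not_dvd hr).mpr hru).symm
          obtain ⟨j₀, -, hj₀⟩ := Nat.exists_mul_mod_eq_one_of_coprime hcop hr.one_lt
          set j := j₀ * ((r - 1) * v) with hj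
          obtain ⟨t, ht⟩ : r ∣ v + u * j := by
            have h1 : (u * j) % r = ((r - 1) * v) % r := by
              rw [hj, ← mul_assoc, Nat.mul_mod, hj₀, one_mul, Nat.mod_mod]
            apply (Nat.modEq_zero_iff_dvd).mp
            have h2 : v + u * j ≡ v + (r - 1) * v [MOD r] := Nat.ModEq.add_left v h1
            refine h2.trans ?_
            have h3 : v + (r - 1) * v = r * v := by
              obtain ⟨r', hr'⟩ : ∃ r', r = r' + 1 := ⟨r - 1, by have := hr.pos; omega⟩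
              rw [hr']
              simp only [Nat.add_sub_cancel]
              ring
            rw [h3]
            exact (Nat.modEq_zero_iff_dvd).mpr (Dvd.intro _ rfl)
          have hy : b * a ^ j ∈ N := N.mul_mem hb (N.pow_mem ha j)
          have hyρ : (b * a ^ j) ^ ρ = scU ((g ^ t) ^ ρ) := by
            rw [hN'mul _ (hNN' hb) _ (hNN' (N.pow_mem ha j)), ← pow_mul, mul_comm j, pow_mul a ρ j, hbρ, haρ, ← map_pow, ← map_mul]
            congr 1
            rw [← pow_mul, ← pow_add, ← pow_mul, hρ]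
            congr 1
            calc v * e + u * e * j = (v + u * j) * e := by ring
              _ = t * (r * e) := by rw [ht]; ring
          have hmem : b * a ^ j ∈ N₁ := ⟨hy, g ^ t, hyρ⟩
          have hsc := hle hmem
          apply hab
          have h1 := scalar_central hsc a
          have h2 : a ^ j * a = a * a ^ j := by rw [← pow_succ, ← pow_succ']
          have h3 : a * b * a ^ j = b * a * a ^ j := by
            calc a * b * a ^ j = a * (b * a ^ j) := by group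
              _ = (b * a ^ j) * a := h1
              _ = b * (a ^ j * a) := by group
              _ = b * (a * a ^ j) := by rw [h2]
              _ = b * a * a ^ j := by group
          exact mul_right_cancel h3
      · rintro x ⟨hxH, hxS⟩
        obtain ⟨c, rfl⟩ := exists_scU hxS
        exact ⟨hZN ⟨hxH, hxS⟩, c, by rw [map_pow]⟩
    intro x hx
    rw [← hN₁N] at hx
    exact hx.2
  -- the group `R`
  let R : Subgroup (GL ι F) :=
    { carrier := {x | x ∈ N' ∧ x ^ ρ = 1}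
      one_mem' := ⟨N'.one_mem, by simp⟩
      mul_mem' := by
        rintro x y ⟨hx, hx1⟩ ⟨hy, hy1⟩
        exact ⟨N'.mul_mem hx hy, by rw [hN'mul x hx y hy, hx1, hy1, one_mul]⟩
      inv_mem' := by
        rintro x ⟨hx, hx1⟩
        exact ⟨N'.inv_mem hx, by rw [inv_pow, hx1, inv_one]⟩ }
  have hcover : ∀ x ∈ N, ∃ c : Fˣ, x * scU c ∈ R := by
    intro x hx
    obtain ⟨c, hc⟩ := hN₁ x hx
    refine ⟨c⁻¹, N'.mul_mem (hNN' hx) (hScN' (scU_mem _)), ?_⟩
    have hcm : Commute x (scU c⁻¹) := scU_central c⁻¹ x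
    rw [hcm.mul_pow, hc, ← map_pow, ← map_mul, inv_pow, mul_inv_cancel, map_one]
  refine ⟨r, R, ⟨hr, fun x hx => hx.2, fun x hx y hy => hN'comm x hx.1 y hy.1, ?_, ?_⟩, ?_, fun x hx => hx.1⟩
  · intro c hc
    exact ⟨hScN' (scU_mem c), by rw [← map_pow, hc, map_one]⟩
  · -- span
    rw [eq_top_iff, ← hspan, spanG, Algebra.adjoin_le_iff]
    rintro _ ⟨x, hx, rfl⟩
    obtain ⟨c, hc⟩ := hcover x hx
    have h1 := mem_spanG hc
    have h2 : ((x : GL ι F) : Matrix ι ι F) = ((c⁻¹ : Fˣ) : F) • (((x * scU c : GL ι F)) : Matrix ι ι F) := by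
      rw [Units.val_mul, scU_val, Matrix.mul_smul, Matrix.mul_one, smul_smul]
      simp
    show ((x : GL ι F) : Matrix ι ι F) ∈ spanG R
    rw [h2]
    exact Subalgebra.smul_mem _ h1 _
  · rintro h hh x ⟨hx, hx1⟩
    refine ⟨Nrm.sup_central hNn le_rfl h hh x hx, ?_⟩
    rw [conj_pow, hx1]
    group


theorem wreath_of_algHoms' {m t : ℕ} [NeZero t] [NeZero m] [Nonempty ι] (ψ : Fin t → (Matrix (Fin m) (Fin m) F →ₐ[F] Matrix ι ι F))
    (hcomm : Pairwise fun i j => ∀ x y, Commute (ψ i x) (ψ j y))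
    (hirr : ∀ W : Submodule F (ι → F), (∀ i x, ∀ w ∈ W, ψ i x *ᵥ w ∈ W) → W = ⊥ ∨ W = ⊤) {H : Subgroup (GL ι F)}
    (hH : ∀ g ∈ H, ∃ τ : Equiv.Perm (Fin t), ∀ (i : Fin t) (M : Matrix (Fin m) (Fin m) F), ∃ M',
      (g : Matrix ι ι F) * ψ i M * ((g⁻¹ : GL ι F) : Matrix ι ι F) = ψ (τ i) M') :
    ∃ (b : Module.Basis (Fin t → Fin m) F (ι → F)) (e : ι ≃ (Fin t → Fin m)) (P : GL ι F), Fintype.card ι = m ^ t ∧
      (∀ j, (P : Matrix ι ι F) *ᵥ Pi.single j 1 = b (e j)) ∧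
      (∀ (i : Fin t) (a c : Fin m) (x : Fin t → Fin m), ψ i (Matrix.single a c 1) *ᵥ b x = if c = x i then b (Function.update x i a) else 0) ∧
      H ≤ tensorWreathSubgroup m t e P := by
  classical
  obtain ⟨b, hb⟩ := exists_wreath_basis ψ hcomm hirr
  have hcard : Fintype.card ι = m ^ t := by
    have h1 := Module.finrank_eq_card_basis b
    rw [Module.finrank_fintype_fun_eq_card] at h1
    simpa using h1
  have e : ι ≃ (Fin t → Fin m) := Fintype.equivOfCardEq (by simpa using hcard)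
  obtain ⟨P, hP, hPb⟩ := exists_conj_coord' b e
  refine ⟨b, e, P, hcard, hPb, hb, fun g hg => mem_tensorWreath_of_coord hP ?_⟩
  have hcoord : ∀ i M, coordA b (ψ i M) = posM i M := by
    intro i M
    have hlin : (coordA b).toLinearMap.comp (ψ i).toLinearMap = posL i := by
      apply linearMap_ext_single
      intro a c
      ext x y
      simp only [LinearMap.comp_apply, AlgEquiv.toLinearMap_apply, AlgHom.toLinearMap_apply, posL, LinearMap.coe_mk,
        AddHom.coe_mk]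
      rw [coordA_apply, hb, posM_apply, Matrix.single_apply]
      by_cases hc : c = y i
      · rw [if_pos hc, Module.Basis.repr_self, Finsupp.single_apply]
        by_cases hx : x = Function.update y i a
        · subst hx
          rw [if_pos rfl, if_pos (by simp [hc]), one_mul, Finset.prod_eq_one]
          intro j hj
          rw [Function.update_of_ne (Finset.ne_of_mem_erase hj), Matrix.one_apply_eq]
        · rw [if_neg (Ne.symm hx)]
          by_cases ha : a = x i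
          · have : ∃ j, j ≠ i ∧ x j ≠ y j := by
              by_contra hall
              push Not at hall
              apply hx
              funext j
              by_cases hj : j = i
              · subst hj
                simp [ha]
              · rw [Function.update_of_ne hj, hall j hj]
            obtain ⟨j, hj, hne⟩ := this
            symm
            rw [Finset.prod_eq_zero (i := j) (Finset.mem_erase.mpr ⟨hj, Finset.mem_univ j⟩) (by simp [hne]), mul_zero]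
          · rw [if_neg (by rintro ⟨h, -⟩; exact ha h), zero_mul]
      · rw [if_neg hc, map_zero, Finsupp.zero_apply, if_neg (by rintro ⟨-, h⟩; exact hc h), zero_mul]
    exact LinearMap.congr_fun hlin M
  obtain ⟨τ, hτ⟩ := hH g hg
  apply mem_wreath_of_normalize _ τ
  intro i M
  obtain ⟨M', hM'⟩ := hτ i M
  refine ⟨M', ?_⟩
  rw [← hcoord, ← hcoord, ← map_inv, coordG_val, coordG_val, ← map_mul, ← map_mul, hM']


end Cfsg.Agent.H97.Asch
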