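import Cfsg.Agent.Lib.H97K2

/-!
The symplectic group in dimension four over the field with three elements: the involutions normalising a quadratic extension generate
an extraspecial group of minus type.
-/

set_option autoImplicit false
set_option linter.unusedSectionVars false
set_option linter.style.haveILetI false

namespace Cfsg.Agent.H97.Asch

open Matrix Cfsg Cfsg.Geo
open scoped MatrixGroups commutatorElement Kronecker

/-- the list of the twelve involutions -/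
def q3L : Fin 12 → Matrix (Fin 4) (Fin 4) (ZMod 3) :=
  ![!![0, 0, 0, 1; 0, 0, 2, 0; 0, 2, 0, 0; 1, 0, 0, 0],
    !![0, 0, 0, 2; 0, 0, 1, 0; 0, 1, 0, 0; 2, 0, 0, 0],
    !![0, 0, 1, 0; 0, 0, 0, 1; 1, 0, 0, 0; 0, 1, 0, 0],
    !![0, 0, 2, 0; 0, 0, 0, 2; 2, 0, 0, 0; 0, 2, 0, 0],
    !![1, 0, 0, 0; 0, 1, 0, 0; 0, 0, 1, 0; 0, 0, 0, 1],
    !![1, 0, 0, 0; 0, 1, 0, 0; 0, 0, 2, 0; 0, 0, 0, 2],
    !![2, 0, 0, 0; 0, 2, 0, 0; 0, 0, 1, 0; 0, 0, 0, 1],
    !![2, 0, 0, 0; 0, 2, 0, 0; 0, 0, 2, 0; 0, 0, 0, 2],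
    !![0, 0, 2, 2; 0, 0, 2, 1; 1, 1, 0, 0; 1, 2, 0, 0],
    !![0, 0, 2, 1; 0, 0, 1, 1; 1, 2, 0, 0; 2, 2, 0, 0],
    !![0, 0, 1, 2; 0, 0, 2, 2; 2, 1, 0, 0; 1, 1, 0, 0],
    !![0, 0, 1, 1; 0, 0, 1, 2; 2, 2, 0, 0; 2, 1, 0, 0]]

/-- the complex structure -/
def q3X : Matrix (Fin 4) (Fin 4) (ZMod 3) := !![0, 2, 0, 0; 1, 0, 0, 0; 0, 0, 0, 2; 0, 0, 1, 0]

/-- the form -/
def q3J : Matrix (Fin 4) (Fin 4) (ZMod 3) := !![0, 1, 0, 0; 2, 0, 0, 0; 0, 0, 0, 1; 0, 0, 2, 0]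

/-- a matrix in terms of two columns -/
def q3M (s a b c d p q r t : ZMod 3) : Matrix (Fin 4) (Fin 4) (ZMod 3) :=
  !![a, -(s * b), p, -(s * q); b, s * a, q, s * p; c, -(s * d), r, -(s * t); d, s * c, t, s * r]

set_option maxRecDepth 1000000 in
set_option synthInstance.maxHeartbeats 0 in
set_option synthInstance.maxSize 100000 in
theorem q3_classify_aux : ∀ s a b c d p q r t : ZMod 3, (s = 1 ∨ s = -1) →
    (q3M s a b c d p q r t)ᵀ * q3J * q3M s a b c d p q r t = q3J →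
    q3M s a b c d p q r t * q3M s a b c d p q r t = 1 →
    ∃ k, q3M s a b c d p q r t = q3L k := by
  decide +kernel

set_option maxRecDepth 1000000 in
set_option synthInstance.maxHeartbeats 0 in
set_option synthInstance.maxSize 100000 in
theorem q3_comm_aux : ∀ k l : Fin 12, q3L k * q3L l = q3L l * q3L k ∨ q3L k * q3L l = -(q3L l * q3L k) := by
  decide +kernel

set_option maxRecDepth 1000000 in
set_option synthInstance.maxHeartbeats 0 in
set_option synthInstance.maxSize 100000 in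
theorem q3_gen_aux : ∀ k : Fin 12, (q3L k)ᵀ * q3J * q3L k = q3J ∧ q3L k * q3L k = 1 ∧
    (q3L k * q3X = q3X * q3L k ∨ q3L k * q3X = -(q3X * q3L k)) := by
  decide +kernel

/-- products of the generators -/
def q3P (T : Fin 16) : Matrix (Fin 4) (Fin 4) (ZMod 3) :=
  (if T.val % 2 = 1 then q3L 0 else 1) * (if T.val / 2 % 2 = 1 then q3L 2 else 1) *
    (if T.val / 4 % 2 = 1 then q3L 5 else 1) * (if T.val / 8 % 2 = 1 then q3L 8 else 1)

/-- reversed products of the generators -/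
def q3Q (T : Fin 16) : Matrix (Fin 4) (Fin 4) (ZMod 3) :=
  (if T.val / 8 % 2 = 1 then q3L 8 else 1) * (if T.val / 4 % 2 = 1 then q3L 5 else 1) *
    (if T.val / 2 % 2 = 1 then q3L 2 else 1) * (if T.val % 2 = 1 then q3L 0 else 1)

set_option maxRecDepth 1000000 in
set_option synthInstance.maxHeartbeats 0 in
set_option synthInstance.maxSize 100000 in
theorem q3_span_aux : ∀ i j a b : Fin 4, ∑ T, q3Q T j i * q3P T a b = if a = i ∧ b = j then 1 else 0 := by
  decide +kernel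

end Cfsg.Agent.H97.Asch
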