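import Cfsg.Agent.Lib.H97Sym4

/-!
The symplectic-type branch, keeping the group.
-/

set_option autoImplicit false
set_option linter.unusedSectionVars false
set_option linter.style.haveILetI false

namespace Cfsg.Agent.H97.Asch

open Matrix Cfsg Cfsg.Geo
open scoped MatrixGroups commutatorElement

variable {ι : Type} [Fintype ι] [DecidableEq ι] {F : Type*} [Field F]

theorem sym_branch' [Fintype F] [Nonempty ι] (hn : 3 ≤ Fintype.card ι) {H R : Subgroup (GL ι F)} {r : ℕ}
    (C : SymCtx r R) (hH : Nrm H R) :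
    (∃ (F₁ : Subfield F) (q : ℕ) (P : GL ι F), q.Prime ∧ Fintype.card F = Nat.card F₁ ^ q ∧ H ≤ subfieldSubgroup F₁ P) ∨
    ((∃ ω : F, IsPrimitiveRoot ω (r * Nat.gcd 2 r)) ∧ IsLinearSymplecticTypeData r R ∧ H ≤ subgroupNormalizer R) ∨
    (∃ (σ : F ≃+* F) (f : (ι → F) → (ι → F) → F), IsUnitaryForm σ f ∧ H ≤ similarityGroup f) ∨
    (∃ f : (ι → F) → (ι → F) → F, IsSymplecticForm f ∧ H ≤ similarityGroup f) ∨
    (∃ Q : (ι → F) → F, IsNondegenerateQuadraticForm Q ∧ Odd (Fintype.card F) ∧ H ≤ quadSimilarityGroup Q) := by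
  classical
  have hr := C.prime
  have hhabs := habs_of_spanG C.span
  have hι1 : 1 < Fintype.card ι := by omega
  obtain ⟨a, ha, hans⟩ := exists_nonscalar_of_irr (by omega) C.irr
  obtain ⟨b, hb, hab⟩ : ∃ b ∈ R, a * b ≠ b * a := by
    by_contra hall
    push Not at hall
    exact hans (C.central_scalar hall)
  obtain ⟨ξ, hξ, hc⟩ := C.comm a ha b hb
  have hξ1 : ξ ≠ 1 := by
    rintro rfl
    apply hab
    rw [hc, map_one, one_mul]
  have : Fact r.Prime := ⟨hr⟩
  have hord : orderOf ξ = r := orderOf_eq_prime hξ hξ1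
  have hprim : IsPrimitiveRoot (ξ : F) r := by
    have h1 := IsPrimitiveRoot.orderOf ξ
    rw [hord] at h1
    exact (IsPrimitiveRoot.coe_units_iff).mpr h1
  have hρ0 : (r * Nat.gcd 2 r) ≠ 0 := (Nat.mul_pos hr.pos (Nat.gcd_pos_of_pos_left _ (by norm_num))).ne'
  by_cases hω : ∃ ω : F, IsPrimitiveRoot ω (r * Nat.gcd 2 r)
  · have hωex := hω
    obtain ⟨ω, hω⟩ := hω
    obtain ⟨bs, hbs⟩ := C.exists_monomial hω
    have hpowω : ∀ x : F, x ^ (r * Nat.gcd 2 r) = 1 → ∃ u : ℕ, ω ^ u = x := by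
      intro x hx
      have : NeZero (r * Nat.gcd 2 r) := ⟨hρ0⟩
      obtain ⟨i, -, hi⟩ := hω.eq_pow_of_pow_eq_one hx
      exact ⟨i, hi⟩
    obtain ⟨P₀, hP₀⟩ := exists_gl_of_bases (Pi.basisFun F ι) bs
    have hP₀' : ∀ j, (P₀ : Matrix ι ι F) *ᵥ Pi.single j 1 = bs j := by
      intro j
      have := hP₀ j
      simpa only [Pi.basisFun_apply] using this
    have hreal : ∀ F₀ : Subfield F, ω ∈ F₀ → ∀ s ∈ R, ∀ i j,
        (((P₀⁻¹ : GL ι F) : Matrix ι ι F) * (s : Matrix ι ι F) * (((P₀⁻¹)⁻¹ : GL ι F) : Matrix ι ι F)) i j ∈ F₀ := by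
      intro F₀ hωF s hs i j
      obtain ⟨π, -, c, hc1, hc2⟩ := hbs s hs
      rw [inv_inv]
      have e2 : (((P₀⁻¹ : GL ι F) : Matrix ι ι F) * (s : Matrix ι ι F) * (P₀ : Matrix ι ι F)) i j =
          ((((P₀⁻¹ : GL ι F) : Matrix ι ι F) * (s : Matrix ι ι F) * (P₀ : Matrix ι ι F)) *ᵥ Pi.single j 1) i := by
        rw [Matrix.mulVec_single_one]
        rfl
      rw [e2, ← Matrix.mulVec_mulVec, ← Matrix.mulVec_mulVec, hP₀', hc2, Matrix.mulVec_smul, ← hP₀', gl_inv_mulVec]
      simp only [Pi.smul_apply, Pi.single_apply, smul_eq_mul]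
      obtain ⟨u, hu⟩ := hpowω _ (hc1 j)
      rw [← hu]
      split_ifs
      · rw [mul_one]
        exact F₀.pow_mem hωF _
      · rw [mul_zero]
        exact F₀.zero_mem
    have hsub : ∀ F₀ : Subfield F, F₀ ≠ ⊤ → ω ∈ F₀ →
        ∃ (F₁ : Subfield F) (q : ℕ) (P : GL ι F), q.Prime ∧ Fintype.card F = Nat.card F₁ ^ q ∧ H ≤ subfieldSubgroup F₁ P := by
      intro F₀ hF₀ hωF
      obtain ⟨F₁, q, hq, hle, hcard⟩ := exists_prime_index_subfield hF₀
      refine ⟨F₁, q, (P₀⁻¹)⁻¹, hq, by rw [← Nat.card_eq_fintype_card]; exact hcard, fun h hh => ?_⟩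
      exact mem_subfieldSubgroup_of_normalize hhabs (fun s hs i j => hreal F₁ (hle hωF) s hs i j) (hH h hh)
    have huni : ∀ σ : F ≃+* F, σ ≠ RingEquiv.refl F → (∀ a, σ (σ a) = a) → ω * σ ω = 1 →
        ∃ (σ : F ≃+* F) (f : (ι → F) → (ι → F) → F), IsUnitaryForm σ f ∧ H ≤ similarityGroup f := by
      intro σ h1 h2 h3
      refine ⟨σ, stdForm bs (σ : F →+* F), stdForm_unitary bs σ h1 h2, fun h hh => ?_⟩
      refine normalize_mem_sim hhabs (stdForm_sesq bs (σ : F →+* F)) (fun v hv => (stdForm_nondeg bs _ v hv).2)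
        (fun g hg u v => ?_) (hH h hh)
      obtain ⟨π, hπ, c, hc1, hc2⟩ := hbs g hg
      refine stdForm_mono bs (σ : F →+* F) hπ (fun k => ?_) hc2 u v
      obtain ⟨m, hm⟩ := hpowω _ (hc1 k)
      rw [← hm, map_pow, ← _root_.mul_pow]
      simp only [RingEquiv.coe_toRingHom]
      rw [h3, one_pow]
    obtain ⟨m, hm, hcardR⟩ := C.card_eq
    have hm0 : m ≠ 0 := by
      rintro rfl
      rw [pow_zero] at hm
      omega
    have hZ := C.card_center hω
    have hZ' := C.card_center' hω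
    by_cases hr2 : r = 2
    · subst hr2
      have hgcd : Nat.gcd 2 2 = 2 := by norm_num
      rw [hgcd] at hω hZ hZ'
      rcases field_analysis4 hω with ⟨F₀, h1, h2⟩ | ⟨p, hp2, hmin⟩ | ⟨σ, h1, h2, h3⟩
      · exact Or.inl (hsub F₀ h1 h2)
      · refine Or.inr (Or.inl ⟨hωex, ⟨C.symplecticType (by rwa [hgcd]), actsAbs_of_spanG C.span, p, 1, hp2, ?_, Or.inr (Or.inl ⟨rfl, rfl, hZ', ?_, m, ?_⟩)⟩, nrm_normalizer hH⟩)
        · rw [hZ']
          exact hmin
        · rw [hm]
          rcases m with _ | _ | m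
          · exact absurd rfl hm0
          · rw [hm] at hn
            simp at hn
          · rw [pow_add, pow_add]
            have : 1 ≤ 2 ^ m := Nat.one_le_two_pow
            omega
        · rw [hcardR, hZ, pow_add]
          norm_num
      · exact Or.inr (Or.inr (Or.inl (huni σ h1 h2 h3)))
    · have hgcd : Nat.gcd 2 r = 1 := (Nat.coprime_primes Nat.prime_two hr).mpr (Ne.symm hr2)
      have hodd : Odd r := hr.odd_of_ne_two hr2
      rw [hgcd, mul_one] at hZ hZ'
      have hω1 : IsPrimitiveRoot ω r := by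
        rwa [hgcd, mul_one] at hω
      have : NeZero r := ⟨hr.ne_zero⟩
      rcases field_analysis hω1 hr hodd with ⟨F₀, h1, h2⟩ | ⟨p, e, hrp, he, hmin⟩ | ⟨σ, h1, h2, h3⟩
      · exact Or.inl (hsub F₀ h1 h2)
      · refine Or.inr (Or.inl ⟨hωex, ⟨C.symplecticType hω, actsAbs_of_spanG C.span, p, e, hrp, ?_, Or.inl ⟨hodd, he, hZ', m, ?_, ?_⟩⟩, nrm_normalizer hH⟩)
        · rw [hZ']
          exact hmin
        · omega
        · rw [hcardR, hZ, pow_add, pow_one]
      · exact Or.inr (Or.inr (Or.inl (huni σ h1 h2 h3)))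
  · -- no primitive root: `r = 2`
    have hr2 : r = 2 := by
      by_contra hr2
      apply hω
      have hgcd : Nat.gcd 2 r = 1 := (Nat.coprime_primes Nat.prime_two hr).mpr (Ne.symm hr2)
      rw [hgcd, mul_one]
      exact ⟨_, hprim⟩
    subst hr2
    have hgcd : Nat.gcd 2 2 = 2 := by norm_num
    have hξm : (ξ : F) = -1 := by
      have h1 : ((ξ : F) - 1) * ((ξ : F) + 1) = 0 := by
        have h2 := hprim.pow_eq_one
        linear_combination h2
      rcases mul_eq_zero.mp h1 with h | h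
      · exfalso
        apply hξ1
        exact Units.ext (by rw [sub_eq_zero.mp h, Units.val_one])
      · exact eq_neg_of_add_eq_zero_left h
    have h2ne : (2 : F) ≠ 0 := by
      intro h
      apply hξ1
      apply Units.ext
      rw [hξm, Units.val_one]
      linear_combination -h
    have hsc : ∀ c : Fˣ, (scU c : GL ι F) ∈ R → c * c = 1 := by
      intro c hc
      have h1 := C.pow _ hc
      rw [hgcd, ← map_pow] at h1
      have h2 : c ^ (2 * 2) = 1 := by
        apply scU_injective (ι := ι)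
        rw [h1, map_one]
      have h3 : ((c : F) ^ 2 - 1) * ((c : F) ^ 2 + 1) = 0 := by
        have h4 : (c : F) ^ (2 * 2) = 1 := by
          rw [← Units.val_pow_eq_pow_val, h2, Units.val_one]
        linear_combination h4
      rcases mul_eq_zero.mp h3 with h | h
      · apply Units.ext
        rw [Units.val_mul, Units.val_one, ← pow_two]
        exact sub_eq_zero.mp h
      · exfalso
        apply hω
        rw [hgcd]
        refine ⟨c, ?_⟩
        have hc2 : (c : F) ^ 2 = -1 := eq_neg_of_add_eq_zero_left h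
        have h4 : (c : F) ^ (2 * 2) = 1 := by
          rw [pow_mul, hc2]
          norm_num
        have h5 : ¬ ((c : F) ^ 2 = 1) := by
          rw [hc2]
          intro h6
          apply h2ne
          linear_combination -h6
        have : Fact (Nat.Prime 2) := ⟨Nat.prime_two⟩
        have hoc : orderOf (c : F) = 2 ^ (1 + 1) := orderOf_eq_prime_pow (by simpa using h5) (by simpa using h4)
        have h6 := IsPrimitiveRoot.orderOf (c : F)
        rw [hoc] at h6
        exact h6
    have hoddF : Odd (Fintype.card F) := by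
      have hne : ringChar F ≠ 2 := by
        intro h
        apply h2ne
        have : CharP F 2 := by
          rw [← h]
          exact ringChar.charP F
        exact CharTwo.two_eq_zero
      exact Nat.odd_iff.mpr (FiniteField.odd_card_of_char_ne_two hne)
    rcases C.form_branch hsc h2ne with ⟨f, hf, hinv⟩ | ⟨Q, hQ, hinv⟩
    · refine Or.inr (Or.inr (Or.inr (Or.inl ⟨f, hf, fun h hh => ?_⟩)))
      exact normalize_mem_sim hhabs (sesq_of_bilinear hf.bilinear) (fun v hv => (hf.nondegenerate v hv).2) hinv (hH h hh)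
    · refine Or.inr (Or.inr (Or.inr (Or.inr ⟨Q, hQ, hoddF, fun h hh => ?_⟩)))
      exact normalize_mem_quadSim hhabs hQ h2ne hinv (hH h hh)

end Cfsg.Agent.H97.Asch
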