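import Mathlib
import Cfsg.Prelude.Def_SolvableStructure
import Cfsg.Agent.Lib.SmallPrimeClosed
import Cfsg.Agent.Lib.OddPGroup
import Cfsg.Agent.Lib.BurnsideAut
import Cfsg.Agent.Lib.ChermakDelgado
import Cfsg.Agent.Lib.SuperSolv

/-!
# Chains of invariant subgroups in a normal `q`-subgroup

Let `Q` be a normal `q`-subgroup of a finite group `N`, non-cyclic, such that all subgroups of `Q` of
a fixed order `d`, `1 < d < |Q|` (and of order `4` if `d = 2`) are normal in `N`. Then every nontrivial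
normal subgroup `U ≤ Q` of `N` has a normal subgroup of `N` of index `q`.
-/

set_option autoImplicit false

namespace Cfsg.Agent.Lib.HChain

open Subgroup
open Cfsg.Agent.Lib.Frat Cfsg.Agent.Lib.SmallPrimeClosed
open scoped commutatorElement Pointwise

section eigen

/-- A linear operator with `T ^ q = T` on a nonzero finite `𝔽_q`-space has an eigenvector. -/
theorem exists_eigen_mod {V : Type*} [AddCommGroup V] {q : ℕ} [hq : Fact q.Prime]
    [Module (ZMod q) V] [Finite V] [Nontrivial V] (T : V →ₗ[ZMod q] V) (hTq : T ^ q = T) :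
    ∃ (a : ZMod q) (v : V), v ≠ 0 ∧ T v = a • v := by
  have hfin : Module.Finite (ZMod q) V := Module.Finite.of_finite
  let p : Polynomial (ZMod q) := Polynomial.X ^ q - Polynomial.X
  have hp0 : p ≠ 0 := FiniteField.X_pow_card_sub_X_ne_zero (ZMod q) hq.out.one_lt
  have hsplit : p.Splits := by
    rw [Polynomial.splits_iff_card_roots]
    have h1 : Fintype.card (ZMod q) = q := ZMod.card q
    have h := FiniteField.roots_X_pow_card_sub_X (ZMod q)
    rw [h1] at h
    show Multiset.card (Polynomial.X ^ q - Polynomial.X : Polynomial (ZMod q)).roots =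
      (Polynomial.X ^ q - Polynomial.X : Polynomial (ZMod q)).natDegree
    rw [h, FiniteField.X_pow_card_sub_X_natDegree_eq _ hq.out.one_lt]
    simp [h1]
  have haeval : Polynomial.aeval T p = 0 := by
    simp only [p, map_sub, map_pow, Polynomial.aeval_X]
    rw [hTq, sub_self]
  have hdvd : minpoly (ZMod q) T ∣ p := minpoly.dvd _ _ haeval
  have hint : IsIntegral (ZMod q) T := IsIntegral.of_finite _ _
  have hdeg : (minpoly (ZMod q) T).degree ≠ 0 := (minpoly.degree_pos hint).ne'
  obtain ⟨a, ha⟩ := (hsplit.of_dvd hp0 hdvd).exists_eval_eq_zero hdeg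
  have hev : Module.End.HasEigenvalue T a := Module.End.hasEigenvalue_of_isRoot ha
  obtain ⟨v, hv⟩ := hev.exists_hasEigenvector
  exact ⟨a, v, hv.2, hv.apply_eq_smul⟩

/-- An additive endomorphism with `f ^ (q - 1) = 1` of a finite `𝔽_q`-space has an eigenvector. -/
theorem exists_eigen_add {V : Type*} [AddCommGroup V] {q : ℕ} [hq : Fact q.Prime]
    [Module (ZMod q) V] [Finite V] [Nontrivial V] (f : V →+ V) (hf : ∀ v, f^[q - 1] v = v) :
    ∃ (a : ZMod q) (v : V), v ≠ 0 ∧ f v = a • v := by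
  let T : V →ₗ[ZMod q] V := f.toZModLinearMap q
  have hTv : ∀ v : V, T v = f v := fun _ => rfl
  have hTpow : ∀ (n : ℕ) (v : V), (T ^ n) v = f^[n] v := by
    intro n
    induction n with
    | zero => intro v; rfl
    | succ n ih =>
      intro v
      rw [pow_succ, Module.End.mul_apply, ih, Function.iterate_succ_apply, hTv]
  have hT1 : T ^ (q - 1) = 1 := by
    apply LinearMap.ext
    intro v
    rw [hTpow, hf]
    rfl
  have hTq : T ^ q = T := by
    have h2 : (q - 1) + 1 = q := Nat.sub_add_cancel hq.out.one_lt.le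
    calc T ^ q = T ^ ((q - 1) + 1) := by rw [h2]
      _ = T := by rw [pow_succ, hT1, one_mul]
  exact exists_eigen_mod T hTq

/-- An automorphism with `σ ^ (q - 1) = 1` of an elementary abelian `q`-group has an eigenvector. -/
theorem exists_eigen {Y : Type*} [CommGroup Y] [Finite Y] [Nontrivial Y] {q : ℕ} [hq : Fact q.Prime]
    (hY : ∀ y : Y, y ^ q = 1) (σ : Y →* Y) (hσ : ∀ y, σ^[q - 1] y = y) :
    ∃ (c : ℕ) (y : Y), y ≠ 1 ∧ σ y = y ^ c := by
  classical
  have hV : ∀ x : Additive Y, q • x = 0 := fun x => by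
    show Additive.ofMul ((Additive.toMul x) ^ q) = 0
    rw [hY]; rfl
  letI iM : Module (ZMod q) (Additive Y) := AddCommGroup.zmodModule hV
  have hf : ∀ v : Additive Y, (MonoidHom.toAdditive σ)^[q - 1] v = v := by
    intro v
    have : ∀ (n : ℕ) (v : Additive Y), (MonoidHom.toAdditive σ)^[n] v =
        Additive.ofMul (σ^[n] (Additive.toMul v)) := by
      intro n
      induction n with
      | zero => intro v; rfl
      | succ n ih =>
        intro v
        rw [Function.iterate_succ_apply, ih, Function.iterate_succ_apply]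
        rfl
    rw [this, hσ]
    rfl
  obtain ⟨a, v, hv0, hva⟩ := exists_eigen_add (MonoidHom.toAdditive σ) hf
  refine ⟨a.val, Additive.toMul v, ?_, ?_⟩
  · intro h
    exact hv0 h
  · have h2 : a • v = (a.val : ZMod q) • v := by rw [ZMod.natCast_zmod_val]
    rw [h2, Nat.cast_smul_eq_nsmul] at hva
    exact hva

/-- A common eigenvector: a group acting on an elementary abelian group, commutatively with exponent
dividing `q - 1` on an invariant subgroup. -/
theorem exists_common_eigen {Γ Y : Type*} [Group Γ] [CommGroup Y] [Finite Y]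
    [MulDistribMulAction Γ Y] {q : ℕ} [hq : Fact q.Prime] (hY : ∀ y : Y, y ^ q = 1)
    (Y₁ : Subgroup Y) (hne : Y₁ ≠ ⊥) (hinv : ∀ a : Γ, ∀ y ∈ Y₁, a • y ∈ Y₁)
    (hcomm : ∀ a b : Γ, ∀ y ∈ Y₁, a • b • y = b • a • y)
    (hpow : ∀ a : Γ, ∀ y ∈ Y₁, (a ^ (q - 1)) • y = y) :
    ∃ y ∈ Y₁, y ≠ 1 ∧ ∀ a : Γ, ∃ c : ℕ, a • y = y ^ c := by
  classical
  let S : Set (Subgroup Y) := {T | T ≠ ⊥ ∧ T ≤ Y₁ ∧ ∀ a : Γ, ∀ y ∈ T, a • y ∈ T}
  obtain ⟨T, hT⟩ := S.toFinite.exists_minimal ⟨Y₁, hne, le_rfl, hinv⟩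
  obtain ⟨hT0, hT1, hT2⟩ := hT.1
  have hnt : Nontrivial T := (Subgroup.nontrivial_iff_ne_bot _).2 hT0
  obtain ⟨y₀, hy₀⟩ := exists_ne (1 : T)
  refine ⟨y₀, hT1 y₀.2, fun h => hy₀ (Subtype.ext h), ?_⟩
  intro a
  let σ : T →* T :=
    { toFun := fun t => ⟨a • (t : Y), hT2 a _ t.2⟩
      map_one' := by
        apply Subtype.ext
        show a • (1 : Y) = 1
        exact smul_one a
      map_mul' := fun s t => by
        apply Subtype.ext
        show a • ((s : Y) * t) = (a • (s : Y)) * (a • (t : Y))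
        exact smul_mul' a _ _ }
  have hσit : ∀ (n : ℕ) (t : T), ((σ^[n] t : T) : Y) = (a ^ n) • (t : Y) := by
    intro n
    induction n with
    | zero => intro t; simp
    | succ n ih =>
      intro t
      rw [Function.iterate_succ_apply', pow_succ', mul_smul, ← ih]
      rfl
  have hσ : ∀ t, σ^[q - 1] t = t := by
    intro t
    apply Subtype.ext
    rw [hσit]
    exact hpow a _ (hT1 t.2)
  obtain ⟨c, t, ht, htc⟩ := exists_eigen (Y := T) (q := q)
    (fun y => Subtype.ext (by simpa using hY y)) σ hσ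
  -- the eigen-subgroup
  let E : Subgroup Y :=
    { carrier := {y | a • y = y ^ c}
      mul_mem' := by
        intro x z hx hz
        show a • (x * z) = (x * z) ^ c
        rw [smul_mul', hx, hz, mul_pow]
      one_mem' := by
        show a • (1 : Y) = 1 ^ c
        rw [smul_one, one_pow]
      inv_mem' := by
        intro x hx
        show a • x⁻¹ = x⁻¹ ^ c
        rw [smul_inv', hx, inv_pow] }
  have hTE : T ⊓ E ∈ S := by
    refine ⟨?_, inf_le_left.trans hT1, ?_⟩
    · intro h
      apply ht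
      have h1 : (t : Y) ∈ T ⊓ E := ⟨t.2, congrArg Subtype.val htc⟩
      rw [h, Subgroup.mem_bot] at h1
      exact Subtype.ext h1
    · rintro b y ⟨hyT, hyE⟩
      refine ⟨hT2 b y hyT, ?_⟩
      show a • b • y = (b • y) ^ c
      rw [hcomm a b y (hT1 hyT), ← smul_pow']
      congr 1
  have hle : T ≤ T ⊓ E := hT.2 hTE inf_le_left
  exact ⟨c, (hle y₀.2).2⟩

end eigen

section fixed

/-- Fixed points for a group acting through a `q`-group. -/
theorem exists_fixed_of_image {Γ Y : Type*} [Group Γ] [MulAction Γ Y] [Finite Y] {q : ℕ}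
    [hq : Fact q.Prime] (h : ∀ g : Γ, ∃ k : ℕ, ∀ y : Y, (g ^ (q ^ k)) • y = y)
    (hdvd : q ∣ Nat.card Y) {y₀ : Y} (hy₀ : ∀ g : Γ, g • y₀ = y₀) :
    ∃ y : Y, (∀ g : Γ, g • y = y) ∧ y₀ ≠ y := by
  classical
  let R : Subgroup (Equiv.Perm Y) := (MulAction.toPermHom Γ Y).range
  have hR : IsPGroup q R := by
    rintro ⟨σ, g, rfl⟩
    obtain ⟨k, hk⟩ := h g
    refine ⟨k, ?_⟩
    apply Subtype.ext
    apply Equiv.ext
    intro y
    have : ((⟨MulAction.toPermHom Γ Y g, g, rfl⟩ : R) ^ q ^ k : R).1 = (MulAction.toPermHom Γ Y (g ^ q ^ k)) := by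
      rw [map_pow]; rfl
    rw [this]
    exact hk y
  have hfix : y₀ ∈ MulAction.fixedPoints R Y := by
    rintro ⟨σ, g, rfl⟩
    exact hy₀ g
  obtain ⟨y, hy, hne⟩ := hR.exists_fixed_point_of_prime_dvd_card_of_fixed_point Y hdvd hfix
  refine ⟨y, fun g => ?_, hne⟩
  exact hy ⟨_, g, rfl⟩

end fixed

section multiplier

variable {q : ℕ} [hq : Fact q.Prime]

theorem mult_pow_eq_one (a : Multiplicative (ZMod q)) : a ^ q = 1 := by
  have : a ^ q = Multiplicative.ofAdd (q • (Multiplicative.toAdd a)) := rfl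
  rw [this]
  simp

theorem exists_pow_of_ne_one {a : Multiplicative (ZMod q)} (ha : a ≠ 1)
    (b : Multiplicative (ZMod q)) : ∃ n : ℕ, b = a ^ n := by
  have h0 : Multiplicative.toAdd a ≠ 0 := fun h => ha h
  set t : ZMod q := Multiplicative.toAdd b / Multiplicative.toAdd a with ht
  refine ⟨t.val, ?_⟩
  have h1 : a ^ t.val = Multiplicative.ofAdd (t.val • (Multiplicative.toAdd a)) := rfl
  rw [h1, nsmul_eq_mul, ZMod.natCast_zmod_val, ht, div_mul_cancel₀ _ h0]
  rfl

/-- A kernel-preserving endomorphism acts on `χ : U → 𝔽ₚ` by a multiplier. -/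
theorem exists_pow_of_ker {U : Type*} [Group U] (χ : U →* Multiplicative (ZMod q)) (α : U →* U)
    (hker : ∀ b, χ b = 1 → χ (α b) = 1) : ∃ c : ℕ, ∀ x, χ (α x) = χ x ^ c := by
  by_cases htriv : ∀ b, χ b = 1
  · refine ⟨0, fun x => ?_⟩
    rw [htriv, pow_zero]
  push_neg at htriv
  obtain ⟨u₀, hu₀⟩ := htriv
  obtain ⟨c, hc⟩ := exists_pow_of_ne_one hu₀ (χ (α u₀))
  refine ⟨c, fun x => ?_⟩
  obtain ⟨n, hn⟩ := exists_pow_of_ne_one hu₀ (χ x)
  have h1 : χ (x * (u₀ ^ n)⁻¹) = 1 := by
    rw [map_mul, map_inv, map_pow, hn, mul_inv_cancel]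
  have h2 := hker _ h1
  rw [map_mul, map_inv, map_pow, map_mul, map_inv, map_pow, hc] at h2
  have h3 : χ (α x) = (χ u₀ ^ c) ^ n := mul_inv_eq_one.mp h2
  rw [h3, hn, ← pow_mul, ← pow_mul, mul_comm]

end multiplier

section burnside

theorem trivial_of_frattini {R : Type*} [Group R] [Finite R] {q : ℕ} [hq : Fact q.Prime]
    (hR : IsPGroup q R) (τ : MulAut R) {n : ℕ} (hn : τ ^ n = 1) (hc : Nat.Coprime n q)
    (h : ∀ b : R, τ b * b⁻¹ ∈ frattini R) : τ = 1 := by
  by_contra hne
  have hord : orderOf τ ≠ 1 := fun h1 => hne (orderOf_eq_one_iff.mp h1)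
  set r := (orderOf τ).minFac with hr
  have hrp : r.Prime := Nat.minFac_prime hord
  have hrd : r ∣ orderOf τ := Nat.minFac_dvd _
  have hrn : r ∣ n := hrd.trans (orderOf_dvd_of_pow_eq_one hn)
  have hrq : r ≠ q := by
    intro he
    have h1 : q ∣ n := he ▸ hrn
    have := Nat.Coprime.eq_one_of_dvd hc.symm h1
    exact hq.out.one_lt.ne' this
  obtain ⟨m, hm⟩ := hrd
  have hpowF : ∀ (k : ℕ) (b : R), (τ ^ k) b * b⁻¹ ∈ frattini R := by
    intro k
    induction k with
    | zero => intro b; simp [one_mem]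
    | succ k ih =>
      intro b
      rw [pow_succ, MulAut.mul_apply]
      have e : (τ ^ k) (τ b) * b⁻¹ = ((τ ^ k) (τ b) * (τ b)⁻¹) * (τ b * b⁻¹) := by group
      rw [e]
      exact mul_mem (ih _) (h b)
  have hτ' : (τ ^ m) ^ r = 1 := by
    rw [← pow_mul, mul_comm, ← hm, pow_orderOf_eq_one]
  have h1 := Cfsg.Agent.Lib.BurnsideAut.aut_eq_one_of_trivial_on_frattini hR hrp hrq (τ ^ m) hτ'
    (hpowF m)
  have hmpos : 0 < m := by
    rcases Nat.eq_zero_or_pos m with h0 | h0
    · rw [h0, mul_zero] at hm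
      exact absurd hm (orderOf_pos τ).ne'
    · exact h0
  have h2 : orderOf τ ∣ m := orderOf_dvd_of_pow_eq_one h1
  have h3 : orderOf τ ≤ m := Nat.le_of_dvd hmpos h2
  have h4 : 2 ≤ r := hrp.two_le
  have h5 : r * m ≤ m := by rw [← hm]; exact h3
  nlinarith

end burnside

variable {N : Type*} [Group N] [Finite N] {q : ℕ} [hq : Fact q.Prime]

/-- Elements of `N` acting trivially on all `N`-invariant sections of order `q` of `Q`. -/
def Gone (q : ℕ) (Q : Subgroup N) : Subgroup N where
  carrier := {g | ∀ (U : Subgroup N) (_ : U ≤ Q) [U.Normal] (χ : U →* Multiplicative (ZMod q)),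
    (∀ (a : N) (b : U), χ b = 1 → χ (MulAut.conjNormal a b) = 1) →
      ∀ b : U, χ (MulAut.conjNormal g b) = χ b}
  mul_mem' := by
    intro g h hg hh U hU _ χ hχ b
    rw [map_mul, MulAut.mul_apply]
    rw [hg U hU χ hχ, hh U hU χ hχ]
  one_mem' := by
    intro U hU _ χ hχ b
    rw [map_one]
    rfl
  inv_mem' := by
    intro g hg U hU _ χ hχ b
    have h1 := hg U hU χ hχ (MulAut.conjNormal g⁻¹ b)
    rw [← h1, ← MulAut.mul_apply, ← map_mul, mul_inv_cancel, map_one]
    rfl

theorem mem_Gone {Q : Subgroup N} {g : N} : g ∈ Gone q Q ↔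
    ∀ (U : Subgroup N) (_ : U ≤ Q) [U.Normal] (χ : U →* Multiplicative (ZMod q)),
    (∀ (a : N) (b : U), χ b = 1 → χ (MulAut.conjNormal a b) = 1) →
      ∀ b : U, χ (MulAut.conjNormal g b) = χ b := Iff.rfl

theorem Gone_normal (Q : Subgroup N) : (Gone q Q).Normal := by
  constructor
  intro g hg a U hU _ χ hχ b
  rw [mem_Gone] at hg
  let χ' : U →* Multiplicative (ZMod q) := χ.comp (MulAut.conjNormal a).toMonoidHom
  have hχ' : ∀ (x : N) (b : U), χ' b = 1 → χ' (MulAut.conjNormal x b) = 1 := by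
    intro x b hb
    show χ (MulAut.conjNormal a (MulAut.conjNormal x b)) = 1
    rw [← MulAut.mul_apply, ← map_mul]
    have e : a * x = (a * x * a⁻¹) * a := by group
    rw [e, map_mul, MulAut.mul_apply]
    exact hχ _ _ hb
  have h1 := hg U hU χ' hχ' (MulAut.conjNormal a⁻¹ b)
  have e1 : χ' (MulAut.conjNormal g (MulAut.conjNormal a⁻¹ b)) =
      χ (MulAut.conjNormal (a * g * a⁻¹) b) := by
    show χ (MulAut.conjNormal a (MulAut.conjNormal g (MulAut.conjNormal a⁻¹ b))) = _
    rw [← MulAut.mul_apply, ← MulAut.mul_apply, ← map_mul, ← map_mul]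
  have e2 : χ' (MulAut.conjNormal a⁻¹ b) = χ b := by
    show χ (MulAut.conjNormal a (MulAut.conjNormal a⁻¹ b)) = _
    rw [← MulAut.mul_apply, ← map_mul, mul_inv_cancel, map_one]
    rfl
  rw [← e1, h1, e2]

/-- Commutators lie in `Gone`. -/
theorem commutator_mem_Gone (Q : Subgroup N) (a b : N) : a * b * a⁻¹ * b⁻¹ ∈ Gone q Q := by
  rw [mem_Gone]
  intro U hU _ χ hχ z
  obtain ⟨c₁, hc₁⟩ := exists_pow_of_ker χ (MulAut.conjNormal a : U ≃* U).toMonoidHom (hχ a)
  obtain ⟨c₂, hc₂⟩ := exists_pow_of_ker χ (MulAut.conjNormal b : U ≃* U).toMonoidHom (hχ b)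
  have h1 : ∀ x : U, χ (MulAut.conjNormal a (MulAut.conjNormal b x)) =
      χ (MulAut.conjNormal b (MulAut.conjNormal a x)) := by
    intro x
    have e1 := hc₁ (MulAut.conjNormal b x)
    have e2 := hc₂ (MulAut.conjNormal a x)
    have e3 := hc₁ x
    have e4 := hc₂ x
    simp only [MulEquiv.coe_toMonoidHom] at e1 e2 e3 e4
    rw [e1, e2, e3, e4, ← pow_mul, ← pow_mul, mul_comm]
  have h2 := h1 (MulAut.conjNormal (b * a)⁻¹ z)
  have e5 : MulAut.conjNormal a (MulAut.conjNormal b (MulAut.conjNormal (b * a)⁻¹ z)) =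
      MulAut.conjNormal (a * b * a⁻¹ * b⁻¹) z := by
    rw [← MulAut.mul_apply, ← MulAut.mul_apply, ← map_mul, ← map_mul]
    congr 2
    group
  have e6 : MulAut.conjNormal b (MulAut.conjNormal a (MulAut.conjNormal (b * a)⁻¹ z)) = z := by
    rw [← MulAut.mul_apply, ← MulAut.mul_apply, ← map_mul, ← map_mul, mul_inv_cancel, map_one]
    rfl
  rw [e5, e6] at h2
  exact h2

/-- `(q - 1)`-th powers lie in `Gone`. -/
theorem pow_mem_Gone (Q : Subgroup N) (a : N) : a ^ (q - 1) ∈ Gone q Q := by
  rw [mem_Gone]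
  intro U hU _ χ hχ z
  obtain ⟨c, hc⟩ := exists_pow_of_ker χ (MulAut.conjNormal a : U ≃* U).toMonoidHom (hχ a)
  simp only [MulEquiv.coe_toMonoidHom] at hc
  have hit : ∀ (k : ℕ) (x : U), χ (MulAut.conjNormal (a ^ k) x) = χ x ^ (c ^ k) := by
    intro k
    induction k with
    | zero => intro x; simp
    | succ k ih =>
      intro x
      rw [pow_succ, map_mul, MulAut.mul_apply, ih, hc, ← pow_mul, pow_succ']
  rw [hit]
  by_cases hqc : q ∣ c
  · -- then `χ` is trivial
    have hall : ∀ x : U, χ x = 1 := by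
      intro x
      have h1 := hc (MulAut.conjNormal a⁻¹ x)
      have e : MulAut.conjNormal a (MulAut.conjNormal a⁻¹ x) = x := by
        rw [← MulAut.mul_apply, ← map_mul, mul_inv_cancel, map_one]
        rfl
      rw [e] at h1
      obtain ⟨m, rfl⟩ := hqc
      rw [h1, pow_mul, mult_pow_eq_one, one_pow]
    rw [hall, one_pow]
  · have hcop : Nat.Coprime c q := ((Nat.Prime.coprime_iff_not_dvd hq.out).2 hqc).symm
    have h1 : (c : ZMod q) ≠ 0 := by
      rwa [Ne, ZMod.natCast_eq_zero_iff]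
    have h2 : ((c ^ (q - 1) : ℕ) : ZMod q) = 1 := by
      rw [Nat.cast_pow]
      exact ZMod.pow_card_sub_one_eq_one h1
    have h3 : c ^ (q - 1) % q = 1 % q := by
      have : ((c ^ (q - 1) : ℕ) : ZMod q) = ((1 : ℕ) : ZMod q) := by rw [h2]; simp
      exact (ZMod.natCast_eq_natCast_iff' _ _ _).1 this
    have h4 : ∀ (t : Multiplicative (ZMod q)) (m : ℕ), t ^ m = t ^ (m % q) := by
      intro t m
      exact pow_eq_pow_mod m (mult_pow_eq_one t)
    rw [h4 _ (c ^ (q - 1)), h3, ← h4]
    simp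

/-- Subgroups between a subgroup and a `q`-group. -/
theorem exists_between_sub {M H : Subgroup N} (hH : H ≤ M) {k n : ℕ} (hk : Nat.card H = q ^ k)
    (hkn : k ≤ n) (h2 : q ^ n ∣ Nat.card M) :
    ∃ E : Subgroup N, E ≤ M ∧ H ≤ E ∧ Nat.card E = q ^ n := by
  have hH' : Nat.card (H.subgroupOf M) = q ^ k := by
    rw [← hk]
    exact Nat.card_congr (Subgroup.subgroupOfEquivOfLe hH).toEquiv
  obtain ⟨K, hK, hHK⟩ := Sylow.exists_subgroup_card_pow_prime_le q h2 (H.subgroupOf M) hH' hkn
  refine ⟨K.map M.subtype, map_subtype_le K, ?_, ?_⟩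
  · intro x hx
    exact ⟨⟨x, hH hx⟩, hHK (mem_subgroupOf.mpr hx), rfl⟩
  · rw [← hK]
    exact Nat.card_congr (Subgroup.equivMapOfInjective K M.subtype M.subtype_injective).symm.toEquiv

section main

variable (Q : Subgroup N) [hQn : Q.Normal] (hQ : IsPGroup q Q) {d n : ℕ} (hd : d = q ^ n)
  (hn : 0 < n) (hdlt : d < Nat.card Q)
  (hF : ∀ F : Subgroup N, F ≤ Q → (Nat.card F = d ∨ (d = 2 ∧ Nat.card F = 4)) → F.Normal)
include hQ hd hn hdlt hF

/-- Subgroups of order `d q` have all their maximal subgroups normal, and are normal if non-cyclic. -/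
theorem normal_of_noncyclic {R : Subgroup N} (hRQ : R ≤ Q) (hRc : Nat.card R = d * q)
    (hRnc : ¬ IsCyclic R) :
    R.Normal ∧ ∀ M : Subgroup R, IsCoatom M → (M.map R.subtype).Normal := by
  have hRp : IsPGroup q R := hQ.to_le hRQ
  have hcoat : ∀ M : Subgroup R, IsCoatom M → (M.map R.subtype).Normal := by
    intro M hM
    have hidx : M.index = q := index_eq_of_isCoatom hRp hM
    have h1 : Nat.card M * M.index = Nat.card R := Subgroup.card_mul_index M
    rw [hidx, hRc] at h1
    have h2 : Nat.card M = d := Nat.eq_of_mul_eq_mul_right hq.out.pos h1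
    have h3 : Nat.card (M.map R.subtype) = d := by
      rw [← h2]
      exact Nat.card_congr (Subgroup.equivMapOfInjective M R.subtype R.subtype_injective).symm.toEquiv
    exact hF _ ((map_subtype_le M).trans hRQ) (Or.inl h3)
  refine ⟨?_, hcoat⟩
  have hnt : Nontrivial R := by
    by_contra hcon
    rw [not_nontrivial_iff_subsingleton] at hcon
    exact hRnc inferInstance
  obtain ⟨M₁, hM₁⟩ : ∃ M : Subgroup R, IsCoatom M := by
    rcases eq_top_or_exists_le_coatom (⊥ : Subgroup R) with h | ⟨M, hM, -⟩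
    · exact absurd h bot_ne_top
    · exact ⟨M, hM⟩
  obtain ⟨x, hx⟩ : ∃ x : R, x ∉ M₁ := by
    by_contra hcon
    push_neg at hcon
    exact hM₁.1 (eq_top_iff.2 fun x _ => hcon x)
  have hZ : zpowers x ≠ ⊤ := fun h => hRnc (isCyclic_iff_exists_zpowers_eq_top.2 ⟨x, h⟩)
  obtain ⟨M₂, hM₂, hxM₂⟩ : ∃ M : Subgroup R, IsCoatom M ∧ zpowers x ≤ M := by
    rcases eq_top_or_exists_le_coatom (zpowers x) with h | ⟨M, hM, hle⟩
    · exact absurd h hZ
    · exact ⟨M, hM, hle⟩
  have hne : M₁ ≠ M₂ := by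
    rintro rfl
    exact hx (hxM₂ (mem_zpowers x))
  have hsup : M₁ ⊔ M₂ = ⊤ := hM₁.sup_eq_top_of_ne hM₂ hne
  have hR : R = M₁.map R.subtype ⊔ M₂.map R.subtype := by
    rw [← Subgroup.map_sup, hsup, ← MonoidHom.range_eq_map, range_subtype]
  have := hcoat M₁ hM₁
  have := hcoat M₂ hM₂
  rw [hR]
  infer_instance

/-- An element of `Gone` of order prime to `q` centralizes a non-cyclic subgroup of order `d q`. -/
theorem centralizes_noncyclic {y : N} (hyG : y ∈ Gone q Q) (hyc : Nat.Coprime (orderOf y) q)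
    {R : Subgroup N} (hRQ : R ≤ Q) (hRc : Nat.card R = d * q) (hRnc : ¬ IsCyclic R) :
    y ∈ centralizer (R : Set N) := by
  classical
  obtain ⟨hRn, hRM⟩ := normal_of_noncyclic Q hQ hd hn hdlt hF hRQ hRc hRnc
  have := hRn
  have hRp : IsPGroup q R := hQ.to_le hRQ
  let α : MulAut R := MulAut.conjNormal y
  have hα : α ^ orderOf y = 1 := by
    show (MulAut.conjNormal y : MulAut R) ^ orderOf y = 1
    rw [← map_pow, pow_orderOf_eq_one, map_one]
  have hF2 : ∀ b : R, α b * b⁻¹ ∈ frattini R := by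
    intro b
    have : ∀ M : Subgroup R, IsCoatom M → α b * b⁻¹ ∈ M := by
      intro M hM
      obtain ⟨χ, hχ⟩ := exists_hom_ker_of_isCoatom hRp hM
      rw [← hχ, MonoidHom.mem_ker, map_mul, map_inv]
      have hinv : ∀ (a : N) (c : R), χ c = 1 → χ (MulAut.conjNormal a c) = 1 := by
        intro a c hc
        have hcM : c ∈ M := by rw [← hχ]; exact hc
        have hnM := hRM M hM
        have h1 : (c : N) ∈ M.map R.subtype := ⟨c, hcM, rfl⟩
        have h2 := hnM.conj_mem _ h1 a
        obtain ⟨z, hz, hzc⟩ := h2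
        have h3 : z = MulAut.conjNormal a c := Subtype.ext (by
          rw [MulAut.conjNormal_apply]; exact hzc)
        rw [← h3]
        have : z ∈ χ.ker := by rw [hχ]; exact hz
        exact this
      have h2 := (mem_Gone.1 hyG) R hRQ χ hinv b
      have h3 : χ (α b) = χ b := h2
      rw [h3, mul_inv_cancel]
    simpa [frattini, Order.radical, Subgroup.mem_iInf] using this
  have hα1 : α = 1 := trivial_of_frattini hRp α hα hyc hF2
  rw [mem_centralizer_iff]
  intro a ha
  have h1 : ((α ⟨a, ha⟩ : R) : N) = y * a * y⁻¹ := MulAut.conjNormal_apply _ _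
  rw [hα1] at h1
  have h2 : a = y * a * y⁻¹ := h1
  calc a * y = (y * a * y⁻¹) * y := by rw [← h2]
    _ = y * a := by group

/-- A `q'`-element of `Gone` centralizes `Q` (`Q` non-cyclic). -/
theorem centralizes_of_mem_Gone (hnc : ¬ IsCyclic Q) {y : N} (hyG : y ∈ Gone q Q)
    (hyc : Nat.Coprime (orderOf y) q) : y ∈ centralizer (Q : Set N) := by
  classical
  by_contra hyn
  let S : Set (Subgroup N) := {U | U ≤ Q ∧ y ∈ normalizer (U : Set N) ∧ y ∉ centralizer (U : Set N)}
  have hSne : S.Nonempty := ⟨Q, le_rfl, by rw [normalizer_eq_top]; exact mem_top y, hyn⟩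
  obtain ⟨Q', hQ'⟩ := S.toFinite.exists_minimal hSne
  obtain ⟨hQ'Q, hy', hyn'⟩ := hQ'.1
  have hQ'p : IsPGroup q Q' := hQ.to_le hQ'Q
  have hmn : ∀ U : Subgroup N, U < Q' → y ∈ normalizer (U : Set N) → y ∈ centralizer (U : Set N) := by
    intro U hU hUn
    by_contra hcon
    exact hU.not_ge (hQ'.2 ⟨hU.le.trans hQ'Q, hUn, hcon⟩ hU.le)
  obtain ⟨hoddx, h4x, hCeq⟩ := min_pair_facts hQ'p hy' hyc hyn' hmn
  obtain ⟨u, huQ', huC⟩ : ∃ u ∈ Q', u ∉ Q' ⊓ centralizer ({y} : Set N) := by
    by_contra hcon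
    push_neg at hcon
    apply hyn'
    rw [mem_centralizer_iff]
    intro x hx
    exact (mem_centralizer_iff.1 (hcon x hx).2 y rfl).symm
  have huQ : u ∈ Q := hQ'Q huQ'
  have hu1 : u ≠ 1 := by
    rintro rfl
    exact huC (one_mem _)
  -- it suffices to centralize `u`
  have hufin : y ∈ centralizer ((zpowers u : Subgroup N) : Set N) → False := by
    intro h
    apply huC
    refine ⟨huQ', ?_⟩
    show u ∈ centralizer ({y} : Set N)
    rw [mem_centralizer_iff]
    intro z hz
    rw [Set.mem_singleton_iff] at hz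
    rw [hz]
    exact (mem_centralizer_iff.1 h u (mem_zpowers u)).symm
  have hRfin : ∀ R : Subgroup N, R ≤ Q → Nat.card R = d * q → ¬ IsCyclic R → u ∈ R → False := by
    intro R hRQ hRc hRnc huR
    have h1 := centralizes_noncyclic Q hQ hd hn hdlt hF hyG hyc hRQ hRc hRnc
    apply hufin
    rw [mem_centralizer_iff]
    intro z hz
    exact mem_centralizer_iff.1 h1 z (((zpowers_le).2 huR) hz)
  have hdq : d * q ∣ Nat.card Q ∧ d * q = q ^ (n + 1) := by
    obtain ⟨N', hN'⟩ := IsPGroup.iff_card.mp hQ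
    rw [hN', hd] at hdlt
    have h1 : n < N' := (Nat.pow_lt_pow_iff_right hq.out.one_lt).1 hdlt
    rw [hd, ← pow_succ, hN']
    exact ⟨pow_dvd_pow q h1, rfl⟩
  by_cases hd2 : d = 2
  · -- `d = 2`
    have hp2 : q = 2 := by
      have h1 : q ∣ 2 := by
        rw [← hd2, hd]
        exact dvd_pow_self q hn.ne'
      exact (Nat.prime_dvd_prime_iff_eq hq.out Nat.prime_two).1 h1
    have h4 := h4x hp2 u huQ'
    have ho : orderOf u ∣ 2 ^ 2 := orderOf_dvd_of_pow_eq_one h4
    obtain ⟨k, hk, hku⟩ := (Nat.dvd_prime_pow Nat.prime_two).1 ho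
    have hcard : Nat.card (zpowers u) = 2 ∨ Nat.card (zpowers u) = 4 := by
      rw [Nat.card_zpowers, hku]
      interval_cases k
      · exfalso
        apply hu1
        have : orderOf u = 1 := by simpa using hku
        exact orderOf_eq_one_iff.mp this
      · left; norm_num
      · right; norm_num
    have hle : zpowers u ≤ Q := (zpowers_le).2 huQ
    have hcond : Nat.card (zpowers u) = d ∨ (d = 2 ∧ Nat.card (zpowers u) = 4) := by
      rcases hcard with h | h
      · left; rw [h, hd2]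
      · right; exact ⟨hd2, h⟩
    have hnorm := hF _ hle hcond
    have hyN : y ∈ normalizer ((zpowers u : Subgroup N) : Set N) := by
      rw [normalizer_eq_top]; exact mem_top y
    have hcyc : IsCyclic (zpowers u) := inferInstance
    apply hufin
    subst hp2
    exact mem_centralizer_of_cyclic (p := 2) (fun r hr _ => hr.two_le)
      (hQ.to_le hle) hcyc hyN hyc
  · -- `d ≠ 2`
    by_cases hQ'c : IsCyclic Q'
    · -- cyclic `Q'`
      have hq2 : q ≠ 2 := by
        rintro rfl
        exact hyn' (mem_centralizer_of_cyclic (p := 2) (fun r hr _ => hr.two_le) hQ'p hQ'c hy' hyc)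
      have huq : u ^ q = 1 := hoddx hq2 u huQ'
      have huo : orderOf u = q := orderOf_eq_prime huq hu1
      -- another element of order `q`
      obtain ⟨z, hzQ, hzq, hzn, hzc⟩ : ∃ z ∈ Q, z ^ q = 1 ∧ z ∉ zpowers u ∧ z * u = u * z := by
        -- a central element of order `q`
        have hQnt : Nontrivial Q := ⟨⟨⟨u, huQ⟩, 1, fun h => hu1 (congrArg Subtype.val h)⟩⟩
        have hcn : Nontrivial (center Q) := hQ.center_nontrivial
        have hcp : IsPGroup q (center Q) := hQ.to_subgroup _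
        obtain ⟨m, hm, hcm⟩ := (hcp.nontrivial_iff_card).mp hcn
        have hdv : q ∣ Nat.card (center Q) := by rw [hcm]; exact dvd_pow_self q hm.ne'
        obtain ⟨z₀, hz₀⟩ := exists_prime_orderOf_dvd_card' q hdv
        have hz₀o : orderOf ((z₀ : Q) : N) = q := by
          rw [Subgroup.orderOf_coe, Subgroup.orderOf_coe, hz₀]
        have hz₀Q : ((z₀ : Q) : N) ∈ Q := (z₀ : Q).2
        have hz₀c : ∀ x ∈ Q, x * ((z₀ : Q) : N) = ((z₀ : Q) : N) * x := by
          intro x hx
          have := mem_center_iff.1 z₀.2 ⟨x, hx⟩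
          exact (congrArg Subtype.val this)
        by_cases hz₀u : ((z₀ : Q) : N) ∈ zpowers u
        · -- `u` is central in `Q`
          have hzz : zpowers ((z₀ : Q) : N) = zpowers u := by
            apply Subgroup.eq_of_le_of_card_ge ((zpowers_le).2 hz₀u)
            rw [Nat.card_zpowers, Nat.card_zpowers, huo, hz₀o]
          have huc : ∀ x ∈ Q, x * u = u * x := by
            intro x hx
            have hu' : u ∈ zpowers ((z₀ : Q) : N) := by rw [hzz]; exact mem_zpowers u
            obtain ⟨k, hk⟩ := hu'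
            rw [← hk]
            exact (Commute.zpow_right (hz₀c x hx) k)
          -- two subgroups of order `q`
          have hnotuniq : ¬ ∀ H K : Subgroup Q, Nat.card H = q → Nat.card K = q → H = K :=
            fun h => hnc (Cfsg.Agent.Lib.OddPGroup.isCyclic_of_unique hq2 hQ h)
          push_neg at hnotuniq
          obtain ⟨H, K, hH, hK, hHK⟩ := hnotuniq
          let U₀ : Subgroup Q := (zpowers u).subgroupOf Q
          have hU₀ : Nat.card U₀ = q := by
            rw [← huo, ← Nat.card_zpowers]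
            exact Nat.card_congr (Subgroup.subgroupOfEquivOfLe ((zpowers_le).2 huQ)).toEquiv
          have hne : H ≠ U₀ ∨ K ≠ U₀ := by
            by_contra hcon
            push_neg at hcon
            exact hHK (hcon.1.trans hcon.2.symm)
          have hex : ∃ z ∈ Q, z ^ q = 1 ∧ z ∉ zpowers u := by
            have key : ∀ T : Subgroup Q, Nat.card T = q → T ≠ U₀ → ∃ z ∈ Q, z ^ q = 1 ∧ z ∉ zpowers u := by
              intro T hT hTU
              have : ¬ T ≤ U₀ := by
                intro hle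
                exact hTU (Subgroup.eq_of_le_of_card_ge hle (by rw [hU₀, hT]))
              obtain ⟨t, ht, htU⟩ := SetLike.not_le_iff_exists.mp this
              refine ⟨t, t.2, ?_, fun h => htU (mem_subgroupOf.mpr h)⟩
              have h1 : (⟨t, ht⟩ : T) ^ Nat.card T = 1 := pow_card_eq_one'
              rw [hT] at h1
              have h2 : (t : Q) ^ q = 1 := congrArg Subtype.val h1
              exact congrArg Subtype.val h2
            rcases hne with h | h
            · exact key H hH h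
            · exact key K hK h
          obtain ⟨z, hzQ, hzq, hzn⟩ := hex
          exact ⟨z, hzQ, hzq, hzn, huc z hzQ⟩
        · have hzq : ((z₀ : Q) : N) ^ q = 1 := by
            rw [← hz₀o]; exact pow_orderOf_eq_one _
          exact ⟨_, hz₀Q, hzq, hz₀u, (hz₀c u huQ).symm⟩
      -- the subgroup `⟨u, z⟩`
      set A : Subgroup N := zpowers u ⊔ zpowers z with hA
      have hAQ : A ≤ Q := sup_le ((zpowers_le).2 huQ) ((zpowers_le).2 hzQ)
      have hAp : IsPGroup q A := hQ.to_le hAQ
      have hzcomm : zpowers u ≤ Cfsg.Agent.Lib.ChermakDelgado.Cz (zpowers z) := by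
        rw [zpowers_le, Cfsg.Agent.Lib.ChermakDelgado.mem_Cz]
        intro b hb
        obtain ⟨k, rfl⟩ := mem_zpowers_iff.1 hb
        exact (Commute.zpow_left (show Commute z u from hzc) k).eq
      have hAset := Cfsg.Agent.Lib.ChermakDelgado.coe_sup_eq_mul_of_commute hzcomm
      have hAcard : Nat.card A ∣ q ^ 2 := by
        have h1 := Cfsg.Agent.Lib.ChermakDelgado.card_mul_set (zpowers u) (zpowers z)
        rw [← hAset] at h1
        have h2 : Nat.card (zpowers z) = q := by
          rw [Nat.card_zpowers]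
          refine orderOf_eq_prime hzq ?_
          rintro rfl
          exact hzn (one_mem _)
        rw [Nat.card_zpowers, huo, h2] at h1
        have h3 : Nat.card A * Nat.card ↥(zpowers u ⊓ zpowers z) = q ^ 2 := by
          rw [pow_two, ← h1]
          rfl
        exact ⟨_, h3.symm⟩
      obtain ⟨k, hk, hAk⟩ := (Nat.dvd_prime_pow hq.out).1 hAcard
      obtain ⟨R, hRQ, hAR, hRc⟩ := exists_between_sub hAQ hAk (show k ≤ n + 1 by omega)
        (by rw [← hdq.2]; exact hdq.1)
      have hRc' : Nat.card R = d * q := by rw [hRc, hdq.2]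
      refine hRfin R hRQ hRc' ?_ (hAR ((le_sup_left : zpowers u ≤ A) (mem_zpowers u)))
      intro hcy
      -- a cyclic group has at most `q` solutions of `x ^ q = 1`
      classical
      haveI := Fintype.ofFinite R
      have huR : u ∈ R := hAR ((le_sup_left : zpowers u ≤ A) (mem_zpowers u))
      have hzR : z ∈ R := hAR ((le_sup_right : zpowers z ≤ A) (mem_zpowers z))
      have hle := IsCyclic.card_pow_eq_one_le (α := R) (n := q) hq.out.pos
      have hsub : (Finset.univ.filter (fun x : R => x ∈ (zpowers (⟨u, huR⟩ : R)))) ∪ {⟨z, hzR⟩} ⊆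
          Finset.univ.filter (fun x : R => x ^ q = 1) := by
        intro x hx
        rw [Finset.mem_union, Finset.mem_filter, Finset.mem_singleton] at hx
        rw [Finset.mem_filter]
        refine ⟨Finset.mem_univ _, ?_⟩
        rcases hx with ⟨-, hx⟩ | rfl
        · obtain ⟨k, rfl⟩ := mem_zpowers_iff.1 hx
          rw [← zpow_natCast, ← zpow_mul, mul_comm, zpow_mul, zpow_natCast]
          have : (⟨u, huR⟩ : R) ^ q = 1 := Subtype.ext huq
          rw [this, one_zpow]
        · exact Subtype.ext hzq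
      have hcardsub := Finset.card_le_card hsub
      have hdis : Disjoint (Finset.univ.filter (fun x : R => x ∈ (zpowers (⟨u, huR⟩ : R)))) ({⟨z, hzR⟩} : Finset R) := by
        rw [Finset.disjoint_singleton_right, Finset.mem_filter]
        rintro ⟨-, h⟩
        apply hzn
        have : (⟨z, hzR⟩ : R) ∈ zpowers (⟨u, huR⟩ : R) := h
        obtain ⟨k, hk⟩ := mem_zpowers_iff.1 this
        have h2 := congrArg Subtype.val hk
        simp only [Subgroup.coe_zpow] at h2
        exact mem_zpowers_iff.2 ⟨k, h2⟩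
      rw [Finset.card_union_of_disjoint hdis, Finset.card_singleton] at hcardsub
      have hcardU : (Finset.univ.filter (fun x : R => x ∈ (zpowers (⟨u, huR⟩ : R)))).card = q := by
        have h3 : Nat.card (zpowers (⟨u, huR⟩ : R)) = q := by
          rw [Nat.card_zpowers, Subgroup.orderOf_mk, huo]
        rw [← h3, Nat.card_eq_fintype_card, Fintype.card_subtype]
      omega
    · -- non-cyclic `Q'`
      have huo : orderOf u ∣ q ^ n := by
        by_cases hp2 : q = 2
        · have h4 := h4x hp2 u huQ'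
          have hn2 : 2 ≤ n := by
            by_contra hlt
            have : n = 1 := by omega
            apply hd2
            rw [hd, this, hp2, pow_one]
          rw [hp2]
          calc orderOf u ∣ 2 ^ 2 := orderOf_dvd_of_pow_eq_one h4
            _ ∣ 2 ^ n := pow_dvd_pow 2 hn2
        · have h5 := hoddx hp2 u huQ'
          exact (orderOf_dvd_of_pow_eq_one h5).trans (dvd_pow_self q hn.ne')
      obtain ⟨E, hEQ, huE, hEc⟩ := exists_between hQ huQ huo (by
        rw [← hd]
        exact (dvd_mul_right d q).trans hdq.1)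
      have hEn : E.Normal := hF E hEQ (Or.inl (by rw [hEc, hd]))
      have hQ'E : Q' ≤ E := by
        have hyE : y ∈ normalizer ((E ⊓ Q' : Subgroup N) : Set N) := by
          apply Cfsg.Agent.Lib.Replacement.mem_normalizer_of_forall
          rintro x ⟨hxE, hxQ⟩
          exact ⟨hEn.conj_mem x hxE y, (mem_set_normalizer_iff.1 hy' x).1 hxQ⟩
        by_cases heq : E ⊓ Q' = Q'
        · exact inf_eq_right.mp heq
        · exfalso
          have hlt : E ⊓ Q' < Q' := lt_of_le_of_ne inf_le_right heq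
          have h1 := hmn _ hlt hyE
          apply hufin
          rw [mem_centralizer_iff]
          intro z hz
          exact mem_centralizer_iff.1 h1 z (((zpowers_le).2 (show u ∈ E ⊓ Q' from ⟨huE, huQ'⟩)) hz)
      obtain ⟨R, hRQ, hER, hRc⟩ := exists_between_sub hEQ hEc (show n ≤ n + 1 by omega)
        (by rw [← hdq.2]; exact hdq.1)
      have hRc' : Nat.card R = d * q := by rw [hRc, hdq.2]
      refine hRfin R hRQ hRc' ?_ (hER huE)
      intro hcy
      apply hQ'c
      exact isCyclic_of_injective (inclusion (hQ'E.trans hER)) (inclusion_injective _)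

end main

/-- The action of `N` on homs from a normal subgroup `U` to `𝔽_q`. -/
@[reducible] def conjActOnHom (q : ℕ) (U : Subgroup N) [U.Normal] :
    MulDistribMulAction N (U →* Multiplicative (ZMod q)) where
  smul a χ := χ.comp (MulAut.conjNormal a⁻¹ : U ≃* U).toMonoidHom
  one_smul χ := by
    apply MonoidHom.ext
    intro b
    show χ (MulAut.conjNormal (1 : N)⁻¹ b) = χ b
    rw [inv_one, map_one]
    rfl
  mul_smul a a' χ := by
    apply MonoidHom.ext
    intro b
    show χ (MulAut.conjNormal (a * a')⁻¹ b) = χ (MulAut.conjNormal a'⁻¹ (MulAut.conjNormal a⁻¹ b))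
    rw [mul_inv_rev, map_mul]
    rfl
  smul_mul a χ χ' := by
    apply MonoidHom.ext
    intro b
    rfl
  smul_one a := by
    apply MonoidHom.ext
    intro b
    rfl

section main2

variable (Q : Subgroup N) [hQn : Q.Normal] (hQ : IsPGroup q Q) {d n : ℕ} (hd : d = q ^ n)
  (hn : 0 < n) (hdlt : d < Nat.card Q)
  (hF : ∀ F : Subgroup N, F ≤ Q → (Nat.card F = d ∨ (d = 2 ∧ Nat.card F = 4)) → F.Normal)
include hQ hd hn hdlt hF

/-- **Hyperplanes**: a nontrivial normal subgroup `U ≤ Q` of `N` has an `N`-invariant subgroup of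
index `q`, if `Q` is non-cyclic and all subgroups of `Q` of order `d` are normal. -/
theorem exists_hyperplane (hnc : ¬ IsCyclic Q) (U : Subgroup N) (hUQ : U ≤ Q) [hUn : U.Normal]
    (hU : U ≠ ⊥) :
    ∃ (L : Subgroup N) (x : N), L ≤ U ∧ L.Normal ∧ x ∈ U ∧ x ∉ L ∧ U = L ⊔ zpowers x := by
  classical
  letI act := conjActOnHom (N := N) q U
  have hsmul : ∀ (a : N) (χ : U →* Multiplicative (ZMod q)) (b : U),
      (a • χ) b = χ (MulAut.conjNormal a⁻¹ b) := fun _ _ _ => rfl
  have hfinY : Finite (U →* Multiplicative (ZMod q)) := DFunLike.finite _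
  have hUp : IsPGroup q U := hQ.to_le hUQ
  have hYq : ∀ χ : U →* Multiplicative (ZMod q), χ ^ q = 1 := by
    intro χ
    apply MonoidHom.ext
    intro b
    show (χ b) ^ q = 1
    exact mult_pow_eq_one _
  have hnt : Nontrivial U := (Subgroup.nontrivial_iff_ne_bot _).2 hU
  -- a nontrivial hom
  obtain ⟨f₀, hf₀⟩ : ∃ f₀ : U →* Multiplicative (ZMod q), f₀ ≠ 1 := by
    obtain ⟨M, hM⟩ : ∃ M : Subgroup U, IsCoatom M := by
      rcases eq_top_or_exists_le_coatom (⊥ : Subgroup U) with h | ⟨M, hM, -⟩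
      · exact absurd h bot_ne_top
      · exact ⟨M, hM⟩
    obtain ⟨χ, hχ⟩ := exists_hom_ker_of_isCoatom hUp hM
    refine ⟨χ, fun h => hM.1 ?_⟩
    rw [← hχ, h]
    exact MonoidHom.ker_one
  have hYp : IsPGroup q (U →* Multiplicative (ZMod q)) := by
    intro χ
    exact ⟨1, by rw [pow_one]; exact hYq χ⟩
  have hntY : Nontrivial (U →* Multiplicative (ZMod q)) := ⟨⟨f₀, 1, hf₀⟩⟩
  obtain ⟨m, hm, hcardY⟩ := (hYp.nontrivial_iff_card).mp hntY
  have hdvdY : q ∣ Nat.card (U →* Multiplicative (ZMod q)) := by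
    rw [hcardY]; exact dvd_pow_self q hm.ne'
  have hGn : (Gone q Q).Normal := Gone_normal Q
  -- `q'`-elements of `Gone` act trivially
  have htriv : ∀ (b : N), b ∈ Gone q Q → Nat.Coprime (orderOf b) q →
      ∀ χ : U →* Multiplicative (ZMod q), b • χ = χ := by
    intro b hb hbc χ
    have h1 := centralizes_of_mem_Gone Q hQ hd hn hdlt hF hnc hb hbc
    apply MonoidHom.ext
    intro c
    rw [hsmul]
    congr 1
    apply Subtype.ext
    rw [MulAut.conjNormal_apply]
    have h2 := mem_centralizer_iff.1 h1 c (hUQ c.2)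
    rw [inv_inv]
    calc b⁻¹ * (c : N) * b = b⁻¹ * ((c : N) * b) := by group
      _ = b⁻¹ * (b * c) := by rw [h2]
      _ = c := by group
  obtain ⟨χ₁, hχ₁, hχ₁ne⟩ := exists_fixed_of_image (Γ := Gone q Q)
    (Y := U →* Multiplicative (ZMod q)) (q := q) (by
      intro g
      obtain ⟨a, b, hab, ha, hb, ⟨k, hk⟩, hbc⟩ := Cfsg.Agent.Lib.PComplement.exists_decomp q (g : N)
      refine ⟨k, ?_⟩
      intro χ
      have hcomm : Commute a b := by
        obtain ⟨i, rfl⟩ := mem_zpowers_iff.1 ha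
        obtain ⟨j, rfl⟩ := mem_zpowers_iff.1 hb
        exact (Commute.refl (g : N)).zpow_zpow i j
      have hpow : ((g ^ (q ^ k) : Gone q Q) : N) = b ^ (q ^ k) := by
        rw [Subgroup.coe_pow, hab, hcomm.mul_pow, hk, one_mul]
      show ((g ^ (q ^ k) : Gone q Q) : N) • χ = χ
      rw [hpow]
      apply htriv
      · have hbG : b ∈ Gone q Q := ((zpowers_le).2 g.2) hb
        exact pow_mem hbG _
      · exact Nat.Coprime.coprime_dvd_left (orderOf_pow_dvd _) hbc) hdvdY (y₀ := 1)
      (fun g => by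
        show (g : N) • (1 : U →* Multiplicative (ZMod q)) = 1
        exact smul_one _)
  let Y₁ : Subgroup (U →* Multiplicative (ZMod q)) :=
    { carrier := {χ | ∀ g ∈ Gone q Q, g • χ = χ}
      mul_mem' := by
        intro χ χ' h h' g hg
        rw [smul_mul', h g hg, h' g hg]
      one_mem' := fun g _ => smul_one g
      inv_mem' := by
        intro χ h g hg
        rw [smul_inv', h g hg] }
  have hY₁ne : Y₁ ≠ ⊥ := by
    intro h
    have : χ₁ ∈ Y₁ := fun g hg => hχ₁ ⟨g, hg⟩
    rw [h, Subgroup.mem_bot] at this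
    exact hχ₁ne this.symm
  have hinv : ∀ a : N, ∀ χ ∈ Y₁, a • χ ∈ Y₁ := by
    intro a χ hχ g hg
    have h1 : a⁻¹ * g * a⁻¹⁻¹ ∈ Gone q Q := hGn.conj_mem g hg a⁻¹
    have h2 := hχ _ h1
    have e : g * a = a * (a⁻¹ * g * a⁻¹⁻¹) := by group
    rw [smul_smul, e, mul_smul, h2]
  have hcomm : ∀ a b : N, ∀ χ ∈ Y₁, a • b • χ = b • a • χ := by
    intro a b χ hχ
    have h1 : b • a • χ ∈ Y₁ := hinv b _ (hinv a _ hχ)
    have h2 := h1 _ (commutator_mem_Gone (q := q) Q a b)
    rw [smul_smul, ← h2, smul_smul, smul_smul]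
    congr 1
    group
  have hpow : ∀ a : N, ∀ χ ∈ Y₁, (a ^ (q - 1)) • χ = χ := by
    intro a χ hχ
    exact hχ _ (pow_mem_Gone Q a)
  obtain ⟨χ₀, -, hχ₀, heig⟩ := exists_common_eigen hYq Y₁ hY₁ne hinv hcomm hpow
  obtain ⟨x, hx⟩ : ∃ x : U, χ₀ x ≠ 1 := by
    by_contra hcon
    push_neg at hcon
    exact hχ₀ (MonoidHom.ext hcon)
  refine ⟨χ₀.ker.map U.subtype, x, map_subtype_le _, ?_, x.2, ?_, ?_⟩
  · constructor
    rintro _ ⟨z, hz, rfl⟩ a
    obtain ⟨c, hc⟩ := heig a⁻¹
    have h1 := congrArg (fun ψ : U →* Multiplicative (ZMod q) => ψ z) hc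
    have h2 : χ₀ (MulAut.conjNormal a z) = χ₀ z ^ c := by
      have h3 := h1
      simp only [hsmul, inv_inv] at h3
      rw [h3]
      rfl
    have hz' : χ₀ z = 1 := hz
    refine ⟨MulAut.conjNormal a z, ?_, ?_⟩
    · show χ₀ _ = 1
      rw [h2, hz', one_pow]
    · show ((MulAut.conjNormal a z : U) : N) = _
      rw [MulAut.conjNormal_apply]
      rfl
  · rintro ⟨z, hz, hzx⟩
    have : z = x := Subtype.ext hzx
    rw [this] at hz
    exact hx hz
  · apply le_antisymm
    · intro z hzU
      obtain ⟨k, hk⟩ := exists_pow_of_ne_one hx (χ₀ ⟨z, hzU⟩)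
      have h1 : (⟨z, hzU⟩ * (x ^ k)⁻¹ : U) ∈ χ₀.ker := by
        rw [MonoidHom.mem_ker, map_mul, map_inv, map_pow, hk, mul_inv_cancel]
      have h2 : z = ((⟨z, hzU⟩ * (x ^ k)⁻¹ : U) : N) * (x : N) ^ k := by
        simp
      rw [h2]
      exact Subgroup.mul_mem_sup ⟨_, h1, rfl⟩ (pow_mem (mem_zpowers _) k)
    · exact sup_le (map_subtype_le _) ((zpowers_le).2 x.2)

end main2

/-- The cyclic case. -/
theorem exists_hyperplane_cyclic (Q : Subgroup N) (hQ : IsPGroup q Q) (hc : IsCyclic Q)
    (U : Subgroup N) (hUQ : U ≤ Q) [hUn : U.Normal] (hU : U ≠ ⊥) :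
    ∃ (L : Subgroup N) (x : N), L ≤ U ∧ L.Normal ∧ x ∈ U ∧ x ∉ L ∧ U = L ⊔ zpowers x := by
  classical
  have hcU : IsCyclic U := isCyclic_of_injective (inclusion hUQ) (inclusion_injective hUQ)
  obtain ⟨g, hg⟩ := hcU.exists_generator
  have hUg : U = zpowers (g : N) := by
    apply le_antisymm
    · intro z hz
      obtain ⟨k, hk⟩ := mem_zpowers_iff.1 (hg ⟨z, hz⟩)
      exact mem_zpowers_iff.2 ⟨k, by simpa using congrArg Subtype.val hk⟩
    · exact (zpowers_le).2 g.2
  have hg1 : (g : N) ≠ 1 := by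
    intro h
    apply hU
    rw [hUg, h, zpowers_one_eq_bot]
  refine ⟨zpowers ((g : N) ^ q), g, (zpowers_le).2 (pow_mem g.2 q), ?_, g.2, ?_, ?_⟩
  · constructor
    intro l hl a
    obtain ⟨m, rfl⟩ := mem_zpowers_iff.1 hl
    obtain ⟨k, hk⟩ := mem_zpowers_iff.1 (hg (MulAut.conjNormal a g))
    have hk' : (g : N) ^ k = a * g * a⁻¹ := by
      have := congrArg Subtype.val hk
      rw [MulAut.conjNormal_apply] at this
      simpa using this
    have e : a * ((g : N) ^ q) ^ m * a⁻¹ = (((g : N) ^ q) ^ k) ^ m := by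
      have e1 : a * ((g : N) ^ q) ^ m * a⁻¹ = (a * (g : N) ^ q * a⁻¹) ^ m := by
        rw [conj_zpow]
      have e2 : a * (g : N) ^ q * a⁻¹ = (a * g * a⁻¹) ^ q := by
        rw [conj_pow]
      have e3 : ((g : N) ^ k) ^ q = ((g : N) ^ q) ^ k := by
        rw [← zpow_natCast, ← zpow_natCast, ← zpow_mul, ← zpow_mul, mul_comm]
      rw [e1, e2, ← hk', e3]
    rw [e]
    exact zpow_mem (zpow_mem (mem_zpowers _) k) m
  · intro h
    obtain ⟨m, hm⟩ := mem_zpowers_iff.1 h
    have hUp : IsPGroup q U := hQ.to_le hUQ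
    obtain ⟨e, he⟩ := IsPGroup.iff_orderOf.1 hUp g
    have he0 : e ≠ 0 := by
      rintro rfl
      rw [pow_zero] at he
      have : g = 1 := orderOf_eq_one_iff.mp he
      exact hg1 (by rw [this]; rfl)
    have h1 : (g : N) ^ (((q : ℤ) * m) - 1) = 1 := by
      rw [zpow_sub, zpow_one, mul_inv_eq_one, zpow_mul, zpow_natCast, hm]
    have h2 : ((orderOf (g : N) : ℕ) : ℤ) ∣ (q : ℤ) * m - 1 := orderOf_dvd_iff_zpow_eq_one.2 h1
    rw [Subgroup.orderOf_coe, he] at h2
    have h3 : (q : ℤ) ∣ (q : ℤ) * m - 1 := by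
      refine dvd_trans ?_ h2
      push_cast
      exact dvd_pow_self _ he0
    have h4 : (q : ℤ) ∣ 1 := by
      have := (Int.dvd_sub (dvd_mul_right (q : ℤ) m) h3)
      simpa using this
    have h5 : q ∣ 1 := by exact_mod_cast h4
    exact hq.out.one_lt.ne' (Nat.dvd_one.1 h5)
  · calc U = zpowers (g : N) := hUg
      _ = zpowers ((g : N) ^ q) ⊔ zpowers (g : N) :=
        (sup_eq_right.2 ((zpowers_le).2 (pow_mem (mem_zpowers _) q))).symm

section top

open Cfsg.Agent.Lib.SuperSolv

variable {G : Type*} [Group G] [Finite G]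

/-- The step: from `K₁` to `K₁ P`. -/
theorem reach_step {p : ℕ} [hp : Fact p.Prime] (K₁ P : Subgroup G) (hK₁ : K₁.Normal)
    (hPp : IsPGroup p P)
    (hG : ∀ g : G, ∃ k ∈ K₁, ∃ n ∈ normalizer (P : Set G), g = k * n)
    (hP : IsCyclic P ∨ ∃ D : Subgroup G, D ≤ P ∧ 1 < Nat.card D ∧ Nat.card D < Nat.card P ∧
      ∀ E : Subgroup G, E ≤ P → (Nat.card E = Nat.card D ∨ (Nat.card D = 2 ∧ Nat.card E = 4)) →
        ∀ g : G, E.map (MulAut.conj g).toMonoidHom ⊓ normalizer (E : Set G) ≤ E) :
    Reach K₁ (K₁ ⊔ P) := by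
  classical
  set Nn : Subgroup G := normalizer (P : Set G) with hNn
  have hPN : P ≤ Nn := le_normalizer
  let Q : Subgroup Nn := P.subgroupOf Nn
  have hQn : Q.Normal := by
    constructor
    intro x hx a
    rw [mem_subgroupOf] at hx ⊢
    exact (mem_set_normalizer_iff.1 a.2 x).1 hx
  have hQp : IsPGroup p Q := hPp.comap_of_injective Nn.subtype Nn.subtype_injective
  have hQcard : Nat.card Q = Nat.card P :=
    Nat.card_congr (Subgroup.subgroupOfEquivOfLe hPN).toEquiv
  -- hyperplanes
  have hhyp : ∀ (U : Subgroup Nn), U ≤ Q → U.Normal → U ≠ ⊥ →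
      ∃ (L : Subgroup Nn) (x : Nn), L ≤ U ∧ L.Normal ∧ x ∈ U ∧ x ∉ L ∧ U = L ⊔ zpowers x := by
    intro U hUQ hUn hU
    rcases hP with hc | ⟨D, hDP, h1, h2, hyp⟩
    · have hcQ : IsCyclic Q := by
        have e := (Subgroup.subgroupOfEquivOfLe hPN)
        exact isCyclic_of_injective e.toMonoidHom e.injective
      exact exists_hyperplane_cyclic Q hQp hcQ U hUQ hU
    · by_cases hcQ : IsCyclic Q
      · exact exists_hyperplane_cyclic Q hQp hcQ U hUQ hU
      · obtain ⟨n, hn⟩ := IsPGroup.iff_card.mp (hPp.to_le hDP)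
        have hn0 : 0 < n := by
          rcases Nat.eq_zero_or_pos n with h | h
          · rw [hn, h, pow_zero] at h1
            exact absurd h1 (lt_irrefl _)
          · exact h
        refine exists_hyperplane Q hQp hn hn0 (by rw [hQcard]; exact h2) ?_ hcQ U hUQ hU
        intro F hFQ hFc
        have hFP : F.map Nn.subtype ≤ P := by
          rintro _ ⟨z, hz, rfl⟩
          exact mem_subgroupOf.mp (hFQ hz)
        have hFc' : Nat.card (F.map Nn.subtype) = Nat.card F :=
          Nat.card_congr (Subgroup.equivMapOfInjective F Nn.subtype Nn.subtype_injective).symm.toEquiv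
        have hyp' := hyp (F.map Nn.subtype) hFP (by rwa [hFc'])
        have hnorm := le_normalizer_of_hyp hPp hFP hyp'
        constructor
        intro x hx a
        have h3 : (a : G) * x * (a : G)⁻¹ ∈ F.map Nn.subtype := by
          apply hyp' a
          refine ⟨⟨x, ⟨x, hx, rfl⟩, rfl⟩, ?_⟩
          apply hnorm
          have h4 : (x : G) ∈ P := hFP ⟨x, hx, rfl⟩
          exact (mem_set_normalizer_iff.1 a.2 _).1 h4
        obtain ⟨z, hz, hzx⟩ := h3
        have : z = a * x * a⁻¹ := Subtype.ext hzx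
        rwa [← this]
  -- normality of joins
  have hnorm : ∀ X : Subgroup G, (∀ n ∈ Nn, ∀ x ∈ X, n * x * n⁻¹ ∈ X) → (K₁ ⊔ X).Normal := by
    intro X hX
    have hN : normalizer ((K₁ ⊔ X : Subgroup G) : Set G) = ⊤ := by
      rw [eq_top_iff]
      intro g _
      obtain ⟨k, hk, m, hm, rfl⟩ := hG g
      apply mul_mem
      · apply Cfsg.Agent.Lib.Replacement.mem_normalizer_of_forall
        intro y hy
        have : k ∈ K₁ ⊔ X := (le_sup_left : K₁ ≤ K₁ ⊔ X) hk
        exact mul_mem (mul_mem this hy) (inv_mem this)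
      · apply Cfsg.Agent.Lib.Replacement.mem_normalizer_of_forall
        intro y hy
        have h1 : (K₁ ⊔ X).map (MulAut.conj m).toMonoidHom ≤ K₁ ⊔ X := by
          rw [Subgroup.map_sup]
          apply sup_le_sup
          · rintro _ ⟨z, hz, rfl⟩
            exact hK₁.conj_mem z hz m
          · rintro _ ⟨z, hz, rfl⟩
            exact hX m hm z hz
        exact h1 ⟨y, hy, rfl⟩
    exact normalizer_eq_top_iff.1 hN
  -- the chain
  have hchain : ∀ (m : ℕ) (X : Subgroup G), Nat.card X = m → X ≤ P →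
      (∀ n ∈ Nn, ∀ x ∈ X, n * x * n⁻¹ ∈ X) → Reach K₁ (K₁ ⊔ X) := by
    intro m
    induction m using Nat.strong_induction_on with
    | _ m ih =>
      intro X hXc hXP hXn
      by_cases hX0 : X = ⊥
      · rw [hX0, sup_bot_eq]
        exact Reach.refl
      · have hXN : X ≤ Nn := hXP.trans hPN
        let U : Subgroup Nn := X.subgroupOf Nn
        have hUn : U.Normal := by
          constructor
          intro x hx a
          rw [mem_subgroupOf] at hx ⊢
          exact hXn a a.2 x hx
        have hU0 : U ≠ ⊥ := by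
          intro h
          apply hX0
          rw [eq_bot_iff]
          intro x hx
          have h1 : (⟨x, hXN hx⟩ : Nn) ∈ U := mem_subgroupOf.mpr hx
          rw [h, Subgroup.mem_bot] at h1
          exact congrArg Subtype.val h1
        have hUQ : U ≤ Q := by
          intro x hx
          rw [mem_subgroupOf] at hx ⊢
          exact hXP hx
        obtain ⟨L, x, hLU, hLn, hxU, hxL, hUeq⟩ := hhyp U hUQ hUn hU0
        set L' : Subgroup G := L.map Nn.subtype with hL'
        have hL'X : L' ≤ X := by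
          rintro _ ⟨z, hz, rfl⟩
          exact mem_subgroupOf.mp (hLU hz)
        have hxX : (x : G) ∈ X := mem_subgroupOf.mp hxU
        have hxL' : (x : G) ∉ L' := by
          rintro ⟨z, hz, hzx⟩
          have : z = x := Subtype.ext hzx
          rw [this] at hz
          exact hxL hz
        have hL'lt : L' < X := lt_of_le_of_ne hL'X (fun h => hxL' (h ▸ hxX))
        have hL'c : Nat.card L' < m := by
          rw [← hXc]
          refine lt_of_le_of_ne (Subgroup.card_le_of_le hL'lt.le) fun he => ?_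
          exact hL'lt.ne (Subgroup.eq_of_le_of_card_ge hL'lt.le he.ge)
        have hL'n : ∀ n ∈ Nn, ∀ z ∈ L', n * z * n⁻¹ ∈ L' := by
          rintro n hn _ ⟨z, hz, rfl⟩
          exact ⟨_, hLn.conj_mem z hz ⟨n, hn⟩, rfl⟩
        have hIH := ih _ hL'c L' rfl (hL'X.trans hXP) hL'n
        have hXeq : X = L' ⊔ zpowers (x : G) := by
          apply le_antisymm
          · intro y hy
            have h1 : (⟨y, hXN hy⟩ : Nn) ∈ U := mem_subgroupOf.mpr hy
            rw [hUeq] at h1
            have h2 := Subgroup.mem_map_of_mem Nn.subtype h1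
            rw [Subgroup.map_sup, MonoidHom.map_zpowers] at h2
            exact h2
          · exact sup_le hL'X ((zpowers_le).2 hxX)
        refine Reach.step (x : G) hIH (hnorm X hXn) ?_
        rw [sup_assoc, ← hXeq]
  refine hchain _ P rfl le_rfl ?_
  intro n hn x hx
  exact (mem_set_normalizer_iff.1 hn x).1 hx

/-- The condition in the statement, for a subgroup `K`. -/
def Cond (K : Subgroup G) : Prop :=
  ∀ (p : ℕ), p.Prime → ∀ P : Subgroup G, P ≤ K → IsPGroup p P → ¬ p ∣ P.relIndex K → ¬ IsCyclic ↥P →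
    ∃ D : Subgroup G, D ≤ P ∧ 1 < Nat.card D ∧ Nat.card D < Nat.card P ∧
      ∀ F : Subgroup G, F ≤ P → (Nat.card F = Nat.card D ∨ (Nat.card D = 2 ∧ Nat.card F = 4)) →
        ∀ g : G, F.map (MulAut.conj g).toMonoidHom ⊓ normalizer (F : Set G) ≤ F

/-- A normal subgroup satisfying the condition is reached from the identity. -/
theorem reach_of_cond : ∀ (m : ℕ) (K : Subgroup G), Nat.card K = m → K.Normal → Cond K →
    Reach ⊥ K := by
  intro m
  induction m using Nat.strong_induction_on with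
  | _ m ih =>
    intro K hm hKn hC
    by_cases hbot : K = ⊥
    · rw [hbot]; exact Reach.refl
    have hcard1 : Nat.card K ≠ 1 := fun h => hbot (Subgroup.eq_bot_of_card_eq K h)
    set p := (Nat.card K).minFac with hpdef
    have hpp : p.Prime := Nat.minFac_prime hcard1
    have hpf : Fact p.Prime := ⟨hpp⟩
    have hpdvd : p ∣ Nat.card K := Nat.minFac_dvd _
    have hminK : ∀ r : ℕ, r.Prime → r ∣ Nat.card K → p ≤ r :=
      fun r hr hd => Nat.minFac_le_of_dvd hr.two_le hd
    obtain ⟨P₀⟩ : Nonempty (Sylow p K) := inferInstance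
    set P : Subgroup G := (P₀ : Subgroup K).map K.subtype with hP
    have hPK : P ≤ K := map_subtype_le _
    have hPp : IsPGroup p P := P₀.isPGroup'.map _
    have hPsub : P.subgroupOf K = (P₀ : Subgroup K) :=
      Subgroup.comap_map_eq_self_of_injective K.subtype_injective _
    have hPidx : ¬ p ∣ P.relIndex K := by
      rw [Subgroup.relIndex, hPsub]; exact P₀.not_dvd_index
    let hPequiv : (P₀ : Subgroup K) ≃* P :=
      Subgroup.equivMapOfInjective _ K.subtype K.subtype_injective
    have hPcond : IsCyclic P ∨ ∃ D : Subgroup G, D ≤ P ∧ 1 < Nat.card D ∧ Nat.card D < Nat.card P ∧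
        ∀ E : Subgroup G, E ≤ P → (Nat.card E = Nat.card D ∨ (Nat.card D = 2 ∧ Nat.card E = 4)) →
          ∀ g : G, E.map (MulAut.conj g).toMonoidHom ⊓ normalizer (E : Set G) ≤ E := by
      by_cases hc : IsCyclic P
      · exact Or.inl hc
      · exact Or.inr (hC p hpp P hPK hPp hPidx hc)
    have hP₀cond : IsCyclic (P₀ : Subgroup K) ∨ ∃ D : Subgroup K, D ≤ (P₀ : Subgroup K) ∧
        1 < Nat.card D ∧ Nat.card D < Nat.card (P₀ : Subgroup K) ∧ ∀ E : Subgroup K,
          E ≤ (P₀ : Subgroup K) → (Nat.card E = Nat.card D ∨ (Nat.card D = 2 ∧ Nat.card E = 4)) →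
          ∀ g : K, E.map (MulAut.conj g).toMonoidHom ⊓ normalizer (E : Set K) ≤ E := by
      rcases hPcond with hc | ⟨D, hDP, h1, h2, hyp⟩
      · left
        exact isCyclic_of_injective hPequiv.toMonoidHom hPequiv.injective
      · right
        have hDK : D ≤ K := hDP.trans hPK
        have hDc : Nat.card (D.subgroupOf K) = Nat.card D :=
          Nat.card_congr (Subgroup.subgroupOfEquivOfLe hDK).toEquiv
        have hP₀c : Nat.card (P₀ : Subgroup K) = Nat.card P := Nat.card_congr hPequiv.toEquiv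
        refine ⟨D.subgroupOf K, ?_, ?_, ?_, ?_⟩
        · intro x hx
          rw [mem_subgroupOf] at hx
          rw [← hPsub, mem_subgroupOf]
          exact hDP hx
        · rw [hDc]; exact h1
        · rw [hDc, hP₀c]; exact h2
        · intro E hE hEc g
          rw [hDc] at hEc
          have hE'P : E.map K.subtype ≤ P := map_mono hE
          have hE'c : Nat.card (E.map K.subtype) = Nat.card E :=
            Nat.card_congr (Subgroup.equivMapOfInjective E K.subtype K.subtype_injective).symm.toEquiv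
          have hyp' := hyp (E.map K.subtype) hE'P (by rwa [hE'c]) (g : G)
          rintro _ ⟨⟨e, he, rfl⟩, hxn⟩
          have hxG : ((MulAut.conj g).toMonoidHom e : K).1 ∈ E.map K.subtype := by
            apply hyp'
            refine ⟨⟨(e : G), ⟨e, he, rfl⟩, rfl⟩, ?_⟩
            apply Cfsg.Agent.Lib.Replacement.mem_normalizer_of_forall
            rintro _ ⟨z, hz, rfl⟩
            have h3 := (mem_set_normalizer_iff.1 hxn z).1 hz
            exact ⟨_, h3, rfl⟩
          obtain ⟨z, hz, hzx⟩ := hxG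
          have : z = (MulAut.conj g).toMonoidHom e := Subtype.ext hzx
          rwa [← this]
    have hNPC := Cfsg.Agent.Lib.SmallPrimeClosed.main hminK P₀ hP₀cond
    rw [Cfsg.Agent.Lib.TransferEval.hasNormalPComplement_iff P₀] at hNPC
    obtain ⟨K₁', hK₁'n, hc⟩ := hNPC
    set K₁ : Subgroup G := K₁'.map K.subtype with hK₁
    have hK₁K : K₁ ≤ K := map_subtype_le _
    have hK₁mem : ∀ (x : G) (hx : x ∈ K), x ∈ K₁ ↔ Nat.Coprime (orderOf x) p := by
      intro x hx
      have h1 := Cfsg.Agent.Lib.TransferCore.mem_of_complement_iff hc ⟨x, hx⟩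
      rw [Subgroup.orderOf_mk] at h1
      rw [← h1]
      constructor
      · rintro ⟨z, hz, hzx⟩
        have : z = ⟨x, hx⟩ := Subtype.ext hzx
        rwa [← this]
      · intro h
        exact ⟨_, h, rfl⟩
    have hK₁n : K₁.Normal := by
      constructor
      intro x hx g
      have hxK := hK₁K hx
      have hgx : g * x * g⁻¹ ∈ K := hKn.conj_mem x hxK g
      rw [hK₁mem _ hgx]
      have horder : orderOf (g * x * g⁻¹) = orderOf x := by
        have : g * x * g⁻¹ = MulAut.conj g x := rfl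
        rw [this]
        exact orderOf_injective (MulAut.conj g).toMonoidHom (MulAut.conj g).injective x
      rw [horder]
      exact (hK₁mem x hxK).1 hx
    have hK₁card : Nat.card K₁ = Nat.card K₁' :=
      Nat.card_congr (Subgroup.equivMapOfInjective K₁' K.subtype K.subtype_injective).symm.toEquiv
    have hK₁c : Nat.Coprime (Nat.card K₁) p := by
      rw [hK₁card]
      exact Cfsg.Agent.Lib.TransferCore.coprime_card_of_complement hc
    have hK₁lt : K₁ < K := by
      refine lt_of_le_of_ne hK₁K fun h => ?_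
      rw [h] at hK₁c
      have := Nat.Coprime.eq_one_of_dvd hK₁c.symm hpdvd
      exact hpp.one_lt.ne' this
    have hcardlt : Nat.card K₁ < m := by
      rw [← hm]
      refine lt_of_le_of_ne (Subgroup.card_le_of_le hK₁lt.le) fun he => ?_
      exact hK₁lt.ne (Subgroup.eq_of_le_of_card_ge hK₁lt.le he.ge)
    have hK₁sub : K₁.subgroupOf K = K₁' :=
      Subgroup.comap_map_eq_self_of_injective K.subtype_injective _
    have hidx : K₁.relIndex K = Nat.card (P₀ : Subgroup K) := by
      rw [Subgroup.relIndex, hK₁sub]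
      exact hc.symm.index_eq_card
    have hC₁ : Cond K₁ := by
      intro r hr T hTK₁ hTp hTidx hTnc
      have hfr : Fact r.Prime := ⟨hr⟩
      have hTnt : Nontrivial T := by
        by_contra hcon
        rw [not_nontrivial_iff_subsingleton] at hcon
        exact hTnc inferInstance
      obtain ⟨a, ha, hTc⟩ := (hTp.nontrivial_iff_card).mp hTnt
      have hrT : r ∣ Nat.card K₁ :=
        (dvd_pow_self r ha.ne').trans (hTc ▸ Subgroup.card_dvd_of_le hTK₁)
      have hrp : r ≠ p := by
        rintro rfl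
        have := Nat.Coprime.eq_one_of_dvd hK₁c.symm hrT
        exact hr.one_lt.ne' this
      have hTK := hTK₁.trans hK₁K
      have hrK : ¬ r ∣ T.relIndex K := by
        rw [← Subgroup.relIndex_mul_relIndex T K₁ K hTK₁ hK₁K, hidx]
        intro h
        rcases (Nat.Prime.dvd_mul hr).1 h with h1 | h1
        · exact hTidx h1
        · obtain ⟨b, hb⟩ := IsPGroup.iff_card.mp P₀.isPGroup'
          rw [hb] at h1
          exact hrp ((Nat.prime_dvd_prime_iff_eq hr hpp).1 (hr.dvd_of_dvd_pow h1))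
      exact hC r hr T hTK hTp hrK hTnc
    have hIH := ih _ hcardlt K₁ rfl hK₁n hC₁
    have hG : ∀ g : G, ∃ k ∈ K₁, ∃ n ∈ normalizer (P : Set G), g = k * n := by
      intro g
      let T : Subgroup K := (P.map (MulAut.conj g).toMonoidHom).subgroupOf K
      have hTp : IsPGroup p T := (hPp.map _).comap_of_injective K.subtype K.subtype_injective
      obtain ⟨k, hk⟩ := Cfsg.Agent.Lib.SylowConjLemmas.exists_conj_mem P₀ T hTp
      have hcN : (k : G) * g ∈ normalizer (P : Set G) := by
        apply Cfsg.Agent.Lib.Replacement.mem_normalizer_of_forall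
        intro x hx
        have hgx : g * x * g⁻¹ ∈ K := hKn.conj_mem x (hPK hx) g
        have h1 : (⟨g * x * g⁻¹, hgx⟩ : K) ∈ T := by
          rw [mem_subgroupOf]
          exact ⟨x, hx, rfl⟩
        have h2 := hk _ h1
        have h3 : ((k * ⟨g * x * g⁻¹, hgx⟩ * k⁻¹ : K) : G) ∈ P := ⟨_, h2, rfl⟩
        have e : (k : G) * g * x * ((k : G) * g)⁻¹ = ((k * ⟨g * x * g⁻¹, hgx⟩ * k⁻¹ : K) : G) := by
          simp only [Subgroup.coe_mul, Subgroup.coe_inv]
          group
        rw [e]
        exact h3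
      obtain ⟨⟨a, b⟩, hab⟩ := hc.2 k
      have hab' : (k : G) = (a : K) * (b : K) := by
        rw [← hab]; rfl
      have hbP : ((b : K) : G) ∈ P := ⟨_, b.2, rfl⟩
      have haK₁ : ((a : K) : G) ∈ K₁ := ⟨_, a.2, rfl⟩
      refine ⟨((b : K) : G)⁻¹ * ((a : K) : G)⁻¹ * ((b : K) : G), ?_, ((b : K) : G)⁻¹ * ((k : G) * g),
        mul_mem (inv_mem (le_normalizer hbP)) hcN, ?_⟩
      · have := hK₁n.conj_mem _ (inv_mem haK₁) ((b : K) : G)⁻¹
        simpa using this
      · rw [hab']
        group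
    have hstep := reach_step K₁ P hK₁n hPp hG hPcond
    have hsup : K₁ ⊔ P = K := by
      rw [hK₁, hP, ← Subgroup.map_sup, hc.sup_eq_top, ← MonoidHom.range_eq_map, range_subtype]
    rw [hsup] at hstep
    exact hIH.trans hstep

end top

end Cfsg.Agent.Lib.HChain
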