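import Mathlib
import Cfsg.Agent.Lib.HHCrit
import Cfsg.Agent.Lib.CoprimeAct

set_option autoImplicit false
set_option linter.unusedSectionVars false
set_option linter.unusedVariables false

/-!
Hall--Higman Theorem B: group-theoretic part of the reduction.
-/

namespace Cfsg.Agent.Lib.HHB1

section Group

variable {Γ : Type*} [Group Γ] [Finite Γ]

theorem sigma_iter_mem {σ : MulAut Γ} {Q : Subgroup Γ} (hQ : ∀ g ∈ Q, σ g ∈ Q) (i : ℕ) :
    ∀ g ∈ Q, (σ ^ i) g ∈ Q := by
  induction i with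
  | zero => simp
  | succ i ih =>
    intro g hg
    rw [pow_succ', MulAut.mul_apply]
    exact hQ _ (ih g hg)

theorem sigma_inv_mem {σ : MulAut Γ} {Q : Subgroup Γ} {N : ℕ} (hN : 0 < N) (hσN : σ ^ N = 1)
    (hQ : ∀ g ∈ Q, σ g ∈ Q) : ∀ g ∈ Q, σ⁻¹ g ∈ Q := by
  intro g hg
  have h1 : σ⁻¹ = σ ^ (N - 1) := by
    rw [inv_eq_iff_mul_eq_one, ← pow_succ', Nat.sub_add_cancel hN, hσN]
  rw [h1]
  exact sigma_iter_mem hQ _ g hg

/-- The key group-theoretic lemma: in the minimal situation the elements fixed by `ζ` modulo the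
kernel of `π` are central modulo the kernel of `π`. -/
theorem comm_of_fixed {H : Type*} [Group H] (p q n : ℕ) [hp : Fact p.Prime] [hq : Fact q.Prime]
    (hpq : p ≠ q) (hΓ : IsPGroup q Γ) (π : Γ →* H) (σ : MulAut Γ) (hσN : σ ^ (p ^ (n + 1)) = 1)
    (hker : ∀ g g', π g = π g' → π (σ g) = π (σ g'))
    (h1 : ∀ Q : Subgroup Γ, (∀ g ∈ Q, σ g ∈ Q) → Q ≠ ⊤ → ∀ g ∈ Q, π ((σ ^ (p ^ n)) g) = π g)
    (h2 : ∃ g, π ((σ ^ (p ^ n)) g) ≠ π g) (d : Γ) (hd : π ((σ ^ (p ^ n)) d) = π d) (a : Γ) :
    π a * π d = π d * π a := by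
  classical
  set ζ : MulAut Γ := σ ^ (p ^ n) with hζ
  have hζp : ζ ^ p = 1 := by
    rw [hζ, ← pow_mul, ← pow_succ, hσN]
  have hNpos : 0 < p ^ (n + 1) := Nat.pow_pos hp.out.pos
  have hcommσ : ∀ g, σ (ζ g) = ζ (σ g) := by
    intro g
    rw [← MulAut.mul_apply, ← MulAut.mul_apply]
    congr 1
    rw [hζ, ← pow_succ', pow_succ]
  let D : Subgroup Γ := MonoidHom.eqLocus (π.comp ζ.toMonoidHom) π
  have hD : ∀ g, g ∈ D ↔ π (ζ g) = π g := fun g => Iff.rfl
  have hDσ : ∀ g ∈ D, σ g ∈ D := by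
    intro g hg
    rw [hD] at hg ⊢
    rw [← hcommσ]
    exact hker _ _ hg
  have hDne : D ≠ ⊤ := by
    obtain ⟨g, hg⟩ := h2
    intro h
    apply hg
    have : g ∈ D := by rw [h]; trivial
    exact this
  have hle : ∀ Q : Subgroup Γ, (∀ g ∈ Q, σ g ∈ Q) → Q ≠ ⊤ → Q ≤ D := by
    intro Q hQ hQne g hg
    exact h1 Q hQ hQne g hg
  -- `D` is normal
  have hDnorm : Subgroup.normalizer (D : Set Γ) = ⊤ := by
    by_contra hne
    have h3 := hle (Subgroup.normalizer (D : Set Γ)) (by
      intro g hg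
      rw [Subgroup.mem_normalizer_iff] at hg ⊢
      intro x
      have hσinv := sigma_inv_mem hNpos hσN hDσ
      constructor
      · intro hx
        have h4 := hσinv x hx
        have h5 := (hg (σ⁻¹ x)).mp h4
        have h6 := hDσ _ h5
        simpa using h6
      · intro hx
        have h4 := hσinv _ hx
        have h5 : σ⁻¹ (σ g * x * (σ g)⁻¹) = g * σ⁻¹ x * g⁻¹ := by
          simp
        rw [h5] at h4
        have h6 := (hg (σ⁻¹ x)).mpr h4
        have h7 := hDσ _ h6
        simpa using h7) hne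
    have hnil : Group.IsNilpotent Γ := hΓ.isNilpotent
    have hcond := Group.normalizerCondition_of_isNilpotent (G := Γ)
    have h4 := hcond D (lt_top_iff_ne_top.mpr hDne)
    exact absurd h3 (not_le_of_gt h4)
  have hDn : D.Normal := Subgroup.normalizer_eq_top_iff.mp hDnorm
  -- the commutators generate
  let E : Subgroup Γ := Subgroup.closure (Set.range fun a : Γ => a⁻¹ * ζ a)
  have hEσ : ∀ g ∈ E, σ g ∈ E := by
    intro g hg
    induction hg using Subgroup.closure_induction with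
    | mem x hx =>
      obtain ⟨a, rfl⟩ := hx
      apply Subgroup.subset_closure
      refine ⟨σ a, ?_⟩
      simp only [map_mul, map_inv, hcommσ]
    | one => simp
    | mul x y _ _ hx hy =>
      rw [map_mul]
      exact mul_mem hx hy
    | inv x _ hx =>
      rw [map_inv]
      exact inv_mem hx
  have hEtop : E = ⊤ := by
    by_contra hne
    have hED := hle E hEσ hne
    -- each `ζ` acts trivially, contradiction
    obtain ⟨g, hg⟩ := h2
    apply hg
    set c := g⁻¹ * ζ g with hc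
    have hcD : c ∈ D := hED (Subgroup.subset_closure ⟨g, rfl⟩)
    have hζc : ∀ k : ℕ, π ((ζ ^ k) c) = π c := by
      intro k
      induction k with
      | zero => simp
      | succ k ih =>
        have h3 : (ζ ^ k) c ∈ D := by
          rw [hζ, ← pow_mul]
          exact sigma_iter_mem hDσ _ c hcD
        rw [pow_succ', MulAut.mul_apply, (hD _).mp h3, ih]
    have hζg : ∀ k : ℕ, π ((ζ ^ k) g) = π g * π c ^ k := by
      intro k
      induction k with
      | zero => simp
      | succ k ih =>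
        have h3 : ζ g = g * c := by rw [hc]; group
        rw [pow_succ, MulAut.mul_apply, h3, map_mul, map_mul, ih, hζc, pow_succ, mul_assoc]
    have h5 := hζg p
    rw [hζp] at h5
    simp only [MulAut.one_apply] at h5
    have h6 : π c ^ p = 1 := by
      have := mul_left_cancel (a := π g) (b := π c ^ p) (c := 1) (by rw [← h5, mul_one])
      exact this
    obtain ⟨k, hk⟩ := hΓ c
    have h7 : π c ^ q ^ k = 1 := by rw [← map_pow, hk, map_one]
    have hcop : Nat.Coprime p (q ^ k) :=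
      Nat.Coprime.pow_right _ ((Nat.coprime_primes hp.out hq.out).mpr hpq)
    have h8 : π c = 1 := by
      have h9 := pow_gcd_eq_one.mpr ⟨h6, h7⟩
      rwa [hcop.gcd_eq_one, pow_one] at h9
    have h10 : ζ g = g * c := by rw [hc]; group
    rw [h10, map_mul, h8, mul_one]
  -- now the commutator argument
  let C : Subgroup Γ := (Subgroup.centralizer {π d}).comap π
  have hCtop : C = ⊤ := by
    rw [eq_top_iff, ← hEtop, Subgroup.closure_le]
    rintro _ ⟨x, rfl⟩
    have hcomm : x * d * x⁻¹ * d⁻¹ ∈ D := by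
      have h3 : x * d * x⁻¹ ∈ D := hDn.conj_mem d hd x
      exact mul_mem h3 (inv_mem hd)
    have h4 := (hD _).mp hcomm
    simp only [map_mul, map_inv] at h4
    rw [hd] at h4
    have h5 : π (ζ x) * π d * (π (ζ x))⁻¹ = π x * π d * (π x)⁻¹ := by
      exact mul_right_cancel h4
    change π (x⁻¹ * ζ x) ∈ Subgroup.centralizer {π d}
    rw [Subgroup.mem_centralizer_singleton_iff]
    simp only [map_mul, map_inv]
    have h6 : π (ζ x) * π d = π x * π d * (π x)⁻¹ * π (ζ x) := by
      rw [← h5]; group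
    rw [mul_assoc, h6]
    group
  have ha : a ∈ C := by rw [hCtop]; trivial
  have := Subgroup.mem_centralizer_singleton_iff.mp ha
  exact this

/-- In the minimal situation the group is a group of prime power order. -/
theorem isPGroup_of_min (p k : ℕ) [hp : Fact p.Prime] (hcop : (Nat.card Γ).Coprime p)
    (σ : MulAut Γ) (hσN : σ ^ (p ^ k) = 1) (D : Subgroup Γ) (hDne : D ≠ ⊤)
    (hle : ∀ Q : Subgroup Γ, (∀ g ∈ Q, σ g ∈ Q) → Q ≠ ⊤ → Q ≤ D) :
    ∃ r, r.Prime ∧ IsPGroup r Γ := by
  classical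
  have hind : D.index ≠ 1 := by
    intro h
    exact hDne (Subgroup.index_eq_one.mp h)
  obtain ⟨r, hr, hrd⟩ := Nat.exists_prime_and_dvd hind
  have : Fact r.Prime := ⟨hr⟩
  let A : Subgroup (MulAut Γ) := Subgroup.zpowers σ
  have hAp : IsPGroup p A := by
    intro a
    obtain ⟨a, ha⟩ := a
    obtain ⟨i, rfl⟩ := Subgroup.mem_zpowers_iff.mp ha
    refine ⟨k, ?_⟩
    apply Subtype.ext
    change (σ ^ i) ^ (p ^ k) = 1
    rw [← zpow_natCast, ← zpow_mul, mul_comm, zpow_mul, zpow_natCast, hσN, one_zpow]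
  have hAfin : Finite A := inferInstance
  have hcop2 : (Nat.card A).Coprime (Nat.card Γ) := by
    obtain ⟨m, hm⟩ := IsPGroup.iff_card.mp hAp
    rw [hm]
    exact Nat.Coprime.pow_left _ hcop.symm
  have hsol : Group.IsSolvable A ∨ Group.IsSolvable Γ := Or.inl inferInstance
  obtain ⟨P, hP⟩ := CoprimeAct.exists_invariant_sylow (A := A) (G := Γ) hcop2 hsol r
  by_cases hPtop : (P : Subgroup Γ) = ⊤
  · refine ⟨r, hr, ?_⟩
    have h1 := P.isPGroup'
    rw [hPtop] at h1
    intro g
    obtain ⟨m, hm⟩ := h1 ⟨g, trivial⟩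
    exact ⟨m, by simpa using congrArg Subtype.val hm⟩
  · exfalso
    have h1 := hle P (by
      intro g hg
      exact hP ⟨σ, Subgroup.mem_zpowers σ⟩ g hg) hPtop
    have h2 : D.index ∣ (P : Subgroup Γ).index := Subgroup.index_dvd_of_le h1
    exact P.not_dvd_index (hrd.trans h2)

end Group

end Cfsg.Agent.Lib.HHB1
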