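import Mathlib
import Cfsg.Agent.Lib.HHB1
import Cfsg.Agent.Lib.HHB2

set_option autoImplicit false
set_option linter.unusedSectionVars false
set_option linter.unusedVariables false

/-!
Hall--Higman Theorem B over an algebraically closed field, in operator form.
-/

namespace Cfsg.Agent.Lib.HHB3

open Module Cfsg.Agent.Lib.HHCrit Cfsg.Agent.Lib.HHB1 Cfsg.Agent.Lib.HHB2

universe u v w

variable {K : Type u} [Field K]

/-- The data of the reduction. -/
structure Data {V : Type v} [AddCommGroup V] [Module K V] {Γ : Type w} [Group Γ] (p n : ℕ)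
    (ρ : Γ →* End K V) (X : End K V) (σ : MulAut Γ) : Prop where
  hcop : (Nat.card Γ).Coprime p
  hXN : X ^ (p ^ (n + 1)) = 1
  hσN : σ ^ (p ^ (n + 1)) = 1
  hXρ : ∀ g, X * ρ g = ρ (σ g) * X
  hZ : ∃ g, ρ ((σ ^ (p ^ n)) g) ≠ ρ g

/-- The conclusion of the reduction. -/
def Concl {V : Type v} [AddCommGroup V] [Module K V] (p n : ℕ) (Γ : Type w) [Group Γ] (X : End K V) : Prop :=
  IdxGE X (p ^ (n + 1)) ∨ ∃ n₀ q m : ℕ, 1 ≤ n₀ ∧ n₀ ≤ n + 1 ∧ q.Prime ∧ 1 ≤ m ∧ p ^ n₀ - 1 = q ^ m ∧
    (∃ R : Subgroup Γ, IsPGroup q R ∧ ∃ a ∈ R, ∃ b ∈ R, a * b ≠ b * a) ∧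
    IdxGE X (p ^ (n + 1 - n₀) * (p ^ n₀ - 1))

theorem pow_apply_eq_iterate {Γ : Type w} [Group Γ] (σ : MulAut Γ) (i : ℕ) (g : Γ) :
    (σ ^ i) g = (σ : Γ → Γ)^[i] g := by
  induction i with
  | zero => rfl
  | succ i ih =>
    rw [pow_succ', MulAut.mul_apply, ih, Function.iterate_succ_apply']

variable (p : ℕ) [hp : Fact p.Prime] [CharP K p]

theorem main_min [IsAlgClosed K] (n : ℕ)
    (ihn : ∀ n' < n, ∀ (V : Type v) [AddCommGroup V] [Module K V] [FiniteDimensional K V] [Nontrivial V]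
      (Γ : Type w) [Group Γ] [Finite Γ] (ρ : Γ →* End K V) (X : End K V) (σ : MulAut Γ),
      Data p n' ρ X σ → Concl (K := K) p n' Γ X)
    {V : Type v} [AddCommGroup V] [Module K V] [FiniteDimensional K V] [Nontrivial V]
    {Γ : Type w} [Group Γ] [Finite Γ] (ρ : Γ →* End K V) (X : End K V) (σ : MulAut Γ)
    (hD : Data p n ρ X σ)
    (hmin : ∀ Q : Subgroup Γ, (∀ g ∈ Q, σ g ∈ Q) → Q ≠ ⊤ → ∀ g ∈ Q, ρ ((σ ^ (p ^ n)) g) = ρ g) :
    Concl (K := K) p n Γ X := by
  classical
  let _ : Fintype Γ := Fintype.ofFinite Γ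
  have hpp : p.Prime := hp.out
  set ζ : MulAut Γ := σ ^ (p ^ n) with hζ
  have hN2 : 2 ≤ p ^ (n + 1) := by
    calc 2 ≤ p := hpp.two_le
      _ = p ^ 1 := (pow_one p).symm
      _ ≤ p ^ (n + 1) := Nat.pow_le_pow_right hpp.pos (by omega)
  obtain ⟨g₀, hg₀⟩ := hD.hZ
  -- `Γ` is a group of prime power order
  let πV : Γ →* (End K V)ˣ := ρ.toHomUnits
  have hπV : ∀ g, ((πV g : (End K V)ˣ) : End K V) = ρ g := fun g => rfl
  let D₀ : Subgroup Γ := MonoidHom.eqLocus (πV.comp ζ.toMonoidHom) πV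
  have hD₀ : ∀ g, g ∈ D₀ ↔ ρ (ζ g) = ρ g := by
    intro g
    constructor
    · intro h
      have h1 : πV (ζ g) = πV g := h
      exact congrArg Units.val h1
    · intro h
      exact Units.ext h
  obtain ⟨r, hr, hΓ⟩ := isPGroup_of_min p (n + 1) hD.hcop σ hD.hσN D₀ (by
    intro h
    apply hg₀
    have : g₀ ∈ D₀ := by rw [h]; trivial
    exact (hD₀ _).mp this) (by
    intro Q hQ hQne g hg
    exact (hD₀ _).mpr (hmin Q hQ hQne g hg))
  haveI : Fact r.Prime := ⟨hr⟩
  have hcardK : (Fintype.card Γ : K) ≠ 0 := by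
    intro h
    rw [← Nat.card_eq_fintype_card] at h
    have h1 := (CharP.cast_eq_zero_iff K p _).mp h
    have := Nat.Coprime.eq_one_of_dvd hD.hcop.symm h1
    exact hpp.one_lt.ne' this
  have hrp : p ≠ r := by
    rintro rfl
    have hnt : Nontrivial Γ := by
      refine ⟨⟨ζ g₀, g₀, fun h => hg₀ (by rw [h])⟩⟩
    obtain ⟨e, he⟩ := IsPGroup.iff_card.mp hΓ
    have hc := hD.hcop
    rw [he] at hc
    have he0 : e ≠ 0 := by
      rintro rfl
      have : Nat.card Γ = 1 := by simpa using he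
      exact (Finite.one_lt_card (α := Γ)).ne' this
    have := (Nat.coprime_pow_left_iff (Nat.pos_of_ne_zero he0) _ _).mp hc
    exact hpp.one_lt.ne' (by simpa using this)
  -- the subspace of points where `ζ` acts trivially
  let F : Submodule K V :=
    { carrier := {v | ∀ h, ρ (ζ h) v = ρ h v}
      add_mem' := by
        intro a b ha hb h
        simp [ha h, hb h]
      zero_mem' := by
        intro h
        simp
      smul_mem' := by
        intro c a ha h
        simp [ha h] }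
  have hFinv : Inv ρ F := by
    intro a v hv h
    have h1 := hv (h * ζ⁻¹ a)
    have h2 := hv (ζ⁻¹ a)
    rw [map_mul, MulAut.apply_inv_self, map_mul, map_mul, Module.End.mul_apply, Module.End.mul_apply] at h1
    rw [MulAut.apply_inv_self] at h2
    rw [h1, ← h2]
  have hFne : F ≠ ⊤ := by
    intro h
    apply hg₀
    ext v
    have : v ∈ F := by rw [h]; trivial
    exact this g₀
  obtain ⟨C, hCinv, hC⟩ := exists_inv_compl ρ hcardK F hFinv
  have hCne : C ≠ ⊥ := by
    rintro rfl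
    exact hFne (by simpa using hC.sup_eq_top)
  obtain ⟨W₀, hW₀C, hW₀inv, hW₀ne, hW₀min⟩ := exists_irr ρ C hCinv hCne
  let ρ₀ := HHChar.restrictRep ρ W₀ hW₀inv
  have hirr₀ : Irr ρ₀ := irr_restrict ρ W₀ hW₀inv hW₀min
  have hW₀nt : Nontrivial W₀ := Submodule.nontrivial_iff_ne_bot.mpr hW₀ne
  obtain ⟨w₀, hw₀mem, hw₀ne⟩ := Submodule.exists_mem_ne_zero_of_ne_bot hW₀ne
  have hw₀F : w₀ ∉ F := by
    intro h
    exact hw₀ne ((Submodule.disjoint_def.mp hC.disjoint) w₀ h (hW₀C hw₀mem))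
  obtain ⟨h₀, hh₀⟩ : ∃ h, ρ (ζ h) w₀ ≠ ρ h w₀ := by
    by_contra hcon
    push Not at hcon
    exact hw₀F hcon
  -- the minimal twist
  obtain ⟨a, ha, hTw, hnot⟩ := exists_min_twist hirr₀ σ p (n + 1) hpp hD.hσN
  set t := p ^ a with ht
  have htpos : 0 < t := Nat.pow_pos hpp.pos
  have hA : ∀ g, X ^ t * ρ g = ρ ((σ ^ t) g) * X ^ t := pow_mul_rho hD.hXρ t
  obtain ⟨φ₀, hφ₀, hinj, hstable⟩ := exists_stable_copy ρ ρ₀ hirr₀ (X ^ t) (σ ^ t) hA
    (tw_inv hirr₀ hTw) W₀.subtype (by
      intro h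
      obtain ⟨v, hv⟩ := exists_ne (0 : W₀)
      apply hv
      have := LinearMap.congr_fun h v
      exact Subtype.ext (by simpa using this)) (fun g v => rfl)
  let W' : Submodule K V := LinearMap.range φ₀
  have hS : Inv ρ W' := by
    rintro g _ ⟨w, rfl⟩
    exact ⟨ρ₀ g w, hφ₀ g w⟩
  have hstable' : ∀ u ∈ W', (X ^ t) u ∈ W' := by
    rintro _ ⟨w, rfl⟩
    exact hstable w
  let ρ' := HHChar.restrictRep ρ W' hS
  let e : W₀ ≃ₗ[K] W' := LinearEquiv.ofInjective φ₀ hinj
  have he : ∀ g v, e (ρ₀ g v) = ρ' g (e v) := by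
    intro g v
    apply Subtype.ext
    exact hφ₀ g v
  have hirr' : Irr ρ' := irr_of_equiv e he hirr₀
  have hW'nt : Nontrivial W' := e.injective.nontrivial
  have hnt : ∀ i, 0 < i → i < t → ¬ Tw ρ' ((σ ^ i)⁻¹) := by
    intro i hi hit hT
    have h1 := tw_inv hirr₀ (tw_of_equiv e he hT)
    rw [inv_inv] at h1
    exact hnot i hi hit h1
  have hsum := sum_pow_ne_zero hD.hXρ W' hS hirr' hcardK t htpos hnt
  have hZ' : ∃ h, ρ' (ζ h) ≠ ρ' h := by
    refine ⟨h₀, ?_⟩
    intro hcon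
    apply hh₀
    let w₀' : W₀ := ⟨w₀, hw₀mem⟩
    have h1 := LinearMap.congr_fun hcon (e w₀')
    rw [← he, ← he] at h1
    have h2 := e.injective h1
    exact congrArg Subtype.val h2
  let X₁ : End K W' := (X ^ t).restrict hstable'
  have hmul : ∀ b, 1 ≤ b → IdxGE X₁ b → IdxGE X (t * b) := fun b hb h =>
    idx_mul p a W' hstable' hsum b hb h
  have hX₁pow : ∀ (k : ℕ) (v : W'), ((X₁ ^ k) v : V) = ((X ^ t) ^ k) (v : V) :=
    fun k v => HHChar.restrict_pow_coe (X ^ t) W' hstable' k v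
  have hX₁ρ : ∀ g, X₁ * ρ' g = ρ' ((σ ^ t) g) * X₁ := by
    intro g
    ext v
    exact LinearMap.congr_fun (hA g) (v : V)
  by_cases han : a = n + 1
  · -- all conjugates are different
    left
    have h1 := hmul 1 le_rfl (by
      intro s hs
      by_contra hs0
      have hs00 : s = 0 := by omega
      rw [hs00, pow_zero] at hs
      exact one_ne_zero hs)
    rw [mul_one, ht, han] at h1
    exact h1
  by_cases ha0 : a = 0
  · -- the critical case
    subst ha0
    have ht1 : t = 1 := by rw [ht, pow_zero]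
    have hσt : σ ^ t = σ := by rw [ht1, pow_one]
    rw [hσt] at hX₁ρ
    set N := p ^ (n + 1) with hN
    have hX₁N : X₁ ^ N = 1 := by
      ext v
      rw [hX₁pow, ht1, pow_one, hD.hXN]
      rfl
    let Y₁ : End K W' := X₁ ^ (N - 1)
    have hXY : X₁ * Y₁ = 1 := by
      rw [← pow_succ', Nat.sub_add_cancel (by omega), hX₁N]
    have hYX : Y₁ * X₁ = 1 := by
      rw [← pow_succ, Nat.sub_add_cancel (by omega), hX₁N]
    have hσ' : ∀ g, X₁ * ρ' g * Y₁ = ρ' (σ g) := by
      intro g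
      rw [hX₁ρ, mul_assoc, hXY, mul_one]
    have hX1 : X₁ ≠ 1 := by
      intro h1
      obtain ⟨g, hg⟩ := hZ'
      apply hg
      have h2 : ∀ (i : ℕ) (g : Γ), ρ' ((σ ^ i) g) = ρ' g := by
        intro i g
        have h3 := pow_mul_rho hX₁ρ i g
        rw [h1] at h3
        simpa using h3.symm
      exact h2 _ _
    -- fixed elements are scalar
    let π' : Γ →* (End K W')ˣ := ρ'.toHomUnits
    have hπ' : ∀ g, ((π' g : (End K W')ˣ) : End K W') = ρ' g := fun g => rfl
    have hcommfix : ∀ d, ζ d = d → ∀ b, ρ' b * ρ' d = ρ' d * ρ' b := by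
      intro d hd b
      have := comm_of_fixed p r n (Ne.symm (Ne.symm hrp)) hΓ π' σ hD.hσN (by
        intro g g' hgg'
        apply Units.ext
        rw [hπ', hπ', ← hσ', ← hσ', ← hπ', ← hπ', hgg']) (by
        intro Q hQ hQne g hg
        apply Units.ext
        rw [hπ', hπ']
        ext v
        have h1 := hmin Q hQ hQne g hg
        exact LinearMap.congr_fun h1 (v : V)) (by
        obtain ⟨g, hg⟩ := hZ'
        refine ⟨g, fun h => hg ?_⟩
        rw [← hπ', ← hπ']
        exact congrArg Units.val h) d (by rw [hd]) b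
      exact congrArg Units.val this
    have hfree : ∀ g, (¬ ∃ c : K, ρ' g = c • 1) → ∀ i, 0 < i → i < p ^ (n + 1) → (σ ^ i) g ≠ g := by
      intro g hg i hi hiN hfix
      apply hg
      refine schur hirr' _ ?_
      intro b
      refine (hcommfix g ?_ b).symm
      -- periodicity
      have hper1 : Function.IsPeriodicPt (σ : Γ → Γ) i g := by
        change (σ : Γ → Γ)^[i] g = g
        rw [← pow_apply_eq_iterate]
        exact hfix
      have hper2 : Function.IsPeriodicPt (σ : Γ → Γ) (p ^ (n + 1)) g := by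
        change (σ : Γ → Γ)^[p ^ (n + 1)] g = g
        rw [← pow_apply_eq_iterate, hD.hσN]
        rfl
      have hper3 := hper1.gcd hper2
      have hdvd : Nat.gcd i (p ^ (n + 1)) ∣ p ^ n := by
        obtain ⟨e, he, hee⟩ := (Nat.dvd_prime_pow hpp).mp (Nat.gcd_dvd_right i (p ^ (n + 1)))
        rw [hee]
        by_cases hen : e ≤ n
        · exact pow_dvd_pow _ hen
        · exfalso
          have he1 : e = n + 1 := by omega
          have h2 : p ^ (n + 1) ∣ i := by
            rw [← he1, ← hee]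
            exact Nat.gcd_dvd_left _ _
          have := Nat.le_of_dvd hi h2
          omega
      have hper4 := hper3.trans_dvd hdvd
      change (σ : Γ → Γ)^[p ^ n] g = g at hper4
      rw [← pow_apply_eq_iterate] at hper4
      exact hper4
    have hex : ∃ k, (X₁ - 1) ^ k = 0 :=
      ⟨p ^ (n + 1), by rw [sub_one_pow_char_pow (K := K) p (n + 1), hX₁N, sub_self]⟩
    let s' := Nat.find hex
    have hs' : (X₁ - 1) ^ s' = 0 := Nat.find_spec hex
    have hmins' : ∀ k < s', (X₁ - 1) ^ k ≠ 0 := fun k hk => Nat.find_min hex hk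
    obtain ⟨hc1, hc2⟩ := core p hirr' hcardK hXY hYX (n + 1) hσ' hD.hσN hfree hX1 s' hs' hmins'
    have hidx : IdxGE X₁ s' := fun s hs => Nat.find_min' hex hs
    by_cases hsN : s' = p ^ (n + 1) - 1
    · right
      have hfr := hc2 hsN
      obtain ⟨b, hb⟩ := finrank_irr_prime_pow (K := K) r (p ^ (n + 1) - 1) W' Γ hΓ ρ' hirr' hfr
      have hsne1 : s' ≠ 1 := by
        intro h1
        rw [h1, pow_one] at hs'
        exact hX1 (sub_eq_zero.mp hs')
      refine ⟨n + 1, r, b, by omega, le_rfl, hr, ?_, hb, ?_, ?_⟩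
      · by_contra hb0
        have hb00 : b = 0 := by omega
        rw [hb00, pow_zero] at hb
        omega
      · refine ⟨⊤, ?_, ?_⟩
        · intro g
          obtain ⟨m, hm⟩ := hΓ g
          exact ⟨m, Subtype.ext (by simpa using congrArg Subtype.val (congrArg (fun x => (⟨x, trivial⟩ : (⊤ : Subgroup Γ))) hm))⟩
        · by_contra hcon
          push Not at hcon
          have hsc : ∀ g, ∃ c : K, ρ' g = c • 1 := by
            intro g
            refine schur hirr' _ ?_
            intro b'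
            rw [← map_mul, ← map_mul, hcon g trivial b' trivial]
          have := finrank_one_of_scal hirr' hsc
          omega
      · have h1 := hmul (p ^ (n + 1) - 1) (by omega) (by rw [← hsN]; exact hidx)
        rw [ht1, one_mul] at h1
        simpa using h1
    · left
      have h1 := hmul (p ^ (n + 1)) (by omega) (fun s hs => by
        have := hidx s hs
        omega)
      rw [ht1, one_mul] at h1
      exact h1
  · have ha1 : 1 ≤ a := by omega
    have hale : a ≤ n := by omega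
    obtain ⟨n', hn'⟩ : ∃ n', n = a + n' := ⟨n - a, by omega⟩
    have hn'lt : n' < n := by omega
    have hpow : t * p ^ (n' + 1) = p ^ (n + 1) := by rw [ht, ← pow_add]; congr 1; omega
    have hpow2 : t * p ^ n' = p ^ n := by rw [ht, ← pow_add]; congr 1; omega
    have hDat : Data p n' ρ' X₁ (σ ^ t) :=
      { hcop := hD.hcop
        hXN := by
          ext v
          rw [hX₁pow, ← pow_mul, hpow, hD.hXN]
          rfl
        hσN := by rw [← pow_mul, hpow, hD.hσN]
        hXρ := hX₁ρ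
        hZ := by
          obtain ⟨g, hg⟩ := hZ'
          refine ⟨g, ?_⟩
          rw [← pow_mul, hpow2]
          exact hg }
    have hc := ihn n' hn'lt W' Γ ρ' X₁ (σ ^ t) hDat
    rcases hc with hc | ⟨n₀, q, m, h1, h2, h3, h4, h5, h6, h7⟩
    · left
      have := hmul _ (Nat.pow_pos hpp.pos) hc
      rwa [hpow] at this
    · right
      refine ⟨n₀, q, m, h1, by omega, h3, h4, h5, h6, ?_⟩
      have hpn : 2 ≤ p ^ n₀ := by
        calc 2 ≤ p := hpp.two_le
          _ = p ^ 1 := (pow_one p).symm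
          _ ≤ p ^ n₀ := Nat.pow_le_pow_right hpp.pos h1
      have h8 := hmul (p ^ (n' + 1 - n₀) * (p ^ n₀ - 1))
        (Nat.mul_pos (Nat.pow_pos hpp.pos) (by omega)) h7
      have e' : t * (p ^ (n' + 1 - n₀) * (p ^ n₀ - 1)) = p ^ (n + 1 - n₀) * (p ^ n₀ - 1) := by
        rw [← mul_assoc, ht, ← pow_add]
        congr 2
        omega
      rwa [e'] at h8

/-- Restriction of an automorphism to an invariant subgroup. -/
def resAut {Γ : Type w} [Group Γ] (σ : MulAut Γ) (Q : Subgroup Γ) (h : ∀ g ∈ Q, σ g ∈ Q)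
    (h' : ∀ g ∈ Q, σ⁻¹ g ∈ Q) : MulAut Q where
  toFun g := ⟨σ g, h g g.2⟩
  invFun g := ⟨σ⁻¹ g, h' g g.2⟩
  left_inv g := by
    apply Subtype.ext
    simp
  right_inv g := by
    apply Subtype.ext
    simp
  map_mul' a b := by
    apply Subtype.ext
    simp

theorem resAut_pow {Γ : Type w} [Group Γ] (σ : MulAut Γ) (Q : Subgroup Γ) (h : ∀ g ∈ Q, σ g ∈ Q)
    (h' : ∀ g ∈ Q, σ⁻¹ g ∈ Q) (i : ℕ) (g : Q) : (((resAut σ Q h h') ^ i) g : Γ) = (σ ^ i) g := by
  induction i generalizing g with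
  | zero => simp
  | succ i ih =>
    rw [pow_succ, MulAut.mul_apply, ih, pow_succ, MulAut.mul_apply]
    rfl

theorem main [IsAlgClosed K] (n : ℕ) :
    ∀ (V : Type v) [AddCommGroup V] [Module K V] [FiniteDimensional K V] [Nontrivial V]
      (Γ : Type w) [Group Γ] [Finite Γ] (ρ : Γ →* End K V) (X : End K V) (σ : MulAut Γ),
      Data p n ρ X σ → Concl (K := K) p n Γ X := by
  induction n using Nat.strong_induction_on with
  | _ n ihn =>
  have inner : ∀ (c : ℕ) (V : Type v) [AddCommGroup V] [Module K V] [FiniteDimensional K V] [Nontrivial V]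
      (Γ : Type w) [Group Γ] [Finite Γ] (ρ : Γ →* End K V) (X : End K V) (σ : MulAut Γ),
      Nat.card Γ = c → Data p n ρ X σ → Concl (K := K) p n Γ X := by
    intro c
    induction c using Nat.strong_induction_on with
    | _ c ihc =>
    intro V _ _ _ _ Γ _ _ ρ X σ hc hD
    by_cases hmin : ∀ Q : Subgroup Γ, (∀ g ∈ Q, σ g ∈ Q) → Q ≠ ⊤ → ∀ g ∈ Q, ρ ((σ ^ (p ^ n)) g) = ρ g
    · exact main_min p n ihn ρ X σ hD hmin
    · push Not at hmin
      obtain ⟨Q, hQ, hQne, g₁, hg₁, hg₁ne⟩ := hmin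
      have hNpos : 0 < p ^ (n + 1) := Nat.pow_pos hp.out.pos
      have hQ' := sigma_inv_mem hNpos hD.hσN hQ
      let σQ : MulAut Q := resAut σ Q hQ hQ'
      let ρQ : Q →* End K V := ρ.comp Q.subtype
      have hDQ : Data p n ρQ X σQ :=
        { hcop := Nat.Coprime.coprime_dvd_left (Subgroup.card_subgroup_dvd_card Q) hD.hcop
          hXN := hD.hXN
          hσN := by
            ext g
            rw [resAut_pow, hD.hσN]
            rfl
          hXρ := fun g => hD.hXρ g
          hZ := by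
            refine ⟨⟨g₁, hg₁⟩, ?_⟩
            simp only [ρQ, MonoidHom.comp_apply, Subgroup.coe_subtype]
            rw [resAut_pow]
            exact hg₁ne }
      have hlt : Nat.card Q < c := by
        rw [← hc]
        exact lt_of_le_of_ne (Subgroup.card_le_card_group Q) (fun h => hQne (Subgroup.eq_top_of_card_eq Q h))
      have hcon := ihc _ hlt V Q ρQ X σQ rfl hDQ
      rcases hcon with hcon | ⟨n₀, q, m, h1, h2, h3, h4, h5, ⟨R, hR, a, ha, b, hb, hab⟩, h7⟩
      · exact Or.inl hcon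
      · refine Or.inr ⟨n₀, q, m, h1, h2, h3, h4, h5, ⟨R.map Q.subtype, hR.map _, a, ⟨a, ha, rfl⟩, b, ⟨b, hb, rfl⟩, ?_⟩, h7⟩
        intro he
        apply hab
        exact Subtype.ext he
  intro V _ _ _ _ Γ _ _ ρ X σ hD
  exact inner _ V Γ ρ X σ rfl hD

end Cfsg.Agent.Lib.HHB3
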