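import Mathlib
import Cfsg.Agent.Lib.HHB3
import Cfsg.Agent.Lib.CoprimeInv
import Cfsg.Agent.Lib.CoprimeHyper
import Cfsg.Agent.Lib.QuadAbs

set_option autoImplicit false
set_option linter.unusedSectionVars false
set_option linter.unusedVariables false
set_option linter.style.haveILetI false

/-!
Quadratic `p`-elements in the derived subgroup: the key step for the Hall--Higman bound on `p`-length
by derived length.
-/

namespace Cfsg.Agent.Lib.HHB4

open Module Cfsg Cfsg.Agent.Lib.HHCrit Cfsg.Agent.Lib.HHB2 Cfsg.Agent.Lib.CoprimeInv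
open scoped commutatorElement

section Group

variable {H : Type*} [Group H] [Finite H]

theorem mem_normalizer_of_conj {F : Subgroup H} {a : H} (h1 : ∀ x ∈ F, a * x * a⁻¹ ∈ F)
    (h2 : ∀ x ∈ F, a⁻¹ * x * a ∈ F) : a ∈ Subgroup.normalizer (F : Set H) := by
  rw [Subgroup.mem_normalizer_iff]
  intro x
  constructor
  · exact h1 x
  · intro hx
    have := h2 _ hx
    have e : a⁻¹ * (a * x * a⁻¹) * a = x := by group
    rwa [e] at this

theorem comm_of_min {p q : ℕ} [hp : Fact p.Prime] [hq : Fact q.Prime] (hpq : p ≠ q) {E A : Subgroup H}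
    (hE : IsPGroup q E) (hAE : A ≤ Subgroup.normalizer (E : Set H)) {b : H} (hbA : b ∈ A)
    (hbc : ∀ a ∈ A, a * b = b * a) (hbp : b ^ p = 1)
    (hnc : ¬ E ≤ Subgroup.centralizer {b})
    (hmin : ∀ E' ≤ E, A ≤ Subgroup.normalizer (E' : Set H) → E' ≠ E → E' ≤ Subgroup.centralizer {b})
    {d : H} (hd : d ∈ E) (hdb : d * b = b * d) {a : H} (ha : a ∈ E) : a * d = d * a := by
  classical
  have hEconj : ∀ a' ∈ A, ∀ x ∈ E, a' * x * a'⁻¹ ∈ E := fun a' ha' x hx =>
    (Subgroup.mem_normalizer_iff.mp (hAE ha') x).mp hx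
  have hEconj' : ∀ a' ∈ A, ∀ x ∈ E, a'⁻¹ * x * a' ∈ E := by
    intro a' ha' x hx
    have := hEconj a'⁻¹ (inv_mem ha') x hx
    simpa using this
  have hbE : ∀ x ∈ E, b * x * b⁻¹ ∈ E := hEconj b hbA
  set D : Subgroup H := E ⊓ Subgroup.centralizer {b} with hD
  have hDmem : ∀ x, x ∈ D ↔ x ∈ E ∧ x * b = b * x := by
    intro x
    rw [hD, Subgroup.mem_inf, Subgroup.mem_centralizer_singleton_iff]
  have hDA : A ≤ Subgroup.normalizer (D : Set H) := by
    intro a' ha'
    have hc := hbc a' ha'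
    refine mem_normalizer_of_conj ?_ ?_
    · intro x hx
      obtain ⟨h1, h2⟩ := (hDmem x).mp hx
      refine (hDmem _).mpr ⟨hEconj a' ha' x h1, ?_⟩
      calc a' * x * a'⁻¹ * b = a' * x * (a'⁻¹ * b) := by group
        _ = a' * x * (b * a'⁻¹) := by
          congr 1
          have := hbc a'⁻¹ (inv_mem ha')
          exact this.symm ▸ rfl
        _ = a' * (x * b) * a'⁻¹ := by group
        _ = a' * (b * x) * a'⁻¹ := by rw [h2]
        _ = (a' * b) * x * a'⁻¹ := by group
        _ = (b * a') * x * a'⁻¹ := by rw [hc]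
        _ = b * (a' * x * a'⁻¹) := by group
    · intro x hx
      obtain ⟨h1, h2⟩ := (hDmem x).mp hx
      refine (hDmem _).mpr ⟨hEconj' a' ha' x h1, ?_⟩
      have hc' := hbc a'⁻¹ (inv_mem ha')
      calc a'⁻¹ * x * a' * b = a'⁻¹ * x * (a' * b) := by group
        _ = a'⁻¹ * x * (b * a') := by rw [hc]
        _ = a'⁻¹ * (x * b) * a' := by group
        _ = a'⁻¹ * (b * x) * a' := by rw [h2]
        _ = (a'⁻¹ * b) * x * a' := by group
        _ = (b * a'⁻¹) * x * a' := by rw [hc']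
        _ = b * (a'⁻¹ * x * a') := by group
  have hDlt : D < E := by
    refine lt_of_le_of_ne inf_le_left ?_
    intro he
    apply hnc
    intro x hx
    rw [← he] at hx
    exact hx.2
  -- normality of `D`
  obtain ⟨t, htE, htD, htN⟩ := exists_mem_normalizer_of_lt hE hDlt
  have hDnorm : E ≤ Subgroup.normalizer (D : Set H) := by
    by_contra hcon
    have h1 : A ≤ Subgroup.normalizer ((E ⊓ Subgroup.normalizer (D : Set H) : Subgroup H) : Set H) :=
      le_normalizer_inf hAE (hDA.trans Subgroup.le_normalizer)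
    have h2 := hmin _ inf_le_left h1 (by
      intro he
      apply hcon
      rw [← he]
      exact inf_le_right)
    exact htD ((hDmem t).mpr ⟨htE, by
      have := h2 ⟨htE, htN⟩
      exact Subgroup.mem_centralizer_singleton_iff.mp this⟩)
  -- the commutators generate
  let F : Subgroup H := Subgroup.closure {y | ∃ x ∈ E, y = x⁻¹ * (b * x * b⁻¹)}
  have hFE : F ≤ E := by
    rw [Subgroup.closure_le]
    rintro _ ⟨x, hx, rfl⟩
    exact mul_mem (inv_mem hx) (hbE x hx)
  have hFA : A ≤ Subgroup.normalizer (F : Set H) := by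
    intro a' ha'
    have key : ∀ c ∈ A, ∀ y ∈ F, c * y * c⁻¹ ∈ F := by
      intro c hc y hy
      have hcb := hbc c hc
      have hcb' := hbc c⁻¹ (inv_mem hc)
      induction hy using Subgroup.closure_induction with
      | mem y hy =>
        obtain ⟨x, hx, rfl⟩ := hy
        apply Subgroup.subset_closure
        refine ⟨c * x * c⁻¹, hEconj c hc x hx, ?_⟩
        have h1 : b * (c * x * c⁻¹) * b⁻¹ = c * (b * x * b⁻¹) * c⁻¹ := by
          calc b * (c * x * c⁻¹) * b⁻¹ = (b * c) * x * (b * c)⁻¹ := by group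
            _ = (c * b) * x * (c * b)⁻¹ := by rw [hcb]
            _ = c * (b * x * b⁻¹) * c⁻¹ := by group
        rw [h1]
        group
      | one => simp
      | mul x y _ _ hx hy =>
        have e : c * (x * y) * c⁻¹ = (c * x * c⁻¹) * (c * y * c⁻¹) := by group
        rw [e]
        exact mul_mem hx hy
      | inv x _ hx =>
        have e : c * x⁻¹ * c⁻¹ = (c * x * c⁻¹)⁻¹ := by group
        rw [e]
        exact inv_mem hx
    refine mem_normalizer_of_conj (key a' ha') ?_
    intro x hx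
    have := key a'⁻¹ (inv_mem ha') x hx
    simpa using this
  have hFtop : F = E := by
    by_contra hne
    have hFc := hmin F hFE hFA hne
    apply hnc
    intro x hx
    rw [Subgroup.mem_centralizer_singleton_iff]
    set c := x⁻¹ * (b * x * b⁻¹) with hc
    have hcF : c ∈ F := Subgroup.subset_closure ⟨x, hx, rfl⟩
    have hcb : c * b = b * c := Subgroup.mem_centralizer_singleton_iff.mp (hFc hcF)
    have hcE : c ∈ E := hFE hcF
    have hpow : ∀ k : ℕ, b ^ k * x * (b ^ k)⁻¹ = x * c ^ k := by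
      intro k
      induction k with
      | zero => simp
      | succ k ih =>
        have h1 : b * c ^ k * b⁻¹ = c ^ k := by
          have : Commute b c := hcb.symm
          rw [(this.pow_right k).eq]
          group
        have h2 : b * x * b⁻¹ = x * c := by rw [hc]; group
        calc b ^ (k + 1) * x * (b ^ (k + 1))⁻¹ = b * (b ^ k * x * (b ^ k)⁻¹) * b⁻¹ := by
              rw [pow_succ']; group
          _ = b * (x * c ^ k) * b⁻¹ := by rw [ih]
          _ = (b * x * b⁻¹) * (b * c ^ k * b⁻¹) := by group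
          _ = x * c * c ^ k := by rw [h1, h2]
          _ = x * c ^ (k + 1) := by rw [pow_succ', mul_assoc]
    have h3 := hpow p
    rw [hbp] at h3
    simp only [one_mul, inv_one, mul_one] at h3
    have h4 : c ^ p = 1 := by
      have := mul_left_cancel (a := x) (b := c ^ p) (c := 1) (by rw [← h3, mul_one])
      exact this
    obtain ⟨k, hk⟩ := hE ⟨c, hcE⟩
    have h5 : c ^ q ^ k = 1 := by
      have := congrArg Subtype.val hk
      simpa using this
    have hcop : Nat.Coprime p (q ^ k) :=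
      Nat.Coprime.pow_right _ ((Nat.coprime_primes hp.out hq.out).mpr hpq)
    have h6 : c = 1 := by
      have h9 := pow_gcd_eq_one.mpr ⟨h4, h5⟩
      rwa [hcop.gcd_eq_one, pow_one] at h9
    have h7 : b * x * b⁻¹ = x := by
      have : b * x * b⁻¹ = x * c := by rw [hc]; group
      rw [this, h6, mul_one]
    calc x * b = (b * x * b⁻¹) * b := by rw [h7]
      _ = b * x := by group
  -- now the commutator
  have hFd : F ≤ Subgroup.centralizer {d} := by
    rw [Subgroup.closure_le]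
    rintro _ ⟨x, hx, rfl⟩
    have hdD : d ∈ D := (hDmem d).mpr ⟨hd, hdb⟩
    have hw : x * d * x⁻¹ * d⁻¹ ∈ D := by
      refine mul_mem ?_ (inv_mem hdD)
      exact (Subgroup.mem_normalizer_iff.mp (hDnorm hx) d).mp hdD
    have hwb := ((hDmem _).mp hw).2
    have hdb' : b * d * b⁻¹ = d := by
      rw [← hdb]; group
    have h1 : b * (x * d * x⁻¹ * d⁻¹) * b⁻¹ = x * d * x⁻¹ * d⁻¹ := by
      rw [← hwb]; group
    have h2 : (b * x * b⁻¹) * d * (b * x * b⁻¹)⁻¹ * d⁻¹ = x * d * x⁻¹ * d⁻¹ := by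
      rw [← h1]
      calc (b * x * b⁻¹) * d * (b * x * b⁻¹)⁻¹ * d⁻¹
          = (b * x * b⁻¹) * (b * d * b⁻¹) * (b * x * b⁻¹)⁻¹ * (b * d * b⁻¹)⁻¹ := by rw [hdb']
        _ = b * (x * d * x⁻¹ * d⁻¹) * b⁻¹ := by group
    have h3 : (b * x * b⁻¹) * d * (b * x * b⁻¹)⁻¹ = x * d * x⁻¹ := mul_right_cancel h2
    rw [SetLike.mem_coe, Subgroup.mem_centralizer_singleton_iff]
    calc x⁻¹ * (b * x * b⁻¹) * d = x⁻¹ * ((b * x * b⁻¹) * d * (b * x * b⁻¹)⁻¹) * (b * x * b⁻¹) := by group
      _ = x⁻¹ * (x * d * x⁻¹) * (b * x * b⁻¹) := by rw [h3]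
      _ = d * (x⁻¹ * (b * x * b⁻¹)) := by group
  have haF : a ∈ F := by rw [hFtop]; exact ha
  exact Subgroup.mem_centralizer_singleton_iff.mp (hFd haF)

theorem isPGroup_of_minE {p : ℕ} [hp : Fact p.Prime] {E A : Subgroup H} (hA : IsPGroup p A)
    (hX : ¬ p ∣ Nat.card E) (hAE : A ≤ Subgroup.normalizer (E : Set H)) {b : H}
    (hnc : ¬ E ≤ Subgroup.centralizer {b})
    (hmin : ∀ E' ≤ E, A ≤ Subgroup.normalizer (E' : Set H) → E' ≠ E → E' ≤ Subgroup.centralizer {b}) :
    ∃ q, q.Prime ∧ IsPGroup q E := by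
  classical
  let D₁ : Subgroup E := (Subgroup.centralizer {b}).subgroupOf E
  have hind : D₁.index ≠ 1 := by
    intro h
    have h1 := Subgroup.index_eq_one.mp h
    apply hnc
    intro x hx
    have : (⟨x, hx⟩ : E) ∈ D₁ := by rw [h1]; trivial
    exact this
  obtain ⟨r, hr, hrd⟩ := Nat.exists_prime_and_dvd hind
  have : Fact r.Prime := ⟨hr⟩
  obtain ⟨Q, hQ⟩ := Cfsg.Agent.Lib.CoprimeHyper.exists_invariant_sylow (q := r) A E hA hX hAE
  refine ⟨r, hr, ?_⟩
  set Q' : Subgroup H := (Q : Subgroup E).map E.subtype with hQ'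
  have hQ'le : Q' ≤ E := by
    rintro _ ⟨x, _, rfl⟩
    exact x.2
  by_cases he : Q' = E
  · rw [← he]
    exact Q.isPGroup'.map E.subtype
  · exfalso
    have hAQ : A ≤ Subgroup.normalizer (Q' : Set H) := by
      intro a ha
      refine mem_normalizer_of_conj (hQ a ha) ?_
      intro x hx
      have := hQ a⁻¹ (inv_mem ha) x hx
      simpa using this
    have h1 := hmin Q' hQ'le hAQ he
    have h2 : (Q : Subgroup E) ≤ D₁ := by
      intro x hx
      exact h1 ⟨x, hx, rfl⟩
    have h3 : D₁.index ∣ (Q : Subgroup E).index := Subgroup.index_dvd_of_le h2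
    exact Q.not_dvd_index (hrd.trans h3)

end Group

section Rep

variable {K : Type*} [Field K] {V : Type*} [AddCommGroup V] [Module K V] {Γ : Type*} [Group Γ]

theorem sum_coeff_ne_zero [IsAlgClosed K] [FiniteDimensional K V] [Fintype Γ]
    {X : End K V} {σ : MulAut Γ}
    {ρ : Γ →* End K V} (hXρ : ∀ g, X * ρ g = ρ (σ g) * X) (W' : Submodule K V) (hS : Inv ρ W')
    [Nontrivial W'] (hirr : Irr (HHChar.restrictRep ρ W' hS))
    (hcard : (Fintype.card Γ : K) ≠ 0) (t : ℕ) (ht : 0 < t)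
    (hnt : ∀ i, 0 < i → i < t → ¬ Tw (HHChar.restrictRep ρ W' hS) ((σ ^ i)⁻¹))
    (κ : ℕ → K) (hκ : κ 0 ≠ 0)
    (v' : W') (hv' : v' ≠ 0) :
    ∑ i ∈ Finset.range t, κ i • (X ^ i) (v' : V) ≠ 0 := by
  classical
  intro h0
  set ρ' := HHChar.restrictRep ρ W' hS with hρ'
  obtain ⟨ψ, hψ⟩ := HHCore.exists_dual_one (𝔽 := K) hv'
  let f : End K W' := ψ.smulRight v'
  let M : ℕ → End K W' := fun i => ∑ g, ρ' (((σ ^ i)⁻¹ : MulAut Γ) g) * f * ρ' g⁻¹
  have hMzero : ∀ i, 0 < i → i < t → M i = 0 := by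
    intro i hi hit
    by_contra hne
    refine hnt i hi hit ⟨M i, hne, ?_⟩
    intro h
    simp only [M]
    rw [Finset.sum_mul, Finset.mul_sum]
    refine (Equiv.sum_comp (Equiv.mulLeft h)
      (fun g => ρ' (((σ ^ i)⁻¹ : MulAut Γ) g) * f * ρ' g⁻¹ * ρ' h)).symm.trans ?_
    refine Finset.sum_congr rfl fun g _ => ?_
    have h1 : ρ' (h * g)⁻¹ * ρ' h = ρ' g⁻¹ := by
      rw [← map_mul]; congr 1; group
    simp only [Equiv.coe_mulLeft]
    rw [mul_assoc, h1, map_mul, map_mul]
    simp only [mul_assoc]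
  obtain ⟨c, hc, hc'⟩ := phi_scalar hirr f
  have htr : LinearMap.trace K W' f = 1 := by
    rw [trace_smulRight, hψ]
  have hc0 : c ≠ 0 := by
    intro h00
    rw [h00, zero_mul, htr, mul_one] at hc'
    exact hcard hc'.symm
  have hM0 : M 0 = c • 1 := by
    simp only [M, pow_zero, inv_one, MulAut.one_apply]
    exact hc
  have hMapp : ∀ i, ((M i v' : W') : V) =
      ∑ g, ψ (ρ' g⁻¹ v') • ρ (((σ ^ i)⁻¹ : MulAut Γ) g) (v' : V) := by
    intro i
    simp only [M, LinearMap.sum_apply, Module.End.mul_apply, f, LinearMap.smulRight_apply, map_smul]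
    push_cast
    rfl
  have key : ∑ g, ψ (ρ' g⁻¹ v') • ρ g (∑ i ∈ Finset.range t, κ i • (X ^ i) (v' : V)) =
      ∑ i ∈ Finset.range t, κ i • (X ^ i) ((M i v' : W') : V) := by
    simp only [hMapp, map_sum, map_smul, Finset.smul_sum]
    rw [Finset.sum_comm]
    refine Finset.sum_congr rfl fun i _ => ?_
    refine Finset.sum_congr rfl fun g _ => ?_
    have h1 := LinearMap.congr_fun (rho_mul_pow (ρ := ρ) hXρ i g) (v' : V)
    simp only [Module.End.mul_apply] at h1
    rw [h1, smul_comm]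
  rw [h0] at key
  simp only [map_zero, smul_zero, Finset.sum_const_zero] at key
  rw [Finset.sum_eq_single_of_mem 0 (Finset.mem_range.mpr ht)] at key
  · rw [hM0] at key
    simp only [pow_zero, Module.End.one_apply, LinearMap.smul_apply, Submodule.coe_smul] at key
    have h1 := (smul_eq_zero.mp key.symm)
    rcases h1 with h1 | h1
    · exact hκ h1
    · rcases (smul_eq_zero.mp h1) with h2 | h2
      · exact hc0 h2
      · exact hv' (Subtype.ext h2)
  · intro i hi hi0
    have := hMzero i (Nat.pos_of_ne_zero hi0) (Finset.mem_range.mp hi)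
    rw [this]
    simp

theorem exists_irr_moved [Fintype Γ] [FiniteDimensional K V] (ρ : Γ →* End K V)
    (hcard : (Fintype.card Γ : K) ≠ 0) (ζ : MulAut Γ) (g₀ : Γ) (hg₀ : ρ (ζ g₀) ≠ ρ g₀) :
    ∃ W₀ : Submodule K V, Inv ρ W₀ ∧ W₀ ≠ ⊥ ∧ (∀ W' ≤ W₀, Inv ρ W' → W' = ⊥ ∨ W' = W₀) ∧
      ∃ h, ∃ w ∈ W₀, ρ (ζ h) w ≠ ρ h w := by
  let F : Submodule K V :=
    { carrier := {v | ∀ h, ρ (ζ h) v = ρ h v}
      add_mem' := by
        intro a b ha hb h
        simp [ha h, hb h]
      zero_mem' := by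
        intro h
        simp
      smul_mem' := by
        intro c a ha h
        simp [ha h] }
  have hFinv : Inv ρ F := by
    intro a v hv h
    have h1 := hv (h * ζ⁻¹ a)
    have h2 := hv (ζ⁻¹ a)
    rw [map_mul, MulAut.apply_inv_self, map_mul, map_mul, Module.End.mul_apply, Module.End.mul_apply] at h1
    rw [MulAut.apply_inv_self] at h2
    rw [h1, ← h2]
  have hFne : F ≠ ⊤ := by
    intro h
    apply hg₀
    ext v
    have : v ∈ F := by rw [h]; trivial
    exact this g₀
  obtain ⟨C, hCinv, hC⟩ := exists_inv_compl ρ hcard F hFinv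
  have hCne : C ≠ ⊥ := by
    rintro rfl
    exact hFne (by simpa using hC.sup_eq_top)
  obtain ⟨W₀, hW₀C, hW₀inv, hW₀ne, hW₀min⟩ := exists_irr ρ C hCinv hCne
  refine ⟨W₀, hW₀inv, hW₀ne, hW₀min, ?_⟩
  obtain ⟨w₀, hw₀mem, hw₀ne⟩ := Submodule.exists_mem_ne_zero_of_ne_bot hW₀ne
  have hw₀F : w₀ ∉ F := by
    intro h
    exact hw₀ne ((Submodule.disjoint_def.mp hC.disjoint) w₀ h (hW₀C hw₀mem))
  obtain ⟨h₀, hh₀⟩ : ∃ h, ρ (ζ h) w₀ ≠ ρ h w₀ := by
    by_contra hcon
    push Not at hcon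
    exact hw₀F hcon
  exact ⟨h₀, w₀, hw₀mem, hh₀⟩

variable {W : Type*} [AddCommGroup W] [Module K W]

theorem tw_prop [IsAlgClosed K] [FiniteDimensional K W] [Nontrivial W] {ρ₀ : Γ →* End K W}
    (hρ : Irr ρ₀) {τ : MulAut Γ} {c₁ c₂ : End K W} (h0 : c₂ ≠ 0)
    (h₁ : ∀ g, c₁ * ρ₀ g = ρ₀ (τ g) * c₁) (h₂ : ∀ g, c₂ * ρ₀ g = ρ₀ (τ g) * c₂) :
    ∃ lam : K, c₁ = lam • c₂ := by
  have hb := tw_bij hρ h0 h₂
  let e : W ≃ₗ[K] W := LinearEquiv.ofBijective c₂ hb
  let c' : End K W := e.symm.toLinearMap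
  have h3 : c₂ * c' = 1 := by
    ext v
    exact e.apply_symm_apply v
  have h4 : c' * c₂ = 1 := by
    ext v
    exact e.symm_apply_apply v
  obtain ⟨lam, hlam⟩ := schur hρ (c₁ * c') (by
    intro g
    obtain ⟨g', rfl⟩ := τ.surjective g
    have h5 : c' * ρ₀ (τ g') = ρ₀ g' * c' := by
      calc c' * ρ₀ (τ g') = c' * (ρ₀ (τ g') * (c₂ * c')) := by rw [h3, mul_one]
        _ = c' * (c₂ * ρ₀ g') * c' := by rw [← mul_assoc (ρ₀ (τ g')), ← h₂]; noncomm_ring
        _ = (c' * c₂) * ρ₀ g' * c' := by noncomm_ring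
        _ = ρ₀ g' * c' := by rw [h4, one_mul]
    rw [mul_assoc, h5, ← mul_assoc, h₁, mul_assoc])
  refine ⟨lam, ?_⟩
  calc c₁ = c₁ * (c' * c₂) := by rw [h4, mul_one]
    _ = (c₁ * c') * c₂ := by rw [mul_assoc]
    _ = lam • c₂ := by rw [hlam, smul_mul_assoc, one_mul]

theorem comm_of_comm_nilp [FiniteDimensional K W] (hfr : finrank K W = 2) {u a₁ a₂ : End K W}
    (hu0 : u ≠ 0) (hu2 : u * u = 0) (h₁ : a₁ * u = u * a₁) (h₂ : a₂ * u = u * a₂) :
    a₁ * a₂ = a₂ * a₁ := by
  obtain ⟨w, hw⟩ : ∃ w, u w ≠ 0 := by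
    by_contra hcon
    push Not at hcon
    exact hu0 (LinearMap.ext hcon)
  have huu : ∀ x, u (u x) = 0 := fun x => LinearMap.congr_fun hu2 x
  have hli : LinearIndependent K ![w, u w] := by
    rw [LinearIndependent.pair_iff]
    intro s t hst
    have h1 := congrArg u hst
    simp only [map_add, map_smul, huu, smul_zero, add_zero, map_zero] at h1
    have hs : s = 0 := (smul_eq_zero.mp h1).resolve_right hw
    subst hs
    simp only [zero_smul, zero_add] at hst
    exact ⟨rfl, (smul_eq_zero.mp hst).resolve_right hw⟩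
  have hspan : Submodule.span K (Set.range ![w, u w]) = ⊤ :=
    hli.span_eq_top_of_card_eq_finrank' (by simp [hfr])
  have hmem : ∀ x, ∃ s t : K, s • w + t • u w = x := by
    intro x
    have hx : x ∈ Submodule.span K (Set.range ![w, u w]) := by rw [hspan]; trivial
    have e : Set.range ![w, u w] = {w, u w} := by
      ext y
      simp only [Matrix.range_cons, Matrix.range_empty, Set.union_empty, Set.mem_union, Set.mem_singleton_iff, Set.mem_insert_iff]
    rw [e] at hx
    exact Submodule.mem_span_pair.mp hx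
  have hform : ∀ a : End K W, a * u = u * a → ∃ s t : K, a = s • 1 + t • u := by
    intro a ha
    obtain ⟨s, t, hst⟩ := hmem (a w)
    refine ⟨s, t, ?_⟩
    ext x
    obtain ⟨s', t', rfl⟩ := hmem x
    have h1 : a (u w) = u (a w) := LinearMap.congr_fun ha w
    have h2 : a (u w) = s • u w := by
      rw [h1, ← hst]
      simp [huu]
    simp only [map_add, map_smul, LinearMap.add_apply, LinearMap.smul_apply, Module.End.one_apply, huu,
      smul_zero, add_zero, h2, ← hst]
  obtain ⟨s, t, rfl⟩ := hform a₁ h₁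
  have h3 : Commute (s • (1 : End K W) + t • u) a₂ := by
    refine Commute.add_left ?_ ?_
    · exact (Commute.one_left a₂).smul_left s
    · exact (show Commute u a₂ from h₂.symm).smul_left t
  exact h3

end Rep

section Kl

variable {K : Type*} [Field K]

theorem unip_comm {W : Type*} [AddCommGroup W] [Module K W] {X c : End K W}
    (hu0 : X - 1 ≠ 0) (hu2 : (X - 1) * (X - 1) = 0) (hc : Function.Surjective c) (lam : K)
    (h : c * X = lam • (X * c)) : c * X = X * c := by
  have huu : ∀ x, (X - 1) ((X - 1) x) = 0 := fun x => LinearMap.congr_fun hu2 x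
  obtain ⟨w, hw⟩ : ∃ w, (X - 1) w ≠ 0 := by
    by_contra hcon
    push Not at hcon
    exact hu0 (LinearMap.ext hcon)
  set v₀ := (X - 1) w with hv₀
  have hXv₀ : X v₀ = v₀ := by
    have h1 := huu w
    rw [← hv₀] at h1
    simpa [sub_eq_zero] using h1
  have h1 : c * (X - 1) = (lam • X - 1) * c := by
    rw [mul_sub, h, sub_mul, smul_mul_assoc, mul_one, one_mul]
  have h2 : (lam • X - 1) * (lam • X - 1) * c = 0 := by
    rw [mul_assoc, ← h1, ← mul_assoc, ← h1, mul_assoc, hu2, mul_zero]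
  have h3 : (lam • X - 1) * (lam • X - 1) = 0 := by
    ext x
    obtain ⟨x', rfl⟩ := hc x
    exact LinearMap.congr_fun h2 x'
  have h4 : (lam - 1) * (lam - 1) = 0 := by
    have h5 := LinearMap.congr_fun h3 v₀
    simp only [Module.End.mul_apply, LinearMap.sub_apply, LinearMap.smul_apply, Module.End.one_apply, hXv₀,
      map_sub, map_smul, LinearMap.zero_apply] at h5
    have h6 : ((lam - 1) * (lam - 1)) • v₀ = 0 := by
      rw [← h5]
      simp only [sub_smul, mul_sub, sub_mul, mul_smul, one_smul, one_mul, mul_one, smul_sub]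
    exact (smul_eq_zero.mp h6).resolve_right hw
  have h7 : lam = 1 := by
    have := mul_self_eq_zero.mp h4
    exact sub_eq_zero.mp this
  rw [h, h7, one_smul]

theorem kl_rep₀ [IsAlgClosed K] (p : ℕ) [hp : Fact p.Prime] [CharP K p] (hp2 : p ≠ 2)
    {V : Type*} [AddCommGroup V] [Module K V] [FiniteDimensional K V]
    {Γ : Type*} [Group Γ] [Finite Γ] {𝒜 : Type*} [Group 𝒜]
    (hΓ : (Nat.card Γ).Coprime p) (h𝒜 : IsPGroup p 𝒜)
    (ρ : Γ →* End K V) (R : 𝒜 →* End K V) (θ : 𝒜 →* MulAut Γ)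
    (hRρ : ∀ y g, R y * ρ g = ρ (θ y g) * R y)
    (C : Subgroup 𝒜) (b : 𝒜) (hbC : b ∈ ⁅C, C⁆) (hbz : ∀ y, y * b = b * y) (hbp : b ^ p = 1)
    (h1 : (R b - 1) ^ 2 = 0) (h2 : ∀ y ∈ C, (R b - 1) * (R y - 1) ^ 2 = 0)
    (hfix : ∀ d : Γ, θ b d = d → ∀ a, a * d = d * a)
    (hmoved : ∃ g, ρ (θ b g) ≠ ρ g) : False := by
  classical
  let _ : Fintype Γ := Fintype.ofFinite Γ
  have hpp : p.Prime := hp.out
  have hp3 : 3 ≤ p := by
    have := hpp.two_le
    omega
  obtain ⟨g₀, hg₀⟩ := hmoved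
  set ζ : MulAut Γ := θ b with hζ
  set X : End K V := R b with hX
  have hcardK : (Fintype.card Γ : K) ≠ 0 := by
    intro h
    rw [← Nat.card_eq_fintype_card] at h
    have h1 := (CharP.cast_eq_zero_iff K p _).mp h
    have := Nat.Coprime.eq_one_of_dvd hΓ.symm h1
    exact hpp.one_lt.ne' this
  have hXρ : ∀ g, X * ρ g = ρ (ζ g) * X := hRρ b
  have hζp : ζ ^ p = 1 := by rw [hζ, ← map_pow, hbp, map_one]
  have hXp : X ^ p = 1 := by rw [hX, ← map_pow, hbp, map_one]
  have hu2 : (X - 1) ^ 2 = 0 := h1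
  obtain ⟨W₀, hW₀inv, hW₀ne, hW₀min, h₀, w₀, hw₀mem, hh₀⟩ := exists_irr_moved ρ hcardK ζ g₀ hg₀
  let ρ₀ := HHChar.restrictRep ρ W₀ hW₀inv
  have hirr₀ : Irr ρ₀ := irr_restrict ρ W₀ hW₀inv hW₀min
  have hW₀nt : Nontrivial W₀ := Submodule.nontrivial_iff_ne_bot.mpr hW₀ne
  obtain ⟨a, ha, hTw, hnot⟩ := exists_min_twist hirr₀ ζ p 1 hpp (by rwa [pow_one])
  have ha0 : a = 0 := by
    by_contra ha0
    have ha1 : a = 1 := by omega
    subst ha1
    rw [pow_one] at hnot
    obtain ⟨v', hv'⟩ := exists_ne (0 : W₀)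
    have hs := sum_pow_ne_zero hXρ W₀ hW₀inv hirr₀ hcardK p hpp.pos
      (fun i hi hip hT => hnot i hi hip (by have := tw_inv hirr₀ hT; rwa [inv_inv] at this)) v' hv'
    apply hs
    have h3 : (∑ i ∈ Finset.range p, X ^ i) = 0 := by
      have := geom_sum_char_pow (K := K) p 1 X
      rw [pow_one] at this
      rw [this]
      exact pow_eq_zero_of_le (by omega) hu2
    have h4 := LinearMap.congr_fun h3 (v' : V)
    simpa [LinearMap.sum_apply] using h4
  subst ha0
  rw [pow_zero, pow_one] at hTw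
  obtain ⟨φ₀, hφ₀, hinj, hstable⟩ := exists_stable_copy ρ ρ₀ hirr₀ X ζ hXρ
    (tw_inv hirr₀ hTw) W₀.subtype (by
      intro h
      obtain ⟨v, hv⟩ := exists_ne (0 : W₀)
      apply hv
      have := LinearMap.congr_fun h v
      exact Subtype.ext (by simpa using this)) (fun g v => rfl)
  let W' : Submodule K V := LinearMap.range φ₀
  have hS : Inv ρ W' := by
    rintro g _ ⟨w, rfl⟩
    exact ⟨ρ₀ g w, hφ₀ g w⟩
  have hstable' : ∀ u ∈ W', X u ∈ W' := by
    rintro _ ⟨w, rfl⟩
    exact hstable w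
  let ρ' := HHChar.restrictRep ρ W' hS
  let e : W₀ ≃ₗ[K] W' := LinearEquiv.ofInjective φ₀ hinj
  have he : ∀ g v, e (ρ₀ g v) = ρ' g (e v) := by
    intro g v
    apply Subtype.ext
    exact hφ₀ g v
  have hirr' : Irr ρ' := irr_of_equiv e he hirr₀
  have hW'nt : Nontrivial W' := e.injective.nontrivial
  have hZ' : ∃ h, ρ' (ζ h) ≠ ρ' h := by
    refine ⟨h₀, ?_⟩
    intro hcon
    apply hh₀
    let w₀' : W₀ := ⟨w₀, hw₀mem⟩
    have h1 := LinearMap.congr_fun hcon (e w₀')
    rw [← he, ← he] at h1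
    have h2 := e.injective h1
    exact congrArg Subtype.val h2
  let X₁ : End K W' := X.restrict hstable'
  have hX₁pow : ∀ (k : ℕ) (v : W'), ((X₁ ^ k) v : V) = (X ^ k) (v : V) :=
    fun k v => HHChar.restrict_pow_coe X W' hstable' k v
  have hX₁ρ : ∀ g, X₁ * ρ' g = ρ' (ζ g) * X₁ := by
    intro g
    ext v
    exact LinearMap.congr_fun (hXρ g) (v : V)
  have hX₁p : X₁ ^ p = 1 := by
    ext v
    rw [hX₁pow, hXp]
    rfl
  let Y₁ : End K W' := X₁ ^ (p - 1)
  have hXY : X₁ * Y₁ = 1 := by rw [← pow_succ', Nat.sub_add_cancel (by omega), hX₁p]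
  have hYX : Y₁ * X₁ = 1 := by rw [← pow_succ, Nat.sub_add_cancel (by omega), hX₁p]
  have hσ' : ∀ g, X₁ * ρ' g * Y₁ = ρ' (ζ g) := by
    intro g
    rw [hX₁ρ, mul_assoc, hXY, mul_one]
  have hX1 : X₁ ≠ 1 := by
    intro h1
    obtain ⟨g, hg⟩ := hZ'
    apply hg
    have h3 := hX₁ρ g
    rw [h1] at h3
    simpa using h3.symm
  have hu₁2 : (X₁ - 1) ^ 2 = 0 := by
    ext v
    have h3 := restrict_pow_sub_one X W' hstable' 2 v
    rw [hu2] at h3
    simpa using h3
  have hfree : ∀ g, (¬ ∃ c : K, ρ' g = c • 1) → ∀ i, 0 < i → i < p ^ 1 → (ζ ^ i) g ≠ g := by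
    intro g hg i hi hip hfixi
    apply hg
    refine schur hirr' _ ?_
    intro a
    rw [pow_one] at hip
    have hper1 : Function.IsPeriodicPt (ζ : Γ → Γ) i g := by
      change (ζ : Γ → Γ)^[i] g = g
      rw [← HHB3.pow_apply_eq_iterate]
      exact hfixi
    have hper2 : Function.IsPeriodicPt (ζ : Γ → Γ) p g := by
      change (ζ : Γ → Γ)^[p] g = g
      rw [← HHB3.pow_apply_eq_iterate, hζp]
      rfl
    have hper3 := hper1.gcd hper2
    have hgcd : Nat.gcd i p = 1 := by
      have h3 : Nat.Coprime p i := (Nat.Prime.coprime_iff_not_dvd hpp).mpr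
        (fun h => absurd (Nat.le_of_dvd hi h) (by omega))
      exact h3.symm
    rw [hgcd] at hper3
    have hg' : ζ g = g := hper3
    rw [← map_mul, ← map_mul, hfix g hg' a]
  have hmins : ∀ k < 2, (X₁ - 1) ^ k ≠ 0 := by
    intro k hk
    interval_cases k
    · simp
    · rw [pow_one]
      exact sub_ne_zero.mpr hX1
  obtain ⟨hc1, hc2⟩ := core p hirr' hcardK hXY hYX 1 hσ' (by rwa [pow_one]) hfree hX1 2 hu₁2 hmins
  rw [pow_one] at hc1 hc2
  have hfr : finrank K W' = 2 := by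
    have := hc2 (by omega)
    omega
  have hpe : p = 3 := by omega
  set u : End K W' := X₁ - 1 with hu
  have hu0 : u ≠ 0 := sub_ne_zero.mpr hX1
  have huu : u * u = 0 := by
    rw [← pow_two]
    exact hu₁2
  by_cases hall : ∀ y ∈ C, Tw ρ' (θ y)
  · -- all twists of `C` fix the class of `W'`
    choose! c hc0 hc using hall
    have hbij : ∀ y ∈ C, Function.Bijective (c y) := fun y hy => tw_bij hirr' (hc0 y hy) (hc y hy)
    have hX₁bij : Function.Bijective X₁ := by
      refine ⟨?_, ?_⟩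
      · intro a a' haa
        have := congrArg Y₁ haa
        have h3 : ∀ x, Y₁ (X₁ x) = x := fun x => LinearMap.congr_fun hYX x
        rwa [h3, h3] at this
      · intro a
        exact ⟨Y₁ a, LinearMap.congr_fun hXY a⟩
    have hcu : ∀ y ∈ C, c y * u = u * c y := by
      intro y hy
      have hcomm : θ y * ζ = ζ * θ y := by
        rw [hζ, ← map_mul, ← map_mul, hbz y]
      have hD1 : ∀ g, (c y * X₁) * ρ' g = ρ' ((θ y * ζ) g) * (c y * X₁) := by
        intro g
        rw [mul_assoc, hX₁ρ, ← mul_assoc, hc y hy, mul_assoc, MulAut.mul_apply]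
      have hD2 : ∀ g, (X₁ * c y) * ρ' g = ρ' ((θ y * ζ) g) * (X₁ * c y) := by
        intro g
        rw [mul_assoc, hc y hy, ← mul_assoc, hX₁ρ, mul_assoc, hcomm, MulAut.mul_apply]
      have hD0 : X₁ * c y ≠ 0 := by
        intro h0
        obtain ⟨v, hv⟩ := exists_ne (0 : W')
        have h3 := LinearMap.congr_fun h0 v
        simp only [Module.End.mul_apply, LinearMap.zero_apply] at h3
        have h4 := hX₁bij.1 (h3.trans (map_zero X₁).symm)
        have h5 := (hbij y hy).1 (h4.trans (map_zero (c y)).symm)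
        exact hv h5
      obtain ⟨lam, hlam⟩ := tw_prop hirr' hD0 hD1 hD2
      have h3 := unip_comm hu0 huu (hbij y hy).2 lam hlam
      rw [hu, mul_sub, sub_mul, h3, mul_one, one_mul]
    have hcc : ∀ y ∈ C, ∀ z ∈ C, c y * c z = c z * c y := fun y hy z hz =>
      comm_of_comm_nilp hfr hu0 huu (hcu y hy) (hcu z hz)
    let T : Subgroup 𝒜 :=
      { carrier := {t | ∀ g, ρ' (θ t g) = ρ' g}
        one_mem' := by
          intro g
          simp
        mul_mem' := by
          intro s t hs ht g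
          rw [map_mul, MulAut.mul_apply, hs, ht]
        inv_mem' := by
          intro t ht g
          have h3 := ht ((θ t)⁻¹ g)
          rw [MulAut.apply_inv_self] at h3
          rw [map_inv]
          exact h3.symm }
    have hcomm : ⁅C, C⁆ ≤ T := by
      rw [Subgroup.commutator_le]
      intro y hy z hz g
      set g' := θ (z * y)⁻¹ g with hg'
      have h3 : θ ⁅y, z⁆ g = θ y (θ z g') := by
        rw [hg', ← MulAut.mul_apply, ← MulAut.mul_apply, ← map_mul, ← map_mul, commutatorElement_def]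
        congr 2
        group
      have h4 : θ z (θ y g') = g := by
        rw [hg', ← MulAut.mul_apply, ← MulAut.mul_apply, ← map_mul, ← map_mul]
        simp
      have h5 : c y * c z * ρ' g' = ρ' (θ y (θ z g')) * (c y * c z) := by
        rw [mul_assoc, hc z hz, ← mul_assoc, hc y hy, mul_assoc]
      have h6 : c z * c y * ρ' g' = ρ' (θ z (θ y g')) * (c z * c y) := by
        rw [mul_assoc, hc y hy, ← mul_assoc, hc z hz, mul_assoc]
      rw [← hcc y hy z hz, h5] at h6
      rw [h3, ← h4]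
      ext x
      obtain ⟨x', hx'⟩ := (hbij y hy).2 x
      obtain ⟨x'', hx''⟩ := (hbij z hz).2 x'
      have h7 := LinearMap.congr_fun h6 x''
      simp only [Module.End.mul_apply] at h7
      rw [hx'', hx'] at h7
      rw [h7]
    obtain ⟨h, hh⟩ := hZ'
    exact hh (hcomm hbC h)
  · push Not at hall
    obtain ⟨y, hy, hnT⟩ := hall
    set τ : MulAut Γ := θ y with hτ
    obtain ⟨k, hk⟩ := h𝒜 y
    have hτk : τ ^ (p ^ k) = 1 := by
      rw [hτ, ← map_pow, hk, map_one]
    have hnt : ∀ i, 0 < i → i < 3 → ¬ Tw ρ' ((τ ^ i)⁻¹) := by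
      intro i hi hi3 hT
      apply hnT
      have hT' := tw_inv hirr' hT
      rw [inv_inv] at hT'
      have hi' : i = 1 ∨ i = 2 := by omega
      rcases hi' with rfl | rfl
      · simpa using hT'
      · obtain ⟨m, hm⟩ : Odd (p ^ k) := by
          rw [hpe]
          exact Odd.pow (by decide)
        have h3 := tw_pow hirr' hT' (m + 1)
        have h4 : (τ ^ 2) ^ (m + 1) = τ := by
          rw [← pow_mul]
          have h5 : 2 * (m + 1) = p ^ k + 1 := by omega
          rw [h5, pow_succ, hτk, one_mul]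
        rwa [h4] at h3
    obtain ⟨w, hw⟩ : ∃ w, u w ≠ 0 := by
      by_contra hcon
      push Not at hcon
      exact hu0 (LinearMap.ext hcon)
    let κ : ℕ → K := fun i => match i with
      | 0 => 1
      | 1 => -2
      | _ => 1
    have hs := sum_coeff_ne_zero (hRρ y) W' hS hirr' hcardK 3 (by norm_num) hnt κ (by simp [κ]) (u w) hw
    apply hs
    have hcoe : ((u w : W') : V) = (X - 1) (w : V) := rfl
    have hXY' : (R y - 1) ^ 2 * (X - 1) = (X - 1) * (R y - 1) ^ 2 := by
      have h3 : Commute (R y) X := by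
        show R y * R b = R b * R y
        rw [← map_mul, ← map_mul, hbz y]
      exact (((h3.sub_left (Commute.one_left _)).sub_right (Commute.one_right _)).pow_left 2).eq
    have h4 := LinearMap.congr_fun (hXY'.trans (h2 y hy)) (w : V)
    rw [Finset.sum_range_succ, Finset.sum_range_succ, Finset.sum_range_one]
    simp only [κ, hcoe]
    simp only [Module.End.mul_apply, LinearMap.zero_apply] at h4
    rw [← h4]
    have h5 : (R y - 1) ^ 2 = R y ^ 2 - (2 : K) • R y + 1 := by
      rw [two_smul]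
      noncomm_ring
    rw [h5]
    simp only [LinearMap.add_apply, LinearMap.sub_apply, LinearMap.smul_apply, Module.End.one_apply, pow_zero, pow_one,
      one_smul, neg_smul]
    abel

end Kl

section KlGroup

variable {K : Type*} [Field K]

theorem kl_rep [IsAlgClosed K] (p : ℕ) [hp : Fact p.Prime] [CharP K p] (hp2 : p ≠ 2)
    {V : Type*} [AddCommGroup V] [Module K V] [FiniteDimensional K V]
    {H : Type*} [Group H] [Finite H] (hsol : IsPSolvable p H) (hOp : pCore p H = ⊥)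
    (ρ : H →* End K V) (hρ : Function.Injective ρ)
    (A C : Subgroup H) (hA : IsPGroup p A) (hCA : C ≤ A) {b : H} (hbA : b ∈ A)
    (hbc : ∀ a ∈ A, a * b = b * a) (hb1 : b ≠ 1) (hbp : b ^ p = 1) (hbC : b ∈ ⁅C, C⁆)
    (h1 : (ρ b - 1) ^ 2 = 0) (h2 : ∀ y ∈ C, (ρ b - 1) * (ρ y - 1) ^ 2 = 0) : False := by
  classical
  have hpp : p.Prime := hp.out
  set K₀ := pPrimeCore p H with hK₀def
  have hK₀n : K₀.Normal := by
    rw [hK₀def]
    infer_instance
  have hK₀norm : A ≤ Subgroup.normalizer (K₀ : Set H) := by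
    rw [Subgroup.normalizer_eq_top]
    exact le_top
  have hcopK : (Nat.card K₀).Coprime p := Cfsg.Agent.Lib.PCore.card_pPrimeCore_coprime p
  have hK₀ : ¬ K₀ ≤ Subgroup.centralizer {b} := by
    intro hle
    have hb : b ∈ Subgroup.centralizer (K₀ : Set H) := by
      rw [Subgroup.mem_centralizer_iff]
      intro g hg
      exact (Subgroup.mem_centralizer_singleton_iff.mp (hle hg))
    have hbK := Cfsg.Agent.Lib.QuadAbs.centralizer_pPrimeCore_le hsol hOp hb
    apply hb1
    have h3 : orderOf (⟨b, hbK⟩ : K₀) ∣ p := orderOf_dvd_of_pow_eq_one (Subtype.ext hbp)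
    have h4 : orderOf (⟨b, hbK⟩ : K₀) ∣ Nat.card K₀ := orderOf_dvd_natCard _
    have h5 := Nat.Coprime.eq_one_of_dvd (Nat.Coprime.coprime_dvd_left h4 hcopK) h3
    rw [orderOf_eq_one_iff] at h5
    exact congrArg Subtype.val h5
  obtain ⟨E, ⟨hEK, hAE, hnc⟩, hEmin⟩ := (wellFounded_lt (α := Subgroup H)).has_min
    {E | E ≤ K₀ ∧ A ≤ Subgroup.normalizer (E : Set H) ∧ ¬ E ≤ Subgroup.centralizer {b}}
    ⟨K₀, le_rfl, hK₀norm, hK₀⟩
  have hmin : ∀ E' ≤ E, A ≤ Subgroup.normalizer (E' : Set H) → E' ≠ E →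
      E' ≤ Subgroup.centralizer {b} := by
    intro E' hle hA' hne
    by_contra hcon
    exact hEmin E' ⟨hle.trans hEK, hA', hcon⟩ (lt_of_le_of_ne hle hne)
  have hcopE : (Nat.card E).Coprime p :=
    Nat.Coprime.coprime_dvd_left (Subgroup.card_dvd_of_le hEK) hcopK
  have hX : ¬ p ∣ Nat.card E := by
    intro hd
    have := Nat.eq_one_of_dvd_coprimes hcopE hd dvd_rfl
    exact hpp.one_lt.ne' this
  obtain ⟨q, hq, hEq⟩ := isPGroup_of_minE hA hX hAE hnc hmin
  have : Fact q.Prime := ⟨hq⟩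
  have hpq : p ≠ q := by
    rintro rfl
    apply hnc
    obtain ⟨e, he⟩ := IsPGroup.iff_card.mp hEq
    have he0 : e = 0 := by
      by_contra he0
      apply hX
      rw [he]
      exact dvd_pow_self p he0
    rw [he0, pow_zero] at he
    have hbot : E = ⊥ := Subgroup.card_eq_one.mp he
    rw [hbot]
    exact bot_le
  let θ : A →* MulAut E := E.normalizerMonoidHom.comp (Subgroup.inclusion hAE)
  have hθ : ∀ (y : A) (g : E), ((θ y g : E) : H) = y * g * (y : H)⁻¹ := fun y g => rfl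
  let bA : A := ⟨b, hbA⟩
  let C' : Subgroup A := C.subgroupOf A
  have hbC' : bA ∈ ⁅C', C'⁆ := by
    have h3 : (⁅C', C'⁆).map A.subtype = ⁅C, C⁆ := by
      rw [Subgroup.map_commutator, Subgroup.map_subgroupOf_eq_of_le hCA]
    rw [← h3] at hbC
    obtain ⟨x, hx, hxe⟩ := hbC
    have : x = bA := Subtype.ext hxe
    rwa [← this]
  refine kl_rep₀ p hp2 (Γ := E) (𝒜 := A) hcopE hA (ρ.comp E.subtype) (ρ.comp A.subtype) θ ?_ C' bA hbC'
    ?_ ?_ h1 ?_ ?_ ?_
  · intro y g
    show ρ y * ρ g = ρ ((θ y g : E) : H) * ρ y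
    rw [hθ, ← map_mul, ← map_mul]
    congr 1
    group
  · intro y
    exact Subtype.ext (hbc y y.2)
  · exact Subtype.ext hbp
  · intro y hy
    exact h2 y (Subgroup.mem_subgroupOf.mp hy)
  · intro d hd a
    have h3 : b * (d : H) * b⁻¹ = d := by
      have := congrArg Subtype.val hd
      rwa [hθ] at this
    have hdb : (d : H) * b = b * d := by
      calc (d : H) * b = (b * d * b⁻¹) * b := by rw [h3]
        _ = b * d := by group
    exact Subtype.ext (comm_of_min hpq hEq hAE hbA hbc hbp hnc hmin d.2 hdb a.2)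
  · obtain ⟨g, hgE, hg⟩ := SetLike.not_le_iff_exists.mp hnc
    refine ⟨⟨g, hgE⟩, ?_⟩
    intro he
    apply hg
    have h3 : b * g * b⁻¹ = g := hρ he
    rw [Subgroup.mem_centralizer_singleton_iff]
    calc g * b = (b * g * b⁻¹) * b := by rw [h3]
      _ = b * g := by group

open scoped TensorProduct in
theorem kl_field (p : ℕ) [hp : Fact p.Prime] [CharP K p] (hp2 : p ≠ 2)
    {V : Type*} [AddCommGroup V] [Module K V] [FiniteDimensional K V]
    {H : Type*} [Group H] [Finite H] (hsol : IsPSolvable p H) (hOp : pCore p H = ⊥)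
    (ρ : H →* End K V) (hρ : Function.Injective ρ)
    (A C : Subgroup H) (hA : IsPGroup p A) (hCA : C ≤ A) {b : H} (hbA : b ∈ A)
    (hbc : ∀ a ∈ A, a * b = b * a) (hb1 : b ≠ 1) (hbp : b ^ p = 1) (hbC : b ∈ ⁅C, C⁆)
    (h1 : (ρ b - 1) ^ 2 = 0) (h2 : ∀ y ∈ C, (ρ b - 1) * (ρ y - 1) ^ 2 = 0) : False := by
  let L := AlgebraicClosure K
  let φ : End K V →ₐ[K] End L (L ⊗[K] V) := Module.End.baseChangeHom K L V
  have hφinj : Function.Injective φ := LinearMap.baseChangeHom_injective K V L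
  let ρ' : H →* End L (L ⊗[K] V) := (φ : End K V →* End L (L ⊗[K] V)).comp ρ
  have hρ' : ∀ y, ρ' y = φ (ρ y) := fun y => rfl
  refine kl_rep (K := L) p hp2 hsol hOp ρ' (hφinj.comp hρ) A C hA hCA hbA hbc hb1 hbp hbC ?_ ?_
  · rw [hρ']
    have h3 : (φ (ρ b) - 1) ^ 2 = φ ((ρ b - 1) ^ 2) := by
      rw [map_pow, map_sub, map_one]
    rw [h3, h1, map_zero]
  · intro y hy
    rw [hρ', hρ']
    have h3 : (φ (ρ b) - 1) * (φ (ρ y) - 1) ^ 2 = φ ((ρ b - 1) * (ρ y - 1) ^ 2) := by
      rw [map_mul, map_pow, map_sub, map_sub, map_one]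
    rw [h3, h2 y hy, map_zero]

/-- Additive form. -/
theorem kl_add {N : Type*} [AddCommGroup N] {p : ℕ} [hp : Fact p.Prime] [Module (ZMod p) N] [Finite N]
    (hp2 : p ≠ 2)
    {H : Type*} [Group H] [Finite H] (hsol : IsPSolvable p H) (hOp : pCore p H = ⊥)
    (ψ : H →* AddMonoid.End N) (hψ : Function.Injective ψ)
    (A C : Subgroup H) (hA : IsPGroup p A) (hCA : C ≤ A) {b : H} (hbA : b ∈ A)
    (hbc : ∀ a ∈ A, a * b = b * a) (hb1 : b ≠ 1) (hbp : b ^ p = 1) (hbC : b ∈ ⁅C, C⁆)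
    (h1 : ∀ m, ψ b (ψ b m - m) - (ψ b m - m) = 0)
    (h2 : ∀ y ∈ C, ∀ m, ψ b (ψ y (ψ y m - m) - (ψ y m - m)) -
      (ψ y (ψ y m - m) - (ψ y m - m)) = 0) : False := by
  have : FiniteDimensional (ZMod p) N := Module.Finite.of_finite
  let toE : AddMonoid.End N →* End (ZMod p) N :=
    { toFun := fun a => AddMonoidHom.toZModLinearMap p (a : N →+ N)
      map_one' := by
        ext v
        rfl
      map_mul' := by
        intro a b
        ext v
        rfl }
  have htoE : ∀ (a : AddMonoid.End N) (v : N), toE a v = a v := fun _ _ => rfl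
  have hinj : Function.Injective toE := by
    intro a b hab
    ext v
    have h3 := LinearMap.congr_fun hab v
    simpa only [htoE] using h3
  have hsub : ∀ (y : H) (m : N), (toE (ψ y) - 1) m = ψ y m - m := by
    intro y m
    rw [LinearMap.sub_apply, htoE]
    rfl
  refine kl_field (K := ZMod p) p hp2 hsol hOp (toE.comp ψ) (hinj.comp hψ) A C hA hCA hbA hbc hb1 hbp hbC ?_ ?_
  · ext v
    show ((toE (ψ b) - 1) ^ 2 : End (ZMod p) N) v = 0
    rw [pow_two, Module.End.mul_apply, hsub, hsub, h1]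
  · intro y hy
    ext v
    show ((toE (ψ b) - 1) * (toE (ψ y) - 1) ^ 2 : End (ZMod p) N) v = 0
    rw [pow_two, Module.End.mul_apply, Module.End.mul_apply, hsub, hsub, hsub, h2 y hy]

/-- Multiplicative form. -/
theorem kl_mul {M : Type*} [hM : Group M] [Finite M] (hcomm : ∀ a b : M, a * b = b * a) {p : ℕ}
    [hp : Fact p.Prime] (hp2 : p ≠ 2) (hexp : ∀ a : M, a ^ p = 1)
    {H : Type*} [Group H] [Finite H] (hsol : IsPSolvable p H) (hOp : pCore p H = ⊥)
    (ψ : H →* MulAut M) (hψ : Function.Injective ψ)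
    (A C : Subgroup H) (hA : IsPGroup p A) (hCA : C ≤ A) {b : H} (hbA : b ∈ A)
    (hbc : ∀ a ∈ A, a * b = b * a) (hb1 : b ≠ 1) (hbp : b ^ p = 1) (hbC : b ∈ ⁅C, C⁆)
    (h1 : ∀ m, ψ b (ψ b m * m⁻¹) * (ψ b m * m⁻¹)⁻¹ = 1)
    (h2 : ∀ y ∈ C, ∀ m, ψ b (ψ y (ψ y m * m⁻¹) * (ψ y m * m⁻¹)⁻¹) *
      (ψ y (ψ y m * m⁻¹) * (ψ y m * m⁻¹)⁻¹)⁻¹ = 1) : False := by
  letI iM : CommGroup M := { hM with mul_comm := hcomm }
  have hexp' : ∀ x : Additive M, p • x = 0 := by
    intro x
    have h3 : p • x = Additive.ofMul ((Additive.toMul x) ^ p) := rfl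
    rw [h3, hexp]
    rfl
  letI iMod : Module (ZMod p) (Additive M) := AddCommGroup.zmodModule hexp'
  have hfin : Finite (Additive M) := inferInstanceAs (Finite M)
  let ψ' : H →* AddMonoid.End (Additive M) :=
    { toFun := fun y => MonoidHom.toAdditive ((ψ y : M ≃* M) : M →* M)
      map_one' := by
        ext v
        show Additive.ofMul (ψ 1 (Additive.toMul (Additive.ofMul v))) = Additive.ofMul v
        rw [map_one]
        rfl
      map_mul' := by
        intro a a'
        ext v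
        show Additive.ofMul (ψ (a * a') (Additive.toMul (Additive.ofMul v))) =
          Additive.ofMul (ψ a (ψ a' (Additive.toMul (Additive.ofMul v))))
        rw [map_mul]
        rfl }
  have hψ'app : ∀ (y : H) (m : M), ψ' y (Additive.ofMul m) = Additive.ofMul (ψ y m) := fun _ _ => rfl
  have hψ'inj : Function.Injective ψ' := by
    intro a a' haa
    apply hψ
    ext v
    have h3 : ψ' a (Additive.ofMul v) = ψ' a' (Additive.ofMul v) := by rw [haa]
    exact Additive.ofMul.injective h3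
  have hsub : ∀ (y : H) (m : M), ψ' y (Additive.ofMul m) - Additive.ofMul m = Additive.ofMul (ψ y m * m⁻¹) := by
    intro y m
    rw [sub_eq_add_neg]
    rfl
  refine @kl_add (Additive M) _ p hp iMod hfin hp2 H _ _ hsol hOp ψ' hψ'inj A C hA hCA b hbA hbc hb1 hbp hbC ?_ ?_
  · intro m
    have h3 := h1 (Additive.toMul m)
    show ψ' b (ψ' b (Additive.ofMul (Additive.toMul m)) - Additive.ofMul (Additive.toMul m)) -
      (ψ' b (Additive.ofMul (Additive.toMul m)) - Additive.ofMul (Additive.toMul m)) = 0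
    rw [hsub, hsub, h3]
    rfl
  · intro y hy m
    have h3 := h2 y hy (Additive.toMul m)
    show ψ' b (ψ' y (ψ' y (Additive.ofMul (Additive.toMul m)) - Additive.ofMul (Additive.toMul m)) -
      (ψ' y (Additive.ofMul (Additive.toMul m)) - Additive.ofMul (Additive.toMul m))) -
      (ψ' y (ψ' y (Additive.ofMul (Additive.toMul m)) - Additive.ofMul (Additive.toMul m)) -
      (ψ' y (Additive.ofMul (Additive.toMul m)) - Additive.ofMul (Additive.toMul m))) = 0
    rw [hsub, hsub, hsub, h3]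
    rfl

end KlGroup

end Cfsg.Agent.Lib.HHB4
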