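import Mathlib
import Cfsg.Agent.Lib.HHB3
import Cfsg.Agent.Lib.HHB4
import Cfsg.Agent.Lib.PCore
import Cfsg.Agent.Lib.QuadAbs
import Cfsg.Agent.Lib.Kegel

set_option autoImplicit false
set_option linter.unusedSectionVars false
set_option linter.unusedVariables false
set_option linter.style.haveILetI false

/-!
Hall--Higman Theorem B for a faithful representation of an abstract group, and its consequence for norms
on elementary abelian sections.
-/

namespace Cfsg.Agent.Lib.HHB5

open Module Cfsg Cfsg.Agent.Lib.HHCrit Cfsg.Agent.Lib.HHB2 Cfsg.Agent.Lib.HHB3 Cfsg.Agent.Lib.Kegel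
open scoped TensorProduct

theorem concl_of_rep {F : Type*} [Field F] {p : ℕ} [hp : Fact p.Prime] [CharP F p] {V : Type*}
    [AddCommGroup V] [Module F V] [FiniteDimensional F V] [Nontrivial V]
    {H : Type*} [Group H] [Finite H] (hsol : IsPSolvable p H) (hOp : pCore p H = ⊥)
    (ρ₀ : H →* End F V) (hρ₀ : Function.Injective ρ₀)
    (xh : H) (n : ℕ) (hxhN : xh ^ p ^ (n + 1) = 1) (hxhz : xh ^ p ^ n ≠ 1) :
    IdxGE (ρ₀ xh) (p ^ (n + 1)) ∨ ∃ n₀ q m : ℕ, 1 ≤ n₀ ∧ n₀ ≤ n + 1 ∧ q.Prime ∧ 1 ≤ m ∧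
      p ^ n₀ - 1 = q ^ m ∧ (∃ R : Subgroup H, IsPGroup q R ∧ ∃ a ∈ R, ∃ b ∈ R, a * b ≠ b * a) ∧
      IdxGE (ρ₀ xh) (p ^ (n + 1 - n₀) * (p ^ n₀ - 1)) := by
  classical
  have hpp : p.Prime := Fact.out
  let K := AlgebraicClosure F
  let φ : End F V →ₐ[F] End K (K ⊗[F] V) := Module.End.baseChangeHom F K V
  have hφinj : Function.Injective φ := LinearMap.baseChangeHom_injective F V K
  have : Nontrivial (K ⊗[F] V) := by
    obtain ⟨v, hv⟩ := exists_ne (0 : V)
    have h1 := Module.Flat.tensorProduct_mk_injective F V K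
    refine ⟨⟨(1 : K) ⊗ₜ[F] v, 0, ?_⟩⟩
    intro h
    exact hv (h1 (by simpa using h))
  let ρH : H →* End K (K ⊗[F] V) := (φ : End F V →* End K (K ⊗[F] V)).comp ρ₀
  have hρHinj : Function.Injective ρH := hφinj.comp hρ₀
  let Γ : Subgroup H := pPrimeCore p H
  let ρ : Γ →* End K (K ⊗[F] V) := ρH.comp Γ.subtype
  let X : End K (K ⊗[F] V) := ρH xh
  let σ : MulAut Γ := MulAut.conjNormal xh
  have hσpow : ∀ (i : ℕ) (g : Γ), (((σ ^ i) g : Γ) : H) = xh ^ i * g * (xh ^ i)⁻¹ := by
    intro i g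
    have : σ ^ i = MulAut.conjNormal (xh ^ i) := by simp [σ]
    rw [this, MulAut.conjNormal_apply]
  have hData : Data p n ρ X σ :=
    { hcop := Cfsg.Agent.Lib.PCore.card_pPrimeCore_coprime p
      hXN := by
        simp only [X]
        rw [← map_pow, hxhN, map_one]
      hσN := by
        have : σ ^ p ^ (n + 1) = MulAut.conjNormal (xh ^ p ^ (n + 1)) := by simp [σ]
        rw [this, hxhN, map_one]
      hXρ := by
        intro g
        simp only [X, ρ, MonoidHom.comp_apply, Subgroup.coe_subtype, σ, MulAut.conjNormal_apply]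
        rw [← map_mul, ← map_mul]
        congr 1
        group
      hZ := by
        by_contra hcon
        push Not at hcon
        have hz : xh ^ p ^ n ∈ Subgroup.centralizer (Γ : Set H) := by
          rw [Subgroup.mem_centralizer_iff]
          intro g hg
          have h1 : (((σ ^ p ^ n) ⟨g, hg⟩ : Γ) : H) = g := hρHinj (hcon ⟨g, hg⟩)
          rw [hσpow] at h1
          have h2 := eq_mul_inv_iff_mul_eq.mp h1.symm
          exact h2
        have hz' := Cfsg.Agent.Lib.QuadAbs.centralizer_pPrimeCore_le hsol hOp hz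
        have h1 : (xh ^ p ^ n) ^ p = 1 := by
          rw [← pow_mul, ← pow_succ, hxhN]
        have h2 : orderOf (⟨xh ^ p ^ n, hz'⟩ : Γ) ∣ Nat.card Γ := orderOf_dvd_natCard _
        have h3 : orderOf (⟨xh ^ p ^ n, hz'⟩ : Γ) ∣ p := by
          apply orderOf_dvd_of_pow_eq_one
          exact Subtype.ext h1
        have h4 : orderOf (⟨xh ^ p ^ n, hz'⟩ : Γ) = 1 := by
          apply Nat.Coprime.eq_one_of_dvd _ h3
          exact Nat.Coprime.coprime_dvd_left h2 (Cfsg.Agent.Lib.PCore.card_pPrimeCore_coprime p)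
        rw [orderOf_eq_one_iff] at h4
        exact hxhz (congrArg Subtype.val h4) }
  have hc := main (K := K) p n (K ⊗[F] V) Γ ρ X σ hData
  have hdown : ∀ b : ℕ, IdxGE X b → IdxGE (ρ₀ xh) b := by
    intro b hb s hs
    refine hb s ?_
    have h1 : X - 1 = φ (ρ₀ xh - 1) := by
      rw [map_sub, map_one]
      rfl
    rw [h1, ← map_pow, hs, map_zero]
  rcases hc with hc | ⟨n₀, q, m, h1, h2, h3, h4, h5, ⟨R, hR, a, ha, b, hb, hab⟩, h7⟩
  · left
    exact hdown _ hc
  · right
    refine ⟨n₀, q, m, h1, h2, h3, h4, h5, ⟨R.map Γ.subtype, hR.map _, a, ⟨a, ha, rfl⟩, b, ⟨b, hb, rfl⟩, ?_⟩, hdown _ h7⟩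
    intro he
    apply hab
    exact Subtype.ext he

/-- Norms over `F_p`. -/
theorem exists_norm_ne_zero_add {N : Type*} [AddCommGroup N] {p : ℕ} [hp : Fact p.Prime] [Module (ZMod p) N] [Finite N]
    (hp2 : p ≠ 2) (hnf : ¬ ∃ k : ℕ, p = 2 ^ k + 1)
    {H : Type*} [Group H] [Finite H] (hsol : IsPSolvable p H) (hOp : pCore p H = ⊥)
    (ψ : H →* AddMonoid.End N) (hψ : Function.Injective ψ) (x : H) (hx1 : x ≠ 1) (hxp : x ^ p = 1) :
    ∃ m, ∑ i ∈ Finset.range p, (ψ x ^ i) m ≠ 0 := by
  have hpp : p.Prime := hp.out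
  have hfd : FiniteDimensional (ZMod p) N := Module.Finite.of_finite
  let toE : AddMonoid.End N →* End (ZMod p) N :=
    { toFun := fun a => AddMonoidHom.toZModLinearMap p (a : N →+ N)
      map_one' := by
        ext v
        rfl
      map_mul' := by
        intro a b
        ext v
        rfl }
  have htoE : ∀ (a : AddMonoid.End N) (v : N), toE a v = a v := fun _ _ => rfl
  have hinj : Function.Injective toE := by
    intro a b hab
    ext v
    have h3 := LinearMap.congr_fun hab v
    simpa only [htoE] using h3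
  have hnt : Nontrivial N := by
    by_contra hcon
    rw [not_nontrivial_iff_subsingleton] at hcon
    apply hx1
    apply hψ
    rw [map_one]
    ext v
    exact Subsingleton.elim _ _
  have hc := concl_of_rep (F := ZMod p) hsol hOp (toE.comp ψ) (hinj.comp hψ) x 0
    (by simpa using hxp) (by simpa using hx1)
  have hidx : IdxGE ((toE.comp ψ) x) p := by
    rcases hc with hc | ⟨n₀, q, m, h1, h2, h3, h4, h5, -, -⟩
    · simpa using hc
    · exfalso
      have hn₀ : n₀ = 1 := by omega
      subst hn₀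
      rw [pow_one] at h5
      have hodd : Odd p := hpp.odd_of_ne_two hp2
      have hev : Even (p - 1) := by
        obtain ⟨r, hr⟩ := hodd
        exact ⟨r, by omega⟩
      rw [h5] at hev
      have hq2 : q = 2 := by
        have h6 : 2 ∣ q ^ m := hev.two_dvd
        have h7 := Nat.prime_two.dvd_of_dvd_pow h6
        exact ((Nat.prime_dvd_prime_iff_eq Nat.prime_two h3).mp h7).symm
      subst hq2
      apply hnf
      refine ⟨m, ?_⟩
      have := hpp.two_le
      omega
  have h1 : ((toE.comp ψ) x - 1) ^ (p - 1) ≠ 0 := by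
    intro h0
    have := hidx _ h0
    have := hpp.two_le
    omega
  have h2 := geom_sum_char_pow (K := ZMod p) p 1 ((toE.comp ψ) x)
  rw [pow_one] at h2
  rw [← h2] at h1
  obtain ⟨m, hm⟩ : ∃ m, (∑ i ∈ Finset.range p, ((toE.comp ψ) x) ^ i) m ≠ 0 := by
    by_contra hcon
    push Not at hcon
    exact h1 (LinearMap.ext hcon)
  refine ⟨m, ?_⟩
  intro h0
  apply hm
  rw [LinearMap.sum_apply, ← h0]
  refine Finset.sum_congr rfl fun i _ => ?_
  have h3 : ∀ i : ℕ, ((toE.comp ψ) x) ^ i = toE (ψ x ^ i) := by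
    intro i
    rw [MonoidHom.comp_apply, map_pow]
  rw [h3]
  rfl

/-- Norms in the multiplicative form. -/
theorem exists_norm_ne_one {M : Type*} [hM : Group M] [Finite M] (hcomm : ∀ a b : M, a * b = b * a) {p : ℕ}
    [hp : Fact p.Prime] (hp2 : p ≠ 2) (hnf : ¬ ∃ k : ℕ, p = 2 ^ k + 1) (hexp : ∀ a : M, a ^ p = 1)
    {H : Type*} [Group H] [Finite H] (hsol : IsPSolvable p H) (hOp : pCore p H = ⊥)
    (ψ : H →* MulAut M) (hψ : Function.Injective ψ) (x : H) (hx1 : x ≠ 1) (hxp : x ^ p = 1) :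
    ∃ m, nm (ψ x) p m ≠ 1 := by
  letI iM : CommGroup M := { hM with mul_comm := hcomm }
  have hexp' : ∀ x : Additive M, p • x = 0 := by
    intro x
    have h3 : p • x = Additive.ofMul ((Additive.toMul x) ^ p) := rfl
    rw [h3, hexp]
    rfl
  letI iMod : Module (ZMod p) (Additive M) := AddCommGroup.zmodModule hexp'
  have hfin : Finite (Additive M) := inferInstanceAs (Finite M)
  let ψ' : H →* AddMonoid.End (Additive M) :=
    { toFun := fun y => MonoidHom.toAdditive ((ψ y : M ≃* M) : M →* M)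
      map_one' := by
        ext v
        show Additive.ofMul (ψ 1 (Additive.toMul (Additive.ofMul v))) = Additive.ofMul v
        rw [map_one]
        rfl
      map_mul' := by
        intro a a'
        ext v
        show Additive.ofMul (ψ (a * a') (Additive.toMul (Additive.ofMul v))) =
          Additive.ofMul (ψ a (ψ a' (Additive.toMul (Additive.ofMul v))))
        rw [map_mul]
        rfl }
  have hψ'app : ∀ (y : H) (m : M), ψ' y (Additive.ofMul m) = Additive.ofMul (ψ y m) := fun _ _ => rfl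
  have hψ'inj : Function.Injective ψ' := by
    intro a a' haa
    apply hψ
    ext v
    have h3 : ψ' a (Additive.ofMul v) = ψ' a' (Additive.ofMul v) := by rw [haa]
    exact Additive.ofMul.injective h3
  have hpow : ∀ (i : ℕ) (v : M), (ψ' x ^ i) (Additive.ofMul v) = Additive.ofMul ((ψ x ^ i) v) := by
    intro i v
    rw [← map_pow, ← map_pow, hψ'app]
  have hsum : ∀ (n : ℕ) (v : M), ∑ i ∈ Finset.range n, (ψ' x ^ i) (Additive.ofMul v) = Additive.ofMul (nm (ψ x) n v) := by
    intro n v
    induction n with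
    | zero => simp [nm_zero]
    | succ n ih =>
      rw [Finset.sum_range_succ, ih, nm_succ, hpow, ofMul_mul]
  obtain ⟨m, hm⟩ := @exists_norm_ne_zero_add (Additive M) _ p hp iMod hfin hp2 hnf H _ _ hsol hOp ψ' hψ'inj x hx1 hxp
  refine ⟨Additive.toMul m, ?_⟩
  intro h0
  apply hm
  have h3 := hsum p (Additive.toMul m)
  rw [h0] at h3
  exact h3

end Cfsg.Agent.Lib.HHB5
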