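import Mathlib
import Cfsg.Agent.Lib.HHCrit
import Cfsg.Agent.Lib.HHE1
import Cfsg.Agent.Lib.Kegel

set_option autoImplicit false
set_option linter.unusedSectionVars false
set_option linter.unusedVariables false
set_option linter.style.haveILetI false

/-!
Counting for an irreducible representation of a group which is abelian modulo scalars:
`|Γ / scalars| ≤ s * #(orbits of a twist on Γ / scalars)` if the twist comes from an operator `c`
with `(c - 1) ^ s = 0`.
-/

namespace Cfsg.Agent.Lib.HHE2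

open Module Cfsg.Agent.Lib.HHCrit Cfsg.Agent.Lib.HHE1 Cfsg.Agent.Lib.Kegel

/-- Orbits of the cyclic group generated by an automorphism. -/
abbrev Orb {B : Type*} [Group B] (σ : MulAut B) := MulAction.orbitRel.Quotient (Subgroup.zpowers σ) B

variable {K : Type*} [Field K] {W : Type*} [AddCommGroup W] [Module K W] [FiniteDimensional K W] [Nontrivial W]
  {Γ : Type*} [Group Γ] [Fintype Γ]

theorem trace_eq_zero [IsAlgClosed K] {ρ₀ : Γ →* End K W} (hρ : Irr ρ₀)
    (hsc : ∀ g h : Γ, g * h * g⁻¹ * h⁻¹ ∈ scal ρ₀) {w : Γ} (hw : w ∉ scal ρ₀) :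
    LinearMap.trace K W (ρ₀ w) = 0 := by
  by_contra htr
  apply hw
  rw [mem_scal]
  apply schur hρ
  intro y
  obtain ⟨lam, hlam⟩ := hsc y w
  have h1 : ρ₀ (y * w * y⁻¹) = lam • ρ₀ w := by
    have e : y * w * y⁻¹ = (y * w * y⁻¹ * w⁻¹) * w := by group
    rw [e, map_mul, hlam, smul_mul_assoc, one_mul]
  have h2 : LinearMap.trace K W (ρ₀ (y * w * y⁻¹)) = LinearMap.trace K W (ρ₀ w) := by
    have e : ρ₀ (y * w * y⁻¹) = ρ₀ y * (ρ₀ w * ρ₀ y⁻¹) := by
      rw [map_mul ρ₀, map_mul ρ₀, mul_assoc]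
    rw [e, LinearMap.trace_mul_comm, mul_assoc, ← map_mul ρ₀ y⁻¹ y]
    simp
  rw [h1, map_smul, smul_eq_mul] at h2
  have h3 : lam = 1 := mul_right_cancel₀ htr (h2.trans (one_mul _).symm)
  rw [h3, one_smul] at h1
  have h4 : ρ₀ y * ρ₀ w = ρ₀ w * ρ₀ y := by
    rw [← map_mul, ← map_mul]
    have e : y * w = (y * w * y⁻¹) * y := by group
    rw [e, map_mul, h1, ← map_mul]
  exact h4.symm

theorem card_quot_le [IsAlgClosed K] {ρ₀ : Γ →* End K W} (hρ : Irr ρ₀) (hcard : (Fintype.card Γ : K) ≠ 0)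
    (hsc : ∀ g h : Γ, g * h * g⁻¹ * h⁻¹ ∈ scal ρ₀) :
    Nat.card (Γ ⧸ scal ρ₀) ≤ (finrank K W) ^ 2 := by
  classical
  let _ : Fintype (Γ ⧸ scal ρ₀) := Fintype.ofFinite _
  let l : (Γ ⧸ scal ρ₀) → Γ := Quotient.out
  have hl : ∀ b, ((l b : Γ) : Γ ⧸ scal ρ₀) = b := fun b => QuotientGroup.out_eq' b
  have hD := finrank_ne_zero_K hρ hcard
  have hli : LinearIndependent K (fun b => ρ₀ (l b)) := by
    rw [Fintype.linearIndependent_iff]
    intro α hα b₀
    have h1 := congrArg (fun m => LinearMap.trace K W (m * ρ₀ (l b₀)⁻¹)) hα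
    simp only [Finset.sum_mul, map_sum, smul_mul_assoc, map_smul, zero_mul, map_zero, smul_eq_mul] at h1
    rw [Finset.sum_eq_single b₀] at h1
    · rw [← map_mul, mul_inv_cancel, map_one, LinearMap.trace_one] at h1
      exact (mul_eq_zero.mp h1).resolve_right hD
    · intro b _ hb
      rw [← map_mul, trace_eq_zero hρ hsc, mul_zero]
      intro hin
      apply hb
      rw [← hl b, ← hl b₀]
      apply QuotientGroup.eq_iff_div_mem.mpr
      rwa [div_eq_mul_inv]
    · intro h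
      exact absurd (Finset.mem_univ b₀) h
  have h2 := hli.fintype_card_le_finrank
  have h3 : finrank K (End K W) = finrank K W * finrank K W := Module.finrank_linearMap K K W W
  rw [h3, ← pow_two] at h2
  rwa [Nat.card_eq_fintype_card]

theorem finrank_comm_le [IsAlgClosed K] {ρ₀ : Γ →* End K W} (hρ : Irr ρ₀) (hcard : (Fintype.card Γ : K) ≠ 0)
    {c c' : End K W} (hcc : c * c' = 1) (hcc' : c' * c = 1) {τ : MulAut Γ}
    (hc : ∀ g, c * ρ₀ g = ρ₀ (τ g) * c) (hτ : ∀ x ∈ scal ρ₀, τ x ∈ scal ρ₀) :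
    finrank K (comm c) ≤ Nat.card (Orb (quot τ (scal ρ₀) hτ)) := by
  classical
  set σ : MulAut (Γ ⧸ scal ρ₀) := quot τ (scal ρ₀) hτ with hσ
  let _ : Fintype (Orb σ) := Fintype.ofFinite _
  let l : (Γ ⧸ scal ρ₀) → Γ := Quotient.out
  have hl : ∀ b, ((l b : Γ) : Γ ⧸ scal ρ₀) = b := fun b => QuotientGroup.out_eq' b
  let Φ : comm c →ₗ[K] (Orb σ → K) :=
    { toFun := fun a o => LinearMap.trace K W ((a : End K W) * ρ₀ (l (Quotient.out o))⁻¹)
      map_add' := by
        intro a b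
        ext o
        simp [add_mul]
      map_smul' := by
        intro r a
        ext o
        simp }
  have hinj : Function.Injective Φ := by
    rw [injective_iff_map_eq_zero]
    rintro ⟨a, ha⟩ h0
    apply Subtype.ext
    show a = 0
    have hac : a * c = c * a := ha
    have hinv1 : ∀ g, LinearMap.trace K W (a * ρ₀ (τ g)⁻¹) = LinearMap.trace K W (a * ρ₀ g⁻¹) := by
      intro g
      have h1 : ρ₀ (τ g)⁻¹ = c * ρ₀ g⁻¹ * c' := by
        have h2 := hc g⁻¹
        rw [map_inv τ] at h2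
        calc ρ₀ (τ g)⁻¹ = ρ₀ (τ g)⁻¹ * (c * c') := by rw [hcc, mul_one]
          _ = (ρ₀ (τ g)⁻¹ * c) * c' := by rw [mul_assoc]
          _ = c * ρ₀ g⁻¹ * c' := by rw [h2]
      rw [h1]
      calc LinearMap.trace K W (a * (c * ρ₀ g⁻¹ * c')) = LinearMap.trace K W ((a * c) * (ρ₀ g⁻¹ * c')) := by
            simp only [mul_assoc]
        _ = LinearMap.trace K W ((c * a) * (ρ₀ g⁻¹ * c')) := by rw [hac]
        _ = LinearMap.trace K W (c' * (c * a * ρ₀ g⁻¹)) := by
            have e : (c * a) * (ρ₀ g⁻¹ * c') = (c * a * ρ₀ g⁻¹) * c' := by simp only [mul_assoc]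
            rw [e, LinearMap.trace_mul_comm]
        _ = LinearMap.trace K W (a * ρ₀ g⁻¹) := by
            congr 1
            rw [← mul_assoc, ← mul_assoc, hcc', one_mul]
    have hinv : ∀ (i : ℕ) g, LinearMap.trace K W (a * ρ₀ ((τ ^ i) g)⁻¹) = LinearMap.trace K W (a * ρ₀ g⁻¹) := by
      intro i g
      induction i with
      | zero => simp
      | succ i ih =>
        rw [pow_succ', MulAut.mul_apply, hinv1, ih]
    have hf : ∀ g, LinearMap.trace K W (a * ρ₀ g⁻¹) = 0 := by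
      intro g
      let o : Orb σ := Quotient.mk _ ((g : Γ) : Γ ⧸ scal ρ₀)
      have h1 : LinearMap.trace K W (a * ρ₀ (l (Quotient.out o))⁻¹) = 0 := congrFun h0 o
      have h2 : Quotient.out o ∈ MulAction.orbit (Subgroup.zpowers σ) ((g : Γ) : Γ ⧸ scal ρ₀) :=
        MulAction.orbitRel_apply.mp (Quotient.mk_out (s := MulAction.orbitRel (Subgroup.zpowers σ) _) ((g : Γ) : Γ ⧸ scal ρ₀))
      obtain ⟨s, hs⟩ := h2
      obtain ⟨i, hi⟩ : ∃ i : ℕ, σ ^ i = (s : MulAut (Γ ⧸ scal ρ₀)) := by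
        have := (mem_powers_iff_mem_zpowers).mpr s.2
        exact this
      have h3 : ((l (Quotient.out o) : Γ) : Γ ⧸ scal ρ₀) = (((τ ^ i) g : Γ) : Γ ⧸ scal ρ₀) := by
        rw [hl, ← hs]
        show (s : MulAut (Γ ⧸ scal ρ₀)) ((g : Γ) : Γ ⧸ scal ρ₀) = _
        rw [← hi, hσ, quot_pow_mk]
      have h4 : (l (Quotient.out o))⁻¹ * ((τ ^ i) g) ∈ scal ρ₀ := QuotientGroup.eq.mp h3
      obtain ⟨μ, hμ⟩ := h4
      have h5 : ρ₀ (l (Quotient.out o))⁻¹ = μ • ρ₀ ((τ ^ i) g)⁻¹ := by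
        have e : (l (Quotient.out o))⁻¹ = ((l (Quotient.out o))⁻¹ * ((τ ^ i) g)) * ((τ ^ i) g)⁻¹ := by group
        conv_lhs => rw [e]
        rw [map_mul, hμ, smul_mul_assoc, one_mul]
      have hμ0 : μ ≠ 0 := by
        rintro rfl
        have h6 := congrArg (fun m => m * ρ₀ ((l (Quotient.out o))⁻¹ * ((τ ^ i) g))⁻¹) hμ
        simp only [zero_smul, zero_mul] at h6
        rw [← map_mul, mul_inv_cancel, map_one] at h6
        exact one_ne_zero h6
      rw [h5, mul_smul_comm, map_smul, hinv, smul_eq_mul] at h1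
      exact (mul_eq_zero.mp h1).resolve_left hμ0
    have h1 := fourier hρ a
    simp only [hf, zero_smul, Finset.sum_const_zero, smul_zero] at h1
    exact (smul_eq_zero.mp h1).resolve_left hcard
  have h2 := LinearMap.finrank_le_finrank_of_injective hinj
  rw [Module.finrank_fintype_fun_eq_card] at h2
  rwa [Nat.card_eq_fintype_card]

theorem comm_sub_one (c : End K W) : comm (c - 1) = comm c := by
  ext a
  rw [mem_comm, mem_comm, mul_sub, sub_mul, mul_one, one_mul]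
  constructor
  · intro h
    exact sub_left_injective h
  · intro h
    rw [h]

/-- **The count.** -/
theorem card_quot_le_mul_orb [IsAlgClosed K] {ρ₀ : Γ →* End K W} (hρ : Irr ρ₀)
    (hcard : (Fintype.card Γ : K) ≠ 0) (hsc : ∀ g h : Γ, g * h * g⁻¹ * h⁻¹ ∈ scal ρ₀)
    {c c' : End K W} (hcc : c * c' = 1) (hcc' : c' * c = 1) {τ : MulAut Γ}
    (hc : ∀ g, c * ρ₀ g = ρ₀ (τ g) * c) (hτ : ∀ x ∈ scal ρ₀, τ x ∈ scal ρ₀) {s : ℕ} (hs : (c - 1) ^ s = 0) :
    Nat.card (Γ ⧸ scal ρ₀) ≤ s * Nat.card (Orb (quot τ (scal ρ₀) hτ)) := by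
  have h1 := card_quot_le hρ hcard hsc
  have h2 := sq_finrank_le s (c - 1) hs
  rw [comm_sub_one] at h2
  have h3 := finrank_comm_le hρ hcard hcc hcc' hc hτ
  calc Nat.card (Γ ⧸ scal ρ₀) ≤ (finrank K W) ^ 2 := h1
    _ ≤ s * finrank K (comm c) := h2
    _ ≤ _ := Nat.mul_le_mul_left _ h3

end Cfsg.Agent.Lib.HHE2
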