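import Mathlib
import Cfsg.Agent.Lib.HHE2

set_option autoImplicit false
set_option linter.unusedSectionVars false
set_option linter.unusedVariables false
set_option linter.style.haveILetI false

/-!
Burnside counting for a cyclic `p`-group of automorphisms, and the arithmetic of Fermat primes.
-/

namespace Cfsg.Agent.Lib.HHE3

open Cfsg.Agent.Lib.HHE2 Cfsg.Agent.Lib.Kegel

section General

variable {A : Type*} [Group A] [Finite A]

/-- Fixed points of an automorphism. -/
def fx {A : Type*} [Group A] (σ : MulAut A) : Subgroup A where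
  carrier := {b | σ b = b}
  one_mem' := map_one σ
  mul_mem' := by
    intro a b ha hb
    simp only [Set.mem_ofPred_eq] at *
    rw [map_mul, ha, hb]
  inv_mem' := by
    intro a ha
    simp only [Set.mem_ofPred_eq] at *
    rw [map_inv, ha]

theorem mem_fx {A : Type*} [Group A] {σ : MulAut A} {b : A} : b ∈ fx σ ↔ σ b = b := Iff.rfl

theorem burnside_nat (σ : MulAut A) :
    ∑ i ∈ Finset.range (orderOf σ), Nat.card (fx (σ ^ i)) = Nat.card (Orb σ) * orderOf σ := by
  classical
  let _ : Fintype (Subgroup.zpowers σ) := Fintype.ofFinite _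
  let _ : ∀ g : Subgroup.zpowers σ, Fintype (MulAction.fixedBy A g) := fun g => Fintype.ofFinite _
  let _ : Fintype (Orb σ) := Fintype.ofFinite _
  have h1 := MulAction.sum_card_fixedBy_eq_card_orbits_mul_card_group (Subgroup.zpowers σ) A
  have hfin : IsOfFinOrder σ := isOfFinOrder_of_finite σ
  have h2 : Fintype.card (Subgroup.zpowers σ) = orderOf σ := by
    rw [← Nat.card_eq_fintype_card, Nat.card_zpowers]
  rw [h2] at h1
  rw [Nat.card_eq_fintype_card, ← h1, Finset.sum_range]
  refine ((finEquivZPowers hfin).sum_comp (fun g => Fintype.card (MulAction.fixedBy A g))).symm ▸ ?_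
  refine Finset.sum_congr rfl fun i _ => ?_
  rw [← Nat.card_eq_fintype_card]
  refine Nat.card_congr (Equiv.subtypeEquivRight ?_)
  intro b
  rw [finEquivZPowers_apply]
  rfl

theorem fx_pow_le_of_gcd (σ : MulAut A) {i d m : ℕ} (hd : d = Nat.gcd i (orderOf σ)) (hdm : d ∣ m) :
    fx (σ ^ i) ≤ fx (σ ^ m) := by
  intro b hb
  have hit : ∀ k : ℕ, (σ ^ k) b = (σ : A → A)^[k] b := by
    intro k
    induction k with
    | zero => rfl
    | succ k ih =>
      rw [pow_succ', MulAut.mul_apply, ih, Function.iterate_succ_apply']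
  have hper1 : Function.IsPeriodicPt (σ : A → A) i b := by
    change (σ : A → A)^[i] b = b
    rw [← hit]
    exact hb
  have hper2 : Function.IsPeriodicPt (σ : A → A) (orderOf σ) b := by
    change (σ : A → A)^[orderOf σ] b = b
    rw [← hit, pow_orderOf_eq_one]
    rfl
  have hper3 := hper1.gcd hper2
  rw [← hd] at hper3
  obtain ⟨k, rfl⟩ := hdm
  have hper4 := hper3.const_mul k
  show (σ ^ (d * k)) b = b
  rw [hit]
  have : k * d = d * k := Nat.mul_comm _ _
  rw [this] at hper4
  exact hper4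

theorem sum_blocks (p : ℕ) (hp : 0 < p) (f f₀ : ℕ) (m : ℕ) :
    ∑ i ∈ Finset.range (p * m), (if p ∣ i then f else f₀) = m * f + m * (p - 1) * f₀ := by
  obtain ⟨p', rfl⟩ : ∃ p', p = p' + 1 := ⟨p - 1, by omega⟩
  induction m with
  | zero => simp
  | succ m ih =>
    rw [Nat.mul_succ, Finset.sum_range_add, ih, Finset.sum_range_succ']
    have h1 : ∀ x ∈ Finset.range p', (if (p' + 1) ∣ (p' + 1) * m + (x + 1) then f else f₀) = f₀ := by
      intro x hx
      have hx' := Finset.mem_range.mp hx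
      rw [if_neg]
      intro hd
      have h2 : (p' + 1) ∣ x + 1 := (Nat.dvd_add_right (dvd_mul_right _ _)).mp hd
      have := Nat.le_of_dvd (by omega) h2
      omega
    rw [Finset.sum_congr rfl h1, Finset.sum_const, Finset.card_range, smul_eq_mul]
    simp only [add_zero, dvd_mul_right, if_true, Nat.add_sub_cancel]
    ring

/-- The refined Burnside bound. -/
theorem burnside_bound {p n : ℕ} (hp : p.Prime) (σ : MulAut A) (hσ : orderOf σ = p ^ (n + 1)) :
    p ^ (n + 1) * Nat.card (Orb σ) + Nat.card (fx (σ ^ p ^ n)) ≤ Nat.card A + p ^ n * Nat.card (fx (σ ^ p ^ n)) +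
      p ^ n * (p - 1) * Nat.card (fx σ) := by
  classical
  set f := Nat.card (fx (σ ^ p ^ n)) with hf
  set f₀ := Nat.card (fx σ) with hf₀
  have h1 := burnside_nat σ
  rw [hσ] at h1
  have hcard : ∀ {X Y : Subgroup A}, X ≤ Y → Nat.card X ≤ Nat.card Y := by
    intro X Y hXY
    exact Subgroup.card_le_of_le hXY
  have h2 : ∑ i ∈ Finset.range (p ^ (n + 1)), Nat.card (fx (σ ^ i)) + f ≤
      Nat.card A + ∑ i ∈ Finset.range (p ^ (n + 1)), (if p ∣ i then f else f₀) := by
    have hq : p ^ (n + 1) = (p ^ (n + 1) - 1) + 1 := by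
      have := Nat.pos_of_ne_zero (pow_ne_zero (n + 1) hp.ne_zero)
      omega
    have hQ : ∀ x ∈ Finset.range (p ^ (n + 1) - 1),
        Nat.card (fx (σ ^ (x + 1))) ≤ (if p ∣ x + 1 then f else f₀) := by
      intro x hx
      have hx' := Finset.mem_range.mp hx
      have hlt : x + 1 < p ^ (n + 1) := by omega
      split_ifs with hd
      · refine hcard (fx_pow_le_of_gcd σ rfl ?_)
        rw [hσ]
        have h3 : Nat.gcd (x + 1) (p ^ (n + 1)) ∣ p ^ (n + 1) := Nat.gcd_dvd_right _ _
        obtain ⟨v, hv, hve⟩ := (Nat.dvd_prime_pow hp).mp h3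
        have hv2 : v ≠ n + 1 := by
          rintro rfl
          have h4 : p ^ (n + 1) ∣ x + 1 := by
            rw [← hve]
            exact Nat.gcd_dvd_left _ _
          have := Nat.le_of_dvd (by omega) h4
          omega
        rw [hve]
        exact pow_dvd_pow p (by omega)
      · have hd1 : Nat.gcd (x + 1) (orderOf σ) ∣ 1 := by
          rw [hσ]
          have h3 : Nat.Coprime (x + 1) (p ^ (n + 1)) := by
            apply Nat.Coprime.pow_right
            exact ((Nat.Prime.coprime_iff_not_dvd hp).mpr hd).symm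
          rw [h3]
        have := fx_pow_le_of_gcd σ (i := x + 1) (m := 1) rfl hd1
        rw [pow_one] at this
        exact hcard this
    rw [hq, Finset.sum_range_succ', Finset.sum_range_succ' (fun i => if p ∣ i then f else f₀)]
    have h5 : ∑ x ∈ Finset.range (p ^ (n + 1) - 1), Nat.card (fx (σ ^ (x + 1))) ≤
        ∑ x ∈ Finset.range (p ^ (n + 1) - 1), (if p ∣ x + 1 then f else f₀) := Finset.sum_le_sum hQ
    have h6 : Nat.card (fx (σ ^ 0)) ≤ Nat.card A := Subgroup.card_le_card_group _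
    simp only [dvd_zero, if_true]
    omega
  have h3 : ∑ i ∈ Finset.range (p ^ (n + 1)), (if p ∣ i then f else f₀) = p ^ n * f + p ^ n * (p - 1) * f₀ := by
    have := sum_blocks p hp.pos f f₀ (p ^ n)
    rwa [← pow_succ'] at this
  rw [h1, h3] at h2
  rw [mul_comm (p ^ (n + 1))]
  omega

/-- Free action on a group: congruence modulo the order. -/
theorem dvd_card_sub_one {p n : ℕ} (hp : p.Prime) (σ : MulAut A) (hσ : σ ^ p ^ (n + 1) = 1)
    (hfree : ∀ b, (σ ^ p ^ n) b = b → b = 1) (hnt : Nontrivial A) : p ^ (n + 1) ∣ Nat.card A - 1 := by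
  classical
  have hz : σ ^ p ^ n ≠ 1 := by
    intro h
    obtain ⟨b, hb⟩ := exists_ne (1 : A)
    exact hb (hfree b (by rw [h]; rfl))
  have hfact : Fact p.Prime := ⟨hp⟩
  have hord : orderOf σ = p ^ (n + 1) := orderOf_eq_prime_pow hz hσ
  have h1 := burnside_nat σ
  rw [hord] at h1
  have hq : p ^ (n + 1) = (p ^ (n + 1) - 1) + 1 := by
    have := Nat.pos_of_ne_zero (pow_ne_zero (n + 1) hp.ne_zero)
    omega
  have h2 : ∀ x ∈ Finset.range (p ^ (n + 1) - 1), Nat.card (fx (σ ^ (x + 1))) = 1 := by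
    intro x hx
    have hx' := Finset.mem_range.mp hx
    have hlt : x + 1 < p ^ (n + 1) := by omega
    have h3 : fx (σ ^ (x + 1)) ≤ fx (σ ^ p ^ n) := by
      refine fx_pow_le_of_gcd σ rfl ?_
      rw [hord]
      have h3 : Nat.gcd (x + 1) (p ^ (n + 1)) ∣ p ^ (n + 1) := Nat.gcd_dvd_right _ _
      obtain ⟨v, hv, hve⟩ := (Nat.dvd_prime_pow hp).mp h3
      have hv2 : v ≠ n + 1 := by
        rintro rfl
        have h4 : p ^ (n + 1) ∣ x + 1 := by
          rw [← hve]
          exact Nat.gcd_dvd_left _ _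
        have := Nat.le_of_dvd (by omega) h4
        omega
      rw [hve]
      exact pow_dvd_pow p (by omega)
    have h4 : fx (σ ^ (x + 1)) = ⊥ := by
      rw [eq_bot_iff]
      intro b hb
      exact hfree b (h3 hb)
    rw [h4]
    simp
  have h5 : Nat.card (fx (σ ^ 0)) = Nat.card A := by
    have : fx (σ ^ 0) = ⊤ := by
      rw [eq_top_iff]
      intro b _
      show (σ ^ 0) b = b
      simp
    rw [this]
    exact Nat.card_congr Subgroup.topEquiv.toEquiv
  have h6 : ∑ i ∈ Finset.range (p ^ (n + 1)), Nat.card (fx (σ ^ i)) = (p ^ (n + 1) - 1) + Nat.card A := by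
    conv_lhs => rw [hq]
    rw [Finset.sum_range_succ', Finset.sum_congr rfl h2, h5]
    simp
  rw [h6] at h1
  have hpos : 1 ≤ Nat.card A := Nat.card_pos
  refine ⟨Nat.card (Orb σ) - 1, ?_⟩
  have h7 : 1 ≤ Nat.card (Orb σ) := by
    by_contra hcon
    have h8 : Nat.card (Orb σ) = 0 := by omega
    rw [h8, zero_mul] at h1
    have : 0 < p ^ (n + 1) := Nat.pos_of_ne_zero (pow_ne_zero (n + 1) hp.ne_zero)
    omega
  obtain ⟨o, ho⟩ : ∃ o, Nat.card (Orb σ) = o + 1 := ⟨Nat.card (Orb σ) - 1, by omega⟩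
  rw [ho] at h1 ⊢
  simp only [Nat.add_sub_cancel]
  have h9 : (o + 1) * p ^ (n + 1) = o * p ^ (n + 1) + p ^ (n + 1) := by ring
  rw [h9] at h1
  rw [mul_comm]
  omega

end General

section Arith

/-- The arithmetic. -/
theorem arith_fermat {N n t : ℕ} (hp : (2 ^ N + 1).Prime) (hN : 1 ≤ N) (ht : 1 ≤ t)
    (hdvd : (2 ^ N + 1) ^ (n + 1) ∣ 2 ^ t - 1)
    (hle : 2 ^ t ≤ ((2 ^ N + 1) ^ (n + 1) - 1) ^ 2) : 2 ^ t = ((2 ^ N + 1) ^ (n + 1) - 1) ^ 2 := by
  set p := 2 ^ N + 1 with hpdef
  set q := p ^ (n + 1) with hq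
  have hfact : Fact p.Prime := ⟨hp⟩
  have hp3 : 3 ≤ p := by
    have : 2 ≤ 2 ^ N := by
      calc 2 = 2 ^ 1 := rfl
        _ ≤ 2 ^ N := Nat.pow_le_pow_right (by norm_num) hN
    omega
  have hpdvd : p ∣ 2 ^ t - 1 := (dvd_pow_self p (by omega)).trans hdvd
  -- `t` is even
  have h1 : (2 : ZMod p) ^ N = -1 := by
    have h2 : ((2 ^ N + 1 : ℕ) : ZMod p) = 0 := by
      rw [← hpdef]
      exact ZMod.natCast_self p
    push_cast at h2
    exact eq_neg_of_add_eq_zero_left h2
  have h3 : (2 : ZMod p) ^ t = 1 := by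
    have h4 : ((2 ^ t - 1 : ℕ) : ZMod p) = 0 := (ZMod.natCast_eq_zero_iff _ _).mpr hpdvd
    have h5 : 1 ≤ 2 ^ t := Nat.one_le_two_pow
    rw [Nat.cast_sub h5] at h4
    push_cast at h4
    exact sub_eq_zero.mp h4
  have hteven : Even t := by
    by_contra hodd
    rw [Nat.not_even_iff_odd] at hodd
    have h4 : ((2 : ZMod p) ^ N) ^ t = ((2 : ZMod p) ^ t) ^ N := by
      rw [← pow_mul, ← pow_mul, mul_comm]
    rw [h1, h3, one_pow, hodd.neg_one_pow] at h4
    have h5 : (2 : ZMod p) = 0 := by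
      have h6 : (1 : ZMod p) + 1 = 0 := by
        nth_rw 1 [← h4]
        ring
      rw [← h6]
      norm_num
    have h7 : ((2 : ℕ) : ZMod p) = 0 := by
      push_cast
      exact h5
    rw [ZMod.natCast_eq_zero_iff] at h7
    have := Nat.le_of_dvd (by norm_num) h7
    omega
  obtain ⟨b, rfl⟩ := hteven
  have hb : 1 ≤ b := by omega
  have hq2 : 0 < q := Nat.pos_of_ne_zero (pow_ne_zero _ hp.ne_zero)
  set y := 2 ^ b with hy
  have hy2 : 2 ≤ y := by
    calc 2 = 2 ^ 1 := rfl
      _ ≤ 2 ^ b := Nat.pow_le_pow_right (by norm_num) hb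
  have hsq : 2 ^ (b + b) = y ^ 2 := by
    rw [hy, ← pow_mul, mul_two]
  have hfac : 2 ^ (b + b) - 1 = (y - 1) * (y + 1) := by
    rw [hsq]
    obtain ⟨y', hy'⟩ : ∃ y', y = y' + 1 := ⟨y - 1, by omega⟩
    rw [hy']
    simp only [Nat.add_sub_cancel]
    have : (y' + 1) ^ 2 = y' * (y' + 1 + 1) + 1 := by ring
    rw [this]
    simp
  rw [hsq] at hle ⊢
  rw [hfac] at hdvd
  have hle2 : y ≤ q - 1 := by
    exact (Nat.pow_le_pow_iff_left (by norm_num)).mp hle
  have hyev : Even y := by
    rw [hy]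
    exact (Nat.even_pow.mpr ⟨even_two, by omega⟩)
  have hodd1 : Odd (y - 1) := by
    obtain ⟨r, hr⟩ := hyev
    exact ⟨r - 1, by omega⟩
  have hcop : Nat.Coprime (y - 1) (y + 1) := by
    have e : y + 1 = (y - 1) + 2 := by omega
    rw [e, Nat.coprime_self_add_right]
    exact (Nat.coprime_two_left.mpr hodd1).symm
  have hpd : p ∣ (y - 1) * (y + 1) := (dvd_pow_self p (by omega)).trans hdvd
  rcases (Nat.Prime.dvd_mul hp).mp hpd with h4 | h4
  · exfalso
    have h5 : Nat.Coprime p (y + 1) := by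
      exact Nat.Coprime.coprime_dvd_left h4 hcop
    have h6 : Nat.Coprime q (y + 1) := Nat.Coprime.pow_left _ h5
    have h7 : q ∣ y - 1 := h6.dvd_of_dvd_mul_right hdvd
    have h8 := Nat.le_of_dvd (by omega) h7
    omega
  · have h5 : Nat.Coprime p (y - 1) := by
      exact Nat.Coprime.coprime_dvd_left h4 hcop.symm
    have h6 : Nat.Coprime q (y - 1) := Nat.Coprime.pow_left _ h5
    have h7 : q ∣ y + 1 := h6.dvd_of_dvd_mul_left hdvd
    have h8 := Nat.le_of_dvd (by omega) h7
    have h9 : q - 1 = y := by omega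
    rw [h9]

end Arith

end Cfsg.Agent.Lib.HHE3
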