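import Mathlib
import Cfsg.Agent.Lib.HHE3
import Cfsg.Agent.Lib.CoprimeInv

set_option autoImplicit false
set_option linter.unusedSectionVars false
set_option linter.unusedVariables false
set_option linter.style.haveILetI false

/-!
Automorphisms of odd prime power order of elementary abelian `2`-groups.
-/

namespace Cfsg.Agent.Lib.HHE4

open Cfsg.Agent.Lib.HHE2 Cfsg.Agent.Lib.HHE3 Cfsg.Agent.Lib.Kegel

section Norm

variable {B : Type*} [CommGroup B]

/-- The norm map of an automorphism. -/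
def nrm (z : MulAut B) (n : ℕ) (b : B) : B := ∏ i ∈ Finset.range n, (z ^ i) b

theorem nrm_mul (z : MulAut B) (n : ℕ) (a b : B) : nrm z n (a * b) = nrm z n a * nrm z n b := by
  simp [nrm, Finset.prod_mul_distrib]

theorem nrm_one (z : MulAut B) (n : ℕ) : nrm z n (1 : B) = 1 := by
  simp [nrm]

theorem nrm_inv (z : MulAut B) (n : ℕ) (a : B) : nrm z n a⁻¹ = (nrm z n a)⁻¹ := by
  simp [nrm, Finset.prod_inv_distrib]

/-- The kernel of the norm. -/
def wk (p : ℕ) (z : MulAut B) : Subgroup B where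
  carrier := {b | nrm z p b = 1}
  one_mem' := nrm_one z p
  mul_mem' := by
    intro a b ha hb
    simp only [Set.mem_ofPred_eq] at *
    rw [nrm_mul, ha, hb, one_mul]
  inv_mem' := by
    intro a ha
    simp only [Set.mem_ofPred_eq] at *
    rw [nrm_inv, ha, inv_one]

theorem mem_wk {p : ℕ} {z : MulAut B} {b : B} : b ∈ wk p z ↔ nrm z p b = 1 := Iff.rfl

theorem map_nrm_of_comm {z s : MulAut B} (hc : s * z = z * s) (n : ℕ) (b : B) :
    s (nrm z n b) = nrm z n (s b) := by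
  simp only [nrm, map_prod]
  refine Finset.prod_congr rfl fun i _ => ?_
  have h1 : Commute s (z ^ i) := (show Commute s z from hc).pow_right i
  have h2 := DFunLike.congr_fun h1.eq b
  simpa only [MulAut.mul_apply] using h2

theorem nrm_conj (s z : MulAut B) (n : ℕ) (b : B) : nrm (s * z * s⁻¹) n (s b) = s (nrm z n b) := by
  simp only [nrm, map_prod]
  refine Finset.prod_congr rfl fun i _ => ?_
  have h1 : (s * z * s⁻¹) ^ i = s * z ^ i * s⁻¹ := by
    simp [conj_pow]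
  rw [h1]
  simp

theorem z_nrm {z : MulAut B} {p : ℕ} (hz : z ^ p = 1) (b : B) : z (nrm z p b) = nrm z p b := by
  have h1 : nrm z (p + 1) b = nrm z p b * (z ^ p) b := Finset.prod_range_succ _ _
  have h2 : nrm z (p + 1) b = z (nrm z p b) * b := by
    simp only [nrm]
    rw [Finset.prod_range_succ', map_prod]
    simp [pow_succ']
  rw [h1, hz] at h2
  exact (mul_right_cancel h2).symm

variable (h2 : ∀ b : B, b * b = 1) {p : ℕ} (hodd : Odd p)

include h2 hodd in
theorem pow_odd (c : B) : c ^ p = c := by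
  obtain ⟨r, rfl⟩ := hodd
  rw [pow_succ, pow_mul, pow_two, h2, one_pow, one_mul]

include h2 hodd in
theorem nrm_of_fixed {z : MulAut B} {c : B} (hc : z c = c) : nrm z p c = c := by
  have h3 : ∀ i, (z ^ i) c = c := by
    intro i
    induction i with
    | zero => rfl
    | succ i ih =>
      rw [pow_succ', MulAut.mul_apply, ih, hc]
  simp only [nrm, h3, Finset.prod_const, Finset.card_range]
  exact pow_odd h2 hodd c

include h2 hodd in
theorem mul_nrm_mem {z : MulAut B} (hz : z ^ p = 1) (b : B) : b * nrm z p b ∈ wk p z := by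
  rw [mem_wk, nrm_mul, nrm_of_fixed h2 hodd (z_nrm hz b), h2]

include h2 hodd in
theorem eq_one_of_mem_of_fixed {z : MulAut B} {c : B} (hc : c ∈ wk p z) (hf : z c = c) : c = 1 := by
  have h3 := nrm_of_fixed h2 hodd hf
  rw [← h3]
  exact hc

include h2 in
theorem eq_mul_decomp (b a : B) : b = (b * a) * a := by
  rw [mul_assoc, h2, mul_one]

include h2 hodd in
theorem card_wk_mul_fx [Finite B] {z : MulAut B} (hz : z ^ p = 1) :
    Nat.card (wk p z) * Nat.card (fx z) = Nat.card B := by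
  rw [← Nat.card_prod]
  refine Nat.card_congr (Equiv.ofBijective (fun x => (x.1 : B) * (x.2 : B)) ⟨?_, ?_⟩)
  · rintro ⟨⟨a, ha⟩, ⟨c, hc⟩⟩ ⟨⟨a', ha'⟩, ⟨c', hc'⟩⟩ h
    simp only at h
    have h3 : a * a'⁻¹ = c' * c⁻¹ := by
      rw [← div_eq_mul_inv, ← div_eq_mul_inv, div_eq_div_iff_mul_eq_mul, h, mul_comm]
    have h4 : a * a'⁻¹ ∈ wk p z := mul_mem ha (inv_mem ha')
    have h5 : a * a'⁻¹ ∈ fx z := by
      rw [h3]
      exact mul_mem hc' (inv_mem hc)
    have h6 := eq_one_of_mem_of_fixed h2 hodd h4 h5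
    have h7 : a = a' := mul_inv_eq_one.mp h6
    subst h7
    have h8 : c = c' := mul_left_cancel h
    subst h8
    rfl
  · intro b
    refine ⟨(⟨b * nrm z p b, mul_nrm_mem h2 hodd hz b⟩, ⟨nrm z p b, z_nrm hz b⟩), ?_⟩
    exact (eq_mul_decomp h2 b _).symm

include h2 hodd in
theorem comm_mem_wk {z : MulAut B} (hz : z ^ p = 1) (b : B) : z b * b⁻¹ ∈ wk p z := by
  rw [mem_wk, nrm_mul, nrm_inv, ← map_nrm_of_comm rfl, z_nrm hz, mul_inv_cancel]

theorem map_mem_wk {z x : MulAut B} (hx : x * z = z * x) {b : B} (hb : b ∈ wk p z) : x b ∈ wk p z := by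
  rw [mem_wk, ← map_nrm_of_comm hx, hb, map_one]

theorem map_mem_fx {z x : MulAut B} (hx : x * z = z * x) {b : B} (hb : z b = b) : z (x b) = x b := by
  have h3 := DFunLike.congr_fun hx b
  simp only [MulAut.mul_apply] at h3
  rw [← h3, hb]

include h2 hodd in
theorem triv_comm_mem_wk {z x : MulAut B} (hz : z ^ p = 1) (hx : x * z = z * x) (htriv : ∀ c, z c = c → x c = c)
    (b : B) : x b * b⁻¹ ∈ wk p z := by
  have hw := mul_nrm_mem h2 hodd hz b
  have hc := htriv _ (z_nrm hz b)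
  have e : x b * b⁻¹ = x (b * nrm z p b) * (b * nrm z p b)⁻¹ := by
    rw [map_mul, hc, mul_inv, mul_mul_mul_comm, mul_inv_cancel, mul_one]
  rw [e]
  exact mul_mem (map_mem_wk hx hw) (inv_mem hw)

theorem mem_wk_conj (s z : MulAut B) {b : B} (hb : b ∈ wk p z) : s b ∈ wk p (s * z * s⁻¹) := by
  rw [mem_wk, nrm_conj, hb, map_one]

theorem wk_conj (s z : MulAut B) : wk p (s * z * s⁻¹) = (wk p z).map (s : B →* B) := by
  ext b
  constructor
  · intro hb
    refine ⟨s⁻¹ b, ?_, by simp⟩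
    have h3 := nrm_conj s z p (s⁻¹ b)
    rw [MulAut.apply_inv_self] at h3
    have h4 : s (nrm z p (s⁻¹ b)) = 1 := by
      rw [← h3]
      exact hb
    exact (map_eq_one_iff s s.injective).mp h4
  · rintro ⟨a, ha, rfl⟩
    exact mem_wk_conj s z ha

theorem card_wk_conj [Finite B] (s z : MulAut B) : Nat.card (wk p (s * z * s⁻¹)) = Nat.card (wk p z) := by
  rw [wk_conj]
  exact Subgroup.card_map_of_injective s.injective

include h2 hodd in
/-- If `u` is trivial on `W(z)` then `z` is trivial on `W(u)`. -/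
theorem fix_of_trivial {z u : MulAut B} (hz : z ^ p = 1) (hu : u ^ p = 1) (hc : u * z = z * u)
    (htriv : ∀ y ∈ wk p z, u y = y) {w : B} (hw : w ∈ wk p u) : z w = w := by
  have h3 := mul_nrm_mem h2 hodd hz w
  have h4 : z (nrm z p w) = nrm z p w := z_nrm hz w
  have h5 : nrm u p (w * nrm z p w) = w * nrm z p w := nrm_of_fixed h2 hodd (htriv _ h3)
  have h6 : nrm u p (w * nrm z p w) = nrm u p (nrm z p w) := by
    rw [nrm_mul, hw, one_mul]
  have h7 : z (nrm u p (nrm z p w)) = nrm u p (nrm z p w) := by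
    rw [map_nrm_of_comm hc.symm, h4]
  have h8 : w * nrm z p w = 1 := by
    refine eq_one_of_mem_of_fixed h2 hodd h3 ?_
    have h10 : w * nrm z p w = nrm u p (nrm z p w) := h5.symm.trans h6
    rw [h10]
    exact h7
  have h9 : w = nrm z p w := by
    have := eq_mul_decomp h2 w (nrm z p w)
    rw [h8, one_mul] at this
    exact this
  rw [h9]
  exact h4

end Norm

section Irr

variable {B : Type*} [CommGroup B] (h2 : ∀ b : B, b * b = 1) {p : ℕ} (hodd : Odd p)

include h2 hodd in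
theorem prod_norm_identity {z u : MulAut B} (hc : u * z = z * u) (w : B) :
    ∏ j ∈ Finset.range p, nrm (z * u ^ j) p w = ∏ i ∈ Finset.range p, (z ^ i) (nrm (u ^ i) p w) := by
  simp only [nrm, map_prod]
  rw [Finset.prod_comm]
  refine Finset.prod_congr rfl fun i _ => ?_
  refine Finset.prod_congr rfl fun j _ => ?_
  have h3 : Commute z (u ^ j) := ((show Commute u z from hc).pow_left j).symm
  rw [h3.mul_pow, MulAut.mul_apply, ← pow_mul, ← pow_mul, mul_comm j i]

include h2 hodd in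
theorem some_trivial {Y : Subgroup B} {z u x : MulAut B} (hzu : u * z = z * u) (hxz : x * z = z * x)
    (hxu : x * u = u * x) (hz : z ^ p = 1) (hu : u ^ p = 1) (hYz : ∀ y ∈ Y, z y ∈ Y) (hYu : ∀ y ∈ Y, u y ∈ Y)
    (hYx : ∀ y ∈ Y, x y ∈ Y) (hirr : ∀ Y' ≤ Y, (∀ y ∈ Y', x y ∈ Y') → Y' = ⊥ ∨ Y' = Y) (hY : Y ≠ ⊥) :
    (∃ i, 0 < i ∧ i < p ∧ ∀ y ∈ Y, (u ^ i) y = y) ∨ (∃ j, j < p ∧ ∀ y ∈ Y, (z * u ^ j) y = y) := by
  classical
  by_contra hcon
  push Not at hcon
  obtain ⟨h3, h4⟩ := hcon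
  -- a general fact for an operator commuting with `x`
  have key : ∀ e : MulAut B, e ^ p = 1 → x * e = e * x → (∀ y ∈ Y, e y ∈ Y) → (∃ y ∈ Y, e y ≠ y) →
      ∀ w ∈ Y, nrm e p w = 1 := by
    intro e he hxe hYe hne w hw
    have h5 := hirr (Y ⊓ fx e) inf_le_left (by
      rintro y ⟨hy1, hy2⟩
      exact ⟨hYx y hy1, map_mem_fx hxe hy2⟩)
    have h6 : nrm e p w ∈ Y := by
      simp only [nrm]
      refine Subgroup.prod_mem _ fun i _ => ?_
      have hpw : ∀ i : ℕ, (e ^ i) w ∈ Y := by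
        intro i
        induction i with
        | zero => exact hw
        | succ i ih =>
          rw [pow_succ', MulAut.mul_apply]
          exact hYe _ ih
      exact hpw i
    rcases h5 with h5 | h5
    · have h7 : nrm e p w ∈ Y ⊓ fx e := ⟨h6, z_nrm he w⟩
      rw [h5] at h7
      exact h7
    · exfalso
      obtain ⟨y, hy, hye⟩ := hne
      rw [← h5] at hy
      exact hye hy.2
  have hw1 : ∀ w ∈ Y, w = 1 := by
    intro w hw
    have h5 := prod_norm_identity h2 hodd hzu w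
    have h6 : ∏ j ∈ Finset.range p, nrm (z * u ^ j) p w = 1 := by
      refine Finset.prod_eq_one fun j hj => ?_
      have hj' := Finset.mem_range.mp hj
      refine key (z * u ^ j) ?_ ?_ ?_ ?_ w hw
      · have h7 : Commute z (u ^ j) := ((show Commute u z from hzu).pow_left j).symm
        rw [h7.mul_pow, hz, one_mul, ← pow_mul, mul_comm, pow_mul, hu, one_pow]
      · have h7 : Commute x z := hxz
        have h8 : Commute x (u ^ j) := (show Commute x u from hxu).pow_right j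
        exact h7.mul_right h8
      · intro y hy
        rw [MulAut.mul_apply]
        apply hYz
        have hpw : ∀ i : ℕ, (u ^ i) y ∈ Y := by
          intro i
          induction i with
          | zero => exact hy
          | succ i ih =>
            rw [pow_succ', MulAut.mul_apply]
            exact hYu _ ih
        exact hpw j
      · obtain ⟨y, hy, hye⟩ := h4 j hj'
        exact ⟨y, hy, hye⟩
    rw [h6] at h5
    obtain ⟨p', hp'⟩ : ∃ p', p = p' + 1 := by
      obtain ⟨r, hr⟩ := hodd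
      exact ⟨2 * r, hr⟩
    have h7 : ∏ i ∈ Finset.range p, (z ^ i) (nrm (u ^ i) p w) = w := by
      conv_lhs => rw [hp', Finset.prod_range_succ']
      have h8 : ∏ k ∈ Finset.range p', (z ^ (k + 1)) (nrm (u ^ (k + 1)) (p' + 1) w) = 1 := by
        refine Finset.prod_eq_one fun k hk => ?_
        have hk' := Finset.mem_range.mp hk
        have h9 := key (u ^ (k + 1)) (by rw [← pow_mul, mul_comm, pow_mul, hu, one_pow])
          ((show Commute x u from hxu).pow_right (k + 1)) (by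
            intro y hy
            have hpw : ∀ i : ℕ, (u ^ i) y ∈ Y := by
              intro i
              induction i with
              | zero => exact hy
              | succ i ih =>
                rw [pow_succ', MulAut.mul_apply]
                exact hYu _ ih
            exact hpw _) (by
            obtain ⟨y, hy, hye⟩ := h3 (k + 1) (by omega) (by omega)
            exact ⟨y, hy, hye⟩) w hw
        rw [hp'] at h9
        rw [h9, map_one]
      rw [h8, one_mul]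
      simp only [pow_zero, MulAut.one_apply]
      have h9 := nrm_of_fixed h2 hodd (z := (1 : MulAut B)) (c := w) rfl
      rw [hp'] at h9
      exact h9
    rw [h7] at h5
    exact h5.symm
  apply hY
  rw [eq_bot_iff]
  intro w hw
  exact hw1 w hw

include h2 hodd in
theorem dichotomy [hpf : Fact p.Prime] {Y : Subgroup B} {z u x : MulAut B} (hzu : u * z = z * u) (hxz : x * z = z * x)
    (hxu : x * u = u * x) (hz : z ^ p = 1) (hu : u ^ p = 1) (hYz : ∀ y ∈ Y, z y ∈ Y) (hYu : ∀ y ∈ Y, u y ∈ Y)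
    (hYx : ∀ y ∈ Y, x y ∈ Y) (hirr : ∀ Y' ≤ Y, (∀ y ∈ Y', x y ∈ Y') → Y' = ⊥ ∨ Y' = Y) (hY : Y ≠ ⊥)
    (hfpf : ∀ y ∈ Y, z y = y → y = 1) :
    (∀ y ∈ Y, u y = y) ∨ ∃ i, ¬ p ∣ i ∧ ∀ y ∈ Y, u y = (z ^ i) y := by
  have hpp : p.Prime := hpf.out
  have hinvk : ∀ j, 0 < j → j < p → ∃ k, j * k % p = 1 := by
    intro j hj hjp
    have hcop : Nat.Coprime j p := by
      exact ((Nat.Prime.coprime_iff_not_dvd hpp).mpr (fun h => absurd (Nat.le_of_dvd hj h) (by omega))).symm
    obtain ⟨k, -, hk⟩ := Nat.exists_mul_mod_eq_one_of_coprime hcop hpp.one_lt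
    exact ⟨k, hk⟩
  have hpowu : ∀ j k : ℕ, j * k % p = 1 → (u ^ j) ^ k = u := by
    intro j k hjk
    rw [← pow_mul, pow_eq_pow_mod (j * k) hu, hjk, pow_one]
  rcases some_trivial h2 hodd hzu hxz hxu hz hu hYz hYu hYx hirr hY with ⟨i, hi0, hip, hi⟩ | ⟨j, hjp, hj⟩
  · left
    obtain ⟨k, hk⟩ := hinvk i hi0 hip
    intro y hy
    have h3 : ∀ m : ℕ, ((u ^ i) ^ m) y = y := by
      intro m
      induction m with
      | zero => rfl
      | succ m ih =>
        rw [pow_succ', MulAut.mul_apply, ih, hi y hy]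
    have h4 := h3 k
    rwa [hpowu i k hk] at h4
  · right
    rcases Nat.eq_zero_or_pos j with rfl | hj0
    · exfalso
      apply hY
      rw [eq_bot_iff]
      intro y hy
      have h3 := hj y hy
      simp only [pow_zero, mul_one] at h3
      exact hfpf y hy h3
    · obtain ⟨k, hk⟩ := hinvk j hj0 hjp
      refine ⟨(p - 1) * k, ?_, ?_⟩
      · intro hd
        rcases (Nat.Prime.dvd_mul hpp).mp hd with h3 | h3
        · have := Nat.le_of_dvd (by have := hpp.two_le; omega) h3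
          have := hpp.two_le
          omega
        · have h4 : p ∣ j * k := dvd_mul_of_dvd_right h3 j
          rw [Nat.mod_eq_zero_of_dvd h4] at hk
          omega
      · intro y hy
        have hzi : (z ^ (p - 1)) * z = 1 := by
          rw [← pow_succ, Nat.sub_add_cancel hpp.one_lt.le, hz]
        have hYzp : ∀ (i : ℕ), ∀ y ∈ Y, (z ^ i) y ∈ Y := by
          intro i
          induction i with
          | zero => intro y hy; exact hy
          | succ i ih =>
            intro y hy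
            rw [pow_succ', MulAut.mul_apply]
            exact hYz _ (ih y hy)
        have h3 : ∀ y ∈ Y, (u ^ j) y = (z ^ (p - 1)) y := by
          intro y hy
          have h4 := hj y hy
          rw [MulAut.mul_apply] at h4
          have h5 := congrArg (z ^ (p - 1)) h4
          rw [← MulAut.mul_apply, hzi] at h5
          simpa using h5
        have h4 : ∀ (m : ℕ), ((u ^ j) ^ m) y = ((z ^ (p - 1)) ^ m) y := by
          intro m
          induction m with
          | zero => rfl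
          | succ m ih =>
            rw [pow_succ', MulAut.mul_apply, ih, h3 _ (by
              rw [← pow_mul]
              exact hYzp _ y hy), pow_succ', MulAut.mul_apply]
        have h5 := h4 k
        rwa [hpowu j k hk, ← pow_mul] at h5

end Irr

section Conj

theorem comm_of_conj_pow {G : Type*} [Group G] {z t : G} {p i a : ℕ} [hp : Fact p.Prime] (hz : z ^ p = 1)
    (ht : t ^ (p ^ a) = 1) (h : t * z * t⁻¹ = z ^ i) : t * z = z * t := by
  have h1 : ∀ m : ℕ, t ^ m * z * (t ^ m)⁻¹ = z ^ (i ^ m) := by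
    intro m
    induction m with
    | zero => simp
    | succ m ih =>
      have e : t ^ (m + 1) * z * (t ^ (m + 1))⁻¹ = t * (t ^ m * z * (t ^ m)⁻¹) * t⁻¹ := by
        rw [pow_succ']
        group
      rw [e, ih, ← conj_pow, h, ← pow_mul, pow_succ']
  have h2 := h1 (p ^ a)
  rw [ht, one_mul, inv_one, mul_one] at h2
  have h3 : (i ^ (p ^ a)) % p = i % p := by
    have h4 : (((i ^ (p ^ a) : ℕ) : ZMod p)) = ((i : ℕ) : ZMod p) := by
      push_cast
      exact ZMod.pow_card_pow _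
    exact (ZMod.natCast_eq_natCast_iff' _ _ _).mp h4
  have h5 : z ^ i = z := by
    rw [pow_eq_pow_mod i hz, ← h3, ← pow_eq_pow_mod _ hz]
    exact h2.symm
  rw [h5] at h
  calc t * z = t * z * t⁻¹ * t := by group
    _ = z * t := by rw [h]

end Conj

section Central

variable {B : Type*} [CommGroup B] (h2 : ∀ b : B, b * b = 1) {p : ℕ} (hodd : Odd p)

include h2 hodd in
theorem eq_pow_of_action [Finite B] [hpf : Fact p.Prime] {z v : MulAut B} (hz : z ^ p = 1) (hvp : v ^ p = 1)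
    (hv : v * z = z * v)
    (hcard : Nat.card (wk p v) = Nat.card (wk p z)) {i : ℕ} (hi : ¬ p ∣ i) (hY : ∀ y ∈ wk p z, v y = (z ^ i) y) :
    v = z ^ i := by
  have hpp : p.Prime := hpf.out
  have hzi : (z ^ i) ^ p = 1 := by
    rw [← pow_mul, mul_comm, pow_mul, hz, one_pow]
  have hcomm : (z ^ i) * z = z * (z ^ i) := ((Commute.refl z).pow_left i).eq
  obtain ⟨k, hk⟩ : ∃ k, i * k % p = 1 := by
    have hcop : Nat.Coprime i p := ((Nat.Prime.coprime_iff_not_dvd hpp).mpr hi).symm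
    obtain ⟨k, -, hk⟩ := Nat.exists_mul_mod_eq_one_of_coprime hcop hpp.one_lt
    exact ⟨k, hk⟩
  have hle : wk p z ≤ wk p v := by
    intro y hy
    have h3 : ∀ j : ℕ, (v ^ j) y = ((z ^ i) ^ j) y := by
      intro j
      have h4 : ∀ j : ℕ, ((z ^ i) ^ j) y ∈ wk p z := by
        intro j
        induction j with
        | zero => exact hy
        | succ j ih =>
          rw [pow_succ', MulAut.mul_apply]
          exact map_mem_wk hcomm ih
      induction j with
      | zero => rfl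
      | succ j ih =>
        rw [pow_succ', MulAut.mul_apply, ih, hY _ (h4 j), pow_succ' (z ^ i), MulAut.mul_apply]
    have h4 : nrm v p y = nrm (z ^ i) p y := by
      simp only [nrm, h3]
    rw [mem_wk, h4]
    have h5 : nrm (z ^ i) p y ∈ wk p z := by
      simp only [nrm]
      refine Subgroup.prod_mem _ fun j _ => ?_
      have h6 : ∀ j : ℕ, ((z ^ i) ^ j) y ∈ wk p z := by
        intro j
        induction j with
        | zero => exact hy
        | succ j ih =>
          rw [pow_succ', MulAut.mul_apply]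
          exact map_mem_wk hcomm ih
      exact h6 j
    refine eq_one_of_mem_of_fixed h2 hodd h5 ?_
    have h6 := z_nrm hzi y
    have h7 : ∀ m : ℕ, ((z ^ i) ^ m) (nrm (z ^ i) p y) = nrm (z ^ i) p y := by
      intro m
      induction m with
      | zero => rfl
      | succ m ih =>
        rw [pow_succ', MulAut.mul_apply, ih, h6]
    have h8 := h7 k
    rwa [← pow_mul, pow_eq_pow_mod (i * k) hz, hk, pow_one] at h8
  have heq : wk p z = wk p v := Subgroup.eq_of_le_of_card_ge hle hcard.le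
  have hfix : ∀ c, z c = c → v c = c := by
    intro c hc
    have h3 : v c * c⁻¹ ∈ wk p z := by
      rw [heq]
      exact comm_mem_wk h2 hodd hvp c
    have h4 : z (v c * c⁻¹) = v c * c⁻¹ := by
      rw [map_mul, map_inv, hc, map_mem_fx hv hc]
    have h5 := eq_one_of_mem_of_fixed h2 hodd h3 h4
    exact mul_inv_eq_one.mp h5
  ext b
  have h3 : b = (b * nrm z p b) * nrm z p b := eq_mul_decomp h2 b _
  have h4 := mul_nrm_mem h2 hodd hz b
  have h5 := z_nrm hz b
  have h6 : ∀ m : ℕ, (z ^ m) (nrm z p b) = nrm z p b := by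
    intro m
    induction m with
    | zero => rfl
    | succ m ih =>
      rw [pow_succ', MulAut.mul_apply, ih, h5]
  have e1 : v b = v (b * nrm z p b) * v (nrm z p b) := by rw [← map_mul, ← h3]
  have e2 : (z ^ i) b = (z ^ i) (b * nrm z p b) * (z ^ i) (nrm z p b) := by rw [← map_mul, ← h3]
  rw [e1, e2, hfix _ h5, h6, hY _ h4]

include h2 hodd in
/-- **The local commuting lemma.** -/
theorem central_of_small [Finite B] [hpf : Fact p.Prime] (S : Subgroup (MulAut B)) (hS : IsPGroup p S)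
    {x z : MulAut B} (hxS : x ∈ S) (hzS : z ∈ S) (hxz : x * z = z * x) (hz : z ^ p = 1) (hz1 : z ≠ 1)
    (hirr : ∀ Y ≤ wk p z, (∀ y ∈ Y, x y ∈ Y) → Y = ⊥ ∨ Y = wk p z)
    (hsmall : Nat.card B < (Nat.card (wk p z)) ^ 3) : ∀ s ∈ S, s * z = z * s := by
  classical
  have hpp : p.Prime := hpf.out
  by_contra hcon
  push Not at hcon
  obtain ⟨s₀, hs₀, hs₀z⟩ := hcon
  let L : Subgroup (MulAut B) := S ⊓ Subgroup.centralizer {z}
  have hLmem : ∀ l, l ∈ L ↔ l ∈ S ∧ l * z = z * l := by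
    intro l
    show l ∈ S ⊓ Subgroup.centralizer {z} ↔ _
    rw [Subgroup.mem_inf, Subgroup.mem_centralizer_singleton_iff]
  have hlt : L < S := by
    refine lt_of_le_of_ne inf_le_left ?_
    intro h
    rw [← h] at hs₀
    exact hs₀z ((hLmem s₀).mp hs₀).2
  obtain ⟨t, htS, htL, htN⟩ := Cfsg.Agent.Lib.CoprimeInv.exists_mem_normalizer_of_lt hS hlt
  have htz : t * z ≠ z * t := fun h => htL ((hLmem t).mpr ⟨htS, h⟩)
  -- conjugates
  have hTL : ∀ T ∈ Subgroup.normalizer (L : Set (MulAut B)), ∀ l ∈ L, l * (T * z * T⁻¹) = (T * z * T⁻¹) * l := by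
    intro T hT l hl
    have h3 : T⁻¹ * l * T ∈ L := by
      rw [Subgroup.mem_normalizer_iff] at hT
      rw [hT]
      convert hl using 1
      group
    have h4 := ((hLmem _).mp h3).2
    calc l * (T * z * T⁻¹) = T * ((T⁻¹ * l * T) * z) * T⁻¹ := by group
      _ = T * (z * (T⁻¹ * l * T)) * T⁻¹ := by rw [h4]
      _ = (T * z * T⁻¹) * l := by group
  have hzL : z ∈ L := (hLmem z).mpr ⟨hzS, rfl⟩
  have hxL : x ∈ L := (hLmem x).mpr ⟨hxS, hxz⟩
  set Y := wk p z with hYdef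
  have hYz : ∀ y ∈ Y, z y ∈ Y := fun y hy => map_mem_wk rfl hy
  have hYx : ∀ y ∈ Y, x y ∈ Y := fun y hy => map_mem_wk hxz hy
  have hfpf : ∀ y ∈ Y, z y = y → y = 1 := fun y hy hf => eq_one_of_mem_of_fixed h2 hodd hy hf
  have hYne : Y ≠ ⊥ := by
    intro hY
    apply hz1
    ext b
    have h3 := mul_nrm_mem h2 hodd hz b
    rw [← hYdef, hY] at h3
    have h4 : b * nrm z p b = 1 := h3
    have h5 := eq_mul_decomp h2 b (nrm z p b)
    rw [h4, one_mul] at h5
    rw [h5, z_nrm hz b]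
    rfl
  -- triviality of conjugates
  have hodd' : ∀ a : ℕ, Odd (p ^ a) := fun a => hodd.pow
  have hcase : ∀ T ∈ S, T ∈ Subgroup.normalizer (L : Set (MulAut B)) → T * z ≠ z * T →
      ∀ y ∈ Y, (T * z * T⁻¹) y = y := by
    intro T hTS hTN hTz
    set v := T * z * T⁻¹ with hv
    have hvz : v * z = z * v := (hTL T hTN z hzL).symm
    have hvx : x * v = v * x := (hTL T hTN x hxL)
    have hvp : v ^ p = 1 := by
      rw [hv, conj_pow, hz]
      simp
    rcases dichotomy h2 hodd hvz hxz hvx hz hvp hYz (fun y hy => map_mem_wk hvz hy) hYx hirr hYne hfpf with h3 | ⟨i, hi, h3⟩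
    · exact h3
    · exfalso
      have h4 : v = z ^ i := eq_pow_of_action h2 hodd hz hvp hvz (card_wk_conj T z) hi h3
      obtain ⟨a, ha⟩ := hS ⟨T, hTS⟩
      have ha' : T ^ (p ^ a) = 1 := congrArg Subtype.val ha
      exact hTz (comm_of_conj_pow hz ha' h4)
  have htN' : t ^ 2 ∈ Subgroup.normalizer (L : Set (MulAut B)) := pow_mem htN 2
  have ht2S : t ^ 2 ∈ S := pow_mem htS 2
  have ht2z : t ^ 2 * z ≠ z * t ^ 2 := by
    intro h
    apply htz
    obtain ⟨a, ha⟩ := hS ⟨t, htS⟩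
    have ha' : t ^ (p ^ a) = 1 := congrArg Subtype.val ha
    obtain ⟨r, hr⟩ := hodd' a
    have h3 : t = (t ^ 2) ^ (r + 1) := by
      rw [← pow_mul]
      have e : 2 * (r + 1) = p ^ a + 1 := by omega
      rw [e, pow_succ, ha', one_mul]
    rw [h3]
    have h4 : Commute (t ^ 2) z := h
    exact (h4.pow_left (r + 1)).eq
  set u := t * z * t⁻¹ with hu
  set u₂ := t ^ 2 * z * (t ^ 2)⁻¹ with hu₂
  have hu₂e : u₂ = t * u * t⁻¹ := by
    rw [hu₂, hu, pow_two]
    group
  have huY := hcase t htS htN htz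
  have hu₂Y := hcase (t ^ 2) ht2S htN' ht2z
  have huz : u * z = z * u := (hTL t htN z hzL).symm
  have hu₂z : u₂ * z = z * u₂ := (hTL (t ^ 2) htN' z hzL).symm
  have hup : u ^ p = 1 := by
    rw [hu, conj_pow, hz]
    simp
  have hu₂p : u₂ ^ p = 1 := by
    rw [hu₂, conj_pow, hz]
    simp
  have hA : ∀ y ∈ wk p u, z y = y := fun y hy => fix_of_trivial h2 hodd hz hup huz huY hy
  have hB : ∀ y ∈ wk p u₂, z y = y := fun y hy => fix_of_trivial h2 hodd hz hu₂p hu₂z hu₂Y hy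
  have hC : ∀ y ∈ wk p u₂, u y = y := by
    intro y hy
    rw [hu₂e, wk_conj] at hy
    obtain ⟨a, ha, rfl⟩ := hy
    have h3 := hA a ha
    show u (t a) = t a
    rw [hu]
    simp only [MulAut.mul_apply]
    rw [MulAut.inv_apply_self, h3]
  have hdisj : ∀ a, a ∈ wk p u → a ∈ wk p u₂ → a = 1 := fun a h3 h4 =>
    eq_one_of_mem_of_fixed h2 hodd h3 (hC a h4)
  have hcard1 : Nat.card (wk p u) = Nat.card Y := card_wk_conj t z
  have hcard2 : Nat.card (wk p u₂) = Nat.card Y := card_wk_conj (t ^ 2) z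
  have h3 : Nat.card (wk p u) * Nat.card (wk p u₂) ≤ Nat.card (fx z) := by
    rw [← Nat.card_prod]
    refine Nat.card_le_card_of_injective
      (fun x => (⟨(x.1 : B) * (x.2 : B), mul_mem (hA _ x.1.2 : (x.1 : B) ∈ fx z) (hB _ x.2.2 : (x.2 : B) ∈ fx z)⟩ : fx z)) ?_
    rintro ⟨⟨a, ha⟩, ⟨c, hc⟩⟩ ⟨⟨a', ha'⟩, ⟨c', hc'⟩⟩ h
    have h4 : a * c = a' * c' := congrArg Subtype.val h
    have h5 : a * a'⁻¹ = c' * c⁻¹ := by
      rw [← div_eq_mul_inv, ← div_eq_mul_inv, div_eq_div_iff_mul_eq_mul, h4, mul_comm]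
    have h6 : a * a'⁻¹ = 1 := by
      refine hdisj _ (mul_mem ha (inv_mem ha')) ?_
      rw [h5]
      exact mul_mem hc' (inv_mem hc)
    have h7 : a = a' := mul_inv_eq_one.mp h6
    subst h7
    have h8 : c = c' := mul_left_cancel h4
    subst h8
    rfl
  have h4 := card_wk_mul_fx h2 hodd hz
  rw [← hYdef] at h4
  rw [hcard1, hcard2] at h3
  have h5 : Nat.card Y ^ 3 ≤ Nat.card B := by
    rw [← h4, pow_succ, pow_two, mul_comm]
    exact Nat.mul_le_mul_left _ h3
  omega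

/-- A pair of an automorphism and a power of it, with the properties coming from the count. -/
structure Pair (p : ℕ) (x z : MulAut B) : Prop where
  hxz : x * z = z * x
  hzp : z ^ p = 1
  hz1 : z ≠ 1
  triv : ∀ c, z c = c → x c = c
  irr : ∀ Y ≤ wk p z, (∀ y ∈ Y, x y ∈ Y) → Y = ⊥ ∨ Y = wk p z

theorem coe_nrm_restr [Finite B] (z : MulAut B) (N : Subgroup B) (h : ∀ x ∈ N, z x ∈ N) (n : ℕ) (b : N) :
    ((nrm (restr z N h) n b : N) : B) = nrm z n b := by
  simp only [nrm]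
  rw [← Subgroup.subtype_apply, map_prod]
  refine Finset.prod_congr rfl fun i _ => ?_
  exact coe_restr_pow z N h i b

include h2 hodd in
/-- **Commutativity of the elements arising from a count.** -/
theorem comm_of_pairs [Finite B] [hpf : Fact p.Prime] (S : Subgroup (MulAut B)) (hS : IsPGroup p S)
    {x₁ z₁ x₂ z₂ : MulAut B} (hx₁ : x₁ ∈ S) (hz₁ : z₁ ∈ S) (hx₂ : x₂ ∈ S) (hz₂ : z₂ ∈ S)
    (h₁ : Pair p x₁ z₁) (h₂ : Pair p x₂ z₂) (hcard : Nat.card (wk p z₂) ≤ Nat.card (wk p z₁)) :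
    z₁ * z₂ = z₂ * z₁ := by
  classical
  have hpp : p.Prime := hpf.out
  set W₀ : Subgroup B := wk p z₁ ⊔ wk p z₂ with hW₀
  have hle₁ : wk p z₁ ≤ W₀ := le_sup_left
  have hle₂ : wk p z₂ ≤ W₀ := le_sup_right
  let S₀ : Subgroup (MulAut B) :=
    { carrier := {s | s ∈ S ∧ ∀ b, s b * b⁻¹ ∈ W₀}
      one_mem' := ⟨one_mem _, fun b => by simp⟩
      mul_mem' := by
        rintro s t ⟨hs, hs'⟩ ⟨ht, ht'⟩
        refine ⟨mul_mem hs ht, fun b => ?_⟩
        have e : (s * t) b * b⁻¹ = (s (t b) * (t b)⁻¹) * (t b * b⁻¹) := by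
          rw [MulAut.mul_apply]
          group
        rw [e]
        exact mul_mem (hs' _) (ht' _)
      inv_mem' := by
        rintro s ⟨hs, hs'⟩
        refine ⟨inv_mem hs, fun b => ?_⟩
        have e : s⁻¹ b * b⁻¹ = (s (s⁻¹ b) * (s⁻¹ b)⁻¹)⁻¹ := by
          rw [MulAut.apply_inv_self]
          group
        rw [e]
        exact inv_mem (hs' _) }
  have hS₀ : ∀ s, s ∈ S₀ ↔ s ∈ S ∧ ∀ b, s b * b⁻¹ ∈ W₀ := fun s => Iff.rfl
  have hx₁S₀ : x₁ ∈ S₀ := ⟨hx₁, fun b => hle₁ (triv_comm_mem_wk h2 hodd h₁.hzp h₁.hxz h₁.triv b)⟩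
  have hx₂S₀ : x₂ ∈ S₀ := ⟨hx₂, fun b => hle₂ (triv_comm_mem_wk h2 hodd h₂.hzp h₂.hxz h₂.triv b)⟩
  have hz₁S₀ : z₁ ∈ S₀ := ⟨hz₁, fun b => hle₁ (comm_mem_wk h2 hodd h₁.hzp b)⟩
  have hz₂S₀ : z₂ ∈ S₀ := ⟨hz₂, fun b => hle₂ (comm_mem_wk h2 hodd h₂.hzp b)⟩
  have hpres : ∀ s ∈ S₀, ∀ b ∈ W₀, s b ∈ W₀ := by
    intro s hs b hb
    have e : s b = (s b * b⁻¹) * b := by group
    rw [e]
    exact mul_mem (hs.2 b) hb
  let r : S₀ →* MulAut W₀ :=
    { toFun := fun s => restr (s : MulAut B) W₀ (hpres s s.2)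
      map_one' := by
        ext b
        rfl
      map_mul' := by
        intro s t
        ext b
        rfl }
  have hr : ∀ (s : S₀) (b : W₀), ((r s b : W₀) : B) = (s : MulAut B) b := fun s b => rfl
  let S₃ : Subgroup (MulAut W₀) := r.range
  have hS₃ : IsPGroup p S₃ := by
    have h3 : IsPGroup p S₀ := hS.to_le (fun s hs => hs.1)
    exact h3.of_surjective r.rangeRestrict r.rangeRestrict_surjective
  let h2' : ∀ b : W₀, b * b = 1 := fun b => Subtype.ext (h2 b)
  let x' : MulAut W₀ := r ⟨x₁, hx₁S₀⟩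
  let z' : MulAut W₀ := r ⟨z₁, hz₁S₀⟩
  let z'' : MulAut W₀ := r ⟨z₂, hz₂S₀⟩
  have hwk : ∀ b : W₀, b ∈ wk p z' ↔ (b : B) ∈ wk p z₁ := by
    intro b
    rw [mem_wk, mem_wk, ← coe_nrm_restr z₁ W₀ (hpres z₁ hz₁S₀) p b]
    exact Subtype.ext_iff
  have hmapwk : (wk p z').map W₀.subtype = wk p z₁ := by
    ext a
    constructor
    · rintro ⟨b, hb, rfl⟩
      exact (hwk b).mp hb
    · intro ha
      exact ⟨⟨a, hle₁ ha⟩, (hwk ⟨a, hle₁ ha⟩).mpr ha, rfl⟩
  have hcardwk : Nat.card (wk p z') = Nat.card (wk p z₁) := by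
    rw [← hmapwk]
    exact (Subgroup.card_map_of_injective W₀.subtype_injective).symm
  have hz1' : z' ≠ 1 := by
    intro h0
    apply h₁.hz1
    ext b
    -- `b` lies in `W₀` up to a fixed point
    have h3 := mul_nrm_mem h2 hodd h₁.hzp b
    have h4 : z₁ (b * nrm z₁ p b) = b * nrm z₁ p b := by
      have h5 := congrArg Subtype.val (DFunLike.congr_fun h0 ⟨_, hle₁ h3⟩)
      exact h5
    have h5 := eq_one_of_mem_of_fixed h2 hodd h3 h4
    have h6 := eq_mul_decomp h2 b (nrm z₁ p b)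
    rw [h5, one_mul] at h6
    rw [h6, z_nrm h₁.hzp b]
    rfl
  have hw₁ : 2 ≤ Nat.card (wk p z₁) := by
    have h3 : wk p z₁ ≠ ⊥ := by
      intro hb
      apply h₁.hz1
      ext b
      have h4 := mul_nrm_mem h2 hodd h₁.hzp b
      rw [hb] at h4
      have h5 : b * nrm z₁ p b = 1 := h4
      have h6 := eq_mul_decomp h2 b (nrm z₁ p b)
      rw [h5, one_mul] at h6
      rw [h6, z_nrm h₁.hzp b]
      rfl
    have h4 : Nat.card (wk p z₁) ≠ 1 := fun h => h3 (Subgroup.card_eq_one.mp h)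
    have h5 : 0 < Nat.card (wk p z₁) := Nat.card_pos
    omega
  have hcW₀ : Nat.card W₀ ≤ Nat.card (wk p z₁) * Nat.card (wk p z₂) := by
    rw [← Nat.card_prod]
    refine Nat.card_le_card_of_surjective
      (fun x => (⟨(x.1 : B) * (x.2 : B), mul_mem (hle₁ x.1.2) (hle₂ x.2.2)⟩ : W₀)) ?_
    rintro ⟨b, hb⟩
    obtain ⟨y, hy, z, hz, rfl⟩ := Subgroup.mem_sup.mp hb
    exact ⟨(⟨y, hy⟩, ⟨z, hz⟩), rfl⟩
  have hsmall : Nat.card W₀ < (Nat.card (wk p z')) ^ 3 := by
    rw [hcardwk]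
    calc Nat.card W₀ ≤ Nat.card (wk p z₁) * Nat.card (wk p z₂) := hcW₀
      _ ≤ Nat.card (wk p z₁) * Nat.card (wk p z₁) := Nat.mul_le_mul_left _ hcard
      _ < Nat.card (wk p z₁) ^ 3 := by
        have h3 : 0 < Nat.card (wk p z₁) * Nat.card (wk p z₁) := by positivity
        nlinarith
  have hxz' : x' * z' = z' * x' := by
    show r _ * r _ = r _ * r _
    rw [← map_mul, ← map_mul]
    congr 1
    exact Subtype.ext h₁.hxz
  have hzp' : z' ^ p = 1 := by
    show (r _) ^ p = 1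
    rw [← map_pow]
    have : (⟨z₁, hz₁S₀⟩ : S₀) ^ p = 1 := Subtype.ext h₁.hzp
    rw [this, map_one]
  have hirr' : ∀ Y ≤ wk p z', (∀ y ∈ Y, x' y ∈ Y) → Y = ⊥ ∨ Y = wk p z' := by
    intro Y hY hYx
    have h3 := h₁.irr (Y.map W₀.subtype) (by
      rw [← hmapwk]
      exact Subgroup.map_mono hY) (by
      rintro _ ⟨y, hy, rfl⟩
      exact ⟨x' y, hYx y hy, rfl⟩)
    rcases h3 with h3 | h3
    · left
      exact (Subgroup.map_eq_bot_iff_of_injective _ W₀.subtype_injective).mp h3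
    · right
      rw [← hmapwk] at h3
      exact Subgroup.map_injective W₀.subtype_injective h3
  have hcen := central_of_small h2' hodd S₃ hS₃ (x := x') (z := z') ⟨_, rfl⟩ ⟨_, rfl⟩ hxz' hzp' hz1' hirr' hsmall
    z'' ⟨_, rfl⟩
  -- the commutator
  let c : MulAut B := z₁ * z₂ * z₁⁻¹ * z₂⁻¹
  have hcS₀ : c ∈ S₀ := mul_mem (mul_mem (mul_mem hz₁S₀ hz₂S₀) (inv_mem hz₁S₀)) (inv_mem hz₂S₀)
  have hcW : ∀ d ∈ W₀, c d = d := by
    intro d hd
    have h3 : ∀ b : W₀, z₁ (z₂ (b : B)) = z₂ (z₁ (b : B)) := by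
      intro b
      have h4 := DFunLike.congr_fun hcen b
      have h5 := congrArg Subtype.val h4
      exact h5.symm
    -- direct computation
    set e := z₂⁻¹ d with he
    set f := z₁⁻¹ e with hf
    have heW : e ∈ W₀ := by
      have := hpres z₂⁻¹ (inv_mem hz₂S₀) d hd
      exact this
    have hfW : f ∈ W₀ := by
      have := hpres z₁⁻¹ (inv_mem hz₁S₀) e heW
      exact this
    have h5 : c d = z₁ (z₂ f) := by
      simp only [c, MulAut.mul_apply]
      rw [← he, ← hf]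
    have h6 := h3 ⟨f, hfW⟩
    simp only at h6
    rw [h5, h6, hf, MulAut.apply_inv_self, he, MulAut.apply_inv_self]
  have hcc : c ^ 2 = 1 := by
    ext b
    have h3 := hcS₀.2 b
    have h4 := hcW _ h3
    rw [map_mul, map_inv] at h4
    have h5 : (c ^ 2) b = c (c b) := by
      rw [pow_two, MulAut.mul_apply]
    rw [h5]
    have h6 : c (c b) = c b * b⁻¹ * c b := by
      rw [← h4]
      group
    rw [h6, mul_right_comm, h2, one_mul]
    exact inv_eq_of_mul_eq_one_left (h2 b)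
  have hc1 : c = 1 := by
    obtain ⟨a, ha⟩ := hS ⟨c, hcS₀.1⟩
    have ha' : c ^ (p ^ a) = 1 := congrArg Subtype.val ha
    have hcop : Nat.Coprime 2 (p ^ a) := Nat.coprime_two_left.mpr hodd.pow
    have h3 := Nat.eq_one_of_dvd_coprimes hcop (orderOf_dvd_of_pow_eq_one hcc) (orderOf_dvd_of_pow_eq_one ha')
    exact orderOf_eq_one_iff.mp h3
  have h3 : z₁ * z₂ * z₁⁻¹ = z₂ := mul_inv_eq_one.mp hc1
  exact mul_inv_eq_iff_eq_mul.mp h3

theorem count_arith1 {Q o w f P a f₀ : ℕ} (hf : 0 < f) (hPa : P + a = Q + 1)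
    (hburn : (Q + 1) * o + f ≤ w * f + P * f + a * f₀) (hf₀ : f₀ ≤ f) (hcount : w * f ≤ Q * o) : w ≤ Q ^ 2 := by
  have h0 : a * f₀ ≤ a * f := Nat.mul_le_mul_left _ hf₀
  have h1 : (Q + 1) * o ≤ w * f + Q * f := by
    have h2 : P * f + a * f = (Q + 1) * f := by rw [← hPa]; ring
    have h3 : (Q + 1) * f = Q * f + f := by ring
    omega
  have h2 : (Q + 1) * (w * f) ≤ Q * (w * f + Q * f) := by
    calc (Q + 1) * (w * f) ≤ (Q + 1) * (Q * o) := Nat.mul_le_mul_left _ hcount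
      _ = Q * ((Q + 1) * o) := by ring
      _ ≤ Q * (w * f + Q * f) := Nat.mul_le_mul_left _ h1
  have h3 : w * f ≤ Q ^ 2 * f := by nlinarith
  exact Nat.le_of_mul_le_mul_right h3 hf

theorem count_arith2 {Q o f P a f₀ : ℕ} (hQ : 0 < Q) (hPa : P + a = Q + 1) (ha : 0 < a)
    (hburn : (Q + 1) * o + f ≤ Q ^ 2 * f + P * f + a * f₀) (hcount : Q ^ 2 * f ≤ Q * o) : f ≤ f₀ := by
  have h1 : Q * f ≤ o := by
    have h2 : Q * (Q * f) ≤ Q * o := by
      calc Q * (Q * f) = Q ^ 2 * f := by ring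
        _ ≤ Q * o := hcount
    exact Nat.le_of_mul_le_mul_left h2 hQ
  have h2 : (Q + 1) * (Q * f) ≤ (Q + 1) * o := Nat.mul_le_mul_left _ h1
  have h3 : a * f ≤ a * f₀ := by
    have h4 : (P + a) * f = (Q + 1) * f := by rw [hPa]
    nlinarith
  exact Nat.le_of_mul_le_mul_left h3 ha

include h2 in
theorem isPGroup_two_sub (Y : Subgroup B) : IsPGroup 2 Y := by
  intro y
  refine ⟨1, ?_⟩
  apply Subtype.ext
  show ((y : B)) ^ 2 ^ 1 = 1
  rw [pow_one, pow_two]
  exact h2 y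

include h2 hodd in
theorem dvd_of_free [Finite B] {q n : ℕ} (hq : q.Prime) (hpq : q = p) {σ : MulAut B}
    (hσ : σ ^ q ^ (n + 1) = 1) (hcz : σ ^ q ^ n = σ ^ q ^ n)
    {Y : Subgroup B} (hY : ∀ y ∈ Y, σ y ∈ Y) (hfree : ∀ y ∈ Y, (σ ^ q ^ n) y = y → y = 1) (hne : Y ≠ ⊥) :
    q ^ (n + 1) ∣ Nat.card Y - 1 := by
  have hnt : Nontrivial Y := (Subgroup.nontrivial_iff_ne_bot Y).mpr hne
  refine dvd_card_sub_one hq (restr σ Y hY) ?_ ?_ hnt
  · ext y
    rw [coe_restr_pow, hσ]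
    rfl
  · intro b hb
    have h3 : (σ ^ q ^ n) (b : B) = b := by
      have := congrArg Subtype.val hb
      rwa [coe_restr_pow] at this
    exact Subtype.ext (hfree _ b.2 h3)

include h2 in
/-- **From the count to a pair.** -/
theorem pair_of_count [Finite B] {N n : ℕ} (hp : (2 ^ N + 1).Prime) (hN : 1 ≤ N) {σ : MulAut B}
    (hσ : σ ^ (2 ^ N + 1) ^ (n + 1) = 1) (hz1 : σ ^ (2 ^ N + 1) ^ n ≠ 1)
    (hcount : Nat.card B ≤ ((2 ^ N + 1) ^ (n + 1) - 1) * Nat.card (Orb σ)) :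
    Pair (2 ^ N + 1) σ (σ ^ (2 ^ N + 1) ^ n) := by
  classical
  set p := 2 ^ N + 1 with hpdef
  have hfact : Fact p.Prime := ⟨hp⟩
  have hp3 : 3 ≤ p := by
    have : 2 ≤ 2 ^ N := by
      calc 2 = 2 ^ 1 := rfl
        _ ≤ 2 ^ N := Nat.pow_le_pow_right (by norm_num) hN
    omega
  have hodd : Odd p := by
    rw [hpdef]
    exact Even.add_one (Nat.even_pow.mpr ⟨even_two, by omega⟩)
  set z := σ ^ p ^ n with hzdef
  have hzp : z ^ p = 1 := by
    rw [hzdef, ← pow_mul, ← pow_succ, hσ]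
  have hxz : σ * z = z * σ := ((Commute.refl σ).pow_right _).eq
  have hord : orderOf σ = p ^ (n + 1) := orderOf_eq_prime_pow hz1 hσ
  have hburn := burnside_bound hp σ hord
  set f := Nat.card (fx z) with hf
  set f₀ := Nat.card (fx σ) with hf₀
  have hfpos : 0 < f := Nat.card_pos
  have hle₀ : fx σ ≤ fx z := by
    intro b hb
    have h3 : ∀ m : ℕ, (σ ^ m) b = b := by
      intro m
      induction m with
      | zero => rfl
      | succ m ih => rw [pow_succ', MulAut.mul_apply, ih, hb]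
    exact h3 _
  have hf₀f : f₀ ≤ f := Subgroup.card_le_of_le hle₀
  have hwf := card_wk_mul_fx h2 hodd hzp
  set w := Nat.card (wk p z) with hw
  set P := p ^ n with hP
  have hPpos : 0 < P := Nat.pos_of_ne_zero (pow_ne_zero _ hp.ne_zero)
  set a := P * (p - 1) with ha
  have hq : p ^ (n + 1) = P + a := by
    rw [pow_succ, ha, ← hP]
    obtain ⟨p', hp'⟩ : ∃ p', p = p' + 1 := ⟨p - 1, by omega⟩
    rw [hp']
    simp only [Nat.add_sub_cancel]
    ring
  have hapos : 0 < a := Nat.mul_pos hPpos (by omega)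
  obtain ⟨Q, hQ⟩ : ∃ Q, P + a = Q + 1 := ⟨P + a - 1, by omega⟩
  have hQpos : 0 < Q := by
    have : 2 ≤ a := by
      calc 2 ≤ 1 * (p - 1) := by omega
        _ ≤ P * (p - 1) := Nat.mul_le_mul_right _ hPpos
    omega
  have hq1 : p ^ (n + 1) - 1 = Q := by omega
  rw [hq1] at hcount
  rw [hq, hQ] at hburn
  have hcount' : w * f ≤ Q * Nat.card (Orb σ) := by rw [hwf]; exact hcount
  have hburn' : (Q + 1) * Nat.card (Orb σ) + f ≤ w * f + P * f + a * f₀ := by
    rw [hwf]
    exact hburn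
  have hwle : w ≤ Q ^ 2 := count_arith1 hfpos hQ hburn' hf₀f hcount'
  have hinv : ∀ y ∈ wk p z, σ y ∈ wk p z := fun y hy => map_mem_wk hxz hy
  have hfree : ∀ y ∈ wk p z, z y = y → y = 1 := fun y hy hf => eq_one_of_mem_of_fixed h2 hodd hy hf
  -- the key numerical statement
  have hnum : ∀ Y : Subgroup B, Y ≤ wk p z → (∀ y ∈ Y, σ y ∈ Y) → Y ≠ ⊥ → Nat.card Y = Q ^ 2 := by
    intro Y hY hYσ hne
    have h3 : p ^ (n + 1) ∣ Nat.card Y - 1 :=
      dvd_of_free h2 hodd hp rfl hσ rfl hYσ (fun y hy hfix => hfree y (hY hy) hfix) hne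
    obtain ⟨t, ht⟩ := IsPGroup.iff_card.mp (isPGroup_two_sub h2 Y)
    have ht1 : 1 ≤ t := by
      by_contra h0
      have h1 : t = 0 := by omega
      rw [h1, pow_zero] at ht
      exact hne (Subgroup.card_eq_one.mp ht)
    rw [ht] at h3 ⊢
    have hle : 2 ^ t ≤ ((2 ^ N + 1) ^ (n + 1) - 1) ^ 2 := by
      rw [← hpdef, hq1, ← ht]
      exact (Subgroup.card_le_of_le hY).trans hwle
    have := arith_fermat (N := N) (n := n) (t := t) hp hN ht1 h3 hle
    rw [this, ← hpdef, hq1]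
  have hwne : wk p z ≠ ⊥ := by
    intro hb
    apply hz1
    ext b
    have h4 := mul_nrm_mem h2 hodd hzp b
    rw [hb] at h4
    have h5 : b * nrm z p b = 1 := h4
    have h6 := eq_mul_decomp h2 b (nrm z p b)
    rw [h5, one_mul] at h6
    rw [h6, z_nrm hzp b]
    rfl
  have hwQ : w = Q ^ 2 := hnum _ le_rfl hinv hwne
  refine ⟨hxz, hzp, hz1, ?_, ?_⟩
  · -- the fixed points
    rw [hwQ] at hcount' hburn'
    have h3 : f ≤ f₀ := count_arith2 hQpos hQ hapos hburn' hcount'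
    have h4 : fx σ = fx z := Subgroup.eq_of_le_of_card_ge hle₀ h3
    intro c hc
    have h5 : c ∈ fx z := hc
    rw [← h4] at h5
    exact h5
  · intro Y hY hYσ
    by_cases hne : Y = ⊥
    · exact Or.inl hne
    · right
      refine Subgroup.eq_of_le_of_card_ge hY ?_
      rw [hnum Y hY hYσ hne]
      exact hwle

end Central

section Counts

/-- **Commutativity from the counts**, for an abstract group of exponent two. -/
theorem comm_of_counts {B : Type*} [hB : Group B] [Finite B] (h2 : ∀ b : B, b * b = 1) {N : ℕ}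
    (hp : (2 ^ N + 1).Prime) (hN : 1 ≤ N) (S : Subgroup (MulAut B)) (hS : IsPGroup (2 ^ N + 1) S)
    {x₁ x₂ : MulAut B} {n₁ n₂ : ℕ} (hx₁ : x₁ ∈ S) (hx₂ : x₂ ∈ S)
    (hσ₁ : x₁ ^ (2 ^ N + 1) ^ (n₁ + 1) = 1) (hσ₂ : x₂ ^ (2 ^ N + 1) ^ (n₂ + 1) = 1)
    (hc₁ : Nat.card B ≤ ((2 ^ N + 1) ^ (n₁ + 1) - 1) * Nat.card (Orb x₁))
    (hc₂ : Nat.card B ≤ ((2 ^ N + 1) ^ (n₂ + 1) - 1) * Nat.card (Orb x₂)) :
    x₁ ^ (2 ^ N + 1) ^ n₁ * x₂ ^ (2 ^ N + 1) ^ n₂ = x₂ ^ (2 ^ N + 1) ^ n₂ * x₁ ^ (2 ^ N + 1) ^ n₁ := by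
  have hcomm : ∀ a b : B, a * b = b * a := by
    intro a b
    have h3 : (a * b) * (a * b) = 1 := h2 _
    have h4 : a * a = 1 := h2 a
    have h5 : b * b = 1 := h2 b
    calc a * b = a * (a * b * (a * b)) * b := by rw [h3]; simp
      _ = (a * a) * (b * a) * (b * b) := by simp only [mul_assoc]
      _ = b * a := by rw [h4, h5]; simp
  letI iB : CommGroup B := { hB with mul_comm := hcomm }
  haveI hfact : Fact (2 ^ N + 1).Prime := ⟨hp⟩
  have hodd : Odd (2 ^ N + 1) := Even.add_one (Nat.even_pow.mpr ⟨even_two, by omega⟩)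
  by_cases h₁ : x₁ ^ (2 ^ N + 1) ^ n₁ = 1
  · rw [h₁, one_mul, mul_one]
  by_cases h₂ : x₂ ^ (2 ^ N + 1) ^ n₂ = 1
  · rw [h₂, one_mul, mul_one]
  have P₁ := pair_of_count h2 hp hN hσ₁ h₁ hc₁
  have P₂ := pair_of_count h2 hp hN hσ₂ h₂ hc₂
  have hz₁ : x₁ ^ (2 ^ N + 1) ^ n₁ ∈ S := pow_mem hx₁ _
  have hz₂ : x₂ ^ (2 ^ N + 1) ^ n₂ ∈ S := pow_mem hx₂ _
  rcases le_total (Nat.card (wk (2 ^ N + 1) (x₂ ^ (2 ^ N + 1) ^ n₂))) (Nat.card (wk (2 ^ N + 1) (x₁ ^ (2 ^ N + 1) ^ n₁))) with h | h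
  · exact comm_of_pairs h2 hodd S hS hx₁ hz₁ hx₂ hz₂ P₁ P₂ h
  · exact (comm_of_pairs h2 hodd S hS hx₂ hz₂ hx₁ hz₁ P₂ P₁ h).symm

end Counts

end Cfsg.Agent.Lib.HHE4
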