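import Mathlib
import Cfsg.Agent.Lib.HHB3
import Cfsg.Agent.Lib.HHB4
import Cfsg.Agent.Lib.HHE4

set_option autoImplicit false
set_option linter.unusedSectionVars false
set_option linter.unusedVariables false
set_option linter.style.haveILetI false

/-!
Hall--Higman for Fermat primes: the top powers of the elements of a `p`-group acting on a group
`Γ` with `Γ / Z(Γ)` elementary abelian commute, if the operators `R y` have
`1 + R y + ... + (R y)^{p^{e+1} - 1} = 0`.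
-/

namespace Cfsg.Agent.Lib.HHE5

open Module Cfsg.Agent.Lib.HHCrit Cfsg.Agent.Lib.HHB2 Cfsg.Agent.Lib.HHB3 Cfsg.Agent.Lib.HHE2
  Cfsg.Agent.Lib.HHE3 Cfsg.Agent.Lib.HHE4 Cfsg.Agent.Lib.Kegel

variable {K : Type*} [Field K]

section Twist

variable {V : Type*} [AddCommGroup V] [Module K V] [FiniteDimensional K V] {Γ : Type*} [Group Γ] [Fintype Γ]

theorem twist_data [IsAlgClosed K] (p : ℕ) [hp : Fact p.Prime] [CharP K p] (hcardK : (Fintype.card Γ : K) ≠ 0)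
    (ρ : Γ →* End K V) {X : End K V} {σ : MulAut Γ}
    (hXρ : ∀ g, X * ρ g = ρ (σ g) * X) {e : ℕ} (hσ : σ ^ p ^ (e + 1) = 1)
    (hsum0 : ∑ i ∈ Finset.range (p ^ (e + 1)), X ^ i = 0) {W₀ : Submodule K V} (hinv : Inv ρ W₀) (hne : W₀ ≠ ⊥)
    (hmin : ∀ W' ≤ W₀, Inv ρ W' → W' = ⊥ ∨ W' = W₀) :
    ∃ a n : ℕ, a + n = e ∧ ∃ c : End K W₀, c ≠ 0 ∧
      (∀ g, c * HHChar.restrictRep ρ W₀ hinv g = HHChar.restrictRep ρ W₀ hinv ((σ ^ p ^ a) g) * c) ∧
      (c - 1) ^ (p ^ (n + 1) - 1) = 0 := by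
  classical
  have hpp : p.Prime := hp.out
  let ρ₀ := HHChar.restrictRep ρ W₀ hinv
  have hirr₀ : Irr ρ₀ := irr_restrict ρ W₀ hinv hmin
  have hW₀nt : Nontrivial W₀ := Submodule.nontrivial_iff_ne_bot.mpr hne
  obtain ⟨a, ha, hTw, hnot⟩ := exists_min_twist hirr₀ σ p (e + 1) hpp hσ
  set t := p ^ a with ht
  have htpos : 0 < t := Nat.pow_pos hpp.pos
  have hA : ∀ g, X ^ t * ρ g = ρ ((σ ^ t) g) * X ^ t := pow_mul_rho hXρ t
  obtain ⟨φ₀, hφ₀, hinj, hstable⟩ := exists_stable_copy ρ ρ₀ hirr₀ (X ^ t) (σ ^ t) hA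
    (tw_inv hirr₀ hTw) W₀.subtype (by
      intro h
      obtain ⟨v, hv⟩ := exists_ne (0 : W₀)
      apply hv
      have := LinearMap.congr_fun h v
      exact Subtype.ext (by simpa using this)) (fun g v => rfl)
  let W' : Submodule K V := LinearMap.range φ₀
  have hS : Inv ρ W' := by
    rintro g _ ⟨w, rfl⟩
    exact ⟨ρ₀ g w, hφ₀ g w⟩
  have hstable' : ∀ u ∈ W', (X ^ t) u ∈ W' := by
    rintro _ ⟨w, rfl⟩
    exact hstable w
  let ρ' := HHChar.restrictRep ρ W' hS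
  let E : W₀ ≃ₗ[K] W' := LinearEquiv.ofInjective φ₀ hinj
  have hE : ∀ g v, E (ρ₀ g v) = ρ' g (E v) := by
    intro g v
    apply Subtype.ext
    exact hφ₀ g v
  have hirr' : Irr ρ' := irr_of_equiv E hE hirr₀
  have hW'nt : Nontrivial W' := E.injective.nontrivial
  have hnt : ∀ i, 0 < i → i < t → ¬ Tw ρ' ((σ ^ i)⁻¹) := by
    intro i hi hit hT
    have h1 := tw_inv hirr₀ (tw_of_equiv E hE hT)
    rw [inv_inv] at h1
    exact hnot i hi hit h1
  have hsum := sum_pow_ne_zero hXρ W' hS hirr' hcardK t htpos hnt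
  have hae : a ≠ e + 1 := by
    rintro rfl
    obtain ⟨v', hv'⟩ := exists_ne (0 : W')
    apply hsum v' hv'
    have := LinearMap.congr_fun hsum0 (v' : V)
    simpa [LinearMap.sum_apply] using this
  obtain ⟨n, hn⟩ : ∃ n, a + n = e := ⟨e - a, by omega⟩
  refine ⟨a, n, hn, ?_⟩
  set q := p ^ (n + 1) with hq
  have htq : t * q = p ^ (e + 1) := by
    rw [ht, hq, ← pow_add]
    congr 1
    omega
  have hq1 : 1 ≤ q := Nat.pow_pos hpp.pos
  let X₁ : End K W' := (X ^ t).restrict hstable'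
  have hzero : (X - 1) ^ (p ^ (e + 1) - 1) = 0 := by
    rw [← geom_sum_char_pow (K := K) p (e + 1), hsum0]
  have hfac : (X - 1) ^ (p ^ (e + 1) - 1) = (∑ i ∈ Finset.range t, X ^ i) * (X ^ t - 1) ^ (q - 1) := by
    have hexp : p ^ (e + 1) - 1 = (t - 1) + t * (q - 1) := by
      rw [← htq]
      obtain ⟨c, hc⟩ : ∃ c, q = c + 1 := ⟨q - 1, by omega⟩
      rw [hc]
      simp only [Nat.add_sub_cancel]
      rw [mul_add, mul_one]
      omega
    rw [hexp, pow_add, pow_mul, ht, geom_sum_char_pow (K := K) p a, sub_one_pow_char_pow (K := K) p a]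
  have hX₁ : (X₁ - 1) ^ (q - 1) = 0 := by
    ext w
    by_contra hw
    have hw' : ((X₁ - 1) ^ (q - 1)) w ≠ 0 := fun h0 => hw (by
      rw [h0]
      rfl)
    apply hsum _ hw'
    have h1 := restrict_pow_sub_one (X ^ t) W' hstable' (q - 1) w
    have h2 := LinearMap.congr_fun (hfac.symm.trans hzero) (w : V)
    rw [Module.End.mul_apply, LinearMap.sum_apply, ← h1] at h2
    exact h2
  let c : End K W₀ := E.symm.toLinearMap ∘ₗ X₁ ∘ₗ E.toLinearMap
  have hcapp : ∀ v, c v = E.symm (X₁ (E v)) := fun v => rfl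
  have hcpow : ∀ (k : ℕ) (v : W₀), ((c - 1) ^ k) v = E.symm (((X₁ - 1) ^ k) (E v)) := by
    intro k v
    induction k generalizing v with
    | zero => simp
    | succ k ih =>
      rw [pow_succ, Module.End.mul_apply, ih, pow_succ, Module.End.mul_apply]
      congr 2
      simp [hcapp]
  have hc1 : (c - 1) ^ (q - 1) = 0 := by
    ext v
    rw [hcpow, hX₁]
    simp
  have hX₁ρ : ∀ g, X₁ * ρ' g = ρ' ((σ ^ t) g) * X₁ := by
    intro g
    ext v
    exact LinearMap.congr_fun (hA g) (v : V)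
  refine ⟨c, ?_, ?_, hc1⟩
  · intro h0
    rw [h0, zero_sub] at hc1
    rcases neg_one_pow_eq_or (End K W₀) (q - 1) with h3 | h3
    · rw [h3] at hc1
      exact one_ne_zero hc1
    · rw [h3] at hc1
      exact one_ne_zero (neg_eq_zero.mp hc1)
  · intro g
    ext v
    simp only [Module.End.mul_apply]
    rw [hcapp, hcapp, hE]
    have h1 := LinearMap.congr_fun (hX₁ρ g) (E v)
    simp only [Module.End.mul_apply] at h1
    rw [h1]
    have h2 := hE ((σ ^ t) g) (E.symm (X₁ (E v)))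
    rw [E.apply_symm_apply] at h2
    rw [← h2, E.symm_apply_apply]

end Twist

section Irr

variable {V : Type*} [AddCommGroup V] [Module K V] [FiniteDimensional K V] {Γ : Type*} [Group Γ] [Fintype Γ]

/-- An element acting trivially on all irreducible invariant subspaces acts trivially. -/
theorem eq_one_of_irr (ρ : Γ →* End K V) (hcardK : (Fintype.card Γ : K) ≠ 0) (h : Γ)
    (hall : ∀ W₀ : Submodule K V, Inv ρ W₀ → W₀ ≠ ⊥ → (∀ W' ≤ W₀, Inv ρ W' → W' = ⊥ ∨ W' = W₀) →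
      ∀ v ∈ W₀, ρ h v = v) : ρ h = 1 := by
  let F : Submodule K V :=
    { carrier := {v | ∀ g, ρ h (ρ g v) = ρ g v}
      add_mem' := by
        intro a b ha hb g
        simp [ha g, hb g]
      zero_mem' := by
        intro g
        simp
      smul_mem' := by
        intro c a ha g
        simp [ha g] }
  have hFinv : Inv ρ F := by
    intro a v hv g
    have h1 := hv (g * a)
    rw [map_mul, Module.End.mul_apply] at h1
    exact h1
  obtain ⟨C, hCinv, hC⟩ := exists_inv_compl ρ hcardK F hFinv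
  have hCbot : C = ⊥ := by
    by_contra hCne
    obtain ⟨W₀, hW₀C, hW₀inv, hW₀ne, hW₀min⟩ := exists_irr ρ C hCinv hCne
    obtain ⟨w, hw, hw0⟩ := Submodule.exists_mem_ne_zero_of_ne_bot hW₀ne
    apply hw0
    refine (Submodule.disjoint_def.mp hC.disjoint) w ?_ (hW₀C hw)
    intro g
    exact hall W₀ hW₀inv hW₀ne hW₀min _ (hW₀inv g w hw)
  have hFtop : F = ⊤ := by
    have := hC.sup_eq_top
    rwa [hCbot, sup_bot_eq] at this
  ext v
  have h1 : v ∈ F := by rw [hFtop]; trivial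
  have h2 := h1 1
  simpa using h2

end Irr

section Main

variable {V : Type*} [AddCommGroup V] [Module K V] [FiniteDimensional K V]
  {Γ : Type*} [Group Γ] [Fintype Γ] {𝒜 : Type*} [Group 𝒜]

theorem tw_scal [IsAlgClosed K] {W : Type*} [AddCommGroup W] [Module K W] [FiniteDimensional K W] [Nontrivial W]
    {ρ₀ : Γ →* End K W} (hρ : Irr ρ₀) {τ : MulAut Γ} (h : Tw ρ₀ τ) {x : Γ} (hx : x ∈ scal ρ₀) :
    ρ₀ (τ x) = ρ₀ x := by
  obtain ⟨c, h0, hc⟩ := h
  obtain ⟨lam, hlam⟩ := hx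
  have hb := tw_bij hρ h0 hc
  ext v
  obtain ⟨u, rfl⟩ := hb.2 v
  have h1 := LinearMap.congr_fun (hc x) u
  simp only [Module.End.mul_apply] at h1
  rw [← h1, hlam]
  simp

/-- The local statement at an irreducible constituent. -/
theorem local_comm [IsAlgClosed K] {p N : ℕ} (hpN : p = 2 ^ N + 1) (hN : 1 ≤ N) [hp : Fact p.Prime] [CharP K p]
    (hcardK : (Fintype.card Γ : K) ≠ 0) (hΓ : (Nat.card Γ).Coprime p) (h𝒜 : IsPGroup p 𝒜)
    (ρ : Γ →* End K V) (R : 𝒜 →* End K V) (θ : 𝒜 →* MulAut Γ)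
    (hRρ : ∀ y g, R y * ρ g = ρ (θ y g) * R y)
    {r : ℕ} (hr : r.Prime) (hΓr : IsPGroup r Γ)
    (hcen : ∀ a b : Γ, a * b * a⁻¹ * b⁻¹ ∈ Subgroup.center Γ) (hpow : ∀ a : Γ, a ^ r ∈ Subgroup.center Γ)
    {e : ℕ} (hexp : ∀ y : 𝒜, y ^ p ^ (e + 1) = 1)
    (hsum : ∀ y : 𝒜, ∑ i ∈ Finset.range (p ^ (e + 1)), R y ^ i = 0)
    {W₀ : Submodule K V} (hinv : Inv ρ W₀) (hne : W₀ ≠ ⊥) (hmin : ∀ W' ≤ W₀, Inv ρ W' → W' = ⊥ ∨ W' = W₀) :
    (∀ y : 𝒜, Tw (HHChar.restrictRep ρ W₀ hinv) (θ (y ^ p ^ e))) ∧ ∀ y₁ y₂ : 𝒜, ∀ g : Γ,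
      θ (y₁ ^ p ^ e * y₂ ^ p ^ e * (y₁ ^ p ^ e)⁻¹ * (y₂ ^ p ^ e)⁻¹) g * g⁻¹ ∈
        scal (HHChar.restrictRep ρ W₀ hinv) := by
  classical
  subst hpN
  set p := 2 ^ N + 1 with hpdef
  have hpp : p.Prime := hp.out
  have hodd : Odd p := by
    rw [hpdef]
    exact Even.add_one (Nat.even_pow.mpr ⟨even_two, by omega⟩)
  let ρ₀ := HHChar.restrictRep ρ W₀ hinv
  have hirr₀ : Irr ρ₀ := irr_restrict ρ W₀ hinv hmin
  have hW₀nt : Nontrivial W₀ := Submodule.nontrivial_iff_ne_bot.mpr hne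
  -- central elements are scalars
  have hcens : ∀ z ∈ Subgroup.center Γ, z ∈ scal ρ₀ := by
    intro z hz
    refine schur hirr₀ _ ?_
    intro g
    rw [← map_mul, ← map_mul, (Subgroup.mem_center_iff.mp hz g)]
  have hsc : ∀ g h : Γ, g * h * g⁻¹ * h⁻¹ ∈ scal ρ₀ := fun g h => hcens _ (hcen g h)
  -- the acting subgroup
  let A₀ : Subgroup 𝒜 :=
    { carrier := {t | Tw ρ₀ (θ t)}
      one_mem' := by
        show Tw ρ₀ (θ 1)
        rw [map_one]
        exact tw_one ρ₀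
      mul_mem' := by
        intro a b ha hb
        show Tw ρ₀ (θ (a * b))
        rw [map_mul]
        exact tw_mul hirr₀ ha hb
      inv_mem' := by
        intro a ha
        show Tw ρ₀ (θ a⁻¹)
        rw [map_inv]
        exact tw_inv hirr₀ ha }
  have hA₀ : ∀ t, t ∈ A₀ ↔ Tw ρ₀ (θ t) := fun t => Iff.rfl
  have hscalinv : ∀ t : A₀, ∀ x ∈ scal ρ₀, θ (t : 𝒜) x ∈ scal ρ₀ := by
    intro t x hx
    have h1 := tw_scal hirr₀ t.2 hx
    obtain ⟨lam, hlam⟩ := hx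
    exact ⟨lam, by rw [h1, hlam]⟩
  let Θ : A₀ →* MulAut (Γ ⧸ scal ρ₀) :=
    MonoidHom.mk' (fun t => quot (θ (t : 𝒜)) (scal ρ₀) (hscalinv t)) (by
      intro a b
      ext v
      obtain ⟨u, rfl⟩ := QuotientGroup.mk_surjective v
      rw [MulAut.mul_apply, quot_mk, quot_mk, quot_mk]
      simp only [Subgroup.coe_mul, map_mul, MulAut.mul_apply])
  have hΘ : ∀ (t : A₀) (g : Γ), Θ t (g : Γ ⧸ scal ρ₀) = ((θ (t : 𝒜) g : Γ) : Γ ⧸ scal ρ₀) := fun t g => rfl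
  -- the data for one element
  have hdata₀ : ∀ y : 𝒜, ∃ a n : ℕ, a + n = e ∧ ∃ c : End K W₀, c ≠ 0 ∧
      (∀ g, c * ρ₀ g = ρ₀ (((θ y) ^ p ^ a) g) * c) ∧ (c - 1) ^ (p ^ (n + 1) - 1) = 0 := fun y =>
    twist_data p hcardK ρ (hRρ y) (by rw [← map_pow, hexp, map_one]) (hsum y) hinv hne hmin
  have hpowe : ∀ (y : 𝒜) (a n : ℕ), a + n = e → (y ^ p ^ a) ^ p ^ n = y ^ p ^ e := by
    intro y a n han
    rw [← pow_mul, ← pow_add, han]
  have hpowe1 : ∀ (y : 𝒜) (a n : ℕ), a + n = e → (y ^ p ^ a) ^ p ^ (n + 1) = 1 := by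
    intro y a n han
    rw [← pow_mul, ← pow_add, ← hexp y]
    congr 2
    omega
  have hz : ∀ y : 𝒜, y ^ p ^ e ∈ A₀ := by
    intro y
    obtain ⟨a, n, han, c, hc0, hc, -⟩ := hdata₀ y
    have hm : y ^ p ^ a ∈ A₀ := ⟨c, hc0, by rw [map_pow]; exact hc⟩
    rw [← hpowe y a n han]
    exact pow_mem hm _
  have hdata : ∀ y : 𝒜, ∃ (X : MulAut (Γ ⧸ scal ρ₀)) (n : ℕ), X ∈ Θ.range ∧ X ^ p ^ (n + 1) = 1 ∧
      X ^ p ^ n = Θ ⟨y ^ p ^ e, hz y⟩ ∧
      (X ^ p ^ n ≠ 1 → r = 2 ∧ Nat.card (Γ ⧸ scal ρ₀) ≤ (p ^ (n + 1) - 1) * Nat.card (Orb X)) := by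
    intro y
    obtain ⟨a, n, han, c, hc0, hc, hc1⟩ := hdata₀ y
    have hm : y ^ p ^ a ∈ A₀ := ⟨c, hc0, by rw [map_pow]; exact hc⟩
    set τ : MulAut Γ := θ (y ^ p ^ a) with hτ
    have hc' : ∀ g, c * ρ₀ g = ρ₀ (τ g) * c := by
      intro g
      rw [hτ, map_pow]
      exact hc g
    refine ⟨Θ ⟨y ^ p ^ a, hm⟩, n, ⟨_, rfl⟩, ?_, ?_, ?_⟩
    · rw [← map_pow]
      have h1 : (⟨y ^ p ^ a, hm⟩ : A₀) ^ p ^ (n + 1) = 1 := Subtype.ext (hpowe1 y a n han)
      rw [h1, map_one]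
    · rw [← map_pow]
      congr 1
      exact Subtype.ext (hpowe y a n han)
    · intro hne1
      have hq1 : 1 ≤ p ^ (n + 1) := Nat.pow_pos hpp.pos
      have hcq : c ^ p ^ (n + 1) = 1 := by
        have h1 := sub_one_pow_char_pow (K := K) p (n + 1) c
        have h2 : (c - 1) ^ p ^ (n + 1) = 0 := by
          have e1 : p ^ (n + 1) = (p ^ (n + 1) - 1) + 1 := by omega
          rw [e1, pow_succ, hc1, zero_mul]
        rw [h2] at h1
        exact (sub_eq_zero.mp h1.symm)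
      have hcc : c * c ^ (p ^ (n + 1) - 1) = 1 := by
        rw [← pow_succ', Nat.sub_add_cancel hq1, hcq]
      have hcc' : c ^ (p ^ (n + 1) - 1) * c = 1 := by
        rw [← pow_succ, Nat.sub_add_cancel hq1, hcq]
      constructor
      · -- the exceptional case
        have hZ : ∃ g, ρ₀ ((τ ^ p ^ n) g) ≠ ρ₀ g := by
          by_contra hcon
          push Not at hcon
          apply hne1
          ext v
          obtain ⟨g, rfl⟩ := QuotientGroup.mk_surjective v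
          rw [← map_pow]
          have h1 : (⟨y ^ p ^ a, hm⟩ : A₀) ^ p ^ n = ⟨y ^ p ^ e, hz y⟩ := Subtype.ext (hpowe y a n han)
          rw [h1, hΘ]
          show ((θ (y ^ p ^ e) g : Γ) : Γ ⧸ scal ρ₀) = ((g : Γ) : Γ ⧸ scal ρ₀)
          apply QuotientGroup.eq_iff_div_mem.mpr
          refine ⟨1, ?_⟩
          have h2 := hcon g
          rw [hτ, ← map_pow, hpowe y a n han] at h2
          rw [div_eq_mul_inv, map_mul, h2, ← map_mul, mul_inv_cancel, map_one, one_smul]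
        have hData : Data p n ρ₀ c τ :=
          { hcop := hΓ
            hXN := hcq
            hσN := by
              rw [hτ, ← map_pow, hpowe1 y a n han, map_one]
            hXρ := hc'
            hZ := hZ }
        have hconcl := main (K := K) p n W₀ Γ ρ₀ c τ hData
        rcases hconcl with hconcl | ⟨n₀, q, m, h1, h2, hq, hm', hpq, ⟨R', hR', a', ha', b', hb', hab⟩, -⟩
        · exfalso
          have := hconcl _ hc1
          omega
        · have hpn₀ : 1 ≤ p ^ n₀ := Nat.pow_pos hpp.pos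
          have hev : Even (p ^ n₀ - 1) := by
            obtain ⟨k, hk⟩ : Odd (p ^ n₀) := hodd.pow
            exact ⟨k, by omega⟩
          rw [hpq] at hev
          have hq2 : q = 2 := by
            have h6 : 2 ∣ q ^ m := hev.two_dvd
            have h7 := Nat.prime_two.dvd_of_dvd_pow h6
            exact ((Nat.prime_dvd_prime_iff_eq Nat.prime_two hq).mp h7).symm
          subst hq2
          have ha1 : a' ≠ 1 := by
            rintro rfl
            apply hab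
            simp
          by_contra hr2
          apply ha1
          obtain ⟨i, hi⟩ := hR' ⟨a', ha'⟩
          have hi' : a' ^ 2 ^ i = 1 := congrArg Subtype.val hi
          obtain ⟨j, hj⟩ := hΓr a'
          have hcop : Nat.Coprime (r ^ j) (2 ^ i) := by
            apply Nat.Coprime.pow
            exact (Nat.coprime_primes hr Nat.prime_two).mpr hr2
          have h3 := Nat.eq_one_of_dvd_coprimes hcop (orderOf_dvd_of_pow_eq_one hj) (orderOf_dvd_of_pow_eq_one hi')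
          exact orderOf_eq_one_iff.mp h3
      · exact card_quot_le_mul_orb hirr₀ hcardK hsc hcc hcc' hc' (hscalinv ⟨y ^ p ^ a, hm⟩) hc1
  refine ⟨hz, ?_⟩
  intro y₁ y₂ g
  set Z₁ : A₀ := ⟨y₁ ^ p ^ e, hz y₁⟩ with hZ₁
  set Z₂ : A₀ := ⟨y₂ ^ p ^ e, hz y₂⟩ with hZ₂
  have hcomm : Θ Z₁ * Θ Z₂ = Θ Z₂ * Θ Z₁ := by
    by_cases h₁ : Θ Z₁ = 1
    · rw [h₁, one_mul, mul_one]
    by_cases h₂ : Θ Z₂ = 1
    · rw [h₂, one_mul, mul_one]
    obtain ⟨X₁, n₁, hX₁, hσ₁, hpow₁, hd₁⟩ := hdata y₁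
    obtain ⟨X₂, n₂, hX₂, hσ₂, hpow₂, hd₂⟩ := hdata y₂
    rw [← hZ₁] at hpow₁
    rw [← hZ₂] at hpow₂
    obtain ⟨hr2, hc₁⟩ := hd₁ (by rwa [hpow₁])
    obtain ⟨-, hc₂⟩ := hd₂ (by rwa [hpow₂])
    subst hr2
    have h2 : ∀ b : Γ ⧸ scal ρ₀, b * b = 1 := by
      intro b
      obtain ⟨g, rfl⟩ := QuotientGroup.mk_surjective b
      have h3 : g ^ 2 ∈ scal ρ₀ := hcens _ (hpow g)
      have h4 : ((g : Γ) : Γ ⧸ scal ρ₀) * ((g : Γ) : Γ ⧸ scal ρ₀) = ((g ^ 2 : Γ) : Γ ⧸ scal ρ₀) := by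
        rw [pow_two]
        rfl
      rw [h4]
      exact (QuotientGroup.eq_one_iff _).mpr h3
    have hS : IsPGroup p Θ.range := by
      have h3 : IsPGroup p A₀ := IsPGroup.to_subgroup h𝒜 A₀
      exact h3.of_surjective Θ.rangeRestrict Θ.rangeRestrict_surjective
    have := comm_of_counts h2 hp.out hN Θ.range hS hX₁ hX₂ hσ₁ hσ₂ hc₁ hc₂
    rw [← hpow₁, ← hpow₂]
    exact this
  have hC : Θ (Z₁ * Z₂ * Z₁⁻¹ * Z₂⁻¹) = 1 := by
    rw [map_mul, map_mul, map_mul, map_inv, map_inv, hcomm]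
    group
  have h1 := hΘ (Z₁ * Z₂ * Z₁⁻¹ * Z₂⁻¹) g
  rw [hC] at h1
  have h2 : ((g : Γ) : Γ ⧸ scal ρ₀) = ((θ ((Z₁ * Z₂ * Z₁⁻¹ * Z₂⁻¹ : A₀) : 𝒜) g : Γ) : Γ ⧸ scal ρ₀) := h1
  have h3 := QuotientGroup.eq_iff_div_mem.mp h2.symm
  rw [div_eq_mul_inv] at h3
  exact h3

/-- **The commuting theorem at the level of representations.** -/
theorem comm_rep [IsAlgClosed K] {p N : ℕ} (hpN : p = 2 ^ N + 1) (hN : 1 ≤ N) [hp : Fact p.Prime] [CharP K p]
    {Γ' : Type*} [Group Γ'] [Finite Γ'] (hΓ : (Nat.card Γ').Coprime p) (h𝒜 : IsPGroup p 𝒜)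
    (ρ : Γ' →* End K V) (hρ : Function.Injective ρ) (R : 𝒜 →* End K V) (θ : 𝒜 →* MulAut Γ')
    (hRρ : ∀ y g, R y * ρ g = ρ (θ y g) * R y)
    {r : ℕ} (hr : r.Prime) (hΓr : IsPGroup r Γ')
    (hcen : ∀ a b : Γ', a * b * a⁻¹ * b⁻¹ ∈ Subgroup.center Γ') (hpow : ∀ a : Γ', a ^ r ∈ Subgroup.center Γ')
    {e : ℕ} (hexp : ∀ y : 𝒜, y ^ p ^ (e + 1) = 1)
    (hsum : ∀ y : 𝒜, ∑ i ∈ Finset.range (p ^ (e + 1)), R y ^ i = 0) (y₁ y₂ : 𝒜) :
    θ (y₁ ^ p ^ e) * θ (y₂ ^ p ^ e) = θ (y₂ ^ p ^ e) * θ (y₁ ^ p ^ e) := by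
  classical
  let _ : Fintype Γ' := Fintype.ofFinite Γ'
  have hpp : p.Prime := hp.out
  have hcardK : (Fintype.card Γ' : K) ≠ 0 := by
    intro h
    rw [← Nat.card_eq_fintype_card] at h
    have h1 := (CharP.cast_eq_zero_iff K p _).mp h
    have := Nat.Coprime.eq_one_of_dvd hΓ.symm h1
    exact hpp.one_lt.ne' this
  have hloc : ∀ {W₀ : Submodule K V} (hinv : Inv ρ W₀), W₀ ≠ ⊥ → (∀ W' ≤ W₀, Inv ρ W' → W' = ⊥ ∨ W' = W₀) → _ :=
    fun {W₀} hinv hne hmin => local_comm hpN hN hcardK hΓ h𝒜 ρ R θ hRρ hr hΓr hcen hpow hexp hsum hinv hne hmin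
  -- the action on the centre
  have hcentfix : ∀ y : 𝒜, ∀ g ∈ Subgroup.center Γ', θ (y ^ p ^ e) g = g := by
    intro y g hg
    have h1 : ρ (θ (y ^ p ^ e) g * g⁻¹) = 1 := by
      refine eq_one_of_irr ρ hcardK _ ?_
      intro W₀ hinv hne hmin v hv
      have hW₀nt : Nontrivial W₀ := Submodule.nontrivial_iff_ne_bot.mpr hne
      have hirr₀ := irr_restrict ρ W₀ hinv hmin
      have h2 := (hloc hinv hne hmin).1 y
      have h3 : g ∈ scal (HHChar.restrictRep ρ W₀ hinv) := by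
        refine schur hirr₀ _ ?_
        intro b
        rw [← map_mul, ← map_mul, (Subgroup.mem_center_iff.mp hg b)]
      have h4 := tw_scal hirr₀ h2 h3
      have h5 := LinearMap.congr_fun h4 (⟨ρ g⁻¹ v, hinv _ _ hv⟩ : W₀)
      have h6 := congrArg Subtype.val h5
      have h7 : ρ (θ (y ^ p ^ e) g) (ρ g⁻¹ v) = ρ g (ρ g⁻¹ v) := h6
      rw [map_mul, Module.End.mul_apply, h7, ← Module.End.mul_apply, ← map_mul, mul_inv_cancel, map_one]
      rfl
    have h2 := hρ (h1.trans (map_one ρ).symm)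
    exact mul_inv_eq_one.mp h2
  -- the commutator
  set z₁ := y₁ ^ p ^ e with hz₁
  set z₂ := y₂ ^ p ^ e with hz₂
  set c : 𝒜 := z₁ * z₂ * z₁⁻¹ * z₂⁻¹ with hc
  have hcentc : ∀ d ∈ Subgroup.center Γ', θ c d = d := by
    intro d hd
    have hinvfix : ∀ z : 𝒜, (∀ g ∈ Subgroup.center Γ', θ z g = g) → ∀ g ∈ Subgroup.center Γ', θ z⁻¹ g = g := by
      intro z hzf g hg
      rw [map_inv]
      have h1 := hzf g hg
      nth_rw 1 [← h1]
      simp
    have h1 := hcentfix y₁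
    have h2 := hcentfix y₂
    rw [hc, map_mul, map_mul, map_mul, MulAut.mul_apply, MulAut.mul_apply, MulAut.mul_apply]
    rw [hinvfix z₂ h2 d hd, hinvfix z₁ h1 d hd, h2 d hd, h1 d hd]
  have hcfix : ∀ g, θ c g = g := by
    intro g
    set d := θ c g * g⁻¹ with hd
    have hdc : d ∈ Subgroup.center Γ' := by
      rw [Subgroup.mem_center_iff]
      intro x
      have h1 : ρ (x * d * x⁻¹ * d⁻¹) = 1 := by
        refine eq_one_of_irr ρ hcardK _ ?_
        intro W₀ hinv hne hmin v hv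
        have h2 : d ∈ scal (HHChar.restrictRep ρ W₀ hinv) := (hloc hinv hne hmin).2 y₁ y₂ g
        obtain ⟨lam, hlam⟩ := h2
        set ρ₀ := HHChar.restrictRep ρ W₀ hinv with hρ₀
        have hcm : ρ₀ x * ρ₀ d = ρ₀ d * ρ₀ x := by
          rw [hlam]
          simp
        have h5 : ρ₀ (x * d * x⁻¹ * d⁻¹) = 1 := by
          rw [map_mul, map_mul, map_mul, hcm, mul_assoc (ρ₀ d), ← map_mul ρ₀ x, mul_inv_cancel, map_one, mul_one,
            ← map_mul, mul_inv_cancel, map_one]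
        have h6 := LinearMap.congr_fun h5 (⟨v, hv⟩ : W₀)
        have h7 := congrArg Subtype.val h6
        exact h7
      have h3 := hρ (h1.trans (map_one ρ).symm)
      have h4 : x * d * x⁻¹ = d := mul_inv_eq_one.mp h3
      exact (mul_inv_eq_iff_eq_mul.mp h4)
    have hpowc : ∀ k : ℕ, (θ c ^ k) g = d ^ k * g := by
      intro k
      induction k with
      | zero => simp
      | succ k ih =>
        rw [pow_succ', MulAut.mul_apply, ih, map_mul, map_pow, hcentc d hdc, pow_succ]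
        have e1 : θ c g = d * g := by rw [hd]; group
        rw [e1]
        group
    obtain ⟨m, hm⟩ := h𝒜 c
    have h1 := hpowc (p ^ m)
    rw [← map_pow, hm, map_one, MulAut.one_apply] at h1
    have h2 : d ^ p ^ m = 1 := mul_eq_right.mp h1.symm
    have h3 : orderOf d ∣ Nat.card Γ' := orderOf_dvd_natCard d
    have h4 : orderOf d ∣ p ^ m := orderOf_dvd_of_pow_eq_one h2
    have h5 := Nat.eq_one_of_dvd_coprimes (Nat.Coprime.pow_right m hΓ) h3 h4
    have h6 := orderOf_eq_one_iff.mp h5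
    exact mul_inv_eq_one.mp h6
  have h1 : θ c = 1 := by
    ext g
    exact hcfix g
  rw [hc, map_mul, map_mul, map_mul, map_inv, map_inv] at h1
  have h2 : θ z₁ * θ z₂ * (θ z₁)⁻¹ = θ z₂ := mul_inv_eq_one.mp h1
  exact mul_inv_eq_iff_eq_mul.mp h2

end Main

end Cfsg.Agent.Lib.HHE5
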