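import Mathlib
import Cfsg.Agent.Lib.HHE5
import Cfsg.Agent.Lib.HHB5
import Cfsg.Agent.Lib.FrattAct
import Cfsg.Agent.Lib.Frat
import Cfsg.Agent.S3789

set_option autoImplicit false
set_option linter.unusedSectionVars false
set_option linter.unusedVariables false
set_option linter.style.haveILetI false

/-!
Hall--Higman for Fermat primes: the top powers of the elements of a `p`-subgroup commute, for a
faithful representation in characteristic `p` of a `p`-solvable group with `O_p = 1`.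
-/

namespace Cfsg.Agent.Lib.HHE6

open Module Cfsg Cfsg.Agent.Lib.HHCrit Cfsg.Agent.Lib.HHB2 Cfsg.Agent.Lib.HHB4 Cfsg.Agent.Lib.HHB5 Cfsg.Agent.Lib.Kegel
open scoped commutatorElement TensorProduct

section Rep

variable {K : Type*} [Field K]

theorem comm_top [IsAlgClosed K] {p N : ℕ} (hpN : p = 2 ^ N + 1) (hN : 1 ≤ N) [hp : Fact p.Prime] [CharP K p]
    {V : Type*} [AddCommGroup V] [Module K V] [FiniteDimensional K V]
    {H : Type*} [Group H] [Finite H] (hsol : IsPSolvable p H) (hOp : pCore p H = ⊥)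
    (ρ : H →* End K V) (hρ : Function.Injective ρ) (S : Subgroup H) (hS : IsPGroup p S) {e : ℕ}
    (hexp : ∀ y ∈ S, y ^ p ^ (e + 1) = 1) (hsum : ∀ y ∈ S, ∑ i ∈ Finset.range (p ^ (e + 1)), ρ y ^ i = 0)
    {y₁ y₂ : H} (hy₁ : y₁ ∈ S) (hy₂ : y₂ ∈ S) : y₁ ^ p ^ e * y₂ ^ p ^ e = y₂ ^ p ^ e * y₁ ^ p ^ e := by
  classical
  by_contra hne
  have hpp : p.Prime := hp.out
  let T : Set S := {t | ∃ y : S, t = y ^ p ^ e}
  let D : Subgroup S := Subgroup.closure T
  have hDn : D.Normal := by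
    constructor
    intro n hn g
    induction hn using Subgroup.closure_induction with
    | mem x hx =>
      obtain ⟨y, rfl⟩ := hx
      exact Subgroup.subset_closure ⟨g * y * g⁻¹, by rw [conj_pow]⟩
    | one => simpa using one_mem _
    | mul x y _ _ hx hy =>
      have e1 : g * (x * y) * g⁻¹ = (g * x * g⁻¹) * (g * y * g⁻¹) := by group
      rw [e1]
      exact mul_mem hx hy
    | inv x _ hx =>
      have e1 : g * x⁻¹ * g⁻¹ = (g * x * g⁻¹)⁻¹ := by group
      rw [e1]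
      exact inv_mem hx
  have hNne : ⁅D, D⁆ ≠ ⊥ := by
    intro hb
    apply hne
    have h1 : ⁅(⟨y₁, hy₁⟩ : S) ^ p ^ e, (⟨y₂, hy₂⟩ : S) ^ p ^ e⁆ ∈ ⁅D, D⁆ :=
      Subgroup.commutator_mem_commutator (Subgroup.subset_closure ⟨_, rfl⟩) (Subgroup.subset_closure ⟨_, rfl⟩)
    rw [hb] at h1
    have h2 := Subgroup.mem_bot.mp h1
    have h3 := commutatorElement_eq_one_iff_mul_comm.mp h2
    exact congrArg Subtype.val h3
  haveI : (⁅D, D⁆).Normal := Subgroup.commutator_normal D D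
  obtain ⟨c₀, hc₀N, hc₀Z, hc₀1, hc₀p⟩ := Cfsg.Agent.S3789.exists_central_order_p hS ⁅D, D⁆ hNne
  set b : H := (c₀ : H) with hb
  have hbA : b ∈ S := c₀.2
  have hbc : ∀ a ∈ S, a * b = b * a := by
    intro a ha
    have h1 := (Subgroup.mem_center_iff.mp hc₀Z) ⟨a, ha⟩
    exact congrArg Subtype.val h1
  have hb1 : b ≠ 1 := fun h => hc₀1 (Subtype.ext h)
  have hbp : b ^ p = 1 := congrArg Subtype.val hc₀p
  set K₀ := pPrimeCore p H with hK₀def
  have hK₀n : K₀.Normal := by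
    rw [hK₀def]
    infer_instance
  have hK₀norm : S ≤ Subgroup.normalizer (K₀ : Set H) := by
    rw [Subgroup.normalizer_eq_top]
    exact le_top
  have hcopK : (Nat.card K₀).Coprime p := Cfsg.Agent.Lib.PCore.card_pPrimeCore_coprime p
  have hK₀ : ¬ K₀ ≤ Subgroup.centralizer {b} := by
    intro hle
    have hb' : b ∈ Subgroup.centralizer (K₀ : Set H) := by
      rw [Subgroup.mem_centralizer_iff]
      intro g hg
      exact (Subgroup.mem_centralizer_singleton_iff.mp (hle hg))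
    have hbK := Cfsg.Agent.Lib.QuadAbs.centralizer_pPrimeCore_le hsol hOp hb'
    apply hb1
    have h3 : orderOf (⟨b, hbK⟩ : K₀) ∣ p := orderOf_dvd_of_pow_eq_one (Subtype.ext hbp)
    have h4 : orderOf (⟨b, hbK⟩ : K₀) ∣ Nat.card K₀ := orderOf_dvd_natCard _
    have h5 := Nat.Coprime.eq_one_of_dvd (Nat.Coprime.coprime_dvd_left h4 hcopK) h3
    rw [orderOf_eq_one_iff] at h5
    exact congrArg Subtype.val h5
  obtain ⟨E, ⟨hEK, hAE, hnc⟩, hEmin⟩ := (wellFounded_lt (α := Subgroup H)).has_min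
    {E | E ≤ K₀ ∧ S ≤ Subgroup.normalizer (E : Set H) ∧ ¬ E ≤ Subgroup.centralizer {b}}
    ⟨K₀, le_rfl, hK₀norm, hK₀⟩
  have hmin : ∀ E' ≤ E, S ≤ Subgroup.normalizer (E' : Set H) → E' ≠ E →
      E' ≤ Subgroup.centralizer {b} := by
    intro E' hle hA' hne
    by_contra hcon
    exact hEmin E' ⟨hle.trans hEK, hA', hcon⟩ (lt_of_le_of_ne hle hne)
  have hcopE : (Nat.card E).Coprime p :=
    Nat.Coprime.coprime_dvd_left (Subgroup.card_dvd_of_le hEK) hcopK
  have hX : ¬ p ∣ Nat.card E := by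
    intro hd
    have := Nat.eq_one_of_dvd_coprimes hcopE hd dvd_rfl
    exact hpp.one_lt.ne' this
  obtain ⟨q, hq, hEq⟩ := isPGroup_of_minE hS hX hAE hnc hmin
  have hqf : Fact q.Prime := ⟨hq⟩
  have hpq : p ≠ q := by
    rintro rfl
    apply hnc
    obtain ⟨e', he⟩ := IsPGroup.iff_card.mp hEq
    have he0 : e' = 0 := by
      by_contra he0
      apply hX
      rw [he]
      exact dvd_pow_self p he0
    rw [he0, pow_zero] at he
    have hbot : E = ⊥ := Subgroup.card_eq_one.mp he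
    rw [hbot]
    exact bot_le
  let θ : S →* MulAut E := E.normalizerMonoidHom.comp (Subgroup.inclusion hAE)
  have hθ : ∀ (y : S) (g : E), ((θ y g : E) : H) = y * g * (y : H)⁻¹ := fun y g => rfl
  -- the Frattini subgroup of `E`
  let Fr : Subgroup H := (frattini E).map E.subtype
  have hFrE : Fr ≤ E := by
    rintro _ ⟨x, _, rfl⟩
    exact x.2
  have hFrS : S ≤ Subgroup.normalizer (Fr : Set H) := by
    intro a ha
    have key : ∀ a' (ha' : a' ∈ S), ∀ x ∈ Fr, a' * x * a'⁻¹ ∈ Fr := by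
      rintro a' ha' _ ⟨f, hf, rfl⟩
      refine ⟨θ ⟨a', ha'⟩ f, Cfsg.Agent.Lib.FrattAct.char_mem _ _ hf, rfl⟩
    refine mem_normalizer_of_conj (key a ha) ?_
    intro x hx
    have := key a⁻¹ (inv_mem ha) x hx
    simpa using this
  have hFrne : Fr ≠ E := by
    intro he
    apply hnc
    have h1 : frattini E = ⊤ := by
      rw [eq_top_iff]
      intro x _
      have h2 : (x : H) ∈ Fr := by
        rw [he]
        exact x.2
      obtain ⟨y, hy, hye⟩ := h2
      have h3 : y = x := Subtype.ext hye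
      rwa [← h3]
    have h2 : (⊥ : Subgroup E) ⊔ frattini E = ⊤ := by rw [h1, sup_top_eq]
    have h3 : (⊥ : Subgroup E) = ⊤ := frattini_nongenerating h2
    intro x hx
    have h4 : (⟨x, hx⟩ : E) ∈ (⊥ : Subgroup E) := by
      rw [h3]
      trivial
    have h5 : (⟨x, hx⟩ : E) = 1 := Subgroup.mem_bot.mp h4
    have h6 : x = 1 := congrArg Subtype.val h5
    rw [h6]
    exact one_mem _
  have hFrc := hmin Fr hFrE hFrS hFrne
  have hFrZ : ∀ f ∈ frattini E, f ∈ Subgroup.center E := by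
    intro f hf
    rw [Subgroup.mem_center_iff]
    intro a
    have h1 : (f : H) ∈ Fr := ⟨f, hf, rfl⟩
    have h2 := hFrc h1
    have h3 : (f : H) * b = b * f := Subgroup.mem_centralizer_singleton_iff.mp h2
    exact Subtype.ext (comm_of_min hpq hEq hAE hbA hbc hbp hnc hmin f.2 h3 a.2)
  have hcen : ∀ a b' : E, a * b' * a⁻¹ * b'⁻¹ ∈ Subgroup.center E := by
    intro a b'
    apply hFrZ
    apply Cfsg.Agent.Lib.Frat.commutator_le_frattini hEq
    exact Subgroup.commutator_mem_commutator (Subgroup.mem_top _) (Subgroup.mem_top _)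
  have hpow : ∀ a : E, a ^ q ∈ Subgroup.center E := fun a =>
    hFrZ _ (Cfsg.Agent.Lib.Frat.pow_mem_frattini hEq a)
  have hcomm : ∀ y₁ y₂ : S, θ (y₁ ^ p ^ e) * θ (y₂ ^ p ^ e) = θ (y₂ ^ p ^ e) * θ (y₁ ^ p ^ e) := by
    intro y₁ y₂
    refine Cfsg.Agent.Lib.HHE5.comm_rep hpN hN hcopE hS (ρ.comp E.subtype)
      (hρ.comp Subtype.val_injective) (ρ.comp S.subtype) θ ?_ hq hEq hcen hpow ?_ ?_ y₁ y₂
    · intro y g
      show ρ y * ρ g = ρ ((θ y g : E) : H) * ρ y
      rw [hθ, ← map_mul, ← map_mul]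
      congr 1
      group
    · intro y
      exact Subtype.ext (hexp y y.2)
    · intro y
      exact hsum y y.2
  -- the commutator subgroup of `D` acts trivially
  have hD1 : ∀ t ∈ T, ∀ v ∈ D, θ t * θ v = θ v * θ t := by
    rintro _ ⟨y, rfl⟩ v hv
    have h1 : D ≤ (Subgroup.centralizer {θ (y ^ p ^ e)}).comap θ := by
      rw [Subgroup.closure_le]
      rintro _ ⟨y', rfl⟩
      show θ (y' ^ p ^ e) ∈ Subgroup.centralizer {θ (y ^ p ^ e)}
      rw [Subgroup.mem_centralizer_singleton_iff]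
      exact hcomm y' y
    have h2 := h1 hv
    have h3 : θ v * θ (y ^ p ^ e) = θ (y ^ p ^ e) * θ v := Subgroup.mem_centralizer_singleton_iff.mp h2
    exact h3.symm
  have hD2 : ∀ u ∈ D, ∀ v ∈ D, θ u * θ v = θ v * θ u := by
    intro u hu v hv
    have h1 : D ≤ (Subgroup.centralizer {θ v}).comap θ := by
      rw [Subgroup.closure_le]
      intro t ht
      show θ t ∈ Subgroup.centralizer {θ v}
      rw [Subgroup.mem_centralizer_singleton_iff]
      exact hD1 t ht v hv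
    exact Subgroup.mem_centralizer_singleton_iff.mp (h1 hu)
  have hker : ⁅D, D⁆ ≤ θ.ker := by
    rw [Subgroup.commutator_le]
    intro u hu v hv
    rw [MonoidHom.mem_ker, map_commutatorElement]
    exact commutatorElement_eq_one_iff_mul_comm.mpr (hD2 u hu v hv)
  have hc₀k : θ c₀ = 1 := hker hc₀N
  apply hnc
  intro g hg
  rw [Subgroup.mem_centralizer_singleton_iff]
  have h1 := DFunLike.congr_fun hc₀k ⟨g, hg⟩
  have h2 : ((θ c₀ ⟨g, hg⟩ : E) : H) = g := congrArg Subtype.val h1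
  rw [hθ] at h2
  calc g * b = ((c₀ : H) * g * (c₀ : H)⁻¹) * b := by rw [h2]
    _ = b * g := by rw [hb]; group

theorem comm_top_field {p N : ℕ} (hpN : p = 2 ^ N + 1) (hN : 1 ≤ N) [hp : Fact p.Prime] [CharP K p]
    {V : Type*} [AddCommGroup V] [Module K V] [FiniteDimensional K V]
    {H : Type*} [Group H] [Finite H] (hsol : IsPSolvable p H) (hOp : pCore p H = ⊥)
    (ρ : H →* End K V) (hρ : Function.Injective ρ) (S : Subgroup H) (hS : IsPGroup p S) {e : ℕ}
    (hexp : ∀ y ∈ S, y ^ p ^ (e + 1) = 1) (hsum : ∀ y ∈ S, ∑ i ∈ Finset.range (p ^ (e + 1)), ρ y ^ i = 0)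
    {y₁ y₂ : H} (hy₁ : y₁ ∈ S) (hy₂ : y₂ ∈ S) : y₁ ^ p ^ e * y₂ ^ p ^ e = y₂ ^ p ^ e * y₁ ^ p ^ e := by
  let L := AlgebraicClosure K
  let φ : End K V →ₐ[K] End L (L ⊗[K] V) := Module.End.baseChangeHom K L V
  have hφinj : Function.Injective φ := LinearMap.baseChangeHom_injective K V L
  let ρ' : H →* End L (L ⊗[K] V) := (φ : End K V →* End L (L ⊗[K] V)).comp ρ
  have hρ' : ∀ y, ρ' y = φ (ρ y) := fun y => rfl
  refine comm_top (K := L) hpN hN hsol hOp ρ' (hφinj.comp hρ) S hS hexp ?_ hy₁ hy₂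
  intro y hy
  have h1 : ∑ i ∈ Finset.range (p ^ (e + 1)), ρ' y ^ i = φ (∑ i ∈ Finset.range (p ^ (e + 1)), ρ y ^ i) := by
    rw [map_sum]
    refine Finset.sum_congr rfl fun i _ => ?_
    rw [map_pow, hρ']
  rw [h1, hsum y hy, map_zero]

end Rep

section Add

variable {N' : Type*} [AddCommGroup N'] {p : ℕ} [hp : Fact p.Prime] [Module (ZMod p) N'] [Finite N']
  {H : Type*} [Group H] [Finite H]

/-- The linearization. -/
noncomputable def toE (p : ℕ) [Fact p.Prime] (N' : Type*) [AddCommGroup N'] [Module (ZMod p) N'] :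
    AddMonoid.End N' →* End (ZMod p) N' :=
  { toFun := fun a => AddMonoidHom.toZModLinearMap p (a : N' →+ N')
    map_one' := by
      ext v
      rfl
    map_mul' := by
      intro a b
      ext v
      rfl }

theorem toE_apply (a : AddMonoid.End N') (v : N') : toE p N' a v = a v := rfl

theorem toE_injective : Function.Injective (toE p N') := by
  intro a b hab
  ext v
  have h3 := LinearMap.congr_fun hab v
  simpa only [toE_apply] using h3

theorem toE_sum_apply (a : AddMonoid.End N') (n : ℕ) (v : N') :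
    (∑ i ∈ Finset.range n, (toE p N' a) ^ i) v = ∑ i ∈ Finset.range n, (a ^ i) v := by
  rw [LinearMap.sum_apply]
  refine Finset.sum_congr rfl fun i _ => ?_
  rw [← map_pow]
  rfl

theorem comm_top_add {N : ℕ} (hpN : p = 2 ^ N + 1) (hN : 1 ≤ N) (hsol : IsPSolvable p H) (hOp : pCore p H = ⊥)
    (ψ : H →* AddMonoid.End N') (hψ : Function.Injective ψ) (S : Subgroup H) (hS : IsPGroup p S) {e : ℕ}
    (hexp : ∀ y ∈ S, y ^ p ^ (e + 1) = 1) (hsum : ∀ y ∈ S, ∀ m, ∑ i ∈ Finset.range (p ^ (e + 1)), (ψ y ^ i) m = 0)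
    {y₁ y₂ : H} (hy₁ : y₁ ∈ S) (hy₂ : y₂ ∈ S) : y₁ ^ p ^ e * y₂ ^ p ^ e = y₂ ^ p ^ e * y₁ ^ p ^ e := by
  have : FiniteDimensional (ZMod p) N' := Module.Finite.of_finite
  refine comm_top_field (K := ZMod p) hpN hN hsol hOp ((toE p N').comp ψ) (toE_injective.comp hψ) S hS hexp ?_ hy₁ hy₂
  intro y hy
  ext v
  rw [MonoidHom.comp_apply, toE_sum_apply, hsum y hy]
  rfl

theorem concl_add (hp2 : p ≠ 2) (hsol : IsPSolvable p H) (hOp : pCore p H = ⊥)
    (ψ : H →* AddMonoid.End N') (hψ : Function.Injective ψ) (x : H) (n : ℕ) (hxN : x ^ p ^ (n + 1) = 1)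
    (hxz : x ^ p ^ n ≠ 1) :
    ((∃ m, ∑ i ∈ Finset.range (p ^ (n + 1)), (ψ x ^ i) m ≠ 0) ∨
      ∃ n₀ q j : ℕ, 1 ≤ n₀ ∧ n₀ ≤ n + 1 ∧ q.Prime ∧ 1 ≤ j ∧ p ^ n₀ - 1 = q ^ j ∧
        ∃ R : Subgroup H, IsPGroup q R ∧ ∃ a ∈ R, ∃ b ∈ R, a * b ≠ b * a) ∧
    ∃ m, ψ (x ^ p ^ n) (∑ i ∈ Finset.range (p ^ n), (ψ x ^ i) m) ≠ ∑ i ∈ Finset.range (p ^ n), (ψ x ^ i) m := by
  have hpp : p.Prime := hp.out
  have hp3 : 3 ≤ p := by
    have := hpp.two_le
    omega
  have hfd : FiniteDimensional (ZMod p) N' := Module.Finite.of_finite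
  have hnt : Nontrivial N' := by
    by_contra hcon
    rw [not_nontrivial_iff_subsingleton] at hcon
    apply hxz
    apply hψ
    rw [map_one]
    ext v
    exact Subsingleton.elim _ _
  set ρ₀ : H →* End (ZMod p) N' := (toE p N').comp ψ with hρ₀
  have hρinj : Function.Injective ρ₀ := toE_injective.comp hψ
  have hc := concl_of_rep (F := ZMod p) hsol hOp ρ₀ hρinj x n hxN hxz
  set X := ρ₀ x with hX
  have hk : 1 ≤ p ^ n := Nat.pow_pos hpp.pos
  have hpk : p ^ (n + 1) = p * p ^ n := by rw [pow_succ, mul_comm]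
  have hbound : ∀ {b : ℕ}, 2 * p ^ n ≤ b → IdxGE X b → IdxGE X (2 * p ^ n) := by
    intro b hb h s hs
    exact hb.trans (h s hs)
  have hmain : IdxGE X (2 * p ^ n) := by
    rcases hc with hc | ⟨n₀, q, j, h1, h2, h3, h4, h5, h6, h7⟩
    · refine hbound ?_ hc
      rw [hpk]
      exact Nat.mul_le_mul_right _ (by omega)
    · refine hbound ?_ h7
      have hAB : p ^ (n + 1 - n₀) * p ^ n₀ = p ^ (n + 1) := by
        rw [← pow_add]
        congr 1
        omega
      have hAle : p ^ (n + 1 - n₀) ≤ p ^ n := Nat.pow_le_pow_right hpp.pos (by omega)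
      have hB1 : 1 ≤ p ^ n₀ := Nat.pow_pos hpp.pos
      obtain ⟨B, hB⟩ : ∃ B, p ^ n₀ = B + 1 := ⟨p ^ n₀ - 1, by omega⟩
      rw [hB] at hAB ⊢
      simp only [Nat.add_sub_cancel]
      rw [hpk] at hAB
      have : p ^ (n + 1 - n₀) * (B + 1) = p ^ (n + 1 - n₀) * B + p ^ (n + 1 - n₀) := by ring
      nlinarith
  constructor
  · rcases hc with hc | ⟨n₀, q, j, h1, h2, h3, h4, h5, h6, h7⟩
    · left
      have hq : 1 ≤ p ^ (n + 1) := Nat.pow_pos hpp.pos
      have h1 : (X - 1) ^ (p ^ (n + 1) - 1) ≠ 0 := by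
        intro h0
        have := hc _ h0
        omega
      rw [← geom_sum_char_pow (K := ZMod p) p (n + 1)] at h1
      obtain ⟨m, hm⟩ : ∃ m, (∑ i ∈ Finset.range (p ^ (n + 1)), X ^ i) m ≠ 0 := by
        by_contra hcon
        push Not at hcon
        exact h1 (LinearMap.ext hcon)
      refine ⟨m, ?_⟩
      rw [hX, hρ₀, MonoidHom.comp_apply, toE_sum_apply] at hm
      exact hm
    · right
      exact ⟨n₀, q, j, h1, h2, h3, h4, h5, h6⟩
  · have h1 : (X - 1) ^ (2 * p ^ n - 1) ≠ 0 := by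
      intro h0
      have := hmain _ h0
      omega
    have h2 : (X - 1) ^ (2 * p ^ n - 1) = (X ^ p ^ n - 1) * ∑ i ∈ Finset.range (p ^ n), X ^ i := by
      have e1 : 2 * p ^ n - 1 = p ^ n + (p ^ n - 1) := by omega
      rw [e1, pow_add, sub_one_pow_char_pow (K := ZMod p) p n, geom_sum_char_pow (K := ZMod p) p n]
    rw [h2] at h1
    obtain ⟨m, hm⟩ : ∃ m, ((X ^ p ^ n - 1) * ∑ i ∈ Finset.range (p ^ n), X ^ i) m ≠ 0 := by
      by_contra hcon
      push Not at hcon
      exact h1 (LinearMap.ext hcon)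
    refine ⟨m, ?_⟩
    intro h0
    apply hm
    rw [Module.End.mul_apply, LinearMap.sub_apply, Module.End.one_apply, sub_eq_zero]
    have h3 : X ^ p ^ n = toE p N' (ψ (x ^ p ^ n)) := by
      rw [hX, hρ₀, ← map_pow, MonoidHom.comp_apply]
    rw [h3, toE_apply, hX, hρ₀, MonoidHom.comp_apply, toE_sum_apply]
    exact h0

end Add

section Mul

variable {M : Type*} [hM : Group M] [Finite M] {p : ℕ} [hp : Fact p.Prime]
  {H : Type*} [Group H] [Finite H]

theorem comm_top_mul (hcomm : ∀ a b : M, a * b = b * a) (hexpM : ∀ a : M, a ^ p = 1) {N : ℕ}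
    (hpN : p = 2 ^ N + 1) (hN : 1 ≤ N) (hsol : IsPSolvable p H) (hOp : pCore p H = ⊥)
    (ψ : H →* MulAut M) (hψ : Function.Injective ψ) (S : Subgroup H) (hS : IsPGroup p S) {e : ℕ}
    (hexp : ∀ y ∈ S, y ^ p ^ (e + 1) = 1) (hnm : ∀ y ∈ S, ∀ m, nm (ψ y) (p ^ (e + 1)) m = 1)
    {y₁ y₂ : H} (hy₁ : y₁ ∈ S) (hy₂ : y₂ ∈ S) : y₁ ^ p ^ e * y₂ ^ p ^ e = y₂ ^ p ^ e * y₁ ^ p ^ e := by
  letI iM : CommGroup M := { hM with mul_comm := hcomm }
  have hexp' : ∀ x : Additive M, p • x = 0 := by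
    intro x
    have h3 : p • x = Additive.ofMul ((Additive.toMul x) ^ p) := rfl
    rw [h3, hexpM]
    rfl
  letI iMod : Module (ZMod p) (Additive M) := AddCommGroup.zmodModule hexp'
  have hfin : Finite (Additive M) := inferInstanceAs (Finite M)
  let ψ' : H →* AddMonoid.End (Additive M) :=
    { toFun := fun y => MonoidHom.toAdditive ((ψ y : M ≃* M) : M →* M)
      map_one' := by
        ext v
        show Additive.ofMul (ψ 1 (Additive.toMul (Additive.ofMul v))) = Additive.ofMul v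
        rw [map_one]
        rfl
      map_mul' := by
        intro a a'
        ext v
        show Additive.ofMul (ψ (a * a') (Additive.toMul (Additive.ofMul v))) =
          Additive.ofMul (ψ a (ψ a' (Additive.toMul (Additive.ofMul v))))
        rw [map_mul]
        rfl }
  have hψ'app : ∀ (y : H) (m : M), ψ' y (Additive.ofMul m) = Additive.ofMul (ψ y m) := fun _ _ => rfl
  have hpow : ∀ (y : H) (i : ℕ) (v : M), (ψ' y ^ i) (Additive.ofMul v) = Additive.ofMul ((ψ y ^ i) v) := by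
    intro y i v
    rw [← map_pow, ← map_pow, hψ'app]
  have hψ'inj : Function.Injective ψ' := by
    intro a a' haa
    apply hψ
    ext v
    have h3 : ψ' a (Additive.ofMul v) = ψ' a' (Additive.ofMul v) := by rw [haa]
    exact Additive.ofMul.injective h3
  have hsumf : ∀ (y : H) (n : ℕ) (v : M),
      ∑ i ∈ Finset.range n, (ψ' y ^ i) (Additive.ofMul v) = Additive.ofMul (nm (ψ y) n v) := by
    intro y n v
    induction n with
    | zero => simp [nm_zero]
    | succ n ih =>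
      rw [Finset.sum_range_succ, ih, nm_succ, hpow, ofMul_mul]
  refine @comm_top_add (Additive M) _ p hp iMod hfin H _ _ N hpN hN hsol hOp ψ' hψ'inj S hS e hexp ?_ y₁ y₂ hy₁ hy₂
  intro y hy m
  have h3 := hsumf y (p ^ (e + 1)) (Additive.toMul m)
  rw [hnm y hy] at h3
  exact h3

theorem concl_mul (hcomm : ∀ a b : M, a * b = b * a) (hexpM : ∀ a : M, a ^ p = 1) (hp2 : p ≠ 2)
    (hsol : IsPSolvable p H) (hOp : pCore p H = ⊥)
    (ψ : H →* MulAut M) (hψ : Function.Injective ψ) (x : H) (n : ℕ) (hxN : x ^ p ^ (n + 1) = 1)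
    (hxz : x ^ p ^ n ≠ 1) :
    ((∃ m, nm (ψ x) (p ^ (n + 1)) m ≠ 1) ∨
      ∃ n₀ q j : ℕ, 1 ≤ n₀ ∧ n₀ ≤ n + 1 ∧ q.Prime ∧ 1 ≤ j ∧ p ^ n₀ - 1 = q ^ j ∧
        ∃ R : Subgroup H, IsPGroup q R ∧ ∃ a ∈ R, ∃ b ∈ R, a * b ≠ b * a) ∧
    ∃ m, ψ (x ^ p ^ n) (nm (ψ x) (p ^ n) m) ≠ nm (ψ x) (p ^ n) m := by
  letI iM : CommGroup M := { hM with mul_comm := hcomm }
  have hexp' : ∀ x : Additive M, p • x = 0 := by
    intro x
    have h3 : p • x = Additive.ofMul ((Additive.toMul x) ^ p) := rfl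
    rw [h3, hexpM]
    rfl
  letI iMod : Module (ZMod p) (Additive M) := AddCommGroup.zmodModule hexp'
  have hfin : Finite (Additive M) := inferInstanceAs (Finite M)
  let ψ' : H →* AddMonoid.End (Additive M) :=
    { toFun := fun y => MonoidHom.toAdditive ((ψ y : M ≃* M) : M →* M)
      map_one' := by
        ext v
        show Additive.ofMul (ψ 1 (Additive.toMul (Additive.ofMul v))) = Additive.ofMul v
        rw [map_one]
        rfl
      map_mul' := by
        intro a a'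
        ext v
        show Additive.ofMul (ψ (a * a') (Additive.toMul (Additive.ofMul v))) =
          Additive.ofMul (ψ a (ψ a' (Additive.toMul (Additive.ofMul v))))
        rw [map_mul]
        rfl }
  have hψ'app : ∀ (y : H) (m : M), ψ' y (Additive.ofMul m) = Additive.ofMul (ψ y m) := fun _ _ => rfl
  have hpow : ∀ (y : H) (i : ℕ) (v : M), (ψ' y ^ i) (Additive.ofMul v) = Additive.ofMul ((ψ y ^ i) v) := by
    intro y i v
    rw [← map_pow, ← map_pow, hψ'app]
  have hψ'inj : Function.Injective ψ' := by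
    intro a a' haa
    apply hψ
    ext v
    have h3 : ψ' a (Additive.ofMul v) = ψ' a' (Additive.ofMul v) := by rw [haa]
    exact Additive.ofMul.injective h3
  have hsumf : ∀ (y : H) (n : ℕ) (v : M),
      ∑ i ∈ Finset.range n, (ψ' y ^ i) (Additive.ofMul v) = Additive.ofMul (nm (ψ y) n v) := by
    intro y n v
    induction n with
    | zero => simp [nm_zero]
    | succ n ih =>
      rw [Finset.sum_range_succ, ih, nm_succ, hpow, ofMul_mul]
  obtain ⟨h1, m, hm⟩ := @concl_add (Additive M) _ p hp iMod hfin H _ _ hp2 hsol hOp ψ' hψ'inj x n hxN hxz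
  constructor
  · rcases h1 with ⟨m', hm'⟩ | h1
    · left
      refine ⟨Additive.toMul m', ?_⟩
      intro h0
      apply hm'
      have h3 := hsumf x (p ^ (n + 1)) (Additive.toMul m')
      rw [h0] at h3
      exact h3
    · right
      exact h1
  · refine ⟨Additive.toMul m, ?_⟩
    intro h0
    apply hm
    have h3 := hsumf x (p ^ n) (Additive.toMul m)
    have h4 : (∑ i ∈ Finset.range (p ^ n), (ψ' x ^ i) m) = Additive.ofMul (nm (ψ x) (p ^ n) (Additive.toMul m)) := h3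
    rw [h4, hψ'app, h0]

end Mul

end Cfsg.Agent.Lib.HHE6
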