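import Mathlib
import Cfsg.Agent.Lib.HHCrit
import Cfsg.Agent.Lib.Kegel

set_option autoImplicit false
set_option linter.unusedSectionVars false
set_option linter.unusedVariables false
set_option linter.style.haveILetI false

/-!
Recognition of the wreath product `C_p ≀ C_p` among sections.
-/

namespace Cfsg.Agent.Lib.HHWr

open Module Cfsg Cfsg.Agent.Lib.HHCrit Cfsg.Agent.Lib.Kegel

/-- The wreath product, in the form used in the statement. -/
def IsWr (p : ℕ) (W : Type*) [Group W] : Prop :=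
  ∃ (B : Subgroup W) (t : W), B.Normal ∧ IsMulCommutative B ∧ (∀ b ∈ B, b ^ p = 1) ∧ Nat.card B = p ^ p ∧
    orderOf t = p ∧ t ∉ B ∧ Nat.card W = p ^ (p + 1) ∧
    Nat.card ↥(B ⊓ Subgroup.centralizer ({t} : Set W)) = p

theorem isWr_congr {p : ℕ} {W W' : Type*} [Group W] [Group W'] (e : W ≃* W') (h : IsWr p W) : IsWr p W' := by
  obtain ⟨B, t, hBn, hBc, hBe, hBcard, hto, htB, hWcard, hF⟩ := h
  refine ⟨B.map e.toMonoidHom, e t, ?_, ?_, ?_, ?_, ?_, ?_, ?_, ?_⟩
  · exact Subgroup.Normal.map hBn _ e.surjective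
  · refine ⟨⟨?_⟩⟩
    rintro ⟨_, a, ha, rfl⟩ ⟨_, b, hb, rfl⟩
    have h3 := hBc.is_comm.comm (⟨a, ha⟩ : B) ⟨b, hb⟩
    have h4 : a * b = b * a := congrArg Subtype.val h3
    apply Subtype.ext
    show e a * e b = e b * e a
    rw [← map_mul, ← map_mul, h4]
  · rintro _ ⟨b, hb, rfl⟩
    show (e b) ^ p = 1
    rw [← map_pow, hBe b hb, map_one]
  · rw [Subgroup.card_map_of_injective e.injective, hBcard]
  · rw [MulEquiv.orderOf_eq, hto]
  · rintro ⟨b, hb, hbe⟩
    have : b = t := e.injective hbe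
    exact htB (this ▸ hb)
  · rw [← hWcard]
    exact Nat.card_congr e.symm.toEquiv
  · rw [← hF]
    have h3 : B.map e.toMonoidHom ⊓ Subgroup.centralizer ({e t} : Set W') =
        (B ⊓ Subgroup.centralizer ({t} : Set W)).map e.toMonoidHom := by
      ext y
      constructor
      · rintro ⟨⟨b, hb, rfl⟩, hc⟩
        refine ⟨b, ⟨hb, ?_⟩, rfl⟩
        have hc' : e b * e t = e t * e b := Subgroup.mem_centralizer_singleton_iff.mp hc
        refine Subgroup.mem_centralizer_singleton_iff.mpr ?_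
        apply e.injective
        rw [map_mul, map_mul]
        exact hc'
      · rintro ⟨b, ⟨hb, hc⟩, rfl⟩
        refine ⟨⟨b, hb, rfl⟩, ?_⟩
        have hc' : b * t = t * b := Subgroup.mem_centralizer_singleton_iff.mp hc
        refine Subgroup.mem_centralizer_singleton_iff.mpr ?_
        show e b * e t = e t * e b
        rw [← map_mul, ← map_mul, hc']
    rw [h3, Subgroup.card_map_of_injective e.injective]

/-- A copy in `Type`. -/
theorem exists_small_copy {p : ℕ} {W : Type*} [Group W] [Finite W] (h : IsWr p W) :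
    ∃ (W' : Type) (_ : Group W') (_ : Finite W') (e : W ≃* W'), IsWr p W' := by
  classical
  have : Small.{0} W := Countable.toSmall W
  let e : W ≃* Shrink.{0} W := (Shrink.mulEquiv (α := W)).symm
  exact ⟨Shrink.{0} W, inferInstance, Finite.of_equiv W e.toEquiv, e, isWr_congr e h⟩

section Jordan

variable {K : Type*} [Field K] {A : Type*} [AddCommGroup A] [Module K A] [FiniteDimensional K A]

theorem finrank_comap_le (f : End K A) (W : Submodule K A) :
    finrank K (W.comap f) ≤ finrank K W + finrank K (LinearMap.ker f) := by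
  let g : (W.comap f) →ₗ[K] W := f.restrict (p := W.comap f) (q := W) (fun x hx => hx)
  have h := g.finrank_range_add_finrank_ker
  have h1 : finrank K (LinearMap.range g) ≤ finrank K W := Submodule.finrank_le _
  have h2 : finrank K (LinearMap.ker g) ≤ finrank K (LinearMap.ker f) := by
    let j : (LinearMap.ker g) →ₗ[K] (LinearMap.ker f) :=
      ((W.comap f).subtype.comp (LinearMap.ker g).subtype).codRestrict (LinearMap.ker f) (by
        intro x
        have h3 : g x = 0 := x.2
        have h4 := congrArg Subtype.val h3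
        exact h4)
    refine LinearMap.finrank_le_finrank_of_injective (f := j) ?_
    intro a b hab
    apply Subtype.ext
    apply Subtype.ext
    have h5 : ((j a : LinearMap.ker f) : A) = (j b : LinearMap.ker f) := congrArg Subtype.val hab
    exact h5
  omega

theorem finrank_ker_pow_le (u : End K A) (k : ℕ) :
    finrank K (LinearMap.ker (u ^ k)) ≤ k * finrank K (LinearMap.ker u) := by
  induction k with
  | zero =>
    have h : LinearMap.ker (1 : End K A) = ⊥ := LinearMap.ker_eq_bot.mpr Function.injective_id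
    rw [pow_zero, h]
    simp
  | succ k ih =>
    have h1 : LinearMap.ker (u ^ (k + 1)) = (LinearMap.ker (u ^ k)).comap u := by
      rw [pow_succ]
      rfl
    rw [h1]
    have h2 := finrank_comap_le u (LinearMap.ker (u ^ k))
    rw [add_mul, one_mul]
    omega

end Jordan

theorem card_of_jordan {N : Type*} [AddCommGroup N] {p : ℕ} [hp : Fact p.Prime] [Module (ZMod p) N] [Finite N]
    (X : AddMonoid.End N) (hX : X ^ p = 1) (a : N) (ha : ∑ i ∈ Finset.range p, (X ^ i) a ≠ 0)
    (f : N) (hf0 : f ≠ 0) (hf : ∀ b, X b = b → ∃ n : ℕ, b = n • f) : Nat.card N = p ^ p := by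
  have hpp : p.Prime := hp.out
  have hfd : FiniteDimensional (ZMod p) N := Module.Finite.of_finite
  let toE : AddMonoid.End N →* End (ZMod p) N :=
    { toFun := fun a => AddMonoidHom.toZModLinearMap p (a : N →+ N)
      map_one' := by
        ext v
        rfl
      map_mul' := by
        intro a b
        ext v
        rfl }
  have htoE : ∀ (a : AddMonoid.End N) (v : N), toE a v = a v := fun _ _ => rfl
  set Y := toE X with hY
  have hYp : Y ^ p = 1 := by
    rw [hY, ← map_pow, hX, map_one]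
  set u := Y - 1 with hu
  have hup : u ^ p = 0 := by
    have h3 := sub_one_pow_char_pow (K := ZMod p) p 1 Y
    rw [pow_one, hYp, sub_self] at h3
    exact h3
  have hsum := geom_sum_char_pow (K := ZMod p) p 1 Y
  rw [pow_one] at hsum
  have hup1 : u ^ (p - 1) ≠ 0 := by
    rw [hu, ← hsum]
    intro h0
    apply ha
    have h3 := LinearMap.congr_fun h0 a
    rw [LinearMap.sum_apply] at h3
    refine Eq.trans ?_ h3
    refine Finset.sum_congr rfl fun i _ => ?_
    rw [hY, ← map_pow]
    rfl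
  have hlow : p ≤ finrank (ZMod p) N := by
    by_contra hlt
    push Not at hlt
    have h3 := Module.End.ker_pow_le_ker_pow_finrank u p
    rw [hup, LinearMap.ker_zero] at h3
    have h4 : u ^ finrank (ZMod p) N = 0 := by
      rw [eq_top_iff.mpr h3 |> LinearMap.ker_eq_top.mp]
    exact hup1 (pow_eq_zero_of_le (by omega) h4)
  have hkeru : finrank (ZMod p) (LinearMap.ker u) ≤ 1 := by
    have h3 : LinearMap.ker u ≤ Submodule.span (ZMod p) {f} := by
      intro b hb
      have h4 : u b = 0 := hb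
      have h5 : X b = b := by
        rw [hu, LinearMap.sub_apply, sub_eq_zero, hY, htoE] at h4
        exact h4
      obtain ⟨n, hn⟩ := hf b h5
      rw [hn]
      exact AddSubmonoid.nsmul_mem _ (Submodule.mem_span_singleton_self f) n
    have h4 := Submodule.finrank_mono h3
    rwa [finrank_span_singleton hf0] at h4
  have hup2 : finrank (ZMod p) N ≤ p := by
    have h3 := finrank_ker_pow_le u p
    rw [hup, LinearMap.ker_zero, finrank_top] at h3
    calc finrank (ZMod p) N ≤ p * finrank (ZMod p) (LinearMap.ker u) := h3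
      _ ≤ p * 1 := Nat.mul_le_mul_left _ hkeru
      _ = p := mul_one p
  have hfr : finrank (ZMod p) N = p := le_antisymm hup2 hlow
  rw [Module.natCard_eq_pow_finrank (K := ZMod p), Nat.card_zmod, hfr]

theorem card_of_norm {B : Type*} [hB : Group B] [Finite B] (hcomm : ∀ a b : B, a * b = b * a) {p : ℕ}
    [hp : Fact p.Prime] (hexp : ∀ a : B, a ^ p = 1) (τ : MulAut B) (hτ : τ ^ p = 1) (a : B)
    (ha : nm τ p a ≠ 1) (f : B) (hf1 : f ≠ 1) (hf : ∀ b, τ b = b → b ∈ Subgroup.zpowers f) :
    Nat.card B = p ^ p := by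
  classical
  letI iM : CommGroup B := { hB with mul_comm := hcomm }
  have hexp' : ∀ x : Additive B, p • x = 0 := by
    intro x
    have h3 : p • x = Additive.ofMul ((Additive.toMul x) ^ p) := rfl
    rw [h3, hexp]
    rfl
  letI iMod : Module (ZMod p) (Additive B) := AddCommGroup.zmodModule hexp'
  have hfin : Finite (Additive B) := inferInstanceAs (Finite B)
  let X : AddMonoid.End (Additive B) := MonoidHom.toAdditive ((τ : B ≃* B) : B →* B)
  have hXapp : ∀ v : B, X (Additive.ofMul v) = Additive.ofMul (τ v) := fun _ => rfl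
  have hpow : ∀ (i : ℕ) (v : B), (X ^ i) (Additive.ofMul v) = Additive.ofMul ((τ ^ i) v) := by
    intro i v
    induction i generalizing v with
    | zero => rfl
    | succ i ih =>
      rw [pow_succ, pow_succ, MulAut.mul_apply]
      show (X ^ i) (X (Additive.ofMul v)) = _
      rw [hXapp, ih]
  have hsum : ∀ (n : ℕ) (v : B), ∑ i ∈ Finset.range n, (X ^ i) (Additive.ofMul v) = Additive.ofMul (nm τ n v) := by
    intro n v
    induction n with
    | zero => simp [nm_zero]
    | succ n ih =>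
      rw [Finset.sum_range_succ, ih, nm_succ, hpow, ofMul_mul]
  have hXp : X ^ p = 1 := by
    ext v
    have h3 := hpow p v
    rw [hτ] at h3
    exact h3
  refine Eq.trans ?_ (@card_of_jordan (Additive B) _ p hp iMod hfin X hXp (Additive.ofMul a) ?_ (Additive.ofMul f) ?_ ?_)
  · rfl
  · rw [hsum]
    intro h0
    exact ha (Additive.ofMul.injective h0)
  · intro h0
    exact hf1 (Additive.ofMul.injective h0)
  · intro b hb
    have h3 : τ (Additive.toMul b) = Additive.toMul b := by
      apply Additive.ofMul.injective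
      rw [← hXapp]
      exact hb
    have h4 := hf _ h3
    obtain ⟨k, hk⟩ := (mem_powers_iff_mem_zpowers).mpr h4
    refine ⟨k, ?_⟩
    apply Additive.toMul.injective
    exact hk.symm

section NmComm

variable {B : Type*} [Group B] (hcomm : ∀ a b : B, a * b = b * a) (τ : MulAut B)

include hcomm

theorem nm_mul' (n : ℕ) (x y : B) : nm τ n (x * y) = nm τ n x * nm τ n y := by
  induction n with
  | zero => simp [nm_zero]
  | succ n ih =>
    rw [nm_succ, nm_succ, nm_succ, ih, map_mul]
    have h3 := hcomm (nm τ n y) ((τ ^ n) x)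
    calc nm τ n x * nm τ n y * ((τ ^ n) x * (τ ^ n) y)
        = nm τ n x * (nm τ n y * (τ ^ n) x) * (τ ^ n) y := by group
      _ = nm τ n x * ((τ ^ n) x * nm τ n y) * (τ ^ n) y := by rw [h3]
      _ = _ := by group

theorem nm_one' (n : ℕ) : nm τ n (1 : B) = 1 := by
  induction n with
  | zero => simp [nm_zero]
  | succ n ih => rw [nm_succ, ih, map_one, one_mul]

theorem nm_pow' (n : ℕ) (x : B) (k : ℕ) : nm τ n (x ^ k) = (nm τ n x) ^ k := by
  induction k with
  | zero => simp [nm_one' hcomm]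
  | succ k ih => rw [pow_succ, nm_mul' hcomm, ih, pow_succ]

theorem nm_inv' (n : ℕ) (x : B) : nm τ n x⁻¹ = (nm τ n x)⁻¹ := by
  have h3 := nm_mul' hcomm τ n x⁻¹ x
  rw [inv_mul_cancel, nm_one' hcomm] at h3
  exact eq_inv_of_mul_eq_one_left h3.symm

theorem nm_fix {n : ℕ} (hn : τ ^ n = 1) (x : B) : τ (nm τ n x) = nm τ n x := by
  have h3 := nm_succ τ n x
  rw [nm_succ', hn] at h3
  simp only [MulAut.one_apply] at h3
  rw [hcomm (nm τ n x) x] at h3
  exact mul_left_cancel h3

end NmComm

theorem pow_conj_formula {G : Type*} [Group G] (x u : G) (k : ℕ) :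
    (u * x) ^ k = nm (MulAut.conj x) k u * x ^ k := by
  induction k with
  | zero => simp [nm_zero]
  | succ k ih =>
    rw [pow_succ, ih, nm_succ, ← map_pow, MulAut.conj_apply, pow_succ]
    group

theorem coe_nm_conjNormal {G : Type*} [Group G] (R : Subgroup G) [R.Normal] (x : G) (k : ℕ) (u : R) :
    ((nm (MulAut.conjNormal x) k u : R) : G) = nm (MulAut.conj x) k (u : G) := by
  induction k with
  | zero => rfl
  | succ k ih =>
    rw [nm_succ, nm_succ, Subgroup.coe_mul, ih, ← map_pow, ← map_pow, MulAut.conjNormal_apply]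
    rfl

theorem wr_final {W₀ : Type*} [Group W₀] [Finite W₀] {p : ℕ} [hp : Fact p.Prime]
    (B : Subgroup W₀) [hBn : B.Normal] (hcomm : ∀ a ∈ B, ∀ b ∈ B, a * b = b * a)
    (hexp : ∀ b ∈ B, b ^ p = 1)
    (t : W₀) (ht : t ∉ B) (htp : t ^ p ∈ B) (hgen : ∀ g, ∃ b ∈ B, ∃ i : ℕ, g = b * t ^ i)
    (a : W₀) (ha : a ∈ B) (hw : nm (MulAut.conj t) p a ≠ 1)
    (hmin : ∀ S : Subgroup W₀, S.Normal → S ≤ B → S ≠ ⊥ → nm (MulAut.conj t) p a ∈ S) :
    IsWr p W₀ := by
  classical
  have hpp : p.Prime := hp.out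
  let τ : MulAut B := MulAut.conjNormal t
  have hcommB : ∀ x y : B, x * y = y * x := fun x y => Subtype.ext (hcomm x x.2 y y.2)
  have hτp : τ ^ p = 1 := by
    have h3 : τ ^ p = MulAut.conjNormal (t ^ p) := by simp [τ]
    rw [h3]
    ext y
    rw [MulAut.conjNormal_apply, hcomm _ htp _ y.2]
    simp
  let a' : B := ⟨a, ha⟩
  set w' : B := nm τ p a' with hw'
  have hw'coe : (w' : W₀) = nm (MulAut.conj t) p a := coe_nm_conjNormal B t p a'
  set w : W₀ := nm (MulAut.conj t) p a with hwdef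
  have hwfix : τ w' = w' := nm_fix hcommB τ hτp a'
  have hwt : t * w * t⁻¹ = w := by
    rw [← hw'coe]
    exact congrArg Subtype.val hwfix
  have hwB : w ∈ B := by
    rw [← hw'coe]
    exact w'.2
  have hwp : w ^ p = 1 := hexp w hwB
  have hwo : orderOf w = p := orderOf_eq_prime hwp hw
  have hF : ∀ f ∈ B, t * f * t⁻¹ = f → f ∈ Subgroup.zpowers w := by
    intro f hf hft
    by_cases hf1 : f = 1
    · rw [hf1]
      exact one_mem _
    have hfc : ∀ g, g * f * g⁻¹ = f := by
      intro g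
      obtain ⟨b, hb, i, rfl⟩ := hgen g
      have h1 : ∀ i : ℕ, t ^ i * f * (t ^ i)⁻¹ = f := by
        intro i
        induction i with
        | zero => simp
        | succ i ih =>
          calc t ^ (i + 1) * f * (t ^ (i + 1))⁻¹ = t * (t ^ i * f * (t ^ i)⁻¹) * t⁻¹ := by
                rw [pow_succ']
                group
            _ = f := by rw [ih, hft]
      calc b * t ^ i * f * (b * t ^ i)⁻¹ = b * (t ^ i * f * (t ^ i)⁻¹) * b⁻¹ := by group
        _ = b * f * b⁻¹ := by rw [h1]
        _ = f := by rw [hcomm b hb f hf]; group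
    have hSn : (Subgroup.zpowers f).Normal := by
      refine ⟨?_⟩
      intro n hn g
      obtain ⟨k, rfl⟩ := Subgroup.mem_zpowers_iff.mp hn
      have h3 : g * f ^ k * g⁻¹ = (g * f * g⁻¹) ^ k := by
        rw [conj_zpow]
      rw [h3, hfc]
      exact Subgroup.zpow_mem_zpowers f k
    have hS : Subgroup.zpowers f ≤ B := Subgroup.zpowers_le.mpr hf
    have hSne : Subgroup.zpowers f ≠ ⊥ := by
      rwa [Ne, Subgroup.zpowers_eq_bot]
    have h2 := hmin _ hSn hS hSne
    have h3 : Subgroup.zpowers w ≤ Subgroup.zpowers f := Subgroup.zpowers_le.mpr h2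
    have hfo : orderOf f = p := orderOf_eq_prime (hexp f hf) hf1
    have h4 : Subgroup.zpowers w = Subgroup.zpowers f :=
      Subgroup.eq_of_le_of_card_ge h3 (by rw [Nat.card_zpowers, Nat.card_zpowers, hwo, hfo])
    rw [h4]
    exact Subgroup.mem_zpowers f
  -- the `p`-th power of `t`
  have hc : t ^ p ∈ Subgroup.zpowers w := by
    refine hF _ htp ?_
    rw [← pow_succ', mul_inv_eq_iff_eq_mul, pow_succ]
  obtain ⟨k, hk⟩ := (mem_powers_iff_mem_zpowers).mpr hc
  have hk' : w ^ k = t ^ p := hk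
  set b : W₀ := a ^ k with hb
  have hbB : b ∈ B := pow_mem ha k
  let t' : W₀ := b⁻¹ * t
  have ht'p : t' ^ p = 1 := by
    have h3 := pow_conj_formula t b⁻¹ p
    have h4 : nm (MulAut.conj t) p b⁻¹ = (w ^ k)⁻¹ := by
      have h5 := coe_nm_conjNormal B t p (a' ^ k)⁻¹
      have h6 : (((a' ^ k)⁻¹ : B) : W₀) = b⁻¹ := rfl
      rw [h6] at h5
      have h7 : nm τ p (a' ^ k)⁻¹ = (w' ^ k)⁻¹ := by
        rw [nm_inv' hcommB, nm_pow' hcommB]
      rw [← h5]
      show ((nm τ p (a' ^ k)⁻¹ : B) : W₀) = _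
      rw [h7, Subgroup.coe_inv, Subgroup.coe_pow, hw'coe]
    show (b⁻¹ * t) ^ p = 1
    rw [h3, h4, hk']
    simp
  have ht'B : t' ∉ B := by
    intro h3
    apply ht
    have h4 : t = b * t' := by
      show t = b * (b⁻¹ * t)
      group
    rw [h4]
    exact mul_mem hbB h3
  have ht'1 : t' ≠ 1 := fun h3 => ht'B (h3 ▸ one_mem B)
  have ht'o : orderOf t' = p := orderOf_eq_prime ht'p ht'1
  have hFt : B ⊓ Subgroup.centralizer ({t'} : Set W₀) = Subgroup.zpowers w := by
    apply le_antisymm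
    · rintro g ⟨hgB, hgc⟩
      replace hgc := Subgroup.mem_centralizer_singleton_iff.mp hgc
      have h3 : g * t = t * g := by
        have h4 : g * (b⁻¹ * t) = b⁻¹ * t * g := hgc
        have h5 : g * b⁻¹ = b⁻¹ * g := hcomm g hgB _ (inv_mem hbB)
        have h6 : b⁻¹ * (g * t) = b⁻¹ * (t * g) := by
          calc b⁻¹ * (g * t) = (b⁻¹ * g) * t := by group
            _ = (g * b⁻¹) * t := by rw [h5]
            _ = g * (b⁻¹ * t) := by group
            _ = b⁻¹ * t * g := h4
            _ = b⁻¹ * (t * g) := by group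
        exact mul_left_cancel h6
      refine hF g hgB ?_
      rw [← h3]
      group
    · rw [Subgroup.zpowers_le]
      refine ⟨hwB, ?_⟩
      refine Subgroup.mem_centralizer_singleton_iff.mpr ?_
      have h3 : w * t = t * w := by
        calc w * t = (t * w * t⁻¹) * t := by rw [hwt]
          _ = t * w := by group
      have h5 : w * b⁻¹ = b⁻¹ * w := hcomm w hwB _ (inv_mem hbB)
      show w * (b⁻¹ * t) = b⁻¹ * t * w
      calc w * (b⁻¹ * t) = (w * b⁻¹) * t := by group
        _ = (b⁻¹ * w) * t := by rw [h5]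
        _ = b⁻¹ * (w * t) := by group
        _ = b⁻¹ * (t * w) := by rw [h3]
        _ = b⁻¹ * t * w := by group
  have hBcard : Nat.card B = p ^ p := by
    refine card_of_norm hcommB (fun x => Subtype.ext (hexp x x.2)) τ hτp a' ?_ w' ?_ ?_
    · intro h3
      apply hw
      rw [← hw'coe]
      show ((nm τ p a' : B) : W₀) = 1
      rw [h3]
      rfl
    · intro h3
      apply hw
      rw [← hw'coe, h3]
      rfl
    · intro x hx
      have h3 : t * (x : W₀) * t⁻¹ = x := congrArg Subtype.val hx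
      have h4 := hF x x.2 h3
      obtain ⟨j, hj⟩ := Subgroup.mem_zpowers_iff.mp h4
      refine Subgroup.mem_zpowers_iff.mpr ⟨j, ?_⟩
      apply Subtype.ext
      rw [Subgroup.coe_zpow, hw'coe]
      exact hj
  have hindex : Nat.card (W₀ ⧸ B) = p := by
    have h3 : ((t : W₀) : W₀ ⧸ B) ^ p = 1 := by
      rw [← QuotientGroup.mk_pow]
      exact (QuotientGroup.eq_one_iff _).mpr htp
    have h4 : ((t : W₀) : W₀ ⧸ B) ≠ 1 := by
      intro h0
      exact ht ((QuotientGroup.eq_one_iff _).mp h0)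
    have h5 : orderOf ((t : W₀) : W₀ ⧸ B) = p := orderOf_eq_prime h3 h4
    rw [← h5]
    symm
    apply orderOf_eq_card_of_forall_mem_zpowers
    intro y
    obtain ⟨g, rfl⟩ := QuotientGroup.mk_surjective y
    obtain ⟨b', hb', i, rfl⟩ := hgen g
    rw [QuotientGroup.mk_mul, (QuotientGroup.eq_one_iff _).mpr hb', one_mul, QuotientGroup.mk_pow]
    exact Subgroup.npow_mem_zpowers _ i
  refine ⟨B, t', hBn, ⟨⟨?_⟩⟩, hexp, hBcard, ht'o, ht'B, ?_, ?_⟩
  · intro x y
    exact hcommB x y
  · rw [Subgroup.card_eq_card_quotient_mul_card_subgroup B, hindex, hBcard, pow_succ']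
  · rw [hFt, Nat.card_zpowers, hwo]

theorem map_nm_conj {X Y : Type*} [Group X] [Group Y] (f : X →* Y) (t u : X) (k : ℕ) :
    f (nm (MulAut.conj t) k u) = nm (MulAut.conj (f t)) k (f u) := by
  induction k with
  | zero => simp [nm_zero]
  | succ k ih =>
    rw [nm_succ, nm_succ, map_mul, ih, ← map_pow, ← map_pow, MulAut.conj_apply, MulAut.conj_apply]
    simp

theorem wr_quot {W₁ : Type*} [Group W₁] [Finite W₁] {p : ℕ} [hp : Fact p.Prime]
    (B D : Subgroup W₁) [hBn : B.Normal] [hDn : D.Normal] (hDB : D ≤ B)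
    (hc : ∀ a ∈ B, ∀ b ∈ B, a * b * a⁻¹ * b⁻¹ ∈ D) (he : ∀ b ∈ B, b ^ p ∈ D)
    (t : W₁) (ht : t ∉ B) (htp : t ^ p ∈ B) (hgen : ∀ g, ∃ b ∈ B, ∃ i : ℕ, g = b * t ^ i)
    (a : W₁) (ha : a ∈ B) (hw : nm (MulAut.conj t) p a ∉ D) :
    ∃ (N : Subgroup W₁) (_ : N.Normal), IsWr p (W₁ ⧸ N) := by
  classical
  set w := nm (MulAut.conj t) p a with hwdef
  obtain ⟨N, ⟨hNn, hDN, hNB, hwN⟩, hNmax⟩ := (wellFounded_gt (α := Subgroup W₁)).has_min
    {S | S.Normal ∧ D ≤ S ∧ S ≤ B ∧ w ∉ S} ⟨D, hDn, le_rfl, hDB, hw⟩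
  refine ⟨N, hNn, ?_⟩
  let π : W₁ →* W₁ ⧸ N := QuotientGroup.mk' N
  have hπ : Function.Surjective π := QuotientGroup.mk'_surjective N
  have hker : ∀ g, π g = 1 ↔ g ∈ N := fun g => QuotientGroup.eq_one_iff g
  haveI hB₀n : (B.map π).Normal := Subgroup.Normal.map hBn π hπ
  refine wr_final (B.map π) ?_ ?_ (π t) ?_ ?_ ?_ (π a) ⟨a, ha, rfl⟩ ?_ ?_
  · rintro _ ⟨x, hx, rfl⟩ _ ⟨y, hy, rfl⟩
    have h3 : π (x * y * x⁻¹ * y⁻¹) = 1 := (hker _).mpr (hDN (hc x hx y hy))
    rw [map_mul, map_mul, map_mul, map_inv, map_inv] at h3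
    have h4 := mul_inv_eq_one.mp h3
    exact mul_inv_eq_iff_eq_mul.mp h4
  · rintro _ ⟨x, hx, rfl⟩
    rw [← map_pow]
    exact (hker _).mpr (hDN (he x hx))
  · rintro ⟨b, hb, hbe⟩
    apply ht
    have h3 : b⁻¹ * t ∈ N := by
      rw [← hker, map_mul, map_inv, hbe]
      simp
    have h4 : t = b * (b⁻¹ * t) := by group
    rw [h4]
    exact mul_mem hb (hNB h3)
  · rw [← map_pow]
    exact ⟨_, htp, rfl⟩
  · intro g
    obtain ⟨g', rfl⟩ := hπ g
    obtain ⟨b, hb, i, rfl⟩ := hgen g'
    exact ⟨π b, ⟨b, hb, rfl⟩, i, by rw [map_mul, map_pow]⟩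
  · rw [← map_nm_conj]
    intro h0
    exact hwN ((hker _).mp h0)
  · intro S hSn hSB hSne
    rw [← map_nm_conj]
    by_contra hcon
    have hS' : (S.comap π).Normal := Subgroup.Normal.comap hSn π
    have hNS : N ≤ S.comap π := by
      intro g hg
      rw [Subgroup.mem_comap, (hker g).mpr hg]
      exact one_mem S
    have hS'B : S.comap π ≤ B := by
      intro g hg
      obtain ⟨b, hb, hbe⟩ := hSB hg
      have h3 : b⁻¹ * g ∈ N := by
        rw [← hker, map_mul, map_inv, hbe]
        simp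
      have h4 : g = b * (b⁻¹ * g) := by group
      rw [h4]
      exact mul_mem hb (hNB h3)
    have hlt := hNmax (S.comap π) ⟨hS', hDN.trans hNS, hS'B, hcon⟩
    have heq : S.comap π = N := by
      by_contra hne
      exact hlt (lt_of_le_of_ne hNS (Ne.symm hne))
    apply hSne
    rw [eq_bot_iff]
    intro x hx
    obtain ⟨g, rfl⟩ := hπ x
    have h3 : g ∈ S.comap π := hx
    rw [heq] at h3
    exact (hker g).mpr h3

end Cfsg.Agent.Lib.HHWr
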