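import Cfsg.Agent.TcData.HN.Fin
import Cfsg.Agent.TcData.HNH.Fin

/-!
# The Harada-Norton group: words and points

Elements of the group are given by signed words in the generators, and the action on 1539000 points is checked with
the programs of the generators.
-/

set_option autoImplicit false
set_option maxRecDepth 100000

namespace Cfsg.Agent.Lib.HNBase

open Cfsg.Spor Cfsg.Agent.Lib.TcFacts Cfsg.Agent.Lib.TcBits Cfsg.Agent.Lib.TcPres Cfsg.Agent.Lib.TcChain
  Cfsg.Spor.HN Cfsg.Agent.TcData.HN Cfsg.Agent.TcData.HN.I1539000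

/-- the group -/
abbrev GO : Type := PresentedGroup RR

theorem card_GO : Nat.card GO = 273030912000000 := Cfsg.Agent.TcData.HN.Fin.card

theorem inj_Phi : Function.Injective Phi := Cfsg.Agent.TcData.HN.Fin.hInjPhi

instance : Finite GO := Cfsg.Agent.TcData.HN.Fin.instFinite

/-! ### words -/

/-- the element of a word -/
noncomputable def elt (L : List (Gen × Bool)) : GO := PresentedGroup.mk RR (FreeGroup.mk L)

theorem elt_nil : elt [] = 1 := map_one _

theorem elt_append (u v : List (Gen × Bool)) : elt (u ++ v) = elt u * elt v := by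
  simp only [elt]
  rw [← map_mul, FreeGroup.mul_mk]

/-- the inverse word -/
def invW (L : List (Gen × Bool)) : List (Gen × Bool) := (L.map fun p => (p.1, !p.2)).reverse

theorem elt_invW (L : List (Gen × Bool)) : elt (invW L) = (elt L)⁻¹ := by
  simp only [elt]
  rw [← map_inv, FreeGroup.inv_mk]
  rfl

/-- the permutation of a word -/
noncomputable abbrev wP (L : List (Gen × Bool)) : Equiv.Perm ℕ := wordPerm (sgnProg pr) L

theorem Phi_elt (L : List (Gen × Bool)) : Phi (elt L) = wP L := by
  rw [wP, wordPerm_sgn hv]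
  show repOf RR pr hR (PresentedGroup.mk RR (FreeGroup.mk L)) = _
  rw [repOf_mk hR hv, ← lift_eq_wordPerm hv, FreeGroup.lift_mk]

theorem hvs (L : List (Gen × Bool)) : ∀ a ∈ L, validProg (2 ^ 21) (sgnProg pr a) = true :=
  fun a _ => valid_sgnProg hv a

/-- the image of a point from a mask -/
theorem wP_apply {L : List (Gen × Bool)} {p q : ℕ} (h : wordApply (sgnProg pr) L (2 ^ q) = 2 ^ p) :
    wP L p = q := by
  have h1 := testBit_wordApply _ _ L (hvs L) (2 ^ q) p
  rw [h, Nat.testBit_two_pow_self, Nat.testBit_two_pow] at h1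
  exact (of_decide_eq_true h1.symm).symm

/-- a word is trivial by its action on the slices -/
theorem one_of_slices {L : List (Gen × Bool)}
    (h : ∀ j, j < 21 → wordApply (sgnProg pr) L (slice 21 j) = slice 21 j) : elt L = 1 := by
  apply inj_Phi
  rw [Phi_elt, map_one]
  exact wordPerm_eq_one 21 _ _ (hvs L) h

/-- the check that a word fixes a point -/
noncomputable def fixAt (L : List (Gen × Bool)) (p : ℕ) : Bool :=
  Nat.beq (wordApply (sgnProg pr) L (2 ^ p)) (2 ^ p)

/-- the check of the image of a point -/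
noncomputable def imgAt (L : List (Gen × Bool)) (q p : ℕ) : Bool :=
  Nat.beq (wordApply (sgnProg pr) L (2 ^ q)) (2 ^ p)

theorem wP_of_imgAt {L : List (Gen × Bool)} {q p : ℕ} (h : imgAt L q p = true) : wP L p = q :=
  wP_apply (Nat.eq_of_beq_eq_true h)

/-- the check that a word moves a point -/
theorem ne_one_of_moved {L : List (Gen × Bool)} {p : ℕ}
    (h : fixAt L p = false) : elt L ≠ 1 := by
  unfold fixAt at h
  intro h1
  have h2 : wP L = 1 := by
    rw [← Phi_elt, h1, map_one]
  have h3 : wordApply (sgnProg pr) L (2 ^ p) = 2 ^ p := by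
    apply Nat.eq_of_testBit_eq
    intro i
    have h2' : wordPerm (sgnProg pr) L = 1 := h2
    rw [testBit_wordApply _ _ L (hvs L), h2']
    rfl
  rw [h3] at h
  simp at h

/-! ### the fixed points -/

theorem fix_high (z : GO) {i : ℕ} (hi : 1539000 ≤ i) : Phi z i = i :=
  fix_above_all hR (fun x => hab x i hi) z

theorem lt_of_image (z : GO) : Phi z 0 < 1539000 := by
  by_contra h
  have h1 := fix_high z (i := Phi z 0) (by omega)
  have h2 := (Phi z).injective h1
  omega

/-- the mask of the moved points -/
noncomputable def movedMask (L : List (Gen × Bool)) : ℕ :=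
  (List.range 21).foldr (fun j D => Nat.lor (Nat.xor (wordApply (sgnProg pr) L (slice 21 j)) (slice 21 j)) D) 0

theorem movedMask_fixed {L : List (Gen × Bool)} {i : ℕ} (hi : wP L i = i) : (movedMask L).testBit i = false := by
  have key : ∀ l : List ℕ,
      (l.foldr (fun j D => Nat.lor (Nat.xor (wordApply (sgnProg pr) L (slice 21 j)) (slice 21 j)) D) 0).testBit i = false := by
    intro l
    induction l with
    | nil => simp
    | cons j l ih =>
      rw [List.foldr_cons]
      have hlor : ∀ a b k : ℕ, (Nat.lor a b).testBit k = (a.testBit k || b.testBit k) := fun a b k => Nat.testBit_or a b k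
      have hxor : ∀ a b k : ℕ, (Nat.xor a b).testBit k = (a.testBit k ^^ b.testBit k) := fun a b k => Nat.testBit_xor a b k
      have hi' : wordPerm (sgnProg pr) L i = i := hi
      rw [hlor, ih, Bool.or_false, hxor, testBit_wordApply _ _ L (hvs L), hi']
      simp
  exact key _

/-- the fixed points of a word are in a mask -/
theorem fixed_mem {L : List (Gen × Bool)} {F : ℕ} (h : Nat.lor (movedMask L) F = 2 ^ 1539000 - 1) {i : ℕ}
    (hlt : i < 1539000) (hi : wP L i = i) : F.testBit i = true := by
  have h1 : (Nat.lor (movedMask L) F).testBit i = true := by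
    rw [h, Nat.testBit_two_pow_sub_one]
    simp [hlt]
  have h2 : (Nat.lor (movedMask L) F).testBit i = ((movedMask L).testBit i || F.testBit i) := Nat.testBit_or _ _ _
  rw [h2, movedMask_fixed hi, Bool.false_or] at h1
  exact h1

/-- the common fixed points of two words are in a mask -/
theorem fixed2_mem {L₁ L₂ : List (Gen × Bool)} {F : ℕ}
    (h : Nat.lor (movedMask L₁) (Nat.lor (movedMask L₂) F) = 2 ^ 1539000 - 1) {i : ℕ}
    (hlt : i < 1539000) (hi : wP L₁ i = i) (hi₂ : wP L₂ i = i) : F.testBit i = true := by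
  have h1 : (Nat.lor (movedMask L₁) (Nat.lor (movedMask L₂) F)).testBit i = true := by
    rw [h, Nat.testBit_two_pow_sub_one]
    simp [hlt]
  have hlor : ∀ a b k : ℕ, (Nat.lor a b).testBit k = (a.testBit k || b.testBit k) := fun a b k => Nat.testBit_or a b k
  rw [hlor, hlor, movedMask_fixed hi, movedMask_fixed hi₂, Bool.false_or, Bool.false_or] at h1
  exact h1

/-- an element commuting with a word fixing `0` sends `0` to a fixed point -/
theorem image_fixed {L : List (Gen × Bool)} {z : GO} (h0 : wP L 0 = 0) (hc : z * elt L = elt L * z) :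
    wP L (Phi z 0) = Phi z 0 := by
  have h1 := congrArg (fun t => Phi t 0) hc
  simp only [map_mul, Equiv.Perm.mul_apply, Phi_elt] at h1
  rw [h0] at h1
  exact h1.symm

/-! ### the stabilizer of `0` -/

theorem mem_HH {z : GO} (h : Phi z 0 = 0) : z ∈ HH := by
  have h1 : betaF HH Phi hfix (z : GO ⧸ HH) = betaF HH Phi hfix ((1 : GO) : GO ⧸ HH) := by
    rw [betaF_mk, betaF_mk, h, map_one]
    rfl
  have h2 := bij.2.1 h1
  have h3 := QuotientGroup.eq.mp h2.symm
  simpa using h3

/-- the signed letters of the subgroup -/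
def gOf (i : ℕ) : Gen × Bool :=
  [(Gen.x, true), (Gen.x, false), (Gen.y, true), (Gen.y, false), (Gen.z, true)].getD i (Gen.x, true)

/-- the word of a list of letters of the subgroup -/
def wH (w : List ℕ) : List (Gen × Bool) := w.map gOf

theorem wH_append (u v : List ℕ) : wH (u ++ v) = wH u ++ wH v := by simp [wH]

theorem elt_wH_mem (w : List ℕ) : elt (wH w) ∈ HH := by
  show PresentedGroup.mk RR (FreeGroup.mk (wH w)) ∈ HH
  rw [Cfsg.Agent.TcData.HN.Fin.hHH]
  apply Cfsg.Agent.Lib.TcAbs.mk_mem_subOf
  intro p hp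
  rw [wH, List.mem_map] at hp
  obtain ⟨i, -, rfl⟩ := hp
  have : ∀ i, (gOf i).1 ∈ Cfsg.Agent.TcData.HNH.Ch.SLt := by
    intro i
    unfold gOf
    rcases Nat.lt_or_ge i 5 with h | h
    · interval_cases i <;> decide
    · rw [List.getD_eq_default _ _ (by simpa using h)]
      decide
  exact this i

end Cfsg.Agent.Lib.HNBase
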