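import Cfsg.Agent.Lib.HNLChk
import Cfsg.Agent.Lib.HNLSt0
import Cfsg.Agent.Lib.HNLSt1
import Cfsg.Agent.Lib.HNLSt2
import Cfsg.Agent.Lib.HNLSt3
import Cfsg.Agent.Lib.HNLSt4
import Cfsg.Agent.Lib.HNLSt5
import Cfsg.Agent.Lib.HNLSt6
import Cfsg.Agent.Lib.HNLSt7

set_option autoImplicit false
set_option maxRecDepth 100000
set_option linter.unusedSectionVars false

/-! Generated file: the chain and the order of the group. -/

namespace Cfsg.Agent.Lib.HNLMain

open Cfsg.Agent.Lib.ChainCert Cfsg.Agent.Lib.ProgBits Cfsg.Agent.Lib.ProgChain Cfsg.Agent.Lib.PermChain Cfsg.Agent.Lib.TcBits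
open Cfsg.Agent.Lib.HNLTab
open Cfsg.Agent.Lib.HNLChk Cfsg.Agent.Lib.HNLSt0 Cfsg.Agent.Lib.HNLSt1 Cfsg.Agent.Lib.HNLSt2 Cfsg.Agent.Lib.HNLSt3 Cfsg.Agent.Lib.HNLSt4 Cfsg.Agent.Lib.HNLSt5 Cfsg.Agent.Lib.HNLSt6 Cfsg.Agent.Lib.HNLSt7

theorem hN : nat_lit 2048 = 2 ^ 11 := by norm_num
theorem hM : M = 2 ^ 1508 - 1 := by decide +kernel
theorem hR : R = repU 2048 11 := by decide +kernel
theorem hY : Y = yId 11 := by decide +kernel
theorem htot : ∀ e, 65 ≤ e → pr e = [] := by
  intro e he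
  rw [pr, show Nat.ble ((nat_lit 65)) e = true from Nat.ble_eq_true_of_le he]
  rfl

/-- the context -/
theorem ctx : Ctx 1508 11 pr R Y :=
  ctx_mk' (N := (nat_lit 2048)) (M := M) (tot := 65) (by norm_num) hN hM hR hY let_all htot

/-- the letters -/
noncomputable abbrev g : ℕ → Equiv.Perm (Fin 1508) := lp pr 1508

theorem hOb7 : Om7.testBit 100 = true := by decide +kernel
theorem hroot7 : tw7 100 = [] := by decide +kernel
theorem lev7 : (∀ e, 63 ≤ e → g e ∈ grp g 63 2) ∧
    Level (grp g 63 2) (grp g 65 0) ⟨100, by norm_num⟩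
      (fun p => prodW g (tw7 p.val)) (orbF 1508 Om7) :=
  level_bundle ctx (lo := 63) (ns := 2) (hi := 65) (ns' := 0) (b := 100) (Om := Om7) (tw := tw7) (st := stE7) (der := derT) (wA := certA) (wB := certB) (by norm_num)
    der7_all cert7_all fix7_all img7_all hOb7 hroot7 st7_all (letters_bottom ctx htot)
theorem cOm7 : (orbF 1508 Om7).card = 2 := by
  rw [card_orbF]; decide +kernel
theorem hOb6 : Om6.testBit 17 = true := by decide +kernel
theorem hroot6 : tw6 17 = [] := by decide +kernel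
theorem lev6 : (∀ e, 61 ≤ e → g e ∈ grp g 61 2) ∧
    Level (grp g 61 2) (grp g 63 2) ⟨17, by norm_num⟩
      (fun p => prodW g (tw6 p.val)) (orbF 1508 Om6) :=
  level_bundle ctx (lo := 61) (ns := 2) (hi := 63) (ns' := 2) (b := 17) (Om := Om6) (tw := tw6) (st := stE6) (der := derT) (wA := certA) (wB := certB) (by norm_num)
    der6_all cert6_all fix6_all img6_all hOb6 hroot6 st6_all (lev7).1
theorem cOm6 : (orbF 1508 Om6).card = 2 := by
  rw [card_orbF]; decide +kernel
theorem hOb5 : Om5.testBit 71 = true := by decide +kernel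
theorem hroot5 : tw5 71 = [] := by decide +kernel
theorem lev5 : (∀ e, 59 ≤ e → g e ∈ grp g 59 2) ∧
    Level (grp g 59 2) (grp g 61 2) ⟨71, by norm_num⟩
      (fun p => prodW g (tw5 p.val)) (orbF 1508 Om5) :=
  level_bundle ctx (lo := 59) (ns := 2) (hi := 61) (ns' := 2) (b := 71) (Om := Om5) (tw := tw5) (st := stE5) (der := derT) (wA := certA) (wB := certB) (by norm_num)
    der5_all cert5_all fix5_all img5_all hOb5 hroot5 st5_all (lev6).1
theorem cOm5 : (orbF 1508 Om5).card = 3 := by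
  rw [card_orbF]; decide +kernel
theorem hOb4 : Om4.testBit 36 = true := by decide +kernel
theorem hroot4 : tw4 36 = [] := by decide +kernel
theorem lev4 : (∀ e, 51 ≤ e → g e ∈ grp g 51 2) ∧
    Level (grp g 51 2) (grp g 59 2) ⟨36, by norm_num⟩
      (fun p => prodW g (tw4 p.val)) (orbF 1508 Om4) :=
  level_bundle ctx (lo := 51) (ns := 2) (hi := 59) (ns' := 2) (b := 36) (Om := Om4) (tw := tw4) (st := stE4) (der := derT) (wA := certA) (wB := certB) (by norm_num)
    der4_all cert4_all fix4_all img4_all hOb4 hroot4 st4_all (lev5).1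
theorem cOm4 : (orbF 1508 Om4).card = 16 := by
  rw [card_orbF]; decide +kernel
theorem hOb3 : Om3.testBit 24 = true := by decide +kernel
theorem hroot3 : tw3 24 = [] := by decide +kernel
theorem lev3 : (∀ e, 42 ≤ e → g e ∈ grp g 42 2) ∧
    Level (grp g 42 2) (grp g 51 2) ⟨24, by norm_num⟩
      (fun p => prodW g (tw3 p.val)) (orbF 1508 Om3) :=
  level_bundle ctx (lo := 42) (ns := 2) (hi := 51) (ns' := 2) (b := 24) (Om := Om3) (tw := tw3) (st := stE3) (der := derT) (wA := certA) (wB := certB) (by norm_num)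
    der3_all cert3_all fix3_all img3_all hOb3 hroot3 st3_all (lev4).1
theorem cOm3 : (orbF 1508 Om3).card = 20 := by
  rw [card_orbF]; decide +kernel
theorem hOb2 : Om2.testBit 11 = true := by decide +kernel
theorem hroot2 : tw2 11 = [] := by decide +kernel
theorem lev2 : (∀ e, 32 ≤ e → g e ∈ grp g 32 2) ∧
    Level (grp g 32 2) (grp g 42 2) ⟨11, by norm_num⟩
      (fun p => prodW g (tw2 p.val)) (orbF 1508 Om2) :=
  level_bundle ctx (lo := 32) (ns := 2) (hi := 42) (ns' := 2) (b := 11) (Om := Om2) (tw := tw2) (st := stE2) (der := derT) (wA := certA) (wB := certB) (by norm_num)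
    der2_all cert2_all fix2_all img2_all hOb2 hroot2 st2_all (lev3).1
theorem cOm2 : (orbF 1508 Om2).card = 21 := by
  rw [card_orbF]; decide +kernel
theorem hOb1 : Om1.testBit 8 = true := by decide +kernel
theorem hroot1 : tw1 8 = [] := by decide +kernel
theorem lev1 : (∀ e, 22 ≤ e → g e ∈ grp g 22 2) ∧
    Level (grp g 22 2) (grp g 32 2) ⟨8, by norm_num⟩
      (fun p => prodW g (tw1 p.val)) (orbF 1508 Om1) :=
  level_bundle ctx (lo := 22) (ns := 2) (hi := 32) (ns' := 2) (b := 8) (Om := Om1) (tw := tw1) (st := stE1) (der := derT) (wA := certA) (wB := certB) (by norm_num)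
    der1_all cert1_all fix1_all img1_all hOb1 hroot1 st1_all (lev2).1
theorem cOm1 : (orbF 1508 Om1).card = 22 := by
  rw [card_orbF]; decide +kernel
theorem hOb0 : Om0.testBit 0 = true := by decide +kernel
theorem hroot0 : tw0 0 = [] := by decide +kernel
theorem lev0 : (∀ e, 0 ≤ e → g e ∈ grp g 0 5) ∧
    Level (grp g 0 5) (grp g 22 2) ⟨0, by norm_num⟩
      (fun p => prodW g (tw0 p.val)) (orbF 1508 Om0) :=
  level_bundle ctx (lo := 0) (ns := 5) (hi := 22) (ns' := 2) (b := 0) (Om := Om0) (tw := tw0) (st := stE0) (der := derT) (wA := certA) (wB := certB) (by norm_num)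
    der0_all cert0_all fix0_all img0_all hOb0 hroot0 st0_all (lev1).1
theorem cOm0 : (orbF 1508 Om0).card = 100 := by
  rw [card_orbF]; decide +kernel
theorem cardH8 : Nat.card (grp g 65 0) = 1 := by
  rw [grp_zero]; simp
theorem cardH7 : Nat.card (grp g 63 2) = 2 := by
  rw [(lev7).2.card, cOm7, cardH8]
theorem cardH6 : Nat.card (grp g 61 2) = 4 := by
  rw [(lev6).2.card, cOm6, cardH7]
theorem cardH5 : Nat.card (grp g 59 2) = 12 := by
  rw [(lev5).2.card, cOm5, cardH6]
theorem cardH4 : Nat.card (grp g 51 2) = 192 := by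
  rw [(lev4).2.card, cOm4, cardH5]
theorem cardH3 : Nat.card (grp g 42 2) = 3840 := by
  rw [(lev3).2.card, cOm3, cardH4]
theorem cardH2 : Nat.card (grp g 32 2) = 80640 := by
  rw [(lev2).2.card, cOm2, cardH3]
theorem cardH1 : Nat.card (grp g 22 2) = 1774080 := by
  rw [(lev1).2.card, cOm1, cardH2]
theorem cardH0 : Nat.card (grp g 0 5) = 177408000 := by
  rw [(lev0).2.card, cOm0, cardH1]

end Cfsg.Agent.Lib.HNLMain
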